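import Cfsg.Agent.Lib.SympOrthElts73

/-!
Elements of order a product of two primes in `PΩ(2n+1, q)` and `PSp(2n, q)`, `q` odd.
-/

set_option autoImplicit false
set_option linter.unusedSectionVars false
set_option linter.style.haveILetI false

namespace Cfsg.Agent.SympOrthGraph73

open QuadraticMap
open Cfsg Cfsg.Agent.OrthUnitaryQuad Cfsg.Agent.OrthUnitaryRefl Cfsg.Agent.OrthUnitaryOmega

variable {F : Type*} [Field F] [Fintype F]

theorem orderOf_pair {A B G : Type*} [Group A] [Group B] [Group G] (ι : A × B →* G)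
    (hι : Function.Injective ι) {a : A} {b : B} (hc : (orderOf a).Coprime (orderOf b)) :
    orderOf (ι (a, b)) = orderOf a * orderOf b := by
  rw [orderOf_injective ι hι, Prod.orderOf_mk, hc.lcm_eq_mul]

section Targets

variable {V : Type*} [AddCommGroup V] [Module F V] [FiniteDimensional F V]
  {ω : V →ₗ[F] V →ₗ[F] F} {Q : QuadraticForm F V} {k l n : ℕ}

theorem sp_of_elt (hω : IsSymp ω) (hd : Module.finrank F V = 2 * k) (hn : k + l = n) (a : spG ω) :
    (∃ g : SG F n, orderOf g = orderOf a) ∧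
    ∀ p : ℕ, p.Prime → (p : F) = 0 → 1 ≤ l → (orderOf a).Coprime p →
      ∃ g : SG F n, orderOf g = p * orderOf a := by
  obtain ⟨ι, hι, -⟩ := sp_embed hω hd hn
  refine ⟨⟨ι (a, 1), ?_⟩, fun p hp hpF hl hco => ?_⟩
  · rw [orderOf_pair ι hι (by simp), orderOf_one, mul_one]
  · haveI := Fact.mk hp
    obtain ⟨u, hu⟩ := exists_sp_order_p hpF hl
    exact ⟨ι (a, u), by rw [orderOf_pair ι hι (by rwa [hu]), hu, mul_comm]⟩

theorem orth_of_elt (h2 : (2 : F) ≠ 0) (hQ : (polarBilin Q).Nondegenerate)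
    (hd : Module.finrank F V = 2 * k) (hn : k + l = n) (a : orth Q) :
    (∃ g : OG F n, orderOf g = orderOf a) ∧
    ∀ p : ℕ, p.Prime → (p : F) = 0 → 1 ≤ l → (orderOf a).Coprime p →
      ∃ g : OG F n, orderOf g = p * orderOf a := by
  obtain ⟨ι, hι, -⟩ := orth_embed h2 hQ hd hn
  refine ⟨⟨ι (a, 1), ?_⟩, fun p hp hpF hl hco => ?_⟩
  · rw [orderOf_pair ι hι (by simp), orderOf_one, mul_one]
  · haveI := Fact.mk hp
    obtain ⟨u, hu⟩ := exists_orth_order_p hpF hl
    exact ⟨ι (a, u), by rw [orderOf_pair ι hι (by rwa [hu]), hu, mul_comm]⟩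

theorem sp_two_small (h2 : (2 : F) ≠ 0) (hω : IsSymp ω) (hd : Module.finrank F V = 2 * k)
    (hn : k + l = n) (hl : 1 ≤ l) {a : spG ω} (ha : a ≠ 1) :
    SpTwo F n (orderOf a) := by
  obtain ⟨ι, hι, hneg⟩ := sp_embed hω hd hn
  haveI : Nontrivial V := by
    by_contra h
    rw [not_nontrivial_iff_subsingleton] at h
    exact ha (Subtype.ext (LinearEquiv.ext fun x => Subsingleton.elim _ _))
  haveI : Nonempty (Fin l) := ⟨⟨0, hl⟩⟩
  refine ⟨ι (a, 1), ι (1, negS _), by rw [orderOf_pair ι hι (by simp), orderOf_one, mul_one],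
    (Commute.prod (Commute.one_right a) (Commute.one_left _)).map ι, Or.inl ?_, fun h => ?_, fun h => ?_⟩
  · rw [← map_mul, Prod.mk_mul_mk, one_mul, negS_sq]; exact map_one ι
  · exact negS_ne_one h2 (stdForm F l) (congrArg Prod.snd (hι (h.trans (map_one ι).symm)))
  · exact negS_ne_one h2 ω (congrArg Prod.fst (hι (h.trans hneg.symm))).symm

theorem orth_two_small (h2 : (2 : F) ≠ 0) (hQ : (polarBilin Q).Nondegenerate)
    (hd : Module.finrank F V = 2 * k) (hn : k + l = n) (hl : 1 ≤ l) (a : orth Q) :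
    OTwo F n (orderOf a) := by
  obtain ⟨ι, hι, -⟩ := orth_embed h2 hQ hd hn
  obtain ⟨t, htt, ht1, htc⟩ := exists_comm_invol h2 hl
  refine ⟨ι (a, 1), ι (1, t), by rw [orderOf_pair ι hι (by simp), orderOf_one, mul_one],
    (Commute.prod (Commute.one_right a) (Commute.one_left _)).map ι, ?_, fun h => ?_, ?_⟩
  · rw [← map_mul, Prod.mk_mul_mk, one_mul, htt]; exact map_one ι
  · exact ht1 (congrArg Prod.snd (hι (h.trans (map_one ι).symm)))
  · exact (QuotientGroup.eq_one_iff _).1 (Abelianization.commutator_subset_ker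
      (Abelianization.of.comp (ι.comp (MonoidHom.inr _ _))) htc)

theorem sp_two_full (hω : IsSymp ω) (hd : Module.finrank F V = 2 * n) {a h : spG ω}
    (hah : Commute a h) (hh : h * h = 1 ∨ h * h = negS ω) (h1 : h ≠ 1) (hm : h ≠ negS ω) :
    SpTwo F n (orderOf a) := by
  obtain ⟨ι, hι, hneg⟩ := sp_embed hω hd (l := 0) (add_zero n)
  have h01 : negS (stdForm F 0) = 1 := Subtype.ext (LinearEquiv.ext fun x => Subsingleton.elim _ _)
  rw [h01] at hneg
  refine ⟨ι (a, 1), ι (h, 1), by rw [orderOf_pair ι hι (by simp), orderOf_one, mul_one],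
    (Commute.prod hah (Commute.one_left _)).map ι, ?_, fun e => ?_, fun e => ?_⟩
  · rw [← map_mul, Prod.mk_mul_mk, mul_one]
    exact hh.imp (fun e => by rw [e]; exact map_one ι) (fun e => by rw [e]; exact hneg)
  · exact h1 (congrArg Prod.fst (hι (e.trans (map_one ι).symm)))
  · exact hm (congrArg Prod.fst (hι (e.trans hneg.symm)))

theorem orth_two_full (h2 : (2 : F) ≠ 0) (hn1 : 1 ≤ n) (hω : IsSymp ω)
    (hQ : (polarBilin Q).Nondegenerate) (hd : Module.finrank F V = 2 * n) {a h : orth Q}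
    (hah : Commute a h) (hdet : h.1 ∈ spG ω) (hm : OrthUnitaryCentre.negOne Q ≠ 1)
    (hh : h * h = 1 ∨ h * h = OrthUnitaryCentre.negOne Q) (h1 : h ≠ 1)
    (hne : h ≠ OrthUnitaryCentre.negOne Q) : OTwo F n (orderOf a) := by
  obtain ⟨ι, hι, hdetι⟩ := orth_embed h2 hQ hd (l := 0) (add_zero n)
  let j : orth Q →* OG F n := ι.comp (MonoidHom.inl _ _)
  have hj : Function.Injective j := hι.comp fun _ _ e => congrArg Prod.fst e
  set m := OrthUnitaryCentre.negOne Q
  have hmm : m * m = 1 := orth_ext fun x => neg_neg x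
  have hcm : ∀ b : orth Q, Commute b m := fun b => orth_ext fun x => map_neg b.1 x
  have hdet1 : ∀ b : orth Q, b.1 ∈ spG ω → detHom _ (j b) = 1 := fun b hb => by
    rw [show j b = ι (b, 1) from rfl, hdetι, map_one, mul_one]
    exact det_eq_one hω hb
  have hmω : m.1 ∈ spG ω := fun u v => by
    rw [OrthUnitaryCentre.negOne_apply, OrthUnitaryCentre.negOne_apply]; simp
  have hreg := isReg_of_nondegenerate (qfOdd_nondeg h2 n)
  have hmem := (odd_main h2 hreg).1
  have key : ∀ b : orth Q, Commute a b → b * b = 1 → b ≠ 1 → b.1 ∈ spG ω →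
      theta _ (j b) = 1 → OTwo F n (orderOf a) := fun b hab hbb hb1 hbω hbt =>
    ⟨j a, j b, orderOf_injective j hj a, hab.map j, by rw [← map_mul, hbb, map_one],
      fun e => hb1 (hj (e.trans (map_one j).symm)), (hmem _).2 ⟨hdet1 b hbω, hbt⟩⟩
  rcases hh with hh | hh
  · rcases Int.units_eq_one_or (theta _ (j h)) with ht | ht
    · exact key h hah hh h1 hdet ht
    rcases Int.units_eq_one_or (theta _ (j m)) with ht' | ht'
    · exact key m (hcm a) hmm hm hmω ht'
    refine key (h * m) (hah.mul_right (hcm a)) ?_ ?_ (mul_mem hdet hmω) ?_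
    · rw [(hcm h).symm.mul_mul_mul_comm, hh, hmm, one_mul]
    · exact fun e => hne ((mul_eq_one_iff_eq_inv.1 e).trans (inv_eq_of_mul_eq_one_right hmm))
    · rw [map_mul, map_mul, ht, ht']; rfl
  · refine key m (hcm a) hmm hm hmω ?_
    rw [← hh, map_mul, map_mul, Int.units_mul_self]

end Targets

/-! ### The transfer -/

theorem orderOf_resW_self {V : Type*} [AddCommGroup V] [Module F V] {X : V ≃ₗ[F] V}
    (hc : IsCompl (movS X) (fixS X)) : orderOf (resW X (selfC X)) = orderOf X :=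
  (orderOf_resW hc (resK_self X)).trans (Subgroup.orderOf_coe (selfC X)).symm

variable {n r s : ℕ}

theorem cast_ne {p : ℕ} [CharP F p] (hp : p.Prime) (hs : s.Prime) (hsp : s ≠ p) :
    (s : F) ≠ 0 := fun h =>
  hsp ((Nat.prime_dvd_prime_iff_eq hp hs).1 ((CharP.cast_eq_zero_iff F p s).1 h)).symm

theorem odd_sp_to_orth {p : ℕ} [CharP F p] (hp : p.Prime) (h2 : (2 : F) ≠ 0) (hr : r.Prime)
    (hs : s.Prime) (hrs : r ≠ s) (hr2 : r ≠ 2) (hs2 : s ≠ 2) (hsp : s ≠ p)
    (h : ∃ g : SG F n, orderOf g = r * s) : ∃ g : OG F n, orderOf g = r * s := by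
  obtain ⟨g, hg⟩ := h
  have hdn : Module.finrank F (Fin n ⊕ Fin n → F) = 2 * n := by
    rw [Module.finrank_fintype_fun_eq_card, Fintype.card_sum, Fintype.card_fin, two_mul]
  have hgo : orderOf g.1 = r * s := by rw [Subgroup.orderOf_coe, hg]
  by_cases hrp : r = p
  · subst hrp
    set X := g.1 ^ r
    have hXo : orderOf X = s := by
      rw [orderOf_pow_of_dvd hr.ne_zero (hgo ▸ dvd_mul_right r s), hgo,
        Nat.mul_div_cancel_left _ hr.pos]
    have hX : X ^ s = 1 := by rw [← hXo, pow_orderOf_eq_one]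
    have hsF := cast_ne (F := F) hp hs hsp
    obtain ⟨D⟩ := nonempty_transfer_sp (isSymp_std (F := F) n) (pow_mem g.2 r) hX
      (hs.odd_of_ne_two hs2) hsF
    obtain ⟨k, hk⟩ := exists_dim D.symp
    have hsum := finrank_add (X := X)
    rw [hk, hdn] at hsum
    have hc := isCompl hX hsF
    rcases Nat.eq_zero_or_pos (n - k) with hkn | hkn
    · obtain rfl : k = n := by omega
      let gc : cen X := ⟨g.1, (mem_cen X).2 (Commute.pow_right rfl r)⟩
      haveI : Subsingleton (fixS X) := Module.finrank_zero_iff.1 (by omega : Module.finrank F (fixS X) = 0)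
      obtain ⟨u, hu⟩ := (orth_of_elt h2 D.nondeg hk (add_zero k) (D.toOrth gc g.2)).1
      refine ⟨u, hu.trans ?_⟩
      exact (D.orderOf_toOrth _ _).trans ((orderOf_resW hc (g := gc)
        (LinearEquiv.ext fun x => Subsingleton.elim _ _)).trans
        ((Subgroup.orderOf_coe gc).symm.trans hgo))
    · have hao : orderOf (D.toOrth (selfC X) (pow_mem g.2 r)) = s := by
        exact (D.orderOf_toOrth _ _).trans ((orderOf_resW_self hc).trans hXo)
      obtain ⟨u, hu⟩ := (orth_of_elt h2 D.nondeg hk (show k + (n - k) = n by omega) _).2 r hr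
        (CharP.cast_eq_zero F r) hkn (hao ▸ (Nat.coprime_primes hs hr).2 hrs.symm)
      exact ⟨u, hu.trans (by rw [hao])⟩
  · have hX : g.1 ^ (r * s) = 1 := by rw [← hgo, pow_orderOf_eq_one]
    have hMF : ((r * s : ℕ) : F) ≠ 0 := by
      rw [Nat.cast_mul]; exact mul_ne_zero (cast_ne hp hr hrp) (cast_ne hp hs hsp)
    obtain ⟨D⟩ := nonempty_transfer_sp (isSymp_std (F := F) n) g.2 hX
      ((hr.odd_of_ne_two hr2).mul (hs.odd_of_ne_two hs2)) hMF
    obtain ⟨k, hk⟩ := exists_dim D.symp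
    have hsum := finrank_add (X := g.1)
    rw [hk, hdn] at hsum
    obtain ⟨u, hu⟩ := (orth_of_elt h2 D.nondeg hk (show k + (n - k) = n by omega)
      (D.toOrth (selfC g.1) g.2)).1
    refine ⟨u, hu.trans ?_⟩
    exact (D.orderOf_toOrth _ _).trans ((orderOf_resW_self (isCompl hX hMF)).trans hgo)

theorem odd_orth_to_sp {p : ℕ} [CharP F p] (hp : p.Prime) (h2 : (2 : F) ≠ 0) (hn : 1 ≤ n)
    (hr : r.Prime) (hs : s.Prime) (hrs : r ≠ s) (hr2 : r ≠ 2) (hs2 : s ≠ 2) (hsp : s ≠ p)
    (h : ∃ g : OG F n, orderOf g = r * s) : ∃ g : SG F n, orderOf g = r * s := by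
  obtain ⟨g, hg⟩ := h
  have hdn := finrank_odd (F := F) n
  have hnd := qfOdd_nondeg (F := F) h2 n
  have hgo : orderOf g.1 = r * s := by rw [Subgroup.orderOf_coe, hg]
  have hodd := (hr.odd_of_ne_two hr2).mul (hs.odd_of_ne_two hs2)
  by_cases hrp : r = p
  · subst hrp
    set X := g.1 ^ r
    have hXo : orderOf X = s := by
      rw [orderOf_pow_of_dvd hr.ne_zero (hgo ▸ dvd_mul_right r s), hgo,
        Nat.mul_div_cancel_left _ hr.pos]
    have hX : X ^ s = 1 := by rw [← hXo, pow_orderOf_eq_one]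
    have hsF := cast_ne (F := F) hp hs hsp
    obtain ⟨D⟩ := nonempty_transfer_orth hnd (pow_mem g.2 r) hX (hs.odd_of_ne_two hs2) hsF
    obtain ⟨k, hk⟩ := exists_dim D.symp
    have hsum := finrank_add (X := X)
    rw [hk, hdn] at hsum
    have hc := isCompl hX hsF
    rcases Nat.eq_zero_or_pos (n - k) with hkn | hkn
    · obtain rfl : k = n := by omega
      let gc : cen X := ⟨g.1, (mem_cen X).2 (Commute.pow_right rfl r)⟩
      have hK : resK X gc = 1 := by
        refine eq_one_of_det (by omega : Module.finrank F (fixS X) = 1) _ ?_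
        have hdet : LinearEquiv.det g.1 = 1 :=
          (((odd_main h2 (isReg_of_nondegenerate hnd)).1 g).1
            (mem_comm_of_odd h2 hnd (by omega) (hg ▸ hodd))).1
        have h := det_res hc gc
        rw [det_eq_one D.symp (D.memSp gc g.2), one_mul] at h
        exact h.symm.trans hdet
      obtain ⟨u, hu⟩ := (sp_of_elt D.symp hk (add_zero k) (D.toSp gc g.2)).1
      refine ⟨u, hu.trans ?_⟩
      exact (D.orderOf_toSp _ _).trans ((orderOf_resW hc hK).trans
        ((Subgroup.orderOf_coe gc).symm.trans hgo))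
    · have hao : orderOf (D.toSp (selfC X) (pow_mem g.2 r)) = s := by
        exact (D.orderOf_toSp _ _).trans ((orderOf_resW_self hc).trans hXo)
      obtain ⟨u, hu⟩ := (sp_of_elt D.symp hk (show k + (n - k) = n by omega) _).2 r hr
        (CharP.cast_eq_zero F r) hkn (hao ▸ (Nat.coprime_primes hs hr).2 hrs.symm)
      exact ⟨u, hu.trans (by rw [hao])⟩
  · have hX : g.1 ^ (r * s) = 1 := by rw [← hgo, pow_orderOf_eq_one]
    have hMF : ((r * s : ℕ) : F) ≠ 0 := by
      rw [Nat.cast_mul]; exact mul_ne_zero (cast_ne hp hr hrp) (cast_ne hp hs hsp)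
    obtain ⟨D⟩ := nonempty_transfer_orth hnd g.2 hX hodd hMF
    obtain ⟨k, hk⟩ := exists_dim D.symp
    have hsum := finrank_add (X := g.1)
    rw [hk, hdn] at hsum
    obtain ⟨u, hu⟩ := (sp_of_elt D.symp hk (show k + (n - k) = n by omega)
      (D.toSp (selfC g.1) g.2)).1
    refine ⟨u, hu.trans ?_⟩
    exact (D.orderOf_toSp _ _).trans ((orderOf_resW_self (isCompl hX hMF)).trans hgo)

theorem two_sp_to_orth (h2 : (2 : F) ≠ 0) (hn : 1 ≤ n) (hs : s.Prime) (hs2 : s ≠ 2)
    (hsF : (s : F) ≠ 0) (h : SpTwo F n s) : OTwo F n s := by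
  obtain ⟨x, h, hx, hxh, hhh, h1, hm⟩ := h
  have hxo : orderOf x.1 = s := by rw [Subgroup.orderOf_coe, hx]
  have hX : x.1 ^ s = 1 := by rw [← hxo, pow_orderOf_eq_one]
  obtain ⟨D⟩ := nonempty_transfer_sp (isSymp_std (F := F) n) x.2 hX (hs.odd_of_ne_two hs2) hsF
  have hc := isCompl hX hsF
  obtain ⟨k, hk⟩ := exists_dim D.symp
  have hsum := finrank_add (X := x.1)
  rw [hk, Module.finrank_fintype_fun_eq_card, Fintype.card_sum, Fintype.card_fin] at hsum
  have hao : orderOf (D.toOrth (selfC x.1) x.2) = s := by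
    exact (D.orderOf_toOrth _ _).trans ((orderOf_resW_self hc).trans hxo)
  rcases Nat.eq_zero_or_pos (n - k) with hkn | hkn
  · obtain rfl : k = n := by omega
    haveI : Subsingleton (fixS x.1) :=
      Module.finrank_zero_iff.1 (by omega : Module.finrank F (fixS x.1) = 0)
    have hhc : h.1 ∈ cen x.1 := (mem_cen _).2 (hxh.symm.map (SG F k).subtype)
    let hC : cen x.1 := ⟨h.1, hhc⟩
    let mC : cen x.1 := ⟨(negS (stdForm F k)).1,
      (mem_cen _).2 (LinearEquiv.ext fun v => (map_neg x.1 v).symm)⟩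
    have hext : ∀ a b : cen x.1, resW x.1 a = resW x.1 b → a = b := fun a b e =>
      eq_of_res hc e (LinearEquiv.ext fun v => Subsingleton.elim _ _)
    have hmW : resW x.1 mC = (OrthUnitaryCentre.negOne D.Q).1 :=
      LinearEquiv.ext fun v => Subtype.ext rfl
    rw [← hao]
    refine orth_two_full h2 hn D.symp D.nondeg hk (h := D.toOrth hC h.2)
      (Subtype.ext (resW_commute x.1 hC).symm) (D.memSp hC h.2) (fun e => ?_) ?_ (fun e => ?_) (fun e => ?_)
    · have hm1 := hext mC 1 (by rw [hmW, e, map_one]; rfl)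
      haveI : Nonempty (Fin k) := ⟨⟨0, hn⟩⟩
      exact negS_ne_one h2 (stdForm F k) (Subtype.ext (congrArg Subtype.val hm1 :))
    · rcases hhh with e | e
      · left
        refine Subtype.ext ?_
        show resW x.1 hC * resW x.1 hC = _
        rw [← map_mul, show hC * hC = 1 from Subtype.ext (congrArg Subtype.val e :), map_one]; rfl
      · right
        refine Subtype.ext ?_
        show resW x.1 hC * resW x.1 hC = _
        rw [← map_mul, show hC * hC = mC from Subtype.ext (congrArg Subtype.val e :), hmW]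
    · have := hext hC 1 (by rw [map_one]; exact congrArg Subtype.val e)
      exact h1 (Subtype.ext (congrArg Subtype.val this :))
    · have := hext hC mC (by rw [hmW]; exact congrArg Subtype.val e)
      exact hm (Subtype.ext (congrArg Subtype.val this :))
  · rw [← hao]
    exact orth_two_small h2 D.nondeg hk (show k + (n - k) = n by omega) hkn _

theorem two_orth_to_sp (h2 : (2 : F) ≠ 0) (hn : 1 ≤ n) (hs : s.Prime) (hs2 : s ≠ 2)
    (hsF : (s : F) ≠ 0) (h : OTwo F n s) : SpTwo F n s := by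
  obtain ⟨x, t, hx, hxt, htt, ht1, htc⟩ := h
  have hnd := qfOdd_nondeg (F := F) h2 n
  have hmem := (odd_main h2 (isReg_of_nondegenerate hnd)).1
  have hxo : orderOf x.1 = s := by rw [Subgroup.orderOf_coe, hx]
  have hX : x.1 ^ s = 1 := by rw [← hxo, pow_orderOf_eq_one]
  have hso := hs.odd_of_ne_two hs2
  obtain ⟨D⟩ := nonempty_transfer_orth hnd x.2 hX hso hsF
  have hc := isCompl hX hsF
  obtain ⟨k, hk⟩ := exists_dim D.symp
  have hsum := finrank_add (X := x.1)
  rw [hk, finrank_odd] at hsum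
  have hao : orderOf (D.toSp (selfC x.1) x.2) = s := by
    exact (D.orderOf_toSp _ _).trans ((orderOf_resW_self hc).trans hxo)
  have hne : D.toSp (selfC x.1) x.2 ≠ 1 := fun e => hs.ne_one (by rw [← hao, e, orderOf_one])
  rcases Nat.eq_zero_or_pos (n - k) with hkn | hkn
  · obtain rfl : k = n := by omega
    have hK : ∀ (g : OG F k) (hg : g.1 ∈ cen x.1), detHom _ g = 1 → resK x.1 ⟨g.1, hg⟩ = 1 := by
      intro g hg hdet
      refine eq_one_of_det (by omega : Module.finrank F (fixS x.1) = 1) _ ?_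
      have h := det_res hc ⟨g.1, hg⟩
      rw [det_eq_one D.symp (D.memSp ⟨g.1, hg⟩ g.2), one_mul] at h
      exact h.symm.trans hdet
    have hext : ∀ (g g' : OG F k) (hg : g.1 ∈ cen x.1) (hg' : g'.1 ∈ cen x.1), detHom _ g = 1 →
        detHom _ g' = 1 → resW x.1 ⟨g.1, hg⟩ = resW x.1 ⟨g'.1, hg'⟩ → g = g' :=
      fun g g' hg hg' d d' e => by
        have h := eq_of_res hc e (by rw [hK g hg d, hK g' hg' d'])
        exact Subtype.ext (congrArg Subtype.val h :)
    have htC : t.1 ∈ cen x.1 := (mem_cen _).2 (hxt.symm.map (OG F k).subtype)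
    have htd : detHom _ t = 1 := ((hmem t).1 htc).1
    have h1C : (1 : OG F k).1 ∈ cen x.1 := one_mem _
    rw [← hao]
    set a := D.toSp (selfC x.1) x.2
    let T := D.toSp ⟨t.1, htC⟩ t.2
    have hTT : T * T = 1 := by
      refine Subtype.ext ?_
      show resW x.1 ⟨t.1, htC⟩ * resW x.1 ⟨t.1, htC⟩ = _
      rw [← map_mul, show (⟨t.1, htC⟩ : cen x.1) * ⟨t.1, htC⟩ = 1 from
        Subtype.ext (congrArg Subtype.val htt :), map_one]; rfl
    have hcomm : ∀ (g : OG F k) (hg : g.1 ∈ cen x.1), Commute a (D.toSp ⟨g.1, hg⟩ g.2) :=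
      fun g hg => Subtype.ext (resW_commute x.1 ⟨g.1, hg⟩).symm
    by_cases hTm : T ≠ negS D.ω
    · refine sp_two_full D.symp hk (hcomm t htC) (Or.inl hTT) (fun e => ht1 ?_) hTm
      exact hext t 1 htC h1C htd (map_one _) (congrArg Subtype.val e)
    rw [not_not] at hTm
    have hxs : x ^ s = 1 := by rw [← hx, pow_orderOf_eq_one]
    have hcard : Fintype.card F ≠ 2 := fun e => by
      have := OrthUnitaryOmega.card_mod_two h2; omega
    obtain ⟨u, hud, huc, hux⟩ := OrthSemisimpleSpinor.exists_spinor h2 hnd (Or.inl hcard) x hso hsF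
      hxs (fun e => hs.ne_one (by rw [← hx, e, orderOf_one]))
    have huC : u.1 ∈ cen x.1 := (mem_cen _).2 (LinearEquiv.ext hux)
    haveI := finite_orth (SymplecticNotOrth.qfOdd F k)
    obtain ⟨e, m, hm, hN⟩ := Nat.exists_eq_two_pow_mul_odd (orderOf_pos u).ne'
    set v := u ^ m
    have hvo : orderOf v = 2 ^ e := by
      rw [orderOf_pow_of_dvd hm.pos.ne' (hN ▸ dvd_mul_left m (2 ^ e)), hN,
        Nat.mul_div_cancel _ hm.pos]
    have hvC : v.1 ∈ cen x.1 := pow_mem huC m
    have hvd : detHom _ v = 1 := by rw [map_pow, hud, one_pow]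
    have hvc : v ∉ commutator (OG F k) := fun hv => huc ((hmem u).2 ⟨hud, by
      obtain ⟨j, rfl⟩ := hm
      have := ((hmem _).1 hv).2
      rwa [map_pow, pow_succ, pow_mul, pow_two, Int.units_mul_self, one_pow, one_mul] at this⟩)
    let W := D.toSp ⟨v.1, hvC⟩ v.2
    have hWo : orderOf W = 2 ^ e := by
      exact (D.orderOf_toSp _ _).trans ((orderOf_resW hc (hK v hvC hvd)).trans
        ((Subgroup.orderOf_coe _).symm.trans ((Subgroup.orderOf_coe v).trans hvo)))
    have hav := hcomm v hvC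
    rcases e with _ | e
    · exact absurd (by rw [orderOf_eq_one_iff.1 (hvo.trans (pow_zero 2))]; exact one_mem _) hvc
    rcases e with _ | e
    · have hWW : W * W = 1 := by rw [← pow_two, ← pow_one 2, ← hWo, pow_orderOf_eq_one]
      refine sp_two_full D.symp hk hav (Or.inl hWW) (fun h => ?_) (fun h => hvc ?_)
      · rw [show W = 1 from h, orderOf_one] at hWo; norm_num at hWo
      · rwa [hext v t hvC htC hvd htd (congrArg Subtype.val (h.trans hTm.symm))]
    set R := W ^ 2 ^ e
    have hR4 : orderOf R = 4 := by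
      rw [orderOf_pow_of_dvd (by positivity) (hWo ▸ Nat.pow_dvd_pow 2 (by omega)), hWo,
        pow_add, pow_add, Nat.mul_assoc, Nat.mul_div_cancel_left _ (by positivity)]
      norm_num
    have hR2 : R * R ≠ 1 := fun h => by
      have := orderOf_dvd_of_pow_eq_one (x := R) (n := 2) (by rwa [pow_two])
      rw [hR4] at this; norm_num at this
    have haR : Commute a R := hav.pow_right _
    by_cases hRm : R * R = negS D.ω
    · refine sp_two_full D.symp hk haR (Or.inr hRm) (fun h => ?_) (fun h => ?_)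
      · exact hR2 (by rw [h, one_mul])
      · exact hR2 (by rw [h, negS_sq])
    · refine sp_two_full D.symp hk (haR.mul_right haR) (Or.inl ?_) hR2 hRm
      rw [← pow_two, ← pow_two, ← pow_mul, show 2 * 2 = orderOf R from hR4.symm, pow_orderOf_eq_one]
  · rw [← hao]
    exact sp_two_small h2 D.symp hk (show k + (n - k) = n by omega) hkn hne

theorem two_char (h2 : (2 : F) ≠ 0) (hn : 3 ≤ n) {p : ℕ} [CharP F p] (hp : p.Prime) :
    SpTwo F n p ∧ OTwo F n p := by
  haveI := Fact.mk hp
  have hpF : (p : F) = 0 := CharP.cast_eq_zero F p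
  constructor
  · obtain ⟨u, hu⟩ := exists_sp_order_p (F := F) hpF (le_refl 1)
    rw [← hu]
    refine sp_two_small h2 (isSymp_std 1) (k := 1) ?_ (show 1 + (n - 1) = n by omega) (by omega)
      (fun e => hp.ne_one (by rw [← hu, e, orderOf_one]))
    simp [Module.finrank_fintype_fun_eq_card]
  · set Q := SymplecticNotOrth.qfOdd F n
    let i0 : Fin n := ⟨0, by omega⟩
    let i1 : Fin n := ⟨1, by omega⟩
    let i2 : Fin n := ⟨2, by omega⟩
    have h01 : i0 ≠ i1 := by simp [i0, i1]
    have h02 : i0 ≠ i2 := by simp [i0, i2]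
    have h12 : i1 ≠ i2 := by simp [i1, i2]
    set w := eL (F := F) i2 + eR i2
    set v := eL (F := F) i0 + eR i0
    have hu := Q_eL (F := F) i1
    have hw : polar Q (eL i1) w = 0 := by
      rw [polar_eL]; simp [w, eL, eR, h12]
    have hfix : ∀ y, polar Q (eL i1) y = 0 → polar Q w y = 0 →
        (siegel Q (eL i1) w hu hw).1 y = y := fun y a b => by
      rw [siegel_apply, a, b]; simp
    have hf0 : (siegel Q (eL i1) w hu hw).1 (e0 F n) = e0 F n := hfix _
      (by rw [polar_eL]; simp [e0])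
      (by rw [polar_comm, polar_e0]; simp [w, eL, eR])
    have hfv : (siegel Q (eL i1) w hu hw).1 v = v := hfix _
      (by rw [polar_eL]; simp [v, eL, eR, h01, h01.symm])
      (by rw [polar_add_left, polar_eL, polar_eR]; simp [v, eL, eR, h02, h02.symm])
    have h0 : Q (e0 F n) ≠ 0 := by rw [Q_e0]; exact one_ne_zero
    have hv : Q v ≠ 0 := by rw [Q_eLR]; exact one_ne_zero
    have horth : polar Q (e0 F n) v = 0 := by rw [polar_e0]; simp [v, eL, eR]
    have hcr : ∀ (y : _) (hy : Q y ≠ 0), (siegel Q (eL i1) w hu hw).1 y = y →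
        Commute (siegel Q (eL i1) w hu hw) (refl Q y hy) := fun y hy e => by
      have := conj_refl (siegel Q (eL i1) w hu hw) y hy
      simp only [e] at this
      exact mul_inv_eq_iff_eq_mul.1 this
    have hperp : polar Q v (e0 F n) = 0 := by rw [polar_comm]; exact horth
    refine ⟨siegel Q (eL i1) w hu hw, refl Q _ h0 * refl Q _ hv, ?_,
      (hcr _ h0 hf0).mul_right (hcr _ hv hfv), ?_, fun h => ?_,
      SymplecticNotOrth.refl_pair_mem h2 h0 hv (by rw [Q_e0, Q_eLR]) horth⟩
    · refine siegel_order (p := p) hpF hu hw (x := eR i1) fun h => ?_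
      have h' := congrFun h (.inr (.inl i2))
      rw [siegel_apply, polar_eL] at h'
      simp [w, eR, eL, h12, h12.symm] at h'
    · have hc : refl Q _ hv * refl Q _ h0 = refl Q _ h0 * refl Q _ hv := by
        have := conj_refl (refl Q _ h0) _ hv
        simp only [SymplecticNotOrth.refl_ne h0 horth] at this
        exact (mul_inv_eq_iff_eq_mul.1 this).symm
      rw [mul_assoc, ← mul_assoc (refl Q _ hv), hc, mul_assoc, refl_sq, mul_one, refl_sq]
    · have h' := congrArg (fun g : OG F n => g.1 (e0 F n) (.inl ())) h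
      change (refl Q _ h0).1 ((refl Q _ hv).1 (e0 F n)) (.inl ()) = e0 F n (.inl ()) at h'
      rw [SymplecticNotOrth.refl_ne hv hperp, SymplecticNotOrth.refl_self h0] at h'
      simp only [e0, Pi.neg_apply, Pi.single_eq_same] at h'
      exact h2 (by linear_combination -h')

theorem prime_graph_eq (hodd : Odd (Fintype.card F)) (hn : 3 ≤ n) (hr : r.Prime) (hs : s.Prime)
    (hrs : r ≠ s) :
    r * s ∈ Set.range (orderOf : Cfsg.POmega F (Cfsg.quadFormOdd n F) → ℕ) ↔
      r * s ∈ Set.range (orderOf : Cfsg.PSp n F → ℕ) := by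
  have h2 := SpectrumPSp61.two_ne_zero' hodd
  have hn1 : 1 ≤ n := by omega
  obtain ⟨p, hpC⟩ := CharP.exists F
  have hp : p.Prime := (CharP.char_is_prime_or_zero F p).resolve_right (CharP.char_ne_zero_of_finite F p)
  have case2 : ∀ {t : ℕ}, t.Prime → t ≠ 2 →
      (2 * t ∈ Set.range (orderOf : Cfsg.POmega F (Cfsg.quadFormOdd n F) → ℕ) ↔
        2 * t ∈ Set.range (orderOf : Cfsg.PSp n F → ℕ)) := by
    intro t ht ht2
    rw [pomega_two h2 hn1 ht ht2, psp_two hodd hn1 ht ht2]
    by_cases htp : t = p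
    · subst htp
      exact iff_of_true (two_char h2 hn ht).2 (two_char h2 hn ht).1
    · exact ⟨two_orth_to_sp h2 hn1 ht ht2 (cast_ne hp ht htp),
        two_sp_to_orth h2 hn1 ht ht2 (cast_ne hp ht htp)⟩
  rcases eq_or_ne r 2 with rfl | hr2
  · exact case2 hs hrs.symm
  rcases eq_or_ne s 2 with rfl | hs2
  · rw [mul_comm]; exact case2 hr hrs
  have hN := (hr.odd_of_ne_two hr2).mul (hs.odd_of_ne_two hs2)
  rw [pomega_odd h2 hn1 hN, psp_odd hn1 hN]
  rcases eq_or_ne s p with hsp | hsp
  · rw [mul_comm]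
    exact ⟨odd_orth_to_sp hp h2 hn1 hs hr hrs.symm hs2 hr2 (fun e => hrs (e.trans hsp.symm)),
      odd_sp_to_orth hp h2 hs hr hrs.symm hs2 hr2 (fun e => hrs (e.trans hsp.symm))⟩
  · exact ⟨odd_orth_to_sp hp h2 hn1 hr hs hrs hr2 hs2 hsp,
      odd_sp_to_orth hp h2 hr hs hrs hr2 hs2 hsp⟩

end Cfsg.Agent.SympOrthGraph73
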