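import Cfsg.Agent.Lib.SympOrthGraph73

/-!
The splitting of a symplectic or quadratic space by an isometry of odd order prime to the
characteristic, and its transfer to the other kind of space.
-/

set_option autoImplicit false
set_option linter.unusedSectionVars false

namespace Cfsg.Agent.SympOrthGraph73

open QuadraticMap
open Cfsg Cfsg.Agent.OrthUnitaryQuad Cfsg.Agent.OrthUnitaryRefl Cfsg.Agent.OrthUnitaryOmega

variable {F : Type*} [Field F] {V : Type*} [AddCommGroup V] [Module F V]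

/-- The centralizer of a linear equivalence. -/
abbrev cen (X : V ≃ₗ[F] V) : Subgroup (V ≃ₗ[F] V) := Subgroup.centralizer {X}

variable (X : V ≃ₗ[F] V)

theorem mem_cen {g : V ≃ₗ[F] V} : g ∈ cen X ↔ Commute g X := by
  rw [Subgroup.mem_centralizer_singleton_iff]
  rfl

theorem self_mem_cen : X ∈ cen X := (mem_cen X).2 (Commute.refl X)

theorem cen_apply {g : V ≃ₗ[F] V} (hg : g ∈ cen X) (v : V) : g (X v) = X (g v) :=
  DFunLike.congr_fun ((mem_cen X).1 hg).eq v

/-- The moved space. -/
def movS : Submodule F V := LinearMap.range (X.toLinearMap - LinearMap.id)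

/-- The fixed space. -/
def fixS : Submodule F V := LinearMap.ker (X.toLinearMap - LinearMap.id)

theorem mem_fixS {v : V} : v ∈ fixS X ↔ X v = v := by
  rw [fixS, LinearMap.mem_ker, LinearMap.sub_apply, sub_eq_zero]
  rfl

theorem cen_movS {g : V ≃ₗ[F] V} (hg : g ∈ cen X) {v : V} (hv : v ∈ movS X) : g v ∈ movS X := by
  obtain ⟨u, rfl⟩ := hv
  refine ⟨g u, ?_⟩
  show X (g u) - g u = g (X u - u)
  rw [map_sub, cen_apply X hg]

theorem cen_fixS {g : V ≃ₗ[F] V} (hg : g ∈ cen X) {v : V} (hv : v ∈ fixS X) : g v ∈ fixS X := by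
  rw [mem_fixS] at hv ⊢
  rw [← cen_apply X hg, hv]

/-- Restriction to an invariant subspace. -/
def resHom (H : Subgroup (V ≃ₗ[F] V)) (S : Submodule F V)
    (hS : ∀ g ∈ H, ∀ v ∈ S, (g : V ≃ₗ[F] V) v ∈ S) : H →* (S ≃ₗ[F] S) where
  toFun g := LinearEquiv.ofLinearMap ((g.1.toLinearMap).restrict (hS g.1 g.2))
    ((g⁻¹).1.toLinearMap.restrict (hS _ (g⁻¹).2))
    (LinearMap.ext fun v => Subtype.ext (g.1.apply_symm_apply v.1))
    (LinearMap.ext fun v => Subtype.ext (g.1.symm_apply_apply v.1))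
  map_one' := LinearEquiv.ext fun v => Subtype.ext rfl
  map_mul' a b := LinearEquiv.ext fun v => Subtype.ext rfl

theorem resHom_apply (H : Subgroup (V ≃ₗ[F] V)) (S : Submodule F V)
    (hS : ∀ g ∈ H, ∀ v ∈ S, (g : V ≃ₗ[F] V) v ∈ S) (g : H) (v : S) :
    (resHom H S hS g v : V) = g.1 v := rfl

/-- Restriction of the centralizer to the moved space. -/
def resW : cen X →* (movS X ≃ₗ[F] movS X) := resHom _ _ fun _ hg _ hv => cen_movS X hg hv

/-- Restriction of the centralizer to the fixed space. -/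
def resK : cen X →* (fixS X ≃ₗ[F] fixS X) := resHom _ _ fun _ hg _ hv => cen_fixS X hg hv

@[simp] theorem resW_apply (g : cen X) (v : movS X) : (resW X g v : V) = g.1 v := rfl

@[simp] theorem resK_apply (g : cen X) (v : fixS X) : (resK X g v : V) = g.1 v := rfl

/-- The element itself in its centralizer. -/
def selfC : cen X := ⟨X, self_mem_cen X⟩

theorem resK_self : resK X (selfC X) = 1 :=
  LinearEquiv.ext fun v => Subtype.ext ((mem_fixS X).1 v.2)

theorem resW_commute (g : cen X) : Commute (resW X g) (resW X (selfC X)) :=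
  (show Commute g (selfC X) from Subtype.ext ((mem_cen X).1 g.2)).map (resW X)

theorem resW_comm_apply (g : cen X) (v : movS X) :
    resW X g (resW X (selfC X) v) = resW X (selfC X) (resW X g v) :=
  DFunLike.congr_fun (resW_commute X g).eq v

variable {X} {M : ℕ}

theorem fix_inf_mov (hX : X ^ M = 1) (hMF : (M : F) ≠ 0) : Disjoint (movS X) (fixS X) := by
  rw [Submodule.disjoint_def]
  rintro w ⟨v, rfl⟩ hw
  rw [mem_fixS] at hw
  change X (X v - v) = X v - v at hw
  set w := X v - v with hwdef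
  have hpow : ∀ j : ℕ, (X ^ j) v = v + (j : F) • w := by
    intro j
    induction j with
    | zero => simp
    | succ j ih =>
      rw [pow_succ', LinearEquiv.mul_apply, ih, map_add, map_smul, hw,
        Nat.cast_succ, add_smul, one_smul, hwdef]
      abel
  have h := hpow M
  rw [hX] at h
  change v = v + (M : F) • w at h
  rw [left_eq_add, smul_eq_zero] at h
  exact h.resolve_left hMF

theorem isCompl [FiniteDimensional F V] (hX : X ^ M = 1) (hMF : (M : F) ≠ 0) :
    IsCompl (movS X) (fixS X) := by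
  refine ⟨fix_inf_mov hX hMF, codisjoint_iff.2 (Submodule.eq_top_of_disjoint _ _ ?_
    (fix_inf_mov hX hMF))⟩
  exact ((X.toLinearMap - LinearMap.id).finrank_range_add_finrank_ker).symm.le

theorem finrank_add [FiniteDimensional F V] :
    Module.finrank F (movS X) + Module.finrank F (fixS X) = Module.finrank F V :=
  (X.toLinearMap - LinearMap.id).finrank_range_add_finrank_ker

theorem fix_free (hX : X ^ M = 1) (hM : Odd M) (hMF : (M : F) ≠ 0) (w : movS X)
    (hw : resW X (selfC X) (resW X (selfC X) w) = w) : w = 0 := by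
  obtain ⟨j, rfl⟩ := hM
  have h2 : X (X w.1) = w.1 := congrArg Subtype.val hw
  have hpow : ∀ i : ℕ, (X ^ (2 * i)) w.1 = w.1 := by
    intro i
    induction i with
    | zero => simp
    | succ i ih =>
      rw [Nat.mul_succ, pow_add, LinearEquiv.mul_apply, pow_two, LinearEquiv.mul_apply, h2, ih]
  have h1 : X w.1 = w.1 := by
    have h3 : (X ^ (2 * j + 1)) w.1 = w.1 := by rw [hX]; rfl
    rwa [pow_succ', LinearEquiv.mul_apply, hpow] at h3
  exact Subtype.ext (Submodule.disjoint_def.1 (fix_inf_mov hX hMF) _ w.2 ((mem_fixS X).2 h1))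

theorem eq_prodHom (hc : IsCompl (movS X) (fixS X)) (g : cen X) :
    g.1 = prodHom (Submodule.prodEquivOfIsCompl _ _ hc) (resW X g, resK X g) := by
  refine LinearEquiv.ext fun v => ?_
  obtain ⟨⟨a, b⟩, rfl⟩ := (Submodule.prodEquivOfIsCompl _ _ hc).surjective v
  rw [prodHom_apply]
  simp

theorem eq_of_res (hc : IsCompl (movS X) (fixS X)) {g h : cen X} (hW : resW X g = resW X h)
    (hK : resK X g = resK X h) : g = h :=
  Subtype.ext (by rw [eq_prodHom hc g, eq_prodHom hc h, hW, hK])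

theorem orderOf_resW (hc : IsCompl (movS X) (fixS X)) {g : cen X} (hK : resK X g = 1) :
    orderOf (resW X g) = orderOf g := by
  refine Nat.dvd_antisymm (orderOf_map_dvd _ g) (orderOf_dvd_of_pow_eq_one ?_)
  refine eq_of_res hc ?_ ?_
  · rw [map_pow, pow_orderOf_eq_one, map_one]
  · rw [map_pow, hK, one_pow, map_one]

theorem det_res [FiniteDimensional F V] (hc : IsCompl (movS X) (fixS X)) (g : cen X) :
    LinearEquiv.det g.1 = LinearEquiv.det (resW X g) * LinearEquiv.det (resK X g) := by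
  conv_lhs => rw [eq_prodHom hc g]
  exact det_prodHom _ _

/-! ### The two kinds of source -/

/-- An element and its centralizer, seen from a space with both kinds of forms. -/
structure Transfer (X : V ≃ₗ[F] V) (H : Subgroup (V ≃ₗ[F] V)) where
  ω : movS X →ₗ[F] movS X →ₗ[F] F
  Q : QuadraticForm F (movS X)
  symp : IsSymp ω
  nondeg : (polarBilin Q).Nondegenerate
  memSp : ∀ g : cen X, g.1 ∈ H → resW X g ∈ spG ω
  memOrth : ∀ g : cen X, g.1 ∈ H → resW X g ∈ orth Q

theorem nonempty_transfer_sp [FiniteDimensional F V] {ω : V →ₗ[F] V →ₗ[F] F} (hω : IsSymp ω)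
    (hXω : X ∈ spG ω) (hX : X ^ M = 1) (hM : Odd M) (hMF : (M : F) ≠ 0) :
    Nonempty (Transfer X (spG ω)) := by
  let ω' : movS X →ₗ[F] movS X →ₗ[F] F := ω.compl₁₂ (movS X).subtype (movS X).subtype
  have horth : ∀ a ∈ movS X, ∀ b ∈ fixS X, ω a b = 0 := by
    rintro _ ⟨v, rfl⟩ b hb
    show ω (X v - v) b = 0
    rw [map_sub, LinearMap.sub_apply]
    conv_lhs => arg 1; rw [← (mem_fixS X).1 hb, hXω]
    exact sub_self _
  have hω' : IsSymp ω' := by
    refine ⟨fun v => hω.1 _, fun u hu => Subtype.ext (hω.2 _ fun v => ?_)⟩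
    obtain ⟨⟨a, b⟩, rfl⟩ := (Submodule.prodEquivOfIsCompl _ _ (isCompl hX hMF)).surjective v
    rw [Submodule.coe_prodEquivOfIsCompl', map_add, horth _ u.2 _ b.2, add_zero]
    exact hu a
  have hmem : ∀ g : cen X, g.1 ∈ spG ω → resW X g ∈ spG ω' := fun g hg u v => hg u.1 v.1
  obtain ⟨Q, hQ, hQmem⟩ := swap_to_orth hω' (hmem (selfC X) hXω) (fix_free hX hM hMF)
  exact ⟨⟨ω', Q, hω', hQ, hmem, fun g hg => hQmem _ (hmem g hg) (resW_comm_apply X g)⟩⟩

theorem nonempty_transfer_orth [FiniteDimensional F V] {Q : QuadraticForm F V}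
    (hQ : (polarBilin Q).Nondegenerate) (hXQ : X ∈ orth Q) (hX : X ^ M = 1) (hM : Odd M)
    (hMF : (M : F) ≠ 0) : Nonempty (Transfer X (orth Q)) := by
  let Q' : QuadraticForm F (movS X) := Q.comp (movS X).subtype
  have horth : ∀ a ∈ movS X, ∀ b ∈ fixS X, polar Q a b = 0 := by
    rintro _ ⟨v, rfl⟩ b hb
    show polar Q (X v - v) b = 0
    rw [polar_sub_left]
    conv_lhs => arg 1; rw [← (mem_fixS X).1 hb, polar_orth ⟨X, hXQ⟩]
    exact sub_self _
  have hQ' : (polarBilin Q').Nondegenerate := by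
    refine OrthUnitaryStd.nondegenerate_iff_left Q' fun u hu => Subtype.ext (hQ.1 _ fun v => ?_)
    obtain ⟨⟨a, b⟩, rfl⟩ := (Submodule.prodEquivOfIsCompl _ _ (isCompl hX hMF)).surjective v
    show polar Q u.1 (Submodule.prodEquivOfIsCompl _ _ (isCompl hX hMF) (a, b)) = 0
    rw [Submodule.coe_prodEquivOfIsCompl', polar_add_right, horth _ u.2 _ b.2, add_zero]
    exact hu a
  have hmem : ∀ g : cen X, g.1 ∈ orth Q → resW X g ∈ orth Q' := fun g hg v => hg v.1
  obtain ⟨ω, hω, hωmem⟩ := swap_to_symp hQ' (hmem (selfC X) hXQ) (fix_free hX hM hMF)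
  exact ⟨⟨ω, Q', hω, hQ', fun g hg => hωmem _ (hmem g hg) (resW_comm_apply X g), hmem⟩⟩

namespace Transfer

variable {H : Subgroup (V ≃ₗ[F] V)} (D : Transfer X H)

/-- The restriction as a symplectic isometry. -/
def toSp (g : cen X) (hg : g.1 ∈ H) : spG D.ω := ⟨resW X g, D.memSp g hg⟩

/-- The restriction as an orthogonal isometry. -/
def toOrth (g : cen X) (hg : g.1 ∈ H) : orth D.Q := ⟨resW X g, D.memOrth g hg⟩

theorem orderOf_toSp (g : cen X) (hg : g.1 ∈ H) : orderOf (D.toSp g hg) = orderOf (resW X g) :=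
  (Subgroup.orderOf_coe _).symm

theorem orderOf_toOrth (g : cen X) (hg : g.1 ∈ H) : orderOf (D.toOrth g hg) = orderOf (resW X g) :=
  (Subgroup.orderOf_coe _).symm

end Transfer

end Cfsg.Agent.SympOrthGraph73
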