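import Cfsg.Prelude.Def_GeometricClasses
import Cfsg.Agent.Lib.TransvectionMax

/-! The proof of S5652, which only uses m ≥ 2, restated for every m ≥ 2. -/

set_option autoImplicit false
open Cfsg

namespace Cfsg.Agent.SympQuadMax97

open Cfsg.Agent.TransvectionMax
open scoped MatrixGroups Matrix


/-- For a finite field F of characteristic two and m ≥ 2, let Q be a non-degenerate quadratic form on F^(2m) whose polar form is the standard alternating form. Then the elements of Sp_2m(F) that are similarities of Q (they are exactly the isometries of Q) form a maximal subgroup of Sp_2m(F). -/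
theorem isMaximalIn_stab {F : Type*} [Field F] [Fintype F] (m : ℕ) (hm : 2 ≤ m) (heven : ¬ Odd (Fintype.card F)) (Q : (Fin m ⊕ Fin m → F) → F) (hQ : Cfsg.Geo.IsNondegenerateQuadraticForm Q) (hpol : ∀ u v, QuadraticMap.polar Q u v = Cfsg.sympForm m F u v) : Cfsg.Geo.IsMaximalIn (Cfsg.spGL m F) (Cfsg.Geo.quadSimilarityGroup Q ⊓ Cfsg.spGL m F) := by
  have hf := sympForm_isSymplecticForm (F := F) m
  have hb := hf.bilinear
  set f := Cfsg.sympForm m F
  have h2 : ringChar F = 2 := by
    by_contra h
    exact heven (Nat.odd_iff.mpr (FiniteField.odd_card_of_char_ne_two h))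
  have htwo : (2 : F) = 0 := by
    have := ringChar.Nat.cast_ringChar (R := F)
    rw [h2] at this
    exact_mod_cast this
  have hneg : ∀ a : F, -a = a := fun a => by linear_combination -(a * htwo)
  have hsq : ∀ a : F, ∃ r : F, a = r ^ 2 := fun a => by
    obtain ⟨r, hr⟩ := FiniteField.isSquare_of_char_two h2 a
    exact ⟨r, by rw [hr, sq]⟩
  have hadd : ∀ x y, Q (x + y) = Q x + Q y + f x y := fun x y => by
    have := hpol x y
    rw [QuadraticMap.polar] at this
    linear_combination this
  have hQ0 : Q 0 = 0 := by simpa using hQ.smul 0 0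
  have hQs : ∀ x c u, Q (x + c • u) = Q x + c ^ 2 * Q u + c * f x u := fun x c u => by
    rw [hadd, hQ.smul, hb.smul_right]
  set H := Cfsg.Geo.quadSimilarityGroup Q ⊓ Cfsg.spGL m F
  -- the reflections lie in H
  have hrefl : ∀ v, Q v ≠ 0 → st f v (Q v)⁻¹ ∈ H := fun v hv => by
    refine ⟨⟨1, fun x => ?_⟩, st_mem_spGL m v _⟩
    rw [st_act hf, hQs, Units.val_one, one_mul]
    have h1 : (((Q v)⁻¹ * f x v) ^ 2 * Q v) + (Q v)⁻¹ * f x v * f x v = 0 := by
      field_simp
      linear_combination (f x v ^ 2) * htwo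
    linear_combination h1
  -- singular vectors
  have hsing : ∃ p : Fin m ⊕ Fin m → F, p ≠ 0 ∧ Q p = 0 := by
    set v : Fin m ⊕ Fin m → F := Pi.single (.inl ⟨0, by omega⟩) 1
    set w : Fin m ⊕ Fin m → F := Pi.single (.inl ⟨1, by omega⟩) 1
    have hv : v ≠ 0 := by simp [v]
    by_cases hqv : Q v = 0
    · exact ⟨v, hv, hqv⟩
    obtain ⟨r, hr⟩ := hsq (Q w / Q v)
    refine ⟨w + r • v, ?_, ?_⟩
    · intro h
      have := congrFun h (.inl ⟨1, by omega⟩)
      simp [v, w] at this
    · have hwv : f w v = 0 := by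
        simp [f, Cfsg.sympForm, v, w, dotProduct, Matrix.mulVec, Matrix.J, Fintype.sum_sum_type,
          Pi.single_apply]
      rw [hQs, ← hr, hwv]
      field_simp
      linear_combination (Q w) * htwo
  have hperp : ∀ {x : Fin m ⊕ Fin m → F}, x ≠ 0 → ∃ p, Q p = 0 ∧ f x p ≠ 0 := by
    intro x hx
    obtain ⟨p, hp, hpq⟩ := hsing
    obtain ⟨r0, hr0⟩ := (hf.nondegenerate p hp).2
    obtain ⟨r, hpr, hrq⟩ : ∃ r, f p r = 1 ∧ Q r = 0 := by
      refine ⟨(f p r0)⁻¹ • r0 + Q ((f p r0)⁻¹ • r0) • p, ?_, ?_⟩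
      · rw [hb.add_right, hb.smul_right, hb.smul_right, hf.alternating, mul_zero, add_zero,
          inv_mul_cancel₀ hr0]
      · rw [hQs, hpq, hb.smul_left, hf.skew r0 p, hneg]
        rw [inv_mul_cancel₀ hr0]
        linear_combination (Q ((f p r0)⁻¹ • r0)) * htwo
    by_cases h1 : f x p = 0
    · by_cases h2 : f x r = 0
      · obtain ⟨y, hy⟩ := (hf.nondegenerate x hx).2
        set y' := y - f y r • p - f p y • r with hy'
        have hyp : f y' p = 0 := by
          rw [hy', sub_left hb, sub_left hb, hb.smul_left, hb.smul_left, hf.alternating, hf.skew r p,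
            hf.skew y p, hpr]
          ring
        have hyr : f y' r = 0 := by
          rw [hy', sub_left hb, sub_left hb, hb.smul_left, hb.smul_left, hf.alternating, hpr]
          ring
        refine ⟨y' + p + Q y' • r, ?_, ?_⟩
        · rw [hQs, hadd y' p, hpq, hrq, hyp, hb.add_left, hyr, hpr]
          linear_combination (Q y') * htwo
        · rw [hb.add_right, hb.add_right, hb.smul_right, h1, h2, mul_zero, add_zero, add_zero, hy',
            sub_right hb, sub_right hb, hb.smul_right, hb.smul_right, h1, h2]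
          simpa using hy
      · exact ⟨r, hrq, h2⟩
    · exact ⟨p, hpq, h1⟩
  have hcommon : ∀ {p p' : Fin m ⊕ Fin m → F}, p ≠ 0 → p' ≠ 0 → Q p = 0 →
      ∃ r, Q r = 0 ∧ f r p ≠ 0 ∧ (f p' p = 0 → f r p' ≠ 0) := by
    intro p p' hp hp' hpq
    obtain ⟨y, hy1, hy2⟩ := exists_common hf hp hp'
    refine ⟨y + (Q y / f y p) • p, ?_, ?_, fun h0 => ?_⟩
    · rw [hQs, hpq, div_mul_cancel₀ _ hy1]
      linear_combination (Q y) * htwo
    · rw [hb.add_left, hb.smul_left, hf.alternating, mul_zero, add_zero]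
      exact hy1
    · rw [hb.add_left, hb.smul_left, hf.skew p p', h0, neg_zero, mul_zero, add_zero]
      exact hy2
  refine ⟨lt_of_le_of_ne inf_le_right ?_, ?_⟩
  · intro he
    obtain ⟨p, hp, hpq⟩ := hsing
    obtain ⟨y, hy⟩ := (hf.nondegenerate p hp).1
    obtain ⟨c, hc⟩ := (he.symm ▸ st_mem_spGL m p 1 : st f p 1 ∈ H).1
    have hgen : ∀ x, Q x + f x p * f x p = c * Q x := fun x => by
      have := hc x
      rw [st_act hf, hQs, hpq, one_mul, mul_zero, add_zero] at this
      exact this
    have h0 : Q (y + (Q y / f y p) • p) = 0 := by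
      rw [hQs, hpq, div_mul_cancel₀ _ hy]
      linear_combination (Q y) * htwo
    have := hgen (y + (Q y / f y p) • p)
    rw [h0, hb.add_left, hb.smul_left, hf.alternating] at this
    simp [hy] at this
  · intro M hHM hMSp
    by_cases hMH : M ≤ Cfsg.Geo.quadSimilarityGroup Q
    · exact Or.inl (le_antisymm (le_inf hMH hMSp) hHM)
    refine Or.inr (le_antisymm hMSp ?_)
    obtain ⟨g, hgM, hgn⟩ := Set.not_subset.mp hMH
    have hgf : ∀ x y, f ((g : Matrix (Fin m ⊕ Fin m) (Fin m ⊕ Fin m) F) *ᵥ x) ((g : Matrix (Fin m ⊕ Fin m) (Fin m ⊕ Fin m) F) *ᵥ y) = f x y := hMSp hgM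
    have hconj : ∀ {h : GL (Fin m ⊕ Fin m) F}, h ∈ M → ∀ {u c}, st f u c ∈ M →
        st f ((h : Matrix (Fin m ⊕ Fin m) (Fin m ⊕ Fin m) F) *ᵥ u) c ∈ M := by
      intro h hhM u c hu
      rw [← st_conj hf (hMSp hhM)]
      exact M.mul_mem (M.mul_mem hhM hu) (M.inv_mem hhM)
    -- some singular vector carries a non-trivial transvection of M
    obtain ⟨p, hp, hpq, c, hc, hpM⟩ :
        ∃ p, p ≠ 0 ∧ Q p = 0 ∧ ∃ c : F, c ≠ 0 ∧ st f p c ∈ M := by
      by_contra! hcon
      apply hgn
      set gi : Matrix (Fin m ⊕ Fin m) (Fin m ⊕ Fin m) F := ((g⁻¹ : GL (Fin m ⊕ Fin m) F) : Matrix (Fin m ⊕ Fin m) (Fin m ⊕ Fin m) F)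
      have hgif : ∀ x y, f (gi *ᵥ x) (gi *ᵥ y) = f x y := fun x y => by
        conv_rhs => rw [← act_inv_act g x, ← act_inv_act g y, hgf]
      have hD : ∀ u, Q u = 0 → Q (gi *ᵥ u) = 0 := by
        intro u hu
        by_contra hne
        have hu0 : u ≠ 0 := fun h => hne (by rw [h, Matrix.mulVec_zero, hQ0])
        have := hconj hgM (hHM (hrefl _ hne))
        rw [act_inv_act] at this
        exact hcon u hu0 hu _ (inv_ne_zero hne) this
      have hall : ∀ x, Q (gi *ᵥ x) = Q x := by
        intro x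
        rcases eq_or_ne x 0 with rfl | hx
        · rw [Matrix.mulVec_zero]
        obtain ⟨p, hpq, hxp⟩ := hperp hx
        have h0 : Q (x + (Q x / f x p) • p) = 0 := by
          rw [hQs, hpq, div_mul_cancel₀ _ hxp]
          linear_combination (Q x) * htwo
        have h1 := hD _ h0
        rw [Matrix.mulVec_add, Matrix.mulVec_smul, hQs, hD p hpq, hgif, div_mul_cancel₀ _ hxp] at h1
        linear_combination h1 - (Q x) * htwo
      exact ⟨1, fun v => by rw [Units.val_one, one_mul, ← hall, inv_act_act]⟩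
    -- transitivity of H on singular vectors
    have move : ∀ {x y}, Q x = 0 → Q y = 0 → f x y ≠ 0 → ∀ {c}, st f x c ∈ M → st f y c ∈ M := by
      intro x y hx hy hxy c hM
      have hd : Q (y - x) = f x y := by
        have h1 : y - x = y + (1 : F) • x := by
          rw [one_smul, sub_eq_add_neg]
          congr 1
          rw [← neg_one_smul F, hneg, one_smul]
        rw [h1, hQs, hx, hy, hf.skew y x, hneg]
        ring
      have hr := hHM (hrefl (y - x) (by rw [hd]; exact hxy))
      rw [hd] at hr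
      have := hconj hr hM
      rwa [st_move hf hxy] at this
    have move' : ∀ {y}, y ≠ 0 → Q y = 0 → st f y c ∈ M := by
      intro y hy hyq
      by_cases h : f p y = 0
      · obtain ⟨r, hr, hrp, hry⟩ := hcommon hp hy hpq
        refine move hr hyq (hry (by rw [hf.skew, h, neg_zero])) (move hpq hr ?_ hpM)
        rw [hf.skew, neg_ne_zero]
        exact hrp
      · exact move hpq hyq h hpM
    have hfull : ∀ {y}, Q y = 0 → ∀ d, st f y d ∈ M := by
      intro y hyq d
      rcases eq_or_ne y 0 with rfl | hy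
      · have : st f (0 : Fin m ⊕ Fin m → F) d = 1 := gl_ext fun x => by
          rw [st_act hf, one_act, smul_zero, add_zero]
        rw [this]
        exact M.one_mem
      rcases eq_or_ne d 0 with rfl | hd
      · rw [st_zero hf]
        exact M.one_mem
      obtain ⟨r, hr⟩ := hsq (d / c)
      have hr0 : r ≠ 0 := by
        rintro rfl
        simp [hd, hc] at hr
      have := move' (y := r • y) (smul_ne_zero hr0 hy) (by rw [hQ.smul, hyq, mul_zero])
      rwa [st_smul hf, ← hr, mul_div_cancel₀ _ hc] at this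
    refine spGL_le m fun u d => ?_
    rcases eq_or_ne (Q u) 0 with hq | hq
    · exact hfull hq d
    have hu : u ≠ 0 := fun h => hq (by rw [h, hQ0])
    obtain ⟨q, hqq, huq⟩ := hperp hu
    set t := Q u / f u q
    set r := u + t • q with hr
    have hrq : Q r = 0 := by
      rw [hr, hQs, hqq, div_mul_cancel₀ _ huq]
      linear_combination (Q u) * htwo
    have hrf : f r q = f u q := by
      rw [hr, hb.add_left, hb.smul_left, hf.alternating, mul_zero, add_zero]
    have := hconj (hfull hqq (t / f u q)) (hfull hrq d)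
    rwa [st_act hf, hrf, div_mul_cancel₀ _ huq, hr, add_assoc, ← add_smul,
      show t + t = 0 by linear_combination t * htwo, zero_smul, add_zero] at this

end Cfsg.Agent.SympQuadMax97
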