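import Cfsg.Agent.Lib.SymplecticSimple
import Cfsg.Agent.Lib.SymplecticOrder
import Cfsg.Prelude.Def_Classical

/-!
The prime graph of `PSp₆(3)`.
-/

set_option autoImplicit false
set_option maxRecDepth 100000

open Matrix

namespace Cfsg.Agent.SympSixPG50

instance factThree : Fact (Nat.Prime 3) := ⟨Nat.prime_three⟩

/-- Six by six matrices over the prime field. -/
abbrev M6 : Type := Matrix (Fin 6) (Fin 6) (ZMod 3)

/-- The symplectic form. -/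
def J6 : M6 := !![0, 0, 0, 2, 0, 0; 0, 0, 0, 0, 2, 0; 0, 0, 0, 0, 0, 2; 1, 0, 0, 0, 0, 0; 0, 1, 0, 0, 0, 0; 0, 0, 1, 0, 0, 0]

/-- Symplectic matrices. -/
def Pres (W : M6) : Prop := W * J6 * Wᵀ = J6

instance (W : M6) : Decidable (Pres W) := by unfold Pres; infer_instance

/-- Data certifying a centraliser. -/
structure Data where
  X : M6
  u : Fin 6 → ZMod 3
  K : M6
  Ki : M6
  P : Fin 6 → M6
  c1 : Fin 6
  c2 : Fin 6
  c3 : Fin 6
  sols : List (Fin 6 → ZMod 3)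

/-- An element of projective order 6. -/
def Y6 : M6 := !![1, 2, 0, 0, 0, 0; 0, 2, 0, 0, 0, 0; 2, 0, 2, 0, 0, 1; 2, 0, 1, 1, 0, 1; 2, 2, 0, 2, 2, 1; 1, 1, 2, 0, 0, 0]

/-- An element of projective order 10. -/
def Y10 : M6 := !![1, 2, 0, 0, 1, 2; 2, 2, 1, 1, 0, 2; 0, 0, 2, 1, 0, 2; 1, 0, 1, 0, 0, 0; 0, 1, 2, 1, 2, 2; 1, 1, 1, 1, 1, 2]

/-- An element of projective order 14. -/
def Y14 : M6 := !![1, 2, 2, 1, 0, 2; 1, 2, 1, 2, 0, 2; 0, 2, 1, 0, 1, 0; 0, 2, 2, 2, 2, 1; 2, 0, 2, 0, 0, 0; 2, 0, 1, 2, 0, 1]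

/-- An element of projective order 15. -/
def Y15 : M6 := !![2, 1, 1, 2, 1, 1; 2, 0, 2, 2, 2, 0; 0, 0, 2, 2, 0, 1; 1, 1, 0, 1, 1, 1; 1, 1, 2, 2, 2, 2; 2, 0, 1, 2, 1, 0]

/-- Certificate for order 7. -/
def data7 : Data where
  X := !![2, 2, 1, 1, 0, 0; 2, 2, 0, 2, 2, 0; 2, 2, 2, 2, 2, 0; 2, 1, 1, 2, 1, 0; 0, 2, 1, 0, 1, 1; 0, 2, 2, 1, 1, 2]
  u := ![0, 0, 0, 0, 0, 1]
  K := !![0, 0, 0, 1, 0, 1; 0, 0, 2, 0, 0, 0; 0, 0, 2, 1, 2, 1; 0, 0, 1, 0, 2, 1; 0, 1, 0, 2, 1, 0; 1, 2, 2, 1, 0, 1]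
  Ki := !![1, 2, 2, 2, 1, 1; 2, 0, 2, 2, 1, 0; 0, 2, 0, 0, 0, 0; 0, 1, 1, 2, 0, 0; 1, 1, 2, 0, 0, 0; 1, 2, 2, 1, 0, 0]
  P := ![
    !![1, 0, 0, 0, 0, 0; 0, 1, 0, 0, 0, 0; 0, 0, 1, 0, 0, 0; 0, 0, 0, 1, 0, 0; 0, 0, 0, 0, 1, 0; 0, 0, 0, 0, 0, 1],
    !![2, 2, 1, 1, 0, 0; 2, 2, 0, 2, 2, 0; 2, 2, 2, 2, 2, 0; 2, 1, 1, 2, 1, 0; 0, 2, 1, 0, 1, 1; 0, 2, 2, 1, 1, 2],
    !![0, 2, 2, 1, 1, 0; 0, 2, 0, 1, 2, 2; 1, 0, 1, 2, 0, 2; 0, 0, 1, 1, 1, 1; 0, 1, 2, 1, 2, 0; 1, 0, 1, 0, 0, 2],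
    !![1, 2, 0, 1, 1, 1; 0, 1, 1, 2, 0, 0; 2, 1, 0, 0, 0, 1; 1, 1, 0, 2, 2, 0; 2, 2, 1, 2, 0, 2; 1, 2, 1, 2, 1, 1],
    !![2, 2, 2, 2, 1, 0; 2, 0, 1, 2, 0, 0; 0, 2, 1, 2, 0, 2; 2, 1, 2, 1, 0, 2; 2, 1, 1, 2, 1, 1; 0, 2, 2, 0, 1, 0],
    !![1, 1, 0, 2, 2, 1; 1, 2, 0, 2, 1, 0; 1, 0, 2, 0, 1, 1; 0, 0, 2, 0, 0, 1; 0, 2, 0, 2, 2, 0; 2, 1, 2, 2, 0, 1]]
  c1 := 1
  c2 := 2
  c3 := 3
  sols := [
    ![0, 0, 0, 0, 0, 1],
    ![0, 0, 0, 0, 0, 2],
    ![0, 0, 0, 0, 1, 0],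
    ![0, 0, 0, 0, 2, 0],
    ![0, 0, 0, 1, 0, 0],
    ![0, 0, 0, 2, 0, 0],
    ![0, 0, 1, 0, 0, 0],
    ![0, 0, 2, 0, 0, 0],
    ![0, 1, 0, 0, 0, 0],
    ![0, 1, 0, 1, 1, 2],
    ![0, 1, 2, 2, 0, 2],
    ![0, 2, 0, 0, 0, 0],
    ![0, 2, 0, 2, 2, 1],
    ![0, 2, 1, 1, 0, 1],
    ![1, 0, 0, 0, 0, 0],
    ![1, 0, 0, 2, 1, 1],
    ![1, 0, 1, 1, 2, 0],
    ![1, 1, 1, 1, 1, 1],
    ![1, 1, 2, 0, 0, 1],
    ![1, 1, 2, 1, 2, 2],
    ![1, 2, 2, 0, 2, 0],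
    ![2, 0, 0, 0, 0, 0],
    ![2, 0, 0, 1, 2, 2],
    ![2, 0, 2, 2, 1, 0],
    ![2, 1, 1, 0, 1, 0],
    ![2, 2, 1, 0, 0, 2],
    ![2, 2, 1, 2, 1, 1],
    ![2, 2, 2, 2, 2, 2]]

/-- Certificate for order 13. -/
def data13 : Data where
  X := !![0, 2, 1, 2, 2, 2; 1, 1, 0, 0, 0, 1; 2, 1, 2, 0, 2, 0; 0, 1, 1, 2, 2, 1; 0, 1, 2, 1, 2, 2; 0, 1, 2, 0, 2, 2]
  u := ![0, 0, 0, 0, 0, 1]
  K := !![0, 2, 0, 0, 2, 2; 0, 1, 2, 2, 0, 1; 0, 0, 0, 1, 0, 1; 0, 1, 0, 1, 2, 0; 0, 2, 1, 1, 0, 0; 1, 2, 0, 1, 2, 1]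
  Ki := !![2, 2, 2, 0, 2, 1; 1, 0, 1, 2, 0, 0; 1, 1, 0, 2, 2, 0; 0, 2, 1, 0, 2, 0; 1, 2, 2, 1, 2, 0; 0, 1, 0, 0, 1, 0]
  P := ![
    !![1, 0, 0, 0, 0, 0; 0, 1, 0, 0, 0, 0; 0, 0, 1, 0, 0, 0; 0, 0, 0, 1, 0, 0; 0, 0, 0, 0, 1, 0; 0, 0, 0, 0, 0, 1],
    !![0, 2, 1, 2, 2, 2; 1, 1, 0, 0, 0, 1; 2, 1, 2, 0, 2, 0; 0, 1, 1, 2, 2, 1; 0, 1, 2, 1, 2, 2; 0, 1, 2, 0, 2, 2],
    !![1, 0, 0, 0, 2, 0; 1, 1, 0, 2, 1, 2; 2, 0, 1, 0, 0, 0; 0, 1, 1, 0, 0, 0; 2, 2, 1, 1, 2, 1; 2, 1, 0, 2, 0, 0],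
    !![0, 1, 2, 1, 0, 0; 1, 2, 0, 1, 0, 2; 2, 2, 1, 1, 0, 1; 0, 2, 2, 0, 2, 1; 1, 2, 2, 2, 2, 1; 1, 1, 1, 2, 2, 1],
    !![2, 1, 2, 2, 0, 2; 2, 1, 0, 1, 2, 0; 1, 0, 1, 0, 1, 0; 0, 1, 1, 2, 1, 2; 0, 2, 1, 2, 1, 0; 0, 0, 2, 2, 2, 2],
    !![2, 2, 0, 2, 1, 2; 1, 2, 1, 2, 1, 1; 2, 1, 2, 0, 0, 1; 0, 1, 1, 2, 0, 0; 1, 0, 0, 2, 2, 0; 1, 2, 2, 0, 1, 1]]
  c1 := 3
  c2 := 1
  c3 := 4
  sols := [
    ![0, 0, 0, 0, 0, 1],
    ![0, 0, 0, 0, 0, 2],
    ![0, 0, 0, 0, 1, 0],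
    ![0, 0, 0, 0, 2, 0],
    ![0, 0, 0, 1, 0, 0],
    ![0, 0, 0, 2, 0, 0],
    ![0, 0, 1, 0, 0, 0],
    ![0, 0, 2, 0, 0, 0],
    ![0, 1, 0, 0, 0, 0],
    ![0, 1, 0, 2, 2, 2],
    ![0, 1, 1, 1, 0, 2],
    ![0, 2, 0, 0, 0, 0],
    ![0, 2, 0, 1, 1, 1],
    ![0, 2, 2, 2, 0, 1],
    ![1, 0, 0, 0, 0, 0],
    ![1, 0, 0, 2, 1, 2],
    ![1, 0, 2, 2, 2, 0],
    ![1, 1, 1, 0, 2, 0],
    ![1, 1, 2, 2, 1, 1],
    ![1, 2, 1, 0, 0, 2],
    ![2, 0, 0, 0, 0, 0],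
    ![2, 0, 0, 1, 2, 1],
    ![2, 0, 1, 1, 1, 0],
    ![2, 1, 2, 0, 0, 1],
    ![2, 2, 1, 1, 2, 2],
    ![2, 2, 2, 0, 1, 0]]

/-- The pairing of the first row with row `c`. -/
def row (W : M6) (c : Fin 6) : ZMod 3 :=
  2 * (W 0 0 * W c 3) + 2 * (W 0 1 * W c 4) + 2 * (W 0 2 * W c 5) +
    W 0 3 * W c 0 + W 0 4 * W c 1 + W 0 5 * W c 2

theorem Pres.row {W : M6} (h : Pres W) (c : Fin 6) : row W c = J6 0 c := by
  have h0 := congrFun (congrFun h 0) c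
  rw [← h0]
  simp [SympSixPG50.row, J6, Matrix.mul_apply, Fin.sum_univ_six]
  ring

/-- The polynomial in `X` with given coefficients. -/
def Data.poly (D : Data) (a : Fin 6 → ZMod 3) : M6 :=
  Matrix.of fun i j => a 0 * D.P 0 i j + a 1 * D.P 1 i j + a 2 * D.P 2 i j + a 3 * D.P 3 i j +
    a 4 * D.P 4 i j + a 5 * D.P 5 i j

theorem Data.poly_eq (D : Data) (a : Fin 6 → ZMod 3) : D.poly a = ∑ i, a i • D.P i := by
  ext i j
  simp [Data.poly, Matrix.sum_apply, Fin.sum_univ_six]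

/-- The three equations used. -/
def Data.cond (D : Data) (W : M6) : Prop :=
  row W D.c1 = J6 0 D.c1 ∧ row W D.c2 = J6 0 D.c2 ∧ row W D.c3 = J6 0 D.c3

instance (D : Data) (W : M6) : Decidable (D.cond W) := by unfold Data.cond; infer_instance

/-- Validity of the data: the symplectic centraliser of `X` has exponent `M` up to sign. -/
structure Data.Valid (D : Data) (M : ℕ) : Prop where
  pow : ∀ i : Fin 6, D.P i = D.X ^ (i : ℕ)
  colK : ∀ i j : Fin 6, D.K j i = (D.P i *ᵥ D.u) j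
  invK : D.K * D.Ki = 1
  sols : ∀ a : Fin 6 → ZMod 3, D.cond (D.poly a) → a ∈ D.sols
  powers : ∀ a ∈ D.sols, (D.poly a) ^ M = 1 ∨ (D.poly a) ^ M = -1

theorem Data.Valid.centralizer {D : Data} {M : ℕ} (h : D.Valid M) {W : M6} (hW : Pres W)
    (hc : W * D.X = D.X * W) : W ^ M = 1 ∨ W ^ M = -1 := by
  set v := W *ᵥ D.u
  set a := D.Ki *ᵥ v
  have hcomm : ∀ i, W * D.P i = D.P i * W := fun i => by
    rw [h.pow]
    exact ((show Commute W D.X from hc).pow_right _).eq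
  have hv : v = D.poly a *ᵥ D.u := by
    have h1 : D.K *ᵥ a = v := by rw [Matrix.mulVec_mulVec, h.invK, Matrix.one_mulVec]
    rw [← h1, D.poly_eq, Matrix.sum_mulVec]
    ext j
    simp [Matrix.smul_mulVec, Matrix.mulVec, dotProduct, h.colK, mul_comm]
  have hK : W * D.K = D.poly a * D.K := by
    have hcol : ∀ i, D.K *ᵥ Pi.single i 1 = D.P i *ᵥ D.u := fun i => by
      ext j; simp [h.colK]
    refine Matrix.ext_of_mulVec_single fun i => ?_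
    rw [← Matrix.mulVec_mulVec, ← Matrix.mulVec_mulVec, hcol, Matrix.mulVec_mulVec, hcomm,
      ← Matrix.mulVec_mulVec, show W *ᵥ D.u = v from rfl, hv, Matrix.mulVec_mulVec,
      Matrix.mulVec_mulVec]
    refine congrArg (fun M : M6 => M *ᵥ D.u) ?_
    rw [D.poly_eq, Finset.mul_sum, Finset.sum_mul]
    refine Finset.sum_congr rfl fun j _ => ?_
    rw [Matrix.mul_smul, Matrix.smul_mul, h.pow, h.pow, ← pow_add, ← pow_add, add_comm]
  have hWp : W = D.poly a := by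
    have h1 : W * D.K * D.Ki = D.poly a * D.K * D.Ki := congrArg (fun M : M6 => M * D.Ki) hK
    rwa [Matrix.mul_assoc, Matrix.mul_assoc, h.invK, Matrix.mul_one, Matrix.mul_one] at h1
  have hc' : D.cond (D.poly a) := by rw [← hWp]; exact ⟨hW.row _, hW.row _, hW.row _⟩
  rw [hWp]
  exact h.powers a (h.sols a hc')

theorem Data.sols_of (D : Data)
    (h : ∀ a0 a1 a2 a3 a4 a5 : ZMod 3, D.cond (D.poly ![a0, a1, a2, a3, a4, a5]) →
      ![a0, a1, a2, a3, a4, a5] ∈ D.sols) :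
    ∀ a : Fin 6 → ZMod 3, D.cond (D.poly a) → a ∈ D.sols := by
  intro a ha
  have ea : a = ![a 0, a 1, a 2, a 3, a 4, a 5] := by
    funext i; fin_cases i <;> rfl
  rw [ea] at ha ⊢
  exact h _ _ _ _ _ _ ha

theorem valid7 : data7.Valid 14 where
  pow := by decide +kernel
  colK := by decide +kernel
  invK := by decide +kernel
  sols := data7.sols_of (by decide +kernel)
  powers := by decide +kernel

theorem valid13 : data13.Valid 13 where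
  pow := by decide +kernel
  colK := by decide +kernel
  invK := by decide +kernel
  sols := data13.sols_of (by decide +kernel)
  powers := by decide +kernel

theorem pres_data : Pres data7.X ∧ Pres data13.X ∧ Pres Y6 ∧ Pres Y10 ∧ Pres Y14 ∧ Pres Y15 := by
  decide +kernel

theorem orders :
    (data7.X ^ 7 = 1 ∧ data7.X ≠ 1 ∧ data7.X ≠ -1) ∧
    (data13.X ^ 13 = 1 ∧ data13.X ≠ 1 ∧ data13.X ≠ -1) := by
  decide +kernel

theorem certY6 : (Y6 ^ 6 = 1 ∨ Y6 ^ 6 = -1) ∧ ∀ d ∈ [2, 3], ¬ (Y6 ^ d = 1 ∨ Y6 ^ d = -1) := by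
  decide +kernel

theorem certY10 : (Y10 ^ 10 = 1 ∨ Y10 ^ 10 = -1) ∧
    ∀ d ∈ [2, 5], ¬ (Y10 ^ d = 1 ∨ Y10 ^ d = -1) := by
  decide +kernel

theorem certY14 : (Y14 ^ 14 = 1 ∨ Y14 ^ 14 = -1) ∧
    ∀ d ∈ [2, 7], ¬ (Y14 ^ d = 1 ∨ Y14 ^ d = -1) := by
  decide +kernel

theorem certY15 : (Y15 ^ 15 = 1 ∨ Y15 ^ 15 = -1) ∧
    ∀ d ∈ [3, 5], ¬ (Y15 ^ d = 1 ∨ Y15 ^ d = -1) := by
  decide +kernel

section Group

variable {F : Type*} [Field F] [Fintype F] (hF : Fintype.card F = 3)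

/-- `Sp₆` over `F`. -/
abbrev Sp (F : Type*) [Field F] := Matrix.symplecticGroup (Fin 3) F

/-- The identification of the prime field. -/
noncomputable def iso : F ≃+* ZMod 3 := (ZMod.ringEquivOfPrime F Nat.prime_three hF).symm

/-- Six by six matrices from symplectic matrices. -/
noncomputable def small (A : Matrix (Fin 3 ⊕ Fin 3) (Fin 3 ⊕ Fin 3) F) : M6 :=
  (A.map (iso hF)).submatrix (finSumFinEquiv (m := 3) (n := 3)).symm
    (finSumFinEquiv (m := 3) (n := 3)).symm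

theorem small_mul (A B : Matrix (Fin 3 ⊕ Fin 3) (Fin 3 ⊕ Fin 3) F) :
    small hF (A * B) = small hF A * small hF B := by
  simp only [small, Matrix.map_mul, Matrix.submatrix_mul_equiv]

theorem small_one : small hF (1 : Matrix (Fin 3 ⊕ Fin 3) (Fin 3 ⊕ Fin 3) F) = 1 := by
  simp [small]

theorem small_transpose (A : Matrix (Fin 3 ⊕ Fin 3) (Fin 3 ⊕ Fin 3) F) :
    small hF Aᵀ = (small hF A)ᵀ := rfl

theorem small_injective : Function.Injective (small hF) := by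
  intro A B h
  ext i j
  have h1 := congrFun (congrFun h (finSumFinEquiv i)) (finSumFinEquiv j)
  simpa [small] using h1

theorem small_surjective : Function.Surjective (small hF) := fun M =>
  ⟨(M.submatrix finSumFinEquiv finSumFinEquiv).map (iso hF).symm, by
    ext i j; simp [small]⟩

theorem small_J : small hF (Matrix.J (Fin 3) F) = J6 := by
  have h : Matrix.map (Matrix.J (Fin 3) F) (iso hF) = Matrix.J (Fin 3) (ZMod 3) := by
    ext (i | i) (j | j) <;> simp [Matrix.J, Matrix.one_apply, apply_ite (iso hF)]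
  rw [small, h]
  decide +kernel

/-- The small matrices as a homomorphism. -/
noncomputable def theta : Sp F →* M6 where
  toFun g := small hF g.1
  map_one' := small_one hF
  map_mul' a b := small_mul hF a.1 b.1

theorem theta_injective : Function.Injective (theta hF) := fun _ _ h =>
  Subtype.ext (small_injective hF h)

theorem theta_pres (g : Sp F) : Pres (theta hF g) := by
  have h := congrArg (small hF) (SymplecticGroup.mem_iff.1 g.2 :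
    g.1 * Matrix.J (Fin 3) F * g.1ᵀ = Matrix.J (Fin 3) F)
  rwa [small_mul, small_mul, small_transpose, small_J] at h

theorem exists_theta {W : M6} (hW : Pres W) : ∃ g : Sp F, theta hF g = W := by
  obtain ⟨A, rfl⟩ := small_surjective hF W
  refine ⟨⟨A, SymplecticGroup.mem_iff.2 (small_injective hF ?_)⟩, rfl⟩
  rw [small_mul, small_mul, small_transpose, small_J]
  exact hW

theorem mem_center_iff' (g : Sp F) :
    g ∈ Subgroup.center (Sp F) ↔ theta hF g = 1 ∨ theta hF g = -1 := by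
  have hneg : small hF (-1 : Matrix (Fin 3 ⊕ Fin 3) (Fin 3 ⊕ Fin 3) F) = -1 := by
    ext i j
    simp [small, Matrix.one_apply, apply_ite (iso hF)]
  rw [SymplecticSimple.mem_center_iff (by norm_num)]
  constructor
  · rintro ⟨a, ha, h⟩
    have hg : g.1 = a • 1 := Matrix.ext_of_mulVec_single fun i => by
      rw [Matrix.smul_mulVec, Matrix.one_mulVec]
      exact (SymplecticBasic.smul_def g _).symm.trans (h _)
    rcases sq_eq_one_iff.1 ha with rfl | rfl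
    · left; change small hF g.1 = 1; rw [hg, one_smul, small_one]
    · right; change small hF g.1 = -1; rw [hg, neg_smul, one_smul, hneg]
  · rintro (h | h)
    · refine ⟨1, one_pow _, fun v => ?_⟩
      rw [show g = 1 from theta_injective hF (h.trans (map_one (theta hF)).symm), one_smul,
        one_smul]
    · refine ⟨-1, by ring, fun v => ?_⟩
      rw [SymplecticBasic.smul_def, small_injective hF (h.trans hneg.symm), Matrix.neg_mulVec,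
        Matrix.one_mulVec, neg_one_smul]

include hF in
theorem natCard_Sp : Nat.card (Sp F) = 9170703360 := by
  have h := SymplecticOrder.card_symplectic hF 3
  rw [h]
  norm_num [Finset.prod_Icc_succ_top, Finset.prod_range_succ]

include hF in
theorem natCard_PSp : Nat.card (Cfsg.PSp 3 F) = 4585351680 := by
  have h := Subgroup.card_eq_card_quotient_mul_card_subgroup (Subgroup.center (Sp F))
  rw [SymplecticSimple.card_center hF (by norm_num), natCard_Sp hF] at h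
  norm_num at h
  change Nat.card (Sp F ⧸ Subgroup.center (Sp F)) = _
  omega

theorem mk_pow_eq_one_iff (g : Sp F) (n : ℕ) :
    (QuotientGroup.mk g : Cfsg.PSp 3 F) ^ n = 1 ↔
      (theta hF g) ^ n = 1 ∨ (theta hF g) ^ n = -1 := by
  rw [← QuotientGroup.mk_pow, QuotientGroup.eq_one_iff, mem_center_iff' hF, map_pow]

include hF in
theorem order_positive {n : ℕ} (hn : n ∈ [6, 10, 14, 15]) :
    ∃ y : Cfsg.PSp 3 F, orderOf y = n := by
  have key : ∀ (Y : M6) (p q : ℕ), p.Prime → q.Prime → Pres Y →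
      (Y ^ (p * q) = 1 ∨ Y ^ (p * q) = -1) →
      (∀ d ∈ [p, q], ¬ (Y ^ d = 1 ∨ Y ^ d = -1)) →
      ∃ y : Cfsg.PSp 3 F, orderOf y = p * q := by
    intro Y p q hp hq hY h1 h2
    obtain ⟨g, hg⟩ := exists_theta hF hY
    refine ⟨QuotientGroup.mk g, ?_⟩
    have hd : orderOf (QuotientGroup.mk g : Cfsg.PSp 3 F) ∣ p * q :=
      orderOf_dvd_of_pow_eq_one ((mk_pow_eq_one_iff hF g _).2 (hg ▸ h1))
    have hnd : ∀ d ∈ [p, q], ¬ orderOf (QuotientGroup.mk g : Cfsg.PSp 3 F) ∣ d := fun d hd h =>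
      h2 d hd (hg ▸ (mk_pow_eq_one_iff hF g d).1 (orderOf_dvd_iff_pow_eq_one.1 h))
    obtain ⟨a, b, ha, hb, hab⟩ := Nat.dvd_mul.1 hd
    rcases (Nat.dvd_prime hp).1 ha with rfl | rfl
    · exact absurd (by rw [← hab, one_mul]; exact hb) (hnd q (by simp))
    · rcases (Nat.dvd_prime hq).1 hb with rfl | rfl
      · exact absurd (by rw [← hab, mul_one]) (hnd _ (by simp))
      · exact hab.symm
  obtain ⟨-, -, p6, p10, p14, p15⟩ := pres_data
  fin_cases hn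
  · exact key Y6 2 3 Nat.prime_two Nat.prime_three p6 certY6.1 certY6.2
  · exact key Y10 2 5 Nat.prime_two (by norm_num) p10 certY10.1 certY10.2
  · exact key Y14 2 7 Nat.prime_two (by norm_num) p14 certY14.1 certY14.2
  · exact key Y15 3 5 Nat.prime_three (by norm_num) p15 certY15.1 certY15.2

include hF in
theorem not_order_key {D : Data} {M p : ℕ} (hD : D.Valid M) (hp : p.Prime) (hp3 : 3 ≤ p)
    (hsq : ¬ p ^ 2 ∣ Nat.card (Sp F)) (hX : Pres D.X) (hXp : D.X ^ p = 1) (hX1 : D.X ≠ 1)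
    (y : Cfsg.PSp 3 F) (hpd : p ∣ orderOf y) : orderOf y ∣ M := by
  have : Fact p.Prime := ⟨hp⟩
  have : Finite (Sp F) := Nat.finite_of_card_ne_zero (by rw [natCard_Sp hF]; norm_num)
  obtain ⟨x, hx⟩ := exists_theta hF hX
  have hxo : orderOf x = p := by
    refine orderOf_eq_prime (theta_injective hF (by rw [map_pow, hx, hXp, map_one])) fun e => ?_
    rw [e, map_one] at hx
    exact hX1 hx.symm
  obtain ⟨g, rfl⟩ := QuotientGroup.mk_surjective y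
  have hodd : Odd p := hp.odd_of_ne_two (by omega)
  set m := orderOf (QuotientGroup.mk g : Cfsg.PSp 3 F) / p with hm
  have hmp : m * p = orderOf (QuotientGroup.mk g : Cfsg.PSp 3 F) := Nat.div_mul_cancel hpd
  have hm1 : ¬ (theta hF g ^ m = 1 ∨ theta hF g ^ m = -1) := by
    intro h
    have h' := Nat.le_of_dvd (Nat.pos_of_ne_zero fun e => by
      rw [e, zero_mul] at hmp
      exact orderOf_pos (QuotientGroup.mk g : Cfsg.PSp 3 F) |>.ne hmp)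
      (orderOf_dvd_iff_pow_eq_one.2 ((mk_pow_eq_one_iff hF g m).2 h))
    have hpos : 0 < orderOf (QuotientGroup.mk g : Cfsg.PSp 3 F) := orderOf_pos _
    nlinarith [hmp, hp.two_le]
  -- a lift of order `p` commuting with `g`
  obtain ⟨k, hk, hko, hkg⟩ : ∃ k : Sp F, k ≠ 1 ∧ k ^ p = 1 ∧ Commute g k := by
    have hpow : theta hF g ^ (m * p) = 1 ∨ theta hF g ^ (m * p) = -1 := by
      rw [hmp]; exact (mk_pow_eq_one_iff hF g _).1 (pow_orderOf_eq_one _)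
    have hne : g ^ m ≠ 1 := fun e => hm1 (Or.inl (by rw [← map_pow, e, map_one]))
    rcases hpow with h | h
    · refine ⟨g ^ m, hne, theta_injective hF ?_, (Commute.refl g).pow_right _⟩
      rw [map_pow, map_pow, ← pow_mul, h, map_one]
    · obtain ⟨z, hz⟩ := exists_theta hF (show Pres (-1 : M6) by decide +kernel)
      refine ⟨z * g ^ m, fun e => hm1 (Or.inr ?_), theta_injective hF ?_, ?_⟩
      · have h2 := congrArg (theta hF) e
        rw [map_mul, hz, map_pow, map_one, neg_one_mul] at h2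
        exact neg_eq_iff_eq_neg.1 h2
      · rw [map_pow, map_mul, map_pow, hz, neg_one_mul, neg_pow, ← pow_mul, h, hodd.neg_one_pow,
          map_one]
        simp
      · refine Commute.mul_right (theta_injective hF ?_) ((Commute.refl g).pow_right _)
        rw [map_mul, map_mul, hz, mul_neg_one, neg_one_mul]
  have hkp : orderOf k = p := orderOf_eq_prime hko hk
  have hfac : (Nat.card (Sp F)).factorization p = 1 := by
    have h1 : 0 < (Nat.card (Sp F)).factorization p :=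
      hp.factorization_pos_of_dvd Nat.card_pos.ne' (hxo ▸ orderOf_dvd_natCard x)
    have h2 : ¬ 2 ≤ (Nat.card (Sp F)).factorization p := fun h =>
      hsq ((hp.pow_dvd_iff_le_factorization Nat.card_pos.ne').2 h)
    omega
  have hsyl : ∀ u : Sp F, orderOf u = p →
      ∃ P : Sylow p (Sp F), (P : Subgroup (Sp F)) = Subgroup.zpowers u := fun u hu =>
    ⟨Sylow.ofCard (Subgroup.zpowers u) (by rw [Nat.card_zpowers, hu, hfac, pow_one]),
      Sylow.coe_ofCard _ _⟩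
  obtain ⟨P, hP⟩ := hsyl _ hkp
  obtain ⟨Q, hQ⟩ := hsyl _ hxo
  obtain ⟨c, hc⟩ := MulAction.exists_smul_eq (Sp F) P Q
  have hm' : x ∈ (Q : Subgroup (Sp F)) := hQ ▸ Subgroup.mem_zpowers x
  rw [← hc, Sylow.coe_subgroup_smul, hP] at hm'
  obtain ⟨u, hu, hux⟩ := Subgroup.mem_map.1 hm'
  obtain ⟨i, rfl⟩ := Subgroup.mem_zpowers_iff.1 hu
  have hcx : Commute (c * g * c⁻¹) x := by
    rw [← hux]
    exact (hkg.zpow_right i).map (MulAut.conj c).toMonoidHom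
  have hres := hD.centralizer (theta_pres hF (c * g * c⁻¹))
    (by rw [← hx, ← map_mul, hcx.eq, map_mul])
  rw [← map_pow, conj_pow] at hres
  have hce : c * g ^ M * c⁻¹ ∈ Subgroup.center (Sp F) := (mem_center_iff' hF _).2 hres
  have hgc : g ^ M ∈ Subgroup.center (Sp F) := by
    have := (Subgroup.mem_center_iff.1 hce) c
    have h2 : g ^ M = c * g ^ M * c⁻¹ := by
      have h3 : c * (c * g ^ M * c⁻¹) = c * g ^ M := by rw [this]; group
      exact (mul_left_cancel h3).symm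
    rw [h2]; exact hce
  exact orderOf_dvd_of_pow_eq_one ((QuotientGroup.mk_pow _ g M).symm.trans
    ((QuotientGroup.eq_one_iff _).2 hgc))

include hF in
theorem not_order {n : ℕ} (hn : n ∈ [21, 26, 35, 39, 65, 91]) (y : Cfsg.PSp 3 F) :
    orderOf y ≠ n := by
  intro hy
  have h7 := not_order_key hF valid7 (p := 7) (by norm_num) (by norm_num)
    (by rw [natCard_Sp hF]; norm_num) pres_data.1 orders.1.1 orders.1.2.1 y
  have h13 := not_order_key hF valid13 (p := 13) (by norm_num) (by norm_num)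
    (by rw [natCard_Sp hF]; norm_num) pres_data.2.1 orders.2.1 orders.2.2.1 y
  rw [hy] at h7 h13
  fin_cases hn <;> (revert h7 h13; norm_num)

end Group

end Cfsg.Agent.SympSixPG50
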