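import Cfsg.Agent.Lib.SympSubfieldMax97

set_option autoImplicit false
open Cfsg

namespace Cfsg.Agent.SympSubfieldFour83

open Cfsg.Agent.TransvectionMax Cfsg.Agent.SympSubfieldMax97
open scoped MatrixGroups Matrix

set_option maxHeartbeats 3200000

/-- Subfield groups are maximal in dimension four, odd characteristic. -/
theorem isMaximalIn_four {F : Type*} [Field F] [Fintype F] (h2 : (2 : F) ≠ 0) (F₀ : Subfield F) (r : ℕ) (hr : r.Prime) (hcard : Fintype.card F = Nat.card F₀ ^ r) (P : Matrix.GeneralLinearGroup (Fin 2 ⊕ Fin 2) F) (ζ : F) (hζ : ζ ≠ 0) (hP : Cfsg.Geo.IsFormRationalStructure (Cfsg.sympForm 2 F) F₀ ζ P) : Cfsg.Geo.IsMaximalIn (Cfsg.spGL 2 F) (Cfsg.Geo.subfieldSubgroup F₀ P ⊓ Cfsg.spGL 2 F) := by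
  classical
  have hfF := sympForm_isSymplecticForm (F := F) 2
  set f := Cfsg.sympForm 2 F
  set g : (Fin 2 ⊕ Fin 2 → F) → (Fin 2 ⊕ Fin 2 → F) → F := fun x y => ζ * f x y with hgdef
  have hg : Cfsg.Geo.IsSymplecticForm g := by
    refine ⟨⟨?_, ?_, ?_, ?_⟩, ?_, ?_, ?_⟩
    · intro x y v; simp only [hgdef, hfF.bilinear.add_left]; ring
    · intro c x v; simp only [hgdef, hfF.bilinear.smul_left]; ring
    · intro v x y; simp only [hgdef, hfF.bilinear.add_right]; ring
    · intro c v x; simp only [hgdef, hfF.bilinear.smul_right]; ring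
    · intro v w; simp only [hgdef, hfF.skew v w]; ring
    · intro v; simp only [hgdef, hfF.alternating, mul_zero]
    · intro v hv
      obtain ⟨⟨w, hw⟩, ⟨w', hw'⟩⟩ := hfF.nondegenerate v hv
      exact ⟨⟨w, mul_ne_zero hζ hw⟩, ⟨w', mul_ne_zero hζ hw'⟩⟩
  have hgb := hg.bilinear
  set f0 := SubfieldRational.form hP
  have hf0 : Cfsg.Geo.IsSymplecticForm f0 := SubfieldRational.form_symplectic hP hζ hfF
  have hb0 := hf0.bilinear
  set R : (Fin 2 ⊕ Fin 2 → F₀) → (Fin 2 ⊕ Fin 2 → F) := SubfieldRational.rat P with hRdef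
  have hgR : ∀ a b, g (R a) (R b) = (f0 a b : F) := fun a b => rfl
  have hgR0 : ∀ {a b}, f0 a b = 0 → g (R a) (R b) = 0 := fun h => by rw [hgR, h, ZeroMemClass.coe_zero]
  have hcard2 : Fintype.card (Fin 2 ⊕ Fin 2) = 2 + 2 := by simp
  haveI : Nonempty (Fin 2 ⊕ Fin 2) := ⟨Sum.inl (0 : Fin 2)⟩
  -- values on rational vectors
  have hvals : ∀ (u : Fin 2 ⊕ Fin 2 → F) (c : F), c ≠ 0 → (∀ x, g u (R x) / c ∈ F₀) →
      ∃ w, u = c • R w := by
    intro u c hc hx
    let lu : (Fin 2 ⊕ Fin 2 → F₀) →ₗ[F₀] F₀ :=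
      { toFun := fun x => -(⟨g u (R x) / c, hx x⟩ : F₀)
        map_add' := fun x y => Subtype.ext (by
          push_cast
          simp only [hRdef, SubfieldRational.rat_add, hgb.add_right]
          ring)
        map_smul' := fun t x => Subtype.ext (by
          push_cast
          simp only [hRdef, SubfieldRational.rat_smul, hgb.smul_right, RingHom.id_apply, smul_eq_mul]
          push_cast
          simp only [id_eq]
          ring) }
    obtain ⟨w, hw⟩ := exists_row hb0 hf0.nondegenerate (fun i => lu (Pi.single i 1))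
    have hw' : ∀ x, f0 x w = lu x := fun x => by
      rw [← hw, LinearMap.pi_apply_eq_sum_univ lu x, dotProduct]
      refine Finset.sum_congr rfl fun i _ => ?_
      rw [smul_eq_mul, mul_comm]
      congr 2
      funext k
      simp [Pi.single_apply, eq_comm]
    refine ⟨w, ?_⟩
    by_contra hne
    obtain ⟨z, hz⟩ := (hg.nondegenerate _ (sub_ne_zero.mpr hne)).1
    apply hz
    refine SubfieldRational.eq_zero_of_rat (F₀ := F₀) P (fLeft hgb (u - c • R w)) (fun x => ?_) z
    change g (R x) (u - c • R w) = 0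
    have h2 : (f0 x w : F) = -(g u (R x) / c) := by rw [hw']; rfl
    rw [TransvectionMax.sub_right hgb, hgb.smul_right, hgR, h2, hg.skew (R x) u]
    field_simp
    ring
  -- the group
  set H := Cfsg.Geo.subfieldSubgroup F₀ P ⊓ Cfsg.spGL 2 F
  have hsub := SubfieldRational.mem_subfieldSubgroup_iff (F₀ := F₀) P
  have hgK : ∀ {h : GL (Fin 2 ⊕ Fin 2) F}, h ∈ Cfsg.spGL 2 F →
      ∀ x y, g ((h : Matrix (Fin 2 ⊕ Fin 2) (Fin 2 ⊕ Fin 2) F) *ᵥ x) ((h : Matrix (Fin 2 ⊕ Fin 2) (Fin 2 ⊕ Fin 2) F) *ᵥ y) = g x y := fun hh x y =>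
    congrArg (ζ * ·) (hh x y)
  have hKg : ∀ {h : GL (Fin 2 ⊕ Fin 2) F},
      (∀ x y, g ((h : Matrix (Fin 2 ⊕ Fin 2) (Fin 2 ⊕ Fin 2) F) *ᵥ x) ((h : Matrix (Fin 2 ⊕ Fin 2) (Fin 2 ⊕ Fin 2) F) *ᵥ y) = g x y) → h ∈ Cfsg.spGL 2 F :=
    fun hh x y => mul_left_cancel₀ hζ (hh x y)
  have hstK : ∀ u c, st g u c ∈ Cfsg.spGL 2 F := fun u c => hKg (st_preserves hg u c)
  have hlift : ∀ a (c : F₀), SubfieldRational.lift P (st f0 a c) = st g (R a) (c : F) := fun a c =>
    SubfieldRational.ext_rat (F₀ := F₀) P fun u => by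
      rw [SubfieldRational.lift_act, st_act hf0, st_act hg, hgR, SubfieldRational.rat_add,
        SubfieldRational.rat_smul, Subfield.coe_mul]
  have hstH : ∀ a (c : F₀), st g (R a) (c : F) ∈ H := fun a c =>
    ⟨hlift a c ▸ SubfieldRational.lift_mem P _, hstK _ _⟩
  obtain ⟨θ, hθ⟩ : ∃ θ : F, θ ∉ F₀ := by
    by_contra! h
    have h1 : Nat.card F₀ = Fintype.card F := by
      rw [← Nat.card_eq_fintype_card]
      exact Nat.card_congr (Equiv.subtypeUnivEquiv h)
    have h2 := Nat.pow_right_injective (Finite.one_lt_card (α := F₀))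
      (show Nat.card F₀ ^ 1 = Nat.card F₀ ^ r by rw [pow_one, ← hcard, h1])
    exact hr.one_lt.ne h2
  obtain ⟨a0, ha0⟩ : ∃ a : Fin 2 ⊕ Fin 2 → F₀, a ≠ 0 :=
    ⟨Pi.single (Sum.inl (0 : Fin 2)) 1, by simp⟩
  refine ⟨lt_of_le_of_ne inf_le_right ?_, fun M hHM hMSp => ?_⟩
  · intro he
    obtain ⟨b, hb⟩ := (hf0.nondegenerate a0 ha0).1
    have hmem : st g (R a0) θ ∈ H := he.symm ▸ hstK (R a0) θ
    obtain ⟨k, w, hkw⟩ := (hsub _).mp hmem.1 b
    rw [st_act hg, hgR] at hkw
    have hba : b ∉ Submodule.span F₀ {a0} := notMem_span_of hb0 hb (hf0.alternating a0)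
    have hk : k ≠ 0 := fun h0 => by
      rw [h0, zero_smul] at hkw
      exact one_ne_zero (SubfieldRational.rat_indep P (s := (1 : F)) (t := θ * (f0 b a0 : F)) ha0 hba
        (by rw [one_smul]; exact hkw)).1
    obtain ⟨h1, h2⟩ := SubfieldRational.rat_coeff_mem P (a := k⁻¹) (b := k⁻¹ * (θ * (f0 b a0 : F))) ha0 hba
      (z := w) (by
        have h3 := congrArg (fun v => k⁻¹ • v) hkw
        simpa [smul_add, smul_smul, inv_mul_cancel₀ hk] using h3)
    have h3 : θ * (f0 b a0 : F) ∈ F₀ := by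
      have := F₀.div_mem h2 h1
      rwa [mul_div_cancel_left₀ _ (inv_ne_zero hk)] at this
    apply hθ
    have h4 := F₀.div_mem h3 (f0 b a0).2
    rwa [mul_div_assoc, div_self (fun h => hb (Subtype.ext h)), mul_one] at h4
  by_cases hMH : M ≤ Cfsg.Geo.subfieldSubgroup F₀ P
  · exact Or.inl (le_antisymm (le_inf hMH hMSp) hHM)
  refine Or.inr (le_antisymm hMSp ?_)
  obtain ⟨g', hgM, hgn⟩ := Set.not_subset.mp hMH
  rw [SetLike.mem_coe, hsub] at hgn
  push Not at hgn
  obtain ⟨u0, hu0⟩ := hgn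
  set u := (g' : Matrix (Fin 2 ⊕ Fin 2) (Fin 2 ⊕ Fin 2) F) *ᵥ R u0 with hudef
  have hiso : ∀ {h : GL (Fin 2 ⊕ Fin 2) F}, h ∈ M →
      ∀ x y, g ((h : Matrix (Fin 2 ⊕ Fin 2) (Fin 2 ⊕ Fin 2) F) *ᵥ x) ((h : Matrix (Fin 2 ⊕ Fin 2) (Fin 2 ⊕ Fin 2) F) *ᵥ y) = g x y := fun hh => hgK (hMSp hh)
  have hconj : ∀ {h : GL (Fin 2 ⊕ Fin 2) F}, h ∈ M → ∀ {v c}, st g v c ∈ M →
      st g ((h : Matrix (Fin 2 ⊕ Fin 2) (Fin 2 ⊕ Fin 2) F) *ᵥ v) c ∈ M := fun {h} hh {v c} hv => by
    rw [← st_conj hg (hiso hh)]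
    exact M.mul_mem (M.mul_mem hh hv) (M.inv_mem hh)
  have hsconj : ∀ {h : GL (Fin 2 ⊕ Fin 2) F}, h ∈ M → ∀ {a b κ}, sg g a b κ ∈ M →
      sg g ((h : Matrix (Fin 2 ⊕ Fin 2) (Fin 2 ⊕ Fin 2) F) *ᵥ a) ((h : Matrix (Fin 2 ⊕ Fin 2) (Fin 2 ⊕ Fin 2) F) *ᵥ b) κ ∈ M := fun {h} hh {a b κ} hv => by
    rw [← sg_conj hg (hiso hh)]
    exact M.mul_mem (M.mul_mem hh hv) (M.inv_mem hh)
  have hTrat : ∀ a (c : F₀), st g (R a) (c : F) ∈ M := fun a c => hHM (hstH a c)
  have hT1 : ∀ a, st g (R a) 1 ∈ M := fun a => hTrat a 1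
  have hTneg : ∀ a, st g (R a) (-1) ∈ M := fun a => by
    simpa using hTrat a (-1)
  have hsg1 : ∀ a b, sg g (R a) (R b) 1 ∈ M := fun a b =>
    M.mul_mem (M.mul_mem (by rw [← SubfieldRational.rat_add]; exact hT1 _) (hTneg a)) (hTneg b)
  -- rational isometries in M
  have hliftM : ∀ {h : GL (Fin 2 ⊕ Fin 2) F₀},
      h ∈ Subgroup.closure {k | ∃ u ∈ (⊤ : Submodule F₀ _), ∃ c, k = st f0 u c} →
      SubfieldRational.lift P h ∈ M := by
    intro h hh
    induction hh using Subgroup.closure_induction with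
    | mem k hk => obtain ⟨v, -, c, rfl⟩ := hk; rw [hlift]; exact hTrat v c
    | one => rw [map_one]; exact M.one_mem
    | mul a b _ _ ha hb => rw [map_mul]; exact M.mul_mem ha hb
    | inv a _ ha => rw [map_inv]; exact M.inv_mem ha
  have hnd : Cfsg.Geo.IsNondegenerateOn f0 (⊤ : Submodule F₀ (Fin 2 ⊕ Fin 2 → F₀)) := fun v _ hv =>
    ⟨(hf0.nondegenerate v hv).1.elim fun w hw => ⟨w, Submodule.mem_top, hw⟩,
      (hf0.nondegenerate v hv).2.elim fun w hw => ⟨w, Submodule.mem_top, hw⟩⟩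
  have move1 : ∀ {a a'}, a ≠ 0 → a' ≠ 0 → ∃ h ∈ M, (h : Matrix (Fin 2 ⊕ Fin 2) (Fin 2 ⊕ Fin 2) F) *ᵥ R a = R a' := by
    intro a a' ha ha'
    obtain ⟨h, hh, hha⟩ := TransvectionSymp.move_vec hf0 hnd Submodule.mem_top Submodule.mem_top ha ha'
    exact ⟨_, hliftM hh, by rw [SubfieldRational.lift_act, hha]⟩
  have move2 : ∀ {a b a' b'}, b ≠ 0 → b' ≠ 0 → a ∉ Submodule.span F₀ {b} →
      a' ∉ Submodule.span F₀ {b'} → f0 a b = 0 → f0 a' b' = 0 →
      ∃ h ∈ M, (h : Matrix (Fin 2 ⊕ Fin 2) (Fin 2 ⊕ Fin 2) F) *ᵥ R a = R a' ∧ (h : Matrix (Fin 2 ⊕ Fin 2) (Fin 2 ⊕ Fin 2) F) *ᵥ R b = R b' := by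
    intro a b a' b' hb hb' hab ha'b' h0 h0'
    have ha : a ≠ 0 := fun h => hab (h ▸ Submodule.zero_mem _)
    have ha' : a' ≠ 0 := fun h => ha'b' (h ▸ Submodule.zero_mem _)
    obtain ⟨h1, hh1, h1a⟩ := TransvectionSymp.move_vec hf0 hnd Submodule.mem_top Submodule.mem_top ha ha'
    set b1 := (h1 : Matrix (Fin 2 ⊕ Fin 2) (Fin 2 ⊕ Fin 2) F₀) *ᵥ b with hb1def
    have hb1 : f0 a' b1 = 0 := by
      rw [hb1def, ← h1a, (TransvectionSymp.closure_props hf0 hh1).1, h0]
    have hb1n : b1 ∉ Submodule.span F₀ {a'} := fun h => by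
      obtain ⟨s, hs⟩ := Submodule.mem_span_singleton.mp h
      rw [hb1def, ← h1a, ← Matrix.mulVec_smul] at hs
      exact notMem_span_symm hb hab (Submodule.mem_span_singleton.mpr ⟨s, act_injective h1 hs⟩)
    obtain ⟨p, hp, hp'⟩ := TransvectionSymp.exists_perp_ne hf0 hb1n
    obtain ⟨q, hq, hq'⟩ := TransvectionSymp.exists_perp_ne hf0 (notMem_span_symm hb' ha'b')
    obtain ⟨z, hz, hzb1, hzb'⟩ := TransvectionSymp.exists_common_on hf0
      ⟨p, hp, TransvectionSymp.skew_ne hf0 hp'⟩ ⟨q, hq, TransvectionSymp.skew_ne hf0 hq'⟩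
    have hza : f0 a' z = 0 := hz a' (Submodule.mem_span_singleton_self a')
    have hfix : ∀ {x y : Fin 2 ⊕ Fin 2 → F₀}, f0 a' x = 0 → f0 a' y = 0 → ∀ c,
        (st f0 (y - x) c : Matrix (Fin 2 ⊕ Fin 2) (Fin 2 ⊕ Fin 2) F₀) *ᵥ a' = a' := fun hx hy c =>
      st_fix hf0 _ _ (by rw [TransvectionMax.sub_right hb0, hx, hy, sub_self])
    refine ⟨SubfieldRational.lift P (st f0 (b' - z) (f0 z b')⁻¹ * st f0 (z - b1) (f0 b1 z)⁻¹ * h1),
      hliftM (Subgroup.mul_mem _ (Subgroup.mul_mem _ (Subgroup.subset_closure ⟨_, Submodule.mem_top, _, rfl⟩)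
        (Subgroup.subset_closure ⟨_, Submodule.mem_top, _, rfl⟩)) hh1), ?_, ?_⟩
    · rw [SubfieldRational.lift_act, mul_act, mul_act, h1a, hfix hb1 hza, hfix hza h0']
    · rw [SubfieldRational.lift_act, mul_act, mul_act, ← hb1def,
        st_move hf0 (TransvectionSymp.skew_ne hf0 hzb1), st_move hf0 hzb']
  -- scalar sets
  let C : F → Prop := fun c => ∀ a, st g (R a) c ∈ M
  let D : F → Prop := fun κ => ∀ a b, f0 a b = 0 → b ≠ 0 → a ∉ Submodule.span F₀ {b} →
    sg g (R a) (R b) κ ∈ M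
  have hCall : ∀ {a c}, a ≠ 0 → st g (R a) c ∈ M → C c := by
    intro a c ha h b
    rcases eq_or_ne b 0 with rfl | hb
    · have : st g (R 0) c = 1 := gl_ext fun x => by
        rw [st_act hg, one_act, hRdef, SubfieldRational.rat_zero, TransvectionMax.zero_right hgb, mul_zero,
          zero_smul, add_zero]
      rw [this]; exact M.one_mem
    · obtain ⟨h', hh', hha⟩ := move1 ha hb
      exact hha ▸ hconj hh' h
  have hCneg : ∀ {c}, C c → C (-c) := fun {c} hc a => by
    have : (st g (R a) c)⁻¹ = st g (R a) (-c) := inv_eq_of_mul_eq_one_right (by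
      rw [st_add hg, add_neg_cancel, st_zero hg])
    exact this ▸ M.inv_mem (hc a)
  have hCadd : ∀ {c d}, C c → C d → C (c + d) := fun hc hd a => by
    rw [← st_add hg]; exact M.mul_mem (hc a) (hd a)
  have hCsq : ∀ {c} (t : F₀), C c → C (c * (t : F) ^ 2) := fun {c} t hc a => by
    rw [← st_smul hg, hRdef, ← SubfieldRational.rat_smul]; exact hc _
  have hCD : ∀ {c}, C c → D c := fun {c} hc a b _ _ _ =>
    M.mul_mem (M.mul_mem (by rw [← SubfieldRational.rat_add]; exact hc _) (hCneg hc a)) (hCneg hc b)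
  have hC0 : ∀ t : F₀, C (t : F) := fun t a => hTrat a t
  -- D is closed
  have hDadd : ∀ {κ μ}, D κ → D μ → D (κ + μ) := fun hκ hμ a b h0 hb hab => by
    rw [← sg_add hg (hgR0 h0)]; exact M.mul_mem (hκ a b h0 hb hab) (hμ a b h0 hb hab)
  have hDneg : ∀ {κ}, D κ → D (-κ) := fun {κ} hκ a b h0 hb hab => by
    have : (sg g (R a) (R b) κ)⁻¹ = sg g (R a) (R b) (-κ) := inv_eq_of_mul_eq_one_right (by
      rw [sg_add hg (hgR0 h0), add_neg_cancel, sg_zero hg (hgR0 h0)])
    exact this ▸ M.inv_mem (hκ a b h0 hb hab)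
  have hDzero : D 0 := fun a b h0 _ _ => by rw [sg_zero hg (hgR0 h0)]; exact M.one_mem
  have hDscale : ∀ {κ} (t : F₀), D κ → D ((t : F) * κ) := by
    intro κ t hκ a b h0 hb hab
    rcases eq_or_ne t 0 with rfl | ht
    · rw [ZeroMemClass.coe_zero, zero_mul]; exact hDzero a b h0 hb hab
    have h1 : f0 a (t • b) = 0 := by rw [hb0.smul_right, h0, mul_zero]
    have h := hκ a (t • b) h1 (smul_ne_zero ht hb) (fun hs => hab (by
      obtain ⟨s, hs⟩ := Submodule.mem_span_singleton.mp hs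
      exact Submodule.mem_span_singleton.mpr ⟨s * t, by rw [← hs, smul_smul]⟩))
    rwa [hRdef, SubfieldRational.rat_smul, sg_smul hg (hgR0 h0)] at h
  have hD0 : ∀ t : F₀, D (t : F) := fun t => hCD (hC0 t)
  have hDsq : ∀ {κ}, D κ → C (κ ^ 2) := by
    intro κ hκ
    set W := Submodule.span F₀ (Set.range ![a0])
    have hW : Module.finrank F₀ W ≤ 1 := fr_range _
    obtain ⟨v, hv, hvW⟩ := exists_perp_notMem hb0 W W (by omega)
    obtain ⟨y, hy, hy'⟩ := TransvectionSymp.exists_perp_ne hf0 hvW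
    set v' := (f0 v y)⁻¹ • y with hv'def
    have hvv' : f0 v v' = 1 := by rw [hv'def, hb0.smul_right, inv_mul_cancel₀ hy']
    have hav : f0 a0 v = 0 := mem_perp_range hb0 hv 0
    have hav' : f0 a0 v' = 0 := by
      rw [hv'def, hb0.smul_right, show f0 a0 y = 0 from mem_perp_range hb0 hy 0, mul_zero]
    have hvn : v ∉ Submodule.span F₀ {a0} := notMem_span_of hb0 (by rw [hvv']; exact one_ne_zero) hav'
    have hv'n : v' ∉ Submodule.span F₀ {a0} :=
      notMem_span_of hb0 (TransvectionSymp.skew_ne hf0 (by rw [hvv']; exact one_ne_zero)) hav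
    have h1 := hκ v a0 (TransvectionSymp.skew_zero hf0 hav) ha0 hvn
    have h2 := hconj h1 (hT1 v')
    have hgv : g (R v') (R v) = -1 := by rw [hg.skew, hgR, hvv', OneMemClass.coe_one]
    rw [sg_act hg (hgR0 (TransvectionSymp.skew_zero hf0 hav)), hgv,
      hgR0 (TransvectionSymp.skew_zero hf0 hav')] at h2
    simp only [mul_zero, zero_smul, add_zero, mul_neg, mul_one] at h2
    rw [st_pair hg (hgR0 (TransvectionSymp.skew_zero hf0 hav')), one_mul, one_mul, mul_assoc,
      M.mul_mem_cancel_left (hT1 v'),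
      M.mul_mem_cancel_right ((hDneg hκ) v' a0 (TransvectionSymp.skew_zero hf0 hav') ha0 hv'n)] at h2
    refine hCall ha0 ?_
    rwa [neg_sq] at h2
  have hDmul : ∀ {κ μ}, D κ → D μ → D (κ * μ) := by
    intro κ μ hκ hμ
    have h := hDscale (2⁻¹ : F₀) (hCD (hCadd (hDsq (hDadd hκ hμ)) (hCneg (hCadd (hDsq hκ) (hDsq hμ)))))
    convert h using 1
    push_cast
    rw [show ((2 : F₀) : F) = 2 from map_ofNat F₀.subtype 2]
    field_simp
    ring
  -- an irrational scalar
  have hu : st g u 1 ∈ M := by rw [hudef]; exact hconj hgM (hT1 u0)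
  obtain ⟨δ, hδ, hδ0⟩ : ∃ δ, D δ ∧ δ ∉ F₀ := by
    obtain ⟨b, hb⟩ : ∃ b, g u (R b) ≠ 0 := by
      by_contra! h
      obtain ⟨w, hw⟩ := hvals u 1 one_ne_zero fun x => by rw [h x, zero_div]; exact F₀.zero_mem
      exact hu0 1 w hw
    have hb00 : b ≠ 0 := fun h => hb (by
      rw [h, hRdef, SubfieldRational.rat_zero, TransvectionMax.zero_right hgb])
    obtain ⟨b', hbb', hratio⟩ : ∃ b', f0 b b' = 1 ∧ g u (R b') / g u (R b) ∉ F₀ := by
      obtain ⟨w, hw⟩ : ∃ w, g u (R w) / g u (R b) ∉ F₀ := by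
        by_contra! h
        obtain ⟨w, hw⟩ := hvals u _ hb h
        exact hu0 _ w hw
      have scale : ∀ y, f0 b y ≠ 0 → g u (R y) / g u (R b) ∉ F₀ →
          ∃ b', f0 b b' = 1 ∧ g u (R b') / g u (R b) ∉ F₀ := by
        intro y hy hy'
        refine ⟨(f0 b y)⁻¹ • y, by rw [hb0.smul_right, inv_mul_cancel₀ hy], fun h => hy' ?_⟩
        rw [hRdef, SubfieldRational.rat_smul, hgb.smul_right, mul_div_assoc] at h
        have hne : (((f0 b y)⁻¹ : F₀) : F) ≠ 0 := fun h0 => inv_ne_zero hy (Subtype.ext h0)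
        have := F₀.div_mem h ((f0 b y)⁻¹).2
        rwa [mul_div_cancel_left₀ _ hne] at this
      by_cases h : f0 b w = 0
      · obtain ⟨z, hz⟩ := (hf0.nondegenerate b hb00).2
        by_cases hz' : g u (R z) / g u (R b) ∈ F₀
        · refine scale (w + z) (by rwa [hb0.add_right, h, zero_add]) fun h' => hw ?_
          have := F₀.sub_mem h' hz'
          rwa [hRdef, SubfieldRational.rat_add, hgb.add_right, add_div, add_sub_cancel_right] at this
        · exact scale z hz hz'
      · exact scale w h hw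
    have hb'b : g (R b') (R b) = -1 := by rw [hg.skew, hgR, hbb', OneMemClass.coe_one]
    have hbb'g : g (R b) (R b') = 1 := by rw [hgR, hbb', OneMemClass.coe_one]
    -- projection on the rational plane of e1, e2
    let proj : (Fin 2 ⊕ Fin 2 → F₀) → (Fin 2 ⊕ Fin 2 → F₀) → (Fin 2 ⊕ Fin 2 → F) →
        (Fin 2 ⊕ Fin 2 → F) := fun e1 e2 v => g v (R e2) • R e1 - g v (R e1) • R e2
    have hproj1 : ∀ {e1 e2}, f0 e1 e2 = 1 → ∀ v, g (proj e1 e2 v) (R e1) = g v (R e1) ∧
        g (proj e1 e2 v) (R e2) = g v (R e2) ∧ g v (proj e1 e2 v) = 0 := by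
      intro e1 e2 he v
      have ha : g (R e1) (R e2) = 1 := by rw [hgR, he, OneMemClass.coe_one]
      have ha' : g (R e2) (R e1) = -1 := by rw [hg.skew, ha]
      simp only [proj, TransvectionMax.sub_left hgb, TransvectionMax.sub_right hgb, hgb.smul_left,
        hgb.smul_right, hg.alternating, ha, ha']
      exact ⟨by ring, by ring, by ring⟩
    -- the mirror element
    have hmir : ∀ {e1 e2}, f0 e1 e2 = 1 → ∀ {v c}, st g v c ∈ M →
        sg g (proj e1 e2 v) (v - proj e1 e2 v) (2 * c) ∈ M := by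
      intro e1 e2 he v c hv
      obtain ⟨hp1, hp2, hvp⟩ := hproj1 he v
      have ha : g (R e1) (R e2) = 1 := by rw [hgR, he, OneMemClass.coe_one]
      have ha' : g (R e2) (R e1) = -1 := by rw [hg.skew, ha]
      set s := st g (R e1) 1 * st g (R e2) 1 * st g (R e1) 1
      have hs : s ∈ M := M.mul_mem (M.mul_mem (hT1 e1) (hT1 e2)) (hT1 e1)
      have h1 := hconj (M.mul_mem hs hs) hv
      have h3 : ((s * s : GL (Fin 2 ⊕ Fin 2) F) : Matrix (Fin 2 ⊕ Fin 2) (Fin 2 ⊕ Fin 2) F) *ᵥ v = v - (2 : F) • proj e1 e2 v := by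
        simp only [s, proj, mul_act, st_act hg, one_mul, hgb.add_left, hgb.smul_left, hg.alternating, ha, ha']
        module
      rw [h3] at h1
      have h4 : (st g (v - (2 : F) • proj e1 e2 v) c)⁻¹ = st g (v - (2 : F) • proj e1 e2 v) (-c) :=
        inv_eq_of_mul_eq_one_right (by rw [st_add hg, add_neg_cancel, st_zero hg])
      rw [← st_mirror hg hvp]
      exact M.mul_mem hv (h4 ▸ M.inv_mem h1)
    have hcomm : ∀ {p z : Fin 2 ⊕ Fin 2 → F} {κ y}, g p z = 0 → g p (R y) = 0 → sg g p z κ ∈ M →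
        st g p (2 * κ ^ 2 * (g z (R y) * g (R y) z)) ∈ M := by
      intro p z κ y hpz hpy h
      have h1 := hsconj (hT1 y) h
      rw [st_act hg, st_act hg, hpy, mul_zero, zero_smul, add_zero, one_mul] at h1
      set z' := z + g z (R y) • R y
      have hpz' : g p z' = 0 := by rw [hgb.add_right, hpz, hgb.smul_right, hpy, mul_zero, add_zero]
      have h3 := M.mul_mem (M.mul_mem h h1) (M.inv_mem (M.mul_mem h1 h))
      rw [sg_commutator hg hpz hpz', mul_inv_cancel_right] at h3
      have h4 : g z' z = g z (R y) * g (R y) z := by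
        rw [hgb.add_left, hg.alternating, zero_add, hgb.smul_left]
      rwa [h4] at h3
    set p := proj b b' u with hpdef
    obtain ⟨hp1, hp2, hup⟩ := hproj1 hbb' u
    have hpu : g p (u - p) = 0 := by
      rw [TransvectionMax.sub_right hgb, hg.alternating, TransvectionSymp.skew_zero hg hup, sub_zero]
    obtain ⟨c2, hc20, hc2⟩ : ∃ c, c ≠ 0 ∧ st g p c ∈ M := by
      by_cases hz : ∃ y, f0 b y = 0 ∧ f0 b' y = 0 ∧ g u (R y) ≠ 0
      · obtain ⟨y, hy1, hy2, hy⟩ := hz
        have hpy : g p (R y) = 0 := by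
          simp only [hpdef, proj, TransvectionMax.sub_left hgb, hgb.smul_left, hgR0 hy1, hgR0 hy2,
            mul_zero, sub_zero]
        have h := hcomm hpu hpy (hmir hbb' hu)
        have h5 : g (u - p) (R y) = g u (R y) := by rw [TransvectionMax.sub_left hgb, hpy, sub_zero]
        rw [hg.skew (R y) (u - p), h5] at h
        refine ⟨_, ?_, h⟩
        exact mul_ne_zero (mul_ne_zero h2 (pow_ne_zero _ (mul_ne_zero h2 one_ne_zero)))
          (mul_ne_zero hy (neg_ne_zero.mpr hy))
      · push Not at hz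
        refine ⟨1, one_ne_zero, ?_⟩
        have h6 : u = p := by
          by_contra hne
          obtain ⟨x, hx⟩ := (hg.nondegenerate _ (sub_ne_zero.mpr hne)).1
          apply hx
          refine SubfieldRational.eq_zero_of_rat (F₀ := F₀) P (fLeft hgb (u - p)) (fun x => ?_) x
          change g (R x) (u - p) = 0
          rw [hg.skew, TransvectionMax.sub_left hgb, neg_eq_zero]
          set y := x - f0 x b' • b - f0 b x • b'
          have hx' : x = y + f0 x b' • b + f0 b x • b' := by simp only [y]; abel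
          have hy1 : f0 b y = 0 := by
            simp only [y, TransvectionMax.sub_right hb0, hb0.smul_right, hf0.alternating, hbb']; ring
          have hy2 : f0 b' y = 0 := by
            simp only [y, TransvectionMax.sub_right hb0, hb0.smul_right, hf0.alternating,
              hf0.skew b' b, hf0.skew b' x, hbb']
            ring
          have hpy : g p (R y) = 0 := by
            simp only [hpdef, proj, TransvectionMax.sub_left hgb, hgb.smul_left, hgR0 hy1, hgR0 hy2,
              mul_zero, sub_zero]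
          rw [hx']
          simp only [hRdef, SubfieldRational.rat_add, SubfieldRational.rat_smul, hgb.add_right,
            hgb.smul_right]
          rw [show g u (SubfieldRational.rat P y) = 0 from hz y hy1 hy2,
            show g p (SubfieldRational.rat P y) = 0 from hpy,
            show g p (SubfieldRational.rat P b) = g u (SubfieldRational.rat P b) from hp1,
            show g p (SubfieldRational.rat P b') = g u (SubfieldRational.rat P b') from hp2]
          ring
        rw [← h6]; exact hu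
    obtain ⟨b3, hb3, hb3n⟩ := exists_perp_notMem hb0 (Submodule.span F₀ (Set.range ![b, b']))
      (⊥ : Submodule F₀ _) (by have := fr_range ![b, b']; rw [finrank_bot]; omega)
    have hbb3 : f0 b b3 = 0 := mem_perp_range hb0 hb3 0
    have hb'b3 : f0 b' b3 = 0 := mem_perp_range hb0 hb3 1
    have hb30 : b3 ≠ 0 := fun h => hb3n (h ▸ Submodule.zero_mem _)
    have hpl : f0 b (b' + b3) = 1 := by rw [hb0.add_right, hbb', hbb3, add_zero]
    set α := g u (R b')
    set β := g u (R b)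
    have hpb : g p (R b) = β := hp1
    have hpb' : g p (R b') = α := hp2
    have hpb3 : g p (R b3) = 0 := by
      simp only [hpdef, proj, TransvectionMax.sub_left hgb, hgb.smul_left, hgR0 hbb3, hgR0 hb'b3,
        mul_zero, sub_zero]
    obtain ⟨hq1, hq2, hpq⟩ := hproj1 hpl p
    set q := proj b (b' + b3) p with hqdef
    have hz : p - q = β • R b3 := by
      simp only [hqdef, proj, hRdef, SubfieldRational.rat_add]
      rw [hgb.add_right]
      rw [show g p (SubfieldRational.rat P b') = α from hpb', show g p (SubfieldRational.rat P b3) = 0 from hpb3,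
        show g p (SubfieldRational.rat P b) = β from hpb, add_zero]
      simp only [hpdef, proj, hRdef, α, β]
      module
    have hqb3 : g q (R b3) = 0 := by
      simp only [hqdef, proj, TransvectionMax.sub_left hgb, hgb.smul_left, hgR0 hbb3,
        hgR0 (show f0 (b' + b3) b3 = 0 by rw [hb0.add_left, hb'b3, hf0.alternating, add_zero]),
        mul_zero, sub_zero]
    have hX := hmir hpl hc2
    rw [← hqdef, hz, sg_comm hg (by rw [hgb.smul_right, hqb3, mul_zero])] at hX
    set K := 2 * (2 * c2) ^ 2 * β ^ 2 with hKdef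
    have hK : K ≠ 0 := mul_ne_zero (mul_ne_zero h2 (pow_ne_zero _ (mul_ne_zero h2 hc20))) (pow_ne_zero _ hb)
    have hCy : ∀ y, f0 b3 y = 0 → C (K * (g q (R y)) ^ 2) := by
      intro y hy
      have h := hcomm (y := y) (by rw [hgb.smul_left, TransvectionSymp.skew_zero hg hqb3, mul_zero])
        (by rw [hgb.smul_left, hgR0 hy, mul_zero]) hX
      rw [st_smul hg, hg.skew (R y) q] at h
      have h' : C _ := hCall hb30 h
      have := hCneg h'
      convert this using 1
      rw [hKdef]; ring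
    have hqb : g q (R b) = β := hq1.trans hpb
    have hqb' : g q (R (b' + b3)) = α := by
      rw [hq2, hRdef, SubfieldRational.rat_add, hgb.add_right]
      exact (congrArg₂ (· + ·) hpb' hpb3).trans (add_zero _)
    have c1 := hCy b (TransvectionSymp.skew_zero hf0 hbb3)
    have c2' := hCy (b' + b3) (by
      rw [hb0.add_right, TransvectionSymp.skew_zero hf0 hb'b3, hf0.alternating, add_zero])
    have c3 := hCy (b + (b' + b3)) (by
      rw [hb0.add_right, hb0.add_right, TransvectionSymp.skew_zero hf0 hbb3,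
        TransvectionSymp.skew_zero hf0 hb'b3, hf0.alternating, add_zero, add_zero])
    rw [hqb] at c1
    rw [hqb'] at c2'
    rw [hRdef, SubfieldRational.rat_add, hgb.add_right] at c3
    rw [show g q (SubfieldRational.rat P b) = β from hqb,
      show g q (SubfieldRational.rat P (b' + b3)) = α from hqb'] at c3
    have hKD : D (K * β ^ 2) := hCD c1
    have hKD' : D (K * (α * β)) := by
      have h7 := hDscale (2⁻¹ : F₀) (hDadd (hCD c3) (hDneg (hDadd (hCD c1) (hCD c2'))))
      convert h7 using 1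
      push_cast
      rw [show ((2 : F₀) : F) = 2 from map_ofNat F₀.subtype 2]
      field_simp
      ring
    by_contra! hall
    apply hratio
    have := F₀.div_mem (hall _ hKD') (hall _ hKD)
    convert this using 1
    field_simp
  -- the full root groups
  let Dalg : Subalgebra F₀ F :=
    { carrier := {κ | D κ}
      mul_mem' := fun ha hb => hDmul ha hb
      add_mem' := fun ha hb => hDadd ha hb
      one_mem' := by simpa using hD0 1
      zero_mem' := by simpa using hD0 0
      algebraMap_mem' := fun t => hD0 t }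
  have hDall : ∀ κ, D κ := fun κ => by
    have : κ ∈ Dalg := SubfieldRational.subalgebra_eq_top hr hcard Dalg (x := δ) hδ hδ0 ▸ Algebra.mem_top
    exact this
  have hCC : ∀ c, C c := by
    intro c
    have := hCadd (hDsq (hDall ((c + 1) / 2))) (hCneg (hDsq (hDall ((c - 1) / 2))))
    convert this using 1
    field_simp
    ring
  let S : (Fin 2 ⊕ Fin 2 → F) → Prop := fun x => ∀ c, st g x c ∈ M
  have hSR : ∀ a, S (R a) := fun a c => hCC c a
  have hSsmul : ∀ {x} (s : F), S x → S (s • x) := fun s hx c => by rw [st_smul hg]; exact hx _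
  have hScomb : ∀ {x y}, S x → S y → g x y ≠ 0 → S (x + y) := by
    intro x y hx hy hxy c
    have h := hconj (hy (g x y)⁻¹) (hx c)
    rwa [st_act hg, inv_mul_cancel₀ hxy, one_smul] at h
  have hSaddR : ∀ {x} v, S x → S (x + R v) := by
    intro x v hx
    by_cases hxv : g x (R v) ≠ 0
    · exact hScomb hx (hSR v) hxv
    push Not at hxv
    rcases eq_or_ne v 0 with rfl | hv0
    · rwa [hRdef, SubfieldRational.rat_zero, add_zero]
    by_cases hall : ∀ z, f0 v z = 1 → g x (R z) ∈ F₀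
    · obtain ⟨z0, hz0⟩ := (hf0.nondegenerate v hv0).2
      set z1 := (f0 v z0)⁻¹ • z0
      have hz1 : f0 v z1 = 1 := by rw [hb0.smul_right, inv_mul_cancel₀ hz0]
      obtain ⟨w, hw⟩ := hvals x 1 one_ne_zero fun y => by
        rw [div_one]
        have h1 := hall z1 hz1
        have h2 := hall (y + (1 - f0 v y) • z1) (by
          rw [hb0.add_right, hb0.smul_right, hz1]; ring)
        rw [hRdef, SubfieldRational.rat_add, SubfieldRational.rat_smul, hgb.add_right, hgb.smul_right] at h2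
        have := F₀.sub_mem h2 (F₀.mul_mem (1 - f0 v y).2 h1)
        convert this using 1
        simp only [hRdef]
        ring
      rw [hw, one_smul, hRdef, ← SubfieldRational.rat_add]
      exact hSR _
    push Not at hall
    obtain ⟨z, hz, hxz⟩ := hall
    have hxz0 : g x (R z) ≠ 0 := fun h => hxz (by rw [h]; exact F₀.zero_mem)
    have hvz : g (R v) (R z) = 1 := by rw [hgR, hz, OneMemClass.coe_one]
    have h1 := hScomb hx (hSR z) hxz0
    have h2 := hScomb h1 (hSR v) (by
      rw [hgb.add_left, hxv, zero_add, hg.skew, hvz]; exact neg_ne_zero.mpr one_ne_zero)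
    have h3 := hScomb h2 (hSsmul (-1) (hSR z)) (by
      rw [hgb.smul_right, hgb.add_left, hgb.add_left, hg.alternating, add_zero, hvz]
      intro h
      apply hxz
      have h4 : g x (R z) = ((-1 : F₀) : F) := by push_cast; linear_combination -h
      rw [h4]; exact (-1 : F₀).2)
    have h5 : x + R z + R v + (-1 : F) • R z = x + R v := by module
    rwa [h5] at h3
  have hSall : ∀ x, S x := by
    intro x
    obtain ⟨y, rfl⟩ := SubfieldRational.exists_combination (F₀ := F₀) P x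
    induction (Finset.univ : Finset (Fin 2 ⊕ Fin 2)) using Finset.induction with
    | empty =>
      rw [Finset.sum_empty, ← SubfieldRational.rat_zero (F₀ := F₀) P]
      exact hSR 0
    | insert i t hit ih =>
      rw [Finset.sum_insert hit, add_comm]
      rcases eq_or_ne (y i) 0 with hy | hy
      · rwa [hy, zero_smul, add_zero]
      · have := hSsmul (y i) (hSaddR (Pi.single i 1) (hSsmul (y i)⁻¹ ih))
        rwa [smul_add, smul_smul, mul_inv_cancel₀ hy, one_smul] at this
  intro k hk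
  exact isometry_mem hg (fun v c => hSall v c) k (hgK hk)

end Cfsg.Agent.SympSubfieldFour83
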