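import Mathlib
import Cfsg.Agent.Lib.SympDecompPeel92
import Cfsg.Agent.Lib.SympPrimeElements
import Cfsg.Agent.Lib.SymplecticAlt
import Cfsg.Agent.Lib.SemisimpleConjGL

/-!
Invariant totally isotropic subspaces of an isometry of prime order of a symplectic space.
-/

set_option autoImplicit false
set_option linter.unusedSectionVars false

namespace Cfsg.Agent.SympTIPeel92

open Module Polynomial Cfsg.Agent.SymplecticBasic Cfsg.Agent.SympDecompPeel92

variable {F : Type*} [Field F] {d : ℕ}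

/-- Totally isotropic and invariant. -/
structure TIInv (g : Module.End F (Fin d ⊕ Fin d → F)) (S : Submodule F (Fin d ⊕ Fin d → F)) : Prop where
  iso : ∀ u ∈ S, ∀ v ∈ S, sympForm d F u v = 0
  inv : ∀ v ∈ S, g v ∈ S

theorem tiInv_bot (g : Module.End F (Fin d ⊕ Fin d → F)) : TIInv g ⊥ :=
  ⟨fun u hu v _ => by rw [(Submodule.mem_bot F).1 hu]; simp [sympForm],
    fun v hv => by rw [(Submodule.mem_bot F).1 hv, map_zero]; exact Submodule.zero_mem _⟩

/-- Orthogonal pieces add up. -/
theorem tiInv_sup {g : Module.End F (Fin d ⊕ Fin d → F)} {S S' P : Submodule F (Fin d ⊕ Fin d → F)}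
    (hS : TIInv g S) (hS' : TIInv g S') (hSP : S ≤ P) (hP : NondegOn P) (hS'P : S' ≤ perp P) :
    TIInv g (S ⊔ S') ∧ finrank F ↥(S ⊔ S') = finrank F S + finrank F S' := by
  refine ⟨⟨fun u hu v hv => ?_, fun v hv => ?_⟩, ?_⟩
  · obtain ⟨a, ha, b, hb, rfl⟩ := Submodule.mem_sup.1 hu
    obtain ⟨a', ha', b', hb', rfl⟩ := Submodule.mem_sup.1 hv
    have h1 : sympForm d F b a' = 0 := hS'P hb a' (hSP ha')
    have h2 : sympForm d F a b' = 0 := by rw [form_swap b' a, hS'P hb' a (hSP ha), neg_zero]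
    rw [form_add_left, form_add_right, form_add_right, hS.iso a ha a' ha', hS'.iso b hb b' hb', h1, h2]
    simp
  · obtain ⟨a, ha, b, hb, rfl⟩ := Submodule.mem_sup.1 hv
    rw [map_add]
    exact Submodule.add_mem_sup (hS.inv a ha) (hS'.inv b hb)
  · have h := Submodule.finrank_sup_add_finrank_inf_eq S S'
    rw [show S ⊓ S' = ⊥ from le_bot_iff.1 ((inf_le_inf hSP hS'P).trans (inf_perp_eq_bot hP).le),
      finrank_bot, add_zero] at h
    exact h

/-- A totally isotropic subspace of a nondegenerate one has at most half its dimension. -/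
theorem two_mul_finrank_le {N S : Submodule F (Fin d ⊕ Fin d → F)} (hN : NondegOn N) (hSN : S ≤ N)
    (hS : ∀ u ∈ S, ∀ v ∈ S, sympForm d F u v = 0) : 2 * finrank F S ≤ finrank F N := by
  let S' : Submodule F N := S.comap N.subtype
  let ψ : S →ₗ[F] Module.Dual F N := (LinearMap.lcomp F F N.subtype).comp (bil.comp S.subtype)
  have hψ : Function.Injective ψ := by
    rw [injective_iff_map_eq_zero]
    intro s hs
    by_contra h0
    obtain ⟨z, hz, hne⟩ := hN s.1 (hSN s.2) fun e => h0 (Subtype.ext e)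
    exact hne (LinearMap.congr_fun hs ⟨z, hz⟩)
  have hle : LinearMap.range ψ ≤ S'.dualAnnihilator := by
    rintro _ ⟨s, rfl⟩
    rw [Submodule.mem_dualAnnihilator]
    exact fun v hv => hS s.1 s.2 v.1 hv
  have h1 := Submodule.finrank_mono hle
  rw [LinearMap.finrank_range_of_inj hψ] at h1
  have h2 := Subspace.finrank_add_finrank_dualAnnihilator_eq S'
  rw [(Submodule.comapSubtypeEquivOfLe hSN).finrank_eq] at h2
  omega

/-- Totally isotropic subspaces of all small dimensions. -/
theorem exists_TI_sub {N : Submodule F (Fin d ⊕ Fin d → F)} (hN : NondegOn N) {l : ℕ}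
    (hl : 2 * l ≤ finrank F N) :
    ∃ S ≤ N, (∀ u ∈ S, ∀ v ∈ S, sympForm d F u v = 0) ∧ finrank F S = l := by
  obtain ⟨k, hk, e, he, hee⟩ := SymplecticAlt.exists_symp_basis bil (fun v => form_self v) _ N rfl
    fun u hu h => by
      by_contra h0
      obtain ⟨z, hz, hne⟩ := hN u hu h0
      exact hne (h z hz)
  have hlk : l ≤ k := by omega
  have hiso : ∀ a b : Fin k, sympForm d F (e (Sum.inl a)) (e (Sum.inl b)) = 0 := fun a b => by
    rw [← bil_apply, hee, form_single_inl_right]; simp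
  let v : Fin l → (Fin d ⊕ Fin d → F) := fun a => e (Sum.inl (Fin.castLE hlk a))
  have hpair : ∀ a b : Fin k, sympForm d F (e (Sum.inl a)) (e (Sum.inr b)) = if a = b then -1 else 0 := fun a b => by
    rw [← bil_apply, hee, form_single_inr_right]
    split_ifs with h
    · subst h; simp
    · rw [Pi.single_apply, if_neg (fun e => h (Sum.inl_injective e).symm), neg_zero]
  have hli : LinearIndependent F v := by
    rw [Fintype.linearIndependent_iff]
    intro w hw a
    have h1 := congrArg (fun y => bil y (e (Sum.inr (Fin.castLE hlk a)))) hw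
    simp only [map_sum, map_smul, LinearMap.sum_apply, LinearMap.smul_apply, smul_eq_mul, bil_apply,
      map_zero, LinearMap.zero_apply, v, hpair] at h1
    rw [Finset.sum_eq_single a] at h1
    · simpa using h1
    · intro b _ hb
      rw [if_neg (fun e => hb (Fin.castLE_injective hlk e)), mul_zero]
    · exact fun h => absurd (Finset.mem_univ _) h
  refine ⟨Submodule.span F (Set.range v), Submodule.span_le.2 (by rintro _ ⟨a, rfl⟩; exact he _), ?_,
    by rw [finrank_span_eq_card hli, Fintype.card_fin]⟩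
  intro x hx y hy
  obtain ⟨c, rfl⟩ := (Submodule.mem_span_range_iff_exists_fun F).1 hx
  obtain ⟨c', rfl⟩ := (Submodule.mem_span_range_iff_exists_fun F).1 hy
  rw [← bil_apply, map_sum]
  refine Finset.sum_eq_zero fun a _ => ?_
  rw [map_smul, map_sum, LinearMap.sum_apply]
  simp [v, bil_apply, hiso]

variable {g : Module.End F (Fin d ⊕ Fin d → F)} {r : ℕ}

/-- Invariant splitting into fixed and moved part. -/
theorem fixed_split (hi : Iso r g) (hr : 0 < r) :
    NondegOn (fixedSp g) ∧ NondegOn (perp (fixedSp g)) ∧ (∀ v ∈ perp (fixedSp g), g v ∈ perp (fixedSp g)) ∧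
      perp (fixedSp g) ⊓ fixedSp g = ⊥ ∧
      finrank F ↥(fixedSp g) + finrank F ↥(perp (fixedSp g)) = 2 * d := by
  have hc := (PrimeOrderModule84.isCompl_ker_range hi.hr hi.pow).sup_eq_top
  have hn : NondegOn (fixedSp g) := by
    intro u hu hu0
    by_contra hz
    push Not at hz
    refine hu0 (form_nondeg fun w => ?_)
    obtain ⟨a, ha, b, ⟨c, rfl⟩, rfl⟩ := Submodule.mem_sup.1 (hc.ge (Submodule.mem_top (x := w)))
    rw [form_add_right, hz a ha, zero_add, LinearMap.sub_apply, Module.End.one_apply, form_sub_right]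
    conv_lhs => arg 1; rw [← mem_fixedSp.1 hu]
    rw [hi.form, sub_self]
  obtain ⟨-, hn', hdim⟩ := split (le_top : fixedSp g ≤ ⊤) hn nondegOn_top
  rw [top_inf_eq] at hn' hdim
  refine ⟨hn, hn', hi.inv_perp hr fun v hv => by rw [mem_fixedSp.1 hv]; exact hv,
    by rw [inf_comm]; exact inf_perp_eq_bot hn, ?_⟩
  rw [hdim, finrank_top, Module.finrank_pi, Fintype.card_sum, Fintype.card_fin]
  omega

/-- Two orthogonal nondegenerate pieces of the same self-dual type contain an isotropic one. -/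
theorem exists_TI_pair [Fintype F] (hform : ∀ u v, sympForm d F (g u) (g v) = sympForm d F u v)
    {μ : F[X]} (hμ : Irreducible μ) (hμm : μ.Monic) {k : ℕ} (hμd : μ.natDegree = 2 * k) (hk : 0 < k)
    (hQ : g ^ (Fintype.card F ^ k) * g = 1)
    {P₁ P₂ : Submodule F (Fin d ⊕ Fin d → F)} (hP₁ : NondegOn P₁) (hP₂ : NondegOn P₂)
    (hg₁ : ∀ v ∈ P₁, g v ∈ P₁) (hg₂ : ∀ v ∈ P₂, g v ∈ P₂)
    (hd₁ : finrank F P₁ = 2 * k) (hd₂ : finrank F P₂ = 2 * k) (horth : P₂ ≤ perp P₁)
    (hk₁ : ∀ v ∈ P₁, aeval g μ v = 0) (hk₂ : ∀ v ∈ P₂, aeval g μ v = 0) :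
    ∃ S ≤ P₁ ⊔ P₂, TIInv g S ∧ finrank F S = 2 * k := by
  classical
  haveI : Fact (Irreducible μ) := ⟨hμ⟩
  haveI : Module.Finite F (AdjoinRoot μ) := hμm.finite_adjoinRoot
  haveI : Finite (AdjoinRoot μ) := Module.finite_of_finite F
  haveI : Fintype (AdjoinRoot μ) := Fintype.ofFinite _
  set Q := Fintype.card F ^ k with hQdef
  have hdimK : finrank F (AdjoinRoot μ) = 2 * k := by
    rw [(AdjoinRoot.powerBasis' hμm).finrank, AdjoinRoot.powerBasis'_dim, hμd]
  have hcardK : Nat.card (AdjoinRoot μ) = Q * Q := by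
    rw [Module.natCard_eq_pow_finrank (K := F), hdimK, Nat.card_eq_fintype_card, hQdef, ← pow_add, two_mul]
  set T := P₁ ⊔ P₂ with hT
  have hgT : ∀ v ∈ T, g v ∈ T := by
    intro v hv
    obtain ⟨a, ha, b, hb, rfl⟩ := Submodule.mem_sup.1 hv
    rw [map_add]
    exact Submodule.add_mem_sup (hg₁ a ha) (hg₂ b hb)
  have hkT : ∀ v ∈ T, aeval g μ v = 0 := by
    intro v hv
    obtain ⟨a, ha, b, hb, rfl⟩ := Submodule.mem_sup.1 hv
    rw [map_add, hk₁ a ha, hk₂ b hb, add_zero]
  set gT : Module.End F T := g.restrict hgT with hgTdef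
  have hcoe : ∀ (p : F[X]) (u : T), ((aeval gT p u : T) : Fin d ⊕ Fin d → F) = aeval g p u.1 := by
    intro p
    induction p using Polynomial.induction_on with
    | C a => intro u; simp [Module.algebraMap_end_apply]
    | add a b ha hb => intro u; simp [map_add, ha, hb]
    | monomial n a ih =>
      intro u
      rw [pow_succ, ← mul_assoc]
      generalize hq : C a * X ^ n = q at ih ⊢
      simp only [map_mul, aeval_X, Module.End.mul_apply]
      rw [ih]
      rfl
  have hz : aeval gT μ = 0 := LinearMap.ext fun u => Subtype.ext (by rw [hcoe]; exact hkT u.1 u.2)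
  let φ : AdjoinRoot μ →ₐ[F] Module.End F T :=
    Ideal.Quotient.liftₐ (Ideal.span ({μ} : Set F[X])) (aeval gT) fun p hp => by
      obtain ⟨q, rfl⟩ := Ideal.mem_span_singleton'.1 hp
      rw [map_mul, hz, mul_zero]
  have hφ : ∀ p : F[X], φ (AdjoinRoot.mk μ p) = aeval gT p := fun p => rfl
  -- the adjoint
  have hadj : ∀ (c : AdjoinRoot μ) (u w : T),
      sympForm d F (φ c u : T).1 w.1 = sympForm d F u.1 (φ (c ^ Q) w : T).1 := by
    intro c u w
    obtain ⟨p, rfl⟩ := AdjoinRoot.mk_surjective c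
    rw [← map_pow, hφ, hφ, hcoe, hcoe, map_pow, ← SympPrimeElements.aeval_pow_card rfl g p k]
    refine SympPrimeElements.adj_aeval (fun u v => ?_) p _ _
    have hgQ : g ((g ^ Q) v) = v := by
      rw [← Module.End.mul_apply, ← pow_succ', pow_succ, hQ]; rfl
    conv_lhs => rw [← hgQ]
    rw [hform]
  have hinjφ : ∀ (u : T), u ≠ 0 → Function.Injective fun c => φ c u := by
    intro u hu a b hab
    by_contra hne
    have h0 : φ (a - b) u = 0 := by rw [map_sub, LinearMap.sub_apply, sub_eq_zero]; exact hab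
    apply hu
    have := congrArg (φ (a - b)⁻¹) h0
    rwa [← Module.End.mul_apply, ← map_mul, inv_mul_cancel₀ (sub_ne_zero.2 hne), map_one, map_zero,
      Module.End.one_apply] at this
  have hstab : ∀ {P : Submodule F (Fin d ⊕ Fin d → F)}, (∀ v ∈ P, g v ∈ P) → ∀ (u : T), u.1 ∈ P →
      ∀ c, (φ c u : T).1 ∈ P := by
    intro P hP u hu c
    obtain ⟨p, rfl⟩ := AdjoinRoot.mk_surjective c
    rw [hφ, hcoe]
    exact PrimeOrderModule84.aeval_mem (PrimeOrderModule84.map_le_iff'.2 hP) p hu
  -- the functional of a piece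
  have piece : ∀ {P : Submodule F (Fin d ⊕ Fin d → F)}, NondegOn P → (∀ v ∈ P, g v ∈ P) →
      finrank F P = 2 * k → P ≤ T →
      ∃ (v : T) (L : AdjoinRoot μ →ₗ[F] F), v.1 ∈ P ∧ v ≠ 0 ∧ L ≠ 0 ∧
        (∀ c e, sympForm d F (φ c v : T).1 (φ e v : T).1 = L (c * e ^ Q)) ∧ ∀ c, L (c ^ Q) = - L c := by
    intro P hPn hPg hPd hPT
    obtain ⟨v, hv, hv0⟩ := Submodule.exists_mem_ne_zero_of_ne_bot (p := P) fun e => by
      rw [e, finrank_bot] at hPd; omega
    let u : T := ⟨v, hPT hv⟩
    have hu0 : u ≠ 0 := fun e => hv0 (congrArg Subtype.val e)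
    let L : AdjoinRoot μ →ₗ[F] F :=
      (bil.flip v).comp (T.subtype.comp ((LinearMap.applyₗ u).comp φ.toLinearMap))
    have hL : ∀ c, L c = sympForm d F (φ c u : T).1 u.1 := fun c => rfl
    have hQQ : ∀ c : AdjoinRoot μ, (c ^ Q) ^ Q = c := fun c => by
      rw [← pow_mul, ← hcardK, Nat.card_eq_fintype_card, FiniteField.pow_card]
    refine ⟨u, L, hv, hu0, ?_, fun c e => ?_, fun c => ?_⟩
    · intro hL0
      obtain ⟨w, hw, hne⟩ := hPn v hv hv0
      let ι : AdjoinRoot μ →ₗ[F] P := (T.subtype.comp ((LinearMap.applyₗ u).comp φ.toLinearMap)).codRestrict P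
        (fun c => hstab hPg u hv c)
      have hι : Function.Injective ι := fun a b h => hinjφ u hu0 (Subtype.ext (congrArg Subtype.val h :))
      obtain ⟨c, hc⟩ := (LinearMap.injective_iff_surjective_of_finrank_eq_finrank (hdimK.trans hPd.symm)).1 hι
        ⟨w, hw⟩
      apply hne
      have hc' : (φ c u : T).1 = w := congrArg Subtype.val hc
      have h0 : sympForm d F (φ c u : T).1 v = 0 := (hL c).symm.trans (LinearMap.congr_fun hL0 c)
      rw [form_swap w v, ← hc', h0, neg_zero]
    · rw [hL, hadj c u, hadj (c * e ^ Q) u u, mul_pow, hQQ, map_mul]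
      rfl
    · rw [hL, hL, hadj, hQQ, form_swap (φ c u : T).1 u.1]
  obtain ⟨v₁, L₁, hv₁, hv₁0, -, hf₁, hs₁⟩ := piece hP₁ hg₁ hd₁ le_sup_left
  obtain ⟨v₂, L₂, hv₂, hv₂0, hL₂, hf₂, hs₂⟩ := piece hP₂ hg₂ hd₂ le_sup_right
  obtain ⟨-, L₁', -, -, hL₁', -, -⟩ := piece hP₁ hg₁ hd₁ le_sup_left
  -- `b` with `L₁ = - L₂ (· b)`
  let Ψ : AdjoinRoot μ →ₗ[F] Module.Dual F (AdjoinRoot μ) :=
    (LinearMap.mul F (AdjoinRoot μ)).compr₂ L₂
  have hΨ : ∀ b c, Ψ b c = L₂ (b * c) := fun b c => rfl
  have hΨi : Function.Injective Ψ := by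
    rw [injective_iff_map_eq_zero]
    intro b hb
    by_contra hb0
    refine hL₂ (LinearMap.ext fun c => ?_)
    have := LinearMap.congr_fun hb (b⁻¹ * c)
    rwa [hΨ, ← mul_assoc, mul_inv_cancel₀ hb0, one_mul] at this
  obtain ⟨b, hb⟩ := (LinearMap.injective_iff_surjective_of_finrank_eq_finrank
    (Subspace.dual_finrank_eq (K := F) (V := AdjoinRoot μ)).symm).1 hΨi (-L₁)
  have hb' : ∀ c, L₂ (b * c) = - L₁ c := fun c => (hΨ b c).symm.trans (LinearMap.congr_fun hb c)
  have hQQ : ∀ c : AdjoinRoot μ, (c ^ Q) ^ Q = c := fun c => by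
    rw [← pow_mul, ← hcardK, Nat.card_eq_fintype_card, FiniteField.pow_card]
  have hbσ : b ^ Q = b := by
    refine hΨi (LinearMap.ext fun c => ?_)
    rw [hΨ, hΨ, hb', ← hQQ (b ^ Q * c), hs₂, mul_pow (b ^ Q), hQQ, hb', hs₁, neg_neg]
  obtain ⟨a, ha⟩ : ∃ a : AdjoinRoot μ, a * a ^ Q = b := by
    by_cases hb0 : b = 0
    · exact ⟨0, by simp [hb0]⟩
    obtain ⟨ζ, hζ⟩ := IsCyclic.exists_generator (α := (AdjoinRoot μ)ˣ)
    obtain ⟨j, hj⟩ := (mem_powers_iff_mem_zpowers.2 (hζ (Units.mk0 b hb0))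
      : Units.mk0 b hb0 ∈ Submonoid.powers ζ)
    have hQ2 : 2 ≤ Q := by
      rw [hQdef]
      exact le_trans Fintype.one_lt_card (Nat.le_self_pow hk.ne' _)
    have hord : orderOf ζ = (Q + 1) * (Q - 1) := by
      rw [orderOf_eq_card_of_forall_mem_zpowers hζ, Nat.card_units, hcardK]
      obtain ⟨Q', hQ'⟩ : ∃ Q', Q = Q' + 1 := ⟨Q - 1, by omega⟩
      rw [hQ']
      simp only [Nat.add_sub_cancel]
      have : (Q' + 1) * (Q' + 1) = (Q' + 1 + 1) * Q' + 1 := by ring
      omega
    have h1 : ζ ^ (j * (Q - 1)) = 1 := by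
      rw [pow_mul, show ζ ^ j = Units.mk0 b hb0 from hj]
      apply Units.ext
      rw [Units.val_pow_eq_pow_val, Units.val_mk0, Units.val_one]
      have h2 : b * b ^ (Q - 1) = b * 1 := by
        rw [← pow_succ', Nat.sub_add_cancel (by omega), hbσ, mul_one]
      exact mul_left_cancel₀ hb0 h2
    have h3 : (Q + 1) * (Q - 1) ∣ j * (Q - 1) := hord ▸ orderOf_dvd_of_pow_eq_one h1
    obtain ⟨e, he⟩ := Nat.dvd_of_mul_dvd_mul_right (by omega) h3
    refine ⟨((ζ ^ e : (AdjoinRoot μ)ˣ) : AdjoinRoot μ), ?_⟩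
    rw [← pow_succ', ← Units.val_pow_eq_pow_val, ← pow_mul, mul_comm e, ← he,
      show ζ ^ j = Units.mk0 b hb0 from hj, Units.val_mk0]
  set u := v₁ + φ a v₂ with hu
  have hu0 : u ≠ 0 := by
    intro e
    have h1 : v₁.1 + (φ a v₂ : T).1 = 0 := congrArg Subtype.val e
    have h2 : v₁.1 ∈ P₁ ⊓ perp P₁ := by
      refine ⟨hv₁, ?_⟩
      rw [eq_neg_of_add_eq_zero_left h1]
      exact Submodule.neg_mem _ (horth (hstab hg₂ v₂ hv₂ a))
    rw [inf_perp_eq_bot hP₁, Submodule.mem_bot] at h2
    exact hv₁0 (Subtype.ext h2)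
  let ι : AdjoinRoot μ →ₗ[F] (Fin d ⊕ Fin d → F) :=
    T.subtype.comp ((LinearMap.applyₗ u).comp φ.toLinearMap)
  have hι : ∀ c, ι c = (φ c u : T).1 := fun c => rfl
  refine ⟨LinearMap.range ι, by rintro _ ⟨c, rfl⟩; exact (φ c u).2, ⟨?_, ?_⟩, ?_⟩
  · rintro _ ⟨c, rfl⟩ _ ⟨e, rfl⟩
    have hz12 : ∀ c e, sympForm d F (φ c v₁ : T).1 (φ e v₂ : T).1 = 0 := fun c e => by
      rw [form_swap (φ e v₂ : T).1 _, horth (hstab hg₂ v₂ hv₂ e) _ (hstab hg₁ v₁ hv₁ c), neg_zero]
    have hz21 : ∀ c e, sympForm d F (φ c v₂ : T).1 (φ e v₁ : T).1 = 0 := fun c e =>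
      horth (hstab hg₂ v₂ hv₂ c) _ (hstab hg₁ v₁ hv₁ e)
    have hm : ∀ c, φ c (φ a v₂) = φ (c * a) v₂ := fun c => by rw [map_mul]; rfl
    rw [hι, hι, hu, map_add, map_add, hm, hm, Submodule.coe_add, Submodule.coe_add, form_add_left,
      form_add_right, form_add_right, hf₁, hf₂, hz12, hz21, add_zero, zero_add, mul_pow,
      show c * a * (e ^ Q * a ^ Q) = b * (c * e ^ Q) by rw [← ha]; ring, hb', add_neg_cancel]
  · rintro _ ⟨c, rfl⟩
    refine ⟨AdjoinRoot.root μ * c, ?_⟩
    rw [hι, hι, map_mul, Module.End.mul_apply, ← AdjoinRoot.mk_X, hφ, aeval_X]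
    rfl
  · rw [LinearMap.finrank_range_of_inj, hdimK]
    exact fun x y h => hinjφ u hu0 (Subtype.ext h)

variable [Fintype F] [Fact r.Prime]

/-- Isotropic invariant subspaces in a fixed-point-free space, odd order of `q`. -/
theorem exists_TI_odd (hi : Iso r g) (hr2 : r ≠ 2)
    (hodd : ¬ Even (orderOf (Fintype.card F : ZMod r))) : ∀ (j B : ℕ)
      (W : Submodule F (Fin d ⊕ Fin d → F)), NondegOn W → (∀ v ∈ W, g v ∈ W) → W ⊓ fixedSp g = ⊥ →
      finrank F W = B * (2 * orderOf (Fintype.card F : ZMod r)) → j ≤ B →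
      ∃ S ≤ W, TIInv g S ∧ finrank F S = j * orderOf (Fintype.card F : ZMod r) := by
  set i := orderOf (Fintype.card F : ZMod r) with hidef
  have hi0 : 0 < i := PrimeOrderModule84.orderOf_card_pos (F := F) hi.hr
  intro j
  induction j with
  | zero => exact fun B W _ _ _ _ _ => ⟨⊥, bot_le, tiInv_bot g, by rw [finrank_bot, zero_mul]⟩
  | succ j ih =>
    intro B W hW hWg hWf hd hjB
    have hne : ¬ W ≤ fixedSp g := fun h => by
      rw [inf_eq_left.2 h] at hWf
      rw [hWf, finrank_bot] at hd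
      have : 0 < B * (2 * i) := Nat.mul_pos (by omega) (by omega)
      omega
    obtain ⟨P, hPW, hPn, hPg, hPd, hPf⟩ := hi.exists_block hr2 hW hWg hne
    rw [blockDim, if_neg hodd, ← hidef] at hPd
    have hPr : P ≤ LinearMap.range (g - 1) := by
      intro v hv
      let D : P →ₗ[F] P := (g - 1).restrict (fun x hx => by simpa using P.sub_mem (hPg x hx) hx)
      have hD : Function.Injective D := by
        rw [injective_iff_map_eq_zero]
        intro x hx
        exact Subtype.ext ((Submodule.eq_bot_iff _).1 hPf x.1 ⟨x.2, congrArg Subtype.val hx⟩)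
      obtain ⟨x, hx⟩ := (LinearMap.injective_iff_surjective.1 hD) ⟨v, hv⟩
      exact ⟨x.1, congrArg Subtype.val hx⟩
    have hPne : P ≠ ⊥ := fun e => by rw [e, finrank_bot] at hPd; omega
    obtain ⟨M, hMP, hMg, hMd, -⟩ := hi.exists_irred hPg hPr hPne
    have hMti : TIInv g M := by
      refine ⟨fun u hu v hv => ?_, hMg⟩
      by_cases h0 : M ⊓ perp M = ⊥
      · exact absurd (by have := even_finrank (nondegOn_of_inf_perp h0); rwa [hMd] at this) hodd
      · have hinv : ∀ x ∈ M ⊓ perp M, g x ∈ M ⊓ perp M := fun x hx =>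
          ⟨hMg x hx.1, hi.inv_perp (Fact.out : r.Prime).pos hMg x hx.2⟩
        have hle : finrank F M ≤ finrank F ↥(M ⊓ perp M) := by
          rw [hMd]
          refine Nat.le_of_dvd (pos_iff_ne_zero.2 fun e => h0 (Submodule.finrank_eq_zero.1 e)) ?_
          exact PrimeOrderModule84.dvd_finrank_of_le_range hi.hr hi.pow
            (PrimeOrderModule84.map_le_iff'.2 hinv) (inf_le_left.trans (hMP.trans hPr))
        exact (Submodule.eq_of_le_of_finrank_le inf_le_left hle).ge hu |>.2 v hv
    obtain ⟨-, hn', hdim⟩ := split hPW hPn hW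
    obtain ⟨S, hSW, hS, hSd⟩ := ih (B - 1) (W ⊓ perp P) hn'
      (fun v hv => ⟨hWg v hv.1, hi.inv_perp (Fact.out : r.Prime).pos hPg v hv.2⟩)
      (le_bot_iff.1 ((inf_le_inf_right _ inf_le_left).trans hWf.le))
      (by rw [Nat.sub_mul, one_mul]; omega) (by omega)
    obtain ⟨h1, h2⟩ := tiInv_sup hMti hS hMP hPn (hSW.trans inf_le_right)
    exact ⟨M ⊔ S, sup_le (hMP.trans hPW) (hSW.trans inf_le_left), h1, by rw [h2, hMd, hSd]; ring⟩

/-- Isotropic invariant subspaces in a fixed-point-free space, even order of `q`. -/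
theorem exists_TI_even (hi : Iso r g) (hr2 : r ≠ 2)
    (hev : Even (orderOf (Fintype.card F : ZMod r))) (Sμ : Finset F[X])
    (hμ : ∀ μ ∈ Sμ, μ.Monic ∧ Irreducible μ ∧ μ.natDegree = orderOf (Fintype.card F : ZMod r))
    (hall : ∀ μ : F[X], μ.Monic → Irreducible μ → μ ∣ X ^ r - 1 → μ.eval 1 ≠ 0 → μ ∈ Sμ) : ∀ (j B : ℕ)
      (W : Submodule F (Fin d ⊕ Fin d → F)), NondegOn W → (∀ v ∈ W, g v ∈ W) → W ⊓ fixedSp g = ⊥ →
      finrank F W = B * orderOf (Fintype.card F : ZMod r) → 2 * j + Sμ.card ≤ B + 1 →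
      ∃ S ≤ W, TIInv g S ∧ finrank F S = j * orderOf (Fintype.card F : ZMod r) := by
  classical
  set i := orderOf (Fintype.card F : ZMod r) with hidef
  have hrp : r.Prime := Fact.out
  have hi0 : 0 < i := PrimeOrderModule84.orderOf_card_pos (F := F) hi.hr
  -- orthogonal blocks with their types
  have blocks : ∀ (s B : ℕ) (W : Submodule F (Fin d ⊕ Fin d → F)), NondegOn W → (∀ v ∈ W, g v ∈ W) →
      W ⊓ fixedSp g = ⊥ → finrank F W = B * i → s ≤ B →
      ∃ (P : Fin s → Submodule F (Fin d ⊕ Fin d → F)) (ty : Fin s → F[X]),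
        (∀ a, P a ≤ W ∧ NondegOn (P a) ∧ (∀ v ∈ P a, g v ∈ P a) ∧ finrank F (P a) = i ∧ ty a ∈ Sμ ∧
          ∀ v ∈ P a, aeval g (ty a) v = 0) ∧ ∀ a b, a < b → P b ≤ perp (P a) := by
    intro s
    induction s with
    | zero => exact fun B W _ _ _ _ _ => ⟨Fin.elim0, Fin.elim0, fun a => a.elim0, fun a => a.elim0⟩
    | succ s ih =>
      intro B W hW hWg hWf hd hsB
      have hne : ¬ W ≤ fixedSp g := fun h => by
        rw [inf_eq_left.2 h] at hWf
        rw [hWf, finrank_bot] at hd
        have : 0 < B * i := Nat.mul_pos (by omega) hi0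
        omega
      obtain ⟨P, hPW, hPn, hPg, hPd, hPf⟩ := hi.exists_block hr2 hW hWg hne
      rw [blockDim, if_pos hev, ← hidef] at hPd
      have hPr : P ≤ LinearMap.range (g - 1) := by
        intro v hv
        let D : P →ₗ[F] P := (g - 1).restrict (fun x hx => by simpa using P.sub_mem (hPg x hx) hx)
        have hD : Function.Injective D := by
          rw [injective_iff_map_eq_zero]
          intro x hx
          exact Subtype.ext ((Submodule.eq_bot_iff _).1 hPf x.1 ⟨x.2, congrArg Subtype.val hx⟩)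
        obtain ⟨x, hx⟩ := (LinearMap.injective_iff_surjective.1 hD) ⟨v, hv⟩
        exact ⟨x.1, congrArg Subtype.val hx⟩
      have hPne : P ≠ ⊥ := fun e => by rw [e, finrank_bot] at hPd; omega
      obtain ⟨M, hMP, hMg, hMd, h, hh, hhd, hhM⟩ := hi.exists_irred hPg hPr hPne
      obtain rfl : M = P := Submodule.eq_of_le_of_finrank_eq hMP (hMd.trans hPd.symm)
      have hkill : ∀ v ∈ M, aeval g (normalize h) v = 0 := fun v hv => by
        obtain ⟨u, hu⟩ := (normalize_associated h).symm
        rw [← hu, mul_comm, map_mul, Module.End.mul_apply, hhM v hv, map_zero]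
      have hmem : normalize h ∈ Sμ := by
        refine hall _ (monic_normalize hh.ne_zero) ((normalize_associated h).symm.irreducible hh)
          ((normalize_associated h).dvd.trans hhd) fun h1 => ?_
        obtain ⟨v, hv, hv0⟩ := Submodule.exists_mem_ne_zero_of_ne_bot hPne
        have hdvd : (X - C (1 : F)) ∣ normalize h := dvd_iff_isRoot.2 h1
        have heq : normalize h = X - C 1 := (eq_of_monic_of_associated (monic_X_sub_C 1)
          (monic_normalize hh.ne_zero) ((irreducible_X_sub_C (1 : F)).associated_of_dvd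
            ((normalize_associated h).symm.irreducible hh) hdvd)).symm
        have hfix := hkill v hv
        rw [heq, map_sub, aeval_X, aeval_C, map_one] at hfix
        exact hv0 ((Submodule.eq_bot_iff _).1 hPf v ⟨hv, hfix⟩)
      obtain ⟨-, hn', hdim⟩ := split hPW hPn hW
      obtain ⟨P', ty, hP', hperp⟩ := ih (B - 1) (W ⊓ perp M) hn'
        (fun v hv => ⟨hWg v hv.1, hi.inv_perp hrp.pos hPg v hv.2⟩)
        (le_bot_iff.1 ((inf_le_inf_right _ inf_le_left).trans hWf.le))
        (by rw [Nat.sub_mul, one_mul]; omega) (by omega)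
      refine ⟨Fin.cons (α := fun _ => Submodule F (Fin d ⊕ Fin d → F)) M P',
        Fin.cons (α := fun _ => F[X]) (normalize h) ty, fun a => ?_, fun a b hab => ?_⟩
      · refine Fin.cases ?_ (fun a => ?_) a
        · exact ⟨hPW, hPn, hPg, hPd, hmem, hkill⟩
        · simp only [Fin.cons_succ]
          exact ⟨(hP' a).1.trans inf_le_left, (hP' a).2⟩
      · induction b using Fin.cases with
        | zero => exact absurd hab (Fin.not_lt_zero a)
        | succ b =>
          induction a using Fin.cases with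
          | zero => simp only [Fin.cons_zero, Fin.cons_succ]; exact (hP' b).1.trans inf_le_right
          | succ a => simp only [Fin.cons_succ]; exact hperp a b (Fin.succ_lt_succ_iff.1 hab)
  intro j
  induction j with
  | zero => exact fun B W _ _ _ _ _ => ⟨⊥, bot_le, tiInv_bot g, by rw [finrank_bot, zero_mul]⟩
  | succ j ih =>
    intro B W hW hWg hWf hd hjB
    obtain ⟨P, ty, hP, hperp⟩ := blocks (Sμ.card + 1) B W hW hWg hWf hd (by omega)
    obtain ⟨a, -, b, -, hab, hty⟩ := Finset.exists_ne_map_eq_of_card_lt_of_maps_to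
      (s := Finset.univ) (t := Sμ) (by simp) (f := ty) (fun a _ => (hP a).2.2.2.2.1)
    wlog hlt : a < b generalizing a b
    · exact this b a (Ne.symm hab) hty.symm (lt_of_le_of_ne (not_lt.1 hlt) (Ne.symm hab))
    obtain ⟨haW, han, hag, had, hamem, hak⟩ := hP a
    obtain ⟨hbW, hbn, hbg, hbd, -, hbk⟩ := hP b
    obtain ⟨k, hk⟩ := hev
    have hk0 : 0 < k := by omega
    obtain ⟨hμm, hμi, hμd⟩ := hμ _ hamem
    have hQ : g ^ (Fintype.card F ^ k) * g = 1 := by
      obtain ⟨l, hl⟩ := SympPrimeElements.pow_half_eq_neg_one (q := Fintype.card F) hidef hk hk0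
      rw [← pow_succ, hl, pow_mul, hi.pow, one_pow]
    obtain ⟨S₀, hS₀, hS₀ti, hS₀d⟩ := exists_TI_pair hi.form hμi hμm (by rw [hμd, hk, two_mul]) hk0 hQ han hbn
      hag hbg (by rw [had, hk, two_mul]) (by rw [hbd, hk, two_mul]) (hperp a b hlt) hak
      (fun v hv => by rw [hty]; exact hbk v hv)
    have hTn := nondegOn_sup han hbn (hperp a b hlt)
    have hTg : ∀ v ∈ P a ⊔ P b, g v ∈ P a ⊔ P b := fun v hv => by
      obtain ⟨x, hx, y, hy, rfl⟩ := Submodule.mem_sup.1 hv
      rw [map_add]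
      exact Submodule.add_mem_sup (hag x hx) (hbg y hy)
    have hTd : finrank F ↥(P a ⊔ P b) = 2 * i := by
      have h := Submodule.finrank_sup_add_finrank_inf_eq (P a) (P b)
      rw [show P a ⊓ P b = ⊥ from le_bot_iff.1 ((inf_le_inf_left _ (hperp a b hlt)).trans
        (inf_perp_eq_bot han).le), finrank_bot, add_zero, had, hbd] at h
      omega
    obtain ⟨-, hn', hdim⟩ := split (sup_le haW hbW) hTn hW
    obtain ⟨S, hSW, hS, hSd⟩ := ih (B - 2) (W ⊓ perp (P a ⊔ P b)) hn'
      (fun v hv => ⟨hWg v hv.1, hi.inv_perp hrp.pos hTg v hv.2⟩)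
      (le_bot_iff.1 ((inf_le_inf_right _ inf_le_left).trans hWf.le))
      (by rw [Nat.sub_mul]; omega) (by omega)
    obtain ⟨h1, h2⟩ := tiInv_sup hS₀ti hS hS₀ hTn (hSW.trans inf_le_right)
    exact ⟨S₀ ⊔ S, sup_le (hS₀.trans (sup_le haW hbW)) (hSW.trans inf_le_left), h1,
      by rw [h2, hS₀d, hSd, ← two_mul] at *; rw [hk]; ring⟩

/-- The dimension of an invariant totally isotropic subspace. -/
theorem TIInv.modEq (hi : Iso r g) {W : Submodule F (Fin d ⊕ Fin d → F)} (hW : TIInv g W) :
    ∃ l, l ≤ finrank F W ∧ 2 * l ≤ finrank F ↥(fixedSp g) ∧ l = finrank F ↥(W ⊓ fixedSp g) ∧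
      orderOf (Fintype.card F : ZMod r) ∣ finrank F W - l := by
  refine ⟨_, Submodule.finrank_mono inf_le_left, ?_, rfl, ?_⟩
  · exact two_mul_finrank_le (fixed_split hi (Fact.out : r.Prime).pos).1 inf_le_right
      fun u hu v hv => hW.iso u hu.1 v hv.1
  · exact (Nat.modEq_iff_dvd' (Submodule.finrank_mono inf_le_left)).1
      (PrimeOrderModule84.finrank_modEq hi.hr hi.pow (PrimeOrderModule84.map_le_iff'.2 hW.inv)).symm

omit [Fintype F] [Fact r.Prime] in
/-- An invariant subspace killed by a product is no larger than its kernels together. -/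
theorem finrank_le_sum_ker {V : Type*} [AddCommGroup V] [Module F V] [FiniteDimensional F V] (g : Module.End F V) :
    ∀ (L : List F[X]) (W : Submodule F V), (∀ v ∈ W, g v ∈ W) → (∀ v ∈ W, aeval g L.prod v = 0) →
      finrank F W ≤ (L.map fun h => finrank F ↥(W ⊓ LinearMap.ker (aeval g h))).sum := by
  intro L
  induction L with
  | nil =>
    intro W _ h
    rw [show W = ⊥ from (Submodule.eq_bot_iff _).2 fun v hv => by simpa using h v hv]
    simp
  | cons a L ih =>
    intro W hWg h
    let f : W →ₗ[F] V := (aeval g a).comp W.subtype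
    have h1 := f.finrank_range_add_finrank_ker
    have hker : finrank F (LinearMap.ker f) = finrank F ↥(W ⊓ LinearMap.ker (aeval g a)) := by
      rw [show LinearMap.ker f = (LinearMap.ker (aeval g a)).comap W.subtype from rfl,
        (Submodule.equivMapOfInjective W.subtype W.injective_subtype _).finrank_eq,
        Submodule.map_comap_eq, Submodule.range_subtype]
    have hrW : LinearMap.range f ≤ W := by
      rintro _ ⟨v, rfl⟩
      exact PrimeOrderModule84.aeval_mem (PrimeOrderModule84.map_le_iff'.2 hWg) a v.2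
    have h2 := ih (LinearMap.range f) (by
        rintro _ ⟨v, rfl⟩
        refine ⟨⟨g v.1, hWg v.1 v.2⟩, ?_⟩
        show aeval g a (g v.1) = g (aeval g a v.1)
        have : aeval g (a * X) = aeval g (X * a) := by rw [mul_comm]
        rw [map_mul, map_mul, aeval_X] at this
        exact LinearMap.congr_fun this v.1) (by
        rintro _ ⟨v, rfl⟩
        show aeval g L.prod (aeval g a v.1) = 0
        rw [← Module.End.mul_apply, ← map_mul, mul_comm, ← List.prod_cons]
        exact h v.1 v.2)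
    have h3 : (L.map fun h => finrank F ↥(LinearMap.range f ⊓ LinearMap.ker (aeval g h))).sum ≤
        (L.map fun h => finrank F ↥(W ⊓ LinearMap.ker (aeval g h))).sum :=
      List.sum_le_sum fun h _ => Submodule.finrank_mono (inf_le_inf_right _ hrW)
    simp only [List.map_cons, List.sum_cons]
    omega

omit [Fintype F] [Fact r.Prime] in
/-- For a factor of a separable annihilating polynomial, powers have the same kernel. -/
theorem ker_aeval_pow {V : Type*} [AddCommGroup V] [Module F V] (g : Module.End F V) {P h : F[X]}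
    (hP : aeval g P = 0) (hs : P.Separable) (hh : h ∣ P) (e : ℕ) :
    LinearMap.ker (aeval g (h ^ e)) ≤ LinearMap.ker (aeval g h) := by
  obtain ⟨ρ, rfl⟩ := hh
  obtain ⟨x, y, hxy⟩ := hs.isCoprime
  intro v hv
  rw [LinearMap.mem_ker] at hv ⊢
  induction e generalizing v with
  | zero =>
    rw [pow_zero, map_one, Module.End.one_apply] at hv
    rw [hv, map_zero]
  | succ e ih =>
    rw [pow_succ, map_mul, Module.End.mul_apply] at hv
    have h2 : aeval g h (aeval g h v) = 0 := ih hv
    have h3 : aeval g ρ (aeval g h v) = 0 := by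
      rw [← Module.End.mul_apply, ← map_mul, mul_comm ρ h, hP, LinearMap.zero_apply]
    have h4 := LinearMap.congr_fun (congrArg (aeval g) hxy) (aeval g h v)
    rw [map_add, LinearMap.add_apply, map_mul, map_mul, Module.End.mul_apply, Module.End.mul_apply, h2, h3,
      map_zero, map_zero, add_zero, map_one, Module.End.one_apply] at h4
    exact h4.symm

omit [Fintype F] [Fact r.Prime] in
/-- An irreducible polynomial with kernel divides the characteristic polynomial. -/
theorem dvd_charpoly_of_ker {h : F[X]} (hh : Irreducible h) {V : Type*} [AddCommGroup V] [Module F V]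
    [FiniteDimensional F V] (b : Module.End F V) (hne : LinearMap.ker (aeval b h) ≠ ⊥) : h ∣ b.charpoly := by
  by_contra hno
  obtain ⟨x, y, hxy⟩ := hh.coprime_iff_not_dvd.2 hno
  obtain ⟨v, hv, hv0⟩ := Submodule.exists_mem_ne_zero_of_ne_bot hne
  apply hv0
  have := LinearMap.congr_fun (congrArg (aeval b) hxy) v
  rw [map_add, map_mul, map_mul, LinearMap.aeval_self_charpoly, mul_zero, add_zero, map_one,
    Module.End.mul_apply, LinearMap.mem_ker.1 hv, map_zero] at this
  exact this.symm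

omit [Fintype F] [Fact r.Prime] in
/-- The kernel of an irreducible polynomial in a semisimple endomorphism. -/
theorem finrank_ker_aeval_le {h : F[X]} (hh : Irreducible h) (hhm : h.Monic) : ∀ (e : ℕ) {V : Type*}
    [AddCommGroup V] [Module F V] [FiniteDimensional F V] (b : Module.End F V), b.IsSemisimple →
      ¬ h ^ (e + 1) ∣ b.charpoly → finrank F (LinearMap.ker (aeval b h)) ≤ e * h.natDegree := by
  classical
  intro e
  induction e with
  | zero =>
    intro V _ _ _ b _ hno
    rw [zero_add, pow_one] at hno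
    rw [zero_mul]
    refine le_of_eq (Submodule.finrank_eq_zero.2 ?_)
    by_contra hne
    exact hno (dvd_charpoly_of_ker hh b hne)
  | succ e ih =>
    intro V _ _ _ b hb hno
    by_cases hne : LinearMap.ker (aeval b h) = ⊥
    · rw [hne, finrank_bot]; exact Nat.zero_le _
    obtain ⟨Q, c, E, hc, hconj, hcp, -⟩ := SemisimpleConjGL.exists_split b hb hh hhm (dvd_charpoly_of_ker hh b hne)
    have hno' : ¬ h ^ (e + 1) ∣ c.charpoly := fun hd => hno (by rw [hcp, pow_succ']; exact mul_dvd_mul_left h hd)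
    have he : ∀ y z, b (E (y, z)) = E (AdjoinRoot.root h * y, c z) := fun y z => by
      conv_lhs => rw [← hconj, LinearEquiv.conj_apply_apply, LinearEquiv.symm_apply_apply]
      rfl
    have : Module.Finite F (AdjoinRoot h) := hhm.finite_adjoinRoot
    let Φ : LinearMap.ker (aeval b h) →ₗ[F] AdjoinRoot h × LinearMap.ker (aeval c h) :=
      LinearMap.prod ((LinearMap.fst F _ _).comp (E.symm.toLinearMap.comp (LinearMap.ker (aeval b h)).subtype))
        (((LinearMap.snd F _ _).comp (E.symm.toLinearMap.comp (LinearMap.ker (aeval b h)).subtype)).codRestrict _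
          fun v => by
            obtain ⟨⟨y, z⟩, hyz⟩ := E.surjective v.1
            have h0 := LinearMap.mem_ker.1 v.2
            rw [← hyz, SympPrimeElements.aeval_blocks b c E he] at h0
            have h1 := congrArg Prod.snd (E.map_eq_zero_iff.1 h0)
            show aeval c h (E.symm v.1).2 = 0
            rw [← hyz, LinearEquiv.symm_apply_apply]
            exact h1)
    have hΦ : Function.Injective Φ := fun v w hvw => Subtype.ext (E.symm.injective
      (Prod.ext (congrArg Prod.fst hvw :) (congrArg (fun x => (x.2 : Q)) hvw :)))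
    have h1 := LinearMap.finrank_le_finrank_of_injective hΦ
    rw [Module.finrank_prod, (AdjoinRoot.powerBasis' hhm).finrank, AdjoinRoot.powerBasis'_dim] at h1
    have h2 := ih c hc hno'
    rw [Nat.succ_mul]
    omega

/-- The kernel of a self-dual factor of `X ^ r - 1` is nondegenerate. -/
theorem nondeg_ker (hi : Iso r g) {μ : F[X]} (hdvd : μ ∣ X ^ r - 1)
    (hdual : ∀ v, aeval g μ v = 0 → aeval (g ^ (r - 1)) μ v = 0) :
    NondegOn (LinearMap.ker (aeval g μ)) := by
  intro u hu hu0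
  by_contra hz
  push Not at hz
  refine hu0 (form_nondeg fun w => ?_)
  obtain ⟨ρ, hρ⟩ := hdvd
  have hs : (X ^ r - 1 : F[X]).Separable := by
    simpa using separable_X_pow_sub_C (1 : F) hi.hr one_ne_zero
  rw [hρ] at hs
  obtain ⟨a, b, hab⟩ := hs.isCoprime
  have hw : w = aeval g (b * ρ) w + aeval g μ (aeval g a w) := by
    rw [← Module.End.mul_apply, ← map_mul, mul_comm μ a, ← LinearMap.add_apply, ← map_add, add_comm, hab,
      map_one, Module.End.one_apply]
  have hmem : aeval g (b * ρ) w ∈ LinearMap.ker (aeval g μ) := by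
    rw [LinearMap.mem_ker, ← Module.End.mul_apply, ← map_mul,
      show μ * (b * ρ) = b * (μ * ρ) by ring, ← hρ, map_mul, map_sub, map_pow, aeval_X, map_one, hi.pow,
      sub_self, mul_zero, LinearMap.zero_apply]
  rw [hw, form_add_right, hz _ hmem, zero_add, form_swap _ u,
    aeval_pow_inv hi (Fact.out : r.Prime).pos, hdual u hu]
  simp [sympForm]

end Cfsg.Agent.SympTIPeel92
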