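import Cfsg.Agent.Lib.SympTwoQuat

/-!
`Sp₄` as the group of `2 × 2` matrices `Y` over `M₂(F)` with `Y * dag Y = 1`.
-/

set_option autoImplicit false

namespace Cfsg.Agent.SympTwoBlock

open Matrix Cfsg.Agent.SympTwoQuat
open scoped MatrixGroups

variable {F : Type*} [Field F]

local notation "A2" => Matrix (Fin 2) (Fin 2) F
local notation "B2" => Matrix (Fin 2) (Fin 2) (Matrix (Fin 2) (Fin 2) F)
local notation "L2" => SpecialLinearGroup (Fin 2) F

theorem extA {A B : Matrix (Fin 2) (Fin 2) F} (h00 : A 0 0 = B 0 0) (h01 : A 0 1 = B 0 1)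
    (h10 : A 1 0 = B 1 0) (h11 : A 1 1 = B 1 1) : A = B := by
  ext i j
  fin_cases i <;> fin_cases j <;> assumption

/-- Adjugate of a `2 × 2` matrix. -/
def adj (a : A2) : A2 := !![a 1 1, -a 0 1; -a 1 0, a 0 0]

theorem adj_eq (a : A2) : adj a = a.adjugate := (Matrix.adjugate_fin_two a).symm

@[simp] theorem adj_add (a b : A2) : adj (a + b) = adj a + adj b :=
  extA (by simp [adj]) (by simp [adj]; ring) (by simp [adj]; ring) (by simp [adj])

@[simp] theorem adj_neg (a : A2) : adj (-a) = -adj a :=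
  extA (by simp [adj]) (by simp [adj]) (by simp [adj]) (by simp [adj])

@[simp] theorem adj_sub (a b : A2) : adj (a - b) = adj a - adj b :=
  extA (by simp [adj]) (by simp [adj]; ring) (by simp [adj]; ring) (by simp [adj])

@[simp] theorem adj_smul (c : F) (a : A2) : adj (c • a) = c • adj a :=
  extA (by simp [adj]) (by simp [adj]) (by simp [adj]) (by simp [adj])

@[simp] theorem adj_zero : adj (0 : A2) = 0 :=
  extA (by simp [adj]) (by simp [adj]) (by simp [adj]) (by simp [adj])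

@[simp] theorem adj_one : adj (1 : A2) = 1 :=
  extA (by simp [adj]) (by simp [adj]) (by simp [adj]) (by simp [adj])

theorem adj_adj (a : A2) : adj (adj a) = a :=
  extA (by simp [adj]) (by simp [adj]) (by simp [adj]) (by simp [adj])

theorem adj_mul (a b : A2) : adj (a * b) = adj b * adj a := by
  rw [adj_eq, adj_eq, adj_eq, Matrix.adjugate_mul_distrib]

theorem mul_adj (a : A2) : a * adj a = a.det • (1 : A2) := by
  rw [adj_eq, Matrix.mul_adjugate]

@[simp] theorem mul_adj_L (a : L2) : a.1 * adj a.1 = 1 := by rw [mul_adj, a.2, one_smul]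

@[simp] theorem adj_mul_L (a : L2) : adj a.1 * a.1 = 1 := by
  rw [adj_eq, Matrix.adjugate_mul, a.2, one_smul]

theorem adj_L (a : L2) : adj a.1 = (a⁻¹).1 := by rw [adj, linv]

/-- The conjugate transpose. -/
def dag (Y : B2) : B2 := Matrix.of fun k l => adj (Y l k)

theorem dag_mul (X Y : B2) : dag (X * Y) = dag Y * dag X := by
  ext1 k l
  simp [dag, Matrix.mul_apply, Fin.sum_univ_two, adj_mul]

theorem dag_one : dag (1 : B2) = 1 := by
  ext1 k l
  fin_cases k <;> fin_cases l <;> simp [dag]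

/-- `Sp₄` in block form. -/
def UQ (F : Type*) [Field F] : Subgroup (Matrix (Fin 2) (Fin 2) (Matrix (Fin 2) (Fin 2) F))ˣ where
  carrier := {Y | Y.1 * dag Y.1 = 1}
  one_mem' := by simp [dag_one]
  mul_mem' := fun {X Y} hX hY => by
    show (X * Y).1 * dag (X * Y).1 = 1
    rw [Units.val_mul, dag_mul, mul_assoc, ← mul_assoc Y.1, hY, one_mul, hX]
  inv_mem' := fun {X} hX => by
    show (X⁻¹).1 * dag (X⁻¹).1 = 1
    have h : dag X.1 = (X⁻¹).1 := (Units.inv_eq_of_mul_eq_one_right hX).symm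
    have h' : dag (X⁻¹).1 * dag X.1 = 1 := by rw [← dag_mul, Units.mul_inv, dag_one]
    rw [h] at h'
    have : dag (X⁻¹).1 = X.1 := by
      calc dag (X⁻¹).1 = dag (X⁻¹).1 * ((X⁻¹).1 * X.1) := by rw [Units.inv_mul, mul_one]
        _ = X.1 := by rw [← mul_assoc, h', one_mul]
    rw [this, Units.inv_mul]

theorem mem_UQ {Y : B2ˣ} : Y ∈ UQ F ↔ Y.1 * dag Y.1 = 1 := Iff.rfl

theorem extQ {X Y : UQ F} (h00 : X.1.1 0 0 = Y.1.1 0 0) (h01 : X.1.1 0 1 = Y.1.1 0 1)
    (h10 : X.1.1 1 0 = Y.1.1 1 0) (h11 : X.1.1 1 1 = Y.1.1 1 1) : X = Y := by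
  refine Subtype.ext (Units.ext ?_)
  ext1 i j
  fin_cases i <;> fin_cases j <;> assumption

@[simp] theorem qmul (X Y : UQ F) (i j : Fin 2) :
    (X * Y).1.1 i j = X.1.1 i 0 * Y.1.1 0 j + X.1.1 i 1 * Y.1.1 1 j := by
  show (X.1.1 * Y.1.1) i j = _
  rw [Matrix.mul_apply, Fin.sum_univ_two]

@[simp] theorem qone (i j : Fin 2) : (1 : UQ F).1.1 i j = if i = j then 1 else 0 := by
  show (1 : B2) i j = _
  rw [Matrix.one_apply]

theorem row_norm (Y : UQ F) (i j : Fin 2) :
    Y.1.1 i 0 * adj (Y.1.1 j 0) + Y.1.1 i 1 * adj (Y.1.1 j 1) = if i = j then 1 else 0 := by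
  have h := congrFun (congrFun Y.2 i) j
  rw [Matrix.one_apply, Matrix.mul_apply, Fin.sum_univ_two] at h
  exact h

/-- An element of `UQ` from its blocks. -/
noncomputable def mkQ (a b c d : A2) (h00 : a * adj a + b * adj b = 1)
    (h01 : a * adj c + b * adj d = 0) (h10 : c * adj a + d * adj b = 0)
    (h11 : c * adj c + d * adj d = 1) : UQ F :=
  have h : !![a, b; c, d] * dag !![a, b; c, d] = 1 := by
    ext1 i j
    fin_cases i <;> fin_cases j <;> simp [dag, Matrix.mul_apply, Fin.sum_univ_two, h00, h01, h10, h11]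
  ⟨⟨!![a, b; c, d], dag !![a, b; c, d], h, mul_eq_one_comm.1 h⟩, h⟩

@[simp] theorem mkQ_val (a b c d : A2) (h00 h01 h10 h11) :
    (mkQ a b c d h00 h01 h10 h11).1.1 = !![a, b; c, d] := rfl

/-- Block diagonal embedding of `SL₂ × SL₂`. -/
noncomputable def dgl : SpecialLinearGroup (Fin 2) F × SpecialLinearGroup (Fin 2) F →* UQ F where
  toFun x := mkQ x.1.1 0 0 x.2.1 (by simp) (by simp) (by simp) (by simp)
  map_one' := extQ (by simp) (by simp) (by simp) (by simp)
  map_mul' x y := extQ (by simp) (by simp) (by simp) (by simp)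

theorem dgl_val (a b : L2) : (dgl (a, b)).1.1 = !![a.1, 0; 0, b.1] := rfl

theorem dgl_injective : Function.Injective (dgl (F := F)) := by
  intro x y h
  have h0 := congrArg (fun Y : UQ F => Y.1.1 0 0) h
  have h1 := congrArg (fun Y : UQ F => Y.1.1 1 1) h
  exact Prod.ext (Subtype.ext h0) (Subtype.ext h1)

/-- The block swap. -/
noncomputable def sw : UQ F := mkQ 0 1 1 0 (by simp) (by simp) (by simp) (by simp)

theorem sw_val : (sw : UQ F).1.1 = !![0, 1; 1, 0] := rfl

theorem sw_sq : (sw : UQ F) * sw = 1 :=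
  extQ (by simp [sw_val]) (by simp [sw_val]) (by simp [sw_val]) (by simp [sw_val])

theorem sw_dgl (a b : L2) : sw * dgl (a, b) = dgl (b, a) * sw :=
  extQ (by simp [sw_val, dgl_val]) (by simp [sw_val, dgl_val]) (by simp [sw_val, dgl_val])
    (by simp [sw_val, dgl_val])

/-- `-1`. -/
noncomputable def mOne : UQ F := dgl (negOne, negOne)

theorem negOne_eq : (negOne : L2).1 = -1 :=
  extA (by simp [negOne_val]) (by simp [negOne_val]) (by simp [negOne_val]) (by simp [negOne_val])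

theorem mOne_val : (mOne : UQ F).1.1 = !![-1, 0; 0, -1] := by
  rw [mOne, dgl_val, negOne_eq]

theorem mOne_comm (Y : UQ F) : Y * mOne = mOne * Y :=
  extQ (by simp [mOne_val, Matrix.mul_apply, Matrix.vecMul, dotProduct, Fin.sum_univ_two]) (by simp [mOne_val, Matrix.mul_apply, Matrix.vecMul, dotProduct, Fin.sum_univ_two]) (by simp [mOne_val, Matrix.mul_apply, Matrix.vecMul, dotProduct, Fin.sum_univ_two]) (by simp [mOne_val, Matrix.mul_apply, Matrix.vecMul, dotProduct, Fin.sum_univ_two])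

theorem mOne_sq : (mOne : UQ F) * mOne = 1 := by
  rw [mOne, ← map_mul, Prod.mk_mul_mk, negOne_sq, Prod.mk_one_one, map_one]

variable (h2 : (2 : F) ≠ 0)
include h2

theorem eq_zero_of_neg {a : A2} (h : a = -a) : a = 0 := by
  have : (2 : F) • a = 0 := by rw [two_smul]; nth_rewrite 2 [h]; exact add_neg_cancel a
  exact (smul_eq_zero.1 this).resolve_left h2

/-- Elements commuting with `diag(1,-1)` up to sign. -/
theorem dgl_of_comm {Y : UQ F}
    (h : Y * dgl (1, negOne) = dgl (1, negOne) * Y ∨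
      Y * dgl (1, negOne) = mOne * (dgl (1, negOne) * Y)) :
    ∃ a b : L2, Y = dgl (a, b) ∨ Y = dgl (a, b) * sw := by
  have mkL : ∀ a : A2, a * adj a = 1 → a.det = 1 := by
    intro a ha
    rw [mul_adj] at ha
    have := congrFun (congrFun ha 0) 0
    simpa using this
  rcases h with h | h
  · have e1 := congrArg (fun X : UQ F => X.1.1 0 1) h
    have e2 := congrArg (fun X : UQ F => X.1.1 1 0) h
    simp [dgl_val, negOne_eq, Matrix.mul_apply, Matrix.vecMul, dotProduct, Fin.sum_univ_two] at e1 e2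
    have hb := eq_zero_of_neg h2 e1.symm
    have hc := eq_zero_of_neg h2 e2
    have n0 := row_norm Y 0 0
    have n1 := row_norm Y 1 1
    simp [hb, hc] at n0 n1
    obtain ⟨a, ha'⟩ : ∃ a : L2, a.1 = Y.1.1 0 0 := ⟨⟨_, mkL _ n0⟩, rfl⟩
    obtain ⟨b, hb'⟩ : ∃ b : L2, b.1 = Y.1.1 1 1 := ⟨⟨_, mkL _ n1⟩, rfl⟩
    exact ⟨a, b, Or.inl (extQ (by simp [dgl_val, ha']) (by simp [dgl_val, hb])
      (by simp [dgl_val, hc]) (by simp [dgl_val, hb']))⟩
  · have e1 := congrArg (fun X : UQ F => X.1.1 0 0) h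
    have e2 := congrArg (fun X : UQ F => X.1.1 1 1) h
    simp [dgl_val, negOne_eq, mOne_val, Matrix.mul_apply, Matrix.vecMul, dotProduct, Fin.sum_univ_two] at e1 e2
    have ha := eq_zero_of_neg h2 e1
    have hd := eq_zero_of_neg h2 e2.symm
    have n0 := row_norm Y 0 0
    have n1 := row_norm Y 1 1
    simp [ha, hd] at n0 n1
    obtain ⟨a, ha'⟩ : ∃ a : L2, a.1 = Y.1.1 0 1 := ⟨⟨_, mkL _ n0⟩, rfl⟩
    obtain ⟨b, hb'⟩ : ∃ b : L2, b.1 = Y.1.1 1 0 := ⟨⟨_, mkL _ n1⟩, rfl⟩
    exact ⟨a, b, Or.inr (extQ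
      (by simp [dgl_val, sw_val, ha, Matrix.mul_apply, Fin.sum_univ_two])
      (by simp [dgl_val, sw_val, ha', Matrix.mul_apply, Fin.sum_univ_two])
      (by simp [dgl_val, sw_val, hb', Matrix.mul_apply, Fin.sum_univ_two])
      (by simp [dgl_val, sw_val, hd, Matrix.mul_apply, Fin.sum_univ_two]))⟩

/-- The centre of `Sp₄` is `±1`. -/
theorem center_eq [Finite F] {Y : UQ F} (hY : Y ∈ Subgroup.center (UQ F)) : Y = 1 ∨ Y = mOne := by
  have hc := Subgroup.mem_center_iff.1 hY
  obtain ⟨a, b, h | h⟩ := dgl_of_comm h2 (Or.inl (hc (dgl (1, negOne))).symm)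
  · subst h
    have hab : a = b := by
      have e := congrArg (fun X : UQ F => X.1.1 0 1) (hc sw)
      simp [sw_val, dgl_val, Matrix.mul_apply, Matrix.vecMul, dotProduct, Fin.sum_univ_two] at e
      exact Subtype.ext e.symm
    subst hab
    rcases SympTwoQuat.center_Q h2 (a := a) (fun x _ =>
        (congrArg Prod.fst (dgl_injective (by
          rw [map_mul, map_mul]; exact hc (dgl (x, 1))) : ((x, 1) : L2 × L2) * (a, a) = (a, a) * (x, 1))).symm)
      with rfl | rfl
    · exact Or.inl (map_one dgl)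
    · exact Or.inr rfl
  · exfalso
    subst h
    have e := congrArg (fun X : UQ F => X.1.1 0 1) (hc (dgl (1, negOne)))
    simp [sw_val, dgl_val, negOne_eq, Matrix.mul_apply, Matrix.vecMul, dotProduct, Fin.sum_univ_two] at e
    have ha := eq_zero_of_neg h2 e
    have := a.2
    rw [ha] at this
    simp at this

end Cfsg.Agent.SympTwoBlock
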