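import Mathlib
import Cfsg.Prelude.Def_ClassicalGeometry
import Cfsg.Agent.Lib.SymplecticBasic
import Cfsg.Agent.Lib.SymplecticDecomp
import Cfsg.Agent.Lib.SymplecticAlt
import Cfsg.Agent.Lib.SymplecticOrder
import Cfsg.Agent.Lib.SympUnipotentSeries
import Cfsg.Agent.Lib.SympFixCount

/-!
Steinberg's count `q ^ (2 n ^ 2)` of the unipotent elements of `Sp_2n(q)`, by splitting off the
generalised fixed space.
-/

set_option autoImplicit false

open Matrix Cfsg.Agent.SymplecticBasic Cfsg.Agent.SymplecticDecomp Cfsg.Agent.SympUnipotentSeries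

namespace Cfsg.Agent.SympUnipotentCount

variable {F : Type*} [Field F] {p m N k l : ℕ} [Fact p.Prime] [CharP F p]

/-- The generalised fixed space. -/
def fixSp (p N : ℕ) (g : symplecticGroup (Fin m) F) : Submodule F (Fin m ⊕ Fin m → F) :=
  LinearMap.ker (Matrix.toLin' (g ^ p ^ N).1 - LinearMap.id)

omit [Fact p.Prime] [CharP F p] in
theorem mem_fixSp {g : symplecticGroup (Fin m) F} {v : Fin m ⊕ Fin m → F} :
    v ∈ fixSp p N g ↔ (g ^ p ^ N) • v = v := by
  rw [fixSp, LinearMap.mem_ker, LinearMap.sub_apply, sub_eq_zero]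
  exact Iff.rfl

theorem sub_one_pow (A : Module.End F (Fin m ⊕ Fin m → F)) (j : ℕ) :
    (A - 1) ^ p ^ j = A ^ p ^ j - 1 := by
  have h : (Polynomial.X - 1 : Polynomial F) ^ p ^ j = Polynomial.X ^ p ^ j - 1 := by
    rw [sub_pow_char_pow, one_pow]
  simpa using congrArg (Polynomial.aeval A) h

theorem pow_toLin' (g : symplecticGroup (Fin m) F) (j : ℕ) :
    ((Matrix.toLin' g.1 : Module.End F (Fin m ⊕ Fin m → F)) - 1) ^ p ^ j =
      (Matrix.toLin' (g ^ p ^ j).1 : Module.End F (Fin m ⊕ Fin m → F)) - 1 := by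
  rw [sub_one_pow, SubmonoidClass.coe_pow, Matrix.toLin'_pow]

omit [Fact p.Prime] [CharP F p] in
theorem ker_stable (D : Module.End F (Fin m ⊕ Fin m → F)) {a : ℕ} (ha : 2 * m ≤ a) :
    LinearMap.ker (D ^ a) = LinearMap.ker (D ^ Module.finrank F (Fin m ⊕ Fin m → F)) :=
  Module.End.ker_pow_eq_ker_pow_finrank_of_le (by rw [Module.finrank_pi]; simp [← two_mul]; exact ha)

theorem fixSp_nondeg (hN : 2 * m ≤ p ^ N) (g : symplecticGroup (Fin m) F) :
    ∀ u ∈ fixSp p N g, (∀ v ∈ fixSp p N g, sympForm m F u v = 0) → u = 0 := by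
  intro u hu hperp
  set D : Module.End F (Fin m ⊕ Fin m → F) := Matrix.toLin' g.1 - 1 with hD
  set E : Module.End F (Fin m ⊕ Fin m → F) := Matrix.toLin' (g ^ p ^ N).1 - 1 with hE
  have hker : fixSp p N g = LinearMap.ker E := rfl
  have hE2 : LinearMap.ker (E * E) = LinearMap.ker E := by
    rw [hE, ← pow_toLin', ← pow_add, ker_stable _ hN, ker_stable _ (hN.trans (Nat.le_add_right _ _))]
  have hdisj : LinearMap.ker E ⊓ LinearMap.range E = ⊥ := by
    rw [eq_bot_iff]
    rintro _ ⟨hx, y, rfl⟩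
    have hy : y ∈ LinearMap.ker (E * E) := hx
    rw [hE2] at hy
    exact hy
  have htop : LinearMap.ker E ⊔ LinearMap.range E = ⊤ := by
    apply Submodule.eq_top_of_finrank_eq
    have h1 := Submodule.finrank_sup_add_finrank_inf_eq (LinearMap.ker E) (LinearMap.range E)
    rw [hdisj, finrank_bot, add_zero] at h1
    rw [h1, add_comm]
    exact E.finrank_range_add_finrank_ker
  refine form_nondeg fun v => ?_
  obtain ⟨a, ha, b, ⟨c, hc⟩, rfl⟩ := Submodule.mem_sup.1 (htop ▸ Submodule.mem_top : v ∈ _)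
  rw [form_add_right, hperp a (hker ▸ ha), zero_add, ← hc]
  have hfix := mem_fixSp.1 hu
  show sympForm m F u ((g ^ p ^ N) • c - c) = 0
  conv_lhs => rw [form_sub_right, ← hfix, form_map, hfix]
  rw [sub_self]

theorem unip_iff (hN : 2 * m ≤ p ^ N) (g : symplecticGroup (Fin m) F) :
    (∃ j, orderOf g = p ^ j) ↔ g ^ p ^ N = 1 := by
  constructor
  · rintro ⟨j, hj⟩
    have h0 : ((Matrix.toLin' g.1 : Module.End F (Fin m ⊕ Fin m → F)) - 1) ^ p ^ j = 0 := by
      rw [pow_toLin', ← hj, pow_orderOf_eq_one, OneMemClass.coe_one, Matrix.toLin'_one]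
      exact sub_self _
    set D : Module.End F (Fin m ⊕ Fin m → F) := Matrix.toLin' g.1 - 1
    have htop : LinearMap.ker (D ^ p ^ N) = ⊤ := by
      rcases le_total (p ^ j) (p ^ N) with h | h
      · rw [pow_eq_zero_of_le h h0, LinearMap.ker_zero]
      · rw [ker_stable D hN, ← ker_stable D (hN.trans h), h0, LinearMap.ker_zero]
    refine ext_smul fun v => ?_
    have hv : (D ^ p ^ N) v = 0 := LinearMap.mem_ker.1 (htop ▸ Submodule.mem_top)
    rw [pow_toLin'] at hv
    rw [one_smul]
    exact sub_eq_zero.1 hv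
  · intro h
    obtain ⟨j, -, hj⟩ := (Nat.dvd_prime_pow Fact.out).1 (orderOf_dvd_of_pow_eq_one h)
    exact ⟨j, hj⟩

theorem fpf_iff (g : symplecticGroup (Fin m) F) :
    (∀ v : Fin m ⊕ Fin m → F, g • v = v → v = 0) ↔
      ∀ v : Fin m ⊕ Fin m → F, (g ^ p ^ N) • v = v → v = 0 := by
  constructor
  · intro h v hv
    set D : Module.End F (Fin m ⊕ Fin m → F) := Matrix.toLin' g.1 - 1
    have hinj : ∀ w, D w = 0 → w = 0 := fun w hw => h w (sub_eq_zero.1 hw)
    have hpow : ∀ a w, (D ^ a) w = 0 → w = 0 := by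
      intro a
      induction a with
      | zero => exact fun w hw => hw
      | succ a ih => exact fun w hw => ih w (hinj _ (by rwa [pow_succ', Module.End.mul_apply] at hw))
    refine hpow (p ^ N) v ?_
    rw [pow_toLin']
    exact sub_eq_zero.2 hv
  · intro h v hv
    refine h v ?_
    have : ∀ a : ℕ, (g ^ a) • v = v := by
      intro a
      induction a with
      | zero => rw [pow_zero, one_smul]
      | succ a ih => rw [pow_succ, mul_smul, hv, ih]
    exact this _

omit [Fact p.Prime] [CharP F p] in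
theorem fixSp_conj (c g : symplecticGroup (Fin m) F) (z : Fin m ⊕ Fin m → F) :
    c • z ∈ fixSp p N (c * g * c⁻¹) ↔ z ∈ fixSp p N g := by
  rw [mem_fixSp, mem_fixSp, conj_pow, mul_smul, mul_smul, inv_smul_smul]
  exact (MulAction.injective c).eq_iff

omit [Fact p.Prime] [CharP F p] in
theorem finrank_of_map {W W' : Submodule F (Fin m ⊕ Fin m → F)} (c : symplecticGroup (Fin m) F)
    (h : ∀ z, c • z ∈ W ↔ z ∈ W') : Module.finrank F W = Module.finrank F W' := by
  have : W = W'.map (Matrix.toLin' c.1) := by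
    ext x
    obtain ⟨z, rfl⟩ := MulAction.surjective c x
    rw [Submodule.mem_map]
    constructor
    · exact fun hx => ⟨z, (h z).1 hx, rfl⟩
    · rintro ⟨y, hy, hyz⟩
      exact (h z).2 ((MulAction.injective c (hyz : c • y = c • z)) ▸ hy)
  rw [this]
  exact (Submodule.equivMapOfInjective (Matrix.toLin' c.1) (fun x y hxy => MulAction.injective c hxy) W').finrank_eq.symm

omit [Fact p.Prime] [CharP F p] in
theorem finrank_head : Module.finrank F (headSpace F k l) = 2 * k := by
  let e : headSpace F k l ≃ₗ[F] (Fin k ⊕ Fin k → F) :=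
    { toFun := fun x s => x.1 (splitIdx k l (Sum.inl s))
      invFun := fun y => ⟨fun t => Sum.elim y 0 ((splitIdx k l).symm t), fun s => by simp⟩
      left_inv := fun x => Subtype.ext (funext fun t => by
        obtain ⟨t, rfl⟩ := (splitIdx k l).surjective t
        simp only [Equiv.symm_apply_apply]
        rcases t with t | t
        · rfl
        · exact (x.2 t).symm)
      right_inv := fun y => funext fun s => by simp
      map_add' := fun _ _ => rfl
      map_smul' := fun _ _ => rfl }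
  rw [e.finrank_eq, Module.finrank_pi]
  simp [two_mul]

omit [Fact p.Prime] [CharP F p] in
theorem head_nondeg : ∀ u ∈ headSpace F k l,
    (∀ v ∈ headSpace F k l, sympForm (k + l) F u v = 0) → u = 0 := by
  intro u hu h
  refine form_nondeg fun v => ?_
  let w : Fin (k + l) ⊕ Fin (k + l) → F := fun t =>
    Sum.elim (fun s => v (splitIdx k l (Sum.inl s))) 0 ((splitIdx k l).symm t)
  have hw := h w fun s => by simp [w]
  rw [form_split] at hw ⊢
  rw [show (fun s => u (splitIdx k l (Sum.inr s))) = 0 from funext hu, form_zero_left, add_zero] at hw ⊢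
  simpa [w] using hw

/-- the elements whose generalised fixed space has dimension `2 k` -/
abbrev Part (F : Type*) [Field F] (p N m k : ℕ) : Type _ :=
  {g : symplecticGroup (Fin m) F // Module.finrank F (fixSp p N g) = 2 * k}

theorem card_part [Fintype F] (hN : 2 * (k + l) ≤ p ^ N) :
    Nat.card (Part F p N (k + l) k) *
        (Nat.card (symplecticGroup (Fin k) F) * Nat.card (symplecticGroup (Fin l) F)) =
      Nat.card (symplecticGroup (Fin (k + l)) F) *
        (Nat.card {g : symplecticGroup (Fin k) F // ∃ j, orderOf g = p ^ j} *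
          Nat.card (SympFixCount.Fpf F l)) := by
  classical
  let G := ↥(symplecticGroup (Fin (k + l)) F)
  let H := headSpace F k l
  let P := p ^ N
  let S := Cfsg.stabilizing (Cfsg.spToMat (k + l) F) (H : Set (Fin (k + l) ⊕ Fin (k + l) → F))
  have hS : ∀ c, c ∈ S ↔ ∀ z, z ∈ H ↔ c • z ∈ H := fun c => Iff.rfl
  obtain ⟨eS⟩ := stab_nondeg H finrank_head head_nondeg
  have hcardS : Nat.card S = Nat.card (symplecticGroup (Fin k) F) * Nat.card (symplecticGroup (Fin l) F) := by
    rw [Nat.card_congr eS.toEquiv, Nat.card_prod]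
  have hcoord : ∀ (u : symplecticGroup (Fin k) F) (v : symplecticGroup (Fin l) F)
      (x : Fin (k + l) ⊕ Fin (k + l) → F),
      (fun s => (blockHom F k l (u, v) • x) (splitIdx k l (Sum.inl s))) =
        u • (fun s => x (splitIdx k l (Sum.inl s))) ∧
      (fun s => (blockHom F k l (u, v) • x) (splitIdx k l (Sum.inr s))) =
        v • (fun s => x (splitIdx k l (Sum.inr s))) := fun u v x => blockMat_mulVec u.1 v.1 x
  have hblockS : ∀ uv, blockHom F k l uv ∈ S := fun ⟨u, v⟩ => (hS _).2 fun z => by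
    constructor
    · intro hz s
      refine congrFun (g := (0 : Fin l ⊕ Fin l → F)) ((hcoord u v z).2.trans ?_) s
      rw [show (fun s => z (splitIdx k l (Sum.inr s))) = (0 : Fin l ⊕ Fin l → F) from funext hz]
      exact Matrix.mulVec_zero _
    · intro hz
      have h1 : v • (fun s => z (splitIdx k l (Sum.inr s))) = v • (0 : Fin l ⊕ Fin l → F) := by
        rw [← (hcoord u v z).2, show v • (0 : Fin l ⊕ Fin l → F) = 0 from Matrix.mulVec_zero _]
        exact funext hz
      exact congrFun (MulAction.injective v h1)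
  have hrange : ∀ x ∈ S, ∃ uv, blockHom F k l uv = x := by
    intro x hx
    let f : ↥(symplecticGroup (Fin k) F) × ↥(symplecticGroup (Fin l) F) → S :=
      fun uv => ⟨blockHom F k l uv, hblockS uv⟩
    have hf : Function.Injective f := fun a b h => blockHom_injective (congrArg Subtype.val h)
    have hbij : Function.Bijective f := (Nat.bijective_iff_injective_and_card f).2
      ⟨hf, by rw [Nat.card_prod, hcardS]⟩
    obtain ⟨uv, huv⟩ := hbij.2 ⟨x, hx⟩
    exact ⟨uv, congrArg Subtype.val huv⟩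
  have hsplit : ∀ (u : symplecticGroup (Fin k) F) (v : symplecticGroup (Fin l) F)
      (z : Fin (k + l) ⊕ Fin (k + l) → F), z ∈ fixSp p N (blockHom F k l (u, v)) ↔
        (u ^ P) • (fun s => z (splitIdx k l (Sum.inl s))) = (fun s => z (splitIdx k l (Sum.inl s))) ∧
        (v ^ P) • (fun s => z (splitIdx k l (Sum.inr s))) = (fun s => z (splitIdx k l (Sum.inr s))) := by
    intro u v z
    rw [mem_fixSp, ← map_pow, Prod.pow_mk, ← (hcoord (u ^ P) (v ^ P) z).1, ← (hcoord (u ^ P) (v ^ P) z).2]
    constructor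
    · intro h; rw [h]; exact ⟨rfl, rfl⟩
    · rintro ⟨h1, h2⟩
      funext t
      obtain ⟨t, rfl⟩ := (splitIdx k l).surjective t
      rcases t with t | t
      · exact congrFun h1 t
      · exact congrFun h2 t
  have hNk : 2 * k ≤ p ^ N := by omega
  have hfix : ∀ (u : symplecticGroup (Fin k) F) (v : symplecticGroup (Fin l) F),
      (∀ z, z ∈ fixSp p N (blockHom F k l (u, v)) ↔ z ∈ H) ↔
        ((∃ j, orderOf u = p ^ j) ∧ ∀ w : Fin l ⊕ Fin l → F, v • w = w → w = 0) := by
    intro u v
    rw [unip_iff hNk u, fpf_iff (p := p) (N := N) v]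
    let glue : (Fin k ⊕ Fin k → F) → (Fin l ⊕ Fin l → F) → (Fin (k + l) ⊕ Fin (k + l) → F) :=
      fun a b t => Sum.elim a b ((splitIdx k l).symm t)
    have hgl : ∀ a b, (fun s => glue a b (splitIdx k l (Sum.inl s))) = a := fun a b => funext fun s => by
      simp [glue]
    have hgr : ∀ a b, (fun s => glue a b (splitIdx k l (Sum.inr s))) = b := fun a b => funext fun s => by
      simp [glue]
    constructor
    · intro h
      refine ⟨ext_smul fun y => ?_, fun w hw => ?_⟩
      · have hz : glue y 0 ∈ H := fun s => congrFun (hgr y 0) s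
        have h1 := ((hsplit u v _).1 ((h _).2 hz)).1
        rw [hgl] at h1
        rw [one_smul]; exact h1
      · have hz : glue 0 w ∈ fixSp p N (blockHom F k l (u, v)) := by
          rw [hsplit, hgl, hgr]
          exact ⟨Matrix.mulVec_zero _, hw⟩
        rw [← hgr 0 w]
        exact funext ((h _).1 hz)
    · rintro ⟨hu, hv⟩ z
      rw [hsplit, hu, one_smul]
      constructor
      · rintro ⟨-, h⟩
        exact congrFun (hv _ h)
      · intro hz
        rw [show (fun s => z (splitIdx k l (Sum.inr s))) = (0 : Fin l ⊕ Fin l → F) from funext hz]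
        exact ⟨rfl, Matrix.mulVec_zero _⟩
  let Pairs := {xc : G × G // ∀ z, xc.2 • z ∈ fixSp p N xc.1 ↔ z ∈ H}
  have h1 : Nat.card Pairs = Nat.card (Part F p N (k + l) k) * Nat.card S := by
    let e : Pairs ≃ (x : Part F p N (k + l) k) × {c : G // ∀ z, c • z ∈ fixSp p N x.1 ↔ z ∈ H} :=
      { toFun := fun xc => ⟨⟨xc.1.1, (finrank_of_map xc.1.2 xc.2).trans finrank_head⟩, ⟨xc.1.2, xc.2⟩⟩
        invFun := fun s => ⟨(s.1.1, s.2.1), s.2.2⟩
        left_inv := fun _ => rfl
        right_inv := fun _ => rfl }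
    let _ : Fintype (Part F p N (k + l) k) := Fintype.ofFinite _
    rw [Nat.card_congr e, Nat.card_sigma, Finset.sum_congr rfl (g := fun _ => Nat.card S) fun x _ => ?_,
      Finset.sum_const, smul_eq_mul, Finset.card_univ, ← Nat.card_eq_fintype_card]
    obtain ⟨c0, hc0⟩ := exists_map_head (fixSp p N x.1) x.2 (fixSp_nondeg hN x.1)
    refine Nat.card_congr
      { toFun := fun c => ⟨c0⁻¹ * c.1, (hS _).2 fun z => by
          rw [← hc0 ((c0⁻¹ * c.1) • z), mul_smul, smul_inv_smul]; exact (c.2 z).symm⟩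
        invFun := fun s => ⟨c0 * s.1, fun z => by
          rw [mul_smul, hc0]; exact ((hS _).1 s.2 z).symm⟩
        left_inv := fun c => Subtype.ext (mul_inv_cancel_left c0 c.1)
        right_inv := fun s => Subtype.ext (inv_mul_cancel_left c0 s.1) }
  let Φ : G × ({g : symplecticGroup (Fin k) F // ∃ j, orderOf g = p ^ j} × SympFixCount.Fpf F l) → Pairs :=
    fun t => ⟨(t.1 * blockHom F k l (t.2.1.1, t.2.2.1) * t.1⁻¹, t.1), fun z => by
      rw [fixSp_conj]; exact (hfix _ _).2 ⟨t.2.1.2, t.2.2.2⟩ z⟩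
  have hΦ : Function.Bijective Φ := by
    constructor
    · rintro ⟨c, u, v⟩ ⟨c', u', v'⟩ h
      obtain ⟨h1, rfl⟩ : c * blockHom F k l (u.1, v.1) * c⁻¹ = c' * blockHom F k l (u'.1, v'.1) * c'⁻¹ ∧
          c = c' := ⟨congrArg (fun t : Pairs => t.1.1) h, congrArg (fun t : Pairs => t.1.2) h⟩
      have h2 := blockHom_injective (mul_left_cancel (mul_right_cancel h1))
      rw [Prod.mk.injEq] at h2
      rw [Subtype.ext h2.1, Subtype.ext h2.2]
    · rintro ⟨⟨x, c⟩, hxc⟩
      set y := c⁻¹ * x * c with hy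
      have hxy : x = c * y * c⁻¹ := by
        rw [hy, mul_assoc c⁻¹ x c, ← mul_assoc, mul_inv_cancel, one_mul, mul_inv_cancel_right]
      have hfy : ∀ z, z ∈ fixSp p N y ↔ z ∈ H := fun z => by
        rw [← hxc z, ← fixSp_conj c y z, ← hxy]
      have hyS : y ∈ S := (hS _).2 fun z => by
        rw [← hfy, ← hfy, mem_fixSp, mem_fixSp, ← mul_smul, ← pow_succ, pow_succ', mul_smul]
        exact (MulAction.injective y).eq_iff.symm
      obtain ⟨⟨u, v⟩, huv⟩ := hrange y hyS
      obtain ⟨hu, hv⟩ := (hfix u v).1 (huv.symm ▸ hfy)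
      refine ⟨(c, ⟨u, hu⟩, ⟨v, hv⟩), Subtype.ext (Prod.ext ?_ rfl)⟩
      show c * blockHom F k l (u, v) * c⁻¹ = x
      rw [huv, ← hxy]
  rw [← hcardS, ← h1, ← Nat.card_eq_of_bijective Φ hΦ, Nat.card_prod, Nat.card_prod]

theorem card_split [Fintype F] (hN : 2 * m ≤ p ^ N) :
    Nat.card (symplecticGroup (Fin m) F) = ∑ k ∈ Finset.range (m + 1), Nat.card (Part F p N m k) := by
  classical
  have hdim : ∀ g : symplecticGroup (Fin m) F,
      ∃ k ≤ m, Module.finrank F (fixSp p N g) = 2 * k := by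
    intro g
    let B : (Fin m ⊕ Fin m → F) →ₗ[F] (Fin m ⊕ Fin m → F) →ₗ[F] F :=
      LinearMap.mk₂ F (sympForm m F) form_add_left form_smul_left form_add_right form_smul_right
    obtain ⟨k, hk, -⟩ := SymplecticAlt.exists_symp_basis B (fun v => form_self v) _ (fixSp p N g) rfl
      (fixSp_nondeg hN g)
    refine ⟨k, ?_, hk⟩
    have h := Submodule.finrank_le (fixSp p N g)
    rw [hk, Module.finrank_pi, Fintype.card_sum, Fintype.card_fin] at h
    omega
  let _ : Fintype ↥(symplecticGroup (Fin m) F) := Fintype.ofFinite _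
  rw [Nat.card_eq_fintype_card, ← Finset.card_univ,
    Finset.card_eq_sum_card_fiberwise (f := fun g => Module.finrank F (fixSp p N g) / 2)
      (t := Finset.range (m + 1)) fun g _ => ?_]
  · refine Finset.sum_congr rfl fun k _ => ?_
    rw [Nat.card_eq_fintype_card, Fintype.card_subtype]
    congr 1
    refine Finset.filter_congr fun g _ => ?_
    obtain ⟨j, -, hj⟩ := hdim g
    omega
  · obtain ⟨j, hj, hj'⟩ := hdim g
    simp only [Finset.coe_range, Set.mem_Iio]
    omega

theorem card_unipotent [Fintype F] {q : ℕ} (hF : Fintype.card F = q) :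
    ∀ n : ℕ, Nat.card {g : symplecticGroup (Fin n) F // ∃ j, orderOf g = p ^ j} = q ^ (2 * n ^ 2) := by
  classical
  have hq : (1 : ℚ) < q := by rw [← hF]; exact_mod_cast Fintype.one_lt_card
  let u : ℕ → ℚ := fun k => (Nat.card {g : symplecticGroup (Fin k) F // ∃ j, orderOf g = p ^ j} : ℚ) /
    Nat.card (symplecticGroup (Fin k) F)
  have hpos : ∀ k, (Nat.card (symplecticGroup (Fin k) F) : ℚ) ≠ 0 := fun k =>
    Nat.cast_ne_zero.2 Nat.card_pos.ne'
  have hone : ∀ n, ∑ x ∈ Finset.HasAntidiagonal.antidiagonal n, u x.1 * we (q : ℚ) x.2 = 1 := by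
    intro n
    obtain ⟨N, hN⟩ : ∃ N, 2 * n ≤ p ^ N := ⟨2 * n, (Nat.lt_pow_self (Fact.out : p.Prime).one_lt).le⟩
    have h := congrArg (Nat.cast (R := ℚ)) (card_split (F := F) hN)
    rw [Nat.cast_sum] at h
    rw [Finset.Nat.sum_antidiagonal_eq_sum_range_succ (fun a b => u a * we (q : ℚ) b)]
    refine mul_left_cancel₀ (hpos n) ?_
    rw [mul_one, Finset.mul_sum]
    refine Eq.trans (Finset.sum_congr rfl fun k hk => ?_) h.symm
    obtain ⟨l, rfl⟩ := Nat.exists_eq_add_of_le (Nat.lt_succ_iff.1 (Finset.mem_range.1 hk))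
    have h2 := congrArg (Nat.cast (R := ℚ)) (card_part (F := F) hN)
    simp only [Nat.cast_mul, SympFixCount.card_fpf hF] at h2
    rw [Nat.add_sub_cancel_left]
    simp only [u]
    have h3 : (Nat.card (Part F p N (k + l) k) : ℚ) * Nat.card (symplecticGroup (Fin k) F) =
        Nat.card (symplecticGroup (Fin (k + l)) F) *
          Nat.card {g : symplecticGroup (Fin k) F // ∃ j, orderOf g = p ^ j} * we (q : ℚ) l :=
      mul_right_cancel₀ (hpos l) (by linear_combination h2)
    have := hpos k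
    field_simp
    linear_combination -h3
  have hu : ∀ n, u n = wu (q : ℚ) n := by
    intro n
    induction n using Nat.strong_induction_on with
    | _ n ih =>
      have he0 : we (q : ℚ) 0 = 1 := by simp [we, wa, wb]
      have h1 := hone n
      have h2 := convolution hq n
      rw [Finset.Nat.sum_antidiagonal_eq_sum_range_succ (fun a b => u a * we (q : ℚ) b),
        Finset.sum_range_succ, Nat.sub_self, he0, mul_one] at h1
      rw [Finset.Nat.sum_antidiagonal_eq_sum_range_succ (fun a b => wu (q : ℚ) a * we (q : ℚ) b),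
        Finset.sum_range_succ, Nat.sub_self, he0, mul_one] at h2
      rw [Finset.sum_congr rfl fun i hi => by rw [ih i (Finset.mem_range.1 hi)]] at h1
      linear_combination h1 - h2
  intro n
  apply Nat.cast_injective (R := ℚ)
  have h := (div_eq_iff (hpos n)).1 (hu n)
  have hcast : ((∏ i ∈ Finset.range n, (q ^ (2 * (i + 1)) - 1) : ℕ) : ℚ) =
      ∏ i ∈ Finset.range n, ((q : ℚ) ^ (2 * (i + 1)) - 1) := by
    rw [Nat.cast_prod]
    exact Finset.prod_congr rfl fun i _ => by
      rw [Nat.cast_sub (Nat.one_le_pow _ _ (hF ▸ Fintype.card_pos)), Nat.cast_pow, Nat.cast_one]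
  rw [h, SymplecticOrder.card_symplectic hF, Nat.cast_mul, hcast, Nat.cast_pow, Nat.cast_pow, wu]
  have hd : (∏ i ∈ Finset.range n, ((q : ℚ) ^ (2 * (i + 1)) - 1)) ≠ 0 :=
    Finset.prod_ne_zero_iff.2 fun i _ => pow_sub_one_ne hq (by omega)
  rw [pow_two n, two_mul (n * n), pow_add]
  field_simp

end Cfsg.Agent.SympUnipotentCount
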