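import Mathlib

/-!
Isometries of an alternating form: invariant nondegenerate subspaces of unipotent elements (odd
characteristic) and of elements that split into small pieces, and unipotent isometries with a
prescribed Jordan partition.
-/

set_option autoImplicit false

namespace Cfsg.Agent.SympUnipotentPieces61

open Module

variable {F V : Type*} [Field F] [AddCommGroup V] [Module F V] [FiniteDimensional F V]
variable (B : V →ₗ[F] V →ₗ[F] F)

/-- The form is nondegenerate on the subspace. -/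
def Nd (W : Submodule F V) : Prop := ∀ x ∈ W, (∀ y ∈ W, B x y = 0) → x = 0

/-- The vectors orthogonal to a subspace. -/
def orth (W : Submodule F V) : Submodule F V where
  carrier := {v | ∀ w ∈ W, B v w = 0}
  zero_mem' := fun w _ => by simp
  add_mem' := fun hx hy w hw => by rw [map_add, LinearMap.add_apply, hx w hw, hy w hw, add_zero]
  smul_mem' := fun c x hx w hw => by rw [map_smul, LinearMap.smul_apply, hx w hw, smul_zero]

variable {B}

theorem skew (halt : ∀ v, B v v = 0) (x y : V) : B y x = - B x y := by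
  have h := halt (x + y)
  simp only [map_add, LinearMap.add_apply, halt] at h
  linear_combination h

theorem nd_inf_orth {P : Submodule F V} (hP : Nd B P) : P ⊓ orth B P = ⊥ :=
  (Submodule.eq_bot_iff _).2 fun x hx => hP x hx.1 hx.2

theorem sup_orth_eq_top {P : Submodule F V} (hP : Nd B P) : P ⊔ orth B P = ⊤ := by
  let φ : V →ₗ[F] (P →ₗ[F] F) := (LinearMap.lcomp F F P.subtype).comp B
  have hker : LinearMap.ker φ = orth B P := by
    ext v
    rw [LinearMap.mem_ker, LinearMap.ext_iff]
    exact ⟨fun h w hw => h ⟨w, hw⟩, fun h w => h w.1 w.2⟩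
  have h1 := φ.finrank_range_add_finrank_ker
  rw [hker] at h1
  have h2 := Submodule.finrank_le (LinearMap.range φ)
  rw [Subspace.dual_finrank_eq] at h2
  refine Submodule.eq_top_of_finrank_eq ?_
  have h3 := Submodule.finrank_sup_add_finrank_inf_eq P (orth B P)
  rw [nd_inf_orth hP, finrank_bot, add_zero] at h3
  have := Submodule.finrank_le (P ⊔ orth B P)
  omega

theorem nd_bot : Nd B (⊥ : Submodule F V) := fun _ hx _ => (Submodule.mem_bot F).1 hx

theorem split (halt : ∀ v, B v v = 0) {W P : Submodule F V} (hPW : P ≤ W) (hP : Nd B P)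
    (hW : Nd B W) : P ⊔ (W ⊓ orth B P) = W ∧ Nd B (W ⊓ orth B P) ∧
      finrank F P + finrank F ↥(W ⊓ orth B P) = finrank F W := by
  have hsup : P ⊔ (W ⊓ orth B P) = W := by
    rw [inf_comm, ← sup_inf_assoc_of_le (orth B P) hPW, sup_orth_eq_top hP, top_inf_eq]
  refine ⟨hsup, fun u hu h => hW u hu.1 fun z hz => ?_, ?_⟩
  · rw [← hsup, Submodule.mem_sup] at hz
    obtain ⟨a, ha, b, hb, rfl⟩ := hz
    rw [map_add, hu.2 a ha, h b hb, add_zero]
  · have h3 := Submodule.finrank_sup_add_finrank_inf_eq P (W ⊓ orth B P)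
    rw [hsup, show P ⊓ (W ⊓ orth B P) = ⊥ from le_bot_iff.1
      ((inf_le_inf_left P inf_le_right).trans (nd_inf_orth hP).le), finrank_bot, add_zero] at h3
    omega

theorem nd_sup (halt : ∀ v, B v v = 0) {P R : Submodule F V} (hP : Nd B P) (hR : Nd B R)
    (h : R ≤ orth B P) : Nd B (P ⊔ R) := by
  intro u hu hz
  obtain ⟨a, ha, b, hb, rfl⟩ := Submodule.mem_sup.1 hu
  have ha0 : a = 0 := hP a ha fun w hw => by
    have := hz w (Submodule.mem_sup_left hw)
    rwa [map_add, LinearMap.add_apply, h hb w hw, add_zero] at this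
  subst ha0
  rw [zero_add] at hz ⊢
  exact hR b hb fun w hw => hz w (Submodule.mem_sup_right hw)

theorem finrank_sup {P R : Submodule F V} (hP : Nd B P) (h : R ≤ orth B P) :
    finrank F ↥(P ⊔ R) = finrank F P + finrank F R := by
  have := Submodule.finrank_sup_add_finrank_inf_eq P R
  rw [show P ⊓ R = ⊥ from le_bot_iff.1 ((inf_le_inf_left P h).trans (nd_inf_orth hP).le),
    finrank_bot, add_zero] at this
  exact this

theorem map_pow_le {N : Module.End F V} {W : Submodule F V} (hW : ∀ x ∈ W, N x ∈ W) (k : ℕ) :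
    ∀ x ∈ W, (N ^ k) x ∈ W := by
  induction k with
  | zero => exact fun x hx => hx
  | succ k ih => intro x hx; rw [pow_succ', Module.End.mul_apply]; exact hW _ (ih x hx)

variable {g : Module.End F V}

theorem inv_orth (hgB : ∀ u v, B (g u) (g v) = B u v) {W P : Submodule F V}
    (hW : ∀ x ∈ W, g x ∈ W) (hP : ∀ x ∈ P, g x ∈ P) (hginj : Function.Injective g) :
    ∀ x ∈ W ⊓ orth B P, g x ∈ W ⊓ orth B P := by
  intro x hx
  refine ⟨hW x hx.1, fun w hw => ?_⟩
  have hsurj : Function.Surjective (g.restrict hP) :=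
    LinearMap.injective_iff_surjective.1 fun a b h => Subtype.ext (hginj (congrArg Subtype.val h))
  obtain ⟨u, hu⟩ := hsurj ⟨w, hw⟩
  have : g u.1 = w := congrArg Subtype.val hu
  rw [← this, hgB]
  exact hx.2 u.1 u.2

theorem inv_sup {P R : Submodule F V} (hP : ∀ x ∈ P, g x ∈ P) (hR : ∀ x ∈ R, g x ∈ R) :
    ∀ x ∈ P ⊔ R, g x ∈ P ⊔ R := by
  intro x hx
  obtain ⟨a, ha, b, hb, rfl⟩ := Submodule.mem_sup.1 hx
  rw [map_add]
  exact Submodule.add_mem_sup (hP a ha) (hR b hb)

/-- Elements that split into pieces of dimensions two and four: the invariant nondegenerate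
subspaces of even dimension. -/
theorem exists_small (halt : ∀ v, B v v = 0) (hgB : ∀ u v, B (g u) (g v) = B u v)
    (hginj : Function.Injective g) {q : Prop}
    (step : ∀ W : Submodule F V, W ≠ ⊥ → (∀ x ∈ W, g x ∈ W) → Nd B W →
      ∃ P ≤ W, Nd B P ∧ (∀ x ∈ P, g x ∈ P) ∧ (finrank F P = 2 ∨ (q ∧ finrank F P = 4))) :
    ∀ (n : ℕ) (W : Submodule F V), finrank F W = n → (∀ x ∈ W, g x ∈ W) → Nd B W → Even n →
      ∀ m, Even m → m ≤ n → (¬ q ∨ m % 4 = 0 ∨ n % 4 = 2) →
        ∃ R ≤ W, Nd B R ∧ (∀ x ∈ R, g x ∈ R) ∧ finrank F R = m := by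
  intro n
  induction n using Nat.strong_induction_on with
  | _ n ih =>
    intro W hn hWg hW hne m hme hmn hc
    rcases Nat.eq_zero_or_pos m with rfl | hm
    · exact ⟨⊥, bot_le, nd_bot, fun x hx => by simp_all, finrank_bot F V⟩
    obtain ⟨P, hPW, hP, hPg, hPd⟩ := step W (fun e => by rw [e, finrank_bot] at hn; omega) hWg hW
    obtain ⟨-, hrest, hdim⟩ := split halt hPW hP hW
    have hg' := inv_orth hgB hWg hPg hginj
    obtain ⟨a, rfl⟩ := hne
    obtain ⟨b, rfl⟩ := hme
    have take : ∀ m', finrank F P + m' = b + b → Even m' → m' ≤ finrank F ↥(W ⊓ orth B P) →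
        (¬ q ∨ m' % 4 = 0 ∨ finrank F ↥(W ⊓ orth B P) % 4 = 2) →
        ∃ R ≤ W, Nd B R ∧ (∀ x ∈ R, g x ∈ R) ∧ finrank F R = b + b := by
      intro m' hm' he hle hc'
      obtain ⟨R, hRW, hR, hRg, hRd⟩ := ih _ (by rcases hPd with h | ⟨-, h⟩ <;> omega) _ rfl hg' hrest
        (by rw [Nat.even_iff]; rcases hPd with h | ⟨-, h⟩ <;> omega) m' he hle hc'
      exact ⟨P ⊔ R, sup_le hPW (hRW.trans inf_le_left), nd_sup halt hP hR (hRW.trans inf_le_right),
        inv_sup hPg hRg, by rw [finrank_sup hP (hRW.trans inf_le_right), hRd, hm']⟩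
    have skip : b + b ≤ finrank F ↥(W ⊓ orth B P) →
        (¬ q ∨ (b + b) % 4 = 0 ∨ finrank F ↥(W ⊓ orth B P) % 4 = 2) →
        ∃ R ≤ W, Nd B R ∧ (∀ x ∈ R, g x ∈ R) ∧ finrank F R = b + b := by
      intro hle hc'
      obtain ⟨R, hRW, hR, hRg, hRd⟩ := ih _ (by rcases hPd with h | ⟨-, h⟩ <;> omega) _ rfl hg' hrest
        (by rw [Nat.even_iff]; rcases hPd with h | ⟨-, h⟩ <;> omega) _ ⟨b, rfl⟩ hle hc'
      exact ⟨R, hRW.trans inf_le_left, hR, hRg, hRd⟩
    rcases hPd with h2 | ⟨hq, h4⟩
    · by_cases ht : ¬ q ∨ (b + b) % 4 = 2 ∨ (a + a) % 4 = 0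
      · refine take (b + b - 2) (by omega) ⟨b - 1, by omega⟩ (by omega) ?_
        rcases ht with h | h | h
        · exact Or.inl h
        · right; left; omega
        · right; right; omega
      · push Not at ht
        exact skip (by omega) (Or.inr (Or.inl (by omega)))
    · by_cases ht : 4 ≤ b + b
      · refine take (b + b - 4) (by omega) ⟨b - 2, by omega⟩ (by omega) ?_
        rcases hc with h | h | h
        · exact Or.inl h
        · right; left; omega
        · right; right; omega
      · rcases hc with h | h | h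
        · exact absurd hq h
        · exfalso; omega
        · exact skip (by omega) (Or.inr (Or.inr (by omega)))

/-! ### Jordan pieces of unipotent isometries -/

/-- Symplectic partitions: odd parts have even multiplicity. -/
def SympPart (μ : Multiset ℕ) : Prop := ∀ a : ℕ, Odd a → Even (μ.count a)

theorem adj_step (hgB : ∀ u v, B (g u) (g v) = B u v) (i j : ℕ) (x y : V) :
    B (((g - 1) ^ (i + 1)) x) (((g - 1) ^ j) y) =
      - B (((g - 1) ^ i) (g x)) (((g - 1) ^ (j + 1)) y) := by
  have hc : ((g - 1) ^ i) (g x) = g (((g - 1) ^ i) x) := by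
    rw [← Module.End.mul_apply, ← Module.End.mul_apply,
      (((Commute.refl g).sub_left (Commute.one_left g)).pow_left i).eq]
  rw [hc, pow_succ' _ i, pow_succ' _ j, Module.End.mul_apply, Module.End.mul_apply]
  simp only [LinearMap.sub_apply, Module.End.one_apply, map_sub, hgB]
  ring

theorem adj_zero (hgB : ∀ u v, B (g u) (g v) = B u v) {a : ℕ} {y : V} (hy : ((g - 1) ^ a) y = 0) :
    ∀ (i j : ℕ) (x : V), a ≤ i + j → B (((g - 1) ^ i) x) (((g - 1) ^ j) y) = 0 := by
  intro i
  induction i with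
  | zero =>
    intro j x h
    rw [show j = (j - a) + a by omega, pow_add, Module.End.mul_apply, hy]
    simp
  | succ i ih =>
    intro j x h
    rw [adj_step hgB, ih (j + 1) _ (by omega), neg_zero]

theorem adj_pow (hgB : ∀ u v, B (g u) (g v) = B u v) {a : ℕ} {y : V} (hy : ((g - 1) ^ a) y = 0) :
    ∀ (i j : ℕ) (x : V), a ≤ i + j + 1 →
      B (((g - 1) ^ i) x) (((g - 1) ^ j) y) = (-1) ^ i * B x (((g - 1) ^ (i + j)) y) := by
  intro i
  induction i with
  | zero => intro j x _; simp
  | succ i ih =>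
    intro j x h
    have hz : g (((g - 1) ^ (i + j + 1)) y) = ((g - 1) ^ (i + j + 1)) y := by
      have h' : ((g - 1) ^ (i + j + 1 + 1)) y = 0 := by
        rw [show i + j + 1 + 1 = (i + j + 2 - a) + a by omega, pow_add, Module.End.mul_apply, hy, map_zero]
      rw [pow_succ', Module.End.mul_apply] at h'
      simpa [sub_eq_zero] using h'
    rw [adj_step hgB, ih (j + 1) _ (by omega), ← add_assoc, show i + 1 + j = i + j + 1 by omega]
    conv_lhs => rw [← hz, hgB]
    ring

theorem top_flip (halt : ∀ v, B v v = 0) (hgB : ∀ u v, B (g u) (g v) = B u v) {k : ℕ} {x y : V}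
    (hx : ((g - 1) ^ (k + 1)) x = 0) :
    B y (((g - 1) ^ k) x) = (-1) ^ (k + 1) * B x (((g - 1) ^ k) y) := by
  have h := adj_pow hgB hx k 0 y le_rfl
  rw [pow_zero, Module.End.one_apply, add_zero, skew halt x (((g - 1) ^ k) y)] at h
  have e : ((-1 : F) ^ k) * ((-1) ^ k) = 1 := by rw [← mul_pow]; simp
  linear_combination (-((-1 : F) ^ k)) * h - B y (((g - 1) ^ k) x) * e

/-- A nondegenerate piece spanned by Jordan chains of full length. -/
theorem exists_chains (halt : ∀ v, B v v = 0) (hgB : ∀ u v, B (g u) (g v) = B u v) {k : ℕ}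
    {ι : Type*} [Fintype ι] [DecidableEq ι] {W : Submodule F V} (hW : ∀ x ∈ W, g x ∈ W)
    (v : ι → V) (hv : ∀ j, v j ∈ W) (hk : ∀ x ∈ W, ((g - 1) ^ (k + 1)) x = 0)
    (hβ : ∀ c : ι → F, (∀ l, ∑ j, c j * B (v j) (((g - 1) ^ k) (v l)) = 0) → c = 0) :
    ∃ P ≤ W, Nd B P ∧ (∀ x ∈ P, g x ∈ P) ∧ finrank F P = Fintype.card ι * (k + 1) ∧
      ∀ j, finrank F ↥(P.map ((g - 1) ^ j)) = Fintype.card ι * (k + 1 - j) := by
  classical
  set N := g - 1 with hN
  have hNW : ∀ x ∈ W, N x ∈ W := fun x hx => by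
    rw [hN, LinearMap.sub_apply, Module.End.one_apply]; exact W.sub_mem (hW x hx) hx
  let f : ι × Fin (k + 1) → V := fun t => (N ^ (t.2 : ℕ)) (v t.1)
  have key : ∀ c : ι × Fin (k + 1) → F,
      (∀ t, B (∑ s, c s • f s) (f t) = 0) → ∀ s, c s = 0 := by
    intro c hc
    suffices ∀ n, ∀ i : Fin (k + 1), (i : ℕ) < n → ∀ j, c (j, i) = 0 from
      fun s => this _ s.2 (Nat.lt_succ_self _) s.1
    intro n
    induction n with
    | zero => exact fun i hi => absurd hi (Nat.not_lt_zero _)
    | succ n ih =>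
      intro i hi
      rcases Nat.lt_succ_iff_lt_or_eq.1 hi with h | h
      · exact ih i h
      intro j
      refine congrFun (hβ (fun j => c (j, i)) fun l => ?_) j
      have h1 := hc (l, ⟨k - i, by omega⟩)
      simp only [map_sum, map_smul, LinearMap.sum_apply, LinearMap.smul_apply, smul_eq_mul, f,
        Fintype.sum_prod_type] at h1
      rw [Finset.sum_comm, Finset.sum_eq_single i] at h1
      · have hstep : ∀ j, B ((N ^ (i : ℕ)) (v j)) ((N ^ (k - (i : ℕ))) (v l)) =
            (-1) ^ (i : ℕ) * B (v j) ((N ^ k) (v l)) := fun j => by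
          rw [hN, adj_pow hgB (hk _ (hv l)) (i : ℕ) (k - i) _ (by omega),
            show (i : ℕ) + (k - i) = k by omega]
        simp only [hstep] at h1
        rw [← mul_eq_zero_iff_left (pow_ne_zero (i : ℕ) (neg_ne_zero.2 (one_ne_zero (α := F)))),
          Finset.mul_sum, ← h1]
        exact Finset.sum_congr rfl fun j _ => by ring
      · intro i' _ hne
        refine Finset.sum_eq_zero fun j _ => ?_
        rcases Nat.lt_or_gt_of_ne (fun e => hne (Fin.ext e)) with h2 | h2
        · rw [ih i' (by omega) j, zero_mul]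
        · rw [adj_zero hgB (hk _ (hv l)) _ _ _ (by omega), mul_zero]
      · exact fun hni => absurd (Finset.mem_univ i) hni
  have hli : LinearIndependent F f :=
    Fintype.linearIndependent_iff.2 fun c hc => key c fun t => by rw [hc]; simp
  set P := Submodule.span F (Set.range f)
  have hNf : ∀ (j i : ℕ) (l : ι) (hle : i + j ≤ k), (N ^ j) ((N ^ i) (v l)) = f (l, ⟨i + j, by omega⟩) :=
    fun j i l hle => by simp only [f]; rw [← Module.End.mul_apply, ← pow_add, add_comm j i]
  have hmap : ∀ j, P.map (N ^ j) =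
      Submodule.span F (Set.range fun t : {t : ι × Fin (k + 1) // j ≤ (t.2 : ℕ)} => f t.1) := by
    intro j
    rw [Submodule.map_span]
    refine le_antisymm (Submodule.span_le.2 ?_) (Submodule.span_le.2 ?_)
    · rintro _ ⟨_, ⟨⟨l, i⟩, rfl⟩, rfl⟩
      by_cases h : (i : ℕ) + j ≤ k
      · exact Submodule.subset_span ⟨⟨(l, ⟨i + j, by omega⟩), Nat.le_add_left _ _⟩, (hNf j i l h).symm⟩
      · have : (N ^ j) (f (l, i)) = 0 := by
          simp only [f]
          rw [← Module.End.mul_apply, ← pow_add, show j + (i : ℕ) = (j + i - (k + 1)) + (k + 1) by omega,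
            pow_add, Module.End.mul_apply, hk _ (hv l), map_zero]
        rw [this]; exact zero_mem _
    · rintro _ ⟨⟨⟨l, i⟩, hji⟩, rfl⟩
      simp only at hji
      refine Submodule.subset_span ⟨f (l, ⟨i - j, by omega⟩), ⟨_, rfl⟩, ?_⟩
      show (N ^ j) ((N ^ ((i : ℕ) - j)) (v l)) = (N ^ (i : ℕ)) (v l)
      rw [← Module.End.mul_apply, ← pow_add, Nat.add_sub_cancel' hji]
  refine ⟨P, Submodule.span_le.2 ?_, fun x hx hz => ?_, fun x hx => ?_, ?_, fun j => ?_⟩
  · rintro _ ⟨⟨l, i⟩, rfl⟩
    exact map_pow_le hNW _ _ (hv l)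
  · obtain ⟨c, rfl⟩ := (Submodule.mem_span_range_iff_exists_fun F).1 hx
    exact Finset.sum_eq_zero fun s _ => by
      rw [key c (fun t => hz _ (Submodule.subset_span ⟨t, rfl⟩)) s, zero_smul]
  · have h1 : N x ∈ P := by
      have hm := Submodule.mem_map_of_mem (f := N ^ 1) hx
      rw [hmap 1] at hm
      rw [← pow_one N]
      exact Submodule.span_mono (by rintro _ ⟨t, rfl⟩; exact ⟨t.1, rfl⟩) hm
    have : g x = N x + x := by simp [hN]
    rw [this]
    exact P.add_mem h1 hx
  · rw [finrank_span_eq_card hli, Fintype.card_prod, Fintype.card_fin]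
  · rw [hmap j, finrank_span_eq_card (b := fun t : {t : ι × Fin (k + 1) // j ≤ (t.2 : ℕ)} => f t.1)
      (hli.comp _ Subtype.val_injective)]
    let e : {t : ι × Fin (k + 1) // j ≤ (t.2 : ℕ)} ≃ ι × Fin (k + 1 - j) :=
      { toFun := fun t => (t.1.1, ⟨t.1.2 - j, by have := t.1.2.2; have := t.2; omega⟩)
        invFun := fun t => ⟨(t.1, ⟨t.2 + j, by have := t.2.2; omega⟩), Nat.le_add_left _ _⟩
        left_inv := fun t => Subtype.ext (Prod.ext rfl (Fin.ext (Nat.sub_add_cancel t.2)))
        right_inv := fun t => Prod.ext rfl (Fin.ext (Nat.add_sub_cancel _ _)) }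
    rw [Fintype.card_congr e, Fintype.card_prod, Fintype.card_fin]

theorem map_pow_sup {N : Module.End F V} {P R : Submodule F V} (hP : Nd B P) (h : R ≤ orth B P)
    (hPN : ∀ x ∈ P, N x ∈ P) (hRN : ∀ x ∈ R, N x ∈ R) (j : ℕ) :
    finrank F ↥((P ⊔ R).map (N ^ j)) = finrank F ↥(P.map (N ^ j)) + finrank F ↥(R.map (N ^ j)) := by
  rw [Submodule.map_sup]
  have hp : P.map (N ^ j) ≤ P := by rintro _ ⟨x, hx, rfl⟩; exact map_pow_le hPN j x hx
  have hr : R.map (N ^ j) ≤ R := by rintro _ ⟨x, hx, rfl⟩; exact map_pow_le hRN j x hx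
  have := Submodule.finrank_sup_add_finrank_inf_eq (P.map (N ^ j)) (R.map (N ^ j))
  rw [show P.map (N ^ j) ⊓ R.map (N ^ j) = ⊥ from le_bot_iff.1 ((inf_le_inf hp (hr.trans h)).trans
    (nd_inf_orth hP).le), finrank_bot, add_zero] at this
  exact this

/-- The decomposition into Jordan pieces. -/
theorem exists_pieces (halt : ∀ v, B v v = 0) (hgB : ∀ u v, B (g u) (g v) = B u v) (h2 : (2 : F) ≠ 0)
    {p : ℕ} (hgp : (g - 1) ^ p = 0) :
    ∀ (n : ℕ) (W : Submodule F V), finrank F W = n → (∀ x ∈ W, g x ∈ W) → Nd B W →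
      ∃ μ : Multiset ℕ, (∀ a ∈ μ, 0 < a ∧ a ≤ p) ∧ SympPart μ ∧ μ.sum = n ∧
        (∀ j, finrank F ↥(W.map ((g - 1) ^ j)) = (μ.map (· - j)).sum) ∧
        ∀ ν ≤ μ, SympPart ν → ∃ R ≤ W, Nd B R ∧ (∀ x ∈ R, g x ∈ R) ∧ finrank F R = ν.sum := by
  classical
  intro n
  induction n using Nat.strong_induction_on with
  | _ n ih =>
    intro W hn hWg hW
    set N := g - 1 with hN
    rcases Nat.eq_zero_or_pos n with rfl | hn0
    · refine ⟨0, by simp, fun a _ => by simp, by simp, fun j => ?_, fun ν hν _ =>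
        ⟨⊥, bot_le, nd_bot, fun x hx => by simp_all, by rw [Multiset.le_zero.1 hν]; simp⟩⟩
      rw [Submodule.finrank_eq_zero.1 hn, Submodule.map_bot]; simp
    have hginj : Function.Injective g := by
      rw [injective_iff_map_eq_zero]
      intro x hx
      have h1 : ∀ j : ℕ, (N ^ j) x = (-1 : F) ^ j • x := by
        intro j
        induction j with
        | zero => simp
        | succ j ihj =>
          rw [pow_succ', Module.End.mul_apply, ihj, map_smul, hN, LinearMap.sub_apply, hx,
            Module.End.one_apply, zero_sub, smul_neg, pow_succ, mul_neg_one, neg_smul]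
      have := h1 p
      rw [hgp, LinearMap.zero_apply, eq_comm, smul_eq_zero] at this
      exact this.resolve_left (pow_ne_zero _ (neg_ne_zero.2 one_ne_zero))
    have hex : ∃ k, ∀ x ∈ W, (N ^ k) x = 0 := ⟨p, fun x _ => by rw [hgp]; rfl⟩
    have hWne : W ≠ ⊥ := fun e => by rw [e, finrank_bot] at hn; omega
    obtain ⟨k, hk⟩ : ∃ k, Nat.find hex = k + 1 := by
      refine ⟨Nat.find hex - 1, (Nat.sub_add_cancel ?_).symm⟩
      by_contra h
      have h0 := Nat.find_spec hex
      rw [show Nat.find hex = 0 by omega] at h0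
      exact hWne ((Submodule.eq_bot_iff _).2 fun x hx => by simpa using h0 x hx)
    have hkp : k + 1 ≤ p := hk ▸ Nat.find_min' hex (fun x _ => by rw [hgp]; rfl)
    have hkill : ∀ x ∈ W, (N ^ (k + 1)) x = 0 := fun x hx => hk ▸ Nat.find_spec hex x hx
    obtain ⟨u, hu, w, hw, huw⟩ : ∃ u ∈ W, ∃ w ∈ W, B u ((N ^ k) w) ≠ 0 := by
      by_contra hall
      push Not at hall
      refine Nat.find_min hex (show k < _ by omega) fun w hw => hW _ (map_pow_le
        (fun x hx => W.sub_mem (hWg x hx) hx) k w hw) fun y hy => ?_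
      rw [skew halt y, hall y hy w hw, neg_zero]
    have build : ∀ (e : ℕ) (P : Submodule F V), 0 < e → P ≤ W → Nd B P → (∀ x ∈ P, g x ∈ P) →
        finrank F P = e * (k + 1) → (∀ j, finrank F ↥(P.map (N ^ j)) = e * (k + 1 - j)) →
        (Odd (k + 1) → e = 2) → (Even (k + 1) → e = 1) →
        ∃ μ : Multiset ℕ, (∀ a ∈ μ, 0 < a ∧ a ≤ p) ∧ SympPart μ ∧ μ.sum = n ∧
          (∀ j, finrank F ↥(W.map (N ^ j)) = (μ.map (· - j)).sum) ∧
          ∀ ν ≤ μ, SympPart ν → ∃ R ≤ W, Nd B R ∧ (∀ x ∈ R, g x ∈ R) ∧ finrank F R = ν.sum := by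
      intro e P he hPW hP hPg hPd hPr hodd heven
      obtain ⟨hsup, hrest, hdim⟩ := split halt hPW hP hW
      have hg' := inv_orth hgB hWg hPg hginj
      obtain ⟨μ, hμ, hμp, hμs, hμr, hμν⟩ := ih (finrank F ↥(W ⊓ orth B P))
        (by have : 0 < e * (k + 1) := Nat.mul_pos he (Nat.succ_pos k); omega) _ rfl hg' hrest
      refine ⟨Multiset.replicate e (k + 1) + μ, ?_, ?_, ?_, fun j => ?_, ?_⟩
      · intro a ha
        rcases Multiset.mem_add.1 ha with ha | ha
        · rw [Multiset.eq_of_mem_replicate ha]; exact ⟨Nat.succ_pos _, hkp⟩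
        · exact hμ a ha
      · intro a ha
        rw [Multiset.count_add, Multiset.count_replicate]
        split_ifs with h
        · subst h; rw [hodd ha]; exact even_two.add (hμp _ ha)
        · rw [zero_add]; exact hμp a ha
      · rw [Multiset.sum_add, Multiset.sum_replicate, smul_eq_mul, hμs]; omega
      · conv_lhs => rw [← hsup]
        rw [map_pow_sup hP inf_le_right (fun x hx => P.sub_mem (hPg x hx) hx)
          (fun x hx => Submodule.sub_mem _ (hg' x hx) hx) j, hPr, hμr, Multiset.map_add, Multiset.sum_add,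
          Multiset.map_replicate, Multiset.sum_replicate, smul_eq_mul]
      · intro ν hν hνp
        by_cases hmem : Multiset.replicate e (k + 1) ≤ ν
        · obtain ⟨ν', rfl⟩ := Multiset.le_iff_exists_add.1 hmem
          have hν'p : SympPart ν' := fun a ha => by
            have := hνp a ha
            rw [Multiset.count_add, Multiset.count_replicate] at this
            split_ifs at this with h
            · subst h; rw [hodd ha] at this; exact (Nat.even_add.1 this).1 even_two
            · rwa [zero_add] at this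
          obtain ⟨R, hRW, hR, hRg, hRd⟩ := hμν ν' (le_of_add_le_add_left hν) hν'p
          exact ⟨P ⊔ R, sup_le hPW (hRW.trans inf_le_left), nd_sup halt hP hR (hRW.trans inf_le_right),
            inv_sup hPg hRg, by rw [finrank_sup hP (hRW.trans inf_le_right), hRd, hPd, Multiset.sum_add,
              Multiset.sum_replicate, smul_eq_mul]⟩
        · have hle : ν ≤ μ := by
            rw [Multiset.le_iff_count] at hν ⊢
            intro a
            have := hν a
            rw [Multiset.count_add, Multiset.count_replicate] at this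
            split_ifs at this with h
            · subst h
              rw [Multiset.le_count_iff_replicate_le.symm] at hmem
              rcases Nat.even_or_odd (k + 1) with hev | hod
              · rw [heven hev] at hmem; omega
              · rw [hodd hod] at hmem
                obtain ⟨c, hc⟩ := hνp _ hod
                omega
            · omega
          obtain ⟨R, hRW, hR, hRg, hRd⟩ := hμν ν hle hνp
          exact ⟨R, hRW.trans inf_le_left, hR, hRg, hRd⟩
    have hflip : ∀ x ∈ W, ∀ y : V, B y ((N ^ k) x) = (-1) ^ (k + 1) * B x ((N ^ k) y) := fun x hx y =>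
      top_flip halt hgB (hkill x hx)
    rcases Nat.even_or_odd (k + 1) with hev | hod
    · obtain ⟨v, hv, hvv⟩ : ∃ v ∈ W, B v ((N ^ k) v) ≠ 0 := by
        by_contra hall
        push Not at hall
        have h := hall (u + w) (W.add_mem hu hw)
        simp only [map_add, LinearMap.add_apply, hall u hu, hall w hw, hflip u hu w,
          hev.neg_one_pow, one_mul] at h
        exact huw ((mul_eq_zero.1 (show (2 : F) * B u ((N ^ k) w) = 0 by linear_combination h)).resolve_left h2)
      obtain ⟨P, hPW, hP, hPg, hPd, hPr⟩ := exists_chains halt hgB hWg (fun _ : Fin 1 => v) (fun _ => hv) hkill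
        (fun c hc => funext fun j => by
          have := hc 0
          rw [Fin.sum_univ_one] at this
          rw [show j = 0 from Subsingleton.elim _ _]
          exact (mul_eq_zero.1 this).resolve_right hvv)
      rw [Fintype.card_fin] at hPd hPr
      exact build 1 P Nat.one_pos hPW hP hPg hPd hPr
        (fun h => absurd hev (Nat.not_even_iff_odd.2 h)) (fun _ => rfl)
    · have hdiag : ∀ x ∈ W, B x ((N ^ k) x) = 0 := fun x hx => by
        have := hflip x hx x
        rw [hod.neg_one_pow] at this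
        exact (mul_eq_zero.1 (show (2 : F) * B x ((N ^ k) x) = 0 by linear_combination this)).resolve_left h2
      obtain ⟨P, hPW, hP, hPg, hPd, hPr⟩ := exists_chains halt hgB hWg ![u, w]
        (fun j => by fin_cases j <;> assumption) hkill (fun c hc => by
          have h0 := hc 0
          have h1 := hc 1
          simp only [← hN, Fin.sum_univ_two, Matrix.cons_val_zero, Matrix.cons_val_one, hdiag u hu, hdiag w hw,
            mul_zero, zero_add, add_zero, hflip u hu w, hod.neg_one_pow] at h0 h1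
          funext j
          fin_cases j
          · exact (mul_eq_zero.1 h1).resolve_right huw
          · exact (mul_eq_zero.1 h0).resolve_right (mul_ne_zero (neg_ne_zero.2 one_ne_zero) huw))
      rw [Fintype.card_fin] at hPd hPr
      exact build 2 P Nat.two_pos hPW hP hPg hPd hPr (fun _ => rfl)
        (fun h => absurd h (Nat.not_even_iff_odd.2 hod))

theorem count_of_ranks (μ : Multiset ℕ) (k : ℕ) :
    (μ.map (· - k)).sum + (μ.map (· - (k + 2))).sum =
      2 * (μ.map (· - (k + 1))).sum + μ.count (k + 1) := by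
  induction μ using Multiset.induction_on with
  | empty => simp
  | cons b μ ih =>
    simp only [Multiset.map_cons, Multiset.sum_cons, Multiset.count_cons]
    split_ifs <;> omega

theorem eq_of_ranks {μ ν : Multiset ℕ} (hμ : ∀ a ∈ μ, 0 < a) (hν : ∀ a ∈ ν, 0 < a)
    (h : ∀ j, (μ.map (· - j)).sum = (ν.map (· - j)).sum) : μ = ν := by
  ext a
  rcases a with _ | a
  · rw [Multiset.count_eq_zero.2 fun h => lt_irrefl 0 (hμ 0 h),
      Multiset.count_eq_zero.2 fun h => lt_irrefl 0 (hν 0 h)]
  · have h1 := count_of_ranks μ a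
    have h2 := count_of_ranks ν a
    rw [h, h, h] at h1
    omega

/-- An invariant nondegenerate subspace takes part of the Jordan partition. -/
theorem exists_part_of_sub (halt : ∀ v, B v v = 0) (hgB : ∀ u v, B (g u) (g v) = B u v)
    (hginj : Function.Injective g) (h2 : (2 : F) ≠ 0) {p : ℕ} (hgp : (g - 1) ^ p = 0)
    {μ : Multiset ℕ} (hμ : ∀ a ∈ μ, 0 < a)
    (hr : ∀ j, finrank F ↥(LinearMap.range ((g - 1) ^ j)) = (μ.map (· - j)).sum)
    (htop : Nd B (⊤ : Submodule F V)) {W : Submodule F V} (hW : Nd B W) (hWg : ∀ x ∈ W, g x ∈ W) :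
    ∃ ν : Multiset ℕ, ν ≤ μ ∧ SympPart ν ∧ ν.sum = finrank F W := by
  obtain ⟨hsup, hrest, -⟩ := split halt le_top hW htop
  have hg' := inv_orth hgB (W := ⊤) (fun x _ => trivial) hWg hginj
  obtain ⟨α, hα, hαp, hαs, hαr, -⟩ := exists_pieces halt hgB h2 hgp _ W rfl hWg hW
  obtain ⟨β, hβ, -, -, hβr, -⟩ := exists_pieces halt hgB h2 hgp _ _ rfl hg' hrest
  refine ⟨α, ?_, hαp, hαs⟩
  rw [eq_of_ranks (μ := μ) (ν := α + β) hμ (fun a ha => by
    rcases Multiset.mem_add.1 ha with ha | ha
    exacts [(hα a ha).1, (hβ a ha).1]) fun j => ?_]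
  · exact Multiset.le_add_right _ _
  rw [← hr j, LinearMap.range_eq_map, ← hsup, map_pow_sup hW inf_le_right
    (fun x hx => W.sub_mem (hWg x hx) hx) (fun x hx => Submodule.sub_mem _ (hg' x hx) hx) j,
    hαr, hβr, Multiset.map_add, Multiset.sum_add]

/-! ### Isometries with a prescribed partition -/

section Model

variable {T : Type*} [Fintype T] [DecidableEq T]

/-- The form pairing each coordinate with its partner. -/
def pairForm (σ : T → F) (π : T → T) : (T → F) →ₗ[F] (T → F) →ₗ[F] F :=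
  LinearMap.mk₂ F (fun x y => ∑ t, σ t * x t * y (π t))
    (fun x x' y => by simp [mul_add, add_mul, Finset.sum_add_distrib])
    (fun c x y => by rw [smul_eq_mul, Finset.mul_sum]; exact Finset.sum_congr rfl fun t _ => by simp; ring)
    (fun x y y' => by simp [mul_add, Finset.sum_add_distrib])
    (fun c x y => by rw [smul_eq_mul, Finset.mul_sum]; exact Finset.sum_congr rfl fun t _ => by simp; ring)

theorem pairForm_apply (σ : T → F) (π : T → T) (x y : T → F) :
    pairForm σ π x y = ∑ t, σ t * x t * y (π t) := rfl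

theorem pairForm_alt {σ : T → F} {π : T → T} (hπ : ∀ t, π (π t) = t) (hne : ∀ t, π t ≠ t)
    (hσ : ∀ t, σ (π t) = - σ t) (x : T → F) : pairForm σ π x x = 0 := by
  rw [pairForm_apply]
  exact Finset.sum_involution (fun t _ => π t) (fun t _ => by rw [hσ, hπ]; ring)
    (fun t _ _ => hne t) (fun t _ => Finset.mem_univ _) (fun t _ => hπ t)

theorem pairForm_nd {σ : T → F} {π : T → T} (hπ : ∀ t, π (π t) = t) (hσ : ∀ t, σ t ≠ 0) :
    Nd (pairForm σ π) (⊤ : Submodule F (T → F)) := by
  intro x _ hx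
  funext t
  have h := hx (Pi.single (π t) 1) trivial
  rw [pairForm_apply, Finset.sum_eq_single t] at h
  · simpa [hσ t] using h
  · intro s _ hs
    rw [Pi.single_eq_of_ne (fun e => hs (by rw [← hπ s, e, hπ])), mul_zero]
  · exact fun h => absurd (Finset.mem_univ _) h

end Model

/-- An alternating form with a skew nilpotent map of a prescribed symplectic partition. -/
theorem exists_model (μ : Multiset ℕ) (hμ : SympPart μ) :
    ∃ (T : Type) (_ : Fintype T) (_ : DecidableEq T)
      (C : (T → F) →ₗ[F] (T → F) →ₗ[F] F) (N : Module.End F (T → F)),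
      Fintype.card T = μ.sum ∧ (∀ x, C x x = 0) ∧ Nd C ⊤ ∧ (∀ x y, C (N x) y = - C x (N y)) ∧
      ∀ j, finrank F ↥(LinearMap.range (N ^ j)) = (μ.map (· - j)).sum := by
  classical
  let β := Σ a : {a // a ∈ μ.toFinset}, Fin (μ.count a.1)
  let sz : β → ℕ := fun b => b.1.1
  have hsum : ∀ f : ℕ → ℕ, ∑ b : β, f (sz b) = (μ.map f).sum := by
    intro f
    rw [Fintype.sum_sigma, Finset.sum_multiset_map_count μ f,
      ← Finset.sum_coe_sort μ.toFinset]
    exact Finset.sum_congr rfl fun a _ => by simp [sz]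
  let π : β → β := fun b =>
    ⟨b.1, ⟨if Odd b.1.1 then (if (b.2 : ℕ) % 2 = 0 then (b.2 : ℕ) + 1 else (b.2 : ℕ) - 1)
      else (b.2 : ℕ), by
        have := b.2.2
        split_ifs with h h'
        · obtain ⟨c, hc⟩ := hμ _ h
          omega
        · omega
        · omega⟩⟩
  have hππ : ∀ b, π (π b) = b := by
    rintro ⟨a, l⟩
    refine congrArg (Sigma.mk a) (Fin.ext ?_)
    show (if Odd a.1 then _ else _) = (l : ℕ)
    by_cases h : Odd a.1 <;> simp only [π, h, if_true, if_false]
    split_ifs <;> omega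
  let T := Σ b : β, Fin (sz b)
  let P : T → T := fun t =>
    ⟨π t.1, ⟨sz t.1 - 1 - t.2, by show _ < sz t.1; have := t.2.2; omega⟩⟩
  let τ : β → ℕ := fun b => if Odd (sz b) then (b.2 : ℕ) else 0
  let σ : T → F := fun t => (-1) ^ ((t.2 : ℕ) + τ t.1)
  have hext : ∀ {b b' : β} (_ : b = b') (i : Fin (sz b)) (i' : Fin (sz b')), (i : ℕ) = i' →
      (⟨b, i⟩ : T) = ⟨b', i'⟩ := by
    rintro b b' rfl i i' h; rw [Fin.ext h]
  have hP : ∀ t, P (P t) = t := fun ⟨b, i⟩ => hext (hππ b) _ _ (by
    show sz b - 1 - (sz b - 1 - (i : ℕ)) = i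
    have := i.2; omega)
  have hπne : ∀ b, Odd (sz b) → ((π b).2 : ℕ) % 2 ≠ (b.2 : ℕ) % 2 := fun b h => by
    show (if Odd b.1.1 then _ else _) % 2 ≠ _
    rw [if_pos h]
    split_ifs <;> omega
  have hPne : ∀ t, P t ≠ t := by
    rintro ⟨b, i⟩ h
    have h1 : π b = b := congrArg Sigma.fst h
    have h2 : sz b - 1 - (i : ℕ) = (i : ℕ) := congrArg (fun t : T => (t.2 : ℕ)) h
    have := i.2
    by_cases hb : Odd (sz b)
    · exact hπne b hb (by rw [h1])
    · obtain ⟨c, hc⟩ := Nat.not_odd_iff_even.1 hb; omega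
  have hσP : ∀ t, σ (P t) = - σ t := by
    rintro ⟨b, i⟩
    have := i.2
    have hpar : ((sz b - 1 - (i : ℕ)) + τ (π b)) % 2 = (((i : ℕ) + τ b) + 1) % 2 := by
      by_cases hb : Odd (sz b)
      · have := hπne b hb
        simp only [τ, if_pos hb, if_pos (show Odd (sz (π b)) from hb)]
        obtain ⟨c, hc⟩ := hb
        omega
      · simp only [τ, if_neg hb, if_neg (show ¬ Odd (sz (π b)) from hb)]
        obtain ⟨c, hc⟩ := Nat.not_odd_iff_even.1 hb
        omega
    show (-1 : F) ^ ((sz b - 1 - (i : ℕ)) + τ (π b)) = - (-1) ^ ((i : ℕ) + τ b)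
    rw [neg_one_pow_eq_pow_mod_two, hpar, ← neg_one_pow_eq_pow_mod_two, pow_succ, mul_neg_one]
  let X : (T → F) → β → ℕ → F := fun x b i => if h : i < sz b then x ⟨b, ⟨i, h⟩⟩ else 0
  have hX : ∀ (x : T → F) (b : β) (i : Fin (sz b)), x ⟨b, i⟩ = X x b i := fun x b i => by
    simp only [X, i.2, dif_pos]
  let N : Module.End F (T → F) :=
    { toFun := fun x t => if (t.2 : ℕ) = 0 then 0 else X x t.1 ((t.2 : ℕ) - 1)
      map_add' := fun x y => funext fun t => by
        simp only [Pi.add_apply, X]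
        split_ifs <;> simp
      map_smul' := fun c x => funext fun t => by
        simp only [Pi.smul_apply, RingHom.id_apply, X, smul_eq_mul]
        split_ifs <;> simp }
  have hXN : ∀ (x : T → F) (b : β) (i : ℕ), i < sz b →
      X (N x) b i = if i = 0 then 0 else X x b (i - 1) := fun x b i hi => by
    show (if h : i < sz b then _ else _) = _
    rw [dif_pos hi]
    rfl
  have hC : ∀ x y : T → F, pairForm σ P x y =
      ∑ b : β, ∑ i ∈ Finset.range (sz b),
        (-1 : F) ^ (i + τ b) * X x b i * X y (π b) (sz b - 1 - i) := fun x y => by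
    rw [pairForm_apply, Fintype.sum_sigma]
    refine Finset.sum_congr rfl fun b _ => ?_
    rw [← Fin.sum_univ_eq_sum_range
      (fun i => (-1 : F) ^ (i + τ b) * X x b i * X y (π b) (sz b - 1 - i))]
    refine Finset.sum_congr rfl fun i _ => ?_
    show σ ⟨b, i⟩ * x ⟨b, i⟩ * y (P ⟨b, i⟩) = _
    rw [hX x b i, show P ⟨b, i⟩ = ⟨π b, ⟨sz b - 1 - i, _⟩⟩ from rfl, hX y]
  have hskew : ∀ x y, pairForm σ P (N x) y = - pairForm σ P x (N y) := by
    intro x y
    rw [hC, hC, ← Finset.sum_neg_distrib]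
    refine Finset.sum_congr rfl fun b _ => ?_
    obtain hs | ⟨m, hs⟩ : sz b = 0 ∨ ∃ m, sz b = m + 1 := by
      rcases sz b with _ | m
      · exact Or.inl rfl
      · exact Or.inr ⟨m, rfl⟩
    · simp [hs]
    rw [hs, Finset.sum_range_succ', Finset.sum_range_succ,
      hXN x b 0 (by omega), if_pos rfl, mul_zero, zero_mul, add_zero,
      hXN y (π b) _ (show _ < sz b by omega),
      if_pos (show (m + 1) - 1 - m = 0 by omega), mul_zero, add_zero, ← Finset.sum_neg_distrib]
    refine Finset.sum_congr rfl fun i hi => ?_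
    rw [Finset.mem_range] at hi
    rw [hXN x b (i + 1) (by omega), if_neg (Nat.succ_ne_zero i),
      hXN y (π b) _ (show _ < sz b by omega), if_neg (show (m + 1) - 1 - i ≠ 0 by omega),
      Nat.add_sub_cancel, show (m + 1) - 1 - (i + 1) = (m + 1) - 1 - i - 1 by omega,
      add_right_comm, pow_succ]
    ring
  have hpow : ∀ (k : ℕ) (x : T → F) (b : β) (i : ℕ), i < sz b →
      X ((N ^ k) x) b i = if i < k then 0 else X x b (i - k) := by
    intro k
    induction k with
    | zero => intro x b i _; simp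
    | succ k ihk =>
      intro x b i hi
      rw [pow_succ', Module.End.mul_apply, hXN _ b i hi]
      by_cases h0 : i = 0
      · rw [if_pos h0, if_pos (by omega)]
      · rw [if_neg h0, ihk x b (i - 1) (by omega), show i - 1 - k = i - (k + 1) by omega]
        exact if_congr (by omega) rfl rfl
  refine ⟨T, inferInstance, inferInstance, pairForm σ P, N, ?_, pairForm_alt hP hPne hσP,
    pairForm_nd hP (fun t => pow_ne_zero _ (neg_ne_zero.2 one_ne_zero)), hskew, fun k => ?_⟩
  · rw [Fintype.card_sigma]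
    simpa using hsum id
  let S := {t : T // k ≤ (t.2 : ℕ)}
  let R : LinearMap.range (N ^ k) →ₗ[F] (S → F) :=
    (LinearMap.funLeft F F (Subtype.val : S → T)).comp (LinearMap.range (N ^ k)).subtype
  have hbij : Function.Bijective R := by
    refine ⟨?_, fun w => ?_⟩
    · rw [injective_iff_map_eq_zero]
      rintro ⟨_, x, rfl⟩ hz
      refine Subtype.ext (funext fun ⟨b, i⟩ => ?_)
      by_cases h : k ≤ (i : ℕ)
      · exact congrFun hz ⟨⟨b, i⟩, h⟩
      · show (N ^ k) x ⟨b, i⟩ = 0
        rw [hX ((N ^ k) x), hpow k x b i i.2, if_pos (by omega)]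
    · let x : T → F := fun t => if h : (t.2 : ℕ) + k < sz t.1 then
        w ⟨⟨t.1, ⟨(t.2 : ℕ) + k, h⟩⟩, Nat.le_add_left _ _⟩ else 0
      refine ⟨⟨(N ^ k) x, x, rfl⟩, funext fun ⟨⟨b, i⟩, hi⟩ => ?_⟩
      show (N ^ k) x ⟨b, i⟩ = _
      have := i.2
      simp only at hi
      rw [hX ((N ^ k) x), hpow k x b i i.2, if_neg (by omega)]
      show (if h : (i : ℕ) - k < sz b then x ⟨b, ⟨_, h⟩⟩ else 0) = _
      rw [dif_pos (show (i : ℕ) - k < sz b by omega)]
      simp only [x, show (i : ℕ) - k + k = i from Nat.sub_add_cancel hi, i.2, dif_pos]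
  rw [(LinearEquiv.ofBijective R hbij).finrank_eq, Module.finrank_fintype_fun_eq_card,
    ← hsum (fun a => a - k)]
  let e : S ≃ Σ b : β, Fin (sz b - k) :=
    { toFun := fun t => ⟨t.1.1, ⟨t.1.2 - k, by have := t.1.2.2; have := t.2; omega⟩⟩
      invFun := fun t => ⟨⟨t.1, ⟨t.2 + k, by have := t.2.2; omega⟩⟩, Nat.le_add_left _ _⟩
      left_inv := fun t => Subtype.ext (hext rfl _ _ (Nat.sub_add_cancel t.2))
      right_inv := fun t => congrArg (Sigma.mk t.1) (Fin.ext (Nat.add_sub_cancel _ _)) }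
  rw [Fintype.card_congr e, Fintype.card_sigma]
  simp

end Cfsg.Agent.SympUnipotentPieces61
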