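import Mathlib
import Cfsg.Agent.Lib.SymplecticBasic
import Cfsg.Agent.Lib.SymplecticSimple
import Cfsg.Agent.Lib.SymplecticDecomp

/-!
The diagonal torus of the symplectic group and its normaliser.
-/

set_option autoImplicit false

open Matrix Cfsg.Agent.SymplecticBasic Cfsg.Agent.SymplecticSimple

namespace Cfsg.Agent.SymplecticTorus

variable {F : Type*} [Field F] {m : ℕ}

/-- A standard basis vector. -/
abbrev bas (F : Type*) [Field F] (x : Fin m ⊕ Fin m) : Fin m ⊕ Fin m → F := Pi.single x 1

/-- The diagonal torus. -/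
def torus (F : Type*) [Field F] (m : ℕ) : Subgroup (symplecticGroup (Fin m) F) :=
  ⨅ i : Fin m ⊕ Fin m, Cfsg.stabilizing (Cfsg.spToMat m F)
    ((Submodule.span F {(Pi.single i (1 : F) : Fin m ⊕ Fin m → F)} :
      Submodule F (Fin m ⊕ Fin m → F)) : Set (Fin m ⊕ Fin m → F))

theorem bas_ne_zero (x : Fin m ⊕ Fin m) : bas F x ≠ 0 := by simp [bas]

theorem smul_ne_zero' (g : symplecticGroup (Fin m) F) {v : Fin m ⊕ Fin m → F} (hv : v ≠ 0) :
    g • v ≠ 0 := fun h =>
  hv (MulAction.injective g (show g • v = g • (0 : Fin m ⊕ Fin m → F) by rw [h]; simp))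

theorem mem_torus {g : symplecticGroup (Fin m) F} :
    g ∈ torus F m ↔ ∀ i : Fin m ⊕ Fin m, ∃ a : F, g • bas F i = a • bas F i := by
  simp only [torus, Subgroup.mem_iInf]
  constructor
  · intro h i
    obtain ⟨a, ha⟩ := Submodule.mem_span_singleton.mp
      ((h i (bas F i)).mp (Submodule.mem_span_singleton_self _))
    exact ⟨a, ha.symm⟩
  · intro h i v
    obtain ⟨a, ha⟩ := h i
    have ha0 : a ≠ 0 := fun e => smul_ne_zero' g (bas_ne_zero i) (by rw [ha, e, zero_smul])
    show v ∈ Submodule.span F {bas F i} ↔ g • v ∈ Submodule.span F {bas F i}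
    simp only [Submodule.mem_span_singleton]
    constructor
    · rintro ⟨b, rfl⟩
      exact ⟨b * a, by rw [scalar_smul, ha, smul_smul]⟩
    · rintro ⟨b, hb⟩
      refine ⟨b / a, MulAction.injective g (show g • _ = g • v from ?_)⟩
      rw [scalar_smul, ha, smul_smul, div_mul_cancel₀ _ ha0, hb]

theorem form_bas_bas (x y : Fin m ⊕ Fin m) :
    sympForm m F (bas F x) (bas F y) =
      if y = x.swap then (x.elim (fun _ => -1) (fun _ => 1)) else 0 := by
  rcases x with i | i <;> rcases y with j | j <;>
    simp [form_single_inl_right, form_single_inr_right, Pi.single_apply, apply_ite, eq_comm]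

/-- The diagonal matrix `diag(a, a⁻¹)` on one hyperbolic pair. -/
theorem exists_diag (i : Fin m) {a : F} (ha : a ≠ 0) :
    ∃ g ∈ torus F m, ∀ x, g • bas F x =
      (if x = Sum.inl i then a else if x = Sum.inr i then a⁻¹ else 1) • bas F x := by
  let A : Matrix (Fin m ⊕ Fin m) (Fin m ⊕ Fin m) F :=
    Matrix.diagonal fun x => if x = Sum.inl i then a else if x = Sum.inr i then a⁻¹ else 1
  have hcol : ∀ x, A *ᵥ bas F x =
      (if x = Sum.inl i then a else if x = Sum.inr i then a⁻¹ else 1) • bas F x := fun x => by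
    funext y
    rw [Matrix.mulVec_diagonal]
    by_cases h : y = x <;> simp [bas, h]
  have hA : A ∈ symplecticGroup (Fin m) F := by
    refine SymplecticDecomp.mem_sp_of_single fun s t => ?_
    rw [hcol, hcol, form_smul_left, form_smul_right, form_bas_bas]
    by_cases h : t = s.swap
    · subst h
      rcases s with j | j <;> by_cases hj : j = i <;> simp [hj, ha]
    · simp [h]
  exact ⟨⟨A, hA⟩, mem_torus.mpr fun x => ⟨_, hcol x⟩, hcol⟩

theorem monomial_of_normalizer {a : F} (ha0 : a ≠ 0) (ha : a ^ 2 ≠ 1)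
    {g : symplecticGroup (Fin m) F}
    (hg : g ∈ Subgroup.normalizer (torus F m : Set (symplecticGroup (Fin m) F))) (x : Fin m ⊕ Fin m) :
    ∃ y, ∃ c : F, c ≠ 0 ∧ g • bas F x = c • bas F y := by
  set v := g • bas F x with hv
  have ha1 : a ≠ 1 := fun e => ha (by rw [e, one_pow])
  have hai : a⁻¹ ≠ 1 := fun e => ha1 (inv_eq_one.mp e)
  have haa : a ≠ a⁻¹ := fun e => ha (by
    rw [pow_two]; nth_rewrite 2 [e]; exact mul_inv_cancel₀ ha0)
  obtain ⟨y, hy⟩ : ∃ y, v y ≠ 0 := Function.ne_iff.mp (smul_ne_zero' g (bas_ne_zero x))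
  have key : ∀ (i : Fin m) (z : Fin m ⊕ Fin m), v z ≠ 0 →
      (if z = Sum.inl i then a else if z = Sum.inr i then a⁻¹ else 1) =
      (if y = Sum.inl i then a else if y = Sum.inr i then a⁻¹ else 1) := by
    intro i z hz
    obtain ⟨h, hh, hhact⟩ := exists_diag (m := m) i ha0
    obtain ⟨b, hb⟩ := mem_torus.mp ((Subgroup.mem_normalizer_iff''.mp hg h).mp hh) x
    have hev : h • v = b • v := by
      rw [hv, ← scalar_smul, ← hb, mul_smul, mul_smul, smul_inv_smul]
    have hcoord : ∀ w, (h • v) w =
        (if w = Sum.inl i then a else if w = Sum.inr i then a⁻¹ else 1) * v w := by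
      intro w
      have hcol : ∀ u, (h : Matrix (Fin m ⊕ Fin m) (Fin m ⊕ Fin m) F) w u =
          (if u = Sum.inl i then a else if u = Sum.inr i then a⁻¹ else 1) * bas F u w := fun u => by
        have := congrFun (hhact u) w
        rw [smul_def, Matrix.mulVec_single_one] at this
        exact this
      rw [smul_def]
      simp only [Matrix.mulVec, dotProduct, hcol, bas, Pi.single_apply, mul_ite, mul_one, mul_zero,
        ite_mul, zero_mul, Finset.sum_ite_eq, Finset.mem_univ, if_true]
    have h1 := congrFun hev z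
    have h2 := congrFun hev y
    rw [hcoord, Pi.smul_apply, smul_eq_mul] at h1 h2
    rw [mul_right_cancel₀ hz h1, mul_right_cancel₀ hy h2]
  refine ⟨y, v y, hy, funext fun z => ?_⟩
  by_cases hzy : z = y
  · simp [hzy, bas]
  simp only [Pi.smul_apply, bas, Pi.single_apply, hzy, if_false, smul_zero]
  by_contra hz
  rcases y with j | j
  · have := key j z hz
    simp only [hzy, if_false, if_true] at this
    split_ifs at this
    · exact haa this.symm
    · exact ha1 this.symm
  · have := key j z hz
    simp only [hzy, if_false, if_true, reduceCtorEq] at this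
    split_ifs at this
    · exact haa this
    · exact hai this.symm

/-- Image of a basis index under a signed permutation. -/
def spIdx (σ : Equiv.Perm (Fin m)) (b : Fin m → Bool) : Fin m ⊕ Fin m → Fin m ⊕ Fin m :=
  Sum.elim (fun i => if b i then Sum.inr (σ i) else Sum.inl (σ i))
    (fun i => if b i then Sum.inl (σ i) else Sum.inr (σ i))

/-- Coefficient of a signed monomial map. -/
def spCoef (b : Fin m → Bool) (c : Fin m → Fˣ) : Fin m ⊕ Fin m → F :=
  Sum.elim (fun i => (c i : F)) (fun i => if b i then -((c i)⁻¹ : F) else ((c i)⁻¹ : F))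

/-- A monomial symplectic matrix. -/
def monMat (σ : Equiv.Perm (Fin m)) (b : Fin m → Bool) (c : Fin m → Fˣ) :
    Matrix (Fin m ⊕ Fin m) (Fin m ⊕ Fin m) F :=
  Matrix.of fun r x => spCoef b c x * bas F (spIdx σ b x) r

theorem monMat_bas (σ : Equiv.Perm (Fin m)) (b : Fin m → Bool) (c : Fin m → Fˣ)
    (x : Fin m ⊕ Fin m) : monMat σ b c *ᵥ bas F x = spCoef b c x • bas F (spIdx σ b x) := by
  funext r; simp [bas, monMat]

theorem spIdx_swap (σ : Equiv.Perm (Fin m)) (b : Fin m → Bool) (x : Fin m ⊕ Fin m) :
    spIdx σ b x.swap = (spIdx σ b x).swap := by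
  rcases x with i | i <;> rcases h : b i with _ | _ <;> simp [spIdx, h]

theorem spIdx_injective (σ : Equiv.Perm (Fin m)) (b : Fin m → Bool) :
    Function.Injective (spIdx σ b) := by
  intro x y h
  rcases x with i | i <;> rcases y with j | j <;>
    rcases hi : b i with _ | _ <;> rcases hj : b j with _ | _ <;>
    simp [spIdx, hi, hj, σ.injective.eq_iff] at h <;> subst h <;> simp_all

theorem monMat_mem (σ : Equiv.Perm (Fin m)) (b : Fin m → Bool) (c : Fin m → Fˣ) :
    monMat σ b c ∈ symplecticGroup (Fin m) F := by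
  refine SymplecticDecomp.mem_sp_of_single fun s t => ?_
  rw [monMat_bas, monMat_bas, form_smul_left, form_smul_right, form_bas_bas, form_bas_bas]
  by_cases h : t = s.swap
  · subst h
    rw [if_pos rfl, if_pos (spIdx_swap σ b s)]
    rcases s with i | i <;> rcases hbi : b i with _ | _ <;> simp [spIdx, spCoef, hbi]
  · rw [if_neg h, if_neg fun e => h (spIdx_injective σ b (e.trans (spIdx_swap σ b s).symm))]
    simp

/-- The monomial element. -/
def mon (p : Equiv.Perm (Fin m) × (Fin m → Bool) × (Fin m → Fˣ)) : symplecticGroup (Fin m) F :=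
  ⟨monMat p.1 p.2.1 p.2.2, monMat_mem _ _ _⟩

theorem mon_bas (p : Equiv.Perm (Fin m) × (Fin m → Bool) × (Fin m → Fˣ)) (x : Fin m ⊕ Fin m) :
    mon p • bas F x = spCoef p.2.1 p.2.2 x • bas F (spIdx p.1 p.2.1 x) := monMat_bas _ _ _ x

theorem spCoef_ne_zero (b : Fin m → Bool) (c : Fin m → Fˣ) (x : Fin m ⊕ Fin m) :
    spCoef b c x ≠ (0 : F) := by
  rcases x with i | i <;> simp [spCoef]
  split <;> simp

theorem smul_bas_inj {c d : F} (hc : c ≠ 0) {x y : Fin m ⊕ Fin m}
    (h : c • bas F x = d • bas F y) : x = y ∧ c = d := by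
  have hxy : x = y := by
    by_contra hne
    have := congrFun h x
    simp [bas, hne] at this
    exact hc this
  subst hxy
  exact ⟨rfl, by simpa [bas] using congrFun h x⟩

theorem mon_mem_normalizer [Fintype F] (p : Equiv.Perm (Fin m) × (Fin m → Bool) × (Fin m → Fˣ)) :
    mon p ∈ Subgroup.normalizer (torus F m : Set (symplecticGroup (Fin m) F)) := by
  classical
  have hmap : ∀ h ∈ torus F m, mon p * h * (mon p)⁻¹ ∈ torus F m := by
    intro h hh
    refine mem_torus.mpr fun y => ?_
    obtain ⟨x, hx⟩ : ∃ x, spIdx p.1 p.2.1 x = y := by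
      rcases y with j | j <;> rcases hb : p.2.1 (p.1.symm j) with _ | _
      · exact ⟨Sum.inl (p.1.symm j), by simp [spIdx, hb]⟩
      · exact ⟨Sum.inr (p.1.symm j), by simp [spIdx, hb]⟩
      · exact ⟨Sum.inr (p.1.symm j), by simp [spIdx, hb]⟩
      · exact ⟨Sum.inl (p.1.symm j), by simp [spIdx, hb]⟩
    obtain ⟨a, ha⟩ := mem_torus.mp hh x
    refine ⟨a, ?_⟩
    rw [← hx, show bas F (spIdx p.1 p.2.1 x) =
        mon p • ((spCoef p.2.1 p.2.2 x)⁻¹ • bas F x) by
      rw [scalar_smul, mon_bas, inv_smul_smul₀ (spCoef_ne_zero _ _ _)],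
      mul_smul, mul_smul, inv_smul_smul, scalar_smul, ha, scalar_smul, scalar_smul, scalar_smul, smul_comm]
  refine Subgroup.mem_normalizer_iff.mpr fun h => ⟨hmap h, fun hh => ?_⟩
  let φ : torus F m → torus F m := fun k => ⟨mon p * k.1 * (mon p)⁻¹, hmap _ k.2⟩
  have hφ : Function.Injective φ := fun a b e =>
    Subtype.ext (mul_left_cancel (mul_right_cancel (congrArg Subtype.val e)))
  obtain ⟨k, hk⟩ := Finite.injective_iff_surjective.mp hφ ⟨_, hh⟩
  exact (mul_left_cancel (mul_right_cancel (congrArg Subtype.val hk)) : k.1 = h) ▸ k.2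

theorem card_normalizer [Fintype F] {q : ℕ} (hF : Fintype.card F = q) (hq : 4 ≤ q) (m : ℕ) :
    Nat.card (Subgroup.normalizer (torus F m : Set (symplecticGroup (Fin m) F))) =
      2 ^ m * Nat.factorial m * (q - 1) ^ m := by
  classical
  obtain ⟨a, ha⟩ : ∃ a : F, a ∉ ({0, 1, -1} : Finset F) := by
    by_contra hall
    push Not at hall
    have hcard := Finset.card_le_card (fun a _ => hall a : (Finset.univ : Finset F) ⊆ {0, 1, -1})
    rw [Finset.card_univ] at hcard
    have := (Finset.card_le_three (a := (0 : F)) (b := 1) (c := -1))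
    omega
  simp only [Finset.mem_insert, Finset.mem_singleton, not_or] at ha
  have ha2 : a ^ 2 ≠ 1 := by rw [ne_eq, sq_eq_one_iff]; tauto
  let f : Equiv.Perm (Fin m) × (Fin m → Bool) × (Fin m → Fˣ) →
      Subgroup.normalizer (torus F m : Set (symplecticGroup (Fin m) F)) :=
    fun p => ⟨mon p, mon_mem_normalizer p⟩
  have hf : Function.Bijective f := by
    constructor
    · rintro ⟨σ, b, c⟩ ⟨σ', b', c'⟩ h
      have h0 : ∀ i, b i = b' i ∧ σ i = σ' i ∧ c i = c' i := by
        intro i
        have h1 : mon (σ, b, c) • bas F (Sum.inl i) = mon (σ', b', c') • bas F (Sum.inl i) := by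
          rw [show mon (σ, b, c) = mon (σ', b', c') from congrArg Subtype.val h]
        rw [mon_bas, mon_bas] at h1
        obtain ⟨hi, hc⟩ := smul_bas_inj (spCoef_ne_zero _ _ _) h1
        refine ⟨?_, ?_, Units.ext (by simpa [spCoef] using hc)⟩ <;>
          rcases hb : b i with _ | _ <;> rcases hb' : b' i with _ | _ <;>
          simp_all [spIdx]
      exact Prod.ext (Equiv.ext fun i => (h0 i).2.1)
        (Prod.ext (funext fun i => (h0 i).1) (funext fun i => (h0 i).2.2))
    · rintro ⟨g, hg⟩
      choose π c hc hgx using monomial_of_normalizer (m := m) ha.1 ha2 hg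
      have hpair : ∀ x y, sympForm m F (bas F x) (bas F y) =
          c x * (c y * sympForm m F (bas F (π x)) (bas F (π y))) := fun x y => by
        rw [← form_map g, hgx, hgx, form_smul_left, form_smul_right]
      have hswap : ∀ x, π x.swap = (π x).swap := by
        intro x
        have h1 := hpair x x.swap
        rw [form_bas_bas, form_bas_bas, if_pos rfl] at h1
        by_contra hne
        rw [if_neg hne, mul_zero, mul_zero] at h1
        rcases x with i | i <;> simp at h1
      let idx : Fin m → Fin m := fun i => (π (Sum.inl i)).elim id id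
      have hσ : Function.Bijective idx := by
        rw [Fintype.bijective_iff_injective_and_card]
        refine ⟨fun i j hij => ?_, rfl⟩
        by_contra hne
        have h1 : π (Sum.inl j) = π (Sum.inl i) ∨ π (Sum.inl j) = (π (Sum.inl i)).swap := by
          simp only [idx] at hij
          rcases hp : π (Sum.inl i) with u | u <;> rcases hp' : π (Sum.inl j) with u' | u' <;>
            rw [hp, hp'] at hij <;> simp only [Sum.elim_inl, Sum.elim_inr, id_eq] at hij <;>
            subst hij <;> simp
        rcases h1 with h1 | h1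
        · refine hne (Sum.inl_injective (β := Fin m) ?_)
          have hinj : (c (Sum.inl j))⁻¹ • bas F (Sum.inl j) = (c (Sum.inl i))⁻¹ • bas F (Sum.inl i) :=
            MulAction.injective g (show g • _ = g • _ by
              rw [scalar_smul, scalar_smul, hgx, hgx, inv_smul_smul₀ (hc _),
                inv_smul_smul₀ (hc _), h1])
          exact (smul_bas_inj (inv_ne_zero (hc _)) hinj).1.symm
        · have h2 := hpair (Sum.inl i) (Sum.inl j)
          rw [form_bas_bas, form_bas_bas, if_pos h1] at h2
          rcases hp : π (Sum.inl i) with u | u <;> simp [hc, hp] at h2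
      refine ⟨(Equiv.ofBijective idx hσ, fun i => (π (Sum.inl i)).isRight,
        fun i => Units.mk0 _ (hc (Sum.inl i))), Subtype.ext (ext_smul_single fun x => ?_)⟩
      show mon _ • bas F x = g • bas F x
      rw [mon_bas, hgx]
      rcases x with i | i
      · rcases hp : π (Sum.inl i) with u | u <;> simp [spCoef, spIdx, idx, hp]
      · have hp2 : π (Sum.inr i) = (π (Sum.inl i)).swap := hswap (Sum.inl i)
        have h1 := hpair (Sum.inr i) (Sum.inl i)
        rw [form_bas_bas, form_bas_bas, hp2, Sum.swap_swap] at h1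
        have hci : c (Sum.inl i) ≠ 0 := hc _
        rcases hp : π (Sum.inl i) with u | u <;> rw [hp] at h1 <;> simp at h1
        · have hv : c (Sum.inr i) = (c (Sum.inl i))⁻¹ := by
            field_simp; linear_combination -h1
          simp [spCoef, spIdx, idx, hp, hp2, hv]
        · have hv : c (Sum.inr i) = -(c (Sum.inl i))⁻¹ := by
            field_simp; linear_combination h1
          simp [spCoef, spIdx, idx, hp, hp2, hv]
  rw [← Nat.card_eq_of_bijective f hf, Nat.card_prod, Nat.card_prod, Nat.card_perm, Nat.card_fun,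
    Nat.card_fun, Nat.card_units, Nat.card_fin, Nat.card_eq_fintype_card (α := Bool),
    Fintype.card_bool, Nat.card_eq_fintype_card (α := F), hF]
  ring

end Cfsg.Agent.SymplecticTorus
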