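import Mathlib
import Cfsg.Agent.Lib.SymplecticRootGroups
import Cfsg.Agent.Lib.SymplecticTorus
import Cfsg.Agent.Lib.FiniteFormClass

/-!
A faithful representation of `Sp_2n` over its own field has degree at least `2n`.
-/

set_option autoImplicit false

open Matrix

namespace Cfsg.Agent.SymplecticMinDegree

open Cfsg.Agent.SymplecticBasic Cfsg.Agent.SymplecticRootGroups

/-- Data making `1, A, B, AB` independent over the commutant, on the support of `e`. -/
structure Pair {R : Type*} [Ring R] (e A B U : R) : Prop where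
  idem : e * e = e
  eA : Commute e A
  eB : Commute e B
  unit : IsUnit U
  comm : e * (A * B - B * A) = e * U

theorem Pair.split {R : Type*} [Ring R] {e A B U : R} (h : Pair e A B U) {X Y Z W : R}
    (hX : Commute e X ∧ Commute X A ∧ Commute X B) (hY : Commute e Y ∧ Commute Y A ∧ Commute Y B)
    (hZ : Commute e Z ∧ Commute Z A ∧ Commute Z B) (hW : Commute e W ∧ Commute W A ∧ Commute W B)
    (he : e * (X + Y * A + Z * B + W * (A * B)) = 0) :
    e * X = 0 ∧ e * Y = 0 ∧ e * Z = 0 ∧ e * W = 0 := by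
  have key : ∀ (T : R) (D : R), e * T = 0 → Commute e D → e * (D * T - T * D) = 0 := fun T D hT hD => by
    rw [mul_sub, ← mul_assoc, hD.eq, mul_assoc, hT, mul_zero, ← mul_assoc, hT, zero_mul, sub_zero]
  have cB : ∀ T : R, Commute T A → Commute T B → Commute e T → e * (T * (A * B - B * A)) = e * T * U := by
    intro T _ _ hT
    rw [← mul_assoc, hT.eq, mul_assoc, h.comm, ← mul_assoc, ← hT.eq]
  have h1 := key _ A he h.eA
  have e1 : A * (X + Y * A + Z * B + W * (A * B)) - (X + Y * A + Z * B + W * (A * B)) * A =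
      Z * (A * B - B * A) + W * A * (A * B - B * A) := by
    simp only [mul_add, add_mul, mul_sub, ← mul_assoc, ← hX.2.1.eq, ← hY.2.1.eq, ← hZ.2.1.eq, ← hW.2.1.eq]
    abel
  rw [e1, mul_add, cB Z hZ.2.1 hZ.2.2 hZ.1, mul_assoc W, ← mul_assoc e W] at h1
  have h1' : (e * Z + e * W * A) * U = 0 := by
    rw [add_mul]
    refine Eq.trans ?_ h1
    congr 1
    rw [mul_assoc (e * W), hW.1.eq, mul_assoc W, mul_assoc W]
    congr 1
    rw [← mul_assoc e A, ← mul_assoc e A, h.eA.eq, mul_assoc A e, mul_assoc A e, h.comm]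
  have h2 : e * Z + e * W * A = 0 := h.unit.mul_left_eq_zero.1 h1'
  have h2' : e * (Z + W * A) = 0 := by rw [mul_add, ← mul_assoc]; exact h2
  have h3 := key _ B h2' h.eB
  have e3 : B * (Z + W * A) - (Z + W * A) * B = W * -(A * B - B * A) := by
    simp only [mul_add, add_mul, mul_sub, neg_sub, ← mul_assoc, ← hZ.2.2.eq, ← hW.2.2.eq]
    abel
  rw [e3, mul_neg, mul_neg, neg_eq_zero, cB W hW.2.1 hW.2.2 hW.1, h.unit.mul_left_eq_zero] at h3
  have hZ0 : e * Z = 0 := by rwa [h3, zero_mul, add_zero] at h2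
  have h4 : e * (X + Y * A) = 0 := by
    have : e * (X + Y * A + Z * B + W * (A * B)) = e * (X + Y * A) := by
      rw [mul_add, mul_add _ _ (Z * B), ← mul_assoc e Z, hZ0, ← mul_assoc e W, h3, zero_mul,
        zero_mul, add_zero, add_zero]
    rwa [this] at he
  have h5 := key _ B h4 h.eB
  have e5 : B * (X + Y * A) - (X + Y * A) * B = Y * -(A * B - B * A) := by
    simp only [mul_add, add_mul, mul_sub, neg_sub, ← mul_assoc, ← hX.2.2.eq, ← hY.2.2.eq]
    abel
  rw [e5, mul_neg, mul_neg, neg_eq_zero, cB Y hY.2.1 hY.2.2 hY.1, h.unit.mul_left_eq_zero] at h5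
  exact ⟨by rw [mul_add, ← mul_assoc, h5, zero_mul, add_zero] at h4; exact h4, h5, hZ0, h3⟩

theorem choose_bound : ∀ n k : ℕ, 1 ≤ k → k ≤ n → 2 * n ≤ n.choose k * 2 ^ k := by
  intro n
  induction n with
  | zero => omega
  | succ n ih =>
    intro k hk hkn
    obtain ⟨k, rfl⟩ : ∃ j, k = j + 1 := ⟨k - 1, by omega⟩
    rcases Nat.eq_zero_or_pos k with rfl | hk0
    · simp [mul_comm]
    · have h := ih k hk0 (by omega)
      rw [Nat.choose_succ_succ', add_mul, pow_succ]
      nlinarith [Nat.zero_le (n.choose (k + 1) * (2 ^ k * 2))]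

section Support

variable {F V : Type*} [Field F] [AddCommGroup V] [Module F V] [FiniteDimensional F V] {n : ℕ}
variable {e A B U : Fin n → Module.End F V}

/-- The commutant of the pairs in `T` inside `P R P`. -/
def cm (A B : Fin n → Module.End F V) (P : Module.End F V) (T : Finset (Fin n)) :
    Submodule F (Module.End F V) where
  carrier := {X | P * X = X ∧ X * P = X ∧ ∀ i ∈ T, Commute X (A i) ∧ Commute X (B i)}
  zero_mem' := ⟨mul_zero P, zero_mul P, fun i _ => ⟨Commute.zero_left _, Commute.zero_left _⟩⟩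
  add_mem' {x y} hx hy := ⟨by rw [mul_add, hx.1, hy.1], by rw [add_mul, hx.2.1, hy.2.1],
    fun i hi => ⟨(hx.2.2 i hi).1.add_left (hy.2.2 i hi).1, (hx.2.2 i hi).2.add_left (hy.2.2 i hi).2⟩⟩
  smul_mem' c x hx := ⟨by rw [mul_smul_comm, hx.1], by rw [smul_mul_assoc, hx.2.1],
    fun i hi => ⟨(hx.2.2 i hi).1.smul_left c, (hx.2.2 i hi).2.smul_left c⟩⟩

theorem cm_bound (hp : ∀ i, Pair (e i) (A i) (B i) (U i))
    (hcom : ∀ i j, i ≠ j → Commute (A i) (A j) ∧ Commute (A i) (B j) ∧ Commute (B i) (B j))
    {P : Module.End F V} {S : Finset (Fin n)} (hPA : ∀ i, Commute P (A i) ∧ Commute P (B i))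
    (hPe : ∀ i ∈ S, e i * P = P ∧ P * e i = P) :
    ∀ T : Finset (Fin n), T ⊆ S →
      4 ^ T.card * Module.finrank F (cm A B P T) ≤ Module.finrank F (cm A B P ∅) := by
  intro T
  induction T using Finset.induction_on with
  | empty => simp
  | insert i T hi ih =>
    intro hTS
    have hiS : i ∈ S := hTS (Finset.mem_insert_self i T)
    refine le_trans ?_ (ih fun j hj => hTS (Finset.mem_insert_of_mem hj))
    rw [Finset.card_insert_of_notMem hi, pow_succ, mul_assoc]
    refine Nat.mul_le_mul_left _ ?_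
    have hmem : ∀ j ∈ T, i ≠ j := fun j hj h => hi (h ▸ hj)
    let C := cm A B P (insert i T)
    let f : C × C × C × C →ₗ[F] Module.End F V :=
      { toFun := fun x => x.1.1 + x.2.1.1 * A i + x.2.2.1.1 * B i + x.2.2.2.1 * (A i * B i)
        map_add' := fun x y => by
          simp only [Prod.fst_add, Prod.snd_add, Submodule.coe_add, add_mul]; abel
        map_smul' := fun c x => by
          simp only [Prod.smul_fst, Prod.smul_snd, Submodule.coe_smul, smul_mul_assoc, RingHom.id_apply, smul_add] }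
    have hle : LinearMap.range f ≤ cm A B P T := by
      rintro _ ⟨⟨X, Y, Z, W⟩, rfl⟩
      have hA := (hPA i).1
      have hB := (hPA i).2
      refine ⟨?_, ?_, fun j hj => ?_⟩
      · show P * (X.1 + Y.1 * A i + Z.1 * B i + W.1 * (A i * B i)) = _
        simp only [mul_add, ← mul_assoc, X.2.1, Y.2.1, Z.2.1, W.2.1]
        rfl
      · show (X.1 + Y.1 * A i + Z.1 * B i + W.1 * (A i * B i)) * P = _
        simp only [add_mul, mul_assoc, ← hA.eq, ← hB.eq]
        simp only [← mul_assoc, X.2.2.1, Y.2.2.1, Z.2.2.1]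
        rw [mul_assoc W.1, ← hA.eq, ← mul_assoc, W.2.2.1, mul_assoc]
        rfl
      · have hj' : j ∈ insert i T := Finset.mem_insert_of_mem hj
        obtain ⟨c1, c2, c3⟩ := hcom i j (hmem j hj)
        obtain ⟨-, c4, -⟩ := hcom j i (Ne.symm (hmem j hj))
        have c2' : Commute (B i) (A j) := c4.symm
        refine ⟨?_, ?_⟩
        · exact (((X.2.2.2 j hj').1.add_left ((Y.2.2.2 j hj').1.mul_left c1)).add_left
            ((Z.2.2.2 j hj').1.mul_left c2')).add_left ((W.2.2.2 j hj').1.mul_left (c1.mul_left c2'))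
        · exact (((X.2.2.2 j hj').2.add_left ((Y.2.2.2 j hj').2.mul_left c2)).add_left
            ((Z.2.2.2 j hj').2.mul_left c3)).add_left ((W.2.2.2 j hj').2.mul_left (c2.mul_left c3))
    have hinj : Function.Injective f := by
      rw [injective_iff_map_eq_zero]
      rintro ⟨X, Y, Z, W⟩ h
      have hc : ∀ M : C, Commute (e i) M.1 ∧ Commute M.1 (A i) ∧ Commute M.1 (B i) := fun M => by
        refine ⟨?_, M.2.2.2 i (Finset.mem_insert_self i T)⟩
        show e i * M.1 = M.1 * e i
        conv_lhs => rw [← M.2.1, ← mul_assoc, (hPe i hiS).1, M.2.1]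
        conv_rhs => rw [← M.2.2.1, mul_assoc, (hPe i hiS).2, M.2.2.1]
      have hM : ∀ M : C, e i * M.1 = M.1 := fun M => by
        conv_lhs => rw [← M.2.1, ← mul_assoc, (hPe i hiS).1, M.2.1]
      have he : e i * (X.1 + Y.1 * A i + Z.1 * B i + W.1 * (A i * B i)) = 0 := by
        rw [show X.1 + Y.1 * A i + Z.1 * B i + W.1 * (A i * B i) = 0 from h, mul_zero]
      obtain ⟨h1, h2, h3, h4⟩ := (hp i).split (hc X) (hc Y) (hc Z) (hc W) he
      rw [hM] at h1 h2 h3 h4
      simp only [Prod.mk_eq_zero]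
      exact ⟨Subtype.ext h1, Subtype.ext h2, Subtype.ext h3, Subtype.ext h4⟩
    have := LinearMap.finrank_range_of_inj hinj
    rw [Module.finrank_prod, Module.finrank_prod, Module.finrank_prod] at this
    have h2 := Submodule.finrank_mono hle
    show 4 * Module.finrank F C ≤ _
    omega

theorem two_pow_le_rank (hp : ∀ i, Pair (e i) (A i) (B i) (U i))
    (hcom : ∀ i j, i ≠ j → Commute (A i) (A j) ∧ Commute (A i) (B j) ∧ Commute (B i) (B j))
    {P : Module.End F V} {S : Finset (Fin n)} (hP2 : P * P = P) (hP0 : P ≠ 0)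
    (hPA : ∀ i, Commute P (A i) ∧ Commute P (B i))
    (hPe : ∀ i ∈ S, e i * P = P ∧ P * e i = P) :
    2 ^ S.card ≤ Module.finrank F (LinearMap.range P) := by
  have h := cm_bound hp hcom hPA hPe S subset_rfl
  have h1 : 1 ≤ Module.finrank F (cm A B P S) := by
    rw [Submodule.one_le_finrank_iff]
    intro hbot
    exact hP0 ((Submodule.eq_bot_iff _).1 hbot P ⟨hP2, hP2, fun i _ => hPA i⟩)
  let r : cm A B P ∅ →ₗ[F] Module.End F (LinearMap.range P) :=
    { toFun := fun X => (X.1.comp (LinearMap.range P).subtype).codRestrict _ fun v =>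
        ⟨X.1 v, by
          show (P * X.1) v = _
          rw [X.2.1]; rfl⟩
      map_add' := fun X Y => rfl
      map_smul' := fun c X => rfl }
  have hr : Function.Injective r := by
    intro X Y hXY
    refine Subtype.ext (LinearMap.ext fun v => ?_)
    have h1 := congrArg Subtype.val (LinearMap.congr_fun hXY ⟨P v, LinearMap.mem_range_self P v⟩)
    rw [← X.2.2.1, ← Y.2.2.1]
    exact h1
  have h2 := LinearMap.finrank_le_finrank_of_injective hr
  rw [Module.finrank_linearMap] at h2
  have h3 : 4 ^ S.card ≤ Module.finrank F (LinearMap.range P) * Module.finrank F (LinearMap.range P) := by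
    calc 4 ^ S.card ≤ 4 ^ S.card * Module.finrank F (cm A B P S) := Nat.le_mul_of_pos_right _ h1
      _ ≤ _ := h
      _ ≤ _ := h2
  rw [show (4 : ℕ) = 2 * 2 from rfl, mul_pow] at h3
  exact Nat.mul_self_le_mul_self_iff.1 h3

/-- The main counting statement. -/
theorem dim_bound (hn : 1 ≤ n) (hp : ∀ i, Pair (e i) (A i) (B i) (U i))
    (hcom : ∀ i j, i ≠ j → Commute (A i) (A j) ∧ Commute (A i) (B j) ∧ Commute (B i) (B j))
    (hee : ∀ i j, Commute (e i) (e j)) (heA : ∀ i j, Commute (e i) (A j) ∧ Commute (e i) (B j))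
    (hne : ∃ i, e i ≠ 0)
    (hperm : ∀ σ : Equiv.Perm (Fin n), ∃ g : (Module.End F V)ˣ, ∀ i, g.1 * e i * g⁻¹.1 = e (σ i)) :
    2 * n ≤ Module.finrank F V := by
  classical
  let R₀ := Algebra.adjoin F (Set.range e)
  letI : CommRing R₀ := Algebra.adjoinCommRingOfComm F (by rintro _ ⟨i, rfl⟩ _ ⟨j, rfl⟩; exact hee i j)
  let Ec : Fin n → R₀ := fun i => ⟨e i, Algebra.subset_adjoin ⟨i, rfl⟩⟩
  let P : Finset (Fin n) → R₀ := fun S => (∏ i ∈ S, Ec i) * ∏ i ∈ Sᶜ, (1 - Ec i)
  have hE2 : ∀ i, Ec i * Ec i = Ec i := fun i => Subtype.ext (hp i).idem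
  have hin : ∀ S, ∀ i ∈ S, Ec i * P S = P S := fun S i hi => by
    simp only [P]
    rw [← mul_assoc, ← Finset.mul_prod_erase S Ec hi, ← mul_assoc, hE2]
  have hout : ∀ S, ∀ i ∉ S, Ec i * P S = 0 := fun S i hi => by
    simp only [P]
    rw [mul_left_comm, ← Finset.mul_prod_erase Sᶜ _ (Finset.mem_compl.2 hi), ← mul_assoc (Ec i),
      mul_sub, mul_one, hE2, sub_self, zero_mul, mul_zero]
  have horth : ∀ S S', S ≠ S' → P S * P S' = 0 := by
    intro S S' hne
    obtain ⟨i, hi⟩ : ∃ i, ¬ (i ∈ S ↔ i ∈ S') := by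
      by_contra hall; push Not at hall; exact hne (Finset.ext hall)
    by_cases hiS : i ∈ S
    · have hiS' : i ∉ S' := fun h => hi (iff_of_true hiS h)
      rw [← hin S i hiS, mul_comm (Ec i), mul_assoc, hout S' i hiS', mul_zero]
    · have hiS' : i ∈ S' := by_contra fun h => hi (iff_of_false hiS h)
      rw [← hin S' i hiS', ← mul_assoc, mul_comm _ (Ec i), hout S i hiS, zero_mul]
  have hsum : ∑ S, P S = 1 := by
    have := Finset.prod_add Ec (fun i => 1 - Ec i) (Finset.univ : Finset (Fin n))
    rw [Finset.prod_eq_one fun i _ => add_sub_cancel (Ec i) 1, Finset.powerset_univ] at this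
    rw [this]
    exact Finset.sum_congr rfl fun S _ => by rw [← Finset.compl_eq_univ_sdiff]
  have hidem : ∀ S, P S * P S = P S := fun S => by
    conv_rhs => rw [← mul_one (P S), ← hsum, Finset.mul_sum, Finset.sum_eq_single S
      (fun S' _ h => horth S S' (Ne.symm h)) (fun h => absurd (Finset.mem_univ S) h)]
  obtain ⟨S, hS0, hS⟩ : ∃ S : Finset (Fin n), S.Nonempty ∧ P S ≠ 0 := by
    by_contra hall
    push Not at hall
    obtain ⟨i, hi⟩ := hne
    refine hi (congrArg Subtype.val (show Ec i = 0 from ?_))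
    rw [← mul_one (Ec i), ← hsum, Finset.mul_sum]
    refine Finset.sum_eq_zero fun S _ => ?_
    by_cases hiS : i ∈ S
    · rw [hin S i hiS, hall S ⟨i, hiS⟩]
    · exact hout S i hiS
  have hmove : ∀ S' : Finset (Fin n), S'.card = S.card → P S' ≠ 0 := by
    intro S' hcard h0
    let ε : {x // x ∈ S} ≃ {x // x ∈ S'} := Fintype.equivOfCardEq (by simp [hcard])
    let σ : Equiv.Perm (Fin n) := ε.extendSubtype
    have himg : S.image σ = S' := Finset.eq_of_subset_of_card_le
      (fun y hy => by
        obtain ⟨x, hx, rfl⟩ := Finset.mem_image.1 hy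
        exact ε.extendSubtype_mem x hx)
      (by rw [Finset.card_image_of_injective _ σ.injective, hcard])
    obtain ⟨g, hg⟩ := hperm σ
    let φ : Module.End F V →ₐ[F] Module.End F V :=
      { toFun := fun x => g.1 * x * g⁻¹.1
        map_one' := by simp
        map_mul' := fun x y => by simp [mul_assoc]
        map_zero' := by simp
        map_add' := fun x y => by rw [mul_add, add_mul]
        commutes' := fun c => by
          show g.1 * algebraMap F _ c * g⁻¹.1 = _
          rw [← Algebra.commutes, mul_assoc, Units.mul_inv, mul_one] }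
    have hmap : ∀ x ∈ R₀, φ x ∈ R₀ := by
      intro x hx
      induction hx using Algebra.adjoin_induction with
      | mem y hy =>
        obtain ⟨j, rfl⟩ := hy
        show g.1 * e j * g⁻¹.1 ∈ R₀
        rw [hg j]; exact Algebra.subset_adjoin ⟨σ j, rfl⟩
      | algebraMap c => rw [φ.commutes]; exact R₀.algebraMap_mem c
      | add y z _ _ hy hz => rw [map_add]; exact R₀.add_mem hy hz
      | mul y z _ _ hy hz => rw [map_mul]; exact R₀.mul_mem hy hz
    let φ₀ : R₀ →ₐ[F] R₀ := (φ.comp R₀.val).codRestrict R₀ fun x => hmap x.1 x.2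
    have hφ : ∀ j, φ₀ (Ec j) = Ec (σ j) := fun j => Subtype.ext (hg j)
    have hP : φ₀ (P S) = P S' := by
      simp only [P, map_mul, map_prod, map_sub, map_one, hφ]
      congr 1
      · rw [← himg, Finset.prod_image σ.injective.injOn]
      · rw [← himg, show (S.image σ)ᶜ = Sᶜ.image σ by ext y; simp [← Equiv.eq_symm_apply], Finset.prod_image σ.injective.injOn]
    refine hS (Subtype.ext ?_)
    have h1 : g.1 * (P S).1 * g⁻¹.1 = 0 := congrArg Subtype.val (hP.trans h0)
    have h2 := congrArg (fun z => g⁻¹.1 * z * g.1) h1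
    simpa [mul_assoc] using h2
  let 𝒮 := {S' : Finset (Fin n) // S'.card = S.card}
  let Φ : (∀ S' : 𝒮, LinearMap.range (P S'.1).1) →ₗ[F] V :=
    ∑ S' : 𝒮, (LinearMap.range (P S'.1).1).subtype ∘ₗ LinearMap.proj S'
  have hΦ : Function.Injective Φ := by
    rw [injective_iff_map_eq_zero]
    intro v hv
    refine funext fun S' => Subtype.ext ?_
    have h1 := congrArg (P S'.1).1 hv
    simp only [Φ, LinearMap.sum_apply, LinearMap.comp_apply, Submodule.subtype_apply,
      LinearMap.proj_apply, map_sum, map_zero] at h1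
    rw [Finset.sum_eq_single S'] at h1
    · obtain ⟨w, hw⟩ := (v S').2
      rw [← hw, ← Module.End.mul_apply, show (P S'.1).1 * (P S'.1).1 = (P S'.1).1 from
        congrArg Subtype.val (hidem S'.1), hw] at h1
      exact h1
    · intro S'' _ hne
      obtain ⟨w, hw⟩ := (v S'').2
      rw [← hw, ← Module.End.mul_apply, show (P S'.1).1 * (P S''.1).1 = 0 from
        congrArg Subtype.val (horth S'.1 S''.1 fun h => hne (Subtype.ext h).symm)]
      rfl
    · exact fun h => absurd (Finset.mem_univ S') h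
  have h1 := LinearMap.finrank_le_finrank_of_injective hΦ
  rw [Module.finrank_pi_fintype] at h1
  have hrank : ∀ S' : 𝒮, 2 ^ S.card ≤ Module.finrank F (LinearMap.range (P S'.1).1) := by
    intro S'
    conv_lhs => rw [← S'.2]
    refine two_pow_le_rank hp hcom (congrArg Subtype.val (hidem S'.1))
      (fun h => hmove S'.1 S'.2 (Subtype.ext h)) (fun i => ?_) (fun i hi => ⟨congrArg Subtype.val (hin S'.1 i hi),
        congrArg Subtype.val ((mul_comm _ _).trans (hin S'.1 i hi))⟩)
    exact ⟨(Algebra.commute_of_mem_adjoin_of_forall_mem_commute (P S'.1).2 (by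
        rintro _ ⟨j, rfl⟩; exact ((heA j i).1).symm)).symm,
      (Algebra.commute_of_mem_adjoin_of_forall_mem_commute (P S'.1).2 (by
        rintro _ ⟨j, rfl⟩; exact ((heA j i).2).symm)).symm⟩
  have h2 := (Finset.sum_le_sum fun S' _ => hrank S').trans h1
  rw [Finset.sum_const, smul_eq_mul, Finset.card_univ] at h2
  have hcard : Fintype.card 𝒮 = n.choose S.card := by
    rw [Fintype.card_finset_len, Fintype.card_fin]
  rw [hcard] at h2
  exact (choose_bound n S.card hS0.card_pos (by simpa using S.card_le_univ)).trans h2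

end Support

/-- The `SL₂` of the `i`-th hyperbolic pair. -/
def factor (F : Type*) [Field F] {n : ℕ} (i : Fin n) :
    Matrix.SpecialLinearGroup (Fin 2) F →* symplecticGroup (Fin n) F :=
  planeHom (form_std_pair (F := F) i)

theorem factor_commute {F : Type*} [Field F] {n : ℕ} {i j : Fin n} (h : i ≠ j)
    (M N : Matrix.SpecialLinearGroup (Fin 2) F) : Commute (factor F i M) (factor F j N) := by
  refine ext_smul fun x => ?_
  simp only [factor, mul_smul, planeHom_smul, form_add_left, form_add_right, form_smul_left,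
    form_smul_right, form_single_inl_right, form_single_inr_right]
  simp [h, Ne.symm h, form_add_left, form_smul_left, form_eq_zero_comm, form_single_inl_right]
  module

theorem factor_conj {F : Type*} [Field F] {n : ℕ} (σ : Equiv.Perm (Fin n)) (i : Fin n)
    (M : Matrix.SpecialLinearGroup (Fin 2) F) :
    SymplecticTorus.mon (σ, fun _ => false, fun _ => 1) * factor F i M =
      factor F (σ i) M * SymplecticTorus.mon (σ, fun _ => false, fun _ => 1) := by
  set g : symplecticGroup (Fin n) F := SymplecticTorus.mon (σ, fun _ => false, fun _ => 1) with hg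
  have hl : g • (Pi.single (Sum.inl i) 1 : Fin n ⊕ Fin n → F) = Pi.single (Sum.inl (σ i)) 1 := by
    rw [hg]
    have := SymplecticTorus.mon_bas (F := F) (σ, fun _ => false, fun _ => 1) (Sum.inl i)
    simpa [SymplecticTorus.spCoef, SymplecticTorus.spIdx] using this
  have hr : g • (Pi.single (Sum.inr i) 1 : Fin n ⊕ Fin n → F) = Pi.single (Sum.inr (σ i)) 1 := by
    rw [hg]
    have := SymplecticTorus.mon_bas (F := F) (σ, fun _ => false, fun _ => 1) (Sum.inr i)
    simpa [SymplecticTorus.spCoef, SymplecticTorus.spIdx] using this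
  refine ext_smul fun x => ?_
  simp only [factor, mul_smul, planeHom_smul]
  rw [← hl, ← hr, form_map, form_map]
  simp only [smul_def, Matrix.mulVec_add, Matrix.mulVec_smul]

theorem main {F : Type*} [Field F] [Fintype F] (n : ℕ) {d : ℕ}
    (ρ : ↥(symplecticGroup (Fin n) F) →* GL (Fin d) F) (hρ : Function.Injective ρ) : 2 * n ≤ d := by
  rcases Nat.eq_zero_or_pos n with rfl | hn
  · simp
  let τ : GL (Fin d) F →* (Module.End F (Fin d → F))ˣ :=
    Units.map (Matrix.toLinAlgEquiv' : Matrix (Fin d) (Fin d) F ≃ₐ[F] _).toRingEquiv.toMonoidHom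
  have hτ : Function.Injective τ := Units.map_injective
    (f := (Matrix.toLinAlgEquiv' : Matrix (Fin d) (Fin d) F ≃ₐ[F] _).toRingEquiv.toMonoidHom)
    Matrix.toLinAlgEquiv'.injective
  let E := fun i : Fin n => (Units.coeHom _).comp (τ.comp (ρ.comp (factor F i)))
  have hE : ∀ i j M N, i ≠ j → Commute (E i M) (E j N) := fun i j M N h =>
    (factor_commute h M N).map ((Units.coeHom _).comp (τ.comp ρ))
  have hinj : ∀ i, Function.Injective (E i) := fun i M N h =>
    planeHom_injective (form_std_pair (F := F) i) (hρ (hτ (Units.ext h)))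
  have hU : ∀ i M, IsUnit (E i M) := fun i M => ⟨τ (ρ (factor F i M)), rfl⟩
  have hperm : ∀ (σ : Equiv.Perm (Fin n)), ∃ g : (Module.End F (Fin d → F))ˣ,
      ∀ i M, g.1 * E i M = E (σ i) M * g.1 := fun σ =>
    ⟨τ (ρ (SymplecticTorus.mon (σ, fun _ => false, fun _ => 1))), fun i M => by
      show ((τ (ρ _)) : Module.End F (Fin d → F)) * (τ (ρ _)).1 = (τ (ρ _)).1 * (τ (ρ _)).1
      rw [← Units.val_mul, ← Units.val_mul, ← map_mul, ← map_mul, ← map_mul, ← map_mul, factor_conj]⟩
  suffices key : ∃ e A B U : Fin n → Module.End F (Fin d → F),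
      (∀ i, Pair (e i) (A i) (B i) (U i)) ∧
      (∀ i j, i ≠ j → Commute (A i) (A j) ∧ Commute (A i) (B j) ∧ Commute (B i) (B j)) ∧
      (∀ i j, Commute (e i) (e j)) ∧ (∀ i j, Commute (e i) (A j) ∧ Commute (e i) (B j)) ∧
      (∃ i, e i ≠ 0) ∧ (∀ σ : Equiv.Perm (Fin n), ∃ g : (Module.End F (Fin d → F))ˣ,
        ∀ i, g.1 * e i * g⁻¹.1 = e (σ i)) by
    obtain ⟨e, A, B, U, h1, h2, h3, h4, h5, h6⟩ := key
    exact (dim_bound hn h1 h2 h3 h4 h5 h6).trans_eq (by simp)
  have hperm' : ∀ (f : Matrix.SpecialLinearGroup (Fin 2) F) (σ : Equiv.Perm (Fin n))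
      (g : (Module.End F (Fin d → F))ˣ), (∀ i M, g.1 * E i M = E (σ i) M * g.1) →
      ∀ i, g.1 * E i f * g⁻¹.1 = E (σ i) f := fun f σ g hg i => by
    rw [hg, mul_assoc, Units.mul_inv, mul_one]
  by_cases h2 : (2 : F) = 0
  · haveI : CharP F 2 := CharTwo.of_one_ne_zero_of_two_eq_zero one_ne_zero h2
    let c : Matrix.SpecialLinearGroup (Fin 2) F :=
      ⟨!![0, 1; 1, 1], by simp [Matrix.det_fin_two, CharTwo.neg_eq]⟩
    let t : Matrix.SpecialLinearGroup (Fin 2) F :=
      ⟨!![0, 1; 1, 0], by simp [Matrix.det_fin_two, CharTwo.neg_eq]⟩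
    have hc3 : c * c * c = 1 := by
      refine Subtype.ext ?_
      show (!![0, 1; 1, 1] : Matrix (Fin 2) (Fin 2) F) * !![0, 1; 1, 1] * !![0, 1; 1, 1] = 1
      ext i j; fin_cases i <;> fin_cases j <;> simp [Matrix.mul_apply, Fin.sum_univ_two, CharTwo.add_self_eq_zero]
    have htc : t * c = c * c * t := by
      refine Subtype.ext ?_
      show (!![0, 1; 1, 0] : Matrix (Fin 2) (Fin 2) F) * !![0, 1; 1, 1] =
        !![0, 1; 1, 1] * !![0, 1; 1, 1] * !![0, 1; 1, 0]
      ext i j; fin_cases i <;> fin_cases j <;> simp [Matrix.mul_apply, Fin.sum_univ_two, CharTwo.add_self_eq_zero]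
    have hc1 : c ≠ 1 := fun h => by
      have := congrArg (fun M : Matrix.SpecialLinearGroup (Fin 2) F => M.1 0 1) h
      simp [c] at this
    have hadd : ∀ X : Module.End F (Fin d → F), X + X = 0 := fun X => by
      rw [← two_smul F, h2, zero_smul]
    have hneg : ∀ X : Module.End F (Fin d → F), -X = X := fun X =>
      neg_eq_of_add_eq_zero_left (hadd X)
    refine ⟨fun i => E i c + E i c * E i c, fun i => E i c, fun i => E i t, fun i => E i t,
      fun i => ⟨?_, ?_, ?_, hU i t, ?_⟩, fun i j h => ⟨hE i j _ _ h, hE i j _ _ h, hE i j _ _ h⟩,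
      fun i j => ?_, fun i j => ?_, ⟨⟨0, hn⟩, fun h => ?_⟩, fun σ => ?_⟩
    · have hC : E i c * E i c * E i c = 1 := by rw [← map_mul, ← map_mul, hc3, map_one]
      have h1 : E i c * E i c * (E i c * E i c) = E i c := by rw [← mul_assoc, hC, one_mul]
      have h3 : E i c * (E i c * E i c) = 1 := by rw [← mul_assoc]; exact hC
      rw [mul_add, add_mul, add_mul, h1, h3, hC]
      calc _ = (E i c + E i c * E i c) + (1 + 1) := by abel
        _ = _ := by rw [hadd 1, add_zero]
    · exact (Commute.refl _).add_left ((Commute.refl _).mul_left (Commute.refl _))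
    · have h1 : E i t * E i c = E i c * E i c * E i t := by rw [← map_mul, ← map_mul, ← map_mul, htc]
      show (E i c + E i c * E i c) * E i t = E i t * (E i c + E i c * E i c)
      have h3 : E i c * E i c * E i c = 1 := by rw [← map_mul, ← map_mul, hc3, map_one]
      rw [add_mul, mul_add, ← mul_assoc (E i t), h1, mul_assoc _ (E i t) (E i c), h1, ← mul_assoc,
        ← mul_assoc (E i c * E i c) (E i c) (E i c), h3, one_mul, add_comm]
    · have h1 : E i t * E i c = E i c * E i c * E i t := by rw [← map_mul, ← map_mul, ← map_mul, htc]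
      have h3 : E i c * E i c * E i c = 1 := by rw [← map_mul, ← map_mul, hc3, map_one]
      have h4 : (E i c + E i c * E i c) * (E i c + E i c * E i c + 1) = 0 := by
        simp only [add_mul, mul_add, mul_one, ← mul_assoc, h3, one_mul]
        calc _ = (E i c + E i c) + (E i c * E i c + E i c * E i c) + ((1 : Module.End F (Fin d → F)) + 1) := by abel
          _ = 0 := by simp only [hadd, add_zero]
      rw [h1, sub_eq_add_neg, hneg, ← sub_eq_zero, sub_eq_add_neg, hneg, mul_add]
      calc _ = (E i c + E i c * E i c) * (E i c + E i c * E i c + 1) * E i t := by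
            simp only [mul_add, add_mul, mul_one, ← mul_assoc]
        _ = 0 := by rw [h4, zero_mul]
    · rcases eq_or_ne i j with rfl | h
      · rfl
      · exact ((hE i j c c h).add_left ((hE i j c c h).mul_left (hE i j c c h))).add_right
          (((hE i j c c h).add_left ((hE i j c c h).mul_left (hE i j c c h))).mul_right
            ((hE i j c c h).add_left ((hE i j c c h).mul_left (hE i j c c h))))
    · rcases eq_or_ne i j with rfl | h
      · refine ⟨(Commute.refl _).add_left ((Commute.refl _).mul_left (Commute.refl _)), ?_⟩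
        have h1 : E i t * E i c = E i c * E i c * E i t := by rw [← map_mul, ← map_mul, ← map_mul, htc]
        show (E i c + E i c * E i c) * E i t = E i t * (E i c + E i c * E i c)
        have h3 : E i c * E i c * E i c = 1 := by rw [← map_mul, ← map_mul, hc3, map_one]
        rw [add_mul, mul_add, ← mul_assoc (E i t), h1, mul_assoc _ (E i t) (E i c), h1, ← mul_assoc,
          ← mul_assoc (E i c * E i c) (E i c) (E i c), h3, one_mul, add_comm]
      · exact ⟨(hE i j c c h).add_left ((hE i j c c h).mul_left (hE i j c c h)),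
          (hE i j c t h).add_left ((hE i j c t h).mul_left (hE i j c t h))⟩
    · refine hc1 (hinj ⟨0, hn⟩ ?_)
      rw [add_eq_zero_iff_eq_neg, hneg] at h
      obtain ⟨u, hu⟩ := hU ⟨0, hn⟩ c
      rw [← hu] at h
      have := congrArg (fun z => u⁻¹.1 * z) h
      simp only [Units.inv_mul, Units.inv_mul_cancel_left] at this
      rw [map_one, ← hu, ← this]
    · obtain ⟨g, hg⟩ := hperm σ
      refine ⟨g, fun i => ?_⟩
      rw [mul_add, add_mul, ← map_mul, hperm' c σ g hg, hperm' (c * c) σ g hg, map_mul]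
  · obtain ⟨x, y, hxy⟩ := FiniteFormClass.exists_sq_add h2 (one_ne_zero (α := F)) one_ne_zero (-1)
    let a : Matrix.SpecialLinearGroup (Fin 2) F := ⟨!![0, 1; -1, 0], by simp [Matrix.det_fin_two]⟩
    let b : Matrix.SpecialLinearGroup (Fin 2) F :=
      ⟨!![x, y; y, -x], by simp [Matrix.det_fin_two]; linear_combination -hxy⟩
    have hz : ∀ M : Matrix.SpecialLinearGroup (Fin 2) F, (-1 : Matrix.SpecialLinearGroup (Fin 2) F) * M = M * -1 := by simp
    have hab : b * a = -1 * (a * b) := by
      refine Subtype.ext ?_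
      rw [neg_one_mul]
      show (!![x, y; y, -x] : Matrix (Fin 2) (Fin 2) F) * !![0, 1; -1, 0] =
        -(!![0, 1; -1, 0] * !![x, y; y, -x])
      ext i j; fin_cases i <;> fin_cases j <;> simp [Matrix.mul_apply, Fin.sum_univ_two]
    have hne1 : (-1 : Matrix.SpecialLinearGroup (Fin 2) F) ≠ 1 := fun h => by
      have := congrArg (fun M : Matrix.SpecialLinearGroup (Fin 2) F => M.1 0 0) h
      simp at this
      exact h2 (by linear_combination -this)
    let h : F := 2⁻¹
    have h22 : h + h = 1 := by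
      rw [← two_mul]; exact mul_inv_cancel₀ h2
    have hcomm : ∀ i j (M : Matrix.SpecialLinearGroup (Fin 2) F), Commute (h • (1 - E i (-1))) (E j M) := by
      intro i j M
      refine ((Commute.one_left _).sub_left ?_).smul_left h
      rcases eq_or_ne i j with rfl | hij
      · exact (show Commute (-1 : Matrix.SpecialLinearGroup (Fin 2) F) M from hz M).map (E i)
      · exact hE i j _ _ hij
    have hz2 : ∀ i, E i (-1) * E i (-1) = 1 := fun i => by rw [← map_mul, neg_mul_neg, one_mul, map_one]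
    have hez : ∀ i, h • (1 - E i (-1)) * E i (-1) = -(h • (1 - E i (-1))) := fun i => by
      rw [smul_mul_assoc, sub_mul, one_mul, hz2, ← neg_sub (1 : Module.End F (Fin d → F)), smul_neg]
    refine ⟨fun i => h • (1 - E i (-1)), fun i => E i a, fun i => E i b, fun i => (2 : F) • E i (a * b),
      fun i => ⟨?_, hcomm i i a, hcomm i i b, ?_, ?_⟩,
      fun i j hij => ⟨hE i j _ _ hij, hE i j _ _ hij, hE i j _ _ hij⟩, fun i j => ?_,
      fun i j => ⟨hcomm i j a, hcomm i j b⟩, ⟨⟨0, hn⟩, fun h0 => ?_⟩, fun σ => ?_⟩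
    · rw [mul_smul_comm, mul_sub, mul_one, hez, sub_neg_eq_add, ← add_smul, h22, one_smul]
    · exact (hU i _).smul (Units.mk0 2 h2)
    · have e1 : E i b * E i a = E i (-1) * (E i a * E i b) := by rw [← map_mul, ← map_mul, ← map_mul, hab]
      beta_reduce
      rw [map_mul, mul_sub, e1, ← mul_assoc _ (E i (-1)), hez]
      rw [show -(h • (1 - E i (-1))) * (E i a * E i b) = -(h • (1 - E i (-1)) * (E i a * E i b)) from
        LinearMap.ext fun v => rfl, sub_neg_eq_add, two_smul, mul_add]
    · exact ((Commute.one_right _).sub_right (hcomm i j (-1))).smul_right h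
    · rw [smul_eq_zero] at h0
      refine hne1 (hinj ⟨0, hn⟩ ?_)
      rw [map_one]
      exact (sub_eq_zero.1 (h0.resolve_left (inv_ne_zero h2))).symm
    · obtain ⟨g, hg⟩ := hperm σ
      refine ⟨g, fun i => ?_⟩
      rw [mul_smul_comm, smul_mul_assoc, mul_sub, sub_mul, mul_one, Units.mul_inv, hperm' (-1) σ g hg]

end Cfsg.Agent.SymplecticMinDegree
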