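import Mathlib
import Cfsg.Agent.Lib.SymplecticBasic

/-!
`Sp(2n, q)` is generated by three conjugate regular unipotent elements.

With `u` an upper regular unipotent element, `g u g⁻¹ u⁻¹` a long root transvection at the first
basis vector and `w` a lower regular unipotent element, the subgroup contains every transvection of
the totally isotropic subspace of the first half of the basis, and then every transvection.
-/

set_option autoImplicit false
set_option maxHeartbeats 1000000

open Matrix Cfsg

namespace Cfsg.Agent.SymplecticThreeRegular87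

open Cfsg.Agent.SymplecticBasic

variable {F : Type*} [Field F] {n : ℕ}

/-! ### Vectors and rank-one symmetric matrices -/

/-- The basis vector with index `j`, zero for `j ≥ n`. -/
def e (n : ℕ) (F : Type*) [Field F] (j : ℕ) : Fin n → F := fun i => if (i : ℕ) = j then 1 else 0

/-- The rank-one symmetric matrix of a vector. -/
def q (v : Fin n → F) : Matrix (Fin n) (Fin n) F := vecMulVec v v

/-- The symmetrised product. -/
def bil (a b : Fin n → F) : Matrix (Fin n) (Fin n) F := vecMulVec a b + vecMulVec b a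

theorem q_add (a b : Fin n → F) : q (a + b) = q a + q b + bil a b := by
  ext i j; simp [q, bil, vecMulVec_apply]; ring

theorem q_smul (c : F) (a : Fin n → F) : q (c • a) = c ^ 2 • q a := by
  ext i j; simp [q, vecMulVec_apply]; ring

theorem bil_add_left (a a' b : Fin n → F) : bil (a + a') b = bil a b + bil a' b := by
  ext i j; simp [bil, vecMulVec_apply]; ring

theorem bil_smul_left (c : F) (a b : Fin n → F) : bil (c • a) b = c • bil a b := by
  ext i j; simp [bil, vecMulVec_apply]; ring

theorem bil_comm (a b : Fin n → F) : bil a b = bil b a := add_comm _ _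

theorem bil_self (a : Fin n → F) : bil a a = (2 : F) • q a := by
  ext i j; simp [q, bil, vecMulVec_apply]; ring

theorem conj_q (A : Matrix (Fin n) (Fin n) F) (v : Fin n → F) : A * q v * Aᵀ = q (A *ᵥ v) := by
  rw [q, q, mul_vecMulVec, vecMulVec_mul, Matrix.vecMul_transpose]

theorem conj_bil (A : Matrix (Fin n) (Fin n) F) (a b : Fin n → F) :
    A * bil a b * Aᵀ = bil (A *ᵥ a) (A *ᵥ b) := by
  simp only [bil, Matrix.mul_add, Matrix.add_mul, mul_vecMulVec, vecMulVec_mul,
    Matrix.vecMul_transpose]

theorem q_transpose (v : Fin n → F) : (q v)ᵀ = q v := Matrix.transpose_vecMulVec _ _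

theorem bil_transpose (a b : Fin n → F) : (bil a b)ᵀ = bil a b := by
  rw [bil, Matrix.transpose_add, Matrix.transpose_vecMulVec, Matrix.transpose_vecMulVec, add_comm]

/-! ### The linear algebra of the Siegel part -/

/-- Vanishing from index `k` on. -/
def Low (k : ℕ) (v : Fin n → F) : Prop := ∀ i : Fin n, k ≤ (i : ℕ) → v i = 0

theorem low_e {j k : ℕ} (h : j < k) : Low k (e n F j) := fun i hi => if_neg (by omega)

theorem Low.add {k : ℕ} {a b : Fin n → F} (ha : Low k a) (hb : Low k b) : Low k (a + b) :=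
  fun i hi => by simp [ha i hi, hb i hi]

theorem Low.smul {k : ℕ} {a : Fin n → F} (ha : Low k a) (c : F) : Low k (c • a) :=
  fun i hi => by simp [ha i hi]

/-- The data: an additive group of matrices with its two kinds of invariance. -/
structure Data (W : AddSubgroup (Matrix (Fin n) (Fin n) F)) (A D : Matrix (Fin n) (Fin n) F)
    (s : ℕ → F) : Prop where
  two_le : 2 ≤ n
  conj : ∀ S ∈ W, A * S * Aᵀ ∈ W
  low : ∀ v, Low (n - 1) v → ∀ c : F, c • q v ∈ W → c • q (D *ᵥ v) ∈ W
  A_zero : A *ᵥ e n F 0 = e n F 0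
  A_succ : ∀ j, j + 1 < n → A *ᵥ e n F (j + 1) = e n F (j + 1) + e n F j
  D_apply : ∀ j, j + 1 < n → D *ᵥ e n F j = e n F j + s j • e n F (j + 1)
  s_ne : ∀ j, s j ≠ 0
  s_one : ∀ j, 1 ≤ j → s j = 1

variable {W : AddSubgroup (Matrix (Fin n) (Fin n) F)} {A D : Matrix (Fin n) (Fin n) F}
  {s : ℕ → F}

theorem Data.conjQ (h : Data W A D s) {c : F} {v : Fin n → F} (hv : c • q v ∈ W) :
    c • q (A *ᵥ v) ∈ W := by
  have := h.conj _ hv
  rwa [Matrix.mul_smul, Matrix.smul_mul, conj_q] at this

/-- The scalars of the first long root group. -/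
def Data.C (_h : Data W A D s) : AddSubgroup F where
  carrier := {c | c • q (e n F 0) ∈ W}
  add_mem' {a b} ha hb := by
    show (a + b) • q (e n F 0) ∈ W
    rw [add_smul]; exact W.add_mem ha hb
  zero_mem' := by
    show (0 : F) • q (e n F 0) ∈ W
    rw [zero_smul]; exact W.zero_mem
  neg_mem' {a} ha := by
    show (-a) • q (e n F 0) ∈ W
    rw [neg_smul]; exact W.neg_mem ha

theorem Data.zero_low (h : Data W A D s) : Low (n - 1) (e n F 0) :=
  low_e (by have := h.two_le; omega)

theorem Data.first_step (h : Data W A D s) {c : F} (hc : c • q (e n F 0) ∈ W) :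
    c • q (e n F 0 + s 0 • e n F 1) ∈ W ∧ c • q ((1 + s 0) • e n F 0 + s 0 • e n F 1) ∈ W ∧
      c • q ((1 + 2 * s 0) • e n F 0 + s 0 • e n F 1) ∈ W := by
  have hn := h.two_le
  have h1 := h.low _ h.zero_low c hc
  rw [h.D_apply 0 (by omega)] at h1
  have h2 := h.conjQ h1
  rw [Matrix.mulVec_add, Matrix.mulVec_smul, h.A_zero, h.A_succ 0 (by omega)] at h2
  have e2 : e n F 0 + s 0 • (e n F (0 + 1) + e n F 0) = (1 + s 0) • e n F 0 + s 0 • e n F 1 := by
    module
  rw [e2] at h2
  have h3 := h.conjQ h2
  rw [Matrix.mulVec_add, Matrix.mulVec_smul, Matrix.mulVec_smul, h.A_zero,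
    h.A_succ 0 (by omega)] at h3
  have e3 : (1 + s 0) • e n F 0 + s 0 • (e n F (0 + 1) + e n F 0) =
      (1 + 2 * s 0) • e n F 0 + s 0 • e n F 1 := by
    module
  rw [e3] at h3
  exact ⟨h1, h2, h3⟩

theorem q_comb (x y : F) (a b : Fin n → F) :
    q (x • a + y • b) = x ^ 2 • q a + y ^ 2 • q b + (x * y) • bil a b := by
  ext i j; simp [q, bil, vecMulVec_apply]; ring

theorem Data.sq_mul_odd [Finite F] (h : Data W A D s) (h2 : (2 : F) ≠ 0) (p : ℕ) [CharP F p] {c : F}
    (hc : c ∈ h.C) : c * s 0 ^ 2 ∈ h.C := by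
  obtain ⟨a1, a2, a3⟩ := h.first_step hc
  have key : (2 * (c * s 0 ^ 2)) • q (e n F 0) =
      c • q ((1 + 2 * s 0) • e n F 0 + s 0 • e n F 1)
        - c • q ((1 + s 0) • e n F 0 + s 0 • e n F 1)
        - c • q ((1 + s 0) • e n F 0 + s 0 • e n F 1)
        + c • q (e n F 0 + s 0 • e n F 1) := by
    ext i j; simp [q, vecMulVec_apply]; ring
  have hm : 2 * (c * s 0 ^ 2) ∈ h.C := by
    show _ ∈ W
    rw [key]
    exact W.add_mem (W.sub_mem (W.sub_mem a3 a2) a2) a1
  haveI : NeZero p := ⟨CharP.char_ne_zero_of_finite F p⟩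
  have hp2 : p ≠ 2 := fun hp => h2 (by subst hp; exact CharTwo.two_eq_zero)
  obtain ⟨k, hk⟩ : ∃ k : ℕ, (2 : F) * k = 1 := by
    obtain ⟨t, ht⟩ : Odd p := ((CharP.char_is_prime_or_zero F p).resolve_right
      (NeZero.ne p)).odd_of_ne_two hp2
    refine ⟨t + 1, ?_⟩
    have h1 : ((2 * (t + 1) : ℕ) : F) = ((p + 1 : ℕ) : F) := by congr 1; omega
    push_cast [CharP.cast_eq_zero, zero_add] at h1 ⊢
    exact h1
  have := h.C.nsmul_mem hm k
  rwa [nsmul_eq_mul, show (k : F) * (2 * (c * s 0 ^ 2)) = c * s 0 ^ 2 by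
    linear_combination (c * s 0 ^ 2) * hk] at this

theorem Data.sq_mul_even (h : Data W A D s) (h2 : (2 : F) = 0) (hn : 3 ≤ n) {c : F}
    (hc : c ∈ h.C) : c * s 0 ^ 2 ∈ h.C := by
  obtain ⟨a1, a2, -⟩ := h.first_step hc
  have hlow : Low (n - 1) (e n F 0 + s 0 • e n F 1) :=
    (low_e (by omega)).add ((low_e (by omega)).smul _)
  have b0 := h.low _ hlow c a1
  rw [Matrix.mulVec_add, Matrix.mulVec_smul, h.D_apply 0 (by omega), h.D_apply 1 (by omega),
    h.s_one 1 le_rfl, one_smul] at b0
  have e0 : c • q (e n F 0 + s 0 • e n F (0 + 1) + s 0 • (e n F 1 + e n F (1 + 1))) =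
      c • q (e n F 0 + s 0 • e n F 2) := by
    congr 2
    have : e n F 0 + s 0 • e n F (0 + 1) + s 0 • (e n F 1 + e n F (1 + 1)) =
        e n F 0 + s 0 • e n F 2 + ((2 : F) * s 0) • e n F 1 := by module
    rw [this, h2, zero_mul, zero_smul, add_zero]
  rw [e0] at b0
  have hA2 : A *ᵥ e n F 2 = e n F 2 + e n F 1 := h.A_succ 1 (by omega)
  have hA1 : A *ᵥ e n F 1 = e n F 1 + e n F 0 := h.A_succ 0 (by omega)
  have b2 := h.conjQ (h.conjQ b0)
  rw [Matrix.mulVec_add, Matrix.mulVec_smul, h.A_zero, hA2, Matrix.mulVec_add, Matrix.mulVec_smul,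
    h.A_zero, Matrix.mulVec_add, hA2, hA1] at b2
  -- the symmetric short root element
  have hS : (c * s 0 ^ 2) • (q (e n F 0) + bil (e n F 0) (e n F 2)) ∈ W := by
    have : (c * s 0 ^ 2) • (q (e n F 0) + bil (e n F 0) (e n F 2)) =
        c • q (e n F 0 + s 0 • (e n F 2 + e n F 1 + (e n F 1 + e n F 0))) -
          c • q (e n F 0 + s 0 • e n F 2) := by
      ext i j
      simp [q, bil, vecMulVec_apply]
      linear_combination (-(c * s 0) * e n F 0 i * e n F 0 j
        - c * s 0 * (1 + s 0) * (e n F 0 i * e n F 1 j + e n F 1 i * e n F 0 j)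
        - c * s 0 ^ 2 * (2 * e n F 1 i * e n F 1 j
          + e n F 1 i * e n F 2 j + e n F 2 i * e n F 1 j)) * h2
    rw [this]
    exact W.sub_mem b2 b0
  have hS' : (c * s 0 ^ 2) • bil (e n F 0) (e n F 1) ∈ W := by
    have h3 := h.conj _ hS
    rw [Matrix.mul_smul, Matrix.smul_mul, Matrix.mul_add, Matrix.add_mul, conj_q, conj_bil,
      h.A_zero, hA2] at h3
    have : (c * s 0 ^ 2) • bil (e n F 0) (e n F 1) =
        (c * s 0 ^ 2) • (q (e n F 0) + bil (e n F 0) (e n F 2 + e n F 1)) -
          (c * s 0 ^ 2) • (q (e n F 0) + bil (e n F 0) (e n F 2)) := by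
      ext i j; simp [q, bil, vecMulVec_apply]; ring
    rw [this]
    exact W.sub_mem h3 hS
  show _ ∈ W
  have : (c * s 0 ^ 2) • q (e n F 0) =
      c • q ((1 + s 0) • e n F 0 + s 0 • e n F 1) - c • q (e n F 0 + s 0 • e n F 1) -
        (c * s 0 ^ 2) • bil (e n F 0) (e n F 1) := by
    ext i j
    simp [q, bil, vecMulVec_apply]
    linear_combination (-(c * s 0) * e n F 0 i * e n F 0 j) * h2
  rw [this]
  exact W.sub_mem (W.sub_mem a2 a1) hS'

/-- An additive subgroup closed under multiplication by all squares is everything. -/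
theorem addSubgroup_eq_top [Finite F] (C : AddSubgroup F) {c : F} (hc0 : c ≠ 0) (hc : c ∈ C)
    (hsq : ∀ x ∈ C, ∀ y : F, x * y ^ 2 ∈ C) (z : F) : z ∈ C := by
  by_cases h2 : (2 : F) = 0
  · haveI : CharP F 2 := CharTwo.of_one_ne_zero_of_two_eq_zero one_ne_zero h2
    obtain ⟨y, hy⟩ := FiniteField.isSquare_of_char_two (ringChar.eq F 2) (z / c)
    have := hsq c hc y
    rwa [sq, ← hy, mul_div_cancel₀ z hc0] at this
  · have h := C.sub_mem (hsq c hc ((z / c + 1) / 2)) (hsq c hc ((z / c - 1) / 2))
    have e1 : c * ((z / c + 1) / 2) ^ 2 - c * ((z / c - 1) / 2) ^ 2 = z := by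
      field_simp; ring
    rwa [e1] at h

/-- All symmetric rank-one matrices are in `W`. -/
theorem Data.all (h : Data W A D s) (hC : ∀ c : F, c • q (e n F 0) ∈ W) (v : Fin n → F) (c : F) :
    c • q v ∈ W := by
  have hn := h.two_le
  suffices H : ∀ k, 1 ≤ k → k ≤ n → ∀ v : Fin n → F, Low k v → ∀ c : F, c • q v ∈ W from
    H n (by omega) le_rfl v (fun i hi => absurd i.2 (by omega)) c
  intro k hk
  induction k, hk using Nat.le_induction with
  | base =>
    intro _ v hv c
    have : v = v ⟨0, by omega⟩ • e n F 0 := by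
      funext i
      rcases Nat.eq_zero_or_pos (i : ℕ) with hi | hi
      · simp [e, hi, show i = (⟨0, by omega⟩ : Fin n) from Fin.ext hi]
      · simp [e, Nat.pos_iff_ne_zero.1 hi, hv i (by omega)]
    rw [this, q_smul, smul_smul]
    exact hC _
  | succ k hk ih =>
    intro hkn v hv c
    have IH := ih (by omega)
    have hmix : ∀ a b : Fin n → F, Low k a → Low k b → ∀ t : F, t • bil a b ∈ W := by
      intro a b ha hb t
      have : t • bil a b = t • q (a + b) - t • q a - t • q b := by
        rw [q_add]; module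
      rw [this]
      exact W.sub_mem (W.sub_mem (IH _ (ha.add hb) _) (IH _ ha _)) (IH _ hb _)
    -- images of the lower vectors
    have hImg : ∀ a, Low k a → ∀ t : F, t • q (D *ᵥ a) ∈ W := fun a ha t =>
      h.low a (fun i hi => ha i (by omega)) t (IH a ha t)
    obtain ⟨p, rfl⟩ : ∃ p, k = p + 1 := ⟨k - 1, by omega⟩
    set z := e n F p + s p • e n F (p + 1) with hz
    have hDp : D *ᵥ e n F p = z := h.D_apply p (by omega)
    have hqz : ∀ t : F, t • q z ∈ W := fun t => hDp ▸ hImg _ (low_e (by omega)) t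
    -- the admissible vectors
    let M : Submodule F (Fin n → F) :=
      { carrier := {a | ∀ t : F, t • bil a (e n F (p + 1)) ∈ W}
        add_mem' := fun {a b} ha hb t => by
          rw [bil_add_left, smul_add]; exact W.add_mem (ha t) (hb t)
        zero_mem' := fun t => by
          simp [bil]
        smul_mem' := fun x a ha t => by
          rw [bil_smul_left, smul_smul]; exact ha _ }
    have hzj : ∀ j, j < p → e n F j + s j • e n F (j + 1) ∈ M := by
      intro j hj t
      have hl : Low (p + 1) (e n F j + s j • e n F (j + 1)) :=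
        (low_e (by omega)).add ((low_e (by omega)).smul _)
      have h1 := hImg (e n F j + e n F p) ((low_e (by omega)).add (low_e (by omega))) (t / s p)
      rw [Matrix.mulVec_add, hDp, h.D_apply j (by omega), q_add, smul_add, smul_add] at h1
      have h2 : (t / s p) • bil (e n F j + s j • e n F (j + 1)) z ∈ W := by
        have := W.sub_mem (W.sub_mem h1 (IH _ hl (t / s p))) (hqz (t / s p))
        convert this using 1
        abel
      rw [hz, bil_comm, bil_add_left, bil_smul_left, smul_add, smul_smul,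
        div_mul_cancel₀ _ (h.s_ne p), bil_comm _ (e n F j + _)] at h2
      rw [bil_comm (e n F (p + 1))] at h2
      have h3 := W.sub_mem h2 (hmix _ (e n F p) hl (low_e (by omega)) (t / s p))
      simpa using h3
    -- one vector from the other side
    have hy : ∀ a y0 : Fin n → F, Low (p + 1) a → Low (p + 1) y0 →
        A *ᵥ (D *ᵥ a) = y0 + s p • e n F (p + 1) → y0 - e n F p ∈ M := by
      intro a y0 ha hy0 heq t
      have h1 := h.conjQ (hImg a ha (t / s p))
      rw [heq, q_add, smul_add, smul_add] at h1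
      have h2 := hqz (t / s p)
      rw [hz, q_add, smul_add, smul_add] at h2
      have h3 := W.sub_mem (W.sub_mem h1 (IH y0 hy0 (t / s p)))
        (W.sub_mem h2 (IH (e n F p) (low_e (by omega)) (t / s p)))
      convert h3 using 1
      rw [bil_comm y0, bil_comm (e n F p), bil_smul_left, bil_smul_left, smul_smul, smul_smul,
        div_mul_cancel₀ _ (h.s_ne p), bil_comm _ y0, bil_comm _ (e n F p)]
      rw [show y0 - e n F p = y0 + (-1 : F) • e n F p by module, bil_add_left, bil_smul_left]
      module
    have he0 : e n F 0 ∈ M := by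
      rcases Nat.eq_zero_or_pos p with rfl | hp
      · have h1 := hy (e n F 0) ((1 + s 0) • e n F 0) (low_e (by omega))
          ((low_e (by omega)).smul _) (by
            rw [hDp, hz, Matrix.mulVec_add, Matrix.mulVec_smul, h.A_zero, h.A_succ 0 (by omega)]
            module)
        have h2 := M.smul_mem (s 0)⁻¹ h1
        convert h2 using 1
        rw [add_smul, one_smul, add_sub_cancel_left, smul_smul, inv_mul_cancel₀ (h.s_ne 0), one_smul]
      · have hsp : s p = 1 := h.s_one p hp
        obtain ⟨r, rfl⟩ : ∃ r, p = r + 1 := ⟨p - 1, by omega⟩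
        have hgen : ∀ d : F, (e n F r + e n F (r + 1)) + d • ((1 + s 0) • e n F 0 + s 0 • e n F 1) ∈ M := by
          intro d
          have h1 := hy (e n F (r + 1) + d • e n F 0)
            (e n F (r + 1) + e n F r + e n F (r + 1) + d • ((1 + s 0) • e n F 0 + s 0 • e n F 1))
            ((low_e (by omega)).add ((low_e (by omega)).smul _))
            ((((low_e (by omega)).add (low_e (by omega))).add (low_e (by omega))).add
              ((((low_e (by omega)).smul _).add ((low_e (by omega)).smul _)).smul _))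
            (by
              rw [Matrix.mulVec_add, Matrix.mulVec_smul, hDp, hz, h.D_apply 0 (by omega), hsp,
                Matrix.mulVec_add, Matrix.mulVec_smul, Matrix.mulVec_add, Matrix.mulVec_add,
                Matrix.mulVec_smul, Matrix.mulVec_smul, h.A_zero, h.A_succ 0 (by omega),
                h.A_succ r (by omega), h.A_succ (r + 1) (by omega)]
              module)
          convert h1 using 1
          module
        have hz0 := hzj 0 (by omega)
        rcases Nat.eq_zero_or_pos r with rfl | hr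
        · have h1 := M.sub_mem (hgen (s 0 ^ 2)⁻¹) (M.smul_mem ((s 0 ^ 2)⁻¹ + (s 0)⁻¹) hz0)
          convert h1 using 1
          have := h.s_ne 0
          match_scalars <;> field_simp <;> ring
        · have hzr := hzj r (by omega)
          rw [h.s_one r hr, one_smul] at hzr
          have h1 := M.smul_mem (s 0)⁻¹ (M.sub_mem (M.sub_mem (hgen 1) hzr) hz0)
          convert h1 using 1
          have := h.s_ne 0
          match_scalars <;> field_simp <;> ring
    have he : ∀ j, j < p + 1 → e n F j ∈ M := by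
      intro j
      induction j with
      | zero => exact fun _ => he0
      | succ j ihj =>
        intro hj
        have h1 := M.smul_mem (s j)⁻¹ (M.sub_mem (hzj j (by omega)) (ihj (by omega)))
        convert h1 using 1
        rw [add_sub_cancel_left, smul_smul, inv_mul_cancel₀ (h.s_ne j), one_smul]
    have hqk : ∀ t : F, t • q (e n F (p + 1)) ∈ W := by
      intro t
      have h1 := hqz (t / s p ^ 2)
      have h2 := W.sub_mem (W.sub_mem h1 (IH (e n F p) (low_e (by omega)) (t / s p ^ 2)))
        (he p (by omega) (t / s p ^ 2 * s p))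
      convert h2 using 1
      have := h.s_ne p
      ext i j
      simp [hz, q, bil, vecMulVec_apply]
      field_simp
      ring
    -- split the vector
    have hlt : p + 1 < n := by omega
    set x := v ⟨p + 1, hlt⟩ with hx
    set a := v - x • e n F (p + 1) with ha
    have hla : Low (p + 1) a := by
      intro i hi
      rcases Nat.lt_or_ge (p + 1) (i : ℕ) with h' | h'
      · simp [ha, e, Nat.ne_of_gt h', hv i (by omega)]
      · have : i = ⟨p + 1, hlt⟩ := Fin.ext (le_antisymm h' hi)
        subst this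
        simp [ha, e, hx]
    have haM : a ∈ M := by
      have hsum : a = ∑ i : Fin n, a i • e n F (i : ℕ) := by
        funext j
        simp [e, Finset.sum_apply, Fin.val_inj]
      rw [hsum]
      refine M.sum_mem fun i _ => ?_
      rcases Nat.lt_or_ge (i : ℕ) (p + 1) with h' | h'
      · exact M.smul_mem _ (he _ h')
      · rw [hla i h', zero_smul]; exact M.zero_mem
    have hsplit : c • q v = c • q a + (c * x ^ 2) • q (e n F (p + 1)) +
        (c * x) • bil a (e n F (p + 1)) := by
      rw [show v = a + x • e n F (p + 1) by rw [ha]; module]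
      ext i j; simp [q, bil, vecMulVec_apply]; ring
    rw [hsplit]
    exact W.add_mem (W.add_mem (IH a hla c) (hqk _)) (haM _)

/-- The conclusion for the Siegel part, given multiplication by `s 0 ^ 2` and a generating `s 0`. -/
theorem Data.all_of_scalars [Finite F] (h : Data W A D s)
    (hmul : ∀ c ∈ h.C, c * s 0 ^ 2 ∈ h.C)
    (hgen : ∀ y : F, y ≠ 0 → ∃ k : ℕ, s 0 ^ k = y)
    {c0 : F} (hc0 : c0 ≠ 0) (hc : c0 • q (e n F 0) ∈ W) (v : Fin n → F) (c : F) :
    c • q v ∈ W := by
  have hpow : ∀ k : ℕ, ∀ x ∈ h.C, x * (s 0 ^ k) ^ 2 ∈ h.C := by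
    intro k
    induction k with
    | zero => intro x hx; simpa using hx
    | succ k ihk =>
      intro x hx
      have := hmul _ (ihk x hx)
      rwa [show x * (s 0 ^ (k + 1)) ^ 2 = x * (s 0 ^ k) ^ 2 * s 0 ^ 2 by ring]
  refine h.all (fun t => addSubgroup_eq_top h.C hc0 hc (fun x hx y => ?_) t) v c
  rcases eq_or_ne y 0 with rfl | hy
  · simp [h.C.zero_mem]
  · obtain ⟨k, rfl⟩ := hgen y hy
    exact hpow k x hx

/-! ### From the Siegel part to the whole group -/

variable {H : Subgroup (symplecticGroup (Fin n) F)}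

/-- All transvections with vector `v` lie in `H`. -/
def Full (H : Subgroup (symplecticGroup (Fin n) F)) (v : Fin n ⊕ Fin n → F) : Prop :=
  ∀ c : F, transv v c ∈ H

theorem Full.smul {v : Fin n ⊕ Fin n → F} (hv : Full H v) (a : F) : Full H (a • v) := fun c => by
  rw [transv_scale]; exact hv _

theorem Full.conj {v : Fin n ⊕ Fin n → F} (hv : Full H v) {g : symplecticGroup (Fin n) F}
    (hg : g ∈ H) : Full H (g • v) := fun c => by
  rw [← transv_conj]; exact H.mul_mem (H.mul_mem hg (hv c)) (H.inv_mem hg)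

theorem Full.plane {x y : Fin n ⊕ Fin n → F} (hx : Full H x) (hy : Full H y)
    (hf : sympForm n F x y ≠ 0) (b : F) : Full H (x + b • y) := by
  have := hx.conj (hy (b / sympForm n F x y))
  rwa [transv_smul, div_mul_cancel₀ _ hf] at this

theorem form_pair (a b c d : Fin n → F) :
    sympForm n F (Sum.elim a b) (Sum.elim c d) = b ⬝ᵥ c - a ⬝ᵥ d := by
  simp [form_eq_sum, dotProduct, Finset.sum_sub_distrib]

theorem elim_add (a b c d : Fin n → F) :
    Sum.elim a b + Sum.elim c d = Sum.elim (a + c) (b + d) := by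
  funext i; cases i <;> rfl

theorem elim_smul (t : F) (a b : Fin n → F) :
    t • Sum.elim a b = Sum.elim (t • a) (t • b) := by
  funext i; cases i <;> rfl

theorem exists_dot_ne {m : Fin n → F} (hm : m ≠ 0) : ∃ a, m ⬝ᵥ a ≠ 0 := by
  obtain ⟨i, hi⟩ := Function.ne_iff.mp hm
  exact ⟨Pi.single i 1, by simpa using hi⟩

theorem coset_full (hL : ∀ l, Full H (Sum.elim l 0)) {l m : Fin n → F} (hm : m ≠ 0)
    (hx : Full H (Sum.elim l m)) (l' : Fin n → F) : Full H (Sum.elim l' m) := by
  have step : ∀ l b, Full H (Sum.elim l m) → m ⬝ᵥ b ≠ 0 → Full H (Sum.elim (l + b) m) := by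
    intro l b hl hb
    have := hl.plane (hL b) (by simpa [form_pair] using hb) 1
    rwa [one_smul, elim_add, add_zero] at this
  by_cases hb : m ⬝ᵥ (l' - l) = 0
  · obtain ⟨a, ha⟩ := exists_dot_ne hm
    have h2 := step _ (l' - l - a) (step l a hx ha) (by rw [dotProduct_sub, hb, zero_sub]; exact neg_ne_zero.2 ha)
    rwa [show l + a + (l' - l - a) = l' by abel] at h2
  · have h1 := step l _ hx hb
    rwa [show l + (l' - l) = l' by abel] at h1

/-- The possible second halves. -/
def halves (hL : ∀ l, Full H (Sum.elim l 0)) : Submodule F (Fin n → F) where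
  carrier := {m | Full H (Sum.elim 0 m)}
  zero_mem' := hL 0
  smul_mem' a m hm := by
    have := Full.smul hm a
    rwa [elim_smul, smul_zero] at this
  add_mem' {m m'} hm hm' := by
    show Full H (Sum.elim 0 (m + m'))
    rcases eq_or_ne m 0 with rfl | h1
    · rwa [zero_add]
    rcases eq_or_ne m' 0 with rfl | h2
    · rwa [add_zero]
    rcases eq_or_ne (m + m') 0 with h3 | h3
    · rw [h3]; exact hL 0
    obtain ⟨a, ha⟩ := exists_dot_ne h1
    have h4 := coset_full hL h2 hm' a
    have h5 := Full.plane hm h4 (by simpa [form_pair] using ha) 1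
    rw [one_smul, elim_add] at h5
    exact coset_full hL h3 h5 0

theorem eq_top_of_halves (hL : ∀ l, Full H (Sum.elim l 0)) (h : halves hL = ⊤) : H = ⊤ := by
  refine eq_top_of_transv fun v c => ?_
  have hv : Full H (Sum.elim (fun i => v (Sum.inl i)) fun i => v (Sum.inr i)) := by
    rcases eq_or_ne (fun i => v (Sum.inr i)) 0 with h0 | h0
    · rw [h0]; exact hL _
    · exact coset_full hL h0 (h ▸ Submodule.mem_top : (fun i => v (Sum.inr i)) ∈ halves hL) _
  have : v = Sum.elim (fun i => v (Sum.inl i)) fun i => v (Sum.inr i) := by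
    funext i; cases i <;> rfl
  rw [this]
  exact hv c

end Cfsg.Agent.SymplecticThreeRegular87
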