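import Mathlib
import Cfsg.Agent.Lib.SymplecticBasic
import Cfsg.Agent.Lib.SymplecticThreeRegular87

/-!
The three regular unipotent generators of `Sp(2n, q)`.
-/

set_option autoImplicit false
set_option maxHeartbeats 1000000

open Matrix Cfsg

namespace Cfsg.Agent.SymplecticThreeRegular87

open Cfsg.Agent.SymplecticBasic

variable {F : Type*} [Field F] {n : ℕ}

/-! ### Powers of a triangular nilpotent matrix -/

theorem regular_of_weight {ι : Type*} [Fintype ι] [DecidableEq ι] (M : Matrix ι ι F) (ω : ι → ℕ)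
    (N : ℕ) (hlt : ∀ b, ω b < N) (hinj : Function.Injective ω) (hsurj : ∀ t, t < N → ∃ b, ω b = t)
    (h0 : ∀ r c, ω c ≤ ω r → M r c = 0) (h1 : ∀ r c, ω c = ω r + 1 → M r c ≠ 0) (hN : 1 ≤ N) :
    IsNilpotent M ∧ M ^ (N - 1) ≠ 0 := by
  have key : ∀ k r c, (ω c < ω r + k → (M ^ k) r c = 0) ∧ (ω c = ω r + k → (M ^ k) r c ≠ 0) := by
    intro k
    induction k with
    | zero =>
      intro r c
      constructor
      · intro h
        rw [pow_zero, Matrix.one_apply_ne]
        rintro rfl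
        omega
      · intro h
        rw [hinj (a₁ := c) (a₂ := r) (by omega), pow_zero, Matrix.one_apply_eq]
        exact one_ne_zero
    | succ k ih =>
      intro r c
      rw [pow_succ, Matrix.mul_apply]
      constructor
      · intro h
        refine Finset.sum_eq_zero fun b _ => ?_
        rcases Nat.lt_or_ge (ω b) (ω r + k) with hb | hb
        · rw [(ih r b).1 hb, zero_mul]
        · rw [h0 b c (by omega), mul_zero]
      · intro h
        obtain ⟨b0, hb0⟩ := hsurj (ω r + k) (by have := hlt c; omega)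
        rw [Finset.sum_eq_single b0]
        · exact mul_ne_zero ((ih r b0).2 hb0) (h1 b0 c (by omega))
        · intro b _ hb
          rcases lt_trichotomy (ω b) (ω r + k) with h' | h' | h'
          · rw [(ih r b).1 h', zero_mul]
          · exact absurd (hinj (h'.trans hb0.symm)) hb
          · rw [h0 b c (by omega), mul_zero]
        · simp
  refine ⟨⟨N, ?_⟩, fun h => ?_⟩
  · ext r c
    exact (key N r c).1 (by have := hlt c; omega)
  · obtain ⟨r, hr⟩ := hsurj 0 (by omega)
    obtain ⟨c, hc⟩ := hsurj (N - 1) (by omega)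
    exact (key (N - 1) r c).2 (by omega) (by rw [h]; rfl)

/-! ### The elements -/

/-- The upper bidiagonal matrix. -/
def Amat (n : ℕ) (F : Type*) [Field F] : Matrix (Fin n) (Fin n) F :=
  Matrix.of fun i j => if (j : ℕ) = i ∨ (j : ℕ) = i + 1 then 1 else 0

/-- Its inverse. -/
def Bmat (n : ℕ) (F : Type*) [Field F] : Matrix (Fin n) (Fin n) F :=
  Matrix.of fun i j => if (i : ℕ) ≤ j then (-1) ^ ((j : ℕ) - i) else 0

theorem mulVec_e (M : Matrix (Fin n) (Fin n) F) {j : ℕ} (hj : j < n) (i : Fin n) :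
    (M *ᵥ e n F j) i = M i ⟨j, hj⟩ := by
  have : e n F j = Pi.single ⟨j, hj⟩ 1 := by
    funext k; simp [e, Pi.single_apply, Fin.ext_iff]
  rw [this, Matrix.mulVec_single_one]; rfl

theorem AB : Amat n F * Bmat n F = 1 := by
  ext i j
  rw [Matrix.mul_apply]
  by_cases hi : (i : ℕ) + 1 < n
  · rw [Finset.sum_eq_add i ⟨i + 1, hi⟩ (by simp [Fin.ext_iff])]
    · simp only [Amat, Bmat, Matrix.of_apply, true_or, or_true, if_true, one_mul]
      rcases lt_trichotomy (i : ℕ) j with h | h | h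
      · rw [if_pos h.le, if_pos (by omega), Matrix.one_apply_ne (fun e => by subst e; omega),
          show (j : ℕ) - i = ((j : ℕ) - (i + 1)) + 1 by omega, pow_succ]
        ring
      · rw [if_pos h.le, if_neg (by omega), h, Nat.sub_self, pow_zero, add_zero,
          Fin.ext h, Matrix.one_apply_eq]
      · rw [if_neg (by omega), if_neg (by omega), Matrix.one_apply_ne (fun e => by subst e; omega),
          add_zero]
    · intro b _ hb
      have h1 : (b : ℕ) ≠ i := fun e => hb.1 (Fin.ext e)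
      have h2 : (b : ℕ) ≠ i + 1 := fun e => hb.2 (Fin.ext e)
      simp [Amat, h1, h2]
    · simp
    · simp
  · rw [Finset.sum_eq_single i]
    · simp only [Amat, Bmat, Matrix.of_apply, true_or, if_true, one_mul]
      rcases lt_trichotomy (i : ℕ) j with h | h | h
      · omega
      · rw [if_pos h.le, h, Nat.sub_self, pow_zero, Fin.ext h, Matrix.one_apply_eq]
      · rw [if_neg (by omega), Matrix.one_apply_ne (fun e => by subst e; omega)]
    · intro b _ hb
      have h1 : (b : ℕ) ≠ i := fun e => hb (Fin.ext e)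
      have h2 : (b : ℕ) ≠ i + 1 := by omega
      simp [Amat, h1, h2]
    · simp

theorem BA : Bmat n F * Amat n F = 1 := mul_eq_one_comm.mp AB

theorem A_e_zero (hn : 1 ≤ n) : Amat n F *ᵥ e n F 0 = e n F 0 := by
  funext i
  rw [mulVec_e _ (show 0 < n by omega)]
  simp only [Amat, Matrix.of_apply, e]
  by_cases h : (i : ℕ) = 0
  · simp [h]
  · simp [h, Ne.symm h]

theorem A_e_succ {j : ℕ} (hj : j + 1 < n) :
    Amat n F *ᵥ e n F (j + 1) = e n F (j + 1) + e n F j := by
  funext i
  rw [mulVec_e _ hj, Pi.add_apply]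
  simp only [Amat, Matrix.of_apply, e]
  split_ifs <;> first | omega | simp

/-- A Siegel element. -/
def sieg (S : Matrix (Fin n) (Fin n) F) (hS : Sᵀ = S) : symplecticGroup (Fin n) F :=
  ⟨fromBlocks 1 S 0 1, by
    rw [SymplecticGroup.mem_iff, Matrix.J, fromBlocks_multiply, fromBlocks_transpose,
      fromBlocks_multiply]
    simp [hS]⟩

theorem sieg_mul {S T : Matrix (Fin n) (Fin n) F} (hS : Sᵀ = S) (hT : Tᵀ = T) :
    sieg S hS * sieg T hT = sieg (S + T) (by rw [Matrix.transpose_add, hS, hT]) :=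
  Subtype.ext (by simp [sieg, fromBlocks_multiply, add_comm])

/-- A Levi element. -/
def levi (P Q : Matrix (Fin n) (Fin n) F) (h : P * Q = 1) : symplecticGroup (Fin n) F :=
  ⟨fromBlocks P 0 0 Qᵀ, by
    rw [SymplecticGroup.mem_iff, Matrix.J, fromBlocks_multiply, fromBlocks_transpose,
      fromBlocks_multiply]
    simp [h, ← Matrix.transpose_mul]⟩

theorem levi_mul {P Q P' Q' : Matrix (Fin n) (Fin n) F} (h : P * Q = 1) (h' : P' * Q' = 1) :
    levi P Q h * levi P' Q' h' = levi (P * P') (Q' * Q)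
      (by rw [Matrix.mul_assoc P, ← Matrix.mul_assoc P', h', Matrix.one_mul, h]) :=
  Subtype.ext (by simp [levi, fromBlocks_multiply, Matrix.transpose_mul])

theorem levi_inv {P Q : Matrix (Fin n) (Fin n) F} (h : P * Q = 1) :
    (levi P Q h)⁻¹ = levi Q P (mul_eq_one_comm.mp h) := by
  refine inv_eq_of_mul_eq_one_right (Subtype.ext ?_)
  simp [levi, fromBlocks_multiply, h, mul_eq_one_comm.mp h, ← Matrix.transpose_mul]

theorem levi_sieg {P Q : Matrix (Fin n) (Fin n) F} (h : P * Q = 1)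
    {S : Matrix (Fin n) (Fin n) F} (hS : Sᵀ = S) :
    levi P Q h * sieg S hS = sieg (P * S * Pᵀ)
      (by simp [Matrix.transpose_mul, hS, Matrix.mul_assoc]) * levi P Q h := by
  have h' : Pᵀ * Qᵀ = 1 := by
    rw [← Matrix.transpose_mul, mul_eq_one_comm.mp h, Matrix.transpose_one]
  exact Subtype.ext (by simp [sieg, levi, fromBlocks_multiply, Matrix.mul_assoc, h'])

theorem sieg_smul {S : Matrix (Fin n) (Fin n) F} (hS : Sᵀ = S) (a b : Fin n → F) :
    sieg S hS • Sum.elim a b = Sum.elim (a + S *ᵥ b) b := by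
  rw [smul_def]; simp [sieg, fromBlocks_mulVec]

theorem levi_smul {P Q : Matrix (Fin n) (Fin n) F} (h : P * Q = 1) (a b : Fin n → F) :
    levi P Q h • Sum.elim a b = Sum.elim (P *ᵥ a) (Qᵀ *ᵥ b) := by
  rw [smul_def]; simp [levi, fromBlocks_mulVec]

theorem smul_q_transpose (c : F) (v : Fin n → F) : (c • q v)ᵀ = c • q v := by
  rw [Matrix.transpose_smul, q_transpose]

theorem transv_inl (v : Fin n → F) (c : F) :
    transv (Sum.elim v (0 : Fin n → F)) c = sieg (c • q v) (smul_q_transpose c v) := by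
  refine ext_smul fun x => ?_
  obtain ⟨a, b, rfl⟩ : ∃ a b, x = Sum.elim a b :=
    ⟨fun i => x (Sum.inl i), fun i => x (Sum.inr i), by funext i; cases i <;> rfl⟩
  rw [transv_smul, sieg_smul, form_pair, elim_smul, elim_add]
  congr 1
  · rw [dotProduct_zero, sub_zero, Matrix.smul_mulVec, q, Matrix.vecMulVec_mulVec,
      op_smul_eq_smul, smul_smul, dotProduct_comm]
  · simp

/-- The element of the form matrix. -/
def jel (n : ℕ) (F : Type*) [Field F] : symplecticGroup (Fin n) F :=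
  ⟨J (Fin n) F, SymplecticGroup.J_mem _ _⟩

theorem jel_smul (a b : Fin n → F) : jel n F • Sum.elim a b = Sum.elim (-b) a := by
  rw [smul_def]; simp [jel, Matrix.J, fromBlocks_mulVec, Matrix.neg_mulVec]

theorem jel_levi {P Q : Matrix (Fin n) (Fin n) F} (h : P * Q = 1) :
    jel n F * levi P Q h = levi Qᵀ Pᵀ (by rw [← Matrix.transpose_mul, h, Matrix.transpose_one]) *
      jel n F :=
  Subtype.ext (by simp [jel, levi, Matrix.J, fromBlocks_multiply])

/-- The upper regular unipotent element. -/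
def uel (n : ℕ) (F : Type*) [Field F] : symplecticGroup (Fin n) F :=
  transv (Sum.elim (e n F (n - 1)) (0 : Fin n → F)) 1 * levi (Amat n F) (Bmat n F) AB

theorem uel_smul_inl (v : Fin n → F) :
    uel n F • Sum.elim v (0 : Fin n → F) = Sum.elim (Amat n F *ᵥ v) (0 : Fin n → F) := by
  rw [uel, mul_smul, levi_smul, Matrix.mulVec_zero, transv_inl, sieg_smul, Matrix.mulVec_zero,
    add_zero]

theorem uel_sieg {S : Matrix (Fin n) (Fin n) F} (hS : Sᵀ = S) :
    uel n F * sieg S hS = sieg (Amat n F * S * (Amat n F)ᵀ)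
      (by simp [Matrix.transpose_mul, hS, Matrix.mul_assoc]) * uel n F := by
  rw [uel, transv_inl, mul_assoc (sieg _ _), levi_sieg, ← mul_assoc (sieg _ _), ← mul_assoc (sieg _ _),
    sieg_mul, sieg_mul]
  congr 1
  exact Subtype.ext (by simp [sieg, add_comm])

theorem uel_coe (hn : 1 ≤ n) :
    (uel n F : Matrix (Fin n ⊕ Fin n) (Fin n ⊕ Fin n) F) =
      fromBlocks (Amat n F) (Matrix.of fun i j => e n F (n - 1) i * Bmat n F j ⟨n - 1, by omega⟩) 0
        (Bmat n F)ᵀ := by
  rw [uel, transv_inl, Submonoid.coe_mul]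
  simp only [sieg, levi, fromBlocks_multiply, one_smul]
  congr 1 <;> try simp
  ext i j
  rw [q, Matrix.vecMulVec_mul, Matrix.vecMulVec_apply, Matrix.vecMul_transpose, mulVec_e _ (by omega)]
  rfl

theorem uel_regular (hn : 1 ≤ n) :
    IsNilpotent ((uel n F : Matrix (Fin n ⊕ Fin n) (Fin n ⊕ Fin n) F) - 1) ∧
      ((uel n F : Matrix (Fin n ⊕ Fin n) (Fin n ⊕ Fin n) F) - 1) ^ (2 * n - 1) ≠ 0 := by
  let ω : Fin n ⊕ Fin n → ℕ := Sum.elim (fun i => (i : ℕ)) (fun i => 2 * n - 1 - i)
  refine regular_of_weight _ ω (2 * n) ?_ ?_ ?_ ?_ ?_ (by omega)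
  · rintro (b | b) <;> simp only [ω, Sum.elim_inl, Sum.elim_inr] <;> have := b.2 <;> omega
  · rintro (a | a) (b | b) h <;> simp only [ω, Sum.elim_inl, Sum.elim_inr] at h <;>
      have := a.2 <;> have := b.2
    · exact congrArg Sum.inl (Fin.ext h)
    · omega
    · omega
    · exact congrArg Sum.inr (Fin.ext (by omega))
  · intro t ht
    by_cases h : t < n
    · exact ⟨Sum.inl ⟨t, h⟩, rfl⟩
    · exact ⟨Sum.inr ⟨2 * n - 1 - t, by omega⟩, by simp [ω]; omega⟩
  · rintro (r | r) (c | c) h <;> simp only [ω, Sum.elim_inl, Sum.elim_inr] at h <;>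
      have := r.2 <;> have := c.2 <;> rw [uel_coe hn] <;>
      simp only [Matrix.sub_apply, fromBlocks_apply₁₁, fromBlocks_apply₁₂, fromBlocks_apply₂₁,
        fromBlocks_apply₂₂, Matrix.one_apply, Amat, Bmat, Matrix.of_apply, Matrix.transpose_apply,
        Matrix.zero_apply, e, Sum.inl.injEq, Sum.inr.injEq, reduceCtorEq, if_false, Fin.ext_iff,
        sub_zero]
    · split_ifs <;> first | omega | simp
    · omega
    · split_ifs <;> first | omega | (simp; done) | (rw [show (r : ℕ) - c = 0 by omega]; simp)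
  · rintro (r | r) (c | c) h <;> simp only [ω, Sum.elim_inl, Sum.elim_inr] at h <;>
      have := r.2 <;> have := c.2 <;> rw [uel_coe hn] <;>
      simp only [Matrix.sub_apply, fromBlocks_apply₁₁, fromBlocks_apply₁₂, fromBlocks_apply₂₁,
        fromBlocks_apply₂₂, Matrix.one_apply, Amat, Bmat, Matrix.of_apply, Matrix.transpose_apply,
        Matrix.zero_apply, e, Sum.inl.injEq, Sum.inr.injEq, reduceCtorEq, if_false, Fin.ext_iff,
        sub_zero]
    · split_ifs <;> first | omega | simp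
    · split_ifs <;> first | omega | simp
    · omega
    · split_ifs <;> first | omega | (rw [show (r : ℕ) - c = 1 by omega]; simp)

/-- The scaling. -/
def dvec (n : ℕ) (α β : F) : Fin n → F := fun i => if (i : ℕ) = 0 then α else β

theorem dvec_mul {α β : F} (hα : α ≠ 0) (hβ : β ≠ 0) :
    Matrix.diagonal (dvec n α β) * Matrix.diagonal (dvec n α⁻¹ β⁻¹) = 1 := by
  rw [Matrix.diagonal_mul_diagonal, ← Matrix.diagonal_one]
  congr 1
  funext i
  simp only [dvec]
  split_ifs
  · exact mul_inv_cancel₀ hα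
  · exact mul_inv_cancel₀ hβ

/-- The element carrying the upper unipotent to a lower one. -/
def hel (n : ℕ) {α β : F} (hα : α ≠ 0) (hβ : β ≠ 0) : symplecticGroup (Fin n) F :=
  levi (Matrix.diagonal (dvec n α β)) (Matrix.diagonal (dvec n α⁻¹ β⁻¹)) (dvec_mul hα hβ) * jel n F

/-- The lower unipotent element. -/
def wel (n : ℕ) {α β : F} (hα : α ≠ 0) (hβ : β ≠ 0) : symplecticGroup (Fin n) F :=
  hel n hα hβ * (uel n F)⁻¹ * (hel n hα hβ)⁻¹

/-- The matrix of the lower element on the first half. -/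
def Dmat (n : ℕ) (α β : F) : Matrix (Fin n) (Fin n) F :=
  Matrix.diagonal (dvec n α β) * (Amat n F)ᵀ * Matrix.diagonal (dvec n α⁻¹ β⁻¹)

/-- The inverse of `Dmat`. -/
def Emat (n : ℕ) (α β : F) : Matrix (Fin n) (Fin n) F :=
  Matrix.diagonal (dvec n α β) * (Bmat n F)ᵀ * Matrix.diagonal (dvec n α⁻¹ β⁻¹)

theorem DE {α β : F} (hα : α ≠ 0) (hβ : β ≠ 0) : Dmat n α β * Emat n α β = 1 := by
  have h := mul_eq_one_comm.mp (dvec_mul (n := n) hα hβ)
  simp only [Dmat, Emat, Matrix.mul_assoc]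
  rw [← Matrix.mul_assoc (Matrix.diagonal (dvec n α⁻¹ β⁻¹)) (Matrix.diagonal (dvec n α β)), h,
    Matrix.one_mul, ← Matrix.mul_assoc (Amat n F)ᵀ, ← Matrix.transpose_mul, BA,
    Matrix.transpose_one, Matrix.one_mul, dvec_mul hα hβ]

theorem wel_eq (hn : 2 ≤ n) {α β : F} (hα : α ≠ 0) (hβ : β ≠ 0) :
    wel n hα hβ = levi (Dmat n α β) (Emat n α β) (DE hα hβ) *
      transv (Sum.elim (0 : Fin n → F) (β⁻¹ • e n F (n - 1))) (-1) := by
  have hh : hel n hα hβ • Sum.elim (e n F (n - 1)) (0 : Fin n → F) = Sum.elim (0 : Fin n → F) (β⁻¹ • e n F (n - 1)) := by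
    rw [hel, mul_smul, jel_smul, levi_smul, neg_zero, Matrix.mulVec_zero, Matrix.diagonal_transpose]
    congr 1
    funext i
    rw [Matrix.mulVec_diagonal]
    simp only [dvec, e, Pi.smul_apply, smul_eq_mul]
    split_ifs <;> first | omega | simp
  have e1 : hel n hα hβ * (levi (Amat n F) (Bmat n F) AB)⁻¹ * (hel n hα hβ)⁻¹ =
      levi (Dmat n α β) (Emat n α β) (DE hα hβ) := by
    rw [mul_inv_eq_iff_eq_mul, levi_inv, hel, mul_assoc (levi _ _ _), jel_levi, ← mul_assoc (levi _ _ _),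
      levi_mul, ← mul_assoc (levi _ _ _), levi_mul]
    congr 1
    refine Subtype.ext ?_
    have h := mul_eq_one_comm.mp (dvec_mul (n := n) hα hβ)
    simp only [levi, Dmat, Emat, Matrix.mul_assoc, h, Matrix.mul_one]
    rw [← Matrix.mul_assoc (Matrix.diagonal (dvec n α⁻¹ β⁻¹)) (Matrix.diagonal (dvec n α β)), h,
      Matrix.one_mul]
  rw [wel, uel, _root_.mul_inv_rev, transv_inv, ← hh, ← e1, ← transv_conj]
  group

theorem wel_smul_inr (hn : 2 ≤ n) {α β : F} (hα : α ≠ 0) (hβ : β ≠ 0) (m : Fin n → F) :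
    wel n hα hβ • Sum.elim (0 : Fin n → F) m = Sum.elim (0 : Fin n → F) ((Emat n α β)ᵀ *ᵥ m) := by
  rw [wel_eq hn, mul_smul, transv_smul, form_pair, dotProduct_zero, zero_dotProduct, sub_zero,
    mul_zero, zero_smul, add_zero, levi_smul, Matrix.mulVec_zero]

theorem wel_smul_inl (hn : 2 ≤ n) {α β : F} (hα : α ≠ 0) (hβ : β ≠ 0) (v : Fin n → F) :
    wel n hα hβ • Sum.elim v (0 : Fin n → F) =
      Sum.elim (Dmat n α β *ᵥ v) ((v ⟨n - 1, by omega⟩ * (β⁻¹) ^ 2) • ((Emat n α β)ᵀ *ᵥ e n F (n - 1))) := by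
  rw [wel_eq hn, mul_smul, transv_smul, form_pair, zero_dotProduct, zero_sub, elim_smul, elim_add,
    smul_zero, add_zero, zero_add, levi_smul, smul_smul, ← Matrix.mulVec_smul]
  congr 2
  have h1 : v ⬝ᵥ β⁻¹ • e n F (n - 1) = β⁻¹ * v ⟨n - 1, by omega⟩ := by
    rw [dotProduct_smul, smul_eq_mul]
    congr 1
    rw [show e n F (n - 1) = Pi.single ⟨n - 1, by omega⟩ 1 by
      funext k; simp [e, Pi.single_apply, Fin.ext_iff], dotProduct_single_one]
  rw [h1]
  congr 1
  ring

theorem D_e {α β : F} (hα : α ≠ 0) (hβ : β ≠ 0) {j : ℕ} (hj : j + 1 < n) :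
    Dmat n α β *ᵥ e n F j = e n F j + (if j = 0 then β / α else 1) • e n F (j + 1) := by
  funext i
  rw [mulVec_e _ (show j < n by omega), Dmat, Matrix.mul_diagonal, Matrix.diagonal_mul]
  simp only [Matrix.transpose_apply, Amat, Matrix.of_apply, dvec, e, Pi.add_apply, Pi.smul_apply,
    smul_eq_mul]
  split_ifs <;> first | omega | contradiction | (simp [hα, hβ, div_eq_mul_inv]; done)

theorem Dt_e {α β : F} (hα : α ≠ 0) (hβ : β ≠ 0) {j : ℕ} (hj : j + 1 < n) :
    (Dmat n α β)ᵀ *ᵥ e n F (j + 1) = e n F (j + 1) + (if j = 0 then β / α else 1) • e n F j := by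
  funext i
  rw [mulVec_e _ hj, Matrix.transpose_apply, Dmat, Matrix.mul_diagonal, Matrix.diagonal_mul]
  simp only [Matrix.transpose_apply, Amat, Matrix.of_apply, dvec, e, Pi.add_apply, Pi.smul_apply,
    smul_eq_mul]
  split_ifs <;> first | omega | contradiction | (simp [hα, hβ, div_eq_mul_inv]; done)

/-! ### Generation -/

section gen

variable {H : Subgroup (symplecticGroup (Fin n) F)} {α β : F}

/-- The Siegel part of a subgroup. -/
def siegPart (H : Subgroup (symplecticGroup (Fin n) F)) : AddSubgroup (Matrix (Fin n) (Fin n) F) where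
  carrier := {S | ∃ hS : Sᵀ = S, sieg S hS ∈ H}
  add_mem' := fun {S T} ⟨hS, h⟩ ⟨hT, h'⟩ => ⟨_, sieg_mul hS hT ▸ H.mul_mem h h'⟩
  zero_mem' := ⟨Matrix.transpose_zero, by
    rw [show sieg (0 : Matrix (Fin n) (Fin n) F) Matrix.transpose_zero = 1 from
      Subtype.ext (by simp [sieg])]
    exact H.one_mem⟩
  neg_mem' := fun {S} ⟨hS, h⟩ => by
    have hS' : (-S)ᵀ = -S := by rw [Matrix.transpose_neg, hS]
    refine ⟨hS', ?_⟩
    rw [show sieg (-S) hS' = (sieg S hS)⁻¹ from (inv_eq_of_mul_eq_one_right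
      (Subtype.ext (by simp [sieg, fromBlocks_multiply]))).symm]
    exact H.inv_mem h

theorem mem_siegPart {c : F} {v : Fin n → F} :
    c • q v ∈ siegPart H ↔ transv (Sum.elim v (0 : Fin n → F)) c ∈ H := by
  rw [transv_inl]
  exact ⟨fun ⟨_, h⟩ => h, fun h => ⟨_, h⟩⟩

theorem conj_mem_transv {g : symplecticGroup (Fin n) F} (hg : g ∈ H) {v : Fin n ⊕ Fin n → F} {c : F}
    (h : transv v c ∈ H) : transv (g • v) c ∈ H := by
  rw [← transv_conj]; exact H.mul_mem (H.mul_mem hg h) (H.inv_mem hg)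

theorem data (hn : 2 ≤ n) (hα : α ≠ 0) (hβ : β ≠ 0) (hu : uel n F ∈ H) (hw : wel n hα hβ ∈ H) :
    Data (siegPart H) (Amat n F) (Dmat n α β) (fun j => if j = 0 then β / α else 1) where
  two_le := hn
  conj := by
    rintro S ⟨hS, h⟩
    refine ⟨by simp [Matrix.transpose_mul, hS, Matrix.mul_assoc], ?_⟩
    have := H.mul_mem (H.mul_mem hu h) (H.inv_mem hu)
    rwa [uel_sieg, mul_inv_cancel_right] at this
  low := by
    intro v hv c h
    rw [mem_siegPart] at h ⊢
    have := conj_mem_transv hw h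
    rwa [wel_smul_inl hn, hv ⟨n - 1, by omega⟩ le_rfl, zero_mul, zero_smul] at this
  A_zero := A_e_zero (by omega)
  A_succ := fun j hj => A_e_succ hj
  D_apply := fun j hj => D_e hα hβ hj
  s_ne := fun j => by
    split_ifs
    · exact div_ne_zero hβ hα
    · exact one_ne_zero
  s_one := fun j hj => if_neg (by omega)

theorem eq_top_of_first (hn : 2 ≤ n) (hα : α ≠ 0) (hβ : β ≠ 0) (hu : uel n F ∈ H)
    (hw : wel n hα hβ ∈ H) (hC : ∀ c : F, transv (Sum.elim (e n F 0) (0 : Fin n → F)) c ∈ H) : H = ⊤ := by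
  have hd := data hn hα hβ hu hw
  have hL : ∀ l, Full H (Sum.elim l (0 : Fin n → F)) := fun l c =>
    mem_siegPart.1 (hd.all (fun t => mem_siegPart.2 (hC t)) l c)
  refine eq_top_of_halves hL (Submodule.eq_top_iff'.2 fun m => ?_)
  have hinv : ∀ m ∈ halves hL, (Dmat n α β)ᵀ *ᵥ m ∈ halves hL := by
    intro m hm
    have h1 : (wel n hα hβ)⁻¹ • Sum.elim (0 : Fin n → F) m = Sum.elim (0 : Fin n → F) ((Dmat n α β)ᵀ *ᵥ m) := by
      rw [inv_smul_eq_iff, wel_smul_inr hn, Matrix.mulVec_mulVec, ← Matrix.transpose_mul, DE hα hβ,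
        Matrix.transpose_one, Matrix.one_mulVec]
    have h2 := Full.conj (show Full H (Sum.elim (0 : Fin n → F) m) from hm) (H.inv_mem hw)
    rwa [h1] at h2
  have hlast : e n F (n - 1) ∈ halves hL := by
    have h1 := (hL (e n F (n - 1))).conj hw
    rw [wel_smul_inl hn] at h1
    set m0 := (Emat n α β)ᵀ *ᵥ e n F (n - 1) with hm0
    have he : (Dmat n α β)ᵀ *ᵥ m0 = e n F (n - 1) := by
      rw [hm0, Matrix.mulVec_mulVec, ← Matrix.transpose_mul, mul_eq_one_comm.mp (DE hα hβ),
        Matrix.transpose_one, Matrix.one_mulVec]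
    have hk : e n F (n - 1) ⟨n - 1, by omega⟩ * (β⁻¹) ^ 2 ≠ 0 := by
      simp [e, hβ]
    have hm0' : m0 ≠ 0 := by
      intro h0
      rw [h0, Matrix.mulVec_zero] at he
      have := congrFun he ⟨n - 1, by omega⟩
      simp [e] at this
    have h2 : (e n F (n - 1) ⟨n - 1, by omega⟩ * (β⁻¹) ^ 2) • m0 ∈ halves hL :=
      coset_full hL (smul_ne_zero hk hm0') h1 0
    have h3 := (halves hL).smul_mem (e n F (n - 1) ⟨n - 1, by omega⟩ * (β⁻¹) ^ 2)⁻¹ h2
    rw [smul_smul, inv_mul_cancel₀ hk, one_smul] at h3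
    have := hinv _ h3
    rwa [he] at this
  have hall : ∀ k, k < n → e n F (n - 1 - k) ∈ halves hL := by
    intro k
    induction k with
    | zero => exact fun _ => hlast
    | succ k ih =>
      intro hk
      have h1 := ih (by omega)
      have h2 := hinv _ h1
      rw [show n - 1 - k = (n - 1 - (k + 1)) + 1 by omega, Dt_e hα hβ (by omega)] at h2
      rw [show n - 1 - k = (n - 1 - (k + 1)) + 1 by omega] at h1
      have h3 := (halves hL).sub_mem h2 h1
      rw [add_sub_cancel_left] at h3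
      have h4 := (halves hL).smul_mem (if n - 1 - (k + 1) = 0 then β / α else (1 : F))⁻¹ h3
      rwa [smul_smul, inv_mul_cancel₀ (hd.s_ne (n - 1 - (k + 1))), one_smul] at h4
  have : m = ∑ i : Fin n, m i • e n F (i : ℕ) := by
    funext j; simp [e, Finset.sum_apply, Fin.val_inj]
  rw [this]
  refine Submodule.sum_mem _ fun i _ => (halves hL).smul_mem _ ?_
  have := hall (n - 1 - i) (by omega)
  rwa [show n - 1 - (n - 1 - (i : ℕ)) = (i : ℕ) by have := i.2; omega] at this

theorem eq_top_general [Finite F] (hn : 2 ≤ n) (hcase : (2 : F) ≠ 0 ∨ 3 ≤ n) {s : F} (hs : s ≠ 0)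
    (hgen : ∀ y : F, y ≠ 0 → ∃ k : ℕ, s ^ k = y) (hu : uel n F ∈ H)
    (hw : wel n one_ne_zero hs ∈ H) {c0 : F} (hc0 : c0 ≠ 0)
    (hc : transv (Sum.elim (e n F 0) (0 : Fin n → F)) c0 ∈ H) : H = ⊤ := by
  have hd := data hn one_ne_zero hs hu hw
  obtain ⟨p, _⟩ := CharP.exists F
  refine eq_top_of_first hn one_ne_zero hs hu hw fun t => mem_siegPart.1 ?_
  refine hd.all_of_scalars ?_ ?_ hc0 (mem_siegPart.2 hc) _ t
  · intro c hcC
    by_cases h2 : (2 : F) = 0
    · exact hd.sq_mul_even h2 (hcase.resolve_left (fun h => h h2)) hcC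
    · exact hd.sq_mul_odd h2 p hcC
  · simpa using hgen

/-! ### The rank two case in characteristic two -/

/-- An element of the unipotent radical of the stabiliser of `a`. -/
def Z (a : Fin n ⊕ Fin n → F) (c : F) (v : Fin n ⊕ Fin n → F) (x : F) :
    symplecticGroup (Fin n) F :=
  transv (a + v) c * transv a (-c) * transv v (-c) * transv a x

theorem Z_smul {a v : Fin n ⊕ Fin n → F} (c e : F) (h : sympForm n F a v = 0)
    (x : Fin n ⊕ Fin n → F) :
    Z a c v e • x = x + (c * sympForm n F x a) • v + (c * sympForm n F x v + e * sympForm n F x a) • a := by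
  have h' : sympForm n F v a = 0 := form_eq_zero_comm.1 h
  simp only [Z, mul_smul, transv_smul, form_add_left, form_add_right, form_smul_left,
    form_smul_right, form_self, h, h', mul_zero, add_zero, zero_add]
  module

theorem Z_mul {a v v' : Fin n ⊕ Fin n → F} (c e e' : F) (h : sympForm n F a v = 0)
    (h' : sympForm n F a v' = 0) :
    Z a c v e * Z a c v' e' = Z a c (v + v') (e + e' + c ^ 2 * sympForm n F v' v) := by
  refine ext_smul fun x => ?_
  have hv' : sympForm n F v' a = 0 := form_eq_zero_comm.1 h'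
  rw [mul_smul, Z_smul c e' h', Z_smul c e h, Z_smul c _ (by rw [form_add_right, h, h', add_zero])]
  simp only [form_add_left, form_add_right, form_smul_left, form_self, h, hv', mul_zero, add_zero,
    zero_add]
  module

theorem Z_zero (a : Fin n ⊕ Fin n → F) (c e : F) : Z a c 0 e = transv a e := by
  rw [Z, add_zero, transv_vec_zero, mul_one, transv_add, transv_add, add_neg_cancel, zero_add]

theorem Z_conj {a : Fin n ⊕ Fin n → F} {g : symplecticGroup (Fin n) F} (hg : g • a = a) (c : F)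
    (v : Fin n ⊕ Fin n → F) (e : F) : g * Z a c v e * g⁻¹ = Z a c (g • v) e := by
  have h : g * Z a c v e * g⁻¹ = (g * transv (a + v) c * g⁻¹) * (g * transv a (-c) * g⁻¹) *
      (g * transv v (-c) * g⁻¹) * (g * transv a e * g⁻¹) := by
    rw [Z]; group
  rw [h, transv_conj, transv_conj, transv_conj, transv_conj, hg, Z]
  rw [show g • (a + v) = g • a + g • v from smul_add g a v, hg]

theorem pair_eq {a v : Fin n ⊕ Fin n → F} (h : sympForm n F a v = 0) (c ν : F) :
    transv (ν • a + v) c * transv v (-c) = Z a c (ν • v) (c * ν ^ 2) := by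
  refine ext_smul fun x => ?_
  have h' : sympForm n F v a = 0 := form_eq_zero_comm.1 h
  rw [Z_smul _ _ (by rw [form_smul_right, h, mul_zero]), mul_smul, transv_smul, transv_smul]
  simp only [form_add_left, form_add_right, form_smul_left, form_smul_right, form_self, h',
    mul_zero, add_zero, zero_add]
  module

theorem root_group_two [Finite F] [CharP F 2] {a b y : Fin n ⊕ Fin n → F}
    {u : symplecticGroup (Fin n) F} (hu : u ∈ H) (hua : u • a = b) (hub : u • b = a)
    (hab : sympForm n F a b = 0) (hay : sympForm n F a y = 0) {c : F} (hc : c ≠ 0)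
    (hφ : c * sympForm n F y b ≠ 0)
    (hgen : ∀ z : F, z ≠ 0 → ∃ k : ℕ, (c * sympForm n F y b) ^ k = z)
    {l : F} (hl0 : l ≠ 0) (hl1 : l ≠ 1)
    (_ha : transv a c ∈ H) (hb : transv b c ∈ H) (hy : transv y c ∈ H)
    (hab' : transv (a + b) c ∈ H) (t : F) : transv a t ∈ H := by
  have h2 : (2 : F) = 0 := CharTwo.two_eq_zero
  set φ := c * sympForm n F y b with hφd
  have hby : c * sympForm n F b y = φ := by
    rw [hφd, form_swap y b, CharTwo.neg_eq]
  have hneg : ∀ v : Fin n ⊕ Fin n → F, transv v (-c) = transv v c := fun v => by rw [CharTwo.neg_eq]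
  have htb : transv b c • y = y + φ • b := by rw [transv_smul]
  have hty : transv y c • b = b + φ • y := by rw [transv_smul, hby]
  have htba : transv b c • a = a := by simp [transv_smul, hab]
  have htya : transv y c • a = a := by simp [transv_smul, hay]
  -- the admissible vectors
  let Y : AddSubgroup (Fin n ⊕ Fin n → F) :=
    { carrier := {v | sympForm n F a v = 0 ∧ ∃ e, Z a c v e ∈ H}
      add_mem' := fun {v v'} ⟨h, e, he⟩ ⟨h', e', he'⟩ =>
        ⟨by rw [form_add_right, h, h', add_zero], _, Z_mul c e e' h h' ▸ H.mul_mem he he'⟩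
      zero_mem' := ⟨form_zero_right a, 0, by rw [Z_zero, transv_zero]; exact H.one_mem⟩
      neg_mem' := fun {v} ⟨h, e, he⟩ => by
        have hn' : sympForm n F a (-v) = 0 := by
          rw [← neg_one_smul F v, form_smul_right, h, mul_zero]
        refine ⟨hn', -e, ?_⟩
        have : Z a c v e * Z a c (-v) (-e) = 1 := by
          rw [Z_mul c e (-e) h hn', add_neg_cancel, ← neg_one_smul F v, form_smul_left, form_self,
            mul_zero, mul_zero, add_zero, add_neg_cancel, Z_zero, transv_zero]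
        rw [← inv_eq_of_mul_eq_one_right this]
        exact H.inv_mem he }
  have hYconj : ∀ g ∈ H, g • a = a → ∀ v ∈ Y, g • v ∈ Y := by
    rintro g hg hga v ⟨h, e, he⟩
    refine ⟨?_, e, ?_⟩
    · rw [← hga, form_map, h]
    · rw [← Z_conj hga]
      exact H.mul_mem (H.mul_mem hg he) (H.inv_mem hg)
  let C : AddSubgroup F :=
    { carrier := {μ | μ • b ∈ Y}
      add_mem' := fun {μ μ'} h h' => by
        show (μ + μ') • b ∈ Y
        rw [add_smul]; exact Y.add_mem h h'
      zero_mem' := by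
        show (0 : F) • b ∈ Y
        rw [zero_smul]; exact Y.zero_mem
      neg_mem' := fun {μ} h => by
        show (-μ) • b ∈ Y
        rw [neg_smul]; exact Y.neg_mem h }
  have hsm : ∀ (g : symplecticGroup (Fin n) F) (μ : F) (v : Fin n ⊕ Fin n → F),
      g • (μ • v) = μ • (g • v) := fun g μ v => by
    rw [smul_def, smul_def, Matrix.mulVec_smul]
  have hbb : transv b c • b = b := by simp [transv_smul, form_self]
  have hyy : transv y c • y = y := by simp [transv_smul, form_self]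
  have hC1 : (1 : F) ∈ C := by
    refine ⟨by rw [one_smul, hab], c * 1 ^ 2, ?_⟩
    rw [← pair_eq hab, one_smul, hneg]
    exact H.mul_mem hab' hb
  have hCT : ∀ μ ∈ C, μ * φ ^ 2 ∈ C := by
    intro μ hμ
    have h1 := hYconj _ hb htba _ (hYconj _ hy htya _ hμ)
    have h3 := hYconj _ hy htya _ (hYconj _ hb htba _ hμ)
    rw [hsm, hsm, hty, smul_add, hbb, hsm, htb] at h1
    rw [hsm, hsm, hbb, hty] at h3
    have h4 := Y.sub_mem h1 h3
    show (μ * φ ^ 2) • b ∈ Y
    convert h4 using 1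
    module
  have hCall : ∀ μ, μ ∈ C := by
    intro μ
    obtain ⟨z, hz⟩ := FiniteField.isSquare_of_char_two (ringChar.eq F 2) μ
    rcases eq_or_ne z 0 with rfl | hz0
    · rw [hz, mul_zero]; exact C.zero_mem
    obtain ⟨k, hk⟩ := hgen z hz0
    have hpow : ∀ k : ℕ, (φ ^ k) ^ 2 ∈ C := by
      intro k
      induction k with
      | zero => simpa using hC1
      | succ k ihk =>
        have := hCT _ ihk
        rwa [show (φ ^ k) ^ 2 * φ ^ 2 = (φ ^ (k + 1)) ^ 2 by ring] at this
    rw [hz, ← sq, ← hk]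
    exact hpow k
  -- the elements attached to `y`
  have hZy : ∀ ν : F, Z a c (ν • y) (c * ν ^ 2) ∈ H := by
    intro ν
    obtain ⟨h, e, he⟩ := hCall (ν / φ)
    have h1 := conj_mem_transv he hy
    have hgy : Z a c ((ν / φ) • b) e • y = ν • a + y := by
      rw [Z_smul _ _ h, form_eq_zero_comm.1 hay, mul_zero, zero_smul, add_zero, mul_zero,
        add_zero, form_smul_right, add_comm (ν • a),
        show c * (ν / φ * sympForm n F y b) = (ν / φ) * φ by ring, div_mul_cancel₀ _ hφ]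
    rw [hgy] at h1
    rw [← pair_eq hay, hneg]
    exact H.mul_mem h1 hy
  have hZshift : ∀ g ∈ H, g • a = a → ∀ ρ ν : F, g • y = y + ρ • b →
      Z a c ((ν * ρ) • b) (c ^ 2 * (ν ^ 2 * ρ * sympForm n F y b)) ∈ H := by
    intro g hg hga ρ ν hgy
    have h1 : Z a c (g • (ν • y)) (c * ν ^ 2) ∈ H := by
      rw [← Z_conj hga]
      exact H.mul_mem (H.mul_mem hg (hZy ν)) (H.inv_mem hg)
    have h3 : sympForm n F a (ν • y) = 0 := by rw [form_smul_right, hay, mul_zero]
    have h4 : sympForm n F a (g • (ν • y)) = 0 := by rw [← hga, form_map, h3]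
    have h5 := H.mul_mem h1 (hZy ν)
    rw [Z_mul c _ _ h4 h3, hsm, hgy] at h5
    convert h5 using 2
    · linear_combination (norm := module) -(congrArg (fun z : F => z • (ν • y)) h2)
    · simp only [form_smul_left, form_smul_right, form_add_right, form_self]
      linear_combination -(c * ν ^ 2) * h2
  have hZb : ∀ κ : F, Z a c (κ • b) (c * κ ^ 2) ∈ H := by
    intro κ
    have h1 := hZshift _ hb htba φ (κ / φ) htb
    rw [div_mul_cancel₀ _ hφ] at h1
    convert h1 using 2
    rw [show c ^ 2 * ((κ / φ) ^ 2 * φ * sympForm n F y b) =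
      c * ((κ / φ) ^ 2 * φ * (c * sympForm n F y b)) by ring, ← hφd]
    field_simp
  -- the symmetric element
  set P := Z a c (l • b) (c * l ^ 2) * (u * Z a c (l • b) (c * l ^ 2) * u⁻¹) with hP
  have hPH : P ∈ H := H.mul_mem (hZb l) (H.mul_mem (H.mul_mem hu (hZb l)) (H.inv_mem hu))
  have hlb : sympForm n F a (l • b) = 0 := by rw [form_smul_right, hab, mul_zero]
  have hba : sympForm n F b a = 0 := form_eq_zero_comm.1 hab
  have hya : sympForm n F y a = 0 := form_eq_zero_comm.1 hay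
  have hu' : u * Z a c (l • b) (c * l ^ 2) * u⁻¹ = transv (l • b + a) c * transv a c := by
    rw [← pair_eq hab, show u * (transv (l • a + b) c * transv b (-c)) * u⁻¹ =
      (u * transv (l • a + b) c * u⁻¹) * (u * transv b (-c) * u⁻¹) by group, transv_conj,
      transv_conj, smul_add, hsm, hua, hub, hneg]
  have hPy : P • y = y + (φ * l ^ 2) • b := by
    rw [hP, hu', mul_smul, mul_smul]
    simp only [transv_smul, Z_smul _ _ hlb, form_add_left, form_add_right, form_smul_left,
      form_smul_right, form_self, hya, hab, hba, mul_zero, add_zero, zero_add, zero_smul]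
    linear_combination (norm := module) (congrArg (fun z : F => z • ((φ * l) • a)) h2)
  have hPa : P • a = a := by
    rw [hP, hu', mul_smul, mul_smul]
    simp only [transv_smul, Z_smul _ _ hlb, form_add_left, form_add_right, form_smul_left,
      form_smul_right, form_self, hab, mul_zero, add_zero, zero_smul]
  -- conclusion
  have hd : c * φ ^ 2 * (l ^ 2 + l ^ 4) ≠ 0 := by
    refine mul_ne_zero (mul_ne_zero hc (pow_ne_zero 2 hφ)) ?_
    rw [show l ^ 2 + l ^ 4 = (l * (1 + l)) ^ 2 by linear_combination (-l ^ 3) * h2]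
    refine pow_ne_zero 2 (mul_ne_zero hl0 fun h => hl1 ?_)
    linear_combination h - h2
  obtain ⟨ν, hν⟩ := FiniteField.isSquare_of_char_two (ringChar.eq F 2) (t / (c * φ ^ 2 * (l ^ 2 + l ^ 4)))
  have h1 := hZshift _ hPH hPa (φ * l ^ 2) ν hPy
  have h3 := H.mul_mem h1 (hZb (ν * (φ * l ^ 2)))
  have hk : sympForm n F a ((ν * (φ * l ^ 2)) • b) = 0 := by rw [form_smul_right, hab, mul_zero]
  rw [Z_mul c _ _ hk hk, form_self, mul_zero, add_zero] at h3
  have hvv : (ν * (φ * l ^ 2)) • b + (ν * (φ * l ^ 2)) • b = 0 := by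
    rw [← add_smul, CharTwo.add_self_eq_zero, zero_smul]
  rw [hvv, Z_zero] at h3
  convert h3 using 2
  rw [(eq_div_iff hd).1 hν.symm |>.symm, hφd]
  ring

theorem eq_top_two [Finite F] [CharP F 2] {H : Subgroup (symplecticGroup (Fin 2) F)} {δ : F}
    (hδ : δ ≠ 0) (hu : uel 2 F ∈ H) (hw : wel 2 hδ hδ ∈ H) {c : F} (hc0 : c ≠ 0)
    (hc : transv (Sum.elim (e 2 F 0) (0 : Fin 2 → F)) c ∈ H)
    (hgen : ∀ z : F, z ≠ 0 → ∃ k : ℕ, (c * (δ⁻¹) ^ 2) ^ k = z)
    {l : F} (hl0 : l ≠ 0) (hl1 : l ≠ 1) : H = ⊤ := by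
  have h2 : (2 : F) = 0 := CharTwo.two_eq_zero
  set a : Fin 2 ⊕ Fin 2 → F := Sum.elim (e 2 F 0 + e 2 F 1) (0 : Fin 2 → F) with ha
  set b : Fin 2 ⊕ Fin 2 → F := Sum.elim (e 2 F 1) (0 : Fin 2 → F) with hb
  set y := wel 2 hδ hδ • b with hy
  have hwe : wel 2 hδ hδ • Sum.elim (e 2 F 0) (0 : Fin 2 → F) = a := by
    rw [wel_smul_inl le_rfl, D_e hδ hδ (by omega), if_pos rfl, div_self hδ, one_smul, ha]
    congr 1
    simp [e]
  have hub : uel 2 F • b = a := by
    rw [hb, uel_smul_inl, A_e_succ (j := 0) (by omega), ha, add_comm]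
  have hua : uel 2 F • a = b := by
    rw [ha, uel_smul_inl, Matrix.mulVec_add, A_e_zero (by omega), A_e_succ (j := 0) (by omega), hb]
    congr 1
    linear_combination (norm := module) (congrArg (fun z : F => z • e 2 F 0) h2)
  have hab : sympForm 2 F a b = 0 := by rw [ha, hb, form_pair]; simp
  have hbe : a + b = Sum.elim (e 2 F 0) (0 : Fin 2 → F) := by
    rw [ha, hb, elim_add, add_zero]
    congr 1
    linear_combination (norm := module) (congrArg (fun z : F => z • e 2 F 1) h2)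
  have hey : sympForm 2 F (Sum.elim (e 2 F 0) (0 : Fin 2 → F)) b = 0 := by rw [hb, form_pair]; simp
  have hay : sympForm 2 F a y = 0 := by rw [hy, ← hwe, form_map]; exact hey
  have hyb : sympForm 2 F y b = (δ⁻¹) ^ 2 := by
    rw [hy, hb, wel_smul_inl le_rfl, form_pair, dotProduct_zero, sub_zero]
    simp [dotProduct, Fin.sum_univ_two, e, mulVec_e _ (show 1 < 2 by omega), Emat, Bmat, dvec,
      Matrix.mul_diagonal, Matrix.diagonal_mul, hδ]
  have hta : transv a c ∈ H := hwe ▸ conj_mem_transv hw hc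
  have htb : transv b c ∈ H := hua ▸ conj_mem_transv hu hta
  have hty : transv y c ∈ H := conj_mem_transv hw htb
  refine eq_top_of_first le_rfl hδ hδ hu hw fun t => ?_
  have h1 := root_group_two hu hua hub hab hay hc0
    (by rw [hyb]; exact mul_ne_zero hc0 (pow_ne_zero 2 (inv_ne_zero hδ)))
    (by rw [hyb]; exact hgen) hl0 hl1 hta htb hty (by rw [hbe]; exact hc) t
  have h3 := conj_mem_transv (H.inv_mem hw) h1
  rwa [← hwe, inv_smul_smul] at h3

end gen

/-! ### The conjugating elements -/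

theorem conj_sieg {S : Matrix (Fin n) (Fin n) F} (hS : Sᵀ = S) (c : F)
    (h : S = c • q (e n F 0) + Amat n F * S * (Amat n F)ᵀ) :
    sieg S hS * uel n F * (sieg S hS)⁻¹ * (uel n F)⁻¹ = transv (Sum.elim (e n F 0) 0) c := by
  rw [mul_inv_eq_iff_eq_mul, mul_inv_eq_iff_eq_mul, mul_assoc _ (uel n F), uel_sieg, ← mul_assoc,
    transv_inl, sieg_mul]
  congr 1
  exact Subtype.ext (by simp only [sieg]; rw [← h])

theorem exists_g (hn : 2 ≤ n) (hcase : (2 : F) ≠ 0 ∨ 3 ≤ n) :
    ∃ (g : symplecticGroup (Fin n) F) (c : F), c ≠ 0 ∧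
      g * uel n F * g⁻¹ * (uel n F)⁻¹ = transv (Sum.elim (e n F 0) 0) c := by
  have hA0 := A_e_zero (F := F) (n := n) (by omega)
  have hA1 := A_e_succ (F := F) (n := n) (j := 0) (by omega)
  by_cases h2 : (2 : F) = 0
  · have hn3 := hcase.resolve_left (fun h => h h2)
    have hA2 := A_e_succ (F := F) (n := n) (j := 1) (by omega)
    refine ⟨sieg (q (e n F 1) + bil (e n F 0) (e n F 2)) ?_, -1, neg_ne_zero.2 one_ne_zero,
      conj_sieg _ _ ?_⟩
    · rw [Matrix.transpose_add, q_transpose, bil_transpose]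
    · rw [Matrix.mul_add, Matrix.add_mul, conj_q, conj_bil, hA0, hA1, hA2]
      ext i j
      simp [q, bil, vecMulVec_apply]
      linear_combination (-(e n F 0 i * e n F 1 j) - e n F 1 i * e n F 0 j) * h2
  · refine ⟨sieg (bil (e n F 0) (e n F 1)) (bil_transpose _ _), -2, neg_ne_zero.2 h2,
      conj_sieg _ _ ?_⟩
    rw [conj_bil, hA0, hA1]
    ext i j
    simp [q, bil, vecMulVec_apply]
    ring

theorem exists_g_two {r : F} (hr0 : r ≠ 0) (hr1 : r ≠ 1) :
    ∃ (g : symplecticGroup (Fin 2) F) (c : F), c ≠ 0 ∧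
      g * uel 2 F * g⁻¹ * (uel 2 F)⁻¹ = transv (Sum.elim (e 2 F 0) (0 : Fin 2 → F)) c := by
  have hQ : !![1, r; (0 : F), 1] * !![1, -r; (0 : F), 1] = 1 := by
    ext i j; fin_cases i <;> fin_cases j <;> simp [Matrix.mul_apply, Fin.sum_univ_two]
  have hS : (r • q (e 2 F 1))ᵀ = r • q (e 2 F 1) := smul_q_transpose _ _
  refine ⟨sieg (r • q (e 2 F 1)) hS * levi _ _ hQ, r ^ 2 - r, ?_, ?_⟩
  · rw [sq, ← mul_sub_one]; exact mul_ne_zero hr0 (sub_ne_zero.2 hr1)
  rw [mul_inv_eq_iff_eq_mul, mul_inv_eq_iff_eq_mul, transv_inl, uel, transv_inl]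
  refine Subtype.ext ?_
  simp only [Submonoid.coe_mul, sieg, levi, fromBlocks_multiply]
  ext i j
  rcases i with i | i <;> rcases j with j | j <;> fin_cases i <;> fin_cases j <;>
    simp [Matrix.mul_apply, Fin.sum_univ_two, Amat, Bmat, q, e, vecMulVec_apply, Matrix.vecHead,
      Matrix.vecTail, Matrix.of_apply, Matrix.vecMul, dotProduct] <;> ring

/-- Generation of `Sp(2n, q)` by three conjugate regular unipotent elements. -/
theorem main [Fintype F] (hn : 2 ≤ n) (h22 : ¬ (n = 2 ∧ Fintype.card F = 2)) :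
    ∃ u g h : symplecticGroup (Fin n) F,
      IsNilpotent ((u : Matrix (Fin n ⊕ Fin n) (Fin n ⊕ Fin n) F) - 1) ∧
      ((u : Matrix (Fin n ⊕ Fin n) (Fin n ⊕ Fin n) F) - 1) ^ (2 * n - 1) ≠ 0 ∧
      Subgroup.closure ({u, g * u * g⁻¹, h * u * h⁻¹} : Set (symplecticGroup (Fin n) F)) = ⊤ := by
  classical
  obtain ⟨ξ, hξ⟩ := IsCyclic.exists_generator (α := Fˣ)
  have hgen : ∀ y : F, y ≠ 0 → ∃ k : ℕ, (ξ : F) ^ k = y := by
    intro y hy
    obtain ⟨k, hk⟩ := mem_powers_iff_mem_zpowers.mpr (hξ (Units.mk0 y hy))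
    exact ⟨k, by simpa using congrArg Units.val hk⟩
  obtain ⟨hreg1, hreg2⟩ := uel_regular (F := F) (n := n) (by omega)
  have memH : ∀ (g h : symplecticGroup (Fin n) F),
      let H := Subgroup.closure ({uel n F, g * uel n F * g⁻¹, h * uel n F * h⁻¹} : Set _)
      uel n F ∈ H ∧ g * uel n F * g⁻¹ * (uel n F)⁻¹ ∈ H ∧ h * (uel n F)⁻¹ * h⁻¹ ∈ H := by
    intro g h H
    have h1 : uel n F ∈ H := Subgroup.subset_closure (by simp)
    refine ⟨h1, H.mul_mem (Subgroup.subset_closure (by simp)) (H.inv_mem h1), ?_⟩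
    rw [show h * (uel n F)⁻¹ * h⁻¹ = (h * uel n F * h⁻¹)⁻¹ by group]
    exact H.inv_mem (Subgroup.subset_closure (by simp))
  by_cases hcase : (2 : F) ≠ 0 ∨ 3 ≤ n
  · obtain ⟨g, c, hc0, hg⟩ := exists_g hn hcase
    refine ⟨uel n F, g, hel n one_ne_zero ξ.ne_zero, hreg1, hreg2, ?_⟩
    obtain ⟨m1, m2, m3⟩ := memH g (hel n one_ne_zero ξ.ne_zero)
    exact eq_top_general hn hcase ξ.ne_zero hgen m1 m3 hc0 (hg ▸ m2)
  · rw [not_or, not_not, not_le] at hcase
    obtain rfl : n = 2 := by omega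
    haveI : CharP F 2 := CharTwo.of_one_ne_zero_of_two_eq_zero one_ne_zero hcase.1
    have hcard : 2 < Fintype.card F := by
      have := Fintype.one_lt_card (α := F)
      omega
    obtain ⟨r, hr0, hr1⟩ : ∃ r : F, r ≠ 0 ∧ r ≠ 1 := by
      by_contra hne
      push Not at hne
      have : (Finset.univ : Finset F) ⊆ {0, 1} := by
        intro x _
        by_cases hx : x = 0
        · simp [hx]
        · simp [hne x hx]
      have := Finset.card_le_card this
      have := Finset.card_le_two (a := (0 : F)) (b := 1)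
      rw [Finset.card_univ] at *
      omega
    obtain ⟨g, c, hc0, hg⟩ := exists_g_two hr0 hr1
    obtain ⟨δ, hδ'⟩ := FiniteField.isSquare_of_char_two (ringChar.eq F 2) (c / (ξ : F))
    have hδ : δ ≠ 0 := by
      rintro rfl
      rw [mul_zero] at hδ'
      exact div_ne_zero hc0 ξ.ne_zero hδ'
    have hφ : c * (δ⁻¹) ^ 2 = ξ := by
      rw [inv_pow, sq, ← hδ', inv_div, mul_div_cancel₀ _ hc0]
    refine ⟨uel 2 F, g, hel 2 hδ hδ, hreg1, hreg2, ?_⟩
    obtain ⟨m1, m2, m3⟩ := memH g (hel 2 hδ hδ)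
    exact eq_top_two hδ m1 m3 hc0 (hg ▸ m2) (by rw [hφ]; exact hgen) hr0 hr1

end Cfsg.Agent.SymplecticThreeRegular87
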