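import Mathlib
import Cfsg.Prelude.Def_LieClassical
import Cfsg.Agent.Lib.SymplecticBasic
import Cfsg.Agent.Lib.HermitianFactor
import Cfsg.Agent.Lib.OrthUnitaryHerm

/-!
The centraliser of a fixed-point-free element of order three in a symplectic group over a field
with `q ≡ 2 (mod 3)` elements is a unitary group.
-/

set_option autoImplicit false

open Matrix Polynomial Cfsg.Agent.SymplecticBasic

namespace Cfsg.Agent.SymplecticUnitaryCentralizer

variable {F : Type*} [Field F] [Fintype F] {q m : ℕ}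

theorem irreducible_phi (hF : Fintype.card F = q) (hq : q % 3 = 2) :
    (X ^ 2 + X + 1 : F[X]).Monic ∧ Irreducible (X ^ 2 + X + 1 : F[X]) := by
  have hm : (X ^ 2 + X + 1 : F[X]).Monic := by monicity!
  refine ⟨hm, ?_⟩
  have hd : (X ^ 2 + X + 1 : F[X]).natDegree = 2 := by compute_degree!
  rw [irreducible_iff_roots_eq_zero_of_degree_le_three (by omega) (by omega), Multiset.eq_zero_iff_forall_notMem]
  intro a ha
  rw [mem_roots hm.ne_zero, IsRoot.def, eval_add, eval_add, eval_pow, eval_X, eval_one] at ha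
  have ha0 : a ≠ 0 := fun h => by simp [h] at ha
  have h3 : a ^ 3 = 1 := by linear_combination (a - 1) * ha
  by_cases h1 : a = 1
  · subst h1
    have h30 : ((3 : ℕ) : F) = 0 := by push_cast; linear_combination ha
    obtain ⟨p, hc⟩ := CharP.exists F
    obtain ⟨n, hp, hn⟩ := FiniteField.card F p
    have hp3 : p = 3 := (Nat.prime_dvd_prime_iff_eq hp Nat.prime_three).1 ((CharP.cast_eq_zero_iff F p 3).1 h30)
    subst hp3
    have h3q : 3 ∣ q := hF ▸ hn ▸ dvd_pow_self 3 n.pos.ne'
    omega
  · haveI : Fact (Nat.Prime 3) := ⟨Nat.prime_three⟩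
    have ho : orderOf a = 3 := orderOf_eq_prime h3 h1
    have hd : 3 ∣ q - 1 := by
      rw [← hF, ← ho]
      exact orderOf_dvd_of_pow_eq_one (FiniteField.pow_card_sub_one_eq_one a ha0)
    omega

theorem card_centralizer (hF : Fintype.card F = q) (hq : q % 3 = 2)
    (x : symplecticGroup (Fin m) F)
    (hx : (x.1 : Matrix (Fin m ⊕ Fin m) (Fin m ⊕ Fin m) F) * x.1 + x.1 + 1 = 0) :
    Nat.card ↥(Subgroup.centralizer ({x} : Set (symplecticGroup (Fin m) F))) =
      q ^ (m * (m - 1) / 2) *
        ∏ i ∈ Finset.range m, (if Even i then q ^ (i + 1) + 1 else q ^ (i + 1) - 1) := by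
  classical
  obtain ⟨hm, hirr⟩ := irreducible_phi hF hq
  set φ : F[X] := X ^ 2 + X + 1 with hφ
  haveI := Fact.mk hirr
  let K := AdjoinRoot φ
  haveI : Module.Finite F K := hm.finite_adjoinRoot
  haveI : Finite K := Module.finite_of_finite F
  letI : Fintype K := Fintype.ofFinite K
  have hdim : Module.finrank F K = 2 := by
    rw [(AdjoinRoot.powerBasis' hm).finrank]
    show φ.natDegree = 2
    rw [hφ]; compute_degree!
  have hK : Fintype.card K = q ^ 2 := by rw [Module.card_eq_pow_finrank (K := F), hdim, hF]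
  set ω : K := AdjoinRoot.root φ with hωdef
  have hω : ω ^ 2 + ω + 1 = 0 := by
    have := AdjoinRoot.mk_self (f := φ)
    simpa [hφ, hωdef] using this
  have hω3 : ω ^ 3 = 1 := by linear_combination (ω - 1) * hω
  obtain ⟨σ, hσq, hσσ, c, hc⟩ := HermitianFactor.exists_conjugation hK
  have hσF : ∀ a : F, σ (algebraMap F K a) = algebraMap F K a := fun a => by
    rw [hσq, ← map_pow, ← hF, FiniteField.pow_card]
  have hσω : σ ω = ω ^ 2 := by
    rw [hσq, show q = 3 * (q / 3) + 2 by omega, pow_add, pow_mul, hω3, one_pow, one_mul]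
  have hne : ω - ω ^ 2 ≠ 0 := fun h => by
    have h1 : ω ≠ 0 := fun h0 => by rw [h0] at hω3; simp at hω3
    refine hc ?_
    have hω1 : σ ω = ω := by rw [hσω, ← sub_eq_zero.1 h]
    obtain ⟨d, rfl⟩ := AdjoinRoot.mk_surjective c
    rw [← AdjoinRoot.aeval_eq, aeval_eq_sum_range, map_sum]
    refine Finset.sum_congr rfl fun i _ => ?_
    rw [Algebra.smul_def, map_mul, map_pow, hσF, ← hωdef, hω1]
  let E := Module.End F (Fin m ⊕ Fin m → F)
  have hzero : aeval (Matrix.toLin' x.1 : E) φ = 0 := by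
    rw [hφ, map_add, map_add, map_pow, aeval_X, map_one, pow_two,
      show (Matrix.toLin' x.1 * Matrix.toLin' x.1 : E) = Matrix.toLin' (x.1 * x.1) from
        (Matrix.toLin'_mul _ _).symm,
      show (1 : E) = Matrix.toLin' (1 : Matrix (Fin m ⊕ Fin m) (Fin m ⊕ Fin m) F) from
        Matrix.toLin'_one.symm, ← map_add, ← map_add, hx, map_zero]
  let ψ : K →ₐ[F] E := Ideal.Quotient.liftₐ (Ideal.span {φ}) (aeval (Matrix.toLin' x.1 : E)) fun d hd => by
    obtain ⟨e, rfl⟩ := Ideal.mem_span_singleton'.1 hd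
    rw [map_mul, hzero, mul_zero]
  have hψ : ∀ d, ψ (AdjoinRoot.mk φ d) = aeval (Matrix.toLin' x.1 : E) d := fun _ => rfl
  letI : Module K (Fin m ⊕ Fin m → F) := Module.compHom _ (ψ : K →+* E)
  have hsmul : ∀ (k : K) (v : Fin m ⊕ Fin m → F), k • v = ψ k v := fun _ _ => rfl
  have hωv : ∀ v : Fin m ⊕ Fin m → F, ω • v = x.1 *ᵥ v := fun v => by
    rw [hsmul, hωdef, ← AdjoinRoot.mk_X, hψ, aeval_X, Matrix.toLin'_apply]
  haveI : IsScalarTower F K (Fin m ⊕ Fin m → F) := ⟨fun a k v => by
    rw [hsmul, hsmul, map_smul, LinearMap.smul_apply]⟩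
  haveI : Module.Finite K (Fin m ⊕ Fin m → F) := Module.Finite.of_restrictScalars_finite F K _
  have hdimV : Module.finrank K (Fin m ⊕ Fin m → F) = m := by
    have := Module.finrank_mul_finrank F K (Fin m ⊕ Fin m → F)
    rw [hdim, show Module.finrank F (Fin m ⊕ Fin m → F) = 2 * m by simp [two_mul]] at this
    omega
  let b := Module.finBasisOfFinrankEq K (Fin m ⊕ Fin m → F) hdimV
  let f := fun u v : Fin m ⊕ Fin m → F => algebraMap F K (sympForm m F u v)
  let h := fun u v : Fin m ⊕ Fin m → F => f (ω • u) v - ω ^ 2 * f u v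
  have hinv : ∀ u v : Fin m ⊕ Fin m → F, f (ω • u) (ω • v) = f u v := fun u v => by
    simp only [f, hωv, mem_sp_iff_form.1 x.2]
  have hrel : ∀ u : Fin m ⊕ Fin m → F, ω • ω • u = -(ω • u) - u := fun u => by
    rw [smul_smul, ← pow_two, show ω ^ 2 = -ω - 1 by linear_combination hω, sub_smul, neg_smul, one_smul]
  have fadd : ∀ u u' v, f (u + u') v = f u v + f u' v := fun u u' v => by
    simp [f, form_add_left]
  have fneg : ∀ u v, f v u = - f u v := fun u v => by simp [f, form_swap u v]
  have fsmul : ∀ (a : F) u v, f (a • u) v = algebraMap F K a * f u v := fun a u v => by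
    simp [f, form_smul_left]
  have fsub : ∀ u u' v, f (-u - u') v = - f u v - f u' v := fun u u' v => by
    have h1 := fadd (-u - u') (u + u') v
    rw [show (-u - u') + (u + u') = 0 by abel, fadd u u' v] at h1
    have h0 : f 0 v = 0 := by simp [f]
    rw [h0] at h1
    linear_combination -h1
  have hhω : ∀ u v, h (ω • u) v = ω * h u v := fun u v => by
    simp only [h, hrel, fsub]
    linear_combination (- f (ω • u) v) * hω + (f u v) * hω3
  have hherm : ∀ u v, h v u = σ (h u v) := fun u v => by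
    have e1 : f (ω • v) u = f (ω • u) v + f u v := by
      have := hinv (ω • u) v
      rw [hrel, fsub, hinv] at this
      rw [fneg u (ω • v)]
      linear_combination this
    have e2 : σ (h u v) = f (ω • u) v - ω * f u v := by
      simp only [h, f, map_sub, map_mul, map_pow, hσF, hσω]
      linear_combination (- f u v * ω) * hω3
    rw [e2]
    simp only [h, e1, fneg u v]
    linear_combination (f u v) * hω
  have hadd : ∀ u u' v, h (u + u') v = h u v + h u' v := fun u u' v => by
    simp only [h, smul_add, fadd]; ring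
  have hF' : ∀ (a : F) u v, h (a • u) v = algebraMap F K a * h u v := fun a u v => by
    simp only [h, smul_comm ω a u, fsmul]; ring
  have hlin : ∀ (k : K) u v, h (k • u) v = k * h u v := by
    intro k u v
    obtain ⟨d, rfl⟩ := AdjoinRoot.mk_surjective k
    induction d using Polynomial.induction_on generalizing u with
    | C a => rw [AdjoinRoot.mk_C, ← AdjoinRoot.algebraMap_eq, algebraMap_smul, hF']
    | add a b ha hb => rw [map_add, add_smul, hadd, ha, hb, add_mul]
    | monomial n a ih =>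
      rw [pow_succ, ← mul_assoc, map_mul, AdjoinRoot.mk_X, mul_smul, ih, hhω, ← hωdef]; ring
  have hlin' : ∀ (k : K) u v, h u (k • v) = σ k * h u v := fun k u v => by
    rw [hherm (k • v) u, hlin, map_mul, ← hherm v u]
  have hadd' : ∀ u v v', h u (v + v') = h u v + h u v' := fun u v v' => by
    rw [hherm (v + v') u, hadd, map_add, ← hherm v u, ← hherm v' u]
  let hB : (Fin m ⊕ Fin m → F) →ₗ[K] (Fin m ⊕ Fin m → F) →ₛₗ[σ] K :=
    LinearMap.mk₂'ₛₗ (RingHom.id K) σ h (fun a b c => hadd a b c) (fun k a b => hlin k a b) hadd'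
      (fun k a b => hlin' k a b)
  let H : Matrix (Fin m) (Fin m) K := Matrix.of fun i j => h (b i) (b j)
  have hexp : ∀ u v, h u v = ∑ i, ∑ j, b.repr u i * σ (b.repr v j) * H i j := fun u v => by
    show hB u v = _
    conv_lhs => rw [← b.sum_repr u, ← b.sum_repr v]
    simp only [map_sum, map_smul, LinearMap.sum_apply, LinearMap.smul_apply, map_smulₛₗ,
      smul_eq_mul, Finset.mul_sum]
    rw [Finset.sum_comm]
    refine Finset.sum_congr rfl fun i _ => Finset.sum_congr rfl fun j _ => ?_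
    simp [hB, H]; ring
  have hHfix : HermitianFactor.ct σ H = H := by
    ext i j
    simp only [HermitianFactor.ct, Matrix.transpose_apply, Matrix.map_apply, H, Matrix.of_apply]
    exact (hherm _ _).symm
  have hdiff : ∀ u v, h u v - σ (h u v) = (ω - ω ^ 2) * f u v := fun u v => by
    simp only [h, f, map_sub, map_mul, map_pow, hσF, hσω]
    linear_combination (ω * algebraMap F K (sympForm m F u v)) * hω3
  have hnondeg : ∀ u, (∀ v, h u v = 0) → u = 0 := fun u hu => by
    refine form_nondeg fun v => ?_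
    have := hdiff u v
    rw [hu v, map_zero, sub_zero] at this
    exact (algebraMap F K).injective (((mul_eq_zero.1 this.symm).resolve_left hne).trans (map_zero _).symm)
  have hHu : IsUnit H := by
    refine Matrix.vecMul_injective_iff_isUnit.1 fun a a' haa => ?_
    have hz : ∀ v, h (b.equivFun.symm (a - a')) v = 0 := fun v => by
      rw [hexp, Finset.sum_comm]
      refine Finset.sum_eq_zero fun j _ => ?_
      have := congrFun (show (a - a') ᵥ* H = 0 by rw [Matrix.sub_vecMul, sub_eq_zero]; exact haa) j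
      simp only [← b.equivFun_apply, LinearEquiv.apply_symm_apply]
      simp only [Matrix.vecMul, dotProduct, Pi.zero_apply] at this
      calc ∑ i, (a - a') i * σ (b.equivFun v j) * H i j
          = σ (b.equivFun v j) * ∑ i, (a - a') i * H i j := by
            rw [Finset.mul_sum]; exact Finset.sum_congr rfl fun i _ => by ring
        _ = 0 := by rw [this, mul_zero]
    exact sub_eq_zero.1 (b.equivFun.symm.map_eq_zero_iff.1 (hnondeg _ hz))
  obtain ⟨s, -, hsu, hs⟩ := HermitianFactor.exists_factor hσσ c hc hHu hHfix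
  have hsu' : IsUnit (s.map σ) := hsu.map σ.mapMatrix
  obtain ⟨s', hs'⟩ := hsu'
  let ι : (Fin m ⊕ Fin m → F) ≃ₗ[K] (Fin m → K) := b.equivFun.trans
    (LinearEquiv.ofBijective (Matrix.toLin' (s.map σ))
      ⟨Matrix.mulVec_injective_iff_isUnit.2 ⟨s', hs'⟩, Matrix.mulVec_surjective_iff_isUnit.2 ⟨s', hs'⟩⟩)
  have hι : ∀ u v, h u v = Cfsg.hermForm m K q (ι u) (ι v) := fun u v => by
    have e : Cfsg.hermForm m K q (ι u) (ι v) = (s.map σ *ᵥ b.equivFun u) ⬝ᵥ (s *ᵥ fun j => σ (b.equivFun v j)) := by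
      simp only [Cfsg.hermForm, dotProduct]
      refine Finset.sum_congr rfl fun i _ => congrArg₂ (· * ·) rfl ?_
      rw [← hσq]
      show σ ((s.map σ *ᵥ b.equivFun v) i) = _
      simp [Matrix.mulVec, dotProduct, hσσ, map_sum]
    rw [e, ← Matrix.vecMul_transpose, ← Matrix.dotProduct_mulVec, Matrix.mulVec_mulVec,
      show (s.map σ).transpose * s = H from hs, hexp]
    simp only [dotProduct, Matrix.mulVec, Finset.mul_sum, ← b.equivFun_apply]
    exact Finset.sum_congr rfl fun i _ => Finset.sum_congr rfl fun j _ => by ring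
  have key : Nat.card ↥(Subgroup.centralizer ({x} : Set (symplecticGroup (Fin m) F))) =
      Nat.card ↥(Cfsg.GU m K q) := by
    let C := Subgroup.centralizer ({x} : Set (symplecticGroup (Fin m) F))
    have hcomm : ∀ g : C, ∀ v, g.1.1 *ᵥ (x.1 *ᵥ v) = x.1 *ᵥ (g.1.1 *ᵥ v) := fun g v => by
      have hgx : x * g.1 = g.1 * x := Subgroup.mem_centralizer_iff.1 g.2 x rfl
      have h1 : x.1 * g.1.1 = g.1.1 * x.1 := congrArg Subtype.val hgx
      rw [Matrix.mulVec_mulVec, Matrix.mulVec_mulVec, h1]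
    have hK' : ∀ (g : C) (k : K) v, g.1.1 *ᵥ (k • v) = k • (g.1.1 *ᵥ v) := fun g k v => by
      obtain ⟨d, rfl⟩ := AdjoinRoot.mk_surjective k
      induction d using Polynomial.induction_on generalizing v with
      | C a => rw [AdjoinRoot.mk_C, ← AdjoinRoot.algebraMap_eq, algebraMap_smul, algebraMap_smul, Matrix.mulVec_smul]
      | add a b ha hb => rw [map_add, add_smul, add_smul, Matrix.mulVec_add, ha, hb]
      | monomial n a ih =>
        rw [pow_succ, ← mul_assoc, map_mul, AdjoinRoot.mk_X, mul_smul, mul_smul, ih, ← hωdef, hωv, hωv, hcomm]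
    let toK : C → ((Fin m ⊕ Fin m → F) →ₗ[K] (Fin m ⊕ Fin m → F)) := fun g =>
      { toFun := fun v => g.1.1 *ᵥ v
        map_add' := Matrix.mulVec_add _
        map_smul' := fun k v => hK' g k v }
    let Φ : C → Matrix (Fin m) (Fin m) K := fun g =>
      LinearMap.toMatrix' (ι.toLinearMap ∘ₗ toK g ∘ₗ ι.symm.toLinearMap)
    have hΦ : ∀ g v, Φ g *ᵥ ι v = ι (g.1.1 *ᵥ v) := fun g v => by
      rw [← Matrix.toLin'_apply]; simp [Φ, toK]
    have hΦh : ∀ g u v, Cfsg.hermForm m K q (Φ g *ᵥ u) (Φ g *ᵥ v) = Cfsg.hermForm m K q u v := by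
      intro g u v
      obtain ⟨u, rfl⟩ := ι.surjective u
      obtain ⟨v, rfl⟩ := ι.surjective v
      rw [hΦ, hΦ, ← hι, ← hι]
      simp only [h, f, hωv, ← hcomm, mem_sp_iff_form.1 g.1.2]
    have hΦu : ∀ g, IsUnit (Φ g) := fun g => Matrix.mulVec_injective_iff_isUnit.1 fun u v huv => by
      obtain ⟨u, rfl⟩ := ι.surjective u
      obtain ⟨v, rfl⟩ := ι.surjective v
      rw [hΦ, hΦ] at huv
      exact congrArg ι (MulAction.injective g.1 (ι.injective huv))
    let G : C → ↥(Cfsg.GU m K q) := fun g => ⟨(hΦu g).unit, fun u v => hΦh g u v⟩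
    refine Nat.card_eq_of_bijective G ⟨fun g g' hgg => ?_, fun M => ?_⟩
    · have h1 : Φ g = Φ g' := congrArg (fun z : ↥(Cfsg.GU m K q) => (z.1 : Matrix (Fin m) (Fin m) K)) hgg
      refine Subtype.ext (Subtype.ext (Matrix.ext_of_mulVec_single fun i => ?_))
      exact ι.injective (by rw [← hΦ, ← hΦ, h1])
    · let L := ι.symm.toLinearMap ∘ₗ Matrix.toLin' (M.1 : Matrix (Fin m) (Fin m) K) ∘ₗ ι.toLinearMap
      let A := LinearMap.toMatrix' (L.restrictScalars F)
      have hA : ∀ v, A *ᵥ v = ι.symm ((M.1 : Matrix (Fin m) (Fin m) K) *ᵥ ι v) := fun v => by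
        rw [← Matrix.toLin'_apply]; simp [A, L]
      have hAh : ∀ u v, h (A *ᵥ u) (A *ᵥ v) = h u v := fun u v => by
        rw [hA, hA, hι, hι, LinearEquiv.apply_symm_apply, LinearEquiv.apply_symm_apply]
        exact M.2 _ _
      have hAsp : A ∈ symplecticGroup (Fin m) F := mem_sp_iff_form.2 fun u v => by
        refine (algebraMap F K).injective (mul_left_cancel₀ hne ?_)
        rw [← hdiff, ← hdiff, hAh]
      have hAx : (⟨A, hAsp⟩ : symplecticGroup (Fin m) F) ∈ C := by
        refine Subgroup.mem_centralizer_iff.2 fun y hy => ?_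
        rw [Set.mem_singleton_iff.1 hy]
        refine Subtype.ext (Matrix.ext_of_mulVec_single fun i => ?_)
        show (x.1 * A) *ᵥ _ = (A * x.1) *ᵥ _
        rw [← Matrix.mulVec_mulVec, ← Matrix.mulVec_mulVec, hA, hA, ← hωv, ← hωv, map_smul,
          Matrix.mulVec_smul, map_smul]
      refine ⟨⟨_, hAx⟩, Subtype.ext (Units.ext (Matrix.ext_of_mulVec_single fun i => ?_))⟩
      obtain ⟨v, hv⟩ := ι.surjective (Pi.single i 1)
      show Φ ⟨⟨A, hAsp⟩, hAx⟩ *ᵥ _ = _
      rw [← hv, hΦ]
      show ι (A *ᵥ v) = _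
      rw [hA, LinearEquiv.apply_symm_apply]
  rw [key, OrthUnitaryHerm.card_GU hK]

end Cfsg.Agent.SymplecticUnitaryCentralizer
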