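import Cfsg.Agent.Lib.TI85Small

/-!
The case `|C_N(z)| = 2`, `|M| = 2^d + 1`: `G` is an elementary abelian group of order `2^(2d)`
extended by a dihedral group.
-/

set_option autoImplicit false
set_option linter.unusedSectionVars false
set_option linter.style.haveILetI false

namespace Cfsg.Agent.TI85

open Subgroup
open scoped commutatorElement

universe u

variable {G : Type u} [Group G] [Finite G] {M : Subgroup G} {z : G} (hb : Big M z)
include hb

theorem Big.normalizer_dihedral (hh : Nat.card (Hz M z) = 2) (hcyc : IsCyclic M) :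
    Nonempty (Nz M ≃* DihedralGroup (Nat.card M)) := by
  classical
  have hy := hb.toHyp
  set m := Nat.card M with hm
  let ψ : Multiplicative (ZMod m) ≃* M := zmodCyclicMulEquiv hcyc
  set f : ZMod m → G := fun i => ((ψ (Multiplicative.ofAdd i) : M) : G) with hf
  have hfM : ∀ i, f i ∈ M := fun i => (ψ (Multiplicative.ofAdd i)).2
  have hfadd : ∀ i j, f (i + j) = f i * f j := fun i j => by
    simp only [hf, ofAdd_add, map_mul, Subgroup.coe_mul]
  have hfneg : ∀ i, f (-i) = (f i)⁻¹ := fun i => by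
    simp only [hf, ofAdd_neg, map_inv, Subgroup.coe_inv]
  have hfsub : ∀ i j, f (j - i) = (f i)⁻¹ * f j := fun i j => by
    rw [show j - i = -i + j by ring, hfadd, hfneg]
  have hfz : ∀ i, f i * z = z * (f i)⁻¹ := fun i => by
    rw [hy.z_mul (M.inv_mem (hfM i)), inv_inv]
  let φ : DihedralGroup m → Nz M := fun x => match x with
    | DihedralGroup.r i => ⟨f i, Subgroup.le_normalizer (hfM i)⟩
    | DihedralGroup.sr i => ⟨z * f i, (Nz M).mul_mem hy.mem (Subgroup.le_normalizer (hfM i))⟩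
  have hmul : ∀ x y, φ (x * y) = φ x * φ y := by
    rintro (i | i) (j | j)
    · exact Subtype.ext (hfadd i j)
    · refine Subtype.ext ?_
      show z * f (j - i) = f i * (z * f j)
      rw [hfsub, ← mul_assoc (f i), hfz, ← mul_assoc]
    · refine Subtype.ext ?_
      show z * f (i + j) = z * f i * f j
      rw [hfadd, ← mul_assoc]
    · refine Subtype.ext ?_
      show f (j - i) = z * f i * (z * f j)
      rw [hfsub]
      calc (f i)⁻¹ * f j = z * z * ((f i)⁻¹ * f j) := by rw [hy.zz, one_mul]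
        _ = z * (z * (f i)⁻¹) * f j := by group
        _ = z * f i * (z * f j) := by rw [← hfz]; group
  let Φ : DihedralGroup m →* Nz M := MonoidHom.mk' φ hmul
  have hsurj : Function.Surjective Φ := by
    rintro ⟨n, hn⟩
    obtain ⟨x, hx, k, hk, e⟩ := hy.fac n hn
    obtain ⟨i, hi⟩ : ∃ i, f i = x := ⟨Multiplicative.toAdd (ψ.symm ⟨x, hx⟩), by simp [hf]⟩
    rcases hb.H_two hh hk with rfl | rfl
    · refine ⟨DihedralGroup.r i, Subtype.ext ?_⟩
      show f i = n
      rw [hi, ← e, mul_one]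
    · refine ⟨DihedralGroup.sr (-i), Subtype.ext ?_⟩
      show k * f (-i) = n
      rw [hfneg, ← hfz, hi, e]
  have hcard : Nat.card (DihedralGroup m) = Nat.card (Nz M) := by
    rw [hy.card_N, hh, DihedralGroup.nat_card]; ring
  exact ⟨(MulEquiv.ofBijective Φ ((Nat.bijective_iff_surjective_and_card Φ).2 ⟨hsurj, hcard⟩)).symm⟩

theorem Big.affine_case (hh : Nat.card (Hz M z) = 2) {d : ℕ} (hd : 1 ≤ d)
    (hC : Nat.card (Cz z) = 2 * 2 ^ d) (hout : Nat.card (Out M z) = 2 * (2 ^ d - 1))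
    (hm : Nat.card M = 2 ^ d + 1)
    (hG : Nat.card G = 2 * Nat.card M * (1 + Nat.card M * (2 ^ d - 1))) :
    ∃ E : Subgroup G, E.Normal ∧ Cfsg.IsElementaryAbelian 2 E ∧ Nat.card E = 2 ^ (2 * d) ∧
      E ⊓ Nz M = ⊥ ∧ E ⊔ Nz M = ⊤ ∧ Nonempty (Nz M ≃* DihedralGroup (2 ^ d + 1)) := by
  classical
  have hy := hb.toHyp
  have h4 : 2 ^ (2 * d) = 2 ^ d * 2 ^ d := by rw [two_mul, pow_add]
  obtain ⟨c, hc⟩ : ∃ c, 2 ^ d = c + 2 := ⟨2 ^ d - 2, by
    have : 2 ^ 1 ≤ 2 ^ d := Nat.pow_le_pow_right (by norm_num) hd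
    omega⟩
  rw [h4, hc]
  rw [hc] at hC hout hm
  rw [show c + 2 - 1 = c + 1 by omega] at hout
  rw [hc, show c + 2 - 1 = c + 1 by omega, hm] at hG
  have hidx : (Cz z).index = (c + 3) * (c + 2) := by
    have h := (Cz z).index_mul_card
    rw [hC, hG] at h
    apply Nat.eq_of_mul_eq_mul_right (show 0 < 2 * (c + 2) by omega)
    rw [h]
    ring
  -- conjugates of `z`
  set Cl : Set G := {j | ∃ g : G, g * z * g⁻¹ = j} with hCl
  have hClinv : ∀ j ∈ Cl, j * j = 1 ∧ j ≠ 1 := by
    rintro _ ⟨g, rfl⟩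
    refine ⟨?_, fun h => hy.z_ne (conj_eq_one_iff.1 h)⟩
    calc g * z * g⁻¹ * (g * z * g⁻¹) = g * (z * z) * g⁻¹ := by group
      _ = 1 := by rw [hy.zz]; group
  have hClconj : ∀ (g j : G), j ∈ Cl → g * j * g⁻¹ ∈ Cl := by
    rintro g _ ⟨s, rfl⟩
    exact ⟨g * s, by group⟩
  have hNz : ∀ j, j * j = 1 → j ≠ 1 → j ∈ Nz M → j ∈ Cl := by
    intro j h2 h1 hN
    obtain ⟨x, -, e⟩ := hy.invol_N_conj h2 h1 hN
    exact ⟨x, e.symm⟩
  have hClcard : Cl.ncard = (c + 3) * (c + 2) := by
    rw [← hidx, Subgroup.index, ← Nat.card_coe_set_eq]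
    refine (Nat.card_congr (Equiv.ofBijective (fun q : G ⧸ Cz z =>
      (⟨q.out * z * q.out⁻¹, q.out, rfl⟩ : Cl)) ⟨?_, ?_⟩)).symm
    · intro p q e
      have e' : p.out * z * p.out⁻¹ = q.out * z * q.out⁻¹ := congrArg Subtype.val e
      rw [← QuotientGroup.out_eq' p, ← QuotientGroup.out_eq' q]
      refine QuotientGroup.eq.2 (mem_Cz.2 ?_)
      calc z * (p.out⁻¹ * q.out) = p.out⁻¹ * (p.out * z * p.out⁻¹) * q.out := by group
        _ = p.out⁻¹ * q.out * z := by rw [e']; group
    · rintro ⟨_, g, rfl⟩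
      refine ⟨(g : G ⧸ Cz z), Subtype.ext ?_⟩
      obtain ⟨k, hk⟩ := QuotientGroup.mk_out_eq_mul (Cz z) g
      show (g : G ⧸ Cz z).out * z * (g : G ⧸ Cz z).out⁻¹ = g * z * g⁻¹
      rw [hk]
      have hkz : z * (k : G) = k * z := mem_Cz.1 k.2
      calc g * k * z * (g * k)⁻¹ = g * ((k : G) * z) * (k : G)⁻¹ * g⁻¹ := by group
        _ = g * z * g⁻¹ := by rw [← hkz]; group
  -- `W`
  set W : Set G := (Cz z : Set G) ∩ Cl with hW
  have hWcard : W.ncard = c + 2 := by
    have e : Nat.card M * W.ncard = Cl.ncard := by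
      rw [← Nat.card_coe_set_eq, ← Nat.card_coe_set_eq, ← Nat.card_prod]
      refine Nat.card_congr (Equiv.ofBijective (fun p : M × W =>
        (⟨(p.1 : G) * p.2 * (p.1 : G)⁻¹, hClconj _ _ p.2.2.2⟩ : Cl)) ⟨?_, ?_⟩)
      · intro p q e
        obtain ⟨h1, h2⟩ := hb.invol_unique p.1.2 q.1.2 p.2.2.1 (hClinv _ p.2.2.2).1
          (hClinv _ p.2.2.2).2 q.2.2.1 (hClinv _ q.2.2.2).1 (hClinv _ q.2.2.2).2
          (congrArg Subtype.val e)
        exact Prod.ext (Subtype.ext h1) (Subtype.ext h2)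
      · rintro ⟨j, hj⟩
        obtain ⟨x, hx, w, hw, -, -, e⟩ := hb.invol_decomp (hClinv j hj).1 (hClinv j hj).2
        refine ⟨(⟨x, hx⟩, ⟨w, hw, ?_⟩), Subtype.ext e⟩
        rw [← e] at hj
        have := hClconj x⁻¹ _ hj
        convert this using 1
        group
    rw [hClcard, hm] at e
    exact Nat.eq_of_mul_eq_mul_left (by omega) e
  have hzW : z ∈ W := ⟨mem_Cz.2 rfl, 1, by group⟩
  have hCzconj : ∀ (g y : G), y ∈ Cz (g * z * g⁻¹) ↔ g⁻¹ * y * g ∈ Cz z := by
    intro g y
    rw [mem_Cz, mem_Cz]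
    constructor <;> intro h
    · calc z * (g⁻¹ * y * g) = g⁻¹ * (g * z * g⁻¹ * y) * g := by group
        _ = g⁻¹ * y * g * z := by rw [h]; group
    · calc g * z * g⁻¹ * y = g * (z * (g⁻¹ * y * g)) * g⁻¹ := by group
        _ = y * (g * z * g⁻¹) := by rw [h]; group
  have hCW : ∀ w ∈ W, Cz w = Cz z := by
    rintro _ ⟨hwC, g, rfl⟩
    refine (Subgroup.eq_of_le_of_card_ge (fun y hy' => ?_) (le_of_eq ?_)).symm
    · exact mem_Cz.2 (hb.C_comm hh hwC hy')
    · exact Nat.card_congr
        { toFun := fun y => ⟨g⁻¹ * y * g, (hCzconj g y).1 y.2⟩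
          invFun := fun y => ⟨g * y * g⁻¹, (hCzconj g _).2 (by
            have : g⁻¹ * (g * (y : G) * g⁻¹) * g = y := by group
            rw [this]; exact y.2)⟩
          left_inv := fun y => Subtype.ext (by simp [mul_assoc])
          right_inv := fun y => Subtype.ext (by simp [mul_assoc]) }
  -- the normalizer of `C(z)` is a `2`-group
  set T : Subgroup G := Subgroup.normalizer (Cz z : Set G) with hT
  have hmemT : ∀ g : G, g ∈ T ↔ g * z * g⁻¹ ∈ W := by
    intro g
    constructor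
    · intro hg
      exact ⟨(Subgroup.mem_normalizer_iff.1 hg z).1 (mem_Cz.2 rfl), g, rfl⟩
    · intro hg
      have e := hCW _ hg
      refine Subgroup.mem_normalizer_iff.2 fun y => ?_
      show y ∈ Cz z ↔ g * y * g⁻¹ ∈ Cz z
      have := hCzconj g (g * y * g⁻¹)
      rw [e, show g⁻¹ * (g * y * g⁻¹) * g = y by group] at this
      exact this.symm
  set C' : Subgroup T := (Cz z).subgroupOf T
  have hCT : Cz z ≤ T := Subgroup.le_normalizer
  have hTp : IsPGroup 2 T := by
    have hC' : Nat.card C' = 2 * (c + 2) := by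
      rw [Nat.card_congr (Subgroup.subgroupOfEquivOfLe hCT).toEquiv, hC]
    have hq : Nat.card (T ⧸ C') = c + 2 := by
      rw [← hWcard, ← Nat.card_coe_set_eq]
      refine Nat.card_congr (Equiv.ofBijective (fun q : T ⧸ C' =>
        (⟨(q.out : G) * z * (q.out : G)⁻¹, (hmemT _).1 q.out.2⟩ : W)) ⟨?_, ?_⟩)
      · intro p q e
        have e' : (p.out : G) * z * (p.out : G)⁻¹ = q.out * z * (q.out : G)⁻¹ :=
          congrArg Subtype.val e
        rw [← QuotientGroup.out_eq' p, ← QuotientGroup.out_eq' q]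
        refine QuotientGroup.eq.2 (Subgroup.mem_subgroupOf.2 (mem_Cz.2 ?_))
        rw [Subgroup.coe_mul, Subgroup.coe_inv]
        calc z * ((p.out : G)⁻¹ * q.out) = (p.out : G)⁻¹ * ((p.out : G) * z * (p.out : G)⁻¹) * q.out := by
              group
          _ = (p.out : G)⁻¹ * q.out * z := by rw [e']; group
      · rintro ⟨w, hw⟩
        obtain ⟨g, rfl⟩ := hw.2
        have hgT : g ∈ T := (hmemT g).2 hw
        refine ⟨((⟨g, hgT⟩ : T) : T ⧸ C'), Subtype.ext ?_⟩
        obtain ⟨k, hk⟩ := QuotientGroup.mk_out_eq_mul C' (⟨g, hgT⟩ : T)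
        show ((((⟨g, hgT⟩ : T) : T ⧸ C').out : T) : G) * z *
          ((((⟨g, hgT⟩ : T) : T ⧸ C').out : T) : G)⁻¹ = g * z * g⁻¹
        rw [hk, Subgroup.coe_mul]
        have hkz : z * ((k : T) : G) = ((k : T) : G) * z := mem_Cz.1 (Subgroup.mem_subgroupOf.1 k.2)
        calc g * ((k : T) : G) * z * (g * ((k : T) : G))⁻¹
            = g * (((k : T) : G) * z) * ((k : T) : G)⁻¹ * g⁻¹ := by group
          _ = g * z * g⁻¹ := by rw [← hkz]; group
    refine IsPGroup.of_card (n := 2 * d + 1) ?_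
    rw [Subgroup.card_eq_card_quotient_mul_card_subgroup C', hq, hC', ← hc, pow_succ, h4]
    ring
  -- the subgroup generated by products of two members of `W`
  set S : Set G := {y | ∃ w ∈ W, ∃ w' ∈ W, y = w * w'}
  set C1 : Subgroup G := Subgroup.closure S
  have hC1C : C1 ≤ Cz z := (Subgroup.closure_le _).2 fun y hy' => by
    obtain ⟨w, hw, w', hw', rfl⟩ := hy'
    exact (Cz z).mul_mem hw.1 hw'.1
  have hC1ne : C1 ≠ Cz z := by
    intro e
    haveI : Fact (Nat.Prime 2) := ⟨Nat.prime_two⟩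
    haveI : Group.IsNilpotent T := hTp.isNilpotent
    obtain ⟨n, hn⟩ := Subgroup.nilpotent_iff_lowerCentralSeries.1 (‹Group.IsNilpotent T›)
    haveI : C'.Normal := Subgroup.normal_subgroupOf_iff_le_normalizer hCT |>.2 le_rfl
    have hstep : C' ≤ ⁅C', (⊤ : Subgroup T)⁆ := by
      intro y hy'
      have hy0 : (y : G) ∈ C1 := e.symm ▸ Subgroup.mem_subgroupOf.1 hy'
      have hle : C1 ≤ (⁅C', (⊤ : Subgroup T)⁆).map T.subtype := by
        refine (Subgroup.closure_le _).2 fun u hu => ?_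
        obtain ⟨w, hw, w', hw', rfl⟩ := hu
        obtain ⟨g, rfl⟩ := hw.2
        obtain ⟨g', rfl⟩ := hw'.2
        have hgT := (hmemT g).2 hw
        have hgT' := (hmemT g').2 hw'
        let zT : T := ⟨z, hCT (mem_Cz.2 rfl)⟩
        have hzC' : zT ∈ C' := Subgroup.mem_subgroupOf.2 (mem_Cz.2 rfl)
        refine ⟨⁅zT, (⟨g, hgT⟩ : T)⁆⁻¹ * ⁅zT, (⟨g', hgT'⟩ : T)⁆,
          Subgroup.mul_mem _ (Subgroup.inv_mem _ (Subgroup.commutator_mem_commutator hzC' trivial))
            (Subgroup.commutator_mem_commutator hzC' trivial), ?_⟩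
        show ((⁅zT, (⟨g, hgT⟩ : T)⁆⁻¹ * ⁅zT, (⟨g', hgT'⟩ : T)⁆ : T) : G) = _
        simp only [commutatorElement_def, Subgroup.coe_mul, Subgroup.coe_inv, zT]
        rw [mul_inv_rev, mul_inv_rev, mul_inv_rev, inv_inv, inv_inv, inv_of_sq hy.zz]
        calc g * (z * (g⁻¹ * z)) * (z * g' * z * g'⁻¹)
            = g * z * g⁻¹ * (z * z) * (g' * z * g'⁻¹) := by group
          _ = g * z * g⁻¹ * (g' * z * g'⁻¹) := by rw [hy.zz, mul_one]
      obtain ⟨y', hy', e'⟩ := hle hy0
      exact (Subtype.ext e' : y' = y) ▸ hy'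
    have hall : ∀ k, C' ≤ Subgroup.lowerCentralSeries (⊤ : Subgroup T) k := by
      intro k
      induction k with
      | zero => exact le_top
      | succ k ih =>
        exact hstep.trans (by rw [Subgroup.lowerCentralSeries_succ]; exact Subgroup.commutator_mono ih le_rfl)
    have := hall n (Subgroup.mem_subgroupOf.2 (show ((⟨z, hCT (mem_Cz.2 rfl)⟩ : T) : G) ∈ Cz z from mem_Cz.2 rfl))
    rw [hn, Subgroup.mem_bot] at this
    exact hy.z_ne (congrArg Subtype.val this)
  have hzC1 : z ∉ C1 := by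
    intro hz
    refine hC1ne (Subgroup.eq_of_le_of_card_ge hC1C ?_)
    have hsub : insert 1 W ⊆ (C1 : Set G) := by
      rintro y (rfl | hy')
      · exact C1.one_mem
      · have : z * (z * y) ∈ C1 := C1.mul_mem hz (Subgroup.subset_closure ⟨z, hzW, y, hy', rfl⟩)
        rwa [← mul_assoc, hy.zz, one_mul] at this
    have h1 := Set.ncard_le_ncard hsub (Set.toFinite _)
    rw [Set.ncard_insert_of_notMem (fun h => (hClinv 1 h.2).2 rfl), hWcard,
      ← Nat.card_coe_set_eq, SetLike.coe_sort_coe] at h1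
    obtain ⟨t, ht⟩ := Subgroup.card_dvd_of_le hC1C
    rw [hC] at ht ⊢
    rcases t with _ | _ | t
    · simp at ht
    · omega
    · have : Nat.card C1 * 2 ≤ Nat.card C1 * (t + 1 + 1) := Nat.mul_le_mul_left _ (by omega)
      omega
  have hWsub : W ⊆ (fun y => z * y) '' (C1 : Set G) := fun w hw =>
    ⟨z * w, Subgroup.subset_closure ⟨z, hzW, w, hw, rfl⟩, by
      show z * (z * w) = w
      rw [← mul_assoc, hy.zz, one_mul]⟩
  have hC1card : Nat.card C1 = c + 2 := by
    have h1 := Set.ncard_le_ncard hWsub (Set.toFinite _)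
    rw [Set.ncard_image_of_injective _ (mul_right_injective z), hWcard, ← Nat.card_coe_set_eq,
      SetLike.coe_sort_coe] at h1
    obtain ⟨t, ht⟩ := Subgroup.card_dvd_of_le hC1C
    rw [hC] at ht
    rcases t with _ | _ | t
    · simp at ht
    · exact absurd (Subgroup.eq_of_le_of_card_ge hC1C (by omega)) hC1ne
    · have : Nat.card C1 * 2 ≤ Nat.card C1 * (t + 1 + 1) := Nat.mul_le_mul_left _ (by omega)
      omega
  have hC1N : ∀ u ∈ C1, u ∈ Nz M → u = 1 := by
    intro u hu hN
    rcases hb.H_two hh ⟨hN, hC1C hu⟩ with h | h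
    · exact h
    · exact absurd (h ▸ hu) hzC1
  -- every conjugate of `z` outside `W` meets a point of `C(z)`
  have hmeet : ∀ v ∈ Cl, v ∉ W → ∃ g ∈ C1, ∃ x ∈ M, x ≠ 1 ∧ g * (x * z * x⁻¹) * g = v := by
    have hsub : ∀ p : C1 × {x : M // x ≠ 1},
        (p.1 : G) * ((p.2.1 : G) * z * (p.2.1 : G)⁻¹) * p.1 ∈ Cl \ W := by
      rintro ⟨g, x, hx1⟩
      have hg2 : (g : G) * g = 1 := hb.C_sq hh (hC1C g.2)
      refine ⟨⟨(g : G) * x, ?_⟩, fun h => hx1 ?_⟩
      · rw [mul_inv_rev, inv_of_sq hg2]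
        group
      · have h' : (x : G) * z * (x : G)⁻¹ ∈ Cz z := by
          have h2 := (Cz z).mul_mem ((Cz z).mul_mem (hC1C g.2) h.1) (hC1C g.2)
          convert h2 using 1
          calc (x : G) * z * (x : G)⁻¹ = (g : G) * g * ((x : G) * z * (x : G)⁻¹) * ((g : G) * g) := by
                rw [hg2, one_mul, mul_one]
            _ = _ := by group
        rw [hy.conj_z x.2] at h'
        have h3 := (Cz z).mul_mem h' (mem_Cz.2 rfl : z ∈ Cz z)
        rw [mul_assoc _ z z, hy.zz, mul_one] at h3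
        exact Subtype.ext (hy.two_free x.2 (hy.M_cap_C (M.mul_mem x.2 x.2) h3))
    let Ψ : C1 × {x : M // x ≠ 1} → (Cl \ W : Set G) := fun p => ⟨_, hsub p⟩
    have hinj : Function.Injective Ψ := by
      rintro ⟨g, x, hx1⟩ ⟨g', x', hx1'⟩ e
      have e' : (g : G) * ((x : G) * z * (x : G)⁻¹) * g = g' * ((x' : G) * z * (x' : G)⁻¹) * g' :=
        congrArg Subtype.val e
      have hg2 : (g : G) * g = 1 := hb.C_sq hh (hC1C g.2)
      have hg2' : (g' : G) * g' = 1 := hb.C_sq hh (hC1C g'.2)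
      set u : G := g' * g with hu
      have huC : u ∈ C1 := C1.mul_mem g'.2 g.2
      have hu2 : u * u = 1 := hb.C_sq hh (hC1C huC)
      have hcomm : (g : G) * g' = u := hb.C_comm hh (hC1C g.2) (hC1C g'.2)
      have e2 : u * ((x : G) * z * (x : G)⁻¹) * u = (x' : G) * z * (x' : G)⁻¹ := by
        calc u * ((x : G) * z * (x : G)⁻¹) * u
            = (g' : G) * ((g : G) * ((x : G) * z * (x : G)⁻¹) * g) * g' := by
              nth_rw 2 [← hcomm]
              rw [hu]; group
          _ = (g' : G) * g' * ((x' : G) * z * (x' : G)⁻¹) * ((g' : G) * g') := by rw [e']; group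
          _ = _ := by rw [hg2', one_mul, mul_one]
      have huN : u ∈ Nz M := by
        by_contra huN
        obtain ⟨hA, -, -⟩ := hb.master huN
        rw [hy.conj_z x.2, hy.conj_z x'.2] at e2
        have h1 : u⁻¹ * ((x' : G) * x') * u ∈ Nz M := by
          have hzu : z * u = u * z := mem_Cz.1 (hC1C huC)
          have : u⁻¹ * ((x' : G) * x') * u = (x : G) * x := by
            rw [inv_of_sq hu2]
            calc u * ((x' : G) * x') * u = u * ((x' : G) * x' * z) * (z * u) := by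
                  simp only [mul_assoc]
                  rw [← mul_assoc z z, hy.zz, one_mul]
              _ = u * (u * ((x : G) * x * z) * u) * (u * z) := by rw [← e2, hzu]
              _ = u * u * ((x : G) * x * z) * (u * u) * z := by group
              _ = (x : G) * x := by rw [hu2, one_mul, mul_one, mul_assoc, hy.zz, mul_one]
          rw [this]
          exact Subgroup.le_normalizer (M.mul_mem x.2 x.2)
        exact hx1' (Subtype.ext (hy.two_free x'.2 (hA _ (M.mul_mem x'.2 x'.2) h1)))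
      have hu1 := hC1N u huC huN
      have hgg : g = g' := by
        refine Subtype.ext ?_
        rw [hu, mul_eq_one_iff_eq_inv, inv_of_sq hg2] at hu1
        exact hu1.symm
      subst hgg
      have e3 : (x : G) * z * (x : G)⁻¹ = (x' : G) * z * (x' : G)⁻¹ := by
        rw [hu1, one_mul, mul_one] at e2
        exact e2
      obtain ⟨h1, -⟩ := hb.invol_unique x.2 x'.2 (mem_Cz.2 rfl) hy.zz hy.z_ne (mem_Cz.2 rfl)
        hy.zz hy.z_ne e3
      exact Prod.ext rfl (Subtype.ext (Subtype.ext h1))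
    have hcard : Nat.card (C1 × {x : M // x ≠ 1}) = Nat.card (Cl \ W : Set G) := by
      have hx : Nat.card {x : M // x ≠ 1} = c + 2 := by
        have : ({(1 : M)}ᶜ : Set M).ncard = Nat.card M - 1 := by
          rw [Set.ncard_compl, Set.ncard_singleton]
        rw [← Nat.card_coe_set_eq, hm] at this
        exact this.trans (by omega)
      rw [Nat.card_prod, hC1card, hx, Nat.card_coe_set_eq,
        Set.ncard_sdiff (Set.inter_subset_right), hClcard, hWcard]
      apply Nat.eq_sub_of_add_eq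
      ring
    intro v hv hvW
    obtain ⟨⟨g, x, hx1⟩, e⟩ := ((Nat.bijective_iff_injective_and_card Ψ).2 ⟨hinj, hcard⟩).2
      ⟨v, hv, hvW⟩
    exact ⟨g, g.2, x, x.2, fun h => hx1 (Subtype.ext h), congrArg Subtype.val e⟩
  -- involutions outside the class of `z` normalise `C(z)`
  have hnorm : ∀ j, j * j = 1 → j ≠ 1 → j ∉ Cl → j ∈ T := by
    intro j hj hj1 hjCl
    refine (hmemT j).2 ?_
    by_contra hw
    obtain ⟨g, hg, x, hx, hx1, e⟩ := hmeet _ (⟨j, rfl⟩ : j * z * j⁻¹ ∈ Cl) hw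
    have hg2 : g * g = 1 := hb.C_sq hh (hC1C hg)
    have hzg : z * g = g * z := mem_Cz.1 (hC1C hg)
    set k := g * j * g with hk
    have hk2 : k * k = 1 := by
      calc k * k = g * j * (g * g) * j * g := by rw [hk]; group
        _ = g * (j * j) * g := by rw [hg2, mul_one]; group
        _ = 1 := by rw [hj, mul_one, hg2]
    have hkN : k ∉ Nz M := by
      intro h
      have hk1 : k ≠ 1 := fun h1 => hj1 (by
        calc j = (g * g) * j * (g * g) := by rw [hg2, one_mul, mul_one]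
          _ = g * k * g := by rw [hk]; group
          _ = 1 := by rw [h1, mul_one, hg2])
      refine hjCl ?_
      have := hClconj g _ (hNz k hk2 hk1 h)
      convert this using 1
      calc j = (g * g) * j * (g * g) := by rw [hg2, one_mul, mul_one]
        _ = g * k * g := by rw [hk]; group
        _ = g * k * g⁻¹ := by rw [inv_of_sq hg2]
    obtain ⟨hA, -, -⟩ := hb.master hkN
    set y := x * z * x⁻¹ with hy_def
    have hyN : y ∈ Nz M := (Nz M).mul_mem ((Nz M).mul_mem (Subgroup.le_normalizer hx) hy.mem)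
      ((Nz M).inv_mem (Subgroup.le_normalizer hx))
    have hkz : k * z * k = y := by
      calc k * z * k = g * j * ((g * z) * g) * j * g := by rw [hk]; group
        _ = g * (j * z * j⁻¹) * g := by
          rw [← hzg, mul_assoc z, hg2, mul_one, inv_of_sq hj]; group
        _ = g * (g * y * g) * g := by rw [e]
        _ = g * g * y * (g * g) := by group
        _ = y := by rw [hg2, one_mul, mul_one]
    have hky : k * y * k = z := by
      calc k * y * k = k * (k * z * k) * k := by rw [hkz]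
        _ = k * k * z * (k * k) := by group
        _ = z := by rw [hk2, one_mul, mul_one]
    have hd : z * y = (x⁻¹ * x⁻¹) := by
      rw [hy_def, hy.conj_z hx, ← mul_assoc, hy.z_mul (M.mul_mem hx hx), mul_assoc, hy.zz, mul_one,
        mul_inv_rev]
    have h1 : k⁻¹ * (z * y) * k ∈ Nz M := by
      rw [inv_of_sq hk2]
      have : k * (z * y) * k = (k * z * k) * (k * y * k) := by
        calc k * (z * y) * k = k * z * (k * k) * y * k := by rw [hk2, mul_one]; group
          _ = _ := by group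
      rw [this, hkz, hky]
      exact (Nz M).mul_mem hyN hy.mem
    rw [hd] at h1
    exact hx1 (inv_eq_one.1 (hy.two_free (M.inv_mem hx)
      (hA _ (M.mul_mem (M.inv_mem hx) (M.inv_mem hx)) h1)))
  -- the kernel
  set E : Subgroup G := T.normalCore
  have hET : E ≤ T := Subgroup.normalCore_le T
  haveI : E.Normal := Subgroup.normalCore_normal T
  set O : Set G := Inv G \ Cl
  have hOE : O ⊆ (E : Set G) := by
    rintro j ⟨hj, hjCl⟩ g
    refine hnorm _ ?_ ?_ fun h => hjCl ?_
    · calc g * j * g⁻¹ * (g * j * g⁻¹) = g * (j * j) * g⁻¹ := by group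
        _ = 1 := by rw [(sq_of_orderOf hj).1]; group
    · exact fun h => (sq_of_orderOf hj).2 (conj_eq_one_iff.1 h)
    · have := hClconj g⁻¹ _ h
      convert this using 1
      group
  have hTN : ∀ n ∈ T, n ∈ Nz M → n = 1 ∨ n = z := by
    intro n hn hN
    obtain ⟨x, hx, k, hk, rfl⟩ := hy.fac n hN
    have hxT : x ∈ T := by
      have := T.mul_mem hn (T.inv_mem (hCT hk.2))
      rwa [mul_inv_cancel_right] at this
    have h := ((hmemT x).1 hxT).1
    rw [hy.conj_z hx] at h
    have h2 := (Cz z).mul_mem h (mem_Cz.2 rfl : z ∈ Cz z)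
    rw [mul_assoc _ z z, hy.zz, mul_one] at h2
    have hx1 : x = 1 := hy.two_free hx (hy.M_cap_C (M.mul_mem hx hx) h2)
    rw [hx1, one_mul]
    exact hb.H_two hh hk
  have hEN : E ⊓ Nz M = ⊥ := by
    rw [Subgroup.eq_bot_iff_forall]
    rintro n ⟨hnE, hnN⟩
    rcases hTN n (hET hnE) hnN with h | h
    · exact h
    · exfalso
      subst h
      obtain ⟨x, hx, hx1⟩ := M.bot_or_exists_ne_one.resolve_left hy.ne_bot
      have h1 : x * x ∈ E := by
        have := E.mul_mem (‹E.Normal›.conj_mem n hnE x) hnE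
        rwa [hy.conj_z hx, mul_assoc, hy.zz, mul_one] at this
      rcases hTN _ (hET h1) (Subgroup.le_normalizer (M.mul_mem hx hx)) with h2 | h2
      · exact hx1 (hy.two_free hx h2)
      · exact hy.z_notMem (h2 ▸ M.mul_mem hx hx)
  have hNc : Nat.card (Nz M) = 2 * (c + 3) := by rw [hy.card_N, hh, hm]; ring
  have hGc : Nat.card G = (c + 2) * (c + 2) * (2 * (c + 3)) := by rw [hG]; ring
  have hinjEN : Function.Injective (fun p : E × Nz M => (p.1 : G) * p.2) := by
    intro p q e
    have h1 : (q.1 : G)⁻¹ * p.1 = (q.2 : G) * (p.2 : G)⁻¹ := by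
      rw [eq_mul_inv_iff_mul_eq, mul_assoc]
      exact inv_mul_eq_iff_eq_mul.2 e
    have h2 : (q.1 : G)⁻¹ * p.1 ∈ E ⊓ Nz M :=
      ⟨E.mul_mem (E.inv_mem q.1.2) p.1.2, h1 ▸ (Nz M).mul_mem q.2.2 ((Nz M).inv_mem p.2.2)⟩
    rw [hEN, Subgroup.mem_bot] at h2
    have h3 : p.1 = q.1 := Subtype.ext (inv_mul_eq_one.1 h2).symm
    exact Prod.ext h3 (Subtype.ext (mul_left_cancel (a := (p.1 : G)) (by
      have e' : (p.1 : G) * p.2 = (q.1 : G) * q.2 := e
      rw [← h3] at e'
      exact e')))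
  have hOcard : O.ncard + 1 = (c + 2) * (c + 2) := by
    have hsub : Cl ⊆ Inv G := fun j hj => orderOf_two (hClinv j hj).1 (hClinv j hj).2
    rw [Set.ncard_sdiff hsub, hClcard, hb.card_Inv, hout, hm]
    have : (c + 3) * (1 + 2 * (c + 1)) = (c + 3) * (c + 2) + (c + 3) * (c + 1) := by ring
    rw [this, Nat.add_sub_cancel_left]
    ring
  have h1O : (1 : G) ∉ O := fun h => (sq_of_orderOf h.1).2 rfl
  have hEle : Nat.card E ≤ (c + 2) * (c + 2) := by
    have := Nat.card_le_card_of_injective _ hinjEN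
    rw [Nat.card_prod, hNc, hGc] at this
    exact Nat.le_of_mul_le_mul_right this (by omega)
  have hEset : insert 1 O = (E : Set G) := by
    refine Set.eq_of_subset_of_ncard_le ?_ ?_ (Set.toFinite _)
    · rintro j (rfl | hj)
      · exact E.one_mem
      · exact hOE hj
    · rw [Set.ncard_insert_of_notMem h1O, hOcard, ← Nat.card_coe_set_eq]
      exact hEle
  have hEcard : Nat.card E = (c + 2) * (c + 2) := by
    rw [← SetLike.coe_sort_coe, Nat.card_coe_set_eq, ← hEset, Set.ncard_insert_of_notMem h1O,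
      hOcard]
  have hEsq : ∀ e ∈ E, e * e = 1 := by
    intro e he
    have : e ∈ insert 1 O := by rw [hEset]; exact he
    rcases this with rfl | h
    · exact mul_one 1
    · exact (sq_of_orderOf h.1).1
  have hEab : IsMulCommutative E := ⟨⟨fun a b => Subtype.ext (by
    have h := hEsq _ (E.mul_mem a.2 b.2)
    show (a : G) * b = b * a
    calc (a : G) * b = ((a : G) * b)⁻¹ := (inv_of_sq h).symm
      _ = (b : G) * a := by rw [mul_inv_rev, inv_of_sq (hEsq _ a.2), inv_of_sq (hEsq _ b.2)])⟩⟩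
  have htop : E ⊔ Nz M = ⊤ := by
    rw [Subgroup.eq_top_iff']
    intro g
    obtain ⟨⟨a, n⟩, e⟩ := ((Nat.bijective_iff_injective_and_card _).2 ⟨hinjEN, by
      rw [Nat.card_prod, hNc, hEcard, hGc]⟩).2 g
    rw [← e]
    exact Subgroup.mul_mem_sup a.2 n.2
  have hcyc : IsCyclic M := by
    refine Cfsg.Agent.FrobeniusFPF.isCyclic_of_fpf M E hEab ?_ ?_ ?_
      (Or.inl ⟨⟨fun a b => Subtype.ext (hy.comm a.2 b.2)⟩⟩)
    · intro h
      rw [h, Subgroup.card_bot] at hEcard
      nlinarith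
    · rw [Subgroup.normalizer_eq_top]
      exact le_top
    · intro a ha ha1
      rw [Subgroup.eq_bot_iff_forall]
      rintro e ⟨he, hec⟩
      exact hy.no_fix (hEsq e he) ha ha1 (Subgroup.mem_centralizer_singleton_iff.1 hec)
  have hdih := hb.normalizer_dihedral hh hcyc
  rw [hm] at hdih
  exact ⟨E, inferInstance, ⟨hEab, fun e he => by rw [pow_two]; exact hEsq e he⟩, hEcard, hEN, htop,
    hdih⟩

end Cfsg.Agent.TI85
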