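import Mathlib

/-!
A TI subgroup `M` with a fixed-point-free involution `z` in its normalizer and with many involutions
in the group: every coset of `M` outside the normalizer contains exactly one involution, and
`G = N ∪ M (C(z) \ N) M` with unique expression.
-/

set_option autoImplicit false

namespace Cfsg.Agent.TI85

open Subgroup

variable {G : Type*} [Group G]

/-- The normalizer of `M`. -/
abbrev Nz (M : Subgroup G) : Subgroup G := Subgroup.normalizer (M : Set G)

/-- The centralizer of `z`. -/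
abbrev Cz (z : G) : Subgroup G := Subgroup.centralizer ({z} : Set G)

/-- The centralizer of `z` in the normalizer of `M`. -/
abbrev Hz (M : Subgroup G) (z : G) : Subgroup G := Nz M ⊓ Cz z

/-- The local hypotheses. -/
structure Hyp (M : Subgroup G) (z : G) : Prop where
  ne_bot : M ≠ ⊥
  ti : ∀ x ∈ M, x ≠ 1 → ∀ g : G, g * x * g⁻¹ ∈ M → g ∈ Nz M
  ord : orderOf z = 2
  mem : z ∈ Nz M
  fac : ∀ n ∈ Nz M, ∃ x ∈ M, ∃ k ∈ Hz M z, x * k = n
  odd : ∀ x ∈ M, x ≠ 1 → Odd (Nat.card (Subgroup.centralizer ({x} : Set G)))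

theorem mem_Cz {z g : G} : g ∈ Cz z ↔ z * g = g * z := by
  rw [Subgroup.mem_centralizer_singleton_iff]
  exact ⟨fun h => h.symm, fun h => h.symm⟩

theorem conj_mem_of_mem_Nz {M : Subgroup G} {g x : G} (hg : g ∈ Nz M) (hx : x ∈ M) :
    g * x * g⁻¹ ∈ M := (Subgroup.mem_normalizer_iff.1 hg x).1 hx

theorem inv_of_sq {j : G} (h : j * j = 1) : j⁻¹ = j := inv_eq_of_mul_eq_one_left h

theorem orderOf_two {j : G} (hj : j * j = 1) (hj1 : j ≠ 1) : orderOf j = 2 :=
  orderOf_eq_prime (by rw [pow_two]; exact hj) hj1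

theorem sq_of_orderOf {j : G} (h : orderOf j = 2) : j * j = 1 ∧ j ≠ 1 :=
  ⟨by rw [← pow_two, ← h, pow_orderOf_eq_one], fun e => by simp [e] at h⟩

section Local

variable {M : Subgroup G} {z : G} (hy : Hyp M z)
include hy

theorem Hyp.zz : z * z = 1 := (sq_of_orderOf hy.ord).1
theorem Hyp.z_ne : z ≠ 1 := (sq_of_orderOf hy.ord).2

theorem Hyp.z_mem_Hz : z ∈ Hz M z := ⟨hy.mem, mem_Cz.2 rfl⟩

theorem Hyp.no_fix [Finite G] {j x : G} (hj : j * j = 1) (hx : x ∈ M) (hx1 : x ≠ 1)
    (hc : j * x = x * j) : j = 1 := by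
  by_contra hj1
  have hm : j ∈ Subgroup.centralizer ({x} : Set G) :=
    Subgroup.mem_centralizer_singleton_iff.2 hc
  have h2 : 2 ∣ Nat.card (Subgroup.centralizer ({x} : Set G)) := by
    have h := orderOf_dvd_natCard (⟨j, hm⟩ : Subgroup.centralizer ({x} : Set G))
    rwa [Subgroup.orderOf_mk, orderOf_two hj hj1] at h
  exact Nat.not_even_iff_odd.2 (hy.odd x hx hx1) (even_iff_two_dvd.2 h2)

theorem Hyp.inverts [Finite G] {j : G} (hj : j * j = 1) (hj1 : j ≠ 1) (hjN : j ∈ Nz M) {x : G}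
    (hx : x ∈ M) : j * x * j = x⁻¹ := by
  have hconj : ∀ y ∈ M, j * y * j ∈ M := fun y hy' => by
    have := conj_mem_of_mem_Nz hjN hy'
    rwa [inv_of_sq hj] at this
  let φ : M → M := fun y =>
    ⟨(y : G)⁻¹ * (j * y * j), M.mul_mem (M.inv_mem y.2) (hconj _ y.2)⟩
  have hinj : Function.Injective φ := by
    intro y₁ y₂ e
    have e' : (y₁ : G)⁻¹ * (j * y₁ * j) = (y₂ : G)⁻¹ * (j * y₂ * j) := congrArg Subtype.val e
    by_contra hne
    set w : G := (y₂ : G) * (y₁ : G)⁻¹ with hw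
    have hwM : w ∈ M := M.mul_mem y₂.2 (M.inv_mem y₁.2)
    have hw1 : w ≠ 1 := fun h => hne (Subtype.ext (mul_inv_eq_one.1 h).symm)
    have h2 : j * w * j = w := by
      calc j * w * j
          = (j * (y₂ : G) * j) * (j * (y₁ : G) * j)⁻¹ := by
            rw [mul_inv_rev, mul_inv_rev, inv_of_sq hj, hw]
            simp only [mul_assoc]
            rw [← mul_assoc j j, hj, one_mul]
        _ = w := by
            rw [show j * (y₁ : G) * j = (y₁ : G) * ((y₂ : G)⁻¹ * (j * y₂ * j)) by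
              rw [← e', mul_inv_cancel_left], mul_inv_rev, mul_inv_rev, inv_inv, hw]
            group
    refine hj1 (hy.no_fix hj hwM hw1 ?_)
    calc j * w = j * w * (j * j) := by rw [hj, mul_one]
      _ = (j * w * j) * j := by simp only [mul_assoc]
      _ = w * j := by rw [h2]
  obtain ⟨y, hy'⟩ := (Finite.injective_iff_surjective.1 hinj) ⟨x, hx⟩
  have e : (y : G)⁻¹ * (j * y * j) = x := congrArg Subtype.val hy'
  rw [← e]
  simp only [mul_inv_rev, inv_inv, inv_of_sq hj]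
  calc j * ((y : G)⁻¹ * (j * y * j)) * j = j * (y : G)⁻¹ * j * y * (j * j) := by
        simp only [mul_assoc]
    _ = j * ((y : G)⁻¹ * j) * y := by rw [hj, mul_one, mul_assoc j]

theorem Hyp.zinv [Finite G] {x : G} (hx : x ∈ M) : z * x * z = x⁻¹ :=
  hy.inverts hy.zz hy.z_ne hy.mem hx

theorem Hyp.z_mul [Finite G] {x : G} (hx : x ∈ M) : z * x = x⁻¹ * z := by
  rw [← hy.zinv hx, mul_assoc (z * x), hy.zz, mul_one]

theorem Hyp.comm [Finite G] {x y : G} (hx : x ∈ M) (hy' : y ∈ M) : x * y = y * x := by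
  have h1 := hy.zinv (M.mul_mem hx hy')
  have h2 : z * (x * y) * z = (z * x * z) * (z * y * z) := by
    simp only [mul_assoc]
    rw [← mul_assoc z z, hy.zz, one_mul]
  rw [h2, hy.zinv hx, hy.zinv hy', ← mul_inv_rev, inv_inj] at h1
  exact h1.symm

theorem Hyp.two_free [Finite G] {x : G} (hx : x ∈ M) (h : x * x = 1) : x = 1 := by
  by_contra h1
  refine hy.z_ne (hy.no_fix hy.zz hx h1 ?_)
  rw [hy.z_mul hx, inv_of_sq h]

theorem Hyp.exists_sqrt [Finite G] {x : G} (hx : x ∈ M) : ∃ y ∈ M, y * y = x := by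
  let φ : M → M := fun y => ⟨(y : G) * y, M.mul_mem y.2 y.2⟩
  have hinj : Function.Injective φ := by
    intro a b e
    have e' : (a : G) * a = b * b := congrArg Subtype.val e
    have hm : (a : G) * (b : G)⁻¹ ∈ M := M.mul_mem a.2 (M.inv_mem b.2)
    have : (a : G) * (b : G)⁻¹ = 1 := hy.two_free hm (by
      have hc := hy.comm a.2 (M.inv_mem b.2)
      calc (a : G) * (b : G)⁻¹ * ((a : G) * (b : G)⁻¹)
          = (b : G)⁻¹ * ((a : G) * a) * (b : G)⁻¹ := by
            nth_rw 1 [hc]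
            simp only [mul_assoc]
        _ = 1 := by rw [e']; group)
    exact Subtype.ext (mul_inv_eq_one.1 this)
  obtain ⟨y, hy'⟩ := (Finite.injective_iff_surjective.1 hinj) ⟨x, hx⟩
  exact ⟨y, y.2, congrArg Subtype.val hy'⟩

theorem Hyp.conj_z [Finite G] {x : G} (hx : x ∈ M) : x * z * x⁻¹ = x * x * z := by
  rw [mul_assoc x z, hy.z_mul (M.inv_mem hx), inv_inv, ← mul_assoc]

theorem Hyp.M_cap_C [Finite G] {x : G} (hx : x ∈ M) (hc : x ∈ Cz z) : x = 1 := by
  by_contra h1
  exact hy.z_ne (hy.no_fix hy.zz hx h1 (mem_Cz.1 hc))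

theorem Hyp.z_notMem [Finite G] : z ∉ M := fun h => hy.z_ne (hy.M_cap_C h (mem_Cz.2 rfl))

theorem Hyp.decomp_unique [Finite G] {x x' k k' : G} (hx : x ∈ M) (hx' : x' ∈ M)
    (hk : k ∈ Cz z) (hk' : k' ∈ Cz z) (e : x * k = x' * k') : x = x' ∧ k = k' := by
  have : x'⁻¹ * x = k' * k⁻¹ := by
    rw [eq_mul_inv_iff_mul_eq, mul_assoc, e, inv_mul_cancel_left]
  have h1 := hy.M_cap_C (M.mul_mem (M.inv_mem hx') hx)
    (this ▸ (Cz z).mul_mem hk' ((Cz z).inv_mem hk))
  rw [inv_mul_eq_one] at h1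
  subst h1
  exact ⟨rfl, mul_left_cancel e⟩

theorem Hyp.invol_N [Finite G] {j : G} (hj : j * j = 1) (hj1 : j ≠ 1) (hjN : j ∈ Nz M) :
    ∃ x ∈ M, j = x * z := by
  obtain ⟨x, hx, k, hk, e⟩ := hy.fac (j * z) ((Nz M).mul_mem hjN hy.mem)
  -- `j z` centralises `M`, hence so does `k`
  have hjz : ∀ y ∈ M, j * z * y = y * (j * z) := by
    intro y hy'
    rw [mul_assoc j z, hy.z_mul hy', ← mul_assoc]
    have := hy.inverts hj hj1 hjN (M.inv_mem hy')
    rw [inv_inv] at this
    calc j * y⁻¹ * z = (j * y⁻¹ * j) * (j * z) := by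
          simp only [mul_assoc]
          rw [← mul_assoc j j, hj, one_mul]
      _ = y * (j * z) := by rw [this]
  have hkc : ∀ y ∈ M, k * y = y * k := by
    intro y hy'
    have h := hjz y hy'
    rw [← e] at h
    have hxy : y * x = x * y := hy.comm hy' hx
    have : x * (k * y) = x * (y * k) := by
      calc x * (k * y) = x * k * y := (mul_assoc _ _ _).symm
        _ = y * (x * k) := h
        _ = x * (y * k) := by rw [← mul_assoc, hxy, mul_assoc]
    exact mul_left_cancel this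
  have hkz : z * k = k * z := mem_Cz.1 hk.2
  have hj' : j = x * k * z := by rw [e, mul_assoc, hy.zz, mul_one]
  have hk2 : k * k = 1 := by
    have h2 : j * j = k * k := by
      rw [hj']
      calc x * k * z * (x * k * z) = x * k * (z * x) * k * z := by simp only [mul_assoc]
        _ = x * (k * x⁻¹) * (z * k) * z := by rw [hy.z_mul hx]; simp only [mul_assoc]
        _ = x * (x⁻¹ * k) * (k * z) * z := by rw [hkc _ (M.inv_mem hx), hkz]
        _ = k * k * (z * z) := by
          simp only [mul_assoc, mul_inv_cancel_left]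
        _ = k * k := by rw [hy.zz, mul_one]
    rw [← h2, hj]
  have hk1 : k = 1 := by
    obtain ⟨x₀, hx₀, hx₀1⟩ := M.bot_or_exists_ne_one.resolve_left hy.ne_bot
    exact hy.no_fix hk2 hx₀ hx₀1 (hkc x₀ hx₀)
  exact ⟨x, hx, by rw [hj', hk1, mul_one]⟩

theorem Hyp.invol_N_conj [Finite G] {j : G} (hj : j * j = 1) (hj1 : j ≠ 1) (hjN : j ∈ Nz M) :
    ∃ x ∈ M, j = x * z * x⁻¹ := by
  obtain ⟨x, hx, rfl⟩ := hy.invol_N hj hj1 hjN
  obtain ⟨y, hy', rfl⟩ := hy.exists_sqrt hx
  exact ⟨y, hy', (hy.conj_z hy').symm⟩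

theorem Hyp.H_invol [Finite G] {k : G} (hk : k ∈ Hz M z) (hk2 : k * k = 1) (hk1 : k ≠ 1) :
    k = z := by
  obtain ⟨x, hx, e⟩ := hy.invol_N hk2 hk1 hk.1
  have := hy.decomp_unique M.one_mem hx hk.2 hy.z_mem_Hz.2 (by rw [one_mul]; exact e)
  exact this.2

/-- The component in `H` of an element of the normalizer. -/
noncomputable def Hyp.comp (n : Nz M) : G :=
  (hy.fac n.1 n.2).choose_spec.2.choose

theorem Hyp.comp_spec (n : Nz M) :
    hy.comp n ∈ Hz M z ∧ ∃ x ∈ M, x * hy.comp n = (n : G) :=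
  ⟨(hy.fac n.1 n.2).choose_spec.2.choose_spec.1, _, (hy.fac n.1 n.2).choose_spec.1,
    (hy.fac n.1 n.2).choose_spec.2.choose_spec.2⟩

theorem Hyp.comp_eq [Finite G] {n : Nz M} {x k : G} (hx : x ∈ M) (hk : k ∈ Hz M z)
    (e : x * k = (n : G)) : hy.comp n = k := by
  obtain ⟨hc, x', hx', e'⟩ := hy.comp_spec n
  exact (hy.decomp_unique hx' hx hc.2 hk.2 (e'.trans e.symm)).2

/-- The projection of the normalizer to `H`. -/
noncomputable def Hyp.proj [Finite G] : Nz M →* Hz M z :=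
  MonoidHom.mk' (fun n => ⟨hy.comp n, (hy.comp_spec n).1⟩) (fun a b => Subtype.ext (by
    obtain ⟨hc, x, hx, e⟩ := hy.comp_spec a
    obtain ⟨hc', x', hx', e'⟩ := hy.comp_spec b
    refine hy.comp_eq (x := x * (hy.comp a * x' * (hy.comp a)⁻¹))
      (M.mul_mem hx (conj_mem_of_mem_Nz hc.1 hx')) ((Hz M z).mul_mem hc hc') ?_
    show x * (hy.comp a * x' * (hy.comp a)⁻¹) * (hy.comp a * hy.comp b) = (a : G) * b
    rw [← e, ← e']
    group))

theorem Hyp.proj_eq_one [Finite G] {n : Nz M} : hy.proj n = 1 ↔ (n : G) ∈ M := by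
  constructor
  · intro h
    obtain ⟨-, x, hx, e⟩ := hy.comp_spec n
    have : hy.comp n = 1 := congrArg Subtype.val h
    rw [this, mul_one] at e
    exact e ▸ hx
  · intro h
    exact Subtype.ext (hy.comp_eq h (Hz M z).one_mem (mul_one _))

theorem Hyp.card_N [Finite G] : Nat.card (Nz M) = Nat.card M * Nat.card (Hz M z) := by
  rw [← Nat.card_prod]
  refine (Nat.card_congr (Equiv.ofBijective (fun p : M × Hz M z =>
    (⟨(p.1 : G) * p.2, (Nz M).mul_mem (Subgroup.le_normalizer p.1.2) p.2.2.1⟩ : Nz M))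
    ⟨?_, ?_⟩)).symm
  · intro p p' e
    obtain ⟨e1, e2⟩ := hy.decomp_unique p.1.2 p'.1.2 p.2.2.2 p'.2.2.2 (congrArg Subtype.val e)
    exact Prod.ext (Subtype.ext e1) (Subtype.ext e2)
  · intro n
    obtain ⟨x, hx, k, hk, e⟩ := hy.fac n.1 n.2
    exact ⟨(⟨x, hx⟩, ⟨k, hk⟩), Subtype.ext e⟩

end Local

/-- The involutions of `G`. -/
abbrev Inv (G : Type*) [Group G] : Set G := {j | orderOf j = 2}

/-- More involutions than cosets of `M`. -/
structure Big (M : Subgroup G) (z : G) : Prop extends Hyp M z where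
  big : M.index < (Inv G).ncard

section Global

variable [Finite G] {M : Subgroup G} {z : G} (hb : Big M z)
include hb

theorem Big.master {g : G} (hg : g ∉ Nz M) :
    (∀ a ∈ M, g⁻¹ * a * g ∈ Nz M → a = 1) ∧ (∃ x ∈ M, g⁻¹ * (x * z) * g ∈ Nz M) ∧
      ∃ x ∈ M, g * x * (g * x) = 1 := by
  classical
  have hy := hb.toHyp
  set H := Hz M z
  let cM : G → G ⧸ M := fun g => (g : G ⧸ M)
  set Img : Set (G ⧸ M) := cM '' (Inv G \ (Nz M : Set G))
  set Nm : Set (G ⧸ M) := cM '' (H : Set G)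
  set Bad : Set (G ⧸ M) := (Img ∪ Nm)ᶜ
  -- a coset meets at most one outer involution
  have hinjI : Set.InjOn cM (Inv G \ (Nz M : Set G)) := by
    rintro i ⟨hi, hiN⟩ j ⟨hj, -⟩ e
    obtain ⟨hi2, -⟩ := sq_of_orderOf hi
    obtain ⟨hj2, -⟩ := sq_of_orderOf hj
    have hm : i * j ∈ M := by
      have := QuotientGroup.eq.1 e
      rwa [inv_of_sq hi2] at this
    by_contra hne
    refine hiN (hy.ti (i * j) hm (fun h => hne ?_) i ?_)
    · rw [mul_eq_one_iff_eq_inv, inv_of_sq hj2] at h; exact h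
    · rw [inv_of_sq hi2]
      have : i * (i * j) * i = (i * j)⁻¹ := by
        rw [mul_inv_rev, inv_of_sq hi2, inv_of_sq hj2, ← mul_assoc i i, hi2, one_mul]
      rw [this]
      exact M.inv_mem hm
  have hinjN : Set.InjOn cM (H : Set G) := by
    intro a ha b hb' e
    have hm := hy.M_cap_C (QuotientGroup.eq.1 e) ((Cz z).mul_mem ((Cz z).inv_mem ha.2) hb'.2)
    exact inv_mul_eq_one.1 hm
  have hdisj : Disjoint Img Nm := by
    rw [Set.disjoint_left]
    rintro _ ⟨i, ⟨-, hiN⟩, rfl⟩ ⟨k, hk, e⟩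
    refine hiN ?_
    have hm : k⁻¹ * i ∈ M := QuotientGroup.eq.1 e
    have := (Nz M).mul_mem hk.1 (Subgroup.le_normalizer hm)
    rwa [mul_inv_cancel_left] at this
  have hIN : (Inv G ∩ (Nz M : Set G)).ncard ≤ Nat.card M := by
    have hsub : Inv G ∩ (Nz M : Set G) ⊆ (fun x => x * z) '' (M : Set G) := by
      rintro j ⟨hj, hjN⟩
      obtain ⟨x, hx, rfl⟩ := hy.invol_N (sq_of_orderOf hj).1 (sq_of_orderOf hj).2 hjN
      exact ⟨x, hx, rfl⟩
    refine (Set.ncard_le_ncard hsub (Set.toFinite _)).trans ?_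
    refine (Set.ncard_image_le (Set.toFinite _)).trans ?_
    rw [← Nat.card_coe_set_eq]
    exact le_rfl
  have hBad : Bad.ncard + Nat.card H < Nat.card M := by
    have h1 : Bad.ncard + (Img.ncard + Nm.ncard) = M.index := by
      rw [← Set.ncard_union_eq hdisj, add_comm, Set.ncard_add_ncard_compl]
      rfl
    have h2 : Img.ncard = (Inv G \ (Nz M : Set G)).ncard := Set.InjOn.ncard_image hinjI
    have h3 : Nm.ncard = Nat.card H := by
      rw [Set.InjOn.ncard_image hinjN, ← Nat.card_coe_set_eq]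
      rfl
    have h4 := Set.ncard_inter_add_ncard_sdiff_eq_ncard (Inv G) (Nz M : Set G) (Set.toFinite _)
    have := hb.big
    omega
  -- the subgroups attached to `g`
  set A : Subgroup G := M ⊓ (Nz M).comap (MulAut.conj g⁻¹).toMonoidHom with hA
  have memA : ∀ a, a ∈ A ↔ a ∈ M ∧ g⁻¹ * a * g ∈ Nz M := fun a => by
    simp [hA, Subgroup.mem_inf, Subgroup.mem_comap]
  set D : Subgroup G := Nz M ⊓ (Nz M).comap (MulAut.conj g⁻¹).toMonoidHom with hD
  have memD : ∀ a, a ∈ D ↔ a ∈ Nz M ∧ g⁻¹ * a * g ∈ Nz M := fun a => by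
    simp [hD, Subgroup.mem_inf, Subgroup.mem_comap]
  -- `2 |A| ≤ |H|`
  let ψ : A →* H := hy.proj.comp
    ((((MulAut.conj g⁻¹).toMonoidHom).comp A.subtype).codRestrict (Nz M) fun a => by
      simpa using ((memA a).1 a.2).2)
  have hψinj : Function.Injective ψ := by
    rw [injective_iff_map_eq_one]
    intro a ha
    have hm : g⁻¹ * (a : G) * g ∈ M := by simpa [ψ] using hy.proj_eq_one.1 ha
    refine Subtype.ext (by_contra fun h1 => hg ?_)
    have h2 : g⁻¹ ∈ Nz M := hy.ti (a : G) ((memA _).1 a.2).1 h1 g⁻¹ (by rwa [inv_inv])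
    simpa using (Nz M).inv_mem h2
  let zH : H := ⟨z, hy.z_mem_Hz⟩
  have zHsq : zH * zH = 1 := Subtype.ext hy.zz
  have double : ∀ S : Subgroup H, zH ∉ S → 2 * Nat.card S ≤ Nat.card H := by
    intro S hS
    rw [← S.card_mul_index, mul_comm 2]
    refine Nat.mul_le_mul_left _ ?_
    have : S.index ≠ 1 := fun h => hS (by rw [Subgroup.index_eq_one.1 h]; trivial)
    have := Subgroup.index_ne_zero_of_finite (H := S)
    omega
  have hA2 : 2 * Nat.card A ≤ Nat.card H := by
    rw [Nat.card_congr (MonoidHom.ofInjective hψinj).toEquiv]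
    refine double _ fun h => ?_
    obtain ⟨a, ha⟩ := h
    have h2 : ψ (a * a) = 1 := by rw [map_mul, ha, zHsq]
    have h3 : (a : G) * a = 1 := congrArg Subtype.val (hψinj (h2.trans (map_one ψ).symm))
    have h4 : a = 1 := Subtype.ext (hy.two_free ((memA _).1 a.2).1 h3)
    rw [h4, map_one] at ha
    exact hy.z_ne (congrArg Subtype.val ha).symm
  -- missing cosets over `g N`
  set K : Set H := {k | cM (g * k) ∈ Bad}
  have hK : Nat.card K < Nat.card A := by
    have hmaps : ∀ (x : M) (k : K), cM ((x : G) * g * (k : H)) ∈ Bad := by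
      intro x k h
      refine k.2 ?_
      rcases h with ⟨i, ⟨hi, hiN⟩, e⟩ | ⟨n, hn, e⟩
      · left
        refine ⟨(x : G)⁻¹ * i * x, ⟨?_, fun h => hiN ?_⟩, QuotientGroup.eq.2 ?_⟩
        · refine orderOf_two ?_ fun h => (sq_of_orderOf hi).2 ?_
          · calc (x : G)⁻¹ * i * x * ((x : G)⁻¹ * i * x) = (x : G)⁻¹ * (i * i) * x := by group
              _ = 1 := by rw [(sq_of_orderOf hi).1]; group
          · calc i = (x : G) * ((x : G)⁻¹ * i * x) * (x : G)⁻¹ := by group
              _ = 1 := by rw [h]; group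
        · have hxN : (x : G) ∈ Nz M := Subgroup.le_normalizer x.2
          have := (Nz M).mul_mem ((Nz M).mul_mem hxN h) ((Nz M).inv_mem hxN)
          rwa [show (x : G) * ((x : G)⁻¹ * i * x) * (x : G)⁻¹ = i by group] at this
        · have := M.mul_mem (M.inv_mem x.2) (QuotientGroup.eq.1 e)
          convert this using 1
          group
      · right
        have hm : n⁻¹ * ((x : G) * g * (k : H)) ∈ M := QuotientGroup.eq.1 e
        exfalso
        refine hg ?_
        have h1 := (Nz M).mul_mem hn.1 (Subgroup.le_normalizer hm)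
        rw [mul_inv_cancel_left] at h1
        have h2 := (Nz M).mul_mem ((Nz M).mul_mem ((Nz M).inv_mem (Subgroup.le_normalizer x.2)) h1)
          ((Nz M).inv_mem (k : H).2.1)
        convert h2 using 1
        group
    have key : Nat.card M * Nat.card K ≤ Bad.ncard * Nat.card A := by
      let Ψ : M × K → Bad := fun p => ⟨cM ((p.1 : G) * g * (p.2 : H)), hmaps _ _⟩
      have hfib : ∀ p q : M × K, Ψ p = Ψ q → ((q.1 : G)⁻¹ * p.1 : G) ∈ A := by
        intro p q e
        have hm := QuotientGroup.eq.1 (congrArg Subtype.val e.symm)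
        refine (memA _).2 ⟨M.mul_mem (M.inv_mem q.1.2) p.1.2, ?_⟩
        have h1 := (Nz M).mul_mem ((Nz M).mul_mem (q.2 : H).2.1 (Subgroup.le_normalizer hm))
          ((Nz M).inv_mem (p.2 : H).2.1)
        convert h1 using 1
        group
      have hsur : ∀ p q : M × K, Ψ p = Ψ q → p.1 = q.1 → p = q := by
        intro p q e e1
        have hm := QuotientGroup.eq.1 (congrArg Subtype.val e)
        rw [e1] at hm
        refine Prod.ext e1 (Subtype.ext (Subtype.ext (hinjN (p.2 : H).2 (q.2 : H).2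
          (QuotientGroup.eq.2 ?_))))
        convert hm using 1
        group
      let F : M × K → Bad × A := fun p =>
        (Ψ p, if h : ∃ q, Ψ q = Ψ p then ⟨(h.choose.1 : G)⁻¹ * p.1, hfib p h.choose h.choose_spec.symm⟩
          else 1)
      have hF : Function.Injective F := by
        intro p q e
        obtain ⟨e1, e2⟩ := Prod.mk.injEq .. ▸ e
        refine hsur p q e1 (Subtype.ext ?_)
        rw [dif_pos ⟨p, rfl⟩, dif_pos ⟨q, rfl⟩] at e2
        have e3 := congrArg Subtype.val e2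
        simp only at e3
        have : ∀ b b' : Bad, b = b' → ∀ (h : ∃ r, Ψ r = b) (h' : ∃ r, Ψ r = b'),
            h.choose = h'.choose := fun b b' hbb => by subst hbb; intro _ _; rfl
        rw [this _ _ e1 ⟨p, rfl⟩ ⟨q, rfl⟩] at e3
        exact mul_left_cancel e3
      have := Nat.card_le_card_of_injective F hF
      rw [Nat.card_prod, Nat.card_prod, Nat.card_coe_set_eq] at this
      exact this
    by_contra hle
    push Not at hle
    have h1 : Nat.card M * Nat.card A ≤ Nat.card M * Nat.card K := Nat.mul_le_mul_left _ hle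
    have hApos : 0 < Nat.card A := Nat.card_pos
    nlinarith
  -- swappers
  have hsw : ∀ k : H, k ∉ K → ∃ j, j * j = 1 ∧ g⁻¹ * j ∈ Nz M ∧ (g * (k : G))⁻¹ * j ∈ M := by
    intro k hk
    simp only [K, Bad, Set.mem_ofPred_eq, Set.mem_compl_iff, not_not] at hk
    rcases hk with ⟨i, ⟨hi, -⟩, e⟩ | ⟨n, hn, e⟩
    · have hm := QuotientGroup.eq.1 e.symm
      refine ⟨i, (sq_of_orderOf hi).1, ?_, hm⟩
      have := (Nz M).mul_mem k.2.1 (Subgroup.le_normalizer hm)
      convert this using 1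
      group
    · exfalso
      refine hg ?_
      have hm := QuotientGroup.eq.1 e
      have h1 := (Nz M).mul_mem ((Nz M).mul_mem hn.1 (Subgroup.le_normalizer hm))
        ((Nz M).inv_mem k.2.1)
      convert h1 using 1
      group
  let π : D →* H := hy.proj.comp (Subgroup.inclusion (inf_le_left : D ≤ Nz M))
  have hzE : zH ∈ π.range := by
    by_contra hz
    have hE := double _ hz
    have hne : ∃ k0 : H, k0 ∉ K := by
      by_contra h
      push Not at h
      have hu : K = Set.univ := Set.eq_univ_of_forall h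
      have e1 : Nat.card K = Nat.card H := by rw [hu, Nat.card_coe_set_eq, Set.ncard_univ]
      omega
    obtain ⟨k0, hk0⟩ := hne
    obtain ⟨j0, hj0, hj0N, hj0M⟩ := hsw k0 hk0
    let j : {k : H // k ∉ K} → G := fun k => (hsw k.1 k.2).choose
    have hj : ∀ k, j k * j k = 1 ∧ g⁻¹ * j k ∈ Nz M ∧ (g * ((k.1 : H) : G))⁻¹ * j k ∈ M :=
      fun k => (hsw k.1 k.2).choose_spec
    have hd : ∀ k, j0 * j k ∈ D := by
      intro k
      refine (memD _).2 ⟨?_, ?_⟩
      · have := (Nz M).mul_mem ((Nz M).inv_mem hj0N) (hj k).2.1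
        rw [mul_inv_rev, inv_inv, inv_of_sq hj0] at this
        convert this using 1
        group
      · have := (Nz M).mul_mem hj0N ((Nz M).inv_mem (hj k).2.1)
        rw [mul_inv_rev, inv_inv, inv_of_sq (hj k).1] at this
        convert this using 1
        group
    let f : {k : H // k ∉ K} → π.range := fun k => ⟨π ⟨_, hd k⟩, _, rfl⟩
    have hf : Function.Injective f := by
      intro a b e
      have e' : π ⟨_, hd a⟩ = π ⟨_, hd b⟩ := congrArg Subtype.val e
      have h1 : π (⟨_, hd a⟩⁻¹ * ⟨_, hd b⟩) = 1 := by rw [map_mul, map_inv, e', inv_mul_cancel]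
      have h2 : j a * j b ∈ M := by
        have := hy.proj_eq_one.1 h1
        simpa [mul_assoc, inv_of_sq (hj a).1, inv_of_sq hj0, ← mul_assoc j0 j0, hj0] using this
      refine Subtype.ext (Subtype.ext (hinjN a.1.2 b.1.2 (QuotientGroup.eq.2 ?_)))
      have := M.mul_mem (M.mul_mem (hj a).2.2 h2) (M.inv_mem (hj b).2.2)
      convert this using 1
      calc ((a.1 : H) : G)⁻¹ * ((b.1 : H) : G)
          = (g * ((a.1 : H) : G))⁻¹ * ((j a * j a) * (j b * (j b)⁻¹)) * (g * ((b.1 : H) : G)) := by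
            rw [(hj a).1, mul_inv_cancel]; group
        _ = _ := by simp only [mul_inv_rev, inv_inv, mul_assoc]
    have h1 : Nat.card {k : H // k ∉ K} ≤ Nat.card π.range := Nat.card_le_card_of_injective f hf
    have h2 : Nat.card K + Nat.card {k : H // k ∉ K} = Nat.card H := by
      rw [Nat.card_coe_set_eq, show Nat.card {k : H // k ∉ K} = (Kᶜ).ncard from
        Nat.card_coe_set_eq (Kᶜ), Set.ncard_add_ncard_compl]
    omega
  obtain ⟨⟨d, hd⟩, hd'⟩ := hzE
  obtain ⟨-, x, hx, e⟩ := hy.comp_spec ⟨d, ((memD d).1 hd).1⟩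
  have e0 : hy.comp ⟨d, ((memD d).1 hd).1⟩ = z := congrArg Subtype.val hd'
  rw [e0] at e
  have hd2 : g⁻¹ * (x * z) * g ∈ Nz M := by
    rw [e]; exact ((memD d).1 hd).2
  -- `A` is trivial
  have hA1 : ∀ a ∈ M, g⁻¹ * a * g ∈ Nz M → a = 1 := by
    intro a ha ha'
    set d' : G := g⁻¹ * (x * z) * g
    have hxz : x * z * (x * z) = 1 := by
      rw [mul_assoc x z, ← mul_assoc z x, hy.z_mul hx, mul_assoc x⁻¹, hy.zz, mul_one, mul_inv_cancel]
    have hxz1 : x * z ≠ 1 := fun h => hy.z_notMem (by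
      rw [mul_eq_one_iff_eq_inv] at h
      rw [← inv_inv z, ← h]
      exact M.inv_mem hx)
    have hd'2 : d' * d' = 1 := by
      calc d' * d' = g⁻¹ * (x * z * (x * z)) * g := by simp only [d']; group
        _ = 1 := by rw [hxz]; group
    have hd'1 : d' ≠ 1 := fun h => hxz1 (by
      calc x * z = g * d' * g⁻¹ := by simp only [d']; group
        _ = 1 := by rw [h]; group)
    have hinv : x * z * a * (x * z) = a⁻¹ :=
      hy.inverts hxz hxz1 ((Nz M).mul_mem (Subgroup.le_normalizer hx) hy.mem) ha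
    set a' : G := g⁻¹ * a * g
    have hinv' : d' * a' * d' = a'⁻¹ := by
      calc d' * a' * d' = g⁻¹ * (x * z * a * (x * z)) * g := by simp only [d', a']; group
        _ = a'⁻¹ := by rw [hinv]; simp only [a']; group
    -- `a'` lies in `M` or squares to one
    obtain ⟨y, hy', rfl'⟩ := hy.invol_N hd'2 hd'1 hd2
    have hp : hy.proj ⟨d', hd2⟩ = zH := Subtype.ext (hy.comp_eq hy' hy.z_mem_Hz rfl'.symm)
    have hp2 : hy.proj ⟨a', ha'⟩ * hy.proj ⟨a', ha'⟩ = 1 := by
      have h1 : (⟨d', hd2⟩ : Nz M) * ⟨a', ha'⟩ * ⟨d', hd2⟩ = (⟨a', ha'⟩ : Nz M)⁻¹ := Subtype.ext hinv'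
      have h2 := congrArg hy.proj h1
      rw [map_mul, map_mul, map_inv, hp] at h2
      have hc : zH * hy.proj ⟨a', ha'⟩ = hy.proj ⟨a', ha'⟩ * zH :=
        Subtype.ext (mem_Cz.1 (hy.proj ⟨a', ha'⟩).2.2)
      rw [hc, mul_assoc, zHsq, mul_one] at h2
      nth_rw 1 [h2]
      exact inv_mul_cancel _
    have hsq : a * a ∈ M ∧ g⁻¹ * (a * a) * g ∈ M := by
      refine ⟨M.mul_mem ha ha, ?_⟩
      have : hy.proj (⟨a', ha'⟩ * ⟨a', ha'⟩) = 1 := by rw [map_mul, hp2]
      have := hy.proj_eq_one.1 this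
      convert this using 1
      simp only [a', Subgroup.coe_mul]
      group
    refine hy.two_free ha (by_contra fun h1 => hg ?_)
    have h2 : g⁻¹ ∈ Nz M := hy.ti (a * a) hsq.1 h1 g⁻¹ (by rw [inv_inv]; exact hsq.2)
    simpa using (Nz M).inv_mem h2
  refine ⟨hA1, ⟨x, hx, hd2⟩, ?_⟩
  have hAcard : Nat.card A = 1 := Subgroup.card_eq_one.2
    ((Subgroup.eq_bot_iff_forall _).2 fun a ha => hA1 a ((memA a).1 ha).1 ((memA a).1 ha).2)
  have hK0 : (1 : H) ∉ K := by
    intro h
    have : 0 < Nat.card K := Nat.card_pos_iff.2 ⟨⟨⟨1, h⟩⟩, inferInstance⟩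
    omega
  obtain ⟨j, hj, -, hjM⟩ := hsw 1 hK0
  refine ⟨_, hjM, ?_⟩
  simp only [Subgroup.coe_one, mul_one, mul_inv_cancel_left]
  exact hj

end Global

end Cfsg.Agent.TI85
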