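import Cfsg.Agent.Lib.TI85Struct
import Cfsg.Agent.Lib.ZassenhausCoord
import Cfsg.Agent.Lib.ZassenhausSharp
import Cfsg.Agent.Lib.ZassenhausInverted28
import Cfsg.Prelude.Def_Transfer

/-!
The case `|C(z) : C_N(z)| = 2`: `G` is `PGL₂(q)` or `PSL₂(q)`, `q ≡ 1 mod 4`, with `q = |M|`.
-/

set_option autoImplicit false
set_option linter.unusedSectionVars false
set_option linter.style.haveILetI false

open scoped OnePoint

namespace Cfsg.Agent.TI85

open Subgroup

universe u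

variable {G : Type u} [Group G] [Finite G] {M : Subgroup G} {z : G} (hb : Big M z)
include hb

/-- `C_N(z)` acting on an invariant set of non-trivial elements of `M`. -/
theorem Big.dvd_invariant (hne : (Out M z).Nonempty) (S : Set G) (hSM : S ⊆ (M : Set G))
    (h1 : (1 : G) ∉ S) (hS : ∀ k ∈ Hz M z, ∀ x ∈ S, k * x * k⁻¹ ∈ S) :
    Nat.card (Hz M z) ∣ S.ncard := by
  classical
  let _ : MulAction (Hz M z) S :=
    { smul := fun k x => ⟨(k : G) * x * (k : G)⁻¹, hS k k.2 x x.2⟩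
      one_smul := fun x => Subtype.ext (show ((1 : Hz M z) : G) * x * ((1 : Hz M z) : G)⁻¹ = x by simp)
      mul_smul := fun k l x => Subtype.ext
        (show ((k * l : Hz M z) : G) * x * ((k * l : Hz M z) : G)⁻¹
            = (k : G) * ((l : G) * x * (l : G)⁻¹) * (k : G)⁻¹ by
          rw [Subgroup.coe_mul]; group) }
  rw [← Nat.card_coe_set_eq]
  have e : S ≃ MulAction.orbitRel.Quotient (Hz M z) S × Hz M z :=
    MulAction.selfEquivOrbitsQuotientProd fun x => (Subgroup.eq_bot_iff_forall _).2 fun k hk => by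
      have hk' : (k : G) * x * (k : G)⁻¹ = x := congrArg Subtype.val hk
      exact Subtype.ext (hb.semiregular hne k.2 (hSM x.2) (fun e => h1 (e ▸ x.2))
        (mul_inv_eq_iff_eq_mul.1 hk'))
  exact ⟨_, (Nat.card_congr e).trans ((Nat.card_prod _ _).trans (Nat.mul_comm _ _))⟩

/-- With at most two orbits `M` is elementary abelian. -/
theorem Big.elementary (hne : (Out M z).Nonempty)
    (hd : Nat.card M - 1 ≤ 2 * Nat.card (Hz M z)) :
    ∃ p : ℕ, p.Prime ∧ (∃ k, Nat.card M = p ^ k) ∧ Cfsg.IsElementaryAbelian p M := by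
  classical
  have hy := hb.toHyp
  have hm : 1 < Nat.card M := M.one_lt_card_iff_ne_bot.2 hy.ne_bot
  obtain ⟨p, hp, hpd⟩ := Nat.exists_prime_and_dvd (show Nat.card M ≠ 1 by omega)
  haveI := Fact.mk hp
  refine ⟨p, hp, ?_⟩
  let W : Subgroup G :=
    { carrier := {x | x ∈ M ∧ x ^ p = 1}
      one_mem' := ⟨M.one_mem, one_pow p⟩
      mul_mem' := fun {a b} ha hb' => ⟨M.mul_mem ha.1 hb'.1, by
        rw [(show Commute a b from hy.comm ha.1 hb'.1).mul_pow, ha.2, hb'.2, one_mul]⟩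
      inv_mem' := fun {a} ha => ⟨M.inv_mem ha.1, by rw [inv_pow, ha.2, inv_one]⟩ }
  have memW : ∀ x, x ∈ W ↔ x ∈ M ∧ x ^ p = 1 := fun x => Iff.rfl
  have hWM : W ≤ M := fun x hx => hx.1
  have hW1 : 1 < Nat.card W := by
    obtain ⟨x, hx⟩ := exists_prime_orderOf_dvd_card' p hpd
    refine W.one_lt_card_iff_ne_bot.2 fun h => ?_
    have hxW : (x : G) ∈ W := ⟨x.2, by
      rw [← Subgroup.coe_pow, ← hx, pow_orderOf_eq_one, Subgroup.coe_one]⟩
    rw [h, Subgroup.mem_bot, OneMemClass.coe_eq_one] at hxW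
    rw [hxW, orderOf_one] at hx
    exact hp.ne_one hx.symm
  have hconj : ∀ k ∈ Hz M z, ∀ x, x ∈ W → k * x * k⁻¹ ∈ W := fun k hk x hx =>
    ⟨conj_mem_of_mem_Nz hk.1 hx.1, by rw [conj_pow, hx.2, mul_one, mul_inv_cancel]⟩
  have hnW : (W : Set G).ncard = Nat.card W := (Nat.card_coe_set_eq _).symm
  have hnM : (M : Set G).ncard = Nat.card M := (Nat.card_coe_set_eq _).symm
  have d1 := hb.dvd_invariant hne ((W : Set G) \ {1}) (fun x hx => hWM hx.1)
    (fun h => h.2 rfl) fun k hk x hx => ⟨hconj k hk x hx.1, fun h => hx.2 (conj_eq_one_iff.1 h)⟩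
  have d2 := hb.dvd_invariant hne ((M : Set G) \ (W : Set G)) (fun x hx => hx.1)
    (fun h => h.2 W.one_mem) fun k hk x hx => ⟨conj_mem_of_mem_Nz hk.1 hx.1, fun h => hx.2 (by
      have h2 := hconj k⁻¹ ((Hz M z).inv_mem hk) _ h
      show x ∈ W
      convert h2 using 1
      group)⟩
  rw [Set.ncard_sdiff_singleton_of_mem W.one_mem, hnW] at d1
  rw [Set.ncard_sdiff (fun x hx => hWM hx), hnW, hnM] at d2
  have hle : Nat.card W ≤ Nat.card M := Subgroup.card_le_of_le hWM
  have hWeq : W = M := by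
    refine Subgroup.eq_of_le_of_card_ge hWM ?_
    by_contra hlt
    push Not at hlt
    have hh : 0 < Nat.card (Hz M z) := Nat.card_pos
    have h1' := Nat.le_of_dvd (by omega) d1
    have h2' := Nat.le_of_dvd (by omega) d2
    obtain ⟨c, hc⟩ := Subgroup.card_dvd_of_le hWM
    rcases c with _ | _ | c
    · omega
    · omega
    · have e1 : Nat.card W = Nat.card (Hz M z) + 1 := by omega
      have e2 : Nat.card M = 2 * Nat.card (Hz M z) + 1 := by omega
      rw [e1, e2] at hc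
      nlinarith
  have hexp : ∀ x ∈ M, x ^ p = 1 := fun x hx => ((memW x).1 (hWeq.symm ▸ hx)).2
  refine ⟨?_, ⟨⟨⟨fun a b => Subtype.ext (hy.comm a.2 b.2)⟩⟩, hexp⟩⟩
  have hP : IsPGroup p M := fun x => ⟨1, Subtype.ext (by
    rw [pow_one, Subgroup.coe_pow, Subgroup.coe_one]; exact hexp x x.2)⟩
  exact IsPGroup.iff_card.1 hP

/-- The number of conjugates of `z`. -/
theorem Big.class_le : Nat.card G / Nat.card (Cz z) ≤ (Inv G).ncard ∧
    (Nat.card G / Nat.card (Cz z) = (Inv G).ncard → ∀ j, j * j = 1 → j ≠ 1 →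
      ∃ g : G, g * z * g⁻¹ = j) := by
  classical
  have hy := hb.toHyp
  have hidx : Nat.card G / Nat.card (Cz z) = Nat.card (G ⧸ Cz z) := by
    rw [Subgroup.card_eq_card_quotient_mul_card_subgroup (Cz z), Nat.mul_div_cancel _ Nat.card_pos]
  let f : G ⧸ Cz z → Inv G := fun q => ⟨q.out * z * q.out⁻¹, by
    show orderOf _ = 2
    rw [← hy.ord]
    exact (MulEquiv.orderOf_eq (MulAut.conj q.out) z)⟩
  have hf : Function.Injective f := by
    intro p q e
    have e' : p.out * z * p.out⁻¹ = q.out * z * q.out⁻¹ := congrArg Subtype.val e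
    rw [← QuotientGroup.out_eq' p, ← QuotientGroup.out_eq' q]
    refine QuotientGroup.eq.2 (mem_Cz.2 ?_)
    calc z * (p.out⁻¹ * q.out) = p.out⁻¹ * (p.out * z * p.out⁻¹) * q.out := by group
      _ = p.out⁻¹ * q.out * z := by rw [e']; group
  refine ⟨?_, fun h j hj hj1 => ?_⟩
  · rw [hidx, ← Nat.card_coe_set_eq]
    exact Nat.card_le_card_of_injective f hf
  · rw [hidx, ← Nat.card_coe_set_eq] at h
    obtain ⟨q, hq⟩ := ((Nat.bijective_iff_injective_and_card f).2 ⟨hf, h⟩).2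
      ⟨j, orderOf_two hj hj1⟩
    exact ⟨q.out, congrArg Subtype.val hq⟩

theorem Big.line_case (hne : (Out M z).Nonempty)
    (hpair : ∀ c ∈ Out M z, ∀ d ∈ Out M z, c * d ∈ Nz M) :
    ∃ (F : Type) (_ : Field F) (_ : Fintype F) (p : ℕ) (_ : Fact p.Prime) (_ : CharP F p),
      Fintype.card F = Nat.card M ∧ Cfsg.IsElementaryAbelian p M ∧
        (Nonempty (G ≃* (GL (Fin 2) F ⧸ Subgroup.center (GL (Fin 2) F))) ∨
         (Fintype.card F % 4 = 1 ∧
          Nonempty (G ≃* Matrix.ProjectiveSpecialLinearGroup (Fin 2) F))) := by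
  classical
  have hy := hb.toHyp
  obtain ⟨c₀, hc₀⟩ := hne
  have hne : (Out M z).Nonempty := ⟨c₀, hc₀⟩
  have hc₀2 := hb.out_invol hc₀
  obtain ⟨hA₀, -, -⟩ := hb.master hc₀.2
  let a : G ⧸ Nz M := ((1 : G) : G ⧸ Nz M)
  let b : G ⧸ Nz M := (c₀ : G ⧸ Nz M)
  have fixa : ∀ g : G, g • a = a ↔ g ∈ Nz M := fun g => by
    show ((g * 1 : G) : G ⧸ Nz M) = _ ↔ _
    rw [mul_one, QuotientGroup.eq, mul_one, Subgroup.inv_mem_iff]
  have fixb : ∀ g : G, g • b = b ↔ c₀ * g * c₀ ∈ Nz M := fun g => by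
    show ((g * c₀ : G) : G ⧸ Nz M) = _ ↔ _
    rw [QuotientGroup.eq, mul_inv_rev, inv_of_sq hc₀2, ← Subgroup.inv_mem_iff]
    simp [mul_assoc, inv_of_sq hc₀2]
  have hab : a ≠ b := fun e => hc₀.2 (by
    have := QuotientGroup.eq.1 e
    rwa [inv_one, one_mul] at this)
  have trM : ∀ y, y ≠ a → ∃ x ∈ M, x • b = y := by
    intro y hy'
    obtain ⟨g, rfl⟩ := QuotientGroup.mk_surjective y
    have hg : g ∉ Nz M := fun h => hy' (QuotientGroup.eq.2 (by
      rw [mul_one]; exact (Nz M).inv_mem h))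
    obtain ⟨x, hx, c, hc, w, hw, rfl⟩ := hb.decomp hg
    refine ⟨x, hx, ?_⟩
    show ((x * c₀ : G) : G ⧸ Nz M) = _
    rw [QuotientGroup.eq]
    have : (x * c₀)⁻¹ * (x * c * w) = c₀ * c * w := by
      rw [mul_inv_rev, inv_of_sq hc₀2]; group
    rw [this]
    exact (Nz M).mul_mem (hpair _ hc₀ _ hc) (Subgroup.le_normalizer hw)
  have hfree : ∀ x ∈ M, ∀ y, y ≠ a → x • y = y → x = 1 := by
    intro x hx y hy' e
    obtain ⟨x', hx', rfl⟩ := trM y hy'
    have : x • b = b := by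
      rw [← mul_smul, hy.comm hx hx', mul_smul] at e
      exact smul_left_cancel x' e
    refine hA₀ x hx ?_
    rw [inv_of_sq hc₀2]
    exact (fixb x).1 this
  have htwo : Cfsg.Agent.Zassenhaus.two G a b = Hz M z := by
    ext g
    rw [Cfsg.Agent.Zassenhaus.mem_two, fixa, fixb]
    constructor
    · rintro ⟨hgN, hg⟩
      obtain ⟨x, hx, k, hk, rfl⟩ := hy.fac g hgN
      have hk' : c₀ * k * c₀ = k⁻¹ := hb.H_inverted hc₀ hk
      have e : c₀ * (x * k) * c₀ = (c₀ * x * c₀) * k⁻¹ := by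
        rw [← hk']
        calc c₀ * (x * k) * c₀ = c₀ * x * (c₀ * c₀) * k * c₀ := by rw [hc₀2, mul_one]; group
          _ = _ := by group
      rw [e] at hg
      have := (Nz M).mul_mem hg hk.1
      rw [inv_mul_cancel_right] at this
      have hx1 : x = 1 := hA₀ x hx (by rwa [inv_of_sq hc₀2])
      rw [hx1, one_mul]
      exact hk
    · intro hk
      exact ⟨hk.1, by rw [hb.H_inverted hc₀ hk]; exact (Nz M).inv_mem hk.1⟩
  have hpair2 : ∀ p q r s : G ⧸ Nz M, p ≠ q → r ≠ s → ∃ g : G, g • p = r ∧ g • q = s := by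
    have key : ∀ p q : G ⧸ Nz M, p ≠ q → ∃ g : G, g • a = p ∧ g • b = q := by
      intro p q hpq
      obtain ⟨g, rfl⟩ := QuotientGroup.mk_surjective p
      have hga : g • a = (g : G ⧸ Nz M) := by
        show ((g * 1 : G) : G ⧸ Nz M) = _
        rw [mul_one]
      obtain ⟨x, hx, e⟩ := trM (g⁻¹ • q) (fun e => hpq (by rw [← hga, ← e, smul_inv_smul]))
      refine ⟨g * x, ?_, ?_⟩
      · rw [mul_smul, (fixa x).2 (Subgroup.le_normalizer hx), hga]
      · rw [mul_smul, e, smul_inv_smul]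
    intro p q r s hpq hrs
    obtain ⟨g₁, h1, h2⟩ := key p q hpq
    obtain ⟨g₂, h3, h4⟩ := key r s hrs
    refine ⟨g₂ * g₁⁻¹, ?_, ?_⟩
    · rw [mul_smul, ← h1, inv_smul_smul, h3]
    · rw [mul_smul, ← h2, inv_smul_smul, h4]
  have hthree : ∀ g : G, ∀ p q r : G ⧸ Nz M, p ≠ q → q ≠ r → p ≠ r →
      g • p = p → g • q = q → g • r = r → g = 1 := by
    intro g p q r hpq hqr hpr hp hq hr
    obtain ⟨g₀, h1, h2⟩ := hpair2 a b p q hab hpq
    set k := g₀⁻¹ * g * g₀ with hk'
    have hfix : ∀ y : G ⧸ Nz M, g • (g₀ • y) = g₀ • y → k • y = y := fun y h => by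
      rw [hk', mul_smul, mul_smul, h, inv_smul_smul]
    have hka := hfix a (by rw [h1]; exact hp)
    have hkb := hfix b (by rw [h2]; exact hq)
    have hkr := hfix (g₀⁻¹ • r) (by rw [smul_inv_smul]; exact hr)
    have hk : k ∈ Hz M z := htwo ▸ (⟨hka, hkb⟩ : k ∈ Cfsg.Agent.Zassenhaus.two G a b)
    obtain ⟨x, hx, e⟩ := trM (g₀⁻¹ • r) (fun e => hpr (by rw [← h1, ← e, smul_inv_smul]))
    have hx1 : x ≠ 1 := fun h => hqr (by
      rw [h, one_smul] at e
      rw [← h2, e, smul_inv_smul])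
    rw [← e] at hkr
    set k' := x⁻¹ * k * x
    have hxN : x ∈ Nz M := Subgroup.le_normalizer hx
    have hk'a : k' • a = a := (fixa _).2
      ((Nz M).mul_mem ((Nz M).mul_mem ((Nz M).inv_mem hxN) hk.1) hxN)
    have hk'b : k' • b = b := by
      show (x⁻¹ * k * x) • b = b
      rw [mul_smul, mul_smul, hkr, inv_smul_smul]
    have hk'H : k' ∈ Hz M z := htwo ▸ (⟨hk'a, hk'b⟩ : k' ∈ Cfsg.Agent.Zassenhaus.two G a b)
    have hm : x⁻¹ * (k * x * k⁻¹) ∈ M :=
      M.mul_mem (M.inv_mem hx) (conj_mem_of_mem_Nz hk.1 hx)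
    have h0 : x⁻¹ * (k * x * k⁻¹) = 1 := hy.M_cap_C hm (by
      have : x⁻¹ * (k * x * k⁻¹) = k' * k⁻¹ := by simp only [k']; group
      rw [this]
      exact (Cz z).mul_mem hk'H.2 ((Cz z).inv_mem hk.2))
    have hk1 : k = 1 := hb.semiregular hne hk hx hx1 (mul_inv_eq_iff_eq_mul.1
      (inv_mul_eq_one.1 h0).symm)
    calc g = g₀ * k * g₀⁻¹ := by rw [hk']; group
      _ = 1 := by rw [hk1]; group
  have hout : Nat.card (Out M z) = Nat.card (Hz M z) := by
    refine (Nat.card_congr (Equiv.ofBijective (fun k : Hz M z =>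
      (⟨c₀ * k, hb.out_mul hc₀ k.2⟩ : Out M z)) ⟨fun k l e => ?_, ?_⟩)).symm
    · exact Subtype.ext (mul_left_cancel (congrArg Subtype.val e))
    · rintro ⟨c, hc⟩
      refine ⟨⟨c₀ * c, hpair _ hc₀ _ hc, (Cz z).mul_mem hc₀.1 hc.1⟩, Subtype.ext ?_⟩
      show c₀ * (c₀ * c) = c
      rw [← mul_assoc, hc₀2, one_mul]
  set m := Nat.card M
  set h := Nat.card (Hz M z)
  have hm1 : 1 < m := M.one_lt_card_iff_ne_bot.2 hy.ne_bot
  have hh0 : 0 < h := Nat.card_pos
  have hG : Nat.card G = m * h * (m + 1) := by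
    rw [hb.card_G, hout]; ring
  have hC : Nat.card (Cz z) = 2 * h := by rw [← hb.card_out, hout]; ring
  have hI : (Inv G).ncard = m * (1 + h) := by rw [hb.card_Inv, hout]
  have hclass := hb.class_le
  have hdiv : Nat.card G / Nat.card (Cz z) * 2 = m * (m + 1) := by
    have h1 := (Cz z).index_mul_card
    have h2 : Nat.card G / Nat.card (Cz z) = (Cz z).index := by
      rw [← h1, Nat.mul_div_cancel _ Nat.card_pos]
    rw [h2]
    apply Nat.eq_of_mul_eq_mul_right hh0
    rw [hC, hG] at h1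
    linarith
  have hm2 : m ≤ 2 * h + 1 := by
    have := hclass.1
    rw [hI] at this
    have : m * (m + 1) ≤ m * (1 + h) * 2 := by rw [← hdiv]; omega
    rw [mul_assoc] at this
    have := Nat.le_of_mul_le_mul_left this (by omega)
    omega
  haveI : Finite (G ⧸ Nz M) := inferInstance
  have hidx : Nat.card (G ⧸ Nz M) = m + 1 := by
    have h1 := Subgroup.card_eq_card_quotient_mul_card_subgroup (Nz M)
    rw [hy.card_N, hG] at h1
    refine (Nat.eq_of_mul_eq_mul_right (Nat.mul_pos (show 0 < m by omega) hh0) ?_).symm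
    rw [mul_comm (m + 1)]
    exact h1
  have hP : Cfsg.Agent.Zassenhaus.Pre G (G ⧸ Nz M) := by
    refine ⟨⟨fun {g g'} e => ?_⟩, hpair2, hthree, ?_⟩
    · obtain ⟨x, hx, hx1⟩ := M.bot_or_exists_ne_one.resolve_left hy.ne_bot
      have hr1 : x • b ≠ a := fun e' => hab (by
        calc a = x⁻¹ • a := ((fixa x⁻¹).2 ((Nz M).inv_mem (Subgroup.le_normalizer hx))).symm
          _ = x⁻¹ • (x • b) := by rw [e']
          _ = b := inv_smul_smul x b)
      have hfix : ∀ y : G ⧸ Nz M, (g⁻¹ * g') • y = y := fun y => by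
        rw [mul_smul, ← e y, inv_smul_smul]
      exact inv_mul_eq_one.1 (hthree (g⁻¹ * g') a b (x • b) hab
        (fun e' => hx1 (hfree x hx b hab.symm e'.symm)) hr1.symm (hfix a) (hfix b) (hfix _))
    · intro p q hpq
      obtain ⟨g, h1, h2⟩ := hpair2 a b p q hab hpq
      refine ⟨g * z * g⁻¹, ⟨?_, ?_⟩, fun e => hy.z_ne (conj_eq_one_iff.1 e)⟩
      · have hz : z ∈ Cfsg.Agent.Zassenhaus.two G a b := htwo.symm ▸ hy.z_mem_Hz
        show (g * z * g⁻¹) • p = p
        rw [mul_smul, mul_smul, inv_smul_eq_iff.2 h1.symm, hz.1, h1]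
      · have hz : z ∈ Cfsg.Agent.Zassenhaus.two G a b := htwo.symm ▸ hy.z_mem_Hz
        show (g * z * g⁻¹) • q = q
        rw [mul_smul, mul_smul, inv_smul_eq_iff.2 h2.symm, hz.2, h2]
  obtain ⟨V, hVg, ρ, act, e, hA, he, hea, heb, -⟩ :=
    Cfsg.Agent.Zassenhaus.exists_affine hP hab (K := M)
      (fun x hx => (fixa x).2 (Subgroup.le_normalizer hx))
      (fun g hg x hx => conj_mem_of_mem_Nz ((fixa g).1 hg) hx)
      (fun y w hy' hw' => by
        obtain ⟨x, hx, e1⟩ := trM y hy'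
        obtain ⟨x', hx', e2⟩ := trM w hw'
        exact ⟨x' * x⁻¹, M.mul_mem hx' (M.inv_mem hx), by
          rw [mul_smul, ← e1, inv_smul_smul, e2]⟩)
      hfree (fun x hx y hy' => hy.comm hx hy')
  haveI : Finite (OnePoint V) := Finite.of_equiv _ e.symm
  haveI : Finite V := Finite.of_injective (fun v : V => (v : OnePoint V)) OnePoint.coe_injective
  have hV : Nat.card V = m := by
    have h1 : Nat.card (OnePoint V) = Nat.card V + 1 := Finite.card_option
    rw [Nat.card_congr e, hidx] at h1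
    omega
  haveI : Nontrivial V := Finite.one_lt_card_iff_nontrivial.1 (by omega)
  have htc : Nat.card (Cfsg.Agent.Zassenhaus.two G a b) = h := by rw [htwo]
  have hdvd := hA.card_dvd
  rw [htc, hV] at hdvd
  have hcases : m = h + 1 ∨ m = 2 * h + 1 := by
    obtain ⟨c, hc⟩ := hdvd
    rcases c with _ | _ | _ | c
    · omega
    · omega
    · omega
    · have : h * 3 ≤ h * (c + 1 + 1 + 1) := Nat.mul_le_mul_left _ (by omega)
      omega
  have hheven : Even h := by
    have h1 := orderOf_dvd_natCard (⟨z, hy.z_mem_Hz⟩ : Hz M z)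
    rw [Subgroup.orderOf_mk, hy.ord] at h1
    exact even_iff_two_dvd.2 h1
  obtain ⟨p, hp, ⟨k, hk⟩, hel⟩ := hb.elementary hne (by omega)
  haveI := Fact.mk hp
  have hchar : ∀ (F : Type) [Field F] [Fintype F], Fintype.card F = m → CharP F p := by
    intro F _ _ hF
    obtain ⟨q, hq, n, hn, hqn⟩ := FiniteField.card' F
    have e1 : q ^ (n : ℕ) = p ^ k := by rw [← hqn, hF]; exact hk
    have : q = p := (Nat.prime_dvd_prime_iff_eq hn hp).1
      (hn.dvd_of_dvd_pow (e1 ▸ dvd_pow_self q n.ne_zero))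
    exact this ▸ hq
  rcases hcases with hcase | hcase
  · -- sharply triply transitive
    have htrans : ∀ v w : V, v ≠ 0 → w ≠ 0 →
        ∃ k : Cfsg.Agent.Zassenhaus.two G a b, act k v = w := by
      intro v w hv hw
      have hinj : Function.Injective (fun k : Cfsg.Agent.Zassenhaus.two G a b =>
          (⟨act k v, fun h0 => hv ((hA.act_eq_zero_iff k).1 h0)⟩ : {u : V // u ≠ 0})) := by
        intro k l e
        have e' : act k v = act l v := congrArg Subtype.val e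
        refine inv_mul_eq_one.1 (hA.free hv ?_)
        rw [map_mul]
        show act k⁻¹ (act l v) = v
        rw [← e', show act k⁻¹ (act k v) = act (k⁻¹ * k) v by rw [map_mul]; rfl, inv_mul_cancel,
          map_one]
        rfl
      have hc : Nat.card (Cfsg.Agent.Zassenhaus.two G a b) = Nat.card {u : V // u ≠ 0} := by
        have h2 : Nat.card {u : V // u ≠ 0} = ({(0 : V)}ᶜ : Set V).ncard :=
          Nat.card_coe_set_eq _
        rw [h2, Set.ncard_compl, Set.ncard_singleton, htc, hV]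
        omega
      obtain ⟨k, hk'⟩ := ((Nat.bijective_iff_injective_and_card _).2 ⟨hinj, hc⟩).2 ⟨w, hw⟩
      exact ⟨k, congrArg Subtype.val hk'⟩
    have h3 : ∀ x y w : OnePoint V, x ≠ y → x ≠ w → y ≠ w → ∀ x' y' w' : OnePoint V, x' ≠ y' →
        x' ≠ w' → y' ≠ w' → ∃ g, ρ g x = x' ∧ ρ g y = y' ∧ ρ g w = w' := by
      intro x y w hxy hxw hyw x' y' w' hxy' hxw' hyw'
      have hai : ∀ (π : Equiv.Perm (OnePoint V)) (u : OnePoint V), π (π⁻¹ u) = u :=
        fun π u => Equiv.apply_symm_apply π u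
      have hia : ∀ (π : Equiv.Perm (OnePoint V)) (u : OnePoint V), π⁻¹ (π u) = u :=
        fun π u => Equiv.symm_apply_apply π u
      have key : ∀ x y w : OnePoint V, x ≠ y → x ≠ w → y ≠ w → ∀ v : V, v ≠ 0 →
          ∃ g, ρ g ∞ = x ∧ ρ g ((0 : V) : OnePoint V) = y ∧ ρ g (v : OnePoint V) = w := by
        intro x y w hxy hxw hyw v hv
        obtain ⟨g, g1, g2⟩ := hA.two ∞ ((0 : V) : OnePoint V) x y (OnePoint.infty_ne_coe _) hxy
        obtain ⟨u, hu⟩ : ∃ u : V, (ρ g)⁻¹ w = (u : OnePoint V) := by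
          rcases h' : (ρ g)⁻¹ w with _ | u
          · exact absurd (by rw [← g1, ← show (ρ g)⁻¹ w = ∞ from h', hai]) hxw
          · exact ⟨u, rfl⟩
        have hu' : ρ g (u : OnePoint V) = w := by rw [← hu, hai]
        have hu0 : u ≠ 0 := fun h0 => hyw (by rw [← g2, ← hu', h0])
        obtain ⟨k, hk'⟩ := htrans v u hv hu0
        refine ⟨g * k, ?_, ?_, ?_⟩
        · rw [map_mul, Equiv.Perm.mul_apply, hA.lin_infty, g1]
        · rw [map_mul, Equiv.Perm.mul_apply, hA.lin, map_zero, g2]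
        · rw [map_mul, Equiv.Perm.mul_apply, hA.lin, hk', hu']
      obtain ⟨v, hv⟩ := _root_.exists_ne (0 : V)
      obtain ⟨g₁, a1, b1, c1⟩ := key x y w hxy hxw hyw v hv
      obtain ⟨g₂, a2, b2, c2⟩ := key x' y' w' hxy' hxw' hyw' v hv
      refine ⟨g₂ * g₁⁻¹, ?_, ?_, ?_⟩ <;>
        rw [map_mul, Equiv.Perm.mul_apply, map_inv]
      · rw [← a1, hia, a2]
      · rw [← b1, hia, b2]
      · rw [← c1, hia, c2]
    have hswap : ∀ g, ρ g ∞ = ((0 : V) : OnePoint V) → ρ g ((0 : V) : OnePoint V) = ∞ →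
        g * g = 1 := by
      intro g g1 g2
      have ha' : g • a = b := by rw [← hea, ← he, g1, heb]
      have hb' : g • b = a := by rw [← heb, ← he, g2, hea]
      refine hb.swap_invol (fun h => hab ?_) ((fixa _).1 ?_)
      · rw [← ha', (fixa g).2 h]
      · rw [mul_smul, ha', hb']
    obtain ⟨F, iF, iFt, hF, hiso⟩ :=
      Cfsg.Agent.ZassenhausInverted28.pgl_of_swaps hA h3 hswap
    exact ⟨F, iF, iFt, p, inferInstance, hchar F (hF.trans hV), hF.trans hV, hel, Or.inl hiso⟩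
  · -- the half case
    have hall : Nat.card G / Nat.card (Cz z) = (Inv G).ncard := by
      rw [hI]
      have : m * (m + 1) = m * (1 + h) * 2 := by rw [hcase]; ring
      omega
    have hnf : ∀ g : G, g * g = 1 → g ≠ 1 → ∃ x, ρ g x = x := by
      intro g hg hg1
      obtain ⟨s, rfl⟩ := hclass.2 hall g hg hg1
      refine ⟨e.symm (s • a), e.injective ?_⟩
      rw [he, e.apply_symm_apply, mul_smul, mul_smul, inv_smul_smul, (fixa z).2 hy.mem]
    obtain ⟨F, iF, iFt, hF, hiso⟩ := hA.half_psl2 (by rw [htc]; exact hheven) hnf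
      (by rw [htc, hV]; exact hcase)
    refine ⟨F, iF, iFt, p, inferInstance, hchar F (hF.trans hV), hF.trans hV, hel,
      Or.inr ⟨?_, hiso⟩⟩
    rw [hF.trans hV, hcase]
    obtain ⟨j, hj⟩ := hheven
    omega

end Cfsg.Agent.TI85
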