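import Cfsg.Agent.Lib.TI85Line
import Cfsg.Agent.Lib.FrobeniusFPF
import Cfsg.Agent.S1230

/-!
The case `|C_N(z)| = 2`: `G` is `PSL₂(2^e)` with `|M| = 2^e + 1`, or an elementary abelian group
extended by a dihedral group.
-/

set_option autoImplicit false
set_option linter.unusedSectionVars false
set_option linter.style.haveILetI false

namespace Cfsg.Agent.TI85

open Subgroup

universe u

variable {G : Type u} [Group G] [Finite G] {M : Subgroup G} {z : G} (hb : Big M z)
include hb

theorem Big.H_two (hh : Nat.card (Hz M z) = 2) {k : G} (hk : k ∈ Hz M z) : k = 1 ∨ k = z := by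
  have hy := hb.toHyp
  by_cases hk1 : k = 1
  · exact Or.inl hk1
  refine Or.inr (hy.H_invol hk ?_ hk1)
  have h : (⟨k, hk⟩ : Hz M z) ^ 2 = 1 := by rw [← hh]; exact pow_card_eq_one'
  have h2 := congrArg Subtype.val h
  rw [Subgroup.coe_pow, Subgroup.coe_one, pow_two] at h2
  exact h2

theorem Big.C_sq (hh : Nat.card (Hz M z) = 2) {c : G} (hc : c ∈ Cz z) : c * c = 1 := by
  by_cases hN : c ∈ Nz M
  · rcases hb.H_two hh ⟨hN, hc⟩ with h | h <;> rw [h]
    · exact mul_one 1
    · exact hb.toHyp.zz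
  · exact hb.out_invol ⟨hc, hN⟩

theorem Big.C_comm (hh : Nat.card (Hz M z) = 2) {c d : G} (hc : c ∈ Cz z) (hd : d ∈ Cz z) :
    c * d = d * c := by
  have h := hb.C_sq hh ((Cz z).mul_mem hc hd)
  calc c * d = (c * d)⁻¹ := (inv_of_sq h).symm
    _ = d⁻¹ * c⁻¹ := mul_inv_rev c d
    _ = d * c := by rw [inv_of_sq (hb.C_sq hh hc), inv_of_sq (hb.C_sq hh hd)]

/-- Numerical data. -/
theorem Big.small_arith (hh : Nat.card (Hz M z) = 2) (hne : (Out M z).Nonempty) :
    ∃ d : ℕ, 1 ≤ d ∧ Nat.card (Cz z) = 2 * 2 ^ d ∧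
      Nat.card (Out M z) = 2 * (2 ^ d - 1) ∧
      (Nat.card M = 2 ^ d + 1 ∨ Nat.card M = 2 * 2 ^ d + 1) ∧
      Nat.card G = 2 * Nat.card M * (1 + Nat.card M * (2 ^ d - 1)) := by
  classical
  have hy := hb.toHyp
  have hP : IsPGroup 2 (Cz z) := fun c => ⟨1, Subtype.ext (by
    rw [pow_one, pow_two, Subgroup.coe_mul, Subgroup.coe_one]; exact hb.C_sq hh c.2)⟩
  obtain ⟨n, hn⟩ := IsPGroup.iff_card.1 hP
  have ho := hb.card_out
  rw [hh, hn] at ho
  have hpos : 0 < Nat.card (Out M z) := Nat.card_pos_iff.2 ⟨hne.to_subtype, inferInstance⟩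
  rcases n with _ | _ | d
  · simp at ho
  · omega
  refine ⟨d + 1, by omega, by rw [hn, pow_succ 2 (d + 1)]; ring, ?_, ?_, ?_⟩
  · rw [pow_succ 2 (d + 1)] at ho
    omega
  · set c := 2 ^ (d + 1) with hc
    have hc1 : 1 ≤ c := Nat.one_le_two_pow
    have hout : Nat.card (Out M z) = 2 * (c - 1) := by rw [pow_succ 2 (d + 1), ← hc] at ho; omega
    set m := Nat.card M
    have hm : 1 < m := M.one_lt_card_iff_ne_bot.2 hy.ne_bot
    have hmodd : Odd m := by
      rw [← Nat.not_even_iff_odd, even_iff_two_dvd]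
      intro h2
      haveI : Fact (Nat.Prime 2) := ⟨Nat.prime_two⟩
      obtain ⟨x, hx⟩ := exists_prime_orderOf_dvd_card' 2 h2
      obtain ⟨h1, h1'⟩ := sq_of_orderOf hx
      exact h1' (Subtype.ext (hy.two_free x.2 (congrArg Subtype.val h1)))
    have hC : Nat.card (Cz z) = 2 * c := by rw [hn, pow_succ 2 (d + 1), ← hc]; ring
    have hG : Nat.card G = 2 * m * (1 + m * (c - 1)) := by rw [hb.card_G, hh, hout]; ring
    have hv := (Cz z).index_mul_card
    rw [hC, hG] at hv
    have hv' : (Cz z).index * c = m * (1 + m * (c - 1)) := by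
      apply Nat.eq_of_mul_eq_mul_left (show 0 < 2 by norm_num)
      rw [← mul_assoc, mul_comm 2 (Cz z).index, mul_assoc, hv]
      ring
    have hI := hb.class_le.1
    rw [hb.card_Inv, hout, ← (Cz z).index_mul_card, Nat.mul_div_cancel _ Nat.card_pos] at hI
    have hle : m * (1 + m * (c - 1)) ≤ m * ((1 + 2 * (c - 1)) * c) := by
      rw [← hv', ← mul_assoc]
      exact Nat.mul_le_mul_right _ hI
    have hle' := Nat.le_of_mul_le_mul_left hle (by omega)
    have hco : c.Coprime m := by
      rw [hc]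
      exact Nat.Coprime.pow_left _ (Nat.coprime_two_left.2 hmodd)
    have hdvd : c ∣ 1 + m * (c - 1) := hco.dvd_of_dvd_mul_left ⟨(Cz z).index, by
      rw [← hv', mul_comm]⟩
    obtain ⟨c', hc'⟩ : ∃ c', c = c' + 2 := ⟨c - 2, by
      have : 2 ^ 1 ≤ c := Nat.pow_le_pow_right (by norm_num) (by omega)
      omega⟩
    have e1 : c - 1 = c' + 1 := by omega
    rw [e1, hc'] at hle' hdvd
    have hdm : c' + 2 ∣ m - 1 := by
      have h2 : c' + 2 ∣ m * (c' + 2) := Dvd.intro_left m rfl
      have h3 := Nat.dvd_sub h2 hdvd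
      have : m * (c' + 2) - (1 + m * (c' + 1)) = m - 1 := by
        rw [Nat.mul_add, Nat.mul_add, mul_one]
        omega
      rwa [this] at h3
    obtain ⟨t, ht⟩ := hdm
    have hm2 : m = (c' + 2) * t + 1 := by omega
    rw [hm2] at hle' hm
    rw [hc', hm2]
    rcases t with _ | _ | _ | t
    · omega
    · left; ring
    · right; ring
    · exfalso
      have h1 : (c' + 2) * 3 * (c' + 1) ≤ (c' + 2) * (t + 1 + 1 + 1) * (c' + 1) := by
        apply Nat.mul_le_mul_right
        apply Nat.mul_le_mul_left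
        omega
      nlinarith
  · rw [hb.card_G, hh]
    have : Nat.card (Out M z) = 2 * (2 ^ (d + 1) - 1) := by rw [pow_succ 2 (d + 1)] at ho; omega
    rw [this]
    ring

omit hb in
theorem isCyclic_of_psl_two {F : Type*} [Field F] [Fintype F] {e : ℕ} (hF : Fintype.card F = 2 ^ e)
    (A : Subgroup (Matrix.ProjectiveSpecialLinearGroup (Fin 2) F)) [IsMulCommutative A]
    (hA : Nat.card A = 2 ^ e + 1) (he : 1 ≤ e) : IsCyclic A := by
  classical
  haveI : CharP F 2 := by
    obtain ⟨q, hq, n, hn, hqn⟩ := FiniteField.card' F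
    have e1 : q ^ (n : ℕ) = 2 ^ e := by rw [← hqn, hF]
    exact (Nat.prime_dvd_prime_iff_eq hn Nat.prime_two).1
      (hn.dvd_of_dvd_pow (e1 ▸ dvd_pow_self q n.ne_zero)) ▸ hq
  let π := QuotientGroup.mk' (Subgroup.center (Matrix.SpecialLinearGroup (Fin 2) F))
  have hker : Subgroup.center (Matrix.SpecialLinearGroup (Fin 2) F) = ⊥ := by
    rw [Subgroup.eq_bot_iff_forall]
    intro g hg
    obtain ⟨r, hr, hrg⟩ := Matrix.SpecialLinearGroup.mem_center_iff.1 hg
    have hr1 : r = 1 := by
      rw [Fintype.card_fin] at hr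
      rw [← sub_eq_zero, ← sq_eq_zero_iff]
      have h2 : (2 : F) = 0 := CharTwo.two_eq_zero
      linear_combination hr - (r - 1) * h2
    refine Subtype.ext ?_
    rw [← hrg, hr1, map_one]
    rfl
  have hπ : Function.Bijective π := by
    refine ⟨?_, QuotientGroup.mk'_surjective _⟩
    rw [← MonoidHom.ker_eq_bot_iff, QuotientGroup.ker_mk', hker]
  let E := MulEquiv.ofBijective π hπ
  let emb : A →* Matrix.SpecialLinearGroup (Fin 2) F := E.symm.toMonoidHom.comp A.subtype
  have hinj : Function.Injective emb := E.symm.injective.comp Subtype.val_injective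
  haveI : Nontrivial A := Finite.one_lt_card_iff_nontrivial.1 (by
    have := Nat.one_le_two_pow (n := e); omega)
  obtain ⟨x, hx⟩ := _root_.exists_ne (1 : A)
  set T : Matrix (Fin 2) (Fin 2) F := (emb x).1 with hT
  have hpow : T ^ (2 ^ e + 1) = 1 := by
    have : emb x ^ (2 ^ e + 1) = 1 := by rw [← map_pow, ← hA, pow_card_eq_one', map_one]
    have h2 := congrArg Subtype.val this
    rwa [Matrix.SpecialLinearGroup.coe_pow, Matrix.SpecialLinearGroup.coe_one] at h2
  have hdet : T 0 0 * T 1 1 - T 0 1 * T 1 0 = 1 := by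
    rw [← Matrix.det_fin_two]; exact (emb x).2
  -- no eigenvalue in `F`
  have hno : ∀ (l : F) (v : Fin 2 → F), v ≠ 0 → T.mulVec v ≠ l • v := by
    intro l v hv hTv
    have hpv : ∀ n : ℕ, (T ^ n).mulVec v = l ^ n • v := by
      intro n
      induction n with
      | zero => rw [pow_zero, pow_zero, Matrix.one_mulVec, one_smul]
      | succ n ih =>
        rw [pow_succ', ← Matrix.mulVec_mulVec, ih, Matrix.mulVec_smul, hTv, smul_smul, pow_succ]
    have hl : l ^ (2 ^ e + 1) = 1 := by
      have h1 := hpv (2 ^ e + 1)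
      rw [hpow, Matrix.one_mulVec] at h1
      obtain ⟨i, hi⟩ := Function.ne_iff.1 hv
      have h2 := congrFun h1 i
      rw [Pi.smul_apply, smul_eq_mul] at h2
      exact mul_right_cancel₀ hi (by rw [one_mul, ← h2])
    have hl2 : l * l = 1 := by
      have h1 : l ^ (2 ^ e) = l := by rw [← hF]; exact FiniteField.pow_card l
      rwa [pow_succ, h1] at hl
    have h2 : (2 : F) = 0 := CharTwo.two_eq_zero
    have hl1 : l = 1 := by
      rw [← sub_eq_zero, ← sq_eq_zero_iff]
      linear_combination hl2 - (l - 1) * h2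
    subst hl1
    rw [one_smul] at hTv
    -- then `T` is unipotent, of order two
    have htr : T 0 0 + T 1 1 = 0 := by
      have h0 := congrFun hTv 0
      have h1 := congrFun hTv 1
      simp [Matrix.mulVec, dotProduct, Fin.sum_univ_two] at h0 h1
      obtain ⟨i, hi⟩ := Function.ne_iff.1 hv
      refine (mul_eq_zero.1 ?_).resolve_right hi
      fin_cases i
      · show (T 0 0 + T 1 1) * v 0 = 0
        linear_combination (1 - T 1 1) * h0 + T 0 1 * h1 + v 0 * hdet + v 0 * h2
      · show (T 0 0 + T 1 1) * v 1 = 0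
        linear_combination T 1 0 * h0 + (1 - T 0 0) * h1 + v 1 * hdet + v 1 * h2
    have hsq : T * T = 1 := by
      have e00 : T 0 0 = T 1 1 := by linear_combination htr - T 1 1 * h2
      ext i j
      fin_cases i <;> fin_cases j <;> simp [Matrix.mul_apply, Fin.sum_univ_two] <;>
        first
        | linear_combination hdet + (T 0 1 * T 1 0) * h2 + T 0 0 * e00
        | linear_combination hdet + (T 0 1 * T 1 0) * h2 - T 1 1 * e00
        | linear_combination T 0 1 * htr
        | linear_combination T 1 0 * htr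
    have hxx : x ^ 2 = 1 := hinj (by
      rw [map_pow, map_one]
      refine Subtype.ext ?_
      rw [Matrix.SpecialLinearGroup.coe_pow, Matrix.SpecialLinearGroup.coe_one, pow_two]
      exact hsq)
    have hdvd : 2 ∣ 2 ^ e + 1 := by
      have h3 := orderOf_dvd_natCard x
      rw [orderOf_eq_prime hxx hx, hA] at h3
      exact h3
    have : 2 ∣ 2 ^ e := dvd_pow_self 2 (by omega)
    omega
  have ha21 : T 1 0 ≠ 0 := by
    intro h0
    refine hno (T 0 0) ![1, 0] (by simp) ?_
    ext i
    fin_cases i <;> simp [Matrix.mulVec, dotProduct, Fin.sum_univ_two, h0]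
  let R : Subalgebra F (Matrix (Fin 2) (Fin 2) F) := Algebra.adjoin F {T}
  have hlin : ∀ B : Matrix (Fin 2) (Fin 2) F, B * T = T * B →
      ∃ a b : F, B = a • (1 : Matrix (Fin 2) (Fin 2) F) + b • T := by
    intro B hB
    refine ⟨B 0 0 - B 1 0 / T 1 0 * T 0 0, B 1 0 / T 1 0, ?_⟩
    have k00 := congrFun (congrFun hB 0) 0
    have k10 := congrFun (congrFun hB 1) 0
    simp [Matrix.mul_apply, Fin.sum_univ_two] at k00 k10
    ext i j
    fin_cases i <;> fin_cases j <;> simp
    · field_simp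
      linear_combination k00
    · field_simp
    · field_simp
      linear_combination k10
  have hRcomm : ∀ r : R, (r : Matrix (Fin 2) (Fin 2) F) * T = T * r := by
    intro r
    have : (⟨T, Algebra.subset_adjoin rfl⟩ : R) * r = r * ⟨T, Algebra.subset_adjoin rfl⟩ :=
      mul_comm _ _
    exact (congrArg Subtype.val this).symm
  have hdet0 : ∀ r : R, r ≠ 0 → (r : Matrix (Fin 2) (Fin 2) F).det ≠ 0 := by
    intro r hr hd
    obtain ⟨v, hv, hv0⟩ := Matrix.exists_mulVec_eq_zero_iff.2 hd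
    obtain ⟨a, b, hab⟩ := hlin _ (hRcomm r)
    rw [hab, Matrix.add_mulVec, Matrix.smul_mulVec, Matrix.smul_mulVec, Matrix.one_mulVec] at hv0
    by_cases hb0 : b = 0
    · rw [hb0, zero_smul, add_zero] at hv0
      have ha0 : a = 0 := (smul_eq_zero.1 hv0).resolve_right hv
      exact hr (Subtype.ext (by rw [hab, hb0, ha0]; simp))
    · refine hno (-a / b) v hv ?_
      have : b • T.mulVec v = -(a • v) := eq_neg_of_add_eq_zero_right hv0
      calc T.mulVec v = b⁻¹ • (b • T.mulVec v) := by rw [smul_smul, inv_mul_cancel₀ hb0, one_smul]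
        _ = (-a / b) • v := by rw [this, smul_neg, smul_smul, ← neg_smul]; congr 1; ring
  haveI : NoZeroDivisors R := ⟨fun {r s} h => by
    by_contra hc
    push Not at hc
    refine hc.2 (Subtype.ext ?_)
    have h' : (r : Matrix (Fin 2) (Fin 2) F) * s = 0 := congrArg Subtype.val h
    have hu : IsUnit (r : Matrix (Fin 2) (Fin 2) F).det := (hdet0 r hc.1).isUnit
    calc (s : Matrix (Fin 2) (Fin 2) F) = (r : Matrix (Fin 2) (Fin 2) F)⁻¹ * ((r : Matrix (Fin 2) (Fin 2) F) * s) := by
          rw [← mul_assoc, Matrix.nonsing_inv_mul _ hu, one_mul]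
      _ = 0 := by rw [h', mul_zero]⟩
  haveI : IsDomain R := NoZeroDivisors.to_isDomain _
  have hmem : ∀ a : A, ((emb a).1 : Matrix (Fin 2) (Fin 2) F) ∈ R := by
    intro a
    have h : (emb a).1 * T = T * (emb a).1 := by
      have hxa : a * x = x * a := mul_comm' a x
      have := congrArg Subtype.val (congrArg emb hxa)
      rwa [map_mul, map_mul] at this
    obtain ⟨u, v, huv⟩ := hlin _ h
    rw [huv]
    exact R.add_mem (R.smul_mem R.one_mem u) (R.smul_mem (Algebra.subset_adjoin rfl) v)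
  let φ : A →* R :=
    { toFun := fun a => ⟨(emb a).1, hmem a⟩
      map_one' := Subtype.ext (by simp)
      map_mul' := fun a b => Subtype.ext (by simp) }
  exact isCyclic_of_subgroup_isDomain φ fun a b h =>
    hinj (Subtype.ext (congrArg (fun r : R => (r : Matrix (Fin 2) (Fin 2) F)) h))

/-- The case `|M| = 2 |C(z)|/2 + 1`. -/
theorem Big.psl_case (hh : Nat.card (Hz M z) = 2) {d : ℕ} (hd : 1 ≤ d)
    (hC : Nat.card (Cz z) = 2 * 2 ^ d) (hout : Nat.card (Out M z) = 2 * (2 ^ d - 1))
    (hm : Nat.card M = 2 * 2 ^ d + 1)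
    (hG : Nat.card G = 2 * Nat.card M * (1 + Nat.card M * (2 ^ d - 1))) :
    ∃ (F : Type) (_ : Field F) (_ : Fintype F) (e : ℕ), 1 < e ∧ Fintype.card F = 2 ^ e ∧
      IsCyclic M ∧ Nat.card M = 2 ^ e + 1 ∧
      Nonempty (G ≃* Matrix.ProjectiveSpecialLinearGroup (Fin 2) F) := by
  classical
  have hy := hb.toHyp
  obtain ⟨c, hc⟩ : ∃ c, 2 ^ d = c + 2 := ⟨2 ^ d - 2, by
    have : 2 ^ 1 ≤ 2 ^ d := Nat.pow_le_pow_right (by norm_num) hd
    omega⟩
  rw [hc] at hC hout hm
  rw [show c + 2 - 1 = c + 1 by omega] at hout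
  rw [hc, show c + 2 - 1 = c + 1 by omega, hm] at hG
  have hidx : (Cz z).index = (2 * (c + 2) + 1) * (2 * c + 3) := by
    have h := (Cz z).index_mul_card
    rw [hC, hG] at h
    apply Nat.eq_of_mul_eq_mul_right (show 0 < 2 * (c + 2) by omega)
    rw [h]
    ring
  have hI : (Inv G).ncard = (2 * (c + 2) + 1) * (2 * c + 3) := by
    rw [hb.card_Inv, hout, hm]; ring
  have hall := hb.class_le.2 (by
    rw [← (Cz z).index_mul_card, Nat.mul_div_cancel _ Nat.card_pos, hidx, hI])
  have hP : IsPGroup 2 (Cz z) := fun x => ⟨1, Subtype.ext (by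
    rw [pow_one, pow_two, Subgroup.coe_mul, Subgroup.coe_one]; exact hb.C_sq hh x.2)⟩
  haveI : Fact (Nat.Prime 2) := ⟨Nat.prime_two⟩
  let T : Sylow 2 G := hP.toSylow (by
    rw [hidx]
    intro h
    rcases Nat.prime_two.dvd_mul.1 h with h | h <;> omega)
  have hT : (T : Subgroup G) = Cz z := rfl
  have hTc : Nat.card T = 2 * (c + 2) := hC
  obtain ⟨F, iF, iFt, hF, ⟨iso⟩⟩ := Cfsg.Agent.S1230.result T
    (by
      intro hcy
      obtain ⟨g, hg⟩ := hcy.exists_ofOrder_eq_natCard (α := (T : Subgroup G))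
      have : g ^ 2 = 1 := Subtype.ext (by
        rw [pow_two, Subgroup.coe_mul, Subgroup.coe_one]; exact hb.C_sq hh g.2)
      have h2 := Nat.le_of_dvd (by norm_num) (orderOf_dvd_of_pow_eq_one this)
      rw [hg, show Nat.card (T : Subgroup G) = 2 * (c + 2) from hC] at h2
      omega)
    (by
      intro hn
      have hn' : (Cz z).Normal := hn
      have hsub : Inv G ⊆ (Cz z : Set G) := by
        intro j hj
        obtain ⟨g, rfl⟩ := hall j (sq_of_orderOf hj).1 (sq_of_orderOf hj).2
        exact hn'.conj_mem z (mem_Cz.2 rfl) g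
      have h2 := Set.ncard_le_ncard hsub (Set.toFinite _)
      rw [hI, ← Nat.card_coe_set_eq, SetLike.coe_sort_coe, hC] at h2
      nlinarith)
    (by
      intro t ht
      obtain ⟨g, rfl⟩ := hall t (sq_of_orderOf ht).1 (sq_of_orderOf ht).2
      have hback : ∀ x ∈ Subgroup.centralizer ({g * z * g⁻¹} : Set G), g⁻¹ * x * g ∈ Cz z := by
        intro x hx
        have h' : x * (g * z * g⁻¹) = g * z * g⁻¹ * x := Subgroup.mem_centralizer_singleton_iff.1 hx
        refine mem_Cz.2 ?_
        calc z * (g⁻¹ * x * g) = g⁻¹ * (g * z * g⁻¹ * x) * g := by group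
          _ = g⁻¹ * x * g * z := by rw [← h']; group
      refine ⟨⟨⟨fun a b => Subtype.ext ?_⟩⟩, fun a ha => ?_⟩
      · have h := hb.C_comm hh (hback _ a.2) (hback _ b.2)
        show (a : G) * b = b * a
        calc (a : G) * b = g * ((g⁻¹ * a * g) * (g⁻¹ * b * g)) * g⁻¹ := by group
          _ = b * a := by rw [h]; group
      · have h := hb.C_sq hh (hback a ha)
        calc a ^ 2 = a * a := pow_two a
          _ = g * ((g⁻¹ * a * g) * (g⁻¹ * a * g)) * g⁻¹ := by group
          _ = 1 := by rw [h]; group)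
  have hFc : Fintype.card F = 2 ^ (d + 1) := by rw [hF, hTc, pow_succ, hc]; ring
  refine ⟨F, iF, iFt, d + 1, by omega, hFc, ?_, by rw [hm, pow_succ, hc]; ring, ⟨iso⟩⟩
  let A := M.map iso.toMonoidHom
  let eA : M ≃* A := M.equivMapOfInjective _ iso.injective
  haveI : IsMulCommutative A := ⟨⟨fun a b => by
    obtain ⟨a', rfl⟩ := eA.surjective a
    obtain ⟨b', rfl⟩ := eA.surjective b
    rw [← map_mul, ← map_mul, show a' * b' = b' * a' from Subtype.ext (hy.comm a'.2 b'.2)]⟩⟩
  haveI : IsCyclic A := isCyclic_of_psl_two hFc A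
    (by rw [← Nat.card_congr eA.toEquiv, hm, pow_succ, hc]; ring) (by omega)
  exact isCyclic_of_surjective eA.symm.toMonoidHom eA.symm.surjective

end Cfsg.Agent.TI85
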