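import Cfsg.Agent.Lib.TI85Basic

/-!
Structure of a group with a TI subgroup and many involutions: outer elements of `C(z)` are
involutions, `G = N ∪ M (C(z) \ N) M` uniquely, the involutions are the `M`-conjugates of those of
`C(z)`.
-/

set_option autoImplicit false
set_option linter.unusedSectionVars false

namespace Cfsg.Agent.TI85

open Subgroup

variable {G : Type*} [Group G] [Finite G] {M : Subgroup G} {z : G} (hb : Big M z)
include hb

/-- `C(z)` outside the normalizer. -/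
abbrev Out (M : Subgroup G) (z : G) : Set G := (Cz z : Set G) \ (Nz M : Set G)

theorem Big.unique_invol {g : G} (hg : g ∉ Nz M) {x y : G} (hx : x ∈ M) (hy' : y ∈ M)
    (h1 : g * x * (g * x) = 1) (h2 : g * y * (g * y) = 1) : x = y := by
  have hy := hb.toHyp
  set j := g * x
  have hw : x⁻¹ * y ∈ M := M.mul_mem (M.inv_mem hx) hy'
  by_contra hne
  have hjN : j ∉ Nz M := fun h => hg (by
    have := (Nz M).mul_mem h ((Nz M).inv_mem (Subgroup.le_normalizer hx))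
    rwa [mul_inv_cancel_right] at this)
  refine hjN (hy.ti (x⁻¹ * y) hw (fun h => hne (inv_mul_eq_one.1 h)) j ?_)
  have e : j * (x⁻¹ * y) * j⁻¹ = (x⁻¹ * y)⁻¹ := by
    refine eq_inv_of_mul_eq_one_left ?_
    calc j * (x⁻¹ * y) * j⁻¹ * (x⁻¹ * y) = g * y * (g * y) := by
          rw [inv_of_sq h1]; simp only [j]; group
      _ = 1 := h2
  rw [e]
  exact M.inv_mem hw

theorem Big.swap_invol {g : G} (hg : g ∉ Nz M) (hgg : g * g ∈ Nz M) : g * g = 1 := by
  obtain ⟨hA, -, x, hx, hj⟩ := hb.master hg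
  have hjN : g * x ∉ Nz M := fun h => hg (by
    have := (Nz M).mul_mem h ((Nz M).inv_mem (Subgroup.le_normalizer hx))
    rwa [mul_inv_cancel_right] at this)
  obtain ⟨hA', -, -⟩ := hb.master hjN
  have h1 : (g * x)⁻¹ * x⁻¹ * (g * x) ∈ Nz M := by
    have : (g * x)⁻¹ * x⁻¹ * (g * x) = (g * g) * x := by
      rw [inv_of_sq hj]
      group
    rw [this]
    exact (Nz M).mul_mem hgg (Subgroup.le_normalizer hx)
  have hx1 : x = 1 := inv_eq_one.1 (hA' x⁻¹ (M.inv_mem hx) h1)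
  rwa [hx1, mul_one] at hj

theorem Big.out_invol {g : G} (hg : g ∈ Out M z) : g * g = 1 := by
  have hy := hb.toHyp
  obtain ⟨-, -, x, hx, hj⟩ := hb.master hg.2
  have hjN : g * x ∉ Nz M := fun h => hg.2 (by
    have := (Nz M).mul_mem h ((Nz M).inv_mem (Subgroup.le_normalizer hx))
    rwa [mul_inv_cancel_right] at this)
  obtain ⟨hA, -, -⟩ := hb.master hjN
  set j := g * x with hj'
  have hzg : z * g = g * z := mem_Cz.1 hg.1
  have hw : j * z * j = x⁻¹ * z * x := by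
    calc j * z * j = j⁻¹ * z * j := by rw [inv_of_sq hj]
      _ = x⁻¹ * (g⁻¹ * (z * g)) * x := by rw [hj']; group
      _ = x⁻¹ * z * x := by rw [hzg, inv_mul_cancel_left]
  have hwN : x⁻¹ * z * x ∈ Nz M := (Nz M).mul_mem
    ((Nz M).mul_mem ((Nz M).inv_mem (Subgroup.le_normalizer hx)) hy.mem) (Subgroup.le_normalizer hx)
  have hd : z * (x⁻¹ * z * x) = x * x := by
    calc z * (x⁻¹ * z * x) = z * x⁻¹ * z * x := by group
      _ = x * x := by rw [hy.zinv (M.inv_mem hx), inv_inv]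
  have h1 : j⁻¹ * (x * x) * j ∈ Nz M := by
    rw [← hd, inv_of_sq hj]
    have : j * (z * (x⁻¹ * z * x)) * j = (j * z * j) * (j * (x⁻¹ * z * x) * j) := by
      calc j * (z * (x⁻¹ * z * x)) * j = j * z * (j * j) * (x⁻¹ * z * x) * j := by
            rw [hj, mul_one]; group
        _ = _ := by group
    rw [this]
    refine (Nz M).mul_mem (hw ▸ hwN) ?_
    have : j * (x⁻¹ * z * x) * j = z := by
      rw [← hw]
      calc j * (j * z * j) * j = j * j * z * (j * j) := by group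
        _ = z := by rw [hj, one_mul, mul_one]
    rw [this]
    exact hy.mem
  have hx1 : x = 1 := hy.two_free hx (hA _ (M.mul_mem hx hx) h1)
  rw [hx1, mul_one] at hj'
  rw [hj'] at hj
  exact hj

theorem Big.decomp {g : G} (hg : g ∉ Nz M) : ∃ x ∈ M, ∃ c ∈ Out M z, ∃ y ∈ M, x * c * y = g := by
  have hy := hb.toHyp
  obtain ⟨-, ⟨x₀, hx₀, hN⟩, -⟩ := hb.master hg
  obtain ⟨x, hx, rfl⟩ := hy.exists_sqrt hx₀
  rw [← hy.conj_z hx] at hN
  set g' := x⁻¹ * g with hg'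
  have hN' : g'⁻¹ * z * g' ∈ Nz M := by
    convert hN using 1
    rw [hg']; group
  have h2 : g'⁻¹ * z * g' * (g'⁻¹ * z * g') = 1 := by
    calc g'⁻¹ * z * g' * (g'⁻¹ * z * g') = g'⁻¹ * (z * z) * g' := by group
      _ = 1 := by rw [hy.zz]; group
  have h1 : g'⁻¹ * z * g' ≠ 1 := fun h => hy.z_ne (by
    calc z = g' * (g'⁻¹ * z * g') * g'⁻¹ := by group
      _ = 1 := by rw [h]; group)
  obtain ⟨y, hy', e⟩ := hy.invol_N_conj h2 h1 hN'
  refine ⟨x, hx, g' * y, ⟨mem_Cz.2 ?_, fun h => hg ?_⟩, y⁻¹, M.inv_mem hy', by rw [hg']; group⟩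
  · calc z * (g' * y) = g' * (g'⁻¹ * z * g') * y := by group
      _ = g' * y * z := by rw [e]; group
  · have h' := (Nz M).mul_mem ((Nz M).mul_mem (Subgroup.le_normalizer hx) h)
      ((Nz M).inv_mem (Subgroup.le_normalizer hy'))
    convert h' using 1
    rw [hg']; group

theorem Big.decomp_unique {x y x' y' c c' : G} (hx : x ∈ M) (hy₁ : y ∈ M) (hx' : x' ∈ M)
    (hy₂ : y' ∈ M) (hc : c ∈ Out M z) (hc' : c' ∈ Out M z)
    (e : x * c * y = x' * c' * y') : x = x' ∧ c = c' ∧ y = y' := by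
  have hy := hb.toHyp
  set a := x'⁻¹ * x
  set b := y' * y⁻¹
  have ha : a ∈ M := M.mul_mem (M.inv_mem hx') hx
  have hbM : b ∈ M := M.mul_mem hy₂ (M.inv_mem hy₁)
  have hab : a * c = c' * b := by
    calc a * c = x'⁻¹ * (x * c * y) * y⁻¹ := by simp only [a]; group
      _ = c' * b := by rw [e]; simp only [b]; group
  obtain ⟨hA, -, -⟩ := hb.master hc'.2
  have hzc : z * c = c * z := mem_Cz.1 hc.1
  have hzc' : z * c' = c' * z := mem_Cz.1 hc'.1
  have h1 : c'⁻¹ * (a * a) * c' ∈ Nz M := by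
    have e1 : c'⁻¹ * (a * a) * c' = (b * z * b⁻¹) * z := by
      calc c'⁻¹ * (a * a) * c' = c'⁻¹ * (a * a * z) * z * c' := by
            rw [mul_assoc c'⁻¹ (a * a * z) z, mul_assoc (a * a) z z, hy.zz, mul_one]
        _ = c'⁻¹ * (a * z * a⁻¹) * (c' * z) := by
            rw [hy.conj_z ha, mul_assoc _ z c', hzc']
        _ = c'⁻¹ * (a * (z * c) * (c⁻¹ * a⁻¹)) * c' * z := by group
        _ = c'⁻¹ * ((a * c) * z * (a * c)⁻¹) * c' * z := by rw [hzc]; group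
        _ = b * z * b⁻¹ * z := by rw [hab]; group
    rw [e1, hy.conj_z hbM, mul_assoc (b * b), hy.zz, mul_one]
    exact Subgroup.le_normalizer (M.mul_mem hbM hbM)
  have ha1 : a = 1 := hy.two_free ha (hA _ (M.mul_mem ha ha) h1)
  rw [ha1, one_mul] at hab
  have hb1 : b = 1 := hy.M_cap_C hbM (by
    have : b = c'⁻¹ * c := by rw [hab, inv_mul_cancel_left]
    rw [this]
    exact (Cz z).mul_mem ((Cz z).inv_mem hc'.1) hc.1)
  refine ⟨(inv_mul_eq_one.1 ha1).symm, by rw [hab, hb1, mul_one], (mul_inv_eq_one.1 hb1).symm⟩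

theorem Big.card_out : Nat.card (Out M z) + Nat.card (Hz M z) = Nat.card (Cz z) := by
  rw [Nat.card_coe_set_eq, ← SetLike.coe_sort_coe (Hz M z), Nat.card_coe_set_eq,
    ← SetLike.coe_sort_coe (Cz z), Nat.card_coe_set_eq, add_comm,
    show ((Hz M z : Subgroup G) : Set G) = (Cz z : Set G) ∩ (Nz M : Set G) by
      rw [Set.inter_comm]; rfl]
  exact Set.ncard_inter_add_ncard_sdiff_eq_ncard _ _ (Set.toFinite _)

theorem Big.card_G :
    Nat.card G = Nat.card M * Nat.card (Hz M z) +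
      Nat.card M * Nat.card M * Nat.card (Out M z) := by
  classical
  rw [← hb.toHyp.card_N]
  have e1 : ((Nz M : Set G)).ncard + ((Nz M : Set G)ᶜ).ncard = Nat.card G :=
    Set.ncard_add_ncard_compl _
  have e2 : ((Nz M : Set G)).ncard = Nat.card (Nz M) := (Nat.card_coe_set_eq _).symm
  have e3 : ((Nz M : Set G)ᶜ).ncard = Nat.card M * Nat.card M * Nat.card (Out M z) := by
    rw [← Nat.card_coe_set_eq, mul_comm (Nat.card M * Nat.card M), ← Nat.card_prod,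
      ← Nat.card_prod]
    refine (Nat.card_congr (Equiv.ofBijective (fun p : Out M z × M × M =>
      (⟨(p.2.1 : G) * p.1 * p.2.2, fun h => p.1.2.2 ?_⟩ : ((Nz M : Set G)ᶜ : Set G)))
      ⟨?_, ?_⟩)).symm
    · have := (Nz M).mul_mem ((Nz M).mul_mem ((Nz M).inv_mem (Subgroup.le_normalizer p.2.1.2)) h)
        ((Nz M).inv_mem (Subgroup.le_normalizer p.2.2.2))
      show (p.1 : G) ∈ Nz M
      convert this using 1
      group
    · intro p q e
      obtain ⟨h1, h2, h3⟩ := hb.decomp_unique p.2.1.2 p.2.2.2 q.2.1.2 q.2.2.2 p.1.2 q.1.2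
        (congrArg Subtype.val e)
      exact Prod.ext (Subtype.ext h2) (Prod.ext (Subtype.ext h1) (Subtype.ext h3))
    · rintro ⟨g, hg⟩
      obtain ⟨x, hx, c, hc, y, hy', e⟩ := hb.decomp hg
      exact ⟨(⟨c, hc⟩, ⟨x, hx⟩, ⟨y, hy'⟩), Subtype.ext e⟩
  omega

/-- Every involution is, uniquely, an `M`-conjugate of an involution of `C(z)`. -/
theorem Big.invol_unique {x x' c c' : G} (hx : x ∈ M) (hx' : x' ∈ M) (hc : c ∈ Cz z)
    (hc2 : c * c = 1) (hc1 : c ≠ 1) (hc' : c' ∈ Cz z) (hc'2 : c' * c' = 1) (hc'1 : c' ≠ 1)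
    (e : x * c * x⁻¹ = x' * c' * x'⁻¹) : x = x' ∧ c = c' := by
  have hy := hb.toHyp
  have hmove : ∀ {x c : G}, x ∈ M → (x * c * x⁻¹ ∈ Nz M ↔ c ∈ Nz M) := by
    intro x c hx
    have hxN : x ∈ Nz M := Subgroup.le_normalizer hx
    refine ⟨fun h => ?_, fun h => (Nz M).mul_mem ((Nz M).mul_mem hxN h) ((Nz M).inv_mem hxN)⟩
    have := (Nz M).mul_mem ((Nz M).mul_mem ((Nz M).inv_mem hxN) h) hxN
    convert this using 1
    group
  by_cases hN : c ∈ Nz M
  · have hN' : c' ∈ Nz M := (hmove hx').1 (e ▸ (hmove hx).2 hN)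
    have e1 : c = z := hy.H_invol ⟨hN, hc⟩ hc2 hc1
    have e2 : c' = z := hy.H_invol ⟨hN', hc'⟩ hc'2 hc'1
    subst e1 e2
    rw [hy.conj_z hx, hy.conj_z hx'] at e
    have e3 := mul_right_cancel e
    have hw : x * x'⁻¹ ∈ M := M.mul_mem hx (M.inv_mem hx')
    have : x * x'⁻¹ = 1 := hy.two_free hw (by
      calc x * x'⁻¹ * (x * x'⁻¹) = x'⁻¹ * (x * x) * x'⁻¹ := by
            nth_rw 1 [hy.comm hx (M.inv_mem hx')]
            group
        _ = 1 := by rw [e3]; group)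
    exact ⟨mul_inv_eq_one.1 this, rfl⟩
  · have hN' : c' ∉ Nz M := fun h => hN ((hmove hx).1 (e.symm ▸ (hmove hx').2 h))
    obtain ⟨h1, h2, -⟩ := hb.decomp_unique hx (M.inv_mem hx) hx' (M.inv_mem hx') ⟨hc, hN⟩
      ⟨hc', hN'⟩ e
    exact ⟨h1, h2⟩

theorem Big.invol_decomp {j : G} (hj : j * j = 1) (hj1 : j ≠ 1) :
    ∃ x ∈ M, ∃ c ∈ Cz z, c * c = 1 ∧ c ≠ 1 ∧ x * c * x⁻¹ = j := by
  have hy := hb.toHyp
  by_cases hN : j ∈ Nz M
  · obtain ⟨x, hx, e⟩ := hy.invol_N_conj hj hj1 hN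
    exact ⟨x, hx, z, mem_Cz.2 rfl, hy.zz, hy.z_ne, e.symm⟩
  · obtain ⟨x, hx, c, hc, y, hy', e⟩ := hb.decomp hN
    have hc2 := hb.out_invol hc
    have hyx : y * x = 1 := hb.unique_invol hc.2 (M.mul_mem hy' hx) M.one_mem (by
      calc c * (y * x) * (c * (y * x)) = x⁻¹ * ((x * c * y) * (x * c * y)) * x := by group
        _ = 1 := by rw [e, hj]; group)
      (by rw [mul_one]; exact hc2)
    refine ⟨x, hx, c, hc.1, hc2, fun h => hc.2 (h ▸ (Nz M).one_mem), ?_⟩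
    rw [← e, eq_inv_of_mul_eq_one_left hyx]

theorem Big.card_Inv :
    (Inv G).ncard = Nat.card M * (1 + Nat.card (Out M z)) := by
  classical
  have hy := hb.toHyp
  have hset : {c : G | c ∈ Cz z ∧ c * c = 1 ∧ c ≠ 1} = insert z (Out M z) := by
    ext c
    constructor
    · rintro ⟨hc, hc2, hc1⟩
      by_cases hN : c ∈ Nz M
      · exact Or.inl (hy.H_invol ⟨hN, hc⟩ hc2 hc1)
      · exact Or.inr ⟨hc, hN⟩
    · rintro (rfl | h)
      · exact ⟨mem_Cz.2 rfl, hy.zz, hy.z_ne⟩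
      · exact ⟨h.1, hb.out_invol h, fun e => h.2 (e ▸ (Nz M).one_mem)⟩
  have hz : z ∉ Out M z := fun h => h.2 hy.mem
  rw [show 1 + Nat.card (Out M z) = {c : G | c ∈ Cz z ∧ c * c = 1 ∧ c ≠ 1}.ncard by
      rw [hset, Set.ncard_insert_of_notMem hz, Nat.card_coe_set_eq, add_comm],
    ← Nat.card_coe_set_eq, ← Nat.card_coe_set_eq, ← Nat.card_prod]
  refine (Nat.card_congr (Equiv.ofBijective
    (fun p : M × {c : G | c ∈ Cz z ∧ c * c = 1 ∧ c ≠ 1} =>
      (⟨(p.1 : G) * p.2 * (p.1 : G)⁻¹, orderOf_two ?_ ?_⟩ : Inv G)) ⟨?_, ?_⟩)).symm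
  · calc (p.1 : G) * p.2 * (p.1 : G)⁻¹ * ((p.1 : G) * p.2 * (p.1 : G)⁻¹)
        = (p.1 : G) * ((p.2 : G) * p.2) * (p.1 : G)⁻¹ := by group
      _ = 1 := by rw [p.2.2.2.1]; group
  · intro h
    refine p.2.2.2.2 ?_
    calc (p.2 : G) = (p.1 : G)⁻¹ * ((p.1 : G) * p.2 * (p.1 : G)⁻¹) * p.1 := by group
      _ = 1 := by rw [h]; group
  · intro p q e
    obtain ⟨h1, h2⟩ := hb.invol_unique p.1.2 q.1.2 p.2.2.1 p.2.2.2.1 p.2.2.2.2 q.2.2.1
      q.2.2.2.1 q.2.2.2.2 (congrArg Subtype.val e)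
    exact Prod.ext (Subtype.ext h1) (Subtype.ext h2)
  · rintro ⟨j, hj⟩
    obtain ⟨x, hx, c, hc, h2, h1, e⟩ := hb.invol_decomp (sq_of_orderOf hj).1 (sq_of_orderOf hj).2
    exact ⟨(⟨x, hx⟩, ⟨c, hc, h2, h1⟩), Subtype.ext e⟩

theorem Big.out_mul {c k : G} (hc : c ∈ Out M z) (hk : k ∈ Hz M z) : c * k ∈ Out M z :=
  ⟨(Cz z).mul_mem hc.1 hk.2, fun h => hc.2 (by
    have := (Nz M).mul_mem h ((Nz M).inv_mem hk.1)
    rwa [mul_inv_cancel_right] at this)⟩

theorem Big.H_inverted {c k : G} (hc : c ∈ Out M z) (hk : k ∈ Hz M z) : c * k * c = k⁻¹ := by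
  refine eq_inv_of_mul_eq_one_left ?_
  calc c * k * c * k = c * k * (c * k) := by group
    _ = 1 := hb.out_invol (hb.out_mul hc hk)

theorem Big.exists_out {g : G} (hg : g ∉ Nz M) : (Out M z).Nonempty := by
  obtain ⟨x, -, c, hc, -⟩ := hb.decomp hg
  exact ⟨c, hc⟩

theorem Big.semiregular (hne : (Out M z).Nonempty) {k x : G} (hk : k ∈ Hz M z) (hx : x ∈ M)
    (hx1 : x ≠ 1) (hkx : k * x = x * k) : k = 1 := by
  have hy := hb.toHyp
  by_contra hk1
  obtain ⟨c, hc⟩ := hne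
  have hc2 := hb.out_invol hc
  obtain ⟨hA, -, -⟩ := hb.master hc.2
  have hkc : k * c = c * k⁻¹ := by
    rw [← hb.H_inverted hc hk]
    calc k * c = (c * c) * k * c := by rw [hc2, one_mul]
      _ = c * (c * k * c) := by group
  have huN : c * x * c ∉ Nz M := fun h => hx1 (hA x hx (by rwa [inv_of_sq hc2]))
  obtain ⟨a, ha, c', hc', e, he, eu⟩ := hb.decomp huN
  have hu : k * (c * x * c) * k⁻¹ = c * x * c := by
    have h1 : k⁻¹ * x * k = x := by rw [mul_assoc, ← hkx, inv_mul_cancel_left]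
    have h2 : c * k⁻¹ = k * c := hkc.symm
    calc k * (c * x * c) * k⁻¹ = (k * c) * x * (c * k⁻¹) := by group
      _ = (c * k⁻¹) * x * (k * c) := congrArg₂ (fun u v => u * x * v) hkc h2
      _ = c * (k⁻¹ * x * k) * c := by group
      _ = c * x * c := by rw [h1]
  have hkc' : k * c' * k⁻¹ ∈ Out M z := ⟨(Cz z).mul_mem ((Cz z).mul_mem hk.2 hc'.1)
    ((Cz z).inv_mem hk.2), fun h => hc'.2 (by
      have := (Nz M).mul_mem ((Nz M).mul_mem ((Nz M).inv_mem hk.1) h) hk.1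
      show c' ∈ Nz M
      convert this using 1
      group)⟩
  have e2 : (k * a * k⁻¹) * (k * c' * k⁻¹) * (k * e * k⁻¹) = a * c' * e := by
    rw [eu, ← hu, ← eu]
    group
  obtain ⟨-, e3, -⟩ := hb.decomp_unique (conj_mem_of_mem_Nz hk.1 ha) (conj_mem_of_mem_Nz hk.1 he)
    ha he hkc' hc' e2
  have hkc2 : k * c' = c' * k⁻¹ := by
    rw [← hb.H_inverted hc' hk]
    calc k * c' = (c' * c') * k * c' := by rw [hb.out_invol hc', one_mul]
      _ = c' * (c' * k * c') := by group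
  have hk2 : k * k = 1 := by
    rw [hkc2, mul_assoc, ← mul_inv_rev] at e3
    have : (k * k)⁻¹ = 1 := by
      calc (k * k)⁻¹ = c'⁻¹ * (c' * (k * k)⁻¹) := by group
        _ = 1 := by rw [e3]; group
    exact inv_eq_one.1 this
  have hkz := hy.H_invol hk hk2 hk1
  subst hkz
  exact hk1 (hy.no_fix hy.zz hx hx1 hkx)

end Cfsg.Agent.TI85
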