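import Cfsg.Prelude.Def_Local
import Cfsg.Agent.Lib.LocCoprime56
import Mathlib

/-!
# An abelian TI subgroup `V` inside `O₂` of the normalizer of a conjugate

Setting: `V` elementary abelian and TI, `M = N(V)`, `Q` the largest normal 2-subgroup of `M` with
`C_M(Q) ≤ Q`, `V` a maximal abelian normal subgroup of `M`, `V' = V^g ≠ V` inside `C_Q(V) = P`.
Then `P` has class two with centre and commutators `V`, `C_G(C_P(V')) = V V'`, the relation
`V' ≤ P` is symmetric and `P = Q`.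
-/

set_option autoImplicit false
set_option linter.all false

namespace Cfsg.Agent.TIAbelianCore32

open Subgroup
open scoped commutatorElement

variable {G : Type*} [Group G]

/-- Conjugate of a subgroup. -/
def cj (x : G) (H : Subgroup G) : Subgroup G := H.map (MulAut.conj x).toMonoidHom

theorem mem_cj {x y : G} {H : Subgroup G} : y ∈ cj x H ↔ x⁻¹ * y * x ∈ H := by
  constructor
  · rintro ⟨h, hh, rfl⟩
    simpa [mul_assoc] using hh
  · exact fun h => ⟨_, h, by simp [mul_assoc]⟩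

theorem conj_mem_cj {x h : G} {H : Subgroup G} (hh : h ∈ H) : x * h * x⁻¹ ∈ cj x H :=
  ⟨h, hh, rfl⟩

theorem cj_cj (x y : G) (H : Subgroup G) : cj x (cj y H) = cj (x * y) H := by
  ext a; simp only [mem_cj, mul_inv_rev, mul_assoc]

theorem cj_one (H : Subgroup G) : cj 1 H = H := by ext; simp [mem_cj]

theorem cj_mono {H K : Subgroup G} (x : G) (h : H ≤ K) : cj x H ≤ cj x K :=
  map_mono h

theorem card_cj (x : G) (H : Subgroup G) : Nat.card ↥(cj x H) = Nat.card ↥H :=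
  Subgroup.card_map_of_injective (MulAut.conj x).injective

theorem cj_eq_iff_mem_normalizer {x : G} {H : Subgroup G} :
    cj x H = H ↔ x ∈ normalizer (H : Set G) := by
  rw [mem_normalizer_iff]
  constructor
  · intro h a
    constructor
    · intro ha; rw [← h]; exact conj_mem_cj ha
    · intro ha; rw [← h, mem_cj] at ha; simpa [mul_assoc] using ha
  · intro h
    ext a
    rw [mem_cj, h (x⁻¹ * a * x)]
    simp [mul_assoc]

theorem normalizer_cj (x : G) (H : Subgroup G) :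
    normalizer ((cj x H : Subgroup G) : Set G) = cj x (normalizer (H : Set G)) := by
  ext a
  rw [mem_cj, ← cj_eq_iff_mem_normalizer, ← cj_eq_iff_mem_normalizer, cj_cj]
  constructor
  · intro h
    rw [mul_assoc, ← cj_cj, h, cj_cj, inv_mul_cancel, cj_one]
  · intro h
    calc cj (a * x) H = cj x (cj (x⁻¹ * a * x) H) := by rw [cj_cj]; group
      _ = cj x H := by rw [h]

theorem comm_mul_left (a b c : G) : ⁅a * b, c⁆ = a * ⁅b, c⁆ * a⁻¹ * ⁅a, c⁆ := by
  simp only [commutatorElement_def]; group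

theorem comm_mul_right (a b c : G) : ⁅a, b * c⁆ = ⁅a, b⁆ * (b * ⁅a, c⁆ * b⁻¹) := by
  simp only [commutatorElement_def]; group

theorem comm_eq_one {a b : G} : ⁅a, b⁆ = 1 ↔ Commute a b := commutatorElement_eq_one_iff_commute

theorem conj_eq_comm (a b : G) : a * b * a⁻¹ = ⁅a, b⁆ * b := by
  simp only [commutatorElement_def]; group

/-- A nilpotent group of operators: something of `R` outside `A` is centralized modulo `A`. -/
theorem exists_central_mod {P R A : Subgroup G} (hP : Group.IsNilpotent ↥P) (hRP : R ≤ P)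
    (hR : ∀ x ∈ P, ∀ r ∈ R, x * r * x⁻¹ ∈ R) (hne : ¬ R ≤ A) :
    ∃ r ∈ R, r ∉ A ∧ ∀ x ∈ P, ⁅x, r⁆ ∈ A := by
  classical
  obtain ⟨n, hn⟩ := (Subgroup.isNilpotent_iff_lowerCentralSeries P).mp hP
  by_contra hcon
  push Not at hcon
  have key : ∀ k, ∃ r ∈ R, r ∉ A ∧ r ∈ P.lowerCentralSeries k := by
    intro k
    induction k with
    | zero =>
      obtain ⟨r, hr, hrA⟩ := SetLike.not_le_iff_exists.mp hne
      exact ⟨r, hr, hrA, hRP hr⟩
    | succ k ih =>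
      obtain ⟨r, hr, hrA, hrk⟩ := ih
      obtain ⟨x, hx, hxr⟩ := hcon r hr hrA
      refine ⟨⁅x, r⁆, ?_, hxr, ?_⟩
      · rw [commutatorElement_def]
        exact mul_mem (hR x hx r hr) (inv_mem hr)
      · rw [Subgroup.lowerCentralSeries_succ]
        rw [← commutatorElement_inv]
        exact inv_mem (commutator_mem_commutator hrk hx)
  obtain ⟨r, -, hrA, hrn⟩ := key n
  rw [hn, mem_bot] at hrn
  exact hrA (hrn ▸ one_mem A)

/-- The data. -/
structure Ctx (V Q : Subgroup G) : Prop where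
  comm : ∀ a ∈ V, ∀ b ∈ V, a * b = b * a
  sq : ∀ a ∈ V, a * a = 1
  hVQ : V ≤ Q
  hQM : Q ≤ normalizer (V : Set G)
  hQn : ∀ m ∈ normalizer (V : Set G), ∀ x ∈ Q, m * x * m⁻¹ ∈ Q
  hQp : IsPGroup 2 ↥Q
  hQmax : ∀ K : Subgroup G, K ≤ normalizer (V : Set G) →
    (∀ m ∈ normalizer (V : Set G), ∀ x ∈ K, m * x * m⁻¹ ∈ K) → IsPGroup 2 ↥K → K ≤ Q
  hCQ : ∀ m ∈ normalizer (V : Set G), (∀ x ∈ Q, Commute m x) → m ∈ Q
  hmax : ∀ A : Subgroup G, V ≤ A → A ≤ normalizer (V : Set G) → IsMulCommutative ↥A →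
    (∀ m ∈ normalizer (V : Set G), ∀ a ∈ A, m * a * m⁻¹ ∈ A) → A = V
  hti : ∀ x : G, cj x V = V ∨ cj x V ⊓ V = ⊥

variable {V Q : Subgroup G}

/-- `C_Q(V)`. -/
def PP (V Q : Subgroup G) : Subgroup G := Q ⊓ centralizer (V : Set G)

theorem mem_PP {x : G} : x ∈ PP V Q ↔ x ∈ Q ∧ ∀ v ∈ V, Commute v x := by
  simp [PP, mem_centralizer_iff, Commute, SemiconjBy]

namespace Ctx

variable (h : Ctx V Q)
include h

theorem VleM : V ≤ normalizer (V : Set G) := h.hVQ.trans h.hQM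

theorem inv_eq {v : G} (hv : v ∈ V) : v⁻¹ = v := inv_eq_of_mul_eq_one_right (h.sq v hv)

theorem eq_of_mem {x y w : G} (hw : w ≠ 1) (hx : w ∈ cj x V) (hy : w ∈ cj y V) :
    cj x V = cj y V := by
  rcases h.hti (x⁻¹ * y) with e | e
  · calc cj x V = cj x (cj (x⁻¹ * y) V) := by rw [e]
      _ = cj y V := by rw [cj_cj, mul_inv_cancel_left]
  · exfalso
    have h1 : x⁻¹ * w * x ∈ cj (x⁻¹ * y) V ⊓ V := by
      refine ⟨?_, mem_cj.mp hx⟩
      show x⁻¹ * w * x ∈ cj (x⁻¹ * y) V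
      rw [mem_cj]
      simpa [mul_assoc] using mem_cj.mp hy
    rw [e, mem_bot] at h1
    apply hw
    calc w = x * (x⁻¹ * w * x) * x⁻¹ := by group
      _ = 1 := by rw [h1]; group

theorem cent_mem_normalizer {x y c : G} (hy1 : y ≠ 1) (hy : y ∈ cj x V) (hc : Commute c y) :
    c ∈ normalizer ((cj x V : Subgroup G) : Set G) := by
  rw [← cj_eq_iff_mem_normalizer, cj_cj]
  refine h.eq_of_mem hy1 ?_ hy
  rw [← cj_cj, mem_cj]
  rw [mul_assoc, ← hc.eq, inv_mul_cancel_left]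
  exact hy

theorem cent_mem {v c : G} (hv1 : v ≠ 1) (hv : v ∈ V) (hc : Commute c v) :
    c ∈ normalizer (V : Set G) := by
  simpa [cj_one] using h.cent_mem_normalizer (x := 1) hv1 (by simpa [cj_one] using hv) hc

/-- Distinct conjugates, one normalizing the other, commute. -/
theorem comm_of_normalizes [Finite G] {x : G} (hne : cj x V ≠ V)
    (hY : cj x V ≤ normalizer (V : Set G)) : ∀ v ∈ V, ∀ y ∈ cj x V, Commute v y := by
  have hVN : V ≤ normalizer ((cj x V : Subgroup G) : Set G) := by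
    intro v hv
    by_contra hcon
    have hinj : Function.Injective (fun y : ↥(cj x V) => (⟨(y : G) * v * (y : G)⁻¹ * v⁻¹,
        mul_mem ((mem_normalizer_iff.mp (hY y.2) v).mp hv) (inv_mem hv)⟩ : ↥V)) := by
      rintro ⟨a, ha⟩ ⟨b, hb⟩ e
      simp only [Subtype.mk.injEq] at e ⊢
      by_contra hab
      have hab' : b⁻¹ * a ≠ 1 := fun e1 => hab (by
        calc a = b * (b⁻¹ * a) := by group
          _ = b := by rw [e1, mul_one])
      refine hcon (h.cent_mem_normalizer hab' (mul_mem (inv_mem hb) ha) ?_)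
      have e' : a * v * a⁻¹ = b * v * b⁻¹ := mul_right_cancel e
      show v * (b⁻¹ * a) = b⁻¹ * a * v
      calc v * (b⁻¹ * a) = b⁻¹ * (b * v * b⁻¹) * a := by group
        _ = b⁻¹ * (a * v * a⁻¹) * a := by rw [e']
        _ = b⁻¹ * a * v := by group
    obtain ⟨y, hy⟩ := (hinj.bijective_of_nat_card_le (le_of_eq (card_cj x V).symm)).2 ⟨v, hv⟩
    have hy' : (y : G) * v * (y : G)⁻¹ * v⁻¹ = v := congrArg Subtype.val hy
    have hv1 : v = 1 := by
      have h1 : (y : G) * v * (y : G)⁻¹ = v * v := mul_inv_eq_iff_eq_mul.mp hy'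
      rw [h.sq v hv, mul_inv_eq_one] at h1
      exact mul_left_cancel (h1.trans (mul_one _).symm)
    exact hcon (hv1 ▸ one_mem _)
  intro v hv y hy
  rw [← comm_eq_one]
  have h1 : ⁅v, y⁆ ∈ V ⊓ cj x V := by
    refine ⟨?_, ?_⟩
    · show ⁅v, y⁆ ∈ V
      rw [commutatorElement_def, show v * y * v⁻¹ * y⁻¹ = v * (y * v⁻¹ * y⁻¹) by group]
      exact mul_mem hv ((mem_normalizer_iff.mp (hY hy) _).mp (inv_mem hv))
    · show ⁅v, y⁆ ∈ cj x V
      rw [commutatorElement_def]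
      exact mul_mem ((mem_normalizer_iff.mp (hVN hv) _).mp hy) (inv_mem hy)
  rcases h.hti x with e | e
  · exact absurd e hne
  · rw [inf_comm, e, mem_bot] at h1; exact h1

theorem V_le_P : V ≤ PP V Q := fun v hv =>
  mem_PP.mpr ⟨h.hVQ hv, fun w hw => h.comm w hw v hv⟩

theorem P_le_M : PP V Q ≤ normalizer (V : Set G) := inf_le_left.trans h.hQM

theorem P_comm {v p : G} (hv : v ∈ V) (hp : p ∈ PP V Q) : Commute v p := (mem_PP.mp hp).2 v hv

theorem cent_conj {m c : G} (hm : m ∈ normalizer (V : Set G)) (hc : ∀ v ∈ V, Commute v c) :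
    ∀ v ∈ V, Commute v (m * c * m⁻¹) := by
  intro v hv
  have hv' : m⁻¹ * v * m ∈ V := by
    have := (mem_normalizer_iff.mp (inv_mem hm) v).mp hv
    simpa using this
  have h1 := (hc _ hv').eq
  calc v * (m * c * m⁻¹) = m * ((m⁻¹ * v * m) * c) * m⁻¹ := by group
    _ = m * (c * (m⁻¹ * v * m)) * m⁻¹ := by rw [h1]
    _ = m * c * m⁻¹ * v := by group

theorem P_normal {m x : G} (hm : m ∈ normalizer (V : Set G)) (hx : x ∈ PP V Q) :
    m * x * m⁻¹ ∈ PP V Q :=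
  mem_PP.mpr ⟨h.hQn m hm x (mem_PP.mp hx).1, h.cent_conj hm (mem_PP.mp hx).2⟩

theorem P_nilp [Finite G] : Group.IsNilpotent ↥(PP V Q) :=
  (h.hQp.to_le inf_le_left).isNilpotent

theorem fix_V {x v : G} (hv : v ∈ V) (hx : x ∈ PP V Q) : x * v * x⁻¹ = v := by
  rw [← (h.P_comm hv hx).eq, mul_inv_cancel_right]

theorem center_le {z : G} (hz : z ∈ PP V Q) (hc : ∀ x ∈ PP V Q, Commute x z) : z ∈ V := by
  have hA : PP V Q ⊓ centralizer (PP V Q : Set G) = V := by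
    refine h.hmax _ (fun v hv => ⟨h.V_le_P hv, ?_⟩) (inf_le_left.trans h.P_le_M) ?_ ?_
    · exact mem_centralizer_iff.mpr fun x hx => ((h.P_comm hv hx).eq).symm
    · exact ⟨⟨fun a b => Subtype.ext (mem_centralizer_iff.mp b.2.2 a a.2.1)⟩⟩
    · intro m hm a ha
      refine ⟨h.P_normal hm ha.1, mem_centralizer_iff.mpr fun x hx => ?_⟩
      have h1 : m⁻¹ * x * (m⁻¹)⁻¹ ∈ PP V Q := h.P_normal (inv_mem hm) hx
      rw [inv_inv] at h1
      have h2 := mem_centralizer_iff.mp ha.2 _ h1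
      calc x * (m * a * m⁻¹) = m * ((m⁻¹ * x * m) * a) * m⁻¹ := by group
        _ = m * (a * (m⁻¹ * x * m)) * m⁻¹ := by rw [h2]
        _ = m * a * m⁻¹ * x := by group
  rw [← hA]
  exact ⟨hz, mem_centralizer_iff.mpr fun x hx => (hc x hx).eq⟩

/-- `P` has class two. -/
theorem comm_mem [Finite G] {a b : G} (ha : a ∈ PP V Q) (hb : b ∈ PP V Q) : ⁅a, b⁆ ∈ V := by
  set P := PP V Q with hPdef
  let U : Subgroup G :=
    { carrier := {u | u ∈ P ∧ ∀ x ∈ P, ⁅x, u⁆ ∈ V}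
      one_mem' := ⟨one_mem _, fun x _ => by simp⟩
      mul_mem' := by
        rintro u w ⟨hu, hu'⟩ ⟨hw, hw'⟩
        refine ⟨mul_mem hu hw, fun x hx => ?_⟩
        rw [comm_mul_right, h.fix_V (hw' x hx) hu]
        exact mul_mem (hu' x hx) (hw' x hx)
      inv_mem' := by
        rintro u ⟨hu, hu'⟩
        refine ⟨inv_mem hu, fun x hx => ?_⟩
        have e := comm_mul_right x u u⁻¹
        have e0 : ⁅x, u⁻¹⁆ = u⁻¹ * (⁅x, u⁆⁻¹ * ⁅x, u * u⁻¹⁆) * u := by rw [e]; group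
        rw [mul_inv_cancel, commutatorElement_one_right, mul_one] at e0
        rw [e0]
        have := h.fix_V (inv_mem (hu' x hx)) (inv_mem hu)
        rw [inv_inv] at this
        rw [this]
        exact inv_mem (hu' x hx) }
  let R : Subgroup G := P ⊓ centralizer (U : Set G)
  have hUn : ∀ x ∈ P, ∀ u ∈ U, x * u * x⁻¹ ∈ U := by
    rintro x hx u hu
    rw [conj_eq_comm]
    exact mul_mem ⟨h.V_le_P (hu.2 x hx), fun y hy => by
      rw [comm_eq_one.mpr (h.P_comm (hu.2 x hx) hy).symm]; exact one_mem _⟩ hu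
  have hVR : V ≤ R := fun v hv =>
    ⟨h.V_le_P hv, mem_centralizer_iff.mpr fun u hu => ((h.P_comm hv hu.1).symm).eq⟩
  have hRn : ∀ x ∈ P, ∀ r ∈ R, x * r * x⁻¹ ∈ R := by
    intro x hx r hr
    refine ⟨P.mul_mem (P.mul_mem hx hr.1) (P.inv_mem hx), mem_centralizer_iff.mpr fun u hu => ?_⟩
    have h1 := hUn x⁻¹ (inv_mem hx) u hu
    rw [inv_inv] at h1
    have h2 := mem_centralizer_iff.mp hr.2 _ h1
    calc u * (x * r * x⁻¹) = x * ((x⁻¹ * u * x) * r) * x⁻¹ := by group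
      _ = x * (r * (x⁻¹ * u * x)) * x⁻¹ := by rw [h2]
      _ = x * r * x⁻¹ * u := by group
  have hMU : ∀ m ∈ normalizer (V : Set G), ∀ u ∈ U, m * u * m⁻¹ ∈ U := by
    intro m hm u hu
    refine ⟨h.P_normal hm hu.1, fun x hx => ?_⟩
    have h1 := h.P_normal (inv_mem hm) hx
    rw [inv_inv] at h1
    have h2 := (mem_normalizer_iff.mp hm _).mp (hu.2 _ h1)
    convert h2 using 1
    simp only [commutatorElement_def]; group
  have hZU : U ⊓ centralizer (U : Set G) = V := by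
    refine h.hmax _ (fun v hv => ⟨⟨h.V_le_P hv, fun x hx => by
        rw [comm_eq_one.mpr (h.P_comm hv hx).symm]; exact one_mem _⟩, (hVR hv).2⟩)
      (fun z hz => h.P_le_M hz.1.1) ⟨⟨fun a b => Subtype.ext
        (mem_centralizer_iff.mp b.2.2 a a.2.1)⟩⟩ ?_
    intro m hm z hz
    refine ⟨hMU m hm z hz.1, mem_centralizer_iff.mpr fun u hu => ?_⟩
    have h1 := hMU m⁻¹ (inv_mem hm) u hu
    rw [inv_inv] at h1
    have h2 := mem_centralizer_iff.mp hz.2 _ h1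
    calc u * (m * z * m⁻¹) = m * ((m⁻¹ * u * m) * z) * m⁻¹ := by group
      _ = m * (z * (m⁻¹ * u * m)) * m⁻¹ := by rw [h2]
      _ = m * z * m⁻¹ * u := by group
  have hRV : R ≤ V := by
    by_contra hne
    obtain ⟨r, hr, hrV, hrc⟩ := exists_central_mod h.P_nilp inf_le_left hRn hne
    exact hrV (hZU ▸ (⟨⟨hr.1, hrc⟩, hr.2⟩ : r ∈ U ⊓ centralizer (U : Set G)))
  refine hRV ⟨?_, mem_centralizer_iff.mpr fun u hu => ?_⟩
  · rw [commutatorElement_def]
    exact P.mul_mem (P.mul_mem (P.mul_mem ha hb) (P.inv_mem ha)) (P.inv_mem hb)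
  have hva := hu.2 a ha
  have hvb := hu.2 b hb
  have ca : a * u * a⁻¹ = ⁅a, u⁆ * u := conj_eq_comm a u
  have cb : b * u * b⁻¹ = ⁅b, u⁆ * u := conj_eq_comm b u
  -- conjugation by `a`, `b` multiplies `u` by central involutions
  have ia : a⁻¹ * u * a = ⁅a, u⁆ * u := by
    have : a⁻¹ * (a * u * a⁻¹) * a = u := by group
    rw [ca, show a⁻¹ * (⁅a, u⁆ * u) * a = (a⁻¹ * ⁅a, u⁆ * a) * (a⁻¹ * u * a) by group] at this
    have hf := h.fix_V hva (inv_mem ha)
    rw [inv_inv] at hf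
    rw [hf] at this
    calc a⁻¹ * u * a = ⁅a, u⁆⁻¹ * (⁅a, u⁆ * (a⁻¹ * u * a)) := by group
      _ = ⁅a, u⁆ * u := by rw [this, h.inv_eq hva]
  have ib : b⁻¹ * u * b = ⁅b, u⁆ * u := by
    have : b⁻¹ * (b * u * b⁻¹) * b = u := by group
    rw [cb, show b⁻¹ * (⁅b, u⁆ * u) * b = (b⁻¹ * ⁅b, u⁆ * b) * (b⁻¹ * u * b) by group] at this
    have hf := h.fix_V hvb (inv_mem hb)
    rw [inv_inv] at hf
    rw [hf] at this
    calc b⁻¹ * u * b = ⁅b, u⁆⁻¹ * (⁅b, u⁆ * (b⁻¹ * u * b)) := by group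
      _ = ⁅b, u⁆ * u := by rw [this, h.inv_eq hvb]
  have key : ⁅a, b⁆ * u * ⁅a, b⁆⁻¹ = u := by
    have e1 : ⁅a, b⁆ * u * ⁅a, b⁆⁻¹ = a * (b * (a⁻¹ * (b⁻¹ * u * b) * a) * b⁻¹) * a⁻¹ := by
      simp only [commutatorElement_def]; group
    have fx : ∀ {x v w : G}, x ∈ PP V Q → v ∈ V → x * (v * w) * x⁻¹ = v * (x * w * x⁻¹) := by
      intro x v w hx hv
      calc x * (v * w) * x⁻¹ = (x * v * x⁻¹) * (x * w * x⁻¹) := by group
        _ = v * (x * w * x⁻¹) := by rw [h.fix_V hv hx]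
    have e2 : a⁻¹ * (⁅b, u⁆ * u) * a = ⁅b, u⁆ * (a⁻¹ * u * a) := by
      have := fx (w := u) (inv_mem ha) hvb
      rwa [inv_inv] at this
    rw [e1, ib, e2, ia, fx hb hvb, fx hb hva, cb, fx ha hvb, fx ha hva, fx ha hvb, ca]
    rw [← mul_assoc, ← mul_assoc, ← mul_assoc]
    have : ⁅b, u⁆ * ⁅a, u⁆ * ⁅b, u⁆ * ⁅a, u⁆ = 1 := by
      rw [h.comm _ hvb _ hva, mul_assoc _ _ ⁅b, u⁆, h.sq _ hvb, mul_one, h.sq _ hva]
    rw [this, one_mul]
  calc u * ⁅a, b⁆ = (⁅a, b⁆ * u * ⁅a, b⁆⁻¹) * ⁅a, b⁆ := by rw [key]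
    _ = ⁅a, b⁆ * u := by group

theorem bil_left [Finite G] {a b c : G} (ha : a ∈ PP V Q) (hb : b ∈ PP V Q) (hc : c ∈ PP V Q) :
    ⁅a * b, c⁆ = ⁅a, c⁆ * ⁅b, c⁆ := by
  rw [comm_mul_left, h.fix_V (h.comm_mem hb hc) ha,
    h.comm _ (h.comm_mem hb hc) _ (h.comm_mem ha hc)]

theorem bil_right [Finite G] {a b c : G} (ha : a ∈ PP V Q) (hb : b ∈ PP V Q) (hc : c ∈ PP V Q) :
    ⁅a, b * c⁆ = ⁅a, b⁆ * ⁅a, c⁆ := by
  rw [comm_mul_right, h.fix_V (h.comm_mem ha hc) hb]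

theorem sq_mem [Finite G] {p : G} (hp : p ∈ PP V Q) : p * p ∈ V := by
  refine h.center_le (mul_mem hp hp) fun x hx => ?_
  rw [← comm_eq_one, h.bil_right hx hp hp, h.sq _ (h.comm_mem hx hp)]

/-- Either `p` centralizes a conjugate inside `P`, or commutation is a bijection onto `V`. -/
theorem cent_all [Finite G] {x : G} (hY : cj x V ≤ PP V Q) (hne : cj x V ≠ V) {p z : G}
    (hp : p ∈ PP V Q) (hz : z ∈ cj x V) (hz1 : z ≠ 1) (hpz : Commute p z) :
    ∀ w ∈ cj x V, Commute p w := by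
  intro w hw
  have hn := h.cent_mem_normalizer hz1 hz hpz
  rw [← comm_eq_one]
  have h1 : ⁅p, w⁆ ∈ cj x V ⊓ V := by
    refine ⟨?_, h.comm_mem hp (hY hw)⟩
    show ⁅p, w⁆ ∈ cj x V
    rw [commutatorElement_def]
    exact mul_mem ((mem_normalizer_iff.mp hn w).mp hw) (inv_mem hw)
  rcases h.hti x with e | e
  · exact absurd e hne
  · rwa [e, mem_bot] at h1

theorem exists_comm [Finite G] {x : G} (hY : cj x V ≤ PP V Q) (hne : cj x V ≠ V) {p : G}
    (hp : p ∈ PP V Q) (hnc : ¬ ∀ w ∈ cj x V, Commute p w) {v : G} (hv : v ∈ V) :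
    ∃ z ∈ cj x V, ⁅p, z⁆ = v := by
  have hinj : Function.Injective
      (fun z : ↥(cj x V) => (⟨⁅p, (z : G)⁆, h.comm_mem hp (hY z.2)⟩ : ↥V)) := by
    rintro ⟨a, ha⟩ ⟨b, hb⟩ e
    simp only [Subtype.mk.injEq] at e ⊢
    by_contra hab
    have hab' : a * b⁻¹ ≠ 1 := fun e1 => hab (mul_inv_eq_one.mp e1)
    refine hnc (h.cent_all hY hne hp (mul_mem ha (inv_mem hb)) hab' ?_)
    rw [← comm_eq_one, h.bil_right hp (hY ha) (inv_mem (hY hb)), e,
      ← h.bil_right hp (hY hb) (inv_mem (hY hb)), mul_inv_cancel, commutatorElement_one_right]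
  obtain ⟨z, hz⟩ := (hinj.bijective_of_nat_card_le (le_of_eq (card_cj x V).symm)).2 ⟨v, hv⟩
  exact ⟨z, z.2, congrArg Subtype.val hz⟩

theorem comm_inj [Finite G] {x : G} (hY : cj x V ≤ PP V Q) (hne : cj x V ≠ V) {p z z' : G}
    (hp : p ∈ PP V Q) (hnc : ¬ ∀ w ∈ cj x V, Commute p w) (hz : z ∈ cj x V) (hz' : z' ∈ cj x V)
    (e : ⁅p, z⁆ = ⁅p, z'⁆) : z = z' := by
  by_contra hab
  refine hnc (h.cent_all hY hne hp (mul_mem hz (inv_mem hz'))
    (fun e1 => hab (mul_inv_eq_one.mp e1)) ?_)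
  rw [← comm_eq_one, h.bil_right hp (hY hz) (inv_mem (hY hz')), e,
    ← h.bil_right hp (hY hz') (inv_mem (hY hz')), mul_inv_cancel, commutatorElement_one_right]

end Ctx

end Cfsg.Agent.TIAbelianCore32
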