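import Cfsg.Agent.Lib.TIAbelianCore32
import Cfsg.Agent.Lib.PGroupsBasic
import Mathlib

/-!
# The pair `(V, V')`: `C_G(C_P(V')) = V V'`, symmetry, and `P = Q`
-/

set_option autoImplicit false
set_option linter.all false

namespace Cfsg.Agent.TIAbelianPair32

open Subgroup Cfsg.Agent.TIAbelianCore32
open scoped commutatorElement

variable {G : Type*} [Group G]

/-- `V' = V^g` is a conjugate different from `V` inside `C_Q(V)`. -/
structure Pair (V Q : Subgroup G) (g : G) : Prop where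
  ctx : Ctx V Q
  ne : cj g V ≠ V
  le : cj g V ≤ PP V Q

/-- `C_P(V')`. -/
def BB (V Q : Subgroup G) (g : G) : Subgroup G :=
  PP V Q ⊓ centralizer ((cj g V : Subgroup G) : Set G)

variable {V Q : Subgroup G} {g : G}

theorem mem_BB {x : G} : x ∈ BB V Q g ↔ x ∈ PP V Q ∧ ∀ y ∈ cj g V, Commute y x := by
  simp [BB, mem_centralizer_iff, Commute, SemiconjBy]

theorem cj_PP_congr (h : Ctx V Q) {a b : G} (e : cj a V = cj b V) :
    cj a (PP V Q) = cj b (PP V Q) := by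
  have hm : a⁻¹ * b ∈ normalizer (V : Set G) := by
    rw [← cj_eq_iff_mem_normalizer, ← cj_cj, ← e, cj_cj, inv_mul_cancel, cj_one]
  have hP : cj (a⁻¹ * b) (PP V Q) = PP V Q := by
    ext x
    rw [mem_cj]
    constructor
    · intro hx
      have := h.P_normal hm hx
      simpa [mul_assoc] using this
    · intro hx
      have := h.P_normal (inv_mem hm) hx
      simpa using this
  calc cj a (PP V Q) = cj a (cj (a⁻¹ * b) (PP V Q)) := by rw [hP]
    _ = cj b (PP V Q) := by rw [cj_cj, mul_inv_cancel_left]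

theorem bil_inv_left [Finite G] (h : Ctx V Q) {a b : G} (ha : a ∈ PP V Q) (hb : b ∈ PP V Q) :
    ⁅a⁻¹, b⁆ = ⁅a, b⁆ := by
  have e := h.bil_left (inv_mem ha) ha hb
  rw [inv_mul_cancel, commutatorElement_one_left] at e
  exact (eq_inv_of_mul_eq_one_left e.symm).trans (h.inv_eq (h.comm_mem ha hb))

theorem bil_inv_right [Finite G] (h : Ctx V Q) {a b : G} (ha : a ∈ PP V Q) (hb : b ∈ PP V Q) :
    ⁅a, b⁻¹⁆ = ⁅a, b⁆ := by
  have e := h.bil_right ha (inv_mem hb) hb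
  rw [inv_mul_cancel, commutatorElement_one_right] at e
  exact (eq_inv_of_mul_eq_one_left e.symm).trans (h.inv_eq (h.comm_mem ha hb))

theorem comm_symm [Finite G] (h : Ctx V Q) {a b : G} (ha : a ∈ PP V Q) (hb : b ∈ PP V Q) :
    ⁅a, b⁆ = ⁅b, a⁆ := by
  rw [← commutatorElement_inv, h.inv_eq (h.comm_mem hb ha)]

theorem cj_sq (h : Ctx V Q) {x a : G} (ha : a ∈ cj x V) : a * a = 1 := by
  have := h.sq _ (mem_cj.mp ha)
  calc a * a = x * ((x⁻¹ * a * x) * (x⁻¹ * a * x)) * x⁻¹ := by group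
    _ = 1 := by rw [this]; group

theorem cj_comm (h : Ctx V Q) {x a b : G} (ha : a ∈ cj x V) (hb : b ∈ cj x V) : Commute a b := by
  have := h.comm _ (mem_cj.mp ha) _ (mem_cj.mp hb)
  calc a * b = x * ((x⁻¹ * a * x) * (x⁻¹ * b * x)) * x⁻¹ := by group
    _ = x * ((x⁻¹ * b * x) * (x⁻¹ * a * x)) * x⁻¹ := by rw [this]
    _ = b * a := by group

namespace Pair

variable [Finite G] (H : Pair V Q g)
include H

theorem V_ne_bot : V ≠ ⊥ := by
  intro e
  apply H.ne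
  rw [e, show cj g (⊥ : Subgroup G) = ⊥ from map_bot _]

theorem exists_ne : ∃ v ∈ V, v ≠ 1 := by
  by_contra hcon
  push Not at hcon
  exact H.V_ne_bot ((eq_bot_iff_forall _).mpr hcon)

theorem exists_ne' : ∃ y ∈ cj g V, y ≠ 1 := by
  obtain ⟨v, hv, hv1⟩ := H.exists_ne
  exact ⟨_, conj_mem_cj hv, fun e => hv1 (by simpa using mul_inv_eq_one.mp e)⟩

theorem disj {y : G} (hy : y ∈ cj g V) (hyV : y ∈ V) : y = 1 := by
  rcases H.ctx.hti g with e | e
  · exact absurd e H.ne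
  · have : y ∈ cj g V ⊓ V := ⟨hy, hyV⟩
    rwa [e, mem_bot] at this

theorem V_comm' {v y : G} (hv : v ∈ V) (hy : y ∈ cj g V) : Commute v y :=
  H.ctx.P_comm hv (H.le hy)

theorem mem_W {w : G} : w ∈ V ⊔ cj g V ↔ ∃ v ∈ V, ∃ y ∈ cj g V, w = v * y := by
  constructor
  · intro hw
    let S : Subgroup G :=
      { carrier := {w | ∃ v ∈ V, ∃ y ∈ cj g V, w = v * y}
        one_mem' := ⟨1, one_mem _, 1, one_mem _, (mul_one 1).symm⟩
        mul_mem' := by
          rintro _ _ ⟨v, hv, y, hy, rfl⟩ ⟨v', hv', y', hy', rfl⟩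
          refine ⟨v * v', mul_mem hv hv', y * y', mul_mem hy hy', ?_⟩
          rw [mul_assoc, ← mul_assoc y, ← (H.V_comm' hv' hy).eq]; group
        inv_mem' := by
          rintro _ ⟨v, hv, y, hy, rfl⟩
          refine ⟨v⁻¹, inv_mem hv, y⁻¹, inv_mem hy, ?_⟩
          rw [mul_inv_rev, ((H.V_comm' hv hy).inv_inv).eq] }
    have hle : V ⊔ cj g V ≤ S := sup_le (fun v hv => ⟨v, hv, 1, one_mem _, (mul_one v).symm⟩)
      (fun y hy => ⟨1, one_mem _, y, hy, (one_mul y).symm⟩)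
    exact hle hw
  · rintro ⟨v, hv, y, hy, rfl⟩
    exact mul_mem (mem_sup_left hv) (mem_sup_right hy)

theorem exists_U : ∃ x : G, cj x V ≠ V ∧ cj x V ≤ PP V Q ∧
    ¬ ∀ u ∈ cj x V, ∀ y ∈ cj g V, Commute u y := by
  by_contra hcon
  push Not at hcon
  set M := normalizer (V : Set G)
  have hconj : ∀ m ∈ M, cj (m * g) V ≤ PP V Q ∧ cj (m * g) V ≠ V := by
    intro m hm
    constructor
    · intro y hy
      rw [← cj_cj, mem_cj] at hy
      simpa [mul_assoc] using H.ctx.P_normal hm (H.le hy)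
    · intro e
      apply H.ne
      have := congrArg (cj m⁻¹) e
      rwa [cj_cj, inv_mul_cancel_left, cj_eq_iff_mem_normalizer.mpr (inv_mem hm)] at this
  let S : Set G := {y | y ∈ V ∨ ∃ m ∈ M, y ∈ cj (m * g) V}
  have hS : S ⊆ (PP V Q : Set G) := by
    rintro y (hy | ⟨m, hm, hy⟩)
    · exact H.ctx.V_le_P hy
    · exact (hconj m hm).1 hy
  have hcomm : ∀ a ∈ S, ∀ b ∈ S, a * b = b * a := by
    rintro a (ha | ⟨m, hm, ha⟩) b hb
    · exact (H.ctx.P_comm ha (hS hb)).eq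
    rcases hb with hb | ⟨n, hn, hb⟩
    · exact ((H.ctx.P_comm hb ((hconj m hm).1 ha)).symm).eq
    · have h1 : m⁻¹ * b * m ∈ cj (m⁻¹ * n * g) V := by
        rw [mem_cj] at hb ⊢; simpa [mul_assoc] using hb
      have h2 : m⁻¹ * a * m ∈ cj g V := by rw [mem_cj] at ha ⊢; simpa [mul_assoc] using ha
      obtain ⟨hle, hne⟩ := hconj (m⁻¹ * n) (mul_mem (inv_mem hm) hn)
      have h3 := (hcon _ hne hle _ h1 _ h2).eq
      calc a * b = m * ((m⁻¹ * a * m) * (m⁻¹ * b * m)) * m⁻¹ := by group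
        _ = m * ((m⁻¹ * b * m) * (m⁻¹ * a * m)) * m⁻¹ := by rw [h3]
        _ = b * a := by group
  have hA := H.ctx.hmax (closure S) (fun v hv => Subgroup.subset_closure (Or.inl hv))
    ((closure_le _).mpr fun y hy => H.ctx.P_le_M (hS hy))
    (isMulCommutative_closure hcomm) (by
      intro m hm a ha
      induction ha using closure_induction with
      | mem x hx =>
        apply Subgroup.subset_closure
        rcases hx with hx | ⟨n, hn, hx⟩
        · exact Or.inl ((mem_normalizer_iff.mp hm x).mp hx)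
        · refine Or.inr ⟨m * n, mul_mem hm hn, ?_⟩
          rw [mem_cj] at hx ⊢; simpa [mul_assoc] using hx
      | one => simp
      | mul x y _ _ hx hy =>
        rw [show m * (x * y) * m⁻¹ = (m * x * m⁻¹) * (m * y * m⁻¹) by group]
        exact mul_mem hx hy
      | inv x _ hx =>
        rw [show m * x⁻¹ * m⁻¹ = (m * x * m⁻¹)⁻¹ by group]
        exact inv_mem hx)
  obtain ⟨y, hy, hy1⟩ := H.exists_ne'
  refine hy1 (H.disj hy ?_)
  rw [← hA]
  exact Subgroup.subset_closure (Or.inr ⟨1, one_mem _, by rwa [one_mul]⟩)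

theorem nc_left {x : G} (hxne : cj x V ≠ V) (hxP : cj x V ≤ PP V Q)
    (hx : ¬ ∀ u ∈ cj x V, ∀ y ∈ cj g V, Commute u y) {u : G} (hu : u ∈ cj x V) (hu1 : u ≠ 1) :
    ¬ ∀ y ∈ cj g V, Commute u y := by
  intro hall
  exact hx fun u' hu' y hy =>
    (H.ctx.cent_all hxP hxne (H.le hy) hu hu1 (hall y hy).symm u' hu').symm

theorem nc_right {x : G} (hxne : cj x V ≠ V) (hxP : cj x V ≤ PP V Q)
    (hx : ¬ ∀ u ∈ cj x V, ∀ y ∈ cj g V, Commute u y) {y : G} (hy : y ∈ cj g V) (hy1 : y ≠ 1) :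
    ¬ ∀ u ∈ cj x V, Commute y u := by
  intro hall
  exact hx fun u hu y' hy' =>
    H.ctx.cent_all H.le H.ne (hxP hu) hy hy1 (hall u hu).symm y' hy'

theorem decomp {x : G} (hxne : cj x V ≠ V) (hxP : cj x V ≤ PP V Q)
    (hx : ¬ ∀ u ∈ cj x V, ∀ y ∈ cj g V, Commute u y) {p : G} (hp : p ∈ PP V Q) :
    ∃ u ∈ cj x V, u⁻¹ * p ∈ BB V Q g := by
  obtain ⟨y, hy, hy1⟩ := H.exists_ne'
  obtain ⟨u, hu, e⟩ := H.ctx.exists_comm hxP hxne (H.le hy) (H.nc_right hxne hxP hx hy hy1)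
    (H.ctx.comm_mem (H.le hy) hp)
  have hq : u⁻¹ * p ∈ PP V Q := mul_mem (inv_mem (hxP hu)) hp
  refine ⟨u, hu, mem_BB.mpr ⟨hq, fun y' hy' => ?_⟩⟩
  refine (H.ctx.cent_all H.le H.ne hq hy hy1 ?_ y' hy').symm
  rw [← comm_eq_one, comm_symm H.ctx hq (H.le hy), H.ctx.bil_right (H.le hy) (inv_mem (hxP hu)) hp,
    bil_inv_right H.ctx (H.le hy) (hxP hu), e, H.ctx.sq _ (H.ctx.comm_mem (H.le hy) hp)]

theorem le_BB : V ⊔ cj g V ≤ BB V Q g :=
  sup_le (fun v hv => mem_BB.mpr ⟨H.ctx.V_le_P hv, fun y hy => (H.V_comm' hv hy).symm⟩)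
    (fun y hy => mem_BB.mpr ⟨H.le hy, fun y' hy' => cj_comm H.ctx hy' hy⟩)

theorem centP_BB {z : G} (hz : z ∈ PP V Q) (hc : ∀ b ∈ BB V Q g, Commute z b) :
    z ∈ V ⊔ cj g V := by
  obtain ⟨x, hxne, hxP, hx⟩ := H.exists_U
  obtain ⟨u, hu, hu1⟩ : ∃ u ∈ cj x V, u ≠ 1 := by
    by_contra hcon
    push Not at hcon
    exact hx fun u hu y _ => hcon u hu ▸ Commute.one_left y
  obtain ⟨y, hy, e⟩ := H.ctx.exists_comm H.le H.ne (hxP hu) (H.nc_left hxne hxP hx hu hu1)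
    (H.ctx.comm_mem (hxP hu) hz)
  have hzy : ∀ y' ∈ cj g V, Commute y' z := fun y' hy' =>
    (hc y' (H.le_BB (mem_sup_right hy'))).symm
  set c := y⁻¹ * z with hcdef
  have hcP : c ∈ PP V Q := mul_mem (inv_mem (H.le hy)) hz
  have hcu : Commute c u := by
    refine Commute.symm (comm_eq_one.mp ?_)
    rw [H.ctx.bil_right (hxP hu) (inv_mem (H.le hy)) hz, bil_inv_right H.ctx (hxP hu) (H.le hy),
      e, H.ctx.sq _ (H.ctx.comm_mem (hxP hu) hz)]
  have hcB : ∀ b ∈ BB V Q g, Commute c b := fun b hb =>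
    (((mem_BB.mp hb).2 y hy).inv_left).mul_left (hc b hb)
  have hcV : c ∈ V := by
    refine H.ctx.center_le hcP fun p hp => ?_
    obtain ⟨w, hw, hwp⟩ := H.decomp hxne hxP hx hp
    have h1 := H.ctx.cent_all hxP hxne hcP hu hu1 hcu w hw
    have h2 := hcB _ hwp
    have := (h1.mul_right h2).symm
    rwa [mul_inv_cancel_left] at this
  exact H.mem_W.mpr ⟨c, hcV, y, hy, by
    rw [(H.V_comm' hcV hy).eq, hcdef, mul_inv_cancel_left]⟩

/-- Elements of `N(V)` stabilizing the series `Q > P > V > 1` lie in `P`. -/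
theorem mem_P_of_stab {c : G} (hc : c ∈ normalizer (V : Set G)) (hcV : ∀ v ∈ V, Commute v c)
    (hcP : ∀ p ∈ PP V Q, ⁅c, p⁆ ∈ V) : c ∈ PP V Q := by
  let h := H.ctx
  let K : Subgroup G :=
    { carrier := {k | k ∈ normalizer (V : Set G) ∧ (∀ v ∈ V, Commute v k) ∧
        ∀ p ∈ PP V Q, ⁅k, p⁆ ∈ V}
      one_mem' := ⟨one_mem _, fun v _ => Commute.one_right v, fun p _ => by simp⟩
      mul_mem' := by
        rintro a b ⟨ha, ha', ha''⟩ ⟨hb, hb', hb''⟩
        refine ⟨mul_mem ha hb, fun v hv => (ha' v hv).mul_right (hb' v hv), fun p hp => ?_⟩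
        rw [comm_mul_left, ← (ha' _ (hb'' p hp)).eq, mul_inv_cancel_right]
        exact mul_mem (hb'' p hp) (ha'' p hp)
      inv_mem' := by
        rintro a ⟨ha, ha', ha''⟩
        refine ⟨inv_mem ha, fun v hv => (ha' v hv).inv_right, fun p hp => ?_⟩
        have : ⁅a⁻¹, p⁆ = a⁻¹ * ⁅a, p⁆⁻¹ * a := by simp only [commutatorElement_def]; group
        rw [this, ← ((ha' _ (inv_mem (ha'' p hp))).inv_right).eq, inv_mul_cancel_right]
        exact inv_mem (ha'' p hp) }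
  have hKn : ∀ m ∈ normalizer (V : Set G), ∀ k ∈ K, m * k * m⁻¹ ∈ K := by
    intro m hm k hk
    refine ⟨mul_mem (mul_mem hm hk.1) (inv_mem hm), h.cent_conj hm hk.2.1, fun p hp => ?_⟩
    have h1 := h.P_normal (inv_mem hm) hp
    rw [inv_inv] at h1
    have h2 := (mem_normalizer_iff.mp hm _).mp (hk.2.2 _ h1)
    convert h2 using 1
    simp only [commutatorElement_def]; group
  have hK2 : IsPGroup 2 ↥K := by
    refine LocCoprime56.isPGroup_of_coprime_eq_one fun k hk hord => ?_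
    let A : ℕ → Subgroup G := fun i =>
      match i with
      | 0 => ⊥
      | 1 => V
      | 2 => PP V Q
      | _ => Q
    have hA : ∀ i ≤ 3, A i ≤ Q := by
      intro i hi
      interval_cases i
      · exact bot_le
      · exact h.hVQ
      · exact inf_le_left
      · exact le_rfl
    have hstep : ∀ i < 3, ∀ x ∈ A (i + 1), ⁅x, k⁆ ∈ A i := by
      intro i hi x hx
      interval_cases i
      · show ⁅x, k⁆ ∈ (⊥ : Subgroup G)
        rw [mem_bot, comm_eq_one]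
        exact hk.2.1 x hx
      · show ⁅x, k⁆ ∈ V
        rw [← commutatorElement_inv]
        exact inv_mem (hk.2.2 x hx)
      · show ⁅x, k⁆ ∈ PP V Q
        have hx' : x ∈ Q := hx
        refine mem_PP.mpr ⟨?_, fun v hv => ?_⟩
        · rw [commutatorElement_def, show x * k * x⁻¹ * k⁻¹ = x * (k * x⁻¹ * k⁻¹) by group]
          exact mul_mem hx' (h.hQn k hk.1 _ (inv_mem hx'))
        · rw [commutatorElement_def]
          exact (h.cent_conj (h.hQM hx') hk.2.1 v hv).mul_right ((hk.2.1 v hv).inv_right)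
    have hkQ := LocCoprime56.commute_of_chain h.hQp hord 3 A hA rfl hstep 3 le_rfl
    exact LocCoprime56.eq_one_of_pGroup h.hQp (h.hCQ k hk.1 hkQ) hord
  have hKQ : K ≤ Q := h.hQmax K (fun k hk => hk.1) hKn hK2
  exact mem_PP.mpr ⟨hKQ ⟨hc, hcV, hcP⟩, hcV⟩

/-- `C_G(B) = V V'`. -/
theorem cent_BB {c : G} (hc : ∀ b ∈ BB V Q g, Commute c b) : c ∈ V ⊔ cj g V := by
  obtain ⟨v1, hv1, hv11⟩ := H.exists_ne
  have hcM : c ∈ normalizer (V : Set G) :=
    H.ctx.cent_mem hv11 hv1 (hc v1 (H.le_BB (mem_sup_left hv1)))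
  have hcV : ∀ v ∈ V, Commute v c := fun v hv => (hc v (H.le_BB (mem_sup_left hv))).symm
  obtain ⟨x, hxne, hxP, hx⟩ := H.exists_U
  have hU : ∀ u ∈ cj x V, ⁅c, u⁆ ∈ V := by
    intro u hu
    by_cases hu1 : u = 1
    · rw [hu1, commutatorElement_one_right]; exact one_mem _
    have huP := hxP hu
    have hcu := H.ctx.P_normal hcM huP
    have hwP : ⁅c, u⁆ ∈ PP V Q := by
      rw [commutatorElement_def]; exact mul_mem hcu (inv_mem huP)
    have hwB : ∀ b ∈ BB V Q g, Commute ⁅c, u⁆ b := by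
      intro b hb
      have hbP := (mem_BB.mp hb).1
      rw [← comm_eq_one, commutatorElement_def c u,
        H.ctx.bil_left hcu (inv_mem huP) hbP, bil_inv_left H.ctx huP hbP]
      have e : ⁅c * u * c⁻¹, b⁆ = c * ⁅u, b⁆ * c⁻¹ := by
        have hb' : c * b * c⁻¹ = b := by rw [(hc b hb).eq, mul_inv_cancel_right]
        conv_lhs => rw [← hb']
        simp only [commutatorElement_def]; group
      rw [e, ← (hcV _ (H.ctx.comm_mem huP hbP)).eq, mul_inv_cancel_right,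
        H.ctx.sq _ (H.ctx.comm_mem huP hbP)]
    obtain ⟨v, hv, y, hy, e⟩ := H.mem_W.mp (H.centP_BB hwP hwB)
    have huu : u * u = 1 := cj_sq H.ctx hu
    have hww : ⁅c, u⁆ * ⁅c, u⁆ = 1 := by
      rw [e, mul_assoc, ← mul_assoc y, ← (H.V_comm' hv hy).eq, mul_assoc v y, cj_sq H.ctx hy,
        mul_one, H.ctx.sq v hv]
    have hwu : Commute ⁅c, u⁆ u := by
      have h1 : (⁅c, u⁆ * u) * (⁅c, u⁆ * u) = 1 := by
        rw [← conj_eq_comm, show c * u * c⁻¹ * (c * u * c⁻¹) = c * (u * u) * c⁻¹ by group, huu]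
        group
      have h2 : ⁅c, u⁆ * u = (⁅c, u⁆ * u)⁻¹ := eq_inv_of_mul_eq_one_left h1
      rw [mul_inv_rev, inv_eq_of_mul_eq_one_right huu, inv_eq_of_mul_eq_one_right hww] at h2
      exact h2
    have hy' : y = 1 := by
      by_contra hy1
      have hcomm : Commute u y := by
        have := comm_eq_one.mpr hwu
        rw [e, H.ctx.bil_left (H.ctx.V_le_P hv) (H.le hy) huP,
          comm_eq_one.mpr (H.ctx.P_comm hv huP), one_mul, comm_eq_one] at this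
        exact this.symm
      exact H.nc_left hxne hxP hx hu hu1 fun y' hy'' =>
        H.ctx.cent_all H.le H.ne huP hy hy1 hcomm y' hy''
    rw [e, hy', mul_one]; exact hv
  have hP : ∀ p ∈ PP V Q, ⁅c, p⁆ ∈ V := by
    intro p hp
    obtain ⟨u, hu, hub⟩ := H.decomp hxne hxP hx hp
    have := hU u hu
    rw [show p = u * (u⁻¹ * p) by group, comm_mul_right, comm_eq_one.mpr (hc _ hub)]
    simpa using this
  exact H.centP_BB (H.mem_P_of_stab hcM hcV hP) hc

theorem exists_conj {v y : G} (hv : v ∈ V) (hy : y ∈ cj g V) (hy1 : y ≠ 1) :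
    ∃ p ∈ PP V Q, ⁅p, y⁆ = v := by
  obtain ⟨x, hxne, hxP, hx⟩ := H.exists_U
  obtain ⟨u, hu, e⟩ := H.ctx.exists_comm hxP hxne (H.le hy) (H.nc_right hxne hxP hx hy hy1) hv
  exact ⟨u, hxP hu, by rw [comm_symm H.ctx (hxP hu) (H.le hy), e]⟩

theorem conj_component {x p w : G} (hw : w ≠ 1) (hx : w ∈ cj x V) {y : G} (hy : y ∈ cj g V)
    (e : p * y * p⁻¹ = w) : cj x V = cj (p * g) V := by
  refine H.ctx.eq_of_mem hw hx ?_
  rw [← cj_cj, ← e]
  exact conj_mem_cj hy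

theorem BB_le_M' : BB V Q g ≤ normalizer ((cj g V : Subgroup G) : Set G) := by
  intro b hb
  obtain ⟨y, hy, hy1⟩ := H.exists_ne'
  exact H.ctx.cent_mem_normalizer hy1 hy ((mem_BB.mp hb).2 y hy).symm

theorem exists_outside : ∃ x v : G, x ∈ normalizer ((cj g V : Subgroup G) : Set G) ∧
    x ∉ normalizer (V : Set G) ∧ v ∈ V ∧ v ≠ 1 ∧ x * v * x⁻¹ ∈ V ⊔ cj g V := by
  classical
  haveI : Fact (2 : ℕ).Prime := ⟨Nat.prime_two⟩
  set M := normalizer (V : Set G) with hMdef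
  set M' := normalizer ((cj g V : Subgroup G) : Set G) with hM'def
  set B := BB V Q g with hBdef
  have hB2 : IsPGroup 2 ↥B := H.ctx.hQp.to_le (inf_le_left.trans inf_le_left)
  have hBN : B ≤ M ⊓ M' := le_inf (inf_le_left.trans H.ctx.P_le_M) H.BB_le_M'
  haveI hBn : (B.subgroupOf (M ⊓ M')).Normal := ⟨by
    rintro ⟨b, _⟩ hb ⟨m, hm⟩
    simp only [mem_subgroupOf] at hb ⊢
    refine mem_BB.mpr ⟨H.ctx.P_normal hm.1 (mem_BB.mp hb).1, fun y hy => ?_⟩
    have hy' : m⁻¹ * y * m ∈ cj g V := by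
      have := (mem_normalizer_iff.mp (inv_mem hm.2) y).mp hy
      simpa using this
    have h1 := ((mem_BB.mp hb).2 _ hy').eq
    show y * (m * b * m⁻¹) = m * b * m⁻¹ * y
    calc y * (m * b * m⁻¹) = m * ((m⁻¹ * y * m) * b) * m⁻¹ := by group
      _ = m * (b * (m⁻¹ * y * m)) * m⁻¹ := by rw [h1]
      _ = m * b * m⁻¹ * y := by group⟩
  haveI hBn' : (B.comap (M ⊓ M').subtype).Normal := hBn
  let T0 : Sylow 2 ↥(M ⊓ M') := Classical.arbitrary _
  set T := (T0 : Subgroup ↥(M ⊓ M')).map (M ⊓ M').subtype with hTdef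
  have hT2 : IsPGroup 2 ↥T := T0.isPGroup'.map _
  have hTN : T ≤ M ⊓ M' := map_subtype_le _
  have hTmax : ∀ R : Subgroup G, R ≤ M ⊓ M' → IsPGroup 2 ↥R → T ≤ R → R = T := by
    intro R hR hR2 hTR
    have h1 : R.subgroupOf (M ⊓ M') = T0 := by
      refine T0.is_maximal' (hR2.comap_subtype) ?_
      intro a ha
      exact hTR (mem_map_of_mem _ ha)
    rw [hTdef, ← h1, map_subgroupOf_eq_of_le hR]
  have hBT : B ≤ T := by
    have := IsPGroup.le_sylow_of_normal (hB2.comap_subtype (K := M ⊓ M')) T0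
    intro b hb
    exact ⟨⟨b, hBN hb⟩, this (show (⟨b, hBN hb⟩ : ↥(M ⊓ M')) ∈ B.subgroupOf (M ⊓ M') from hb), rfl⟩
  -- `T` is not a Sylow 2-subgroup of `M`
  have hPT : IsPGroup 2 ↥(PP V Q ⊔ T) := by
    refine IsPGroup.to_sup_of_normal_left' (H.ctx.hQp.to_le inf_le_left) hT2 fun t ht => ?_
    rw [← cj_eq_iff_mem_normalizer]
    have htM := (hTN ht).1
    ext a
    rw [mem_cj]
    constructor
    · intro ha
      simpa [mul_assoc] using H.ctx.P_normal htM ha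
    · intro ha
      simpa using H.ctx.P_normal (inv_mem htM) ha
  have hPTne : ¬ PP V Q ⊔ T ≤ T := by
    intro hle
    obtain ⟨x, hxne, hxP, hx⟩ := H.exists_U
    apply hx
    intro u hu y hy
    have huM' : u ∈ M' := (hTN (hle (mem_sup_left (hxP hu)))).2
    rw [← comm_eq_one]
    refine H.disj ?_ (H.ctx.comm_mem (hxP hu) (H.le hy))
    rw [commutatorElement_def]
    exact mul_mem ((mem_normalizer_iff.mp huM' y).mp hy) (inv_mem hy)
  have hlt : Nat.card ↥T < Nat.card ↥(PP V Q ⊔ T) := by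
    refine lt_of_le_of_ne (card_le_of_le le_sup_right) fun e => hPTne ?_
    exact (eq_of_le_of_card_ge le_sup_right (le_of_eq e.symm)).ge
  obtain ⟨S, hS⟩ := (hT2.comap_subtype (K := M')).exists_le_sylow
  have hSlt : (T.subgroupOf M') < (S : Subgroup ↥M') := by
    refine lt_of_le_of_ne hS fun e => ?_
    have h1 : Nat.card ↥(S : Subgroup ↥M') = Nat.card ↥T := by
      rw [← e]; exact Nat.card_congr (subgroupOfEquivOfLe (hTN.trans inf_le_right)).toEquiv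
    obtain ⟨R, hR⟩ := (hPT.comap_subtype (K := M)).exists_le_sylow
    have h2 : Nat.card ↥(PP V Q ⊔ T) ≤ Nat.card ↥(R : Subgroup ↥M) := by
      rw [← Nat.card_congr (subgroupOfEquivOfLe
        (sup_le H.ctx.P_le_M (hTN.trans inf_le_left))).toEquiv]
      exact card_le_of_le hR
    have h3 : Nat.card ↥M = Nat.card ↥M' := by
      rw [hM'def, normalizer_cj, card_cj]
    rw [Sylow.card_eq_multiplicity] at h1 h2
    rw [h3, h1] at h2
    omega
  have hne : (T.subgroupOf M').subgroupOf (S : Subgroup ↥M') ≠ ⊤ := by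
    rw [ne_eq, subgroupOf_eq_top]
    exact fun hle => hSlt.not_ge hle
  obtain ⟨x0, hx0, hx0T⟩ := SetLike.exists_of_lt (PGroupsBasic.lt_normalizer S.isPGroup' hne)
  set x : G := ((x0 : ↥M') : G) with hxdef
  have hxM' : x ∈ M' := (x0 : ↥M').2
  have hxT : x ∉ T := fun e => hx0T e
  have hxNT : ∀ t ∈ T, x * t * x⁻¹ ∈ T := by
    intro t ht
    have htS : (⟨t, (hTN ht).2⟩ : ↥M') ∈ (S : Subgroup ↥M') := hS ht
    exact (mem_normalizer_iff.mp hx0 ⟨⟨t, (hTN ht).2⟩, htS⟩).mp ht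
  have hxNT' : ∀ t ∈ T, x⁻¹ * t * x ∈ T := by
    intro t ht
    have htS : (⟨t, (hTN ht).2⟩ : ↥M') ∈ (S : Subgroup ↥M') := hS ht
    have := (mem_normalizer_iff.mp (inv_mem hx0) ⟨⟨t, (hTN ht).2⟩, htS⟩).mp ht
    simpa [mem_subgroupOf] using this
  have hxM : x ∉ M := by
    intro hxM
    apply hxT
    have hR : ((S : Subgroup ↥M').map M'.subtype) ⊓ (M ⊓ M') = T := by
      refine hTmax _ inf_le_right ((S.isPGroup'.map _).to_le inf_le_left) fun t ht => ?_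
      exact ⟨⟨⟨t, (hTN ht).2⟩, hS ht, rfl⟩, hTN ht⟩
    rw [← hR]
    exact ⟨⟨(x0 : ↥M'), x0.2, rfl⟩, hxM, hxM'⟩
  have hVT : V ≤ T := (le_sup_left.trans H.le_BB).trans hBT
  obtain ⟨v, hv, hv1, hvc⟩ := exists_central_mod (A := ⊥) hT2.isNilpotent hVT
    (fun t ht r hr => (mem_normalizer_iff.mp (hTN ht).1 r).mp hr)
    (fun hle => H.V_ne_bot (le_bot_iff.mp hle))
  refine ⟨x, v, hxM', hxM, hv, fun e => hv1 (e ▸ one_mem _), H.cent_BB fun b hb => ?_⟩
  have h1 := hvc _ (hxNT' b (hBT hb))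
  rw [mem_bot, comm_eq_one] at h1
  calc x * v * x⁻¹ * b = x * (v * (x⁻¹ * b * x)) * x⁻¹ := by group
    _ = x * ((x⁻¹ * b * x) * v) * x⁻¹ := by rw [h1.eq]
    _ = b * (x * v * x⁻¹) := by group

/-- Part (a): symmetry. -/
theorem symm : V ≤ cj g (PP V Q) := by
  obtain ⟨x, v, hxM', hxM, hv, hv1, hW⟩ := H.exists_outside
  have hxg : cj x (cj g V) = cj g V := cj_eq_iff_mem_normalizer.mpr hxM'
  obtain ⟨a, ha, y, hy, e⟩ := H.mem_W.mp hW
  set w := x * v * x⁻¹ with hwdef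
  have hw1 : w ≠ 1 := fun e1 => hv1 (by
    calc v = x⁻¹ * w * x := by rw [hwdef]; group
      _ = 1 := by rw [e1]; group)
  have hwx : w ∈ cj x V := conj_mem_cj hv
  have hy1 : y ≠ 1 := by
    intro hy1
    apply hxM
    rw [← cj_eq_iff_mem_normalizer]
    refine (H.ctx.eq_of_mem hw1 hwx (y := 1) ?_).trans (cj_one V)
    rw [cj_one, e, hy1, mul_one]; exact ha
  have ha1 : a ≠ 1 := by
    intro ha1
    apply H.ne
    have h1 : cj x V = cj g V := H.ctx.eq_of_mem hw1 hwx (by rw [e, ha1, one_mul]; exact hy)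
    rw [← hxg] at h1
    have := congrArg (cj x⁻¹) h1
    rw [cj_cj, cj_cj, cj_cj, inv_mul_cancel, cj_one, one_mul] at this
    exact this.symm
  obtain ⟨p, hp, hpy⟩ := H.exists_conj ha hy hy1
  have hcomp : cj x V = cj (p * g) V :=
    H.conj_component hw1 hwx hy (by rw [conj_eq_comm, hpy, e])
  have h1 : cj g V ≤ cj (p * g) (PP V Q) := by
    have := cj_mono x H.le
    rwa [hxg, cj_PP_congr H.ctx hcomp] at this
  have h2 : cj x V ≤ cj g (PP V Q) := by
    have := cj_mono p h1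
    rw [cj_cj, cj_cj] at this
    rw [hcomp]
    have hpp : cj (p * (p * g)) V = cj g V := by
      rw [← mul_assoc, ← cj_cj]
      rw [cj_eq_iff_mem_normalizer]
      obtain ⟨y', hy', hy1'⟩ := H.exists_ne'
      exact H.ctx.cent_mem_normalizer hy1' hy' (H.V_comm' (H.ctx.sq_mem hp) hy')
    rwa [cj_PP_congr H.ctx hpp] at this
  have h3 := cj_mono x⁻¹ h2
  rw [cj_cj, inv_mul_cancel, cj_one, cj_cj] at h3
  have hxg' : cj (x⁻¹ * g) V = cj g V := by
    rw [← cj_cj]; exact cj_eq_iff_mem_normalizer.mpr (inv_mem hxM')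
  rwa [cj_PP_congr H.ctx hxg'] at h3

theorem inv_pair : Pair V Q g⁻¹ where
  ctx := H.ctx
  ne := fun e => H.ne (by
    have := congrArg (cj g) e
    rwa [cj_cj, mul_inv_cancel, cj_one, eq_comm] at this)
  le := by
    have := cj_mono g⁻¹ H.symm
    rwa [cj_cj, inv_mul_cancel, cj_one] at this

theorem exists_conj' {v y : G} (hv : v ∈ V) (hv1 : v ≠ 1) (hy : y ∈ cj g V) :
    ∃ x ∈ cj g (PP V Q), ⁅x, v⁆ = y := by
  have h1 : g⁻¹ * v * g ∈ cj g⁻¹ V := by
    rw [mem_cj]; simpa [mul_assoc] using hv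
  have h2 : g⁻¹ * v * g ≠ 1 := fun e => hv1 (by
    calc v = g * (g⁻¹ * v * g) * g⁻¹ := by group
      _ = 1 := by rw [e]; group)
  obtain ⟨p, hp, e⟩ := H.inv_pair.exists_conj (mem_cj.mp hy) h1 h2
  refine ⟨g * p * g⁻¹, conj_mem_cj hp, ?_⟩
  calc ⁅g * p * g⁻¹, v⁆ = g * ⁅p, g⁻¹ * v * g⁆ * g⁻¹ := by
        simp only [commutatorElement_def]; group
    _ = y := by rw [e]; group

theorem P_normalizes : PP V Q ≤ normalizer ((V ⊔ cj g V : Subgroup G) : Set G) := by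
  have hkey : ∀ p ∈ PP V Q, ∀ w ∈ V ⊔ cj g V, p * w * p⁻¹ ∈ V ⊔ cj g V := by
    intro p hp w hw
    obtain ⟨v, hv, y, hy, rfl⟩ := H.mem_W.mp hw
    rw [show p * (v * y) * p⁻¹ = (p * v * p⁻¹) * (p * y * p⁻¹) by group,
      H.ctx.fix_V hv hp, conj_eq_comm]
    exact mul_mem (mem_sup_left hv)
      (mul_mem (mem_sup_left (H.ctx.comm_mem hp (H.le hy))) (mem_sup_right hy))
  intro p hp
  rw [mem_normalizer_iff]
  intro w
  refine ⟨hkey p hp w, fun hw => ?_⟩
  simpa [mul_assoc] using hkey p⁻¹ (inv_mem hp) _ hw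

theorem H_normalizes : PP V Q ⊔ cj g (PP V Q) ≤ normalizer ((V ⊔ cj g V : Subgroup G) : Set G) := by
  refine sup_le H.P_normalizes ?_
  have := cj_mono g H.inv_pair.P_normalizes
  rw [← normalizer_cj] at this
  have e : cj g (V ⊔ cj g⁻¹ V) = V ⊔ cj g V := by
    rw [cj, Subgroup.map_sup, ← cj, ← cj, cj_cj, mul_inv_cancel, cj_one, sup_comm]
  rwa [e] at this

theorem exists_move {v y : G} (hv : v ∈ V) (hv1 : v ≠ 1) (hy : y ∈ cj g V) (hy1 : y ≠ 1) :
    ∃ d : G, cj d V = cj g V ∧ d * v * d⁻¹ = y := by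
  obtain ⟨p, hp, ep⟩ := H.exists_conj hv hy hy1
  obtain ⟨x, -, ex⟩ := H.exists_conj' hv hv1 hy
  have e : (p⁻¹ * x) * v * (p⁻¹ * x)⁻¹ = y := by
    have h1 : x * v * x⁻¹ = p * y * p⁻¹ := by
      rw [conj_eq_comm, conj_eq_comm, ex, ep, (H.V_comm' hv hy).eq]
    calc (p⁻¹ * x) * v * (p⁻¹ * x)⁻¹ = p⁻¹ * (x * v * x⁻¹) * p := by group
      _ = y := by rw [h1]; group
  exact ⟨p⁻¹ * x, H.ctx.eq_of_mem hy1 (e ▸ conj_mem_cj hv) hy, e⟩

theorem P_eq_Q : PP V Q = Q := by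
  refine le_antisymm inf_le_left fun q hq => mem_PP.mpr ⟨hq, fun v hv => ?_⟩
  by_cases hv1 : v = 1
  · exact hv1 ▸ Commute.one_left q
  obtain ⟨z, hz, hz1, hzc⟩ := exists_central_mod (A := ⊥) H.ctx.hQp.isNilpotent H.ctx.hVQ
    (fun t ht r hr => (mem_normalizer_iff.mp (H.ctx.hQM ht) r).mp hr)
    (fun hle => H.V_ne_bot (le_bot_iff.mp hle))
  obtain ⟨y, hy, hy1⟩ := H.exists_ne'
  obtain ⟨d1, hd1, e1⟩ := H.exists_move hz (fun e => hz1 (e ▸ one_mem _)) hy hy1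
  obtain ⟨d2, hd2, e2⟩ := H.exists_move hv hv1 hy hy1
  have hm : d2⁻¹ * d1 ∈ normalizer (V : Set G) := by
    rw [← cj_eq_iff_mem_normalizer, ← cj_cj, hd1, ← hd2, cj_cj, inv_mul_cancel, cj_one]
  have he : (d2⁻¹ * d1) * z * (d2⁻¹ * d1)⁻¹ = v := by
    calc (d2⁻¹ * d1) * z * (d2⁻¹ * d1)⁻¹ = d2⁻¹ * (d1 * z * d1⁻¹) * d2 := by group
      _ = v := by rw [e1, ← e2]; group
  set m := d2⁻¹ * d1
  have hq' : m⁻¹ * q * m ∈ Q := by
    have := H.ctx.hQn m⁻¹ (inv_mem hm) q hq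
    rwa [inv_inv] at this
  have h1 := hzc _ hq'
  rw [mem_bot, comm_eq_one] at h1
  rw [← he]
  calc m * z * m⁻¹ * q = m * (z * (m⁻¹ * q * m)) * m⁻¹ := by group
    _ = m * ((m⁻¹ * q * m) * z) * m⁻¹ := by rw [h1.eq]
    _ = q * (m * z * m⁻¹) := by group

theorem components {w : G} (hw : w ∈ V ⊔ cj g V) (hw1 : w ≠ 1) :
    ∃ x : G, cj x V ≤ V ⊔ cj g V ∧ w ∈ cj x V := by
  obtain ⟨v, hv, y, hy, rfl⟩ := H.mem_W.mp hw
  by_cases hy1 : y = 1
  · exact ⟨1, by rw [cj_one]; exact le_sup_left, by rw [cj_one, hy1, mul_one]; exact hv⟩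
  obtain ⟨p, hp, e⟩ := H.exists_conj hv hy hy1
  refine ⟨p * g, fun a ha => ?_, ?_⟩
  · rw [← cj_cj, mem_cj] at ha
    have := (mem_normalizer_iff.mp (H.P_normalizes hp) _).mp (mem_sup_right (S := V) ha)
    simpa [mul_assoc] using this
  · rw [← cj_cj, ← e, ← conj_eq_comm]
    exact conj_mem_cj hy

end Pair

end Cfsg.Agent.TIAbelianPair32
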