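import Cfsg.Agent.Lib.TIAbelianPair32
import Cfsg.Agent.Lib.JordanSpreadField32
import Cfsg.Agent.Lib.PSLSimple
import Mathlib

/-!
# `⟨P, P'⟩` induces `SL(2, F)`, `|F| = |V|`, on `V V'`
-/

set_option autoImplicit false
set_option linter.all false

namespace Cfsg.Agent.TIAbelianSL32

open Subgroup Cfsg.Agent.TIAbelianCore32 Cfsg.Agent.TIAbelianPair32
open Cfsg.Agent.JordanSpreadField32 (Spread K)
open scoped commutatorElement IsMulCommutative

variable {G : Type*} [Group G] {V Q : Subgroup G} {g : G} [IsMulCommutative ↥V]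

/-- `V`, written additively. -/
abbrev X (V : Subgroup G) := Additive ↥V

/-- The element of `G` behind an element of `X V`. -/
def el (u : X V) : G := ((Additive.toMul u : ↥V) : G)

theorem el_add (u w : X V) : el (u + w) = el u * el w := rfl
theorem el_zero : el (0 : X V) = 1 := rfl
theorem el_mem (u : X V) : el u ∈ V := (Additive.toMul u).2
theorem el_inj {u w : X V} (e : el u = el w) : u = w := Subtype.ext e

/-- A parametrization of `V'` by `V`, through commutation with some `p₀ ∈ P`. -/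
structure Crd (V Q : Subgroup G) (g : G) [IsMulCommutative ↥V] (τ : X V → G) (p0 : G) : Prop where
  add : ∀ u w, τ (u + w) = τ u * τ w
  mem : ∀ u, τ u ∈ cj g V
  inj : Function.Injective τ
  surj : ∀ y ∈ cj g V, ∃ u, τ u = y
  p0_mem : p0 ∈ PP V Q
  comm : ∀ u, ⁅p0, τ u⁆ = el u

theorem exists_crd [Finite G] (H : Pair V Q g) : ∃ τ p0, Crd V Q g τ p0 := by
  obtain ⟨v1, hv1, hv11⟩ := H.exists_ne
  obtain ⟨y1, hy1, hy11⟩ := H.exists_ne'
  obtain ⟨p, hp, e⟩ := H.exists_conj hv1 hy1 hy11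
  have hnc : ∀ y ∈ cj g V, ⁅p, y⁆ = 1 → y = 1 := by
    intro y hy hpy
    by_contra hy0
    exact hv11 (e ▸ comm_eq_one.mpr (H.ctx.cent_all H.le H.ne hp hy hy0 (comm_eq_one.mp hpy) y1 hy1))
  let f : ↥(cj g V) → ↥V := fun y => ⟨⁅p, (y : G)⁆, H.ctx.comm_mem hp (H.le y.2)⟩
  have hf : Function.Bijective f := by
    refine Function.Injective.bijective_of_nat_card_le ?_ (le_of_eq (card_cj g V).symm)
    rintro ⟨a, ha⟩ ⟨b, hb⟩ hab
    have hab' : ⁅p, a⁆ = ⁅p, b⁆ := congrArg Subtype.val hab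
    refine Subtype.ext (mul_inv_eq_one.mp (hnc _ (mul_mem ha (inv_mem hb)) ?_))
    rw [H.ctx.bil_right hp (H.le ha) (inv_mem (H.le hb)), hab',
      ← H.ctx.bil_right hp (H.le hb) (inv_mem (H.le hb)), mul_inv_cancel,
      commutatorElement_one_right]
  let e' := Equiv.ofBijective f hf
  let τ : X V → G := fun u => (e'.symm (Additive.toMul u) : G)
  have hτ : ∀ u, ⁅p, τ u⁆ = el u := fun u =>
    congrArg Subtype.val (e'.apply_symm_apply (Additive.toMul u))
  have hinj : Function.Injective τ := fun u w h => el_inj (by rw [← hτ, ← hτ, h])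
  refine ⟨τ, p, ?_, fun u => (e'.symm _).2, hinj, ?_, hp, hτ⟩
  · intro u w
    have h1 : f ⟨τ u * τ w, mul_mem (e'.symm _).2 (e'.symm _).2⟩ = Additive.toMul (u + w) := by
      apply Subtype.ext
      show ⁅p, τ u * τ w⁆ = el (u + w)
      rw [H.ctx.bil_right hp (H.le (e'.symm _).2) (H.le (e'.symm _).2), hτ, hτ, el_add]
    have h2 := congrArg (fun z => (e'.symm z : G)) h1
    simpa [τ, e'] using h2.symm
  · intro y hy
    exact ⟨Additive.ofMul (f ⟨y, hy⟩), congrArg Subtype.val (e'.symm_apply_apply ⟨y, hy⟩)⟩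

/-- Coordinates on `W`. -/
def io (τ : X V → G) (w : X V × X V) : G := el w.1 * τ w.2

/-- `h` acts on `W` by `f`. -/
def Rep (τ : X V → G) (h : G) (f : X V × X V → X V × X V) : Prop :=
  ∀ w, h * io τ w * h⁻¹ = io τ (f w)

theorem Rep.mul {τ : X V → G} {h k : G} {f f' : X V × X V → X V × X V} (e : Rep τ h f)
    (e' : Rep τ k f') : Rep τ (h * k) (fun w => f (f' w)) := fun w => by
  rw [← e (f' w), ← e' w]; group

theorem Rep.inv {τ : X V → G} {h : G} {f f' : X V × X V → X V × X V} (e : Rep τ h f)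
    (hff : ∀ w, f (f' w) = w) : Rep τ h⁻¹ f' := fun w => by
  have h1 := e (f' w)
  rw [hff] at h1
  rw [← h1]; group

theorem Rep.congr {τ : X V → G} {h : G} {f f' : X V × X V → X V × X V} (e : Rep τ h f)
    (hff : ∀ w, f w = f' w) : Rep τ h f' := fun w => by rw [e w, hff]

/-- `(u, w) ↦ (u + a w, w)`. -/
def up (a : AddMonoid.End (X V)) (w : X V × X V) : X V × X V := (w.1 + a w.2, w.2)

/-- `(u, w) ↦ (u, w + b u)`. -/
def low (b : AddMonoid.End (X V)) (w : X V × X V) : X V × X V := (w.1, w.2 + b w.1)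

/-- The actions of `P`. -/
def IsUp (Q : Subgroup G) (τ : X V → G) (a : AddMonoid.End (X V)) : Prop :=
  ∃ p ∈ PP V Q, Rep τ p (up a)

/-- The actions of `P^g`. -/
def IsLow (Q : Subgroup G) (g : G) (τ : X V → G) (b : AddMonoid.End (X V)) : Prop :=
  ∃ x ∈ cj g (PP V Q), Rep τ x (low b)

theorem two (H : Pair V Q g) (u : X V) : u + u = 0 :=
  el_inj (H.ctx.sq _ (el_mem u))

section

variable [Finite G] {τ : X V → G} {p0 : G} (H : Pair V Q g) (C : Crd V Q g τ p0)
include H C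

theorem tau_zero : τ 0 = 1 := by
  have h := C.add 0 0
  rw [add_zero] at h
  exact mul_left_cancel (h.symm.trans (mul_one _).symm)

theorem io_inj : Function.Injective (io τ) := by
  rintro ⟨u, w⟩ ⟨u', w'⟩ e
  simp only [io] at e
  have h2 : (el u')⁻¹ * el u = τ w' * (τ w)⁻¹ := by
    rw [inv_mul_eq_iff_eq_mul, ← mul_assoc, ← e, mul_inv_cancel_right]
  have h3 : τ w' * (τ w)⁻¹ = 1 := H.disj (mul_mem (C.mem _) (inv_mem (C.mem _)))
    (h2 ▸ mul_mem (inv_mem (el_mem _)) (el_mem _))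
  rw [h3, inv_mul_eq_one] at h2
  exact Prod.ext (el_inj h2.symm) (C.inj (mul_inv_eq_one.mp h3)).symm

theorem io_mem (w : X V × X V) : io τ w ∈ V ⊔ cj g V :=
  mul_mem (mem_sup_left (el_mem _)) (mem_sup_right (C.mem _))

theorem exists_io {x : G} (hx : x ∈ V ⊔ cj g V) : ∃ w, io τ w = x := by
  obtain ⟨v, hv, y, hy, rfl⟩ := H.mem_W.mp hx
  obtain ⟨w, rfl⟩ := C.surj y hy
  exact ⟨(Additive.ofMul ⟨v, hv⟩, w), rfl⟩

theorem exists_up {p : G} (hp : p ∈ PP V Q) : ∃ a, Rep τ p (up a) := by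
  refine ⟨AddMonoidHom.mk' (fun w => (Additive.ofMul
    (⟨⁅p, τ w⁆, H.ctx.comm_mem hp (H.le (C.mem w))⟩ : ↥V) : X V)) ?_, ?_⟩
  · intro u w
    apply el_inj
    show ⁅p, τ (u + w)⁆ = ⁅p, τ u⁆ * ⁅p, τ w⁆
    rw [C.add, H.ctx.bil_right hp (H.le (C.mem _)) (H.le (C.mem _))]
  · rintro ⟨u, w⟩
    show p * (el u * τ w) * p⁻¹ = el u * ⁅p, τ w⁆ * τ w
    rw [show p * (el u * τ w) * p⁻¹ = (p * el u * p⁻¹) * (p * τ w * p⁻¹) by group,
      H.ctx.fix_V (el_mem u) hp, conj_eq_comm, mul_assoc]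

theorem exists_low {x : G} (hx : x ∈ cj g (PP V Q)) : ∃ b, Rep τ x (low b) := by
  have hx' := mem_cj.mp hx
  have hmem : ∀ u : X V, ⁅x, el u⁆ ∈ cj g V := by
    intro u
    rw [mem_cj]
    have := H.ctx.comm_mem hx' (mem_cj.mp (H.symm (el_mem u)))
    convert this using 1
    simp only [commutatorElement_def]; group
  choose b hb using fun u => C.surj _ (hmem u)
  refine ⟨AddMonoidHom.mk' b ?_, ?_⟩
  · intro u w
    apply C.inj
    have hc : Commute (el u) ⁅x, el w⁆ := H.V_comm' (el_mem u) (hmem w)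
    rw [C.add, hb, hb, hb, el_add, comm_mul_right, hc.eq, mul_inv_cancel_right]
  · rintro ⟨u, w⟩
    show x * (el u * τ w) * x⁻¹ = el u * τ (w + b u)
    have hfix : x * τ w * x⁻¹ = τ w := by
      have := H.ctx.fix_V (mem_cj.mp (C.mem w)) hx'
      calc x * τ w * x⁻¹ = g * ((g⁻¹ * x * g) * (g⁻¹ * τ w * g) * (g⁻¹ * x * g)⁻¹) * g⁻¹ := by
            group
        _ = τ w := by rw [this]; group
    rw [show x * (el u * τ w) * x⁻¹ = (x * el u * x⁻¹) * (x * τ w * x⁻¹) by group, hfix,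
      conj_eq_comm, C.add, hb, (H.V_comm' (el_mem u) (hmem u)).symm.eq, mul_assoc]
    congr 1
    exact (cj_comm H.ctx (hmem u) (C.mem w)).eq

theorem isUp_add {a a' : AddMonoid.End (X V)} (h : IsUp Q τ a) (h' : IsUp Q τ a') :
    IsUp Q τ (a + a') := by
  obtain ⟨p, hp, e⟩ := h
  obtain ⟨q, hq, e'⟩ := h'
  refine ⟨p * q, mul_mem hp hq, (e.mul e').congr fun w => ?_⟩
  show (w.1 + a' w.2 + a w.2, w.2) = (w.1 + (a w.2 + a' w.2), w.2)
  rw [add_assoc, add_comm (a' w.2)]

theorem isUp_zero : IsUp Q τ 0 := ⟨1, one_mem _, fun w => by simp [up]⟩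

/-- The additive group of the actions of `P`. -/
def ups : AddSubgroup (AddMonoid.End (X V)) where
  carrier := {a | IsUp Q τ a}
  zero_mem' := isUp_zero H C
  add_mem' := fun h h' => isUp_add H C h h'
  neg_mem' := fun {a} h => by
    have e : -a = a := DFunLike.ext _ _ fun u => neg_eq_of_add_eq_zero_left (two H (a u))
    show IsUp Q τ (-a)
    rwa [e]

theorem isUp_one : IsUp Q τ 1 := by
  obtain ⟨a, ha⟩ := exists_up H C C.p0_mem
  refine ⟨p0, C.p0_mem, ha.congr fun w => ?_⟩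
  have h1 := ha (0, w.2)
  simp only [io, up, el_zero, one_mul, zero_add] at h1
  rw [conj_eq_comm, C.comm] at h1
  show (w.1 + a w.2, w.2) = (w.1 + w.2, w.2)
  rw [(el_inj (mul_right_cancel h1)).symm]

theorem up_inj {a : AddMonoid.End (X V)} (h : IsUp Q τ a) (ha : a ≠ 0) {w : X V} (e : a w = 0) :
    w = 0 := by
  obtain ⟨p, hp, hr⟩ := h
  by_contra hw
  apply ha
  have hc : ∀ u, p * τ u * p⁻¹ = el (a u) * τ u := by
    intro u
    have := hr (0, u)
    simpa [io, up, el_zero] using this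
  have hpw : Commute p (τ w) := by
    have := hc w
    rw [e, el_zero, one_mul] at this
    exact mul_inv_eq_iff_eq_mul.mp this
  refine DFunLike.ext _ _ fun u => el_inj ?_
  have hne : τ w ≠ 1 := fun e1 => hw (C.inj (e1.trans (tau_zero H C).symm))
  have h1 := (H.ctx.cent_all H.le H.ne hp (C.mem w) hne hpw _ (C.mem u)).eq
  have h2 := hc u
  rw [h1, mul_inv_cancel_right] at h2
  exact (mul_eq_right.mp h2.symm).trans el_zero.symm

theorem up_surj {u w : X V} (hw : w ≠ 0) : ∃ a, IsUp Q τ a ∧ a w = u := by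
  have hne : τ w ≠ 1 := fun e1 => hw (C.inj (e1.trans (tau_zero H C).symm))
  obtain ⟨p, hp, e⟩ := H.exists_conj (el_mem u) (C.mem w) hne
  obtain ⟨a, ha⟩ := exists_up H C hp
  refine ⟨a, ⟨p, hp, ha⟩, el_inj ?_⟩
  have := ha (0, w)
  simp only [io, up, el_zero, one_mul, zero_add] at this
  rw [conj_eq_comm, e] at this
  exact (mul_right_cancel this).symm

theorem low_surj {u w : X V} (hu : u ≠ 0) : ∃ b, IsLow Q g τ b ∧ b u = w := by
  have hne : el u ≠ 1 := fun e1 => hu (el_inj e1)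
  obtain ⟨x, hx, e⟩ := H.exists_conj' (el_mem u) hne (C.mem w)
  obtain ⟨b, hb⟩ := exists_low H C hx
  refine ⟨b, ⟨x, hx, hb⟩, C.inj ?_⟩
  have := hb (u, 0)
  simp only [io, low, tau_zero H C, mul_one, zero_add] at this
  rw [conj_eq_comm, e, (H.V_comm' (el_mem u) (C.mem w)).symm.eq] at this
  exact (mul_left_cancel this).symm

/-- The components of `W`: a nonzero action of `P^g` inverts one of `P`. -/
theorem low_inv {b : AddMonoid.End (X V)} (h : IsLow Q g τ b) (hb : b ≠ 0) :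
    ∃ a, IsUp Q τ a ∧ a * b = 1 := by
  obtain ⟨x, hx, hr⟩ := h
  obtain ⟨u, hu⟩ : ∃ u, b u ≠ 0 := by
    by_contra hcon
    push Not at hcon
    exact hb (DFunLike.ext _ _ hcon)
  obtain ⟨a, ⟨p, hp, hpr⟩, hau⟩ := up_surj H C (u := u) hu
  refine ⟨a, ⟨p, hp, hpr⟩, DFunLike.ext _ _ fun u' => ?_⟩
  have hxc : ∀ v, io τ (v, b v) ∈ cj x V := by
    intro v
    have := hr (v, 0)
    simp only [low, zero_add] at this
    rw [← this]
    refine conj_mem_cj ?_
    show el v * τ 0 ∈ V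
    rw [tau_zero H C, mul_one]; exact el_mem v
  have e : p * τ (b u) * p⁻¹ = io τ (u, b u) := by
    have := hpr (0, b u)
    simpa [io, up, el_zero, hau] using this
  have hne : io τ (u, b u) ≠ 1 := by
    intro e1
    have h0 : io τ (u, b u) = io τ (0, 0) := by rw [e1]; simp [io, el_zero, tau_zero H C]
    exact hu (congrArg Prod.snd (io_inj H C h0))
  have hcomp := H.conj_component hne (hxc u) (C.mem _) e
  have h1 := hxc u'
  rw [hcomp, ← cj_cj, mem_cj] at h1
  obtain ⟨w, hw⟩ := C.surj _ h1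
  have h2 : io τ (up a (0, w)) = io τ (u', b u') := by
    rw [← hpr (0, w)]
    simp only [io, el_zero, one_mul]
    rw [hw]
    simp only [io]; group
  have h3 := io_inj H C h2
  simp only [up, zero_add, Prod.mk.injEq] at h3
  show a (b u') = u'
  rw [← h3.2]; exact h3.1

theorem mul_eq_one_comm' {a b : AddMonoid.End (X V)} (e : a * b = 1) : b * a = 1 := by
  have hbi : Function.Injective b := fun u w h => by
    have h1 : a (b u) = u := DFunLike.congr_fun e u
    have h2 : a (b w) = w := DFunLike.congr_fun e w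
    rw [← h1, h, h2]
  refine DFunLike.ext _ _ fun u => ?_
  obtain ⟨v, rfl⟩ := (Finite.injective_iff_surjective.mp hbi) u
  show b (a (b v)) = b v
  exact congrArg b (DFunLike.congr_fun e v)

theorem swap_elt : ∃ d : G, cj d V = cj g V ∧ Rep τ d Prod.swap := by
  obtain ⟨u, hu⟩ : ∃ u : X V, u ≠ 0 := by
    obtain ⟨v, hv, hv1⟩ := H.exists_ne
    exact ⟨Additive.ofMul ⟨v, hv⟩, fun e => hv1 (congrArg el e)⟩
  obtain ⟨b, hb, hbu⟩ := low_surj H C (w := u) hu
  have hb0 : b ≠ 0 := by rintro rfl; exact hu hbu.symm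
  obtain ⟨a, ha, hab⟩ := low_inv H C hb hb0
  have ha1 : a = 1 := by
    have hau : a u = u := by
      conv_lhs => rw [← hbu]
      exact DFunLike.congr_fun hab u
    by_contra hne
    refine hu (up_inj H C ((ups H C).sub_mem ha (isUp_one H C)) (sub_ne_zero.mpr hne) ?_)
    show a u - u = 0
    rw [hau, sub_self]
  subst ha1
  rw [one_mul] at hab
  subst hab
  obtain ⟨x, hx, hxr⟩ := hb
  obtain ⟨p, hp, hpr⟩ := isUp_one H C
  have hd : Rep τ (p * x * p) Prod.swap := by
    refine ((hpr.mul hxr).mul hpr).congr fun w => ?_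
    obtain ⟨u, w⟩ := w
    show (u + w + (w + (u + w)), w + (u + w)) = (w, u)
    have h2 := two H
    rw [show w + (u + w) = u + (w + w) by abel, h2, add_zero,
      show u + w + u = w + (u + u) by abel, h2, add_zero]
  refine ⟨p * x * p, ?_, hd⟩
  have h1 := hd (u, 0)
  simp only [io, Prod.swap_prod_mk, tau_zero H C, mul_one, el_zero, one_mul] at h1
  refine H.ctx.eq_of_mem (w := τ u) (fun e1 => hu (C.inj (e1.trans (tau_zero H C).symm))) ?_
    (C.mem u)
  rw [← h1]
  exact conj_mem_cj (el_mem u)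

theorem low_of_up {a : AddMonoid.End (X V)} (h : IsUp Q τ a) : IsLow Q g τ a := by
  obtain ⟨d, hd, hdr⟩ := swap_elt H C
  obtain ⟨p, hp, hpr⟩ := h
  refine ⟨d * p * d⁻¹, ?_, ((hdr.mul hpr).mul (hdr.inv (f' := Prod.swap) fun w => by simp)).congr
    fun w => ?_⟩
  · rw [← cj_PP_congr H.ctx hd]; exact conj_mem_cj hp
  · simp [up, low]

theorem up_inv {a : AddMonoid.End (X V)} (h : IsUp Q τ a) (ha : a ≠ 0) :
    ∃ a', IsUp Q τ a' ∧ a' * a = 1 ∧ a * a' = 1 := by
  obtain ⟨a', ha', e⟩ := low_inv H C (low_of_up H C h) ha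
  exact ⟨a', ha', e, mul_eq_one_comm' H C e⟩

theorem up_of_low {b : AddMonoid.End (X V)} (h : IsLow Q g τ b) : IsUp Q τ b := by
  by_cases hb : b = 0
  · rw [hb]; exact isUp_zero H C
  obtain ⟨a, ha, e⟩ := low_inv H C h hb
  have ha0 : a ≠ 0 := by
    rintro rfl
    rw [zero_mul] at e
    exact hb (by rw [← one_mul b, ← e, zero_mul])
  obtain ⟨a', ha', e1, e2⟩ := up_inv H C ha ha0
  have hba : b = a' := by
    calc b = (a' * a) * b := by rw [e1, one_mul]
      _ = a' := by rw [mul_assoc, e, mul_one]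
  rwa [hba]

theorem jordan {a c : AddMonoid.End (X V)} (ha : IsUp Q τ a) (hc : IsUp Q τ c) :
    IsUp Q τ (a * c * a) := by
  by_cases ha0 : a = 0
  · rw [ha0, zero_mul, zero_mul]; exact isUp_zero H C
  obtain ⟨a', ha', e1, e2⟩ := up_inv H C ha ha0
  obtain ⟨p, hp, hpr⟩ := ha'
  obtain ⟨x, hx, hxr⟩ := low_of_up H C ha
  obtain ⟨q, hq, hqr⟩ := hc
  have h2 := two H
  have hd : Rep τ (p * x * p) (fun w => (a' w.2, a w.1)) := by
    refine ((hpr.mul hxr).mul hpr).congr fun w => ?_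
    obtain ⟨u, w⟩ := w
    show (u + a' w + a' (w + a (u + a' w)), w + a (u + a' w)) = (a' w, a u)
    have h3 : a (a' w) = w := DFunLike.congr_fun e2 w
    have h4 : a' (a u) = u := DFunLike.congr_fun e1 u
    have h5 : w + a (u + a' w) = a u := by
      rw [map_add, h3, show w + (a u + w) = a u + (w + w) by abel, h2, add_zero]
    rw [h5, h4, show u + a' w + u = a' w + (u + u) by abel, h2, add_zero]
  have hdinv : Rep τ (p * x * p)⁻¹ (fun w => (a' w.2, a w.1)) := hd.inv fun w => by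
    exact Prod.ext (DFunLike.congr_fun e1 w.1) (DFunLike.congr_fun e2 w.2)
  have hV : cj (p * x * p) V = cj g V := by
    obtain ⟨v, hv, hv1⟩ := H.exists_ne
    set u : X V := Additive.ofMul ⟨v, hv⟩
    have hu : a u ≠ 0 := fun e => hv1 (congrArg el (up_inj H C ha ha0 e))
    have h1 := hd (u, 0)
    simp only [io, map_zero, tau_zero H C, mul_one, el_zero, one_mul] at h1
    refine H.ctx.eq_of_mem (w := τ (a u)) (fun e1 => hu (C.inj (e1.trans (tau_zero H C).symm))) ?_
      (C.mem _)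
    rw [← h1]
    exact conj_mem_cj (el_mem u)
  refine up_of_low H C ⟨(p * x * p) * q * (p * x * p)⁻¹, ?_, ((hd.mul hqr).mul hdinv).congr
    fun w => ?_⟩
  · rw [← cj_PP_congr H.ctx hV]; exact conj_mem_cj hq
  · obtain ⟨u, w⟩ := w
    show (a' (a u), a (a' w + c (a u))) = (u, w + a (c (a u)))
    have h3 : a (a' w) = w := DFunLike.congr_fun e2 w
    have h4 : a' (a u) = u := DFunLike.congr_fun e1 u
    rw [map_add, h3, h4]

theorem spread : Spread (ups H C) where
  two := two H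
  one_mem := isUp_one H C
  bij := fun a ha ha0 => by
    have hinj : Function.Injective a := fun u w e => sub_eq_zero.mp
      (up_inj H C ha ha0 (by rw [map_sub, e, sub_self]))
    exact ⟨hinj, Finite.injective_iff_surjective.mp hinj⟩
  card := by
    obtain ⟨v, hv, hv1⟩ := H.exists_ne
    set u : X V := Additive.ofMul ⟨v, hv⟩
    have hu : u ≠ 0 := fun e => hv1 (congrArg el e)
    refine Nat.card_eq_of_bijective (fun a : ↥(ups H C) => (a : AddMonoid.End (X V)) u) ⟨?_, ?_⟩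
    · intro a c e
      apply Subtype.ext
      by_contra hne
      refine hu (up_inj H C ((ups H C).sub_mem a.2 c.2) (sub_ne_zero.mpr hne) ?_)
      show (a : AddMonoid.End (X V)) u - (c : AddMonoid.End (X V)) u = 0
      rw [show (a : AddMonoid.End (X V)) u = (c : AddMonoid.End (X V)) u from e, sub_self]
    · intro w
      obtain ⟨a, ha, e⟩ := up_surj H C (u := w) hu
      exact ⟨⟨a, ha⟩, e⟩
  jordan := fun a ha c hc => jordan H C ha hc

end

end Cfsg.Agent.TIAbelianSL32
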