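import Cfsg.Agent.Lib.TIAbelianSL32
import Mathlib

/-!
# `⟨P, P'⟩ / C(V V') ≅ SL(2, F)`
-/

set_option autoImplicit false
set_option linter.all false

namespace Cfsg.Agent.TIAbelianSLMain32

open Subgroup Cfsg.Agent.TIAbelianCore32 Cfsg.Agent.TIAbelianPair32 Cfsg.Agent.TIAbelianSL32
open Cfsg.Agent.JordanSpreadField32 (Spread K)
open Matrix
open scoped IsMulCommutative

variable {G : Type*} [Group G] {V Q : Subgroup G} {g : G} [IsMulCommutative ↥V]
  {F : Type} [Field F]

/-- The action of a matrix on coordinates. -/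
def act (θ : F →+* AddMonoid.End (X V)) (M : Matrix.SpecialLinearGroup (Fin 2) F)
    (w : X V × X V) : X V × X V :=
  (θ ((M : Matrix (Fin 2) (Fin 2) F) 0 0) w.1 + θ ((M : Matrix (Fin 2) (Fin 2) F) 0 1) w.2,
   θ ((M : Matrix (Fin 2) (Fin 2) F) 1 0) w.1 + θ ((M : Matrix (Fin 2) (Fin 2) F) 1 1) w.2)

theorem act_mul (θ : F →+* AddMonoid.End (X V)) (M N : Matrix.SpecialLinearGroup (Fin 2) F)
    (w : X V × X V) : act θ (M * N) w = act θ M (act θ N w) := by
  have hm : ∀ (a b : F) (u : X V), θ a (θ b u) = θ (a * b) u := fun a b u => by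
    rw [map_mul]; rfl
  have ha : ∀ (a b : F) (u : X V), θ (a + b) u = θ a u + θ b u := fun a b u => by
    rw [map_add]; rfl
  have e : ∀ i j : Fin 2, ((M * N : Matrix.SpecialLinearGroup (Fin 2) F) : Matrix (Fin 2) (Fin 2) F) i j
      = (M : Matrix (Fin 2) (Fin 2) F) i 0 * (N : Matrix (Fin 2) (Fin 2) F) 0 j
        + (M : Matrix (Fin 2) (Fin 2) F) i 1 * (N : Matrix (Fin 2) (Fin 2) F) 1 j := fun i j => by
    show ((M : Matrix (Fin 2) (Fin 2) F) * (N : Matrix (Fin 2) (Fin 2) F)) i j = _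
    rw [Matrix.mul_apply, Fin.sum_univ_two]
  simp only [act, e, ha]
  simp only [map_add, hm]
  refine Prod.ext ?_ ?_ <;> simp only [] <;> abel

theorem act_one (θ : F →+* AddMonoid.End (X V)) (w : X V × X V) : act θ 1 w = w := by
  simp [act]

theorem act_inj (θ : F →+* AddMonoid.End (X V)) (hθ : Function.Injective θ)
    {M N : Matrix.SpecialLinearGroup (Fin 2) F} (h : ∀ w, act θ M w = act θ N w) : M = N := by
  apply Subtype.ext
  funext i j
  apply hθ
  refine DFunLike.ext _ _ fun u => ?_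
  fin_cases i <;> fin_cases j
  · simpa [act] using congrArg Prod.fst (h (u, 0))
  · simpa [act] using congrArg Prod.fst (h (0, u))
  · simpa [act] using congrArg Prod.snd (h (u, 0))
  · simpa [act] using congrArg Prod.snd (h (0, u))

theorem act_upper (θ : F →+* AddMonoid.End (X V)) (c : F) (hij : (0 : Fin 2) ≠ 1) (w : X V × X V) :
    act θ (SpecialLinearGroup.transvection hij c) w = up (θ c) w := by
  simp [act, up, SpecialLinearGroup.transvection, Matrix.transvection, Matrix.single_apply]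

theorem act_lower (θ : F →+* AddMonoid.End (X V)) (c : F) (hij : (1 : Fin 2) ≠ 0) (w : X V × X V) :
    act θ (SpecialLinearGroup.transvection hij c) w = low (θ c) w := by
  simp [act, low, SpecialLinearGroup.transvection, Matrix.transvection, Matrix.single_apply, add_comm]

theorem quotient_equiv_of_field [Finite G] (H : Pair V Q g) {τ : X V → G} {p0 : G}
    (C : Crd V Q g τ p0) (θ : F →+* AddMonoid.End (X V)) (hθ : Function.Injective θ)
    (hsur : ∀ x, IsUp Q τ x → ∃ c, θ c = x) (hmem : ∀ c, IsUp Q τ (θ c))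
    [hN : ((centralizer ((V ⊔ cj g V : Subgroup G) : Set G)).subgroupOf
      (PP V Q ⊔ cj g (PP V Q))).Normal] :
    Nonempty (↥(PP V Q ⊔ cj g (PP V Q)) ⧸ (centralizer ((V ⊔ cj g V : Subgroup G) : Set G)).subgroupOf
      (PP V Q ⊔ cj g (PP V Q)) ≃* Matrix.SpecialLinearGroup (Fin 2) F) := by
  let T : Subgroup G :=
    { carrier := {h | ∃ M : Matrix.SpecialLinearGroup (Fin 2) F, Rep τ h (act θ M)}
      one_mem' := ⟨1, fun w => by simp [act_one]⟩
      mul_mem' := by
        rintro h k ⟨M, hM⟩ ⟨N, hN⟩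
        exact ⟨M * N, (hM.mul hN).congr fun w => (act_mul θ M N w).symm⟩
      inv_mem' := by
        rintro h ⟨M, hM⟩
        exact ⟨M⁻¹, hM.inv fun w => by rw [← act_mul, mul_inv_cancel, act_one]⟩ }
  have h01 : (0 : Fin 2) ≠ 1 := by decide
  have h10 : (1 : Fin 2) ≠ 0 := by decide
  have hT : PP V Q ⊔ cj g (PP V Q) ≤ T := by
    refine sup_le (fun p hp => ?_) (fun x hx => ?_)
    · obtain ⟨b, hb⟩ := exists_up H C hp
      obtain ⟨c, rfl⟩ := hsur b ⟨p, hp, hb⟩
      exact ⟨SpecialLinearGroup.transvection h01 c, hb.congr fun w => (act_upper θ c h01 w).symm⟩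
    · obtain ⟨b, hb⟩ := exists_low H C hx
      obtain ⟨c, rfl⟩ := hsur b (up_of_low H C ⟨x, hx, hb⟩)
      exact ⟨SpecialLinearGroup.transvection h10 c, hb.congr fun w => (act_lower θ c h10 w).symm⟩
  choose Φ hΦ using fun h : ↥(PP V Q ⊔ cj g (PP V Q)) => (hT h.2 : ∃ M, Rep τ (h : G) (act θ M))
  have huniq : ∀ (h : ↥(PP V Q ⊔ cj g (PP V Q))) M, Rep τ (h : G) (act θ M) → Φ h = M :=
    fun h M hM => act_inj θ hθ fun w => io_inj H C ((hΦ h w).symm.trans (hM w))
  let f : ↥(PP V Q ⊔ cj g (PP V Q)) →* Matrix.SpecialLinearGroup (Fin 2) F :=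
    MonoidHom.mk' Φ fun h k => huniq _ _
      (((hΦ h).mul (hΦ k)).congr fun w => (act_mul θ _ _ w).symm)
  have hker : f.ker = (centralizer ((V ⊔ cj g V : Subgroup G) : Set G)).subgroupOf
      (PP V Q ⊔ cj g (PP V Q)) := by
    ext h
    rw [MonoidHom.mem_ker, mem_subgroupOf, mem_centralizer_iff]
    constructor
    · intro e x hx
      obtain ⟨w, rfl⟩ := exists_io H C hx
      have := hΦ h w
      rw [show Φ h = 1 from e, act_one] at this
      exact (mul_inv_eq_iff_eq_mul.mp this).symm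
    · intro e
      refine huniq h 1 fun w => ?_
      rw [act_one, ← e _ (io_mem H C w), mul_inv_cancel_right]
  have hfs : Function.Surjective f := by
    rw [← MonoidHom.range_eq_top]
    refine Cfsg.Agent.PSLSimple.eq_top_of_transvection_mem _ fun i j hij c => ?_
    fin_cases i <;> fin_cases j
    · exact absurd rfl hij
    · obtain ⟨p, hp, hr⟩ := hmem c
      exact ⟨⟨p, mem_sup_left hp⟩, huniq _ _ (hr.congr fun w => (act_upper θ c hij w).symm)⟩
    · obtain ⟨x, hx, hr⟩ := low_of_up H C (hmem c)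
      exact ⟨⟨x, mem_sup_right hx⟩, huniq _ _ (hr.congr fun w => (act_lower θ c hij w).symm)⟩
    · exact absurd rfl hij
  exact ⟨(QuotientGroup.quotientMulEquivOfEq hker.symm).trans
    (QuotientGroup.quotientKerEquivOfSurjective f hfs)⟩

omit F in
theorem quotient_equiv_SL [Finite G] (H : Pair V Q g)
    [hN : ((centralizer ((V ⊔ cj g V : Subgroup G) : Set G)).subgroupOf
      (PP V Q ⊔ cj g (PP V Q))).Normal] :
    ∃ (F : Type) (_ : Field F) (_ : Fintype F), Fintype.card F = Nat.card ↥V ∧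
      Nonempty (↥(PP V Q ⊔ cj g (PP V Q)) ⧸ (centralizer ((V ⊔ cj g V : Subgroup G) : Set G)).subgroupOf
        (PP V Q ⊔ cj g (PP V Q)) ≃* Matrix.SpecialLinearGroup (Fin 2) F) := by
  classical
  obtain ⟨τ, p0, C⟩ := exists_crd H
  have hA := spread H C
  obtain ⟨v, hv, hv1⟩ := H.exists_ne
  haveI : Nontrivial (X V) := ⟨⟨Additive.ofMul ⟨v, hv⟩, 0, fun e => hv1 (congrArg el e)⟩⟩
  have hVp : IsPGroup 2 ↥V := fun a => ⟨1, Subtype.ext (by
    rw [pow_one, pow_two]; exact H.ctx.sq _ a.2)⟩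
  haveI : Fact (Nat.Prime 2) := ⟨Nat.prime_two⟩
  obtain ⟨n, hn⟩ := IsPGroup.iff_card.mp hVp
  have hnX : Nat.card (X V) = 2 ^ n := (Nat.card_congr Additive.toMul).trans hn
  have hn0 : n ≠ 0 := by
    rintro rfl
    rw [pow_zero] at hnX
    exact absurd hnX (Finite.one_lt_card (α := X V)).ne'
  obtain ⟨a, ha, hK⟩ := hA.exists_generator hnX
  haveI : Finite (AddMonoid.End (X V)) := Finite.of_injective _ DFunLike.coe_injective
  letI : CommRing ↥(K a) :=
    { (inferInstance : Ring ↥(K a)) with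
      mul_comm := fun x y => Subtype.ext (hA.K_comm x.2 y.2) }
  haveI : IsDomain ↥(K a) := hA.domain ha
  letI : Field ↥(K a) := (Finite.isField_of_domain ↥(K a)).toField
  haveI : Fintype ↥(K a) := Fintype.ofFinite _
  haveI : Fintype (GaloisField 2 n) := Fintype.ofFinite _
  have hcF : Fintype.card (GaloisField 2 n) = Nat.card ↥V := by
    rw [← Nat.card_eq_fintype_card, GaloisField.card 2 n hn0, hn]
  have hcK : Fintype.card ↥(K a) = Fintype.card (GaloisField 2 n) := by
    rw [hcF, ← Nat.card_eq_fintype_card, hn, ← hnX, ← hA.card]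
    exact Nat.card_congr (Equiv.subtypeEquivRight fun x => (hK x).symm)
  refine ⟨GaloisField 2 n, inferInstance, inferInstance, hcF, ?_⟩
  let θ : GaloisField 2 n →+* AddMonoid.End (X V) :=
    (K a).subtype.comp (FiniteField.ringEquivOfCardEq hcK).symm.toRingHom
  have hθ : Function.Injective θ :=
    (K a).subtype_injective.comp (FiniteField.ringEquivOfCardEq hcK).symm.injective
  have hsur : ∀ x ∈ ups H C, ∃ c, θ c = x := by
    intro x hx
    refine ⟨FiniteField.ringEquivOfCardEq hcK ⟨x, (hK x).mp hx⟩, ?_⟩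
    show ((FiniteField.ringEquivOfCardEq hcK).symm (FiniteField.ringEquivOfCardEq hcK _)).1 = x
    rw [RingEquiv.symm_apply_apply]
  have hmem : ∀ c, IsUp Q τ (θ c) := fun c =>
    (hK _).mpr ((FiniteField.ringEquivOfCardEq hcK).symm c).2
  exact quotient_equiv_of_field H C θ hθ hsur hmem

end Cfsg.Agent.TIAbelianSLMain32
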