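import Mathlib
import Cfsg.Agent.Lib.TICentralizers82Basic

/-!
Frobenius complements in groups whose centralisers are TI-subsets: cyclic, or the product of a cyclic
group of odd order and the quaternion group of order eight.
-/

set_option autoImplicit false
set_option linter.style.haveILetI false

namespace Cfsg.Agent.TICentralizers82

open Cfsg

universe u

variable {G : Type u} [Group G]

/-- Generalised quaternion groups of order at least sixteen have non-commuting conjugates. -/
theorem not_commute_quaternion {n : ℕ} (hn : 2 < n) :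
    ¬ Commute (QuaternionGroup.a 1 * QuaternionGroup.xa 0 * (QuaternionGroup.a 1)⁻¹ :
      QuaternionGroup n) (QuaternionGroup.xa 0) := by
  have hn0 : NeZero n := ⟨by omega⟩
  rintro h
  have e1 : (QuaternionGroup.a 1)⁻¹ = (QuaternionGroup.a (-1) : QuaternionGroup n) := rfl
  have h' := h.eq
  rw [e1] at h'
  simp only [QuaternionGroup.a_mul_xa, QuaternionGroup.xa_mul_a, QuaternionGroup.xa_mul_xa,
    QuaternionGroup.a.injEq] at h'
  have h4 : ((4 : ℕ) : ZMod (2 * n)) = 0 := by
    push_cast
    linear_combination h'
  rw [ZMod.natCast_eq_zero_iff] at h4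
  have := Nat.le_of_dvd (by norm_num) h4
  omega

variable [Finite G]

/-- The structure of a complement. -/
theorem complement_structure (h : Hyp G) {K H : Subgroup G} [K.Normal]
    (hc : Subgroup.IsComplement' K H) (hK : K ≠ ⊥) (hH : H ≠ ⊥)
    (hfpf : ∀ a ∈ H, a ≠ 1 → K ⊓ Subgroup.centralizer ({a} : Set G) = ⊥) :
    IsCyclic H ∨ ∃ m : ℕ, Odd m ∧ Nonempty (H ≃* Multiplicative (ZMod m) × QuaternionGroup 2) := by
  classical
  haveI : Group.IsNilpotent H := by
    obtain ⟨z, hz, hz1⟩ := (Subgroup.bot_or_exists_ne_one (Subgroup.center H)).resolve_left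
      (FrobeniusComplement.center_ne_bot hc hK hH hfpf)
    exact isNilpotent_of_center (h.subgroup H) hz hz1
  haveI : Fact (Nat.Prime 2) := ⟨Nat.prime_two⟩
  obtain ⟨P⟩ : Nonempty (Sylow 2 H) := inferInstance
  have hodd : ∀ (p : ℕ) [Fact p.Prime] (Q : Sylow p H), p ≠ 2 → IsCyclic (Q : Subgroup H) := by
    intro p _ Q hp
    rcases FrobeniusComplement.sylow_cyclic_or_quaternion hc hK hfpf (Q : Subgroup H)
      Q.isPGroup' with hcyc | ⟨h2, -⟩
    · exact hcyc
    · exact absurd h2 hp
  by_cases hPc : IsCyclic (P : Subgroup H)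
  · left
    haveI : IsZGroup H := ⟨fun p hp Q => by
      haveI := Fact.mk hp
      by_cases hp2 : p = 2
      · subst hp2
        obtain ⟨g, rfl⟩ := MulAction.exists_smul_eq H P Q
        rw [Sylow.coe_subgroup_smul]
        exact isCyclic_of_surjective _ (Subgroup.equivSMul (MulAut.conj g) (P : Subgroup H)).surjective
      · exact hodd p Q hp2⟩
    infer_instance
  right
  obtain ⟨-, n, ⟨e⟩⟩ := (FrobeniusComplement.sylow_cyclic_or_quaternion hc hK hfpf (P : Subgroup H)
    P.isPGroup').resolve_left hPc
  have hn : n = 1 := by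
    rcases n with _ | _ | n
    · refine absurd ?_ hPc
      haveI : IsCyclic (QuaternionGroup (2 ^ 0)) := QuaternionGroup.quaternionGroup_one_isCyclic
      exact isCyclic_of_surjective e.symm e.symm.surjective
    · rfl
    · exfalso
      have h2 : 2 < 2 ^ (n + 2) := by
        calc 2 < 2 ^ 2 := by norm_num
          _ ≤ 2 ^ (n + 2) := Nat.pow_le_pow_right (by norm_num) (by omega)
      have hPne : (P : Subgroup H) ≠ ⊥ := fun eb => hPc (by rw [eb]; infer_instance)
      haveI : Nontrivial (P : Subgroup H) := (Subgroup.nontrivial_iff_ne_bot _).2 hPne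
      haveI := P.isPGroup'.center_nontrivial
      obtain ⟨z, hz⟩ := exists_ne (1 : Subgroup.center (P : Subgroup H))
      have hP := (h.subgroup H).subgroup (P : Subgroup H)
      have hall : ∀ y : (P : Subgroup H), y ∈ cn (z : (P : Subgroup H)) := fun y =>
        mem_cn.2 (Subgroup.mem_center_iff.1 z.2 y)
      have hcc := conj_commute hP (fun eb => hz (Subtype.ext eb))
        (hall (e.symm (QuaternionGroup.xa 0))) (hall (e.symm (QuaternionGroup.a 1)))
      have := hcc.map e.toMonoidHom
      simp only [MulEquiv.coe_toMonoidHom, map_mul, map_inv, MulEquiv.apply_symm_apply] at this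
      exact not_commute_quaternion h2 this
  subst hn
  have hPn : (P : Subgroup H).Normal := by
    have := ((Group.isNilpotent_of_finite_tfae (G := H)).out 0 3 rfl rfl).mp inferInstance
    exact this 2 ⟨Nat.prime_two⟩ P
  obtain ⟨O, hO⟩ := Subgroup.exists_left_complement'_of_coprime P.card_coprime_index
  have hcop : (Nat.card O).Coprime (Nat.card (P : Subgroup H)) := by
    rw [← hO.index_eq_card]
    exact P.card_coprime_index.symm
  have hOodd : Odd (Nat.card O) := by
    rw [Nat.odd_iff]
    by_contra hne
    have h2O : 2 ∣ Nat.card O := by omega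
    rw [← hO.index_eq_card] at h2O
    exact P.not_dvd_index h2O
  haveI : IsZGroup O := ⟨fun p hp Q => by
    haveI := Fact.mk hp
    by_cases hp2 : p = 2
    · subst hp2
      have : (Q : Subgroup O) = ⊥ := by
        obtain ⟨k, hk⟩ := Q.isPGroup'.exists_card_eq
        refine Subgroup.card_eq_one.1 ?_
        rcases k with _ | k
        · simpa using hk
        · exfalso
          refine Nat.not_even_iff_odd.2 hOodd (even_iff_two_dvd.2 ?_)
          exact (dvd_pow_self 2 (Nat.succ_ne_zero k)).trans (hk ▸ Subgroup.card_subgroup_dvd_card _)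
      rw [this]; infer_instance
    · obtain ⟨R, hR⟩ := (Q.isPGroup'.map O.subtype).exists_le_sylow
      haveI := hodd p R hp2
      haveI : IsCyclic ↥((Q : Subgroup O).map O.subtype) := Subgroup.isCyclic_of_le hR
      exact isCyclic_of_surjective _
        ((Q : Subgroup O).equivMapOfInjective O.subtype O.subtype_injective).symm.surjective⟩
  haveI : Group.IsNilpotent O := inferInstance
  haveI : IsCyclic O := inferInstance
  refine ⟨Nat.card O, hOodd, ⟨?_⟩⟩
  have hcomm : ∀ (a : O) (b : (P : Subgroup H)), Commute (a : H) (b : H) := fun a b =>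
    HallNilpotentConj.commute_of_coprime_orderOf H (a : H) (b : H)
      (Nat.Coprime.coprime_dvd_left (by rw [Subgroup.orderOf_coe]; exact orderOf_dvd_natCard a)
        (hcop.coprime_dvd_right (by rw [Subgroup.orderOf_coe]; exact orderOf_dvd_natCard b)))
  let f : O × (P : Subgroup H) →* H :=
    MonoidHom.noncommCoprod O.subtype (P : Subgroup H).subtype hcomm
  let f' : O × (P : Subgroup H) ≃* H := MulEquiv.ofBijective f hO
  exact f'.symm.trans (MulEquiv.prodCongr (zmodCyclicMulEquiv inferInstance).symm e)

end Cfsg.Agent.TICentralizers82
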