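import Mathlib
import Cfsg.Agent.Lib.TICentralizers82Geometry
import Cfsg.Agent.Lib.FeitMain

/-!
Groups with TI centralisers and without nilpotent normal subgroups are Zassenhaus groups with
two-point stabilisers of odd order.
-/

set_option autoImplicit false
set_option linter.style.haveILetI false
set_option linter.unusedSectionVars false

namespace Cfsg.Agent.TICentralizers82

open MulAction

universe u

variable {G : Type u} [Group G] [Finite G] {t : G}

namespace Setup

variable (H : Setup t)
include H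

theorem exists_point : ∃ p : Pts t, p ≠ base t := by
  classical
  have := Fintype.ofFinite (Pts t)
  have h := H.degree
  have := Nat.card_pos (α := cn t)
  obtain ⟨p, hp⟩ := Fintype.exists_ne_of_one_lt_card
    (by rw [← Nat.card_eq_fintype_card]; omega) (base t)
  exact ⟨p, hp⟩

theorem regular {p q : Pts t} (hp : p ≠ base t) (hq : q ≠ base t) :
    ∃ x ∈ cn t, x • p = q := by
  classical
  have := Fintype.ofFinite (Pts t)
  let f : cn t → {z : Pts t // z ≠ base t} := fun x => ⟨(x : G) • p, fun e => hp (by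
    have := (smul_base_eq (t := t)).2 (cn_le_nm t x.2)
    exact MulAction.injective (x : G) (e.trans this.symm))⟩
  have hf : Function.Injective f := by
    intro x y e
    have e' : (x : G) • p = (y : G) • p := congrArg Subtype.val e
    have hm : ((x : G)⁻¹ * y) • p = p := by rw [mul_smul, ← e', inv_smul_smul]
    by_contra hne
    exact hp (H.eq_base (mul_mem (inv_mem x.2) y.2)
      (fun h1 => hne (Subtype.ext (inv_mul_eq_one.1 h1))) hm)
  have hcard : Nat.card (cn t) = Nat.card {z : Pts t // z ≠ base t} := by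
    have h := H.degree
    rw [Nat.card_eq_fintype_card (α := Pts t)] at h
    rw [Nat.card_eq_fintype_card (α := {z : Pts t // z ≠ base t}), Fintype.card_subtype_compl,
      Fintype.card_subtype_eq]
    omega
  obtain ⟨x, hx⟩ := (hf.bijective_of_nat_card_le hcard.symm.le).2 ⟨q, hq⟩
  exact ⟨x, x.2, congrArg Subtype.val hx⟩

theorem two_trans (a b c d : Pts t) (hab : a ≠ b) (hcd : c ≠ d) :
    ∃ g : G, g • a = c ∧ g • b = d := by
  obtain ⟨g, hg⟩ := exists_smul_eq G a (base t)
  obtain ⟨k, hk⟩ := exists_smul_eq G c (base t)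
  have hgb : g • b ≠ base t := fun e => hab (MulAction.injective g (hg.trans e.symm))
  have hkd : k • d ≠ base t := fun e => hcd (MulAction.injective k (hk.trans e.symm))
  obtain ⟨x, hx, e⟩ := H.regular hgb hkd
  have hxb : x • base t = base t := smul_base_eq.2 (cn_le_nm t hx)
  exact ⟨k⁻¹ * x * g, by rw [mul_smul, mul_smul, hg, hxb, inv_smul_eq_iff, hk],
    by rw [mul_smul, mul_smul, e, inv_smul_smul]⟩

theorem three (g : G) (a b c : Pts t) (hab : a ≠ b) (hbc : b ≠ c) (hac : a ≠ c)
    (ha : g • a = a) (hb : g • b = b) (hc : g • c = c) : g = 1 := by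
  obtain ⟨k, hk⟩ := exists_smul_eq G a (base t)
  have hmem : ∀ z : Pts t, g • z = z → (k * g * k⁻¹) • (k • z) = k • z := fun z hz => by
    rw [mul_smul, mul_smul, inv_smul_smul, hz]
  have h0 : (k * g * k⁻¹) • base t = base t := hk ▸ hmem a ha
  by_contra h1
  exact hbc (MulAction.injective k (H.fix_two
    (fun e => hac (MulAction.injective k (hk.trans e.symm))) (mem_stab.2 ⟨h0, hmem c hc⟩)
    (conj_ne_one' h1)
    (fun e => hab (MulAction.injective k (hk.trans e.symm))) (mem_stab.2 ⟨h0, hmem b hb⟩)))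

theorem two_eq (p : Pts t) : Zassenhaus.two G (base t) p = stab t p := by
  ext g
  rw [mem_stab]
  rfl

theorem card_two {p : Pts t} (hp : p ≠ base t) :
    Nat.card (Zassenhaus.two G (base t) p) = kk t := by
  rw [H.two_eq, H.card_stab hp]

/-- The action is that of a Zassenhaus group. -/
theorem isZassenhaus : Cfsg.IsZassenhausGroup G (Pts t) := by
  classical
  obtain ⟨p, hp⟩ := H.exists_point
  obtain ⟨u, hu, hup⟩ := H.exists_invol hp
  refine ⟨⟨fun {g g'} h => ?_⟩, ?_, H.three, ?_, ?_⟩
  · by_contra hne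
    have h1 : ∀ z : Pts t, (g⁻¹ * g') • z = z := fun z => by rw [mul_smul, ← h z, inv_smul_smul]
    have hd : g⁻¹ * g' ≠ 1 := fun e => hne (inv_mul_eq_one.1 e)
    obtain ⟨x, hx, hx1⟩ : ∃ x ∈ cn t, x ≠ 1 := ⟨t, H.t_mem, H.t_ne⟩
    have hxp : x • p ≠ base t := fun e => hp (by
      have := (smul_base_eq (t := t)).2 (cn_le_nm t hx)
      exact MulAction.injective x (e.trans this.symm))
    exact hd (H.three _ (base t) p (x • p) hp.symm
      (fun e => hp (H.eq_base hx hx1 e.symm)) hxp.symm (h1 _) (h1 _) (h1 _))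
  · exact MulAction.is_two_pretransitive_iff.2 fun {a b c d} hab hcd => H.two_trans a b c d hab hcd
  · have h3 := H.three_le_kk
    have : Nontrivial (stab t p) := by
      rw [← Finite.one_lt_card_iff_nontrivial, H.card_stab hp]; omega
    obtain ⟨⟨d, hd⟩, hd1⟩ := exists_ne (1 : stab t p)
    exact ⟨d, fun e => hd1 (Subtype.ext e), base t, p, hp.symm, (mem_stab.1 hd).1, (mem_stab.1 hd).2⟩
  · intro N hN hNt
    by_contra hcon
    push Not at hcon
    haveI := hN
    let φ : N →* N :=
      { toFun := fun n => ⟨t * n * t⁻¹, hN.conj_mem _ n.2 t⟩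
        map_one' := Subtype.ext (by simp)
        map_mul' := fun a b => Subtype.ext (by simp [mul_assoc]) }
    have hff : MonoidHom.FixedPointFree φ := by
      intro n hn
      have e : t * (n : G) * t⁻¹ = n := congrArg Subtype.val hn
      have hnM : (n : G) ∈ cn t := mem_cn.2 (mul_inv_eq_iff_eq_mul.1 e).symm
      have hmem : n ∈ MulAction.stabilizer N (base t) :=
        (smul_base_eq.2 (cn_le_nm t hnM) : (n : G) • base t = base t)
      erw [hcon (base t), Subgroup.mem_bot] at hmem
      exact hmem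
    have htt : t * t = 1 := SignalizerStrongEmb.involution_mul_self H.ot
    have hinv : Function.Involutive φ := fun n => Subtype.ext (by
      show t * (t * (n : G) * t⁻¹) * t⁻¹ = n
      rw [show t * (t * (n : G) * t⁻¹) * t⁻¹ = t * t * n * (t * t)⁻¹ by group, htt, inv_one,
        one_mul, mul_one])
    have hcoe := hff.coe_eq_inv_of_involutive hinv
    have hcomm : ∀ a b : N, a * b = b * a := fun a b => by
      have h1 := map_mul φ a b
      rw [congrFun hcoe, congrFun hcoe, congrFun hcoe] at h1
      calc a * b = (b⁻¹ * a⁻¹)⁻¹ := by group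
        _ = ((a * b)⁻¹)⁻¹ := by group
        _ = (a⁻¹ * b⁻¹)⁻¹ := by rw [h1]
        _ = b * a := by group
    have hnil : Group.IsNilpotent N := by
      letI : CommGroup N := { (inferInstance : Group N) with mul_comm := hcomm }
      exact CommGroup.isNilpotent
    have hbot := H.noNil N hN hnil
    obtain ⟨n, hn⟩ := hNt.exists_smul_eq (base t) p
    have h1 : (n : G) = 1 := (Subgroup.eq_bot_iff_forall _).1 hbot _ n.2
    exact hp (hn.symm.trans (show (n : G) • base t = base t by rw [h1, one_smul]))

theorem hfix : ∀ x ∈ cn t, x ≠ 1 → ∀ c : Pts t, x • c = c → c = base t :=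
  fun _ hx hx1 _ hc => H.eq_base hx hx1 hc

theorem le_stabilizer : cn t ≤ stabilizer G (base t) := fun _ hx =>
  smul_base_eq.2 (cn_le_nm t hx)

/-- The data for the character computations. -/
theorem sim {p : Pts t} (hp : p ≠ base t) {j : ℕ} (hj : kk t = 2 * j + 1) :
    Feit.Sim (base t) p (cn t) (Nat.card (cn t)) (kk t) j := by
  refine ⟨H.isZassenhaus, hp.symm, H.le_stabilizer, rfl, H.degree, H.card_two hp, hj, H.hfix, ?_, ?_⟩
  · intro c d hcd s hsc hsd x hx
    obtain ⟨g, hgc, hgd⟩ := H.two_trans (base t) p c d hp.symm hcd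
    have hgc' : g⁻¹ • c = base t := inv_smul_eq_iff.2 hgc.symm
    have hgd' : g⁻¹ • d = p := inv_smul_eq_iff.2 hgd.symm
    obtain ⟨u, hu, hup⟩ := H.exists_invol hp
    have hx' : g⁻¹ * x * g ∈ stab t p := mem_stab.2
      ⟨by rw [mul_smul, mul_smul, hgc, show x • c = c from hx.1, hgc'],
       by rw [mul_smul, mul_smul, hgd, show x • d = d from hx.2, hgd']⟩
    set s' := g⁻¹ * s * g with hs'
    have hs'a : s' • base t = p := by rw [hs', mul_smul, mul_smul, hgc, hsc, hgd']
    have hs'b : s' • p = base t := by rw [hs', mul_smul, mul_smul, hgd, hsd, hgc']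
    have hδ : u * s' ∈ stab t p := mem_stab.2
      ⟨by rw [mul_smul, hs'a, H.back hu hup], by rw [mul_smul, hs'b, hup]⟩
    have hinv := H.stab_inverted hp hu hup hx'
    have hc := H.stab_comm hp hδ hx'
    have huu : u * u = 1 := SignalizerStrongEmb.involution_mul_self hu
    have e1 : s' * (g⁻¹ * x * g) * s'⁻¹ = (g⁻¹ * x * g)⁻¹ := by
      calc s' * (g⁻¹ * x * g) * s'⁻¹
          = u⁻¹ * ((u * s') * (g⁻¹ * x * g) * (u * s')⁻¹) * u := by group
        _ = u⁻¹ * (g⁻¹ * x * g) * u := by rw [hc, mul_inv_cancel_right]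
        _ = _ := by rw [SignalizerStrongEmb.involution_inv hu, hinv]
    calc s * x * s⁻¹ = g * (s' * (g⁻¹ * x * g) * s'⁻¹) * g⁻¹ := by rw [hs']; group
      _ = x⁻¹ := by rw [e1]; group
  · intro x hx y hy
    rw [H.two_eq] at hx hy
    exact H.stab_comm hp hx hy

end Setup

end Cfsg.Agent.TICentralizers82
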