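import Mathlib
import Cfsg.Agent.Lib.TICentralizers82Geometry
import Cfsg.Agent.Lib.TICentralizers82Zassenhaus

/-!
Groups with TI centralisers: the structure of a non-abelian centraliser of an involution that is a
2-group with small commutator index.
-/

set_option autoImplicit false
set_option linter.style.haveILetI false
set_option linter.unusedSectionVars false

namespace Cfsg.Agent.TICentralizers82

universe u

open scoped commutatorElement

theorem pow_cases {n l : ℕ} (hn : 2 ≤ n) (hdvd : 2 ^ n - 1 ∣ 2 ^ l - 1)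
    (hlt : 2 ^ l < 4 * (2 ^ n * 2 ^ n)) : 2 ^ l = 1 ∨ 2 ^ l = 2 ^ n ∨ 2 ^ l = 2 ^ n * 2 ^ n := by
  have h4 : 4 ≤ 2 ^ n := le_trans (by norm_num : 4 ≤ 2 ^ 2) (Nat.pow_le_pow_right (by norm_num) hn)
  have step : ∀ i, 2 ^ n - 1 ∣ 2 ^ i - 1 → 2 ^ i = 1 ∨
      ∃ i', i = n + i' ∧ 2 ^ n - 1 ∣ 2 ^ i' - 1 := by
    intro i hi
    rcases Nat.lt_or_ge i n with h | h
    · left
      have h1 : 2 ^ i < 2 ^ n := Nat.pow_lt_pow_right (by norm_num) h
      have h2 := Nat.eq_zero_of_dvd_of_lt hi (by omega)
      have := Nat.one_le_two_pow (n := i)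
      omega
    · right
      obtain ⟨i', rfl⟩ := Nat.exists_eq_add_of_le h
      refine ⟨i', rfl, ?_⟩
      have hp := Nat.one_le_two_pow (n := i')
      have e : 2 ^ (n + i') - 1 = (2 ^ n - 1) * 2 ^ i' + (2 ^ i' - 1) := by
        rw [pow_add, Nat.sub_mul, one_mul]
        have : 2 ^ i' ≤ 2 ^ n * 2 ^ i' := Nat.le_mul_of_pos_left _ (by omega)
        omega
      rw [e] at hi
      exact (Nat.dvd_add_right (dvd_mul_right _ _)).1 hi
  rcases step l hdvd with h | ⟨l1, rfl, h1⟩
  · exact Or.inl h
  rcases step l1 h1 with h | ⟨l2, rfl, h2⟩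
  · exact Or.inr (Or.inl (by rw [pow_add, h, mul_one]))
  rcases step l2 h2 with h | ⟨l3, rfl, h3⟩
  · exact Or.inr (Or.inr (by rw [pow_add, pow_add, h, mul_one]))
  exfalso
  rw [pow_add, pow_add, pow_add, ← mul_assoc] at hlt
  have h5 : 4 * (2 ^ n * 2 ^ n) ≤ 2 ^ n * 2 ^ n * (2 ^ n * 2 ^ l3) := by
    rw [mul_comm 4]
    exact Nat.mul_le_mul_left _ (h4.trans (Nat.le_mul_of_pos_right _ (Nat.two_pow_pos l3)))
  omega

theorem eq_top_of_sup_commutator {M : Type*} [Group M] [Finite M] [Group.IsNilpotent M]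
    {K : Subgroup M} (h : K ⊔ commutator M = ⊤) : K = ⊤ := by
  by_contra hK
  obtain ⟨L, hL, hKL⟩ := (eq_top_or_exists_le_coatom K).resolve_left hK
  haveI := Subgroup.NormalizerCondition.normal_of_coatom L
    Group.normalizerCondition_of_isNilpotent hL
  have : Nontrivial (M ⧸ L) := QuotientGroup.nontrivial_iff.2 hL.1
  have h1 : commutator (M ⧸ L) ≠ ⊤ := (Group.IsSolvable.commutator_lt_top_of_nontrivial (M ⧸ L)).ne
  set C' := (commutator (M ⧸ L)).comap (QuotientGroup.mk' L)
  have h2 : L ≤ C' := by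
    intro x hx
    show QuotientGroup.mk' L x ∈ commutator (M ⧸ L)
    rw [(QuotientGroup.eq_one_iff x).2 hx |> fun e => (e : QuotientGroup.mk' L x = 1)]
    exact one_mem _
  have h3 : C' ≠ ⊤ := fun e => h1 (by
    rw [← Subgroup.map_comap_eq_self_of_surjective (QuotientGroup.mk'_surjective L)
      (commutator (M ⧸ L)), show (commutator (M ⧸ L)).comap (QuotientGroup.mk' L) = ⊤ from e,
      Subgroup.map_top_of_surjective _ (QuotientGroup.mk'_surjective L)])
  have h4 : C' = L := by
    rcases h2.eq_or_lt with e | e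
    · exact e.symm
    · exact absurd (hL.2 C' e) h3
  have h5 : commutator M ≤ L := by
    rw [← h4, ← Subgroup.map_le_iff_le_comap, commutator_def, Subgroup.map_commutator,
      commutator_def]
    exact Subgroup.commutator_mono le_top le_top
  exact hL.1 (top_le_iff.1 (h ▸ sup_le hKL h5))

variable {G : Type u} [Group G] [Finite G] {t : G}

/-- Conjugation by an element of the normaliser. -/
def conjN {n : G} (hn : n ∈ nm t) : cn t →* cn t where
  toFun x := ⟨n * x.1 * n⁻¹, conj_mem_nm hn x.2⟩
  map_one' := Subtype.ext (by simp)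
  map_mul' a b := Subtype.ext (by simp [mul_assoc])

theorem coe_conjN {n : G} (hn : n ∈ nm t) (x : cn t) : (conjN hn x : G) = n * x * n⁻¹ := rfl

/-- Invariance under the normaliser. -/
def Inv (t : G) (K : Subgroup (cn t)) : Prop :=
  ∀ (n : G) (hn : n ∈ nm t), ∀ x ∈ K, conjN hn x ∈ K

/-- The subgroup generated by the conjugates of an element under the normaliser. -/
def Orb (x : cn t) : Subgroup (cn t) :=
  Subgroup.closure {y | ∃ (n : G) (hn : n ∈ nm t), conjN hn x = y}

theorem conjN_conjN {n m : G} (hn : n ∈ nm t) (hm : m ∈ nm t) (x : cn t) :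
    conjN hn (conjN hm x) = conjN (mul_mem hn hm) x :=
  Subtype.ext (by simp only [coe_conjN]; group)

theorem inv_sup {K L : Subgroup (cn t)} (hK : Inv t K) (hL : Inv t L) : Inv t (K ⊔ L) := by
  intro n hn x hx
  suffices K ⊔ L ≤ (K ⊔ L).comap (conjN hn) from this hx
  exact sup_le (fun y hy => le_sup_left (a := K) (b := L) (hK n hn y hy))
    (fun y hy => le_sup_right (a := K) (b := L) (hL n hn y hy))

theorem inv_commutator : Inv t (commutator (cn t)) := by
  intro n hn x hx
  suffices commutator (cn t) ≤ (commutator (cn t)).comap (conjN hn) from this hx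
  rw [← Subgroup.map_le_iff_le_comap, commutator_def, Subgroup.map_commutator]
  exact Subgroup.commutator_mono le_top le_top

theorem inv_orb (x : cn t) : Inv t (Orb x) := by
  intro n hn y hy
  suffices Orb x ≤ (Orb x).comap (conjN hn) from this hy
  rw [Orb, Subgroup.closure_le]
  rintro z ⟨m, hm, rfl⟩
  exact Subgroup.subset_closure ⟨n * m, mul_mem hn hm, (conjN_conjN hn hm x).symm⟩

theorem mem_orb (x : cn t) : x ∈ Orb x :=
  Subgroup.subset_closure ⟨1, one_mem _, Subtype.ext (by simp [coe_conjN])⟩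

theorem normal_of_inv {K : Subgroup (cn t)} (hK : Inv t K) : K.Normal :=
  ⟨fun x hx g => by
    have h := hK (g : G) (cn_le_nm t g.2) x hx
    have e : conjN (cn_le_nm t g.2) x = g * x * g⁻¹ := Subtype.ext rfl
    rwa [e] at h⟩

namespace Setup

variable (H : Setup t)
include H

theorem orb_comm (x : cn t) : ∀ a ∈ Orb x, ∀ b ∈ Orb x, a * b = b * a := by
  have key : ∀ (n : G) (hn : n ∈ nm t) (m : G) (hm : m ∈ nm t),
      conjN hn x * conjN hm x = conjN hm x * conjN hn x := by
    intro n hn m hm
    have hr : m⁻¹ * n ∈ nm t := mul_mem (inv_mem hm) hn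
    have hM := conj_mem_nm hr H.t_mem
    have ho : orderOf (m⁻¹ * n * t * (m⁻¹ * n)⁻¹) = 2 :=
      (SignalizerStrongEmb.orderOf_conj _ _).trans H.ot
    have hcx : m⁻¹ * n * t * (m⁻¹ * n)⁻¹ ∈ cn (x : G) := mem_cn.2
      (H.sq_one_central hM (SignalizerStrongEmb.involution_mul_self ho) x.2).symm
    have hN := stable H.hyp H.t_ne (mem_cn_comm x.2) hcx
    have hc : Commute ((m⁻¹ * n) * (x : G) * (m⁻¹ * n)⁻¹) (x : G) :=
      mem_cn.1 ((Subgroup.mem_normalizer_iff.1 hN (x : G)).1 (self_mem_cn (x : G)))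
    have h2 := hc.map (MulAut.conj m)
    refine Subtype.ext ?_
    simpa [coe_conjN, MulAut.conj_apply, mul_assoc] using h2.eq
  intro a ha b hb
  have := Subgroup.isMulCommutative_closure
    (k := {y | ∃ (n : G) (hn : n ∈ nm t), conjN hn x = y}) (by
      rintro u ⟨n, hn, rfl⟩ v ⟨m, hm, rfl⟩
      exact key n hn m hm)
  exact congrArg Subtype.val (this.is_comm.comm (⟨a, ha⟩ : Orb x) ⟨b, hb⟩)

/-- Invariant subgroups have order one modulo the index. -/
theorem dvd_card_sub_one {K : Subgroup (cn t)} (hK : Inv t K) : kk t ∣ Nat.card K - 1 := by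
  classical
  obtain ⟨p, hp⟩ := H.exists_point
  let c : stab t p →* Equiv.Perm {x : K // x ≠ 1} :=
    { toFun := fun d =>
        { toFun := fun x => ⟨⟨conjN d.2.1 x.1.1, hK _ d.2.1 _ x.1.2⟩, fun e => x.2 (Subtype.ext
            (Subtype.ext (conj_eq_one_iff.1 (congrArg (fun z : K => ((z : cn t) : G)) e))))⟩
          invFun := fun x => ⟨⟨conjN (inv_mem d.2.1) x.1.1, hK _ (inv_mem d.2.1) _ x.1.2⟩,
            fun e => x.2 (Subtype.ext
            (Subtype.ext (conj_eq_one_iff.1 (congrArg (fun z : K => ((z : cn t) : G)) e))))⟩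
          left_inv := fun x => Subtype.ext (Subtype.ext (Subtype.ext (by
            simp only [coe_conjN]; group)))
          right_inv := fun x => Subtype.ext (Subtype.ext (Subtype.ext (by
            simp only [coe_conjN]; group))) }
      map_one' := Equiv.ext fun x => Subtype.ext (Subtype.ext (Subtype.ext (by simp [coe_conjN])))
      map_mul' := fun a b => Equiv.ext fun x => Subtype.ext (Subtype.ext (Subtype.ext (by
        simp [coe_conjN, mul_assoc]))) }
  letI : MulAction (stab t p) {x : K // x ≠ 1} := MulAction.compHom _ c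
  have h := FrobeniusBasic.card_dvd_of_free (M := stab t p) (α := {x : K // x ≠ 1})
    fun d x hx => by
      have e : (d : G) * (x.1.1 : G) * (d : G)⁻¹ = (x.1.1 : G) :=
        congrArg (fun z : {x : K // x ≠ 1} => ((z.1 : cn t) : G)) hx
      have hdM : (d : G) ∈ cn t := H.fix x.1.1.2
        (fun e' => x.2 (Subtype.ext (Subtype.ext e'))) e
      exact Subtype.ext (H.mem_cn_stab hp hdM d.2)
  rw [H.card_stab hp] at h
  have := Fintype.ofFinite K
  rwa [Nat.card_eq_fintype_card, Fintype.card_subtype_compl, Fintype.card_subtype_eq,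
    ← Nat.card_eq_fintype_card] at h

/-- The structure of the exceptional case. -/
theorem local_structure (hP : IsPGroup 2 (cn t)) (hnc : ∃ u v : cn t, u * v ≠ v * u)
    (hL : (commutator (cn t)).index ≤ 4 * kk t ^ 2 + 1) :
    (commutator (cn t)).index = (kk t + 1) * (kk t + 1) ∧
      Nat.card (commutator (cn t)) = kk t + 1 ∧
      commutator (cn t) ≤ Subgroup.center (cn t) ∧
      (∀ x : cn t, x * x = 1 ↔ x ∈ commutator (cn t)) ∧
      (∀ x : cn t, x * x ∈ commutator (cn t)) := by
  classical
  haveI : Fact (Nat.Prime 2) := ⟨Nat.prime_two⟩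
  haveI := H.nil
  obtain ⟨n, hn2, hq⟩ := H.exists_two_pow
  set q := kk t + 1 with hqdef
  have hkq : kk t = 2 ^ n - 1 := by omega
  set C := commutator (cn t) with hC
  set a := C.index with ha
  have h4q : a < 4 * (q * q) := lt_of_le_of_lt hL (by
    rw [hqdef]; nlinarith)
  -- orders of invariant subgroups over the commutator subgroup
  have step : ∀ K : Subgroup (cn t), Inv t K → C ≤ K →
      ∃ r, r * K.index = a ∧ Nat.card K = Nat.card C * r ∧ (r = 1 ∨ r = q ∨ r = q * q) := by
    intro K hK hCK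
    have hcK : Nat.card K = Nat.card C * C.relIndex K := by
      rw [Subgroup.relIndex, ← Subgroup.card_mul_index (C.subgroupOf K),
        Nat.card_congr (Subgroup.subgroupOfEquivOfLe hCK).toEquiv]
    refine ⟨C.relIndex K, Subgroup.relIndex_mul_index hCK, hcK, ?_⟩
    set r := C.relIndex K
    obtain ⟨l, -, hl⟩ := (Nat.dvd_prime_pow Nat.prime_two).1
      (show r ∣ 2 ^ (hP.exists_card_eq.choose) from hP.exists_card_eq.choose_spec ▸
        ((Subgroup.relIndex_dvd_card C K).trans (Subgroup.card_subgroup_dvd_card K)))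
    have hd1 := H.dvd_card_sub_one hK
    have hd2 := H.dvd_card_sub_one (K := C) inv_commutator
    rw [show Nat.card K = Nat.card C * r from hcK] at hd1
    have hr1 : 1 ≤ r := hl ▸ Nat.one_le_two_pow
    have hc1 : 1 ≤ Nat.card C := Nat.card_pos
    have e : Nat.card C * r - 1 = (Nat.card C - 1) * r + (r - 1) := by
      rw [Nat.sub_mul, one_mul]
      have : r ≤ Nat.card C * r := Nat.le_mul_of_pos_left _ hc1
      omega
    rw [e] at hd1
    have hd3 : kk t ∣ r - 1 := (Nat.dvd_add_right (hd2.mul_right r)).1 hd1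
    have hra : r ≤ a := Nat.le_of_dvd (Nat.pos_of_ne_zero Subgroup.index_ne_zero_of_finite)
      (Dvd.intro _ (Subgroup.relIndex_mul_index hCK))
    rw [hq]
    rw [hl]
    refine pow_cases hn2 (by rw [← hkq, ← hl]; exact hd3) ?_
    rw [← hl, ← hq]; omega
  have hCa : a ≠ 1 := by
    intro e
    have : C = ⊤ := Subgroup.index_eq_one.1 e
    have hnt : Nontrivial (cn t) :=
      ⟨⟨⟨t, H.t_mem⟩, 1, fun e' => H.t_ne (congrArg Subtype.val e')⟩⟩
    exact (Group.IsSolvable.commutator_lt_top_of_nontrivial (cn t)).ne this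
  have horb : ∀ x : cn t, Orb x ⊔ C ≠ ⊤ := by
    intro x e
    have htop := eq_top_of_sup_commutator e
    obtain ⟨u, v, huv⟩ := hnc
    exact huv (H.orb_comm x u (htop ▸ Subgroup.mem_top u) v (htop ▸ Subgroup.mem_top v))
  have horbi : ∀ x : cn t, Inv t (Orb x ⊔ C) := fun x => inv_sup (inv_orb x) inv_commutator
  have haq : a = q * q := by
    obtain ⟨r, hr, -, hcases⟩ := step ⊤ (fun _ _ _ _ => Subgroup.mem_top _) le_top
    rw [Subgroup.index_top, mul_one] at hr
    subst hr
    rcases hcases with h | h | h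
    · exact absurd h hCa
    · exfalso
      obtain ⟨x, hx⟩ : ∃ x, x ∉ C := by
        by_contra hne
        push Not at hne
        exact hCa (Subgroup.index_eq_one.2 ((Subgroup.eq_top_iff' C).2 hne))
      obtain ⟨r, hr, hcard, hcases⟩ := step _ (horbi x) le_sup_right
      rcases hcases with h' | h' | h'
      · rw [h', mul_one] at hcard
        exact hx ((Subgroup.eq_of_le_of_card_ge (le_sup_right : C ≤ Orb x ⊔ C) hcard.le).symm ▸
          le_sup_left (a := Orb x) (mem_orb x))
      · refine horb x (Subgroup.index_eq_one.1 ?_)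
        rw [h', h] at hr
        exact Nat.eq_of_mul_eq_mul_left (by omega) (hr.trans (mul_one q).symm)
      · have hle : r ≤ a := Nat.le_of_dvd (Nat.pos_of_ne_zero Subgroup.index_ne_zero_of_finite)
          (Dvd.intro _ hr)
        rw [h', h] at hle
        have : q * 2 ≤ q * q := Nat.mul_le_mul_left q (by omega)
        omega
    · exact h
  have hqpos : 0 < q := by omega
  -- subgroups strictly between have index `q`
  have mid : ∀ K : Subgroup (cn t), Inv t K → C ≤ K → C ≠ K → K ≠ ⊤ →
      Nat.card K = Nat.card C * q := by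
    intro K hK hCK h1 h2
    obtain ⟨r, hr, hcard, hcases⟩ := step K hK hCK
    rcases hcases with h' | h' | h'
    · rw [h', mul_one] at hcard
      exact absurd (Subgroup.eq_of_le_of_card_ge hCK hcard.le) h1
    · rwa [h'] at hcard
    · refine absurd (Subgroup.index_eq_one.1 ?_) h2
      rw [h', haq] at hr
      exact Nat.eq_of_mul_eq_mul_left (Nat.mul_pos hqpos hqpos) (hr.trans (mul_one _).symm)
  have horbC : ∀ x : cn t, x ∉ C → Nat.card ↥(Orb x ⊔ C) = Nat.card C * q := fun x hx =>
    mid _ (horbi x) le_sup_right (fun e => hx (e ▸ le_sup_left (a := Orb x) (mem_orb x))) (horb x)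
  obtain ⟨x, hx⟩ : ∃ x, x ∉ C := by
    by_contra hne
    push Not at hne
    exact hCa (Subgroup.index_eq_one.2 ((Subgroup.eq_top_iff' C).2 hne))
  -- central
  have hcen : C ≤ Subgroup.center (cn t) := by
    obtain ⟨y, hy⟩ : ∃ y, y ∉ Orb x ⊔ C := by
      by_contra hne
      push Not at hne
      exact horb x ((Subgroup.eq_top_iff' _).2 hne)
    set X := Orb x
    set Y := Orb y
    have hXY : X ⊔ Y = ⊤ := by
      refine eq_top_of_sup_commutator ?_
      by_contra hne
      have h1 := mid (X ⊔ Y ⊔ C) (inv_sup (inv_sup (inv_orb x) (inv_orb y)) inv_commutator)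
        le_sup_right (fun e => hx (e ▸ Subgroup.mem_sup_left (Subgroup.mem_sup_left (mem_orb x)))) hne
      have h2 : X ⊔ C = X ⊔ Y ⊔ C := Subgroup.eq_of_le_of_card_ge
        (sup_le_sup_right le_sup_left C) (by rw [h1, horbC x hx])
      exact hy (h2 ▸ Subgroup.mem_sup_left (Subgroup.mem_sup_right (mem_orb y)))
    haveI hXn : X.Normal := normal_of_inv (inv_orb x)
    haveI hYn : Y.Normal := normal_of_inv (inv_orb y)
    set I := X ⊓ Y
    let φ : cn t →* cn t ⧸ I := QuotientGroup.mk' I
    have hφX : ∀ u ∈ X, ∀ v : cn t, Commute (φ u) (φ v) := by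
      intro u hu v
      suffices hle : X ⊔ Y ≤ (Subgroup.centralizer ({φ u} : Set (cn t ⧸ I))).comap φ by
        exact (Subgroup.mem_centralizer_singleton_iff.1 (hle (hXY ▸ Subgroup.mem_top v))).symm
      refine sup_le (fun w hw => ?_) (fun w hw => ?_)
      · refine Subgroup.mem_centralizer_singleton_iff.2 ?_
        rw [← map_mul, ← map_mul, H.orb_comm x w hw u hu]
      · refine Subgroup.mem_centralizer_singleton_iff.2 ?_
        rw [← commutatorElement_eq_one_iff_mul_comm, ← map_commutatorElement]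
        refine (QuotientGroup.eq_one_iff _).2 (Subgroup.mem_inf.2 ⟨?_, ?_⟩)
        · rw [commutatorElement_def]
          exact mul_mem (hXn.conj_mem u hu w) (inv_mem hu)
        · rw [commutatorElement_def, mul_assoc, mul_assoc]
          refine mul_mem hw ?_
          rw [← mul_assoc]
          exact hYn.conj_mem _ (inv_mem hw) u
    have hφY : ∀ u ∈ Y, ∀ v : cn t, Commute (φ u) (φ v) := by
      intro u hu v
      suffices hle : X ⊔ Y ≤ (Subgroup.centralizer ({φ u} : Set (cn t ⧸ I))).comap φ by
        exact (Subgroup.mem_centralizer_singleton_iff.1 (hle (hXY ▸ Subgroup.mem_top v))).symm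
      exact sup_le (fun w hw => Subgroup.mem_centralizer_singleton_iff.2 (hφX w hw u).eq)
        (fun w hw => Subgroup.mem_centralizer_singleton_iff.2 (by
          rw [← map_mul, ← map_mul, H.orb_comm y w hw u hu]))
    have hCI : C ≤ I := by
      rw [hC, commutator_eq_closure, Subgroup.closure_le]
      rintro _ ⟨u, v, rfl⟩
      refine (QuotientGroup.eq_one_iff _).1 ?_
      show φ ⁅u, v⁆ = 1
      rw [map_commutatorElement, commutatorElement_eq_one_iff_mul_comm]
      suffices hle : X ⊔ Y ≤ (Subgroup.centralizer ({φ v} : Set (cn t ⧸ I))).comap φ by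
        exact Subgroup.mem_centralizer_singleton_iff.1 (hle (hXY ▸ Subgroup.mem_top u))
      exact sup_le (fun w hw => Subgroup.mem_centralizer_singleton_iff.2 (hφX w hw v).eq)
        (fun w hw => Subgroup.mem_centralizer_singleton_iff.2 (hφY w hw v).eq)
    refine hCI.trans fun z hz => Subgroup.mem_center_iff.2 fun g => ?_
    suffices hle : X ⊔ Y ≤ Subgroup.centralizer ({z} : Set (cn t)) from
      Subgroup.mem_centralizer_singleton_iff.1 (hle (hXY ▸ Subgroup.mem_top g))
    exact sup_le (fun w hw => Subgroup.mem_centralizer_singleton_iff.2 (H.orb_comm x w hw z hz.1))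
      (fun w hw => Subgroup.mem_centralizer_singleton_iff.2 (H.orb_comm y w hw z hz.2))
  -- squares
  let K2 : Subgroup (cn t) :=
    { carrier := {z | z * z ∈ C}
      one_mem' := by simp
      mul_mem' := fun {u v} hu hv => by
        show u * v * (u * v) ∈ C
        have e : u * v * (u * v) = (u * u) * (v * v) * ((v⁻¹ * (v⁻¹ * u⁻¹ * v * u) * v)) := by group
        rw [e]
        refine mul_mem (mul_mem (show u * u ∈ C from hu) (show v * v ∈ C from hv)) ?_
        have hc : v⁻¹ * u⁻¹ * v * u ∈ C := by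
          have : ⁅v⁻¹, u⁻¹⁆ ∈ C := Subgroup.commutator_mem_commutator (Subgroup.mem_top _)
            (Subgroup.mem_top _)
          simpa [commutatorElement_def] using this
        simpa using (Subgroup.Normal.conj_mem inferInstance _ hc v⁻¹)
      inv_mem' := fun {u} hu => by
        show u⁻¹ * u⁻¹ ∈ C
        rw [← mul_inv_rev]
        exact inv_mem (show u * u ∈ C from hu) }
  have hK2inv : Inv t K2 := fun m hm z hz => by
    show conjN hm z * conjN hm z ∈ C
    rw [← map_mul]
    exact inv_commutator m hm _ hz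
  have hCK2 : C ≤ K2 := fun z hz => mul_mem hz hz
  have hsq : ∀ z : cn t, z * z ∈ C := by
    by_contra hne
    push Not at hne
    obtain ⟨z, hz⟩ := hne
    have hzC : z ∉ C := fun h => hz (mul_mem h h)
    have hK2ne : K2 ≠ ⊤ := fun e => hz (e ▸ Subgroup.mem_top z : z ∈ K2)
    set K := Orb z ⊔ C
    have hKcard := horbC z hzC
    have hint : Inv t (K ⊓ K2) := fun m hm w hw => ⟨horbi z m hm w hw.1, hK2inv m hm w hw.2⟩
    obtain ⟨w, hw, hwC⟩ : ∃ w ∈ K ⊓ K2, w ∉ C := by
      by_contra hall
      push Not at hall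
      -- take the last power of `z` outside the commutator subgroup
      obtain ⟨i, hi⟩ := hP z
      have hex : ∃ i, z ^ 2 ^ i ∈ C := ⟨i, hi ▸ one_mem _⟩
      obtain ⟨i0, hi0⟩ : ∃ i0, Nat.find hex = i0 + 1 := Nat.exists_eq_succ_of_ne_zero fun e => by
        have := Nat.find_spec hex
        rw [e, pow_zero, pow_one] at this
        exact hzC this
      refine Nat.find_min hex (show i0 < Nat.find hex by omega) (hall (z ^ 2 ^ i0) ⟨?_, ?_⟩)
      · exact pow_mem (Subgroup.mem_sup_left (mem_orb z)) _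
      · show z ^ 2 ^ i0 * z ^ 2 ^ i0 ∈ C
        rw [← pow_add, ← two_mul, ← pow_succ', ← hi0]
        exact Nat.find_spec hex
    have h1 := mid (K ⊓ K2) hint (le_inf le_sup_right hCK2) (fun e => hwC (e ▸ hw))
      (fun e => horb z (top_le_iff.1 (e ▸ inf_le_left)))
    have h2 : K ⊓ K2 = K := Subgroup.eq_of_le_of_card_ge inf_le_left (by rw [h1, hKcard])
    exact hz ((h2 ▸ inf_le_right : K ≤ K2) (Subgroup.mem_sup_left (mem_orb z)))
  have hC2 : ∀ z ∈ C, z * z = 1 := by
    intro z hz
    rw [hC, commutator_eq_closure] at hz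
    induction hz using Subgroup.closure_induction with
    | mem w hw =>
      obtain ⟨u, v, rfl⟩ := hw
      have hc := Subgroup.mem_center_iff.1 (hcen (Subgroup.commutator_mem_commutator
        (Subgroup.mem_top u) (Subgroup.mem_top v)))
      have hs := Subgroup.mem_center_iff.1 (hcen (hsq u))
      set c := ⁅u, v⁆ with hcdef
      have e1 : u * v * u⁻¹ = c * v := by rw [hcdef, commutatorElement_def]; group
      calc c * c = c * (c * v) * v⁻¹ := by group
        _ = c * (u * v * u⁻¹) * v⁻¹ := by rw [e1]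
        _ = u * (c * v) * u⁻¹ * v⁻¹ := by rw [← mul_assoc c, ← mul_assoc c, ← hc u]; group
        _ = u * (u * v * u⁻¹) * u⁻¹ * v⁻¹ := by rw [e1]
        _ = (u * u) * v * (u * u)⁻¹ * v⁻¹ := by group
        _ = v * (u * u) * (u * u)⁻¹ * v⁻¹ := by rw [hs v]
        _ = 1 := by group
    | one => exact one_mul 1
    | mul u v hu hv ihu ihv =>
      have hc := Subgroup.mem_center_iff.1 (hcen (by rw [hC, commutator_eq_closure]; exact hv)) u
      calc u * v * (u * v) = u * (v * u) * v := by group
        _ = u * u * (v * v) := by rw [← hc]; group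
        _ = 1 := by rw [ihu, ihv, one_mul]
    | inv u hu ih => rw [← mul_inv_rev, ih, inv_one]
  set E' := H.elemTwo.subgroupOf (cn t)
  have hE'card : Nat.card E' = q := by
    rw [Nat.card_congr (Subgroup.subgroupOfEquivOfLe
      (fun z (hz : z ∈ H.elemTwo) => hz.1)).toEquiv, H.card_elemTwo]
  have hCE : C ≤ E' := fun z hz => Subgroup.mem_subgroupOf.2
    ⟨z.2, congrArg Subtype.val (hC2 z hz)⟩
  have hCcard : Nat.card C = q := by
    have hd := H.dvd_card_sub_one (K := C) inv_commutator
    have hle : Nat.card C ≤ q := hE'card ▸ Subgroup.card_le_of_le hCE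
    have h1 : Nat.card C ≠ 1 := fun e => by
      obtain ⟨u, v, huv⟩ := hnc
      have : C = ⊥ := Subgroup.card_eq_one.1 e
      refine huv (commutatorElement_eq_one_iff_mul_comm.1 ?_)
      rw [← Subgroup.mem_bot, ← this]
      exact Subgroup.commutator_mem_commutator (Subgroup.mem_top u) (Subgroup.mem_top v)
    have h0 := Nat.card_pos (α := C)
    have := Nat.le_of_dvd (by omega) hd
    omega
  have hCeq : C = E' := Subgroup.eq_of_le_of_card_ge hCE (by rw [hE'card, hCcard])
  refine ⟨haq, hCcard, hcen, fun z => ⟨fun h => ?_, fun h => hC2 z h⟩, hsq⟩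
  rw [hCeq]
  exact Subgroup.mem_subgroupOf.2 ⟨z.2, congrArg Subtype.val h⟩

end Setup

end Cfsg.Agent.TICentralizers82
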