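import Mathlib
import Cfsg.Agent.Lib.TICentralizers82Local

/-!
Groups with TI centralisers: the centraliser of an involution is not much larger than its index in
the normaliser (the exceptional case of Feit's inequality is excluded by counting square roots).
-/

set_option autoImplicit false
set_option linter.style.haveILetI false
set_option linter.unusedSectionVars false

namespace Cfsg.Agent.TICentralizers82

open MulAction Finset Cfsg
open scoped ComplexConjugate
open CharBasic CharBasicOrth CharBasicDecomp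

universe u

theorem neg_one_le_nu {K : Type u} [Group K] [Finite K] (χ : Cfsg.IrrCharacter K) :
    -1 ≤ (RealChars.nu (χ : K → ℂ)).re := by
  by_cases hr : ∀ g, ((χ : K → ℂ) g).im = 0
  · rcases RealChars.nu_eq_one_or_neg_one χ hr with h1 | h1 <;> simp [h1]
  · simp [RealChars.nu_eq_zero χ hr]

/-- Sum of a character of degree one or more over the commutator subgroup. -/
theorem sum_commutator {M : Type u} [Group M] [Fintype M] [DecidablePred (· ∈ commutator M)]
    (φ : Cfsg.IrrCharacter M) :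
    ∑ u ∈ univ.filter (fun u : M => u ∈ commutator M), (φ : M → ℂ) u =
      if (φ : M → ℂ) 1 = 1 then (Nat.card (commutator M) : ℂ) else 0 := by
  classical
  split_ifs with h1
  · obtain ⟨lam, hlam⟩ := CharBasicLinear.exists_hom_of_apply_one_eq_one
      (isCharacter_of_isIrrCharacter φ.2) h1
    rw [Finset.sum_congr rfl (g := fun _ => (1 : ℂ)) fun u hu => ?_, Finset.sum_const, nsmul_one]
    · rw [Nat.card_eq_fintype_card, Fintype.card_subtype]
    · rw [hlam]
      have : lam u = 1 := Abelianization.commutator_subset_ker lam (mem_filter.1 hu).2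
      simp [this]
  · haveI : Finite (M →* ℂˣ) := Nat.finite_of_card_ne_zero (by
      rw [CharBasicLinear.card_hom_units]; exact Subgroup.index_ne_zero_of_finite)
    haveI := Fintype.ofFinite (M →* ℂˣ)
    have hsum : ∀ u : M, ∑ lam : M →* ℂˣ, ((lam u⁻¹ : ℂˣ) : ℂ) =
        if u ∈ commutator M then ((commutator M).index : ℂ) else 0 := by
      intro u
      split_ifs with hu
      · rw [Finset.sum_congr rfl (g := fun _ => (1 : ℂ)) fun lam _ => by
          rw [show lam u⁻¹ = 1 from Abelianization.commutator_subset_ker lam (inv_mem hu),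
            Units.val_one], Finset.sum_const, Finset.card_univ, nsmul_one,
          ← Nat.card_eq_fintype_card, CharBasicLinear.card_hom_units]
      · obtain ⟨b0, hb0⟩ := CommGroup.exists_apply_ne_one_of_hasEnoughRootsOfUnity
          (Abelianization M) ℂ (a := Abelianization.of u⁻¹) (by
            intro e
            refine hu ?_
            have := (Abelianization.ker_of M).le (show u⁻¹ ∈ Abelianization.of.ker from e)
            simpa using inv_mem this)
        let b : M →* ℂˣ := b0.comp Abelianization.of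
        have e : ∑ lam : M →* ℂˣ, (((b * lam) u⁻¹ : ℂˣ) : ℂ) =
            ∑ lam : M →* ℂˣ, ((lam u⁻¹ : ℂˣ) : ℂ) :=
          Fintype.sum_equiv (Equiv.mulLeft b) _ _ fun lam => rfl
        simp only [MonoidHom.mul_apply, Units.val_mul, ← Finset.mul_sum] at e
        by_contra hne
        exact hb0 (Units.ext (by simpa [b] using (mul_eq_right₀ hne).1 e))
    have h0 : ∀ lam : M →* ℂˣ, ∑ u : M, (φ : M → ℂ) u * ((lam u⁻¹ : ℂˣ) : ℂ) = 0 := by
      intro lam
      have h := classInner_irr_ne φ.2 (isIrrCharacter_linear lam)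
        (fun e => h1 (by rw [e]; simp))
      have h2 := card_mul_classInner (φ : M → ℂ) (fun u => (lam u : ℂ))
      rw [h, mul_zero] at h2
      refine (Finset.sum_congr rfl fun u _ => ?_).trans h2.symm
      congr 1
      rw [show conj ((lam u : ℂˣ) : ℂ) = ((lam u⁻¹ : ℂˣ) : ℂ) from
        (isCharacter_inv (isCharacter_linear lam) u).symm]
    have h2 : ∑ u : M, (φ : M → ℂ) u * ∑ lam : M →* ℂˣ, ((lam u⁻¹ : ℂˣ) : ℂ) = 0 := by
      simp only [Finset.mul_sum]
      rw [Finset.sum_comm]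
      exact Finset.sum_eq_zero fun lam _ => h0 lam
    simp only [hsum, mul_ite, mul_zero, ← Finset.sum_filter, ← Finset.sum_mul] at h2
    exact (mul_eq_zero.1 h2).resolve_right (Nat.cast_ne_zero.2 Subgroup.index_ne_zero_of_finite)

variable {G : Type u} [Group G] [Finite G] {t : G}

namespace Setup

variable (H : Setup t)
include H

theorem card_sq_one : Nat.card {x : G // x * x = 1} = kk t * (Nat.card (cn t) + 1) + 1 := by
  classical
  have := Fintype.ofFinite G
  rw [← H.degree, ← H.card_involutions]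
  have e : Nat.card {x : G // x * x = 1} = Nat.card (Option {v : G // orderOf v = 2}) := Nat.card_congr
    { toFun := fun x => if h : x.1 = 1 then none else
        some ⟨x.1, SignalizerStrongEmb.orderOf_eq_two_of_mul_self x.2 h⟩
      invFun := fun o => o.elim ⟨1, one_mul 1⟩ fun v => ⟨v.1, SignalizerStrongEmb.involution_mul_self v.2⟩
      left_inv := fun x => by
        by_cases h : x.1 = 1
        · simp [h]; exact Subtype.ext h.symm
        · simp [h]
      right_inv := fun o => by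
        cases o with
        | none => simp
        | some v => simp [SignalizerStrongEmb.involution_ne_one v.2] }
  rw [e, Finite.card_option]

open scoped Classical in
theorem sqrt_count (hC : Nat.card (commutator (cn t)) = kk t + 1)
    (hidx : (commutator (cn t)).index = (kk t + 1) * (kk t + 1))
    (h1 : ∀ x : cn t, x * x = 1 ↔ x ∈ commutator (cn t))
    (hsq : ∀ x : cn t, x * x ∈ commutator (cn t)) (u : cn t) :
    Nat.card {x : G // x * x = (u : G)} =
      if u = 1 then kk t * (Nat.card (cn t) + 1) + 1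
      else if u ∈ commutator (cn t) then (kk t + 1) * (kk t + 2) else 0 := by
  classical
  have := Fintype.ofFinite G
  by_cases hu : u = 1
  · rw [if_pos hu, ← H.card_sq_one, hu]
    rfl
  rw [if_neg hu]
  have hu1 : (u : G) ≠ 1 := fun e => hu (Subtype.ext e)
  have e : Nat.card {x : G // x * x = (u : G)} = Nat.card {x : cn t // x * x = u} := Nat.card_congr
    { toFun := fun x => ⟨⟨x.1, H.cc _ u.2 hu1 (mem_cn.2 (show Commute x.1 (u : G) from
        by obtain ⟨x, hx⟩ := x; simp only; rw [← hx]; exact (Commute.refl x).mul_right (Commute.refl x)))⟩, Subtype.ext x.2⟩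
      invFun := fun x => ⟨x.1.1, congrArg Subtype.val x.2⟩
      left_inv := fun _ => rfl
      right_inv := fun _ => rfl }
  rw [e]
  split_ifs with huC
  swap
  · rw [Nat.card_eq_zero]
    exact Or.inl ⟨fun x => huC (x.2 ▸ hsq x.1)⟩
  set C := commutator (cn t)
  let sq : cn t → C := fun x => ⟨x * x, hsq x⟩
  let N : C → ℕ := fun z => Nat.card {x : cn t // sq x = z}
  have hN : Nat.card {x : cn t // x * x = u} = N ⟨u, huC⟩ := Nat.card_congr
    (Equiv.subtypeEquivRight fun x => by simp [sq])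
  rw [hN]
  have hconst : ∀ z : C, z ≠ 1 → N z = N ⟨u, huC⟩ := by
    intro z hz
    have hz1 : ((z : cn t) : G) * (z : cn t) = 1 := congrArg Subtype.val ((h1 z.1).2 z.2)
    have hu2 : (u : G) * u = 1 := congrArg Subtype.val ((h1 u).2 huC)
    obtain ⟨a, ha, ea⟩ := H.exists_norm_conj (z : cn t).2
      (SignalizerStrongEmb.orderOf_eq_two_of_mul_self hz1
        (fun e => hz (Subtype.ext (Subtype.ext e))))
    obtain ⟨b, hb, eb⟩ := H.exists_norm_conj u.2
      (SignalizerStrongEmb.orderOf_eq_two_of_mul_self hu2 hu1)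
    have hn : b * a⁻¹ ∈ nm t := mul_mem hb (inv_mem ha)
    have hzu : conjN hn (z : cn t) = u := Subtype.ext (by
      rw [coe_conjN, ← ea, ← eb]; group)
    refine Nat.card_congr
      { toFun := fun x => ⟨conjN hn x.1, Subtype.ext (by
          show conjN hn x.1 * conjN hn x.1 = u
          rw [← map_mul, show x.1 * x.1 = (z : cn t) from congrArg Subtype.val x.2, hzu])⟩
        invFun := fun x => ⟨conjN (inv_mem hn) x.1, Subtype.ext (by
          show conjN (inv_mem hn) x.1 * conjN (inv_mem hn) x.1 = (z : cn t)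
          rw [← map_mul, show x.1 * x.1 = u from congrArg Subtype.val x.2, ← hzu]
          exact Subtype.ext (by simp only [coe_conjN]; group))⟩
        left_inv := fun x => Subtype.ext (Subtype.ext (by simp only [coe_conjN]; group))
        right_inv := fun x => Subtype.ext (Subtype.ext (by simp only [coe_conjN]; group)) }
  have htot : Nat.card (cn t) = ∑ z : C, N z := by
    rw [← Nat.card_sigma]
    exact (Nat.card_congr (Equiv.sigmaFiberEquiv sq)).symm
  rw [← Finset.add_sum_erase _ _ (Finset.mem_univ (1 : C)),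
    Finset.sum_congr rfl fun z hz => hconst z (Finset.mem_erase.1 hz).1, Finset.sum_const,
    Finset.card_erase_of_mem (Finset.mem_univ _), Finset.card_univ, ← Nat.card_eq_fintype_card,
    hC, Nat.add_sub_cancel, smul_eq_mul] at htot
  have hN1 : N 1 = kk t + 1 := by
    rw [← hC]
    exact Nat.card_congr (Equiv.subtypeEquivRight fun x => by
      rw [← h1 x]; simp [sq, Subtype.ext_iff])
  have hm : Nat.card (cn t) = (kk t + 1) * ((kk t + 1) * (kk t + 1)) := by
    rw [← C.card_mul_index, hC, hidx]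
  rw [hm, hN1] at htot
  have hk := H.three_le_kk
  refine Nat.eq_of_mul_eq_mul_left (show 0 < kk t by omega) ?_
  have e2 : (kk t + 1) * ((kk t + 1) * (kk t + 1)) =
      (kk t + 1) + kk t * ((kk t + 1) * (kk t + 2)) := by ring
  omega

/-- Feit's exceptional case does not occur. -/
theorem card_le : Nat.card (cn t) - 1 ≤ 2 * kk t := by
  classical
  have := Fintype.ofFinite G
  have := Fintype.ofFinite (Pts t)
  obtain ⟨j, hj⟩ := H.odd
  obtain ⟨p, hp⟩ := H.exists_point
  have S := H.sim hp hj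
  by_contra hlt
  push Not at hlt
  haveI := Fintype.ofFinite (Feit.CC (G := G) (cn t))
  haveI := Fintype.ofFinite (Feit.PP (cn t))
  obtain ⟨hP, hnc, hL⟩ := S.main hlt
  obtain ⟨hidx, hCcard, -, h1, hsq⟩ := H.local_structure hP hnc hL
  set k := kk t
  set m := Nat.card (cn t) with hmdef
  have hk3 := H.three_le_kk
  have hm : m = (k + 1) * ((k + 1) * (k + 1)) := by
    rw [hmdef, ← (commutator (cn t)).card_mul_index, hCcard, hidx]
  -- the columns of the square root counting function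
  have hcol : ∀ φ : Cfsg.IrrCharacter (cn t),
      ∑ χ, (Feit.mult (cn t) χ φ : ℂ) * RealChars.nu (χ : G → ℂ) =
        (m : ℂ)⁻¹ * ((φ : cn t → ℂ) 1 * ((k : ℂ) * (m + 1) + 1) + ((k : ℂ) + 1) * ((k : ℂ) + 2) *
          ((if (φ : cn t → ℂ) 1 = 1 then ((k : ℂ) + 1) else 0) - (φ : cn t → ℂ) 1)) := by
    intro φ
    rw [Feit.col_eq]
    have h2 : ∀ u : cn t, ∑ χ : Cfsg.IrrCharacter G,
        RealChars.nu (χ : G → ℂ) * conj ((χ : G → ℂ) u) =
          ((Nat.card {x : G // x * x = (u : G)} : ℕ) : ℂ) := by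
      intro u
      have h2 := congrArg conj (RealChars.sqrtCount_eq (u : G))
      simp only [map_natCast, map_sum, map_mul, RealChars.conj_nu] at h2
      exact h2.symm
    congr 1
    simp only [h2, H.sqrt_count hCcard hidx h1 hsq]
    rw [← Finset.add_sum_erase _ _ (Finset.mem_univ (1 : cn t))]
    rw [if_pos rfl, ← hmdef]
    push_cast
    congr 1
    rw [Finset.sum_congr rfl (g := fun u : cn t => if u ∈ commutator (cn t)
      then (φ : cn t → ℂ) u * (((k : ℂ) + 1) * ((k : ℂ) + 2)) else 0) fun u hu => by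
        rw [if_neg (Finset.mem_erase.1 hu).1]
        split_ifs <;> simp [k], ← Finset.sum_filter, ← Finset.sum_mul]
    have h3 := sum_commutator φ
    rw [hCcard, ← Finset.add_sum_erase _ _ (show (1 : cn t) ∈
      univ.filter (fun u : cn t => u ∈ commutator (cn t)) from mem_filter.2 ⟨mem_univ _, one_mem _⟩),
      ← Finset.filter_erase] at h3
    push_cast at h3
    rw [mul_comm]
    congr 1
    linear_combination h3
  have hcj : (k : ℝ) = 2 * j + 1 := by exact_mod_cast hj
  have hm0 : (m : ℂ) ≠ 0 := Nat.cast_ne_zero.2 Nat.card_pos.ne'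
  have hk0 : (k : ℂ) + 1 ≠ 0 := by exact_mod_cast (show k + 1 ≠ 0 by omega)
  have hcol1 : ∀ φ : Cfsg.IrrCharacter (cn t), Feit.dg φ = 1 →
      ∑ χ, (Feit.mult (cn t) χ φ : ℝ) * (RealChars.nu (χ : G → ℂ)).re = (k : ℝ) + 1 := by
    intro φ hφ
    have h := hcol φ
    rw [(Feit.dg_eq_one_iff φ).1 hφ, if_pos rfl] at h
    have h' : ∑ χ, (Feit.mult (cn t) χ φ : ℂ) * RealChars.nu (χ : G → ℂ) = (k : ℂ) + 1 := by
      rw [h, inv_mul_eq_iff_eq_mul₀ hm0, hm]
      push_cast; ring
    have := congrArg Complex.re h'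
    simpa using this
  have hcol2 : ∀ φ : Cfsg.IrrCharacter (cn t), Feit.dg φ ≠ 1 →
      ∑ χ, (Feit.mult (cn t) χ φ : ℝ) * (RealChars.nu (χ : G → ℂ)).re =
        (Feit.dg φ : ℝ) * ((k : ℝ) - 1 / ((k : ℝ) + 1)) := by
    intro φ hφ
    have h := hcol φ
    rw [if_neg (fun e => hφ ((Feit.dg_eq_one_iff φ).2 e)), CharAverage.irr_apply_one] at h
    have h' : ∑ χ, (Feit.mult (cn t) χ φ : ℂ) * RealChars.nu (χ : G → ℂ) =
        (((Feit.dg φ : ℝ) * ((k : ℝ) - 1 / ((k : ℝ) + 1)) : ℝ) : ℂ) := by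
      rw [h, inv_mul_eq_iff_eq_mul₀ hm0, hm]
      push_cast
      field_simp
      ring
    have := congrArg Complex.re h'
    rw [Complex.ofReal_re] at this
    simpa using this
  -- coherence of the linear characters
  obtain ⟨W, hW, hbase⟩ := S.exists_base_many (by
    rw [hidx, hj]; nlinarith)
  obtain ⟨ε, T, hεne, htT, heT, hTcard, -, -, hset, hvals, -⟩ := S.exists_sj
  let r : Cfsg.IrrCharacter G → ℝ := fun χ => (RealChars.nu (χ : G → ℂ)).re
  have hr1 : ∀ χ, r χ ≤ 1 := fun χ => Feit.nu_re_le χ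
  have hsplit : ∀ φ : Feit.PP (cn t), ∑ χ, (Feit.mult (cn t) χ φ.1 : ℝ) * r χ =
      (Feit.dg φ.1 : ℝ) * r ε + (Feit.dg φ.1 : ℝ) * ∑ χ ∈ T, r χ +
        ∑ χ : Feit.CC (G := G) (cn t), (Feit.mult (cn t) χ.1 φ.1 : ℝ) * r χ.1 := by
    intro φ
    have h := S.sum_cc (fun χ => (r χ : ℂ)) φ.1 ε T ⟨hεne, htT, heT⟩ hset
    have h' := congrArg Complex.re h
    simp only [Complex.re_sum, Complex.add_re, Complex.mul_re, Complex.natCast_re,
      Complex.natCast_im, Complex.ofReal_re, Complex.ofReal_im, mul_zero, sub_zero] at h'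
    rw [h', (hvals φ.1 φ.2).1, (hvals φ.1 φ.2).2.1, Finset.mul_sum, Nat.cast_zero, zero_mul, zero_add]
    congr 1
    congr 1
    exact Finset.sum_congr rfl fun χ hχ => by rw [(hvals φ.1 φ.2).2.2 χ hχ]
  have hTr : ∑ χ ∈ T, r χ ≤ j := by
    refine (Finset.sum_le_sum fun χ _ => hr1 χ).trans ?_
    simp [hTcard]
  have hWr : ∑ χ : Feit.CC (G := G) (cn t), (W χ : ℝ) * r χ.1 ≤ j := by
    have h1 : ∑ χ : Feit.CC (G := G) (cn t), (W χ : ℝ) * r χ.1 ≤ ((∑ χ, W χ * W χ : ℕ) : ℝ) := by
      push_cast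
      refine Finset.sum_le_sum fun χ _ => ?_
      calc (W χ : ℝ) * r χ.1 ≤ (W χ : ℝ) * 1 := mul_le_mul_of_nonneg_left (hr1 _) (Nat.cast_nonneg _)
        _ ≤ (W χ : ℝ) * W χ := by
          rcases Nat.eq_zero_or_pos (W χ) with h | h
          · simp [h]
          · exact mul_le_mul_of_nonneg_left (by exact_mod_cast h) (Nat.cast_nonneg _)
    rwa [hW] at h1
  choose X hX0 hX₀ using hbase
  have hX : ∀ (φ : Feit.PP (cn t)) (hφ : Feit.dg φ.1 = 1) (χ : Feit.CC (G := G) (cn t)),
      Feit.mult (cn t) χ.1 φ.1 = Feit.dg φ.1 * W χ + if χ = X φ hφ then 1 else 0 := hX₀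
  have hext : ∀ φ : Feit.PP (cn t), ∀ hφ : Feit.dg φ.1 = 1,
      r ε = 1 ∧ ∑ χ ∈ T, r χ = j ∧
        ∑ χ : Feit.CC (G := G) (cn t), (W χ : ℝ) * r χ.1 = j ∧ r (X φ hφ).1 = 1 := by
    intro φ hφ
    have h := hsplit φ
    rw [hcol1 φ.1 hφ, hφ, Nat.cast_one, one_mul, one_mul,
      Finset.sum_congr rfl (g := fun χ : Feit.CC (G := G) (cn t) =>
        (W χ : ℝ) * r χ.1 + if χ = X φ hφ then r χ.1 else 0) fun χ _ => by
          rw [hX φ hφ χ, show Feit.dg φ.1 = 1 from hφ]
          split_ifs <;> push_cast <;> ring,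
      Finset.sum_add_distrib, Finset.sum_ite_eq', if_pos (Finset.mem_univ _)] at h
    have := hr1 ε
    have := hr1 (X φ hφ).1
    refine ⟨?_, ?_, ?_, ?_⟩ <;> linarith
  set B := Finset.univ.filter fun φ : Feit.PP (cn t) => Feit.dg φ.1 = 1 with hB
  have hBcard : B.card + 1 = (k + 1) * (k + 1) := by
    have h2 := Feit.Sim.sum_pp (H := cn t) (fun φ => Feit.dg φ = 1)
      fun _ : Cfsg.IrrCharacter (cn t) => 1
    simp only [← Finset.card_eq_sum_ones] at h2
    rw [h2, show Finset.univ.filter (fun φ : Cfsg.IrrCharacter (cn t) =>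
        φ ≠ trivIrr (cn t) ∧ Feit.dg φ = 1) =
      (Finset.univ.filter fun φ : Cfsg.IrrCharacter (cn t) => Feit.dg φ = 1).erase
        (trivIrr (cn t)) by ext φ; simp,
      Finset.card_erase_of_mem (by simp [Feit.dg_triv]), Feit.card_dg_one, hidx]
    have : 0 < (k + 1) * (k + 1) := by positivity
    omega
  have hBd : ∀ φ ∈ B, Feit.dg φ.1 = 1 := fun φ hφ => (mem_filter.1 hφ).2
  have hG : Feit.GramData
      (fun (χ : Feit.CC (G := G) (cn t)) (φ : Feit.PP (cn t)) => Feit.mult (cn t) χ.1 φ.1)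
      (fun φ => Feit.dg φ.1) (fun φ ψ => Feit.Rel (base t) (cn t) φ.1 ψ.1) k j := S.gramData
  -- the exceptional constituents
  set Xs := B.attach.image fun φ => X φ.1 (hBd _ φ.2) with hXs
  have hXscard : k + 2 ≤ Xs.card := by
    have hle : B.attach.card ≤ k * (B.attach.image fun φ => X φ.1 (hBd _ φ.2)).card := by
      refine Finset.card_le_mul_card_image _ k fun x hx => ?_
      obtain ⟨φ₀, -, rfl⟩ := Finset.mem_image.1 hx
      refine le_trans ?_ (hG.fibre φ₀.1)
      rw [← Finset.card_map (Function.Embedding.subtype _)]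
      refine Finset.card_le_card fun ψ hψ => ?_
      obtain ⟨ψ', hψ', rfl⟩ := Finset.mem_map.1 hψ
      refine mem_filter.2 ⟨mem_univ _, ?_⟩
      refine hG.rel_of_same hW (hX0 φ₀.1 (hBd _ φ₀.2)) (hX φ₀.1 _) fun χ => ?_
      have h2 : X ψ'.1 (hBd _ ψ'.2) = X φ₀.1 (hBd _ φ₀.2) := (mem_filter.1 hψ').2
      show Feit.mult (cn t) χ.1 ψ'.1.1 = _
      rw [← h2]
      exact hX ψ'.1 _ χ
    rw [Finset.card_attach] at hle
    by_contra hlt2
    push Not at hlt2
    have h3 : k * Xs.card ≤ k * (k + 1) := Nat.mul_le_mul_left _ (by omega)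
    have h4 : (k + 1) * (k + 1) = k * (k + 1) + (k + 1) := by ring
    rw [← hXs] at hle
    omega
  have hXsr : ∀ x ∈ Xs, r x.1 = 1 ∧ W x = 0 := by
    intro x hx
    obtain ⟨φ, -, rfl⟩ := Finset.mem_image.1 hx
    exact ⟨(hext φ.1 (hBd _ φ.2)).2.2.2, hX0 _ _⟩
  obtain ⟨x₀, hx₀⟩ : Xs.Nonempty := Finset.card_pos.1 (by omega)
  obtain ⟨φ₁, -, -⟩ := Finset.mem_image.1 hx₀
  obtain ⟨hrε, hTj, hWj, -⟩ := hext φ₁.1 (hBd _ φ₁.2)
  have hgood : ∀ φ : Feit.PP (cn t), Feit.Good
      (fun (χ : Feit.CC (G := G) (cn t)) (φ : Feit.PP (cn t)) => Feit.mult (cn t) χ.1 φ.1)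
      (fun φ => Feit.dg φ.1) W φ := by
    intro φ
    by_cases hφ : Feit.dg φ.1 = 1
    · exact ⟨X φ hφ, hX0 φ hφ, hX φ hφ⟩
    set f := Feit.dg φ.1 with hfdef
    set δ : Feit.CC (G := G) (cn t) → ℤ :=
      fun χ => (Feit.mult (cn t) χ.1 φ.1 : ℤ) - f * W χ with hδ
    set c : ℤ := -(∑ χ, (W χ : ℤ) * δ χ) with hc
    have hnorm : ∑ χ, δ χ ^ 2 = 1 + 2 * f * c := hG.dev_norm hW φ
    have hdx : ∀ x ∈ Xs, δ x = c ∧ 0 ≤ c := by
      intro x hx
      obtain ⟨ψ, -, rfl⟩ := Finset.mem_image.1 hx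
      have hψ := (hBd _ ψ.2)
      have hR : ¬ Feit.Rel (base t) (cn t) φ.1 ψ.1.1 := fun hr => hφ ((S.rel_deg hr).trans hψ)
      have hd := hG.dev_exc hW hR (hX ψ.1 hψ)
      simp only [hψ, Nat.cast_one, one_mul] at hd
      have hd' : (Feit.mult (cn t) (X ψ.1 hψ).1 φ.1 : ℤ) = c := hd
      refine ⟨?_, hd' ▸ Int.natCast_nonneg _⟩
      simp only [δ, hX0, Nat.cast_zero, mul_zero, sub_zero]
      exact hd'
    have hc0 : 0 ≤ c := (hdx x₀ hx₀).2
    -- the degree
    have hfq : f ≤ k + 1 := by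
      set O := Finset.univ.filter fun ψ : Cfsg.IrrCharacter (cn t) =>
        Feit.Rel (base t) (cn t) ψ φ.1 with hO
      have hOc : O.card = k := S.card_orbit φ.2
      set L := Finset.univ.filter fun ψ : Cfsg.IrrCharacter (cn t) => Feit.dg ψ = 1 with hLdef
      have hdisj : Disjoint O L := by
        rw [Finset.disjoint_left]
        intro ψ h1 h2
        exact hφ ((S.rel_deg (mem_filter.1 h1).2).symm.trans (mem_filter.1 h2).2)
      have hle := Finset.sum_le_sum_of_subset (f := fun ψ => Feit.dg ψ * Feit.dg ψ)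
        (Finset.subset_univ (O ∪ L))
      rw [Finset.sum_union hdisj, Feit.sum_dg_sq, ← hmdef,
        Finset.sum_congr rfl (g := fun _ => f * f) (fun ψ hψ => by
          rw [show Feit.dg ψ = f from S.rel_deg (mem_filter.1 hψ).2]),
        Finset.sum_congr rfl (s₁ := L) (g := fun _ => 1) (fun ψ hψ => by
          rw [(mem_filter.1 hψ).2]),
        Finset.sum_const, Finset.sum_const, smul_eq_mul, smul_eq_mul, mul_one, hOc,
        Feit.card_dg_one, hidx, hm] at hle
      have h5 : k * (f * f) ≤ k * ((k + 1) * (k + 1)) := by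
        have : (k + 1) * ((k + 1) * (k + 1)) = k * ((k + 1) * (k + 1)) + (k + 1) * (k + 1) := by ring
        omega
      exact Nat.mul_self_le_mul_self_iff.1 (Nat.le_of_mul_le_mul_left h5 (by omega))
    -- the count of square roots
    have hsum : ∑ χ, (δ χ : ℝ) * r χ.1 ≤ 0 := by
      have h := hsplit φ
      rw [hcol2 φ.1 hφ, ← hfdef, hrε, hTj,
        Finset.sum_congr rfl (g := fun χ : Feit.CC (G := G) (cn t) =>
          (f : ℝ) * ((W χ : ℝ) * r χ.1) + (δ χ : ℝ) * r χ.1) fun χ _ => by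
            simp only [δ]; push_cast; ring,
        Finset.sum_add_distrib, ← Finset.mul_sum, hWj, hcj] at h
      have h0 : 0 ≤ (f : ℝ) * (1 / (2 * (j : ℝ) + 1 + 1)) := by positivity
      linarith
    have hlow : (Xs.card : ℝ) * c - (((∑ χ, δ χ ^ 2 : ℤ) : ℝ) - (Xs.card : ℝ) * c ^ 2) ≤
        ∑ χ, (δ χ : ℝ) * r χ.1 := by
      rw [← Finset.sum_add_sum_compl Xs fun χ => (δ χ : ℝ) * r χ.1,
        ← Finset.sum_add_sum_compl Xs fun χ => δ χ ^ 2,
        Finset.sum_congr rfl (s₁ := Xs) (g := fun _ => (c : ℝ)) (fun x hx => by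
          rw [(hdx x hx).1, (hXsr x hx).1, mul_one]),
        Finset.sum_congr rfl (s₁ := Xs) (g := fun _ => c ^ 2) (fun x hx => by rw [(hdx x hx).1]),
        Finset.sum_const, Finset.sum_const, nsmul_eq_mul, nsmul_eq_mul]
      push_cast
      have hrest : -(∑ χ ∈ Xsᶜ, ((δ χ : ℝ) ^ 2)) ≤ ∑ χ ∈ Xsᶜ, (δ χ : ℝ) * r χ.1 := by
        rw [← Finset.sum_neg_distrib]
        refine Finset.sum_le_sum fun χ _ => ?_
        have h1 := hr1 χ.1
        have h2 : -1 ≤ r χ.1 := neg_one_le_nu _
        rcases eq_or_ne (δ χ) 0 with h | h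
        · simp [h]
        · have h3 : (1 : ℝ) ≤ |(δ χ : ℝ)| := by exact_mod_cast Int.one_le_abs h
          have h4 : |(δ χ : ℝ) * r χ.1| ≤ |(δ χ : ℝ)| := by
            rw [abs_mul]
            exact mul_le_of_le_one_right (abs_nonneg _) (abs_le.2 ⟨h2, h1⟩)
          have h5 : |(δ χ : ℝ)| ≤ (δ χ : ℝ) ^ 2 := by
            rw [← sq_abs]; nlinarith
          have h6 := neg_abs_le ((δ χ : ℝ) * r χ.1)
          linarith
      linarith
    have hineq : (Xs.card : ℤ) * (c + c ^ 2) ≤ 1 + 2 * f * c := by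
      have h := hlow.trans hsum
      rw [hnorm] at h
      have h' : ((Xs.card : ℤ) : ℝ) * ((c : ℤ) + (c : ℤ) ^ 2 : ℤ) ≤ ((1 + 2 * f * c : ℤ) : ℝ) := by
        push_cast at h ⊢
        linarith
      exact_mod_cast h'
    have hcz : c = 0 := by
      by_contra hne
      have hc1 : 1 ≤ c := by omega
      have h1 : ((k : ℤ) + 2) * (c + c ^ 2) ≤ Xs.card * (c + c ^ 2) :=
        mul_le_mul_of_nonneg_right (by exact_mod_cast hXscard) (by positivity)
      have h2 : c ≤ c ^ 2 := by nlinarith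
      have h3 : ((k : ℤ) + 2) * (c + c) ≤ ((k : ℤ) + 2) * (c + c ^ 2) :=
        mul_le_mul_of_nonneg_left (by omega) (by positivity)
      have h4 : (f : ℤ) * c ≤ ((k : ℤ) + 1) * c :=
        mul_le_mul_of_nonneg_right (by exact_mod_cast hfq) hc0
      nlinarith
    rw [hcz, mul_zero, add_zero] at hnorm
    obtain ⟨y, hy⟩ : ∃ y, δ y ≠ 0 := by
      by_contra hne
      push Not at hne
      rw [Finset.sum_eq_zero fun χ _ => by rw [hne χ]; rfl] at hnorm
      exact absurd hnorm (by norm_num)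
    have hrest : δ y ^ 2 = 1 ∧ ∀ χ, χ ≠ y → δ χ = 0 := by
      have h1 : 1 ≤ δ y ^ 2 := by
        have : 0 < δ y ^ 2 := by positivity
        omega
      have h2 := Finset.add_sum_erase Finset.univ (fun χ => δ χ ^ 2) (Finset.mem_univ y)
      rw [hnorm] at h2
      have h3 : 0 ≤ ∑ χ ∈ Finset.univ.erase y, δ χ ^ 2 := Finset.sum_nonneg fun χ _ => sq_nonneg _
      refine ⟨by omega, fun χ hχ => ?_⟩
      have h4 : ∑ χ ∈ Finset.univ.erase y, δ χ ^ 2 = 0 := by omega
      exact pow_eq_zero_iff two_ne_zero |>.1 ((Finset.sum_eq_zero_iff_of_nonneg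
        fun χ _ => sq_nonneg _).1 h4 χ (mem_erase.2 ⟨hχ, mem_univ _⟩))
    have hWy : W y = 0 := by
      rw [hc, Finset.sum_eq_single y (fun χ _ hχ => by rw [hrest.2 χ hχ, mul_zero])
        (fun h => absurd (Finset.mem_univ y) h), neg_eq_zero, mul_eq_zero] at hcz
      exact_mod_cast hcz.resolve_right hy
    refine ⟨y, hWy, fun χ => ?_⟩
    show Feit.mult (cn t) χ.1 φ.1 = f * W χ + if χ = y then 1 else 0
    by_cases hχ : χ = y
    · subst hχ
      rw [if_pos rfl, hWy, mul_zero, zero_add]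
      have h1 : δ χ = (Feit.mult (cn t) χ.1 φ.1 : ℤ) := by simp [δ, hWy]
      have h2 := hrest.1
      rw [h1] at h2
      have h3 : Feit.mult (cn t) χ.1 φ.1 ^ 2 = 1 := by exact_mod_cast h2
      exact (Nat.pow_eq_one.1 h3).resolve_right two_ne_zero
    · rw [if_neg hχ, add_zero]
      have h1 := hrest.2 χ hχ
      simp only [δ, sub_eq_zero] at h1
      exact_mod_cast h1
  have := S.le_of_good hW hgood
  omega

end Setup

end Cfsg.Agent.TICentralizers82
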