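import Mathlib
import Cfsg.Agent.Lib.PGroupsBasic

/-!
Trivial intersection elementary abelian 2-subgroups `V` with a conjugate inside the radical of the
normalizer: the class two group `P = C_Q(V)`.
-/

set_option autoImplicit false

open Subgroup
open scoped commutatorElement

namespace Cfsg.Agent.TISpread23

variable {G : Type*} [Group G]

/-- conjugate of a subgroup -/
abbrev cj (x : G) (H : Subgroup G) : Subgroup G := H.map (MulAut.conj x).toMonoidHom

theorem mem_cj {x : G} {H : Subgroup G} {y : G} : y ∈ cj x H ↔ x⁻¹ * y * x ∈ H := by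
  constructor
  · rintro ⟨h, hh, rfl⟩
    simpa [mul_assoc] using hh
  · intro h
    exact ⟨_, h, by simp [mul_assoc]⟩

theorem conj_mem_cj (x : G) {H : Subgroup G} {y : G} (h : y ∈ H) : x * y * x⁻¹ ∈ cj x H :=
  ⟨y, h, rfl⟩

theorem cj_cj (x y : G) (H : Subgroup G) : cj x (cj y H) = cj (x * y) H := by
  ext z; simp only [mem_cj, mul_inv_rev, mul_assoc]

@[simp] theorem cj_one (H : Subgroup G) : cj 1 H = H := by
  ext z; simp [mem_cj]

theorem card_cj (x : G) (H : Subgroup G) : Nat.card (cj x H) = Nat.card H :=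
  Subgroup.card_map_of_injective (MulAut.conj x).injective

theorem mem_normalizer_cj {x m : G} {H : Subgroup G} :
    m ∈ normalizer (cj x H : Set G) ↔ x⁻¹ * m * x ∈ normalizer (H : Set G) := by
  simp only [Subgroup.mem_normalizer_iff, mem_cj]
  constructor
  · intro h z
    have := h (x * z * x⁻¹)
    simpa [mul_assoc] using this
  · intro h z
    have := h (x⁻¹ * z * x)
    simpa [mul_assoc] using this

theorem cj_eq_self {m : G} {H : Subgroup G} (hm : m ∈ normalizer (H : Set G)) : cj m H = H := by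
  ext z
  have := Subgroup.mem_normalizer_iff.mp hm (m⁻¹ * z * m)
  rw [mem_cj]
  simpa [mul_assoc] using this

theorem mem_normalizer_of_cj_eq {m : G} {H : Subgroup G} (h : cj m H = H) : m ∈ normalizer (H : Set G) := by
  refine Subgroup.mem_normalizer_iff.mpr fun z => ?_
  conv_rhs => rw [← h, mem_cj]
  simp [mul_assoc]

theorem mem_normalizer_of_forall [Finite G] {m : G} {H : Subgroup G} (h : ∀ a ∈ H, m * a * m⁻¹ ∈ H) :
    m ∈ normalizer (H : Set G) := by
  refine mem_normalizer_of_cj_eq (Subgroup.eq_of_le_of_card_ge ?_ (le_of_eq (card_cj m H).symm))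
  rintro _ ⟨a, ha, rfl⟩
  exact h a ha

theorem comm_mul_right' (a b c : G) : ⁅a, b * c⁆ = ⁅a, b⁆ * (b * ⁅a, c⁆ * b⁻¹) := by
  simp only [commutatorElement_def]; group

theorem comm_mul_left' (a b c : G) : ⁅a * b, c⁆ = a * ⁅b, c⁆ * a⁻¹ * ⁅a, c⁆ := by
  simp only [commutatorElement_def]; group

/-- the standing hypotheses -/
structure Setup (V Q : Subgroup G) : Prop where
  comm : ∀ a ∈ V, ∀ b ∈ V, a * b = b * a
  sq : ∀ a ∈ V, a * a = 1
  V_le : V ≤ Q
  Q_le : Q ≤ normalizer (V : Set G)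
  two : IsPGroup 2 Q
  nor : ∀ m ∈ normalizer (V : Set G), ∀ x ∈ Q, m * x * m⁻¹ ∈ Q
  cent : ∀ m ∈ normalizer (V : Set G), (∀ x ∈ Q, m * x = x * m) → m ∈ Q
  core : ∀ N : Subgroup G, N ≤ normalizer (V : Set G) →
    (∀ m ∈ normalizer (V : Set G), ∀ x ∈ N, m * x * m⁻¹ ∈ N) → IsPGroup 2 N → N ≤ Q
  max : ∀ A : Subgroup G, V ≤ A → A ≤ normalizer (V : Set G) → (∀ a ∈ A, ∀ b ∈ A, a * b = b * a) →
    (∀ m ∈ normalizer (V : Set G), ∀ a ∈ A, m * a * m⁻¹ ∈ A) → A = V
  ti : ∀ x : G, ∀ a ∈ V, a ≠ 1 → x * a * x⁻¹ ∈ V → x ∈ normalizer (V : Set G)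

/-- `P = C_Q(V)` -/
abbrev Pc (V Q : Subgroup G) : Subgroup G := Q ⊓ centralizer (V : Set G)

theorem mem_Pc {V Q : Subgroup G} {x : G} : x ∈ Pc V Q ↔ x ∈ Q ∧ ∀ v ∈ V, v * x = x * v := by
  simp [Pc, Subgroup.mem_centralizer_iff]

theorem cj_Pc (x : G) (V Q : Subgroup G) : cj x (Pc V Q) = Pc (cj x V) (cj x Q) := by
  ext y
  simp only [mem_cj, mem_Pc]
  refine and_congr Iff.rfl ⟨fun h v hv => ?_, fun h v hv => ?_⟩
  · have := h _ hv
    calc v * y = x * ((x⁻¹ * v * x) * (x⁻¹ * y * x)) * x⁻¹ := by group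
      _ = x * ((x⁻¹ * y * x) * (x⁻¹ * v * x)) * x⁻¹ := by rw [this]
      _ = _ := by group
  · have := h (x * v * x⁻¹) (by simpa [mul_assoc] using hv)
    calc v * (x⁻¹ * y * x) = x⁻¹ * ((x * v * x⁻¹) * y) * x := by group
      _ = x⁻¹ * (y * (x * v * x⁻¹)) * x := by rw [this]
      _ = _ := by group

namespace Setup

variable [Finite G] {V Q : Subgroup G}

theorem inv_eq (h : Setup V Q) {a : G} (ha : a ∈ V) : a⁻¹ = a :=
  inv_eq_of_mul_eq_one_right (h.sq a ha)

omit [Finite G] in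
theorem cj_eq_of_mem (h : Setup V Q) {x y u : G} (hx : u ∈ cj x V) (hy : u ∈ cj y V) (hu : u ≠ 1) :
    cj x V = cj y V := by
  rw [mem_cj] at hx hy
  have hn : y⁻¹ * x ∈ normalizer (V : Set G) := by
    refine h.ti _ _ hx (fun e => hu ?_) (by simpa [mul_assoc] using hy)
    calc u = x * (x⁻¹ * u * x) * x⁻¹ := by group
      _ = 1 := by rw [e]; group
  rw [show x = y * (y⁻¹ * x) by group, ← cj_cj, cj_eq_self hn]

omit [Finite G] in
theorem mem_normalizer_cj_of_conj (h : Setup V Q) {x y a : G} (ha : a ∈ cj y V) (h1 : a ≠ 1)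
    (hx : x * a * x⁻¹ ∈ cj y V) : x ∈ normalizer (cj y V : Set G) := by
  rw [mem_normalizer_cj]
  rw [mem_cj] at ha hx
  refine h.ti _ _ ha (fun e => h1 ?_) (by simpa [mul_assoc] using hx)
  calc a = y * (y⁻¹ * a * y) * y⁻¹ := by group
    _ = 1 := by rw [e]; group

omit [Finite G] in
theorem mem_normalizer_of_comm (h : Setup V Q) {x y a : G} (ha : a ∈ cj y V) (h1 : a ≠ 1)
    (hx : x * a = a * x) : x ∈ normalizer (cj y V : Set G) :=
  h.mem_normalizer_cj_of_conj ha h1 (by rwa [hx, mul_inv_cancel_right])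

theorem conj (h : Setup V Q) (x : G) : Setup (cj x V) (cj x Q) where
  comm a ha b hb := by
    have := h.comm _ (mem_cj.mp ha) _ (mem_cj.mp hb)
    calc a * b = x * ((x⁻¹ * a * x) * (x⁻¹ * b * x)) * x⁻¹ := by group
      _ = x * ((x⁻¹ * b * x) * (x⁻¹ * a * x)) * x⁻¹ := by rw [this]
      _ = _ := by group
  sq a ha := by
    have := h.sq _ (mem_cj.mp ha)
    calc a * a = x * ((x⁻¹ * a * x) * (x⁻¹ * a * x)) * x⁻¹ := by group
      _ = 1 := by rw [this]; group
  V_le := Subgroup.map_mono h.V_le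
  Q_le y hy := mem_normalizer_cj.mpr (h.Q_le (mem_cj.mp hy))
  two := h.two.map _
  nor m hm y hy := by
    rw [mem_cj] at hy ⊢
    convert h.nor _ (mem_normalizer_cj.mp hm) _ hy using 1
    group
  cent m hm hc := by
    refine mem_cj.mpr (h.cent _ (mem_normalizer_cj.mp hm) fun y hy => ?_)
    have := hc _ (conj_mem_cj x hy)
    calc x⁻¹ * m * x * y = x⁻¹ * (m * (x * y * x⁻¹)) * x := by group
      _ = x⁻¹ * ((x * y * x⁻¹) * m) * x := by rw [this]
      _ = _ := by group
  core N hN hnor h2 := by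
    have key : cj x⁻¹ N ≤ Q := by
      refine h.core _ ?_ ?_ (h2.map _)
      · intro y hy
        rw [mem_cj, inv_inv] at hy
        have := mem_normalizer_cj.mp (hN hy)
        simpa [mul_assoc] using this
      · intro m hm y hy
        rw [mem_cj, inv_inv] at hy ⊢
        convert hnor (x * m * x⁻¹) (mem_normalizer_cj.mpr (by simpa [mul_assoc] using hm)) _ hy using 1
        group
    intro y hy
    exact mem_cj.mpr (key (mem_cj.mpr (by simpa [mul_assoc] using hy)))
  max A hA hAN hc hn := by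
    have key : cj x⁻¹ A = V := by
      refine h.max _ ?_ ?_ ?_ ?_
      · intro y hy
        rw [mem_cj, inv_inv]
        exact hA (conj_mem_cj x hy)
      · intro y hy
        rw [mem_cj, inv_inv] at hy
        have := mem_normalizer_cj.mp (hAN hy)
        simpa [mul_assoc] using this
      · intro a ha b hb
        rw [mem_cj, inv_inv] at ha hb
        have := hc _ ha _ hb
        calc a * b = x⁻¹ * ((x * a * x⁻¹) * (x * b * x⁻¹)) * x := by group
          _ = x⁻¹ * ((x * b * x⁻¹) * (x * a * x⁻¹)) * x := by rw [this]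
          _ = _ := by group
      · intro m hm y hy
        rw [mem_cj, inv_inv] at hy ⊢
        convert hn (x * m * x⁻¹) (mem_normalizer_cj.mpr (by simpa [mul_assoc] using hm)) _ hy using 1
        group
    rw [← key, cj_cj, mul_inv_cancel, cj_one]
  ti y a ha h1 hy := h.mem_normalizer_cj_of_conj ha h1 hy

/-- two conjugates, one normalizing the other, commute -/
theorem commute_of_le_normalizer (h : Setup V Q) {y : G} (hle : cj y V ≤ normalizer (V : Set G)) :
    ∀ a ∈ V, ∀ b ∈ cj y V, a * b = b * a := by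
  by_cases hy : cj y V = V
  · rw [hy]; exact h.comm
  intro a ha b0 hb0
  by_contra hne
  have ha1 : a ≠ 1 := fun e => hne (by simp [e])
  have hdis : ∀ u ∈ V, u ∈ cj y V → u = 1 := fun u hu hu' => by
    by_contra h1
    exact hy (by have := h.cj_eq_of_mem (x := y) (y := 1) hu' (by rwa [cj_one]) h1; rwa [cj_one] at this)
  have hmem : ∀ b ∈ cj y V, ⁅a, b⁆ ∈ V := fun b hb => by
    rw [commutatorElement_def, show a * b * a⁻¹ * b⁻¹ = a * (b * a⁻¹ * b⁻¹) by group]
    exact V.mul_mem ha ((Subgroup.mem_normalizer_iff.mp (hle hb) _).mp (V.inv_mem ha))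
  let f : cj y V → V := fun b => ⟨⁅a, b⁆, hmem _ b.2⟩
  have hf : Function.Injective f := fun b b' e => by
    by_contra hbb
    have e' : ⁅a, (b : G)⁆ = ⁅a, (b' : G)⁆ := congrArg Subtype.val e
    set c := (b : G)⁻¹ * b'
    have hc : c ∈ cj y V := (cj y V).mul_mem ((cj y V).inv_mem b.2) b'.2
    have hc1 : c ≠ 1 := fun h' => hbb (Subtype.ext (inv_mul_eq_one.mp h'))
    have hac : a * c = c * a := by
      simp only [commutatorElement_def] at e'
      have h1 : (b : G) * a⁻¹ * (b : G)⁻¹ = b' * a⁻¹ * (b' : G)⁻¹ := by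
        have := congrArg (a⁻¹ * ·) e'
        simpa [mul_assoc] using this
      have h2 : c * a⁻¹ = a⁻¹ * c :=
        calc c * a⁻¹ = (b : G)⁻¹ * ((b' : G) * a⁻¹ * (b' : G)⁻¹) * b' := by simp [c, mul_assoc]
          _ = (b : G)⁻¹ * ((b : G) * a⁻¹ * (b : G)⁻¹) * b' := by rw [h1]
          _ = a⁻¹ * c := by simp [c, mul_assoc]
      calc a * c = a * (c * a⁻¹) * a := by group
        _ = a * (a⁻¹ * c) * a := by rw [h2]
        _ = _ := by group
    have hn := h.mem_normalizer_of_comm hc hc1 hac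
    have h0 : ⁅a, b0⁆ = 1 := hdis _ (hmem b0 hb0) (by
      rw [commutatorElement_def]
      exact (cj y V).mul_mem ((Subgroup.mem_normalizer_iff.mp hn b0).mp hb0) ((cj y V).inv_mem hb0))
    exact hne (commutatorElement_eq_one_iff_mul_comm.mp h0)
  obtain ⟨b, hb⟩ := (hf.bijective_of_nat_card_le (le_of_eq (card_cj y V).symm)).2 ⟨a, ha⟩
  have hb' : a * (b : G) * a⁻¹ * (b : G)⁻¹ = a := congrArg Subtype.val hb
  have e : (b : G) * a⁻¹ * (b : G)⁻¹ = 1 := by
    calc (b : G) * a⁻¹ * (b : G)⁻¹ = a⁻¹ * (a * (b : G) * a⁻¹ * (b : G)⁻¹) := by group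
      _ = 1 := by rw [hb', inv_mul_cancel]
  refine ha1 ?_
  calc a = ((b : G)⁻¹ * ((b : G) * a⁻¹ * (b : G)⁻¹) * b)⁻¹ := by group
    _ = 1 := by rw [e]; group

theorem exists_ne (h : Setup V Q) {g : G} (hne : cj g V ≠ V) : ∃ v ∈ V, v ≠ 1 := by
  by_contra hcon
  push Not at hcon
  refine hne ?_
  have : V = ⊥ := (Subgroup.eq_bot_iff_forall V).mpr hcon
  simp [cj, this]

omit [Finite G] in
theorem V_le_Pc (h : Setup V Q) : V ≤ Pc V Q := fun x hx =>
  mem_Pc.mpr ⟨h.V_le hx, fun v hv => h.comm v hv x hx⟩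

omit [Finite G] in
theorem Pc_le (h : Setup V Q) : Pc V Q ≤ normalizer (V : Set G) := inf_le_left.trans h.Q_le

omit [Finite G] in
theorem central (h : Setup V Q) {x v : G} (hx : x ∈ Pc V Q) (hv : v ∈ V) : x * v * x⁻¹ = v := by
  rw [← (mem_Pc.mp hx).2 v hv, mul_inv_cancel_right]

omit [Finite G] in
theorem Pc_nor (h : Setup V Q) {m x : G} (hm : m ∈ normalizer (V : Set G)) (hx : x ∈ Pc V Q) :
    m * x * m⁻¹ ∈ Pc V Q := by
  obtain ⟨hxQ, hxc⟩ := mem_Pc.mp hx
  refine mem_Pc.mpr ⟨h.nor m hm x hxQ, fun v hv => ?_⟩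
  have := hxc _ (show m⁻¹ * v * m ∈ V from by
    have := (Subgroup.mem_normalizer_iff.mp (inv_mem hm) v).mp hv
    rwa [inv_inv] at this)
  calc v * (m * x * m⁻¹) = m * ((m⁻¹ * v * m) * x) * m⁻¹ := by group
    _ = m * (x * (m⁻¹ * v * m)) * m⁻¹ := by rw [this]
    _ = _ := by group

theorem center_Pc (h : Setup V Q) {x : G} (hx : x ∈ Pc V Q) (hc : ∀ y ∈ Pc V Q, x * y = y * x) :
    x ∈ V := by
  let Z : Subgroup G := Pc V Q ⊓ centralizer (Pc V Q : Set G)
  have hZ : Z = V := by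
    refine h.max Z (fun v hv => ⟨h.V_le_Pc hv, Subgroup.mem_centralizer_iff.mpr fun y hy =>
      ((mem_Pc.mp hy).2 v hv).symm⟩) (inf_le_left.trans h.Pc_le)
      (fun a ha b hb => Subgroup.mem_centralizer_iff.mp hb.2 a ha.1) fun m hm a ha => ?_
    refine ⟨h.Pc_nor hm ha.1, Subgroup.mem_centralizer_iff.mpr fun y hy => ?_⟩
    have hy' : m⁻¹ * y * m ∈ Pc V Q := by simpa using h.Pc_nor (inv_mem hm) hy
    have := Subgroup.mem_centralizer_iff.mp ha.2 _ hy'
    calc y * (m * a * m⁻¹) = m * ((m⁻¹ * y * m) * a) * m⁻¹ := by group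
      _ = m * (a * (m⁻¹ * y * m)) * m⁻¹ := by rw [this]
      _ = _ := by group
  exact hZ ▸ (show x ∈ Z from ⟨hx, Subgroup.mem_centralizer_iff.mpr fun y hy => (hc y hy).symm⟩)

/-- `C_M(P) ≤ V` -/
theorem centralizer_Pc (h : Setup V Q) {m : G} (hm : m ∈ normalizer (V : Set G))
    (hc : ∀ y ∈ Pc V Q, m * y = y * m) : m ∈ V := by
  let K : Subgroup G := normalizer (V : Set G) ⊓ centralizer (Pc V Q : Set G)
  have hK : ∀ k ∈ K, k * k ∈ Q := by
    intro k hk
    have hkP : ∀ y ∈ Pc V Q, y * k = k * y := Subgroup.mem_centralizer_iff.mp hk.2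
    refine h.cent _ (mul_mem hk.1 hk.1) fun x hx => ?_
    have hxM := h.Q_le hx
    set c := ⁅k, x⁆ with hcdef
    have hcQ : c ∈ Q := by
      rw [hcdef, commutatorElement_def]
      exact Q.mul_mem (h.nor k hk.1 x hx) (Q.inv_mem hx)
    have hcP : ∀ y ∈ Pc V Q, y * c = c * y := fun y hy => by
      have e1 := hkP y hy
      have hy' : x⁻¹ * y * x ∈ Pc V Q := by simpa using h.Pc_nor (inv_mem hxM) hy
      have e2 := hkP _ hy'
      have e3 : y * (x * k⁻¹ * x⁻¹) = x * k⁻¹ * x⁻¹ * y := by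
        calc y * (x * k⁻¹ * x⁻¹) = x * k⁻¹ * (k * (x⁻¹ * y * x)) * k⁻¹ * x⁻¹ := by group
          _ = x * k⁻¹ * ((x⁻¹ * y * x) * k) * k⁻¹ * x⁻¹ := by rw [e2]
          _ = _ := by group
      rw [hcdef, commutatorElement_def, show k * x * k⁻¹ * x⁻¹ = k * (x * k⁻¹ * x⁻¹) by group,
        ← mul_assoc, e1, mul_assoc, e3]
      simp only [mul_assoc]
    have hcV : c ∈ V := h.center_Pc (mem_Pc.mpr ⟨hcQ, fun v hv => hcP v (h.V_le_Pc hv)⟩)
      fun y hy => (hcP y hy).symm
    have e1 : k * c = c * k := (hkP c (h.V_le_Pc hcV)).symm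
    have e2 : k * x = c * x * k := by rw [hcdef, commutatorElement_def]; group
    calc k * k * x = k * (c * x * k) := by rw [mul_assoc, e2]
      _ = (k * c) * x * k := by group
      _ = c * (k * x) * k := by rw [e1]; group
      _ = (c * c) * x * k * k := by rw [e2]; group
      _ = x * (k * k) := by rw [h.sq c hcV, one_mul, mul_assoc]
  have h2 : IsPGroup 2 K := fun k => by
    obtain ⟨n, hn⟩ := h.two ⟨_, hK k k.2⟩
    refine ⟨n + 1, Subtype.ext ?_⟩
    have := congrArg Subtype.val hn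
    simp only [SubgroupClass.coe_pow, OneMemClass.coe_one] at this ⊢
    rwa [pow_succ', pow_mul, pow_two]
  have hKQ : K ≤ Q := h.core K inf_le_left (fun n hn k hk => Subgroup.mem_inf.mpr ⟨mul_mem (mul_mem hn hk.1) (inv_mem hn),
    Subgroup.mem_centralizer_iff.mpr fun y hy => by
      have hy' : n⁻¹ * y * n ∈ Pc V Q := by simpa using h.Pc_nor (inv_mem hn) hy
      have := Subgroup.mem_centralizer_iff.mp hk.2 _ hy'
      calc y * (n * k * n⁻¹) = n * ((n⁻¹ * y * n) * k) * n⁻¹ := by group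
        _ = n * (k * (n⁻¹ * y * n)) * n⁻¹ := by rw [this]
        _ = _ := by group⟩) h2
  have hmQ : m ∈ Q := hKQ ⟨hm, Subgroup.mem_centralizer_iff.mpr fun y hy => (hc y hy).symm⟩
  exact h.center_Pc (mem_Pc.mpr ⟨hmQ, fun v hv => (hc v (h.V_le_Pc hv)).symm⟩) hc

/-- `P' ≤ V` -/
theorem comm_mem (h : Setup V Q) {a b : G} (ha : a ∈ Pc V Q) (hb : b ∈ Pc V Q) : ⁅a, b⁆ ∈ V := by
  classical
  haveI : Fact (Nat.Prime 2) := ⟨Nat.prime_two⟩
  by_contra hab
  set P := Pc V Q
  have hex : ∃ n, P.lowerCentralSeries n ≤ V := by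
    have h2 : IsPGroup 2 P := h.two.to_le inf_le_left
    haveI : Group.IsNilpotent P := h2.isNilpotent
    obtain ⟨n, hn⟩ := (Subgroup.isNilpotent_iff_lowerCentralSeries P).mp (inferInstance : Group.IsNilpotent P)
    exact ⟨n, by rw [hn]; exact bot_le⟩
  obtain ⟨m, hm, hm'⟩ : ∃ m, P.lowerCentralSeries (m + 2) ≤ V ∧ ¬ P.lowerCentralSeries (m + 1) ≤ V := by
    have h1 : ¬ P.lowerCentralSeries 1 ≤ V := fun hle => hab (hle (by
      rw [Subgroup.lowerCentralSeries_succ, Subgroup.lowerCentralSeries_zero]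
      exact commutator_mem_commutator ha hb))
    have h0 : 2 ≤ Nat.find hex := by
      by_contra hcon
      exact h1 ((P.lowerCentralSeries_antitone (show Nat.find hex ≤ 1 by omega)).trans (Nat.find_spec hex))
    refine ⟨Nat.find hex - 2, ?_, fun hle => ?_⟩
    · rw [show Nat.find hex - 2 + 2 = Nat.find hex by omega]; exact Nat.find_spec hex
    · exact Nat.find_min hex (show Nat.find hex - 2 + 1 < Nat.find hex by omega) hle
  obtain ⟨z, hz, hzV⟩ := SetLike.not_le_iff_exists.mp hm'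
  -- the second centre, modulo `V`
  have hcen : ∀ x ∈ P, ∀ v ∈ V, x * v = v * x := fun x hx v hv => ((mem_Pc.mp hx).2 v hv).symm
  let Z2 : Set G := {x | x ∈ P ∧ ∀ y ∈ P, ⁅x, y⁆ ∈ V}
  have hzP : z ∈ P := by
    have := P.lowerCentralSeries_antitone (Nat.zero_le (m + 1)) hz
    rwa [Subgroup.lowerCentralSeries_zero] at this
  have hz2 : z ∈ Z2 := ⟨hzP, fun y hy => hm (by
    rw [Subgroup.lowerCentralSeries_succ]; exact commutator_mem_commutator hz hy)⟩
  have hz1 : z ∈ ⁅P, P⁆ := by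
    have := P.lowerCentralSeries_antitone (show 1 ≤ m + 1 by omega) hz
    rwa [Subgroup.lowerCentralSeries_succ, Subgroup.lowerCentralSeries_zero] at this
  have hZc : ∀ x ∈ Z2, ∀ d ∈ ⁅P, P⁆, x * d = d * x := by
    intro x hx d hd
    have : ⁅P, P⁆ ≤ centralizer {x} := commutator_le.mpr fun p hp q hq => by
      rw [mem_centralizer_singleton_iff]
      have e : ∀ p ∈ P, x * p * x⁻¹ = ⁅x, p⁆ * p := fun p _ => by rw [commutatorElement_def]; group
      have hcp := hcen p hp _ (hx.2 q hq)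
      have hcq := hcen q hq _ (hx.2 p hp)
      have e1 : x * ⁅p, q⁆ * x⁻¹ = ⁅p, q⁆ := by
        calc x * ⁅p, q⁆ * x⁻¹ = (x * p * x⁻¹) * (x * q * x⁻¹) * (x * p * x⁻¹)⁻¹ * (x * q * x⁻¹)⁻¹ := by
              simp only [commutatorElement_def]; group
          _ = ⁅⁅x, p⁆ * p, ⁅x, q⁆ * q⁆ := by rw [e p hp, e q hq, commutatorElement_def (g₁ := ⁅x, p⁆ * p)]
          _ = ⁅p, q⁆ := by
              have hp' := hcen p hp
              have hq' := hcen q hq
              set c := ⁅x, p⁆ with hc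
              set c' := ⁅x, q⁆ with hc'
              have hcV : c ∈ V := hx.2 p hp
              have hc'V : c' ∈ V := hx.2 q hq
              have k1 : Commute c q := (hq' c hcV).symm
              have k2 : Commute c c' := h.comm c hcV c' hc'V
              have k3 : Commute c' p := (hp' c' hc'V).symm
              have k4 : Commute c p := (hp' c hcV).symm
              have k5 : Commute c' q := (hq' c' hc'V).symm
              simp only [commutatorElement_def, mul_inv_rev]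
              calc c * p * (c' * q) * (p⁻¹ * c⁻¹) * (q⁻¹ * c'⁻¹)
                  = c * (p * c') * q * p⁻¹ * (c⁻¹ * q⁻¹) * c'⁻¹ := by group
                _ = c * (c' * p) * q * p⁻¹ * (q⁻¹ * c⁻¹) * c'⁻¹ := by
                    rw [k3.eq, k1.inv_inv.eq]
                _ = (c * c') * (p * q * p⁻¹ * q⁻¹) * (c' * c)⁻¹ := by group
                _ = (c * c') * (p * q * p⁻¹ * q⁻¹) * (c * c')⁻¹ := by rw [k2.eq]
                _ = p * q * p⁻¹ * q⁻¹ := by
                    have k : Commute (c * c') (p * q * p⁻¹ * q⁻¹) :=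
                      Commute.mul_left (((k4.mul_right k1).mul_right k4.inv_right).mul_right k1.inv_right)
                        (((k3.mul_right k5).mul_right k3.inv_right).mul_right k5.inv_right)
                    rw [k.eq, mul_inv_cancel_right]
      calc ⁅p, q⁆ * x = (x * ⁅p, q⁆ * x⁻¹) * x := by rw [e1]
        _ = x * ⁅p, q⁆ := by group
    exact (mem_centralizer_singleton_iff.mp (this hd)).symm
  let U : Subgroup G := closure ((V : Set G) ∪ (Z2 ∩ ((⁅P, P⁆ : Subgroup G) : Set G)))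
  have hPP : ⁅P, P⁆ ≤ P := commutator_le.mpr fun p hp q hq => by
    rw [commutatorElement_def]; exact P.mul_mem (P.mul_mem (P.mul_mem hp hq) (P.inv_mem hp)) (P.inv_mem hq)
  have hUP : U ≤ P := (closure_le _).mpr (Set.union_subset h.V_le_Pc fun x hx => hPP hx.2)
  have hUV : U = V := by
    refine h.max U (fun v hv => Subgroup.subset_closure (Or.inl hv)) (hUP.trans h.Pc_le) ?_ ?_
    · have hg : ∀ x ∈ ((V : Set G) ∪ (Z2 ∩ ((⁅P, P⁆ : Subgroup G) : Set G))), ∀ y ∈ ((V : Set G) ∪ (Z2 ∩ ((⁅P, P⁆ : Subgroup G) : Set G))), x * y = y * x := by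
        rintro x (hx | hx) y (hy | hy)
        · exact h.comm x hx y hy
        · exact (hcen y (hPP hy.2) x hx).symm
        · exact hcen x (hPP hx.2) y hy
        · exact hZc x hx.1 y hy.2
      intro x hx y hy
      refine closure_induction₂ (p := fun x y _ _ => x * y = y * x) (fun x y hx hy => hg x hx y hy)
        (fun _ _ => by simp) (fun _ _ => by simp)
        (fun a b c _ _ _ e1 e2 => Commute.mul_left e1 e2) (fun a b c _ _ _ e1 e2 => Commute.mul_right e1 e2)
        (fun a b _ _ e => Commute.inv_left e) (fun a b _ _ e => Commute.inv_right e) hx hy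
    · intro n hn a ha
      induction ha using closure_induction with
      | mem x hx =>
        refine Subgroup.subset_closure ?_
        rcases hx with hx | ⟨⟨hxP, hxy⟩, hxPP⟩
        · exact Or.inl ((Subgroup.mem_normalizer_iff.mp hn x).mp hx)
        · refine Or.inr ⟨⟨h.Pc_nor hn hxP, fun y hy => ?_⟩, ?_⟩
          · have hy' : n⁻¹ * y * n ∈ P := by simpa [P] using h.Pc_nor (inv_mem hn) hy
            have := (Subgroup.mem_normalizer_iff.mp hn _).mp (hxy _ hy')
            convert this using 1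
            simp only [commutatorElement_def]; group
          · have : (⁅P, P⁆).map (MulAut.conj n).toMonoidHom ≤ ⁅P, P⁆ := by
              rw [map_commutator]
              refine commutator_mono ?_ ?_ <;>
              · rintro _ ⟨y, hy, rfl⟩; exact h.Pc_nor hn hy
            exact this ⟨x, hxPP, rfl⟩
      | one => simp
      | mul x y _ _ hx hy =>
        rw [show n * (x * y) * n⁻¹ = (n * x * n⁻¹) * (n * y * n⁻¹) by group]
        exact U.mul_mem hx hy
      | inv x _ hx =>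
        rw [show n * x⁻¹ * n⁻¹ = (n * x * n⁻¹)⁻¹ by group]
        exact U.inv_mem hx
  exact hzV (hUV ▸ Subgroup.subset_closure (Or.inr ⟨hz2, hz1⟩))

theorem mul_comm_right (h : Setup V Q) {a b c : G} (ha : a ∈ Pc V Q) (hb : b ∈ Pc V Q) (hc : c ∈ Pc V Q) :
    ⁅a, b * c⁆ = ⁅a, b⁆ * ⁅a, c⁆ := by
  rw [comm_mul_right', h.central hb (h.comm_mem ha hc)]

theorem mul_comm_left (h : Setup V Q) {a b c : G} (ha : a ∈ Pc V Q) (hb : b ∈ Pc V Q) (hc : c ∈ Pc V Q) :
    ⁅a * b, c⁆ = ⁅a, c⁆ * ⁅b, c⁆ := by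
  rw [comm_mul_left', h.central ha (h.comm_mem hb hc), h.comm _ (h.comm_mem hb hc) _ (h.comm_mem ha hc)]

theorem comm_symm (h : Setup V Q) {a b : G} (ha : a ∈ Pc V Q) (hb : b ∈ Pc V Q) : ⁅b, a⁆ = ⁅a, b⁆ := by
  rw [← commutatorElement_inv, h.inv_eq (h.comm_mem ha hb)]

theorem sq_mem (h : Setup V Q) {x : G} (hx : x ∈ Pc V Q) : x * x ∈ V := by
  refine h.center_Pc (mul_mem hx hx) fun y hy => ?_
  have : ⁅x * x, y⁆ = 1 := by rw [h.mul_comm_left hx hx hy, h.sq _ (h.comm_mem hx hy)]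
  exact commutatorElement_eq_one_iff_mul_comm.mp this

section Conjugate

variable {g : G}

theorem le_Pc (h : Setup V Q) (hA : cj g V ≤ Q) : cj g V ≤ Pc V Q := fun b hb =>
  mem_Pc.mpr ⟨hA hb, fun v hv => h.commute_of_le_normalizer (hA.trans h.Q_le) v hv b hb⟩

omit [Finite G] in
theorem disjoint_cj (h : Setup V Q) (hne : cj g V ≠ V) {a : G} (ha : a ∈ cj g V) (hv : a ∈ V) : a = 1 := by
  by_contra h1
  exact hne (by have := h.cj_eq_of_mem (x := g) (y := 1) ha (by rwa [cj_one]) h1; rwa [cj_one] at this)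

theorem comm_all (h : Setup V Q) (hA : cj g V ≤ Q) (hne : cj g V ≠ V) {a b : G} (ha : a ∈ cj g V)
    (h1 : a ≠ 1) (hb : b ∈ Pc V Q) (hab : a * b = b * a) {a' : G} (ha' : a' ∈ cj g V) :
    a' * b = b * a' := by
  have hn := h.mem_normalizer_of_comm ha h1 hab.symm
  refine commutatorElement_eq_one_iff_mul_comm.mp
    (h.disjoint_cj hne ?_ (h.comm_mem (h.le_Pc hA ha') hb))
  rw [commutatorElement_def, show a' * b * a'⁻¹ * b⁻¹ = a' * (b * a'⁻¹ * b⁻¹) by group]
  exact (cj g V).mul_mem ha' ((Subgroup.mem_normalizer_iff.mp hn _).mp ((cj g V).inv_mem ha'))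

/-- a second conjugate not centralised by the first -/
theorem exists_partner (h : Setup V Q) (hA : cj g V ≤ Q) (hne : cj g V ≠ V) :
    ∃ m ∈ normalizer (V : Set G), ∀ a ∈ cj g V, a ≠ 1 → ∀ b ∈ cj (m * g) V, b ≠ 1 → a * b ≠ b * a := by
  by_contra hcon
  push Not at hcon
  have hsub : ∀ m ∈ normalizer (V : Set G), cj (m * g) V ≤ Q ∧ cj (m * g) V ≠ V := fun m hm => by
    refine ⟨fun x hx => ?_, fun e => hne ?_⟩
    · rw [← cj_cj, mem_cj] at hx
      have := h.nor m hm _ (hA hx)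
      rwa [show m * (m⁻¹ * x * m) * m⁻¹ = x by group] at this
    · have := congrArg (cj m⁻¹) e
      rwa [cj_cj, ← mul_assoc, inv_mul_cancel, one_mul, cj_eq_self (inv_mem hm)] at this
  have hall : ∀ m ∈ normalizer (V : Set G), ∀ a ∈ cj g V, ∀ b ∈ cj (m * g) V, a * b = b * a := by
    intro m hm a ha b hb
    obtain ⟨a0, ha0, h10, b0, hb0, h1b, e⟩ := hcon m hm
    obtain ⟨hB, hBne⟩ := hsub m hm
    have e1 : a * b0 = b0 * a := h.comm_all hA hne ha0 h10 (h.le_Pc hB hb0) e ha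
    exact (h.comm_all hB hBne hb0 h1b (h.le_Pc hA ha) e1.symm hb).symm
  let S : Set G := (V : Set G) ∪ {x | ∃ m ∈ normalizer (V : Set G), x ∈ cj (m * g) V}
  have hSP : S ⊆ Pc V Q := by
    rintro x (hx | ⟨m, hm, hx⟩)
    · exact h.V_le_Pc hx
    · exact h.le_Pc (hsub m hm).1 hx
  have hg : ∀ x ∈ S, ∀ y ∈ S, x * y = y * x := by
    rintro x (hx | ⟨m, hm, hx⟩) y (hy | ⟨n, hn, hy⟩)
    · exact h.comm x hx y hy
    · exact (mem_Pc.mp (h.le_Pc (hsub n hn).1 hy)).2 x hx
    · exact ((mem_Pc.mp (h.le_Pc (hsub m hm).1 hx)).2 y hy).symm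
    · rw [← cj_cj, mem_cj] at hx
      have hy' : m⁻¹ * y * m ∈ cj (m⁻¹ * n * g) V := by
        rw [mul_assoc, ← cj_cj, mem_cj, inv_inv]
        simpa [mul_assoc] using hy
      have := hall _ (mul_mem (inv_mem hm) hn) _ hx _ hy'
      calc x * y = m * ((m⁻¹ * x * m) * (m⁻¹ * y * m)) * m⁻¹ := by group
        _ = m * ((m⁻¹ * y * m) * (m⁻¹ * x * m)) * m⁻¹ := by rw [this]
        _ = _ := by group
  let U : Subgroup G := closure S
  have hUV : U = V := by
    refine h.max U (fun v hv => Subgroup.subset_closure (Or.inl hv)) (((closure_le _).mpr hSP).trans h.Pc_le) ?_ ?_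
    · intro x hx y hy
      refine closure_induction₂ (p := fun x y _ _ => x * y = y * x) (fun x y hx hy => hg x hx y hy)
        (fun _ _ => by simp) (fun _ _ => by simp)
        (fun a b c _ _ _ e1 e2 => Commute.mul_left e1 e2) (fun a b c _ _ _ e1 e2 => Commute.mul_right e1 e2)
        (fun a b _ _ e => Commute.inv_left e) (fun a b _ _ e => Commute.inv_right e) hx hy
    · intro n hn a ha
      induction ha using closure_induction with
      | mem x hx =>
        refine Subgroup.subset_closure ?_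
        rcases hx with hx | ⟨m, hm, hx⟩
        · exact Or.inl ((Subgroup.mem_normalizer_iff.mp hn x).mp hx)
        · refine Or.inr ⟨n * m, mul_mem hn hm, ?_⟩
          rw [mul_assoc, ← cj_cj n]
          exact conj_mem_cj n hx
      | one => simp
      | mul x y _ _ hx hy =>
        rw [show n * (x * y) * n⁻¹ = (n * x * n⁻¹) * (n * y * n⁻¹) by group]
        exact U.mul_mem hx hy
      | inv x _ hx =>
        rw [show n * x⁻¹ * n⁻¹ = (n * x * n⁻¹)⁻¹ by group]
        exact U.inv_mem hx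
  obtain ⟨v, hv, hv1⟩ := h.exists_ne hne
  have ha : g * v * g⁻¹ ∈ cj g V := conj_mem_cj g hv
  refine hv1 (conj_eq_one_iff.mp (h.disjoint_cj hne ha ?_))
  rw [← hUV]
  exact Subgroup.subset_closure (Or.inr ⟨1, one_mem _, by rwa [one_mul]⟩)

/-- `[a, ·]` is onto `V` on the partner -/
theorem exists_comm_eq (h : Setup V Q) (hA : cj g V ≤ Q) {x : G} (hB : cj x V ≤ Q)
    (hAB : ∀ a ∈ cj g V, a ≠ 1 → ∀ b ∈ cj x V, b ≠ 1 → a * b ≠ b * a) {a : G} (ha : a ∈ cj g V)
    (h1 : a ≠ 1) {v : G} (hv : v ∈ V) : ∃ b ∈ cj x V, ⁅a, b⁆ = v := by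
  let f : cj x V → V := fun b => ⟨⁅a, b⁆, h.comm_mem (h.le_Pc hA ha) (h.le_Pc hB b.2)⟩
  have hf : Function.Injective f := fun b b' e => by
    by_contra hbb
    have e' : ⁅a, (b : G)⁆ = ⁅a, (b' : G)⁆ := congrArg Subtype.val e
    have hb'' : (b : G)⁻¹ * b' ∈ cj x V := (cj x V).mul_mem ((cj x V).inv_mem b.2) b'.2
    have e2 := h.mul_comm_right (h.le_Pc hA ha) (h.le_Pc hB b.2) (h.le_Pc hB hb'')
    rw [mul_inv_cancel_left, ← e'] at e2
    exact hAB a ha h1 _ hb'' (fun h' => hbb (Subtype.ext (inv_mul_eq_one.mp h')))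
      (commutatorElement_eq_one_iff_mul_comm.mp (mul_eq_left.mp e2.symm))
  obtain ⟨b, hb⟩ := (hf.bijective_of_nat_card_le (le_of_eq (card_cj x V).symm)).2 ⟨v, hv⟩
  exact ⟨b, b.2, congrArg Subtype.val hb⟩

theorem partner_le (h : Setup V Q) (hA : cj g V ≤ Q) {m : G} (hm : m ∈ normalizer (V : Set G)) :
    cj (m * g) V ≤ Q := fun x hx => by
  rw [← cj_cj, mem_cj] at hx
  have := h.nor m hm _ (hA hx)
  rwa [show m * (m⁻¹ * x * m) * m⁻¹ = x by group] at this

theorem exists_conj_eq (h : Setup V Q) (hA : cj g V ≤ Q) (hne : cj g V ≠ V) {a : G} (ha : a ∈ cj g V)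
    (h1 : a ≠ 1) {v : G} (hv : v ∈ V) : ∃ p ∈ Pc V Q, ⁅a, p⁆ = v ∧ p * a * p⁻¹ = v * a := by
  obtain ⟨m, hm, hAB⟩ := h.exists_partner hA hne
  have hB := h.partner_le hA hm
  obtain ⟨b, hb, e⟩ := h.exists_comm_eq hA hB hAB ha h1 hv
  refine ⟨b, h.le_Pc hB hb, e, ?_⟩
  have := h.comm_symm (h.le_Pc hB hb) (h.le_Pc hA ha)
  rw [e] at this
  rw [this, commutatorElement_def, inv_mul_cancel_right]

end Conjugate

end Setup

end Cfsg.Agent.TISpread23
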