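import Cfsg.Agent.Lib.TISpreadBasic23
import Cfsg.Agent.Lib.JordanSpread23

/-!
A pair of commuting trivially intersecting conjugates, each with a group moving it through the others:
the induced group on their product is `SL₂(q)`.
-/

set_option autoImplicit false

open Subgroup
open scoped commutatorElement

namespace Cfsg.Agent.TISpread23

universe u

variable {G : Type u} [Group G]

/-- the symmetrical situation -/
structure Pair (A V P R : Subgroup G) : Prop where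
  g : ∃ g : G, A = cj g V
  ti : ∀ x y u : G, u ∈ cj x V → u ∈ cj y V → u ≠ 1 → cj x V = cj y V
  commA : ∀ a ∈ A, ∀ b ∈ A, a * b = b * a
  sqA : ∀ a ∈ A, a * a = 1
  commV : ∀ a ∈ V, ∀ b ∈ V, a * b = b * a
  sqV : ∀ a ∈ V, a * a = 1
  AV : ∀ a ∈ A, ∀ v ∈ V, a * v = v * a
  disj : ∀ a ∈ A, a ∈ V → a = 1
  neA : ∃ a ∈ A, a ≠ 1
  PV : ∀ p ∈ P, ∀ v ∈ V, p * v = v * p
  RA : ∀ r ∈ R, ∀ a ∈ A, r * a = a * r
  PA : ∀ a ∈ A, ∀ p ∈ P, ⁅a, p⁆ ∈ V
  RV : ∀ v ∈ V, ∀ r ∈ R, ⁅v, r⁆ ∈ A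
  ontoP : ∀ a ∈ A, a ≠ 1 → ∀ v ∈ V, ∃ p ∈ P, ⁅a, p⁆ = v
  ontoR : ∀ v ∈ V, v ≠ 1 → ∀ a ∈ A, ∃ r ∈ R, ⁅v, r⁆ = a

namespace Pair

variable [Finite G] {A V P R : Subgroup G}

omit [Finite G] in
theorem swap (h : Pair A V P R) : Pair V A R P where
  g := by obtain ⟨g, rfl⟩ := h.g; exact ⟨g⁻¹, by rw [cj_cj, inv_mul_cancel, cj_one]⟩
  ti x y u hx hy h1 := by
    obtain ⟨g, rfl⟩ := h.g
    rw [cj_cj] at hx hy ⊢
    rw [cj_cj]
    exact h.ti _ _ u hx hy h1
  commA := h.commV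
  sqA := h.sqV
  commV := h.commA
  sqV := h.sqA
  AV a ha v hv := (h.AV v hv a ha).symm
  disj a ha hv := h.disj a hv ha
  neA := by
    obtain ⟨g, rfl⟩ := h.g
    obtain ⟨a, ha, h1⟩ := h.neA
    exact ⟨g⁻¹ * a * g, mem_cj.mp ha, fun e => h1 (by
      calc a = g * (g⁻¹ * a * g) * g⁻¹ := by group
        _ = 1 := by rw [e]; group)⟩
  PV := h.RA
  RA := h.PV
  PA := h.RV
  RV := h.PA
  ontoP := h.ontoR
  ontoR := h.ontoP

theorem card_eq (h : Pair A V P R) : Nat.card A = Nat.card V := by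
  obtain ⟨g, rfl⟩ := h.g
  exact card_cj g V

omit [Finite G] in
theorem invA (h : Pair A V P R) {a : G} (ha : a ∈ A) : a⁻¹ = a := inv_eq_of_mul_eq_one_right (h.sqA a ha)

omit [Finite G] in
theorem invV (h : Pair A V P R) {a : G} (ha : a ∈ V) : a⁻¹ = a := inv_eq_of_mul_eq_one_right (h.sqV a ha)

omit [Finite G] in
theorem conjP (h : Pair A V P R) {a p : G} (ha : a ∈ A) (hp : p ∈ P) : p * a * p⁻¹ = a * ⁅a, p⁆ := by
  conv_lhs => rw [← h.invA ha]
  rw [commutatorElement_def]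
  calc p * a⁻¹ * p⁻¹ = (a * a) * (p * a⁻¹ * p⁻¹) := by rw [h.sqA a ha, one_mul]
    _ = _ := by group

omit [Finite G] in
theorem fixP (h : Pair A V P R) {v p : G} (hv : v ∈ V) (hp : p ∈ P) : p * v * p⁻¹ = v := by
  rw [h.PV p hp v hv, mul_inv_cancel_right]

omit [Finite G] in
theorem uniq (h : Pair A V P R) {a a' v v' : G} (ha : a ∈ A) (ha' : a' ∈ A) (hv : v ∈ V) (hv' : v' ∈ V)
    (e : a * v = a' * v') : a = a' ∧ v = v' := by
  have h1 : a'⁻¹ * a = v' * v⁻¹ := by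
    calc a'⁻¹ * a = a'⁻¹ * (a * v) * v⁻¹ := by group
      _ = _ := by rw [e]; group
  have h2 := h.disj _ (A.mul_mem (A.inv_mem ha') ha) (h1 ▸ V.mul_mem hv' (V.inv_mem hv))
  have h3 : a' = a := inv_mul_eq_one.mp h2
  subst h3
  exact ⟨rfl, mul_left_cancel e⟩

omit [Finite G] in
theorem comm_mulA (h : Pair A V P R) {a b p : G} (ha : a ∈ A) (hb : b ∈ A) (hp : p ∈ P) :
    ⁅a * b, p⁆ = ⁅a, p⁆ * ⁅b, p⁆ := by
  rw [comm_mul_left', h.AV a ha _ (h.PA b hb p hp), mul_inv_cancel_right,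
    h.commV _ (h.PA b hb p hp) _ (h.PA a ha p hp)]

omit [Finite G] in
theorem comm_mulP (h : Pair A V P R) {a p q : G} (ha : a ∈ A) (hp : p ∈ P) (hq : q ∈ P) :
    ⁅a, p * q⁆ = ⁅a, p⁆ * ⁅a, q⁆ := by
  rw [comm_mul_right', h.fixP (h.PA a ha q hq) hp]

/-- `a ↦ [a,p]` is trivial or injective -/
theorem comm_eq_one (h : Pair A V P R) {a p : G} (ha : a ∈ A) (hp : p ∈ P) (e : ⁅a, p⁆ = 1) (h1 : a ≠ 1)
    {b : G} (hb : b ∈ A) : ⁅b, p⁆ = 1 := by
  obtain ⟨g, rfl⟩ := h.g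
  have hmem : p * a * p⁻¹ ∈ cj g V := by rw [h.conjP ha hp, e, mul_one]; exact ha
  have key : cj (p * g) V = cj g V := h.ti _ _ (p * a * p⁻¹) (by rw [← cj_cj]; exact conj_mem_cj p ha) hmem
    fun e' => h1 (conj_eq_one_iff.mp e')
  have hb' : p * b * p⁻¹ ∈ cj g V := key ▸ (by rw [← cj_cj]; exact conj_mem_cj p hb)
  rw [h.conjP hb hp] at hb'
  refine h.disj _ ?_ (h.PA b hb p hp)
  have := (cj g V).mul_mem ((cj g V).inv_mem hb) hb'
  rwa [inv_mul_cancel_left] at this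

/-- an element of `R` inverse to a nontrivial element of `P` -/
theorem exists_inverse (h : Pair A V P R) {a0 p : G} (ha0 : a0 ∈ A) (h0 : ⁅a0, p⁆ ≠ 1) (hp : p ∈ P) :
    ∃ r ∈ R, ∀ a ∈ A, ⁅⁅a, p⁆, r⁆ = a := by
  set v0 := ⁅a0, p⁆ with hv0
  have hv0V : v0 ∈ V := h.PA a0 ha0 p hp
  obtain ⟨r, hr, hre⟩ := h.ontoR v0 hv0V h0 a0 ha0
  obtain ⟨g, rfl⟩ := h.g
  refine ⟨r, hr, fun a ha => ?_⟩
  have hu : p * a0 * p⁻¹ = r * v0 * r⁻¹ := by
    rw [h.conjP ha0 hp, h.swap.conjP hv0V hr, hre, h.AV a0 ha0 v0 hv0V]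
  have key : cj (p * g) V = cj r V := h.ti _ _ _ (by rw [← cj_cj]; exact conj_mem_cj p ha0)
    (hu ▸ conj_mem_cj r hv0V) fun e' => h0 (by
      have : a0 = 1 := conj_eq_one_iff.mp e'
      rw [hv0, this, commutatorElement_def]; group)
  have hmem : p * a * p⁻¹ ∈ cj r V := key ▸ (by rw [← cj_cj]; exact conj_mem_cj p ha)
  obtain ⟨v, hv, e⟩ := hmem
  have e' : r * v * r⁻¹ = p * a * p⁻¹ := e
  rw [h.swap.conjP hv hr, h.conjP ha hp, ← h.AV _ (h.RV v hv r hr) v hv] at e'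
  obtain ⟨e1, e2⟩ := h.uniq (h.RV v hv r hr) ha hv (h.PA a ha p hp) e'
  rw [← e2, e1]

omit [Finite G] in
theorem mem_W (h : Pair A V P R) {w : G} : w ∈ A ⊔ V ↔ ∃ a ∈ A, ∃ v ∈ V, w = a * v := by
  constructor
  · intro hw
    have hle : A ≤ normalizer (V : Set G) := fun a ha => by
      refine Subgroup.mem_normalizer_iff.mpr fun v => ⟨fun hv => ?_, fun hv => ?_⟩
      · rw [h.AV a ha v hv, mul_inv_cancel_right]; exact hv
      · have := h.AV a ha _ hv
        have e : v = a * v * a⁻¹ := by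
          calc v = a⁻¹ * (a * v * a⁻¹ * a) := by group
            _ = a⁻¹ * (a * (a * v * a⁻¹)) := by rw [this]
            _ = _ := by group
        rwa [← e] at hv
    rw [← SetLike.mem_coe, Subgroup.coe_mul_of_left_le_normalizer_right _ _ hle] at hw
    obtain ⟨a, ha, v, hv, e⟩ := Set.mem_mul.mp hw
    exact ⟨a, ha, v, hv, e.symm⟩
  · rintro ⟨a, ha, v, hv, rfl⟩
    exact mul_mem (mem_sup_left ha) (mem_sup_right hv)

theorem P_normalizes (h : Pair A V P R) : P ≤ normalizer ((A ⊔ V : Subgroup G) : Set G) := fun p hp => by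
  refine mem_normalizer_of_forall fun w hw => ?_
  obtain ⟨a, ha, v, hv, rfl⟩ := h.mem_W.mp hw
  rw [show p * (a * v) * p⁻¹ = (p * a * p⁻¹) * (p * v * p⁻¹) by group, h.conjP ha hp, h.fixP hv hp, mul_assoc]
  exact mul_mem (mem_sup_left ha) (mem_sup_right (V.mul_mem (h.PA a ha p hp) hv))

theorem H_normalizes (h : Pair A V P R) : P ⊔ R ≤ normalizer ((A ⊔ V : Subgroup G) : Set G) := by
  refine sup_le h.P_normalizes ?_
  have := h.swap.P_normalizes
  rwa [sup_comm] at this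

/-- every element of `A ⊔ V` lies in a conjugate inside it -/
theorem exists_cover (h : Pair A V P R) {w : G} (hw : w ∈ A ⊔ V) :
    ∃ x : G, cj x V ≤ A ⊔ V ∧ w ∈ cj x V := by
  obtain ⟨a, ha, v, hv, rfl⟩ := h.mem_W.mp hw
  by_cases h1 : a = 1
  · exact ⟨1, by rw [cj_one]; exact le_sup_right, by rw [cj_one, h1, one_mul]; exact hv⟩
  obtain ⟨p, hp, hpe⟩ := h.ontoP a ha h1 v hv
  obtain ⟨g, rfl⟩ := h.g
  refine ⟨p * g, ?_, ?_⟩
  · rw [← cj_cj]
    rintro _ ⟨b, hb, rfl⟩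
    show p * b * p⁻¹ ∈ _
    rw [h.conjP hb hp]
    exact mul_mem (mem_sup_left hb) (mem_sup_right (h.PA b hb p hp))
  · rw [← cj_cj, ← hpe, ← h.conjP ha hp]
    exact conj_mem_cj p ha

/-- transitivity -/
theorem exists_conj (h : Pair A V P R) {u a : G} (hu : u ∈ V) (hu1 : u ≠ 1) (ha : a ∈ A) (ha1 : a ≠ 1) :
    ∃ x : G, x * u * x⁻¹ = a := by
  obtain ⟨p, hp, hpe⟩ := h.ontoP a ha ha1 u hu
  obtain ⟨r, hr, hri⟩ := h.exists_inverse ha (by rwa [hpe]) hp
  have hre : ⁅u, r⁆ = a := by have := hri a ha; rwa [hpe] at this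
  refine ⟨p * r * p, ?_⟩
  calc (p * r * p) * u * (p * r * p)⁻¹ = p * (r * (p * u * p⁻¹) * r⁻¹) * p⁻¹ := by group
    _ = p * (u * a) * p⁻¹ := by rw [h.fixP hu hp, h.swap.conjP hu hr, hre]
    _ = (p * u * p⁻¹) * (p * a * p⁻¹) := by group
    _ = u * (a * u) := by rw [h.fixP hu hp, h.conjP ha hp, hpe]
    _ = a := by rw [h.AV a ha u hu, ← mul_assoc, h.sqV u hu, one_mul]

/-- the quadratic closure of the maps `A → V` -/
theorem exists_jordan (h : Pair A V P R) {p q a0 : G} (hp : p ∈ P) (hq : q ∈ P) (ha0 : a0 ∈ A)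
    (hp0 : ⁅a0, p⁆ ≠ 1) (hq0 : ⁅a0, q⁆ ≠ 1) :
    ∃ s ∈ P, ∀ a ∈ A, ∀ b ∈ A, ⁅b, q⁆ = ⁅a, p⁆ → ⁅a, s⁆ = ⁅b, p⁆ := by
  obtain ⟨r, hr, hri⟩ := h.exists_inverse ha0 hp0 hp
  set w := p * r * p with hw
  have hwa : ∀ a ∈ A, w * a * w⁻¹ = ⁅a, p⁆ := fun a ha => by
    have hv := h.PA a ha p hp
    calc w * a * w⁻¹ = p * (r * (p * a * p⁻¹) * r⁻¹) * p⁻¹ := by rw [hw]; group
      _ = p * ((r * a * r⁻¹) * (r * ⁅a, p⁆ * r⁻¹)) * p⁻¹ := by rw [h.conjP ha hp]; group
      _ = p * (a * (a * ⁅a, p⁆)) * p⁻¹ := by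
          rw [h.swap.fixP ha hr, h.swap.conjP hv hr, hri a ha, h.AV a ha _ hv]
      _ = p * ⁅a, p⁆ * p⁻¹ := by rw [← mul_assoc a, h.sqA a ha, one_mul]
      _ = _ := h.fixP hv hp
  have hwv : ∀ a ∈ A, w * ⁅a, p⁆ * w⁻¹ = a := fun a ha => by
    have hv := h.PA a ha p hp
    calc w * ⁅a, p⁆ * w⁻¹ = p * (r * (p * ⁅a, p⁆ * p⁻¹) * r⁻¹) * p⁻¹ := by rw [hw]; group
      _ = p * (⁅a, p⁆ * a) * p⁻¹ := by rw [h.fixP hv hp, h.swap.conjP hv hr, hri a ha]
      _ = (p * ⁅a, p⁆ * p⁻¹) * (p * a * p⁻¹) := by group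
      _ = ⁅a, p⁆ * (⁅a, p⁆ * a) := by rw [h.fixP hv hp, h.conjP ha hp, h.AV a ha _ hv]
      _ = a := by rw [← mul_assoc, h.sqV _ hv, one_mul]
  -- the image of a member of `q`'s conjugate
  have him : ∀ a ∈ A, ∀ b ∈ A, ⁅b, q⁆ = ⁅a, p⁆ → w * (q * b * q⁻¹) * w⁻¹ = a * ⁅b, p⁆ := by
    intro a ha b hb e
    rw [h.conjP hb hq, e, show w * (b * ⁅a, p⁆) * w⁻¹ = (w * b * w⁻¹) * (w * ⁅a, p⁆ * w⁻¹) by group,
      hwa b hb, hwv a ha, h.AV a ha _ (h.PA b hb p hp)]
  obtain ⟨g, rfl⟩ := h.g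
  -- a base point
  have hv0 := h.PA a0 ha0 q hq
  have hp0' : a0 ≠ 1 := fun e => hp0 (by rw [e, commutatorElement_def]; group)
  obtain ⟨a1, ha1, hae⟩ : ∃ a1 ∈ cj g V, ⁅a1, p⁆ = ⁅a0, q⁆ := by
    let f : cj g V → V := fun b => ⟨⁅(b : G), p⁆, h.PA b b.2 p hp⟩
    have hf : Function.Injective f := fun b b' e => by
      by_contra hbb
      have e' : ⁅(b : G), p⁆ = ⁅(b' : G), p⁆ := congrArg Subtype.val e
      have hc : (b : G)⁻¹ * b' ∈ cj g V := (cj g V).mul_mem ((cj g V).inv_mem b.2) b'.2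
      have e2 := h.comm_mulA b.2 hc hp
      rw [mul_inv_cancel_left, ← e'] at e2
      exact hp0 (h.comm_eq_one hc hp (mul_eq_left.mp e2.symm) (fun h' => hbb (Subtype.ext (inv_mul_eq_one.mp h'))) ha0)
    obtain ⟨b, hb⟩ := (hf.bijective_of_nat_card_le (le_of_eq h.card_eq.symm)).2 ⟨_, hv0⟩
    exact ⟨b, b.2, congrArg Subtype.val hb⟩
  have ha11 : a1 ≠ 1 := fun e => hq0 (by rw [← hae, e, commutatorElement_def]; group)
  obtain ⟨s, hs, hse⟩ := h.ontoP a1 ha1 ha11 _ (h.PA a0 ha0 p hp)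
  refine ⟨s, hs, fun a ha b hb e => ?_⟩
  have e0 := him a1 ha1 a0 ha0 hae.symm
  have key : cj (w * q * g) V = cj (s * g) V := by
    refine h.ti _ _ (a1 * ⁅a0, p⁆) ?_ ?_ ?_
    · rw [← e0, ← cj_cj, ← cj_cj]; exact conj_mem_cj w (conj_mem_cj q ha0)
    · rw [← hse, ← h.conjP ha1 hs, ← cj_cj]; exact conj_mem_cj s ha1
    · intro e'
      exact ha11 (h.uniq ha1 (one_mem _) (h.PA a0 ha0 p hp) (one_mem _) (by rw [e', one_mul])).1
  have hmem : w * (q * b * q⁻¹) * w⁻¹ ∈ cj (w * q * g) V := by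
    rw [← cj_cj, ← cj_cj]; exact conj_mem_cj w (conj_mem_cj q hb)
  rw [key, him a ha b hb e, ← cj_cj] at hmem
  obtain ⟨c, hc, ec⟩ := hmem
  have ec' : s * c * s⁻¹ = a * ⁅b, p⁆ := ec
  rw [h.conjP hc hs] at ec'
  obtain ⟨e1, e2⟩ := h.uniq hc ha (h.PA c hc s hs) (h.PA b hb p hp) ec'
  rw [← e2, e1]

/-- the group induced on `A ⊔ V` -/
theorem exists_sl2 (h : Pair A V P R) :
    ∃ (F : Type) (_ : Field F) (_ : Fintype F) (f : ↥(P ⊔ R) →* Matrix.SpecialLinearGroup (Fin 2) F),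
      Fintype.card F = Nat.card V ∧ Function.Surjective f ∧
        f.ker = (centralizer ((A ⊔ V : Subgroup G) : Set G)).subgroupOf (P ⊔ R) := by
  classical
  obtain ⟨a0, ha0, ha01⟩ := h.neA
  obtain ⟨v0, hv0, hv01⟩ := h.swap.neA
  obtain ⟨p0, hp0, hp0e⟩ := h.ontoP a0 ha0 ha01 v0 hv0
  letI iA : CommGroup A := { A.toGroup with mul_comm := fun a b => Subtype.ext (h.commA a a.2 b b.2) }
  letI iV : CommGroup V := { V.toGroup with mul_comm := fun a b => Subtype.ext (h.commV a a.2 b b.2) }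
  let φ : P → (A →* V) := fun p =>
    MonoidHom.mk' (fun a => ⟨⁅(a : G), (p : G)⁆, h.PA a a.2 p p.2⟩)
      (fun a b => Subtype.ext (h.comm_mulA a.2 b.2 p.2))
  have hinj : ∀ p : P, ⁅a0, (p : G)⁆ ≠ 1 → Function.Injective (φ p) := fun p hne => by
    refine (injective_iff_map_eq_one _).mpr fun a ha => ?_
    by_contra h1
    exact hne (h.comm_eq_one a.2 p.2 (congrArg Subtype.val ha) (fun e => h1 (Subtype.ext e)) ha0)
  have hzero : ∀ p : P, ⁅a0, (p : G)⁆ = 1 → ∀ a, φ p a = 1 := fun p e a =>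
    Subtype.ext (h.comm_eq_one ha0 p.2 e ha01 a.2)
  have hp01 : ⁅a0, p0⁆ ≠ 1 := by rwa [hp0e]
  let e0 : A ≃* V := MulEquiv.ofBijective (φ ⟨p0, hp0⟩)
    ((hinj ⟨p0, hp0⟩ hp01).bijective_of_nat_card_le (le_of_eq h.card_eq.symm))
  have he0 : ∀ a : A, ((e0 a : V) : G) = ⁅(a : G), p0⁆ := fun a => rfl
  let Aa := Additive A
  let j : P → AddMonoid.End Aa := fun p => MonoidHom.toAdditive (e0.symm.toMonoidHom.comp (φ p))
  have hj : ∀ (p : P) (a : A), j p (Additive.ofMul a) = Additive.ofMul (e0.symm (φ p a)) := fun p a => rfl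
  have hjG : ∀ (p : P) (a b : A), j p (Additive.ofMul a) = Additive.ofMul b ↔ ⁅(b : G), p0⁆ = ⁅(a : G), (p : G)⁆ := by
    intro p a b
    rw [hj, Additive.ofMul.injective.eq_iff, MulEquiv.symm_apply_eq, eq_comm, Subtype.ext_iff, he0]
    rfl
  have hjz : ∀ p : P, ⁅a0, (p : G)⁆ = 1 → j p = 0 := fun p e => AddMonoidHom.ext fun x => by
    obtain ⟨a, rfl⟩ := Additive.ofMul.surjective x
    show Additive.ofMul (e0.symm (φ p a)) = _
    rw [hzero p e, map_one]; rfl
  haveI : Nontrivial Aa := ⟨⟨Additive.ofMul ⟨a0, ha0⟩, 0, fun e =>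
    ha01 (congrArg Subtype.val (Additive.ofMul.injective (e.trans ofMul_one.symm)))⟩⟩
  haveI : Finite Aa := inferInstanceAs (Finite A)
  have h20 : (2 : AddMonoid.End Aa) = 0 := by
    refine AddMonoidHom.ext fun x => ?_
    obtain ⟨a, rfl⟩ := Additive.ofMul.surjective x
    show ((1 + 1 : ℕ) : AddMonoid.End Aa) (Additive.ofMul a) = 0
    rw [Nat.cast_add, Nat.cast_one]
    show Additive.ofMul a + Additive.ofMul a = 0
    rw [← ofMul_mul, show a * a = 1 from Subtype.ext (h.sqA a a.2), ofMul_one]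
  haveI : Nontrivial (AddMonoid.End Aa) := by
    obtain ⟨x, hx⟩ := exists_ne (0 : Aa)
    exact ⟨⟨1, 0, fun e => hx (DFunLike.congr_fun e x)⟩⟩
  haveI : CharP (AddMonoid.End Aa) 2 := CharTwo.of_one_ne_zero_of_two_eq_zero one_ne_zero h20
  -- the quadratically closed set
  let J : Set (AddMonoid.End Aa) := Set.range j
  have hj1 : j ⟨p0, hp0⟩ = 1 := AddMonoidHom.ext fun x => by
    obtain ⟨a, rfl⟩ := Additive.ofMul.surjective x
    exact (hjG _ a a).mpr rfl
  have hjadd : ∀ p q : P, j p + j q = j (p * q) := fun p q => AddMonoidHom.ext fun x => by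
    obtain ⟨a, rfl⟩ := Additive.ofMul.surjective x
    show Additive.ofMul (e0.symm (φ p a)) + Additive.ofMul (e0.symm (φ q a)) = Additive.ofMul (e0.symm (φ (p * q) a))
    rw [← ofMul_mul, ← map_mul]
    congr 2
    exact Subtype.ext (h.comm_mulP a.2 p.2 q.2).symm
  have h1J : (1 : AddMonoid.End Aa) ∈ J := ⟨_, hj1⟩
  have hnz : ∀ p : P, j p ≠ 0 → ⁅a0, (p : G)⁆ ≠ 1 := fun p hp e => hp (hjz p e)
  have hJinj : ∀ p : P, j p ≠ 0 → Function.Injective (j p) := fun p hp x y e => by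
    obtain ⟨a, rfl⟩ := Additive.ofMul.surjective x
    obtain ⟨b, rfl⟩ := Additive.ofMul.surjective y
    rw [hj, hj, Additive.ofMul.injective.eq_iff, e0.symm.injective.eq_iff] at e
    rw [hinj p (hnz p hp) e]
  -- `j p * j q⁻¹ * j p`
  have hquot : ∀ p q : P, j p ≠ 0 → j q ≠ 0 → ∃ s : P, ∀ x y, j q y = j p x → j s x = j p y := by
    intro p q hp hq
    obtain ⟨s, hs, hsp⟩ := h.exists_jordan p.2 q.2 ha0 (hnz p hp) (hnz q hq)
    refine ⟨⟨s, hs⟩, fun x y e => ?_⟩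
    obtain ⟨a, rfl⟩ := Additive.ofMul.surjective x
    obtain ⟨b, rfl⟩ := Additive.ofMul.surjective y
    rw [hj, hj, Additive.ofMul.injective.eq_iff, e0.symm.injective.eq_iff] at e
    rw [hj, hj]
    congr 2
    exact Subtype.ext (hsp a a.2 b b.2 (congrArg Subtype.val e))
  have hsurj : ∀ p : P, j p ≠ 0 → Function.Surjective (j p) := fun p hp =>
    Finite.injective_iff_surjective.mp (hJinj p hp)
  have hJ : JordanSpread23.IsJ J := by
    refine ⟨h1J, ?_, ?_, ?_⟩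
    · rintro _ ⟨p, rfl⟩ _ ⟨q, rfl⟩; exact ⟨_, (hjadd p q).symm⟩
    · rintro _ ⟨p, rfl⟩ _ ⟨q, rfl⟩
      have hz : (0 : AddMonoid.End Aa) ∈ J := ⟨1, hjz 1 (by simp [commutatorElement_def])⟩
      by_cases hp : j p = 0
      · rwa [hp, zero_mul, zero_mul]
      by_cases hq : j q = 0
      · rwa [hq, mul_zero, zero_mul]
      obtain ⟨t, ht⟩ := hquot ⟨p0, hp0⟩ q (by rw [hj1]; exact one_ne_zero) hq
      have ht' : ∀ y, j t (j q y) = y := fun y => by
        have := ht (j q y) y (by rw [hj1]; rfl)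
        rwa [hj1] at this
      have htne : j t ≠ 0 := fun e => by
        obtain ⟨x, hx⟩ := exists_ne (0 : Aa)
        exact hx (by rw [← ht' x, e]; rfl)
      obtain ⟨s, hs⟩ := hquot p t hp htne
      exact ⟨s, AddMonoidHom.ext fun x => hs x (j q (j p x)) (ht' _)⟩
    · rintro _ ⟨p, rfl⟩ hp; exact hJinj p hp
  have hc := JordanSpread23.IsJ.comm _ hJ rfl
  have hsq : ∀ y ∈ J, ∃ u ∈ J, u * u = y := fun y hy => by
    haveI : Finite (AddMonoid.End Aa) :=
      Finite.of_injective (fun f : AddMonoid.End Aa => (f : Aa → Aa)) DFunLike.coe_injective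
    have hmaps : Set.MapsTo (fun u : AddMonoid.End Aa => u * u) J J := fun u hu => hJ.sq hu
    have hi : Set.InjOn (fun u : AddMonoid.End Aa => u * u) J := fun u hu v hv e => by
      refine CharTwo.add_eq_zero.mp ?_
      by_contra h0
      have hii := hJ.inj _ (hJ.add u hu v hv) h0
      have hq : (u + v) * (u + v) = 0 := by
        simp only at e
        calc (u + v) * (u + v) = (u * u + v * v) + (u * v + v * u) := by noncomm_ring
          _ = 0 := by rw [e, hc v hv u hu, CharTwo.add_self_eq_zero, CharTwo.add_self_eq_zero, add_zero]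
      refine h0 (AddMonoidHom.ext fun w => hii ?_)
      show ((u + v) * (u + v)) w = (u + v) 0
      rw [hq, map_zero]; rfl
    exact (((Set.toFinite J).injOn_iff_bijOn_of_mapsTo hmaps).mp hi).surjOn hy
  let S : Subring (AddMonoid.End Aa) :=
    { carrier := J
      zero_mem' := hJ.zero
      one_mem' := h1J
      add_mem' := fun {x y} hx hy => hJ.add x hx y hy
      neg_mem' := fun {x} hx => by rwa [CharTwo.neg_eq]
      mul_mem' := fun {x y} hx hy => by
        obtain ⟨u, hu, rfl⟩ := hsq y hy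
        rw [← mul_assoc, hc x hx u hu]
        exact hJ.aba u hu x hx }
  obtain ⟨L, _, _, _, ι, hι, hS⟩ := JordanSpread23.exists_field S hc hJ.inj
  have hιJ : ∀ l, ∃ p : P, j p = ι l := fun l => (hS (ι l)).mpr ⟨l, rfl⟩
  -- coordinates
  set x0 : Aa := Additive.ofMul ⟨a0, ha0⟩ with hx0
  have hx0ne : x0 ≠ 0 := fun e => ha01 (congrArg Subtype.val (Additive.ofMul.injective (e.trans ofMul_one.symm)))
  let ε : L → Aa := fun l => ι l x0
  have hεinj : Function.Injective ε := fun l m e => by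
    by_contra hlm
    obtain ⟨p, hp⟩ := hιJ (l - m)
    have hne : j p ≠ 0 := by
      rw [hp]; exact fun e' => hlm (sub_eq_zero.mp (hι (e'.trans (map_zero ι).symm)))
    refine hx0ne (hJinj p hne ?_)
    rw [hp, map_sub, map_zero]
    show ι l x0 - ι m x0 = 0
    exact sub_eq_zero.mpr e
  have hεsurj : Function.Surjective ε := fun x => by
    obtain ⟨a, rfl⟩ := Additive.ofMul.surjective x
    obtain ⟨p, hp, hpe⟩ := h.ontoP a0 ha0 ha01 _ (e0 a).2
    obtain ⟨l, hl⟩ := (hS (j ⟨p, hp⟩)).mp ⟨_, rfl⟩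
    refine ⟨l, ?_⟩
    show ι l x0 = _
    rw [hl]
    exact (hjG ⟨p, hp⟩ ⟨a0, ha0⟩ a).mpr ((he0 a).symm.trans hpe.symm)
  have hεmul : ∀ c l, ι c (ε l) = ε (c * l) := fun c l => by
    show ι c (ι l x0) = ι (c * l) x0
    rw [map_mul]; rfl
  have hεadd : ∀ c l, ε (c + l) = ε c + ε l := fun c l => by
    show ι (c + l) x0 = _
    rw [map_add]; rfl
  -- the parametrization of `W`
  let cA : L → G := fun l => ((Additive.toMul (ε l) : A) : G)
  let cV : L → G := fun l => ((e0 (Additive.toMul (ε l)) : V) : G)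
  let Θ : (Fin 2 → L) → G := fun x => cA (x 0) * cV (x 1)
  have hcA : ∀ l, cA l ∈ A := fun l => (Additive.toMul (ε l)).2
  have hcV : ∀ l, cV l ∈ V := fun l => (e0 (Additive.toMul (ε l))).2
  have hcAadd : ∀ l m, cA (l + m) = cA l * cA m := fun l m => by
    simp only [cA, hεadd]; rfl
  have hcVadd : ∀ l m, cV (l + m) = cV l * cV m := fun l m => by
    simp only [cV, hεadd]
    show ((e0 (Additive.toMul (ε l) * Additive.toMul (ε m)) : V) : G) = _
    rw [map_mul]; rfl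
  have hΘinj : Function.Injective Θ := fun x y e => by
    obtain ⟨e1, e2⟩ := h.uniq (hcA _) (hcA _) (hcV _) (hcV _) e
    have k1 : x 0 = y 0 := hεinj (Additive.toMul.injective (Subtype.ext e1))
    have k2 : x 1 = y 1 := hεinj (Additive.toMul.injective (e0.injective (Subtype.ext e2)))
    funext i; fin_cases i <;> assumption
  have hΘmem : ∀ x, Θ x ∈ A ⊔ V := fun x => h.mem_W.mpr ⟨_, hcA _, _, hcV _, rfl⟩
  let e : (Fin 2 → L) ≃ ↥(A ⊔ V) := Equiv.ofBijective (fun x => ⟨Θ x, hΘmem x⟩)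
    ⟨fun x y e => hΘinj (congrArg Subtype.val e), fun w => by
      obtain ⟨a, ha, v, hv, hw⟩ := h.mem_W.mp w.2
      obtain ⟨l, hl⟩ := hεsurj (Additive.ofMul ⟨a, ha⟩)
      obtain ⟨m, hm⟩ := hεsurj (Additive.ofMul (e0.symm ⟨v, hv⟩))
      refine ⟨![l, m], Subtype.ext ?_⟩
      show cA l * cV m = _
      simp only [cA, cV, hl, hm, toMul_ofMul, MulEquiv.apply_symm_apply]
      exact hw.symm⟩
  -- the permutations induced by `P ⊔ R`
  have hN := h.H_normalizes
  let act : ↥(P ⊔ R) → (Fin 2 → L) → (Fin 2 → L) := fun k x =>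
    e.symm ⟨k * (e x : G) * (k : G)⁻¹, (Subgroup.mem_normalizer_iff.mp (hN k.2) _).mp (e x).2⟩
  have hact : ∀ k x, Θ (act k x) = k * Θ x * (k : G)⁻¹ := fun k x =>
    congrArg Subtype.val (e.apply_symm_apply _)
  have hact_mul : ∀ k k' x, act (k * k') x = act k (act k' x) := fun k k' x => hΘinj (by
    rw [hact, hact, hact, Subgroup.coe_mul]; group)
  have hact_one : ∀ x, act 1 x = x := fun x => hΘinj (by rw [hact, OneMemClass.coe_one]; group)
  let α : ↥(P ⊔ R) →* Equiv.Perm (Fin 2 → L) := MonoidHom.mk' (fun k =>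
    { toFun := act k
      invFun := act k⁻¹
      left_inv := fun x => by rw [← hact_mul, inv_mul_cancel, hact_one]
      right_inv := fun x => by rw [← hact_mul, mul_inv_cancel, hact_one] })
    (fun k k' => Equiv.ext fun x => hact_mul k k' x)
  have hαker : α.ker = (centralizer ((A ⊔ V : Subgroup G) : Set G)).subgroupOf (P ⊔ R) := by
    ext k
    rw [MonoidHom.mem_ker, Subgroup.mem_subgroupOf, Subgroup.mem_centralizer_iff]
    constructor
    · intro hk w hw
      obtain ⟨x, hx⟩ := e.surjective ⟨w, hw⟩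
      have := hact k x
      rw [show act k x = x from Equiv.ext_iff.mp hk x, show Θ x = w from congrArg Subtype.val hx] at this
      calc w * k = k * w * (k : G)⁻¹ * k := by rw [← this]
        _ = _ := by group
    · intro hk
      refine Equiv.ext fun x => hΘinj ?_
      show Θ (act k x) = Θ x
      rw [hact, ← hk _ (hΘmem x), mul_inv_cancel_right]
  let β : Matrix.SpecialLinearGroup (Fin 2) L →* Equiv.Perm (Fin 2 → L) := MonoidHom.mk' (fun M =>
    { toFun := fun x => (M : Matrix (Fin 2) (Fin 2) L).mulVec x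
      invFun := fun x => ((M⁻¹ : Matrix.SpecialLinearGroup (Fin 2) L) : Matrix (Fin 2) (Fin 2) L).mulVec x
      left_inv := fun x => by
        simp only
        rw [Matrix.mulVec_mulVec, ← Matrix.SpecialLinearGroup.coe_mul, inv_mul_cancel,
          Matrix.SpecialLinearGroup.coe_one, Matrix.one_mulVec]
      right_inv := fun x => by
        simp only
        rw [Matrix.mulVec_mulVec, ← Matrix.SpecialLinearGroup.coe_mul, mul_inv_cancel,
          Matrix.SpecialLinearGroup.coe_one, Matrix.one_mulVec] })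
    (fun M N => Equiv.ext fun x => by
      show ((M * N : Matrix.SpecialLinearGroup (Fin 2) L) : Matrix (Fin 2) (Fin 2) L).mulVec x =
        (M : Matrix (Fin 2) (Fin 2) L).mulVec ((N : Matrix (Fin 2) (Fin 2) L).mulVec x)
      rw [Matrix.mulVec_mulVec, Matrix.SpecialLinearGroup.coe_mul])
  have hβinj : Function.Injective β := fun M N e => Subtype.ext (Matrix.ext fun i k => by
    have := congrFun (Equiv.ext_iff.mp e (Pi.single k 1)) i
    fin_cases i <;> fin_cases k <;> simpa [β] using this)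
  -- the action of `P` and of `R`
  have hαP : ∀ (p : P) (c : L), j p = ι c → ∀ hpH,
      α ⟨p, hpH⟩ = β (Matrix.SpecialLinearGroup.transvection one_ne_zero c) := by
    intro p c hpc hpH
    refine Equiv.ext fun x => hΘinj ?_
    show Θ (act _ x) = Θ _
    rw [hact]
    show (p : G) * (cA (x 0) * cV (x 1)) * (p : G)⁻¹ = _
    have e1 : ⁅cA (x 0), (p : G)⁆ = cV (c * x 0) := by
      have k := hεmul c (x 0)
      rw [← hpc] at k
      exact ((hjG p (Additive.toMul (ε (x 0))) (Additive.toMul (ε (c * x 0)))).mp k).symm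
    have e2 : (Matrix.SpecialLinearGroup.transvection (one_ne_zero : (1 : Fin 2) ≠ 0) c :
        Matrix (Fin 2) (Fin 2) L).mulVec x = ![x 0, x 1 + c * x 0] := by
      funext i
      fin_cases i <;>
        simp [Matrix.SpecialLinearGroup.transvection_coe, Matrix.add_mulVec, Matrix.mulVec_single] <;> rfl
    show _ = Θ ((Matrix.SpecialLinearGroup.transvection (one_ne_zero : (1 : Fin 2) ≠ 0) c :
        Matrix (Fin 2) (Fin 2) L).mulVec x)
    rw [e2, show (p : G) * (cA (x 0) * cV (x 1)) * (p : G)⁻¹ =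
      ((p : G) * cA (x 0) * (p : G)⁻¹) * ((p : G) * cV (x 1) * (p : G)⁻¹) by group,
      h.conjP (hcA _) p.2, h.fixP (hcV _) p.2, e1, mul_assoc, ← hcVadd, add_comm]
    rfl
  have hαR : ∀ (p : P) (r : G) (c : L), j p = ι c → c ≠ 0 → (∀ a ∈ A, ⁅⁅a, (p : G)⁆, r⁆ = a) → r ∈ R →
      ∀ hrH, α ⟨r, hrH⟩ = β (Matrix.SpecialLinearGroup.transvection zero_ne_one c⁻¹) := by
    intro p r c hpc hc0 hr hrR hrH
    refine Equiv.ext fun x => hΘinj ?_
    show Θ (act _ x) = Θ _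
    rw [hact]
    show r * (cA (x 0) * cV (x 1)) * r⁻¹ = _
    have e1 : ⁅cV (x 1), r⁆ = cA (c⁻¹ * x 1) := by
      have k := hεmul c (c⁻¹ * x 1)
      rw [← hpc, mul_inv_cancel_left₀ hc0] at k
      have k' : cV (x 1) = ⁅cA (c⁻¹ * x 1), (p : G)⁆ :=
        (hjG p (Additive.toMul (ε (c⁻¹ * x 1))) (Additive.toMul (ε (x 1)))).mp k
      rw [k']
      exact hr _ (hcA _)
    have e2 : (Matrix.SpecialLinearGroup.transvection (zero_ne_one : (0 : Fin 2) ≠ 1) c⁻¹ :
        Matrix (Fin 2) (Fin 2) L).mulVec x = ![x 0 + c⁻¹ * x 1, x 1] := by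
      funext i
      fin_cases i <;>
        simp [Matrix.SpecialLinearGroup.transvection_coe, Matrix.add_mulVec, Matrix.mulVec_single] <;> rfl
    show _ = Θ ((Matrix.SpecialLinearGroup.transvection (zero_ne_one : (0 : Fin 2) ≠ 1) c⁻¹ :
        Matrix (Fin 2) (Fin 2) L).mulVec x)
    rw [e2, show r * (cA (x 0) * cV (x 1)) * r⁻¹ = (r * cA (x 0) * r⁻¹) * (r * cV (x 1) * r⁻¹) by group,
      h.swap.fixP (hcA _) hrR, h.swap.conjP (hcV _) hrR, e1, ← h.AV _ (hcA _) _ (hcV _), ← mul_assoc, ← hcAadd]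
    rfl
  have hjp : ∀ p : P, ∃ c, j p = ι c := fun p => by
    obtain ⟨l, hl⟩ := (hS (j p)).mp ⟨p, rfl⟩
    exact ⟨l, hl.symm⟩
  have hjne : ∀ (p : P) (c : L), j p = ι c → (⁅a0, (p : G)⁆ ≠ 1 ↔ c ≠ 0) := fun p c hpc => by
    constructor
    · intro hne hc0
      rw [hc0, map_zero] at hpc
      refine hne ?_
      have := (hjG p ⟨a0, ha0⟩ 1).mp (by rw [hpc]; rfl)
      rw [← this]; simp [commutatorElement_def]
    · intro hc0 e
      exact hc0 (hι (((hpc.symm.trans (hjz p e))).trans (map_zero ι).symm))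
  have hrange : α.range = β.range := by
    refine le_antisymm ?_ ?_
    · have hgen : ∀ k, ∀ hk : k ∈ P ⊔ R, α ⟨k, hk⟩ ∈ β.range := by
        intro k hk
        have hk' : k ∈ closure ((P : Set G) ∪ R) := by rwa [← Subgroup.sup_eq_closure]
        induction hk' using closure_induction with
        | mem x hx =>
          rcases hx with hx | hx
          · obtain ⟨c, hc'⟩ := hjp ⟨x, hx⟩
            exact ⟨_, (hαP ⟨x, hx⟩ c hc' hk).symm⟩
          · by_cases hr1 : ∀ v ∈ V, ⁅v, x⁆ = 1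
            · refine ⟨1, ?_⟩
              rw [map_one]
              symm
              rw [← MonoidHom.mem_ker, hαker, Subgroup.mem_subgroupOf, Subgroup.mem_centralizer_iff]
              intro w hw
              obtain ⟨a, ha, v, hv, rfl⟩ := h.mem_W.mp hw
              have e1 : Commute v x := commutatorElement_eq_one_iff_mul_comm.mp (hr1 v hv)
              have e2 : Commute a x := (h.RA x hx a ha).symm
              exact e2.mul_left e1
            push Not at hr1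
            obtain ⟨v, hv, hvr⟩ := hr1
            obtain ⟨p, hp, hpi⟩ := h.swap.exists_inverse hv hvr hx
            have hr : ∀ a ∈ A, ⁅⁅a, p⁆, x⁆ = a := fun a ha => by
              obtain ⟨b, hb, hbe⟩ : ∃ b ∈ V, ⁅b, x⁆ = a := by
                let f : V → A := fun b => ⟨⁅(b : G), x⁆, h.RV b b.2 x hx⟩
                have hf : Function.Injective f := fun b b' e => by
                  by_contra hbb
                  have e' : ⁅(b : G), x⁆ = ⁅(b' : G), x⁆ := congrArg Subtype.val e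
                  have hc' : (b : G)⁻¹ * b' ∈ V := V.mul_mem (V.inv_mem b.2) b'.2
                  have e2 := h.swap.comm_mulA b.2 hc' hx
                  rw [mul_inv_cancel_left, ← e'] at e2
                  exact hvr (h.swap.comm_eq_one hc' hx (mul_eq_left.mp e2.symm)
                    (fun h' => hbb (Subtype.ext (inv_mul_eq_one.mp h'))) hv)
                obtain ⟨b, hb⟩ := (hf.bijective_of_nat_card_le (le_of_eq h.card_eq)).2 ⟨a, ha⟩
                exact ⟨b, b.2, congrArg Subtype.val hb⟩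
              rw [← hbe, hpi b hb]
            obtain ⟨c, hc'⟩ := hjp ⟨p, hp⟩
            have hc0 : c ≠ 0 := (hjne ⟨p, hp⟩ c hc').mp fun e => ha01 (by
              have := hr a0 ha0
              rw [e] at this
              rw [← this, commutatorElement_def]; group)
            exact ⟨_, (hαR ⟨p, hp⟩ x c hc' hc0 hr hx hk).symm⟩
        | one => exact ⟨1, (map_one β).trans (map_one α).symm⟩
        | mul x y hx hy ihx ihy =>
          rw [← Subgroup.sup_eq_closure] at hx hy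
          obtain ⟨M, hM⟩ := ihx hx
          obtain ⟨N, hN'⟩ := ihy hy
          exact ⟨M * N, by rw [map_mul, hM, hN', ← map_mul]; rfl⟩
        | inv x hx ihx =>
          rw [← Subgroup.sup_eq_closure] at hx
          obtain ⟨M, hM⟩ := ihx hx
          exact ⟨M⁻¹, by rw [map_inv, hM, ← map_inv]; rfl⟩
      rintro _ ⟨⟨k, hk⟩, rfl⟩
      exact hgen k hk
    · rintro _ ⟨M, rfl⟩
      refine Matrix.SL2.transvection_induction (fun M => β M ∈ α.range) (fun i k hik c => ?_)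
        (fun M N hM hN' => by rw [map_mul]; exact mul_mem hM hN') M
      fin_cases i <;> fin_cases k
      · exact absurd rfl hik
      · by_cases hc0 : c = 0
        · subst hc0
          rw [Matrix.SpecialLinearGroup.transvection_coeff_zero, map_one]
          exact one_mem _
        obtain ⟨p, hp⟩ := hιJ c⁻¹
        have hne := (hjne p c⁻¹ hp).mpr (inv_ne_zero hc0)
        obtain ⟨r, hr, hri⟩ := h.exists_inverse ha0 hne p.2
        exact ⟨⟨r, mem_sup_right hr⟩, by rw [hαR p r c⁻¹ hp (inv_ne_zero hc0) hri hr, inv_inv]⟩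
      · obtain ⟨p, hp⟩ := hιJ c
        exact ⟨⟨p, mem_sup_left p.2⟩, hαP p c hp _⟩
      · exact absurd rfl hik
  -- back to a field in the lowest universe
  let F : Type := Shrink.{0, u} L
  let eF : F ≃ L := (equivShrink.{0} L).symm
  let iF : Field F := inferInstanceAs (Field (Shrink.{0, u} L))
  let iT : Fintype F := Fintype.ofEquiv L eF.symm
  let σ : L ≃+* F := (Shrink.ringEquiv.{0} L).symm
  let βe := MonoidHom.ofInjective hβinj
  let f0 : ↥(P ⊔ R) →* Matrix.SpecialLinearGroup (Fin 2) L :=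
    βe.symm.toMonoidHom.comp (α.codRestrict β.range (fun k => hrange ▸ ⟨k, rfl⟩))
  have hf0 : ∀ k, β (f0 k) = α k := fun k => congrArg Subtype.val (βe.apply_symm_apply _)
  let f : ↥(P ⊔ R) →* Matrix.SpecialLinearGroup (Fin 2) F :=
    (Matrix.SpecialLinearGroup.map (σ : L →+* F)).comp f0
  refine ⟨F, iF, iT, f, ?_, ?_, ?_⟩
  · rw [Fintype.card_congr eF, ← Nat.card_eq_fintype_card, Nat.card_eq_of_bijective ε ⟨hεinj, hεsurj⟩,
      ← h.card_eq]
    exact Nat.card_congr Additive.toMul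
  · intro M
    obtain ⟨k, hk⟩ : ∃ k, α k = β (Matrix.SpecialLinearGroup.map (σ.symm : F →+* L) M) :=
      (hrange ▸ ⟨_, rfl⟩ : β (Matrix.SpecialLinearGroup.map (σ.symm : F →+* L) M) ∈ α.range)
    refine ⟨k, ?_⟩
    show Matrix.SpecialLinearGroup.map (σ : L →+* F) (f0 k) = M
    rw [hβinj ((hf0 k).trans hk)]
    exact Subtype.ext (Matrix.ext fun i k => σ.apply_symm_apply _)
  · rw [← hαker]
    ext k
    rw [MonoidHom.mem_ker, MonoidHom.mem_ker]
    constructor
    · intro hk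
      rw [← hf0]
      have : f0 k = 1 := Subtype.ext (Matrix.ext fun i i' => σ.injective (by
        have := congrArg (fun M : Matrix.SpecialLinearGroup (Fin 2) F => M.1 i i') hk
        refine this.trans ?_
        simp [Matrix.one_apply, apply_ite σ]))
      rw [this, map_one]
    · intro hk
      have : f0 k = 1 := hβinj (by rw [hf0, hk, map_one])
      show Matrix.SpecialLinearGroup.map (σ : L →+* F) (f0 k) = 1
      rw [this, map_one]

end Pair

end Cfsg.Agent.TISpread23
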