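import Cfsg.Agent.Lib.TISpreadRadical23
import Cfsg.Agent.Lib.TISpreadPair23
import Cfsg.Agent.Lib.ComponentsFitting

/-!
Trivial intersection subgroup with a conjugate in the radical: assembly.
-/

set_option autoImplicit false

open Subgroup
open scoped commutatorElement

namespace Cfsg.Agent.TISpread23

universe u

variable {G : Type u} [Group G] [Finite G] {V Q : Subgroup G} {g : G}

theorem setup_of_hyp (V : Subgroup G)
    (hV : Cfsg.IsElementaryAbelian 2 V)
    (h1 : (Cfsg.generalizedFittingSubgroup ↥(Subgroup.normalizer (V : Set G))).map (Subgroup.normalizer (V : Set G)).subtype =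
      (Cfsg.pCore 2 ↥(Subgroup.normalizer (V : Set G))).map (Subgroup.normalizer (V : Set G)).subtype)
    (h2 : ∀ A : Subgroup G, V ≤ A → A ≤ Subgroup.normalizer (V : Set G) → IsMulCommutative ↥A →
      (∀ m ∈ Subgroup.normalizer (V : Set G), ∀ a ∈ A, m * a * m⁻¹ ∈ A) → A = V)
    (hti : ∀ x : G, V.map (MulAut.conj x).toMonoidHom = V ∨ V.map (MulAut.conj x).toMonoidHom ⊓ V = ⊥) :
    Setup V ((Cfsg.pCore 2 ↥(Subgroup.normalizer (V : Set G))).map (Subgroup.normalizer (V : Set G)).subtype) := by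
  haveI : Fact (Nat.Prime 2) := ⟨Nat.prime_two⟩
  set M := Subgroup.normalizer (V : Set G) with hM
  have hcore : ∀ N : Subgroup G, N ≤ M → (∀ m ∈ M, ∀ x ∈ N, m * x * m⁻¹ ∈ N) → IsPGroup 2 N →
      N ≤ (Cfsg.pCore 2 M).map M.subtype := by
    intro N hN hn h2N
    haveI : (N.subgroupOf M).Normal := ⟨fun x hx m => hn m m.2 x hx⟩
    have := ComponentsCores.le_pCore' (p := 2) (N := N.subgroupOf M) (h2N.of_equiv (subgroupOfEquivOfLe hN).symm)
    intro x hx
    exact ⟨⟨x, hN hx⟩, this hx, rfl⟩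
  have hcomm : ∀ a ∈ V, ∀ b ∈ V, a * b = b * a := fun a ha b hb =>
    PGroupsBasic.comm_of_isMulCommutative hV.1 ha hb
  refine
    { comm := hcomm
      sq := fun a ha => by rw [← pow_two]; exact hV.2 a ha
      V_le := hcore V Subgroup.le_normalizer
        (fun m hm x hx => (Subgroup.mem_normalizer_iff.mp hm x).mp hx)
        (PGroupsBasic.isPGroup_of_isElementaryAbelian hV)
      Q_le := map_subtype_le _
      two := (ComponentsCores.isPGroup_pCore 2).map _
      nor := ?_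
      cent := ?_
      core := hcore
      max := fun A hA hAN hc hn => h2 A hA hAN (PGroupsBasic.isMulCommutative_of_forall hc) hn
      ti := ?_ }
  · rintro m hm _ ⟨x, hx, rfl⟩
    exact ⟨⟨m, hm⟩ * x * (⟨m, hm⟩ : M)⁻¹, Subgroup.Normal.conj_mem inferInstance x hx _, rfl⟩
  · intro m hm hc
    have hX : Cfsg.generalizedFittingSubgroup M = Cfsg.pCore 2 M :=
      Subgroup.map_injective M.subtype_injective h1
    refine ⟨⟨m, hm⟩, ?_, rfl⟩
    rw [← hX]
    refine ComponentsFitting.centralizer_gen_le (Subgroup.mem_centralizer_iff.mpr fun y hy => Subtype.ext ?_)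
    exact (hc y ⟨y, hX ▸ hy, rfl⟩).symm
  · intro x a ha ha1 hx
    rcases hti x with e | e
    · exact mem_normalizer_of_cj_eq e
    · exfalso
      have : x * a * x⁻¹ ∈ V.map (MulAut.conj x).toMonoidHom ⊓ V := ⟨conj_mem_cj x ha, hx⟩
      rw [e, Subgroup.mem_bot] at this
      exact ha1 (conj_eq_one_iff.mp this)

namespace Setup

omit [Finite G] in
theorem cj_inv_g : cj g⁻¹ (cj g V) = V := by rw [cj_cj, inv_mul_cancel, cj_one]

theorem pair (h : Setup V Q) (hA : cj g V ≤ Q) (hne : cj g V ≠ V) :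
    Pair (cj g V) V (Pc V Q) (cj g (Pc V Q)) := by
  have hVA := h.V_le_radical hA hne
  have h' := h.conj g
  have hA' : cj g⁻¹ (cj g V) ≤ cj g Q := by rw [cj_inv_g]; exact hVA
  have hne' : cj g⁻¹ (cj g V) ≠ cj g V := by rw [cj_inv_g]; exact hne.symm
  have hVR : V ≤ Pc (cj g V) (cj g Q) := by
    have := h'.le_Pc hA'
    rwa [cj_inv_g] at this
  have hAP := h.le_Pc hA
  obtain ⟨v0, hv0, hv01⟩ := h.exists_ne hne
  exact
    { g := ⟨g, rfl⟩
      ti := fun x y u hx hy h1 => h.cj_eq_of_mem hx hy h1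
      commA := h'.comm
      sqA := h'.sq
      commV := h.comm
      sqV := h.sq
      AV := fun a ha v hv => ((mem_Pc.mp (hAP ha)).2 v hv).symm
      disj := fun a ha hv => h.disjoint_cj hne ha hv
      neA := ⟨g * v0 * g⁻¹, conj_mem_cj g hv0, fun e => hv01 (conj_eq_one_iff.mp e)⟩
      PV := fun p hp v hv => ((mem_Pc.mp hp).2 v hv).symm
      RA := fun r hr a ha => by
        rw [cj_Pc] at hr
        exact ((mem_Pc.mp hr).2 a ha).symm
      PA := fun a ha p hp => h.comm_mem (hAP ha) hp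
      RV := fun v hv r hr => by
        rw [cj_Pc] at hr
        exact h'.comm_mem (hVR hv) hr
      ontoP := fun a ha h1 v hv => by
        obtain ⟨p, hp, e, -⟩ := h.exists_conj_eq hA hne ha h1 hv
        exact ⟨p, hp, e⟩
      ontoR := fun v hv h1 a ha => by
        obtain ⟨r, hr, e, -⟩ := h'.exists_conj_eq hA' hne' (a := v) (by rw [cj_inv_g]; exact hv) h1 ha
        exact ⟨r, by rw [cj_Pc]; exact hr, e⟩ }

theorem Pc_eq (h : Setup V Q) (hA : cj g V ≤ Q) (hne : cj g V ≠ V) : Pc V Q = Q := by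
  haveI : Fact (Nat.Prime 2) := ⟨Nat.prime_two⟩
  have hp := h.pair hA hne
  obtain ⟨a, ha, ha1⟩ := hp.neA
  obtain ⟨v0, hv0, hv01⟩ := h.exists_ne hne
  haveI : (V.subgroupOf Q).Normal := ⟨fun x hx q => (Subgroup.mem_normalizer_iff.mp (h.Q_le q.2) _).mp hx⟩
  have hne0 : V.subgroupOf Q ≠ ⊥ := fun e => hv01 (by
    have : (⟨v0, h.V_le hv0⟩ : Q) ∈ V.subgroupOf Q := hv0
    rw [e, Subgroup.mem_bot] at this
    exact congrArg Subtype.val this)
  obtain ⟨⟨z, hz, hzc⟩, hz1⟩ : ∃ z : (V.subgroupOf Q ⊓ center Q : Subgroup Q), z ≠ 1 := by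
    haveI := (Subgroup.nontrivial_iff_ne_bot _).mpr (PGroupsBasic.inf_center_ne_bot h.two hne0)
    exact _root_.exists_ne 1
  have hzV : (z : G) ∈ V := hz
  have hz1' : (z : G) ≠ 1 := fun e => hz1 (Subtype.ext (Subtype.ext e))
  refine inf_eq_left.mpr fun q hq => Subgroup.mem_centralizer_iff.mpr fun v hv => ?_
  by_cases hv1 : v = 1
  · simp [hv1]
  obtain ⟨x1, hx1⟩ := hp.exists_conj hzV hz1' ha ha1
  obtain ⟨x2, hx2⟩ := hp.exists_conj hv hv1 ha ha1
  have hm : (x2⁻¹ * x1) * (z : G) * (x2⁻¹ * x1)⁻¹ = v := by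
    calc (x2⁻¹ * x1) * (z : G) * (x2⁻¹ * x1)⁻¹ = x2⁻¹ * (x1 * z * x1⁻¹) * x2 := by group
      _ = x2⁻¹ * (x2 * v * x2⁻¹) * x2 := by rw [hx1, hx2]
      _ = v := by group
  set m := x2⁻¹ * x1
  have hmN := h.ti m _ hzV hz1' (hm.symm ▸ hv)
  have hq' : m⁻¹ * q * m ∈ Q := by simpa using h.nor _ (inv_mem hmN) q hq
  have := congrArg Subtype.val (Subgroup.mem_center_iff.mp hzc ⟨_, hq'⟩)
  simp only [Subgroup.coe_mul] at this
  rw [← hm]
  calc m * (z : G) * m⁻¹ * q = m * ((z : G) * (m⁻¹ * q * m)) * m⁻¹ := by group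
    _ = m * ((m⁻¹ * q * m) * (z : G)) * m⁻¹ := by rw [this]
    _ = _ := by group

theorem center_eq (h : Setup V Q) (hA : cj g V ≤ Q) (hne : cj g V ≠ V) :
    (Subgroup.center Q).map Q.subtype = V := by
  have hP := h.Pc_eq hA hne
  refine le_antisymm ?_ fun v hv => ⟨⟨v, h.V_le hv⟩, ?_, rfl⟩
  · rintro _ ⟨x, hx, rfl⟩
    refine h.center_Pc (hP.symm ▸ x.2) fun y hy => ?_
    exact (congrArg Subtype.val (Subgroup.mem_center_iff.mp hx ⟨y, hP ▸ hy⟩)).symm
  · refine Subgroup.mem_center_iff.mpr fun q => Subtype.ext ?_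
    exact ((mem_Pc.mp (hP.symm ▸ q.2 : (q : G) ∈ Pc V Q)).2 v hv).symm

theorem commutator_eq (h : Setup V Q) (hA : cj g V ≤ Q) (hne : cj g V ≠ V) :
    (commutator Q).map Q.subtype = V := by
  have hP := h.Pc_eq hA hne
  rw [Subgroup.map_subtype_commutator]
  refine le_antisymm (commutator_le.mpr fun a ha b hb => h.comm_mem (hP.symm ▸ ha) (hP.symm ▸ hb))
    fun v hv => ?_
  obtain ⟨a, ha, ha1⟩ := (h.pair hA hne).neA
  obtain ⟨p, hp, e⟩ := (h.pair hA hne).ontoP a ha ha1 v hv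
  rw [← e]
  exact commutator_mem_commutator (hA ha) (hP ▸ hp)

theorem frattini_eq (h : Setup V Q) (hA : cj g V ≤ Q) (hne : cj g V ≠ V) :
    (frattini Q).map Q.subtype = V := by
  haveI : Fact (Nat.Prime 2) := ⟨Nat.prime_two⟩
  have hP := h.Pc_eq hA hne
  have hc := h.commutator_eq hA hne
  refine le_antisymm ?_ (hc ▸ Subgroup.map_mono (PGroupsBasic.commutator_le_frattini h.two))
  haveI : (V.subgroupOf Q).Normal := ⟨fun x hx q => (Subgroup.mem_normalizer_iff.mp (h.Q_le q.2) _).mp hx⟩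
  have hle : frattini Q ≤ V.subgroupOf Q := PGroupsBasic.frattini_le_of_elementary_quotient (p := 2)
    (fun x hx => hc ▸ (⟨x, hx, rfl⟩ : (x : G) ∈ (commutator Q).map Q.subtype))
    (fun x => by
      show ((x ^ 2 : Q) : G) ∈ V
      rw [pow_two, Subgroup.coe_mul]
      exact h.sq_mem (hP.symm ▸ x.2))
  rintro _ ⟨x, hx, rfl⟩
  exact hle hx

end Setup

end Cfsg.Agent.TISpread23
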