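import Cfsg.Agent.Lib.TISpreadBasic23

/-!
Trivial intersection subgroup with a conjugate in the radical: `V` lies in the radical of the conjugate.
-/

set_option autoImplicit false

open Subgroup
open scoped commutatorElement

namespace Cfsg.Agent.TISpread23

variable {G : Type*} [Group G] [Finite G] {V Q : Subgroup G} {g : G}

namespace Setup

omit [Finite G] in
theorem cj_Q_eq (h : Setup V Q) {x y : G} (e : cj x V = cj y V) : cj x Q = cj y Q := by
  have hn : y⁻¹ * x ∈ normalizer (V : Set G) := mem_normalizer_of_cj_eq (by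
    rw [← cj_cj, e, cj_cj, inv_mul_cancel, cj_one])
  have hq : cj (y⁻¹ * x) Q = Q := by
    refine le_antisymm ?_ fun z hz => ?_
    · rintro _ ⟨z, hz, rfl⟩
      exact h.nor _ hn z hz
    · rw [mem_cj]
      have := h.nor _ (inv_mem hn) z hz
      rwa [inv_inv] at this
  rw [show x = y * (y⁻¹ * x) by group, ← cj_cj, hq]

omit [Finite G] in
theorem mem_normalizer_V (h : Setup V Q) {x v : G} (hv : v ∈ V) (h1 : v ≠ 1) (hx : x * v = v * x) :
    x ∈ normalizer (V : Set G) :=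
  h.ti x v hv h1 (by rwa [hx, mul_inv_cancel_right])

/-- the mixed commutator -/
theorem mixed (h : Setup V Q) (hA : cj g V ≤ Q) (hne : cj g V ≠ V) {y v : G}
    (hy : y ∈ normalizer (cj g V : Set G)) (hv : v ∈ V) (ha : ⁅v, y⁆ ∈ cj g V) (h1 : ⁅v, y⁆ ≠ 1) :
    V ≤ cj g Q := by
  have hAP := h.le_Pc hA
  set a := ⁅v, y⁆ with haa
  have hv1 : v ≠ 1 := fun e => h1 (by rw [haa, e, commutatorElement_def]; group)
  obtain ⟨p, hp, hap, hpa⟩ := h.exists_conj_eq hA hne ha h1 hv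
  have hyv : y * v * y⁻¹ = v * a := by
    rw [haa, commutatorElement_def, h.inv_eq hv]
    calc y * v * y⁻¹ = (v * v) * (y * v * y⁻¹) := by rw [h.sq v hv, one_mul]
      _ = _ := by group
  have hva : v * a ≠ 1 := fun e => h1 (h.disjoint_cj hne ha (by
    rw [← inv_eq_of_mul_eq_one_right e]; exact V.inv_mem hv))
  have hYV : cj y V = cj (p * g) V := h.cj_eq_of_mem (hyv ▸ conj_mem_cj y hv)
    (by rw [← hpa, ← cj_cj]; exact conj_mem_cj p ha) hva
  have hQ : cj y Q = cj p (cj g Q) := by rw [cj_cj]; exact h.cj_Q_eq hYV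
  have hAQ : cj p⁻¹ (cj g V) ≤ cj g Q := by
    have h1' : cj y (cj g V) ≤ cj y Q := Subgroup.map_mono hA
    rw [cj_eq_self hy, hQ] at h1'
    intro z hz
    rw [mem_cj, inv_inv] at hz
    have := mem_cj.mp (h1' hz)
    simpa [mul_assoc] using this
  have hpp : cj (p * p) (cj g V) = cj g V := cj_eq_self (h.mem_normalizer_of_comm ha h1
    ((mem_Pc.mp (hAP ha)).2 _ (h.sq_mem hp)))
  have hAQ' : cj p (cj g V) ≤ cj g Q := by
    rw [show p = p⁻¹ * (p * p) by group, ← cj_cj, hpp]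
    exact hAQ
  have hAA : cj g V ≤ cj g Q := Subgroup.map_mono h.V_le
  intro v' hv'
  have hA1 : cj g V ≤ Pc V Q := hAP
  let f : cj g V → V := fun b => ⟨⁅(b : G), p⁆, h.comm_mem (hA1 b.2) hp⟩
  have hf : Function.Injective f := fun b b' e => by
    by_contra hbb
    have e' : ⁅(b : G), p⁆ = ⁅(b' : G), p⁆ := congrArg Subtype.val e
    set c := (b : G)⁻¹ * b'
    have hc : c ∈ cj g V := (cj g V).mul_mem ((cj g V).inv_mem b.2) b'.2
    have e2 := h.mul_comm_left (hA1 b.2) (hA1 hc) hp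
    rw [mul_inv_cancel_left, ← e'] at e2
    have hcp : c * p = p * c := commutatorElement_eq_one_iff_mul_comm.mp (mul_eq_left.mp e2.symm)
    have := h.comm_all hA hne hc (fun h' => hbb (Subtype.ext (inv_mul_eq_one.mp h'))) hp hcp ha
    exact hv1 (by rw [← hap]; exact commutatorElement_eq_one_iff_mul_comm.mpr this)
  obtain ⟨b, hb⟩ := (hf.bijective_of_nat_card_le (le_of_eq (card_cj g V).symm)).2 ⟨v', hv'⟩
  rw [← show ⁅(b : G), p⁆ = v' from congrArg Subtype.val hb, commutatorElement_def,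
    show (b : G) * p * (b : G)⁻¹ * p⁻¹ = b * (p * (b : G)⁻¹ * p⁻¹) by group]
  exact (cj g Q).mul_mem (hAA b.2) (hAQ' (conj_mem_cj p ((cj g V).inv_mem b.2)))

/-- elements of `P` commuting with `A` and with `C_P(A)` -/
theorem mem_prod (h : Setup V Q) (hA : cj g V ≤ Q) (hne : cj g V ≠ V) {z : G} (hz : z ∈ Pc V Q)
    (hzA : ∀ a ∈ cj g V, z * a = a * z)
    (hzD : ∀ p ∈ Pc V Q, (∀ a ∈ cj g V, p * a = a * p) → z * p = p * z) :
    ∃ a ∈ cj g V, ∃ v ∈ V, z = a * v := by
  obtain ⟨m, hm, hAB⟩ := h.exists_partner hA hne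
  have hB := h.partner_le hA hm
  obtain ⟨v0, hv0, hv01⟩ := h.exists_ne hne
  have hb0 : (m * g) * v0 * (m * g)⁻¹ ∈ cj (m * g) V := conj_mem_cj _ hv0
  have hb1 : (m * g) * v0 * (m * g)⁻¹ ≠ 1 := fun e => hv01 (conj_eq_one_iff.mp e)
  have ha0 : g * v0 * g⁻¹ ∈ cj g V := conj_mem_cj _ hv0
  have ha1 : g * v0 * g⁻¹ ≠ 1 := fun e => hv01 (conj_eq_one_iff.mp e)
  have hBne : cj (m * g) V ≠ V := fun e => by
    have := congrArg (cj m⁻¹) e
    rw [cj_cj, ← mul_assoc, inv_mul_cancel, one_mul, cj_eq_self (inv_mem hm)] at this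
    exact hne this
  have hAP := h.le_Pc hA
  have hBP := h.le_Pc hB
  set b0 := (m * g) * v0 * (m * g)⁻¹
  set a0 := g * v0 * g⁻¹
  obtain ⟨a, ha, hae⟩ := h.exists_comm_eq hB hA (fun b hb hb' a ha ha' e => hAB a ha ha' b hb hb' e.symm)
    hb0 hb1 (h.comm_mem (hBP hb0) hz)
  refine ⟨a, ha, a⁻¹ * z, ?_, by group⟩
  set d := a⁻¹ * z with hd
  have hdP : d ∈ Pc V Q := (Pc V Q).mul_mem ((Pc V Q).inv_mem (hAP ha)) hz
  have hd0 : b0 * d = d * b0 := by
    have e := h.mul_comm_right (hBP hb0) (hAP ha) hdP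
    rw [hd, mul_inv_cancel_left, ← hd, hae] at e
    exact commutatorElement_eq_one_iff_mul_comm.mp (mul_eq_left.mp e.symm)
  have hdA : ∀ a' ∈ cj g V, a' * d = d * a' := fun a' ha' => by
    have e1 : Commute a' a := (h.conj g).comm a' ha' a ha
    have e2 : Commute a' z := (hzA a' ha').symm
    exact e1.inv_right.mul_right e2
  refine h.center_Pc hdP fun p hp => ?_
  obtain ⟨b, hb, hbe⟩ := h.exists_comm_eq hA hB hAB ha0 ha1 (h.comm_mem (hAP ha0) hp)
  have hq : b⁻¹ * p ∈ Pc V Q := (Pc V Q).mul_mem ((Pc V Q).inv_mem (hBP hb)) hp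
  have hqA : ∀ a' ∈ cj g V, (b⁻¹ * p) * a' = a' * (b⁻¹ * p) := fun a' ha' => by
    refine (h.comm_all hA hne ha0 ha1 hq ?_ ha').symm
    have e := h.mul_comm_right (hAP ha0) (hBP hb) hq
    rw [mul_inv_cancel_left, hbe] at e
    exact commutatorElement_eq_one_iff_mul_comm.mp (mul_eq_left.mp e.symm)
  have hqa : Commute (b⁻¹ * p) a := hqA a ha
  have hqz : Commute z (b⁻¹ * p) := hzD _ hq hqA
  have hqd : Commute d (b⁻¹ * p) := hqa.symm.inv_left.mul_left hqz
  have hbd : Commute d b := (h.comm_all hB hBne hb0 hb1 hdP hd0 hb).symm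
  rw [show p = b * (b⁻¹ * p) by group]
  exact hbd.mul_right hqd

/-- part (a) -/
theorem V_le_radical (h : Setup V Q) (hA : cj g V ≤ Q) (hne : cj g V ≠ V) : V ≤ cj g Q := by
  by_contra hVQ
  have h' := h.conj g
  have hAP := h.le_Pc hA
  obtain ⟨v0, hv0, hv01⟩ := h.exists_ne hne
  have ha0 : g * v0 * g⁻¹ ∈ cj g V := conj_mem_cj _ hv0
  have ha01 : g * v0 * g⁻¹ ≠ 1 := fun e => hv01 (conj_eq_one_iff.mp e)
  have hVN : ∀ v ∈ V, v ∈ normalizer (cj g V : Set G) := fun v hv =>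
    h.mem_normalizer_of_comm ha0 ha01 ((mem_Pc.mp (hAP ha0)).2 v hv)
  have hVA : ∀ v ∈ V, ∀ a ∈ cj g V, v * a = a * v := fun v hv a ha => (mem_Pc.mp (hAP ha)).2 v hv
  have hmix : ∀ {y v : G}, y ∈ normalizer (cj g V : Set G) → v ∈ V → ⁅v, y⁆ ∈ cj g V → ⁅v, y⁆ = 1 :=
    fun hy hv ha => by_contra fun h1 => hVQ (h.mixed hA hne hy hv ha h1)
  set A := cj g V with hAdef
  set R := Pc (cj g V) (cj g Q) with hRdef
  have hRN : ∀ {y}, y ∈ R → y ∈ normalizer (A : Set G) := fun hy => h'.Pc_le hy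
  have hRA : ∀ {y}, y ∈ R → ∀ a ∈ A, a * y = y * a := fun hy => (mem_Pc.mp hy).2
  have hAR : A ≤ R := h'.V_le_Pc
  have hVR : ∀ v ∈ V, v ∈ cj g Q → v = 1 := by
    intro v hv hvQ
    by_contra h1
    have hvR : v ∈ R := mem_Pc.mpr ⟨hvQ, fun a ha => (hVA v hv a ha).symm⟩
    have hvA : v ∈ A := h'.center_Pc hvR fun y hy => commutatorElement_eq_one_iff_mul_comm.mp
      (hmix (hRN hy) hv (h'.comm_mem hvR hy))
    exact h1 (h.disjoint_cj hne hvA hv)
  have hR0 : ∀ {r}, r ∈ R → r ∈ normalizer (V : Set G) → ∀ v ∈ V, v * r = r * v := by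
    intro r hr hrM v hv
    refine commutatorElement_eq_one_iff_mul_comm.mp (hVR _ ?_ ?_)
    · rw [commutatorElement_def, show v * r * v⁻¹ * r⁻¹ = v * (r * v⁻¹ * r⁻¹) by group]
      exact V.mul_mem hv ((Subgroup.mem_normalizer_iff.mp hrM _).mp (V.inv_mem hv))
    · rw [commutatorElement_def]
      exact (mem_Pc.mp (R.mul_mem (h'.Pc_nor (hVN v hv) hr) (R.inv_mem hr))).1
  have hR0' : ∀ {r v}, r ∈ R → v ∈ V → v ≠ 1 → ⁅v, r⁆ ∈ A → r ∈ normalizer (V : Set G) := fun hr hv h1 ha =>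
    h.mem_normalizer_V hv h1 (commutatorElement_eq_one_iff_mul_comm.mp (hmix (hRN hr) hv ha)).symm
  have hA0 : A ≤ normalizer (V : Set G) := hA.trans h.Q_le
  -- an element outside `N(V)` with commutators inside
  have hexy : ∃ y, y ∈ R ∧ y ∉ normalizer (V : Set G) ∧ ∀ v ∈ V, ⁅v, y⁆ ∈ normalizer (V : Set G) := by
    classical
    suffices hs : ∀ s : Finset G, (∀ v ∈ s, v ∈ V) →
        ∃ y, y ∈ R ∧ y ∉ normalizer (V : Set G) ∧ ∀ v ∈ s, ⁅v, y⁆ ∈ normalizer (V : Set G) by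
      obtain ⟨y, h1, h2, h3⟩ := hs (Set.toFinite (V : Set G)).toFinset (fun v hv => by simpa using hv)
      exact ⟨y, h1, h2, fun v hv => h3 v (by simpa using hv)⟩
    intro s
    induction s using Finset.induction with
    | empty =>
      intro _
      by_contra hcon
      push Not at hcon
      refine hv01 (h.disjoint_cj hne (h'.centralizer_Pc (hVN v0 hv0) fun y hy => ?_) hv0)
      obtain hy' : y ∈ normalizer (V : Set G) := by
        by_contra hy'
        obtain ⟨v, hv, -⟩ := hcon y hy hy'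
        simp at hv
      exact hR0 hy hy' v0 hv0
    | insert v s hvs ih =>
      intro hs
      obtain ⟨y, hy, hyV, hys⟩ := ih fun w hw => hs w (Finset.mem_insert_of_mem hw)
      have hv : v ∈ V := hs v (Finset.mem_insert_self v s)
      set c := ⁅v, y⁆ with hc
      have hcR : c ∈ R := by
        rw [hc, commutatorElement_def]; exact R.mul_mem (h'.Pc_nor (hVN v hv) hy) (R.inv_mem hy)
      by_cases hcV : c ∈ normalizer (V : Set G)
      · exact ⟨y, hy, hyV, fun w hw => (Finset.mem_insert.mp hw).elim (fun e => e ▸ hcV) (hys w)⟩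
      refine ⟨c, hcR, hcV, fun w hw => ?_⟩
      rcases Finset.mem_insert.mp hw with rfl | hw
      · have hci : c⁻¹ = w * c * w⁻¹ := by
          rw [hc, commutatorElement_def, h.inv_eq hv]
          calc (w * y * w * y⁻¹)⁻¹ = y * w⁻¹ * y⁻¹ * w⁻¹ := by group
            _ = 1 * (y * w * y⁻¹ * w) := by rw [h.inv_eq hv, one_mul]
            _ = (w * w) * (y * w * y⁻¹ * w) := by rw [h.sq w hv]
            _ = _ := by group
        have e : ⁅w, c⁆ = (c * c)⁻¹ := by
          rw [commutatorElement_def, ← hci, mul_inv_rev]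
        rw [e]
        exact hA0 (A.inv_mem (h'.sq_mem hcR))
      · have hwV : w ∈ V := hs w (Finset.mem_insert_of_mem hw)
        set e := ⁅w, y⁆ with he
        have heR : e ∈ R := by
          rw [he, commutatorElement_def]; exact R.mul_mem (h'.Pc_nor (hVN w hwV) hy) (R.inv_mem hy)
        have hev : Commute v e := hR0 heR (hys w hw) v hv
        have hwv : Commute w v := h.comm w hwV v hv
        have e1 : w * c * w⁻¹ = e * c * e⁻¹ := by
          have ey : w * y * w⁻¹ = e * y := by rw [he, commutatorElement_def]; group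
          calc w * c * w⁻¹ = (w * v) * y * (w * v)⁻¹ * (w * y * w⁻¹)⁻¹ := by
                rw [hc, commutatorElement_def]
                calc w * (v * y * v⁻¹ * y⁻¹) * w⁻¹ = w * v * y * (v⁻¹ * w⁻¹) * (w * y * w⁻¹)⁻¹ := by group
                  _ = w * v * y * (w * v)⁻¹ * (w * y * w⁻¹)⁻¹ := by rw [mul_inv_rev w v]
            _ = (v * w) * y * (v * w)⁻¹ * (w * y * w⁻¹)⁻¹ := by rw [hwv.eq]
            _ = v * (w * y * w⁻¹) * v⁻¹ * (w * y * w⁻¹)⁻¹ := by group
            _ = v * (e * y) * v⁻¹ * (e * y)⁻¹ := by rw [ey]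
            _ = (v * e) * y * v⁻¹ * y⁻¹ * e⁻¹ := by group
            _ = (e * v) * y * v⁻¹ * y⁻¹ * e⁻¹ := by rw [hev.eq]
            _ = e * c * e⁻¹ := by rw [hc, commutatorElement_def]; group
        rw [commutatorElement_def, e1, ← commutatorElement_def]
        exact hA0 (h'.comm_mem heR hcR)
  obtain ⟨y, hy, hyV, hyc⟩ := hexy
  have hyN := hRN hy
  have hyR : ∀ v ∈ V, ⁅v, y⁆ ∈ R := fun v hv => by
    rw [commutatorElement_def]; exact R.mul_mem (h'.Pc_nor (hVN v hv) hy) (R.inv_mem hy)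
  have hI : ∀ x ∈ R, x ∈ Pc V Q → x ∈ A := by
    intro x hx hxP
    obtain ⟨a, ha, v, hv, e⟩ := h.mem_prod hA hne hxP (fun a ha => (hRA hx a ha).symm) fun p hp hpA => by
      refine commutatorElement_eq_one_iff_mul_comm.mp (hVR _ (h.comm_mem hxP hp) ?_)
      rw [commutatorElement_def, show x * p * x⁻¹ * p⁻¹ = x * (p * x⁻¹ * p⁻¹) by group]
      exact (mem_Pc.mp (R.mul_mem hx (h'.Pc_nor (h.mem_normalizer_of_comm ha0 ha01 (hpA _ ha0))
        (R.inv_mem hx)))).1
    have : v ∈ cj g Q := by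
      rw [show v = a⁻¹ * x by rw [e]; group]
      exact (mem_Pc.mp (R.mul_mem (R.inv_mem (hAR ha)) hx)).1
    rwa [e, hVR v hv this, mul_one]
  let D1 : G → Prop := fun p => p ∈ Pc V Q ∧ ∀ a ∈ A, p * a = a * p
  have hDN : ∀ {p}, D1 p → p ∈ normalizer (A : Set G) := fun hp =>
    h.mem_normalizer_of_comm ha0 ha01 (hp.2 _ ha0)
  have hRD : ∀ {r p}, r ∈ R → r ∈ normalizer (V : Set G) → D1 p → ⁅r, p⁆ ∈ A := fun {r p} hr hrM hp => by
    refine hI _ ?_ ?_
    · rw [commutatorElement_def, show r * p * r⁻¹ * p⁻¹ = r * (p * r⁻¹ * p⁻¹) by group]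
      exact R.mul_mem hr (h'.Pc_nor (hDN hp) (R.inv_mem hr))
    · rw [commutatorElement_def]
      exact (Pc V Q).mul_mem (h.Pc_nor hrM hp.1) ((Pc V Q).inv_mem hp.1)
  have htw : ∀ {p}, D1 p → ∀ v ∈ V, Commute p (y * v * y⁻¹) := by
    intro p hp v hv
    have hu : y * v * y⁻¹ = v * ⁅v, y⁆ := by
      rw [commutatorElement_def, h.inv_eq hv]
      calc y * v * y⁻¹ = (v * v) * (y * v * y⁻¹) := by rw [h.sq v hv, one_mul]
        _ = _ := by group
    have he := hRD (hyR v hv) (hyc v hv) hp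
    have e : ⁅y * v * y⁻¹, p⁆ = ⁅⁅v, y⁆, p⁆ := by
      rw [hu, comm_mul_left', commutatorElement_eq_one_iff_mul_comm.mpr ((mem_Pc.mp hp.1).2 v hv),
        mul_one, hVA v hv _ he, mul_inv_cancel_right]
    refine (commutatorElement_eq_one_iff_mul_comm.mp ?_ : (y * v * y⁻¹) * p = p * (y * v * y⁻¹)).symm
    by_contra h1
    refine hVQ ?_
    have hk : cj (g * y⁻¹) (cj y V) = A := by rw [cj_cj, inv_mul_cancel_right]
    have hle := (h.conj y).mixed (g := g * y⁻¹) (v := y * v * y⁻¹) (y := p)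
      (by rw [hk, ← cj_eq_self hyN]; exact Subgroup.map_mono hA)
      (fun e' => hne (by
        rw [hk] at e'
        have := congrArg (cj y⁻¹) e'
        rw [cj_eq_self (inv_mem hyN), cj_cj, inv_mul_cancel, cj_one] at this
        exact this))
      (by rw [hk]; exact hDN hp) (conj_mem_cj y hv) (by rw [hk, e]; exact he) h1
    rw [cj_cj, inv_mul_cancel_right] at hle
    intro w hw
    have := h'.nor _ (inv_mem hyN) _ (hle (conj_mem_cj y hw))
    simpa [mul_assoc] using this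
  have htwist : ∀ {p}, D1 p → ∃ r ∈ R, r ∈ normalizer (V : Set G) ∧ y⁻¹ * p * y = p * r := by
    intro p hp
    refine ⟨p⁻¹ * y⁻¹ * p * y, ?_, ?_, by group⟩
    · rw [show p⁻¹ * y⁻¹ * p * y = (p⁻¹ * y⁻¹ * p⁻¹⁻¹) * y by group]
      exact R.mul_mem (h'.Pc_nor (inv_mem (hDN hp)) (R.inv_mem hy)) hy
    · rw [show p⁻¹ * y⁻¹ * p * y = p⁻¹ * (y⁻¹ * p * y) by group]
      refine mul_mem (inv_mem (h.Pc_le hp.1)) (h.mem_normalizer_V hv0 hv01 ?_)
      have := (htw hp v0 hv0).eq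
      calc y⁻¹ * p * y * v0 = y⁻¹ * (p * (y * v0 * y⁻¹)) * y := by group
        _ = y⁻¹ * ((y * v0 * y⁻¹) * p) * y := by rw [this]
        _ = _ := by group
  by_cases hab : ∀ p q, D1 p → D1 q → p * q = q * p
  · -- `C_P(A)` abelian
    have hD : ∀ p ∈ Pc V Q, (∀ a ∈ A, p * a = a * p) → ∃ a ∈ A, ∃ v ∈ V, p = a * v := fun p hp hpA =>
      h.mem_prod hA hne hp hpA fun q hq hqA => hab p q ⟨hp, hpA⟩ ⟨hq, hqA⟩
    have hsq : ∀ r ∈ R, r ∈ normalizer (V : Set G) → r * r = 1 := by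
      intro r hr hrM
      refine h.disjoint_cj hne (h'.sq_mem hr) (h.center_Pc (hAP (h'.sq_mem hr)) fun p hp => ?_)
      have hrc : ∀ v ∈ V, v * r = r * v := hR0 hr hrM
      have hp' := h.Pc_nor hrM hp
      set c := ⁅r, p⁆ with hc
      have hcP : c ∈ Pc V Q := by
        rw [hc, commutatorElement_def]; exact (Pc V Q).mul_mem hp' ((Pc V Q).inv_mem hp)
      have hcA : ∀ a ∈ A, c * a = a * c := fun a ha => by
        refine (commutatorElement_eq_one_iff_mul_comm.mp ?_).symm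
        have e := h.mul_comm_right (hAP ha) hcP hp
        have e' : ⁅a, c * p⁆ = ⁅a, p⁆ := by
          calc ⁅a, c * p⁆ = ⁅r * a * r⁻¹, r * p * r⁻¹⁆ := by
                rw [show r * a * r⁻¹ = a by rw [← hRA hr a ha, mul_inv_cancel_right],
                  show r * p * r⁻¹ = c * p by rw [hc, commutatorElement_def]; group]
            _ = r * ⁅a, p⁆ * r⁻¹ := by simp only [commutatorElement_def]; group
            _ = _ := by rw [← hrc _ (h.comm_mem (hAP ha) hp), mul_inv_cancel_right]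
        rw [e'] at e
        exact mul_eq_right.mp e.symm
      obtain ⟨a, ha, v, hv, hcav⟩ := hD c hcP hcA
      have e1 : Commute r c := by
        rw [hcav]; exact (show Commute r a from (hRA hr a ha).symm).mul_right (hrc v hv).symm
      have e2 : c * c = 1 := by
        rw [hcav, mul_assoc, ← mul_assoc v a v, hVA v hv a ha, mul_assoc a v v, h.sq v hv, mul_one, h'.sq a ha]
      have e3 : r * p = c * p * r := by rw [hc, commutatorElement_def]; group
      calc r * r * p = r * (c * p * r) := by rw [mul_assoc, e3]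
        _ = (r * c) * p * r := by group
        _ = c * (r * p) * r := by rw [e1.eq]; group
        _ = (c * c) * p * r * r := by rw [e3]; group
        _ = p * (r * r) := by rw [e2, one_mul, mul_assoc]
    -- transport
    have hA' : cj g A ≤ cj g Q := Subgroup.map_mono hA
    have hne' : cj g A ≠ A := fun e => hne (Subgroup.map_injective (MulAut.conj g).injective e)
    obtain ⟨m, hm, hAB⟩ := h'.exists_partner hA' hne'
    have hB := h'.partner_le hA' hm
    have hBne : cj (m * g) A ≠ A := fun e => hne' (by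
      have := congrArg (cj m⁻¹) e
      rwa [cj_cj, ← mul_assoc, inv_mul_cancel, one_mul, cj_eq_self (inv_mem hm)] at this)
    have hA1P := h'.le_Pc hA'
    have hBP := h'.le_Pc hB
    let L1 : Subgroup G := cj g A ⊔ A
    let L2 : Subgroup G := cj (m * g) A ⊔ A
    have hL : ∀ x : G, cj x A ≤ R →
        ∀ l ∈ cj x A ⊔ A, (∃ a ∈ cj x A, ∃ c ∈ A, l = a * c) ∧ l ∈ R ∧ l * l = 1 := by
      intro x hx l hl
      obtain ⟨a, ha, c, hc, rfl⟩ : ∃ a ∈ cj x A, ∃ c ∈ A, l = a * c := by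
        have hle : cj x A ≤ normalizer (A : Set G) := hx.trans h'.Pc_le
        rw [← SetLike.mem_coe, Subgroup.coe_mul_of_left_le_normalizer_right _ _ hle] at hl
        obtain ⟨a, ha, c, hc, e⟩ := Set.mem_mul.mp hl
        exact ⟨a, ha, c, hc, e.symm⟩
      refine ⟨⟨a, ha, c, hc, rfl⟩, R.mul_mem (hx ha) (hAR hc), ?_⟩
      rw [mul_assoc, ← mul_assoc c a c, hRA (hx ha) c hc, mul_assoc a c c, h'.sq c hc, mul_one, (h'.conj x).sq a ha]
    have hL1 := hL g hA1P
    have hL2 := hL (m * g) hBP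
    have hL12 : ∀ l ∈ L1, l ∈ L2 → l ∈ A := by
      intro l hl1 hl2
      obtain ⟨⟨a, ha, c, hc, rfl⟩, -, -⟩ := hL1 l hl1
      obtain ⟨⟨b, hb, c', hc', e⟩, -, -⟩ := hL2 _ hl2
      by_cases ha1 : a = 1
      · rw [ha1, one_mul]; exact hc
      by_cases hb1 : b = 1
      · rw [e, hb1, one_mul]; exact hc'
      refine absurd ?_ (hAB a ha ha1 b hb hb1)
      have eb : b = a * (c * c'⁻¹) := by rw [← mul_assoc, e, mul_inv_cancel_right]
      have k1 : Commute a (c * c'⁻¹) := (hRA (hA1P ha) _ (A.mul_mem hc (A.inv_mem hc'))).symm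
      rw [eb, mul_assoc, ← k1.eq]
    have hcover : ∀ l ∈ R, l * l = 1 → l ∈ L1 ∨ l ∈ L2 := by
      intro l hl hll
      obtain ⟨a1, ha1, ha11⟩ : ∃ a ∈ cj g A, a ≠ 1 :=
        ⟨_, conj_mem_cj g ha0, fun e => ha01 (conj_eq_one_iff.mp e)⟩
      obtain ⟨b, hb, hbe⟩ := h'.exists_comm_eq hA' hB hAB ha1 ha11 (h'.comm_mem (hA1P ha1) hl)
      have hd : b⁻¹ * l ∈ R := R.mul_mem (R.inv_mem (hBP hb)) hl
      have hdA : ∀ a ∈ cj g A, (b⁻¹ * l) * a = a * (b⁻¹ * l) := fun a ha => by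
        refine (h'.comm_all hA' hne' ha1 ha11 hd ?_ ha).symm
        have e := h'.mul_comm_right (hA1P ha1) (hBP hb) hd
        rw [mul_inv_cancel_left, hbe] at e
        exact commutatorElement_eq_one_iff_mul_comm.mp (mul_eq_left.mp e.symm)
      obtain ⟨a, ha, c, hc, e⟩ : ∃ a ∈ cj g A, ∃ c ∈ A, b⁻¹ * l = a * c := by
        have hz : g⁻¹ * (b⁻¹ * l) * g ∈ Pc V Q := mem_cj.mp (by rw [cj_Pc]; exact hd)
        obtain ⟨a, ha, v, hv, e⟩ := hD _ hz fun a ha => by
          have := hdA _ (conj_mem_cj g ha)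
          calc g⁻¹ * (b⁻¹ * l) * g * a = g⁻¹ * ((b⁻¹ * l) * (g * a * g⁻¹)) * g := by group
            _ = g⁻¹ * ((g * a * g⁻¹) * (b⁻¹ * l)) * g := by rw [this]
            _ = _ := by group
        refine ⟨g * a * g⁻¹, conj_mem_cj g ha, g * v * g⁻¹, conj_mem_cj g hv, ?_⟩
        calc b⁻¹ * l = g * (g⁻¹ * (b⁻¹ * l) * g) * g⁻¹ := by group
          _ = g * (a * v) * g⁻¹ := by rw [e]
          _ = _ := by group
      have el : l = b * a * c := by rw [mul_assoc, ← e]; group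
      by_cases hb1 : b = 1
      · left; rw [el, hb1, one_mul]; exact L1.mul_mem (mem_sup_left ha) (mem_sup_right hc)
      by_cases ha1' : a = 1
      · right; rw [el, ha1', mul_one]; exact L2.mul_mem (mem_sup_left hb) (mem_sup_right hc)
      refine absurd ?_ (hAB a ha ha1' b hb hb1)
      have k1 : c * (b * a) = (b * a) * c := hRA (R.mul_mem (hBP hb) (hA1P ha)) c hc
      have k2 : (b * a) * (b * a) = 1 := by
        have := hll
        rw [el, mul_assoc, ← mul_assoc c, k1, mul_assoc (b * a) c c, h'.sq c hc, mul_one] at this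
        exact this
      calc a * b = b⁻¹ * ((b * a) * (b * a)) * a⁻¹ := by group
        _ = b⁻¹ * a⁻¹ := by rw [k2, mul_one]
        _ = b * a := by rw [(h'.conj _).inv_eq ha, (h'.conj _).inv_eq hb]
    -- the conclusion, symmetrical in `L1`, `L2`
    have fin : ∀ L K : Subgroup G, (∀ l ∈ L, l ∈ R ∧ l * l = 1) → (∀ l ∈ K, l ∈ R ∧ l * l = 1) →
        (∀ l ∈ R, l * l = 1 → l ∈ L ∨ l ∈ K) → (∀ l ∈ L, l ∈ K → l ∈ A) → (∃ l ∈ K, l ∉ A) →
        ⁅v0, y⁆ ∈ L → False := by
      intro L K hL hK hcov hLK hKA heL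
      set e := ⁅v0, y⁆ with he
      have heA : e ∉ A := fun ha => hyV (hR0' hy hv0 hv01 ha)
      have heK : e ∉ K := fun hk => heA (hLK e heL hk)
      have hsub : ∀ r ∈ R, r ∈ normalizer (V : Set G) → r ∈ L := fun r hr hrM => by
        rcases hcov r hr (hsq r hr hrM) with h1 | h1
        · exact h1
        rcases hcov (r * e) (R.mul_mem hr (hyR v0 hv0))
            (hsq _ (R.mul_mem hr (hyR v0 hv0)) (mul_mem hrM (hyc v0 hv0))) with h2 | h2
        · have := L.mul_mem h2 (L.inv_mem heL)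
          rwa [mul_inv_cancel_right] at this
        · exact absurd (by have := K.mul_mem (K.inv_mem h1) h2; rwa [inv_mul_cancel_left] at this) heK
      have hKv : ∀ v ∈ V, ∀ l ∈ K, l ∉ A → v * l * v⁻¹ ∈ K := by
        intro v hv l hl hlA
        have hR' := h'.Pc_nor (hVN v hv) (hK l hl).1
        have hsq' : v * l * v⁻¹ * (v * l * v⁻¹) = 1 := by
          rw [show v * l * v⁻¹ * (v * l * v⁻¹) = v * (l * l) * v⁻¹ by group, (hK l hl).2]; group
        refine (hcov _ hR' hsq').resolve_left fun hL' => ?_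
        have hev : v * e * v⁻¹ = e := by
          rw [(hR0 (hyR v0 hv0) (hyc v0 hv0) v hv), mul_inv_cancel_right]
        have h2 := (hL _ (L.mul_mem hL' heL)).2
        have h3 : l * e * (l * e) = 1 := by
          calc l * e * (l * e) = v⁻¹ * ((v * l * v⁻¹ * (v * e * v⁻¹)) * (v * l * v⁻¹ * (v * e * v⁻¹))) * v := by group
            _ = 1 := by rw [hev, h2]; group
        rcases hcov _ (R.mul_mem (hK l hl).1 (hyR v0 hv0)) h3 with h4 | h4
        · exact hlA (hLK l (by have := L.mul_mem h4 (L.inv_mem heL); rwa [mul_inv_cancel_right] at this) hl)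
        · exact heK (by have := K.mul_mem (K.inv_mem hl) h4; rwa [inv_mul_cancel_left] at this)
      obtain ⟨l, hl, hlA⟩ := hKA
      have hinv : ∀ k ∈ K, k⁻¹ = k := fun k hk => inv_eq_of_mul_eq_one_right (hK k hk).2
      have hcomm : ∀ k ∈ K, ∀ k' ∈ K, k * k' = k' * k := fun k hk k' hk' => by
        calc k * k' = (k * k')⁻¹ := (hinv _ (K.mul_mem hk hk')).symm
          _ = k' * k := by rw [mul_inv_rev, hinv k hk, hinv k' hk']
      have hlw := hKv v0 hv0 l hl hlA
      set c := ⁅v0, l⁆ with hc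
      have hcK : c ∈ K := by rw [hc, commutatorElement_def]; exact K.mul_mem hlw (K.inv_mem hl)
      by_cases hcA : c ∈ A
      · exact hlA (hLK l (hsub l (hK l hl).1 (hR0' (hK l hl).1 hv0 hv01 hcA)) hl)
      refine hcA (hLK c (hsub c (hK c hcK).1 (hR0' (hK c hcK).1 hv0 hv01 ?_)) hcK)
      have e1 : ⁅v0, c⁆ = 1 := by
        refine commutatorElement_eq_one_iff_mul_comm.mpr ?_
        have ec : c = v0 * l * v0 * l := by
          rw [hc, commutatorElement_def, h.inv_eq hv0, hinv l hl]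
        have ek : (v0 * l * v0) * l = l * (v0 * l * v0) := by
          have := hcomm _ hlw l hl
          rwa [h.inv_eq hv0] at this
        calc v0 * c = (v0 * v0) * l * v0 * l := by rw [ec]; group
          _ = l * v0 * l * (v0 * v0) := by rw [h.sq v0 hv0]; group
          _ = (l * (v0 * l * v0)) * v0 := by group
          _ = ((v0 * l * v0) * l) * v0 := by rw [ek]
          _ = c * v0 := by rw [ec]
      rw [e1]; exact A.one_mem
    have hex : ∀ x : G, cj x A ≠ A → ∃ l ∈ cj x A ⊔ A, l ∉ A := fun x hx =>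
      ⟨_, mem_sup_left (conj_mem_cj x ha0), fun hmem => ha01 (conj_eq_one_iff.mp
        (h'.disjoint_cj hx (conj_mem_cj x ha0) hmem))⟩
    rcases hcover _ (hyR v0 hv0) (hsq _ (hyR v0 hv0) (hyc v0 hv0)) with h1 | h1
    · exact fin L1 L2 (fun l hl => (hL1 l hl).2) (fun l hl => (hL2 l hl).2) hcover hL12 (hex _ hBne) h1
    · exact fin L2 L1 (fun l hl => (hL2 l hl).2) (fun l hl => (hL1 l hl).2)
        (fun l hl hll => (hcover l hl hll).symm) (fun l h1 h2 => hL12 l h2 h1) (hex _ hne') h1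
  · -- `C_P(A)` not abelian
    push Not at hab
    obtain ⟨x1, x2, hx1, hx2, hne12⟩ := hab
    have hv : ⁅x1, x2⁆ ∈ V := h.comm_mem hx1.1 hx2.1
    have hv1 : ⁅x1, x2⁆ ≠ 1 := fun e => hne12 (commutatorElement_eq_one_iff_mul_comm.mp e)
    set v := ⁅x1, x2⁆ with hvdef
    obtain ⟨r1, hr1, hr1M, e1⟩ := htwist hx1
    obtain ⟨r2, hr2, hr2M, e2⟩ := htwist hx2
    have hfix : ∀ {x}, D1 x → ∀ a ∈ A, x * a * x⁻¹ = a := fun hx a ha => by
      rw [hx.2 a ha, mul_inv_cancel_right]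
    have k1 := hRD hr1 hr1M hx2
    have k2 : ⁅x1, r2⁆ ∈ A := by rw [← commutatorElement_inv]; exact A.inv_mem (hRD hr2 hr2M hx1)
    have k3 := h'.comm_mem hr1 hr2
    have hc : ∃ a ∈ A, ⁅x1 * r1, x2 * r2⁆ = a * v := by
      refine ⟨⁅r1, x2⁆ * ⁅r1, r2⁆ * ⁅x1, r2⁆, A.mul_mem (A.mul_mem k1 k3) k2, ?_⟩
      rw [comm_mul_left', comm_mul_right' r1, comm_mul_right' x1, hfix hx2 _ k3, hfix hx2 _ k2,
        hfix hx1 _ (A.mul_mem k1 k3), hVA v hv _ k2]
      simp only [mul_assoc]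
    obtain ⟨a, ha, hc⟩ := hc
    have hyv : y⁻¹ * v * y = a * v := by
      rw [← hc, ← e1, ← e2, hvdef]
      simp only [commutatorElement_def]; group
    have hN := hR0' (R.inv_mem hy) hv hv1 (by
      rw [commutatorElement_def, inv_inv, h.inv_eq hv,
        show v * y⁻¹ * v * y = v * (y⁻¹ * v * y) by group, hyv, ← mul_assoc, hVA v hv a ha,
        mul_assoc, h.sq v hv, mul_one]
      exact ha)
    have := inv_mem hN
    rw [inv_inv] at this
    exact hyV this

end Setup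

end Cfsg.Agent.TISpread23
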