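import Mathlib
import Cfsg.Prelude.Def_GeometricClasses
import Cfsg.Agent.Lib.DecompPerm84
import Cfsg.Agent.Lib.SemisimpleConjGL
import Cfsg.Agent.Lib.SquareScalarBasis

/-!
Elements of prime order modulo scalars and Kronecker products: eigenspace dimensions of a Kronecker
product, and involutions as Kronecker products.
-/

set_option autoImplicit false

namespace Cfsg.Agent.TensorDerange84

open Module Cfsg.Agent.PrimeOrderModule84
open scoped Kronecker Matrix

universe u v

variable {F : Type u} [Field F] {a b : ℕ} {V : Type v} [AddCommGroup V] [Module F V]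

/-- `g` is similar to a Kronecker product of an `a × a` and a `b × b` matrix. -/
def Ten (g : Module.End F V) (a b : ℕ) : Prop :=
  ∃ (A : GL (Fin a) F) (B : GL (Fin b) F) (φ : (Fin a × Fin b → F) ≃ₗ[F] V),
    ∀ v, g (φ v) = φ (((A : Matrix (Fin a) (Fin a) F) ⊗ₖ (B : Matrix (Fin b) (Fin b) F)) *ᵥ v)

theorem kron_mulVec (A : Matrix (Fin a) (Fin a) F) (B : Matrix (Fin b) (Fin b) F)
    (X : Fin a × Fin b → F) (i : Fin a) (j : Fin b) :
    ((A ⊗ₖ B) *ᵥ X) (i, j) = ∑ k, A i k * (B *ᵥ fun l => X (k, l)) j := by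
  simp only [Matrix.mulVec, dotProduct, Fintype.sum_prod_type, Matrix.kronecker_apply, Finset.mul_sum]
  exact Finset.sum_congr rfl fun k _ => Finset.sum_congr rfl fun l _ => mul_assoc _ _ _

variable [FiniteDimensional F V]

/-- Eigenspaces of block diagonal maps. -/
theorem finrank_ker_compLeft {W : Type*} [AddCommGroup W] [Module F W] [FiniteDimensional F W]
    {m : ℕ} (g : Module.End F V) (C : Module.End F W) (φ : (Fin m → W) ≃ₗ[F] V)
    (h : ∀ v, g (φ v) = φ (fun i => C (v i))) (lam : F) :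
    finrank F ↥(LinearMap.ker (g - lam • 1)) = m * finrank F ↥(LinearMap.ker (C - lam • 1)) := by
  let ι : (Fin m → ↥(LinearMap.ker (C - lam • 1))) →ₗ[F] V :=
    φ.toLinearMap ∘ₗ LinearMap.compLeft (LinearMap.ker (C - lam • 1)).subtype (Fin m)
  have hinj : Function.Injective ι :=
    φ.injective.comp fun x y e => funext fun i => Subtype.ext (congrFun e i)
  have hfix : ∀ v, (g - lam • 1) (φ v) = φ (fun i => (C - lam • 1) (v i)) := fun v => by
    rw [LinearMap.sub_apply, h, LinearMap.smul_apply, Module.End.one_apply, ← map_smul, ← map_sub]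
    rfl
  have hrange : LinearMap.range ι = LinearMap.ker (g - lam • 1) := by
    ext w
    constructor
    · rintro ⟨x, rfl⟩
      rw [LinearMap.mem_ker]
      show (g - lam • 1) (φ fun i => (x i : W)) = 0
      rw [hfix, LinearEquiv.map_eq_zero_iff]
      exact funext fun i => (x i).2
    · intro hw
      obtain ⟨v, rfl⟩ := φ.surjective w
      rw [LinearMap.mem_ker, hfix, LinearEquiv.map_eq_zero_iff] at hw
      exact ⟨fun i => ⟨v i, congrFun hw i⟩, rfl⟩
  rw [← hrange, LinearMap.finrank_range_of_inj hinj, Module.finrank_pi_fintype]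
  simp

theorem pow_eq_one_of_compLeft {W : Type*} [AddCommGroup W] [Module F W] {m : ℕ} (hm : 0 < m)
    {g : Module.End F V} {C : Module.End F W} (φ : (Fin m → W) ≃ₗ[F] V)
    (h : ∀ v, g (φ v) = φ (fun i => C (v i))) {r : ℕ} (hg : g ^ r = 1) : C ^ r = 1 := by
  have hpow : ∀ i v, (g ^ i) (φ v) = φ (fun j => (C ^ i) (v j)) := by
    intro i
    induction i with
    | zero => intro v; simp
    | succ i ih => intro v; rw [pow_succ', Module.End.mul_apply, ih, h]; simp [pow_succ']
  refine LinearMap.ext fun w => ?_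
  have := hpow r fun _ => w
  rw [hg, Module.End.one_apply] at this
  exact (congrFun (φ.injective this) ⟨0, hm⟩).symm

/-- A non-scalar left factor bounds the eigenspaces. -/
theorem finrank_ker_le (ha : 1 ≤ a) {A : Matrix (Fin a) (Fin a) F} {B : GL (Fin b) F}
    (hA : ∀ α : F, A ≠ α • (1 : Matrix (Fin a) (Fin a) F)) {g : Module.End F V}
    (φ : (Fin a × Fin b → F) ≃ₗ[F] V)
    (h : ∀ v, g (φ v) = φ ((A ⊗ₖ (B : Matrix (Fin b) (Fin b) F)) *ᵥ v)) {lam : F} (hlam : lam ≠ 0) :
    finrank F ↥(LinearMap.ker (g - lam • 1)) + b ≤ a * b := by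
  classical
  have hBinj : ∀ w : Fin b → F, (B : Matrix (Fin b) (Fin b) F) *ᵥ w = 0 → w = 0 := fun w hw => by
    have := congrArg (((B⁻¹ : GL (Fin b) F) : Matrix (Fin b) (Fin b) F) *ᵥ ·) hw
    simpa [Matrix.mulVec_mulVec] using this
  set K := LinearMap.ker (g - lam • 1)
  have heq : ∀ (w : ↥K) i j,
      ∑ k, A i k * ((B : Matrix (Fin b) (Fin b) F) *ᵥ fun l => φ.symm (w : V) (k, l)) j =
        lam * φ.symm (w : V) (i, j) := by
    intro w i j
    have hw := LinearMap.mem_ker.1 w.2
    rw [LinearMap.sub_apply, LinearMap.smul_apply, Module.End.one_apply, sub_eq_zero,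
      ← φ.apply_symm_apply (w : V), h, ← map_smul] at hw
    have := congrFun (φ.injective hw) (i, j)
    rwa [kron_mulVec] at this
  by_cases hoff : ∃ i k, i ≠ k ∧ A i k ≠ 0
  · obtain ⟨i₀, k₀, hik₀, hne⟩ := hoff
    let Ψ : ↥K →ₗ[F] ({k : Fin a // k ≠ k₀} × Fin b → F) :=
      LinearMap.funLeft F F (fun x : {k : Fin a // k ≠ k₀} × Fin b => ((x.1 : Fin a), x.2)) ∘ₗ
        φ.symm.toLinearMap ∘ₗ K.subtype
    have hinj : Function.Injective Ψ := by
      rw [injective_iff_map_eq_zero]
      intro w hw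
      have h0 : ∀ k, k ≠ k₀ → ∀ l, φ.symm (w : V) (k, l) = 0 := fun k hk l =>
        congrFun hw (⟨k, hk⟩, l)
      have hk₀ : (fun l => φ.symm (w : V) (k₀, l)) = 0 := by
        refine hBinj _ (funext fun j => ?_)
        have := heq w i₀ j
        rw [Finset.sum_eq_single k₀] at this
        · by_cases hi : i₀ = k₀
          · exact absurd hi hik₀
          · rw [h0 i₀ hi, mul_zero] at this
            exact (mul_eq_zero.1 this).resolve_left hne
        · intro k _ hk
          rw [show (fun l => φ.symm (w : V) (k, l)) = 0 from funext (h0 k hk), Matrix.mulVec_zero]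
          exact mul_zero _
        · intro hh; exact absurd (Finset.mem_univ k₀) hh
      apply Subtype.ext
      apply φ.symm.injective
      rw [ZeroMemClass.coe_zero, map_zero]
      funext ⟨k, l⟩
      by_cases hk : k = k₀
      · subst hk; exact congrFun hk₀ l
      · exact h0 k hk l
    have h1 := LinearMap.finrank_le_finrank_of_injective hinj
    rw [Module.finrank_fintype_fun_eq_card, Fintype.card_prod, Fintype.card_fin,
      Fintype.card_subtype_compl, Fintype.card_fin, Fintype.card_subtype_eq, Nat.sub_mul, one_mul] at h1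
    have : 1 * b ≤ a * b := Nat.mul_le_mul_right b ha
    omega
  · push Not at hoff
    obtain ⟨i₀, k₀, hik⟩ : ∃ i k, A i i ≠ A k k := by
      by_contra hc
      push Not at hc
      refine hA (A ⟨0, ha⟩ ⟨0, ha⟩) (Matrix.ext fun i k => ?_)
      by_cases hik : i = k
      · subst hik; simpa using hc i ⟨0, ha⟩
      · rw [hoff i k hik, Matrix.smul_apply, Matrix.one_apply_ne hik, smul_zero]
    have hne : i₀ ≠ k₀ := fun e => hik (by rw [e])
    have hrow : ∀ (w : ↥K) i j,
        A i i * ((B : Matrix (Fin b) (Fin b) F) *ᵥ fun l => φ.symm (w : V) (i, l)) j =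
          lam * φ.symm (w : V) (i, j) := by
      intro w i j
      rw [← heq w i j, Finset.sum_eq_single i]
      · intro k _ hk; rw [hoff i k (Ne.symm hk), zero_mul]
      · intro hh; exact absurd (Finset.mem_univ i) hh
    let f : Fin a × Fin b → F := fun _ => 0
    let Ψ₀ : (Fin a × Fin b → F) →ₗ[F] ({k : Fin a // k ≠ k₀} × Fin b → F) :=
      { toFun := fun X x => X ((x.1 : Fin a), x.2) + if (x.1 : Fin a) = i₀ then X (k₀, x.2) else 0
        map_add' := fun X Y => by
          funext x
          simp only [Pi.add_apply]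
          split_ifs <;> ring
        map_smul' := fun t X => by
          funext x
          simp only [Pi.smul_apply, RingHom.id_apply, smul_eq_mul]
          split_ifs <;> ring }
    let Ψ : ↥K →ₗ[F] ({k : Fin a // k ≠ k₀} × Fin b → F) := Ψ₀ ∘ₗ φ.symm.toLinearMap ∘ₗ K.subtype
    have hinj : Function.Injective Ψ := by
      rw [injective_iff_map_eq_zero]
      intro w hw
      have h0 : ∀ k, k ≠ k₀ → ∀ l,
          φ.symm (w : V) (k, l) + (if k = i₀ then φ.symm (w : V) (k₀, l) else 0) = 0 := fun k hk l =>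
        congrFun hw (⟨k, hk⟩, l)
      have hneg : (fun l => φ.symm (w : V) (i₀, l)) = -fun l => φ.symm (w : V) (k₀, l) := funext fun l => by
        have := h0 i₀ hne l
        rw [if_pos rfl] at this
        exact eq_neg_of_add_eq_zero_left this
      have hk₀ : ∀ j, φ.symm (w : V) (k₀, j) = 0 := by
        intro j
        have h1 := hrow w i₀ j
        have h2 := hrow w k₀ j
        rw [hneg, Matrix.mulVec_neg, Pi.neg_apply, mul_neg] at h1
        have h3 := congrFun hneg j
        simp only [Pi.neg_apply] at h3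
        rw [h3, mul_neg, neg_inj] at h1
        by_contra hz
        apply hik
        have h4 : ((B : Matrix (Fin b) (Fin b) F) *ᵥ fun l => φ.symm (w : V) (k₀, l)) j ≠ 0 := fun e => by
          rw [e, mul_zero] at h2
          exact hz ((mul_eq_zero.1 h2.symm).resolve_left hlam)
        exact mul_right_cancel₀ h4 (h1.trans h2.symm)
      apply Subtype.ext
      apply φ.symm.injective
      rw [ZeroMemClass.coe_zero, map_zero]
      funext ⟨k, l⟩
      by_cases hk : k = k₀
      · subst hk; exact hk₀ l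
      · have := h0 k hk l
        rw [hk₀ l] at this
        simpa using this
    have h1 := LinearMap.finrank_le_finrank_of_injective hinj
    rw [Module.finrank_fintype_fun_eq_card, Fintype.card_prod, Fintype.card_fin,
      Fintype.card_subtype_compl, Fintype.card_fin, Fintype.card_subtype_eq, Nat.sub_mul, one_mul] at h1
    have : 1 * b ≤ a * b := Nat.mul_le_mul_right b ha
    omega

/-- The three cases for a Kronecker product. -/
theorem Ten.cases (ha : 1 ≤ a) {g : Module.End F V} (h : Ten g a b) :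
    (∃ (C : Module.End F (Fin b → F)) (φ : (Fin a → Fin b → F) ≃ₗ[F] V),
      ∀ v, g (φ v) = φ (fun i => C (v i))) ∨
    (∃ (C : Module.End F (Fin a → F)) (φ : (Fin b → Fin a → F) ≃ₗ[F] V),
      ∀ v, g (φ v) = φ (fun i => C (v i))) ∨
    (∃ (A : GL (Fin a) F) (B : GL (Fin b) F) (φ : (Fin a × Fin b → F) ≃ₗ[F] V),
      (∀ α : F, (A : Matrix (Fin a) (Fin a) F) ≠ α • 1) ∧ (∀ β : F, (B : Matrix (Fin b) (Fin b) F) ≠ β • 1) ∧
      ∀ v, g (φ v) = φ (((A : Matrix (Fin a) (Fin a) F) ⊗ₖ (B : Matrix (Fin b) (Fin b) F)) *ᵥ v)) := by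
  classical
  obtain ⟨A, B, φ, hφ⟩ := h
  by_cases hA : ∃ α : F, (A : Matrix (Fin a) (Fin a) F) = α • 1
  · left
    obtain ⟨α, hα⟩ := hA
    let cu : (Fin a → Fin b → F) ≃ₗ[F] (Fin a × Fin b → F) := (LinearEquiv.curry F F (Fin a) (Fin b)).symm
    refine ⟨α • Matrix.toLin' (B : Matrix (Fin b) (Fin b) F), cu.trans φ, fun v => ?_⟩
    show g (φ (cu v)) = φ (cu _)
    rw [hφ]
    congr 1
    funext ⟨i, j⟩
    rw [kron_mulVec, hα, Finset.sum_eq_single i]
    · simp [cu, Matrix.toLin'_apply]
    · intro k _ hk; simp [Matrix.one_apply_ne (Ne.symm hk)]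
    · intro hh; exact absurd (Finset.mem_univ i) hh
  by_cases hB : ∃ β : F, (B : Matrix (Fin b) (Fin b) F) = β • 1
  · right; left
    obtain ⟨β, hβ⟩ := hB
    let cu : (Fin b → Fin a → F) ≃ₗ[F] (Fin a × Fin b → F) :=
      (LinearEquiv.curry F F (Fin b) (Fin a)).symm.trans (LinearEquiv.funCongrLeft F F (Equiv.prodComm _ _))
    refine ⟨β • Matrix.toLin' (A : Matrix (Fin a) (Fin a) F), cu.trans φ, fun v => ?_⟩
    show g (φ (cu v)) = φ (cu _)
    rw [hφ]
    congr 1
    funext ⟨i, j⟩
    rw [kron_mulVec, hβ]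
    show _ = β * ∑ k, (A : Matrix (Fin a) (Fin a) F) i k * v j k
    rw [Finset.mul_sum]
    refine Finset.sum_congr rfl fun k _ => ?_
    rw [Matrix.smul_mulVec, Matrix.one_mulVec, Pi.smul_apply, smul_eq_mul, mul_left_comm]
    rfl
  push Not at hA hB
  exact Or.inr (Or.inr ⟨A, B, φ, hA, hB, hφ⟩)

/-- Dimensions of eigenspaces of a Kronecker product. -/
theorem Ten.eigen (ha : 1 ≤ a) {g : Module.End F V} (h : Ten g a b) {lam μ : F} (hl : lam ≠ 0)
    (hμ : μ ≠ 0) :
    (a ∣ finrank F ↥(LinearMap.ker (g - lam • 1)) ∧ a ∣ finrank F ↥(LinearMap.ker (g - μ • 1))) ∨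
    (b ∣ finrank F ↥(LinearMap.ker (g - lam • 1)) ∧ b ∣ finrank F ↥(LinearMap.ker (g - μ • 1))) ∨
    (finrank F ↥(LinearMap.ker (g - lam • 1)) + b ≤ a * b ∧
      finrank F ↥(LinearMap.ker (g - μ • 1)) + b ≤ a * b) := by
  rcases h.cases ha with ⟨C, φ, hφ⟩ | ⟨C, φ, hφ⟩ | ⟨A, B, φ, hA, -, hφ⟩
  · exact Or.inl ⟨Dvd.intro _ (finrank_ker_compLeft g C φ hφ lam).symm,
      Dvd.intro _ (finrank_ker_compLeft g C φ hφ μ).symm⟩
  · exact Or.inr (Or.inl ⟨Dvd.intro _ (finrank_ker_compLeft g C φ hφ lam).symm,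
      Dvd.intro _ (finrank_ker_compLeft g C φ hφ μ).symm⟩)
  · exact Or.inr (Or.inr ⟨finrank_ker_le ha hA φ hφ hl, finrank_ker_le ha hA φ hφ hμ⟩)

/-- One block: no Kronecker decomposition. -/
theorem not_ten_block [Fintype F] {r : ℕ} [Fact r.Prime] (hr : (r : F) ≠ 0)
    (hc : 2 ≤ orderOf (Fintype.card F : ZMod r)) (ha : 2 ≤ a) (hlt : a < b)
    (hdim : finrank F V = a * b) {g : Module.End F V} (hg : g ^ r = 1)
    (hk : finrank F ↥(LinearMap.ker (g - 1)) + orderOf (Fintype.card F : ZMod r) = finrank F V) :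
    ¬ Ten g a b := by
  set c := orderOf (Fintype.card F : ZMod r) with hcdef
  rw [hdim] at hk
  have hker : ∀ (W : Type u) [AddCommGroup W] [Module F W] [FiniteDimensional F W] (C : Module.End F W)
      (m : ℕ) (φ : (Fin m → W) ≃ₗ[F] V), (∀ v, g (φ v) = φ (fun i => C (v i))) → 2 ≤ m →
      m * finrank F W = a * b → False := by
    intro W _ _ _ C m φ hφ hm hdW
    have hC := pow_eq_one_of_compLeft (by omega) φ hφ hg
    have h1 := finrank_ker_compLeft g C φ hφ (1 : F)
    rw [one_smul, one_smul] at h1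
    have h2 := finrank_modEq hr hC (W := ⊤) le_top
    rw [top_inf_eq, finrank_top, ← hcdef] at h2
    have hle : finrank F ↥(LinearMap.ker (C - 1)) ≤ finrank F W := Submodule.finrank_le _
    obtain ⟨j, hj⟩ := (Nat.modEq_iff_dvd' hle).1 h2.symm
    have h3 : finrank F W = finrank F ↥(LinearMap.ker (C - 1)) + c * j := by omega
    rw [h3, Nat.mul_add] at hdW
    rw [h1] at hk
    have h4 : m * (c * j) = c := by omega
    rcases Nat.eq_zero_or_pos j with rfl | hj0
    · simp at h4; omega
    · have h5 : c * 1 ≤ c * j := Nat.mul_le_mul_left c hj0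
      have h6 : 2 * (c * j) ≤ m * (c * j) := Nat.mul_le_mul_right _ hm
      omega
  intro h
  rcases h.cases (by omega) with ⟨C, φ, hφ⟩ | ⟨C, φ, hφ⟩ | ⟨A, B, φ, hA, -, hφ⟩
  · exact hker _ C a φ hφ ha (by rw [Module.finrank_fin_fun])
  · exact hker _ C b φ hφ (by omega) (by rw [Module.finrank_fin_fun, mul_comm])
  · have hca : c ≤ a := by
      classical
      set M : Matrix (Fin a) (Fin a) F := (A : Matrix (Fin a) (Fin a) F)
      set N : Matrix (Fin b) (Fin b) F := (B : Matrix (Fin b) (Fin b) F)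
      have hpow : ∀ i v, (g ^ i) (φ v) = φ (((M ^ i) ⊗ₖ (N ^ i)) *ᵥ v) := by
        intro i
        induction i with
        | zero => intro v; simp
        | succ i ih =>
          intro v
          rw [pow_succ', Module.End.mul_apply, ih, hφ, Matrix.mulVec_mulVec, ← Matrix.mul_kronecker_mul,
            pow_succ', pow_succ']
      have hkr : (M ^ r) ⊗ₖ (N ^ r) = 1 := by
        refine Matrix.toLin'.injective (LinearMap.ext fun v => φ.injective ?_)
        rw [Matrix.toLin'_apply, ← hpow r v, hg, Matrix.toLin'_one]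
        rfl
      have hNr : (N ^ r) ⟨0, by omega⟩ ⟨0, by omega⟩ ≠ 0 := by
        intro e
        have := congrFun (congrFun hkr (⟨0, by omega⟩, ⟨0, by omega⟩)) (⟨0, by omega⟩, ⟨0, by omega⟩)
        rw [Matrix.kronecker_apply, e, mul_zero, Matrix.one_apply_eq] at this
        exact zero_ne_one this
      set u := ((N ^ r) ⟨0, by omega⟩ ⟨0, by omega⟩)⁻¹
      have hMr : M ^ r = u • 1 := Matrix.ext fun i k => by
        have := congrFun (congrFun hkr (i, ⟨0, by omega⟩)) (k, ⟨0, by omega⟩)
        rw [Matrix.kronecker_apply] at this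
        rw [Matrix.smul_apply, smul_eq_mul, eq_inv_mul_iff_mul_eq₀ hNr, mul_comm, this]
        by_cases hik : i = k
        · subst hik; simp
        · rw [Matrix.one_apply_ne hik, Matrix.one_apply_ne (by simp [hik])]
      have hu : u ≠ 0 := inv_ne_zero hNr
      have hrq : ¬ r ∣ Fintype.card F - 1 := fun hd => by
        have h1 := (card_pow_eq_one_iff (F := F) (r := r) 1).2 (by rwa [pow_one])
        rw [pow_one] at h1
        rw [hcdef, h1, orderOf_one] at hc
        omega
      obtain ⟨w, hw⟩ := exists_pow_of_pow_eq (Fact.out : r.Prime) hu hrq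
        ((FiniteField.pow_card_sub_one_eq_one u hu).trans (one_pow r).symm)
      have hw0 : w ≠ 0 := fun e => hu (by rw [← hw, e, zero_pow (Fact.out : r.Prime).ne_zero])
      set C := w⁻¹ • Matrix.toLin' M with hC'
      have hC : C ^ r = 1 := by
        rw [hC', smul_pow, ← Matrix.toLin'_pow, hMr, map_smul, Matrix.toLin'_one, smul_smul, ← hw,
          inv_pow, inv_mul_cancel₀ (pow_ne_zero _ hw0), one_smul]
        rfl
      have hC1 : C ≠ 1 := by
        intro e
        apply hA w
        apply Matrix.toLin'.injective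
        rw [map_smul, Matrix.toLin'_one]
        show Matrix.toLin' M = w • 1
        rw [← e, hC', smul_smul, mul_inv_cancel₀ hw0, one_smul]
      have h2 := finrank_modEq hr hC (W := ⊤) le_top
      rw [top_inf_eq, finrank_top, Module.finrank_fin_fun, ← hcdef] at h2
      have hlt' : finrank F ↥(LinearMap.ker (C - 1)) < a := by
        have := Submodule.finrank_lt (s := LinearMap.ker (C - 1)) (fun e => hC1 (by
          rwa [LinearMap.ker_eq_top, sub_eq_zero] at e))
        rwa [Module.finrank_fin_fun] at this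
      have hdvd := (Nat.modEq_iff_dvd' hlt'.le).1 h2.symm
      have := Nat.le_of_dvd (by omega) hdvd
      omega
    have h1 := finrank_ker_le (by omega) hA φ hφ (one_ne_zero (α := F))
    rw [one_smul] at h1
    omega

/-- Diagonal matrices: eigenspaces. -/
theorem finrank_ker_diag {n : ℕ} (d : Fin n → F) (lam : F) :
    finrank F ↥(LinearMap.ker (Matrix.toLin' (Matrix.diagonal d) - lam • 1)) =
      Nat.card {i // d i = lam} := by
  classical
  have h : Matrix.toLin' (Matrix.diagonal d) - lam • 1 =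
      Matrix.toLin' (Matrix.diagonal fun i => d i - lam) := by
    refine LinearMap.ext fun v => funext fun i => ?_
    simp [Matrix.mulVec_diagonal, sub_mul]
  rw [h]
  have h1 := LinearMap.finrank_range_add_finrank_ker (Matrix.toLin' (Matrix.diagonal fun i => d i - lam))
  have h2 := Matrix.rank_diagonal (fun i => d i - lam)
  rw [Module.finrank_fin_fun] at h1
  have h3 : finrank F ↥(LinearMap.range (Matrix.toLin' (Matrix.diagonal fun i => d i - lam))) =
      Fintype.card {i // d i - lam ≠ 0} := h2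
  rw [h3, Fintype.card_subtype_compl, Fintype.card_fin] at h1
  have h4 : Fintype.card {i // d i - lam = 0} = Nat.card {i // d i = lam} := by
    rw [← Nat.card_eq_fintype_card]
    exact Nat.card_congr (Equiv.subtypeEquivRight fun i => sub_eq_zero)
  have h5 : Fintype.card {i // d i - lam = 0} ≤ n := (Fintype.card_subtype_le _).trans (Fintype.card_fin n).le
  omega

/-- Involution with even eigenspaces. -/
theorem ten_of_even {g : Module.End F V} {w : F} (hw : w ≠ 0) {i j : ℕ} (hb : i + j = b)
    (h2 : (2 : F) ≠ 0) {y : Module.End F V} (hy : y ^ 2 = 1) (hgy : g = w • y)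
    (hi : finrank F ↥(LinearMap.ker (y - 1)) = 2 * i) (hj : finrank F ↥(LinearMap.range (y - 1)) = 2 * j) :
    Ten g 2 b := by
  classical
  set K := LinearMap.ker (y - 1)
  set T := LinearMap.range (y - 1)
  have hc : IsCompl K T := isCompl_ker_range (r := 2) (by exact_mod_cast h2) hy
  have hyK : ∀ v ∈ K, y v = v := fun v hv => by
    rw [LinearMap.mem_ker, LinearMap.sub_apply, Module.End.one_apply, sub_eq_zero] at hv
    exact hv
  have hyT : ∀ v ∈ T, y v = -v := by
    rintro _ ⟨u, rfl⟩
    have h3 : y (y u) = u := by rw [← Module.End.mul_apply, ← sq, hy, Module.End.one_apply]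
    simp [h3]
  let e₁ : (Fin 2 → Fin i → F) ≃ₗ[F] ↥K := LinearEquiv.ofFinrankEq _ _ (by
    rw [Module.finrank_pi_fintype, hi]; simp [mul_comm])
  let e₂ : (Fin 2 → Fin j → F) ≃ₗ[F] ↥T := LinearEquiv.ofFinrankEq _ _ (by
    rw [Module.finrank_pi_fintype, hj]; simp [mul_comm])
  let s : (Fin 2 × Fin i) ⊕ (Fin 2 × Fin j) ≃ Fin 2 × Fin b :=
    (Equiv.prodSumDistrib _ _ _).symm.trans
      ((Equiv.refl _).prodCongr (finSumFinEquiv.trans (finCongr hb)))
  let φ : (Fin 2 × Fin b → F) ≃ₗ[F] V :=
    (LinearEquiv.funCongrLeft F F s).trans <| (LinearEquiv.sumArrowLequivProdArrow _ _ F F).trans <|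
      (((LinearEquiv.curry F F (Fin 2) (Fin i)).trans e₁).prodCongr
        ((LinearEquiv.curry F F (Fin 2) (Fin j)).trans e₂)).trans
      (Submodule.prodEquivOfIsCompl K T hc)
  let d : Fin b → F := fun l => if (l : ℕ) < i then w else -w
  have hd : ∀ l, d l ≠ 0 := fun l => by
    simp only [d]; split_ifs <;> simp [hw]
  have hdet : IsUnit (Matrix.diagonal d).det := by
    rw [Matrix.det_diagonal]; exact isUnit_iff_ne_zero.2 (Finset.prod_ne_zero_iff.2 fun l _ => hd l)
  refine ⟨1, ((Matrix.isUnit_iff_isUnit_det _).2 hdet).unit, φ, fun v => ?_⟩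
  have hv : ((((1 : GL (Fin 2) F) : Matrix (Fin 2) (Fin 2) F) ⊗ₖ
      (((Matrix.isUnit_iff_isUnit_det _).2 hdet).unit : Matrix (Fin b) (Fin b) F)) *ᵥ v) =
      fun x => d x.2 * v x := by
    rw [IsUnit.unit_spec, Units.val_one, ← Matrix.diagonal_one, Matrix.diagonal_kronecker_diagonal]
    funext x
    rw [Matrix.mulVec_diagonal, one_mul]
  rw [hv]
  have hφ : ∀ v, φ v = (e₁ (fun p l => v (s (Sum.inl (p, l)))) : V) +
      (e₂ (fun p l => v (s (Sum.inr (p, l)))) : V) := fun v => by
    simp only [φ, LinearEquiv.trans_apply, Submodule.coe_prodEquivOfIsCompl']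
    rfl
  have hl : ∀ (p : Fin 2) (l : Fin i), d (s (Sum.inl (p, l))).2 = w := fun p l => by
    simp [d, s]
  have hr : ∀ (p : Fin 2) (l : Fin j), d (s (Sum.inr (p, l))).2 = -w := fun p l => by
    simp [d, s]
  rw [hφ, hφ, hgy, LinearMap.smul_apply, map_add, hyK _ (Subtype.mem _), hyT _ (Subtype.mem _),
    smul_add, smul_neg]
  congr 1
  · rw [show (fun (p : Fin 2) (l : Fin i) => d (s (Sum.inl (p, l))).2 * v (s (Sum.inl (p, l)))) =
      w • fun (p : Fin 2) (l : Fin i) => v (s (Sum.inl (p, l))) by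
        funext p l; rw [hl]; rfl, map_smul, Submodule.coe_smul]
  · rw [show (fun (p : Fin 2) (l : Fin j) => d (s (Sum.inr (p, l))).2 * v (s (Sum.inr (p, l)))) =
      (-w) • fun (p : Fin 2) (l : Fin j) => v (s (Sum.inr (p, l))) by
        funext p l; rw [hr]; rfl, map_smul, Submodule.coe_smul, neg_smul]

/-- An element whose square is a non-square scalar. -/
theorem ten_of_not_square {g : Module.End F V} {z : F} (hz : z ≠ 0) (hg : g ^ 2 = z • 1)
    (hnp : ∀ c : F, c ^ 2 ≠ z) (hdim : finrank F V = 2 * b) : Ten g 2 b := by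
  classical
  have hgg : ∀ v, g (g v) = z • v := fun v => by
    rw [← Module.End.mul_apply, ← sq, hg]; rfl
  obtain ⟨k, s, B, hB⟩ := SquareScalarBasis.monomial_of_not_square g z hgg
    (fun c => by rw [← sq]; exact hnp c)
  have hginj : Function.Injective g := fun u v h => by
    have := congrArg g h
    rwa [hgg, hgg, smul_right_inj hz] at this
  have hs : IsEmpty (Fin s) := ⟨fun l => by
    obtain ⟨c, hc⟩ := hB (Sum.inr l)
    simp only [InvolBlocks.swapPairs, Sum.map_inr, id_eq] at hc
    have h1 := congrArg g hc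
    rw [hgg, map_smul, hc, smul_smul] at h1
    exact hnp c (by rw [sq]; exact (smul_left_injective F (B.ne_zero _) h1).symm)⟩
  have hk : k = b := by
    have h1 := Module.finrank_eq_card_basis B
    rw [hdim, Fintype.card_sum, Fintype.card_prod, Fintype.card_fin, Fintype.card_fin,
      Fintype.card_eq_zero] at h1
    omega
  subst hk
  let fam : Fin 2 × Fin k → V := fun x =>
    if x.1 = 0 then B (Sum.inl (x.2, 0)) else g (B (Sum.inl (x.2, 0)))
  have hsp : ⊤ ≤ Submodule.span F (Set.range fam) := by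
    rw [← B.span_eq, Submodule.span_le]
    rintro _ ⟨(⟨m, ε⟩ | l), rfl⟩
    · obtain ⟨c, hc⟩ := hB (Sum.inl (m, 0))
      have h1 : B (Sum.inl (m, 0)) ∈ Submodule.span F (Set.range fam) :=
        Submodule.subset_span ⟨(0, m), by simp [fam]⟩
      fin_cases ε
      · exact h1
      · have h2 : g (B (Sum.inl (m, 0))) ∈ Submodule.span F (Set.range fam) :=
          Submodule.subset_span ⟨(1, m), by simp [fam]⟩
        have hc0 : c ≠ 0 := fun e => by
          rw [e, zero_smul] at hc
          exact B.ne_zero _ (hginj (hc.trans (map_zero g).symm))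
        have h3 : g (B (Sum.inl (m, 0))) = c • B (Sum.inl (m, 1)) := by
          simpa [InvolBlocks.swapPairs] using hc
        rw [h3] at h2
        exact (Submodule.smul_mem_iff _ hc0).1 h2
    · exact (hs.false l).elim
  let C := basisOfTopLeSpanOfCardEqFinrank fam hsp (by simp [hdim])
  let A : Matrix (Fin 2) (Fin 2) F := !![0, z; 1, 0]
  have hA : IsUnit A.det := by
    rw [Matrix.det_fin_two]; simp [A, hz]
  refine ⟨((Matrix.isUnit_iff_isUnit_det _).2 hA).unit, 1, C.equivFun.symm, fun v => ?_⟩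
  rw [IsUnit.unit_spec, Units.val_one]
  suffices g ∘ₗ C.equivFun.symm.toLinearMap =
      C.equivFun.symm.toLinearMap ∘ₗ Matrix.toLin' (A ⊗ₖ (1 : Matrix (Fin k) (Fin k) F)) from
    LinearMap.congr_fun this v
  refine (Pi.basisFun F (Fin 2 × Fin k)).ext fun x => ?_
  obtain ⟨p, l⟩ := x
  simp only [LinearMap.comp_apply, LinearEquiv.coe_coe, Pi.basisFun_apply, Matrix.toLin'_apply,
    Matrix.mulVec_single_one, Module.Basis.equivFun_symm_apply]
  have hC : ∀ x, C x = fam x := fun x => by simp [C]
  simp only [hC, Fintype.sum_prod_type, Fin.sum_univ_two]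
  fin_cases p
  · simp [A, fam, Matrix.col_apply, Matrix.one_apply, Pi.single_apply, Prod.ext_iff]
  · simp [A, fam, Matrix.col_apply, Matrix.one_apply, Pi.single_apply, Prod.ext_iff, hgg]

end Cfsg.Agent.TensorDerange84
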