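import Cfsg.Agent.Lib.TensorMaxBasic

/-!
Tensor products of two forms: the operators `J_a X P_c` and their calculus.
-/

set_option autoImplicit false
set_option linter.unusedSectionVars false

namespace Cfsg.Agent.TensorMax

open scoped Matrix MatrixGroups Kronecker
open Cfsg.Agent.TransvectionMax

variable {F : Type*} [Field F] {n k l : ℕ}

/-- A non-degenerate form, linear in the first argument and `σ`-semilinear in the second, with `f y x = ε σ (f x y)`. -/
structure SForm (σ : F →+* F) (ε : F) (f : (Fin n → F) → (Fin n → F) → F) : Prop where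
  add_left : ∀ x y v, f (x + y) v = f x v + f y v
  smul_left : ∀ (c : F) (x v : Fin n → F), f (c • x) v = c * f x v
  herm : ∀ x y, f y x = ε * σ (f x y)
  invol : ∀ c, σ (σ c) = c
  eps : ε * σ ε = 1
  nd : ∀ x, (∀ y, f x y = 0) → x = 0

namespace SForm

variable {σ : F →+* F} {ε : F} {f : (Fin n → F) → (Fin n → F) → F}

theorem eps_ne (h : SForm σ ε f) : ε ≠ 0 := left_ne_zero_of_mul_eq_one h.eps

theorem add_right (h : SForm σ ε f) (v x y : Fin n → F) : f v (x + y) = f v x + f v y := by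
  rw [h.herm (x + y) v, h.add_left, map_add, mul_add, ← h.herm, ← h.herm]

theorem smul_right (h : SForm σ ε f) (c : F) (v x : Fin n → F) : f v (c • x) = σ c * f v x := by
  rw [h.herm (c • x) v, h.smul_left, map_mul, h.herm x v]
  ring

theorem zero_left (h : SForm σ ε f) (v : Fin n → F) : f 0 v = 0 := by
  simpa using h.smul_left 0 0 v

theorem zero_right (h : SForm σ ε f) (v : Fin n → F) : f v 0 = 0 := by
  simpa using h.smul_right 0 v 0

theorem sub_left (h : SForm σ ε f) (x y v : Fin n → F) : f (x - y) v = f x v - f y v := by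
  rw [eq_sub_iff_add_eq, ← h.add_left, sub_add_cancel]

theorem sub_right (h : SForm σ ε f) (v x y : Fin n → F) : f v (x - y) = f v x - f v y := by
  rw [eq_sub_iff_add_eq, ← h.add_right, sub_add_cancel]

theorem neg_right (h : SForm σ ε f) (v x : Fin n → F) : f v (-x) = - f v x := by
  rw [← neg_one_smul F x, h.smul_right, map_neg, map_one, neg_one_mul]

theorem symm_zero (h : SForm σ ε f) {x y : Fin n → F} (e : f x y = 0) : f y x = 0 := by
  rw [h.herm, e, map_zero, mul_zero]

theorem sum_left (h : SForm σ ε f) {κ : Type*} (s : Finset κ) (g : κ → Fin n → F) (v : Fin n → F) :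
    f (∑ i ∈ s, g i) v = ∑ i ∈ s, f (g i) v :=
  map_sum ({ toFun := fun x => f x v, map_zero' := h.zero_left v, map_add' := fun x y => h.add_left x y v } :
    (Fin n → F) →+ F) g s

theorem sum_right (h : SForm σ ε f) {κ : Type*} (v : Fin n → F) (s : Finset κ) (g : κ → Fin n → F) :
    f v (∑ i ∈ s, g i) = ∑ i ∈ s, f v (g i) :=
  map_sum ({ toFun := fun x => f v x, map_zero' := h.zero_right v, map_add' := h.add_right v } :
    (Fin n → F) →+ F) g s

theorem row_dot (h : SForm σ ε f) (c x : Fin n → F) : row f c ⬝ᵥ x = f x c := by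
  conv_rhs => rw [pi_eq_sum_univ' x, h.sum_left]
  exact Finset.sum_congr rfl fun j _ => by rw [h.smul_left, row, mul_comm]

theorem expand (h : SForm σ ε f) (x y : Fin n → F) :
    f x y = ∑ a, ∑ b, x a * (f (Pi.single a 1) (Pi.single b 1)) * σ (y b) := by
  conv_lhs => rw [pi_eq_sum_univ' x, h.sum_left]
  refine Finset.sum_congr rfl fun a _ => ?_
  rw [h.smul_left]
  conv_lhs => rw [pi_eq_sum_univ' y, h.sum_right, Finset.mul_sum]
  exact Finset.sum_congr rfl fun b _ => by rw [h.smul_right]; ring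

theorem eq_of_left (h : SForm σ ε f) {x y : Fin n → F} (e : ∀ v, f v x = f v y) : x = y := by
  refine sub_eq_zero.1 (h.nd _ fun v => h.symm_zero ?_)
  rw [h.sub_right, e, sub_self]

end SForm

variable (σ : F →+* F)

/-- `X'` is adjoint to `X`. -/
def IsAdj (f : (Fin n → F) → (Fin n → F) → F) (X X' : Module.End F (Fin n → F)) : Prop :=
  ∀ v w, f (X v) w = f v (X' w)

namespace IsAdj

variable {σ} {ε : F} {f : (Fin n → F) → (Fin n → F) → F} {X X' Y Y' : Module.End F (Fin n → F)}

theorem unique (hf : SForm σ ε f) (h : IsAdj f X X') (h' : IsAdj f X Y') : X' = Y' :=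
  LinearMap.ext fun w => hf.eq_of_left fun v => by rw [← h, ← h']

theorem symm (hf : SForm σ ε f) (h : IsAdj f X X') : IsAdj f X' X := fun v w => by
  rw [hf.herm w (X' v), hf.herm (X w) v, h w v]

theorem mul (h : IsAdj f X X') (h' : IsAdj f Y Y') : IsAdj f (X * Y) (Y' * X') := fun v w => by
  show f (X (Y v)) w = f v (Y' (X' w))
  rw [h, h']

theorem add (hf : SForm σ ε f) (h : IsAdj f X X') (h' : IsAdj f Y Y') : IsAdj f (X + Y) (X' + Y') := fun v w => by
  rw [LinearMap.add_apply, LinearMap.add_apply, hf.add_left, hf.add_right, h, h']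

theorem smul (hf : SForm σ ε f) (c : F) (h : IsAdj f X X') : IsAdj f (c • X) (σ c • X') := fun v w => by
  rw [LinearMap.smul_apply, LinearMap.smul_apply, hf.smul_left, hf.smul_right, hf.invol, h]

theorem one : IsAdj f (1 : Module.End F (Fin n → F)) 1 := fun _ _ => rfl

theorem neg (hf : SForm σ ε f) (h : IsAdj f X X') : IsAdj f (-X) (-X') := fun v w => by
  rw [LinearMap.neg_apply, LinearMap.neg_apply, hf.neg_right, ← h, ← zero_sub, hf.sub_left, hf.zero_left, zero_sub]

theorem sub (hf : SForm σ ε f) (h : IsAdj f X X') (h' : IsAdj f Y Y') : IsAdj f (X - Y) (X' - Y') := by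
  simpa only [sub_eq_add_neg] using h.add hf (h'.neg hf)

end IsAdj

variable (f₂ : (Fin l → F) → (Fin l → F) → F)

/-- The contraction with `f₂ (·, c)`. -/
def Pf (k : ℕ) (c : Fin l → F) : (Fin k × Fin l → F) →ₗ[F] (Fin k → F) := P (row f₂ c)

/-- `J_a X P_c`. -/
def SOp (a : Fin l → F) (X : Module.End F (Fin k → F)) (c : Fin l → F) : Module.End F (Fin k × Fin l → F) :=
  (J a).comp (X.comp (Pf f₂ k c))

theorem SOp_apply (a : Fin l → F) (X : Module.End F (Fin k → F)) (c : Fin l → F) (u : Fin k × Fin l → F) :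
    SOp f₂ a X c u = tp (X (Pf f₂ k c u)) a := rfl

/-- The form on the tensor product. -/
def tForm (σ : F →+* F) (f₁ : (Fin k → F) → (Fin k → F) → F) (f₂ : (Fin l → F) → (Fin l → F) → F)
    (u w : Fin k × Fin l → F) : F :=
  Cfsg.Geo.formOfGram σ (Cfsg.Geo.gramMatrix f₁ ⊗ₖ Cfsg.Geo.gramMatrix f₂) u w

variable {σ f₂} {ε₁ ε₂ : F} {f₁ : (Fin k → F) → (Fin k → F) → F}

theorem tp_add_right (v : Fin k → F) (a b : Fin l → F) : tp v (a + b) = tp v a + tp v b :=
  funext fun p => by simp [tp, mul_add]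

theorem tp_smul_right (s : F) (v : Fin k → F) (a : Fin l → F) : tp v (s • a) = s • tp v a :=
  funext fun p => by simp [tp]; ring

theorem tp_zero_right (v : Fin k → F) : tp v (0 : Fin l → F) = 0 := funext fun p => by simp [tp]

theorem tp_add_left (v w : Fin k → F) (a : Fin l → F) : tp (v + w) a = tp v a + tp w a := map_add (J a) v w

theorem tp_smul_left (s : F) (v : Fin k → F) (a : Fin l → F) : tp (s • v) a = s • tp v a := map_smul (J a) s v

theorem tp_zero_left (a : Fin l → F) : tp (0 : Fin k → F) a = 0 := map_zero (J a)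

theorem tp_decomp (u : Fin k × Fin l → F) : u = ∑ i, tp (Pi.single i 1) (fun j => u (i, j)) :=
  funext fun p => by simp [tp, Finset.sum_apply, Pi.single_apply]

section Two

variable (h₂ : SForm σ ε₂ f₂)
include h₂

theorem Pf_tp (c a : Fin l → F) (v : Fin k → F) : Pf f₂ k c (tp v a) = f₂ a c • v := by
  rw [Pf, P_tp, h₂.row_dot]

theorem Pf_apply (c : Fin l → F) (u : Fin k × Fin l → F) (i : Fin k) :
    Pf f₂ k c u i = f₂ (fun j => u (i, j)) c := by
  rw [Pf, P_apply, h₂.row_dot]

theorem Pf_add (c d : Fin l → F) (u : Fin k × Fin l → F) : Pf f₂ k (c + d) u = Pf f₂ k c u + Pf f₂ k d u :=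
  funext fun i => by rw [Pi.add_apply, Pf_apply h₂, Pf_apply h₂, Pf_apply h₂, h₂.add_right]

theorem Pf_smul (s : F) (c : Fin l → F) (u : Fin k × Fin l → F) : Pf f₂ k (s • c) u = σ s • Pf f₂ k c u :=
  funext fun i => by rw [Pi.smul_apply, Pf_apply h₂, Pf_apply h₂, h₂.smul_right, smul_eq_mul]

theorem SOp_mul (a c a' c' : Fin l → F) (X X' : Module.End F (Fin k → F)) :
    SOp f₂ a X c * SOp f₂ a' X' c' = f₂ a' c • SOp f₂ a (X * X') c' := by
  refine LinearMap.ext fun u => ?_
  show SOp f₂ a X c (SOp f₂ a' X' c' u) = f₂ a' c • SOp f₂ a (X * X') c' u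
  rw [SOp_apply, SOp_apply, SOp_apply, Pf_tp h₂, map_smul, tp_smul_left]
  rfl

theorem SOp_add_left (a a' : Fin l → F) (X : Module.End F (Fin k → F)) (c : Fin l → F) :
    SOp f₂ (a + a') X c = SOp f₂ a X c + SOp f₂ a' X c :=
  LinearMap.ext fun u => by simp only [LinearMap.add_apply, SOp_apply, tp_add_right]

theorem SOp_add_right (a : Fin l → F) (X : Module.End F (Fin k → F)) (c c' : Fin l → F) :
    SOp f₂ a X (c + c') = SOp f₂ a X c + SOp f₂ a X c' :=
  LinearMap.ext fun u => by simp only [LinearMap.add_apply, SOp_apply, Pf_add h₂, map_add, tp_add_left]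

theorem SOp_smul_left (s : F) (a : Fin l → F) (X : Module.End F (Fin k → F)) (c : Fin l → F) :
    SOp f₂ (s • a) X c = s • SOp f₂ a X c :=
  LinearMap.ext fun u => by simp only [LinearMap.smul_apply, SOp_apply, tp_smul_right]

theorem SOp_smul_right (s : F) (a : Fin l → F) (X : Module.End F (Fin k → F)) (c : Fin l → F) :
    SOp f₂ a X (s • c) = σ s • SOp f₂ a X c :=
  LinearMap.ext fun u => by simp only [LinearMap.smul_apply, SOp_apply, Pf_smul h₂, map_smul, tp_smul_left]

theorem SOp_smul (s : F) (a : Fin l → F) (X : Module.End F (Fin k → F)) (c : Fin l → F) :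
    SOp f₂ a (s • X) c = s • SOp f₂ a X c :=
  LinearMap.ext fun u => by simp only [LinearMap.smul_apply, SOp_apply, tp_smul_left]

theorem SOp_add (a : Fin l → F) (X Y : Module.End F (Fin k → F)) (c : Fin l → F) :
    SOp f₂ a (X + Y) c = SOp f₂ a X c + SOp f₂ a Y c :=
  LinearMap.ext fun u => by simp only [LinearMap.add_apply, SOp_apply, tp_add_left]

theorem SOp_zero (a : Fin l → F) (c : Fin l → F) : SOp f₂ a (0 : Module.End F (Fin k → F)) c = 0 :=
  LinearMap.ext fun u => by simp only [SOp_apply, LinearMap.zero_apply, tp_zero_left]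

theorem SOp_eq_iff {a c : Fin l → F} (ha : a ≠ 0) (hc : c ≠ 0) {X Y : Module.End F (Fin k → F)} :
    SOp f₂ a X c = SOp f₂ a Y c ↔ X = Y := by
  refine ⟨fun h => LinearMap.ext fun v => ?_, fun h => by rw [h]⟩
  have hψ : row f₂ c ≠ 0 := by
    intro e
    obtain ⟨y, hy⟩ : ∃ y, f₂ c y ≠ 0 := by
      by_contra! h0
      exact hc (h₂.nd c h0)
    exact hy (h₂.symm_zero (by rw [← h₂.row_dot, e, zero_dotProduct]))
  obtain ⟨u, hu⟩ := P_surjective (k := k) hψ v
  have := LinearMap.congr_fun h u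
  rw [SOp_apply, SOp_apply] at this
  rw [Pf, hu] at this
  exact J_injective ha this

variable (h₁ : SForm σ ε₁ f₁)
include h₁

theorem tForm_tp (v w : Fin k → F) (a c : Fin l → F) :
    tForm σ f₁ f₂ (tp v a) (tp w c) = f₁ v w * f₂ a c := by
  rw [h₁.expand v w, h₂.expand a c]
  simp only [tForm, Cfsg.Geo.formOfGram, tp, Matrix.kroneckerMap_apply, Fintype.sum_prod_type, Finset.sum_mul_sum,
    map_mul]
  refine Finset.sum_congr rfl fun i _ => Finset.sum_congr rfl fun j _ => ?_
  exact Finset.sum_congr rfl fun i' _ => Finset.sum_congr rfl fun j' _ => by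
    simp only [Cfsg.Geo.gramMatrix]; ring

omit h₁ h₂ in
theorem tForm_add_left (u u' w : Fin k × Fin l → F) :
    tForm σ f₁ f₂ (u + u') w = tForm σ f₁ f₂ u w + tForm σ f₁ f₂ u' w := by
  simp only [tForm, Cfsg.Geo.formOfGram, Pi.add_apply, add_mul, Finset.sum_add_distrib]

omit h₁ h₂ in
theorem tForm_sum_left {κ : Type*} (s : Finset κ) (g : κ → Fin k × Fin l → F) (w : Fin k × Fin l → F) :
    tForm σ f₁ f₂ (∑ i ∈ s, g i) w = ∑ i ∈ s, tForm σ f₁ f₂ (g i) w :=
  map_sum ({ toFun := fun u => tForm σ f₁ f₂ u w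
             map_zero' := by simp [tForm, Cfsg.Geo.formOfGram]
             map_add' := fun u u' => tForm_add_left u u' w } : (Fin k × Fin l → F) →+ F) g s

theorem tForm_right (u : Fin k × Fin l → F) (w : Fin k → F) (c : Fin l → F) :
    tForm σ f₁ f₂ u (tp w c) = f₁ (Pf f₂ k c u) w := by
  conv_lhs => rw [tp_decomp u, tForm_sum_left]
  conv_rhs => rw [tp_decomp u, map_sum, h₁.sum_left]
  exact Finset.sum_congr rfl fun i _ => by rw [tForm_tp h₂ h₁, Pf_tp h₂, h₁.smul_left, mul_comm]

theorem tForm_left (u : Fin k × Fin l → F) (w : Fin k → F) (c : Fin l → F) :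
    tForm σ f₁ f₂ (tp w c) u = ε₁ * ε₂ * σ (tForm σ f₁ f₂ u (tp w c)) := by
  conv_rhs => rw [tp_decomp u, tForm_sum_left, map_sum, Finset.mul_sum]
  conv_lhs => rw [tp_decomp u]
  rw [show tForm σ f₁ f₂ (tp w c) (∑ i, tp (Pi.single i 1) fun j => u (i, j)) =
      ∑ i, tForm σ f₁ f₂ (tp w c) (tp (Pi.single i 1) fun j => u (i, j)) from
    map_sum ({ toFun := fun y => tForm σ f₁ f₂ (tp w c) y
               map_zero' := by simp [tForm, Cfsg.Geo.formOfGram]
               map_add' := fun y y' => by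
                 simp only [tForm, Cfsg.Geo.formOfGram, Pi.add_apply, map_add, mul_add,
                   Finset.sum_add_distrib] } : (Fin k × Fin l → F) →+ F) _ _]
  refine Finset.sum_congr rfl fun i _ => ?_
  rw [tForm_tp h₂ h₁, tForm_tp h₂ h₁, h₁.herm, h₂.herm (fun j => u (i, j)) c, map_mul]
  ring

end Two

end Cfsg.Agent.TensorMax
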