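import Cfsg.Agent.Lib.TensorMaxSympCtx
import Cfsg.Agent.Lib.TransvectionUnitaryGen

/-!
Hermitian forms over a finite field in the notation of the tensor product calculus: isotropic vectors, transitivity,
and the ruler context of a unitary second factor.
-/

set_option autoImplicit false
set_option linter.unusedSectionVars false

namespace Cfsg.Agent.TensorMax

open scoped Matrix MatrixGroups Kronecker
open Cfsg.Agent.TransvectionMax

variable {F : Type*} [Field F] [Fintype F] {σ : F →+* F} {n k l : ℕ} {f : (Fin n → F) → (Fin n → F) → F}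

/-- A hermitian form: sesquilinear for a non-trivial involution, with `f y x = σ (f x y)`. -/
structure UForm (σ : F →+* F) (f : (Fin n → F) → (Fin n → F) → F) : Prop where
  s : SForm σ 1 f
  ne : ∃ c, σ c ≠ c

/-- The involution as an automorphism. -/
noncomputable def UForm.tau (h : UForm σ f) : F ≃+* F :=
  RingEquiv.ofBijective σ (Function.Involutive.bijective h.s.invol)

namespace UForm

variable (h : UForm σ f)
include h

theorem tau_apply (c : F) : h.tau c = σ c := rfl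

theorem isU : Cfsg.Geo.IsUnitaryForm h.tau f where
  ne_refl e := by
    obtain ⟨c, hc⟩ := h.ne
    exact hc (by rw [← h.tau_apply, e, RingEquiv.refl_apply])
  involutive := h.s.invol
  add_left := h.s.add_left
  smul_left := h.s.smul_left
  herm v w := by rw [h.tau_apply, h.s.herm w v, one_mul]
  nondegenerate v hv := by
    obtain ⟨x, hx⟩ : ∃ x, f v x ≠ 0 := by
      by_contra! h0
      exact hv (h.s.nd v h0)
    exact ⟨⟨x, fun e => hx (h.s.symm_zero e)⟩, ⟨x, hx⟩⟩

theorem conj_f (x y : Fin n → F) : σ (f x y) = f y x := by rw [h.s.herm x y, one_mul]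

theorem self_fixed (x : Fin n → F) : σ (f x x) = f x x := h.conj_f x x

theorem exists_trace {a : F} (ha : σ a = a) : ∃ z : F, z + σ z = a :=
  TransvectionUnitary.exists_trace_eq h.isU ha

theorem exists_norm {a : F} (ha : σ a = a) : ∃ z : F, z * σ z = a :=
  TransvectionUnitary.exists_norm_eq h.isU ha

theorem exists_skew : ∃ z : F, z ≠ 0 ∧ σ z = -z := TransvectionUnitary.exists_tz h.isU

theorem skew_mul_skew {a b : F} (ha : σ a = -a) (hb : σ b = -b) : σ (a * b) = a * b := by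
  rw [map_mul, ha, hb, neg_mul_neg]

theorem exists_isotropic {X : Submodule F (Fin n → F)} (hX : 2 ≤ Module.finrank F X) :
    ∃ p ∈ X, p ≠ 0 ∧ f p p = 0 :=
  TransvectionUnitary.exists_isotropic h.isU hX

/-- An isotropic vector orthogonal to fewer than `n - 1` vectors. -/
theorem exists_iso_perp {m : ℕ} (hm : m + 2 ≤ n) (v : Fin m → Fin n → F) :
    ∃ b, Iso f b ∧ ∀ i, f b (v i) = 0 := by
  let L : (Fin n → F) →ₗ[F] (Fin m → F) :=
    { toFun := fun b i => f b (v i)
      map_add' := fun x y => funext fun i => h.s.add_left x y _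
      map_smul' := fun c x => funext fun i => h.s.smul_left c x _ }
  have h1 := LinearMap.finrank_range_add_finrank_ker L
  have h2 := Submodule.finrank_le (LinearMap.range L)
  rw [Module.finrank_fin_fun] at h1 h2
  obtain ⟨p, hp, hp0, hpp⟩ := h.exists_isotropic (X := LinearMap.ker L) (by omega)
  exact ⟨p, ⟨hp0, hpp⟩, fun i => congrFun (show L p = 0 from hp) i⟩

/-- The isotropic partner of an isotropic vector. -/
theorem exists_partner {e : Fin n → F} (he : Iso f e) : ∃ r, Iso f r ∧ f e r = 1 ∧ f r e = 1 := by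
  obtain ⟨r, -, hr, her⟩ := TransvectionUnitaryGen.exists_partner h.isU (U := ⊤)
    (fun w _ hw => by
      obtain ⟨⟨x, hx⟩, ⟨y, hy⟩⟩ := h.isU.nondegenerate w hw
      exact ⟨⟨x, Submodule.mem_top, hx⟩, ⟨y, Submodule.mem_top, hy⟩⟩)
    Submodule.mem_top he.1 he.2
  refine ⟨r, ⟨fun e0 => ?_, hr⟩, her, by rw [← h.conj_f, her, map_one]⟩
  rw [e0, h.s.zero_right] at her
  exact zero_ne_one her

/-- A submodule with a hyperbolic pair is spanned by its isotropic vectors. -/
theorem le_span_iso {U : Submodule F (Fin n → F)} {e r : Fin n → F} (he : e ∈ U) (hr : r ∈ U) (hee : f e e = 0)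
    (hrr : f r r = 0) (her : f e r = 1) : U ≤ Submodule.span F {b | b ∈ U ∧ f b b = 0} := by
  set S := Submodule.span F {b | b ∈ U ∧ f b b = 0}
  have heS : e ∈ S := Submodule.subset_span ⟨he, hee⟩
  have key : ∀ y ∈ U, f y e ≠ 0 → y ∈ S := by
    intro y hy hye
    obtain ⟨μ, hμ⟩ := h.exists_trace (a := -f y y) (by rw [map_neg, h.self_fixed])
    set t := μ / f e y
    have hey : f e y ≠ 0 := fun e0 => hye (h.s.symm_zero e0)
    have hiso : f (y + t • e) (y + t • e) = 0 := by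
      rw [h.s.add_left, h.s.add_right, h.s.add_right, h.s.smul_left, h.s.smul_left, h.s.smul_right, h.s.smul_right,
        hee, map_div₀, h.conj_f, div_mul_cancel₀ _ hye, div_mul_cancel₀ _ hey]
      linear_combination hμ
    have := S.sub_mem (Submodule.subset_span ⟨U.add_mem hy (U.smul_mem t he), hiso⟩ : y + t • e ∈ S) (S.smul_mem t heS)
    rwa [add_sub_cancel_right] at this
  intro y hy
  by_cases hye : f y e = 0
  · have h1 := key (y + r) (U.add_mem hy hr) (by
      rw [h.s.add_left, hye, ← h.conj_f, her, map_one, zero_add]; exact one_ne_zero)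
    have := S.sub_mem h1 (Submodule.subset_span ⟨hr, hrr⟩ : r ∈ S)
    rwa [add_sub_cancel_right] at this
  · exact key y hy hye

theorem span_iso (hn : 2 ≤ n) : Submodule.span F {b | f b b = 0} = ⊤ := by
  obtain ⟨e, he, -⟩ := h.exists_iso_perp (m := 0) (by omega) Fin.elim0
  obtain ⟨r, hr, her, -⟩ := h.exists_partner he
  rw [← top_le_iff]
  refine (h.le_span_iso (U := ⊤) Submodule.mem_top Submodule.mem_top he.2 hr.2 her).trans (Submodule.span_mono ?_)
  exact fun b hb => hb.2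

/-- The vectors orthogonal to all isotropic vectors of a perp are multiples. -/
theorem span_perp (hn : 4 ≤ n) {a : Fin n → F} (ha : Iso f a) {w : Fin n → F}
    (hw : ∀ b, f b b = 0 → f b a = 0 → f w b = 0) : ∃ y : F, w = y • a := by
  obtain ⟨e, he, hae, hea⟩ := h.exists_partner ha
  obtain ⟨p, hp, hp'⟩ := h.exists_iso_perp (m := 2) (by omega) ![a, e]
  set U := (⊤ : Submodule F (Fin n → F)) ⊓ TransvectionUnitary.perp h.isU (Submodule.span F {a, e})
  have hU := TransvectionUnitaryGen.inf_perp_pair_nondeg h.isU (U := ⊤)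
    (fun w _ hw => by
      obtain ⟨⟨x, hx⟩, ⟨y, hy⟩⟩ := h.isU.nondegenerate w hw
      exact ⟨⟨x, Submodule.mem_top, hx⟩, ⟨y, Submodule.mem_top, hy⟩⟩)
    Submodule.mem_top Submodule.mem_top ha.2 he.2 (by rw [hae]; exact one_ne_zero)
  have hpU : p ∈ U := ⟨Submodule.mem_top, (TransvectionUnitary.mem_perp_pair h.isU).2 ⟨hp' 0, hp' 1⟩⟩
  obtain ⟨r, hrU, hrr, hpr⟩ := TransvectionUnitaryGen.exists_partner h.isU hU hpU hp.1 hp.2
  have hUw : ∀ y ∈ U, f w y = 0 := by
    intro y hy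
    have hy' := h.le_span_iso hpU hrU hp.2 hrr hpr hy
    clear hy
    induction hy' using Submodule.span_induction with
    | mem b hb => exact hw b hb.2 ((TransvectionUnitary.mem_perp_pair h.isU).1 hb.1.2).1
    | zero => exact h.s.zero_right w
    | add u v _ _ h1 h2 => rw [h.s.add_right, h1, h2, add_zero]
    | smul c u _ h1 => rw [h.s.smul_right, h1, mul_zero]
  have hwa : f w a = 0 := hw a ha.2 ha.2
  refine ⟨f w e, ?_⟩
  refine h.s.eq_of_left fun v => ?_
  have hperp : ∀ y, f y a = 0 → f w y = 0 := by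
    intro y hy
    have hy2 : y - f y e • a ∈ U := ⟨Submodule.mem_top, (TransvectionUnitary.mem_perp_pair h.isU).2
      ⟨by rw [h.s.sub_left, h.s.smul_left, hy, ha.2, mul_zero, sub_zero],
        by rw [h.s.sub_left, h.s.smul_left, hae, mul_one, sub_self]⟩⟩
    have := hUw _ hy2
    rwa [h.s.sub_right, h.s.smul_right, hwa, mul_zero, sub_zero] at this
  have h1 := h.s.symm_zero (hperp (v - f v a • e) (by rw [h.s.sub_left, h.s.smul_left, hea, mul_one, sub_self]))
  rw [h.s.sub_left, h.s.smul_left, sub_eq_zero] at h1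
  rw [h1, h.s.smul_right, h.conj_f, mul_comm]

/-- An isotropic vector pairing non-trivially with two given ones. -/
theorem exists_common {v w : Fin n → F} (hv : Iso f v) (hw : Iso f w) :
    ∃ z, Iso f z ∧ f z v ≠ 0 ∧ f z w ≠ 0 := by
  obtain ⟨r, hr, -, hrv⟩ := h.exists_partner hv
  by_cases hrw : f r w = 0
  · obtain ⟨r', hr', -, hr'w⟩ := h.exists_partner hw
    by_cases hr'v : f r' v = 0
    · by_cases hvw : f v w = 0
      · obtain ⟨μ, hμ⟩ := h.exists_trace (a := -f (r + r') (r + r')) (by rw [map_neg, h.self_fixed])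
        have h1 : f (r + r') v = 1 := by rw [h.s.add_left, hrv, hr'v, add_zero]
        have h1' : f v (r + r') = 1 := by rw [← h.conj_f, h1, map_one]
        have h2 : f (r + r' + μ • v) v = 1 := by rw [h.s.add_left, h.s.smul_left, hv.2, h1, mul_zero, add_zero]
        refine ⟨r + r' + μ • v, ⟨fun e => ?_, ?_⟩, by rw [h2]; exact one_ne_zero, ?_⟩
        · rw [e, h.s.zero_left] at h2
          exact zero_ne_one h2
        · rw [h.s.add_left (r + r'), h.s.add_right (r + r'), h.s.add_right (μ • v), h.s.smul_right, h.s.smul_right,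
            h.s.smul_left, h.s.smul_left, hv.2, h1, h1']
          linear_combination hμ
        · rw [h.s.add_left, h.s.add_left, h.s.smul_left, hrw, hr'w, hvw, mul_zero, add_zero, zero_add]
          exact one_ne_zero
      · -- a further point of the line through the two
        obtain ⟨z, hz0, hz⟩ := h.exists_skew
        have hs : f (v + (z / f w v) • w) v = z := by
          rw [h.s.add_left, h.s.smul_left, hv.2, zero_add, div_mul_cancel₀ _ (fun e => hvw (h.s.symm_zero e))]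
        refine ⟨v + (z / f w v) • w, ⟨fun e => ?_, ?_⟩, by rw [hs]; exact hz0, ?_⟩
        · rw [e, h.s.zero_left] at hs
          exact hz0 hs.symm
        · rw [h.s.add_left, h.s.add_right, h.s.add_right, h.s.smul_left, h.s.smul_left, h.s.smul_right,
            h.s.smul_right, hv.2, hw.2, map_div₀, h.conj_f, div_mul_cancel₀ _ hvw,
            div_mul_cancel₀ _ (fun e => hvw (h.s.symm_zero e)), hz]
          ring
        · rw [h.s.add_left, h.s.smul_left, hw.2, mul_zero, add_zero]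
          exact hvw
    · exact ⟨r', hr', hr'v, by rw [hr'w]; exact one_ne_zero⟩
  · exact ⟨r, hr, by rw [hrv]; exact one_ne_zero, hrw⟩

/-- The transvection `x ↦ x + z f(x, b) b`. -/
theorem ft_apply {b : Fin n → F} (hb : f b b = 0) (z : F) (x : Fin n → F) :
    (ft f b (σ z • b) : Matrix (Fin n) (Fin n) F) *ᵥ x = x + (z * f x b) • b :=
  TransvectionUnitary.ut_act h.isU hb z x

theorem ft_preserves {b : Fin n → F} (hb : f b b = 0) {z : F} (hz : σ z = -z) (x y : Fin n → F) :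
    f ((ft f b (σ z • b) : Matrix (Fin n) (Fin n) F) *ᵥ x) ((ft f b (σ z • b) : Matrix (Fin n) (Fin n) F) *ᵥ y) =
      f x y :=
  TransvectionUnitary.ut_preserves h.isU hb hz x y

/-- Non-orthogonal isotropic vectors are related by a transvection up to scale. -/
theorem move_scale {v w : Fin n → F} (hv : f v v = 0) (hw : f w w = 0) (hvw : f v w ≠ 0) :
    ∃ (b : Fin n → F) (z t : F), f b b = 0 ∧ σ z = -z ∧ t ≠ 0 ∧
      (ft f b (σ z • b) : Matrix (Fin n) (Fin n) F) *ᵥ v = t • w := by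
  obtain ⟨z0, hz0, hz0'⟩ := h.exists_skew
  have ht0 : σ (z0 / f v w) ≠ 0 := (map_ne_zero σ).2 (div_ne_zero hz0 hvw)
  set t := σ (z0 / f v w) with ht
  have h1 : f v (t • w) = z0 := by rw [h.s.smul_right, ht, h.s.invol, div_mul_cancel₀ _ hvw]
  have h2 : f (t • w) v = -z0 := by rw [← h.conj_f, h1, hz0']
  have hbb : f (t • w - v) (t • w - v) = 0 := by
    rw [h.s.sub_left, h.s.sub_right, h.s.sub_right, hv, h1, h2, h.s.smul_left, h.s.smul_right, hw]
    ring
  refine ⟨t • w - v, z0⁻¹, t, hbb, by rw [map_inv₀, hz0', inv_neg], ht0, ?_⟩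
  rw [h.ft_apply hbb, h.s.sub_right, hv, sub_zero, h1, inv_mul_cancel₀ hz0, one_smul, add_sub_cancel]

end UForm

section Pres

variable {ε₁ ε₂ : F} {f₁ : (Fin k → F) → (Fin k → F) → F} {f₂ : (Fin l → F) → (Fin l → F) → F}

/-- The special isometry group of the tensor product form. -/
def SUT (σ : F →+* F) (f₁ : (Fin k → F) → (Fin k → F) → F) (f₂ : (Fin l → F) → (Fin l → F) → F) :
    Subgroup (GL (Fin k × Fin l) F) where
  carrier := {g | (g : Matrix (Fin k × Fin l) (Fin k × Fin l) F).det = 1 ∧ ∀ u w,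
    tForm σ f₁ f₂ ((g : Matrix (Fin k × Fin l) (Fin k × Fin l) F) *ᵥ u)
      ((g : Matrix (Fin k × Fin l) (Fin k × Fin l) F) *ᵥ w) = tForm σ f₁ f₂ u w}
  one_mem' := ⟨by simp, fun u w => by simp⟩
  mul_mem' {a b} ha hb :=
    ⟨by rw [Units.val_mul, Matrix.det_mul, ha.1, hb.1, one_mul], fun u w => by
      rw [mul_act, mul_act, ha.2, hb.2]⟩
  inv_mem' {a} ha := ⟨by
    have h1 : ((a⁻¹ : GL (Fin k × Fin l) F) : Matrix (Fin k × Fin l) (Fin k × Fin l) F).det * 1 = 1 := by
      calc _ = ((a⁻¹ : GL (Fin k × Fin l) F) : Matrix (Fin k × Fin l) (Fin k × Fin l) F).det *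
            (a : Matrix (Fin k × Fin l) (Fin k × Fin l) F).det := by rw [ha.1]
        _ = 1 := by rw [← Matrix.det_mul, ← Units.val_mul, inv_mul_cancel, Units.val_one, Matrix.det_one]
    rwa [mul_one] at h1, fun u w => by rw [← ha.2, act_inv_act, act_inv_act]⟩

omit [Fintype F] in
theorem tForm_sum_right {κ : Type*} (s : Finset κ) (u : Fin k × Fin l → F) (g : κ → Fin k × Fin l → F) :
    tForm σ f₁ f₂ u (∑ i ∈ s, g i) = ∑ i ∈ s, tForm σ f₁ f₂ u (g i) :=
  map_sum ({ toFun := fun y => tForm σ f₁ f₂ u y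
             map_zero' := by simp [tForm, Cfsg.Geo.formOfGram]
             map_add' := fun y y' => tForm_add_right u y y' } : (Fin k × Fin l → F) →+ F) g s

omit [Fintype F] in
theorem kr_preserves (h₁ : SForm σ ε₁ f₁) (h₂ : SForm σ ε₂ f₂) {α : GL (Fin k) F} {β : GL (Fin l) F}
    (hα : ∀ x y, f₁ ((α : Matrix (Fin k) (Fin k) F) *ᵥ x) ((α : Matrix (Fin k) (Fin k) F) *ᵥ y) = f₁ x y)
    (hβ : ∀ x y, f₂ ((β : Matrix (Fin l) (Fin l) F) *ᵥ x) ((β : Matrix (Fin l) (Fin l) F) *ᵥ y) = f₂ x y)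
    (u w : Fin k × Fin l → F) :
    tForm σ f₁ f₂ ((kr α β : Matrix (Fin k × Fin l) (Fin k × Fin l) F) *ᵥ u)
      ((kr α β : Matrix (Fin k × Fin l) (Fin k × Fin l) F) *ᵥ w) = tForm σ f₁ f₂ u w := by
  rw [tp_decomp u, tp_decomp w]
  simp only [Matrix.mulVec_sum, kr_tp, tForm_sum_left, tForm_sum_right, tForm_tp h₂ h₁, hα, hβ]

omit [Fintype F] in
theorem kr_mem_SUT (h₁ : SForm σ ε₁ f₁) (h₂ : SForm σ ε₂ f₂) {α : GL (Fin k) F} {β : GL (Fin l) F}
    (hα : ∀ x y, f₁ ((α : Matrix (Fin k) (Fin k) F) *ᵥ x) ((α : Matrix (Fin k) (Fin k) F) *ᵥ y) = f₁ x y)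
    (hβ : ∀ x y, f₂ ((β : Matrix (Fin l) (Fin l) F) *ᵥ x) ((β : Matrix (Fin l) (Fin l) F) *ᵥ y) = f₂ x y)
    (hαd : (α : Matrix (Fin k) (Fin k) F).det = 1) (hβd : (β : Matrix (Fin l) (Fin l) F).det = 1) :
    kr α β ∈ SUT σ f₁ f₂ :=
  ⟨by rw [kr_det, hαd, hβd, one_pow, one_pow, one_mul], kr_preserves h₁ h₂ hα hβ⟩

/-- `b ↦ 1 ⊗ b` as a homomorphism. -/
noncomputable def krR (k : ℕ) : GL (Fin l) F →* GL (Fin k × Fin l) F :=
  MonoidHom.mk' (fun b => kr 1 b) fun a b => by rw [kr_mul, one_mul]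

variable (H₁ : UForm σ f₁) (H₂ : UForm σ f₂) {M : Subgroup (GL (Fin k × Fin l) F)}
  (hH : Cfsg.Geo.kroneckerSubgroup k l F ⊓ SUT σ f₁ f₂ ≤ M)
include H₁ H₂ hH

theorem right_mem {b : Fin l → F} (hb : f₂ b b = 0) {z : F} (hz : σ z = -z) :
    kr (1 : GL (Fin k) F) (ft f₂ b (σ z • b)) ∈ M := by
  refine hH ⟨kr_mem _ _, kr_mem_SUT H₁.s H₂.s (fun x y => by simp) (H₂.ft_preserves hb hz) (by simp) ?_⟩
  exact congrArg Units.val (tv_det b (row f₂ (σ z • b)))

theorem left_mem {α : GL (Fin k) F}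
    (hα : ∀ x y, f₁ ((α : Matrix (Fin k) (Fin k) F) *ᵥ x) ((α : Matrix (Fin k) (Fin k) F) *ᵥ y) = f₁ x y)
    (hαd : (α : Matrix (Fin k) (Fin k) F).det = 1) : kr α (1 : GL (Fin l) F) ∈ M :=
  hH ⟨kr_mem _ _, kr_mem_SUT H₁.s H₂.s hα (fun x y => by simp) hαd (by simp)⟩

theorem el_root_unit {b : Fin l → F} (hb : f₂ b b = 0) {z : F} (hz : σ z = -z) : El M (z • SOp f₂ b 1 b) := by
  refine ⟨_, right_mem H₁ H₂ hH hb hz, LinearMap.ext fun u => ?_⟩
  rw [tp_decomp u, map_sum, map_sum]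
  refine Finset.sum_congr rfl fun i _ => ?_
  rw [Matrix.toLin'_apply, kr_tp, Units.val_one, Matrix.one_mulVec, H₂.ft_apply hb, LinearMap.add_apply,
    Module.End.one_apply, LinearMap.smul_apply, SOp_apply, Pf_tp H₂.s, Module.End.one_apply, tp_add_right,
    tp_smul_right, tp_smul_left, smul_smul]

theorem move_unit (hl : 4 ≤ l) {a c : Fin l → F} (ha : Iso f₂ a) (hc : Iso f₂ c) :
    ∃ β : GL (Fin l) F, kr (1 : GL (Fin k) F) β ∈ M ∧
      (∀ x y, f₂ ((β : Matrix (Fin l) (Fin l) F) *ᵥ x) ((β : Matrix (Fin l) (Fin l) F) *ᵥ y) = f₂ x y) ∧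
      (β : Matrix (Fin l) (Fin l) F) *ᵥ a = c := by
  obtain ⟨g, hg, hga⟩ := TransvectionUnitaryGen.move_iso H₂.isU (U := ⊤)
    (fun w _ hw => by
      obtain ⟨⟨x, hx⟩, ⟨y, hy⟩⟩ := H₂.isU.nondegenerate w hw
      exact ⟨⟨x, Submodule.mem_top, hx⟩, ⟨y, Submodule.mem_top, hy⟩⟩)
    (by rw [finrank_top, Module.finrank_fin_fun]; exact hl) Submodule.mem_top Submodule.mem_top ha.2 hc.2 ha.1 hc.1
  have hle : TransvectionUnitaryGen.transGroup H₂.tau f₂ ⊤ ≤ M.comap (krR k) :=
    TransvectionUnitaryGen.transGroup_le H₂.isU fun b _ z hb hz => right_mem H₁ H₂ hH hb hz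
  exact ⟨g, hle hg, (TransvectionUnitaryGen.transGroup_props H₂.isU hg).1, hga⟩

/-- The ruler context of a unitary second factor. -/
theorem ctx_unit (hk : 0 < k) (hl : 4 ≤ l) (hM : M ≤ SUT σ f₁ f₂) : Ctx0 σ 1 1 f₁ f₂ M where
  h₁ := H₁.s
  h₂ := H₂.s
  hk := hk
  sgn := Or.inl rfl
  adm := by
    obtain ⟨z, hz0, hz⟩ := H₂.exists_skew
    exact ⟨z, hz0, by rw [hz, neg_one_mul]⟩
  pres g hg := (hM hg).2
  root b hb z hz := el_root_unit H₁ H₂ hH hb.2 (by rw [hz, neg_one_mul])
  move a c ha hc := move_unit H₁ H₂ hH hl ha hc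
  span_perp a ha w hw := H₂.span_perp hl ha hw
  span_iso := H₂.span_iso (by omega)
  meet a b _ _ := by
    obtain ⟨c, hc, hc'⟩ := H₂.exists_iso_perp (m := 2) (by omega) ![a, b]
    exact ⟨c, hc, hc' 0, hc' 1⟩

end Pres

end Cfsg.Agent.TensorMax
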