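import Cfsg.Agent.Lib.TensorSOTransv97

/-!
Maximality of `Sp₂ ⊗ O(Y)` in `Sp(Y × Y)`, in coordinates.  The rulers `(F z) × (F z)`, `z` anisotropic, are the
`-1`-spaces of the reflections `1 ⊗ σ_z`.  If two images of rulers under the group meet in a line then the product
of their involutions is a short root element and all transvections follow.  Otherwise every image of a ruler is a
ruler: a vector `u` of an image plane and an anisotropic `z` orthogonal to both components of `u` make the whole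
plane orthogonal to `z`, and the few remaining configurations are excluded by the tensor stabiliser of `u`.
-/

set_option autoImplicit false
set_option linter.unusedSectionVars false

namespace Cfsg.Agent.TensorSO97

open Module

variable {F Y : Type*} [Field F] [Fintype F] [AddCommGroup Y] [Module F Y] [FiniteDimensional F Y]

/-- The ruler at `z`. -/
def Rl (z : Y) : Submodule F (Y × Y) := (Submodule.span F {z}).prod (Submodule.span F {z})

theorem mem_Rl {z : Y} {x : Y × Y} : x ∈ Rl (F := F) z ↔ ∃ a b : F, x = (a • z, b • z) := by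
  constructor
  · rintro ⟨h1, h2⟩
    obtain ⟨a, ha⟩ := Submodule.mem_span_singleton.1 h1
    obtain ⟨b, hb⟩ := Submodule.mem_span_singleton.1 h2
    exact ⟨a, b, Prod.ext ha.symm hb.symm⟩
  · rintro ⟨a, b, rfl⟩
    exact ⟨Submodule.smul_mem _ _ (Submodule.mem_span_singleton_self z),
      Submodule.smul_mem _ _ (Submodule.mem_span_singleton_self z)⟩

variable {B : Y →ₗ[F] Y →ₗ[F] F} {M : Subgroup ((Y × Y) ≃ₗ[F] (Y × Y))}

/-- The images of rulers. -/
def InP (M : Subgroup ((Y × Y) ≃ₗ[F] (Y × Y))) (B : Y →ₗ[F] Y →ₗ[F] F) (U : Submodule F (Y × Y)) : Prop :=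
  ∃ g ∈ M, ∃ z, B z z ≠ 0 ∧ U = (Rl z).map g.toLinearMap

/-- No vector of `U` has dependent components. -/
def NR (U : Submodule F (Y × Y)) : Prop := ∀ x ∈ U, x ≠ 0 → ∀ y, x ∉ Rl (F := F) y

/-- Two image planes are equal or meet trivially. -/
def NC (M : Subgroup ((Y × Y) ≃ₗ[F] (Y × Y))) (B : Y →ₗ[F] Y →ₗ[F] F) : Prop :=
  ∀ U U', InP M B U → InP M B U' → ∀ u : Y × Y, u ≠ 0 → u ∈ U → u ∈ U' → U = U'

variable (H : Hyp B M)
include H

theorem mem_map {U : Submodule F (Y × Y)} {g : (Y × Y) ≃ₗ[F] (Y × Y)} {x : Y × Y} :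
    x ∈ U.map g.toLinearMap ↔ g⁻¹ x ∈ U := by
  constructor
  · rintro ⟨y, hy, rfl⟩
    show g⁻¹ (g y) ∈ U
    rwa [ginv_app]
  · intro h
    exact ⟨_, h, gapp_inv g x⟩

theorem inP_Rl {z : Y} (hz : B z z ≠ 0) : InP M B (Rl z) :=
  ⟨1, one_mem M, z, hz, by rw [show (1 : (Y × Y) ≃ₗ[F] (Y × Y)).toLinearMap = LinearMap.id from rfl, Submodule.map_id]⟩

theorem InP.map {U : Submodule F (Y × Y)} (hU : InP M B U) {k : (Y × Y) ≃ₗ[F] (Y × Y)} (hk : k ∈ M) :
    InP M B (U.map k.toLinearMap) := by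
  obtain ⟨g, hg, z, hz, rfl⟩ := hU
  refine ⟨k * g, mul_mem hk hg, z, hz, ?_⟩
  rw [← Submodule.map_comp]
  rfl

theorem exists_partner {U : Submodule F (Y × Y)} (hU : InP M B U) {u : Y × Y} (hu : u ∈ U) (hu0 : u ≠ 0) :
    ∃ v ∈ U, om B u v ≠ 0 := by
  obtain ⟨g, hg, z, hz, rfl⟩ := hU
  obtain ⟨a, b, hab⟩ := mem_Rl.1 ((mem_map H).1 hu)
  have hpre : ∀ c d : F, om B u (g (c • z, d • z)) = (a * d - b * c) * B z z := fun c d => by
    rw [show u = g (g⁻¹ u) from (gapp_inv g u).symm, H.pres g hg, hab]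
    simp [om]; ring
  have hne : ¬ (a = 0 ∧ b = 0) := by
    rintro ⟨rfl, rfl⟩
    exact hu0 (by rw [← gapp_inv g u, hab]; simp)
  by_cases ha : a = 0
  · exact ⟨g (z, 0), ⟨(z, 0), mem_Rl.2 ⟨1, 0, by simp⟩, rfl⟩, by
      have := hpre 1 0
      simp only [one_smul, zero_smul] at this
      rw [this]
      simpa [ha, hz] using fun h => hne ⟨ha, h⟩⟩
  · exact ⟨g (0, z), ⟨(0, z), mem_Rl.2 ⟨0, 1, by simp⟩, rfl⟩, by
      have := hpre 0 1
      simp only [one_smul, zero_smul] at this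
      rw [this]
      simp [ha, hz]⟩

theorem expand {U : Submodule F (Y × Y)} (hU : InP M B U) {u v x : Y × Y} (hu : u ∈ U) (hv : v ∈ U) (hx : x ∈ U)
    (h : om B u v ≠ 0) : x = (om B x v / om B u v) • u + (om B u x / om B u v) • v := by
  obtain ⟨g, hg, z, hz, rfl⟩ := hU
  obtain ⟨u', hu', rfl⟩ := hu
  obtain ⟨v', hv', rfl⟩ := hv
  obtain ⟨x', hx', rfl⟩ := hx
  obtain ⟨a, c, rfl⟩ := mem_Rl.1 hu'
  obtain ⟨a', c', rfl⟩ := mem_Rl.1 hv'
  obtain ⟨p, q, rfl⟩ := mem_Rl.1 hx'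
  simp only [LinearEquiv.coe_coe, H.pres g hg] at h ⊢
  rw [← map_smul, ← map_smul, ← map_add]
  congr 1
  have hd : (a * c' - c * a') * B z z ≠ 0 := fun e => h (by simp [om]; linear_combination e)
  have e0 : om B (a • z, c • z) (a' • z, c' • z) = (a * c' - c * a') * B z z := by simp [om]; ring
  have e1 : om B (p • z, q • z) (a' • z, c' • z) = (p * c' - q * a') * B z z := by simp [om]; ring
  have e2 : om B (a • z, c • z) (p • z, q • z) = (a * q - c * p) * B z z := by simp [om]; ring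
  rw [e0, e1, e2]
  obtain ⟨D, hD⟩ : ∃ D, D = a * c' - c * a' := ⟨_, rfl⟩
  rw [← hD] at hd ⊢
  have hd' := left_ne_zero_of_mul hd
  ext <;> simp <;> match_scalars <;> field_simp <;> rw [hD] <;> ring

/-- The involution of an image plane. -/
theorem exists_inv {U : Submodule F (Y × Y)} (hU : InP M B U) {u v : Y × Y} (hu : u ∈ U) (hv : v ∈ U)
    (h : om B u v ≠ 0) :
    ∃ r ∈ M, ∀ x, r x = x - (2 / om B u v) • (om B x v • u - om B x u • v) := by
  obtain ⟨g, hg, z, hz, rfl⟩ := hU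
  obtain ⟨u', hu', rfl⟩ := hu
  obtain ⟨v', hv', rfl⟩ := hv
  obtain ⟨a, c, rfl⟩ := mem_Rl.1 hu'
  obtain ⟨a', c', rfl⟩ := mem_Rl.1 hv'
  obtain ⟨k, hk, hkp⟩ := exists_refl H.sym hz
  obtain ⟨r, hr, hrx⟩ := H.orth k hkp
  simp only [LinearEquiv.coe_coe, H.pres g hg] at h ⊢
  refine ⟨g * r * g⁻¹, mul_mem (mul_mem hg hr) (inv_mem hg), fun x => ?_⟩
  have e : ∀ y, om B x (g y) = om B (g⁻¹ x) y := fun y => by rw [← H.pres g hg (g⁻¹ x) y, gapp_inv]
  rw [gmul_app, gmul_app, hrx, e, e]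
  conv_rhs => rw [← gapp_inv g x]
  rw [ginv_app, ← map_smul, ← map_smul, ← map_sub, ← map_smul, ← map_sub]
  congr 1
  generalize g⁻¹ x = y
  have e0 : om B (a • z, c • z) (a' • z, c' • z) = (a * c' - c * a') * B z z := by simp [om]; ring
  rw [e0] at h ⊢
  have hd' := left_ne_zero_of_mul h
  rw [hk, hk]
  simp only [om, map_smul, LinearMap.smul_apply, smul_eq_mul]
  ext <;> simp <;> match_scalars <;> field_simp <;> ring

theorem nr_of_indep (hnc : NC M B) {U : Submodule F (Y × Y)} (hU : InP M B U) {u : Y × Y} (hu : u ∈ U)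
    (hu' : ∀ y, u ∉ Rl (F := F) y) (hdep : ∀ x ∈ U, x ≠ 0 → ∀ y, x ∈ Rl (F := F) y → U = Rl y) : NR U :=
  fun x hx hx0 y hxy => hu' y (hdep x hx hx0 y hxy ▸ hu)

set_option maxHeartbeats 1000000 in
/-- Two planes meeting in a line give all transvections. -/
theorem dichotomy : (∀ u, InT M B u) ∨ NC M B := by
  by_contra hcon
  push Not at hcon
  obtain ⟨⟨w, hw⟩, hnc⟩ := hcon
  apply hw
  clear hw
  simp only [NC, not_forall] at hnc
  obtain ⟨U, U', hU, hU', u, hu0, huU, huU', hne⟩ := hnc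
  obtain ⟨g, hg, z, hz, hUe⟩ := hU
  obtain ⟨a, c, hac⟩ := mem_Rl.1 ((mem_map H).1 (hUe ▸ huU))
  obtain ⟨k, hk, hkz, hkR⟩ : ∃ k ∈ M, k (g⁻¹ u) = (z, 0) ∧ ∀ x ∈ Rl (F := F) z, k x ∈ Rl (F := F) z := by
    by_cases ha : a = 0
    · have hc : c ≠ 0 := fun h => hu0 (by rw [← gapp_inv g u, hac, ha, h]; simp)
      obtain ⟨k, hk, hkx⟩ := H.sl 0 c⁻¹ (-c) 0 (by field_simp; ring)
      refine ⟨k, hk, by rw [hkx, hac, ha]; simp [hc], fun x hx => ?_⟩
      obtain ⟨p, q, rfl⟩ := mem_Rl.1 hx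
      exact mem_Rl.2 ⟨c⁻¹ * q, -c * p, by rw [hkx]; simp [smul_smul]⟩
    · obtain ⟨k, hk, hkx⟩ := H.sl a⁻¹ 0 (-c) a (by field_simp; ring)
      refine ⟨k, hk, ?_, fun x hx => ?_⟩
      · rw [hkx, hac]
        ext <;> simp [smul_smul, ha, mul_comm]
      · obtain ⟨p, q, rfl⟩ := mem_Rl.1 hx
        exact mem_Rl.2 ⟨a⁻¹ * p, -c * p + a * q, by rw [hkx]; ext <;> simp [smul_smul, add_smul]⟩
  have hkk : k * g⁻¹ ∈ M := mul_mem hk (inv_mem hg)
  set U₂ := U'.map (k * g⁻¹).toLinearMap with hU₂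
  have hP₂ : InP M B U₂ := InP.map H hU' hkk
  have hu₂ : ((z, 0) : Y × Y) ∈ U₂ := ⟨u, huU', by simpa [gmul_app] using hkz⟩
  have hz0 : z ≠ 0 := fun e => hz (by simp [e])
  have hnot : ((0, z) : Y × Y) ∉ U₂ := by
    intro hmem
    apply hne
    have hsub : ∀ x ∈ Rl (F := F) z, x ∈ U₂ := fun x hx => by
      obtain ⟨p, q, rfl⟩ := mem_Rl.1 hx
      have := add_mem (U₂.smul_mem p hu₂) (U₂.smul_mem q hmem)
      simpa using this
    have hle : U ≤ U' := by
      intro x hx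
      have h1 := hsub _ (hkR _ ((mem_map H).1 (hUe ▸ hx)))
      obtain ⟨y, hy, hyx⟩ := h1
      have : y = x := (k * g⁻¹).injective (by simpa [gmul_app] using hyx)
      exact this ▸ hy
    refine le_antisymm hle fun x hx => ?_
    obtain ⟨v, hv, hv0⟩ := exists_partner H ⟨g, hg, z, hz, hUe⟩ huU hu0
    rw [expand H hU' huU' (hle hv) hx hv0]
    exact add_mem (U.smul_mem _ huU) (U.smul_mem _ hv)
  obtain ⟨v, hv, hv0⟩ := exists_partner H hP₂ hu₂ (by simp [hz0])
  set v₁ := (B z z / om B ((z, 0) : Y × Y) v) • v with hv₁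
  set v₂ := v₁ - (B z v₁.1 / B z z) • ((z, 0) : Y × Y) with hv₂
  have hv₂m : v₂ ∈ U₂ := sub_mem (U₂.smul_mem _ hv) (U₂.smul_mem _ hu₂)
  have h12 : om B ((z, 0) : Y × Y) v₁ = B z z := by rw [hv₁, om_smul_right, div_mul_cancel₀ _ hv0]
  have hzv2 : B z v₁.2 = B z z := by simpa [om] using h12
  set p := v₂.1 with hp
  set q := v₂.2 - z with hq
  have hzp : B z p = 0 := by simp [hp, hv₂, div_mul_cancel₀ _ hz]
  have hzq : B z q = 0 := by simp [hq, hv₂, hzv2]
  have hne' : ¬ (p = 0 ∧ q = 0) := fun ⟨e1, e2⟩ => hnot (by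
    have : v₂ = (0, z) := Prod.ext e1 (sub_eq_zero.1 e2)
    exact this ▸ hv₂m)
  have o1 : om B ((z, 0) : Y × Y) (0, z) = B z z := by simp [om]
  have o2 : om B ((z, 0) : Y × Y) v₂ = B z z := by
    simp only [hv₂, hv₁, om_sub_right, om_smul_right, om_self H.sym, mul_zero, sub_zero]
    exact div_mul_cancel₀ _ hv0
  obtain ⟨r1, hr1, e1⟩ := exists_inv H (inP_Rl H hz) (mem_Rl.2 ⟨1, 0, by simp⟩ : ((z, 0) : Y × Y) ∈ Rl z)
    (mem_Rl.2 ⟨0, 1, by simp⟩ : ((0, z) : Y × Y) ∈ Rl z) (by rw [o1]; exact hz)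
  obtain ⟨r2, hr2, e2⟩ := exists_inv H hP₂ hu₂ hv₂m (by rw [o2]; exact hz)
  refine all_of_S H hz hzp hzq hne' (σ := -(2 / B z z)) (neg_ne_zero.2 (div_ne_zero H.sym.odd hz)) ?_ w
  have hv2e : v₂ = (0, z) + (p, q) := by ext <;> simp [hp, hq]
  refine ⟨r2 * r1, mul_mem hr2 hr1, fun x => ?_⟩
  rw [gmul_app, e2, e1, o1, o2, hv2e]
  have i1 : om B ((z, 0) : Y × Y) (p, q) = 0 := by simp [om, hzq]
  have i2 : om B ((0, z) : Y × Y) (p, q) = 0 := by simp [om, hzp]
  simp only [om_sub_left, om_smul_left, om_add_right, o1, i1, i2, om_self H.sym,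
    om_skew H.sym ((z, (0 : Y)) : Y × Y) (0, z)]
  match_scalars <;> field_simp <;> ring

section planes

variable (hnc : NC M B)
include hnc

set_option maxHeartbeats 1000000 in
theorem dep {U : Submodule F (Y × Y)} (hU : InP M B U) {u : Y × Y} (hu : u ∈ U) (hu0 : u ≠ 0) {y : Y}
    (hy : u ∈ Rl (F := F) y) : B y y ≠ 0 ∧ U = Rl y := by
  have hB := H.sym
  obtain ⟨a, c, hac⟩ := mem_Rl.1 hy
  have hy0 : y ≠ 0 := fun h => hu0 (by rw [hac, h]; simp)
  have hyy : B y y ≠ 0 := by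
    intro hyy
    obtain ⟨v, hv, hv0⟩ := exists_partner H hU hu hu0
    obtain ⟨w, hyw, hww⟩ := perp_one hB (dim3 H) hy0
    have key : ∀ z, B y z = 0 → B z z ≠ 0 → B z v.1 = 0 ∧ B z v.2 = 0 := by
      intro z hyz hzz
      obtain ⟨k, hk, hkp⟩ := exists_refl hB hzz
      obtain ⟨g, hg, hgx⟩ := H.orth k hkp
      have hgu : g u = u := by rw [hgx, hac]; simp [hk, hyz]
      have hUg := hnc _ U (InP.map H hU hg) hU u hu0 ⟨u, hu, hgu⟩ hu
      have hgv : g v ∈ U := hUg ▸ (⟨v, hv, rfl⟩ : g v ∈ U.map g.toLinearMap)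
      have hd : v - g v ∈ Rl z := mem_Rl.2 ⟨2 * B v.1 z / B z z, 2 * B v.2 z / B z z, by
        rw [hgx]; ext <;> simp [hk]⟩
      by_cases h0 : v - g v = 0
      · rw [hgx] at h0
        have e1 := congrArg Prod.fst h0
        have e2 := congrArg Prod.snd h0
        have hz0 : z ≠ 0 := fun e => hzz (by simp [e])
        simp [hk, hz0, hzz, hB.odd] at e1 e2
        exact ⟨by rw [hB.symm]; exact e1, by rw [hB.symm]; exact e2⟩
      · exfalso
        have hUz := hnc U (Rl z) hU (inP_Rl H hzz) _ h0 (sub_mem hv hgv) hd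
        obtain ⟨a', c', e⟩ := mem_Rl.1 (hUz ▸ hu)
        have e1 := congrArg (fun x : Y × Y => B x.1 z) e
        have e2 := congrArg (fun x : Y × Y => B x.2 z) e
        simp [hac, hyz, hzz] at e1 e2
        exact hu0 (by rw [e, e1, e2]; simp)
    have h1 := perp_of_aniso hB (W := LinearMap.ker (B y)) ⟨w, hyw, hww⟩ (a := v.1) fun z hz hzz => (key z hz hzz).1
    have h2 := perp_of_aniso hB (W := LinearMap.ker (B y)) ⟨w, hyw, hww⟩ (a := v.2) fun z hz hzz => (key z hz hzz).2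
    have hyk : y ∈ LinearMap.ker (B y) := hyy
    apply hv0
    rw [hac]
    simp [om, h1 y hyk, h2 y hyk]
  exact ⟨hyy, hnc U (Rl y) hU (inP_Rl H hyy) u hu0 hu hy⟩

/-- An anisotropic vector orthogonal to the components of one vector is orthogonal to the whole plane. -/
theorem fix_perp {U : Submodule F (Y × Y)} (hU : InP M B U) {u : Y × Y} (hu : u ∈ U) (hu0 : u ≠ 0) {z : Y}
    (hzz : B z z ≠ 0) (h1 : B u.1 z = 0) (h2 : B u.2 z = 0) {v : Y × Y} (hv : v ∈ U) :
    B v.1 z = 0 ∧ B v.2 z = 0 := by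
  have hB := H.sym
  obtain ⟨k, hk, hkp⟩ := exists_refl hB hzz
  obtain ⟨g, hg, hgx⟩ := H.orth k hkp
  have hgu : g u = u := by rw [hgx]; ext <;> simp [hk, h1, h2]
  have hUg := hnc _ U (InP.map H hU hg) hU u hu0 ⟨u, hu, hgu⟩ hu
  have hgv : g v ∈ U := hUg ▸ (⟨v, hv, rfl⟩ : g v ∈ U.map g.toLinearMap)
  have hd : v - g v ∈ Rl z := mem_Rl.2 ⟨2 * B v.1 z / B z z, 2 * B v.2 z / B z z, by
    rw [hgx]; ext <;> simp [hk]⟩
  by_cases h0 : v - g v = 0
  · rw [hgx] at h0
    have e1 := congrArg Prod.fst h0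
    have e2 := congrArg Prod.snd h0
    have hz0 : z ≠ 0 := fun e => hzz (by simp [e])
    simp [hk, hz0, hzz, hB.odd] at e1 e2
    exact ⟨e1, e2⟩
  · exfalso
    obtain ⟨a', c', e⟩ := mem_Rl.1 (hnc U (Rl z) hU (inP_Rl H hzz) _ h0 (sub_mem hv hgv) hd ▸ hu)
    subst e
    simp [hzz] at h1 h2
    exact hu0 (by simp [h1, h2])

/-- A plane in graph form. -/
def Gr (M : Subgroup ((Y × Y) ≃ₗ[F] (Y × Y))) (B : Y →ₗ[F] Y →ₗ[F] F) (s₁ s₂ : Y) (b₁ b₂ d₁ d₂ : F) : Prop :=
  ∃ U, InP M B U ∧ NR U ∧ ∀ x y : F, (x • s₁ + (b₁ * x + b₂ * y) • s₂, y • s₁ + (d₁ * x + d₂ * y) • s₂) ∈ U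

omit H hnc in
theorem coef_zero {s₁ s₂ : Y} (h11 : B s₁ s₁ ≠ 0) (h21 : B s₂ s₁ = 0) (hs₂ : s₂ ≠ 0) {a c : F}
    (h : a • s₁ + c • s₂ = 0) : a = 0 ∧ c = 0 := by
  have e := congrArg (fun v => B v s₁) h
  simp [h21, h11] at e
  rw [e, zero_smul, zero_add] at h
  exact ⟨e, (smul_eq_zero.1 h).resolve_right hs₂⟩

set_option maxHeartbeats 1000000 in
/-- The trace vanishes. -/
theorem trace_zero {s₁ s₂ : Y} {b₁ b₂ d₁ d₂ : F} (hG : Gr M B s₁ s₂ b₁ b₂ d₁ d₂) (h11 : B s₁ s₁ ≠ 0)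
    (h21 : B s₂ s₁ = 0) (hs₂ : s₂ ≠ 0) :
    b₁ + d₂ = 0 ∧ d₁ ≠ 0 ∧ ∀ k : F, k * k ≠ (d₂ - b₁) * (d₂ - b₁) + 4 * (b₂ * d₁) := by
  have hB := H.sym
  have h2 := hB.odd
  obtain ⟨U, hU, hNR, hvec⟩ := hG
  have hs₁ : s₁ ≠ 0 := fun e => h11 (by simp [e])
  have hd1 : d₁ ≠ 0 := by
    intro hd
    have hx := hvec 1 0
    simp only [mul_one, mul_zero, add_zero, one_smul, zero_smul, hd, zero_add] at hx
    refine hNR _ hx ?_ (s₁ + b₁ • s₂) (mem_Rl.2 ⟨1, 0, by simp⟩)
    intro e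
    have e' := congrArg Prod.fst e
    simp only [Prod.fst_zero] at e'
    exact one_ne_zero (coef_zero h11 h21 hs₂ (a := (1 : F)) (c := b₁) (by rwa [one_smul])).1
  have hdisc : ∀ k : F, k * k ≠ (d₂ - b₁) * (d₂ - b₁) + 4 * (b₂ * d₁) := by
    intro k hk
    set μ := (b₁ + d₂ + k) / 2 with hμ
    have hx := hvec (μ - d₂) d₁
    have e1 : b₁ * (μ - d₂) + b₂ * d₁ = μ * (μ - d₂) := by
      rw [hμ]; field_simp; linear_combination -hk
    have e2 : d₁ * (μ - d₂) + d₂ * d₁ = μ * d₁ := by ring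
    rw [e1, e2, show (μ - d₂) • s₁ + (μ * (μ - d₂)) • s₂ = (μ - d₂) • (s₁ + μ • s₂) by module,
      show d₁ • s₁ + (μ * d₁) • s₂ = d₁ • (s₁ + μ • s₂) by module] at hx
    refine hNR _ hx ?_ (s₁ + μ • s₂) (mem_Rl.2 ⟨_, _, rfl⟩)
    intro e
    have e' := congrArg Prod.snd e
    rw [Prod.snd_zero, smul_eq_zero] at e'
    exact one_ne_zero (coef_zero h11 h21 hs₂ (a := (1 : F)) (c := μ)
      (by rw [one_smul]; exact e'.resolve_left hd1)).1
  refine ⟨?_, hd1, hdisc⟩
  -- an element of SL₂ adapted to the new graph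
  set Δ := (d₂ - b₁) * (d₂ - b₁) + 4 * (b₂ * d₁) with hΔ
  have hΔ0 : Δ ≠ 0 := fun e => hdisc 0 (by rw [mul_zero, e])
  obtain ⟨X, y, hXY⟩ := sum_two hB one_ne_zero (neg_ne_zero.2 hΔ0) (-(4 * (d₁ * d₁)))
  set x := (X - (d₂ - b₁) * y) / (2 * d₁) with hxd
  have hX : X = 2 * d₁ * x + (d₂ - b₁) * y := by rw [hxd]; field_simp; ring
  have hQ : -d₁ * x * x + (b₁ - d₂) * x * y + b₂ * y * y = d₁ := by
    refine mul_left_cancel₀ (mul_ne_zero (mul_ne_zero h2 h2) hd1) ?_
    rw [hX, hΔ] at hXY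
    linear_combination -hXY
  set x' := (-(b₁ * x + b₂ * y) - b₁ * x) / d₁ with hx'
  set y' := (-(d₁ * x + d₂ * y) - b₁ * y) / d₁ with hy'
  have hdet : y' * x - -x' * -y = 1 := by
    rw [hx', hy']
    field_simp
    linear_combination hQ
  obtain ⟨gA, hgA, hgAx⟩ := H.sl y' (-x') (-y) x hdet
  -- the isometry fixing `s₁` and negating `s₂`
  obtain ⟨k, hk, hkp⟩ := exists_refl hB h11
  obtain ⟨gh, hgh, hghx⟩ := H.orth (-k) (fun p q => by simp [hkp])
  have k1 : (-k) s₁ = s₁ := by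
    simp only [LinearMap.neg_apply, hk]
    match_scalars
    field_simp
    ring
  have k2 : (-k) s₂ = -s₂ := by simp [hk, h21]
  have himg : ∀ X Y' : F, (gA * gh) (X • s₁ + (b₁ * X + b₂ * Y') • s₂, Y' • s₁ + (d₁ * X + d₂ * Y') • s₂) =
      ((y' * X - x' * Y') • s₁ + (-(y' * (b₁ * X + b₂ * Y')) + x' * (d₁ * X + d₂ * Y')) • s₂,
       (-(y * X) + x * Y') • s₁ + (y * (b₁ * X + b₂ * Y') - x * (d₁ * X + d₂ * Y')) • s₂) := fun X Y' => by
    rw [gmul_app, hghx, hgAx]
    simp only [map_add, map_smul, k1, k2]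
    ext <;> simp <;> match_scalars <;> ring
  have hu0 : ((1 : F) • s₁ + (b₁ * 1 + b₂ * 0) • s₂, (0 : F) • s₁ + (d₁ * 1 + d₂ * 0) • s₂) ≠ (0 : Y × Y) := by
    intro e
    exact one_ne_zero (coef_zero h11 h21 hs₂ (congrArg Prod.fst e)).1
  have hUU : U.map (gA * gh).toLinearMap = U := by
    refine hnc _ U (InP.map H hU (mul_mem hgA hgh)) hU _ hu0 ⟨_, hvec x y, ?_⟩ (hvec 1 0)
    show (gA * gh) _ = _
    rw [himg]
    have a1 : y' * x - x' * y = 1 := by linear_combination hdet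
    have a2 : -(y' * (b₁ * x + b₂ * y)) + x' * (d₁ * x + d₂ * y) = b₁ := by
      rw [hx', hy']; field_simp; linear_combination b₁ * hQ
    have a3 : -(y * x) + x * y = 0 := by ring
    have a4 : y * (b₁ * x + b₂ * y) - x * (d₁ * x + d₂ * y) = d₁ := by linear_combination hQ
    simp [a1, a2, a3, a4]
  have hmem : (gA * gh) (x' • s₁ + (b₁ * x' + b₂ * y') • s₂, y' • s₁ + (d₁ * x' + d₂ * y') • s₂) ∈ U :=
    hUU ▸ (⟨_, hvec x' y', rfl⟩ : _ ∈ U.map (gA * gh).toLinearMap)
  rw [himg] at hmem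
  have hdiff := sub_mem hmem (hvec 0 1)
  set c₁ := -(y' * (b₁ * x' + b₂ * y')) + x' * (d₁ * x' + d₂ * y') - b₂ with hc₁
  set c₂ := y * (b₁ * x' + b₂ * y') - x * (d₁ * x' + d₂ * y') - d₂ with hc₂
  have hz : ((c₁ • s₂, c₂ • s₂) : Y × Y) ∈ U := by
    convert hdiff using 1
    have a0 : y' * x' - x' * y' = 0 := by ring
    have a1 : -(y * x') + x * y' = 1 := by linear_combination hdet
    rw [hc₁, hc₂, a0, a1]
    ext <;> simp <;> module
  have hc : c₂ = 0 := by
    by_contra h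
    refine hNR _ hz (fun e => h ?_) s₂ (mem_Rl.2 ⟨_, _, rfl⟩)
    exact (smul_eq_zero.1 (congrArg Prod.snd e)).resolve_right hs₂
  have hE : d₁ * (y * (b₁ * x' + b₂ * y') - x * (d₁ * x' + d₂ * y')) +
      (b₁ + d₂ + b₁) * (-d₁ * x * x + (b₁ - d₂) * x * y + b₂ * y * y) = 0 := by
    rw [hx', hy']; field_simp; ring
  refine mul_left_cancel₀ (mul_ne_zero h2 hd1) ?_
  rw [hc₂] at hc
  linear_combination hE - d₁ * hc - (b₁ + d₂ + b₁) * hQ

/-- The second vector of a graph is anisotropic. -/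
theorem not_degenerate {s₁ s₂ : Y} {b₁ b₂ d₁ d₂ : F} (hG : Gr M B s₁ s₂ b₁ b₂ d₁ d₂) (h11 : B s₁ s₁ ≠ 0)
    (h21 : B s₂ s₁ = 0) (hs₂ : s₂ ≠ 0) : B s₂ s₂ ≠ 0 := by
  intro h22
  obtain ⟨t1, -, -⟩ := trace_zero H hnc hG h11 h21 hs₂
  obtain ⟨U, hU, hNR, hvec⟩ := hG
  have h12 : B s₁ s₂ = 0 := by rw [H.sym.symm, h21]
  have hG' : Gr M B (s₁ + s₂) s₂ (b₁ - 1) b₂ d₁ (d₂ - 1) := ⟨U, hU, hNR, fun x y => by
    convert hvec x y using 1
    ext <;> simp <;> module⟩
  obtain ⟨t2, -, -⟩ := trace_zero H hnc hG' (by simp [h12, h21, h22, h11]) (by simp [h21, h22]) hs₂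
  exact H.sym.odd (by linear_combination t1 - t2)

set_option maxHeartbeats 1000000 in
/-- An anisotropic graph. -/
theorem graph_rel {s₁ s₂ : Y} {b₁ b₂ d₁ d₂ : F} (hG : Gr M B s₁ s₂ b₁ b₂ d₁ d₂) (h11 : B s₁ s₁ ≠ 0)
    (h21 : B s₂ s₁ = 0) (hs₂ : s₂ ≠ 0) :
    B s₁ s₁ + (b₁ * b₁ + b₂ * d₁) * B s₂ s₂ = 0 := by
  have hB := H.sym
  have h2 := hB.odd
  obtain ⟨t1, hd1, hdisc⟩ := trace_zero H hnc hG h11 h21 hs₂
  have h22 := not_degenerate H hnc hG h11 h21 hs₂
  obtain ⟨U, hU, hNR, hvec⟩ := hG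
  have hd₂ : d₂ = -b₁ := eq_neg_of_add_eq_zero_right t1
  have hns : ∀ k : F, k * k ≠ b₁ * b₁ + b₂ * d₁ := fun k hk => hdisc (2 * k) (by
    rw [hd₂]; linear_combination 4 * hk)
  set ε := b₁ * b₁ + b₂ * d₁ with hε
  set a := B s₁ s₁ with ha
  set b := B s₂ s₂ with hb
  have h12 : B s₁ s₂ = 0 := by rw [hB.symm, h21]
  -- the form on the plane is non-degenerate
  have hab : a - ε * b ≠ 0 := by
    intro e
    have hu := hvec 1 0
    have hu0 : ((1 : F) • s₁ + (b₁ * 1 + b₂ * 0) • s₂, (0 : F) • s₁ + (d₁ * 1 + d₂ * 0) • s₂) ≠ (0 : Y × Y) :=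
      fun e' => one_ne_zero (coef_zero h11 h21 hs₂ (congrArg Prod.fst e')).1
    obtain ⟨v, hv, hv0⟩ := exists_partner H hU hu hu0
    apply hv0
    set P₁ := (((1 : F) • s₁ + (b₁ * 1 + b₂ * 0) • s₂, (0 : F) • s₁ + (d₁ * 1 + d₂ * 0) • s₂) : Y × Y)
    set P₂ := (((0 : F) • s₁ + (b₁ * 0 + b₂ * 1) • s₂, (1 : F) • s₁ + (d₁ * 0 + d₂ * 1) • s₂) : Y × Y)
    have hv' : om B P₁ P₂ = a - ε * b := by
      simp [P₁, P₂, om, h12, h21, ← ha, ← hb, hd₂, hε]
      ring
    have hx := expand H hU hu hv (hvec 0 1) hv0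
    set α := om B P₂ v / om B P₁ v
    set β := om B P₁ P₂ / om B P₁ v with hβ
    have hβ0 : β = 0 := by rw [hβ, hv', e, zero_div]
    exfalso
    rw [hβ0] at hx
    have e1 := congrArg (fun x : Y × Y => B x.1 s₁) hx
    have e2 := congrArg (fun x : Y × Y => B x.2 s₁) hx
    simp [P₁, P₂, h21, ← ha, h11] at e1 e2
  by_contra hne
  obtain ⟨lam, hlam, hD⟩ : ∃ lam : F, lam ≠ 0 ∧ a + lam * lam * b ≠ 0 := by
    by_contra! hcon
    have e1 : a + b = 0 := by simpa using hcon 1 one_ne_zero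
    -- every square is one, so the only non-square is minus one
    have hsq : ∀ k : F, k ≠ 0 → k * k = 1 := fun k hk =>
      mul_right_cancel₀ h22 (by linear_combination (hcon k hk) - e1)
    have hε0 : ε ≠ 0 := fun e => hns 0 (by rw [e, mul_zero])
    rcases mul_self_eq_one_iff.1 (hsq ε hε0) with e | e
    · exact hns 1 (by rw [e, mul_one])
    · exact hab (by rw [e]; linear_combination e1)
  set E := a * a - lam * lam * (b * b) * ε with hE
  have hE0 : E ≠ 0 := fun e => hns (a / (lam * b)) (by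
    field_simp
    rw [hE] at e
    linear_combination e)
  set κ := (a + lam * lam * b) / E with hκ
  set μ := -lam * (b * ε + a) / E with hμ
  have hD' : B (s₁ + lam • s₂) (s₁ + lam • s₂) ≠ 0 := by
    simp only [map_add, map_smul, LinearMap.add_apply, LinearMap.smul_apply, smul_eq_mul, h12, h21, ← ha, ← hb]
    intro e
    exact hD (by linear_combination e)
  have hG' : Gr M B (s₁ + lam • s₂) ((-(lam * b)) • s₁ + a • s₂) (κ * b₁ + μ) (κ * b₂) (κ * d₁) (κ * d₂ + μ) := by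
    refine ⟨U, hU, hNR, fun x y => ?_⟩
    have h := hvec (x - lam * b * ((κ * b₁ + μ) * x + κ * b₂ * y)) (y - lam * b * (κ * d₁ * x + (κ * d₂ + μ) * y))
    convert h using 1
    ext <;> simp only <;> match_scalars <;> simp only [hκ, hμ, hd₂] <;> field_simp <;> simp only [hE, hε] <;> ring
  obtain ⟨t2, -, -⟩ := trace_zero H hnc hG' hD' (by simp [h12, h21, ← ha, ← hb]; ring) (fun e =>
    h11 (coef_zero h11 h21 hs₂ e).2)
  apply hne
  rw [hd₂] at t2
  have : μ = 0 := mul_left_cancel₀ h2 (by linear_combination t2)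
  rw [hμ, div_eq_zero_iff] at this
  have h' := (mul_eq_zero.1 (this.resolve_right hE0)).resolve_left (neg_ne_zero.2 hlam)
  linear_combination h'

set_option maxHeartbeats 1000000 in
/-- The image of a mixed ruler under the involution of a graph. -/
theorem graph_image {s₁ s₂ : Y} {b₁ b₂ d₁ d₂ : F} (hG : Gr M B s₁ s₂ b₁ b₂ d₁ d₂) (h11 : B s₁ s₁ ≠ 0)
    (h21 : B s₂ s₁ = 0) (hs₂ : s₂ ≠ 0) {c : Y} {x : F} (hx : x ≠ 0) (hc1 : B c s₁ = 0) (hc2 : B c s₂ = 0)
    (hc0 : c ≠ 0) (hsum : x * x * B s₁ s₁ + B c c ≠ 0) : B c c = x * x * B s₁ s₁ := by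
  have hB := H.sym
  have h2 := hB.odd
  obtain ⟨t1, hd1, hdisc⟩ := trace_zero H hnc hG h11 h21 hs₂
  have h22 := not_degenerate H hnc hG h11 h21 hs₂
  have hrel := graph_rel H hnc hG h11 h21 hs₂
  obtain ⟨U, hU, hNR, hvec⟩ := hG
  have hd₂ : d₂ = -b₁ := eq_neg_of_add_eq_zero_right t1
  set ε := b₁ * b₁ + b₂ * d₁ with hε
  have hε0 : ε ≠ 0 := fun e => hdisc 0 (by rw [hd₂]; linear_combination -4 * e)
  set a := B s₁ s₁ with ha
  set b := B s₂ s₂ with hb
  have h12 : B s₁ s₂ = 0 := by rw [hB.symm, h21]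
  have h1c : B s₁ c = 0 := by rw [hB.symm, hc1]
  have h2c : B s₂ c = 0 := by rw [hB.symm, hc2]
  set P₁ := (((1 : F) • s₁ + (b₁ * 1 + b₂ * 0) • s₂, (0 : F) • s₁ + (d₁ * 1 + d₂ * 0) • s₂) : Y × Y) with hP₁
  set P₂ := (((0 : F) • s₁ + (b₁ * 0 + b₂ * 1) • s₂, (1 : F) • s₁ + (d₁ * 0 + d₂ * 1) • s₂) : Y × Y) with hP₂
  have hom : om B P₁ P₂ = 2 * a := by
    simp [P₁, P₂, om, h12, h21, ← ha, ← hb, hd₂]
    linear_combination -hrel
  obtain ⟨r, hr, hrx⟩ := exists_inv H hU (hvec 1 0) (hvec 0 1) (by rw [← hP₁, ← hP₂, hom]; exact mul_ne_zero h2 h11)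
  rw [← hP₁, ← hP₂, hom] at hrx
  have hcc : B (x • s₁ + c) (x • s₁ + c) ≠ 0 := by
    simp only [map_add, map_smul, LinearMap.add_apply, LinearMap.smul_apply, smul_eq_mul, h1c, hc1, ← ha]
    intro e
    exact hsum (by linear_combination e)
  set U' := (Rl (x • s₁ + c)).map r.toLinearMap with hU'
  have hP' : InP M B U' := InP.map H (inP_Rl H hcc) hr
  -- the vectors of the image
  have himg : ∀ X Y' : F,
      ((X • c + (-(x * (b₁ * X + b₂ * Y'))) • s₂, Y' • c + (-(x * (d₁ * X + d₂ * Y'))) • s₂) : Y × Y) ∈ U' := by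
    intro X Y'
    refine ⟨(X • (x • s₁ + c), Y' • (x • s₁ + c)), mem_Rl.2 ⟨X, Y', rfl⟩, ?_⟩
    show r _ = _
    rw [hrx]
    have e1 : om B (X • (x • s₁ + c), Y' • (x • s₁ + c)) P₂ = X * x * a := by
      simp [P₂, om, h12, h21, hc1, hc2, ← ha]
      ring
    have e2 : om B (X • (x • s₁ + c), Y' • (x • s₁ + c)) P₁ = -(Y' * x * a) := by
      simp [P₁, om, h12, h21, hc1, hc2, ← ha]
      ring
    rw [e1, e2]
    ext <;> simp [P₁, P₂] <;> match_scalars <;> field_simp <;> ring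
  have hNR' : NR U' := by
    refine fun w hw hw0 y hwy => ?_
    obtain ⟨-, hUy⟩ := dep H hnc hP' hw hw0 hwy
    obtain ⟨p, q, e⟩ := mem_Rl.1 (hUy ▸ himg 1 0)
    have e1 := congrArg Prod.fst e
    have e2 := congrArg Prod.snd e
    simp only [zero_smul, zero_add, one_smul, mul_one, mul_zero, add_zero] at e1 e2
    have hq : q ≠ 0 := fun h => by
      rw [h, zero_smul, smul_eq_zero] at e2
      exact mul_ne_zero hx hd1 (neg_eq_zero.1 (e2.resolve_right hs₂))
    have e3 : c = (p / q * -(x * d₁) + x * b₁) • s₂ := by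
      rw [add_smul, ← smul_smul, e2, smul_smul, div_mul_cancel₀ _ hq, ← e1]
      module
    have e4 := congrArg (B s₂) e3
    rw [h2c, map_smul, smul_eq_mul, ← hb] at e4
    exact hc0 (by rw [e3, (mul_eq_zero.1 e4.symm).resolve_right h22, zero_smul])
  by_cases hγ : B c c = 0
  · -- a degenerate graph
    refine absurd hγ (not_degenerate H hnc (s₁ := s₂) (s₂ := c) (b₁ := -(b₁ / (x * ε))) (b₂ := -(b₂ / (x * ε)))
      (d₁ := -(d₁ / (x * ε))) (d₂ := -(d₂ / (x * ε))) ⟨U', hP', hNR', fun X Y' => ?_⟩ h22 hc2 hc0)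
    have h := himg (-(b₁ * X + b₂ * Y') / (x * ε)) (-(d₁ * X + d₂ * Y') / (x * ε))
    convert h using 1
    ext <;> match_scalars <;> (try simp only [hd₂]) <;> field_simp <;> (try simp only [hε]) <;> ring
  · have := graph_rel H hnc (s₁ := c) (s₂ := s₂) (b₁ := -(x * b₁)) (b₂ := -(x * b₂)) (d₁ := -(x * d₁))
      (d₂ := -(x * d₂)) ⟨U', hP', hNR', fun X Y' => by
        convert himg X Y' using 1
        ext <;> simp <;> module⟩ hγ h2c hs₂
    rw [← hb] at this
    linear_combination this - x * x * hrel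

/-- There is no graph. -/
theorem no_graph {s₁ s₂ : Y} {b₁ b₂ d₁ d₂ : F} (hG : Gr M B s₁ s₂ b₁ b₂ d₁ d₂) (h11 : B s₁ s₁ ≠ 0)
    (h21 : B s₂ s₁ = 0) (hs₂ : s₂ ≠ 0) : False := by
  have hB := H.sym
  obtain ⟨t1, hd1, hdisc⟩ := trace_zero H hnc hG h11 h21 hs₂
  have h22 := not_degenerate H hnc hG h11 h21 hs₂
  have hrel := graph_rel H hnc hG h11 h21 hs₂
  have hd₂ : d₂ = -b₁ := eq_neg_of_add_eq_zero_right t1
  have h12 : B s₁ s₂ = 0 := by rw [hB.symm, h21]
  rcases H.dim with h5 | ⟨h3, hq⟩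
  · obtain ⟨c, hc, hc0, hcc⟩ : ∃ c ∈ LinearMap.ker (B s₁) ⊓ LinearMap.ker (B s₂), c ≠ 0 ∧ B c c = 0 := by
      rcases h5 with h5 | ⟨h4, hts⟩
      · exact exists_iso hB _ (by
          have h1 := finrank_inf_ker (LinearMap.ker (B s₁)) (B s₂)
          have h2 := finrank_ker_le (B s₁)
          omega)
      · obtain ⟨c, hc0, c1, c2, hcc⟩ := plane_perp_iso hB h4 hts h12 h11 h22 (by
          rintro ⟨r, hr⟩
          refine hdisc (2 * (r / B s₂ s₂)) ?_
          rw [hd₂]
          field_simp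
          linear_combination (-4 : F) * hr - 4 * (B s₂ s₂) * hrel)
        exact ⟨c, ⟨c1, c2⟩, hc0, hcc⟩
    have := graph_image H hnc hG h11 h21 hs₂ one_ne_zero (c := c) (by rw [hB.symm]; exact hc.1)
      (by rw [hB.symm]; exact hc.2) hc0 (by rw [hcc]; simpa using h11)
    rw [hcc] at this
    exact h11 (by simpa using this.symm)
  · obtain ⟨c, hc1, hc2, hcc⟩ := exists_third hB (by omega) h11 h22 h12
    rw [hB.symm] at hc1 hc2
    have hc0 : c ≠ 0 := fun e => hcc (by simp [e])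
    set ε := b₁ * b₁ + b₂ * d₁ with hε
    have hns : ∀ k : F, k * k ≠ ε := fun k hk => hdisc (2 * k) (by rw [hd₂]; linear_combination 4 * hk)
    have hε0 : ε ≠ 0 := fun e => hns 0 (by rw [e, mul_zero])
    have hA : ∀ x : F, x ≠ 0 → B c c = x * x * B s₁ s₁ ∨ B c c = -(x * x * B s₁ s₁) := fun x hx => by
      by_cases h : x * x * B s₁ s₁ + B c c = 0
      · exact Or.inr (by linear_combination h)
      · exact Or.inl (graph_image H hnc hG h11 h21 hs₂ hx hc1 hc2 hc0 h)
    have hG' : Gr M B s₂ s₁ (b₁ / ε) (b₂ / ε) (d₁ / ε) (d₂ / ε) := by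
      obtain ⟨U, hU, hNR, hvec⟩ := hG
      refine ⟨U, hU, hNR, fun x y => ?_⟩
      have h := hvec ((b₁ * x + b₂ * y) / ε) ((d₁ * x + d₂ * y) / ε)
      convert h using 1
      ext <;> match_scalars <;> (try simp only [hd₂]) <;> field_simp <;> (try simp only [hε]) <;> ring
    have hs₁ : s₁ ≠ 0 := fun e => h11 (by simp [e])
    have hB' : ∀ x : F, x ≠ 0 → B c c = x * x * B s₂ s₂ ∨ B c c = -(x * x * B s₂ s₂) := fun x hx => by
      by_cases h : x * x * B s₂ s₂ + B c c = 0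
      · exact Or.inr (by linear_combination h)
      · exact Or.inl (graph_image H hnc hG' h22 h12 hs₁ hx hc2 hc1 hc0 h)
    -- `ε = -1`
    have hab : B s₁ s₁ = B s₂ s₂ := by
      have hε1 : ε ≠ 1 := fun e => hns 1 (by rw [e, one_mul])
      have hne : B s₁ s₁ ≠ -B s₂ s₂ := fun e => hε1 (mul_right_cancel₀ h22 (by linear_combination hrel - e))
      rcases hA 1 one_ne_zero with e1 | e1 <;> rcases hB' 1 one_ne_zero with e2 | e2
      · linear_combination e2 - e1
      · exact absurd (by linear_combination e2 - e1) hne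
      · exact absurd (by linear_combination e1 - e2) hne
      · linear_combination e1 - e2
    have hε' : ε = -1 := mul_right_cancel₀ h22 (by linear_combination hrel - hab)
    classical
    obtain ⟨β, hβ0, hβ1, hβ2⟩ : ∃ β : F, β ≠ 0 ∧ β ≠ 1 ∧ β ≠ -1 := by
      by_contra! h
      have h1 : (Finset.univ : Finset F) ⊆ {0, 1, -1} := fun x _ => by
        simp only [Finset.mem_insert, Finset.mem_singleton]
        by_cases e0 : x = 0
        · exact Or.inl e0
        by_cases e1 : x = 1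
        · exact Or.inr (Or.inl e1)
        exact Or.inr (Or.inr (h x e0 e1))
      have h2 := Finset.card_le_card h1
      rw [Finset.card_univ] at h2
      have h3' : ({0, 1, -1} : Finset F).card ≤ 3 := Finset.card_le_three
      omega
    have hb1 : β * β ≠ 1 := fun e => by rcases mul_self_eq_one_iff.1 e with h | h <;> contradiction
    have hb2 : β * β ≠ -1 := fun e => hns β (by rw [e, hε'])
    rcases hA 1 one_ne_zero with e1 | e1 <;> rcases hA β hβ0 with e2 | e2
    · exact hb1 (mul_right_cancel₀ h11 (by linear_combination e1 - e2))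
    · exact hb2 (mul_right_cancel₀ h11 (by linear_combination e2 - e1))
    · exact hb2 (mul_right_cancel₀ h11 (by linear_combination e1 - e2))
    · exact hb1 (mul_right_cancel₀ h11 (by linear_combination e2 - e1))

set_option maxHeartbeats 1000000 in
/-- A vector with components spanning a tangent plane of the conic determines its plane. -/
theorem tangent {r s : Y} (h3 : finrank F Y = 3) (hr : r ≠ 0) (hrr : B r r = 0) (hrs : B r s = 0) (hss : B s s ≠ 0)
    {U : Submodule F (Y × Y)} (hU : InP M B U) (hu : ((r, s) : Y × Y) ∈ U) :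
    (3 : F) ≠ 0 ∧ ∃ q, ((s, q) : Y × Y) ∈ U ∧ B q q = 0 ∧ B q s = 0 ∧ B r q = -(2 * B s s) := by
  have hB := H.sym
  have h2 := hB.odd
  have hsr : B s r = 0 := by rw [hB.symm, hrs]
  have hu0 : ((r, s) : Y × Y) ≠ 0 := fun e => hr (congrArg Prod.fst e)
  set a := B s s with ha
  let E : Y →ₗ[F] Y := LinearMap.id + (-a⁻¹) • (B.flip r).smulRight s + a⁻¹ • (B.flip s).smulRight r +
    (-(2 * a)⁻¹) • (B.flip r).smulRight r
  have hE : ∀ y, E y = y + (-(B y r / a)) • s + (B y s / a - B y r / (2 * a)) • r := fun y => by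
    simp only [E, LinearMap.add_apply, LinearMap.id_apply, LinearMap.smul_apply, LinearMap.smulRight_apply,
      LinearMap.flip_apply]
    match_scalars <;> field_simp <;> ring
  have hEp : ∀ y y', B (E y) (E y') = B y y' := fun y y' => by
    simp only [hE, map_add, map_smul, LinearMap.add_apply, LinearMap.smul_apply, smul_eq_mul, hrr, hrs, hsr, ← ha]
    rw [hB.symm r y', hB.symm s y']
    field_simp
    ring
  obtain ⟨g1, hg1, e1⟩ := H.orth E hEp
  obtain ⟨g2, hg2, e2⟩ := H.sl 1 0 (-1) 1 (by ring)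
  have hgg : g2 * g1 ∈ M := mul_mem hg2 hg1
  have hEr : E r = r := by simp [hE, hrr, hrs]
  have hEs : E s = s + r := by simp [hE, hsr, ← ha, div_self hss]
  have hgu : (g2 * g1) (r, s) = (r, s) := by rw [gmul_app, e1, e2, hEr, hEs]; simp
  have hUU : U.map (g2 * g1).toLinearMap = U :=
    hnc _ U (InP.map H hU hgg) hU _ hu0 ⟨_, hu, hgu⟩ hu
  obtain ⟨v, hv, hv0⟩ := exists_partner H hU hu hu0
  obtain ⟨p, q⟩ := v
  have hgv : (g2 * g1) (p, q) ∈ U := hUU ▸ (⟨_, hv, rfl⟩ : _ ∈ U.map (g2 * g1).toLinearMap)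
  have hom : om B (r, s) ((g2 * g1) (p, q)) = om B (r, s) (p, q) := by
    conv_lhs => rw [← hgu]
    rw [H.pres _ hgg]
  have hexp := expand H hU hu hv hgv hv0
  rw [hom, div_self hv0, one_smul] at hexp
  set k := om B ((g2 * g1) (p, q)) (p, q) / om B (r, s) (p, q)
  rw [gmul_app, e1, e2] at hexp
  have f1 := congrArg Prod.fst hexp
  have f2 := congrArg Prod.snd hexp
  simp only [Prod.smul_mk, Prod.mk_add_mk, one_smul, zero_smul, add_zero, neg_smul] at f1 f2
  -- the components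
  have g1' := congrArg (fun y => B y s) f1
  simp only [hE, map_add, map_neg, map_smul, LinearMap.add_apply, LinearMap.neg_apply, LinearMap.smul_apply,
    smul_eq_mul, hrs, ← ha] at g1'
  have hP : B p r = 0 := by
    field_simp at g1'
    exact mul_left_cancel₀ (mul_ne_zero h2 hss) (by linear_combination -g1')
  rw [hE p, hP] at f1
  simp only [zero_div, neg_zero, zero_smul, add_zero, sub_zero] at f1
  rw [add_comm (k • r) p, add_right_inj] at f1
  have hk : k = B p s / a := (smul_left_injective F hr f1).symm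
  rw [hE p, hE q, hP, hk] at f2
  have g2' := congrArg (fun y => B y s) f2
  simp only [map_add, map_neg, map_smul, LinearMap.add_apply, LinearMap.neg_apply, LinearMap.smul_apply,
    smul_eq_mul, hrs, ← ha] at g2'
  have hQ : B q r = -(2 * B p s) := by
    field_simp at g2'
    exact mul_left_cancel₀ (mul_ne_zero h2 hss) (by linear_combination -g2')
  set P := B p s with hPd
  have hp : p = (P / a) • s + (B q s / a) • r := by
    rw [hQ] at f2
    rw [← sub_eq_zero] at f2 ⊢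
    rw [← neg_eq_zero, ← f2]
    match_scalars <;> field_simp <;> ring
  have hrq : B r q = -(2 * P) := by rw [hB.symm, hQ]
  have hom' : om B (r, s) (p, q) = -(3 * P) := by
    simp only [om, hrq, hB.symm s p, ← hPd]
    ring
  rw [hom'] at hv0
  have h30 : (3 : F) ≠ 0 := fun e => hv0 (by rw [e, zero_mul, neg_zero])
  have hP0 : P ≠ 0 := fun e => hv0 (by rw [e, mul_zero, neg_zero])
  -- the second vector
  set w := (a / P) • (q - (B q s / a) • s) with hw
  have hwm : ((s, w) : Y × Y) ∈ U := by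
    have := U.smul_mem (a / P) (sub_mem hv (U.smul_mem (B q s / a) hu))
    convert this using 1
    rw [hp]
    ext
    · simp
      match_scalars <;> field_simp
    · simp [hw]
  have hws : B w s = 0 := by simp [hw, ← ha, div_mul_cancel₀ _ hss]
  have hrw : B r w = -(2 * a) := by
    simp [hw, hrs, hrq]
    field_simp
  refine ⟨h30, w, hwm, ?_, hws, hrw⟩
  -- the second vector is again tangent
  by_contra hww
  have hsw : B s w = 0 := by rw [hB.symm, hws]
  obtain ⟨n, hn1, hn2, hnn⟩ := exists_third hB (by omega) hss hww hsw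
  rw [hB.symm] at hn1 hn2
  obtain ⟨hrn, -⟩ := fix_perp H hnc hU hwm (fun e => hss (by
    rw [ha, show s = 0 from congrArg Prod.fst e, map_zero])) hnn
    (by rw [hB.symm]; exact hn1) (by rw [hB.symm]; exact hn2) hu
  have hw0 : w ≠ 0 := fun e => hww (by simp [e])
  have hnr : B n r = 0 := by rw [hB.symm]; exact hrn
  -- `r` is then a combination of `s` and `w`
  set ρ := r - (B r w / B w w) • w with hρ
  have ρ1 : B ρ s = 0 := by simp [hρ, hrs, hws]
  have ρ2 : B ρ w = 0 := by simp [hρ, div_mul_cancel₀ _ hww]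
  have ρ3 : B ρ n = 0 := by simp [hρ, hrn, hB.symm w n, hn2]
  have hli : LinearIndependent F ![s, w, n] := by
    rw [Fintype.linearIndependent_iff]
    intro g hg i
    simp only [Fin.sum_univ_three, Matrix.cons_val_zero, Matrix.cons_val_one, Matrix.cons_val] at hg
    have e1 := congrArg (B s) hg
    have e2 := congrArg (B w) hg
    have e3 := congrArg (B n) hg
    simp [hsw, hB.symm s n, hn1, ← ha] at e1
    simp [hws, hB.symm w n, hn2] at e2
    simp [hn1, hn2] at e3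
    fin_cases i
    · exact e1.resolve_right hss
    · exact e2.resolve_right hww
    · exact e3.resolve_right hnn
  have htop := hli.span_eq_top_of_card_eq_finrank (by rw [Fintype.card_fin, h3])
  have hρ0 : ρ = 0 := hB.nd ρ fun v => by
    have hv' : v ∈ Submodule.span F (Set.range ![s, w, n]) := htop ▸ Submodule.mem_top
    obtain ⟨c, rfl⟩ := (Submodule.mem_span_range_iff_exists_fun F).1 hv'
    simp [Fin.sum_univ_three, ρ1, ρ2, ρ3]
  have hrw' : r = (B r w / B w w) • w := sub_eq_zero.1 hρ0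
  apply hww
  have e := congrArg (B r) hrw'
  rw [hrr, map_smul, smul_eq_mul, hrw] at e
  exfalso
  rcases mul_eq_zero.1 e.symm with h | h
  · exact hr (by rw [hrw', hrw, h, zero_smul])
  · exact mul_ne_zero h2 hss (neg_eq_zero.1 h)

omit H hnc in
theorem finrank_pair {a b : Y} (h : LinearIndependent F ![a, b]) :
    finrank F (Submodule.span F ({a, b} : Set Y)) = 2 := by
  have e : Set.range ![a, b] = {a, b} := by
    ext x
    simp [Fin.exists_fin_two, eq_comm]
    tauto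
  have := finrank_span_eq_card h
  rwa [e, Fintype.card_fin] at this

/-- Every image of a ruler is a ruler. -/
theorem ruler {U : Submodule F (Y × Y)} (hU : InP M B U) : ∃ y, B y y ≠ 0 ∧ U = Rl y := by
  classical
  have hB := H.sym
  by_contra hcon
  have hNR : NR U := fun x hx hx0 y hxy => hcon ⟨y, dep H hnc hU hx hx0 hxy⟩
  obtain ⟨u, hu, hu0⟩ : ∃ u ∈ U, u ≠ 0 := by
    obtain ⟨g, hg, z, hz, rfl⟩ := hU
    refine ⟨g (z, 0), ⟨(z, 0), mem_Rl.2 ⟨1, 0, by simp⟩, rfl⟩, fun e => ?_⟩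
    exact hz (by simp [show z = 0 from congrArg Prod.fst (g.injective (by rw [e, map_zero]) : ((z, 0) : Y × Y) = 0)])
  obtain ⟨v, hv, hv0⟩ := exists_partner H hU hu hu0
  set S := Submodule.span F ({u.1, u.2} : Set Y) with hS
  have hu1S : u.1 ∈ S := Submodule.subset_span (by simp)
  have hu2S : u.2 ∈ S := Submodule.subset_span (by simp)
  have hindep : ∀ p q : F, p • u.1 + q • u.2 = 0 → p = 0 ∧ q = 0 := by
    intro p q hpq
    by_contra hne
    by_cases hq : q = 0
    · refine hNR u hu hu0 u.2 (mem_Rl.2 ⟨0, 1, Prod.ext ?_ (one_smul _ _).symm⟩)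
      rw [hq, zero_smul, add_zero] at hpq
      rw [zero_smul]
      exact (smul_eq_zero.1 hpq).resolve_left fun h => hne ⟨h, hq⟩
    · refine hNR u hu hu0 u.1 (mem_Rl.2 ⟨1, -(p / q), Prod.ext (one_smul _ _).symm ?_⟩)
      show u.2 = _
      rw [neg_smul, eq_neg_iff_add_eq_zero, div_eq_inv_mul, ← smul_smul]
      have e := congrArg (q⁻¹ • ·) hpq
      simp only [smul_add, smul_smul, inv_mul_cancel₀ hq, one_smul, smul_zero] at e
      rw [smul_smul, add_comm]
      exact e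
  have hS2 : finrank F S ≤ 2 := (finrank_span_le_card ({u.1, u.2} : Set Y)).trans
    (by simpa using Finset.card_le_two (a := u.1) (b := u.2))
  by_cases hin : v.1 ∈ S ∧ v.2 ∈ S
  · -- a graph
    obtain ⟨s₁, hs₁S, h11⟩ : ∃ s ∈ S, B s s ≠ 0 := by
      by_contra! h
      apply hv0
      have hzero : ∀ y ∈ S, ∀ z ∈ S, B y z = 0 := fun y hy z hz => by
        by_contra hne
        obtain ⟨x, hx, hxx⟩ := aniso_of hB S hy hz hne
        exact hxx (h x hx)
      simp [om, hzero _ hu1S _ hin.2, hzero _ hu2S _ hin.1]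
    set a := B s₁ s₁ with ha
    obtain ⟨s₂, hs₂S, h21, hs₂⟩ : ∃ s ∈ S, B s s₁ = 0 ∧ s ≠ 0 := by
      by_contra! h
      have h1 := h (u.1 - (B u.1 s₁ / a) • s₁) (sub_mem hu1S (S.smul_mem _ hs₁S))
        (by simp [← ha, div_mul_cancel₀ _ h11])
      have h2 := h (u.2 - (B u.2 s₁ / a) • s₁) (sub_mem hu2S (S.smul_mem _ hs₁S))
        (by simp [← ha, div_mul_cancel₀ _ h11])
      rw [sub_eq_zero] at h1 h2
      exact hNR u hu hu0 s₁ (mem_Rl.2 ⟨_, _, Prod.ext h1 h2⟩)
    have hS' : Submodule.span F ({s₁, s₂} : Set Y) = S := by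
      refine Submodule.eq_of_le_of_finrank_le (Submodule.span_le.2 ?_) (hS2.trans ?_)
      · intro x hx
        simp only [Set.mem_insert_iff, Set.mem_singleton_iff] at hx
        rcases hx with rfl | rfl
        · exact hs₁S
        · exact hs₂S
      · have hli : LinearIndependent F ![s₁, s₂] := LinearIndependent.pair_iff.2 fun p q h =>
          coef_zero h11 h21 hs₂ h
        have := finrank_pair hli
        omega
    have hco : ∀ y ∈ S, ∃ c : F, y = (B y s₁ / a) • s₁ + c • s₂ := by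
      intro y hy
      rw [← hS', Submodule.mem_span_pair] at hy
      obtain ⟨p, q, rfl⟩ := hy
      exact ⟨q, by simp [← ha, h21, mul_div_assoc, div_self h11]⟩
    let L : F × F →ₗ[F] F × F :=
      { toFun := fun x => (B (x.1 • u + x.2 • v).1 s₁ / a, B (x.1 • u + x.2 • v).2 s₁ / a)
        map_add' := fun x y => by ext <;> simp <;> ring
        map_smul' := fun c x => by ext <;> simp <;> ring }
    have hL : Function.Injective L := by
      rw [injective_iff_map_eq_zero]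
      intro x hx
      have e1 : B (x.1 • u + x.2 • v).1 s₁ / a = 0 := congrArg Prod.fst hx
      have e2 : B (x.1 • u + x.2 • v).2 s₁ / a = 0 := congrArg Prod.snd hx
      set P := x.1 • u + x.2 • v with hP
      have hPU : P ∈ U := add_mem (U.smul_mem _ hu) (U.smul_mem _ hv)
      obtain ⟨c, hc⟩ := hco P.1 (by simpa [hP] using add_mem (S.smul_mem x.1 hu1S) (S.smul_mem x.2 hin.1))
      obtain ⟨c', hc'⟩ := hco P.2 (by simpa [hP] using add_mem (S.smul_mem x.1 hu2S) (S.smul_mem x.2 hin.2))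
      rw [e1, zero_smul, zero_add] at hc
      rw [e2, zero_smul, zero_add] at hc'
      have hP0 : P = 0 := by
        by_contra hne
        exact hNR P hPU hne s₂ (mem_Rl.2 ⟨c, c', Prod.ext hc hc'⟩)
      have f1 := congrArg (om B u) hP0
      have f2 := congrArg (fun w => om B w v) hP0
      simp only [hP, om_add_right, om_smul_right, om_self hB, om_zero_right] at f1
      simp only [hP, om_add_left, om_smul_left, om_self hB, show om B 0 v = 0 by simp [om]] at f2
      simp only [mul_zero, zero_add, add_zero, mul_eq_zero, hv0, or_false] at f1 f2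
      exact Prod.ext f2 f1
    have hLs := (LinearMap.injective_iff_surjective_of_finrank_eq_finrank rfl).1 hL
    have hvec : ∀ x y : F, ∃ P ∈ U, B P.1 s₁ / a = x ∧ B P.2 s₁ / a = y ∧ P.1 ∈ S ∧ P.2 ∈ S := by
      intro x y
      obtain ⟨w, hw⟩ := hLs (x, y)
      exact ⟨w.1 • u + w.2 • v, add_mem (U.smul_mem _ hu) (U.smul_mem _ hv), congrArg Prod.fst hw,
        congrArg Prod.snd hw, by simpa using add_mem (S.smul_mem w.1 hu1S) (S.smul_mem w.2 hin.1),
        by simpa using add_mem (S.smul_mem w.1 hu2S) (S.smul_mem w.2 hin.2)⟩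
    obtain ⟨P₁, hP₁, p1, p2, p3, p4⟩ := hvec 1 0
    obtain ⟨P₂, hP₂, q1, q2, q3, q4⟩ := hvec 0 1
    obtain ⟨b₁, hb₁⟩ := hco _ p3
    obtain ⟨d₁, hd₁⟩ := hco _ p4
    obtain ⟨b₂, hb₂⟩ := hco _ q3
    obtain ⟨d₂, hd₂⟩ := hco _ q4
    rw [p1] at hb₁
    rw [p2] at hd₁
    rw [q1] at hb₂
    rw [q2] at hd₂
    refine no_graph H hnc (b₁ := b₁) (b₂ := b₂) (d₁ := d₁) (d₂ := d₂) ⟨U, hU, hNR, fun x y => ?_⟩ h11 h21 hs₂
    convert add_mem (U.smul_mem x hP₁) (U.smul_mem y hP₂) using 1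
    ext
    · simp [hb₁, hb₂]
      module
    · simp [hd₁, hd₂]
      module
  · -- the components of `u` have no anisotropic common orthogonal vector
    set K := LinearMap.ker (B u.1) ⊓ LinearMap.ker (B u.2) with hK
    have hKts : ∀ x ∈ K, B x x = 0 := by
      by_contra! hne
      obtain ⟨z, hzK, hzz⟩ := hne
      have key : ∀ z ∈ K, B z z ≠ 0 → B z v.1 = 0 ∧ B z v.2 = 0 := fun z hz hzz => by
        obtain ⟨e1, e2⟩ := fix_perp H hnc hU hu hu0 hzz hz.1 hz.2 hv
        exact ⟨by rw [hB.symm]; exact e1, by rw [hB.symm]; exact e2⟩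
      have k1 := perp_of_aniso hB ⟨z, hzK, hzz⟩ (a := v.1) fun z hz hzz => (key z hz hzz).1
      have k2 := perp_of_aniso hB ⟨z, hzK, hzz⟩ (a := v.2) fun z hz hzz => (key z hz hzz).2
      have hperp : ∀ y, (∀ x ∈ K, B x y = 0) → y ∈ S := by
        intro y hy
        by_contra hyS
        obtain ⟨φ, hφ, hφS⟩ := Submodule.exists_le_ker_of_notMem hyS
        have hinj : Function.Injective B := by
          rw [injective_iff_map_eq_zero]
          exact fun x hx => hB.nd x fun w => LinearMap.congr_fun hx w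
        obtain ⟨w, hw⟩ := (LinearMap.injective_iff_surjective_of_finrank_eq_finrank
          (by rw [Module.finrank_linearMap, finrank_self, mul_one])).1 hinj φ
        apply hφ
        rw [← hw]
        refine hy w ⟨?_, ?_⟩
        · show B u.1 w = 0
          rw [hB.symm, hw]
          exact hφS hu1S
        · show B u.2 w = 0
          rw [hB.symm, hw]
          exact hφS hu2S
      exact hin ⟨hperp _ k1, hperp _ k2⟩
    have hKdim := finrank_inf_ker (LinearMap.ker (B u.1)) (B u.2)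
    have hk1 := finrank_ker_le (B u.1)
    rw [← hK] at hKdim
    have hKle := two_mul_le hB (W := K) hKts
    have h3 : finrank F Y = 3 := by
      rcases H.dim with (h5 | ⟨h4, hts⟩) | ⟨h3, -⟩
      · omega
      · have := hts _ hKts
        omega
      · exact h3
    obtain ⟨r, hr, hr0⟩ := (Submodule.ne_bot_iff K).1 (fun h => by
      rw [h, finrank_bot] at hKdim; omega)
    have hrr : B r r = 0 := hKts r hr
    have hru1 : B r u.1 = 0 := by rw [hB.symm]; exact hr.1
    have hru2 : B r u.2 = 0 := by rw [hB.symm]; exact hr.2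
    have hSeq : S = LinearMap.ker (B r) := by
      refine Submodule.eq_of_le_of_finrank_le (Submodule.span_le.2 ?_) ?_
      · intro x hx
        simp only [Set.mem_insert_iff, Set.mem_singleton_iff] at hx
        rcases hx with rfl | rfl
        · exact hru1
        · exact hru2
      · have hli : LinearIndependent F ![u.1, u.2] := LinearIndependent.pair_iff.2 hindep
        have := finrank_pair hli
        rw [← hS] at this
        have hkr := finrank_ker_eq hB hr0
        omega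
    have hrS : r ∈ S := by rw [hSeq]; exact hrr
    obtain ⟨s, hsS, hss⟩ : ∃ s ∈ S, B s s ≠ 0 := by
      by_contra! h
      have h1 := two_mul_le hB (W := S) h
      rw [hSeq] at h1
      have hkr := finrank_ker_eq hB hr0
      omega
    have hrs : B r s = 0 := by rw [hSeq] at hsS; exact hsS
    have hco : ∀ y ∈ S, ∃ p q : F, y = p • r + q • s := by
      have hli : LinearIndependent F ![r, s] := LinearIndependent.pair_iff.2 fun p q h => by
        have e := congrArg (B s) h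
        simp [hB.symm s r, hrs, hss] at e
        rw [e, zero_smul, add_zero] at h
        exact ⟨(smul_eq_zero.1 h).resolve_right hr0, e⟩
      have hS' : Submodule.span F ({r, s} : Set Y) = S := by
        refine Submodule.eq_of_le_of_finrank_le (Submodule.span_le.2 ?_) (hS2.trans ?_)
        · intro x hx
          simp only [Set.mem_insert_iff, Set.mem_singleton_iff] at hx
          rcases hx with rfl | rfl
          · exact hrS
          · exact hsS
        · have := finrank_pair hli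
          omega
      intro y hy
      rw [← hS', Submodule.mem_span_pair] at hy
      obtain ⟨p, q, h⟩ := hy
      exact ⟨p, q, h.symm⟩
    obtain ⟨α, β, hαβ⟩ := hco _ hu1S
    obtain ⟨γ, δ, hγδ⟩ := hco _ hu2S
    set Δ := α * δ - β * γ with hΔ
    have hΔ0 : Δ ≠ 0 := by
      intro h0
      have e1 : δ • u.1 + (-β) • u.2 = 0 := by
        rw [hαβ, hγδ]
        have : δ • (α • r + β • s) + (-β) • (γ • r + δ • s) = Δ • r := by rw [hΔ]; module
        rw [this, h0, zero_smul]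
      obtain ⟨hδ, hβ⟩ := hindep _ _ e1
      rw [neg_eq_zero] at hβ
      refine hNR u hu hu0 r (mem_Rl.2 ⟨α, γ, Prod.ext ?_ ?_⟩)
      · rw [hαβ, hβ, zero_smul, add_zero]
      · rw [hγδ, hδ, zero_smul, add_zero]
    have hdet : δ * (α / Δ) - -β * (-γ / Δ) = 1 := by
      rw [mul_div_assoc', neg_mul, mul_div_assoc', ← neg_div, ← sub_div, div_eq_one_iff_eq hΔ0, hΔ]
      ring
    obtain ⟨g, hg, hgx⟩ := H.sl δ (-β) (-γ / Δ) (α / Δ) hdet
    have hgu : g u = (Δ • r, s) := by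
      rw [hgx, hαβ, hγδ]
      ext <;> simp only <;> match_scalars <;> field_simp <;> (try simp only [hΔ]) <;> ring
    have hU₂ := InP.map H hU hg
    set r' := Δ • r with hr'
    have hr'0 : r' ≠ 0 := smul_ne_zero hΔ0 hr0
    have hr'r : B r' r' = 0 := by simp [hr', hrr]
    have hr's : B r' s = 0 := by simp [hr', hrs]
    obtain ⟨h30, q, hq, hqq, hqs, hrq⟩ := tangent H hnc h3 hr'0 hr'r hr's hss hU₂ ⟨u, hu, hgu⟩
    set a := B s s with ha
    have hsr : B s r' = 0 := by rw [hB.symm, hr's]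
    have hsq : B s q = 0 := by rw [hB.symm, hqs]
    -- the involution of this plane applied to the ruler at `s`
    have hom : om B ((r', s) : Y × Y) (s, q) = -(3 * a) := by simp [om, hrq, ← ha]; ring
    obtain ⟨t, ht, htx⟩ := exists_inv H hU₂ (⟨u, hu, hgu⟩ : ((r', s) : Y × Y) ∈ U.map g.toLinearMap) hq
      (by rw [hom]; exact neg_ne_zero.2 (mul_ne_zero h30 hss))
    rw [hom] at htx
    set U₃ := (Rl s).map t.toLinearMap with hU₃
    have hP₃ : InP M B U₃ := InP.map H (inP_Rl H hss) ht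
    have m1 : ((s, -((2 : F) • q)) : Y × Y) ∈ U₃ := by
      have := U₃.smul_mem (3 : F) (⟨(s, 0), mem_Rl.2 ⟨1, 0, by simp⟩, rfl⟩ : t (s, 0) ∈ U₃)
      convert this using 1
      rw [htx]
      have e1 : om B ((s, 0) : Y × Y) (s, q) = 0 := by simp [om, hsq]
      have e2 : om B ((s, 0) : Y × Y) (r', s) = a := by simp [om, ha]
      rw [e1, e2]
      ext <;> simp <;> match_scalars <;> field_simp <;> ring
    have m2 : (((-2 : F) • r', s) : Y × Y) ∈ U₃ := by
      have := U₃.smul_mem (3 : F) (⟨(0, s), mem_Rl.2 ⟨0, 1, by simp⟩, rfl⟩ : t (0, s) ∈ U₃)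
      convert this using 1
      rw [htx]
      have e1 : om B ((0, s) : Y × Y) (s, q) = -a := by simp [om, ha]
      have e2 : om B ((0, s) : Y × Y) (r', s) = 0 := by simp [om, hsr]
      rw [e1, e2]
      ext <;> simp <;> match_scalars <;> field_simp <;> ring
    have h2r : (-2 : F) • r' ≠ 0 := smul_ne_zero (neg_ne_zero.2 hB.odd) hr'0
    obtain ⟨-, q', hq', -, -, hrq'⟩ := tangent H hnc h3 h2r (by simp [hr'r]) (by simp [hr's]) hss hP₃ m2
    have hd := sub_mem hq' m1
    simp only [Prod.mk_sub_mk, sub_self] at hd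
    by_cases hd0 : q' - -((2 : F) • q) = 0
    · rw [sub_eq_zero] at hd0
      rw [hd0] at hrq'
      simp [hrq, ← ha] at hrq'
      rcases hrq' with e | e
      · exact mul_ne_zero h30 hss (by linear_combination e)
      · exact hB.odd e
    · obtain ⟨hy, hUy⟩ := dep H hnc hP₃ hd (fun e => hd0 (congrArg Prod.snd e))
        (mem_Rl.2 ⟨0, 1, by simp⟩ : ((0, q' - -((2 : F) • q)) : Y × Y) ∈ Rl (F := F) (q' - -((2 : F) • q)))
      obtain ⟨p, p', e⟩ := mem_Rl.1 (hUy ▸ m2)
      have e1 := congrArg Prod.fst e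
      have e2 := congrArg Prod.snd e
      simp only at e1 e2
      have hp : p ≠ 0 := fun h => h2r (by rw [e1, h, zero_smul])
      generalize q' - -((2 : F) • q) = w at hy e1
      have hh : p * (p * B w w) = 0 := by simpa [hr'r] using (congrArg (fun x => B x x) e1).symm
      exact hy ((mul_eq_zero.1 ((mul_eq_zero.1 hh).resolve_left hp)).resolve_left hp)

end planes

end Cfsg.Agent.TensorSO97
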