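import Mathlib

/-!
Symmetric bilinear forms over finite fields of odd order: reflections and the vectors needed for the tensor
product `Sp₂ ⊗ O(Y)`.
-/

set_option autoImplicit false
set_option linter.unusedSectionVars false

namespace Cfsg.Agent.TensorSO97

open Module

variable {F Y : Type*} [Field F] [Fintype F] [AddCommGroup Y] [Module F Y] [FiniteDimensional F Y]

/-- A non-degenerate symmetric form in odd characteristic. -/
structure SymN (B : Y →ₗ[F] Y →ₗ[F] F) : Prop where
  odd : (2 : F) ≠ 0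
  symm : ∀ x y, B x y = B y x
  nd : ∀ x, (∀ y, B x y = 0) → x = 0

variable {B : Y →ₗ[F] Y →ₗ[F] F} (hB : SymN B)
include hB

theorem card_odd : Fintype.card F % 2 = 1 := FiniteField.odd_card_of_char_ne_two fun hc => hB.odd (by
  haveI : CharP F 2 := hc ▸ ringChar.charP F
  exact CharTwo.two_eq_zero)

theorem sum_two {a b : F} (ha : a ≠ 0) (hb : b ≠ 0) (N : F) : ∃ s t : F, a * s ^ 2 + b * t ^ 2 = N := by
  obtain ⟨s, t, hst⟩ := FiniteField.exists_root_sum_quadratic
    (f := Polynomial.C a * Polynomial.X ^ 2 - Polynomial.C N) (g := Polynomial.C b * Polynomial.X ^ 2)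
    (by rw [Polynomial.degree_sub_C (by rw [Polynomial.degree_C_mul_X_pow 2 ha]; norm_num),
      Polynomial.degree_C_mul_X_pow 2 ha]; rfl)
    (by rw [Polynomial.degree_C_mul_X_pow 2 hb]; rfl) (card_odd hB)
  simp only [Polynomial.eval_sub, Polynomial.eval_mul, Polynomial.eval_C, Polynomial.eval_pow,
    Polynomial.eval_X] at hst
  exact ⟨s, t, by linear_combination hst⟩

/-- The reflection at an anisotropic vector. -/
theorem exists_refl {d : Y} (hd : B d d ≠ 0) :
    ∃ h : Y →ₗ[F] Y, (∀ x, h x = x - (2 * B x d / B d d) • d) ∧ ∀ x y, B (h x) (h y) = B x y := by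
  refine ⟨LinearMap.id - (2 / B d d) • (B.flip d).smulRight d, fun x => ?_, fun x y => ?_⟩
  · simp only [LinearMap.sub_apply, LinearMap.id_apply, LinearMap.smul_apply, LinearMap.smulRight_apply,
      LinearMap.flip_apply, smul_smul]
    congr 2
    ring
  · simp only [LinearMap.sub_apply, LinearMap.id_apply, LinearMap.smul_apply, LinearMap.smulRight_apply,
      LinearMap.flip_apply, map_sub, map_smul, smul_eq_mul]
    rw [hB.symm d y]
    field_simp
    ring

/-- Anisotropic vectors of equal norm are conjugate up to sign, fixing what is orthogonal to both. -/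
theorem witt {x y : Y} (hx : B x x ≠ 0) (hxy : B x x = B y y) :
    ∃ h : Y →ₗ[F] Y, (∀ u v, B (h u) (h v) = B u v) ∧ (h x = y ∨ h x = -y) ∧
      ∀ z, B z x = 0 → B z y = 0 → h z = z := by
  by_cases hd : B (x - y) (x - y) = 0
  · have hs : B (x + y) (x + y) ≠ 0 := by
      simp only [map_sub, LinearMap.sub_apply, ← hxy, hB.symm y x] at hd
      simp only [map_add, LinearMap.add_apply, ← hxy, hB.symm y x]
      intro e
      exact hx (mul_left_cancel₀ (mul_ne_zero hB.odd hB.odd) (by linear_combination hd + e))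
    obtain ⟨h, hh, hhp⟩ := exists_refl hB hs
    refine ⟨h, hhp, Or.inr ?_, fun z zx zy => by simp [hh, zx, zy]⟩
    have : 2 * B x (x + y) / B (x + y) (x + y) = 1 := by
      rw [div_eq_one_iff_eq hs]
      simp only [map_add, LinearMap.add_apply, ← hxy, hB.symm y x]
      ring
    rw [hh, this, one_smul]
    abel
  · obtain ⟨h, hh, hhp⟩ := exists_refl hB hd
    refine ⟨h, hhp, Or.inl ?_, fun z zx zy => by simp [hh, zx, zy]⟩
    have : 2 * B x (x - y) / B (x - y) (x - y) = 1 := by
      rw [div_eq_one_iff_eq hd]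
      simp only [map_sub, LinearMap.sub_apply, ← hxy, hB.symm y x]
      ring
    rw [hh, this, one_smul]
    abel

theorem aniso_of (W : Submodule F Y) {y z : Y} (hy : y ∈ W) (hz : z ∈ W) (h : B y z ≠ 0) :
    ∃ x ∈ W, B x x ≠ 0 := by
  by_cases h1 : B y y = 0
  · by_cases h2 : B z z = 0
    · refine ⟨y + z, add_mem hy hz, ?_⟩
      simp only [map_add, LinearMap.add_apply, h1, h2, hB.symm z y, zero_add, add_zero, ← two_mul]
      exact mul_ne_zero hB.odd h
    · exact ⟨z, hz, h2⟩
  · exact ⟨y, hy, h1⟩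

/-- A subspace without anisotropic vectors has at most half the dimension. -/
theorem two_mul_le {W : Submodule F Y} (h : ∀ x ∈ W, B x x = 0) : 2 * finrank F W ≤ finrank F Y := by
  have hW : ∀ x ∈ W, ∀ y ∈ W, B x y = 0 := fun x hx y hy => by
    by_contra hne
    obtain ⟨z, hz, hzz⟩ := aniso_of hB W hx hy hne
    exact hzz (h z hz)
  let φ : W →ₗ[F] W.dualAnnihilator :=
    { toFun := fun x => ⟨B x, (Submodule.mem_dualAnnihilator _).2 fun y hy => hW x x.2 y hy⟩
      map_add' := fun x y => Subtype.ext (by simp)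
      map_smul' := fun c x => Subtype.ext (by simp) }
  have hφ : Function.Injective φ := by
    rw [injective_iff_map_eq_zero]
    intro x hx
    exact Subtype.ext (hB.nd _ fun y => LinearMap.congr_fun (congrArg Subtype.val hx) y)
  have h1 := LinearMap.finrank_le_finrank_of_injective hφ
  have h2 := Subspace.finrank_add_finrank_dualAnnihilator_eq W
  omega

omit hB in
theorem finrank_inf_ker (W : Submodule F Y) (φ : Y →ₗ[F] F) :
    finrank F W ≤ finrank F ↥(W ⊓ LinearMap.ker φ) + 1 := by
  have h1 := Submodule.finrank_sup_add_finrank_inf_eq W (LinearMap.ker φ)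
  have h2 := LinearMap.finrank_range_add_finrank_ker φ
  have h3 := Submodule.finrank_le (LinearMap.range φ)
  rw [finrank_self] at h3
  have h4 := Submodule.finrank_le (W ⊔ LinearMap.ker φ)
  omega

omit hB in
theorem finrank_ker_le (φ : Y →ₗ[F] F) : finrank F Y ≤ finrank F ↥(LinearMap.ker φ) + 1 := by
  have := finrank_inf_ker (⊤ : Submodule F Y) φ
  rwa [finrank_top, top_inf_eq] at this

theorem finrank_ker_eq {z : Y} (hz : z ≠ 0) : finrank F ↥(LinearMap.ker (B z)) + 1 = finrank F Y := by
  obtain ⟨y, hy⟩ : ∃ y, B z y ≠ 0 := by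
    by_contra! h
    exact hz (hB.nd z h)
  have h := LinearMap.finrank_range_add_finrank_ker (B z)
  have hs : LinearMap.range (B z) = ⊤ :=
    LinearMap.range_eq_top.2 fun c => ⟨(c / B z y) • y, by simp [div_mul_cancel₀ _ hy]⟩
  rw [hs, finrank_top, finrank_self] at h
  omega

theorem perp_one (hdim : 3 ≤ finrank F Y) {z : Y} (hz : z ≠ 0) : ∃ w, B z w = 0 ∧ B w w ≠ 0 := by
  by_contra! h
  have h1 := two_mul_le hB (W := LinearMap.ker (B z)) (fun x hx => h x hx)
  have h2 := finrank_ker_eq hB hz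
  omega

theorem exists_third (hdim : 3 ≤ finrank F Y) {z x : Y} (hz : B z z ≠ 0) (hx : B x x ≠ 0) (hzx : B z x = 0) :
    ∃ y, B z y = 0 ∧ B x y = 0 ∧ B y y ≠ 0 := by
  have h1 := finrank_inf_ker (LinearMap.ker (B z)) (B x)
  have h2 := finrank_ker_le (B z)
  obtain ⟨y, hy, hy0⟩ := (Submodule.ne_bot_iff (LinearMap.ker (B z) ⊓ LinearMap.ker (B x))).1
    (fun h => by rw [h, finrank_bot] at h1; omega)
  obtain ⟨w, hw⟩ : ∃ w, B y w ≠ 0 := by
    by_contra! h
    exact hy0 (hB.nd y h)
  have y1 : B z y = 0 := hy.1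
  have y2 : B x y = 0 := hy.2
  set w' := w - (B z w / B z z) • z - (B x w / B x x) • x with hw'
  have hw'm : w' ∈ LinearMap.ker (B z) ⊓ LinearMap.ker (B x) := by
    constructor
    · show B z w' = 0
      simp [hw', hzx, div_mul_cancel₀ _ hz]
    · show B x w' = 0
      simp [hw', hB.symm x z, hzx, div_mul_cancel₀ _ hx]
  obtain ⟨q, hq, hqq⟩ := aniso_of hB _ hy hw'm (by
    simpa [hw', hB.symm y z, hB.symm y x, y1, y2] using hw)
  exact ⟨q, hq.1, hq.2, hqq⟩

/-- Two orthogonal anisotropic directions give every value. -/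
theorem exists_value {x y : Y} (hx : B x x ≠ 0) (hy : B y y ≠ 0) (hxy : B x y = 0) (N : F) :
    ∃ s t : F, B (s • x + t • y) (s • x + t • y) = N := by
  obtain ⟨s, t, h⟩ := sum_two hB hx hy N
  refine ⟨s, t, ?_⟩
  simp only [map_add, map_smul, LinearMap.add_apply, LinearMap.smul_apply, smul_eq_mul, hxy, hB.symm y x]
  linear_combination h

theorem value_perp (hdim : 3 ≤ finrank F Y) {z : Y} (hz : B z z ≠ 0) (N : F) : ∃ w, B z w = 0 ∧ B w w = N := by
  obtain ⟨x, hzx, hx⟩ := perp_one hB hdim (z := z) (fun h => hz (by simp [h]))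
  obtain ⟨y, hzy, hxy, hy⟩ := exists_third hB hdim hz hx hzx
  obtain ⟨s, t, h⟩ := exists_value hB hx hy hxy N
  exact ⟨s • x + t • y, by simp [hzx, hzy], h⟩

theorem exists_iso (W : Submodule F Y) (hW : 3 ≤ finrank F W) : ∃ p ∈ W, p ≠ 0 ∧ B p p = 0 := by
  by_contra hcon
  push Not at hcon
  obtain ⟨x, hx, hx0⟩ := (Submodule.ne_bot_iff W).1 (fun h => by rw [h, finrank_bot] at hW; omega)
  have a1 := finrank_inf_ker W (B x)
  obtain ⟨y, hy, hy0⟩ := (Submodule.ne_bot_iff (W ⊓ LinearMap.ker (B x))).1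
    (fun h => by rw [h, finrank_bot] at a1; omega)
  have a2 := finrank_inf_ker (W ⊓ LinearMap.ker (B x)) (B y)
  obtain ⟨z, hz, hz0⟩ := (Submodule.ne_bot_iff (W ⊓ LinearMap.ker (B x) ⊓ LinearMap.ker (B y))).1
    (fun h => by rw [h, finrank_bot] at a2; omega)
  have hxy : B x y = 0 := hy.2
  have hxz : B x z = 0 := hz.1.2
  have hyz : B y z = 0 := hz.2
  obtain ⟨s, t, hst⟩ := sum_two hB (hcon x hx hx0) (hcon y hy.1 hy0) (-(B z z))
  set p := s • x + t • y + z with hp
  have hpz : p ≠ 0 := fun e => by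
    have e' := congrArg (B z) e
    simp [hp, hB.symm z x, hxz, hB.symm z y, hyz] at e'
    exact hcon z hz.1.1 hz0 e'
  refine hcon p (add_mem (add_mem (W.smul_mem s hx) (W.smul_mem t hy.1)) hz.1.1) hpz ?_
  simp only [hp, map_add, map_smul, LinearMap.add_apply, LinearMap.smul_apply, smul_eq_mul, hxy, hxz, hyz,
    hB.symm y x, hB.symm z x, hB.symm z y]
  linear_combination hst

/-- Being orthogonal to the anisotropic vectors of a subspace that has one is being orthogonal to all of it. -/
theorem perp_of_aniso {W : Submodule F Y} (hW : ∃ z ∈ W, B z z ≠ 0) {a : Y}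
    (h : ∀ z ∈ W, B z z ≠ 0 → B z a = 0) : ∀ w ∈ W, B w a = 0 := by
  obtain ⟨z, hz, hzz⟩ := hW
  intro w hw
  by_cases hww : B w w = 0
  · obtain ⟨s, hs, hss⟩ : ∃ s : F, s ≠ 0 ∧ B (w + s • z) (w + s • z) ≠ 0 := by
      by_contra! hs
      have e1 := hs 1 one_ne_zero
      have e2 := hs (-1) (neg_ne_zero.2 one_ne_zero)
      simp only [map_add, map_smul, LinearMap.add_apply, LinearMap.smul_apply, smul_eq_mul, hww, hB.symm z w] at e1 e2
      exact hzz (mul_left_cancel₀ hB.odd (by linear_combination e1 + e2))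
    have e := h _ (add_mem hw (W.smul_mem s hz)) hss
    simpa [h z hz hzz] using e
  · exact h w hw hww

/-- In dimension four without a totally singular plane, the orthogonal of an anisotropic plane is isotropic. -/
theorem plane_perp_iso (hdim : finrank F Y = 4) (hts : ∀ W : Submodule F Y, (∀ x ∈ W, B x x = 0) → finrank F W ≤ 1)
    {x y : Y} (hxy : B x y = 0) (hx : B x x ≠ 0) (hy : B y y ≠ 0) (hns : ¬ IsSquare (-(B x x * B y y))) :
    ∃ c, c ≠ 0 ∧ B x c = 0 ∧ B y c = 0 ∧ B c c = 0 := by
  classical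
  by_contra hcon
  have hE : ∀ c, B x c = 0 → B y c = 0 → B c c = 0 → c = 0 := fun c h1 h2 h3 =>
    by_contra fun h => hcon ⟨c, h, h1, h2, h3⟩
  obtain ⟨f, fx, fy, hff⟩ := exists_third hB (by omega) hx hy hxy
  obtain ⟨f', hf', hf'0⟩ : ∃ f' ∈ LinearMap.ker (B x) ⊓ LinearMap.ker (B y) ⊓ LinearMap.ker (B f), f' ≠ 0 :=
    (Submodule.ne_bot_iff _).1 fun h => by
      have h1 := finrank_inf_ker (LinearMap.ker (B x) ⊓ LinearMap.ker (B y)) (B f)
      have h2 := finrank_inf_ker (LinearMap.ker (B x)) (B y)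
      have h3 := finrank_ker_le (B x)
      rw [h, finrank_bot] at h1
      omega
  have f'x : B x f' = 0 := hf'.1.1
  have f'y : B y f' = 0 := hf'.1.2
  have ff' : B f f' = 0 := hf'.2
  set a := B x x with ha
  set b := B y y with hb
  set c := B f f with hc
  set d := B f' f' with hd'
  have hd : d ≠ 0 := fun h => hf'0 (hE f' f'x f'y h)
  obtain ⟨s, t, hst⟩ := exists_value hB hff hd ff' (-a)
  set e := s • f + t • f' with he
  set e' := (-(t * d)) • f + (s * c) • f' with he'
  have hst' : s * s * c + t * t * d = -a := by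
    rw [← hst, he]
    simp only [map_add, map_smul, LinearMap.add_apply, LinearMap.smul_apply, smul_eq_mul, ff', hB.symm f' f, ← hc, ← hd']
    ring
  have hns2 : ¬ IsSquare (-(c * d)) := by
    rintro ⟨r, hr⟩
    have h0 := hE (r • f + c • f') (by simp [fx, f'x]) (by simp [fy, f'y]) (by
      simp only [map_add, map_smul, LinearMap.add_apply, LinearMap.smul_apply, smul_eq_mul, ff', hB.symm f' f,
        ← hc, ← hd']
      linear_combination (-c) * hr)
    have h1 := congrArg (B f') h0
    simp [hB.symm f' f, ff', hff, ← hc, ← hd', hd] at h1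
  obtain ⟨r, hr⟩ : IsSquare (a * b * (c * d)) := by
    have hne : a * b ≠ 0 := mul_ne_zero hx hy
    have hcd : c * d ≠ 0 := mul_ne_zero hff hd
    have h1 := quadraticChar_neg_one_iff_not_isSquare.2 hns
    have h2 := quadraticChar_neg_one_iff_not_isSquare.2 hns2
    have h3 : quadraticChar F (-(a * b) * -(c * d)) = 1 := by rw [map_mul, h1, h2]; rfl
    rw [quadraticChar_one_iff_isSquare (by simp [hne, hcd]), neg_mul_neg] at h3
    exact h3
  set k := r / (a * c * d) with hk
  set p := x + e with hp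
  set q := y + k • e' with hq
  have hk2 : b + k * k * (-(a * c * d)) = 0 := by
    rw [hk]
    field_simp
    linear_combination (hr)
  have hpp : B p p = 0 := by
    simp only [hp, he, map_add, map_smul, LinearMap.add_apply, LinearMap.smul_apply, smul_eq_mul, ff',
      hB.symm f' f, fx, f'x, hB.symm f x, hB.symm f' x, ← ha, ← hc, ← hd']
    linear_combination hst'
  have hqq : B q q = 0 := by
    simp only [hq, he', map_add, map_smul, map_neg, LinearMap.add_apply, LinearMap.smul_apply, LinearMap.neg_apply,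
      smul_eq_mul, ff', hB.symm f' f, fy, f'y, hB.symm f y, hB.symm f' y, ← hb, ← hc, ← hd']
    linear_combination hk2 + k * k * c * d * hst'
  have hpq : B p q = 0 := by
    simp only [hp, he, hq, he', map_add, map_smul, map_neg, LinearMap.add_apply, LinearMap.smul_apply,
      LinearMap.neg_apply, smul_eq_mul, ff', hB.symm f' f, fx, f'x, fy, f'y, hxy, hB.symm f x, hB.symm f' x,
      hB.symm f y, hB.symm f' y, ← hc, ← hd']
    ring
  have hW := hts (Submodule.span F {p, q}) fun w hw => by
    obtain ⟨u, v, rfl⟩ := Submodule.mem_span_pair.1 hw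
    simp [hpp, hqq, hpq, hB.symm q p]
  have hli : LinearIndependent F ![p, q] := LinearIndependent.pair_iff.2 fun u v h => by
    have h1 := congrArg (B x) h
    have h2 := congrArg (B y) h
    simp [hp, he, hq, he', fx, f'x, hxy, ← ha, hx] at h1
    simp [hp, he, hq, he', fy, f'y, hB.symm y x, hxy, ← hb, hy] at h2
    exact ⟨h1, h2⟩
  have h2 := finrank_span_eq_card hli
  have e2 : Set.range ![p, q] = {p, q} := by
    ext z
    simp [Fin.exists_fin_two, eq_comm]
    tauto
  rw [e2, Fintype.card_fin] at h2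
  omega

end Cfsg.Agent.TensorSO97
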