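import Cfsg.Agent.Lib.TensorSOProduct97

/-!
`V = X ⊗ F⁴`, `X` orthogonal of dimension three, `F⁴` symplectic: the forms, the roots `1 ⊗ transvection`, and the
transvections of a group containing all product isometries.
-/

set_option autoImplicit false
set_option linter.unusedSectionVars false

namespace Cfsg.Agent.TensorSOFour97

open Module
open Cfsg.Agent.TensorSO97 (SymN)

variable {F X : Type*} [Field F] [Fintype F] [AddCommGroup X] [Module F X] [FiniteDimensional F X]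

/-- The symplectic form on `F⁴` with pairs `(0, 2)` and `(1, 3)`. -/
def w4 (a b : Fin 4 → F) : F := a 0 * b 2 - a 2 * b 0 + a 1 * b 3 - a 3 * b 1

/-- A pure tensor. -/
def tp (v : X) (b : Fin 4 → F) : Fin 4 → X := fun i => b i • v

/-- The contraction with `b`. -/
def Pc (b : Fin 4 → F) : (Fin 4 → X) →ₗ[F] X :=
  b 2 • LinearMap.proj 0 - b 0 • LinearMap.proj 2 + b 3 • LinearMap.proj 1 - b 1 • LinearMap.proj 3

/-- The form on `X ⊗ F⁴`. -/
def om4 (B : X →ₗ[F] X →ₗ[F] F) (u w : Fin 4 → X) : F :=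
  B (u 0) (w 2) - B (u 2) (w 0) + B (u 1) (w 3) - B (u 3) (w 1)

/-- The product maps. -/
def Prod4 (g : (Fin 4 → X) ≃ₗ[F] (Fin 4 → X)) : Prop :=
  ∃ (T : X →ₗ[F] X) (β : (Fin 4 → F) →ₗ[F] (Fin 4 → F)), ∀ v b, g (tp v b) = tp (T v) (β b)

/-- The standard vectors. -/
def bs (i : Fin 4) : Fin 4 → F := Pi.single i 1

/-- The hypotheses. -/
structure Hyp4 (B : X →ₗ[F] X →ₗ[F] F) (M : Subgroup ((Fin 4 → X) ≃ₗ[F] (Fin 4 → X))) : Prop where
  sym : SymN B
  dim : finrank F X = 3
  card : 5 ≤ Fintype.card F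
  prod : ∀ (T : X →ₗ[F] X) (β : (Fin 4 → F) →ₗ[F] (Fin 4 → F)),
    (∀ v w a b, B (T v) (T w) * w4 (β a) (β b) = B v w * w4 a b) →
    ∃ g ∈ M, ∀ v b, g (tp v b) = tp (T v) (β b)
  pres : ∀ g ∈ M, ∀ x y, om4 B (g x) (g y) = om4 B x y

/-- All transvections with centre `u` lie in `M`. -/
def InT4 (M : Subgroup ((Fin 4 → X) ≃ₗ[F] (Fin 4 → X))) (B : X →ₗ[F] X →ₗ[F] F) (u : Fin 4 → X) : Prop :=
  ∀ c : F, ∃ t ∈ M, ∀ x, t x = x + (c * om4 B x u) • u

variable {B : X →ₗ[F] X →ₗ[F] F} {M : Subgroup ((Fin 4 → X) ≃ₗ[F] (Fin 4 → X))}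

theorem mul_app (g h : (Fin 4 → X) ≃ₗ[F] (Fin 4 → X)) (x : Fin 4 → X) : (g * h) x = g (h x) := rfl

theorem app_inv (g : (Fin 4 → X) ≃ₗ[F] (Fin 4 → X)) (x : Fin 4 → X) : g (g⁻¹ x) = x := g.apply_symm_apply x

theorem inv_app (g : (Fin 4 → X) ≃ₗ[F] (Fin 4 → X)) (x : Fin 4 → X) : g⁻¹ (g x) = x := g.symm_apply_apply x

theorem Pc_apply (b : Fin 4 → F) (u : Fin 4 → X) :
    Pc b u = b 2 • u 0 - b 0 • u 2 + b 3 • u 1 - b 1 • u 3 := by
  simp [Pc]

theorem Pc_tp (a b : Fin 4 → F) (v : X) : Pc b (tp v a) = w4 a b • v := by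
  rw [Pc_apply]
  simp only [tp, w4, smul_smul]
  module

theorem w4_self (a : Fin 4 → F) : w4 a a = 0 := by simp [w4]; ring

theorem w4_skew (a b : Fin 4 → F) : w4 b a = - w4 a b := by simp [w4]; ring

theorem w4_add_left (a a' b : Fin 4 → F) : w4 (a + a') b = w4 a b + w4 a' b := by simp [w4]; ring

theorem w4_smul_left (s : F) (a b : Fin 4 → F) : w4 (s • a) b = s * w4 a b := by simp [w4]; ring

theorem w4_add_right (a a' b : Fin 4 → F) : w4 b (a + a') = w4 b a + w4 b a' := by simp [w4]; ring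

theorem w4_smul_right (s : F) (a b : Fin 4 → F) : w4 b (s • a) = s * w4 b a := by simp [w4]; ring

theorem w4_nd {a : Fin 4 → F} (ha : a ≠ 0) : ∃ b, w4 a b ≠ 0 := by
  by_contra! h
  apply ha
  funext i
  have h0 := h (bs 0)
  have h1 := h (bs 1)
  have h2 := h (bs 2)
  have h3 := h (bs 3)
  simp [w4, bs] at h0 h1 h2 h3
  fin_cases i <;> simp [*]

theorem tp_add_left (v v' : X) (b : Fin 4 → F) : tp (v + v') b = tp v b + tp v' b :=
  funext fun i => smul_add _ _ _

theorem tp_add_right (v : X) (a b : Fin 4 → F) : tp v (a + b) = tp v a + tp v b :=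
  funext fun i => add_smul _ _ _

theorem tp_smul_left (s : F) (v : X) (b : Fin 4 → F) : tp (s • v) b = s • tp v b :=
  funext fun i => by simp [tp, smul_smul, mul_comm]

theorem tp_smul_right (s : F) (v : X) (b : Fin 4 → F) : tp v (s • b) = s • tp v b :=
  funext fun i => by simp [tp, smul_smul]

theorem tp_zero_left (b : Fin 4 → F) : tp (0 : X) b = 0 := funext fun i => smul_zero _

theorem decomp (u : Fin 4 → X) : u = ∑ i, tp (u i) (bs i : Fin 4 → F) := by
  funext j
  simp [tp, bs, Finset.sum_apply, Pi.single_apply]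

theorem tp_eq_zero {v : X} {b : Fin 4 → F} (h : tp v b = 0) : v = 0 ∨ b = 0 := by
  by_cases hb : b = 0
  · exact Or.inr hb
  · obtain ⟨i, hi⟩ := Function.ne_iff.1 hb
    exact Or.inl ((smul_eq_zero.1 (congrFun h i)).resolve_left hi)

theorem om_tp_right (u : Fin 4 → X) (v : X) (b : Fin 4 → F) : om4 B u (tp v b) = B (Pc b u) v := by
  rw [Pc_apply]
  simp [om4, tp]

theorem om_add_left (x y u : Fin 4 → X) : om4 B (x + y) u = om4 B x u + om4 B y u := by
  simp [om4]; ring

theorem om_add_right (x y u : Fin 4 → X) : om4 B u (x + y) = om4 B u x + om4 B u y := by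
  simp [om4]; ring

theorem om_smul_left (s : F) (x u : Fin 4 → X) : om4 B (s • x) u = s * om4 B x u := by
  simp [om4]; ring

theorem om_smul_right (s : F) (x u : Fin 4 → X) : om4 B u (s • x) = s * om4 B u x := by
  simp [om4]; ring

theorem om_sub_left (x y u : Fin 4 → X) : om4 B (x - y) u = om4 B x u - om4 B y u := by
  simp [om4]; ring

theorem om_zero_left (u : Fin 4 → X) : om4 B 0 u = 0 := by simp [om4]

section
variable (hB : SymN B)
include hB

theorem om_tp_tp (v w : X) (a b : Fin 4 → F) : om4 B (tp v a) (tp w b) = w4 a b * B v w := by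
  rw [om_tp_right, Pc_tp, map_smul, LinearMap.smul_apply, smul_eq_mul]

theorem om_skew (x y : Fin 4 → X) : om4 B y x = - om4 B x y := by
  simp only [om4, hB.symm (y 0) (x 2), hB.symm (y 2) (x 0), hB.symm (y 1) (x 3), hB.symm (y 3) (x 1)]
  ring

theorem om_self (x : Fin 4 → X) : om4 B x x = 0 := by
  simp only [om4, hB.symm (x 0) (x 2), hB.symm (x 1) (x 3)]
  ring

theorem eq_of_B {a b : X} (h : ∀ v, B a v = B b v) : a = b := by
  rw [← sub_eq_zero]
  exact hB.nd _ fun v => by rw [map_sub, LinearMap.sub_apply, h, sub_self]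

end

theorem Prod4.mul {g h : (Fin 4 → X) ≃ₗ[F] (Fin 4 → X)} (hg : Prod4 g) (hh : Prod4 h) : Prod4 (g * h) := by
  obtain ⟨T, β, hT⟩ := hg
  obtain ⟨T', β', hT'⟩ := hh
  exact ⟨T ∘ₗ T', β ∘ₗ β', fun v b => by rw [mul_app, hT', hT]; rfl⟩

variable (H : Hyp4 B M)
include H

/-- The product map with `β` and `T = 1`. -/
theorem exists_beta (β : (Fin 4 → F) →ₗ[F] (Fin 4 → F)) (h : ∀ a b, w4 (β a) (β b) = w4 a b) :
    ∃ g ∈ M, ∀ v b, g (tp v b) = tp v (β b) :=
  H.prod LinearMap.id β fun v w a b => by rw [h]; rfl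

/-- The root at `b`. -/
theorem exists_root (b : Fin 4 → F) (s : F) : ∃ g ∈ M, ∀ x, g x = x + s • tp (Pc b x) b := by
  let φ : (Fin 4 → F) →ₗ[F] F :=
    { toFun := fun a => w4 a b
      map_add' := fun a a' => w4_add_left a a' b
      map_smul' := fun t a => w4_smul_left t a b }
  obtain ⟨g, hg, hgx⟩ := exists_beta H (LinearMap.id + s • φ.smulRight b) fun a a' => by
    simp only [LinearMap.add_apply, LinearMap.id_apply, LinearMap.smul_apply, LinearMap.smulRight_apply, φ,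
      LinearMap.coe_mk, AddHom.coe_mk, w4_add_left, w4_add_right, w4_smul_left, w4_smul_right, w4_self,
      w4_skew a' b]
    ring
  refine ⟨g, hg, fun x => ?_⟩
  conv_lhs => rw [decomp (F := F) x]
  conv_rhs => rw [decomp (F := F) x]
  simp only [map_sum]
  rw [show (tp (∑ i, Pc b (tp (x i) (bs i : Fin 4 → F))) b) =
    ∑ i, tp (Pc b (tp (x i) (bs i : Fin 4 → F))) b from funext fun j => by simp [tp, Finset.smul_sum],
    Finset.smul_sum, ← Finset.sum_add_distrib]
  refine Finset.sum_congr rfl fun i _ => ?_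
  rw [hgx, Pc_tp]
  simp only [LinearMap.add_apply, LinearMap.id_apply, LinearMap.smul_apply, LinearMap.smulRight_apply, φ,
    LinearMap.coe_mk, AddHom.coe_mk, tp_add_right, tp_smul_right, tp_smul_left, smul_smul]

theorem prod_root {b : Fin 4 → F} {s : F} {g : (Fin 4 → X) ≃ₗ[F] (Fin 4 → X)}
    (hgx : ∀ x, g x = x + s • tp (Pc b x) b) : Prod4 g :=
  ⟨LinearMap.id,
    { toFun := fun a => a + (s * w4 a b) • b
      map_add' := fun a a' => by rw [w4_add_left]; module
      map_smul' := fun t a => by rw [w4_smul_left, RingHom.id_apply]; module },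
    fun v a => by
      rw [hgx, Pc_tp, tp_smul_left, smul_smul, ← tp_smul_right]
      exact (tp_add_right v a _).symm⟩

theorem InT4.conj {u : Fin 4 → X} (h : InT4 M B u) {g : (Fin 4 → X) ≃ₗ[F] (Fin 4 → X)} (hg : g ∈ M) :
    InT4 M B (g u) := by
  intro c
  obtain ⟨t, ht, htx⟩ := h c
  refine ⟨g * t * g⁻¹, mul_mem (mul_mem hg ht) (inv_mem hg), fun x => ?_⟩
  rw [mul_app, mul_app, htx, map_add, map_smul, app_inv]
  congr 2
  rw [show om4 B x (g u) = om4 B (g (g⁻¹ x)) (g u) by rw [app_inv], H.pres g hg]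

theorem InT4.scale {u : Fin 4 → X} (h : InT4 M B u) (a : F) : InT4 M B (a • u) := fun c => by
  obtain ⟨t, ht, htx⟩ := h (c * a * a)
  refine ⟨t, ht, fun x => ?_⟩
  rw [htx, om_smul_right, smul_smul]
  congr 2
  ring

theorem InT4.line {x y : Fin 4 → X} (hx : InT4 M B x) (hy : InT4 M B y) (hxy : om4 B x y ≠ 0) (t : F) :
    InT4 M B (x + t • y) := by
  obtain ⟨τ, hτ, hτx⟩ := hy (t / om4 B x y)
  have : τ x = x + t • y := by rw [hτx, div_mul_cancel₀ _ hxy]
  exact this ▸ InT4.conj H hx hτ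

theorem InT4.zero : InT4 M B (0 : Fin 4 → X) := fun _ => ⟨1, one_mem M, fun x => by simp⟩

/-- `Sp₄` is transitive. -/
theorem exists_move {b c : Fin 4 → F} (hb : b ≠ 0) (hc : c ≠ 0) :
    ∃ g ∈ M, Prod4 g ∧ ∀ v, g (tp v b) = tp v c := by
  have key : ∀ {b c : Fin 4 → F}, w4 b c ≠ 0 → ∃ g ∈ M, Prod4 g ∧ ∀ v : X, g (tp v b) = tp v c := by
    intro b c h
    obtain ⟨g, hg, hgx⟩ := exists_root H (c - b) (1 / w4 b c)
    refine ⟨g, hg, prod_root H hgx, fun v => ?_⟩
    have : w4 b (c - b) = w4 b c := by simp [w4]; ring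
    rw [hgx, Pc_tp, this, tp_smul_left, smul_smul, div_mul_cancel₀ _ h, one_smul, ← tp_add_right, add_sub_cancel]
  by_cases h : w4 b c = 0
  · obtain ⟨z, hz1, hz2⟩ : ∃ z, w4 b z ≠ 0 ∧ w4 z c ≠ 0 := by
      obtain ⟨z, hz⟩ := w4_nd hb
      obtain ⟨z', hz'⟩ := w4_nd hc
      by_cases h1 : w4 z c = 0
      · by_cases h2 : w4 b z' = 0
        · refine ⟨z + z', by rwa [w4_add_right, h2, add_zero], ?_⟩
          rw [w4_add_left, h1, zero_add, w4_skew c z']
          exact neg_ne_zero.2 hz'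
        · exact ⟨z', h2, by rw [w4_skew c z']; exact neg_ne_zero.2 hz'⟩
      · exact ⟨z, hz, h1⟩
    obtain ⟨g1, hg1, p1, e1⟩ := key hz1
    obtain ⟨g2, hg2, p2, e2⟩ := key hz2
    exact ⟨g2 * g1, mul_mem hg2 hg1, p2.mul p1, fun v => by rw [mul_app, e1, e2]⟩
  · exact key h

theorem exists_pure {y : X} {b : Fin 4 → F} (hb : b ≠ 0) (h : InT4 M B (tp y b)) (c : Fin 4 → F) :
    InT4 M B (tp y c) := by
  by_cases hc : c = 0
  · have : tp y c = 0 := by rw [hc]; funext i; simp [tp]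
    rw [this]; exact InT4.zero H
  · obtain ⟨g, hg, -, e⟩ := exists_move H hb hc
    exact e y ▸ InT4.conj H h hg

omit H in
theorem bs_ne (i : Fin 4) : (bs i : Fin 4 → F) ≠ 0 := by simp [bs]

theorem pure_same {x y : X} (hx : InT4 M B (tp x (bs 0 : Fin 4 → F))) (hxx : B x x ≠ 0) (h : B x x = B y y) :
    InT4 M B (tp y (bs 0 : Fin 4 → F)) := by
  obtain ⟨k, hk, hky, -⟩ := TensorSO97.witt H.sym hxx h
  obtain ⟨g, hg, hgx⟩ := H.prod k LinearMap.id fun v w a b => by rw [hk]; rfl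
  have h' := InT4.conj H hx hg
  rw [hgx] at h'
  rcases hky with e | e
  · rwa [e] at h'
  · have := InT4.scale H h' (-1)
    rw [e] at this
    simpa [tp_smul_left, ← tp_smul_left (-1 : F)] using this

theorem pure_sing {y s : X} (hy : InT4 M B (tp y (bs 0 : Fin 4 → F))) (hyy : B y y ≠ 0) (hs : B s s = 0) (hys : B y s = 0) :
    InT4 M B (tp s (bs 0 : Fin 4 → F)) := by
  have hp : InT4 M B (tp (y + s) (bs 0 : Fin 4 → F)) := pure_same H hy hyy (by simp [hs, hys, H.sym.symm s y])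
  have hm : InT4 M B (tp (y - s) (bs 0 : Fin 4 → F)) := pure_same H hy hyy (by simp [hs, hys, H.sym.symm s y])
  intro c
  obtain ⟨t1, h1, e1⟩ := hp (c / 2)
  obtain ⟨t2, h2, e2⟩ := hm (c / 2)
  obtain ⟨t3, h3, e3⟩ := hy (-c)
  refine ⟨t1 * t2 * t3, mul_mem (mul_mem h1 h2) h3, fun x => ?_⟩
  rw [mul_app, mul_app, e3, e2, e1]
  have h2 := H.sym.odd
  simp only [om_add_left, om_smul_left, om_add_right, om_smul_right, om_tp_tp H.sym, w4_self, zero_mul, mul_zero,
    add_zero, map_add, map_sub, sub_eq_add_neg, tp_add_left, ← neg_one_smul F s, tp_smul_left, map_smul, smul_eq_mul]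
  match_scalars <;> field_simp <;> ring

/-- Joining two pure centres. -/
theorem hsum {x x' : X} (r : F) (hx : InT4 M B (tp x (bs 0 : Fin 4 → F))) (hx' : InT4 M B (tp x' (bs 0 : Fin 4 → F)))
    (h1 : B x x' ≠ 0) (h2 : B (x + r • x') x' ≠ 0) : InT4 M B (tp (x + r • x') (bs 0 : Fin 4 → F)) := by
  have hx2 := exists_pure H (bs_ne 0) hx' (bs 2)
  have w02 : w4 (bs 0 : Fin 4 → F) (bs 2) = 1 := by simp [w4, bs]
  have e1 : InT4 M B (tp x (bs 0 : Fin 4 → F) + r • tp x' (bs 2 : Fin 4 → F)) :=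
    InT4.line H hx hx2 (by rwa [om_tp_tp H.sym, w02, one_mul]) r
  obtain ⟨g, hg, hgx⟩ := exists_root H (bs 0) (-1)
  have e2 : InT4 M B (tp (x + r • x') (bs 0 : Fin 4 → F) + r • tp x' (bs 2 : Fin 4 → F)) := by
    have h := InT4.conj H e1 hg
    rw [map_add, map_smul, hgx, hgx, Pc_tp, Pc_tp, w4_self, zero_smul, tp_zero_left, smul_zero, add_zero,
      w4_skew (bs 0) (bs 2), w02] at h
    convert h using 1
    rw [tp_add_left, tp_smul_left, tp_smul_left]
    module
  have h := InT4.line H e2 hx2 (by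
    rwa [om_add_left, om_smul_left, om_tp_tp H.sym, om_tp_tp H.sym, w02, w4_self, zero_mul, mul_zero, add_zero,
      one_mul]) (-r)
  convert h using 1
  module

omit H in
theorem exists_three (h5 : 5 ≤ Fintype.card F) : ∃ β : F, β ≠ 0 ∧ β ≠ 1 ∧ β ≠ -1 := by
  classical
  by_contra! h
  have h1 : (Finset.univ : Finset F) ⊆ {0, 1, -1} := fun x _ => by
    simp only [Finset.mem_insert, Finset.mem_singleton]
    by_cases e0 : x = 0
    · exact Or.inl e0
    by_cases e1 : x = 1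
    · exact Or.inr (Or.inl e1)
    exact Or.inr (Or.inr (h x e0 e1))
  have h2 := Finset.card_le_card h1
  rw [Finset.card_univ] at h2
  have h3' : ({0, 1, -1} : Finset F).card ≤ 3 := Finset.card_le_three
  omega

theorem exists_singular : ∃ s : X, s ≠ 0 ∧ B s s = 0 := by
  obtain ⟨s, -, h1, h2⟩ := TensorSO97.exists_iso H.sym (⊤ : Submodule F X) (by rw [finrank_top, H.dim])
  exact ⟨s, h1, h2⟩

theorem sing_of_aniso {z : X} (hzz : B z z ≠ 0) (hz : InT4 M B (tp z (bs 0 : Fin 4 → F))) :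
    ∃ s : X, s ≠ 0 ∧ B s s = 0 ∧ InT4 M B (tp s (bs 0 : Fin 4 → F)) := by
  have hB := H.sym
  obtain ⟨s, hs0, hss⟩ := exists_singular H
  obtain ⟨y₀, hy₀, hy₀y⟩ := TensorSO97.perp_one hB (by rw [H.dim]) hs0
  set N := B y₀ y₀ with hN
  set a := B z z with ha
  obtain ⟨β, hβ0, hβ1, hβ2⟩ := exists_three H.card
  obtain ⟨w, hzw, hww⟩ := TensorSO97.value_perp hB (by rw [H.dim]) hzz (a * (1 - β * β))
  have hwz : B w z = 0 := by rw [hB.symm, hzw]
  have hw0 : B w w ≠ 0 := by
    rw [hww]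
    refine mul_ne_zero hzz fun e => ?_
    rcases mul_eq_zero.1 (show (1 - β) * (1 + β) = 0 by linear_combination e) with h | h
    · exact hβ1 (sub_eq_zero.1 h).symm
    · exact hβ2 (eq_neg_of_add_eq_zero_right h)
  set x₂ := β • z + w with hx₂
  have h22 : B x₂ x₂ = a := by
    simp only [hx₂, map_add, map_smul, LinearMap.add_apply, LinearMap.smul_apply, smul_eq_mul, hzw, hwz, ← ha, hww]
    ring
  have h12 : B z x₂ = β * a := by simp [hx₂, hzw, ← ha]
  have h21 : B x₂ z = β * a := by rw [hB.symm, h12]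
  have hz2 : InT4 M B (tp x₂ (bs 0 : Fin 4 → F)) := pure_same H hz hzz h22.symm
  obtain ⟨α, δ, hαδ⟩ := TensorSO97.exists_value hB hzz hw0 hzw N
  set y := α • z + δ • w with hy
  have hyy : B y y ≠ 0 := by rwa [hαδ]
  have hyD : InT4 M B (tp y (bs 0 : Fin 4 → F)) := by
    set γ := α - δ * β
    have hy' : y = γ • z + δ • x₂ := by rw [hy, hx₂]; module
    by_cases hδ : δ = 0
    · rw [hy, hδ, zero_smul, add_zero, tp_smul_left]
      exact InT4.scale H hz α
    by_cases hγ : γ = 0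
    · rw [hy', hγ, zero_smul, zero_add, tp_smul_left]
      exact InT4.scale H hz2 δ
    by_cases he : B (z + (δ / γ) • x₂) x₂ = 0
    · have he' : B (x₂ + (γ / δ) • z) z ≠ 0 := by
        intro e
        apply hyy
        rw [hy']
        simp only [map_add, map_smul, LinearMap.add_apply, LinearMap.smul_apply, smul_eq_mul, h12, h21, h22,
          ← ha] at he e ⊢
        field_simp at he e
        linear_combination γ * e + δ * he
      have h := InT4.scale H (hsum H _ hz2 hz (by rw [h21]; exact mul_ne_zero hβ0 hzz) he') δ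
      rw [hy', show γ • z + δ • x₂ = δ • (x₂ + (γ / δ) • z) by match_scalars <;> field_simp <;> ring, tp_smul_left]
      exact h
    · have h := InT4.scale H (hsum H _ hz hz2 (by rw [h12]; exact mul_ne_zero hβ0 hzz) he) γ
      rw [hy', show γ • z + δ • x₂ = γ • (z + (δ / γ) • x₂) by match_scalars <;> field_simp <;> ring, tp_smul_left]
      exact h
  exact ⟨s, hs0, hss, pure_sing H (pure_same H hyD hyy (by rw [hαδ])) hy₀y hss (by rw [hB.symm, hy₀])⟩

theorem pure_of_sing {s : X} (hs0 : s ≠ 0) (hss : B s s = 0) (hs : InT4 M B (tp s (bs 0 : Fin 4 → F))) (y : X) :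
    InT4 M B (tp y (bs 0 : Fin 4 → F)) := by
  have hB := H.sym
  obtain ⟨w₀, hw₀⟩ : ∃ w, B s w ≠ 0 := by
    by_contra! h
    exact hs0 (hB.nd s h)
  set w := (B s w₀)⁻¹ • w₀ with hw
  set f := w - (B w w / 2) • s with hf
  have hsw : B s w = 1 := by simp [hw, hw₀]
  have hsf : B s f = 1 := by simp [hf, hsw, hss]
  have hfs : B f s = 1 := by rw [hB.symm, hsf]
  have hff : B f f = 0 := by
    simp only [hf, map_sub, map_smul, LinearMap.sub_apply, LinearMap.smul_apply, smul_eq_mul, hss, hsw,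
      hB.symm w s]
    have := hB.odd
    field_simp
    ring
  have hd : B (s - f) (s - f) ≠ 0 := by
    simp only [map_sub, LinearMap.sub_apply, hss, hsf, hfs, hff]
    intro e
    exact hB.odd (by linear_combination -e)
  obtain ⟨k, hk, hkp⟩ := TensorSO97.exists_refl hB hd
  obtain ⟨g, hg, hgx⟩ := H.prod k LinearMap.id fun v w a b => by rw [hkp]; rfl
  have hkf : k s = f := by
    have : 2 * B s (s - f) / B (s - f) (s - f) = 1 := by
      rw [div_eq_one_iff_eq hd]
      simp only [map_sub, LinearMap.sub_apply, hss, hsf, hfs, hff]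
      ring
    rw [hk, this, one_smul]
    abel
  have hf0 : InT4 M B (tp f (bs 0 : Fin 4 → F)) := by
    have := InT4.conj H hs hg
    rwa [hgx, hkf] at this
  have haniso : ∀ y, B y y ≠ 0 → InT4 M B (tp y (bs 0 : Fin 4 → F)) := by
    intro y hy
    set t := B y y / 2 with htd
    have ht : t ≠ 0 := div_ne_zero hy hB.odd
    have h3 : InT4 M B (tp (s + t • f) (bs 0 : Fin 4 → F)) :=
      hsum H t hs hf0 (by rw [hsf]; exact one_ne_zero) (by simp [hsf, hff])
    refine pure_same H h3 ?_ ?_ <;>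
      simp only [map_add, map_smul, LinearMap.add_apply, LinearMap.smul_apply, smul_eq_mul, hss, hsf, hfs, hff]
    · intro e
      exact ht (mul_left_cancel₀ hB.odd (by linear_combination e))
    · rw [htd]
      have := hB.odd
      field_simp
      ring
  by_cases hy : B y y = 0
  · by_cases hy0 : y = 0
    · rw [hy0, tp_zero_left]
      exact InT4.zero H
    obtain ⟨z, hyz, hzz⟩ := TensorSO97.perp_one hB (by rw [H.dim]) hy0
    exact pure_sing H (haniso z hzz) hzz hy (by rw [hB.symm, hyz])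
  · exact haniso y hy

omit H in
/-- A vector off three kernels. -/
theorem avoid {W : Type*} [AddCommGroup W] [Module F W] (h5 : 5 ≤ Fintype.card F) {φ₁ φ₂ φ₃ : W →ₗ[F] F}
    (h₁ : φ₁ ≠ 0) (h₂ : φ₂ ≠ 0) (h₃ : φ₃ ≠ 0) : ∃ w, φ₁ w ≠ 0 ∧ φ₂ w ≠ 0 ∧ φ₃ w ≠ 0 := by
  classical
  obtain ⟨a, ha⟩ : ∃ a, φ₁ a ≠ 0 := by
    by_contra! h; exact h₁ (LinearMap.ext h)
  obtain ⟨b, hb⟩ : ∃ b, φ₂ b ≠ 0 := by
    by_contra! h; exact h₂ (LinearMap.ext h)
  obtain ⟨c, hc⟩ : ∃ c, φ₃ c ≠ 0 := by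
    by_contra! h; exact h₃ (LinearMap.ext h)
  have step : ∀ (ψ χ : W →ₗ[F] F) (p q : W), ψ p ≠ 0 → χ q ≠ 0 → ∀ e : W →ₗ[F] F, (e p ≠ 0 ∨ e q ≠ 0) →
      ∃ w, ψ w ≠ 0 ∧ χ w ≠ 0 ∧ e w ≠ 0 := by
    intro ψ χ p q hp hq e he
    have hex : ∃ t : F, ψ (p + t • q) ≠ 0 ∧ χ (p + t • q) ≠ 0 ∧ e (p + t • q) ≠ 0 := by
      by_contra! hcon
      have hsub : (Finset.univ : Finset F) ⊆ {-ψ p / ψ q, -χ p / χ q, -e p / e q} := fun t _ => by
        simp only [Finset.mem_insert, Finset.mem_singleton]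
        by_cases a1 : ψ (p + t • q) = 0
        · left
          simp only [map_add, map_smul, smul_eq_mul] at a1
          have : ψ q ≠ 0 := fun h => hp (by linear_combination a1 - t * h)
          field_simp
          linear_combination a1
        by_cases a2 : χ (p + t • q) = 0
        · right; left
          simp only [map_add, map_smul, smul_eq_mul] at a2
          field_simp
          linear_combination a2
        right; right
        have a3 := hcon t a1 a2
        simp only [map_add, map_smul, smul_eq_mul] at a3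
        have : e q ≠ 0 := fun h => by
          rcases he with h' | h'
          · exact h' (by linear_combination a3 - t * h)
          · exact h' h
        field_simp
        linear_combination a3
      have h2 := Finset.card_le_card hsub
      rw [Finset.card_univ] at h2
      have h3' : ({-ψ p / ψ q, -χ p / χ q, -e p / e q} : Finset F).card ≤ 3 := Finset.card_le_three
      omega
    obtain ⟨t, h⟩ := hex
    exact ⟨_, h⟩
  obtain ⟨w, w1, w2, -⟩ := step φ₁ φ₂ a b ha hb φ₁ (Or.inl ha)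
  obtain ⟨x, x1, x2, x3⟩ := step φ₁ φ₃ w c w1 hc φ₂ (Or.inl w2)
  exact ⟨x, x1, x3, x2⟩

/-- A pure centre gives all transvections. -/
theorem all_of_pure {y : X} {b : Fin 4 → F} (hy : y ≠ 0) (hb : b ≠ 0) (h : InT4 M B (tp y b)) (u : Fin 4 → X) :
    InT4 M B u := by
  have hB := H.sym
  have h0 := exists_pure H hb h (bs 0)
  obtain ⟨s, hs0, hss, hs⟩ : ∃ s : X, s ≠ 0 ∧ B s s = 0 ∧ InT4 M B (tp s (bs 0 : Fin 4 → F)) := by
    by_cases hyy : B y y = 0
    · exact ⟨y, hy, hyy, h0⟩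
    · exact sing_of_aniso H hyy h0
  have hpure : ∀ v c, InT4 M B (tp v c) := fun v c => exists_pure H (bs_ne 0) (pure_of_sing H hs0 hss hs v) c
  have hadd : ∀ (x : Fin 4 → X) (q : X) (c : Fin 4 → F), InT4 M B x → InT4 M B (x + tp q c) := by
    intro x q c hx
    by_cases hx0 : x = 0
    · rw [hx0, zero_add]; exact hpure q c
    by_cases hP : tp q c = 0
    · rwa [hP, add_zero]
    by_cases hxP : x + tp q c = 0
    · rw [hxP]; exact InT4.zero H
    obtain ⟨i, hi⟩ := Function.ne_iff.1 hx0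
    obtain ⟨k, hk⟩ := Function.ne_iff.1 hxP
    have hq : q ≠ 0 := fun e => hP (by rw [e, tp_zero_left])
    have hc : c ≠ 0 := fun e => hP (by rw [e]; funext i; simp [tp])
    have hnd : ∀ {a : X}, a ≠ 0 → B a ≠ 0 := fun {a} ha e => ha (hB.nd a fun v => by rw [e]; rfl)
    obtain ⟨v, v1, v2, v3⟩ := avoid H.card (hnd hi) (hnd hq) (hnd hk)
    set α : Fin 4 → F := fun j => B (x j) v with hα
    set γ : Fin 4 → F := B q v • c with hγ
    let W : (Fin 4 → F) → ((Fin 4 → F) →ₗ[F] F) := fun a =>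
      { toFun := w4 a
        map_add' := fun p r => w4_add_right p r a
        map_smul' := fun t p => w4_smul_right t p a }
    have hW : ∀ a, a ≠ 0 → W a ≠ 0 := fun a ha e => by
      obtain ⟨p, hp⟩ := w4_nd ha
      exact hp (LinearMap.congr_fun e p)
    have hαγ : α + γ ≠ 0 := fun e => v3 (by
      have := congrFun e k
      simpa [hα, hγ, tp, mul_comm] using this)
    obtain ⟨d, d1, d2, d3⟩ := avoid H.card (hW α (fun e => v1 (congrFun e i)))
      (hW γ (smul_ne_zero v2 hc)) (hW (α + γ) hαγ)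
    change w4 α d ≠ 0 at d1
    change w4 γ d ≠ 0 at d2
    change w4 (α + γ) d ≠ 0 at d3
    set R := tp v d with hR
    have o1 : om4 B x R = w4 α d := by
      rw [hR, om_tp_right, Pc_apply]
      simp [w4, hα]
      ring
    have o2 : om4 B (tp q c) R = w4 γ d := by
      rw [hR, om_tp_tp hB, hγ, w4_smul_left]
      ring
    have o4 : om4 B R (tp q c) = - w4 γ d := by rw [om_skew hB, o2]
    have o3 : om4 B R R = 0 := om_self hB _
    -- split according to the product
    by_cases hxp : om4 B x (tp q c) = 0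
    · have c1 : InT4 M B (x + R) := by
        simpa using InT4.line H hx (hpure v d) (by rwa [← hR, o1]) 1
      have c2 : InT4 M B (x + R + tp q c) := by
        simpa using InT4.line H c1 (hpure q c) (by rw [om_add_left, hxp, zero_add, o4]; exact neg_ne_zero.2 d2) 1
      have c3 := InT4.line H c2 (hpure v d) (by
        rw [← hR, om_add_left, om_add_left, o1, o2, o3, add_zero, ← w4_add_left]; exact d3) (-1)
      convert c3 using 1
      rw [hR]
      module
    · simpa using InT4.line H hx (hpure q c) hxp 1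
  rw [decomp (F := F) u, Fin.sum_univ_four]
  exact hadd _ _ _ (hadd _ _ _ (hadd _ _ _ (hpure _ _)))

/-- Two root groups sharing all but a transvection part. -/
theorem split_trick (A : (Fin 4 → X) → (Fin 4 → X)) {p q : Fin 4 → X} {e : F} (he : e ≠ 0)
    (hpq : om4 B p q = e) (hlin : ∀ (x y : Fin 4 → X) (s : F), A (x + s • y) = A x + s • A y)
    (hA : ∀ x, A (A x) = 0) (hAp : A p = 0) (hAq : A q = 0) (hAp' : ∀ x, om4 B (A x) p = 0)
    (hAq' : ∀ x, om4 B (A x) q = 0)
    (hR : ∀ s : F, ∃ g ∈ M, ∀ x, g x = x + s • A x + (s * om4 B x p) • p)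
    (hR' : ∀ s : F, ∃ g ∈ M, ∀ x, g x = x + s • A x + (s * om4 B x q) • q) : InT4 M B p := by
  have hB := H.sym
  obtain ⟨t, ht0, ht⟩ : ∃ t : F, t ≠ 0 ∧ 1 - 1 / ((t * e) * (t * e)) ≠ 0 := by
    obtain ⟨β, hβ0, hβ1, hβ2⟩ := exists_three H.card
    refine ⟨β / e, div_ne_zero hβ0 he, fun h => ?_⟩
    rw [div_mul_cancel₀ _ he, sub_eq_zero, eq_div_iff (mul_ne_zero hβ0 hβ0), one_mul] at h
    rcases mul_self_eq_one_iff.1 h with h' | h'
    · exact hβ1 h'
    · exact hβ2 h'
  intro c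
  obtain ⟨R, hRm, hRx⟩ := hR t
  obtain ⟨R', hR'm, hR'x⟩ := hR' (1 / (t * (e * e)))
  set w := R * R' * R with hw
  have hwm : w ∈ M := mul_mem (mul_mem hRm hR'm) hRm
  have hqp : om4 B q p = -e := by rw [om_skew hB, hpq]
  have hwp : w p = (1 / (t * e)) • q := by
    rw [hw, mul_app, mul_app, hRx p, hAp, om_self hB, smul_zero, mul_zero, zero_smul, add_zero, add_zero, hR'x p, hAp,
      hpq, smul_zero, add_zero, map_add, map_smul, hRx p, hRx q, hAp, hAq, om_self hB, hqp]
    match_scalars <;> field_simp <;> ring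
  have hwA : ∀ x, w (A x) = A x := fun x => by
    have e1 : ∀ y, A y = 0 → om4 B y p = 0 → R y = y := fun y h1 h2 => by simp [hRx, h1, h2]
    rw [hw, mul_app, mul_app, e1 _ (hA x) (hAp' x), hR'x, hA, hAq', smul_zero, mul_zero, zero_smul, add_zero,
      add_zero, e1 _ (hA x) (hAp' x)]
  have hA0 : A 0 = 0 := by
    have := hlin 0 0 1
    simpa using this
  have hAw : ∀ x, A (w x) = A x := fun x => by
    have e1 : ∀ (s : F) (y z : Fin 4 → X), A z = 0 → A (y + s • A y + (s * om4 B y z) • z) = A y :=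
      fun s y z hz => by rw [hlin, hlin, hA, hz, smul_zero, smul_zero, add_zero, add_zero]
    have f1 : ∀ y, A (R y) = A y := fun y => by rw [hRx, e1 _ _ _ hAp]
    have f2 : ∀ y, A (R' y) = A y := fun y => by rw [hR'x, e1 _ _ _ hAq]
    rw [hw, mul_app, mul_app, f1, f2, f1]
  set κ := 1 / (t * e) with hκ
  set s := c / (1 - κ * κ) with hs
  have hd : 1 - κ * κ ≠ 0 := by
    intro h
    apply ht
    rw [hκ] at h
    field_simp at h ⊢
    linear_combination h
  obtain ⟨S₁, hS₁, e1⟩ := hR s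
  obtain ⟨S₂, hS₂, e2⟩ := hR' (-(s * κ * κ))
  obtain ⟨S₃, hS₃, e3⟩ := hR (c - s)
  obtain ⟨S₄, hS₄, e4⟩ := hR (-c)
  -- `A (s (1 - κ²))`
  set Z := w * S₁ * w⁻¹ * S₂ with hZ
  have hZx : ∀ x, Z x = x + c • A x := fun x => by
    have hinv : A (w⁻¹ x) = A x := by rw [← hAw (w⁻¹ x), app_inv]
    have hom : ∀ y, om4 B (w⁻¹ y) p = κ * om4 B y q := fun y => by
      rw [← H.pres w hwm, app_inv, hwp, om_smul_right]
    have hconj : ∀ y, (w * S₁ * w⁻¹) y = y + s • A y + (s * κ * κ * om4 B y q) • q := fun y => by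
      rw [mul_app, mul_app, e1, map_add, map_add, map_smul, map_smul, app_inv, hwA, hwp, hom, smul_smul,
        show A (w⁻¹ y) = A y by rw [← hAw (w⁻¹ y), app_inv]]
      congr 2
      ring
    rw [hZ, mul_app, e2, hconj]
    rw [show x + -(s * κ * κ) • A x + (-(s * κ * κ) * om4 B x q) • q =
      (x + (-(s * κ * κ)) • A x) + (-(s * κ * κ) * om4 B x q) • q from rfl, hlin, hlin, hA, hAq, om_add_left,
      om_add_left, om_smul_left, om_smul_left, hAq', om_self hB]
    rw [hs]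
    match_scalars <;> field_simp [show 1 - κ ^ 2 ≠ 0 by rwa [sq]] <;> ring
  have hZm : Z ∈ M := mul_mem (mul_mem (mul_mem hwm hS₁) (inv_mem hwm)) hS₂
  obtain ⟨S₅, hS₅, e5⟩ := hR c
  refine ⟨S₅ * Z⁻¹, mul_mem hS₅ (inv_mem hZm), fun x => ?_⟩
  have hZi : Z⁻¹ x = x - c • A x := by
    apply Z.injective
    rw [app_inv, hZx, sub_eq_add_neg, ← neg_smul, hlin, hA, smul_zero, add_zero, neg_smul]
    abel
  rw [mul_app, hZi, e5, sub_eq_add_neg, ← neg_smul, hlin, hA, om_add_left, om_smul_left, hAp']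
  match_scalars <;> ring

end Cfsg.Agent.TensorSOFour97
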