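import Cfsg.Agent.Lib.TensorSOFourBase97

/-!
Maximality of `O(X) ⊗ Sp₄`, `dim X = 3`, in coordinates.  An element that is no product map leads, through
commutators with roots, to one that maps some `X ⊗ c` onto some `X ⊗ c'` or fixes a hyperplane of one pointwise.
The second kind gives a transvection with pure centre or one of the first kind.  After correcting by a product the
first kind fixes `X ⊗ e₀` pointwise, and the elements `x ↦ x + T(x₂) ⊗ e₀` obtained from it by commutators have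
scalar `T` unless all transvections are there; this forces a product map.
-/

set_option autoImplicit false
set_option linter.unusedSectionVars false

namespace Cfsg.Agent.TensorSOFour97

open Module
open Cfsg.Agent.TensorSO97 (SymN)

variable {F X : Type*} [Field F] [Fintype F] [AddCommGroup X] [Module F X] [FiniteDimensional F X]

/-- The embedding `v ↦ v ⊗ b`. -/
def J (b : Fin 4 → F) : X →ₗ[F] (Fin 4 → X) where
  toFun v := tp v b
  map_add' v w := tp_add_left v w b
  map_smul' s v := tp_smul_left s v b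

theorem J_apply (b : Fin 4 → F) (v : X) : J b v = tp v b := rfl

/-- `g` maps some `X ⊗ b` into some `X ⊗ c`. -/
def Ruled (g : (Fin 4 → X) ≃ₗ[F] (Fin 4 → X)) : Prop :=
  ∃ (b c : Fin 4 → F) (α : X →ₗ[F] X), b ≠ 0 ∧ c ≠ 0 ∧ ∀ v, g (tp v b) = tp (α v) c

variable {B : X →ₗ[F] X →ₗ[F] F} {M : Subgroup ((Fin 4 → X) ≃ₗ[F] (Fin 4 → X))}

theorem Pc_add (a b : Fin 4 → F) (u : Fin 4 → X) : Pc (a + b) u = Pc a u + Pc b u := by
  simp only [Pc_apply, Pi.add_apply]
  module

theorem Pc_smul (s : F) (b : Fin 4 → F) (u : Fin 4 → X) : Pc (s • b) u = s • Pc b u := by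
  simp only [Pc_apply, Pi.smul_apply, smul_eq_mul]
  module

theorem eq_zero_of_Pc {u : Fin 4 → X} (h : ∀ b : Fin 4 → F, Pc b u = 0) : u = 0 := by
  have h0 := h (bs 0)
  have h1 := h (bs 1)
  have h2 := h (bs 2)
  have h3 := h (bs 3)
  simp [Pc_apply, bs] at h0 h1 h2 h3
  funext i
  fin_cases i <;> simp [*]

theorem om_app_inv (H : Hyp4 B M) {g : (Fin 4 → X) ≃ₗ[F] (Fin 4 → X)} (hg : g ∈ M) (x y : Fin 4 → X) :
    om4 B (g⁻¹ x) y = om4 B x (g y) := by
  rw [← H.pres g hg (g⁻¹ x) y, app_inv]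

theorem ruled_of_mem {g : (Fin 4 → X) ≃ₗ[F] (Fin 4 → X)} {b c : Fin 4 → F} (hb : b ≠ 0) (hc : c ≠ 0)
    (h : ∀ v, ∃ w, g (tp v b) = tp w c) : Ruled g := by
  obtain ⟨i, hi⟩ := Function.ne_iff.1 hc
  refine ⟨b, c, (c i)⁻¹ • (LinearMap.proj i ∘ₗ g.toLinearMap ∘ₗ J b), hb, hc, fun v => ?_⟩
  obtain ⟨w, hw⟩ := h v
  have : ((c i)⁻¹ • (LinearMap.proj i ∘ₗ g.toLinearMap ∘ₗ J b)) v = w := by
    simp [J_apply, hw, tp, smul_smul, inv_mul_cancel₀ (show c i ≠ 0 from hi)]
  rw [this, hw]

variable (H : Hyp4 B M)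
include H

theorem exists_ne : ∃ x : X, x ≠ 0 :=
  ⟨_, (exists_singular H).choose_spec.1⟩

theorem Prod4.inv {g : (Fin 4 → X) ≃ₗ[F] (Fin 4 → X)} (h : Prod4 g) : Prod4 g⁻¹ := by
  obtain ⟨T, β, hT⟩ := h
  obtain ⟨x, hx⟩ := exists_ne H
  have hTi : Function.Injective T := by
    rw [injective_iff_map_eq_zero]
    intro v hv
    have : tp v (bs 0 : Fin 4 → F) = 0 := g.injective (by rw [hT, hv, tp_zero_left, map_zero])
    exact (tp_eq_zero this).resolve_right (bs_ne 0)
  have hβi : Function.Injective β := by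
    rw [injective_iff_map_eq_zero]
    intro a ha
    have : tp x a = 0 := g.injective (by rw [hT, ha, map_zero]; funext i; simp [tp])
    exact (tp_eq_zero this).resolve_left hx
  set Te := LinearEquiv.ofInjectiveEndo T hTi
  set βe := LinearEquiv.ofInjectiveEndo β hβi
  refine ⟨Te.symm.toLinearMap, βe.symm.toLinearMap, fun v a => g.injective ?_⟩
  rw [app_inv, hT]
  show tp v a = tp (Te (Te.symm v)) (βe (βe.symm a))
  rw [Te.apply_symm_apply, βe.apply_symm_apply]

/-- If the conjugate of a root is a product map then a ruler goes into a ruler. -/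
theorem back {g R : (Fin 4 → X) ≃ₗ[F] (Fin 4 → X)} {b : Fin 4 → F} (hb : b ≠ 0)
    (hR : ∀ x, R x = x + tp (Pc b x) b) (hy : Prod4 (g * R * g⁻¹)) : Ruled g := by
  classical
  obtain ⟨T, β, hT⟩ := hy
  set y := g * R * g⁻¹ with hyd
  have hyx : ∀ x, y x - x = g (tp (Pc b (g⁻¹ x)) b) := fun x => by
    rw [hyd, mul_app, mul_app, hR, map_add, app_inv, add_sub_cancel_left]
  set φ : X →ₗ[F] (Fin 4 → X) := g.toLinearMap ∘ₗ J b with hφ
  have hrange : ∀ x, y x - x ∈ LinearMap.range φ := fun x => ⟨Pc b (g⁻¹ x), (hyx x).symm⟩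
  obtain ⟨lam, hlam⟩ : ∃ lam : F, ∀ v, T v = lam • v := by
    by_cases hev : ∀ v, ∃ t : F, T v = t • v
    · choose t ht using hev
      obtain ⟨x, hx⟩ := exists_ne H
      refine ⟨t x, fun v => ?_⟩
      by_cases hv : ∃ r : F, v = r • x
      · obtain ⟨r, rfl⟩ := hv
        rw [map_smul, ht x, smul_comm]
      · push Not at hv
        have hind : ∀ p q : F, p • x + q • v = 0 → p = 0 ∧ q = 0 := by
          intro p q hpq
          have hq : q = 0 := by
            by_contra hq
            apply hv (-(p / q))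
            have e := congrArg (q⁻¹ • ·) hpq
            simp only [smul_add, smul_smul, inv_mul_cancel₀ hq, one_smul, smul_zero] at e
            rw [neg_smul, eq_neg_iff_add_eq_zero, div_eq_inv_mul, add_comm]
            exact e
          rw [hq, zero_smul, add_zero] at hpq
          exact ⟨(smul_eq_zero.1 hpq).resolve_right hx, hq⟩
        have e : (t (x + v) - t x) • x + (t (x + v) - t v) • v = 0 := by
          have := ht (x + v)
          rw [map_add, ht x, ht v, ← sub_eq_zero] at this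
          rw [← neg_eq_zero, ← this]
          module
        obtain ⟨e1, e2⟩ := hind _ _ e
        rw [ht v, ← sub_eq_zero.1 e2, sub_eq_zero.1 e1]
    · exfalso
      push Not at hev
      obtain ⟨v, hv⟩ := hev
      have hnm : v ∉ Submodule.span F {T v} := fun hm => by
        obtain ⟨r, hr⟩ := Submodule.mem_span_singleton.1 hm
        by_cases hr0 : r = 0
        · rw [hr0, zero_smul] at hr
          exact hv 0 (by rw [← hr, map_zero, smul_zero])
        · exact hv r⁻¹ (by
            nth_rewrite 2 [← hr]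
            rw [smul_smul, inv_mul_cancel₀ hr0, one_smul])
      obtain ⟨θ, hθ, hθT⟩ := Submodule.exists_le_ker_of_notMem hnm
      have hθTv : θ (T v) = 0 := hθT (Submodule.mem_span_singleton_self _)
      let C : (Fin 4 → X) →ₗ[F] (Fin 4 → F) :=
        { toFun := fun u i => θ (u i)
          map_add' := fun u w => by funext i; simp
          map_smul' := fun s u => by funext i; simp }
      have hsurj : LinearMap.range (C ∘ₗ φ) = ⊤ := by
        rw [eq_top_iff]
        intro a _
        obtain ⟨z, hz⟩ := hrange (tp v ((-(θ v)⁻¹) • a))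
        refine ⟨z, ?_⟩
        rw [LinearMap.comp_apply, hz, hT]
        funext i
        show θ ((β ((-(θ v)⁻¹) • a)) i • T v - ((-(θ v)⁻¹) • a) i • v) = a i
        simp [hθTv]
        field_simp
      have h1 := LinearMap.finrank_range_le (C ∘ₗ φ)
      rw [hsurj, finrank_top, Module.finrank_fin_fun, H.dim] at h1
      omega
  set f : (Fin 4 → F) →ₗ[F] (Fin 4 → F) := lam • β - LinearMap.id with hf
  have hyf : ∀ v a, y (tp v a) - tp v a = tp v (f a) := fun v a => by
    rw [hT, hlam, hf]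
    funext i
    simp [tp]
    module
  obtain ⟨a₁, ha₁⟩ : ∃ a, f a ≠ 0 := by
    by_contra! hf0
    obtain ⟨x, hx⟩ := exists_ne H
    obtain ⟨d, hd⟩ := w4_nd hb
    have h1 : ∀ z, y z - z = 0 := fun z => by
      rw [decomp (F := F) z, map_sum, ← Finset.sum_sub_distrib]
      refine Finset.sum_eq_zero fun i _ => ?_
      rw [hyf, hf0]
      funext j
      simp [tp]
    have h2 := (hyx (g (tp x d))).symm.trans (h1 _)
    rw [inv_app, Pc_tp, tp_smul_left, map_smul, smul_eq_zero] at h2
    rcases h2 with h | h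
    · exact hd (by rw [w4_skew d b, h, neg_zero])
    · exact hx ((tp_eq_zero (g.map_eq_zero_iff.1 h)).resolve_right hb)
  set c := f a₁ with hc
  have hline : ∀ a, ∃ t : F, f a = t • c := by
    intro a
    by_contra! hne
    have hind : ∀ p q : F, p • c + q • f a = 0 → p = 0 ∧ q = 0 := by
      intro p q hpq
      have hq : q = 0 := by
        by_contra hq
        apply hne (-(p / q))
        have e := congrArg (q⁻¹ • ·) hpq
        simp only [smul_add, smul_smul, inv_mul_cancel₀ hq, one_smul, smul_zero] at e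
        rw [neg_smul, eq_neg_iff_add_eq_zero, div_eq_inv_mul, add_comm]
        exact e
      rw [hq, zero_smul, add_zero] at hpq
      exact ⟨(smul_eq_zero.1 hpq).resolve_right ha₁, hq⟩
    have hinj : Function.Injective ((J (X := X) c).coprod (J (f a))) := by
      rw [injective_iff_map_eq_zero]
      rintro ⟨p, q⟩ hpq
      simp only [LinearMap.coprod_apply, J_apply] at hpq
      have key : ∀ w, B p w = 0 ∧ B q w = 0 := fun w => hind _ _ (by
        funext i
        have e := congrArg (fun z : X => B z w) (congrFun hpq i)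
        simp only [Pi.add_apply, Pi.zero_apply, tp, map_add, map_smul, map_zero, LinearMap.add_apply,
          LinearMap.smul_apply, LinearMap.zero_apply, smul_eq_mul] at e
        simp only [Pi.add_apply, Pi.smul_apply, Pi.zero_apply, smul_eq_mul]
        linear_combination e)
      exact Prod.ext (H.sym.nd p fun w => (key w).1) (H.sym.nd q fun w => (key w).2)
    have hle : LinearMap.range ((J (X := X) c).coprod (J (f a))) ≤ LinearMap.range φ := by
      rintro _ ⟨⟨p, q⟩, rfl⟩
      rw [LinearMap.coprod_apply, J_apply, J_apply, hc, ← hyf, ← hyf]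
      exact add_mem (hrange _) (hrange _)
    have h1 := Submodule.finrank_mono hle
    rw [LinearMap.finrank_range_of_inj hinj, Module.finrank_prod] at h1
    have h2 := LinearMap.finrank_range_le φ
    rw [H.dim] at h1 h2
    omega
  choose t ht using hline
  obtain ⟨d, hd⟩ := w4_nd hb
  refine ruled_of_mem hb ha₁ fun v => ?_
  set x := g (tp ((w4 d b)⁻¹ • v) d) with hx
  refine ⟨∑ i, t (bs i) • x i, ?_⟩
  have hdb : w4 d b ≠ 0 := by rw [w4_skew b d]; exact neg_ne_zero.2 hd
  have e : g (tp v b) = y x - x := by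
    rw [hyx, hx, inv_app, Pc_tp, smul_smul, mul_inv_cancel₀ hdb, one_smul]
  rw [e, show y x - x = ∑ i, (y (tp (x i) (bs i : Fin 4 → F)) - tp (x i) (bs i : Fin 4 → F)) by
    rw [Finset.sum_sub_distrib, ← map_sum, ← decomp (F := F) x]]
  rw [show tp (∑ i, t (bs i) • x i) c = ∑ i, tp (t (bs i) • x i) c from funext fun j => by
    simp [tp, Finset.smul_sum]]
  refine Finset.sum_congr rfl fun i _ => ?_
  rw [hyf, ht, tp_smul_right, tp_smul_left]

/-- A commutator step: either something is ruled or a vector set becomes fixed. -/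
theorem ascend {g : (Fin 4 → X) ≃ₗ[F] (Fin 4 → X)} (hg : g ∈ M) (hgP : ¬ Prod4 g) {b b' : Fin 4 → F}
    (hb : b ≠ 0) (hb' : b' ≠ 0) :
    ∃ g' ∈ M, ¬ Prod4 g' ∧ (Ruled g' ∨
      ∀ v, Pc b' (g (tp (Pc b (g⁻¹ (tp v b'))) b)) = 0 → g' (tp v b') = tp v b') := by
  obtain ⟨R, hR, hRx⟩ := exists_root H b 1
  simp only [one_smul] at hRx
  by_cases hy : Prod4 (g * R * g⁻¹)
  · exact ⟨g, hg, hgP, Or.inl (back H hb hRx hy)⟩
  obtain ⟨R', hR', hRx'⟩ := exists_root H b' 1
  simp only [one_smul] at hRx'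
  set y := g * R * g⁻¹ with hyd
  have hym : y ∈ M := mul_mem (mul_mem hg hR) (inv_mem hg)
  by_cases hy₁ : Prod4 (y * R' * y⁻¹)
  · exact ⟨y, hym, hy, Or.inl (back H hb' hRx' hy₁)⟩
  refine ⟨y * R' * y⁻¹, mul_mem (mul_mem hym hR') (inv_mem hym), hy₁, Or.inr fun v hv => ?_⟩
  set z := tp v b' with hz
  set w := Pc b (g⁻¹ z) with hw
  have hyi : y⁻¹ z = z - g (tp w b) := by
    apply y.injective
    rw [app_inv, hyd, mul_app, mul_app, map_sub g⁻¹, inv_app, hRx, map_sub, Pc_tp, w4_self, zero_smul, sub_zero,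
      ← hw, map_add, map_sub, app_inv, sub_add_cancel]
  rw [mul_app, mul_app, hRx', map_add, app_inv, hyi, map_sub, hz, Pc_tp, w4_self, zero_smul, hv, sub_zero,
    tp_zero_left, map_zero, add_zero]

/-- The descent. -/
theorem descend {g : (Fin 4 → X) ≃ₗ[F] (Fin 4 → X)} (hg : g ∈ M) (hgP : ¬ Prod4 g) :
    ∃ g' ∈ M, ¬ Prod4 g' ∧ (Ruled g' ∨
      ∃ (c : Fin 4 → F) (d : X), c ≠ 0 ∧ d ≠ 0 ∧ ∀ v, B v d = 0 → g' (tp v c) = tp v c) := by
  have hB := H.sym
  obtain ⟨v₀, hv₀, hvv⟩ := exists_singular H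
  set b := (bs 0 : Fin 4 → F) with hb
  set u := g (tp v₀ b) with hu
  let L : (Fin 4 → F) →ₗ[F] X :=
    { toFun := fun a => Pc a u
      map_add' := fun a a' => Pc_add a a' u
      map_smul' := fun s a => Pc_smul s a u }
  obtain ⟨b', hb'L, hb'⟩ := (Submodule.ne_bot_iff (LinearMap.ker L)).1 (fun e => by
    have h1 := LinearMap.finrank_range_add_finrank_ker L
    have h2 := Submodule.finrank_le (LinearMap.range L)
    rw [e, finrank_bot, add_zero, Module.finrank_fin_fun] at h1
    rw [H.dim] at h2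
    omega)
  have hb'u : Pc b' (g (tp v₀ b)) = 0 := hb'L
  obtain ⟨g', hg', hgP', hr | hfix⟩ := ascend H hg hgP (bs_ne 0 : b ≠ 0) hb'
  · exact ⟨g', hg', hgP', Or.inl hr⟩
  refine ⟨g', hg', hgP', Or.inr ?_⟩
  obtain ⟨y₀, hy₀, hy₀y⟩ := TensorSO97.perp_one hB (by rw [H.dim]) hv₀
  set N := B y₀ y₀ with hN
  set Q : X →ₗ[F] X := Pc b' ∘ₗ g.toLinearMap ∘ₗ J b with hQ
  set Q' : X →ₗ[F] X := Pc b ∘ₗ (g⁻¹).toLinearMap ∘ₗ J b' with hQ'
  have hadj : ∀ v w, B (Q' v) w = - B (Q w) v := fun v w => by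
    show B (Pc b (g⁻¹ (tp v b'))) w = - B (Pc b' (g (tp w b))) v
    rw [← om_tp_right, ← om_tp_right, om_app_inv H hg, om_skew hB (tp v b'), neg_neg]
  have hQ0 : Q v₀ = 0 := hb'u
  have hperp : ∀ v, B (Q' v) v₀ = 0 := fun v => by rw [hadj, hQ0, map_zero, LinearMap.zero_apply, neg_zero]
  -- `v₀^⊥` is spanned by `v₀` and `y₀`
  have hspan : ∀ w, B w v₀ = 0 → Q w = (B w y₀ / N) • Q y₀ := by
    intro w hw
    set w' := w - (B w y₀ / N) • y₀ with hw'
    have h1 : B v₀ w' = 0 := by simp [hw', hy₀, hB.symm v₀ w, hw]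
    have h2 : B y₀ w' = 0 := by simp [hw', ← hN, div_mul_cancel₀ _ hy₀y, hB.symm y₀ w]
    set K := LinearMap.ker (B v₀) ⊓ LinearMap.ker (B y₀) with hK
    have hK1 : finrank F K ≤ 1 := by
      have hlt : K < LinearMap.ker (B v₀) :=
        lt_of_le_of_ne inf_le_left fun e => hy₀y (show y₀ ∈ K from e ▸ (hy₀ : y₀ ∈ LinearMap.ker (B v₀))).2
      have := Submodule.finrank_lt_finrank_of_lt hlt
      have := TensorSO97.finrank_ker_eq hB hv₀
      rw [H.dim] at this
      omega
    have hv₀K : v₀ ∈ K := ⟨hvv, by show B y₀ v₀ = 0; rw [hB.symm, hy₀]⟩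
    have hKeq : Submodule.span F {v₀} = K :=
      Submodule.eq_of_le_of_finrank_le (Submodule.span_le.2 (by simpa using hv₀K))
        (by rw [finrank_span_singleton hv₀]; exact hK1)
    have hwK : w' ∈ Submodule.span F {v₀} := by rw [hKeq]; exact ⟨h1, h2⟩
    obtain ⟨r, hr⟩ := Submodule.mem_span_singleton.1 hwK
    have : w = r • v₀ + (B w y₀ / N) • y₀ := by rw [hr, hw']; abel
    conv_lhs => rw [this]
    rw [map_add, map_smul, map_smul, hQ0, smul_zero, zero_add]
  let θ : X →ₗ[F] F := N⁻¹ • ((B.flip y₀) ∘ₗ Q')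
  obtain ⟨d, hd0, hd⟩ : ∃ d, d ≠ 0 ∧ ∀ v, B v d = 0 → θ v = 0 := by
    by_cases hθ : θ = 0
    · exact ⟨v₀, hv₀, fun v _ => by rw [hθ]; rfl⟩
    · have hinj : Function.Injective B := by
        rw [injective_iff_map_eq_zero]
        exact fun x hx => hB.nd x fun w => LinearMap.congr_fun hx w
      obtain ⟨d, hd⟩ := (LinearMap.injective_iff_surjective_of_finrank_eq_finrank
        (by rw [Module.finrank_linearMap, finrank_self, mul_one])).1 hinj θ
      exact ⟨d, fun e => hθ (by rw [← hd, e, map_zero]), fun v hv => by rw [← hd, hB.symm]; exact hv⟩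
  refine ⟨b', d, hb', hd0, fun v hv => hfix v ?_⟩
  show Q (Q' v) = 0
  rw [hspan _ (hperp v)]
  have : B (Q' v) y₀ / N = θ v := by simp [θ, div_eq_inv_mul]
  rw [this, hd v hv, zero_smul]

/-- The isometry `k ⊗ 1`. -/
theorem exists_alpha (k : X →ₗ[F] X) (hk : ∀ v w, B (k v) (k w) = B v w) :
    ∃ g ∈ M, Prod4 g ∧ ∀ x i, g x i = k (x i) := by
  obtain ⟨g, hg, hgx⟩ := H.prod k LinearMap.id fun v w a b => by rw [hk]; rfl
  refine ⟨g, hg, ⟨k, LinearMap.id, hgx⟩, fun x i => ?_⟩
  conv_lhs => rw [decomp (F := F) x]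
  rw [map_sum, Finset.sum_apply]
  simp [hgx, tp, bs, Pi.single_apply]

/-- Two commuting roots with independent centres. -/
theorem all_of_pair {p u : Fin 4 → X} {h : (Fin 4 → X) ≃ₗ[F] (Fin 4 → X)} (hh : h ∈ M) (hhp : h p = p)
    (hpu : om4 B p u = 0) (hne : om4 B u (h u) ≠ 0)
    (hE : ∀ s : F, ∃ g ∈ M, ∀ x, g x = x + s • ((-om4 B x p) • p) + (s * om4 B x u) • u) : InT4 M B p := by
  have hB := H.sym
  have hup : om4 B u p = 0 := by rw [om_skew hB, hpu, neg_zero]
  have hhu : om4 B (h u) p = 0 := by rw [← hhp, H.pres h hh, hup]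
  have hu : InT4 M B u := by
    refine split_trick H (fun x => (-om4 B x p) • p) hne rfl (fun x y s => ?_) (fun x => ?_) ?_ ?_ (fun x => ?_)
      (fun x => ?_) hE fun s => ?_
    · simp only [om_add_left, om_smul_left]; module
    · simp only [om_smul_left, om_self hB, mul_zero, neg_zero, zero_smul]
    · simp only [hup, neg_zero, zero_smul]
    · simp only [hhu, neg_zero, zero_smul]
    · simp only [om_smul_left, hpu, mul_zero]
    · rw [om_smul_left, show om4 B p (h u) = om4 B (h p) (h u) by rw [hhp], H.pres h hh, hpu, mul_zero]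
    · obtain ⟨g, hg, hgx⟩ := hE s
      refine ⟨h * g * h⁻¹, mul_mem (mul_mem hh hg) (inv_mem hh), fun x => ?_⟩
      rw [mul_app, mul_app, hgx, map_add, map_add, map_smul, map_smul, map_smul, app_inv, hhp,
        om_app_inv H hh, om_app_inv H hh, hhp]
  intro c
  obtain ⟨g, hg, hgx⟩ := hE (-c)
  obtain ⟨t, ht, htx⟩ := hu c
  refine ⟨t * g, mul_mem ht hg, fun x => ?_⟩
  rw [mul_app, htx, hgx]
  simp only [om_add_left, om_smul_left, om_self hB, hpu]
  module

/-- A pointwise fixed hyperplane of a ruler. -/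
theorem plane {g : (Fin 4 → X) ≃ₗ[F] (Fin 4 → X)} (hg : g ∈ M) (hgP : ¬ Prod4 g) {c : Fin 4 → F} {d : X}
    (hc : c ≠ 0) (hd : d ≠ 0) (hfix : ∀ v, B v d = 0 → g (tp v c) = tp v c) :
    (∀ u, InT4 M B u) ∨ ∃ g' ∈ M, ¬ Prod4 g' ∧ Ruled g' := by
  have hB := H.sym
  have hfixi : ∀ v, B v d = 0 → g⁻¹ (tp v c) = tp v c := fun v hv => by
    conv_lhs => rw [← hfix v hv, inv_app]
  by_cases hdd : B d d = 0
  · obtain ⟨g', hg', hgP', hr | hfx⟩ := ascend H hg hgP hc hc
    · exact Or.inr ⟨g', hg', hgP', hr⟩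
    refine Or.inr ⟨g', hg', hgP', c, c, LinearMap.id, hc, hc, fun v => hfx v ?_⟩
    set q := Pc c (g⁻¹ (tp v c)) with hq
    have hqa : ∀ a, B a d = 0 → B q a = 0 := fun a ha => by
      rw [hq, ← om_tp_right, om_app_inv H hg, hfix a ha, om_tp_right, Pc_tp, w4_self, zero_smul, map_zero,
        LinearMap.zero_apply]
    have hqd : B q d = 0 := hqa d hdd
    rw [hfix q hqd, Pc_tp, w4_self, zero_smul]
  set N := B d d with hN
  set p := tp d c with hp
  set u := g p with hu
  let A : (Fin 4 → X) → (Fin 4 → X) := fun x => tp (N • Pc c x - B (Pc c x) d • d) c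
  have hAd : ∀ x, B (N • Pc c x - B (Pc c x) d • d) d = 0 := fun x => by simp [← hN]; ring
  have hAg : ∀ x, g (A x) = A x := fun x => hfix _ (hAd x)
  have homp : ∀ x, om4 B x p = B (Pc c x) d := fun x => om_tp_right x d c
  have hPA : ∀ x y, (∀ a, B a d = 0 → om4 B x (tp a c) = om4 B y (tp a c)) → A x = A y := by
    intro x y h
    show tp _ c = tp _ c
    congr 1
    refine eq_of_B hB fun v => ?_
    have e := h (N • v - B v d • d) (by simp [← hN]; ring)
    simp only [om_tp_right, map_sub, map_smul, smul_eq_mul] at e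
    simp only [map_sub, map_smul, LinearMap.sub_apply, LinearMap.smul_apply, smul_eq_mul, hB.symm d v]
    linear_combination e
  have hAgi : ∀ x, A (g⁻¹ x) = A x := fun x => hPA _ _ fun a ha => by rw [om_app_inv H hg, hfix a ha]
  have hA0 : A 0 = 0 := by simp [A, tp_zero_left]
  have hAlin : ∀ (x y : Fin 4 → X) (s : F), A (x + s • y) = A x + s • A y := fun x y s => by
    show tp _ c = tp _ c + s • tp _ c
    rw [← tp_smul_left, ← tp_add_left, map_add, map_smul, map_add, map_smul, LinearMap.add_apply,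
      LinearMap.smul_apply, smul_eq_mul]
    congr 1
    module
  have hAt : ∀ a, A (tp a c) = 0 := fun a => by simp [A, Pc_tp, w4_self, tp_zero_left]
  have hAu : A u = 0 := by
    rw [← hA0]
    refine hPA u 0 fun a ha => ?_
    rw [hu, ← hfix a ha, H.pres g hg, hfix a ha, hp, om_tp_tp hB, w4_self, zero_mul, om_zero_left]
  have hAp' : ∀ x, om4 B (A x) p = 0 := fun x => by
    rw [hp]; show om4 B (tp _ c) (tp d c) = 0
    rw [om_tp_tp hB, w4_self, zero_mul]
  have hAu' : ∀ x, om4 B (A x) u = 0 := fun x => by rw [← hAg, hu, H.pres g hg, hAp']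
  have hR : ∀ s : F, ∃ k ∈ M, ∀ x, k x = x + s • A x + (s * om4 B x p) • p := fun s => by
    obtain ⟨k, hk, hkx⟩ := exists_root H c (s * N)
    refine ⟨k, hk, fun x => ?_⟩
    rw [hkx, homp, hp, ← tp_smul_left, ← tp_smul_left, ← tp_smul_left, add_assoc, ← tp_add_left]
    congr 2
    module
  have hR' : ∀ s : F, ∃ k ∈ M, ∀ x, k x = x + s • A x + (s * om4 B x u) • u := fun s => by
    obtain ⟨k, hk, hkx⟩ := hR s
    refine ⟨g * k * g⁻¹, mul_mem (mul_mem hg hk) (inv_mem hg), fun x => ?_⟩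
    rw [mul_app, mul_app, hkx, map_add, map_add, map_smul, map_smul, app_inv, hAg, hAgi, om_app_inv H hg, ← hu]
  have hpT : InT4 M B p → ∀ w, InT4 M B w := all_of_pure H hd hc
  by_cases he : om4 B p u = 0
  swap
  · exact Or.inl (hpT (split_trick H A he rfl hAlin (fun x => hAt _) (hAt d) hAu hAp' hAu' hR hR'))
  have hup : om4 B u p = 0 := by rw [om_skew hB, he, neg_zero]
  have hcu : Pc c u = 0 := by
    refine eq_of_B hB fun v => ?_
    have e1 : om4 B u (tp (N • v - B v d • d) c) = 0 := by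
      have hperp : B (N • v - B v d • d) d = 0 := by simp [← hN]; ring
      rw [hu, ← hfix _ hperp, H.pres g hg, hp, om_tp_tp hB, w4_self, zero_mul]
    rw [homp] at hup
    simp only [om_tp_right, map_sub, map_smul, smul_eq_mul, hup, mul_zero, sub_zero] at e1
    rw [map_zero, LinearMap.zero_apply]
    exact (mul_eq_zero.1 e1).resolve_left hdd
  by_cases hW : ∀ b : Fin 4 → F, w4 c b = 0 → Pc b u = 0
  · right
    obtain ⟨z₀, hz₀⟩ := w4_nd hc
    set z := (w4 c z₀)⁻¹ • z₀ with hz
    have hcz : w4 c z = 1 := by rw [hz, w4_smul_right, inv_mul_cancel₀ hz₀]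
    have hu' : u = tp (Pc z u) c := by
      rw [← sub_eq_zero]
      refine eq_zero_of_Pc (F := F) fun b => ?_
      have h0 := hW (b + (-w4 c b) • z) (by rw [w4_add_right, w4_smul_right, hcz]; ring)
      rw [Pc_add, Pc_smul] at h0
      rw [map_sub, Pc_tp, ← h0]
      module
    refine ⟨g, hg, hgP, ruled_of_mem hc hc fun v => ⟨(v - (B v d / N) • d) + (B v d / N) • Pc z u, ?_⟩⟩
    have hv : tp v c = tp (v - (B v d / N) • d) c + (B v d / N) • p := by
      rw [hp, ← tp_smul_left, ← tp_add_left, sub_add_cancel]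
    rw [hv, map_add, map_smul, ← hu, hfix _ (by simp [← hN, div_mul_cancel₀ _ hdd]), tp_add_left,
      tp_smul_left, ← hu']
  push Not at hW
  obtain ⟨b, hcb, hw⟩ := hW
  set w := Pc b u with hwd
  have hRb : ∃ k ∈ M, k p = p ∧ ∀ i, k u i = u i + b i • w := by
    obtain ⟨k, hk, hkx⟩ := exists_root H b 1
    refine ⟨k, hk, by rw [hkx, hp, Pc_tp, hcb, zero_smul, tp_zero_left, smul_zero, add_zero], fun i => ?_⟩
    rw [hkx, ← hwd]
    simp [tp]
  obtain ⟨k, hk, hkp, hku⟩ := hRb
  have hku' : k u = u + tp w b := funext fun i => hku i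
  refine Or.inl (hpT ?_)
  have hE : ∀ s : F, ∃ t ∈ M, ∀ x, t x = x + s • ((-om4 B x p) • p) + (s * om4 B x u) • u := by
    intro s
    obtain ⟨t₁, h₁, e₁⟩ := hR (-s)
    obtain ⟨t₂, h₂, e₂⟩ := hR' s
    refine ⟨t₂ * t₁, mul_mem h₂ h₁, fun x => ?_⟩
    rw [mul_app, e₂, e₁, hAlin, hAlin, show A (A x) = 0 from hAt _, show A p = 0 from hAt d]
    simp only [om_add_left, om_smul_left, he, hAu', smul_zero, mul_zero, add_zero]
    module
  by_cases hww : B w w = 0
  swap
  · refine all_of_pair H hk hkp he ?_ hE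
    rw [hku', om_add_right, om_self hB, om_tp_right, ← hwd, zero_add]
    exact hww
  -- a reflection fixing `d`
  obtain ⟨z, hdz, hzz, hwz⟩ : ∃ z, B z d = 0 ∧ B z z ≠ 0 ∧ B w z ≠ 0 := by
    obtain ⟨y₁, h1, h11⟩ := TensorSO97.perp_one hB (by rw [H.dim]) hd
    obtain ⟨y₂, h2, h12, h22⟩ := TensorSO97.exists_third hB (by rw [H.dim]) hdd h11 h1
    by_contra! hcon
    have w1 : B w y₁ = 0 := hcon y₁ (by rw [hB.symm, h1]) h11
    have w2 : B w y₂ = 0 := hcon y₂ (by rw [hB.symm, h2]) h22
    set w' := w - (B w d / N) • d with hw'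
    have hli : LinearIndependent F ![d, y₁, y₂] := by
      rw [Fintype.linearIndependent_iff]
      intro g hg i
      simp only [Fin.sum_univ_three, Matrix.cons_val_zero, Matrix.cons_val_one, Matrix.cons_val] at hg
      have e1 := congrArg (B d) hg
      have e2 := congrArg (B y₁) hg
      have e3 := congrArg (B y₂) hg
      simp [h1, h2, ← hN] at e1
      simp [hB.symm y₁ d, h1, h12] at e2
      simp [hB.symm y₂ d, h2, hB.symm y₂ y₁, h12] at e3
      fin_cases i
      · exact e1.resolve_right hdd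
      · exact e2.resolve_right h11
      · exact e3.resolve_right h22
    have htop := hli.span_eq_top_of_card_eq_finrank (by rw [Fintype.card_fin, H.dim])
    have hw0 : w' = 0 := hB.nd w' fun v => by
      have hv : v ∈ Submodule.span F (Set.range ![d, y₁, y₂]) := htop ▸ Submodule.mem_top
      obtain ⟨r, rfl⟩ := (Submodule.mem_span_range_iff_exists_fun F).1 hv
      simp [hw', Fin.sum_univ_three, ← hN, div_mul_cancel₀ _ hdd, w1, w2, h1, h2]
      field_simp
      ring
    rw [sub_eq_zero] at hw0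
    rw [hw0] at hww hw
    simp [← hN] at hww
    rcases hww with h | h
    · exact hw (by rw [h]; simp)
    · exact hdd h
  obtain ⟨σ, hσ, hσp⟩ := TensorSO97.exists_refl hB hzz
  obtain ⟨ga, hga, -, hgax⟩ := exists_alpha H σ hσp
  refine all_of_pair H (h := ga * k) (mul_mem hga hk) ?_ he ?_ hE
  · rw [mul_app, hkp]
    funext i
    rw [hgax, hp]
    simp [tp, hσ, hB.symm d z, hdz]
  · rw [mul_app, hku', map_add]
    set γ : Fin 4 → F := fun i => -(2 * B (u i) z / B z z) with hγ
    have e1 : ga u = u + tp z γ := by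
      funext i
      rw [hgax, hσ]
      simp [tp, hγ]
      module
    have e2 : ga (tp w b) = tp (σ w) b := by
      funext i
      rw [hgax]
      simp [tp]
    rw [om_add_right, e1, e2, om_add_right, om_self hB, om_tp_right, om_tp_right, ← hwd, hσ, map_sub, map_smul, hww,
      Pc_apply]
    simp only [hγ, map_add, map_sub, map_smul, LinearMap.add_apply, LinearMap.sub_apply, LinearMap.smul_apply,
      smul_eq_mul, zero_add, zero_sub]
    have key : (-(2 * B (u 2) z / B z z)) * B (u 0) z - (-(2 * B (u 0) z / B z z)) * B (u 2) z +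
        (-(2 * B (u 3) z / B z z)) * B (u 1) z - (-(2 * B (u 1) z / B z z)) * B (u 3) z = 0 := by ring
    rw [key, zero_add, neg_ne_zero]
    exact mul_ne_zero (div_ne_zero (mul_ne_zero hB.odd hwz) hzz) hwz

end Cfsg.Agent.TensorSOFour97
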