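import Cfsg.Agent.Lib.TensorSOFourCore97

/-!
The last part of the maximality of `O(X) ⊗ Sp₄`: an element fixing `X ⊗ e₀` pointwise is a product map unless all
transvections are present.
-/

set_option autoImplicit false
set_option linter.unusedSectionVars false

namespace Cfsg.Agent.TensorSOFour97

open Module
open Cfsg.Agent.TensorSO97 (SymN)

variable {F X : Type*} [Field F] [Fintype F] [AddCommGroup X] [Module F X] [FiniteDimensional F X]
variable {B : X →ₗ[F] X →ₗ[F] F} {M : Subgroup ((Fin 4 → X) ≃ₗ[F] (Fin 4 → X))}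

/-- The element `x ↦ x + T(x₂') ⊗ e₀` lies in `M`. -/
def InC (M : Subgroup ((Fin 4 → X) ≃ₗ[F] (Fin 4 → X))) (T : X →ₗ[F] X) : Prop :=
  ∃ t ∈ M, ∀ x, t x = x + tp (T (Pc (bs 0 : Fin 4 → F) x)) (bs 0 : Fin 4 → F)

/-- The symmetric part is scalar. -/
def Good (B : X →ₗ[F] X →ₗ[F] F) (T : X →ₗ[F] X) : Prop :=
  ∃ κ : F, ∀ v w, B (T v) w + B (T w) v = κ * B v w

/-- A block. -/
def blk (G : (Fin 4 → X) ≃ₗ[F] (Fin 4 → X)) (i j : Fin 4) : X →ₗ[F] X :=
  LinearMap.proj i ∘ₗ G.toLinearMap ∘ₗ J (bs j : Fin 4 → F)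

theorem blk_apply (G : (Fin 4 → X) ≃ₗ[F] (Fin 4 → X)) (i j : Fin 4) (v : X) :
    blk G i j v = G (tp v (bs j : Fin 4 → F)) i := rfl

theorem P0_apply (x : Fin 4 → X) : Pc (bs 0 : Fin 4 → F) x = - x 2 := by simp [Pc_apply, bs]

theorem P1_apply (x : Fin 4 → X) : Pc (bs 1 : Fin 4 → F) x = - x 3 := by simp [Pc_apply, bs]

theorem P3_apply (x : Fin 4 → X) : Pc (bs 3 : Fin 4 → F) x = x 1 := by simp [Pc_apply, bs]

theorem P2_apply (x : Fin 4 → X) : Pc (bs 2 : Fin 4 → F) x = x 0 := by simp [Pc_apply, bs]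

theorem decomp4 (x : Fin 4 → X) : x = tp (x 0) (bs 0 : Fin 4 → F) + tp (x 1) (bs 1 : Fin 4 → F) +
    tp (x 2) (bs 2 : Fin 4 → F) + tp (x 3) (bs 3 : Fin 4 → F) := by
  conv_lhs => rw [decomp (F := F) x, Fin.sum_univ_four]

variable (H : Hyp4 B M)
include H

theorem exists_basis {d : X} (hd : B d d ≠ 0) :
    ∃ y₁ y₂ : X, B d y₁ = 0 ∧ B d y₂ = 0 ∧ B y₁ y₂ = 0 ∧ B y₁ y₁ ≠ 0 ∧ B y₂ y₂ ≠ 0 ∧
      ∀ w, B w d = 0 → B w y₁ = 0 → B w y₂ = 0 → w = 0 := by
  have hB := H.sym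
  have hd0 : d ≠ 0 := fun e => hd (by simp [e])
  obtain ⟨y₁, h1, h11⟩ := TensorSO97.perp_one hB (by rw [H.dim]) hd0
  obtain ⟨y₂, h2, h12, h22⟩ := TensorSO97.exists_third hB (by rw [H.dim]) hd h11 h1
  refine ⟨y₁, y₂, h1, h2, h12, h11, h22, fun w w0 w1 w2 => ?_⟩
  have hli : LinearIndependent F ![d, y₁, y₂] := by
    rw [Fintype.linearIndependent_iff]
    intro g hg i
    simp only [Fin.sum_univ_three, Matrix.cons_val_zero, Matrix.cons_val_one, Matrix.cons_val] at hg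
    have e1 := congrArg (B d) hg
    have e2 := congrArg (B y₁) hg
    have e3 := congrArg (B y₂) hg
    simp [h1, h2] at e1
    simp [hB.symm y₁ d, h1, h12] at e2
    simp [hB.symm y₂ d, h2, hB.symm y₂ y₁, h12] at e3
    fin_cases i
    · exact e1.resolve_right hd
    · exact e2.resolve_right h11
    · exact e3.resolve_right h22
  have htop := hli.span_eq_top_of_card_eq_finrank (by rw [Fintype.card_fin, H.dim])
  refine hB.nd w fun v => ?_
  have hv : v ∈ Submodule.span F (Set.range ![d, y₁, y₂]) := htop ▸ Submodule.mem_top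
  obtain ⟨r, rfl⟩ := (Submodule.mem_span_range_iff_exists_fun F).1 hv
  simp [Fin.sum_univ_three, w0, w1, w2]

theorem exists_aniso : ∃ d : X, B d d ≠ 0 := by
  obtain ⟨s, hs, -⟩ := exists_singular H
  obtain ⟨w, -, hw⟩ := TensorSO97.perp_one H.sym (by rw [H.dim]) hs
  exact ⟨w, hw⟩

/-- The part of `M` acting on `X ⊗ ⟨e₀, e₂⟩` and as an isometry of `X` on the rest. -/
def M02 : Subgroup ((X × X) ≃ₗ[F] (X × X)) where
  carrier := {kb | ∃ g ∈ M, ∃ h : X →ₗ[F] X, (∀ v w, B (h v) (h w) = B v w) ∧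
    ∀ x, g x = ![(kb (x 0, x 2)).1, h (x 1), (kb (x 0, x 2)).2, h (x 3)]}
  mul_mem' := by
    rintro a b ⟨g, hg, h, hh, hgx⟩ ⟨g', hg', h', hh', hgx'⟩
    refine ⟨g * g', mul_mem hg hg', h ∘ₗ h', fun v w => by simp [hh, hh'], fun x => ?_⟩
    rw [mul_app, hgx, hgx']
    funext i
    fin_cases i <;> simp
  one_mem' := ⟨1, one_mem M, LinearMap.id, fun _ _ => rfl, fun x => by funext i; fin_cases i <;> simp⟩
  inv_mem' := by
    rintro a ⟨g, hg, h, hh, hgx⟩
    have hi : Function.Injective h := by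
      rw [injective_iff_map_eq_zero]
      exact fun v hv => H.sym.nd v fun w => by rw [← hh, hv, map_zero, LinearMap.zero_apply]
    refine ⟨g⁻¹, inv_mem hg, (LinearEquiv.ofInjectiveEndo h hi).symm.toLinearMap, fun v w => ?_, fun x => ?_⟩
    · conv_rhs => rw [← (LinearEquiv.ofInjectiveEndo h hi).apply_symm_apply v,
        ← (LinearEquiv.ofInjectiveEndo h hi).apply_symm_apply w]
      exact (hh _ _).symm
    · apply g.injective
      rw [app_inv, hgx]
      have e1 : ∀ v, h ((LinearEquiv.ofInjectiveEndo h hi).symm v) = v :=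
        (LinearEquiv.ofInjectiveEndo h hi).apply_symm_apply
      have e2 : a (a⁻¹ (x 0, x 2)) = (x 0, x 2) := a.apply_symm_apply _
      funext i
      fin_cases i <;> simp [e1, e2]

theorem hyp02 : TensorSO97.Hyp B (M02 H) := by
  refine ⟨H.sym, fun a b c d hdet => ?_, fun k hk => ?_, ?_, Or.inr ⟨H.dim, H.card⟩⟩
  · obtain ⟨g, hg, hgx⟩ := H.prod LinearMap.id
      { toFun := fun u => ![a * u 0 + b * u 2, u 1, c * u 0 + d * u 2, u 3]
        map_add' := fun u w => by funext i; fin_cases i <;> simp <;> ring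
        map_smul' := fun t u => by funext i; fin_cases i <;> simp <;> ring }
      fun v w u u' => by
        simp only [w4, LinearMap.coe_mk, AddHom.coe_mk, LinearMap.id_apply, Matrix.cons_val_zero,
          Matrix.cons_val_one, Matrix.cons_val]
        linear_combination (B v w * (u 0 * u' 2 - u 2 * u' 0)) * hdet
    have hi : Function.Injective (LinearMap.prod (a • LinearMap.fst F X X + b • LinearMap.snd F X X)
        (c • LinearMap.fst F X X + d • LinearMap.snd F X X)) := by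
      rw [injective_iff_map_eq_zero]
      rintro ⟨p, q⟩ hpq
      have e1 : a • p + b • q = 0 := congrArg Prod.fst hpq
      have e2 : c • p + d • q = 0 := congrArg Prod.snd hpq
      refine Prod.ext ?_ ?_
      · calc p = (a * d - b * c) • p := by rw [hdet, one_smul]
          _ = d • (a • p + b • q) - b • (c • p + d • q) := by module
          _ = 0 := by rw [e1, e2, smul_zero, smul_zero, sub_zero]
      · calc q = (a * d - b * c) • q := by rw [hdet, one_smul]
          _ = a • (c • p + d • q) - c • (a • p + b • q) := by module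
          _ = 0 := by rw [e1, e2, smul_zero, smul_zero, sub_zero]
    refine ⟨LinearEquiv.ofInjectiveEndo _ hi, ⟨g, hg, LinearMap.id, fun _ _ => rfl, fun x => ?_⟩, fun x => rfl⟩
    conv_lhs => rw [decomp4 (F := F) x]
    simp only [map_add, hgx]
    funext i
    fin_cases i <;> simp [tp, bs]
  · obtain ⟨g, hg, -, hgx⟩ := exists_alpha H k hk
    have hi : Function.Injective (LinearMap.prodMap k k) := by
      rw [injective_iff_map_eq_zero]
      intro p hp
      have e1 : k p.1 = 0 := congrArg Prod.fst hp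
      have e2 : k p.2 = 0 := congrArg Prod.snd hp
      exact Prod.ext (H.sym.nd _ fun w => by rw [← hk, e1, map_zero, LinearMap.zero_apply])
        (H.sym.nd _ fun w => by rw [← hk, e2, map_zero, LinearMap.zero_apply])
    refine ⟨LinearEquiv.ofInjectiveEndo _ hi, ⟨g, hg, k, hk, fun x => ?_⟩, fun x => rfl⟩
    funext i
    fin_cases i <;> simp [hgx]
  · rintro a ⟨g, hg, h, hh, hgx⟩ x y
    have := H.pres g hg ![x.1, 0, x.2, 0] ![y.1, 0, y.2, 0]
    simpa [hgx, om4, TensorSO97.om] using this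

/-- An element `InC M T` with `T` non-scalar gives all transvections. -/
theorem cen_scalar (hno : ¬ ∀ u, InT4 M B u) {T : X →ₗ[F] X} (hT : InC M T) :
    ∃ lam : F, ∀ v, T v = lam • v := by
  have hB := H.sym
  obtain ⟨t, ht, htx⟩ := hT
  have hself : ∀ v w, B (T v) w = B v (T w) := fun v w => by
    have e := H.pres t ht (tp v (bs 2 : Fin 4 → F)) (tp w (bs 2 : Fin 4 → F))
    simp only [htx, P0_apply] at e
    simp [om4, tp, bs] at e
    linear_combination -e
  by_cases hcon : ∀ z, B z z ≠ 0 → T z = (B (T z) z / B z z) • z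
  · obtain ⟨d, hd⟩ := exists_aniso H
    obtain ⟨y₁, y₂, h1, h2, h12, h11, h22, hbasis⟩ := exists_basis H hd
    have same : ∀ x y, B x x ≠ 0 → B y y ≠ 0 → B x y = 0 → B (T x) x / B x x = B (T y) y / B y y := by
      intro x y hx hy hxy
      obtain ⟨m, hm, hm2⟩ : ∃ m : F, m ≠ 0 ∧ B x x + m * m * B y y ≠ 0 := by
        by_cases h : B x x + B y y = 0
        · obtain ⟨β, hβ0, hβ1, hβ2⟩ := exists_three H.card
          refine ⟨β, hβ0, fun e => ?_⟩
          have : (β * β - 1) * B y y = 0 := by linear_combination e - h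
          rcases mul_self_eq_one_iff.1 (sub_eq_zero.1 ((mul_eq_zero.1 this).resolve_right hy)) with e' | e'
          · exact hβ1 e'
          · exact hβ2 e'
        · exact ⟨1, one_ne_zero, by simpa using h⟩
      have hxm : B (x + m • y) (x + m • y) ≠ 0 := by
        simp only [map_add, map_smul, LinearMap.add_apply, LinearMap.smul_apply, smul_eq_mul, hxy, hB.symm y x]
        intro e
        exact hm2 (by linear_combination e)
      have e := hcon _ hxm
      set μ := B (T (x + m • y)) (x + m • y) / B (x + m • y) (x + m • y)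
      set ex := B (T x) x / B x x with hex
      set ey := B (T y) y / B y y with hey
      rw [map_add, map_smul, hcon x hx, hcon y hy, ← hex, ← hey] at e
      have f1 := congrArg (fun z => B z x) e
      have f2 := congrArg (fun z => B z y) e
      simp [hxy, hB.symm y x, hx] at f1
      simp [hxy, hy, hm] at f2
      exact f1.trans (mul_right_cancel₀ (mul_ne_zero hm hy) (by linear_combination -f2))
    set lam := B (T d) d / B d d
    refine ⟨lam, fun v => sub_eq_zero.1 (hbasis _ ?_ ?_ ?_)⟩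
    · rw [map_sub, map_smul, LinearMap.sub_apply, LinearMap.smul_apply, hself, hcon d hd, map_smul, sub_self]
    · rw [map_sub, map_smul, LinearMap.sub_apply, LinearMap.smul_apply, hself, hcon y₁ h11, map_smul,
        ← same d y₁ hd h11 h1, sub_self]
    · rw [map_sub, map_smul, LinearMap.sub_apply, LinearMap.smul_apply, hself, hcon y₂ h22, map_smul,
        ← same d y₂ hd h22 h2, sub_self]
  push Not at hcon
  obtain ⟨z, hzz, hTz⟩ := hcon
  exfalso
  apply hno
  set N := B z z with hN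
  set w := T z - (B (T z) z / N) • z with hw
  have hw0 : w ≠ 0 := sub_ne_zero.2 hTz
  have hzw : B z w = 0 := by
    simp [hw, ← hN, div_mul_cancel₀ _ hzz, hB.symm z (T z)]
  have H2 := hyp02 H
  obtain ⟨σ, hσ, hσp⟩ := TensorSO97.exists_refl hB hzz
  obtain ⟨s, hs, hsx⟩ := H2.orth σ hσp
  let E : (X × X) ≃ₗ[F] (X × X) :=
    { toFun := fun p => (p.1 - T p.2, p.2)
      map_add' := fun p q => by ext <;> simp; abel
      map_smul' := fun r p => by ext <;> simp [smul_sub]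
      invFun := fun p => (p.1 + T p.2, p.2)
      left_inv := fun p => by ext <;> simp
      right_inv := fun p => by ext <;> simp }
  have hE : E ∈ M02 H := ⟨t, ht, LinearMap.id, fun _ _ => rfl, fun x => by
    rw [htx, P0_apply]
    funext i
    fin_cases i <;> simp [E, tp, bs, sub_eq_add_neg]⟩
  have hS : TensorSO97.InS (M02 H) B (z, 0) (w, 0) (2 / N) := by
    refine ⟨E * (s * E⁻¹ * s), mul_mem hE (mul_mem (mul_mem hs (inv_mem hE)) hs), fun x => ?_⟩
    have e : (E * (s * E⁻¹ * s)) x =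
        (σ (σ x.1 + T (σ x.2)) - T (σ (σ x.2)), σ (σ x.2)) := by
      show E (s (E.symm (s x))) = _
      rw [hsx x]
      show E (s (σ x.1 + T (σ x.2), σ x.2)) = _
      rw [hsx]
      rfl
    have hσσ : ∀ v, σ (σ v) = v := fun v => by
      rw [hσ, hσ]
      simp only [map_sub, map_smul, LinearMap.sub_apply, LinearMap.smul_apply, smul_eq_mul, ← hN]
      match_scalars <;> field_simp <;> ring
    rw [e, map_add, hσσ, hσσ, hσ (T (σ x.2)), hσ x.2, ← hN]
    simp only [map_sub, map_smul, LinearMap.sub_apply, LinearMap.smul_apply, smul_eq_mul, hself x.2 z,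
      TensorSO97.om, map_zero, LinearMap.zero_apply, zero_sub, hw, hB.symm x.2 (T z)]
    ext <;> simp <;> match_scalars <;> field_simp <;> ring
  have hK := TensorSO97.InS.all H2 (div_ne_zero hB.odd hzz) hS
  have hzT : TensorSO97.InT (M02 H) B (z, 0) := by
    by_cases hww : B w w = 0
    · exact TensorSO97.all_of_K_sing H2 hzz hw0 hww hzw hK _
    · exact TensorSO97.all_of_K_aniso H2 hzz hww hzw hK _
  have hz0 : z ≠ 0 := fun e => hzz (by simp [hN, e])
  refine all_of_pure H hz0 (bs_ne 0) (fun c => ?_)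
  obtain ⟨a, ha0, ha1, ha2⟩ := exists_three H.card
  have ha : a * a - 1 ≠ 0 := fun e => by
    rcases mul_self_eq_one_iff.1 (sub_eq_zero.1 e) with h | h
    · exact ha1 h
    · exact ha2 h
  obtain ⟨τ, ⟨g, hg, h, hh, hgx⟩, hτ⟩ := hzT (c / (a * a - 1))
  obtain ⟨D, hD, hDx⟩ := H.prod LinearMap.id
    { toFun := fun u => ![a * u 0, u 1, a⁻¹ * u 2, u 3]
      map_add' := fun u w => by funext i; fin_cases i <;> simp [mul_add]
      map_smul' := fun t u => by funext i; fin_cases i <;> simp [mul_left_comm] }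
    fun v w u u' => by
      simp only [w4, LinearMap.coe_mk, AddHom.coe_mk, LinearMap.id_apply, Matrix.cons_val_zero,
        Matrix.cons_val_one, Matrix.cons_val]
      field_simp
  have hDx' : ∀ x, D x = ![a • x 0, x 1, a⁻¹ • x 2, x 3] := fun x => by
    conv_lhs => rw [decomp4 (F := F) x]
    simp only [map_add, hDx]
    funext i
    fin_cases i <;> simp [tp, bs]
  refine ⟨D * g * D⁻¹ * g⁻¹, mul_mem (mul_mem (mul_mem hD hg) (inv_mem hD)) (inv_mem hg), fun x => ?_⟩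
  obtain ⟨y, rfl⟩ : ∃ y, x = g (D y) := ⟨D⁻¹ (g⁻¹ x), by rw [app_inv, app_inv]⟩
  rw [mul_app, mul_app, mul_app, inv_app, inv_app]
  have h2 : (2 : F) ≠ 0 := hB.odd
  rw [hgx y, hDx', hDx', hgx]
  simp only [hτ, Matrix.cons_val_zero, Matrix.cons_val_one, Matrix.cons_val, TensorSO97.om, om_tp_right, P0_apply,
    Prod.fst_add, Prod.snd_add, Prod.smul_fst, Prod.smul_snd, map_zero, LinearMap.zero_apply, smul_zero, add_zero,
    map_neg, LinearMap.neg_apply, map_smul, LinearMap.smul_apply, smul_eq_mul]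
  have ha' : a ^ 2 - 1 ≠ 0 := by rwa [sq]
  funext i
  fin_cases i <;> simp [tp, bs] <;> match_scalars <;> field_simp <;> ring

theorem Good.sub {T U : X →ₗ[F] X} (h : Good B T) (h' : Good B U) : Good B (T - U) := by
  obtain ⟨κ, hκ⟩ := h
  obtain ⟨κ', hκ'⟩ := h'
  refine ⟨κ - κ', fun v w => ?_⟩
  simp only [LinearMap.sub_apply, map_sub]
  linear_combination hκ v w - hκ' v w

theorem skew_sq {S : X →ₗ[F] X} (hS : ∀ v w, B (S v) w = - B v (S w)) {μ : F}
    (hμ : ∀ v, S (S v) = μ • v) : S = 0 := by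
  have hB := H.sym
  have hself : ∀ v, B (S v) v = 0 := fun v => by
    have e := hS v v
    rw [hB.symm v (S v)] at e
    exact (mul_eq_zero.1 (show (2 : F) * B (S v) v = 0 by linear_combination e)).resolve_left hB.odd
  have hμ0 : μ = 0 := by
    by_contra hne
    obtain ⟨d, hd⟩ := exists_aniso H
    have hSd : B (S d) (S d) ≠ 0 := by
      rw [hS, hμ, map_smul, smul_eq_mul, neg_ne_zero]
      exact mul_ne_zero hne hd
    have hdS : B d (S d) = 0 := by rw [hB.symm, hself]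
    obtain ⟨w, hdw, hSw, hww⟩ := TensorSO97.exists_third hB (by rw [H.dim]) hd hSd hdS
    have hd0 : d ≠ 0 := fun e => hd (by simp [e])
    have hli : LinearIndependent F ![d, S d, w] := by
      rw [Fintype.linearIndependent_iff]
      intro g hg i
      simp only [Fin.sum_univ_three, Matrix.cons_val_zero, Matrix.cons_val_one, Matrix.cons_val] at hg
      have e1 := congrArg (B d) hg
      have e2 := congrArg (B (S d)) hg
      have e3 := congrArg (B w) hg
      simp [hdS, hdw] at e1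
      simp [hself d, hSw] at e2
      simp [hB.symm w d, hdw, hB.symm w (S d), hSw] at e3
      fin_cases i
      · exact e1.resolve_right hd
      · exact e2.resolve_right hSd
      · exact e3.resolve_right hww
    have htop := hli.span_eq_top_of_card_eq_finrank (by rw [Fintype.card_fin, H.dim])
    have hw0 : S w = 0 := hB.nd _ fun v => by
      have hv : v ∈ Submodule.span F (Set.range ![d, S d, w]) := htop ▸ Submodule.mem_top
      obtain ⟨r, rfl⟩ := (Submodule.mem_span_range_iff_exists_fun F).1 hv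
      have a1 : B (S w) d = 0 := by rw [hS, hB.symm, hSw, neg_zero]
      have a2 : B (S w) (S d) = 0 := by
        rw [hS, hμ, map_smul, hB.symm, hdw, smul_zero, neg_zero]
      simp [Fin.sum_univ_three, a1, a2, hself w]
    have e := hμ w
    rw [hw0, map_zero] at e
    exact hne ((smul_eq_zero.1 e.symm).resolve_right fun h => hww (by simp [h]))
  have hts : ∀ v w, B (S v) (S w) = 0 := fun v w => by rw [hS, hμ, hμ0, zero_smul, map_zero, neg_zero]
  by_contra hne
  obtain ⟨v₀, hv₀⟩ : ∃ v, S v ≠ 0 := by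
    by_contra! h
    exact hne (LinearMap.ext h)
  set e := S v₀ with he
  have h1 := TensorSO97.two_mul_le hB (W := LinearMap.range S) (by rintro _ ⟨v, rfl⟩; exact hts v v)
  have hspan : Submodule.span F {e} = LinearMap.range S :=
    Submodule.eq_of_le_of_finrank_le (Submodule.span_le.2 (by simp [he]))
      (by rw [finrank_span_singleton hv₀]; rw [H.dim] at h1; omega)
  obtain ⟨u, hu⟩ : ∃ u, B e u ≠ 0 := by
    by_contra! h
    exact hv₀ (hB.nd e h)
  have hue : S u = 0 := by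
    obtain ⟨r, hr⟩ := Submodule.mem_span_singleton.1
      (show S u ∈ Submodule.span F {e} from hspan ▸ ⟨u, rfl⟩)
    have e1 := hself u
    rw [← hr, map_smul, LinearMap.smul_apply, smul_eq_mul] at e1
    rw [← hr, (mul_eq_zero.1 e1).resolve_right hu, zero_smul]
  exact hu (by rw [he, hS, hue, map_zero, neg_zero])

theorem scalar_of_good {T : X →ₗ[F] X} (h1 : Good B T) (h2 : Good B (T ∘ₗ T)) : ∃ a : F, ∀ v, T v = a • v := by
  have hB := H.sym
  obtain ⟨κ, hκ⟩ := h1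
  obtain ⟨κ', hκ'⟩ := h2
  have h2' := hB.odd
  set S : X →ₗ[F] X := T - (κ / 2) • LinearMap.id with hS
  have hskew : ∀ v w, B (S v) w = - B v (S w) := fun v w => by
    simp only [hS, LinearMap.sub_apply, LinearMap.smul_apply, LinearMap.id_apply, map_sub, map_smul, smul_eq_mul]
    rw [hB.symm v (T w)]
    field_simp
    linear_combination 2 * hκ v w
  have hsq : ∀ v, S (S v) = (κ' / 2 - κ * κ / 4) • v := fun v => eq_of_B hB fun w => by
    have e1 := hκ' v w
    have e2 := hskew (S v) w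
    have e3 := hskew (S w) v
    have e4 := hskew v w
    simp only [LinearMap.comp_apply] at e1
    simp only [hS, LinearMap.sub_apply, LinearMap.smul_apply, LinearMap.id_apply, map_sub, map_smul, smul_eq_mul,
      hB.symm v (T w), hB.symm v (T (T w)), hB.symm w (T (T v)), hB.symm w v, hB.symm w (T v),
      hB.symm (T w) (T v)] at e1 e2 e3 e4 ⊢
    have h4 : (4 : F) ≠ 0 := by
      rw [show (4 : F) = 2 * 2 by norm_num]
      exact mul_ne_zero h2' h2'
    field_simp at e1 e2 e3 e4 ⊢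
    grind
  have h0 := skew_sq H hskew hsq
  exact ⟨κ / 2, fun v => sub_eq_zero.1 (by simpa [hS] using LinearMap.congr_fun h0 v)⟩

/-- A map on `⟨e₁, e₃⟩`. -/
theorem exists_sl13 (p q r s : F) (h : p * s - q * r = 1) :
    ∃ g ∈ M, Prod4 g ∧ ∀ x, g x = ![x 0, p • x 1 + q • x 3, x 2, r • x 1 + s • x 3] := by
  obtain ⟨g, hg, hgx⟩ := H.prod LinearMap.id
    { toFun := fun u => ![u 0, p * u 1 + q * u 3, u 2, r * u 1 + s * u 3]
      map_add' := fun u w => by funext i; fin_cases i <;> simp <;> ring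
      map_smul' := fun t u => by funext i; fin_cases i <;> simp <;> ring }
    fun v w u u' => by
      simp only [w4, LinearMap.coe_mk, AddHom.coe_mk, LinearMap.id_apply, Matrix.cons_val_zero,
        Matrix.cons_val_one, Matrix.cons_val]
      linear_combination (B v w * (u 1 * u' 3 - u 3 * u' 1)) * h
  refine ⟨g, hg, ⟨_, _, hgx⟩, fun x => ?_⟩
  conv_lhs => rw [decomp4 (F := F) x]
  simp only [map_add, hgx]
  funext i
  fin_cases i <;> simp [tp, bs]

/-- The long root element along `e₀` and `b`. -/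
theorem exists_Rb {b : Fin 4 → F} (hb : w4 b (bs 0) = 0) (t : F) :
    ∃ g ∈ M, Prod4 g ∧ ∀ x, g x =
      x + t • tp (Pc (bs 0 : Fin 4 → F) x) b + t • tp (Pc b x) (bs 0 : Fin 4 → F) := by
  obtain ⟨g1, h1, e1⟩ := exists_root H ((bs 0 : Fin 4 → F) + b) t
  obtain ⟨g2, h2, e2⟩ := exists_root H b (-t)
  obtain ⟨g3, h3, e3⟩ := exists_root H (bs 0 : Fin 4 → F) (-t)
  have hb' : w4 (bs 0) b = 0 := by rw [w4_skew b (bs 0), hb, neg_zero]
  refine ⟨g1 * g2 * g3, mul_mem (mul_mem h1 h2) h3,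
    ((prod_root H e1).mul (prod_root H e2)).mul (prod_root H e3), fun x => ?_⟩
  rw [mul_app, mul_app, e3, e2, e1]
  simp only [map_add, map_smul, Pc_tp, Pc_add, w4_add_right, hb, hb', w4_self, zero_smul, smul_zero, tp_zero_left,
    add_zero, zero_add, tp_add_left, tp_add_right]
  module

/-- An element fixing `X ⊗ e₀` keeps the contraction with `e₀`. -/
theorem P0_fix {G : (Fin 4 → X) ≃ₗ[F] (Fin 4 → X)} (hG : G ∈ M)
    (hfix : ∀ v, G (tp v (bs 0 : Fin 4 → F)) = tp v (bs 0 : Fin 4 → F)) (x : Fin 4 → X) :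
    Pc (bs 0 : Fin 4 → F) (G x) = Pc (bs 0 : Fin 4 → F) x :=
  eq_of_B H.sym fun v => by rw [← om_tp_right, ← hfix v, H.pres G hG, om_tp_right]

/-- The commutator of two conjugated long root elements. -/
theorem good_pair (hno : ¬ ∀ u, InT4 M B u) {G : (Fin 4 → X) ≃ₗ[F] (Fin 4 → X)} (hG : G ∈ M)
    (hfix : ∀ v, G (tp v (bs 0 : Fin 4 → F)) = tp v (bs 0 : Fin 4 → F)) {b b' : Fin 4 → F}
    (hb : w4 b (bs 0) = 0) (hb' : w4 b' (bs 0) = 0) :
    ∃ κ : F, ∀ v w, om4 B (tp v b') (G (tp w b)) + om4 B (tp w b') (G (tp v b)) = κ * B v w := by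
  obtain ⟨R, hR, -, hRx⟩ := exists_Rb H hb 1
  obtain ⟨R', hR', -, hRx'⟩ := exists_Rb H hb' 1
  simp only [one_smul] at hRx hRx'
  set e₀ := (bs 0 : Fin 4 → F) with he₀
  have hb0 : w4 e₀ b = 0 := by rw [w4_skew b e₀, hb, neg_zero]
  set G₁ := G * R * G⁻¹ with hG₁
  have hG₁m : G₁ ∈ M := mul_mem (mul_mem hG hR) (inv_mem hG)
  have hP := P0_fix H hG hfix
  have hPi : ∀ x, Pc e₀ (G⁻¹ x) = Pc e₀ x := fun x => by rw [← hP (G⁻¹ x), app_inv]
  have hG₁x : ∀ x, G₁ x = x + G (tp (Pc e₀ x) b) + tp (Pc b (G⁻¹ x)) e₀ := fun x => by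
    rw [hG₁, mul_app, mul_app, hRx, map_add, map_add, app_inv, hfix, hPi]
  set T : X →ₗ[F] X := Pc b ∘ₗ (G⁻¹).toLinearMap ∘ₗ J b' - Pc b' ∘ₗ G.toLinearMap ∘ₗ J b with hT
  have hTa : ∀ v, T v = Pc b (G⁻¹ (tp v b')) - Pc b' (G (tp v b)) := fun v => rfl
  have hc : InC M T := by
    refine ⟨G₁ * R' * (R' * G₁)⁻¹, mul_mem (mul_mem hG₁m hR') (inv_mem (mul_mem hR' hG₁m)), fun x => ?_⟩
    obtain ⟨y, rfl⟩ : ∃ y, x = R' (G₁ y) :=
      ⟨G₁⁻¹ (R'⁻¹ x), by rw [app_inv, app_inv]⟩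
    rw [mul_app, mul_app, show (R' * G₁)⁻¹ (R' (G₁ y)) = y from inv_app (R' * G₁) y]
    have hgi : ∀ v : X, G⁻¹ (tp v e₀) = tp v e₀ := fun v => by conv_lhs => rw [← hfix v, inv_app]
    have d1 : ∀ v : X, Pc e₀ (tp v b') = 0 := fun v => by rw [Pc_tp, hb', zero_smul]
    have d2 : ∀ v : X, Pc e₀ (G (tp v b)) = 0 := fun v => by rw [hP, Pc_tp, hb, zero_smul]
    have d3 : ∀ v : X, Pc b (G⁻¹ (tp v e₀)) = 0 := fun v => by rw [hgi, Pc_tp, hb0, zero_smul]
    have d4 : ∀ v : X, Pc e₀ (tp v e₀) = 0 := fun v => by rw [Pc_tp, w4_self, zero_smul]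
    have d5 : ∀ v : X, Pc b' (tp v e₀) = 0 := fun v => by
      rw [Pc_tp, w4_skew b' e₀, hb', neg_zero, zero_smul]
    try rw [← he₀]
    simp only [hRx', hG₁x, map_add, d1, d2, d3, d4, d5, tp_zero_left, map_zero, add_zero, hTa, tp_add_left,
      sub_eq_add_neg, ← neg_one_smul F (Pc b' _), tp_smul_left]
    module
  obtain ⟨lam, hlam⟩ := cen_scalar H hno hc
  refine ⟨lam, fun v w => ?_⟩
  have e : B (T v) w = lam * B v w := by rw [hlam, map_smul, LinearMap.smul_apply, smul_eq_mul]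
  rw [← e, hTa, map_sub, LinearMap.sub_apply, ← om_tp_right, ← om_tp_right, om_app_inv H hG,
    om_skew H.sym (tp w b'), sub_neg_eq_add]

theorem good_blk (hno : ¬ ∀ u, InT4 M B u) {G : (Fin 4 → X) ≃ₗ[F] (Fin 4 → X)} (hG : G ∈ M)
    (hfix : ∀ v, G (tp v (bs 0 : Fin 4 → F)) = tp v (bs 0 : Fin 4 → F)) {i j : Fin 4}
    (hi : i = 1 ∨ i = 3) (hj : j = 1 ∨ j = 3) : Good B (blk G i j) := by
  have hb : ∀ k : Fin 4, k = 1 ∨ k = 3 → w4 (bs k : Fin 4 → F) (bs 0) = 0 := by
    rintro k (rfl | rfl) <;> simp [w4, bs]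
  rcases hi with rfl | rfl
  · obtain ⟨κ, hκ⟩ := good_pair H hno hG hfix (hb j hj) (hb 3 (Or.inr rfl))
    refine ⟨-κ, fun v w => ?_⟩
    have e := hκ v w
    simp only [om_skew H.sym (G (tp _ _)) (tp _ _), om_tp_right, P3_apply] at e
    rw [blk_apply, blk_apply]
    linear_combination -e
  · obtain ⟨κ, hκ⟩ := good_pair H hno hG hfix (hb j hj) (hb 1 (Or.inl rfl))
    refine ⟨κ, fun v w => ?_⟩
    have e := hκ v w
    simp only [om_skew H.sym (G (tp _ _)) (tp _ _), om_tp_right, P1_apply, map_neg, LinearMap.neg_apply] at e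
    rw [blk_apply, blk_apply]
    linear_combination e

theorem comp2_fix {G : (Fin 4 → X) ≃ₗ[F] (Fin 4 → X)} (hG : G ∈ M)
    (hfix : ∀ v, G (tp v (bs 0 : Fin 4 → F)) = tp v (bs 0 : Fin 4 → F)) (x : Fin 4 → X) : G x 2 = x 2 := by
  have e := P0_fix H hG hfix x
  rwa [P0_apply, P0_apply, neg_inj] at e

/-- The blocks on `⟨e₁, e₃⟩` are scalar. -/
theorem blk_scalar (hno : ¬ ∀ u, InT4 M B u) {G : (Fin 4 → X) ≃ₗ[F] (Fin 4 → X)} (hG : G ∈ M)
    (hfix : ∀ v, G (tp v (bs 0 : Fin 4 → F)) = tp v (bs 0 : Fin 4 → F)) {i j : Fin 4}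
    (hi : i = 1 ∨ i = 3) (hj : j = 1 ∨ j = 3) : ∃ a : F, ∀ v, blk G i j v = a • v := by
  have key : ∀ p q r s : F, p * s - q * r = 1 →
      Good B (p • (blk G i 1 ∘ₗ blk G 1 j) + q • (blk G i 1 ∘ₗ blk G 3 j) + r • (blk G i 3 ∘ₗ blk G 1 j) +
        s • (blk G i 3 ∘ₗ blk G 3 j)) := by
    intro p q r s h
    obtain ⟨β, hβ, -, hβx⟩ := exists_sl13 H p q r s h
    have hβ0 : ∀ v, β (tp v (bs 0 : Fin 4 → F)) = tp v (bs 0 : Fin 4 → F) := fun v => by
      rw [hβx]
      funext k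
      fin_cases k <;> simp [tp, bs]
    have hg : G * β * G ∈ M := mul_mem (mul_mem hG hβ) hG
    have hgood := good_blk H hno hg (fun v => by rw [mul_app, mul_app, hfix, hβ0, hfix]) hi hj
    have e : blk (G * β * G) i j = p • (blk G i 1 ∘ₗ blk G 1 j) + q • (blk G i 1 ∘ₗ blk G 3 j) +
        r • (blk G i 3 ∘ₗ blk G 1 j) + s • (blk G i 3 ∘ₗ blk G 3 j) := by
      refine LinearMap.ext fun v => ?_
      set z := G (tp v (bs j : Fin 4 → F)) with hz
      have h2 : z 2 = 0 := by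
        rw [hz, comp2_fix H hG hfix]
        rcases hj with rfl | rfl <;> simp [tp, bs]
      rw [blk_apply, mul_app, mul_app, ← hz, hβx, decomp4 (F := F) ![z 0, _, _, _]]
      simp only [map_add, Matrix.cons_val_zero, Matrix.cons_val_one, Matrix.cons_val, h2, tp_zero_left,
        map_zero, add_zero, Pi.add_apply, hfix, LinearMap.add_apply, LinearMap.smul_apply, LinearMap.comp_apply,
        blk_apply, ← hz, tp_add_left, tp_smul_left, map_smul, Pi.smul_apply]
      have h0 : tp (z 0) (bs 0 : Fin 4 → F) i = 0 := by rcases hi with rfl | rfl <;> simp [tp, bs]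
      rw [h0]
      module
    rwa [e] at hgood
  refine scalar_of_good H (good_blk H hno hG hfix hi hj) ?_
  rcases hi with rfl | rfl <;> rcases hj with rfl | rfl
  · have := Good.sub H (key 1 1 (-1) 0 (by ring)) (key 0 1 (-1) 0 (by ring))
    convert this using 1
    module
  · have := Good.sub H (key 1 0 1 1 (by ring)) (key 1 0 0 1 (by ring))
    convert this using 1
    module
  · have := Good.sub H (key 1 1 0 1 (by ring)) (key 1 0 0 1 (by ring))
    convert this using 1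
    module
  · have := Good.sub H (key 0 1 (-1) 1 (by ring)) (key 0 1 (-1) 0 (by ring))
    convert this using 1
    module

/-- An element fixing `X ⊗ e₀` pointwise is a product map. -/
theorem fix_prod (hno : ¬ ∀ u, InT4 M B u) {G : (Fin 4 → X) ≃ₗ[F] (Fin 4 → X)} (hG : G ∈ M)
    (hfix : ∀ v, G (tp v (bs 0 : Fin 4 → F)) = tp v (bs 0 : Fin 4 → F)) : Prod4 G := by
  have hB := H.sym
  have h2' := hB.odd
  obtain ⟨a, ha⟩ := blk_scalar H hno hG hfix (i := 1) (j := 1) (Or.inl rfl) (Or.inl rfl)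
  obtain ⟨b, hb⟩ := blk_scalar H hno hG hfix (i := 1) (j := 3) (Or.inl rfl) (Or.inr rfl)
  obtain ⟨c, hc⟩ := blk_scalar H hno hG hfix (i := 3) (j := 1) (Or.inr rfl) (Or.inl rfl)
  obtain ⟨d, hd⟩ := blk_scalar H hno hG hfix (i := 3) (j := 3) (Or.inr rfl) (Or.inr rfl)
  simp only [blk_apply] at ha hb hc hd
  have c2 : ∀ v (j : Fin 4), j = 1 ∨ j = 3 → G (tp v (bs j : Fin 4 → F)) 2 = 0 := fun v j hj => by
    rw [comp2_fix H hG hfix]
    rcases hj with rfl | rfl <;> simp [tp, bs]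
  have hdet : a * d - b * c = 1 := by
    obtain ⟨z, hz⟩ := exists_aniso H
    have e := H.pres G hG (tp z (bs 1 : Fin 4 → F)) (tp z (bs 3 : Fin 4 → F))
    simp only [om4, ha, hb, hc, hd, c2 z 1 (Or.inl rfl), c2 z 3 (Or.inr rfl)] at e
    simp [tp, bs] at e
    refine mul_right_cancel₀ hz ?_
    linear_combination e
  obtain ⟨β, hβ, hβP, hβx⟩ := exists_sl13 H d (-b) (-c) a (by linear_combination hdet)
  -- the element `β G` is trivial on the quotient
  have hfix₁ : ∀ v, (β * G) (tp v (bs 0 : Fin 4 → F)) = tp v (bs 0 : Fin 4 → F) := fun v => by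
    rw [mul_app, hfix, hβx]
    funext k
    fin_cases k <;> simp [tp, bs]
  have h1 : ∀ v, (β * G) (tp v (bs 1 : Fin 4 → F)) =
      tp v (bs 1 : Fin 4 → F) + tp (G (tp v (bs 1 : Fin 4 → F)) 0) (bs 0 : Fin 4 → F) := fun v => by
    rw [mul_app, hβx, ha, hc, c2 v 1 (Or.inl rfl)]
    funext k
    fin_cases k <;> simp [tp, bs]
    · match_scalars; linear_combination hdet
    · module
  have h3 : ∀ v, (β * G) (tp v (bs 3 : Fin 4 → F)) =
      tp v (bs 3 : Fin 4 → F) + tp (G (tp v (bs 3 : Fin 4 → F)) 0) (bs 0 : Fin 4 → F) := fun v => by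
    rw [mul_app, hβx, hb, hd, c2 v 3 (Or.inr rfl)]
    funext k
    fin_cases k <;> simp [tp, bs]
    · module
    · match_scalars; linear_combination hdet
  have hg₁ : β * G ∈ M := mul_mem hβ hG
  -- symmetric parts
  have sym : ∀ (Q : (Fin 4 → X) ≃ₗ[F] (Fin 4 → X)), Q ∈ M →
      (∀ v, Q (tp v (bs 0 : Fin 4 → F)) = tp v (bs 0 : Fin 4 → F)) → ∀ (e : Fin 4 → F) (K : X →ₗ[F] X),
      w4 e (bs 0) = 0 → (∀ v, Q (tp v e) = tp v e + tp (K v) (bs 0 : Fin 4 → F)) → Good B K := by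
    intro Q hQ hQ0 e K he hK
    obtain ⟨R, hR, -, hRx⟩ := exists_Rb H he 1
    obtain ⟨R', hR', -, hRx'⟩ := exists_Rb H he (-1)
    simp only [one_smul] at hRx
    set e₀ := (bs 0 : Fin 4 → F) with he₀
    have he0 : w4 e₀ e = 0 := by rw [w4_skew e e₀, he, neg_zero]
    let D : X →ₗ[F] X := Pc e ∘ₗ J (bs 2 : Fin 4 → F) - Pc e ∘ₗ (Q⁻¹).toLinearMap ∘ₗ J (bs 2 : Fin 4 → F)
    have hD : ∀ x, Pc e (Q⁻¹ x) - Pc e x = D (Pc e₀ x) := fun x => eq_of_B hB fun w => by
      have k1 : ∀ y, B (Pc e (Q⁻¹ y) - Pc e y) w = B (Pc e₀ y) (K w) := fun y => by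
        rw [map_sub, LinearMap.sub_apply, ← om_tp_right, ← om_tp_right, om_app_inv H hQ, hK, om_add_right,
          om_tp_right _ (K w), add_sub_cancel_left]
      have k2 : D (Pc e₀ x) = -(Pc e (Q⁻¹ (tp (Pc e₀ x) (bs 2))) - Pc e (tp (Pc e₀ x) (bs 2))) :=
        (neg_sub _ _).symm
      rw [k1, k2, map_neg, LinearMap.neg_apply, k1, he₀, P0_apply (tp _ _)]
      simp [tp, bs]
    have hDK : ∀ v w, B (D v) w = B v (K w) := fun v w => by
      have := hD (tp (-v) (bs 2 : Fin 4 → F))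
      have e0 : Pc e₀ (tp (-v) (bs 2 : Fin 4 → F)) = v := by
        rw [he₀, P0_apply]
        simp [tp, bs]
      rw [e0] at this
      rw [← this, map_sub, LinearMap.sub_apply, ← om_tp_right, ← om_tp_right, om_app_inv H hQ, hK, om_add_right,
        om_tp_right _ (K w), add_sub_cancel_left, P0_apply]
      simp [tp, bs]
    have hc : InC M (K + D) := by
      refine ⟨Q * R * Q⁻¹ * R', mul_mem (mul_mem (mul_mem hQ hR) (inv_mem hQ)) hR', fun x => ?_⟩
      rw [mul_app, mul_app, mul_app, hRx, map_add, map_add, app_inv, hQ0, hK,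
        show Pc e₀ (Q⁻¹ (R' x)) = Pc e₀ (R' x) by rw [← P0_fix H hQ hQ0 (Q⁻¹ (R' x)), app_inv],
        eq_add_of_sub_eq (hD (R' x))]
      simp only [hRx', map_add, map_smul, Pc_tp, he, he0, w4_self, zero_smul, smul_zero, add_zero,
        LinearMap.add_apply, tp_add_left]
      module
    obtain ⟨lam, hlam⟩ := cen_scalar H hno hc
    refine ⟨lam, fun v w => ?_⟩
    have e1 := congrArg (fun z => B z w) (hlam v)
    simp only [LinearMap.add_apply, map_add, map_smul, LinearMap.smul_apply, smul_eq_mul, hDK] at e1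
    rw [hB.symm v (K w)] at e1
    exact e1
  obtain ⟨κ₁, hκ₁⟩ := sym _ hg₁ hfix₁ (bs 1) (blk G 0 1) (by simp [w4, bs]) h1
  obtain ⟨κ₃, hκ₃⟩ := sym _ hg₁ hfix₁ (bs 3) (blk G 0 3) (by simp [w4, bs]) h3
  obtain ⟨S₁, hS₁, hS₁P, e1⟩ := exists_Rb H (show w4 (bs 3 : Fin 4 → F) (bs 0) = 0 by simp [w4, bs]) (-(κ₁ / 2))
  obtain ⟨S₃, hS₃, hS₃P, e3⟩ := exists_Rb H (show w4 (bs 1 : Fin 4 → F) (bs 0) = 0 by simp [w4, bs]) (κ₃ / 2)
  set G₂ := S₁ * S₃ * (β * G) with hG₂
  have hg₂ : G₂ ∈ M := mul_mem (mul_mem hS₁ hS₃) hg₁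
  set A : X →ₗ[F] X := blk G 0 1 - (κ₁ / 2) • LinearMap.id with hA
  set C : X →ₗ[F] X := blk G 0 3 - (κ₃ / 2) • LinearMap.id with hC
  have hfix₂ : ∀ v, G₂ (tp v (bs 0 : Fin 4 → F)) = tp v (bs 0 : Fin 4 → F) := fun v => by
    rw [hG₂, mul_app (S₁ * S₃), hfix₁, mul_app, e3, e1]
    funext k
    fin_cases k <;> simp [tp, bs, Pc_apply]
  have hA2 : ∀ v, G₂ (tp v (bs 1 : Fin 4 → F)) = tp v (bs 1 : Fin 4 → F) + tp (A v) (bs 0 : Fin 4 → F) := fun v => by
    rw [hG₂, mul_app (S₁ * S₃), h1, mul_app, e3, e1]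
    funext k
    fin_cases k <;> simp [tp, bs, Pc_apply, hA, blk_apply]
    try module
  have hC2 : ∀ v, G₂ (tp v (bs 3 : Fin 4 → F)) = tp v (bs 3 : Fin 4 → F) + tp (C v) (bs 0 : Fin 4 → F) := fun v => by
    rw [hG₂, mul_app (S₁ * S₃), h3, mul_app, e3, e1]
    funext k
    fin_cases k <;> simp [tp, bs, Pc_apply, hC, blk_apply]
    try module
  have skewA : ∀ v w, B (A v) w = - B v (A w) := fun v w => by
    simp only [hA, LinearMap.sub_apply, LinearMap.smul_apply, LinearMap.id_apply, map_sub, map_smul, smul_eq_mul]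
    rw [hB.symm v (blk G 0 1 w)]
    field_simp
    linear_combination 2 * hκ₁ v w
  have skewC : ∀ v w, B (C v) w = - B v (C w) := fun v w => by
    simp only [hC, LinearMap.sub_apply, LinearMap.smul_apply, LinearMap.id_apply, map_sub, map_smul, smul_eq_mul]
    rw [hB.symm v (blk G 0 3 w)]
    field_simp
    linear_combination 2 * hκ₃ v w
  -- the middle components of an element with these values
  have mid : ∀ (Q : (Fin 4 → X) ≃ₗ[F] (Fin 4 → X)), Q ∈ M →
      (∀ v, Q (tp v (bs 0 : Fin 4 → F)) = tp v (bs 0 : Fin 4 → F)) → ∀ A' C' : X →ₗ[F] X,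
      (∀ v w, B (A' v) w = - B v (A' w)) → (∀ v w, B (C' v) w = - B v (C' w)) →
      (∀ v, Q (tp v (bs 1 : Fin 4 → F)) = tp v (bs 1 : Fin 4 → F) + tp (A' v) (bs 0 : Fin 4 → F)) →
      (∀ v, Q (tp v (bs 3 : Fin 4 → F)) = tp v (bs 3 : Fin 4 → F) + tp (C' v) (bs 0 : Fin 4 → F)) →
      ∀ x, Q x 1 = x 1 + C' (Pc (bs 0 : Fin 4 → F) x) ∧ Q x 3 = x 3 - A' (Pc (bs 0 : Fin 4 → F) x) := by
    intro Q hQ hQ0 A' C' hA' hC' h1' h3' x
    constructor
    · refine eq_of_B hB fun w => ?_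
      have e := H.pres Q hQ x (tp w (bs 3 : Fin 4 → F))
      simp only [h3', om_add_right, om_tp_right, P0_fix H hQ hQ0, P3_apply] at e
      simp only [map_add, LinearMap.add_apply, hC']
      linear_combination e
    · refine eq_of_B hB fun w => ?_
      have e := H.pres Q hQ x (tp w (bs 1 : Fin 4 → F))
      simp only [h1', om_add_right, om_tp_right, P0_fix H hQ hQ0, P1_apply, map_neg, LinearMap.neg_apply] at e
      simp only [map_sub, LinearMap.sub_apply, hA']
      linear_combination -e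
  -- the commutator with a sheared conjugate
  have comm : ∀ p q r s : F, p * s - q * r = 1 → ∀ A' C' : X →ₗ[F] X,
      (∀ v w, B (A' v) w = - B v (A' w)) → (∀ v w, B (C' v) w = - B v (C' w)) →
      (∀ v, A' v = s • A v - r • C v) → (∀ v, C' v = -q • A v + p • C v) →
      ∃ lam : F, ∀ v, A (C' v) - C (A' v) - (A' (C v) - C' (A v)) = lam • v := by
    intro p q r s hps A' C' hA' hC' dA dC
    obtain ⟨γ, hγ, -, hγx⟩ := exists_sl13 H p q r s hps
    obtain ⟨γ', hγ', -, hγ'x⟩ := exists_sl13 H s (-q) (-r) p (by linear_combination hps)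
    set G₃ := γ * G₂ * γ' with hG₃
    have hg₃ : G₃ ∈ M := mul_mem (mul_mem hγ hg₂) hγ'
    have hγ0 : ∀ v, γ (tp v (bs 0 : Fin 4 → F)) = tp v (bs 0 : Fin 4 → F) := fun v => by
      rw [hγx]; funext k; fin_cases k <;> simp [tp, bs]
    have hfix₃ : ∀ v, G₃ (tp v (bs 0 : Fin 4 → F)) = tp v (bs 0 : Fin 4 → F) := fun v => by
      rw [hG₃, mul_app, mul_app, hγ'x, show (![(tp v (bs 0 : Fin 4 → F)) 0, _, _, _] : Fin 4 → X) =
        tp v (bs 0 : Fin 4 → F) from by funext k; fin_cases k <;> simp [tp, bs], hfix₂, hγ0]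
    have hA3 : ∀ v, G₃ (tp v (bs 1 : Fin 4 → F)) = tp v (bs 1 : Fin 4 → F) + tp (A' v) (bs 0 : Fin 4 → F) := fun v => by
      rw [hG₃, mul_app, mul_app, show γ' (tp v (bs 1 : Fin 4 → F)) =
        tp (s • v) (bs 1 : Fin 4 → F) + tp (-r • v) (bs 3 : Fin 4 → F) by
        rw [hγ'x]; funext k; fin_cases k <;> simp [tp, bs], map_add, hA2, hC2, hγx]
      funext k
      fin_cases k <;> simp [tp, bs, dA]
      all_goals first
        | (match_scalars <;> linear_combination hps)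
        | module
    have hC3 : ∀ v, G₃ (tp v (bs 3 : Fin 4 → F)) = tp v (bs 3 : Fin 4 → F) + tp (C' v) (bs 0 : Fin 4 → F) := fun v => by
      rw [hG₃, mul_app, mul_app, show γ' (tp v (bs 3 : Fin 4 → F)) =
        tp (-q • v) (bs 1 : Fin 4 → F) + tp (p • v) (bs 3 : Fin 4 → F) by
        rw [hγ'x]; funext k; fin_cases k <;> simp [tp, bs], map_add, hA2, hC2, hγx]
      funext k
      fin_cases k <;> simp [tp, bs, dC]
      all_goals first
        | (match_scalars <;> linear_combination hps)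
        | module
    have gen : ∀ (Q : (Fin 4 → X) ≃ₗ[F] (Fin 4 → X)),
        (∀ v, Q (tp v (bs 0 : Fin 4 → F)) = tp v (bs 0 : Fin 4 → F)) → ∀ A₀ C₀ : X →ₗ[F] X,
        (∀ v, Q (tp v (bs 1 : Fin 4 → F)) = tp v (bs 1 : Fin 4 → F) + tp (A₀ v) (bs 0 : Fin 4 → F)) →
        (∀ v, Q (tp v (bs 3 : Fin 4 → F)) = tp v (bs 3 : Fin 4 → F) + tp (C₀ v) (bs 0 : Fin 4 → F)) →
        ∀ (u : X) (p q : X) (z : Fin 4 → X), Q (z + tp p (bs 1 : Fin 4 → F) + tp q (bs 3 : Fin 4 → F) +
          tp u (bs 0 : Fin 4 → F)) = Q z + tp p (bs 1 : Fin 4 → F) + tp q (bs 3 : Fin 4 → F) +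
          tp (u + A₀ p + C₀ q) (bs 0 : Fin 4 → F) := by
      intro Q hQ0 A₀ C₀ q1 q3 u p q z
      rw [map_add, map_add, map_add, q1, q3, hQ0, tp_add_left, tp_add_left]
      abel
    have split : ∀ (Q : (Fin 4 → X) ≃ₗ[F] (Fin 4 → X)) (hQ : Q ∈ M),
        (∀ v, Q (tp v (bs 0 : Fin 4 → F)) = tp v (bs 0 : Fin 4 → F)) → ∀ A₀ C₀ : X →ₗ[F] X,
        (∀ x, Q x 1 = x 1 + C₀ (Pc (bs 0 : Fin 4 → F) x) ∧ Q x 3 = x 3 - A₀ (Pc (bs 0 : Fin 4 → F) x)) →
        ∀ x, Q x = x + tp (C₀ (Pc (bs 0 : Fin 4 → F) x)) (bs 1 : Fin 4 → F) +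
          tp (-A₀ (Pc (bs 0 : Fin 4 → F) x)) (bs 3 : Fin 4 → F) + tp (Q x 0 - x 0) (bs 0 : Fin 4 → F) := by
      intro Q hQ hQ0 A₀ C₀ hm x
      funext k
      fin_cases k <;> simp [tp, bs, (hm x).1, (hm x).2, comp2_fix H hQ hQ0, sub_eq_add_neg]
    have m2 := split G₂ hg₂ hfix₂ A C (mid G₂ hg₂ hfix₂ A C skewA skewC hA2 hC2)
    have m3 := split G₃ hg₃ hfix₃ A' C' (mid G₃ hg₃ hfix₃ A' C' hA' hC' hA3 hC3)
    refine cen_scalar H hno (T := A ∘ₗ C' - C ∘ₗ A' - (A' ∘ₗ C - C' ∘ₗ A)) ?_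
    refine ⟨G₂ * G₃ * (G₃ * G₂)⁻¹, mul_mem (mul_mem hg₂ hg₃) (inv_mem (mul_mem hg₃ hg₂)), fun x => ?_⟩
    obtain ⟨y, rfl⟩ : ∃ y, x = G₃ (G₂ y) := ⟨G₂⁻¹ (G₃⁻¹ x), by rw [app_inv, app_inv]⟩
    rw [mul_app, mul_app, show (G₃ * G₂)⁻¹ (G₃ (G₂ y)) = y from inv_app (G₃ * G₂) y]
    rw [P0_fix H hg₃ hfix₃, P0_fix H hg₂ hfix₂]
    conv_lhs => rw [m3 y, gen G₂ hfix₂ A C hA2 hC2, m2 y]
    conv_rhs => arg 1; rw [m2 y, gen G₃ hfix₃ A' C' hA3 hC3, m3 y]
    simp only [LinearMap.sub_apply, LinearMap.comp_apply]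
    simp only [map_neg, tp_add_left, sub_eq_add_neg,
      ← neg_one_smul F (A _), ← neg_one_smul F (A' _), ← neg_one_smul F (C _), ← neg_one_smul F (C' _),
      ← neg_one_smul F (G₂ y 0 + _), neg_add, tp_smul_left, map_smul]
    simp only [show ∀ (v : X) (b : Fin 4 → F), tp (-v) b = - tp v b from fun v b => funext fun i => smul_neg _ _,
      tp_smul_left]
    module
  have hCz : C = 0 := by
    obtain ⟨lam, hlam⟩ := comm 1 0 1 1 (by ring) (A - C) C (fun v w => by
      simp only [LinearMap.sub_apply, map_sub, skewA, skewC]; ring) skewC (fun v => by simp) (fun v => by simp)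
    refine skew_sq H skewC (μ := lam / 2) fun v => ?_
    have e := hlam v
    simp only [LinearMap.sub_apply, map_sub] at e
    rw [show lam / 2 = 2⁻¹ * lam by ring, ← smul_smul, ← e]
    match_scalars <;> field_simp <;> ring
  have hAz : A = 0 := by
    obtain ⟨lam, hlam⟩ := comm 1 1 0 1 (by ring) A (C - A) skewA (fun v w => by
      simp only [LinearMap.sub_apply, map_sub, skewA, skewC]; ring) (fun v => by simp)
      (fun v => by simp [sub_eq_neg_add])
    refine skew_sq H skewA (μ := -(lam / 2)) fun v => ?_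
    have e := hlam v
    simp only [LinearMap.sub_apply, map_sub] at e
    rw [show -(lam / 2) = (-2⁻¹ : F) * lam by ring, ← smul_smul, ← e]
    match_scalars <;> field_simp <;> ring
  have m := mid G₂ hg₂ hfix₂ A C skewA skewC hA2 hC2
  simp only [hAz, hCz, LinearMap.zero_apply, add_zero, sub_zero] at m
  let T : X →ₗ[F] X := - blk G₂ 0 2
  have hT : ∀ x, G₂ x = x + tp (T (Pc (bs 0 : Fin 4 → F) x)) (bs 0 : Fin 4 → F) := fun x => by
    conv_lhs => rw [decomp4 (F := F) x]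
    rw [map_add, map_add, map_add, hfix₂, hA2, hC2, hAz, hCz]
    rw [P0_apply, map_neg]
    funext k
    fin_cases k <;> simp [tp, bs, T, blk_apply, comp2_fix H hg₂ hfix₂]
    · simpa [tp, bs] using (m (tp (x 2) (bs 2 : Fin 4 → F))).1
    · simpa [tp, bs] using (m (tp (x 2) (bs 2 : Fin 4 → F))).2
  obtain ⟨lam, hlam⟩ := cen_scalar H hno ⟨G₂, hg₂, hT⟩
  have hP₂ : Prod4 G₂ := prod_root H (b := (bs 0 : Fin 4 → F)) (s := lam) fun x => by
    rw [hT, hlam, tp_smul_left]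
  have hP := ((hβP.inv H).mul ((hS₁P.mul hS₃P).inv H)).mul hP₂
  have e : β⁻¹ * (S₁ * S₃)⁻¹ * G₂ = G := by rw [hG₂]; group
  rwa [e] at hP

/-- A ruled element is a product map. -/
theorem ruled_prod (hno : ¬ ∀ u, InT4 M B u) {g : (Fin 4 → X) ≃ₗ[F] (Fin 4 → X)} (hg : g ∈ M) (hr : Ruled g) :
    Prod4 g := by
  have hB := H.sym
  obtain ⟨b, c, α, hb, hc, hα⟩ := hr
  obtain ⟨m₁, hm₁, hP₁, e₁⟩ := exists_move H (bs_ne 0 : (bs 0 : Fin 4 → F) ≠ 0) hb
  obtain ⟨m₂, hm₂, hP₂, e₂⟩ := exists_move H hc (bs_ne 0 : (bs 0 : Fin 4 → F) ≠ 0)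
  set e₀ := (bs 0 : Fin 4 → F) with he₀
  set G := m₂ * g * m₁ with hG
  have hGm : G ∈ M := mul_mem (mul_mem hm₂ hg) hm₁
  have hGa : ∀ v, G (tp v e₀) = tp (α v) e₀ := fun v => by rw [hG, mul_app, mul_app, e₁, hα, e₂]
  let α' : X →ₗ[F] X := -(Pc e₀ ∘ₗ (G⁻¹).toLinearMap ∘ₗ J (bs 2 : Fin 4 → F))
  have k1 : ∀ y v, B (Pc e₀ (G⁻¹ y)) v = B (Pc e₀ y) (α v) := fun y v => by
    rw [← om_tp_right, om_app_inv H hGm, hGa, om_tp_right]
  have hadj : ∀ w v, B (α' w) v = B w (α v) := fun w v => by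
    show B (-(Pc e₀ (G⁻¹ (tp w (bs 2))))) v = _
    rw [map_neg, LinearMap.neg_apply, k1, he₀, P0_apply]
    simp [tp, bs]
  have hP : ∀ x, Pc e₀ (G⁻¹ x) = α' (Pc e₀ x) := fun x => eq_of_B hB fun v => by rw [k1, hadj]
  obtain ⟨R, hR, hRx⟩ := exists_root H e₀ 1
  simp only [one_smul] at hRx
  have hc : InC M (α ∘ₗ α') := ⟨G * R * G⁻¹, mul_mem (mul_mem hGm hR) (inv_mem hGm), fun x => by
    rw [mul_app, mul_app, hRx, map_add, app_inv, hGa, hP]; rfl⟩
  obtain ⟨lam, hlam⟩ := cen_scalar H hno hc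
  simp only [LinearMap.comp_apply] at hlam
  have hαi : Function.Injective α := by
    rw [injective_iff_map_eq_zero]
    intro v hv
    have : tp v e₀ = 0 := G.injective (by rw [hGa, hv, tp_zero_left, map_zero])
    exact (tp_eq_zero this).resolve_right (bs_ne 0)
  obtain ⟨x, hx⟩ := exists_ne H
  have hl0 : lam ≠ 0 := by
    intro h0
    obtain ⟨w, hw⟩ : ∃ w, B (α x) w ≠ 0 := by
      by_contra! h
      exact hx (hαi (by rw [hB.nd _ h, map_zero]))
    have e : α' w = 0 := hαi (by rw [hlam, h0, zero_smul, map_zero])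
    exact hw (by rw [hB.symm, ← hadj, e, map_zero, LinearMap.zero_apply])
  have hiso : ∀ v w, B (α v) (α w) = lam * B v w := fun v w => by
    have e : α' (α v) = lam • v := hαi (by rw [hlam, map_smul])
    rw [← hadj, e, map_smul, LinearMap.smul_apply, smul_eq_mul]
  obtain ⟨p, hp, hpx⟩ := H.prod α
    { toFun := fun u => ![u 0, u 1, lam⁻¹ * u 2, lam⁻¹ * u 3]
      map_add' := fun u w => by funext i; fin_cases i <;> simp [mul_add]
      map_smul' := fun t u => by funext i; fin_cases i <;> simp [mul_left_comm] }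
    fun v w u u' => by
      simp only [w4, LinearMap.coe_mk, AddHom.coe_mk, Matrix.cons_val_zero, Matrix.cons_val_one, Matrix.cons_val,
        hiso]
      field_simp
  have hp0 : ∀ v, p (tp v e₀) = tp (α v) e₀ := fun v => by
    rw [hpx]
    funext i
    fin_cases i <;> simp [tp, bs, he₀]
  have hpP : Prod4 p := ⟨_, _, hpx⟩
  have hfp := fix_prod H hno (G := p⁻¹ * G) (mul_mem (inv_mem hp) hGm) fun v => by
    rw [mul_app, hGa, ← hp0, inv_app]
  have hGP := hpP.mul hfp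
  rw [mul_inv_cancel_left] at hGP
  have := (((hP₂.inv H).mul hGP).mul (hP₁.inv H))
  have e : m₂⁻¹ * G * m₁⁻¹ = g := by rw [hG]; group
  rwa [e] at this

/-- Maximality of `O(X) ⊗ Sp₄`. -/
theorem maximal {g : (Fin 4 → X) ≃ₗ[F] (Fin 4 → X)} (hg : g ∈ M) : (∀ u, InT4 M B u) ∨ Prod4 g := by
  by_contra hcon
  push Not at hcon
  obtain ⟨hno, hgP⟩ := hcon
  have hno' : ¬ ∀ u, InT4 M B u := fun h => hno.elim fun u hu => hu (h u)
  obtain ⟨g₁, hg₁, hgP₁, hr | ⟨c, d, hc, hd, hfix⟩⟩ := descend H hg hgP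
  · exact hgP₁ (ruled_prod H hno' hg₁ hr)
  · rcases plane H hg₁ hgP₁ hc hd hfix with h | ⟨g₂, hg₂, hgP₂, hr⟩
    · exact hno' h
    · exact hgP₂ (ruled_prod H hno' hg₂ hr)

end Cfsg.Agent.TensorSOFour97
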