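import Cfsg.Agent.Lib.TensorSOForms97

/-!
A group on `Y × Y` containing the isometries of the symplectic form attached to `Sp₂ ⊗ O(Y)` that preserve the
tensor decomposition: one transvection with a pure centre gives all transvections, and so does one short root
element `u ρ + ρ u` with `u = (z, 0)`, `z` anisotropic and `ρ` orthogonal to both `(z, 0)` and `(0, z)`.
-/

set_option autoImplicit false
set_option linter.unusedSectionVars false

namespace Cfsg.Agent.TensorSO97

open Module

variable {F Y : Type*} [Field F] [Fintype F] [AddCommGroup Y] [Module F Y] [FiniteDimensional F Y]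

/-- The symplectic form on `Y × Y`. -/
def om (B : Y →ₗ[F] Y →ₗ[F] F) (x y : Y × Y) : F := B x.1 y.2 - B x.2 y.1

/-- The hypotheses. -/
structure Hyp (B : Y →ₗ[F] Y →ₗ[F] F) (M : Subgroup ((Y × Y) ≃ₗ[F] (Y × Y))) : Prop where
  sym : SymN B
  sl : ∀ a b c d : F, a * d - b * c = 1 →
    ∃ g ∈ M, ∀ x : Y × Y, g x = (a • x.1 + b • x.2, c • x.1 + d • x.2)
  orth : ∀ h : Y →ₗ[F] Y, (∀ x y, B (h x) (h y) = B x y) → ∃ g ∈ M, ∀ x : Y × Y, g x = (h x.1, h x.2)
  pres : ∀ g ∈ M, ∀ x y, om B (g x) (g y) = om B x y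
  dim : (5 ≤ finrank F Y ∨
    (finrank F Y = 4 ∧ ∀ W : Submodule F Y, (∀ x ∈ W, B x x = 0) → finrank F W ≤ 1)) ∨
      (finrank F Y = 3 ∧ 5 ≤ Fintype.card F)

variable {B : Y →ₗ[F] Y →ₗ[F] F} {M : Subgroup ((Y × Y) ≃ₗ[F] (Y × Y))}

/-- All transvections with centre `u` lie in `M`. -/
def InT (M : Subgroup ((Y × Y) ≃ₗ[F] (Y × Y))) (B : Y →ₗ[F] Y →ₗ[F] F) (u : Y × Y) : Prop :=
  ∀ c : F, ∃ t ∈ M, ∀ x, t x = x + (c * om B x u) • u

/-- The short root element `u w + w u` with parameter `s` lies in `M`. -/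
def InS (M : Subgroup ((Y × Y) ≃ₗ[F] (Y × Y))) (B : Y →ₗ[F] Y →ₗ[F] F) (u w : Y × Y) (s : F) : Prop :=
  ∃ t ∈ M, ∀ x, t x = x + (s * om B x u) • w + (s * om B x w) • u

/-- All short root elements for `(a, 0)`, `(b, 0)` lie in `M`. -/
def InK (M : Subgroup ((Y × Y) ≃ₗ[F] (Y × Y))) (B : Y →ₗ[F] Y →ₗ[F] F) (a b : Y) : Prop :=
  ∀ s : F, InS M B (a, 0) (b, 0) s

theorem gmul_app (g h : (Y × Y) ≃ₗ[F] (Y × Y)) (x : Y × Y) : (g * h) x = g (h x) := rfl

theorem gapp_inv (g : (Y × Y) ≃ₗ[F] (Y × Y)) (x : Y × Y) : g (g⁻¹ x) = x := g.apply_symm_apply x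

theorem ginv_app (g : (Y × Y) ≃ₗ[F] (Y × Y)) (x : Y × Y) : g⁻¹ (g x) = x := g.symm_apply_apply x

section basic

theorem om_add_left (x y u : Y × Y) : om B (x + y) u = om B x u + om B y u := by
  simp [om]; ring

theorem om_add_right (x y u : Y × Y) : om B u (x + y) = om B u x + om B u y := by
  simp [om]; ring

theorem om_sub_left (x y u : Y × Y) : om B (x - y) u = om B x u - om B y u := by
  simp [om]; ring

theorem om_sub_right (x y u : Y × Y) : om B u (x - y) = om B u x - om B u y := by
  simp [om]; ring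

theorem om_smul_left (s : F) (x u : Y × Y) : om B (s • x) u = s * om B x u := by
  simp [om]; ring

theorem om_smul_right (s : F) (x u : Y × Y) : om B u (s • x) = s * om B u x := by
  simp [om]; ring

theorem om_zero_right (x : Y × Y) : om B x 0 = 0 := by simp [om]

theorem om_self (hB : SymN B) (x : Y × Y) : om B x x = 0 := by
  simp [om, hB.symm x.1 x.2]

theorem om_skew (hB : SymN B) (x y : Y × Y) : om B y x = - om B x y := by
  simp [om, hB.symm y.1 x.2, hB.symm y.2 x.1]

end basic

variable (H : Hyp B M)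
include H

theorem dim3 : 3 ≤ finrank F Y := by rcases H.dim with (h | h) | h <;> omega

theorem InT.conj {u : Y × Y} (h : InT M B u) {g : (Y × Y) ≃ₗ[F] (Y × Y)} (hg : g ∈ M) : InT M B (g u) := by
  intro c
  obtain ⟨t, ht, htx⟩ := h c
  refine ⟨g * t * g⁻¹, mul_mem (mul_mem hg ht) (inv_mem hg), fun x => ?_⟩
  rw [gmul_app, gmul_app, htx, map_add, map_smul, gapp_inv]
  congr 2
  rw [show om B x (g u) = om B (g (g⁻¹ x)) (g u) by rw [gapp_inv], H.pres g hg]

theorem InS.conj {u w : Y × Y} {s : F} (h : InS M B u w s) {g : (Y × Y) ≃ₗ[F] (Y × Y)} (hg : g ∈ M) :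
    InS M B (g u) (g w) s := by
  obtain ⟨t, ht, htx⟩ := h
  refine ⟨g * t * g⁻¹, mul_mem (mul_mem hg ht) (inv_mem hg), fun x => ?_⟩
  rw [gmul_app, gmul_app, htx, map_add, map_add, map_smul, map_smul, gapp_inv]
  have e : ∀ y, om B (g⁻¹ x) y = om B x (g y) := fun y => by rw [← H.pres g hg, gapp_inv]
  rw [e, e]

theorem InT.scale {u : Y × Y} (h : InT M B u) (a : F) : InT M B (a • u) := fun c => by
  obtain ⟨t, ht, htx⟩ := h (c * a * a)
  refine ⟨t, ht, fun x => ?_⟩
  rw [htx, om_smul_right, smul_smul]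
  congr 2
  ring

theorem InT.line {x y : Y × Y} (hx : InT M B x) (hy : InT M B y) (hxy : om B x y ≠ 0) (t : F) :
    InT M B (x + t • y) := by
  obtain ⟨τ, hτ, hτx⟩ := hy (t / om B x y)
  have : τ x = x + t • y := by rw [hτx, div_mul_cancel₀ _ hxy]
  exact this ▸ InT.conj H hx hτ

/-- The image of a pure centre under `SL₂`. -/
theorem InT.pure {y : Y} (hy : InT M B (y, 0)) (a b : F) : InT M B (a • y, b • y) := by
  by_cases ha : a = 0
  · obtain ⟨g, hg, hgx⟩ := H.sl 0 (-1) 1 0 (by ring)
    have h := InT.scale H (InT.conj H hy hg) b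
    simpa [hgx, ha] using h
  · obtain ⟨g, hg, hgx⟩ := H.sl a 0 b a⁻¹ (by rw [mul_inv_cancel₀ ha]; ring)
    have h := InT.conj H hy hg
    simpa [hgx] using h

/-- Anisotropic vectors of equal norm. -/
theorem pure_same {x y : Y} (hx : InT M B (x, 0)) (hxx : B x x ≠ 0) (h : B x x = B y y) : InT M B (y, 0) := by
  obtain ⟨k, hk, hky, -⟩ := witt H.sym hxx h
  obtain ⟨g, hg, hgx⟩ := H.orth k hk
  have h' := InT.conj H hx hg
  rcases hky with e | e
  · simpa [hgx, e] using h'
  · simpa [hgx, e] using InT.scale H h' (-1)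

/-- The squares trick. -/
theorem pure_sing {y s : Y} (hy : InT M B (y, 0)) (hyy : B y y ≠ 0) (hs : B s s = 0) (hys : B y s = 0) :
    InT M B (s, 0) := by
  have hp : InT M B (y + s, 0) := pure_same H hy hyy (by simp [hs, hys, H.sym.symm s y])
  have hm : InT M B (y - s, 0) := pure_same H hy hyy (by simp [hs, hys, H.sym.symm s y])
  intro c
  obtain ⟨t1, h1, e1⟩ := hp (c / 2)
  obtain ⟨t2, h2, e2⟩ := hm (c / 2)
  obtain ⟨t3, h3, e3⟩ := hy (-c)
  refine ⟨t1 * t2 * t3, mul_mem (mul_mem h1 h2) h3, fun x => ?_⟩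
  rw [gmul_app, gmul_app, e3, e2, e1]
  have h2 := H.sym.odd
  ext <;> simp [om] <;> match_scalars <;> field_simp <;> ring

/-- A singular pure centre gives all anisotropic ones. -/
theorem aniso_of_sing {s : Y} (hs0 : s ≠ 0) (hss : B s s = 0) (hs : InT M B (s, 0)) {y : Y} (hy : B y y ≠ 0) :
    InT M B (y, 0) := by
  have hB := H.sym
  obtain ⟨w₀, hw₀⟩ : ∃ w, B s w ≠ 0 := by
    by_contra! h
    exact hs0 (hB.nd s h)
  set w := (B s w₀)⁻¹ • w₀ with hw
  set f := w - (B w w / 2) • s with hf
  have hsw : B s w = 1 := by simp [hw, hw₀]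
  have hsf : B s f = 1 := by simp [hf, hsw, hss]
  have hfs : B f s = 1 := by rw [hB.symm, hsf]
  have hff : B f f = 0 := by
    simp only [hf, map_sub, map_smul, LinearMap.sub_apply, LinearMap.smul_apply, smul_eq_mul, hss, hsw,
      hB.symm w s]
    have := hB.odd
    field_simp
    ring
  have hd : B (s - f) (s - f) ≠ 0 := by
    simp only [map_sub, LinearMap.sub_apply, hss, hsf, hfs, hff]
    intro e
    exact hB.odd (by linear_combination -e)
  obtain ⟨k, hk, hkp⟩ := exists_refl hB hd
  obtain ⟨g, hg, hgx⟩ := H.orth k hkp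
  have hkf : k s = f := by
    have : 2 * B s (s - f) / B (s - f) (s - f) = 1 := by
      rw [div_eq_one_iff_eq hd]
      simp only [map_sub, LinearMap.sub_apply, hss, hsf, hfs, hff]
      ring
    rw [hk, this, one_smul]
    abel
  have hf0 : InT M B (f, 0) := by simpa [hgx, hkf] using InT.conj H hs hg
  set N := B y y with hN
  set t := N / 2 with htd
  have ht : t ≠ 0 := div_ne_zero hy hB.odd
  have h1 : InT M B (s, t • f) := by
    have hp := InT.pure H hf0 0 1
    have := InT.line H hs hp (by simp [om, hsf]) t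
    simpa using this
  obtain ⟨g', hg', hgx'⟩ := H.sl 1 1 0 1 (by ring)
  have h2 : InT M B (s + t • f, t • f) := by simpa [hgx'] using InT.conj H h1 hg'
  have h3 : InT M B (s + t • f, 0) := by
    have hp := InT.pure H hf0 0 1
    have := InT.line H h2 hp (by simp [om, hsf, hff]) (-t)
    simpa using this
  refine pure_same H h3 ?_ ?_ <;>
    simp only [map_add, map_smul, LinearMap.add_apply, LinearMap.smul_apply, smul_eq_mul, hss, hsf, hfs, hff]
  · intro e
    exact ht (mul_left_cancel₀ hB.odd (by linear_combination e))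
  · rw [← hN, htd]
    have := hB.odd
    field_simp
    ring

/-- A pure singular centre gives all transvections. -/
theorem all_of_sing {s : Y} (hs0 : s ≠ 0) (hss : B s s = 0) (hs : InT M B (s, 0)) (u : Y × Y) : InT M B u := by
  have hB := H.sym
  have hpure : ∀ y, InT M B (y, 0) := by
    intro y
    by_cases hy : B y y = 0
    · by_cases hy0 : y = 0
      · intro c
        exact ⟨1, one_mem M, fun x => by simp [hy0, om]⟩
      obtain ⟨z, hyz, hzz⟩ := perp_one hB (dim3 H) hy0
      exact pure_sing H (aniso_of_sing H hs0 hss hs hzz) hzz hy (by rw [hB.symm, hyz])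
    · exact aniso_of_sing H hs0 hss hs hy
  have hmix : ∀ p q, B p q ≠ 0 → InT M B (p, q) := fun p q h => by
    simpa using InT.line H (hpure p) (InT.pure H (hpure q) 0 1) (by simpa [om] using h) 1
  obtain ⟨p, q⟩ := u
  by_cases hq : q = 0
  · rw [hq]; exact hpure p
  by_cases hpq : B p q = 0
  · obtain ⟨y, hy⟩ : ∃ y, B q y ≠ 0 := by
      by_contra! h
      exact hq (hB.nd q h)
    have hyq : B y q ≠ 0 := by rwa [hB.symm]
    simpa using InT.line H (hpure (p - y)) (hmix y q hyq) (by simpa [om, hpq] using hyq) 1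
  · exact hmix p q hpq

/-- A pure anisotropic centre gives all transvections. -/
theorem all_of_aniso {z : Y} (hzz : B z z ≠ 0) (hz : InT M B (z, 0)) (u : Y × Y) : InT M B u := by
  have hB := H.sym
  rcases H.dim with h5 | ⟨h3, hq⟩
  · obtain ⟨s, -, hs0, hss⟩ := exists_iso hB (⊤ : Submodule F Y) (by rw [finrank_top]; omega)
    obtain ⟨x, hx, hxx⟩ : ∃ x, B s x = 0 ∧ B x x ≠ 0 := perp_one hB (dim3 H) hs0
    obtain ⟨y, hy1, hy2, hyy⟩ : ∃ y, B s y = 0 ∧ B x y = 0 ∧ B y y ≠ 0 := by
      by_contra! hcon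
      have h1 := two_mul_le hB (W := LinearMap.ker (B s) ⊓ LinearMap.ker (B x)) (fun y hy => hcon y hy.1 hy.2)
      have h2 := finrank_inf_ker (LinearMap.ker (B s)) (B x)
      have h3 := finrank_ker_le (B s)
      rcases h5 with h5 | ⟨h4, hts⟩
      · omega
      · have := hts _ fun y (hy : y ∈ LinearMap.ker (B s) ⊓ LinearMap.ker (B x)) => hcon y hy.1 hy.2
        omega
    obtain ⟨a, b, hab⟩ := exists_value hB hxx hyy hy2 (B z z)
    have hw : InT M B (a • x + b • y, 0) := pure_same H hz hzz hab.symm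
    refine all_of_sing H hs0 hss (pure_sing H hw (by rwa [hab]) hss ?_) u
    rw [hB.symm]
    simp [hx, hy1]
  · obtain ⟨s, -, hs0, hss⟩ := exists_iso hB (⊤ : Submodule F Y) (by rw [finrank_top]; omega)
    obtain ⟨y₀, hy₀, hy₀y⟩ := perp_one hB (by omega) hs0
    set N := B y₀ y₀ with hN
    set a := B z z with ha
    obtain ⟨β, hβ0, hβ1, hβ2⟩ : ∃ β : F, β ≠ 0 ∧ β ≠ 1 ∧ β ≠ -1 := by
      classical
      by_contra! h
      have h1 : (Finset.univ : Finset F) ⊆ {0, 1, -1} := fun x _ => by
        simp only [Finset.mem_insert, Finset.mem_singleton]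
        by_cases e0 : x = 0
        · exact Or.inl e0
        by_cases e1 : x = 1
        · exact Or.inr (Or.inl e1)
        exact Or.inr (Or.inr (h x e0 e1))
      have h2 := Finset.card_le_card h1
      rw [Finset.card_univ] at h2
      have h3' : ({0, 1, -1} : Finset F).card ≤ 3 := Finset.card_le_three
      omega
    obtain ⟨w, hzw, hww⟩ := value_perp hB (by omega : 3 ≤ finrank F Y) hzz (a * (1 - β * β))
    have hwz : B w z = 0 := by rw [hB.symm, hzw]
    have hw0 : B w w ≠ 0 := by
      rw [hww]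
      refine mul_ne_zero hzz fun e => ?_
      rcases mul_eq_zero.1 (show (1 - β) * (1 + β) = 0 by linear_combination e) with h | h
      · exact hβ1 (sub_eq_zero.1 h).symm
      · exact hβ2 (eq_neg_of_add_eq_zero_right h)
    set x₂ := β • z + w with hx₂
    have h22 : B x₂ x₂ = a := by
      simp only [hx₂, map_add, map_smul, LinearMap.add_apply, LinearMap.smul_apply, smul_eq_mul, hzw, hwz, ← ha,
        hww]
      ring
    have h12 : B z x₂ = β * a := by simp [hx₂, hzw, ← ha]
    have h21 : B x₂ z = β * a := by rw [hB.symm, h12]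
    have hz2 : InT M B (x₂, 0) := pure_same H hz hzz h22.symm
    -- the line through two centres
    have hsum : ∀ (x x' : Y) (r : F), InT M B (x, 0) → InT M B (x', 0) → B x x' ≠ 0 → B (x + r • x') x' ≠ 0 →
        InT M B (x + r • x', 0) := by
      intro x x' r hx hx' h1 h2
      have e1 : InT M B (x, r • x') := by
        simpa using InT.line H hx (InT.pure H hx' 0 1) (by simpa [om] using h1) r
      obtain ⟨g', hg', hgx'⟩ := H.sl 1 1 0 1 (by ring)
      have e2 : InT M B (x + r • x', r • x') := by simpa [hgx'] using InT.conj H e1 hg'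
      simpa using InT.line H e2 (InT.pure H hx' 0 1) (by simpa [om] using h2) (-r)
    obtain ⟨α, δ, hαδ⟩ := exists_value hB hzz hw0 hzw N
    set y := α • z + δ • w with hy
    have hyy : B y y ≠ 0 := by rwa [hαδ]
    have hyD : InT M B (y, 0) := by
      set γ := α - δ * β
      have hy' : y = γ • z + δ • x₂ := by rw [hy, hx₂]; module
      by_cases hδ : δ = 0
      · rw [hy, hδ, zero_smul, add_zero]
        simpa using InT.scale H hz α
      by_cases hγ : γ = 0
      · rw [hy', hγ, zero_smul, zero_add]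
        simpa using InT.scale H hz2 δ
      by_cases he : B (z + (δ / γ) • x₂) x₂ = 0
      · have he' : B (x₂ + (γ / δ) • z) z ≠ 0 := by
          intro e
          apply hyy
          rw [hy']
          simp only [map_add, map_smul, LinearMap.add_apply, LinearMap.smul_apply, smul_eq_mul, h12, h21, h22,
            ← ha] at he e ⊢
          field_simp at he e
          linear_combination γ * e + δ * he
        have h := InT.scale H (hsum x₂ z _ hz2 hz (by rw [h21]; exact mul_ne_zero hβ0 hzz) he') δ
        rw [hy', show γ • z + δ • x₂ = δ • (x₂ + (γ / δ) • z) by match_scalars <;> field_simp <;> ring]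
        simpa using h
      · have h := InT.scale H (hsum z x₂ _ hz hz2 (by rw [h12]; exact mul_ne_zero hβ0 hzz) he) γ
        rw [hy', show γ • z + δ • x₂ = γ • (z + (δ / γ) • x₂) by match_scalars <;> field_simp]
        simpa using h
    have hy0 : InT M B (y₀, 0) := pure_same H hyD hyy (by rw [hαδ])
    exact all_of_sing H hs0 hss (pure_sing H hy0 hy₀y hss (by rw [hB.symm, hy₀])) u

/-- Squares of multipliers give all parameters. -/
theorem InS.all {a b : Y} {σ : F} (hσ : σ ≠ 0) (h : InS M B (a, 0) (b, 0) σ) : InK M B a b := by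
  have hsq : ∀ l : F, InS M B (a, 0) (b, 0) (σ * (l * l)) := by
    intro l
    by_cases hl : l = 0
    · exact ⟨1, one_mem M, fun x => by simp [hl]⟩
    obtain ⟨g, hg, hgx⟩ := H.sl l 0 0 l⁻¹ (by rw [mul_inv_cancel₀ hl]; ring)
    obtain ⟨t, ht, htx⟩ := InS.conj H h hg
    refine ⟨t, ht, fun x => ?_⟩
    rw [htx, hgx, hgx]
    ext <;> simp [om] <;> match_scalars <;> ring
  intro s
  obtain ⟨l, r, hlr⟩ := sum_two H.sym hσ hσ s
  obtain ⟨t1, h1, e1⟩ := hsq l
  obtain ⟨t2, h2, e2⟩ := hsq r
  refine ⟨t1 * t2, mul_mem h1 h2, fun x => ?_⟩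
  rw [gmul_app, e2, e1, ← hlr]
  ext <;> simp [om] <;> match_scalars <;> ring

theorem InK.symm {a b : Y} (h : InK M B a b) : InK M B b a := fun s => by
  obtain ⟨t, ht, htx⟩ := h s
  exact ⟨t, ht, fun x => by rw [htx]; abel⟩

theorem InK.add {a b b' : Y} (h : InK M B a b) (h' : InK M B a b') : InK M B a (b + b') := fun s => by
  obtain ⟨t1, h1, e1⟩ := h s
  obtain ⟨t2, h2, e2⟩ := h' s
  refine ⟨t1 * t2, mul_mem h1 h2, fun x => ?_⟩
  rw [gmul_app, e2, e1]
  ext <;> simp [om] <;> match_scalars <;> ring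

theorem InK.smul {a b : Y} (h : InK M B a b) (r : F) : InK M B a (r • b) := fun s => by
  obtain ⟨t, ht, htx⟩ := h (s * r)
  refine ⟨t, ht, fun x => ?_⟩
  rw [htx]
  ext <;> simp [om] <;> match_scalars <;> ring

theorem InK.move {a b : Y} (h : InK M B a b) {k : Y →ₗ[F] Y} (hk : ∀ x y, B (k x) (k y) = B x y) :
    InK M B (k a) (k b) := fun s => by
  obtain ⟨g, hg, hgx⟩ := H.orth k hk
  simpa [hgx] using InS.conj H (h s) hg

/-- A short root pair `z, s` with `s` singular. -/
theorem all_of_K_sing {z s : Y} (hzz : B z z ≠ 0) (hs0 : s ≠ 0) (hss : B s s = 0) (hzs : B z s = 0)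
    (h : InK M B z s) (u : Y × Y) : InT M B u := by
  have hB := H.sym
  have hd : B ((2 : F) • z + s) ((2 : F) • z + s) ≠ 0 := by
    simp only [map_add, map_smul, LinearMap.add_apply, LinearMap.smul_apply, smul_eq_mul, hzs, hB.symm s z, hss]
    intro e
    exact mul_ne_zero (mul_ne_zero hB.odd hB.odd) hzz (by linear_combination e)
  obtain ⟨k, hk, hkp⟩ := exists_refl hB hd
  have hks : k s = s := by simp [hk, hB.symm s z, hzs, hss]
  have hkz : k z = - z - s := by
    have : 2 * B z ((2 : F) • z + s) / B ((2 : F) • z + s) ((2 : F) • z + s) = 1 := by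
      rw [div_eq_one_iff_eq hd]
      simp only [map_add, map_smul, LinearMap.add_apply, LinearMap.smul_apply, smul_eq_mul, hzs, hB.symm s z, hss]
      ring
    rw [hk, this, one_smul]
    module
  have h1 := InK.move H h hkp
  rw [hkz, hks] at h1
  have h2 : InK M B s s := by
    have := InK.smul H (InK.add H (InK.symm H h) (InK.symm H h1)) (-1)
    have e : (-1 : F) • (z + (-z - s)) = s := by module
    rwa [e] at this
  refine all_of_sing H hs0 hss (fun c => ?_) u
  obtain ⟨t, ht, htx⟩ := h2 (c / 2)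
  refine ⟨t, ht, fun x => ?_⟩
  rw [htx]
  have := hB.odd
  match_scalars
  · rfl
  · field_simp; ring

/-- A short root pair of orthogonal anisotropic vectors. -/
theorem all_of_K_aniso {z p : Y} (hzz : B z z ≠ 0) (hpp : B p p ≠ 0) (hzp : B z p = 0) (h : InK M B z p)
    (u : Y × Y) : InT M B u := by
  have hB := H.sym
  -- vectors of the same norm
  have hsame : ∀ {z p p' : Y}, B p p ≠ 0 → B z p = 0 → B z p' = 0 → B p p = B p' p' → InK M B z p →
      InK M B z p' := by
    intro z p p' hpp hzp hzp' e h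
    obtain ⟨k, hk, hkp, hfix⟩ := witt hB hpp e
    have h' := InK.move H h hk
    rw [hfix z hzp hzp'] at h'
    rcases hkp with e' | e'
    · rwa [e'] at h'
    · rw [e'] at h'
      simpa using InK.smul H h' (-1)
  rcases H.dim with h5 | ⟨h3, hq⟩
  · by_cases hiso : ∃ s ∈ LinearMap.ker (B z) ⊓ LinearMap.ker (B p), s ≠ 0 ∧ B s s = 0
    swap
    · -- the orthogonal plane is anisotropic
      have hE : ∀ e, B z e = 0 → B p e = 0 → B e e = 0 → e = 0 := fun e h1 h2 h3 =>
        by_contra fun he => hiso ⟨e, ⟨h1, h2⟩, he, h3⟩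
      obtain ⟨p₁, z1, p1, h11⟩ := exists_third hB (dim3 H) hzz hpp hzp
      have hall : ∀ e, B z e = 0 → B p e = 0 → InK M B z e := by
        intro e ez ep
        obtain ⟨e₁, e₁k, e₁0⟩ : ∃ e₁ ∈ LinearMap.ker (B z) ⊓ LinearMap.ker (B p) ⊓ LinearMap.ker (B p₁), e₁ ≠ 0 :=
          (Submodule.ne_bot_iff _).1 fun hbot => by
            have h1 := finrank_inf_ker (LinearMap.ker (B z) ⊓ LinearMap.ker (B p)) (B p₁)
            have h2 := finrank_inf_ker (LinearMap.ker (B z)) (B p)
            have h3 := finrank_ker_le (B z)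
            rw [hbot, finrank_bot] at h1
            omega
        have z2 : B z e₁ = 0 := e₁k.1.1
        have p2 : B p e₁ = 0 := e₁k.1.2
        have p12 : B p₁ e₁ = 0 := e₁k.2
        have h22 : B e₁ e₁ ≠ 0 := fun h0 => e₁0 (hE e₁ z2 p2 h0)
        obtain ⟨s, t, hst⟩ := exists_value hB h11 h22 p12 (B p p)
        set y₁ := s • p₁ + t • e₁
        have y1z : B z y₁ = 0 := by simp [y₁, z1, z2]
        have y1p : B p y₁ = 0 := by simp [y₁, p1, p2]
        have hy₁ : InK M B z y₁ := hsame hpp hzp y1z hst.symm h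
        set y₂ := (-(t * B e₁ e₁)) • p₁ + (s * B p₁ p₁) • e₁
        have y2z : B z y₂ = 0 := by simp [y₂, z1, z2]
        have y2p : B p y₂ = 0 := by simp [y₂, p1, p2]
        have y12 : B y₁ y₂ = 0 := by
          simp [y₁, y₂, p12, hB.symm e₁ p₁]
          ring
        set a := B p p with ha
        set b := B y₂ y₂ with hb
        have hy22 : b ≠ 0 := fun hb0 => by
          have h0 := hE y₂ y2z y2p hb0
          have e1 := congrArg (B p₁) h0
          have e2 := congrArg (B e₁) h0
          simp [y₂, p12, hB.symm e₁ p₁, h11, h22] at e1 e2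
          apply hpp
          rw [← hst]
          simp [y₁, e1, e2]
        have hsum : a + b ≠ 0 := fun h0 => by
          have h1 := hE (y₁ + y₂) (by simp [y1z, y2z]) (by simp [y1p, y2p]) (by
            simp [y12, hB.symm y₂ y₁, ← hb]
            linear_combination h0 + hst)
          have h2 := congrArg (B y₂) h1
          simp [hB.symm y₂ y₁, y12, ← hb, hy22] at h2
        set D := a + b with hD
        set u₁ := (a - b) / D with hu₁
        set u₂ := 2 * a / D with hu₂
        have hu0 : u₂ ≠ 0 := div_ne_zero (mul_ne_zero hB.odd hpp) hsum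
        have hy₂ : InK M B z y₂ := by
          have h' : InK M B z (u₁ • y₁ + u₂ • y₂) := hsame hpp hzp (by simp [y1z, y2z]) (by
            simp only [map_add, map_smul, LinearMap.add_apply, LinearMap.smul_apply, smul_eq_mul, y12,
              hB.symm y₂ y₁, ← hb, hst, hu₁, hu₂]
            field_simp
            rw [hD]
            ring) h
          have := InK.smul H (InK.add H h' (InK.smul H hy₁ (-u₁))) u₂⁻¹
          rwa [show u₂⁻¹ • (u₁ • y₁ + u₂ • y₂ + (-u₁) • y₁) = y₂ by
            rw [neg_smul, ← sub_eq_add_neg, add_sub_cancel_left, inv_smul_smul₀ hu0]] at this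
        set w := e - (B y₁ e / a) • y₁ - (B y₂ e / b) • y₂ with hw
        have hw0 : w = 0 := by
          by_contra hw0
          have w1 : B z w = 0 := by simp [hw, ez, y1z, y2z]
          have w2 : B p w = 0 := by simp [hw, ep, y1p, y2p]
          have w3 : B y₁ w = 0 := by simp [hw, y12, hst, div_mul_cancel₀ _ hpp]
          have w4 : B y₂ w = 0 := by simp [hw, hB.symm y₂ y₁, y12, ← hb, div_mul_cancel₀ _ hy22]
          have hww : B w w ≠ 0 := fun h0 => hw0 (hE w w1 w2 h0)
          have hz0 : B z p = 0 := hzp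
          have hli : LinearIndependent F ![z, p, y₁, y₂, w] := by
            rw [Fintype.linearIndependent_iff]
            intro g hg i
            simp only [Fin.sum_univ_five, Matrix.cons_val_zero, Matrix.cons_val_one, Matrix.cons_val] at hg
            have e1 := congrArg (B z) hg
            have e2 := congrArg (B p) hg
            have e3 := congrArg (B y₁) hg
            have e4 := congrArg (B y₂) hg
            have e5 := congrArg (B w) hg
            simp [hzp, y1z, y2z, w1, hzz] at e1
            simp [hB.symm p z, hzp, y1p, y2p, w2, ← ha, hpp] at e2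
            simp [hB.symm y₁ z, y1z, hB.symm y₁ p, y1p, y12, w3, hst, hpp] at e3
            simp [hB.symm y₂ z, y2z, hB.symm y₂ p, y2p, hB.symm y₂ y₁, y12, w4, ← hb, hy22] at e4
            simp [hB.symm w z, w1, hB.symm w p, w2, hB.symm w y₁, w3, hB.symm w y₂, w4, hww] at e5
            fin_cases i <;> assumption
          have h5' := hli.fintype_card_le_finrank
          rw [Fintype.card_fin] at h5'
          rcases h5 with h5 | ⟨h4, -⟩
          · obtain ⟨q, hq, hq0, hqq⟩ := exists_iso hB (LinearMap.ker (B z) ⊓ LinearMap.ker (B p)) (by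
              have h1 := finrank_inf_ker (LinearMap.ker (B z)) (B p)
              have h2 := finrank_ker_le (B z)
              omega)
            exact hiso ⟨q, hq, hq0, hqq⟩
          · omega
        rw [show e = (B y₁ e / a) • y₁ + (B y₂ e / b) • y₂ by
          rw [← sub_eq_zero, ← hw0, hw]; abel]
        exact InK.add H (InK.smul H hy₁ _) (InK.smul H hy₂ _)
      obtain ⟨f, hzf, hfp, hff⟩ : ∃ f, B z f = 0 ∧ B p f = 0 ∧ B f f = -(B p p) := by
        obtain ⟨f', fk, f0⟩ : ∃ f' ∈ LinearMap.ker (B z) ⊓ LinearMap.ker (B p) ⊓ LinearMap.ker (B p₁), f' ≠ 0 :=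
          (Submodule.ne_bot_iff _).1 fun hbot => by
            have h1 := finrank_inf_ker (LinearMap.ker (B z) ⊓ LinearMap.ker (B p)) (B p₁)
            have h2 := finrank_inf_ker (LinearMap.ker (B z)) (B p)
            have h3 := finrank_ker_le (B z)
            rw [hbot, finrank_bot] at h1
            omega
        obtain ⟨s, t, hst⟩ := exists_value hB h11 (fun h0 => f0 (hE f' fk.1.1 fk.1.2 h0)) fk.2 (-(B p p))
        exact ⟨s • p₁ + t • f', by simp [z1, show B z f' = 0 from fk.1.1], by simp [p1, show B p f' = 0 from fk.1.2], hst⟩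
      refine all_of_K_sing H hzz (s := p + f) (fun h0 => hpp ?_) ?_ (by simp [hzp, hzf]) (InK.add H h (hall f hzf hfp)) u
      · simpa [hfp] using congrArg (B p) h0
      · simp [hfp, hff, hB.symm f p]
    obtain ⟨s, hs, hs0, hss⟩ := hiso
    have h1 : B z s = 0 := hs.1
    have h2 : B p s = 0 := hs.2
    have hps : InK M B z (p + s) := hsame hpp hzp (by simp [hzp, h1]) (by simp [hss, h2, hB.symm s p]) h
    have := InK.add H hps (InK.smul H h (-1))
    rw [show p + s + (-1 : F) • p = s by module] at this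
    exact all_of_K_sing H hzz hs0 hss h1 this u
  · -- every vector orthogonal to `z`
    have hwhole : ∀ {z p : Y}, B z z ≠ 0 → B p p ≠ 0 → B z p = 0 → InK M B z p → ∀ y, B z y = 0 → InK M B z y := by
      intro z p hzz hpp hzp h y hy
      obtain ⟨p₂, h12, hp2, h22⟩ := exists_third hB (by omega) hzz hpp hzp
      set a := B p p with ha
      set b := B p₂ p₂ with hb
      obtain ⟨m, hm0, hm1⟩ : ∃ m : F, m ≠ 0 ∧ a + b * (m * m) ≠ 0 := by
        classical
        by_contra! hcon
        have e1 := hcon 1 one_ne_zero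
        have hall : ∀ x : F, x ≠ 0 → x = 1 ∨ x = -1 := fun x hx => mul_self_eq_one_iff.1
          (mul_left_cancel₀ h22 (by linear_combination (hcon x hx) - e1))
        have h1 : (Finset.univ : Finset F) ⊆ {0, 1, -1} := fun x _ => by
          simp only [Finset.mem_insert, Finset.mem_singleton]
          by_cases e0 : x = 0
          · exact Or.inl e0
          · exact Or.inr (hall x e0)
        have h2 := Finset.card_le_card h1
        rw [Finset.card_univ] at h2
        have h3' : ({0, 1, -1} : Finset F).card ≤ 3 := Finset.card_le_three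
        omega
      set D := a + b * (m * m) with hD
      set t := 2 * a * m / D with ht
      set x := (a - b * (m * m)) / D with hx
      have ht0 : t ≠ 0 := div_ne_zero (mul_ne_zero (mul_ne_zero hB.odd hpp) hm0) hm1
      have hnorm : B (x • p + t • p₂) (x • p + t • p₂) = a := by
        simp only [map_add, map_smul, LinearMap.add_apply, LinearMap.smul_apply, smul_eq_mul, hp2, hB.symm p₂ p,
          ← ha, ← hb, hx, ht]
        field_simp
        rw [hD]
        ring
      have h2' : InK M B z (x • p + t • p₂) := hsame hpp hzp (by simp [hzp, h12]) hnorm.symm h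
      have hK2 : InK M B z p₂ := by
        have := InK.smul H (InK.add H h2' (InK.smul H h (-x))) t⁻¹
        rwa [show t⁻¹ • (x • p + t • p₂ + (-x) • p) = p₂ by
          rw [neg_smul, ← sub_eq_add_neg, add_sub_cancel_left, inv_smul_smul₀ ht0]] at this
      -- the three vectors span
      set w := y - (B p y / a) • p - (B p₂ y / b) • p₂ with hw
      have w1 : B z w = 0 := by simp [hw, hy, hzp, h12]
      have w2 : B p w = 0 := by simp [hw, hp2, ← ha, div_mul_cancel₀ _ hpp]
      have w3 : B p₂ w = 0 := by simp [hw, hB.symm p₂ p, hp2, ← hb, div_mul_cancel₀ _ h22]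
      have hli : LinearIndependent F ![z, p, p₂] := by
        rw [Fintype.linearIndependent_iff]
        intro g hg i
        simp only [Fin.sum_univ_three, Matrix.cons_val_zero, Matrix.cons_val_one, Matrix.cons_val] at hg
        have e1 := congrArg (B z) hg
        have e2 := congrArg (B p) hg
        have e3 := congrArg (B p₂) hg
        simp [hzp, h12] at e1
        simp [hB.symm p z, hzp, hp2] at e2
        simp [hB.symm p₂ z, h12, hB.symm p₂ p, hp2] at e3
        fin_cases i
        · exact e1.resolve_right hzz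
        · exact e2.resolve_right hpp
        · exact e3.resolve_right h22
      have htop := hli.span_eq_top_of_card_eq_finrank (by rw [Fintype.card_fin, h3])
      have hw0 : w = 0 := hB.nd w fun v => by
        have hv : v ∈ Submodule.span F (Set.range ![z, p, p₂]) := htop ▸ Submodule.mem_top
        obtain ⟨c, rfl⟩ := (Submodule.mem_span_range_iff_exists_fun F).1 hv
        simp [Fin.sum_univ_three, hB.symm w z, hB.symm w p, hB.symm w p₂, w1, w2, w3]
      have := InK.add H (InK.smul H h (B p y / a)) (InK.smul H hK2 (B p₂ y / b))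
      rwa [show (B p y / a) • p + (B p₂ y / b) • p₂ = y by
        rw [← sub_eq_zero, ← neg_eq_zero, ← hw0, hw]; abel] at this
    obtain ⟨s, -, hs0, hss⟩ := exists_iso hB (⊤ : Submodule F Y) (by rw [finrank_top]; omega)
    obtain ⟨y₀, hy₀, hy₀y⟩ := perp_one hB (by omega) hs0
    obtain ⟨p₂, h12, hp2, h22⟩ := exists_third hB (by omega) hzz hpp hzp
    obtain ⟨α, δ, hαδ⟩ := exists_value hB hpp h22 hp2 (B y₀ y₀)
    set y := α • p + δ • p₂ with hy
    have hzy : B z y = 0 := by simp [hy, hzp, h12]
    have hyy : B y y ≠ 0 := by rwa [hαδ]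
    have hyz : B y z = 0 := by rw [hB.symm, hzy]
    have hKy : InK M B y z := InK.symm H (hwhole hzz hpp hzp h y hzy)
    obtain ⟨k, hk, hky, -⟩ := witt hB hy₀y hαδ.symm
    have hys : B y (k s) = 0 := by
      have e := hk y₀ s
      rw [hB.symm y₀ s, hy₀] at e
      rcases hky with e' | e' <;> simpa [e'] using e
    refine all_of_K_sing H hyy ?_ (by rw [hk, hss]) hys (hwhole hyy hzz hyz hKy (k s) hys) u
    intro e
    exact hs0 (hB.nd s fun v => by rw [← hk, e, map_zero, LinearMap.zero_apply])

/-- A short root element at a ruler gives all transvections. -/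
theorem all_of_S {z p q : Y} (hzz : B z z ≠ 0) (hzp : B z p = 0) (hzq : B z q = 0) (hne : ¬(p = 0 ∧ q = 0))
    {σ : F} (hσ : σ ≠ 0) (h : InS M B (z, 0) (p, q) σ) (u : Y × Y) : InT M B u := by
  have hB := H.sym
  by_cases hq : q = 0
  · subst hq
    have hK : InK M B z p := InS.all H hσ h
    by_cases hpp : B p p = 0
    · exact all_of_K_sing H hzz (fun e => hne ⟨e, rfl⟩) hpp hzp hK u
    · exact all_of_K_aniso H hzz hpp hzp hK u
  · -- an isometry fixing `z` and moving `q`
    obtain ⟨k, hk, hkz, hkq⟩ : ∃ k : Y →ₗ[F] Y, (∀ x y, B (k x) (k y) = B x y) ∧ k z = z ∧ B q (k q) ≠ 0 := by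
      by_cases hqq : B q q = 0
      · obtain ⟨v, hv⟩ : ∃ v, B q v ≠ 0 := by
          by_contra! h'
          exact hq (hB.nd q h')
        set v' := v - (B z v / B z z) • z with hv'
        have h1 : B z v' = 0 := by simp [hv', div_mul_cancel₀ _ hzz]
        have h2 : B q v' ≠ 0 := by simpa [hv', hB.symm q z, hzq] using hv
        obtain ⟨w, hw, hww⟩ : ∃ w, (B z w = 0 ∧ B q w ≠ 0) ∧ B w w ≠ 0 := by
          by_cases h3 : B v' v' = 0
          · refine ⟨v' + q, ⟨by simp [h1, hzq], by simpa [hqq] using h2⟩, ?_⟩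
            simp only [map_add, LinearMap.add_apply, h3, hqq, hB.symm v' q, zero_add, add_zero, ← two_mul]
            exact mul_ne_zero hB.odd h2
          · exact ⟨v', ⟨h1, h2⟩, h3⟩
        obtain ⟨k, hk, hkp⟩ := exists_refl hB hww
        refine ⟨k, hkp, by simp [hk, hw.1], ?_⟩
        rw [hk, map_sub, map_smul, hqq, zero_sub, smul_eq_mul, neg_ne_zero]
        exact mul_ne_zero (div_ne_zero (mul_ne_zero hB.odd hw.2) hww) hw.2
      · exact ⟨LinearMap.id, fun _ _ => rfl, rfl, by simpa using hqq⟩
    refine all_of_aniso H hzz (fun c => ?_) u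
    by_cases hc : c = 0
    · exact ⟨1, one_mem M, fun x => by simp [hc]⟩
    -- choose the shear
    set e := c / (2 * σ * σ) with he
    set r := (B (k p) q - B (k q) p - e) / (-(B (k q) q)) with hr
    obtain ⟨g1, hg1, e1⟩ := H.orth k hk
    obtain ⟨g2, hg2, e2⟩ := H.sl 1 r 0 1 (by ring)
    have hgg : g2 * g1 ∈ M := mul_mem hg2 hg1
    have hgz : (g2 * g1) (z, 0) = (z, 0) := by rw [gmul_app, e1, e2]; simp [hkz]
    set p' := k p + r • k q with hp'
    set q' := k q with hq'
    have hgw : (g2 * g1) (p, q) = (p', q') := by rw [gmul_app, e1, e2]; simp [hp', hq']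
    have hS2 := InS.conj H h hgg
    rw [hgz, hgw] at hS2
    obtain ⟨t1, ht1, f1⟩ := h
    obtain ⟨t2, ht2, f2⟩ := hS2
    have i1 : om B (z, 0) (p, q) = 0 := by simp [om, hzq]
    have hzq' : B z q' = 0 := by rw [hq', ← hkz, hk, hzq]
    have i2 : om B (z, 0) (p', q') = 0 := by simp [om, hzq']
    have i3 : om B (p', q') (p, q) = e := by
      have hne' : B q' q ≠ 0 := by rw [hq', hB.symm]; exact hkq
      simp only [om, hp', map_add, map_smul, LinearMap.add_apply, LinearMap.smul_apply, smul_eq_mul, ← hq']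
      rw [hr]
      field_simp
      ring
    have inv : ∀ (t : (Y × Y) ≃ₗ[F] (Y × Y)) (a b : Y × Y), om B a b = 0 →
        (∀ x, t x = x + (σ * om B x a) • b + (σ * om B x b) • a) →
        ∀ x, t⁻¹ x = x - (σ * om B x a) • b - (σ * om B x b) • a := by
      intro t a b hab ht x
      apply t.injective
      rw [gapp_inv, ht]
      simp only [om_sub_left, om_smul_left, hab, om_skew hB a b, om_self hB, neg_zero, mul_zero, sub_zero]
      abel
    refine ⟨t1 * t2 * t1⁻¹ * t2⁻¹, mul_mem (mul_mem (mul_mem ht1 ht2) (inv_mem ht1)) (inv_mem ht2), fun x => ?_⟩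
    rw [gmul_app, gmul_app, gmul_app, inv t2 _ _ i2 f2, inv t1 _ _ i1 f1, f2, f1]
    simp only [om_add_left, om_sub_left, om_smul_left, i1, i2, i3, om_self hB, om_skew hB (z, (0 : Y)) (p, q),
      om_skew hB (z, (0 : Y)) (p', q'), om_skew hB (p', q') (p, q), neg_zero, mul_zero, add_zero, sub_zero, zero_add]
    have h2 := hB.odd
    rw [he]
    match_scalars <;> field_simp <;> ring

end Cfsg.Agent.TensorSO97
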