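import Cfsg.Prelude.Def_GeometricClasses
import Cfsg.Agent.Lib.TensorMaxSympCtx
import Cfsg.Agent.Lib.TensorMaxRuler
import Cfsg.Agent.Lib.TransvectionMax
import Cfsg.Agent.Lib.QuadClassify

/-!
A subgroup containing the isometries in a tensor product `Y ⊗ U` of a symmetric and a symplectic space: the roots
`1 + J_u A P_u`, and the full isometry group as soon as one of them has a non-scalar `A`.
-/

set_option autoImplicit false
set_option linter.unusedSectionVars false
set_option maxHeartbeats 400000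

namespace Cfsg.Agent.TensorSp44

open scoped Matrix MatrixGroups Kronecker
open Cfsg.Agent.TensorMax
open Cfsg.Agent.TransvectionMax

variable {F : Type*} [Field F] {n l : ℕ}

/-- The coordinates of `Y ⊗ U`. -/
abbrev Sp (F : Type*) (l n : ℕ) := Fin l × Fin n → F

/-- The linear map of an invertible matrix. -/
abbrev op (g : GL (Fin l × Fin n) F) : Module.End F (Sp F l n) :=
  Matrix.toLin' (g : Matrix (Fin l × Fin n) (Fin l × Fin n) F)

theorem op_mul (g h : GL (Fin l × Fin n) F) (v : Sp F l n) : op (g * h) v = op g (op h v) := by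
  rw [op, El.lin_mul]; rfl

theorem op_one (v : Sp F l n) : op (1 : GL (Fin l × Fin n) F) v = v := by
  simp [op]

theorem op_inv_app (g : GL (Fin l × Fin n) F) (v : Sp F l n) : op g⁻¹ (op g v) = v := by
  rw [← op_mul, inv_mul_cancel, op_one]

theorem op_app_inv (g : GL (Fin l × Fin n) F) (v : Sp F l n) : op g (op g⁻¹ v) = v := by
  rw [← op_mul, mul_inv_cancel, op_one]

theorem op_kr (γ : GL (Fin l) F) (α : GL (Fin n) F) (y : Fin l → F) (u : Fin n → F) :
    op (kr γ α) (tp y u) =
      tp ((γ : Matrix (Fin l) (Fin l) F) *ᵥ y) ((α : Matrix (Fin n) (Fin n) F) *ᵥ u) := by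
  rw [op, Matrix.toLin'_apply, kr_tp]

theorem op_ext {g h : GL (Fin l × Fin n) F} (e : ∀ v, op g v = op h v) : g = h :=
  TransvectionMax.gl_ext fun u => by simpa [op, Matrix.toLin'_apply] using e u

/-- Linear maps agreeing on pure tensors agree. -/
theorem ext_tp {W : Type*} [AddCommGroup W] [Module F W] {T T' : Sp F l n →ₗ[F] W}
    (e : ∀ y u, T (tp y u) = T' (tp y u)) : T = T' := by
  refine LinearMap.ext fun v => ?_
  rw [tp_decomp v, map_sum, map_sum]
  exact Finset.sum_congr rfl fun i _ => e _ _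

/-- A linear isometry as a matrix. -/
theorem exists_gl {m : ℕ} {b : (Fin m → F) → (Fin m → F) → F} (hb : ∀ x, (∀ y, b x y = 0) → x = 0)
    (hb0 : ∀ y, b 0 y = 0) (T : (Fin m → F) →ₗ[F] (Fin m → F)) (hT : ∀ x y, b (T x) (T y) = b x y) :
    ∃ G : GL (Fin m) F, ∀ x, (G : Matrix (Fin m) (Fin m) F) *ᵥ x = T x := by
  have hdet : (LinearMap.toMatrix' T).det ≠ 0 := by
    intro h0
    obtain ⟨v, hv, hv0⟩ := Matrix.exists_mulVec_eq_zero_iff.mpr h0
    rw [LinearMap.toMatrix'_mulVec] at hv0
    exact hv (hb v fun y => by rw [← hT, hv0, hb0])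
  exact ⟨Matrix.GeneralLinearGroup.mkOfDetNeZero _ hdet, fun x => LinearMap.toMatrix'_mulVec T x⟩

/-- An overgroup of the isometries in the tensor stabiliser. -/
structure Env (B : (Fin l → F) → (Fin l → F) → F) (f : (Fin n → F) → (Fin n → F) → F)
    (M : Subgroup (GL (Fin l × Fin n) F)) : Prop where
  two : (2 : F) ≠ 0
  hB : Cfsg.Geo.IsSymmetricForm B
  hf : Cfsg.Geo.IsSymplecticForm f
  hl : 3 ≤ l
  hn : 4 ≤ n
  cont : ∀ g ∈ Cfsg.Geo.kroneckerSubgroup l n F,
    (∀ v w, tForm (RingHom.id F) B f (op g v) (op g w) = tForm (RingHom.id F) B f v w) → g ∈ M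
  pres : ∀ g ∈ M, ∀ v w, tForm (RingHom.id F) B f (op g v) (op g w) = tForm (RingHom.id F) B f v w

variable {B : (Fin l → F) → (Fin l → F) → F} {f : (Fin n → F) → (Fin n → F) → F}
variable {M : Subgroup (GL (Fin l × Fin n) F)}

/-- A centre of transvections. -/
def Ctr (M : Subgroup (GL (Fin l × Fin n) F)) (B : (Fin l → F) → (Fin l → F) → F)
    (f : (Fin n → F) → (Fin n → F) → F) (c : Sp F l n) : Prop :=
  ∀ s : F, ∃ g ∈ M, ∀ v, op g v = v + (s * tForm (RingHom.id F) B f v c) • c

variable (E : Env B f M)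
include E

theorem Env.sB : SForm (RingHom.id F) 1 B := sform_symm E.hB

theorem Env.sf : SForm (RingHom.id F) (-1) f := sform_symp E.hf

theorem Env.tF_tp (y z : Fin l → F) (u w : Fin n → F) :
    tForm (RingHom.id F) B f (tp y u) (tp z w) = B y z * f u w := tForm_tp E.sf E.sB y z u w

theorem Env.tF_right (v : Sp F l n) (y : Fin l → F) (u : Fin n → F) :
    tForm (RingHom.id F) B f v (tp y u) = B (Pf f l u v) y := tForm_right E.sf E.sB v y u

theorem Env.tF_left (v : Sp F l n) (y : Fin l → F) (u : Fin n → F) :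
    tForm (RingHom.id F) B f (tp y u) v = -tForm (RingHom.id F) B f v (tp y u) := by
  rw [tForm_left E.sf E.sB v y u, RingHom.id_apply]; ring

theorem Env.tF_add_right (v w w' : Sp F l n) : tForm (RingHom.id F) B f v (w + w') =
    tForm (RingHom.id F) B f v w + tForm (RingHom.id F) B f v w' := tForm_add_right v w w'

theorem Env.tF_bilin : Cfsg.Geo.IsBilinearForm (tForm (RingHom.id F) B f) where
  add_left x y v := tForm_add_left x y v
  smul_left c x v := by
    simp only [tForm, Cfsg.Geo.formOfGram, Pi.smul_apply, smul_eq_mul, Finset.mul_sum]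
    exact Finset.sum_congr rfl fun _ _ => Finset.sum_congr rfl fun _ _ => by ring
  add_right v x y := tForm_add_right v x y
  smul_right c v x := by
    simp only [tForm, Cfsg.Geo.formOfGram, Pi.smul_apply, smul_eq_mul, RingHom.id_apply, Finset.mul_sum]
    exact Finset.sum_congr rfl fun _ _ => Finset.sum_congr rfl fun _ _ => by ring

theorem Env.tF_skew (v w : Sp F l n) : tForm (RingHom.id F) B f v w = -tForm (RingHom.id F) B f w v := by
  have hb := E.tF_bilin
  rw [tp_decomp w]
  let L : Sp F l n →ₗ[F] F :=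
    { toFun := fun w => tForm (RingHom.id F) B f v w
      map_add' := hb.add_right v
      map_smul' := fun c w => hb.smul_right c v w }
  let R : Sp F l n →ₗ[F] F :=
    { toFun := fun w => -tForm (RingHom.id F) B f w v
      map_add' := fun a b => by rw [hb.add_left, neg_add]
      map_smul' := fun c w => by rw [hb.smul_left, RingHom.id_apply, smul_eq_mul, mul_neg] }
  exact LinearMap.congr_fun (ext_tp (T := L) (T' := R) fun y u => by
    show tForm (RingHom.id F) B f v (tp y u) = -tForm (RingHom.id F) B f (tp y u) v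
    rw [E.tF_left, neg_neg]) _

theorem Env.tF_symp : Cfsg.Geo.IsSymplecticForm (tForm (RingHom.id F) B f) where
  bilinear := E.tF_bilin
  skew := E.tF_skew
  alternating v := by
    have h : (2 : F) * tForm (RingHom.id F) B f v v = 0 := by linear_combination E.tF_skew v v
    exact (mul_eq_zero.1 h).resolve_left E.two
  nondegenerate := by
    intro v hv
    have key : ∃ w, tForm (RingHom.id F) B f v w ≠ 0 := by
      by_contra hne
      push Not at hne
      refine hv (funext fun p => ?_)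
      have hrow : (fun j => v (p.1, j)) = 0 := E.sf.nd _ fun u => by
        have h : Pf f l u v = 0 := E.sB.nd _ fun y => by rw [← E.tF_right, hne]
        have := congrFun h p.1
        rwa [Pf_apply E.sf] at this
      exact congrFun hrow p.2
    obtain ⟨w, hw⟩ := key
    exact ⟨⟨w, by rw [E.tF_skew, neg_ne_zero]; exact hw⟩, ⟨w, hw⟩⟩

/-- The contraction after an isometry. -/
theorem Env.Pf_inv {g : GL (Fin l × Fin n) F} (hg : g ∈ M) (u : Fin n → F) (v : Sp F l n) (y : Fin l → F) :
    B (Pf f l u (op g⁻¹ v)) y = tForm (RingHom.id F) B f v (op g (tp y u)) := by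
  rw [← E.tF_right, ← E.pres g hg, op_app_inv]

theorem Env.eq_B {x x' : Fin l → F} (h : ∀ y, B x y = B x' y) : x = x' := by
  refine E.sB.eq_of_left fun y => ?_
  rw [E.hB.symm, h, E.hB.symm]

theorem Env.kr_mem {γ : GL (Fin l) F} {α : GL (Fin n) F} (c : F)
    (hγ : ∀ x y, B ((γ : Matrix (Fin l) (Fin l) F) *ᵥ x) ((γ : Matrix (Fin l) (Fin l) F) *ᵥ y) = c * B x y)
    (hα : ∀ x y, c * f ((α : Matrix (Fin n) (Fin n) F) *ᵥ x) ((α : Matrix (Fin n) (Fin n) F) *ᵥ y) = f x y) :
    kr γ α ∈ M := by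
  refine E.cont _ (TensorMax.kr_mem _ _) fun v w => ?_
  have hb := E.tF_bilin
  let L : Sp F l n →ₗ[F] Sp F l n →ₗ[F] F := LinearMap.mk₂ F (tForm (RingHom.id F) B f) hb.add_left
    (fun c x y => hb.smul_left c x y) hb.add_right (fun c x y => hb.smul_right c x y)
  have h : L.compl₁₂ (op (kr γ α)) (op (kr γ α)) = L := ext_tp fun y u => ext_tp fun z w => by
    show tForm (RingHom.id F) B f (op (kr γ α) (tp y u)) (op (kr γ α) (tp z w)) = tForm (RingHom.id F) B f (tp y u) (tp z w)
    rw [op_kr, op_kr, E.tF_tp, E.tF_tp, hγ, mul_assoc, mul_left_comm, hα]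
  exact LinearMap.congr_fun (LinearMap.congr_fun h v) w

theorem Env.hst (b : Fin n → F) (z : F) : kr (1 : GL (Fin l) F) (st f b z) ∈ M :=
  E.kr_mem 1 (fun x y => by simp) (fun x y => by rw [one_mul, st_preserves E.hf])

theorem Env.move {a c : Fin n → F} (ha : a ≠ 0) (hc : c ≠ 0) : ∃ β : GL (Fin n) F,
    kr (1 : GL (Fin l) F) β ∈ M ∧
      (∀ x y, f ((β : Matrix (Fin n) (Fin n) F) *ᵥ x) ((β : Matrix (Fin n) (Fin n) F) *ᵥ y) = f x y) ∧
      (β : Matrix (Fin n) (Fin n) F) *ᵥ a = c := move_symp E.hf E.hst ha hc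

/-- The operators `A` whose roots lie in the group. -/
def Env.SA : Submodule F (Module.End F (Fin l → F)) where
  carrier := {A | ∀ u, El M (SOp f u A u)}
  zero_mem' u := by rw [SOp_zero E.sf]; exact El.zero M
  add_mem' {A A'} hA hA' u := by
    rw [SOp_add E.sf]
    exact (hA u).add (hA' u) (by rw [SOp_mul E.sf, E.hf.alternating, zero_smul])
  smul_mem' t A hA u := by
    have hneg : ∀ w, El M (SOp f w (-A) w) := fun w => by
      obtain ⟨g, hg, hgN⟩ := hA w
      refine ⟨g⁻¹, M.inv_mem hg, ?_⟩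
      rw [El.lin_inv g hgN (by rw [SOp_mul E.sf, E.hf.alternating, zero_smul]), sub_eq_add_neg, neg_SOp]
    have h := (hA (((t + 1) / 2) • u)).add (hneg (((t - 1) / 2) • u)) (by
      rw [SOp_mul E.sf, E.hf.bilinear.smul_left, E.hf.bilinear.smul_right, E.hf.alternating]
      simp)
    convert h using 1
    have h2 := E.two
    rw [SOp_smul E.sf, SOp_smul_left E.sf, SOp_smul_right E.sf, SOp_smul_left E.sf, SOp_smul_right E.sf, ← neg_SOp,
      RingHom.id_apply, RingHom.id_apply, smul_smul, smul_smul, smul_neg, ← sub_eq_add_neg, ← sub_smul]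
    congr 1
    field_simp
    ring

theorem Env.mem_SA {A : Module.End F (Fin l → F)} : A ∈ E.SA ↔ ∀ u, El M (SOp f u A u) := Iff.rfl

theorem Env.one_mem : (1 : Module.End F (Fin l → F)) ∈ E.SA := fun u => by
  simpa using el_root E.hf E.hst u 1

/-- A root at one vector gives one at every vector. -/
theorem Env.mem_of_el {A : Module.End F (Fin l → F)} {u : Fin n → F} (hu : u ≠ 0) (h : El M (SOp f u A u)) :
    A ∈ E.SA := by
  intro w
  by_cases hw : w = 0
  · subst hw
    rw [show SOp f 0 A 0 = 0 from LinearMap.ext fun v => by rw [SOp_apply, tp_zero_right]; rfl]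
    exact El.zero M
  obtain ⟨β, hβM, hβ, hβu⟩ := E.move hu hw
  have h' := h.conj hβM
  convert h' using 1
  refine LinearMap.ext fun v => ?_
  show SOp f w A w v = op (kr 1 β) (SOp f u A u (op (kr 1 β)⁻¹ v))
  rw [SOp_apply, SOp_apply, op_kr, Units.val_one, Matrix.one_mulVec, hβu]
  congr 2
  refine E.eq_B fun y => ?_
  rw [E.Pf_inv hβM, op_kr, Units.val_one, Matrix.one_mulVec, hβu, E.tF_right]

/-- The operators are self-adjoint. -/
theorem Env.sym_of_mem {A : Module.End F (Fin l → F)} (hA : A ∈ E.SA) (y z : Fin l → F) :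
    B (A y) z = B y (A z) := by
  obtain ⟨u, u', huu⟩ : ∃ u u', f u u' ≠ 0 := by
    have h0 : (Pi.single ⟨0, by have := E.hn; omega⟩ 1 : Fin n → F) ≠ 0 := by simp
    obtain ⟨-, w, hw⟩ := E.hf.nondegenerate _ h0
    exact ⟨_, w, hw⟩
  obtain ⟨g, hg, hgN⟩ := hA u
  have hb := E.tF_bilin
  have hact : ∀ v, op g v = v + tp (A (Pf f l u v)) u := fun v => by
    rw [op, hgN, LinearMap.add_apply, Module.End.one_apply, SOp_apply]
  have h := E.pres g hg (tp y u') (tp z u')
  rw [hact, hact, hb.add_left, hb.add_right, hb.add_right, E.tF_tp, E.tF_tp, E.tF_tp, E.tF_tp,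
    E.hf.alternating u, E.hf.alternating u', Pf_tp E.sf, Pf_tp E.sf, map_smul, map_smul,
    E.hB.bilinear.smul_left, E.hB.bilinear.smul_right, E.hB.bilinear.smul_left, E.hB.bilinear.smul_right,
    E.hf.skew u' u] at h
  have e : f u u' * f u u' * (B (A y) z - B y (A z)) = 0 := by linear_combination -h
  exact sub_eq_zero.1 ((mul_eq_zero.1 e).resolve_left (mul_ne_zero huu huu))

theorem Env.conj_mem {γ : Module.End F (Fin l → F)} (hγ : ∀ x y, B (γ x) (γ y) = B x y)
    {A : Module.End F (Fin l → F)} (hA : A ∈ E.SA) : ∃ A' ∈ E.SA, ∀ y, A' (γ y) = γ (A y) := by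
  obtain ⟨G, hG⟩ := exists_gl (fun x hx => E.sB.nd x hx) (fun y => E.sB.zero_left y) γ hγ
  have hM : kr G (1 : GL (Fin n) F) ∈ M := E.kr_mem 1 (fun x y => by rw [hG, hG, hγ, one_mul]) (fun x y => by simp)
  refine ⟨Matrix.toLin' (G : Matrix (Fin l) (Fin l) F) * A *
    Matrix.toLin' ((G⁻¹ : GL (Fin l) F) : Matrix (Fin l) (Fin l) F), fun u => ?_, fun y => ?_⟩
  · rw [← TensorMax.Ctx.kr_left_SOp E.sf]
    exact (hA u).conj hM
  · simp only [Module.End.mul_apply, Matrix.toLin'_apply]
    rw [← hG y, TransvectionMax.inv_act_act, hG]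

end Cfsg.Agent.TensorSp44
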