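import Cfsg.Agent.Lib.TensorSp44Rad

/-!
An overgroup in which all roots have scalar operators maps a ruler `Y ⊗ u` to a ruler only through the tensor
stabiliser.
-/

set_option autoImplicit false
set_option linter.unusedSectionVars false
set_option maxHeartbeats 400000

namespace Cfsg.Agent.TensorSp44

open scoped Matrix MatrixGroups Kronecker
open Cfsg.Agent.TensorMax
open Cfsg.Agent.TransvectionMax

variable {F : Type*} [Field F] {n l : ℕ}
variable {B : (Fin l → F) → (Fin l → F) → F} {f : (Fin n → F) → (Fin n → F) → F}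
variable {M : Subgroup (GL (Fin l × Fin n) F)}

/-- An injective endomorphism as a matrix. -/
theorem exists_gl' {m : ℕ} (T : (Fin m → F) →ₗ[F] (Fin m → F)) (hT : ∀ x, T x = 0 → x = 0) :
    ∃ G : GL (Fin m) F, ∀ x, (G : Matrix (Fin m) (Fin m) F) *ᵥ x = T x := by
  have hdet : (LinearMap.toMatrix' T).det ≠ 0 := by
    intro h0
    obtain ⟨v, hv, hv0⟩ := Matrix.exists_mulVec_eq_zero_iff.mpr h0
    rw [LinearMap.toMatrix'_mulVec] at hv0
    exact hv (hT v hv0)
  exact ⟨Matrix.GeneralLinearGroup.mkOfDetNeZero _ hdet, fun x => LinearMap.toMatrix'_mulVec T x⟩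

variable (E : Env B f M)
include E

/-- A ruler fixed up to a similitude: the vectors orthogonal to `u` keep their rulers. -/
theorem Env.ruler_perp (NT : Scal M f) {g : GL (Fin l × Fin n) F} (hg : g ∈ M) {u : Fin n → F} (hu : u ≠ 0)
    {b b' : Module.End F (Fin l → F)} (hJ : ∀ y, op g (tp y u) = tp (b y) u)
    (hb : ∀ x y, B (b x) y = B x (b' y)) {c : F} (hc : c ≠ 0) (hbb : ∀ y, b' (b y) = c • y)
    (hbb' : ∀ y, b (b' y) = c • y) :
    ∀ x, f x u = 0 → ∃ x', f x' u = 0 ∧ ∀ y, op g (tp y x) = tp (b y) x' := by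
  intro x hx
  have hbl := E.tF_bilin
  by_cases hxu : ∃ t : F, x = t • u
  · obtain ⟨t, rfl⟩ := hxu
    exact ⟨t • u, hx, fun y => by rw [tp_smul_right, map_smul, hJ, tp_smul_right]⟩
  push Not at hxu
  obtain ⟨x', hx'u, hall, D, hD⟩ := E.rad_form NT hu (E.rad_conj hg hu hJ hb (E.rad_J hx))
  have hact : ∀ y, op g (tp y x) = tp (c⁻¹ • b y) x' + tp (c⁻¹ • D (b y)) u := by
    intro y
    have h1 := hD (b y)
    simp only [LinearMap.comp_apply, J_apply, hbb, tp_smul_left, map_smul] at h1
    rw [tp_smul_left, tp_smul_left, ← smul_add, ← h1, smul_smul, inv_mul_cancel₀ hc, one_smul]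
  have hx'0 : ∀ t : F, x' ≠ t • u := by
    intro t ht
    obtain ⟨d, hd⟩ := E.exists_dual hu
    let i₀ : Fin l := ⟨0, by have := E.hl; omega⟩
    set y : Fin l → F := Pi.single i₀ 1
    set z := c⁻¹ • (t • b y + D (b y))
    have e : op g (tp y x) = op g (tp (c⁻¹ • b' z) u) := by
      rw [hact, tp_smul_left (c⁻¹) (b' z), map_smul, hJ, hbb', ← tp_smul_left, ht, tp_smul_right, ← tp_smul_left,
        smul_smul c⁻¹ c, inv_mul_cancel₀ hc, one_smul, ← tp_add_left]
      simp only [z, smul_add, smul_smul, mul_comm]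
    have e' := congrArg (op g⁻¹) e
    rw [op_inv_app, op_inv_app] at e'
    have hy : y ≠ 0 := by simp [y]
    have e'' := congrArg (fun v : Sp F l n => fun j => v (i₀, j)) e'
    simp only [tp, y, Pi.single_eq_same, one_mul] at e''
    exact hxu ((c⁻¹ • b' z) i₀) e''
  obtain ⟨D', hD'⟩ : ∃ D' : Module.End F (Fin l → F), ∀ y z, B (D y) z = B y (D' z) := by
    obtain ⟨d, hd⟩ := E.exists_dual hu
    have hP : ∀ v, ∀ y, B (Pf f l u v) y = tForm (RingHom.id F) B f v (tp y u) := fun v y => (E.tF_right v y u).symm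
    let L : (Fin l → F) →ₗ[F] (Fin l → F) →ₗ[F] F :=
      LinearMap.mk₂ F (fun z y => B (D y) z) (fun a b y => E.hB.bilinear.add_right _ a b)
        (fun s a y => E.hB.bilinear.smul_right s _ a)
        (fun z a b => by rw [map_add, E.hB.bilinear.add_left])
        (fun s z a => by rw [map_smul, E.hB.bilinear.smul_left]; rfl)
    let Bm : (Fin l → F) →ₗ[F] (Fin l → F) →ₗ[F] F :=
      LinearMap.mk₂ F B E.hB.bilinear.add_left (fun s a y => E.hB.bilinear.smul_left s a y)
        E.hB.bilinear.add_right (fun s a y => E.hB.bilinear.smul_right s a y)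
    have hinj : Function.Injective Bm := fun a a' h => E.eq_B fun y => LinearMap.congr_fun h y
    obtain ⟨P, hP'⟩ := LinearMap.exists_leftInverse_of_injective Bm (LinearMap.ker_eq_bot.2 hinj)
    have hsurj : Function.Surjective Bm := by
      refine (LinearMap.injective_iff_surjective_of_finrank_eq_finrank ?_).1 hinj
      rw [Module.finrank_linearMap, Module.finrank_self, mul_one]
    refine ⟨P.comp L, fun y z => ?_⟩
    obtain ⟨z', hz'⟩ := hsurj (L z)
    have : P (L z) = z' := by rw [← hz']; exact LinearMap.congr_fun hP' z'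
    rw [LinearMap.comp_apply, this, E.hB.symm y, show B (D y) z = L z y from rfl, ← hz']
    rfl
  -- the conjugate of the root at `x`
  have hPx : ∀ v, Pf f l x (op g⁻¹ v) = c⁻¹ • b' (Pf f l x' v) + c⁻¹ • b' (D' (Pf f l u v)) := fun v => E.eq_B fun y => by
    rw [E.Pf_inv hg, hact, E.tF_add_right, E.tF_right, E.tF_right, E.hB.bilinear.smul_right,
      E.hB.bilinear.smul_right, E.hB.bilinear.add_left, E.hB.bilinear.smul_left, E.hB.bilinear.smul_left]
    congr 1
    · rw [E.hB.symm, hb, E.hB.symm]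
    · rw [E.hB.symm, hD', hb, E.hB.symm]
  have h := (E.el_one x).conj hg
  rw [show op g * SOp f x 1 x * op g⁻¹ =
      rN f u (c⁻¹ • (J x').comp D') (c⁻¹ • D.comp (Pf f l x')) (c⁻¹ • D * D') + c⁻¹ • SOp f x' 1 x' from
    LinearMap.ext fun v => by
      show op g (SOp f x 1 x (op g⁻¹ v)) = _
      simp only [SOp_apply, Module.End.one_apply, hPx, hact, LinearMap.add_apply, rN_apply, LinearMap.smul_apply,
        LinearMap.comp_apply, J_apply, Module.End.mul_apply, map_add, map_smul, hbb', smul_add, smul_smul,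
        tp_add_left, tp_smul_left, inv_mul_cancel₀ hc, mul_one, mul_assoc]
      module] at h
  have hx'el : El M (c⁻¹ • SOp f x' 1 x') := by
    rw [← SOp_smul E.sf]
    exact (E.SA.smul_mem c⁻¹ E.one_mem) x'
  have hrad : Rad M B f u (c⁻¹ • (J x').comp D') := by
    refine ⟨fun y => by rw [LinearMap.smul_apply, LinearMap.comp_apply, J_apply, map_smul, Pf_tp E.sf, hx'u,
      zero_smul, smul_zero], c⁻¹ • D.comp (Pf f l x'), c⁻¹ • D * D', fun v y => ?_, ?_⟩
    · rw [LinearMap.smul_apply, E.hB.bilinear.smul_left, LinearMap.comp_apply, hD', LinearMap.smul_apply,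
        LinearMap.comp_apply, J_apply, hbl.smul_right, E.tF_right]
    · have h' := el_diff h hx'el (by
        refine LinearMap.ext fun v => ?_
        have hxx : f x' x' = 0 := E.hf.alternating x'
        simp [rN_apply, SOp_apply, Pf_tp E.sf, hxx, hx'u, tp_zero_left])
      rwa [add_sub_cancel_right] at h'
  obtain ⟨d, hdu, hx'd⟩ := E.skew_line hx'u hx'0
  obtain ⟨w₀, -, hall', -⟩ := E.rad_form NT hu hrad
  have hDs : ∃ t : F, ∀ y, D y = t • y := by
    refine ⟨c * f w₀ d / f x' d, fun y => E.eq_B fun z => ?_⟩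
    have h1 := hall' d hdu z
    simp only [LinearMap.smul_apply, LinearMap.comp_apply, J_apply, map_smul, Pf_tp E.sf, smul_smul] at h1
    have h2 : D' z = (c * f w₀ d / f x' d) • z := by
      have h3 := congrArg (fun v => (c * (f x' d)⁻¹) • v) h1
      simp only [smul_smul] at h3
      rw [show c * (f x' d)⁻¹ * (c⁻¹ * f x' d) = 1 by field_simp, one_smul] at h3
      rw [h3, div_eq_mul_inv]
      ring_nf
    rw [hD', h2, E.hB.bilinear.smul_left, E.hB.bilinear.smul_right]
  obtain ⟨t, ht⟩ := hDs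
  refine ⟨c⁻¹ • x' + (c⁻¹ * t) • u, by rw [E.hf.bilinear.add_left, E.hf.bilinear.smul_left, E.hf.bilinear.smul_left,
    hx'u, E.hf.alternating, mul_zero, mul_zero, add_zero], fun y => ?_⟩
  rw [hact, ht, tp_add_right, tp_smul_right, tp_smul_right, tp_smul_left, tp_smul_left, tp_smul_left, smul_smul]

/-- The ruler lemma at a fixed ruler. -/
theorem Env.ruler_fix (NT : Scal M f) {g : GL (Fin l × Fin n) F} (hg : g ∈ M) {u : Fin n → F} (hu : u ≠ 0)
    (hR : ∀ y, ∃ z, op g (tp y u) = tp z u) : g ∈ Cfsg.Geo.kroneckerSubgroup l n F := by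
  classical
  have hb := E.hB.bilinear
  have hfb := E.hf.bilinear
  obtain ⟨us, hus⟩ := E.exists_dual hu
  have hus' : f us u = -1 := by rw [E.hf.skew, hus]
  let b : Module.End F (Fin l → F) := -((Pf f l us).comp ((op g).comp (J u)))
  let b' : Module.End F (Fin l → F) := -((Pf f l u).comp ((op g⁻¹).comp (J us)))
  have hJ : ∀ y, op g (tp y u) = tp (-b y) u := fun y => by
    obtain ⟨z, hz⟩ := hR y
    simp only [b, LinearMap.neg_apply, LinearMap.comp_apply, J_apply, hz, Pf_tp E.sf, hus, one_smul, neg_neg]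
  set β : Module.End F (Fin l → F) := -b with hβ
  have hJ' : ∀ y, op g (tp y u) = tp (β y) u := hJ
  have hadj : ∀ x y, B (β x) y = B x (b' y) := by
    intro x y
    have h1 := E.Pf_inv hg u (tp y us) x
    rw [hJ', E.tF_tp, hus'] at h1
    simp only [b', LinearMap.neg_apply, LinearMap.comp_apply, J_apply, TransvectionMax.neg_right hb]
    rw [E.hB.symm x, h1, E.hB.symm]
    ring
  have hP : ∀ v, Pf f l u (op g⁻¹ v) = b' (Pf f l u v) := fun v => E.eq_B fun y => by
    rw [E.Pf_inv hg, hJ', E.tF_right, E.hB.symm, hadj, E.hB.symm]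
  have hN := (E.el_one u).conj hg
  rw [show op g * SOp f u 1 u * op g⁻¹ = SOp f u (β * b') u from LinearMap.ext fun v => by
    show op g (SOp f u 1 u (op g⁻¹ v)) = _
    simp only [SOp_apply, Module.End.one_apply, hP, hJ', Module.End.mul_apply]] at hN
  obtain ⟨c, hc⟩ := NT _ (E.mem_of_el hu hN)
  have hbb' : ∀ y, β (b' y) = c • y := fun y => LinearMap.congr_fun hc y
  have hβinj : Function.Injective β := fun x x' e => by
    have e' : op g (tp x u) = op g (tp x' u) := by rw [hJ', hJ', e]
    have e'' := congrArg (op g⁻¹) e'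
    rw [op_inv_app, op_inv_app] at e''
    exact J_injective hu e''
  have hbb : ∀ y, b' (β y) = c • y := fun y => hβinj (by rw [hbb', map_smul])
  have hc0 : c ≠ 0 := by
    intro hc0
    have hsur := LinearMap.injective_iff_surjective.1 hβinj
    let i₀ : Fin l := ⟨0, by have := E.hl; omega⟩
    have hy : (Pi.single i₀ 1 : Fin l → F) ≠ 0 := by simp
    refine hy (E.sB.nd _ fun z => ?_)
    obtain ⟨z', rfl⟩ := hsur z
    rw [E.hB.symm, hadj]
    have h0 : b' (Pi.single i₀ 1) = 0 := hβinj (by rw [hbb', hc0, zero_smul, map_zero])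
    rw [h0, E.sB.zero_right]
  have hperp := E.ruler_perp NT hg hu hJ' hadj hc0 hbb hbb'
  -- the map on the second factor
  let i₀ : Fin l := ⟨0, by have := E.hl; omega⟩
  obtain ⟨y₀, hy₀⟩ := LinearMap.injective_iff_surjective.1 hβinj (Pi.single i₀ 1)
  let φ : (Fin n → F) →ₗ[F] (Fin n → F) :=
    { toFun := fun x j => op g (tp y₀ x) (i₀, j)
      map_add' := fun x x' => by funext j; rw [tp_add_right, map_add]; rfl
      map_smul' := fun s x => by funext j; rw [tp_smul_right, map_smul]; rfl }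
  have hφ : ∀ x, f x u = 0 → f (φ x) u = 0 ∧ ∀ y, op g (tp y x) = tp (β y) (φ x) := by
    intro x hx
    obtain ⟨x', hx', h⟩ := hperp x hx
    have : φ x = x' := by
      funext j
      show op g (tp y₀ x) (i₀, j) = x' j
      rw [h, hy₀]
      simp [tp]
    rw [this]
    exact ⟨hx', h⟩
  have hφu : φ u = u := by
    funext j
    show op g (tp y₀ u) (i₀, j) = u j
    rw [hJ', hy₀]
    simp [tp]
  have hmult : ∀ x x', f x u = 0 → f x' u = 0 → c * f (φ x) (φ x') = f x x' := by
    intro x x' hx hx'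
    obtain ⟨z, hz⟩ : ∃ z, B (β y₀) z ≠ 0 := by
      by_contra hcon
      push Not at hcon
      have := E.sB.nd _ hcon
      rw [hy₀] at this
      simp at this
    obtain ⟨y, rfl⟩ := LinearMap.injective_iff_surjective.1 hβinj z
    have h := E.pres g hg (tp y₀ x) (tp y x')
    rw [(hφ x hx).2, (hφ x' hx').2, E.tF_tp, E.tF_tp] at h
    have h2 : B (β y₀) (β y) = c * B y₀ y := by rw [hadj, hbb, hb.smul_right]
    rw [h2] at h hz
    have : B y₀ y * (c * f (φ x) (φ x') - f x x') = 0 := by linear_combination h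
    exact sub_eq_zero.1 ((mul_eq_zero.1 this).resolve_left (right_ne_zero_of_mul hz))
  set K : Submodule F (Fin n → F) := LinearMap.ker (TransvectionMax.fLeft hfb u) with hK
  have hKmem : ∀ x, x ∈ K ↔ f x u = 0 := fun x => Iff.rfl
  have hinj : LinearMap.ker (φ.comp K.subtype) = ⊥ := by
    refine LinearMap.ker_eq_bot'.2 fun x hx0 => ?_
    have e := (hφ (x : Fin n → F) x.2).2 y₀
    have hx' : φ (x : Fin n → F) = 0 := hx0
    rw [hx', tp_zero_right] at e
    have e' := congrArg (op g⁻¹) e
    rw [op_inv_app, map_zero] at e'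
    have hy0 : y₀ ≠ 0 := fun e0 => by
      rw [e0, map_zero] at hy₀
      exact absurd hy₀.symm (by simp)
    obtain ⟨i, hi⟩ := Function.ne_iff.1 hy0
    exact Subtype.ext (funext fun j => (mul_eq_zero.1 (congrFun e' (i, j))).resolve_left hi)
  obtain ⟨ψ, hψ⟩ := LinearMap.exists_leftInverse_of_injective (φ.comp K.subtype) hinj
  -- the image of `us`
  let Λ : (Fin n → F) →ₗ[F] F :=
    (c⁻¹ • TransvectionMax.fRight hfb us).comp (K.subtype.comp ψ)
  obtain ⟨a, ha⟩ := TransvectionMax.exists_row hfb E.hf.nondegenerate (fun j => Λ (Pi.single j 1))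
  have hΛ : ∀ x, f (-a) x = Λ x := fun x => by
    rw [TransvectionMax.neg_left hfb, E.hf.skew a x, neg_neg, ← ha]
    rw [show x = ∑ j, x j • (Pi.single j 1 : Fin n → F) from funext fun k => by
      simp [Finset.sum_apply, Pi.single_apply]]
    simp only [map_sum, map_smul, dotProduct, Finset.sum_apply, Pi.smul_apply, smul_eq_mul]
    refine Finset.sum_congr rfl fun j _ => ?_
    simp [Pi.single_apply, mul_comm]
  set v₀ := -a with hv₀
  have hv : ∀ x, f x u = 0 → f v₀ (φ x) = c⁻¹ * f us x := fun x hx => by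
    have h := LinearMap.congr_fun hψ ⟨x, hx⟩
    have h' : ψ (φ x) = ⟨x, hx⟩ := h
    rw [hΛ]
    show (c⁻¹ • TransvectionMax.fRight hfb us) (K.subtype (ψ (φ x))) = _
    rw [h']
    rfl
  -- the similitude
  let Lu : (Fin n → F) →ₗ[F] F := -TransvectionMax.fLeft hfb u
  let T : (Fin n → F) →ₗ[F] (Fin n → F) := φ.comp (LinearMap.id - Lu.smulRight us) + Lu.smulRight v₀
  have hLu : ∀ x, Lu x = -f x u := fun x => rfl
  have hTx : ∀ x, T x = φ (x - (-f x u) • us) + (-f x u) • v₀ := fun x => rfl
  have hKx : ∀ x, f (x - (-f x u) • us) u = 0 := fun x => by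
    rw [TransvectionMax.sub_left hfb, hfb.smul_left, hus']; ring
  have hT : ∀ x y, c * f (T x) (T y) = f x y := by
    intro x y
    set p := x - (-f x u) • us with hp
    set q := y - (-f y u) • us with hq
    have e₁ := hmult p q (hKx x) (hKx y)
    have e₂ := hv q (hKx y)
    have e₃ := hv p (hKx x)
    have e₄ : f (φ p) v₀ = -f v₀ (φ p) := E.hf.skew _ _
    rw [show x = p + (-f x u) • us by rw [hp, sub_add_cancel], show y = q + (-f y u) • us by rw [hq, sub_add_cancel]]
    simp only [hTx, hfb.add_left, hfb.add_right, hfb.smul_left, hfb.smul_right, TransvectionMax.sub_left hfb,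
      TransvectionMax.sub_right hfb, hus', show f p u = 0 from hKx x, show f q u = 0 from hKx y,
      E.hf.alternating, zero_add]
    simp only [neg_mul, mul_neg, neg_neg, mul_one, sub_self, zero_smul, sub_zero, add_sub_cancel_right]
    rw [e₄, e₂, e₃, E.hf.skew p us]
    field_simp
    linear_combination e₁
  obtain ⟨α, hα⟩ := exists_gl' T (fun x hx => E.sf.nd x fun y => by rw [← hT, hx, E.sf.zero_left, mul_zero])
  obtain ⟨G, hG⟩ := exists_gl' β (fun x hx => hβinj (by rw [hx, map_zero]))
  have hh : kr G α ∈ M := E.kr_mem c (fun x y => by rw [hG, hG, hadj, hbb, hb.smul_right])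
    (fun x y => by rw [hα, hα, hT])
  set g₁ := (kr G α)⁻¹ * g with hg₁
  have hg₁M : g₁ ∈ M := M.mul_mem (M.inv_mem hh) hg
  have hfix : ∀ x, f x u = 0 → ∀ y, op g₁ (tp y x) = tp y x := by
    intro x hx y
    have hTx' : T x = φ x := by rw [hTx, hx]; simp
    rw [hg₁, op_mul, (hφ x hx).2, ← hTx', ← hα, ← hG, ← op_kr, op_inv_app]
  -- the rest is a root
  let N : Module.End F (Sp F l n) := op g₁ - 1
  let D : Module.End F (Fin l → F) := -((Pf f l us).comp (N.comp (J us)))
  have hNK : ∀ v, N (v - tp (-Pf f l u v) us) = 0 := by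
    intro v
    set v' := v - tp (-Pf f l u v) us with hv'
    show op g₁ v' - v' = 0
    rw [sub_eq_zero]
    have hrow : ∀ i, f (fun j => v' (i, j)) u = 0 := fun i => by
      have h0 : Pf f l u v' = 0 := by rw [hv', map_sub, Pf_tp E.sf, hus', neg_one_smul, neg_neg, sub_self]
      have := congrFun h0 i
      rwa [Pf_apply E.sf] at this
    conv_rhs => rw [tp_decomp v']
    conv_lhs => rw [tp_decomp v', map_sum]
    exact Finset.sum_congr rfl fun i _ => hfix _ (hrow i) _
  have hrange : ∀ v, N v = tp (Pf f l us (N v)) u := by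
    intro v
    have hd : f u us = 1 := hus
    have h := E.perp_line hd (v := N v) fun w hw => by
      refine E.sB.nd _ fun y => ?_
      rw [← E.tF_right]
      show tForm (RingHom.id F) B f (op g₁ v - v) (tp y w) = 0
      rw [TransvectionMax.sub_left E.tF_bilin, sub_eq_zero]
      calc _ = tForm (RingHom.id F) B f (op g₁ v) (op g₁ (tp y w)) := by rw [hfix w hw]
        _ = _ := E.pres g₁ hg₁M _ _
    exact h
  have hNS : N = SOp f u D u := LinearMap.ext fun v => by
    rw [hrange v, SOp_apply]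
    have : N v = N (tp (-Pf f l u v) us) := by
      rw [← sub_eq_zero, ← map_sub, hNK]
    rw [this, show tp (-Pf f l u v) us = J us (-Pf f l u v) from rfl, map_neg, map_neg, map_neg]
    simp only [D, LinearMap.neg_apply, LinearMap.comp_apply, J_apply]
  have hel : El M (SOp f u D u) := ⟨g₁, hg₁M, by rw [← hNS]; exact (add_sub_cancel 1 (op g₁)).symm⟩
  obtain ⟨s, hs⟩ := NT D (E.mem_of_el hu hel)
  have hfin : g₁ = kr (1 : GL (Fin l) F) (st f u s) := by
    refine op_ext fun v => ?_
    have h1 : op g₁ v = v + N v := by simp [N]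
    have h2 : op (kr (1 : GL (Fin l) F) (st f u s)) = 1 + s • SOp f u 1 u := ext_tp fun y w => by
      rw [op_kr, Units.val_one, Matrix.one_mulVec, st_act E.hf, LinearMap.add_apply, Module.End.one_apply,
        LinearMap.smul_apply, SOp_apply, Pf_tp E.sf, Module.End.one_apply, tp_add_right, tp_smul_right, tp_smul_left,
        smul_smul]
    rw [h1, hNS, hs, h2, SOp_smul E.sf]
    rfl
  have hgeq : g = kr G α * g₁ := by rw [hg₁, mul_inv_cancel_left]
  rw [hgeq, hfin]
  exact Subgroup.mul_mem _ (TensorMax.kr_mem _ _) (TensorMax.kr_mem _ _)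

/-- A ruler is mapped to a ruler only by elements of the tensor stabiliser. -/
theorem Env.ruler (NT : Scal M f) {g : GL (Fin l × Fin n) F} (hg : g ∈ M) {u v : Fin n → F} (hu : u ≠ 0)
    (hv : v ≠ 0) (hR : ∀ y, ∃ z, op g (tp y u) = tp z v) : g ∈ Cfsg.Geo.kroneckerSubgroup l n F := by
  obtain ⟨β, hβM, -, hβv⟩ := E.move hv hu
  have h := E.ruler_fix NT (M.mul_mem hβM hg) hu fun y => by
    obtain ⟨z, hz⟩ := hR y
    exact ⟨z, by rw [op_mul, hz, op_kr, Units.val_one, Matrix.one_mulVec, hβv]⟩
  have := Subgroup.mul_mem _ (Subgroup.inv_mem _ (TensorMax.kr_mem (1 : GL (Fin l) F) β)) h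
  rwa [inv_mul_cancel_left] at this

end Cfsg.Agent.TensorSp44
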