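import Cfsg.Agent.Lib.TensorSp44Trans
import Cfsg.Agent.Lib.TensorSp44Ruler

/-!
An element carrying a root `1 ⊗ transvection` into the tensor stabiliser lies in it.
-/

set_option autoImplicit false
set_option linter.unusedSectionVars false
set_option maxHeartbeats 400000

namespace Cfsg.Agent.TensorSp44

open scoped Matrix MatrixGroups Kronecker
open Cfsg.Agent.TensorMax
open Cfsg.Agent.TransvectionMax

variable {F : Type*} [Field F] [Fintype F] {n l : ℕ}
variable {B : (Fin l → F) → (Fin l → F) → F} {f : (Fin n → F) → (Fin n → F) → F}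
variable {M : Subgroup (GL (Fin l × Fin n) F)}

/-- The root at `u`. -/
noncomputable def rt (l : ℕ) (f : (Fin n → F) → (Fin n → F) → F) (u : Fin n → F) (s : F) :
    GL (Fin l × Fin n) F := kr 1 (st f u s)

/-- The `j`-th column. -/
def col (l : ℕ) (j : Fin n) : Sp F l n →ₗ[F] (Fin l → F) := LinearMap.funLeft F F fun i => (i, j)

theorem col_tp (j : Fin n) (y : Fin l → F) (w : Fin n → F) : col l j (tp y w) = w j • y :=
  funext fun i => by simp [col, LinearMap.funLeft, tp, mul_comm]

/-- The vectors with all columns in `Z`. -/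
def TZ (n : ℕ) (Z : Submodule F (Fin l → F)) : Submodule F (Sp F l n) := ⨅ j, Z.comap (col l j)

theorem mem_TZ {Z : Submodule F (Fin l → F)} {v : Sp F l n} : v ∈ TZ n Z ↔ ∀ j, col l j v ∈ Z := by
  simp [TZ]

theorem finrank_TZ (Z : Submodule F (Fin l → F)) : Module.finrank F (TZ n Z) = n * Module.finrank F Z := by
  let e : TZ n Z ≃ₗ[F] (Fin n → Z) :=
    { toFun := fun v j => ⟨col l j v, mem_TZ.1 v.2 j⟩
      invFun := fun c => ⟨fun p => (c p.2 : Fin l → F) p.1, mem_TZ.2 fun j => (c j).2⟩
      map_add' := fun a b => by funext j; exact Subtype.ext (map_add (col l j) _ _)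
      map_smul' := fun s a => by funext j; exact Subtype.ext (map_smul (col l j) s _)
      left_inv := fun v => Subtype.ext (funext fun p => rfl)
      right_inv := fun c => funext fun j => Subtype.ext (funext fun i => rfl) }
  rw [e.finrank_eq, Module.finrank_pi_fintype]
  simp

theorem TZ_inf (Z Z' : Submodule F (Fin l → F)) : TZ n (Z ⊓ Z') = TZ n Z ⊓ TZ n Z' :=
  SetLike.ext fun v => by
    simp only [Submodule.mem_inf, mem_TZ]
    exact ⟨fun h => ⟨fun j => (h j).1, fun j => (h j).2⟩, fun h j => ⟨h.1 j, h.2 j⟩⟩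

theorem tp_mem_TZ {Z : Submodule F (Fin l → F)} {y : Fin l → F} (hy : y ∈ Z) (w : Fin n → F) :
    tp y w ∈ TZ n Z := mem_TZ.2 fun j => by rw [col_tp]; exact Z.smul_mem _ hy

theorem op_inj (g : GL (Fin l × Fin n) F) : Function.Injective (op g) :=
  Function.LeftInverse.injective (op_inv_app g)

variable (E : Env B f M)
include E

theorem Env.rt_mem (u : Fin n → F) (s : F) : rt l f u s ∈ M := E.hst u s

theorem Env.rt_op (u : Fin n → F) (s : F) (v : Sp F l n) :
    op (rt l f u s) v = v + s • tp (Pf f l u v) u := by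
  have h : op (rt l f u s) = LinearMap.id + s • (J u).comp (Pf f l u) := ext_tp fun y w => by
    rw [rt, op_kr, Units.val_one, Matrix.one_mulVec, st_act E.hf, LinearMap.add_apply, LinearMap.id_apply,
      LinearMap.smul_apply, LinearMap.comp_apply, J_apply, Pf_tp E.sf, tp_add_right, tp_smul_right, tp_smul_left,
      smul_smul]
  exact LinearMap.congr_fun h v

theorem Env.conj_rt (g : GL (Fin l × Fin n) F) (u : Fin n → F) (s : F) (v : Sp F l n) :
    op (g * rt l f u s * g⁻¹) v = v + s • op g (tp (Pf f l u (op g⁻¹ v)) u) := by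
  rw [op_mul, op_mul, E.rt_op, map_add, map_smul, op_app_inv]

theorem Env.range_conj (g : GL (Fin l × Fin n) F) {u : Fin n → F} (hu : u ≠ 0) (y : Fin l → F) :
    ∃ v, op (g * rt l f u 1 * g⁻¹) v - v = op g (tp y u) := by
  obtain ⟨d, hd⟩ := E.exists_dual hu
  refine ⟨op g (tp y (-d)), ?_⟩
  rw [E.conj_rt, op_inv_app, one_smul, add_sub_cancel_left, Pf_tp E.sf, TransvectionMax.neg_left E.hf.bilinear,
    E.hf.skew d u, hd, neg_neg, one_smul]

/-- A conjugate of a root inside the tensor stabiliser. -/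
theorem Env.classify {g : GL (Fin l × Fin n) F} (hg : g ∈ M) {u : Fin n → F} (hu : u ≠ 0)
    (h : g * rt l f u 1 * g⁻¹ ∈ Cfsg.Geo.kroneckerSubgroup l n F) :
    (∃ v : Fin n → F, v ≠ 0 ∧ ∀ y, ∃ z, op g (tp y u) = tp z v) ∨
      ∃ D : Module.End F (Fin l → F), (∀ x, D (D x) = 0) ∧ (∀ x y, B (D x) y = -B x (D y)) ∧
        (∀ y w, op (g * rt l f u 1 * g⁻¹) (tp y w) = tp (y + D y) w) ∧
        (LinearMap.range (J (k := l) u)).map (op g) = TZ n (LinearMap.range D) := by
  classical
  obtain ⟨γ, α, hγα⟩ := exists_kr h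
  set z := g * rt l f u 1 * g⁻¹ with hz
  let N : Sp F l n → Sp F l n := fun v => op g (tp (Pf f l u (op g⁻¹ v)) u)
  have hzN : ∀ v, op z v = v + N v := fun v => by rw [hz, E.conj_rt, one_smul]
  have hNN : ∀ v, op z (op z v) = op z v + (op z v - v) := fun v => by
    rw [hzN (op z v), hzN v, add_sub_cancel_left]
    congr 1
    show op g (tp (Pf f l u (op g⁻¹ (v + N v))) u) = N v
    rw [map_add, map_add]
    show op g (tp (_ + Pf f l u (op g⁻¹ (op g (tp (Pf f l u (op g⁻¹ v)) u)))) u) = N v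
    rw [op_inv_app, Pf_tp E.sf, E.hf.alternating, zero_smul, add_zero]
  set Γ : Module.End F (Fin l → F) := Matrix.toLin' (γ : Matrix (Fin l) (Fin l) F) with hΓ
  set A : Module.End F (Fin n → F) := Matrix.toLin' (α : Matrix (Fin n) (Fin n) F) with hA
  have htp : ∀ y w, op z (tp y w) = tp (Γ y) (A w) := fun y w => by
    rw [hγα, op_kr]
    rfl
  have hΓinj : Function.Injective Γ := by
    intro x y e
    have := congrArg (fun t => ((γ⁻¹ : GL (Fin l) F) : Matrix (Fin l) (Fin l) F) *ᵥ t) e
    simpa [hΓ, Matrix.toLin'_apply, TransvectionMax.inv_act_act] using this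
  have h0l : 0 < l := by have := E.hl; omega
  have h0n : 0 < n := by have := E.hn; omega
  by_cases hA1 : ∀ w, A w ∈ Submodule.span F ({w} : Set (Fin n → F))
  · right
    obtain ⟨a, ha⟩ := LinearMap.exists_eq_smul_id_of_forall_notLinearIndependent (f := A) (fun v hli => by
      obtain ⟨s, hs⟩ := Submodule.mem_span_singleton.1 (hA1 v)
      rw [LinearIndependent.pair_iff] at hli
      have := (hli s (-1) (by rw [hs, neg_one_smul, add_neg_cancel])).2
      exact one_ne_zero (neg_eq_zero.1 this))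
    have hA' : ∀ w, A w = a • w := fun w => by simpa using LinearMap.congr_fun ha w
    set D : Module.End F (Fin l → F) := a • Γ - 1 with hD
    have hDtp : ∀ y w, op z (tp y w) = tp (y + D y) w := fun y w => by
      rw [htp, hA', hD, LinearMap.sub_apply, LinearMap.smul_apply, Module.End.one_apply, add_sub_cancel,
        tp_smul_right, tp_smul_left]
    have hcol : ∀ j v, col l j (op z v) = col l j v + D (col l j v) := fun j v => by
      have h' : (col l j).comp (op z) = col l j + D.comp (col l j) := ext_tp fun y w => by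
        rw [LinearMap.comp_apply, hDtp, LinearMap.add_apply, LinearMap.comp_apply, col_tp, col_tp, map_smul,
          smul_add]
      exact LinearMap.congr_fun h' v
    refine ⟨D, fun x => ?_, fun x y => ?_, hDtp, ?_⟩
    · let j₀ : Fin n := ⟨0, h0n⟩
      have := congrArg (col l j₀) (hNN (tp x (Pi.single j₀ 1)))
      simp only [map_add, map_sub, hcol, col_tp, Pi.single_eq_same, one_smul] at this
      linear_combination (norm := module) this
    · have key : ∀ x y, B (x + D x) (y + D y) = B x y := by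
        intro x y
        obtain ⟨u', w', huw⟩ : ∃ u' w', f u' w' ≠ 0 := by
          obtain ⟨-, w, hw⟩ := E.hf.nondegenerate u hu
          exact ⟨u, w, hw⟩
        have hm : z ∈ M := M.mul_mem (M.mul_mem hg (E.rt_mem u 1)) (M.inv_mem hg)
        have := E.pres z hm (tp x u') (tp y w')
        rw [hDtp, hDtp, E.tF_tp, E.tF_tp] at this
        exact mul_right_cancel₀ huw this
      have hDD : ∀ x, D (D x) = 0 := fun x => by
        let j₀ : Fin n := ⟨0, h0n⟩
        have := congrArg (col l j₀) (hNN (tp x (Pi.single j₀ 1)))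
        simp only [map_add, map_sub, hcol, col_tp, Pi.single_eq_same, one_smul] at this
        linear_combination (norm := module) this
      have hb := E.hB.bilinear
      have k1 := key x y
      have k2 := key x (D y)
      have k3 := key (D x) y
      rw [hb.add_left, hb.add_right, hb.add_right] at k1 k2 k3
      rw [hDD, E.sB.zero_right, E.sB.zero_right] at k2
      linear_combination k1 - k2
    · apply le_antisymm
      · rintro _ ⟨_, ⟨y, rfl⟩, rfl⟩
        obtain ⟨v, hv⟩ := E.range_conj g hu y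
        rw [J_apply, ← hv]
        refine mem_TZ.2 fun j => ?_
        rw [map_sub, ← hz, hcol, add_sub_cancel_left]
        exact LinearMap.mem_range_self D _
      · intro v hv
        choose p hp using fun j => LinearMap.mem_range.1 (mem_TZ.1 hv j)
        let x : Sp F l n := fun q => p q.2 q.1
        have hx : ∀ j, col l j x = p j := fun j => rfl
        refine ⟨tp (Pf f l u (op g⁻¹ x)) u, ⟨_, rfl⟩, ?_⟩
        have e : N x = v := by
          funext q
          obtain ⟨i, j⟩ := q
          have := congrFun (hcol j x) i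
          rw [hzN, map_add, hx, hp] at this
          have := add_left_cancel this
          exact this
        exact e
  · left
    push Not at hA1
    obtain ⟨w, hw⟩ := hA1
    obtain ⟨θ, hθ, hker⟩ := Submodule.exists_le_ker_of_notMem hw
    have hθw : θ w = 0 := LinearMap.mem_ker.1 (hker (Submodule.mem_span_singleton_self w))
    set k := θ (A (A w)) with hk
    have hΓ2 : ∀ y, k • Γ (Γ y) = (2 * θ (A w)) • Γ y := by
      intro y
      funext i
      have h' := hNN (tp y w)
      rw [htp, htp] at h'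
      have hrow : Γ (Γ y) i • A (A w) = Γ y i • A w + (Γ y i • A w - y i • w) := funext fun j => by
        simpa [tp] using congrFun h' (i, j)
      have := congrArg θ hrow
      rw [map_add, map_sub, map_smul, map_smul, map_smul, hθw, ← hk] at this
      simp only [Pi.smul_apply, smul_eq_mul] at this ⊢
      linear_combination this
    have hk0 : k ≠ 0 := by
      intro e
      let i₀ : Fin l := ⟨0, h0l⟩
      have h' := hΓ2 (Pi.single i₀ 1)
      rw [e, zero_smul] at h'
      have h2 : Γ (Pi.single i₀ 1) = 0 := (smul_eq_zero.1 h'.symm).resolve_left (mul_ne_zero E.two hθ)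
      have h3 := hΓinj (h2.trans (map_zero Γ).symm)
      simp at h3
    set c := k⁻¹ * (2 * θ (A w)) with hc
    have hΓc : ∀ y, Γ y = c • y := fun y => hΓinj (by
      rw [map_smul, hc, mul_smul, ← hΓ2, smul_smul, inv_mul_cancel₀ hk0, one_smul])
    have hNtp : ∀ y w', op z (tp y w') - tp y w' = tp y (c • A w' - w') := fun y w' => by
      rw [htp, hΓc, tp_smul_left, sub_eq_add_neg (c • A w'), tp_add_right, tp_smul_right,
        show -w' = (-1 : F) • w' by simp, tp_smul_right, neg_one_smul, sub_eq_add_neg]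
    obtain ⟨w₀, hw₀⟩ : ∃ w₀, c • A w₀ - w₀ ≠ 0 := by
      by_contra hcon
      push Not at hcon
      have h1 : op z = LinearMap.id := ext_tp fun y w' => by
        have := hNtp y w'
        rw [hcon, tp_zero_right, sub_eq_zero] at this
        exact this
      let i₀ : Fin l := ⟨0, h0l⟩
      obtain ⟨v, hv⟩ := E.range_conj g hu (Pi.single i₀ 1)
      rw [← hz, h1, LinearMap.id_apply, sub_self] at hv
      have h2 := op_inj g (hv.symm.trans (map_zero _).symm)
      exact hu (funext fun j => by simpa [tp] using congrFun h2 (i₀, j))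
    set v₀ := c • A w₀ - w₀ with hv₀
    refine ⟨v₀, hw₀, fun y => ?_⟩
    have hle : LinearMap.range (J (k := l) v₀) ≤ (LinearMap.range (J (k := l) u)).map (op g) := by
      rintro _ ⟨y', rfl⟩
      refine ⟨tp (Pf f l u (op g⁻¹ (tp y' w₀))) u, ⟨_, rfl⟩, ?_⟩
      have := hNtp y' w₀
      rw [hzN, add_sub_cancel_left] at this
      exact this
    have heq := Submodule.eq_of_le_of_finrank_eq hle (by
      rw [(Submodule.equivMapOfInjective (op g) (op_inj g) _).symm.finrank_eq,
        LinearMap.finrank_range_of_inj (J_injective hw₀), LinearMap.finrank_range_of_inj (J_injective hu)])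
    have hmem : op g (tp y u) ∈ LinearMap.range (J (k := l) v₀) := by
      rw [heq]
      exact ⟨_, ⟨y, rfl⟩, rfl⟩
    obtain ⟨z', hz'⟩ := hmem
    exact ⟨z', hz'.symm⟩

/-- An element carrying a root into the tensor stabiliser lies in it. -/
theorem Env.hback (NT : Scal M f) {g : GL (Fin l × Fin n) F} (hg : g ∈ M) {u : Fin n → F} (hu : u ≠ 0)
    (h : g * rt l f u 1 * g⁻¹ ∈ Cfsg.Geo.kroneckerSubgroup l n F) :
    g ∈ Cfsg.Geo.kroneckerSubgroup l n F := by
  classical
  rcases E.classify hg hu h with ⟨v, hv, hR⟩ | ⟨D, hDD, hskew, hact, hmap⟩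
  · exact E.ruler NT hg hu hv hR
  exfalso
  have hb := E.hB.bilinear
  have hl := E.hl
  have hn := E.hn
  set Z := LinearMap.range D with hZ
  set r := Module.finrank F Z with hr
  set Ru := LinearMap.range (J (k := l) u) with hRu
  have hRud : Module.finrank F Ru = l := by
    rw [hRu, LinearMap.finrank_range_of_inj (J_injective hu), Module.finrank_fin_fun]
  have hnr : n * r = l := by
    rw [hr, ← finrank_TZ, ← hmap]
    exact (Submodule.equivMapOfInjective (op g) (op_inj g) Ru).symm.finrank_eq.trans hRud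
  have hker : ∀ x, D x = 0 ↔ ∀ y, B x (D y) = 0 := fun x => by
    refine ⟨fun e y => ?_, fun e => E.sB.nd _ fun y => by rw [hskew, e, neg_zero]⟩
    have := hskew x y
    rw [e, E.sB.zero_left] at this
    exact neg_eq_zero.1 this.symm
  have hZK : Z ≤ LinearMap.ker D := by
    rintro _ ⟨x, rfl⟩
    exact hDD x
  have hrk := LinearMap.finrank_range_add_finrank_ker D
  rw [Module.finrank_fin_fun, ← hZ, ← hr] at hrk
  -- the rank is at least two
  have hr2 : 2 ≤ r := by
    by_contra hlt
    have hr1 : r = 1 := by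
      rcases Nat.eq_zero_or_pos r with h0 | h0
      · rw [h0, mul_zero] at hnr; omega
      · omega
    have hxx : ∀ x, B (D x) x = 0 := fun x => by
      have := hskew x x
      rw [E.hB.symm x (D x)] at this
      have e : (2 : F) * B (D x) x = 0 := by linear_combination this
      exact (mul_eq_zero.1 e).resolve_left E.two
    obtain ⟨_, ⟨x, rfl⟩, hx⟩ := Submodule.exists_mem_ne_zero_of_ne_bot (p := Z) (fun e => by
      rw [hr, e, finrank_bot] at hr1; omega)
    obtain ⟨y, hy⟩ : ∃ y, B (D x) y ≠ 0 := by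
      by_contra hcon; push Not at hcon; exact hx (E.sB.nd _ hcon)
    obtain ⟨t, ht⟩ := exists_smul_eq_of_finrank_eq_one (K := F) hr1 (x := (⟨D x, x, rfl⟩ : Z))
      (fun e => hx (congrArg Subtype.val e)) ⟨D y, y, rfl⟩
    have ht' : t • D x = D y := congrArg Subtype.val ht
    have h1 := hxx y
    rw [← ht', hb.smul_left] at h1
    have hDy : D y = 0 := by rw [← ht', (mul_eq_zero.1 h1).resolve_right hy, zero_smul]
    have h2 := hxx (x + y)
    rw [map_add, hDy, add_zero, hb.add_right, hxx, zero_add] at h2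
    exact hy h2
  -- a singular vector orthogonal to `Z` outside it
  obtain ⟨Z', hZ'⟩ := Z.exists_isCompl
  have hW : 3 ≤ Module.finrank F (Z' ⊓ LinearMap.ker D : Submodule F (Fin l → F)) := by
    have h1 := Submodule.finrank_sup_add_finrank_inf_eq Z' (LinearMap.ker D)
    have h2 := Submodule.finrank_le (Z' ⊔ LinearMap.ker D)
    have h3 := Submodule.finrank_add_eq_of_isCompl hZ'
    rw [Module.finrank_fin_fun] at h2 h3
    have : 4 * r ≤ l := by rw [← hnr]; exact Nat.mul_le_mul_right r hn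
    omega
  obtain ⟨e, heW, he0, he⟩ := QuadClassify.exists_singular (LinearMap.BilinMap.toQuadraticMap E.bB) _ hW
  have hee : B e e = 0 := he
  have heZ : e ∉ Z := fun h' => he0 (Submodule.disjoint_def.1 hZ'.disjoint e h' heW.1)
  have heK : D e = 0 := heW.2
  obtain ⟨w, hew, hDw⟩ : ∃ w, B e w = 0 ∧ D w ≠ 0 := by
    by_contra hcon
    push Not at hcon
    have hle : LinearMap.ker (E.bB e) ≤ LinearMap.ker D := fun w hw => hcon w hw
    have h1 := Submodule.finrank_mono hle
    have h2 := LinearMap.finrank_range_add_finrank_ker (E.bB e)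
    have h3 := Submodule.finrank_le (LinearMap.range (E.bB e))
    rw [Module.finrank_fin_fun] at h2
    rw [Module.finrank_self] at h3
    omega
  obtain ⟨G, hG⟩ := exists_gl (fun x hx => E.sB.nd x hx) (fun y => E.sB.zero_left y) (E.sieg e w)
    (E.sieg_iso hee hew)
  have hsZ : ∀ y ∈ Z, E.sieg e w y = y - B y w • e := by
    rintro _ ⟨x, rfl⟩
    have h0 : B (D x) e = 0 := by rw [E.hB.symm]; exact (hker e).1 heK x
    rw [E.sieg_apply, h0, zero_smul, add_zero, mul_zero, add_zero]
  have hsK : ∀ y ∈ Z, D (E.sieg e w y) = 0 := fun y hy => by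
    rw [hsZ y hy, map_sub, map_smul, heK, smul_zero, sub_zero]
    exact hZK hy
  set s := kr G (1 : GL (Fin n) F) with hs
  have hsM : s ∈ M := E.kr_mem 1 (fun x y => by rw [hG, hG, E.sieg_iso hee hew, one_mul]) (fun x y => by simp)
  set g₂ := s * g with hg₂
  have hg₂M : g₂ ∈ M := M.mul_mem hsM hg
  set X := rt l f u 1 with hX
  set y₁ := g * X * g⁻¹ with hy₁
  set y₂ := g₂ * X * g₂⁻¹ with hy₂
  set D₂ : Module.End F (Fin l → F) := Matrix.toLin' (G : Matrix (Fin l) (Fin l) F) * D *
    Matrix.toLin' ((G⁻¹ : GL (Fin l) F) : Matrix (Fin l) (Fin l) F) with hD₂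
  have hact₂ : ∀ y w', op y₂ (tp y w') = tp (y + D₂ y) w' := fun y w' => by
    have e₂ : y₂ = s * y₁ * s⁻¹ := by rw [hy₂, hy₁, hg₂]; group
    rw [e₂, op_mul, op_mul, hs, TensorMax.kr_inv, inv_one, op_kr, Units.val_one, Matrix.one_mulVec, hy₁, hact,
      op_kr, Units.val_one, Matrix.one_mulVec, Matrix.mulVec_add, TransvectionMax.act_inv_act]
    rfl
  have hD₂' : ∀ y, D₂ y = E.sieg e w (D (((G⁻¹ : GL (Fin l) F) : Matrix (Fin l) (Fin l) F) *ᵥ y)) := fun y => by
    rw [hD₂, Module.End.mul_apply, Module.End.mul_apply, Matrix.toLin'_apply, Matrix.toLin'_apply, hG]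
  have hDD₂ : ∀ y, D (D₂ y) = 0 := fun y => by
    rw [hD₂']
    exact hsK _ ⟨_, rfl⟩
  have hD₂D : ∀ y, D₂ (D y) = 0 := fun y => by
    rw [hD₂']
    suffices h0 : D (((G⁻¹ : GL (Fin l) F) : Matrix (Fin l) (Fin l) F) *ᵥ D y) = 0 by rw [h0, map_zero]
    refine (hker _).2 fun x => ?_
    have hgg : E.sieg e w (((G⁻¹ : GL (Fin l) F) : Matrix (Fin l) (Fin l) F) *ᵥ D y) = D y := by
      rw [← hG, TransvectionMax.act_inv_act]
    rw [← E.sieg_iso hee hew, hgg, hskew, hsK _ ⟨x, rfl⟩, E.sB.zero_right, neg_zero]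
  have hcomm : y₁ * y₂ = y₂ * y₁ := by
    refine op_ext fun v => ?_
    have h' : op (y₁ * y₂) = op (y₂ * y₁) := ext_tp fun y w' => by
      rw [op_mul y₁ y₂, op_mul y₂ y₁, hact₂, hact, hact, hact₂, map_add, map_add, hDD₂, hD₂D]
      congr 1
      abel
    exact LinearMap.congr_fun h' v
  set k := g⁻¹ * g₂ with hk
  have hkM : k ∈ M := M.mul_mem (M.inv_mem hg) hg₂M
  have hz : k * X * k⁻¹ = g⁻¹ * y₂ * g := by rw [hk, hy₂]; group
  have hcX : k * X * k⁻¹ * X = X * (k * X * k⁻¹) := by
    rw [hz, show X = g⁻¹ * y₁ * g by rw [hy₁]; group]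
    calc g⁻¹ * y₂ * g * (g⁻¹ * y₁ * g) = g⁻¹ * (y₂ * y₁) * g := by group
      _ = g⁻¹ * (y₁ * y₂) * g := by rw [hcomm]
      _ = _ := by group
  have hzk : k * X * k⁻¹ ∈ Cfsg.Geo.kroneckerSubgroup l n F := by
    refine E.ruler NT (M.mul_mem (M.mul_mem hkM (E.rt_mem u 1)) (M.inv_mem hkM)) hu hu fun y => ?_
    obtain ⟨d, hd⟩ := E.exists_dual hu
    have hd' : f (-d) u = 1 := by rw [TransvectionMax.neg_left E.hf.bilinear, E.hf.skew d u, hd, neg_neg]
    have h1 : op (k * X * k⁻¹ * X) (tp y (-d)) = op (X * (k * X * k⁻¹)) (tp y (-d)) := by rw [hcX]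
    rw [op_mul, op_mul X, hX, E.rt_op, E.rt_op, map_add, Pf_tp E.sf, hd', one_smul, one_smul, one_smul] at h1
    exact ⟨_, add_left_cancel h1⟩
  -- the meet of the two images
  set Z₂ := Z.map (E.sieg e w) with hZ₂
  have hmap₂ : Ru.map (op g₂) = TZ n Z₂ := by
    have hcols : ∀ j v, col l j (op s v) = E.sieg e w (col l j v) := fun j v => by
      have h' : (col l j).comp (op s) = (E.sieg e w).comp (col l j) := ext_tp fun y w' => by
        rw [LinearMap.comp_apply, LinearMap.comp_apply, hs, op_kr, hG, Units.val_one, Matrix.one_mulVec, col_tp,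
          col_tp, map_smul]
      exact LinearMap.congr_fun h' v
    apply le_antisymm
    · rintro _ ⟨v, hv, rfl⟩
      refine mem_TZ.2 fun j => ?_
      rw [hg₂, op_mul, hcols]
      exact ⟨_, mem_TZ.1 (hmap ▸ Submodule.mem_map_of_mem hv) j, rfl⟩
    · intro v hv
      choose p hpZ hp using fun j => Submodule.mem_map.1 (mem_TZ.1 hv j)
      have hxm : (fun q => p q.2 q.1 : Sp F l n) ∈ Ru.map (op g) := by
        rw [hmap]
        exact mem_TZ.2 fun j => hpZ j
      obtain ⟨a, ha, hga⟩ := hxm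
      refine ⟨a, ha, ?_⟩
      rw [hg₂, op_mul, hga]
      funext q
      have h1 := hcols q.2 (fun q => p q.2 q.1)
      rw [show col l q.2 (fun q => p q.2 q.1 : Sp F l n) = p q.2 from rfl, hp q.2] at h1
      exact congrFun h1 q.1
  have hsZ2 : ∀ y ∈ Z, B y w = 0 → y ∈ Z ⊓ Z₂ := fun y hy hyw =>
    ⟨hy, y, hy, by rw [hsZ y hy, hyw, zero_smul, sub_zero]⟩
  have hdim : r ≤ Module.finrank F (Z ⊓ Z₂ : Submodule F (Fin l → F)) + 1 := by
    let L : Z →ₗ[F] F := (E.bB.flip w).comp Z.subtype
    have h1 := LinearMap.finrank_range_add_finrank_ker L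
    have h2 := Submodule.finrank_le (LinearMap.range L)
    rw [Module.finrank_self] at h2
    have h3 : (LinearMap.ker L).map Z.subtype ≤ Z ⊓ Z₂ := by
      rintro _ ⟨y, hy, rfl⟩
      exact hsZ2 _ y.2 hy
    have h4 := Submodule.finrank_mono h3
    rw [Submodule.finrank_map_subtype_eq] at h4
    omega
  have hne : ¬ Z₂ ≤ Z := fun hle => by
    obtain ⟨y, hy⟩ : ∃ y, B w (D y) ≠ 0 := by
      by_contra hcon; push Not at hcon; exact hDw ((hker w).2 hcon)
    have hy' : B (D y) w ≠ 0 := by rwa [E.hB.symm]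
    have h1 := Z.sub_mem (LinearMap.mem_range_self D y : D y ∈ Z) (hle ⟨D y, ⟨y, rfl⟩, rfl⟩)
    rw [hsZ _ ⟨y, rfl⟩, sub_sub_cancel] at h1
    have h5 := Z.smul_mem (B (D y) w)⁻¹ h1
    rw [smul_smul, inv_mul_cancel₀ hy', one_smul] at h5
    exact heZ h5
  have hk2 : ∀ x, op g (op k x) = op g₂ x := fun x => by rw [← op_mul, hk, mul_inv_cancel_left]
  rcases E.classify hkM hu hzk with ⟨v, hv, hR⟩ | ⟨D₃, -, -, -, hmap₃⟩
  · have hpos : (Z ⊓ Z₂ : Submodule F (Fin l → F)) ≠ ⊥ := fun e' => by
      rw [e', finrank_bot] at hdim; omega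
    obtain ⟨e₀, he₀, he₀0⟩ := Submodule.exists_mem_ne_zero_of_ne_bot hpos
    obtain ⟨_, ⟨a, rfl⟩, ha⟩ := hmap.symm ▸ tp_mem_TZ he₀.1 u
    obtain ⟨_, ⟨b, rfl⟩, hb'⟩ := hmap₂.symm ▸ tp_mem_TZ he₀.2 u
    obtain ⟨z, hz'⟩ := hR b
    have hka : tp z v = tp a u := by
      rw [← hz']
      apply op_inj g
      rw [hk2]
      exact hb'.trans ha.symm
    have ha0 : a ≠ 0 := fun e' => by
      rw [J_apply, e', tp_zero_left, map_zero] at ha
      obtain ⟨j, hj⟩ := Function.ne_iff.1 hu
      exact he₀0 (funext fun i => (mul_eq_zero.1 (congrFun ha.symm (i, j))).resolve_right hj)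
    obtain ⟨i, hi⟩ := Function.ne_iff.1 ha0
    have hzi : z i ≠ 0 := fun e' => hu (funext fun j => by
      have := congrFun hka (i, j)
      simp only [tp, e', zero_mul] at this
      exact (mul_eq_zero.1 this.symm).resolve_left hi)
    refine hne fun y₀ hy₀ => ?_
    have h1 : tp y₀ u ∈ TZ n Z₂ := tp_mem_TZ hy₀ u
    rw [← hmap₂] at h1
    obtain ⟨_, ⟨c, rfl⟩, hc⟩ := h1
    obtain ⟨z₂, hz₂⟩ := hR c
    have hv' : v = (a i / z i) • u := funext fun j => by
      have := congrFun hka (i, j)
      simp only [tp] at this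
      show v j = a i / z i * u j
      field_simp
      linear_combination this
    have h2 : tp y₀ u ∈ Ru.map (op g) := by
      refine ⟨tp ((a i / z i) • z₂) u, ⟨_, rfl⟩, ?_⟩
      rw [tp_smul_left, ← tp_smul_right, ← hv', ← hz₂, hk2]
      exact hc
    rw [hmap] at h2
    obtain ⟨j, hj⟩ := Function.ne_iff.1 hu
    have h3 := Z.smul_mem (u j)⁻¹ (mem_TZ.1 h2 j)
    rw [col_tp, smul_smul, inv_mul_cancel₀ hj, one_smul] at h3
    exact h3
  · set Z₃ := LinearMap.range D₃
    have h3 : n * Module.finrank F Z₃ = l := by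
      rw [← finrank_TZ, ← hmap₃]
      exact (Submodule.equivMapOfInjective (op k) (op_inj k) Ru).symm.finrank_eq.trans hRud
    have hr3 : Module.finrank F Z₃ = r := Nat.eq_of_mul_eq_mul_left (by omega) (h3.trans hnr.symm)
    obtain ⟨j, hj⟩ := Function.ne_iff.1 hu
    have hI : Ru ⊓ TZ n Z₃ = Z₃.map (J u) := by
      apply le_antisymm
      · rintro _ ⟨⟨a, rfl⟩, ha⟩
        refine ⟨a, ?_, rfl⟩
        have h' := Z₃.smul_mem (u j)⁻¹ (mem_TZ.1 ha j)
        rwa [J_apply, col_tp, smul_smul, inv_mul_cancel₀ hj, one_smul] at h'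
      · rintro _ ⟨a, ha, rfl⟩
        exact ⟨⟨a, rfl⟩, tp_mem_TZ ha u⟩
    have hI2 : (Ru ⊓ TZ n Z₃).map (op g) = TZ n (Z ⊓ Z₂) := by
      rw [← hmap₃, Submodule.map_inf _ (op_inj g), TZ_inf, ← hmap, ← hmap₂, ← Submodule.map_comp]
      congr 2
      exact LinearMap.ext hk2
    have h4 : Module.finrank F (Z₃.map (J (k := l) u)) = r := by
      rw [← hr3]
      exact (Submodule.equivMapOfInjective _ (J_injective hu) Z₃).symm.finrank_eq
    have h5 : Module.finrank F (TZ n (Z ⊓ Z₂)) = r := by
      rw [← hI2, ← h4, ← hI]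
      exact (Submodule.equivMapOfInjective (op g) (op_inj g) _).symm.finrank_eq
    rw [finrank_TZ] at h5
    have h6 : 4 * (r - 1) ≤ n * Module.finrank F (Z ⊓ Z₂ : Submodule F (Fin l → F)) :=
      Nat.mul_le_mul hn (by omega)
    omega

end Cfsg.Agent.TensorSp44
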