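import Mathlib

/-!
A finite group of `2 × 2` matrices of determinant one generated by upper and lower unipotent matrices, of both
kinds, has even order in odd characteristic.
-/

set_option autoImplicit false

namespace Cfsg.Agent.TensorSp44

open scoped MatrixGroups

variable {R : Type*} [CommRing R]

/-- An upper unipotent matrix. -/
def up (a : R) : SL(2, R) := ⟨!![1, a; 0, 1], by simp [Matrix.det_fin_two]⟩

/-- A lower unipotent matrix. -/
def lo (a : R) : SL(2, R) := ⟨!![1, 0; a, 1], by simp [Matrix.det_fin_two]⟩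

theorem up_val (a : R) : (up a : Matrix (Fin 2) (Fin 2) R) = !![1, a; 0, 1] := rfl

theorem lo_val (a : R) : (lo a : Matrix (Fin 2) (Fin 2) R) = !![1, 0; a, 1] := rfl

theorem up_mul (a b : R) : up a * up b = up (a + b) :=
  Subtype.ext (by
    rw [Matrix.SpecialLinearGroup.coe_mul, up_val, up_val, up_val]
    ext i j; fin_cases i <;> fin_cases j <;> simp [add_comm])

theorem lo_mul (a b : R) : lo a * lo b = lo (a + b) :=
  Subtype.ext (by
    rw [Matrix.SpecialLinearGroup.coe_mul, lo_val, lo_val, lo_val]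
    ext i j; fin_cases i <;> fin_cases j <;> simp [add_comm])

theorem up_zero : up (0 : R) = 1 := Subtype.ext (by
  ext i j; fin_cases i <;> fin_cases j <;> simp [up_val])

theorem lo_zero : lo (0 : R) = 1 := Subtype.ext (by
  ext i j; fin_cases i <;> fin_cases j <;> simp [lo_val])

theorem up_pow (a : R) (k : ℕ) : up a ^ k = up ((k : R) * a) := by
  induction k with
  | zero => rw [pow_zero, Nat.cast_zero, zero_mul, up_zero]
  | succ k ih => rw [pow_succ, ih, up_mul]; push_cast; ring_nf

theorem lo_pow (a : R) (k : ℕ) : lo a ^ k = lo ((k : R) * a) := by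
  induction k with
  | zero => rw [pow_zero, Nat.cast_zero, zero_mul, lo_zero]
  | succ k ih => rw [pow_succ, ih, lo_mul]; push_cast; ring_nf

theorem up_inv (a : R) : (up a)⁻¹ = up (-a) :=
  inv_eq_of_mul_eq_one_right (by rw [up_mul, add_neg_cancel, up_zero])

theorem lo_inv (a : R) : (lo a)⁻¹ = lo (-a) :=
  inv_eq_of_mul_eq_one_right (by rw [lo_mul, add_neg_cancel, lo_zero])

/-- Negating the entries off the diagonal. -/
def offFun (g : SL(2, R)) : SL(2, R) :=
  ⟨!![g.1 0 0, -g.1 0 1; -g.1 1 0, g.1 1 1], by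
    have h := g.2
    rw [Matrix.det_fin_two] at h
    rw [Matrix.det_fin_two_of]
    linear_combination h⟩

theorem offFun_val (g : SL(2, R)) : (offFun g).1 = !![g.1 0 0, -g.1 0 1; -g.1 1 0, g.1 1 1] := rfl

/-- The automorphism negating the entries off the diagonal. -/
def flipOff : SL(2, R) →* SL(2, R) where
  toFun := offFun
  map_one' := Subtype.ext (by rw [offFun_val]; ext i j; fin_cases i <;> fin_cases j <;> simp)
  map_mul' g h := Subtype.ext (by
    ext i j
    rw [Matrix.SpecialLinearGroup.coe_mul, offFun_val, offFun_val, offFun_val, Matrix.SpecialLinearGroup.coe_mul]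
    fin_cases i <;> fin_cases j <;>
      simp [Matrix.mul_apply, Fin.sum_univ_two] <;> ring)

theorem flipOff_val (g : SL(2, R)) : (flipOff g).1 = !![g.1 0 0, -g.1 0 1; -g.1 1 0, g.1 1 1] := rfl

theorem inv_mul_entry (x y : SL(2, R)) :
    (x⁻¹ * y).1 1 0 = x.1 0 0 * y.1 1 0 - x.1 1 0 * y.1 0 0 := by
  rw [Matrix.SpecialLinearGroup.coe_mul, Matrix.SpecialLinearGroup.coe_inv, Matrix.adjugate_fin_two,
    Matrix.mul_apply, Fin.sum_univ_two]
  simp
  ring

variable {K : Type*} [Field K] [Finite K]

/-- The parity theorem. -/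
theorem even_card (h2 : (2 : K) ≠ 0) (S : Set SL(2, K)) (hS : ∀ g ∈ S, ∃ a, g = up a ∨ g = lo a) {a b : K}
    (ha : a ≠ 0) (hb : b ≠ 0) (hu : up a ∈ Subgroup.closure S) (hl : lo b ∈ Subgroup.closure S) :
    2 ∣ Nat.card (Subgroup.closure S) := by
  classical
  obtain ⟨p, hp⟩ := CharP.exists K
  haveI := hp
  haveI : Fact p.Prime := ⟨CharP.char_is_prime K p⟩
  set Γ := Subgroup.closure S with hΓ
  have hflip : ∀ g ∈ Γ, flipOff g ∈ Γ := by
    intro g hg
    induction hg using Subgroup.closure_induction with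
    | mem x hx =>
      obtain ⟨c, rfl | rfl⟩ := hS x hx
      · rw [show flipOff (up c) = (up c)⁻¹ by
          rw [up_inv]
          exact Subtype.ext (by ext i j; fin_cases i <;> fin_cases j <;> simp [flipOff_val, up_val])]
        exact Γ.inv_mem (Subgroup.subset_closure hx)
      · rw [show flipOff (lo c) = (lo c)⁻¹ by
          rw [lo_inv]
          exact Subtype.ext (by ext i j; fin_cases i <;> fin_cases j <;> simp [flipOff_val, lo_val])]
        exact Γ.inv_mem (Subgroup.subset_closure hx)
    | one => rw [map_one]; exact Γ.one_mem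
    | mul x y _ _ hx hy => rw [map_mul]; exact Γ.mul_mem hx hy
    | inv x _ hx => rw [map_inv]; exact Γ.inv_mem hx
  let St : Subgroup Γ :=
    { carrier := {g | (g : SL(2, K)).1 1 0 = 0}
      one_mem' := by simp
      mul_mem' := fun {x y} (hx : _ = _) (hy : _ = _) => by
        show ((x : SL(2, K)) * (y : SL(2, K))).1 1 0 = 0
        rw [Matrix.SpecialLinearGroup.coe_mul, Matrix.mul_apply, Fin.sum_univ_two, hx, hy, zero_mul, mul_zero,
          add_zero]
      inv_mem' := fun {x} (hx : _ = _) => by
        show ((x : SL(2, K))⁻¹).1 1 0 = 0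
        rw [Matrix.SpecialLinearGroup.coe_inv, Matrix.adjugate_fin_two]
        simp [hx] }
  have hSt : ∀ g : Γ, g ∈ St ↔ (g : SL(2, K)).1 1 0 = 0 := fun g => Iff.rfl
  have heq : ∀ x y : Γ, (QuotientGroup.mk x : Γ ⧸ St) = QuotientGroup.mk y ↔
      (x : SL(2, K)).1 0 0 * (y : SL(2, K)).1 1 0 - (x : SL(2, K)).1 1 0 * (y : SL(2, K)).1 0 0 = 0 := fun x y => by
    rw [QuotientGroup.eq, hSt, Subgroup.coe_mul, Subgroup.coe_inv, inv_mul_entry]
  haveI : Fintype (Γ ⧸ St) := Fintype.ofFinite _
  -- fixed points of the translation by a unipotent element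
  have hfix : ∀ t : Γ, (∀ k : ℕ, (k : K) = 0 → t ^ k = 1) →
      Fintype.card (Γ ⧸ St) ≡
        Fintype.card (Function.fixedPoints (fun q : Γ ⧸ St => t • q)) [MOD p] := by
    intro t ht
    let σt : Function.End (Γ ⧸ St) := fun q => t • q
    refine Equiv.Perm.card_fixedPoints_modEq (α := Γ ⧸ St) (f := σt) (n := 1) ?_
    have hiter : ∀ k : ℕ, σt ^ k = fun q => t ^ k • q := by
      intro k
      induction k with
      | zero => funext q; simp [Function.End.one_def]
      | succ k ih =>
        rw [pow_succ, ih]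
        funext q
        show t ^ k • t • q = t ^ (k + 1) • q
        rw [smul_smul, pow_succ]
    rw [pow_one, hiter, ht p (CharP.cast_eq_zero K p)]
    funext q
    simp [Function.End.one_def]
  let X : Γ := ⟨up a, hu⟩
  let Y : Γ := ⟨lo b, hl⟩
  have hXfix : ∀ x : Γ, X • (QuotientGroup.mk x : Γ ⧸ St) = QuotientGroup.mk x ↔ (x : SL(2, K)).1 1 0 = 0 := by
    intro x
    rw [MulAction.Quotient.smul_mk, heq, smul_eq_mul, Subgroup.coe_mul, Matrix.SpecialLinearGroup.coe_mul]
    simp only [X, up_val, Matrix.mul_apply, Fin.sum_univ_two]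
    simp only [Matrix.of_apply, Matrix.cons_val_zero, Matrix.cons_val_one, one_mul, zero_mul, zero_add]
    constructor
    · intro h
      have : a * ((x : SL(2, K)).1 1 0 * (x : SL(2, K)).1 1 0) = 0 := by linear_combination h
      exact mul_self_eq_zero.1 ((mul_eq_zero.1 this).resolve_left ha)
    · intro h; rw [h]; ring
  have hYfix : ∀ x : Γ, Y • (QuotientGroup.mk x : Γ ⧸ St) = QuotientGroup.mk x ↔ (x : SL(2, K)).1 0 0 = 0 := by
    intro x
    rw [MulAction.Quotient.smul_mk, heq, smul_eq_mul, Subgroup.coe_mul, Matrix.SpecialLinearGroup.coe_mul]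
    simp only [Y, lo_val, Matrix.mul_apply, Fin.sum_univ_two]
    simp only [Matrix.of_apply, Matrix.cons_val_zero, Matrix.cons_val_one, one_mul, zero_mul, add_zero]
    constructor
    · intro h
      have : b * ((x : SL(2, K)).1 0 0 * (x : SL(2, K)).1 0 0) = 0 := by linear_combination -h
      exact mul_self_eq_zero.1 ((mul_eq_zero.1 this).resolve_left hb)
    · intro h; rw [h]; ring
  have hpw : (∀ k : ℕ, (k : K) = 0 → X ^ k = 1) ∧ ∀ k : ℕ, (k : K) = 0 → Y ^ k = 1 :=
    ⟨fun k hk => Subtype.ext (by rw [Subgroup.coe_pow, Subgroup.coe_one, up_pow, hk, zero_mul, up_zero]),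
      fun k hk => Subtype.ext (by rw [Subgroup.coe_pow, Subgroup.coe_one, lo_pow, hk, zero_mul, lo_zero])⟩
  have h1X : Fintype.card (Function.fixedPoints (fun q : Γ ⧸ St => X • q)) = 1 := by
    refine Fintype.card_eq_one_iff.2 ⟨⟨QuotientGroup.mk 1, ((hXfix 1).2 (by simp) : _)⟩, fun q => ?_⟩
    obtain ⟨q, hq⟩ := q
    induction q using QuotientGroup.induction_on with
    | _ x => exact Subtype.ext ((heq _ _).2 (by
        have hx := (hXfix x).1 hq
        simp [hx]))
  -- some element exchanges the two fixed lines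
  obtain ⟨w, hw⟩ : ∃ w : Γ, (w : SL(2, K)).1 0 0 = 0 := by
    by_contra hcon
    push Not at hcon
    have h0 : Fintype.card (Function.fixedPoints (fun q : Γ ⧸ St => Y • q)) = 0 := by
      refine Fintype.card_eq_zero_iff.2 ⟨fun q => ?_⟩
      obtain ⟨q, hq⟩ := q
      induction q using QuotientGroup.induction_on with
      | _ x => exact hcon x ((hYfix x).1 hq)
    have e := (hfix X hpw.1).symm.trans (hfix Y hpw.2)
    rw [h1X, h0] at e
    exact (Nat.Prime.not_dvd_one (Fact.out : p.Prime)) ((Nat.modEq_zero_iff_dvd).1 e)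
  -- the involution
  let δ : Function.End (Γ ⧸ St) := Quotient.map' (fun x => ⟨flipOff x, hflip _ x.2⟩) fun x y hxy => by
    rw [QuotientGroup.leftRel_apply, hSt, Subgroup.coe_mul, Subgroup.coe_inv, inv_mul_entry] at hxy ⊢
    simp [flipOff_val]
    linear_combination -hxy
  have hδmk : ∀ x : Γ, δ (QuotientGroup.mk x) = QuotientGroup.mk (⟨flipOff x, hflip _ x.2⟩ : Γ) := fun x => rfl
  have hδ2 : δ ^ 2 ^ 1 = 1 := by
    rw [pow_one, sq]
    funext q
    show δ (δ q) = q
    induction q using QuotientGroup.induction_on with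
    | _ x =>
      rw [hδmk, hδmk]
      congr 1
      exact Subtype.ext (Subtype.ext (by ext i j; fin_cases i <;> fin_cases j <;> simp [flipOff_val]))
  have hmod := Equiv.Perm.card_fixedPoints_modEq (p := 2) hδ2
  have hw10 : (w : SL(2, K)).1 1 0 ≠ 0 := fun e => by
    have h := (w : SL(2, K)).2
    rw [Matrix.det_fin_two, hw, e] at h
    simp at h
  have hfp : ∀ x : Γ, δ (QuotientGroup.mk x) = QuotientGroup.mk x ↔
      ((x : SL(2, K)).1 0 0 = 0 ∨ (x : SL(2, K)).1 1 0 = 0) := by
    intro x
    rw [hδmk, heq]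
    simp only [flipOff_val, Matrix.of_apply, Matrix.cons_val_zero, Matrix.cons_val_one]
    constructor
    · intro h
      have : (2 : K) * ((x : SL(2, K)).1 0 0 * (x : SL(2, K)).1 1 0) = 0 := by linear_combination h
      exact mul_eq_zero.1 ((mul_eq_zero.1 this).resolve_left h2)
    · rintro (h | h) <;> rw [h] <;> ring
  have hset : Function.fixedPoints δ = {QuotientGroup.mk (1 : Γ), QuotientGroup.mk w} := by
    ext q
    induction q using QuotientGroup.induction_on with
    | _ x =>
      refine Iff.trans (hfp x) ?_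
      simp only [Set.mem_insert_iff, Set.mem_singleton_iff, heq]
      constructor
      · rintro (h | h)
        · right; rw [h, hw]; ring
        · left; simp [h]
      · rintro (h | h)
        · right; simpa using h
        · left
          rw [hw, mul_zero, sub_zero] at h
          exact (mul_eq_zero.1 h).resolve_right hw10
  have hne : (QuotientGroup.mk (1 : Γ) : Γ ⧸ St) ≠ QuotientGroup.mk w := fun e => by
    rw [heq] at e
    simp at e
    exact hw10 e
  have hc : Fintype.card (Function.fixedPoints δ) = 2 := by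
    rw [← Nat.card_eq_fintype_card, hset, Nat.card_coe_set_eq, Set.ncard_pair hne]
  rw [hc] at hmod
  have h2d : 2 ∣ Fintype.card (Γ ⧸ St) := Nat.modEq_zero_iff_dvd.1 (hmod.trans (by decide))
  rw [← Nat.card_eq_fintype_card] at h2d
  exact h2d.trans (Subgroup.card_quotient_dvd_card St)

end Cfsg.Agent.TensorSp44
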