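import Cfsg.Agent.Lib.TensorSp44Mix
import Cfsg.Agent.Lib.TensorSp44Parity

/-!
The group generated by two root subgroups: either it is a `p`-group and the normaliser argument applies, or it
contains an involution, which confines the image of a ruler to two dimensions.
-/

set_option autoImplicit false
set_option linter.unusedSectionVars false
set_option maxHeartbeats 800000

namespace Cfsg.Agent.TensorSp44

open scoped Matrix MatrixGroups Kronecker
open Cfsg.Agent.TensorMax
open Cfsg.Agent.TransvectionMax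

variable {F : Type*} [Field F] [Fintype F] {n l : ℕ}
variable {B : (Fin l → F) → (Fin l → F) → F} {f : (Fin n → F) → (Fin n → F) → F}
variable {M : Subgroup (GL (Fin l × Fin n) F)}

/-- Tensors along independent vectors are independent. -/
theorem count_tp {k : ℕ} (p : Fin k → Fin n → F) (hp : LinearIndependent F p)
    (Z : Fin k → Submodule F (Fin l → F)) (R : Submodule F (Sp F l n))
    (h : ∀ i, ∀ y ∈ Z i, tp y (p i) ∈ R) : ∑ i, Module.finrank F (Z i) ≤ Module.finrank F R := by
  let Ψ : ((i : Fin k) → Z i) →ₗ[F] R :=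
    LinearMap.codRestrict R (∑ i, (J (p i)).comp ((Z i).subtype.comp (LinearMap.proj i))) fun c => by
      rw [LinearMap.sum_apply]
      exact R.sum_mem fun i _ => h i _ (c i).2
  have hinj : Function.Injective Ψ := by
    rw [← LinearMap.ker_eq_bot, LinearMap.ker_eq_bot']
    intro c hc
    have hc' : (∑ i, tp ((c i : Fin l → F)) (p i)) = 0 := by
      have := congrArg Subtype.val hc
      simpa [Ψ, LinearMap.sum_apply, J_apply] using this
    funext i
    refine Subtype.ext (funext fun a => ?_)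
    have h0 : ∑ i, (c i : Fin l → F) a • p i = 0 := funext fun j => by
      have := congrFun hc' (a, j)
      simpa [Finset.sum_apply, tp] using this
    exact Fintype.linearIndependent_iff.1 hp _ h0 i
  have := LinearMap.finrank_le_finrank_of_injective hinj
  rwa [Module.finrank_pi_fintype] at this

/-- The alternating chains of two maps. -/
def chain (T T' : Module.End F (Fin l → F)) : ℕ → Submodule F (Fin l → F) × Submodule F (Fin l → F)
  | 0 => (⊤, ⊤)
  | i + 1 => ((chain T T' i).2.map T, (chain T T' i).1.map T')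

theorem chain_anti (T T' : Module.End F (Fin l → F)) (i : ℕ) :
    (chain T T' (i + 1)).1 ≤ (chain T T' i).1 ∧ (chain T T' (i + 1)).2 ≤ (chain T T' i).2 := by
  induction i with
  | zero => exact ⟨le_top, le_top⟩
  | succ i ih => exact ⟨Submodule.map_mono ih.2, Submodule.map_mono ih.1⟩

theorem chain_even (T T' : Module.End F (Fin l → F)) (k : ℕ) :
    (chain T T' (2 * k)).1 = LinearMap.range ((T * T') ^ k) := by
  induction k with
  | zero => rw [pow_zero]; exact (LinearMap.range_id).symm
  | succ k ih =>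
    show ((chain T T' (2 * k)).1.map T').map T = _
    rw [ih, ← Submodule.map_comp, pow_succ', Module.End.mul_eq_comp ((T : Module.End F _) * T'),
      LinearMap.range_comp]
    rfl

variable (E : Env B f M)
include E

/-- The nilpotent case. -/
theorem Env.pair_nil (NT : Scal M f) {g : GL (Fin l × Fin n) F} (hg : g ∈ M) {u u' : Fin n → F} (hu : u ≠ 0)
    (hu' : u' ≠ 0) {T T' : Module.End F (Fin l → F)}
    (hT : ∀ y, Pf f l u' (op g (tp y u)) = T y) (hT' : ∀ y, Pf f l u (op g⁻¹ (tp y u')) = T' y) {k : ℕ}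
    (hk : (T * T') ^ k = 0) : g ∈ Cfsg.Geo.kroneckerSubgroup l n F := by
  classical
  obtain ⟨p, hp⟩ := CharP.exists F
  haveI := hp
  haveI : Fact p.Prime := ⟨CharP.char_is_prime F p⟩
  let Jp : (Fin l → F) →ₗ[F] Sp F l n := J u'
  let Jw : (Fin l → F) →ₗ[F] Sp F l n := (op g).comp (J u)
  let G : ℕ → Submodule F (Sp F l n) := fun i =>
    match i with
    | 0 => ⊤
    | i + 1 => (chain T T' i).1.map Jp ⊔ (chain T T' i).2.map Jw
  have hG0 : G 0 = ⊤ := rfl
  have hG1 : ∀ i, G (i + 1) = (chain T T' i).1.map Jp ⊔ (chain T T' i).2.map Jw := fun i => rfl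
  have hGanti : ∀ i, G (i + 1) ≤ G i := by
    intro i
    cases i with
    | zero => rw [hG0]; exact le_top
    | succ i =>
      rw [hG1, hG1]
      exact sup_le_sup (Submodule.map_mono (chain_anti T T' i).1) (Submodule.map_mono (chain_anti T T' i).2)
  let Q : GL (Fin l × Fin n) F → Prop := fun h => h ∈ M ∧ ∀ i, ∀ v ∈ G i, op h v - v ∈ G (i + 1)
  let X : F → GL (Fin l × Fin n) F := fun s => rt l f u' s
  let Y : F → GL (Fin l × Fin n) F := fun s => g * rt l f u s * g⁻¹
  have hQX : ∀ s, Q (X s) := by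
    intro s
    refine ⟨E.rt_mem u' s, fun i v hv => ?_⟩
    rw [E.rt_op, add_sub_cancel_left]
    refine Submodule.smul_mem _ _ ?_
    cases i with
    | zero =>
      exact Submodule.mem_sup_left ⟨_, Submodule.mem_top, rfl⟩
    | succ i =>
      obtain ⟨_, ⟨a, ha, rfl⟩, _, ⟨b, hb, rfl⟩, rfl⟩ := Submodule.mem_sup.1 hv
      refine Submodule.mem_sup_left ⟨T b, ⟨b, hb, rfl⟩, ?_⟩
      simp only [Jp, Jw, LinearMap.comp_apply, J_apply, map_add, hT, Pf_tp E.sf, E.hf.alternating, zero_smul,
        zero_add]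
  have hQY : ∀ s, Q (Y s) := by
    intro s
    refine ⟨M.mul_mem (M.mul_mem hg (E.rt_mem u s)) (M.inv_mem hg), fun i v hv => ?_⟩
    rw [E.conj_rt, add_sub_cancel_left]
    refine Submodule.smul_mem _ _ ?_
    cases i with
    | zero =>
      exact Submodule.mem_sup_right ⟨_, Submodule.mem_top, rfl⟩
    | succ i =>
      obtain ⟨_, ⟨a, ha, rfl⟩, _, ⟨b, hb, rfl⟩, rfl⟩ := Submodule.mem_sup.1 hv
      refine Submodule.mem_sup_right ⟨T' a, ⟨a, ha, rfl⟩, ?_⟩
      simp only [Jp, Jw, LinearMap.comp_apply, J_apply, map_add, hT', op_inv_app, Pf_tp E.sf, E.hf.alternating,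
        zero_smul, add_zero]
  let Qm : Submonoid (GL (Fin l × Fin n) F) :=
    { carrier := {h | Q h}
      one_mem' := ⟨M.one_mem, fun i v _ => by rw [op_one, sub_self]; exact zero_mem _⟩
      mul_mem' := by
        rintro h₁ h₂ ⟨h₁M, h₁Q⟩ ⟨h₂M, h₂Q⟩
        refine ⟨M.mul_mem h₁M h₂M, fun i v hv => ?_⟩
        have e : op (h₁ * h₂) v - v = (op h₁ (op h₂ v - v) - (op h₂ v - v)) + (op h₂ v - v) + (op h₁ v - v) := by
          rw [op_mul, map_sub]; abel
        rw [e]
        exact Submodule.add_mem _ (Submodule.add_mem _ (hGanti (i + 1) (h₁Q (i + 1) _ (h₂Q i v hv))) (h₂Q i v hv))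
          (h₁Q i v hv) }
  set G₀ := Subgroup.closure (Set.range X ∪ Set.range Y) with hG₀
  have hGQ : ∀ h ∈ G₀, Q h := by
    intro h hh
    have : h ∈ Submonoid.closure (Set.range X ∪ Set.range Y) := by
      rwa [← Subgroup.closure_toSubmonoid_of_finite]
    exact (Submonoid.closure_le (S := Qm)).2 (by rintro _ (⟨s, rfl⟩ | ⟨s, rfl⟩); exacts [hQX s, hQY s]) this
  set K := 2 * k + 2 with hK
  have hGbot : G K = ⊥ := by
    rw [hK, show 2 * k + 2 = (2 * k + 1) + 1 from rfl, hG1]
    have h1 : (chain T T' (2 * k)).1 = ⊥ := by rw [chain_even, hk, LinearMap.range_zero]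
    have h2 : (chain T T' (2 * k + 1)).1 = ⊥ := le_bot_iff.1 ((chain_anti T T' _).1.trans h1.le)
    have h3 : (chain T T' (2 * k + 1)).2 = ⊥ := by
      show (chain T T' (2 * k)).1.map T' = ⊥
      rw [h1, Submodule.map_bot]
    rw [h2, h3, Submodule.map_bot, Submodule.map_bot, sup_bot_eq]
  have hpG : IsPGroup p G₀ := by
    intro h
    refine ⟨K, Subtype.ext ?_⟩
    rw [Subgroup.coe_pow, Subgroup.coe_one]
    obtain ⟨-, hQ⟩ := hGQ _ h.2
    set N : Module.End F (Sp F l n) := op (h : GL (Fin l × Fin n) F) - 1 with hN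
    have hiter : ∀ j v, (N ^ j) v ∈ G j := by
      intro j
      induction j with
      | zero => intro v; rw [hG0]; exact Submodule.mem_top
      | succ j ih =>
        intro v
        rw [pow_succ', Module.End.mul_apply]
        exact hQ j _ (ih v)
    have hNK : N ^ (p ^ K) = 0 := by
      refine LinearMap.ext fun v => ?_
      have hlt : K ≤ p ^ K := (Nat.lt_pow_self (Fact.out : p.Prime).one_lt).le
      rw [← Nat.add_sub_cancel' hlt, pow_add, Module.End.mul_apply]
      simpa [hGbot] using hiter K ((N ^ (p ^ K - K)) v)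
    haveI : Nonempty (Fin l × Fin n) := ⟨(⟨0, by have := E.hl; omega⟩, ⟨0, by have := E.hn; omega⟩)⟩
    haveI : CharP (Module.End F (Sp F l n)) p :=
      charP_of_injective_algebraMap (algebraMap F (Module.End F (Sp F l n))).injective p
    have hpow : ∀ j, op ((h : GL (Fin l × Fin n) F) ^ j) = (op (h : GL (Fin l × Fin n) F)) ^ j := by
      intro j
      induction j with
      | zero => exact LinearMap.ext fun v => op_one v
      | succ j ih =>
        rw [pow_succ (op (h : GL (Fin l × Fin n) F)), ← ih]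
        exact LinearMap.ext fun v => by rw [pow_succ, op_mul]; rfl
    refine op_ext fun v => ?_
    rw [op_one, hpow, show op (h : GL (Fin l × Fin n) F) = N + 1 by rw [hN, sub_add_cancel],
      add_pow_char_pow_of_commute (p := p) (h := Commute.one_right N), hNK, one_pow, zero_add]
    rfl
  by_contra hgK
  set D := (Cfsg.Geo.kroneckerSubgroup l n F).subgroupOf G₀ with hD
  let Y₁ : G₀ := ⟨Y 1, Subgroup.subset_closure (Or.inr ⟨1, rfl⟩)⟩
  let X₁ : G₀ := ⟨X 1, Subgroup.subset_closure (Or.inl ⟨1, rfl⟩)⟩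
  have hY : Y₁ ∉ D := fun h => hgK (E.hback NT hg hu (Subgroup.mem_subgroupOf.1 h))
  have hX : X₁ ∈ D := Subgroup.mem_subgroupOf.2 (TensorMax.kr_mem _ _)
  haveI : Group.IsNilpotent G₀ := hpG.isNilpotent
  have hlt := normalizerCondition_of_isNilpotent D (lt_top_iff_ne_top.2 fun e => hY (e ▸ Subgroup.mem_top _))
  obtain ⟨k', hk', hkD⟩ := SetLike.exists_of_lt hlt
  apply hkD
  refine Subgroup.mem_subgroupOf.2 (E.hback NT (hGQ _ k'.2).1 hu' ?_)
  exact Subgroup.mem_subgroupOf.1 ((Subgroup.mem_normalizer_iff.1 hk' X₁).1 hX)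

/-- The non-nilpotent case. -/
theorem Env.pair_inv (NT : Scal M f) {g : GL (Fin l × Fin n) F} (hg : g ∈ M) {u u' : Fin n → F} (hu' : u' ≠ 0)
    {T T' : Module.End F (Fin l → F)}
    (hT : ∀ y, Pf f l u' (op g (tp y u)) = T y) (hT' : ∀ y, Pf f l u (op g⁻¹ (tp y u')) = T' y)
    (hS : ¬ IsNilpotent (T * T')) :
    ∃ P : Submodule F (Fin n → F), Module.finrank F P ≤ 2 ∧ u' ∈ P ∧
      ∀ y i, (fun j => op g (tp y u) (i, j)) ∈ P := by
  classical
  have h2 := E.two
  let Jp : (Fin l → F) →ₗ[F] Sp F l n := J u'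
  let Jw : (Fin l → F) →ₗ[F] Sp F l n := (op g).comp (J u)
  set φ : Polynomial F →+* Module.End F (Fin l → F) := (Polynomial.aeval (T * T')).toRingHom with hφ
  let R := Polynomial F ⧸ RingHom.ker φ
  let act : R →+* Module.End F (Fin l → F) := RingHom.kerLift φ
  have hact_inj : Function.Injective act := RingHom.kerLift_injective φ
  haveI : Finite (Module.End F (Fin l → F)) := Finite.of_injective _ DFunLike.coe_injective
  haveI : Finite R := Finite.of_injective act hact_inj
  let sR : R := Ideal.Quotient.mk _ Polynomial.X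
  let cR : F →+* R := (Ideal.Quotient.mk _).comp Polynomial.C
  have hs : ∀ y, act sR y = T (T' y) := fun y => by
    show φ Polynomial.X y = _
    simp [hφ]
  have hc : ∀ t y, act (cR t) y = t • y := fun t y => by
    show φ (Polynomial.C t) y = _
    simp [hφ]
  let E₁ : Submodule F (Sp F l n) := LinearMap.range Jp ⊔ LinearMap.range Jw
  let E₂ : Submodule F (Sp F l n) := LinearMap.range Jp ⊔ LinearMap.range (Jw.comp T')
  have hE21 : E₂ ≤ E₁ := sup_le_sup le_rfl (LinearMap.range_comp_le_range T' Jw)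
  let Q : GL (Fin l × Fin n) F × SL(2, R) → Prop := fun q => q.1 ∈ M ∧
    (∀ y, op q.1 (Jp y) = Jp (act (q.2.1 0 0) y) + Jw (T' (act (q.2.1 1 0) y))) ∧
    (∀ y, op q.1 (Jw (T' y)) = Jp (act (q.2.1 0 1) y) + Jw (T' (act (q.2.1 1 1) y))) ∧
    (∀ v, op q.1 v - v ∈ E₁) ∧ ∀ v ∈ E₁, op q.1 v - v ∈ E₂
  let gens : Set (GL (Fin l × Fin n) F × SL(2, R)) :=
    Set.range (fun t : F => (rt l f u' t, up (cR t * sR))) ∪
      Set.range (fun t : F => (g * rt l f u t * g⁻¹, lo (cR t)))
  have hgen : ∀ q ∈ gens, Q q := by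
    rintro _ (⟨t, rfl⟩ | ⟨t, rfl⟩)
    · refine ⟨E.rt_mem u' t, fun y => ?_, fun y => ?_, fun v => ?_, fun v hv => ?_⟩
      · simp [E.rt_op, Jp, Jw, up_val, J_apply, Pf_tp E.sf, E.hf.alternating, tp_zero_left]
      · simp only [E.rt_op, Jw, LinearMap.comp_apply, J_apply, hT, Jp, up_val]
        simp [map_mul, hc, hs, tp_smul_left, add_comm]
      · rw [E.rt_op, add_sub_cancel_left]
        exact Submodule.smul_mem _ _ (Submodule.mem_sup_left ⟨_, rfl⟩)
      · rw [E.rt_op, add_sub_cancel_left]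
        exact Submodule.smul_mem _ _ (Submodule.mem_sup_left ⟨_, rfl⟩)
    · refine ⟨M.mul_mem (M.mul_mem hg (E.rt_mem u t)) (M.inv_mem hg), fun y => ?_, fun y => ?_, fun v => ?_,
        fun v hv => ?_⟩
      · simp only [E.conj_rt, Jp, J_apply, hT', lo_val, Jw, LinearMap.comp_apply]
        simp [hc, tp_smul_left, map_smul]
      · simp only [E.conj_rt, Jp, Jw, LinearMap.comp_apply, J_apply, op_inv_app, lo_val, Pf_tp E.sf,
          E.hf.alternating, zero_smul, tp_zero_left, map_zero, smul_zero, add_zero]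
        simp [tp_zero_left]
      · rw [E.conj_rt, add_sub_cancel_left]
        exact Submodule.smul_mem _ _ (Submodule.mem_sup_right ⟨_, rfl⟩)
      · rw [E.conj_rt, add_sub_cancel_left]
        refine Submodule.smul_mem _ _ (Submodule.mem_sup_right ?_)
        obtain ⟨_, ⟨a, rfl⟩, _, ⟨b, rfl⟩, rfl⟩ := Submodule.mem_sup.1 hv
        refine ⟨a, ?_⟩
        simp only [Jp, Jw, LinearMap.comp_apply, J_apply, map_add, hT', op_inv_app, Pf_tp E.sf,
          E.hf.alternating, zero_smul, add_zero]
  let Qm : Submonoid (GL (Fin l × Fin n) F × SL(2, R)) :=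
    { carrier := {q | Q q}
      one_mem' := ⟨M.one_mem, fun y => by simp, fun y => by simp,
        fun v => by rw [show op (1 : GL (Fin l × Fin n) F × SL(2, R)).1 v = v from op_one v, sub_self]; exact zero_mem _,
        fun v _ => by rw [show op (1 : GL (Fin l × Fin n) F × SL(2, R)).1 v = v from op_one v, sub_self]; exact zero_mem _⟩
      mul_mem' := by
        rintro q₁ q₂ ⟨a1, b1, c1, d1, e1⟩ ⟨a2, b2, c2, d2, e2⟩
        refine ⟨M.mul_mem a1 a2, fun y => ?_, fun y => ?_, fun v => ?_, fun v hv => ?_⟩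
        · rw [Prod.fst_mul, op_mul, b2, map_add, b1, c1, Prod.snd_mul, Matrix.SpecialLinearGroup.coe_mul]
          simp [Matrix.mul_apply, Fin.sum_univ_two]
          abel
        · rw [Prod.fst_mul, op_mul, c2, map_add, b1, c1, Prod.snd_mul, Matrix.SpecialLinearGroup.coe_mul]
          simp [Matrix.mul_apply, Fin.sum_univ_two]
          abel
        · rw [Prod.fst_mul, op_mul, show op q₁.1 (op q₂.1 v) - v = (op q₁.1 (op q₂.1 v - v) - (op q₂.1 v - v)) +
            (op q₂.1 v - v) + (op q₁.1 v - v) by rw [map_sub]; abel]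
          exact Submodule.add_mem _ (Submodule.add_mem _ (hE21 (e1 _ (d2 v))) (d2 v)) (d1 v)
        · rw [Prod.fst_mul, op_mul, show op q₁.1 (op q₂.1 v) - v = (op q₁.1 (op q₂.1 v - v) - (op q₂.1 v - v)) +
            (op q₂.1 v - v) + (op q₁.1 v - v) by rw [map_sub]; abel]
          exact Submodule.add_mem _ (Submodule.add_mem _ (e1 _ (hE21 (e2 v hv))) (e2 v hv)) (e1 v hv) }
  set 𝔊 := Subgroup.closure gens with h𝔊
  have hQ : ∀ q ∈ 𝔊, Q q := by
    intro q hq
    have : q ∈ Submonoid.closure gens := by rwa [← Subgroup.closure_toSubmonoid_of_finite]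
    exact (Submonoid.closure_le (S := Qm)).2 hgen this
  -- a maximal ideal avoiding `T T'`
  have hsn : ¬ IsNilpotent sR := fun hn => hS (by
    have h := hn.map act
    rwa [show act sR = T * T' from LinearMap.ext hs] at h)
  rw [nilpotent_iff_mem_prime] at hsn
  push Not at hsn
  obtain ⟨m, hm, hsm⟩ := hsn
  haveI := hm
  haveI : Finite (R ⧸ m) := Finite.of_surjective _ Ideal.Quotient.mk_surjective
  haveI : m.IsMaximal := Ideal.Quotient.maximal_of_isField m (Finite.isField_of_domain (R ⧸ m))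
  letI : Field (R ⧸ m) := Ideal.Quotient.field m
  let κ : F →+* R ⧸ m := (Ideal.Quotient.mk m).comp cR
  have h2K : (2 : R ⧸ m) ≠ 0 := fun e => h2 (κ.injective (by rw [map_ofNat, e, map_zero]))
  let π : GL (Fin l × Fin n) F × SL(2, R) →* SL(2, R ⧸ m) :=
    (Matrix.SpecialLinearGroup.map (Ideal.Quotient.mk m)).comp (MonoidHom.snd _ _)
  have hπu : ∀ (h : GL (Fin l × Fin n) F) a, π (h, up a) = up (Ideal.Quotient.mk m a) := fun h a =>
    Subtype.ext (by ext i j; fin_cases i <;> fin_cases j <;> simp [π, up_val])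
  have hπl : ∀ (h : GL (Fin l × Fin n) F) a, π (h, lo a) = lo (Ideal.Quotient.mk m a) := fun h a =>
    Subtype.ext (by ext i j; fin_cases i <;> fin_cases j <;> simp [π, lo_val])
  have hev : 2 ∣ Nat.card (Subgroup.closure (π '' gens)) := by
    refine even_card h2K _ ?_ (a := Ideal.Quotient.mk m sR) (b := (1 : R ⧸ m)) ?_ one_ne_zero
      (Subgroup.subset_closure ⟨_, Or.inl ⟨1, rfl⟩, ?_⟩) (Subgroup.subset_closure ⟨_, Or.inr ⟨1, rfl⟩, ?_⟩)
    · rintro _ ⟨_, ⟨t, rfl⟩ | ⟨t, rfl⟩, rfl⟩
      · exact ⟨_, Or.inl (hπu _ _)⟩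
      · exact ⟨_, Or.inr (hπl _ _)⟩
    · exact fun e => hsm (Ideal.Quotient.eq_zero_iff_mem.1 e)
    · rw [hπu, map_one cR, one_mul]
    · rw [hπl, map_one cR, map_one]
  rw [← MonoidHom.map_closure, ← h𝔊] at hev
  obtain ⟨q, hq2⟩ := exists_prime_orderOf_dvd_card' (G := 𝔊) 2 (hev.trans (Subgroup.card_map_dvd (H := 𝔊) π))
  obtain ⟨hqM, hq00, hq01, hqE, hqE2⟩ := hQ _ q.2
  have hqq : (q : GL (Fin l × Fin n) F × SL(2, R)) * q = 1 := by
    have := pow_orderOf_eq_one q
    rw [hq2, sq] at this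
    exact congrArg Subtype.val this
  have hq1 : q ≠ 1 := fun e => by rw [e, orderOf_one] at hq2; omega
  set h := (q : GL (Fin l × Fin n) F × SL(2, R)).1 with hh
  set m' := (q : GL (Fin l × Fin n) F × SL(2, R)).2 with hm'
  have hhh : h * h = 1 := congrArg Prod.fst hqq
  have hmm : m'⁻¹ = m' := inv_eq_of_mul_eq_one_right (congrArg Prod.snd hqq)
  have h2R : IsUnit (2 : R) := by
    have := (isUnit_iff_ne_zero.2 h2).map cR
    rwa [map_ofNat] at this
  have hent : m'.1 1 1 = m'.1 0 0 ∧ m'.1 0 1 = 0 ∧ m'.1 1 0 = 0 := by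
    have e : (m'⁻¹ : SL(2, R)).1 = m'.1 := by rw [hmm]
    rw [Matrix.SpecialLinearGroup.coe_inv, Matrix.adjugate_fin_two] at e
    have e00 := congrFun (congrFun e 0) 0
    have e01 := congrFun (congrFun e 0) 1
    have e10 := congrFun (congrFun e 1) 0
    simp at e00 e01 e10
    refine ⟨e00, ?_, ?_⟩
    · exact h2R.mul_right_eq_zero.1 (by linear_combination -e01)
    · exact h2R.mul_right_eq_zero.1 (by linear_combination -e10)
  set α : Module.End F (Fin l → F) := act (m'.1 0 0) with hα
  have hαα : ∀ y, α (α y) = y := fun y => by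
    have hd := m'.2
    rw [Matrix.det_fin_two, hent.1, hent.2.1, zero_mul, sub_zero] at hd
    rw [hα, ← Module.End.mul_apply, ← map_mul, hd, map_one]
    rfl
  have hhp : ∀ y, op h (tp y u') = tp (α y) u' := fun y => by
    have := hq00 y
    rw [hent.2.2, map_zero, LinearMap.zero_apply, map_zero, map_zero, add_zero] at this
    exact this
  have hhw : ∀ y, op h (Jw (T' y)) = Jw (T' (α y)) := fun y => by
    have := hq01 y
    rw [hent.2.1, hent.1, map_zero, LinearMap.zero_apply, map_zero, zero_add] at this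
    exact this
  -- the range of `h - 1`
  set N : Module.End F (Sp F l n) := op h - 1 with hN
  set α₁ : Module.End F (Fin l → F) := α - 1 with hα₁
  have hNN : ∀ v, N (N v) = (-2 : F) • N v := fun v => by
    have e : op h (op h v) = v := by rw [← op_mul, hhh, op_one]
    simp only [hN, LinearMap.sub_apply, Module.End.one_apply, map_sub, e]
    module
  have hNR : LinearMap.range N ≤ LinearMap.range (Jp.comp α₁) ⊔ LinearMap.range (Jw.comp (T'.comp α₁)) := by
    rintro _ ⟨v, rfl⟩
    have h1 : N v ∈ E₁ := hqE v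
    have h3 : N (N v) ∈ E₂ := hqE2 _ h1
    obtain ⟨_, ⟨a, rfl⟩, _, ⟨b, rfl⟩, hab⟩ := Submodule.mem_sup.1 h3
    have h4 : N (N (N v)) = (4 : F) • N v := by rw [hNN, hNN, smul_smul]; norm_num
    have h40 : (4 : F) ≠ 0 := by
      have := mul_ne_zero h2 h2
      norm_num at this
      exact this
    rw [← inv_smul_smul₀ h40 (N v), ← h4, ← hab, map_add]
    refine Submodule.smul_mem _ _ (Submodule.add_mem _ (Submodule.mem_sup_left ⟨a, ?_⟩)
      (Submodule.mem_sup_right ⟨b, ?_⟩))
    · simp [hN, hα₁, Jp, J_apply, hhp]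
      exact map_sub (J u') _ _
    · simp only [hN, LinearMap.sub_apply, Module.End.one_apply, LinearMap.comp_apply, hhw, hα₁, map_sub]
  set l₁ := Module.finrank F (LinearMap.range α₁) with hl₁
  have hNd : Module.finrank F (LinearMap.range N) ≤ 2 * l₁ := by
    refine (Submodule.finrank_mono hNR).trans ?_
    have h' := Submodule.finrank_sup_add_finrank_inf_eq (LinearMap.range (Jp.comp α₁))
      (LinearMap.range (Jw.comp (T'.comp α₁)))
    have a1 : Module.finrank F (LinearMap.range (Jp.comp α₁)) ≤ l₁ := by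
      rw [LinearMap.range_comp]; exact Submodule.finrank_map_le _ _
    have a2 : Module.finrank F (LinearMap.range (Jw.comp (T'.comp α₁))) ≤ l₁ := by
      rw [← LinearMap.comp_assoc, LinearMap.range_comp]; exact Submodule.finrank_map_le _ _
    omega
  have hne : α ≠ 1 := by
    intro e
    have hN0 : N = 0 := by
      refine LinearMap.ext fun v => ?_
      have hm : N v ∈ LinearMap.range (Jp.comp α₁) ⊔ LinearMap.range (Jw.comp (T'.comp α₁)) := hNR ⟨v, rfl⟩
      simpa [hα₁, e] using hm
    have hh1 : h = 1 := op_ext fun v => by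
      have := LinearMap.congr_fun hN0 v
      rw [hN, LinearMap.sub_apply, Module.End.one_apply, LinearMap.zero_apply, sub_eq_zero] at this
      rw [this, op_one]
    have ha1 : m'.1 0 0 = 1 := hact_inj (by rw [map_one, ← hα, e])
    apply hq1
    refine Subtype.ext (Prod.ext hh1 (Subtype.ext ?_))
    show m'.1 = 1
    ext i j
    fin_cases i <;> fin_cases j <;> simp [ha1, hent.1, hent.2.1, hent.2.2]
  -- the two factors
  obtain ⟨γ, β₀, hγβ⟩ := exists_kr (E.ruler NT hqM hu' hu' fun y => ⟨_, hhp y⟩)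
  let i₀ : Fin l := ⟨0, by have := E.hl; omega⟩
  set y₀ : Fin l → F := Pi.single i₀ 1 with hy₀d
  have hy0 : y₀ ≠ 0 := by simp [hy₀d]
  have hγ0 : (γ : Matrix (Fin l) (Fin l) F) *ᵥ y₀ ≠ 0 := fun e => hy0 (by
    rw [← TransvectionMax.inv_act_act γ y₀, e, Matrix.mulVec_zero])
  obtain ⟨i, hi⟩ := Function.ne_iff.1 hγ0
  set ζ := α y₀ i / ((γ : Matrix (Fin l) (Fin l) F) *ᵥ y₀) i with hζ
  have hζu : (β₀ : Matrix (Fin n) (Fin n) F) *ᵥ u' = ζ • u' := funext fun j => by
    have := congrFun (hhp y₀) (i, j)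
    rw [hγβ, op_kr] at this
    simp only [tp] at this
    rw [Pi.smul_apply, smul_eq_mul, hζ, div_mul_eq_mul_div, eq_div_iff hi]
    linear_combination this
  have hζ0 : ζ ≠ 0 := fun e => hu' (by
    rw [← TransvectionMax.inv_act_act β₀ u', hζu, e, zero_smul, Matrix.mulVec_zero])
  set β : Module.End F (Fin n → F) := ζ⁻¹ • Matrix.toLin' (β₀ : Matrix (Fin n) (Fin n) F) with hβ
  have hβu : β u' = u' := by
    rw [hβ, LinearMap.smul_apply, Matrix.toLin'_apply, hζu, smul_smul, inv_mul_cancel₀ hζ0, one_smul]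
  have hhtp : ∀ y x, op h (tp y x) = tp (α y) (β x) := by
    intro y x
    obtain ⟨j, hj⟩ := Function.ne_iff.1 hu'
    have hαy : α y = ζ • ((γ : Matrix (Fin l) (Fin l) F) *ᵥ y) := funext fun a => by
      have := congrFun (hhp y) (a, j)
      rw [hγβ, op_kr, hζu] at this
      simp only [tp, Pi.smul_apply, smul_eq_mul] at this ⊢
      exact mul_right_cancel₀ hj (by linear_combination -this)
    rw [hγβ, op_kr, hαy, hβ, LinearMap.smul_apply, Matrix.toLin'_apply, tp_smul_left, tp_smul_right, smul_smul,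
      mul_inv_cancel₀ hζ0, one_smul]
  have hββ : ∀ x, β (β x) = x := fun x => funext fun j => by
    have h' : op h (op h (tp y₀ x)) = tp y₀ x := by rw [← op_mul, hhh, op_one]
    rw [hhtp, hhtp, hαα] at h'
    simpa [tp, hy₀d] using congrFun h' (i₀, j)
  have hpresh : ∀ y z x x', B (α y) (α z) * f (β x) (β x') = B y z * f x x' := fun y z x x' => by
    have := E.pres h hqM (tp y x) (tp z x')
    rwa [hhtp, hhtp, E.tF_tp, E.tF_tp] at this
  set Up : Submodule F (Fin n → F) := LinearMap.ker (β - 1) with hUp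
  set Um : Submodule F (Fin n → F) := LinearMap.ker (β + 1) with hUm
  have mUp : ∀ x, x ∈ Up ↔ β x = x := fun x => by simp [hUp, sub_eq_zero]
  have mUm : ∀ x, x ∈ Um ↔ β x = -x := fun x => by simp [hUm, add_eq_zero_iff_eq_neg]
  have hNp : ∀ x ∈ Up, ∀ y, α y = -y → tp y x ∈ LinearMap.range N := fun x hx y hy =>
    ⟨(-2 : F)⁻¹ • tp y x, by
      have e : op h (tp y x) = -tp y x := by
        rw [hhtp, (mUp x).1 hx, hy]
        exact map_neg (J x) y
      have h2' : (-2 : F) ≠ 0 := neg_ne_zero.2 h2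
      rw [map_smul, hN, LinearMap.sub_apply, Module.End.one_apply, e,
        show -tp y x - tp y x = (-2 : F) • tp y x by module, smul_smul, inv_mul_cancel₀ h2', one_smul]⟩
  have hNm : ∀ x ∈ Um, ∀ y, α y = y → tp y x ∈ LinearMap.range N := fun x hx y hy =>
    ⟨(-2 : F)⁻¹ • tp y x, by
      have e : op h (tp y x) = -tp y x := by
        rw [hhtp, (mUm x).1 hx, hy, show -x = (-1 : F) • x by simp, tp_smul_right, neg_one_smul]
      have h2' : (-2 : F) ≠ 0 := neg_ne_zero.2 h2
      rw [map_smul, hN, LinearMap.sub_apply, Module.End.one_apply, e,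
        show -tp y x - tp y x = (-2 : F) • tp y x by module, smul_smul, inv_mul_cancel₀ h2', one_smul]⟩
  set Y₁ : Submodule F (Fin l → F) := LinearMap.ker (α + 1) with hY₁
  set Y₀ : Submodule F (Fin l → F) := LinearMap.ker (α - 1) with hY₀
  have mY1 : ∀ y, y ∈ Y₁ → α y = -y := fun y hy => by
    rw [hY₁, LinearMap.mem_ker, LinearMap.add_apply, Module.End.one_apply, add_eq_zero_iff_eq_neg] at hy
    exact hy
  have mY0 : ∀ y, y ∈ Y₀ → α y = y := fun y hy => by
    rw [hY₀, LinearMap.mem_ker, LinearMap.sub_apply, Module.End.one_apply, sub_eq_zero] at hy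
    exact hy
  have hY1r : LinearMap.range α₁ = Y₁ := by
    apply le_antisymm
    · rintro _ ⟨y, rfl⟩
      simp [hY₁, hα₁, map_sub, hαα]
      abel
    · intro y hy
      refine ⟨(-2 : F)⁻¹ • y, ?_⟩
      rw [hα₁, map_smul, LinearMap.sub_apply, Module.End.one_apply, mY1 y hy,
        show -y - y = (-2 : F) • y by module, smul_smul, inv_mul_cancel₀ (neg_ne_zero.2 h2), one_smul]
  have hl1pos : 0 < l₁ := by
    refine Nat.pos_of_ne_zero fun e => hne ?_
    have e0 : LinearMap.range α₁ = ⊥ := Submodule.finrank_eq_zero.1 (hl₁ ▸ e)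
    rw [LinearMap.range_eq_bot, hα₁, sub_eq_zero] at e0
    exact e0
  have hY1d : Module.finrank F Y₁ = l₁ := by rw [hl₁, hY1r]
  have hUp2 : Module.finrank F Up ≤ 2 := by
    by_contra hlt
    obtain ⟨w, hw⟩ : ∃ w : Fin 3 → Up, LinearIndependent F w := exists_linearIndependent_of_le_finrank (by omega)
    have := count_tp (fun a => (w a : Fin n → F)) (hw.map' Up.subtype Up.ker_subtype) (fun _ => Y₁) _
      fun a y hy => hNp _ (w a).2 y (mY1 y hy)
    simp only [Fin.sum_univ_three, hY1d] at this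
    omega
  have hu'p : u' ∈ Up := (mUp u').2 hβu
  -- a second fixed vector
  obtain ⟨x₂, hx₂, hx₂u⟩ : ∃ x₂ ∈ Up, x₂ ∉ Submodule.span F ({u'} : Set (Fin n → F)) := by
    by_contra hcon
    push Not at hcon
    obtain ⟨d, hd⟩ := E.exists_dual hu'
    have hfb := E.hf.bilinear
    let φ₀ : (Fin n → F) →ₗ[F] F := (TransvectionMax.fLeft hfb d).comp (β + 1)
    have hφ0 : ∀ x, β x = -x + φ₀ x • u' := fun x => by
      obtain ⟨t, ht⟩ := Submodule.mem_span_singleton.1 (hcon (β x + x) ((mUp _).2 (by rw [map_add, hββ, add_comm])))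
      have e : φ₀ x = t := by
        show f (β x + x) d = t
        rw [← ht, hfb.smul_left, hd, mul_one]
      rw [e, ht]
      abel
    let L : (Fin n → F) →ₗ[F] F × F := φ₀.prod (TransvectionMax.fLeft hfb u')
    obtain ⟨x, hx, hx0⟩ := Submodule.exists_mem_ne_zero_of_ne_bot (p := LinearMap.ker L) (fun e => by
      have := LinearMap.finrank_range_add_finrank_ker L
      have h' := Submodule.finrank_le (LinearMap.range L)
      rw [e, finrank_bot, Module.finrank_fin_fun] at this
      rw [Module.finrank_prod, Module.finrank_self] at h'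
      have := E.hn
      omega)
    have hxφ : φ₀ x = 0 := congrArg Prod.fst hx
    have hxu : f x u' = 0 := congrArg Prod.snd hx
    obtain ⟨-, z, hz⟩ := E.hf.nondegenerate x hx0
    have hφu : φ₀ u' = 2 := by
      show f (β u' + u') d = 2
      rw [hβu, hfb.add_left, hd]
      ring
    set y := z - (φ₀ z / 2) • u' with hy
    have hyφ : φ₀ y = 0 := by rw [hy, map_sub, map_smul, hφu, smul_eq_mul, div_mul_cancel₀ _ h2, sub_self]
    have hxy : f x y ≠ 0 := by
      rw [hy, TransvectionMax.sub_right hfb, hfb.smul_right, hxu, mul_zero, sub_zero]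
      exact hz
    have hαiso : ∀ a b, B (α a) (α b) = B a b := fun a b => by
      have e := hpresh a b x y
      rw [hφ0 x, hφ0 y, hxφ, hyφ, zero_smul, add_zero, add_zero, TransvectionMax.neg_left hfb,
        TransvectionMax.neg_right hfb, neg_neg] at e
      exact mul_right_cancel₀ hxy e
    obtain ⟨a, b, hab⟩ : ∃ a b, B a b ≠ 0 := by
      by_contra hc'
      push Not at hc'
      exact hy0 (E.sB.nd y₀ (hc' y₀))
    have e := hpresh a b d u'
    rw [hαiso, hφ0 d, hβu] at e
    have e2 := mul_left_cancel₀ hab e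
    rw [hfb.add_left, hfb.smul_left, TransvectionMax.neg_left hfb, E.hf.alternating, E.hf.skew d u', hd] at e2
    exact h2 (by linear_combination e2)
  have hli2 : LinearIndependent F ![u', x₂] := by
    rw [LinearIndependent.pair_iff]
    intro s t hst
    have ht : t = 0 := by
      by_contra ht
      refine hx₂u (Submodule.mem_span_singleton.2 ⟨-(t⁻¹ * s), ?_⟩)
      have := congrArg (fun v => t⁻¹ • v) hst
      simp only [smul_add, smul_smul, inv_mul_cancel₀ ht, one_smul, smul_zero] at this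
      rw [neg_smul]
      exact (eq_neg_of_add_eq_zero_right this).symm
    refine ⟨?_, ht⟩
    rw [ht, zero_smul, add_zero] at hst
    exact (smul_eq_zero.1 hst).resolve_right hu'
  obtain ⟨x₃, hx₃, hx₃0⟩ : ∃ x₃ ∈ Um, x₃ ≠ 0 := by
    by_contra hcon
    push Not at hcon
    have htop : Up = ⊤ := Submodule.eq_top_iff'.2 fun x => (mUp x).2 (by
      have := hcon (x - β x) ((mUm _).2 (by rw [map_sub, hββ, neg_sub]))
      exact (sub_eq_zero.1 this).symm)
    rw [htop, finrank_top, Module.finrank_fin_fun] at hUp2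
    have := E.hn
    omega
  have hli3 : LinearIndependent F ![u', x₂, x₃] := by
    rw [Fintype.linearIndependent_iff]
    intro c hc' a
    rw [Fin.sum_univ_three] at hc'
    simp only [Matrix.cons_val_zero, Matrix.cons_val_one, Matrix.cons_val_two, Matrix.tail_cons, Matrix.head_cons] at hc'
    have h' := congrArg β hc'
    rw [map_add, map_add, map_smul, map_smul, map_smul, map_zero, hβu, (mUp _).1 hx₂, (mUm _).1 hx₃] at h'
    have hc2 : c 2 = 0 := by
      have h3 : (2 * c 2) • x₃ = 0 := by linear_combination (norm := module) hc' - h'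
      exact (mul_eq_zero.1 ((smul_eq_zero.1 h3).resolve_right hx₃0)).resolve_left h2
    rw [hc2, zero_smul, add_zero] at hc'
    obtain ⟨h0', h1'⟩ := LinearIndependent.pair_iff.1 hli2 _ _ hc'
    fin_cases a
    exacts [h0', h1', hc2]
  have hY00 : Y₀ = ⊥ := by
    have := count_tp ![u', x₂, x₃] hli3 ![Y₁, Y₁, Y₀] (LinearMap.range N) (fun a y hy => by
      fin_cases a
      exacts [hNp _ hu'p y (mY1 y hy), hNp _ hx₂ y (mY1 y hy), hNm _ hx₃ y (mY0 y hy)])
    rw [Fin.sum_univ_three] at this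
    change Module.finrank F Y₁ + Module.finrank F Y₁ + Module.finrank F Y₀ ≤ _ at this
    rw [hY1d] at this
    exact Submodule.finrank_eq_zero.1 (by omega)
  have hαneg : ∀ y, α y = -y := fun y => by
    have : y + α y ∈ Y₀ := by simp [hY₀, map_add, hαα, add_comm]
    rw [hY00, Submodule.mem_bot, add_eq_zero_iff_eq_neg'] at this
    exact this
  -- the image of the ruler
  let Ψ : ((Fin l → F) × (Fin l → F)) →ₗ[F] Sp F l n := (J u').coprod (J x₂)
  have hΨN : LinearMap.range Ψ ≤ LinearMap.range N := by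
    rintro _ ⟨⟨a, b⟩, rfl⟩
    exact Submodule.add_mem _ (hNp _ hu'p a (hαneg a)) (hNp _ hx₂ b (hαneg b))
  have hΨd : Module.finrank F (LinearMap.range Ψ) = 2 * l := by
    rw [LinearMap.finrank_range_of_inj, Module.finrank_prod, Module.finrank_fin_fun, two_mul]
    rw [← LinearMap.ker_eq_bot, LinearMap.ker_eq_bot']
    rintro ⟨a, b⟩ hab
    have hab' : tp a u' + tp b x₂ = 0 := hab
    have key : ∀ c, a c = 0 ∧ b c = 0 := fun c => LinearIndependent.pair_iff.1 hli2 _ _ (funext fun j => by
      simpa [tp] using congrFun hab' (c, j))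
    exact Prod.ext (funext fun c => (key c).1) (funext fun c => (key c).2)
  have hle2 : LinearMap.range N ≤ E₂ := hNR.trans (sup_le_sup (LinearMap.range_comp_le_range α₁ Jp)
    (by rw [← LinearMap.comp_assoc]; exact LinearMap.range_comp_le_range α₁ (Jw.comp T')))
  have hE2d : Module.finrank F E₂ ≤ l + Module.finrank F (LinearMap.range T') := by
    have h' := Submodule.finrank_sup_add_finrank_inf_eq (LinearMap.range Jp) (LinearMap.range (Jw.comp T'))
    have a1 : Module.finrank F (LinearMap.range Jp) ≤ l := (LinearMap.finrank_range_le _).trans_eq (by simp)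
    have a2 : Module.finrank F (LinearMap.range (Jw.comp T')) ≤ Module.finrank F (LinearMap.range T') := by
      rw [LinearMap.range_comp]; exact Submodule.finrank_map_le _ _
    show Module.finrank F (LinearMap.range Jp ⊔ LinearMap.range (Jw.comp T') : Submodule F (Sp F l n)) ≤ _
    omega
  have hTr : Module.finrank F (LinearMap.range T') ≤ l := (Submodule.finrank_le _).trans_eq (by simp)
  have hsand := Submodule.finrank_mono (hΨN.trans hle2)
  have heq : LinearMap.range Ψ = E₂ := Submodule.eq_of_le_of_finrank_le (hΨN.trans hle2) (by omega)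
  have hT'top : LinearMap.range T' = ⊤ :=
    Submodule.eq_top_of_finrank_eq (by rw [Module.finrank_fin_fun]; omega)
  refine ⟨Up, hUp2, hu'p, fun y a => ?_⟩
  obtain ⟨y', rfl⟩ : ∃ y', T' y' = y := LinearMap.range_eq_top.1 hT'top y
  have hmem : op g (tp (T' y') u) ∈ LinearMap.range Ψ := by
    rw [heq]
    exact Submodule.mem_sup_right ⟨y', rfl⟩
  obtain ⟨⟨a₁, b₁⟩, he⟩ := hmem
  rw [← he]
  convert Up.add_mem (Up.smul_mem (a₁ a) hu'p) (Up.smul_mem (b₁ a) hx₂) using 1
  funext j
  simp [Ψ, J_apply, tp]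

/-- Every element lies in the tensor stabiliser. -/
theorem Env.le_kron (NT : Scal M f) : M ≤ Cfsg.Geo.kroneckerSubgroup l n F := by
  classical
  intro g hg
  by_contra hgK
  let j₀ : Fin n := ⟨0, by have := E.hn; omega⟩
  set u : Fin n → F := Pi.single j₀ 1 with hud
  have hu : u ≠ 0 := by simp [hud]
  have plane : ∀ u', u' ≠ 0 → ∃ P : Submodule F (Fin n → F), Module.finrank F P ≤ 2 ∧ u' ∈ P ∧
      ∀ y i, (fun j => op g (tp y u) (i, j)) ∈ P := by
    intro u' hu'
    set T : Module.End F (Fin l → F) := (Pf f l u').comp ((op g).comp (J u))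
    set T' : Module.End F (Fin l → F) := (Pf f l u).comp ((op g⁻¹).comp (J u'))
    by_cases hS : IsNilpotent (T * T')
    · obtain ⟨k, hk⟩ := hS
      exact absurd (E.pair_nil NT hg hu hu' (T := T) (T' := T') (fun y => rfl) (fun y => rfl) hk) hgK
    · exact E.pair_inv NT hg hu' (T := T) (T' := T') (fun y => rfl) (fun y => rfl) hS
  obtain ⟨P, hP2, huP, hP⟩ := plane u hu
  obtain ⟨u', hu'P⟩ : ∃ u', u' ∉ P := by
    by_contra hcon
    push Not at hcon
    rw [Submodule.eq_top_iff'.2 hcon, finrank_top, Module.finrank_fin_fun] at hP2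
    have := E.hn
    omega
  obtain ⟨P', hP'2, hu'P', hP'⟩ := plane u' (fun e => hu'P (e ▸ P.zero_mem))
  have hlt : P ⊓ P' < P' := lt_of_le_of_ne inf_le_right fun e => hu'P (inf_le_left (a := P) (e.symm ▸ hu'P'))
  have hd := Submodule.finrank_lt_finrank_of_lt hlt
  obtain ⟨v, hv, hvs⟩ : ∃ v : Fin n → F, v ≠ 0 ∧ P ⊓ P' ≤ Submodule.span F {v} := by
    by_cases hb : P ⊓ P' = ⊥
    · exact ⟨u, hu, hb ▸ bot_le⟩
    obtain ⟨v, hv, hv0⟩ := Submodule.exists_mem_ne_zero_of_ne_bot hb
    refine ⟨v, hv0, le_of_eq (Submodule.eq_of_le_of_finrank_le ((Submodule.span_singleton_le_iff_mem _ _).2 hv) ?_).symm⟩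
    rw [finrank_span_singleton hv0]
    omega
  refine hgK (E.ruler NT hg hu hv fun y => ?_)
  choose c hc using fun i => Submodule.mem_span_singleton.1 (hvs ⟨hP y i, hP' y i⟩)
  exact ⟨c, funext fun q => (congrFun (hc q.1) q.2).symm⟩

end Cfsg.Agent.TensorSp44
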