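import Cfsg.Agent.Lib.TensorSp44Base

/-!
An overgroup in which all roots have scalar operators: elements that unipotently fix a ruler `Y ⊗ u` are built
from vectors orthogonal to `u`.
-/

set_option autoImplicit false
set_option linter.unusedSectionVars false
set_option maxHeartbeats 400000

namespace Cfsg.Agent.TensorSp44

open scoped Matrix MatrixGroups Kronecker
open Cfsg.Agent.TensorMax
open Cfsg.Agent.TransvectionMax

variable {F : Type*} [Field F] {n l : ℕ}
variable {B : (Fin l → F) → (Fin l → F) → F} {f : (Fin n → F) → (Fin n → F) → F}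
variable {M : Subgroup (GL (Fin l × Fin n) F)}

/-- Roots in the group have scalar operators. -/
def Scal (M : Subgroup (GL (Fin l × Fin n) F)) (f : (Fin n → F) → (Fin n → F) → F) : Prop :=
  ∀ A : Module.End F (Fin l → F), (∀ u, El M (SOp f u A u)) → ∃ c : F, A = c • 1

theorem el_mul {N N' : Module.End F (Sp F l n)} (h : El M N) (h' : El M N') : El M (N + N' + N * N') := by
  obtain ⟨g, hg, hgN⟩ := h
  obtain ⟨g', hg', hgN'⟩ := h'
  refine ⟨g * g', M.mul_mem hg hg', ?_⟩
  rw [El.lin_mul, hgN, hgN', mul_add, mul_one, add_mul, one_mul]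
  abel

theorem el_inv {N : Module.End F (Sp F l n)} (h : El M N) (h3 : N * (N * N) = 0) : El M (-N + N * N) := by
  obtain ⟨g, hg, hgN⟩ := h
  refine ⟨g⁻¹, M.inv_mem hg, ?_⟩
  have e : (1 + N) * (1 + (-N + N * N)) = 1 := by
    refine LinearMap.ext fun v => ?_
    have h3' : N (N (N v)) = 0 := LinearMap.congr_fun h3 v
    simp only [Module.End.mul_apply, LinearMap.add_apply, LinearMap.neg_apply, Module.End.one_apply, map_add,
      map_neg, h3']
    abel
  calc _ = Matrix.toLin' ((g⁻¹ : GL (Fin l × Fin n) F) : Matrix _ _ F) * ((1 + N) * (1 + (-N + N * N))) := by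
        rw [e, mul_one]
    _ = _ := by
        rw [← mul_assoc, ← hgN, ← El.lin_mul, inv_mul_cancel, Units.val_one, Matrix.toLin'_one]
        exact one_mul _

theorem el_diff {N N' : Module.End F (Sp F l n)} (h : El M N) (h' : El M N') (e : (N - N') * N' = 0) :
    El M (N - N') := by
  obtain ⟨g, hg, hgN⟩ := h
  obtain ⟨g', hg', hgN'⟩ := h'
  refine ⟨g * g'⁻¹, M.mul_mem hg (M.inv_mem hg'), ?_⟩
  have e' : 1 + N = (1 + (N - N')) * (1 + N') := by
    rw [mul_add, mul_one, add_mul, one_mul, e, add_zero]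
    abel
  rw [El.lin_mul, hgN, e', ← hgN', mul_assoc, ← El.lin_mul, mul_inv_cancel, Units.val_one, Matrix.toLin'_one]
  exact mul_one _

variable (E : Env B f M)
include E

theorem Env.exists_dual {u : Fin n → F} (hu : u ≠ 0) : ∃ d, f u d = 1 := by
  obtain ⟨-, w, hw⟩ := E.hf.nondegenerate u hu
  exact ⟨(f u w)⁻¹ • w, by rw [E.hf.bilinear.smul_right, inv_mul_cancel₀ hw]⟩

theorem Env.el_one (u : Fin n → F) : El M (SOp f u 1 u) := E.one_mem u

theorem Env.eq_B' {W : Type*} [AddCommGroup W] [Module F W] {T T' : W →ₗ[F] (Fin l → F)}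
    (h : ∀ v y, B (T v) y = B (T' v) y) : T = T' :=
  LinearMap.ext fun v => E.eq_B (h v)

/-- A vector all whose contractions at `u^⊥` vanish lies on the ruler. -/
theorem Env.perp_line {u d : Fin n → F} (hd : f u d = 1) {v : Sp F l n}
    (h : ∀ w, f w u = 0 → Pf f l w v = 0) : v = tp (Pf f l d v) u := by
  funext p
  obtain ⟨i, j⟩ := p
  have hb := E.hf.bilinear
  set r : Fin n → F := fun j => v (i, j) with hr
  have hw : ∀ w, f w u = 0 → f r w = 0 := fun w hw => by
    have := congrFun (h w hw) i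
    rwa [Pf_apply E.sf] at this
  suffices hr0 : r - f r d • u = 0 by
    show r j = Pf f l d v i * u j
    rw [Pf_apply E.sf, sub_eq_zero.1 hr0]
    simp [hr]
  refine E.sf.nd _ fun x => ?_
  have hx : f (x - f u x • d) u = 0 := by
    rw [TransvectionMax.sub_left hb, hb.smul_left, E.hf.skew d u, hd, E.hf.skew x u]
    ring
  have h1 := hw _ hx
  rw [TransvectionMax.sub_right hb, hb.smul_right] at h1
  rw [TransvectionMax.sub_left hb, hb.smul_left]
  linear_combination h1

/-- `1 + J_u Φ' + Φ P_u + J_u C P_u`, minus one. -/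
def rN (f : (Fin n → F) → (Fin n → F) → F) (u : Fin n → F) (Φ : (Fin l → F) →ₗ[F] Sp F l n)
    (Φ' : Sp F l n →ₗ[F] (Fin l → F)) (C : Module.End F (Fin l → F)) : Module.End F (Sp F l n) :=
  (J u).comp Φ' + Φ.comp (Pf f l u) + SOp f u C u

omit E in
theorem rN_apply (f : (Fin n → F) → (Fin n → F) → F) (u : Fin n → F) (Φ : (Fin l → F) →ₗ[F] Sp F l n)
    (Φ' : Sp F l n →ₗ[F] (Fin l → F)) (C : Module.End F (Fin l → F)) (v : Sp F l n) :
    rN f u Φ Φ' C v = tp (Φ' v) u + Φ (Pf f l u v) + tp (C (Pf f l u v)) u := rfl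

/-- Adjoint maps. -/
def Adj (B : (Fin l → F) → (Fin l → F) → F) (f : (Fin n → F) → (Fin n → F) → F)
    (Φ : (Fin l → F) →ₗ[F] Sp F l n) (Φ' : Sp F l n →ₗ[F] (Fin l → F)) : Prop :=
  ∀ v y, B (Φ' v) y = tForm (RingHom.id F) B f v (Φ y)

/-- `Φ` belongs to the unipotent radical at `u` of the group. -/
def Rad (M : Subgroup (GL (Fin l × Fin n) F)) (B : (Fin l → F) → (Fin l → F) → F)
    (f : (Fin n → F) → (Fin n → F) → F) (u : Fin n → F) (Φ : (Fin l → F) →ₗ[F] Sp F l n) : Prop :=
  (∀ y, Pf f l u (Φ y) = 0) ∧ ∃ Φ' C, Adj B f Φ Φ' ∧ El M (rN f u Φ Φ' C)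

theorem Env.adj_zero {u : Fin n → F} {Φ : (Fin l → F) →ₗ[F] Sp F l n} {Φ' : Sp F l n →ₗ[F] (Fin l → F)}
    (hP : ∀ y, Pf f l u (Φ y) = 0) (hA : Adj B f Φ Φ') (y : Fin l → F) : Φ' (tp y u) = 0 := by
  refine E.sB.nd _ fun z => ?_
  rw [hA, E.tF_left, E.tF_right, hP, E.sB.zero_left, neg_zero]

theorem Env.adj_J (w : Fin n → F) : Adj B f (J w) (Pf f l w) := fun v y => (E.tF_right v y w).symm

theorem Env.adj_add {Φ Ψ : (Fin l → F) →ₗ[F] Sp F l n} {Φ' Ψ' : Sp F l n →ₗ[F] (Fin l → F)}
    (h : Adj B f Φ Φ') (h' : Adj B f Ψ Ψ') : Adj B f (Φ + Ψ) (Φ' + Ψ') := fun v y => by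
  rw [LinearMap.add_apply, E.hB.bilinear.add_left, h, h', LinearMap.add_apply, E.tF_add_right]

theorem Env.adj_neg {Φ : (Fin l → F) →ₗ[F] Sp F l n} {Φ' : Sp F l n →ₗ[F] (Fin l → F)}
    (h : Adj B f Φ Φ') : Adj B f (-Φ) (-Φ') := fun v y => by
  rw [LinearMap.neg_apply, TransvectionMax.neg_left E.hB.bilinear, h, LinearMap.neg_apply,
    TransvectionMax.neg_right E.tF_bilin]

theorem Env.rN_mul {u : Fin n → F} {Φ Ψ : (Fin l → F) →ₗ[F] Sp F l n} {Φ' Ψ' : Sp F l n →ₗ[F] (Fin l → F)}
    {C D : Module.End F (Fin l → F)} (hΦ : ∀ y, Pf f l u (Φ y) = 0) (hA : Adj B f Φ Φ')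
    (hΨ : ∀ y, Pf f l u (Ψ y) = 0) :
    rN f u Φ Φ' C * rN f u Ψ Ψ' D = SOp f u (Φ'.comp Ψ) u := by
  refine LinearMap.ext fun v => ?_
  show rN f u Φ Φ' C (rN f u Ψ Ψ' D v) = _
  simp only [rN_apply, map_add, Pf_tp E.sf, E.hf.alternating, hΨ, E.adj_zero hΦ hA, zero_smul, map_zero,
    tp_zero_left, zero_add, add_zero, SOp_apply, LinearMap.comp_apply]

theorem Env.SOp_rN {u : Fin n → F} {Φ : (Fin l → F) →ₗ[F] Sp F l n} {Φ' : Sp F l n →ₗ[F] (Fin l → F)}
    {C A : Module.End F (Fin l → F)} (hΦ : ∀ y, Pf f l u (Φ y) = 0) :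
    SOp f u A u * rN f u Φ Φ' C = 0 := by
  refine LinearMap.ext fun v => ?_
  show SOp f u A u (rN f u Φ Φ' C v) = 0
  simp only [rN_apply, SOp_apply, map_add, Pf_tp E.sf, E.hf.alternating, hΦ, zero_smul, map_zero, tp_zero_left,
    zero_add, add_zero]

theorem Env.rad_J {u : Fin n → F} {w : Fin n → F} (hw : f w u = 0) : Rad M B f u (J w) := by
  refine ⟨fun y => by rw [J_apply, Pf_tp E.sf, hw, zero_smul], Pf f l w, 1, E.adj_J w, ?_⟩
  have hneg : El M (-SOp f w 1 w) := by
    rw [neg_SOp]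
    exact (E.SA.neg_mem E.one_mem) w
  have h := (E.el_one (u + w)).add hneg (by
    rw [neg_SOp, SOp_mul E.sf, E.hf.bilinear.add_right, E.hf.alternating, hw, add_zero, zero_smul])
  convert h using 1
  rw [SOp_add_left E.sf, SOp_add_right E.sf, SOp_add_right E.sf]
  refine LinearMap.ext fun v => ?_
  simp only [rN_apply, LinearMap.add_apply, LinearMap.neg_apply, SOp_apply, J_apply, Module.End.one_apply]
  abel

theorem Env.rad_add {u : Fin n → F} {Φ Ψ : (Fin l → F) →ₗ[F] Sp F l n} (h : Rad M B f u Φ)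
    (h' : Rad M B f u Ψ) : Rad M B f u (Φ + Ψ) := by
  obtain ⟨hP, Φ', C, hA, hN⟩ := h
  obtain ⟨hP', Ψ', D, hA', hN'⟩ := h'
  refine ⟨fun y => by rw [LinearMap.add_apply, map_add, hP, hP', add_zero], Φ' + Ψ', C + D + Φ'.comp Ψ,
    E.adj_add hA hA', ?_⟩
  convert el_mul hN hN' using 1
  rw [E.rN_mul hP hA hP']
  refine LinearMap.ext fun v => ?_
  simp only [rN_apply, LinearMap.add_apply, SOp_apply, tp_add_left]
  abel

theorem Env.rad_neg {u : Fin n → F} {Φ : (Fin l → F) →ₗ[F] Sp F l n} (h : Rad M B f u Φ) :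
    Rad M B f u (-Φ) := by
  obtain ⟨hP, Φ', C, hA, hN⟩ := h
  refine ⟨fun y => by rw [LinearMap.neg_apply, map_neg, hP, neg_zero], -Φ', -C + Φ'.comp Φ, E.adj_neg hA, ?_⟩
  convert el_inv hN (by
    rw [E.rN_mul hP hA hP]
    refine LinearMap.ext fun v => ?_
    show rN f u Φ Φ' C (SOp f u (Φ'.comp Φ) u v) = 0
    simp [rN_apply, SOp_apply, Pf_tp E.sf, E.hf.alternating, E.adj_zero hP hA, tp_zero_left]) using 1
  rw [E.rN_mul hP hA hP]
  refine LinearMap.ext fun v => ?_
  simp only [rN_apply, LinearMap.add_apply, LinearMap.neg_apply, SOp_apply, ← J_apply, map_add, map_neg]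
  abel

/-- Commutators in the radical give scalar operators. -/
theorem Env.rad_comm (NT : Scal M f) {u : Fin n → F} (hu : u ≠ 0) {Φ Ψ : (Fin l → F) →ₗ[F] Sp F l n}
    {Φ' Ψ' : Sp F l n →ₗ[F] (Fin l → F)} (h : Rad M B f u Φ) (hA : Adj B f Φ Φ') (h' : Rad M B f u Ψ)
    (hA' : Adj B f Ψ Ψ') : ∃ c : F, ∀ y, Φ' (Ψ y) - Ψ' (Φ y) = c • y := by
  obtain ⟨hP, Φ₁, C, hA₁, hN⟩ := h
  obtain ⟨hP', Ψ₁, D, hA₁', hN'⟩ := h'
  obtain rfl : Φ₁ = Φ' := E.eq_B' fun v y => by rw [hA, hA₁]
  obtain rfl : Ψ₁ = Ψ' := E.eq_B' fun v y => by rw [hA', hA₁']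
  have e₁ := el_mul hN hN'
  have e₂ := el_mul hN' hN
  rw [E.rN_mul hP hA hP'] at e₁
  rw [E.rN_mul hP' hA' hP] at e₂
  have e : rN f u Φ Φ₁ C + rN f u Ψ Ψ₁ D + SOp f u (Φ₁.comp Ψ) u -
      (rN f u Ψ Ψ₁ D + rN f u Φ Φ₁ C + SOp f u (Ψ₁.comp Φ) u) = SOp f u (Φ₁.comp Ψ - Ψ₁.comp Φ) u := by
    refine LinearMap.ext fun v => ?_
    simp only [LinearMap.add_apply, LinearMap.sub_apply, SOp_apply, ← J_apply, map_sub]
    abel
  have h := el_diff e₁ e₂ (by
    rw [e, mul_add, mul_add, E.SOp_rN hP', E.SOp_rN hP, SOp_mul E.sf, E.hf.alternating, zero_smul, add_zero,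
      add_zero])
  rw [e] at h
  obtain ⟨c, hc⟩ := NT _ (E.mem_of_el hu h)
  exact ⟨c, fun y => LinearMap.congr_fun hc y⟩

/-- Conjugation by an element normalising the ruler. -/
theorem Env.rad_conj {g : GL (Fin l × Fin n) F} (hg : g ∈ M) {u : Fin n → F} (hu : u ≠ 0)
    {b b' : Module.End F (Fin l → F)} (hJ : ∀ y, op g (tp y u) = tp (b y) u)
    (hb : ∀ x y, B (b x) y = B x (b' y)) {Φ : (Fin l → F) →ₗ[F] Sp F l n} (h : Rad M B f u Φ) :
    Rad M B f u ((op g).comp (Φ.comp b')) := by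
  obtain ⟨hP, Φ', C, hA, hN⟩ := h
  have hP' : ∀ v, Pf f l u (op g⁻¹ v) = b' (Pf f l u v) := fun v => E.eq_B fun y => by
    rw [E.Pf_inv hg, hJ, E.tF_right, E.hB.symm, hb, E.hB.symm]
  have hb' : ∀ x y, B (b' x) y = B x (b y) := fun x y => by rw [E.hB.symm, ← hb, E.hB.symm]
  refine ⟨fun y => E.sB.nd _ fun z => ?_, b.comp (Φ'.comp (op g⁻¹)), b * C * b', fun v y => ?_, ?_⟩
  · have hinj : Function.Injective b := fun x x' e => by
      have e' : op g (tp x u) = op g (tp x' u) := by rw [hJ, hJ, e]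
      have e'' := congrArg (op g⁻¹) e'
      rw [op_inv_app, op_inv_app] at e''
      exact J_injective hu e''
    obtain ⟨z', rfl⟩ := LinearMap.injective_iff_surjective.1 hinj z
    rw [LinearMap.comp_apply, LinearMap.comp_apply, ← E.tF_right, ← hJ, E.pres g hg, E.tF_right, hP,
      E.sB.zero_left]
  · simp only [LinearMap.comp_apply]
    rw [hb, hA]
    calc tForm (RingHom.id F) B f (op g⁻¹ v) (Φ (b' y))
        = tForm (RingHom.id F) B f (op g (op g⁻¹ v)) (op g (Φ (b' y))) := (E.pres g hg _ _).symm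
      _ = _ := by rw [op_app_inv]
  · convert hN.conj hg using 1
    refine LinearMap.ext fun v => ?_
    show _ = op g (rN f u Φ Φ' C (op g⁻¹ v))
    simp only [rN_apply, LinearMap.comp_apply, Module.End.mul_apply, map_add, hJ, hP']

/-- Conjugation by a symplectic transvection of the second factor. -/
theorem Env.rad_st {u d : Fin n → F} (hu : u ≠ 0) (hd : f d u = 0) (z : F) {Φ : (Fin l → F) →ₗ[F] Sp F l n}
    (h : Rad M B f u Φ) : Rad M B f u (z • (J d).comp ((Pf f l d).comp Φ)) := by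
  have hact : ∀ v : Sp F l n, op (kr (1 : GL (Fin l) F) (st f d z)) v = v + z • tp (Pf f l d v) d := fun v => by
    obtain h1 : ∀ y w, op (kr (1 : GL (Fin l) F) (st f d z)) (tp y w) =
        (LinearMap.id + z • (J d).comp (Pf f l d) : Sp F l n →ₗ[F] Sp F l n) (tp y w) := fun y w => by
      rw [op_kr, Units.val_one, Matrix.one_mulVec, st_act E.hf, LinearMap.add_apply, LinearMap.id_apply,
        LinearMap.smul_apply, LinearMap.comp_apply, J_apply, Pf_tp E.sf, tp_add_right, tp_smul_right, tp_smul_left,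
        smul_smul]
    exact LinearMap.congr_fun (ext_tp h1) v
  have h' := E.rad_conj (E.hst d z) hu (b := 1) (b' := 1) (fun y => by
    rw [hact, Pf_tp E.sf, E.hf.skew, hd, neg_zero, zero_smul, tp_zero_left, smul_zero, add_zero]
    rfl) (fun _ _ => rfl) h
  convert E.rad_add h' (E.rad_neg h) using 1
  refine LinearMap.ext fun y => ?_
  simp only [LinearMap.smul_apply, LinearMap.comp_apply, LinearMap.add_apply, LinearMap.neg_apply,
    Module.End.one_apply, J_apply, hact]
  abel

theorem Env.skew_line {u w : Fin n → F} (hw : f w u = 0) (hwu : ∀ t : F, w ≠ t • u) :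
    ∃ d, f d u = 0 ∧ f w d ≠ 0 := by
  by_contra hcon
  push Not at hcon
  by_cases hu : u = 0
  · subst hu
    obtain ⟨-, d, hd⟩ := E.hf.nondegenerate w (by simpa using hwu 0)
    exact hd (hcon d (E.sf.zero_right d))
  obtain ⟨d₀, hd₀⟩ := E.exists_dual hu
  refine hwu (f w d₀) (sub_eq_zero.1 (E.sf.nd _ fun x => ?_))
  have hb := E.hf.bilinear
  have h1 := hcon (x - f u x • d₀) (by
    rw [TransvectionMax.sub_left hb, hb.smul_left, E.hf.skew d₀ u, hd₀, E.hf.skew x u]; ring)
  rw [TransvectionMax.sub_right hb, hb.smul_right] at h1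
  rw [TransvectionMax.sub_left hb, hb.smul_left]
  linear_combination h1

/-- No skew operator survives in the radical. -/
theorem Env.skew_zero (NT : Scal M f) {u w : Fin n → F} (hu : u ≠ 0) (hw : f w u = 0)
    (hwu : ∀ t : F, w ≠ t • u) {K : Module.End F (Fin l → F)} (hK : ∀ x y, B (K x) y = -B x (K y))
    (h : Rad M B f u ((J w).comp K)) : K = 0 := by
  classical
  have hb := E.hB.bilinear
  have h2 := E.two
  obtain ⟨d, hdu, hwd⟩ := E.skew_line hw hwu
  have spread : ∀ {K₁ : Module.End F (Fin l → F)}, Rad M B f u ((J w).comp K₁) →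
      Rad M B f u ((J d).comp K₁) := by
    intro K₁ h₁
    convert E.rad_st hu hdu (f w d)⁻¹ h₁ using 1
    refine LinearMap.ext fun y => ?_
    simp only [LinearMap.smul_apply, LinearMap.comp_apply, J_apply, Pf_tp E.sf]
    rw [← tp_smul_left, smul_smul, inv_mul_cancel₀ hwd, one_smul]
  have anti : ∀ {K₁ K₂ : Module.End F (Fin l → F)}, (∀ x y, B (K₁ x) y = -B x (K₁ y)) →
      (∀ x y, B (K₂ x) y = -B x (K₂ y)) → Rad M B f u ((J w).comp K₁) → Rad M B f u ((J w).comp K₂) →
      ∃ c : F, ∀ y, K₁ (K₂ y) + K₂ (K₁ y) = c • y := by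
    intro K₁ K₂ s₁ s₂ h₁ h₂
    have a₁ : ∀ (a : Fin n → F) (K : Module.End F (Fin l → F)), (∀ x y, B (K x) y = -B x (K y)) →
        Adj B f ((J a).comp K) (-K.comp (Pf f l a)) := fun a K hK v y => by
      rw [LinearMap.neg_apply, TransvectionMax.neg_left hb, LinearMap.comp_apply, hK, neg_neg,
        LinearMap.comp_apply, J_apply, E.tF_right]
    obtain ⟨c, hc⟩ := E.rad_comm NT hu h₁ (a₁ w K₁ s₁) (spread h₂) (a₁ d K₂ s₂)
    refine ⟨(f w d)⁻¹ * c, fun y => ?_⟩
    have := hc y
    simp only [LinearMap.neg_apply, LinearMap.comp_apply, J_apply, Pf_tp E.sf, map_smul, E.hf.skew d w] at this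
    rw [mul_smul, ← this, smul_sub, smul_neg, smul_neg, smul_smul, smul_smul, mul_neg, inv_mul_cancel₀ hwd]
    module
  obtain ⟨c₀, hc₀⟩ := anti hK hK h h
  set s := c₀ / 2 with hs
  have hsq : ∀ y, K (K y) = s • y := fun y => by
    have := hc₀ y
    rw [← two_smul F, ← eq_inv_smul_iff₀ h2] at this
    rw [this, smul_smul, hs]
    ring_nf
  -- the argument at an anisotropic vector
  have key : ∀ z, B z z ≠ 0 → K z = 0 := by
    intro z hz
    have hkz : B (K z) z = 0 := by
      have := hK z z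
      rw [E.hB.symm z (K z)] at this
      have e : (2 : F) * B (K z) z = 0 := by linear_combination this
      exact (mul_eq_zero.1 e).resolve_left h2
    have hzk : B z (K z) = 0 := by rw [E.hB.symm, hkz]
    set lam := 2 / B z z with hlam
    have hlam0 : lam ≠ 0 := div_ne_zero h2 hz
    have hlz : lam * B z z = 2 := div_mul_cancel₀ _ hz
    let r : Module.End F (Fin l → F) :=
      LinearMap.id - (lam • (LinearMap.mk₂ F B hb.add_left (fun c x y => hb.smul_left c x y) hb.add_right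
        (fun c x y => hb.smul_right c x y)).flip z).smulRight z
    have hr : ∀ y, r y = y - (lam * B y z) • z := fun y => rfl
    have hr_iso : ∀ x y, B (r x) (r y) = B x y := by
      intro x y
      rw [hr, hr, TransvectionMax.sub_left hb, TransvectionMax.sub_right hb, TransvectionMax.sub_right hb,
        hb.smul_left, hb.smul_left, hb.smul_right, hb.smul_right, E.hB.symm z y]
      linear_combination (lam * B x z * B y z) * hlz
    have hrr : ∀ y, r (r y) = y := by
      intro y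
      rw [hr (r y), hr, TransvectionMax.sub_left hb, hb.smul_left]
      linear_combination (norm := module) ((lam * B y z) • (congrArg (fun t : F => t • z) hlz))
    have hr' : ∀ x y, B (r x) y = B x (r y) := fun x y => by rw [← hr_iso x (r y), hrr]
    obtain ⟨G, hG⟩ := exists_gl (fun x hx => E.sB.nd x hx) (fun y => E.sB.zero_left y) r hr_iso
    have hGM : kr G (1 : GL (Fin n) F) ∈ M :=
      E.kr_mem 1 (fun x y => by rw [hG, hG, hr_iso, one_mul]) (fun x y => by simp)
    set K₂ : Module.End F (Fin l → F) := r * K * r with hK₂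
    have hK₂s : ∀ x y, B (K₂ x) y = -B x (K₂ y) := fun x y => by
      simp only [hK₂, Module.End.mul_apply]
      rw [hr', hK, hr']
    have hR₂ : Rad M B f u ((J w).comp K₂) := by
      convert E.rad_conj hGM hu (b := r) (b' := r) (fun y => by rw [op_kr, hG, Units.val_one, Matrix.one_mulVec])
        hr' h using 1
      refine LinearMap.ext fun y => ?_
      simp only [LinearMap.comp_apply, J_apply, op_kr, hG, Units.val_one, Matrix.one_mulVec, hK₂,
        Module.End.mul_apply]
    set L : Module.End F (Fin l → F) := K₂ - K with hL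
    have hLy : ∀ y, L y = -(lam • (B y z • K z - B y (K z) • z)) := by
      intro y
      have e : B (K y) z = -B y (K z) := hK y z
      simp only [hL, hK₂, LinearMap.sub_apply, Module.End.mul_apply, hr, map_sub, map_smul,
        TransvectionMax.sub_left hb, hb.smul_left, hkz, e]
      module
    obtain ⟨c₁, hc₁⟩ := anti hK hK₂s h hR₂
    have hK₂sq : ∀ y, K₂ (K₂ y) = s • y := fun y => by
      simp only [hK₂, Module.End.mul_apply, hrr, hsq, map_smul]
    have hL2 : ∀ y, L (L y) = (s + s - c₁) • y := fun y => by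
      simp only [hL, LinearMap.sub_apply, map_sub, hK₂sq, hsq]
      rw [sub_smul, add_smul, ← hc₁ y]
      abel
    obtain ⟨y₀, hy₀, hy₀'⟩ := TensorMax.exists_perp E.sB (show 2 < l by have := E.hl; omega) ![z, K z]
    have hy₁ : B y₀ z = 0 := hy₀' 0
    have hy₂ : B y₀ (K z) = 0 := hy₀' 1
    have hσ : s + s - c₁ = 0 := by
      have h0 : L y₀ = 0 := by rw [hLy, hy₁, hy₂, zero_smul, zero_smul, sub_zero, smul_zero, neg_zero]
      have := hL2 y₀
      rw [h0, map_zero] at this
      exact (smul_eq_zero.1 this.symm).resolve_right hy₀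
    have hLz : L z = (-2 : F) • K z := by
      rw [hLy, hzk, zero_smul, sub_zero, smul_smul, hlz, neg_smul]
    have hBKK : B (K z) (K z) = 0 := by
      have := hL2 z
      rw [hσ, zero_smul, hLz, map_smul, hLy (K z), hkz, zero_smul, zero_sub] at this
      simp only [smul_neg, neg_neg, smul_smul] at this
      have hz0 : z ≠ 0 := fun e => hz (by rw [e]; exact E.sB.zero_left _)
      simpa [h2, hlam0] using (smul_eq_zero.1 this).resolve_right hz0
    have hs0 : s = 0 := by
      have := hK z (K z)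
      rw [hBKK, hsq, hb.smul_right] at this
      exact (mul_eq_zero.1 (neg_eq_zero.1 this.symm)).resolve_right hz
    have hc₁0 : c₁ = 0 := by rw [hs0] at hσ; linear_combination -hσ
    -- anticommutation
    by_contra hKz
    obtain ⟨y, hy⟩ : ∃ y, B y (K z) ≠ 0 := by
      obtain ⟨y, hy⟩ := not_forall.1 fun e => hKz (E.sB.nd _ e)
      exact ⟨y, by rwa [E.hB.symm]⟩
    have h1 := hc₁ y
    have hK₂L : ∀ x, K₂ x = K x + L x := fun x => by simp [hL]
    simp only [hK₂L, hLy, map_add, map_neg, map_smul, map_sub, hsq, hs0, hc₁0, zero_smul, hK y z,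
      show B (K y) (K z) = 0 by rw [hK, hsq, hs0, zero_smul, E.sB.zero_right, neg_zero]] at h1
    have h3 : (2 * lam * B y (K z)) • K z = 0 := by linear_combination (norm := module) h1
    exact hKz ((smul_eq_zero.1 h3).resolve_left (mul_ne_zero (mul_ne_zero h2 hlam0) hy))
  refine LinearMap.ext fun y => ?_
  show K y = 0
  by_cases hy0 : y = 0
  · rw [hy0, map_zero]
  obtain ⟨p, hp⟩ : ∃ p, B y p ≠ 0 := by
    by_contra hc; push Not at hc; exact hy0 (E.sB.nd y hc)
  by_cases hyy : B y y = 0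
  swap; · exact key y hyy
  obtain ⟨m, hm, hym⟩ : ∃ m, B m m ≠ 0 ∧ B y m ≠ 0 := by
    by_cases hpp : B p p = 0
    · refine ⟨p + y, ?_, by rwa [hb.add_right, hyy, add_zero]⟩
      rw [hb.add_left, hb.add_right, hb.add_right, hpp, hyy, E.hB.symm p y, zero_add, add_zero, ← two_mul]
      exact mul_ne_zero h2 hp
    · exact ⟨p, hpp, hp⟩
  by_cases hs1 : B (y + m) (y + m) = 0
  · have hs2 : B (y - m) (y - m) ≠ 0 := fun e => hm (by
      rw [TransvectionMax.sub_left hb, TransvectionMax.sub_right hb, TransvectionMax.sub_right hb] at e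
      rw [hb.add_left, hb.add_right, hb.add_right] at hs1
      have h4 : (2 : F) * B m m = 0 := by linear_combination e + hs1 - 2 * hyy
      exact (mul_eq_zero.1 h4).resolve_left h2)
    have := key _ hs2
    rwa [map_sub, key m hm, sub_zero] at this
  · have := key _ hs1
    rwa [map_add, key m hm, add_zero] at this

/-- The shape of the elements of the radical. -/
theorem Env.rad_form (NT : Scal M f) {u : Fin n → F} (hu : u ≠ 0) {Φ : (Fin l → F) →ₗ[F] Sp F l n}
    (h : Rad M B f u Φ) : ∃ w₀, f w₀ u = 0 ∧ (∀ w, f w u = 0 → ∀ y, Pf f l w (Φ y) = f w₀ w • y) ∧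
      ∃ D : Module.End F (Fin l → F), ∀ y, Φ y = tp y w₀ + tp (D y) u := by
  classical
  have hb := E.hB.bilinear
  have h2 := E.two
  obtain ⟨hP, Φ', C, hA, hN⟩ := id h
  have hscal : ∀ w, f w u = 0 → ∃ a : F, ∀ y, Pf f l w (Φ y) = a • y := by
    intro w hw
    by_cases hwu : ∃ t : F, w = t • u
    · obtain ⟨t, rfl⟩ := hwu
      exact ⟨0, fun y => by rw [Pf_smul E.sf, hP, smul_zero, zero_smul]⟩
    push Not at hwu
    obtain ⟨t, ht⟩ := E.rad_comm NT hu h hA (E.rad_J hw) (E.adj_J w)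
    set A : Module.End F (Fin l → F) := (Pf f l w).comp Φ with hAd
    have hsym : ∀ y z, B (A y) z + B y (A z) = -t * B y z := by
      intro y z
      have hA' : ∀ v y, B (Φ' v) y = tForm (RingHom.id F) B f v (Φ y) := hA
      have e := congrArg (fun x => B x z) (ht y)
      simp only [TransvectionMax.sub_left hb, hb.smul_left, J_apply, hA', E.tF_left, E.tF_right] at e
      simp only [hAd, LinearMap.comp_apply]
      rw [E.hB.symm y]
      linear_combination -e
    set a := -t / 2 with ha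
    set K : Module.End F (Fin l → F) := A - a • 1 with hKd
    have hK : ∀ x y, B (K x) y = -B x (K y) := by
      intro x y
      simp only [hKd, LinearMap.sub_apply, LinearMap.smul_apply, Module.End.one_apply,
        TransvectionMax.sub_left hb, TransvectionMax.sub_right hb, hb.smul_left, hb.smul_right]
      have e := hsym x y
      rw [ha]
      field_simp
      linear_combination 2 * e
    have hR : Rad M B f u ((J w).comp K) := by
      convert E.rad_add (E.rad_st hu hw 1 h) (E.rad_neg (E.rad_J (w := a • w)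
        (by rw [E.hf.bilinear.smul_left, hw, mul_zero]))) using 1
      refine LinearMap.ext fun y => ?_
      simp only [LinearMap.comp_apply, LinearMap.add_apply, LinearMap.neg_apply, LinearMap.smul_apply, one_smul,
        hKd, hAd, LinearMap.sub_apply, Module.End.one_apply, map_sub, map_smul, J_apply, tp_smul_right]
      exact sub_eq_add_neg _ _
    have hK0 := E.skew_zero NT hu hw hwu hK hR
    refine ⟨a, fun y => ?_⟩
    have := LinearMap.congr_fun hK0 y
    exact sub_eq_zero.1 this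
  obtain ⟨d, hd⟩ := E.exists_dual hu
  let i₀ : Fin l := ⟨0, by have := E.hl; omega⟩
  set w₀ : Fin n → F := fun j => Φ (Pi.single i₀ 1) (i₀, j) with hw₀
  have hval : ∀ w, f w₀ w = Pf f l w (Φ (Pi.single i₀ 1)) i₀ := fun w => by rw [Pf_apply E.sf]
  have hall : ∀ w, f w u = 0 → ∀ y, Pf f l w (Φ y) = f w₀ w • y := by
    intro w hw y
    obtain ⟨a, ha⟩ := hscal w hw
    rw [hval, ha, ha]
    simp
  refine ⟨w₀, by rw [hval, hP]; rfl, hall, (Pf f l d).comp (Φ - J w₀), fun y => ?_⟩
  have h0 : Φ y - tp y w₀ = tp (Pf f l d (Φ y - tp y w₀)) u := E.perp_line hd fun w hw => by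
    rw [map_sub, hall w hw, Pf_tp E.sf, sub_self]
  rw [LinearMap.comp_apply, LinearMap.sub_apply, J_apply, ← h0, add_sub_cancel]

end Cfsg.Agent.TensorSp44
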