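import Cfsg.Agent.Lib.TensorSp44Base

/-!
A root `1 + J_u A P_u` with non-scalar `A` yields a transvection with pure singular centre, and those centres
generate the whole symplectic group.
-/

set_option autoImplicit false
set_option linter.unusedSectionVars false
set_option maxHeartbeats 800000

namespace Cfsg.Agent.TensorSp44

open scoped Matrix MatrixGroups Kronecker
open Cfsg.Agent.TensorMax
open Cfsg.Agent.TransvectionMax

variable {F : Type*} [Field F] [Fintype F] {n l : ℕ}
variable {B : (Fin l → F) → (Fin l → F) → F} {f : (Fin n → F) → (Fin n → F) → F}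
variable {M : Subgroup (GL (Fin l × Fin n) F)} (E : Env B f M)
include E

/-- The form as a bilinear map. -/
def Env.bB : (Fin l → F) →ₗ[F] (Fin l → F) →ₗ[F] F :=
  LinearMap.mk₂ F B E.hB.bilinear.add_left (fun c x y => E.hB.bilinear.smul_left c x y) E.hB.bilinear.add_right
    (fun c x y => E.hB.bilinear.smul_right c x y)

theorem Env.bB_apply (x y : Fin l → F) : E.bB x y = B x y := rfl

theorem Env.bB_nd (x : Fin l → F) (h : ∀ y, E.bB x y = 0) : x = 0 := E.sB.nd x h

/-- `y ↦ B(y,z) x + B(y,x) z`. -/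
def Env.symOp (z x : Fin l → F) : Module.End F (Fin l → F) :=
  (E.bB.flip z).smulRight x + (E.bB.flip x).smulRight z

theorem Env.symOp_apply (z x y : Fin l → F) : E.symOp z x y = B y z • x + B y x • z := rfl

/-- The reflection at `z`. -/
noncomputable def Env.refl (z : Fin l → F) : Module.End F (Fin l → F) :=
  LinearMap.id - ((2 / B z z) • E.bB.flip z).smulRight z

theorem Env.refl_apply (z y : Fin l → F) : E.refl z y = y - (2 / B z z * B y z) • z := rfl

theorem Env.refl_iso {z : Fin l → F} (hz : B z z ≠ 0) (x y : Fin l → F) :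
    B (E.refl z x) (E.refl z y) = B x y := by
  have hb := E.hB.bilinear
  rw [E.refl_apply, E.refl_apply, ← E.bB_apply, map_sub, map_sub, LinearMap.sub_apply, LinearMap.sub_apply]
  simp only [map_smul, LinearMap.smul_apply, smul_eq_mul]
  simp only [E.bB_apply, E.hB.symm z y]
  field_simp
  ring

theorem Env.refl_refl {z : Fin l → F} (hz : B z z ≠ 0) (y : Fin l → F) : E.refl z (E.refl z y) = y := by
  rw [E.refl_apply z (E.refl z y), E.refl_apply, ← E.bB_apply (y - _), map_sub, LinearMap.sub_apply, map_smul,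
    LinearMap.smul_apply, E.bB_apply, E.bB_apply, smul_eq_mul]
  match_scalars <;> field_simp <;> ring

theorem Env.symOp_conj {γ : Module.End F (Fin l → F)} (hγ : ∀ x y, B (γ x) (γ y) = B x y) {z x : Fin l → F}
    (h : E.symOp z x ∈ E.SA) : E.symOp (γ z) (γ x) ∈ E.SA := by
  obtain ⟨A', hA', hA⟩ := E.conj_mem hγ h
  convert hA' using 1
  refine LinearMap.ext fun y => ?_
  obtain ⟨G, hG⟩ := exists_gl (fun x hx => E.sB.nd x hx) (fun y => E.sB.zero_left y) γ hγ
  obtain ⟨y', rfl⟩ : ∃ y', γ y' = y :=
    ⟨((G⁻¹ : GL (Fin l) F) : Matrix (Fin l) (Fin l) F) *ᵥ y, by rw [← hG, TransvectionMax.act_inv_act]⟩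
  rw [hA, E.symOp_apply, E.symOp_apply, map_add, map_smul, map_smul, hγ, hγ]

theorem Env.symOp_add_right (z x x' : Fin l → F) : E.symOp z (x + x') = E.symOp z x + E.symOp z x' :=
  LinearMap.ext fun y => by
    simp only [LinearMap.add_apply, E.symOp_apply, E.hB.bilinear.add_right, smul_add, add_smul]; abel

theorem Env.symOp_smul_right (s : F) (z x : Fin l → F) : E.symOp z (s • x) = s • E.symOp z x :=
  LinearMap.ext fun y => by
    simp only [LinearMap.smul_apply, E.symOp_apply, E.hB.bilinear.smul_right]; module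

/-- The `x` with `symOp z x` in `SA`. -/
def Env.X (z : Fin l → F) : Submodule F (Fin l → F) where
  carrier := {x | E.symOp z x ∈ E.SA}
  zero_mem' := by
    have : E.symOp z 0 = 0 := by rw [← zero_smul F z, E.symOp_smul_right, zero_smul]
    show E.symOp z 0 ∈ E.SA
    rw [this]
    exact zero_mem _
  add_mem' {x x'} hx hx' := by
    show E.symOp z (x + x') ∈ E.SA
    rw [E.symOp_add_right]
    exact add_mem hx hx'
  smul_mem' s x hx := by
    show E.symOp z (s • x) ∈ E.SA
    rw [E.symOp_smul_right]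
    exact E.SA.smul_mem s hx

/-- Reflections spread `X`. -/
theorem Env.X_refl {z x n' : Fin l → F} (hx : x ∈ E.X z) (hn : B n' n' ≠ 0)
    (hnz : B n' z = 0) (hnx : B n' x ≠ 0) : n' ∈ E.X z := by
  have h := E.symOp_conj (E.refl_iso hn) (show E.symOp z x ∈ E.SA from hx)
  rw [show E.refl n' z = z by rw [E.refl_apply, E.hB.symm z n', hnz, mul_zero, zero_smul, sub_zero]] at h
  have hc : 2 / B n' n' * B x n' ≠ 0 := mul_ne_zero (div_ne_zero E.two hn) (by rwa [E.hB.symm])
  have h' : (2 / B n' n' * B x n') • n' ∈ E.X z := by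
    convert (E.X z).sub_mem hx (show E.refl n' x ∈ E.X z from h) using 1
    rw [E.refl_apply, sub_sub_cancel]
  have h'' := (E.X z).smul_mem (2 / B n' n' * B x n')⁻¹ h'
  rwa [smul_smul, inv_mul_cancel₀ hc, one_smul] at h''

theorem Env.exists_perp {m : ℕ} (v : Fin m → Fin l → F) (hm : m < l) :
    ∃ c, c ≠ 0 ∧ ∀ j, B c (v j) = 0 := TensorMax.exists_perp E.sB hm v

theorem Env.exists_perp_notMem {m : ℕ} (v : Fin m → Fin l → F) (w : Fin l → F) (hm : m + 1 < l) :
    ∃ c, (∀ j, B c (v j) = 0) ∧ c ∉ Submodule.span F ({w} : Set (Fin l → F)) := by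
  classical
  let L : (Fin l → F) →ₗ[F] (Fin m → F) := LinearMap.pi fun j => E.bB.flip (v j)
  by_contra hcon
  push Not at hcon
  have h1 : LinearMap.ker L ≤ Submodule.span F ({w} : Set (Fin l → F)) := fun c hc =>
    hcon c fun j => congrFun (LinearMap.mem_ker.1 hc) j
  have h2 := Submodule.finrank_mono h1
  have h3 := LinearMap.finrank_range_add_finrank_ker L
  have h4 : Module.finrank F (LinearMap.range L) ≤ m := (Submodule.finrank_le _).trans_eq (by simp)
  have h5 : Module.finrank F (Submodule.span F ({w} : Set (Fin l → F))) ≤ 1 :=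
    (finrank_span_le_card _).trans (by simp)
  rw [Module.finrank_fin_fun] at h3
  omega

/-- All of the orthogonal of `z` lies in `X`. -/
theorem Env.X_top (hq : 5 ≤ Fintype.card F ∨ 4 ≤ l) {z x₀ : Fin l → F} (hz : B z z ≠ 0) (hx : x₀ ∈ E.X z)
    (hxz : B x₀ z = 0) (hx0 : x₀ ≠ 0) : ∀ x, B x z = 0 → x ∈ E.X z := by
  classical
  have hb := E.hB.bilinear
  have h2 := E.two
  -- the case of a singular start
  have sing : ∀ e, e ∈ E.X z → B e z = 0 → e ≠ 0 → B e e = 0 → ∀ x, B x z = 0 → x ∈ E.X z := by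
    intro e he hez he0 hee
    have hne : ∀ c, B c z = 0 → B c e ≠ 0 → c ∈ E.X z := by
      intro c hcz hce
      by_cases hcc : B c c = 0
      · have h : c + e ∈ E.X z := E.X_refl he
          (by
            rw [hb.add_left, hb.add_right, hb.add_right, hcc, hee, E.hB.symm e c, zero_add, add_zero, ← two_mul]
            exact mul_ne_zero h2 hce)
          (by rw [hb.add_left, hcz, hez, add_zero])
          (by rwa [hb.add_left, hee, add_zero])
        simpa using (E.X z).sub_mem h he
      · exact E.X_refl he hcc hcz hce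
    intro x hxz
    obtain ⟨y, hy⟩ : ∃ y, B e y ≠ 0 := by
      by_contra h; push Not at h; exact he0 (E.sB.nd e h)
    set c := y - (B y z / B z z) • z
    have hcz : B c z = 0 := by
      rw [← E.bB_apply, map_sub, LinearMap.sub_apply, map_smul, LinearMap.smul_apply, E.bB_apply, E.bB_apply,
        smul_eq_mul, div_mul_cancel₀ _ hz, sub_self]
    have hce : B c e ≠ 0 := by
      rw [← E.bB_apply, map_sub, LinearMap.sub_apply, map_smul, LinearMap.smul_apply, E.bB_apply, E.bB_apply,
        E.hB.symm z e, hez, smul_eq_mul, mul_zero, sub_zero, E.hB.symm]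
      exact hy
    by_cases hxe : B x e = 0
    · have h := hne (x + c) (by rw [hb.add_left, hxz, hcz, add_zero]) (by rwa [hb.add_left, hxe, zero_add])
      simpa using (E.X z).sub_mem h (hne c hcz hce)
    · exact hne x hxz hxe
  by_cases hxx : B x₀ x₀ = 0
  · exact sing x₀ hx hxz hx0 hxx
  -- vectors orthogonal to `x₀` and `z`
  have good : ∀ y t, B y z = 0 → B y x₀ = 0 → t ≠ 0 → B x₀ x₀ + t * t * B y y ≠ 0 → y ∈ E.X z := by
    intro y t hyz hyx ht hv
    have h : x₀ + t • y ∈ E.X z := E.X_refl hx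
      (by
        rw [hb.add_left, hb.add_right, hb.add_right, hb.smul_left, hb.smul_left, hb.smul_right, hb.smul_right,
          E.hB.symm x₀ y, hyx]
        simpa [mul_assoc] using hv)
      (by rw [hb.add_left, hb.smul_left, hxz, hyz, mul_zero, add_zero])
      (by rw [hb.add_left, hb.smul_left, hyx, mul_zero, add_zero]; exact hxx)
    have h' : t • y ∈ E.X z := by simpa using (E.X z).sub_mem h hx
    simpa [smul_smul, inv_mul_cancel₀ ht] using (E.X z).smul_mem t⁻¹ h'
  suffices hW : ∀ y, B y z = 0 → B y x₀ = 0 → y ∈ E.X z by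
    intro x hxz'
    have h := hW (x - (B x x₀ / B x₀ x₀) • x₀) (by
      rw [← E.bB_apply, map_sub, LinearMap.sub_apply, map_smul, LinearMap.smul_apply, E.bB_apply, E.bB_apply, hxz',
        hxz, smul_eq_mul, mul_zero, sub_zero]) (by
      rw [← E.bB_apply, map_sub, LinearMap.sub_apply, map_smul, LinearMap.smul_apply, E.bB_apply, E.bB_apply,
        smul_eq_mul, div_mul_cancel₀ _ hxx, sub_self])
    simpa using (E.X z).add_mem h ((E.X z).smul_mem (B x x₀ / B x₀ x₀) hx)
  by_cases hq5 : 5 ≤ Fintype.card F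
  · intro y hyz hyx
    by_cases h1 : B x₀ x₀ + B y y = 0
    · obtain ⟨t, ht⟩ := Finset.exists_mem_notMem_of_card_lt_card (s := ({0, 1, -1} : Finset F)) (t := Finset.univ)
        (by rw [Finset.card_univ]; exact lt_of_le_of_lt Finset.card_le_three (by omega))
      simp only [Finset.mem_insert, Finset.mem_singleton, not_or] at ht
      refine good y t hyz hyx ht.2.1 fun e => ?_
      have : (t * t - 1) * B y y = 0 := by linear_combination e - h1
      rcases mul_eq_zero.1 this with h | h
      · rcases mul_self_eq_one_iff.1 (sub_eq_zero.1 h) with h | h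
        exacts [ht.2.2.1 h, ht.2.2.2 h]
      · rw [h, add_zero] at h1
        exact hxx h1
    · exact good y 1 hyz hyx one_ne_zero (by simpa using h1)
  · have hl : 4 ≤ l := hq.resolve_left hq5
    intro y hyz hyx
    by_cases h1 : B x₀ x₀ + B y y = 0
    · obtain ⟨y', hy', hy'y⟩ := E.exists_perp_notMem ![z, x₀] y (by omega)
      have hyy : B y y ≠ 0 := fun e => hxx (by rw [e, add_zero] at h1; exact h1)
      have hy'z : B y' z = 0 := hy' 0
      have hy'x : B y' x₀ = 0 := hy' 1
      set w := y' - (B y' y / B y y) • y with hwd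
      have hwy : B w y = 0 := by
        rw [hwd, ← E.bB_apply, map_sub, LinearMap.sub_apply, map_smul, LinearMap.smul_apply, E.bB_apply, E.bB_apply,
          smul_eq_mul, div_mul_cancel₀ _ hyy, sub_self]
      have hwz : B w z = 0 := by
        rw [hwd, ← E.bB_apply, map_sub, LinearMap.sub_apply, map_smul, LinearMap.smul_apply, E.bB_apply, E.bB_apply,
          hy'z, hyz, smul_eq_mul, mul_zero, sub_zero]
      have hwx : B w x₀ = 0 := by
        rw [hwd, ← E.bB_apply, map_sub, LinearMap.sub_apply, map_smul, LinearMap.smul_apply, E.bB_apply, E.bB_apply,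
          hy'x, hyx, smul_eq_mul, mul_zero, sub_zero]
      have hw0 : w ≠ 0 := fun e => hy'y (Submodule.mem_span_singleton.2 ⟨B y' y / B y y, by
        rw [hwd, sub_eq_zero] at e; exact e.symm⟩)
      by_cases hww : B w w = 0
      · exact sing w (good w 1 hwz hwx one_ne_zero (by simpa [hww] using hxx)) hwz hw0 hww y hyz
      · have h : w + y ∈ E.X z := good _ 1 (by rw [hb.add_left, hwz, hyz, add_zero])
          (by rw [hb.add_left, hwx, hyx, add_zero]) one_ne_zero (by
            rw [hb.add_left, hb.add_right, hb.add_right, hwy, E.hB.symm y w, hwy]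
            simp only [one_mul, add_zero, zero_add]
            intro e
            exact hww (by linear_combination e - h1))
        exact E.X_refl h hyy hyz (by rw [hb.add_right, E.hB.symm y w, hwy, zero_add]; exact hyy)
    · exact good y 1 hyz hyx one_ne_zero (by simpa using h1)

/-- `y ↦ B(y,e) e`. -/
def Env.sqOp (e : Fin l → F) : Module.End F (Fin l → F) := (E.bB.flip e).smulRight e

theorem Env.sqOp_apply (e y : Fin l → F) : E.sqOp e y = B y e • e := rfl

theorem Env.exists_sing : ∃ e : Fin l → F, e ≠ 0 ∧ B e e = 0 := by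
  let Q : QuadraticForm F (Fin l → F) := LinearMap.BilinMap.toQuadraticMap E.bB
  obtain ⟨e, -, he0, he⟩ := QuadClassify.exists_singular Q ⊤
    (by rw [finrank_top, Module.finrank_fin_fun]; exact E.hl)
  exact ⟨e, he0, he⟩

/-- The Siegel map at a singular `e`. -/
noncomputable def Env.sieg (e w : Fin l → F) : Module.End F (Fin l → F) :=
  LinearMap.id + (E.bB.flip e).smulRight w - (E.bB.flip w + (2⁻¹ * B w w) • E.bB.flip e).smulRight e

theorem Env.sieg_apply (e w y : Fin l → F) :
    E.sieg e w y = y + B y e • w - (B y w + 2⁻¹ * B w w * B y e) • e := by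
  simp [Env.sieg, E.bB_apply]

theorem Env.sieg_iso {e w : Fin l → F} (he : B e e = 0) (hew : B e w = 0) (x y : Fin l → F) :
    B (E.sieg e w x) (E.sieg e w y) = B x y := by
  have h2 := E.two
  rw [E.sieg_apply, E.sieg_apply]
  simp only [← E.bB_apply, map_sub, map_add, map_smul, LinearMap.sub_apply, LinearMap.add_apply, LinearMap.smul_apply,
    smul_eq_mul]
  simp only [E.bB_apply, he, hew, E.hB.symm w e, E.hB.symm e y, E.hB.symm w y]
  field_simp
  ring

/-- A rank-one operator at a singular vector. -/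
theorem Env.exists_sq (hq : 5 ≤ Fintype.card F ∨ 4 ≤ l) {A : Module.End F (Fin l → F)} (hA : A ∈ E.SA)
    (hns : ¬ ∃ c : F, A = c • 1) : ∃ e, e ≠ 0 ∧ B e e = 0 ∧ E.sqOp e ∈ E.SA := by
  classical
  have hb := E.hB.bilinear
  have h2 := E.two
  -- an anisotropic vector which is not an eigenvector
  obtain ⟨z, hz, hzA⟩ : ∃ z, B z z ≠ 0 ∧ ∀ t : F, A z ≠ t • z := by
    by_contra hcon
    push Not at hcon
    obtain ⟨e, he0, he⟩ := E.exists_sing
    obtain ⟨f', hf'⟩ : ∃ f', B e f' ≠ 0 := by
      by_contra h; push Not at h; exact he0 (E.sB.nd e h)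
    obtain ⟨a, ha⟩ : ∃ a, B a a ≠ 0 := by
      by_cases h : B f' f' = 0
      · exact ⟨e + f', by
          rw [hb.add_left, hb.add_right, hb.add_right, he, h, E.hB.symm f' e, zero_add, add_zero, ← two_mul]
          exact mul_ne_zero h2 hf'⟩
      · exact ⟨f', h⟩
    obtain ⟨c, hc⟩ := hcon a ha
    -- the eigenvalue is the same at all anisotropic vectors
    have link : ∀ x y, B x x ≠ 0 → B y y ≠ 0 → B x y ≠ 0 → A x = c • x → A y = c • y := by
      intro x y hx hy hxy hAx
      obtain ⟨d, hd⟩ := hcon y hy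
      have h := E.sym_of_mem hA x y
      rw [hAx, hd, hb.smul_left, hb.smul_right] at h
      rw [hd, mul_right_cancel₀ hxy h]
    have key : ∀ x, B x x ≠ 0 → A x = c • x := by
      intro x hx
      by_cases hxa : B a x = 0
      · obtain ⟨w, hw, hwa, hwx⟩ : ∃ w, B w w ≠ 0 ∧ B a w ≠ 0 ∧ B x w ≠ 0 := by
          by_cases h : B a a + B x x = 0
          · obtain ⟨c₀, hc₀, hwa, hwx⟩ : ∃ c₀, B c₀ c₀ ≠ 0 ∧ B c₀ a = 0 ∧ B c₀ x = 0 := by
              obtain ⟨w, hw0, hw⟩ := E.exists_perp ![a, x] (by have := E.hl; omega)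
              have hwa : B w a = 0 := hw 0
              have hwx : B w x = 0 := hw 1
              by_cases hww : B w w = 0
              · obtain ⟨y, hy⟩ : ∃ y, B w y ≠ 0 := by
                  by_contra h; push Not at h; exact hw0 (E.sB.nd w h)
                set y' := y - (B y a / B a a) • a - (B y x / B x x) • x with hy'
                have hya : B y' a = 0 := by
                  rw [hy', ← E.bB_apply]
                  simp only [map_sub, map_smul, LinearMap.sub_apply, LinearMap.smul_apply, E.bB_apply, smul_eq_mul,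
                    E.hB.symm x a, hxa]
                  field_simp
                  ring
                have hyx : B y' x = 0 := by
                  rw [hy', ← E.bB_apply]
                  simp only [map_sub, map_smul, LinearMap.sub_apply, LinearMap.smul_apply, E.bB_apply, smul_eq_mul,
                    hxa]
                  field_simp
                  ring
                have hwy : B w y' ≠ 0 := by
                  rw [hy', ← E.bB_apply, map_sub, map_sub, map_smul, map_smul, E.bB_apply, E.bB_apply, E.bB_apply,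
                    hwa, hwx, smul_zero, smul_zero, sub_zero, sub_zero]
                  exact hy
                by_cases hyy : B y' y' = 0
                · refine ⟨w + y', ?_, by rw [hb.add_left, hwa, hya, add_zero], by rw [hb.add_left, hwx, hyx, add_zero]⟩
                  rw [hb.add_left, hb.add_right, hb.add_right, hww, hyy, E.hB.symm y' w, zero_add, add_zero, ← two_mul]
                  exact mul_ne_zero h2 hwy
                · exact ⟨y', hyy, hya, hyx⟩
              · exact ⟨w, hww, hwa, hwx⟩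
            refine ⟨a + x + c₀, ?_, ?_, ?_⟩
            · simp only [hb.add_left, hb.add_right, E.hB.symm x a, E.hB.symm a c₀, E.hB.symm x c₀, hxa, hwa, hwx]
              intro e'
              exact hc₀ (by linear_combination e' - h)
            · rw [hb.add_right, hb.add_right, hxa, E.hB.symm a c₀, hwa, add_zero, add_zero]; exact ha
            · rw [hb.add_right, hb.add_right, E.hB.symm x a, hxa, E.hB.symm x c₀, hwx, add_zero, zero_add]; exact hx
          · refine ⟨a + x, ?_, ?_, ?_⟩
            · rw [hb.add_left, hb.add_right, hb.add_right, E.hB.symm x a, hxa]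
              simpa using h
            · rw [hb.add_right, hxa, add_zero]; exact ha
            · rw [hb.add_right, E.hB.symm x a, hxa, zero_add]; exact hx
        exact link w x hw hx (by rwa [E.hB.symm]) (link a w ha hw hwa hc)
      · exact link a x ha hx hxa hc
    refine hns ⟨c, LinearMap.ext fun x => ?_⟩
    show A x = c • x
    by_cases hx : B x x = 0
    · by_cases hxa : B x a = 0
      · have h1 := key (x + a) (by rw [hb.add_left, hb.add_right, hb.add_right, hx, hxa, E.hB.symm a x, hxa]; simpa using ha)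
        rw [map_add, hc, smul_add] at h1
        exact add_right_cancel h1
      · -- two anisotropic vectors through `x`
        obtain ⟨s, hs0, hs⟩ : ∃ s : F, s ≠ 0 ∧ 2 * B x a + s * B a a ≠ 0 := by
          by_cases h : 2 * B x a + B a a = 0
          · refine ⟨-1, neg_ne_zero.2 one_ne_zero, fun h' => ?_⟩
            exact ha ((mul_eq_zero.1 (show (2 : F) * B a a = 0 by linear_combination h - h')).resolve_left h2)
          · exact ⟨1, one_ne_zero, by simpa using h⟩
        have h1 := key (x + s • a) (by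
          rw [hb.add_left, hb.add_right, hb.add_right, hb.smul_left, hb.smul_left, hb.smul_right, hb.smul_right, hx,
            E.hB.symm a x]
          intro e'
          exact mul_ne_zero hs0 hs (by linear_combination e'))
        rw [map_add, map_smul, hc, smul_add, smul_comm s c] at h1
        exact add_right_cancel h1
    · exact key x hx
  -- a first `symOp`
  set t₀ := B (A z) z / B z z with ht₀
  set w := A z - t₀ • z with hw
  have hwz : B w z = 0 := by
    rw [hw, ← E.bB_apply, map_sub, LinearMap.sub_apply, map_smul, LinearMap.smul_apply, E.bB_apply, E.bB_apply,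
      smul_eq_mul, ht₀, div_mul_cancel₀ _ hz, sub_self]
  have hwX : w ∈ E.X z := by
    obtain ⟨A', hA', hA'eq⟩ := E.conj_mem (E.refl_iso hz) hA
    have hd : A' - A = (-(2 / B z z)) • E.symOp z w := by
      refine LinearMap.ext fun y => ?_
      have h := hA'eq (E.refl z y)
      rw [E.refl_refl hz] at h
      rw [LinearMap.sub_apply, LinearMap.smul_apply, h, E.refl_apply z y, map_sub, map_smul, E.symOp_apply,
        E.refl_apply, show B (A y - (2 / B z z * B y z) • A z) z = B (A y) z - 2 / B z z * B y z * B (A z) z by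
          rw [← E.bB_apply, map_sub, LinearMap.sub_apply, map_smul, LinearMap.smul_apply]; rfl,
        E.sym_of_mem hA y z, hw, ht₀, show B y (A z - (B (A z) z / B z z) • z) = B y (A z) - B (A z) z / B z z * B y z by
          rw [← E.bB_apply, map_sub, map_smul]; rfl]
      match_scalars <;> field_simp <;> ring
    have h := E.SA.smul_mem (-(2 / B z z))⁻¹ (hd ▸ E.SA.sub_mem hA' hA)
    rwa [smul_smul, inv_mul_cancel₀ (neg_ne_zero.2 (div_ne_zero h2 hz)), one_smul] at h
  have hw0 : w ≠ 0 := fun e => hzA t₀ (by rw [hw, sub_eq_zero] at e; exact e)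
  have hall := E.X_top hq hz hwX hwz hw0
  -- a singular vector orthogonal to an anisotropic one, with `symOp` in `SA`
  obtain ⟨m, e, hm, he0, he, hem, hmX⟩ : ∃ m e, B m m ≠ 0 ∧ e ≠ 0 ∧ B e e = 0 ∧ B e m = 0 ∧ E.symOp m e ∈ E.SA := by
    obtain ⟨e₀, he0, he⟩ := E.exists_sing
    obtain ⟨x, hx0, hx⟩ := E.exists_perp ![z, e₀] (by have := E.hl; omega)
    have hxz : B x z = 0 := hx 0
    have hxe : B x e₀ = 0 := hx 1
    by_cases hxx : B x x = 0
    · exact ⟨z, x, hz, hx0, hxx, hxz, hall x hxz⟩
    have hzx : z ∈ E.X x := by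
      show E.symOp x z ∈ E.SA
      have : E.symOp x z = E.symOp z x := LinearMap.ext fun y => by rw [E.symOp_apply, E.symOp_apply, add_comm]
      rw [this]
      exact hall x hxz
    exact ⟨x, e₀, hxx, he0, he, by rw [E.hB.symm, hxe],
      E.X_top hq hxx hzx (by rw [E.hB.symm, hxz]) (fun e' => hz (by rw [e', E.sB.zero_left])) e₀
        (by rw [E.hB.symm, hxe])⟩
  refine ⟨e, he0, he, ?_⟩
  set w' := (-(1 / B m m)) • m with hw'
  have hew : B e w' = 0 := by rw [hw', hb.smul_right, hem, mul_zero]
  have h := E.symOp_conj (E.sieg_iso he hew) hmX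
  rw [show E.sieg e w' m = m + e by
      rw [E.sieg_apply, E.hB.symm m e, hem, hw', hb.smul_right]
      match_scalars <;> field_simp <;> ring,
    show E.sieg e w' e = e by
      rw [E.sieg_apply, he, hew]; simp] at h
  have h' : E.sqOp e = (2 : F)⁻¹ • (E.symOp (m + e) e - E.symOp m e) := LinearMap.ext fun y => by
    simp only [LinearMap.smul_apply, LinearMap.sub_apply, E.symOp_apply, E.sqOp_apply, hb.add_right]
    match_scalars <;> field_simp <;> ring
  rw [h']
  exact E.SA.smul_mem _ (E.SA.sub_mem h hmX)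

/-- Transvections with pure singular centre from a rank-one operator. -/
theorem Env.ctr_of_sq {e : Fin l → F} (h : E.sqOp e ∈ E.SA) (u : Fin n → F) : Ctr M B f (tp e u) := by
  intro s
  obtain ⟨g, hg, hgN⟩ := (E.SA.smul_mem s h) u
  refine ⟨g, hg, fun v => ?_⟩
  rw [op, hgN, LinearMap.add_apply, Module.End.one_apply, SOp_apply, LinearMap.smul_apply, E.sqOp_apply, smul_smul,
    tp_smul_left, E.tF_right]

/-- Centres can be added when they are not orthogonal. -/
theorem Env.ctr_add {c d : Sp F l n} (hc : Ctr M B f c) (hd : Ctr M B f d)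
    (hcd : tForm (RingHom.id F) B f d c ≠ 0) (a b : F) (hb : b ≠ 0) : Ctr M B f (a • c + b • d) := by
  have hbl := E.tF_bilin
  obtain ⟨g, hg, hgv⟩ := hc (a / (b * tForm (RingHom.id F) B f d c))
  intro s
  obtain ⟨h, hh, hhv⟩ := hd (s * (b * b))
  refine ⟨g * h * g⁻¹, M.mul_mem (M.mul_mem hg hh) (M.inv_mem hg), fun v => ?_⟩
  have e1 : op g d = (b⁻¹ : F) • (a • c + b • d) := by
    rw [hgv]
    match_scalars <;> field_simp
  rw [op_mul, op_mul, hhv, map_add, map_smul, op_app_inv, ← E.pres g hg (op g⁻¹ v) d, op_app_inv, e1,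
    hbl.smul_right, smul_smul]
  congr 2
  field_simp

/-- Singular centres give every transvection. -/
theorem Env.ctr_all {e : Fin l → F} (he0 : e ≠ 0) (he : B e e = 0) (h : E.sqOp e ∈ E.SA) :
    ∀ c : Sp F l n, Ctr M B f c := by
  classical
  have hb := E.hB.bilinear
  have hbl := E.tF_bilin
  have h2 := E.two
  haveI : Finite (Submodule F (Sp F l n)) := inferInstance
  let O : Set (Fin l → F) := {e' | e' ≠ 0 ∧ B e' e' = 0 ∧ E.sqOp e' ∈ E.SA}
  have hO : ∀ e' ∈ O, ∀ m, B m m ≠ 0 → E.refl m e' ∈ O := by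
    intro e' he' m hm
    refine ⟨fun h0 => he'.1 (by rw [← E.refl_refl hm e', h0, map_zero]), by rw [E.refl_iso hm]; exact he'.2.1, ?_⟩
    obtain ⟨A', hA', hA⟩ := E.conj_mem (E.refl_iso hm) he'.2.2
    convert hA' using 1
    refine LinearMap.ext fun y => ?_
    have := hA (E.refl m y)
    rw [E.refl_refl hm] at this
    rw [this, E.sqOp_apply, E.sqOp_apply, map_smul, ← E.refl_iso hm (E.refl m y) e', E.refl_refl hm]
  -- orthogonal members are linked through a third
  have hlink : ∀ e₁ ∈ O, ∀ e₂ ∈ O, B e₁ e₂ = 0 → ∃ e₃ ∈ O, B e₁ e₃ ≠ 0 ∧ B e₃ e₂ ≠ 0 := by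
    intro e₁ h1 e₂ h2' h12
    obtain ⟨p1, hp1⟩ : ∃ p, B e₁ p ≠ 0 := by by_contra h; push Not at h; exact h1.1 (E.sB.nd _ h)
    obtain ⟨p2, hp2⟩ : ∃ p, B e₂ p ≠ 0 := by by_contra h; push Not at h; exact h2'.1 (E.sB.nd _ h)
    obtain ⟨p, hpa, hpb⟩ : ∃ p, B e₁ p ≠ 0 ∧ B e₂ p ≠ 0 := by
      by_cases a : B e₂ p1 = 0
      · by_cases b : B e₁ p2 = 0
        · exact ⟨p1 + p2, by rwa [hb.add_right, b, add_zero], by rwa [hb.add_right, a, zero_add]⟩
        · exact ⟨p2, b, hp2⟩
      · exact ⟨p1, hp1, a⟩
    obtain ⟨m, hm, hma, hmb⟩ : ∃ m, B m m ≠ 0 ∧ B e₁ m ≠ 0 ∧ B e₂ m ≠ 0 := by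
      by_cases hpp : B p p = 0
      · refine ⟨p + e₁, ?_, ?_, ?_⟩
        · rw [hb.add_left, hb.add_right, hb.add_right, hpp, h1.2.1, E.hB.symm p e₁, zero_add, add_zero, ← two_mul]
          exact mul_ne_zero h2 hpa
        · rwa [hb.add_right, h1.2.1, add_zero]
        · rwa [hb.add_right, E.hB.symm e₂ e₁, h12, add_zero]
      · exact ⟨p, hpp, hpa, hpb⟩
    refine ⟨E.refl m e₁, hO _ h1 m hm, ?_, ?_⟩
    · rw [E.refl_apply, ← E.bB_apply, map_sub, map_smul, E.bB_apply, E.bB_apply, h1.2.1, smul_eq_mul, zero_sub,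
        neg_ne_zero]
      exact mul_ne_zero (mul_ne_zero (div_ne_zero h2 hm) hma) hma
    · rw [E.refl_apply, ← E.bB_apply, map_sub, map_smul, LinearMap.sub_apply, LinearMap.smul_apply, E.bB_apply,
        E.bB_apply, h12, E.hB.symm m e₂, smul_eq_mul, zero_sub, neg_ne_zero]
      exact mul_ne_zero (mul_ne_zero (div_ne_zero h2 hm) hma) hmb
  have hflink : ∀ u w : Fin n → F, u ≠ 0 → w ≠ 0 → ∃ m, f u m ≠ 0 ∧ f m w ≠ 0 := fun u w hu hw => by
    obtain ⟨m, a, b⟩ := TransvectionMax.exists_common E.hf hu hw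
    exact ⟨m, fun e => a (by rw [E.hf.skew, e, neg_zero]), b⟩
  -- full subspaces
  let Full : Submodule F (Sp F l n) → Prop := fun S =>
    ∀ x ∈ S, (∃ y ∈ S, tForm (RingHom.id F) B f x y ≠ 0) → Ctr M B f x
  have hsm : ∀ {c}, Ctr M B f c → ∀ t : F, Ctr M B f (t • c) := by
    intro c hc t s
    obtain ⟨g, hg, hgv⟩ := hc (s * (t * t))
    refine ⟨g, hg, fun v => ?_⟩
    rw [hgv, hbl.smul_right, smul_smul]
    congr 2
    ring
  have hskew := E.tF_skew
  have ext' : ∀ S, Full S → ∀ z, Ctr M B f z → z ∉ S → (∃ x ∈ S, tForm (RingHom.id F) B f x z ≠ 0) →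
      (∃ a ∈ S, ∃ b ∈ S, tForm (RingHom.id F) B f a b ≠ 0) → Full (S ⊔ Submodule.span F {z}) := by
    intro S hS z hz hzS hxz hab
    -- vectors outside `S`
    have out : ∀ v ∈ S, ∀ t : F, t ≠ 0 → (∃ y ∈ S ⊔ Submodule.span F {z},
        tForm (RingHom.id F) B f (v + t • z) y ≠ 0) → Ctr M B f (v + t • z) := by
      intro v hv t ht hne
      by_cases hdir : (∃ y ∈ S, tForm (RingHom.id F) B f v y ≠ 0) ∧ tForm (RingHom.id F) B f v z ≠ 0
      · obtain ⟨hnr, hvz⟩ := hdir
        simpa using E.ctr_add (hS v hv hnr) hz (by rw [hskew, neg_ne_zero]; exact hvz) 1 t ht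
      set x := v + t • z with hx
      have hxS : ∃ y ∈ S, tForm (RingHom.id F) B f x y ≠ 0 := by
        by_contra hc
        push Not at hc
        obtain ⟨y, hy, hy0⟩ := hne
        obtain ⟨s, hs, _, hz', rfl⟩ := Submodule.mem_sup.1 hy
        obtain ⟨c, rfl⟩ := Submodule.mem_span_singleton.1 hz'
        rw [hbl.add_right, hc s hs, zero_add, hbl.smul_right, hx, hbl.add_left, hbl.smul_left,
          E.tF_symp.alternating, mul_zero, add_zero] at hy0
        obtain ⟨s', hs', hs'z⟩ := hxz
        refine hdir ⟨⟨s', hs', fun e => ?_⟩, right_ne_zero_of_mul hy0⟩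
        have h0 := hc s' hs'
        rw [hx, hbl.add_left, hbl.smul_left, e, zero_add, hskew] at h0
        exact hs'z (neg_eq_zero.1 ((mul_eq_zero.1 h0).resolve_left ht))
      -- pick `a` by counting
      let L : Sp F l n → (S →ₗ[F] F) := fun w =>
        { toFun := fun a => tForm (RingHom.id F) B f (a : Sp F l n) w
          map_add' := fun a b => hbl.add_left _ _ _
          map_smul' := fun c a => hbl.smul_left _ _ _ }
      let R : Submodule F S := ⨅ w : S, LinearMap.ker (L w)
      have hR : ∀ a : S, a ∈ R ↔ ∀ y ∈ S, tForm (RingHom.id F) B f (a : Sp F l n) y = 0 := fun a => by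
        simp [R, L]
      obtain ⟨a0, ha0, b0, hb0, hab0⟩ := hab
      have hLb : L b0 ≠ 0 := fun e => hab0 (LinearMap.congr_fun e ⟨a0, ha0⟩)
      obtain ⟨y0, hy0, hy00⟩ := hxS
      have hLx : L x ≠ 0 := fun e => hy00 (by rw [hskew, neg_eq_zero]; exact LinearMap.congr_fun e ⟨y0, hy0⟩)
      obtain ⟨s', hs', hs'z⟩ := hxz
      have hLz : L z ≠ 0 := fun e => hs'z (LinearMap.congr_fun e ⟨s', hs'⟩)
      have hlt : ∀ φ : S →ₗ[F] F, φ ≠ 0 → Fintype.card F * Nat.card (LinearMap.ker φ) = Nat.card S := by
        intro φ hφ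
        have h1 := LinearMap.finrank_range_add_finrank_ker φ
        have h3 : LinearMap.range φ = ⊤ := LinearMap.range_eq_top.2 (LinearMap.surjective_of_ne_zero hφ)
        rw [h3, finrank_top, Module.finrank_self] at h1
        haveI := Fintype.ofFinite S
        haveI := Fintype.ofFinite (LinearMap.ker φ)
        rw [Nat.card_eq_fintype_card, Nat.card_eq_fintype_card, Module.card_eq_pow_finrank (K := F) (V := S),
          Module.card_eq_pow_finrank (K := F) (V := LinearMap.ker φ), ← h1, pow_add, pow_one]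
      -- the subspace `R` is small
      have hRb : R ≤ LinearMap.ker (L b0) := iInf_le (fun w : S => LinearMap.ker (L w)) ⟨b0, hb0⟩
      have hRlt : Fintype.card F * (Fintype.card F * Nat.card R) ≤ Nat.card S := by
        rw [← hlt _ hLb]
        refine Nat.mul_le_mul_left _ ?_
        have hne' : ∃ w : S, ¬ (∀ a ∈ LinearMap.ker (L b0), L w a = 0) := by
          refine ⟨⟨a0, ha0⟩, fun h => ?_⟩
          have := h ⟨b0, hb0⟩ (LinearMap.mem_ker.2 (E.tF_symp.alternating b0))
          exact hab0 (by rw [hskew, neg_eq_zero]; exact this)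
        obtain ⟨w, hw⟩ := hne'
        push Not at hw
        obtain ⟨a, ha, haw⟩ := hw
        set K := LinearMap.ker (L b0)
        haveI := Fintype.ofFinite K
        haveI := Fintype.ofFinite R
        have h3 : Module.finrank F R + 1 ≤ Module.finrank F K :=
          Submodule.finrank_lt_finrank_of_lt (lt_of_le_of_ne hRb fun e => haw
            ((Submodule.mem_iInf _).1 (show a ∈ R from e ▸ ha) w))
        rw [Nat.card_eq_fintype_card, Nat.card_eq_fintype_card, Module.card_eq_pow_finrank (K := F) (V := R),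
          Module.card_eq_pow_finrank (K := F) (V := K), ← pow_succ']
        exact Nat.pow_le_pow_right Fintype.card_pos h3
      obtain ⟨a, ha1, ha2, ha3, ha4⟩ : ∃ a : S, a ∉ R ∧ (⟨v, hv⟩ : S) - a ∉ R ∧
          L z ((⟨v, hv⟩ : S) - a) ≠ 0 ∧ L x a ≠ 0 := by
        haveI := Fintype.ofFinite S
        haveI := Fintype.ofFinite R
        by_contra hcon
        push Not at hcon
        let T₁ : Finset S := Finset.univ.filter fun a => a ∈ R
        let T₂ : Finset S := Finset.univ.filter fun a => (⟨v, hv⟩ : S) - a ∈ R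
        let T₃ : Finset S := Finset.univ.filter fun a => L z ((⟨v, hv⟩ : S) - a) = 0
        let T₄ : Finset S := Finset.univ.filter fun a => L x a = 0
        have hun : (Finset.univ : Finset S) ⊆ T₁ ∪ T₂ ∪ T₃ ∪ T₄ := fun a _ => by
          by_cases b1 : a ∈ R
          · simp [T₁, b1]
          by_cases b2 : (⟨v, hv⟩ : S) - a ∈ R
          · simp [T₂, b2]
          by_cases b3 : L z ((⟨v, hv⟩ : S) - a) = 0
          · exact Finset.mem_union_left _ (Finset.mem_union_right _ (Finset.mem_filter.2 ⟨Finset.mem_univ _, b3⟩))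
          simp [T₄, hcon a b1 b2 b3]
        have hc := (Finset.card_le_card hun).trans ((Finset.card_union_le _ _).trans (Nat.add_le_add_right
          ((Finset.card_union_le _ _).trans (Nat.add_le_add_right (Finset.card_union_le _ _) _)) _))
        have k1 : T₁.card ≤ Nat.card R := by
          rw [Nat.card_eq_fintype_card]
          exact le_of_eq (Fintype.card_subtype _).symm
        have k2 : T₂.card ≤ Nat.card R := by
          refine le_trans (le_of_eq ?_) k1
          exact Finset.card_nbij' (fun a => (⟨v, hv⟩ : S) - a) (fun a => (⟨v, hv⟩ : S) - a)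
            (fun a h => by simpa [T₁, T₂] using h) (fun a h => by simpa [T₁, T₂] using h)
            (fun a _ => sub_sub_cancel _ _) (fun a _ => sub_sub_cancel _ _)
        have k4 : T₄.card ≤ Nat.card (LinearMap.ker (L x)) := by
          rw [Nat.card_eq_fintype_card]
          exact le_of_eq (by rw [Fintype.card_subtype]; simp [T₄])
        have k3 : T₃.card ≤ Nat.card (LinearMap.ker (L z)) := by
          rw [Nat.card_eq_fintype_card, Fintype.card_subtype]
          refine le_of_eq (Finset.card_nbij' (fun a => (⟨v, hv⟩ : S) - a) (fun a => (⟨v, hv⟩ : S) - a)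
            (fun a h => by simpa [T₃] using h) (fun a h => by simpa [T₃] using h)
            (fun a _ => sub_sub_cancel _ _) (fun a _ => sub_sub_cancel _ _))
        rw [Finset.card_univ, ← Nat.card_eq_fintype_card] at hc
        have := hlt _ hLx
        have := hlt _ hLz
        have hq3 : 3 ≤ Fintype.card F := by
          by_contra hlt3
          have h2c : Fintype.card F = 2 := by
            have := Fintype.one_lt_card (α := F)
            omega
          haveI := charP_of_card_eq_prime (R := F) (p := 2) h2c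
          exact h2 CharTwo.two_eq_zero
        have hSpos : 0 < Nat.card S := Nat.card_pos
        nlinarith [Nat.mul_le_mul hq3 (le_refl (Nat.card R)), Nat.mul_le_mul hq3 (le_refl (Nat.card (LinearMap.ker (L x)))),
          Nat.mul_le_mul hq3 (le_refl (Nat.card (LinearMap.ker (L z)))),
          Nat.mul_le_mul hq3 (Nat.mul_le_mul hq3 (le_refl (Nat.card R)))]
      rw [hR] at ha1 ha2
      push Not at ha1 ha2
      have hb' : Ctr M B f ((1 : F) • ((v : Sp F l n) - a) + t • z) := E.ctr_add
        (hS _ (S.sub_mem hv a.2) ha2) hz (by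
          rw [hskew, neg_ne_zero]
          exact ha3) 1 t ht
      have h := E.ctr_add (hS _ a.2 ha1) hb' (by
        rw [hskew, neg_ne_zero]
        intro e
        apply ha4
        show tForm (RingHom.id F) B f (a : Sp F l n) x = 0
        rw [one_smul, hbl.add_right] at e
        rw [show (v : Sp F l n) - a = v + (-1 : F) • (a : Sp F l n) by simp [sub_eq_add_neg], hbl.add_right,
          hbl.smul_right, E.tF_symp.alternating, mul_zero, add_zero] at e
        rw [hx, hbl.add_right]
        exact e) 1 1 one_ne_zero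
      convert h using 1
      rw [hx]
      module
    intro x hx hne
    obtain ⟨v, hv, _, hz', rfl⟩ := Submodule.mem_sup.1 hx
    obtain ⟨t, rfl⟩ := Submodule.mem_span_singleton.1 hz'
    by_cases ht : t = 0
    · subst ht
      rw [zero_smul, add_zero] at hne ⊢
      by_cases hnr : ∃ y ∈ S, tForm (RingHom.id F) B f v y ≠ 0
      · exact hS v hv hnr
      · push Not at hnr
        obtain ⟨y, hy, hy0⟩ := hne
        obtain ⟨s, hs, _, hz'', rfl⟩ := Submodule.mem_sup.1 hy
        obtain ⟨c, rfl⟩ := Submodule.mem_span_singleton.1 hz''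
        rw [hbl.add_right, hnr s hs, zero_add, hbl.smul_right] at hy0
        have hvz := right_ne_zero_of_mul hy0
        have h1 := out v hv (-1) (by simp) ⟨z, Submodule.mem_sup_right (Submodule.mem_span_singleton_self z), by
          rw [hbl.add_left, hbl.smul_left, E.tF_symp.alternating, mul_zero, add_zero]; exact hvz⟩
        have := E.ctr_add hz h1 (by
          rw [hbl.add_left, hbl.smul_left, E.tF_symp.alternating, mul_zero, add_zero]; exact hvz) 1 1 one_ne_zero
        convert this using 1
        module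
    · exact out v hv t ht hne
  -- the start
  have hu0 : (Pi.single ⟨0, by have := E.hn; omega⟩ 1 : Fin n → F) ≠ 0 := by simp
  set u₀ : Fin n → F := Pi.single ⟨0, by have := E.hn; omega⟩ 1
  have heO : e ∈ O := ⟨he0, he, h⟩
  obtain ⟨p, hp⟩ : ∃ p, B e p ≠ 0 := by by_contra hh; push Not at hh; exact he0 (E.sB.nd _ hh)
  obtain ⟨m, hm, hma⟩ : ∃ m, B m m ≠ 0 ∧ B e m ≠ 0 := by
    by_cases hpp : B p p = 0
    · refine ⟨p + e, ?_, by rwa [hb.add_right, he, add_zero]⟩
      rw [hb.add_left, hb.add_right, hb.add_right, hpp, he, E.hB.symm p e, zero_add, add_zero, ← two_mul]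
      exact mul_ne_zero h2 hp
    · exact ⟨p, hpp, hp⟩
  set e' := E.refl m e
  have he'O : e' ∈ O := hO e heO m hm
  have hee' : B e e' ≠ 0 := by
    show B e (E.refl m e) ≠ 0
    rw [E.refl_apply, ← E.bB_apply, map_sub, map_smul, E.bB_apply, E.bB_apply, he, smul_eq_mul, zero_sub,
      neg_ne_zero]
    exact mul_ne_zero (mul_ne_zero (div_ne_zero h2 hm) hma) hma
  obtain ⟨u₁, hu₁, -⟩ := hflink u₀ u₀ hu0 hu0
  set c₀ := tp e u₀
  set d₀ := tp e' u₁
  have hc0 : Ctr M B f c₀ := E.ctr_of_sq h u₀
  have hd0 : Ctr M B f d₀ := E.ctr_of_sq he'O.2.2 u₁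
  have hcd : tForm (RingHom.id F) B f c₀ d₀ ≠ 0 := by rw [E.tF_tp]; exact mul_ne_zero hee' hu₁
  have hstart : Full (Submodule.span F ({c₀, d₀} : Set (Sp F l n))) := by
    intro x hx _
    obtain ⟨a, b, rfl⟩ := Submodule.mem_span_pair.1 hx
    by_cases hb' : b = 0
    · rw [hb', zero_smul, add_zero]; exact hsm hc0 a
    · exact E.ctr_add hc0 hd0 (by rw [hskew, neg_ne_zero]; exact hcd) a b hb'
  obtain ⟨S, ⟨hS, hcS, hdS⟩, hmax⟩ := Set.Finite.exists_maximalFor (id : Submodule F (Sp F l n) → _)
    {S | Full S ∧ c₀ ∈ S ∧ d₀ ∈ S} (Set.toFinite _)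
    ⟨_, hstart, Submodule.subset_span (by simp), Submodule.subset_span (by simp)⟩
  have hab : ∃ a ∈ S, ∃ b ∈ S, tForm (RingHom.id F) B f a b ≠ 0 := ⟨c₀, hcS, d₀, hdS, hcd⟩
  have hgrow : ∀ z, Ctr M B f z → (∃ x ∈ S, tForm (RingHom.id F) B f x z ≠ 0) → z ∈ S := by
    intro z hz hxz
    by_contra hzS
    have hle := hmax (j := S ⊔ Submodule.span F {z})
      ⟨ext' S hS z hz hzS hxz hab, Submodule.mem_sup_left hcS, Submodule.mem_sup_left hdS⟩ le_sup_left
    exact hzS (hle (Submodule.mem_sup_right (Submodule.mem_span_singleton_self z)))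
  let O' : Set (Fin l → F) := {e₁ | e₁ ∈ O ∧ ∀ w, tp e₁ w ∈ S}
  have hnext : ∀ e₁ ∈ O, ∀ u, u ≠ 0 → tp e₁ u ∈ S → ∀ e₂ ∈ O, B e₁ e₂ ≠ 0 → e₂ ∈ O' := by
    intro e₁ h1 u hu hmem e₂ h2' h12
    refine ⟨h2', fun w => ?_⟩
    by_cases hw : w = 0
    · rw [hw, tp_zero_right]; exact S.zero_mem
    obtain ⟨r, hr, -⟩ := hflink u u hu hu
    have hr0 : r ≠ 0 := fun e => hr (by rw [e]; exact E.sf.zero_right u)
    have s1 : tp e₂ r ∈ S := hgrow _ (E.ctr_of_sq h2'.2.2 r) ⟨_, hmem, by rw [E.tF_tp]; exact mul_ne_zero h12 hr⟩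
    obtain ⟨r', hr', hr'w⟩ := hflink r w hr0 hw
    have h21 : B e₂ e₁ ≠ 0 := by rwa [E.hB.symm]
    have s2 : tp e₁ r' ∈ S := hgrow _ (E.ctr_of_sq h1.2.2 r') ⟨_, s1, by rw [E.tF_tp]; exact mul_ne_zero h21 hr'⟩
    exact hgrow _ (E.ctr_of_sq h2'.2.2 w) ⟨_, s2, by rw [E.tF_tp]; exact mul_ne_zero h12 hr'w⟩
  have he'' : e' ∈ O' := hnext e heO u₀ hu0 hcS e' he'O hee'
  have hall : ∀ e₂ ∈ O, e₂ ∈ O' := by
    intro e₂ h2'
    by_cases h12 : B e' e₂ = 0
    · obtain ⟨e₃, h3, ha, hb'⟩ := hlink e' he'O e₂ h2' h12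
      exact hnext e₃ h3 u₀ hu0 ((hnext e' he'O u₀ hu0 (he''.2 u₀) e₃ h3 ha).2 u₀) e₂ h2' hb'
    · exact hnext e' he'O u₀ hu0 (he''.2 u₀) e₂ h2' h12
  -- the orbit spans
  have hspan : ∀ y, y ∈ Submodule.span F O := by
    have hn' : ∀ m', B m' m' ≠ 0 → B e m' ≠ 0 → m' ∈ Submodule.span F O := fun m' hm' hem' => by
      have hc : 2 / B m' m' * B e m' ≠ 0 := mul_ne_zero (div_ne_zero h2 hm') hem'
      have hd := Submodule.sub_mem _ (Submodule.subset_span (R := F) heO) (Submodule.subset_span (R := F) (hO e heO m' hm'))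
      rw [E.refl_apply, sub_sub_cancel] at hd
      have hd' := Submodule.smul_mem _ (2 / B m' m' * B e m')⁻¹ hd
      rwa [smul_smul, inv_mul_cancel₀ hc, one_smul] at hd'
    have hne : ∀ y, B e y ≠ 0 → y ∈ Submodule.span F O := fun y hy => by
      by_cases hyy : B y y = 0
      · have := hn' (y + e) (by
          rw [hb.add_left, hb.add_right, hb.add_right, hyy, he, E.hB.symm y e, zero_add, add_zero, ← two_mul]
          exact mul_ne_zero h2 hy) (by rwa [hb.add_right, he, add_zero])
        simpa using Submodule.sub_mem _ this (Submodule.subset_span heO)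
      · exact hn' y hyy hy
    intro y
    by_cases hy : B e y = 0
    · have h1 := hne (y + m) (by rwa [hb.add_right, hy, zero_add])
      simpa using Submodule.sub_mem _ h1 (hne m hma)
    · exact hne y hy
  have htp : ∀ y w, tp y w ∈ S := by
    intro y w
    have hle : Submodule.span F O ≤ S.comap (J (k := l) w) :=
      Submodule.span_le.2 fun e₂ h2' => (hall e₂ h2').2 w
    exact hle (hspan y)
  intro c
  have hS' : ∀ v, v ∈ S := fun v => by
    rw [tp_decomp v]
    exact S.sum_mem fun i _ => htp _ _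
  by_cases hc : c = 0
  · exact fun s => ⟨1, M.one_mem, fun v => by rw [op_one, hc, smul_zero, add_zero]⟩
  obtain ⟨-, y, hy⟩ := E.tF_symp.nondegenerate c hc
  exact hS c (hS' c) ⟨y, hS' y, hy⟩

/-- A root with non-scalar operator gives every isometry. -/
theorem Env.isometry_mem (hq : 5 ≤ Fintype.card F ∨ 4 ≤ l) {A : Module.End F (Fin l → F)} (hA : A ∈ E.SA)
    (hns : ¬ ∃ c : F, A = c • 1) (g : GL (Fin l × Fin n) F)
    (hg : ∀ v w, tForm (RingHom.id F) B f (op g v) (op g w) = tForm (RingHom.id F) B f v w) : g ∈ M := by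
  obtain ⟨e, he0, he, h⟩ := E.exists_sq hq hA hns
  refine TransvectionMax.isometry_mem E.tF_symp (fun u c => ?_) g fun x y => by
    simpa [op, Matrix.toLin'_apply] using hg x y
  obtain ⟨g', hg', hgv⟩ := E.ctr_all he0 he h u c
  convert hg' using 1
  refine TransvectionMax.gl_ext fun v => ?_
  rw [TransvectionMax.st_act E.tF_symp]
  simpa [op, Matrix.toLin'_apply] using (hgv v).symm

end Cfsg.Agent.TensorSp44
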