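import Cfsg.Agent.Lib.TensorSpinLocal35
import Cfsg.Agent.Lib.AschFormWreath
import Cfsg.Agent.Lib.AschGenMaximal
import Cfsg.Agent.Lib.OmegaGeo
import Cfsg.Agent.Lib.TensorMaxQuadGlue

/-!
The wreath stabiliser of a symplectic tensor power lies in the normaliser of the span of the local operators,
which is a proper subgroup of the orthogonal commutator group, in characteristic two.
-/

set_option autoImplicit false

namespace Cfsg.Agent.TensorSpin35

open scoped Matrix MatrixGroups commutatorElement
open Cfsg.Geo Cfsg.Agent.AschGenTensor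

variable {F : Type*} [Field F] {k t : ℕ}

local notation "κ" => Fin t → Fin k

/-! ### sites -/

lemma site_eq_update (i : Fin t) (X : Matrix (Fin k) (Fin k) F) :
    site i X = pureMat (Function.update (fun _ => (1 : Matrix (Fin k) (Fin k) F)) i X) := rfl

lemma site_apply (i : Fin t) (X : Matrix (Fin k) (Fin k) F) (x y : κ) :
    site i X x y = if (∀ j, j ≠ i → x j = y j) then X (x i) (y i) else 0 := by
  simp only [site, pureMat, Matrix.of_apply]
  split_ifs with h
  · rw [Finset.prod_eq_single i]
    · simp
    · intro j _ hj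
      simp [Function.update_of_ne hj, h j hj]
    · simp
  · push Not at h
    obtain ⟨j, hj, hne⟩ := h
    exact Finset.prod_eq_zero (Finset.mem_univ j) (by simp [Function.update_of_ne hj, hne])

/-- The embedding of one factor as a linear map. -/
def siteLin (i : Fin t) : Matrix (Fin k) (Fin k) F →ₗ[F] Matrix κ κ F where
  toFun := site i
  map_add' X Y := by
    ext x y
    simp only [site_apply, Matrix.add_apply]
    split_ifs <;> simp
  map_smul' c X := by
    ext x y
    simp only [site_apply, Matrix.smul_apply, RingHom.id_apply]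
    split_ifs <;> simp

lemma site_add (i : Fin t) (X Y : Matrix (Fin k) (Fin k) F) : site i (X + Y) = site i X + site i Y :=
  (siteLin i).map_add X Y

lemma site_smul (i : Fin t) (c : F) (X : Matrix (Fin k) (Fin k) F) : site i (c • X) = c • site i X :=
  (siteLin i).map_smul c X

lemma site_zero (i : Fin t) : site i (0 : Matrix (Fin k) (Fin k) F) = 0 := (siteLin i).map_zero

lemma site_one (i : Fin t) : site i (1 : Matrix (Fin k) (Fin k) F) = 1 := by
  rw [site_eq_update, Function.update_eq_self_iff.2 rfl, pureMat_one]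

lemma site_mul (i : Fin t) (X Y : Matrix (Fin k) (Fin k) F) : site i X * site i Y = site i (X * Y) := by
  rw [site, site, site, pureMat_mul]
  refine congrArg pureMat (funext fun j => ?_)
  by_cases h : j = i
  · subst h; simp
  · simp [Function.update_of_ne h]

lemma site_mul_site {i j : Fin t} (hij : i ≠ j) (X Y : Matrix (Fin k) (Fin k) F) :
    site i X * site j Y =
      pureMat (Function.update (Function.update (fun _ => (1 : Matrix (Fin k) (Fin k) F)) i X) j Y) := by
  rw [site, site, pureMat_mul]
  refine congrArg pureMat (funext fun l => ?_)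
  by_cases h : l = j
  · subst h; simp [Function.update_of_ne (Ne.symm hij)]
  · simp [Function.update_of_ne h]

lemma site_comm {i j : Fin t} (hij : i ≠ j) (X Y : Matrix (Fin k) (Fin k) F) :
    site i X * site j Y = site j Y * site i X := by
  rw [site_mul_site hij, site_mul_site hij.symm, Function.update_comm hij]

lemma site_injective [NeZero k] (i : Fin t) : Function.Injective (site (F := F) (k := k) i) := by
  intro X Y h
  ext a b
  have := congrFun (congrFun h (Function.update (fun _ => 0) i a)) (Function.update (fun _ => 0) i b)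
  rw [site_apply, site_apply, if_pos (fun j hj => by simp [Function.update_of_ne hj]),
    if_pos (fun j hj => by simp [Function.update_of_ne hj])] at this
  simpa using this

lemma perm_site (σ : Equiv.Perm (Fin t)) (i : Fin t) (X : Matrix (Fin k) (Fin k) F) :
    permMat σ * site i X = site (σ i) X * permMat σ := by
  rw [site, permMat_pureMat]
  congr 1
  refine congrArg pureMat (funext fun j => ?_)
  by_cases h : j = σ i
  · subst h; simp
  · rw [Function.update_of_ne h, Function.update_of_ne]
    intro h'
    exact h (by rw [← h', Equiv.apply_symm_apply])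

lemma pure_site (gs : Fin t → GL (Fin k) F) (i : Fin t) (X : Matrix (Fin k) (Fin k) F) :
    ((pureUnit gs : GL κ F) : Matrix κ κ F) * site i X * (((pureUnit gs)⁻¹ : GL κ F) : Matrix κ κ F) =
      site i ((gs i : Matrix (Fin k) (Fin k) F) * X * (((gs i)⁻¹ : GL (Fin k) F) : Matrix (Fin k) (Fin k) F)) := by
  show pureMat _ * site i X * pureMat _ = _
  rw [site, site, pureMat_mul, pureMat_mul]
  refine congrArg pureMat (funext fun j => ?_)
  by_cases h : j = i
  · subst h; simp
  · simp [Function.update_of_ne h]

lemma wreath_site (gs : Fin t → GL (Fin k) F) (σ : Equiv.Perm (Fin t)) (i : Fin t) (X : Matrix (Fin k) (Fin k) F) :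
    (((pureUnit gs * permUnit σ : GL κ F)) : Matrix κ κ F) * site i X *
        ((((pureUnit gs * permUnit σ : GL κ F))⁻¹ : GL κ F) : Matrix κ κ F) =
      site (σ i) ((gs (σ i) : Matrix (Fin k) (Fin k) F) * X *
        (((gs (σ i))⁻¹ : GL (Fin k) F) : Matrix (Fin k) (Fin k) F)) := by
  rw [← pure_site, mul_inv_rev, Units.val_mul, Units.val_mul]
  have h1 : ((permUnit σ : GL κ F) : Matrix κ κ F) * site i X = site (σ i) X * (permUnit σ : GL κ F) :=
    perm_site σ i X
  set P := ((pureUnit gs : GL κ F) : Matrix κ κ F)
  set P' := (((pureUnit gs)⁻¹ : GL κ F) : Matrix κ κ F)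
  set S := ((permUnit σ : GL κ F) : Matrix κ κ F)
  set S' := (((permUnit σ)⁻¹ : GL κ F) : Matrix κ κ F)
  have hS : S * S' = 1 := (permUnit σ : GL κ F).mul_inv
  calc P * S * site i X * (S' * P') = P * (S * site i X) * (S' * P') := by simp only [mul_assoc]
    _ = P * site (σ i) X * (S * S') * P' := by rw [h1]; simp only [mul_assoc]
    _ = _ := by rw [hS, mul_one]

/-- Conjugation of a site by a two-site involution. -/
lemma conj_two {a b : Fin t} (hab : a ≠ b) {D E X : Matrix (Fin k) (Fin k) F} (hE : E * E = 0) {s : F}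
    (hs : D * X + X * D = s • 1) :
    (1 + site a D * site b E) * site a X * (1 + site a D * site b E) = site a X + s • site b E := by
  have h1 : site b E * site a X = site a X * site b E := (site_comm hab X E).symm
  have h2 : site a D * site b E * site a X = site a (D * X) * site b E := by
    rw [mul_assoc, h1, ← mul_assoc, site_mul]
  have h3 : site a X * (site a D * site b E) = site a (X * D) * site b E := by rw [← mul_assoc, site_mul]
  have h4 : site a D * site b E * site a X * (site a D * site b E) = 0 := by
    rw [h2, site_comm hab D E, ← mul_assoc, mul_assoc (site a (D * X)), site_mul, hE, site_zero, mul_zero, zero_mul]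
  calc (1 + site a D * site b E) * site a X * (1 + site a D * site b E)
      = site a X + (site a D * site b E * site a X + site a X * (site a D * site b E))
        + site a D * site b E * site a X * (site a D * site b E) := by noncomm_ring
    _ = _ := by rw [h4, h2, h3, ← add_mul, ← site_add, hs, site_smul, site_one, Matrix.smul_mul, one_mul, add_zero]

lemma two_sq {a b : Fin t} (hab : a ≠ b) (h2 : (2 : F) = 0) {D E : Matrix (Fin k) (Fin k) F} (hE : E * E = 0) :
    (1 + site a D * site b E) * (1 + site a D * site b E) = 1 := by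
  have h4 : site a D * site b E * (site a D * site b E) = 0 := by
    calc site a D * site b E * (site a D * site b E) = site a D * (site b E * site a D) * site b E := by
          simp only [mul_assoc]
      _ = site a D * site a D * (site b E * site b E) := by rw [site_comm hab.symm E D]; simp only [mul_assoc]
      _ = 0 := by rw [site_mul b, hE, site_zero, mul_zero]
  calc (1 + site a D * site b E) * (1 + site a D * site b E)
      = 1 + (site a D * site b E + site a D * site b E) + site a D * site b E * (site a D * site b E) := by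
        noncomm_ring
    _ = 1 := by rw [h4, ← two_smul F, h2, zero_smul, add_zero, add_zero]

/-! ### the span of the local operators -/

/-- Sums of local operators. -/
def opSpan (L : Submodule F (Matrix (Fin k) (Fin k) F)) : Submodule F (Matrix κ κ F) where
  carrier := {X | ∃ Y : Fin t → Matrix (Fin k) (Fin k) F, (∀ i, Y i ∈ L) ∧ X = ∑ i, site i (Y i)}
  zero_mem' := ⟨fun _ => 0, fun _ => L.zero_mem, by simp [site_zero]⟩
  add_mem' := by
    rintro _ _ ⟨Y, hY, rfl⟩ ⟨Z, hZ, rfl⟩
    exact ⟨fun i => Y i + Z i, fun i => L.add_mem (hY i) (hZ i), by simp [site_add, Finset.sum_add_distrib]⟩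
  smul_mem' := by
    rintro c _ ⟨Y, hY, rfl⟩
    exact ⟨fun i => c • Y i, fun i => L.smul_mem c (hY i), by simp [site_smul, Finset.smul_sum]⟩

lemma site_mem_opSpan {L : Submodule F (Matrix (Fin k) (Fin k) F)} (i : Fin t) {X : Matrix (Fin k) (Fin k) F}
    (hX : X ∈ L) : site i X ∈ opSpan (t := t) L := by
  classical
  refine ⟨Function.update (fun _ => 0) i X, fun j => ?_, ?_⟩
  · by_cases h : j = i
    · subst h; simpa
    · simp [Function.update_of_ne h]
  · rw [Finset.sum_eq_single i]
    · simp
    · intro j _ hj; simp [Function.update_of_ne hj, site_zero]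
    · simp

/-- Conjugations preserving the span of the local operators. -/
def opNormalizer [Finite F] (L : Submodule F (Matrix (Fin k) (Fin k) F)) : Subgroup (GL κ F) where
  carrier := {g | ∀ X ∈ opSpan (t := t) L, (g : Matrix κ κ F) * X * ((g⁻¹ : GL κ F) : Matrix κ κ F) ∈ opSpan (t := t) L}
  mul_mem' := by
    intro a b ha hb X hX
    simpa [mul_inv_rev, Units.val_mul, mul_assoc] using ha _ (hb X hX)
  one_mem' := by intro X hX; simpa using hX
  inv_mem' := by
    intro a ha X hX
    have : Finite (Matrix κ κ F) := inferInstance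
    let φ : opSpan (t := t) L → opSpan (t := t) L := fun Y => ⟨_, ha Y Y.2⟩
    have hinj : Function.Injective φ := by
      intro Y Z h
      have h' := congrArg (fun M : Matrix κ κ F => ((a⁻¹ : GL κ F) : Matrix κ κ F) * M * (a : Matrix κ κ F))
        (congrArg Subtype.val h)
      exact Subtype.ext (by simpa [φ, mul_assoc] using h')
    obtain ⟨Y, hY⟩ := Finite.injective_iff_surjective.1 hinj ⟨X, hX⟩
    have hY' : (a : Matrix κ κ F) * Y * ((a⁻¹ : GL κ F) : Matrix κ κ F) = X := congrArg Subtype.val hY
    rw [inv_inv, ← hY']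
    simpa [mul_assoc] using Y.2

lemma mem_opNormalizer [Finite F] {L : Submodule F (Matrix (Fin k) (Fin k) F)} {g : GL κ F}
    (h : ∀ i, ∀ X ∈ L, (g : Matrix κ κ F) * site i X * ((g⁻¹ : GL κ F) : Matrix κ κ F) ∈ opSpan (t := t) L) :
    g ∈ opNormalizer (t := t) L := by
  rintro _ ⟨Y, hY, rfl⟩
  rw [Finset.mul_sum, Finset.sum_mul]
  exact Submodule.sum_mem _ fun i _ => h i _ (hY i)

/-! ### rank -/

lemma rank_add_le' {m : Type} [Fintype m] [DecidableEq m] (A B : Matrix m m F) :
    (A + B).rank ≤ A.rank + B.rank := by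
  rw [Matrix.rank, Matrix.rank, Matrix.rank]
  refine le_trans (Submodule.finrank_mono ?_) (Submodule.finrank_add_le_finrank_add_finrank _ _)
  rintro _ ⟨x, rfl⟩
  rw [Matrix.mulVecLin_add, LinearMap.add_apply]
  exact Submodule.add_mem_sup (LinearMap.mem_range_self _ x) (LinearMap.mem_range_self _ x)

lemma rank_one_smul {m : Type} [Fintype m] [DecidableEq m] {c : F} (hc : c ≠ 0) :
    (c • (1 : Matrix m m F)).rank = Fintype.card m :=
  Matrix.rank_of_isUnit _ ⟨⟨c • 1, c⁻¹ • 1, by simp [smul_smul, hc], by simp [smul_smul, hc]⟩, rfl⟩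

lemma eq_smul_one_of_comm {M : Matrix (Fin k) (Fin k) F} (h : ∀ X, M * X = X * M) : ∃ c : F, M = c • 1 := by
  rcases isEmpty_or_nonempty (Fin k) with h0 | ⟨⟨o⟩⟩
  · exact ⟨0, Subsingleton.elim _ _⟩
  refine ⟨M o o, Matrix.ext fun i j => ?_⟩
  have h1 := congrFun (congrFun (h (Matrix.single j o 1)) i) o
  simp only [Matrix.mul_apply, Matrix.single_apply] at h1
  simp at h1
  rw [h1]
  by_cases hij : i = j
  · subst hij; simp
  · simp [hij, Ne.symm hij]

/-- A nonzero sum of local operators has large rank. -/
lemma low_rank_zero (h2 : (2 : F) = 0) {G : Matrix (Fin k) (Fin k) F} (d : LocalData G t)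
    (hn : 9 ≤ Fintype.card κ) {X : Matrix κ κ F} (hX : X ∈ opSpan (t := t) d.L) (hr : X.rank ≤ 4) : X = 0 := by
  classical
  obtain ⟨Y, hY, rfl⟩ := hX
  have hpair : ∀ A ∈ d.L, ∀ B ∈ d.L, ∃ s : F, A * B + B * A = s • 1 := by
    intro A hA B hB
    obtain ⟨a, ha⟩ := d.sq A hA
    obtain ⟨b, hb⟩ := d.sq B hB
    obtain ⟨c, hc⟩ := d.sq _ (d.L.add_mem hA hB)
    refine ⟨c - a - b, ?_⟩
    rw [sub_smul, sub_smul, ← ha, ← hb, ← hc]
    noncomm_ring
  by_cases hall : ∀ i, ∀ W ∈ d.L, Y i * W = W * Y i
  · have hsc : ∀ i, ∃ c : F, Y i = c • 1 := fun i => by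
      refine eq_smul_one_of_comm fun M => ?_
      have hle : Algebra.adjoin F (d.L : Set (Matrix (Fin k) (Fin k) F)) ≤ Subalgebra.centralizer F {Y i} :=
        Algebra.adjoin_le fun W hW => by
          rw [SetLike.mem_coe, Subalgebra.mem_centralizer_iff]
          rintro _ rfl
          exact hall i W hW
      rw [d.gen] at hle
      exact (Subalgebra.mem_centralizer_iff F).1 (hle (Algebra.mem_top (x := M))) _ rfl
    choose c hc using hsc
    have hX : ∑ i, site i (Y i) = (∑ i, c i) • (1 : Matrix κ κ F) := by
      rw [Finset.sum_smul]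
      exact Finset.sum_congr rfl fun i _ => by rw [hc, site_smul, site_one]
    rw [hX] at hr ⊢
    by_contra hne
    have h0 : (∑ i, c i) ≠ 0 := fun h => hne (by rw [h, zero_smul])
    rw [rank_one_smul h0] at hr
    omega
  · exfalso
    push Not at hall
    obtain ⟨j, W, hW, hne⟩ := hall
    obtain ⟨s, hs⟩ := hpair _ (hY j) _ hW
    have hs0 : s ≠ 0 := by
      intro h
      rw [h, zero_smul] at hs
      refine hne (sub_eq_zero.1 ?_)
      calc Y j * W - W * Y j = (Y j * W + W * Y j) - (2 : F) • (W * Y j) := by rw [two_smul]; abel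
        _ = 0 := by rw [hs, h2, zero_smul, sub_zero]
    have hsum : (∑ i, site i (Y i)) * site j W + site j W * (∑ i, site i (Y i)) = s • (1 : Matrix κ κ F) := by
      rw [Finset.sum_mul, Finset.mul_sum, ← Finset.sum_add_distrib, Finset.sum_eq_single j]
      · rw [site_mul, site_mul, ← site_add, hs, site_smul, site_one]
      · intro i _ hij
        rw [site_comm hij, ← two_smul F, h2, zero_smul]
      · simp
    have h1 := rank_add_le' ((∑ i, site i (Y i)) * site j W) (site j W * (∑ i, site i (Y i)))
    rw [hsum, rank_one_smul hs0] at h1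
    have h3 := Matrix.rank_mul_le_left (∑ i, site i (Y i)) (site j W)
    have h4 := Matrix.rank_mul_le_right (site j W) (∑ i, site i (Y i))
    omega

lemma eq_smul_one_of_comm_sites {M : Matrix κ κ F}
    (h : ∀ i X, M * site i X = site i X * M) : ∃ c : F, M = c • 1 := by
  classical
  rcases isEmpty_or_nonempty κ with h0 | ⟨⟨o⟩⟩
  · exact ⟨0, Subsingleton.elim _ _⟩
  have key : ∀ i (a b : Fin k) (x z : κ), M x (Function.update z i a) * (if z i = b then 1 else 0) =
      (if x i = a then 1 else 0) * M (Function.update x i b) z := by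
    intro i a b x z
    have h1 := congrFun (congrFun (h i (Matrix.single a b 1)) x) z
    rw [Matrix.mul_apply, Matrix.mul_apply, Finset.sum_eq_single (Function.update z i a),
      Finset.sum_eq_single (Function.update x i b)] at h1
    · have e1 : site i (Matrix.single a b (1 : F)) (Function.update z i a) z = if z i = b then 1 else 0 := by
        rw [site_apply, if_pos (fun j hj => by simp [Function.update_of_ne hj])]
        simp [Matrix.single_apply, eq_comm]
      have e2 : site i (Matrix.single a b (1 : F)) x (Function.update x i b) = if x i = a then 1 else 0 := by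
        rw [site_apply, if_pos (fun j hj => by simp [Function.update_of_ne hj])]
        simp [Matrix.single_apply, eq_comm]
      rwa [e1, e2] at h1
    all_goals first
      | (simp; done)
      | (intro w _ hw
         rw [site_apply]
         split_ifs with hc
         · rw [Matrix.single_apply, if_neg, mul_zero]
           rintro ⟨h5, h6⟩
           exact hw (funext fun j => by
             by_cases hj : j = i
             · subst hj; simp [h5, h6]
             · simp [Function.update_of_ne hj, hc j hj])
         · rw [mul_zero])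
      | (intro w _ hw
         rw [site_apply]
         split_ifs with hc
         · rw [Matrix.single_apply, if_neg, zero_mul]
           rintro ⟨h5, h6⟩
           exact hw (funext fun j => by
             by_cases hj : j = i
             · subst hj; simp [h5, h6]
             · simp [Function.update_of_ne hj, hc j hj])
         · rw [zero_mul])
  have hoff : ∀ x z, x ≠ z → M x z = 0 := by
    intro x z hxz
    obtain ⟨i, hi⟩ := Function.ne_iff.1 hxz
    have := key i (z i) (z i) x z
    simpa [hi] using this
  have hdiag : ∀ (i : Fin t) (b : Fin k) (x : κ), M (Function.update x i b) (Function.update x i b) = M x x := by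
    intro i b x
    have := key i (x i) b x (Function.update x i b)
    simpa using this.symm
  have hconst : ∀ x, M x x = M o o := by
    have : ∀ s : Finset (Fin t), ∀ x : κ, M (s.piecewise x o) (s.piecewise x o) = M o o := by
      intro s
      induction s using Finset.induction with
      | empty => simp
      | insert i s hi ih =>
        intro x
        rw [Finset.piecewise_insert, hdiag, ih]
    intro x
    simpa using this Finset.univ x
  refine ⟨M o o, Matrix.ext fun x z => ?_⟩
  by_cases hxz : x = z
  · subst hxz; simp [hconst]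
  · simp [hxz, hoff x z hxz]

/-! ### the isometries -/

lemma bil_ext {m : Type} [Fintype m] [DecidableEq m] {N N' : Matrix m m F}
    (h : ∀ u v, u ⬝ᵥ N *ᵥ v = u ⬝ᵥ N' *ᵥ v) : N = N' := by
  ext i j
  simpa using h (Pi.single i 1) (Pi.single j 1)

lemma dot_congr {m : Type} [Fintype m] [DecidableEq m] (N A : Matrix m m F) (u v : m → F) :
    (A *ᵥ u) ⬝ᵥ N *ᵥ (A *ᵥ v) = u ⬝ᵥ (Aᵀ * N * A) *ᵥ v := by
  rw [← Matrix.mulVec_mulVec, ← Matrix.mulVec_mulVec, Matrix.dotProduct_mulVec u Aᵀ, Matrix.vecMul_transpose]

variable [Fintype F]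

set_option maxHeartbeats 1600000 in
/-- The core statement in tensor coordinates. -/
theorem core (h2 : (2 : F) = 0) (G : Matrix (Fin k) (Fin k) F) (d : LocalData G t) (ht : 2 ≤ t)
    (hG : ∀ i, G i i = 0) (hG0 : G ≠ 0) (Qc : (κ → F) → F) (hQ : IsNondegenerateQuadraticForm Qc) (c : F)
    (hc : c ≠ 0)
    (hpol : ∀ x y, QuadraticMap.polar Qc x y = c * (x ⬝ᵥ pureMat (fun _ => G) *ᵥ y))
    (hpure : ∀ xs : Fin t → Fin k → F, Qc (fun a => ∏ i, xs i (a i)) = 0) (hn : 9 ≤ Fintype.card κ) :
    ∃ K : Subgroup (GL κ F), tensorWreathStandard k t F ⊓ omegaGL Qc < K ∧ K < omegaGL Qc := by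
  classical
  have hk0 : 0 < k := by
    by_contra h0
    obtain rfl : k = 0 := by omega
    exact d.hE0 (Subsingleton.elim _ _)
  haveI : NeZero k := ⟨hk0.ne'⟩
  haveI hk2 : Nontrivial (Fin k) := by
    by_contra hk
    rw [not_nontrivial_iff_subsingleton] at hk
    refine d.hE0 (Matrix.ext fun i j => ?_)
    have h := congrFun (congrFun d.hE2 i) j
    obtain rfl := Subsingleton.elim i j
    simpa [Matrix.mul_apply, Subsingleton.elim (default : Fin k) i, Fintype.sum_subsingleton _ i] using h
  let a : Fin t := ⟨0, by omega⟩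
  let b : Fin t := ⟨1, by omega⟩
  have hab : a ≠ b := by simp [a, b, Fin.ext_iff]
  set M : Matrix κ κ F := pureMat (fun _ => G) with hM
  -- columns of pure matrices are pure
  have hcol : ∀ (U : Fin t → Matrix (Fin k) (Fin k) F) (z : κ), Qc (pureMat U *ᵥ Pi.single z 1) = 0 := by
    intro U z
    rw [Matrix.mulVec_single_one]
    exact hpure fun i r => U i r (z i)
  have hsingle : ∀ z : κ, Qc (Pi.single z 1) = 0 := by
    intro z
    have := hcol (fun _ => 1) z
    rwa [pureMat_one, Matrix.one_mulVec] at this
  have hadd : ∀ u v, Qc (u + v) = Qc u + Qc v + QuadraticMap.polar Qc u v := fun u v => by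
    simp [QuadraticMap.polar]
  -- isometry criterion
  have hiso : ∀ A : GL κ F, (A : Matrix κ κ F)ᵀ * M * (A : Matrix κ κ F) = M →
      (∀ z, Qc ((A : Matrix κ κ F) *ᵥ Pi.single z 1) = 0) → A ∈ Cfsg.isometryGroup F Qc := by
    intro A hA hz
    have hp : ∀ u v, QuadraticMap.polar Qc ((A : Matrix κ κ F) *ᵥ u) ((A : Matrix κ κ F) *ᵥ v) =
        QuadraticMap.polar Qc u v := fun u v => by rw [hpol, hpol, dot_congr, hA]
    have hall : ∀ v, Qc ((A : Matrix κ κ F) *ᵥ v) = Qc v := by
      intro v
      rw [pi_eq_sum_univ' v, Matrix.mulVec_sum]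
      induction (Finset.univ : Finset κ) using Finset.induction with
      | empty => simp
      | insert z s hzs ih =>
        rw [Finset.sum_insert hzs, Finset.sum_insert hzs, hadd, hadd, ih, ← Matrix.mulVec_sum, hp,
          Matrix.mulVec_smul, hQ.smul, hQ.smul, hz, hsingle]
    intro u v
    exact hall u
  -- the stabiliser normalises
  have hstab : ∀ g ∈ tensorWreathStandard k t F ⊓ omegaGL Qc, g ∈ opNormalizer (t := t) d.L := by
    rintro g ⟨hg, hgΩ⟩
    obtain ⟨gs, σ, rfl⟩ := AschGenMaximal.mem_standard hg
    obtain ⟨w, -, hw⟩ := hgΩ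
    have hiso' : ∀ v, Qc (((pureUnit gs * permUnit σ : GL κ F) : Matrix κ κ F) *ᵥ v) = Qc v := fun v => by
      have hm : (pureUnit gs * permUnit σ : GL κ F) ∈ Cfsg.isometryGroup F Qc := hw ▸ w.2
      exact hm v v
    have hgM : ((pureUnit gs * permUnit σ : GL κ F) : Matrix κ κ F)ᵀ * M *
        ((pureUnit gs * permUnit σ : GL κ F) : Matrix κ κ F) = M := by
      refine bil_ext fun u v => mul_left_cancel₀ hc ?_
      rw [← dot_congr, ← hpol, ← hpol]
      simp only [QuadraticMap.polar, ← Matrix.mulVec_add, hiso']
    set S : Matrix κ κ F := permMat σ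
    set S' : Matrix κ κ F := permMat σ.symm
    have hS1 : S * S' = 1 := permMat_mul_symm σ
    have hS2 : S' * S = 1 := by simpa using permMat_mul_symm (F := F) (k := k) σ.symm
    have hST : Sᵀ = S' := AschFormWreath.permMat_transpose σ
    have hSM : S * M = M * S := permMat_pureMat σ fun _ => G
    set U : Fin t → Matrix (Fin k) (Fin k) F := fun i => (gs i : Matrix (Fin k) (Fin k) F)
    have hgm : ((pureUnit gs * permUnit σ : GL κ F) : Matrix κ κ F) = pureMat U * S := rfl
    have hP : pureMat (fun i => (U i)ᵀ * G * U i) = (1 : F) • pureMat (fun _ : Fin t => G) := by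
      rw [one_smul, ← pureMat_mul, ← pureMat_mul, ← AschFormWreath.pureMat_transpose]
      rw [hgm, Matrix.transpose_mul, hST] at hgM
      calc (pureMat U)ᵀ * M * pureMat U
          = (S * S') * ((pureMat U)ᵀ * M * pureMat U) * (S * S') := by rw [hS1, one_mul, mul_one]
        _ = S * (S' * (pureMat U)ᵀ * M * (pureMat U * S)) * S' := by simp only [mul_assoc]
        _ = M * (S * S') := by rw [hgM, hSM, mul_assoc]
        _ = M := by rw [hS1, mul_one]
    obtain ⟨l, -, hl, -⟩ := AschFormWreath.pure_factor (fun _ => hG0) one_ne_zero hP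
    refine mem_opNormalizer fun i X hX => ?_
    rw [wreath_site]
    exact site_mem_opSpan _ (d.inv _ _ (hl (σ i)) X hX)
  -- the elementary two-site involution
  have hE2 := d.hE2
  let X0 : Matrix κ κ F := site a d.E * site b d.E
  let U0 : Fin t → Matrix (Fin k) (Fin k) F :=
    Function.update (Function.update (fun _ => (1 : Matrix (Fin k) (Fin k) F)) a d.E) b d.E
  have hX0 : X0 = pureMat U0 := site_mul_site hab d.E d.E
  let x : GL κ F := ⟨1 + X0, 1 + X0, two_sq hab h2 hE2, two_sq hab h2 hE2⟩
  have hXM : X0ᵀ * M = M * X0 := by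
    rw [hX0, AschFormWreath.pureMat_transpose, hM, pureMat_mul, pureMat_mul]
    refine congrArg pureMat (funext fun i => ?_)
    by_cases hib : i = b
    · subst hib; simp [U0, d.hsym]
    by_cases hia : i = a
    · subst hia; simp [U0, Function.update_of_ne hib, d.hsym]
    · simp [U0, Function.update_of_ne hib, Function.update_of_ne hia]
  have hX00 : X0 * X0 = 0 := by
    rw [hX0, pureMat_mul]
    ext u v
    exact Finset.prod_eq_zero (Finset.mem_univ b) (by simp [U0, hE2])
  have hxI : x ∈ Cfsg.isometryGroup F Qc := by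
    refine hiso x ?_ fun z => ?_
    · show (1 + X0)ᵀ * M * (1 + X0) = M
      calc (1 + X0)ᵀ * M * (1 + X0) = M + (X0ᵀ * M + M * X0) + X0ᵀ * M * X0 := by
            rw [Matrix.transpose_add, Matrix.transpose_one]; noncomm_ring
        _ = M := by rw [hXM, ← two_smul F, h2, zero_smul, mul_assoc, hX00, mul_zero, add_zero, add_zero]
    · show Qc ((1 + X0) *ᵥ Pi.single z 1) = 0
      have hi0 : ∃ i0, ∀ r, (G * U0 i0) r r = 0 := by
        rcases d.halt with h | h
        · exact ⟨a, fun r => by simpa [U0, Function.update_of_ne hab] using h r⟩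
        · refine ⟨⟨2, by omega⟩, fun r => ?_⟩
          simp [U0, a, b, Function.update_apply, Fin.ext_iff, hG]
      obtain ⟨i0, hi0⟩ := hi0
      rw [Matrix.add_mulVec, Matrix.one_mulVec, hadd, hsingle, hX0, hcol, zero_add, zero_add, hpol,
        Matrix.mulVec_mulVec, hM, pureMat_mul, single_dotProduct, one_mul, Matrix.mulVec_single_one]
      show c * ∏ i, (G * U0 i) (z i) (z i) = 0
      rw [Finset.prod_eq_zero (Finset.mem_univ i0) (hi0 _), mul_zero]
  have hxN : x ∈ opNormalizer (t := t) d.L := by
    refine mem_opNormalizer fun i X hX => ?_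
    show (1 + X0) * site i X * (1 + X0) ∈ _
    obtain ⟨a', ha'⟩ := d.sq d.E d.hE
    obtain ⟨b', hb'⟩ := d.sq X hX
    obtain ⟨c', hc'⟩ := d.sq _ (d.L.add_mem d.hE hX)
    have hs : d.E * X + X * d.E = (c' - a' - b') • 1 := by
      rw [sub_smul, sub_smul, ← ha', ← hb', ← hc']; noncomm_ring
    by_cases hia : i = a
    · subst hia
      rw [conj_two hab hE2 hs]
      exact add_mem (site_mem_opSpan _ hX) (Submodule.smul_mem _ _ (site_mem_opSpan _ d.hE))
    by_cases hib : i = b
    · subst hib
      show (1 + site a d.E * site b d.E) * site b X * (1 + site a d.E * site b d.E) ∈ _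
      rw [site_comm hab, conj_two hab.symm hE2 hs]
      exact add_mem (site_mem_opSpan _ hX) (Submodule.smul_mem _ _ (site_mem_opSpan _ d.hE))
    · have hcm : site i X * (1 + X0) = (1 + X0) * site i X := by
        show site i X * (1 + site a d.E * site b d.E) = (1 + site a d.E * site b d.E) * site i X
        rw [mul_add, add_mul, one_mul, mul_one, ← mul_assoc, site_comm hia, mul_assoc, site_comm hib, ← mul_assoc]
      rw [mul_assoc, hcm, ← mul_assoc, two_sq hab h2 hE2, one_mul]
      exact site_mem_opSpan _ hX
  -- the local isometry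
  let gs : Fin t → GL (Fin k) F := Function.update (fun _ => 1) a d.g
  let gA : GL κ F := pureUnit gs
  have hgs : ∀ i, (gs i : Matrix (Fin k) (Fin k) F)ᵀ * G * (gs i : Matrix (Fin k) (Fin k) F) = G := by
    intro i
    by_cases hi : i = a
    · subst hi; simp [gs, d.hg]
    · simp [gs, Function.update_of_ne hi]
  have hgI : gA ∈ Cfsg.isometryGroup F Qc := by
    refine hiso gA ?_ fun z => hcol _ z
    show (pureMat _)ᵀ * M * pureMat _ = M
    rw [AschFormWreath.pureMat_transpose, hM, pureMat_mul, pureMat_mul]
    exact congrArg pureMat (funext hgs)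
  have hgN : gA ∈ opNormalizer (t := t) d.L := by
    refine mem_opNormalizer fun i X hX => ?_
    rw [pure_site]
    exact site_mem_opSpan _ (d.inv _ 1 (by rw [hgs, one_smul]) X hX)
  -- the new element
  set y : GL κ F := ⁅gA, x⁆ with hy
  have hyval : (y : Matrix κ κ F) = 1 + site a d.D * site b d.E := by
    have h1 : (gA : Matrix κ κ F) * (1 + X0) * ((gA⁻¹ : GL κ F) : Matrix κ κ F) =
        1 + site a (d.E + d.D) * site b d.E := by
      have hPa : (gA : Matrix κ κ F) * site a d.E * ((gA⁻¹ : GL κ F) : Matrix κ κ F) = site a (d.E + d.D) := by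
        rw [pure_site]; simp only [gs, Function.update_self]; rw [d.hgE]
      have hPb : (gA : Matrix κ κ F) * site b d.E * ((gA⁻¹ : GL κ F) : Matrix κ κ F) = site b d.E := by
        rw [pure_site]; simp [gs, Function.update_of_ne hab.symm]
      rw [← hPa]
      conv_rhs => rw [← hPb]
      show (gA : Matrix κ κ F) * (1 + site a d.E * site b d.E) * _ = _
      simp [mul_add, add_mul, mul_assoc]
    show (gA : Matrix κ κ F) * (1 + X0) * ((gA⁻¹ : GL κ F) : Matrix κ κ F) * (1 + X0) = _
    rw [h1]
    show (1 + site a (d.E + d.D) * site b d.E) * (1 + site a d.E * site b d.E) = _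
    have hz : site a (d.E + d.D) * site b d.E * (site a d.E * site b d.E) = 0 := by
      rw [mul_assoc, ← mul_assoc (site b d.E), site_comm hab.symm, mul_assoc (site a d.E), site_mul b, hE2,
        site_zero, mul_zero, mul_zero]
    calc (1 + site a (d.E + d.D) * site b d.E) * (1 + site a d.E * site b d.E)
        = 1 + (site a (d.E + d.D) + site a d.E) * site b d.E +
            site a (d.E + d.D) * site b d.E * (site a d.E * site b d.E) := by noncomm_ring
      _ = _ := by
          rw [hz, add_zero, ← site_add, show d.E + d.D + d.E = d.D + (2 : F) • d.E by rw [two_smul]; abel, h2,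
            zero_smul, add_zero]
  have hyinv : ((y⁻¹ : GL κ F) : Matrix κ κ F) = 1 + site a d.D * site b d.E :=
    Units.inv_eq_of_mul_eq_one_right (by rw [hyval, two_sq hab h2 hE2])
  have hyΩ : y ∈ omegaGL Qc := by
    rw [TensorMaxGlue.omegaGL_eq]
    exact Subgroup.commutator_mem_commutator hgI hxI
  have hyN : y ∈ opNormalizer (t := t) d.L := by
    rw [hy, commutatorElement_def]
    exact mul_mem (mul_mem (mul_mem hgN hxN) (inv_mem hgN)) (inv_mem hxN)
  have hyS : y ∉ tensorWreathStandard k t F := by
    intro hyS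
    obtain ⟨gs', σ, hgσ⟩ := AschGenMaximal.mem_standard hyS
    have hW := wreath_site gs' σ a d.Y
    rw [← hgσ, hyinv, hyval, conj_two hab hE2 d.hDY] at hW
    by_cases hja : σ a = a
    · rw [hja] at hW
      have hcm : ∀ Z : Matrix (Fin k) (Fin k) F, d.E * Z = Z * d.E := by
        intro Z
        have h := congrArg (fun W => W * site b Z - site b Z * W) hW
        simp only [add_mul, mul_add, Matrix.smul_mul, Matrix.mul_smul, site_comm hab, site_mul, sub_self] at h
        rw [add_sub_add_left_eq_sub, ← smul_sub, smul_eq_zero] at h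
        exact site_injective b (sub_eq_zero.1 (h.resolve_left d.hδ))
      obtain ⟨e, he⟩ := eq_smul_one_of_comm hcm
      have h := hE2
      rw [he] at h
      have h' := congrFun (congrFun h 0) 0
      simp [Matrix.mul_apply, Matrix.one_apply] at h'
      exact d.hE0 (by rw [he, h', zero_smul])
    · have h := congrArg (fun W => W * site a d.D - site a d.D * W) hW
      simp only [add_mul, mul_add, Matrix.smul_mul, Matrix.mul_smul, site_comm hja, site_comm hab.symm, site_mul,
        sub_self] at h
      rw [add_sub_add_right_eq_sub, sub_eq_zero] at h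
      have hYD := site_injective a h
      have hd := d.hDY
      rw [← hYD, ← two_smul F, h2, zero_smul] at hd
      have := congrFun (congrFun hd 0) 0
      simp at this
      exact d.hδ this.symm
  -- the element outside
  obtain ⟨q, hq, hnd⟩ := OmegaGeo.exists_quad hQ
  let z0 : κ := fun _ => 0
  obtain ⟨r, hr⟩ := exists_ne (0 : Fin k)
  let z1 : κ := Function.update z0 a r
  have hz10 : z1 ≠ z0 := fun h => hr (by simpa [z1, z0] using congrFun h a)
  set e : κ → F := Pi.single z0 1
  set f : κ → F := Pi.single z1 1
  have hfe : QuadraticMap.polar Qc f e = 0 := by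
    rw [hpol, single_dotProduct, one_mul, Matrix.mulVec_single_one]
    show c * ∏ i, G (z1 i) (z0 i) = 0
    rw [Finset.prod_eq_zero (Finset.mem_univ b) (by simp [z1, z0, Function.update_of_ne hab.symm, hG]), mul_zero]
  obtain ⟨kk, hkk, hact⟩ := OmegaGeo.exists_siegel (Q := q) hnd
    (by rw [Module.finrank_pi]; omega) (e := e) (f := f) (by rw [hq]; exact hsingle z0)
    (by rw [hq]; exact hsingle z1) (by rw [hq]; exact hfe)
  set T := OmegaGeo.toGL q kk
  have hTΩ : T ∈ omegaGL Qc := hq ▸ OmegaGeo.toGL_mem hkk
  let N : Matrix κ κ F := Matrix.vecMulVec e (fun j => QuadraticMap.polar Qc f (Pi.single j 1)) +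
    Matrix.vecMulVec (-f) (fun j => QuadraticMap.polar Qc e (Pi.single j 1))
  have hTN : (T : Matrix κ κ F) = 1 + N := by
    refine Matrix.ext_of_mulVec_single fun j => ?_
    rw [OmegaGeo.toGL_mulVec, hact, Matrix.add_mulVec, Matrix.one_mulVec, Matrix.add_mulVec,
      Matrix.mulVec_single_one, Matrix.mulVec_single_one, hq]
    funext i
    simp [Matrix.vecMulVec_apply]
    ring
  have hN2 : N.rank ≤ 2 := by
    have := rank_add_le' (Matrix.vecMulVec e (fun j => QuadraticMap.polar Qc f (Pi.single j 1)))
      (Matrix.vecMulVec (-f) (fun j => QuadraticMap.polar Qc e (Pi.single j 1)))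
    have h1 := Matrix.rank_vecMulVec_le e (fun j => QuadraticMap.polar Qc f (Pi.single j 1))
    have h3 := Matrix.rank_vecMulVec_le (-f) (fun j => QuadraticMap.polar Qc e (Pi.single j 1))
    show (_ + _ : Matrix κ κ F).rank ≤ 2
    omega
  have hN0 : N ≠ 0 := by
    intro h
    obtain ⟨v, hv⟩ := (hQ.nondegenerate f (fun h0 => by simpa [f] using congrFun h0 z1)).2
    have h1 := OmegaGeo.toGL_mulVec kk v
    rw [show (OmegaGeo.toGL q kk : Matrix κ κ F) = 1 from by rw [show OmegaGeo.toGL q kk = T from rfl, hTN, h, add_zero],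
      Matrix.one_mulVec, hact, add_sub_assoc, left_eq_add, sub_eq_zero, hq] at h1
    have h3 := congrFun h1 z0
    simp [e, f, hz10.symm] at h3
    exact hv h3
  have hTN' : T ∉ opNormalizer (t := t) d.L := by
    intro hT
    have hcomm : ∀ i, ∀ X ∈ d.L, N * site i X = site i X * N := by
      intro i X hX
      have hmem := sub_mem (hT _ (site_mem_opSpan (t := t) i hX)) (site_mem_opSpan (t := t) i hX)
      have heq : (T : Matrix κ κ F) * site i X * ((T⁻¹ : GL κ F) : Matrix κ κ F) - site i X =
          (N * site i X - site i X * N) * ((T⁻¹ : GL κ F) : Matrix κ κ F) := by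
        have hTi : ((T : Matrix κ κ F)) * ((T⁻¹ : GL κ F) : Matrix κ κ F) = 1 := T.mul_inv
        calc (T : Matrix κ κ F) * site i X * ((T⁻¹ : GL κ F) : Matrix κ κ F) - site i X
            = ((T : Matrix κ κ F) * site i X - site i X * (T : Matrix κ κ F)) *
              ((T⁻¹ : GL κ F) : Matrix κ κ F) := by rw [sub_mul, mul_assoc (site i X), hTi, mul_one]
          _ = _ := by rw [hTN]; noncomm_ring
      rw [heq] at hmem
      have hrk : ((N * site i X - site i X * N) * ((T⁻¹ : GL κ F) : Matrix κ κ F)).rank ≤ 4 := by
        refine (Matrix.rank_mul_le_left _ _).trans ?_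
        rw [sub_eq_add_neg, ← Matrix.neg_mul]
        refine (rank_add_le' _ _).trans ?_
        have h1 := Matrix.rank_mul_le_left N (site i X)
        have h3 := Matrix.rank_mul_le_right (-site i X) N
        omega
      have h0 := low_rank_zero h2 d hn hmem hrk
      have := congrArg (fun W : Matrix κ κ F => W * (T : Matrix κ κ F)) h0
      simp only [mul_assoc, Units.inv_mul, mul_one, zero_mul] at this
      exact sub_eq_zero.1 this
    obtain ⟨s, hs⟩ := eq_smul_one_of_comm_sites (M := N) fun i X => by
      have hX : X ∈ Algebra.adjoin F (d.L : Set (Matrix (Fin k) (Fin k) F)) := d.gen ▸ Algebra.mem_top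
      induction hX using Algebra.adjoin_induction with
      | mem X hX => exact hcomm i X hX
      | algebraMap r =>
        rw [Algebra.algebraMap_eq_smul_one, site_smul, site_one, Matrix.mul_smul, Matrix.smul_mul, mul_one, one_mul]
      | add X Y _ _ hx hy => rw [site_add, mul_add, hx, hy, ← add_mul]
      | mul X Y _ _ hx hy => rw [← site_mul, ← mul_assoc, hx, mul_assoc, hy, mul_assoc]
    by_cases hs0 : s = 0
    · exact hN0 (by rw [hs, hs0, zero_smul])
    · rw [hs, rank_one_smul hs0] at hN2
      omega
  refine ⟨opNormalizer (t := t) d.L ⊓ omegaGL Qc, lt_of_le_of_ne (fun g hg => ⟨hstab g hg, hg.2⟩) ?_,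
    lt_of_le_of_ne inf_le_right ?_⟩
  · intro h
    exact hyS (h.symm.le (show y ∈ opNormalizer (t := t) d.L ⊓ omegaGL Qc from ⟨hyN, hyΩ⟩)).1
  · intro h
    exact hTN' (h.symm.le hTΩ).1

end Cfsg.Agent.TensorSpin35
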