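import Cfsg.Agent.Lib.AschGenTensor
import Cfsg.Agent.Lib.SymplecticAlt

/-!
Local data for the spin embedding of a symplectic wreath product in characteristic two: on each tensor factor a
space of operators whose squares are scalars, stable under similitudes and generating the matrix algebra.
-/

set_option autoImplicit false

namespace Cfsg.Agent.TensorSpin35

open scoped Matrix
open Cfsg.Agent.AschGenTensor

variable {F : Type*} [Field F] {k t : ℕ}

/-- The operators attached to one tensor factor with Gram matrix `G`. -/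
structure LocalData (G : Matrix (Fin k) (Fin k) F) (t : ℕ) where
  L : Submodule F (Matrix (Fin k) (Fin k) F)
  sq : ∀ X ∈ L, ∃ c : F, X * X = c • 1
  inv : ∀ (g : GL (Fin k) F) (l : F),
    (g : Matrix (Fin k) (Fin k) F)ᵀ * G * (g : Matrix (Fin k) (Fin k) F) = l • G → ∀ X ∈ L,
      (g : Matrix (Fin k) (Fin k) F) * X * ((g⁻¹ : GL (Fin k) F) : Matrix (Fin k) (Fin k) F) ∈ L
  gen : Algebra.adjoin F (L : Set (Matrix (Fin k) (Fin k) F)) = ⊤
  E : Matrix (Fin k) (Fin k) F
  D : Matrix (Fin k) (Fin k) F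
  Y : Matrix (Fin k) (Fin k) F
  g : GL (Fin k) F
  hE : E ∈ L
  hD : D ∈ L
  hY : Y ∈ L
  hE2 : E * E = 0
  hE0 : E ≠ 0
  hg : (g : Matrix (Fin k) (Fin k) F)ᵀ * G * (g : Matrix (Fin k) (Fin k) F) = G
  hgE : (g : Matrix (Fin k) (Fin k) F) * E * ((g⁻¹ : GL (Fin k) F) : Matrix (Fin k) (Fin k) F) = E + D
  δ : F
  hδ : δ ≠ 0
  hDY : D * Y + Y * D = δ • 1
  hsym : Eᵀ * G = G * E
  halt : (∀ i, (G * E) i i = 0) ∨ 3 ≤ t

/-- A symmetric matrix with zero diagonal keeps that shape under congruence, over characteristic two. -/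
lemma congr_diag_four (h2 : (2 : F) = 0) (A B : Matrix (Fin 4) (Fin 4) F) (hs : Aᵀ = A)
    (hd : ∀ i, A i i = 0) : ∀ i, (Bᵀ * A * B) i i = 0 := by
  intro i
  have h : ∀ a b, A b a = A a b := fun a b => congrFun (congrFun hs a) b
  have d0 := hd 0; have d1 := hd 1; have d2 := hd 2; have d3 := hd 3
  simp [Matrix.mul_apply, Fin.sum_univ_four, h 0 1, h 0 2, h 0 3, h 1 2, h 1 3, h 2 3,
    d0, d1, d2, d3]
  linear_combination (B 0 i * B 1 i * A 0 1 + B 0 i * B 2 i * A 0 2 + B 0 i * B 3 i * A 0 3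
    + B 1 i * B 2 i * A 1 2 + B 1 i * B 3 i * A 1 3 + B 2 i * B 3 i * A 2 3) * h2

/-- The traceless matrices. -/
def traceZero : Submodule F (Matrix (Fin 2) (Fin 2) F) :=
  LinearMap.ker (Matrix.traceLinearMap (Fin 2) F F)

lemma mem_traceZero (h2 : (2 : F) = 0) (X : Matrix (Fin 2) (Fin 2) F) : X ∈ traceZero ↔ X 0 0 = X 1 1 := by
  rw [traceZero, LinearMap.mem_ker, Matrix.traceLinearMap_apply, Matrix.trace_fin_two]
  constructor
  · intro h; linear_combination h - (X 1 1) * h2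
  · intro h; linear_combination h + (X 1 1) * h2

/-- The local data for a plane. -/
theorem local_two (h2 : (2 : F) = 0) (hq : ∃ c : F, c ≠ 0 ∧ c ≠ 1) (G : Matrix (Fin 2) (Fin 2) F)
    (hG : ∀ i, G i i = 0) (hG' : G 1 0 = G 0 1) (ht : 3 ≤ t) : Nonempty (LocalData G t) := by
  obtain ⟨c, hc0, hc1⟩ := hq
  have hd : c ^ 2 + 1 ≠ 0 := by
    intro h
    have h' : (c + 1) ^ 2 = 0 := by linear_combination h + c * h2
    have := (pow_eq_zero_iff (two_ne_zero)).1 h'
    exact hc1 (by linear_combination this - h2)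
  let g : GL (Fin 2) F :=
    ⟨!![c, 0; 0, c⁻¹], !![c⁻¹, 0; 0, c], by ext i j; fin_cases i <;> fin_cases j <;> simp [Matrix.mul_apply, Fin.sum_univ_two, hc0],
      by ext i j; fin_cases i <;> fin_cases j <;> simp [Matrix.mul_apply, Fin.sum_univ_two, hc0]⟩
  refine ⟨⟨traceZero, ?_, ?_, ?_, !![0, 1; 0, 0], !![0, c ^ 2 + 1; 0, 0], !![0, 0; 1, 0], g, ?_, ?_, ?_, ?_, ?_,
    ?_, ?_, c ^ 2 + 1, hd, ?_, ?_, Or.inr ht⟩⟩
  · intro X hX
    rw [mem_traceZero h2] at hX
    refine ⟨X 0 0 * X 0 0 + X 0 1 * X 1 0, ?_⟩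
    ext i j
    fin_cases i <;> fin_cases j <;> simp [Matrix.mul_apply, Fin.sum_univ_two, hX]
    · linear_combination (X 0 1 * X 1 1) * h2
    · linear_combination (X 1 0 * X 1 1) * h2
    · ring
  · intro g l _ X hX
    rw [traceZero, LinearMap.mem_ker, Matrix.traceLinearMap_apply] at hX ⊢
    rw [Matrix.trace_mul_cycle, ← Units.val_mul, inv_mul_cancel, Units.val_one, one_mul, hX]
  · refine eq_top_iff.2 fun M _ => ?_
    have e : (!![0, 1; 0, 0] : Matrix (Fin 2) (Fin 2) F) ∈ Algebra.adjoin F (traceZero (F := F) : Set (Matrix (Fin 2) (Fin 2) F)) :=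
      Algebra.subset_adjoin ((mem_traceZero h2 _).2 (by simp))
    have f : (!![0, 0; 1, 0] : Matrix (Fin 2) (Fin 2) F) ∈ Algebra.adjoin F (traceZero (F := F) : Set (Matrix (Fin 2) (Fin 2) F)) :=
      Algebra.subset_adjoin ((mem_traceZero h2 _).2 (by simp))
    have hM : M = M 0 1 • !![0, 1; 0, 0] + M 1 0 • !![0, 0; 1, 0]
        + M 0 0 • (!![0, 1; 0, 0] * !![0, 0; 1, 0]) + M 1 1 • (!![0, 0; 1, 0] * !![0, 1; 0, 0]) := by
      ext i j
      fin_cases i <;> fin_cases j <;> simp [Matrix.mul_apply, Fin.sum_univ_two]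
    rw [hM]
    exact add_mem (add_mem (add_mem (Subalgebra.smul_mem _ e _) (Subalgebra.smul_mem _ f _))
      (Subalgebra.smul_mem _ (mul_mem e f) _)) (Subalgebra.smul_mem _ (mul_mem f e) _)
  · exact (mem_traceZero h2 _).2 (by simp)
  · exact (mem_traceZero h2 _).2 (by simp)
  · exact (mem_traceZero h2 _).2 (by simp)
  · ext i j
    fin_cases i <;> fin_cases j <;> simp [Matrix.mul_apply, Fin.sum_univ_two]
  · intro h
    simpa using congrFun (congrFun h 0) 1
  · ext i j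
    fin_cases i <;> fin_cases j <;>
      simp [g, Matrix.mul_apply, Fin.sum_univ_two, hG, hG'] <;> field_simp
  · ext i j
    fin_cases i <;> fin_cases j <;> simp [g, Matrix.mul_apply, Fin.sum_univ_two]
    linear_combination -h2
  · ext i j
    fin_cases i <;> fin_cases j <;> simp [Matrix.mul_apply, Fin.sum_univ_two]
  · ext i j
    fin_cases i <;> fin_cases j <;> simp [Matrix.mul_apply, Fin.sum_univ_two, hG, hG']

/-- The standard Gram matrix on four coordinates. -/
def J4 : Matrix (Fin 4) (Fin 4) F := !![0, 0, 0, 1; 0, 0, 1, 0; 0, 1, 0, 0; 1, 0, 0, 0]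

/-- The five-dimensional operator space of the standard four-dimensional form. -/
def five : Submodule F (Matrix (Fin 4) (Fin 4) F) where
  carrier := {X | X 0 3 = 0 ∧ X 1 2 = 0 ∧ X 2 1 = 0 ∧ X 3 0 = 0 ∧ X 1 1 = X 0 0 ∧ X 2 2 = X 0 0 ∧
    X 3 3 = X 0 0 ∧ X 2 3 = X 0 1 ∧ X 3 2 = X 1 0 ∧ X 1 3 = X 0 2 ∧ X 3 1 = X 2 0}
  zero_mem' := by simp
  add_mem' := by
    intro X Y hX hY
    simp only [Set.mem_setOf_eq, Matrix.add_apply] at *
    obtain ⟨a1, a2, a3, a4, a5, a6, a7, a8, a9, a10, a11⟩ := hX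
    obtain ⟨b1, b2, b3, b4, b5, b6, b7, b8, b9, b10, b11⟩ := hY
    simp [a1, a2, a3, a4, a5, a6, a7, a8, a9, a10, a11, b1, b2, b3, b4, b5, b6, b7, b8, b9, b10, b11]
  smul_mem' := by
    intro c X hX
    simp only [Set.mem_setOf_eq, Matrix.smul_apply] at *
    obtain ⟨a1, a2, a3, a4, a5, a6, a7, a8, a9, a10, a11⟩ := hX
    simp [a1, a2, a3, a4, a5, a6, a7, a8, a9, a10, a11]

lemma J4_mul (X : Matrix (Fin 4) (Fin 4) F) (i j : Fin 4) : (J4 (F := F) * X) i j = X (![3, 2, 1, 0] i) j := by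
  rw [Matrix.mul_apply, Fin.sum_univ_four]
  fin_cases i <;> simp [J4]

lemma five_props (h2 : (2 : F) = 0) {X : Matrix (Fin 4) (Fin 4) F} (hX : X ∈ five) :
    (J4 (F := F) * X)ᵀ = J4 * X ∧ (∀ i, (J4 (F := F) * X) i i = 0) ∧ ∃ c : F, X * X = c • 1 := by
  obtain ⟨a1, a2, a3, a4, a5, a6, a7, a8, a9, a10, a11⟩ := hX
  refine ⟨?_, ?_, X 0 0 * X 0 0 + X 0 1 * X 1 0 + X 0 2 * X 2 0, ?_⟩
  · ext i j
    fin_cases i <;> fin_cases j <;>
      simp [J4_mul, a1, a2, a3, a4, a5, a6, a7, a8, a9, a10, a11]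
  · intro i
    fin_cases i <;> simp [J4_mul, a1, a2, a3, a4]
  · ext i j
    fin_cases i <;> fin_cases j <;>
      simp [Matrix.mul_apply, Fin.sum_univ_four, a1, a2, a3, a4, a5, a6, a7, a8, a9, a10, a11] <;>
      (ring_nf; try simp [h2])

lemma mem_five_of (h2 : (2 : F) = 0) {X : Matrix (Fin 4) (Fin 4) F} (hs : (J4 (F := F) * X)ᵀ = J4 * X)
    (hd : ∀ i, (J4 (F := F) * X) i i = 0) {c : F} (hc : X * X = c • 1) : X ∈ five := by
  have e : ∀ i j, (J4 (F := F) * X) j i = (J4 (F := F) * X) i j := fun i j => congrFun (congrFun hs i) j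
  have d3 := hd 0; have d2 := hd 1; have d1 := hd 2; have d0 := hd 3
  have e01 := e 0 1; have e02 := e 0 2; have e03 := e 0 3
  have e12 := e 1 2; have e13 := e 1 3; have e23 := e 2 3
  simp [J4_mul] at d0 d1 d2 d3 e01 e02 e03 e12 e13 e23
  have c00 := congrFun (congrFun hc 0) 0
  have c11 := congrFun (congrFun hc 1) 1
  simp [Matrix.mul_apply, Fin.sum_univ_four, d0, d1, d2, d3] at c00 c11
  have hm : X 1 1 = X 0 0 := by
    refine sub_eq_zero.1 ((pow_eq_zero_iff two_ne_zero).1 (?_ : (X 1 1 - X 0 0) ^ 2 = 0))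
    rw [e01, e23] at *
    linear_combination c11 - c00 + (X 0 0 * X 0 0 - X 0 0 * X 1 1) * h2
  refine ⟨d0, d1, d2, d3, hm, ?_, ?_, ?_, ?_, ?_, ?_⟩
  all_goals grind

set_option maxHeartbeats 1000000 in
/-- The local data for the standard four-dimensional form. -/
theorem local_four (h2 : (2 : F) = 0) :
    ∃ d : LocalData (J4 : Matrix (Fin 4) (Fin 4) F) t, ∀ i, (J4 (F := F) * d.E) i i = 0 := by
  let g : GL (Fin 4) F :=
    ⟨!![1, 0, 0, 0; 0, 0, 1, 0; 0, 1, 0, 0; 0, 0, 0, 1], !![1, 0, 0, 0; 0, 0, 1, 0; 0, 1, 0, 0; 0, 0, 0, 1],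
      by ext i j; fin_cases i <;> fin_cases j <;> simp [Matrix.mul_apply, Fin.sum_univ_four],
      by ext i j; fin_cases i <;> fin_cases j <;> simp [Matrix.mul_apply, Fin.sum_univ_four]⟩
  refine ⟨⟨five, fun X hX => (five_props h2 hX).2.2, ?_, ?_,
    !![0, 1, 0, 0; 0, 0, 0, 0; 0, 0, 0, 1; 0, 0, 0, 0],
    !![0, 1, 1, 0; 0, 0, 0, 1; 0, 0, 0, 1; 0, 0, 0, 0],
    !![0, 0, 0, 0; 1, 0, 0, 0; 0, 0, 0, 0; 0, 0, 1, 0], g, ?_, ?_, ?_, ?_, ?_, ?_, ?_, 1, one_ne_zero, ?_, ?_,
    Or.inl ?halt⟩, ?halt⟩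
  case halt => intro i; fin_cases i <;> simp [J4_mul]
  · intro g l hg X hX
    obtain ⟨hs, hd, c, hc⟩ := five_props h2 hX
    set gm := (g : Matrix (Fin 4) (Fin 4) F)
    set gi := ((g⁻¹ : GL (Fin 4) F) : Matrix (Fin 4) (Fin 4) F)
    have hgg : gi * gm = 1 := g.inv_mul
    have hgg' : gm * gi = 1 := g.mul_inv
    have h1 : J4 * (gm * X * gi) = l • (giᵀ * (J4 * X) * gi) := by
      calc J4 * (gm * X * gi) = (gm * gi)ᵀ * J4 * (gm * X * gi) := by rw [hgg', Matrix.transpose_one, one_mul]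
        _ = giᵀ * (gmᵀ * J4 * gm) * X * gi := by simp only [Matrix.transpose_mul, mul_assoc]
        _ = _ := by rw [hg]; simp only [Matrix.mul_smul, Matrix.smul_mul, mul_assoc]
    refine mem_five_of h2 (c := c) ?_ (fun i => ?_) ?_
    · rw [h1, Matrix.transpose_smul, Matrix.transpose_mul, Matrix.transpose_mul, hs, Matrix.transpose_transpose]
      simp only [mul_assoc]
    · rw [h1, Matrix.smul_apply, congr_diag_four h2 _ _ hs hd, smul_zero]
    · calc gm * X * gi * (gm * X * gi) = gm * X * (gi * gm) * X * gi := by simp only [mul_assoc]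
        _ = gm * (X * X) * gi := by rw [hgg, mul_one]; simp only [mul_assoc]
        _ = _ := by rw [hc, Matrix.mul_smul, mul_one, Matrix.smul_mul, hgg']
  · refine eq_top_iff.2 fun M _ => ?_
    set A := Algebra.adjoin F ((five : Submodule F (Matrix (Fin 4) (Fin 4) F)) : Set (Matrix (Fin 4) (Fin 4) F))
    let e1 : Matrix (Fin 4) (Fin 4) F := Matrix.single 0 1 1 + Matrix.single 2 3 1
    let f1 : Matrix (Fin 4) (Fin 4) F := Matrix.single 1 0 1 + Matrix.single 3 2 1
    let e2 : Matrix (Fin 4) (Fin 4) F := Matrix.single 0 2 1 + Matrix.single 1 3 1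
    let f2 : Matrix (Fin 4) (Fin 4) F := Matrix.single 2 0 1 + Matrix.single 3 1 1
    have he1 : e1 ∈ A := Algebra.subset_adjoin (by simp [five, e1, Matrix.single_apply])
    have hf1 : f1 ∈ A := Algebra.subset_adjoin (by simp [five, f1, Matrix.single_apply])
    have he2 : e2 ∈ A := Algebra.subset_adjoin (by simp [five, e2, Matrix.single_apply])
    have hf2 : f2 ∈ A := Algebra.subset_adjoin (by simp [five, f2, Matrix.single_apply])
    let u1 : Fin 2 → Fin 2 → Matrix (Fin 4) (Fin 4) F := ![![e1 * f1, e1], ![f1, f1 * e1]]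
    let u2 : Fin 2 → Fin 2 → Matrix (Fin 4) (Fin 4) F := ![![e2 * f2, e2], ![f2, f2 * e2]]
    have h1 : ∀ i j, u1 i j ∈ A := by
      intro i j
      fin_cases i <;> fin_cases j <;> simp [u1, he1, hf1, mul_mem]
    have h2' : ∀ i j, u2 i j ∈ A := by
      intro i j
      fin_cases i <;> fin_cases j <;> simp [u2, he2, hf2, mul_mem]
    let lo : Fin 4 → Fin 2 := ![0, 1, 0, 1]
    let hi : Fin 4 → Fin 2 := ![0, 0, 1, 1]
    have hsingle : ∀ a b : Fin 4, Matrix.single a b (1 : F) = u1 (lo a) (lo b) * u2 (hi a) (hi b) := by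
      intro a b
      fin_cases a <;> fin_cases b <;>
        simp [u1, u2, e1, f1, e2, f2, lo, hi, add_mul, mul_add]
    rw [Matrix.matrix_eq_sum_single M]
    refine sum_mem fun a _ => sum_mem fun b _ => ?_
    rw [show Matrix.single a b (M a b) = M a b • Matrix.single a b (1 : F) by simp, hsingle]
    exact Subalgebra.smul_mem _ (mul_mem (h1 _ _) (h2' _ _)) _
  · simp [five]
  · simp [five]
  · simp [five]
  · ext i j
    fin_cases i <;> fin_cases j <;> simp [Matrix.mul_apply, Fin.sum_univ_four]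
  · intro h
    simpa using congrFun (congrFun h 0) 1
  · ext i j
    fin_cases i <;> fin_cases j <;> simp [g, J4, Matrix.mul_apply, Fin.sum_univ_four]
  · ext i j
    fin_cases i <;> fin_cases j <;> simp [g, Matrix.mul_apply, Fin.sum_univ_four] <;> linear_combination -h2
  · ext i j
    fin_cases i <;> fin_cases j <;> simp [Matrix.mul_apply, Fin.sum_univ_four] <;> linear_combination h2
  · ext i j
    fin_cases i <;> fin_cases j <;> simp [J4, Matrix.mul_apply, Fin.sum_univ_four]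

/-- Conjugation by a congruence transports local data. -/
theorem local_congr (h2 : (2 : F) = 0) {G G₀ : Matrix (Fin 4) (Fin 4) F} (C : GL (Fin 4) F)
    (hC : (C : Matrix (Fin 4) (Fin 4) F)ᵀ * G * (C : Matrix (Fin 4) (Fin 4) F) = G₀) (d : LocalData G₀ t)
    (hd : ∀ i, (G₀ * d.E) i i = 0) (hG₀ : G₀ᵀ = G₀) : Nonempty (LocalData G t) := by
  set c := (C : Matrix (Fin 4) (Fin 4) F)
  set ci := ((C⁻¹ : GL (Fin 4) F) : Matrix (Fin 4) (Fin 4) F)
  have h1 : ci * c = 1 := C.inv_mul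
  have h1' : c * ci = 1 := C.mul_inv
  have hG : G = ciᵀ * G₀ * ci := by
    rw [← hC]
    calc G = (c * ci)ᵀ * G * (c * ci) := by rw [h1', Matrix.transpose_one, one_mul, mul_one]
      _ = _ := by simp only [Matrix.transpose_mul, mul_assoc]
  let φ : Matrix (Fin 4) (Fin 4) F →ₐ[F] Matrix (Fin 4) (Fin 4) F :=
    { toFun := fun X => c * X * ci
      map_one' := by simp [h1']
      map_mul' := fun X Y => by
        calc c * (X * Y) * ci = c * X * 1 * Y * ci := by simp only [mul_one, mul_assoc]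
          _ = _ := by rw [← h1]; simp only [mul_assoc]
      map_zero' := by simp
      map_add' := fun X Y => by simp [mul_add, add_mul]
      commutes' := fun r => by simp [Algebra.algebraMap_eq_smul_one, h1'] }
  have hφ : ∀ X, φ X = c * X * ci := fun _ => rfl
  have hsym : (φ d.E)ᵀ * G = G * φ d.E := by
    rw [hφ, hG]
    calc (c * d.E * ci)ᵀ * (ciᵀ * G₀ * ci) = ciᵀ * (d.Eᵀ * ((ci * c)ᵀ * G₀)) * ci := by
          simp only [Matrix.transpose_mul, mul_assoc]
      _ = ciᵀ * (G₀ * d.E) * ci := by rw [h1, Matrix.transpose_one, one_mul, d.hsym]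
      _ = ciᵀ * G₀ * (ci * c) * d.E * ci := by rw [h1, mul_one]; simp only [mul_assoc]
      _ = _ := by simp only [mul_assoc]
  refine ⟨⟨d.L.map φ.toLinearMap, ?_, ?_, ?_, φ d.E, φ d.D, φ d.Y, C * d.g * C⁻¹, ⟨_, d.hE, rfl⟩, ⟨_, d.hD, rfl⟩,
    ⟨_, d.hY, rfl⟩, ?_, ?_, ?_, ?_, d.δ, d.hδ, ?_, hsym, Or.inl ?_⟩⟩
  · rintro _ ⟨X, hX, rfl⟩
    obtain ⟨a, ha⟩ := d.sq X hX
    exact ⟨a, by rw [AlgHom.toLinearMap_apply, ← map_mul, ha, map_smul, map_one]⟩
  · rintro g l hg _ ⟨X, hX, rfl⟩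
    refine ⟨_, d.inv (C⁻¹ * g * C) l ?_ X hX, ?_⟩
    · simp only [Units.val_mul]
      calc (ci * (g : Matrix (Fin 4) (Fin 4) F) * c)ᵀ * G₀ * (ci * (g : Matrix (Fin 4) (Fin 4) F) * c)
          = cᵀ * ((g : Matrix (Fin 4) (Fin 4) F)ᵀ * (ciᵀ * G₀ * ci) * (g : Matrix (Fin 4) (Fin 4) F)) * c := by
            simp only [Matrix.transpose_mul, mul_assoc]
        _ = _ := by rw [← hG, hg, Matrix.mul_smul, Matrix.smul_mul, hC]
    · simp only [AlgHom.toLinearMap_apply, hφ, mul_inv_rev, inv_inv, Units.val_mul]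
      calc c * (ci * (g : Matrix (Fin 4) (Fin 4) F) * c * X *
            (ci * (((g⁻¹ : GL (Fin 4) F) : Matrix (Fin 4) (Fin 4) F) * c))) * ci
          = (c * ci) * (g : Matrix (Fin 4) (Fin 4) F) * (c * X * ci) *
            ((g⁻¹ : GL (Fin 4) F) : Matrix (Fin 4) (Fin 4) F) * (c * ci) := by simp only [mul_assoc]
        _ = _ := by rw [h1', one_mul, mul_one]
  · rw [Submodule.map_coe, AlgHom.coe_toLinearMap, Algebra.adjoin_image, d.gen]
    exact eq_top_iff.2 fun X _ => ⟨ci * X * c, Algebra.mem_top, by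
      show φ (ci * X * c) = X
      rw [hφ]
      calc c * (ci * X * c) * ci = (c * ci) * X * (c * ci) := by simp only [mul_assoc]
        _ = X := by rw [h1', one_mul, mul_one]⟩
  · rw [← map_mul, d.hE2, map_zero]
  · intro h
    refine d.hE0 ?_
    calc d.E = (ci * c) * d.E * (ci * c) := by rw [h1, one_mul, mul_one]
      _ = ci * φ d.E * c := by rw [hφ]; simp only [mul_assoc]
      _ = 0 := by rw [h]; simp
  · have := d.hg
    simp only [Units.val_mul]
    calc (c * (d.g : Matrix (Fin 4) (Fin 4) F) * ci)ᵀ * G * (c * (d.g : Matrix (Fin 4) (Fin 4) F) * ci)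
        = ciᵀ * ((d.g : Matrix (Fin 4) (Fin 4) F)ᵀ * (cᵀ * G * c) * (d.g : Matrix (Fin 4) (Fin 4) F)) * ci := by
          simp only [Matrix.transpose_mul, mul_assoc]
      _ = G := by rw [hC, d.hg, ← hG]
  · rw [← map_add, ← d.hgE]
    simp only [hφ, mul_inv_rev, inv_inv, Units.val_mul]
    calc c * (d.g : Matrix (Fin 4) (Fin 4) F) * ci * (c * d.E * ci) *
          (c * (((d.g⁻¹ : GL (Fin 4) F) : Matrix (Fin 4) (Fin 4) F) * ci))
        = c * (d.g : Matrix (Fin 4) (Fin 4) F) * (ci * c) * d.E * (ci * c) *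
          ((d.g⁻¹ : GL (Fin 4) F) : Matrix (Fin 4) (Fin 4) F) * ci := by simp only [mul_assoc]
      _ = _ := by rw [h1, mul_one, mul_one]; simp only [mul_assoc]
  · rw [← map_mul, ← map_mul, ← map_add, d.hDY, map_smul, map_one]
  · intro i
    have h : G * φ d.E = ciᵀ * (G₀ * d.E) * ci := by
      rw [hφ, hG]
      calc ciᵀ * G₀ * ci * (c * d.E * ci) = ciᵀ * G₀ * (ci * c) * d.E * ci := by simp only [mul_assoc]
        _ = _ := by rw [h1, mul_one]; simp only [mul_assoc]
    rw [h]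
    refine congr_diag_four h2 _ _ ?_ hd i
    rw [Matrix.transpose_mul, hG₀, d.hsym]

/-- Local data for a nondegenerate alternating form in dimension two or four. -/
theorem exists_local (h2 : (2 : F) = 0) (hk : k = 2 ∨ k = 4) (hq : k = 2 → (3 ≤ t ∧ ∃ c : F, c ≠ 0 ∧ c ≠ 1))
    (f : (Fin k → F) → (Fin k → F) → F) (hf : Cfsg.Geo.IsSymplecticForm f) :
    Nonempty (LocalData (Cfsg.Geo.gramMatrix f) t) := by
  have hneg : ∀ x : F, -x = x := fun x => by linear_combination -x * h2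
  rcases hk with rfl | rfl
  · refine local_two h2 (hq rfl).2 _ (fun i => hf.alternating _) ?_ (hq rfl).1
    show f _ _ = f _ _
    rw [hf.skew, hneg]
  · have hb := hf.bilinear
    let B : (Fin 4 → F) →ₗ[F] (Fin 4 → F) →ₗ[F] F := LinearMap.mk₂ F f hb.add_left
      (fun c a b => by rw [hb.smul_left, smul_eq_mul]) hb.add_right (fun c a b => by rw [hb.smul_right, smul_eq_mul])
    obtain ⟨m, hm, e, -, he⟩ := SymplecticAlt.exists_symp_basis B hf.alternating 4 ⊤
      (by rw [finrank_top, Module.finrank_fin_fun]) (fun u _ h => by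
        by_contra h0
        obtain ⟨v, hv⟩ := (hf.nondegenerate u h0).2
        exact hv (h v Submodule.mem_top))
    obtain rfl : m = 2 := by omega
    let s : Fin 4 → Fin 2 ⊕ Fin 2 := ![.inl 0, .inl 1, .inr 1, .inr 0]
    let c : Matrix (Fin 4) (Fin 4) F := Matrix.of fun i a => e (s a) i
    have hfe : ∀ u v : Fin 4 → F, f u v = u ⬝ᵥ Cfsg.Geo.gramMatrix f *ᵥ v := by
      intro u v
      show B u v = _
      conv_lhs => rw [pi_eq_sum_univ' u, pi_eq_sum_univ' v]
      simp only [map_sum, map_smul, LinearMap.sum_apply, LinearMap.smul_apply, smul_eq_mul, dotProduct,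
        Matrix.mulVec, Finset.mul_sum]
      rw [Finset.sum_comm]
      refine Finset.sum_congr rfl fun a _ => Finset.sum_congr rfl fun b _ => ?_
      show _ * (_ * f (Pi.single a 1) (Pi.single b 1)) = _ * (f (Pi.single a 1) (Pi.single b 1) * _)
      ring
    have hc : cᵀ * Cfsg.Geo.gramMatrix f * c = J4 := by
      ext a b
      rw [mul_assoc]
      show (fun i => e (s a) i) ⬝ᵥ Cfsg.Geo.gramMatrix f *ᵥ (fun i => e (s b) i) = _
      rw [← hfe]
      show B (e (s a)) (e (s b)) = _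
      rw [he]
      fin_cases a <;> fin_cases b <;>
        simp [s, J4, Cfsg.sympForm, dotProduct, Matrix.mulVec, Matrix.J, Fintype.sum_sum_type, Fin.sum_univ_two, hneg]
    have hu : IsUnit c := by
      rw [Matrix.isUnit_iff_isUnit_det, isUnit_iff_ne_zero]
      intro h0
      have hJ : (J4 : Matrix (Fin 4) (Fin 4) F) * J4 = 1 := by
        ext i j
        fin_cases i <;> fin_cases j <;> simp [J4, Matrix.mul_apply, Fin.sum_univ_four]
      have := congrArg Matrix.det hJ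
      rw [← hc, Matrix.det_mul, Matrix.det_mul, Matrix.det_mul, h0, Matrix.det_one] at this
      simp at this
    obtain ⟨d, hd⟩ := local_four (F := F) (t := t) h2
    have hJ : (J4 : Matrix (Fin 4) (Fin 4) F)ᵀ = J4 := by
      ext i j
      fin_cases i <;> fin_cases j <;> simp [J4]
    exact local_congr h2 hu.unit (by simpa using hc) d hd hJ

end Cfsg.Agent.TensorSpin35
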