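import Cfsg.Agent.Lib.TensorDerange84
import Cfsg.Agent.Lib.SympPrimeElements

/-!
Elements of prime order of symplectic groups that are not Kronecker products.
-/

set_option autoImplicit false
set_option linter.unusedSectionVars false
set_option linter.unusedSimpArgs false

namespace Cfsg.Agent.TensorSympDerange95

open Module Cfsg.Agent.TensorDerange84 Cfsg.Agent.PrimeOrderModule84
open scoped Kronecker Matrix

universe u v

variable {F : Type u} [Field F] {a b : ℕ} {V : Type v} [AddCommGroup V] [Module F V]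

/-- Being a Kronecker product is symmetric in the factors. -/
theorem ten_symm {g : Module.End F V} (h : Ten g a b) : Ten g b a := by
  classical
  obtain ⟨A, B, φ, hφ⟩ := h
  refine ⟨B, A, (LinearEquiv.funCongrLeft F F (Equiv.prodComm (Fin a) (Fin b))).trans φ, fun v => ?_⟩
  show g (φ (v ∘ Prod.swap)) = φ ((((B : Matrix (Fin b) (Fin b) F) ⊗ₖ (A : Matrix (Fin a) (Fin a) F)) *ᵥ v) ∘ Prod.swap)
  rw [hφ]
  congr 1
  funext p
  simp only [Matrix.mulVec, dotProduct, Matrix.kronecker_apply, Function.comp_apply]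
  refine Fintype.sum_equiv (Equiv.prodComm (Fin a) (Fin b)) _ _ fun x => ?_
  obtain ⟨x, y⟩ := x
  simp [mul_comm]

/-- A non-scalar matrix of prime order modulo scalars moves a cyclic subspace of dimension a multiple
of the order of `q`. -/
theorem exists_orbit [Fintype F] {r : ℕ} [Fact r.Prime] (hr : (r : F) ≠ 0)
    (hc : 2 ≤ orderOf (Fintype.card F : ZMod r)) {N : Matrix (Fin b) (Fin b) F} {u : F} (hu : u ≠ 0)
    (hN : ∀ β : F, N ≠ β • (1 : Matrix (Fin b) (Fin b) F)) (hNr : N ^ r = u • (1 : Matrix (Fin b) (Fin b) F)) :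
    ∃ v : Fin b → F,
      orderOf (Fintype.card F : ZMod r) ≤ finrank F (Submodule.span F (Set.range fun j : ℕ => (N ^ j) *ᵥ v)) := by
  classical
  have hrq : ¬ r ∣ Fintype.card F - 1 := fun hd => by
    have h1 := (card_pow_eq_one_iff (F := F) (r := r) 1).2 (by rwa [pow_one])
    rw [pow_one] at h1
    rw [h1, orderOf_one] at hc
    omega
  obtain ⟨w, hw⟩ := exists_pow_of_pow_eq (Fact.out : r.Prime) hu hrq
    ((FiniteField.pow_card_sub_one_eq_one u hu).trans (one_pow r).symm)
  have hw0 : w ≠ 0 := fun e => hu (by rw [← hw, e, zero_pow (Fact.out : r.Prime).ne_zero])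
  set C : Module.End F (Fin b → F) := w⁻¹ • Matrix.toLin' N with hC'
  have hC : C ^ r = 1 := by
    rw [hC', smul_pow, ← Matrix.toLin'_pow, hNr, map_smul, Matrix.toLin'_one, smul_smul, ← hw,
      inv_pow, inv_mul_cancel₀ (pow_ne_zero _ hw0), one_smul]
    rfl
  have hC1 : C ≠ 1 := by
    intro e
    apply hN w
    apply Matrix.toLin'.injective
    rw [map_smul, Matrix.toLin'_one]
    show Matrix.toLin' N = w • 1
    rw [← e, hC', smul_smul, mul_inv_cancel₀ hw0, one_smul]
  obtain ⟨y, hy⟩ : ∃ y, (C - 1) y ≠ 0 := by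
    by_contra h
    push Not at h
    exact hC1 (sub_eq_zero.1 (LinearMap.ext h))
  refine ⟨(C - 1) y, ?_⟩
  set Z := Submodule.span F (Set.range fun j : ℕ => (N ^ j) *ᵥ ((C - 1) y))
  have hCZ : ∀ j : ℕ, (C ^ j) ((C - 1) y) = (w⁻¹) ^ j • ((N ^ j) *ᵥ ((C - 1) y)) := fun j => by
    rw [hC', smul_pow, ← Matrix.toLin'_pow, LinearMap.smul_apply, Matrix.toLin'_apply]
  have hinv : Z.map C ≤ Z := by
    rw [Submodule.map_span, Submodule.span_le]
    rintro _ ⟨_, ⟨j, rfl⟩, rfl⟩
    show C ((N ^ j) *ᵥ ((C - 1) y)) ∈ Z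
    rw [hC', LinearMap.smul_apply, Matrix.toLin'_apply, Matrix.mulVec_mulVec, ← pow_succ']
    exact Submodule.smul_mem _ _ (Submodule.subset_span ⟨j + 1, rfl⟩)
  have hle : Z ≤ LinearMap.range (C - 1) := by
    rw [Submodule.span_le]
    rintro _ ⟨j, rfl⟩
    refine ⟨w ^ j • (C ^ j) y, ?_⟩
    have hcomm : Commute (C - 1) (C ^ j) := ((Commute.refl C).sub_left (Commute.one_left C)).pow_right j
    rw [map_smul, ← Module.End.mul_apply, hcomm.eq, Module.End.mul_apply, hCZ, smul_smul, ← mul_pow,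
      mul_inv_cancel₀ hw0, one_pow, one_smul]
  have hd := dvd_finrank_of_le_range hr hC hinv hle
  refine Nat.le_of_dvd (Module.finrank_pos_iff_exists_ne_zero.2 ⟨⟨(C - 1) y, ?_⟩, fun e => hy (congrArg Subtype.val e)⟩) hd
  have h0 : ((N ^ 0) *ᵥ ((C - 1) y)) ∈ Z := Submodule.subset_span ⟨0, rfl⟩
  rw [pow_zero, Matrix.one_mulVec] at h0
  exact h0

/-- A non-scalar factor of order `r` modulo scalars bounds the fixed space. -/
theorem ker_add_le [Fintype F] [FiniteDimensional F V] {r : ℕ} [Fact r.Prime] (hr : (r : F) ≠ 0)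
    (hc : 2 ≤ orderOf (Fintype.card F : ZMod r)) (ha : 0 < a) {g : Module.End F V} (hg : g ^ r = 1)
    (A : GL (Fin a) F) (B : GL (Fin b) F) (φ : (Fin a × Fin b → F) ≃ₗ[F] V)
    (hB : ∀ β : F, (B : Matrix (Fin b) (Fin b) F) ≠ β • 1)
    (hφ : ∀ v, g (φ v) = φ (((A : Matrix (Fin a) (Fin a) F) ⊗ₖ (B : Matrix (Fin b) (Fin b) F)) *ᵥ v)) :
    orderOf (Fintype.card F : ZMod r) ≤ b ∧
      finrank F ↥(LinearMap.ker (g - 1)) + a * (orderOf (Fintype.card F : ZMod r) - 1) ≤ a * b := by
  classical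
  set c := orderOf (Fintype.card F : ZMod r) with hcdef
  have hb : 0 < b := by
    rcases Nat.eq_zero_or_pos b with rfl | h
    · exact absurd (Subsingleton.elim _ _) (hB 0)
    · exact h
  set M : Matrix (Fin a) (Fin a) F := (A : Matrix (Fin a) (Fin a) F)
  set N : Matrix (Fin b) (Fin b) F := (B : Matrix (Fin b) (Fin b) F)
  have hpow : ∀ i v, (g ^ i) (φ v) = φ (((M ^ i) ⊗ₖ (N ^ i)) *ᵥ v) := by
    intro i
    induction i with
    | zero => intro v; simp
    | succ i ih =>
      intro v
      rw [pow_succ', Module.End.mul_apply, ih, hφ, Matrix.mulVec_mulVec, ← Matrix.mul_kronecker_mul,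
        pow_succ', pow_succ']
  have hkr : (M ^ r) ⊗ₖ (N ^ r) = 1 := by
    refine Matrix.toLin'.injective (LinearMap.ext fun v => φ.injective ?_)
    rw [Matrix.toLin'_apply, ← hpow r v, hg, Matrix.toLin'_one]
    rfl
  have hMr : (M ^ r) ⟨0, ha⟩ ⟨0, ha⟩ ≠ 0 := by
    intro e
    have := congrFun (congrFun hkr (⟨0, ha⟩, ⟨0, hb⟩)) (⟨0, ha⟩, ⟨0, hb⟩)
    rw [Matrix.kronecker_apply, e, zero_mul, Matrix.one_apply_eq] at this
    exact zero_ne_one this
  set u := ((M ^ r) ⟨0, ha⟩ ⟨0, ha⟩)⁻¹
  have hNr : Nᵀ ^ r = u • 1 := Matrix.ext fun j l => by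
    have := congrFun (congrFun hkr (⟨0, ha⟩, l)) (⟨0, ha⟩, j)
    rw [Matrix.kronecker_apply] at this
    rw [← Matrix.transpose_pow, Matrix.transpose_apply, Matrix.smul_apply, smul_eq_mul,
      eq_inv_mul_iff_mul_eq₀ hMr, this]
    by_cases hjl : j = l
    · subst hjl; simp
    · rw [Matrix.one_apply_ne hjl, Matrix.one_apply_ne (by simp [Ne.symm hjl])]
  have hNt : ∀ β : F, Nᵀ ≠ β • (1 : Matrix (Fin b) (Fin b) F) := fun β e => hB β (by
    rw [← Matrix.transpose_transpose N, e, Matrix.transpose_smul, Matrix.transpose_one])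
  obtain ⟨v, hv⟩ := exists_orbit hr hc (inv_ne_zero hMr) hNt hNr
  set Z := Submodule.span F (Set.range fun j : ℕ => (Nᵀ ^ j) *ᵥ v) with hZdef
  rw [← hcdef] at hv
  refine ⟨hv.trans ((Submodule.finrank_le Z).trans_eq (Module.finrank_fin_fun F)), ?_⟩
  obtain ⟨U, hU⟩ := Submodule.exists_isCompl Z
  have hUd := Submodule.finrank_add_eq_of_isCompl hU
  rw [Module.finrank_fin_fun] at hUd
  let bs := Module.finBasis F U
  let vecs : Option (Fin (finrank F U)) → Fin b → F := fun o => o.elim v fun i => (bs i : Fin b → F)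
  let Ψ : ↥(LinearMap.ker (g - 1)) →ₗ[F] (Option (Fin (finrank F U)) → Fin a → F) :=
    { toFun := fun w o i => ∑ l, φ.symm (w : V) (i, l) * vecs o l
      map_add' := fun w w' => funext fun o => funext fun i => by
        simp [add_mul, Finset.sum_add_distrib]
      map_smul' := fun t w => funext fun o => funext fun i => by
        simp [Finset.mul_sum, mul_assoc] }
  have hΨ : Function.Injective Ψ := by
    refine (injective_iff_map_eq_zero Ψ).2 fun w hw => ?_
    set X : Matrix (Fin a) (Fin b) F := Matrix.of fun i l => φ.symm (w : V) (i, l) with hX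
    have hfix : M * X * Nᵀ = X := by
      have h := LinearMap.mem_ker.1 w.2
      rw [LinearMap.sub_apply, Module.End.one_apply, sub_eq_zero, ← φ.apply_symm_apply (w : V), hφ] at h
      ext i j
      have := congrFun (φ.injective h) (i, j)
      rw [kron_mulVec] at this
      refine Eq.trans ?_ this
      rw [Matrix.mul_assoc, Matrix.mul_apply]
      refine Finset.sum_congr rfl fun k _ => ?_
      simp [Matrix.mulVec, dotProduct, Matrix.mul_apply, hX, mul_comm, M, N]
    have hkill : ∀ y, X *ᵥ y = 0 → X *ᵥ (Nᵀ *ᵥ y) = 0 := fun y hy => by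
      have h1 : M *ᵥ (X *ᵥ (Nᵀ *ᵥ y)) = 0 := by
        rw [Matrix.mulVec_mulVec, Matrix.mulVec_mulVec, hfix, hy]
      have := congrArg (((A⁻¹ : GL (Fin a) F) : Matrix (Fin a) (Fin a) F) *ᵥ ·) h1
      rw [Matrix.mulVec_mulVec, Matrix.mulVec_zero, show (((A⁻¹ : GL (Fin a) F) : Matrix (Fin a) (Fin a) F)) * M = 1 from
        Units.inv_mul A, Matrix.one_mulVec] at this
      exact this
    have hvec : ∀ o, X *ᵥ vecs o = 0 := fun o => funext fun i => congrFun (congrFun hw o) i
    have horb : ∀ j : ℕ, X *ᵥ ((Nᵀ ^ j) *ᵥ v) = 0 := by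
      intro j
      induction j with
      | zero => simpa [vecs] using hvec none
      | succ j ih => rw [pow_succ', ← Matrix.mulVec_mulVec]; exact hkill _ ih
    have htop : ∀ y, X *ᵥ y = 0 := by
      intro y
      obtain ⟨z, hz, y', hy', rfl⟩ := Submodule.mem_sup.1 (show y ∈ Z ⊔ U by rw [hU.sup_eq_top]; trivial)
      have h1 : Z ≤ LinearMap.ker X.mulVecLin := Submodule.span_le.2 (by rintro _ ⟨j, rfl⟩; exact horb j)
      have h2 : X.mulVecLin.comp U.subtype = 0 := bs.ext fun i => hvec (some i)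
      rw [Matrix.mulVec_add, show X *ᵥ z = 0 from h1 hz,
        show X *ᵥ y' = 0 from LinearMap.congr_fun h2 ⟨y', hy'⟩, add_zero]
    apply Subtype.ext
    apply φ.symm.injective
    rw [ZeroMemClass.coe_zero, map_zero]
    funext ⟨i, l⟩
    have := congrFun (htop (Pi.single l 1)) i
    rw [Matrix.mulVec_single_one] at this
    exact this
  have h1 := LinearMap.finrank_le_finrank_of_injective hΨ
  rw [Module.finrank_pi_fintype, Finset.sum_const, Finset.card_univ, Fintype.card_option, Fintype.card_fin,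
    Module.finrank_fin_fun, smul_eq_mul] at h1
  obtain ⟨c', hc'⟩ : ∃ c', c = c' + 1 := ⟨c - 1, by omega⟩
  have h2 : (finrank F U + 1) * a + a * c' ≤ a * b := by
    have : finrank F U + 1 + c' ≤ b := by omega
    have := Nat.mul_le_mul_left a this
    linarith
  rw [hc', Nat.add_sub_cancel]
  omega

/-- An element with one irreducible block is no Kronecker product. -/
theorem not_ten_of_block [Fintype F] [FiniteDimensional F V] {r : ℕ} [Fact r.Prime] (hr : (r : F) ≠ 0)
    (hc : 2 ≤ orderOf (Fintype.card F : ZMod r)) (ha : 2 ≤ a) (hae : Even a) (hb : 3 ≤ b)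
    {g : Module.End F V} (hg : g ^ r = 1) {M : Submodule F V} (hM : M ≠ ⊥)
    (hstable : ∀ k : Module.End F V, Commute k g → ∀ v ∈ M, k v ∈ M)
    (hcyc : ∀ v ∈ M, v ≠ 0 → ∀ w ∈ M, ∃ h : Polynomial F, Polynomial.aeval g h v = w)
    (hfix : a * b ≤ finrank F ↥(LinearMap.ker (g - 1)) +
      if Even (orderOf (Fintype.card F : ZMod r)) then orderOf (Fintype.card F : ZMod r)
      else 2 * orderOf (Fintype.card F : ZMod r)) :
    ¬ Ten g a b := by
  classical
  intro h
  set c := orderOf (Fintype.card F : ZMod r) with hcdef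
  have hdiag : ∀ (W : Type u) [AddCommGroup W] [Module F W] (C : Module.End F W) (m : ℕ)
      (φ : (Fin m → W) ≃ₗ[F] V), (∀ v, g (φ v) = φ (fun i => C (v i))) → 2 ≤ m → False := by
    intro W _ _ C m φ hφ hm
    obtain ⟨x, hx, hx0⟩ := Submodule.exists_mem_ne_zero_of_ne_bot hM
    obtain ⟨y, rfl⟩ := φ.surjective x
    obtain ⟨k, hk⟩ : ∃ k, y k ≠ 0 := by
      by_contra hy
      push Not at hy
      exact hx0 (by rw [show y = 0 from funext hy, map_zero])
    let op : Fin m → Fin m → Module.End F V := fun s t =>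
      φ.toLinearMap ∘ₗ (LinearMap.single F (fun _ => W) s ∘ₗ LinearMap.proj t) ∘ₗ φ.symm.toLinearMap
    have hop : ∀ s t z, op s t (φ z) = φ (Pi.single s (z t)) := fun s t z => by simp [op]
    have hcomm : ∀ s t, Commute (op s t) g := fun s t => LinearMap.ext fun v => by
      obtain ⟨z, rfl⟩ := φ.surjective v
      rw [Module.End.mul_apply, Module.End.mul_apply, hφ, hop, hop, hφ]
      congr 1
      funext i
      by_cases hi : i = s
      · subst hi; simp
      · simp [hi]
    obtain ⟨l, hl⟩ : ∃ l : Fin m, l ≠ k := by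
      have : Nontrivial (Fin m) := Fin.nontrivial_iff_two_le.2 hm
      exact exists_ne k
    have hmk : φ (Pi.single k (y k)) ∈ M := hop k k y ▸ hstable _ (hcomm k k) _ hx
    have hml : φ (Pi.single l (y k)) ∈ M := hop l k y ▸ hstable _ (hcomm l k) _ hx
    have hne : φ (Pi.single k (y k)) ≠ 0 := fun e => hk (by
      have := congrFun (φ.map_eq_zero_iff.1 e) k
      simpa using this)
    obtain ⟨P, hP⟩ := hcyc _ hmk hne _ hml
    have hsupp : ∀ Q : Polynomial F, op l l (Polynomial.aeval g Q (φ (Pi.single k (y k)))) = 0 := by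
      intro Q
      have hc : Commute (op l l) (Polynomial.aeval g Q) := by
        induction Q using Polynomial.induction_on' with
        | add p q hp hq => rw [map_add]; exact hp.add_right hq
        | monomial n t =>
          rw [Polynomial.aeval_monomial]
          exact (Algebra.commute_algebraMap_right t _).mul_right ((hcomm l l).pow_right n)
      rw [← Module.End.mul_apply, hc.eq, Module.End.mul_apply, hop, Pi.single_eq_of_ne hl, Pi.single_zero,
        map_zero, map_zero]
    have := hsupp P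
    rw [hP, hop, Pi.single_eq_same] at this
    have := congrFun (φ.map_eq_zero_iff.1 this) l
    exact hk (by simpa using this)
  rcases h.cases (by omega) with ⟨C, φ, hφ⟩ | ⟨C, φ, hφ⟩ | ⟨A, B, φ, hA, hB, hφ⟩
  · exact hdiag _ C a φ hφ ha
  · exact hdiag _ C b φ hφ (by omega)
  · obtain ⟨hcb, h1⟩ := ker_add_le hr hc (by omega) hg A B φ hB hφ
    obtain ⟨hca, h2⟩ := ker_add_le (a := b) (b := a) hr hc (by omega) hg B A
      ((LinearEquiv.funCongrLeft F F (Equiv.prodComm (Fin a) (Fin b))).trans φ) hA (fun v => by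
        show g (φ (v ∘ Prod.swap)) = φ ((((B : Matrix (Fin b) (Fin b) F) ⊗ₖ (A : Matrix (Fin a) (Fin a) F)) *ᵥ v) ∘ Prod.swap)
        rw [hφ]
        congr 1
        funext p
        simp only [Matrix.mulVec, dotProduct, Matrix.kronecker_apply, Function.comp_apply]
        refine Fintype.sum_equiv (Equiv.prodComm (Fin a) (Fin b)) _ _ fun x => ?_
        obtain ⟨x, y⟩ := x
        simp [mul_comm])
    rw [← hcdef] at hcb h1 hca h2
    obtain ⟨c', hc'⟩ : ∃ c', c = c' + 2 := ⟨c - 2, by omega⟩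
    rw [hc', show c' + 2 - 1 = c' + 1 by omega] at h1 h2
    rw [hc'] at hca hcb hfix
    rw [mul_comm b a] at h2
    obtain ⟨a', ha'⟩ := hae
    by_cases he : Even (c' + 2)
    · rw [if_pos he] at hfix
      have h3 : b * (c' + 1) ≤ c' + 2 := by omega
      nlinarith
    · rw [if_neg he] at hfix
      have h3 : a * (c' + 1) ≤ 2 * (c' + 2) := by omega
      have h4 : c' + 3 ≤ a := by
        rcases Nat.lt_or_ge (c' + 2) a with h | h
        · omega
        · exact absurd ⟨a', by omega⟩ he
      obtain ⟨c'', rfl⟩ : ∃ c'', c' = c'' + 1 := ⟨c' - 1, by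
        rcases Nat.eq_zero_or_pos c' with rfl | h
        · exact absurd (even_two) he
        · omega⟩
      nlinarith

end Cfsg.Agent.TensorSympDerange95
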