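import Cfsg.Prelude.Def_GeometricClasses
import Cfsg.Agent.Lib.TensorSOFourMax97
import Cfsg.Agent.Lib.TensorMaxGlue
import Cfsg.Agent.Lib.TensorMaxQuadGlue
import Cfsg.Agent.Lib.TensorMaxSympCtx
import Cfsg.Agent.Lib.TransvectionMax
import Cfsg.Agent.Lib.SymplecticAlt

/-!
For `q` odd, `q ≥ 5`, the stabiliser of a tensor decomposition `Sp₄ ⊗ O₃` is maximal in `Sp₁₂`.
-/

set_option autoImplicit false
set_option linter.unusedSectionVars false

namespace Cfsg.Agent.TensorSympOrthFour97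

open scoped Matrix MatrixGroups Kronecker
open Cfsg.Agent.TensorMax
open Cfsg.Agent.TensorMaxGlue
open Cfsg.Agent.TensorSO97 (SymN)

variable {F : Type*} [Field F] [Fintype F]

local notation "tq" => Cfsg.Agent.TensorSOFour97.tp
local notation "bb" => Cfsg.Agent.TensorSOFour97.bs
local notation "ω" => Cfsg.Agent.TensorSOFour97.w4
local notation "om₄" => Cfsg.Agent.TensorSOFour97.om4

/-- A basis of `F⁴` adapted to an alternating form. -/
theorem exists_coord {f₁ : (Fin 4 → F) → (Fin 4 → F) → F} (hf₁ : Cfsg.Geo.IsSymplecticForm f₁) :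
    ∃ (L : (Fin 4 → F) ≃ₗ[F] (Fin 4 → F)) (c : F), c ≠ 0 ∧ ∀ a b, f₁ (L a) (L b) = c * ω a b := by
  have S₁ := sform_symp hf₁
  let B : (Fin 4 → F) →ₗ[F] (Fin 4 → F) →ₗ[F] F :=
    LinearMap.mk₂ F f₁ hf₁.bilinear.add_left hf₁.bilinear.smul_left hf₁.bilinear.add_right
      (fun s x y => hf₁.bilinear.smul_right s x y)
  have hBa : ∀ x y, B x y = f₁ x y := fun x y => rfl
  obtain ⟨k, hk, e, -, hform⟩ := SymplecticAlt.exists_symp_basis B (fun v => hf₁.alternating v) _ ⊤ rfl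
    (fun u _ h => S₁.nd u fun v => h v Submodule.mem_top)
  rw [finrank_top, Module.finrank_fin_fun] at hk
  obtain rfl : k = 2 := by omega
  let L₀ : (Fin 4 → F) →ₗ[F] (Fin 4 → F) := Fintype.linearCombination F
    (![e (Sum.inl 0), e (Sum.inl 1), e (Sum.inr 0), e (Sum.inr 1)] : Fin 4 → Fin 4 → F)
  obtain ⟨c, hc, hcL⟩ : ∃ c : F, c ≠ 0 ∧ ∀ a b, f₁ (L₀ a) (L₀ b) = c * ω a b := by
    refine ⟨f₁ (e (Sum.inl 0)) (e (Sum.inr 0)), ?_, fun a b => ?_⟩
    · rw [← hBa, hform]
      simp [Cfsg.sympForm, Pi.single_apply, Matrix.J]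
    · rw [← hBa, ← hBa]
      simp only [L₀, Fintype.linearCombination_apply, Fin.sum_univ_four, Matrix.cons_val_zero, Matrix.cons_val_one,
        Matrix.cons_val, map_add, map_smul, LinearMap.add_apply, LinearMap.smul_apply, smul_eq_mul, hform]
      simp [Cfsg.sympForm, Pi.single_apply, TensorSOFour97.w4, Matrix.J]
      ring
  have hinj : Function.Injective L₀ := by
    rw [injective_iff_map_eq_zero]
    intro a ha
    by_contra hne
    obtain ⟨b, hb⟩ := TensorSOFour97.w4_nd (F := F) hne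
    apply hb
    refine (mul_eq_zero.1 ?_).resolve_left hc
    rw [← hcL, ha, S₁.zero_left]
  exact ⟨LinearEquiv.ofInjectiveEndo L₀ hinj, c, hc, hcL⟩

set_option maxHeartbeats 1000000 in
theorem isMaximalIn_stab (m : ℕ) (h5 : 5 ≤ Fintype.card F) (hodd : Odd (Fintype.card F))
    (e : (Fin m ⊕ Fin m) ≃ Fin 4 × Fin 3) (P : Matrix.GeneralLinearGroup (Fin m ⊕ Fin m) F)
    (f₁ : (Fin 4 → F) → (Fin 4 → F) → F) (f₂ : (Fin 3 → F) → (Fin 3 → F) → F)
    (hf₁ : Cfsg.Geo.IsSymplecticForm f₁) (hf₂ : Cfsg.Geo.IsSymmetricForm f₂)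
    (hT : Cfsg.Geo.IsTensorFormStructure id (Cfsg.sympForm m F) f₁ f₂ e P) :
    Cfsg.Geo.IsMaximalIn (Cfsg.spGL m F) (Cfsg.Geo.tensorProductSubgroup 4 3 e P ⊓ Cfsg.spGL m F) := by
  classical
  have h2 : (2 : F) ≠ 0 := by
    apply Ring.two_ne_zero
    intro h
    exact (Nat.not_even_iff_odd.2 hodd) (FiniteField.even_card_iff_char_two.1 h |> Nat.even_iff.2)
  obtain ⟨c, hc, hT⟩ := hT
  have hf := TransvectionMax.sympForm_isSymplecticForm (F := F) m
  have S₁ := sform_symp hf₁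
  have S₂ := sform_symm hf₂
  set f := Cfsg.sympForm m F
  let B : (Fin 3 → F) →ₗ[F] (Fin 3 → F) →ₗ[F] F :=
    LinearMap.mk₂ F f₂ hf₂.bilinear.add_left hf₂.bilinear.smul_left hf₂.bilinear.add_right
      (fun s x y => hf₂.bilinear.smul_right s x y)
  have hBa : ∀ x y, B x y = f₂ x y := fun x y => rfl
  have hSym : SymN B := ⟨h2, hf₂.symm, fun x hx => S₂.nd x hx⟩
  obtain ⟨L, c₁, hc₁, hL⟩ := exists_coord hf₁
  -- the coordinates
  let Θ₀ : (Fin 4 → (Fin 3 → F)) →ₗ[F] (Fin m ⊕ Fin m → F) :=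
    { toFun := fun x => psi e P (∑ i, tp (L (bb i : Fin 4 → F)) (x i))
      map_add' := fun x y => by simp [tp_add_right, Finset.sum_add_distrib]
      map_smul' := fun t x => by simp [tp_smul_right, ← Finset.smul_sum] }
  have hΘtp : ∀ (y : Fin 3 → F) (b : Fin 4 → F), Θ₀ (tq y b) = psi e P (tp (L b) y) := fun y b => by
    show psi e P (∑ i, tp (L (bb i : Fin 4 → F)) (tq y b i)) = _
    congr 1
    have hb : b = ∑ i, b i • (bb i : Fin 4 → F) := by
      funext j
      simp [TensorSOFour97.bs, Finset.sum_apply, Pi.single_apply]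
    conv_rhs => rw [hb]
    funext p
    simp [tp, TensorSOFour97.tp, Finset.sum_apply, Finset.mul_sum, map_sum, map_smul, mul_assoc, mul_left_comm, mul_comm]
  have hkey : ∀ x y, f (Θ₀ x) (Θ₀ y) = (c * c₁) * om₄ B x y := by
    have base : ∀ v w a b, f (Θ₀ (tq v a)) (Θ₀ (tq w b)) = (c * c₁) * (ω a b * B v w) := fun v w a b => by
      rw [hΘtp, hΘtp, psi_apply, psi_apply, hT]
      show c * tForm (RingHom.id F) f₁ f₂ (tp (L a) v) (tp (L b) w) = _
      rw [tForm_tp S₂ S₁, hL, hBa]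
      ring
    intro x y
    rw [TensorSOFour97.decomp4 (F := F) x, TensorSOFour97.decomp4 (F := F) y]
    simp only [map_add, hf.bilinear.add_left, hf.bilinear.add_right, base, TensorSOFour97.om_add_left,
      TensorSOFour97.om_add_right, TensorSOFour97.om_tp_tp hSym]
    ring
  have hcc : c * c₁ ≠ 0 := mul_ne_zero hc hc₁
  have hΘi : Function.Injective Θ₀ := by
    rw [injective_iff_map_eq_zero]
    intro x hx
    refine TensorSOFour97.eq_zero_of_Pc (F := F) fun b => TensorSOFour97.eq_of_B hSym fun v => ?_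
    rw [← TensorSOFour97.om_tp_right, map_zero, LinearMap.zero_apply]
    refine (mul_eq_zero.1 ?_).resolve_left hcc
    rw [← hkey, hx, TransvectionMax.zero_left hf.bilinear]
  have hcard : Module.finrank F (Fin m ⊕ Fin m → F) = Module.finrank F (Fin 4 → (Fin 3 → F)) := by
    rw [Module.finrank_fintype_fun_eq_card, Fintype.card_congr e, Module.finrank_pi_fintype]
    simp [Module.finrank_fin_fun]
  let Θ : (Fin 4 → (Fin 3 → F)) ≃ₗ[F] (Fin m ⊕ Fin m → F) := LinearEquiv.ofBijective Θ₀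
    ⟨hΘi, (LinearMap.injective_iff_surjective_of_finrank_eq_finrank hcard.symm).1 hΘi⟩
  replace hkey : ∀ x y, f (Θ x) (Θ y) = (c * c₁) * om₄ B x y := hkey
  replace hΘtp : ∀ (y : Fin 3 → F) (b : Fin 4 → F), Θ (tq y b) = psi e P (tp (L b) y) := hΘtp
  -- elements from linear maps
  have hmk : ∀ T : (Fin 4 → (Fin 3 → F)) →ₗ[F] (Fin 4 → (Fin 3 → F)),
      (∀ x y, om₄ B (T x) (T y) = om₄ B x y) →
      ∃ G : GL (Fin m ⊕ Fin m) F, G ∈ Cfsg.spGL m F ∧
        ∀ x, (G : Matrix (Fin m ⊕ Fin m) (Fin m ⊕ Fin m) F) *ᵥ Θ x = Θ (T x) := by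
    intro T hT'
    let A : (Fin m ⊕ Fin m → F) →ₗ[F] (Fin m ⊕ Fin m → F) :=
      Θ.toLinearMap.comp (T.comp Θ.symm.toLinearMap)
    have hA : ∀ x, LinearMap.toMatrix' A *ᵥ Θ x = Θ (T x) := fun x => by
      rw [LinearMap.toMatrix'_mulVec]
      simp [A]
    have hpres : ∀ u v, f (LinearMap.toMatrix' A *ᵥ u) (LinearMap.toMatrix' A *ᵥ v) = f u v := fun u v => by
      obtain ⟨x, rfl⟩ := Θ.surjective u
      obtain ⟨y, rfl⟩ := Θ.surjective v
      rw [hA, hA, hkey, hkey, hT']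
    have hdet : (LinearMap.toMatrix' A).det ≠ 0 := by
      intro h0
      obtain ⟨v, hv, hv0⟩ := Matrix.exists_mulVec_eq_zero_iff.mpr h0
      obtain ⟨-, w, hw⟩ := hf.nondegenerate v hv
      rw [← hpres, hv0, TransvectionMax.zero_left hf.bilinear] at hw
      exact hw rfl
    exact ⟨Matrix.GeneralLinearGroup.mkOfDetNeZero _ hdet, hpres, hA⟩
  -- membership in the tensor subgroup
  have htensor : ∀ (G : GL (Fin m ⊕ Fin m) F) (T : (Fin 3 → F) →ₗ[F] (Fin 3 → F))
      (β : (Fin 4 → F) →ₗ[F] (Fin 4 → F)),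
      (∀ y b, (G : Matrix (Fin m ⊕ Fin m) (Fin m ⊕ Fin m) F) *ᵥ Θ (tq y b) = Θ (tq (T y) (β b))) →
      G ∈ Cfsg.Geo.tensorProductSubgroup 4 3 e P := by
    intro G T β hG
    have hinj : ∀ y b, Θ (tq (T y) (β b)) = 0 → tq y b = 0 := fun y b hx => by
      apply Θ.injective
      rw [map_zero]
      exact TransvectionMax.act_injective G (by show _ *ᵥ _ = _ *ᵥ _; rw [hG, hx, Matrix.mulVec_zero])
    set A : Matrix (Fin 4) (Fin 4) F := LinearMap.toMatrix' (L.toLinearMap ∘ₗ β ∘ₗ L.symm.toLinearMap) with hAd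
    have hA : A.det ≠ 0 := by
      intro h0
      obtain ⟨v, hv0, hv⟩ := Matrix.exists_mulVec_eq_zero_iff.mpr h0
      rw [hAd, LinearMap.toMatrix'_mulVec] at hv
      have hb : β (L.symm v) = 0 := L.injective (by rw [map_zero]; simpa using hv)
      rcases TensorSOFour97.tp_eq_zero (hinj (Pi.single 0 1) (L.symm v) (by
        rw [hb, show tq (T (Pi.single 0 1 : Fin 3 → F)) (0 : Fin 4 → F) = 0 from
          funext fun i => zero_smul _ _, map_zero])) with h | h
      · simp at h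
      · exact hv0 (by rw [← L.apply_symm_apply v, h, map_zero])
    have hD : (LinearMap.toMatrix' T).det ≠ 0 := by
      intro h0
      obtain ⟨v, hv0, hv⟩ := Matrix.exists_mulVec_eq_zero_iff.mpr h0
      rw [LinearMap.toMatrix'_mulVec] at hv
      rcases TensorSOFour97.tp_eq_zero (hinj v (bb 0 : Fin 4 → F) (by
        rw [hv, TensorSOFour97.tp_zero_left, map_zero])) with h | h
      · exact hv0 h
      · exact TensorSOFour97.bs_ne (F := F) 0 h
    rw [tensorProductSubgroup_eq]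
    refine ⟨kr (Matrix.GeneralLinearGroup.mkOfDetNeZero A hA)
      (Matrix.GeneralLinearGroup.mkOfDetNeZero _ hD), kr_mem _ _, ?_⟩
    refine TransvectionMax.gl_ext fun u => ?_
    obtain ⟨x, rfl⟩ := Θ.surjective u
    rw [TensorSOFour97.decomp4 (F := F) x]
    simp only [map_add, Matrix.mulVec_add, hG]
    simp only [hΘtp]
    show (phi e P _ : Matrix (Fin m ⊕ Fin m) (Fin m ⊕ Fin m) F) *ᵥ _ +
      (phi e P _ : Matrix (Fin m ⊕ Fin m) (Fin m ⊕ Fin m) F) *ᵥ _ +
      (phi e P _ : Matrix (Fin m ⊕ Fin m) (Fin m ⊕ Fin m) F) *ᵥ _ +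
      (phi e P _ : Matrix (Fin m ⊕ Fin m) (Fin m ⊕ Fin m) F) *ᵥ _ = _
    simp only [phi_psi, kr_tp]
    have t2 : ∀ q, ((Matrix.GeneralLinearGroup.mkOfDetNeZero _ hD : GL (Fin 3) F) : Matrix (Fin 3) (Fin 3) F) *ᵥ q = T q :=
      fun q => LinearMap.toMatrix'_mulVec T q
    have t3 : ∀ b, ((Matrix.GeneralLinearGroup.mkOfDetNeZero A hA : GL (Fin 4) F) : Matrix (Fin 4) (Fin 4) F) *ᵥ L b =
        L (β b) := fun b => by
      show A *ᵥ L b = _
      rw [hAd, LinearMap.toMatrix'_mulVec]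
      simp
    simp only [t2, t3]
  -- the elements of the tensor subgroup
  have hprod : ∀ G ∈ Cfsg.Geo.tensorProductSubgroup 4 3 e P, ∃ (α : GL (Fin 4) F) (β : GL (Fin 3) F),
      ∀ y b, (G : Matrix (Fin m ⊕ Fin m) (Fin m ⊕ Fin m) F) *ᵥ Θ (tq y b) =
        Θ (tq ((β : Matrix (Fin 3) (Fin 3) F) *ᵥ y) (L.symm ((α : Matrix (Fin 4) (Fin 4) F) *ᵥ L b))) := by
    intro G hG
    rw [tensorProductSubgroup_eq] at hG
    obtain ⟨k, hk, rfl⟩ := hG
    obtain ⟨α, β, rfl⟩ := exists_kr hk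
    refine ⟨α, β, fun y b => ?_⟩
    rw [hΘtp, hΘtp, L.apply_symm_apply]
    show (phi e P _ : Matrix (Fin m ⊕ Fin m) (Fin m ⊕ Fin m) F) *ᵥ _ = _
    rw [phi_psi, kr_tp]
  refine ⟨lt_of_le_of_ne inf_le_right fun heq => ?_, fun N h1 hN => ?_⟩
  · -- a transvection with pure centre is not a product
    obtain ⟨s, -, hs, -⟩ := TensorSO97.exists_iso hSym (⊤ : Submodule F (Fin 3 → F))
      (by rw [finrank_top, Module.finrank_fin_fun])
    obtain ⟨z, -, hzz⟩ := TensorSO97.perp_one hSym (by rw [Module.finrank_fin_fun]) hs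
    have hz0 : z ≠ 0 := fun h => hzz (by simp [h])
    obtain ⟨w, hzw, hww⟩ := TensorSO97.perp_one hSym (by rw [Module.finrank_fin_fun]) hz0
    have hw0 : w ≠ 0 := fun h => hww (by simp [h])
    set u := Θ (tq z (bb 0 : Fin 4 → F))
    have ht : TransvectionMax.st f u 1 ∈ Cfsg.Geo.tensorProductSubgroup 4 3 e P := by
      have := TransvectionMax.st_mem_spGL m u (1 : F)
      rw [← heq] at this
      exact this.1
    obtain ⟨α, β, hαβ⟩ := hprod _ ht
    have act : ∀ x, (TransvectionMax.st f u 1 : Matrix (Fin m ⊕ Fin m) (Fin m ⊕ Fin m) F) *ᵥ Θ x =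
        Θ (x + (c * c₁ * om₄ B x (tq z (bb 0 : Fin 4 → F))) • tq z (bb 0 : Fin 4 → F)) := fun x => by
      rw [TransvectionMax.st_act hf, one_mul, hkey, map_add, map_smul]
    have himg : ∀ y : Fin 3 → F, tq y (bb 2 : Fin 4 → F) +
        (c * c₁ * om₄ B (tq y (bb 2 : Fin 4 → F)) (tq z (bb 0 : Fin 4 → F))) • tq z (bb 0 : Fin 4 → F) =
        tq ((β : Matrix (Fin 3) (Fin 3) F) *ᵥ y)
          (L.symm ((α : Matrix (Fin 4) (Fin 4) F) *ᵥ L (bb 2 : Fin 4 → F))) := fun y =>
      Θ.injective (by rw [← act, hαβ])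
    set γ := L.symm ((α : Matrix (Fin 4) (Fin 4) F) *ᵥ L (bb 2 : Fin 4 → F))
    have a1 := himg w
    have a2 := himg z
    rw [TensorSOFour97.om_tp_tp hSym, hSym.symm w z, hzw, mul_zero, mul_zero, zero_smul, add_zero] at a1
    have a10 := congrFun a1 0
    have a12 := congrFun a1 2
    have a20 := congrFun a2 0
    set q := (β : Matrix (Fin 3) (Fin 3) F) *ᵥ w
    simp only [Pi.add_apply, Pi.smul_apply, TensorSOFour97.tp, TensorSOFour97.bs, TensorSOFour97.om_tp_tp hSym,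
      Pi.single_eq_same, Pi.single_eq_of_ne (show (0 : Fin 4) ≠ 2 by decide), zero_smul, one_smul, zero_add]
      at a10 a12 a20
    have hγ0 : γ 0 = 0 := by
      rcases smul_eq_zero.1 a10.symm with h | h
      · exact h
      · exact absurd (a12.trans (by rw [h, smul_zero])) hw0
    rw [hγ0, zero_smul] at a20
    simp [TensorSOFour97.w4, hc, hc₁, hzz, hz0] at a20
  · by_cases hle : N ≤ Cfsg.Geo.tensorProductSubgroup 4 3 e P
    · exact Or.inl (le_antisymm (le_inf hle hN) h1)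
    obtain ⟨G₀, hG₀, hG₀n⟩ := SetLike.not_le_iff_exists.1 hle
    right
    let M : Subgroup ((Fin 4 → (Fin 3 → F)) ≃ₗ[F] (Fin 4 → (Fin 3 → F))) :=
      { carrier := {g | ∃ G ∈ N, ∀ x, (G : Matrix (Fin m ⊕ Fin m) (Fin m ⊕ Fin m) F) *ᵥ Θ x = Θ (g x)}
        mul_mem' := by
          rintro g g' ⟨G, hG, hGx⟩ ⟨G', hG', hGx'⟩
          exact ⟨G * G', mul_mem hG hG', fun x => by rw [TransvectionMax.mul_act, hGx', hGx]; rfl⟩
        one_mem' := ⟨1, one_mem N, fun x => by rw [TransvectionMax.one_act]; rfl⟩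
        inv_mem' := by
          rintro g ⟨G, hG, hGx⟩
          refine ⟨G⁻¹, inv_mem hG, fun x => ?_⟩
          apply TransvectionMax.act_injective G
          show _ *ᵥ _ = _ *ᵥ _
          rw [TransvectionMax.act_inv_act, hGx]
          exact congrArg Θ (g.apply_symm_apply x).symm }
    have hequiv : ∀ T : (Fin 4 → (Fin 3 → F)) →ₗ[F] (Fin 4 → (Fin 3 → F)),
        (∀ x y, om₄ B (T x) (T y) = om₄ B x y) →
        (∀ G : GL (Fin m ⊕ Fin m) F, G ∈ Cfsg.spGL m F →
          (∀ x, (G : Matrix (Fin m ⊕ Fin m) (Fin m ⊕ Fin m) F) *ᵥ Θ x = Θ (T x)) → G ∈ N) →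
        ∃ g ∈ M, ∀ x, g x = T x := by
      intro T hT' hin
      obtain ⟨G, hG, hGx⟩ := hmk T hT'
      have hinj : Function.Injective T := fun x y hxy => Θ.injective (TransvectionMax.act_injective G (by
        show _ *ᵥ _ = _ *ᵥ _
        rw [hGx, hGx, hxy]))
      exact ⟨LinearEquiv.ofInjectiveEndo T hinj, ⟨G, hin G hG hGx, hGx⟩, fun x => rfl⟩
    have hH : TensorSOFour97.Hyp4 B M := by
      refine ⟨hSym, Module.finrank_fin_fun F, h5, fun T β hTβ => ?_, fun g hg x y => ?_⟩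
      · let S : (Fin 4 → (Fin 3 → F)) →ₗ[F] (Fin 4 → (Fin 3 → F)) :=
          ∑ i, (TensorSOFour97.J (β (bb i : Fin 4 → F))).comp (T.comp (LinearMap.proj i))
        have hS : ∀ v b, S (tq v b) = tq (T v) (β b) := fun v b => by
          have hb : b = ∑ i, b i • (bb i : Fin 4 → F) := by
            funext j
            simp [TensorSOFour97.bs, Finset.sum_apply, Pi.single_apply]
          conv_rhs => rw [hb]
          funext j
          simp [S, TensorSOFour97.J_apply, TensorSOFour97.tp, map_sum, Finset.sum_apply, Finset.sum_smul,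
            Fin.sum_univ_four, smul_smul, add_smul, mul_comm]
        have hS2 : ∀ x y, om₄ B (S x) (S y) = om₄ B x y := fun x y => by
          rw [TensorSOFour97.decomp4 (F := F) x, TensorSOFour97.decomp4 (F := F) y]
          simp only [map_add, hS, TensorSOFour97.om_add_left, TensorSOFour97.om_add_right,
            TensorSOFour97.om_tp_tp hSym]
          simp only [mul_comm (ω (β _) (β _)), hTβ]
          ring
        obtain ⟨g, hg, hgx⟩ := hequiv S hS2
          (fun G hG hGx => h1 ⟨htensor G T β (fun y b => by rw [hGx, hS]), hG⟩)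
        exact ⟨g, hg, fun v b => by rw [hgx, hS]⟩
      · obtain ⟨G, hG, hGx⟩ := hg
        refine mul_left_cancel₀ hcc ?_
        rw [← hkey, ← hkey, ← hGx, ← hGx]
        exact hN hG (Θ x) (Θ y)
    obtain ⟨g₀, hg₀, hg₀x⟩ := hequiv (Θ.symm.toLinearMap.comp ((Matrix.toLin' (G₀ : Matrix (Fin m ⊕ Fin m)
        (Fin m ⊕ Fin m) F)).comp Θ.toLinearMap)) (fun x y => by
      refine mul_left_cancel₀ hcc ?_
      rw [← hkey, ← hkey]
      simp only [LinearMap.comp_apply, LinearEquiv.coe_coe, LinearEquiv.apply_symm_apply, Matrix.toLin'_apply]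
      exact hN hG₀ (Θ x) (Θ y))
      (fun G hG hGx => by
        have : G = G₀ := TransvectionMax.gl_ext fun u => by
          obtain ⟨x, rfl⟩ := Θ.surjective u
          rw [hGx]
          simp [Matrix.toLin'_apply]
        rw [this]
        exact hG₀)
    rcases TensorSOFour97.maximal hH hg₀ with hall | ⟨T, β, hT'⟩
    · refine le_antisymm hN (TransvectionMax.spGL_le m fun u s => ?_)
      obtain ⟨x, rfl⟩ := Θ.surjective u
      obtain ⟨t, ⟨G, hG, hGx⟩, ht⟩ := hall x (s * (c * c₁))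
      convert hG using 1
      refine TransvectionMax.gl_ext fun w => ?_
      obtain ⟨y, rfl⟩ := Θ.surjective w
      rw [TransvectionMax.st_act hf, hGx, ht, hkey, map_add, map_smul]
      match_scalars <;> ring
    · exfalso
      refine hG₀n (htensor G₀ T β fun y b => ?_)
      have h' := hg₀x (tq y b)
      rw [hT' y b] at h'
      rw [h']
      simp [Matrix.toLin'_apply]

end Cfsg.Agent.TensorSympOrthFour97
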