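import Mathlib
import Cfsg.Prelude.Def_GeometricClasses

/-!
Over the field with two elements a tensor product with a plane group normalises a field structure with four
elements on the plane factor.
-/

set_option autoImplicit false

namespace Cfsg.Agent.TensorTwoF2

open scoped Matrix MatrixGroups Kronecker

variable {F : Type*} [Field F] [Fintype F]

theorem two_eq_zero (hF : Fintype.card F = 2) : (2 : F) = 0 := by
  have := Nat.cast_card_eq_zero F
  rw [hF] at this
  exact_mod_cast this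

theorem eq_one (hF : Fintype.card F = 2) {a : F} (ha : a ≠ 0) : a = 1 := by
  have h := FiniteField.pow_card_sub_one_eq_one a ha
  rw [hF] at h
  simpa using h

/-- An element of multiplicative order three of the plane factor. -/
def w (F : Type*) [Field F] : Matrix (Fin 2) (Fin 2) F := !![0, 1; 1, 1]

/-- Its inverse. -/
def w' (F : Type*) [Field F] : Matrix (Fin 2) (Fin 2) F := !![1, 1; 1, 0]

theorem w_mul (hF : Fintype.card F = 2) : w F * w' F = 1 ∧ w' F * w F = 1 := by
  have h2 := two_eq_zero hF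
  constructor <;> ext i j <;> fin_cases i <;> fin_cases j <;>
    simp [w, w', one_add_one_eq_two, h2]

theorem twist (hF : Fintype.card F = 2) (A : Matrix (Fin 2) (Fin 2) F) (hA : A.det ≠ 0) :
    A * w F = w F * A ∨ A * w F = w' F * A := by
  have h2 := two_eq_zero hF
  have hb : ∀ x : F, x = 0 ∨ x = 1 := fun x => (em (x = 0)).imp_right (eq_one hF)
  rw [Matrix.det_fin_two] at hA
  rw [← Matrix.ext_iff, ← Matrix.ext_iff]
  simp only [Fin.forall_fin_two, Matrix.mul_apply, Fin.sum_univ_two, w, w', Matrix.of_apply, Matrix.cons_val_zero,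
    Matrix.cons_val_one, Matrix.cons_val', Matrix.empty_val', Matrix.cons_val_fin_one]
  rcases hb (A 0 0) with a | a <;> rcases hb (A 0 1) with b | b <;> rcases hb (A 1 0) with c | c <;>
    rcases hb (A 1 1) with d | d <;> rw [a, b, c, d] at hA ⊢ <;>
    simp [one_add_one_eq_two, h2] at hA ⊢

variable {n₂ : ℕ}

/-- The element w ⊗ 1. -/
def J (hF : Fintype.card F = 2) : GL (Fin 2 × Fin n₂) F :=
  ⟨w F ⊗ₖ 1, w' F ⊗ₖ 1, by rw [← Matrix.mul_kronecker_mul, (w_mul hF).1, one_mul, Matrix.one_kronecker_one],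
    by rw [← Matrix.mul_kronecker_mul, (w_mul hF).2, one_mul, Matrix.one_kronecker_one]⟩

/-- The elements centralising or inverting w ⊗ 1. -/
def K0 (hF : Fintype.card F = 2) : Subgroup (GL (Fin 2 × Fin n₂) F) where
  carrier := {g | g * J hF * g⁻¹ = J hF ∨ g * J hF * g⁻¹ = (J hF)⁻¹}
  one_mem' := Or.inl (by group)
  mul_mem' := fun {a b} ha hb => by
    have e : a * b * J hF * (a * b)⁻¹ = a * (b * J hF * b⁻¹) * a⁻¹ := by group
    have ei : a * (J hF)⁻¹ * a⁻¹ = (a * J hF * a⁻¹)⁻¹ := by group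
    show a * b * J hF * (a * b)⁻¹ = _ ∨ _
    rw [Set.mem_setOf_eq] at ha hb
    rw [e]
    rcases hb with hb | hb <;> rw [hb]
    · exact ha
    · rw [ei]
      rcases ha with ha | ha <;> rw [ha]
      · exact Or.inr rfl
      · exact Or.inl (inv_inv _)
  inv_mem' := fun {a} ha => by
    show a⁻¹ * J hF * a⁻¹⁻¹ = _ ∨ _
    rw [Set.mem_setOf_eq] at ha
    rcases ha with h | h
    · left
      calc a⁻¹ * J hF * a⁻¹⁻¹ = a⁻¹ * (a * J hF * a⁻¹) * a⁻¹⁻¹ := by rw [h]
        _ = J hF := by group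
    · right
      have h' : a * (J hF)⁻¹ * a⁻¹ = J hF := by
        rw [show a * (J hF)⁻¹ * a⁻¹ = (a * J hF * a⁻¹)⁻¹ by group, h, inv_inv]
      calc a⁻¹ * J hF * a⁻¹⁻¹ = a⁻¹ * (a * (J hF)⁻¹ * a⁻¹) * a⁻¹⁻¹ := by rw [h']
        _ = (J hF)⁻¹ := by group

theorem kronecker_le (hF : Fintype.card F = 2) :
    Cfsg.Geo.kroneckerSubgroup 2 n₂ F ≤ K0 hF := by
  rintro g ⟨A, B, hg⟩
  have hA : (A : Matrix (Fin 2) (Fin 2) F).det ≠ 0 := A.det_ne_zero
  show g * J hF * g⁻¹ = _ ∨ _
  rw [mul_inv_eq_iff_eq_mul, mul_inv_eq_iff_eq_mul]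
  rcases twist hF _ hA with h | h
  · left
    apply Units.ext
    simp only [Units.val_mul, J, hg]
    rw [← Matrix.mul_kronecker_mul, ← Matrix.mul_kronecker_mul, h, mul_one, one_mul]
  · right
    apply Units.ext
    simp only [Units.val_mul, J, hg, Units.inv_mk]
    rw [← Matrix.mul_kronecker_mul, ← Matrix.mul_kronecker_mul, h, mul_one, one_mul]

/-- An element centralising w ⊗ 1 outside the Kronecker subgroup and an element outside K0. -/
theorem exists_witnesses (hF : Fintype.card F = 2) {i j : Fin n₂} (hij : i ≠ j) :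
    (∃ g ∈ K0 hF, g ∉ Cfsg.Geo.kroneckerSubgroup 2 n₂ F) ∧ ∃ g : GL (Fin 2 × Fin n₂) F, g ∉ K0 hF := by
  have h2 := two_eq_zero hF
  constructor
  · set N : Matrix (Fin 2 × Fin n₂) (Fin 2 × Fin n₂) F := w F ⊗ₖ Matrix.single i j 1 with hN
    have hNN : N * N = 0 := by
      rw [hN, ← Matrix.mul_kronecker_mul, Matrix.single_mul_single_of_ne (h := hij.symm), Matrix.kronecker_zero]
    have hU : (1 + N) * (1 + N) = 1 := by
      rw [add_mul, one_mul, mul_add, mul_one, hNN, add_zero, add_assoc, ← two_smul F N, h2, zero_smul, add_zero]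
    refine ⟨⟨1 + N, 1 + N, hU, hU⟩, ?_, ?_⟩
    · show _ * J hF * _ = _ ∨ _
      rw [mul_inv_eq_iff_eq_mul]
      left
      apply Units.ext
      show (1 + N) * (w F ⊗ₖ 1) = (w F ⊗ₖ 1) * (1 + N)
      rw [add_mul, mul_add, one_mul, mul_one, hN, ← Matrix.mul_kronecker_mul, ← Matrix.mul_kronecker_mul, one_mul,
        mul_one]
    · rintro ⟨A, B, hg⟩
      have e1 := congrFun (congrFun hg (0, i)) (0, i)
      have e2 := congrFun (congrFun hg (0, i)) (1, i)
      have e3 := congrFun (congrFun hg (0, i)) (1, j)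
      simp [N, w, Matrix.single_apply, Matrix.one_apply, hij, hij.symm] at e1 e2 e3
      rcases e2 with e | e
      · rw [e, zero_mul] at e3; exact one_ne_zero e3
      · rw [e, mul_zero] at e1; exact one_ne_zero e1
  · have hne : ((0, i) : Fin 2 × Fin n₂) ≠ (1, i) := by simp
    refine ⟨Matrix.GeneralLinearGroup.mkOfDetNeZero (Matrix.transvection (0, i) (1, i) (1 : F))
      (by rw [Matrix.det_transvection_of_ne _ _ hne]; exact one_ne_zero), ?_⟩
    rintro (h | h) <;> rw [mul_inv_eq_iff_eq_mul] at h <;>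
      have h' := congrArg (fun g : GL (Fin 2 × Fin n₂) F => (g : Matrix (Fin 2 × Fin n₂) (Fin 2 × Fin n₂) F)) h <;>
      simp only [Units.val_mul, J, Matrix.GeneralLinearGroup.mkOfDetNeZero, Units.inv_mk] at h'
    · have e := congrFun (congrFun h' (0, i)) (0, i)
      simp [Matrix.mul_apply, Matrix.transvection, Fintype.sum_prod_type, Fin.sum_univ_two, w, Matrix.single_apply,
        Matrix.one_apply, Finset.sum_add_distrib, add_mul, mul_add] at e
    · have e := congrFun (congrFun h' (0, j)) (0, j)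
      simp [Matrix.mul_apply, Matrix.transvection, Fintype.sum_prod_type, Fin.sum_univ_two, w, w', Matrix.single_apply,
        Matrix.one_apply, Finset.sum_add_distrib, add_mul, mul_add, hij, hij.symm] at e

end Cfsg.Agent.TensorTwoF2
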