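import Cfsg.Agent.Lib.TensorUnitLow74ThreeDesc

/-!
The tensor product of hermitian spaces of dimensions two and three: transvections at pure tensors of isotropic
vectors generate those at all isotropic vectors.
-/

set_option autoImplicit false
set_option linter.unusedSectionVars false

namespace Cfsg.Agent.TensorUnitLow74

open scoped Matrix MatrixGroups Kronecker
open Cfsg.Agent.TensorMax Cfsg.Agent.TransvectionMax

variable {F : Type*} [Field F] [Fintype F] {σ : F →+* F}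
  {f₁ : (Fin 2 → F) → (Fin 2 → F) → F} {f₂ : (Fin 3 → F) → (Fin 3 → F) → F}

/-- An isotropic vector with prescribed skew product with `r` and trace of the product with `p`. -/
theorem exists_iso_presc (H₂ : UForm σ f₂) {p r : Fin 3 → F} (hr : r ≠ 0) (hind : ∀ t : F, p ≠ t • r) {τ cc : F}
    (hτ0 : τ ≠ 0) (hcc : σ cc = cc) :
    ∃ w, f₂ w w = 0 ∧ f₂ w r = τ ∧ f₂ w p + f₂ p w = cc := by
  obtain ⟨n, hn0, hn⟩ := exists_perp H₂.s (show 2 < 3 by norm_num) ![r, p]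
  have hnr : f₂ n r = 0 := hn 0
  have hnp : f₂ n p = 0 := hn 1
  have hp0 : p ≠ 0 := fun e => hind 0 (by rw [e, zero_smul])
  have hyex : ∀ γ : F, ∃ y, f₂ y r = 0 ∧ f₂ y p = γ := fun γ => by
    obtain ⟨y, hy, hyp⟩ := TransvectionUnitary.exists_perp_val H₂.isU (W := Submodule.span F {r}) (a := p)
      (fun hm => by
        obtain ⟨s, hs⟩ := Submodule.mem_span_singleton.1 hm
        exact hind s hs.symm) γ
    rw [TransvectionUnitary.mem_perp_singleton] at hy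
    exact ⟨y, hy, hyp⟩
  obtain ⟨y', hy'p, hy'r⟩ : ∃ y', f₂ y' p = 0 ∧ f₂ y' r = τ := by
    obtain ⟨y, hy, hyr⟩ := TransvectionUnitary.exists_perp_val H₂.isU (W := Submodule.span F {p}) (a := r)
      (fun hm => by
        obtain ⟨s, hs⟩ := Submodule.mem_span_singleton.1 hm
        by_cases hs0 : s = 0
        · exact hr (by rw [← hs, hs0, zero_smul])
        · exact hind s⁻¹ (by rw [← hs, inv_smul_smul₀ hs0])) τ
    rw [TransvectionUnitary.mem_perp_singleton] at hy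
    exact ⟨y, hy, hyr⟩
  obtain ⟨γ₀, hγ₀⟩ := H₂.exists_trace hcc
  -- adding multiples of `n` keeps the two products
  have main : ∀ γ : F, γ + σ γ = cc → ∀ y, f₂ y r = 0 → f₂ y p = γ → ∀ l : F,
      f₂ (y + y' + l • n) r = τ ∧ f₂ (y + y' + l • n) p + f₂ p (y + y' + l • n) = cc := by
    intro γ hγ y hy hyp l
    constructor
    · rw [H₂.s.add_left, H₂.s.add_left, H₂.s.smul_left, hy, hy'r, hnr, mul_zero, zero_add, add_zero]
    · have h1 : f₂ (y + y' + l • n) p = γ := by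
        rw [H₂.s.add_left, H₂.s.add_left, H₂.s.smul_left, hyp, hy'p, hnp, mul_zero, add_zero, add_zero]
      rw [← H₂.conj_f (y + y' + l • n) p, h1, hγ]
  by_cases hnn : f₂ n n = 0
  · obtain ⟨z, hz0, hz⟩ := H₂.exists_skew
    obtain ⟨y, hy, hyp⟩ := hyex γ₀
    obtain ⟨y₁, hy₁, hy₁p⟩ := hyex (γ₀ + z)
    have hcase : f₂ (y + y') n ≠ 0 ∨ f₂ (y₁ + y') n ≠ 0 := by
      by_contra! h0
      obtain ⟨h0, h1⟩ := h0
      have hspan : n ∈ Submodule.span F (Set.range ![r, p]) := by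
        by_contra hmem
        have hli : LinearIndependent F ![r, p, n] := by
          rw [Fintype.linearIndependent_iff]
          intro g hg
          simp only [Fin.sum_univ_three, Matrix.cons_val_zero, Matrix.cons_val_one, Matrix.cons_val] at hg
          have h2 : g 2 = 0 := by
            by_contra h2
            refine hmem ((Submodule.mem_span_range_iff_exists_fun F).2 ⟨![-(g 2)⁻¹ * g 0, -(g 2)⁻¹ * g 1], ?_⟩)
            simp only [Fin.sum_univ_two, Matrix.cons_val_zero, Matrix.cons_val_one]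
            rw [← inv_smul_smul₀ h2 n, eq_neg_of_add_eq_zero_right hg]
            module
          rw [h2, zero_smul, add_zero] at hg
          have h1' : g 1 = 0 := by
            by_contra h1'
            refine hind (-(g 1)⁻¹ * g 0) ?_
            rw [← inv_smul_smul₀ h1' p, eq_neg_of_add_eq_zero_right hg]
            module
          rw [h1', zero_smul, add_zero] at hg
          intro i
          fin_cases i
          · exact (smul_eq_zero.1 hg).resolve_right hr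
          · exact h1'
          · exact h2
        exact hn0 (eq_zero_of_three H₂ hli hnr hnp hnn)
      obtain ⟨g, hg⟩ := (Submodule.mem_span_range_iff_exists_fun F).1 hspan
      simp only [Fin.sum_univ_two, Matrix.cons_val_zero, Matrix.cons_val_one] at hg
      have hd : ∀ u, f₂ u n = σ (g 0) * f₂ u r + σ (g 1) * f₂ u p := fun u => by
        rw [← hg, H₂.s.add_right, H₂.s.smul_right, H₂.s.smul_right]
      rw [hd, H₂.s.add_left, H₂.s.add_left, hy, hy'r, hyp, hy'p] at h0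
      rw [hd, H₂.s.add_left, H₂.s.add_left, hy₁, hy'r, hy₁p, hy'p] at h1
      have hg1 : g 1 = 0 := (map_eq_zero σ).1 ((mul_eq_zero.1 (show σ (g 1) * z = 0 by
        linear_combination h1 - h0)).resolve_right hz0)
      rw [hg1, map_zero, zero_mul, add_zero, zero_add] at h0
      have hg0 : g 0 = 0 := (map_eq_zero σ).1 ((mul_eq_zero.1 h0).resolve_right hτ0)
      exact hn0 (by rw [← hg, hg0, hg1, zero_smul, zero_smul, add_zero])
    have fin : ∀ γ : F, γ + σ γ = cc → ∀ y, f₂ y r = 0 → f₂ y p = γ → f₂ (y + y') n ≠ 0 →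
        ∃ w, f₂ w w = 0 ∧ f₂ w r = τ ∧ f₂ w p + f₂ p w = cc := by
      intro γ hγ y hy hyp hne
      obtain ⟨x, hx⟩ := H₂.exists_trace (a := -f₂ (y + y') (y + y')) (by rw [map_neg, H₂.self_fixed])
      refine ⟨y + y' + σ (x / f₂ (y + y') n) • n, ?_, main γ hγ y hy hyp _⟩
      rw [H₂.s.add_left (y + y'), H₂.s.add_right (y + y'), H₂.s.add_right (σ _ • n), H₂.s.smul_right,
        H₂.s.smul_left, H₂.s.smul_left, H₂.s.smul_right, hnn, H₂.s.invol, mul_zero, mul_zero, add_zero,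
        div_mul_cancel₀ _ hne, map_div₀, H₂.conj_f, div_mul_cancel₀ _ (fun e => hne (H₂.s.symm_zero e))]
      linear_combination hx
    rcases hcase with h | h
    · exact fin γ₀ hγ₀ y hy hyp h
    · exact fin (γ₀ + z) (by rw [map_add, hz]; linear_combination hγ₀) y₁ hy₁ hy₁p h
  · obtain ⟨y, hy, hyp⟩ := hyex γ₀
    set A := f₂ (y + y') n with hA
    have hfix : σ (A * σ A / f₂ n n - f₂ (y + y') (y + y')) = A * σ A / f₂ n n - f₂ (y + y') (y + y') := by
      rw [map_sub, map_div₀, map_mul, H₂.s.invol, H₂.self_fixed, H₂.self_fixed, mul_comm]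
    obtain ⟨ρ, hρ⟩ := H₂.exists_norm (a := (A * σ A / f₂ n n - f₂ (y + y') (y + y')) / f₂ n n)
      (by rw [map_div₀, hfix, H₂.self_fixed])
    refine ⟨y + y' + (ρ - A / f₂ n n) • n, ?_, main γ₀ hγ₀ y hy hyp _⟩
    rw [H₂.s.add_left (y + y'), H₂.s.add_right (y + y'), H₂.s.add_right ((ρ - _) • n), H₂.s.smul_left,
      H₂.s.smul_left, H₂.s.smul_right, H₂.s.smul_right, ← hA, ← H₂.conj_f (y + y') n, ← hA, map_sub, map_div₀,
      H₂.self_fixed]
    field_simp at hρ ⊢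
    linear_combination hρ

variable (H₁ : UForm σ f₁) (H₂ : UForm σ f₂) {M : Subgroup (GL (Fin 2 × Fin 3) F)} (hM : M ≤ SUT σ f₁ f₂)
  (hT : ∀ (u : Fin 2 → F) (a : Fin 3 → F), Iso f₁ u → Iso f₂ a → TV σ f₁ f₂ M (tp u a))
include H₁ H₂ hM hT

theorem tv_step {V W : Fin 2 × Fin 3 → F} (hW : TV σ f₁ f₂ M W) (hVW : TV σ f₁ f₂ M (V + W))
    (hWW : tForm σ f₁ f₂ W W = 0) (h0 : tForm σ f₁ f₂ V W ≠ 0)
    (hs : σ (tForm σ f₁ f₂ V W) = -tForm σ f₁ f₂ V W) : TV σ f₁ f₂ M V := by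
  obtain ⟨g, hg, hgx⟩ := hW (-(tForm σ f₁ f₂ V W)⁻¹) (by rw [map_neg, map_inv₀, hs, inv_neg])
  have h : (g : Matrix (Fin 2 × Fin 3) (Fin 2 × Fin 3) F) *ᵥ (V + W) = V := by
    rw [hgx, tForm_add_left, hWW, add_zero, neg_mul, inv_mul_cancel₀ h0]
    module
  intro z hz
  obtain ⟨t, ht, htx⟩ := hVW z hz
  refine ⟨g * t * g⁻¹, M.mul_mem (M.mul_mem hg ht) (M.inv_mem hg), fun x => ?_⟩
  rw [mul_act, mul_act, htx, Matrix.mulVec_add, Matrix.mulVec_smul, act_inv_act, h]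
  congr 3
  rw [← (hM hg).2, act_inv_act, h]

theorem pair_eval {e₁ e₂ : Fin 2 → F} (h₁₁ : f₁ e₁ e₁ = 0) (h₂₂ : f₁ e₂ e₂ = 0) (h₁₂ : f₁ e₁ e₂ = 1)
    (p r p' r' : Fin 3 → F) :
    tForm σ f₁ f₂ (tp e₁ p + tp e₂ r) (tp e₁ p' + tp e₂ r') = f₂ p r' + f₂ r p' := by
  have h₂₁ : f₁ e₂ e₁ = 1 := by rw [← H₁.conj_f, h₁₂, map_one]
  simp only [tForm_add_left, TensorMax.tForm_add_right, tForm_tp H₂.s H₁.s, h₁₁, h₂₂, h₁₂, h₂₁, zero_mul, one_mul,
    zero_add, add_zero]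
  ring

theorem tv_split {e₁ e₂ : Fin 2 → F} (he₁ : Iso f₁ e₁) (he₂ : Iso f₁ e₂) (h₁₂ : f₁ e₁ e₂ = 1)
    (hs : ∃ s : F, σ s = s ∧ s ≠ 0 ∧ s ≠ 1) {p r : Fin 3 → F} (hr : r ≠ 0) (hiso : f₂ p r + f₂ r p = 0) :
    TV σ f₁ f₂ M (tp e₁ p + tp e₂ r) := by
  obtain ⟨z, hz0, hz⟩ := H₂.exists_skew
  have skew : ∀ {p r : Fin 3 → F}, f₂ p r + f₂ r p = 0 → σ (f₂ p r) = -f₂ p r := fun {p r} h => by
    rw [H₂.conj_f]; exact eq_neg_of_add_eq_zero_right h
  have W1 : ∀ w, Iso f₂ w → ∀ p r, f₂ r w ≠ 0 → σ (f₂ r w) = -f₂ r w →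
      TV σ f₁ f₂ M (tp e₁ (p + w) + tp e₂ r) → TV σ f₁ f₂ M (tp e₁ p + tp e₂ r) := by
    intro w hw p r h0 hsk h
    have e : tForm σ f₁ f₂ (tp e₁ p + tp e₂ r) (tp e₁ w) = f₂ r w := by
      have := pair_eval H₁ H₂ hM hT he₁.2 he₂.2 h₁₂ p r w 0
      rwa [tp_zero_right, add_zero, H₂.s.zero_right, zero_add] at this
    refine tv_step H₁ H₂ hM hT (hT e₁ w he₁ hw) ?_
      (by rw [tForm_tp H₂.s H₁.s, hw.2, mul_zero]) (by rw [e]; exact h0) (by rw [e]; exact hsk)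
    rw [show tp e₁ p + tp e₂ r + tp e₁ w = tp e₁ (p + w) + tp e₂ r by rw [tp_add_right]; abel]
    exact h
  have W2 : ∀ w, Iso f₂ w → ∀ p r, f₂ p w ≠ 0 → σ (f₂ p w) = -f₂ p w →
      TV σ f₁ f₂ M (tp e₁ p + tp e₂ (r + w)) → TV σ f₁ f₂ M (tp e₁ p + tp e₂ r) := by
    intro w hw p r h0 hsk h
    have e : tForm σ f₁ f₂ (tp e₁ p + tp e₂ r) (tp e₂ w) = f₂ p w := by
      have := pair_eval H₁ H₂ hM hT he₁.2 he₂.2 h₁₂ p r 0 w
      rwa [tp_zero_right, zero_add, H₂.s.zero_right, add_zero] at this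
    refine tv_step H₁ H₂ hM hT (hT e₂ w he₂ hw) ?_
      (by rw [tForm_tp H₂.s H₁.s, hw.2, mul_zero]) (by rw [e]; exact h0) (by rw [e]; exact hsk)
    rw [show tp e₁ p + tp e₂ r + tp e₂ w = tp e₁ p + tp e₂ (r + w) by rw [tp_add_right]; abel]
    exact h
  have good : ∀ p r, Iso f₂ p → Iso f₂ r → f₂ p r ≠ 0 → σ (f₂ p r) = -f₂ p r →
      TV σ f₁ f₂ M (tp e₁ p + tp e₂ r) := by
    intro p r hp hr hpr hsk
    have e : tForm σ f₁ f₂ (tp e₁ p + tp e₂ r) (-(tp e₁ p)) = -f₂ r p := by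
      rw [show -(tp e₁ p) = (-1 : F) • tp e₁ p by simp, tForm_smul_right H₁ H₂, map_neg, map_one, tForm_add_left,
        tForm_tp H₂.s H₁.s, tForm_tp H₂.s H₁.s, he₁.2, zero_mul, zero_add,
        show f₁ e₂ e₁ = 1 by rw [← H₁.conj_f, h₁₂, map_one], one_mul, neg_one_mul]
    have hrp : f₂ r p = -f₂ p r := by rw [← H₂.conj_f, hsk]
    refine tv_step H₁ H₂ hM hT (W := -(tp e₁ p)) ?_ ?_ ?_ (by rw [e, hrp, neg_neg]; exact hpr)
      (by rw [e, hrp, neg_neg, hsk])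
    · rw [show -(tp e₁ p) = tp e₁ (-p) by rw [← neg_one_smul F p, tp_smul_right, neg_one_smul]]
      exact hT e₁ _ he₁ ⟨neg_ne_zero.2 hp.1, by
        rw [← neg_one_smul F p, H₂.s.smul_left, H₂.s.smul_right, hp.2, mul_zero, mul_zero]⟩
    · rw [show tp e₁ p + tp e₂ r + -(tp e₁ p) = tp e₂ r by abel]
      exact hT e₂ r he₂ hr
    · rw [show -(tp e₁ p) = (-1 : F) • tp e₁ p by simp, tForm_smul_left H₁ H₂, tForm_smul_right H₁ H₂,
        tForm_tp H₂.s H₁.s, hp.2]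
      ring
  have stepA : ∀ p r, Iso f₂ r → f₂ p r ≠ 0 → σ (f₂ p r) = -f₂ p r → TV σ f₁ f₂ M (tp e₁ p + tp e₂ r) := by
    intro p r hr hpr hsk
    by_cases hpp : f₂ p p = 0
    · exact good p r ⟨fun e => hpr (by rw [e, H₂.s.zero_left]), hpp⟩ hr hpr hsk
    obtain ⟨τ, hτ0, hτ, hτne⟩ : ∃ τ : F, τ ≠ 0 ∧ σ τ = -τ ∧ f₂ p r + τ ≠ 0 := by
      obtain ⟨s, hs, hs0, hs1⟩ := hs
      by_cases h : f₂ p r + z = 0
      · refine ⟨s * z, mul_ne_zero hs0 hz0, by rw [map_mul, hs, hz, mul_neg], fun e => hs1 ?_⟩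
        exact mul_right_cancel₀ hz0 (by linear_combination e - h)
      · exact ⟨z, hz0, hz, h⟩
    obtain ⟨w, hww, hwr, hwp⟩ := exists_iso_presc H₂ (p := p) hr.1 (fun t e => hpp (by
      rw [e, H₂.s.smul_left, H₂.s.smul_right, hr.2, mul_zero, mul_zero])) hτ0 (cc := -f₂ p p)
      (by rw [map_neg, H₂.self_fixed])
    have hw : Iso f₂ w := ⟨fun e => hτ0 (by rw [← hwr, e, H₂.s.zero_left]), hww⟩
    have hrw : f₂ r w = -τ := by rw [← H₂.conj_f, hwr, hτ]
    refine W1 w hw p r (by rw [hrw]; exact neg_ne_zero.2 hτ0) (by rw [hrw, map_neg, hτ]) ?_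
    have hpw : f₂ (p + w) r = f₂ p r + τ := by rw [H₂.s.add_left, hwr]
    refine good _ r ⟨fun e => hτne (by rw [← hpw, e, H₂.s.zero_left]), ?_⟩ hr (by rw [hpw]; exact hτne)
      (by rw [hpw, map_add, hsk, hτ]; ring)
    rw [H₂.s.add_left, H₂.s.add_right, H₂.s.add_right, hww]
    linear_combination hwp
  have stepB : ∀ p r, Iso f₂ r → f₂ p r + f₂ r p = 0 → TV σ f₁ f₂ M (tp e₁ p + tp e₂ r) := by
    intro p r hr hpr
    by_cases h : f₂ p r = 0
    · obtain ⟨a, ha, hra, har⟩ := H₂.exists_partner hr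
      have hw : Iso f₂ (z • a) :=
        ⟨smul_ne_zero hz0 ha.1, by rw [H₂.s.smul_left, H₂.s.smul_right, ha.2, mul_zero, mul_zero]⟩
      have hrw : f₂ r (z • a) = -z := by rw [H₂.s.smul_right, hra, mul_one, hz]
      refine W1 _ hw p r (by rw [hrw]; exact neg_ne_zero.2 hz0) (by rw [hrw, map_neg, hz]) ?_
      have e : f₂ (p + z • a) r = z := by rw [H₂.s.add_left, h, H₂.s.smul_left, har, mul_one, zero_add]
      exact stepA _ r hr (by rw [e]; exact hz0) (by rw [e]; exact hz)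
    · exact stepA p r hr h (skew hpr)
  have stepC : ∀ p r, r ≠ 0 → (∀ t : F, p ≠ t • r) → f₂ p r + f₂ r p = 0 →
      TV σ f₁ f₂ M (tp e₁ p + tp e₂ r) := by
    intro p r hr hind hpr
    by_cases hrr : f₂ r r = 0
    · exact stepB p r ⟨hr, hrr⟩ hpr
    obtain ⟨w, hww, hwp, hwr⟩ := exists_iso_presc H₂ (p := r) (r := p) (fun e => hind 0 (by rw [e, zero_smul]))
      (fun t e => by
        by_cases ht : t = 0
        · exact hr (by rw [e, ht, zero_smul])
        · exact hind t⁻¹ (by rw [e, inv_smul_smul₀ ht])) hz0 (cc := -f₂ r r) (by rw [map_neg, H₂.self_fixed])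
    have hw : Iso f₂ w := ⟨fun e => hz0 (by rw [← hwp, e, H₂.s.zero_left]), hww⟩
    have hpw : f₂ p w = -z := by rw [← H₂.conj_f, hwp, hz]
    refine W2 w hw p r (by rw [hpw]; exact neg_ne_zero.2 hz0) (by rw [hpw, map_neg, hz]) ?_
    refine stepB p _ ⟨fun e => hrr ?_, ?_⟩ ?_
    · rw [eq_neg_of_add_eq_zero_left e, ← neg_one_smul F w, H₂.s.smul_left, H₂.s.smul_right, hww, mul_zero,
        mul_zero]
    · rw [H₂.s.add_left, H₂.s.add_right, H₂.s.add_right, hww]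
      linear_combination hwr
    · rw [H₂.s.add_right, H₂.s.add_left, hpw, hwp]
      linear_combination hpr
  by_cases hrr : f₂ r r = 0
  · exact stepB p r ⟨hr, hrr⟩ hiso
  by_cases hind : ∀ t : F, p ≠ t • r
  · exact stepC p r hr hind hiso
  push_neg at hind
  obtain ⟨t, rfl⟩ := hind
  obtain ⟨a, ha, har⟩ : ∃ a, Iso f₂ a ∧ f₂ a r ≠ 0 := by
    by_contra! h0
    have hmem : ∀ x, f₂ x r = 0 := fun x => by
      have hx : x ∈ Submodule.span F {b | f₂ b b = 0} := (H₂.span_iso (by norm_num)) ▸ Submodule.mem_top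
      induction hx using Submodule.span_induction with
      | mem y hy =>
        by_cases hy0 : y = 0
        · rw [hy0, H₂.s.zero_left]
        · exact h0 y ⟨hy0, hy⟩
      | zero => exact H₂.s.zero_left _
      | add p q _ _ hp hq => rw [H₂.s.add_left, hp, hq, add_zero]
      | smul s p _ hp => rw [H₂.s.smul_left, hp, mul_zero]
    exact hrr (hmem r)
  set w := (z / f₂ a r) • a with hwdef
  have hwr : f₂ w r = z := by rw [hwdef, H₂.s.smul_left, div_mul_cancel₀ _ har]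
  have hw : Iso f₂ w :=
    ⟨smul_ne_zero (div_ne_zero hz0 har) ha.1, by rw [H₂.s.smul_left, H₂.s.smul_right, ha.2, mul_zero, mul_zero]⟩
  have hrw : f₂ r w = -z := by rw [← H₂.conj_f, hwr, hz]
  refine W1 w hw _ r (by rw [hrw]; exact neg_ne_zero.2 hz0) (by rw [hrw, map_neg, hz]) ?_
  refine stepC _ r hr (fun s e => ?_) (by rw [H₂.s.add_left, H₂.s.add_right, hwr, hrw]; linear_combination hiso)
  have e' : w = (s - t) • r := by rw [sub_smul, ← e, add_sub_cancel_left]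
  have h := hw.2
  rw [e', H₂.s.smul_left, H₂.s.smul_right] at h
  rcases mul_eq_zero.1 h with h' | h'
  · exact hw.1 (by rw [e', h', zero_smul])
  · rcases mul_eq_zero.1 h' with h'' | h''
    · exact hw.1 (by rw [e', (map_eq_zero σ).1 h'', zero_smul])
    · exact hrr h''

/-- All transvections lie in `M`. -/
theorem tv_all3 (hs : ∃ s : F, σ s = s ∧ s ≠ 0 ∧ s ≠ 1) {V : Fin 2 × Fin 3 → F}
    (hV : tForm σ f₁ f₂ V V = 0) : TV σ f₁ f₂ M V := by
  obtain ⟨e₁, he₁, -⟩ := H₁.exists_iso_perp (m := 0) (by norm_num) Fin.elim0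
  obtain ⟨e₂, he₂, h₁₂, h₂₁⟩ := H₁.exists_partner he₁
  have hli : LinearIndependent F ![e₁, e₂] := by
    rw [LinearIndependent.pair_iff]
    intro s t hst
    have a1 := congrArg (fun w => f₁ w e₂) hst
    have a2 := congrArg (fun w => f₁ w e₁) hst
    simp [H₁.s.add_left, H₁.s.smul_left, H₁.s.zero_left, h₁₂, he₂.2] at a1
    simp [H₁.s.add_left, H₁.s.smul_left, H₁.s.zero_left, h₂₁, he₁.2] at a2
    exact ⟨a1, a2⟩
  have hdec : ∀ x : Fin 2 → F, ∃ a b : F, x = a • e₁ + b • e₂ := fun x => by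
    have htop := hli.span_eq_top_of_card_eq_finrank (by simp)
    have hx : x ∈ Submodule.span F (Set.range ![e₁, e₂]) := htop ▸ Submodule.mem_top
    obtain ⟨t, rfl⟩ := (Submodule.mem_span_range_iff_exists_fun F).1 hx
    exact ⟨t 0, t 1, by simp [Fin.sum_univ_two]⟩
  choose a b hab using hdec
  set p : Fin 3 → F := ∑ i, a (Pi.single i 1) • fun j => V (i, j) with hp
  set r : Fin 3 → F := ∑ i, b (Pi.single i 1) • fun j => V (i, j) with hr
  have hVd : V = tp e₁ p + tp e₂ r := by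
    funext q
    have h := congrFun (tp_decomp V) q
    rw [h]
    simp only [Finset.sum_apply, Pi.add_apply, hp, hr, tp, Pi.smul_apply, smul_eq_mul, Finset.mul_sum,
      ← Finset.sum_add_distrib]
    refine Finset.sum_congr rfl fun i _ => ?_
    have h' := congrFun (hab (Pi.single i 1)) q.1
    simp only [Pi.add_apply, Pi.smul_apply, smul_eq_mul] at h'
    linear_combination V (i, q.2) * h'
  rw [hVd] at hV ⊢
  rw [pair_eval H₁ H₂ hM hT he₁.2 he₂.2 h₁₂] at hV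
  by_cases hr0 : r = 0
  · by_cases hp0 : p = 0
    · rw [hp0, hr0, tp_zero_right, tp_zero_right, add_zero]
      exact fun z _ => ⟨1, M.one_mem, fun x => by rw [one_act, smul_zero, add_zero]⟩
    · rw [add_comm]
      exact tv_split H₁ H₂ hM hT he₂ he₁ h₂₁ hs hp0 (by linear_combination hV)
  · exact tv_split H₁ H₂ hM hT he₁ he₂ h₁₂ hs hr0 hV

end Cfsg.Agent.TensorUnitLow74
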