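import Cfsg.Agent.Lib.TensorUnitLow74
import Cfsg.Agent.Lib.TensorUnitLow74ThreeGen

/-! Maximality of the unitary tensor product `U_2 ⊗ U_3` in `SU_6(q)`. -/

set_option autoImplicit false

namespace Cfsg.Agent.TensorUnitLow74

open scoped Matrix MatrixGroups Kronecker
open Cfsg.Agent.TensorMax Cfsg.Agent.TensorMaxGlue Cfsg.Agent.TransvectionMax

/-- `U_2 ⊗ U_3` in `SU_6(q)`, `q ≥ 3`. -/
theorem maximal23 {F : Type*} [Field F] [Fintype F] (q : ℕ) (hF : Fintype.card F = q ^ 2) (hq3 : 3 ≤ q) (e : Fin 6 ≃ Fin 2 × Fin 3) (P : Matrix.GeneralLinearGroup (Fin 6) F) (f₁ : (Fin 2 → F) → (Fin 2 → F) → F) (f₂ : (Fin 3 → F) → (Fin 3 → F) → F) (hf₁ : Cfsg.Geo.IsUnitaryFormPow q f₁) (hf₂ : Cfsg.Geo.IsUnitaryFormPow q f₂) (hT : Cfsg.Geo.IsTensorFormStructure (fun x : F => x ^ q) (Cfsg.hermForm 6 F q) f₁ f₂ e P) : Cfsg.Geo.IsMaximalIn (Cfsg.GU 6 F q ⊓ Cfsg.Geo.specialLinear (Fin 6) F) (Cfsg.Geo.tensorProductSubgroup 2 3 e P ⊓ (Cfsg.GU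 6 F q ⊓ Cfsg.Geo.specialLinear (Fin 6) F)) := by
  classical
  obtain ⟨τ, hτ, hfU⟩ := TransvectionUnitaryGen.herm_isUnitaryForm (n := 6) hF
  obtain ⟨c, hc, hT⟩ := hT
  let σ : F →+* F := τ.toRingHom
  have hσ : ∀ x, σ x = x ^ q := hτ
  have hinv : ∀ x, σ (σ x) = x := hfU.involutive
  have hne : ∃ x, σ x ≠ x := TransvectionUnitary.exists_not_fixed hfU.ne_refl
  have hmk : ∀ {m : ℕ} {f : (Fin m → F) → (Fin m → F) → F}, Cfsg.Geo.IsUnitaryFormPow q f → UForm σ f := by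
    intro m f hf
    refine ⟨⟨hf.add_left, hf.smul_left, fun x y => by rw [hσ, one_mul]; exact hf.herm y x, hinv, by simp, fun x hx => ?_⟩, hne⟩
    by_contra h0
    obtain ⟨y, hy⟩ := (hf.nondegenerate x h0).2
    exact hy (hx y)
  have H₂ := hmk hf₂
  have H₁' := hmk hf₁
  set P' := psi e P with hP'
  have hT' : ∀ u w, Cfsg.hermForm 6 F q (P' u) (P' w) = c * tForm σ f₁ f₂ u w := fun u w => by
    rw [hP', psi_apply, psi_apply, hT u w]
    simp only [tForm, Cfsg.Geo.formOfGram, hσ]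
  -- the constant is fixed
  have hcfix : σ c = c := by
    obtain ⟨u, hu⟩ : ∃ u, tForm σ f₁ f₂ u u ≠ 0 := by
      obtain ⟨x, -, hx⟩ := TransvectionUnitaryGen.exists_norm_val H₁'.isU (U := (⊤ : Submodule F (Fin 2 → F)))
        (fun w _ hw => by
          obtain ⟨⟨x, hx⟩, ⟨y, hy⟩⟩ := H₁'.isU.nondegenerate w hw
          exact ⟨⟨x, Submodule.mem_top, hx⟩, ⟨y, Submodule.mem_top, hy⟩⟩)
        (by
          haveI : Nonempty (Fin 2) := ⟨⟨0, by omega⟩⟩
          exact top_ne_bot) (s := 1) (map_one _)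
      obtain ⟨y, -, hy⟩ := TransvectionUnitaryGen.exists_norm_val H₂.isU (U := (⊤ : Submodule F (Fin 3 → F)))
        (fun w _ hw => by
          obtain ⟨⟨x, hx⟩, ⟨y, hy⟩⟩ := H₂.isU.nondegenerate w hw
          exact ⟨⟨x, Submodule.mem_top, hx⟩, ⟨y, Submodule.mem_top, hy⟩⟩)
        (by
          haveI : Nonempty (Fin 3) := ⟨⟨0, by omega⟩⟩
          exact top_ne_bot) (s := 1) (map_one _)
      exact ⟨tp x y, by rw [tForm_tp H₂.s H₁'.s, hx, hy, one_mul]; exact one_ne_zero⟩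
    have h := hfU.herm (P' u) (P' u)
    change _ = σ _ at h
    rw [hT', map_mul, tForm_conj H₁' H₂] at h
    exact (mul_right_cancel₀ hu h).symm
  let g₁ : (Fin 2 → F) → (Fin 2 → F) → F := fun v w => c * f₁ v w
  have H₁ : UForm σ g₁ := ⟨⟨fun x y v => by simp [g₁, H₁'.s.add_left, mul_add],
    fun s x v => by simp [g₁, H₁'.s.smul_left]; ring,
    fun x y => by simp [g₁, hcfix, H₁'.conj_f], hinv, by simp,
    fun x hx => H₁'.s.nd x fun y => (mul_eq_zero.1 (hx y)).resolve_left hc⟩, hne⟩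
  have hTg : ∀ u w, Cfsg.hermForm 6 F q (P' u) (P' w) = tForm σ g₁ f₂ u w := fun u w => by
    rw [hT']
    simp only [tForm, Cfsg.Geo.formOfGram, Cfsg.Geo.gramMatrix, Matrix.kroneckerMap_apply, Finset.mul_sum, g₁]
    exact Finset.sum_congr rfl fun a _ => Finset.sum_congr rfl fun b _ => by ring
  have hcomap : (Cfsg.GU 6 F q ⊓ Cfsg.Geo.specialLinear (Fin 6) F).comap (phi e P).toMonoidHom =
      SUT σ g₁ f₂ := by
    ext g
    constructor
    · rintro ⟨hgU, hgS⟩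
      refine ⟨by rw [← phi_det e P g, ← Matrix.GeneralLinearGroup.val_det_apply, show Matrix.GeneralLinearGroup.det (phi e P g) = 1 from MonoidHom.mem_ker.1 hgS, Units.val_one], fun u w => ?_⟩
      have h := hgU (P' u) (P' w)
      change Cfsg.hermForm 6 F q ((phi e P g : Matrix (Fin 6) (Fin 6) F) *ᵥ P' u)
        ((phi e P g : Matrix (Fin 6) (Fin 6) F) *ᵥ P' w) = _ at h
      rwa [hP', phi_psi, phi_psi, ← hP', hTg, hTg] at h
    · rintro ⟨hgd, hgT⟩
      refine ⟨fun x y => ?_, Units.ext (by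
        rw [Matrix.GeneralLinearGroup.val_det_apply, Units.val_one]
        exact (phi_det e P g).trans hgd)⟩
      obtain ⟨u, rfl⟩ := psi_surjective e P x
      obtain ⟨w, rfl⟩ := psi_surjective e P y
      show Cfsg.hermForm 6 F q ((phi e P g : Matrix (Fin 6) (Fin 6) F) *ᵥ psi e P u)
        ((phi e P g : Matrix (Fin 6) (Fin 6) F) *ᵥ psi e P w) = _
      rw [phi_psi, phi_psi, ← hP', hTg, hTg, hgT]
  have hs : ∃ s : F, σ s = s ∧ s ≠ 0 ∧ s ≠ 1 := by
    by_contra! hall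
    have hq2 : q ≠ 2 := by omega
    obtain ⟨ω, hω⟩ := hne
    have hω0 : ω ≠ 0 := fun e0 => hω (by rw [e0, map_zero])
    have hF4 : ∀ x : F, x = 0 ∨ x ^ (q + 1) = 1 := fun x => by
      by_cases hx : x = 0
      · exact Or.inl hx
      · exact Or.inr (by
          have := hall (x * σ x) (by rw [map_mul, hinv, mul_comm]) (mul_ne_zero hx (fun e0 => hx (by
            rw [← hinv x, e0, map_zero])))
          rwa [hσ, ← pow_succ'] at this)
    -- every unit is killed by q + 1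
    have hqpos : 2 ≤ q := by
      by_contra h
      have h1 := Fintype.one_lt_card (α := F)
      interval_cases q <;> simp_all
    have hcardu : Fintype.card Fˣ = q ^ 2 - 1 := by rw [Fintype.card_units, hF]
    obtain ⟨g, hg⟩ := IsCyclic.exists_generator (α := Fˣ)
    have hord : orderOf g = q ^ 2 - 1 := by
      rw [orderOf_eq_card_of_forall_mem_zpowers hg, Nat.card_eq_fintype_card, hcardu]
    have hdvd : q ^ 2 - 1 ∣ q + 1 := by
      rw [← hord]
      refine orderOf_dvd_of_pow_eq_one (Units.ext ?_)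
      rw [Units.val_pow_eq_pow_val, Units.val_one]
      exact (hF4 g).resolve_left g.ne_zero
    have hle := Nat.le_of_dvd (by omega) hdvd
    have : 3 * q ≤ q ^ 2 := by rw [sq]; exact Nat.mul_le_mul_right q (by omega)
    omega
  have hν : ∃ ν : F, ν * σ ν = 1 ∧ ν ^ 3 ≠ 1 := by
    have hcardu : Fintype.card Fˣ = q ^ 2 - 1 := by rw [Fintype.card_units, hF]
    obtain ⟨g, hg⟩ := IsCyclic.exists_generator (α := Fˣ)
    have hord : orderOf g = q ^ 2 - 1 := by
      rw [orderOf_eq_card_of_forall_mem_zpowers hg, Nat.card_eq_fintype_card, hcardu]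
    have hsq : (q - 1) * (q + 1) = q ^ 2 - 1 := by
      rw [mul_comm, ← Nat.sq_sub_sq, one_pow]
    refine ⟨((g ^ (q - 1) : Fˣ) : F), ?_, fun h3 => ?_⟩
    · rw [hσ, ← pow_succ', ← Units.val_pow_eq_pow_val, ← pow_mul, hsq, ← hord, pow_orderOf_eq_one, Units.val_one]
    · have hd : q ^ 2 - 1 ∣ (q - 1) * 3 := by
        rw [← hord]
        refine orderOf_dvd_of_pow_eq_one (Units.ext ?_)
        rw [pow_mul, Units.val_pow_eq_pow_val, h3, Units.val_one]
      rw [← hsq] at hd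
      have := Nat.le_of_dvd (by norm_num) (Nat.dvd_of_mul_dvd_mul_left (by omega) hd)
      omega
  refine isMaximalIn_of e P _ ?_ (fun M h1' h2' => ?_)
  · obtain ⟨u, hu, -⟩ := H₁.exists_iso_perp (m := 0) (by norm_num) Fin.elim0
    obtain ⟨u', hu', -, hu'u⟩ := H₁.exists_partner hu
    obtain ⟨a, ha, -⟩ := H₂.exists_iso_perp (m := 0) (by norm_num) Fin.elim0
    obtain ⟨b, hb, -, hba⟩ := H₂.exists_partner ha
    obtain ⟨x, hx0, hx⟩ := exists_perp H₂.s (show 1 < 3 by norm_num) ![a]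
    obtain ⟨z, hz0, hz⟩ := H₁.exists_skew
    have hU := tForm_isU H₁ H₂
    have hWW : tForm σ g₁ f₂ (tp u a) (tp u a) = 0 := by rw [tForm_tp H₂.s H₁.s, hu.2, zero_mul]
    set g := ft (tForm σ g₁ f₂) (tp u a) (σ z • tp u a) with hg
    have hgx : ∀ w, (g : Matrix (Fin 2 × Fin 3) (Fin 2 × Fin 3) F) *ᵥ w =
        w + (z * tForm σ g₁ f₂ w (tp u a)) • tp u a := fun w => TransvectionUnitary.ut_act hU hWW z w
    refine ⟨g, ?_, fun hgk => ?_⟩
    · have h : g ∈ SUT σ g₁ f₂ := ⟨by rw [hg, ft, ← Matrix.GeneralLinearGroup.val_det_apply, tv_det, Units.val_one],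
        TransvectionUnitary.ut_preserves hU hWW hz⟩
      rw [← hcomap] at h
      exact h
    · obtain ⟨α, β, hαβ⟩ := exists_kr hgk
      -- `u ⊗ b` and `u' ⊗ x` are fixed, `u' ⊗ b` is not
      have f1 : ∀ w, tForm σ g₁ f₂ w (tp u a) = 0 →
          (g : Matrix (Fin 2 × Fin 3) (Fin 2 × Fin 3) F) *ᵥ w = w := fun w hw => by
        rw [hgx, hw, mul_zero, zero_smul, add_zero]
      have a1 := f1 (tp u b) (by rw [tForm_tp H₂.s H₁.s, hu.2, zero_mul])
      have a2 := f1 (tp u x) (by rw [tForm_tp H₂.s H₁.s, hu.2, zero_mul])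
      have a3 := f1 (tp u' x) (by rw [tForm_tp H₂.s H₁.s, show f₂ x a = 0 from hx 0, mul_zero])
      have a4 := hgx (tp u' b)
      rw [hαβ, kr_tp, tForm_tp H₂.s H₁.s, hu'u, hba, mul_one, mul_one] at a4
      rw [hαβ, kr_tp] at a1 a2 a3
      obtain ⟨i, hi⟩ := Function.ne_iff.1 (fun h0 => hu.1 (act_injective α (h0.trans (Matrix.mulVec_zero _).symm)) :
        (α : Matrix (Fin 2) (Fin 2) F) *ᵥ u ≠ 0)
      set s := u i / ((α : Matrix (Fin 2) (Fin 2) F) *ᵥ u) i with hs'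
      have hb' : (β : Matrix (Fin 3) (Fin 3) F) *ᵥ b = s • b := funext fun j => by
        have h := congrFun a1 (i, j)
        simp only [tp] at h
        rw [Pi.smul_apply, smul_eq_mul, hs', div_mul_eq_mul_div, eq_div_iff hi]
        linear_combination h
      have hx' : (β : Matrix (Fin 3) (Fin 3) F) *ᵥ x = s • x := funext fun j => by
        have h := congrFun a2 (i, j)
        simp only [tp] at h
        rw [Pi.smul_apply, smul_eq_mul, hs', div_mul_eq_mul_div, eq_div_iff hi]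
        linear_combination h
      rw [hx', tp_smul_right, ← tp_smul_left] at a3
      rw [hb', tp_smul_right, ← tp_smul_left,
        show s • ((α : Matrix (Fin 2) (Fin 2) F) *ᵥ u') = u' from J_injective hx0 a3, left_eq_add,
        smul_eq_zero] at a4
      rcases a4 with e0 | e0
      · exact hz0 e0
      · exact hu.1 (J_injective ha.1 (by rw [J_apply, e0, map_zero]))
  · rw [hcomap] at h1' h2' ⊢
    rcases centre_or_transvections3 H₁ H₂ h1' (by norm_num) (fun _ => hs) with K₁ | hEl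
    · exact Or.inl (le_kron3 H₁ H₂ h1' h2' K₁ hs hν)
    right
    have hTV : ∀ (u : Fin 2 → F) (a : Fin 3 → F), Iso g₁ u → Iso f₂ a → TV σ g₁ f₂ M (tp u a) := by
      intro u a hu ha z hz
      obtain ⟨g, hg, hgN⟩ := hEl u a z hu ha hz
      refine ⟨g, hg, fun x => ?_⟩
      rw [← Matrix.toLin'_apply, hgN, LinearMap.add_apply, Module.End.one_apply, SOp_apply, LinearMap.smul_apply,
        rkS_apply, smul_smul, tp_smul_left, tForm_right H₂.s H₁.s]
    have hsu : Cfsg.GU 6 F q ⊓ Cfsg.Geo.specialLinear (Fin 6) F ≤ M.map (phi e P).toMonoidHom := by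
      refine su_le hF (by norm_num) fun v s hv hs' => ?_
      obtain ⟨V, rfl⟩ := psi_surjective e P v
      rw [← hP', hTg] at hv
      obtain ⟨g, hg, hgx⟩ := tv_all3 H₁ H₂ h2' hTV hs hv s (by
        rw [hσ]; exact eq_neg_of_add_eq_zero_right hs')
      refine ⟨phi e P g, ⟨g, hg, rfl⟩, fun x => ?_⟩
      obtain ⟨u, rfl⟩ := psi_surjective e P x
      rw [phi_psi, hgx, map_add, map_smul, ← hP', hTg]
    rw [← hcomap]
    refine (Subgroup.comap_mono hsu).trans (le_of_eq ?_)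
    exact Subgroup.comap_map_eq_self_of_injective (phi e P).injective M

/-- S5801 (8): `U_2 ⊗ U_3` in `SU_6(q)`. -/
theorem tensor23_su6 {F : Type*} [Field F] [Fintype F] (q : ℕ) (hF : Fintype.card F = q ^ 2) :
    3 ≤ q → ∀ (e : Fin 6 ≃ Fin 2 × Fin 3) (P : Matrix.GeneralLinearGroup (Fin 6) F) (f₁ : (Fin 2 → F) → (Fin 2 → F) → F) (f₂ : (Fin 3 → F) → (Fin 3 → F) → F), Cfsg.Geo.IsUnitaryFormPow q f₁ → Cfsg.Geo.IsUnitaryFormPow q f₂ → Cfsg.Geo.IsTensorFormStructure (fun x : F => x ^ q) (Cfsg.hermForm 6 F q) f₁ f₂ e P → Cfsg.Geo.IsMaximalIn (Cfsg.GU 6 F q ⊓ Cfsg.Geo.specialLinear (Fin 6) F) (Cfsg.Geo.tensorProductSubgroup 2 3 e P ⊓ (Cfsg.GU 6 F q ⊓ Cfsg.Geo.specialLinear (Fin 6) F)) :=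
  fun hq e P f₁ f₂ h₁ h₂ hT => maximal23 q hF hq e P f₁ f₂ h₁ h₂ hT

end Cfsg.Agent.TensorUnitLow74
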