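import Cfsg.Agent.Lib.TensorMaxUnitCentre
import Cfsg.Agent.Lib.TensorMaxUnitGen

/-!
The tensor product of hermitian spaces of dimensions two and three: bases, isotropic vectors, the action of
`1 ⊗ SU₃` on isotropic points and the dichotomy between scalar central operators and transvections.
-/

set_option autoImplicit false
set_option linter.unusedSectionVars false

namespace Cfsg.Agent.TensorUnitLow74

open scoped Matrix MatrixGroups Kronecker
open Cfsg.Agent.TensorMax Cfsg.Agent.TransvectionMax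

variable {F : Type*} [Field F] [Fintype F] {σ : F →+* F} {k : ℕ}
  {f₁ : (Fin k → F) → (Fin k → F) → F} {f₂ : (Fin 3 → F) → (Fin 3 → F) → F}

section Space

variable (H₂ : UForm σ f₂)
include H₂

/-- A vector orthogonal to three independent vectors vanishes. -/
theorem eq_zero_of_three {a b c : Fin 3 → F} (hli : LinearIndependent F ![a, b, c]) {x : Fin 3 → F}
    (ha : f₂ x a = 0) (hb : f₂ x b = 0) (hc : f₂ x c = 0) : x = 0 := by
  refine H₂.s.nd x fun v => ?_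
  have htop := hli.span_eq_top_of_card_eq_finrank (by simp)
  have hv : v ∈ Submodule.span F (Set.range ![a, b, c]) := htop ▸ Submodule.mem_top
  obtain ⟨t, rfl⟩ := (Submodule.mem_span_range_iff_exists_fun F).1 hv
  simp [Fin.sum_univ_three, H₂.s.add_right, H₂.s.smul_right, ha, hb, hc]

/-- An orthogonal anisotropic pair has an anisotropic common perpendicular, unique up to scale. -/
theorem exists_third_perp {d d' : Fin 3 → F} (hd : f₂ d d ≠ 0) (hd' : f₂ d' d' ≠ 0) (hdd : f₂ d d' = 0) :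
    ∃ n, f₂ n d = 0 ∧ f₂ n d' = 0 ∧ f₂ n n ≠ 0 ∧ ∀ x, f₂ x d = 0 → f₂ x d' = 0 → ∃ t : F, x = t • n := by
  obtain ⟨n, hn0, hn⟩ := exists_perp H₂.s (show 2 < 3 by norm_num) ![d, d']
  have h1 : f₂ n d = 0 := hn 0
  have h2 : f₂ n d' = 0 := hn 1
  have hli : LinearIndependent F ![d, d', n] := by
    rw [Fintype.linearIndependent_iff]
    intro g hg
    simp only [Fin.sum_univ_three, Matrix.cons_val_zero, Matrix.cons_val_one, Matrix.cons_val] at hg
    have e1 := congrArg (fun v => f₂ v d) hg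
    have e2 := congrArg (fun v => f₂ v d') hg
    simp [H₂.s.add_left, H₂.s.smul_left, H₂.s.zero_left, h1, H₂.s.symm_zero hdd, hd] at e1
    simp [H₂.s.add_left, H₂.s.smul_left, H₂.s.zero_left, h2, hdd, hd'] at e2
    rw [e1, e2, zero_smul, zero_smul, zero_add, zero_add] at hg
    intro i
    fin_cases i
    · exact e1
    · exact e2
    · exact (smul_eq_zero.1 hg).resolve_right hn0
  have hnn : f₂ n n ≠ 0 := fun e => hn0 (eq_zero_of_three H₂ hli h1 h2 e)
  refine ⟨n, h1, h2, hnn, fun x hx hx' => ⟨f₂ x n / f₂ n n, sub_eq_zero.1 (eq_zero_of_three H₂ hli ?_ ?_ ?_)⟩⟩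
  · rw [H₂.s.sub_left, H₂.s.smul_left, hx, h1, mul_zero, sub_zero]
  · rw [H₂.s.sub_left, H₂.s.smul_left, hx', h2, mul_zero, sub_zero]
  · rw [H₂.s.sub_left, H₂.s.smul_left, div_mul_cancel₀ _ hnn, sub_self]

/-- An isotropic vector orthogonal to none of the vectors of an orthogonal frame. -/
theorem exists_off (hs : ∃ s : F, σ s = s ∧ s ≠ 0 ∧ s ≠ 1) {d d' : Fin 3 → F} (hd : f₂ d d ≠ 0)
    (hd' : f₂ d' d' ≠ 0) (hdd : f₂ d d' = 0) :
    ∃ c n, Iso f₂ c ∧ f₂ c d ≠ 0 ∧ f₂ c d' ≠ 0 ∧ f₂ c n ≠ 0 ∧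
      ∀ x, f₂ x d = 0 → f₂ x d' = 0 → ∃ t : F, x = t • n := by
  obtain ⟨n, h1, h2, hnn, huniq⟩ := exists_third_perp H₂ hd hd' hdd
  obtain ⟨s, hσs, hs0, hs1⟩ := hs
  obtain ⟨x, hx⟩ := H₂.exists_norm (a := 1 / f₂ d d) (by rw [map_div₀, map_one, H₂.self_fixed])
  obtain ⟨y, hy⟩ := H₂.exists_norm (a := -s / f₂ d' d') (by rw [map_div₀, map_neg, hσs, H₂.self_fixed])
  obtain ⟨w, hw⟩ := H₂.exists_norm (a := (s - 1) / f₂ n n) (by rw [map_div₀, map_sub, hσs, map_one, H₂.self_fixed])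
  have hx0 : x ≠ 0 := fun e => one_div_ne_zero hd (by rw [← hx, e, zero_mul])
  have hy0 : y ≠ 0 := fun e => div_ne_zero (neg_ne_zero.2 hs0) hd' (by rw [← hy, e, zero_mul])
  have hw0 : w ≠ 0 := fun e => div_ne_zero (sub_ne_zero.2 hs1) hnn (by rw [← hw, e, zero_mul])
  set c := x • d + y • d' + w • n with hc
  have z1 := H₂.s.symm_zero h1
  have z2 := H₂.s.symm_zero h2
  have z3 := H₂.s.symm_zero hdd
  have c1 : f₂ c d = x * f₂ d d := by
    simp only [hc, H₂.s.add_left, H₂.s.smul_left, z3, h1, mul_zero, add_zero]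
  have c2 : f₂ c d' = y * f₂ d' d' := by
    simp only [hc, H₂.s.add_left, H₂.s.smul_left, hdd, h2, mul_zero, add_zero, zero_add]
  have c3 : f₂ c n = w * f₂ n n := by
    simp only [hc, H₂.s.add_left, H₂.s.smul_left, z1, z2, mul_zero, add_zero, zero_add]
  refine ⟨c, n, ⟨fun e => mul_ne_zero hx0 hd (by rw [← c1, e, H₂.s.zero_left]), ?_⟩,
    by rw [c1]; exact mul_ne_zero hx0 hd, by rw [c2]; exact mul_ne_zero hy0 hd',
    by rw [c3]; exact mul_ne_zero hw0 hnn, huniq⟩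
  calc f₂ c c = σ x * f₂ c d + σ y * f₂ c d' + σ w * f₂ c n := by
        rw [show f₂ c c = f₂ c (x • d + y • d' + w • n) by rw [← hc]]
        simp only [H₂.s.add_right, H₂.s.smul_right]
    _ = x * σ x * f₂ d d + y * σ y * f₂ d' d' + w * σ w * f₂ n n := by rw [c1, c2, c3]; ring
    _ = 0 := by
        rw [hx, hy, hw, div_mul_cancel₀ _ hd, div_mul_cancel₀ _ hd', div_mul_cancel₀ _ hnn]
        ring

/-- A hyperbolic pair with its perpendicular. -/
theorem exists_frame {a : Fin 3 → F} (ha : Iso f₂ a) :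
    ∃ y e, Iso f₂ e ∧ f₂ a e = 1 ∧ f₂ e a = 1 ∧ f₂ y a = 0 ∧ f₂ y e = 0 ∧ f₂ y y ≠ 0 ∧
      ∀ x, x = f₂ x e • a + (f₂ x y / f₂ y y) • y + f₂ x a • e := by
  obtain ⟨e, he, hae, hea⟩ := H₂.exists_partner ha
  obtain ⟨y, hy0, hy⟩ := exists_perp H₂.s (show 2 < 3 by norm_num) ![a, e]
  have h1 : f₂ y a = 0 := hy 0
  have h2 : f₂ y e = 0 := hy 1
  have z1 := H₂.s.symm_zero h1
  have z2 := H₂.s.symm_zero h2
  have hli : LinearIndependent F ![a, y, e] := by
    rw [Fintype.linearIndependent_iff]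
    intro g hg
    simp only [Fin.sum_univ_three, Matrix.cons_val_zero, Matrix.cons_val_one, Matrix.cons_val] at hg
    have e1 := congrArg (fun v => f₂ v e) hg
    have e2 := congrArg (fun v => f₂ v a) hg
    simp [H₂.s.add_left, H₂.s.smul_left, H₂.s.zero_left, hae, h2, he.2] at e1
    simp [H₂.s.add_left, H₂.s.smul_left, H₂.s.zero_left, hea, h1, ha.2] at e2
    rw [e1, e2, zero_smul, zero_smul, zero_add, add_zero] at hg
    intro i
    fin_cases i
    · exact e1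
    · exact (smul_eq_zero.1 hg).resolve_right hy0
    · exact e2
  have hyy : f₂ y y ≠ 0 := fun e0 => hy0 (eq_zero_of_three H₂ hli h1 e0 h2)
  refine ⟨y, e, he, hae, hea, h1, h2, hyy, fun x => sub_eq_zero.1 (eq_zero_of_three H₂ hli ?_ ?_ ?_)⟩
  · simp [H₂.s.sub_left, H₂.s.add_left, H₂.s.smul_left, ha.2, h1, hea]
  · simp [H₂.s.sub_left, H₂.s.add_left, H₂.s.smul_left, z1, z2, div_mul_cancel₀ _ hyy]
  · simp [H₂.s.sub_left, H₂.s.add_left, H₂.s.smul_left, hae, h2, he.2]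

end Space

variable (H₁ : UForm σ f₁) (H₂ : UForm σ f₂) {M : Subgroup (GL (Fin k × Fin 3) F)}
  (hH : Cfsg.Geo.kroneckerSubgroup k 3 F ⊓ SUT σ f₁ f₂ ≤ M)
include H₁ H₂ hH

/-- An element of `1 ⊗ SU₃` in `M` mapping `v` to `w`. -/
def Moves (M : Subgroup (GL (Fin k × Fin 3) F)) (f₂ : (Fin 3 → F) → (Fin 3 → F) → F) (v w : Fin 3 → F) : Prop :=
  ∃ β : GL (Fin 3) F, kr (1 : GL (Fin k) F) β ∈ M ∧
    (∀ x y, f₂ ((β : Matrix (Fin 3) (Fin 3) F) *ᵥ x) ((β : Matrix (Fin 3) (Fin 3) F) *ᵥ y) = f₂ x y) ∧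
    (β : Matrix (Fin 3) (Fin 3) F) *ᵥ v = w

theorem moves_trans {u v w : Fin 3 → F} (h : Moves M f₂ u v) (h' : Moves M f₂ v w) : Moves M f₂ u w := by
  obtain ⟨β, hβM, hβ, hβu⟩ := h
  obtain ⟨β', hβ'M, hβ', hβ'v⟩ := h'
  refine ⟨β' * β, ?_, fun x y => by rw [mul_act, mul_act, hβ', hβ], by rw [mul_act, hβu, hβ'v]⟩
  rw [← mul_one (1 : GL (Fin k) F), ← kr_mul]
  exact M.mul_mem hβ'M hβM

/-- One transvection maps `v` to `w` when `f (v, w)` is skew. -/
theorem moves_skew {v w : Fin 3 → F} (hv : f₂ v v = 0) (hw : f₂ w w = 0) (h0 : f₂ v w ≠ 0)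
    (hs : σ (f₂ v w) = -f₂ v w) : Moves M f₂ v w := by
  have hwv : f₂ w v = -f₂ v w := by rw [← H₂.conj_f, hs]
  have hb : f₂ (w - v) (w - v) = 0 := by
    rw [H₂.s.sub_left, H₂.s.sub_right, H₂.s.sub_right, hv, hw, hwv]
    ring
  have hz : σ (f₂ v w)⁻¹ = -(f₂ v w)⁻¹ := by rw [map_inv₀, hs, inv_neg]
  refine ⟨_, right_mem H₁ H₂ hH hb hz, H₂.ft_preserves hb hz, ?_⟩
  rw [H₂.ft_apply hb, H₂.s.sub_right, hv, sub_zero, inv_mul_cancel₀ h0, one_smul, add_sub_cancel]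

/-- The torus: an isotropic vector is mapped to each of its multiples. -/
theorem moves_smul {c : Fin 3 → F} (hc : Iso f₂ c) {T : F} (hT : T ≠ 0) : Moves M f₂ c (T • c) := by
  obtain ⟨y, e, he, hce, hec, hyc, hye, hyy, -⟩ := exists_frame H₂ hc
  obtain ⟨z, hz0, hz⟩ := H₂.exists_skew
  obtain ⟨ρ, hρ⟩ := H₂.exists_norm (a := -(z * T + σ (z * T)) / f₂ y y)
    (by rw [map_div₀, map_neg, map_add, H₂.s.invol, H₂.self_fixed, add_comm])
  set w := c + (z * T) • e + ρ • y with hw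
  have hcy := H₂.s.symm_zero hyc
  have hey := H₂.s.symm_zero hye
  have hwe : f₂ (z • e) w = z := by
    simp only [hw, H₂.s.add_right, H₂.s.smul_left, H₂.s.smul_right, hec, he.2, hey, mul_one, mul_zero, add_zero]
  have hwc : f₂ w (T • c) = σ T * (z * T) := by
    simp only [hw, H₂.s.add_left, H₂.s.smul_left, H₂.s.smul_right, hc.2, hec, hyc, mul_zero, add_zero, mul_one,
      zero_add]
    ring
  have hee : f₂ (z • e) (z • e) = 0 := by rw [H₂.s.smul_left, H₂.s.smul_right, he.2, mul_zero, mul_zero]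
  have hww : f₂ w w = 0 := by
    simp only [hw, H₂.s.add_left, H₂.s.add_right, H₂.s.smul_left, H₂.s.smul_right, hc.2, he.2, hce, hec, hyc, hye,
      hcy, hey, mul_zero, add_zero, mul_one, zero_add]
    rw [← mul_assoc, hρ, div_mul_cancel₀ _ hyy]
    ring
  refine moves_trans H₁ H₂ hH (moves_trans H₁ H₂ hH (v := z • e) (moves_skew H₁ H₂ hH hc.2 hee ?_ ?_)
    (moves_skew H₁ H₂ hH hee hww (by rw [hwe]; exact hz0) (by rw [hwe]; exact hz))) (moves_skew H₁ H₂ hH hww ?_ ?_ ?_)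
  · rw [H₂.s.smul_right, hce, mul_one, hz]; exact neg_ne_zero.2 hz0
  · rw [H₂.s.smul_right, hce, mul_one, H₂.s.invol, hz, neg_neg]
  · rw [H₂.s.smul_left, H₂.s.smul_right, hc.2, mul_zero, mul_zero]
  · rw [hwc]; exact mul_ne_zero ((map_ne_zero σ).2 hT) (mul_ne_zero hz0 hT)
  · rw [hwc, map_mul, map_mul, H₂.s.invol, hz]; ring

/-- `1 ⊗ SU₃` is transitive on isotropic vectors. -/
theorem move3 {a c : Fin 3 → F} (ha : Iso f₂ a) (hc : Iso f₂ c) : Moves M f₂ a c := by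
  obtain ⟨w, hw, hwa, hwc⟩ := H₂.exists_common ha hc
  obtain ⟨z, hz0, hz⟩ := H₂.exists_skew
  have haw : f₂ a w ≠ 0 := fun e => hwa (H₂.s.symm_zero e)
  have hσp : σ (z / f₂ a w) ≠ 0 := (map_ne_zero σ).2 (div_ne_zero hz0 haw)
  set w' := σ (z / f₂ a w) • w with hw'
  have h1 : f₂ a w' = z := by rw [hw', H₂.s.smul_right, H₂.s.invol, div_mul_cancel₀ _ haw]
  have hw'c : f₂ w' c ≠ 0 := by rw [hw', H₂.s.smul_left]; exact mul_ne_zero hσp hwc
  have hiw : f₂ w' w' = 0 := by rw [hw', H₂.s.smul_left, H₂.s.smul_right, hw.2, mul_zero, mul_zero]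
  set q := σ (z / f₂ w' c) with hq
  have hq0 : q ≠ 0 := (map_ne_zero σ).2 (div_ne_zero hz0 hw'c)
  have h2 : f₂ w' (q • c) = z := by rw [H₂.s.smul_right, hq, H₂.s.invol, div_mul_cancel₀ _ hw'c]
  have hic : f₂ (q • c) (q • c) = 0 := by rw [H₂.s.smul_left, H₂.s.smul_right, hc.2, mul_zero, mul_zero]
  have m1 := moves_skew H₁ H₂ hH ha.2 hiw (by rw [h1]; exact hz0) (by rw [h1]; exact hz)
  have m2 := moves_skew H₁ H₂ hH hiw hic (by rw [h2]; exact hz0) (by rw [h2]; exact hz)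
  have m3 := moves_smul H₁ H₂ hH (c := q • c) ⟨smul_ne_zero hq0 hc.1, hic⟩ (inv_ne_zero hq0)
  rw [inv_smul_smul₀ hq0] at m3
  exact moves_trans H₁ H₂ hH (moves_trans H₁ H₂ hH m1 m2) m3

theorem central_closed3 : SkewClosed σ f₁ (Central M f₂) where
  add X Y hX hY a ha := by
    have := (hX a ha).add (hY a ha) (by rw [SOp_mul H₂.s, ha.2, zero_smul])
    rwa [← SOp_add H₂.s] at this
  smul ν hν X hX a ha := by
    by_cases h0 : ν = 0
    · rw [h0, zero_smul, SOp_zero H₂.s]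
      exact El.zero M
    obtain ⟨t, ht⟩ := H₁.exists_norm hν
    have := hX (t • a) ⟨smul_ne_zero (fun e => h0 (by rw [← ht, e, zero_mul])) ha.1,
      by rw [H₂.s.smul_left, H₂.s.smul_right, ha.2, mul_zero, mul_zero]⟩
    rwa [SOp_smul_left H₂.s, SOp_smul_right H₂.s, smul_smul, ht, ← SOp_smul H₂.s] at this
  conj α hα hαd X hX a ha := by
    have := El.conj (hX a ha) (left_mem H₁ H₂ hH hα hαd)
    rwa [Ctx.kr_left_SOp H₂.s] at this

theorem central_of3 {a : Fin 3 → F} (ha : Iso f₂ a) {Z : Module.End F (Fin k → F)}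
    (hZ : El M (SOp f₂ a Z a)) : Central M f₂ Z := by
  intro c hc
  obtain ⟨β, hβM, hβ, hβa⟩ := move3 H₁ H₂ hH ha hc
  have h := El.conj hZ hβM
  convert h using 1
  refine LinearMap.ext fun u => ?_
  simp only [Module.End.mul_apply, SOp_apply, Matrix.toLin'_apply, kr_tp, Units.val_one, Matrix.one_mulVec, kr_inv,
    inv_one, hβa]
  congr 2
  rw [tp_decomp u]
  simp only [Matrix.mulVec_sum, map_sum, kr_tp, Units.val_one, Matrix.one_mulVec, Pf_tp H₂.s]
  refine Finset.sum_congr rfl fun i _ => ?_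
  conv_lhs => rw [← act_inv_act β (fun j => u (i, j)), ← hβa, hβ]

/-- Either central operators are scalar or all transvections at isotropic pure tensors lie in `M`. -/
theorem centre_or_transvections3 (hk : 2 ≤ k) (hq : k ≤ 2 → ∃ s : F, σ s = s ∧ s ≠ 0 ∧ s ≠ 1) :
    Ctx0.CentreScalar M f₁ f₂ (1 : F) ∨
      ∀ (u : Fin k → F) (a : Fin 3 → F) (z : F), Iso f₁ u → Iso f₂ a → σ z = -z →
        El M (SOp f₂ a (z • rkS H₁.s u u) a) := by
  by_cases hcs : Ctx0.CentreScalar M f₁ f₂ (1 : F)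
  · exact Or.inl hcs
  right
  simp only [Ctx0.CentreScalar, not_forall, not_exists] at hcs
  obtain ⟨a₀, ha₀, Z, hadj, hEl, hns⟩ := hcs
  have hP := central_closed3 H₁ H₂ hH
  have hadj' : IsAdj f₁ Z (-Z) := by
    intro v w
    rw [hadj v w, LinearMap.smul_apply, LinearMap.neg_apply, neg_one_smul]
  obtain ⟨u₀, z₀, hu₀, hz₀, hz₀', h0⟩ := H₁.exists_transv hP hk hq (central_of3 H₁ H₂ hH ha₀ hEl) hadj' hns
  have hscale : ∀ (u : Fin k → F) (z : F), σ z = -z → Central M f₂ (z₀ • rkS H₁.s u u) →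
      Central M f₂ (z • rkS H₁.s u u) := by
    intro u z hz hu
    have := hP.smul (z / z₀) (by rw [map_div₀, hz, hz₀', neg_div_neg_eq]) _ hu
    rwa [smul_smul, div_mul_cancel₀ _ hz₀] at this
  have hmv : ∀ v w, Iso f₁ v → Iso f₁ w → f₁ v w ≠ 0 → Central M f₂ (z₀ • rkS H₁.s v v) →
      Central M f₂ (z₀ • rkS H₁.s w w) := by
    intro v w hv hw hvw hc
    obtain ⟨b, z, t, hb, hz, ht, htv⟩ := H₁.move_scale hv.2 hw.2 hvw
    have h1 := hP.conj _ (H₁.ft_preserves hb hz) (congrArg Units.val (tv_det b (row f₁ (σ z • b)))) _ hc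
    rw [mul_smul_comm, smul_mul_assoc, H₁.rk_conj (H₁.ft_preserves hb hz), htv, H₁.rk_smul_left,
      H₁.rk_smul_right] at h1
    have hν : σ ((t * σ t)⁻¹) = (t * σ t)⁻¹ := by rw [map_inv₀, map_mul, H₁.s.invol, mul_comm]
    have := hP.smul _ hν _ h1
    have hσt : σ t ≠ 0 := (map_ne_zero σ).2 ht
    simp only [smul_smul] at this
    convert this using 3
    field_simp
  intro u a z hu ha hz
  obtain ⟨w, hw, hwu0, hwu⟩ := H₁.exists_common hu₀ hu
  exact hscale u z hz (hmv w u hw hu hwu (hmv u₀ w hu₀ hw (fun e => hwu0 (H₁.s.symm_zero e)) h0)) a ha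

end Cfsg.Agent.TensorUnitLow74
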