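import Cfsg.Agent.Lib.TensorUnitLow74ThreeKron

/-!
The tensor product of hermitian spaces of dimensions two and three: the descent through the pseudo-reflections of
the second factor.
-/

set_option autoImplicit false
set_option linter.unusedSectionVars false

namespace Cfsg.Agent.TensorUnitLow74

open scoped Matrix MatrixGroups Kronecker
open Cfsg.Agent.TensorMax Cfsg.Agent.TransvectionMax

variable {F : Type*} [Field F] [Fintype F] {σ : F →+* F}
  {f₁ : (Fin 2 → F) → (Fin 2 → F) → F} {f₂ : (Fin 3 → F) → (Fin 3 → F) → F}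
  (H₁ : UForm σ f₁) (H₂ : UForm σ f₂) {M : Subgroup (GL (Fin 2 × Fin 3) F)}
  (hH : Cfsg.Geo.kroneckerSubgroup 2 3 F ⊓ SUT σ f₁ f₂ ≤ M) (hM : M ≤ SUT σ f₁ f₂)
  (K₁ : Ctx0.CentreScalar M f₁ f₂ (1 : F))
include H₁ H₂ hH hM K₁

theorem back3 {g : GL (Fin 2 × Fin 3) F} (hg : g ∈ M) {b : Fin 3 → F} (hb : Iso f₂ b) {z : F} (hz0 : z ≠ 0)
    (hy : g * kr (1 : GL (Fin 2) F) (ft f₂ b (σ z • b)) * g⁻¹ ∈ Cfsg.Geo.kroneckerSubgroup 2 3 F) :
    g ∈ Cfsg.Geo.kroneckerSubgroup 2 3 F := by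
  have hψ : row f₂ (σ z • b) ≠ 0 := fun e => hb.1 (H₂.s.nd b fun y => H₂.s.symm_zero (by
    have : f₂ y (σ z • b) = 0 := by rw [← H₂.s.row_dot, e, zero_dotProduct]
    rw [H₂.s.smul_right, H₂.s.invol] at this
    exact (mul_eq_zero.1 this).resolve_left hz0))
  obtain ⟨c, hc⟩ := mapsRuler_of_conj_mem (k := 2) (l := 3) (by norm_num) hb.1 hψ
    (by rw [H₂.s.row_dot, H₂.s.smul_right, hb.2, mul_zero]) g hy
  exact mem_kron3 H₁ H₂ hH hM K₁ (by norm_num) hb hg hc

/-- An element fixing the line of `v ⊗ c`, both isotropic, lies in the tensor stabiliser. -/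
theorem of_fix {Y : GL (Fin 2 × Fin 3) F} (hY : Y ∈ M) {v : Fin 2 → F} (hv : Iso f₁ v) {c : Fin 3 → F}
    (hc : Iso f₂ c) {μ : F} (hμ : μ ≠ 0)
    (hfix : (Y : Matrix (Fin 2 × Fin 3) (Fin 2 × Fin 3) F) *ᵥ tp v c = μ • tp v c) :
    Y ∈ Cfsg.Geo.kroneckerSubgroup 2 3 F := by
  obtain ⟨z, hz0, hz⟩ := H₂.exists_skew
  -- contractions of the image are multiples of `v`
  have hline : ∀ u, ∃ t : F, Pf f₂ 2 c ((Y : Matrix (Fin 2 × Fin 3) (Fin 2 × Fin 3) F) *ᵥ tp u c) = t • v := by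
    intro u
    set p := Pf f₂ 2 c ((Y : Matrix (Fin 2 × Fin 3) (Fin 2 × Fin 3) F) *ᵥ tp u c) with hp
    have h0 : f₁ p v = 0 := by
      have h := (hM hY).2 (tp u c) (tp v c)
      rw [hfix, tForm_smul_right H₁ H₂, tForm_tp H₂.s H₁.s, hc.2, mul_zero, tForm_right H₂.s H₁.s, ← hp] at h
      exact (mul_eq_zero.1 h).resolve_left ((map_ne_zero σ).2 hμ)
    obtain ⟨r, hr, hvr, hrv⟩ := H₁.exists_partner hv
    refine ⟨f₁ p r, sub_eq_zero.1 (H₁.s.nd _ fun x => ?_)⟩
    have hli : LinearIndependent F ![v, r] := by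
      rw [LinearIndependent.pair_iff]
      intro s t hst
      have e1 := congrArg (fun w => f₁ w r) hst
      have e2 := congrArg (fun w => f₁ w v) hst
      simp [H₁.s.add_left, H₁.s.smul_left, H₁.s.zero_left, hvr, hr.2] at e1
      simp [H₁.s.add_left, H₁.s.smul_left, H₁.s.zero_left, hrv, hv.2] at e2
      exact ⟨e1, e2⟩
    have htop := hli.span_eq_top_of_card_eq_finrank (by simp)
    have hx : x ∈ Submodule.span F (Set.range ![v, r]) := htop ▸ Submodule.mem_top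
    obtain ⟨t, rfl⟩ := (Submodule.mem_span_range_iff_exists_fun F).1 hx
    simp [Fin.sum_univ_two, H₁.s.add_right, H₁.s.smul_right, H₁.s.sub_left, H₁.s.smul_left, h0, hv.2, hvr]
  set τ := kr (1 : GL (Fin 2) F) (ft f₂ c (σ z • c)) with hτ
  have hτM : τ ∈ M := right_mem H₁ H₂ hH hc.2 hz
  have hτu : ∀ u, (τ : Matrix (Fin 2 × Fin 3) (Fin 2 × Fin 3) F) *ᵥ u = u + z • tp (Pf f₂ 2 c u) c := by
    intro u
    conv_lhs => rw [tp_decomp u, Matrix.mulVec_sum]
    conv_rhs => rw [tp_decomp u, map_sum]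
    rw [show tp (∑ i, Pf f₂ 2 c (tp (Pi.single i (1 : F)) fun j => u (i, j))) c =
      ∑ i, tp (Pf f₂ 2 c (tp (Pi.single i (1 : F)) fun j => u (i, j))) c from map_sum (J c) _ _,
      Finset.smul_sum, ← Finset.sum_add_distrib]
    refine Finset.sum_congr rfl fun i _ => ?_
    rw [hτ, kr_tp, Units.val_one, Matrix.one_mulVec, H₂.ft_apply hc.2, Pf_tp H₂.s, tp_add_right, tp_smul_right,
      tp_smul_left, smul_smul]
  set X := Y⁻¹ * τ * Y with hX
  have hXM : X ∈ M := M.mul_mem (M.mul_mem (M.inv_mem hY) hτM) hY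
  -- the block of `X` vanishes
  have hblock : ∀ u, Pf f₂ 2 c ((X : Matrix (Fin 2 × Fin 3) (Fin 2 × Fin 3) F) *ᵥ tp u c) = 0 := fun u =>
    H₁.s.nd _ fun x => by
      obtain ⟨t, ht⟩ := hline u
      obtain ⟨t', ht'⟩ := hline x
      rw [← tForm_right H₂.s H₁.s, hX, mul_act, mul_act, ← (hM hY).2, act_inv_act, hτu, tForm_add_left, (hM hY).2,
        tForm_tp H₂.s H₁.s, hc.2, mul_zero, zero_add, tForm_smul_left H₁ H₂, tForm_left H₂.s H₁.s,
        tForm_right H₂.s H₁.s, one_mul, one_mul, ht, ht', H₁.s.smul_left, H₁.s.smul_right, hv.2]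
      simp
  set Zc := X * τ * X⁻¹ with hZc
  have hZM : Zc ∈ M := M.mul_mem (M.mul_mem hXM hτM) (M.inv_mem hXM)
  have hblock' : ∀ u, Pf f₂ 2 c (((X⁻¹ : GL (Fin 2 × Fin 3) F) : Matrix (Fin 2 × Fin 3) (Fin 2 × Fin 3) F) *ᵥ
      tp u c) = 0 := fun u => H₁.s.nd _ fun x => by
    rw [← tForm_right H₂.s H₁.s, ← (hM hXM).2, act_inv_act, tForm_left H₂.s H₁.s, tForm_right H₂.s H₁.s, hblock]
    simp [H₁.s.zero_left]
  have hZfix : MapsRuler Zc c c := fun u => ⟨u, by
    rw [hZc, mul_act, mul_act, hτu, hblock', tp_zero_left, smul_zero, add_zero, act_inv_act]⟩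
  have hXk := back3 H₁ H₂ hH hM K₁ hXM hc hz0
    (mem_kron3 H₁ H₂ hH hM K₁ (by norm_num) hc hZM hZfix)
  have := back3 H₁ H₂ hH hM K₁ (M.inv_mem hY) hc hz0 (by rw [inv_inv]; exact hXk)
  exact inv_inv Y ▸ Subgroup.inv_mem _ this

/-- The descent. -/
theorem le_kron3 (hs : ∃ s : F, σ s = s ∧ s ≠ 0 ∧ s ≠ 1) (hν : ∃ ν : F, ν * σ ν = 1 ∧ ν ^ 3 ≠ 1) :
    M ≤ Cfsg.Geo.kroneckerSubgroup 2 3 F := by
  classical
  intro g hg
  by_contra hgk
  obtain ⟨ν, hνn, hν3⟩ := hν
  have hν0 : ν ≠ 0 := left_ne_zero_of_mul_eq_one hνn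
  obtain ⟨v, hv, -⟩ := H₁.exists_iso_perp (m := 0) (by norm_num) Fin.elim0
  set G := Matrix.toLin' (g : Matrix (Fin 2 × Fin 3) (Fin 2 × Fin 3) F) with hG
  let OnD : (Fin 3 → F) → Prop := fun d => f₂ d d ≠ 0 ∧ ∃ b, f₂ b b ≠ 0 ∧
    ∃ A : Module.End F (Fin 2 → F), Function.Surjective A ∧
      ∀ u, (g : Matrix (Fin 2 × Fin 3) (Fin 2 × Fin 3) F) *ᵥ tp u b = tp (A u) d
  -- for every isotropic point some point of `D` is orthogonal to it
  have hex : ∀ c, Iso f₂ c → ∃ d, OnD d ∧ f₂ c d = 0 := by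
    intro c hc
    set R := ((g⁻¹ : GL (Fin 2 × Fin 3) F) : Matrix (Fin 2 × Fin 3) (Fin 2 × Fin 3) F) *ᵥ tp v c with hR
    obtain ⟨b, hb0, hb⟩ := exists_perp H₂.s (show 2 < 3 by norm_num) (fun i : Fin 2 => fun j => R (i, j))
    have hPR : Pf f₂ 2 b R = 0 := funext fun i => by
      rw [Pf_apply H₂.s, Pi.zero_apply]
      exact H₂.s.symm_zero (hb i)
    by_cases hbb : f₂ b b = 0
    · exfalso
      obtain ⟨z, hz0, hz⟩ := H₂.exists_skew
      set τ := kr (1 : GL (Fin 2) F) (ft f₂ b (σ z • b)) with hτ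
      have hτR : (τ : Matrix (Fin 2 × Fin 3) (Fin 2 × Fin 3) F) *ᵥ R = R := by
        conv_lhs => rw [tp_decomp R, Matrix.mulVec_sum]
        conv_rhs => rw [tp_decomp R]
        refine Finset.sum_congr rfl fun i _ => ?_
        rw [hτ, kr_tp, Units.val_one, Matrix.one_mulVec, H₂.ft_apply hbb,
          show f₂ (fun j => R (i, j)) b = 0 from H₂.s.symm_zero (hb i), mul_zero, zero_smul, add_zero]
      have hYM : g * τ * g⁻¹ ∈ M := M.mul_mem (M.mul_mem hg (right_mem H₁ H₂ hH hbb hz)) (M.inv_mem hg)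
      exact hgk (back3 H₁ H₂ hH hM K₁ hg ⟨hb0, hbb⟩ hz0 (of_fix H₁ H₂ hH hM K₁ hYM hv hc one_ne_zero (by
        rw [one_smul, mul_act, mul_act, ← hR, hτR, hR, act_inv_act])))
    -- the scalar times a pseudo-reflection at `b`
    have hσν : σ ν = ν⁻¹ := eq_inv_of_mul_eq_one_right hνn
    set lam := (ν⁻¹) ^ 3 with hlam
    set t := (lam - 1) / f₂ b b with ht
    have ht0 : t ≠ 0 := by
      refine div_ne_zero (sub_ne_zero.2 fun e => hν3 ?_) hbb
      rw [hlam, inv_pow, inv_eq_one] at e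
      exact e
    let B : Matrix (Fin 3) (Fin 3) F := 1 + Matrix.replicateCol Unit (t • b) * Matrix.replicateRow Unit (row f₂ b)
    have hB : ∀ x, B *ᵥ x = x + (t * f₂ x b) • b := fun x => by
      simp only [B, ← Matrix.vecMulVec_eq Unit, Matrix.add_mulVec, Matrix.one_mulVec, Matrix.vecMulVec_mulVec,
        op_smul_eq_smul, H₂.s.row_dot, smul_smul, mul_comm t]
    have hdetB : B.det = lam := by
      rw [Matrix.det_one_add_replicateCol_mul_replicateRow, dotProduct_smul, H₂.s.row_dot, smul_eq_mul, ht,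
        div_mul_cancel₀ _ hbb, add_sub_cancel]
    have hBB : ∀ x x', f₂ (B *ᵥ x) (B *ᵥ x') = f₂ x x' := fun x x' => by
      have hσt : σ t = (σ lam - 1) / f₂ b b := by rw [ht, map_div₀, map_sub, map_one, H₂.self_fixed]
      simp only [hB, H₂.s.add_left, H₂.s.add_right, H₂.s.smul_left, H₂.s.smul_right, map_mul, H₂.conj_f, hσt]
      rw [show σ lam = ν ^ 3 by rw [hlam, map_pow, map_inv₀, hσν, inv_inv]]
      rw [ht, hlam]
      field_simp
      ring
    let β := Matrix.GeneralLinearGroup.mkOfDetNeZero B (by rw [hdetB]; exact pow_ne_zero 3 (inv_ne_zero hν0))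
    let α : GL (Fin 2) F := Matrix.GeneralLinearGroup.mkOfDetNeZero (ν • (1 : Matrix (Fin 2) (Fin 2) F))
      (by rw [Matrix.det_smul, Matrix.det_one, mul_one]; exact pow_ne_zero _ hν0)
    set x := kr α β with hx
    have hαv : ∀ u, (α : Matrix (Fin 2) (Fin 2) F) *ᵥ u = ν • u := fun u => by
      show (ν • (1 : Matrix (Fin 2) (Fin 2) F)) *ᵥ u = _
      rw [Matrix.smul_mulVec, Matrix.one_mulVec]
    have hxM : x ∈ M := by
      refine hH ⟨kr_mem _ _, ?_, fun u w => ?_⟩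
      · rw [hx, kr_det, show (α : Matrix (Fin 2) (Fin 2) F) = ν • 1 from rfl,
          show (β : Matrix (Fin 3) (Fin 3) F) = B from rfl, hdetB, Matrix.det_smul, Matrix.det_one, mul_one,
          Fintype.card_fin, hlam]
        field_simp
      · refine kr_preserves H₁.s H₂.s (fun p p' => ?_) hBB u w
        rw [hαv, hαv, H₁.s.smul_left, H₁.s.smul_right, ← mul_assoc, hνn, one_mul]
    have hxu : ∀ u, (x : Matrix (Fin 2 × Fin 3) (Fin 2 × Fin 3) F) *ᵥ u = ν • u + (ν * t) • tp (Pf f₂ 2 b u) b := by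
      intro u
      conv_lhs => rw [tp_decomp u, Matrix.mulVec_sum]
      conv_rhs => rw [tp_decomp u, map_sum]
      rw [show tp (∑ i, Pf f₂ 2 b (tp (Pi.single i (1 : F)) fun j => u (i, j))) b =
        ∑ i, tp (Pf f₂ 2 b (tp (Pi.single i (1 : F)) fun j => u (i, j))) b from map_sum (J b) _ _,
        Finset.smul_sum, Finset.smul_sum, ← Finset.sum_add_distrib]
      refine Finset.sum_congr rfl fun i _ => ?_
      rw [hx, kr_tp, hαv, show (β : Matrix (Fin 3) (Fin 3) F) = B from rfl, hB, Pf_tp H₂.s, tp_add_right,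
        tp_smul_right, tp_smul_left, tp_smul_left, tp_smul_left]
      module
    set Y := g * x * g⁻¹ with hY
    have hYM : Y ∈ M := M.mul_mem (M.mul_mem hg hxM) (M.inv_mem hg)
    have hYk := of_fix H₁ H₂ hH hM K₁ hYM hv hc hν0 (by
      rw [hY, mul_act, mul_act, ← hR, hxu, hPR, tp_zero_left, smul_zero, add_zero, Matrix.mulVec_smul, hR,
        act_inv_act])
    obtain ⟨αY, βY, hαβ⟩ := exists_kr hYk
    set W := LinearMap.range (G.comp (J (k := 2) b)) with hW
    have hYu : ∀ p r, tp ((αY : Matrix (Fin 2) (Fin 2) F) *ᵥ p) ((βY : Matrix (Fin 3) (Fin 3) F) *ᵥ r) -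
        ν • tp p r ∈ W := by
      intro p r
      refine ⟨(ν * t) • Pf f₂ 2 b (((g⁻¹ : GL (Fin 2 × Fin 3) F) : Matrix (Fin 2 × Fin 3) (Fin 2 × Fin 3) F) *ᵥ
        tp p r), ?_⟩
      rw [← kr_tp, ← hαβ, hY, mul_act, mul_act, hxu, Matrix.mulVec_add, Matrix.mulVec_smul, act_inv_act,
        add_sub_cancel_left]
      simp [hG, J_apply, tp_smul_left, Matrix.toLin'_apply, Matrix.mulVec_smul]
    have hWdim : Module.finrank F W ≤ 2 := (LinearMap.finrank_range_le _).trans (by simp)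
    -- the first factor is a scalar
    have hscal : ∀ p : Fin 2 → F, ((αY : Matrix (Fin 2) (Fin 2) F) *ᵥ p) 0 * p 1 -
        ((αY : Matrix (Fin 2) (Fin 2) F) *ᵥ p) 1 * p 0 = 0 := by
      intro p
      by_contra hD
      let Φ : (Fin 3 → F) →ₗ[F] (Fin 2 × Fin 3 → F) :=
        { toFun := fun r => tp ((αY : Matrix (Fin 2) (Fin 2) F) *ᵥ p) ((βY : Matrix (Fin 3) (Fin 3) F) *ᵥ r) -
            ν • tp p r
          map_add' := fun r r' => by simp only [Matrix.mulVec_add, tp_add_right, smul_add]; abel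
          map_smul' := fun s r => by
            simp only [Matrix.mulVec_smul, tp_smul_right, smul_sub, RingHom.id_apply, smul_comm s] }
      have hinj : Function.Injective Φ := by
        rw [injective_iff_map_eq_zero]
        intro r hr
        refine act_injective βY (?_ : _ = (βY : Matrix (Fin 3) (Fin 3) F) *ᵥ 0)
        funext j
        have h0 : Φ r (0, j) = 0 := congrFun hr _
        have h1 : Φ r (1, j) = 0 := congrFun hr _
        simp only [Φ, LinearMap.coe_mk, AddHom.coe_mk, tp, Pi.sub_apply, Pi.smul_apply, smul_eq_mul] at h0 h1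
        rw [Matrix.mulVec_zero, Pi.zero_apply]
        exact (mul_eq_zero.1 (show (((αY : Matrix (Fin 2) (Fin 2) F) *ᵥ p) 0 * p 1 -
          ((αY : Matrix (Fin 2) (Fin 2) F) *ᵥ p) 1 * p 0) * ((βY : Matrix (Fin 3) (Fin 3) F) *ᵥ r) j = 0 by
          linear_combination p 1 * h0 - p 0 * h1)).resolve_left hD
      have h1 := LinearMap.finrank_range_of_inj hinj
      have h2 : Module.finrank F (LinearMap.range Φ) ≤ Module.finrank F W :=
        Submodule.finrank_mono (by rintro _ ⟨r, rfl⟩; exact hYu p r)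
      rw [Module.finrank_fin_fun] at h1
      omega
    set δ := (αY : Matrix (Fin 2) (Fin 2) F) 0 0 with hδ
    have hαs : ∀ p, (αY : Matrix (Fin 2) (Fin 2) F) *ᵥ p = δ • p := by
      have h10 := hscal (Pi.single 0 1)
      have h01 := hscal (Pi.single 1 1)
      have h11 := hscal ![1, 1]
      simp [Matrix.mulVec, dotProduct, Fin.sum_univ_two, Pi.single_apply] at h10 h01 h11
      intro p
      funext i
      fin_cases i <;> simp [Matrix.mulVec, dotProduct, Fin.sum_univ_two, hδ, h10, h01]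
      left
      linear_combination -h11 + h01 - h10
    obtain ⟨r₀, hr₀⟩ : ∃ r, δ • ((βY : Matrix (Fin 3) (Fin 3) F) *ᵥ r) - ν • r ≠ 0 := by
      by_contra! h0
      have h1 : ∀ p r, (Y : Matrix (Fin 2 × Fin 3) (Fin 2 × Fin 3) F) *ᵥ tp p r = ν • tp p r := fun p r => by
        rw [hαβ, kr_tp, hαs, tp_smul_left, ← tp_smul_right, sub_eq_zero.1 (h0 r), tp_smul_right]
      have h2 : (x : Matrix (Fin 2 × Fin 3) (Fin 2 × Fin 3) F) *ᵥ tp v b = ν • tp v b := by
        apply act_injective g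
        show _ *ᵥ _ = _ *ᵥ _
        have h3 : ∀ u, (Y : Matrix (Fin 2 × Fin 3) (Fin 2 × Fin 3) F) *ᵥ u = ν • u := fun u => by
          rw [tp_decomp u, Matrix.mulVec_sum, Finset.smul_sum]
          exact Finset.sum_congr rfl fun i _ => h1 _ _
        rw [← mul_act, show g * x = Y * g by rw [hY, inv_mul_cancel_right], mul_act, h3, Matrix.mulVec_smul]
      rw [hxu, Pf_tp H₂.s, tp_smul_left, smul_smul, add_eq_left, smul_eq_zero] at h2
      rcases h2 with e | e
      · exact mul_ne_zero (mul_ne_zero hν0 ht0) hbb e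
      · exact hv.1 (J_injective hb0 (by rw [J_apply, e, map_zero]))
    set d := δ • ((βY : Matrix (Fin 3) (Fin 3) F) *ᵥ r₀) - ν • r₀ with hd
    have hWd : W = LinearMap.range (J (k := 2) d) := by
      refine (Submodule.eq_of_le_of_finrank_le ?_ ?_).symm
      · rintro _ ⟨p, rfl⟩
        have := hYu p r₀
        rw [hαs, tp_smul_left] at this
        convert this using 1
        funext q
        simp [J_apply, tp, hd]
        ring
      · rw [LinearMap.finrank_range_of_inj (J_injective hr₀), Module.finrank_fin_fun]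
        exact hWdim
    have hmem : ∀ u, ∃ w, tp w d = (g : Matrix (Fin 2 × Fin 3) (Fin 2 × Fin 3) F) *ᵥ tp u b := fun u => by
      obtain ⟨w, hw⟩ : (G.comp (J (k := 2) b)) u ∈ LinearMap.range (J (k := 2) d) := hWd ▸ ⟨u, rfl⟩
      exact ⟨w, by simpa [hG, J_apply, Matrix.toLin'_apply] using hw⟩
    choose A₀ hA₀ using hmem
    let A : Module.End F (Fin 2 → F) :=
      { toFun := A₀
        map_add' := fun u u' => J_injective hr₀ (by
          rw [J_apply, J_apply, tp_add_left, hA₀, hA₀, hA₀, tp_add_left, Matrix.mulVec_add])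
        map_smul' := fun s u => J_injective hr₀ (by
          rw [J_apply, J_apply, RingHom.id_apply, tp_smul_left, hA₀, hA₀, tp_smul_left, Matrix.mulVec_smul]) }
    have hA : ∀ u, (g : Matrix (Fin 2 × Fin 3) (Fin 2 × Fin 3) F) *ᵥ tp u b = tp (A u) d := fun u => (hA₀ u).symm
    have hAs : Function.Surjective A := LinearMap.surjective_of_injective fun p p' e =>
      J_injective hb0 (act_injective g (by
        show _ *ᵥ tp p b = _ *ᵥ tp p' b
        rw [hA, hA, e]))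
    have hpair : ∀ p p', f₁ (A p) (A p') * f₂ d d = f₁ p p' * f₂ b b := fun p p' => by
      rw [← tForm_tp H₂.s H₁.s, ← tForm_tp H₂.s H₁.s, ← hA, ← hA, (hM hg).2]
    refine ⟨d, ⟨fun e => ?_, b, hbb, A, hAs, hA⟩, ?_⟩
    · obtain ⟨w, hw⟩ : ∃ w, f₁ v w ≠ 0 := by
        by_contra! h0
        exact hv.1 (H₁.s.nd v h0)
      have := hpair v w
      rw [e, mul_zero] at this
      exact mul_ne_zero hw hbb this.symm
    · obtain ⟨w, hw⟩ : ∃ w, f₁ v w ≠ 0 := by
        by_contra! h0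
        exact hv.1 (H₁.s.nd v h0)
      obtain ⟨p, rfl⟩ := hAs w
      have h := (hM (M.inv_mem hg)).2 (tp v c) (tp (A p) d)
      rw [← hA, inv_act_act, tForm_right H₂.s H₁.s, ← hR, hPR, H₁.s.zero_left, hA, tForm_tp H₂.s H₁.s] at h
      exact (mul_eq_zero.1 h.symm).resolve_left hw
  -- two non-orthogonal points of `D` give an isotropic ruler mapped to a ruler
  have horth : ∀ d d', OnD d → OnD d' → (∀ t : F, d' ≠ t • d) → f₂ d d' = 0 := by
    intro d d' ⟨hd, b, hb, A, hA, hgA⟩ ⟨hd', b', hb', A', hA', hgA'⟩ hne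
    by_contra hdd
    obtain ⟨w, hw⟩ : ∃ w, f₁ v w ≠ 0 := by
      by_contra! h0
      exact hv.1 (H₁.s.nd v h0)
    have hp1 : ∀ p p', f₁ (A p) (A p') * f₂ d d = f₁ p p' * f₂ b b := fun p p' => by
      rw [← tForm_tp H₂.s H₁.s, ← tForm_tp H₂.s H₁.s, ← hgA, ← hgA, (hM hg).2]
    have hp2 : ∀ p p', f₁ (A p) (A' p') * f₂ d d' = f₁ p p' * f₂ b b' := fun p p' => by
      rw [← tForm_tp H₂.s H₁.s, ← tForm_tp H₂.s H₁.s, ← hgA, ← hgA', (hM hg).2]
    set θ := σ (f₂ b b' * f₂ d d / (f₂ d d' * f₂ b b)) with hθ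
    have hA'A : ∀ p, A' p = θ • A p := fun p => sub_eq_zero.1 (H₁.s.nd _ fun y => H₁.s.symm_zero (by
      obtain ⟨p', rfl⟩ := hA y
      rw [H₁.s.sub_right, H₁.s.smul_right, sub_eq_zero, hθ, H₁.s.invol]
      refine mul_right_cancel₀ hdd ?_
      rw [hp2]
      refine mul_right_cancel₀ hd ?_
      field_simp
      linear_combination -(f₂ b b' * hp1 p' p)))
    have hb0 : b ≠ 0 := fun e => hb (by rw [e, H₂.s.zero_left])
    have hli : LinearIndependent F ![b, b'] := by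
      refine (LinearIndependent.pair_iff' hb0).2 fun r hr => ?_
      obtain ⟨p, rfl⟩ : ∃ p, A p = v := hA v
      have h1 := hgA' p
      rw [← hr, tp_smul_right, Matrix.mulVec_smul, hgA, hA'A, tp_smul_left, ← tp_smul_right, ← tp_smul_right] at h1
      have h2 : r • d = θ • d' := by
        obtain ⟨i, hi⟩ := Function.ne_iff.1 hv.1
        funext j
        exact mul_left_cancel₀ hi (congrFun h1 (i, j))
      by_cases hθ0 : θ = 0
      · have h3 := hgA' p
        rw [hA'A, hθ0, zero_smul, tp_zero_left] at h3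
        have h4 : tp p b' = 0 := act_injective g (by
          show _ *ᵥ _ = _ *ᵥ _
          rw [h3, Matrix.mulVec_zero])
        have hb'0 : b' ≠ 0 := fun e => hb' (by rw [e, H₂.s.zero_left])
        have h5 : p = 0 := J_injective hb'0 (by rw [J_apply, h4, map_zero])
        exact hv.1 (by rw [h5, map_zero])
      · exact hne (θ⁻¹ * r) (by rw [mul_smul, h2, inv_smul_smul₀ hθ0])
    have hX2 : 2 ≤ Module.finrank F (Submodule.span F (Set.range ![b, b'])) := by
      rw [finrank_span_eq_card hli, Fintype.card_fin]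
    obtain ⟨p, hp, hp0, hpp⟩ := H₂.exists_isotropic hX2
    obtain ⟨s, rfl⟩ := (Submodule.mem_span_range_iff_exists_fun F).1 hp
    refine hgk (mem_kron3 H₁ H₂ hH hM K₁ (by norm_num) ⟨hp0, hpp⟩ hg (c := s 0 • d + (s 1 * θ) • d') fun u =>
      ⟨A u, ?_⟩)
    simp only [Fin.sum_univ_two, Matrix.cons_val_zero, Matrix.cons_val_one, tp_add_right, tp_smul_right,
      Matrix.mulVec_add, Matrix.mulVec_smul, hgA, hgA', hA'A, tp_smul_left, smul_smul]
  -- three orthogonal points and an isotropic point off their perpendiculars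
  obtain ⟨c₀, hc₀, -⟩ := H₂.exists_iso_perp (m := 0) (by norm_num) Fin.elim0
  obtain ⟨d₁, hd₁, -⟩ := hex c₀ hc₀
  obtain ⟨c₁, hc₁, hc₁d⟩ : ∃ c, Iso f₂ c ∧ f₂ c d₁ ≠ 0 := by
    by_contra! h0
    have hmem : ∀ x, f₂ x d₁ = 0 := fun x => by
      have hx : x ∈ Submodule.span F {b | f₂ b b = 0} := (H₂.span_iso (by norm_num)) ▸ Submodule.mem_top
      induction hx using Submodule.span_induction with
      | mem y hy =>
        by_cases hy0 : y = 0
        · rw [hy0, H₂.s.zero_left]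
        · exact h0 y ⟨hy0, hy⟩
      | zero => exact H₂.s.zero_left _
      | add p q _ _ hp hq => rw [H₂.s.add_left, hp, hq, add_zero]
      | smul r p _ hp => rw [H₂.s.smul_left, hp, mul_zero]
    exact hd₁.1 (hmem d₁)
  obtain ⟨d₂, hd₂, hc₁d₂⟩ := hex c₁ hc₁
  have h12 : f₂ d₁ d₂ = 0 := horth d₁ d₂ hd₁ hd₂ fun t e => by
    rw [e, H₂.s.smul_right, mul_eq_zero] at hc₁d₂
    rcases hc₁d₂ with h | h
    · exact hd₂.1 (by rw [e, (map_eq_zero σ).1 h, zero_smul, H₂.s.zero_left])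
    · exact hc₁d h
  obtain ⟨c, n, hc, hcd₁, hcd₂, hcn, huniq⟩ := exists_off H₂ hs hd₁.1 hd₂.1 h12
  obtain ⟨d₃, hd₃, hcd₃⟩ := hex c hc
  have key : ∀ d, OnD d → f₂ c d ≠ 0 → f₂ d₃ d = 0 := fun d hdD hcd => H₂.s.symm_zero (horth d d₃ hdD hd₃
    fun t e => by
      rw [e, H₂.s.smul_right, mul_eq_zero] at hcd₃
      rcases hcd₃ with h | h
      · exact hd₃.1 (by rw [e, (map_eq_zero σ).1 h, zero_smul, H₂.s.zero_left])
      · exact hcd h)
  obtain ⟨t, rfl⟩ := huniq d₃ (key d₁ hd₁ hcd₁) (key d₂ hd₂ hcd₂)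
  rw [H₂.s.smul_right, mul_eq_zero] at hcd₃
  rcases hcd₃ with h | h
  · exact hd₃.1 (by rw [(map_eq_zero σ).1 h, zero_smul, H₂.s.zero_left])
  · exact hcn h

end Cfsg.Agent.TensorUnitLow74
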