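import Cfsg.Agent.Lib.TensorUnitLow74ThreeBase

/-!
The tensor product of hermitian spaces of dimensions two and three: with scalar central operators an overgroup of
the tensor stabiliser lies in it.
-/

set_option autoImplicit false
set_option linter.unusedSectionVars false

namespace Cfsg.Agent.TensorUnitLow74

open scoped Matrix MatrixGroups Kronecker
open Cfsg.Agent.TensorMax Cfsg.Agent.TransvectionMax

/-- A matrix `1 + N` with `N ^ 3 = 0` has determinant one. -/
theorem det_unipotent {F : Type*} [Field F] [Finite F] {ι : Type*} [Fintype ι] [DecidableEq ι] (N : Matrix ι ι F)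
    (h : N ^ 3 = 0) : (1 + N).det = 1 := by
  rcases isEmpty_or_nonempty ι with hι | hι
  · exact Matrix.det_isEmpty
  obtain ⟨p, hp⟩ : ∃ p : ℕ, CharP F p := CharP.exists F
  haveI := hp
  haveI : Fact p.Prime := ⟨CharP.char_is_prime F p⟩
  have h4 : N ^ (p ^ 2) = 0 := by
    refine pow_eq_zero_of_le ?_ h
    have := Nat.pow_le_pow_left (Fact.out : p.Prime).two_le 2
    omega
  have h5 : (1 + N) ^ (p ^ 2) = 1 := by
    rw [add_pow_char_pow_of_commute p 2 (Commute.one_left N), one_pow, h4, add_zero]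
  have h6 := congrArg Matrix.det h5
  rw [Matrix.det_pow, Matrix.det_one] at h6
  exact iterateFrobenius_inj F p 2 (by simpa [iterateFrobenius_def] using h6)

variable {F : Type*} [Field F] [Fintype F] {σ : F →+* F} {k : ℕ}
  {f₁ : (Fin k → F) → (Fin k → F) → F} {f₂ : (Fin 3 → F) → (Fin 3 → F) → F}
  (H₁ : UForm σ f₁) (H₂ : UForm σ f₂) {M : Subgroup (GL (Fin k × Fin 3) F)}
  (hH : Cfsg.Geo.kroneckerSubgroup k 3 F ⊓ SUT σ f₁ f₂ ≤ M) (hM : M ≤ SUT σ f₁ f₂)
  (K₁ : Ctx0.CentreScalar M f₁ f₂ (1 : F))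
include H₁ H₂ hH hM K₁

theorem adj_eq {u : Fin k × Fin 3 → F} {g : GL (Fin k × Fin 3) F} (hg : g ∈ M) {p : Fin 3 → F}
    {x : Fin k → F} (h : ∀ v, f₁ x v = tForm σ f₁ f₂ u ((g : Matrix (Fin k × Fin 3) (Fin k × Fin 3) F) *ᵥ tp v p)) :
    Pf f₂ k p (((g⁻¹ : GL (Fin k × Fin 3) F) : Matrix (Fin k × Fin 3) (Fin k × Fin 3) F) *ᵥ u) = x := by
  refine sub_eq_zero.1 (H₁.s.nd _ fun v => ?_)
  rw [H₁.s.sub_left, ← tForm_right H₂.s H₁.s, h, ← (hM hg).2, act_inv_act, sub_self]

/-- Heisenberg elements in `M` have scalar middle component. -/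
theorem rad_scalar {a y : Fin 3 → F} (ha : Iso f₂ a) (hya : f₂ y a = 0) (hyy : f₂ y y ≠ 0)
    {Y Y' Z : Module.End F (Fin k → F)} (hadj : IsAdj f₁ Y Y')
    (hR : El M (SOp f₂ y Y a + (-1 : F) • SOp f₂ a Y' y + SOp f₂ a Z a)) : ∃ r : F, Y = r • 1 := by
  have hay := H₂.s.symm_zero hya
  obtain ⟨ω, hω⟩ := H₂.ne
  obtain ⟨g, hgM, hg⟩ := hR
  have hcomm : ∀ t : F, ∃ s : F, t • Y' - σ t • Y = s • 1 := by
    intro t
    obtain ⟨ν, hν⟩ := H₂.exists_trace (a := -(t * σ t * f₂ y y))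
      (by rw [map_neg, map_mul, map_mul, H₂.s.invol, H₂.self_fixed, mul_comm (σ t)])
    -- the Eichler element of `SU₃`
    set N₂ := SOp f₂ y (t • (1 : Module.End F (Fin k → F))) a + (-σ t) • SOp f₂ a 1 y + ν • SOp f₂ a 1 a with hN₂
    obtain ⟨E, hEM, hE⟩ : El M N₂ := by
      let A : Matrix (Fin 3) (Fin 3) F := 1 + (Matrix.vecMulVec (t • y) (row f₂ a) +
        (-σ t) • Matrix.vecMulVec a (row f₂ y) + ν • Matrix.vecMulVec a (row f₂ a))
      have hA : ∀ x, A *ᵥ x = x + ((t * f₂ x a) • y + (-(σ t * f₂ x y)) • a + (ν * f₂ x a) • a) := by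
        intro x
        simp only [A, Matrix.add_mulVec, Matrix.one_mulVec, Matrix.smul_mulVec, Matrix.vecMulVec_mulVec,
          op_smul_eq_smul, H₂.s.row_dot]
        module
      have hAA : ∀ x x', f₂ (A *ᵥ x) (A *ᵥ x') = f₂ x x' := by
        intro x x'
        simp only [hA, H₂.s.add_left, H₂.s.add_right, H₂.s.smul_left, H₂.s.smul_right, map_neg, map_mul,
          H₂.s.invol, H₂.conj_f, ha.2, hya, hay, mul_zero, add_zero, zero_add]
        linear_combination f₂ x a * f₂ a x' * hν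
      have hdetA : A.det = 1 := by
        refine det_unipotent _ ?_
        refine Matrix.ext_of_mulVec_single fun j => ?_
        rw [pow_three, ← Matrix.mulVec_mulVec, ← Matrix.mulVec_mulVec, Matrix.zero_mulVec]
        simp only [Matrix.add_mulVec, Matrix.smul_mulVec, Matrix.vecMulVec_mulVec, op_smul_eq_smul, H₂.s.row_dot,
          H₂.s.add_left, H₂.s.smul_left, ha.2, hya, hay, mul_zero, add_zero, zero_smul, smul_zero, zero_add]
      let β := Matrix.GeneralLinearGroup.mkOfDetNeZero A (by rw [hdetA]; exact one_ne_zero)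
      refine ⟨kr 1 β, hH ⟨kr_mem _ _, kr_mem_SUT H₁.s H₂.s (fun x y => by simp) hAA (by simp) hdetA⟩,
        LinearMap.ext fun u => ?_⟩
      rw [tp_decomp u, map_sum, map_sum]
      refine Finset.sum_congr rfl fun i _ => ?_
      rw [Matrix.toLin'_apply, kr_tp, Units.val_one, Matrix.one_mulVec,
        show (β : Matrix (Fin 3) (Fin 3) F) = A from rfl, hA]
      simp only [hN₂, LinearMap.add_apply, Module.End.one_apply, LinearMap.smul_apply, SOp_apply, Pf_tp H₂.s,
        tp_add_right, tp_smul_right, tp_smul_left]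
      module
    set N₁ := SOp f₂ y Y a + (-1 : F) • SOp f₂ a Y' y + SOp f₂ a Z a with hN₁
    set Cz := N₁ * N₂ - N₂ * N₁ with hCz
    have hC : Cz = (-f₂ y y) • SOp f₂ a (t • Y' - σ t • Y) a := by
      have hS : SOp f₂ a (t • Y' - σ t • Y) a = t • SOp f₂ a Y' a - σ t • SOp f₂ a Y a := by
        refine LinearMap.ext fun u => ?_
        funext p
        simp only [SOp_apply, LinearMap.sub_apply, LinearMap.smul_apply, tp, Pi.sub_apply, Pi.smul_apply, smul_eq_mul]
        ring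
      rw [hS, hCz, hN₁, hN₂]
      simp only [mul_add, add_mul, smul_mul_assoc, mul_smul_comm, SOp_mul H₂.s, SOp_smul H₂.s, ha.2, hya, hay,
        mul_one, one_mul, zero_smul, smul_zero, add_zero, zero_add]
      module
    have hEl : El M Cz := by
      refine ⟨(E * g)⁻¹ * (g * E), M.mul_mem (M.inv_mem (M.mul_mem hEM hgM)) (M.mul_mem hgM hEM), ?_⟩
      have hCN : N₁ * Cz = 0 ∧ N₂ * Cz = 0 := by
        rw [hC, hN₁, hN₂]
        constructor <;>
        simp only [add_mul, smul_mul_assoc, mul_smul_comm, SOp_mul H₂.s, ha.2, hay, zero_smul, smul_zero, add_zero]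
      have h1 : Matrix.toLin' ((E * g : GL (Fin k × Fin 3) F) : Matrix (Fin k × Fin 3) (Fin k × Fin 3) F) * (1 + Cz) =
          Matrix.toLin' ((g * E : GL (Fin k × Fin 3) F) : Matrix (Fin k × Fin 3) (Fin k × Fin 3) F) := by
        rw [El.lin_mul, El.lin_mul, hg, hE]
        simp only [mul_add, add_mul, one_mul, mul_one, mul_assoc, hCN.1, hCN.2, mul_zero, add_zero]
        rw [hCz]
        abel
      refine LinearMap.ext fun u => ?_
      have h2 := LinearMap.congr_fun h1 u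
      simp only [Module.End.mul_apply, Matrix.toLin'_apply] at h2
      rw [Matrix.toLin'_apply, mul_act, ← h2, inv_act_act]
    rw [hC, ← SOp_smul H₂.s] at hEl
    have h' := (((hadj.symm H₁.s).smul H₁.s t).sub H₁.s (hadj.smul H₁.s (σ t))).smul H₁.s (-f₂ y y)
    obtain ⟨s, hs⟩ := K₁ a ha _ (by
      convert h' using 1
      rw [map_neg, H₂.self_fixed, H₁.s.invol]
      module) hEl
    refine ⟨(-f₂ y y)⁻¹ * s, ?_⟩
    rw [← smul_smul, ← hs, inv_smul_smul₀ (neg_ne_zero.2 hyy)]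
  obtain ⟨s₁, hs₁⟩ := hcomm 1
  obtain ⟨s₂, hs₂⟩ := hcomm ω
  refine ⟨(ω - σ ω)⁻¹ * (s₂ - ω * s₁), ?_⟩
  have : (ω - σ ω) • Y = (s₂ - ω * s₁) • (1 : Module.End F (Fin k → F)) := by
    refine LinearMap.ext fun x => ?_
    have e1 := LinearMap.congr_fun hs₁ x
    have e2 := LinearMap.congr_fun hs₂ x
    simp only [LinearMap.sub_apply, LinearMap.smul_apply, Module.End.one_apply, map_one, one_smul] at e1 e2 ⊢
    linear_combination (norm := module) e2 - ω • e1
  rw [← smul_smul, ← this, inv_smul_smul₀ (sub_ne_zero.2 (Ne.symm hω))]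

/-- A Heisenberg element of `M` lies in the tensor stabiliser. -/
theorem rad_kron {a y : Fin 3 → F} (ha : Iso f₂ a) (hya : f₂ y a = 0) (hyy : f₂ y y ≠ 0)
    {Y Y' Z : Module.End F (Fin k → F)} (hadj : IsAdj f₁ Y Y')
    (hZ : ∀ v w, f₁ (Z v) w + f₁ v (Z w) + f₂ y y * f₁ (Y v) (Y w) = 0)
    {g : GL (Fin k × Fin 3) F} (hgM : g ∈ M)
    (hg : Matrix.toLin' (g : Matrix (Fin k × Fin 3) (Fin k × Fin 3) F) =
      1 + (SOp f₂ y Y a + (-1 : F) • SOp f₂ a Y' y + SOp f₂ a Z a)) :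
    g ∈ Cfsg.Geo.kroneckerSubgroup k 3 F := by
  obtain ⟨r, hr⟩ := rad_scalar H₁ H₂ hH hM K₁ ha hya hyy hadj ⟨g, hgM, hg⟩
  have hay := H₂.s.symm_zero hya
  have hY' : Y' = σ r • 1 := by
    have h1 := (IsAdj.one (f := f₁)).smul H₁.s r
    rw [← hr] at h1
    exact hadj.unique H₁.s h1
  obtain ⟨ν, hν⟩ := H₂.exists_trace (a := -(r * σ r * f₂ y y))
    (by rw [map_neg, map_mul, map_mul, H₂.s.invol, H₂.self_fixed, mul_comm (σ r)])
  have hZ' : IsAdj f₁ (Z + (-ν) • 1) (-((Z + (-ν) • 1 : Module.End F (Fin k → F)))) := by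
    intro v w
    have h := hZ v w
    simp only [hr, LinearMap.smul_apply, Module.End.one_apply, H₁.s.smul_left, H₁.s.smul_right] at h
    simp only [LinearMap.add_apply, LinearMap.neg_apply, LinearMap.smul_apply, Module.End.one_apply, H₁.s.add_left,
      H₁.s.add_right, H₁.s.neg_right, H₁.s.smul_left, H₁.s.smul_right, map_neg]
    linear_combination h - f₁ v w * hν
  let A : Matrix (Fin 3) (Fin 3) F := 1 + (r • Matrix.vecMulVec y (row f₂ a) +
    (-σ r) • Matrix.vecMulVec a (row f₂ y) + ν • Matrix.vecMulVec a (row f₂ a))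
  have hA : ∀ x, A *ᵥ x = x + ((r * f₂ x a) • y + (-(σ r * f₂ x y)) • a + (ν * f₂ x a) • a) := by
    intro x
    simp only [A, Matrix.add_mulVec, Matrix.one_mulVec, Matrix.smul_mulVec, Matrix.vecMulVec_mulVec,
      op_smul_eq_smul, H₂.s.row_dot]
    module
  have hAinv : A.det ≠ 0 := by
    intro h0
    obtain ⟨x, hx0, hx⟩ := Matrix.exists_mulVec_eq_zero_iff.2 h0
    rw [hA] at hx
    have hxa : f₂ x a = 0 := by
      have := congrArg (fun v => f₂ v a) hx
      simpa [H₂.s.add_left, H₂.s.smul_left, H₂.s.zero_left, ha.2, hya, ← neg_smul] using this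
    have hxy : f₂ x y = 0 := by
      have := congrArg (fun v => f₂ v y) hx
      simpa [H₂.s.add_left, H₂.s.smul_left, H₂.s.zero_left, hay, hxa, ← neg_smul] using this
    rw [hxa, hxy] at hx
    simp at hx
    exact hx0 hx
  let β := Matrix.GeneralLinearGroup.mkOfDetNeZero A hAinv
  have hβ : ∀ x x', f₂ (A *ᵥ x) (A *ᵥ x') = f₂ x x' := by
    intro x x'
    simp only [hA, H₂.s.add_left, H₂.s.add_right, H₂.s.smul_left, H₂.s.smul_right, map_neg, map_mul,
      H₂.s.invol, H₂.conj_f, ha.2, hya, hay, mul_zero, add_zero, zero_add]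
    linear_combination f₂ x a * f₂ a x' * hν
  have hkr : Matrix.toLin' (kr (1 : GL (Fin k) F) β : Matrix (Fin k × Fin 3) (Fin k × Fin 3) F) =
      1 + (SOp f₂ y Y a + (-1 : F) • SOp f₂ a Y' y + ν • SOp f₂ a 1 a) := by
    refine LinearMap.ext fun u => ?_
    rw [tp_decomp u, map_sum, map_sum]
    refine Finset.sum_congr rfl fun i _ => ?_
    rw [Matrix.toLin'_apply, kr_tp, Units.val_one, Matrix.one_mulVec,
      show (β : Matrix (Fin 3) (Fin 3) F) = A from rfl, hA, hr, hY']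
    simp only [LinearMap.add_apply, Module.End.one_apply, LinearMap.smul_apply, SOp_apply, Pf_tp H₂.s,
      tp_add_right, tp_smul_right, tp_smul_left]
    module
  set T := SOp f₂ a (Z + (-ν) • 1) a with hT
  have hmul : Matrix.toLin' (kr (1 : GL (Fin k) F) β : Matrix (Fin k × Fin 3) (Fin k × Fin 3) F) * (1 + T) =
      Matrix.toLin' (g : Matrix (Fin k × Fin 3) (Fin k × Fin 3) F) := by
    rw [hkr, hg, hT]
    simp only [add_mul, mul_add, one_mul, mul_one, smul_mul_assoc, mul_smul_comm, SOp_mul H₂.s, ha.2, hay, zero_smul,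
      smul_zero, add_zero, SOp_add H₂.s, SOp_smul H₂.s]
    module
  -- the central part
  set g₀ := (kr (1 : GL (Fin k) F) β)⁻¹ * g with hg₀
  have hg₀l : Matrix.toLin' (g₀ : Matrix (Fin k × Fin 3) (Fin k × Fin 3) F) = 1 + T := by
    refine LinearMap.ext fun u => ?_
    have h2 := LinearMap.congr_fun hmul u
    simp only [Module.End.mul_apply, Matrix.toLin'_apply] at h2
    rw [Matrix.toLin'_apply, hg₀, mul_act, ← h2, inv_act_act]
  have hβM : kr (1 : GL (Fin k) F) β ∈ M := by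
    refine hH ⟨kr_mem _ _, kr_mem_SUT H₁.s H₂.s (fun x y => by simp) hβ (by simp) ?_⟩
    have h1 := (hM hgM).1
    rw [← mul_inv_cancel_left (kr (1 : GL (Fin k) F) β) g, ← hg₀, Units.val_mul, Matrix.det_mul, kr_det] at h1
    have h0 : (g₀ : Matrix (Fin k × Fin 3) (Fin k × Fin 3) F).det = 1 := by
      rw [show (g₀ : Matrix (Fin k × Fin 3) (Fin k × Fin 3) F) = 1 + LinearMap.toMatrix' T from
        Matrix.toLin'.injective (by rw [hg₀l, map_add, Matrix.toLin'_one, Matrix.toLin'_toMatrix']; rfl)]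
      refine det_unipotent _ ?_
      rw [pow_three, ← LinearMap.toMatrix'_mul, ← LinearMap.toMatrix'_mul, hT, SOp_mul H₂.s, ha.2, zero_smul,
        mul_zero, map_zero]
    show A.det = 1
    refine det_unipotent _ ?_
    refine Matrix.ext_of_mulVec_single fun j => ?_
    rw [pow_three, ← Matrix.mulVec_mulVec, ← Matrix.mulVec_mulVec, Matrix.zero_mulVec]
    simp only [Matrix.add_mulVec, Matrix.smul_mulVec, Matrix.vecMulVec_mulVec, op_smul_eq_smul, H₂.s.row_dot,
      H₂.s.add_left, H₂.s.smul_left, ha.2, hya, hay, mul_zero, add_zero, zero_smul, smul_zero, zero_add]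
  obtain ⟨s, hs⟩ := K₁ a ha _ (by
    intro v w
    rw [LinearMap.smul_apply, neg_one_smul]
    exact hZ' v w) ⟨g₀, M.mul_mem (M.inv_mem hβM) hgM, hg₀l⟩
  -- now everything acts on the second factor
  let B : Matrix (Fin 3) (Fin 3) F := 1 + s • Matrix.vecMulVec a (row f₂ a)
  have hBdet : B.det ≠ 0 := by
    intro h0
    obtain ⟨x, hx0, hx⟩ := Matrix.exists_mulVec_eq_zero_iff.2 h0
    simp only [B, Matrix.add_mulVec, Matrix.one_mulVec, Matrix.smul_mulVec, Matrix.vecMulVec_mulVec,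
      op_smul_eq_smul, H₂.s.row_dot] at hx
    have hxa : f₂ x a = 0 := by
      have := congrArg (fun v => f₂ v a) hx
      simpa [H₂.s.add_left, H₂.s.smul_left, H₂.s.zero_left, ha.2] using this
    rw [hxa, zero_smul, smul_zero, add_zero] at hx
    exact hx0 hx
  have hg₀k : g₀ = kr 1 (Matrix.GeneralLinearGroup.mkOfDetNeZero B hBdet) := gl_ext fun u => by
    rw [← Matrix.toLin'_apply, hg₀l, hT, hs, tp_decomp u, map_sum, Matrix.mulVec_sum]
    refine Finset.sum_congr rfl fun i _ => ?_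
    rw [kr_tp, Units.val_one, Matrix.one_mulVec,
      show ((Matrix.GeneralLinearGroup.mkOfDetNeZero B hBdet : GL (Fin 3) F) : Matrix (Fin 3) (Fin 3) F) = B from rfl]
    simp only [B, Matrix.add_mulVec, Matrix.one_mulVec, Matrix.smul_mulVec, Matrix.vecMulVec_mulVec, op_smul_eq_smul,
      H₂.s.row_dot, LinearMap.add_apply, Module.End.one_apply, SOp_apply, LinearMap.smul_apply, Pf_tp H₂.s,
      tp_add_right, tp_smul_right, tp_smul_left, smul_smul]
  rw [← mul_inv_cancel_left (kr (1 : GL (Fin k) F) β) g, ← hg₀, hg₀k, kr_mul]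
  exact kr_mem _ _

/-- An element mapping an isotropic ruler to a ruler lies in the tensor stabiliser. -/
theorem mem_kron3 (hk : 0 < k) {b c : Fin 3 → F} (hb : Iso f₂ b) {g₀ : GL (Fin k × Fin 3) F} (hg₀ : g₀ ∈ M)
    (hmap : MapsRuler g₀ b c) : g₀ ∈ Cfsg.Geo.kroneckerSubgroup k 3 F := by
  obtain ⟨v₀, hv₀⟩ : ∃ v₀ : Fin k → F, v₀ ≠ 0 := ⟨Pi.single ⟨0, hk⟩ 1, by simp⟩
  have hne : ∀ v : Fin k → F, v ≠ 0 → (g₀ : Matrix (Fin k × Fin 3) (Fin k × Fin 3) F) *ᵥ tp v b ≠ 0 := by
    intro v hv e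
    refine hv (J_injective hb.1 ?_)
    rw [J_apply, map_zero]
    apply act_injective g₀
    show _ *ᵥ _ = _ *ᵥ _
    rw [e, Matrix.mulVec_zero]
  choose w hw using hmap
  have hc0 : c ≠ 0 := fun e => hne v₀ hv₀ (by rw [hw, e, tp_zero_right])
  have hci : Iso f₂ c := by
    refine ⟨hc0, ?_⟩
    by_contra hcc
    -- the image is totally isotropic of full dimension
    set B : Module.End F (Fin k → F) := (f₂ c c)⁻¹ •
      (Pf f₂ k c).comp ((Matrix.toLin' (g₀ : Matrix (Fin k × Fin 3) (Fin k × Fin 3) F)).comp (J b)) with hB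
    have hBw : ∀ v, B v = w v := fun v => by
      simp only [hB, LinearMap.smul_apply, LinearMap.comp_apply, Matrix.toLin'_apply, J_apply, hw, Pf_tp H₂.s,
        inv_smul_smul₀ hcc]
    have hsurj : Function.Surjective B := LinearMap.surjective_of_injective (fun x y e => by
      rw [hBw, hBw] at e
      refine J_injective hb.1 (act_injective g₀ ?_)
      show _ *ᵥ tp x b = _ *ᵥ tp y b
      rw [hw, hw, e])
    refine hne v₀ hv₀ ?_
    rw [hw, ← hBw]
    suffices B v₀ = 0 by rw [this, tp_zero_left]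
    refine H₁.s.nd _ fun x => ?_
    obtain ⟨v, rfl⟩ := hsurj x
    have e := (hM hg₀).2 (tp v₀ b) (tp v b)
    rw [hw, hw, tForm_tp H₂.s H₁.s, tForm_tp H₂.s H₁.s, hb.2, mul_zero] at e
    rw [hBw, hBw]
    exact (mul_eq_zero.1 e).resolve_right hcc
  obtain ⟨β₀, hβ₀M, -, hβ₀⟩ := move3 H₁ H₂ hH hci hb
  suffices key : kr (1 : GL (Fin k) F) β₀ * g₀ ∈ Cfsg.Geo.kroneckerSubgroup k 3 F by
    rw [← inv_mul_cancel_left (kr (1 : GL (Fin k) F) β₀) g₀]
    exact Subgroup.mul_mem _ (Subgroup.inv_mem _ (kr_mem _ _)) key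
  set g := kr (1 : GL (Fin k) F) β₀ * g₀ with hg
  have hgM : g ∈ M := M.mul_mem hβ₀M hg₀
  have hgw : ∀ v, (g : Matrix (Fin k × Fin 3) (Fin k × Fin 3) F) *ᵥ tp v b = tp (w v) b := fun v => by
    rw [hg, mul_act, hw, kr_tp, Units.val_one, Matrix.one_mulVec, hβ₀]
  clear_value g
  clear hg hne hw hβ₀ hβ₀M hg₀ hci hc0
  obtain ⟨y, e, he, hbe, heb, hyb, hye, hyy, hdec⟩ := exists_frame H₂ hb
  have hby := H₂.s.symm_zero hyb
  have hey := H₂.s.symm_zero hye
  have hudec : ∀ u : Fin k × Fin 3 → F,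
      u = tp (Pf f₂ k e u) b + tp ((f₂ y y)⁻¹ • Pf f₂ k y u) y + tp (Pf f₂ k b u) e := by
    intro u
    funext p
    have h := congrFun (hdec (fun j => u (p.1, j))) p.2
    simp only [tp, Pi.add_apply, Pi.smul_apply, smul_eq_mul, Pf_apply H₂.s] at h ⊢
    refine h.trans ?_
    rw [div_eq_inv_mul]
  set G := Matrix.toLin' (g : Matrix (Fin k × Fin 3) (Fin k × Fin 3) F) with hG
  have hpres : ∀ u u', tForm σ f₁ f₂ (G u) (G u') = tForm σ f₁ f₂ u u' := fun u u' => by
    simp only [hG, Matrix.toLin'_apply, (hM hgM).2]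
  set α : Module.End F (Fin k → F) := (Pf f₂ k e).comp (G.comp (J b)) with hα
  have hgb : ∀ v, G (tp v b) = tp (α v) b := fun v => by
    simp only [hα, hG, LinearMap.comp_apply, Matrix.toLin'_apply, J_apply, hgw, Pf_tp H₂.s, hbe, one_smul]
  have hαinj : Function.Injective α := fun x x' h => J_injective hb.1 (act_injective g (by
    show _ *ᵥ tp x b = _ *ᵥ tp x' b
    rw [← Matrix.toLin'_apply, ← Matrix.toLin'_apply, ← hG, hgb, hgb, h]))
  have hαs := LinearMap.surjective_of_injective hαinj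
  set δ : Module.End F (Fin k → F) := (f₂ y y)⁻¹ • (Pf f₂ k y).comp (G.comp (J y)) with hδ
  set X : Module.End F (Fin k → F) := (Pf f₂ k e).comp (G.comp (J y)) with hX
  have hgy : ∀ v, G (tp v y) = tp (δ v) y + tp (X v) b := by
    intro v
    have h0 : Pf f₂ k b (G (tp v y)) = 0 := H₁.s.nd _ fun x => by
      obtain ⟨x', rfl⟩ := hαs x
      rw [← tForm_right H₂.s H₁.s, ← hgb, hpres, tForm_tp H₂.s H₁.s, hyb, mul_zero]
    conv_lhs => rw [hudec (G (tp v y))]
    rw [h0, tp_zero_left, add_zero, add_comm]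
    rfl
  have hδiso : ∀ v v', f₁ (δ v) (δ v') = f₁ v v' := by
    intro v v'
    have h := hpres (tp v y) (tp v' y)
    rw [hgy, hgy, tForm_add_left, TensorMax.tForm_add_right, TensorMax.tForm_add_right, tForm_tp H₂.s H₁.s,
      tForm_tp H₂.s H₁.s, tForm_tp H₂.s H₁.s, tForm_tp H₂.s H₁.s, tForm_tp H₂.s H₁.s, hyb, hby, hb.2, mul_zero,
      mul_zero, mul_zero, zero_add, add_zero, add_zero] at h
    exact mul_right_cancel₀ hyy h
  have hδinj : Function.Injective δ := fun x x' h => sub_eq_zero.1 (H₁.s.nd _ fun v => by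
    rw [← hδiso, map_sub, h, sub_self, H₁.s.zero_left])
  have hδs := LinearMap.surjective_of_injective hδinj
  set Gi := Matrix.toLin' ((g⁻¹ : GL (Fin k × Fin 3) F) : Matrix (Fin k × Fin 3) (Fin k × Fin 3) F) with hGi
  set α' : Module.End F (Fin k → F) := (Pf f₂ k b).comp (Gi.comp (J e)) with hα'
  set δ' : Module.End F (Fin k → F) := (f₂ y y)⁻¹ • (Pf f₂ k y).comp (Gi.comp (J y)) with hδ'
  set X' : Module.End F (Fin k → F) := (Pf f₂ k y).comp (Gi.comp (J e)) with hX'
  have hadjG : ∀ u u', tForm σ f₁ f₂ (Gi u) u' = tForm σ f₁ f₂ u (G u') := fun u u' => by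
    rw [← hpres, hGi, hG, Matrix.toLin'_apply, Matrix.toLin'_apply, Matrix.toLin'_apply, act_inv_act]
  have hαadj : IsAdj f₁ α α' := fun v x => by
    rw [← H₁.conj_f x, ← H₁.conj_f (α' x) v]
    congr 1
    simp only [hα', LinearMap.comp_apply, J_apply]
    rw [← tForm_right H₂.s H₁.s, hadjG, hgb, tForm_tp H₂.s H₁.s, heb, mul_one]
  have hδadj : IsAdj f₁ δ δ' := fun v x => by
    rw [← H₁.conj_f x, ← H₁.conj_f (δ' x) v]
    congr 1
    simp only [hδ', LinearMap.smul_apply, LinearMap.comp_apply, J_apply, H₁.s.smul_left]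
    rw [← tForm_right H₂.s H₁.s, hadjG, hgy, TensorMax.tForm_add_right, tForm_tp H₂.s H₁.s, tForm_tp H₂.s H₁.s,
      hyb, mul_zero, add_zero]
    field_simp
  have hXadj : IsAdj f₁ X X' := fun v x => by
    rw [← H₁.conj_f x, ← H₁.conj_f (X' x) v]
    congr 1
    simp only [hX', LinearMap.comp_apply, J_apply]
    rw [← tForm_right H₂.s H₁.s, hadjG, hgy, TensorMax.tForm_add_right, tForm_tp H₂.s H₁.s, tForm_tp H₂.s H₁.s,
      heb, hey, mul_zero, zero_add, mul_one]
  -- first step: the middle component is a multiple of the first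
  obtain ⟨ν, hν⟩ := H₂.exists_trace (a := -f₂ y y) (by rw [map_neg, H₂.self_fixed])
  have hPb : ∀ u, Pf f₂ k b (Gi u) = α' (Pf f₂ k b u) := fun u => sub_eq_zero.1 (H₁.s.nd _ fun v => by
    rw [H₁.s.sub_left, ← tForm_right H₂.s H₁.s, hadjG, hgb, tForm_right H₂.s H₁.s, hαadj.symm H₁.s, sub_self])
  have hPy : ∀ u, Pf f₂ k y (Gi u) = δ' (Pf f₂ k y u) + X' (Pf f₂ k b u) := fun u =>
    sub_eq_zero.1 (H₁.s.nd _ fun v => by
      rw [H₁.s.sub_left, H₁.s.add_left, ← tForm_right H₂.s H₁.s, hadjG, hgy, TensorMax.tForm_add_right,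
        tForm_right H₂.s H₁.s, tForm_right H₂.s H₁.s, hδadj.symm H₁.s, hXadj.symm H₁.s]
      ring)
  have hA : El M (SOp f₂ y (1 : Module.End F (Fin k → F)) b + (-1 : F) • SOp f₂ b 1 y + ν • SOp f₂ b 1 b) := by
    let A : Matrix (Fin 3) (Fin 3) F := 1 + (Matrix.vecMulVec y (row f₂ b) +
      (-1 : F) • Matrix.vecMulVec b (row f₂ y) + ν • Matrix.vecMulVec b (row f₂ b))
    have hA : ∀ x, A *ᵥ x = x + (f₂ x b • y + (-f₂ x y) • b + (ν * f₂ x b) • b) := by
      intro x
      simp only [A, Matrix.add_mulVec, Matrix.one_mulVec, Matrix.smul_mulVec, Matrix.vecMulVec_mulVec,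
        op_smul_eq_smul, H₂.s.row_dot]
      module
    have hAA : ∀ x x', f₂ (A *ᵥ x) (A *ᵥ x') = f₂ x x' := by
      intro x x'
      simp only [hA, H₂.s.add_left, H₂.s.add_right, H₂.s.smul_left, H₂.s.smul_right, map_neg, map_mul,
        H₂.conj_f, hb.2, hyb, hby, mul_zero, add_zero, zero_add]
      linear_combination f₂ x b * f₂ b x' * hν
    have hdetA : A.det = 1 := by
      refine det_unipotent _ ?_
      refine Matrix.ext_of_mulVec_single fun j => ?_
      rw [pow_three, ← Matrix.mulVec_mulVec, ← Matrix.mulVec_mulVec, Matrix.zero_mulVec]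
      simp only [Matrix.add_mulVec, Matrix.smul_mulVec, Matrix.vecMulVec_mulVec, op_smul_eq_smul, H₂.s.row_dot,
        H₂.s.add_left, H₂.s.smul_left, hb.2, hyb, hby, mul_zero, add_zero, zero_smul, smul_zero, zero_add]
    let β := Matrix.GeneralLinearGroup.mkOfDetNeZero A (by rw [hdetA]; exact one_ne_zero)
    refine ⟨kr 1 β, hH ⟨kr_mem _ _, kr_mem_SUT H₁.s H₂.s (fun x y => by simp) hAA (by simp) hdetA⟩,
      LinearMap.ext fun u => ?_⟩
    rw [tp_decomp u, map_sum, map_sum]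
    refine Finset.sum_congr rfl fun i _ => ?_
    rw [Matrix.toLin'_apply, kr_tp, Units.val_one, Matrix.one_mulVec,
      show (β : Matrix (Fin 3) (Fin 3) F) = A from rfl, hA]
    simp only [LinearMap.add_apply, Module.End.one_apply, LinearMap.smul_apply, SOp_apply, Pf_tp H₂.s,
      tp_add_right, tp_smul_right, tp_smul_left]
    module
  have hconj := El.conj hA hgM
  rw [← hG, ← hGi] at hconj
  have hSG : G * (SOp f₂ y 1 b + (-1 : F) • SOp f₂ b 1 y + ν • SOp f₂ b 1 b) * Gi =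
      SOp f₂ y (δ * α') b + (-1 : F) • SOp f₂ b (α * δ') y + SOp f₂ b (X * α' - α * X' + ν • (α * α')) b := by
    refine LinearMap.ext fun u => ?_
    simp only [Module.End.mul_apply, LinearMap.add_apply, LinearMap.smul_apply, SOp_apply, Module.End.one_apply,
      map_add, map_smul, hgy, hgb, hPb, hPy, LinearMap.sub_apply, sub_eq_add_neg, LinearMap.neg_apply, tp_add_left,
      tp_smul_left, show ∀ p : Fin k → F, tp (-p) b = (-1 : F) • tp p b from fun p => by rw [← tp_smul_left]; simp]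
    module
  rw [hSG] at hconj
  obtain ⟨r, hr⟩ := rad_scalar H₁ H₂ hH hM K₁ hb hyb hyy (hδadj.mul (hαadj.symm H₁.s)) hconj
  have hr0 : r ≠ 0 := by
    rintro rfl
    refine hv₀ (H₁.s.nd _ fun v => ?_)
    obtain ⟨p, rfl⟩ : ∃ p, α p = v₀ := hαs v₀
    have h1 : α' = 0 := LinearMap.ext fun x => hδinj (by
      rw [LinearMap.zero_apply, map_zero, ← Module.End.mul_apply, hr, zero_smul, LinearMap.zero_apply])
    rw [hαadj, h1, LinearMap.zero_apply, H₁.s.zero_right]
  have hαα : α' * α = (r * σ r) • 1 := LinearMap.ext fun v => sub_eq_zero.1 (H₁.s.nd _ fun x => by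
    obtain ⟨x', hx'⟩ := hδs (r • x)
    rw [H₁.s.sub_left, sub_eq_zero, Module.End.mul_apply, LinearMap.smul_apply, Module.End.one_apply,
      H₁.s.smul_left]
    have h2 : δ (α' (α v)) = r • α v := by
      rw [← Module.End.mul_apply, hr, LinearMap.smul_apply, Module.End.one_apply]
    have h3 : δ (α' x) = r • x := by rw [← Module.End.mul_apply, hr, LinearMap.smul_apply, Module.End.one_apply]
    have h4 := hδiso (α' (α v)) (α' x)
    rw [h2, h3, H₁.s.smul_left, H₁.s.smul_right, hαadj v x] at h4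
    have h5 : f₁ (α' (α v)) (α' x) = r * σ r * f₁ v (α' x) := by rw [← h4]; ring
    obtain ⟨y', rfl⟩ : ∃ y', α' y' = x := by
      refine LinearMap.surjective_of_injective (f := α') (fun p p' h => smul_right_injective (Fin k → F) hr0 ?_) x
      show r • p = r • p'
      rw [show r • p = (r • (1 : Module.End F (Fin k → F))) p from rfl,
        show r • p' = (r • (1 : Module.End F (Fin k → F))) p' from rfl, ← hr, Module.End.mul_apply,
        Module.End.mul_apply, h]
    have h6 := hδiso (α' (α v)) (α' y')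
    have h7 : δ (α' y') = r • y' := by rw [← Module.End.mul_apply, hr, LinearMap.smul_apply, Module.End.one_apply]
    rw [h2, h7, H₁.s.smul_left, H₁.s.smul_right, hαadj v y'] at h6
    rw [← h6]
    ring)
  set κ := r * σ r with hκ
  have hκ0 : κ ≠ 0 := mul_ne_zero hr0 ((map_ne_zero σ).2 hr0)
  have hδα : ∀ v, δ v = (r / κ) • α v := fun v => by
    have h : δ (κ • v) = r • α v := by
      rw [show κ • v = (κ • (1 : Module.End F (Fin k → F))) v from rfl, ← hαα, Module.End.mul_apply,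
        ← Module.End.mul_apply, hr, LinearMap.smul_apply, Module.End.one_apply]
    rw [map_smul] at h
    rw [div_eq_inv_mul, mul_smul, ← h, inv_smul_smul₀ hκ0]
  -- the Kronecker part
  have hAd : (LinearMap.toMatrix' α).det ≠ 0 := by
    intro h0
    obtain ⟨v, hv0, hv⟩ := Matrix.exists_mulVec_eq_zero_iff.mpr h0
    rw [← Matrix.toLin'_apply, Matrix.toLin'_toMatrix'] at hv
    exact hv0 (hαinj (by rw [hv, map_zero]))
  set αg := Matrix.GeneralLinearGroup.mkOfDetNeZero (LinearMap.toMatrix' α) hAd with hαg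
  have hαgv : ∀ v, (αg : Matrix (Fin k) (Fin k) F) *ᵥ v = α v := fun v => by
    show LinearMap.toMatrix' α *ᵥ v = α v
    rw [← Matrix.toLin'_apply, Matrix.toLin'_toMatrix']
  let Bm : Matrix (Fin 3) (Fin 3) F := Matrix.vecMulVec b (row f₂ e) +
    (r / κ / f₂ y y) • Matrix.vecMulVec y (row f₂ y) + κ⁻¹ • Matrix.vecMulVec e (row f₂ b)
  have hBm : ∀ x, Bm *ᵥ x = f₂ x e • b + (r / κ / f₂ y y * f₂ x y) • y + (κ⁻¹ * f₂ x b) • e := fun x => by
    simp only [Bm, Matrix.add_mulVec, Matrix.smul_mulVec, Matrix.vecMulVec_mulVec, op_smul_eq_smul, H₂.s.row_dot,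
      smul_smul]
  have hBd : Bm.det ≠ 0 := by
    intro h0
    obtain ⟨x, hx0, hx⟩ := Matrix.exists_mulVec_eq_zero_iff.mpr h0
    rw [hBm] at hx
    have e1 := congrArg (fun v => f₂ v e) hx
    have e2 := congrArg (fun v => f₂ v y) hx
    have e3 := congrArg (fun v => f₂ v b) hx
    simp [H₂.s.add_left, H₂.s.smul_left, H₂.s.zero_left, hbe, hye, he.2] at e1
    simp [H₂.s.add_left, H₂.s.smul_left, H₂.s.zero_left, hby, hey, hr0, hκ0, hyy] at e2
    simp [H₂.s.add_left, H₂.s.smul_left, H₂.s.zero_left, hb.2, hyb, heb, hκ0] at e3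
    exact hx0 (by rw [hdec x, e1, e2, e3]; simp)
  set βg := Matrix.GeneralLinearGroup.mkOfDetNeZero Bm hBd with hβg
  have hβv : ∀ x, (βg : Matrix (Fin 3) (Fin 3) F) *ᵥ x = Bm *ᵥ x := fun x => rfl
  have hκσ : σ κ = κ := by rw [hκ, map_mul, H₁.s.invol, mul_comm]
  have hkrT : ∀ u u', tForm σ f₁ f₂ ((kr αg βg : Matrix (Fin k × Fin 3) (Fin k × Fin 3) F) *ᵥ u)
      ((kr αg βg : Matrix (Fin k × Fin 3) (Fin k × Fin 3) F) *ᵥ u') = tForm σ f₁ f₂ u u' := by
    intro u u'
    rw [tp_decomp u, tp_decomp u']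
    simp only [Matrix.mulVec_sum, kr_tp, tForm_sum_left, TensorMax.tForm_sum_right, tForm_tp H₂.s H₁.s, hαgv, hβv]
    refine Finset.sum_congr rfl fun i _ => Finset.sum_congr rfl fun j _ => ?_
    generalize (fun q => u (_, q)) = p
    generalize (fun q => u' (_, q)) = p'
    have h1 : ∀ v v', f₁ (α v) (α v') = κ * f₁ v v' := fun v v' => by
      rw [hαadj, ← Module.End.mul_apply, hαα, LinearMap.smul_apply, Module.End.one_apply, H₁.s.smul_right, hκσ]
    have h2 : f₂ (Bm *ᵥ p) (Bm *ᵥ p') = κ⁻¹ * f₂ p p' := by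
      conv_rhs => rw [hdec p, hdec p']
      simp only [hBm, H₂.s.add_left, H₂.s.add_right, H₂.s.smul_left, H₂.s.smul_right, hb.2, he.2, hbe, heb, hyb,
        hye, hby, hey, mul_zero, mul_one, add_zero, zero_add, map_mul, map_div₀, map_inv₀, hκσ, H₂.conj_f,
        H₂.self_fixed]
      rw [hκ] at hκ0 ⊢
      have hσr := (map_ne_zero σ).2 hr0
      field_simp

    rw [h1, h2]
    field_simp
  set K := kr αg βg with hK
  set R := g * K⁻¹ with hR
  have hKi : ∀ v x, ((K⁻¹ : GL (Fin k × Fin 3) F) : Matrix (Fin k × Fin 3) (Fin k × Fin 3) F) *ᵥ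
      tp (α v) (Bm *ᵥ x) = tp v x := fun v x => by
    conv_lhs => rw [← hαgv, ← hβv, ← kr_tp, ← hK, inv_act_act]
  have hRpres : ∀ u u', tForm σ f₁ f₂ ((R : Matrix (Fin k × Fin 3) (Fin k × Fin 3) F) *ᵥ u)
      ((R : Matrix (Fin k × Fin 3) (Fin k × Fin 3) F) *ᵥ u') = tForm σ f₁ f₂ u u' := fun u u' => by
    rw [hR, mul_act, mul_act, (hM hgM).2, ← hkrT, act_inv_act, act_inv_act]
  have hRb : ∀ v, (R : Matrix (Fin k × Fin 3) (Fin k × Fin 3) F) *ᵥ tp v b = tp v b := fun v => by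
    obtain ⟨p, rfl⟩ := hαs v
    conv_lhs => rw [show b = Bm *ᵥ b by simp [hBm, hbe, hb.2, hby]]
    rw [hR, mul_act, hKi, ← Matrix.toLin'_apply, ← hG, hgb]
  set X₁ : Module.End F (Fin k → F) := (Pf f₂ k e).comp
    ((Matrix.toLin' (R : Matrix (Fin k × Fin 3) (Fin k × Fin 3) F)).comp (J y)) with hX₁
  have hRy : ∀ v, (R : Matrix (Fin k × Fin 3) (Fin k × Fin 3) F) *ᵥ tp v y = tp v y + tp (X₁ v) b := fun v => by
    have h1 : ∀ v, (R : Matrix (Fin k × Fin 3) (Fin k × Fin 3) F) *ᵥ tp v y =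
        tp v y + (κ / r) • tp (X ((α'.comp (κ⁻¹ • (1 : Module.End F (Fin k → F)))) v)) b := by
      intro v
      obtain ⟨p, rfl⟩ := hαs v
      have hy' : Bm *ᵥ y = (r / κ) • y := by
        simp [hBm, hye, hyb, div_mul_cancel₀ _ hyy]
      have : tp (α p) y = (κ / r) • tp (α p) (Bm *ᵥ y) := by
        rw [hy', tp_smul_right, smul_smul, div_mul_div_cancel₀ hr0, div_self hκ0, one_smul]
      have e : α' (κ⁻¹ • α p) = p := by
        rw [map_smul, ← Module.End.mul_apply, hαα, LinearMap.smul_apply, Module.End.one_apply, inv_smul_smul₀ hκ0]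
      conv_lhs => rw [this]
      rw [hR, Matrix.mulVec_smul, mul_act, hKi, ← Matrix.toLin'_apply, ← hG, hgy, hδα]
      simp only [LinearMap.comp_apply, LinearMap.smul_apply, Module.End.one_apply, e, smul_add, tp_smul_left,
        smul_smul, div_mul_div_cancel₀ hr0, div_self hκ0, one_smul]
    rw [hX₁]
    simp only [LinearMap.comp_apply, Matrix.toLin'_apply, J_apply, h1, map_add, map_smul, Pf_tp H₂.s, hye, hbe,
      zero_smul, zero_add, one_smul, tp_smul_left]
  set W : Module.End F (Fin k → F) := (f₂ y y)⁻¹ • (Pf f₂ k y).comp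
    ((Matrix.toLin' (R : Matrix (Fin k × Fin 3) (Fin k × Fin 3) F)).comp (J e)) with hW
  set Z : Module.End F (Fin k → F) := (Pf f₂ k e).comp
    ((Matrix.toLin' (R : Matrix (Fin k × Fin 3) (Fin k × Fin 3) F)).comp (J e)) with hZ
  have hRe : ∀ v, (R : Matrix (Fin k × Fin 3) (Fin k × Fin 3) F) *ᵥ tp v e = tp v e + tp (W v) y + tp (Z v) b := by
    intro v
    have h0 : Pf f₂ k b ((R : Matrix (Fin k × Fin 3) (Fin k × Fin 3) F) *ᵥ tp v e) = v :=
      sub_eq_zero.1 (H₁.s.nd _ fun x => by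
        rw [H₁.s.sub_left, ← tForm_right H₂.s H₁.s, ← hRb, hRpres, tForm_tp H₂.s H₁.s, heb, mul_one, sub_self])
    conv_lhs => rw [hudec ((R : Matrix (Fin k × Fin 3) (Fin k × Fin 3) F) *ᵥ tp v e), h0]
    simp only [hW, hZ, LinearMap.smul_apply, LinearMap.comp_apply, Matrix.toLin'_apply, J_apply]
    abel
  have hWadj : IsAdj f₁ W (-((f₂ y y)⁻¹ • X₁)) := by
    intro v x
    have h := hRpres (tp v e) (tp x y)
    rw [hRe, hRy] at h
    simp only [tForm_add_left, TensorMax.tForm_add_right, tForm_tp H₂.s H₁.s, hey, heb, hyb, hb.2, hby] at h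
    simp only [LinearMap.neg_apply, LinearMap.smul_apply, H₁.s.neg_right, H₁.s.smul_right, map_inv₀, H₂.self_fixed]
    field_simp
    linear_combination h
  have hZeq : ∀ v x, f₁ (Z v) x + f₁ v (Z x) + f₂ y y * f₁ (W v) (W x) = 0 := by
    intro v x
    have h := hRpres (tp v e) (tp x e)
    rw [hRe, hRe] at h
    simp only [tForm_add_left, TensorMax.tForm_add_right, tForm_tp H₂.s H₁.s, he.2, hb.2, hey, hye, hyb, hby, heb,
      hbe, mul_zero, mul_one, add_zero, zero_add] at h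
    linear_combination h
  have hRlin : Matrix.toLin' (R : Matrix (Fin k × Fin 3) (Fin k × Fin 3) F) =
      1 + (SOp f₂ y W b + (-1 : F) • SOp f₂ b (-((f₂ y y)⁻¹ • X₁)) y + SOp f₂ b Z b) := by
    refine LinearMap.ext fun u => ?_
    rw [Matrix.toLin'_apply]
    conv_lhs => rw [hudec u, Matrix.mulVec_add, Matrix.mulVec_add, hRb, hRy, hRe]
    conv_rhs => enter [2]; rw [hudec u]
    simp only [LinearMap.add_apply, Module.End.one_apply, LinearMap.smul_apply, SOp_apply, LinearMap.neg_apply,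
      map_add, map_smul, map_zero, tp_zero_left, Pf_tp H₂.s, hb.2, hyb, hby, heb, hey, zero_smul, one_smul, smul_zero, add_zero, zero_add,
      smul_inv_smul₀ hyy, inv_smul_smul₀ hyy,
      show ∀ p : Fin k → F, tp (-p) b = (-1 : F) • tp p b from fun p => by rw [← tp_smul_left]; simp, tp_smul_left]
    match_scalars <;> field_simp
  have hKM : K ∈ M := by
    refine hH ⟨kr_mem _ _, ?_, hkrT⟩
    have h1 := (hM hgM).1
    rw [show g = R * K by rw [hR, inv_mul_cancel_right], Units.val_mul, Matrix.det_mul] at h1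
    have h0 : (R : Matrix (Fin k × Fin 3) (Fin k × Fin 3) F).det = 1 := by
      set N := SOp f₂ y W b + (-1 : F) • SOp f₂ b (-((f₂ y y)⁻¹ • X₁)) y + SOp f₂ b Z b with hN
      rw [show (R : Matrix (Fin k × Fin 3) (Fin k × Fin 3) F) = 1 + LinearMap.toMatrix' N from
        Matrix.toLin'.injective (by rw [hRlin, map_add, Matrix.toLin'_one, Matrix.toLin'_toMatrix']; rfl)]
      refine det_unipotent _ ?_
      rw [pow_three, ← LinearMap.toMatrix'_mul, ← LinearMap.toMatrix'_mul, hN]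
      simp only [mul_add, add_mul, smul_mul_assoc, mul_smul_comm, SOp_mul H₂.s, hb.2, hyb, hby, zero_smul,
        smul_zero, add_zero, zero_add, map_zero]
    rwa [h0, one_mul] at h1
  have hRM : R ∈ M := M.mul_mem hgM (M.inv_mem hKM)
  rw [show g = R * K by rw [hR, inv_mul_cancel_right]]
  exact Subgroup.mul_mem _ (rad_kron H₁ H₂ hH hM K₁ hb hyb hyy hWadj hZeq hRM hRlin) (kr_mem _ _)

end Cfsg.Agent.TensorUnitLow74
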