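import Cfsg.Agent.Lib.TensorWreath43Wreath

/-!
Adjoints and contractions on a tensor power of a symplectic space.
-/

set_option autoImplicit false
set_option linter.unusedSectionVars false

namespace Cfsg.Agent.TensorWreath43

open scoped Matrix

variable {F : Type*} [Field F] {t m : ℕ}

/-- A non-degenerate alternating Gram matrix. -/
structure SG (G : Matrix (Fin m) (Fin m) F) : Prop where
  skew : Gᵀ = -G
  alt : ∀ u : Fin m → F, u ⬝ᵥ (G *ᵥ u) = 0
  unit : IsUnit G.det

/-- The bilinear form of a Gram matrix. -/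
def fG (G : Matrix (Fin m) (Fin m) F) (u v : Fin m → F) : F := u ⬝ᵥ (G *ᵥ v)

/-- The operator `x ↦ f(x, v) u`. -/
def Eop (G : Matrix (Fin m) (Fin m) F) (u v : Fin m → F) : Matrix (Fin m) (Fin m) F :=
  Matrix.vecMulVec u (G *ᵥ v)

/-- The adjoint at one position. -/
noncomputable def adjG (G : Matrix (Fin m) (Fin m) F) (Z : Matrix (Fin m) (Fin m) F) : Matrix (Fin m) (Fin m) F :=
  G⁻¹ * Zᵀ * G

variable {G : Matrix (Fin m) (Fin m) F}

theorem fG_add_left (u u' v : Fin m → F) : fG G (u + u') v = fG G u v + fG G u' v := add_dotProduct _ _ _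

theorem fG_add_right (u v v' : Fin m → F) : fG G u (v + v') = fG G u v + fG G u v' := by
  rw [fG, Matrix.mulVec_add, dotProduct_add]; rfl

theorem fG_smul_left (c : F) (u v : Fin m → F) : fG G (c • u) v = c * fG G u v := smul_dotProduct _ _ _

theorem fG_smul_right (c : F) (u v : Fin m → F) : fG G u (c • v) = c * fG G u v := by
  rw [fG, Matrix.mulVec_smul, dotProduct_smul]; rfl

theorem SG.swap (hG : SG G) (u v : Fin m → F) : fG G u v = -fG G v u := by
  have h : fG G (u + v) (u + v) = 0 := hG.alt _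
  rw [fG_add_left, fG_add_right, fG_add_right, show fG G u u = 0 from hG.alt u,
    show fG G v v = 0 from hG.alt v] at h
  linear_combination h

theorem SG.self (hG : SG G) (u : Fin m → F) : fG G u u = 0 := hG.alt u

theorem SG.swap_zero (hG : SG G) {u v : Fin m → F} (h : fG G u v = 0) : fG G v u = 0 := by
  rw [hG.swap, h, neg_zero]

theorem SG.inv_mul (hG : SG G) : G⁻¹ * G = 1 := Matrix.nonsing_inv_mul _ hG.unit

theorem SG.mul_inv (hG : SG G) : G * G⁻¹ = 1 := Matrix.mul_nonsing_inv _ hG.unit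

theorem SG.inv_transpose (hG : SG G) : G⁻¹ᵀ = -G⁻¹ := by
  rw [Matrix.transpose_nonsing_inv, hG.skew]
  exact Matrix.inv_eq_left_inv (by rw [neg_mul_neg, hG.inv_mul])

theorem SG.isSymplecticForm (hG : SG G) : Cfsg.Geo.IsSymplecticForm (fG G) := by
  refine ⟨⟨fG_add_left, fG_smul_left, fG_add_right, fun c x y => fG_smul_right c x y⟩, hG.swap, hG.self,
    fun v hv => ?_⟩
  have hne : ∃ j, (G *ᵥ v) j ≠ 0 := by
    by_contra! h
    refine hv ?_
    rw [← Matrix.one_mulVec v, ← hG.inv_mul, ← Matrix.mulVec_mulVec, show G *ᵥ v = 0 from funext h,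
      Matrix.mulVec_zero]
  obtain ⟨j, hj⟩ := hne
  have h1 : fG G (Pi.single j 1) v ≠ 0 := by rwa [fG, single_dotProduct, one_mul]
  exact ⟨⟨_, h1⟩, ⟨_, fun h => h1 (hG.swap_zero h)⟩⟩

theorem SG.exists_left (hG : SG G) {v : Fin m → F} (hv : v ≠ 0) : ∃ u, fG G u v = 1 := by
  obtain ⟨x, hx⟩ := (hG.isSymplecticForm.nondegenerate v hv).1
  exact ⟨(fG G x v)⁻¹ • x, by rw [fG_smul_left, inv_mul_cancel₀ hx]⟩

theorem SG.eq_zero_of_left (hG : SG G) {v : Fin m → F} (h : ∀ u, fG G u v = 0) : v = 0 := by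
  by_contra hv
  obtain ⟨u, hu⟩ := hG.exists_left hv
  exact one_ne_zero ((h u) ▸ hu).symm

theorem Eop_mulVec (u v x : Fin m → F) : Eop G u v *ᵥ x = fG G x v • u := by
  funext p
  simp [Eop, fG, Matrix.mulVec, Matrix.vecMulVec_apply, dotProduct, Finset.mul_sum, Finset.sum_mul]
  exact Finset.sum_congr rfl fun i _ => Finset.sum_congr rfl fun j _ => by ring

theorem Eop_mul (u v a b : Fin m → F) : Eop G u v * Eop G a b = fG G a v • Eop G u b := by
  refine Matrix.ext_iff_mulVec.mpr fun x => ?_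
  rw [← Matrix.mulVec_mulVec, Eop_mulVec, Eop_mulVec, fG_smul_left, Matrix.smul_mulVec, Eop_mulVec, smul_smul,
    mul_comm]

theorem mul_Eop (Z : Matrix (Fin m) (Fin m) F) (u v : Fin m → F) : Z * Eop G u v = Eop G (Z *ᵥ u) v := by
  refine Matrix.ext_iff_mulVec.mpr fun x => ?_
  rw [← Matrix.mulVec_mulVec, Eop_mulVec, Eop_mulVec, Matrix.mulVec_smul]

theorem SG.fG_adj (hG : SG G) (Z : Matrix (Fin m) (Fin m) F) (u v : Fin m → F) :
    fG G u (adjG G Z *ᵥ v) = fG G (Z *ᵥ u) v := by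
  rw [fG, fG, Matrix.mulVec_mulVec, adjG, ← mul_assoc, ← mul_assoc, hG.mul_inv, one_mul, ← Matrix.mulVec_mulVec,
    Matrix.dotProduct_mulVec, Matrix.vecMul_transpose]

theorem SG.Eop_mul' (hG : SG G) (Z : Matrix (Fin m) (Fin m) F) (u v : Fin m → F) :
    Eop G u v * Z = Eop G u (adjG G Z *ᵥ v) := by
  refine Matrix.ext_iff_mulVec.mpr fun x => ?_
  rw [← Matrix.mulVec_mulVec, Eop_mulVec, Eop_mulVec, hG.fG_adj]

theorem Eop_add_left (u u' v : Fin m → F) : Eop G (u + u') v = Eop G u v + Eop G u' v :=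
  Matrix.add_vecMulVec _ _ _

theorem Eop_add_right (u v v' : Fin m → F) : Eop G u (v + v') = Eop G u v + Eop G u v' := by
  rw [Eop, Matrix.mulVec_add, Matrix.vecMulVec_add]; rfl

theorem Eop_smul_left (c : F) (u v : Fin m → F) : Eop G (c • u) v = c • Eop G u v := Matrix.smul_vecMulVec _ _ _

theorem Eop_smul_right (c : F) (u v : Fin m → F) : Eop G u (c • v) = c • Eop G u v := by
  rw [Eop, Matrix.mulVec_smul, Matrix.vecMulVec_smul]; rfl

theorem SG.adjG_Eop (hG : SG G) (u v : Fin m → F) : adjG G (Eop G u v) = -Eop G v u := by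
  rw [adjG, Eop, Matrix.transpose_vecMulVec, Matrix.mul_vecMulVec, Matrix.vecMulVec_mul, Matrix.mulVec_mulVec,
    hG.inv_mul, Matrix.one_mulVec, Eop, ← Matrix.vecMulVec_neg]
  congr 1
  rw [← Matrix.mulVec_transpose, hG.skew, Matrix.neg_mulVec]

theorem SG.adjG_mul (hG : SG G) (Y Z : Matrix (Fin m) (Fin m) F) : adjG G (Y * Z) = adjG G Z * adjG G Y := by
  simp only [adjG, Matrix.transpose_mul, mul_assoc]
  rw [← mul_assoc G G⁻¹, hG.mul_inv, one_mul]

theorem SG.adjG_one (hG : SG G) : adjG G 1 = 1 := by rw [adjG, Matrix.transpose_one, mul_one, hG.inv_mul]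

theorem adjG_add (Y Z : Matrix (Fin m) (Fin m) F) : adjG G (Y + Z) = adjG G Y + adjG G Z := by
  simp [adjG, mul_add, add_mul]

theorem adjG_neg (Z : Matrix (Fin m) (Fin m) F) : adjG G (-Z) = -adjG G Z := by simp [adjG]

theorem adjG_smul (c : F) (Z : Matrix (Fin m) (Fin m) F) : adjG G (c • Z) = c • adjG G Z := by simp [adjG]

theorem SG.adjG_adjG (hG : SG G) (Z : Matrix (Fin m) (Fin m) F) : adjG G (adjG G Z) = Z := by
  rw [adjG, adjG, Matrix.transpose_mul, Matrix.transpose_mul, Matrix.transpose_transpose, hG.inv_transpose, hG.skew]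
  simp only [neg_mul, mul_neg, neg_neg]
  rw [← mul_assoc, ← mul_assoc, hG.inv_mul, one_mul, mul_assoc, hG.inv_mul, mul_one]

/-- The adjoint on the tensor power. -/
noncomputable def adjT (G : Matrix (Fin m) (Fin m) F) (Z : Matrix (TI t m) (TI t m) F) : Matrix (TI t m) (TI t m) F :=
  pureT (fun _ => G⁻¹) * Zᵀ * pureT (fun _ => G)

theorem pureT_transpose (η : Fin t → Matrix (Fin m) (Fin m) F) : (pureT η)ᵀ = pureT fun i => (η i)ᵀ := rfl

theorem SG.pureT_inv_mul (hG : SG G) :
    pureT (fun _ : Fin t => G⁻¹) * pureT (fun _ => G) = (1 : Matrix (TI t m) (TI t m) F) := by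
  rw [pureT_mul, ← pureT_one]; congr 1; funext i; exact hG.inv_mul

theorem SG.pureT_mul_inv (hG : SG G) :
    pureT (fun _ : Fin t => G) * pureT (fun _ => G⁻¹) = (1 : Matrix (TI t m) (TI t m) F) := by
  rw [pureT_mul, ← pureT_one]; congr 1; funext i; exact hG.mul_inv

theorem SG.adjT_mul (hG : SG G) (Y Z : Matrix (TI t m) (TI t m) F) : adjT G (Y * Z) = adjT G Z * adjT G Y := by
  simp only [adjT, Matrix.transpose_mul, mul_assoc]
  rw [← mul_assoc (pureT fun _ => G) (pureT fun _ => G⁻¹), hG.pureT_mul_inv, one_mul]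

theorem SG.adjT_one (hG : SG G) : adjT G (1 : Matrix (TI t m) (TI t m) F) = 1 := by
  rw [adjT, Matrix.transpose_one, mul_one, hG.pureT_inv_mul]

theorem adjT_add (Y Z : Matrix (TI t m) (TI t m) F) : adjT G (Y + Z) = adjT G Y + adjT G Z := by
  simp [adjT, mul_add, add_mul]

theorem adjT_neg (Z : Matrix (TI t m) (TI t m) F) : adjT G (-Z) = -adjT G Z := by simp [adjT]

theorem adjT_sub (Y Z : Matrix (TI t m) (TI t m) F) : adjT G (Y - Z) = adjT G Y - adjT G Z := by
  rw [sub_eq_add_neg, sub_eq_add_neg, adjT_add, adjT_neg]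

theorem adjT_smul (c : F) (Z : Matrix (TI t m) (TI t m) F) : adjT G (c • Z) = c • adjT G Z := by simp [adjT]

theorem adjT_pureT (η : Fin t → Matrix (Fin m) (Fin m) F) : adjT G (pureT η) = pureT fun i => adjG G (η i) := by
  rw [adjT, pureT_transpose, pureT_mul, pureT_mul]
  rfl

theorem SG.adjT_lift (hG : SG G) (j : Fin t) (η : Matrix (Fin m) (Fin m) F) :
    adjT G (lift j η) = lift j (adjG G η) := by
  rw [← pureT_update_eq_lift, ← pureT_update_eq_lift, adjT_pureT]
  congr 1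
  funext i
  by_cases hi : i = j
  · subst hi; simp
  · simp [hi, hG.adjG_one]

theorem pureT_smul_fun (c : F) (η : Fin t → Matrix (Fin m) (Fin m) F) :
    pureT (fun i => c • η i) = c ^ t • pureT η := by
  ext x y
  simp [pureT, Finset.prod_mul_distrib]

theorem SG.adjT_adjT (hG : SG G) (Z : Matrix (TI t m) (TI t m) F) : adjT G (adjT G Z) = Z := by
  have e1 : (pureT fun _ : Fin t => G)ᵀ = ((-1 : F) ^ t) • pureT fun _ => G := by
    rw [pureT_transpose, ← pureT_smul_fun]; simp [hG.skew]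
  have e2 : (pureT fun _ : Fin t => G⁻¹)ᵀ = ((-1 : F) ^ t) • pureT fun _ => G⁻¹ := by
    rw [pureT_transpose, ← pureT_smul_fun]; simp [hG.inv_transpose]
  rw [adjT, adjT, Matrix.transpose_mul, Matrix.transpose_mul, Matrix.transpose_transpose, e1, e2]
  simp only [Matrix.smul_mul, Matrix.mul_smul, smul_smul]
  rw [← mul_assoc, ← mul_assoc, hG.pureT_inv_mul, one_mul, mul_assoc, hG.pureT_inv_mul, mul_one, ← mul_pow]
  simp

theorem Comm.mul {j : Fin t} {A B : Matrix (TI t m) (TI t m) F} (hA : Comm j A) (hB : Comm j B) : Comm j (A * B) :=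
  fun η => by rw [← mul_assoc, hA, mul_assoc, hB, mul_assoc]

theorem Comm.add {j : Fin t} {A B : Matrix (TI t m) (TI t m) F} (hA : Comm j A) (hB : Comm j B) : Comm j (A + B) :=
  fun η => by rw [mul_add, hA, hB, add_mul]

theorem Comm.sub {j : Fin t} {A B : Matrix (TI t m) (TI t m) F} (hA : Comm j A) (hB : Comm j B) : Comm j (A - B) :=
  fun η => by rw [mul_sub, hA, hB, sub_mul]

theorem Comm.smul {j : Fin t} {A : Matrix (TI t m) (TI t m) F} (hA : Comm j A) (c : F) : Comm j (c • A) :=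
  fun η => by rw [Matrix.mul_smul, hA, Matrix.smul_mul]

theorem comm_one (j : Fin t) : Comm j (1 : Matrix (TI t m) (TI t m) F) := fun η => by rw [mul_one, one_mul]

theorem comm_lift {i j : Fin t} (h : i ≠ j) (η : Matrix (Fin m) (Fin m) F) : Comm j (lift i η) :=
  fun ξ => lift_comm h.symm ξ η

theorem comm_sum {κ : Type*} {j : Fin t} (s : Finset κ) (A : κ → Matrix (TI t m) (TI t m) F)
    (h : ∀ l ∈ s, Comm j (A l)) : Comm j (∑ l ∈ s, A l) :=
  fun η => by rw [Finset.mul_sum, Finset.sum_mul]; exact Finset.sum_congr rfl fun l hl => h l hl η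

theorem SG.adjT_comm (hG : SG G) {j : Fin t} {A : Matrix (TI t m) (TI t m) F} (hA : Comm j A) : Comm j (adjT G A) := by
  intro η
  have h := congrArg (adjT G) (hA (adjG G η))
  rwa [hG.adjT_mul, hG.adjT_mul, hG.adjT_lift, hG.adjG_adjG, eq_comm] at h

/-- The coefficient of a matrix at the position `i` along a row and a column. -/
def cn (i : Fin t) (r v : Fin m → F) (Z : Matrix (TI t m) (TI t m) F) : Matrix (TI t m) (TI t m) F :=
  ∑ l, lift i (Matrix.vecMulVec (Pi.single l 1) r) * Z * lift i (Matrix.vecMulVec v (Pi.single l 1))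

theorem lift_sum (i : Fin t) {κ : Type*} (s : Finset κ) (η : κ → Matrix (Fin m) (Fin m) F) :
    lift i (∑ l ∈ s, η l) = ∑ l ∈ s, lift i (η l) :=
  map_sum (liftHom (F := F) i) η s

theorem sum_smul_single (v : Fin m → F) : ∑ l, v l • (Pi.single l (1 : F) : Fin m → F) = v := by
  funext p
  simp [Pi.single_apply]

theorem sum_smul_vecMulVec (u s : Fin m → F) :
    ∑ l, s l • Matrix.vecMulVec u (Pi.single l (1 : F)) = Matrix.vecMulVec u s := by
  ext p q
  simp [Matrix.sum_apply, Matrix.vecMulVec_apply, Pi.single_apply, mul_comm]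

theorem lift_mul_cn (i : Fin t) (u s r v : Fin m → F) (Z : Matrix (TI t m) (TI t m) F) :
    lift i (Matrix.vecMulVec u s) * cn i r v Z =
      lift i (Matrix.vecMulVec u r) * Z * lift i (Matrix.vecMulVec v s) := by
  rw [cn, Finset.mul_sum, ← sum_smul_vecMulVec v s, lift_sum, Finset.mul_sum]
  refine Finset.sum_congr rfl fun l _ => ?_
  rw [← mul_assoc, ← mul_assoc, ← lift_mul, Matrix.vecMulVec_mul_vecMulVec, lift_smul, Matrix.mul_smul,
    dotProduct_single, mul_one, Matrix.vecMulVec_smul, lift_smul, Matrix.smul_mul, Matrix.smul_mul]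

theorem cn_mul_lift (i : Fin t) (u s r v : Fin m → F) (Z : Matrix (TI t m) (TI t m) F) :
    cn i r v Z * lift i (Matrix.vecMulVec u s) =
      lift i (Matrix.vecMulVec u r) * Z * lift i (Matrix.vecMulVec v s) := by
  have e : lift i (Matrix.vecMulVec u r) = ∑ l, u l • lift i (Matrix.vecMulVec (Pi.single l 1) r) := by
    simp only [← lift_smul, ← lift_sum]
    congr 1
    ext p q
    simp [Matrix.sum_apply, Matrix.vecMulVec_apply, Pi.single_apply]
  rw [cn, Finset.sum_mul, e, Finset.sum_mul, Finset.sum_mul]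
  refine Finset.sum_congr rfl fun l _ => ?_
  rw [mul_assoc, ← lift_mul, Matrix.vecMulVec_mul_vecMulVec, single_dotProduct, one_mul, Matrix.vecMulVec_smul,
    lift_smul, Matrix.mul_smul, Matrix.smul_mul, Matrix.smul_mul]

theorem single_eq_vec (a b : Fin m) :
    Matrix.single a b (1 : F) = Matrix.vecMulVec (Pi.single a 1) (Pi.single b 1) := by
  ext p q
  by_cases h1 : p = a <;> by_cases h2 : q = b <;> simp [Matrix.vecMulVec_apply, h1, h2, Ne.symm]

theorem sum_vec_single : ∑ p : Fin m, Matrix.vecMulVec (Pi.single p (1 : F)) (Pi.single p 1) = 1 := by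
  ext a b
  simp [Matrix.sum_apply, Matrix.vecMulVec_apply, Pi.single_apply, Matrix.one_apply, eq_comm]

theorem comm_cn (i : Fin t) (r v : Fin m → F) (Z : Matrix (TI t m) (TI t m) F) : Comm i (cn i r v Z) :=
  comm_of_singles fun a b => by
    rw [single_eq_vec, lift_mul_cn, cn_mul_lift]

theorem comm_cn_of_comm {i j : Fin t} (h : i ≠ j) (r v : Fin m → F) {Z : Matrix (TI t m) (TI t m) F}
    (hZ : Comm j Z) : Comm j (cn i r v Z) :=
  comm_sum _ _ fun _ _ => ((comm_lift h _).mul hZ).mul (comm_lift h _)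

theorem cn_comm_mul {i : Fin t} {C : Matrix (TI t m) (TI t m) F} (hC : Comm i C) (r v : Fin m → F)
    (Z : Matrix (TI t m) (TI t m) F) : cn i r v (C * Z) = C * cn i r v Z := by
  rw [cn, cn, Finset.mul_sum]
  refine Finset.sum_congr rfl fun l _ => ?_
  rw [← mul_assoc, hC]; simp only [mul_assoc]

theorem cn_lift (i : Fin t) (r v : Fin m → F) (η : Matrix (Fin m) (Fin m) F) :
    cn i r v (lift i η) = (r ⬝ᵥ (η *ᵥ v)) • (1 : Matrix (TI t m) (TI t m) F) := by
  rw [cn, ← lift_one i, ← lift_smul]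
  simp only [← lift_mul, ← lift_sum]
  congr 1
  rw [← sum_vec_single, Finset.smul_sum]
  refine Finset.sum_congr rfl fun l _ => ?_
  rw [mul_assoc, Matrix.mul_vecMulVec, Matrix.vecMulVec_mul_vecMulVec, Matrix.vecMulVec_smul]

theorem cn_lift_mul {i : Fin t} {C : Matrix (TI t m) (TI t m) F} (hC : Comm i C) (r v : Fin m → F)
    (η : Matrix (Fin m) (Fin m) F) : cn i r v (lift i η * C) = (r ⬝ᵥ (η *ᵥ v)) • C := by
  rw [hC, cn_comm_mul hC, cn_lift, Matrix.mul_smul, mul_one]

theorem cn_add_row (i : Fin t) (r r' v : Fin m → F) (Z : Matrix (TI t m) (TI t m) F) :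
    cn i (r + r') v Z = cn i r v Z + cn i r' v Z := by
  simp only [cn, Matrix.vecMulVec_add, lift_add, add_mul, Finset.sum_add_distrib]

theorem cn_add_col (i : Fin t) (r v v' : Fin m → F) (Z : Matrix (TI t m) (TI t m) F) :
    cn i r (v + v') Z = cn i r v Z + cn i r v' Z := by
  simp only [cn, Matrix.add_vecMulVec, lift_add, mul_add, Finset.sum_add_distrib]

theorem cn_smul_row (i : Fin t) (c : F) (r v : Fin m → F) (Z : Matrix (TI t m) (TI t m) F) :
    cn i (c • r) v Z = c • cn i r v Z := by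
  simp only [cn, Matrix.vecMulVec_smul, lift_smul, Matrix.smul_mul, Finset.smul_sum]

theorem cn_smul_col (i : Fin t) (c : F) (r v : Fin m → F) (Z : Matrix (TI t m) (TI t m) F) :
    cn i r (c • v) Z = c • cn i r v Z := by
  simp only [cn, Matrix.smul_vecMulVec, lift_smul, Matrix.mul_smul, Finset.smul_sum]

theorem cn_sub (i : Fin t) (r v : Fin m → F) (Y Z : Matrix (TI t m) (TI t m) F) :
    cn i r v (Y - Z) = cn i r v Y - cn i r v Z := by
  simp only [cn, mul_sub, sub_mul, Finset.sum_sub_distrib]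

theorem lift_decomp (i : Fin t) (Z : Matrix (TI t m) (TI t m) F) :
    Z = ∑ p, ∑ q, lift i (Matrix.single p q 1) * cn i (Pi.single p 1) (Pi.single q 1) Z := by
  simp only [single_eq_vec, lift_mul_cn]
  simp only [← Finset.mul_sum, ← Finset.sum_mul, ← lift_sum, sum_vec_single, lift_one, one_mul, mul_one]

theorem eq_zero_of_cn (i : Fin t) {Z : Matrix (TI t m) (TI t m) F} (h : ∀ r v, cn i r v Z = 0) : Z = 0 := by
  rw [lift_decomp i Z]
  simp [h]

theorem eq_zero_of_lift_mul {i : Fin t} {η : Matrix (Fin m) (Fin m) F} (hη : η ≠ 0)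
    {C : Matrix (TI t m) (TI t m) F} (hC : Comm i C) (h : lift i η * C = 0) : C = 0 := by
  obtain ⟨p, q, hpq⟩ : ∃ p q, η p q ≠ 0 := by
    by_contra! h0
    exact hη (Matrix.ext h0)
  have e := cn_lift_mul hC (Pi.single p 1) (Pi.single q 1) η
  rw [h, show cn i (Pi.single p (1 : F)) (Pi.single q 1) (0 : Matrix (TI t m) (TI t m) F) = 0 by simp [cn]] at e
  rw [single_dotProduct, one_mul, Matrix.mulVec_single, MulOpposite.op_one, one_smul, Matrix.col_apply] at e
  exact (smul_eq_zero.1 e.symm).resolve_left hpq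

/-- The contraction at the position `i` against two vectors. -/
def ct (G : Matrix (Fin m) (Fin m) F) (i : Fin t) (a b : Fin m → F) (Z : Matrix (TI t m) (TI t m) F) :
    Matrix (TI t m) (TI t m) F :=
  cn i (G *ᵥ a) b Z

theorem lift_Eop_mul_ct (i : Fin t) (u v a b : Fin m → F) (Z : Matrix (TI t m) (TI t m) F) :
    lift i (Eop G u v) * ct G i a b Z = lift i (Eop G u a) * Z * lift i (Eop G b v) :=
  lift_mul_cn i _ _ _ _ Z

theorem ct_lift_mul {i : Fin t} {C : Matrix (TI t m) (TI t m) F} (hC : Comm i C) (a b : Fin m → F)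
    (η : Matrix (Fin m) (Fin m) F) : ct G i a b (lift i η * C) = fG G (η *ᵥ b) a • C := by
  rw [ct, cn_lift_mul hC, dotProduct_comm]; rfl

theorem SG.eq_zero_of_ct (hG : SG G) (i : Fin t) {Z : Matrix (TI t m) (TI t m) F}
    (h : ∀ a b, ct G i a b Z = 0) : Z = 0 :=
  eq_zero_of_cn i fun r v => by
    have := h (G⁻¹ *ᵥ r) v
    rwa [ct, Matrix.mulVec_mulVec, hG.mul_inv, Matrix.one_mulVec] at this

end Cfsg.Agent.TensorWreath43
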