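import Mathlib

/-!
Block matrices over `Matrix κ κ F` for the study of overgroups of tensor wreath products:
scalar blocks, row-zero elements, conjugates of root elements, and Kronecker-shaped elements.
-/

set_option autoImplicit false
set_option linter.unusedSectionVars false

namespace Cfsg.Agent.TensorWreath43

open scoped Matrix

variable {F : Type*} [Field F] {κ : Type} [Fintype κ] [DecidableEq κ] {m : ℕ} [NeZero m]

/-- `m × m` matrices of blocks. -/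
abbrev BM (F : Type*) (κ : Type) (m : ℕ) := Matrix (Fin m) (Fin m) (Matrix κ κ F)

/-- The scalar-block embedding. -/
def sc : Matrix (Fin m) (Fin m) F →+* BM F κ m := (algebraMap F (Matrix κ κ F)).mapMatrix

theorem sc_apply (η : Matrix (Fin m) (Fin m) F) (k l : Fin m) :
    (sc η : BM F κ m) k l = η k l • (1 : Matrix κ κ F) := by
  rw [← Algebra.algebraMap_eq_smul_one]; rfl

/-- The scalar-block embedding on units. -/
def scU : GL (Fin m) F →* (BM F κ m)ˣ := Units.map (sc (F := F) (κ := κ) (m := m)).toMonoidHom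

theorem scU_val (η : GL (Fin m) F) : ((scU η : (BM F κ m)ˣ) : BM F κ m) = sc (η : Matrix (Fin m) (Fin m) F) := rfl

/-- The row-zero element attached to `φ`. -/
def X (φ : Fin m → F) : BM F κ m := sc (Matrix.vecMulVec (Pi.single 0 1) φ)

theorem X_apply (φ : Fin m → F) (k l : Fin m) :
    (X φ : BM F κ m) k l = if k = 0 then φ l • (1 : Matrix κ κ F) else 0 := by
  rw [X, sc_apply, Matrix.vecMulVec_apply]
  split_ifs with h
  · simp [h]
  · simp [h]

theorem X_mul_apply (φ : Fin m → F) (Z : BM F κ m) (k l : Fin m) :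
    ((X φ : BM F κ m) * Z) k l = if k = 0 then ∑ i, φ i • Z i l else 0 := by
  rw [Matrix.mul_apply]
  split_ifs with h
  · exact Finset.sum_congr rfl fun i _ => by rw [X_apply, if_pos h, Matrix.smul_mul, one_mul]
  · exact Finset.sum_eq_zero fun i _ => by rw [X_apply, if_neg h, zero_mul]

theorem mul_rowZero_apply (Z A : BM F κ m) (hA : ∀ i, i ≠ 0 → ∀ l, A i l = 0) (k l : Fin m) :
    (Z * A) k l = Z k 0 * A 0 l := by
  rw [Matrix.mul_apply, Finset.sum_eq_single (0 : Fin m) (fun i _ hi => by rw [hA i hi, mul_zero]) (by simp)]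

theorem mul_X_apply (φ : Fin m → F) (Z : BM F κ m) (k l : Fin m) :
    (Z * (X φ : BM F κ m)) k l = φ l • Z k 0 := by
  rw [mul_rowZero_apply _ _ (fun i hi l => by rw [X_apply, if_neg hi]), X_apply, if_pos rfl, Matrix.mul_smul, mul_one]

theorem X_mul_X {φ : Fin m → F} (hφ : φ 0 = 0) (ψ : Fin m → F) : (X φ * X ψ : BM F κ m) = 0 := by
  ext k l : 1
  rw [mul_X_apply, X_apply]
  split_ifs <;> simp [hφ]

theorem X_add (φ ψ : Fin m → F) : (X (φ + ψ) : BM F κ m) = X φ + X ψ := by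
  rw [X, Matrix.vecMulVec_add, map_add]; rfl

theorem X_neg (φ : Fin m → F) : (X (-φ) : BM F κ m) = - X φ := by
  rw [X, Matrix.vecMulVec_neg, map_neg]; rfl

theorem X_zero : (X 0 : BM F κ m) = 0 := by
  rw [X, Matrix.vecMulVec_zero, map_zero]

theorem X_ne_zero [Nonempty κ] {φ : Fin m → F} (hφ : φ ≠ 0) : (X φ : BM F κ m) ≠ 0 := by
  intro h
  obtain ⟨l, hl⟩ := Function.ne_iff.1 hφ
  have := congrFun (congrFun h 0) l
  rw [X_apply, if_pos rfl] at this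
  exact hl (by simpa using congrFun (congrFun this (Classical.arbitrary κ)) (Classical.arbitrary κ))

/-- The root element `1 + X φ` (for `φ 0 = 0`; otherwise `1`). -/
noncomputable def xU (φ : Fin m → F) : (BM F κ m)ˣ :=
  open Classical in
  if h : φ 0 = 0 then
    ⟨1 + X φ, 1 - X φ,
      by rw [add_mul, one_mul, mul_sub, mul_one, X_mul_X h]; abel,
      by rw [sub_mul, one_mul, mul_add, mul_one, X_mul_X h]; abel⟩
  else 1

theorem xU_val {φ : Fin m → F} (h : φ 0 = 0) : ((xU φ : (BM F κ m)ˣ) : BM F κ m) = 1 + X φ := by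
  rw [xU, dif_pos h]

theorem xU_inv_val {φ : Fin m → F} (h : φ 0 = 0) :
    (((xU φ : (BM F κ m)ˣ)⁻¹ : (BM F κ m)ˣ) : BM F κ m) = 1 - X φ := by
  rw [xU, dif_pos h]; rfl

/-- The conjugate of `X φ` by `g`. -/
def Bc (g : (BM F κ m)ˣ) (φ : Fin m → F) : BM F κ m :=
  (g : BM F κ m) * X φ * ((g⁻¹ : (BM F κ m)ˣ) : BM F κ m)

/-- The row of `Bc g φ`. -/
def vrow (g : (BM F κ m)ˣ) (φ : Fin m → F) (l : Fin m) : Matrix κ κ F :=
  ∑ i, φ i • ((g⁻¹ : (BM F κ m)ˣ) : BM F κ m) i l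

theorem Bc_apply (g : (BM F κ m)ˣ) (φ : Fin m → F) (k l : Fin m) :
    Bc g φ k l = (g : BM F κ m) k 0 * vrow g φ l := by
  rw [Bc, mul_assoc, mul_rowZero_apply _ _ (fun i hi j => by rw [X_mul_apply, if_neg hi]), X_mul_apply, if_pos rfl]
  rfl

theorem vrow_mul (g : (BM F κ m)ˣ) (φ : Fin m → F) (j : Fin m) :
    ∑ l, vrow g φ l * (g : BM F κ m) l j = φ j • (1 : Matrix κ κ F) := by
  have h : (((X φ : BM F κ m) * ((g⁻¹ : (BM F κ m)ˣ) : BM F κ m)) * (g : BM F κ m)) 0 j = (X φ : BM F κ m) 0 j := by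
    rw [mul_assoc, Units.inv_mul, mul_one]
  rw [X_apply, if_pos rfl, Matrix.mul_apply] at h
  rw [← h]
  exact Finset.sum_congr rfl fun l _ => by rw [X_mul_apply, if_pos rfl]; rfl

theorem Bc_mul_Bc {φ : Fin m → F} (hφ : φ 0 = 0) (g : (BM F κ m)ˣ) (ψ : Fin m → F) : Bc g φ * Bc g ψ = 0 := by
  rw [Bc, Bc]
  calc (g : BM F κ m) * X φ * ((g⁻¹ : (BM F κ m)ˣ) : BM F κ m) * ((g : BM F κ m) * X ψ * ((g⁻¹ : (BM F κ m)ˣ) : BM F κ m))
      = (g : BM F κ m) * (X φ * ((((g⁻¹ : (BM F κ m)ˣ) : BM F κ m) * (g : BM F κ m))) * X ψ) * ((g⁻¹ : (BM F κ m)ˣ) : BM F κ m) := by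
        simp only [mul_assoc]
    _ = 0 := by rw [Units.inv_mul, mul_one, X_mul_X hφ]; simp

theorem Bc_add (g : (BM F κ m)ˣ) (φ ψ : Fin m → F) : Bc g (φ + ψ) = Bc g φ + Bc g ψ := by
  rw [Bc, Bc, Bc, X_add, mul_add, add_mul]

theorem Bc_neg (g : (BM F κ m)ˣ) (φ : Fin m → F) : Bc g (-φ) = - Bc g φ := by
  rw [Bc, Bc, X_neg, mul_neg, neg_mul]

/-- The conjugate of the root element by `g`. -/
noncomputable def yU (g : (BM F κ m)ˣ) (φ : Fin m → F) : (BM F κ m)ˣ := g * xU φ * g⁻¹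

theorem yU_val {φ : Fin m → F} (h : φ 0 = 0) (g : (BM F κ m)ˣ) :
    ((yU g φ : (BM F κ m)ˣ) : BM F κ m) = 1 + Bc g φ := by
  rw [yU, Units.val_mul, Units.val_mul, xU_val h, mul_add, mul_one, add_mul, Units.mul_inv]
  rfl

theorem yU_inv_val {φ : Fin m → F} (h : φ 0 = 0) (g : (BM F κ m)ˣ) :
    (((yU g φ)⁻¹ : (BM F κ m)ˣ) : BM F κ m) = 1 - Bc g φ := by
  rw [yU, mul_inv_rev, mul_inv_rev, inv_inv, ← mul_assoc, Units.val_mul, Units.val_mul, xU_inv_val h, mul_sub,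
    mul_one, sub_mul, Units.mul_inv]
  rfl

theorem yU_neg {φ : Fin m → F} (h : φ 0 = 0) (g : (BM F κ m)ˣ) : yU g (-φ) = (yU g φ)⁻¹ := by
  apply Units.ext
  rw [yU_val (by simp [h]), yU_inv_val h, Bc_neg, sub_eq_add_neg]

/-- The block `T` of `Z` at the root `ψ`. -/
def T (Z : BM F κ m) (ψ : Fin m → F) : Matrix κ κ F := ∑ k, ψ k • Z k 0

theorem T_add (Z : BM F κ m) (φ ψ : Fin m → F) : T Z (φ + ψ) = T Z φ + T Z ψ := by
  simp [T, add_smul, Finset.sum_add_distrib]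

/-- The key identity: the row of the conjugate of `X ψ` by `1 + Bc g φ` starts with `-T`. -/
theorem vrow_yU_zero {φ ψ : Fin m → F} (hφ : φ 0 = 0) (hψ : ψ 0 = 0) (g : (BM F κ m)ˣ) :
    vrow (yU g φ) ψ 0 = - T (Bc g φ) ψ := by
  rw [vrow, yU_inv_val hφ, T, ← Finset.sum_neg_distrib]
  refine Finset.sum_congr rfl fun i _ => ?_
  by_cases hi : i = 0
  · subst hi; simp [hψ]
  · rw [Matrix.sub_apply, Matrix.one_apply_ne hi, zero_sub, smul_neg]

theorem Bc_yU_col {φ ψ : Fin m → F} (hφ : φ 0 = 0) (hψ : ψ 0 = 0) (g : (BM F κ m)ˣ) (k : Fin m) :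
    Bc (yU g φ) ψ k 0 = - (((1 : BM F κ m) k 0 + Bc g φ k 0) * T (Bc g φ) ψ) := by
  rw [Bc_apply, vrow_yU_zero hφ hψ, yU_val hφ, Matrix.add_apply, mul_neg]

theorem Bc_yU_col_ne {φ ψ : Fin m → F} (hφ : φ 0 = 0) (hψ : ψ 0 = 0) (g : (BM F κ m)ˣ) {k : Fin m} (hk : k ≠ 0) :
    Bc (yU g φ) ψ k 0 = - (Bc g φ k 0 * T (Bc g φ) ψ) := by
  rw [Bc_yU_col hφ hψ, Matrix.one_apply_ne hk, zero_add]

theorem T_yU {φ ψ χ : Fin m → F} (hφ : φ 0 = 0) (hψ : ψ 0 = 0) (hχ : χ 0 = 0) (g : (BM F κ m)ˣ) :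
    T (Bc (yU g φ) ψ) χ = - (T (Bc g φ) χ * T (Bc g φ) ψ) := by
  show ∑ k, χ k • _ = - ((∑ k, χ k • Bc g φ k 0) * _)
  rw [Finset.sum_mul, ← Finset.sum_neg_distrib]
  refine Finset.sum_congr rfl fun k _ => ?_
  by_cases hk : k = 0
  · subst hk; simp [hχ]
  · rw [Bc_yU_col_ne hφ hψ g hk, smul_neg, Matrix.smul_mul]

/-- All blocks scalar. -/
def C1 (Z : BM F κ m) : Prop := ∀ k l, ∃ c : F, Z k l = c • (1 : Matrix κ κ F)

/-- Block diagonal with equal blocks. -/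
def C2 (Z : BM F κ m) : Prop := (∀ k l, k ≠ l → Z k l = 0) ∧ ∀ k, Z k k = Z 0 0

/-- All blocks multiples of one block. -/
def Kron (Z : BM F κ m) : Prop := ∃ (α : Matrix κ κ F) (η : Matrix (Fin m) (Fin m) F), ∀ k l, Z k l = η k l • α

theorem C1_sc (η : Matrix (Fin m) (Fin m) F) : C1 (sc η : BM F κ m) := fun k l => ⟨η k l, sc_apply η k l⟩

theorem C1_iff {Z : BM F κ m} : C1 Z ↔ ∃ η, Z = sc η := by
  constructor
  · intro h
    choose η hη using h
    exact ⟨Matrix.of η, Matrix.ext fun k l => by rw [sc_apply]; exact hη k l⟩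
  · rintro ⟨η, rfl⟩
    exact C1_sc η

theorem C2_T {Z : BM F κ m} (h : C2 Z) {ψ : Fin m → F} (hψ : ψ 0 = 0) : T Z ψ = 0 :=
  Finset.sum_eq_zero fun k _ => by
    by_cases hk : k = 0
    · subst hk; simp [hψ]
    · rw [h.1 k 0 hk, smul_zero]

theorem C1_T {Z : BM F κ m} (h : C1 Z) (ψ : Fin m → F) : ∃ c : F, T Z ψ = c • (1 : Matrix κ κ F) := by
  choose c hc using h
  exact ⟨∑ k, ψ k * c k 0, by simp [T, hc, Finset.sum_smul, smul_smul]⟩

theorem sq_eq_zero_scalar [Nonempty κ] {Z : Matrix κ κ F} (h : ∃ c : F, Z = c • (1 : Matrix κ κ F))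
    (h2 : Z * Z = 0) : Z = 0 := by
  obtain ⟨c, rfl⟩ := h
  have := congrFun (congrFun h2 (Classical.arbitrary κ)) (Classical.arbitrary κ)
  simp [Matrix.smul_mul, Matrix.mul_smul] at this
  simp [this]

theorem not_C1_and_C2 [Nonempty κ] {g : (BM F κ m)ˣ} {φ : Fin m → F} (hφ : φ 0 = 0) (hφne : φ ≠ 0)
    (h1 : C1 (Bc g φ)) : ¬ C2 (Bc g φ) := by
  intro h2
  have hne : Bc g φ ≠ 0 := by
    intro h
    have h' : ((g⁻¹ : (BM F κ m)ˣ) : BM F κ m) * Bc g φ * (g : BM F κ m) = 0 := by rw [h]; simp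
    rw [Bc, ← mul_assoc, ← mul_assoc, Units.inv_mul, one_mul, mul_assoc, Units.inv_mul, mul_one] at h'
    exact X_ne_zero hφne h'
  have hsq := Bc_mul_Bc hφ g φ
  have h00 : Bc g φ 0 0 * Bc g φ 0 0 = 0 := by
    have := congrFun (congrFun hsq 0) 0
    rwa [Matrix.mul_apply, Finset.sum_eq_single (0 : Fin m) (fun i _ hi => by rw [h2.1 0 i hi.symm, zero_mul]) (by simp),
      Matrix.zero_apply] at this
  have h0 := sq_eq_zero_scalar (h1 0 0) h00
  refine hne (Matrix.ext fun k l => ?_)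
  by_cases hkl : k = l
  · subst hkl; rw [h2.2 k, h0]; rfl
  · rw [h2.1 k l hkl]; rfl

/-- From a product of square blocks equal to a nonzero scalar, both are units. -/
theorem isUnit_of_mul_eq_smul {A B : Matrix κ κ F} {c : F} (hc : c ≠ 0) (h : A * B = c • 1) :
    IsUnit A ∧ IsUnit B := by
  have h1 : A * (c⁻¹ • B) = 1 := by rw [Matrix.mul_smul, h, smul_smul, inv_mul_cancel₀ hc, one_smul]
  have h2 : (c⁻¹ • A) * B = 1 := by rw [Matrix.smul_mul, h, smul_smul, inv_mul_cancel₀ hc, one_smul]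
  exact ⟨IsUnit.of_mul_eq_one _ h1, IsUnit.of_mul_eq_one_right _ h2⟩

end Cfsg.Agent.TensorWreath43
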