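import Cfsg.Agent.Lib.TensorWreath43Sym

/-!
From one typed element with a non-scalar cofactor to a tensor product of root operators at every position.
-/

set_option autoImplicit false
set_option linter.unusedSectionVars false
set_option linter.unusedSimpArgs false

namespace Cfsg.Agent.TensorWreath43

open scoped Matrix

variable {F : Type*} [Field F] {t m : ℕ}

/-- A root operator. -/
def Eta (G : Matrix (Fin m) (Fin m) F) (T : Matrix (Fin m) (Fin m) F) : Prop :=
  ∃ u : Fin m → F, u ≠ 0 ∧ T = Eop G u u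

/-- The operator of an orthogonal pair. -/
def Tau (G : Matrix (Fin m) (Fin m) F) (T : Matrix (Fin m) (Fin m) F) : Prop :=
  ∃ u v : Fin m → F, fG G u v = 0 ∧ tau G u v ≠ 0 ∧ T = tau G u v

section Basics

variable {G : Matrix (Fin m) (Fin m) F}

theorem adjG_eta (hG : SG G) {T : Matrix (Fin m) (Fin m) F} (h : Eta G T) : adjG G T = -T := by
  obtain ⟨u, -, rfl⟩ := h
  exact hG.adjG_Eop u u

theorem adjG_tau' (hG : SG G) {T : Matrix (Fin m) (Fin m) F} (h : Tau G T) : adjG G T = T := by
  obtain ⟨u, v, -, -, rfl⟩ := h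
  exact adjG_tau hG u v

theorem not_eta_of_tau (hG : SG G) (h2 : (2 : F) ≠ 0) {T : Matrix (Fin m) (Fin m) F} (h : Tau G T) : ¬ Eta G T := by
  intro he
  have e := adjG_eta hG he
  rw [adjG_tau' hG h] at e
  have : (2 : F) • T = 0 := by rw [two_smul]; exact eq_neg_iff_add_eq_zero.1 e
  exact Typ.ne_zero hG (Or.inl he) ((smul_eq_zero.1 this).resolve_left h2)

theorem ct_add_left (i : Fin t) (a a' b : Fin m → F) (Z : Matrix (TI t m) (TI t m) F) :
    ct G i (a + a') b Z = ct G i a b Z + ct G i a' b Z := by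
  rw [ct, Matrix.mulVec_add, cn_add_row]; rfl

theorem ct_add_right (i : Fin t) (a b b' : Fin m → F) (Z : Matrix (TI t m) (TI t m) F) :
    ct G i a (b + b') Z = ct G i a b Z + ct G i a b' Z := cn_add_col _ _ _ _ _

theorem ct_smul_left (i : Fin t) (c : F) (a b : Fin m → F) (Z : Matrix (TI t m) (TI t m) F) :
    ct G i (c • a) b Z = c • ct G i a b Z := by
  rw [ct, Matrix.mulVec_smul, cn_smul_row]; rfl

theorem ct_smul_right (i : Fin t) (c : F) (a b : Fin m → F) (Z : Matrix (TI t m) (TI t m) F) :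
    ct G i a (c • b) Z = c • ct G i a b Z := cn_smul_col _ _ _ _ _

theorem ct_zero_right (i : Fin t) (a : Fin m → F) (Z : Matrix (TI t m) (TI t m) F) : ct G i a 0 Z = 0 := by
  simpa using ct_smul_right (G := G) i 0 a 0 Z

theorem scalar_of_comm_all [NeZero m] {C : Matrix (TI t m) (TI t m) F} (h : ∀ i, Comm i C) :
    ∃ c : F, C = c • 1 := by
  obtain ⟨c, hc⟩ := eq_smul_mono (S := ∅) (a := fun _ => (0 : Fin m)) (b := fun _ => 0) (C := C)
    (by simp) (fun i _ => h i)
  refine ⟨c, hc.trans ?_⟩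
  congr 1
  ext x y
  simp only [mono, Finset.notMem_empty, IsEmpty.forall_iff, not_false_eq_true, true_implies, true_and,
    Matrix.one_apply, funext_iff]

theorem exists_dual (hG : SG G) {a b : Fin m → F} (h : tau G a b ≠ 0) :
    ∃ a', fG G a a' = 1 ∧ fG G b a' = 0 := by
  have hb : b ≠ 0 := by
    rintro rfl
    exact h (by rw [tau, Eop, Eop, Matrix.mulVec_zero, Matrix.vecMulVec_zero, Matrix.zero_vecMulVec, sub_zero])
  obtain ⟨c, hc⟩ := hG.exists_left hb
  have hbc : fG G b c = -1 := by rw [hG.swap, hc]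
  by_contra! hne
  have key : ∀ x, fG G a x = -fG G b x * fG G a c := by
    intro x
    have h0 : fG G b (x + fG G b x • c) = 0 := by
      rw [fG_add_right, fG_smul_right, hbc]; ring
    by_contra hx
    have h1 : fG G a (x + fG G b x • c) ≠ 0 := by
      rw [fG_add_right, fG_smul_right]
      intro e
      exact hx (by linear_combination e)
    exact hne ((fG G a (x + fG G b x • c))⁻¹ • (x + fG G b x • c))
      (by rw [fG_smul_right, inv_mul_cancel₀ h1]) (by rw [fG_smul_right, h0, mul_zero])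
  have : a = -fG G a c • b := by
    refine sub_eq_zero.1 (hG.eq_zero_of_left fun x => ?_)
    rw [sub_eq_add_neg, fG_add_right, ← neg_one_smul F (-fG G a c • b), fG_smul_right, fG_smul_right,
      hG.swap x a, hG.swap x b, key]
    ring
  refine h ?_
  rw [this, tau, Eop_smul_left, Eop_smul_right, sub_self]

theorem tau_ne_zero_of {a b u : Fin m → F} (ha : a ≠ 0) (hbu : fG G b u = 1)
    (hba : fG G b a = 0) : tau G a u ≠ 0 := by
  intro e
  have := congrArg (fun Z => Z *ᵥ b) e
  simp only [tau, Matrix.sub_mulVec, Eop_mulVec, Matrix.zero_mulVec, hbu, hba, one_smul, zero_smul, sub_zero] at this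
  exact ha this

theorem eta_mul_tau (hG : SG G) {a b u : Fin m → F} (hau : fG G a u = 0) (hbu : fG G b u = 1) :
    Eop G u u * tau G a b = -Eop G u a ∧ tau G a b * Eop G u u = -Eop G a u := by
  have hub : fG G u b = -1 := by rw [hG.swap, hbu]
  constructor
  · rw [tau, mul_sub, Eop_mul, Eop_mul, hau, hbu, zero_smul, one_smul, zero_sub]
  · rw [tau, sub_mul, Eop_mul, Eop_mul, hub, hG.swap_zero hau, zero_smul, sub_zero, neg_one_smul]

theorem eta_mul_eta (hG : SG G) {u v : Fin m → F} (h : fG G u v = 1) :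
    Eop G (u + v) (u + v) * (Eop G u u * Eop G v v) * Eop G (u + v) (u + v) = -Eop G (u + v) (u + v) ∧
      Eop G (u + v) (u + v) * (Eop G v v * Eop G u u) * Eop G (u + v) (u + v) = Eop G (u + v) (u + v) := by
  have hvu : fG G v u = -1 := by rw [hG.swap, h]
  constructor <;>
  · simp only [Eop_mul, Matrix.mul_smul, Matrix.smul_mul, smul_smul, fG_add_left, fG_add_right, hG.self, h, hvu,
      add_zero, zero_add, mul_one, mul_neg, one_mul, neg_mul, neg_neg, one_smul, neg_one_smul]

theorem tau_mul_tau (hG : SG G) {a b a' : Fin m → F} (hab : fG G a b = 0) (h1 : fG G a a' = 1)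
    (h2 : fG G b a' = 0) : tau G a b * tau G a' b = Eop G b b ∧ tau G a' b * tau G a b = -Eop G b b := by
  have e1 : fG G a' a = -1 := by rw [hG.swap, h1]
  constructor <;>
  · simp only [tau, mul_sub, sub_mul, Eop_mul, hG.self, h1, h2, e1, hab, hG.swap_zero hab, hG.swap_zero h2,
      zero_smul, one_smul, neg_one_smul]
    abel

open Classical in
theorem adjT_scalar_pureT (hG : SG G) (h2 : (2 : F) ≠ 0) {S : Finset (Fin t)}
    {θ : Fin t → Matrix (Fin m) (Fin m) F} (hθ : TS G S θ) :
    adjT G (pureT θ) = ((-1 : F) ^ (S.filter fun i => Eta G (θ i)).card) • pureT θ := by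
  have hrw : (fun i => adjG G (θ i)) =
      fun i => (if i ∈ S.filter (fun i => Eta G (θ i)) then (-1 : F) else 1) • θ i := by
    funext i
    by_cases hi : i ∈ S
    · rcases hθ.1 i hi with he | ht
      · rw [if_pos (by simp [hi]; exact he), adjG_eta hG he, neg_one_smul]
      · rw [if_neg (by simp [not_eta_of_tau hG h2 ht]), adjG_tau' hG ht, one_smul]
    · rw [hθ.2 i hi, hG.adjG_one, if_neg (by simp [hi]), one_smul]
  rw [adjT_pureT, hrw, pureT_smul_pi]
  congr 1
  rw [Finset.prod_ite_mem, Finset.univ_inter, Finset.prod_const]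

end Basics

section Over

variable [Fintype F] {G : Matrix (Fin m) (Fin m) F} {M : Subgroup (GL (TI t m) F)} (H : SOver G M)
include H

theorem SOver.reduce_one {S : Finset (Fin t)} {θ : Fin t → Matrix (Fin m) (Fin m) F} {p i : Fin t} (hp : p ∈ S)
    (hsq : θ p * θ p = 0) (hθ : ∀ j, j ∉ S → θ j = 1) {C : Matrix (TI t m) (TI t m) F}
    (hC : ∀ j ∈ S, Comm j C) (hM : MemU M (pureT θ * C)) (hi : i ∉ S) (hn : ¬ Comm i C) :
    ∃ T C', Typ G T ∧ MemU M (pureT (Function.update θ i T) * C') ∧ C' ≠ 0 ∧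
      ∀ j ∈ insert i S, Comm j C' := by
  classical
  have hip : i ≠ p := fun e => hi (e ▸ hp)
  have hi1 : θ i = 1 := hθ i hi
  have hci : Comm i (pureT θ) := comm_pureT hi1
  have hF : Fac p (θ p) (pureT θ * C) :=
    ⟨pureT (Function.update θ p 1) * C, (comm_pureT (by simp)).mul (hC p hp), by rw [← mul_assoc, ← pureT_split]⟩
  have hupd : ∀ T, pureT θ * lift i T = pureT (Function.update θ i T) := fun T => by
    rw [pureT_mul_lift, hi1, one_mul]
  have hcomm : ∀ a b, ∀ j ∈ insert i S, Comm j (ct G i a b C) := fun a b j hj => by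
    rcases Finset.mem_insert.1 hj with rfl | hj
    · exact comm_cn _ _ _ _
    · exact comm_cn_of_comm (fun e : i = j => hi (e ▸ hj)) _ _ (hC j hj)
  by_cases hd : ∃ u, ct G i u u C ≠ 0
  · obtain ⟨u, hu⟩ := hd
    have hune : u ≠ 0 := by rintro rfl; exact hu (ct_zero_right _ _ _)
    refine ⟨_, _, Or.inl ⟨u, hune, rfl⟩, ?_, hu, hcomm u u⟩
    have := (H.contract hip hsq hF hM u).1
    rw [← mul_assoc, hci, mul_assoc, mul_assoc, ← mul_assoc (lift i _) C, ← lift_Eop_mul_ct, ← mul_assoc,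
      hupd] at this
    exact this
  push Not at hd
  have hsym : ∀ a b, ct G i a b C = -ct G i b a C := fun a b => by
    have h := hd (a + b)
    rw [ct_add_left, ct_add_right, ct_add_right, hd, hd, zero_add, add_zero] at h
    exact eq_neg_iff_add_eq_zero.2 h
  obtain ⟨u, v, huv, hne⟩ : ∃ u v, fG G u v = 0 ∧ ct G i u v C ≠ 0 := by
    by_contra! hall
    have hD : ∀ a b b₀, fG G b₀ a = 1 → ct G i a b C = fG G b a • ct G i a b₀ C := by
      intro a b b₀ h0
      have h1 : fG G a (b + -fG G b a • b₀) = 0 := by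
        rw [fG_add_right, fG_smul_right, H.hG.swap a b₀, h0, H.hG.swap a b]; ring
      have h := hall _ _ h1
      rw [ct_add_right, ct_smul_right, neg_smul] at h
      exact eq_of_sub_eq_zero (by rw [sub_eq_add_neg]; exact h)
    refine hn ?_
    by_cases hm0 : ∀ a : Fin m → F, a = 0
    · have : C = 0 := H.hG.eq_zero_of_ct i fun a b => by rw [hm0 b, ct_zero_right]
      subst this
      exact fun η => by simp
    push Not at hm0
    obtain ⟨a₀, ha₀⟩ := hm0
    obtain ⟨b₀, hb₀⟩ := H.hG.exists_left ha₀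
    set C₀ := ct G i a₀ b₀ C with hC₀
    -- the coefficient does not depend on the chosen pair
    have hconst : ∀ {a a' b b'}, fG G a' a = 1 → fG G b' b = 1 → fG G a b ≠ 0 →
        ct G i a a' C = ct G i b b' C := by
      intro a a' b b' ea eb hab
      have e1 := hD a b a' ea
      have e2 := hD b a b' eb
      rw [hsym a b, e2, H.hG.swap b a, neg_smul] at e1
      exact (smul_right_injective _ hab (neg_injective e1)).symm
    have hall₀ : ∀ a a', fG G a' a = 1 → ct G i a a' C = C₀ := by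
      intro a a' ea
      have hane : a ≠ 0 := by
        rintro rfl
        rw [← zero_smul F a', fG_smul_right, zero_mul] at ea
        exact zero_ne_one ea
      obtain ⟨c, hca, hca₀⟩ := TransvectionMax.exists_common H.hG.isSymplecticForm hane ha₀
      obtain ⟨c', hc'⟩ := H.hG.exists_left (v := c) (by rintro rfl; exact hca₀ (by simp [fG]))
      rw [hconst ea hc' (fun e => hca (H.hG.swap_zero e)), hC₀, hconst hc' hb₀ hca₀]
    have : C - C₀ = 0 := H.hG.eq_zero_of_ct i fun a b => by
      by_cases ha : a = 0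
      · subst ha
        simpa using ct_smul_left (G := G) i 0 0 b (C - C₀)
      obtain ⟨a', ha'⟩ := H.hG.exists_left ha
      have e := ct_lift_mul (G := G) (i := i) (hcomm a₀ b₀ i (Finset.mem_insert_self _ _)) a b 1
      rw [lift_one, one_mul, Matrix.one_mulVec] at e
      rw [ct, cn_sub, ← ct, ← ct, e, hD a b a' ha', hall₀ a a' ha', sub_self]
    rw [sub_eq_zero.1 this]
    exact hcomm a₀ b₀ i (Finset.mem_insert_self _ _)
  have htau : tau G u v ≠ 0 := by
    intro e
    have hvne : v ≠ 0 := by rintro rfl; exact hne (ct_zero_right _ _ _)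
    obtain ⟨x, hx⟩ := H.hG.exists_left hvne
    have e' := congrArg (fun Z => Z *ᵥ x) e
    simp only [tau, Matrix.sub_mulVec, Eop_mulVec, Matrix.zero_mulVec, hx, one_smul, sub_eq_zero] at e'
    exact hne (by rw [e', ct_smul_left, hd, smul_zero])
  refine ⟨tau G u v, -ct G i u v C, Or.inr ⟨u, v, huv, htau, rfl⟩, ?_, neg_ne_zero.2 hne, fun j hj => ?_⟩
  · have h1 := (H.contract hip hsq hF hM u).2
    have hF' : Fac p (θ p) (lift i (Eop G u u) * (pureT θ * C) - pureT θ * C * lift i (Eop G u u)) :=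
      (hF.lift_left hip _).sub (hF.lift_right hip _)
    have h2 := (H.contract hip hsq hF' h1 v).2
    set P := pureT θ with hP
    set Lu := lift i (Eop G u u) with hLu
    set Lv := lift i (Eop G v v) with hLv
    have z1 : Lv * Lu = 0 := by rw [hLu, hLv, ← lift_mul, Eop_mul, huv, zero_smul, lift_zero]
    have z2 : Lu * Lv = 0 := by
      rw [hLu, hLv, ← lift_mul, Eop_mul, H.hG.swap_zero huv, zero_smul, lift_zero]
    have e1 : Lv * (Lu * (P * C) - P * C * Lu) - (Lu * (P * C) - P * C * Lu) * Lv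
        = P * (Lv * Lu * C + C * (Lu * Lv) - (Lu * C * Lv + Lv * C * Lu)) := by
      have cu : Lu * P = P * Lu := hci _
      have cv : Lv * P = P * Lv := hci _
      calc _ = Lv * (Lu * P) * C - Lv * P * C * Lu - Lu * P * C * Lv + P * C * Lu * Lv := by noncomm_ring
        _ = _ := by rw [cu, cv, ← mul_assoc Lv P Lu, cv]; noncomm_ring
    rw [e1, z1, z2, zero_mul, mul_zero, add_zero, zero_sub, hLu, hLv, ← lift_Eop_mul_ct, ← lift_Eop_mul_ct,
      hsym v u, mul_neg, mul_neg, ← sub_eq_add_neg, ← sub_mul] at h2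
    rw [← hupd, mul_assoc, tau, mul_neg, mul_neg, show lift i (Eop G u v - Eop G v u) = lift i (Eop G u v) - lift i (Eop G v u)
      from map_sub (liftHom (F := F) i) _ _]
    exact h2
  · rw [← neg_one_smul F (ct G i u v C)]
    exact (hcomm u v j hj).smul _

theorem SOver.reduce [NeZero m] (n : ℕ) : ∀ (S : Finset (Fin t)) (θ : Fin t → Matrix (Fin m) (Fin m) F)
    (C : Matrix (TI t m) (TI t m) F) (p : Fin t), t - S.card ≤ n → p ∈ S → θ p * θ p = 0 →
    (∀ j ∈ S, Typ G (θ j)) → (∀ j, j ∉ S → θ j = 1) → (∀ j ∈ S, Comm j C) → C ≠ 0 → MemU M (pureT θ * C) →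
    ∃ (S' : Finset (Fin t)) (θ' : Fin t → Matrix (Fin m) (Fin m) F) (c : F),
      S ⊆ S' ∧ TS G S' θ' ∧ c ≠ 0 ∧ MemU M (c • pureT θ') ∧ ((∃ j, ¬ Comm j C) → S.card < S'.card) := by
  classical
  induction n with
  | zero =>
    intro S θ C p hn hp _ hty hθ hC hC0 hM
    have hS : S = Finset.univ := Finset.eq_univ_of_card S (by
      have := S.card_le_univ
      rw [Fintype.card_fin] at this ⊢
      omega)
    have hall : ∀ i, Comm i C := fun i => hC i (by simp [hS])
    obtain ⟨c, rfl⟩ := scalar_of_comm_all hall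
    refine ⟨S, θ, c, Finset.Subset.refl _, ⟨hty, hθ⟩, left_ne_zero_of_smul hC0, ?_, fun h => absurd hall (by simpa using h)⟩
    rwa [Matrix.mul_smul, mul_one] at hM
  | succ n ih =>
    intro S θ C p hn hp hsq hty hθ hC hC0 hM
    by_cases hall : ∀ i, Comm i C
    · obtain ⟨c, rfl⟩ := scalar_of_comm_all hall
      refine ⟨S, θ, c, Finset.Subset.refl _, ⟨hty, hθ⟩, left_ne_zero_of_smul hC0, ?_, fun h => absurd hall (by simpa using h)⟩
      rwa [Matrix.mul_smul, mul_one] at hM
    push Not at hall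
    obtain ⟨i, hn'⟩ := hall
    have hi : i ∉ S := fun h => hn' (hC i h)
    obtain ⟨T, C', hT, hM', hC'0, hC'⟩ := H.reduce_one hp hsq hθ hC hM hi hn'
    have hpi : p ≠ i := fun e => hi (e ▸ hp)
    obtain ⟨S', θ', c, hS', hθ', hc, hM'', -⟩ := ih (insert i S) (Function.update θ i T) C' p
      (by rw [Finset.card_insert_of_notMem hi]; omega) (Finset.mem_insert_of_mem hp) (by simp [hpi, hsq])
      (fun j hj => by
        rcases Finset.mem_insert.1 hj with rfl | hj
        · simpa using hT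
        · rw [Function.update_of_ne (fun e : j = i => hi (e ▸ hj))]; exact hty j hj)
      (fun j hj => by
        rw [Finset.mem_insert, not_or] at hj
        rw [Function.update_of_ne hj.1]; exact hθ j hj.2)
      hC' hC'0 hM'
    refine ⟨S', θ', c, (Finset.subset_insert _ _).trans hS', hθ', hc, hM'', fun _ => ?_⟩
    exact lt_of_lt_of_le (by rw [Finset.card_insert_of_notMem hi]; omega) (Finset.card_le_card hS')

theorem SOver.odd_eta [NeZero m] {S : Finset (Fin t)} {θ : Fin t → Matrix (Fin m) (Fin m) F} (hθ : TS G S θ) {p : Fin t}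
    (hp : p ∈ S) {c : F} (hc : c ≠ 0) (hM : MemU M (c • pureT θ)) [DecidablePred fun i => Eta G (θ i)] :
    Odd (S.filter fun i => Eta G (θ i)).card := by
  classical
  obtain ⟨g, hg, hgX⟩ := hM
  have hne : pureT θ ≠ 0 := pureT_ne_zero fun i e => by
    by_cases hi : i ∈ S
    · exact Typ.ne_zero H.hG (hθ.1 i hi) e
    · rw [hθ.2 i hi] at e
      exact one_ne_zero e
  have hsq : c • pureT θ * (c • pureT θ) = 0 := by
    rw [Matrix.smul_mul, Matrix.mul_smul, pureT_mul, pureT_eq_zero (p := p) (Typ.sq H.hG (hθ.1 p hp)), smul_zero,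
      smul_zero]
  have h1 := H.inv_val hg
  rw [show ((g⁻¹ : GL (TI t m) F) : Matrix (TI t m) (TI t m) F) = 1 - c • pureT θ from
    Units.inv_eq_of_mul_eq_one_right (by rw [hgX, add_mul, one_mul, mul_sub, mul_one, hsq]; abel), hgX, adjT_add, H.hG.adjT_one, adjT_smul,
    adjT_scalar_pureT H.hG H.two hθ, sub_eq_add_neg, add_right_inj, smul_smul, ← neg_smul] at h1
  have h1' := smul_left_injective F hne h1
  rw [← Nat.not_even_iff_odd]
  intro hev
  rw [show Finset.filter (fun i => Eta G (θ i)) S = @Finset.filter _ (fun i => Eta G (θ i)) (fun _ => Classical.propDecidable _) S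
    by congr 1] at hev
  rw [hev.neg_one_pow, mul_one] at h1'
  exact hc ((smul_eq_zero.1 (show (2 : F) • c = 0 by rw [smul_eq_mul]; linear_combination -h1')).resolve_left H.two)

theorem SOver.tmem_of_single [NeZero m] {S : Finset (Fin t)} {θ : Fin t → Matrix (Fin m) (Fin m) F} (hθ : TS G S θ)
    {p : Fin t} (hp : p ∈ S) {c : F} (hc : c ≠ 0) (hM : MemU M (c • pureT θ)) : TMem M θ := by
  classical
  obtain ⟨q, hq⟩ := Finset.card_pos.1 (H.odd_eta hθ hp hc hM).pos
  rw [Finset.mem_filter] at hq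
  obtain ⟨u, hu, hqu⟩ := hq.2
  have hsq : ∀ a b : F, a • pureT θ * (b • pureT θ) = 0 := fun a b => by
    rw [Matrix.smul_mul, Matrix.mul_smul, pureT_mul, pureT_eq_zero (p := p) (Typ.sq H.hG (hθ.1 p hp)), smul_zero,
      smul_zero]
  have hscale : ∀ a : F, MemU M ((a ^ 2 * c) • pureT θ) := fun a => by
    by_cases ha : a = 0
    · subst ha
      rw [zero_pow two_ne_zero, zero_mul, zero_smul]
      exact MemU.zero M
    obtain ⟨h, hh, hhu⟩ := H.exists_rt hu (smul_ne_zero ha hu)
    have := H.lift_conj q hh hM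
    rw [Matrix.mul_smul, Matrix.smul_mul, lift_mul_pureT, pureT_mul_lift, Function.update_self, Function.update_idem,
      hqu, conj_Eop H.hG, hhu, Eop_smul_left, Eop_smul_right, smul_smul] at this
    rw [pureT_split q, Function.update_self, Function.update_idem, lift_smul, Matrix.smul_mul, ← hqu,
      ← pureT_split, smul_smul] at this
    convert this using 2
    ring
  intro z
  have h := (hscale ((z / c + 1) / 2)).add ((hscale ((z / c - 1) / 2)).neg (hsq _ _))
    (by rw [mul_neg, hsq, neg_zero])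
  rw [← sub_eq_add_neg, ← sub_smul] at h
  convert h using 2
  field_simp [H.two]
  ring

theorem SOver.tmem_of_sub {A B θ : Fin t → Matrix (Fin m) (Fin m) F} {a b : Fin t → F}
    (h : ∀ z : F, MemU M (z • (pureT A - pureT B))) (hA : ∀ i, A i = a i • θ i) (hB : ∀ i, B i = b i • θ i)
    (hne : ∏ i, a i - ∏ i, b i ≠ 0) : TMem M θ := by
  intro z
  have := h (z / (∏ i, a i - ∏ i, b i))
  rwa [show A = fun i => a i • θ i from funext hA, show B = fun i => b i • θ i from funext hB, pureT_smul_pi,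
    pureT_smul_pi, ← sub_smul, smul_smul, div_mul_cancel₀ _ hne] at this

/-- A conjugate of a typed operator whose products with it are root operators. -/
theorem SOver.exists_partner {T : Matrix (Fin m) (Fin m) F} (hT : Typ G T) :
    ∃ (h : Matrix (Fin m) (Fin m) F) (w : Fin m → F), adjG G h * h = 1 ∧ w ≠ 0 ∧
      (Eta G T → Eop G w w * (T * (h * T * adjG G h)) * Eop G w w = -Eop G w w ∧
        Eop G w w * (h * T * adjG G h * T) * Eop G w w = Eop G w w) ∧
      (¬ Eta G T → T * (h * T * adjG G h) = Eop G w w ∧ h * T * adjG G h * T = -Eop G w w ∧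
        T * (h * T * adjG G h) * T = 0 ∧ h * T * adjG G h * T * (h * T * adjG G h) = 0) := by
  by_cases he : Eta G T
  · obtain ⟨u, hu, rfl⟩ := he
    obtain ⟨v, hv⟩ := H.hG.exists_left hu
    have huv : fG G u (-v) = 1 := by
      rw [← neg_one_smul F v, fG_smul_right, H.hG.swap, hv]; ring
    have hvne : -v ≠ 0 := by
      intro e
      rw [e, ← zero_smul F u, fG_smul_right, zero_mul] at huv
      exact zero_ne_one huv
    obtain ⟨h, hh, hhu⟩ := H.exists_rt hu hvne
    refine ⟨h, u + -v, hh, ?_, fun _ => ?_, fun h' => absurd ⟨u, hu, rfl⟩ h'⟩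
    · intro e
      have := congrArg (fG G u) e
      rw [fG_add_right, H.hG.self, huv, zero_add, ← zero_smul F u, fG_smul_right, zero_mul] at this
      exact one_ne_zero this
    · rw [conj_Eop H.hG, hhu]
      exact eta_mul_eta H.hG huv
  · obtain ⟨a, b, hab, hne, rfl⟩ := hT.resolve_left he
    obtain ⟨a', h1, h2⟩ := exists_dual H.hG hne
    obtain ⟨h, hh, ha, hb⟩ := H.exists_fix h1 (H.hG.swap_zero hab) h2
    have hconj : h * tau G a b * adjG G h = tau G a' b := by
      rw [tau, mul_sub, sub_mul, conj_Eop H.hG, conj_Eop H.hG, ha, hb]; rfl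
    have hbne : b ≠ 0 := by
      rintro rfl
      exact hne (by rw [tau, Eop, Eop, Matrix.mulVec_zero, Matrix.vecMulVec_zero, Matrix.zero_vecMulVec, sub_zero])
    have hba : fG G b a = 0 := H.hG.swap_zero hab
    have ha'b : fG G a' b = 0 := H.hG.swap_zero h2
    refine ⟨h, b, hh, hbne, fun h' => absurd h' he, fun _ => ?_⟩
    rw [hconj]
    obtain ⟨e1, e2⟩ := tau_mul_tau H.hG hab h1 h2
    refine ⟨e1, e2, ?_, ?_⟩ <;>
      simp only [tau, mul_sub, sub_mul, Matrix.smul_mul, Matrix.mul_smul, neg_mul, Eop_mul, H.hG.self, hab, hba, ha'b, h2,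
        smul_zero, zero_smul, zero_mul, sub_zero, neg_zero]

open Classical in
theorem SOver.step_one [NeZero m] {S : Finset (Fin t)} {θ : Fin t → Matrix (Fin m) (Fin m) F} (hθ : TS G S θ)
    (hM : TMem M θ) (hS : Odd S.card) :
    ∃ θ', (∀ i ∈ S, Eta G (θ' i)) ∧ (∀ i, i ∉ S → θ' i = 1) ∧ TMem M θ' := by
  by_cases hall : ∀ i ∈ S, Eta G (θ i)
  · exact ⟨θ, hall, hθ.2, hM⟩
  push Not at hall
  obtain ⟨p, hp, hpn⟩ := hall
  have hodd := H.odd_eta hθ hp one_ne_zero (hM 1)
  choose h w hh hw0 hwe hwt using fun i : S => H.exists_partner (hθ.1 i.1 i.2)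
  let h' : Fin t → Matrix (Fin m) (Fin m) F := fun i => if hi : i ∈ S then h ⟨i, hi⟩ else 1
  let w' : Fin t → Fin m → F := fun i => if hi : i ∈ S then w ⟨i, hi⟩ else 0
  have hh' : ∀ i, adjG G (h' i) * h' i = 1 := fun i => by
    by_cases hi : i ∈ S <;> simp only [h', hi, dite_true, dite_false, hh, H.hG.adjG_one, one_mul]
  have hM' := H.tmem_conj hM h' hh'
  have hpw := hwt ⟨p, hp⟩ hpn
  have hbr := H.bracket hM hM' (p := p) (q := p) (Typ.sq H.hG (hθ.1 p hp))
    (by
      have e := Typ.sq H.hG (hθ.1 p hp)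
      calc h' p * θ p * adjG G (h' p) * (h' p * θ p * adjG G (h' p))
          = h' p * θ p * (adjG G (h' p) * h' p) * θ p * adjG G (h' p) := by simp only [mul_assoc]
        _ = 0 := by rw [hh' p, mul_one, mul_assoc (h' p), e, mul_zero, zero_mul])
    (by simp only [h', hp, dite_true]; exact hpw.2.2.1)
    (by simp only [h', hp, dite_true]; exact hpw.2.2.2)
  set R := S.filter fun i => Eta G (θ i) with hR
  have hpR : p ∉ R := fun h' => hpn (Finset.mem_filter.1 h').2
  have hcm := H.contractMany (Eop_self_mul H.hG (w ⟨p, hp⟩)) (a := 1) (b := -1)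
    (by rw [one_smul, Pi.mul_apply]; simp only [h', hp, dite_true]; exact hpw.1)
    (by rw [neg_one_smul, Pi.mul_apply]; simp only [h', hp, dite_true]; exact hpw.2.1) hbr w' R hpR
  refine ⟨fun i => if i ∈ S then Eop G (w' i) (w' i) else 1, fun i hi => ?_, fun i hi => if_neg hi, ?_⟩
  · simp only [if_pos hi, w', dif_pos hi]
    exact ⟨_, hw0 ⟨i, hi⟩, rfl⟩
  refine H.tmem_of_sub hcm (a := fun i => if i ∈ R then -1 else 1)
    (b := fun i => if i ∈ S \ R then -1 else 1) (fun i => ?_) (fun i => ?_) ?_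
  rotate_left 2
  · rw [Finset.prod_ite_mem, Finset.univ_inter, Finset.prod_ite_mem, Finset.univ_inter, Finset.prod_const,
      Finset.prod_const, hodd.neg_one_pow, Even.neg_one_pow]
    · rw [show (-1 : F) - 1 = -2 by norm_num, neg_ne_zero]
      exact H.two
    · rw [Finset.card_sdiff_of_subset (Finset.filter_subset _ _)]
      exact Nat.Odd.sub_odd hS hodd
  all_goals
    by_cases hiR : i ∈ R
    · obtain ⟨hiS, he⟩ := Finset.mem_filter.1 hiR
      simp only [hiR, hiS, Finset.mem_sdiff, not_true_eq_false, and_false, if_true, if_false, Pi.mul_apply, h', w',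
        dite_true, neg_one_smul, one_smul]
      first
        | exact (hwe ⟨i, hiS⟩ he).1
        | exact (hwe ⟨i, hiS⟩ he).2
    · by_cases hiS : i ∈ S
      · have he : ¬ Eta G (θ i) := fun he => hiR (Finset.mem_filter.2 ⟨hiS, he⟩)
        simp only [hiR, hiS, Finset.mem_sdiff, not_false_eq_true, and_self, if_true, if_false, Pi.mul_apply, h', w',
          dite_true, neg_one_smul, one_smul]
        first
          | exact (hwt ⟨i, hiS⟩ he).1
          | exact (hwt ⟨i, hiS⟩ he).2.1
      · simp only [hiR, hiS, Finset.mem_sdiff, false_and, if_false, Pi.mul_apply, h', dite_false, hθ.2 i hiS,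
          H.hG.adjG_one, one_smul, mul_one]

omit H in
theorem exists_cycle {p q r : Fin t} (hpq : p ≠ q) (hpr : p ≠ r) (hqr : q ≠ r) :
    ∃ σ : Equiv.Perm (Fin t), σ ^ 3 = 1 ∧ σ.symm q = p ∧ σ.symm r = q ∧ σ.symm p = r ∧
      ∀ x, x ≠ p → x ≠ q → x ≠ r → σ.symm x = x := by
  refine ⟨Equiv.swap p r * Equiv.swap p q, ?_, ?_, ?_, ?_, fun x h1 h2 h3 => ?_⟩
  · refine Equiv.ext fun x => ?_
    simp only [pow_succ, pow_zero, one_mul, Equiv.Perm.mul_apply, Equiv.Perm.one_apply]
    by_cases hp : x = p <;> by_cases hq : x = q <;> by_cases hr : x = r <;>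
      simp [Equiv.swap_apply_def, hp, hq, hr, hpq, hpr, hqr, hpq.symm, hpr.symm, hqr.symm] <;> simp_all
  all_goals
    rw [Equiv.symm_apply_eq]
    simp [Equiv.swap_apply_def, *, Ne.symm hpq, Ne.symm hpr, Ne.symm hqr]

open Classical in
theorem SOver.step_two [NeZero m] {S : Finset (Fin t)} {θ : Fin t → Matrix (Fin m) (Fin m) F}
    (hη : ∀ i ∈ S, Eta G (θ i)) (hθ : ∀ i, i ∉ S → θ i = 1) (hM : TMem M θ) (hS : Odd S.card)
    (h2 : 2 ≤ S.card) (hlt : S.card + 2 ≤ t) :
    ∃ (S' : Finset (Fin t)) (θ' : Fin t → Matrix (Fin m) (Fin m) F),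
      S.card + 2 = S'.card ∧ TS G S' θ' ∧ TMem M θ' := by
  obtain ⟨p1, hp1, p2, hp2, hp12⟩ := Finset.one_lt_card.1 (show 1 < S.card by omega)
  have hcard : 2 ≤ Sᶜ.card := by
    rw [Finset.card_compl, Fintype.card_fin]
    omega
  obtain ⟨r1, hr1, r2, hr2, hr12⟩ := Finset.one_lt_card.1 (show 1 < Sᶜ.card by omega)
  rw [Finset.mem_compl] at hr1 hr2
  have n1 : p1 ≠ r1 := fun e => hr1 (e ▸ hp1)
  have n2 : p1 ≠ r2 := fun e => hr2 (e ▸ hp1)
  have n3 : p2 ≠ r1 := fun e => hr1 (e ▸ hp2)
  have n4 : p2 ≠ r2 := fun e => hr2 (e ▸ hp2)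
  obtain ⟨σ, hσ, s1, s2, s3, s4⟩ := exists_cycle n1 n2 hr12
  obtain ⟨ρ, hρ, t1, t2, t3, t4⟩ := exists_cycle n4 hp12.symm (Ne.symm n2)
  choose h w hh hw0 hwe hwt using fun i : S => H.exists_partner (Or.inl (hη i.1 i.2))
  set R := S \ {p1, p2} with hR
  let h' : Fin t → Matrix (Fin m) (Fin m) F := fun i => if hi : i ∈ R then h ⟨i, (Finset.mem_sdiff.1 hi).1⟩ else 1
  let w' : Fin t → Fin m → F := fun i => if hi : i ∈ R then w ⟨i, (Finset.mem_sdiff.1 hi).1⟩ else 0
  have hh' : ∀ i, adjG G (h' i) * h' i = 1 := fun i => by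
    by_cases hi : i ∈ R <;> simp only [h', hi, dite_true, dite_false, hh, H.hG.adjG_one, one_mul]
  set θ₂ := fun i => θ (σ.symm (ρ.symm i)) with hθ₂
  have hM₂ : TMem M θ₂ := H.tmem_perm (H.tmem_perm hM hσ) hρ
  have hM' := H.tmem_conj hM₂ h' hh'
  have e_r1 : θ₂ r1 = θ p1 := by simp only [hθ₂, t4 r1 (Ne.symm n3) hr12 (Ne.symm n1), s1]
  have e_r2 : θ₂ r2 = θ p2 := by simp only [hθ₂, t1, s4 p2 hp12.symm n3 n4]
  have e_p1 : θ₂ p1 = 1 := by simp only [hθ₂, t2, s2]; exact hθ r1 hr1
  have e_p2 : θ₂ p2 = 1 := by simp only [hθ₂, t3, s3]; exact hθ r2 hr2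
  have e_o : ∀ i, i ≠ p1 → i ≠ p2 → i ≠ r1 → i ≠ r2 → θ₂ i = θ i := fun i a b c d => by
    simp only [hθ₂, t4 i b d a, s4 i a c d]
  have hnR : ∀ i, i = p1 ∨ i = p2 ∨ i = r1 ∨ i = r2 → i ∉ R := by
    rintro i (rfl | rfl | rfl | rfl) <;> simp [hR, hr1, hr2]
  have hval : ∀ i, i = p1 ∨ i = p2 ∨ i = r1 ∨ i = r2 → h' i * θ₂ i * adjG G (h' i) = θ₂ i := fun i hi => by
    simp only [h', dif_neg (hnR i hi), H.hG.adjG_one, one_mul, mul_one]
  have v_p1 := (hval p1 (by simp)).trans e_p1
  have v_r1 := (hval r1 (by simp)).trans e_r1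
  have sq1 := Typ.sq H.hG (Or.inl (hη p1 hp1))
  have hbr := H.bracket hM hM' (p := p1) (q := r1) sq1
    (by rw [v_r1]; exact sq1)
    (by rw [v_p1, mul_one]; exact sq1)
    (by rw [v_r1, hθ r1 hr1, mul_one]; exact sq1)
  have hcm := H.contractMany sq1 (a := 1) (b := 1)
    (by rw [one_smul, Pi.mul_apply, v_p1, mul_one])
    (by rw [one_smul, Pi.mul_apply, v_p1, one_mul]) hbr w' R (hnR p1 (by simp))
  let θ' : Fin t → Matrix (Fin m) (Fin m) F :=
    fun i => if i ∈ R then Eop G (w' i) (w' i) else θ i * θ₂ i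
  refine ⟨S ∪ {r1, r2}, θ', ?_, ⟨fun i hi => Or.inl ?_, fun i hi => ?_⟩, ?_⟩
  · rw [Finset.card_union_of_disjoint (by simp [hr1, hr2]), Finset.card_pair hr12]
  · by_cases hiR : i ∈ R
    · simp only [θ', if_pos hiR, w', dif_pos hiR]
      exact ⟨_, hw0 _, rfl⟩
    · simp only [θ', if_neg hiR]
      have hcase : i = p1 ∨ i = p2 ∨ i = r1 ∨ i = r2 := by
        simp [hR, Finset.mem_sdiff] at hiR hi
        by_contra hc
        push Not at hc
        rcases hi with hi | hi | hi
        exacts [hc.2.2.1 hi, hc.2.2.2 hi, hc.2.1 (hiR hi hc.1)]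
      rcases hcase with rfl | rfl | rfl | rfl
      · rw [e_p1, mul_one]; exact hη _ hp1
      · rw [e_p2, mul_one]; exact hη _ hp2
      · rw [e_r1, hθ _ hr1, one_mul]; exact hη _ hp1
      · rw [e_r2, hθ _ hr2, one_mul]; exact hη _ hp2
  · simp only [Finset.mem_union, Finset.mem_insert, Finset.mem_singleton, not_or] at hi
    have hiR : i ∉ R := fun h => hi.1 (Finset.mem_sdiff.1 h).1
    simp only [θ', if_neg hiR]
    rw [e_o i (fun e => hi.1 (e ▸ hp1)) (fun e => hi.1 (e ▸ hp2)) hi.2.1 hi.2.2, hθ i hi.1, mul_one]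
  refine H.tmem_of_sub hcm (a := fun i => if i ∈ R then -1 else 1) (b := fun _ => 1) (fun i => ?_) (fun i => ?_) ?_
  rotate_left 2
  · rw [Finset.prod_ite_mem, Finset.univ_inter, Finset.prod_const, Finset.prod_const, one_pow, Odd.neg_one_pow]
    · rw [show (-1 : F) - 1 = -2 by norm_num, neg_ne_zero]
      exact H.two
    · rw [hR, Finset.card_sdiff_of_subset (by simp [Finset.insert_subset_iff, hp1, hp2]), Finset.card_pair hp12]
      obtain ⟨a, ha⟩ := hS
      exact ⟨a - 1, by omega⟩
  all_goals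
    by_cases hiR : i ∈ R
    · have hiR' := hiR
      simp only [hR, Finset.mem_sdiff, Finset.mem_insert, Finset.mem_singleton, not_or] at hiR'
      simp only [hiR, if_true, θ', w', h', dite_true, Pi.mul_apply, neg_one_smul, one_smul,
        e_o i hiR'.2.1 hiR'.2.2 (fun e => hr1 (e ▸ hiR'.1)) (fun e => hr2 (e ▸ hiR'.1))]
      first
        | exact (hwe ⟨i, hiR'.1⟩ (hη i hiR'.1)).1
        | exact (hwe ⟨i, hiR'.1⟩ (hη i hiR'.1)).2
    · simp only [hiR, if_false, θ', h', dite_false, Pi.mul_apply, H.hG.adjG_one, one_mul, mul_one, one_smul]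
      try
        by_cases hiS : i ∈ S
        · have : i = p1 ∨ i = p2 := by simp [hR, Finset.mem_sdiff] at hiR; tauto
          rcases this with rfl | rfl
          · rw [e_p1, one_mul, mul_one]
          · rw [e_p2, one_mul, mul_one]
        · rw [hθ i hiS, one_mul, mul_one]

open Classical in
theorem SOver.step_three [NeZero m] {S : Finset (Fin t)} {θ : Fin t → Matrix (Fin m) (Fin m) F} (hθ : TS G S θ)
    (hM : TMem M θ) (h2 : 2 ≤ S.card) (hS : Even S.card) (hlt : S.card < t) :
    ∃ (S' : Finset (Fin t)) (θ' : Fin t → Matrix (Fin m) (Fin m) F),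
      S.card + 1 = S'.card ∧ TS G S' θ' ∧ TMem M θ' := by
  obtain ⟨q₀, hq₀⟩ := Finset.card_pos.1 (show 0 < S.card by omega)
  have hodd := H.odd_eta hθ hq₀ one_ne_zero (hM 1)
  obtain ⟨p2, hp2'⟩ := Finset.card_pos.1 hodd.pos
  obtain ⟨hp2, u₀, hu₀, hθ2⟩ := Finset.mem_filter.1 hp2'
  obtain ⟨p1, hp1, hp1n⟩ : ∃ i ∈ S, ¬ Eta G (θ i) := by
    by_contra! hc
    rw [Finset.filter_true_of_mem hc] at hodd
    exact Nat.not_even_iff_odd.2 hodd hS
  obtain ⟨a, b, hab, hne, hθ1⟩ := (hθ.1 p1 hp1).resolve_left hp1n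
  have hne' : tau G b a ≠ 0 := fun e => hne (by rw [tau, ← neg_sub, ← tau, e, neg_zero])
  obtain ⟨u, hbu, hau⟩ := exists_dual H.hG hne'
  have hu : u ≠ 0 := by
    rintro rfl
    rw [← zero_smul F b, fG_smul_right, zero_mul] at hbu
    exact zero_ne_one hbu
  have ha : a ≠ 0 := by
    rintro rfl
    exact hne (by rw [tau, Eop, Eop, Matrix.mulVec_zero, Matrix.vecMulVec_zero, Matrix.zero_vecMulVec, sub_zero])
  obtain ⟨r, hr⟩ : ∃ r, r ∉ S := by
    by_contra! hc
    have := Finset.eq_univ_of_forall hc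
    rw [this, Finset.card_univ, Fintype.card_fin] at hlt
    exact lt_irrefl t hlt
  have n12 : p1 ≠ p2 := fun e => hp1n (e ▸ ⟨u₀, hu₀, hθ2⟩)
  have n1r : p1 ≠ r := fun e => hr (e ▸ hp1)
  have n2r : p2 ≠ r := fun e => hr (e ▸ hp2)
  obtain ⟨σ, hσ, s1, s2, s3, s4⟩ := exists_cycle n12 n1r n2r
  obtain ⟨h₀, hh₀, hhu⟩ := H.exists_rt hu₀ hu
  let hA : Fin t → Matrix (Fin m) (Fin m) F := fun i => if i = p2 then h₀ else 1
  have hhA : ∀ i, adjG G (hA i) * hA i = 1 := fun i => by
    by_cases hi : i = p2 <;> simp only [hA, hi, if_true, if_false, hh₀, H.hG.adjG_one, one_mul]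
  choose h w hh hw0 hwe hwt using fun i : S => H.exists_partner (hθ.1 i.1 i.2)
  set R := S \ {p1, p2} with hR
  let h' : Fin t → Matrix (Fin m) (Fin m) F := fun i => if hi : i ∈ R then h ⟨i, (Finset.mem_sdiff.1 hi).1⟩ else 1
  let w' : Fin t → Fin m → F := fun i => if hi : i ∈ R then w ⟨i, (Finset.mem_sdiff.1 hi).1⟩ else 0
  have hh' : ∀ i, adjG G (h' i) * h' i = 1 := fun i => by
    by_cases hi : i ∈ R <;> simp only [h', hi, dite_true, dite_false, hh, H.hG.adjG_one, one_mul]
  have hMA := H.tmem_conj hM hA hhA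
  have hMB := H.tmem_conj (H.tmem_perm hM hσ) h' hh'
  have hRp : ∀ i, i = p1 ∨ i = p2 ∨ i = r → i ∉ R := by rintro i (rfl | rfl | rfl) <;> simp [hR, hr]
  have A1 : hA p1 * θ p1 * adjG G (hA p1) = θ p1 := by
    simp only [hA, if_neg n12, H.hG.adjG_one, one_mul, mul_one]
  have A2 : hA p2 * θ p2 * adjG G (hA p2) = Eop G u u := by
    simp only [hA, if_true, hθ2, conj_Eop H.hG, hhu]
  have Ar : hA r * θ r * adjG G (hA r) = 1 := by
    simp only [hA, if_neg n2r.symm, H.hG.adjG_one, one_mul, mul_one, hθ.2 r hr]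
  have B1 : h' p1 * θ (σ.symm p1) * adjG G (h' p1) = 1 := by
    simp only [h', dif_neg (hRp p1 (by simp)), H.hG.adjG_one, one_mul, mul_one, s3, hθ.2 r hr]
  have B2 : h' p2 * θ (σ.symm p2) * adjG G (h' p2) = θ p1 := by
    simp only [h', dif_neg (hRp p2 (by simp)), H.hG.adjG_one, one_mul, mul_one, s1]
  have Br : h' r * θ (σ.symm r) * adjG G (h' r) = θ p2 := by
    simp only [h', dif_neg (hRp r (by simp)), H.hG.adjG_one, one_mul, mul_one, s2]
  have sq1 := Typ.sq H.hG (hθ.1 p1 hp1)
  have sq2 := Typ.sq H.hG (hθ.1 p2 hp2)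
  have hbr := H.bracket hMA hMB (p := p1) (q := r) (by rw [A1]; exact sq1) (by simp only [Br]; exact sq2)
    (by simp only [A1, B1, mul_one]; exact sq1) (by simp only [Br, Ar, mul_one]; exact sq2)
  set R₁ := R.filter fun i => Eta G (θ i) with hR₁
  have hcm := H.contractMany sq1 (a := 1) (b := 1)
    (by simp only [one_smul, Pi.mul_apply, A1, B1, mul_one])
    (by simp only [one_smul, Pi.mul_apply, A1, B1, one_mul]) hbr w' R₁
    (fun h => hRp p1 (by simp) (Finset.mem_filter.1 h).1)
  obtain ⟨e1, e2⟩ := eta_mul_tau H.hG (b := b) hau hbu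
  let θ' : Fin t → Matrix (Fin m) (Fin m) F := fun i =>
    if i ∈ R then Eop G (w' i) (w' i) else if i = p2 then tau G a u else if i = r then θ p2 else θ i
  refine ⟨insert r S, θ', by rw [Finset.card_insert_of_notMem hr], ⟨fun i hi => ?_, fun i hi => ?_⟩, ?_⟩
  · by_cases hiR : i ∈ R
    · simp only [θ', if_pos hiR, w', dif_pos hiR]
      exact Or.inl ⟨_, hw0 _, rfl⟩
    · simp only [θ', if_neg hiR]
      split_ifs with c1 c2
      · exact Or.inr ⟨a, u, hau, tau_ne_zero_of ha hbu (H.hG.swap_zero hab), rfl⟩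
      · exact hθ.1 p2 hp2
      · exact hθ.1 i ((Finset.mem_insert.1 hi).resolve_left c2)
  · rw [Finset.mem_insert, not_or] at hi
    have hiR : i ∉ R := fun h => hi.2 (Finset.mem_sdiff.1 h).1
    have hi2 : i ≠ p2 := fun e => hi.2 (e ▸ hp2)
    simp only [θ', if_neg hiR, if_neg hi.1, if_neg hi2]
    exact hθ.2 i hi.2
  intro z
  have hcz := hcm z
  have hA' : ∀ (X : Matrix (Fin m) (Fin m) F) (c : Fin t → F), (∀ i, i ∉ R → c i = 1) →
      pureT (fun i => c i • Function.update θ' p2 X i) = (∏ i, c i) • pureT (Function.update θ' p2 X) :=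
    fun X c _ => pureT_smul_pi _ _
  have e3 : pureT (fun i => if i ∈ R₁ then Eop G (w' i) (w' i) *
        ((fun i => hA i * θ i * adjG G (hA i)) * fun i => h' i * θ (σ.symm i) * adjG G (h' i)) i *
        Eop G (w' i) (w' i) else
        ((fun i => hA i * θ i * adjG G (hA i)) * fun i => h' i * θ (σ.symm i) * adjG G (h' i)) i) =
      pureT fun i => (if i ∈ R₁ then (-1 : F) else 1) • Function.update θ' p2 (-Eop G u a) i := by
    congr 1
    funext i
    by_cases hi2 : i = p2
    · subst hi2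
      rw [if_neg (fun h => hRp _ (by simp) (Finset.mem_filter.1 h).1),
        if_neg (fun h => hRp _ (by simp) (Finset.mem_filter.1 h).1), one_smul, Function.update_self, Pi.mul_apply]
      simp only [A2, B2, hθ1]
      exact e1
    rw [Function.update_of_ne hi2]
    by_cases hiR : i ∈ R
    · have hiR' := hiR
      simp only [hR, Finset.mem_sdiff, Finset.mem_insert, Finset.mem_singleton, not_or] at hiR'
      have hir : i ≠ r := fun e => hr (e ▸ hiR'.1)
      simp only [θ', hR₁, Finset.mem_filter, hiR, true_and, if_true, Pi.mul_apply, hA, hi2, if_false, h', w',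
        dite_true, H.hG.adjG_one, one_mul, mul_one, s4 i hiR'.2.1 hi2 hir]
      by_cases he : Eta G (θ i)
      · simp only [he, if_true, neg_one_smul]; exact (hwe ⟨i, hiR'.1⟩ he).1
      · simp only [he, if_false, one_smul]; exact (hwt ⟨i, hiR'.1⟩ he).1
    · simp only [θ', hR₁, Finset.mem_filter, hiR, false_and, if_false, hi2, one_smul, Pi.mul_apply]
      by_cases hir : i = r
      · subst hir; rw [Ar, Br, one_mul]; simp
      · by_cases hi1 : i = p1
        · subst hi1; rw [A1, B1, mul_one]; simp [hir]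
        · have hiS : i ∉ S := fun h => hiR (by simp [hR, Finset.mem_sdiff, h, hi1, hi2])
          simp only [hA, hi2, hir, if_false, h', hiR, dite_false, H.hG.adjG_one, one_mul, mul_one,
            s4 i hi1 hi2 hir, hθ.2 i hiS]
  have e4 : pureT (fun i => if i ∈ R₁ then Eop G (w' i) (w' i) *
        ((fun i => h' i * θ (σ.symm i) * adjG G (h' i)) * fun i => hA i * θ i * adjG G (hA i)) i *
        Eop G (w' i) (w' i) else
        ((fun i => h' i * θ (σ.symm i) * adjG G (h' i)) * fun i => hA i * θ i * adjG G (hA i)) i) =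
      pureT fun i => (if i ∈ R \ R₁ then (-1 : F) else 1) • Function.update θ' p2 (-Eop G a u) i := by
    congr 1
    funext i
    by_cases hi2 : i = p2
    · subst hi2
      rw [if_neg (fun h => hRp _ (by simp) (Finset.mem_filter.1 h).1),
        if_neg (fun h => hRp _ (by simp) (Finset.mem_sdiff.1 h).1), one_smul, Function.update_self, Pi.mul_apply]
      simp only [A2, B2, hθ1]
      exact e2
    rw [Function.update_of_ne hi2]
    by_cases hiR : i ∈ R
    · have hiR' := hiR
      simp only [hR, Finset.mem_sdiff, Finset.mem_insert, Finset.mem_singleton, not_or] at hiR'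
      have hir : i ≠ r := fun e => hr (e ▸ hiR'.1)
      simp only [θ', hR₁, Finset.mem_sdiff, Finset.mem_filter, hiR, true_and, if_true, Pi.mul_apply, hA, hi2,
        if_false, h', w', dite_true, H.hG.adjG_one, one_mul, mul_one, s4 i hiR'.2.1 hi2 hir]
      by_cases he : Eta G (θ i)
      · simp only [he, not_true_eq_false, if_true, if_false, one_smul]; exact (hwe ⟨i, hiR'.1⟩ he).2
      · simp only [he, not_false_eq_true, if_true, if_false, neg_one_smul]; exact (hwt ⟨i, hiR'.1⟩ he).2.1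
    · simp only [θ', hR₁, Finset.mem_sdiff, Finset.mem_filter, hiR, false_and, if_false, hi2, one_smul, Pi.mul_apply]
      by_cases hir : i = r
      · subst hir; rw [Ar, Br, mul_one]; simp
      · by_cases hi1 : i = p1
        · subst hi1; rw [A1, B1, one_mul]; simp [hir]
        · have hiS : i ∉ S := fun h => hiR (by simp [hR, Finset.mem_sdiff, h, hi1, hi2])
          simp only [hA, hi2, hir, if_false, h', hiR, dite_false, H.hG.adjG_one, one_mul, mul_one,
            s4 i hi1 hi2 hir, hθ.2 i hiS]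
  have hsub : S.filter (fun i => Eta G (θ i)) = insert p2 R₁ := by
    ext i
    simp only [hR₁, hR, Finset.mem_filter, Finset.mem_insert, Finset.mem_sdiff, Finset.mem_singleton, not_or]
    constructor
    · rintro ⟨h1, h2⟩
      by_cases hi : i = p2
      · exact Or.inl hi
      · exact Or.inr ⟨⟨h1, fun e => hp1n (e ▸ h2), hi⟩, h2⟩
    · rintro (rfl | ⟨⟨h1, -, -⟩, h2⟩)
      · exact ⟨hp2, u₀, hu₀, hθ2⟩
      · exact ⟨h1, h2⟩
  have hp2R₁ : p2 ∉ R₁ := fun h => hRp p2 (by simp) (Finset.mem_filter.1 h).1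
  rw [hsub, Finset.card_insert_of_notMem hp2R₁] at hodd
  have hev1 : Even R₁.card := by rcases hodd with ⟨c, hc⟩; exact ⟨c, by omega⟩
  have hev2 : Even (R \ R₁).card := by
    have hRc : R.card = S.card - 2 := by
      rw [hR, Finset.card_sdiff_of_subset (by simp [Finset.insert_subset_iff, hp1, hp2]), Finset.card_pair n12]
    have hle : R₁.card ≤ R.card := Finset.card_filter_le _ _
    rw [Finset.card_sdiff_of_subset (show R₁ ⊆ R from Finset.filter_subset _ _)]
    rcases hS with ⟨c, hc⟩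
    rcases hev1 with ⟨d, hd⟩
    exact ⟨c - 1 - d, by omega⟩
  rw [e3, e4, pureT_smul_pi, pureT_smul_pi, Finset.prod_ite_mem, Finset.univ_inter, Finset.prod_ite_mem,
    Finset.univ_inter, Finset.prod_const, Finset.prod_const, hev1.neg_one_pow, hev2.neg_one_pow, one_smul, one_smul,
    pureT_sub_update] at hcz
  have : Function.update θ' p2 (-Eop G u a - -Eop G a u) = θ' := by
    rw [Function.update_eq_self_iff]
    simp only [θ', if_neg (hRp p2 (by simp)), if_true, tau]
    abel
  rwa [this] at hcz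

theorem SOver.eta_all [NeZero m] (hodd : Odd t) (n : ℕ) : ∀ (S : Finset (Fin t)) (θ : Fin t → Matrix (Fin m) (Fin m) F),
    t - S.card ≤ n → 2 ≤ S.card → TS G S θ → TMem M θ →
      ∃ θ' : Fin t → Matrix (Fin m) (Fin m) F, (∀ i, Eta G (θ' i)) ∧ TMem M θ' := by
  induction n with
  | zero =>
    intro S θ hn h2 hθ hM
    have hc := S.card_le_univ
    rw [Fintype.card_fin] at hc
    have hS : S = Finset.univ := Finset.eq_univ_of_card S (by rw [Fintype.card_fin]; omega)
    obtain ⟨θ', h1, -, h3⟩ := H.step_one hθ hM (by rw [show S.card = t by omega]; exact hodd)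
    exact ⟨θ', fun i => h1 i (hS ▸ Finset.mem_univ i), h3⟩
  | succ n ih =>
    intro S θ hn h2 hθ hM
    have hc := S.card_le_univ
    rw [Fintype.card_fin] at hc
    rcases Nat.even_or_odd S.card with he | ho
    · obtain ⟨S', θ', hc', hθ', hM'⟩ := H.step_three hθ hM h2 he
        (lt_of_le_of_ne hc fun e => Nat.not_even_iff_odd.2 hodd (e ▸ he))
      exact ih S' θ' (by omega) (by omega) hθ' hM'
    · obtain ⟨θ₁, h1, h3, h4⟩ := H.step_one hθ hM ho
      by_cases hlt : S.card < t
      · obtain ⟨S', θ', hc', hθ', hM'⟩ := H.step_two h1 h3 h4 ho h2 (by rcases ho with ⟨a, ha⟩; rcases hodd with ⟨b, hb⟩; omega)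
        exact ih S' θ' (by omega) (by omega) hθ' hM'
      · have hS : S = Finset.univ := Finset.eq_univ_of_card S (by rw [Fintype.card_fin]; omega)
        exact ⟨θ₁, fun i => h1 i (hS ▸ Finset.mem_univ i), h4⟩

/-- A typed element at one position with a non-scalar cofactor gives a root element at every position. -/
theorem SOver.eta_everywhere [NeZero m] (hodd : Odd t) {j : Fin t} {T : Matrix (Fin m) (Fin m) F} (hT : Typ G T)
    {C : Matrix (TI t m) (TI t m) F} (hC : Comm j C) (hns : ¬ ∃ c : F, C = c • 1)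
    (hM : MemU M (lift j T * C)) : ∃ θ : Fin t → Matrix (Fin m) (Fin m) F, (∀ i, Eta G (θ i)) ∧ TMem M θ := by
  obtain ⟨S', θ', c, hsub, hθ', hc, hM', hlt⟩ := H.reduce t {j} (Function.update 1 j T) C j (by omega) (by simp)
    (by rw [Function.update_self]; exact Typ.sq H.hG hT) (by simpa using hT)
    (fun i hi => by rw [Function.update_of_ne (by simpa using hi)]; rfl) (by simpa using hC)
    (fun e => hns ⟨0, by rw [e, zero_smul]⟩) (by rwa [pureT_update_eq_lift])
  have hne : ∃ i, ¬ Comm i C := by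
    by_contra! hall
    exact hns (scalar_of_comm_all hall)
  have h2 := hlt hne
  rw [Finset.card_singleton] at h2
  exact H.eta_all hodd t S' θ' (by omega) h2 hθ' (H.tmem_of_single hθ' (hsub (Finset.mem_singleton_self j)) hc hM')

end Over

end Cfsg.Agent.TensorWreath43
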