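import Cfsg.Agent.Lib.TensorWreath43Block

/-!
Elements of an overgroup that stabilise a ruler are Kronecker-shaped.
-/

set_option autoImplicit false
set_option linter.unusedSectionVars false

namespace Cfsg.Agent.TensorWreath43

open scoped Matrix

variable {F : Type*} [Field F] {κ : Type} [Fintype κ] [DecidableEq κ] {m : ℕ} [NeZero m]

/-- The hypotheses on the overgroup: it contains the scalar-block elements of determinant one, and its
row-zero elements have scalar blocks. -/
structure Good (M : Subgroup (BM F κ m)ˣ) : Prop where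
  sl : ∀ η : GL (Fin m) F, (η : Matrix (Fin m) (Fin m) F).det = 1 → scU η ∈ M
  rad : ∀ g ∈ M, (∀ k, k ≠ 0 → ∀ l, (g : BM F κ m) k l = (1 : BM F κ m) k l) → (g : BM F κ m) 0 0 = 1 →
    ∀ l, ∃ c : F, (g : BM F κ m) 0 l = c • (1 : Matrix κ κ F)

/-- The unipotent element `1 + w d` with `d w = 0`. -/
noncomputable def trU (w d : Fin m → F) : GL (Fin m) F :=
  open Classical in
  if h : d ⬝ᵥ w = 0 then
    ⟨1 + Matrix.vecMulVec w d, 1 - Matrix.vecMulVec w d,
      by rw [add_mul, one_mul, mul_sub, mul_one, Matrix.vecMulVec_mul_vecMulVec, h]; simp,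
      by rw [sub_mul, one_mul, mul_add, mul_one, Matrix.vecMulVec_mul_vecMulVec, h]; simp⟩
  else 1

theorem trU_val {w d : Fin m → F} (h : d ⬝ᵥ w = 0) :
    (trU w d : Matrix (Fin m) (Fin m) F) = 1 + Matrix.vecMulVec w d := by
  rw [trU, dif_pos h]

theorem trU_inv_val {w d : Fin m → F} (h : d ⬝ᵥ w = 0) :
    (((trU w d)⁻¹ : GL (Fin m) F) : Matrix (Fin m) (Fin m) F) = 1 - Matrix.vecMulVec w d := by
  rw [trU, dif_pos h]; rfl

theorem trU_det {w d : Fin m → F} (h : d ⬝ᵥ w = 0) : (trU w d : Matrix (Fin m) (Fin m) F).det = 1 := by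
  rw [trU_val h, Matrix.vecMulVec_eq Unit, Matrix.det_one_add_replicateCol_mul_replicateRow, h, add_zero]

/-- A determinant-one matrix with prescribed first column up to scale. -/
theorem exists_move {c : Fin m → F} (hc : c ≠ 0) :
    ∃ (σ : GL (Fin m) F) (s : F), (σ : Matrix (Fin m) (Fin m) F).det = 1 ∧ s ≠ 0 ∧
      ∀ k, (σ : Matrix (Fin m) (Fin m) F) k 0 = s * c k := by
  classical
  have key : ∀ c : Fin m → F, c 0 ≠ 0 → ∃ (σ : GL (Fin m) F) (s : F), (σ : Matrix (Fin m) (Fin m) F).det = 1 ∧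
      s ≠ 0 ∧ ∀ k, (σ : Matrix (Fin m) (Fin m) F) k 0 = s * c k := by
    intro c hc0
    let A : Matrix (Fin m) (Fin m) F := (1 : Matrix (Fin m) (Fin m) F).updateCol 0 ((c 0)⁻¹ • c)
    have hA : A.det = 1 := by
      rw [← Matrix.cramer_apply, Matrix.cramer_one]
      simp [hc0]
    refine ⟨Matrix.GeneralLinearGroup.mkOfDetNeZero A (by rw [hA]; exact one_ne_zero), (c 0)⁻¹, hA,
      inv_ne_zero hc0, fun k => ?_⟩
    show A k 0 = _
    simp [A]
  by_cases hc0 : c 0 = 0
  · obtain ⟨k, hk⟩ := Function.ne_iff.1 hc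
    simp only [Pi.zero_apply] at hk
    have hk0 : k ≠ 0 := fun e => hk (e ▸ hc0)
    set τ := trU (Pi.single (0 : Fin m) (1 : F)) (Pi.single k 1) with hτ
    have hd : (Pi.single k (1 : F) : Fin m → F) ⬝ᵥ Pi.single (0 : Fin m) 1 = 0 := by simp [hk0]
    set c' := (τ : Matrix (Fin m) (Fin m) F) *ᵥ c with hc'
    obtain ⟨σ, s, hσ, hs, hσc⟩ := key c' (by
      rw [hc', hτ, trU_val hd, Matrix.add_mulVec, Matrix.one_mulVec, Matrix.vecMulVec_mulVec]
      simp [hc0, hk])
    refine ⟨τ⁻¹ * σ, s, ?_, hs, fun j => ?_⟩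
    · rw [Units.val_mul, Matrix.det_mul, hσ, mul_one]
      have : (τ⁻¹ : GL (Fin m) F).val.det * (τ : Matrix (Fin m) (Fin m) F).det = 1 := by
        rw [← Matrix.det_mul, Units.inv_mul, Matrix.det_one]
      rwa [trU_det hd, mul_one] at this
    · have hback : ((τ⁻¹ : GL (Fin m) F) : Matrix (Fin m) (Fin m) F) *ᵥ c' = c := by
        rw [hc', Matrix.mulVec_mulVec, Units.inv_mul, Matrix.one_mulVec]
      rw [Units.val_mul, Matrix.mul_apply, ← congrFun hback j, Matrix.mulVec, dotProduct, Finset.mul_sum]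
      exact Finset.sum_congr rfl fun i _ => by rw [hσc]; ring
  · exact key c hc0

theorem sc_mul_apply (η : Matrix (Fin m) (Fin m) F) (Z : BM F κ m) (i j : Fin m) :
    ((sc η : BM F κ m) * Z) i j = ∑ p, η i p • Z p j := by
  rw [Matrix.mul_apply]
  exact Finset.sum_congr rfl fun p _ => by rw [sc_apply, Matrix.smul_mul, one_mul]

theorem mul_sc_apply (Z : BM F κ m) (η : Matrix (Fin m) (Fin m) F) (i j : Fin m) :
    (Z * (sc η : BM F κ m)) i j = ∑ p, η p j • Z i p := by
  rw [Matrix.mul_apply]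
  exact Finset.sum_congr rfl fun p _ => by rw [sc_apply, Matrix.mul_smul, mul_one]

variable [Nonempty κ] {M : Subgroup (BM F κ m)ˣ}

theorem xU_mem (hM : Good M) (φ : Fin m → F) : xU φ ∈ M := by
  by_cases h : φ 0 = 0
  · have hd : φ ⬝ᵥ Pi.single (0 : Fin m) (1 : F) = 0 := by simp [h]
    have := hM.sl _ (trU_det hd)
    rwa [show (scU (trU (Pi.single (0 : Fin m) 1) φ) : (BM F κ m)ˣ) = xU φ from
      Units.ext (by rw [scU_val, trU_val hd, map_add, map_one, xU_val h]; rfl)] at this
  · rw [xU, dif_neg h]; exact M.one_mem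

theorem yU_mem (hM : Good M) {g : (BM F κ m)ˣ} (hg : g ∈ M) (φ : Fin m → F) : yU g φ ∈ M :=
  M.mul_mem (M.mul_mem hg (xU_mem hM φ)) (M.inv_mem hg)

theorem mul_rowZero_apply' {A : BM F κ m} (hcol : ∀ k, k ≠ 0 → A k 0 = 0) (Z : BM F κ m) (i : Fin m) :
    (Z * A) i 0 = Z i 0 * A 0 0 := by
  rw [Matrix.mul_apply, Finset.sum_eq_single (0 : Fin m) (fun p _ hp => by rw [hcol p hp, mul_zero]) (by simp)]

/-- An element stabilising the ruler at the first coordinate is Kronecker-shaped. -/
theorem kron_of_col_zero (hm : 3 ≤ m) (hM : Good M) {g : (BM F κ m)ˣ} (hg : g ∈ M)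
    (hcol : ∀ k, k ≠ 0 → (g : BM F κ m) k 0 = 0) : Kron (g : BM F κ m) := by
  classical
  set A := (g : BM F κ m)
  set B := ((g⁻¹ : (BM F κ m)ˣ) : BM F κ m) with hB
  have hBA : B * A = 1 := Units.inv_mul g
  have h00 : B 0 0 * A 0 0 = 1 := by
    have := congrFun (congrFun hBA 0) 0
    rwa [mul_rowZero_apply' hcol, Matrix.one_apply_eq] at this
  have h00' : A 0 0 * B 0 0 = 1 := mul_eq_one_comm.1 h00
  have hcolB : ∀ k, k ≠ 0 → B k 0 = 0 := by
    intro k hk
    have := congrFun (congrFun hBA k) 0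
    rw [mul_rowZero_apply' hcol, Matrix.one_apply_ne hk] at this
    rw [← mul_one (B k 0), ← h00', ← mul_assoc, this, zero_mul]
  -- the quotient of an element is scalar up to the corner
  have quot : ∀ g : (BM F κ m)ˣ, g ∈ M → (∀ k, k ≠ 0 → (g : BM F κ m) k 0 = 0) →
      (∀ k, k ≠ 0 → ((g⁻¹ : (BM F κ m)ˣ) : BM F κ m) k 0 = 0) →
      ∀ l, l ≠ 0 → ∀ j, ∃ c : F, (g : BM F κ m) 0 0 * ((g⁻¹ : (BM F κ m)ˣ) : BM F κ m) l j = c • (1 : Matrix κ κ F) := by
    intro g hg hg1 hg2 l hl j
    have hφ : (Pi.single l (1 : F) : Fin m → F) 0 = 0 := by simp [Ne.symm hl]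
    have hval : ∀ k i, Bc g (Pi.single l (1 : F)) k i = (g : BM F κ m) k 0 * ((g⁻¹ : (BM F κ m)ˣ) : BM F κ m) l i := by
      intro k i
      rw [Bc_apply, vrow, Finset.sum_eq_single l (fun p _ hp => by simp [hp]) (by simp)]
      simp
    obtain ⟨c, hc⟩ := hM.rad _ (yU_mem hM hg (Pi.single l 1)) (fun k hk i => by
        rw [yU_val hφ, Matrix.add_apply, hval, hg1 k hk, zero_mul, add_zero])
      (by rw [yU_val hφ, Matrix.add_apply, hval, hg2 l hl, mul_zero, add_zero, Matrix.one_apply_eq]) j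
    rw [yU_val hφ, Matrix.add_apply, hval] at hc
    by_cases hj : j = 0
    · subst hj; exact ⟨0, by rw [hg2 l hl, mul_zero, zero_smul]⟩
    · exact ⟨c, by rwa [Matrix.one_apply_ne (Ne.symm hj), zero_add] at hc⟩
  have hd : ∀ l j, ∃ c : F, l ≠ 0 → B l j = c • B 0 0 := fun l j => by
    by_cases hl : l = 0
    · exact ⟨0, fun h => absurd hl h⟩
    obtain ⟨c, hc⟩ := quot g hg hcol hcolB l hl j
    exact ⟨c, fun _ => by rw [← one_mul (B l j), ← h00, mul_assoc, hc, Matrix.mul_smul, mul_one]⟩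
  have hd' : ∀ l j, ∃ c : F, l ≠ 0 → A l j = c • A 0 0 := fun l j => by
    by_cases hl : l = 0
    · exact ⟨0, fun h => absurd hl h⟩
    obtain ⟨c, hc⟩ := quot g⁻¹ (M.inv_mem hg) hcolB (by rw [inv_inv]; exact hcol) l hl j
    rw [inv_inv] at hc
    exact ⟨c, fun _ => by rw [← one_mul (A l j), ← h00', mul_assoc, hc, Matrix.mul_smul, mul_one]⟩
  choose d hd using hd
  choose d' hd' using hd'
  -- the top row
  have top : ∀ k, k ≠ 0 → ∃ c : F, A 0 k = c • A 0 0 := by
    intro k hk
    obtain ⟨l, hlk, hl⟩ : ∃ l : Fin m, l ≠ k ∧ l ≠ 0 := by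
      obtain ⟨l, hl⟩ := (({k, 0} : Finset (Fin m))ᶜ).card_pos.1 (by
        rw [Finset.card_compl, Fintype.card_fin]
        have := Finset.card_le_two (a := k) (b := (0 : Fin m))
        omega)
      exact ⟨l, by simpa using hl⟩
    have hdl0 : ∀ j, j = 0 → B l j = 0 := fun j hj => hj ▸ hcolB l hl
    let w : Fin m → F := fun i => if i = 0 then 0 else d' i k
    let dd : Fin m → F := fun j => if j = 0 then 0 else d l j
    have hB' : ∀ j, B l j = dd j • B 0 0 := fun j => by
      by_cases hj : j = 0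
      · simp [dd, hj, hcolB l hl]
      · simp [dd, hj, hd l j hl]
    have hwd : dd ⬝ᵥ w = 0 := by
      have h := congrFun (congrFun hBA l) k
      rw [Matrix.mul_apply, Matrix.one_apply_ne hlk] at h
      have e : ∀ p, B l p * A p k = (dd p * w p) • (1 : Matrix κ κ F) := fun p => by
        by_cases hp : p = 0
        · subst hp; simp [dd, hcolB l hl]
        · rw [hB', hd' p k hp, Matrix.smul_mul, Matrix.mul_smul, h00, smul_smul]
          simp [w, hp]
      simp only [e, ← Finset.sum_smul] at h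
      have := congrFun (congrFun h (Classical.arbitrary κ)) (Classical.arbitrary κ)
      simpa [dotProduct] using this
    set e := trU (Pi.single k (1 : F)) (Pi.single l 1) with he
    have hkl : (Pi.single l (1 : F) : Fin m → F) ⬝ᵥ Pi.single k 1 = 0 := by simp [hlk]
    set y := g * scU e * g⁻¹ with hy
    have hyM : y ∈ M := M.mul_mem (M.mul_mem hg (hM.sl _ (trU_det hkl))) (M.inv_mem hg)
    have hyv : ∀ i j, (y : BM F κ m) i j = (1 : BM F κ m) i j + A i k * B l j := by
      intro i j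
      rw [hy, Units.val_mul, Units.val_mul, scU_val, he, trU_val hkl, map_add, map_one, mul_add, mul_one, add_mul,
        Units.mul_inv, Matrix.add_apply]
      congr 1
      rw [Matrix.mul_apply, Finset.sum_eq_single l (fun p _ hp => by simp [mul_sc_apply, Matrix.vecMulVec_apply, hp])
        (by simp), mul_sc_apply, Finset.sum_eq_single k (fun p _ hp => by simp [Matrix.vecMulVec_apply, hp]) (by simp)]
      simp [Matrix.vecMulVec_apply, A, B]
    set z := scU (trU w dd)⁻¹ * y with hz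
    have hzM : z ∈ M := by
      rw [hz, map_inv]
      exact M.mul_mem (M.inv_mem (hM.sl _ (trU_det hwd))) hyM
    have hzv : ∀ i j, (z : BM F κ m) i j = (1 : BM F κ m) i j + if i = 0 then A 0 k * B l j else 0 := by
      intro i j
      rw [hz, Units.val_mul, scU_val, trU_inv_val hwd, map_sub, map_one, sub_mul, one_mul, Matrix.sub_apply,
        sc_mul_apply, hyv]
      simp only [hyv, smul_add, Finset.sum_add_distrib, Matrix.vecMulVec_apply]
      have e1 : ∑ p, (w i * dd p) • (1 : BM F κ m) p j = (w i * dd j) • (1 : Matrix κ κ F) := by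
        rw [Finset.sum_eq_single j (fun p _ hp => by rw [Matrix.one_apply_ne hp, smul_zero]) (by simp),
          Matrix.one_apply_eq]
      have e2 : ∑ p, (w i * dd p) • (A p k * B l j) = 0 := by
        have : ∀ p, (w i * dd p) • (A p k * B l j) = (dd p * w p) • ((w i * dd j) • (1 : Matrix κ κ F)) := fun p => by
          by_cases hp : p = 0
          · simp [dd, hp]
          · rw [hd' p k hp, hB', Matrix.smul_mul, Matrix.mul_smul, h00', smul_smul, smul_smul, smul_smul]
            simp [w, hp]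
            ring_nf
        rw [Finset.sum_congr rfl fun p _ => this p, ← Finset.sum_smul,
          show ∑ p, dd p * w p = 0 from hwd, zero_smul]
      rw [e1, e2, add_zero]
      split_ifs with hi
      · subst hi; simp [w]
      · rw [hd' i k hi, hB', Matrix.smul_mul, Matrix.mul_smul, h00', smul_smul, add_zero]
        simp [w, hi]
    obtain ⟨j, hj⟩ : ∃ j, dd j ≠ 0 := by
      by_contra! hall
      have h := congrFun (congrFun hBA l) l
      rw [Matrix.mul_apply, Matrix.one_apply_eq, Finset.sum_eq_zero fun p _ => by rw [hB', hall, zero_smul, zero_mul]] at h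
      have := congrFun (congrFun h (Classical.arbitrary κ)) (Classical.arbitrary κ)
      simp at this
    have hj0 : j ≠ 0 := fun h => hj (by simp [dd, h])
    obtain ⟨c, hc⟩ := hM.rad z hzM (fun i hi p => by rw [hzv, if_neg hi, add_zero])
      (by rw [hzv, if_pos rfl, hcolB l hl, mul_zero, add_zero, Matrix.one_apply_eq]) j
    rw [hzv, if_pos rfl, Matrix.one_apply_ne hj0.symm, zero_add, hB', Matrix.mul_smul] at hc
    refine ⟨(dd j)⁻¹ * c, ?_⟩
    have h2 : A 0 k * B 0 0 = ((dd j)⁻¹ * c) • (1 : Matrix κ κ F) := by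
      rw [← smul_smul, ← hc, smul_smul, inv_mul_cancel₀ hj, one_smul]
    rw [← mul_one (A 0 k), ← h00, ← mul_assoc, h2, Matrix.smul_mul, one_mul]
  choose c hc using top
  refine ⟨A 0 0, Matrix.of fun i j => if i = 0 then (if hj : j = 0 then 1 else c j hj) else d' i j, fun i j => ?_⟩
  by_cases hi : i = 0
  · subst hi
    by_cases hj : j = 0
    · subst hj; simp
    · simpa [hj] using hc j hj
  · simpa [hi] using hd' i j hi

end Cfsg.Agent.TensorWreath43
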