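import Cfsg.Agent.Lib.TensorWreath43Kron

/-!
The key lemma: a Kronecker-shaped action on the quotient by a ruler whose displacement avoids pure tensors is
trivial.
-/

set_option autoImplicit false
set_option linter.unusedSectionVars false

namespace Cfsg.Agent.TensorWreath43

open scoped Matrix

variable {F : Type*} [Field F] {κ : Type} [Fintype κ] [DecidableEq κ] [Nonempty κ] {m : ℕ} [NeZero m]

/-- A solution of a quadratic equation in odd dimension has an eigenvector. -/
theorem exists_eigen_of_quadratic (hodd : Odd (Fintype.card κ)) (α : Matrix κ κ F) (hα : IsUnit α) (a c : F)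
    (h : a • (α * α) + c • α + 1 = 0) : ∃ (ν : F) (u : κ → F), u ≠ 0 ∧ α *ᵥ u = ν • u := by
  classical
  by_contra hne
  push Not at hne
  have hfun : ∀ u, a • α *ᵥ (α *ᵥ u) + c • α *ᵥ u + u = 0 := fun u => by
    have := congrArg (fun Z : Matrix κ κ F => Z *ᵥ u) h
    simpa [Matrix.add_mulVec, Matrix.smul_mulVec, Matrix.mulVec_mulVec] using this
  have ha : a ≠ 0 := by
    intro ha
    obtain ⟨u, hu⟩ : ∃ u : κ → F, u ≠ 0 := ⟨Pi.single (Classical.arbitrary κ) 1, by simp⟩
    have e := hfun u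
    rw [ha, zero_smul, zero_add] at e
    by_cases hc : c = 0
    · rw [hc, zero_smul, zero_add] at e; exact hu e
    · refine hne (-c⁻¹) u hu ?_
      rw [← inv_smul_smul₀ hc (α *ᵥ u), eq_neg_of_add_eq_zero_left e, smul_neg, neg_smul]
  set f := Matrix.toLin' α
  let good : Submodule F (κ → F) → Prop := fun W => (∀ u ∈ W, f u ∈ W) ∧ Even (Module.finrank F W)
  have hgood : good ⊥ := ⟨fun u hu => by rw [(Submodule.mem_bot F).1 hu, map_zero]; exact Submodule.zero_mem _, by simp⟩
  let d := Nat.findGreatest (fun k => ∃ W, good W ∧ Module.finrank F W = k) (Fintype.card κ)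
  obtain ⟨W, hW, hWd⟩ : ∃ W, good W ∧ Module.finrank F W = d :=
    Nat.findGreatest_spec (P := fun k => ∃ W, good W ∧ Module.finrank F W = k) (Nat.zero_le _)
      ⟨⊥, hgood, finrank_bot F (κ → F)⟩
  have hle : Module.finrank F W ≤ Fintype.card κ := by
    simpa using Submodule.finrank_le W
  by_cases htop : W = ⊤
  · have := hW.2
    rw [htop, finrank_top, Module.finrank_fintype_fun_eq_card] at this
    exact Nat.not_even_iff_odd.2 hodd this
  obtain ⟨u, -, hu⟩ := SetLike.exists_of_lt (lt_top_iff_ne_top.2 htop)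
  set L := Submodule.span F ({u, f u} : Set (κ → F))
  have hu0 : u ≠ 0 := fun e => hu (e ▸ W.zero_mem)
  have hfu : f u = α *ᵥ u := Matrix.toLin'_apply α u
  have hffu : f (f u) ∈ L := by
    rw [hfu, Matrix.toLin'_apply]
    have e := hfun u
    rw [← inv_smul_smul₀ ha (α *ᵥ α *ᵥ u), eq_neg_of_add_eq_zero_left (a := a • α *ᵥ α *ᵥ u) (b := c • α *ᵥ u + u) (by rw [← add_assoc]; exact e)]
    exact L.smul_mem _ (L.neg_mem (L.add_mem (L.smul_mem _ (Submodule.subset_span (by simp [hfu])))
      (Submodule.subset_span (by simp))))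
  have hind : LinearIndependent F ![u, f u] := by
    rw [LinearIndependent.pair_iff' hu0]
    intro b hb
    exact hne b u hu0 (by rw [← hfu, hb])
  have hL2 : Module.finrank F L = 2 := by
    have := finrank_span_eq_card hind
    rwa [Matrix.range_cons, Matrix.range_cons, Matrix.range_empty, Set.union_empty, Set.singleton_union,
      Fintype.card_fin] at this
  have hinv : ∀ x ∈ L, f x ∈ L := by
    intro x hx
    obtain ⟨p, q, rfl⟩ := Submodule.mem_span_pair.1 hx
    rw [map_add, map_smul, map_smul]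
    exact L.add_mem (L.smul_mem _ (Submodule.subset_span (by simp))) (L.smul_mem _ hffu)
  have hinf : W ⊓ L = ⊥ := by
    rw [eq_bot_iff]
    intro x hx
    obtain ⟨p, q, rfl⟩ := Submodule.mem_span_pair.1 hx.2
    have h1 := hx.1
    by_cases hq : q = 0
    · subst hq
      rw [zero_smul, add_zero] at h1 ⊢
      by_cases hp : p = 0
      · simp [hp]
      · exact absurd ((Submodule.smul_mem_iff W hp).1 h1) hu
    · exfalso
      -- eliminate `f u`
      have h2 := hW.1 _ h1
      rw [map_add, map_smul, map_smul] at h2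
      have e := hfun u
      have h3 : a • f (f u) = -(c • f u + u) := by
        rw [hfu, Matrix.toLin'_apply, eq_neg_iff_add_eq_zero, ← add_assoc]; exact e
      have h4 := W.smul_mem a h2
      rw [smul_add, smul_comm a q, h3] at h4
      have h5 : ((a * p - q * c) • f u - q • u) ∈ W := by
        convert h4 using 1
        module
      have h6 : (q * (-q) - (a * p - q * c) * p) • u ∈ W := by
        have := W.sub_mem (W.smul_mem q h5) (W.smul_mem (a * p - q * c) h1)
        convert this using 1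
        module
      by_cases hD : q * (-q) - (a * p - q * c) * p = 0
      · -- then `α` has an eigenvector
        have hz : (a * p - q * c) • (p • u + q • f u) = q • ((a * p - q * c) • f u - q • u) := by
          rw [smul_add, smul_smul, show (a * p - q * c) * p = q * (-q) by linear_combination -hD]
          module
        set z := p • u + q • f u with hzdef
        have hz0 : z ≠ 0 := fun e0 => by
          have := hind
          rw [LinearIndependent.pair_iff] at this
          exact hq (this p q e0).2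
        have hfz : a • f z = (a * p - q * c) • f u - q • u := by
          rw [hzdef, map_add, map_smul, map_smul, smul_add, smul_comm a q, h3]
          module
        refine hne ((q * a)⁻¹ * (a * p - q * c)) z hz0 ?_
        rw [← Matrix.toLin'_apply, mul_smul, hz, ← hfz, smul_smul, smul_smul, mul_assoc, inv_mul_cancel₀ (mul_ne_zero hq ha), one_smul]
      · exact hu ((Submodule.smul_mem_iff W hD).1 h6)
  have hdim := Submodule.finrank_sup_add_finrank_inf_eq W L
  rw [hinf, finrank_bot, add_zero, hL2] at hdim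
  have hnew : good (W ⊔ L) := by
    refine ⟨fun x hx => ?_, by rw [hdim]; exact hW.2.add (by decide)⟩
    obtain ⟨y, hy, z, hz, rfl⟩ := Submodule.mem_sup.1 hx
    rw [map_add]
    exact Submodule.add_mem_sup (hW.1 y hy) (hinv z hz)
  have hle' : Module.finrank F ↥(W ⊔ L) ≤ Fintype.card κ := by simpa using Submodule.finrank_le (W ⊔ L)
  have := Nat.le_findGreatest (P := fun k => ∃ W, good W ∧ Module.finrank F W = k) hle' ⟨_, hnew, rfl⟩
  have hd' : Module.finrank F ↥(W ⊔ L) ≤ d := this
  omega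

/-- Prescribed values of a functional supported off `0`. -/
theorem exists_functional {w w' : Fin m → F} {i j : Fin m} (hi : i ≠ 0) (hj : j ≠ 0)
    (hd : w i * w' j - w j * w' i ≠ 0) (a b : F) :
    ∃ χ : Fin m → F, χ 0 = 0 ∧ χ ⬝ᵥ w = a ∧ χ ⬝ᵥ w' = b := by
  classical
  set D := w i * w' j - w j * w' i with hD
  refine ⟨Pi.single i ((a * w' j - b * w j) / D) + Pi.single j ((b * w i - a * w' i) / D), by simp [hi.symm, hj.symm],
    ?_, ?_⟩
  · rw [add_dotProduct, single_dotProduct, single_dotProduct]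
    field_simp
    rw [hD]; ring
  · rw [add_dotProduct, single_dotProduct, single_dotProduct]
    field_simp
    rw [hD]; ring

/-- The key lemma. -/
theorem key (hm : 3 ≤ m) (hodd : m = 3 → Odd (Fintype.card κ)) {B : BM F κ m} {t : Matrix κ κ F}
    (hker : ∀ χ : Fin m → F, χ 0 = 0 → χ ≠ 0 → ∀ Z : Matrix κ κ F, T B χ * Z = 0 → t * Z = 0)
    (hkill : ∀ k, k ≠ 0 → ∀ Z : Matrix κ κ F, t * Z = 0 → B k 0 * Z = 0)
    {α : Matrix κ κ F} (hα : IsUnit α) {η : Matrix (Fin m) (Fin m) F} {W : Fin m → Matrix κ κ F}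
    (h : ∀ k l, k ≠ 0 → l ≠ 0 → η k l • α - (1 : BM F κ m) k l = B k 0 * W l) :
    (∀ k l, k ≠ 0 → l ≠ 0 → k ≠ l → η k l = 0) ∧ ∀ k, k ≠ 0 → η k k • α = 1 := by
  classical
  have nopure : ∀ (Z Y : Matrix κ κ F) (c : Fin m → F), (∀ k, k ≠ 0 → B k 0 * Z = c k • Y) →
      ∀ k, k ≠ 0 → c k • Y = 0 := by
    intro Z Y c hc k hk
    obtain ⟨χ, hχ0, hχ, hχc⟩ : ∃ χ : Fin m → F, χ 0 = 0 ∧ χ ≠ 0 ∧ χ ⬝ᵥ c = 0 := by
      let i1 : Fin m := ⟨1, by omega⟩
      let i2 : Fin m := ⟨2, by omega⟩
      have e1 : i1 ≠ 0 := by simp [i1, Fin.ext_iff]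
      have e2 : i2 ≠ 0 := by simp [i2, Fin.ext_iff]
      have e12 : i1 ≠ i2 := by simp [i1, i2, Fin.ext_iff]
      by_cases hc1 : c i1 = 0
      · exact ⟨Pi.single i1 1, by simp [e1.symm], by simp, by simp [hc1]⟩
      · exact ⟨Pi.single i2 (c i1) + Pi.single i1 (-c i2), by simp [e1.symm, e2.symm],
          fun e => hc1 (by simpa [e12.symm] using congrFun e i2),
          by rw [add_dotProduct, single_dotProduct, single_dotProduct]; ring⟩
    rw [← hc k hk]
    refine hkill k hk Z (hker χ hχ0 hχ Z ?_)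
    rw [T, Finset.sum_mul, Finset.sum_congr rfl fun p _ => show (χ p • B p 0) * Z = (χ p * c p) • Y by
      by_cases hp : p = 0
      · subst hp; simp [hχ0]
      · rw [Matrix.smul_mul, hc p hp, smul_smul], ← Finset.sum_smul, show ∑ p, χ p * c p = 0 from hχc, zero_smul]
  -- displacements along a vector
  have disp : ∀ w : Fin m → F, w 0 = 0 → ∀ k, k ≠ 0 →
      B k 0 * (∑ l, w l • W l) = (η *ᵥ w) k • α - w k • (1 : Matrix κ κ F) := by
    intro w hw k hk
    rw [Finset.mul_sum, Matrix.mulVec, dotProduct, Finset.sum_smul,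
      show w k • (1 : Matrix κ κ F) = ∑ l, w l • (1 : BM F κ m) k l by
        rw [Finset.sum_eq_single k (fun l _ hl => by rw [Matrix.one_apply_ne (Ne.symm hl), smul_zero]) (by simp),
          Matrix.one_apply_eq],
      ← Finset.sum_sub_distrib]
    refine Finset.sum_congr rfl fun l _ => ?_
    by_cases hl : l = 0
    · subst hl; simp [hw]
    · rw [Matrix.mul_smul, ← h k l hk hl, smul_sub, smul_smul, mul_comm]
  have Tdisp : ∀ (χ w : Fin m → F), χ 0 = 0 → w 0 = 0 →
      T B χ * (∑ l, w l • W l) = (χ ⬝ᵥ (η *ᵥ w)) • α - (χ ⬝ᵥ w) • (1 : Matrix κ κ F) := by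
    intro χ w hχ hw
    rw [T, Finset.sum_mul, dotProduct, dotProduct, Finset.sum_smul, Finset.sum_smul, ← Finset.sum_sub_distrib]
    refine Finset.sum_congr rfl fun k _ => ?_
    by_cases hk : k = 0
    · subst hk; simp [hχ]
    · rw [Matrix.smul_mul, disp w hw k hk, smul_sub, smul_smul, smul_smul]
  by_cases hgen : ∃ (w : Fin m → F) (i j : Fin m), w 0 = 0 ∧ i ≠ 0 ∧ j ≠ 0 ∧
      w i * (η *ᵥ w) j - w j * (η *ᵥ w) i ≠ 0
  · exfalso
    obtain ⟨w, i, j, hw, hi, hj, hd⟩ := hgen
    obtain ⟨χ₁, h10, h1w, h1w'⟩ := exists_functional hi hj hd (-1) 0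
    obtain ⟨χ₂, h20, h2w, h2w'⟩ := exists_functional hi hj hd 0 1
    set G := ∑ l, w l • W l with hG
    have hT1 : T B χ₁ * G = 1 := by rw [hG, Tdisp χ₁ w h10 hw, h1w, h1w']; simp
    have hT2 : T B χ₂ * G = α := by rw [hG, Tdisp χ₂ w h20 hw, h2w, h2w']; simp
    by_cases hm3 : m = 3
    · set w' : Fin m → F := fun k => if k = 0 then 0 else (η *ᵥ w) k with hw'
      have hw'0 : w' 0 = 0 := by simp [w']
      have hdot : ∀ χ : Fin m → F, χ 0 = 0 → χ ⬝ᵥ w' = χ ⬝ᵥ (η *ᵥ w) := fun χ hχ =>
        Finset.sum_congr rfl fun k _ => by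
          by_cases hk : k = 0
          · subst hk; simp [hχ]
          · simp [w', hk]
      set G' := ∑ l, w' l • W l with hG'
      have e1 := Tdisp χ₁ w' h10 hw'0
      have e2 := Tdisp χ₂ w' h20 hw'0
      rw [hdot χ₁ h10, h1w', zero_smul, sub_zero, ← hG'] at e1
      rw [hdot χ₂ h20, h2w', one_smul, ← hG'] at e2
      have hT2' : T B χ₂ = α * T B χ₁ := by
        rw [← mul_one (T B χ₂), ← mul_eq_one_comm.1 hT1, ← mul_assoc, hT2]
      rw [hT2', mul_assoc, e1, Matrix.mul_smul] at e2
      obtain ⟨ν, u, hu, hνu⟩ := exists_eigen_of_quadratic (hodd hm3) α hα (χ₁ ⬝ᵥ (η *ᵥ w'))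
        (-(χ₂ ⬝ᵥ (η *ᵥ w'))) (by rw [e2, neg_smul]; abel)
      let U : Matrix κ κ F := Matrix.of fun a _ => u a
      have hU : α * U = ν • U := by
        ext a b
        exact congrFun hνu a
      have hU0 : U ≠ 0 := fun e => hu (funext fun a => congrFun (congrFun e a) (Classical.arbitrary κ))
      have hp : ∀ k, k ≠ 0 → B k 0 * (G * U) = ((η *ᵥ w) k * ν - w k) • U := fun k hk => by
        rw [← mul_assoc, hG, disp w hw k hk, sub_mul, Matrix.smul_mul, Matrix.smul_mul, hU, one_mul, smul_smul,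
          sub_smul]
      have z : ∀ k, k ≠ 0 → (η *ᵥ w) k * ν - w k = 0 := fun k hk =>
        (smul_eq_zero.1 (nopure _ _ _ hp k hk)).resolve_right hU0
      exact hd (by linear_combination (η *ᵥ w) i * z j hj - (η *ᵥ w) j * z i hi)
    · obtain ⟨p, hp0, hpi, hpj⟩ : ∃ p : Fin m, p ≠ 0 ∧ p ≠ i ∧ p ≠ j := by
        obtain ⟨p, hp⟩ := (({0, i, j} : Finset (Fin m))ᶜ).card_pos.1 (by
          rw [Finset.card_compl, Fintype.card_fin]
          have := Finset.card_le_three (a := (0 : Fin m)) (b := i) (c := j)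
          omega)
        exact ⟨p, by simpa using hp⟩
      -- a functional killing both vectors
      obtain ⟨ξ, hξ0, hξne, hξw, hξw'⟩ : ∃ ξ : Fin m → F, ξ 0 = 0 ∧ ξ ≠ 0 ∧ ξ ⬝ᵥ w = 0 ∧ ξ ⬝ᵥ (η *ᵥ w) = 0 := by
        set D := w i * (η *ᵥ w) j - w j * (η *ᵥ w) i
        refine ⟨Pi.single p D + Pi.single i (w j * (η *ᵥ w) p - w p * (η *ᵥ w) j) +
          Pi.single j (w p * (η *ᵥ w) i - w i * (η *ᵥ w) p), by simp [hp0.symm, hi.symm, hj.symm], ?_, ?_, ?_⟩
        · intro e
          exact hd (by simpa [hpi, hpj] using congrFun e p)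
        · simp only [add_dotProduct, single_dotProduct, D]; ring
        · simp only [add_dotProduct, single_dotProduct, D]; ring
      have hz : T B ξ * G = 0 := by rw [hG, Tdisp ξ w hξ0 hw, hξw, hξw']; simp
      have hz2 : T B χ₂ * G = 0 := by
        rw [T, Finset.sum_mul]
        refine Finset.sum_eq_zero fun k _ => ?_
        by_cases hk : k = 0
        · subst hk; rw [h20, zero_smul, zero_mul]
        · rw [Matrix.smul_mul, hkill k hk G (hker ξ hξ0 hξne G hz), smul_zero]
      rw [hT2] at hz2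
      subst hz2
      exact not_isUnit_zero hα
  · push Not at hgen
    have hoff : ∀ k l, k ≠ 0 → l ≠ 0 → k ≠ l → η k l = 0 := by
      intro k l hk hl hkl
      have := hgen (Pi.single l 1) l k (by simp [hl.symm]) hl hk
      simpa [hkl] using this
    refine ⟨hoff, fun l hl => ?_⟩
    have hcol : ∀ k, k ≠ 0 → B k 0 * W l = (if k = l then (1 : F) else 0) • (η l l • α - 1) := fun k hk => by
      rw [← h k l hk hl]
      split_ifs with hkl
      · subst hkl; rw [Matrix.one_apply_eq, one_smul]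
      · rw [hoff k l hk hl hkl, Matrix.one_apply_ne hkl, zero_smul, zero_smul, sub_zero]
    have := nopure _ _ _ hcol l hl
    rwa [if_pos rfl, one_smul, sub_eq_zero] at this

end Cfsg.Agent.TensorWreath43
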