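import Cfsg.Agent.Lib.TensorWreath43Facts

/-!
Conjugates of root elements by Kronecker-shaped elements.
-/

set_option autoImplicit false
set_option linter.unusedSectionVars false

namespace Cfsg.Agent.TensorWreath43

open scoped Matrix

variable {F : Type*} [Field F] {κ : Type} [Fintype κ] [DecidableEq κ] [Nonempty κ] {m : ℕ} [NeZero m]
variable {M : Subgroup (BM F κ m)ˣ}

theorem smul_one_injective {a b : F} (h : a • (1 : Matrix κ κ F) = b • 1) : a = b := by
  have := congrFun (congrFun h (Classical.arbitrary κ)) (Classical.arbitrary κ)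
  simpa using this

theorem vrow_ne_zero {ψ : Fin m → F} (hψ : ψ ≠ 0) (g : (BM F κ m)ˣ) : ∃ l, vrow g ψ l ≠ 0 := by
  by_contra! h
  obtain ⟨j, hj⟩ := Function.ne_iff.1 hψ
  have := vrow_mul g ψ j
  rw [Finset.sum_eq_zero fun l _ => by rw [h l, zero_mul]] at this
  exact hj (smul_one_injective (κ := κ) (this.symm.trans (zero_smul _ _).symm))

theorem Bc_ne_zero {φ : Fin m → F} (hφ : φ ≠ 0) (g : (BM F κ m)ˣ) : Bc g φ ≠ 0 := by
  intro h
  have h' : ((g⁻¹ : (BM F κ m)ˣ) : BM F κ m) * Bc g φ * (g : BM F κ m) = 0 := by rw [h]; simp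
  rw [Bc, ← mul_assoc, ← mul_assoc, Units.inv_mul, one_mul, mul_assoc, Units.inv_mul, mul_one] at h'
  exact X_ne_zero hφ h'

/-- An element whose first column is a multiple of one block is Kronecker-shaped. -/
theorem kron_of_col (hm : 3 ≤ m) (hM : Good M) {g : (BM F κ m)ˣ} (hg : g ∈ M) {α : Matrix κ κ F}
    {c : Fin m → F} (hc : ∀ k, (g : BM F κ m) k 0 = c k • α) : Kron (g : BM F κ m) := by
  have hc0 : c ≠ 0 := by
    intro h
    have := congrFun (congrFun (Units.inv_mul g) 0) 0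
    rw [Matrix.mul_apply, Matrix.one_apply_eq, Finset.sum_eq_zero fun k _ => by
      rw [hc k, h, Pi.zero_apply, zero_smul, mul_zero]] at this
    exact one_ne_zero this.symm
  obtain ⟨σ, s, hσ, hs, hσc⟩ := exists_move hc0
  set g' := (scU σ)⁻¹ * g with hg'
  have hg'M : g' ∈ M := M.mul_mem (M.inv_mem (hM.sl _ hσ)) hg
  have hback : g = scU σ * g' := by rw [hg', mul_inv_cancel_left]
  obtain ⟨α', η', h'⟩ := kron_of_col_zero hm hM hg'M (fun k hk => by
    have hval : (g' : BM F κ m) k 0 = (∑ p, ((σ⁻¹ : GL (Fin m) F) : Matrix (Fin m) (Fin m) F) k p * c p) • α := by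
      rw [hg', ← map_inv, Units.val_mul, scU_val, sc_mul_apply, Finset.sum_smul]
      exact Finset.sum_congr rfl fun p _ => by rw [hc, smul_smul]
    have hz : s * ∑ p, ((σ⁻¹ : GL (Fin m) F) : Matrix (Fin m) (Fin m) F) k p * c p = 0 := by
      have := congrFun (congrFun (Units.inv_mul σ) k) 0
      rw [Matrix.mul_apply, Matrix.one_apply_ne hk] at this
      rw [Finset.mul_sum, ← this]
      exact Finset.sum_congr rfl fun p _ => by rw [hσc]; ring
    rw [hval, (mul_eq_zero.1 hz).resolve_left hs, zero_smul])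
  refine ⟨α', (σ : Matrix (Fin m) (Fin m) F) * η', fun k l => ?_⟩
  rw [hback, Units.val_mul, scU_val, sc_mul_apply, Matrix.mul_apply, Finset.sum_smul]
  exact Finset.sum_congr rfl fun p _ => by rw [h', smul_smul]

/-- An element fixing the ruler at the first coordinate pointwise has scalar blocks. -/
theorem C1_of_fix (hm : 3 ≤ m) (hM : Good M) {g : (BM F κ m)ˣ} (hg : g ∈ M)
    (hcol : ∀ k, (g : BM F κ m) k 0 = (1 : BM F κ m) k 0) : C1 (g : BM F κ m) := by
  obtain ⟨α, η, h⟩ := kron_of_col_zero hm hM hg (fun k hk => by rw [hcol, Matrix.one_apply_ne hk])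
  intro k l
  have h0 : η 0 0 • α = (1 : Matrix κ κ F) := by rw [← h, hcol, Matrix.one_apply_eq]
  have hη : η 0 0 ≠ 0 := fun e => one_ne_zero (α := Matrix κ κ F) (by rw [← h0, e, zero_smul])
  refine ⟨η k l * (η 0 0)⁻¹, ?_⟩
  rw [h, ← smul_smul (η k l), ← h0, smul_smul ((η 0 0)⁻¹), inv_mul_cancel₀ hη, one_smul]

/-- A conjugate with scalar blocks comes from a Kronecker-shaped element. -/
theorem kron_of_C1 (hm : 3 ≤ m) (hM : Good M) {g : (BM F κ m)ˣ} (hg : g ∈ M) {ψ : Fin m → F} (hψ : ψ ≠ 0)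
    (h : C1 (Bc g ψ)) : Kron (g : BM F κ m) := by
  obtain ⟨l, hl⟩ := vrow_ne_zero (κ := κ) hψ g
  have h' : ∀ k, ∃ c : F, (g : BM F κ m) k 0 * vrow g ψ l = c • (1 : Matrix κ κ F) := fun k => by
    obtain ⟨c, hc⟩ := h k l
    exact ⟨c, by rw [← Bc_apply, hc]⟩
  choose c hc using h'
  by_cases hc0 : c = 0
  · exfalso
    refine hl ?_
    have h0 := Finset.sum_eq_zero (s := (Finset.univ : Finset (Fin m)))
      (f := fun k => ((g⁻¹ : (BM F κ m)ˣ) : BM F κ m) 0 k * ((g : BM F κ m) k 0 * vrow g ψ l))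
      (fun k _ => by rw [hc, hc0, Pi.zero_apply, zero_smul, mul_zero])
    simp only [← mul_assoc, ← Finset.sum_mul] at h0
    rwa [← Matrix.mul_apply, Units.inv_mul, Matrix.one_apply_eq, one_mul] at h0
  · obtain ⟨k, hk⟩ := Function.ne_iff.1 hc0
    obtain ⟨u, hu⟩ := (isUnit_of_mul_eq_smul hk (hc k)).2
    refine kron_of_col hm hM hg (α := ((u⁻¹ : (Matrix κ κ F)ˣ) : Matrix κ κ F)) (c := c) fun j => ?_
    have := hc j
    rw [← hu] at this
    rw [← mul_one ((g : BM F κ m) j 0), ← Units.mul_inv u, ← mul_assoc, this, Matrix.smul_mul, one_mul]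

/-- A Kronecker-shaped element conjugates roots to scalar-block elements. -/
theorem C1_of_kron {g : (BM F κ m)ˣ} (h : Kron (g : BM F κ m)) (φ : Fin m → F) : C1 (Bc g φ) := by
  obtain ⟨α, η, hg⟩ := h
  set G : BM F κ m := Matrix.of fun i l => α * ((g⁻¹ : (BM F κ m)ˣ) : BM F κ m) i l with hG
  have h1 : (sc η : BM F κ m) * G = 1 := by
    ext i l : 1
    have := congrFun (congrFun (Units.mul_inv g) i) l
    rw [sc_mul_apply, ← this, Matrix.mul_apply]
    exact Finset.sum_congr rfl fun p _ => by rw [hg, Matrix.smul_mul]; rfl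
  obtain ⟨η', hη'⟩ : ∃ η', η' * η = 1 := by
    let u := Classical.arbitrary κ
    refine ⟨Matrix.of fun i l => G i l u u, mul_eq_one_comm.1 ?_⟩
    ext i l
    have := congrFun (congrFun (congrFun (congrFun h1 i) l) u) u
    rw [sc_mul_apply, Matrix.sum_apply] at this
    rw [Matrix.mul_apply]
    refine Eq.trans ?_ (this.trans ?_)
    · exact Finset.sum_congr rfl fun p _ => by simp
    · by_cases hil : i = l
      · subst hil; simp
      · simp [hil]
  have hG' : G = sc η' := by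
    calc G = (sc η' * sc η) * G := by rw [← map_mul, hη', map_one, one_mul]
      _ = sc η' := by rw [mul_assoc, h1, mul_one]
  intro k l
  have hα : ∀ i, α * ((g⁻¹ : (BM F κ m)ˣ) : BM F κ m) i l = η' i l • (1 : Matrix κ κ F) := fun i => by
    have := congrFun (congrFun hG' i) l
    rwa [sc_apply] at this
  refine ⟨η k 0 * ∑ i, φ i * η' i l, ?_⟩
  rw [Bc_apply, hg, vrow, Matrix.smul_mul, Finset.mul_sum, Finset.mul_sum, Finset.sum_smul, Finset.smul_sum]
  exact Finset.sum_congr rfl fun i _ => by rw [Matrix.mul_smul, hα, smul_smul, smul_smul, mul_assoc]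

theorem Bc_conj (σ g : (BM F κ m)ˣ) (φ : Fin m → F) :
    Bc (σ * g) φ = (σ : BM F κ m) * Bc g φ * ((σ⁻¹ : (BM F κ m)ˣ) : BM F κ m) := by
  simp [Bc, mul_inv_rev, mul_assoc]

/-- A Kronecker-shaped conjugate of a root is scalar or diagonal. -/
theorem C1_or_C2_of_kron (hm : 3 ≤ m) {g : (BM F κ m)ˣ} {φ : Fin m → F} (hφ : φ 0 = 0)
    (h : Kron ((yU g φ : (BM F κ m)ˣ) : BM F κ m)) : C1 (Bc g φ) ∨ C2 (Bc g φ) := by
  obtain ⟨α, η, hy⟩ := h
  have hB : ∀ (g : (BM F κ m)ˣ) (α : Matrix κ κ F) (η : Matrix (Fin m) (Fin m) F),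
      (∀ k l, (1 + Bc g φ) k l = η k l • α) → ∀ k l, k ≠ l → η k l ≠ 0 → C1 (Bc g φ) := by
    intro g α η hy k l hkl hη
    obtain ⟨i, hik, hil⟩ : ∃ i : Fin m, i ≠ k ∧ i ≠ l := by
      obtain ⟨i, hi⟩ := (({k, l} : Finset (Fin m))ᶜ).card_pos.1 (by
        rw [Finset.card_compl, Fintype.card_fin]
        have := Finset.card_le_two (a := k) (b := l)
        omega)
      exact ⟨i, by simpa using hi⟩
    have off : ∀ p q, p ≠ q → (g : BM F κ m) p 0 * vrow g φ q = η p q • α := fun p q hpq => by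
      rw [← hy, Matrix.add_apply, Matrix.one_apply_ne hpq, zero_add, Bc_apply]
    have hdiag : (g : BM F κ m) i 0 * vrow g φ i = η i i • α - 1 := by
      rw [← hy, Matrix.add_apply, Matrix.one_apply_eq, Bc_apply]; abel
    suffices hα : ∃ d : F, α = d • (1 : Matrix κ κ F) by
      obtain ⟨d, rfl⟩ := hα
      intro p q
      by_cases hpq : p = q
      · subst hpq
        refine ⟨η p p * d - 1, ?_⟩
        rw [show Bc g φ p p = (1 + Bc g φ) p p - 1 by rw [Matrix.add_apply, Matrix.one_apply_eq]; abel, hy,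
          smul_smul, sub_smul, one_smul]
      · exact ⟨η p q * d, by rw [Bc_apply, off p q hpq, smul_smul]⟩
    -- `α` is scalar
    have hkey : η k l • ((η i i • α - 1) : Matrix κ κ F) = (η i l * η k i) • α := by
      have e : (η i l * η k i) • ((g : BM F κ m) k 0 * vrow g φ l) = (η i l * η k i * η k l) • α := by
        rw [off k l hkl, smul_smul]
      by_cases hα : IsUnit α
      · obtain ⟨a, ha⟩ := hα
        have hu : IsUnit ((g : BM F κ m) k 0 * vrow g φ l) := by
          rw [off k l hkl, ← ha]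
          exact ⟨(Units.mk0 _ hη).map (algebraMap F (Matrix κ κ F)).toMonoidHom * a, by simp [Algebra.smul_def]⟩
        obtain ⟨hu1, hv1⟩ : IsUnit ((g : BM F κ m) k 0) ∧ IsUnit (vrow g φ l) := by
          simpa [Matrix.isUnit_iff_isUnit_det, Matrix.det_mul] using hu
        obtain ⟨u, hu'⟩ := hu1
        obtain ⟨v, hv'⟩ := hv1
        have hui : (g : BM F κ m) i 0 = η i l • (α * ((v⁻¹ : (Matrix κ κ F)ˣ) : Matrix κ κ F)) := by
          rw [← Matrix.smul_mul, ← off i l hil, ← hv', mul_assoc, Units.mul_inv, mul_one]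
        have hvi : vrow g φ i = η k i • (((u⁻¹ : (Matrix κ κ F)ˣ) : Matrix κ κ F) * α) := by
          rw [← Matrix.mul_smul, ← off k i (Ne.symm hik), ← hu', ← mul_assoc, Units.inv_mul, one_mul]
        have huv : ((v⁻¹ : (Matrix κ κ F)ˣ) : Matrix κ κ F) * ((u⁻¹ : (Matrix κ κ F)ˣ) : Matrix κ κ F) =
            (η k l)⁻¹ • ((a⁻¹ : (Matrix κ κ F)ˣ) : Matrix κ κ F) := by
          rw [← Units.val_mul, ← mul_inv_rev, Units.inv_eq_of_mul_eq_one_right]
          rw [Units.val_mul, hu', hv', off k l hkl, Matrix.smul_mul, Matrix.mul_smul, smul_smul, mul_inv_cancel₀ hη,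
            one_smul, ← ha, Units.mul_inv]
        rw [← hdiag, hui, hvi, Matrix.smul_mul, Matrix.mul_smul, smul_smul, smul_smul,
          show α * ((v⁻¹ : (Matrix κ κ F)ˣ) : Matrix κ κ F) * (((u⁻¹ : (Matrix κ κ F)ˣ) : Matrix κ κ F) * α) =
            α * (((v⁻¹ : (Matrix κ κ F)ˣ) : Matrix κ κ F) * ((u⁻¹ : (Matrix κ κ F)ˣ) : Matrix κ κ F)) * α by
              simp only [mul_assoc],
          huv, Matrix.mul_smul, Matrix.smul_mul, ← ha, Units.mul_inv, one_mul, smul_smul]
        congr 1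
        field_simp
      · exfalso
        refine hα ?_
        rw [Matrix.isUnit_iff_isUnit_det]
        by_contra hd
        obtain ⟨u, hu, hαu⟩ : ∃ u : κ → F, u ≠ 0 ∧ α *ᵥ u = 0 :=
          Matrix.exists_mulVec_eq_zero_iff.2 (by simpa using hd)
        -- `α` is a scalar multiple of the invertible blocks of `1 + Bc g φ`
        have h1 : (1 + Bc g φ) * (1 - Bc g φ) = 1 := by
          rw [add_mul, one_mul, mul_sub, mul_one, Bc_mul_Bc hφ]; abel
        have h2 := mul_eq_one_comm.1 h1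
        have h3 := congrFun (congrFun h2 i) i
        rw [Matrix.mul_apply, Matrix.one_apply_eq] at h3
        have h4 := congrArg (fun Z : Matrix κ κ F => Z *ᵥ u) h3
        simp only [Matrix.one_mulVec, Matrix.sum_mulVec, ← Matrix.mulVec_mulVec, hy, Matrix.smul_mulVec, hαu,
          smul_zero, Matrix.mulVec_zero, Finset.sum_const_zero] at h4
        exact hu h4.symm
    have hne : η k l • (1 : Matrix κ κ F) = (η k l * η i i - η i l * η k i) • α := by
      rw [sub_smul, ← hkey, smul_sub, smul_smul]; abel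
    have hd : η k l * η i i - η i l * η k i ≠ 0 := by
      intro e
      rw [e, zero_smul] at hne
      exact hη (smul_one_injective (κ := κ) (hne.trans (zero_smul _ _).symm))
    exact ⟨(η k l * η i i - η i l * η k i)⁻¹ * η k l, by
      rw [← smul_smul, hne, smul_smul, inv_mul_cancel₀ hd, one_smul]⟩
  rw [yU_val hφ] at hy
  by_cases hoff : ∃ k l, k ≠ l ∧ η k l ≠ 0
  · obtain ⟨k, l, hkl, hη⟩ := hoff
    exact Or.inl (hB g α η hy k l hkl hη)
  push_neg at hoff
  by_cases hd : ∀ k, η k k = η 0 0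
  · refine Or.inr ⟨fun k l hkl => ?_, fun k => ?_⟩
    · have := hy k l
      rwa [hoff k l hkl, zero_smul, Matrix.add_apply, Matrix.one_apply_ne hkl, zero_add] at this
    · have h1 := hy k k
      have h2 := hy 0 0
      rw [Matrix.add_apply, Matrix.one_apply_eq] at h1 h2
      rw [hd k, ← h2] at h1
      exact add_left_cancel h1
  · push_neg at hd
    obtain ⟨k, hk⟩ := hd
    have hk0 : k ≠ 0 := fun e => hk (e ▸ rfl)
    have hdd : (Pi.single (0 : Fin m) (1 : F) : Fin m → F) ⬝ᵥ Pi.single k 1 = 0 := by simp [Ne.symm hk0]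
    set σ := trU (Pi.single k (1 : F)) (Pi.single (0 : Fin m) 1)
    have hval : (1 + Bc (scU σ * g) φ : BM F κ m) = (sc (σ : Matrix (Fin m) (Fin m) F) : BM F κ m) *
        (1 + Bc g φ) * sc ((σ⁻¹ : GL (Fin m) F) : Matrix (Fin m) (Fin m) F) := by
      rw [Bc_conj, ← map_inv, scU_val, scU_val, mul_add, mul_one, add_mul, ← map_mul, Units.mul_inv, map_one]
    have := hB (scU σ * g) α ((σ : Matrix (Fin m) (Fin m) F) * η * ((σ⁻¹ : GL (Fin m) F) : Matrix (Fin m) (Fin m) F))
      (fun p q => by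
        rw [hval, mul_sc_apply, Matrix.mul_apply, Finset.sum_smul]
        exact Finset.sum_congr rfl fun r _ => by
          rw [sc_mul_apply, Matrix.mul_apply, Finset.smul_sum, Finset.sum_mul, Finset.sum_smul]
          exact Finset.sum_congr rfl fun s _ => by rw [hy, smul_smul, smul_smul]; ring_nf)
      k 0 hk0 (by
        rw [trU_val hdd, trU_inv_val hdd]
        simp [Matrix.mul_apply, Matrix.add_apply, Matrix.sub_apply, Matrix.one_apply, Matrix.vecMulVec_apply,
          Pi.single_apply, Finset.sum_add_distrib, add_mul, mul_sub, hk0, Ne.symm hk0, hoff k 0 hk0,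
          hoff 0 k (Ne.symm hk0)]
        intro e
        exact hk (by linear_combination -e))
    refine Or.inl ?_
    obtain ⟨η₁, hη₁⟩ := C1_iff.1 this
    rw [Bc_conj, ← map_inv, scU_val, scU_val] at hη₁
    refine C1_iff.2 ⟨((σ⁻¹ : GL (Fin m) F) : Matrix (Fin m) (Fin m) F) * η₁ * (σ : Matrix (Fin m) (Fin m) F), ?_⟩
    rw [map_mul, map_mul, ← hη₁]
    simp only [← mul_assoc]
    rw [← map_mul, Units.inv_mul, map_one, one_mul, mul_assoc, ← map_mul, Units.inv_mul, map_one, mul_one]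

/-- If a conjugate of a root commutes enough, it is scalar or diagonal. -/
theorem C1_or_C2_of_conj_C1 (hm : 3 ≤ m) (hM : Good M) {g : (BM F κ m)ˣ} (hg : g ∈ M) {φ ψ : Fin m → F}
    (hφ : φ 0 = 0) (hψ : ψ ≠ 0) (h : C1 (Bc (yU g φ) ψ)) : C1 (Bc g φ) ∨ C2 (Bc g φ) :=
  C1_or_C2_of_kron hm hφ (kron_of_C1 hm hM (yU_mem hM hg φ) hψ h)

/-- If a block `T` vanishes, the conjugate is scalar or diagonal. -/
theorem C1_or_C2_of_T_zero (hm : 3 ≤ m) (hM : Good M) {g : (BM F κ m)ˣ} (hg : g ∈ M) {φ ψ : Fin m → F}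
    (hφ : φ 0 = 0) (hψ : ψ 0 = 0) (hψne : ψ ≠ 0) (hT : T (Bc g φ) ψ = 0) : C1 (Bc g φ) ∨ C2 (Bc g φ) := by
  refine C1_or_C2_of_conj_C1 hm hM hg hφ hψne ?_
  have h1 : C1 ((yU (yU g φ) ψ : (BM F κ m)ˣ) : BM F κ m) := C1_of_fix hm hM (yU_mem hM (yU_mem hM hg φ) ψ)
    (fun k => by rw [yU_val hψ, Matrix.add_apply, Bc_yU_col hφ hψ, hT, mul_zero, neg_zero, add_zero])
  obtain ⟨η, hη⟩ := C1_iff.1 h1
  refine C1_iff.2 ⟨η - 1, ?_⟩
  rw [map_sub, map_one, ← hη, yU_val hψ]
  abel

end Cfsg.Agent.TensorWreath43
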