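import Mathlib
import Cfsg.Prelude.Def_GeometricClasses

/-!
Monomial matrices on a tensor power and lifts from one tensor position.
-/

set_option autoImplicit false
set_option linter.unusedSectionVars false

namespace Cfsg.Agent.TensorWreath43

open scoped Matrix

variable {F : Type*} [Field F] {t m : ℕ}

/-- The index set of the tensor power. -/
abbrev TI (t m : ℕ) := Fin t → Fin m

/-- The lift of a matrix at the position `j`. -/
def lift (j : Fin t) (η : Matrix (Fin m) (Fin m) F) : Matrix (TI t m) (TI t m) F :=
  fun x y => if ∀ i, i ≠ j → x i = y i then η (x j) (y j) else 0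

/-- The monomial matrix with entries `(a i, b i)` on `S` and identities elsewhere. -/
def mono (S : Finset (Fin t)) (a b : TI t m) : Matrix (TI t m) (TI t m) F :=
  fun x y => if ∀ i, (i ∈ S → x i = a i ∧ y i = b i) ∧ (i ∉ S → x i = y i) then 1 else 0

theorem update_eq_iff_of_off {x z : TI t m} {j : Fin t} :
    (∀ i, i ≠ j → x i = z i) ↔ z = Function.update x j (z j) := by
  constructor
  · intro h
    funext i
    by_cases hi : i = j
    · subst hi; simp
    · rw [Function.update_of_ne hi, h i hi]
  · intro h i hi
    rw [h, Function.update_of_ne hi]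

theorem lift_mul_apply (j : Fin t) (η : Matrix (Fin m) (Fin m) F) (A : Matrix (TI t m) (TI t m) F) (x y : TI t m) :
    (lift j η * A) x y = ∑ c, η (x j) c * A (Function.update x j c) y := by
  rw [Matrix.mul_apply]
  rw [← Finset.sum_subset (s₁ := Finset.univ.image (fun c => Function.update x j c)) (Finset.subset_univ _)
    (fun z _ hz => by
      rw [lift, if_neg, zero_mul]
      intro h
      exact hz (Finset.mem_image.2 ⟨z j, Finset.mem_univ _, (update_eq_iff_of_off.1 h).symm⟩)),
    Finset.sum_image (fun c _ d _ h => by simpa using congrFun h j)]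
  refine Finset.sum_congr rfl fun c _ => ?_
  rw [lift, if_pos (fun i hi => by rw [Function.update_of_ne hi]), Function.update_self]

theorem mul_lift_apply (j : Fin t) (η : Matrix (Fin m) (Fin m) F) (A : Matrix (TI t m) (TI t m) F) (x y : TI t m) :
    (A * lift j η) x y = ∑ c, A x (Function.update y j c) * η c (y j) := by
  rw [Matrix.mul_apply]
  rw [← Finset.sum_subset (s₁ := Finset.univ.image (fun c => Function.update y j c)) (Finset.subset_univ _)
    (fun z _ hz => by
      rw [lift, if_neg, mul_zero]
      intro h
      exact hz (Finset.mem_image.2 ⟨z j, Finset.mem_univ _, (update_eq_iff_of_off.1 (fun i hi => (h i hi).symm)).symm⟩)),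
    Finset.sum_image (fun c _ d _ h => by simpa using congrFun h j)]
  refine Finset.sum_congr rfl fun c _ => ?_
  rw [lift, if_pos (fun i hi => by rw [Function.update_of_ne hi]), Function.update_self]

theorem lift_add (j : Fin t) (η η' : Matrix (Fin m) (Fin m) F) : lift j (η + η') = lift j η + lift j η' := by
  ext x y
  simp only [lift, Matrix.add_apply]
  split_ifs <;> simp

theorem lift_smul (j : Fin t) (u : F) (η : Matrix (Fin m) (Fin m) F) : lift j (u • η) = u • lift j η := by
  ext x y
  simp only [lift, Matrix.smul_apply, smul_eq_mul]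
  split_ifs <;> simp

theorem lift_zero (j : Fin t) : lift j (0 : Matrix (Fin m) (Fin m) F) = 0 := by
  ext x y
  simp [lift]

theorem lift_one (j : Fin t) : lift j (1 : Matrix (Fin m) (Fin m) F) = 1 := by
  ext x y
  simp only [lift, Matrix.one_apply]
  by_cases h : x = y
  · subst h; simp
  · rw [if_neg h]
    split_ifs with h1 h2
    · exact absurd (funext fun i => by by_cases hi : i = j <;> [exact hi ▸ h2; exact h1 i hi]) h
    · rfl
    · rfl

theorem lift_mul (j : Fin t) (η η' : Matrix (Fin m) (Fin m) F) : lift j (η * η') = lift j η * lift j η' := by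
  ext x y
  rw [lift_mul_apply]
  simp only [lift, Matrix.mul_apply]
  split_ifs with h
  · refine Finset.sum_congr rfl fun c _ => ?_
    rw [if_pos (fun i hi => by rw [Function.update_of_ne hi, h i hi]), Function.update_self]
  · refine (Finset.sum_eq_zero fun c _ => ?_).symm
    rw [if_neg, mul_zero]
    exact fun h' => h fun i hi => by simpa [Function.update_of_ne hi] using h' i hi

/-- The lift at a position as a ring homomorphism. -/
def liftHom (j : Fin t) : Matrix (Fin m) (Fin m) F →+* Matrix (TI t m) (TI t m) F where
  toFun := lift j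
  map_one' := lift_one j
  map_mul' := lift_mul j
  map_zero' := lift_zero j
  map_add' := lift_add j

theorem liftHom_apply (j : Fin t) (η : Matrix (Fin m) (Fin m) F) : liftHom j η = lift j η := rfl

theorem lift_comm {i j : Fin t} (hij : i ≠ j) (η η' : Matrix (Fin m) (Fin m) F) :
    lift i η * lift j η' = lift j η' * lift i η := by
  ext x y
  rw [lift_mul_apply, mul_lift_apply]
  simp only [lift]
  by_cases hP : ∀ k, k ≠ i → k ≠ j → x k = y k
  · rw [Finset.sum_eq_single (y i) (fun c _ hc => by
      rw [if_neg (fun h => hc (by simpa [Function.update_self] using h i hij)), mul_zero]) (by simp),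
      Finset.sum_eq_single (x i) (fun c _ hc => by
      rw [if_neg (fun h => hc (by simpa [Function.update_self] using (h i hij).symm)), zero_mul]) (by simp)]
    rw [if_pos, if_pos, Function.update_of_ne (Ne.symm hij), Function.update_of_ne (Ne.symm hij), mul_comm]
    · intro k hk
      by_cases hki : k = i
      · subst hki; simp
      · rw [Function.update_of_ne hki]; exact hP k hki hk
    · intro k hk
      by_cases hki : k = i
      · subst hki; simp
      · rw [Function.update_of_ne hki]; exact hP k hki hk
  · rw [Finset.sum_eq_zero fun c _ => by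
      rw [if_neg (fun h => hP fun k hki hkj => by simpa [Function.update_of_ne hki] using h k hkj), mul_zero],
      Finset.sum_eq_zero fun c _ => by
      rw [if_neg (fun h => hP fun k hki hkj => by simpa [Function.update_of_ne hki] using h k hkj), zero_mul]]

theorem lift_single (j : Fin t) (a b : TI t m) :
    lift j (Matrix.single (a j) (b j) (1 : F)) = mono {j} a b := by
  ext x y
  simp only [lift, mono, Matrix.single_apply, Finset.mem_singleton]
  by_cases h : ∀ i, i ≠ j → x i = y i
  · rw [if_pos h]
    by_cases h2 : a j = x j ∧ b j = y j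
    · rw [if_pos h2, if_pos (fun i => ⟨fun e => e ▸ ⟨h2.1.symm, h2.2.symm⟩, h i⟩)]
    · rw [if_neg h2, if_neg (fun h' => h2 ⟨((h' j).1 rfl).1.symm, ((h' j).1 rfl).2.symm⟩)]
  · rw [if_neg h, if_neg (fun h' => h fun i => (h' i).2)]

theorem mono_mul (S S' : Finset (Fin t)) (a b a' b' : TI t m) (h : ∀ i ∈ S, i ∈ S' → b i = a' i) :
    (mono S a b * mono S' a' b' : Matrix (TI t m) (TI t m) F) =
      mono (S ∪ S') (fun i => if i ∈ S then a i else a' i) (fun i => if i ∈ S' then b' i else b i) := by
  ext x y
  rw [Matrix.mul_apply, Finset.sum_eq_single (fun i => if i ∈ S then b i else x i)]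
  · simp only [mono]
    rw [ite_mul, one_mul, zero_mul, ← ite_and]
    refine if_congr ?_ rfl rfl
    constructor
    · rintro ⟨h1, h2⟩ i
      have e1 := h1 i; have e2 := h2 i
      by_cases hS : i ∈ S <;> by_cases hS' : i ∈ S' <;> simp_all
    · intro h3
      constructor <;>
      · intro i
        have e := h3 i
        by_cases hS : i ∈ S <;> by_cases hS' : i ∈ S' <;> simp_all
  · intro z _ hz
    simp only [mono]
    rw [if_neg, zero_mul]
    intro h1
    refine hz (funext fun i => ?_)
    have := h1 i
    by_cases hS : i ∈ S <;> simp_all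
  · simp

theorem mono_mul_eq_zero (S S' : Finset (Fin t)) (a b a' b' : TI t m) {i : Fin t} (hi : i ∈ S) (hi' : i ∈ S')
    (hne : b i ≠ a' i) : (mono S a b * mono S' a' b' : Matrix (TI t m) (TI t m) F) = 0 := by
  ext x y
  rw [Matrix.mul_apply]
  refine Finset.sum_eq_zero fun z _ => ?_
  simp only [mono]
  split_ifs with h1 h2 <;> simp
  exact hne (((h1 i).1 hi).2.symm.trans (((h2 i).1 hi').1))

theorem mono_congr (S : Finset (Fin t)) {a b a' b' : TI t m} (ha : ∀ i ∈ S, a i = a' i) (hb : ∀ i ∈ S, b i = b' i) :
    (mono S a b : Matrix (TI t m) (TI t m) F) = mono S a' b' := by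
  ext x y
  simp only [mono]
  refine if_congr (forall_congr' fun i => ?_) rfl rfl
  exact and_congr_left fun _ => forall_congr' fun hi => by rw [ha i hi, hb i hi]

theorem mono_univ (a b : TI t m) : (mono Finset.univ a b : Matrix (TI t m) (TI t m) F) = Matrix.single a b 1 := by
  ext x y
  simp only [mono, Matrix.single_apply, Finset.mem_univ, forall_const, not_true, IsEmpty.forall_iff, and_true]
  refine if_congr ⟨fun h => ⟨funext fun i => (h i).1.symm, funext fun i => (h i).2.symm⟩, ?_⟩ rfl rfl
  rintro ⟨rfl, rfl⟩ i
  exact ⟨rfl, rfl⟩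

theorem mono_apply_self (S : Finset (Fin t)) (a b : TI t m) :
    (mono S a b : Matrix (TI t m) (TI t m) F) a (fun i => if i ∈ S then b i else a i) = 1 := by
  simp only [mono]
  rw [if_pos]
  intro i
  by_cases hi : i ∈ S <;> simp [hi]

end Cfsg.Agent.TensorWreath43
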