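import Cfsg.Agent.Lib.TensorWreath43Perp
import Cfsg.Agent.Lib.QuadPairCore

/-!
A conjugate of a root of one factor is a lift from that position or commutes with the whole factor.
-/

set_option autoImplicit false
set_option linter.unusedSectionVars false

namespace Cfsg.Agent.TensorWreath43

open scoped Matrix

variable {F : Type*} [Field F] {t m : ℕ}

/-- `N` is a conjugate of a root of the position `j`. -/
def ConjRoot (G : Matrix (Fin m) (Fin m) F) (M : Subgroup (GL (TI t m) F)) (j : Fin t)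
    (N : Matrix (TI t m) (TI t m) F) : Prop :=
  ∃ g ∈ M, ∃ b : Fin m → F, b ≠ 0 ∧
    N = (g : Matrix (TI t m) (TI t m) F) * lift j (Eop G b b) * ((g⁻¹ : GL (TI t m) F) : Matrix (TI t m) (TI t m) F)

section Basics

variable {G : Matrix (Fin m) (Fin m) F}

theorem exists_sep (hG : SG G) {v w : Fin m → F} (h : ∀ k : F, v ≠ k • w) :
    ∃ r, fG G v r = 1 ∧ fG G w r = 0 := by
  by_cases hw : w = 0
  · subst hw
    have hv : v ≠ 0 := fun e => h 0 (by rw [e, zero_smul])
    obtain ⟨r, hr⟩ := hG.exists_left hv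
    refine ⟨(-1 : F) • r, by rw [fG_smul_right, hG.swap, hr]; ring, ?_⟩
    rw [← zero_smul F v, fG_smul_left, zero_mul]
  refine exists_dual hG ?_
  obtain ⟨x, hx⟩ := hG.exists_left hw
  intro e
  have := congrArg (fun Z => Z *ᵥ x) e
  simp only [tau, Matrix.sub_mulVec, Eop_mulVec, Matrix.zero_mulVec, hx, one_smul, sub_eq_zero] at this
  exact h _ this

theorem scalar_of_eigen [NeZero m] {β : Matrix (Fin m) (Fin m) F} (h : ∀ v, ∃ k : F, β *ᵥ v = k • v) :
    ∃ k : F, β = k • 1 := by
  choose k hk using fun p : Fin m => h (Pi.single p 1)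
  have hcol : ∀ p q, β p q = if p = q then k q else 0 := fun p q => by
    have := congrFun (hk q) p
    rw [Matrix.mulVec_single_one, Matrix.col_apply] at this
    rw [this]
    simp [Pi.single_apply]
  have heq : ∀ p, k p = k 0 := fun p => by
    by_cases hp : p = 0
    · rw [hp]
    obtain ⟨l, hl⟩ := h (Pi.single p 1 + Pi.single 0 1)
    rw [Matrix.mulVec_add, hk, hk] at hl
    have e1 := congrFun hl p
    have e2 := congrFun hl 0
    simp [Pi.single_apply, hp, Ne.symm hp] at e1 e2
    rw [e1, e2]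
  refine ⟨k 0, Matrix.ext fun p q => ?_⟩
  rw [hcol]
  by_cases hpq : p = q
  · subst hpq; simp [heq p]
  · simp [hpq]

theorem comm_aeval {j : Fin t} {T : Matrix (TI t m) (TI t m) F} (h : Comm j T) (p : Polynomial F) :
    Comm j (Polynomial.aeval T p) := by
  induction p using Polynomial.induction_on' with
  | add p q hp hq => rw [map_add]; exact hp.add hq
  | monomial n c =>
    rw [Polynomial.aeval_monomial, ← Algebra.smul_def]
    refine Comm.smul ?_ c
    induction n with
    | zero => rw [pow_zero]; exact comm_one j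
    | succ n ih => rw [pow_succ]; exact ih.mul h

end Basics

section Over

variable [Fintype F] [NeZero m] {G : Matrix (Fin m) (Fin m) F} {M : Subgroup (GL (TI t m) F)} (H : SBase G M)
include H

theorem SBase.conjRoot_spec {j : Fin t} {N : Matrix (TI t m) (TI t m) F} (h : ConjRoot G M j N) :
    (∀ z : F, MemU M (z • N)) ∧ N * N = 0 ∧ adjT G N = -N := by
  obtain ⟨g, hg, b, -, rfl⟩ := h
  refine ⟨fun z => ?_, ?_, ?_⟩
  · have := (H.root_mem j b z).conjU hg
    rwa [Matrix.mul_smul, Matrix.smul_mul] at this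
  · calc _ = (g : Matrix (TI t m) (TI t m) F) * (lift j (Eop G b b) *
          (((g⁻¹ : GL (TI t m) F) : Matrix (TI t m) (TI t m) F) * (g : Matrix (TI t m) (TI t m) F)) *
            lift j (Eop G b b)) * ((g⁻¹ : GL (TI t m) F) : Matrix (TI t m) (TI t m) F) := by simp only [mul_assoc]
      _ = 0 := by rw [Units.inv_mul, mul_one, ← lift_mul, Eop_self_mul H.hG, lift_zero, mul_zero, zero_mul]
  · rw [H.hG.adjT_mul, H.hG.adjT_mul, H.adjT_inv hg, ← H.inv_val hg, H.hG.adjT_lift, H.hG.adjG_Eop,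
      show lift j (-Eop G b b) = -lift j (Eop G b b) from map_neg (liftHom (F := F) j) _, neg_mul, mul_neg,
      mul_assoc]

theorem SBase.conjRoot_step {j : Fin t} {N : Matrix (TI t m) (TI t m) F} (h : ConjRoot G M j N) {c : Fin m → F}
    (hc : c ≠ 0) : ConjRoot G M j ((1 + N) * lift j (Eop G c c) * (1 - N)) := by
  obtain ⟨hN, hNN, -⟩ := H.conjRoot_spec h
  obtain ⟨y, hy, hyN⟩ := hN 1
  rw [one_smul] at hyN
  refine ⟨y, hy, c, hc, ?_⟩
  rw [hyN, show ((y⁻¹ : GL (TI t m) F) : Matrix (TI t m) (TI t m) F) = 1 - N from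
    Units.inv_eq_of_mul_eq_one_right (by rw [hyN, add_mul, one_mul, mul_sub, mul_one, hNN]; abel)]

theorem SBase.step_col {j : Fin t} {N : Matrix (TI t m) (TI t m) F} {c : Fin m → F} (s : Fin m → F) :
    (1 + N) * lift j (Eop G c c) * (1 - N) * lift j (Eop G c s) =
      -((1 + N) * lift j (Eop G c s) * ct G j c c N) := by
  rw [mul_assoc (1 + N), mul_assoc (1 + N), mul_assoc (1 + N), ← mul_neg]
  congr 1
  rw [mul_sub, mul_one, sub_mul, ← lift_mul, Eop_mul, H.hG.self, zero_smul, lift_zero, zero_sub,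
    ← lift_Eop_mul_ct]

theorem SBase.step_ct {j : Fin t} {N : Matrix (TI t m) (TI t m) F} (c : Fin m → F) :
    ct G j c c ((1 + N) * lift j (Eop G c c) * (1 - N)) = -(ct G j c c N * ct G j c c N) := by
  refine H.hG.ext_left j fun x s => ?_
  obtain ⟨e, he⟩ : ∃ e : Matrix (TI t m) (TI t m) F, e = ct G j c c ((1 + N) * lift j (Eop G c c) * (1 - N)) :=
    ⟨_, rfl⟩
  rw [lift_Eop_mul_ct, mul_assoc, H.step_col, mul_neg, ← mul_assoc, ← mul_assoc, mul_add, mul_one, add_mul,
    ← lift_mul, Eop_mul, H.hG.self, zero_smul, lift_zero, zero_add, ← lift_Eop_mul_ct, mul_assoc, mul_neg]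

/-- If a contraction vanishes, the element is decomposed. -/
theorem SBase.kron_of_zero (hK : Crit G M) (hex : 3 ≤ m ∨ 4 < Fintype.card F) {j : Fin t}
    {N : Matrix (TI t m) (TI t m) F} (h : ConjRoot G M j N) {c : Fin m → F} (hc : c ≠ 0)
    (hT : ct G j c c N = 0) :
    ∃ (β α : Matrix _ _ F), Comm j α ∧ 1 + N = lift j β * α := by
  obtain ⟨hN, hNN, -⟩ := H.conjRoot_spec h
  obtain ⟨y, hy, hyN⟩ := hN 1
  rw [one_smul] at hyN
  set yi := ((y⁻¹ : GL (TI t m) F) : Matrix (TI t m) (TI t m) F) with hyi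
  have hyi' : yi = 1 - N := Units.inv_eq_of_mul_eq_one_right (by
    rw [hyN, add_mul, one_mul, mul_sub, mul_one, hNN]; abel)
  set A := (1 + N) * lift j (Eop G c c) * (1 - N) with hA
  obtain ⟨x, hx, hxA⟩ := (H.conjRoot_spec (H.conjRoot_step h hc)).1 1
  rw [one_smul, ← hA] at hxA
  have hxc : MapR G j (x : Matrix (TI t m) (TI t m) F) c c 1 := fun s => by
    rw [hxA, add_mul, one_mul, hA, H.step_col, hT, mul_zero, neg_zero, add_zero, mul_one]
  obtain ⟨β, α, hα, hxβ⟩ := H.kronAt hK hex hx hc (comm_one j) hxc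
  obtain ⟨r, hr⟩ := H.hG.exists_left hc
  have hk : ∀ r, fG G (β *ᵥ c) r • α = fG G c r • (1 : Matrix (TI t m) (TI t m) F) := fun r => by
    have hm : MapR G j (x : Matrix (TI t m) (TI t m) F) c (β *ᵥ c) α := fun s => by
      rw [hxβ, mul_assoc, ← hα, ← mul_assoc, ← lift_mul, mul_Eop]
    rw [← hm.ct_eq H.hG hα, ← hxc.ct_eq H.hG (comm_one j)]
  obtain ⟨k, hαk⟩ : ∃ k : F, α = k • 1 := by
    have h1 := hk r
    rw [H.hG.swap c r, hr, neg_one_smul] at h1
    refine ⟨-(fG G (β *ᵥ c) r)⁻¹, ?_⟩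
    have hne : fG G (β *ᵥ c) r ≠ 0 := by
      intro e
      rw [e, zero_smul, eq_comm, neg_eq_zero] at h1
      exact one_ne_zero h1
    rw [neg_smul, ← smul_neg, ← h1, smul_smul, inv_mul_cancel₀ hne, one_smul]
  set η := k • β - 1 with hη
  have hAη : A = lift j η := by
    rw [hη, show lift j (k • β - 1) = lift j (k • β) - lift j 1 from map_sub (liftHom (F := F) j) _ _, lift_one,
      lift_smul, ← mul_one (lift j β), ← Matrix.mul_smul, ← hαk, ← hxβ, hxA, add_sub_cancel_left]
  -- the image is one ruler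
  have himg : ∀ z s, yi * lift j (Eop G (η *ᵥ z) s) = lift j (Eop G c s) * ct G j c z yi := fun z s => by
    rw [← mul_Eop, lift_mul, ← hAη, hA, hyi', ← hyi', lift_Eop_mul_ct, ← mul_assoc, ← mul_assoc, ← mul_assoc,
      ← hyN, hyi, Units.inv_mul, one_mul]
  have hline : ∀ z z' : Fin m → F, η *ᵥ z' ≠ 0 → ∃ k : F, η *ᵥ z = k • η *ᵥ z' := by
    intro z z' hz'
    by_contra! hk
    obtain ⟨r₁, hr₁, hr₁'⟩ := exists_sep H.hG hk
    let P : (Fin m → F) → Submodule F (TI t m → F) := fun v =>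
      LinearMap.range (Matrix.mulVecLin (lift j (Eop G v c)))
    have hdim : ∀ v, v ≠ 0 → Module.finrank F (P v) = Module.finrank F (P c) := by
      intro v hv
      obtain ⟨h1, hh1, e1⟩ := H.exists_rt hv hc
      obtain ⟨h2, hh2, e2⟩ := H.exists_rt hc hv
      refine le_antisymm ?_ ?_
      · show (lift j (Eop G v c)).rank ≤ (lift j (Eop G c c)).rank
        rw [← e2, ← mul_Eop, lift_mul]
        exact Matrix.rank_mul_le_right _ _
      · show (lift j (Eop G c c)).rank ≤ (lift j (Eop G v c)).rank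
        rw [show Eop G c c = h1 * Eop G v c by rw [mul_Eop, e1], lift_mul]
        exact Matrix.rank_mul_le_right _ _
    have hz : η *ᵥ z ≠ 0 := fun e => hk 0 (by rw [e, zero_smul])
    have hdisj : Disjoint (P (η *ᵥ z)) (P (η *ᵥ z')) := by
      rw [Submodule.disjoint_def]
      rintro w ⟨p, rfl⟩ ⟨q, hq⟩
      have := congrArg (fun w => lift j (Eop G (η *ᵥ z) r₁) *ᵥ w) hq
      simp only [Matrix.mulVecLin_apply, Matrix.mulVec_mulVec, ← lift_mul, Eop_mul, hr₁, hr₁', zero_smul, one_smul,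
        lift_zero, Matrix.zero_mulVec] at this
      exact this.symm
    have hinj : Function.Injective (Matrix.mulVecLin yi) := fun p q e => by
      have := congrArg (fun w => (y : Matrix (TI t m) (TI t m) F) *ᵥ w) e
      simpa only [Matrix.mulVecLin_apply, Matrix.mulVec_mulVec, hyi, Units.mul_inv, Matrix.one_mulVec] using this
    have hle : (P (η *ᵥ z) ⊔ P (η *ᵥ z')).map (Matrix.mulVecLin yi) ≤ P c := by
      rw [Submodule.map_sup, sup_le_iff]
      constructor <;>
      · rintro _ ⟨_, ⟨p, rfl⟩, rfl⟩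
        rw [Matrix.mulVecLin_apply, Matrix.mulVecLin_apply, Matrix.mulVec_mulVec, himg, ← Matrix.mulVec_mulVec]
        exact ⟨_, rfl⟩
    have h1 := Submodule.finrank_mono hle
    rw [← (Submodule.equivMapOfInjective _ hinj _).finrank_eq] at h1
    have h2 := Submodule.finrank_sup_add_finrank_inf_eq (P (η *ᵥ z)) (P (η *ᵥ z'))
    rw [hdisj.eq_bot, finrank_bot, hdim _ hz, hdim _ hz'] at h2
    have h3 : P c = ⊥ := Submodule.finrank_eq_zero.1 (by omega)
    refine Eop_ne_zero H.hG hc (lift_injective j ?_)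
    rw [lift_zero]
    exact Matrix.toLin'.injective (by rw [Matrix.toLin'_apply', map_zero, ← LinearMap.range_eq_bot]; exact h3)
  obtain ⟨z₀, hz₀⟩ : ∃ z, η *ᵥ z ≠ 0 := by
    by_contra! hz
    have h0 : η = 0 := Matrix.ext_iff_mulVec.mpr fun z => by rw [hz, Matrix.zero_mulVec]
    rw [h0, lift_zero, hA] at hAη
    have h1 := congrArg (fun Z => yi * Z * (y : Matrix (TI t m) (TI t m) F)) hAη
    rw [← hyi', ← hyN] at h1
    simp only [← mul_assoc, hyi, Units.inv_mul, one_mul, mul_assoc _ _ (y : Matrix (TI t m) (TI t m) F), mul_one,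
      mul_zero, zero_mul] at h1
    exact Eop_ne_zero H.hG hc (lift_injective j (by rw [h1, lift_zero]))
  set v := η *ᵥ z₀ with hv
  obtain ⟨d₀, hd₀⟩ := H.hG.exists_left hz₀
  set d := (-1 : F) • d₀ with hd
  have hvd : fG G v d = 1 := by rw [hd, fG_smul_right, H.hG.swap, hd₀]; ring
  have hηa : adjG G η = -η := by
    refine lift_injective j ?_
    rw [← H.hG.adjT_lift, ← hAη, show lift j (-η) = -lift j η from map_neg (liftHom (F := F) j) η, ← hAη]
    exact (H.conjRoot_spec (H.conjRoot_step h hc)).2.2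
  obtain ⟨z, hz⟩ := H.hG.exists_left hc
  have hmap : MapR G j (y : Matrix (TI t m) (TI t m) F) c (η *ᵥ d)
      (-ct G j v z (y : Matrix (TI t m) (TI t m) F)) := mapR_of_ct H.hG j fun r => by
    refine H.hG.ext_left j fun p s => ?_
    have hyA : (y : Matrix (TI t m) (TI t m) F) * lift j (Eop G c c) = lift j η * (y : Matrix (TI t m) (TI t m) F) := by
      rw [← hAη, hA, mul_assoc _ (1 - N), ← hyi', hyi, Units.inv_mul, mul_one, hyN]
    have e1 : lift j (Eop G p r) * (y : Matrix (TI t m) (TI t m) F) * lift j (Eop G c s) =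
        lift j (Eop G p r) * (lift j η * (y : Matrix (TI t m) (TI t m) F)) * lift j (Eop G z s) := by
      rw [← hyA, show Eop G c s = Eop G c c * Eop G z s by rw [Eop_mul, hz, one_smul], lift_mul]
      simp only [mul_assoc]
    rw [lift_Eop_mul_ct, e1, ← mul_assoc, ← lift_mul, H.hG.Eop_mul', hηa]
    obtain ⟨φ, hφ⟩ := hline r z₀ hz₀
    have hφ' : φ = fG G (η *ᵥ d) r := by
      have h1 : fG G (η *ᵥ r) d = φ := by rw [hφ, ← hv, fG_smul_left, hvd, mul_one]
      rw [← h1, ← H.hG.fG_adj, hηa, Matrix.neg_mulVec, ← neg_one_smul F (η *ᵥ d), fG_smul_right, H.hG.swap r]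
      ring
    rw [Matrix.neg_mulVec, hφ, ← hv, ← neg_smul, Eop_smul_right, lift_smul, Matrix.smul_mul, Matrix.smul_mul,
      ← lift_Eop_mul_ct, Matrix.mul_smul, ← hφ', mul_neg, neg_smul, smul_neg]
  obtain ⟨β', α', hα', hy'⟩ := H.kronAt hK hex hy hc (by
    rw [← neg_one_smul F (ct G j v z _)]; exact (comm_cn j _ _ _).smul _) hmap
  exact ⟨β', α', hα', hyN ▸ hy'⟩

/-- A nilpotent contraction vanishes. -/
theorem SBase.ct_eq_zero_of_nilpotent_of {j : Fin t} {c : Fin m → F} (hc : c ≠ 0)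
    (hA : ∀ {N : Matrix (TI t m) (TI t m) F}, ConjRoot G M j N → ct G j c c N = 0 → (∃ η, N = lift j η) ∨ Comm j N)
    (hC : ∀ {N : Matrix (TI t m) (TI t m) F}, ConjRoot G M j N → Comm j ((1 + N) * lift j (Eop G c c) * (1 - N)) →
      ct G j c c N = 0) : ∀ (n : ℕ) {N : Matrix (TI t m) (TI t m) F}, ConjRoot G M j N →
      ct G j c c N ^ n = 0 → ct G j c c N = 0 := by
  intro n
  induction n using Nat.strong_induction_on with
  | _ n ih =>
  intro N h hn
  rcases Nat.lt_or_ge n 2 with hn2 | hn2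
  · interval_cases n
    · rw [pow_zero] at hn; exact absurd hn one_ne_zero
    · rwa [pow_one] at hn
  set N' := (1 + N) * lift j (Eop G c c) * (1 - N) with hN'
  have hN'r := H.conjRoot_step h hc
  have hT' : ct G j c c N' = 0 := by
    refine ih ((n + 1) / 2) (by omega) hN'r ?_
    rw [hN', H.step_ct, ← sq, neg_pow, ← pow_mul, show 2 * ((n + 1) / 2) = n + (2 * ((n + 1) / 2) - n) by omega,
      pow_add, hn, zero_mul, mul_zero]
  have hTT : ct G j c c N * ct G j c c N = 0 := by
    rwa [hN', H.step_ct, neg_eq_zero] at hT'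
  set T := ct G j c c N with hT
  have hTc : Comm j T := comm_cn _ _ _ _
  obtain ⟨hN, hNN, -⟩ := H.conjRoot_spec h
  rcases hA hN'r hT' with ⟨η, hη⟩ | hcm
  · have h1 : η *ᵥ c = 0 ∨ T = 0 := by
      by_cases hηc : η *ᵥ c = 0
      · exact Or.inl hηc
      right
      refine eq_zero_of_lift_mul (η := Eop G (η *ᵥ c) c) ?_ hTc (i := j) ?_
      · intro e0
        obtain ⟨x, hx⟩ := H.hG.exists_left hc
        have := congrArg (fun Z => Z *ᵥ x) e0
        simp only [Eop_mulVec, hx, one_smul, Matrix.zero_mulVec] at this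
        exact hηc this
      · rw [← mul_Eop, lift_mul, ← hη, H.step_col, neg_mul, ← hT, mul_assoc _ T T, hTT, mul_zero, neg_zero]
    rcases h1 with hηc | h0
    · refine eq_zero_of_lift_mul (Eop_ne_zero H.hG hc) hTc (i := j) ?_
      have h2 := congrArg (fun Z => (1 - N) * Z) (H.step_col (j := j) (N := N) (c := c) c)
      rw [hη, ← lift_mul, mul_Eop, hηc, ← zero_smul F c, Eop_smul_left, zero_smul, lift_zero, mul_zero,
        mul_neg, ← hT] at h2
      rw [eq_comm, neg_eq_zero, ← mul_assoc, ← mul_assoc,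
        show (1 - N) * (1 + N) = 1 by rw [sub_mul, one_mul, mul_add, mul_one, hNN]; abel, one_mul] at h2
      exact h2
    · exact h0
  · exact hC h hcm

end Over

section Odd

variable [Fintype F] [NeZero m] {G : Matrix (Fin m) (Fin m) F} {M : Subgroup (GL (TI t m) F)} (H : SOver G M)
include H

/-- If a contraction vanishes, the conjugate is decomposed. -/
theorem SOver.alg_or_comm_of_zero (hB : NoHit G M) (hex : 3 ≤ m ∨ 4 < Fintype.card F) {j : Fin t}
    {N : Matrix (TI t m) (TI t m) F} (h : ConjRoot G M j N) {c : Fin m → F} (hc : c ≠ 0)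
    (hT : ct G j c c N = 0) : (∃ η, N = lift j η) ∨ Comm j N := by
  obtain ⟨hN, hNN, -⟩ := H.conjRoot_spec h
  obtain ⟨y, hy, hyN⟩ := hN 1
  rw [one_smul] at hyN
  obtain ⟨β', α', hα', hy'⟩ := H.kron_of_zero (H.crit hB) hex h hc hT
  by_cases hsc : ∃ k : F, β' = k • 1
  · obtain ⟨k, rfl⟩ := hsc
    right
    have : N = k • α' - 1 := by
      rw [eq_sub_iff_add_eq', hy', lift_smul, lift_one, Matrix.smul_mul, one_mul]
    rw [this]
    exact (hα'.smul k).sub (comm_one j)
  obtain ⟨p, hp⟩ : ∃ p, ∀ k : F, β' *ᵥ p ≠ k • p := by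
    by_contra! h'
    exact hsc (scalar_of_eigen h')
  obtain ⟨a, ha1, ha0⟩ := exists_sep H.hG hp
  left
  have hsq : (lift j β' * α' - 1) * (lift j β' * α' - 1) = 0 := by
    rw [← hy', add_sub_cancel_left, hNN]
  have e1 := congrArg (fun Z => ct G j a p Z) hsq
  have e2 : ct G j a p ((lift j β' * α' - 1) * (lift j β' * α' - 1)) =
      fG G ((β' * β') *ᵥ p) a • (α' * α') - (2 : F) • (fG G (β' *ᵥ p) a • α') + fG G p a • 1 := by
    have e3 : (lift j β' * α' - 1) * (lift j β' * α' - 1) =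
        lift j (β' * β') * (α' * α') - (2 : F) • (lift j β' * α') + lift j 1 * 1 := by
      rw [lift_mul, lift_one, one_mul, two_smul]
      calc (lift j β' * α' - 1) * (lift j β' * α' - 1)
          = lift j β' * (α' * lift j β') * α' - (lift j β' * α' + lift j β' * α') + 1 := by noncomm_ring
        _ = _ := by rw [← hα']; noncomm_ring
    rw [e3, two_smul, two_smul]
    simp only [ct, cn_sub, cn_lift_mul (hα'.mul hα'), cn_lift_mul hα', cn_lift_mul (comm_one j)]
    have eadd : ∀ Y Z : Matrix (TI t m) (TI t m) F,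
        cn j (G *ᵥ a) p (Y + Z) = cn j (G *ᵥ a) p Y + cn j (G *ᵥ a) p Z := fun Y Z => by
      simp only [cn, mul_add, add_mul, Finset.sum_add_distrib]
    simp only [eadd, cn_sub, cn_lift_mul (hα'.mul hα'), cn_lift_mul hα', cn_lift_mul (comm_one j),
      Matrix.one_mulVec, dotProduct_comm (G *ᵥ a)]
    rfl
  rw [e2, ha1, ha0, zero_smul, add_zero, one_smul] at e1
  have hz0 : ct G j a p (0 : Matrix (TI t m) (TI t m) F) = 0 := by simp [ct, cn]
  rw [hz0, sub_eq_zero] at e1
  obtain ⟨κ, hκα⟩ : ∃ κ : F, α' = κ • 1 := by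
    set l := fG G ((β' * β') *ᵥ p) a
    have hu : IsUnit α' := by
      have : IsUnit (lift j β' * α') := hy' ▸ ⟨y, hyN⟩
      have h2 := (Matrix.isUnit_iff_isUnit_det _).1 this
      rw [Matrix.det_mul] at h2
      exact (Matrix.isUnit_iff_isUnit_det _).2 (IsUnit.mul_iff.1 h2).2
    obtain ⟨w, rfl⟩ := hu
    have hl : l ≠ 0 := by
      intro e0
      rw [e0, zero_smul, eq_comm, smul_eq_zero] at e1
      exact e1.elim H.two w.ne_zero
    refine ⟨2 / l, ?_⟩
    have e4 : l • (w : Matrix (TI t m) (TI t m) F) = (2 : F) • 1 := by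
      have := congrArg (fun Z => Z * ((w⁻¹ : (Matrix (TI t m) (TI t m) F)ˣ) : Matrix (TI t m) (TI t m) F)) e1
      simpa only [Matrix.smul_mul, mul_assoc, Units.mul_inv, mul_one] using this
    rw [div_eq_inv_mul, mul_smul, ← e4, smul_smul, inv_mul_cancel₀ hl, one_smul]
  refine ⟨κ • β' - 1, ?_⟩
  rw [show lift j (κ • β' - 1) = lift j (κ • β') - lift j 1 from map_sub (liftHom (F := F) j) _ _, lift_one,
    lift_smul, eq_sub_iff_add_eq', hy', hκα, Matrix.mul_smul, mul_one]

/-- A nilpotent contraction vanishes. -/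
theorem SOver.ct_eq_zero_of_nilpotent (hB : NoHit G M) (hex : 3 ≤ m ∨ 4 < Fintype.card F) {j : Fin t}
    {c : Fin m → F} (hc : c ≠ 0) (n : ℕ) {N : Matrix (TI t m) (TI t m) F} (h : ConjRoot G M j N)
    (hn : ct G j c c N ^ n = 0) : ct G j c c N = 0 := by
  refine H.ct_eq_zero_of_nilpotent_of hc (fun hN hT => H.alg_or_comm_of_zero hB hex hN hc hT) ?_ n h hn
  intro N h hcm
  obtain ⟨hN, hNN, -⟩ := H.conjRoot_spec h
  set T := ct G j c c N with hT
  have hTc : Comm j T := comm_cn _ _ _ _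
  set a := lift j (Eop G c c) with ha
  have haa : a * a = 0 := by rw [ha, ← lift_mul, Eop_self_mul H.hG, lift_zero]
  have e0 : (2 : F) • (a * N * a) = a * N * a * N - N * a * N * a := by
    have h1 := hcm (Eop G c c)
    rw [← ha] at h1
    have l : a * ((1 + N) * a * (1 - N)) = a * N * a - a * N * a * N := by
      calc _ = a * a * (1 - N) + a * N * a - a * N * a * N := by noncomm_ring
        _ = _ := by rw [haa, zero_mul, zero_add]
    have r : (1 + N) * a * (1 - N) * a = -(a * N * a) - N * a * N * a := by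
      calc _ = (1 + N) * (a * a) - a * N * a - N * a * N * a := by noncomm_ring
        _ = _ := by rw [haa, mul_zero, zero_sub]
    rw [l, r] at h1
    rw [two_smul]
    linear_combination (norm := abel) h1
  have e1 : (2 : F) • (a * N * a * N) = -(N * a * N * a * N) := by
    have := congrArg (· * N) e0
    simpa only [Matrix.smul_mul, sub_mul, mul_assoc, hNN, mul_zero, zero_sub] using this
  have e2 : N * a * N * a * N = 0 := by
    have := congrArg (N * ·) e1
    simp only [Matrix.mul_smul, mul_neg, ← mul_assoc, hNN, zero_mul, neg_zero, smul_eq_zero] at this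
    exact this.resolve_left H.two
  have e3 : a * N * a * N = 0 := by
    rw [e2, neg_zero, smul_eq_zero] at e1
    exact e1.resolve_left H.two
  have e4 : N * a * N * a = 0 := by
    have := congrArg (N * ·) e0
    simp only [Matrix.mul_smul, mul_sub, ← mul_assoc, hNN, zero_mul, sub_zero, e2, smul_eq_zero] at this
    exact this.resolve_left H.two
  rw [e3, e4, sub_zero, smul_eq_zero] at e0
  refine eq_zero_of_lift_mul (Eop_ne_zero H.hG hc) hTc (i := j) ?_
  rw [hT, lift_Eop_mul_ct]
  exact e0.resolve_left H.two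

end Odd

end Cfsg.Agent.TensorWreath43
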