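import Cfsg.Agent.Lib.TensorWreath43Nilp
import Cfsg.Agent.Lib.TensorWreath43Key
import Cfsg.Agent.Lib.TensorWreath43Sum

/-!
Every conjugate of a root element is a scalar-block or a diagonal element.
-/

set_option autoImplicit false
set_option linter.unusedSectionVars false

namespace Cfsg.Agent.TensorWreath43

open scoped Matrix

variable {F : Type*} [Field F] {κ : Type} [Fintype κ] [DecidableEq κ] [Nonempty κ] {m : ℕ} [NeZero m]
variable {M : Subgroup (BM F κ m)ˣ}

/-- A pair whose block is not nilpotent, the conjugate not having scalar blocks. -/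
def Live (g : (BM F κ m)ˣ) (φ ψ : Fin m → F) : Prop :=
  ¬ C1 (Bc g φ) ∧ ¬ IsNilpotent (T (Bc g φ) ψ)

theorem Live.step (hm : 3 ≤ m) (hM : Good M) {g : (BM F κ m)ˣ} (hg : g ∈ M) {φ ψ : Fin m → F} (hφ : φ 0 = 0)
    (hψ : ψ 0 = 0) (hψne : ψ ≠ 0) (h : Live g φ ψ) :
    Live (yU g φ) ψ ψ ∧ T (Bc (yU g φ) ψ) ψ = -(T (Bc g φ) ψ * T (Bc g φ) ψ) := by
  have e := T_yU hφ hψ hψ g (χ := ψ)
  refine ⟨⟨fun h1 => ?_, ?_⟩, e⟩
  · rcases C1_or_C2_of_conj_C1 hm hM hg hφ hψne h1 with h' | h'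
    · exact h.1 h'
    · exact h.2 (by rw [C2_T h' hψ]; exact IsNilpotent.zero)
  · rw [e, isNilpotent_neg_iff]
    rintro ⟨n, hn⟩
    exact h.2 ⟨2 * n, by rwa [pow_mul, pow_two]⟩

theorem range_mul_eq {A B : Matrix κ κ F} (h : B.rank ≤ (B * A).rank) :
    ∃ D, B = B * A * D := by
  refine exists_factor ?_
  have h1 : LinearMap.range (B * A).mulVecLin ≤ LinearMap.range B.mulVecLin := by
    rw [Matrix.mulVecLin_mul]; exact LinearMap.range_comp_le_range _ _
  rw [Submodule.eq_of_le_of_finrank_le h1 h]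

/-- If `A` factors through `B` on the right and has the same rank, their right annihilators coincide. -/
theorem ann_eq {A B U : Matrix κ κ F} (hU : A = U * B) (h : B.rank ≤ A.rank) {Z : Matrix κ κ F} (hZ : A * Z = 0) :
    B * Z = 0 := by
  have h1 : LinearMap.ker B.mulVecLin ≤ LinearMap.ker A.mulVecLin := by
    rw [hU, Matrix.mulVecLin_mul]; exact LinearMap.ker_le_ker_comp _ _
  have h2 : LinearMap.ker B.mulVecLin = LinearMap.ker A.mulVecLin := by
    refine Submodule.eq_of_le_of_finrank_le h1 ?_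
    have e1 := LinearMap.finrank_range_add_finrank_ker A.mulVecLin
    have e2 := LinearMap.finrank_range_add_finrank_ker B.mulVecLin
    change A.rank + _ = _ at e1
    change B.rank + _ = _ at e2
    omega
  ext i j
  have hm : Z *ᵥ Pi.single j 1 ∈ LinearMap.ker A.mulVecLin := by
    rw [LinearMap.mem_ker, Matrix.mulVecLin_apply, Matrix.mulVec_mulVec, hZ, Matrix.zero_mulVec]
  rw [← h2, LinearMap.mem_ker, Matrix.mulVecLin_apply, Matrix.mulVec_mulVec] at hm
  simpa using congrFun hm i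

variable [Fintype F]

/-- The elements `1 + X ζ`. -/
noncomputable def rowGroup : Subgroup (BM F κ m)ˣ where
  carrier := {u | ∃ ζ : Fin m → F, ζ 0 = 0 ∧ u = xU ζ}
  one_mem' := ⟨0, rfl, Units.ext (by rw [xU_val rfl, X_zero, Units.val_one, add_zero])⟩
  mul_mem' := by
    rintro _ _ ⟨a, ha, rfl⟩ ⟨b, hb, rfl⟩
    refine ⟨a + b, by simp [ha, hb], Units.ext ?_⟩
    rw [Units.val_mul, xU_val ha, xU_val hb, xU_val (by simp [ha, hb]), X_add, mul_add, mul_one, add_mul, one_mul,
      X_mul_X ha, add_zero, add_assoc]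
  inv_mem' := by
    rintro _ ⟨a, ha, rfl⟩
    exact ⟨-a, by simp [ha], Units.ext (by rw [xU_inv_val ha, xU_val (by simp [ha]), X_neg, sub_eq_add_neg])⟩

theorem xU_injective {a b : Fin m → F} (ha : a 0 = 0) (hb : b 0 = 0)
    (h : (xU a : (BM F κ m)ˣ) = xU b) : a = b := by
  have h' := congrArg Units.val h
  rw [xU_val ha, xU_val hb, add_right_inj] at h'
  funext l
  have := congrFun (congrFun h' 0) l
  rw [X_apply, X_apply, if_pos rfl, if_pos rfl] at this
  exact smul_one_injective this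

theorem xU_pow {a : Fin m → F} (ha : a 0 = 0) (n : ℕ) : (xU a : (BM F κ m)ˣ) ^ n = xU (n • a) := by
  induction n with
  | zero =>
    rw [pow_zero, zero_smul]
    exact Units.ext (by rw [xU_val rfl, X_zero, add_zero, Units.val_one])
  | succ n ih =>
    rw [pow_succ, ih, succ_nsmul]
    refine Units.ext ?_
    rw [Units.val_mul, xU_val (by simp [ha]), xU_val ha, xU_val (by simp [ha]), X_add, mul_add, mul_one, add_mul,
      one_mul, X_mul_X (by simp [ha]), add_zero, add_assoc]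

/-- Displacements landing, modulo the ruler, in the column of `B`. -/
def InS (B Z : BM F κ m) : Prop := ∃ W : Fin m → Matrix κ κ F, ∀ k, k ≠ 0 → ∀ l, Z k l = B k 0 * W l

/-- Displacements killing the common kernel of `ψ` and of the row `v`. -/
def InK (ψ : Fin m → F) (v : Fin m → Matrix κ κ F) (Z : BM F κ m) : Prop :=
  ∃ a C : Fin m → Matrix κ κ F, ∀ k l, Z k l = ψ l • a k + C k * v l

/-- No pair is live. -/
theorem nilpotent_of_not_C1 (hm : 3 ≤ m) (hodd : m = 3 → Odd (Fintype.card κ)) (hM : Good M)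
    {g : (BM F κ m)ˣ} (hg : g ∈ M) {φ ψ : Fin m → F} (hφ : φ 0 = 0) (hψ : ψ 0 = 0) (hψne : ψ ≠ 0)
    (h : ¬ C1 (Bc g φ)) : IsNilpotent (T (Bc g φ) ψ) := by
  classical
  by_contra hnil
  -- a live pair of least rank
  have hex : ∃ s, ∃ g ∈ M, ∃ φ ψ : Fin m → F, φ 0 = 0 ∧ ψ 0 = 0 ∧ ψ ≠ 0 ∧ Live g φ ψ ∧ (T (Bc g φ) ψ).rank = s :=
    ⟨_, g, hg, φ, ψ, hφ, hψ, hψne, ⟨h, hnil⟩, rfl⟩
  obtain ⟨g₀, hg₀, φ₀, ψ, hφ₀, hψ, hψne, hlive, hrank⟩ := Nat.find_spec hex
  set s := Nat.find hex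
  have hmin : ∀ g ∈ M, ∀ φ ψ : Fin m → F, φ 0 = 0 → ψ 0 = 0 → ψ ≠ 0 → Live g φ ψ → s ≤ (T (Bc g φ) ψ).rank :=
    fun g hg φ ψ h1 h2 h3 h4 => Nat.find_min' hex ⟨g, hg, φ, ψ, h1, h2, h3, h4, rfl⟩
  set t := T (Bc g₀ φ₀) ψ with ht
  set g₁ := yU g₀ φ₀
  have hg₁ : g₁ ∈ M := yU_mem hM hg₀ φ₀
  set G := yU g₁ ψ with hG
  have hGM : G ∈ M := yU_mem hM hg₁ ψ
  obtain ⟨hl1, e1⟩ := hlive.step hm hM hg₀ hφ₀ hψ hψne
  obtain ⟨hl2, e2⟩ := hl1.step hm hM hg₁ hψ hψ hψne
  rw [e1, ← ht, neg_mul_neg] at e2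
  set B := Bc G ψ with hB
  set v := vrow G ψ with hv
  have hv0 : v 0 = t * t := by
    rw [hv, hG, vrow_yU_zero hψ hψ, e1, neg_neg]
  have hBk : ∀ k, k ≠ 0 → ∀ l, B k l = -(Bc g₀ φ₀ k 0 * (t * v l)) := fun k hk l => by
    rw [hB, Bc_apply, hG, yU_val hψ, Matrix.add_apply, Matrix.one_apply_ne hk, zero_add,
      Bc_yU_col_ne hφ₀ hψ g₀ hk, ← ht, neg_mul, mul_assoc]
  have r2 : s ≤ (t * t * (t * t)).rank := by
    have := hmin G hGM ψ ψ hψ hψ hψne hl2
    rwa [← hB, e2, Matrix.rank, ← Matrix.toLin'_apply', map_neg, LinearMap.range_neg, Matrix.toLin'_apply', ← Matrix.rank] at this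
  have r3 : t.rank ≤ (t * (t * t)).rank := by
    rw [hrank]
    refine r2.trans ?_
    rw [show t * t * (t * t) = t * (t * t) * t by simp only [mul_assoc]]
    exact Matrix.rank_mul_le_left _ _
  obtain ⟨D, hD⟩ := range_mul_eq r3
  -- the displacement of `1 + B` lands in its column
  have hBW : ∀ k, k ≠ 0 → ∀ l, B k l = B k 0 * (D * v l) := fun k hk l => by
    rw [hBk k hk, hBk k hk 0, hv0, neg_mul]
    congr 1
    rw [mul_assoc, show t * (t * t) * (D * v l) = t * (t * t) * D * v l by simp only [mul_assoc], ← hD]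
  have hBcol : ∀ k, k ≠ 0 → B k 0 = -(Bc g₀ φ₀ k 0 * (t * t)) * t := fun k hk => by
    rw [hBk k hk, hv0, neg_mul]; simp only [mul_assoc]
  have hT : ∀ χ : Fin m → F, χ 0 = 0 → T B χ = -(T (Bc g₀ φ₀) χ * (t * t)) * t := fun χ hχ => by
    show ∑ k, χ k • B k 0 = -((∑ k, χ k • Bc g₀ φ₀ k 0) * (t * t)) * t
    rw [Finset.sum_mul, ← Finset.sum_neg_distrib, Finset.sum_mul]
    refine Finset.sum_congr rfl fun k _ => ?_
    by_cases hk : k = 0
    · subst hk; simp [hχ]
    · rw [hBcol k hk, Matrix.smul_mul, ← smul_neg, Matrix.smul_mul]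
  have hkill : ∀ k, k ≠ 0 → ∀ Z : Matrix κ κ F, t * Z = 0 → B k 0 * Z = 0 := fun k hk Z hZ => by
    rw [hBcol k hk, mul_assoc, hZ, mul_zero]
  have hker : ∀ χ : Fin m → F, χ 0 = 0 → χ ≠ 0 → ∀ Z : Matrix κ κ F, T B χ * Z = 0 → t * Z = 0 := by
    intro χ hχ hχne Z hZ
    refine ann_eq (hT χ hχ) ?_ hZ
    rw [hrank]
    refine hmin G hGM ψ χ hψ hχ hχne ⟨hl2.1, fun hn => hl2.2 ?_⟩
    have h2 := square_zero_of_nilpotent hm hM hGM hψ hχ hχne hn
    by_cases h0 : T B χ = 0
    · rcases C1_or_C2_of_T_zero hm hM hGM hψ hχ hχne h0 with h' | h'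
      · exact absurd h' hl2.1
      · exact absurd (C2_T h' hψ) (fun e => hl2.2 (by rw [e]; exact IsNilpotent.zero))
    · exact ⟨2, by rw [pow_two]; exact (swap_T hψ hχ hχne hψ (swap_diag hm hM hGM hψ hχ hχne h0 h2)).1⟩
  -- the group generated by some roots and `1 + B`
  obtain ⟨χ, hχ, hχne, -, hχi⟩ := exists_indep hm hψ
  set y := yU G ψ with hy
  have hyM : y ∈ M := yU_mem hM hGM ψ
  let gens : Set (BM F κ m)ˣ :=
    {u | ∃ c : F, u = xU (c • ψ)} ∪ {u | Fintype.card F = 2 ∧ u = xU χ} ∪ {y}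
  set A := Subgroup.closure gens with hA
  haveI : Finite (Matrix κ κ F) := inferInstanceAs (Finite (κ → κ → F))
  haveI : Finite (BM F κ m) := inferInstanceAs (Finite (Fin m → Fin m → Matrix κ κ F))
  haveI : Fintype A := Fintype.ofFinite _
  have hAM : A ≤ M := (Subgroup.closure_le _).2 fun u hu => by
    rcases hu with (⟨c, rfl⟩ | ⟨-, rfl⟩) | rfl
    · exact xU_mem hM _
    · exact xU_mem hM _
    · exact hyM
  -- displacements
  have hS : ∀ u ∈ A, InS B ((u : BM F κ m) - 1) := by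
    have hxS : ∀ ζ : Fin m → F, InS B (((xU ζ : (BM F κ m)ˣ) : BM F κ m) - 1) := fun ζ => by
      refine ⟨fun _ => 0, fun k hk l => ?_⟩
      by_cases hζ : ζ 0 = 0
      · rw [xU_val hζ, add_sub_cancel_left, X_apply, if_neg hk, mul_zero]
      · rw [xU, dif_neg hζ, Units.val_one, sub_self, Matrix.zero_apply, mul_zero]
    intro u hu
    induction hu using Subgroup.closure_induction with
    | mem u hu =>
      rcases hu with (⟨c, rfl⟩ | ⟨-, rfl⟩) | rfl
      · exact hxS _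
      · exact hxS _
      · exact ⟨fun l => D * v l, fun k hk l => by rw [yU_val hψ, ← hB, add_sub_cancel_left, hBW k hk]⟩
    | one => exact ⟨fun _ => 0, fun k _ l => by rw [Units.val_one, sub_self, Matrix.zero_apply, mul_zero]⟩
    | mul a b _ _ iha ihb =>
      obtain ⟨W, hW⟩ := iha
      obtain ⟨W', hW'⟩ := ihb
      refine ⟨fun l => ∑ p, W p * (b : BM F κ m) p l + W' l, fun k hk l => ?_⟩
      rw [Units.val_mul, show (a : BM F κ m) * b - 1 = ((a : BM F κ m) - 1) * b + ((b : BM F κ m) - 1) by noncomm_ring,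
        Matrix.add_apply, hW' k hk, Matrix.mul_apply, mul_add, Finset.mul_sum]
      congr 1
      exact Finset.sum_congr rfl fun p _ => by rw [hW k hk, mul_assoc]
    | inv a _ ih =>
      obtain ⟨W, hW⟩ := ih
      refine ⟨fun l => -∑ p, W p * ((a⁻¹ : (BM F κ m)ˣ) : BM F κ m) p l, fun k hk l => ?_⟩
      rw [show ((a⁻¹ : (BM F κ m)ˣ) : BM F κ m) - 1 = -(((a : BM F κ m) - 1) * ((a⁻¹ : (BM F κ m)ˣ) : BM F κ m)) by
        rw [sub_mul, Units.mul_inv, one_mul, neg_sub], Matrix.neg_apply, Matrix.mul_apply, mul_neg, Finset.mul_sum]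
      congr 1
      exact Finset.sum_congr rfl fun p _ => by rw [hW k hk, mul_assoc]
  have hK : Fintype.card F ≠ 2 → ∀ u ∈ A, InK ψ v ((u : BM F κ m) - 1) := by
    intro h2 u hu
    induction hu using Subgroup.closure_induction with
    | mem u hu =>
      rcases hu with (⟨c, rfl⟩ | ⟨h2', rfl⟩) | rfl
      · refine ⟨fun k => if k = 0 then c • (1 : Matrix κ κ F) else 0, fun _ => 0, fun k l => ?_⟩
        rw [xU_val (by simp [hψ]), add_sub_cancel_left, X_apply, zero_mul, add_zero]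
        simp only []
        split_ifs
        · rw [Pi.smul_apply, smul_eq_mul, smul_smul, mul_comm]
        · rw [smul_zero]
      · exact absurd h2' h2
      · exact ⟨fun _ => 0, fun k => (G : BM F κ m) k 0, fun k l => by
          rw [yU_val hψ, add_sub_cancel_left, Bc_apply, smul_zero, zero_add]⟩
    | one => exact ⟨fun _ => 0, fun _ => 0, fun k l => by
        rw [Units.val_one, sub_self, Matrix.zero_apply, smul_zero, zero_mul, add_zero]⟩
    | mul a b _ _ iha ihb =>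
      obtain ⟨a₁, C₁, h₁⟩ := iha
      obtain ⟨a₂, C₂, h₂⟩ := ihb
      refine ⟨fun k => (∑ p, (a : BM F κ m) k p * a₂ p) + a₁ k, fun k => (∑ p, (a : BM F κ m) k p * C₂ p) + C₁ k,
        fun k l => ?_⟩
      rw [Units.val_mul, show (a : BM F κ m) * b - 1 = (a : BM F κ m) * ((b : BM F κ m) - 1) + ((a : BM F κ m) - 1) by
        noncomm_ring, Matrix.add_apply, h₁, Matrix.mul_apply, smul_add, add_mul, Finset.smul_sum, Finset.sum_mul]
      simp only [h₂, mul_add, Finset.sum_add_distrib, Matrix.mul_smul, mul_assoc]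
      abel
    | inv a _ ih =>
      obtain ⟨a₁, C₁, h₁⟩ := ih
      refine ⟨fun k => -∑ p, ((a⁻¹ : (BM F κ m)ˣ) : BM F κ m) k p * a₁ p,
        fun k => -∑ p, ((a⁻¹ : (BM F κ m)ˣ) : BM F κ m) k p * C₁ p, fun k l => ?_⟩
      rw [show ((a⁻¹ : (BM F κ m)ˣ) : BM F κ m) - 1 = -(((a⁻¹ : (BM F κ m)ˣ) : BM F κ m) * ((a : BM F κ m) - 1)) by
        rw [mul_sub, Units.inv_mul, mul_one, neg_sub], Matrix.neg_apply, Matrix.mul_apply, smul_neg, neg_mul,
        Finset.smul_sum, Finset.sum_mul]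
      simp only [h₁, mul_add, Finset.sum_add_distrib, Matrix.mul_smul, mul_assoc]
      abel
  -- the stabiliser of the ruler
  have stab : ∀ u ∈ A, (∀ k, k ≠ 0 → (u : BM F κ m) k 0 = 0) → u ∈ rowGroup := by
    intro u hu hcol
    obtain ⟨α, η, hη⟩ := kron_of_col_zero hm hM (hAM hu) hcol
    have h00 : IsUnit ((u : BM F κ m) 0 0) := by
      have := congrFun (congrFun (Units.inv_mul u) 0) 0
      rw [mul_rowZero_apply' hcol, Matrix.one_apply_eq] at this
      exact IsUnit.of_mul_eq_one_right _ this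
    have hη0 : η 0 0 ≠ 0 := fun e => not_isUnit_zero (by rwa [hη, e, zero_smul] at h00)
    have hα : IsUnit α := by
      obtain ⟨w, hw⟩ := h00
      rw [hη] at hw
      exact (isUnit_of_mul_eq_smul (A := α) (B := ((w⁻¹ : (Matrix κ κ F)ˣ) : Matrix κ κ F)) (inv_ne_zero hη0) (by
        rw [← inv_smul_smul₀ hη0 α, ← hw, Matrix.smul_mul, Units.mul_inv])).1
    obtain ⟨W, hW⟩ := hS u hu
    obtain ⟨hoff, hdiag⟩ := key hm hodd hker hkill hα (η := η) (W := W) fun k l hk _ => by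
      rw [← hη, ← hW k hk, Matrix.sub_apply]
    obtain ⟨i, hi⟩ : ∃ i : Fin m, i ≠ 0 := ⟨⟨1, by omega⟩, by simp [Fin.ext_iff]⟩
    set d := (η i i)⁻¹
    have hd : η i i ≠ 0 := fun e => one_ne_zero (α := Matrix κ κ F) (by rw [← hdiag i hi, e, zero_smul])
    have hα' : α = d • (1 : Matrix κ κ F) := by
      rw [← hdiag i hi, smul_smul, inv_mul_cancel₀ hd, one_smul]
    have hu' : ∀ k l, (u : BM F κ m) k l = (η k l * d) • (1 : Matrix κ κ F) := fun k l => by rw [hη, hα', smul_smul]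
    set ν := η 0 0 * d
    have hν0 : ν ≠ 0 := mul_ne_zero hη0 (inv_ne_zero hd)
    have hrest : ∀ k l, k ≠ 0 → (u : BM F κ m) k l = (1 : BM F κ m) k l := by
      intro k l hk
      by_cases hkl : k = l
      · subst hkl
        rw [Matrix.one_apply_eq, hη, hdiag k hk]
      · rw [Matrix.one_apply_ne hkl]
        by_cases hl : l = 0
        · subst hl; exact hcol k hk
        · rw [hη, hoff k l hk hl hkl, zero_smul]
    by_cases hν : ν = 1
    · refine ⟨fun l => if l = 0 then 0 else η 0 l * d, by simp, Units.ext ?_⟩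
      rw [xU_val (by simp)]
      ext k l : 1
      rw [Matrix.add_apply, X_apply]
      by_cases hk : k = 0
      · subst hk
        rw [if_pos rfl]
        by_cases hl : l = 0
        · subst hl; rw [hu', ← show ν = η 0 0 * d from rfl, hν]; simp
        · rw [hu', Matrix.one_apply_ne (Ne.symm hl)]; simp [hl]
      · rw [if_neg hk, add_zero, hrest k l hk]
    exfalso
    have hq : Fintype.card F ≠ 2 := fun h2 => hν (by
      by_contra hne
      have : ({0, 1, ν} : Finset F).card = 3 := by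
        rw [Finset.card_insert_of_notMem (by simp [hν0.symm]), Finset.card_pair (Ne.symm hne)]
      have := Finset.card_le_univ ({0, 1, ν} : Finset F)
      omega)
    obtain ⟨a, C, hC⟩ := hK hq u hu
    have hCv : C 0 * v 0 = (ν - 1) • (1 : Matrix κ κ F) := by
      have := hC 0 0
      rw [Matrix.sub_apply, hu', Matrix.one_apply_eq, hψ, zero_smul, zero_add] at this
      rw [← this, sub_smul, one_smul]
    obtain ⟨C', hC'⟩ := (isUnit_of_mul_eq_smul (sub_ne_zero.2 hν) hCv).1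
    -- a ruler fixed by `y`
    let i1 : Fin m := ⟨1, by omega⟩
    let i2 : Fin m := ⟨2, by omega⟩
    have n1 : i1 ≠ 0 := by simp [i1, Fin.ext_iff]
    have n2 : i2 ≠ 0 := by simp [i2, Fin.ext_iff]
    have n12 : i1 ≠ i2 := by simp [i1, i2, Fin.ext_iff]
    obtain ⟨c', hc'0, hc'ne, hc'ψ⟩ : ∃ c' : Fin m → F, c' 0 = 0 ∧ c' ≠ 0 ∧ ∑ l, ψ l * c' l = 0 := by
      by_cases hc1 : ψ i1 = 0
      · exact ⟨Pi.single i1 1, by simp [n1.symm], by simp, by simp [Pi.single_apply, hc1]⟩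
      · refine ⟨Pi.single i2 (ψ i1) + Pi.single i1 (-ψ i2), by simp [n1.symm, n2.symm],
          fun e => hc1 (by simpa [n12.symm] using congrFun e i2), ?_⟩
        simp [mul_add, Finset.sum_add_distrib, Pi.single_apply, mul_comm]
    let c : Fin m → F := c' + Pi.single 0 (-(∑ l, η 0 l * d * c' l) / (ν - 1))
    have hc0 : c 0 = -(∑ l, η 0 l * d * c' l) / (ν - 1) := by simp [c, hc'0]
    have hcl : ∀ l, l ≠ 0 → c l = c' l := fun l hl => by simp [c, hl]
    have hcne : c ≠ 0 := by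
      intro e
      refine hc'ne (funext fun l => ?_)
      by_cases hl : l = 0
      · subst hl; exact hc'0
      · rw [← hcl l hl, e]
    have hψc : ∑ l, c l * ψ l = 0 := by
      rw [← hc'ψ]
      refine Finset.sum_congr rfl fun l _ => ?_
      by_cases hl : l = 0
      · subst hl; simp [hψ]
      · rw [hcl l hl, mul_comm]
    have hrow : ∑ l, c l • ((u : BM F κ m) - 1) 0 l = 0 := by
      have e : ∀ l, c l • ((u : BM F κ m) - 1) 0 l =
          ((η 0 l * d) * c' l + if l = 0 then (ν - 1) * c 0 else 0) • (1 : Matrix κ κ F) := fun l => by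
        rw [Matrix.sub_apply, hu']
        by_cases hl : l = 0
        · subst hl
          rw [Matrix.one_apply_eq, if_pos rfl, hc'0, mul_zero, zero_add, ← show ν = η 0 0 * d from rfl, smul_sub,
            smul_smul, mul_comm (ν - 1), mul_sub, sub_smul, mul_one]
        · rw [Matrix.one_apply_ne (Ne.symm hl), sub_zero, if_neg hl, add_zero, hcl l hl, smul_smul, mul_comm]
      rw [Finset.sum_congr rfl fun l _ => e l, ← Finset.sum_smul, Finset.sum_add_distrib, Finset.sum_ite_eq',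
        if_pos (Finset.mem_univ _), hc0, mul_div_cancel₀ _ (sub_ne_zero.2 hν), add_neg_cancel, zero_smul]
    have hvc : ∑ l, c l • v l = 0 := by
      have h1 : C 0 * ∑ l, c l • v l = 0 := by
        have h3 : ∑ l, c l • ((u : BM F κ m) - 1) 0 l = (∑ l, c l * ψ l) • a 0 + C 0 * ∑ l, c l • v l := by
          rw [Finset.mul_sum, Finset.sum_smul, ← Finset.sum_add_distrib]
          exact Finset.sum_congr rfl fun l _ => by rw [hC, smul_add, smul_smul, Matrix.mul_smul]
        rw [hrow, hψc, zero_smul, zero_add] at h3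
        exact h3.symm
      rw [← hC'] at h1
      rw [← one_mul (∑ l, c l • v l), ← Units.inv_mul C', mul_assoc, h1, mul_zero]
    obtain ⟨σ, sσ, hσ, -, hσc⟩ := exists_move hcne
    have hfix : ∀ k, ((yU ((scU σ)⁻¹ * G) ψ : (BM F κ m)ˣ) : BM F κ m) k 0 = (1 : BM F κ m) k 0 := by
      intro k
      rw [yU_val hψ, Bc_conj, inv_inv, Matrix.add_apply, scU_val, mul_sc_apply]
      have : ∀ p, ((((scU σ)⁻¹ : (BM F κ m)ˣ) : BM F κ m) * Bc G ψ) k p =
          (∑ j, (((scU σ)⁻¹ : (BM F κ m)ˣ) : BM F κ m) k j * (G : BM F κ m) j 0) * v p := fun p => by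
        rw [Matrix.mul_apply, Finset.sum_mul]
        exact Finset.sum_congr rfl fun j _ => by rw [Bc_apply, mul_assoc]
      simp only [this, hσc, mul_smul, ← Matrix.mul_smul, ← Finset.smul_sum, ← Finset.mul_sum, hvc, smul_zero,
        mul_zero, add_zero]
    have hC1 := C1_of_fix hm hM (yU_mem hM (M.mul_mem (M.inv_mem (hM.sl σ hσ)) hGM) ψ) hfix
    refine hl2.1 (C1_iff.2 ?_)
    obtain ⟨η₁, hη₁⟩ := C1_iff.1 hC1
    rw [yU_val hψ, Bc_conj, inv_inv] at hη₁
    refine ⟨(σ : Matrix (Fin m) (Fin m) F) * (η₁ - 1) * ((σ⁻¹ : GL (Fin m) F) : Matrix (Fin m) (Fin m) F), ?_⟩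
    rw [map_mul, map_mul, map_sub, map_one, ← hη₁, add_sub_cancel_left, ← scU_val, ← scU_val, map_inv]
    simp only [← mul_assoc, Units.mul_inv, one_mul, Units.mul_inv_cancel_right]
    rfl
  -- the stabiliser is a trivial-intersection subgroup
  haveI : DecidablePred (· ∈ (rowGroup (F := F) (κ := κ) (m := m)).subgroupOf A) := Classical.decPred _
  set P := (rowGroup (F := F) (κ := κ) (m := m)).subgroupOf A with hP
  have hxA : xU ψ ∈ A := Subgroup.subset_closure (Or.inl (Or.inl ⟨1, by rw [one_smul]⟩))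
  have hTI : ∀ g : A, ∀ e ∈ P, e ≠ 1 → g * e * g⁻¹ ∈ P → g ∈ P := by
    intro g e he hne hge
    obtain ⟨ζ, hζ0, hζ⟩ := Subgroup.mem_subgroupOf.1 he
    obtain ⟨ζ', hζ'0, hζ'⟩ := Subgroup.mem_subgroupOf.1 hge
    refine Subgroup.mem_subgroupOf.2 (stab g g.2 fun k hk => ?_)
    have hζne : ζ ≠ 0 := fun h0 => hne (Subtype.ext (by
      rw [hζ, h0]
      exact Units.ext (by rw [xU_val rfl, X_zero, add_zero]; rfl)))
    obtain ⟨l, hl⟩ := Function.ne_iff.1 hζne
    have h1 : ((g : (BM F κ m)ˣ) : BM F κ m) * X ζ = X ζ' * ((g : (BM F κ m)ˣ) : BM F κ m) := by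
      have hc := congrArg Units.val hζ'
      rw [Subgroup.coe_mul, Subgroup.coe_mul, Subgroup.coe_inv, hζ, Units.val_mul, Units.val_mul, xU_val hζ0,
        xU_val hζ'0, mul_add, mul_one, add_mul, Units.mul_inv, add_right_inj] at hc
      rw [← hc, mul_assoc _ _ ((g : (BM F κ m)ˣ) : BM F κ m), Units.inv_mul, mul_one]
    have h2 := congrFun (congrFun h1 k) l
    rw [mul_X_apply, X_mul_apply, if_neg hk] at h2
    exact (smul_eq_zero.1 h2).resolve_left hl
  have hyP : (⟨y, Subgroup.subset_closure (Or.inr rfl)⟩ : A) ∉ P := by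
    intro h1
    obtain ⟨ζ, hζ0, hζ⟩ := Subgroup.mem_subgroupOf.1 h1
    have e : y = xU ζ := hζ
    refine hl2.1 (C1_iff.2 ⟨Matrix.vecMulVec (Pi.single 0 1) ζ, ?_⟩)
    have := congrArg Units.val e
    rwa [hy, yU_val hψ, xU_val hζ0, add_right_inj] at this
  obtain ⟨p, hp⟩ := CharP.exists F
  haveI : Fact p.Prime := ⟨(CharP.char_is_prime_or_zero F p).resolve_right (CharP.char_ne_zero_of_finite F p)⟩
  haveI : Nontrivial (BM F κ m) := inferInstance
  haveI : CharP (BM F κ m) p := by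
    refine ⟨fun n => ?_⟩
    rw [← CharP.cast_eq_zero_iff F p n]
    constructor
    · intro h1
      have := congrFun (congrFun h1 0) 0
      rw [Matrix.natCast_apply, if_pos rfl, Matrix.zero_apply, ← map_natCast (algebraMap F (Matrix κ κ F)),
        ← map_zero (algebraMap F (Matrix κ κ F))] at this
      exact (algebraMap F (Matrix κ κ F)).injective this
    · intro h1
      ext i j : 1
      rw [Matrix.natCast_apply, Matrix.zero_apply, Nat.cast_ite, ← map_natCast (algebraMap F (Matrix κ κ F)) n, h1, map_zero, Nat.cast_zero, ite_self]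
  let ρ : A →* BM F κ m := (Units.coeHom _).comp A.subtype
  have htop := eq_top_of_sum_zero (p := p) ρ (Units.val_injective.comp Subtype.val_injective) P ?_ ?_ ?_ hTI ?_
  · exact hyP (htop ▸ Subgroup.mem_top _)
  · intro a
    obtain ⟨ζ, hζ0, hζ⟩ := Subgroup.mem_subgroupOf.1 a.2
    refine ⟨1, Subtype.ext (Subtype.ext ?_)⟩
    rw [pow_one, SubmonoidClass.coe_pow, SubmonoidClass.coe_pow, hζ, xU_pow hζ0,
      show p • ζ = 0 from funext fun l => by rw [Pi.smul_apply, nsmul_eq_mul, CharP.cast_eq_zero, zero_mul]; rfl]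
    exact Units.ext (by rw [xU_val rfl, X_zero, add_zero]; rfl)
  · intro a ha b hb
    obtain ⟨ζ, hζ0, hζ⟩ := Subgroup.mem_subgroupOf.1 ha
    obtain ⟨ξ, hξ0, hξ⟩ := Subgroup.mem_subgroupOf.1 hb
    refine Subtype.ext (Units.ext ?_)
    rw [Subgroup.coe_mul, Subgroup.coe_mul, hζ, hξ, Units.val_mul, Units.val_mul, xU_val hζ0, xU_val hξ0]
    simp only [mul_add, add_mul, mul_one, one_mul, X_mul_X hζ0, X_mul_X hξ0, add_zero]
    abel
  · intro x hx
    have hmem : (⟨xU ψ, hxA⟩ : A) ∈ P := Subgroup.mem_subgroupOf.2 ⟨ψ, hψ, rfl⟩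
    refine hTI x _ hmem (fun e => hψne (xU_injective (κ := κ) hψ rfl ?_)) ((Subgroup.mem_normalizer_iff.1 hx _).1 hmem)
    have := congrArg Subtype.val e
    simp only [Subgroup.coe_one] at this
    rw [this]
    exact Units.ext (by rw [xU_val rfl, X_zero, add_zero]; rfl)
  · -- the sum over the stabiliser
    let Q : AddSubgroup (Fin m → F) :=
      { carrier := {ζ | ζ 0 = 0 ∧ xU ζ ∈ A}
        zero_mem' := ⟨rfl, by
          rw [show (xU (0 : Fin m → F) : (BM F κ m)ˣ) = 1 from Units.ext (by rw [xU_val rfl, X_zero, add_zero]; rfl)]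
          exact A.one_mem⟩
        add_mem' := fun {a b} ha hb => ⟨by simp [ha.1, hb.1], by
          have := A.mul_mem ha.2 hb.2
          rwa [show (xU a * xU b : (BM F κ m)ˣ) = xU (a + b) from Units.ext (by
            rw [Units.val_mul, xU_val ha.1, xU_val hb.1, xU_val (by simp [ha.1, hb.1]), X_add, mul_add, mul_one,
              add_mul, one_mul, X_mul_X ha.1, add_zero, add_assoc])] at this⟩
        neg_mem' := fun {a} ha => ⟨by simp [ha.1], by
          have := A.inv_mem ha.2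
          rwa [show ((xU a)⁻¹ : (BM F κ m)ˣ) = xU (-a) from Units.ext (by
            rw [xU_inv_val ha.1, xU_val (by simp [ha.1]), X_neg, sub_eq_add_neg])] at this⟩ }
    haveI : Fintype Q := Fintype.ofFinite _
    have h3 : 3 ≤ Fintype.card Q := by
      by_cases h2 : Fintype.card F = 2
      · have hχA : xU χ ∈ A := Subgroup.subset_closure (Or.inl (Or.inr ⟨h2, rfl⟩))
        refine le_trans (le_of_eq ?_) (Finset.card_le_univ
          ({0, ⟨ψ, hψ, hxA⟩, ⟨χ, hχ, hχA⟩} : Finset Q))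
        rw [Finset.card_insert_of_notMem, Finset.card_pair]
        · intro e
          exact hχi 1 (by rw [one_smul]; exact (congrArg Subtype.val e).symm)
        · simp [Subtype.ext_iff, hψne.symm, hχne.symm]
      · refine le_trans (show 3 ≤ Fintype.card F by have := Fintype.one_lt_card (α := F); omega)
          (Fintype.card_le_of_injective (fun c : F => (⟨c • ψ, by simp [hψ],
            Subgroup.subset_closure (Or.inl (Or.inl ⟨c, rfl⟩))⟩ : Q)) fun c c' e => ?_)
        exact smul_left_injective F hψne (congrArg Subtype.val e)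
    have hsum := sum_addSubgroup_eq_zero (p := p) (fun x : Fin m → F => funext fun l => by
      rw [Pi.smul_apply, nsmul_eq_mul, CharP.cast_eq_zero, zero_mul]; rfl) Q h3
    let e : Q → P := fun ζ => ⟨⟨xU ζ.1, ζ.2.2⟩, Subgroup.mem_subgroupOf.2 ⟨ζ.1, ζ.2.1, rfl⟩⟩
    have hbij : Function.Bijective e := by
      constructor
      · intro a b h
        exact Subtype.ext (xU_injective (κ := κ) a.2.1 b.2.1 (congrArg (fun z : P => ((z : A) : (BM F κ m)ˣ)) h))
      · rintro ⟨⟨u, huA⟩, hu⟩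
        obtain ⟨ζ, hζ0, hζ⟩ := Subgroup.mem_subgroupOf.1 hu
        change u = xU ζ at hζ
        subst hζ
        exact ⟨⟨ζ, hζ0, huA⟩, rfl⟩
    rw [← Fintype.sum_bijective e hbij (fun ζ => ρ (e ζ : A)) (fun x : P => ρ (x : A)) (fun _ => rfl)]
    show ∑ ζ : Q, ((xU ζ.1 : (BM F κ m)ˣ) : BM F κ m) = 0
    rw [Finset.sum_congr rfl fun ζ _ => xU_val ζ.2.1, Finset.sum_add_distrib, Finset.sum_const, Finset.card_univ]
    have hXsum : ∑ ζ : Q, (X ζ.1 : BM F κ m) = X (∑ ζ : Q, ζ.1) :=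
      (map_sum (AddMonoidHom.mk' (fun z : Fin m → F => (X z : BM F κ m)) X_add) (fun ζ : Q => ζ.1) Finset.univ).symm
    rw [hXsum, hsum, X_zero, add_zero]
    have hdvd : p ∣ Fintype.card Q := by
      obtain ⟨a, ha⟩ := Fintype.exists_ne_of_one_lt_card (by omega : 1 < Fintype.card Q) 0
      have : addOrderOf a = p := addOrderOf_eq_prime (Subtype.ext (funext fun l => by
        simp [nsmul_eq_mul, CharP.cast_eq_zero])) ha
      rw [← this]
      exact addOrderOf_dvd_card
    obtain ⟨k, hk⟩ := hdvd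
    rw [hk, nsmul_eq_mul, mul_one, Nat.cast_mul, CharP.cast_eq_zero, zero_mul]

/-- The classification of conjugates of roots. -/
theorem C1_or_C2 (hm : 3 ≤ m) (hodd : m = 3 → Odd (Fintype.card κ)) (hM : Good M)
    {g : (BM F κ m)ˣ} (hg : g ∈ M) {φ : Fin m → F} (hφ : φ 0 = 0) (hφne : φ ≠ 0) :
    C1 (Bc g φ) ∨ C2 (Bc g φ) := by
  by_cases h0 : T (Bc g φ) φ = 0
  · exact C1_or_C2_of_T_zero hm hM hg hφ hφ hφne h0
  by_contra hne
  push Not at hne
  refine no_square_zero_family hm hM hg hφ hφ hφne h0 fun χ hχ => ?_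
  by_cases hC : C1 (Bc g χ)
  · by_cases hχ0 : χ = 0
    · subst hχ0
      simp [T, Bc, X_zero]
    · exact absurd (C1_of_kron (kron_of_C1 hm hM hg hχ0 hC) φ) hne.1
  · exact square_zero_of_nilpotent hm hM hg hχ hφ hφne (nilpotent_of_not_C1 hm hodd hM hg hχ hφ hφne hC)

end Cfsg.Agent.TensorWreath43
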