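import Cfsg.Agent.Lib.TensorWreath43Kron

/-!
Nilpotent blocks: swaps of the ruler factor do not occur among conjugates of roots.
-/

set_option autoImplicit false
set_option linter.unusedSectionVars false

namespace Cfsg.Agent.TensorWreath43

open scoped Matrix

variable {F : Type*} [Field F] {κ : Type} [Fintype κ] [DecidableEq κ] [Nonempty κ] {m : ℕ} [NeZero m]
variable {M : Subgroup (BM F κ m)ˣ}

/-- If the range of `A` lies in the range of `B`, then `A` is left divisible by `B`. -/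
theorem exists_factor {A B : Matrix κ κ F} (h : LinearMap.range A.mulVecLin ≤ LinearMap.range B.mulVecLin) :
    ∃ W, A = B * W := by
  choose w hw using fun j : κ => h ⟨Pi.single j 1, rfl⟩
  refine ⟨Matrix.of fun i j => w j i, ?_⟩
  ext i j
  have := congrFun (hw j) i
  simp only [Matrix.mulVecLin_apply, Matrix.mulVec_single, MulOpposite.op_one, one_smul] at this
  rw [Matrix.mul_apply, show A i j = A.col j i from rfl, ← this]
  rfl

/-- Two blocks dividing one another have the same range. -/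
theorem exists_factor_of_dvd {A B : Matrix κ κ F} (hA : ∃ U, A = U * B) (hB : ∃ Z, B = A * Z) : ∃ W, A = B * W := by
  obtain ⟨U, hU⟩ := hA
  obtain ⟨Z, hZ⟩ := hB
  refine exists_factor ?_
  have h1 : LinearMap.range B.mulVecLin ≤ LinearMap.range A.mulVecLin := by
    rw [hZ, Matrix.mulVecLin_mul]; exact LinearMap.range_comp_le_range _ _
  have h2 : Module.finrank F (LinearMap.range A.mulVecLin) ≤ Module.finrank F (LinearMap.range B.mulVecLin) := by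
    have := Matrix.rank_mul_le_right U B
    rw [← hU] at this
    exact this
  rw [Submodule.eq_of_le_of_finrank_le h1 h2]

theorem C2.smul {Z : BM F κ m} (h : C2 Z) (c : F) : C2 (c • Z) :=
  ⟨fun k l hkl => by rw [Matrix.smul_apply, h.1 k l hkl, smul_zero],
    fun k => by rw [Matrix.smul_apply, Matrix.smul_apply, h.2 k]⟩

theorem C2.add {Z Z' : BM F κ m} (h : C2 Z) (h' : C2 Z') : C2 (Z + Z') :=
  ⟨fun k l hkl => by rw [Matrix.add_apply, h.1 k l hkl, h'.1 k l hkl, add_zero],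
    fun k => by rw [Matrix.add_apply, Matrix.add_apply, h.2 k, h'.2 k]⟩

theorem C2.sub {Z Z' : BM F κ m} (h : C2 Z) (h' : C2 Z') : C2 (Z - Z') :=
  ⟨fun k l hkl => by rw [Matrix.sub_apply, h.1 k l hkl, h'.1 k l hkl, sub_zero],
    fun k => by rw [Matrix.sub_apply, Matrix.sub_apply, h.2 k, h'.2 k]⟩

theorem C2.eq_zero {Z : BM F κ m} (h : C2 Z) (h0 : Z 0 0 = 0) : Z = 0 := by
  ext k l : 1
  by_cases hkl : k = l
  · subst hkl; rw [h.2 k, h0]; rfl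
  · rw [h.1 k l hkl]; rfl

theorem X_not_C2 {ψ : Fin m → F} (hψ : ψ 0 = 0) (hψne : ψ ≠ 0) : ¬ C2 (X ψ : BM F κ m) := by
  intro h
  refine X_ne_zero (κ := κ) hψne (h.eq_zero ?_)
  rw [X_apply, if_pos rfl, hψ, zero_smul]

/-- A square-zero nonzero block `T` gives a diagonal conjugate of the root. -/
theorem swap_diag (hm : 3 ≤ m) (hM : Good M) {g : (BM F κ m)ˣ} (hg : g ∈ M) {φ ψ : Fin m → F} (hφ : φ 0 = 0)
    (hψ : ψ 0 = 0) (hψne : ψ ≠ 0) (hT0 : T (Bc g φ) ψ ≠ 0) (hT2 : T (Bc g φ) ψ * T (Bc g φ) ψ = 0) :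
    C2 (Bc (yU g φ) ψ) := by
  rcases C1_or_C2_of_T_zero hm hM (yU_mem hM hg φ) hψ hψ hψne (by rw [T_yU hφ hψ hψ, hT2, neg_zero]) with h | h
  · exfalso
    rcases C1_or_C2_of_conj_C1 hm hM hg hφ hψne h with h' | h'
    · exact hT0 (sq_eq_zero_scalar (C1_T h' ψ) hT2)
    · exact hT0 (C2_T h' hψ)
  · exact h

/-- The column blocks of a swap. -/
theorem swap_col {g : (BM F κ m)ˣ} {φ ψ : Fin m → F} (hφ : φ 0 = 0) (hψ : ψ 0 = 0) (hψne : ψ ≠ 0)
    (h : C2 (Bc (yU g φ) ψ)) {k : Fin m} (hk : k ≠ 0) :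
    Bc g φ k 0 * T (Bc g φ) ψ = 0 ∧ ∃ W, Bc g φ k 0 = T (Bc g φ) ψ * W := by
  set y := yU g φ with hy
  set N := Bc y ψ 0 0 with hN
  have hyk : ∀ k, k ≠ 0 → (y : BM F κ m) k 0 = Bc g φ k 0 := fun k hk => by
    rw [hy, yU_val hφ, Matrix.add_apply, Matrix.one_apply_ne hk, zero_add]
  have hzero : ∀ k, k ≠ 0 → Bc g φ k 0 * T (Bc g φ) ψ = 0 := fun k hk => by
    have := h.1 k 0 hk
    rwa [hy, Bc_yU_col_ne hφ hψ g hk, neg_eq_zero] at this
  obtain ⟨j, hj⟩ := Function.ne_iff.1 hψne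
  have hdiv : ∀ k, k ≠ 0 → Bc g φ k 0 = N * ((ψ j)⁻¹ • (y : BM F κ m) k j) := fun k hk => by
    have e : Bc g φ k 0 * (ψ j • (1 : Matrix κ κ F)) = N * (y : BM F κ m) k j := by
      rw [← vrow_mul y ψ j, Finset.mul_sum, Finset.sum_eq_single k (fun l _ hl => by
        rw [← mul_assoc, ← hyk k hk, ← Bc_apply, h.1 k l (Ne.symm hl), zero_mul]) (by simp),
        ← mul_assoc, ← hyk k hk, ← Bc_apply, h.2 k]
    rw [Matrix.mul_smul, ← e, Matrix.mul_smul, mul_one, smul_smul, inv_mul_cancel₀ hj, one_smul]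
  obtain ⟨W, hW⟩ := exists_factor_of_dvd (A := N) (B := T (Bc g φ) ψ)
    ⟨-((1 : BM F κ m) 0 0 + Bc g φ 0 0), by rw [hN, hy, Bc_yU_col hφ hψ, neg_mul]⟩
    ⟨∑ k, if k = 0 then 0 else ψ k • ((ψ j)⁻¹ • (y : BM F κ m) k j), by
      rw [T, Finset.mul_sum]
      refine Finset.sum_congr rfl fun k _ => ?_
      split_ifs with hk
      · subst hk; rw [hψ, zero_smul, mul_zero]
      · rw [hdiv k hk]; simp only [Matrix.mul_smul]⟩
  exact ⟨hzero k hk, W * ((ψ j)⁻¹ • (y : BM F κ m) k j), by rw [← mul_assoc, ← hW, ← hdiv k hk]⟩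

/-- All blocks of a swap square to zero. -/
theorem swap_T {g : (BM F κ m)ˣ} {φ ψ χ : Fin m → F} (hφ : φ 0 = 0) (hψ : ψ 0 = 0) (hψne : ψ ≠ 0) (hχ : χ 0 = 0)
    (h : C2 (Bc (yU g φ) ψ)) :
    T (Bc g φ) χ * T (Bc g φ) χ = 0 ∧ ∃ W, T (Bc g φ) χ = T (Bc g φ) ψ * W := by
  have h1 : T (Bc g φ) χ * T (Bc g φ) ψ = 0 := by
    conv_lhs => arg 1; rw [T]
    rw [Finset.sum_mul]
    refine Finset.sum_eq_zero fun k _ => ?_
    by_cases hk : k = 0
    · subst hk; rw [hχ, zero_smul, zero_mul]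
    · rw [Matrix.smul_mul, (swap_col hφ hψ hψne h hk).1, smul_zero]
  have h2 : ∀ k, ∃ W, χ k • Bc g φ k 0 = T (Bc g φ) ψ * W := fun k => by
    by_cases hk : k = 0
    · subst hk; exact ⟨0, by rw [hχ, zero_smul, mul_zero]⟩
    · obtain ⟨W, hW⟩ := (swap_col hφ hψ hψne h hk).2
      exact ⟨χ k • W, by rw [Matrix.mul_smul, ← hW]⟩
  choose W hW using h2
  have h3 : T (Bc g φ) χ = T (Bc g φ) ψ * ∑ k, W k := by
    conv_lhs => rw [T]
    rw [Finset.mul_sum]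
    exact Finset.sum_congr rfl fun k _ => hW k
  refine ⟨?_, _, h3⟩
  conv_lhs => arg 2; rw [h3]
  rw [← mul_assoc, h1, zero_mul]

/-- Three commuting swaps do not exist. -/
theorem not_three_swaps (hm : 3 ≤ m) {g : (BM F κ m)ˣ} {φ₁ φ₂ ψ : Fin m → F} (h1 : φ₁ 0 = 0) (h2 : φ₂ 0 = 0)
    (hψ : ψ 0 = 0) (hψne : ψ ≠ 0) (hN1 : C2 (Bc (yU g φ₁) ψ)) (hN2 : C2 (Bc (yU g φ₂) ψ))
    (hN3 : C2 (Bc (yU g (φ₁ + φ₂)) ψ)) : False := by
  classical
  have h3 : (φ₁ + φ₂) 0 = 0 := by simp [h1, h2]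
  set B₁ := Bc g φ₁ with hB1
  set B₂ := Bc g φ₂ with hB2
  set Z : BM F κ m := X ψ with hZ
  have eN : ∀ φ : Fin m → F, φ 0 = 0 → Bc (yU g φ) ψ = Z + Bc g φ * Z - Z * Bc g φ - Bc g φ * Z * Bc g φ := by
    intro φ hφ
    rw [show Bc (yU g φ) ψ = (1 + Bc g φ) * Z * (1 - Bc g φ) by rw [Bc, yU_inv_val hφ, yU_val hφ]]
    noncomm_ring
  set S := Bc (yU g φ₁) ψ + Bc (yU g φ₂) ψ - Bc (yU g (φ₁ + φ₂)) ψ
  have hS : C2 S := (hN1.add hN2).sub hN3
  have hΩ : S - Z = B₁ * Z * B₂ + B₂ * Z * B₁ := by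
    simp only [S, eN _ h1, eN _ h2, eN _ h3, Bc_add]
    noncomm_ring
  set A : BM F κ m := X φ₁ * (((g⁻¹ : (BM F κ m)ˣ) : BM F κ m) * Z * B₂) +
    X φ₂ * (((g⁻¹ : (BM F κ m)ˣ) : BM F κ m) * Z * B₁)
  have hA : ∀ i, i ≠ 0 → ∀ l, A i l = 0 := fun i hi l => by
    simp only [A, Matrix.add_apply, X_mul_apply, if_neg hi, add_zero]
  have hfac : S - Z = (g : BM F κ m) * A := by
    rw [hΩ]
    simp only [B₁, B₂, Bc, A, mul_add, mul_assoc]
  have hent : ∀ k l, S k l - Z k l = (g : BM F κ m) k 0 * A 0 l := fun k l => by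
    rw [← Matrix.sub_apply, hfac, mul_rowZero_apply _ _ hA]
  obtain ⟨l, hl⟩ := Function.ne_iff.1 hψne
  have hl0 : l ≠ 0 := fun e => hl (e ▸ hψ)
  obtain ⟨k, hk0, hkl⟩ : ∃ k : Fin m, k ≠ 0 ∧ k ≠ l := by
    obtain ⟨k, hk⟩ := (({0, l} : Finset (Fin m))ᶜ).card_pos.1 (by
      rw [Finset.card_compl, Fintype.card_fin]
      have := Finset.card_le_two (a := (0 : Fin m)) (b := l)
      omega)
    exact ⟨k, by simpa using hk⟩
  have e0l : (g : BM F κ m) 0 0 * A 0 l = (-ψ l) • (1 : Matrix κ κ F) := by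
    rw [← hent, hS.1 0 l (Ne.symm hl0), hZ, X_apply, if_pos rfl, zero_sub, neg_smul]
  obtain ⟨a, ha⟩ := (isUnit_of_mul_eq_smul (neg_ne_zero.2 hl) e0l).2
  have ekl : (g : BM F κ m) k 0 * A 0 l = 0 := by
    rw [← hent, hS.1 k l hkl, hZ, X_apply, if_neg hk0, sub_zero]
  have hgk : (g : BM F κ m) k 0 = 0 := by
    rw [← mul_one ((g : BM F κ m) k 0), ← Units.mul_inv a, ← mul_assoc, ha, ekl, zero_mul]
  have hS0 : S = 0 := hS.eq_zero (by
    have := hent k k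
    rwa [hgk, zero_mul, hZ, X_apply, if_neg hk0, sub_zero, hS.2 k] at this)
  have hZ1 : Z = -(B₁ * Z * B₂ + B₂ * Z * B₁) := by rw [← hΩ, hS0, zero_sub, neg_neg]
  have hBB : B₁ * B₂ = 0 := Bc_mul_Bc h1 g φ₂
  have hBB' : B₂ * B₁ = 0 := Bc_mul_Bc h2 g φ₁
  have hsq : B₁ * B₁ = 0 := Bc_mul_Bc h1 g φ₁
  have hl' : B₁ * Z = 0 := by
    rw [hZ1, mul_neg, mul_add]; simp only [← mul_assoc, hsq, hBB, zero_mul, add_zero, neg_zero]
  have hr' : Z * B₁ = 0 := by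
    rw [hZ1, neg_mul, add_mul]; simp only [mul_assoc, hsq, hBB', mul_zero, add_zero, neg_zero]
  refine X_not_C2 (κ := κ) hψ hψne ?_
  have := hN1
  rwa [eN _ h1, ← hB1, hl', hr', zero_mul, add_zero, sub_zero, sub_zero] at this

/-- A family containing a diagonal member has no swap. -/
theorem not_C2_member {g : (BM F κ m)ˣ} {φ₁ φ ψ : Fin m → F} (h1 : φ₁ 0 = 0) (h1ne : φ₁ ≠ 0) (hφ : φ 0 = 0)
    (hψ : ψ 0 = 0) (hψne : ψ ≠ 0) (hC : C2 (Bc g φ₁)) (hN : C2 (Bc (yU g φ) ψ)) : False := by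
  classical
  set N := Bc g φ₁ 0 0 with hNdef
  have hNN : N * N = 0 := by
    have := congrFun (congrFun (Bc_mul_Bc h1 g φ₁) 0) 0
    rwa [Matrix.mul_apply, Finset.sum_eq_single (0 : Fin m) (fun i _ hi => by rw [hC.1 0 i hi.symm, zero_mul])
      (by simp), Matrix.zero_apply] at this
  obtain ⟨j, hj⟩ := Function.ne_iff.1 h1ne
  have hu : ∀ k, (g : BM F κ m) k 0 = N * ((φ₁ j)⁻¹ • (g : BM F κ m) k j) := fun k => by
    have e : (g : BM F κ m) k 0 * (φ₁ j • (1 : Matrix κ κ F)) = N * (g : BM F κ m) k j := by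
      rw [← vrow_mul g φ₁ j, Finset.mul_sum, Finset.sum_eq_single k (fun l _ hl => by
        rw [← mul_assoc, ← Bc_apply, hC.1 k l (Ne.symm hl), zero_mul]) (by simp),
        ← mul_assoc, ← Bc_apply, hC.2 k]
    rw [Matrix.mul_smul, ← e, Matrix.mul_smul, mul_one, smul_smul, inv_mul_cancel₀ hj, one_smul]
  have hP : ∀ k l, ∃ Z, Bc g φ k l = N * Z := fun k l =>
    ⟨((φ₁ j)⁻¹ • (g : BM F κ m) k j) * vrow g φ l, by rw [Bc_apply, ← mul_assoc, ← hu]⟩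
  choose Z hZ using hP
  obtain ⟨l, hl⟩ := Function.ne_iff.1 hψne
  have hl0 : l ≠ 0 := fun e => hl (e ▸ hψ)
  have hv : vrow (yU g φ) ψ l = ψ l • (1 : Matrix κ κ F) - N * ∑ i, ψ i • Z i l := by
    rw [vrow, yU_inv_val hφ, Finset.mul_sum]
    simp only [Matrix.sub_apply, hZ, smul_sub, Finset.sum_sub_distrib, Matrix.mul_smul]
    congr 1
    rw [Finset.sum_eq_single l (fun i _ hi => by rw [Matrix.one_apply_ne hi, smul_zero]) (by simp), Matrix.one_apply_eq]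
  have h0 := hN.1 0 l (Ne.symm hl0)
  rw [Bc_apply, yU_val hφ, Matrix.add_apply, Matrix.one_apply_eq, hv, hZ, add_mul, one_mul] at h0
  have h2 : N * (∑ i, ψ i • Z i l - Z 0 0 * (ψ l • (1 : Matrix κ κ F) - N * ∑ i, ψ i • Z i l)) = ψ l • (1 : Matrix κ κ F) := by
    rw [mul_sub, ← mul_assoc, ← sub_eq_zero]
    linear_combination (norm := abel) -h0
  obtain ⟨a, ha⟩ := (isUnit_of_mul_eq_smul hl h2).1
  rw [← ha, ← Units.val_mul] at hNN
  exact (a * a).ne_zero hNN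

theorem exists_indep (hm : 3 ≤ m) {φ : Fin m → F} (hφ : φ 0 = 0) :
    ∃ χ : Fin m → F, χ 0 = 0 ∧ χ ≠ 0 ∧ φ + χ ≠ 0 ∧ ∀ a : F, χ ≠ a • φ := by
  classical
  let i1 : Fin m := ⟨1, by omega⟩
  let i2 : Fin m := ⟨2, by omega⟩
  have e1 : i1 ≠ 0 := by simp [i1, Fin.ext_iff]
  have e2 : i2 ≠ 0 := by simp [i2, Fin.ext_iff]
  have e12 : i1 ≠ i2 := by simp [i1, i2, Fin.ext_iff]
  suffices h : ∃ χ : Fin m → F, χ 0 = 0 ∧ ∀ a : F, χ ≠ a • φ by
    obtain ⟨χ, h0, ha⟩ := h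
    exact ⟨χ, h0, fun e => ha 0 (by rw [e, zero_smul]),
      fun e => ha (-1) (by rw [neg_one_smul]; exact eq_neg_of_add_eq_zero_right e), ha⟩
  by_cases h : φ i1 = 0
  · exact ⟨Pi.single i1 1, by simp [e1.symm], fun a e => by simpa [h] using congrFun e i1⟩
  · refine ⟨Pi.single i2 1, by simp [e2.symm], fun a e => ?_⟩
    have := congrFun e i1
    simp [e12, h] at this
    simpa [this] using congrFun e i2

/-- A family with square-zero blocks, one nonzero, is impossible. -/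
theorem no_square_zero_family (hm : 3 ≤ m) (hM : Good M) {g : (BM F κ m)ˣ} (hg : g ∈ M) {φ ψ : Fin m → F}
    (hφ : φ 0 = 0) (hψ : ψ 0 = 0) (hψne : ψ ≠ 0) (hT0 : T (Bc g φ) ψ ≠ 0)
    (hall : ∀ χ : Fin m → F, χ 0 = 0 → T (Bc g χ) ψ * T (Bc g χ) ψ = 0) : False := by
  have hswap := swap_diag hm hM hg hφ hψ hψne hT0 (hall φ hφ)
  have hmem : ∀ χ : Fin m → F, χ 0 = 0 → χ ≠ 0 → C2 (Bc (yU g χ) ψ) := by
    intro χ hχ hχne
    by_cases h : T (Bc g χ) ψ = 0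
    · exfalso
      rcases C1_or_C2_of_T_zero hm hM hg hχ hψ hψne h with h' | h'
      · exact hT0 (sq_eq_zero_scalar (C1_T (C1_of_kron (kron_of_C1 hm hM hg hχne h') φ) ψ) (hall φ hφ))
      · exact not_C2_member hχ hχne hφ hψ hψne h' hswap
    · exact swap_diag hm hM hg hχ hψ hψne h (hall χ hχ)
  obtain ⟨χ, hχ, hχne, hsum, -⟩ := exists_indep hm hφ
  exact not_three_swaps hm hφ hχ hψ hψne hswap (hmem χ hχ hχne) (hmem _ (by simp [hφ, hχ]) hsum)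

/-- A block with nonzero square and zero fourth power is impossible. -/
theorem square_zero_of_fourth (hm : 3 ≤ m) (hM : Good M) {g : (BM F κ m)ˣ} (hg : g ∈ M) {φ ψ : Fin m → F}
    (hφ : φ 0 = 0) (hψ : ψ 0 = 0) (hψne : ψ ≠ 0)
    (h4 : T (Bc g φ) ψ * T (Bc g φ) ψ * (T (Bc g φ) ψ * T (Bc g φ) ψ) = 0) :
    T (Bc g φ) ψ * T (Bc g φ) ψ = 0 := by
  -- the case of a vanishing cube
  have key : ∀ (g : (BM F κ m)ˣ), g ∈ M → ∀ φ : Fin m → F, φ 0 = 0 →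
      T (Bc g φ) ψ * T (Bc g φ) ψ * T (Bc g φ) ψ = 0 → T (Bc g φ) ψ * T (Bc g φ) ψ = 0 := by
    intro g hg φ hφ h3
    by_contra h2
    set t := T (Bc g φ) ψ with ht
    have hy := yU_mem hM hg φ
    have e1 : T (Bc (yU g φ) ψ) ψ = - (t * t) := T_yU hφ hψ hψ g
    have hs : C2 (Bc (yU (yU g φ) ψ) ψ) := swap_diag hm hM hy hψ hψ hψne (by rw [e1]; simpa using h2)
      (by rw [e1, neg_mul_neg, ← mul_assoc, h3, zero_mul])
    refine no_square_zero_family hm hM hy hψ hψ hψne (by rw [e1]; simpa using h2) fun χ hχ => ?_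
    obtain ⟨-, W, hW⟩ := swap_T hψ hψ hψne hχ hs
    rw [e1, T_yU hφ hψ hχ, neg_mul, neg_inj] at hW
    rw [T_yU hφ hχ hψ, neg_mul_neg, ← ht,
      show t * T (Bc g φ) χ * (t * T (Bc g φ) χ) = t * (T (Bc g φ) χ * t) * T (Bc g φ) χ by simp only [mul_assoc],
      hW, show t * (t * t * W) = t * t * t * W by simp only [mul_assoc], h3, zero_mul, zero_mul]
  by_contra h2
  set t := T (Bc g φ) ψ with ht
  have hy := yU_mem hM hg φ
  have e1 : T (Bc (yU g φ) ψ) ψ = - (t * t) := T_yU hφ hψ hψ g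
  have hs : C2 (Bc (yU (yU g φ) ψ) ψ) := swap_diag hm hM hy hψ hψ hψne (by rw [e1]; simpa using h2)
    (by rw [e1, neg_mul_neg, h4])
  refine no_square_zero_family hm hM hy hψ hψ hψne (by rw [e1]; simpa using h2) fun χ hχ => ?_
  refine key (yU g φ) hy χ hχ ?_
  obtain ⟨hz, -⟩ := swap_T hψ hψ hψne hχ hs
  rw [T_yU hφ hψ hχ, ← ht, neg_mul_neg] at hz
  rw [T_yU hφ hχ hψ, ← ht, neg_mul_neg, mul_neg, neg_eq_zero,
    show t * T (Bc g φ) χ * (t * T (Bc g φ) χ) * (t * T (Bc g φ) χ) =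
      t * (T (Bc g φ) χ * t * (T (Bc g φ) χ * t)) * T (Bc g φ) χ by simp only [mul_assoc],
    hz, mul_zero, zero_mul]

/-- Nilpotent blocks square to zero. -/
theorem square_zero_of_nilpotent (hm : 3 ≤ m) (hM : Good M) {g : (BM F κ m)ˣ} (hg : g ∈ M) {φ ψ : Fin m → F}
    (hφ : φ 0 = 0) (hψ : ψ 0 = 0) (hψne : ψ ≠ 0) (h : IsNilpotent (T (Bc g φ) ψ)) :
    T (Bc g φ) ψ * T (Bc g φ) ψ = 0 := by
  obtain ⟨n, hn⟩ := h
  have main : ∀ j, ∀ (g : (BM F κ m)ˣ), g ∈ M → ∀ φ : Fin m → F, φ 0 = 0 →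
      T (Bc g φ) ψ ^ 2 ^ (j + 1) = 0 → T (Bc g φ) ψ * T (Bc g φ) ψ = 0 := by
    intro j
    induction j with
    | zero => intro g _ φ _ h; rwa [zero_add, pow_one, pow_two] at h
    | succ j ih =>
      intro g hg φ hφ h
      refine square_zero_of_fourth hm hM hg hφ hψ hψne ?_
      have e1 : T (Bc (yU g φ) ψ) ψ = - (T (Bc g φ) ψ * T (Bc g φ) ψ) := T_yU hφ hψ hψ g
      have := ih (yU g φ) (yU_mem hM hg φ) ψ hψ (by
        rw [e1, neg_pow, ← pow_two, ← pow_mul, show 2 * 2 ^ (j + 1) = 2 ^ (j + 1 + 1) by ring, h, mul_zero])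
      rwa [e1, neg_mul_neg] at this
  exact main n g hg φ hφ (pow_eq_zero_of_le (Nat.lt_two_pow_self.le.trans (Nat.pow_le_pow_right two_pos n.le_succ)) hn)

end Cfsg.Agent.TensorWreath43
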