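import Cfsg.Agent.Lib.TensorWreath43Local
import Cfsg.Agent.Lib.OmegaGeo
import Cfsg.Agent.Lib.OmegaMaxGlue
import Cfsg.Agent.Lib.OrthUnitarySimple

/-!
The Siegel elements along the lines of pure tensors differing at one position generate the commutator group of a
quadratic form on the tensor power that vanishes on pure tensors.
-/

set_option autoImplicit false
set_option linter.unusedSectionVars false

namespace Cfsg.Agent.TensorWreath43

open scoped Matrix
open QuadraticMap
open Cfsg.Agent.OrthUnitaryQuad Cfsg.Agent.OrthUnitarySimple Cfsg.Agent.OmegaGeo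

variable {F : Type*} [Field F] {t m : ℕ}

section Siegel

variable {ι : Type} [Fintype ι] [DecidableEq ι] {q : QuadraticForm F (ι → F)} {M : Subgroup (GL ι F)}

/-- A Siegel element lies in `M`. -/
def SieIn (q : QuadraticForm F (ι → F)) (M : Subgroup (GL ι F)) (U X : ι → F) : Prop :=
  ∃ (hu : q U = 0) (hX : polar q U X = 0), toGL q (siegel q U X hu hX) ∈ M

theorem SieIn.zero {U : ι → F} (hu : q U = 0) : SieIn q M U 0 := by
  refine ⟨hu, by simp, ?_⟩
  rw [← OmegaMaxGlue.glHom_apply, siegel_eq_one hu _ (a := 0) (zero_smul F U).symm, map_one]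
  exact M.one_mem

theorem SieIn.add {U X X' : ι → F} (h : SieIn q M U X) (h' : SieIn q M U X') : SieIn q M U (X + X') := by
  obtain ⟨hu, hX, hm⟩ := h
  obtain ⟨_, hX', hm'⟩ := h'
  refine ⟨hu, by rw [polar_add_right, hX, hX', add_zero], ?_⟩
  rw [← OmegaMaxGlue.glHom_apply, ← OrthUnitaryRefl.siegel_mul hu hX hX', map_mul]
  exact M.mul_mem hm hm'

theorem SieIn.neg {U X : ι → F} (h : SieIn q M U X) : SieIn q M U (-X) := by
  obtain ⟨hu, hX, hm⟩ := h
  have hX' : polar q U (-X) = 0 := by rw [polar_neg_right, hX, neg_zero]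
  refine ⟨hu, hX', ?_⟩
  have e : siegel q U X hu hX * siegel q U (-X) hu hX' = 1 := by
    rw [OrthUnitaryRefl.siegel_mul hu hX hX']
    exact siegel_eq_one hu _ (a := 0) (by rw [add_neg_cancel, zero_smul])
  rw [← OmegaMaxGlue.glHom_apply, eq_inv_of_mul_eq_one_right e, map_inv]
  exact M.inv_mem hm

theorem SieIn.conj {U X : ι → F} (h : SieIn q M U X) (g : orth q) (hg : toGL q g ∈ M) :
    SieIn q M (g.1 U) (g.1 X) := by
  obtain ⟨hu, hX, hm⟩ := h
  refine ⟨by rw [map_orth g, hu], by rw [polar_orth g, hX], ?_⟩
  rw [← OmegaMaxGlue.glHom_apply, ← conj_siegel g U X hu hX, map_mul, map_mul, map_inv]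
  exact M.mul_mem (M.mul_mem hg hm) (M.inv_mem hg)

/-- Two Siegel elements with one pairing give a third one. -/
theorem SieIn.comm {U X U' X' : ι → F} (h : SieIn q M U X) (h' : SieIn q M U' X') (hX'0 : q X' = 0)
    (h1 : polar q U' U = 0) (h2 : polar q X' U = 0) (h3 : polar q X' X = 0) (h4 : polar q U' X = 1) :
    SieIn q M U X' := by
  obtain ⟨hu', hX', hm'⟩ := h'
  have h5 := h.conj (siegel q U' X' hu' hX') hm'
  rw [siegel_apply, siegel_apply, h1, h2, h3, h4, hX'0] at h5
  simp only [zero_smul, one_smul, mul_zero, zero_mul, add_zero, sub_zero] at h5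
  simpa using h5.add h.neg

end Siegel

theorem pureV_update_add (u : Fin t → Fin m → F) (i : Fin t) (x y : Fin m → F) :
    pureV (Function.update u i (x + y)) = pureV (Function.update u i x) + pureV (Function.update u i y) := by
  funext a
  simp only [pureV, Pi.add_apply]
  rw [← Finset.mul_prod_erase _ _ (Finset.mem_univ i),
    ← Finset.mul_prod_erase _ (fun l => Function.update u i x l (a l)) (Finset.mem_univ i),
    ← Finset.mul_prod_erase _ (fun l => Function.update u i y l (a l)) (Finset.mem_univ i)]
  simp only [Function.update_self, Pi.add_apply, add_mul]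
  congr 1 <;> congr 1 <;> refine Finset.prod_congr rfl fun l hl => ?_ <;>
    simp [Function.update_of_ne (Finset.ne_of_mem_erase hl)]

theorem pureV_update_smul (u : Fin t → Fin m → F) (i : Fin t) (c : F) (x : Fin m → F) :
    pureV (Function.update u i (c • x)) = c • pureV (Function.update u i x) := by
  funext a
  simp only [pureV, Pi.smul_apply, smul_eq_mul]
  rw [← Finset.mul_prod_erase _ _ (Finset.mem_univ i),
    ← Finset.mul_prod_erase _ (fun l => Function.update u i x l (a l)) (Finset.mem_univ i)]
  simp only [Function.update_self, Pi.smul_apply, smul_eq_mul, mul_assoc]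
  congr 2
  exact Finset.prod_congr rfl fun l hl => by simp [Function.update_of_ne (Finset.ne_of_mem_erase hl)]

theorem pureV_eq_zero {u : Fin t → Fin m → F} {i : Fin t} (h : u i = 0) : pureV u = 0 :=
  funext fun a => Finset.prod_eq_zero (Finset.mem_univ i) (by rw [h]; rfl)

theorem SG.exists_perp_indep {G : Matrix (Fin m) (Fin m) F} (hm : 3 ≤ m) (u : Fin m → F) :
    ∃ o, fG G u o = 0 ∧ ∀ s : F, o ≠ s • u := by
  let L : (Fin m → F) →ₗ[F] F :=
    { toFun := fG G u
      map_add' := fG_add_right u
      map_smul' := fun c x => fG_smul_right c u x }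
  by_contra! hno
  have hle : LinearMap.ker L ≤ Submodule.span F {u} := fun o ho => by
    obtain ⟨s, rfl⟩ := hno o ho
    exact Submodule.mem_span_singleton.2 ⟨s, rfl⟩
  have h1 := Submodule.finrank_mono hle
  have h2 := LinearMap.finrank_range_add_finrank_ker L
  have h3 := Submodule.finrank_le (LinearMap.range L)
  have h4 : Module.finrank F (Submodule.span F ({u} : Set (Fin m → F))) ≤ 1 :=
    (finrank_span_le_card _).trans (by simp)
  rw [Module.finrank_fin_fun] at h2
  rw [Module.finrank_self] at h3
  omega

section End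

variable [Fintype F] [NeZero m] {G : Matrix (Fin m) (Fin m) F} {M : Subgroup (GL (TI t m) F)}
  {q : QuadraticForm F (TI t m → F)}

/-- The pure tensor and all Siegel elements at it. -/
def WSub (hu : ∀ u : Fin t → Fin m → F, q (pureV u) = 0) (M : Subgroup (GL (TI t m) F))
    (u : Fin t → Fin m → F) : Submodule F (TI t m → F) where
  carrier := {Y | ∀ s : F, SieIn q M (pureV u) (s • Y)}
  zero_mem' := fun s => by rw [smul_zero]; exact SieIn.zero (hu u)
  add_mem' := fun hY hY' s => by rw [smul_add]; exact (hY s).add (hY' s)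
  smul_mem' := fun r Y hY s => by rw [smul_smul]; exact hY _

variable (hG : SG G) (hpol : ∀ x y, polar q x y = fT G x y) (hpure : ∀ u : Fin t → Fin m → F, q (pureV u) = 0)
include hG hpol hpure

theorem polar_pureV (u w : Fin t → Fin m → F) : polar q (pureV u) (pureV w) = ∏ i, fG G (u i) (w i) := by
  rw [hpol, fT_pureV]

omit hpol hpure in
theorem fG_symm_ne {x y : Fin m → F} (h : fG G x y ≠ 0) : fG G y x ≠ 0 := fun e => h (hG.swap_zero e)

theorem wsub_comm {u c B D : Fin t → Fin m → F} (hB : pureV B ∈ WSub hpure M u) (hC : pureV c ∈ WSub hpure M D)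
    {i l o : Fin t} (h1 : fG G (D i) (u i) = 0) (h2 : fG G (c l) (B l) = 0) (h3 : fG G (c o) (u o) = 0)
    (h4 : ∀ r, fG G (D r) (B r) ≠ 0) : pureV c ∈ WSub hpure M u := by
  intro s
  have hne : polar q (pureV D) (pureV B) ≠ 0 := by
    rw [polar_pureV hG hpol hpure]; exact Finset.prod_ne_zero_iff.2 fun r _ => h4 r
  refine SieIn.comm (U' := pureV D) (X := (polar q (pureV D) (pureV B))⁻¹ • pureV B) (hB _) (hC s) ?_ ?_ ?_ ?_ ?_
  · rw [QuadraticMap.map_smul, hpure, smul_zero]
  · rw [polar_pureV hG hpol hpure]; exact Finset.prod_eq_zero (Finset.mem_univ i) h1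
  · rw [polar_smul_left, polar_pureV hG hpol hpure, Finset.prod_eq_zero (Finset.mem_univ o) h3, smul_zero]
  · rw [polar_smul_left, polar_smul_right, polar_pureV hG hpol hpure c B, Finset.prod_eq_zero (Finset.mem_univ l) h2,
      smul_zero, smul_zero]
  · rw [polar_smul_right, smul_eq_mul, inv_mul_cancel₀ hne]

variable (ht : 2 ≤ t) (hline : ∀ (u : Fin t → Fin m → F) (i : Fin t) (x : Fin m → F),
  pureV (Function.update u i x) ∈ WSub hpure M u)
include ht hline

theorem wsub_line {c : Fin t → Fin m → F} (i : Fin t) (d : Fin m → F) :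
    pureV c ∈ WSub hpure M (Function.update c i d) := by
  have := hline (Function.update c i d) i (c i)
  rwa [Function.update_idem, Function.update_eq_self] at this

open Classical in
/-- At least two orthogonal positions. -/
theorem wsub_two (n : ℕ) : ∀ (u c : Fin t → Fin m → F), (∀ i, u i ≠ 0) →
    2 ≤ (Finset.univ.filter fun i => fG G (u i) (c i) = 0).card →
    (Finset.univ.filter fun i => fG G (u i) (c i) = 0).card ≤ n → pureV c ∈ WSub hpure M u := by
  induction n with
  | zero => intro u c _ h2 hn; omega
  | succ n ih =>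
    intro u c hu h2 hn
    by_cases hz : ∃ i, c i = 0
    · obtain ⟨i, hi⟩ := hz
      rw [pureV_eq_zero hi]; exact Submodule.zero_mem _
    push Not at hz
    set O := Finset.univ.filter fun i => fG G (u i) (c i) = 0 with hO
    have hOi : ∀ i, i ∈ O ↔ fG G (u i) (c i) = 0 := fun i => by simp [hO]
    obtain ⟨i, hi, l, hl, hil⟩ := Finset.one_lt_card.1 (show 1 < O.card by omega)
    by_cases h3 : 3 ≤ O.card
    · obtain ⟨u', hu'⟩ := hG.exists_left (hu l)
      have hu'' : fG G (u l) u' ≠ 0 := fG_symm_ne hG (by rw [hu']; exact one_ne_zero)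
      have hmem : ∀ x, fG G (u l) x ≠ 0 → pureV (Function.update c l x) ∈ WSub hpure M u := by
        intro x hx
        have hsub : (Finset.univ.filter fun r => fG G (u r) (Function.update c l x r) = 0) = O.erase l := by
          ext r
          by_cases hr : r = l
          · subst hr; simp [hx]
          · simp [hO, hr]
        refine ih u _ hu ?_ ?_ <;> rw [hsub, Finset.card_erase_of_mem hl] <;> omega
      have := (WSub hpure M u).sub_mem (hmem (c l + u') (by rw [fG_add_right, (hOi l).1 hl, zero_add]; exact hu''))
        (hmem u' hu'')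
      rwa [pureV_update_add, Function.update_eq_self, add_sub_cancel_right] at this
    have hO2 : ∀ r, r ≠ i → r ≠ l → fG G (u r) (c r) ≠ 0 := fun r hri hrl e => by
      have : ({i, l, r} : Finset (Fin t)) ⊆ O := by
        simp [Finset.insert_subset_iff, hi, hl, (hOi r).2 e]
      have := Finset.card_le_card this
      rw [Finset.card_insert_of_notMem (by simp [hil, Ne.symm hri]), Finset.card_pair (Ne.symm hrl)] at this
      omega
    obtain ⟨b, hb⟩ := hG.exists_left (hz i)
    obtain ⟨d, hd⟩ := hG.exists_left (hu l)
    refine wsub_comm hG hpol hpure (hline u i b) (wsub_line hG hpol hpure ht hline l d) (i := i) (l := l) (o := i)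
      ?_ ?_ (hG.swap_zero ((hOi i).1 hi)) fun r => ?_
    · rw [Function.update_of_ne hil]; exact hG.swap_zero ((hOi i).1 hi)
    · rw [Function.update_of_ne hil.symm]; exact hG.swap_zero ((hOi l).1 hl)
    by_cases hri : r = i
    · subst hri
      rw [Function.update_of_ne hil, Function.update_self]
      exact fG_symm_ne hG (by rw [hb]; exact one_ne_zero)
    by_cases hrl : r = l
    · subst hrl
      rw [Function.update_of_ne hil.symm, Function.update_self, hd]
      exact one_ne_zero
    rw [Function.update_of_ne hrl, Function.update_of_ne hri]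
    exact fG_symm_ne hG (hO2 r hri hrl)

/-- One orthogonal position with independent entries. -/
theorem wsub_one_indep {u c : Fin t → Fin m → F} {i : Fin t} (hi : fG G (u i) (c i) = 0) (hc : c i ≠ 0)
    (hind : ∀ s : F, c i ≠ s • u i) (ho : ∀ r, r ≠ i → fG G (u r) (c r) ≠ 0) : pureV c ∈ WSub hpure M u := by
  obtain ⟨d, hd1, hd2⟩ := exists_sep hG hind
  refine wsub_comm hG hpol hpure (hline u i (c i)) (wsub_line hG hpol hpure ht hline i d) (i := i) (l := i) (o := i)
    ?_ ?_ (hG.swap_zero hi) fun r => ?_
  · rw [Function.update_self]; exact hG.swap_zero hd2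
  · rw [Function.update_self]; exact hG.self _
  by_cases hri : r = i
  · subst hri
    rw [Function.update_self, Function.update_self]
    exact fG_symm_ne hG (by rw [hd1]; exact one_ne_zero)
  rw [Function.update_of_ne hri, Function.update_of_ne hri]
  exact fG_symm_ne hG (ho r hri)

open Classical in
theorem wsub_perp (hex : 3 ≤ m ∨ t = 2 ∨ 4 ≤ t) {u c : Fin t → Fin m → F} (hu : ∀ i, u i ≠ 0) {i : Fin t}
    (hi : fG G (u i) (c i) = 0) : pureV c ∈ WSub hpure M u := by
  by_cases hz : ∃ i, c i = 0
  · obtain ⟨r, hr⟩ := hz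
    rw [pureV_eq_zero hr]; exact Submodule.zero_mem _
  push Not at hz
  by_cases h2 : 2 ≤ (Finset.univ.filter fun r => fG G (u r) (c r) = 0).card
  · exact wsub_two hG hpol hpure ht hline t u c hu h2 ((Finset.card_filter_le _ _).trans (by simp))
  have ho : ∀ r, r ≠ i → fG G (u r) (c r) ≠ 0 := fun r hri e => h2 (by
    rw [← Finset.card_pair hri]
    exact Finset.card_le_card (by simp [Finset.insert_subset_iff, e, hi]))
  by_cases hind : ∀ s : F, c i ≠ s • u i
  · exact wsub_one_indep hG hpol hpure ht hline hi (hz i) hind ho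
  push Not at hind
  obtain ⟨s, hs⟩ := hind
  by_cases hm : 3 ≤ m
  · obtain ⟨o, ho1, ho2⟩ := SG.exists_perp_indep (G := G) hm (u i)
    have hmem : ∀ x, fG G (u i) x = 0 → x ≠ 0 → (∀ r : F, x ≠ r • u i) →
        pureV (Function.update c i x) ∈ WSub hpure M u := fun x hx hx0 hxi =>
      wsub_one_indep hG hpol hpure ht hline (by rw [Function.update_self]; exact hx)
        (by rw [Function.update_self]; exact hx0) (by rw [Function.update_self]; exact hxi)
        (fun r hr => by rw [Function.update_of_ne hr]; exact ho r hr)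
    have := (WSub hpure M u).sub_mem
      (hmem (c i + o) (by rw [fG_add_right, hi, ho1, add_zero])
        (fun e => ho2 (-s) (by rw [neg_smul, ← hs]; exact eq_neg_of_add_eq_zero_right e))
        (fun r e => ho2 (r - s) (by rw [sub_smul, ← e, ← hs, add_sub_cancel_left])))
      (hmem o ho1 (fun e => ho2 0 (by rw [e, zero_smul])) ho2)
    rwa [pureV_update_add, Function.update_eq_self, add_sub_cancel_right] at this
  rcases hex with h | h | h
  · exact absurd h hm
  · -- two positions: a single change
    obtain ⟨l, hl⟩ : ∃ l : Fin t, l ≠ i := Fintype.exists_ne_of_one_lt_card (by simp; omega) i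
    have hcu : c = Function.update (Function.update u l (c l)) i (s • u i) := funext fun r => by
      by_cases hri : r = i
      · subst hri; simp [hs]
      · have hrl : r = l := by
          by_contra hrl
          have := Finset.card_le_univ ({r, i, l} : Finset (Fin t))
          rw [Finset.card_insert_of_notMem (by simp [hri, hrl]), Finset.card_pair hl.symm, Fintype.card_fin] at this
          omega
        subst hrl; simp [hl]
    have := (WSub hpure M u).smul_mem s (hline u l (c l))
    rw [show pureV (Function.update u l (c l)) = pureV (Function.update (Function.update u l (c l)) i (u i)) by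
      rw [← Function.update_of_ne hl.symm (c l) u, Function.update_eq_self], ← pureV_update_smul, ← hcu] at this
    exact this
  obtain ⟨p, hp, p', hp', hpp⟩ := Finset.one_lt_card.1 (show 1 < ({i} : Finset (Fin t))ᶜ.card by
    rw [Finset.card_compl]; simp; omega)
  rw [Finset.mem_compl, Finset.mem_singleton] at hp hp'
  obtain ⟨r₀, hr₀⟩ : ∃ r₀, r₀ ∉ ({i, p, p'} : Finset (Fin t)) := by
    by_contra! hall
    have := (Finset.card_le_three (a := i) (b := p) (c := p'))
    rw [Finset.eq_univ_of_forall hall, Finset.card_univ, Fintype.card_fin] at this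
    omega
  simp only [Finset.mem_insert, Finset.mem_singleton, not_or] at hr₀
  obtain ⟨d, hd⟩ := hG.exists_left (hu i)
  set B : Fin t → Fin m → F := fun r => if r = i ∨ r = p ∨ r = p' then u r else c r with hB
  set D : Fin t → Fin m → F := fun r => if r = i then d else if r = p ∨ r = p' then c r else u r with hD
  have hcard : ∀ {v w : Fin t → Fin m → F}, fG G (v p) (w p) = 0 → fG G (v p') (w p') = 0 →
      2 ≤ (Finset.univ.filter fun r => fG G (v r) (w r) = 0).card := fun e e' => by
    rw [← Finset.card_pair hpp]
    exact Finset.card_le_card (by simp [Finset.insert_subset_iff, e, e'])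
  have hD0 : ∀ r, D r ≠ 0 := fun r => by
    simp only [hD]
    split_ifs
    · intro e; rw [e, ← zero_smul F (u i), fG_smul_left, zero_mul] at hd; exact zero_ne_one hd
    · exact hz r
    · exact hu r
  refine wsub_comm hG hpol hpure (B := B) (D := D)
    (wsub_two hG hpol hpure ht hline t u B hu (hcard (by simp [hB, hG.self]) (by simp [hB, hG.self]))
      ((Finset.card_filter_le _ _).trans (by simp)))
    (wsub_two hG hpol hpure ht hline t D c hD0
      (hcard (by simp [hD, hp, hG.self]) (by simp [hD, hp', hG.self]))
      ((Finset.card_filter_le _ _).trans (by simp)))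
    (i := r₀) (l := i) (o := i) (by simp [hD, hr₀.1, hr₀.2.1, hr₀.2.2, hG.self]) ?_ (hG.swap_zero hi) fun r => ?_
  · simp only [hB, true_or, if_true, hs, fG_smul_left, hG.self, mul_zero]
  simp only [hD, hB]
  by_cases hri : r = i
  · subst hri; simp [hd]
  by_cases hrp : r = p ∨ r = p'
  · simp only [hri, hrp, if_true, if_false, or_true]
    exact fG_symm_ne hG (ho r hri)
  · simp only [hri, hrp, if_false, or_self]
    exact ho r hri

/-- All Siegel elements at a pure tensor. -/
theorem wsub_full (hex : 3 ≤ m ∨ t = 2 ∨ 4 ≤ t) {u : Fin t → Fin m → F} (hu : ∀ i, u i ≠ 0)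
    {X : TI t m → F} (hX : polar q (pureV u) X = 0) : X ∈ WSub hpure M u := by
  classical
  choose x hx using fun i => hG.exists_left (hu i)
  set u' : Fin t → Fin m → F := fun i => (-1 : F) • x i with hu'
  have huu : ∀ i, fG G (u i) (u' i) = 1 := fun i => by rw [hu', fG_smul_right, hG.swap, hx]; ring
  have tele : ∀ (S : Finset (Fin t)) (y : Fin t → Fin m → F),
      pureV y - (∏ i ∈ S, fG G (u i) (y i)) • pureV (fun i => if i ∈ S then u' i else y i) ∈ WSub hpure M u := by
    intro S
    induction S using Finset.induction with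
    | empty => intro y; simp
    | insert a S ha ih =>
      intro y
      set y₁ := fun i => if i ∈ S then u' i else y i with hy₁
      have hy₁a : y₁ a = y a := if_neg ha
      have e1 : pureV y₁ = pureV (Function.update y₁ a (y a - fG G (u a) (y a) • u' a)) +
          fG G (u a) (y a) • pureV (fun i => if i ∈ insert a S then u' i else y i) := by
        have e : (fun i => if i ∈ insert a S then u' i else y i) = Function.update y₁ a (u' a) := funext fun i => by
          by_cases hi : i = a
          · subst hi; simp
          · simp [hy₁, hi]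
        rw [e, ← pureV_update_smul, ← pureV_update_add, sub_add_cancel, ← hy₁a, Function.update_eq_self]
      have h1 : pureV (Function.update y₁ a (y a - fG G (u a) (y a) • u' a)) ∈ WSub hpure M u :=
        wsub_perp hG hpol hpure ht hline hex hu (i := a) (by
          rw [Function.update_self, sub_eq_add_neg, fG_add_right, ← neg_smul, fG_smul_right, huu, mul_one,
            add_neg_cancel])
      have h2 := (WSub hpure M u).add_mem (ih y) ((WSub hpure M u).smul_mem (∏ i ∈ S, fG G (u i) (y i)) h1)
      rw [Finset.prod_insert ha]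
      rw [e1] at h2
      convert h2 using 1
      module
  let Ψ : (TI t m → F) →ₗ[F] (TI t m → F) :=
    LinearMap.id - (polarBilin q (pureV u)).smulRight (pureV u')
  have hΨ : ∀ Y, Ψ Y = Y - polar q (pureV u) Y • pureV u' := fun Y => rfl
  have hXW : Ψ X ∈ WSub hpure M u := by
    rw [pi_eq_sum_univ' X, map_sum]
    refine Submodule.sum_mem _ fun a _ => ?_
    rw [map_smul]
    refine Submodule.smul_mem _ _ ?_
    have h := tele Finset.univ (fun i => Pi.single (a i) 1)
    simp only [Finset.mem_univ, if_true] at h
    rw [← pureV_single, hΨ, polar_pureV hG hpol hpure]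
    exact h
  rwa [hΨ, hX, zero_smul, sub_zero] at hXW

/-- The lines of pure tensors generate the commutator group. -/
theorem omega_le_of_lines (hex : 3 ≤ m ∨ t = 2 ∨ 4 ≤ t) (hnd : (polarBilin q).Nondegenerate)
    (h5 : 5 ≤ Fintype.card (TI t m)) : Cfsg.Geo.omegaGL ⇑q ≤ M := by
  classical
  have hall : ∀ U X, q U = 0 → polar q U X = 0 → U ≠ 0 → SieIn q M U X := by
    intro U X hU hUX hU0
    obtain ⟨a, ha⟩ : ∃ a : TI t m, polar q (pureV fun i => Pi.single (a i) 1) U ≠ 0 := by
      by_contra! h
      refine hU0 (hnd.1 U fun y => ?_)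
      rw [pi_eq_sum_univ' y, map_sum]
      refine Finset.sum_eq_zero fun a _ => ?_
      rw [map_smul, ← pureV_single, polarBilin_apply_apply, polar_comm, h, smul_zero]
    set u : Fin t → Fin m → F := fun i => Pi.single (a i) 1 with hu
    have hu0 : ∀ i, u i ≠ 0 := fun i e => one_ne_zero (α := F) (by simpa [hu] using congrFun e (a i))
    choose x hx using fun i => hG.exists_left (hu0 i)
    set β := polar q (pureV u) U with hβ
    let i₀ : Fin t := ⟨0, by omega⟩
    set w : Fin t → Fin m → F := Function.update (fun i => (-1 : F) • x i) i₀ ((-β) • x i₀) with hw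
    have huw : polar q (pureV u) (pureV w) = β := by
      rw [polar_pureV hG hpol hpure, ← Finset.mul_prod_erase _ _ (Finset.mem_univ i₀), hw, Function.update_self,
        fG_smul_right, hG.swap, hx, Finset.prod_eq_one fun i hi => by
          rw [Function.update_of_ne (Finset.ne_of_mem_erase hi), fG_smul_right, hG.swap, hx]; ring]
      ring
    have hw0 : ∀ i, w i ≠ 0 := fun i e => ha (by
      have h0 := congrArg (fun v => polar q (pureV u) v) (pureV_eq_zero (u := w) e)
      simp only [huw, polar_zero_right] at h0
      exact h0)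
    set z := β⁻¹ • (U - pureV w) with hz
    have huz : polar q (pureV u) z = 0 := by
      rw [hz, polar_smul_right, polar_sub_right, huw, ← hβ, sub_self, smul_zero]
    obtain ⟨hqu, hz', hgM⟩ : SieIn q M (pureV u) z := by
      simpa using wsub_full hG hpol hpure ht hline hex hu0 huz 1
    set g := siegel q (pureV u) z hqu hz' with hg
    obtain ⟨s, hs⟩ : ∃ s : F, g.1 (pureV w) = U - s • pureV u := by
      refine ⟨polar q z (pureV w) + q z * β, ?_⟩
      rw [hg, siegel_apply, huw, hz, smul_smul, mul_inv_cancel₀ ha, one_smul, add_sub_cancel]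
    have hs0 : s = 0 := by
      have h := map_orth g (pureV w)
      rw [hpure, hs, sub_eq_add_neg, ← neg_smul, QuadraticMap.map_add (⇑q), QuadraticMap.map_smul, hU, hpure,
        polar_smul_right, polar_comm, ← hβ] at h
      simpa [ha] using h
    rw [hs0, zero_smul, sub_zero] at hs
    obtain ⟨Y, rfl⟩ := g.1.surjective X
    have hY : polar q (pureV w) Y = 0 := by rwa [← hs, polar_orth] at hUX
    have hfull : SieIn q M (pureV w) Y := by simpa using wsub_full hG hpol hpure ht hline hex hw0 hY 1
    have := hfull.conj g hgM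
    rwa [hs] at this
  intro g hg
  obtain ⟨k', hk', rfl⟩ := exists_of_mem_omegaGL hg
  rw [commutator_eq_sGroup hnd (by simpa using h5)] at hk'
  rw [← OmegaMaxGlue.glHom_apply]
  refine (Subgroup.closure_le (K := M.comap (OmegaMaxGlue.glHom q))).2 ?_ hk'
  rintro _ ⟨U, W, hu, hw, -, rfl⟩
  show OmegaMaxGlue.glHom q _ ∈ M
  rw [OmegaMaxGlue.glHom_apply]
  by_cases hU0 : U = 0
  · subst hU0
    rw [siegel_zero_left, ← OmegaMaxGlue.glHom_apply, map_one]
    exact M.one_mem
  · obtain ⟨_, _, hm⟩ := hall U W hu hw hU0
    exact hm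

end End

end Cfsg.Agent.TensorWreath43
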