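import Cfsg.Agent.Lib.TensorWreath43OrthOmega

/-!
Maximality of an orthogonal tensor wreath stabiliser in coordinates, and the case of odd characteristic.
-/

set_option autoImplicit false
set_option linter.unusedSectionVars false

namespace Cfsg.Agent.TensorWreath43

open scoped Matrix
open QuadraticMap
open Cfsg.Agent.OrthUnitaryQuad Cfsg.Agent.OrthUnitarySimple Cfsg.Agent.OmegaGeo

variable {F : Type*} [Field F] {t m : ℕ} {ι : Type} [Fintype ι] [DecidableEq ι]

/-- The coordinate map of a decomposition into several factors. -/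
def psi (e : ι ≃ TI t m) (P : GL ι F) : (TI t m → F) →ₗ[F] (ι → F) :=
  (Matrix.mulVecLin (P : Matrix ι ι F)).comp (LinearMap.funLeft F F e)

theorem psi_apply (e : ι ≃ TI t m) (P : GL ι F) (x : TI t m → F) :
    psi e P x = (P : Matrix ι ι F) *ᵥ (x ∘ e) := rfl

theorem psi_surjective (e : ι ≃ TI t m) (P : GL ι F) : Function.Surjective (psi e P) := fun v =>
  ⟨(((P⁻¹ : GL ι F) : Matrix ι ι F) *ᵥ v) ∘ e.symm, by
    rw [psi_apply, show ((((P⁻¹ : GL ι F) : Matrix ι ι F) *ᵥ v) ∘ e.symm) ∘ e =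
      ((P⁻¹ : GL ι F) : Matrix ι ι F) *ᵥ v from funext fun i => by simp, Matrix.mulVec_mulVec, Units.mul_inv,
      Matrix.one_mulVec]⟩

theorem psi_injective (e : ι ≃ TI t m) (P : GL ι F) : Function.Injective (psi e P) := fun x y h => by
  have h1 := Matrix.mulVec_injective_of_isUnit P.isUnit h
  funext p
  simpa [LinearMap.funLeft] using congrFun h1 (e.symm p)

theorem comap_omegaGL (e : ι ≃ TI t m) (P : GL ι F) (q : QuadraticForm F (ι → F)) :
    (Cfsg.Geo.omegaGL ⇑q).comap (phi e P).toMonoidHom = Cfsg.Geo.omegaGL ⇑(q.comp (psi e P)) := by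
  have hI : (Cfsg.isometryGroup F ⇑(q.comp (psi e P))).map (phi e P).toMonoidHom = Cfsg.isometryGroup F ⇑q := by
    ext g
    constructor
    · rintro ⟨g, hg, rfl⟩ v w
      obtain ⟨x, rfl⟩ := psi_surjective e P v
      show q ((phi e P g : Matrix ι ι F) *ᵥ psi e P x) = q (psi e P x)
      rw [psi_apply, phi_mulVec]
      exact hg x x
    · intro hg
      refine ⟨(phi e P).symm g, fun x _ => ?_, (phi e P).apply_symm_apply g⟩
      show q (psi e P (((phi e P).symm g : Matrix (TI t m) (TI t m) F) *ᵥ x)) = q (psi e P x)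
      rw [psi_apply, ← phi_mulVec, MulEquiv.apply_symm_apply]
      exact hg (psi e P x) (psi e P x)
  rw [TensorMaxGlue.omegaGL_eq, TensorMaxGlue.omegaGL_eq, ← hI, ← Subgroup.map_commutator,
    Subgroup.comap_map_eq_self_of_injective]
  exact (phi e P).injective

/-- A quadratic form has the same commutator group as its multiples. -/
theorem omegaGL_smul (q : QuadraticForm F (TI t m → F)) {c : F} (hc : c ≠ 0) :
    Cfsg.Geo.omegaGL ⇑(c • q) = Cfsg.Geo.omegaGL ⇑q := by
  have : Cfsg.isometryGroup F ⇑(c • q) = Cfsg.isometryGroup F ⇑q := by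
    ext g
    refine forall_congr' fun x => forall_congr' fun _ => ?_
    show c • q _ = c • q _ ↔ q _ = q _
    rw [smul_eq_mul, smul_eq_mul]
    exact mul_right_inj' hc
  rw [TensorMaxGlue.omegaGL_eq, TensorMaxGlue.omegaGL_eq, this]

section Quad

variable [Fintype F] [NeZero m] {G : Matrix (Fin m) (Fin m) F} {q : QuadraticForm F (TI t m → F)}
  (hpol : ∀ x y, polar q x y = fT G x y) (hpure : ∀ u : Fin t → Fin m → F, q (pureV u) = 0)
  (hG : SG G) (hnd : (polarBilin q).Nondegenerate)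
include hpol hpure hG hnd

theorem omega_not_le_wreath (h5 : 5 ≤ Fintype.card (TI t m)) (ht : 2 ≤ t) (hex : 3 ≤ m ∨ 3 ≤ t) :
    ∃ g ∈ Cfsg.Geo.omegaGL ⇑q, g ∉ Cfsg.Geo.tensorWreathStandard m t F := by
  classical
  obtain ⟨b, hb⟩ : ∃ b, G 0 b ≠ 0 := by
    by_contra! h
    exact hG.unit.ne_zero (Matrix.det_eq_zero_of_row_eq_zero 0 h)
  have hdiag : ∀ a, G a a = 0 := fun a => by
    have := hG.alt (Pi.single a 1)
    rwa [single_dotProduct, one_mul, Matrix.mulVec_single_one, Matrix.col_apply] at this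
  have hb0 : b ≠ 0 := fun e => hb (by rw [e]; exact hdiag 0)
  let i₀ : Fin t := ⟨0, by omega⟩
  let i₁ : Fin t := ⟨1, by omega⟩
  have hi : i₁ ≠ i₀ := by simp [i₀, i₁, Fin.ext_iff]
  obtain ⟨w, hw₀, hwu, l, hl, hwl⟩ : ∃ w : TI t m, w i₀ = 0 ∧ w ≠ (fun _ => 0) ∧ ∃ l, l ≠ i₀ ∧ w l ≠ b := by
    by_cases hm : 3 ≤ m
    · obtain ⟨c, hc0, hcb⟩ := exists_third_fin hm (0 : Fin m) b
      exact ⟨Function.update (fun _ => 0) i₁ c, by rw [Function.update_of_ne hi.symm],
        fun e => hc0 (by simpa using congrFun e i₁), i₁, hi, by simpa using hcb⟩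
    · obtain ⟨l, hl₀, hl₁⟩ := exists_third_fin (hex.resolve_left hm) i₀ i₁
      exact ⟨Function.update (fun _ => 0) i₁ b, by rw [Function.update_of_ne hi.symm],
        fun e => hb0 (by simpa using congrFun e i₁), l, hl₀,
        by rw [Function.update_of_ne hl₁]; exact hb0.symm⟩
  set p : TI t m := fun _ => 0 with hp
  set y : TI t m := fun _ => b with hy
  have hc : ∀ x z : TI t m, polar q (Pi.single x 1) (Pi.single z 1) = ∏ i, G (x i) (z i) := fun x z => by
    rw [hpol, fT, single_dotProduct, one_mul, Matrix.mulVec_single_one, Matrix.col_apply]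
    rfl
  have hq0 : ∀ x : TI t m, q (Pi.single x 1) = 0 := fun x => by rw [← pureV_single]; exact hpure _
  have hpw : polar q (Pi.single p 1 : TI t m → F) (Pi.single w 1) = 0 := by
    rw [hc, Finset.prod_eq_zero (Finset.mem_univ i₀)]
    rw [hw₀]; exact hdiag 0
  refine ⟨toGL q (OrthUnitaryQuad.siegel q (Pi.single p 1) (Pi.single w 1) (hq0 p) hpw),
    toGL_mem (sGroup_le_commutator hnd (by simpa using h5) (siegel_mem_sGroup _ _ (hq0 w))), fun hg => ?_⟩
  obtain ⟨ys, hys⟩ := pureV_image hg (fun i => Pi.single (y i) (1 : F))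
  rw [pureV_single, toGL_mulVec, siegel_apply, hq0, zero_mul, add_zero, hc] at hys
  set a := ∏ i, G (p i) (y i)
  set c := polar q (Pi.single w 1 : TI t m → F) (Pi.single y 1)
  have ha : a ≠ 0 := Finset.prod_ne_zero_iff.2 fun i _ => hb
  have hyp : y ≠ p := fun e => hb0 (congrFun e i₀)
  have hwy : w ≠ y := fun e => hwl (congrFun e l)
  have e1 := congrFun hys y
  have e2 := congrFun hys w
  simp only [Pi.add_apply, Pi.sub_apply, Pi.smul_apply, smul_eq_mul, Pi.single_eq_same,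
    Pi.single_eq_of_ne hwy.symm, Pi.single_eq_of_ne hyp, mul_zero, add_zero, sub_zero] at e1
  simp only [Pi.add_apply, Pi.sub_apply, Pi.smul_apply, smul_eq_mul, Pi.single_eq_same,
    Pi.single_eq_of_ne hwy, Pi.single_eq_of_ne hwu, mul_zero, sub_zero, mul_one, zero_add] at e2
  have h1 : ∀ i, ys i (y i) ≠ 0 := fun i e => one_ne_zero (α := F) (by
    rw [e1]; exact Finset.prod_eq_zero (Finset.mem_univ i) e)
  have h2 : ys i₀ (w i₀) ≠ 0 := fun e => ha (by
    rw [e2]; exact Finset.prod_eq_zero (Finset.mem_univ i₀) e)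
  set r := Function.update y i₀ 0 with hr
  have hrl : r l = b := by rw [hr, Function.update_of_ne hl]
  have hry : r ≠ y := fun e => hb0 (by simpa [hr, hy, eq_comm] using congrFun e i₀)
  have hrp : r ≠ p := fun e => hb0 (by rw [← hrl, e])
  have hrw : r ≠ w := fun e => hwl (by rw [← e, hrl])
  have e3 := congrFun hys r
  simp only [Pi.add_apply, Pi.sub_apply, Pi.smul_apply, smul_eq_mul, Pi.single_eq_of_ne hry,
    Pi.single_eq_of_ne hrw, Pi.single_eq_of_ne hrp, mul_zero, add_zero, sub_zero] at e3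
  refine Finset.prod_ne_zero_iff.2 (fun i _ => ?_) e3.symm
  by_cases hi0 : i = i₀
  · subst hi0; rw [hr, Function.update_self, ← hw₀]; exact h2
  · rw [hr, Function.update_of_ne hi0]; exact h1 i

/-- Overgroups in odd characteristic. -/
theorem overgroup_odd (h2 : (2 : F) ≠ 0) (ht : 2 ≤ t) (hev : Even t) (hex : 3 ≤ m ∨ 3 ≤ t)
    (hex' : 3 ≤ m ∨ 4 < Fintype.card F) (h5 : 5 ≤ Fintype.card (TI t m)) {M : Subgroup (GL (TI t m) F)}
    (h1 : Cfsg.Geo.tensorWreathStandard m t F ⊓ Cfsg.Geo.omegaGL ⇑q ≤ M) (hM : M ≤ Cfsg.Geo.omegaGL ⇑q) :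
    M ≤ Cfsg.Geo.tensorWreathStandard m t F ∨ Cfsg.Geo.omegaGL ⇑q ≤ M := by
  by_cases hne : Cfsg.Geo.omegaGL ⇑q ≤ M
  · exact Or.inr hne
  refine Or.inl ?_
  have hpar : ((-1 : F)) ^ t = 1 := hev.neg_one_pow
  have H : SOver G M := by
    refine ⟨⟨hG, fun j η hη => h1 ⟨?_, lift_omega hpol hpure hG hnd h5 ht hpar j η hη⟩,
      fun σ hσ => h1 ⟨permU_mem_wreath σ, perm_omega hpol hpure hG σ hσ⟩, fun g hg => ?_⟩, h2⟩
    · rw [liftU_eq_pureU]; exact pureU_mem_wreath _
    · obtain ⟨o, -, rfl⟩ := exists_of_mem_omegaGL (hM hg)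
      exact iso_of_fT hG fun x y => by rw [toGL_mulVec, toGL_mulVec, ← hpol, ← hpol, polar_orth]
  exact H.le_wreath ht (H.noHit_orth hpol hpure hnd h5 hev ht hex hne) hex'

end Quad

end Cfsg.Agent.TensorWreath43
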