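import Cfsg.Agent.Lib.TensorWreath43SymWreath
import Cfsg.Agent.Lib.TensorWreath43OrthEnd

/-!
An even number of factors: a typed element with a non-scalar cofactor gives the Siegel elements along all lines
of pure tensors.
-/

set_option autoImplicit false
set_option linter.unusedSectionVars false

namespace Cfsg.Agent.TensorWreath43

open scoped Matrix
open QuadraticMap
open Cfsg.Agent.OrthUnitaryQuad Cfsg.Agent.OrthUnitarySimple Cfsg.Agent.OmegaGeo

variable {F : Type*} [Field F] {t m : ℕ}

/-- Roots at all positions but `p`, and a pair at `p`. -/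
def Line (G : Matrix (Fin m) (Fin m) F) (M : Subgroup (GL (TI t m) F)) (u : Fin t → Fin m → F) (p : Fin t)
    (x : Fin m → F) : Prop :=
  TMem M (Function.update (fun i => Eop G (u i) (u i)) p (tau G (u p) x))

theorem tau_conj {G : Matrix (Fin m) (Fin m) F} (hG : SG G) (h : Matrix (Fin m) (Fin m) F) (u v : Fin m → F) :
    h * tau G u v * adjG G h = tau G (h *ᵥ u) (h *ᵥ v) := by
  rw [tau, mul_sub, sub_mul, conj_Eop hG, conj_Eop hG]; rfl

theorem fG_iso {G : Matrix (Fin m) (Fin m) F} (hG : SG G) {h : Matrix (Fin m) (Fin m) F} (hh : adjG G h * h = 1)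
    (u v : Fin m → F) : fG G (h *ᵥ u) (h *ᵥ v) = fG G u v := by
  rw [← hG.fG_adj, Matrix.mulVec_mulVec, hh, Matrix.one_mulVec]

theorem ne_zero_of_fG {G : Matrix (Fin m) (Fin m) F} {u v : Fin m → F} (h : fG G u v ≠ 0) : u ≠ 0 ∧ v ≠ 0 :=
  ⟨fun e => h (by rw [e, ← zero_smul F v, fG_smul_left, zero_mul]),
    fun e => h (by rw [e, ← zero_smul F u, fG_smul_right, zero_mul])⟩

section Over

variable [Fintype F] [NeZero m] {G : Matrix (Fin m) (Fin m) F} {M : Subgroup (GL (TI t m) F)} (H : SOver G M)
include H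

open Classical in
/-- All positions are typed. -/
theorem SOver.line_of_univ (hev : Even t) {θ : Fin t → Matrix (Fin m) (Fin m) F} (hθ : ∀ i, Typ G (θ i))
    (hM : TMem M θ) {q : Fin t} (hq : Eta G (θ q)) :
    ∃ u x, (∀ i, u i ≠ 0) ∧ fG G (u q) x ≠ 0 ∧ Line G M u q x := by
  obtain ⟨u₀, hu₀, hqu⟩ := hq
  have hodd := H.odd_eta (S := Finset.univ) ⟨fun i _ => hθ i, fun i hi => absurd (Finset.mem_univ i) hi⟩
    (Finset.mem_univ q) one_ne_zero (hM 1)
  set E := Finset.univ.filter fun i => Eta G (θ i) with hE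
  obtain ⟨p, hp⟩ : ∃ p, ¬ Eta G (θ p) := by
    by_contra! hall
    rw [hE, Finset.filter_true_of_mem (fun i _ => hall i), Finset.card_univ, Fintype.card_fin] at hodd
    exact Nat.not_even_iff_odd.2 hodd hev
  have hqE : q ∈ E := Finset.mem_filter.2 ⟨Finset.mem_univ q, u₀, hu₀, hqu⟩
  have hpq : p ≠ q := fun e => hp (e ▸ ⟨u₀, hu₀, hqu⟩)
  obtain ⟨v₀, hv₀⟩ := H.hG.exists_left hu₀
  set v := (-1 : F) • v₀ with hv
  have huv : fG G u₀ v = 1 := by rw [hv, fG_smul_right, H.hG.swap, hv₀]; ring
  have hvne : v ≠ 0 := (ne_zero_of_fG (huv.symm ▸ one_ne_zero : fG G u₀ v ≠ 0)).2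
  obtain ⟨h₀, hh₀, hhu⟩ := H.exists_rt hu₀ hvne
  choose h w hh hw0 hwe hwt using fun i => H.exists_partner (hθ i)
  let h' := Function.update h q h₀
  have hh' : ∀ i, adjG G (h' i) * h' i = 1 := fun i => by
    by_cases hi : i = q
    · subst hi; simp [h', hh₀]
    · simp [h', hi, hh i]
  have hM' := H.tmem_conj hM h' hh'
  have sqp := Typ.sq H.hG (hθ p)
  have hh'p : h' p = h p := Function.update_of_ne hpq _ _
  have hbr := H.bracket hM hM' (p := p) (q := p) sqp
    (by
      calc h' p * θ p * adjG G (h' p) * (h' p * θ p * adjG G (h' p))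
          = h' p * θ p * (adjG G (h' p) * h' p) * θ p * adjG G (h' p) := by simp only [mul_assoc]
        _ = 0 := by rw [hh' p, mul_one, mul_assoc (h' p), sqp, mul_zero, zero_mul])
    (by simp only [hh'p]; exact (hwt p hp).2.2.1) (by simp only [hh'p]; exact (hwt p hp).2.2.2)
  set R := E.erase q with hR
  have hpR : p ∉ R := fun h => hp (Finset.mem_filter.1 (Finset.mem_of_mem_erase h)).2
  have hcm := H.contractMany (Eop_self_mul H.hG (w p)) (a := 1) (b := -1)
    (by rw [one_smul, Pi.mul_apply]; simp only [hh'p]; exact (hwt p hp).1)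
    (by rw [neg_one_smul, Pi.mul_apply]; simp only [hh'p]; exact (hwt p hp).2.1) hbr w R hpR
  set u := Function.update w q u₀ with hu
  refine ⟨u, (-1 : F) • v, fun i => ?_, ?_, ?_⟩
  · by_cases hi : i = q
    · subst hi; simp [hu, hu₀]
    · simp [hu, hi, hw0 i]
  · rw [hu, Function.update_self, fG_smul_right, huv, mul_one]
    exact neg_ne_zero.2 one_ne_zero
  intro z
  let η : Fin t → Matrix (Fin m) (Fin m) F := fun i => Eop G (u i) (u i)
  set T := insert q (Finset.univ.filter fun i => ¬ Eta G (θ i)) with hT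
  have e3 : pureT (fun i => if i ∈ R then Eop G (w i) (w i) * (θ * fun i => h' i * θ i * adjG G (h' i)) i *
        Eop G (w i) (w i) else (θ * fun i => h' i * θ i * adjG G (h' i)) i) =
      (∏ i, if i ∈ R then (-1 : F) else 1) • pureT (Function.update η q (-Eop G u₀ v)) := by
    rw [← pureT_smul_pi]
    congr 1
    funext i
    by_cases hiq : i = q
    · subst hiq
      rw [if_neg (Finset.notMem_erase _ _), if_neg (Finset.notMem_erase _ _), one_smul, Function.update_self,
        Pi.mul_apply]
      simp only [h', Function.update_self, hqu, conj_Eop H.hG, hhu, Eop_mul, H.hG.swap v u₀, huv, neg_one_smul]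
    rw [Function.update_of_ne hiq]
    simp only [η, hu, Function.update_of_ne hiq, Pi.mul_apply, h', hR, hE, Finset.mem_erase, Finset.mem_filter,
      Finset.mem_univ, true_and, ne_eq, hiq, not_false_eq_true]
    by_cases he : Eta G (θ i)
    · simp only [he, if_true, neg_one_smul]; exact (hwe i he).1
    · simp only [he, if_false, one_smul]; exact (hwt i he).1
  have e4 : pureT (fun i => if i ∈ R then Eop G (w i) (w i) * ((fun i => h' i * θ i * adjG G (h' i)) * θ) i *
        Eop G (w i) (w i) else ((fun i => h' i * θ i * adjG G (h' i)) * θ) i) =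
      (∏ i, if i ∈ T then (-1 : F) else 1) • pureT (Function.update η q (-Eop G v u₀)) := by
    rw [← pureT_smul_pi]
    congr 1
    funext i
    by_cases hiq : i = q
    · subst hiq
      rw [if_neg (Finset.notMem_erase _ _), if_pos (Finset.mem_insert_self _ _), Function.update_self, Pi.mul_apply]
      simp only [h', Function.update_self, hqu, conj_Eop H.hG, hhu, Eop_mul, huv, one_smul, neg_one_smul, neg_neg]
    rw [Function.update_of_ne hiq]
    simp only [η, hu, Function.update_of_ne hiq, Pi.mul_apply, h', hR, hE, hT, Finset.mem_erase, Finset.mem_insert,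
      Finset.mem_filter, Finset.mem_univ, true_and, ne_eq, hiq, not_false_eq_true, false_or]
    by_cases he : Eta G (θ i)
    · simp only [he, not_true_eq_false, if_true, if_false, one_smul]; exact (hwe i he).2
    · simp only [he, not_false_eq_true, if_true, if_false, neg_one_smul]; exact (hwt i he).2.1
  have hRc : Even R.card := by
    rw [hR, Finset.card_erase_of_mem hqE]
    obtain ⟨a, ha⟩ := hodd
    exact ⟨a, by omega⟩
  have hTc : Even T.card := by
    have hc := Finset.card_filter_add_card_filter_not (s := (Finset.univ : Finset (Fin t))) (fun i => Eta G (θ i))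
    rw [Finset.card_univ, Fintype.card_fin, ← hE] at hc
    rw [hT, Finset.card_insert_of_notMem (by simp; exact ⟨u₀, hu₀, hqu⟩)]
    obtain ⟨a, ha⟩ := hodd
    obtain ⟨b, hb⟩ := hev
    exact ⟨b - a, by omega⟩
  have hcz := hcm z
  rw [e3, e4, Finset.prod_ite_mem, Finset.univ_inter, Finset.prod_ite_mem, Finset.univ_inter, Finset.prod_const,
    Finset.prod_const, hRc.neg_one_pow, hTc.neg_one_pow, one_smul, one_smul, pureT_sub_update] at hcz
  convert hcz using 4
  rw [hu, Function.update_self, tau, Eop_smul_left, Eop_smul_right, neg_one_smul, neg_one_smul]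

open Classical in
/-- All positions but `r` are roots. -/
theorem SOver.line_of_almost (hev : Even t) {S : Finset (Fin t)} {θ : Fin t → Matrix (Fin m) (Fin m) F}
    (hη : ∀ i ∈ S, Eta G (θ i)) (hθ : ∀ i, i ∉ S → θ i = 1) (hM : TMem M θ) (h2 : 2 ≤ S.card)
    (hS : S.card + 1 = t) : ∃ u q x, (∀ i, u i ≠ 0) ∧ fG G (u q) x ≠ 0 ∧ Line G M u q x := by
  obtain ⟨r, hr⟩ := Finset.card_eq_one.1 (show Sᶜ.card = 1 by rw [Finset.card_compl, Fintype.card_fin]; omega)
  have hrS : ∀ i, i ∉ S ↔ i = r := fun i => by rw [← Finset.mem_compl, hr, Finset.mem_singleton]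
  have hr' : r ∉ S := (hrS r).2 rfl
  obtain ⟨a, ha, b, hb, hab⟩ := Finset.one_lt_card.1 (show 1 < S.card by omega)
  have har : a ≠ r := fun e => hr' (e ▸ ha)
  have hbr' : b ≠ r := fun e => hr' (e ▸ hb)
  obtain ⟨σ, hσ, s1, s2, s3, s4⟩ := exists_cycle hab har hbr'
  obtain ⟨ua, hua, hθa⟩ := hη a ha
  obtain ⟨ub, hub, hθb⟩ := hη b hb
  obtain ⟨v₀, hv₀⟩ := H.hG.exists_left hub
  set v := (-1 : F) • v₀ with hv
  have huv : fG G ub v = 1 := by rw [hv, fG_smul_right, H.hG.swap, hv₀]; ring
  have hvne : v ≠ 0 := (ne_zero_of_fG (huv.symm ▸ one_ne_zero : fG G ub v ≠ 0)).2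
  obtain ⟨h₀, hh₀, hhu⟩ := H.exists_rt hua hvne
  choose h w hh hw0 hwe hwt using fun i : S => H.exists_partner (Or.inl (hη i.1 i.2))
  set R := S \ {a, b} with hR
  let h' : Fin t → Matrix (Fin m) (Fin m) F :=
    Function.update (fun i => if hi : i ∈ R then h ⟨i, (Finset.mem_sdiff.1 hi).1⟩ else 1) b h₀
  let w' : Fin t → Fin m → F := fun i =>
    if hi : i ∈ R then w ⟨i, (Finset.mem_sdiff.1 hi).1⟩ else if i = a then ua else ub
  have hh' : ∀ i, adjG G (h' i) * h' i = 1 := fun i => by
    by_cases hi : i = b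
    · subst hi; simp [h', hh₀]
    · by_cases hiR : i ∈ R
      · simp only [h', Function.update_of_ne hi, hiR, dite_true, hh]
      · simp only [h', Function.update_of_ne hi, hiR, dite_false, H.hG.adjG_one, one_mul]
  have hM' := H.tmem_conj (H.tmem_perm hM hσ) h' hh'
  have hnR : ∀ i, i = a ∨ i = b ∨ i = r → i ∉ R := by rintro i (rfl | rfl | rfl) <;> simp [hR, hr']
  have va : h' a * θ (σ.symm a) * adjG G (h' a) = 1 := by
    simp only [h', Function.update_of_ne hab, hnR a (by simp), dite_false, s3, hθ r hr', H.hG.adjG_one, one_mul]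
  have vr : h' r * θ (σ.symm r) * adjG G (h' r) = θ b := by
    simp only [h', Function.update_of_ne hbr'.symm, hnR r (by simp), dite_false, s2, H.hG.adjG_one, one_mul, mul_one]
  have sqa := Typ.sq H.hG (Or.inl (hη a ha))
  have sqb := Typ.sq H.hG (Or.inl (hη b hb))
  have hbr := H.bracket hM hM' (p := a) (q := r) sqa (by simp only [vr]; exact sqb)
    (by simp only [va, mul_one]; exact sqa) (by simp only [vr, hθ r hr', mul_one]; exact sqb)
  have hcm := H.contractMany sqa (a := 1) (b := 1)
    (by simp only [one_smul, Pi.mul_apply, va, mul_one]) (by simp only [one_smul, Pi.mul_apply, va, one_mul]) hbr w' R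
    (hnR a (by simp))
  refine ⟨w', b, v, fun i => ?_, ?_, ?_⟩
  · by_cases hi : i ∈ R
    · simp only [w', hi, dite_true]; exact hw0 _
    · simp only [w', hi, dite_false]; split_ifs <;> assumption
  · simp only [w', hnR b (by simp), dite_false, if_neg hab.symm, huv]
    exact one_ne_zero
  intro z
  let η : Fin t → Matrix (Fin m) (Fin m) F := fun i => Eop G (w' i) (w' i)
  have e3 : pureT (fun i => if i ∈ R then Eop G (w' i) (w' i) *
        (θ * fun i => h' i * θ (σ.symm i) * adjG G (h' i)) i * Eop G (w' i) (w' i) else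
        (θ * fun i => h' i * θ (σ.symm i) * adjG G (h' i)) i) =
      (∏ i, if i ∈ insert b R then (-1 : F) else 1) • pureT (Function.update η b (Eop G ub v)) := by
    rw [← pureT_smul_pi]
    congr 1
    funext i
    by_cases hib : i = b
    · subst hib
      rw [if_neg (hnR _ (by simp)), if_pos (Finset.mem_insert_self _ _), Function.update_self, Pi.mul_apply]
      simp only [h', Function.update_self, s1, hθb, hθa, conj_Eop H.hG, hhu, Eop_mul, H.hG.swap v ub, huv,
        neg_one_smul]
    rw [Function.update_of_ne hib]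
    by_cases hiR : i ∈ R
    · have hiR' := hiR
      simp only [hR, Finset.mem_sdiff, Finset.mem_insert, Finset.mem_singleton, not_or] at hiR'
      simp only [η, hiR, if_true, Finset.mem_insert, or_true, Pi.mul_apply, h', w', Function.update_of_ne hib,
        dite_true, s4 i hiR'.2.1 hiR'.2.2 (fun e => hr' (e ▸ hiR'.1)), neg_one_smul]
      exact (hwe ⟨i, hiR'.1⟩ (hη i hiR'.1)).1
    · simp only [η, hiR, if_false, Finset.mem_insert, hib, or_self, one_smul, Pi.mul_apply]
      by_cases hia : i = a
      · subst hia; rw [va, mul_one]; simp only [w', hiR, dite_false, if_true, hθa]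
      · have hir : i = r := (hrS i).1 fun h => hiR (by simp [hR, h, hia, hib])
        subst hir; rw [vr, hθ i hr', one_mul]; simp only [w', hiR, dite_false, if_neg hia, hθb]
  have e4 : pureT (fun i => if i ∈ R then Eop G (w' i) (w' i) *
        ((fun i => h' i * θ (σ.symm i) * adjG G (h' i)) * θ) i * Eop G (w' i) (w' i) else
        ((fun i => h' i * θ (σ.symm i) * adjG G (h' i)) * θ) i) = pureT (Function.update η b (Eop G v ub)) := by
    congr 1
    funext i
    by_cases hib : i = b
    · subst hib
      rw [if_neg (hnR _ (by simp)), Function.update_self, Pi.mul_apply]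
      simp only [h', Function.update_self, s1, hθb, hθa, conj_Eop H.hG, hhu, Eop_mul, huv, one_smul]
    rw [Function.update_of_ne hib]
    by_cases hiR : i ∈ R
    · have hiR' := hiR
      simp only [hR, Finset.mem_sdiff, Finset.mem_insert, Finset.mem_singleton, not_or] at hiR'
      simp only [η, hiR, if_true, Pi.mul_apply, h', w', Function.update_of_ne hib, dite_true,
        s4 i hiR'.2.1 hiR'.2.2 (fun e => hr' (e ▸ hiR'.1))]
      exact (hwe ⟨i, hiR'.1⟩ (hη i hiR'.1)).2
    · simp only [η, hiR, if_false, Pi.mul_apply]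
      by_cases hia : i = a
      · subst hia; rw [va, one_mul]; simp only [w', hiR, dite_false, if_true, hθa]
      · have hir : i = r := (hrS i).1 fun h => hiR (by simp [hR, h, hia, hib])
        subst hir; rw [vr, hθ i hr', mul_one]; simp only [w', hiR, dite_false, if_neg hia, hθb]
  have hRc : Even (insert b R).card := by
    rw [Finset.card_insert_of_notMem (hnR b (by simp)), hR,
      Finset.card_sdiff_of_subset (by simp [Finset.insert_subset_iff, ha, hb]), Finset.card_pair hab]
    obtain ⟨c, hc⟩ := hev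
    exact ⟨c - 1, by omega⟩
  have hcz := hcm z
  rw [e3, e4, Finset.prod_ite_mem, Finset.univ_inter, Finset.prod_const, hRc.neg_one_pow, one_smul,
    pureT_sub_update] at hcz
  convert hcz using 4
  simp only [w', hnR b (by simp), dite_false, if_neg hab.symm, tau]

/-- A typed element with a non-scalar cofactor gives one line. -/
theorem SOver.line_of_typ (hev : Even t) {j : Fin t} {T : Matrix (Fin m) (Fin m) F} (hT : Typ G T)
    {C : Matrix (TI t m) (TI t m) F} (hC : Comm j C) (hns : ¬ ∃ c : F, C = c • 1)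
    (hM : MemU M (lift j T * C)) : ∃ u q x, (∀ i, u i ≠ 0) ∧ fG G (u q) x ≠ 0 ∧ Line G M u q x := by
  classical
  obtain ⟨S', θ', c, hsub, hθ', hc, hM', hlt⟩ := H.reduce t {j} (Function.update 1 j T) C j (by omega) (by simp)
    (by rw [Function.update_self]; exact Typ.sq H.hG hT) (by simpa using hT)
    (fun i hi => by rw [Function.update_of_ne (by simpa using hi)]; rfl) (by simpa using hC)
    (fun e => hns ⟨0, by rw [e, zero_smul]⟩) (by rwa [pureT_update_eq_lift])
  have hne : ∃ i, ¬ Comm i C := by
    by_contra! hall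
    exact hns (scalar_of_comm_all hall)
  have h2 := hlt hne
  rw [Finset.card_singleton] at h2
  suffices ∀ n, ∀ (S : Finset (Fin t)) (θ : Fin t → Matrix (Fin m) (Fin m) F), t - S.card ≤ n → 2 ≤ S.card →
      TS G S θ → TMem M θ → ∃ u q x, (∀ i, u i ≠ 0) ∧ fG G (u q) x ≠ 0 ∧ Line G M u q x from
    this t S' θ' (by omega) h2 hθ' (H.tmem_of_single hθ' (hsub (Finset.mem_singleton_self j)) hc hM')
  intro n
  induction n using Nat.strong_induction_on with
  | _ n ih =>
  intro S θ hn h2 hθ hM
  have hcu := S.card_le_univ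
  rw [Fintype.card_fin] at hcu
  rcases Nat.even_or_odd S.card with he | ho
  · by_cases hlt : S.card < t
    · obtain ⟨S₁, θ₁, hc₁, hθ₁, hM₁⟩ := H.step_three hθ hM h2 he hlt
      exact ih (t - S₁.card) (by omega) S₁ θ₁ le_rfl (by omega) hθ₁ hM₁
    · have hS : ∀ i, i ∈ S := Finset.eq_univ_iff_forall.1 (Finset.eq_univ_of_card S (by rw [Fintype.card_fin]; omega))
      obtain ⟨p, hp⟩ := Finset.card_pos.1 (show 0 < S.card by omega)
      obtain ⟨q, hq⟩ := Finset.card_pos.1 (H.odd_eta hθ hp one_ne_zero (hM 1)).pos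
      obtain ⟨u, x, hu⟩ := H.line_of_univ hev (fun i => hθ.1 i (hS i)) hM (Finset.mem_filter.1 hq).2
      exact ⟨u, q, x, hu⟩
  · obtain ⟨θ₁, e1, e2, e3⟩ := H.step_one hθ hM ho
    by_cases hlt : S.card + 2 ≤ t
    · obtain ⟨S₁, θ₂, hc₁, hθ₂, hM₂⟩ := H.step_two e1 e2 e3 ho h2 hlt
      exact ih (t - S₁.card) (by omega) S₁ θ₂ le_rfl (by omega) hθ₂ hM₂
    · refine H.line_of_almost hev e1 e2 e3 h2 ?_
      rcases ho with ⟨a, ha⟩
      rcases hev with ⟨b, hb⟩
      omega

theorem SOver.line_move (ht : 2 ≤ t) {u₀ : Fin t → Fin m → F} {q : Fin t} {x₀ : Fin m → F} (h0 : ∀ i, u₀ i ≠ 0)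
    (hf : fG G (u₀ q) x₀ ≠ 0) (hL : Line G M u₀ q x₀) {u : Fin t → Fin m → F} (hu : ∀ i, u i ≠ 0)
    (x : Fin m → F) : Line G M u q x := by
  classical
  obtain ⟨l, hl⟩ : ∃ l : Fin t, l ≠ q := Fintype.exists_ne_of_one_lt_card (by simp; omega) q
  have hconj : ∀ {u : Fin t → Fin m → F} {x : Fin m → F}, Line G M u q x →
      ∀ h : Fin t → Matrix (Fin m) (Fin m) F, (∀ i, adjG G (h i) * h i = 1) →
        Line G M (fun i => h i *ᵥ u i) q (h q *ᵥ x) := by
    intro u x hux h hh z
    convert H.tmem_conj hux h hh z using 3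
    funext i
    by_cases hi : i = q
    · subst hi; rw [Function.update_self, Function.update_self, tau_conj H.hG]
    · rw [Function.update_of_ne hi, Function.update_of_ne hi, conj_Eop H.hG]
  choose h hh hhu using fun i => H.exists_rt (h0 i) (hu i)
  have h1 := hconj hL h hh
  simp only [hhu] at h1
  have hf1 : fG G (u q) (h q *ᵥ x₀) ≠ 0 := by rwa [← hhu q, fG_iso H.hG (hh q)]
  have hsq : ∀ (A B : Matrix (Fin m) (Fin m) F), pureT (Function.update (fun i => Eop G (u i) (u i)) q A) *
      pureT (Function.update (fun i => Eop G (u i) (u i)) q B) = 0 := fun A B => by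
    rw [pureT_mul, pureT_eq_zero (p := l)]
    simp [hl, Eop_self_mul H.hG]
  let X : Submodule F (Fin m → F) :=
    { carrier := {y | Line G M u q y}
      zero_mem' := fun z => by
        rw [pureT_eq_zero (p := q) (by rw [Function.update_self, tau, ← zero_smul F (u q), Eop_smul_left,
          Eop_smul_right, zero_smul, sub_zero]), smul_zero]
        exact MemU.zero M
      add_mem' := fun {a b} ha hb z => by
        have := (ha z).add (hb z) (by rw [Matrix.smul_mul, Matrix.mul_smul, hsq, smul_zero, smul_zero])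
        convert this using 1
        rw [← smul_add, pureT_split q, pureT_split q (Function.update _ q (tau G (u q) a)),
          pureT_split q (Function.update _ q (tau G (u q) b))]
        simp only [Function.update_self, Function.update_idem]
        rw [← add_mul, ← lift_add, tau, tau, tau, Eop_add_right, Eop_add_left]
        congr 3
        abel
      smul_mem' := fun c a ha z => by
        convert ha (z * c) using 1
        rw [pureT_split q, pureT_split q (Function.update _ q (tau G (u q) a))]
        simp only [Function.update_self, Function.update_idem]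
        rw [tau, Eop_smul_left, Eop_smul_right, ← smul_sub, lift_smul, Matrix.smul_mul, smul_smul]
        rfl }
  have hx₁ : h q *ᵥ x₀ ∈ X := h1
  set x₁ := h q *ᵥ x₀
  have huX : u q ∈ X := fun z => by
    rw [pureT_eq_zero (p := q) (by rw [Function.update_self, tau, sub_self]), smul_zero]; exact MemU.zero M
  -- transvections fixing `u q`
  have hT : ∀ w, fG G (u q) w = 0 → fG G x₁ w • w ∈ X := by
    intro w hw
    let r : Matrix (Fin m) (Fin m) F := 1 + Eop G w w
    have hr : adjG G r * r = 1 := by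
      show adjG G (1 + Eop G w w) * (1 + Eop G w w) = 1
      rw [adjG_add, H.hG.adjG_one, H.hG.adjG_Eop, add_mul, one_mul, neg_mul, mul_add, mul_one, Eop_self_mul H.hG]
      abel
    have h2 := hconj h1 (Function.update 1 q r) (fun i => by
      by_cases hi : i = q
      · subst hi; simp [hr]
      · simp [hi, H.hG.adjG_one])
    have eu : (fun i => (Function.update 1 q r : Fin t → Matrix (Fin m) (Fin m) F) i *ᵥ u i) = u := funext fun i => by
      by_cases hi : i = q
      · subst hi; simp [r, Matrix.add_mulVec, Eop_mulVec, hw]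
      · simp [hi]
    rw [eu, Function.update_self] at h2
    have h3 := X.sub_mem (show r *ᵥ x₁ ∈ X from h2) hx₁
    simpa [r, Matrix.add_mulVec, Eop_mulVec] using h3
  have hperp : ∀ w, fG G (u q) w = 0 → w ∈ X := by
    intro w hw
    by_cases hxw : fG G x₁ w = 0
    · have hne : fG G x₁ (w + u q) ≠ 0 := by
        rw [fG_add_right, hxw, zero_add]
        exact fun e => hf1 (H.hG.swap_zero e)
      have h4 := X.smul_mem (fG G x₁ (w + u q))⁻¹ (hT (w + u q) (by rw [fG_add_right, hw, H.hG.self, zero_add]))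
      rw [smul_smul, inv_mul_cancel₀ hne, one_smul] at h4
      simpa using X.sub_mem h4 huX
    · have h4 := X.smul_mem (fG G x₁ w)⁻¹ (hT w hw)
      rwa [smul_smul, inv_mul_cancel₀ hxw, one_smul] at h4
  have hfin := X.add_mem (hperp (x + (-(fG G (u q) x / fG G (u q) x₁)) • x₁) (by
      rw [fG_add_right, fG_smul_right, neg_mul, div_mul_cancel₀ _ hf1, add_neg_cancel]))
    (X.smul_mem (fG G (u q) x / fG G (u q) x₁) hx₁)
  rwa [neg_smul, add_assoc, neg_add_cancel, add_zero] at hfin

/-- One line gives all lines. -/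
theorem SOver.line_all (hev : Even t) (ht : 2 ≤ t) (hex : 3 ≤ m ∨ 3 ≤ t) {u₀ : Fin t → Fin m → F} {q : Fin t}
    {x₀ : Fin m → F} (h0 : ∀ i, u₀ i ≠ 0) (hf : fG G (u₀ q) x₀ ≠ 0) (hL : Line G M u₀ q x₀)
    {u : Fin t → Fin m → F} (hu : ∀ i, u i ≠ 0) (i : Fin t) (x : Fin m → F) : Line G M u i x := by
  classical
  by_cases hiq : i = q
  · subst hiq; exact H.line_move ht h0 hf hL hu x
  by_cases ht3 : 3 ≤ t
  · obtain ⟨r, hrq, hri⟩ := exists_third_fin ht3 q i
    obtain ⟨σ, hσ, s1, -, -, -⟩ := exists_cycle (Ne.symm hiq) hrq.symm hri.symm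
    have hsq : σ q = i := by rw [← s1, Equiv.apply_symm_apply]
    have h1 := H.tmem_perm (H.line_move ht h0 hf hL (u := fun l => u (σ l)) (fun l => hu _) x) hσ
    intro z
    convert h1 z using 3
    funext l
    by_cases hl : l = i
    · subst hl; simp [s1, hsq]
    · have : σ.symm l ≠ q := fun e => hl (by rw [← hsq, ← e, Equiv.apply_symm_apply])
      simp [Function.update_of_ne hl, Function.update_of_ne this]
  · obtain ⟨o, ho, hoi⟩ := SG.exists_perp_indep (G := G) (hex.resolve_right ht3) (u₀ q)
    have htau : tau G (u₀ q) o ≠ 0 := by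
      intro e
      obtain ⟨y, hy⟩ := H.hG.exists_left (h0 q)
      have e' := congrArg (fun Z => Z *ᵥ y) e
      simp only [tau, Matrix.sub_mulVec, Eop_mulVec, Matrix.zero_mulVec, hy, one_smul, sub_eq_zero] at e'
      exact hoi _ e'.symm
    obtain ⟨u₁, x₁, h1, h2, h3⟩ := H.line_of_univ hev
      (θ := Function.update (fun i => Eop G (u₀ i) (u₀ i)) q (tau G (u₀ q) o))
      (fun l => by
        by_cases hl : l = q
        · subst hl; rw [Function.update_self]; exact Or.inr ⟨_, _, ho, htau, rfl⟩
        · rw [Function.update_of_ne hl]; exact Or.inl ⟨_, h0 l, rfl⟩)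
      (H.line_move ht h0 hf hL h0 o) (q := i)
      (by rw [Function.update_of_ne hiq]; exact ⟨_, h0 i, rfl⟩)
    exact H.line_move ht h1 h2 h3 hu x

/-- Without all of the commutator group, there is no hit. -/
theorem SOver.noHit_orth {q : QuadraticForm F (TI t m → F)} (hpol : ∀ x y, polar q x y = fT G x y)
    (hpure : ∀ u : Fin t → Fin m → F, q (pureV u) = 0) (hnd : (polarBilin q).Nondegenerate)
    (h5 : 5 ≤ Fintype.card (TI t m)) (hev : Even t) (ht : 2 ≤ t) (hex : 3 ≤ m ∨ 3 ≤ t)
    (hM : ¬ Cfsg.Geo.omegaGL ⇑q ≤ M) : NoHit G M := by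
  classical
  intro j T C hT hC hns hmem
  obtain ⟨u₀, p, x₀, h0, hf, hL⟩ := H.line_of_typ hev hT hC hns hmem
  refine hM (omega_le_of_lines H.hG hpol hpure ht (fun u i x s => ?_) (by rcases hev with ⟨a, ha⟩; omega) hnd h5)
  by_cases hz : ∃ l, u l = 0
  · obtain ⟨l, hl⟩ := hz
    refine ⟨hpure u, ?_, ?_⟩
    · rw [pureV_eq_zero hl, polar_zero_left]
    · have : ∀ (U X : TI t m → F) (hU : q U = 0) (hX : polar q U X = 0), U = 0 →
          toGL q (OrthUnitaryQuad.siegel q U X hU hX) ∈ M := by
        intro U X hU hX h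
        subst h
        rw [siegel_zero_left, ← OmegaMaxGlue.glHom_apply, map_one]
        exact M.one_mem
      exact this _ _ _ _ (pureV_eq_zero hl)
  push Not at hz
  obtain ⟨g, hg, hgX⟩ := H.line_all hev ht hex h0 hf hL hz i x (-s)
  obtain ⟨l, hl⟩ : ∃ l : Fin t, l ≠ i := Fintype.exists_ne_of_one_lt_card (by simp; omega) i
  have hX : polar q (pureV u) (s • pureV (Function.update u i x)) = 0 := by
    rw [polar_smul_right, hpol, fT_pureV, Finset.prod_eq_zero (Finset.mem_univ l)
      (by rw [Function.update_of_ne hl]; exact H.hG.self _), smul_zero]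
  refine ⟨hpure u, hX, ?_⟩
  suffices toGL q (OrthUnitaryQuad.siegel q (pureV u) (s • pureV (Function.update u i x)) (hpure u) hX) = g from this ▸ hg
  have hE : ∀ a b : Fin t → Fin m → F, ∀ y, pureT (fun r => Eop G (a r) (b r)) *ᵥ y = fT G y (pureV b) • pureV a := by
    intro a b y
    have e : pureT (fun r => Eop G (a r) (b r)) = Matrix.vecMulVec (pureV a) (pureT (fun _ => G) *ᵥ pureV b) := by
      rw [pureT_mulVec_pureV, ← pureT_vecMulVec]; rfl
    rw [e, Matrix.vecMulVec_mulVec, op_smul_eq_smul, dotProduct_comm]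
    rfl
  refine TransvectionMax.gl_ext fun y => ?_
  rw [toGL_mulVec, siegel_apply, hgX, Matrix.add_mulVec, Matrix.one_mulVec, Matrix.smul_mulVec, tau,
    ← pureT_sub_update, Matrix.sub_mulVec,
    show Function.update (fun r => Eop G (u r) (u r)) i (Eop G (u i) x) =
      fun r => Eop G (u r) (Function.update u i x r) from funext fun r => by
        by_cases hr : r = i <;> simp [hr],
    show Function.update (fun r => Eop G (u r) (u r)) i (Eop G x (u i)) =
      fun r => Eop G (Function.update u i x r) (u r) from funext fun r => by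
        by_cases hr : r = i <;> simp [hr],
    hE, hE, QuadraticMap.map_smul, hpure, smul_zero, zero_mul, add_zero, polar_smul_left, hpol _ y,
    polar_comm _ _ y, hpol y]
  have e : fT G (pureV u) y = fT G y (pureV u) := by rw [← hpol, ← hpol, polar_comm]
  rw [e]
  simp only [smul_eq_mul]
  module

end Over

end Cfsg.Agent.TensorWreath43
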