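import Cfsg.Agent.Lib.TensorWreath43OrthHit
import Cfsg.Agent.Lib.TensorMaxQuadGlue
import Cfsg.Agent.Lib.TensorMaxSympPlus

/-!
The commutator group of a quadratic form vanishing on pure tensors contains the isometries of each factor and the
permutations of the factors of odd order.
-/

set_option autoImplicit false
set_option linter.unusedSectionVars false

namespace Cfsg.Agent.TensorWreath43

open scoped Matrix
open QuadraticMap
open Cfsg.Agent.OrthUnitaryQuad Cfsg.Agent.OrthUnitarySimple Cfsg.Agent.OmegaGeo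

variable {F : Type*} [Field F] {t m : ℕ}

theorem pureT_sum_pi {κ : Type*} [Fintype κ] (A : Fin t → κ → Matrix (Fin m) (Fin m) F) :
    pureT (fun i => ∑ a, A i a) = ∑ f : Fin t → κ, pureT (fun i => A i (f i)) := by
  classical
  ext x y
  simp only [pureT, Matrix.sum_apply, Fintype.prod_sum]

theorem pureT_Eop_mulVec {G : Matrix (Fin m) (Fin m) F} (a b : Fin t → Fin m → F) (y : TI t m → F) :
    pureT (fun r => Eop G (a r) (b r)) *ᵥ y = fT G y (pureV b) • pureV a := by
  have e : pureT (fun r => Eop G (a r) (b r)) = Matrix.vecMulVec (pureV a) (pureT (fun _ => G) *ᵥ pureV b) := by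
    rw [pureT_mulVec_pureV, ← pureT_vecMulVec]; rfl
  rw [e, Matrix.vecMulVec_mulVec, op_smul_eq_smul, dotProduct_comm]
  rfl

theorem MemU.finset_sum {R : Type*} [Ring R] {N : Subgroup Rˣ} {κ : Type*} (s : Finset κ) (X : κ → R)
    (h : ∀ a ∈ s, MemU N (X a)) (h0 : ∀ a ∈ s, ∀ b ∈ s, X a * X b = 0) : MemU N (∑ a ∈ s, X a) := by
  classical
  induction s using Finset.induction with
  | empty => simpa using MemU.zero N
  | insert a s ha ih =>
    rw [Finset.sum_insert ha]
    refine (h a (Finset.mem_insert_self _ _)).add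
      (ih (fun b hb => h b (Finset.mem_insert_of_mem hb))
        fun b hb c hc => h0 b (Finset.mem_insert_of_mem hb) c (Finset.mem_insert_of_mem hc)) ?_
    rw [Finset.mul_sum]
    exact Finset.sum_eq_zero fun b hb => h0 a (Finset.mem_insert_self _ _) b (Finset.mem_insert_of_mem hb)

section Quad

variable {G : Matrix (Fin m) (Fin m) F} {q : QuadraticForm F (TI t m → F)}
  (hpol : ∀ x y, polar q x y = fT G x y) (hpure : ∀ u : Fin t → Fin m → F, q (pureV u) = 0)
include hpol hpure

/-- An element preserving the form and the pure tensors preserves the quadratic form. -/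
theorem mem_isometry_of_pure (hG : SG G) {g : GL (TI t m) F}
    (hiso : adjT G (g : Matrix (TI t m) (TI t m) F) * (g : Matrix (TI t m) (TI t m) F) = 1)
    (hp : ∀ u, ∃ w, (g : Matrix (TI t m) (TI t m) F) *ᵥ pureV u = pureV w) :
    g ∈ Cfsg.isometryGroup F ⇑q := by
  classical
  intro x _
  show q ((g : Matrix (TI t m) (TI t m) F) *ᵥ x) = q x
  rw [pi_eq_sum_univ' x]
  refine (Finset.induction_on (motive := fun s => q ((g : Matrix (TI t m) (TI t m) F) *ᵥ
      ∑ a ∈ s, x a • (Pi.single a 1 : TI t m → F)) = q (∑ a ∈ s, x a • (Pi.single a 1 : TI t m → F))) Finset.univ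
      ?_ ?_)
  · simp
  intro a s ha ih
  rw [Finset.sum_insert ha, Matrix.mulVec_add, QuadraticMap.map_add (⇑q), QuadraticMap.map_add (⇑q), ih,
    Matrix.mulVec_smul, QuadraticMap.map_smul, QuadraticMap.map_smul, polar_smul_left, polar_smul_left, hpol, hpol,
    fT_of_iso hG hiso, ← pureV_single]
  obtain ⟨w, hw⟩ := hp fun i => Pi.single (a i) (1 : F)
  rw [hw, hpure, hpure]

variable [Fintype F] [NeZero m] (hG : SG G) (hnd : (polarBilin q).Nondegenerate)
  (h5 : 5 ≤ Fintype.card (TI t m)) (ht : 2 ≤ t) (hpar : ((-1 : F)) ^ t = 1)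
include hG hnd h5 ht hpar

theorem root_omega (j : Fin t) (u : Fin m → F) (z : F) :
    MemU (Cfsg.Geo.omegaGL ⇑q) (z • lift j (Eop G u u)) := by
  classical
  obtain ⟨i₁, hi₁⟩ : ∃ i : Fin t, i ≠ j := Fintype.exists_ne_of_one_lt_card (by simp; omega) j
  obtain ⟨N, E, K, hEK⟩ := TensorMax.exists_expansion hG.isSymplecticForm
  let δ : Fin m → F := fun a => if a = 0 then 1 else 0
  let d : Fin m → Fin m → F := fun a => G⁻¹ *ᵥ Pi.single a 1
  let X : Fin N → TI t m → Fin t → Fin m → F := fun i a l =>
    if l = j then δ (a l) • u else if l = i₁ then δ (a l) • K i else Pi.single (a l) 1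
  let Y : Fin N → TI t m → Fin t → Fin m → F := fun i a l =>
    if l = j then δ (a l) • u else if l = i₁ then δ (a l) • E i else d (a l)
  have hfix : ∀ v w : Fin m → F, ∑ a, Eop G (δ a • v) (δ a • w) = Eop G v w := fun v w => by
    rw [Finset.sum_eq_single (0 : Fin m) (fun a _ ha => by simp only [δ, if_neg ha]; rw [Eop_smul_left, zero_smul])
      (fun h => absurd (Finset.mem_univ _) h)]
    simp [δ]
  have hid : ∑ a, Eop G (Pi.single a 1) (d a) = 1 := by
    simp only [d, ← hG.single_eq_Eop, single_eq_vec, sum_vec_single]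
  have hid' : ∑ a, Eop G (d a) (Pi.single a 1) = -1 := by
    have h := congrArg (adjG G) hid
    rw [hG.adjG_one, show adjG G (∑ a, Eop G (Pi.single a 1) (d a)) = ∑ a, adjG G (Eop G (Pi.single a 1) (d a)) by
      simp [adjG, Matrix.transpose_sum, Finset.mul_sum, Finset.sum_mul]] at h
    simp only [hG.adjG_Eop, Finset.sum_neg_distrib] at h
    exact neg_eq_iff_eq_neg.1 h
  have hsumX : ∀ i, ∑ a : TI t m, pureT (fun l => Eop G (X i a l) (Y i a l)) =
      pureT (Function.update (Function.update (1 : Fin t → Matrix (Fin m) (Fin m) F) j (Eop G u u)) i₁ (Eop G (K i) (E i))) := fun i => by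
    rw [← pureT_sum_pi (fun l b => Eop G (if l = j then δ b • u else if l = i₁ then δ b • K i else Pi.single b 1)
      (if l = j then δ b • u else if l = i₁ then δ b • E i else d b))]
    congr 1
    funext l
    by_cases hl : l = j
    · subst hl; simp [hi₁.symm, hfix]
    · by_cases hl' : l = i₁
      · subst hl'; simp [hl, hfix]
      · simp [hl, hl', hid]
  have hsumY : ∀ i, ∑ a : TI t m, pureT (fun l => Eop G (Y i a l) (X i a l)) =
      pureT (Function.update (Function.update (1 : Fin t → Matrix (Fin m) (Fin m) F) j (Eop G u u)) i₁ (Eop G (E i) (K i))) := fun i => by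
    rw [← pureT_sum_pi (fun l b => Eop G (if l = j then δ b • u else if l = i₁ then δ b • E i else d b)
      (if l = j then δ b • u else if l = i₁ then δ b • K i else Pi.single b 1))]
    rw [show (fun l => ∑ b, Eop G (if l = j then δ b • u else if l = i₁ then δ b • E i else d b)
        (if l = j then δ b • u else if l = i₁ then δ b • K i else Pi.single b 1)) =
      fun l => (if l = j ∨ l = i₁ then (1 : F) else -1) •
        Function.update (Function.update (1 : Fin t → Matrix (Fin m) (Fin m) F) j (Eop G u u)) i₁ (Eop G (E i) (K i)) l from funext fun l => by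
          by_cases hl : l = j
          · subst hl; simp [hi₁.symm, hfix]
          · by_cases hl' : l = i₁
            · subst hl'; simp [hl, hfix]
            · simp [hl, hl', hid'], pureT_smul_pi]
    have hprod : (∏ l : Fin t, if l = j ∨ l = i₁ then (1 : F) else -1) = 1 := by
      rw [Finset.prod_ite, Finset.prod_const_one, one_mul, Finset.prod_const, Finset.filter_not,
        show (Finset.univ.filter fun l => l = j ∨ l = i₁) = {j, i₁} by ext; simp,
        Finset.card_univ_diff, Finset.card_pair hi₁.symm, Fintype.card_fin]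
      have : (-1 : F) ^ (t - 2) * (-1) ^ 2 = 1 := by rw [← pow_add, Nat.sub_add_cancel ht, hpar]
      simpa using this
    rw [hprod, one_smul]
  have hsplit : z • lift j (Eop G u u) = ∑ p : Fin N × TI t m,
      z • (pureT (fun l => Eop G (X p.1 p.2 l) (Y p.1 p.2 l)) - pureT (fun l => Eop G (Y p.1 p.2 l) (X p.1 p.2 l))) := by
    rw [← Finset.smul_sum, Fintype.sum_prod_type]
    simp only [Finset.sum_sub_distrib, hsumX, hsumY]
    congr 1
    have hone : ∑ i, (Eop G (K i) (E i) - Eop G (E i) (K i)) = 1 := Matrix.ext_iff_mulVec.mpr fun p => by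
      rw [Matrix.sum_mulVec, Matrix.one_mulVec]
      conv_rhs => rw [hEK p]
      refine Finset.sum_congr rfl fun i _ => ?_
      rw [Matrix.sub_mulVec, Eop_mulVec, Eop_mulVec]
    rw [← Finset.sum_sub_distrib]
    have hlin : ∀ i, pureT (Function.update (Function.update (1 : Fin t → Matrix (Fin m) (Fin m) F) j (Eop G u u)) i₁ (Eop G (K i) (E i))) -
        pureT (Function.update (Function.update (1 : Fin t → Matrix (Fin m) (Fin m) F) j (Eop G u u)) i₁ (Eop G (E i) (K i))) =
        lift i₁ (Eop G (K i) (E i) - Eop G (E i) (K i)) * lift j (Eop G u u) := fun i => by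
      rw [pureT_sub_update, pureT_split i₁]
      simp only [Function.update_self, Function.update_idem]
      congr 1
      rw [← pureT_update_eq_lift]
      congr 1
      funext l
      by_cases hl : l = i₁
      · subst hl; simp [hi₁]
      · simp [hl]
    simp only [hlin]
    rw [← Finset.sum_mul, ← lift_sum, hone, lift_one, one_mul]
  rw [hsplit]
  have hj : ∀ p : Fin N × TI t m, ∀ c d : Fin t → Fin m → F, (c = X p.1 p.2 ∨ c = Y p.1 p.2) →
      ∀ p' : Fin N × TI t m, (d = X p'.1 p'.2 ∨ d = Y p'.1 p'.2) → fG G (c j) (d j) = 0 := by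
    rintro p c d (rfl | rfl) p' (rfl | rfl) <;> simp [X, Y, fG_smul_left, fG_smul_right, hG.self]
  refine MemU.finset_sum _ _ (fun p _ => ?_) (fun p _ p' _ => ?_)
  · set U := pureV (X p.1 p.2) with hU
    set W := pureV (Y p.1 p.2) with hW
    have hUW : ∀ a : F, polar q U (a • W) = 0 := fun a => by
      rw [polar_smul_right, hpol, hU, hW, fT_pureV, Finset.prod_eq_zero (Finset.mem_univ j)
        (hj p _ _ (Or.inl rfl) p (Or.inr rfl)), smul_zero]
    have hqW : ∀ a : F, q (a • W) = 0 := fun a => by rw [QuadraticMap.map_smul, hW, hpure, smul_zero]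
    refine ⟨toGL q (OrthUnitaryQuad.siegel q U ((-z) • W) (hpure _) (hUW _)),
      toGL_mem (sGroup_le_commutator hnd (by simpa using h5) (siegel_mem_sGroup _ _ (hqW _))), ?_⟩
    refine Matrix.ext_iff_mulVec.mpr fun y => ?_
    rw [toGL_mulVec, siegel_apply, hqW, zero_mul, add_zero, Matrix.add_mulVec, Matrix.one_mulVec, Matrix.smul_mulVec,
      Matrix.sub_mulVec, pureT_Eop_mulVec, pureT_Eop_mulVec, polar_smul_left, polar_comm _ U y, polar_comm _ W y,
      hpol, hpol]
    simp only [smul_eq_mul]
    module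
  · rw [Matrix.smul_mul, Matrix.mul_smul, sub_mul, mul_sub, mul_sub, pureT_mul, pureT_mul, pureT_mul, pureT_mul,
      pureT_eq_zero (p := j), pureT_eq_zero (p := j), pureT_eq_zero (p := j), pureT_eq_zero (p := j)]
    · simp
    all_goals rw [Pi.mul_apply, Eop_mul, hj p' _ _ (by first | exact Or.inl rfl | exact Or.inr rfl) p
      (by first | exact Or.inl rfl | exact Or.inr rfl), zero_smul]

theorem lift_omega (j : Fin t) (η : GL (Fin m) F)
    (hη : adjG G (η : Matrix (Fin m) (Fin m) F) * (η : Matrix (Fin m) (Fin m) F) = 1) :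
    Units.map (liftHom (F := F) j).toMonoidHom η ∈ Cfsg.Geo.omegaGL ⇑q := by
  have hf := hG.isSymplecticForm
  refine TransvectionMax.isometry_mem hf
    (M := (Cfsg.Geo.omegaGL ⇑q).comap (Units.map (liftHom (F := F) j).toMonoidHom)) (fun u c => ?_) η
    fun x y => fG_iso hG hη x y
  obtain ⟨g, hg, hgX⟩ := root_omega hpol hpure hG hnd h5 ht hpar j u c
  have e : ((TransvectionMax.st (fG G) u c : GL (Fin m) F) : Matrix (Fin m) (Fin m) F) = 1 + c • Eop G u u :=
    Matrix.ext_iff_mulVec.mpr fun x => by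
      rw [TransvectionMax.st_act hf, Matrix.add_mulVec, Matrix.one_mulVec, Matrix.smul_mulVec, Eop_mulVec, smul_smul]
  rw [Subgroup.mem_comap]
  convert hg using 1
  refine Units.ext ?_
  show lift j _ = (g : Matrix (TI t m) (TI t m) F)
  rw [e, hgX, lift_add, lift_one, lift_smul]

omit hnd h5 ht hpar [NeZero m] in
theorem perm_omega (σ : Equiv.Perm (Fin t)) (hσ : σ ^ 3 = 1) : permU σ ∈ Cfsg.Geo.omegaGL ⇑q := by
  have hI : ∀ τ : Equiv.Perm (Fin t), (permU τ : GL (TI t m) F) ∈ Cfsg.isometryGroup F ⇑q := fun τ =>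
    mem_isometry_of_pure hpol hpure hG (adjT_permT hG τ) (pureV_image (permU_mem_wreath τ))
  obtain ⟨π, hπ⟩ := isConj_iff.1
    (Equiv.Perm.isConj_iff_cycleType_eq.2 (Equiv.Perm.cycleType_inv σ).symm : IsConj σ σ⁻¹)
  have hmul : ∀ a b : Equiv.Perm (Fin t), (permU (a * b) : GL (TI t m) F) = permU a * permU b := fun a b => by
    refine Units.ext ?_
    show permT (a * b) = permT a * permT b
    ext x y
    rw [permT_mul_apply]
    simp only [permT, Equiv.Perm.coe_mul, Function.comp_assoc]
    congr
  let φ : Equiv.Perm (Fin t) →* GL (TI t m) F := MonoidHom.mk' permU hmul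
  have e : σ = π * σ * π⁻¹ * σ⁻¹ := by
    rw [hπ]
    calc σ = σ ^ 3 * (σ⁻¹ * σ⁻¹) := by simp [pow_succ, mul_assoc]
      _ = σ⁻¹ * σ⁻¹ := by rw [hσ, one_mul]
  rw [TensorMaxGlue.omegaGL_eq]
  have h := Subgroup.commutator_mem_commutator (hI π) (hI σ)
  rw [commutatorElement_def] at h
  show φ σ ∈ _
  rw [e, map_mul, map_mul, map_mul, map_inv, map_inv]
  exact h

end Quad

end Cfsg.Agent.TensorWreath43
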