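import Cfsg.Agent.Lib.TensorWreath43Local

/-!
The contraction of a conjugate root against an isotropic vector is scalar.
-/

set_option autoImplicit false
set_option linter.unusedSectionVars false

namespace Cfsg.Agent.TensorWreath43

open scoped Matrix
open Polynomial

variable {F : Type*} [Field F] {t m : ℕ}

/-- The subgroup of the elements `1 + z • Y` for `Y ^ 2 = 0`. -/
def famU {R : Type*} [Ring R] [Algebra F R] (Y : R) (h : Y * Y = 0) : Subgroup Rˣ where
  carrier := {g | ∃ z : F, (g : R) = 1 + z • Y}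
  one_mem' := ⟨0, by rw [zero_smul, add_zero, Units.val_one]⟩
  mul_mem' := fun {g g'} ⟨z, hz⟩ ⟨w, hw⟩ => ⟨z + w, by
    rw [Units.val_mul, hz, hw, add_mul, one_mul, mul_add, mul_one, smul_mul_assoc, mul_smul_comm, h, smul_zero,
      smul_zero, add_zero, add_smul]
    abel⟩
  inv_mem' := fun {g} ⟨z, hz⟩ => ⟨-z, Units.inv_eq_of_mul_eq_one_right (by
    rw [hz, add_mul, one_mul, mul_add, mul_one, smul_mul_assoc, mul_smul_comm, h, smul_zero, smul_zero, add_zero,
      neg_smul]
    abel)⟩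

/-- A conjugate root killing a graph has a scalar contraction. -/
def Kills (G : Matrix (Fin m) (Fin m) F) (M : Subgroup (GL (TI t m) F)) : Prop :=
  ∀ {j : Fin t} {N : Matrix (TI t m) (TI t m) F}, ConjRoot G M j N → ∀ {c : Fin m → F}, c ≠ 0 →
    (∀ v, fG G v c = 0 → ∃ S, Comm j S ∧ ∀ s, N * (lift j (Eop G v s) + lift j (Eop G c s) * S) = 0) →
    ∃ k : F, ct G j c c N = k • 1

section Basics

theorem exists_stable {n : Type} [Fintype n] [DecidableEq n] (T : Matrix n n F) :
    ∃ (M₀ : ℕ) (p : F[X]), ∀ N ≥ M₀, T ^ N = T ^ (2 * N) * aeval T (p ^ N) := by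
  classical
  obtain ⟨f₁, hfe, hf₁⟩ := exists_eq_pow_rootMultiplicity_mul_and_not_dvd (minpoly F T)
    (minpoly.ne_zero (Algebra.IsIntegral.isIntegral T)) 0
  rw [C_0, sub_zero] at hfe hf₁
  set e := (minpoly F T).rootMultiplicity 0
  obtain ⟨a, b, hab⟩ := Polynomial.prime_X.irreducible.coprime_iff_not_dvd.2 hf₁
  refine ⟨e, a, fun N hN => ?_⟩
  have h1 : minpoly F T ∣ Polynomial.X ^ N - Polynomial.X ^ (2 * N) * a ^ N := by
    obtain ⟨q, hq⟩ := sub_dvd_pow_sub_pow (1 : F[X]) (a * Polynomial.X) N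
    refine ⟨q * b * Polynomial.X ^ (N - e), ?_⟩
    have h2 : (Polynomial.X : F[X]) ^ N - Polynomial.X ^ (2 * N) * a ^ N = Polynomial.X ^ N * (1 ^ N - (a * Polynomial.X) ^ N) := by
      rw [one_pow, two_mul, pow_add, mul_pow]; ring
    rw [h2, hq, show (1 : F[X]) - a * Polynomial.X = b * f₁ by linear_combination -hab, hfe]
    have h3 : (Polynomial.X : F[X]) ^ N = Polynomial.X ^ e * Polynomial.X ^ (N - e) := by rw [← pow_add, Nat.add_sub_cancel' hN]
    rw [h3]; ring
  have h4 := aeval_eq_zero_of_dvd_aeval_eq_zero h1 (minpoly.aeval F T)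
  simp only [map_sub, map_mul, map_pow, aeval_X, sub_eq_zero] at h4 ⊢
  exact h4

end Basics

section Over

variable [Fintype F] [NeZero m] {G : Matrix (Fin m) (Fin m) F} {M : Subgroup (GL (TI t m) F)} (H : SBase G M)
include H

theorem SBase.exists_mid (hm : 3 ≤ m) {b b' : Fin m → F} (hbb : fG G b b' = 1) :
    ∃ e, e ≠ 0 ∧ fG G e b = 0 ∧ fG G e b' = 0 := by
  classical
  by_contra! hno
  have hplane : ∀ r, mid G b b' r = 0 := fun r => by
    by_contra hr
    exact hno _ hr (mid_spec H.hG hbb r).1 (mid_spec H.hG hbb r).2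
  have hspan : (⊤ : Submodule F (Fin m → F)) ≤ Submodule.span F {b, b'} := fun x _ => by
    have := hplane x
    rw [mid] at this
    rw [Submodule.mem_span_pair]
    exact ⟨fG G x b', -fG G x b, by linear_combination (norm := module) -this⟩
  have h1 := Submodule.finrank_mono hspan
  rw [finrank_top, Module.finrank_fin_fun] at h1
  have h2 : Module.finrank F (Submodule.span F ({b, b'} : Set (Fin m → F))) ≤ 2 := by
    refine (finrank_span_le_card _).trans ?_
    rw [Set.toFinset_insert, Set.toFinset_singleton]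
    exact Finset.card_le_two
  omega

theorem SBase.ct_scalar_of_decomposed {j : Fin t} {N : Matrix (TI t m) (TI t m) F} (c : Fin m → F)
    (h : (∃ η, N = lift j η) ∨ Comm j N) : ∃ k : F, ct G j c c N = k • 1 := by
  rcases h with ⟨η, rfl⟩ | hc
  · exact ⟨fG G (η *ᵥ c) c, by rw [← mul_one (lift j η), ct_lift_mul (comm_one j)]⟩
  · exact ⟨0, by rw [← one_mul N, ← lift_one j, ct_lift_mul hc, Matrix.one_mulVec, H.hG.self, zero_smul, zero_smul]⟩

theorem SBase.right_inverse {j : Fin t} {g : GL (TI t m) F} {b c : Fin m → F}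
    {N W : Matrix (TI t m) (TI t m) F} (hN : N = (g : Matrix (TI t m) (TI t m) F) * lift j (Eop G b b) *
      ((g⁻¹ : GL (TI t m) F) : Matrix (TI t m) (TI t m) F)) (hW : Comm j W) (hTW : ct G j c c N * W = 1) :
    ∃ L, Comm j L ∧ ct G j b c ((g⁻¹ : GL (TI t m) F) : Matrix (TI t m) (TI t m) F) * L = 1 := by
  set P := ct G j b c ((g⁻¹ : GL (TI t m) F) : Matrix (TI t m) (TI t m) F) with hP
  set Q := ct G j c b (g : Matrix (TI t m) (TI t m) F) with hQ
  have hT : ct G j c c N = Q * P := by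
    refine H.hG.ext_left j fun x s => ?_
    rw [lift_Eop_mul_ct, hN]
    simp only [mul_assoc]
    rw [← mul_assoc (lift j (Eop G b b)), ← lift_Eop_mul_ct, ← mul_assoc, ← mul_assoc, ← mul_assoc,
      ← lift_Eop_mul_ct, mul_assoc]
  refine ⟨W * Q, hW.mul (comm_cn _ _ _ _), mul_eq_one_comm.1 ?_⟩
  rw [mul_assoc, ← hT]
  exact mul_eq_one_comm.1 hTW

theorem SBase.scalar_of_isUnit_of (hkills : Kills G M) {j : Fin t} {N W : Matrix (TI t m) (TI t m) F}
    (h : ConjRoot G M j N) {c : Fin m → F} (hc : c ≠ 0) (hW : Comm j W) (hTW : ct G j c c N * W = 1) :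
    ∃ k : F, ct G j c c N = k • 1 := by
  obtain ⟨g, hg, b, hb, hN⟩ := id h
  obtain ⟨L, hL, hPL⟩ := H.right_inverse hN hW hTW
  refine hkills h hc fun v _ =>
    ⟨-(L * ct G j b v ((g⁻¹ : GL (TI t m) F) : Matrix (TI t m) (TI t m) F)), ?_, fun s => ?_⟩
  · rw [← neg_one_smul F (L * _)]
    exact (hL.mul (comm_cn _ _ _ _)).smul _
  · have e : ∀ u, N * lift j (Eop G u s) = (g : Matrix (TI t m) (TI t m) F) * lift j (Eop G b s) *
        ct G j b u ((g⁻¹ : GL (TI t m) F) : Matrix (TI t m) (TI t m) F) := fun u => by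
      rw [hN, mul_assoc, mul_assoc, mul_assoc, lift_Eop_mul_ct, mul_assoc]
    rw [mul_add, ← mul_assoc, e, e, mul_assoc _ _ (-_), mul_neg, ← mul_assoc (ct G j b c _), hPL, one_mul, mul_neg,
      add_neg_cancel]

theorem SBase.adjT_ctc {j : Fin t} {N : Matrix (TI t m) (TI t m) F} (h : ConjRoot G M j N) (c v : Fin m → F) :
    adjT G (ct G j c v N) = ct G j v c N := by
  rw [H.hG.adjT_ct, (H.conjRoot_spec h).2.2]
  simp only [ct, cn, mul_neg, neg_mul, Finset.sum_neg_distrib, neg_neg]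

theorem SBase.exists_iterate {j : Fin t} {N : Matrix (TI t m) (TI t m) F} (h : ConjRoot G M j N) {c : Fin m → F}
    (hc : c ≠ 0) : ∀ n : ℕ, ∃ N', ConjRoot G M j N' ∧ ct G j c c N' = -(ct G j c c N ^ 2 ^ (n + 1))
  | 0 => ⟨_, H.conjRoot_step h hc, by rw [H.step_ct, zero_add, pow_one, sq]⟩
  | n + 1 => by
    obtain ⟨N', hN', he⟩ := SBase.exists_iterate h hc n
    refine ⟨_, H.conjRoot_step hN' hc, ?_⟩
    rw [H.step_ct, he, neg_mul_neg, ← pow_add, pow_succ 2 (n + 1), mul_two]

theorem SBase.scalar_of_three_of (hkills : Kills G M) {j : Fin t} {N : Matrix (TI t m) (TI t m) F}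
    (h : ConjRoot G M j N) {c : Fin m → F} (hc : c ≠ 0)
    (hnil : ∀ (n : ℕ), ct G j c c N ^ n = 0 → ct G j c c N = 0) : ∃ k : F, ct G j c c N = k • 1 := by
  set T := ct G j c c N with hT
  have hTc : Comm j T := comm_cn _ _ _ _
  obtain ⟨M₀, p, hp⟩ := exists_stable T
  obtain ⟨N₁, hN₁, hU⟩ := H.exists_iterate h hc M₀
  set E := 2 ^ (M₀ + 1) with hE
  have hEM : M₀ ≤ E := le_of_lt (lt_trans (Nat.lt_succ_self _) (Nat.lt_two_pow_self))
  set U := ct G j c c N₁ with hUdef
  set W := -aeval T (p ^ E) with hW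
  have hWc : Comm j W := by
    rw [hW, ← neg_one_smul F (aeval T (p ^ E))]
    exact (comm_aeval hTc _).smul _
  have hUUW : U * U * W = U := by
    rw [hU, hW, neg_mul_neg, ← pow_add, ← two_mul, mul_neg, neg_inj]
    exact (hp E hEM).symm
  set N₂ := (1 + N₁) * lift j (Eop G c c) * (1 - N₁) with hN₂def
  have hN₂ := H.conjRoot_step hN₁ hc
  set N₃ := (1 + N₂) * lift j (Eop G c c) * (1 - N₂) with hN₃def
  have hN₃ := H.conjRoot_step hN₂ hc
  obtain ⟨k, hk⟩ := hkills hN₃ hc fun v hv => by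
    set K := -ct G j v c (1 + N₁) with hK
    have hvc : ct G j v c N₂ = K * U := by
      refine H.hG.ext_left j fun x s => ?_
      rw [lift_Eop_mul_ct, mul_assoc, hN₂def, H.step_col, hK, neg_mul, mul_neg, mul_neg, ← mul_assoc, ← mul_assoc,
        ← mul_assoc, lift_Eop_mul_ct]
    have hR : ct G j c v N₂ = U * adjT G K := by
      rw [← H.adjT_ctc hN₂ v c, hvc, H.hG.adjT_mul, H.adjT_ctc hN₁ c c]
    refine ⟨W * adjT G K, hWc.mul (H.hG.adjT_comm ?_), fun s => ?_⟩
    · rw [hK, ← neg_one_smul F (ct G j v c _)]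
      exact (comm_cn _ _ _ _).smul _
    have e : ∀ u, N₃ * lift j (Eop G u s) = (1 + N₂) * lift j (Eop G c s) *
        (fG G u c • 1 - ct G j c u N₂) := fun u => by
      rw [hN₃def, mul_assoc, mul_assoc, mul_assoc, mul_sub (lift j (Eop G c s)), sub_mul, one_mul, mul_sub,
        ← lift_mul, Eop_mul, ← mul_assoc (lift j (Eop G c c)) N₂, ← lift_Eop_mul_ct, lift_smul]
      simp only [Matrix.mul_smul, mul_one]
    rw [mul_add, ← mul_assoc, e, e, hv, H.hG.self, hR]
    simp only [zero_smul, zero_sub]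
    rw [mul_assoc _ (-ct G j c c N₂), neg_mul, ← mul_add]
    have e2 : -(U * adjT G K) + -(ct G j c c N₂ * (W * adjT G K)) = 0 := by
      rw [hN₂def, H.step_ct, ← hUdef, neg_mul, neg_neg, ← mul_assoc, hUUW, neg_add_cancel]
    rw [e2, mul_zero]
  rw [H.step_ct, H.step_ct, ← hUdef, hU, neg_mul_neg, neg_mul_neg, ← pow_add, ← pow_add,
    neg_eq_iff_eq_neg, ← neg_smul] at hk
  by_cases hk0 : k = 0
  · refine ⟨0, ?_⟩
    rw [hk0, neg_zero, zero_smul] at hk
    rw [zero_smul]
    exact hnil _ hk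
  have hTW : T * ((-k)⁻¹ • T ^ (E + E + (E + E) - 1)) = 1 := by
    rw [Matrix.mul_smul, ← pow_succ', show E + E + (E + E) - 1 + 1 = E + E + (E + E) by
      have : 0 < E := Nat.two_pow_pos _
      omega, hk, smul_smul, inv_mul_cancel₀ (neg_ne_zero.2 hk0), one_smul]
  refine H.scalar_of_isUnit_of hkills h hc ?_ hTW
  have := comm_aeval hTc ((-k)⁻¹ • (Polynomial.X : F[X]) ^ (E + E + (E + E) - 1))
  rwa [map_smul, map_pow, aeval_X] at this

end Over

section Odd

variable [Fintype F] [NeZero m] {G : Matrix (Fin m) (Fin m) F} {M : Subgroup (GL (TI t m) F)} (H : SOver G M)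
include H

/-- The group-ring argument. -/
theorem SOver.scalar_of_kills (hB : NoHit G M) (hm : 3 ≤ m) {j : Fin t} {N : Matrix (TI t m) (TI t m) F}
    (h : ConjRoot G M j N) {c : Fin m → F} (hc : c ≠ 0)
    (hX : ∀ v, fG G v c = 0 → ∃ S, Comm j S ∧
      ∀ s, N * (lift j (Eop G v s) + lift j (Eop G c s) * S) = 0) :
    ∃ k : F, ct G j c c N = k • 1 := by
  classical
  by_contra hns
  choose S hS hNX using hX
  obtain ⟨hN, hNN, -⟩ := H.conjRoot_spec h
  obtain ⟨x₁, hx₁⟩ := H.hG.exists_left hc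
  set c' := (-1 : F) • x₁ with hc'
  have hcc : fG G c c' = 1 := by rw [hc', fG_smul_right, H.hG.swap, hx₁]; ring
  obtain ⟨v₀, hv₀, hv₀c, hv₀c'⟩ := H.exists_mid hm hcc
  set a := lift j (Eop G c c) with ha
  have haa : a * a = 0 := by rw [ha, ← lift_mul, Eop_self_mul H.hG, lift_zero]
  have haX : ∀ v (hv : fG G v c = 0) s, a * (lift j (Eop G v s) + lift j (Eop G c s) * S v hv) = 0 := fun v hv s => by
    rw [mul_add, ha, ← mul_assoc, ← lift_mul, ← lift_mul, Eop_mul, Eop_mul, hv, H.hG.self]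
    simp only [zero_smul, lift_zero, zero_mul, add_zero]
  obtain ⟨y, hyM, hyN⟩ := hN 1
  rw [one_smul] at hyN
  let gens : Set (GL (TI t m) F) :=
    {u | ∃ z : F, (u : Matrix (TI t m) (TI t m) F) = 1 + z • a} ∪ {y}
  set A := Subgroup.closure gens with hA
  haveI : Finite (Matrix (TI t m) (TI t m) F) := inferInstanceAs (Finite (TI t m → TI t m → F))
  haveI : Fintype A := Fintype.ofFinite _
  have hAM : A ≤ M := (Subgroup.closure_le _).2 fun u hu => by
    rcases hu with ⟨z, hz⟩ | rfl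
    · obtain ⟨g, hg, hgz⟩ := H.root_mem j c z
      rwa [show u = g from Units.ext (hz.trans hgz.symm)]
    · exact hyM
  have hfix : ∀ u ∈ A, ∀ v (hv : fG G v c = 0) s,
      (u : Matrix (TI t m) (TI t m) F) * (lift j (Eop G v s) + lift j (Eop G c s) * S v hv) =
        lift j (Eop G v s) + lift j (Eop G c s) * S v hv := by
    intro u hu
    induction hu using Subgroup.closure_induction with
    | mem u hu =>
      intro v hv s
      rcases hu with ⟨z, hz⟩ | rfl
      · rw [hz, add_mul, one_mul, Matrix.smul_mul, haX v hv s, smul_zero, add_zero]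
      · rw [hyN, add_mul, one_mul, hNX v hv s, add_zero]
    | one => intro v hv s; rw [Units.val_one, one_mul]
    | mul p q _ _ ihp ihq => intro v hv s; rw [Units.val_mul, mul_assoc, ihq v hv s, ihp v hv s]
    | inv p _ ih =>
      intro v hv s
      conv_lhs => rw [← ih v hv s]
      rw [← mul_assoc, Units.inv_mul, one_mul]
  -- the normaliser of the root group inside `A`
  have stab : ∀ u ∈ A, ∀ k : F, (u : Matrix (TI t m) (TI t m) F) * a = k • (a * (u : Matrix (TI t m) (TI t m) F)) →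
      u ∈ famU (F := F) a haa := by
    intro u hu k hk
    have hmap : MapR G j (u : Matrix (TI t m) (TI t m) F) c c
        (k • ct G j c x₁ (u : Matrix (TI t m) (TI t m) F)) := fun s => by
      rw [show Eop G c s = Eop G c c * Eop G x₁ s by rw [Eop_mul, hx₁, one_smul], lift_mul, ← mul_assoc, ← ha, hk,
        Matrix.smul_mul, ha, ← lift_Eop_mul_ct, ← lift_mul, Eop_mul, hx₁, one_smul, Matrix.mul_smul]
    have hγ : Comm j (k • ct G j c x₁ (u : Matrix (TI t m) (TI t m) F)) := (comm_cn j _ _ _).smul k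
    obtain ⟨β, α, hα, huβ⟩ := H.kronAt (H.crit hB) (Or.inl hm) (hAM hu) hc hγ hmap
    have hαne : α ≠ 0 := by
      intro e
      rw [e, mul_zero] at huβ
      exact not_isUnit_zero (M₀ := Matrix (TI t m) (TI t m) F) ⟨u, huβ⟩
    have hβmap : ∀ x, MapR G j (u : Matrix (TI t m) (TI t m) F) x (β *ᵥ x) α := fun x s => by
      rw [huβ, mul_assoc, ← hα, ← mul_assoc, ← lift_mul, mul_Eop]
    have hperp : ∀ r, fG G c r = 0 → fG G (β *ᵥ c) r = 0 := fun r hr => by
      have h1 := (hβmap c).ct_eq H.hG hα r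
      rw [hmap.ct_eq H.hG hγ r, hr, zero_smul, eq_comm, smul_eq_zero] at h1
      exact h1.resolve_right hαne
    -- rows orthogonal to `c`
    have hrow : ∀ v (hv : fG G v c = 0), ∀ r,
        fG G (β *ᵥ v) r • α + fG G (β *ᵥ c) r • (α * S v hv) =
          fG G v r • (1 : Matrix (TI t m) (TI t m) F) + fG G c r • S v hv := fun v hv r => by
      have h1 := congrArg (fun Z => lift j (Eop G x₁ r) * Z) (hfix u hu v hv c)
      simp only [mul_add, ← mul_assoc] at h1
      rw [mul_assoc (lift j (Eop G x₁ r)), hβmap v, mul_assoc (lift j (Eop G x₁ r)) (u : Matrix (TI t m) (TI t m) F),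
        hβmap c] at h1
      simp only [← mul_assoc, ← lift_mul, Eop_mul, lift_smul, Matrix.smul_mul] at h1
      rw [mul_assoc (lift j (Eop G x₁ c))] at h1
      rw [← sub_eq_zero]
      refine eq_zero_of_lift_mul (η := Eop G x₁ c) ?_ (i := j) ?_ ?_
      · intro e
        have := congrArg (fun Z => Z *ᵥ x₁) e
        simp only [Eop_mulVec, hx₁, one_smul, Matrix.zero_mulVec] at this
        rw [this, ← zero_smul F c, fG_smul_left, zero_mul] at hx₁
        exact zero_ne_one hx₁
      · exact (((hα.smul _).add ((hα.mul (hS v hv)).smul _))).sub (((comm_one j).smul _).add ((hS v hv).smul _))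
      · rw [mul_sub, mul_add, mul_add, Matrix.mul_smul, Matrix.mul_smul, Matrix.mul_smul, Matrix.mul_smul, mul_one, h1,
          sub_self]
    obtain ⟨d₀, hd₀, hd₀c, -⟩ := exists_middle H.hG hcc hv₀c hv₀c' hv₀
    have hcd₀ : fG G c d₀ = 0 := H.hG.swap_zero hd₀c
    obtain ⟨l, hl⟩ : ∃ l : F, α = l • 1 := by
      have h1 := hrow v₀ hv₀c d₀
      rw [hd₀, hcd₀, hperp d₀ hcd₀, zero_smul, zero_smul, add_zero, add_zero, one_smul] at h1
      have hne : fG G (β *ᵥ v₀) d₀ ≠ 0 := by
        intro e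
        rw [e, zero_smul] at h1
        exact one_ne_zero h1.symm
      exact ⟨(fG G (β *ᵥ v₀) d₀)⁻¹, by rw [← h1, smul_smul, inv_mul_cancel₀ hne, one_smul]⟩
    have hl0 : l ≠ 0 := by rintro rfl; exact hαne (by rw [hl, zero_smul])
    set γ := l • β with hγdef
    have huγ : (u : Matrix (TI t m) (TI t m) F) = lift j γ := by
      rw [huβ, hl, Matrix.mul_smul, mul_one, hγdef, lift_smul]
    have hrow' : ∀ v (hv : fG G v c = 0), ∀ r,
        (fG G (γ *ᵥ v) r - fG G v r) • (1 : Matrix (TI t m) (TI t m) F) +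
          (fG G (γ *ᵥ c) r - fG G c r) • S v hv = 0 := fun v hv r => by
      have h1 := hrow v hv r
      rw [hl, Matrix.smul_mul, one_mul, smul_smul, smul_smul] at h1
      simp only [hγdef, Matrix.smul_mulVec, fG_smul_left]
      linear_combination (norm := module) h1
    have hγiso : adjG G γ * γ = 1 := lift_injective j (by
      rw [lift_mul, ← H.hG.adjT_lift, ← huγ, lift_one]
      exact H.iso u (hAM hu))
    by_cases hd : γ *ᵥ c = c
    · -- a transvection
      have hfixp : ∀ v, fG G v c = 0 → γ *ᵥ v = v := fun v hv => by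
        refine sub_eq_zero.1 (H.hG.eq_zero_of_left fun r => ?_)
        have h1 := hrow' v hv r
        rw [hd, sub_self, zero_smul, add_zero, smul_eq_zero] at h1
        have h2 := h1.resolve_right one_ne_zero
        rw [TransvectionMax.sub_right H.hG.isSymplecticForm.bilinear, H.hG.swap r (γ *ᵥ v), H.hG.swap r v]
        linear_combination -h2
      set w := γ *ᵥ x₁ - x₁ with hw
      obtain ⟨z, hz⟩ : ∃ z : F, w = z • c := by
        refine ⟨fG G w x₁ / fG G c x₁, sub_eq_zero.1 (H.hG.eq_zero_of_left fun r => ?_)⟩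
        have hwv : ∀ v, fG G v c = 0 → fG G w v = 0 := fun v hv => by
          have h1 : fG G (γ *ᵥ x₁) (γ *ᵥ v) = fG G x₁ v := by
            rw [← H.hG.fG_adj γ x₁ (γ *ᵥ v), Matrix.mulVec_mulVec, hγiso, Matrix.one_mulVec]
          rw [hfixp v hv] at h1
          rw [hw, TransvectionMax.sub_left H.hG.isSymplecticForm.bilinear, h1, sub_self]
        have hcx : fG G c x₁ = -1 := by rw [H.hG.swap, hx₁]
        have h1 := hwv (r + -fG G r c • x₁) (by rw [fG_add_left, fG_smul_left, hx₁]; ring)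
        rw [fG_add_right, fG_smul_right] at h1
        rw [TransvectionMax.sub_right H.hG.isSymplecticForm.bilinear, fG_smul_right, H.hG.swap r w, hcx]
        linear_combination -h1
      refine ⟨z, ?_⟩
      rw [huγ, ha, ← lift_smul, ← lift_one j, ← lift_add]
      congr 1
      refine Matrix.ext_iff_mulVec.mpr fun x => ?_
      rw [Matrix.add_mulVec, Matrix.one_mulVec, Matrix.smul_mulVec z (Eop G c c), Eop_mulVec,
        show x = (x + -fG G x c • x₁) + fG G x c • x₁ by module, Matrix.mulVec_add, Matrix.mulVec_smul,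
        hfixp _ (by rw [fG_add_left, fG_smul_left, hx₁]; ring), fG_add_left, fG_add_left, fG_smul_left, fG_smul_left,
        hx₁, show γ *ᵥ x₁ = x₁ + z • c by rw [← hz, hw]; abel]
      module
    -- an isotropic ruler killed by `N`
    exfalso
    obtain ⟨r, hr⟩ : ∃ r, fG G (γ *ᵥ c) r - fG G c r ≠ 0 := by
      by_contra! hr
      refine hd (sub_eq_zero.1 (H.hG.eq_zero_of_left fun r => ?_))
      rw [TransvectionMax.sub_right H.hG.isSymplecticForm.bilinear, H.hG.swap r (γ *ᵥ c), H.hG.swap r c]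
      linear_combination -hr r
    obtain ⟨σ, hσ⟩ : ∃ σ : F, S v₀ hv₀c = σ • 1 := by
      refine ⟨-((fG G (γ *ᵥ v₀) r - fG G v₀ r) / (fG G (γ *ᵥ c) r - fG G c r)), ?_⟩
      have h1 := eq_neg_of_add_eq_zero_right (hrow' v₀ hv₀c r)
      rw [← neg_smul] at h1
      rw [neg_div', div_eq_inv_mul, mul_smul, ← h1, smul_smul, inv_mul_cancel₀ hr, one_smul]
    set x := v₀ + σ • c with hx
    have hxne : x ≠ 0 := by
      intro e
      have h1 := congrArg (fun w => fG G w c') e
      simp only [hx, fG_add_left, fG_smul_left, hv₀c', hcc, mul_one, zero_add] at h1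
      rw [← zero_smul F c, fG_smul_left, zero_mul] at h1
      rw [hx, h1, zero_smul, add_zero] at e
      exact hv₀ e
    have hNx : ∀ s, N * lift j (Eop G x s) = 0 := fun s => by
      have := hNX v₀ hv₀c s
      rwa [hσ, Matrix.mul_smul, mul_one, ← lift_smul, ← Eop_smul_left, ← lift_add, ← Eop_add_left] at this
    have hTx : ct G j x x N = 0 := by
      refine H.hG.ext_left j fun p s => ?_
      rw [lift_Eop_mul_ct, mul_assoc, hNx, mul_zero, mul_zero]
    exact hns (H.ct_scalar_of_decomposed c (H.alg_or_comm_of_zero hB (Or.inl hm) h hxne hTx))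
  -- the group-ring trick
  set P := (famU (F := F) a haa).subgroupOf A with hP
  haveI : DecidablePred (· ∈ P) := Classical.decPred _
  have haA : ∀ z : F, ∃ u ∈ A, (u : Matrix (TI t m) (TI t m) F) = 1 + z • a := fun z => by
    obtain ⟨g, -, hgz⟩ := H.root_mem j c z
    exact ⟨g, Subgroup.subset_closure (Or.inl ⟨z, hgz⟩), hgz⟩
  choose e he hev using haA
  have hTI : ∀ g : A, ∀ x ∈ P, x ≠ 1 → g * x * g⁻¹ ∈ P → g ∈ P := by
    intro g x hxP hne hgx
    obtain ⟨z, hz⟩ := Subgroup.mem_subgroupOf.1 hxP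
    obtain ⟨z', hz'⟩ := Subgroup.mem_subgroupOf.1 hgx
    have hz0 : z ≠ 0 := by
      rintro rfl
      exact hne (Subtype.ext (Units.ext (by rw [hz, zero_smul, add_zero]; rfl)))
    refine Subgroup.mem_subgroupOf.2 (stab g g.2 (z' / z) ?_)
    set gv := ((g : GL (TI t m) F) : Matrix (TI t m) (TI t m) F) with hgv
    rw [Subgroup.coe_mul, Subgroup.coe_mul, Subgroup.coe_inv, Units.val_mul, Units.val_mul, hz, ← hgv, mul_add,
      mul_one, add_mul, hgv, Units.mul_inv, add_right_inj, ← hgv] at hz'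
    have h1 := congrArg (fun Z => z⁻¹ • (Z * gv)) hz'
    simp only [mul_assoc, hgv, Units.inv_mul, mul_one, Matrix.mul_smul, Matrix.smul_mul, smul_smul,
      inv_mul_cancel₀ hz0, one_smul] at h1
    rw [h1, div_eq_inv_mul]
  obtain ⟨p, hp⟩ := CharP.exists F
  haveI : Fact p.Prime := ⟨(CharP.char_is_prime_or_zero F p).resolve_right (CharP.char_ne_zero_of_finite F p)⟩
  haveI : CharP (Matrix (TI t m) (TI t m) F) p :=
    charP_of_injective_algebraMap (algebraMap F (Matrix (TI t m) (TI t m) F)).injective p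
  let ρ : A →* Matrix (TI t m) (TI t m) F := (Units.coeHom _).comp A.subtype
  let eP : F → P := fun z => ⟨⟨e z, he z⟩, Subgroup.mem_subgroupOf.2 ⟨z, hev z⟩⟩
  have hane : a ≠ 0 := fun h0 => Eop_ne_zero H.hG hc (lift_injective j (by rw [← ha, h0, lift_zero]))
  have hbij : Function.Bijective eP := by
    constructor
    · intro z z' hzz
      have h1 : ((e z : GL (TI t m) F) : Matrix (TI t m) (TI t m) F) = (e z' : GL (TI t m) F) :=
        congrArg (fun q : P => (((q : A) : GL (TI t m) F) : Matrix (TI t m) (TI t m) F)) hzz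
      rw [hev, hev, add_right_inj] at h1
      exact smul_left_injective F hane h1
    · rintro ⟨⟨u, huA⟩, hu⟩
      obtain ⟨z, hz⟩ := Subgroup.mem_subgroupOf.1 hu
      exact ⟨z, Subtype.ext (Subtype.ext (Units.ext ((hev z).trans hz.symm)))⟩
  have htop := eq_top_of_sum_zero (p := p) ρ (Units.val_injective.comp Subtype.val_injective) P ?_ ?_ ?_ hTI ?_
  · obtain ⟨z, hz⟩ := Subgroup.mem_subgroupOf.1
      (htop ▸ Subgroup.mem_top (⟨y, Subgroup.subset_closure (Or.inr rfl)⟩ : A) :
        (⟨y, Subgroup.subset_closure (Or.inr rfl)⟩ : A) ∈ P)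
    rw [hyN, add_right_inj] at hz
    refine hns (H.ct_scalar_of_decomposed c (Or.inl ⟨z • Eop G c c, ?_⟩))
    rw [hz, ha, lift_smul]
  · intro q
    obtain ⟨z, hz⟩ := Subgroup.mem_subgroupOf.1 q.2
    refine ⟨1, Subtype.ext (Subtype.ext (Units.ext ?_))⟩
    rw [pow_one, SubmonoidClass.coe_pow, SubmonoidClass.coe_pow, Units.val_pow_eq_pow_val, hz]
    show _ = (1 : Matrix (TI t m) (TI t m) F)
    rw [add_pow_char_of_commute p (Commute.one_left _), one_pow,
      show (z • a) ^ p = 0 from pow_eq_zero_of_le (Fact.out : p.Prime).two_le (by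
        rw [sq, Matrix.smul_mul, Matrix.mul_smul, haa, smul_zero, smul_zero]), add_zero]
  · intro q hq q' hq'
    obtain ⟨z, hz⟩ := Subgroup.mem_subgroupOf.1 hq
    obtain ⟨z', hz'⟩ := Subgroup.mem_subgroupOf.1 hq'
    refine Subtype.ext (Units.ext ?_)
    rw [Subgroup.coe_mul, Subgroup.coe_mul, Units.val_mul, Units.val_mul, hz, hz']
    simp only [mul_add, add_mul, mul_one, one_mul, Matrix.smul_mul, Matrix.mul_smul, haa, smul_zero, add_zero]
    abel
  · intro q hq
    refine hTI q _ (eP 1).2 (fun h1 => ?_) ((Subgroup.mem_normalizer_iff.1 hq _).1 (eP 1).2)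
    have h2 := hev 1
    rw [show e 1 = (1 : GL (TI t m) F) from congrArg Subtype.val h1, Units.val_one, one_smul,
      left_eq_add] at h2
    exact hane h2
  · rw [← Fintype.sum_bijective eP hbij (fun z => ρ (eP z : A)) (fun q : P => ρ (q : A)) (fun _ => rfl)]
    show ∑ z : F, ((e z : GL (TI t m) F) : Matrix (TI t m) (TI t m) F) = 0
    simp only [hev]
    rw [Finset.sum_add_distrib, ← Finset.sum_smul, Finset.sum_const, Finset.card_univ]
    have hsum : ∑ z : F, z = 0 := by
      have h1 : ∑ z : F, -z = ∑ z : F, z := Fintype.sum_equiv (Equiv.neg F) _ _ fun _ => rfl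
      rw [Finset.sum_neg_distrib] at h1
      have h2 : (2 : F) * ∑ z : F, z = 0 := by linear_combination -h1
      exact (mul_eq_zero.1 h2).resolve_left H.two
    rw [hsum, zero_smul, add_zero, nsmul_eq_mul, mul_one, ← map_natCast (algebraMap F (Matrix (TI t m) (TI t m) F)),
      FiniteField.cast_card_eq_zero, map_zero]

theorem SOver.kills (hB : NoHit G M) (hm : 3 ≤ m) : Kills G M :=
  fun h _ hc hX => H.scalar_of_kills hB hm h hc hX

theorem SOver.scalar_of_three (hB : NoHit G M) (hm : 3 ≤ m) {j : Fin t} {N : Matrix (TI t m) (TI t m) F}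
    (h : ConjRoot G M j N) {c : Fin m → F} (hc : c ≠ 0) : ∃ k : F, ct G j c c N = k • 1 :=
  H.scalar_of_three_of (H.kills hB hm) h hc fun n hn => H.ct_eq_zero_of_nilpotent hB (Or.inl hm) hc n h hn

theorem SOver.scalar_of_large (hB : NoHit G M) (hq : 4 < Fintype.card F) {j : Fin t}
    {N : Matrix (TI t m) (TI t m) F} (h : ConjRoot G M j N) {c : Fin m → F} (hc : c ≠ 0) :
    ∃ k : F, ct G j c c N = k • 1 := by
  classical
  by_contra hns
  set T := ct G j c c N with hT
  have hTc : Comm j T := comm_cn _ _ _ _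
  obtain ⟨hN, hNN, -⟩ := H.conjRoot_spec h
  have hk2 : (2 : F) ≠ 0 := H.two
  have hk3 : Nat.card F ≠ 3 := by rw [Nat.card_eq_fintype_card]; omega
  set a := lift j (Eop G c c) with ha
  have haa : a * a = 0 := by rw [ha, ← lift_mul, Eop_self_mul H.hG, lift_zero]
  let φ : Matrix (TI t m) (TI t m) F ≃ₐ[F] Module.End F (TI t m → F) := Matrix.toLinAlgEquiv'
  have ha' : φ a * φ a = 0 := by rw [← map_mul, haa, map_zero]
  have hb' : φ N * φ N = 0 := by rw [← map_mul, hNN, map_zero]
  set z := QuadPairSL2.zz (φ a) (φ N) with hz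
  have hev : ∀ p : F[X], aeval z p * φ a = φ (a * aeval T p) := by
    have hzz : ∀ Y, Comm j Y → z * φ (a * Y) = φ (a * (T * Y)) := fun Y _ => by
      rw [hz, QuadPairSL2.zz, ← map_mul, ← map_mul, ← map_add, ← map_mul]
      congr 1
      have e1 : a * N * a = a * T := (lift_Eop_mul_ct j c c c c N).symm
      rw [add_mul, mul_assoc N, ← mul_assoc a a, haa, zero_mul, mul_zero, add_zero, ← mul_assoc, e1, mul_assoc]
    intro p
    induction p using Polynomial.induction_on' with
    | add p q hp hq => rw [map_add, map_add, add_mul, hp, hq, mul_add, map_add]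
    | monomial n l =>
      rw [aeval_monomial, aeval_monomial, ← Algebra.smul_def, ← Algebra.smul_def, smul_mul_assoc, mul_smul_comm,
        map_smul]
      congr 1
      induction n with
      | zero => rw [pow_zero, pow_zero, one_mul, mul_one]
      | succ n ih =>
        rw [pow_succ', mul_assoc, ih, hzz _ (by simpa using comm_aeval hTc ((Polynomial.X : F[X]) ^ n)), ← pow_succ']
  let ψ : GL (TI t m) F →* LinearMap.GeneralLinearGroup F (TI t m → F) := Units.map (φ : _ →* _)
  have hgrp : QuadPairSL2.grp (φ a) (φ N) ≤ M.map ψ := by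
    refine (Subgroup.closure_le _).2 ?_
    rintro u (⟨l, hl⟩ | ⟨l, hl⟩)
    · obtain ⟨g, hg, hgl⟩ := H.root_mem j c l
      refine ⟨g, hg, Units.ext ?_⟩
      show φ (g : Matrix (TI t m) (TI t m) F) = u
      rw [hl, hgl, map_add, map_one, map_smul, ha]
    · obtain ⟨g, hg, hgl⟩ := hN l
      refine ⟨g, hg, Units.ext ?_⟩
      show φ (g : Matrix (TI t m) (TI t m) F) = u
      rw [hl, hgl, map_add, map_one, map_smul]
  have hroot : ∀ ρ : F[X], QuadPairCore.InH (φ a) (φ N) (aeval z ρ * φ a) → ∃ k : F, aeval T ρ = k • 1 := by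
    intro ρ hρ
    obtain ⟨u, hu, hu1⟩ := hρ 1
    obtain ⟨g, hg, rfl⟩ := hgrp hu
    have h1 : φ (g : Matrix (TI t m) (TI t m) F) = φ (1 + a * aeval T ρ) := by
      rw [map_add, map_one, ← hev, ← one_smul F (aeval z ρ * φ a)]
      exact hu1
    exact H.scalar_of_root hB hc (comm_aeval hTc ρ) ⟨g, hg, φ.injective h1⟩
  obtain ⟨f₁, hfe, hf₁⟩ := exists_eq_pow_rootMultiplicity_mul_and_not_dvd (minpoly F T)
    (minpoly.ne_zero (Algebra.IsIntegral.isIntegral T)) 0
  rw [C_0, sub_zero] at hfe hf₁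
  set e := (minpoly F T).rootMultiplicity 0
  set f := minpoly F T with hf
  have hfne : f ≠ 0 := minpoly.ne_zero (Algebra.IsIntegral.isIntegral T)
  have hpa : aeval z f * φ a = 0 := by rw [hev, minpoly.aeval, mul_zero, map_zero]
  by_cases hu : IsUnit f₁
  · refine hns ⟨0, ?_⟩
    rw [zero_smul]
    refine H.ct_eq_zero_of_nilpotent hB (Or.inr hq) hc e h ?_
    have hd : f ∣ Polynomial.X ^ e := by rw [hfe]; exact (IsUnit.mul_right_dvd hu).2 dvd_rfl
    have h1 := aeval_eq_zero_of_dvd_aeval_eq_zero hd (minpoly.aeval F T)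
    rwa [map_pow, aeval_X] at h1
  rcases Nat.eq_zero_or_pos e with he | he
  swap
  · have hf₁ne : f₁ ≠ 0 := fun h0 => hfne (by rw [hfe, h0, mul_zero])
    obtain ⟨ρ, hnear, hρe, hρn⟩ := QuadPairCore.mixed_near hk2 hk3 e hf₁ne hu hf₁
    rw [← hfe] at hnear
    have hi := QuadPairCore.inH_of_near hk2 ha' hb' (p := Polynomial.X * f)
      (by rw [map_mul, mul_assoc, hpa, mul_zero]) (QuadPairCore.flip_kill hb' _ hpa) hnear
    obtain ⟨k, hk⟩ := hroot ρ hi
    have hdvd : f ∣ ρ - C k := minpoly.dvd F T (by rw [map_sub, aeval_C, hk, Algebra.algebraMap_eq_smul_one, sub_self])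
    have hXρ : (Polynomial.X : F[X]) ∣ ρ := (dvd_pow_self Polynomial.X (by omega)).trans hρe
    have hXf : (Polynomial.X : F[X]) ∣ f := hfe ▸ (dvd_pow_self Polynomial.X (by omega)).trans (dvd_mul_right _ _)
    have hk0 : k = 0 := by
      have h1 : (Polynomial.X : F[X]) ∣ C k := by
        have := dvd_sub hXρ (hXf.trans hdvd)
        rwa [sub_sub_cancel] at this
      simpa using X_dvd_iff.1 h1
    rw [hk0, C_0, sub_zero] at hdvd
    exact hρn ((Dvd.intro_left _ hfe.symm).trans hdvd)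
  rw [he, pow_zero, one_mul] at hfe
  rw [← hfe] at hf₁ hu
  obtain ⟨α, β, hαβ⟩ := Polynomial.prime_X.irreducible.coprime_iff_not_dvd.2 hf₁
  have hTW : T * aeval T α = 1 := by
    have h1 := congrArg (aeval T) hαβ
    rw [map_add, map_mul, map_mul, aeval_X, hf, minpoly.aeval, mul_zero, add_zero, map_one] at h1
    exact mul_eq_one_comm.1 h1
  obtain ⟨g, hg, b, hb, hNg⟩ := id h
  obtain ⟨L, hL, hPL⟩ := H.right_inverse hNg (comm_aeval hTc α) hTW
  obtain ⟨x, hx⟩ := H.hG.exists_left hc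
  set gi := ((g⁻¹ : GL (TI t m) F) : Matrix (TI t m) (TI t m) F) with hgi
  have hND : N = N * a * (lift j (Eop G x b) * L * gi) := by
    have e1 : N * lift j (Eop G c b) = (g : Matrix (TI t m) (TI t m) F) * lift j (Eop G b b) * ct G j b c gi := by
      rw [hNg, mul_assoc, mul_assoc, mul_assoc, lift_Eop_mul_ct, mul_assoc]
    rw [mul_assoc N, ← mul_assoc a, ← mul_assoc a, ha, ← lift_mul, Eop_mul, hx, one_smul, ← mul_assoc N,
      ← mul_assoc N, e1, mul_assoc _ (ct G j b c gi) L, hPL, mul_one]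
    exact hNg
  have hpb : aeval z f * φ N = 0 := by
    rw [hND, map_mul, map_mul, ← mul_assoc, ← mul_assoc, (QuadPairSL2.aeval_commute
      (QuadPairSL2.zz_comm_right (a := φ a) hb') f).eq, mul_assoc (φ N) _ (φ a), hpa, mul_zero, zero_mul]
  haveI := QuadPairCore.finite_adjoinRoot (N := f) hfne
  haveI : Nontrivial (AdjoinRoot f) := AdjoinRoot.nontrivial f (fun h0 => hu (isUnit_iff_degree_eq_zero.2 h0))
  have hlam : IsUnit (AdjoinRoot.root f) := by
    refine IsUnit.of_mul_eq_one (AdjoinRoot.mk f α) ?_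
    rw [← AdjoinRoot.mk_X, ← map_mul, ← map_one (AdjoinRoot.mk f), AdjoinRoot.mk_eq_mk]
    exact ⟨-β, by linear_combination hαβ⟩
  have hscal : ∀ ρ : F[X], QuadPairSL2.up (AdjoinRoot.mk f ρ) ∈ QuadPairSL2.dick F (AdjoinRoot.root f) →
      ∃ k : F, aeval T ρ = k • 1 := fun ρ hρ =>
    hroot ρ (QuadPairCore.inH_of_near hk2 ha' hb' hpa hpb (QuadPairCore.near_of_mem hf₁ hρ))
  have htop : QuadPairSL2.dick F (AdjoinRoot.root f) = ⊤ := by
    refine QuadPairRed.dick_eq_top_of_units hk2 hk3 hlam AdjoinRoot.adjoinRoot_eq_top fun r hr0 hr => ?_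
    obtain ⟨σ, rfl⟩ := AdjoinRoot.mk_surjective r
    obtain ⟨k, hk⟩ := hscal σ hr
    have hdvd : f ∣ σ - C k := minpoly.dvd F T (by rw [map_sub, aeval_C, hk, Algebra.algebraMap_eq_smul_one, sub_self])
    rw [← AdjoinRoot.mk_eq_mk, AdjoinRoot.mk_C] at hdvd
    rw [hdvd] at hr0 ⊢
    exact (isUnit_iff_ne_zero.2 fun h0 => hr0 (by rw [h0, map_zero])).map (AdjoinRoot.of f)
  obtain ⟨k, hk⟩ := hscal Polynomial.X (htop ▸ Subgroup.mem_top _)
  rw [aeval_X] at hk
  exact hns ⟨k, hk⟩

/-- The contraction is scalar. -/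
theorem SOver.ct_scalar (hB : NoHit G M) (hex : 3 ≤ m ∨ 4 < Fintype.card F) {j : Fin t}
    {N : Matrix (TI t m) (TI t m) F} (h : ConjRoot G M j N) {c : Fin m → F} (hc : c ≠ 0) :
    ∃ k : F, ct G j c c N = k • 1 :=
  hex.elim (fun hm => H.scalar_of_three hB hm h hc) (fun hq => H.scalar_of_large hB hq h hc)

theorem SOver.isotropic_of_scalar (hm : 3 ≤ m) {j : Fin t} {N : Matrix (TI t m) (TI t m) F}
    (hs : ∀ c, c ≠ 0 → ∃ k : F, ct G j c c N = k • 1) (hne : ∀ c, c ≠ 0 → ct G j c c N ≠ 0) : False := by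
  classical
  have hne' : ∀ c, c ≠ 0 → ∃ k : F, k ≠ 0 ∧ ct G j c c N = k • 1 := fun c hc => by
    obtain ⟨k, hk⟩ := hs c hc
    exact ⟨k, fun h0 => hne c hc (by rw [hk, h0, zero_smul]), hk⟩
  obtain ⟨x₀⟩ : Nonempty (TI t m) := ⟨fun _ => 0⟩
  let Bf : (Fin m → F) → (Fin m → F) → F := fun u v => (ct G j u v N + ct G j v u N) x₀ x₀
  let Bl : (Fin m → F) → (Fin m → F) →ₗ[F] F := fun u =>
    { toFun := fun v => Bf u v
      map_add' := fun v w => by simp only [Bf, ct_add_left, ct_add_right, Matrix.add_apply]; ring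
      map_smul' := fun l v => by
        simp only [Bf, ct_smul_left, ct_smul_right, Matrix.add_apply, Matrix.smul_apply, smul_eq_mul, RingHom.id_apply]
        ring }
  have hker : ∀ u v : Fin m → F, ∃ w, w ≠ 0 ∧ Bf u w = 0 ∧ Bf v w = 0 := by
    intro u v
    have hne : LinearMap.ker ((Bl u).prod (Bl v)) ≠ ⊥ := LinearMap.ker_ne_bot_of_finrank_lt (by
      rw [Module.finrank_prod, Module.finrank_self, Module.finrank_fin_fun]; omega)
    obtain ⟨w, hw, hw0⟩ := Submodule.exists_mem_ne_zero_of_ne_bot hne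
    rw [LinearMap.mem_ker] at hw
    exact ⟨w, hw0, congrArg Prod.fst hw, congrArg Prod.snd hw⟩
  have hself : ∀ c, c ≠ 0 → ∃ k : F, k ≠ 0 ∧ ct G j c c N = k • 1 ∧ Bf c c = 2 * k := fun c hc => by
    obtain ⟨k, hk0, hk⟩ := hne' c hc
    refine ⟨k, hk0, hk, ?_⟩
    show (ct G j c c N + ct G j c c N) x₀ x₀ = 2 * k
    rw [hk, Matrix.add_apply, Matrix.smul_apply, Matrix.one_apply_eq, smul_eq_mul, mul_one, two_mul]
  let e₁ : Fin m → F := Pi.single 0 1
  have he₁ : e₁ ≠ 0 := fun e => one_ne_zero (α := F) (by simpa [e₁] using congrFun e 0)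
  obtain ⟨e₂, he₂, hB12, -⟩ := hker e₁ e₁
  obtain ⟨e₃, he₃, hB13, hB23⟩ := hker e₁ e₂
  obtain ⟨A, hA0, hA, hBA⟩ := hself e₁ he₁
  obtain ⟨B, hB0, hB, hBB⟩ := hself e₂ he₂
  obtain ⟨C', hC0, hC, hBC⟩ := hself e₃ he₃
  have hodd : Fintype.card F % 2 = 1 :=
    FiniteField.odd_card_of_char_ne_two fun h2 => H.two (by
      have := CharP.cast_eq_zero F (ringChar F)
      rwa [h2, Nat.cast_ofNat] at this)
  obtain ⟨a, b, hab⟩ := FiniteField.exists_root_sum_quadratic (R := F)
    (f := Polynomial.C A * Polynomial.X ^ 2 + Polynomial.C C') (g := Polynomial.C B * Polynomial.X ^ 2)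
    (by rw [degree_add_C (by rw [degree_C_mul_X_pow 2 hA0]; exact WithBot.coe_lt_coe.2 two_pos),
      degree_C_mul_X_pow 2 hA0]; rfl)
    (by rw [degree_C_mul_X_pow 2 hB0]; rfl) hodd
  simp only [eval_add, eval_mul, eval_C, eval_pow, eval_X] at hab
  set w := a • e₁ + b • e₂ + e₃ with hw
  have hwne : w ≠ 0 := by
    intro e
    have h1 := congrArg (Bl e₁) e
    have h2 := congrArg (Bl e₂) e
    have hB21 : Bf e₂ e₁ = 0 := by
      show (ct G j e₂ e₁ N + ct G j e₁ e₂ N) x₀ x₀ = 0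
      rw [add_comm]
      exact hB12
    rw [hw, map_add, map_add, map_smul, map_smul, map_zero] at h1 h2
    change a * Bf e₁ e₁ + b * Bf e₁ e₂ + Bf e₁ e₃ = 0 at h1
    change a * Bf e₂ e₁ + b * Bf e₂ e₂ + Bf e₂ e₃ = 0 at h2
    rw [hBA, hB12, hB13, mul_zero, add_zero, add_zero] at h1
    rw [hB21, hBB, hB23, mul_zero, zero_add, add_zero] at h2
    have ha0 := (mul_eq_zero.1 h1).resolve_right (mul_ne_zero H.two hA0)
    have hb0 := (mul_eq_zero.1 h2).resolve_right (mul_ne_zero H.two hB0)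
    rw [hw, ha0, hb0, zero_smul, zero_smul, zero_add, zero_add] at e
    exact he₃ e
  obtain ⟨k, hk0, hk⟩ := hne' w hwne
  refine hk0 ?_
  have h1 := congrFun (congrFun hk x₀) x₀
  rw [Matrix.smul_apply, Matrix.one_apply_eq, smul_eq_mul, mul_one] at h1
  rw [← h1, hw]
  simp only [ct_add_left, ct_add_right, ct_smul_left, ct_smul_right, hA, hB, hC, Matrix.add_apply, Matrix.smul_apply,
    Matrix.one_apply_eq, smul_eq_mul]
  change (ct G j e₁ e₂ N + ct G j e₂ e₁ N) x₀ x₀ = 0 at hB12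
  change (ct G j e₁ e₃ N + ct G j e₃ e₁ N) x₀ x₀ = 0 at hB13
  change (ct G j e₂ e₃ N + ct G j e₃ e₂ N) x₀ x₀ = 0 at hB23
  simp only [Matrix.add_apply] at hB12 hB13 hB23
  linear_combination hab + (a * b) * hB12 + a * hB13 + b * hB23

/-- The local alternative. -/
theorem SOver.alg_or_comm (hB : NoHit G M) (hex : 3 ≤ m ∨ 4 < Fintype.card F) {j : Fin t}
    {N : Matrix (TI t m) (TI t m) F} (h : ConjRoot G M j N) : (∃ η, N = lift j η) ∨ Comm j N := by
  classical
  by_cases hz : ∃ c, c ≠ 0 ∧ ct G j c c N = 0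
  · obtain ⟨c, hc, hT⟩ := hz
    exact H.alg_or_comm_of_zero hB hex h hc hT
  push Not at hz
  have hs : ∀ c, c ≠ 0 → ∃ k : F, ct G j c c N = k • 1 := fun c hc => H.ct_scalar hB hex h hc
  by_cases hm : 3 ≤ m
  · exact (H.isotropic_of_scalar hm hs hz).elim
  -- a plane
  let b : Fin m → F := Pi.single 0 1
  have hb : b ≠ 0 := fun e => one_ne_zero (α := F) (by simpa [b] using congrFun e 0)
  obtain ⟨x, hx⟩ := H.hG.exists_left hb
  set b' := (-1 : F) • x with hb'
  have hbb : fG G b b' = 1 := by rw [hb', fG_smul_right, H.hG.swap, hx]; ring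
  have hb'b : fG G b' b = -1 := by rw [H.hG.swap, hbb]
  have hb'ne : b' ≠ 0 := fun e => by rw [e, ← zero_smul F b, fG_smul_right, zero_mul] at hbb; exact zero_ne_one hbb
  have hone : (1 : Matrix (TI t m) (TI t m) F) = lift j (Eop G b b') - lift j (Eop G b' b) := by
    rw [← lift_one j, ← show lift j (Eop G b b' - Eop G b' b) = lift j (Eop G b b') - lift j (Eop G b' b) from
      map_sub (liftHom (F := F) j) _ _]
    congr 1
    refine Matrix.ext_iff_mulVec.mpr fun r => ?_
    rw [Matrix.one_mulVec, Matrix.sub_mulVec, Eop_mulVec, Eop_mulVec]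
    have hmid : mid G b b' r = 0 := by
      by_contra hr
      obtain ⟨hr1, hr2⟩ := mid_spec H.hG hbb r
      obtain ⟨d, hd, hdb, hdb'⟩ := exists_middle H.hG hbb hr1 hr2 hr
      have hli : LinearIndependent F ![b, b', mid G b b' r] := by
        rw [Fintype.linearIndependent_iff]
        intro l hl
        simp only [Fin.sum_univ_three, Matrix.cons_val_zero, Matrix.cons_val_one, Matrix.cons_val_two,
          Matrix.tail_cons, Matrix.head_cons] at hl
        have hz : ∀ y, fG G (0 : Fin m → F) y = 0 := fun y => by rw [← zero_smul F y, fG_smul_left, zero_mul]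
        have e0 := congrArg (fG G · b') hl
        have e1 := congrArg (fG G · b) hl
        have e2 := congrArg (fG G · d) hl
        simp only [fG_add_left, fG_smul_left, hbb, hb'b, H.hG.self, hr1, hr2, hd, H.hG.swap_zero hdb,
          H.hG.swap_zero hdb', hz, mul_one, mul_zero, add_zero, zero_add, mul_neg, neg_eq_zero] at e0 e1 e2
        intro i; fin_cases i <;> assumption
      have := hli.fintype_card_le_finrank
      rw [Fintype.card_fin, Module.finrank_fin_fun] at this
      omega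
    rw [mid] at hmid
    linear_combination (norm := module) hmid
  obtain ⟨k₁, hk₁⟩ := hs b hb
  obtain ⟨k₂, hk₂⟩ := hs b' hb'ne
  obtain ⟨k₃, hk₃⟩ : ∃ k : F, ct G j b b' N + ct G j b' b N = k • 1 := by
    obtain ⟨k, hk⟩ := hs (b + b') (fun e => by
      have := congrArg (fG G · b') e
      simp only [fG_add_left, hbb, H.hG.self, add_zero] at this
      rw [← zero_smul F b, fG_smul_left, zero_mul] at this
      exact one_ne_zero this)
    refine ⟨k - k₁ - k₂, ?_⟩
    rw [ct_add_left, ct_add_right, ct_add_right, hk₁, hk₂] at hk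
    linear_combination (norm := module) hk
  set C := ct G j b' b N with hC
  set η := k₃ • Eop G b' b + -k₁ • Eop G b' b' + -k₂ • Eop G b b with hη
  have hN : N = lift j η + C := by
    conv_lhs => rw [← one_mul N, ← mul_one (1 * N)]
    rw [hone, mul_sub, sub_mul, sub_mul, sub_mul, ← lift_Eop_mul_ct, ← lift_Eop_mul_ct, ← lift_Eop_mul_ct,
      ← lift_Eop_mul_ct, hk₁, hk₂, ← hC, show ct G j b b' N = k₃ • 1 - C from eq_sub_of_add_eq hk₃]
    conv_rhs => rw [← one_mul C, hone]
    rw [hη, lift_add, lift_add, lift_smul, lift_smul, lift_smul]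
    simp only [mul_sub, sub_mul, Matrix.mul_smul, mul_one]
    module
  have hCc : Comm j C := comm_cn _ _ _ _
  by_cases hsc : ∃ l : F, η = l • 1
  · obtain ⟨l, hl⟩ := hsc
    right
    rw [hN, hl, lift_smul, lift_one]
    exact ((comm_one j).smul l).add hCc
  left
  obtain ⟨p, hp⟩ : ∃ p, ∀ l : F, η *ᵥ p ≠ l • p := by
    by_contra! h'
    exact hsc (scalar_of_eigen h')
  obtain ⟨a, ha1, ha0⟩ := exists_sep H.hG hp
  have hsq := (H.conjRoot_spec h).2.1
  have h1 := congrArg (fun Z => ct G j a p Z) hsq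
  have e : N * N = lift j (η * η) * 1 + (2 : F) • (lift j η * C) + lift j 1 * (C * C) := by
    rw [hN, add_mul, mul_add, mul_add, ← hCc, lift_one, one_mul, mul_one, lift_mul, two_smul]
    abel
  have eadd : ∀ Y Z : Matrix (TI t m) (TI t m) F, ct G j a p (Y + Z) = ct G j a p Y + ct G j a p Z := fun Y Z => by
    simp only [ct, cn, mul_add, add_mul, Finset.sum_add_distrib]
  have h0 : ct G j a p (0 : Matrix (TI t m) (TI t m) F) = 0 := by simp [ct, cn]
  rw [h0, e, eadd, eadd, two_smul, eadd, ct_lift_mul (comm_one j), ct_lift_mul hCc, ct_lift_mul (hCc.mul hCc), ha1,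
    Matrix.one_mulVec, ha0, zero_smul, add_zero, one_smul, ← two_smul F] at h1
  set l := fG G ((η * η) *ᵥ p) a
  refine ⟨η + (-(l / 2)) • 1, ?_⟩
  rw [hN, lift_add j η, lift_smul j (-(l / 2)), lift_one]
  congr 1
  have h2 : (2 : F) • C = (-l) • 1 := by linear_combination (norm := module) h1
  rw [show C = (2 : F)⁻¹ • ((2 : F) • C) by rw [smul_smul, inv_mul_cancel₀ H.two, one_smul], h2, smul_smul]
  congr 1
  ring

end Odd

end Cfsg.Agent.TensorWreath43
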