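import Cfsg.Agent.Lib.TensorWreath43Ruler

/-!
An element of an overgroup that maps one ruler to a ruler is a product over that position.
-/

set_option autoImplicit false
set_option linter.unusedSectionVars false

namespace Cfsg.Agent.TensorWreath43

open scoped Matrix

variable {F : Type*} [Field F] {t m : ℕ}

section Basics

variable {G : Matrix (Fin m) (Fin m) F}

theorem MapR.add {j : Fin t} {Z α : Matrix (TI t m) (TI t m) F} {u v u' v' : Fin m → F} (h : MapR G j Z u v α)
    (h' : MapR G j Z u' v' α) : MapR G j Z (u + u') (v + v') α := fun s => by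
  rw [Eop_add_left, Eop_add_left, lift_add, lift_add, mul_add, h, h', add_mul]

theorem MapR.smul {j : Fin t} {Z α : Matrix (TI t m) (TI t m) F} {u v : Fin m → F} (h : MapR G j Z u v α)
    (c : F) : MapR G j Z (c • u) (c • v) α := fun s => by
  rw [Eop_smul_left, Eop_smul_left, lift_smul, lift_smul, Matrix.mul_smul, h, Matrix.smul_mul]

/-- The projection to the orthogonal of the plane of `b` and `b'`. -/
def mid (G : Matrix (Fin m) (Fin m) F) (b b' r : Fin m → F) : Fin m → F :=
  r + -fG G r b' • b + fG G r b • b'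

theorem mid_spec (hG : SG G) {b b' : Fin m → F} (hbb : fG G b b' = 1) (r : Fin m → F) :
    fG G (mid G b b' r) b = 0 ∧ fG G (mid G b b' r) b' = 0 := by
  have hb'b : fG G b' b = -1 := by rw [hG.swap, hbb]
  constructor <;> simp only [mid, fG_add_left, fG_smul_left, hG.self, hbb, hb'b] <;> ring

end Basics

section Over

variable [Fintype F] [NeZero m] {G : Matrix (Fin m) (Fin m) F} {M : Subgroup (GL (TI t m) F)} (H : SBase G M)
include H

theorem SBase.siegel (j : Fin t) {b v : Fin m → F} (hbv : fG G b v = 0) :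
    MemU M (lift j (Eop G b v) + lift j (Eop G v b)) ∧
      (lift j (Eop G b v) + lift j (Eop G v b)) * (lift j (Eop G b v) + lift j (Eop G v b)) = 0 ∧
      adjT G (lift j (Eop G b v) + lift j (Eop G v b)) = -(lift j (Eop G b v) + lift j (Eop G v b)) := by
  have hvb : fG G v b = 0 := H.hG.swap_zero hbv
  set S := Eop G b v + Eop G v b with hSdef
  have hSS : S * S = 0 := by
    simp only [hSdef, add_mul, mul_add, Eop_mul, H.hG.self, hbv, hvb, zero_smul, add_zero]
  have hSa : adjG G S = -S := by rw [hSdef, adjG_add, H.hG.adjG_Eop, H.hG.adjG_Eop]; abel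
  rw [← lift_add, ← hSdef]
  refine ⟨?_, by rw [← lift_mul, hSS, lift_zero], ?_⟩
  · obtain ⟨g, hg, hgS⟩ := H.adjT_lift_iso (j := j) (h := 1 + S) (by
      rw [adjG_add, H.hG.adjG_one, hSa, add_mul, one_mul, neg_mul, mul_add, mul_one, hSS]
      abel)
    exact ⟨g, hg, by rw [hgS, lift_add, lift_one]⟩
  · rw [H.hG.adjT_lift, hSa]
    exact map_neg (liftHom (F := F) j) S

theorem SBase.mapR_inv (hK : Crit G M) {g : GL (TI t m) F} (hg : g ∈ M) {j : Fin t} {b : Fin m → F}
    (hb : b ≠ 0) {α : Matrix (TI t m) (TI t m) F} (hα : Comm j α)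
    (h : MapR G j (g : Matrix (TI t m) (TI t m) F) b b α) :
    ∃ α' : Matrix (TI t m) (TI t m) F, Comm j α' ∧
      MapR G j ((g⁻¹ : GL (TI t m) F) : Matrix (TI t m) (TI t m) F) b b α' ∧ α * α' = 1 ∧ α' * α = 1 ∧
      ∀ x, lift j (Eop G x b) * (g : Matrix (TI t m) (TI t m) F) = lift j (Eop G x b) * adjT G α' := by
  obtain ⟨κ, hκ, h1, h2⟩ := H.kappa hK hg hb hα h
  have hc : Comm j (κ⁻¹ • adjT G α) := (H.hG.adjT_comm hα).smul _
  have e1 : α * (κ⁻¹ • adjT G α) = 1 := by rw [Matrix.mul_smul, h1, smul_smul, inv_mul_cancel₀ hκ, one_smul]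
  have hm : MapR G j ((g⁻¹ : GL (TI t m) F) : Matrix (TI t m) (TI t m) F) b b (κ⁻¹ • adjT G α) := fun s => by
    have h' := congrArg (fun Z => ((g⁻¹ : GL (TI t m) F) : Matrix (TI t m) (TI t m) F) * Z * (κ⁻¹ • adjT G α)) (h s)
    simp only [← mul_assoc, Units.inv_mul, one_mul] at h'
    rw [h', mul_assoc, e1, mul_one]
  refine ⟨_, hc, hm, e1, mul_eq_one_comm.1 e1, fun x => ?_⟩
  have := H.left_of_mapR (M.inv_mem hg) hc hm x
  rwa [inv_inv] at this

theorem SBase.middle (hK : Crit G M) {g : GL (TI t m) F} (hg : g ∈ M) {j : Fin t} {b b' : Fin m → F}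
    (hbb : fG G b b' = 1) {α : Matrix (TI t m) (TI t m) F} (hα : Comm j α)
    (h : MapR G j (g : Matrix (TI t m) (TI t m) F) b b α) {v : Fin m → F} (hvb : fG G v b = 0)
    (hvb' : fG G v b' = 0) (hv : v ≠ 0) :
    (∀ d, fG G d b = 0 → ∃ c : F, ct G j d v (g : Matrix (TI t m) (TI t m) F) = c • α) ∧
      ct G j b v (g : Matrix (TI t m) (TI t m) F) = 0 := by
  have hb : b ≠ 0 := by
    rintro rfl
    rw [← zero_smul F b', fG_smul_left, zero_mul] at hbb
    exact zero_ne_one hbb
  obtain ⟨α', hα', hi, e1, e2, hleft⟩ := H.mapR_inv hK hg hb hα h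
  have hz : ∀ x s, lift j (Eop G x b) * (g : Matrix (TI t m) (TI t m) F) * lift j (Eop G v s) = 0 := fun x s => by
    rw [hleft, mul_assoc, ← H.hG.adjT_comm hα', ← mul_assoc, ← lift_mul, Eop_mul, hvb, zero_smul, lift_zero,
      zero_mul]
  refine ⟨fun d hd => ?_, H.hG.ext_left j fun x r => ?_⟩
  · have hbd : fG G b d = 0 := H.hG.swap_zero hd
    obtain ⟨hS, hS2, hSa⟩ := H.siegel j hbd
    set S := lift j (Eop G b d) + lift j (Eop G d b) with hSdef
    set gi := ((g⁻¹ : GL (TI t m) F) : Matrix (TI t m) (TI t m) F) with hgi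
    have hX : MemU M (gi * S * (g : Matrix (TI t m) (TI t m) F)) := by
      have := hS.conjU (M.inv_mem hg)
      rwa [inv_inv] at this
    have hR : Comm j (α' * ct G j d v (g : Matrix (TI t m) (TI t m) F)) := hα'.mul (comm_cn _ _ _ _)
    obtain ⟨c, hc⟩ := hK.radical hbb hvb hvb' hv hX
      (by
        calc gi * S * (g : Matrix (TI t m) (TI t m) F) * (gi * S * (g : Matrix (TI t m) (TI t m) F))
            = gi * S * ((g : Matrix (TI t m) (TI t m) F) * gi) * S * (g : Matrix (TI t m) (TI t m) F) := by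
              simp only [mul_assoc]
          _ = 0 := by rw [hgi, Units.mul_inv, mul_one, mul_assoc gi, hS2, mul_zero, zero_mul])
      (by
        rw [H.hG.adjT_mul, H.hG.adjT_mul, hgi, H.adjT_inv hg, ← H.inv_val hg, hSa, neg_mul, mul_neg, mul_assoc])
      hR (fun s => by
        rw [hSdef, mul_add, add_mul, add_mul]
        simp only [mul_assoc]
        rw [← mul_assoc (lift j (Eop G d b)), hz, mul_zero, add_zero, ← mul_assoc (lift j (Eop G b d)),
          ← lift_Eop_mul_ct, ← mul_assoc, hi, mul_assoc])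
    refine ⟨c, ?_⟩
    rw [← one_mul (ct G j d v (g : Matrix (TI t m) (TI t m) F)), ← e1, mul_assoc, hc, Matrix.mul_smul, mul_one]
  · rw [mul_zero, lift_Eop_mul_ct]
    exact hz x r

theorem SBase.perp (hK : Crit G M) {g : GL (TI t m) F} (hg : g ∈ M) {j : Fin t} {b b' : Fin m → F}
    (hbb : fG G b b' = 1) {α : Matrix (TI t m) (TI t m) F} (hα : Comm j α)
    (h : MapR G j (g : Matrix (TI t m) (TI t m) F) b b α) {v : Fin m → F} (hvb : fG G v b = 0) :
    ∃ v', MapR G j (g : Matrix (TI t m) (TI t m) F) v v' α := by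
  have hb : b ≠ 0 := by
    rintro rfl
    rw [← zero_smul F b', fG_smul_left, zero_mul] at hbb
    exact zero_ne_one hbb
  have hb'b : fG G b' b = -1 := by rw [H.hG.swap, hbb]
  set v₀ := v + -fG G v b' • b with hv₀
  have hvsplit : v = v₀ + fG G v b' • b := by rw [hv₀]; module
  suffices hmain : ∃ v', MapR G j (g : Matrix (TI t m) (TI t m) F) v₀ v' α by
    obtain ⟨v', hv'⟩ := hmain
    have h1 := hv'.add (h.smul (fG G v b'))
    rw [← hvsplit] at h1
    exact ⟨_, h1⟩
  by_cases hv0 : v₀ = 0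
  · exact ⟨0, fun s => by rw [hv0, ← zero_smul F b, Eop_smul_left, zero_smul, lift_zero, mul_zero, zero_mul]⟩
  have h0b : fG G v₀ b = 0 := by rw [hv₀, fG_add_left, fG_smul_left, H.hG.self, hvb]; ring
  have h0b' : fG G v₀ b' = 0 := by rw [hv₀, fG_add_left, fG_smul_left, hbb]; ring
  obtain ⟨hmid, hzero⟩ := H.middle hK hg hbb hα h h0b h0b' hv0
  obtain ⟨κ, hκ, hκ1, hκ2⟩ := H.kappa hK hg hb hα h
  have hαne : α ≠ 0 := by
    rintro rfl
    rw [zero_mul, eq_comm, smul_eq_zero] at hκ1
    exact hκ1.elim hκ one_ne_zero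
  obtain ⟨x₀, y₀, hxy⟩ : ∃ x y, α x y ≠ 0 := by
    by_contra! h0
    exact hαne (Matrix.ext h0)
  have hPadd : ∀ r r', mid G b b' (r + r') = mid G b b' r + mid G b b' r' := fun r r' => by
    simp only [mid, fG_add_left]; module
  have hPsmul : ∀ (c : F) r, mid G b b' (c • r) = c • mid G b b' r := fun c r => by
    simp only [mid, fG_smul_left]; module
  let φ : (Fin m → F) →ₗ[F] F :=
    { toFun := fun r => ct G j (mid G b b' r) v₀ (g : Matrix (TI t m) (TI t m) F) x₀ y₀ * (α x₀ y₀)⁻¹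
      map_add' := fun r r' => by simp only [hPadd, ct_add_left, Matrix.add_apply, add_mul]
      map_smul' := fun c r => by
        simp only [hPsmul, ct_smul_left, Matrix.smul_apply, smul_eq_mul, RingHom.id_apply, mul_assoc] }
  have hφ : ∀ r, ct G j (mid G b b' r) v₀ (g : Matrix (TI t m) (TI t m) F) = φ r • α := fun r => by
    obtain ⟨c, hc⟩ := hmid _ (mid_spec H.hG hbb r).1
    show _ = (ct G j (mid G b b' r) v₀ (g : Matrix (TI t m) (TI t m) F) x₀ y₀ * (α x₀ y₀)⁻¹) • α
    rw [hc, Matrix.smul_apply, smul_eq_mul, mul_assoc, mul_inv_cancel₀ hxy, mul_one]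
  obtain ⟨w, hw⟩ : ∃ w, ∀ r, φ r = fG G w r := by
    obtain ⟨a, ha⟩ := TransvectionMax.exists_row H.hG.isSymplecticForm.bilinear
      H.hG.isSymplecticForm.nondegenerate (fun l => φ (Pi.single l 1))
    refine ⟨-a, fun r => ?_⟩
    rw [← neg_one_smul F a, fG_smul_left, H.hG.swap, ← ha r, neg_mul, mul_neg, neg_neg, one_mul]
    conv_lhs => rw [← sum_smul_single r]
    rw [map_sum, dotProduct]
    exact Finset.sum_congr rfl fun l _ => by rw [map_smul, smul_eq_mul, mul_comm]
  have hwb : fG G w b = 0 := by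
    rw [← hw]
    show ct G j (mid G b b' b) v₀ (g : Matrix (TI t m) (TI t m) F) x₀ y₀ * _ = 0
    rw [show mid G b b' b = (0 : F) • b by simp only [mid, H.hG.self, hbb]; module, ct_smul_left, zero_smul,
      Matrix.zero_apply, zero_mul]
  have hwb' : fG G w b' = 0 := by
    rw [← hw]
    show ct G j (mid G b b' b') v₀ (g : Matrix (TI t m) (TI t m) F) x₀ y₀ * _ = 0
    rw [show mid G b b' b' = (0 : F) • b by simp only [mid, H.hG.self, hb'b]; module, ct_smul_left, zero_smul,
      Matrix.zero_apply, zero_mul]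
  set Φ := ct G j b' v₀ (g : Matrix (TI t m) (TI t m) F) with hΦ
  -- all components
  have hall : ∀ r, ct G j r v₀ (g : Matrix (TI t m) (TI t m) F) = fG G w r • α + fG G b r • Φ := fun r => by
    conv_lhs => rw [show r = mid G b b' r + fG G r b' • b + -fG G r b • b' by simp only [mid]; module]
    rw [ct_add_left, ct_add_left, ct_smul_left, ct_smul_left, hzero, smul_zero, add_zero, hφ, hw, H.hG.swap b r]
  have hcol : ∀ s, (g : Matrix (TI t m) (TI t m) F) * lift j (Eop G v₀ s) =
      lift j (Eop G w s) * α + lift j (Eop G b s) * Φ := fun s => by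
    refine H.hG.ext_left j fun x r => ?_
    rw [← mul_assoc, ← lift_Eop_mul_ct, hall, mul_add, mul_add, ← mul_assoc, ← mul_assoc, ← lift_mul, ← lift_mul,
      Eop_mul, Eop_mul, lift_smul, lift_smul, Matrix.mul_smul, Matrix.mul_smul, Matrix.smul_mul, Matrix.smul_mul]
  set gi := ((g⁻¹ : GL (TI t m) F) : Matrix (TI t m) (TI t m) F) with hgi
  have hwne : w ≠ 0 := by
    rintro rfl
    obtain ⟨α', hα', hi, e1, e2, -⟩ := H.mapR_inv hK hg hb hα h
    obtain ⟨d, hd, hdb, -⟩ := exists_middle H.hG hbb h0b h0b' hv0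
    have hdv : fG G d v₀ = -1 := by rw [H.hG.swap, hd]
    have h1 := congrArg (fun Z => lift j (Eop G b d) * (gi * Z)) (hcol b)
    simp only [← mul_assoc, hgi, Units.inv_mul, one_mul] at h1
    rw [show Eop G (0 : Fin m → F) b = 0 by rw [← zero_smul F b, Eop_smul_left, zero_smul], lift_zero,
      zero_mul, zero_add, mul_assoc (lift j (Eop G b d)), ← mul_assoc ((g⁻¹ : GL (TI t m) F) : Matrix (TI t m) (TI t m) F),
      hi, ← mul_assoc, ← mul_assoc, ← lift_mul, ← lift_mul, Eop_mul, Eop_mul, hd,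
      H.hG.swap_zero hdb, zero_smul, lift_zero, zero_mul, zero_mul, one_smul] at h1
    exact Eop_ne_zero H.hG hb (lift_injective j (by rw [h1, lift_zero]))
  obtain ⟨u₀, hu₀, hu₀b, hu₀b'⟩ := exists_middle H.hG hbb hwb hwb' hwne
  set u := (-1 : F) • u₀ with hu
  have huw : fG G u w = 1 := by rw [hu, fG_smul_left, H.hG.swap, hu₀]; ring
  have hub : fG G u b = 0 := by rw [hu, fG_smul_left, hu₀b, mul_zero]
  have hub' : fG G u b' = 0 := by rw [hu, fG_smul_left, hu₀b', mul_zero]
  have hune : u ≠ 0 := by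
    intro e
    rw [e, ← zero_smul F w, fG_smul_left, zero_mul] at huw
    exact zero_ne_one huw
  have hbw : fG G b w = 0 := H.hG.swap_zero hwb
  set L := lift j (Eop G w w) with hL
  set Z := (g : Matrix (TI t m) (TI t m) F) * lift j (Eop G v₀ v₀) * gi with hZ
  have hLg : L * ((g : Matrix (TI t m) (TI t m) F) * lift j (Eop G v₀ v₀)) = 0 := by
    rw [hcol, mul_add, hL, ← mul_assoc, ← mul_assoc, ← lift_mul, ← lift_mul, Eop_mul, Eop_mul, H.hG.self, hbw]
    simp only [zero_smul, lift_zero, zero_mul, add_zero]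
  have hgL : lift j (Eop G v₀ v₀) * gi * L = 0 := by
    have h1 := congrArg (adjT G) hLg
    have hn : ∀ A : Matrix (Fin m) (Fin m) F, lift j (-A) = -lift j A := fun A => map_neg (liftHom (F := F) j) A
    rw [H.hG.adjT_mul, H.hG.adjT_mul, ← H.inv_val hg, hL, H.hG.adjT_lift, H.hG.adjT_lift, H.hG.adjG_Eop,
      H.hG.adjG_Eop, hn, hn, neg_mul, neg_mul_neg, show adjT G (0 : Matrix (TI t m) (TI t m) F) = 0 by simp [adjT]]
      at h1
    exact h1
  have hLL : L * L = 0 := by rw [hL, ← lift_mul, Eop_self_mul H.hG, lift_zero]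
  have hZZ : Z * Z = 0 := by
    rw [hZ]
    calc (g : Matrix (TI t m) (TI t m) F) * lift j (Eop G v₀ v₀) * gi *
          ((g : Matrix (TI t m) (TI t m) F) * lift j (Eop G v₀ v₀) * gi)
        = (g : Matrix (TI t m) (TI t m) F) * (lift j (Eop G v₀ v₀) * (gi * (g : Matrix (TI t m) (TI t m) F)) *
            lift j (Eop G v₀ v₀)) * gi := by simp only [mul_assoc]
      _ = 0 := by rw [hgi, Units.inv_mul, mul_one, ← lift_mul, Eop_self_mul H.hG, lift_zero, mul_zero, zero_mul]
  have hLZ : L * Z = 0 := by rw [hZ, ← mul_assoc, hLg, zero_mul]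
  have hZL : Z * L = 0 := by
    rw [hZ, mul_assoc (g : Matrix (TI t m) (TI t m) F), mul_assoc (g : Matrix (TI t m) (TI t m) F), hgL, mul_zero]
  have hX : MemU M (Z + -κ • L) := by
    have h1 := H.root_mem j v₀ 1
    rw [one_smul] at h1
    exact (h1.conjU hg).add (H.root_mem j w (-κ)) (by rw [← hZ, Matrix.mul_smul, hZL, smul_zero])
  have hX2 : (Z + -κ • L) * (Z + -κ • L) = 0 := by
    simp only [add_mul, mul_add, Matrix.mul_smul, Matrix.smul_mul, hLL, hZZ, hZL, hLZ, smul_zero, add_zero]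
  have hXa : adjT G (Z + -κ • L) = -(Z + -κ • L) := by
    have hn : ∀ A : Matrix (Fin m) (Fin m) F, lift j (-A) = -lift j A := fun A => map_neg (liftHom (F := F) j) A
    rw [adjT_add, adjT_smul, hZ, H.hG.adjT_mul, H.hG.adjT_mul, hgi, H.adjT_inv hg, ← H.inv_val hg, hL,
      H.hG.adjT_lift, H.hG.adjT_lift, H.hG.adjG_Eop, H.hG.adjG_Eop, hn, hn, neg_mul, mul_neg, smul_neg, neg_add,
      mul_assoc]
  obtain ⟨c, hc⟩ := hK.radical hbb hub hub' hune hX hX2 hXa
    (R := Φ * adjT G α) ((comm_cn _ _ _ _).mul (H.hG.adjT_comm hα)) fun s => by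
      have hct : ct G j v₀ u gi = adjT G α := by
        have h1 := H.hG.adjT_ct j u v₀ (g : Matrix (TI t m) (TI t m) F)
        rw [← H.inv_val hg, hall, H.hG.swap w u, huw, H.hG.swap_zero hub, zero_smul, add_zero, adjT_smul,
          neg_one_smul, neg_inj] at h1
        exact h1.symm
      rw [add_mul, hZ, mul_assoc (g : Matrix (TI t m) (TI t m) F), mul_assoc (g : Matrix (TI t m) (TI t m) F),
        ← lift_Eop_mul_ct, ← mul_assoc, hct, hcol, add_mul, Matrix.smul_mul, hL, ← lift_mul, Eop_mul, huw, one_smul,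
        mul_assoc, hκ1, Matrix.mul_smul, mul_one, neg_smul, mul_assoc]
      abel
  have hΦα : Φ = (c / κ) • α := by
    have h1 := congrArg (fun Y => Y * α) hc
    simp only [mul_assoc, hκ2, Matrix.mul_smul, Matrix.smul_mul, mul_one, one_mul] at h1
    rw [div_eq_inv_mul, mul_smul, ← h1, smul_smul, inv_mul_cancel₀ hκ, one_smul]
  exact ⟨w + (c / κ) • b, mapR_of_ct H.hG j fun r => by
    rw [hall, hΦα, smul_smul, ← add_smul, fG_add_left, fG_smul_left, mul_comm (c / κ)]⟩

theorem SBase.plane (hK : Crit G M) (hex : 4 < Fintype.card F) {g : GL (TI t m) F} (hg : g ∈ M) {j : Fin t}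
    {b b' : Fin m → F} (hbb : fG G b b' = 1) (hplane : ∀ r, mid G b b' r = 0) {α : Matrix (TI t m) (TI t m) F}
    (hα : Comm j α) (h : MapR G j (g : Matrix (TI t m) (TI t m) F) b b α) :
    ∃ p, MapR G j (g : Matrix (TI t m) (TI t m) F) b' p α := by
  classical
  have hb : b ≠ 0 := by
    rintro rfl
    rw [← zero_smul F b', fG_smul_left, zero_mul] at hbb
    exact zero_ne_one hbb
  have hb'b : fG G b' b = -1 := by rw [H.hG.swap, hbb]
  obtain ⟨α', hα', hi, e1, e2, hleft⟩ := H.mapR_inv hK hg hb hα h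
  obtain ⟨κ, hκ, hκ1, hκ2⟩ := H.kappa hK hg hb hα h
  have hone : (1 : Matrix (TI t m) (TI t m) F) = lift j (Eop G b b') - lift j (Eop G b' b) := by
    rw [← lift_one j, ← show lift j (Eop G b b' - Eop G b' b) = lift j (Eop G b b') - lift j (Eop G b' b) from
      map_sub (liftHom (F := F) j) _ _]
    congr 1
    refine Matrix.ext_iff_mulVec.mpr fun x => ?_
    rw [Matrix.one_mulVec, Matrix.sub_mulVec, Eop_mulVec, Eop_mulVec]
    have := hplane x
    rw [mid] at this
    linear_combination (norm := module) this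
  -- a torus element
  obtain ⟨l, hl0, hl1, hl2⟩ : ∃ l : F, l ≠ 0 ∧ l ≠ 1 ∧ l ≠ -1 := by
    obtain ⟨l, hl⟩ := (({0, 1, -1} : Finset F)ᶜ).card_pos.1 (by
      rw [Finset.card_compl]
      have := Finset.card_le_three (a := (0 : F)) (b := 1) (c := -1)
      omega)
    simp only [Finset.mem_compl, Finset.mem_insert, Finset.mem_singleton, not_or] at hl
    exact ⟨l, hl⟩
  have hHb : ∀ z : F, (z • Eop G b b' - z⁻¹ • Eop G b' b) *ᵥ b = z • b ∧
      (z • Eop G b b' - z⁻¹ • Eop G b' b) *ᵥ b' = z⁻¹ • b' := fun z => by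
    constructor <;>
    · rw [Matrix.sub_mulVec, Matrix.smul_mulVec, Matrix.smul_mulVec, Eop_mulVec, Eop_mulVec]
      simp only [H.hG.self, hbb, hb'b]
      module
  have hE : Eop G b b' - Eop G b' b = 1 :=
    lift_injective j (by
      rw [lift_one, hone]
      exact map_sub (liftHom (F := F) j) _ _)
  have hHiso : ∀ z : F, z ≠ 0 →
      adjG G (z • Eop G b b' - z⁻¹ • Eop G b' b) * (z • Eop G b b' - z⁻¹ • Eop G b' b) = 1 := fun z hz => by
    rw [sub_eq_add_neg (z • Eop G b b'), adjG_add, adjG_smul, adjG_neg, adjG_smul, H.hG.adjG_Eop, H.hG.adjG_Eop,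
      ← hE]
    simp only [add_mul, mul_add, neg_mul, mul_neg, smul_neg, Matrix.smul_mul, Matrix.mul_smul, Eop_mul, smul_smul,
      H.hG.self, hbb, hb'b, mul_zero, zero_smul, mul_one, mul_inv_cancel₀ hz, inv_mul_cancel₀ hz]
    module
  set Hl := l • Eop G b b' - l⁻¹ • Eop G b' b with hHl
  obtain ⟨hh, hhM, hhv⟩ := H.adjT_lift_iso (j := j) (h := Hl) (hHiso l hl0)
  set y := g * hh * g⁻¹ * hh⁻¹ with hy
  have hyM : y ∈ M := M.mul_mem (M.mul_mem (M.mul_mem hg hhM) (M.inv_mem hg)) (M.inv_mem hhM)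
  have hhb : MapR G j (hh : Matrix (TI t m) (TI t m) F) b (l • b) 1 := fun s => by
    rw [hhv, ← lift_mul, mul_Eop, (hHb l).1, mul_one]
  have hhib : MapR G j ((hh⁻¹ : GL (TI t m) F) : Matrix (TI t m) (TI t m) F) b (l⁻¹ • b) 1 := fun s => by
    have h1 := congrArg (fun Z => l⁻¹ • (((hh⁻¹ : GL (TI t m) F) : Matrix (TI t m) (TI t m) F) * Z)) (hhb s)
    simp only [← mul_assoc, Units.inv_mul, one_mul, mul_one, Eop_smul_left, lift_smul, Matrix.mul_smul, smul_smul,
      inv_mul_cancel₀ hl0, one_smul] at h1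
    rw [Eop_smul_left, lift_smul, Matrix.smul_mul, mul_one, h1]
  have hyb : MapR G j (y : Matrix (TI t m) (TI t m) F) b b 1 := fun s => by
    rw [hy, Units.val_mul, Units.val_mul, Units.val_mul, mul_assoc _ ((hh⁻¹ : GL (TI t m) F) : Matrix (TI t m) (TI t m) F),
      hhib, mul_one, Eop_smul_left, lift_smul, Matrix.mul_smul, mul_assoc _ ((g⁻¹ : GL (TI t m) F) : Matrix (TI t m) (TI t m) F),
      hi, ← mul_assoc, mul_assoc (g : Matrix (TI t m) (TI t m) F), hhb, mul_one, Eop_smul_left, lift_smul,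
      Matrix.mul_smul, h, Matrix.smul_mul, mul_assoc, e1, mul_one, smul_smul, inv_mul_cancel₀ hl0, one_smul]
  have hyl : ∀ x, lift j (Eop G x b) * ((y : Matrix (TI t m) (TI t m) F) - 1) = 0 := fun x => by
    have h1 := H.left_of_mapR hyM (comm_one j) hyb x
    rw [H.hG.adjT_one, mul_one] at h1
    have h2 := congrArg (fun Z => Z * (y : Matrix (TI t m) (TI t m) F)) h1
    simp only [mul_assoc, Units.inv_mul, mul_one] at h2
    rw [mul_sub, ← h2, mul_one, sub_self]
  have hyr : ∀ s, ((y : Matrix (TI t m) (TI t m) F) - 1) * lift j (Eop G b s) = 0 := fun s => by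
    rw [sub_mul, hyb, one_mul, mul_one, sub_self]
  have hy1 : (y : Matrix (TI t m) (TI t m) F) - 1 =
      lift j (Eop G b b) * -ct G j b' b' ((y : Matrix (TI t m) (TI t m) F) - 1) := by
    generalize (y : Matrix (TI t m) (TI t m) F) - 1 = Z at hyl hyr ⊢
    conv_lhs => rw [← one_mul Z, ← mul_one (1 * Z)]
    rw [hone, sub_mul, hyl, sub_zero, mul_sub, mul_assoc, hyr, mul_zero, zero_sub, mul_neg, ← lift_Eop_mul_ct]
  obtain ⟨c, hc⟩ := hK.root hb (C := -ct G j b' b' ((y : Matrix (TI t m) (TI t m) F) - 1))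
    (by rw [← neg_one_smul F (ct G j b' b' _)]; exact (comm_cn j _ _ _).smul _)
    (by rw [← hy1]; exact ⟨y, hyM, (add_sub_cancel 1 _).symm⟩)
  have hgh : (g : Matrix (TI t m) (TI t m) F) * (hh : Matrix (TI t m) (TI t m) F) =
      (1 + c • lift j (Eop G b b)) * ((hh : Matrix (TI t m) (TI t m) F) * (g : Matrix (TI t m) (TI t m) F)) := by
    have e3 : y * (hh * g) = g * hh := by rw [hy]; group
    have e4 : (y : Matrix (TI t m) (TI t m) F) = 1 + c • lift j (Eop G b b) := by
      rw [← sub_eq_iff_eq_add', hy1, hc, Matrix.mul_smul, mul_one]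
    rw [← e4, ← Units.val_mul, ← Units.val_mul, ← Units.val_mul, e3]
  set Φ := ct G j b' b' (g : Matrix (TI t m) (TI t m) F) with hΦ
  set γ := adjT G α' with hγ
  have hcol : ∀ s, (g : Matrix (TI t m) (TI t m) F) * lift j (Eop G b' s) =
      lift j (Eop G b s) * Φ + lift j (Eop G b' s) * γ := fun s => by
    conv_lhs => rw [← one_mul (g : Matrix (TI t m) (TI t m) F), hone]
    rw [sub_mul, sub_mul, ← lift_Eop_mul_ct, hleft, mul_assoc, ← H.hG.adjT_comm hα', ← mul_assoc, ← lift_mul,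
      Eop_mul, hb'b, lift_smul, Matrix.smul_mul, neg_one_smul, sub_neg_eq_add]
  have hkey := congrArg (fun Z => Z * lift j (Eop G b' b)) hgh
  simp only [mul_assoc] at hkey
  rw [hcol, hhv, ← lift_mul, mul_Eop, (hHb l).2, Eop_smul_left, lift_smul, Matrix.mul_smul, hcol, mul_add,
    ← mul_assoc (lift j Hl), ← mul_assoc (lift j Hl), ← lift_mul, ← lift_mul, mul_Eop, mul_Eop, (hHb l).1, (hHb l).2,
    Eop_smul_left, Eop_smul_left, lift_smul, lift_smul, Matrix.smul_mul, Matrix.smul_mul, add_mul, one_mul,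
    Matrix.smul_mul, mul_add, Matrix.mul_smul, Matrix.mul_smul, ← mul_assoc, ← mul_assoc, ← lift_mul, ← lift_mul,
    Eop_mul, Eop_mul, H.hG.self, hb'b, zero_smul, lift_zero, zero_mul, smul_zero, zero_add, lift_smul,
    Matrix.smul_mul] at hkey
  have hzero : lift j (Eop G b b) * ((l⁻¹ - l) • Φ + (c * l⁻¹) • γ) = 0 := by
    rw [mul_add, Matrix.mul_smul, Matrix.mul_smul]
    linear_combination (norm := module) hkey
  have hX := eq_zero_of_lift_mul (Eop_ne_zero H.hG hb)
    (((comm_cn _ _ _ _).smul _).add ((H.hG.adjT_comm hα').smul _)) hzero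
  have hne : l⁻¹ - l ≠ 0 := by
    intro e
    have h1 : (l - 1) * (l + 1) = 0 := by
      have h2 := congrArg (l * ·) e
      simp only [mul_sub, mul_inv_cancel₀ hl0, mul_zero] at h2
      linear_combination -h2
    rcases mul_eq_zero.1 h1 with h2 | h2
    · exact hl1 (sub_eq_zero.1 h2)
    · exact hl2 (eq_neg_of_add_eq_zero_left h2)
  have hΦγ : Φ = (-(c * l⁻¹) / (l⁻¹ - l)) • γ := by
    rw [add_eq_zero_iff_eq_neg, ← neg_smul] at hX
    rw [div_eq_inv_mul, mul_smul, ← hX, smul_smul, inv_mul_cancel₀ hne, one_smul]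
    rfl
  have hγα : γ = κ⁻¹ • α := by
    have e3 : adjT G α' * adjT G α = 1 := by rw [← H.hG.adjT_mul, e1, H.hG.adjT_one]
    have e4 := congrArg (fun Z => Z * α) e3
    simp only [mul_assoc, hκ2, Matrix.mul_smul, mul_one, one_mul] at e4
    rw [hγ, ← e4, smul_smul, inv_mul_cancel₀ hκ, one_smul]
  refine ⟨κ⁻¹ • ((-(c * l⁻¹) / (l⁻¹ - l)) • b + b'), fun s => ?_⟩
  rw [hcol, hΦγ, hγα, Eop_smul_left, Eop_add_left, Eop_smul_left, lift_smul, lift_add, lift_smul]
  simp only [add_mul, Matrix.smul_mul, Matrix.mul_smul, smul_add]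
  module

/-- An element mapping one ruler to a ruler is a product over the position. -/
theorem SBase.kronAt (hK : Crit G M) (hex : 3 ≤ m ∨ 4 < Fintype.card F) {g : GL (TI t m) F} (hg : g ∈ M)
    {j : Fin t} {b c : Fin m → F} (hb : b ≠ 0) {α : Matrix (TI t m) (TI t m) F} (hα : Comm j α)
    (h : MapR G j (g : Matrix (TI t m) (TI t m) F) b c α) : KronAt j (g : Matrix (TI t m) (TI t m) F) := by
  classical
  have hne : ∀ {g : GL (TI t m) F} {b c : Fin m → F}, b ≠ 0 →
      MapR G j (g : Matrix (TI t m) (TI t m) F) b c α → c ≠ 0 := by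
    intro g b c hb h hc
    have h1 := congrArg (fun Z => ((g⁻¹ : GL (TI t m) F) : Matrix (TI t m) (TI t m) F) * Z) (h b)
    simp only [← mul_assoc, Units.inv_mul, one_mul] at h1
    rw [hc, show Eop G (0 : Fin m → F) b = 0 by rw [← zero_smul F b, Eop_smul_left, zero_smul], lift_zero, mul_zero,
      zero_mul] at h1
    exact Eop_ne_zero H.hG hb (lift_injective j (by rw [h1, lift_zero]))
  -- all rulers orthogonal to a mapped one are mapped
  have hperp : ∀ {b c b' : Fin m → F}, fG G b b' = 1 → MapR G j (g : Matrix (TI t m) (TI t m) F) b c α →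
      ∀ v, fG G v b = 0 → ∃ v', MapR G j (g : Matrix (TI t m) (TI t m) F) v v' α := by
    intro b c b' hbb h v hv
    have hb : b ≠ 0 := by
      rintro rfl
      rw [← zero_smul F b', fG_smul_left, zero_mul] at hbb
      exact zero_ne_one hbb
    obtain ⟨η, hη, hηc⟩ := H.exists_rt (hne hb h) hb
    obtain ⟨g', hg', hg'v⟩ := H.adjT_lift_iso (j := j) hη
    have h1 : MapR G j ((g' * g : GL (TI t m) F) : Matrix (TI t m) (TI t m) F) b b α := by
      have h2 := h.move_left η
      rw [hηc] at h2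
      rwa [Units.val_mul, hg'v]
    obtain ⟨v', hv'⟩ := H.perp hK (M.mul_mem hg' hg) hbb hα h1 hv
    refine ⟨adjG G η *ᵥ v', ?_⟩
    rw [show (g : Matrix (TI t m) (TI t m) F) =
      lift j (adjG G η) * ((g' * g : GL (TI t m) F) : Matrix (TI t m) (TI t m) F) by
        rw [Units.val_mul, hg'v, ← mul_assoc, ← lift_mul, hη, lift_one, one_mul]]
    exact hv'.move_left _
  obtain ⟨b₁, hb₁⟩ := H.hG.exists_left hb
  set b' := (-1 : F) • b₁ with hb'
  have hbb : fG G b b' = 1 := by rw [hb', fG_smul_right, H.hG.swap, hb₁]; ring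
  obtain ⟨p, hp⟩ : ∃ p, MapR G j (g : Matrix (TI t m) (TI t m) F) b' p α := by
    by_cases hplane : ∀ r, mid G b b' r = 0
    · have hm2 : m ≤ 2 := by
        have hspan : (⊤ : Submodule F (Fin m → F)) ≤ Submodule.span F {b, b'} := fun x _ => by
          have := hplane x
          rw [mid] at this
          rw [Submodule.mem_span_pair]
          exact ⟨fG G x b', -fG G x b, by linear_combination (norm := module) -this⟩
        have h1 := Submodule.finrank_mono hspan
        rw [finrank_top, Module.finrank_fin_fun] at h1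
        refine h1.trans ((finrank_span_le_card _).trans ?_)
        rw [Set.toFinset_insert, Set.toFinset_singleton]
        exact Finset.card_le_two
      obtain ⟨η, hη, hηc⟩ := H.exists_rt (hne hb h) hb
      obtain ⟨g', hg', hg'v⟩ := H.adjT_lift_iso (j := j) hη
      have h1 : MapR G j ((g' * g : GL (TI t m) F) : Matrix (TI t m) (TI t m) F) b b α := by
        have h2 := h.move_left η
        rw [hηc] at h2
        rwa [Units.val_mul, hg'v]
      obtain ⟨v', hv'⟩ := H.plane hK (hex.resolve_left (by omega)) (M.mul_mem hg' hg) hbb hplane hα h1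
      refine ⟨adjG G η *ᵥ v', ?_⟩
      rw [show (g : Matrix (TI t m) (TI t m) F) =
        lift j (adjG G η) * ((g' * g : GL (TI t m) F) : Matrix (TI t m) (TI t m) F) by
          rw [Units.val_mul, hg'v, ← mul_assoc, ← lift_mul, hη, lift_one, one_mul]]
      exact hv'.move_left _
    · push Not at hplane
      obtain ⟨r, hr⟩ := hplane
      obtain ⟨he, he'⟩ := mid_spec H.hG hbb r
      set e := mid G b b' r
      obtain ⟨w, hw⟩ := hperp hbb h e he
      obtain ⟨d, hd⟩ := H.hG.exists_left hr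
      exact hperp (b' := (-1 : F) • d) (by rw [fG_smul_right, H.hG.swap, hd]; ring) hw b' (H.hG.swap_zero he')
  have hall : ∀ x, ∃ x', MapR G j (g : Matrix (TI t m) (TI t m) F) x x' α := fun x => by
    have hb'b : fG G b' b = -1 := by rw [H.hG.swap, hbb]
    obtain ⟨v', hv'⟩ := hperp hbb h (x + fG G x b • b') (by rw [fG_add_left, fG_smul_left, hb'b]; ring)
    refine ⟨v' + -fG G x b • p, ?_⟩
    have := hv'.add (hp.smul (-fG G x b))
    rwa [show x + fG G x b • b' + -fG G x b • b' = x by module] at this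
  choose img himg using fun l : Fin m => hall (Pi.single l 1)
  set β : Matrix (Fin m) (Fin m) F := Matrix.of fun p l => img l p with hβ
  refine ⟨β, α, hα, H.hG.ext_right j fun x s => ?_⟩
  have hmap : MapR G j (g : Matrix (TI t m) (TI t m) F) x (β *ᵥ x) α := by
    have h0 : MapR G j (g : Matrix (TI t m) (TI t m) F) 0 (β *ᵥ 0) α := fun s => by
      rw [Matrix.mulVec_zero, ← zero_smul F b, Eop_smul_left, zero_smul, lift_zero, mul_zero, zero_mul]
    rw [← sum_smul_single x]
    induction (Finset.univ : Finset (Fin m)) using Finset.induction with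
    | empty => rw [Finset.sum_empty]; exact h0
    | insert l s hl ih =>
      rw [Finset.sum_insert hl, Matrix.mulVec_add, Matrix.mulVec_smul]
      refine MapR.add ((?_ : MapR G j _ (Pi.single l 1) _ α).smul (x l)) ih
      rw [Matrix.mulVec_single_one]
      exact himg l
  rw [hmap, mul_assoc, ← hα, ← mul_assoc, ← lift_mul, mul_Eop]

end Over

end Cfsg.Agent.TensorWreath43
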