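import Cfsg.Agent.Lib.TensorWreath43SymWreath

/-!
Ranks of the lifts from one position.
-/

set_option autoImplicit false
set_option linter.unusedSectionVars false

namespace Cfsg.Agent.TensorWreath43

open scoped Matrix

variable {F : Type*} [Field F] {t m : ℕ}

/-- The dimension of the tensor product of the factors at the positions other than `j`. -/
def dimK (j : Fin t) (m : ℕ) : ℕ := Fintype.card ({i : Fin t // i ≠ j} → Fin m)

theorem dimK_pos [NeZero m] (j : Fin t) : 0 < dimK j m :=
  Fintype.card_pos_iff.2 ⟨fun _ => 0⟩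

theorem card_fibre (j : Fin t) (p : Fin m → Prop) [DecidablePred p] :
    Fintype.card {x : TI t m // p (x j)} = Fintype.card {a // p a} * dimK j m := by
  rw [dimK, ← Fintype.card_prod]
  exact Fintype.card_congr
    { toFun := fun x => (⟨x.1 j, x.2⟩, fun i => x.1 i.1)
      invFun := fun z => ⟨fun i => if h : i = j then z.1.1 else z.2 ⟨i, h⟩, by simp [z.1.2]⟩
      left_inv := fun x => Subtype.ext (funext fun i => by
        by_cases h : i = j
        · subst h; simp
        · simp [h])
      right_inv := fun z => Prod.ext (Subtype.ext (by simp)) (funext fun i => by simp [i.2]) }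

theorem lift_diagonal (j : Fin t) (d : Fin m → F) :
    lift j (Matrix.diagonal d) = Matrix.diagonal fun x : TI t m => d (x j) := by
  ext x y
  simp only [lift, Matrix.diagonal_apply]
  by_cases h : x = y
  · subst h; simp
  · rw [if_neg h]
    split_ifs with h1 h2
    · exact absurd (funext fun i => by by_cases hi : i = j <;> [exact hi ▸ h2; exact h1 i hi]) h
    · rfl
    · rfl

theorem rank_lift_diagonal (j : Fin t) (d : Fin m → F) [DecidableEq F] :
    (lift j (Matrix.diagonal d) : Matrix (TI t m) (TI t m) F).rank =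
      Fintype.card {a // d a ≠ 0} * dimK j m := by
  rw [lift_diagonal, Matrix.rank_diagonal]
  exact card_fibre j fun a => d a ≠ 0

theorem rank_lift_single [NeZero m] (j : Fin t) (a : Fin m) :
    (lift j (Matrix.single a a (1 : F)) : Matrix (TI t m) (TI t m) F).rank = dimK j m := by
  classical
  rw [← Matrix.diagonal_single, rank_lift_diagonal]
  rw [Fintype.card_eq_one_iff.2 ⟨⟨a, by simp⟩, fun ⟨b, hb⟩ => Subtype.ext
    (not_imp_comm.1 (fun h : ¬ b = a => by simp [h]) hb)⟩, one_mul]

theorem rank_lift_vec_le [NeZero m] (j : Fin t) (b w : Fin m → F) :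
    (lift j (Matrix.vecMulVec b w) : Matrix (TI t m) (TI t m) F).rank ≤ dimK j m := by
  rw [show Matrix.vecMulVec b w = Matrix.vecMulVec b (Pi.single 0 1) * Matrix.single 0 0 (1 : F) *
      Matrix.vecMulVec (Pi.single 0 1) w by
    rw [single_eq_vec, Matrix.vecMulVec_mul_vecMulVec, single_dotProduct, Pi.single_eq_same, mul_one, one_smul,
      Matrix.vecMulVec_mul_vecMulVec, single_dotProduct, Pi.single_eq_same, mul_one, one_smul],
    lift_mul, lift_mul]
  exact ((Matrix.rank_mul_le_left _ _).trans (Matrix.rank_mul_le_right _ _)).trans (rank_lift_single j 0).le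

/-- A lift of small rank has a one-dimensional image. -/
theorem image_line [NeZero m] {G : Matrix (Fin m) (Fin m) F} (hG : SG G) (j : Fin t)
    {η : Matrix (Fin m) (Fin m) F} (h : (lift j η : Matrix (TI t m) (TI t m) F).rank ≤ dimK j m) {z' : Fin m → F}
    (hz' : η *ᵥ z' ≠ 0) (z : Fin m → F) : ∃ k : F, η *ᵥ z = k • η *ᵥ z' := by
  classical
  by_contra! hk
  have hz : η *ᵥ z ≠ 0 := fun e => hk 0 (by rw [e, zero_smul])
  have hk' : ∀ k : F, η *ᵥ z' ≠ k • η *ᵥ z := fun k e => by
    by_cases hk0 : k = 0
    · exact hz' (by rw [e, hk0, zero_smul])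
    · exact hk k⁻¹ (by rw [e, inv_smul_smul₀ hk0])
  obtain ⟨r₀, hr₀, hr₀'⟩ := exists_sep hG hk
  obtain ⟨r₁, hr₁, hr₁'⟩ := exists_sep hG hk'
  rcases Nat.lt_or_ge m 2 with hm | hm
  · refine hk (fG G (η *ᵥ z) r₁) ?_
    exfalso
    have hm1 : m = 1 := by have := NeZero.ne m; omega
    subst hm1
    have hd : ∀ x y : Fin 1 → F, fG G x y = 0 := fun x y => by
      rw [show x = x 0 • Pi.single 0 1 from funext fun i => by simp [Subsingleton.elim i 0],
        show y = y 0 • Pi.single 0 1 from funext fun i => by simp [Subsingleton.elim i 0], fG_smul_left,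
        fG_smul_right, hG.self, mul_zero, mul_zero]
    rw [hd] at hr₀
    exact zero_ne_one hr₀
  let e₀ : Fin m := ⟨0, by omega⟩
  let e₁ : Fin m := ⟨1, by omega⟩
  have he : e₀ ≠ e₁ := by simp [e₀, e₁, Fin.ext_iff]
  let L := Matrix.vecMulVec (Pi.single e₀ (1 : F)) (G *ᵥ r₀) + Matrix.vecMulVec (Pi.single e₁ (1 : F)) (G *ᵥ r₁)
  let R := Matrix.vecMulVec z (Pi.single e₀ (1 : F)) + Matrix.vecMulVec z' (Pi.single e₁ (1 : F))
  have hLR : L * η * R = Matrix.diagonal (Pi.single e₀ 1 + Pi.single e₁ 1) := by
    rw [mul_assoc]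
    simp only [L, R, mul_add, add_mul, Matrix.mul_vecMulVec, Matrix.vecMulVec_mulVec, op_smul_eq_smul]
    have f : ∀ x r : Fin m → F, (G *ᵥ r) ⬝ᵥ x = fG G x r := fun x r => dotProduct_comm _ _
    simp only [f, hr₀, hr₀', hr₁, hr₁', one_smul, zero_smul, Matrix.zero_vecMulVec, add_zero, zero_add]
    rw [← single_eq_vec, ← single_eq_vec, ← Matrix.diagonal_single, ← Matrix.diagonal_single, Matrix.diagonal_add]
    rfl
  have h1 : (lift j (L * η * R) : Matrix (TI t m) (TI t m) F).rank ≤ dimK j m := by
    rw [lift_mul, lift_mul]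
    exact ((Matrix.rank_mul_le_left _ _).trans (Matrix.rank_mul_le_right _ _)).trans h
  rw [hLR, rank_lift_diagonal] at h1
  have h2 : 2 ≤ Fintype.card {a // (Pi.single e₀ (1 : F) + Pi.single e₁ 1 : Fin m → F) a ≠ 0} := by
    refine Fintype.one_lt_card_iff.2 ⟨⟨e₀, by simp [he]⟩, ⟨e₁, by simp [he.symm]⟩, fun e => he ?_⟩
    exact congrArg Subtype.val e
  have h3 := Nat.mul_le_mul_right (dimK j m) h2
  have := dimK_pos (m := m) j
  omega

/-- Six dimensional blocks obstruct a conjugation by an element of small rank into the centraliser. -/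
theorem not_conj_into_comm [NeZero m] (hm : 6 ≤ m) (j : Fin t) {y : GL (TI t m) F} {N : Matrix (TI t m) (TI t m) F}
    (hy : (y : Matrix (TI t m) (TI t m) F) = 1 + N) (hN : N.rank ≤ dimK j m)
    (hC : ∀ η, Comm j ((y : Matrix (TI t m) (TI t m) F) * lift j η *
      ((y⁻¹ : GL (TI t m) F) : Matrix (TI t m) (TI t m) F))) : False := by
  classical
  let f : Fin m → Fin m := fun a =>
    if h : a.val < 3 then ⟨a.val + 3, by omega⟩ else if h' : a.val < 6 then ⟨a.val - 3, by omega⟩ else a
  have hf : Function.Involutive f := fun a => by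
    simp only [f]
    by_cases h : a.val < 3
    · rw [dif_pos h, dif_neg (by simp), dif_pos (by simp; omega)]
      exact Fin.ext (by simp)
    · by_cases h' : a.val < 6
      · rw [dif_neg h, dif_pos h', dif_pos (by simp; omega)]
        exact Fin.ext (by simp; omega)
      · rw [dif_neg h, dif_neg h', dif_neg h, dif_neg h']
  let d : Fin m → F := fun a => if a.val < 3 then 1 else 0
  let P : Matrix (Fin m) (Fin m) F := Matrix.of fun a b => if b = f a then 1 else 0
  have hPD : P * Matrix.diagonal d = Matrix.diagonal (fun a => d (f a)) * P := by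
    ext a b
    simp only [Matrix.mul_diagonal, Matrix.diagonal_mul, P, Matrix.of_apply]
    by_cases h : b = f a
    · subst h; simp [mul_comm]
    · simp [h]
  have hPP : P * P = 1 := by
    ext a b
    simp only [Matrix.mul_apply, P, Matrix.of_apply, Matrix.one_apply, ite_mul, one_mul, zero_mul,
      Finset.sum_ite_eq', Finset.mem_univ, if_true, hf a]
    by_cases h : a = b <;> simp [h, Ne.symm]
  set h₁ := lift j (Matrix.diagonal d) with hh₁
  set h₂ := lift j (Matrix.diagonal fun a => d (f a)) with hh₂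
  set π := lift j P with hπ
  have hππ : π * π = 1 := by rw [hπ, ← lift_mul, hPP, lift_one]
  have hπh : π * h₁ = h₂ * π := by rw [hπ, hh₁, hh₂, ← lift_mul, ← lift_mul, hPD]
  set C := (y : Matrix (TI t m) (TI t m) F) * h₁ * ((y⁻¹ : GL (TI t m) F) : Matrix (TI t m) (TI t m) F) with hCdef
  have hCπ : π * C = C * π := hC (Matrix.diagonal d) P
  let U : Submodule F (TI t m → F) := LinearMap.ker N.mulVecLin ⊓ LinearMap.ker (N * h₁).mulVecLin
  have hU : ∀ x ∈ U, C *ᵥ x = h₁ *ᵥ x := by
    intro x hx
    have h0 : N *ᵥ x = 0 := hx.1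
    have h1 : (N * h₁) *ᵥ x = 0 := hx.2
    have hyx : (y : Matrix (TI t m) (TI t m) F) *ᵥ x = x := by
      rw [hy, Matrix.add_mulVec, Matrix.one_mulVec, h0, add_zero]
    have hyi : ((y⁻¹ : GL (TI t m) F) : Matrix (TI t m) (TI t m) F) *ᵥ x = x := by
      conv_lhs => rw [← hyx]
      rw [Matrix.mulVec_mulVec, Units.inv_mul, Matrix.one_mulVec]
    rw [hCdef, ← Matrix.mulVec_mulVec, hyi, hy, add_mul, one_mul, Matrix.add_mulVec, h1, add_zero]
  have hinj : Function.Injective π.mulVecLin := fun a b e => by
    have := congrArg (π *ᵥ ·) e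
    simpa [Matrix.mulVec_mulVec, hππ] using this
  let V : Submodule F (TI t m → F) := U.map π.mulVecLin
  have hVdim : Module.finrank F V = Module.finrank F U :=
    (Submodule.equivMapOfInjective _ hinj U).finrank_eq.symm
  let D : Matrix (TI t m) (TI t m) F := lift j (Matrix.diagonal fun a => d a + d (f a))
  have hle : U ⊓ V ≤ LinearMap.ker D.mulVecLin := by
    rintro x ⟨hxU, z, hz, rfl⟩
    have h1 := hU _ hxU
    simp only [Matrix.mulVecLin_apply] at h1 ⊢
    rw [Matrix.mulVec_mulVec, ← hCπ, ← Matrix.mulVec_mulVec, hU z hz, Matrix.mulVec_mulVec, hπh,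
      ← Matrix.mulVec_mulVec] at h1
    show D *ᵥ (π *ᵥ z) = 0
    generalize π *ᵥ z = w at h1 ⊢
    funext x
    have h2 := congrFun h1 x
    simp only [hh₁, hh₂, lift_diagonal, Matrix.mulVec_diagonal] at h2
    simp only [D, lift_diagonal, Matrix.mulVec_diagonal, Pi.zero_apply]
    by_cases ha : (x j).val < 3
    · have hb : ¬ (f (x j)).val < 3 := by simp only [f, dif_pos ha]; omega
      simp only [d, if_pos ha, if_neg hb, zero_mul, one_mul] at h2
      rw [← h2, mul_zero]
    · by_cases hb : (f (x j)).val < 3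
      · simp only [d, if_neg ha, if_pos hb, zero_mul, one_mul] at h2
        rw [h2, mul_zero]
      · simp [d, ha, hb]
  have hnull : ∀ A : Matrix (TI t m) (TI t m) F,
      A.rank + Module.finrank F (LinearMap.ker A.mulVecLin) = Fintype.card (TI t m) := fun A => by
    rw [Matrix.rank, LinearMap.finrank_range_add_finrank_ker, Module.finrank_pi]
  have hsum : ∀ A B : Submodule F (TI t m → F),
      Module.finrank F A + Module.finrank F B ≤ Module.finrank F (A ⊓ B : Submodule F (TI t m → F)) +
        Fintype.card (TI t m) := fun A B => by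
    rw [← Submodule.finrank_sup_add_finrank_inf_eq, add_comm (Module.finrank F (A ⊓ B : Submodule F (TI t m → F)))]
    exact Nat.add_le_add_right ((Submodule.finrank_le _).trans (by rw [Module.finrank_pi])) _
  have e1 := hnull N
  have e2 := hnull (N * h₁)
  have e3 := hnull D
  have e4 : (N * h₁).rank ≤ dimK j m := (Matrix.rank_mul_le_left _ _).trans hN
  have e5 : Module.finrank F (LinearMap.ker N.mulVecLin) + Module.finrank F (LinearMap.ker (N * h₁).mulVecLin) ≤
      Module.finrank F U + Fintype.card (TI t m) := hsum _ _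
  have e6 := hsum U V
  have e7 := Submodule.finrank_mono hle
  have e8 : 6 ≤ Fintype.card {a // d a + d (f a) ≠ 0} := by
    let g : Fin 6 → {a // d a + d (f a) ≠ 0} := fun i => ⟨⟨i.val, by omega⟩, by
      rcases Nat.lt_or_ge i.val 3 with h | h
      · simp [d, f, h]
      · simp [d, f, h.not_gt, i.isLt, show i.val - 3 < 3 by omega]⟩
    have hg : Function.Injective g := fun a b e => Fin.ext (by simpa [g, Fin.ext_iff] using congrArg Subtype.val e)
    simpa using Fintype.card_le_of_injective g hg
  have e9 : D.rank = Fintype.card {a // d a + d (f a) ≠ 0} * dimK j m := rank_lift_diagonal j _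
  have e10 := Nat.mul_le_mul_right (dimK j m) e8
  have := dimK_pos (m := m) j
  omega

end Cfsg.Agent.TensorWreath43
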