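import Cfsg.Agent.Lib.TensorWreath43SymAll

/-!
An element of an overgroup mapping one ruler to a ruler is decomposable.
-/

set_option autoImplicit false
set_option linter.unusedSectionVars false

namespace Cfsg.Agent.TensorWreath43

open scoped Matrix

variable {F : Type*} [Field F] {t m : ℕ}

/-- `Z` maps the ruler of `u` to the ruler of `v` through `α`. -/
def MapR (G : Matrix (Fin m) (Fin m) F) (j : Fin t) (Z : Matrix (TI t m) (TI t m) F) (u v : Fin m → F)
    (α : Matrix (TI t m) (TI t m) F) : Prop :=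
  ∀ s : Fin m → F, Z * lift j (Eop G u s) = lift j (Eop G v s) * α

/-- `Z` decomposes over the position `j`. -/
def KronAt (j : Fin t) (Z : Matrix (TI t m) (TI t m) F) : Prop :=
  ∃ (β : Matrix (Fin m) (Fin m) F) (α : Matrix (TI t m) (TI t m) F), Comm j α ∧ Z = lift j β * α

/-- The two criteria used by the ruler theorem. -/
structure Crit (G : Matrix (Fin m) (Fin m) F) (M : Subgroup (GL (TI t m) F)) : Prop where
  root : ∀ {j : Fin t} {b : Fin m → F}, b ≠ 0 → ∀ {C : Matrix (TI t m) (TI t m) F}, Comm j C →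
    MemU M (lift j (Eop G b b) * C) → ∃ c : F, C = c • 1
  radical : ∀ {j : Fin t} {b b' u : Fin m → F}, fG G b b' = 1 → fG G u b = 0 → fG G u b' = 0 → u ≠ 0 →
    ∀ {X R : Matrix (TI t m) (TI t m) F}, MemU M X → X * X = 0 → adjT G X = -X → Comm j R →
      (∀ s, X * lift j (Eop G u s) = lift j (Eop G b s) * R) → ∃ c : F, R = c • 1

section Basics

variable {G : Matrix (Fin m) (Fin m) F}

theorem SG.sum_Eop (hG : SG G) :
    ∑ p : Fin m, Eop G (Pi.single p (1 : F)) (G⁻¹ *ᵥ Pi.single p 1) = 1 := by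
  rw [← sum_vec_single (F := F) (m := m)]
  refine Finset.sum_congr rfl fun p _ => ?_
  rw [Eop, Matrix.mulVec_mulVec, hG.mul_inv, Matrix.one_mulVec]

theorem SG.ext_left (hG : SG G) (j : Fin t) {A B : Matrix (TI t m) (TI t m) F}
    (h : ∀ x r, lift j (Eop G x r) * A = lift j (Eop G x r) * B) : A = B := by
  have e : ∀ Z : Matrix (TI t m) (TI t m) F,
      Z = ∑ p, lift j (Eop G (Pi.single p (1 : F)) (G⁻¹ *ᵥ Pi.single p 1)) * Z := fun Z => by
    rw [← Finset.sum_mul, ← lift_sum, hG.sum_Eop, lift_one, one_mul]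
  rw [e A, e B]
  exact Finset.sum_congr rfl fun p _ => h _ _

theorem SG.ext_right (hG : SG G) (j : Fin t) {A B : Matrix (TI t m) (TI t m) F}
    (h : ∀ x r, A * lift j (Eop G x r) = B * lift j (Eop G x r)) : A = B := by
  have e : ∀ Z : Matrix (TI t m) (TI t m) F,
      Z = ∑ p, Z * lift j (Eop G (Pi.single p (1 : F)) (G⁻¹ *ᵥ Pi.single p 1)) := fun Z => by
    rw [← Finset.mul_sum, ← lift_sum, hG.sum_Eop, lift_one, mul_one]
  rw [e A, e B]
  exact Finset.sum_congr rfl fun p _ => h _ _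

theorem lift_Eop_smul_left (j : Fin t) (c : F) (u v : Fin m → F) :
    lift j (Eop G (c • u) v) = c • lift j (Eop G u v) := by rw [Eop_smul_left, lift_smul]

theorem mapR_of_ct (hG : SG G) (j : Fin t) {Z α : Matrix (TI t m) (TI t m) F} {u v : Fin m → F}
    (h : ∀ r, ct G j r u Z = fG G v r • α) : MapR G j Z u v α := by
  intro s
  refine hG.ext_left j fun x r => ?_
  rw [← mul_assoc, ← lift_Eop_mul_ct, h, ← mul_assoc, ← lift_mul, Eop_mul, lift_smul, Matrix.mul_smul,
    Matrix.smul_mul]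

theorem MapR.ct_eq (hG : SG G) {j : Fin t} {Z α : Matrix (TI t m) (TI t m) F} {u v : Fin m → F}
    (h : MapR G j Z u v α) (hα : Comm j α) (r : Fin m → F) : ct G j r u Z = fG G v r • α := by
  refine hG.ext_right j fun x s => ?_
  have e1 : lift j (Eop G x r) * Z * lift j (Eop G u s) = fG G v r • (lift j (Eop G x s) * α) := by
    rw [mul_assoc, h, ← mul_assoc, ← lift_mul, Eop_mul, lift_smul, Matrix.smul_mul]
  rw [← lift_Eop_mul_ct] at e1
  rw [← (show Comm j (ct G j r u Z) from comm_cn j _ _ Z) (Eop G x s), Matrix.smul_mul, ← hα (Eop G x s)]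
  exact e1

theorem SG.adjT_ct (hG : SG G) (i : Fin t) (a b : Fin m → F) (Z : Matrix (TI t m) (TI t m) F) :
    adjT G (ct G i a b Z) = -ct G i b a (adjT G Z) := by
  refine hG.ext_left i fun x r => ?_
  have hn : ∀ A : Matrix (Fin m) (Fin m) F, lift i (-A) = -lift i A := fun A => map_neg (liftHom (F := F) i) A
  have h := congrArg (adjT G) (lift_Eop_mul_ct (G := G) i r x a b Z)
  simp only [hG.adjT_mul, hG.adjT_lift, hG.adjG_Eop, hn, mul_neg, neg_mul, neg_neg, ← mul_assoc] at h
  rw [← lift_Eop_mul_ct,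
    ← (show Comm i (adjT G (ct G i a b Z)) from hG.adjT_comm (comm_cn i (G *ᵥ a) b Z)) (Eop G x r)] at h
  rw [mul_neg, ← h, neg_neg]

theorem MapR.move_left {j : Fin t} {Z α : Matrix (TI t m) (TI t m) F} {u v : Fin m → F} (h : MapR G j Z u v α)
    (η : Matrix (Fin m) (Fin m) F) : MapR G j (lift j η * Z) u (η *ᵥ v) α := fun s => by
  rw [mul_assoc, h, ← mul_assoc, ← lift_mul, mul_Eop]

theorem exists_middle (hG : SG G) {b b' u : Fin m → F} (hbb : fG G b b' = 1) (hub : fG G u b = 0)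
    (hub' : fG G u b' = 0) (hu : u ≠ 0) : ∃ d, fG G u d = 1 ∧ fG G d b = 0 ∧ fG G d b' = 0 := by
  obtain ⟨d₀, hd₀⟩ := hG.exists_left hu
  have hb'b : fG G b' b = -1 := by rw [hG.swap, hbb]
  refine ⟨(-1 : F) • d₀ + fG G d₀ b' • b + -fG G d₀ b • b', ?_, ?_, ?_⟩ <;>
    simp only [fG_add_left, fG_add_right, fG_smul_left, fG_smul_right, hG.self, hbb, hb'b, hub, hub', mul_zero,
      add_zero, hG.swap u d₀, hd₀] <;> ring

end Basics

section Over

variable [Fintype F] {G : Matrix (Fin m) (Fin m) F} {M : Subgroup (GL (TI t m) F)} (H : SBase G M)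
include H

theorem SBase.adjT_lift_iso {j : Fin t} {h : Matrix (Fin m) (Fin m) F} (hh : adjG G h * h = 1) :
    ∃ g : GL (TI t m) F, g ∈ M ∧ (g : Matrix (TI t m) (TI t m) F) = lift j h :=
  ⟨_, H.root j ⟨h, adjG G h, mul_eq_one_comm.1 hh, hh⟩ hh, rfl⟩

theorem SBase.adjT_inv {g : GL (TI t m) F} (hg : g ∈ M) :
    adjT G ((g⁻¹ : GL (TI t m) F) : Matrix (TI t m) (TI t m) F) = (g : Matrix (TI t m) (TI t m) F) := by
  rw [H.inv_val hg, H.hG.adjT_adjT]

theorem SBase.memU_conj {g : GL (TI t m) F} (hg : g ∈ M) {X : Matrix (TI t m) (TI t m) F} (hX : MemU M X) :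
    MemU M ((g : Matrix (TI t m) (TI t m) F) * X * adjT G (g : Matrix (TI t m) (TI t m) F)) := by
  have := hX.conjU hg
  rwa [H.inv_val hg] at this

theorem SBase.left_of_mapR {g : GL (TI t m) F} (hg : g ∈ M) {j : Fin t} {b : Fin m → F}
    {α : Matrix (TI t m) (TI t m) F} (hα : Comm j α) (h : MapR G j (g : Matrix (TI t m) (TI t m) F) b b α)
    (x : Fin m → F) :
    lift j (Eop G x b) * ((g⁻¹ : GL (TI t m) F) : Matrix (TI t m) (TI t m) F) = lift j (Eop G x b) * adjT G α := by
  have h' := congrArg (adjT G) (h x)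
  have hn : ∀ A : Matrix (Fin m) (Fin m) F, lift j (-A) = -lift j A := fun A => map_neg (liftHom (F := F) j) A
  rw [H.hG.adjT_mul, H.hG.adjT_mul, H.hG.adjT_lift, H.hG.adjG_Eop, hn, neg_mul, mul_neg, neg_inj,
    ← H.inv_val hg] at h'
  rw [h', H.hG.adjT_comm hα]

theorem SBase.kappa [NeZero m] (hK : Crit G M) {g : GL (TI t m) F} (hg : g ∈ M) {j : Fin t} {b : Fin m → F}
    (hb : b ≠ 0) {α : Matrix (TI t m) (TI t m) F} (hα : Comm j α)
    (h : MapR G j (g : Matrix (TI t m) (TI t m) F) b b α) :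
    ∃ κ : F, κ ≠ 0 ∧ α * adjT G α = κ • 1 ∧ adjT G α * α = κ • 1 := by
  obtain ⟨x, hx⟩ := H.hG.exists_left hb
  have hsplit : lift j (Eop G b b) = lift j (Eop G b b) * lift j (Eop G x b) := by
    rw [← lift_mul, Eop_mul, hx, one_smul]
  have e : (g : Matrix (TI t m) (TI t m) F) * lift j (Eop G b b) *
      ((g⁻¹ : GL (TI t m) F) : Matrix (TI t m) (TI t m) F) = lift j (Eop G b b) * (α * adjT G α) := by
    rw [hsplit, ← mul_assoc, h, mul_assoc _ _ ((g⁻¹ : GL (TI t m) F) : Matrix (TI t m) (TI t m) F),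
      H.left_of_mapR hg hα h, ← hsplit]
    rw [mul_assoc, ← mul_assoc α, ← hα, ← mul_assoc, ← mul_assoc, ← hsplit, mul_assoc]
  have hm1 : MemU M (lift j (Eop G b b) * (α * adjT G α)) := by
    rw [← e]
    have := H.root_mem j b 1
    rw [one_smul] at this
    exact this.conjU hg
  obtain ⟨κ, hκ⟩ := hK.root hb (hα.mul (H.hG.adjT_comm hα)) hm1
  have hκ0 : κ ≠ 0 := by
    intro h0
    rw [hκ, h0, zero_smul, mul_zero] at e
    have e' := congrArg (fun Z => ((g⁻¹ : GL (TI t m) F) : Matrix (TI t m) (TI t m) F) * Z *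
      (g : Matrix (TI t m) (TI t m) F)) e
    simp only [← mul_assoc, Units.inv_mul, one_mul, mul_zero, zero_mul, Units.inv_mul_cancel_right] at e'
    exact Eop_ne_zero H.hG hb (lift_injective j (by rw [e', lift_zero]))
  refine ⟨κ, hκ0, hκ, ?_⟩
  have h1 : α * (κ⁻¹ • adjT G α) = 1 := by rw [Matrix.mul_smul, hκ, smul_smul, inv_mul_cancel₀ hκ0, one_smul]
  have h2 := mul_eq_one_comm.1 h1
  rw [Matrix.smul_mul, inv_smul_eq_iff₀ hκ0] at h2
  exact h2

end Over

section Odd

variable [Fintype F] {G : Matrix (Fin m) (Fin m) F} {M : Subgroup (GL (TI t m) F)} (H : SOver G M)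
include H

theorem SOver.scalar_of_root [NeZero m] (hB : NoHit G M) {j : Fin t} {b : Fin m → F} (hb : b ≠ 0)
    {C : Matrix (TI t m) (TI t m) F} (hC : Comm j C) (hM : MemU M (lift j (Eop G b b) * C)) :
    ∃ c : F, C = c • 1 := by
  by_contra hns
  exact hB j _ _ (Or.inl ⟨b, hb, rfl⟩) hC hns hM

theorem SOver.radical [NeZero m] (hB : NoHit G M) {j : Fin t} {b b' u : Fin m → F}
    (hbb : fG G b b' = 1) (hub : fG G u b = 0) (hub' : fG G u b' = 0) (hu : u ≠ 0)
    {X R : Matrix (TI t m) (TI t m) F} (hX : MemU M X) (hX2 : X * X = 0) (hXa : adjT G X = -X) (hR : Comm j R)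
    (hXR : ∀ s, X * lift j (Eop G u s) = lift j (Eop G b s) * R) : ∃ c : F, R = c • 1 := by
  have hbu : fG G b u = 0 := H.hG.swap_zero hub
  have hb'u : fG G b' u = 0 := H.hG.swap_zero hub'
  have hb'b : fG G b' b = -1 := by rw [H.hG.swap, hbb]
  have hb : b ≠ 0 := by
    rintro rfl
    rw [← zero_smul F b', fG_smul_left, zero_mul] at hbb
    exact zero_ne_one hbb
  have hRa := H.hG.adjT_comm hR
  have hn : ∀ A : Matrix (Fin m) (Fin m) F, lift j (-A) = -lift j A := fun A => map_neg (liftHom (F := F) j) A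
  have hadjR : ∀ s, lift j (Eop G s u) * X = -(lift j (Eop G s b) * adjT G R) := fun s => by
    have h' := congrArg (adjT G) (hXR s)
    rw [H.hG.adjT_mul, H.hG.adjT_mul, H.hG.adjT_lift, H.hG.adjT_lift, H.hG.adjG_Eop, H.hG.adjG_Eop, hXa, hn, hn,
      neg_mul_neg] at h'
    rw [h', mul_neg, hRa]
  set L := lift j (Eop G u u) with hL
  set Y := lift j (Eop G b u) * R + lift j (Eop G u b) * adjT G R with hY
  set B := lift j (Eop G b b) * (R * adjT G R) with hBdef
  have hA : L * X - X * L = -Y := by rw [hL, hXR, hadjR, hY]; abel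
  have hLXL : L * X * L = 0 := by
    rw [hL, mul_assoc, hXR, ← mul_assoc, ← lift_mul, Eop_mul, hbu, zero_smul, lift_zero, zero_mul]
  have hXLX : X * L * X = -B := by
    rw [hL, hXR, mul_assoc, ← mul_assoc, hR, mul_assoc, hadjR, mul_neg, ← mul_assoc, ← hR, mul_assoc]
  have hLL : L * L = 0 := by rw [hL, ← lift_mul, Eop_self_mul H.hG, lift_zero]
  -- the commutator with a root
  have h1 : MemU M (Y + B) := by
    obtain ⟨g, hg, hgL⟩ := H.root_mem j u (-1)
    have hc := hX.conjU hg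
    rw [hgL, show ((g⁻¹ : GL (TI t m) F) : Matrix (TI t m) (TI t m) F) = 1 - (-1 : F) • L from
      Units.inv_eq_of_mul_eq_one_right (by
        rw [hgL, neg_one_smul, ← hL, add_mul, one_mul, sub_neg_eq_add, mul_add, mul_one, neg_mul, hLL]; abel),
      neg_one_smul, ← hL, show (1 + -L) * X * (1 - -L) = X - (L * X - X * L) - L * X * L by noncomm_ring, hA, hLXL,
      sub_zero, sub_neg_eq_add] at hc
    obtain ⟨g₁, hg₁, h₁⟩ := hc
    obtain ⟨g₂, hg₂, h₂⟩ := hX.neg hX2
    refine ⟨g₁ * g₂, M.mul_mem hg₁ hg₂, ?_⟩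
    rw [Units.val_mul, h₁, h₂]
    have eYX : Y * X = -B := by
      rw [← neg_neg Y, ← hA, neg_mul, sub_mul, mul_assoc L, hX2, mul_zero, zero_sub, neg_neg, hXLX]
    calc (1 + (X + Y)) * (1 + -X) = 1 + Y - X * X - Y * X := by noncomm_ring
      _ = 1 + (Y + B) := by rw [hX2, eYX]; abel
  -- the reflection in the plane of `b` and `b'`
  obtain ⟨J, hJ, hJb, hJu⟩ : ∃ J : Matrix (Fin m) (Fin m) F, adjG G J * J = 1 ∧ J *ᵥ b = -b ∧ J *ᵥ u = u := by
    refine ⟨1 + (2 : F) • (Eop G b' b - Eop G b b'), ?_, ?_, ?_⟩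
    · have eP : (Eop G b' b - Eop G b b') * (Eop G b' b - Eop G b b') = -(Eop G b' b - Eop G b b') := by
        simp only [mul_sub, sub_mul, Eop_mul, H.hG.self, hbb, hb'b, zero_smul, one_smul, neg_one_smul]
        abel
      rw [adjG_add, adjG_smul, H.hG.adjG_one, sub_eq_add_neg, adjG_add, adjG_neg, H.hG.adjG_Eop, H.hG.adjG_Eop,
        neg_neg, add_comm (-Eop G b b'), add_mul, one_mul, mul_add, mul_one, Matrix.smul_mul, Matrix.mul_smul,
        ← sub_eq_add_neg, eP, smul_neg, smul_neg, smul_smul]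
      module
    · rw [Matrix.add_mulVec, Matrix.one_mulVec, Matrix.smul_mulVec, Matrix.sub_mulVec, Eop_mulVec, Eop_mulVec,
        H.hG.self, hbb]
      module
    · rw [Matrix.add_mulVec, Matrix.one_mulVec, Matrix.smul_mulVec, Matrix.sub_mulVec, Eop_mulVec, Eop_mulVec,
        hub, hub', zero_smul, zero_smul, sub_zero, smul_zero, add_zero]
  have hJc : ∀ (x y : Fin m → F) {C : Matrix (TI t m) (TI t m) F}, Comm j C →
      lift j J * (lift j (Eop G x y) * C) * lift j (adjG G J) = lift j (Eop G (J *ᵥ x) (J *ᵥ y)) * C :=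
    fun x y C hC => by
    rw [← mul_assoc, mul_assoc, ← hC, ← mul_assoc, ← lift_mul, ← lift_mul, conj_Eop H.hG]
  have h2 : MemU M (-Y + B) := by
    have := H.lift_conj j hJ h1
    rw [hY, hBdef, mul_add, mul_add, add_mul, add_mul, hJc _ _ hR, hJc _ _ hRa, hJc _ _ (hR.mul hRa), hJb, hJu,
      ← neg_one_smul F b, Eop_smul_left, Eop_smul_right, Eop_smul_left, Eop_smul_right, lift_smul, lift_smul,
      lift_smul, lift_smul, smul_smul] at this
    convert this using 1
    rw [hY, hBdef, Matrix.smul_mul, Matrix.smul_mul, Matrix.smul_mul]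
    module
  have zp : ∀ (x y z w : Fin m → F) {C D : Matrix (TI t m) (TI t m) F}, Comm j C → fG G z y = 0 →
      lift j (Eop G x y) * C * (lift j (Eop G z w) * D) = 0 := fun x y z w C D hC h0 => by
    rw [mul_assoc, ← mul_assoc C, ← hC, mul_assoc, ← mul_assoc, ← lift_mul, Eop_mul, h0, zero_smul, lift_zero,
      zero_mul]
  have hYY : Y * Y = 0 := by
    rw [hY, add_mul, mul_add, mul_add, zp _ _ _ _ hR hbu, zp _ _ _ _ hR (H.hG.self u), zp _ _ _ _ hRa (H.hG.self b),
      zp _ _ _ _ hRa hub]; simp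
  have hYB : Y * B = 0 := by
    rw [hY, hBdef, add_mul, zp _ _ _ _ hR hbu, zp _ _ _ _ hRa (H.hG.self b), add_zero]
  have hBY : B * Y = 0 := by
    rw [hY, hBdef, mul_add, zp _ _ _ _ (hR.mul hRa) (H.hG.self b), zp _ _ _ _ (hR.mul hRa) hub, add_zero]
  have hBB : B * B = 0 := by rw [hBdef, zp _ _ _ _ (hR.mul hRa) (H.hG.self b)]
  have hYm : MemU M Y := by
    refine MemU.half H.two ?_ hYY
    have h2' := h2.neg (by rw [add_mul, mul_add, mul_add, neg_mul_neg, hYY, neg_mul, mul_neg, hYB, hBY, hBB]; simp)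
    have := h1.add h2' (by
      rw [mul_neg, add_mul, mul_add, mul_add, mul_neg, mul_neg, hYY, hYB, hBY, hBB]; simp)
    convert this using 1
    rw [two_smul]; abel
  -- the bracket with a long element
  obtain ⟨d, hud, hdb, hdb'⟩ := exists_middle H.hG hbb hub hub' hu
  have hbd : fG G b d = 0 := H.hG.swap_zero hdb
  have hdu : fG G d u = -1 := by rw [H.hG.swap, hud]
  have hS : ∀ {v : Fin m → F}, fG G b v = 0 → ∀ z : F, MemU M (z • lift j (Eop G b v + Eop G v b)) := by
    intro v hbv z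
    have hvb : fG G v b = 0 := H.hG.swap_zero hbv
    set S := Eop G b v + Eop G v b with hSdef
    have hSS : S * S = 0 := by
      simp only [hSdef, add_mul, mul_add, Eop_mul, H.hG.self, hbv, hvb, zero_smul, add_zero]
    have hSa : adjG G S = -S := by rw [hSdef, adjG_add, H.hG.adjG_Eop, H.hG.adjG_Eop]; abel
    obtain ⟨g, hg, hgS⟩ := H.adjT_lift_iso (j := j) (h := 1 + z • S) (by
      rw [adjG_add, adjG_smul, H.hG.adjG_one, hSa, smul_neg, add_mul, one_mul, neg_mul, mul_add, mul_one,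
        Matrix.smul_mul, Matrix.mul_smul, hSS, smul_zero, smul_zero]
      abel)
    exact ⟨g, hg, by rw [hgS, lift_add, lift_one, lift_smul]⟩
  set S := lift j (Eop G b d) + lift j (Eop G d b) with hSdef
  have hS1 : MemU M S := by have := hS hbd 1; rwa [one_smul, lift_add] at this
  have eYS : Y * S = lift j (Eop G b b) * (-R) := by
    rw [hY, hSdef, add_mul, mul_add, mul_add]
    simp only [mul_assoc, ← hR _, ← hRa _]
    simp only [← mul_assoc, ← lift_mul, Eop_mul, hbu, hdu, H.hG.self, hdb, zero_smul, lift_zero, zero_mul, add_zero,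
      zero_add, neg_one_smul, hn, neg_mul, mul_neg]
  have eSY : S * Y = lift j (Eop G b b) * adjT G R := by
    rw [hY, hSdef, add_mul, mul_add, mul_add]
    simp only [← mul_assoc, ← lift_mul, Eop_mul, hbd, hub, hud, H.hG.self, zero_smul, lift_zero, zero_mul, add_zero,
      zero_add, one_smul]
  have hbr := hYm.bracket hS1 hYY
    (by
      rw [hSdef, add_mul, mul_add, mul_add]
      simp only [← lift_mul, Eop_mul, H.hG.self, hbd, hdb, zero_smul, lift_zero, add_zero])
    (by
      rw [eYS, hY, mul_add, zp _ _ _ _ (hR.smul (-1) |> fun h => by simpa using h) (H.hG.self b),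
        zp _ _ _ _ (hR.smul (-1) |> fun h => by simpa using h) hub, add_zero])
    (by
      rw [eSY, hSdef, mul_add, ← mul_one (lift j (Eop G b d)), ← mul_one (lift j (Eop G d b)),
        zp _ _ _ _ hRa (H.hG.self b), zp _ _ _ _ hRa hdb, add_zero])
  rw [eYS, eSY, ← mul_sub] at hbr
  obtain ⟨c, hc⟩ := H.scalar_of_root hB hb
    (Comm.sub (by simpa using hR.smul (-1)) hRa) hbr
  -- the skew part
  set s := -c / 2 with hs
  set K := R - s • 1 with hK
  have hKc : Comm j K := hR.sub ((comm_one j).smul s)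
  have hKa : adjT G K = -K := by
    rw [hK, adjT_sub, adjT_smul, H.hG.adjT_one]
    have : adjT G R = (-c) • 1 - R := by rw [neg_smul, ← hc]; abel
    have h2 : -c = (2 : F) * s := (mul_div_cancel₀ _ H.two).symm
    rw [this, h2]
    module
  have hτ : MemU M (lift j (tau G b u) * K) := by
    have := hYm.add (hS hbu (-s)) (by
      rw [Matrix.mul_smul, lift_add, mul_add, ← mul_one (lift j (Eop G b u)), ← mul_one (lift j (Eop G u b)), hY,
        add_mul, add_mul, zp _ _ _ _ hR hbu, zp _ _ _ _ hR (H.hG.self u), zp _ _ _ _ hRa (H.hG.self b),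
        zp _ _ _ _ hRa hub]
      simp)
    convert this using 1
    have hRK : R = K + s • 1 := by rw [hK]; abel
    have hRaK : adjT G R = -K + s • 1 := by rw [← hKa, hK, adjT_sub, adjT_smul, H.hG.adjT_one]; abel
    rw [hY, hRaK, show lift j (tau G b u) = lift j (Eop G b u) - lift j (Eop G u b) from
      map_sub (liftHom (F := F) j) _ _, lift_add, hRK]
    simp only [mul_add, mul_neg, Matrix.mul_smul, mul_one, sub_mul, smul_add]
    module
  have htau : tau G b u ≠ 0 := tau_ne_zero_of (b := (-1 : F) • d) (u := u) hb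
    (by rw [fG_smul_left, hdu]; ring) (by rw [fG_smul_left, hdb]; ring)
  obtain ⟨c', hc'⟩ : ∃ c' : F, K = c' • 1 := by
    by_contra hns
    exact hB j _ _ (Or.inr ⟨b, u, hbu, htau, rfl⟩) hKc hns hτ
  exact ⟨c' + s, by rw [add_smul, ← hc', hK]; abel⟩

theorem SOver.crit [NeZero m] (hB : NoHit G M) : Crit G M where
  root := fun hb => H.scalar_of_root hB hb
  radical := fun hbb hub hub' hu => H.radical hB hbb hub hub' hu

end Odd

end Cfsg.Agent.TensorWreath43
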