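import Cfsg.Agent.Lib.TensorWreath43Adj
import Cfsg.Agent.Lib.TensorWreath43Glue
import Cfsg.Agent.Lib.TransvectionMax

/-!
Root calculus for an overgroup of a symplectic tensor wreath stabiliser.
-/

set_option autoImplicit false
set_option linter.unusedSectionVars false

namespace Cfsg.Agent.TensorWreath43

open scoped Matrix

variable {F : Type*} [Field F] {t m : ℕ}

/-- The hypotheses on an overgroup of a symplectic tensor wreath stabiliser. -/
structure SBase (G : Matrix (Fin m) (Fin m) F) (M : Subgroup (GL (TI t m) F)) : Prop where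
  hG : SG G
  root : ∀ (j : Fin t) (η : GL (Fin m) F),
    adjG G (η : Matrix (Fin m) (Fin m) F) * (η : Matrix (Fin m) (Fin m) F) = 1 →
      Units.map (liftHom (F := F) j).toMonoidHom η ∈ M
  perm : ∀ σ : Equiv.Perm (Fin t), σ ^ 3 = 1 → permU σ ∈ M
  iso : ∀ g ∈ M, adjT G (g : Matrix (TI t m) (TI t m) F) * (g : Matrix (TI t m) (TI t m) F) = 1

/-- The hypotheses in odd characteristic. -/
structure SOver (G : Matrix (Fin m) (Fin m) F) (M : Subgroup (GL (TI t m) F)) : Prop extends SBase G M where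
  two : (2 : F) ≠ 0

/-- The operator of a pair of orthogonal vectors. -/
def tau (G : Matrix (Fin m) (Fin m) F) (u v : Fin m → F) : Matrix (Fin m) (Fin m) F := Eop G u v - Eop G v u

/-- The two types of operators at a position. -/
def Typ (G : Matrix (Fin m) (Fin m) F) (T : Matrix (Fin m) (Fin m) F) : Prop :=
  (∃ u : Fin m → F, u ≠ 0 ∧ T = Eop G u u) ∨ (∃ u v : Fin m → F, fG G u v = 0 ∧ tau G u v ≠ 0 ∧ T = tau G u v)

/-- Typed operators on `S` and identities elsewhere. -/
def TS (G : Matrix (Fin m) (Fin m) F) (S : Finset (Fin t)) (θ : Fin t → Matrix (Fin m) (Fin m) F) : Prop :=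
  (∀ i ∈ S, Typ G (θ i)) ∧ ∀ i, i ∉ S → θ i = 1

/-- All multiples of the tensor product of `θ` give elements of `M`. -/
def TMem (M : Subgroup (GL (TI t m) F)) (θ : Fin t → Matrix (Fin m) (Fin m) F) : Prop :=
  ∀ z : F, MemU M (z • pureT θ)

/-- No typed element at one position with a non-scalar cofactor gives an element of `M`. -/
def NoHit (G : Matrix (Fin m) (Fin m) F) (M : Subgroup (GL (TI t m) F)) : Prop :=
  ∀ (j : Fin t) (T C : Matrix _ _ F), Typ G T → Comm j C → (¬ ∃ c : F, C = c • 1) → ¬ MemU M (lift j T * C)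

/-- `X` has the factor `T` at the position `p`. -/
def Fac (p : Fin t) (T : Matrix (Fin m) (Fin m) F) (X : Matrix (TI t m) (TI t m) F) : Prop :=
  ∃ C, Comm p C ∧ X = lift p T * C

section Basics

variable {G : Matrix (Fin m) (Fin m) F} {M : Subgroup (GL (TI t m) F)}

theorem MemU.nsmul {R : Type*} [Ring R] {N : Subgroup Rˣ} {X : R} (hX : MemU N X) (h : X * X = 0) (n : ℕ) :
    MemU N (n • X) := by
  induction n with
  | zero => rw [zero_smul]; exact MemU.zero N
  | succ n ih => rw [succ_nsmul]; exact ih.add hX (by rw [smul_mul_assoc, h, smul_zero])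

theorem MemU.conjU {R : Type*} [Ring R] {N : Subgroup Rˣ} {X : R} (hX : MemU N X) {g : Rˣ} (hg : g ∈ N) :
    MemU N ((g : R) * X * ((g⁻¹ : Rˣ) : R)) := by
  obtain ⟨x, hx, hxX⟩ := hX
  refine ⟨g * x * g⁻¹, N.mul_mem (N.mul_mem hg hx) (N.inv_mem hg), ?_⟩
  rw [Units.val_mul, Units.val_mul, hxX, mul_add, mul_one, add_mul, Units.mul_inv]

theorem MemU.bracket {R : Type*} [Ring R] {N : Subgroup Rˣ} {X Z : R} (hX : MemU N X) (hZ : MemU N Z)
    (e : X * X = 0) (e' : Z * Z = 0) (e₁ : X * Z * X = 0) (e₂ : Z * X * Z = 0) : MemU N (X * Z - Z * X) := by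
  obtain ⟨g, hg, hgX⟩ := hX
  obtain ⟨g', hg', hgZ⟩ := hZ
  refine ⟨g * g' * g⁻¹ * g'⁻¹, N.mul_mem (N.mul_mem (N.mul_mem hg hg') (N.inv_mem hg)) (N.inv_mem hg'), ?_⟩
  have i1 : ((g⁻¹ : Rˣ) : R) = 1 - X :=
    Units.inv_eq_of_mul_eq_one_right (by rw [hgX, add_mul, one_mul, mul_sub, mul_one, e]; abel)
  have i2 : ((g'⁻¹ : Rˣ) : R) = 1 - Z :=
    Units.inv_eq_of_mul_eq_one_right (by rw [hgZ, add_mul, one_mul, mul_sub, mul_one, e']; abel)
  rw [Units.val_mul, Units.val_mul, Units.val_mul, hgX, hgZ, i1, i2]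
  have a1 : (1 + X) * (1 + Z) * (1 - X) = 1 + Z + X * Z - Z * X := by
    calc (1 + X) * (1 + Z) * (1 - X) = 1 + Z + X * Z - Z * X - X * X - X * Z * X := by noncomm_ring
      _ = _ := by rw [e, e₁]; abel
  rw [a1]
  calc (1 + Z + X * Z - Z * X) * (1 - Z)
      = 1 + (X * Z - Z * X) - Z * Z - X * (Z * Z) + Z * X * Z := by noncomm_ring
    _ = _ := by rw [e', e₂, mul_zero]; abel

theorem MemU.half [Finite F] (h2 : (2 : F) ≠ 0) {Z : Matrix (TI t m) (TI t m) F} (h : MemU M ((2 : F) • Z))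
    (e : Z * Z = 0) : MemU M Z := by
  obtain ⟨p, hp⟩ := CharP.exists F
  haveI := hp
  have hprime : p.Prime := (CharP.char_is_prime_or_zero F p).resolve_right (CharP.char_ne_zero_of_finite F p)
  obtain ⟨k, hk⟩ : Odd p := hprime.odd_of_ne_two fun e2 => h2 (by subst e2; exact CharP.cast_eq_zero F 2)
  have hc : ((k + 1 : ℕ) : F) * 2 = 1 := by
    have h0 : (p : F) = 0 := CharP.cast_eq_zero F p
    rw [hk] at h0
    push_cast at h0 ⊢
    linear_combination h0
  have := h.nsmul (by rw [Matrix.smul_mul, Matrix.mul_smul, e, smul_zero, smul_zero]) (k + 1)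
  rwa [← Nat.cast_smul_eq_nsmul F, smul_smul, hc, one_smul] at this

theorem pureT_smul_pi (a : Fin t → F) (η : Fin t → Matrix (Fin m) (Fin m) F) :
    pureT (fun i => a i • η i) = (∏ i, a i) • pureT η := by
  ext x y
  simp [pureT, Finset.prod_mul_distrib]

theorem comm_pureT {j : Fin t} {η : Fin t → Matrix (Fin m) (Fin m) F} (h : η j = 1) : Comm j (pureT η) := by
  intro ξ
  rw [← pureT_update_eq_lift, pureT_mul, pureT_mul]
  congr 1
  funext i
  by_cases hi : i = j
  · subst hi; simp [h]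
  · simp [hi]

theorem lift_mul_pureT (j : Fin t) (X : Matrix (Fin m) (Fin m) F) (η : Fin t → Matrix (Fin m) (Fin m) F) :
    lift j X * pureT η = pureT (Function.update η j (X * η j)) := by
  rw [← pureT_update_eq_lift, pureT_mul]
  congr 1
  funext i
  by_cases hi : i = j
  · subst hi; simp
  · simp [hi]

theorem pureT_mul_lift (j : Fin t) (X : Matrix (Fin m) (Fin m) F) (η : Fin t → Matrix (Fin m) (Fin m) F) :
    pureT η * lift j X = pureT (Function.update η j (η j * X)) := by
  rw [← pureT_update_eq_lift, pureT_mul]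
  congr 1
  funext i
  by_cases hi : i = j
  · subst hi; simp
  · simp [hi]

theorem pureT_split (p : Fin t) (η : Fin t → Matrix (Fin m) (Fin m) F) :
    pureT η = lift p (η p) * pureT (Function.update η p 1) := by
  rw [lift_mul_pureT]
  simp

theorem pureT_sub_update (p : Fin t) (η : Fin t → Matrix (Fin m) (Fin m) F) (A B : Matrix (Fin m) (Fin m) F) :
    pureT (Function.update η p A) - pureT (Function.update η p B) = pureT (Function.update η p (A - B)) := by
  rw [pureT_split p (Function.update η p A), pureT_split p (Function.update η p B),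
    pureT_split p (Function.update η p (A - B))]
  simp only [Function.update_self, Function.update_idem]
  rw [← sub_mul]
  congr 1
  exact (map_sub (liftHom (F := F) p) A B).symm

theorem pureT_eq_zero {η : Fin t → Matrix (Fin m) (Fin m) F} {p : Fin t} (h : η p = 0) : pureT η = 0 := by
  rw [pureT_split p, h, lift_zero, zero_mul]

theorem pureT_ne_zero {η : Fin t → Matrix (Fin m) (Fin m) F} (h : ∀ i, η i ≠ 0) : pureT η ≠ 0 := by
  have h' : ∀ i, ∃ p q, η i p q ≠ 0 := fun i => by
    by_contra! h0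
    exact h i (Matrix.ext h0)
  choose p q hpq using h'
  intro e
  have := congrFun (congrFun e p) q
  exact (Finset.prod_ne_zero_iff.2 fun i _ => hpq i) this

theorem permU_pureT (σ : Equiv.Perm (Fin t)) (η : Fin t → Matrix (Fin m) (Fin m) F) :
    ((permU σ : GL (TI t m) F) : Matrix (TI t m) (TI t m) F) * pureT η *
      (((permU σ)⁻¹ : GL (TI t m) F) : Matrix (TI t m) (TI t m) F) = pureT (fun i => η (σ.symm i)) := by
  rw [Units.mul_inv_eq_iff_eq_mul]
  ext x y
  show (permT σ * pureT η : Matrix (TI t m) (TI t m) F) x y =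
    (pureT (fun i => η (σ.symm i)) * permT σ : Matrix (TI t m) (TI t m) F) x y
  rw [permT_mul_apply, mul_permT_apply]
  exact Fintype.prod_equiv σ _ _ fun i => by simp

theorem Eop_self_mul (hG : SG G) (u : Fin m → F) : Eop G u u * Eop G u u = 0 := by
  rw [Eop_mul, hG.self, zero_smul]

theorem Eop_ne_zero (hG : SG G) {u : Fin m → F} (hu : u ≠ 0) : Eop G u u ≠ 0 := by
  intro h
  obtain ⟨x, hx⟩ := hG.exists_left hu
  have := congrArg (fun Z => Z *ᵥ x) h
  simp only [Eop_mulVec, hx, one_smul, Matrix.zero_mulVec] at this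
  exact hu this

theorem tau_mul_self (hG : SG G) {u v : Fin m → F} (h : fG G u v = 0) : tau G u v * tau G u v = 0 := by
  simp only [tau, sub_mul, mul_sub, Eop_mul, hG.self, h, hG.swap_zero h, zero_smul, sub_self]

theorem Typ.sq (hG : SG G) {T : Matrix (Fin m) (Fin m) F} (h : Typ G T) : T * T = 0 := by
  rcases h with ⟨u, -, rfl⟩ | ⟨u, v, huv, -, rfl⟩
  · exact Eop_self_mul hG u
  · exact tau_mul_self hG huv

theorem Typ.ne_zero (hG : SG G) {T : Matrix (Fin m) (Fin m) F} (h : Typ G T) : T ≠ 0 := by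
  rcases h with ⟨u, hu, rfl⟩ | ⟨u, v, -, hne, rfl⟩
  · exact Eop_ne_zero hG hu
  · exact hne

theorem adjG_tau (hG : SG G) (u v : Fin m → F) : adjG G (tau G u v) = tau G u v := by
  rw [tau, sub_eq_add_neg, adjG_add, adjG_neg, hG.adjG_Eop, hG.adjG_Eop]
  abel

theorem conj_Eop (hG : SG G) (h : Matrix (Fin m) (Fin m) F) (u v : Fin m → F) :
    h * Eop G u v * adjG G h = Eop G (h *ᵥ u) (h *ᵥ v) := by
  rw [mul_Eop, hG.Eop_mul', hG.adjG_adjG]

theorem Fac.add {p : Fin t} {T : Matrix (Fin m) (Fin m) F} {X Y : Matrix (TI t m) (TI t m) F} (hX : Fac p T X)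
    (hY : Fac p T Y) : Fac p T (X + Y) := by
  obtain ⟨C, hC, rfl⟩ := hX
  obtain ⟨D, hD, rfl⟩ := hY
  exact ⟨C + D, hC.add hD, (mul_add _ _ _).symm⟩

theorem Fac.smul {p : Fin t} {T : Matrix (Fin m) (Fin m) F} {X : Matrix (TI t m) (TI t m) F} (hX : Fac p T X)
    (c : F) : Fac p T (c • X) := by
  obtain ⟨C, hC, rfl⟩ := hX
  exact ⟨c • C, hC.smul c, (Matrix.mul_smul _ _ _).symm⟩

theorem Fac.neg {p : Fin t} {T : Matrix (Fin m) (Fin m) F} {X : Matrix (TI t m) (TI t m) F} (hX : Fac p T X) :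
    Fac p T (-X) := by
  rw [← neg_one_smul F X]; exact hX.smul _

theorem Fac.sub {p : Fin t} {T : Matrix (Fin m) (Fin m) F} {X Y : Matrix (TI t m) (TI t m) F} (hX : Fac p T X)
    (hY : Fac p T Y) : Fac p T (X - Y) := by
  rw [sub_eq_add_neg]; exact hX.add hY.neg

theorem Fac.lift_left {p i : Fin t} (hip : i ≠ p) {T : Matrix (Fin m) (Fin m) F} {X : Matrix (TI t m) (TI t m) F}
    (hX : Fac p T X) (η : Matrix (Fin m) (Fin m) F) : Fac p T (lift i η * X) := by
  obtain ⟨C, hC, rfl⟩ := hX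
  exact ⟨lift i η * C, (comm_lift hip η).mul hC, by rw [← mul_assoc, lift_comm hip, mul_assoc]⟩

theorem Fac.lift_right {p i : Fin t} (hip : i ≠ p) {T : Matrix (Fin m) (Fin m) F} {X : Matrix (TI t m) (TI t m) F}
    (hX : Fac p T X) (η : Matrix (Fin m) (Fin m) F) : Fac p T (X * lift i η) := by
  obtain ⟨C, hC, rfl⟩ := hX
  exact ⟨C * lift i η, hC.mul (comm_lift hip η), mul_assoc _ _ _⟩

theorem Fac.mul_eq_zero {p : Fin t} {T : Matrix (Fin m) (Fin m) F} (hT : T * T = 0)
    {X Y : Matrix (TI t m) (TI t m) F} (hX : Fac p T X) (hY : Fac p T Y) : X * Y = 0 := by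
  obtain ⟨C, hC, rfl⟩ := hX
  obtain ⟨D, -, rfl⟩ := hY
  rw [mul_assoc, ← mul_assoc C, ← hC, mul_assoc, ← mul_assoc, ← lift_mul, hT, lift_zero, zero_mul]

theorem fac_pureT (p : Fin t) {T : Matrix (Fin m) (Fin m) F} {η : Fin t → Matrix (Fin m) (Fin m) F}
    (a : F) (h : η p = a • T) : Fac p T (pureT η) := by
  rw [pureT_split p, h, lift_smul, Matrix.smul_mul]
  exact Fac.smul ⟨_, comm_pureT (by simp), rfl⟩ a

end Basics

section Over

variable [Fintype F] {G : Matrix (Fin m) (Fin m) F} {M : Subgroup (GL (TI t m) F)} (H : SBase G M)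
include H

theorem SBase.inv_val {g : GL (TI t m) F} (hg : g ∈ M) :
    ((g⁻¹ : GL (TI t m) F) : Matrix (TI t m) (TI t m) F) = adjT G (g : Matrix (TI t m) (TI t m) F) := by
  rw [← one_mul ((g⁻¹ : GL (TI t m) F) : Matrix (TI t m) (TI t m) F), ← H.iso g hg, mul_assoc, Units.mul_inv,
    mul_one]

theorem SBase.lift_conj (i : Fin t) {h : Matrix (Fin m) (Fin m) F} (hh : adjG G h * h = 1)
    {X : Matrix (TI t m) (TI t m) F} (hX : MemU M X) : MemU M (lift i h * X * lift i (adjG G h)) := by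
  let η : GL (Fin m) F := ⟨h, adjG G h, mul_eq_one_comm.1 hh, hh⟩
  exact hX.conjU (H.root i η hh)

theorem SBase.root_mem (i : Fin t) (u : Fin m → F) (z : F) : MemU M (z • lift i (Eop G u u)) := by
  have e : z • Eop G u u * (z • Eop G u u) = 0 := by
    rw [Matrix.smul_mul, Matrix.mul_smul, Eop_self_mul H.hG, smul_zero, smul_zero]
  let η : GL (Fin m) F := ⟨1 + z • Eop G u u, 1 - z • Eop G u u,
    by rw [add_mul, one_mul, mul_sub, mul_one, e]; abel, by rw [sub_mul, one_mul, mul_add, mul_one, e]; abel⟩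
  refine ⟨_, H.root i η ?_, ?_⟩
  · show adjG G (1 + z • Eop G u u) * (1 + z • Eop G u u) = 1
    rw [adjG_add, adjG_smul, H.hG.adjG_one, H.hG.adjG_Eop, smul_neg, add_mul, one_mul, neg_mul, mul_add, mul_one, e]
    abel
  · show lift i (1 + z • Eop G u u) = _
    rw [lift_add, lift_one, lift_smul]

theorem SBase.exists_rt {u v : Fin m → F} (hu : u ≠ 0) (hv : v ≠ 0) :
    ∃ h : Matrix (Fin m) (Fin m) F, adjG G h * h = 1 ∧ h *ᵥ u = v := by
  classical
  have hf := H.hG.isSymplecticForm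
  have step : ∀ {x y : Fin m → F}, fG G x y ≠ 0 →
      ∃ h : Matrix (Fin m) (Fin m) F, adjG G h * h = 1 ∧ h *ᵥ x = y := fun {x y} hxy => by
    refine ⟨1 + (fG G x y)⁻¹ • Eop G (y - x) (y - x), ?_, ?_⟩
    · rw [adjG_add, adjG_smul, H.hG.adjG_one, H.hG.adjG_Eop, smul_neg, add_mul, one_mul, neg_mul, mul_add, mul_one,
        Matrix.smul_mul, Matrix.mul_smul, Eop_self_mul H.hG, smul_zero, smul_zero]
      abel
    · rw [Matrix.add_mulVec, Matrix.one_mulVec, Matrix.smul_mulVec, Eop_mulVec,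
        TransvectionMax.sub_right hf.bilinear, H.hG.self, sub_zero, smul_smul, inv_mul_cancel₀ hxy, one_smul]
      abel
  obtain ⟨w, hwu, hwv⟩ := TransvectionMax.exists_common hf hu hv
  obtain ⟨h₁, e₁, f₁⟩ := step (x := u) (y := w) (fun e => hwu (H.hG.swap_zero e))
  obtain ⟨h₂, e₂, f₂⟩ := step hwv
  refine ⟨h₂ * h₁, ?_, by rw [← Matrix.mulVec_mulVec, f₁, f₂]⟩
  rw [H.hG.adjG_mul, mul_assoc, ← mul_assoc (adjG G h₂), e₂, one_mul, e₁]

theorem SBase.exists_fix {a b a' : Fin m → F} (hab : fG G a a' = 1) (hb : fG G b a = 0) (hb' : fG G b a' = 0) :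
    ∃ h : Matrix (Fin m) (Fin m) F, adjG G h * h = 1 ∧ h *ᵥ a = a' ∧ h *ᵥ b = b := by
  refine ⟨1 + Eop G (a' - a) (a' - a), ?_, ?_, ?_⟩
  · rw [adjG_add, H.hG.adjG_one, H.hG.adjG_Eop, add_mul, one_mul, neg_mul, mul_add, mul_one, Eop_self_mul H.hG]
    abel
  · rw [Matrix.add_mulVec, Matrix.one_mulVec, Eop_mulVec, TransvectionMax.sub_right H.hG.isSymplecticForm.bilinear,
      hab, H.hG.self, sub_zero, one_smul]
    abel
  · rw [Matrix.add_mulVec, Matrix.one_mulVec, Eop_mulVec, TransvectionMax.sub_right H.hG.isSymplecticForm.bilinear,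
      hb, hb', sub_zero, zero_smul, add_zero]

theorem SBase.tmem_conj {θ : Fin t → Matrix (Fin m) (Fin m) F} (hθ : TMem M θ)
    (h : Fin t → Matrix (Fin m) (Fin m) F) (hh : ∀ i, adjG G (h i) * h i = 1) :
    TMem M (fun i => h i * θ i * adjG G (h i)) := by
  classical
  suffices key : ∀ s : Finset (Fin t), TMem M (fun i => if i ∈ s then h i * θ i * adjG G (h i) else θ i) by
    have := key Finset.univ
    simpa using this
  intro s
  induction s using Finset.induction with
  | empty => simpa using hθ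
  | insert a s ha ih =>
    intro z
    have := H.lift_conj a (hh a) (ih z)
    rw [Matrix.mul_smul, Matrix.smul_mul, lift_mul_pureT, pureT_mul_lift] at this
    convert this using 3
    funext i
    by_cases hi : i = a
    · subst hi; simp [ha]
    · simp [hi]

theorem SBase.tmem_perm {θ : Fin t → Matrix (Fin m) (Fin m) F} (hθ : TMem M θ) {σ : Equiv.Perm (Fin t)}
    (hσ : σ ^ 3 = 1) : TMem M (fun i => θ (σ.symm i)) := fun z => by
  have := (hθ z).conjU (H.perm σ hσ)
  rwa [Matrix.mul_smul, Matrix.smul_mul, permU_pureT] at this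

theorem SBase.bracket {θ θ' : Fin t → Matrix (Fin m) (Fin m) F} (hθ : TMem M θ) (hθ' : TMem M θ')
    {p q : Fin t} (hp : θ p * θ p = 0) (hq : θ' q * θ' q = 0) (h1 : θ p * θ' p * θ p = 0)
    (h2 : θ' q * θ q * θ' q = 0) : ∀ z : F, MemU M (z • (pureT (θ * θ') - pureT (θ' * θ))) := by
  intro z
  have := (hθ z).bracket (hθ' 1)
    (by rw [Matrix.smul_mul, Matrix.mul_smul, pureT_mul, pureT_eq_zero (p := p) hp, smul_zero, smul_zero])
    (by rw [one_smul, pureT_mul, pureT_eq_zero (p := q) hq])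
    (by rw [one_smul, Matrix.smul_mul, Matrix.smul_mul, Matrix.mul_smul, pureT_mul, pureT_mul,
      pureT_eq_zero (p := p) h1, smul_zero, smul_zero])
    (by rw [one_smul, Matrix.mul_smul, Matrix.smul_mul, pureT_mul, pureT_mul, pureT_eq_zero (p := q) h2, smul_zero])
  rwa [one_smul, Matrix.smul_mul, Matrix.mul_smul, pureT_mul, pureT_mul, ← smul_sub] at this

end Over

section Odd

variable [Fintype F] {G : Matrix (Fin m) (Fin m) F} {M : Subgroup (GL (TI t m) F)} (H : SOver G M)
include H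

theorem SOver.contract {p i : Fin t} (hip : i ≠ p) {T : Matrix (Fin m) (Fin m) F} (hT : T * T = 0)
    {Z : Matrix (TI t m) (TI t m) F} (hF : Fac p T Z) (hZ : MemU M Z) (u : Fin m → F) :
    MemU M (lift i (Eop G u u) * Z * lift i (Eop G u u)) ∧
      MemU M (lift i (Eop G u u) * Z - Z * lift i (Eop G u u)) := by
  set L := lift i (Eop G u u) with hL
  have hLL : L * L = 0 := by rw [hL, ← lift_mul, Eop_self_mul H.hG, lift_zero]
  have hc : ∀ z : F, MemU M ((1 + z • L) * Z * (1 - z • L)) := fun z => by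
    obtain ⟨g, hg, hgL⟩ := H.root_mem i u z
    have := hZ.conjU hg
    rwa [hgL, show ((g⁻¹ : GL (TI t m) F) : Matrix (TI t m) (TI t m) F) = 1 - z • L from
      Units.inv_eq_of_mul_eq_one_right (by
        rw [hgL, add_mul, one_mul, mul_sub, mul_one, Matrix.smul_mul, Matrix.mul_smul, hLL, smul_zero, smul_zero]
        abel)] at this
  have fA : Fac p T (L * Z - Z * L) := (hF.lift_left hip _).sub (hF.lift_right hip _)
  have fB : Fac p T (L * Z * L) := (hF.lift_left hip _).lift_right hip _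
  have h1 : MemU M (Z + (L * Z - Z * L) - L * Z * L) := by
    have := hc 1
    rwa [one_smul, show (1 + L) * Z * (1 - L) = Z + (L * Z - Z * L) - L * Z * L by noncomm_ring] at this
  have h2 : MemU M (Z - (L * Z - Z * L) - L * Z * L) := by
    have := hc (-1)
    rwa [neg_one_smul, show (1 + -L) * Z * (1 - -L) = Z - (L * Z - Z * L) - L * Z * L by noncomm_ring] at this
  have z0 : ∀ {X Y}, Fac p T X → Fac p T Y → X * Y = 0 := fun hX hY => Fac.mul_eq_zero hT hX hY
  have f1 : Fac p T (Z + (L * Z - Z * L) - L * Z * L) := (hF.add fA).sub fB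
  have f2 : Fac p T (Z - (L * Z - Z * L) - L * Z * L) := (hF.sub fA).sub fB
  have fn := hZ.neg (z0 hF hF)
  constructor
  · refine MemU.half H.two ?_ (z0 fB fB)
    have := (((h1.add h2 (z0 f1 f2)).add fn (z0 (f1.add f2) hF.neg)).add fn
      (z0 ((f1.add f2).add hF.neg) hF.neg)).neg (z0 (((f1.add f2).add hF.neg).add hF.neg)
      (((f1.add f2).add hF.neg).add hF.neg))
    convert this using 1
    rw [two_smul]
    abel
  · refine MemU.half H.two ?_ (z0 fA fA)
    have := h1.add (h2.neg (z0 f2 f2)) (z0 f1 f2.neg)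
    convert this using 1
    rw [two_smul]
    abel

/-- Contractions at several positions. -/
theorem SOver.contractMany {A B : Fin t → Matrix (Fin m) (Fin m) F} {p : Fin t} {T : Matrix (Fin m) (Fin m) F}
    (hT : T * T = 0) {a b : F} (hA : A p = a • T) (hB : B p = b • T)
    (hAB : ∀ z : F, MemU M (z • (pureT A - pureT B))) (w : Fin t → Fin m → F) (s : Finset (Fin t)) (hp : p ∉ s) :
    ∀ z : F, MemU M (z •
      (pureT (fun i => if i ∈ s then Eop G (w i) (w i) * A i * Eop G (w i) (w i) else A i) -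
        pureT (fun i => if i ∈ s then Eop G (w i) (w i) * B i * Eop G (w i) (w i) else B i))) := by
  classical
  induction s using Finset.induction with
  | empty => simpa using hAB
  | insert c s hc ih =>
    rw [Finset.mem_insert, not_or] at hp
    intro z
    have hF : Fac p T (z •
        (pureT (fun i => if i ∈ s then Eop G (w i) (w i) * A i * Eop G (w i) (w i) else A i) -
          pureT (fun i => if i ∈ s then Eop G (w i) (w i) * B i * Eop G (w i) (w i) else B i))) :=
      ((fac_pureT p a (by simp [hp.2, hA])).sub (fac_pureT p b (by simp [hp.2, hB]))).smul z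
    have := (H.contract (Ne.symm hp.1) hT hF (ih hp.2 z) (w c)).1
    rw [Matrix.mul_smul, Matrix.smul_mul, mul_sub, sub_mul, lift_mul_pureT, lift_mul_pureT, pureT_mul_lift,
      pureT_mul_lift] at this
    convert this using 4 <;>
    · funext i
      by_cases hi : i = c
      · subst hi; simp [hc]
      · simp [hi]

end Odd

end Cfsg.Agent.TensorWreath43
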