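import Cfsg.Agent.Lib.TensorWreath43Centre

/-!
An overgroup with a root element at every position contains all isometries of the tensor power.
-/

set_option autoImplicit false
set_option linter.unusedSectionVars false

namespace Cfsg.Agent.TensorWreath43

open scoped Matrix

variable {F : Type*} [Field F] {t m : ℕ}

/-- The form on the tensor power. -/
def fT (G : Matrix (Fin m) (Fin m) F) (x y : TI t m → F) : F := x ⬝ᵥ (pureT (fun _ => G) *ᵥ y)

/-- The operator `x ↦ fT x v • v`. -/
def Et (G : Matrix (Fin m) (Fin m) F) (v : TI t m → F) : Matrix (TI t m) (TI t m) F :=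
  Matrix.vecMulVec v (pureT (fun _ => G) *ᵥ v)

/-- All isometries of the tensor power lie in `M`. -/
def Big (G : Matrix (Fin m) (Fin m) F) (M : Subgroup (GL (TI t m) F)) : Prop :=
  ∀ g : GL (TI t m) F, adjT G (g : Matrix (TI t m) (TI t m) F) * (g : Matrix (TI t m) (TI t m) F) = 1 → g ∈ M

section Basics

variable {G : Matrix (Fin m) (Fin m) F}

theorem pureT_mulVec_pureV (η : Fin t → Matrix (Fin m) (Fin m) F) (u : Fin t → Fin m → F) :
    pureT η *ᵥ pureV u = pureV fun i => η i *ᵥ u i := by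
  funext x
  simp only [Matrix.mulVec, dotProduct, pureT, pureV, ← Finset.prod_mul_distrib]
  rw [Fintype.prod_sum]

theorem pureV_dot (u w : Fin t → Fin m → F) : pureV u ⬝ᵥ pureV w = ∏ i, u i ⬝ᵥ w i := by
  simp only [dotProduct, pureV, ← Finset.prod_mul_distrib]
  rw [Fintype.prod_sum]

theorem pureT_vecMulVec (u w : Fin t → Fin m → F) :
    pureT (fun i => Matrix.vecMulVec (u i) (w i)) = Matrix.vecMulVec (pureV u) (pureV w) := by
  ext x y
  simp [pureT, pureV, Matrix.vecMulVec_apply, Finset.prod_mul_distrib]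

theorem Et_pureV (u : Fin t → Fin m → F) : Et G (pureV u) = pureT fun i => Eop G (u i) (u i) := by
  rw [Et, pureT_mulVec_pureV, ← pureT_vecMulVec]
  rfl

theorem fT_pureV (u w : Fin t → Fin m → F) : fT G (pureV u) (pureV w) = ∏ i, fG G (u i) (w i) := by
  rw [fT, pureT_mulVec_pureV, pureV_dot]
  rfl

theorem Et_mulVec (v x : TI t m → F) : Et G v *ᵥ x = fT G x v • v := by
  rw [Et, Matrix.vecMulVec_mulVec, op_smul_eq_smul, dotProduct_comm]
  rfl

theorem fT_bilinear : Cfsg.Geo.IsBilinearForm (fT (t := t) G) := by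
  refine ⟨fun x y v => ?_, fun c x v => ?_, fun v x y => ?_, fun c v x => ?_⟩
  · simp [fT, add_dotProduct]
  · simp [fT, smul_dotProduct]
  · simp [fT, Matrix.mulVec_add, dotProduct_add]
  · simp [fT, Matrix.mulVec_smul, dotProduct_smul]

theorem fT_symplectic (hG : SG G) (h2 : (2 : F) ≠ 0) (hodd : Odd t) :
    Cfsg.Geo.IsSymplecticForm (fT (t := t) G) := by
  have hskew : ∀ x y : TI t m → F, fT G x y = -fT G y x := fun x y => by
    have e : (pureT fun _ : Fin t => G)ᵀ = -(pureT fun _ => G) := by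
      rw [pureT_transpose]
      simp only [hG.skew]
      rw [show (fun _ : Fin t => -G) = fun i => (fun _ : Fin t => (-1 : F)) i • (fun _ : Fin t => G) i from
        funext fun _ => (neg_one_smul F G).symm, pureT_smul_pi, Finset.prod_const, Finset.card_univ, Fintype.card_fin,
        hodd.neg_one_pow, neg_one_smul]
    rw [fT, fT, Matrix.dotProduct_mulVec, ← Matrix.mulVec_transpose, e, Matrix.neg_mulVec, neg_dotProduct,
      dotProduct_comm]
  have hnd : ∀ v : TI t m → F, v ≠ 0 → ∃ x, fT G x v ≠ 0 := fun v hv => by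
    by_contra! h
    have h0 : pureT (fun _ => G) *ᵥ v = 0 := funext fun j => by
      have := h (Pi.single j 1)
      rwa [fT, single_dotProduct, one_mul] at this
    refine hv ?_
    rw [← Matrix.one_mulVec v, ← hG.pureT_inv_mul, ← Matrix.mulVec_mulVec, h0, Matrix.mulVec_zero]
  refine ⟨fT_bilinear, hskew, fun v => ?_, fun v hv => ?_⟩
  · have h : (2 : F) • fT G v v = 0 := by
      rw [smul_eq_mul]; linear_combination hskew v v
    exact (smul_eq_zero.1 h).resolve_left h2
  · obtain ⟨x, hx⟩ := hnd v hv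
    exact ⟨⟨x, hx⟩, x, by rw [hskew]; exact neg_ne_zero.2 hx⟩

theorem adjT_conj_Et (hG : SG G) (Z : Matrix (TI t m) (TI t m) F) (v : TI t m → F) :
    Z * Et G v * adjT G Z = Et G (Z *ᵥ v) := by
  rw [Et, Et, Matrix.mul_vecMulVec, Matrix.vecMulVec_mul, adjT, ← Matrix.mulVec_transpose]
  congr 1
  have e1 : (pureT fun _ : Fin t => G)ᵀ = ((-1 : F) ^ t) • pureT fun _ => G := by
    rw [pureT_transpose, ← pureT_smul_fun]; simp [hG.skew]
  have e2 : (pureT fun _ : Fin t => G⁻¹)ᵀ = ((-1 : F) ^ t) • pureT fun _ => G⁻¹ := by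
    rw [pureT_transpose, ← pureT_smul_fun]; simp [hG.inv_transpose]
  rw [Matrix.transpose_mul, Matrix.transpose_mul, Matrix.transpose_transpose, e1, e2, Matrix.mulVec_mulVec,
    Matrix.mulVec_mulVec]
  congr 1
  simp only [Matrix.smul_mul, Matrix.mul_smul, smul_smul, mul_assoc, hG.pureT_inv_mul, mul_one]
  rw [← mul_pow]
  simp

end Basics

section Over

variable [Fintype F] {G : Matrix (Fin m) (Fin m) F} {M : Subgroup (GL (TI t m) F)} (H : SOver G M)
include H

/-- The vectors whose transvections lie in `M`. -/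
def InV (G : Matrix (Fin m) (Fin m) F) (M : Subgroup (GL (TI t m) F)) (v : TI t m → F) : Prop :=
  ∀ z : F, MemU M (z • Et G v)

theorem SOver.inV_smul {v : TI t m → F} (hv : InV G M v) (c : F) : InV G M (c • v) := fun z => by
  have : z • Et G (c • v) = (z * c * c) • Et G v := by
    simp only [Et, Matrix.mulVec_smul, Matrix.vecMulVec_smul, Matrix.smul_vecMulVec, smul_smul, mul_assoc]
  rw [this]
  exact hv _

theorem SOver.inV_move {a b : TI t m → F} (ha : InV G M a) (hb : InV G M b) (hab : fT G a b ≠ 0) (c : F) :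
    InV G M (a + c • b) := by
  obtain ⟨g, hg, hgX⟩ := hb (c / fT G a b)
  intro z
  have := (ha z).conjU hg
  rw [H.inv_val hg, Matrix.mul_smul, Matrix.smul_mul, adjT_conj_Et H.hG] at this
  rwa [hgX, Matrix.add_mulVec, Matrix.one_mulVec, Matrix.smul_mulVec, Et_mulVec, smul_smul,
    div_mul_cancel₀ _ hab] at this

/-- `W` is not totally isotropic, and its vectors outside the radical are in `InV`. -/
def Grown (G : Matrix (Fin m) (Fin m) F) (M : Subgroup (GL (TI t m) F)) (W : Submodule F (TI t m → F)) : Prop :=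
  (∃ x ∈ W, ∃ y ∈ W, fT G x y ≠ 0) ∧ ∀ v ∈ W, (∃ y ∈ W, fT G v y ≠ 0) → InV G M v

theorem SOver.grown_sup (hodd : Odd t) {W : Submodule F (TI t m → F)} (hW : Grown G M W) {w : TI t m → F} (hw : InV G M w)
    (hex : ∃ y ∈ W, fT G y w ≠ 0) : Grown G M (W ⊔ F ∙ w) := by
  have hf := fT_symplectic H.hG H.two hodd (t := t)
  obtain ⟨⟨a, haW, b, hbW, hab⟩, hP⟩ := hW
  refine ⟨⟨a, Submodule.mem_sup_left haW, b, Submodule.mem_sup_left hbW, hab⟩, ?_⟩
  -- vectors of `W` not orthogonal to `w`
  have h1 : ∀ y ∈ W, fT G y w ≠ 0 → InV G M y := by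
    intro y hy hyw
    by_cases hr : ∃ y' ∈ W, fT G y y' ≠ 0
    · exact hP y hy hr
    push Not at hr
    obtain ⟨z, hzW, hzr, hzw⟩ : ∃ z ∈ W, (∃ y' ∈ W, fT G z y' ≠ 0) ∧ fT G z w ≠ 0 := by
      by_cases hc : fT G a w = 0
      · refine ⟨a + y, W.add_mem haW hy, ⟨b, hbW, ?_⟩, ?_⟩
        · rw [hf.bilinear.add_left, hr b hbW, add_zero]; exact hab
        · rw [hf.bilinear.add_left, hc, zero_add]; exact hyw
      · exact ⟨a, haW, ⟨b, hbW, hab⟩, hc⟩
    have hz : InV G M z := hP z hzW hzr
    have hz1 : InV G M (z + (1 : F) • w) := H.inV_move hz hw hzw 1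
    rw [one_smul] at hz1
    -- `y + c z` is not in the radical
    obtain ⟨c, hc, hcw⟩ : ∃ c : F, c ≠ 0 ∧ fT G (y + c • z) w ≠ 0 := by
      by_cases hs : fT G y w + fT G z w = 0
      · refine ⟨-1, neg_ne_zero.2 one_ne_zero, ?_⟩
        rw [hf.bilinear.add_left, hf.bilinear.smul_left]
        intro e
        exact hyw ((smul_eq_zero.1 (show (2 : F) • fT G y w = 0 by
          rw [smul_eq_mul]; linear_combination e + hs)).resolve_left H.two)
      · exact ⟨1, one_ne_zero, by rw [hf.bilinear.add_left, hf.bilinear.smul_left, one_mul]; exact hs⟩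
    have hu : InV G M (y + c • z) := by
      refine hP _ (W.add_mem hy (W.smul_mem c hzW)) ?_
      obtain ⟨y', hy', hzy'⟩ := hzr
      refine ⟨y', hy', ?_⟩
      rw [hf.bilinear.add_left, hf.bilinear.smul_left, hr y' hy', zero_add]
      exact mul_ne_zero hc hzy'
    have hu' := H.inV_move hu hw hcw c
    have hzy : fT G z y = 0 := by rw [hf.skew, hr z hzW, neg_zero]
    have hne : fT G (y + c • z + c • w) (z + w) ≠ 0 := by
      have hwz : fT G w z = -fT G z w := hf.skew _ _
      rw [hf.bilinear.add_left, hf.bilinear.add_left, hf.bilinear.smul_left, hf.bilinear.smul_left,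
        hf.bilinear.add_right, hf.bilinear.add_right, hf.bilinear.add_right, hr z hzW, hf.alternating z,
        hf.alternating w, hwz]
      intro e
      exact hyw (by linear_combination e)
    have := H.inV_move hu' hz1 hne (-c)
    convert this using 1
    module
  have h2 : ∀ v ∈ W ⊔ F ∙ w, fT G v w ≠ 0 → InV G M v := by
    intro v hv hvw
    obtain ⟨y, hy, _, hz, rfl⟩ := Submodule.mem_sup.1 hv
    obtain ⟨c, rfl⟩ := Submodule.mem_span_singleton.1 hz
    have hyw : fT G y w ≠ 0 := by
      rwa [hf.bilinear.add_left, hf.bilinear.smul_left, hf.alternating w, mul_zero, add_zero] at hvw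
    exact H.inV_move (h1 y hy hyw) hw hyw c
  intro v hv hex'
  by_cases hvw : fT G v w = 0
  swap
  · exact h2 v hv hvw
  obtain ⟨y', hy', hvy'⟩ := hex'
  obtain ⟨y₀, hy₀, hy₀w⟩ := hex
  obtain ⟨y, hy, hvy, hyw⟩ : ∃ y ∈ W ⊔ F ∙ w, fT G v y ≠ 0 ∧ fT G y w ≠ 0 := by
    by_cases hc : fT G y' w = 0
    · by_cases hd : fT G v y₀ = 0
      · refine ⟨y' + y₀, Submodule.add_mem _ hy' (Submodule.mem_sup_left hy₀), ?_, ?_⟩
        · rw [hf.bilinear.add_right, hd, add_zero]; exact hvy'
        · rw [hf.bilinear.add_left, hc, zero_add]; exact hy₀w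
      · exact ⟨y₀, Submodule.mem_sup_left hy₀, hd, hy₀w⟩
    · exact ⟨y', hy', hvy', hc⟩
  have hyV := h2 y hy hyw
  have hu : InV G M (v + y) := h2 _ (Submodule.add_mem _ hv hy) (by
    rw [hf.bilinear.add_left, hvw, zero_add]; exact hyw)
  have := H.inV_move hu hyV (by rw [hf.bilinear.add_left, hf.alternating y, add_zero]; exact hvy) (-1)
  convert this using 1
  module

theorem SOver.inV_all [NeZero m] (hodd : Odd t) {θ : Fin t → Matrix (Fin m) (Fin m) F} (hθ : ∀ i, Eta G (θ i)) (hM : TMem M θ)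
    (v : TI t m → F) : InV G M v := by
  classical
  have hf := fT_symplectic H.hG H.two hodd (t := t)
  choose u₀ hu₀ hθu using hθ
  -- pure vectors
  have hpure : ∀ u : Fin t → Fin m → F, (∀ i, u i ≠ 0) → InV G M (pureV u) := fun u hu z => by
    choose h hh hhu using fun i => H.exists_rt (hu₀ i) (hu i)
    have := H.tmem_conj hM h hh z
    simp only [hθu, conj_Eop H.hG, hhu] at this
    rwa [Et_pureV]
  have hadj : ∀ u w : Fin t → Fin m → F, (∀ i, u i ≠ 0) → (∀ i, w i ≠ 0) →
      ∃ c : Fin t → Fin m → F, (∀ i, c i ≠ 0) ∧ fT G (pureV c) (pureV u) ≠ 0 ∧ fT G (pureV c) (pureV w) ≠ 0 := by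
    intro u w hu hw
    choose c h1 h2 using fun i => TransvectionMax.exists_common H.hG.isSymplecticForm (hu i) (hw i)
    refine ⟨c, fun i e => h1 i (by rw [e]; simp [fG]), ?_, ?_⟩ <;> rw [fT_pureV] <;>
      exact Finset.prod_ne_zero_iff.2 fun i _ => by first | exact h1 i | exact h2 i
  obtain ⟨c₀, hc₀, hc₁, -⟩ := hadj u₀ u₀ hu₀ hu₀
  set a := pureV u₀ with ha
  set b := pureV c₀ with hb
  have hab : fT G a b ≠ 0 := by rw [hf.skew]; exact neg_ne_zero.2 hc₁
  have hbase : Grown G M (F ∙ a ⊔ F ∙ b) := by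
    have hb' := hpure c₀ hc₀
    refine ⟨⟨a, Submodule.mem_sup_left (Submodule.mem_span_singleton_self a), b,
      Submodule.mem_sup_right (Submodule.mem_span_singleton_self b), hab⟩, fun v hv _ => ?_⟩
    obtain ⟨_, hy, _, hz, rfl⟩ := Submodule.mem_sup.1 hv
    obtain ⟨c, rfl⟩ := Submodule.mem_span_singleton.1 hy
    obtain ⟨d, rfl⟩ := Submodule.mem_span_singleton.1 hz
    by_cases hc : c = 0
    · subst hc; rw [zero_smul, zero_add]; exact H.inV_smul hb' d
    · exact H.inV_move (H.inV_smul (hpure u₀ hu₀) c) hb'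
        (by rw [hf.bilinear.smul_left]; exact mul_ne_zero hc hab) d
  have main : ∀ (n : ℕ) (W : Submodule F (TI t m → F)), Grown G M W → a ∈ W →
      Module.finrank F (TI t m → F) - Module.finrank F W ≤ n → Grown G M ⊤ := by
    intro n
    induction n with
    | zero =>
      intro W hW _ hn
      have : W = ⊤ := Submodule.eq_top_of_finrank_eq (by have := Submodule.finrank_le W; omega)
      exact this ▸ hW
    | succ n ih =>
      intro W hW haW hn
      by_cases htop : W = ⊤
      · exact htop ▸ hW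
      obtain ⟨q, hq⟩ : ∃ q : TI t m, (Pi.single q 1 : TI t m → F) ∉ W := by
        by_contra! hall
        refine htop (eq_top_iff.2 fun x _ => ?_)
        rw [pi_eq_sum_univ x]
        refine Submodule.sum_mem _ fun q _ => Submodule.smul_mem _ _ ?_
        have e : (fun j => if q = j then (1 : F) else 0) = Pi.single q 1 := by
          funext j; simp [Pi.single_apply, eq_comm]
        rw [e]; exact hall q
      set uq : Fin t → Fin m → F := fun i => Pi.single (q i) 1 with huq
      have huq0 : ∀ i, uq i ≠ 0 := fun i e => one_ne_zero (α := F) (by simpa [huq] using congrFun e (q i))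
      rw [← pureV_single] at hq
      obtain ⟨c, hc, hca, hcq⟩ := hadj u₀ uq hu₀ huq0
      -- a pure vector outside `W`, not orthogonal to it
      obtain ⟨w, hwW, hwV, hwy⟩ : ∃ w, w ∉ W ∧ InV G M w ∧ ∃ y ∈ W, fT G y w ≠ 0 := by
        by_cases hcW : pureV c ∈ W
        · exact ⟨_, hq, hpure uq huq0, _, hcW, hcq⟩
        · exact ⟨_, hcW, hpure c hc, a, haW, by rw [hf.skew]; exact neg_ne_zero.2 hca⟩
      refine ih _ (H.grown_sup hodd hW hwV hwy) (Submodule.mem_sup_left haW) ?_
      have hlt : W < W ⊔ F ∙ w := lt_of_le_of_ne le_sup_left fun e =>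
        hwW (e ▸ Submodule.mem_sup_right (Submodule.mem_span_singleton_self w))
      have := Submodule.finrank_lt_finrank_of_lt hlt
      omega
  obtain ⟨-, hall⟩ := main _ _ hbase (Submodule.mem_sup_left (Submodule.mem_span_singleton_self a)) le_rfl
  by_cases hv : v = 0
  · subst hv
    intro z
    rw [Et, Matrix.zero_vecMulVec, smul_zero]
    exact MemU.zero M
  obtain ⟨x, hx⟩ := (hf.nondegenerate v hv).2
  exact hall v Submodule.mem_top ⟨x, Submodule.mem_top, hx⟩

theorem SOver.big_of_eta [NeZero m] (hodd : Odd t) {θ : Fin t → Matrix (Fin m) (Fin m) F} (hθ : ∀ i, Eta G (θ i))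
    (hM : TMem M θ) : Big G M := by
  intro g hg
  have hf := fT_symplectic H.hG H.two hodd (t := t)
  refine TransvectionMax.isometry_mem hf (fun u c => ?_) g fun x y => ?_
  · obtain ⟨g', hg', hgX⟩ := H.inV_all hodd hθ hM u c
    convert hg' using 1
    refine TransvectionMax.gl_ext fun x => ?_
    rw [TransvectionMax.st, TransvectionMax.ft_act hf.bilinear (by
      rw [hf.bilinear.smul_right, hf.alternating, mul_zero]), hgX, Matrix.add_mulVec, Matrix.one_mulVec,
      Matrix.smul_mulVec, Et_mulVec, hf.bilinear.smul_right, smul_smul]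
  · have e : (g : Matrix (TI t m) (TI t m) F)ᵀ * pureT (fun _ => G) * (g : Matrix (TI t m) (TI t m) F) =
        pureT fun _ => G := by
      have h := congrArg (fun Z => pureT (fun _ => G) * Z) hg
      simp only [adjT, mul_one, ← mul_assoc, H.hG.pureT_mul_inv, one_mul] at h
      exact h
    simp only [fT]
    conv_rhs => rw [← e, ← Matrix.mulVec_mulVec, ← Matrix.mulVec_mulVec, Matrix.dotProduct_mulVec,
      Matrix.vecMul_transpose]

/-- A typed element at one position with a non-scalar cofactor puts all isometries into `M`. -/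
theorem SOver.hit [NeZero m] (hodd : Odd t) {j : Fin t} {T : Matrix (Fin m) (Fin m) F} (hT : Typ G T)
    {C : Matrix (TI t m) (TI t m) F} (hC : Comm j C) (hns : ¬ ∃ c : F, C = c • 1)
    (hM : MemU M (lift j T * C)) : Big G M :=
  let ⟨_, hθ, hθM⟩ := H.eta_everywhere hodd hT hC hns hM
  H.big_of_eta hodd hθ hθM

theorem SOver.noHit [NeZero m] (hodd : Odd t) (hB : ¬ Big G M) : NoHit G M :=
  fun _ _ _ hT hC hns hM => hB (H.hit hodd hT hC hns hM)

end Over

end Cfsg.Agent.TensorWreath43
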