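import Cfsg.Agent.Lib.TensorWreath43Pair

/-!
An overgroup of a symplectic tensor wreath stabiliser permutes the factors.
-/

set_option autoImplicit false
set_option linter.unusedSectionVars false

namespace Cfsg.Agent.TensorWreath43

open scoped Matrix

variable {F : Type*} [Field F] {t m : ℕ}

theorem SG.single_eq_Eop {G : Matrix (Fin m) (Fin m) F} (hG : SG G) (p q : Fin m) :
    Matrix.single p q (1 : F) = Eop G (Pi.single p 1) (G⁻¹ *ᵥ Pi.single q 1) := by
  rw [Eop, Matrix.mulVec_mulVec, hG.mul_inv, Matrix.one_mulVec, single_eq_vec]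

/-- With two factors, the centraliser of one factor is the other one. -/
theorem exists_alg_of_comm_two [NeZero m] {i : Fin 2} {C : Matrix (TI 2 m) (TI 2 m) F} (hC : Comm i C) :
    ∃ l, Alg l C := by
  obtain ⟨l, hl⟩ : ∃ l : Fin 2, l ≠ i := ⟨i + 1, by fin_cases i <;> decide⟩
  have hs : ∀ p q, ∃ c : F, cn l (Pi.single p 1) (Pi.single q 1) C = c • 1 := fun p q =>
    scalar_of_comm_all fun r => by
      by_cases hr : r = l
      · subst hr; exact comm_cn _ _ _ _
      · have : r = i := by fin_cases r <;> fin_cases l <;> fin_cases i <;> simp_all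
        subst this; exact comm_cn_of_comm hl _ _ hC
  choose c hc using hs
  refine ⟨l, ∑ p, ∑ q, c p q • Matrix.single p q 1, ?_⟩
  rw [lift_decomp l C]
  simp only [lift_sum, lift_smul, hc, Matrix.mul_smul, mul_one]

section Over

variable [Fintype F] [NeZero m] {G : Matrix (Fin m) (Fin m) F} {M : Subgroup (GL (TI t m) F)} (H : SBase G M)
include H

theorem SBase.exists_alg (ht : 2 ≤ t) (halt : ∀ {j : Fin t} {N : Matrix (TI t m) (TI t m) F},
    ConjRoot G M j N → (∃ η, N = lift j η) ∨ Comm j N) {g : GL (TI t m) F} (hg : g ∈ M)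
    (i : Fin t) {b : Fin m → F} (hb : b ≠ 0) :
    ∃ k, Alg k ((g : Matrix (TI t m) (TI t m) F) * lift i (Eop G b b) *
      ((g⁻¹ : GL (TI t m) F) : Matrix (TI t m) (TI t m) F)) := by
  classical
  set Z := (g : Matrix (TI t m) (TI t m) F) * lift i (Eop G b b) *
      ((g⁻¹ : GL (TI t m) F) : Matrix (TI t m) (TI t m) F) with hZ
  by_contra hall
  push Not at hall
  have hi : Comm i Z :=
    (halt ⟨g, hg, b, hb, hZ⟩).resolve_left fun ⟨η, hη⟩ => hall i ⟨η, hη⟩
  obtain rfl | ht3 := ht.eq_or_lt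
  · obtain ⟨l, hl⟩ := exists_alg_of_comm_two hi
    exact hall l hl
  have hroot : ∀ j, ConjRoot G M j Z := by
    intro j
    by_cases hji : j = i
    · subst hji; exact ⟨g, hg, b, hb, hZ⟩
    obtain ⟨r, hrj, hri⟩ := exists_third_fin ht3 j i
    obtain ⟨σ, hσ, hσj, -⟩ := exists_three_cycle (p := r) (q := j) (r := i) hrj hri hji
    have e : ((permU σ : GL (TI t m) F) : Matrix (TI t m) (TI t m) F) * lift j (Eop G b b) *
        (((permU σ)⁻¹ : GL (TI t m) F) : Matrix (TI t m) (TI t m) F) = lift i (Eop G b b) := by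
      show (permT σ : Matrix (TI t m) (TI t m) F) * _ * _ = _
      rw [permT_lift, hσj, mul_assoc]
      show _ * (((permU σ : GL (TI t m) F) : Matrix (TI t m) (TI t m) F) * _) = _
      rw [Units.mul_inv, mul_one]
    refine ⟨g * permU σ, M.mul_mem hg (H.perm σ hσ), b, hb, ?_⟩
    rw [hZ, ← e, mul_inv_rev, Units.val_mul, Units.val_mul]
    simp only [mul_assoc]
  have hcomm : ∀ j, Comm j Z := fun j =>
    (halt (hroot j)).resolve_left fun ⟨η, hη⟩ => hall j ⟨η, hη⟩
  obtain ⟨c, hc⟩ := scalar_of_comm_all hcomm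
  exact hall i ⟨c • 1, by rw [lift_smul, lift_one, hc]⟩

/-- Every element of the overgroup permutes the factors. -/
theorem SBase.le_wreath_of (ht : 2 ≤ t) (halt : ∀ {j : Fin t} {N : Matrix (TI t m) (TI t m) F},
    ConjRoot G M j N → (∃ η, N = lift j η) ∨ Comm j N) :
    M ≤ Cfsg.Geo.tensorWreathStandard m t F := by
  classical
  intro g hg
  let cj : GL (TI t m) F → Matrix (TI t m) (TI t m) F → Matrix (TI t m) (TI t m) F := fun g Z =>
    (g : Matrix (TI t m) (TI t m) F) * Z * ((g⁻¹ : GL (TI t m) F) : Matrix (TI t m) (TI t m) F)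
  have cj_mul : ∀ (g : GL (TI t m) F) Z W, cj g Z * cj g W = cj g (Z * W) := fun g Z W => by
    simp only [cj, mul_assoc, Units.inv_mul_cancel_left]
  have cj_inv : ∀ (g : GL (TI t m) F) Z, cj g⁻¹ (cj g Z) = Z := fun g Z => by
    simp only [cj, inv_inv, mul_assoc, Units.inv_mul, mul_one, Units.inv_mul_cancel_left]
  -- one factor goes into one factor
  have one : ∀ g ∈ M, ∀ i, ∃ k, ∀ η, Alg k (cj g (lift i η)) := by
    intro g hg i
    have h1 : ∀ b : {b : Fin m → F // b ≠ 0}, ∃ k, Alg k (cj g (lift i (Eop G b.1 b.1))) :=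
      fun b => H.exists_alg ht halt hg i b.2
    choose k hk using h1
    have hlink : ∀ p q : {b : Fin m → F // b ≠ 0}, fG G p.1 q.1 ≠ 0 → k p = k q := by
      intro p q hpq
      by_contra hkk
      obtain ⟨η, hη⟩ := hk p
      obtain ⟨ξ, hξ⟩ := hk q
      have e := lift_comm hkk η ξ
      rw [← hη, ← hξ, cj_mul, cj_mul] at e
      have e' := congrArg (cj g⁻¹) e
      simp only [cj_inv, ← lift_mul] at e'
      have e'' := congrArg (fun Z => Z *ᵥ p.1) (lift_injective i e')
      simp only [Eop_mul, Matrix.smul_mulVec, Eop_mulVec, H.hG.self, zero_smul, smul_zero] at e''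
      rw [smul_smul, smul_eq_zero, eq_comm] at e''
      exact e''.elim (fun h => mul_ne_zero (fun h' => hpq (by rw [H.hG.swap, h', neg_zero])) hpq h.symm) p.2
    obtain ⟨x₀, hx₀⟩ : ∃ x : Fin m → F, x ≠ 0 :=
      ⟨Pi.single 0 1, fun e => one_ne_zero (α := F) (by simpa using congrFun e 0)⟩
    have hall : ∀ p, k p = k ⟨x₀, hx₀⟩ := by
      intro p
      obtain ⟨z, hz1, hz2⟩ := TransvectionMax.exists_common H.hG.isSymplecticForm p.2 hx₀
      have hzne : z ≠ 0 := by
        intro e
        exact hz1 (by rw [e, fG, zero_dotProduct])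
      exact (hlink ⟨z, hzne⟩ p hz1).symm.trans (hlink ⟨z, hzne⟩ ⟨x₀, hx₀⟩ hz2)
    refine ⟨k ⟨x₀, hx₀⟩, fun η => ?_⟩
    set K := k ⟨x₀, hx₀⟩
    have hroot : ∀ b, b ≠ 0 → Alg K (cj g (lift i (Eop G b b))) := fun b hb => by
      have := hk ⟨b, hb⟩
      rwa [hall] at this
    have hmul : ∀ {X Y}, Alg K (cj g (lift i X)) → Alg K (cj g (lift i Y)) → Alg K (cj g (lift i (X * Y))) := by
      rintro X Y ⟨ξ, hξ⟩ ⟨ζ, hζ⟩
      exact ⟨ξ * ζ, by rw [lift_mul, lift_mul, ← cj_mul, hξ, hζ]⟩
    have hsmul : ∀ {X} (c : F), Alg K (cj g (lift i X)) → Alg K (cj g (lift i (c • X))) := by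
      rintro X c ⟨ξ, hξ⟩
      exact ⟨c • ξ, by rw [lift_smul, lift_smul, ← hξ]; simp only [cj, Matrix.mul_smul, Matrix.smul_mul]⟩
    have hE : ∀ a b, fG G a b ≠ 0 → Alg K (cj g (lift i (Eop G a b))) := by
      intro a b hab
      have ha : a ≠ 0 := by
        rintro rfl
        exact hab (by rw [← zero_smul F b, fG_smul_left, zero_mul])
      have hb : b ≠ 0 := by
        rintro rfl
        exact hab (by rw [← zero_smul F a, fG_smul_right, zero_mul])
      have hba : fG G b a ≠ 0 := fun e => hab (by rw [H.hG.swap, e, neg_zero])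
      have h2 := hsmul (fG G b a)⁻¹ (hmul (hroot a ha) (hroot b hb))
      rwa [Eop_mul, smul_smul, inv_mul_cancel₀ hba, one_smul] at h2
    have hEall : ∀ a b, Alg K (cj g (lift i (Eop G a b))) := by
      intro a b
      by_cases hab : fG G a b = 0
      swap
      · exact hE a b hab
      by_cases ha : a = 0
      · subst ha
        refine ⟨0, ?_⟩
        rw [← zero_smul F b, Eop_smul_left, zero_smul, lift_zero, lift_zero]
        simp only [cj, mul_zero, zero_mul]
      by_cases hb : b = 0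
      · subst hb
        refine ⟨0, ?_⟩
        rw [← zero_smul F a, Eop_smul_right, zero_smul, lift_zero, lift_zero]
        simp only [cj, mul_zero, zero_mul]
      obtain ⟨c, hc⟩ := H.hG.exists_left ha
      have hca : fG G a c ≠ 0 := by rw [H.hG.swap, hc]; exact neg_ne_zero.2 one_ne_zero
      have hcne : c ≠ 0 := by
        rintro rfl
        exact hca (by rw [← zero_smul F a, fG_smul_right, zero_mul])
      obtain ⟨d, hdb, hdc⟩ := TransvectionMax.exists_common H.hG.isSymplecticForm hb hcne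
      have h2 := hsmul (fG G d c)⁻¹ (hmul (hE a c hca) (hE d b hdb))
      rwa [Eop_mul, smul_smul, inv_mul_cancel₀ hdc, one_smul] at h2
    choose f hf using fun a b => hEall (Pi.single a (1 : F)) (G⁻¹ *ᵥ Pi.single b 1)
    refine ⟨∑ a, ∑ b, η a b • f a b, ?_⟩
    conv_lhs => rw [Matrix.matrix_eq_sum_single η]
    show cj g ((liftHom (F := F) i) _) = (liftHom (F := F) K) _
    simp only [map_sum, liftHom_apply, cj, Finset.mul_sum, Finset.sum_mul]
    refine Finset.sum_congr rfl fun a _ => Finset.sum_congr rfl fun b _ => ?_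
    rw [show Matrix.single a b (η a b) = η a b • Matrix.single a b (1 : F) by rw [Matrix.smul_single, smul_eq_mul, mul_one],
      H.hG.single_eq_Eop, lift_smul, lift_smul, Matrix.mul_smul, Matrix.smul_mul, ← hf]
  choose π hπ using one g hg
  have hb₀ : (Pi.single 0 1 : Fin m → F) ≠ 0 := fun e => one_ne_zero (α := F) (by simpa using congrFun e 0)
  set E₀ := Eop G (Pi.single 0 (1 : F)) (Pi.single 0 1) with hE₀
  have hns : ¬ ∃ u : F, E₀ = u • 1 := by
    rintro ⟨u, hu⟩
    have h1 := Eop_self_mul H.hG (Pi.single 0 (1 : F) : Fin m → F)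
    rw [← hE₀, hu, Matrix.smul_mul, one_mul, smul_smul, smul_eq_zero] at h1
    have hu0 : u = 0 := mul_self_eq_zero.1 (h1.resolve_right one_ne_zero)
    exact Eop_ne_zero H.hG hb₀ (by rw [← hE₀, hu, hu0, zero_smul])
  have hinj : Function.Injective π := by
    intro i i' hii
    by_contra hne'
    obtain ⟨l, hl⟩ := one g⁻¹ (M.inv_mem hg) (π i)
    have back : ∀ i₀, π i₀ = π i → i₀ = l := by
      intro i₀ h0
      obtain ⟨ξ, hξ⟩ := hπ i₀ E₀
      obtain ⟨ζ, hζ⟩ := hl ξ
      rw [← h0, ← hξ, cj_inv] at hζ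
      by_contra hne''
      exact hns (scalar_of_two_lifts hne'' hζ)
    exact hne' ((back i rfl).trans (back i' hii.symm).symm)
  let σ : Equiv.Perm (Fin t) := Equiv.ofBijective π hinj.bijective_of_finite
  have hσ : ∀ i, σ i = π i := fun i => rfl
  set g' := (permU σ)⁻¹ * g with hg'
  have hfix : ∀ i η, Alg i (cj g' (lift i η)) := by
    intro i η
    obtain ⟨ξ, hξ⟩ := hπ i η
    refine ⟨ξ, ?_⟩
    rw [hg']
    simp only [cj, mul_inv_rev, inv_inv, Units.val_mul] at hξ ⊢
    calc ((permU σ)⁻¹ : GL (TI t m) F).val * g.val * lift i η * (g⁻¹.val * (permU σ).val)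
        = ((permU σ)⁻¹ : GL (TI t m) F).val * ((g.val * lift i η * g⁻¹.val) * (permU σ).val) := by simp only [mul_assoc]
      _ = ((permU σ)⁻¹ : GL (TI t m) F).val * (lift (σ i) ξ * permT σ) := by rw [hξ, hσ]; rfl
      _ = lift i ξ := by
          rw [← permT_lift]
          exact Units.inv_mul_cancel_left (permU σ) _
  choose f hf using fun i a b => hfix i (Matrix.single a b (1 : F))
  have hinner : ∀ i, ∃ η : GL (Fin m) F, ∀ a b, (η : Matrix (Fin m) (Fin m) F) * Matrix.single a b 1 =
      f i a b * (η : Matrix (Fin m) (Fin m) F) := by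
    intro i
    refine exists_inner (f i) (fun a b c d => lift_injective i ?_) ?_
    · rw [lift_mul, ← hf, ← hf, cj_mul, lift_single_mul]
      split_ifs
      · rw [hf]
      · simp [cj, lift_zero]
    · intro e
      have h := hf i 0 0
      rw [e, lift_zero] at h
      have h' := congrArg (cj g'⁻¹) h
      rw [cj_inv] at h'
      simp only [cj, inv_inv, mul_zero, zero_mul] at h'
      rw [← lift_zero (F := F) (m := m) i] at h'
      simpa using congrFun (congrFun (lift_injective i h') 0) 0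
  choose η hη using hinner
  set h := (pureU η)⁻¹ * g' with hh
  have hcomm : ∀ i, Comm i (h : Matrix (TI t m) (TI t m) F) := fun i => comm_of_singles fun a b => by
    have e1 : (pureU η : Matrix (TI t m) (TI t m) F) * lift i (Matrix.single a b (1 : F)) =
        lift i (f i a b) * (pureU η : Matrix (TI t m) (TI t m) F) := by
      have := pureU_conj_lift η i (Matrix.single a b (1 : F))
      rw [hη, mul_assoc (f i a b), Units.mul_inv, mul_one] at this
      rw [← this, mul_assoc, Units.inv_mul, mul_one]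
    have e2 : (g' : Matrix (TI t m) (TI t m) F) * lift i (Matrix.single a b (1 : F)) =
        lift i (f i a b) * (g' : Matrix (TI t m) (TI t m) F) := by
      rw [← hf]
      simp only [cj, mul_assoc, Units.inv_mul, mul_one]
    rw [hh, Units.val_mul]
    calc lift i (Matrix.single a b 1) * (((pureU η)⁻¹ : GL (TI t m) F).val * g'.val)
        = ((pureU η)⁻¹ : GL (TI t m) F).val * ((pureU η).val * lift i (Matrix.single a b 1)) *
            ((pureU η)⁻¹ : GL (TI t m) F).val * g'.val := by
          simp only [← mul_assoc, Units.inv_mul, one_mul]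
      _ = ((pureU η)⁻¹ : GL (TI t m) F).val * (lift i (f i a b) * g'.val) := by
          rw [e1]; simp only [mul_assoc, Units.mul_inv_cancel_left]
      _ = _ := by rw [← e2, mul_assoc]
  obtain ⟨u, hu⟩ := scalar_of_comm_all hcomm
  have hu0 : u ≠ 0 := fun e => h.ne_zero (by rw [hu, e, zero_smul])
  let i₀ : Fin t := ⟨0, by omega⟩
  have hh' : h = Units.map (liftHom (F := F) i₀).toMonoidHom
      (Units.map (algebraMap F (Matrix (Fin m) (Fin m) F)).toMonoidHom (Units.mk0 u hu0)) := by
    refine Units.ext ?_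
    show (h : Matrix (TI t m) (TI t m) F) = lift i₀ (algebraMap F (Matrix (Fin m) (Fin m) F) u)
    rw [Algebra.algebraMap_eq_smul_one, lift_smul, lift_one, hu]
  have hdec : g = permU σ * (pureU η * h) := by rw [hh, mul_inv_cancel_left, hg', mul_inv_cancel_left]
  rw [hdec, hh']
  refine Subgroup.mul_mem _ (permU_mem_wreath σ) (Subgroup.mul_mem _ (pureU_mem_wreath η) ?_)
  rw [liftU_eq_pureU]
  exact pureU_mem_wreath _

end Over

/-- Every element of the overgroup permutes the factors. -/
theorem SOver.le_wreath [Fintype F] [NeZero m] {G : Matrix (Fin m) (Fin m) F} {M : Subgroup (GL (TI t m) F)}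
    (H : SOver G M) (ht : 2 ≤ t) (hB : NoHit G M) (hex : 3 ≤ m ∨ 4 < Fintype.card F) :
    M ≤ Cfsg.Geo.tensorWreathStandard m t F :=
  H.le_wreath_of ht fun h => H.alg_or_comm hB hex h

section Coordinates

variable {G : Matrix (Fin m) (Fin m) F}

theorem fT_of_iso (hG : SG G) {Z : Matrix (TI t m) (TI t m) F} (h : adjT G Z * Z = 1) (x y : TI t m → F) :
    fT G (Z *ᵥ x) (Z *ᵥ y) = fT G x y := by
  have e : Zᵀ * pureT (fun _ => G) * Z = pureT fun _ => G := by
    have h' := congrArg (fun W => pureT (fun _ => G) * W) h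
    simp only [adjT, mul_one, ← mul_assoc, hG.pureT_mul_inv, one_mul] at h'
    exact h'
  simp only [fT]
  conv_rhs => rw [← e, ← Matrix.mulVec_mulVec, ← Matrix.mulVec_mulVec, Matrix.dotProduct_mulVec,
    Matrix.vecMul_transpose]

theorem iso_of_fT (hG : SG G) {Z : Matrix (TI t m) (TI t m) F}
    (h : ∀ x y, fT G (Z *ᵥ x) (Z *ᵥ y) = fT G x y) : adjT G Z * Z = 1 := by
  have e : Zᵀ * pureT (fun _ => G) * Z = pureT fun _ => G := by
    ext p q
    have h' := h (Pi.single p 1) (Pi.single q 1)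
    simp only [fT] at h'
    rw [Matrix.mulVec_mulVec, Matrix.dotProduct_mulVec, ← Matrix.vecMul_transpose, Matrix.vecMul_vecMul,
      ← Matrix.dotProduct_mulVec, single_dotProduct, one_mul, single_dotProduct, one_mul, Matrix.mulVec_single_one,
      Matrix.mulVec_single_one, Matrix.col_apply, Matrix.col_apply, ← mul_assoc] at h'
    exact h'
  rw [adjT, mul_assoc, mul_assoc, ← mul_assoc Zᵀ, e, hG.pureT_inv_mul]

theorem adjT_permT (hG : SG G) (σ : Equiv.Perm (Fin t)) :
    adjT G (permT σ : Matrix (TI t m) (TI t m) F) * permT σ = 1 := by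
  have ht : (permT σ : Matrix (TI t m) (TI t m) F)ᵀ = permT σ⁻¹ := by
    ext x y
    simp only [Matrix.transpose_apply, permT]
    refine if_congr ⟨fun h => ?_, fun h => ?_⟩ rfl rfl <;> subst h <;> funext i <;> simp
  have hc := permU_pureT (F := F) (m := m) σ (fun _ => G)
  rw [Units.mul_inv_eq_iff_eq_mul] at hc
  rw [adjT, ht, mul_assoc, mul_assoc, ← show ((permU σ : GL (TI t m) F) : Matrix (TI t m) (TI t m) F) = permT σ from rfl,
    ← hc, ← mul_assoc (permT σ⁻¹)]
  show _ * (((permU σ)⁻¹ : GL (TI t m) F).val * (permU σ).val * _) = _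
  rw [Units.inv_mul, one_mul, hG.pureT_inv_mul]

theorem sG_gram [NeZero m] (h2 : (2 : F) ≠ 0) {f₁ : (Fin m → F) → (Fin m → F) → F}
    (hf : Cfsg.Geo.IsSymplecticForm f₁) : SG (Cfsg.Geo.gramMatrix f₁) := by
  classical
  have hskew : (Cfsg.Geo.gramMatrix f₁)ᵀ = -Cfsg.Geo.gramMatrix f₁ := by
    ext a b
    exact hf.skew _ _
  refine ⟨hskew, fun u => ?_, isUnit_iff_ne_zero.2 fun hdet => ?_⟩
  · have h := Matrix.dotProduct_mulVec u (Cfsg.Geo.gramMatrix f₁) u
    rw [← Matrix.mulVec_transpose, hskew, Matrix.neg_mulVec, neg_dotProduct, dotProduct_comm (_ *ᵥ u)] at h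
    have h' : (2 : F) * (u ⬝ᵥ (Cfsg.Geo.gramMatrix f₁ *ᵥ u)) = 0 := by linear_combination h
    exact (mul_eq_zero.1 h').resolve_left h2
  · obtain ⟨v, hv, hGv⟩ := Matrix.exists_mulVec_eq_zero_iff.2 hdet
    obtain ⟨x, hx⟩ := (hf.nondegenerate v hv).1
    refine hx ?_
    rw [← TransvectionMax.row_dot hf.bilinear v x]
    have hrow : TransvectionMax.row f₁ v = Cfsg.Geo.gramMatrix f₁ *ᵥ v := funext fun a => by
      show f₁ (Pi.single a 1) v = _
      rw [hf.skew, ← TransvectionMax.row_dot hf.bilinear (Pi.single a 1) v, dotProduct, ← Finset.sum_neg_distrib]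
      refine Finset.sum_congr rfl fun b _ => ?_
      show -(f₁ (Pi.single b 1) (Pi.single a 1) * v b) = f₁ (Pi.single a 1) (Pi.single b 1) * v b
      rw [hf.skew (Pi.single a 1)]
      ring
    rw [hrow, hGv, zero_dotProduct]

theorem exists_not_wreath [Fintype F] [NeZero m] (hG : SG G) (h2 : (2 : F) ≠ 0) (hodd : Odd t) (ht : 2 ≤ t) :
    ∃ g : GL (TI t m) F, adjT G (g : Matrix (TI t m) (TI t m) F) * (g : Matrix (TI t m) (TI t m) F) = 1 ∧
      g ∉ Cfsg.Geo.tensorWreathStandard m t F := by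
  classical
  have hrow : ∀ a, ∃ b, G a b ≠ 0 := fun a => by
    by_contra! h
    exact hG.unit.ne_zero (Matrix.det_eq_zero_of_row_eq_zero a h)
  choose b hb using hrow
  let p : TI t m := fun _ => 0
  let q : TI t m := fun i => b (p i)
  have hdiag : ∀ a, G a a = 0 := fun a => by
    have := hG.alt (Pi.single a 1)
    rwa [single_dotProduct, one_mul, Matrix.mulVec_single_one, Matrix.col_apply] at this
  have hpq : ∀ i, p i ≠ q i := fun i e => by
    have h1 := hb (p i)
    rw [show b (p i) = p i from e.symm, hdiag] at h1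
    exact h1 rfl
  have hf := fT_symplectic hG h2 hodd (t := t)
  have hc : ∀ x y : TI t m, fT G (Pi.single x 1) (Pi.single y 1) = ∏ i, G (x i) (y i) := fun x y => by
    rw [fT, single_dotProduct, one_mul, Matrix.mulVec_single_one, Matrix.col_apply]
    rfl
  set a := fT G (Pi.single p 1) (Pi.single q 1) with ha
  have ha0 : a ≠ 0 := by
    rw [ha, hc]
    exact Finset.prod_ne_zero_iff.2 fun i _ => hb (p i)
  set v : TI t m → F := Pi.single p 1 + Pi.single q 1 with hv
  refine ⟨TransvectionMax.st (fT G) v a⁻¹, iso_of_fT hG (TransvectionMax.st_preserves hf v a⁻¹), fun hg => ?_⟩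
  obtain ⟨ys, hys⟩ := pureV_image hg (fun i => Pi.single (p i) 1)
  refine single_add_single_ne_pureV (i₁ := (⟨0, by omega⟩ : Fin t)) (i₂ := ⟨1, by omega⟩)
    (by simp [Fin.ext_iff]) (hpq ⟨0, by omega⟩) (hpq ⟨1, by omega⟩) (u := (2 : F)) (w := (1 : F)) h2 one_ne_zero ys (p := p) (q := q) ?_
  rw [← hys, pureV_single, TransvectionMax.st_act hf]
  have e : fT G (Pi.single p 1) v = a := by
    rw [hv, hf.bilinear.add_right, hf.alternating, zero_add]
  rw [e, inv_mul_cancel₀ ha0, one_smul, hv, ← add_assoc, ← Pi.single_add]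
  norm_num

end Coordinates

end Cfsg.Agent.TensorWreath43
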