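import Cfsg.Agent.Lib.TensorWreath43TwoTau
import Cfsg.Agent.Lib.TensorWreath43OrthOmega

/-!
Characteristic two: a non-scalar pair coefficient gives the whole commutator group of the quadratic form.
-/

set_option autoImplicit false
set_option linter.unusedSectionVars false

namespace Cfsg.Agent.TensorWreath43

open scoped Matrix
open QuadraticMap
open Cfsg.Agent.OrthUnitaryQuad Cfsg.Agent.OrthUnitarySimple Cfsg.Agent.OmegaGeo

variable {F : Type*} [Field F] {t m : ℕ}

open Classical in
/-- Rank one at the positions of a set, the identity elsewhere. -/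
noncomputable def PE (G : Matrix (Fin m) (Fin m) F) (T : Finset (Fin t)) (A B : Fin t → Fin m → F) :
    Matrix (TI t m) (TI t m) F :=
  pureT fun r => if r ∈ T then Eop G (A r) (B r) else 1

section Basics

variable {G : Matrix (Fin m) (Fin m) F}

theorem PE_congr {T : Finset (Fin t)} {A B A' B' : Fin t → Fin m → F} (hA : ∀ r ∈ T, A r = A' r)
    (hB : ∀ r ∈ T, B r = B' r) : PE G T A B = PE G T A' B' := by
  classical
  rw [PE, PE]
  congr 1
  funext r
  by_cases hr : r ∈ T
  · rw [if_pos hr, if_pos hr, hA r hr, hB r hr]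
  · rw [if_neg hr, if_neg hr]

theorem PE_comm {T : Finset (Fin t)} {r : Fin t} (hr : r ∉ T) (A B : Fin t → Fin m → F) : Comm r (PE G T A B) := by
  classical
  exact comm_pureT (if_neg hr)

theorem PE_empty (A B : Fin t → Fin m → F) : PE G ∅ A B = 1 := by
  classical
  rw [PE, ← pureT_one]
  congr 1

theorem PE_insert {T : Finset (Fin t)} {i : Fin t} (hi : i ∉ T) (A B : Fin t → Fin m → F) (x y : Fin m → F) :
    PE G (insert i T) (Function.update A i x) (Function.update B i y) = lift i (Eop G x y) * PE G T A B := by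
  classical
  rw [PE, PE, lift_mul_pureT]
  congr 1
  funext r
  by_cases hr : r = i
  · subst hr; simp [hi]
  · simp [hr]

theorem PE_split {T : Finset (Fin t)} {i : Fin t} (hi : i ∈ T) (A B : Fin t → Fin m → F) :
    PE G T A B = lift i (Eop G (A i) (B i)) * PE G (T.erase i) A B := by
  classical
  conv_lhs => rw [← Finset.insert_erase hi, ← Function.update_eq_self i A, ← Function.update_eq_self i B]
  exact PE_insert (Finset.notMem_erase i T) A B _ _

theorem PE_adj (hG : SG G) (hc2 : (2 : F) = 0) (T : Finset (Fin t)) (A B : Fin t → Fin m → F) :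
    adjT G (PE G T A B) = PE G T B A := by
  classical
  rw [PE, PE, adjT_pureT]
  congr 1
  funext r
  by_cases hr : r ∈ T
  · rw [if_pos hr, if_pos hr, hG.adjG_Eop, neg_eq_of_two hc2]
  · rw [if_neg hr, if_neg hr, hG.adjG_one]

theorem PE_mul_same (T : Finset (Fin t)) (A B A' B' : Fin t → Fin m → F) :
    PE G T A B * PE G T A' B' = (∏ r ∈ T, fG G (A' r) (B r)) • PE G T A B' := by
  classical
  rw [PE, PE, PE, pureT_mul,
    show (∏ r ∈ T, fG G (A' r) (B r)) = ∏ r, (if r ∈ T then fG G (A' r) (B r) else 1) by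
      rw [Finset.prod_ite_mem, Finset.univ_inter], ← pureT_smul_pi]
  congr 1
  funext r
  by_cases hr : r ∈ T
  · simp only [Pi.mul_apply, hr, if_true, Eop_mul]
  · simp only [Pi.mul_apply, hr, if_false, mul_one, one_smul]

theorem PE_zero {T : Finset (Fin t)} {A B : Fin t → Fin m → F} {r : Fin t} (hr : r ∈ T)
    (h : A r = 0 ∨ B r = 0) : PE G T A B = 0 := by
  classical
  refine pureT_eq_zero (p := r) ?_
  rw [if_pos hr, Eop]
  rcases h with h | h
  · rw [h, Matrix.zero_vecMulVec]
  · rw [h, Matrix.mulVec_zero, Matrix.vecMulVec_zero]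

theorem comm_pureT_mul {η : Fin t → Matrix (Fin m) (Fin m) F} {C : Matrix (TI t m) (TI t m) F}
    (h : ∀ r, η r = 1 ∨ Comm r C) : pureT η * C = C * pureT η := by
  classical
  suffices key : ∀ s : Finset (Fin t),
      pureT (fun r => if r ∈ s then η r else 1) * C = C * pureT (fun r => if r ∈ s then η r else 1) by
    simpa using key Finset.univ
  intro s
  induction s using Finset.induction with
  | empty =>
    have e : (fun r => if r ∈ (∅ : Finset (Fin t)) then η r else 1) = 1 := funext fun r => by simp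
    rw [e, pureT_one, one_mul, mul_one]
  | insert a s ha ih =>
    have e : pureT (fun r => if r ∈ insert a s then η r else 1) =
        lift a (η a) * pureT (fun r => if r ∈ s then η r else 1) := by
      rw [lift_mul_pureT]
      congr 1
      funext r
      by_cases hr : r = a
      · subst hr; simp [ha]
      · simp [hr]
    rw [e, mul_assoc, ih, ← mul_assoc, ← mul_assoc]
    congr 1
    rcases h a with h1 | h1
    · rw [h1, lift_one, one_mul, mul_one]
    · exact h1 _

theorem PE_comm_mul {T : Finset (Fin t)} {C : Matrix (TI t m) (TI t m) F} (h : ∀ r ∈ T, Comm r C)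
    (A B : Fin t → Fin m → F) : PE G T A B * C = C * PE G T A B := by
  classical
  exact comm_pureT_mul fun r => if hr : r ∈ T then Or.inr (h r hr) else Or.inl (if_neg hr)

theorem PE_conj (hG : SG G) (T : Finset (Fin t)) (A B : Fin t → Fin m → F) {h : Fin t → Matrix (Fin m) (Fin m) F}
    (hh : ∀ r, adjG G (h r) * h r = 1) :
    pureT h * PE G T A B * pureT (fun r => adjG G (h r)) = PE G T (fun r => h r *ᵥ A r) (fun r => h r *ᵥ B r) := by
  classical
  rw [PE, PE, pureT_mul, pureT_mul]
  congr 1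
  funext r
  by_cases hr : r ∈ T
  · simp only [Pi.mul_apply, hr, if_true, conj_Eop hG]
  · simp only [Pi.mul_apply, hr, if_false, mul_one, mul_eq_one_comm.1 (hh r)]

open Classical in
theorem PE_mul_union (T T' : Finset (Fin t)) (A B A' B' : Fin t → Fin m → F) :
    PE G T A B * PE G T' A' B' = (∏ r ∈ T ∩ T', fG G (A' r) (B r)) •
      PE G (T ∪ T') (fun r => if r ∈ T then A r else A' r) (fun r => if r ∈ T' then B' r else B r) := by
  rw [PE, PE, PE, pureT_mul,
    show (∏ r ∈ T ∩ T', fG G (A' r) (B r)) = ∏ r, (if r ∈ T ∩ T' then fG G (A' r) (B r) else 1) by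
      rw [Finset.prod_ite_mem, Finset.univ_inter], ← pureT_smul_pi]
  congr 1
  funext r
  by_cases hr : r ∈ T <;> by_cases hr' : r ∈ T'
  · simp only [Pi.mul_apply, hr, hr', Finset.mem_inter, Finset.mem_union, and_self, or_self, if_true, Eop_mul]
  · simp [hr, hr']
  · simp [hr, hr']
  · simp [hr, hr']

theorem transvection_iso (hG : SG G) (w : Fin m → F) :
    adjG G (1 + Eop G w w) * (1 + Eop G w w) = 1 := by
  rw [adjG_add, hG.adjG_one, hG.adjG_Eop, add_mul, one_mul, neg_mul, mul_add, mul_one, Eop_self_mul hG]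
  abel

theorem transvection_mulVec (w x : Fin m → F) : (1 + Eop G w w) *ᵥ x = x + fG G x w • w := by
  rw [Matrix.add_mulVec, Matrix.one_mulVec, Eop_mulVec]

theorem iso_ne_zero {h : Matrix (Fin m) (Fin m) F} (hh : adjG G h * h = 1) {x : Fin m → F} (hx : x ≠ 0) :
    h *ᵥ x ≠ 0 := fun e => hx (by
  have := congrArg (adjG G h *ᵥ ·) e
  simpa [Matrix.mulVec_mulVec, hh] using this)

end Basics

section Over

variable [Fintype F] [NeZero m] {G : Matrix (Fin m) (Fin m) F} {M : Subgroup (GL (TI t m) F)} (H : SBase G M)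
  (hc2 : (2 : F) = 0) (hm : 6 ≤ m)
include H hc2 hm

omit hc2 hm in
theorem SBase.lset_conj_tuple {j : Fin t} {Y : Matrix (TI t m) (TI t m) F} (hY : Lset G M j Y)
    {h : Fin t → Matrix (Fin m) (Fin m) F} (hh : ∀ r, adjG G (h r) * h r = 1) (hj : h j = 1) :
    Lset G M j (pureT h * Y * pureT (fun r => adjG G (h r))) := by
  classical
  suffices key : ∀ s : Finset (Fin t), Lset G M j (pureT (fun r => if r ∈ s then h r else 1) * Y *
      pureT (fun r => if r ∈ s then adjG G (h r) else 1)) by simpa using key Finset.univ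
  intro s
  induction s using Finset.induction with
  | empty =>
    have e : (fun r => if r ∈ (∅ : Finset (Fin t)) then h r else 1) = 1 := funext fun r => by simp
    have e' : (fun r => if r ∈ (∅ : Finset (Fin t)) then adjG G (h r) else 1) = 1 := funext fun r => by simp
    rw [e, e', pureT_one, one_mul, mul_one]
    exact hY
  | insert a s ha ih =>
    by_cases haj : a = j
    · have e : ∀ (k : Fin t → Matrix (Fin m) (Fin m) F), k a = 1 →
          (fun r => if r ∈ insert a s then k r else 1) = fun r => if r ∈ s then k r else 1 := fun k hk =>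
        funext fun r => by
          by_cases hr : r = a
          · subst hr; simp [ha, hk]
          · simp [hr]
      rw [e h (haj ▸ hj), e (fun r => adjG G (h r)) (by simp only [haj, hj, H.hG.adjG_one])]
      exact ih
    have h1 := H.lset_conj (i := a) haj ih (hh a)
    rw [← mul_assoc, ← mul_assoc, lift_mul_pureT, mul_assoc, pureT_mul_lift] at h1
    rw [show Function.update (fun r => if r ∈ s then h r else 1) a (h a * if a ∈ s then h a else 1) =
        (fun r => if r ∈ insert a s then h r else 1) from funext fun r => by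
          by_cases hr : r = a
          · subst hr; simp [ha]
          · simp [hr],
      show Function.update (fun r => if r ∈ s then adjG G (h r) else 1) a
          ((if a ∈ s then adjG G (h a) else 1) * adjG G (h a)) =
        (fun r => if r ∈ insert a s then adjG G (h r) else 1) from funext fun r => by
          by_cases hr : r = a
          · subst hr; simp [ha]
          · simp [hr]] at h1
    exact h1

omit hm in
theorem SBase.lset_pe_adj {j : Fin t} {T : Finset (Fin t)} {A B : Fin t → Fin m → F}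
    (h : Lset G M j (PE G T A B)) : Lset G M j (PE G T B A) := by
  have := H.lset_adj hc2 h
  rwa [PE_adj H.hG hc2] at this

/-- One rank one product gives all of them. -/
theorem SBase.lset_pe_all {j : Fin t} {T : Finset (Fin t)} (hj : j ∉ T) {a b : Fin t → Fin m → F}
    (ha : ∀ r ∈ T, a r ≠ 0) (hb : ∀ r ∈ T, b r ≠ 0) (h : Lset G M j (PE G T a b)) (p q : Fin t → Fin m → F) :
    Lset G M j (PE G T p q) := by
  classical
  have hm5 : 5 ≤ m := by omega
  -- independent entries
  obtain ⟨w, hw⟩ : ∃ w : Fin t → Fin m → F, ∀ r ∈ T, fG G (a r) (w r) ≠ 0 ∧ fG G (b r) (w r) ≠ 0 := by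
    have : ∀ r, ∃ w, r ∈ T → fG G (a r) w ≠ 0 ∧ fG G (b r) w ≠ 0 := fun r => by
      by_cases hr : r ∈ T
      · obtain ⟨z, hz1, hz2⟩ := TransvectionMax.exists_common H.hG.isSymplecticForm (ha r hr) (hb r hr)
        exact ⟨z, fun _ => ⟨fun e => hz1 (H.hG.swap_zero e), fun e => hz2 (H.hG.swap_zero e)⟩⟩
      · exact ⟨0, fun h => absurd h hr⟩
    choose w hw using this
    exact ⟨w, hw⟩
  let h₁ : Fin t → Matrix (Fin m) (Fin m) F := fun r => if r ∈ T then 1 + Eop G (w r) (w r) else 1
  have hh₁ : ∀ r, adjG G (h₁ r) * h₁ r = 1 := fun r => by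
    simp only [h₁]; split_ifs
    · exact transvection_iso H.hG _
    · rw [H.hG.adjG_one, one_mul]
  have hc1 := H.lset_conj_tuple (H.lset_pe_adj hc2 h) hh₁ (if_neg hj)
  rw [PE_conj H.hG _ _ _ hh₁] at hc1
  have hp1 := H.lset_mul hc2 hm5 h hc1
  rw [PE_mul_same] at hp1
  have hne1 : ∏ r ∈ T, fG G (h₁ r *ᵥ b r) (b r) ≠ 0 := Finset.prod_ne_zero_iff.2 fun r hr => by
    simp only [h₁, hr, if_true, transvection_mulVec, fG_add_left, fG_smul_left, H.hG.self, zero_add]
    exact mul_ne_zero (hw r hr).2 fun e => (hw r hr).2 (H.hG.swap_zero e)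
  have hab := H.lset_smul hp1 (∏ r ∈ T, fG G (h₁ r *ᵥ b r) (b r))⁻¹
  rw [smul_smul, inv_mul_cancel₀ hne1, one_smul] at hab
  set b' := fun r => h₁ r *ᵥ a r with hb'
  have hab' : ∀ r ∈ T, fG G (a r) (b' r) ≠ 0 := fun r hr => by
    simp only [hb', h₁, hr, if_true, transvection_mulVec, fG_add_right, fG_smul_right, H.hG.self, zero_add]
    exact mul_ne_zero (hw r hr).1 (hw r hr).1
  -- equal entries
  obtain ⟨w', hw'⟩ : ∃ w' : Fin t → Fin m → F, ∀ r ∈ T, fG G (b' r) (w' r) = 1 ∧ fG G (a r) (w' r) = 0 := by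
    have : ∀ r, ∃ w', r ∈ T → fG G (b' r) w' = 1 ∧ fG G (a r) w' = 0 := fun r => by
      by_cases hr : r ∈ T
      · obtain ⟨z, hz1, hz2⟩ := exists_dual_one H.hG (x := b' r) (a := a r) fun s e =>
          hab' r hr (by rw [e, fG_smul_right, H.hG.self, mul_zero])
        exact ⟨z, fun _ => ⟨hz1, hz2⟩⟩
      · exact ⟨0, fun h => absurd h hr⟩
    choose w' hw' using this
    exact ⟨w', hw'⟩
  let h₂ : Fin t → Matrix (Fin m) (Fin m) F := fun r => if r ∈ T then 1 + Eop G (w' r) (w' r) else 1
  have hh₂ : ∀ r, adjG G (h₂ r) * h₂ r = 1 := fun r => by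
    simp only [h₂]; split_ifs
    · exact transvection_iso H.hG _
    · rw [H.hG.adjG_one, one_mul]
  have hc2' := H.lset_conj_tuple (H.lset_pe_adj hc2 hab) hh₂ (if_neg hj)
  rw [PE_conj H.hG _ _ _ hh₂] at hc2'
  have hp2 := H.lset_mul hc2 hm5 hab hc2'
  rw [PE_mul_same, Finset.prod_eq_one (fun r hr => by
    simp only [h₂, hr, if_true, transvection_mulVec, fG_add_left, fG_smul_left, H.hG.self, zero_add, (hw' r hr).1,
      one_mul]
    rw [H.hG.swap, (hw' r hr).1, neg_eq_of_two hc2]), one_smul,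
    PE_congr (A' := a) (B' := a) (fun _ _ => rfl) (fun r hr => by
      simp only [h₂, hr, if_true, transvection_mulVec, (hw' r hr).2, zero_smul, add_zero])] at hp2
  -- all equal entries
  have hdiag : ∀ y : Fin t → Fin m → F, (∀ r ∈ T, y r ≠ 0) → Lset G M j (PE G T y y) := by
    intro y hy
    have : ∀ r, ∃ X : Matrix (Fin m) (Fin m) F, adjG G X * X = 1 ∧ (r ∈ T → X *ᵥ a r = y r) ∧ (r ∉ T → X = 1) :=
      fun r => by
        by_cases hr : r ∈ T
        · obtain ⟨X, hX, hXa⟩ := H.exists_rt (ha r hr) (hy r hr)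
          exact ⟨X, hX, fun _ => hXa, fun h => absurd hr h⟩
        · exact ⟨1, by rw [H.hG.adjG_one, one_mul], fun h => absurd h hr, fun _ => rfl⟩
    choose k hk hka hk1 using this
    have h4 := H.lset_conj_tuple hp2 hk (hk1 j hj)
    rwa [PE_conj H.hG _ _ _ hk, PE_congr (A' := y) (B' := y) hka hka] at h4
  by_cases hz : ∃ r ∈ T, p r = 0 ∨ q r = 0
  · obtain ⟨r, hr, hr'⟩ := hz
    rw [PE_zero hr hr']
    exact H.lset_zero j
  push Not at hz
  have : ∀ r, ∃ z, r ∈ T → fG G z (p r) ≠ 0 ∧ fG G (q r) z ≠ 0 := fun r => by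
    by_cases hr : r ∈ T
    · obtain ⟨z, h1, h2⟩ := TransvectionMax.exists_common H.hG.isSymplecticForm (hz r hr).1 (hz r hr).2
      exact ⟨z, fun _ => ⟨h1, fun e => h2 (H.hG.swap_zero e)⟩⟩
    · exact ⟨0, fun h => absurd h hr⟩
  choose z hzz using this
  have hz0 : ∀ r ∈ T, z r ≠ 0 := fun r hr e => (hzz r hr).1 (by rw [e, fG, zero_dotProduct])
  have h5 := H.lset_mul hc2 hm5 (H.lset_mul hc2 hm5 (hdiag p fun r hr => (hz r hr).1) (hdiag z hz0))
    (hdiag q fun r hr => (hz r hr).2)
  rw [PE_mul_same, Matrix.smul_mul, PE_mul_same, smul_smul] at h5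
  have hne : (∏ r ∈ T, fG G (z r) (p r)) * ∏ r ∈ T, fG G (q r) (z r) ≠ 0 :=
    mul_ne_zero (Finset.prod_ne_zero_iff.2 fun r hr => (hzz r hr).1)
      (Finset.prod_ne_zero_iff.2 fun r hr => (hzz r hr).2)
  have h6 := H.lset_smul h5 ((∏ r ∈ T, fG G (z r) (p r)) * ∏ r ∈ T, fG G (q r) (z r))⁻¹
  rwa [smul_smul, inv_mul_cancel₀ hne, one_smul] at h6

omit hc2 in
/-- A pair element gives a coefficient at each orthogonal position. -/
theorem SBase.lset_of_pair {T : Finset (Fin t)} {A B : Fin t → Fin m → F} {p : Fin t} (hp : p ∈ T)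
    (h : Orp G (A p) (B p)) (hc : (2 : F) = 0) (hM : MemU M (PE G T A B + PE G T B A)) :
    Lset G M p (PE G (T.erase p) A B) := by
  refine ⟨PE_comm (Finset.notMem_erase p T) _ _, fun a c hac => H.tau2_spread (by omega) h
    (PE_comm (Finset.notMem_erase p T) _ _) ?_ hac⟩
  rw [Tau2, PE_adj H.hG hc, ← PE_split hp, ← PE_split hp]
  exact hM

omit hm in
theorem SBase.pair_of_lset {T : Finset (Fin t)} {A B : Fin t → Fin m → F} {p : Fin t} (hp : p ∈ T)
    (h : Orp G (A p) (B p)) (hL : Lset G M p (PE G (T.erase p) A B)) :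
    MemU M (PE G T A B + PE G T B A) := by
  have := hL.2 _ _ h
  rwa [Tau2, PE_adj H.hG hc2, ← PE_split hp, ← PE_split hp] at this

/-- All rank one products on `T` at the position `p`. -/
def FullAt (G : Matrix (Fin m) (Fin m) F) (M : Subgroup (GL (TI t m) F)) (p : Fin t) (T : Finset (Fin t)) : Prop :=
  p ∉ T ∧ ∀ A B, Lset G M p (PE G T A B)

theorem SBase.fullAt_union {p : Fin t} {T T' : Finset (Fin t)} (h : FullAt G M p T) (h' : FullAt G M p T') :
    FullAt G M p (T ∪ T') := by
  classical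
  have hmem : p ∉ T ∪ T' := by simp [h.1, h'.1]
  refine ⟨hmem, ?_⟩
  let e : Fin m → F := Pi.single 0 1
  have he : e ≠ 0 := fun e0 => one_ne_zero (α := F) (by simpa [e] using congrFun e0 0)
  obtain ⟨e', he'⟩ := H.hG.exists_left he
  have he0 : e' ≠ 0 := by rintro rfl; rw [fG, zero_dotProduct] at he'; exact zero_ne_one he'
  have h1 := H.lset_mul hc2 (by omega) (h.2 (fun _ => e) (fun _ => e)) (h'.2 (fun _ => e') (fun _ => e'))
  rw [PE_mul_union, Finset.prod_eq_one (fun r _ => he'), one_smul] at h1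
  exact fun A B => H.lset_pe_all hc2 hm hmem (fun r _ => by split_ifs <;> assumption)
    (fun r _ => by split_ifs <;> assumption) h1 A B

/-- The base position can be exchanged with a position of the set and moved by a permutation. -/
theorem SBase.fullAt_move {j : Fin t} {S : Finset (Fin t)} (hS : FullAt G M j S) {l : Fin t} (hl : l ∈ S)
    {σ : Equiv.Perm (Fin t)} (hσ : σ ^ 3 = 1) (hσj : σ j = l) :
    FullAt G M l ((insert j S).erase l) ∧ FullAt G M l (((insert j S).image σ).erase l) := by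
  classical
  let e : Fin m → F := Pi.single 0 1
  have he : e ≠ 0 := fun e0 => one_ne_zero (α := F) (by simpa [e] using congrFun e0 0)
  obtain ⟨o, ho, hoi⟩ := SG.exists_perp_indep (G := G) (by omega : 3 ≤ m) e
  have horp : Orp G e o := ⟨he, ho, hoi⟩
  have hj : (insert j S).erase j = S := Finset.erase_insert hS.1
  have hM := H.pair_of_lset hc2 (Finset.mem_insert_self j S) (A := fun _ => e) (B := fun _ => o) horp
    (by rw [hj]; exact hS.2 _ _)
  refine ⟨⟨Finset.notMem_erase _ _, fun A B => H.lset_pe_all hc2 hm (Finset.notMem_erase _ _) (fun _ _ => he)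
    (fun _ _ => horp.ne_right)
    (H.lset_of_pair hm (Finset.mem_insert_of_mem hl) (A := fun _ => e) (B := fun _ => o) horp hc2 hM) A B⟩, ?_⟩
  have hP : ∀ A B : Fin m → F, ((permU σ : GL (TI t m) F) : Matrix (TI t m) (TI t m) F) *
      PE G (insert j S) (fun _ => A) (fun _ => B) * (((permU σ : GL (TI t m) F)⁻¹ : GL (TI t m) F) : Matrix _ _ F) =
      PE G ((insert j S).image σ) (fun _ => A) (fun _ => B) := fun A B => by
    rw [PE, permU_pureT, PE]
    congr 1
    funext r
    have e : σ.symm r ∈ insert j S ↔ r ∈ (insert j S).image σ := by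
      rw [Finset.mem_image]
      exact ⟨fun h => ⟨_, h, σ.apply_symm_apply r⟩, by rintro ⟨s, hs, rfl⟩; rwa [σ.symm_apply_apply]⟩
    by_cases hr : r ∈ (insert j S).image σ
    · rw [if_pos hr, if_pos (e.2 hr)]
    · rw [if_neg hr, if_neg (mt e.1 hr)]
  have hM' := hM.conjU (H.perm σ hσ)
  rw [mul_add, add_mul, hP, hP] at hM'
  have hlm : l ∈ (insert j S).image σ := Finset.mem_image.2 ⟨j, Finset.mem_insert_self j S, hσj⟩
  exact ⟨Finset.notMem_erase _ _, fun A B => H.lset_pe_all hc2 hm (Finset.notMem_erase _ _) (fun _ _ => he)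
    (fun _ _ => horp.ne_right) (H.lset_of_pair hm hlm (A := fun _ => e) (B := fun _ => o) horp hc2 hM') A B⟩

theorem SBase.fullAt_top {j : Fin t} {S : Finset (Fin t)} (hS : FullAt G M j S) (hne : S.Nonempty) :
    ∃ p, FullAt G M p (Finset.univ.erase p) := by
  classical
  suffices key : ∀ n, ∀ (j : Fin t) (S : Finset (Fin t)), t - S.card ≤ n → FullAt G M j S → S.Nonempty →
      ∃ p, FullAt G M p (Finset.univ.erase p) from key _ j S le_rfl hS hne
  intro n
  induction n with
  | zero =>
    intro j S hn hS _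
    have h1 := S.card_le_univ
    rw [Fintype.card_fin] at h1
    exact absurd (Finset.mem_univ j) ((Finset.eq_univ_of_card S (by rw [Fintype.card_fin]; omega)) ▸ hS.1)
  | succ n ih =>
    intro j S hn hS hne
    by_cases htop : S = Finset.univ.erase j
    · exact ⟨j, htop ▸ hS⟩
    obtain ⟨i, hi, hij⟩ : ∃ i, i ∉ S ∧ i ≠ j := by
      by_contra! h
      refine htop (Finset.ext fun r => ?_)
      simp only [Finset.mem_erase, Finset.mem_univ, and_true]
      exact ⟨fun hr e => hS.1 (e ▸ hr), fun hr => by_contra fun h' => hr (h r h')⟩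
    obtain ⟨l, hl⟩ := hne
    have hlj : l ≠ j := fun e => hS.1 (e ▸ hl)
    have hli : l ≠ i := fun e => hi (e ▸ hl)
    obtain ⟨σ, hσ, s1, s2, -, -⟩ := exists_cycle hlj.symm hij.symm hli
    obtain ⟨h1, h2⟩ := H.fullAt_move hc2 hm hS hl hσ (by rw [← s1, Equiv.apply_symm_apply])
    have hU := H.fullAt_union hc2 hm h1 h2
    have hsub : insert i ((insert j S).erase l) ⊆ (insert j S).erase l ∪ ((insert j S).image σ).erase l := by
      refine Finset.insert_subset (Finset.mem_union_right _ ?_) Finset.subset_union_left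
      exact Finset.mem_erase.2 ⟨hli.symm, Finset.mem_image.2
        ⟨l, Finset.mem_insert_of_mem hl, by rw [← s2, Equiv.apply_symm_apply]⟩⟩
    have hc := Finset.card_le_card hsub
    rw [Finset.card_insert_of_notMem (by simp [hi, hij]), Finset.card_erase_of_mem (Finset.mem_insert_of_mem hl),
      Finset.card_insert_of_notMem hS.1] at hc
    exact ih l _ (by omega) hU (Finset.card_pos.1 (by omega))

omit hc2 in
theorem SBase.exists_ct_ne {i : Fin t} {C : Matrix (TI t m) (TI t m) F} (hC : ¬ Comm i C) :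
    ∃ u v, Orp G u v ∧ ct G i u v C ≠ 0 := by
  classical
  by_contra! h0
  have hperp : ∀ u v, fG G u v = 0 → ct G i u v C = 0 := fun u v huv => by
    by_cases hu : u = 0
    · subst hu
      have := ct_smul_left (G := G) i 0 0 v C
      simpa using this
    by_cases hind : ∀ s : F, v ≠ s • u
    · exact h0 u v ⟨hu, huv, hind⟩
    push Not at hind
    obtain ⟨s, rfl⟩ := hind
    obtain ⟨o, ho, hoi⟩ := SG.exists_perp_indep (G := G) (by omega : 3 ≤ m) u
    have h1 := h0 u (s • u + o) ⟨hu, by rw [fG_add_right, huv, ho, add_zero],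
      fun r e => hoi (r - s) (by rw [sub_smul, ← e, add_sub_cancel_left])⟩
    rwa [ct_add_right, h0 u o ⟨hu, ho, hoi⟩, add_zero] at h1
  have hA : ∀ a z b, fG G z a ≠ 0 → ct G i a b C = fG G b a • ((fG G z a)⁻¹ • ct G i a z C) := fun a z b hz => by
    have h1 := hperp a (b + -(fG G b a / fG G z a) • z) (H.hG.swap_zero (by
      rw [fG_add_left, fG_smul_left, neg_mul, div_mul_cancel₀ _ hz, add_neg_cancel]))
    rw [ct_add_right, ct_smul_right, neg_smul, ← sub_eq_add_neg, sub_eq_zero] at h1
    rw [h1, smul_smul, div_eq_mul_inv]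
  have hB : ∀ a b z, fG G z b ≠ 0 → ct G i a b C = fG G b a • ((fG G b z)⁻¹ • ct G i z b C) := fun a b z hz => by
    have hz' : fG G b z ≠ 0 := fun e => hz (H.hG.swap_zero e)
    have h1 := hperp (a + -(fG G b a / fG G b z) • z) b (H.hG.swap_zero (by
      rw [fG_add_right, fG_smul_right, neg_mul, div_mul_cancel₀ _ hz', add_neg_cancel]))
    rw [ct_add_left, ct_smul_left, neg_smul, ← sub_eq_add_neg, sub_eq_zero] at h1
    rw [h1, smul_smul, div_eq_mul_inv]
  let e : Fin m → F := Pi.single 0 1
  have he : e ≠ 0 := fun e0 => one_ne_zero (α := F) (by simpa [e] using congrFun e0 0)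
  obtain ⟨e', he'⟩ := H.hG.exists_left he
  have hone : fG G e' e ≠ 0 := by rw [he']; exact one_ne_zero
  set C₀ := (fG G e' e)⁻¹ • ct G i e e' C with hC₀
  refine hC ?_
  have hC₀c : Comm i C₀ := (comm_cn i _ _ _).smul _
  suffices C = C₀ by rw [this]; exact hC₀c
  refine sub_eq_zero.1 (H.hG.eq_zero_of_ct i fun a b => ?_)
  have hsub : ct G i a b (C - C₀) = ct G i a b C - ct G i a b C₀ := cn_sub i _ _ _ _
  rw [hsub, show ct G i a b C₀ = fG G b a • C₀ by
    conv_lhs => rw [← one_mul C₀, ← lift_one i]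
    rw [ct_lift_mul hC₀c, Matrix.one_mulVec], sub_eq_zero]
  by_cases ha : a = 0
  · subst ha
    rw [hperp 0 b (by rw [fG, zero_dotProduct]), show fG G b 0 = 0 by rw [fG, Matrix.mulVec_zero, dotProduct_zero],
      zero_smul]
  obtain ⟨z, hza, hze⟩ := TransvectionMax.exists_common H.hG.isSymplecticForm ha he
  have hz : z ≠ 0 := by rintro rfl; exact hza (by rw [fG, zero_dotProduct])
  obtain ⟨w, hw⟩ := H.hG.exists_left hz
  have hw' : fG G w z ≠ 0 := by rw [hw]; exact one_ne_zero
  rw [hA a z b hza]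
  congr 1
  have h1 := hA e e' z hone
  rw [← hC₀, hB e z w hw'] at h1
  have h2 : (fG G z w)⁻¹ • ct G i w z C = C₀ := smul_right_injective _ hze h1
  rw [hB a z w hw', h2, smul_smul, inv_mul_cancel₀ hza, one_smul]

/-- The sandwich by a product of isometries of the free positions can be made non-zero. -/
theorem SBase.exists_sandwich (j : Fin t) : ∀ (R : Finset (Fin t)), j ∉ R →
    ∀ W W' : Matrix (TI t m) (TI t m) F, W ≠ 0 → W' ≠ 0 → (∀ p, p ∉ R → Comm p W ∧ Comm p W') →
      ∃ g g' : Matrix (TI t m) (TI t m) F, g' * g = 1 ∧ (∀ p, p ∉ R → Comm p g ∧ Comm p g') ∧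
        (∀ Y, Lset G M j Y → Lset G M j (g * Y * g')) ∧ W * g * W' ≠ 0 := by
  classical
  intro R
  induction R using Finset.induction with
  | empty =>
    intro _ W W' hW hW' hc
    refine ⟨1, 1, mul_one 1, fun p _ => ⟨comm_one p, comm_one p⟩, fun Y hY => by rwa [one_mul, mul_one], ?_⟩
    obtain ⟨c, rfl⟩ := scalar_of_comm_all fun p => (hc p (Finset.notMem_empty p)).1
    obtain ⟨c', rfl⟩ := scalar_of_comm_all fun p => (hc p (Finset.notMem_empty p)).2
    rw [mul_one, Matrix.smul_mul, one_mul, smul_smul]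
    intro h0
    rcases mul_eq_zero.1 ((smul_eq_zero.1 h0).resolve_right one_ne_zero) with h | h
    · exact hW (by rw [h, zero_smul])
    · exact hW' (by rw [h, zero_smul])
  | insert r R hr ih =>
    intro hj W W' hW hW' hc
    rw [Finset.mem_insert, not_or] at hj
    have hex : ∀ {Z : Matrix (TI t m) (TI t m) F}, Z ≠ 0 → ∃ a b, ct G r a b Z ≠ 0 := fun {Z} hZ => by
      by_contra! h
      exact hZ (H.hG.eq_zero_of_ct r h)
    obtain ⟨a, b, hab⟩ := hex hW
    obtain ⟨c, d, hcd⟩ := hex hW'
    have hcc : ∀ (Z : Matrix (TI t m) (TI t m) F) (x y : Fin m → F), (∀ p, p ∉ insert r R → Comm p Z) →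
        ∀ p, p ∉ R → Comm p (ct G r x y Z) := fun Z x y hZ p hp => by
      by_cases hpr : p = r
      · subst hpr; exact comm_cn _ _ _ _
      · exact comm_cn_of_comm (Ne.symm hpr) _ _ (hZ p (by simp [hpr, hp]))
    obtain ⟨g, g', hgg, hgc, hgL, hne⟩ := ih hj.2 _ _ hab hcd fun p hp =>
      ⟨hcc W a b (fun q hq => (hc q hq).1) p hp, hcc W' c d (fun q hq => (hc q hq).2) p hp⟩
    by_contra! hno
    have hgr := (hgc r hr).1
    have hiso : ∀ h : Matrix (Fin m) (Fin m) F, adjG G h * h = 1 → W * lift r h * g * W' = 0 := fun h hh => by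
      have := hno (lift r h * g) (g' * lift r (adjG G h))
        (by rw [mul_assoc, ← mul_assoc (lift r (adjG G h)), ← lift_mul, hh, lift_one, one_mul, hgg])
        (fun p hp => by
          rw [Finset.mem_insert, not_or] at hp
          exact ⟨(comm_lift (Ne.symm hp.1) h).mul (hgc p hp.2).1, (hgc p hp.2).2.mul (comm_lift (Ne.symm hp.1) _)⟩)
        (fun Y hY => by
          have h1 := H.lset_conj (i := r) (fun e => hj.1 e.symm) (hgL Y hY) hh
          simpa only [mul_assoc] using h1)
      rwa [← mul_assoc] at this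
    have hone : W * g * W' = 0 := by
      have := hiso 1 (by rw [H.hG.adjG_one, one_mul])
      rwa [lift_one, mul_one] at this
    have hEE : ∀ w, W * lift r (Eop G w w) * g * W' = 0 := fun w => by
      have := hiso _ (transvection_iso H.hG w)
      rwa [lift_add, lift_one, mul_add, mul_one, add_mul, add_mul, hone, zero_add] at this
    have hE2 : ∀ p q, W * lift r (Eop G p p * Eop G q q) * g * W' = 0 := fun p q => by
      have := hiso ((1 + Eop G p p) * (1 + Eop G q q)) (by
        rw [H.hG.adjG_mul, mul_assoc, ← mul_assoc (adjG G (1 + Eop G p p)), transvection_iso H.hG, one_mul,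
          transvection_iso H.hG])
      simp only [lift_mul, lift_add, lift_one, add_mul, mul_add, one_mul, mul_one, hone, hEE, zero_add] at this
      rwa [lift_mul]
    have hE : ∀ p q, fG G q p ≠ 0 → W * lift r (Eop G p q) * g * W' = 0 := fun p q hpq => by
      have := hE2 p q
      rw [Eop_mul, lift_smul, Matrix.mul_smul, Matrix.smul_mul, Matrix.smul_mul, smul_eq_zero] at this
      exact this.resolve_left hpq
    have hEall : ∀ p q, W * lift r (Eop G p q) * g * W' = 0 := fun p q => by
      by_cases hp : p = 0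
      · rw [hp, show Eop G (0 : Fin m → F) q = 0 from Matrix.zero_vecMulVec _, lift_zero, mul_zero, zero_mul, zero_mul]
      by_cases hpq : fG G q p = 0
      swap
      · exact hE p q hpq
      obtain ⟨x, hx⟩ := H.hG.exists_left hp
      have h1 := hE p (q + x) (by rw [fG_add_left, hpq, zero_add, hx]; exact one_ne_zero)
      have h2 := hE p x (by rw [hx]; exact one_ne_zero)
      rw [Eop_add_right, lift_add, mul_add, add_mul, add_mul, h2, add_zero] at h1
      exact h1
    refine hne (eq_zero_of_lift_mul (η := Eop G a a) (Eop_ne_zero H.hG ?_)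
      (((comm_cn r _ _ _).mul hgr).mul (comm_cn r _ _ _)) ?_)
    · intro e0
      exact hab (by rw [e0]; simpa using ct_smul_left (G := G) r 0 0 b W)
    obtain ⟨x, hx⟩ : ∃ x, fG G x a = 1 := H.hG.exists_left fun e0 =>
      hab (by rw [e0]; simpa using ct_smul_left (G := G) r 0 0 b W)
    calc lift r (Eop G a a) * (ct G r a b W * g * ct G r c d W')
        = lift r (Eop G a a) * lift r (Eop G x a) * ct G r a b W * g * ct G r c d W' := by
          rw [← lift_mul, Eop_mul, hx, one_smul]; simp only [mul_assoc]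
      _ = lift r (Eop G a a) * (lift r (Eop G x a) * W * lift r (Eop G b a) * g) * ct G r c d W' := by
          rw [mul_assoc (lift r (Eop G a a)), lift_Eop_mul_ct]
          simp only [mul_assoc]
      _ = lift r (Eop G a a) * (lift r (Eop G x a) * (W * lift r (Eop G b c) * g * W') * lift r (Eop G d a)) := by
          have e1 : lift r (Eop G b a) * g * ct G r c d W' = lift r (Eop G b c) * g * W' * lift r (Eop G d a) := by
            rw [hgr, mul_assoc, lift_Eop_mul_ct, ← mul_assoc, ← mul_assoc, ← hgr]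
          simp only [mul_assoc] at e1 ⊢
          rw [e1]
      _ = 0 := by rw [hEall, mul_zero, zero_mul, mul_zero]

/-- A non-scalar cofactor gives a larger set of rank one positions. -/
theorem SBase.grow_step {j : Fin t} {S : Finset (Fin t)} (hj : j ∉ S) {a b : Fin t → Fin m → F}
    (ha : ∀ r ∈ S, a r ≠ 0) (hb : ∀ r ∈ S, b r ≠ 0) {C : Matrix (TI t m) (TI t m) F} (hCj : Comm j C)
    (hCS : ∀ r ∈ S, Comm r C) (hL : Lset G M j (PE G S a b * C)) {i : Fin t} (hi : ¬ Comm i C) :
    ∃ (a' b' : Fin t → Fin m → F) (C' : Matrix (TI t m) (TI t m) F),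
      (∀ r ∈ insert i S, a' r ≠ 0) ∧ (∀ r ∈ insert i S, b' r ≠ 0) ∧ C' ≠ 0 ∧ Comm j C' ∧
        (∀ r ∈ insert i S, Comm r C') ∧ Lset G M j (PE G (insert i S) a' b' * C') := by
  classical
  have hm5 : 5 ≤ m := by omega
  have hij : i ≠ j := fun e => hi (e ▸ hCj)
  have hiS : i ∉ S := fun h => hi (hCS i h)
  obtain ⟨u, v, huv, hB⟩ := H.exists_ct_ne hm hi
  have hvu := H.hG.swap_zero huv.2.1
  -- the second difference
  set P := PE G S a b with hP
  set A₁ := lift i (Eop G u u) with hA₁
  set A₂ := lift i (Eop G v v) with hA₂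
  have hconj : ∀ w Y, Lset G M j Y → Lset G M j ((1 + lift i (Eop G w w)) * Y * (1 + lift i (Eop G w w))) :=
    fun w Y hY => by
      have := H.lset_conj hij hY (transvection_iso H.hG w)
      rwa [adjG_add, H.hG.adjG_one, H.hG.adjG_Eop, neg_eq_of_two hc2, lift_add, lift_one] at this
  set Y := P * C with hY
  have hD1 := H.lset_add (hconj u Y hL) hL
  rw [← hA₁] at hD1
  have hD2 := H.lset_add (hconj v _ hD1) hD1
  rw [← hA₂] at hD2
  have h12 : A₁ * A₂ = 0 := by rw [hA₁, hA₂, ← lift_mul, Eop_mul, hvu, zero_smul, lift_zero]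
  have h21 : A₂ * A₁ = 0 := by rw [hA₁, hA₂, ← lift_mul, Eop_mul, huv.2.1, zero_smul, lift_zero]
  have hPc : Comm i P := PE_comm hiS _ _
  have eX : (1 + A₂) * ((1 + A₁) * Y * (1 + A₁) + Y) * (1 + A₂) + ((1 + A₁) * Y * (1 + A₁) + Y) =
      P * (A₁ * C * A₂ + A₂ * C * A₁) := by
    have e1 : A₁ * Y * A₂ = P * (A₁ * C * A₂) := by rw [hY, hA₁, ← mul_assoc, hPc]; simp only [mul_assoc]
    have e2 : A₂ * Y * A₁ = P * (A₂ * C * A₁) := by rw [hY, hA₂, ← mul_assoc, hPc]; simp only [mul_assoc]
    rw [mul_add P, ← e1, ← e2]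
    have s2 := fun X : Matrix (TI t m) (TI t m) F => add_self_of_two hc2 X
    have e3 : (1 + A₂) * ((1 + A₁) * Y * (1 + A₁) + Y) * (1 + A₂) + ((1 + A₁) * Y * (1 + A₁) + Y) =
        (Y + Y) + (Y + Y) + (A₁ * Y + A₁ * Y) + (Y * A₁ + Y * A₁) + (A₁ * Y * A₁ + A₁ * Y * A₁) +
          (A₂ * Y + A₂ * Y) + (Y * A₂ + Y * A₂) + (A₂ * Y * A₂ + A₂ * Y * A₂) +
          (A₂ * A₁) * (Y + Y * A₁ + Y * A₂ + Y * (A₁ * A₂)) + (Y + A₁ * Y + A₂ * Y) * (A₁ * A₂) +
          (A₁ * Y * A₂ + A₂ * Y * A₁) := by noncomm_ring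
    rw [e3, h12, h21]
    simp only [s2, mul_zero, zero_mul, add_zero, zero_add]
  rw [eX, hA₁, hA₂, ← lift_Eop_mul_ct, ← lift_Eop_mul_ct] at hD2
  set B := ct G i u v C with hBdef
  set B' := ct G i v u C with hB'def
  have hcomm : ∀ x y r, r ∈ insert i S ∨ r = j → Comm r (ct G i x y C) := fun x y r hr => by
    by_cases hri : r = i
    · subst hri; exact comm_cn _ _ _ _
    refine comm_cn_of_comm (Ne.symm hri) _ _ ?_
    rcases hr with hr | rfl
    · exact hCS r ((Finset.mem_insert.1 hr).resolve_left hri)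
    · exact hCj
  set T := insert i S with hT
  set au := Function.update a i u
  set av := Function.update a i v
  set bu := Function.update b i u
  set bv := Function.update b i v
  have hX : Lset G M j (PE G T au bv * B + PE G T av bu * B') := by
    rw [PE_insert hiS, PE_insert hiS, ← hP, hPc, hPc, mul_assoc, mul_assoc, ← mul_add]
    exact hD2
  -- the twist
  obtain ⟨w, hvw, huw⟩ := exists_dual_one H.hG (x := v) (a := u) huv.2.2
  have : ∀ r, ∃ z, r ∈ S → fG G (b r) z = 1 := fun r => by
    by_cases hr : r ∈ S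
    · obtain ⟨z, hz⟩ := H.hG.exists_left (hb r hr)
      exact ⟨(-1 : F) • z, fun _ => by rw [fG_smul_right, H.hG.swap, hz]; ring⟩
    · exact ⟨0, fun h => absurd h hr⟩
  choose z hz using this
  set zz := Function.update z i w
  let h : Fin t → Matrix (Fin m) (Fin m) F := fun r => if r ∈ T then 1 + Eop G (zz r) (zz r) else 1
  have hh : ∀ r, adjG G (h r) * h r = 1 := fun r => by
    simp only [h]; split_ifs
    · exact transvection_iso H.hG _
    · rw [H.hG.adjG_one, one_mul]
  have hjT : j ∉ T := by simp [hT, hij.symm, hj]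
  have hBS : ∀ x y r, r ∈ T → Comm r (adjT G (ct G i x y C)) := fun x y r hr =>
    H.hG.adjT_comm (hcomm x y r (Or.inl hr))
  have hh' : ∀ r, h r = 1 ∨ r ∈ T := fun r => by
    by_cases hr : r ∈ T
    · exact Or.inr hr
    · exact Or.inl (if_neg hr)
  have hadj : ∀ r, adjG G (h r) = 1 ∨ r ∈ T := fun r => (hh' r).imp_left fun e => by rw [e, H.hG.adjG_one]
  have hZ := H.lset_conj_tuple (H.lset_adj hc2 hX) hh (if_neg hjT)
  have hcjt : ∀ (A' B₀ : Fin t → Fin m → F) (D : Matrix (TI t m) (TI t m) F), (∀ r ∈ T, Comm r D) →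
      pureT h * adjT G (PE G T A' B₀ * adjT G D) * pureT (fun r => adjG G (h r)) =
        PE G T (fun r => h r *ᵥ B₀ r) (fun r => h r *ᵥ A' r) * D := fun A' B₀ D hD => by
    rw [H.hG.adjT_mul, H.hG.adjT_adjT, PE_adj H.hG hc2, ← PE_comm_mul hD, ← mul_assoc, mul_assoc,
      ← comm_pureT_mul (fun r => (hadj r).imp_right (hD r)), ← mul_assoc, PE_conj H.hG _ _ _ hh]
  have eB : ∀ Z : Matrix (TI t m) (TI t m) F, Z = adjT G (adjT G Z) := fun Z => (H.hG.adjT_adjT Z).symm
  rw [eB B, eB B', adjT_add, mul_add, add_mul, hcjt _ _ _ (hBS u v), hcjt _ _ _ (hBS v u)] at hZ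
  -- the free positions
  obtain ⟨g, g', hgg, hgc, hgL, hgne⟩ := H.exists_sandwich hc2 hm j (Finset.univ \ insert j T)
    (by simp) B (adjT G B) hB (fun e => hB (by rw [← H.hG.adjT_adjT B, e]; simp [adjT])) fun p hp => by
      simp only [Finset.mem_sdiff, Finset.mem_univ, true_and, not_not, Finset.mem_insert] at hp
      have := hcomm u v p (hp.symm.imp_left (fun h => h))
      exact ⟨this, H.hG.adjT_comm this⟩
  have hgT : ∀ r ∈ T, Comm r g ∧ Comm r g' := fun r hr => hgc r (by simp [hr])
  have hgj := hgc j (by simp)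
  have hZg := hgL _ hZ
  have hsh : ∀ (A' B₀ : Fin t → Fin m → F) (D : Matrix (TI t m) (TI t m) F),
      g * (PE G T A' B₀ * D) * g' = PE G T A' B₀ * (g * D * g') := fun A' B₀ D => by
    rw [← mul_assoc g, ← PE_comm_mul fun r hr => (hgT r hr).1]
    simp only [mul_assoc]
  rw [mul_add g, add_mul, hsh, hsh] at hZg
  have hprod := H.lset_mul hc2 hm5 hX hZg
  set bw := fun r => h r *ᵥ bv r with hbw
  have cB : ∀ r ∈ T, Comm r B := fun r hr => hcomm u v r (Or.inl hr)
  have cB' : ∀ r ∈ T, Comm r B' := fun r hr => hcomm v u r (Or.inl hr)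
  have hmulPE : ∀ (A' B₀ A'' B'' : Fin t → Fin m → F) (D D' : Matrix (TI t m) (TI t m) F),
      (∀ r ∈ T, Comm r D) → PE G T A' B₀ * D * (PE G T A'' B'' * D') =
        (∏ r ∈ T, fG G (A'' r) (B₀ r)) • (PE G T A' B'' * (D * D')) := fun A' B₀ A'' B'' D D' hD => by
    rw [mul_assoc, ← mul_assoc D, ← PE_comm_mul hD, mul_assoc, ← mul_assoc, PE_mul_same, Matrix.smul_mul]
  have hiT : i ∈ T := Finset.mem_insert_self i S
  have hhi : ∀ x, h i *ᵥ x = x + fG G x w • w := fun x => by
    simp only [h, hiT, if_true, zz, Function.update_self, transvection_mulVec]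
  have hhu : h i *ᵥ u = u := by rw [hhi, huw, zero_smul, add_zero]
  have hhv : h i *ᵥ v = v + w := by rw [hhi, hvw, one_smul]
  have hzero : ∀ (f : Fin t → F), f i = 0 → ∏ r ∈ T, f r = 0 := fun f hf => Finset.prod_eq_zero hiT hf
  have hcS : ∀ r ∈ S, fG G (h r *ᵥ b r) (b r) = 1 := fun r hr => by
    have hri : r ≠ i := fun e => hiS (e ▸ hr)
    simp only [h, hT, Finset.mem_insert, hr, or_true, if_true, zz, Function.update_of_ne hri, transvection_mulVec,
      fG_add_left, fG_smul_left, H.hG.self, hz r hr, zero_add, one_mul]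
    rw [H.hG.swap, hz r hr, neg_eq_of_two hc2]
  have hone : ∏ r ∈ T, fG G (bw r) (bv r) = 1 := Finset.prod_eq_one fun r hr => by
    by_cases hri : r = i
    · subst hri
      simp only [hbw, bv, Function.update_self, hhv, fG_add_left, H.hG.self, zero_add]
      rw [H.hG.swap, hvw, neg_eq_of_two hc2]
    · simp only [hbw, bv, Function.update_of_ne hri]
      exact hcS r ((Finset.mem_insert.1 hr).resolve_left hri)
  rw [add_mul, mul_add, mul_add, hmulPE _ _ _ _ _ _ cB, hmulPE _ _ _ _ _ _ cB, hmulPE _ _ _ _ _ _ cB',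
    hmulPE _ _ _ _ _ _ cB', hone, hzero _ (by simp [bv, bu, hhu, huv.2.1]),
    hzero _ (by simp [hbw, bu, bv, hhv, fG_add_left, hvu, H.hG.swap_zero huw]),
    hzero _ (by simp [bu, hhu, H.hG.self]), one_smul, zero_smul, zero_smul, zero_smul, add_zero, add_zero,
    add_zero] at hprod
  refine ⟨au, fun r => h r *ᵥ au r, B * (g * adjT G B * g'), fun r hr => ?_, fun r hr => iso_ne_zero (hh r) ?_, ?_,
    ((hcomm u v j (Or.inr rfl))).mul ((hgj.1.mul (H.hG.adjT_comm (hcomm u v j (Or.inr rfl)))).mul hgj.2),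
    fun r hr => (cB r hr).mul (((hgT r hr).1.mul (hBS u v r hr)).mul (hgT r hr).2), hprod⟩
  · by_cases hri : r = i
    · subst hri; simp [au, huv.1]
    · simp only [au, Function.update_of_ne hri]
      exact ha r ((Finset.mem_insert.1 hr).resolve_left hri)
  · by_cases hri : r = i
    · subst hri; simp [au, huv.1]
    · simp only [au, Function.update_of_ne hri]
      exact ha r ((Finset.mem_insert.1 hr).resolve_left hri)
  · intro h0
    refine hgne ?_
    have := congrArg (· * g) h0
    simpa only [zero_mul, mul_assoc, hgg, mul_one] using this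

/-- A non-scalar coefficient gives all rank one products. -/
theorem SBase.fullAt_of_nonscalar {j : Fin t} {Y : Matrix (TI t m) (TI t m) F} (hY : Lset G M j Y)
    (hns : ¬ ∃ c : F, Y = c • (1 : Matrix (TI t m) (TI t m) F)) : ∃ p, FullAt G M p (Finset.univ.erase p) := by
  classical
  suffices key : ∀ n, ∀ (S : Finset (Fin t)) (a b : Fin t → Fin m → F) (C : Matrix (TI t m) (TI t m) F),
      t - S.card ≤ n → j ∉ S → (∀ r ∈ S, a r ≠ 0) → (∀ r ∈ S, b r ≠ 0) → C ≠ 0 → Comm j C →
      (∀ r ∈ S, Comm r C) → Lset G M j (PE G S a b * C) → (S = ∅ → ¬ ∃ c : F, C = c • 1) →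
      ∃ S', S'.Nonempty ∧ FullAt G M j S' by
    obtain ⟨S, hne, hS⟩ := key t ∅ 0 0 Y (by simp) (by simp) (by simp) (by simp)
      (fun e => hns ⟨0, by rw [e, zero_smul]⟩) hY.1 (by simp) (by rwa [PE_empty, one_mul]) fun _ => hns
    exact H.fullAt_top hc2 hm hS hne
  intro n
  induction n with
  | zero =>
    intro S a b C hn hj
    have h1 := S.card_le_univ
    rw [Fintype.card_fin] at h1
    exact absurd (Finset.mem_univ j) ((Finset.eq_univ_of_card S (by rw [Fintype.card_fin]; omega)) ▸ hj)
  | succ n ih =>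
    intro S a b C hn hj ha hb hC hCj hCS hL hns'
    by_cases hall : ∀ i, Comm i C
    · obtain ⟨c, rfl⟩ := scalar_of_comm_all hall
      have hc : c ≠ 0 := by rintro rfl; exact hC (by rw [zero_smul])
      rw [Matrix.mul_smul, mul_one] at hL
      have h1 := H.lset_smul hL c⁻¹
      rw [smul_smul, inv_mul_cancel₀ hc, one_smul] at h1
      exact ⟨S, Finset.nonempty_iff_ne_empty.2 fun e => hns' e ⟨c, rfl⟩, hj,
        fun A B => H.lset_pe_all hc2 hm hj ha hb h1 A B⟩
    push Not at hall
    obtain ⟨i, hi⟩ := hall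
    obtain ⟨a', b', C', ha', hb', hC', hC'j, hC'S, hL'⟩ := H.grow_step hc2 hm hj ha hb hCj hCS hL hi
    have hiS : i ∉ S := fun h => hi (hCS i h)
    refine ih (insert i S) a' b' C' (by rw [Finset.card_insert_of_notMem hiS]; omega)
      (by simp [hj]; exact fun e => hi (e ▸ hCj)) ha' hb' hC' hC'j hC'S hL' fun e => absurd e (Finset.insert_ne_empty i S)

/-- A non-scalar coefficient gives the commutator group. -/
theorem SBase.omega_le_two {q : QuadraticForm F (TI t m → F)} (hpol : ∀ x y, polar q x y = fT G x y)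
    (hpure : ∀ u : Fin t → Fin m → F, q (pureV u) = 0) (hnd : (polarBilin q).Nondegenerate)
    (h5 : 5 ≤ Fintype.card (TI t m)) (ht : 2 ≤ t) {j₀ : Fin t} {Y : Matrix (TI t m) (TI t m) F}
    (hY : Lset G M j₀ Y) (hns : ¬ ∃ c : F, Y = c • (1 : Matrix (TI t m) (TI t m) F)) :
    Cfsg.Geo.omegaGL ⇑q ≤ M := by
  classical
  obtain ⟨j, hfull⟩ := H.fullAt_of_nonscalar hc2 hm hY hns
  have hsie : ∀ A B : Fin t → Fin m → F, Orp G (A j) (B j) → pureV B ∈ WSub hpure M A := by
    intro A B hAB s
    have hX : polar q (pureV A) (s • pureV B) = 0 := by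
      rw [polar_smul_right, hpol, fT_pureV, Finset.prod_eq_zero (Finset.mem_univ j) hAB.2.1, smul_zero]
    refine ⟨hpure A, hX, ?_⟩
    have hL := (H.lset_smul (hfull.2 A B) s).2 _ _ hAB
    rw [Tau2, adjT_smul, PE_adj H.hG hc2, Matrix.mul_smul, Matrix.mul_smul, ← PE_split (Finset.mem_univ j),
      ← PE_split (Finset.mem_univ j), ← smul_add] at hL
    obtain ⟨g, hg, hgX⟩ := hL
    suffices toGL q (OrthUnitaryQuad.siegel q (pureV A) (s • pureV B) (hpure A) hX) = g from this ▸ hg
    refine TransvectionMax.gl_ext fun y => ?_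
    have ePE : ∀ A B : Fin t → Fin m → F, PE G Finset.univ A B *ᵥ y = fT G y (pureV B) • pureV A := fun A B => by
      rw [PE, show (fun r => if r ∈ (Finset.univ : Finset (Fin t)) then Eop G (A r) (B r) else 1) =
        fun r => Eop G (A r) (B r) from funext fun r => by simp]
      exact pureT_Eop_mulVec A B y
    rw [toGL_mulVec, siegel_apply, hgX, Matrix.add_mulVec, Matrix.one_mulVec, Matrix.smul_mulVec,
      Matrix.add_mulVec, ePE, ePE, QuadraticMap.map_smul, hpure, smul_zero, zero_mul, add_zero, polar_smul_left,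
      hpol _ y, polar_comm _ _ y, hpol y]
    have e : fT G (pureV A) y = fT G y (pureV A) := by rw [← hpol, ← hpol, polar_comm]
    rw [e, sub_eq_add_neg, neg_eq_of_two hc2]
    simp only [smul_eq_mul]
    module
  -- vectors orthogonal at `j`
  have hperp : ∀ A B : Fin t → Fin m → F, A j ≠ 0 → fG G (A j) (B j) = 0 → pureV B ∈ WSub hpure M A := by
    intro A B hA hAB
    by_cases hind : ∀ s : F, B j ≠ s • A j
    · exact hsie A B ⟨hA, hAB, hind⟩
    push Not at hind
    obtain ⟨s, hs⟩ := hind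
    obtain ⟨o, ho, hoi⟩ := SG.exists_perp_indep (G := G) (by omega : 3 ≤ m) (A j)
    have h1 := hsie A (Function.update B j (B j + o)) ⟨hA, by rw [Function.update_self, fG_add_right, hAB, ho, add_zero],
      fun r e => hoi (r - s) (by
        rw [Function.update_self] at e
        rw [sub_smul, ← e, hs, add_sub_cancel_left])⟩
    have h2 := hsie A (Function.update B j o) ⟨hA, by rw [Function.update_self, ho],
      fun r e => hoi r (by rwa [Function.update_self] at e)⟩
    have h3 := (WSub hpure M A).sub_mem h1 h2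
    rwa [pureV_update_add, Function.update_eq_self, add_sub_cancel_right] at h3
  refine omega_le_of_lines H.hG hpol hpure ht (fun u i x => ?_) (Or.inl (by omega)) hnd h5
  by_cases hz : ∃ l, u l = 0
  · obtain ⟨l, hl⟩ := hz
    intro s
    refine ⟨hpure u, by rw [pureV_eq_zero hl, polar_zero_left], ?_⟩
    have : ∀ (U X : TI t m → F) (hU : q U = 0) (hX : polar q U X = 0), U = 0 →
        toGL q (OrthUnitaryQuad.siegel q U X hU hX) ∈ M := by
      intro U X hU hX h
      subst h
      rw [siegel_zero_left, ← OmegaMaxGlue.glHom_apply, map_one]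
      exact M.one_mem
    exact this _ _ _ _ (pureV_eq_zero hl)
  push Not at hz
  by_cases hij : i = j
  swap
  · exact hperp u _ (hz j) (by rw [Function.update_of_ne (Ne.symm hij)]; exact H.hG.self _)
  subst hij
  obtain ⟨d, hd, hdW⟩ := TensorMax.exists_perp_notMem H.hG.isSymplecticForm ![u i, x]
    (Submodule.span F ({u i, u i} : Set (Fin m → F)))
    (by have := TensorMax.finrank_pair H.hG.isSymplecticForm (u i) (u i); omega)
  have hd1 : fG G d (u i) = 0 := hd 0
  have hd2 : fG G d x = 0 := hd 1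
  obtain ⟨e, he, he'⟩ := exists_dual_one H.hG (x := d) (a := u i) fun s e => hdW (by
    rw [e]; exact Submodule.smul_mem _ _ (Submodule.subset_span (by simp)))
  obtain ⟨l, hl⟩ : ∃ l : Fin t, l ≠ i := Fintype.exists_ne_of_one_lt_card (by simp; omega) i
  choose y hy using fun r => H.hG.exists_left (hz r)
  refine wsub_comm H.hG hpol hpure (B := Function.update u i e) (D := Function.update y i d) (i := i) (l := l)
    (o := l) (hperp _ _ (hz i) (by rw [Function.update_self]; exact he'))
    (hperp _ _ (by rw [Function.update_self]; exact fun e0 => hdW (e0 ▸ Submodule.zero_mem _))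
      (by rw [Function.update_self, Function.update_self]; exact hd2))
    (by rw [Function.update_self]; exact hd1)
    (by rw [Function.update_of_ne hl, Function.update_of_ne hl]; exact H.hG.self _)
    (by rw [Function.update_of_ne hl]; exact H.hG.self _) fun r => ?_
  by_cases hr : r = i
  · subst hr; rw [Function.update_self, Function.update_self, he]; exact one_ne_zero
  · rw [Function.update_of_ne hr, Function.update_of_ne hr, hy]; exact one_ne_zero

end Over

end Cfsg.Agent.TensorWreath43
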