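import Cfsg.Agent.Lib.TensorWreath43TwoKills
import Cfsg.Agent.Lib.TensorWreath43TwoGrow
import Cfsg.Agent.Lib.TensorWreath43OrthGlue

/-!
Overgroups of an orthogonal tensor wreath stabiliser in characteristic two.
-/

set_option autoImplicit false
set_option linter.unusedSectionVars false

namespace Cfsg.Agent.TensorWreath43

open scoped Matrix
open QuadraticMap
open Cfsg.Agent.OrthUnitaryQuad Cfsg.Agent.OrthUnitarySimple Cfsg.Agent.OmegaGeo

variable {F : Type*} [Field F] {t m : ℕ}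

/-- The Gram matrix of a symplectic form, in every characteristic. -/
theorem sG_gram_alt {f₁ : (Fin m → F) → (Fin m → F) → F}
    (hf : Cfsg.Geo.IsSymplecticForm f₁) : SG (Cfsg.Geo.gramMatrix f₁) := by
  classical
  have hskew : (Cfsg.Geo.gramMatrix f₁)ᵀ = -Cfsg.Geo.gramMatrix f₁ := by
    ext a b
    exact hf.skew _ _
  have hrow : ∀ v, TransvectionMax.row f₁ v = Cfsg.Geo.gramMatrix f₁ *ᵥ v := fun v => funext fun a => by
    show f₁ (Pi.single a 1) v = _
    rw [hf.skew, ← TransvectionMax.row_dot hf.bilinear (Pi.single a 1) v, dotProduct, ← Finset.sum_neg_distrib]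
    refine Finset.sum_congr rfl fun b _ => ?_
    show -(f₁ (Pi.single b 1) (Pi.single a 1) * v b) = f₁ (Pi.single a 1) (Pi.single b 1) * v b
    rw [hf.skew (Pi.single a 1)]
    ring
  refine ⟨hskew, fun u => ?_, isUnit_iff_ne_zero.2 fun hdet => ?_⟩
  · rw [← hrow, dotProduct_comm, TransvectionMax.row_dot hf.bilinear]
    exact hf.alternating u
  · obtain ⟨v, hv, hGv⟩ := Matrix.exists_mulVec_eq_zero_iff.2 hdet
    obtain ⟨x, hx⟩ := (hf.nondegenerate v hv).1
    refine hx ?_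
    rw [← TransvectionMax.row_dot hf.bilinear v x, hrow, hGv, zero_dotProduct]

section Quad

variable [Fintype F] [NeZero m] {G : Matrix (Fin m) (Fin m) F} {q : QuadraticForm F (TI t m → F)}
  (hpol : ∀ x y, polar q x y = fT G x y) (hpure : ∀ u : Fin t → Fin m → F, q (pureV u) = 0)
  (hG : SG G) (hnd : (polarBilin q).Nondegenerate)
include hpol hpure hG hnd

/-- Overgroups in characteristic two. -/
theorem overgroup_two (hc2 : (2 : F) = 0) (ht : 2 ≤ t) (hm : 6 ≤ m) (h5 : 5 ≤ Fintype.card (TI t m))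
    {M : Subgroup (GL (TI t m) F)}
    (h1 : Cfsg.Geo.tensorWreathStandard m t F ⊓ Cfsg.Geo.omegaGL ⇑q ≤ M) (hM : M ≤ Cfsg.Geo.omegaGL ⇑q) :
    M ≤ Cfsg.Geo.tensorWreathStandard m t F ∨ Cfsg.Geo.omegaGL ⇑q ≤ M := by
  classical
  have hpar : ((-1 : F)) ^ t = 1 := by rw [neg_eq_of_two hc2, one_pow]
  have H : SBase G M := by
    refine ⟨hG, fun j η hη => h1 ⟨?_, lift_omega hpol hpure hG hnd h5 ht hpar j η hη⟩,
      fun σ hσ => h1 ⟨permU_mem_wreath σ, perm_omega hpol hpure hG σ hσ⟩, fun g hg => ?_⟩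
    · rw [liftU_eq_pureU]; exact pureU_mem_wreath _
    · obtain ⟨o, -, rfl⟩ := exists_of_mem_omegaGL (hM hg)
      exact iso_of_fT hG fun x y => by rw [toGL_mulVec, toGL_mulVec, ← hpol, ← hpol, polar_orth]
  by_cases hS : ∀ j Y, Lset G M j Y → ∃ c : F, Y = c • (1 : Matrix (TI t m) (TI t m) F)
  · exact Or.inl (H.le_wreath_two hc2 hm (H.crit_of_scalar hc2 (by omega) hS) ht)
  · obtain ⟨j, hj⟩ := not_forall.1 hS
    obtain ⟨Y, hY⟩ := not_forall.1 hj
    obtain ⟨hL, hns⟩ := Classical.not_imp.1 hY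
    exact Or.inr (H.omega_le_two hc2 hm hpol hpure hnd h5 ht hL hns)

end Quad

end Cfsg.Agent.TensorWreath43
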