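import Cfsg.Agent.Lib.TensorWreath43TwoLocal
import Mathlib.GroupTheory.FixedPointFree

/-!
Characteristic two: every conjugate root lives in one factor or avoids it.
-/

set_option autoImplicit false
set_option linter.unusedSectionVars false

namespace Cfsg.Agent.TensorWreath43

open scoped Matrix

/-- Two involutions with small centralisers in a self-normalising elementary two-group have a central product. -/
theorem central_of_fpf {A : Type*} [Group A] [Finite A] (P : Subgroup A) (hP : ∀ x ∈ P, x * x = 1)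
    (hN : Subgroup.normalizer (P : Set A) ≤ P) {s s' : A} (hs : s ∈ P) (hs' : s' ∈ P)
    (hCs : ∀ g : A, g * s = s * g → g ∈ P) (hCs' : ∀ g : A, g * s' = s' * g → g ∈ P) (g : A) :
    g * (s * s') = s * s' * g := by
  classical
  haveI : Fact (Nat.Prime 2) := ⟨Nat.prime_two⟩
  have hinv : ∀ x ∈ P, x⁻¹ = x := fun x hx => inv_eq_of_mul_eq_one_right (hP x hx)
  have hab : ∀ a ∈ P, ∀ b ∈ P, a * b = b * a := fun a ha b hb => by
    have h1 := hinv _ (P.mul_mem ha hb)
    rw [mul_inv_rev, hinv a ha, hinv b hb] at h1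
    exact h1.symm
  have hP2 : IsPGroup 2 P := fun q => ⟨1, Subtype.ext (by simpa [sq] using hP q q.2)⟩
  obtain ⟨Q, hQ⟩ := hP2.exists_le_sylow
  have hQP : (Q : Subgroup A) = P := by
    refine le_antisymm (fun x hx => ?_) hQ
    by_contra hxP
    have hlt : P.subgroupOf Q < ⊤ := lt_top_iff_ne_top.2 fun h => hxP (Subgroup.subgroupOf_eq_top.1 h hx)
    haveI : Group.IsNilpotent (Q : Subgroup A) := Q.isPGroup'.isNilpotent
    obtain ⟨y, hy, hyP⟩ := SetLike.exists_of_lt (Group.normalizerCondition_of_isNilpotent _ hlt)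
    refine hyP (Subgroup.mem_subgroupOf.2 (hN ?_))
    rw [Subgroup.mem_normalizer_iff]
    intro z
    rw [Subgroup.mem_normalizer_iff] at hy
    constructor
    · intro hz
      have := (hy ⟨z, hQ hz⟩).1 hz
      simpa [Subgroup.mem_subgroupOf] using this
    · intro hz
      have hzQ : z ∈ (Q : Subgroup A) := by
        have := (Q : Subgroup A).mul_mem ((Q : Subgroup A).mul_mem ((Q : Subgroup A).inv_mem y.2) (hQ hz)) y.2
        simpa [mul_assoc] using this
      exact (hy ⟨z, hzQ⟩).2 (by simpa [Subgroup.mem_subgroupOf] using hz)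
  have hC : Subgroup.normalizer ((Q : Subgroup A) : Set A) ≤ Subgroup.centralizer ((Q : Subgroup A) : Set A) := by
    rw [hQP]
    intro x hx
    rw [Subgroup.mem_centralizer_iff]
    intro y hy
    exact hab y hy x (hN hx)
  set K := (MonoidHom.transferSylow Q hC).ker with hK
  have hcompl : Subgroup.IsComplement' K P := hQP ▸ MonoidHom.ker_transferSylow_isComplement' Q hC
  have invert : ∀ u ∈ P, (∀ g : A, g * u = u * g → g ∈ P) → ∀ k ∈ K, u * k * u⁻¹ = k⁻¹ := by
    intro u hu hCu k hk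
    let φ : K →* K := (MulAut.conjNormal u).toMonoidHom
    have hφ : ∀ x : K, ((φ x : K) : A) = u * x * u⁻¹ := fun x => MulAut.conjNormal_apply u x
    have hfpf : MonoidHom.FixedPointFree φ := fun x hx => by
      have h1 : u * (x : A) * u⁻¹ = x := by rw [← hφ, hx]
      rw [mul_inv_eq_iff_eq_mul] at h1
      exact Subtype.ext (Subgroup.disjoint_def.1 hcompl.disjoint x.2 (hCu x h1.symm))
    have h2 : Function.Involutive φ := fun x => Subtype.ext (by
      rw [hφ, hφ, hinv u hu, show u * (u * (x : A) * u) * u = u * u * x * (u * u) by simp only [mul_assoc], hP u hu,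
        one_mul, mul_one])
    have h3 := congrArg (fun z : K => (z : A)) (congrFun (hfpf.coe_eq_inv_of_involutive h2) ⟨k, hk⟩)
    simpa only [hφ, Subgroup.coe_inv] using h3
  obtain ⟨⟨k, p⟩, rfl⟩ := (hcompl : Function.Bijective _).2 g
  have e1 := invert s hs hCs k k.2
  have e2 := invert s' hs' hCs' k k.2
  have hk : s * s' * (k : A) = k * (s * s') := by
    have h3 : s * s' * (k : A) * (s * s')⁻¹ = k := by
      calc s * s' * (k : A) * (s * s')⁻¹ = s * (s' * k * s'⁻¹) * s⁻¹ := by group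
        _ = (s * k * s⁻¹)⁻¹ := by rw [e2]; group
        _ = k := by rw [e1, inv_inv]
    exact mul_inv_eq_iff_eq_mul.1 h3
  show (k : A) * (p : A) * (s * s') = s * s' * ((k : A) * p)
  rw [mul_assoc, hab p p.2 _ (P.mul_mem hs hs'), ← mul_assoc, ← hk, mul_assoc]

variable {F : Type*} [Field F] {t m : ℕ}

/-- The symmetric operators on a totally isotropic line pair. -/
def Qsp (G : Matrix (Fin m) (Fin m) F) (c e : Fin m → F) (z₁ z₂ z₃ : F) : Matrix (Fin m) (Fin m) F :=
  z₁ • Eop G c c + z₂ • Eop G e e + z₃ • (Eop G c e + Eop G e c)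

theorem Qsp_mul {G : Matrix (Fin m) (Fin m) F} (hG : SG G) {c e : Fin m → F} (hce : fG G c e = 0)
    (z₁ z₂ z₃ w₁ w₂ w₃ : F) : Qsp G c e z₁ z₂ z₃ * Qsp G c e w₁ w₂ w₃ = 0 := by
  simp only [Qsp, mul_add, add_mul, Matrix.smul_mul, Matrix.mul_smul, Eop_mul, hG.self, hce, hG.swap_zero hce,
    zero_smul, smul_zero, add_zero]

theorem Qsp_add (G : Matrix (Fin m) (Fin m) F) (c e : Fin m → F) (z₁ z₂ z₃ w₁ w₂ w₃ : F) :
    Qsp G c e z₁ z₂ z₃ + Qsp G c e w₁ w₂ w₃ = Qsp G c e (z₁ + w₁) (z₂ + w₂) (z₃ + w₃) := by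
  simp only [Qsp]
  module

theorem Qsp_mulVec (G : Matrix (Fin m) (Fin m) F) (c e : Fin m → F) (z₁ z₂ z₃ : F) (x : Fin m → F) :
    Qsp G c e z₁ z₂ z₃ *ᵥ x =
      (fG G x c * z₁ + fG G x e * z₃) • c + (fG G x c * z₃ + fG G x e * z₂) • e := by
  simp only [Qsp, Matrix.add_mulVec, Matrix.smul_mulVec, Eop_mulVec]
  module

section Over

variable [Fintype F] [NeZero m] {G : Matrix (Fin m) (Fin m) F} {M : Subgroup (GL (TI t m) F)} (H : SBase G M)
  (hc2 : (2 : F) = 0) (hm : 6 ≤ m) (hK : Crit G M)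
include H hc2 hm hK

theorem SBase.scalar_of_kills_two {j : Fin t} {N : Matrix (TI t m) (TI t m) F}
    (h : ConjRoot G M j N) {c : Fin m → F} (hc : c ≠ 0)
    (hX : ∀ v, fG G v c = 0 → ∃ S, Comm j S ∧
      ∀ s, N * (lift j (Eop G v s) + lift j (Eop G c s) * S) = 0) :
    ∃ k : F, ct G j c c N = k • 1 := by
  classical
  by_contra hns
  choose S hS hNX using hX
  obtain ⟨hN, -, -⟩ := H.conjRoot_spec h
  obtain ⟨y, hyM, hyN⟩ := hN 1
  rw [one_smul] at hyN
  have sym : ∀ u v, fG G u v = fG G v u := fun u v => by rw [H.hG.swap, neg_eq_of_two hc2]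
  -- a second vector
  obtain ⟨e, he', heW⟩ := TensorMax.exists_perp_notMem H.hG.isSymplecticForm ![c, c]
    (Submodule.span F ({c, c} : Set (Fin m → F)))
    (by have := TensorMax.finrank_pair H.hG.isSymplecticForm c c; omega)
  have hec : fG G e c = 0 := by rw [sym]; exact H.hG.swap_zero (H.hG.swap_zero (by rw [sym]; exact he' 0))
  have hce : fG G c e = 0 := H.hG.swap_zero hec
  have he : e ≠ 0 := fun h0 => heW (h0 ▸ Submodule.zero_mem _)
  have hcW : c ∉ Submodule.span F ({e} : Set (Fin m → F)) := fun hmem => by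
    obtain ⟨s, hs⟩ := Submodule.mem_span_singleton.1 hmem
    refine heW (Submodule.mem_span_pair.2 ⟨s⁻¹, 0, ?_⟩)
    have hs0 : s ≠ 0 := fun h0 => hc (by rw [← hs, h0, zero_smul])
    rw [zero_smul, add_zero, ← hs, inv_smul_smul₀ hs0]
  have heW' : e ∉ Submodule.span F ({c} : Set (Fin m → F)) := fun hmem => heW (Submodule.span_mono (by simp) hmem)
  obtain ⟨c₁, hc₁, hc₁W⟩ := exists_dual_perp H.hG hcW
  obtain ⟨e₁, he₁, he₁W⟩ := exists_dual_perp H.hG heW'
  have hec₁ : fG G e c₁ = 0 := hc₁W e (Submodule.mem_span_singleton_self e)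
  have hce₁ : fG G c e₁ = 0 := he₁W c (Submodule.mem_span_singleton_self c)
  -- the group
  set a := lift j (Eop G c c) with ha
  set b := lift j (Eop G e e) with hb
  obtain ⟨ga, hgaM, hga⟩ := H.root_mem j c 1
  obtain ⟨gb, hgbM, hgb⟩ := H.root_mem j e 1
  rw [one_smul] at hga hgb
  set A := Subgroup.closure ({ga, gb, y} : Set (GL (TI t m) F)) with hA
  haveI : Finite (Matrix (TI t m) (TI t m) F) := inferInstanceAs (Finite (TI t m → TI t m → F))
  haveI : Finite (GL (TI t m) F) := Finite.of_injective _ Units.val_injective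
  have hAM : A ≤ M := (Subgroup.closure_le _).2 (by rintro u (rfl | rfl | rfl) <;> assumption)
  have hfix : ∀ u ∈ A, ∀ v (hv : fG G v c = 0), fG G v e = 0 → ∀ s,
      (u : Matrix (TI t m) (TI t m) F) * (lift j (Eop G v s) + lift j (Eop G c s) * S v hv) =
        lift j (Eop G v s) + lift j (Eop G c s) * S v hv := by
    intro u hu
    induction hu using Subgroup.closure_induction with
    | mem u hu =>
      intro v hv hve s
      rcases hu with rfl | rfl | rfl
      · rw [hga, add_mul, one_mul, mul_add, ← mul_assoc (lift j (Eop G c c)), ← lift_mul, ← lift_mul, Eop_mul,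
          Eop_mul, hv, H.hG.self]
        simp [lift_zero]
      · rw [hgb, add_mul, one_mul, mul_add, ← mul_assoc (lift j (Eop G e e)), ← lift_mul, ← lift_mul, Eop_mul,
          Eop_mul, hve, hce]
        simp [lift_zero]
      · rw [hyN, add_mul, one_mul, hNX v hv s, add_zero]
    | one => intro v hv hve s; rw [Units.val_one, one_mul]
    | mul p q _ _ ihp ihq => intro v hv hve s; rw [Units.val_mul, mul_assoc, ihq v hv hve s, ihp v hv hve s]
    | inv p _ ih =>
      intro v hv hve s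
      conv_lhs => rw [← ih v hv hve s]
      rw [← mul_assoc, Units.inv_mul, one_mul]
  -- decomposed elements of the group
  have stab : ∀ u ∈ A, KronAt j (u : Matrix (TI t m) (TI t m) F) →
      ∃ z₁ z₂ z₃ : F, (u : Matrix (TI t m) (TI t m) F) = 1 + lift j (Qsp G c e z₁ z₂ z₃) := by
    intro u hu hku
    obtain ⟨β, α, hα, huβ⟩ := hku
    have hrow : ∀ v (hv : fG G v c = 0), fG G v e = 0 → ∀ r,
        fG G (β *ᵥ v) r • α + fG G (β *ᵥ c) r • (α * S v hv) =
          fG G v r • (1 : Matrix (TI t m) (TI t m) F) + fG G c r • S v hv := fun v hv hve r => by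
      have h1 := congrArg (fun Z => lift j (Eop G c₁ r) * Z) (hfix u hu v hv hve c)
      have hm' : ∀ x, (u : Matrix (TI t m) (TI t m) F) * lift j (Eop G x c) = lift j (Eop G (β *ᵥ x) c) * α :=
        fun x => by rw [huβ, mul_assoc, ← hα, ← mul_assoc, ← lift_mul, mul_Eop]
      simp only [mul_add] at h1
      rw [← mul_assoc (u : Matrix (TI t m) (TI t m) F) (lift j (Eop G c c)), hm', hm'] at h1
      simp only [← mul_assoc, ← lift_mul, Eop_mul, lift_smul, Matrix.smul_mul] at h1
      rw [mul_assoc (lift j (Eop G c₁ c))] at h1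
      rw [← sub_eq_zero]
      refine eq_zero_of_lift_mul (η := Eop G c₁ c) ?_ (i := j) ?_ ?_
      · intro h0
        have := congrArg (fun Z => Z *ᵥ c₁) h0
        simp only [Eop_mulVec, sym c₁ c, hc₁, one_smul, Matrix.zero_mulVec] at this
        rw [this, ← zero_smul F c, fG_smul_right, zero_mul] at hc₁
        exact zero_ne_one hc₁
      · exact (((hα.smul _).add ((hα.mul (hS v hv)).smul _))).sub (((comm_one j).smul _).add ((hS v hv).smul _))
      · rw [mul_sub, mul_add, mul_add, Matrix.mul_smul, Matrix.mul_smul, Matrix.mul_smul, Matrix.mul_smul, mul_one, h1,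
          sub_self]
    obtain ⟨v₀, hv₀, hv₀W⟩ := TensorMax.exists_perp_notMem H.hG.isSymplecticForm ![c, e]
      (Submodule.span F ({c, β *ᵥ c} : Set (Fin m → F)))
      (by have := TensorMax.finrank_pair H.hG.isSymplecticForm c (β *ᵥ c); omega)
    have hv₀c : fG G v₀ c = 0 := by rw [sym]; exact H.hG.swap_zero (H.hG.swap_zero (by rw [sym]; exact hv₀ 0))
    have hv₀e : fG G v₀ e = 0 := by rw [sym]; exact H.hG.swap_zero (H.hG.swap_zero (by rw [sym]; exact hv₀ 1))
    obtain ⟨r₀, hr₀, hr₀W⟩ := exists_dual_perp H.hG hv₀W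
    have hcr₀ := hr₀W c (Submodule.subset_span (by simp))
    have hβr₀ := hr₀W (β *ᵥ c) (Submodule.subset_span (by simp))
    have h1 := hrow v₀ hv₀c hv₀e r₀
    rw [hr₀, hcr₀, hβr₀, zero_smul, zero_smul, add_zero, add_zero, one_smul] at h1
    have hne : fG G (β *ᵥ v₀) r₀ ≠ 0 := by
      intro h0
      rw [h0, zero_smul] at h1
      exact one_ne_zero h1.symm
    set l := (fG G (β *ᵥ v₀) r₀)⁻¹
    have hl : α = l • 1 := by rw [← h1, smul_smul, inv_mul_cancel₀ hne, one_smul]
    set γ := l • β with hγdef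
    have huγ : (u : Matrix (TI t m) (TI t m) F) = lift j γ := by
      rw [huβ, hl, Matrix.mul_smul, mul_one, hγdef, lift_smul]
    have hrow' : ∀ v (hv : fG G v c = 0), fG G v e = 0 → ∀ r,
        (fG G (γ *ᵥ v) r - fG G v r) • (1 : Matrix (TI t m) (TI t m) F) +
          (fG G (γ *ᵥ c) r - fG G c r) • S v hv = 0 := fun v hv hve r => by
      have h1 := hrow v hv hve r
      rw [hl, Matrix.smul_mul, one_mul, smul_smul, smul_smul] at h1
      simp only [hγdef, Matrix.smul_mulVec, fG_smul_left]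
      linear_combination (norm := module) h1
    have hiso : adjG G γ * γ = 1 := lift_injective j (by
      rw [lift_mul, ← H.hG.adjT_lift, ← huγ, lift_one]
      exact H.iso u (hAM hu))
    have hfG : ∀ p q, fG G (γ *ᵥ p) (γ *ᵥ q) = fG G p q := fun p q => by
      rw [← H.hG.fG_adj γ p (γ *ᵥ q), Matrix.mulVec_mulVec, hiso, Matrix.one_mulVec]
    have hsub : ∀ p q r, fG G (p - q) r = fG G p r - fG G q r := fun p q r =>
      TransvectionMax.sub_left H.hG.isSymplecticForm.bilinear p q r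
    by_cases hd : γ *ᵥ c = c
    swap
    · -- an isotropic ruler killed by `N`
      exfalso
      obtain ⟨r, hr⟩ : ∃ r, fG G (γ *ᵥ c) r - fG G c r ≠ 0 := by
        by_contra! hr
        refine hd (sub_eq_zero.1 (H.hG.eq_zero_of_left fun r => ?_))
        rw [sym, hsub, hr]
      obtain ⟨σ, hσ⟩ : ∃ σ : F, S v₀ hv₀c = σ • 1 := by
        refine ⟨-((fG G (γ *ᵥ v₀) r - fG G v₀ r) / (fG G (γ *ᵥ c) r - fG G c r)), ?_⟩
        have h1 := eq_neg_of_add_eq_zero_right (hrow' v₀ hv₀c hv₀e r)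
        rw [← neg_smul] at h1
        rw [neg_div', div_eq_inv_mul, mul_smul, ← h1, smul_smul, inv_mul_cancel₀ hr, one_smul]
      set x := v₀ + σ • c with hx
      have hxne : x ≠ 0 := fun h0 => hv₀W (Submodule.mem_span_pair.2 ⟨-σ, 0, by
        rw [hx] at h0
        rw [zero_smul, add_zero, neg_smul, eq_neg_of_add_eq_zero_left h0]⟩)
      have hNx : ∀ s, N * lift j (Eop G x s) = 0 := fun s => by
        have := hNX v₀ hv₀c s
        rwa [hσ, Matrix.mul_smul, mul_one, ← lift_smul, ← Eop_smul_left, ← lift_add, ← Eop_add_left] at this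
      have hTx : ct G j x x N = 0 := by
        refine H.hG.ext_left j fun p s => ?_
        rw [lift_Eop_mul_ct, mul_assoc, hNx, mul_zero, mul_zero]
      exact hns (H.ct_scalar_of_decomposed c (H.alg_or_comm_of_zero_two hc2 hm hK h hxne hTx))
    -- a symmetric operator on the pair
    have hfixp : ∀ v, fG G v c = 0 → fG G v e = 0 → γ *ᵥ v = v := fun v hv hve => by
      refine sub_eq_zero.1 (H.hG.eq_zero_of_left fun r => ?_)
      have h1 := hrow' v hv hve r
      rw [hd, sub_self, zero_smul, add_zero, smul_eq_zero] at h1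
      rw [sym, hsub]
      exact h1.resolve_right one_ne_zero
    have hdec : ∀ x, fG G (x + fG G x c • c₁ + fG G x e • e₁) c = 0 ∧
        fG G (x + fG G x c • c₁ + fG G x e • e₁) e = 0 := fun x => by
      constructor <;> simp only [fG_add_left, fG_smul_left, sym c₁ c, sym e₁ c, sym c₁ e, sym e₁ e, hc₁, hce₁, hec₁,
        he₁, mul_one, mul_zero, add_zero, add_self_of_two hc2]
    have hD : ∀ x, ∃ p r : F, γ *ᵥ x - x = p • c + r • e := fun x => by
      refine ⟨fG G (γ *ᵥ x - x) c₁, fG G (γ *ᵥ x - x) e₁, sub_eq_zero.1 (H.hG.eq_zero_of_left fun w => ?_)⟩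
      set D := γ *ᵥ x - x with hDdef
      have hperp : fG G D (w + fG G w c • c₁ + fG G w e • e₁) = 0 := by
        have h1 := hfG x (w + fG G w c • c₁ + fG G w e • e₁)
        rw [hfixp _ (hdec w).1 (hdec w).2] at h1
        rw [hDdef, hsub, h1, sub_self]
      rw [sym, hsub, fG_add_left, fG_smul_left, fG_smul_left, sym c w, sym e w]
      simp only [fG_add_right, fG_smul_right] at hperp
      have h2 : fG G D w = -(fG G w c * fG G D c₁ + fG G w e * fG G D e₁) := by linear_combination hperp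
      rw [h2, neg_eq_of_two hc2]
      ring
    obtain ⟨p, r, hD1⟩ := hD c₁
    obtain ⟨r', w, hD2⟩ := hD e₁
    rw [sub_eq_iff_eq_add] at hD1 hD2
    have hrr : r = r' := by
      have h1 := hfG c₁ e₁
      rw [hD1, hD2] at h1
      simp only [fG_add_left, fG_add_right, fG_smul_left, fG_smul_right, H.hG.self, hce, hec, hce₁, he₁, sym c₁ c,
        sym c₁ e, hc₁, hec₁, mul_zero, mul_one, add_zero, zero_add] at h1
      have h2 : r = -r' := by linear_combination h1
      rw [h2, neg_eq_of_two hc2]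
    refine ⟨p, w, r, ?_⟩
    rw [huγ, ← lift_one j, ← lift_add]
    congr 1
    refine Matrix.ext_iff_mulVec.mpr fun x => ?_
    have hcc : fG G x c • c₁ + fG G x c • c₁ = 0 := add_self_of_two hc2 _
    have hee : fG G x e • e₁ + fG G x e • e₁ = 0 := add_self_of_two hc2 _
    calc γ *ᵥ x = γ *ᵥ ((x + fG G x c • c₁ + fG G x e • e₁) + fG G x c • c₁ + fG G x e • e₁) := by
          congr 1
          linear_combination (norm := module) -hcc - hee
      _ = _ := by
          rw [Matrix.mulVec_add, Matrix.mulVec_add, Matrix.mulVec_smul, Matrix.mulVec_smul, hfixp _ (hdec x).1 (hdec x).2,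
            hD1, hD2, Matrix.add_mulVec, Matrix.one_mulVec, Qsp_mulVec, ← hrr]
          linear_combination (norm := module) hcc + hee
  -- a conjugate of a root inside the pair group
  have hconj : ∀ u ∈ A, ∀ w, w ≠ 0 → ∀ z₁ z₂ z₃ : F,
      (u : Matrix (TI t m) (TI t m) F) * lift j (Eop G w w) =
        lift j (Qsp G c e z₁ z₂ z₃) * (u : Matrix (TI t m) (TI t m) F) →
      ∃ z₁ z₂ z₃ : F, (u : Matrix (TI t m) (TI t m) F) = 1 + lift j (Qsp G c e z₁ z₂ z₃) := by
    intro u hu w hw z₁ z₂ z₃ hq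
    have hrk : (lift j (Qsp G c e z₁ z₂ z₃) : Matrix (TI t m) (TI t m) F).rank ≤ dimK j m := by
      rw [show lift j (Qsp G c e z₁ z₂ z₃) = (u : Matrix (TI t m) (TI t m) F) * lift j (Eop G w w) *
        ((u⁻¹ : GL (TI t m) F) : Matrix (TI t m) (TI t m) F) by rw [hq, mul_assoc, Units.mul_inv, mul_one]]
      exact ((Matrix.rank_mul_le_left _ _).trans (Matrix.rank_mul_le_right _ _)).trans (rank_lift_vec_le j _ _)
    have hQc : Qsp G c e z₁ z₂ z₃ *ᵥ c₁ = z₁ • c + z₃ • e := by
      rw [Qsp_mulVec, sym c₁ c, sym c₁ e, hc₁, hec₁, zero_mul, zero_mul, one_mul, one_mul, add_zero, add_zero]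
    have hQe : Qsp G c e z₁ z₂ z₃ *ᵥ e₁ = z₃ • c + z₂ • e := by
      rw [Qsp_mulVec, sym e₁ c, sym e₁ e, hce₁, he₁, zero_mul, zero_mul, one_mul, one_mul, zero_add, zero_add]
    have pc : ∀ p q : F, fG G (p • c + q • e) c₁ = p := fun p q => by
      rw [fG_add_left, fG_smul_left, fG_smul_left, hc₁, hec₁, mul_one, mul_zero, add_zero]
    have pe : ∀ p q : F, fG G (p • c + q • e) e₁ = q := fun p q => by
      rw [fG_add_left, fG_smul_left, fG_smul_left, hce₁, he₁, mul_one, mul_zero, zero_add]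
    have hz : ∀ {x : Fin m → F}, x = 0 → ∀ r, fG G x r = 0 := fun hx r => by rw [hx, fG, zero_dotProduct]
    obtain ⟨v, k, hv⟩ : ∃ (v : Fin m → F) (k : F), Qsp G c e z₁ z₂ z₃ = k • Eop G v v := by
      by_cases hz1 : z₁ = 0
      · by_cases hz3 : z₃ = 0
        · exact ⟨e, z₂, by rw [Qsp, hz1, hz3, zero_smul, zero_smul, zero_add, add_zero]⟩
        exfalso
        obtain ⟨k, hk⟩ := image_line H.hG j hrk (z' := c₁)
          (fun h0 => hz3 (by rw [hQc] at h0; rw [← pe z₁ z₃]; exact hz h0 _)) e₁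
        rw [hQe, hQc] at hk
        have h1 := congrArg (fG G · c₁) hk
        simp only [pc, fG_smul_left, hz1, mul_zero] at h1
        exact hz3 h1
      · obtain ⟨k, hk⟩ := image_line H.hG j hrk (z' := c₁)
          (fun h0 => hz1 (by rw [hQc] at h0; rw [← pc z₁ z₃]; exact hz h0 _)) e₁
        rw [hQe, hQc] at hk
        have h1 := congrArg (fG G · c₁) hk
        have h2 := congrArg (fG G · e₁) hk
        simp only [pc, pe, fG_smul_left] at h1 h2
        refine ⟨c + k • e, z₁, ?_⟩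
        rw [Qsp, h2, h1]
        simp only [Eop_add_left, Eop_add_right, Eop_smul_left, Eop_smul_right]
        module
    obtain ⟨x, hx⟩ := H.hG.exists_left hw
    refine stab u hu (H.kronAt hK (Or.inl (by omega)) (hAM hu) hw (c := v)
      (α := k • ct G j v x (u : Matrix (TI t m) (TI t m) F)) ((comm_cn j _ _ _).smul k) fun s => ?_)
    rw [show Eop G w s = Eop G w w * Eop G x s by rw [Eop_mul, hx, one_smul], lift_mul, ← mul_assoc, hq, hv,
      lift_smul, Matrix.smul_mul, Matrix.smul_mul, Matrix.mul_smul, lift_Eop_mul_ct]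
  -- the pair group
  let P : Subgroup A :=
    { carrier := {u | ∃ z₁ z₂ z₃ : F,
        ((u : GL (TI t m) F) : Matrix (TI t m) (TI t m) F) = 1 + lift j (Qsp G c e z₁ z₂ z₃)}
      one_mem' := ⟨0, 0, 0, by simp [Qsp, lift_zero]⟩
      mul_mem' := fun {p q} ⟨z₁, z₂, z₃, hp⟩ ⟨w₁, w₂, w₃, hq⟩ => ⟨z₁ + w₁, z₂ + w₂, z₃ + w₃, by
        rw [Subgroup.coe_mul, Units.val_mul, hp, hq, add_mul, one_mul, mul_add, mul_one, ← lift_mul,
          Qsp_mul H.hG hce, lift_zero, add_zero, ← Qsp_add, lift_add]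
        abel⟩
      inv_mem' := fun {p} ⟨z₁, z₂, z₃, hp⟩ => ⟨z₁, z₂, z₃, by
        rw [Subgroup.coe_inv]
        refine Units.inv_eq_of_mul_eq_one_right ?_
        rw [hp, sq_one_add hc2, ← lift_mul, Qsp_mul H.hG hce, lift_zero, add_zero]⟩ }
  have hP2 : ∀ u ∈ P, u * u = 1 := by
    rintro u ⟨z₁, z₂, z₃, hu⟩
    refine Subtype.ext (Units.ext ?_)
    rw [Subgroup.coe_mul, Units.val_mul, hu, sq_one_add hc2, ← lift_mul, Qsp_mul H.hG hce, lift_zero, add_zero]
    rfl
  have hQc : Qsp G c e 1 0 0 = Eop G c c := by simp [Qsp]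
  have hQe : Qsp G c e 0 1 0 = Eop G e e := by simp [Qsp]
  let sa : A := ⟨ga, Subgroup.subset_closure (by simp)⟩
  let sb : A := ⟨gb, Subgroup.subset_closure (by simp)⟩
  have hsa : sa ∈ P := ⟨1, 0, 0, by rw [hQc]; exact hga⟩
  have hsb : sb ∈ P := ⟨0, 1, 0, by rw [hQe]; exact hgb⟩
  have hcen : ∀ (g : A) (w : Fin m → F) (s : A), w ≠ 0 →
      ((s : GL (TI t m) F) : Matrix (TI t m) (TI t m) F) = 1 + lift j (Eop G w w) →
      g * s * g⁻¹ ∈ P → g ∈ P := by
    rintro g w s hw hs ⟨z₁, z₂, z₃, hz⟩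
    refine hconj g g.2 w hw z₁ z₂ z₃ ?_
    have h1 := congrArg (fun Z => Z * ((g : GL (TI t m) F) : Matrix (TI t m) (TI t m) F)) hz
    simp only [Subgroup.coe_mul, Subgroup.coe_inv, Units.val_mul, hs, mul_assoc, Units.inv_mul, mul_one, mul_add,
      add_mul, one_mul, add_right_inj] at h1
    exact h1
  have hcomm := central_of_fpf P hP2
    (fun g hg => hcen g c sa hc hga ((Subgroup.mem_normalizer_iff.1 hg sa).1 hsa)) hsa hsb
    (fun g hg => hcen g c sa hc hga (by rw [hg, mul_inv_cancel_right]; exact hsa))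
    (fun g hg => hcen g e sb he hgb (by rw [hg, mul_inv_cancel_right]; exact hsb))
    ⟨y, Subgroup.subset_closure (by simp)⟩
  have hcm : N * (a + b) = (a + b) * N := by
    have h1 := congrArg (fun u : A => ((u : GL (TI t m) F) : Matrix (TI t m) (TI t m) F)) hcomm
    have hab : a * b = 0 := by rw [ha, hb, ← lift_mul, Eop_mul, hec, zero_smul, lift_zero]
    simp only [sa, sb, Subgroup.coe_mul, Units.val_mul, hga, hgb, hyN] at h1
    rw [show (1 + a) * (1 + b) = 1 + (a + b) by rw [add_mul, one_mul, mul_add, mul_one, hab]; abel] at h1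
    simp only [add_mul, mul_add, one_mul, mul_one] at h1 ⊢
    linear_combination (norm := abel) h1
  refine hns ⟨0, ?_⟩
  rw [zero_smul]
  obtain ⟨r, hr1, hr2⟩ : ∃ r, fG G r c = 1 ∧ fG G r e = 0 :=
    ⟨c₁, by rw [sym, hc₁], by rw [sym, hec₁]⟩
  refine H.hG.ext_left j fun x s => ?_
  rw [lift_Eop_mul_ct, mul_zero]
  have h1 := congrArg (fun Z => lift j (Eop G x c) * Z * lift j (Eop G r s)) hcm
  have e1 : (a + b) * lift j (Eop G r s) = lift j (Eop G c s) := by
    rw [add_mul, ha, hb, ← lift_mul, ← lift_mul, Eop_mul, Eop_mul, hr1, hr2, one_smul, zero_smul, lift_zero, add_zero]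
  have e2 : lift j (Eop G x c) * (a + b) = 0 := by
    rw [mul_add, ha, hb, ← lift_mul, ← lift_mul, Eop_mul, Eop_mul, H.hG.self, hec, zero_smul, zero_smul, lift_zero,
      add_zero]
  simp only [mul_assoc] at h1
  rw [e1, ← mul_assoc (lift j (Eop G x c)) (a + b), e2, zero_mul, ← mul_assoc] at h1
  exact h1

theorem SBase.kills_two : Kills G M := fun h _ hc hX => H.scalar_of_kills_two hc2 hm hK h hc hX

theorem SBase.scalar_two {j : Fin t} {N : Matrix (TI t m) (TI t m) F} (h : ConjRoot G M j N) {c : Fin m → F}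
    (hc : c ≠ 0) : ∃ k : F, ct G j c c N = k • 1 :=
  H.scalar_of_three_of (H.kills_two hc2 hm hK) h hc fun n hn =>
    H.ct_eq_zero_of_nilpotent_two hc2 hm hK hc n h hn

/-- The local alternative in characteristic two. -/
theorem SBase.alg_or_comm_two {j : Fin t} {N : Matrix (TI t m) (TI t m) F} (h : ConjRoot G M j N) :
    (∃ η, N = lift j η) ∨ Comm j N := by
  classical
  by_cases hz : ∃ c, c ≠ 0 ∧ ct G j c c N = 0
  · obtain ⟨c, hc, hT⟩ := hz
    exact H.alg_or_comm_of_zero_two hc2 hm hK h hc hT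
  push Not at hz
  exfalso
  obtain ⟨x₀⟩ : Nonempty (TI t m) := ⟨fun _ => 0⟩
  let Bl : (Fin m → F) → (Fin m → F) →ₗ[F] F := fun u =>
    { toFun := fun v => (ct G j u v N + ct G j v u N) x₀ x₀
      map_add' := fun v w => by simp only [ct_add_left, ct_add_right, Matrix.add_apply]; ring
      map_smul' := fun l v => by
        simp only [ct_smul_left, ct_smul_right, Matrix.add_apply, Matrix.smul_apply, smul_eq_mul, RingHom.id_apply]
        ring }
  let e₁ : Fin m → F := Pi.single 0 1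
  have he₁ : e₁ ≠ 0 := fun e => one_ne_zero (α := F) (by simpa [e₁] using congrFun e 0)
  obtain ⟨e₂, hB, hne⟩ : ∃ e₂, Bl e₁ e₂ = 0 ∧ e₂ ∉ Submodule.span F ({e₁} : Set (Fin m → F)) := by
    obtain ⟨v, hv, hv'⟩ := SetLike.not_le_iff_exists.1
      (fun hle : LinearMap.ker (Bl e₁) ≤ Submodule.span F ({e₁} : Set (Fin m → F)) => by
        have h4 := Submodule.finrank_mono hle
        have h1 := LinearMap.finrank_range_add_finrank_ker (Bl e₁)
        have h2 := Submodule.finrank_le (LinearMap.range (Bl e₁))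
        rw [Module.finrank_self] at h2
        rw [Module.finrank_fin_fun] at h1
        have h5 : Module.finrank F (Submodule.span F ({e₁} : Set (Fin m → F))) ≤ 1 :=
          (finrank_span_le_card _).trans (by simp)
        omega)
    exact ⟨v, hv, hv'⟩
  have he₂ : e₂ ≠ 0 := fun h0 => hne (h0 ▸ Submodule.zero_mem _)
  obtain ⟨k₁, hk₁⟩ := H.scalar_two hc2 hm hK h he₁
  obtain ⟨k₂, hk₂⟩ := H.scalar_two hc2 hm hK h he₂
  have hk₁0 : k₁ ≠ 0 := fun h0 => hz e₁ he₁ (by rw [hk₁, h0, zero_smul])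
  obtain ⟨s, hs⟩ := FiniteField.isSquare_of_char_two
    (CharP.ringChar_of_prime_eq_zero Nat.prime_two (by exact_mod_cast hc2)) (k₂ / k₁)
  set w := s • e₁ + e₂ with hw
  have hwne : w ≠ 0 := fun h0 => hne (Submodule.mem_span_singleton.2 ⟨-s, by
    rw [hw] at h0; rw [neg_smul, eq_neg_of_add_eq_zero_right h0]⟩)
  obtain ⟨k, hk⟩ := H.scalar_two hc2 hm hK h hwne
  refine hz w hwne ?_
  have h1 := congrFun (congrFun hk x₀) x₀
  rw [Matrix.smul_apply, Matrix.one_apply_eq, smul_eq_mul, mul_one] at h1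
  have hB' : (ct G j e₁ e₂ N) x₀ x₀ + (ct G j e₂ e₁ N) x₀ x₀ = 0 := hB
  rw [hw] at h1
  simp only [ct_add_left, ct_add_right, ct_smul_left, ct_smul_right, hk₁, hk₂, Matrix.add_apply, Matrix.smul_apply,
    Matrix.one_apply_eq, smul_eq_mul, mul_one] at h1
  have hk0 : k = 0 := by
    have h2 : s * s * k₁ = k₂ := by rw [← hs, div_mul_cancel₀ _ hk₁0]
    rw [← h1]
    linear_combination s * hB' + h2 + k₂ * hc2
  rw [hk, hk0, zero_smul]

/-- Scalar coefficient sets force the wreath product. -/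
theorem SBase.le_wreath_two (ht : 2 ≤ t) : M ≤ Cfsg.Geo.tensorWreathStandard m t F :=
  H.le_wreath_of ht fun h => H.alg_or_comm_two hc2 hm hK h

end Over

end Cfsg.Agent.TensorWreath43
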