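import Cfsg.Agent.Lib.TensorWreath43TwoTau
import Cfsg.Agent.Lib.TensorWreath43Rank

/-!
Characteristic two: a conjugate root with a vanishing or nilpotent contraction.
-/

set_option autoImplicit false
set_option linter.unusedSectionVars false

namespace Cfsg.Agent.TensorWreath43

open scoped Matrix

variable {F : Type*} [Field F] {t m : ℕ}

theorem rank_conjRoot [NeZero m] {G : Matrix (Fin m) (Fin m) F} {M : Subgroup (GL (TI t m) F)} {j : Fin t}
    {N : Matrix (TI t m) (TI t m) F} (h : ConjRoot G M j N) : N.rank ≤ dimK j m := by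
  obtain ⟨g, -, b, -, rfl⟩ := h
  exact ((Matrix.rank_mul_le_left _ _).trans (Matrix.rank_mul_le_right _ _)).trans (rank_lift_vec_le j b _)

theorem scalar_pair [NeZero m] {G : Matrix (Fin m) (Fin m) F} (hG : SG G) {j : Fin t} {η : Matrix (Fin m) (Fin m) F}
    {A : Matrix (TI t m) (TI t m) F} (hA : Comm j A) (h : lift j η * A = 1) :
    ∃ s : F, s ≠ 0 ∧ A = s • 1 := by
  let p : Fin m → F := Pi.single 0 1
  have hp : p ≠ 0 := fun e => one_ne_zero (α := F) (by simpa [p] using congrFun e 0)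
  obtain ⟨a₀, ha₀⟩ := hG.exists_left hp
  set a := (-1 : F) • a₀ with ha
  have hpa : fG G p a = 1 := by rw [ha, fG_smul_right, hG.swap, ha₀]; ring
  have h1 := ct_lift_mul (G := G) (i := j) hA a p η
  rw [h, ← mul_one (1 : Matrix (TI t m) (TI t m) F), ← lift_one j, ct_lift_mul (by rw [lift_one]; exact comm_one j),
    Matrix.one_mulVec, hpa, one_smul, lift_one] at h1
  have hne : fG G (η *ᵥ p) a ≠ 0 := fun e => by rw [e, zero_smul] at h1; exact one_ne_zero h1
  exact ⟨(fG G (η *ᵥ p) a)⁻¹, inv_ne_zero hne, by rw [h1, smul_smul, inv_mul_cancel₀ hne, one_smul]⟩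

theorem sq_one_add {R : Type*} [Ring R] [Algebra F R] (hc2 : (2 : F) = 0) (X : R) : (1 + X) * (1 + X) = 1 + X * X := by
  calc (1 + X) * (1 + X) = 1 + (X + X) + X * X := by noncomm_ring
    _ = _ := by rw [add_self_of_two hc2, add_zero]

section Over

variable [Fintype F] [NeZero m] {G : Matrix (Fin m) (Fin m) F} {M : Subgroup (GL (TI t m) F)} (H : SBase G M)
  (hc2 : (2 : F) = 0) (hm : 6 ≤ m) (hK : Crit G M)
include H hc2 hm hK

theorem SBase.alg_or_comm_of_zero_two {j : Fin t} {N : Matrix (TI t m) (TI t m) F} (h : ConjRoot G M j N)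
    {c : Fin m → F} (hc : c ≠ 0) (hT : ct G j c c N = 0) : (∃ η, N = lift j η) ∨ Comm j N := by
  classical
  obtain ⟨-, hNN, -⟩ := H.conjRoot_spec h
  obtain ⟨β, α, hα, hy⟩ := H.kron_of_zero hK (Or.inl (by omega)) h hc hT
  have hsq : (lift j β * α) * (lift j β * α) = 1 := by rw [← hy, sq_one_add hc2, hNN, add_zero]
  rw [mul_assoc, ← mul_assoc α, ← hα, mul_assoc, ← mul_assoc, ← lift_mul] at hsq
  obtain ⟨ν, hν, hαν⟩ := scalar_pair H.hG (hα.mul hα) hsq
  obtain ⟨s, hs⟩ := FiniteField.isSquare_of_char_two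
    (CharP.ringChar_of_prime_eq_zero Nat.prime_two (by exact_mod_cast hc2)) ν
  have hs0 : s ≠ 0 := by rintro rfl; exact hν (by rw [hs, mul_zero])
  set η₀ := s • β - 1 with hη₀
  set δ := s⁻¹ • α - 1 with hδ
  have hδc : Comm j δ := (hα.smul _).sub (comm_one j)
  have hα1 : s⁻¹ • α = 1 + δ := by rw [hδ, add_sub_cancel]
  have hβ1 : s • β = 1 + η₀ := by rw [hη₀, add_sub_cancel]
  have hδ2 : δ * δ = 0 := by
    have h1 := sq_one_add hc2 δ
    rw [← hα1, Matrix.smul_mul, Matrix.mul_smul, hαν, smul_smul, smul_smul, hs,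
      show s⁻¹ * s⁻¹ * (s * s) = 1 by field_simp, one_smul] at h1
    exact (left_eq_add.1 h1)
  have hη2 : η₀ * η₀ = 0 := by
    have h1 := sq_one_add hc2 η₀
    rw [hαν, Matrix.mul_smul, mul_one, ← lift_smul, hs, ← lift_one j] at hsq
    rw [← hβ1, Matrix.smul_mul, Matrix.mul_smul, smul_smul, lift_injective j hsq] at h1
    exact (left_eq_add.1 h1)
  have hN : 1 + N = lift j (1 + η₀) * (1 + δ) := by
    rw [hy, ← hβ1, ← hα1, lift_smul, Matrix.smul_mul, Matrix.mul_smul, smul_smul, mul_inv_cancel₀ hs0, one_smul]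
  have hN' : N = lift j η₀ * (1 + δ) + δ := by
    rw [lift_add, lift_one, add_mul, one_mul] at hN
    rw [← add_right_inj (1 : Matrix (TI t m) (TI t m) F), hN]
    abel
  by_cases hd0 : δ = 0
  · left
    exact ⟨η₀, by rw [hN', hd0]; simp only [add_zero, mul_one]⟩
  by_cases he0 : η₀ = 0
  · right
    rw [hN', he0, lift_zero, zero_mul, zero_add]
    exact hδc
  -- otherwise the rank is too large
  exfalso
  obtain ⟨p, hp⟩ : ∃ p, η₀ *ᵥ p ≠ 0 := by
    by_contra! hz
    exact he0 (Matrix.ext_iff_mulVec.mpr fun z => by rw [hz, Matrix.zero_mulVec])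
  set u := η₀ *ᵥ p with hu
  have hηu : η₀ *ᵥ u = 0 := by rw [hu, Matrix.mulVec_mulVec, hη2, Matrix.zero_mulVec]
  obtain ⟨v, hv, hvu⟩ : ∃ v, η₀ *ᵥ v = 0 ∧ v ∉ Submodule.span F ({u} : Set (Fin m → F)) := by
    have h1 := LinearMap.finrank_range_add_finrank_ker η₀.mulVecLin
    have h2 : LinearMap.range η₀.mulVecLin ≤ LinearMap.ker η₀.mulVecLin := by
      rintro _ ⟨z, rfl⟩
      show η₀ *ᵥ (η₀ *ᵥ z) = 0
      rw [Matrix.mulVec_mulVec, hη2, Matrix.zero_mulVec]
    have h3 := Submodule.finrank_mono h2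
    rw [Module.finrank_fin_fun] at h1
    obtain ⟨v, hv, hvu⟩ := SetLike.not_le_iff_exists.1
      (fun hle : LinearMap.ker η₀.mulVecLin ≤ Submodule.span F ({u} : Set (Fin m → F)) => by
        have h4 := Submodule.finrank_mono hle
        have h5 : Module.finrank F (Submodule.span F ({u} : Set (Fin m → F))) ≤ 1 :=
          (finrank_span_le_card _).trans (by simp)
        omega)
    exact ⟨v, hv, hvu⟩
  have hup : u ∉ Submodule.span F ({v, p} : Set (Fin m → F)) := by
    intro hmem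
    obtain ⟨x, y, e⟩ := Submodule.mem_span_pair.1 hmem
    have e' := congrArg (η₀ *ᵥ ·) e
    simp only [Matrix.mulVec_add, Matrix.mulVec_smul, hv, hηu, smul_zero, zero_add, ← hu, smul_eq_zero] at e'
    rw [e'.resolve_right hp, zero_smul, add_zero] at e
    by_cases hx : x = 0
    · exact hp (by rw [← e, hx, zero_smul])
    · exact hvu (Submodule.mem_span_singleton.2 ⟨x⁻¹, by rw [← e, smul_smul, inv_mul_cancel₀ hx, one_smul]⟩)
  have hvp : v ∉ Submodule.span F ({u, p} : Set (Fin m → F)) := by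
    intro hmem
    obtain ⟨x, y, e⟩ := Submodule.mem_span_pair.1 hmem
    have e' := congrArg (η₀ *ᵥ ·) e
    simp only [Matrix.mulVec_add, Matrix.mulVec_smul, hv, hηu, smul_zero, zero_add, ← hu, smul_eq_zero] at e'
    rw [e'.resolve_right hp, zero_smul, add_zero] at e
    exact hvu (Submodule.mem_span_singleton.2 ⟨x, e⟩)
  obtain ⟨r, hr, hrW⟩ := exists_dual_perp H.hG hup
  obtain ⟨r', hr', hrW'⟩ := exists_dual_perp H.hG hvp
  have r1 := hrW v (Submodule.subset_span (by simp))
  have r2 := hrW p (Submodule.subset_span (by simp))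
  have r3 := hrW' u (Submodule.subset_span (by simp))
  have r4 := hrW' p (Submodule.subset_span (by simp))
  let e₀ : Fin m := ⟨0, by omega⟩
  let e₁ : Fin m := ⟨1, by omega⟩
  have he : e₀ ≠ e₁ := by simp [e₀, e₁, Fin.ext_iff]
  set L := Matrix.vecMulVec (Pi.single e₀ (1 : F)) (G *ᵥ r) + Matrix.vecMulVec (Pi.single e₁ (1 : F)) (G *ᵥ r')
    with hL
  set R := Matrix.vecMulVec p (Pi.single e₀ (1 : F)) + Matrix.vecMulVec v (Pi.single e₁ (1 : F)) with hR
  have f : ∀ x r : Fin m → F, (G *ᵥ r) ⬝ᵥ x = fG G x r := fun x r => dotProduct_comm _ _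
  have hLR : L * R = Matrix.single e₁ e₁ (1 : F) := by
    simp only [hL, hR, mul_add, add_mul, Matrix.mul_vecMulVec, Matrix.vecMulVec_mulVec, op_smul_eq_smul, f,
      r1, r2, r4, hr', one_smul, zero_smul, Matrix.zero_vecMulVec, add_zero, zero_add, single_eq_vec]
  have hLηR : L * η₀ * R = Matrix.single e₀ e₀ (1 : F) := by
    rw [mul_assoc]
    simp only [hL, hR, mul_add, add_mul, Matrix.mul_vecMulVec, Matrix.vecMulVec_mulVec, op_smul_eq_smul, f,
      hv, ← hu, Matrix.mulVec_zero, hr, r3, one_smul, zero_smul, smul_zero, Matrix.zero_vecMulVec, add_zero, zero_add,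
      single_eq_vec]
  set P₀ := lift j (Matrix.single e₀ e₀ (1 : F)) with hP₀
  set P₁ := lift j (Matrix.single e₁ e₁ (1 : F)) with hP₁
  have hM1 : lift j L * N * lift j R = P₀ * (1 + δ) + P₁ * δ := by
    rw [hN', mul_add, add_mul, mul_assoc (lift j L) _ (lift j R), mul_assoc (lift j L) δ, mul_assoc (lift j η₀),
      ← ((comm_one j).add hδc), ← hδc, ← mul_assoc (lift j η₀), ← mul_assoc, ← mul_assoc, ← mul_assoc, ← lift_mul,
      ← lift_mul, ← lift_mul, hLηR, hLR]
  have hrk : (lift j L * N * lift j R).rank ≤ dimK j m :=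
    ((Matrix.rank_mul_le_left _ _).trans (Matrix.rank_mul_le_right _ _)).trans (rank_conjRoot h)
  rw [hM1] at hrk
  set X := P₀ * (1 + δ) + P₁ * δ with hX
  have p00 : P₀ * P₀ = P₀ := by
    rw [hP₀, ← lift_mul, Matrix.single_mul_single_same, mul_one]
  have p11 : P₁ * P₁ = P₁ := by
    rw [hP₁, ← lift_mul, Matrix.single_mul_single_same, mul_one]
  have p01 : P₀ * P₁ = 0 := by
    rw [hP₀, hP₁, ← lift_mul, Matrix.single_mul_single_of_ne (h := he), lift_zero]
  have p10 : P₁ * P₀ = 0 := by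
    rw [hP₀, hP₁, ← lift_mul, Matrix.single_mul_single_of_ne (h := he.symm), lift_zero]
  have hX0 : X * P₀ * (1 + δ) = P₀ := by
    rw [hX, add_mul, mul_assoc P₀, ← ((comm_one j).add hδc), mul_assoc P₁, ← hδc, ← mul_assoc, ← mul_assoc, p00,
      p10, zero_mul, add_zero, mul_assoc, sq_one_add hc2, hδ2, add_zero, mul_one]
  have hX1 : X * P₁ = P₁ * δ := by
    rw [hX, add_mul, mul_assoc P₀, ← ((comm_one j).add hδc), mul_assoc P₁, ← hδc, ← mul_assoc, ← mul_assoc, p01,
      p11, zero_mul, zero_add]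
  have hle : LinearMap.range P₀.mulVecLin ≤ LinearMap.range X.mulVecLin := by
    rintro _ ⟨w, rfl⟩
    refine ⟨(P₀ * (1 + δ)) *ᵥ w, ?_⟩
    simp only [Matrix.mulVecLin_apply, Matrix.mulVec_mulVec]
    rw [← mul_assoc, hX0]
  obtain ⟨w, hw⟩ : ∃ w, (P₁ * δ) *ᵥ w ≠ 0 := by
    by_contra! hz
    refine hd0 (eq_zero_of_lift_mul (η := Matrix.single e₁ e₁ (1 : F)) ?_ hδc
      (Matrix.ext_iff_mulVec.mpr fun z => by rw [hz, Matrix.zero_mulVec]))
    intro e
    simpa using congrFun (congrFun e e₁) e₁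
  have hlt : LinearMap.range P₀.mulVecLin < LinearMap.range X.mulVecLin := by
    refine lt_of_le_of_ne hle fun e => ?_
    obtain ⟨w', hw'⟩ : (P₁ * δ) *ᵥ w ∈ LinearMap.range P₀.mulVecLin :=
      e ▸ ⟨P₁ *ᵥ w, by rw [Matrix.mulVecLin_apply, Matrix.mulVec_mulVec, hX1]⟩
    have h1 := congrArg (P₁ *ᵥ ·) hw'
    simp only [Matrix.mulVecLin_apply, Matrix.mulVec_mulVec, ← mul_assoc, p10, p11, Matrix.zero_mulVec] at h1
    exact hw h1.symm
  have h1 : P₀.rank < X.rank := Submodule.finrank_lt_finrank_of_lt hlt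
  rw [hP₀, rank_lift_single] at h1
  omega

/-- A conjugate of a root by a conjugate root never commutes with the position. -/
theorem SBase.not_comm_step {j : Fin t} {c : Fin m → F} (hc : c ≠ 0) {N : Matrix (TI t m) (TI t m) F}
    (h : ConjRoot G M j N) (hcm : Comm j ((1 + N) * lift j (Eop G c c) * (1 - N))) : False := by
  classical
  obtain ⟨hN, hNN, -⟩ := H.conjRoot_spec h
  obtain ⟨y, hy, hyN⟩ := hN 1
  rw [one_smul] at hyN
  set yi := ((y⁻¹ : GL (TI t m) F) : Matrix (TI t m) (TI t m) F) with hyi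
  have hyi' : yi = 1 - N := Units.inv_eq_of_mul_eq_one_right (by
    rw [hyN, add_mul, one_mul, mul_sub, mul_one, hNN]; abel)
  have hyy : yi = (y : Matrix (TI t m) (TI t m) F) := by
    rw [hyi', hyN, sub_eq_add_neg, neg_eq_of_two hc2]
  let cj : Matrix (TI t m) (TI t m) F → Matrix (TI t m) (TI t m) F := fun Z => (y : Matrix (TI t m) (TI t m) F) * Z * yi
  have cj_mul : ∀ Z W, cj Z * cj W = cj (Z * W) := fun Z W => by
    simp only [cj, hyi, mul_assoc, Units.inv_mul_cancel_left]
  have cj_cj : ∀ Z, cj (cj Z) = Z := fun Z => by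
    simp only [cj]
    conv_lhs => rw [← hyy, hyi, mul_assoc, mul_assoc, mul_assoc, ← hyi, hyy]
    simp only [← mul_assoc]
    rw [show ((y : Matrix (TI t m) (TI t m) F)) * (y : Matrix (TI t m) (TI t m) F) = 1 by
      nth_rewrite 2 [← hyy]; rw [hyi, Units.mul_inv]]
    rw [one_mul, mul_assoc, show ((y : Matrix (TI t m) (TI t m) F)) * (y : Matrix (TI t m) (TI t m) F) = 1 by
      nth_rewrite 2 [← hyy]; rw [hyi, Units.mul_inv], mul_one]
  have hC : ∀ η, lift j η * cj (lift j (Eop G c c)) = cj (lift j (Eop G c c)) * lift j η := by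
    simp only [cj, hyN, hyi']
    exact hcm
  have hroot : ∀ w, w ≠ 0 → Comm j (cj (lift j (Eop G w w))) ∨ Alg j (cj (lift j (Eop G w w))) := by
    intro w hw
    have hr : ConjRoot G M j (cj (lift j (Eop G w w))) := ⟨y, hy, w, hw, rfl⟩
    have hcomm : lift j (Eop G c c) * cj (lift j (Eop G w w)) = cj (lift j (Eop G w w)) * lift j (Eop G c c) := by
      have h1 := congrArg cj (hC (Eop G w w))
      simp only [← cj_mul, cj_cj] at h1
      exact h1.symm
    have hT : ct G j c c (cj (lift j (Eop G w w))) = 0 := by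
      refine eq_zero_of_lift_mul (Eop_ne_zero H.hG hc) (comm_cn j _ _ _) ?_
      rw [lift_Eop_mul_ct, hcomm, mul_assoc, ← lift_mul, Eop_self_mul H.hG, lift_zero, mul_zero]
    exact (H.alg_or_comm_of_zero_two hc2 hm hK hr hc hT).symm
  have hlink : ∀ p q : Fin m → F, p ≠ 0 → q ≠ 0 → fG G p q ≠ 0 → Comm j (cj (lift j (Eop G p p))) →
      Comm j (cj (lift j (Eop G q q))) := by
    intro p q hp hq hpq hpc
    refine (hroot q hq).resolve_right fun ⟨ξ, hξ⟩ => ?_
    have e := hpc ξ
    rw [← hξ, cj_mul, cj_mul] at e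
    have e' := congrArg cj e
    simp only [cj_cj, ← lift_mul] at e'
    have e'' := congrArg (fun Z => Z *ᵥ p) (lift_injective j e')
    simp only [Eop_mul, Matrix.smul_mulVec, Eop_mulVec, H.hG.self, zero_smul, smul_zero] at e''
    rw [eq_comm] at e''
    simp only [smul_smul, smul_eq_zero] at e''
    exact e''.elim (fun h => (mul_eq_zero.1 h).elim (fun h' => hpq (H.hG.swap_zero h')) hpq) hp
  have hall : ∀ w, w ≠ 0 → Comm j (cj (lift j (Eop G w w))) := by
    intro w hw
    obtain ⟨z, hz1, hz2⟩ := TransvectionMax.exists_common H.hG.isSymplecticForm hc hw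
    have hz : z ≠ 0 := by rintro rfl; exact hz1 (by rw [fG, zero_dotProduct])
    exact hlink z w hz hw hz2 (hlink c z hc hz (fun e => hz1 (H.hG.swap_zero e)) hC)
  have hmulc : ∀ {X Y}, Comm j (cj (lift j X)) → Comm j (cj (lift j Y)) → Comm j (cj (lift j (X * Y))) :=
    fun hX hY => by rw [lift_mul, ← cj_mul]; exact hX.mul hY
  have hsm : ∀ {X} (s : F), Comm j (cj (lift j X)) → Comm j (cj (lift j (s • X))) := fun {X} s hX => by
    rw [show cj (lift j (s • X)) = s • cj (lift j X) by simp only [cj, lift_smul, Matrix.mul_smul, Matrix.smul_mul]]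
    exact hX.smul s
  have hadd : ∀ {X Y}, Comm j (cj (lift j X)) → Comm j (cj (lift j Y)) → Comm j (cj (lift j (X + Y))) :=
    fun {X Y} hX hY => by
      rw [show cj (lift j (X + Y)) = cj (lift j X) + cj (lift j Y) by simp only [cj, lift_add, mul_add, add_mul]]
      exact hX.add hY
  have hE : ∀ a b, fG G a b ≠ 0 → Comm j (cj (lift j (Eop G a b))) := by
    intro a b hab
    have ha : a ≠ 0 := fun e => hab (by rw [e, fG, zero_dotProduct])
    have hb : b ≠ 0 := fun e => hab (by rw [e, fG, Matrix.mulVec_zero, dotProduct_zero])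
    have hba : fG G b a ≠ 0 := fun e => hab (H.hG.swap_zero e)
    have h2 := hsm (fG G b a)⁻¹ (hmulc (hall a ha) (hall b hb))
    rwa [Eop_mul, smul_smul, inv_mul_cancel₀ hba, one_smul] at h2
  have hEall : ∀ a b, Comm j (cj (lift j (Eop G a b))) := by
    intro a b
    by_cases hab : fG G a b = 0
    swap
    · exact hE a b hab
    by_cases ha : a = 0
    · subst ha
      rw [← zero_smul F b, Eop_smul_left, zero_smul, lift_zero]
      exact fun η => by simp [cj]
    obtain ⟨x, hx⟩ := H.hG.exists_left ha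
    have hax : fG G a x ≠ 0 := fun e => by rw [H.hG.swap_zero e] at hx; exact zero_ne_one hx
    have h1 := hadd (hE a (b + x) (by rw [fG_add_right, hab, zero_add]; exact hax)) (hsm (-1) (hE a x hax))
    convert h1 using 4
    rw [Eop_add_right, neg_one_smul, add_neg_cancel_right]
  refine not_conj_into_comm hm j hyN (rank_conjRoot h) fun η => ?_
  show Comm j (cj (lift j η))
  have hlift : cj (lift j η) = ∑ a, ∑ b, η a b • cj (lift j (Matrix.single a b (1 : F))) := by
    conv_lhs => rw [Matrix.matrix_eq_sum_single η]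
    simp only [cj, lift_sum, Finset.mul_sum, Finset.sum_mul]
    refine Finset.sum_congr rfl fun a _ => Finset.sum_congr rfl fun b _ => ?_
    rw [← Matrix.smul_mul, ← Matrix.mul_smul, ← lift_smul, Matrix.smul_single, smul_eq_mul, mul_one]
  rw [hlift]
  exact comm_sum _ _ fun a _ => comm_sum _ _ fun b _ =>
    (H.hG.single_eq_Eop a b ▸ hEall _ _ : Comm j (cj (lift j (Matrix.single a b (1 : F))))).smul _

theorem SBase.ct_eq_zero_of_nilpotent_two {j : Fin t} {c : Fin m → F} (hc : c ≠ 0) (n : ℕ)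
    {N : Matrix (TI t m) (TI t m) F} (h : ConjRoot G M j N) (hn : ct G j c c N ^ n = 0) : ct G j c c N = 0 :=
  H.ct_eq_zero_of_nilpotent_of hc (fun hN hT => H.alg_or_comm_of_zero_two hc2 hm hK hN hc hT)
    (fun hN hcm => (H.not_comm_step hc2 hm hK hc hN hcm).elim) n h hn

end Over

end Cfsg.Agent.TensorWreath43
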