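import Cfsg.Agent.Lib.TensorWreath43OrthEnd
import Cfsg.Agent.Lib.TensorWreath43SymWreath
import Cfsg.Agent.Lib.TensorMaxSympCtx

/-!
Characteristic two: the algebra of the operators all of whose pair elements lie in an overgroup of a tensor wreath
stabiliser, and the criteria it gives when it consists of scalars.
-/

set_option autoImplicit false
set_option linter.unusedSectionVars false

namespace Cfsg.Agent.TensorWreath43

open scoped Matrix

variable {F : Type*} [Field F] {t m : ℕ}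

theorem neg_eq_of_two {E : Type*} [AddCommGroup E] [Module F E] (hc2 : (2 : F) = 0) (x : E) : -x = x := by
  have h : (2 : F) • x = 0 := by rw [hc2, zero_smul]
  rw [two_smul] at h
  exact neg_eq_of_add_eq_zero_right h

theorem add_self_of_two {E : Type*} [AddCommGroup E] [Module F E] (hc2 : (2 : F) = 0) (x : E) : x + x = 0 := by
  nth_rewrite 1 [← neg_eq_of_two hc2 x]
  exact neg_add_cancel x

section Vectors

variable {G : Matrix (Fin m) (Fin m) F}

/-- A vector pairing to one with `x` and orthogonal to a subspace avoiding `x`. -/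
theorem exists_dual_perp (hG : SG G) {x : Fin m → F} {W : Submodule F (Fin m → F)} (hx : x ∉ W) :
    ∃ r, fG G x r = 1 ∧ ∀ w ∈ W, fG G w r = 0 := by
  obtain ⟨φ, hφx, hφW⟩ := Submodule.exists_dual_map_eq_bot_of_notMem hx inferInstance
  obtain ⟨a, ha⟩ := TransvectionMax.exists_row hG.isSymplecticForm.bilinear hG.isSymplecticForm.nondegenerate
    (fun l => φ (Pi.single l 1))
  have hv : ∀ v, φ v = fG G v a := fun v => by
    rw [← ha v]
    conv_lhs => rw [← sum_smul_single v]
    rw [map_sum, dotProduct]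
    exact Finset.sum_congr rfl fun l _ => by rw [map_smul, smul_eq_mul, mul_comm]
  refine ⟨(φ x)⁻¹ • a, by rw [fG_smul_right, ← hv, inv_mul_cancel₀ hφx], fun w hw => ?_⟩
  have h0 : φ w = 0 := by
    rw [← Submodule.mem_bot F, ← hφW]
    exact Submodule.mem_map_of_mem hw
  rw [fG_smul_right, ← hv, h0, mul_zero]

theorem exists_dual_one (hG : SG G) {x a : Fin m → F} (hx : ∀ s : F, x ≠ s • a) :
    ∃ r, fG G x r = 1 ∧ fG G a r = 0 := by
  obtain ⟨r, h1, h2⟩ := exists_dual_perp hG (x := x) (W := Submodule.span F {a})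
    (fun h => by obtain ⟨s, hs⟩ := Submodule.mem_span_singleton.1 h; exact hx s hs.symm)
  exact ⟨r, h1, h2 a (Submodule.mem_span_singleton_self a)⟩

/-- An orthogonal pair of independent vectors. -/
def Orp (G : Matrix (Fin m) (Fin m) F) (a c : Fin m → F) : Prop :=
  a ≠ 0 ∧ fG G a c = 0 ∧ ∀ s : F, c ≠ s • a

theorem Orp.ne_right {a c : Fin m → F} (h : Orp G a c) : c ≠ 0 := fun e => h.2.2 0 (by rw [e, zero_smul])

theorem Orp.symm (hG : SG G) {a c : Fin m → F} (h : Orp G a c) : Orp G c a := by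
  refine ⟨h.ne_right, hG.swap_zero h.2.1, fun s e => ?_⟩
  by_cases hs : s = 0
  · rw [hs, zero_smul] at e; exact h.1 e
  · exact h.2.2 s⁻¹ (by rw [e, inv_smul_smul₀ hs])

theorem Orp.notMem {a c : Fin m → F} (h : Orp G a c) : c ∉ Submodule.span F ({a} : Set (Fin m → F)) :=
  fun hc => by obtain ⟨s, hs⟩ := Submodule.mem_span_singleton.1 hc; exact h.2.2 s hs.symm

theorem Orp.smul_left {a c : Fin m → F} (h : Orp G a c) {z : F} (hz : z ≠ 0) : Orp G (z • a) c :=
  ⟨smul_ne_zero hz h.1, by rw [fG_smul_left, h.2.1, mul_zero], fun s e => h.2.2 (s * z) (by rw [e, smul_smul])⟩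

end Vectors

/-- The element of a pair with the coefficient `Y`. -/
def Tau2 (G : Matrix (Fin m) (Fin m) F) (M : Subgroup (GL (TI t m) F)) (j : Fin t) (a c : Fin m → F)
    (Y : Matrix (TI t m) (TI t m) F) : Prop :=
  MemU M (lift j (Eop G a c) * Y + lift j (Eop G c a) * adjT G Y)

theorem lE_mul {G : Matrix (Fin m) (Fin m) F} (j : Fin t) (a b p q : Fin m → F)
    {Y : Matrix (TI t m) (TI t m) F} (hY : Comm j Y) (W : Matrix (TI t m) (TI t m) F) :
    lift j (Eop G a b) * Y * (lift j (Eop G p q) * W) = fG G p b • (lift j (Eop G a q) * (Y * W)) := by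
  rw [mul_assoc, ← mul_assoc Y, ← hY, mul_assoc, ← mul_assoc, ← lift_mul, Eop_mul, lift_smul, Matrix.smul_mul]

section Over

variable [Fintype F] [NeZero m] {G : Matrix (Fin m) (Fin m) F} {M : Subgroup (GL (TI t m) F)} (H : SBase G M)
  (hc2 : (2 : F) = 0) (hm : 5 ≤ m)
include H hc2 hm

omit hc2 hm in
theorem SBase.step_iso {x y b : Fin m → F} (hxy : fG G x y ≠ 0) (hbx : fG G b x = 0) (hby : fG G b y = 0) :
    ∃ h : Matrix (Fin m) (Fin m) F, adjG G h * h = 1 ∧ h *ᵥ x = y ∧ h *ᵥ b = b := by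
  refine ⟨1 + (fG G x y)⁻¹ • Eop G (y - x) (y - x), ?_, ?_, ?_⟩
  · rw [adjG_add, adjG_smul, H.hG.adjG_one, H.hG.adjG_Eop, smul_neg, add_mul, one_mul, neg_mul, mul_add, mul_one,
      Matrix.smul_mul, Matrix.mul_smul, Eop_self_mul H.hG, smul_zero, smul_zero]
    abel
  · rw [Matrix.add_mulVec, Matrix.one_mulVec, Matrix.smul_mulVec, Eop_mulVec,
      TransvectionMax.sub_right H.hG.isSymplecticForm.bilinear, H.hG.self, sub_zero, smul_smul, inv_mul_cancel₀ hxy,
      one_smul]
    abel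
  · rw [Matrix.add_mulVec, Matrix.one_mulVec, Matrix.smul_mulVec, Eop_mulVec,
      TransvectionMax.sub_right H.hG.isSymplecticForm.bilinear, hby, hbx, sub_zero, zero_smul, smul_zero, add_zero]

omit hc2 in
theorem SBase.exists_third {a c : Fin m → F} (h : Orp G a c) :
    ∃ b b', fG G a b = 0 ∧ fG G c b = 0 ∧ fG G a b' = 0 ∧ fG G c b' = 0 ∧ fG G b' b = 1 ∧
      (∀ x y : F, b ≠ x • a + y • c) := by
  obtain ⟨b, hb, hbW⟩ := TensorMax.exists_perp_notMem H.hG.isSymplecticForm ![a, c]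
    (Submodule.span F ({a, c} : Set (Fin m → F)))
    (by have := TensorMax.finrank_pair H.hG.isSymplecticForm a c; omega)
  obtain ⟨r, hr, hrW⟩ := exists_dual_perp H.hG hbW
  refine ⟨b, (-1 : F) • r, H.hG.swap_zero (hb 0), H.hG.swap_zero (hb 1), ?_, ?_, ?_, fun x y e => hbW ?_⟩
  · rw [fG_smul_right, hrW a (Submodule.subset_span (by simp)), mul_zero]
  · rw [fG_smul_right, hrW c (Submodule.subset_span (by simp)), mul_zero]
  · rw [fG_smul_left, H.hG.swap, hr]; ring
  · exact Submodule.mem_span_pair.2 ⟨x, y, e.symm⟩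

omit hc2 hm in
theorem SBase.tau2_conj {j : Fin t} {a c : Fin m → F} {Y : Matrix (TI t m) (TI t m) F} (hY : Comm j Y)
    (hT : Tau2 G M j a c Y) {h : Matrix (Fin m) (Fin m) F} (hh : adjG G h * h = 1) :
    Tau2 G M j (h *ᵥ a) (h *ᵥ c) Y := by
  have h1 := H.lift_conj j hh hT
  have e : ∀ (u v : Fin m → F) {Z : Matrix (TI t m) (TI t m) F}, Comm j Z →
      lift j h * (lift j (Eop G u v) * Z) * lift j (adjG G h) = lift j (Eop G (h *ᵥ u) (h *ᵥ v)) * Z :=
    fun u v Z hZ => by rw [← mul_assoc, mul_assoc, ← hZ, ← mul_assoc, ← lift_mul, ← lift_mul, conj_Eop H.hG]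
  rwa [mul_add, add_mul, e _ _ hY, e _ _ (H.hG.adjT_comm hY)] at h1

omit hc2 in
/-- One pair gives all pairs. -/
theorem SBase.tau2_spread {j : Fin t} {a c : Fin m → F} (h0 : Orp G a c) {Y : Matrix (TI t m) (TI t m) F}
    (hY : Comm j Y) (hT : Tau2 G M j a c Y) {a' c' : Fin m → F} (h : Orp G a' c') : Tau2 G M j a' c' Y := by
  obtain ⟨h₁, hh₁, ha₁⟩ := H.exists_rt h0.1 h.1
  have h1 := H.tau2_conj hY hT hh₁
  rw [ha₁] at h1
  set c₁ := h₁ *ᵥ c with hc₁
  have hp : Orp G a' c₁ := by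
    refine ⟨h.1, ?_, fun s e => ?_⟩
    · rw [← ha₁, hc₁, ← H.hG.fG_adj, Matrix.mulVec_mulVec, hh₁, Matrix.one_mulVec, h0.2.1]
    · refine h0.2.2 s ?_
      have e' := congrArg (fun v => adjG G h₁ *ᵥ v) e
      simp only [hc₁, ← ha₁, Matrix.mulVec_mulVec, hh₁, Matrix.one_mulVec, Matrix.mulVec_smul] at e'
      exact e'
  obtain ⟨r₁, e1, e1'⟩ := exists_dual_one H.hG (x := c₁) (a := a') hp.2.2
  obtain ⟨r₂, e2, e2'⟩ := exists_dual_one H.hG (x := c') (a := a') h.2.2
  obtain ⟨z, z1, z2, z3⟩ : ∃ z, fG G a' z = 0 ∧ fG G c₁ z ≠ 0 ∧ fG G c' z ≠ 0 := by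
    by_cases u : fG G c' r₁ = 0
    · by_cases v : fG G c₁ r₂ = 0
      · exact ⟨r₁ + r₂, by rw [fG_add_right, e1', e2', add_zero], by rw [fG_add_right, e1, v, add_zero]; exact one_ne_zero,
          by rw [fG_add_right, u, e2, zero_add]; exact one_ne_zero⟩
      · exact ⟨r₂, e2', v, by rw [e2]; exact one_ne_zero⟩
    · exact ⟨r₁, e1', by rw [e1]; exact one_ne_zero, u⟩
  obtain ⟨g₁, hg₁, g₁c, g₁a⟩ := H.step_iso z2 hp.2.1 z1
  have h2 := H.tau2_conj hY h1 hg₁
  rw [g₁c, g₁a] at h2
  obtain ⟨g₂, hg₂, g₂c, g₂a⟩ := H.step_iso (x := z) (y := c') (fun e => z3 (H.hG.swap_zero e)) z1 h.2.1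
  have h3 := H.tau2_conj hY h2 hg₂
  rwa [g₂c, g₂a] at h3

omit hc2 in
theorem SBase.tau2_one {j : Fin t} {a c : Fin m → F} (h : Orp G a c) : Tau2 G M j a c 1 := by
  have := (H.siegel j h.2.1).1
  rwa [Tau2, H.hG.adjT_one, mul_one, mul_one]

/-- The operators with all pair elements. -/
def Lset (G : Matrix (Fin m) (Fin m) F) (M : Subgroup (GL (TI t m) F)) (j : Fin t)
    (Y : Matrix (TI t m) (TI t m) F) : Prop :=
  Comm j Y ∧ ∀ a c, Orp G a c → Tau2 G M j a c Y

omit hc2 in
theorem SBase.lset_one (j : Fin t) : Lset G M j 1 := ⟨comm_one j, fun _ _ h => H.tau2_one hm h⟩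

omit hm in
theorem SBase.lset_adj {j : Fin t} {Y : Matrix (TI t m) (TI t m) F} (h : Lset G M j Y) :
    Lset G M j (adjT G Y) := by
  refine ⟨H.hG.adjT_comm h.1, fun a c hac => ?_⟩
  have := h.2 c a (hac.symm H.hG)
  rw [Tau2] at this ⊢
  rwa [H.hG.adjT_adjT, add_comm]

omit hc2 hm in
theorem SBase.lset_add {j : Fin t} {Y Z : Matrix (TI t m) (TI t m) F} (hY : Lset G M j Y) (hZ : Lset G M j Z) :
    Lset G M j (Y + Z) := by
  refine ⟨hY.1.add hZ.1, fun a c h => ?_⟩
  have hca := H.hG.swap_zero h.2.1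
  have := (hY.2 a c h).add (hZ.2 a c h) (by
    simp only [mul_add, add_mul, lE_mul j _ _ _ _ hY.1, lE_mul j _ _ _ _ (H.hG.adjT_comm hY.1), H.hG.self, h.2.1, hca,
      zero_smul, add_zero])
  rw [Tau2, adjT_add, mul_add, mul_add]
  convert this using 1
  abel

omit hc2 hm in
theorem SBase.lset_zero (j : Fin t) : Lset G M j 0 :=
  ⟨fun η => by rw [mul_zero, zero_mul], fun a c _ => by
    rw [Tau2, mul_zero, show adjT G (0 : Matrix (TI t m) (TI t m) F) = 0 by simp [adjT], mul_zero, add_zero]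
    exact MemU.zero M⟩

omit hc2 hm in
theorem SBase.lset_smul {j : Fin t} {Y : Matrix (TI t m) (TI t m) F} (hY : Lset G M j Y) (z : F) :
    Lset G M j (z • Y) := by
  by_cases hz : z = 0
  · rw [hz, zero_smul]; exact H.lset_zero j
  refine ⟨hY.1.smul z, fun a c h => ?_⟩
  have := hY.2 (z • a) c (h.smul_left hz)
  rw [Tau2] at this ⊢
  rwa [Eop_smul_left, Eop_smul_right, lift_smul, lift_smul, Matrix.smul_mul, Matrix.smul_mul, ← Matrix.mul_smul,
    ← Matrix.mul_smul, ← adjT_smul] at this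

theorem SBase.lset_mul {j : Fin t} {Y W : Matrix (TI t m) (TI t m) F} (hY : Lset G M j Y) (hW : Lset G M j W) :
    Lset G M j (Y * W) := by
  refine ⟨hY.1.mul hW.1, fun a c h => ?_⟩
  obtain ⟨b, b', hab, hcb, hab', hcb', hbb, hb⟩ := H.exists_third hm h
  have p1 : Orp G a b := ⟨h.1, hab, fun s e => hb s 0 (by rw [e, zero_smul, add_zero])⟩
  have p2 : Orp G b' c := by
    refine ⟨fun e => ?_, H.hG.swap_zero hcb', fun s e => ?_⟩
    · rw [e, ← zero_smul F b, fG_smul_left, zero_mul] at hbb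
      exact zero_ne_one hbb
    · have h0 := hcb
      rw [e, fG_smul_left, hbb, mul_one] at h0
      rw [h0, zero_smul] at e
      exact h.ne_right e
  have hX := hY.2 a b p1
  have hZ := hW.2 b' c p2
  have hca := H.hG.swap_zero h.2.1
  have hba := H.hG.swap_zero hab
  have hbc := H.hG.swap_zero hcb
  have hb'a := H.hG.swap_zero hab'
  have hb'c := H.hG.swap_zero hcb'
  have hbb' : fG G b b' = -1 := by rw [H.hG.swap, hbb]
  have hYa := H.hG.adjT_comm hY.1
  have hWa := H.hG.adjT_comm hW.1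
  set X := lift j (Eop G a b) * Y + lift j (Eop G b a) * adjT G Y with hXdef
  set Z := lift j (Eop G b' c) * W + lift j (Eop G c b') * adjT G W with hZdef
  have eXZ : X * Z = lift j (Eop G a c) * (Y * W) := by
    simp only [hXdef, hZdef, mul_add, add_mul, lE_mul j _ _ _ _ hY.1, lE_mul j _ _ _ _ hYa, hbb, hcb, hb'a, hca,
      zero_smul, one_smul, add_zero, zero_add]
  have eZX : Z * X = -(lift j (Eop G c a) * (adjT G W * adjT G Y)) := by
    simp only [hXdef, hZdef, mul_add, add_mul, lE_mul j _ _ _ _ hW.1, lE_mul j _ _ _ _ hWa, h.2.1, hbc, hab', hbb',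
      zero_smul, neg_one_smul, add_zero, zero_add]
  have hXX : X * X = 0 := by
    simp only [hXdef, mul_add, add_mul, lE_mul j _ _ _ _ hY.1, lE_mul j _ _ _ _ hYa, hab, hba, H.hG.self, zero_smul,
      add_zero]
  have hZZ : Z * Z = 0 := by
    simp only [hZdef, mul_add, add_mul, lE_mul j _ _ _ _ hW.1, lE_mul j _ _ _ _ hWa, hb'c, hcb', H.hG.self, zero_smul,
      add_zero]
  have e1 : X * Z * X = 0 := by
    rw [eXZ]
    simp only [hXdef, mul_add, lE_mul j _ _ _ _ (hY.1.mul hW.1), h.2.1, hbc, zero_smul, add_zero]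
  have e2 : Z * X * Z = 0 := by
    rw [eZX]
    simp only [hZdef, neg_mul, mul_add, lE_mul j _ _ _ _ (hWa.mul hYa), hb'a, hca, zero_smul, add_zero, neg_zero]
  have := MemU.bracket hX hZ hXX hZZ e1 e2
  rw [eXZ, eZX, sub_neg_eq_add] at this
  rwa [Tau2, H.hG.adjT_mul]

omit hc2 hm in
theorem SBase.lset_conj {j i : Fin t} (hij : i ≠ j) {Y : Matrix (TI t m) (TI t m) F} (hY : Lset G M j Y)
    {h : Matrix (Fin m) (Fin m) F} (hh : adjG G h * h = 1) :
    Lset G M j (lift i h * Y * lift i (adjG G h)) := by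
  refine ⟨((comm_lift hij h).mul hY.1).mul (comm_lift hij _), fun a c hac => ?_⟩
  have h1 := H.lift_conj i hh (hY.2 a c hac)
  rw [Tau2, H.hG.adjT_mul, H.hG.adjT_mul, H.hG.adjT_lift, H.hG.adjT_lift, H.hG.adjG_adjG]
  rw [mul_add, add_mul] at h1
  convert h1 using 1
  simp only [← mul_assoc, lift_comm hij h]

/-- If all such operators are scalars, both criteria of the ruler theorem hold. -/
theorem SBase.crit_of_scalar
    (hS : ∀ j Y, Lset G M j Y → ∃ c : F, Y = c • (1 : Matrix (TI t m) (TI t m) F)) : Crit G M where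
  root {j b} hb {C} hC hM := by
    have hself : adjT G C = C := by
      obtain ⟨g, hg, hgX⟩ := hM
      have hXX : lift j (Eop G b b) * C * (lift j (Eop G b b) * C) = 0 := by
        rw [lE_mul j _ _ _ _ hC, H.hG.self, zero_smul]
      have h1 := H.inv_val hg
      rw [show ((g⁻¹ : GL (TI t m) F) : Matrix (TI t m) (TI t m) F) = 1 - lift j (Eop G b b) * C from
        Units.inv_eq_of_mul_eq_one_right (by rw [hgX, add_mul, one_mul, mul_sub, mul_one, hXX]; abel), hgX,
        adjT_add, H.hG.adjT_one, sub_eq_add_neg, add_right_inj, H.hG.adjT_mul, H.hG.adjT_lift, H.hG.adjG_Eop,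
        show lift j (-Eop G b b) = -lift j (Eop G b b) from map_neg (liftHom (F := F) j) _, mul_neg, neg_inj,
        ← H.hG.adjT_comm hC] at h1
      refine (sub_eq_zero.1 ?_).symm
      exact eq_zero_of_lift_mul (Eop_ne_zero H.hG hb) (hC.sub (H.hG.adjT_comm hC)) (by rw [mul_sub, h1, sub_self])
    have hmove : ∀ b', b' ≠ 0 → MemU M (lift j (Eop G b' b') * C) := fun b' hb' => by
      obtain ⟨h, hh, hhb⟩ := H.exists_rt hb hb'
      have := H.lift_conj j hh hM
      rwa [← mul_assoc, mul_assoc, ← hC, ← mul_assoc, ← lift_mul, ← lift_mul, conj_Eop H.hG, hhb] at this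
    obtain ⟨e, he, hei⟩ := SG.exists_perp_indep (G := G) (by omega : 3 ≤ m) b
    have heb := H.hG.swap_zero he
    have hbe : b + e ≠ 0 := fun e0 => hei (-1) (by rw [neg_one_smul]; exact eq_neg_of_add_eq_zero_right e0)
    have hene : e ≠ 0 := fun e0 => hei 0 (by rw [e0, zero_smul])
    have h1 := (hmove _ hbe).add hM (by
      rw [lE_mul j _ _ _ _ hC, fG_add_right, H.hG.self, he, add_zero, zero_smul])
    have h2 := h1.add (hmove e hene) (by
      rw [add_mul, lE_mul j _ _ _ _ hC, lE_mul j _ _ _ _ hC, fG_add_right, H.hG.self, heb, add_zero, zero_smul,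
        zero_add, zero_smul])
    refine hS j C ⟨hC, fun a' c' h' => H.tau2_spread hm ⟨hb, he, hei⟩ hC ?_ h'⟩
    rw [Tau2, hself]
    convert h2 using 1
    simp only [Eop_add_left, Eop_add_right, lift_add, add_mul]
    linear_combination (norm := abel) -(add_self_of_two hc2 (lift j (Eop G b b) * C)) -
      (add_self_of_two hc2 (lift j (Eop G e e) * C))
  radical {j b b' u} hbb hub hub' hu {X R} hX hX2 hXa hR hXR := by
    have hbu : fG G b u = 0 := H.hG.swap_zero hub
    have hb : b ≠ 0 := by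
      rintro rfl
      rw [← zero_smul F b', fG_smul_left, zero_mul] at hbb
      exact zero_ne_one hbb
    have hRa := H.hG.adjT_comm hR
    have hn : ∀ A : Matrix (Fin m) (Fin m) F, lift j (-A) = -lift j A := fun A => map_neg (liftHom (F := F) j) A
    have hadjR : ∀ s, lift j (Eop G s u) * X = -(lift j (Eop G s b) * adjT G R) := fun s => by
      have h' := congrArg (adjT G) (hXR s)
      rw [H.hG.adjT_mul, H.hG.adjT_mul, H.hG.adjT_lift, H.hG.adjT_lift, H.hG.adjG_Eop, H.hG.adjG_Eop, hXa, hn, hn,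
        neg_mul_neg] at h'
      rw [h', mul_neg, hRa]
    set L := lift j (Eop G u u) with hL
    set Y := lift j (Eop G b u) * R + lift j (Eop G u b) * adjT G R with hY
    set B := lift j (Eop G b b) * (R * adjT G R) with hBdef
    have hA : L * X - X * L = -Y := by rw [hL, hXR, hadjR, hY]; abel
    have hLXL : L * X * L = 0 := by
      rw [hL, mul_assoc, hXR, ← mul_assoc, ← lift_mul, Eop_mul, hbu, zero_smul, lift_zero, zero_mul]
    have hXLX : X * L * X = -B := by
      rw [hL, hXR, mul_assoc, ← mul_assoc, hR, mul_assoc, hadjR, mul_neg, ← mul_assoc, ← hR, mul_assoc]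
    have hLL : L * L = 0 := by rw [hL, ← lift_mul, Eop_self_mul H.hG, lift_zero]
    have h1 : MemU M (Y + B) := by
      obtain ⟨g, hg, hgL⟩ := H.root_mem j u (-1)
      have hc := hX.conjU hg
      rw [hgL, show ((g⁻¹ : GL (TI t m) F) : Matrix (TI t m) (TI t m) F) = 1 - (-1 : F) • L from
        Units.inv_eq_of_mul_eq_one_right (by
          rw [hgL, neg_one_smul, ← hL, add_mul, one_mul, sub_neg_eq_add, mul_add, mul_one, neg_mul, hLL]; abel),
        neg_one_smul, ← hL, show (1 + -L) * X * (1 - -L) = X - (L * X - X * L) - L * X * L by noncomm_ring, hA, hLXL,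
        sub_zero, sub_neg_eq_add] at hc
      obtain ⟨g₁, hg₁, h₁⟩ := hc
      obtain ⟨g₂, hg₂, h₂⟩ := hX.neg hX2
      refine ⟨g₁ * g₂, M.mul_mem hg₁ hg₂, ?_⟩
      rw [Units.val_mul, h₁, h₂]
      have eYX : Y * X = -B := by
        rw [← neg_neg Y, ← hA, neg_mul, sub_mul, mul_assoc L, hX2, mul_zero, zero_sub, neg_neg, hXLX]
      calc (1 + (X + Y)) * (1 + -X) = 1 + Y - X * X - Y * X := by noncomm_ring
        _ = 1 + (Y + B) := by rw [hX2, eYX]; abel
    -- the bracket with a pair element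
    have hubi : ∀ s : F, u ≠ s • b := fun s e => by
      have h0 := hub'
      rw [e, fG_smul_left, hbb, mul_one] at h0
      exact hu (by rw [e, h0, zero_smul])
    obtain ⟨c, hc, hcW⟩ := TensorMax.exists_perp_notMem H.hG.isSymplecticForm ![b, u]
      (Submodule.span F ({b, u} : Set (Fin m → F)))
      (by have := TensorMax.finrank_pair H.hG.isSymplecticForm b u; omega)
    have hcb : fG G c b = 0 := hc 0
    have hcu : fG G c u = 0 := hc 1
    have huW : u ∉ Submodule.span F ({b, c} : Set (Fin m → F)) := fun h => by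
      obtain ⟨x, y, e⟩ := Submodule.mem_span_pair.1 h
      by_cases hy : y = 0
      · exact hubi x (by rw [← e, hy, zero_smul, add_zero])
      · refine hcW (Submodule.mem_span_pair.2 ⟨-(y⁻¹ * x), y⁻¹, ?_⟩)
        rw [← e, smul_add, smul_smul, smul_smul, inv_mul_cancel₀ hy, one_smul, neg_smul, neg_add_cancel_left]
    obtain ⟨d, hud, hdW⟩ := exists_dual_perp H.hG huW
    have hbd : fG G b d = 0 := hdW b (Submodule.subset_span (by simp))
    have hcd : fG G c d = 0 := hdW c (Submodule.subset_span (by simp))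
    have hdu : fG G d u = -1 := by rw [H.hG.swap, hud]
    have hdb := H.hG.swap_zero hbd
    have hdc := H.hG.swap_zero hcd
    have hbc := H.hG.swap_zero hcb
    have huc := H.hG.swap_zero hcu
    obtain ⟨hSm, hS2, -⟩ := H.siegel j hcd
    have e1c := comm_one (m := m) (F := F) j
    have hRR := hR.mul hRa
    have hYB : (Y + B) * (Y + B) = 0 := by
      simp only [hY, hBdef, mul_add, add_mul, lE_mul j _ _ _ _ hR, lE_mul j _ _ _ _ hRa, lE_mul j _ _ _ _ hRR,
        H.hG.self, hbu, hub, zero_smul, add_zero]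
    rw [← mul_one (lift j (Eop G c d)), ← mul_one (lift j (Eop G d c))] at hSm hS2
    set S := lift j (Eop G c d) * 1 + lift j (Eop G d c) * 1 with hSdef
    have eYS : (Y + B) * S = -(lift j (Eop G b c) * R) := by
      simp only [hY, hBdef, hSdef, mul_add, add_mul, lE_mul j _ _ _ _ hR, lE_mul j _ _ _ _ hRa, lE_mul j _ _ _ _ hRR,
        hcu, hcb, hdu, hdb, zero_smul, neg_one_smul, add_zero, zero_add]
      simp only [mul_one]
    have eSY : S * (Y + B) = lift j (Eop G c b) * adjT G R := by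
      simp only [hY, hBdef, hSdef, mul_add, add_mul, lE_mul j _ _ _ _ e1c, hbc, hbd, hud, huc, zero_smul, one_smul,
        add_zero, zero_add]
      simp only [one_mul]
    have hbr := MemU.bracket h1 hSm hYB hS2
      (by
        rw [eYS]
        simp only [hY, hBdef, neg_mul, mul_add, lE_mul j _ _ _ _ hR, hbc, huc, zero_smul, add_zero, neg_zero])
      (by
        rw [eSY]
        simp only [hSdef, mul_add, lE_mul j _ _ _ _ hRa, hcb, hdb, zero_smul, add_zero])
    rw [eYS, eSY, ← neg_add', neg_eq_of_two hc2] at hbr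
    exact hS j R ⟨hR, fun a' c' h' => H.tau2_spread hm
      ⟨hb, hbc, fun s e => hcW (Submodule.mem_span_pair.2 ⟨s, 0, by rw [e, zero_smul, add_zero]⟩)⟩ hR hbr h'⟩

end Over

end Cfsg.Agent.TensorWreath43
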