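import Cfsg.Agent.Lib.TensorWreath43SymAll
import Cfsg.Agent.Lib.TensorMaxUnitForm
import Cfsg.Agent.Lib.TensorMaxUnitCentre

/-!
Adjoints, contractions and root elements for an overgroup of a unitary tensor wreath stabiliser.
-/

set_option autoImplicit false
set_option linter.unusedSectionVars false

namespace Cfsg.Agent.TensorWreathU84

open scoped Matrix
open Cfsg.Agent.TensorWreath43 (TI lift liftHom pureT pureV permT permU Comm cn MemU Fac)
open Cfsg.Agent.TensorMax (UForm)

variable {F : Type*} [Field F] {σ : F →+* F} {t m : ℕ}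

/-! ### Hermitian Gram matrices on an arbitrary index type -/

section Herm

variable {ι : Type*} [Fintype ι] [DecidableEq ι] {G : Matrix ι ι F}

/-- A non-degenerate hermitian Gram matrix. -/
structure HG (σ : F →+* F) (G : Matrix ι ι F) : Prop where
  herm : G.map σ = Gᵀ
  unit : IsUnit G.det
  invol : ∀ c, σ (σ c) = c
  ne : ∃ c, σ c ≠ c

/-- The row of the vector `a`. -/
def row (σ : F →+* F) (G : Matrix ι ι F) (a : ι → F) : ι → F := G *ᵥ (fun i => σ (a i))

/-- The hermitian form of a Gram matrix. -/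
def fH (σ : F →+* F) (G : Matrix ι ι F) (x a : ι → F) : F := x ⬝ᵥ row σ G a

/-- The operator `x ↦ fH x v • u`. -/
def E (σ : F →+* F) (G : Matrix ι ι F) (u v : ι → F) : Matrix ι ι F := Matrix.vecMulVec u (row σ G v)

/-- The adjoint. -/
noncomputable def adj (σ : F →+* F) (G Z : Matrix ι ι F) : Matrix ι ι F := (G⁻¹ * Zᵀ * G).map σ

theorem row_add (a b : ι → F) : row σ G (a + b) = row σ G a + row σ G b := by
  rw [row, row, row, ← Matrix.mulVec_add]
  congr 1
  funext i
  simp

theorem row_smul (c : F) (a : ι → F) : row σ G (c • a) = σ c • row σ G a := by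
  rw [row, row, ← Matrix.mulVec_smul]
  congr 1
  funext i
  simp

theorem fH_add_left (x y a : ι → F) : fH σ G (x + y) a = fH σ G x a + fH σ G y a := add_dotProduct _ _ _

theorem fH_add_right (x a b : ι → F) : fH σ G x (a + b) = fH σ G x a + fH σ G x b := by
  rw [fH, row_add, dotProduct_add]; rfl

theorem fH_smul_left (c : F) (x a : ι → F) : fH σ G (c • x) a = c * fH σ G x a := smul_dotProduct _ _ _

theorem fH_smul_right (c : F) (x a : ι → F) : fH σ G x (c • a) = σ c * fH σ G x a := by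
  rw [fH, row_smul, dotProduct_smul]; rfl

theorem fH_zero_left (a : ι → F) : fH σ G 0 a = 0 := zero_dotProduct _

theorem fH_sub_left (x y a : ι → F) : fH σ G (x - y) a = fH σ G x a - fH σ G y a := sub_dotProduct _ _ _

theorem fH_neg_left (x a : ι → F) : fH σ G (-x) a = -fH σ G x a := neg_dotProduct _ _

theorem E_mulVec (u v x : ι → F) : E σ G u v *ᵥ x = fH σ G x v • u := by
  rw [E, Matrix.vecMulVec_mulVec, op_smul_eq_smul, dotProduct_comm]
  rfl

theorem E_mul (u v a b : ι → F) : E σ G u v * E σ G a b = fH σ G a v • E σ G u b := by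
  rw [E, E, E, Matrix.vecMulVec_mul_vecMulVec, Matrix.vecMulVec_smul, fH, dotProduct_comm]

theorem mul_E (Z : Matrix ι ι F) (u v : ι → F) : Z * E σ G u v = E σ G (Z *ᵥ u) v := Matrix.mul_vecMulVec _ _ _

theorem E_add_left (u u' v : ι → F) : E σ G (u + u') v = E σ G u v + E σ G u' v := Matrix.add_vecMulVec _ _ _

theorem E_add_right (u v v' : ι → F) : E σ G u (v + v') = E σ G u v + E σ G u v' := by
  rw [E, row_add, Matrix.vecMulVec_add]; rfl

theorem E_smul_left (c : F) (u v : ι → F) : E σ G (c • u) v = c • E σ G u v := Matrix.smul_vecMulVec _ _ _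

theorem E_smul_right (c : F) (u v : ι → F) : E σ G u (c • v) = σ c • E σ G u v := by
  rw [E, row_smul, Matrix.vecMulVec_smul]; rfl

theorem E_zero_left (v : ι → F) : E σ G 0 v = 0 := Matrix.zero_vecMulVec _

theorem E_zero_right (u : ι → F) : E σ G u 0 = 0 := by
  rw [← zero_smul F (0 : ι → F), E_smul_right, map_zero, zero_smul]

theorem det_one_add_E (c : F) (u v : ι → F) : (1 + c • E σ G u v).det = 1 + c * fH σ G u v := by
  rw [E, ← Matrix.smul_vecMulVec, Matrix.vecMulVec_eq Unit, Matrix.det_one_add_replicateCol_mul_replicateRow,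
    dotProduct_comm, smul_dotProduct]
  rfl

theorem HG.map_inv (hG : HG σ G) : G⁻¹.map σ = (G⁻¹)ᵀ := by
  rw [Matrix.transpose_nonsing_inv, ← hG.herm]
  refine (Matrix.inv_eq_left_inv ?_).symm
  rw [← Matrix.map_mul, Matrix.nonsing_inv_mul _ hG.unit, Matrix.map_one _ (map_zero σ) (map_one σ)]

theorem HG.inv_mul (hG : HG σ G) : G⁻¹ * G = 1 := Matrix.nonsing_inv_mul _ hG.unit

theorem HG.mul_inv (hG : HG σ G) : G * G⁻¹ = 1 := Matrix.mul_nonsing_inv _ hG.unit

theorem HG.map_map (hG : HG σ G) (Z : Matrix ι ι F) : (Z.map σ).map σ = Z := by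
  ext a b
  simp [hG.invol]

theorem HG.sigma_fH (hG : HG σ G) (x a : ι → F) : σ (fH σ G x a) = fH σ G a x := by
  have h : ∀ i j, σ (G i j) = G j i := fun i j => by
    have := congrFun (congrFun hG.herm i) j
    simpa using this
  simp only [fH, row, dotProduct, Matrix.mulVec, map_sum, map_mul, hG.invol, h, Finset.mul_sum]
  rw [Finset.sum_comm]
  exact Finset.sum_congr rfl fun i _ => Finset.sum_congr rfl fun j _ => by ring

theorem HG.symm_zero (hG : HG σ G) {x a : ι → F} (h : fH σ G x a = 0) : fH σ G a x = 0 := by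
  rw [← hG.sigma_fH, h, map_zero]

theorem HG.self_fixed (hG : HG σ G) (x : ι → F) : σ (fH σ G x x) = fH σ G x x := hG.sigma_fH x x

theorem HG.row_injective (hG : HG σ G) : Function.Injective (row σ G) := by
  intro a b h
  have h' := congrArg (G⁻¹ *ᵥ ·) h
  simp only [row, Matrix.mulVec_mulVec, hG.inv_mul, Matrix.one_mulVec] at h'
  funext i
  simpa [hG.invol] using congrArg σ (congrFun h' i)

theorem HG.exists_row (hG : HG σ G) (r : ι → F) : ∃ a, row σ G a = r := by
  refine ⟨fun i => σ ((G⁻¹ *ᵥ r) i), ?_⟩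
  simp only [row, hG.invol]
  rw [Matrix.mulVec_mulVec, hG.mul_inv, Matrix.one_mulVec]

theorem HG.eq_zero_of_right (hG : HG σ G) {a : ι → F} (h : ∀ x, fH σ G x a = 0) : a = 0 := by
  refine hG.row_injective ?_
  funext i
  have := h (Pi.single i 1)
  rw [fH, single_dotProduct, one_mul] at this
  rw [this]
  simp [row, Matrix.mulVec, dotProduct]

theorem HG.eq_zero_of_left (hG : HG σ G) {x : ι → F} (h : ∀ a, fH σ G x a = 0) : x = 0 :=
  hG.eq_zero_of_right fun a => hG.symm_zero (h a)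

theorem HG.fH_adj (hG : HG σ G) (Z : Matrix ι ι F) (x a : ι → F) :
    fH σ G x (adj σ G Z *ᵥ a) = fH σ G (Z *ᵥ x) a := by
  have e : (fun i => σ ((adj σ G Z *ᵥ a) i)) = (G⁻¹ * Zᵀ * G) *ᵥ fun i => σ (a i) := by
    funext i
    simp [adj, Matrix.mulVec, dotProduct, hG.invol]
  rw [fH, fH, row, row, e, Matrix.mulVec_mulVec, ← mul_assoc, ← mul_assoc, hG.mul_inv, one_mul,
    ← Matrix.mulVec_mulVec, Matrix.dotProduct_mulVec, Matrix.vecMul_transpose]

theorem HG.row_adj (hG : HG σ G) (Z : Matrix ι ι F) (a : ι → F) :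
    row σ G (adj σ G Z *ᵥ a) = row σ G a ᵥ* Z := by
  funext i
  have := hG.fH_adj Z (Pi.single i 1) a
  rw [fH, single_dotProduct, one_mul] at this
  rw [this, fH, dotProduct_comm, Matrix.dotProduct_mulVec, dotProduct_single, mul_one]

theorem HG.E_mul' (hG : HG σ G) (Z : Matrix ι ι F) (u v : ι → F) :
    E σ G u v * Z = E σ G u (adj σ G Z *ᵥ v) := by
  rw [E, E, Matrix.vecMulVec_mul, hG.row_adj]

theorem HG.adj_mul (hG : HG σ G) (Y Z : Matrix ι ι F) : adj σ G (Y * Z) = adj σ G Z * adj σ G Y := by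
  rw [adj, adj, adj, ← Matrix.map_mul, Matrix.transpose_mul]
  congr 1
  simp only [mul_assoc]
  rw [← mul_assoc G G⁻¹, hG.mul_inv, one_mul]

theorem HG.adj_one (hG : HG σ G) : adj σ G 1 = 1 := by
  rw [adj, Matrix.transpose_one, mul_one, hG.inv_mul, Matrix.map_one _ (map_zero σ) (map_one σ)]

theorem adj_add (Y Z : Matrix ι ι F) : adj σ G (Y + Z) = adj σ G Y + adj σ G Z := by
  simp [adj, mul_add, add_mul, Matrix.map_add]

theorem adj_zero : adj σ G (0 : Matrix ι ι F) = 0 := by simp [adj]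

theorem adj_neg (Z : Matrix ι ι F) : adj σ G (-Z) = -adj σ G Z := by
  ext a b
  simp only [adj, Matrix.transpose_neg, mul_neg, neg_mul, Matrix.map_apply, Matrix.neg_apply, map_neg]

theorem adj_sub (Y Z : Matrix ι ι F) : adj σ G (Y - Z) = adj σ G Y - adj σ G Z := by
  rw [sub_eq_add_neg, sub_eq_add_neg, adj_add, adj_neg]

theorem adj_smul (c : F) (Z : Matrix ι ι F) : adj σ G (c • Z) = σ c • adj σ G Z := by
  ext a b
  simp only [adj, Matrix.transpose_smul, Matrix.mul_smul, Matrix.smul_mul, Matrix.map_apply, Matrix.smul_apply,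
    smul_eq_mul, map_mul]

theorem HG.adj_adj (hG : HG σ G) (Z : Matrix ι ι F) : adj σ G (adj σ G Z) = Z := by
  have e : ((G⁻¹ * Zᵀ * G).map σ)ᵀ = G * Z.map σ * G⁻¹ := by
    rw [Matrix.map_mul, Matrix.map_mul, hG.map_inv, hG.herm, Matrix.transpose_mul, Matrix.transpose_mul,
      Matrix.transpose_transpose, Matrix.transpose_transpose, Matrix.transpose_map, Matrix.transpose_transpose,
      mul_assoc]
  rw [adj, adj, e, ← mul_assoc, ← mul_assoc, hG.inv_mul, one_mul, mul_assoc, hG.inv_mul, mul_one, hG.map_map]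

theorem HG.adj_E (hG : HG σ G) (u v : ι → F) : adj σ G (E σ G u v) = E σ G v u := by
  refine Matrix.ext_iff_mulVec.mpr fun a => hG.row_injective ?_
  rw [hG.row_adj, E_mulVec, row_smul, hG.sigma_fH, E, Matrix.vecMul_vecMulVec, fH, dotProduct_comm]

/-- The transvection operators are skew. -/
theorem HG.adj_smul_E_self (hG : HG σ G) {z : F} (hz : σ z = -z) (u : ι → F) :
    adj σ G (z • E σ G u u) = -(z • E σ G u u) := by
  rw [adj_smul, hG.adj_E, hz, neg_smul]

theorem HG.conj_E (hG : HG σ G) (g : Matrix ι ι F) (u v : ι → F) :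
    g * E σ G u v * adj σ G g = E σ G (g *ᵥ u) (g *ᵥ v) := by
  rw [mul_E, hG.E_mul', hG.adj_adj]

theorem HG.iso_fH (hG : HG σ G) {g : Matrix ι ι F} (h : adj σ G g * g = 1) (x a : ι → F) :
    fH σ G (g *ᵥ x) (g *ᵥ a) = fH σ G x a := by
  rw [← hG.fH_adj, Matrix.mulVec_mulVec, h, Matrix.one_mulVec]

theorem E_self_sq {u : ι → F} (hu : fH σ G u u = 0) : E σ G u u * E σ G u u = 0 := by
  rw [E_mul, hu, zero_smul]

theorem HG.E_ne_zero (hG : HG σ G) {u v : ι → F} (hu : u ≠ 0) (hv : v ≠ 0) : E σ G u v ≠ 0 := by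
  intro h
  obtain ⟨x, hx⟩ : ∃ x, fH σ G x v ≠ 0 := by
    by_contra! h'
    exact hv (hG.eq_zero_of_right h')
  have := congrArg (· *ᵥ x) h
  simp only [E_mulVec, Matrix.zero_mulVec] at this
  exact hu ((smul_eq_zero.1 this).resolve_left hx)

end Herm

/-! ### The tensor power -/

/-- The Gram matrix of the tensor power. -/
noncomputable def GT (t : ℕ) (G : Matrix (Fin m) (Fin m) F) : Matrix (TI t m) (TI t m) F := pureT fun _ => G

/-- An isotropic non-zero vector. -/
def Iso (σ : F →+* F) (G : Matrix (Fin m) (Fin m) F) (u : Fin m → F) : Prop := u ≠ 0 ∧ fH σ G u u = 0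

/-- The contraction `⟨a|Z|b⟩` at the position `i`. -/
def ct (σ : F →+* F) (G : Matrix (Fin m) (Fin m) F) (i : Fin t) (a b : Fin m → F)
    (Z : Matrix (TI t m) (TI t m) F) : Matrix (TI t m) (TI t m) F :=
  cn i (row σ G a) b Z

section Tensor

variable {G : Matrix (Fin m) (Fin m) F}

theorem pureT_map (η : Fin t → Matrix (Fin m) (Fin m) F) : (pureT η).map σ = pureT fun i => (η i).map σ := by
  ext x y
  simp [pureT, map_prod]

theorem pureT_inv {η : Fin t → Matrix (Fin m) (Fin m) F} (h : ∀ i, IsUnit (η i).det) :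
    (pureT η)⁻¹ = pureT fun i => (η i)⁻¹ := by
  refine Matrix.inv_eq_left_inv ?_
  rw [TensorWreath43.pureT_mul, ← TensorWreath43.pureT_one]
  congr 1
  funext i
  exact Matrix.nonsing_inv_mul _ (h i)

theorem HG.gt (hG : HG σ G) (t : ℕ) : HG σ (GT t G) where
  herm := by
    rw [GT, pureT_map, TensorWreath43.pureT_transpose, hG.herm]
  unit := by
    refine Matrix.isUnit_det_of_left_inverse (B := pureT fun _ => G⁻¹) ?_
    rw [GT, TensorWreath43.pureT_mul, ← TensorWreath43.pureT_one]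
    congr 1
    funext i
    exact hG.inv_mul
  invol := hG.invol
  ne := hG.ne

theorem row_pureV (v : Fin t → Fin m → F) : row σ (GT t G) (pureV v) = pureV fun i => row σ G (v i) := by
  rw [row, show (fun x => σ (pureV v x)) = pureV fun i j => σ (v i j) from funext fun x => map_prod σ _ _, GT,
    TensorWreath43.pureT_mulVec_pureV]
  rfl

theorem fH_pureV (u v : Fin t → Fin m → F) : fH σ (GT t G) (pureV u) (pureV v) = ∏ i, fH σ G (u i) (v i) := by
  rw [fH, row_pureV, TensorWreath43.pureV_dot]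
  rfl

theorem E_pureV (u v : Fin t → Fin m → F) :
    E σ (GT t G) (pureV u) (pureV v) = pureT fun i => E σ G (u i) (v i) := by
  rw [E, row_pureV, ← TensorWreath43.pureT_vecMulVec]
  rfl

theorem adj_pureT (hG : HG σ G) (η : Fin t → Matrix (Fin m) (Fin m) F) :
    adj σ (GT t G) (pureT η) = pureT fun i => adj σ G (η i) := by
  rw [adj, GT, pureT_inv fun _ => hG.unit, TensorWreath43.pureT_transpose, TensorWreath43.pureT_mul,
    TensorWreath43.pureT_mul, pureT_map]
  rfl

theorem adj_lift (hG : HG σ G) (j : Fin t) (η : Matrix (Fin m) (Fin m) F) :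
    adj σ (GT t G) (lift j η) = lift j (adj σ G η) := by
  rw [← TensorWreath43.pureT_update_eq_lift, ← TensorWreath43.pureT_update_eq_lift, adj_pureT hG]
  congr 1
  funext i
  by_cases hi : i = j
  · subst hi; simp
  · simp [hi, hG.adj_one]

theorem adj_comm (hG : HG σ G) {j : Fin t} {A : Matrix (TI t m) (TI t m) F} (hA : Comm j A) :
    Comm j (adj σ (GT t G) A) := by
  intro η
  have h := congrArg (adj σ (GT t G)) (hA (adj σ G η))
  rw [(hG.gt t).adj_mul, (hG.gt t).adj_mul, adj_lift hG, hG.adj_adj] at h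
  exact h.symm

theorem ct_add_left (i : Fin t) (a a' b : Fin m → F) (Z : Matrix (TI t m) (TI t m) F) :
    ct σ G i (a + a') b Z = ct σ G i a b Z + ct σ G i a' b Z := by
  rw [ct, row_add, TensorWreath43.cn_add_row]; rfl

theorem ct_add_right (i : Fin t) (a b b' : Fin m → F) (Z : Matrix (TI t m) (TI t m) F) :
    ct σ G i a (b + b') Z = ct σ G i a b Z + ct σ G i a b' Z :=
  TensorWreath43.cn_add_col i _ b b' Z

theorem ct_smul_left (i : Fin t) (c : F) (a b : Fin m → F) (Z : Matrix (TI t m) (TI t m) F) :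
    ct σ G i (c • a) b Z = σ c • ct σ G i a b Z := by
  rw [ct, row_smul, TensorWreath43.cn_smul_row]; rfl

theorem ct_smul_right (i : Fin t) (c : F) (a b : Fin m → F) (Z : Matrix (TI t m) (TI t m) F) :
    ct σ G i a (c • b) Z = c • ct σ G i a b Z :=
  TensorWreath43.cn_smul_col i c _ b Z

theorem ct_add (i : Fin t) (a b : Fin m → F) (Y Z : Matrix (TI t m) (TI t m) F) :
    ct σ G i a b (Y + Z) = ct σ G i a b Y + ct σ G i a b Z := by
  simp only [ct, cn, mul_add, add_mul, Finset.sum_add_distrib]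

theorem ct_sub (i : Fin t) (a b : Fin m → F) (Y Z : Matrix (TI t m) (TI t m) F) :
    ct σ G i a b (Y - Z) = ct σ G i a b Y - ct σ G i a b Z :=
  TensorWreath43.cn_sub i _ b Y Z

theorem ct_smul (i : Fin t) (c : F) (a b : Fin m → F) (Z : Matrix (TI t m) (TI t m) F) :
    ct σ G i a b (c • Z) = c • ct σ G i a b Z := by
  simp only [ct, cn, Matrix.mul_smul, Matrix.smul_mul, Finset.smul_sum]

theorem ct_zero (i : Fin t) (a b : Fin m → F) : ct σ G i a b (0 : Matrix (TI t m) (TI t m) F) = 0 := by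
  simp [ct, cn]

theorem comm_ct (i : Fin t) (a b : Fin m → F) (Z : Matrix (TI t m) (TI t m) F) : Comm i (ct σ G i a b Z) :=
  TensorWreath43.comm_cn i _ _ Z

theorem comm_ct_of_comm {i j : Fin t} (h : i ≠ j) (a b : Fin m → F) {Z : Matrix (TI t m) (TI t m) F}
    (hZ : Comm j Z) : Comm j (ct σ G i a b Z) :=
  TensorWreath43.comm_cn_of_comm h _ _ hZ

theorem lift_E_mul_ct (i : Fin t) (u v a b : Fin m → F) (Z : Matrix (TI t m) (TI t m) F) :
    lift i (E σ G u v) * ct σ G i a b Z = lift i (E σ G u a) * Z * lift i (E σ G b v) :=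
  TensorWreath43.lift_mul_cn i _ _ _ _ Z

theorem sandwich (i : Fin t) (u v : Fin m → F) (Z : Matrix (TI t m) (TI t m) F) (a b : Fin m → F) :
    lift i (E σ G u a) * Z * lift i (E σ G b v) = lift i (E σ G u v) * ct σ G i a b Z :=
  (lift_E_mul_ct i u v a b Z).symm

theorem ct_lift_mul {i : Fin t} {C : Matrix (TI t m) (TI t m) F} (hC : Comm i C) (a b : Fin m → F)
    (η : Matrix (Fin m) (Fin m) F) : ct σ G i a b (lift i η * C) = fH σ G (η *ᵥ b) a • C := by
  rw [ct, TensorWreath43.cn_lift_mul hC, dotProduct_comm]; rfl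

theorem ct_mul_lift (i : Fin t) (a b : Fin m → F) (η : Matrix (Fin m) (Fin m) F) (Z : Matrix (TI t m) (TI t m) F) :
    ct σ G i a b (Z * lift i η) = ct σ G i a (η *ᵥ b) Z := by
  simp only [ct, cn, mul_assoc, ← TensorWreath43.lift_mul, Matrix.mul_vecMulVec]

theorem ct_lift_left (hG : HG σ G) (i : Fin t) (a b : Fin m → F) (η : Matrix (Fin m) (Fin m) F)
    (Z : Matrix (TI t m) (TI t m) F) : ct σ G i a b (lift i η * Z) = ct σ G i (adj σ G η *ᵥ a) b Z := by
  simp only [ct, cn, ← mul_assoc, ← TensorWreath43.lift_mul, Matrix.vecMulVec_mul, hG.row_adj]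

theorem ct_comm_mul {i : Fin t} {C : Matrix (TI t m) (TI t m) F} (hC : Comm i C) (a b : Fin m → F)
    (Z : Matrix (TI t m) (TI t m) F) : ct σ G i a b (C * Z) = C * ct σ G i a b Z :=
  TensorWreath43.cn_comm_mul hC _ _ Z

theorem ct_mul_comm {i : Fin t} {C : Matrix (TI t m) (TI t m) F} (hC : Comm i C) (a b : Fin m → F)
    (Z : Matrix (TI t m) (TI t m) F) : ct σ G i a b (Z * C) = ct σ G i a b Z * C := by
  simp only [ct, cn, Finset.sum_mul]
  refine Finset.sum_congr rfl fun l _ => ?_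
  rw [mul_assoc (lift i _ * Z) (lift i _) C, hC]
  simp only [mul_assoc]

theorem eq_zero_of_ct (hG : HG σ G) (i : Fin t) {Z : Matrix (TI t m) (TI t m) F}
    (h : ∀ a b, ct σ G i a b Z = 0) : Z = 0 :=
  TensorWreath43.eq_zero_of_cn i fun r v => by
    obtain ⟨a, rfl⟩ := hG.exists_row r
    exact h a v

theorem eq_of_ct (hG : HG σ G) (i : Fin t) {Y Z : Matrix (TI t m) (TI t m) F}
    (h : ∀ a b, ct σ G i a b Y = ct σ G i a b Z) : Y = Z :=
  sub_eq_zero.1 (eq_zero_of_ct hG i fun a b => by rw [ct_sub, h, sub_self])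

theorem adj_ct (hG : HG σ G) (i : Fin t) (a b : Fin m → F) (Z : Matrix (TI t m) (TI t m) F) :
    adj σ (GT t G) (ct σ G i a b Z) = ct σ G i b a (adj σ (GT t G) Z) := by
  by_cases hm : m = 0
  · subst hm
    exact eq_of_ct hG i fun c d => by
      rw [Subsingleton.elim c 0, ← zero_smul F (0 : Fin 0 → F), ct_smul_left, ct_smul_left, map_zero, zero_smul,
        zero_smul]
  haveI : NeZero m := ⟨hm⟩
  have he : (Pi.single (0 : Fin m) (1 : F) : Fin m → F) ≠ 0 := fun h => one_ne_zero (α := F) (by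
    simpa using congrFun h 0)
  set e : Fin m → F := Pi.single 0 1
  refine sub_eq_zero.1 (TensorWreath43.eq_zero_of_lift_mul (hG.E_ne_zero he he)
    ((adj_comm hG (comm_ct i a b Z)).sub (comm_ct i b a _)) ?_)
  rw [mul_sub, sub_eq_zero, lift_E_mul_ct]
  have h := congrArg (adj σ (GT t G)) (lift_E_mul_ct (σ := σ) (G := G) i e e a b Z)
  rw [(hG.gt t).adj_mul, (hG.gt t).adj_mul, (hG.gt t).adj_mul, adj_lift hG, adj_lift hG, adj_lift hG, hG.adj_E,
    hG.adj_E, hG.adj_E, ← mul_assoc] at h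
  rw [(adj_comm hG (comm_ct i a b Z)) _]
  exact h

end Tensor

/-! ### Overgroups -/

/-- The hypotheses on an overgroup of a unitary tensor wreath stabiliser. -/
structure UOver (σ : F →+* F) (G : Matrix (Fin m) (Fin m) F) (M : Subgroup (GL (TI t m) F)) : Prop where
  hG : HG σ G
  hm : 3 ≤ m
  ht : 2 ≤ t
  q2 : (∀ c, σ c = c → c = 0 ∨ c = 1) → 4 ≤ m
  root : ∀ (j : Fin t) (η : GL (Fin m) F),
    adj σ G (η : Matrix (Fin m) (Fin m) F) * (η : Matrix (Fin m) (Fin m) F) = 1 →
    (η : Matrix (Fin m) (Fin m) F).det = 1 → Units.map (liftHom (F := F) j).toMonoidHom η ∈ M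
  perm : ∀ π : Equiv.Perm (Fin t), π ^ 3 = 1 → permU π ∈ M
  iso : ∀ g ∈ M, adj σ (GT t G) (g : Matrix (TI t m) (TI t m) F) * (g : Matrix (TI t m) (TI t m) F) = 1

/-- The transvections at `V` lie in `M`. -/
def TV (σ : F →+* F) (G : Matrix (Fin m) (Fin m) F) (M : Subgroup (GL (TI t m) F)) (V : TI t m → F) : Prop :=
  ∀ z : F, σ z = -z → MemU M (z • E σ (GT t G) V V)

/-- All transvections lie in `M`. -/
def Big (σ : F →+* F) (G : Matrix (Fin m) (Fin m) F) (M : Subgroup (GL (TI t m) F)) : Prop :=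
  ∀ V : TI t m → F, fH σ (GT t G) V V = 0 → TV σ G M V

section Form

variable [Fintype F] {G : Matrix (Fin m) (Fin m) F}

theorem HG.uform (hG : HG σ G) : UForm σ (fH σ G) :=
  ⟨⟨fH_add_left, fH_smul_left, fun x y => by rw [one_mul, hG.sigma_fH], hG.invol, by simp,
    fun _ h => hG.eq_zero_of_left h⟩, hG.ne⟩

theorem iso_def {u : Fin m → F} : Iso σ G u ↔ TensorMax.Iso (fH σ G) u := Iff.rfl

theorem Iso.E_sq {u : Fin m → F} (h : Iso σ G u) : E σ G u u * E σ G u u = 0 := E_self_sq h.2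

theorem Iso.E_ne (hG : HG σ G) {u : Fin m → F} (h : Iso σ G u) : E σ G u u ≠ 0 := hG.E_ne_zero h.1 h.1

theorem HG.exists_partner (hG : HG σ G) {u : Fin m → F} (hu : Iso σ G u) :
    ∃ r, Iso σ G r ∧ fH σ G u r = 1 ∧ fH σ G r u = 1 :=
  hG.uform.exists_partner hu

theorem HG.exists_iso (hG : HG σ G) (hm : 2 ≤ m) : ∃ u, Iso σ G u := by
  obtain ⟨u, hu, -⟩ := hG.uform.exists_iso_perp (m := 0) (by omega) Fin.elim0
  exact ⟨u, hu⟩

theorem HG.exists_skew (hG : HG σ G) : ∃ z : F, z ≠ 0 ∧ σ z = -z := hG.uform.exists_skew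

theorem HG.nondeg_top (hG : HG σ G) :
    Cfsg.Geo.IsNondegenerateOn (fH σ G) (⊤ : Submodule F (Fin m → F)) := fun w _ hw => by
  obtain ⟨⟨x, hx⟩, ⟨y, hy⟩⟩ := hG.uform.isU.nondegenerate w hw
  exact ⟨⟨x, Submodule.mem_top, hx⟩, ⟨y, Submodule.mem_top, hy⟩⟩

/-- Outside a hyperbolic pair every fixed scalar is the length of a vector. -/
theorem HG.exists_perp_val (hG : HG σ G) (hm : 3 ≤ m) {u v : Fin m → F} (hu : Iso σ G u) (hv : Iso σ G v)
    (huv : fH σ G u v ≠ 0) {s : F} (hs : σ s = s) :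
    ∃ x, fH σ G x u = 0 ∧ fH σ G x v = 0 ∧ fH σ G x x = s := by
  have hU := hG.uform.isU
  set W := Submodule.span F ({u, v} : Set (Fin m → F))
  have hne : (⊤ : Submodule F (Fin m → F)) ⊓ TransvectionUnitary.perp hU W ≠ ⊥ := by
    intro h
    obtain ⟨a, ha⟩ : ∃ a, a ∉ W := by
      by_contra! h'
      have e : W = ⊤ := eq_top_iff.2 fun x _ => h' x
      classical
      have h1 := finrank_span_le_card (R := F) ({u, v} : Set (Fin m → F))
      have h2 : ({u, v} : Set (Fin m → F)).toFinset.card ≤ 2 := by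
        rw [Set.toFinset_insert, Set.toFinset_singleton]
        exact Finset.card_le_two
      rw [show Submodule.span F ({u, v} : Set (Fin m → F)) = ⊤ from e, finrank_top, Module.finrank_fin_fun] at h1
      omega
    obtain ⟨y, hy, hya⟩ := TransvectionUnitary.exists_perp_val hU ha (1 : F)
    have : y = 0 := (Submodule.mem_bot F).1 (h ▸ ⟨Submodule.mem_top, hy⟩)
    rw [this, fH_zero_left] at hya
    exact zero_ne_one hya
  obtain ⟨x, hx, hxx⟩ := TransvectionUnitaryGen.exists_norm_val hU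
    (TransvectionUnitaryGen.inf_perp_pair_nondeg hU hG.nondeg_top Submodule.mem_top Submodule.mem_top hu.2 hv.2 huv)
    hne hs
  obtain ⟨h1, h2⟩ := (TransvectionUnitary.mem_perp_pair hU).1 hx.2
  exact ⟨x, h1, h2, hxx⟩

/-- A scaling of an isotropic line by a special isometry. -/
theorem HG.exists_torus (hG : HG σ G) (hm : 3 ≤ m) {u : Fin m → F} (hu : Iso σ G u) {a : F} (ha : a ≠ 0) :
    ∃ η : GL (Fin m) F, adj σ G (η : Matrix (Fin m) (Fin m) F) * (η : Matrix (Fin m) (Fin m) F) = 1 ∧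
      (η : Matrix (Fin m) (Fin m) F).det = 1 ∧ (η : Matrix (Fin m) (Fin m) F) *ᵥ u = a • u := by
  obtain ⟨r, hr, hur, hru⟩ := hG.exists_partner hu
  obtain ⟨x, hxu, hxr, hxx⟩ := hG.exists_perp_val hm hu hr (by rw [hur]; exact one_ne_zero) (map_one σ)
  have hux := hG.symm_zero hxu
  have hrx := hG.symm_zero hxr
  have hσa : σ a ≠ 0 := (map_ne_zero σ).2 ha
  set α := a - 1 with hα
  set β := (σ a)⁻¹ - 1 with hβ
  set γ := σ a / a - 1 with hγ
  set A := 1 + α • E σ G u r with hA
  set B := 1 + β • E σ G r u with hB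
  set C := 1 + γ • E σ G x x with hC
  have hdet : (A * B * C).det = 1 := by
    rw [Matrix.det_mul, Matrix.det_mul, hA, hB, hC, det_one_add_E, det_one_add_E, det_one_add_E, hur, hru, hxx]
    simp only [hα, hβ, hγ]
    field_simp
    ring
  have hprod : A * B * C = 1 + α • E σ G u r + β • E σ G r u + γ • E σ G x x := by
    rw [hA, hB, hC]
    simp only [add_mul, mul_add, one_mul, mul_one, smul_mul_assoc, mul_smul_comm, E_mul, hr.2, hxu, hxr, zero_smul,
      smul_zero, add_zero]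
  have hact : ∀ y, (A * B * C) *ᵥ y =
      y + (α * fH σ G y r) • u + (β * fH σ G y u) • r + (γ * fH σ G y x) • x := fun y => by
    rw [hprod, Matrix.add_mulVec, Matrix.add_mulVec, Matrix.add_mulVec, Matrix.one_mulVec, Matrix.smul_mulVec,
      Matrix.smul_mulVec, Matrix.smul_mulVec, E_mulVec, E_mulVec, E_mulVec, smul_smul, smul_smul, smul_smul]
  have hiso : adj σ G (A * B * C) * (A * B * C) = 1 := by
    rw [hprod, adj_add, adj_add, adj_add, adj_smul, adj_smul, adj_smul, hG.adj_one, hG.adj_E, hG.adj_E, hG.adj_E]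
    simp only [add_mul, mul_add, one_mul, mul_one, smul_mul_assoc, mul_smul_comm, E_mul, hu.2, hr.2, hxx, hur, hru,
      hxu, hxr, hux, hrx, zero_smul, smul_zero, add_zero, zero_add, one_smul, smul_smul]
    have e1 : σ α + β + σ α * β = 0 := by
      rw [hα, hβ, map_sub, map_one]; field_simp; ring
    have e2 : σ β + α + σ β * α = 0 := by
      rw [hα, hβ, map_sub, map_one, map_inv₀, hG.invol]; field_simp; ring
    have e3 : σ γ + γ + σ γ * γ = 0 := by
      rw [hγ, map_sub, map_one, map_div₀, hG.invol]; field_simp; ring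
    have e1' : β = -σ α - σ α * β := by linear_combination e1
    calc _ = 1 + (σ β + α + σ β * α) • E σ G u r + (σ α + β + σ α * β) • E σ G r u +
          (σ γ + γ + σ γ * γ) • E σ G x x := by module
      _ = 1 := by rw [e1, e2, e3]; simp
  refine ⟨Matrix.GeneralLinearGroup.mkOfDetNeZero (A * B * C) (by rw [hdet]; exact one_ne_zero), hiso, hdet, ?_⟩
  show (A * B * C) *ᵥ u = _
  rw [hact, hur, hu.2, hux, hα]
  simp only [mul_one, mul_zero, zero_smul, add_zero]
  module

/-- A transvection at an isotropic vector. -/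
theorem HG.exists_transvection (hG : HG σ G) {u : Fin m → F} (hu : fH σ G u u = 0) {z : F} (hz : σ z = -z) :
    ∃ η : GL (Fin m) F, adj σ G (η : Matrix (Fin m) (Fin m) F) * (η : Matrix (Fin m) (Fin m) F) = 1 ∧
      (η : Matrix (Fin m) (Fin m) F).det = 1 ∧ (η : Matrix (Fin m) (Fin m) F) = 1 + z • E σ G u u := by
  have hdet : (1 + z • E σ G u u).det = 1 := by rw [det_one_add_E, hu, mul_zero, add_zero]
  refine ⟨Matrix.GeneralLinearGroup.mkOfDetNeZero _ (by rw [hdet]; exact one_ne_zero), ?_, hdet, rfl⟩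
  show adj σ G (1 + z • E σ G u u) * (1 + z • E σ G u u) = 1
  rw [adj_add, hG.adj_one, hG.adj_smul_E_self hz]
  simp only [add_mul, mul_add, one_mul, mul_one, neg_mul, smul_mul_assoc, mul_smul_comm, E_self_sq hu, smul_zero]
  abel

/-- The special isometries are transitive on the isotropic vectors. -/
theorem HG.exists_move (hG : HG σ G) (hm : 3 ≤ m) {u w : Fin m → F} (hu : Iso σ G u) (hw : Iso σ G w) :
    ∃ η : GL (Fin m) F, adj σ G (η : Matrix (Fin m) (Fin m) F) * (η : Matrix (Fin m) (Fin m) F) = 1 ∧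
      (η : Matrix (Fin m) (Fin m) F).det = 1 ∧ (η : Matrix (Fin m) (Fin m) F) *ᵥ u = w := by
  have H := hG.uform
  let P : (Fin m → F) → (Fin m → F) → Prop := fun u w =>
    ∃ η : GL (Fin m) F, adj σ G (η : Matrix (Fin m) (Fin m) F) * (η : Matrix (Fin m) (Fin m) F) = 1 ∧
      (η : Matrix (Fin m) (Fin m) F).det = 1 ∧ (η : Matrix (Fin m) (Fin m) F) *ᵥ u = w
  have trans : ∀ {u v w}, P u v → P v w → P u w := by
    rintro u v w ⟨a, ha1, ha2, ha3⟩ ⟨b, hb1, hb2, hb3⟩
    refine ⟨b * a, ?_, by rw [Units.val_mul, Matrix.det_mul, ha2, hb2, one_mul],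
      by rw [Units.val_mul, ← Matrix.mulVec_mulVec, ha3, hb3]⟩
    rw [Units.val_mul, hG.adj_mul, mul_assoc, ← mul_assoc (adj σ G (b : Matrix (Fin m) (Fin m) F)), hb1, one_mul, ha1]
  have step : ∀ {u w}, Iso σ G u → Iso σ G w → fH σ G u w ≠ 0 → P u w := by
    intro u w hu hw huw
    obtain ⟨b, z, s, hb, hz, hs, he⟩ := H.move_scale hu.2 hw.2 huw
    obtain ⟨η, h1, h2, h3⟩ := hG.exists_transvection hb hz
    obtain ⟨τ, hτ1, hτ2, hτ3⟩ := hG.exists_torus hm hw (inv_ne_zero hs)
    refine trans (v := s • w) ⟨η, h1, h2, ?_⟩ ⟨τ, hτ1, hτ2, by rw [Matrix.mulVec_smul, hτ3, smul_smul,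
      mul_inv_cancel₀ hs, one_smul]⟩
    rw [h3, Matrix.add_mulVec, Matrix.one_mulVec, Matrix.smul_mulVec, E_mulVec, smul_smul, ← H.ft_apply hb, he]
  obtain ⟨c, hc, hcu, hcw⟩ := H.exists_common hu hw
  exact trans (step hu hc fun e => hcu (hG.symm_zero e)) (step hc hw hcw)

end Form

section Over

variable [Fintype F] {G : Matrix (Fin m) (Fin m) F} {M : Subgroup (GL (TI t m) F)} (H : UOver σ G M)
include H

theorem UOver.inv_val {g : GL (TI t m) F} (hg : g ∈ M) :
    ((g⁻¹ : GL (TI t m) F) : Matrix (TI t m) (TI t m) F) = adj σ (GT t G) (g : Matrix (TI t m) (TI t m) F) := by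
  rw [← one_mul ((g⁻¹ : GL (TI t m) F) : Matrix (TI t m) (TI t m) F), ← H.iso g hg, mul_assoc, Units.mul_inv,
    mul_one]

theorem UOver.skew_of_sq {X : Matrix (TI t m) (TI t m) F} (hX : MemU M X) (h : X * X = 0) :
    adj σ (GT t G) X = -X := by
  obtain ⟨g, hg, hgX⟩ := hX
  have e : ((g⁻¹ : GL (TI t m) F) : Matrix (TI t m) (TI t m) F) = 1 - X :=
    Units.inv_eq_of_mul_eq_one_right (by rw [hgX, add_mul, one_mul, mul_sub, mul_one, h]; abel)
  rw [H.inv_val hg, hgX, adj_add, (H.hG.gt t).adj_one, sub_eq_add_neg] at e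
  exact add_left_cancel e

theorem UOver.root_mem (i : Fin t) {u : Fin m → F} (hu : fH σ G u u = 0) {z : F} (hz : σ z = -z) :
    MemU M (z • lift i (E σ G u u)) := by
  obtain ⟨η, h1, h2, h3⟩ := H.hG.exists_transvection hu hz
  refine ⟨_, H.root i η h1 h2, ?_⟩
  show lift i (η : Matrix (Fin m) (Fin m) F) = _
  rw [h3, TensorWreath43.lift_add, TensorWreath43.lift_one, TensorWreath43.lift_smul]

theorem UOver.lift_conj (i : Fin t) {η : GL (Fin m) F}
    (h1 : adj σ G (η : Matrix (Fin m) (Fin m) F) * (η : Matrix (Fin m) (Fin m) F) = 1)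
    (h2 : (η : Matrix (Fin m) (Fin m) F).det = 1)
    {X : Matrix (TI t m) (TI t m) F} (hX : MemU M X) :
    MemU M (lift i (η : Matrix (Fin m) (Fin m) F) * X * lift i (adj σ G (η : Matrix (Fin m) (Fin m) F))) := by
  have := hX.conjU (H.root i η h1 h2)
  rw [H.inv_val (H.root i η h1 h2)] at this
  rw [show ((Units.map (liftHom (F := F) i).toMonoidHom η : GL (TI t m) F) : Matrix (TI t m) (TI t m) F) =
    lift i (η : Matrix (Fin m) (Fin m) F) from rfl, adj_lift H.hG] at this
  exact this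

theorem UOver.conj_root (i : Fin t) {u : Fin m → F} (hu : fH σ G u u = 0) {z : F} (hz : σ z = -z)
    {X : Matrix (TI t m) (TI t m) F} (hX : MemU M X) :
    MemU M (X + z • (lift i (E σ G u u) * X - X * lift i (E σ G u u)) -
      (z * z) • (lift i (E σ G u u) * X * lift i (E σ G u u))) := by
  obtain ⟨η, h1, h2, h3⟩ := H.hG.exists_transvection hu hz
  have := H.lift_conj i h1 h2 hX
  rw [h3, adj_add, H.hG.adj_one, H.hG.adj_smul_E_self hz, ← sub_eq_add_neg, TensorWreath43.lift_add,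
    TensorWreath43.lift_one, TensorWreath43.lift_smul] at this
  have e : lift i (1 - z • E σ G u u) = 1 - z • lift i (E σ G u u) := by
    show liftHom (F := F) i _ = _
    rw [map_sub, map_one, TensorWreath43.liftHom_apply, TensorWreath43.lift_smul]
  rw [e] at this
  convert this using 1
  simp only [add_mul, mul_sub, one_mul, mul_one, smul_mul_assoc, mul_smul_comm, smul_sub, smul_add, smul_smul]
  abel

end Over

end Cfsg.Agent.TensorWreathU84
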