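import Cfsg.Agent.Lib.TensorWreathU84Iter
import Cfsg.Agent.Lib.TensorWreath43Sum

/-!
The contraction of a root element at a root over a field with more than two fixed elements: it is scalar, or
invertible with a hyperplane of the perp killed up to the isotropic line.
-/

set_option autoImplicit false
set_option linter.unusedSectionVars false

namespace Cfsg.Agent.TensorWreathU84

open scoped Matrix
open Cfsg.Agent.TensorWreath43 (TI lift liftHom Comm cn MemU)

variable {F : Type*} [Field F] [Fintype F] {σ : F →+* F} {t m : ℕ}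
variable {G : Matrix (Fin m) (Fin m) F} {M : Subgroup (GL (TI t m) F)}

/-- `u` fixes everything killed by both `L` and `X`. -/
def Fixes (L X : Matrix (TI t m) (TI t m) F) (u : GL (TI t m) F) : Prop :=
  ∀ K : Matrix (TI t m) (TI t m) F, L * K = 0 → X * K = 0 → (u : Matrix (TI t m) (TI t m) F) * K = K

theorem fixes_closure {L X : Matrix (TI t m) (TI t m) F} {S : Set (GL (TI t m) F)}
    (hS : ∀ g ∈ S, Fixes L X g) {u : GL (TI t m) F} (hu : u ∈ Subgroup.closure S) : Fixes L X u := by
  refine Subgroup.closure_induction (p := fun g _ => Fixes L X g) hS ?_ ?_ ?_ hu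
  · intro K _ _; rw [Units.val_one, one_mul]
  · intro a b _ _ ha hb K h1 h2
    rw [Units.val_mul, mul_assoc, hb K h1 h2, ha K h1 h2]
  · intro a _ ha K h1 h2
    conv_lhs => rw [← ha K h1 h2]
    rw [Units.inv_mul_cancel_left]

/-- The plane property: the perp of `w` is killed up to the line of `w`. -/
def Plane (σ : F →+* F) (G : Matrix (Fin m) (Fin m) F) (j : Fin t) (w : Fin m → F)
    (X : Matrix (TI t m) (TI t m) F) : Prop :=
  ∀ b, fH σ G b w = 0 → ∃ c : F, ∀ q, X * lift j (E σ G (b + c • w) q) = 0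

variable (H : UOver σ G M)
include H

theorem UOver.range_of_conj {j : Fin t} {w r : Fin m → F} (hwr : fH σ G w r = 1)
    (hrw : fH σ G r w = 1) {g : GL (TI t m) F} {κ : F}
    (h : (g : Matrix (TI t m) (TI t m) F) * lift j (E σ G w w) * ((g⁻¹ : GL (TI t m) F) : Matrix (TI t m) (TI t m) F) =
      κ • lift j (E σ G w w)) :
    lift j (E σ G w r) * (g : Matrix (TI t m) (TI t m) F) * lift j (E σ G w r) =
      (g : Matrix (TI t m) (TI t m) F) * lift j (E σ G w r) := by
  set L := lift j (E σ G w w) with hL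
  have eL : (g : Matrix (TI t m) (TI t m) F) * L = κ • (L * (g : Matrix (TI t m) (TI t m) F)) := by
    rw [← Matrix.smul_mul, ← h, mul_assoc, Units.inv_mul, mul_one]
  have eQ : lift j (E σ G w r) = L * lift j (E σ G r r) := by
    rw [hL, ← TensorWreath43.lift_mul, E_mul, hrw, one_smul]
  have eQL : lift j (E σ G w r) * L = L := by rw [hL, ← TensorWreath43.lift_mul, E_mul, hwr, one_smul]
  conv_lhs => arg 2; rw [eQ]
  conv_rhs => arg 2; rw [eQ]
  rw [mul_assoc (lift j (E σ G w r)), ← mul_assoc _ L, eL, Matrix.smul_mul, Matrix.mul_smul, ← mul_assoc,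
    ← mul_assoc, eQL]

/-- Vectors over the perp killed by the root and the element. -/
theorem UOver.exists_fixed {j : Fin t} {w r : Fin m → F} (hw : Iso σ G w) (hwr : fH σ G w r = 1)
    {X : Matrix (TI t m) (TI t m) F} (hX : Root σ G M X) (hc : Cond σ G j w r X) {b : Fin m → F}
    (hb : fH σ G b w = 0) : ∃ N, Comm j N ∧ ∀ q,
      lift j (E σ G w w) * (lift j (E σ G b q) - lift j (E σ G w q) * N) = 0 ∧
      X * (lift j (E σ G b q) - lift j (E σ G w q) * N) = 0 := by
  set L := lift j (E σ G w w) with hL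
  obtain ⟨W, hW⟩ := factor_of_ker (A := (1 - lift j (E σ G w r)) * X) (B := L * X) fun v hv => by
    rw [← Matrix.mulVec_mulVec] at hv ⊢
    rw [Matrix.sub_mulVec, Matrix.one_mulVec, hc.1 v hv, sub_self]
  have hadj := congrArg (adj σ (GT t G)) hW
  rw [(H.hG.gt t).adj_mul, (H.hG.gt t).adj_mul, (H.hG.gt t).adj_mul, H.root_adj hX, adj_sub, (H.hG.gt t).adj_one,
    adj_lift H.hG, hL, adj_lift H.hG, H.hG.adj_E, H.hG.adj_E, ← hL] at hadj
  refine ⟨ct σ G j w b (adj σ (GT t G) W), comm_ct _ _ _ _, fun q => ⟨?_, ?_⟩⟩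
  · rw [mul_sub, ← mul_assoc, hL, ← TensorWreath43.lift_mul, ← TensorWreath43.lift_mul, E_mul, E_mul, hb, hw.2,
      zero_smul, TensorWreath43.lift_zero, zero_mul, sub_zero]
  · have e1 : X * lift j (E σ G b q) = X * (1 - lift j (E σ G r w)) * lift j (E σ G b q) := by
      rw [mul_assoc X, sub_mul, one_mul, ← TensorWreath43.lift_mul, E_mul, hb, zero_smul, TensorWreath43.lift_zero,
        sub_zero]
    rw [mul_sub, e1, hadj, lift_E_mul_ct, sub_eq_zero]
    simp only [mul_assoc, hL]

theorem UOver.exists_kernel {j : Fin t} {w r : Fin m → F} (hrw : fH σ G r w = 1)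
    {C : Matrix (TI t m) (TI t m) F} (hC : Comm j C) (hu : ¬ IsUnit C) :
    ∃ e, lift j (E σ G w w) *ᵥ e ≠ 0 ∧ C *ᵥ (lift j (E σ G w w) *ᵥ e) = 0 := by
  classical
  haveI := H.neZero
  rw [Matrix.isUnit_iff_isUnit_det, isUnit_iff_ne_zero, not_not] at hu
  obtain ⟨v, hv0, hv⟩ := Matrix.exists_mulVec_eq_zero_iff.2 hu
  obtain ⟨a, ha⟩ : ∃ a, lift j (E σ G w a) *ᵥ v ≠ 0 := by
    by_contra! h
    refine hv0 ?_
    have h1 : ∀ c a, lift j (E σ G c a) *ᵥ v = 0 := fun c a => by
      rw [show E σ G c a = E σ G c r * E σ G w a by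
        rw [E_mul, show fH σ G w r = 1 by rw [← H.hG.sigma_fH, hrw, map_one], one_smul],
        TensorWreath43.lift_mul, ← Matrix.mulVec_mulVec, h, Matrix.mulVec_zero]
    rw [← Matrix.one_mulVec v, ← TensorWreath43.lift_one (F := F) (m := m) j, ← TensorWreath43.sum_vec_single,
      TensorWreath43.lift_sum, Matrix.sum_mulVec]
    refine Finset.sum_eq_zero fun p _ => ?_
    obtain ⟨a, ha⟩ := H.hG.exists_row (Pi.single p (1 : F))
    rw [← ha]
    exact h1 _ a
  have e : lift j (E σ G w a) = lift j (E σ G w w) * lift j (E σ G r a) := by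
    rw [← TensorWreath43.lift_mul, E_mul, hrw, one_smul]
  refine ⟨lift j (E σ G r a) *ᵥ v, by rwa [Matrix.mulVec_mulVec, ← e], ?_⟩
  rw [Matrix.mulVec_mulVec _ (lift j (E σ G w w)), ← e, Matrix.mulVec_mulVec, ← hC, ← Matrix.mulVec_mulVec, hv,
    Matrix.mulVec_zero]

variable (hB : ¬ Big σ G M)
include hB

set_option maxHeartbeats 1000000 in
/-- The core argument over more than two fixed elements. -/
theorem UOver.core_big (hfix : ¬ ∀ c, σ c = c → c = 0 ∨ c = 1) {j : Fin t} {w r : Fin m → F} (hw : Iso σ G w)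
    (hr : Iso σ G r) (hwr : fH σ G w r = 1) (hrw : fH σ G r w = 1)
    {X : Matrix (TI t m) (TI t m) F} (hX : Root σ G M X) (hc : Cond σ G j w r X)
    (hns : ¬ ∃ c : F, ct σ G j w w X = c • 1) : IsUnit (ct σ G j w w X) ∧ Plane σ G j w X := by
  classical
  haveI := H.neZero
  set L := lift j (E σ G w w) with hL
  obtain ⟨z, hz0, hz⟩ := H.hG.exists_skew
  let S : Set (GL (TI t m) F) := {g | ∃ b : F, σ b = b ∧
    ((g : Matrix (TI t m) (TI t m) F) = 1 + (b * z) • L ∨ (g : Matrix (TI t m) (TI t m) F) = 1 + (b * z) • X)}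
  set A := Subgroup.closure S
  have hAM : A ≤ M := by
    refine (Subgroup.closure_le _).2 ?_
    rintro g ⟨b, hb, hg | hg⟩
    · obtain ⟨g', hg', hg'X⟩ := H.root_mem_smul (H.root_lift j hw) (skew_mul_fixed hz hb)
      rw [show g = g' from Units.ext (hg.trans hg'X.symm)]; exact hg'
    · obtain ⟨g', hg', hg'X⟩ := H.root_mem_smul hX (skew_mul_fixed hz hb)
      rw [show g = g' from Units.ext (hg.trans hg'X.symm)]; exact hg'
  have hfixes : ∀ u ∈ A, Fixes L X u := fun u hu => fixes_closure (by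
    rintro g ⟨b, -, hg | hg⟩ K h1 h2 <;> rw [hg, add_mul, one_mul, Matrix.smul_mul] <;>
      first | rw [h1, smul_zero, add_zero] | rw [h2, smul_zero, add_zero]) hu
  have hC0 : ct σ G j w w X ≠ 0 := fun e => hns ⟨0, by rw [e, zero_smul]⟩
  -- the shape of an element stabilising the range
  have hshape : ∀ u ∈ A, lift j (E σ G w r) * (u : Matrix (TI t m) (TI t m) F) * lift j (E σ G w r) =
      (u : Matrix (TI t m) (TI t m) F) * lift j (E σ G w r) →
      (∃ s, σ s = s ∧ (u : Matrix (TI t m) (TI t m) F) = 1 + (s * z) • L) ∨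
      (IsUnit (ct σ G j w w X) ∧ Plane σ G j w X) := by
    intro u hu hR
    obtain ⟨β, α, hα, huv⟩ := (H.dec_of_range hB hw hr hwr hrw (hAM hu) hR).decomp
    have huval : (u : Matrix (TI t m) (TI t m) F) =
        lift j (β : Matrix (Fin m) (Fin m) F) * (α : Matrix (TI t m) (TI t m) F) := by rw [huv]; rfl
    set bv := (β : Matrix (Fin m) (Fin m) F)
    set av := (α : Matrix (TI t m) (TI t m) F)
    have mv : ∀ x q, (u : Matrix (TI t m) (TI t m) F) * lift j (E σ G x q) = lift j (E σ G (bv *ᵥ x) q) * av := by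
      intro x q
      rw [huval, mul_assoc, ← hα, ← mul_assoc, ← TensorWreath43.lift_mul, mul_E]
    obtain ⟨l, hl⟩ : ∃ l : F, bv *ᵥ w = l • w := by
      have h1 := hR
      rw [mul_assoc (lift j (E σ G w r)), mv, ← mul_assoc, ← TensorWreath43.lift_mul, E_mul] at h1
      have h2 : lift j (fH σ G (bv *ᵥ w) r • E σ G w r) = lift j (E σ G (bv *ᵥ w) r) := by
        have := congrArg (· * ((α⁻¹ : GL (TI t m) F) : Matrix (TI t m) (TI t m) F)) h1
        simpa only [av, mul_assoc, Units.mul_inv, mul_one] using this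
      have h3 := congrArg (· *ᵥ w) (TensorWreath43.lift_injective j h2)
      simp only [Matrix.smul_mulVec, E_mulVec, hwr, one_smul] at h3
      exact ⟨_, h3.symm⟩
    -- the action on the vectors killed by both
    have key : ∀ b, fH σ G b w = 0 → ∃ N, Comm j N ∧
        (∀ q, X * (lift j (E σ G b q) - lift j (E σ G w q) * N) = 0) ∧
        ∀ a, fH σ G (bv *ᵥ b) a • av - (l * fH σ G w a) • (av * N) =
          fH σ G b a • (1 : Matrix (TI t m) (TI t m) F) - fH σ G w a • N := by
      intro b hb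
      obtain ⟨N, hN, hK⟩ := H.exists_fixed hw hwr hX hc hb
      refine ⟨N, hN, fun q => (hK q).2, fun a => ?_⟩
      have h := hfixes u hu _ (hK w).1 (hK w).2
      rw [mul_sub, mv, ← mul_assoc, mv, hl, E_smul_left, TensorWreath43.lift_smul, mul_assoc, Matrix.smul_mul] at h
      have h' := congrArg (ct σ G j a r) h
      simp only [ct_sub, ct_smul, ct_lift_mul hα, ct_lift_mul (hα.mul hN), ct_lift_mul hN, ct_lift, E_mulVec,
        fH_smul_left, hrw, one_mul, smul_smul] at h'
      exact h'
    obtain ⟨x, hxw, -, hxx⟩ := H.hG.exists_perp_val H.hm hw hr (by rw [hwr]; exact one_ne_zero) (map_one σ)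
    obtain ⟨N₀, -, -, h₀⟩ := key x hxw
    have h₁ := h₀ x
    rw [hxx, H.hG.symm_zero hxw, mul_zero, zero_smul, zero_smul, sub_zero, sub_zero, one_smul] at h₁
    set s₀ := fH σ G (bv *ᵥ x) x
    have hs₀ : s₀ ≠ 0 := fun e => one_ne_zero (α := Matrix (TI t m) (TI t m) F) (by rw [← h₁, e, zero_smul])
    have hav : av = s₀⁻¹ • 1 := by rw [← h₁, smul_smul, inv_mul_cancel₀ hs₀, one_smul]
    set β' := s₀⁻¹ • bv with hβ'
    have huβ : (u : Matrix (TI t m) (TI t m) F) = lift j β' := by
      rw [huval, hav, Matrix.mul_smul, mul_one, hβ', TensorWreath43.lift_smul]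
    set l' := s₀⁻¹ * l with hl'
    have hβw : β' *ᵥ w = l' • w := by rw [hβ', Matrix.smul_mulVec, hl, smul_smul]
    have key' : ∀ b, fH σ G b w = 0 → ∃ N, Comm j N ∧
        (∀ q, X * (lift j (E σ G b q) - lift j (E σ G w q) * N) = 0) ∧
        ∀ a, (fH σ G (β' *ᵥ b) a - fH σ G b a) • (1 : Matrix (TI t m) (TI t m) F) =
          ((l' - 1) * fH σ G w a) • N := by
      intro b hb
      obtain ⟨N, hN, hK, hE⟩ := key b hb
      refine ⟨N, hN, hK, fun a => ?_⟩
      have := hE a
      rw [hav, smul_smul, Matrix.smul_mul, one_mul, smul_smul] at this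
      rw [hβ', Matrix.smul_mulVec, fH_smul_left, hl', sub_smul, mul_comm s₀⁻¹ (fH σ G (bv *ᵥ b) a),
        show (s₀⁻¹ * l - 1) * fH σ G w a = l * fH σ G w a * s₀⁻¹ - fH σ G w a by ring, sub_smul]
      rw [sub_eq_iff_eq_add] at this
      rw [this]
      abel
    by_cases h1 : l' = 1
    · left
      have hfixb : ∀ b, fH σ G b w = 0 → β' *ᵥ b = b := by
        intro b hb
        obtain ⟨N, -, -, hE⟩ := key' b hb
        refine sub_eq_zero.1 (H.hG.eq_zero_of_left fun a => ?_)
        have := hE a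
        rw [h1, sub_self, zero_mul, zero_smul] at this
        rw [fH_sub_left]
        exact (smul_eq_zero.1 this).resolve_right one_ne_zero
      have hiso : adj σ G β' * β' = 1 := by
        have := H.iso u (hAM hu)
        rw [huβ, adj_lift H.hG, ← TensorWreath43.lift_mul, ← TensorWreath43.lift_one (F := F) (m := m) j] at this
        exact TensorWreath43.lift_injective j this
      obtain ⟨μ, hμ⟩ : ∃ μ : F, β' *ᵥ r - r = μ • w := by
        by_contra! h
        obtain ⟨a, haw, ha⟩ := H.hG.exists_sep h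
        have := H.hG.iso_fH hiso r a
        rw [hfixb a (H.hG.symm_zero haw)] at this
        rw [fH_sub_left, this, sub_self] at ha
        exact zero_ne_one ha
      have hβE : β' = 1 + μ • E σ G w w := by
        refine Matrix.ext_iff_mulVec.mpr fun v => ?_
        have e : v = (v - fH σ G v w • r) + fH σ G v w • r := by abel
        conv_lhs => rw [e]
        rw [Matrix.mulVec_add, hfixb _ (by rw [fH_sub_left, fH_smul_left, hrw, mul_one, sub_self]), Matrix.mulVec_smul,
          sub_eq_iff_eq_add.1 hμ, Matrix.add_mulVec, Matrix.one_mulVec, Matrix.smul_mulVec, E_mulVec, smul_add,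
          smul_smul, smul_smul, mul_comm μ]
        abel
      have hμs : σ μ = -μ := by
        have h2 := hiso
        rw [hβE, adj_add, H.hG.adj_one, adj_smul, H.hG.adj_E, add_mul, one_mul, mul_add, mul_one, Matrix.smul_mul,
          Matrix.mul_smul, hw.E_sq, smul_zero, smul_zero, add_zero, add_assoc, ← add_smul, add_eq_left] at h2
        exact eq_neg_of_add_eq_zero_right ((smul_eq_zero.1 h2).resolve_right (hw.E_ne H.hG))
      refine ⟨μ / z, by rw [map_div₀, hμs, hz, neg_div_neg_eq], ?_⟩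
      rw [huβ, hβE, TensorWreath43.lift_add, TensorWreath43.lift_one, TensorWreath43.lift_smul,
        div_mul_cancel₀ _ hz0]
    · right
      constructor
      · by_contra hnu
        obtain ⟨e, he0, he⟩ := H.exists_kernel hrw (comm_ct j w w X) hnu
        have hfix0 : (u : Matrix (TI t m) (TI t m) F) *ᵥ (L *ᵥ e) = L *ᵥ e := by
          let K : Matrix (TI t m) (TI t m) F := Matrix.of fun p _ => (L *ᵥ e) p
          have col : ∀ B : Matrix (TI t m) (TI t m) F, ∀ p q, (B * K) p q = (B *ᵥ (L *ᵥ e)) p := fun B p q => rfl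
          have h1 : L * K = 0 := by
            ext p q
            rw [col, Matrix.mulVec_mulVec, H.lift_sq hw, Matrix.zero_mulVec]; rfl
          have h2 : X * K = 0 := by
            ext p q
            rw [col, hc.2 e he]; rfl
          have h3 := hfixes u hu K h1 h2
          funext p
          have := congrFun (congrFun h3 p) p
          rwa [col] at this
        refine h1 ?_
        have : (u : Matrix (TI t m) (TI t m) F) *ᵥ (L *ᵥ e) = l' • (L *ᵥ e) := by
          rw [Matrix.mulVec_mulVec, hL, huβ, ← TensorWreath43.lift_mul, mul_E, hβw, E_smul_left,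
            TensorWreath43.lift_smul, Matrix.smul_mulVec]
        rw [hfix0] at this
        have h3 : ((1 : F) - l') • (L *ᵥ e) = 0 := by rw [sub_smul, one_smul, ← this, sub_self]
        exact (sub_eq_zero.1 ((smul_eq_zero.1 h3).resolve_right he0)).symm
      · intro b hb
        obtain ⟨N, -, hK, hE⟩ := key' b hb
        have := hE r
        rw [hwr, mul_one] at this
        refine ⟨-((l' - 1)⁻¹ * (fH σ G (β' *ᵥ b) r - fH σ G b r)), fun q => ?_⟩
        have hN : N = ((l' - 1)⁻¹ * (fH σ G (β' *ᵥ b) r - fH σ G b r)) • 1 := by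
          rw [mul_smul, this, smul_smul, inv_mul_cancel₀ (sub_ne_zero.2 h1), one_smul]
        have := hK q
        rw [hN, Matrix.mul_smul, mul_one] at this
        rw [E_add_left, E_smul_left, TensorWreath43.lift_add, TensorWreath43.lift_smul, neg_smul, ← sub_eq_add_neg]
        exact this
  by_contra hcon
  have hP : ∀ u ∈ A, lift j (E σ G w r) * (u : Matrix (TI t m) (TI t m) F) * lift j (E σ G w r) =
      (u : Matrix (TI t m) (TI t m) F) * lift j (E σ G w r) →
      ∃ s, σ s = s ∧ (u : Matrix (TI t m) (TI t m) F) = 1 + (s * z) • L :=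
    fun u hu hR => (hshape u hu hR).resolve_right hcon
  -- the group ring trick
  obtain ⟨p, hp⟩ := CharP.exists F
  haveI := hp
  haveI : Fact p.Prime := ⟨(CharP.char_is_prime_or_zero F p).resolve_right (CharP.char_ne_zero_of_finite F p)⟩
  haveI : CharP (Matrix (TI t m) (TI t m) F) p :=
    charP_of_injective_algebraMap (algebraMap F (Matrix (TI t m) (TI t m) F)).injective p
  haveI : Fintype A := Fintype.ofFinite _
  let ρ : A →* Matrix (TI t m) (TI t m) F := (Units.coeHom _).comp A.subtype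
  have hLL : L * L = 0 := H.lift_sq hw
  have hmul : ∀ a b : F, (1 + (a * z) • L) * (1 + (b * z) • L) = (1 + ((a + b) * z) • L : Matrix (TI t m) (TI t m) F) := by
    intro a b
    rw [add_mul, one_mul, mul_add, mul_one, Matrix.smul_mul, Matrix.mul_smul, hLL, smul_zero, smul_zero, add_zero,
      add_mul, add_smul]
    abel
  let P : Subgroup A :=
    { carrier := {u | ∃ s, σ s = s ∧ ρ u = 1 + (s * z) • L}
      mul_mem' := by
        rintro a b ⟨s, hs, ha⟩ ⟨s', hs', hb⟩
        exact ⟨s + s', by rw [map_add, hs, hs'], by rw [map_mul, ha, hb, hmul]⟩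
      one_mem' := ⟨0, map_zero σ, by rw [map_one, zero_mul, zero_smul, add_zero]⟩
      inv_mem' := by
        rintro a ⟨s, hs, ha⟩
        refine ⟨-s, by rw [map_neg, hs], ?_⟩
        show (((a : GL (TI t m) F)⁻¹ : GL (TI t m) F) : Matrix (TI t m) (TI t m) F) = _
        refine Units.inv_eq_of_mul_eq_one_right ?_
        rw [show ((a : GL (TI t m) F) : Matrix (TI t m) (TI t m) F) = 1 + (s * z) • L from ha, hmul, add_neg_cancel,
          zero_mul, zero_smul, add_zero] }
  haveI : Fintype P := Fintype.ofFinite _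
  have hinj : Function.Injective ρ := Units.val_injective.comp Subtype.val_injective
  have hLne : L ≠ 0 := H.root_ne (H.root_lift j hw)
  have hmemL : ∀ s, σ s = s → ∃ u : A, u ∈ P ∧ ρ u = 1 + (s * z) • L := by
    intro s hs
    obtain ⟨g, -, hgX⟩ := H.root_mem_smul (H.root_lift j hw) (skew_mul_fixed hz hs)
    exact ⟨⟨g, Subgroup.subset_closure ⟨s, hs, Or.inl hgX⟩⟩, ⟨s, hs, hgX⟩, hgX⟩
  -- conjugation keeping a non-trivial element keeps the range
  have hTI : ∀ g : A, ∀ e ∈ P, e ≠ 1 → g * e * g⁻¹ ∈ P → g ∈ P := by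
    rintro g e ⟨s, hs, he⟩ hne ⟨s', hs', he'⟩
    have hs0 : s * z ≠ 0 := fun h0 => hne (hinj (by rw [he, h0, zero_smul, add_zero, map_one]))
    obtain ⟨μ, hμ, hgv⟩ := hP g g.2 (H.range_of_conj hwr hrw (g := (g : GL (TI t m) F))
      (κ := (s * z)⁻¹ * (s' * z)) (by
        rw [map_mul, map_mul, he] at he'
        change ((g : GL (TI t m) F) : Matrix (TI t m) (TI t m) F) * (1 + (s * z) • L) *
          (((g : GL (TI t m) F)⁻¹ : GL (TI t m) F) : Matrix (TI t m) (TI t m) F) = _ at he'
        rw [mul_add, mul_one, add_mul, Units.mul_inv, add_right_inj, Matrix.mul_smul, Matrix.smul_mul] at he'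
        rw [mul_smul, ← he', smul_smul, inv_mul_cancel₀ hs0, one_smul]))
    exact ⟨μ, hμ, hgv⟩
  have hP_pgroup : IsPGroup p P := by
    rintro ⟨u, s, hs, hu⟩
    refine ⟨1, Subtype.ext (hinj ?_)⟩
    rw [pow_one, SubmonoidClass.coe_pow, map_pow, hu, Subgroup.coe_one, map_one]
    have : ∀ n : ℕ, (1 + (s * z) • L) ^ n = (1 + (((n : F) * s) * z) • L : Matrix (TI t m) (TI t m) F) := by
      intro n
      induction n with
      | zero => rw [pow_zero, Nat.cast_zero, zero_mul, zero_mul, zero_smul, add_zero]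
      | succ n ih => rw [pow_succ, ih, hmul, Nat.cast_succ, add_mul (n : F) 1 s, one_mul]
    rw [this, CharP.cast_eq_zero F p, zero_mul, zero_mul, zero_smul, add_zero]
  have hab : ∀ a ∈ P, ∀ b ∈ P, a * b = b * a := by
    rintro a ⟨s, hs, ha⟩ b ⟨s', hs', hb⟩
    refine hinj ?_
    rw [map_mul, map_mul, ha, hb, hmul, hmul, add_comm s]
  have hN : Subgroup.normalizer (P : Set A) ≤ P := by
    intro g hg
    obtain ⟨e, he, heL⟩ := hmemL 1 (map_one σ)
    refine hTI g e he (fun h => ?_) ((Subgroup.mem_normalizer_iff.1 hg e).1 he)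
    rw [h, map_one, one_mul, left_eq_add, smul_eq_zero] at heL
    exact hLne (heL.resolve_left hz0)
  have hsum : ∑ x : P, ρ (x : A) = 0 := by
    let Sg : AddSubgroup (Matrix (TI t m) (TI t m) F) :=
      { carrier := {Z | ∃ s, σ s = s ∧ Z = (s * z) • L}
        zero_mem' := ⟨0, map_zero σ, by rw [zero_mul, zero_smul]⟩
        add_mem' := by
          rintro a b ⟨s, hs, rfl⟩ ⟨s', hs', rfl⟩
          exact ⟨s + s', by rw [map_add, hs, hs'], by rw [add_mul, add_smul]⟩
        neg_mem' := by
          rintro a ⟨s, hs, rfl⟩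
          exact ⟨-s, by rw [map_neg, hs], by rw [neg_mul, neg_smul]⟩ }
    haveI : Fintype Sg := Fintype.ofFinite _
    have hp' : ∀ Z : Matrix (TI t m) (TI t m) F, p • Z = 0 := fun Z => by
      rw [← Nat.cast_smul_eq_nsmul F, CharP.cast_eq_zero F p, zero_smul]
    push Not at hfix
    obtain ⟨a, ha, ha0, ha1⟩ := hfix
    have hne : ∀ s : F, s ≠ 0 → (s * z) • L ≠ 0 := fun s hs h0 =>
      hLne ((smul_eq_zero.1 h0).resolve_left (mul_ne_zero hs hz0))
    have h3 : 3 ≤ Fintype.card Sg := by
      let f : Fin 3 → Sg := ![⟨0, Sg.zero_mem⟩, ⟨(1 * z) • L, 1, map_one σ, rfl⟩, ⟨(a * z) • L, a, ha, rfl⟩]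
      have hf : Function.Injective f := by
        intro i k h
        have h' : ((f i : Sg) : Matrix (TI t m) (TI t m) F) = f k := congrArg Subtype.val h
        have e12 : (1 * z) • L ≠ (a * z) • L := fun e => hne (1 - a) (sub_ne_zero.2 (Ne.symm ha1))
          (by rw [sub_mul, sub_smul, e, sub_self])
        have e01 : z • L ≠ 0 := by simpa using hne 1 one_ne_zero
        rw [one_mul] at e12
        fin_cases i <;> fin_cases k <;>
          simp [f, e01, hne a ha0, e01.symm, (hne a ha0).symm, e12, e12.symm] at h' ⊢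
      simpa using Fintype.card_le_of_injective f hf
    have hs0 := TensorWreath43.sum_addSubgroup_eq_zero hp' Sg h3
    let φ : P → Sg := fun x => ⟨ρ (x : A) - 1, by
      obtain ⟨s, hs, hx⟩ := x.2
      exact ⟨s, hs, by rw [hx, add_sub_cancel_left]⟩⟩
    have hφ : Function.Bijective φ := by
      constructor
      · intro x y h
        exact Subtype.ext (hinj (sub_left_injective (congrArg Subtype.val h)))
      · rintro ⟨Z, s, hs, rfl⟩
        obtain ⟨u, hu, huL⟩ := hmemL s hs
        exact ⟨⟨u, hu⟩, Subtype.ext (by show ρ u - 1 = _; rw [huL, add_sub_cancel_left])⟩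
    have hcard : p ∣ Fintype.card Sg := by
      have h := addOrderOf_dvd_card (x := (⟨(1 * z) • L, 1, map_one σ, rfl⟩ : Sg))
      rwa [addOrderOf_eq_prime (p := p) (Subtype.ext (hp' _))
        (fun h0 => hne 1 one_ne_zero (congrArg Subtype.val h0))] at h
    calc ∑ x : P, ρ (x : A) = ∑ x : P, (1 + (φ x : Matrix (TI t m) (TI t m) F)) :=
          Finset.sum_congr rfl fun x _ => by simp [φ]
      _ = ∑ y : Sg, (1 + (y : Matrix (TI t m) (TI t m) F)) := Fintype.sum_bijective φ hφ _ _ fun _ => rfl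
      _ = 0 := by
        obtain ⟨k, hk⟩ := hcard
        rw [Finset.sum_add_distrib, hs0, add_zero, Finset.sum_const, Finset.card_univ, hk, mul_comm, mul_nsmul', hp',
          smul_zero]
  have htop := TensorWreath43.eq_top_of_sum_zero (p := p) ρ hinj P hP_pgroup hab hN hTI hsum
  obtain ⟨g, -, hgX⟩ := H.root_mem_smul hX hz
  obtain ⟨s, hs, hgs⟩ : (⟨g, Subgroup.subset_closure ⟨1, map_one σ, Or.inr (by rw [one_mul]; exact hgX)⟩⟩ : A) ∈ P :=
    htop ▸ Subgroup.mem_top _
  change (g : Matrix (TI t m) (TI t m) F) = _ at hgs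
  rw [hgX, add_right_inj] at hgs
  refine hC0 ?_
  have := congrArg (ct σ G j w w) hgs
  rw [ct_smul, ct_smul, hL, ct_lift, E_mulVec, hw.2, zero_smul, fH_zero_left, zero_smul, smul_zero] at this
  exact (smul_eq_zero.1 this).resolve_left hz0

end Cfsg.Agent.TensorWreathU84
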