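import Cfsg.Agent.Lib.TensorWreathU84Core
import Mathlib.FieldTheory.Finite.Basic

/-!
The contraction of a root element at a root over a field with two fixed elements: it is scalar.
-/

set_option autoImplicit false
set_option linter.unusedSectionVars false

namespace Cfsg.Agent.TensorWreathU84

open scoped Matrix
open Cfsg.Agent.TensorWreath43 (TI lift liftHom Comm cn MemU)

/-- Two involutions of a finite group: conjugate in the group they generate, or centralised by a third. -/
theorem dihedral_case {A : Type*} [Group A] [Finite A] {a b : A} (ha : a * a = 1) (hb : b * b = 1) :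
    (∃ c ∈ Subgroup.closure ({a, b} : Set A), b = c * a * c⁻¹) ∨
      ∃ u ∈ Subgroup.closure ({a, b} : Set A), u ≠ 1 ∧ u * u = 1 ∧ u * a = a * u ∧ u * b = b * u := by
  set x := a * b with hx
  have hxmem : x ∈ Subgroup.closure ({a, b} : Set A) :=
    mul_mem (Subgroup.subset_closure (Set.mem_insert _ _)) (Subgroup.subset_closure (Set.mem_insert_of_mem _ rfl))
  have hai : a⁻¹ = a := inv_eq_of_mul_eq_one_right ha
  have hbi : b⁻¹ = b := inv_eq_of_mul_eq_one_right hb
  have hbx : b = a * x := by rw [hx, ← mul_assoc, ha, one_mul]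
  have hinv : ∀ k : ℕ, a * x ^ k = (x ^ k)⁻¹ * a := by
    intro k
    have h : a * x * a = x⁻¹ := by rw [hx, mul_inv_rev, hai, hbi, ← mul_assoc a a b, ha, one_mul]
    have h' : a * x ^ k * a = x⁻¹ ^ k := by
      rw [← h]
      conv_rhs => rw [show a * x * a = a * x * a⁻¹ by rw [hai], conj_pow, hai]
    rw [← inv_pow, ← h', mul_assoc, ha, mul_one]
  rcases Nat.even_or_odd' (orderOf x) with ⟨k, hk | hk⟩
  · right
    have hpos := orderOf_pos x
    have hsq : x ^ k * x ^ k = 1 := by rw [← pow_add, ← two_mul, ← hk, pow_orderOf_eq_one]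
    have hki : (x ^ k)⁻¹ = x ^ k := inv_eq_of_mul_eq_one_right hsq
    refine ⟨x ^ k, pow_mem hxmem k, fun e => ?_, hsq, by rw [hinv, hki], ?_⟩
    · have := Nat.le_of_dvd (by omega) (orderOf_dvd_of_pow_eq_one e)
      omega
    · rw [hbx, mul_assoc, ← pow_succ', pow_succ, ← mul_assoc (x ^ k), ← mul_assoc a, hinv, hki]
  · left
    refine ⟨x ^ k, pow_mem hxmem k, ?_⟩
    have h1 : x ^ k * x ^ k * x = 1 := by rw [← pow_add, ← pow_succ, ← two_mul, ← hk, pow_orderOf_eq_one]
    have h2 : x ^ k * x ^ k = x⁻¹ := eq_inv_of_mul_eq_one_left h1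
    have h3 : a * (x ^ k)⁻¹ = x ^ k * a := by
      rw [eq_comm, eq_mul_inv_iff_mul_eq, mul_assoc, hinv k, mul_inv_cancel_left]
    rw [mul_assoc, h3, ← mul_assoc, h2, hbx]
    have h4 := hinv 1
    rw [pow_one] at h4
    exact h4

variable {F : Type*} [Field F] [Fintype F] {σ : F →+* F} {t m : ℕ}
variable {G : Matrix (Fin m) (Fin m) F} {M : Subgroup (GL (TI t m) F)}

theorem exists_sqrt_two (h2 : (2 : F) = 0) (s : F) : ∃ l : F, l * l = s := by
  have hF : ringChar F = 2 := by
    haveI : CharP F 2 := CharTwo.of_one_ne_zero_of_two_eq_zero one_ne_zero h2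
    exact ringChar.eq F 2
  obtain ⟨l, hl⟩ := FiniteField.isSquare_of_char_two hF s
  exact ⟨l, hl.symm⟩

variable (H : UOver σ G M) (hB : ¬ Big σ G M)
include H hB

/-- An element commuting with a lift through which a root factors is decomposable. -/
theorem UOver.plane_dec {j : Fin t} {u : GL (TI t m) F} (hu : u ∈ M) {η Ψ : Matrix (Fin m) (Fin m) F}
    (hc : (u : Matrix (TI t m) (TI t m) F) * lift j η = lift j η * (u : Matrix (TI t m) (TI t m) F))
    {v : Fin m → F} (hv : Iso σ G v) (hΨ : η * Ψ = E σ G v v) (hvη : E σ G v v * η = 0)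
    {c : Fin m → F} (hc0 : c ≠ 0) (hcη : E σ G c c * η = 0) : Dec j u := by
  haveI := H.neZero
  set L := lift j (E σ G v v) with hL
  set Y := (u : Matrix (TI t m) (TI t m) F) * L * ((u⁻¹ : GL (TI t m) F) : Matrix (TI t m) (TI t m) F) with hY
  have hRY : Root σ G M Y := H.root_conj (H.root_lift j hv) hu
  have hYη : Y = lift j η * ((u : Matrix (TI t m) (TI t m) F) * lift j Ψ *
      ((u⁻¹ : GL (TI t m) F) : Matrix (TI t m) (TI t m) F)) := by
    rw [hY, hL, ← hΨ, TensorWreath43.lift_mul, ← mul_assoc, hc]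
    simp only [mul_assoc]
  have kill : ∀ Z : Matrix (Fin m) (Fin m) F, Z * η = 0 → lift j Z * Y = 0 := fun Z hZ => by
    rw [hYη, ← mul_assoc, ← TensorWreath43.lift_mul, hZ, TensorWreath43.lift_zero, zero_mul]
  have hLY : L * Y = 0 := kill _ hvη
  have hYL : Y * L = 0 := by
    have h := congrArg (adj σ (GT t G)) hLY
    rwa [(H.hG.gt t).adj_mul, H.root_adj hRY, H.root_adj (H.root_lift j hv), adj_zero] at h
  rcases H.alg_or_comm_of_commute hB hv hRY (hLY.trans hYL.symm) with ⟨ξ, hξ⟩ | hC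
  · rw [hξ] at hRY
    obtain ⟨κ, x, -, -, hx, rfl⟩ := H.alg_root hRY
    rw [TensorWreath43.lift_smul] at hξ
    exact H.dec_of_conj hB hv hx hu hξ
  · exact absurd (TensorWreath43.eq_zero_of_lift_mul (H.hG.E_ne_zero hc0 hc0) hC (kill _ hcη)) (H.root_ne hRY)

/-- The isotropic companion with a non-scalar square. -/
theorem UOver.exists_companion (hfix : ∀ c, σ c = c → c = 0 ∨ c = 1) {j : Fin t} {w r : Fin m → F}
    (hw : Iso σ G w) (hwr : fH σ G w r = 1) (hrw : fH σ G r w = 1)
    {X : Matrix (TI t m) (TI t m) F} (hX : Root σ G M X) (hc : Cond σ G j w r X) :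
    ∃ (w' : Fin m → F) (N : Matrix (TI t m) (TI t m) F), Iso σ G w' ∧ fH σ G w' w = 0 ∧ (∀ c : F, w ≠ c • w') ∧
      (∀ c : F, w' ≠ c • w) ∧ Comm j N ∧
      (∀ q, lift j (E σ G w w) * (lift j (E σ G w' q) - lift j (E σ G w q) * N) = 0 ∧
        X * (lift j (E σ G w' q) - lift j (E σ G w q) * N) = 0) ∧
      ¬ ∃ s : F, s ≠ 0 ∧ N * N = s • 1 := by
  haveI := H.neZero
  obtain ⟨b, hb, hbp⟩ := H.hG.uform.exists_iso_perp (m := 2) (H.q2 hfix) ![w, r]
  have hbw : fH σ G b w = 0 := hbp 0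
  have hbr : fH σ G b r = 0 := hbp 1
  have hb' : Iso σ G b := hb
  have hne : ∀ c : F, b ≠ c • w := fun c e => hb'.1 (by
    rw [e, fH_smul_left, hwr, mul_one] at hbr
    rw [e, hbr, zero_smul])
  obtain ⟨N₀, hN₀, hK⟩ := H.exists_fixed hw hwr hX hc hbw
  obtain ⟨l, hl⟩ : ∃ l : F, ¬ ∃ s : F, s ≠ 0 ∧ (N₀ - l • 1) * (N₀ - l • 1) = s • 1 := by
    by_cases h : ∃ s : F, s ≠ 0 ∧ N₀ * N₀ = s • 1
    · obtain ⟨s, hs0, hs⟩ := h
      obtain ⟨l, hl⟩ := exists_sqrt_two (char_two_of_fixed hfix) s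
      refine ⟨l, ?_⟩
      rintro ⟨s', hs', e⟩
      have e0 : (N₀ - l • 1) * (N₀ - l • 1) = 0 := by
        rw [sub_mul, mul_sub, mul_sub, hs, Matrix.mul_smul, mul_one, Matrix.smul_mul, one_mul, Matrix.smul_mul,
          one_mul, smul_smul, hl]
        calc s • (1 : Matrix (TI t m) (TI t m) F) - l • N₀ - (l • N₀ - s • 1)
            = (2 : F) • (s • (1 : Matrix (TI t m) (TI t m) F)) - (2 : F) • (l • N₀) := by
              simp only [two_smul]; abel
          _ = 0 := by rw [char_two_of_fixed hfix, zero_smul, zero_smul, sub_zero]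
      rw [e0] at e
      exact hs' ((smul_eq_zero.1 e.symm).resolve_right one_ne_zero)
    · exact ⟨0, by rwa [zero_smul, sub_zero]⟩
  refine ⟨b - l • w, N₀ - l • 1, ⟨fun e => hne l (sub_eq_zero.1 e), ?_⟩, ?_, ?_, ?_, hN₀.sub (comm_scalar j l), ?_, hl⟩
  · rw [sub_eq_add_neg, ← neg_smul, fH_add_left, fH_add_right, fH_add_right, fH_smul_left, fH_smul_left,
      fH_smul_right, fH_smul_right, hb'.2, hw.2, hbw, H.hG.symm_zero hbw]
    ring
  · rw [fH_sub_left, fH_smul_left, hbw, hw.2, mul_zero, sub_zero]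
  · intro c e
    by_cases hc0 : c = 0
    · exact hw.1 (by rw [e, hc0, zero_smul])
    · refine hne (c⁻¹ + l) ?_
      rw [add_smul]
      conv_rhs => arg 1; rw [e, smul_smul, inv_mul_cancel₀ hc0, one_smul]
      abel
  · intro c e
    exact hne (c + l) (by rw [add_smul, ← e]; abel)
  · intro q
    have e : lift j (E σ G (b - l • w) q) - lift j (E σ G w q) * (N₀ - l • 1) =
        lift j (E σ G b q) - lift j (E σ G w q) * N₀ := by
      rw [sub_eq_add_neg b, ← neg_smul, E_add_left, E_smul_left, TensorWreath43.lift_add, TensorWreath43.lift_smul,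
        mul_sub, Matrix.mul_smul, mul_one, neg_smul]
      abel
    rw [e]
    exact hK q

set_option maxHeartbeats 1000000 in
/-- The core argument over two fixed elements. -/
theorem UOver.core_two (hfix : ∀ c, σ c = c → c = 0 ∨ c = 1) {j : Fin t} {w r : Fin m → F} (hw : Iso σ G w)
    (hwr : fH σ G w r = 1) (hrw : fH σ G r w = 1)
    {X : Matrix (TI t m) (TI t m) F} (hX : Root σ G M X) (hc : Cond σ G j w r X)
    (hns : ¬ ∃ c : F, ct σ G j w w X = c • 1) : False := by
  classical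
  haveI := H.neZero
  have h2 : (2 : F) = 0 := char_two_of_fixed hfix
  have hneg : ∀ c : F, -c = c := fun c => by linear_combination (-c) * h2
  have hskew1 : σ (1 : F) = -1 := by rw [map_one, hneg]
  obtain ⟨w', N, hw', hw'w, hne, hne', hN, hKN, hNN⟩ := H.exists_companion hB hfix hw hwr hrw hX hc
  have hww' := H.hG.symm_zero hw'w
  obtain ⟨p₁, hw'p₁, hwp₁⟩ := H.hG.exists_sep hne
  obtain ⟨p₂, hwp₂, hw'p₂⟩ := H.hG.exists_sep hne'
  have hp₁w : fH σ G p₁ w = 1 := by rw [← H.hG.sigma_fH, hwp₁, map_one]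
  have hp₁w' : fH σ G p₁ w' = 0 := H.hG.symm_zero hw'p₁
  have hp₂w : fH σ G p₂ w = 0 := H.hG.symm_zero hwp₂
  have hp₂w' : fH σ G p₂ w' = 1 := by rw [← H.hG.sigma_fH, hw'p₂, map_one]
  obtain ⟨c₀, hc₀, hwc₀, hw'c₀⟩ := H.hG.exists_perp_two H.hm w w'
  set η₀ := E σ G w w + E σ G w' w' with hη₀
  set L := lift j (E σ G w w) with hL
  set L' := lift j (E σ G w' w') with hL'
  have hη₀L : lift j η₀ = L + L' := by rw [hη₀, TensorWreath43.lift_add]
  obtain ⟨a, haM, haX⟩ := H.root_mem_smul hX hskew1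
  rw [one_smul] at haX
  obtain ⟨b, hbM, hbX⟩ : MemU M (lift j η₀) := by
    rw [hη₀L]
    refine MemU.add (by simpa using H.root_mem j hw.2 hskew1) (by simpa using H.root_mem j hw'.2 hskew1) ?_
    rw [hL, hL', ← TensorWreath43.lift_mul, E_mul, hw'w, zero_smul, TensorWreath43.lift_zero]
  have hη₀sq : η₀ * η₀ = 0 := by
    rw [hη₀]
    simp only [add_mul, mul_add, E_mul, hw.2, hw'.2, hw'w, hww', zero_smul, add_zero]
  have hinvol : ∀ {g : GL (TI t m) F} {Z : Matrix (TI t m) (TI t m) F},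
      (g : Matrix (TI t m) (TI t m) F) = 1 + Z → Z * Z = 0 → g * g = 1 := by
    intro g Z hg hZ
    refine Units.ext ?_
    rw [Units.val_mul, Units.val_one, hg, add_mul, one_mul, mul_add, mul_one, hZ, add_zero]
    calc (1 : Matrix (TI t m) (TI t m) F) + Z + Z = 1 + (2 : F) • Z := by rw [two_smul, add_assoc]
      _ = 1 := by rw [h2, zero_smul, add_zero]
  have ha2 := hinvol haX (H.root_sq hX)
  have hb2 := hinvol hbX (by rw [← TensorWreath43.lift_mul, hη₀sq, TensorWreath43.lift_zero])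
  have hclM : Subgroup.closure ({a, b} : Set (GL (TI t m) F)) ≤ M :=
    (Subgroup.closure_le _).2 (by rintro g (rfl | rfl) <;> assumption)
  have commOf : ∀ {g h : GL (TI t m) F} {Z : Matrix (TI t m) (TI t m) F},
      (h : Matrix (TI t m) (TI t m) F) = 1 + Z → g * h = h * g →
      (g : Matrix (TI t m) (TI t m) F) * Z = Z * (g : Matrix (TI t m) (TI t m) F) := by
    intro g h Z hh e
    have e' := congrArg Units.val e
    rwa [Units.val_mul, Units.val_mul, hh, mul_add, add_mul, mul_one, one_mul, add_right_inj] at e'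
  rcases dihedral_case ha2 hb2 with ⟨g, hg, hgb⟩ | ⟨u, hu, hu1, hu2, hua, hub⟩
  · -- the two operators are not conjugate: their ranks differ
    have e : (g : Matrix (TI t m) (TI t m) F) * X * ((g⁻¹ : GL (TI t m) F) : Matrix (TI t m) (TI t m) F) =
        lift j η₀ := by
      have e' := congrArg Units.val hgb
      rw [Units.val_mul, Units.val_mul, hbX, haX, mul_add, mul_one, add_mul, Units.mul_inv, add_right_inj] at e'
      exact e'.symm
    have hp₁0 : p₁ ≠ 0 := fun e => one_ne_zero (α := F) (by rw [← hp₁w, e, fH_zero_left])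
    have hp₂0 : p₂ ≠ 0 := fun e => one_ne_zero (α := F) (by rw [← hp₂w', e, fH_zero_left])
    have hr1 := congrArg Matrix.rank e
    rw [rank_conj, H.root_rank hX j hw.1 hp₁0] at hr1
    have hprod : η₀ * (E σ G p₁ p₁ + E σ G p₂ p₂) = E σ G w p₁ + E σ G w' p₂ := by
      rw [hη₀]
      simp only [add_mul, mul_add, E_mul, hp₁w, hp₁w', hp₂w, hp₂w', zero_smul, one_smul, add_zero, zero_add]
    have hsum : (lift j (E σ G w p₁) + lift j (E σ G w' p₂) : Matrix (TI t m) (TI t m) F).rank =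
        (lift j (E σ G w p₁) : Matrix (TI t m) (TI t m) F).rank + (lift j (E σ G w' p₂)).rank :=
      rank_add_of_orth
        (by rw [← TensorWreath43.lift_mul, E_mul, hwp₁, one_smul])
        (by rw [← TensorWreath43.lift_mul, E_mul, hw'p₂, one_smul])
        (by rw [← TensorWreath43.lift_mul, E_mul, hw'p₁, zero_smul, TensorWreath43.lift_zero])
        (by rw [← TensorWreath43.lift_mul, E_mul, hwp₂, zero_smul, TensorWreath43.lift_zero])
    have hle := Matrix.rank_mul_le_left (lift j η₀) (lift j (E σ G p₁ p₁ + E σ G p₂ p₂))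
    rw [← TensorWreath43.lift_mul, hprod, TensorWreath43.lift_add, hsum,
      rank_lift_E_eq H.hG j j hw'.1 hp₂0 hw.1 hp₁0, ← hr1] at hle
    have hzero : Module.finrank F (LinearMap.range X.mulVecLin) = 0 := by
      show X.rank = 0
      rw [H.root_rank hX j hw.1 hp₁0]
      omega
    refine H.root_ne hX (Matrix.ext_iff_mulVec.mpr fun v => ?_)
    have := Submodule.finrank_eq_zero.1 hzero
    rw [LinearMap.range_eq_bot] at this
    simpa using LinearMap.congr_fun this v
  -- the centralising involution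
  have huM := hclM hu
  have huX := commOf haX hua
  have huη := commOf hbX hub
  have hfixu : Fixes (lift j η₀) X u := fixes_closure (by
    rintro g (rfl | rfl) K h1 h2
    · rw [haX, add_mul, one_mul, h2, add_zero]
    · rw [hbX, add_mul, one_mul, h1, add_zero]) hu
  have hK : ∀ {x : Fin m → F}, fH σ G x w' = 0 → ∀ {Nx : Matrix (TI t m) (TI t m) F},
      (∀ q, L * (lift j (E σ G x q) - lift j (E σ G w q) * Nx) = 0 ∧
        X * (lift j (E σ G x q) - lift j (E σ G w q) * Nx) = 0) →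
      ∀ q, (u : Matrix (TI t m) (TI t m) F) * (lift j (E σ G x q) - lift j (E σ G w q) * Nx) =
        lift j (E σ G x q) - lift j (E σ G w q) * Nx := by
    intro x hx Nx h q
    refine hfixu _ ?_ (h q).2
    rw [hη₀L, add_mul, (h q).1, zero_add, hL', mul_sub, ← mul_assoc, ← TensorWreath43.lift_mul,
      ← TensorWreath43.lift_mul, E_mul, E_mul, hx, hww', zero_smul, TensorWreath43.lift_zero, zero_mul,
      sub_zero]
  have hd : Dec j u := H.plane_dec hB huM (η := η₀) (Ψ := E σ G p₁ w) huη hw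
    (by
      rw [hη₀, add_mul, E_mul, E_mul, hp₁w, hp₁w', one_smul, zero_smul, add_zero])
    (by rw [hη₀, mul_add, E_mul, E_mul, hw.2, hw'w, zero_smul, zero_smul, add_zero])
    hc₀ (by rw [hη₀, mul_add, E_mul, E_mul, hwc₀, hw'c₀, zero_smul, zero_smul, add_zero])
  obtain ⟨β, α, hα, huv⟩ := hd.decomp
  have huval : (u : Matrix (TI t m) (TI t m) F) =
      lift j (β : Matrix (Fin m) (Fin m) F) * (α : Matrix (TI t m) (TI t m) F) := by rw [huv]; rfl
  set bv := (β : Matrix (Fin m) (Fin m) F) with hbv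
  set av := (α : Matrix (TI t m) (TI t m) F) with hav
  have mv : ∀ x q, (u : Matrix (TI t m) (TI t m) F) * lift j (E σ G x q) = lift j (E σ G (bv *ᵥ x) q) * av := by
    intro x q
    rw [huval, mul_assoc, ← hα, ← mul_assoc, ← TensorWreath43.lift_mul, mul_E]
  have hcom : bv * η₀ = η₀ * bv := by
    refine TensorWreath43.lift_injective j ?_
    have e := huη
    rw [huval, mul_assoc, ← hα, ← mul_assoc, ← mul_assoc, ← TensorWreath43.lift_mul,
      ← TensorWreath43.lift_mul] at e
    have e' := congrArg (· * ((α⁻¹ : GL (TI t m) F) : Matrix (TI t m) (TI t m) F)) e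
    simpa only [hav, mul_assoc, Units.mul_inv, mul_one] using e'
  set ca := fH σ G (bv *ᵥ p₁) w with hca
  set cc := fH σ G (bv *ᵥ p₁) w' with hcc
  set cb := fH σ G (bv *ᵥ p₂) w with hcb
  set cd := fH σ G (bv *ᵥ p₂) w' with hcd
  have hbw : bv *ᵥ w = ca • w + cc • w' := by
    have e := congrArg (· *ᵥ p₁) hcom
    simp only [← Matrix.mulVec_mulVec, hη₀, Matrix.add_mulVec, E_mulVec, hp₁w, hp₁w', one_smul, zero_smul, add_zero] at e
    exact e
  have hbw' : bv *ᵥ w' = cb • w + cd • w' := by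
    have e := congrArg (· *ᵥ p₂) hcom
    simp only [← Matrix.mulVec_mulVec, hη₀, Matrix.add_mulVec, E_mulVec, hp₂w, hp₂w', one_smul, zero_smul, zero_add] at e
    exact e
  have hiso := H.iso u huM
  rw [huval, (H.hG.gt t).adj_mul, adj_lift H.hG] at hiso
  have hαadj : Comm j (adj σ (GT t G) av) := adj_comm H.hG hα
  have hprod : lift j (adj σ G bv * bv) * (adj σ (GT t G) av * av) = 1 := by
    rw [← hiso, TensorWreath43.lift_mul, mul_assoc, ← mul_assoc (lift j bv), hαadj]
    simp only [← mul_assoc]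
    rw [hαadj]
  have hbinj : ∀ x, bv *ᵥ x = 0 → x = 0 := fun x hx => by
    have := congrArg (((β⁻¹ : GL (Fin m) F) : Matrix (Fin m) (Fin m) F) *ᵥ ·) hx
    simpa only [Matrix.mulVec_mulVec, hbv, Units.inv_mul, Matrix.one_mulVec, Matrix.mulVec_zero] using this
  have hαα : adj σ (GT t G) av * av = 1 := by
    have e := congrArg (ct σ G j w p₁) hprod
    rw [ct_lift_mul (hαadj.mul hα), ← TensorWreath43.lift_one (F := F) (m := m) j, ct_lift, Matrix.one_mulVec,
      hp₁w, one_smul] at e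
    set s := fH σ G ((adj σ G bv * bv) *ᵥ p₁) w
    have hs : s ≠ 0 := fun e0 => one_ne_zero (α := Matrix (TI t m) (TI t m) F) (by rw [← e, e0, zero_smul])
    have e1 : adj σ (GT t G) av * av = s⁻¹ • 1 := by
      rw [← e, smul_smul, inv_mul_cancel₀ hs, one_smul]
    have hf : σ s⁻¹ = s⁻¹ := by
      have e2 := congrArg (adj σ (GT t G)) e1
      rw [(H.hG.gt t).adj_mul, (H.hG.gt t).adj_adj, adj_smul, (H.hG.gt t).adj_one, e1] at e2
      have : (s⁻¹ - σ s⁻¹) • (1 : Matrix (TI t m) (TI t m) F) = 0 := by rw [sub_smul, ← e2, sub_self]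
      exact (sub_eq_zero.1 ((smul_eq_zero.1 this).resolve_right one_ne_zero)).symm
    rw [e1, (hfix _ hf).resolve_left (inv_ne_zero hs), one_smul]
  have hββ : adj σ G bv * bv = 1 := by
    rw [hαα, mul_one, ← TensorWreath43.lift_one (F := F) (m := m) j] at hprod
    exact TensorWreath43.lift_injective j hprod
  have hconj : E σ G (bv *ᵥ w) (bv *ᵥ w) + E σ G (bv *ᵥ w') (bv *ᵥ w') = η₀ := by
    rw [← H.hG.conj_E, ← H.hG.conj_E, ← add_mul, ← mul_add, ← hη₀, hcom, mul_assoc, mul_eq_one_comm.1 hββ, mul_one]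
  have hp : fH σ G p₁ (bv *ᵥ w) = σ ca ∧ fH σ G p₁ (bv *ᵥ w') = σ cb := by
    rw [hbw, hbw', fH_add_right, fH_add_right, fH_smul_right, fH_smul_right, fH_smul_right, fH_smul_right, hp₁w, hp₁w']
    constructor <;> ring
  have hone : σ ca * ca + σ cb * cb = 1 ∧ σ ca * cc + σ cb * cd = 0 := by
    have e := congrArg (· *ᵥ p₁) hconj
    simp only [hη₀, Matrix.add_mulVec, E_mulVec, hp.1, hp.2, hp₁w, hp₁w', one_smul, zero_smul, add_zero] at e
    rw [hbw, hbw'] at e
    have e₁ := congrArg (fH σ G · p₁) e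
    have e₂ := congrArg (fH σ G · p₂) e
    simp only [fH_add_left, fH_smul_left, hwp₁, hw'p₁, hwp₂, hw'p₂] at e₁ e₂
    exact ⟨by linear_combination e₁, by linear_combination e₂⟩
  have hnorm : ∀ x : F, x ≠ 0 → σ x * x = 1 := fun x hx =>
    (hfix (σ x * x) (by rw [map_mul, H.hG.invol, mul_comm])).resolve_left (mul_ne_zero ((map_ne_zero σ).2 hx) hx)
  have hab : ca = 0 ∨ cb = 0 := by
    by_contra! h
    have e := hone.1
    rw [hnorm _ h.1, hnorm _ h.2] at e
    exact one_ne_zero (α := F) (by linear_combination e)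
  -- the fixed operators over the companion
  have hfN : ∀ a', fH σ G (bv *ᵥ w') a' • av - fH σ G (bv *ᵥ w) a' • (av * N) =
      fH σ G w' a' • (1 : Matrix (TI t m) (TI t m) F) - fH σ G w a' • N := by
    intro a'
    have h := hK hw'.2 hKN w
    rw [mul_sub, mv, ← mul_assoc, mv, mul_assoc] at h
    have h' := congrArg (ct σ G j a' r) h
    simpa only [ct_sub, ct_lift_mul hα, ct_lift_mul (hα.mul hN), ct_lift_mul hN, ct_lift, E_mulVec, fH_smul_left,
      hrw, one_mul] using h'
  have hf₁ : cb • av - ca • (av * N) = -N := by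
    have h := hfN p₁
    rw [hbw, hbw'] at h
    simp only [fH_add_left, fH_smul_left, hwp₁, hw'p₁, mul_one, mul_zero, add_zero, zero_smul, one_smul] at h
    rwa [zero_sub] at h
  have hf₂ : cd • av - cc • (av * N) = 1 := by
    have h := hfN p₂
    rw [hbw, hbw'] at h
    simp only [fH_add_left, fH_smul_left, hwp₂, hw'p₂, mul_one, mul_zero, zero_add, zero_smul, one_smul] at h
    rwa [sub_zero] at h
  rcases hab with hca0 | hcb0
  · -- exchanging the two lines
    have hcb0 : cb ≠ 0 := fun e0 => by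
      have e := hone.1
      rw [hca0, e0] at e
      simp at e
    have hcd0 : cd = 0 := by
      have e := hone.2
      rw [hca0, map_zero, zero_mul, zero_add] at e
      exact (mul_eq_zero.1 e).resolve_left ((map_ne_zero σ).2 hcb0)
    have hcc0 : cc ≠ 0 := fun e => hw.1 (hbinj _ (by rw [hbw, hca0, e, zero_smul, zero_smul, add_zero]))
    rw [hca0, zero_smul, sub_zero] at hf₁
    rw [hcd0, zero_smul, zero_sub] at hf₂
    have hα' : av = cb⁻¹ • -N := by rw [← hf₁, smul_smul, inv_mul_cancel₀ hcb0, one_smul]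
    refine hNN ⟨cb / cc, div_ne_zero hcb0 hcc0, ?_⟩
    rw [hα', Matrix.smul_mul, neg_mul, smul_neg, smul_neg, neg_neg, smul_smul] at hf₂
    rw [← hf₂, smul_smul, show cb / cc * (cc * cb⁻¹) = 1 by field_simp, one_smul]
  -- the two lines are fixed
  have hca0 : ca ≠ 0 := fun e0 => by
    have e := hone.1
    rw [hcb0, e0] at e
    simp at e
  have hcc0 : cc = 0 := by
    have e := hone.2
    rw [hcb0, map_zero, zero_mul, add_zero] at e
    exact (mul_eq_zero.1 e).resolve_left ((map_ne_zero σ).2 hca0)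
  have hcd0 : cd ≠ 0 := fun e => hw'.1 (hbinj _ (by rw [hbw', hcb0, e, zero_smul, zero_smul, add_zero]))
  rw [hcc0, zero_smul, sub_zero] at hf₂
  have hα' : av = cd⁻¹ • 1 := by rw [← hf₂, smul_smul, inv_mul_cancel₀ hcd0, one_smul]
  set β' := cd⁻¹ • bv with hβ'
  have huβ : (u : Matrix (TI t m) (TI t m) F) = lift j β' := by
    rw [huval, hα', Matrix.mul_smul, mul_one, hβ', TensorWreath43.lift_smul]
  have hsq' : β' * β' = 1 := by
    refine TensorWreath43.lift_injective j ?_
    rw [TensorWreath43.lift_mul, ← huβ, ← Units.val_mul, hu2, Units.val_one, TensorWreath43.lift_one]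
  have hβ'w0 : β' *ᵥ w = (cd⁻¹ * ca) • w := by
    rw [hβ', Matrix.smul_mulVec, hbw, hcc0, zero_smul, add_zero, smul_smul]
  have hl1 : cd⁻¹ * ca = 1 := by
    set l := cd⁻¹ * ca
    have e := congrArg (· *ᵥ w) hsq'
    simp only [← Matrix.mulVec_mulVec, hβ'w0, Matrix.mulVec_smul, smul_smul, Matrix.one_mulVec] at e
    have e' : (l * l - 1) • w = 0 := by rw [sub_smul, e, one_smul, sub_self]
    have e'' := (smul_eq_zero.1 e').resolve_right hw.1
    have : (l - 1) * (l - 1) = 0 := by linear_combination e'' + (1 - l) * h2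
    exact sub_eq_zero.1 (mul_self_eq_zero.1 this)
  have hβw : β' *ᵥ w = w := by rw [hβ'w0, hl1, one_smul]
  have hβw' : β' *ᵥ w' = w' := by
    rw [hβ', Matrix.smul_mulVec, hbw', hcb0, zero_smul, zero_add, smul_smul, inv_mul_cancel₀ hcd0, one_smul]
  have hβb : ∀ x, fH σ G x w = 0 → fH σ G x w' = 0 → β' *ᵥ x = x := by
    intro x hxw hxw'
    obtain ⟨Nx, hNx, hKx⟩ := H.exists_fixed hw hwr hX hc hxw
    have h := hK hxw' hKx w
    rw [huβ, mul_sub, ← mul_assoc, ← TensorWreath43.lift_mul, ← TensorWreath43.lift_mul, mul_E, mul_E, hβw,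
      sub_left_inj] at h
    have h' := congrArg (· *ᵥ r) (TensorWreath43.lift_injective j h)
    simpa only [E_mulVec, hrw, one_smul] using h'
  have hβadj : adj σ G β' = β' := by
    have e := H.iso u huM
    rw [huβ, adj_lift H.hG, ← TensorWreath43.lift_mul, ← TensorWreath43.lift_one (F := F) (m := m) j] at e
    calc adj σ G β' = adj σ G β' * (β' * β') := by rw [hsq', mul_one]
      _ = β' := by rw [← mul_assoc, TensorWreath43.lift_injective j e, one_mul]
  set η := β' - 1 with hη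
  have hηadj : adj σ G η = η := by rw [hη, adj_sub, hβadj, H.hG.adj_one]
  have hηsq : η * η = 0 := by
    rw [hη, sub_mul, one_mul, mul_sub, mul_one, hsq']
    calc (1 : Matrix (Fin m) (Fin m) F) - β' - (β' - 1) = (2 : F) • (1 - β') := by
          rw [two_smul]; abel
      _ = 0 := by rw [h2, zero_smul]
  obtain ⟨y, hy⟩ : ∃ y, η *ᵥ y ≠ 0 := by
    by_contra! h
    refine hu1 (Units.ext ?_)
    rw [huβ, sub_eq_zero.1 (Matrix.ext_iff_mulVec.mpr fun v => by rw [h, Matrix.zero_mulVec] : η = 0),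
      TensorWreath43.lift_one, Units.val_one]
  set v := η *ᵥ y with hv
  have hvperp : ∀ x, η *ᵥ x = 0 → fH σ G v x = 0 := fun x hx => by
    rw [hv, ← H.hG.fH_adj, hηadj, hx, ← zero_smul F (0 : Fin m → F), fH_smul_right, map_zero, zero_mul]
  have hker : ∀ x, fH σ G x w = 0 → fH σ G x w' = 0 → η *ᵥ x = 0 := fun x h h' => by
    rw [hη, Matrix.sub_mulVec, hβb x h h', Matrix.one_mulVec, sub_self]
  have hv2 : v = fH σ G v p₁ • w + fH σ G v p₂ • w' := by
    refine sub_eq_zero.1 (H.hG.eq_zero_of_left fun a => ?_)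
    set x := a - fH σ G a w • p₁ - fH σ G a w' • p₂ with hx
    have hxw : fH σ G x w = 0 := by
      rw [hx, fH_sub_left, fH_sub_left, fH_smul_left, fH_smul_left, hp₁w, hp₂w]; ring
    have hxw' : fH σ G x w' = 0 := by
      rw [hx, fH_sub_left, fH_sub_left, fH_smul_left, fH_smul_left, hp₁w', hp₂w']; ring
    rw [show a = x + fH σ G a w • p₁ + fH σ G a w' • p₂ by rw [hx]; abel]
    simp only [fH_add_right, fH_smul_right, fH_sub_left, fH_add_left, fH_smul_left,
      hvperp _ (hker _ hxw hxw'), H.hG.symm_zero hxw, H.hG.symm_zero hxw', hwp₁, hwp₂, hw'p₁, hw'p₂]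
    ring
  have hviso : Iso σ G v := ⟨hy, by
    rw [hv2]
    simp only [fH_add_left, fH_add_right, fH_smul_left, fH_smul_right, hw.2, hw'.2, hw'w, hww']
    ring⟩
  have hdec : Dec j a := by
    refine H.plane_dec hB haM (η := η) (Ψ := E σ G y v) ?_ hviso (by rw [mul_E, ← hv]) ?_ hc₀ ?_
    · have e := congrArg Units.val hua
      rw [Units.val_mul, Units.val_mul, huβ] at e
      rw [hη, show lift j (β' - 1) = liftHom (F := F) j (β' - 1) from rfl, map_sub, map_one,
        TensorWreath43.liftHom_apply, mul_sub, sub_mul, mul_one, one_mul, e]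
    · rw [H.hG.E_mul', hηadj, hv, Matrix.mulVec_mulVec, hηsq, Matrix.zero_mulVec, E_zero_right]
    · rw [H.hG.E_mul', hηadj, hker _ (H.hG.symm_zero hwc₀) (H.hG.symm_zero hw'c₀), E_zero_right]
  rcases H.alg_or_comm_of_dec hX (one_ne_zero (α := F)) (by rw [one_smul]; exact haX) hdec with ⟨ξ, hξ⟩ | hC
  · exact hns ⟨_, by rw [hξ, ct_lift]⟩
  · exact hns ⟨0, by rw [ct_comm hC, hw.2, zero_smul, zero_smul]⟩

end Cfsg.Agent.TensorWreathU84
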