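import Cfsg.Agent.Lib.TensorWreathU84Tools

/-!
An element of the overgroup stabilising the range of a root element is decomposable at that position.
-/

set_option autoImplicit false
set_option linter.unusedSectionVars false

namespace Cfsg.Agent.TensorWreathU84

open scoped Matrix
open Cfsg.Agent.TensorWreath43 (TI lift liftHom Comm cn MemU)

variable {F : Type*} [Field F] [Fintype F] {σ : F →+* F} {t m : ℕ}
variable {G : Matrix (Fin m) (Fin m) F} {M : Subgroup (GL (TI t m) F)}

theorem commutator_mem {R : Type*} [Ring R] {N : Subgroup Rˣ} {X Y K : R} (hX : MemU N X) (hY : MemU N Y)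
    (hK : K = X * Y - Y * X) (h1 : K * X = 0) (h2 : K * Y = 0) : MemU N K := by
  obtain ⟨a, ha, haX⟩ := hX
  obtain ⟨b, hb, hbY⟩ := hY
  refine ⟨a * b * (b * a)⁻¹, N.mul_mem (N.mul_mem ha hb) (N.inv_mem (N.mul_mem hb ha)), ?_⟩
  rw [Units.val_mul (a * b), Units.mul_inv_eq_iff_eq_mul, Units.val_mul, Units.val_mul, haX, hbY]
  calc (1 + X) * (1 + Y) = (1 + Y) * (1 + X) + (X * Y - Y * X) + K * Y * (1 + X) + K * X := by
        rw [h1, h2, zero_mul, add_zero, add_zero]; noncomm_ring
    _ = (1 + K) * ((1 + Y) * (1 + X)) := by rw [← hK]; noncomm_ring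

/-- Products of the two kinds of summands. -/
theorem split_mul {j : Fin t} {E₀ : Matrix (Fin m) (Fin m) F} (hE : E₀ * E₀ = 0)
    {D D' A A' : Matrix (TI t m) (TI t m) F} (hD : Comm j D) (hA : Comm j A) :
    (D + lift j E₀ * A) * (D' + lift j E₀ * A') = D * D' + lift j E₀ * (D * A' + A * D') := by
  have e : lift j E₀ * lift j E₀ = (0 : Matrix (TI t m) (TI t m) F) := by
    rw [← TensorWreath43.lift_mul, hE, TensorWreath43.lift_zero]
  have h1 : D * (lift j E₀ * A') = lift j E₀ * (D * A') := by rw [← mul_assoc, ← hD, mul_assoc]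
  have h2 : lift j E₀ * A * (lift j E₀ * A') = 0 := by
    rw [mul_assoc, ← mul_assoc A, ← hA, mul_assoc, ← mul_assoc, e, zero_mul]
  rw [add_mul, mul_add, mul_add, h1, h2, add_zero, mul_add, mul_assoc (lift j E₀) A D']
  abel

theorem split_unique (hG : HG σ G) {j : Fin t} {w r : Fin m → F} (hw : fH σ G w w = 0) (hr : fH σ G r r = 0)
    (hwr : fH σ G w r = 1) {D D' A A' : Matrix (TI t m) (TI t m) F} (hD : Comm j D) (hD' : Comm j D')
    (hA : Comm j A) (hA' : Comm j A')
    (h : D + lift j (E σ G w w) * A = D' + lift j (E σ G w w) * A') : D = D' ∧ A = A' := by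
  have hrw : fH σ G r w = 1 := by rw [← hG.sigma_fH, hwr, map_one]
  constructor
  · have := congrArg (ct σ G j r w) h
    simpa only [ct_add, ct_comm hD, ct_comm hD', ct_lift_mul hA, ct_lift_mul hA', E_mulVec, fH_smul_left, hwr, hw,
      fH_zero_left, zero_mul, mul_one, zero_smul, one_smul, add_zero] using this
  · have := congrArg (ct σ G j r r) h
    simpa only [ct_add, ct_comm hD, ct_comm hD', ct_lift_mul hA, ct_lift_mul hA', E_mulVec, fH_smul_left, hwr, hrw, hr,
      mul_one, zero_smul, one_smul, zero_add] using this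

variable (H : UOver σ G M)
include H

theorem UOver.adj_conj {g : GL (TI t m) F} (hg : g ∈ M) (Z : Matrix (TI t m) (TI t m) F) :
    adj σ (GT t G) ((g : Matrix (TI t m) (TI t m) F) * Z * ((g⁻¹ : GL (TI t m) F) : Matrix (TI t m) (TI t m) F)) =
      (g : Matrix (TI t m) (TI t m) F) * adj σ (GT t G) Z * ((g⁻¹ : GL (TI t m) F) : Matrix (TI t m) (TI t m) F) := by
  rw [H.inv_val hg, (H.hG.gt t).adj_mul, (H.hG.gt t).adj_mul, (H.hG.gt t).adj_adj, mul_assoc]

variable (hB : ¬ Big σ G M) {j : Fin t} {w r : Fin m → F} (hw : Iso σ G w) (hr : Iso σ G r)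
  (hwr : fH σ G w r = 1) (hrw : fH σ G r w = 1)

section Range
include hB hw hr hwr hrw

/-- An element with range in the range of the root is a multiple of it. -/
theorem UOver.range_case {Z : Matrix (TI t m) (TI t m) F} (hZ : MemU M Z) (hs : adj σ (GT t G) Z = -Z)
    (hQ : lift j (E σ G w r) * Z = Z) : ∃ c : F, Z = c • lift j (E σ G w w) := by
  have h1 := congrArg (adj σ (GT t G)) hQ
  rw [(H.hG.gt t).adj_mul, adj_lift H.hG, H.hG.adj_E, hs, neg_mul, neg_inj] at h1
  have e : Z = lift j (E σ G w w) * ct σ G j r r Z := by rw [lift_E_mul_ct, hQ, h1]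
  obtain ⟨c, hc⟩ := H.scalar_of_mem hB hw (comm_ct j r r Z) (by rw [← e]; exact hZ)
  exact ⟨c, by rw [e, hc, Matrix.mul_smul, mul_one]⟩

variable {u : GL (TI t m) F} (hu : u ∈ M)
  (hR : lift j (E σ G w r) * (u : Matrix (TI t m) (TI t m) F) * lift j (E σ G w r) =
    (u : Matrix (TI t m) (TI t m) F) * lift j (E σ G w r))
include hu hR

/-- The root is an eigenvector. -/
theorem UOver.kappa : ∃ κ : F, κ ≠ 0 ∧
    (u : Matrix (TI t m) (TI t m) F) * lift j (E σ G w w) * ((u⁻¹ : GL (TI t m) F) : Matrix (TI t m) (TI t m) F) =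
      κ • lift j (E σ G w w) := by
  obtain ⟨z, hz0, hz⟩ := H.hG.exists_skew
  set L := lift j (E σ G w w) with hL
  set uv := (u : Matrix (TI t m) (TI t m) F)
  set ui := ((u⁻¹ : GL (TI t m) F) : Matrix (TI t m) (TI t m) F)
  have hQL : lift j (E σ G w r) * L = L := by
    rw [hL, ← TensorWreath43.lift_mul, E_mul, hwr, one_smul]
  have hQ : lift j (E σ G w r) * (uv * L * ui) = uv * L * ui := by
    calc lift j (E σ G w r) * (uv * L * ui) = lift j (E σ G w r) * uv * lift j (E σ G w r) * L * ui := by
          rw [mul_assoc (lift j (E σ G w r) * uv), hQL]; simp only [mul_assoc]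
      _ = _ := by rw [hR, mul_assoc uv, hQL]
  have hX := H.root_conj (H.root_lift j hw) hu
  obtain ⟨c, hc⟩ := H.range_case hB hw hr hwr hrw (H.root_mem_smul hX hz)
    (by rw [adj_smul, H.root_adj hX, hz, neg_smul]) (by rw [Matrix.mul_smul, hQ])
  have he : uv * L * ui = (c / z) • L := by
    rw [div_eq_inv_mul, mul_smul, ← hc, smul_smul, inv_mul_cancel₀ hz0, one_smul]
  refine ⟨c / z, fun h0 => H.root_ne hX ?_, he⟩
  rw [he, h0, zero_smul]

theorem UOver.inv_range : lift j (E σ G w r) * ((u⁻¹ : GL (TI t m) F) : Matrix (TI t m) (TI t m) F) *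
    lift j (E σ G w r) = ((u⁻¹ : GL (TI t m) F) : Matrix (TI t m) (TI t m) F) * lift j (E σ G w r) := by
  obtain ⟨κ, hκ0, hκ⟩ := H.kappa hB hw hr hwr hrw hu hR
  set L := lift j (E σ G w w) with hL
  set uv := (u : Matrix (TI t m) (TI t m) F)
  set ui := ((u⁻¹ : GL (TI t m) F) : Matrix (TI t m) (TI t m) F) with hui
  have e : ui * L = κ⁻¹ • (L * ui) := by
    have := congrArg (fun Z => ui * Z) hκ
    simp only [hui, uv, mul_assoc, Units.inv_mul_cancel_left, Matrix.mul_smul] at this
    rw [this, smul_smul, inv_mul_cancel₀ hκ0, one_smul]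
  have eQ : lift j (E σ G w r) = L * lift j (E σ G r r) := by
    rw [hL, ← TensorWreath43.lift_mul, E_mul, hrw, one_smul]
  have eQL : lift j (E σ G w r) * L = L := by rw [hL, ← TensorWreath43.lift_mul, E_mul, hwr, one_smul]
  calc lift j (E σ G w r) * ui * lift j (E σ G w r) = lift j (E σ G w r) * (ui * L) * lift j (E σ G r r) := by
        conv_lhs => arg 2; rw [eQ]
        simp only [mul_assoc]
    _ = κ⁻¹ • (lift j (E σ G w r) * L * ui * lift j (E σ G r r)) := by
        rw [e, Matrix.mul_smul, Matrix.smul_mul]; simp only [mul_assoc]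
    _ = κ⁻¹ • (L * ui) * lift j (E σ G r r) := by rw [eQL, Matrix.smul_mul]
    _ = ui * lift j (E σ G w r) := by rw [← e, mul_assoc, ← eQ]

/-- Siegel elements at the root go into lifts. -/
theorem UOver.siegel_alg {y : Fin m → F} (hy : fH σ G y w = 0) {μ : F} (hμ : μ + σ μ = -fH σ G y y) :
    AlgU j ((u : Matrix (TI t m) (TI t m) F) * lift j (E σ G w y - E σ G y w + μ • E σ G w w) *
      ((u⁻¹ : GL (TI t m) F) : Matrix (TI t m) (TI t m) F)) := by
  haveI := H.neZero
  obtain ⟨κ, hκ0, hκ⟩ := H.kappa hB hw hr hwr hrw hu hR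
  have mem : ∀ {y : Fin m → F} {μ : F}, fH σ G y w = 0 → μ + σ μ = -fH σ G y y →
      ∃ g ∈ M, (g : Matrix (TI t m) (TI t m) F) = 1 + lift j (E σ G w y - E σ G y w + μ • E σ G w w) := by
    intro y μ hy hμ
    have hwy := H.hG.symm_zero hy
    have e : (1 + (1 : F) • E σ G w y) * (1 + (-1 : F) • E σ G y w) * (1 + (μ + fH σ G y y) • E σ G w w) =
        1 + (E σ G w y - E σ G y w + μ • E σ G w w) := by
      simp only [one_smul, neg_one_smul, add_mul, mul_add, one_mul, mul_one, mul_neg, neg_mul, E_mul, hy, hwy, hw.2,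
        smul_mul_assoc, mul_smul_comm, zero_smul, smul_zero, neg_zero, add_zero]
      module
    have hdet : (1 + (E σ G w y - E σ G y w + μ • E σ G w w)).det = 1 := by
      rw [← e, Matrix.det_mul, Matrix.det_mul, det_one_add_E, det_one_add_E, det_one_add_E, hy, hwy, hw.2, mul_zero,
        mul_zero, mul_zero, add_zero, one_mul, one_mul]
    have hiso : adj σ G (1 + (E σ G w y - E σ G y w + μ • E σ G w w)) *
        (1 + (E σ G w y - E σ G y w + μ • E σ G w w)) = 1 := by
      rw [adj_add, adj_add, adj_sub, adj_smul, H.hG.adj_one, H.hG.adj_E, H.hG.adj_E, H.hG.adj_E]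
      simp only [add_mul, sub_mul, mul_add, mul_sub, one_mul, mul_one, smul_mul_assoc, mul_smul_comm, E_mul, hy, hwy,
        hw.2, zero_smul, smul_zero, sub_zero, add_zero]
      calc _ = 1 + (μ + σ μ + fH σ G y y) • E σ G w w := by module
        _ = 1 := by rw [hμ, neg_add_cancel, zero_smul, add_zero]
    refine ⟨_, H.root j (Matrix.GeneralLinearGroup.mkOfDetNeZero _ (by rw [hdet]; exact one_ne_zero)) hiso hdet, ?_⟩
    show lift j (1 + _) = _
    rw [TensorWreath43.lift_add, TensorWreath43.lift_one]
  set L := lift j (E σ G w w) with hL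
  set Q := lift j (E σ G w r) with hQdef
  set Q' := lift j (E σ G r w) with hQ'def
  set uv := (u : Matrix (TI t m) (TI t m) F)
  set ui := ((u⁻¹ : GL (TI t m) F) : Matrix (TI t m) (TI t m) F) with hui
  set N := E σ G w y - E σ G y w + μ • E σ G w w with hN
  set Z := uv * lift j N * ui with hZdef
  have huu : ui * uv = 1 := Units.inv_mul u
  have hwy := H.hG.symm_zero hy
  have hLN : L * lift j N = 0 ∧ lift j N * L = 0 := by
    constructor <;>
    · rw [hL, ← TensorWreath43.lift_mul, hN]
      simp only [mul_add, mul_sub, add_mul, sub_mul, mul_smul_comm, smul_mul_assoc, E_mul, hy, hwy, hw.2, zero_smul,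
        smul_zero, sub_zero, add_zero, TensorWreath43.lift_zero]
  have euL : uv * L = κ • (L * uv) := by
    have := congrArg (· * uv) hκ
    simp only [mul_assoc, Matrix.smul_mul] at this
    rwa [show ui * uv = 1 from huu, mul_one] at this
  have eLu : L * uv = κ⁻¹ • (uv * L) := by rw [euL, smul_smul, inv_mul_cancel₀ hκ0, one_smul]
  have euiL : L * ui = κ • (ui * L) := by
    have := congrArg (fun A => ui * A) hκ
    simp only [← mul_assoc, Matrix.mul_smul] at this
    rwa [show ui * uv = 1 from huu, one_mul] at this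
  have hLZ : L * Z = 0 := by
    rw [hZdef, ← mul_assoc, ← mul_assoc, eLu, Matrix.smul_mul, Matrix.smul_mul, mul_assoc uv, hLN.1, mul_zero,
      zero_mul, smul_zero]
  have hZL : Z * L = 0 := by
    have : ui * L = κ⁻¹ • (L * ui) := by rw [euiL, smul_smul, inv_mul_cancel₀ hκ0, one_smul]
    rw [hZdef, mul_assoc, this, Matrix.mul_smul, ← mul_assoc, mul_assoc uv, hLN.2, mul_zero, zero_mul, smul_zero]
  obtain ⟨A, B, hAB⟩ : ∃ A B, Z = Q * A + B * Q' := by
    have hQu : uv * Q = Q * (uv * Q) := by rw [← mul_assoc, hR]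
    have hQu' : Q' * ui = Q' * ui * Q' := by
      have := congrArg (adj σ (GT t G)) hR
      rw [(H.hG.gt t).adj_mul, (H.hG.gt t).adj_mul, (H.hG.gt t).adj_mul, hQdef, adj_lift H.hG, H.hG.adj_E,
        ← H.inv_val hu] at this
      rw [hQ'def, hui]
      rw [← mul_assoc] at this
      exact this.symm
    refine ⟨uv * Q * lift j (E σ G w y + μ • E σ G w w) * ui, -(uv * lift j (E σ G y w) * Q' * ui), ?_⟩
    have eN : lift j N = Q * lift j (E σ G w y + μ • E σ G w w) - lift j (E σ G y w) * Q' := by
      rw [hQdef, hQ'def, ← TensorWreath43.lift_mul, ← TensorWreath43.lift_mul, mul_add, mul_smul_comm, E_mul, E_mul,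
        E_mul, hwr, hrw, one_smul, one_smul, one_smul, eq_sub_iff_add_eq, ← TensorWreath43.lift_add]
      congr 1
      rw [hN]; abel
    rw [hZdef, eN, mul_sub, sub_mul, sub_eq_add_neg, neg_mul]
    congr 1
    · rw [← mul_assoc uv]
      conv_lhs => rw [hQu]
      simp only [mul_assoc]
    · congr 1
      simp only [mul_assoc] at hQu' ⊢
      rw [← hQu']
  have hadjZ : adj σ (GT t G) Z = -Z + ((μ + σ μ) * κ) • L := by
    rw [hZdef, H.adj_conj hu, adj_lift H.hG, hN, adj_add, adj_sub, adj_smul, H.hG.adj_E, H.hG.adj_E, H.hG.adj_E,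
      show E σ G y w - E σ G w y + σ μ • E σ G w w =
        -(E σ G w y - E σ G y w + μ • E σ G w w) + (μ + σ μ) • E σ G w w by module,
      TensorWreath43.lift_add, TensorWreath43.lift_smul, ← neg_one_smul F (E σ G w y - E σ G y w + μ • E σ G w w),
      TensorWreath43.lift_smul, neg_one_smul, mul_add, add_mul, mul_neg, neg_mul, Matrix.mul_smul, Matrix.smul_mul,
      ← hL, hκ, smul_smul]
  obtain ⟨g, hg, hgZ⟩ := mem hy hμ
  have hZmem : MemU M Z := MemU.conjU ⟨g, hg, hgZ⟩ hu
  -- the cross contractions are scalar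
  have hsc : ∀ y', fH σ G y' w = 0 → ∃ c : F, ct σ G j r y' Z = c • 1 := by
    have key : ∀ y', fH σ G y' w = 0 → ∃ c : F, ct σ G j r y' Z + ct σ G j y' r Z = c • 1 := by
      intro y' hy'
      obtain ⟨μ', hμ'⟩ := H.hG.uform.exists_trace (a := -fH σ G y' y') (by rw [map_neg, H.hG.self_fixed])
      obtain ⟨g', hg', hg'Z⟩ := mem hy' hμ'
      set n' := lift j (E σ G w y' - E σ G y' w + μ' • E σ G w w) with hn'
      have hwy' := H.hG.symm_zero hy'
      have z1 : ∀ x, Z * lift j (E σ G w x) = 0 := fun x => by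
        rw [show E σ G w x = E σ G w w * E σ G r x by rw [E_mul, hrw, one_smul], TensorWreath43.lift_mul, ← mul_assoc,
          ← hL, hZL, zero_mul]
      have z2 : ∀ x, lift j (E σ G x w) * Z = 0 := fun x => by
        rw [show E σ G x w = E σ G x r * E σ G w w by rw [E_mul, hwr, one_smul], TensorWreath43.lift_mul, mul_assoc,
          ← hL, hLZ, mul_zero]
      have hn : n' = lift j (E σ G w y') - lift j (E σ G y' w) + μ' • L := by
        rw [hn', TensorWreath43.lift_add, TensorWreath43.lift_smul, hL]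
        congr 1
        exact map_sub (liftHom (F := F) j) _ _
      have eQ2 : Q * Q = Q := by rw [hQdef, ← TensorWreath43.lift_mul, E_mul, hwr, one_smul]
      have eQ'2 : Q' * Q' = Q' := by rw [hQ'def, ← TensorWreath43.lift_mul, E_mul, hrw, one_smul]
      have e1 : Z * lift j (E σ G y' w) = L * ct σ G j r y' Z := by
        rw [hL, lift_E_mul_ct, ← hQdef]
        have e0 : Z * lift j (E σ G y' w) = Q * (A * lift j (E σ G y' w)) := by
          rw [hAB, add_mul, mul_assoc B, hQ'def, ← TensorWreath43.lift_mul, E_mul, hy', zero_smul,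
            TensorWreath43.lift_zero, mul_zero, add_zero, mul_assoc]
        rw [mul_assoc Q Z, e0, ← mul_assoc Q Q, eQ2]
      have e2 : lift j (E σ G w y') * Z = L * ct σ G j y' r Z := by
        rw [hL, lift_E_mul_ct, ← hQ'def]
        have e0 : lift j (E σ G w y') * Z = lift j (E σ G w y') * B * Q' := by
          rw [hAB, mul_add, ← mul_assoc, hQdef, ← TensorWreath43.lift_mul, E_mul, hwy', zero_smul,
            TensorWreath43.lift_zero, zero_mul, zero_add, mul_assoc]
        rw [e0, mul_assoc (lift j (E σ G w y') * B) Q' Q', eQ'2]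
      have hK : Z * n' - n' * Z = L * -(ct σ G j r y' Z + ct σ G j y' r Z) := by
        rw [hn, mul_add, mul_sub, add_mul, sub_mul, z1, z2, Matrix.mul_smul, Matrix.smul_mul, hZL, hLZ, e1, e2,
          smul_zero, add_zero, add_zero, mul_neg, mul_add]
        abel
      have hLn : L * n' = 0 := by
        rw [hL, hn', ← TensorWreath43.lift_mul]
        simp only [mul_add, mul_sub, mul_smul_comm, E_mul, hy', hw.2, zero_smul, smul_zero, sub_zero, add_zero,
          TensorWreath43.lift_zero]
      have hC : Comm j (ct σ G j r y' Z + ct σ G j y' r Z) := (comm_ct _ _ _ _).add (comm_ct _ _ _ _)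
      have hC' : Comm j (-(ct σ G j r y' Z + ct σ G j y' r Z)) := by
        rw [← neg_one_smul F (_ + _ : Matrix (TI t m) (TI t m) F)]; exact hC.smul _
      have hKm := commutator_mem (N := M) hZmem ⟨g', hg', hg'Z⟩ hK.symm
        (by rw [hC', mul_assoc, hLZ, mul_zero]) (by rw [hC', mul_assoc, hLn, mul_zero])
      obtain ⟨c, hc⟩ := H.scalar_of_mem hB hw hC' hKm
      exact ⟨-c, by rw [neg_smul, ← hc, neg_neg]⟩
    intro y' hy'
    obtain ⟨a, ha⟩ := H.hG.ne
    obtain ⟨c₁, hc₁⟩ := key y' hy'
    obtain ⟨c₂, hc₂⟩ := key (a • y') (by rw [fH_smul_left, hy', mul_zero])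
    rw [ct_smul_right, ct_smul_left] at hc₂
    refine ⟨(c₂ - σ a * c₁) / (a - σ a), ?_⟩
    have hne : a - σ a ≠ 0 := sub_ne_zero.2 fun e => ha e.symm
    have e3 : (a - σ a) • ct σ G j r y' Z = (c₂ - σ a * c₁) • (1 : Matrix (TI t m) (TI t m) F) := by
      rw [sub_smul, sub_smul, ← hc₂, mul_smul, ← hc₁, smul_add]
      abel
    rw [div_eq_inv_mul, mul_smul, ← e3, smul_smul, inv_mul_cancel₀ hne, one_smul]
  -- the functional
  let x₀ : TI t m := fun _ => 0
  let φ : (Fin m → F) →ₗ[F] F :=
    { toFun := fun v => ct σ G j r (v - fH σ G v w • r) Z x₀ x₀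
      map_add' := fun a b => by
        rw [show a + b - fH σ G (a + b) w • r = (a - fH σ G a w • r) + (b - fH σ G b w • r) by
          rw [fH_add_left]; module, ct_add_right]
        rfl
      map_smul' := fun c a => by
        rw [show c • a - fH σ G (c • a) w • r = c • (a - fH σ G a w • r) by rw [fH_smul_left]; module, ct_smul_right]
        rfl }
  obtain ⟨y₂, hy₂⟩ := H.hG.exists_row fun p => φ (Pi.single p 1)
  have hφ : ∀ v, fH σ G v y₂ = φ v := fun v => by
    conv_rhs => rw [← TensorWreath43.sum_smul_single v]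
    rw [map_sum, fH, hy₂, dotProduct]
    simp only [map_smul, smul_eq_mul]
  have hry : ∀ y', fH σ G y' w = 0 → ct σ G j r y' Z = fH σ G y' y₂ • 1 := fun y' hy' => by
    obtain ⟨c, hc⟩ := hsc y' hy'
    rw [hφ, show φ y' = ct σ G j r (y' - fH σ G y' w • r) Z x₀ x₀ from rfl, hy', zero_smul, sub_zero, hc,
      Matrix.smul_apply, Matrix.one_apply_eq, smul_eq_mul, mul_one]
  have hrw0 : ct σ G j r w Z = 0 := by
    have := congrArg (ct σ G j r r) hZL
    rwa [ct_mul_lift, E_mulVec, hrw, one_smul, ct_zero] at this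
  have hwv : ∀ v, ct σ G j w v Z = 0 := fun v => by
    have := congrArg (ct σ G j r v) hLZ
    rwa [ct_lift_left H.hG, H.hG.adj_E, E_mulVec, hrw, one_smul, ct_zero] at this
  have hy₂w : fH σ G y₂ w = 0 := by
    refine H.hG.symm_zero ?_
    rw [hφ, show φ w = ct σ G j r (w - fH σ G w w • r) Z x₀ x₀ from rfl, hw.2, zero_smul, sub_zero, hrw0,
      Matrix.zero_apply]
  have hyr : ∀ y', fH σ G y' w = 0 → ct σ G j y' r Z = -fH σ G y₂ y' • 1 := fun y' hy' => by
    have := congrArg (adj σ (GT t G)) (hry y' hy')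
    rw [adj_ct H.hG, hadjZ, ct_add, ct_neg, ct_smul, hL, ct_lift, E_mulVec, fH_smul_left, hrw,
      H.hG.symm_zero hy', adj_smul, (H.hG.gt t).adj_one, H.hG.sigma_fH, mul_zero, zero_smul, smul_zero, add_zero,
      neg_eq_iff_eq_neg, ← neg_smul] at this
    exact this
  have hxy : ∀ x y', fH σ G x w = 0 → fH σ G y' w = 0 → ct σ G j x y' Z = 0 := fun x y' hx hy' => by
    rw [hAB, ct_add, hQdef, hQ'def, ct_lift_left H.hG, H.hG.adj_E, E_mulVec, hx, ct_mul_lift, E_mulVec, hy',
      ct_smul_left, ct_smul_right, map_zero, zero_smul, zero_smul, add_zero]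
  set D := ct σ G j r r (Z - lift j (E σ G w y₂ - E σ G y₂ w)) with hD
  have hdec : Z = lift j (E σ G w y₂ - E σ G y₂ w) + L * D := by
    refine eq_of_ct H.hG j fun a b => ?_
    have hxw : fH σ G (a - fH σ G a w • r) w = 0 := by rw [fH_sub_left, fH_smul_left, hrw, mul_one, sub_self]
    have hyw : fH σ G (b - fH σ G b w • r) w = 0 := by rw [fH_sub_left, fH_smul_left, hrw, mul_one, sub_self]
    set x := a - fH σ G a w • r with hx
    set y' := b - fH σ G b w • r with hy'
    have ea : a = x + fH σ G a w • r := by rw [hx]; abel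
    have eb : b = y' + fH σ G b w • r := by rw [hy']; abel
    have e1 : ∀ c d, ct σ G j c d (lift j (E σ G w y₂ - E σ G y₂ w)) =
        (fH σ G d y₂ * fH σ G w c - fH σ G d w * fH σ G y₂ c) • (1 : Matrix (TI t m) (TI t m) F) := fun c d => by
      rw [ct_lift, Matrix.sub_mulVec, E_mulVec, E_mulVec, fH_sub_left, fH_smul_left, fH_smul_left]
    have e2 : ∀ c d, ct σ G j c d (L * D) = (fH σ G d w * fH σ G w c) • D := fun c d => by
      rw [hL, ct_lift_mul (comm_ct _ _ _ _), E_mulVec, fH_smul_left]
    rw [ct_add, e2, hD, ct_sub, e1 r r, e1]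
    conv_lhs => rw [ea, eb]
    simp only [ct_add_left, ct_add_right, ct_smul_left, ct_smul_right, hxy x y' hxw hyw, hry y' hyw, hyr x hxw,
      hwr, hrw, H.hG.sigma_fH, smul_zero, zero_add, smul_add, smul_smul]
    rw [show fH σ G b y₂ = fH σ G y' y₂ + fH σ G b w * fH σ G r y₂ by
        conv_lhs => rw [eb]
        rw [fH_add_left, fH_smul_left],
      show fH σ G y₂ a = fH σ G y₂ x + fH σ G w a * fH σ G y₂ r by
        conv_lhs => rw [ea]
        rw [fH_add_right, fH_smul_right, H.hG.sigma_fH]]
    module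
  obtain ⟨μ₂, hμ₂⟩ := H.hG.uform.exists_trace (a := -fH σ G y₂ y₂) (by rw [map_neg, H.hG.self_fixed])
  obtain ⟨g₂, hg₂, hg₂Z⟩ := mem hy₂w hμ₂
  obtain ⟨g₁, hg₁, hg₁Z⟩ := hZmem
  have hD2 : Comm j (D - μ₂ • 1) := (comm_ct _ _ _ _).sub (comm_scalar j μ₂)
  have hkill : lift j (E σ G w y₂ - E σ G y₂ w + μ₂ • E σ G w w) * L = 0 := by
    rw [hL, ← TensorWreath43.lift_mul]
    simp only [add_mul, sub_mul, smul_mul_assoc, E_mul, H.hG.symm_zero hy₂w, hw.2, zero_smul, smul_zero, sub_zero,
      add_zero, TensorWreath43.lift_zero]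
  have hmem : MemU M (L * (D - μ₂ • 1)) := by
    refine ⟨g₂⁻¹ * g₁, M.mul_mem (M.inv_mem hg₂) hg₁, ?_⟩
    rw [Units.val_mul, Units.inv_mul_eq_iff_eq_mul, hg₁Z, hg₂Z]
    calc (1 : Matrix (TI t m) (TI t m) F) + Z
        = 1 + lift j (E σ G w y₂ - E σ G y₂ w + μ₂ • E σ G w w) + L * (D - μ₂ • 1) +
          lift j (E σ G w y₂ - E σ G y₂ w + μ₂ • E σ G w w) * L * (D - μ₂ • 1) := by
          rw [hkill, zero_mul, add_zero, hdec, TensorWreath43.lift_add, TensorWreath43.lift_smul, ← hL, mul_sub,
            Matrix.mul_smul, mul_one]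
          abel
      _ = _ := by simp only [add_mul, mul_add, one_mul, mul_one, mul_assoc]; abel
  obtain ⟨c, hc⟩ := H.scalar_of_mem hB hw hD2 hmem
  refine ⟨E σ G w y₂ - E σ G y₂ w + (c + μ₂) • E σ G w w, ?_⟩
  rw [hdec, TensorWreath43.lift_add, TensorWreath43.lift_smul, sub_eq_iff_eq_add.1 hc, ← hL, ← add_smul,
    Matrix.mul_smul, mul_one]

omit hu hR in
/-- The shape of a matrix commuting with the root and with the Siegel lifts. -/
theorem UOver.shape {T : Matrix (TI t m) (TI t m) F}
    (hTL : lift j (E σ G w w) * T = T * lift j (E σ G w w))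
    (hTN : ∀ y μ, fH σ G y w = 0 → μ + σ μ = -fH σ G y y →
      lift j (E σ G w y - E σ G y w + μ • E σ G w w) * T = T * lift j (E σ G w y - E σ G y w + μ • E σ G w w)) :
    T = ct σ G j r w T + lift j (E σ G w w) * ct σ G j r r T := by
  have hcomm : ∀ y, fH σ G y w = 0 → lift j (E σ G w y) * T = T * lift j (E σ G w y) ∧
      lift j (E σ G y w) * T = T * lift j (E σ G y w) := by
    intro y hy
    have hs : ∀ y, fH σ G y w = 0 → (lift j (E σ G w y) - lift j (E σ G y w)) * T =
        T * (lift j (E σ G w y) - lift j (E σ G y w)) := by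
      intro y hy
      obtain ⟨μ, hμ⟩ := H.hG.uform.exists_trace (a := -fH σ G y y) (by rw [map_neg, H.hG.self_fixed])
      have h := hTN y μ hy hμ
      rw [TensorWreath43.lift_add, TensorWreath43.lift_smul, add_mul, mul_add, Matrix.smul_mul, Matrix.mul_smul, hTL,
        show lift j (E σ G w y - E σ G y w) = lift j (E σ G w y) - lift j (E σ G y w) from
          map_sub (liftHom (F := F) j) _ _] at h
      exact add_right_cancel h
    obtain ⟨a, ha⟩ := H.hG.ne
    have hne : σ a - a ≠ 0 := sub_ne_zero.2 ha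
    have h1 := hs y hy
    have h2 := hs (a • y) (by rw [fH_smul_left, hy, mul_zero])
    rw [E_smul_right, E_smul_left, TensorWreath43.lift_smul, TensorWreath43.lift_smul] at h2
    simp only [sub_mul, mul_sub, Matrix.smul_mul, Matrix.mul_smul] at h1 h2
    have h3 : (σ a - a) • (lift j (E σ G w y) * T - T * lift j (E σ G w y)) = 0 := by
      calc (σ a - a) • (lift j (E σ G w y) * T - T * lift j (E σ G w y))
          = (σ a • (lift j (E σ G w y) * T) - a • (lift j (E σ G y w) * T) -
              (σ a • (T * lift j (E σ G w y)) - a • (T * lift j (E σ G y w)))) -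
            a • ((lift j (E σ G w y) * T - lift j (E σ G y w) * T) -
              (T * lift j (E σ G w y) - T * lift j (E σ G y w))) := by module
        _ = 0 := by rw [h2, h1, sub_self, sub_self, smul_zero, sub_zero]
    have h4 := sub_eq_zero.1 ((smul_eq_zero.1 h3).resolve_left hne)
    refine ⟨h4, ?_⟩
    rw [h4] at h1
    exact sub_right_inj.1 h1
  have hbal : ∀ {η : Matrix (Fin m) (Fin m) F}, lift j η * T = T * lift j η → ∀ a b,
      ct σ G j (adj σ G η *ᵥ a) b T = ct σ G j a (η *ᵥ b) T := by
    intro η h a b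
    rw [← ct_lift_left H.hG, h, ct_mul_lift]
  set D := ct σ G j r w T with hD
  have hwrT : ct σ G j w r T = D := by
    have := hbal hTL r r
    rwa [H.hG.adj_E, E_mulVec, hrw, one_smul, ← hD] at this
  have eq1 : ∀ y a, fH σ G y w = 0 → ct σ G j a y T = fH σ G y a • D := by
    intro y a hy
    have := hbal (hcomm y hy).2 a r
    rw [H.hG.adj_E, E_mulVec, E_mulVec, ct_smul_left, ct_smul_right, H.hG.sigma_fH, hrw, one_smul, hwrT] at this
    exact this.symm
  have eq2 : ∀ y b, fH σ G y w = 0 → ct σ G j y b T = fH σ G b y • D := by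
    intro y b hy
    have := hbal (hcomm y hy).1 r b
    rw [H.hG.adj_E, E_mulVec, E_mulVec, ct_smul_left, ct_smul_right, H.hG.sigma_fH, hwr, one_smul, ← hD] at this
    exact this
  refine eq_of_ct H.hG j fun a b => ?_
  have hxw : fH σ G (a - fH σ G a w • r) w = 0 := by rw [fH_sub_left, fH_smul_left, hrw, mul_one, sub_self]
  have hyw : fH σ G (b - fH σ G b w • r) w = 0 := by rw [fH_sub_left, fH_smul_left, hrw, mul_one, sub_self]
  rw [ct_add, ct_comm (comm_ct _ _ _ _), ct_lift_mul (comm_ct _ _ _ _), E_mulVec, fH_smul_left]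
  set x := a - fH σ G a w • r with hx
  set y := b - fH σ G b w • r with hy
  have ea : a = x + fH σ G a w • r := by rw [hx]; abel
  have eb : b = y + fH σ G b w • r := by rw [hy]; abel
  conv_lhs => rw [ea, eb]
  simp only [ct_add_left, ct_add_right, ct_smul_left, ct_smul_right, eq1 y x hyw, eq1 y r hyw, eq2 x r hxw,
    H.hG.sigma_fH, smul_add, smul_smul]
  rw [show fH σ G b a = fH σ G y x + fH σ G b w * fH σ G r x + fH σ G w a * fH σ G y r by
    conv_lhs => rw [ea, eb]
    rw [fH_add_left, fH_add_right, fH_add_right, fH_smul_left, fH_smul_left, fH_smul_right, fH_smul_right,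
      H.hG.sigma_fH, hr.2]
    ring]
  module

/-- The conjugates of the lifts at another position commute with the position. -/
theorem UOver.conj_comm_other {i : Fin t} (hij : i ≠ j) (η : Matrix (Fin m) (Fin m) F) :
    Comm j ((u : Matrix (TI t m) (TI t m) F) * lift i η * ((u⁻¹ : GL (TI t m) F) : Matrix (TI t m) (TI t m) F)) := by
  haveI := H.neZero
  obtain ⟨κ, hκ0, hκ⟩ := H.kappa hB hw hr hwr hrw hu hR
  set L := lift j (E σ G w w) with hL
  set uv := (u : Matrix (TI t m) (TI t m) F)
  set ui := ((u⁻¹ : GL (TI t m) F) : Matrix (TI t m) (TI t m) F) with hui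
  have huu : ui * uv = 1 := Units.inv_mul u
  let T : Matrix (Fin m) (Fin m) F → Matrix (TI t m) (TI t m) F := fun η => uv * lift i η * ui
  have Tadd : ∀ a b, T (a + b) = T a + T b := fun a b => by
    simp only [T, TensorWreath43.lift_add, mul_add, add_mul]
  have Tsmul : ∀ (c : F) a, T (c • a) = c • T a := fun c a => by
    simp only [T, TensorWreath43.lift_smul, Matrix.mul_smul, Matrix.smul_mul]
  have Tmul : ∀ a b, T (a * b) = T a * T b := fun a b => by
    simp only [T, TensorWreath43.lift_mul, mul_assoc]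
    rw [← mul_assoc ui uv, huu, one_mul]
  have commT : ∀ {P P' : Matrix (TI t m) (TI t m) F}, ui * P * uv = P' →
      (∀ η, P' * lift i η = lift i η * P') → ∀ η, P * T η = T η * P := by
    intro P P' hP hc η
    have huv : uv * ui = 1 := Units.mul_inv u
    have e : P = uv * P' * ui := by
      rw [← hP]; simp only [mul_assoc]; rw [huv, mul_one, ← mul_assoc, huv, one_mul]
    calc P * T η = uv * (P' * lift i η) * ui := by
          simp only [e, T, mul_assoc]; rw [← mul_assoc ui uv, huu, one_mul]
      _ = T η * P := by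
          rw [hc]; simp only [e, T, mul_assoc]; rw [← mul_assoc ui uv, huu, one_mul]
  have hshape : ∀ η, T η = ct σ G j r w (T η) + L * ct σ G j r r (T η) := by
    intro η
    refine H.shape hB hw hr hwr hrw ?_ fun y μ hy hμ => ?_
    · refine commT (P' := κ⁻¹ • L) ?_ (fun ξ => ?_) η
      · have := congrArg (fun Z => ui * Z * uv) hκ
        simp only [mul_assoc, Matrix.mul_smul, Matrix.smul_mul] at this
        rw [huu, mul_one, ← mul_assoc ui uv L, huu, one_mul] at this
        conv_rhs => rw [this, smul_smul, inv_mul_cancel₀ hκ0, one_smul, ← mul_assoc]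
      · rw [Matrix.smul_mul, Matrix.mul_smul, hL, TensorWreath43.lift_comm (Ne.symm hij)]
    · obtain ⟨N', hN'⟩ := H.siegel_alg hB hw hr hwr hrw (M.inv_mem hu) (H.inv_range hB hw hr hwr hrw hu hR) hy hμ
      rw [inv_inv] at hN'
      exact commT hN' (fun ξ => TensorWreath43.lift_comm (Ne.symm hij) _ _) η
  have hEE : E σ G w w * E σ G w w = 0 := hw.E_sq
  let Dm : Matrix (Fin m) (Fin m) F → Matrix (TI t m) (TI t m) F := fun η => ct σ G j r w (T η)
  let Am : Matrix (Fin m) (Fin m) F → Matrix (TI t m) (TI t m) F := fun η => ct σ G j r r (T η)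
  have hDm : ∀ η, Comm j (Dm η) := fun η => comm_ct _ _ _ _
  have hAm : ∀ η, Comm j (Am η) := fun η => comm_ct _ _ _ _
  have hmul : ∀ a b, Dm (a * b) = Dm a * Dm b ∧ Am (a * b) = Dm a * Am b + Am a * Dm b := fun a b => by
    refine split_unique H.hG hw.2 hr.2 hwr (hDm _) ((hDm a).mul (hDm b)) (hAm _)
      (((hDm a).mul (hAm b)).add ((hAm a).mul (hDm b))) ?_
    rw [← split_mul hEE (hDm a) (hAm a), ← hshape, ← hshape, ← hshape, Tmul]
  have T0 : T 0 = 0 := by simp only [T, TensorWreath43.lift_zero, mul_zero, zero_mul]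
  have hD0 : Dm 0 = 0 ∧ Am 0 = 0 := ⟨by simp only [Dm, T0, ct_zero], by simp only [Am, T0, ct_zero]⟩
  obtain ⟨z, hz0, hz⟩ := H.hG.exists_skew
  have hroot : ∀ b, Iso σ G b → ∃ c : F, Am (E σ G b b) = c • (1 + z • Dm (E σ G b b)) := by
    intro b hb
    set X := E σ G b b with hX
    set D := Dm X with hDdef
    set A := Am X with hAdef
    have hD : Comm j D := hDm X
    have hA : Comm j A := hAm X
    have hsh : T X = D + L * A := hshape X
    have hXX : X * X = 0 := hb.E_sq
    have d1 : D * D = 0 := by rw [hDdef, ← (hmul X X).1, hXX]; exact hD0.1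
    have d2 : D * A + A * D = 0 := by rw [hDdef, hAdef, ← (hmul X X).2, hXX]; exact hD0.2
    have hTm : MemU M (z • T X) := by
      have := (H.root_mem i hb.2 hz).conjU hu
      rwa [Matrix.mul_smul, Matrix.smul_mul] at this
    have hTT : z • T X * z • T X = 0 := by rw [Matrix.smul_mul, Matrix.mul_smul, ← Tmul, hXX, T0, smul_zero, smul_zero]
    obtain ⟨g₀, hg₀, hg₀X⟩ := hTm
    have hg₀inv : ((g₀⁻¹ : GL (TI t m) F) : Matrix (TI t m) (TI t m) F) = 1 - z • T X :=
      Units.inv_eq_of_mul_eq_one_right (by rw [hg₀X, add_mul, one_mul, mul_sub, mul_one, hTT]; abel)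
    obtain ⟨c, hc⟩ : ∃ c : F, A - z • (A * D) = c • 1 := by
      by_cases hfix : ∀ c, σ c = c → c = 0 ∨ c = 1
      · -- the field of four elements
        have h2 := char_two_of_fixed hfix
        have hz1 : z = 1 := (hfix z (by rw [hz]; linear_combination -(z * h2))).resolve_left hz0
        obtain ⟨y, hyi, hy'⟩ := H.hG.uform.exists_iso_perp (m := 2) (by have := H.q2 hfix; omega) ![w, r]
        have hyw : fH σ G y w = 0 := hy' 0
        have hyr : fH σ G y r = 0 := hy' 1
        have hwy := H.hG.symm_zero hyw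
        have hry := H.hG.symm_zero hyr
        have hyy : fH σ G y y = 0 := hyi.2
        let Ta : F → Matrix (Fin m) (Fin m) F := fun a =>
          E σ G (a • y) w + E σ G w (a • y) - E σ G (a • y) (a • y)
        have hγ : ∀ a, MemU M (lift j (Ta a) * (A - A * D)) := by
          intro a
          set v := a • y with hv
          have hvv : fH σ G v v = 0 := by rw [hv, fH_smul_left, fH_smul_right, hyy, mul_zero, mul_zero]
          have hvw : fH σ G v w = 0 := by rw [hv, fH_smul_left, hyw, mul_zero]
          have hvr : fH σ G v r = 0 := by rw [hv, fH_smul_left, hyr, mul_zero]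
          have hwv := H.hG.symm_zero hvw
          have hrv := H.hG.symm_zero hvr
          obtain ⟨s, hs, hsS⟩ := H.exists_siegel j hvv hr.2 hrv
          set S := E σ G r v - E σ G v r with hS
          have hSS : S * S = 0 := by
            simp only [hS, mul_sub, sub_mul, E_mul, hvv, hr.2, hvr, hrv, zero_smul, sub_zero]
          have hsinv : ((s⁻¹ : GL (TI t m) F) : Matrix (TI t m) (TI t m) F) = 1 - lift j S :=
            Units.inv_eq_of_mul_eq_one_right (by
              rw [hsS, add_mul, one_mul, mul_sub, mul_one, ← TensorWreath43.lift_mul, hSS, TensorWreath43.lift_zero]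
              abel)
          have e0 : (1 + S) * E σ G w w * (1 - S) = E σ G w w - Ta a := by
            simp only [hS, Ta, ← hv, add_mul, sub_mul, mul_sub, mul_add, one_mul, mul_one, E_mul, hwv, hvw, hwr, hrw,
              hvv, hrv, hvr, zero_smul, one_smul, zero_mul]
            abel
          have eL : (1 + lift j S) * L * (1 - lift j S) = L - lift j (Ta a) := by
            have := congrArg (liftHom (F := F) (t := t) j) e0
            simpa only [map_mul, map_add, map_sub, map_one, TensorWreath43.liftHom_apply, ← hL] using this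
          have eD : (1 + lift j S) * D * (1 - lift j S) = D := by
            rw [add_mul, one_mul, hD, ← mul_one_add D (lift j S), mul_assoc, show (1 + lift j S) * (1 - lift j S) = 1 by
              rw [← hsinv, ← hsS, Units.mul_inv], mul_one]
          have eA : (1 + lift j S) * (L * A) * (1 - lift j S) = (L - lift j (Ta a)) * A := by
            rw [← eL, mul_assoc ((1 + lift j S) * L), show (1 - lift j S) * A = A * (1 - lift j S) by
              rw [sub_mul, mul_sub, one_mul, mul_one, hA]]
            simp only [mul_assoc]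
          set g₁ := s * g₀ * s⁻¹ with hg₁
          refine ⟨g₀ * g₁⁻¹, M.mul_mem hg₀ (M.inv_mem (M.mul_mem (M.mul_mem hs hg₀) (M.inv_mem hs))), ?_⟩
          rw [hg₁, mul_inv_rev, mul_inv_rev, inv_inv, Units.val_mul, Units.val_mul, Units.val_mul, hg₀X, hg₀inv, hsS,
            hsinv, hsh, hz1, one_smul]
          have e1 : (1 + lift j S) * ((1 - (D + L * A)) * (1 - lift j S)) = 1 - (D + (L - lift j (Ta a)) * A) := by
            rw [← mul_assoc, mul_sub (1 + lift j S) 1 (D + L * A), mul_one, sub_mul, mul_add (1 + lift j S) D (L * A),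
              add_mul ((1 + lift j S) * D), eA, eD,
              show (1 + lift j S) * (1 - lift j S) = 1 by rw [← hsinv, ← hsS, Units.mul_inv]]
          rw [e1]
          have h3 : L * (L - lift j (Ta a)) = 0 := by
            rw [← eL, hL, show (1 + lift j S) = lift j (1 + S) by
              rw [TensorWreath43.lift_add, TensorWreath43.lift_one],
              show (1 - lift j S) = lift j (1 - S) by
                show _ = liftHom (F := F) j (1 - S)
                rw [map_sub, map_one]; rfl,
              ← TensorWreath43.lift_mul, ← TensorWreath43.lift_mul, ← TensorWreath43.lift_mul, e0]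
            simp only [Ta, ← hv, mul_sub, mul_add, E_mul, hw.2, hvw, zero_smul, sub_zero, add_zero,
              TensorWreath43.lift_zero]
          have h5 : (D + L * A) * (D + (L - lift j (Ta a)) * A) = lift j (Ta a) * (A * D) := by
            have c1 : D * ((L - lift j (Ta a)) * A) = (L - lift j (Ta a)) * (D * A) := by
              rw [← mul_assoc, mul_sub, sub_mul, ← hD, hL, ← hD, sub_mul (lift j (E σ G w w)), mul_assoc, mul_assoc]
            have c2 : L * A * ((L - lift j (Ta a)) * A) = 0 := by
              rw [mul_assoc, ← mul_assoc A, mul_sub, hL, ← hA, ← hA, ← sub_mul (lift j (E σ G w w)), mul_assoc,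
                ← mul_assoc (lift j (E σ G w w)), ← hL, h3, zero_mul]
            rw [add_mul, mul_add, mul_add, d1, c1, c2, zero_add, add_zero, eq_neg_of_add_eq_zero_left d2, sub_mul,
              mul_neg, mul_neg, sub_neg_eq_add, mul_assoc L A D]
            abel
          calc (1 + (D + L * A)) * (1 - (D + (L - lift j (Ta a)) * A))
              = 1 + lift j (Ta a) * A - (D + L * A) * (D + (L - lift j (Ta a)) * A) := by noncomm_ring
            _ = _ := by rw [h5, mul_sub]; abel
        obtain ⟨c, hc⟩ := H.hG.uform.exists_trace (a := (1 : F)) (map_one σ)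
        have hc0 : c ≠ 0 := fun e => by rw [e, map_zero, add_zero] at hc; exact zero_ne_one hc
        have hN : ∀ a : F, a ≠ 0 → a * σ a = 1 := fun a ha =>
          (hfix _ (by rw [map_mul, H.hG.invol, mul_comm])).resolve_left (mul_ne_zero ha ((map_ne_zero σ).2 ha))
        have hK : Comm j (A - A * D) := hA.sub (hA.mul hD)
        have hKK : ∀ a b, lift j (Ta a) * (A - A * D) * (lift j (Ta b) * (A - A * D)) = 0 := by
          intro a b
          rw [mul_assoc, ← mul_assoc (A - A * D), ← hK, mul_assoc, ← mul_assoc (lift j (Ta a)),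
            ← TensorWreath43.lift_mul]
          have : Ta a * Ta b = 0 := by
            simp only [Ta, E_smul_left, E_smul_right, mul_add, mul_sub, add_mul, sub_mul, smul_mul_assoc,
              mul_smul_comm, E_mul, hw.2, hyy, hyw, hwy, zero_smul, smul_zero, sub_zero, add_zero]
          rw [this, TensorWreath43.lift_zero, zero_mul]
        have hsum := ((hγ 1).add (hγ c) (hKK _ _)).add (hγ (σ c)) (by rw [add_mul, hKK, hKK, add_zero])
        have eT : Ta 1 + Ta c + Ta (σ c) = E σ G y y := by
          simp only [Ta, E_smul_left, E_smul_right, map_one, one_smul, H.hG.invol, smul_smul]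
          calc _ = (1 + (c + σ c)) • E σ G y w + (1 + (c + σ c)) • E σ G w y -
                (1 + σ c * c + c * σ c) • E σ G y y := by module
            _ = _ := by
              rw [hc, mul_comm (σ c) c, hN c hc0, show (1 + 1 + 1 : F) = -1 by linear_combination 2 * h2,
                show (1 + 1 : F) = 0 by linear_combination h2, zero_smul, zero_smul, neg_one_smul, zero_add,
                zero_sub, neg_neg]
        rw [← add_mul, ← add_mul, ← TensorWreath43.lift_add, ← TensorWreath43.lift_add, eT] at hsum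
        obtain ⟨c', hc'⟩ := H.scalar_of_mem hB (j := j) (w := y) ⟨hyi.1, hyy⟩ hK hsum
        exact ⟨c', by rw [hz1, one_smul, hc']⟩
      · push Not at hfix
        obtain ⟨ν, hν, hν0, hν1⟩ := hfix
        obtain ⟨a, ha⟩ := H.hG.uform.exists_norm hν
        obtain ⟨η', h1, h2, h3⟩ := H.hG.exists_torus H.hm hw (a := a) (fun e => hν0 (by rw [← ha, e, zero_mul]))
        have hη' : (η' : Matrix (Fin m) (Fin m) F) * adj σ G (η' : Matrix (Fin m) (Fin m) F) = 1 := mul_eq_one_comm.1 h1
        obtain ⟨g₁, hg₁, hg₁X⟩ := H.lift_conj j h1 h2 ⟨g₀, hg₀, hg₀X⟩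
        have e1 : lift j (η' : Matrix (Fin m) (Fin m) F) * (D + L * A) * lift j (adj σ G (η' : Matrix (Fin m) (Fin m) F)) =
            D + L * (ν • A) := by
          rw [mul_add, add_mul, hD, mul_assoc D, ← TensorWreath43.lift_mul, hη', TensorWreath43.lift_one, mul_one,
            ← mul_assoc, mul_assoc _ A, ← hA, ← mul_assoc, hL, ← TensorWreath43.lift_mul, ← TensorWreath43.lift_mul,
            H.hG.conj_E, h3, E_smul_left, E_smul_right, smul_smul, ha, TensorWreath43.lift_smul, Matrix.smul_mul,
            Matrix.mul_smul]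
        rw [Matrix.mul_smul, Matrix.smul_mul, hsh, e1] at hg₁X
        set C := ((ν - 1) * z) • (A - z • (A * D)) with hC
        have hCc : Comm j C := (hA.sub ((hA.mul hD).smul z)).smul _
        have hmem : MemU M (L * C) := by
          refine ⟨g₁ * g₀⁻¹, M.mul_mem hg₁ (M.inv_mem hg₀), ?_⟩
          rw [Units.val_mul, hg₁X, hg₀inv, hsh]
          have e2 : (D + L * (ν • A)) * (D + L * A) = (ν - 1) • (L * (A * D)) := by
            rw [hL, split_mul hEE hD (hA.smul ν), d1, zero_add, Matrix.smul_mul, eq_neg_of_add_eq_zero_left d2,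
              mul_add, mul_neg, Matrix.mul_smul, sub_smul, one_smul]
            abel
          calc (1 + z • (D + L * (ν • A))) * (1 - z • (D + L * A))
              = 1 + z • (D + L * (ν • A)) - z • (D + L * A) - (z * z) • ((D + L * (ν • A)) * (D + L * A)) := by
                rw [add_mul, one_mul, mul_sub, mul_one, smul_mul_smul_comm]
                abel
            _ = _ := by rw [e2, hC, Matrix.mul_smul, Matrix.mul_smul, mul_sub, Matrix.mul_smul]; module
        obtain ⟨c, hc⟩ := H.scalar_of_mem hB hw hCc hmem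
        have hne : (ν - 1) * z ≠ 0 := mul_ne_zero (sub_ne_zero.2 hν1) hz0
        exact ⟨c / ((ν - 1) * z), by rw [div_eq_inv_mul, mul_smul, ← hc, hC, smul_smul, inv_mul_cancel₀ hne, one_smul]⟩
    refine ⟨c, ?_⟩
    calc A = (A - z • (A * D)) * (1 + z • D) := by
          simp only [sub_mul, mul_add, mul_one, smul_mul_assoc, mul_smul_comm, mul_assoc, d1, mul_zero, smul_zero,
            add_zero]
          abel
      _ = c • (1 + z • D) := by rw [hc, Matrix.smul_mul, one_mul]
  have hP : Comm j (T η) := by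
    refine H.hG.of_iso_E (by have := H.hm; omega) (P := fun η => Comm j (T η)) ?_ (fun a b ha hb => ?_)
      (fun c a ha => ?_) (fun a b ha hb => ?_) ?_ η
    · rw [T0]; exact fun ξ => by rw [mul_zero, zero_mul]
    · rw [Tadd]; exact ha.add hb
    · rw [Tsmul]; exact ha.smul c
    · rw [Tmul]; exact ha.mul hb
    intro b hb
    obtain ⟨b', hb', hbb', hb'b⟩ := H.hG.exists_partner hb
    obtain ⟨x, hxb, hxb', hxx⟩ := H.hG.exists_perp_val H.hm hb hb' (by rw [hbb']; exact one_ne_zero) (map_one σ)
    obtain ⟨c, hc⟩ := hroot b hb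
    obtain ⟨c', hc'⟩ := hroot b' hb'
    set X := E σ G b b with hX
    set X' := E σ G b' b' with hX'
    set D := Dm X
    set D' := Dm X'
    by_cases hc0 : c = 0
    · rw [hshape X, show ct σ G j r r (T X) = Am X from rfl, hc, hc0, zero_smul, mul_zero, add_zero]
      exact comm_ct _ _ _ _
    exfalso
    have hXX : X * X = 0 := hb.E_sq
    have hX'X' : X' * X' = 0 := hb'.E_sq
    have hXXX : X * X' * X = X := by
      simp only [hX, hX', E_mul, smul_mul_assoc, hb'b, hbb', one_smul]
    have d1 : D * D = 0 := by rw [← (hmul X X).1, hXX]; exact hD0.1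
    have d1' : D' * D' = 0 := by rw [← (hmul X' X').1, hX'X']; exact hD0.1
    have d2 : D * D' * D = D := by rw [← (hmul X X').1, ← (hmul (X * X') X).1, hXXX]
    have d3 : c • (1 + z • D) = D * D' * (c • (1 + z • D)) + (D * (c' • (1 + z • D')) + c • (1 + z • D) * D') * D := by
      rw [← hc, ← hc', ← (hmul X X').1, ← (hmul X X').2, ← (hmul (X * X') X).2, hXXX]
    set e₀ := (1 : Matrix (TI t m) (TI t m) F) - D * D' - D' * D with he₀
    have d4 : c • e₀ = (c * z + c' * z) • D := by
      simp only [Matrix.mul_smul, Matrix.smul_mul, mul_add, add_mul, mul_one, one_mul, d1, d2, smul_add, smul_zero,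
        zero_add] at d3
      rw [he₀, smul_sub, smul_sub]
      calc c • (1 : Matrix (TI t m) (TI t m) F) - c • (D * D') - c • (D' * D)
          = (c • 1 + c • z • D) - c • (D * D') - c • (D' * D) - c • z • D := by abel
        _ = _ := by rw [d3]; module
    have d5 : e₀ * D = 0 := by
      rw [he₀, sub_mul, sub_mul, one_mul, d2, mul_assoc D' D D, d1, mul_zero, sub_self, sub_zero]
    have d6 : e₀ * e₀ = e₀ := by
      have a1 : e₀ * (D * D') = 0 := by rw [← mul_assoc, d5, zero_mul]
      have a2 : e₀ * (D' * D) = 0 := by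
        rw [he₀, sub_mul, sub_mul, one_mul, show D * D' * (D' * D) = D * (D' * D') * D by simp only [mul_assoc],
          show D' * D * (D' * D) = D' * (D * D' * D) by simp only [mul_assoc], d1', d2, mul_zero, zero_mul, sub_zero,
          sub_self]
      conv_lhs => arg 2; rw [he₀]
      rw [mul_sub, mul_sub, mul_one, a1, a2, sub_zero, sub_zero]
    have d7 : e₀ = 0 := by
      have : c • (e₀ * e₀) = 0 := by rw [← Matrix.mul_smul, d4, Matrix.mul_smul, d5, smul_zero]
      rw [d6] at this
      exact (smul_eq_zero.1 this).resolve_left hc0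
    set P := E σ G x x with hP
    have hPP : P * P = P := by rw [hP, E_mul, hxx, one_smul]
    have hPX : P * X = 0 := by rw [hP, hX, E_mul, H.hG.symm_zero hxb, zero_smul]
    have hPX' : P * X' = 0 := by rw [hP, hX', E_mul, H.hG.symm_zero hxb', zero_smul]
    have hDP : Dm P = 0 := by
      have h1 : Dm P * D = 0 := by rw [← (hmul P X).1, hPX]; exact hD0.1
      have h2 : Dm P * D' = 0 := by rw [← (hmul P X').1, hPX']; exact hD0.1
      have : Dm P * e₀ = Dm P := by
        rw [he₀, mul_sub, mul_sub, mul_one, ← mul_assoc, ← mul_assoc, h1, h2, zero_mul, zero_mul, sub_zero, sub_zero]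
      rw [← this, d7, mul_zero]
    have hAP : Am P = 0 := by
      have := (hmul P P).2
      rwa [hPP, hDP, zero_mul, mul_zero, add_zero] at this
    have hTP : T P = 0 := by
      rw [hshape P, show ct σ G j r w (T P) = 0 from hDP, show ct σ G j r r (T P) = 0 from hAP, mul_zero, add_zero]
    have hx0 : x ≠ 0 := fun e => by rw [e, fH_zero_left] at hxx; exact zero_ne_one hxx
    refine H.hG.E_ne_zero hx0 hx0 (TensorWreath43.lift_injective (F := F) (m := m) i ?_)
    rw [TensorWreath43.lift_zero, ← hP]
    have huv : uv * ui = 1 := Units.mul_inv u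
    calc lift i P = ui * T P * uv := by
          simp only [T, mul_assoc]; rw [huu, mul_one, ← mul_assoc, huu, one_mul]
      _ = 0 := by rw [hTP, mul_zero, zero_mul]
  exact hP

/-- The matrices commuting with the position are normalised. -/
theorem UOver.conj_comm {Z : Matrix (TI t m) (TI t m) F} (hZ : Comm j Z) :
    Comm j ((u : Matrix (TI t m) (TI t m) F) * Z * ((u⁻¹ : GL (TI t m) F) : Matrix (TI t m) (TI t m) F)) := by
  classical
  haveI := H.neZero
  suffices key : ∀ (s : Finset (Fin t)) (Z : Matrix (TI t m) (TI t m) F), j ∉ s → (∀ l, l ∉ s → Comm l Z) →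
      Comm j ((u : Matrix (TI t m) (TI t m) F) * Z * ((u⁻¹ : GL (TI t m) F) : Matrix (TI t m) (TI t m) F)) from
    key (Finset.univ.erase j) Z (Finset.notMem_erase _ _) fun l hl => by
      rw [Finset.mem_erase, not_and] at hl
      exact (not_not.1 fun h => hl h (Finset.mem_univ l)) ▸ hZ
  intro s
  induction s using Finset.induction with
  | empty =>
    intro Z _ h
    obtain ⟨c, rfl⟩ := eq_scalar_of_comm (C := Z) fun l => h l (Finset.notMem_empty l)
    rw [Matrix.mul_smul, mul_one, Matrix.smul_mul, Units.mul_inv]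
    exact comm_scalar j c
  | insert a s ha ih =>
    intro Z hjs h
    rw [Finset.mem_insert, not_or] at hjs
    rw [TensorWreath43.lift_decomp a Z, Finset.mul_sum, Finset.sum_mul]
    refine TensorWreath43.comm_sum _ _ fun p _ => ?_
    rw [Finset.mul_sum, Finset.sum_mul]
    refine TensorWreath43.comm_sum _ _ fun q _ => ?_
    have h1 := H.conj_comm_other hB hw hr hwr hrw hu hR (Ne.symm hjs.1) (Matrix.single p q 1)
    have h2 := ih (cn a (Pi.single p 1) (Pi.single q 1) Z) hjs.2 fun l hl => by
      by_cases hla : l = a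
      · subst hla; exact TensorWreath43.comm_cn _ _ _ _
      · exact TensorWreath43.comm_cn_of_comm (Ne.symm hla) _ _ (h l (by simp [hla, hl]))
    have h3 := h1.mul h2
    simp only [mul_assoc, Units.inv_mul_cancel_left] at h3
    simpa only [mul_assoc] using h3

/-- An element stabilising the range of a root is decomposable. -/
theorem UOver.dec_of_range : Dec j u := by
  haveI := H.neZero
  intro η
  refine alg_of_commute j fun D hD => ?_
  have hD' := H.conj_comm hB hw hr hwr hrw (M.inv_mem hu) (H.inv_range hB hw hr hwr hrw hu hR) hD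
  rw [inv_inv] at hD'
  set uv := (u : Matrix (TI t m) (TI t m) F)
  set ui := ((u⁻¹ : GL (TI t m) F) : Matrix (TI t m) (TI t m) F)
  calc D * (uv * lift j η * ui) = uv * ((ui * D * uv) * lift j η) * ui := by
        simp only [uv, ui, mul_assoc, Units.mul_inv_cancel_left]
    _ = uv * (lift j η * (ui * D * uv)) * ui := by rw [hD' η]
    _ = _ := by simp only [uv, ui, mul_assoc, Units.mul_inv, mul_one]

end Range

end Cfsg.Agent.TensorWreathU84
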