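import Cfsg.Agent.Lib.TensorWreathU84Reduce
import Cfsg.Agent.Lib.TensorMaxUnitGen

/-!
The transvections at pure tensors of isotropic vectors generate those at all isotropic vectors.
-/

set_option autoImplicit false
set_option linter.unusedSectionVars false

namespace Cfsg.Agent.TensorWreathU84

open scoped Matrix
open Cfsg.Agent.TensorWreath43 (TI lift pureV Comm MemU)

variable {F : Type*} [Field F] [Fintype F] {σ : F →+* F} {t m : ℕ}
variable {G : Matrix (Fin m) (Fin m) F} {M : Subgroup (GL (TI t m) F)}

theorem pureV_update_add (v : Fin t → Fin m → F) (i : Fin t) (a b : Fin m → F) :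
    pureV (Function.update v i (a + b)) = pureV (Function.update v i a) + pureV (Function.update v i b) := by
  funext x
  have e : ∀ c : Fin m → F, (∏ l, Function.update v i c l (x l)) = c (x i) * ∏ l ∈ Finset.univ.erase i, v l (x l) :=
    fun c => by
      rw [← Finset.mul_prod_erase _ _ (Finset.mem_univ i), Function.update_self]
      congr 1
      exact Finset.prod_congr rfl fun l hl => by rw [Function.update_of_ne (Finset.ne_of_mem_erase hl)]
  simp only [pureV, Pi.add_apply, e, add_mul]

theorem pureV_update_smul (v : Fin t → Fin m → F) (i : Fin t) (c : F) (a : Fin m → F) :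
    pureV (Function.update v i (c • a)) = c • pureV (Function.update v i a) := by
  funext x
  have e : ∀ d : Fin m → F, (∏ l, Function.update v i d l (x l)) = d (x i) * ∏ l ∈ Finset.univ.erase i, v l (x l) :=
    fun d => by
      rw [← Finset.mul_prod_erase _ _ (Finset.mem_univ i), Function.update_self]
      congr 1
      exact Finset.prod_congr rfl fun l hl => by rw [Function.update_of_ne (Finset.ne_of_mem_erase hl)]
  simp only [pureV, Pi.smul_apply, smul_eq_mul, e, mul_assoc]

theorem pureV_update_zero (v : Fin t → Fin m → F) (i : Fin t) : pureV (Function.update v i 0) = 0 := by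
  rw [← zero_smul F (0 : Fin m → F), pureV_update_smul, zero_smul]

theorem fH_pureV_zero {v w : Fin t → Fin m → F} (i : Fin t) (h : fH σ G (v i) (w i) = 0) :
    fH σ (GT t G) (pureV v) (pureV w) = 0 := by
  rw [fH_pureV]
  exact Finset.prod_eq_zero (Finset.mem_univ i) h

theorem exists_other (ht : 2 ≤ t) (j : Fin t) : ∃ l : Fin t, l ≠ j := by
  haveI : Nontrivial (Fin t) := Fin.nontrivial_iff_two_le.2 ht
  exact exists_ne j

/-- The Eichler operator. -/
noncomputable def Sie (σ : F →+* F) (G : Matrix (Fin m) (Fin m) F) (U X : TI t m → F) (μ : F) :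
    Matrix (TI t m) (TI t m) F :=
  E σ (GT t G) X U - E σ (GT t G) U X + μ • E σ (GT t G) U U

/-- An Eichler element at `U` and `X` lies in `M`. -/
def SG (σ : F →+* F) (G : Matrix (Fin m) (Fin m) F) (M : Subgroup (GL (TI t m) F)) (U X : TI t m → F) : Prop :=
  fH σ (GT t G) X U = 0 ∧ ∃ μ, MemU M (Sie σ G U X μ)

variable (H : UOver σ G M)
include H

theorem UOver.mulVec_fH {g : GL (TI t m) F} (hg : g ∈ M) (x y : TI t m → F) :
    fH σ (GT t G) ((g : Matrix (TI t m) (TI t m) F) *ᵥ x) ((g : Matrix (TI t m) (TI t m) F) *ᵥ y) =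
      fH σ (GT t G) x y :=
  (H.hG.gt t).iso_fH (H.iso g hg) x y

theorem UOver.conj_E_of_mem {g : GL (TI t m) F} (hg : g ∈ M) (U V : TI t m → F) :
    (g : Matrix (TI t m) (TI t m) F) * E σ (GT t G) U V * ((g⁻¹ : GL (TI t m) F) : Matrix (TI t m) (TI t m) F) =
      E σ (GT t G) ((g : Matrix (TI t m) (TI t m) F) *ᵥ U) ((g : Matrix (TI t m) (TI t m) F) *ᵥ V) := by
  rw [H.inv_val hg, (H.hG.gt t).conj_E]

theorem UOver.sg_zero (U : TI t m → F) : SG σ G M U 0 := by
  refine ⟨fH_zero_left U, 0, ?_⟩
  rw [Sie, E_zero_left, E_zero_right, sub_zero, zero_smul, add_zero]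
  exact MemU.zero M

theorem UOver.sg_smul_self {U : TI t m → F} (hU : fH σ (GT t G) U U = 0) (c : F) : SG σ G M U (c • U) := by
  refine ⟨by rw [fH_smul_left, hU, mul_zero], σ c - c, ?_⟩
  rw [Sie, E_smul_left, E_smul_right, sub_smul]
  convert MemU.zero M using 1
  abel

theorem UOver.sg_add {U X X' : TI t m → F} (hU : fH σ (GT t G) U U = 0) (h : SG σ G M U X) (h' : SG σ G M U X') :
    SG σ G M U (X + X') := by
  obtain ⟨hXU, μ, g, hg, hgX⟩ := h
  obtain ⟨hXU', μ', g', hg', hgX'⟩ := h'
  have hUX := (H.hG.gt t).symm_zero hXU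
  refine ⟨by rw [fH_add_left, hXU, hXU', add_zero], μ + μ' - fH σ (GT t G) X' X, g * g', M.mul_mem hg hg', ?_⟩
  rw [Units.val_mul, hgX, hgX', Sie, Sie, Sie, E_add_left, E_add_right]
  simp only [add_mul, mul_add, one_mul, mul_one, sub_mul, mul_sub, smul_mul_assoc, mul_smul_comm, E_mul, hU, hXU',
    hUX, zero_smul, smul_zero, sub_zero]
  module

theorem UOver.sg_neg {U X : TI t m → F} (h : SG σ G M U X) : SG σ G M U (-X) := by
  obtain ⟨hXU, μ, g, hg, hgX⟩ := h
  refine ⟨by rw [fH_neg_left, hXU, neg_zero], σ μ, g⁻¹, M.inv_mem hg, ?_⟩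
  rw [H.inv_val hg, hgX, Sie, Sie, adj_add, adj_add, adj_sub, adj_smul, (H.hG.gt t).adj_one, (H.hG.gt t).adj_E,
    (H.hG.gt t).adj_E, (H.hG.gt t).adj_E, ← neg_one_smul F X, E_smul_left, E_smul_right, map_neg, map_one]
  module

theorem UOver.sg_conj {U X : TI t m → F} (h : SG σ G M U X) {g : GL (TI t m) F} (hg : g ∈ M) :
    SG σ G M ((g : Matrix (TI t m) (TI t m) F) *ᵥ U) ((g : Matrix (TI t m) (TI t m) F) *ᵥ X) := by
  obtain ⟨hXU, μ, h⟩ := h
  refine ⟨by rw [H.mulVec_fH hg, hXU], μ, ?_⟩
  have := h.conjU hg
  rw [Sie, mul_add, mul_sub, add_mul, sub_mul, Matrix.mul_smul, Matrix.smul_mul, H.conj_E_of_mem hg,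
    H.conj_E_of_mem hg, H.conj_E_of_mem hg] at this
  exact this

theorem UOver.sg_move {U X : TI t m → F} (hU : fH σ (GT t G) U U = 0) (h : SG σ G M U X) {g : GL (TI t m) F}
    (hg : g ∈ M) (hgU : (g : Matrix (TI t m) (TI t m) F) *ᵥ U = U) :
    SG σ G M U ((g : Matrix (TI t m) (TI t m) F) *ᵥ X - X) := by
  have := H.sg_conj h hg
  rw [hgU] at this
  rw [sub_eq_add_neg]
  exact H.sg_add hU this (H.sg_neg h)

/-- The vectors with all multiples giving Eichler elements at `U`. -/
noncomputable def UOver.sgSub {U : TI t m → F} (hU : fH σ (GT t G) U U = 0) : Submodule F (TI t m → F) where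
  carrier := {X | ∀ c : F, SG σ G M U (c • X)}
  zero_mem' c := by rw [smul_zero]; exact H.sg_zero U
  add_mem' {X Y} hX hY c := by rw [smul_add]; exact H.sg_add hU (hX c) (hY c)
  smul_mem' s X hX c := by rw [smul_smul]; exact hX _

omit H in
theorem sie_mulVec (U X : TI t m → F) (μ : F) (x : TI t m → F) :
    (1 + Sie σ G U X μ : Matrix (TI t m) (TI t m) F) *ᵥ x = x + fH σ (GT t G) x U • X +
      (μ * fH σ (GT t G) x U - fH σ (GT t G) x X) • U := by
  rw [Sie, Matrix.add_mulVec, Matrix.add_mulVec, Matrix.sub_mulVec, Matrix.one_mulVec, Matrix.smul_mulVec, E_mulVec,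
    E_mulVec, E_mulVec]
  module

variable (hT : ∀ u : Fin t → Fin m → F, (∀ i, Iso σ G (u i)) → TV σ G M (pureV u))
include hT

theorem UOver.iso_pure {u : Fin t → Fin m → F} (hu : ∀ i, Iso σ G (u i)) :
    fH σ (GT t G) (pureV u) (pureV u) = 0 :=
  fH_pureV_zero ⟨0, by have := H.ht; omega⟩ (hu _).2

/-- An isotropic vector with fixed pairing gives an Eichler element. -/
theorem UOver.seed {u : Fin t → Fin m → F} (hu : ∀ i, Iso σ G (u i)) (j : Fin t) {y : Fin m → F}
    (hy : fH σ G y y = 0) (hfix : σ (fH σ G y (u j)) = fH σ G y (u j)) :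
    SG σ G M (pureV u) (pureV (Function.update u j y)) := by
  obtain ⟨z, hz0, hz⟩ := H.hG.exists_skew
  set c := z⁻¹ • y with hc
  have hyc : y = z • c := by rw [hc, smul_smul, mul_inv_cancel₀ hz0, one_smul]
  set U := pureV u with hU
  set C := pureV (Function.update u j c) with hC
  have hX : pureV (Function.update u j y) = z • C := by rw [hyc, pureV_update_smul]
  have hUU : fH σ (GT t G) U U = 0 := H.iso_pure hT hu
  by_cases hsum : u j + c = 0
  · have : C = (-1 : F) • U := by
      rw [hC, show c = (-1 : F) • u j by rw [neg_one_smul]; exact (neg_eq_of_add_eq_zero_right hsum).symm,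
        pureV_update_smul, Function.update_eq_self]
    rw [hX, this, smul_smul]
    exact H.sg_smul_self hUU _
  by_cases hy0 : y = 0
  · rw [hy0, pureV_update_zero]; exact H.sg_zero U
  have hcc : fH σ G c c = 0 := by rw [hc, fH_smul_left, fH_smul_right, hy, mul_zero, mul_zero]
  have hci : Iso σ G c := ⟨smul_ne_zero (inv_ne_zero hz0) hy0, hcc⟩
  have hκ : fH σ G c (u j) + fH σ G (u j) c = 0 := by
    rw [← H.hG.sigma_fH c (u j), hc, fH_smul_left, map_mul, hfix, map_inv₀, hz, inv_neg]
    ring
  have hiso : Iso σ G (u j + c) :=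
    ⟨hsum, by rw [fH_add_left, fH_add_right, fH_add_right, (hu j).2, hcc]; linear_combination hκ⟩
  have hupd : ∀ v, Iso σ G v → ∀ i, Iso σ G (Function.update u j v i) := fun v hv i => by
    by_cases hi : i = j
    · subst hi; simpa using hv
    · simpa [hi] using hu i
  obtain ⟨l, hl⟩ := exists_other H.ht j
  have hz' : σ (-z) = -(-z) := by rw [map_neg, hz]
  have h1 := hT _ (hupd _ hiso) z hz
  have h2 := hT u hu (-z) hz'
  have h3 := hT _ (hupd _ hci) (-z) hz'
  have hUC : fH σ (GT t G) U C = 0 := fH_pureV_zero l (by rw [Function.update_of_ne hl]; exact (hu l).2)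
  have hCU := (H.hG.gt t).symm_zero hUC
  have hCC : fH σ (GT t G) C C = 0 := fH_pureV_zero l (by rw [Function.update_of_ne hl]; exact (hu l).2)
  rw [pureV_update_add, Function.update_eq_self, ← hU, ← hC] at h1
  rw [← hU] at h2
  rw [← hC] at h3
  have h12 := (h1.add h2 (by
    rw [Matrix.smul_mul, Matrix.mul_smul, E_mul, fH_add_right, hUU, hUC, add_zero, zero_smul, smul_zero,
      smul_zero])).add h3 (by
    simp only [add_mul, Matrix.smul_mul, Matrix.mul_smul, E_mul, fH_add_right, hCU, hCC, add_zero, zero_smul,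
      smul_zero])
  refine ⟨by rw [hX, fH_smul_left, hCU, mul_zero], 0, ?_⟩
  convert h12 using 1
  rw [hX, Sie, E_smul_left, E_smul_right, hz, E_add_left, E_add_right, E_add_right]
  module

/-- Perpendicular vectors at one position. -/
theorem UOver.perp_seed {u : Fin t → Fin m → F} (hu : ∀ i, Iso σ G (u i)) (j : Fin t) {y : Fin m → F}
    (hy : fH σ G y (u j) = 0) : pureV (Function.update u j y) ∈ H.sgSub (H.iso_pure hT hu) := by
  intro c
  rw [← pureV_update_smul]
  set y₁ := c • y
  have hy₁ : fH σ G y₁ (u j) = 0 := by rw [fH_smul_left, hy, mul_zero]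
  obtain ⟨r, hr, hur, hru⟩ := H.hG.exists_partner (hu j)
  obtain ⟨ν, hν⟩ := H.hG.uform.exists_trace (a := -(fH σ G y₁ y₁ + fH σ G r y₁ + fH σ G y₁ r)) (by
    rw [map_neg, map_add, map_add, H.hG.self_fixed, H.hG.sigma_fH, H.hG.sigma_fH]; ring)
  have hiso : fH σ G (r + y₁ + ν • u j) (r + y₁ + ν • u j) = 0 := by
    simp only [fH_add_left, fH_add_right, fH_smul_left, fH_smul_right, hr.2, hur, hru, hy₁,
      H.hG.symm_zero hy₁, (hu j).2]
    linear_combination hν
  have h1 := H.seed hT hu j hiso (by
    simp only [fH_add_left, fH_smul_left, hru, hy₁, (hu j).2, mul_zero, add_zero, map_one])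
  have h2 := H.seed hT hu j hr.2 (by rw [hru, map_one])
  have h3 := H.sg_smul_self (H.iso_pure hT hu) (-ν)
  have h := H.sg_add (H.iso_pure hT hu) (H.sg_add (H.iso_pure hT hu) h1 (H.sg_neg h2)) h3
  convert h using 1
  rw [pureV_update_add, pureV_update_add, pureV_update_smul u j ν, Function.update_eq_self]
  module

/-- One position perpendicular and the others not. -/
theorem UOver.cross_mem {u v : Fin t → Fin m → F} (hu : ∀ i, Iso σ G (u i)) (hv : ∀ i, Iso σ G (v i)) {i : Fin t}
    (hvi : v i = u i) (hne : ∀ l, l ≠ i → fH σ G (u l) (v l) ≠ 0) {y : Fin m → F} (hy : fH σ G y (u i) = 0) :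
    pureV (Function.update v i y) ∈ H.sgSub (H.iso_pure hT hu) := by
  set U := pureV u with hU
  set U₂ := pureV v with hU2
  have hUU : fH σ (GT t G) U U = 0 := H.iso_pure hT hu
  have hUU2 : fH σ (GT t G) U U₂ = 0 := fH_pureV_zero i (by rw [hvi]; exact (hu i).2)
  obtain ⟨r, hr, hur, hru⟩ := H.hG.exists_partner (hu i)
  -- `U₂` itself
  have hU₂mem : U₂ ∈ H.sgSub (H.iso_pure hT hu) := by
    obtain ⟨p, hpu, -, hpp⟩ := H.hG.exists_perp_val H.hm (hu i) hr (by rw [hur]; exact one_ne_zero) (map_one σ)
    obtain ⟨hYU, μ, g, hg, hgY⟩ := H.perp_seed hT hv i (y := p) (by rw [hvi]; exact hpu) (1 : F)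
    rw [one_smul] at hgY
    set Y := pureV (Function.update v i p) with hY
    set X := pureV (Function.update u i p) with hX
    have hUY : fH σ (GT t G) U Y = 0 := fH_pureV_zero i (by rw [Function.update_self]; exact H.hG.symm_zero hpu)
    have hgU : (g : Matrix (TI t m) (TI t m) F) *ᵥ U = U := by
      rw [hgY, sie_mulVec, ← hU2, hUU2, hUY, zero_smul, mul_zero, sub_zero, zero_smul, add_zero, add_zero]
    have hXU2 : fH σ (GT t G) X U₂ = 0 := fH_pureV_zero i (by rw [Function.update_self, hvi]; exact hpu)
    have hXY : fH σ (GT t G) X Y ≠ 0 := by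
      rw [fH_pureV]
      refine Finset.prod_ne_zero_iff.2 fun l _ => ?_
      by_cases hl : l = i
      · subst hl; simp [hpp]
      · simpa [hl] using hne l hl
    intro c
    have h := H.sg_move hUU (H.perp_seed hT hu i hpu (-c / fH σ (GT t G) X Y)) hg hgU
    rw [Matrix.mulVec_smul, hgY, sie_mulVec, ← hU2, hXU2, ← hX] at h
    convert h using 1
    rw [zero_smul, mul_zero, zero_sub, add_zero, smul_add, smul_smul]
    rw [show -c / fH σ (GT t G) X Y * -fH σ (GT t G) X Y = c by field_simp]
    abel
  set Y := pureV (Function.update v i y) with hY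
  intro c
  by_cases hc : c = 0
  · rw [hc, zero_smul]; exact H.sg_zero _
  set X := pureV (Function.update u i r) with hX
  have hXU2 : fH σ (GT t G) X U₂ ≠ 0 := by
    rw [fH_pureV]
    refine Finset.prod_ne_zero_iff.2 fun l _ => ?_
    by_cases hl : l = i
    · subst hl; simp [hvi, hru]
    · simpa [hl] using hne l hl
  set K := fH σ (GT t G) X U₂
  obtain ⟨-, μ, g, hg, hgY⟩ := H.perp_seed hT hv i (y := y) (by rw [hvi]; exact hy) (c / K)
  rw [← hY, ← hU2] at hgY
  have hUY : fH σ (GT t G) U ((c / K) • Y) = 0 := by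
    rw [fH_smul_right, fH_pureV_zero i (by rw [Function.update_self]; exact H.hG.symm_zero hy), mul_zero]
  have hgU : (g : Matrix (TI t m) (TI t m) F) *ᵥ U = U := by
    rw [hgY, sie_mulVec, hUU2, hUY, zero_smul, mul_zero, sub_zero, zero_smul, add_zero, add_zero]
  have h1 := H.sg_move hUU (H.seed hT hu i hr.2 (by rw [hru, map_one])) hg hgU
  rw [← hX, hgY, sie_mulVec] at h1
  have h2 := H.sg_add hUU h1 (hU₂mem (-(μ * K - fH σ (GT t G) X ((c / K) • Y))))
  convert h2 using 1
  rw [show K • (c / K) • Y = c • Y by rw [smul_smul, mul_div_cancel₀ _ hXU2]]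
  module

/-- Pure tensors with one perpendicular position. -/
theorem UOver.pure_perp_mem {u : Fin t → Fin m → F} (hu : ∀ i, Iso σ G (u i)) {i : Fin t} {v : Fin t → Fin m → F}
    (hv : fH σ G (v i) (u i) = 0) : pureV v ∈ H.sgSub (H.iso_pure hT hu) := by
  classical
  suffices key : ∀ (s : Finset (Fin t)) (v : Fin t → Fin m → F), fH σ G (v i) (u i) = 0 →
      (∀ l, l ≠ i → l ∉ s → Iso σ G (v l) ∧ fH σ G (u l) (v l) ≠ 0) →
      pureV v ∈ H.sgSub (H.iso_pure hT hu) from
    key Finset.univ v hv (fun l _ h => absurd (Finset.mem_univ l) h)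
  intro s
  induction s using Finset.induction with
  | empty =>
    intro v hv hl
    have := H.cross_mem hT hu (v := Function.update v i (u i)) (i := i) (fun l => ?_) (by simp) (fun l hl' => ?_) hv
    · simpa using this
    · by_cases h : l = i
      · subst h; simpa using hu l
      · simpa [h] using (hl l h (Finset.notMem_empty l)).1
    · simpa [hl'] using (hl l hl' (Finset.notMem_empty l)).2
  | insert a s ha ih =>
    intro v hv hl
    by_cases hai : a = i
    · exact ih v hv fun l h1 h2 => hl l h1 (by simp [h2, hai ▸ h1])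
    have hspan := H.hG.uform.span_nonperp (by have := H.hm; omega) (iso_def.1 (hu a)) (v a)
    have main : ∀ z, z ∈ Submodule.span F {z | TensorMax.Iso (fH σ G) z ∧ fH σ G z (u a) ≠ 0} →
        pureV (Function.update v a z) ∈ H.sgSub (H.iso_pure hT hu) := by
      intro z hz
      induction hz using Submodule.span_induction with
      | mem z hz =>
        refine ih _ (by rw [Function.update_of_ne (Ne.symm hai)]; exact hv) fun l h1 h2 => ?_
        by_cases hla : l = a
        · subst hla
          rw [Function.update_self]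
          exact ⟨hz.1, fun e => hz.2 (H.hG.symm_zero e)⟩
        · rw [Function.update_of_ne hla]
          exact hl l h1 (by simp [hla, h2])
      | zero => rw [pureV_update_zero]; exact Submodule.zero_mem _
      | add p q _ _ hp hq => rw [pureV_update_add]; exact Submodule.add_mem _ hp hq
      | smul c p _ hp => rw [pureV_update_smul]; exact Submodule.smul_mem _ c hp
    simpa using main (v a) hspan

theorem UOver.sg_full {u : Fin t → Fin m → F} (hu : ∀ i, Iso σ G (u i)) {X : TI t m → F}
    (hX : fH σ (GT t G) X (pureV u) = 0) : SG σ G M (pureV u) X := by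
  classical
  choose r hr hur hru using fun i => H.hG.exists_partner (hu i)
  set S := H.sgSub (H.iso_pure hT hu)
  have htel : ∀ v : Fin t → Fin m → F, pureV v - fH σ (GT t G) (pureV v) (pureV u) • pureV r ∈ S := by
    intro v
    suffices key : ∀ s : Finset (Fin t), pureV v - (∏ i ∈ s, fH σ G (v i) (u i)) •
        pureV (fun i => if i ∈ s then r i else v i) ∈ S by
      have := key Finset.univ
      simpa [fH_pureV] using this
    intro s
    induction s using Finset.induction with
    | empty => simp
    | insert a s ha ih =>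
      set w : Fin t → Fin m → F := fun i => if i ∈ s then r i else v i with hw
      set α := fH σ G (v a) (u a)
      have h1 : pureV (Function.update w a (v a - α • r a)) ∈ S := H.pure_perp_mem hT hu (i := a) (by
        rw [Function.update_self, fH_sub_left, fH_smul_left, hru, mul_one, sub_self])
      have h2 := S.add_mem ih (S.smul_mem (∏ i ∈ s, fH σ G (v i) (u i)) h1)
      have e1 : pureV w = pureV (Function.update w a (v a - α • r a)) + α • pureV (Function.update w a (r a)) := by
        rw [← pureV_update_smul, ← pureV_update_add, sub_add_cancel]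
        congr 1
        funext l
        by_cases hl : l = a
        · subst hl; simp [hw, ha]
        · simp [hl]
      have e2 : (fun i => if i ∈ insert a s then r i else v i) = Function.update w a (r a) := by
        funext l
        by_cases hl : l = a
        · subst hl; simp
        · simp [hw, hl]
      rw [e2, Finset.prod_insert ha]
      rw [e1] at h2
      convert h2 using 1
      module
  have hall : X - fH σ (GT t G) X (pureV u) • pureV r ∈ S := by
    let Φ : (TI t m → F) →ₗ[F] (TI t m → F) :=
      { toFun := fun X => X - fH σ (GT t G) X (pureV u) • pureV r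
        map_add' := fun x y => by rw [fH_add_left, add_smul]; abel
        map_smul' := fun c x => by rw [fH_smul_left, mul_smul, RingHom.id_apply, smul_sub] }
    show Φ X ∈ S
    rw [pi_eq_sum_univ X, map_sum]
    refine Submodule.sum_mem _ fun q _ => ?_
    rw [map_smul]
    refine S.smul_mem _ ?_
    have e : (fun j => if q = j then (1 : F) else 0) = Pi.single q 1 := by
      funext j; simp [Pi.single_apply, eq_comm]
    rw [e, ← TensorWreath43.pureV_single]
    exact htel _
  rw [hX, zero_smul, sub_zero] at hall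
  simpa using hall (1 : F)

/-- Transvections at all pure tensors of isotropic vectors give all transvections. -/
theorem UOver.big_of_pure : Big σ G M := by
  classical
  intro V hV
  by_cases hV0 : V = 0
  · subst hV0
    intro z _
    rw [E_zero_left, smul_zero]
    exact MemU.zero M
  obtain ⟨u, hu, hβ⟩ : ∃ u : Fin t → Fin m → F, (∀ i, Iso σ G (u i)) ∧ fH σ (GT t G) V (pureV u) ≠ 0 := by
    by_contra! h0
    have key : ∀ (s : Finset (Fin t)) (v : Fin t → Fin m → F), (∀ l, l ∉ s → fH σ G (v l) (v l) = 0) →
        fH σ (GT t G) V (pureV v) = 0 := by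
      intro s
      induction s using Finset.induction with
      | empty =>
        intro v hv
        by_cases hz : ∃ l, v l = 0
        · obtain ⟨l, hl⟩ := hz
          rw [← Function.update_eq_self l v, hl, pureV_update_zero, ← zero_smul F (0 : TI t m → F), fH_smul_right,
            map_zero, zero_mul]
        · push Not at hz
          exact h0 v fun l => ⟨hz l, hv l (Finset.notMem_empty l)⟩
      | insert a s ha ih =>
        intro v hv
        have main : ∀ z, z ∈ Submodule.span F {b | fH σ G b b = 0} →
            fH σ (GT t G) V (pureV (Function.update v a z)) = 0 := by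
          intro z hz
          induction hz using Submodule.span_induction with
          | mem z hz =>
            refine ih _ fun l hl => ?_
            by_cases hla : l = a
            · subst hla; simpa using hz
            · rw [Function.update_of_ne hla]; exact hv l (by simp [hla, hl])
          | zero => rw [pureV_update_zero, ← zero_smul F (0 : TI t m → F), fH_smul_right, map_zero, zero_mul]
          | add p q _ _ hp hq => rw [pureV_update_add, fH_add_right, hp, hq, add_zero]
          | smul c p _ hp => rw [pureV_update_smul, fH_smul_right, hp, mul_zero]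
        have := main (v a) (by rw [H.hG.uform.span_iso (by have := H.hm; omega)]; exact Submodule.mem_top)
        simpa using this
    refine hV0 ((H.hG.gt t).eq_zero_of_left fun x => ?_)
    have hlin : ∀ x, fH σ (GT t G) V x = 0 := fun x => by
      rw [← (H.hG.gt t).sigma_fH, pi_eq_sum_univ x, fH, sum_dotProduct, map_sum]
      refine Finset.sum_eq_zero fun q _ => ?_
      have e : (fun j => if q = j then (1 : F) else 0) = Pi.single q 1 := by
        funext j; simp [Pi.single_apply, eq_comm]
      have := key Finset.univ (fun l => Pi.single (q l) 1) (fun l h => absurd (Finset.mem_univ l) h)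
      rw [TensorWreath43.pureV_single] at this
      rw [e, smul_dotProduct, smul_eq_mul, show (Pi.single q (1 : F) ⬝ᵥ row σ (GT t G) V) =
        fH σ (GT t G) (Pi.single q 1) V from rfl, (H.hG.gt t).symm_zero this, mul_zero, map_zero]
    exact hlin x
  set U := pureV u with hUdef
  set β := fH σ (GT t G) V U with hβdef
  choose r hr hur hru using fun i => H.hG.exists_partner (hu i)
  have i₀ : Fin t := ⟨0, by have := H.ht; omega⟩
  set r' := Function.update r i₀ (β • r i₀) with hr'
  have hr'i : ∀ i, Iso σ G (r' i) := fun i => by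
    by_cases hi : i = i₀
    · subst hi
      rw [hr', Function.update_self]
      exact ⟨smul_ne_zero hβ (hr i).1, by rw [fH_smul_left, fH_smul_right, (hr i).2, mul_zero, mul_zero]⟩
    · rw [hr', Function.update_of_ne hi]; exact hr i
  set P₁ := pureV r' with hP₁
  have hP₁U : fH σ (GT t G) P₁ U = β := by
    rw [hP₁, hr', pureV_update_smul, fH_smul_left, Function.update_eq_self, fH_pureV]
    simp [hru]
  set W := β⁻¹ • (V - P₁) with hW
  obtain ⟨-, μ, g, hg, hgW⟩ := H.sg_full hT hu (X := W) (by
    rw [hW, fH_smul_left, fH_sub_left, hP₁U, ← hβdef, sub_self, mul_zero])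
  set s := μ * β - fH σ (GT t G) P₁ W with hs
  have hgP : (g : Matrix (TI t m) (TI t m) F) *ᵥ P₁ = V + s • U := by
    rw [hgW, sie_mulVec, ← hUdef, hP₁U, ← hs, hW, smul_smul, mul_inv_cancel₀ hβ, one_smul, add_sub_cancel]
  have hself : fH σ (GT t G) U U = 0 := H.iso_pure hT hu
  have hσβ : σ β ≠ 0 := (map_ne_zero σ).2 hβ
  have hskew : σ (s / β) = -(s / β) := by
    have h0 := H.mulVec_fH hg P₁ P₁
    rw [hgP, fH_add_left, fH_add_right, fH_add_right, fH_smul_left, fH_smul_left, fH_smul_right, fH_smul_right, hself,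
      hV, ← hβdef, show fH σ (GT t G) U V = σ β by rw [hβdef, (H.hG.gt t).sigma_fH],
      show fH σ (GT t G) P₁ P₁ = 0 from H.iso_pure hT hr'i] at h0
    rw [map_div₀]
    field_simp
    linear_combination h0
  obtain ⟨a, ha, hax⟩ := hT u hu (-(s / β)) (by rw [map_neg, hskew])
  have hgg : ((a * g : GL (TI t m) F) : Matrix (TI t m) (TI t m) F) *ᵥ P₁ = V := by
    rw [Units.val_mul, ← Matrix.mulVec_mulVec, hgP, hax, Matrix.add_mulVec, Matrix.one_mulVec, Matrix.smul_mulVec,
      E_mulVec, ← hUdef, fH_add_left, fH_smul_left, hself, ← hβdef, mul_zero, add_zero, smul_smul, neg_mul,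
      div_mul_cancel₀ _ hβ, neg_smul, add_neg_cancel_right]
  intro z hz
  have := (hT r' hr'i z hz).conjU (M.mul_mem ha hg)
  rw [← hP₁, Matrix.mul_smul, Matrix.smul_mul, H.conj_E_of_mem (M.mul_mem ha hg), hgg] at this
  exact this

omit hT in
/-- A root element with a non-scalar cofactor gives all transvections. -/
theorem UOver.hit {j : Fin t} {w : Fin m → F} (hw : Iso σ G w) {C : Matrix (TI t m) (TI t m) F}
    (hC : Comm j C) (hns : ¬ ∃ c : F, C = c • 1) (hM : MemU M (lift j (E σ G w w) * C)) : Big σ G M :=
  H.big_of_pure fun u hu => H.pure_of_hit hw hC hns hM u hu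

end Cfsg.Agent.TensorWreathU84
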