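import Cfsg.Agent.Lib.TensorWreathU84CoreTwo
import Cfsg.Agent.Lib.TensorWreath43Glue

/-!
An overgroup of a unitary tensor wreath stabiliser not containing every transvection permutes the factors.
-/

set_option autoImplicit false
set_option linter.unusedSectionVars false

namespace Cfsg.Agent.TensorWreathU84

open scoped Matrix
open Cfsg.Agent.TensorWreath43 (TI lift liftHom pureT permT permU pureU Comm cn MemU lift_smul lift_zero lift_one
  lift_mul permT_lift lift_single_mul exists_inner comm_of_singles pureU_conj_lift pureT_update_eq_lift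
  scalar_of_two_lifts liftHom_apply)

variable {F : Type*} [Field F] [Fintype F] {σ : F →+* F} {t m : ℕ}
variable {G : Matrix (Fin m) (Fin m) F} {M : Subgroup (GL (TI t m) F)}
variable (H : UOver σ G M) (hB : ¬ Big σ G M)
include H hB

/-- Over more than two fixed elements a non-scalar contraction is invertible and has the plane property. -/
theorem UOver.core_any (hfix : ¬ ∀ c, σ c = c → c = 0 ∨ c = 1) {j : Fin t} {w : Fin m → F} (hw : Iso σ G w)
    {X : Matrix (TI t m) (TI t m) F} (hX : Root σ G M X) (hns : ¬ ∃ c : F, ct σ G j w w X = c • 1) :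
    IsUnit (ct σ G j w w X) ∧ Plane σ G j w X := by
  haveI := H.neZero
  obtain ⟨r, hr, hwr, hrw⟩ := H.hG.exists_partner hw
  by_cases hu : IsUnit (ct σ G j w w X)
  · exact H.core_big hB hfix hw hr hwr hrw hX (H.cond_of_unit hw hX hu) hns
  · exfalso
    obtain ⟨Z, hZ, hc, h0, hu'⟩ := H.exists_cond hB hw hr hwr hX (fun e => hns ⟨0, by rw [e, zero_smul]⟩) hu
    refine hu' (H.core_big hB hfix hw hr hwr hrw hZ hc ?_).1
    rintro ⟨c, hc⟩
    have hc0 : c ≠ 0 := fun e => h0 (by rw [hc, e, zero_smul])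
    exact hu' (hc ▸ ⟨⟨c • 1, c⁻¹ • 1, by
      rw [smul_mul_smul_comm, mul_one, mul_inv_cancel₀ hc0, one_smul], by
      rw [smul_mul_smul_comm, mul_one, inv_mul_cancel₀ hc0, one_smul]⟩, rfl⟩)

/-- No hyperplane up to the line is killed. -/
theorem UOver.no_hyper {j : Fin t} {w : Fin m → F} (hw : Iso σ G w)
    {X : Matrix (TI t m) (TI t m) F} (hX : Root σ G M X) (hu : IsUnit (ct σ G j w w X))
    (hns : ¬ ∃ c : F, ct σ G j w w X = c • 1) (hP : Plane σ G j w X) {b : Fin m → F}
    (hb : ∀ q, X * lift j (E σ G b q) = 0) : fH σ G b w = 0 := by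
  classical
  haveI := H.neZero
  by_contra hbw
  set C := ct σ G j w w X with hC
  let N : Submodule F (Fin m → F) :=
    { carrier := {x | ∀ q, X * lift j (E σ G x q) = 0}
      add_mem' := fun {x y} hx hy q => by rw [E_add_left, TensorWreath43.lift_add, mul_add, hx q, hy q, add_zero]
      zero_mem' := fun q => by rw [E_zero_left, lift_zero, mul_zero]
      smul_mem' := fun c x hx q => by rw [E_smul_left, lift_smul, Matrix.mul_smul, hx q, smul_zero] }
  have hC0 : C ≠ 0 := fun e => hns ⟨0, by rw [e, zero_smul]⟩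
  have hwN : w ∉ N := fun h => hC0 (TensorWreath43.eq_zero_of_lift_mul (hw.E_ne H.hG) (comm_ct j w w X)
    (by rw [lift_E_mul_ct, mul_assoc, h w, mul_zero]))
  have hall : ∀ v, ∃ c : F, v + c • w ∈ N := by
    intro v
    set s := fH σ G v w / fH σ G b w
    obtain ⟨c, hc⟩ := hP (v - s • b) (by
      rw [fH_sub_left, fH_smul_left, div_mul_cancel₀ _ hbw, sub_self])
    refine ⟨c, ?_⟩
    have := N.add_mem (x := v - s • b + c • w) hc (N.smul_mem s (hb : b ∈ N))
    rwa [show v - s • b + c • w + s • b = v + c • w by abel] at this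
  obtain ⟨y, hy, hyw⟩ := TransvectionUnitary.exists_perp_val H.hG.uform.isU hwN (1 : F)
  have hwy : fH σ G w y = 1 := by rw [← H.hG.sigma_fH, hyw, map_one]
  have hkill : ∀ v, fH σ G v y = 0 → v ∈ N := by
    intro v hv
    obtain ⟨c, hc⟩ := hall v
    have : fH σ G (v + c • w) y = 0 := H.hG.symm_zero (hy _ hc)
    rw [fH_add_left, fH_smul_left, hv, hwy, zero_add, mul_one] at this
    rwa [this, zero_smul, add_zero] at hc
  have hXη : X = X * lift j (E σ G w y) := by
    have hsum : (1 : Matrix (Fin m) (Fin m) F) - E σ G w y =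
        ∑ p : Fin m, (1 - E σ G w y) * Matrix.vecMulVec (Pi.single p (1 : F)) (Pi.single p 1) := by
      rw [← Finset.mul_sum, TensorWreath43.sum_vec_single, mul_one]
    have h0 : X * lift j (1 - E σ G w y) = 0 := by
      rw [hsum, TensorWreath43.lift_sum, Finset.mul_sum]
      refine Finset.sum_eq_zero fun p _ => ?_
      obtain ⟨a, ha⟩ := H.hG.exists_row (Pi.single p (1 : F))
      rw [← ha]
      show X * lift j ((1 - E σ G w y) * E σ G _ a) = 0
      rw [mul_E]
      exact hkill _ (by rw [Matrix.sub_mulVec, Matrix.one_mulVec, E_mulVec, fH_sub_left, fH_smul_left, hwy, mul_one,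
        sub_self]) a
    rw [show lift j (1 - E σ G w y) = liftHom (F := F) j (1 - E σ G w y) from rfl, map_sub, map_one, liftHom_apply,
      mul_sub, mul_one, sub_eq_zero] at h0
    exact h0
  have hXη' : X = lift j (E σ G y w) * X := by
    have h := congrArg (adj σ (GT t G)) hXη
    rwa [(H.hG.gt t).adj_mul, H.root_adj hX, adj_lift H.hG, H.hG.adj_E] at h
  have hXC : X = lift j (E σ G y y) * C := by
    rw [hC, lift_E_mul_ct, mul_assoc, ← hXη, ← hXη']
  have hy0 : y ≠ 0 := fun e => one_ne_zero (α := F) (by rw [← hyw, e, fH_zero_left])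
  by_cases hyy : fH σ G y y = 0
  · obtain ⟨z, hz0, hz⟩ := H.hG.exists_skew
    obtain ⟨c, hc⟩ := H.scalar_of_mem hB (j := j) (w := y) ⟨hy0, hyy⟩ (C := z • C) ((comm_ct j w w X).smul z) (by
      rw [Matrix.mul_smul, ← hXC]
      exact H.root_mem_smul hX hz)
    exact hns ⟨z⁻¹ * c, by rw [mul_smul, ← hc, smul_smul, inv_mul_cancel₀ hz0, one_smul]⟩
  · have h2 := H.root_sq hX
    rw [hXC, mul_assoc, ← mul_assoc C, ← comm_ct j w w X, mul_assoc, ← mul_assoc, ← lift_mul, E_mul, lift_smul,
      Matrix.smul_mul, smul_eq_zero] at h2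
    have h3 := TensorWreath43.eq_zero_of_lift_mul (H.hG.E_ne_zero hy0 hy0) ((comm_ct j w w X).mul (comm_ct j w w X))
      (h2.resolve_left hyy)
    obtain ⟨a, ha⟩ := hu
    refine hC0 ?_
    rw [← one_mul C, ← a.inv_mul, mul_assoc, ha, h3, mul_zero]

/-- The contraction of a root element at a root is scalar. -/
theorem UOver.scalar_ct {X : Matrix (TI t m) (TI t m) F} (hX : Root σ G M X) (j : Fin t) {w : Fin m → F}
    (hw : Iso σ G w) : ∃ c : F, ct σ G j w w X = c • 1 := by
  classical
  haveI := H.neZero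
  by_contra hns
  obtain ⟨r, hr, hwr, hrw⟩ := H.hG.exists_partner hw
  by_cases hfix : ∀ c, σ c = c → c = 0 ∨ c = 1
  · by_cases hu : IsUnit (ct σ G j w w X)
    · exact H.core_two hB hfix hw hwr hrw hX (H.cond_of_unit hw hX hu) hns
    · obtain ⟨Z, hZ, hc, h0, hu'⟩ := H.exists_cond hB hw hr hwr hX (fun e => hns ⟨0, by rw [e, zero_smul]⟩) hu
      refine H.core_two hB hfix hw hwr hrw hZ hc ?_
      rintro ⟨c, hc⟩
      have hc0 : c ≠ 0 := fun e => h0 (by rw [hc, e, zero_smul])
      exact hu' (hc ▸ ⟨⟨c • 1, c⁻¹ • 1, by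
        rw [smul_mul_smul_comm, mul_one, mul_inv_cancel₀ hc0, one_smul], by
        rw [smul_mul_smul_comm, mul_one, inv_mul_cancel₀ hc0, one_smul]⟩, rfl⟩)
  obtain ⟨hu, hP⟩ := H.core_any hB hfix hw hX hns
  obtain ⟨a, ha0, hwa, hra⟩ := H.hG.exists_perp_two H.hm w r
  obtain ⟨c, hc⟩ := hP a (H.hG.symm_zero hwa)
  set n₀ := a + c • w with hn₀
  have hn0 : n₀ ≠ 0 := by
    intro e
    have h1 := H.hG.symm_zero hra
    rw [eq_neg_of_add_eq_zero_left e, ← neg_smul, fH_smul_left, hwr, mul_one, neg_eq_zero] at h1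
    exact ha0 (by rw [eq_neg_of_add_eq_zero_left e, h1, zero_smul, neg_zero])
  have hn0w : fH σ G n₀ w = 0 := H.no_hyper hB hw hX hu hns hP hc
  obtain ⟨u, hu_iso, huw, hun⟩ : ∃ u, Iso σ G u ∧ fH σ G u w ≠ 0 ∧ fH σ G u n₀ ≠ 0 := by
    by_contra! h
    refine hn0 (H.hG.eq_zero_of_right fun x => ?_)
    have hx := H.hG.uform.span_nonperp (by have := H.hm; omega) (iso_def.1 hw) x
    induction hx using Submodule.span_induction with
    | mem z hz => exact h z hz.1 hz.2
    | zero => rw [fH_zero_left]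
    | add p q _ _ hp hq => rw [fH_add_left, hp, hq, add_zero]
    | smul s p _ hp => rw [fH_smul_left, hp, mul_zero]
  obtain ⟨z, hz0, hz⟩ := H.hG.exists_skew
  have hwu : fH σ G w u ≠ 0 := fun e => huw (H.hG.symm_zero e)
  set k := z / fH σ G w u with hk
  have hk0 : k ≠ 0 := div_ne_zero hz0 hwu
  set C₀ := ct σ G j u u X
  set C₁ := ct σ G j u w X
  set C₂ := ct σ G j w u X
  set C := ct σ G j w w X with hC
  have hv : ∀ a : F, σ a = a → ∃ e : F,
      C₀ + a • (k • C₁) + a • (σ k • C₂) + (a * a) • ((σ k * k) • C) = e • 1 := by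
    intro a hfa
    set v := u + (a * k) • w with hv
    have hvw : fH σ G v w = fH σ G u w := by rw [hv, fH_add_left, fH_smul_left, hw.2, mul_zero, add_zero]
    have hviso : Iso σ G v := by
      refine ⟨fun e => huw (by rw [← hvw, e, fH_zero_left]), ?_⟩
      have e1 : k * fH σ G w u = z := div_mul_cancel₀ _ hwu
      have e2 : σ k * fH σ G u w = -z := by
        rw [← H.hG.sigma_fH w u, ← map_mul, e1, hz]
      rw [hv, fH_add_left, fH_add_right, fH_add_right, fH_smul_left, fH_smul_left, fH_smul_right, fH_smul_right,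
        hu_iso.2, hw.2, map_mul, hfa]
      linear_combination a * e1 + a * e2
    have hnv : fH σ G n₀ v ≠ 0 := by
      rw [hv, fH_add_right, fH_smul_right, hn0w, mul_zero, add_zero]
      exact fun e => hun (H.hG.symm_zero e)
    obtain ⟨e, he⟩ : ∃ e : F, ct σ G j v v X = e • 1 := by
      by_contra hns'
      obtain ⟨hu', hP'⟩ := H.core_any hB hfix hviso hX hns'
      exact hnv (H.no_hyper hB hviso hX hu' hns' hP' hc)
    refine ⟨e, ?_⟩
    rw [← he, hv, ct_add_left, ct_add_right, ct_add_right, ct_smul_left, ct_smul_left, ct_smul_right, ct_smul_right,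
      map_mul, hfa]
    module
  push Not at hfix
  obtain ⟨a, hfa, ha0', ha1⟩ := hfix
  obtain ⟨e₀, he₀⟩ := hv 0 (map_zero σ)
  obtain ⟨e₁, he₁⟩ := hv 1 (map_one σ)
  obtain ⟨e₂, he₂⟩ := hv a hfa
  have hcoef : (a * a - a) * (σ k * k) ≠ 0 := by
    refine mul_ne_zero ?_ (mul_ne_zero ((map_ne_zero σ).2 hk0) hk0)
    rw [show a * a - a = a * (a - 1) by ring]
    exact mul_ne_zero ha0' (sub_ne_zero.2 ha1)
  refine hns ⟨((a * a - a) * (σ k * k))⁻¹ * (e₂ - e₀ - a * (e₁ - e₀)), ?_⟩
  rw [mul_smul, eq_inv_smul_iff₀ hcoef, sub_smul, mul_smul a, sub_smul, sub_smul, ← he₀, ← he₁, ← he₂]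
  module

/-- A root element is a lift at the position or commutes with it. -/
theorem UOver.local_root {X : Matrix (TI t m) (TI t m) F} (hX : Root σ G M X) (j : Fin t) :
    AlgU j X ∨ Comm j X := by
  classical
  haveI := H.neZero
  let x₀ : TI t m := fun _ => 0
  set η : Matrix (Fin m) (Fin m) F := Matrix.of fun p q => X (Function.update x₀ j p) (Function.update x₀ j q) with hη
  set D := X - lift j η with hD
  have hDc : Comm j D := by
    refine comm_of_contractions H.hG (by have := H.hm; omega) j fun u hu => ?_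
    obtain ⟨c, hc⟩ := H.scalar_ct hB hX j hu
    have h1 : ct σ G j u u X x₀ x₀ = fH σ G (η *ᵥ u) u := by
      rw [ct, cn_apply, if_pos rfl, dotProduct_comm]
      rfl
    rw [hc, Matrix.smul_apply, Matrix.one_apply_eq, smul_eq_mul, mul_one] at h1
    rw [hD, ct_sub, hc, ct_lift, h1, sub_self]
  have hXD : X = lift j η * 1 + D := by rw [hD, mul_one]; abel
  by_cases hηs : ∃ c : F, η = c • 1
  · obtain ⟨c, hc⟩ := hηs
    right
    rw [hXD, mul_one, hc, lift_smul, lift_one]
    exact (comm_scalar j c).add hDc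
  by_cases hDs : ∃ c : F, D = c • 1
  · obtain ⟨c, hc⟩ := hDs
    left
    exact ⟨η + c • 1, by rw [hXD, mul_one, hc, TensorWreath43.lift_add, lift_smul, lift_one]⟩
  obtain ⟨w, hw⟩ := H.hG.exists_iso (by have := H.hm; omega)
  exact (seg H.hG H.hm (TensorWreath43.comm_one j) hDc isUnit_one (fun c e => hDs ⟨c, e⟩) hηs hw.1
    (hXD ▸ (H.root_rank hX j hw.1 hw.1).le)).elim

/-- A root element is a lift from some position. -/
theorem UOver.exists_alg {X : Matrix (TI t m) (TI t m) F} (hX : Root σ G M X) : ∃ k, AlgU k X := by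
  haveI := H.neZero
  by_contra! h
  obtain ⟨c, hc⟩ := eq_scalar_of_comm fun l => (H.local_root hB hX l).resolve_left (h l)
  have h2 := H.root_sq hX
  rw [hc, smul_mul_smul_comm, mul_one, smul_eq_zero] at h2
  refine H.root_ne hX ?_
  rw [hc, mul_self_eq_zero.1 (h2.resolve_right one_ne_zero), zero_smul]

/-- An overgroup without all transvections permutes the factors. -/
theorem UOver.le_wreath : M ≤ Cfsg.Geo.tensorWreathStandard m t F := by
  classical
  haveI := H.neZero
  have hm := H.hm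
  have ht := H.ht
  intro g hg
  let cj : GL (TI t m) F → Matrix (TI t m) (TI t m) F → Matrix (TI t m) (TI t m) F := fun g Z =>
    (g : Matrix (TI t m) (TI t m) F) * Z * ((g⁻¹ : GL (TI t m) F) : Matrix (TI t m) (TI t m) F)
  have cj_mul : ∀ (g : GL (TI t m) F) Z W, cj g Z * cj g W = cj g (Z * W) := fun g Z W => by
    simp only [cj, mul_assoc, Units.inv_mul_cancel_left]
  have cj_inv : ∀ (g : GL (TI t m) F) Z, cj g⁻¹ (cj g Z) = Z := fun g Z => by
    simp only [cj, inv_inv, mul_assoc, Units.inv_mul, mul_one, Units.inv_mul_cancel_left]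
  -- one factor goes into one factor
  have one : ∀ g ∈ M, ∀ i, ∃ k, ∀ η, AlgU k (cj g (lift i η)) := by
    intro g hg i
    have hroot : ∀ w : {w : Fin m → F // Iso σ G w}, Root σ G M (cj g (lift i (E σ G w.1 w.1))) :=
      fun w => ⟨g, hg, i, w.1, w.2, rfl⟩
    choose k hk using fun w => H.exists_alg hB (hroot w)
    have hlink : ∀ w w' : {w : Fin m → F // Iso σ G w}, fH σ G w.1 w'.1 ≠ 0 → k w = k w' := by
      intro w w' hww
      by_contra hkk
      obtain ⟨η, hη⟩ := hk w
      obtain ⟨ξ, hξ⟩ := hk w'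
      have e := TensorWreath43.lift_comm hkk η ξ
      rw [← hη, ← hξ, cj_mul, cj_mul] at e
      have e' := congrArg (cj g⁻¹) e
      simp only [cj_inv, ← lift_mul] at e'
      have e'' := congrArg (· *ᵥ w.1) (TensorWreath43.lift_injective i e')
      simp only [E_mul, Matrix.smul_mulVec, E_mulVec, w.2.2, zero_smul, smul_zero, smul_smul, smul_eq_zero] at e''
      refine e''.elim (fun h0 => ?_) w.2.1
      exact (mul_eq_zero.1 h0).elim (fun h1 => hww (H.hG.symm_zero h1)) hww
    obtain ⟨w₀, hw₀⟩ := H.hG.exists_iso (by omega)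
    have hall : ∀ w, k w = k ⟨w₀, hw₀⟩ := by
      intro w
      obtain ⟨c, hc, hcw, hcw₀⟩ := H.hG.uform.exists_common (iso_def.1 w.2) (iso_def.1 hw₀)
      exact (hlink ⟨c, hc⟩ w hcw).symm.trans (hlink ⟨c, hc⟩ ⟨w₀, hw₀⟩ hcw₀)
    refine ⟨k ⟨w₀, hw₀⟩, fun η => ?_⟩
    refine H.hG.of_iso_E (by omega) (P := fun η => AlgU (k ⟨w₀, hw₀⟩) (cj g (lift i η))) ?_ ?_ ?_ ?_ ?_ η
    · exact ⟨0, by simp only [cj, lift_zero, mul_zero, zero_mul]⟩
    · rintro a b ⟨x, hx⟩ ⟨y, hy⟩
      refine ⟨x + y, ?_⟩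
      rw [TensorWreath43.lift_add (k ⟨w₀, hw₀⟩), ← hx, ← hy]
      simp only [cj, TensorWreath43.lift_add, mul_add, add_mul]
    · rintro c a ⟨x, hx⟩
      refine ⟨c • x, ?_⟩
      rw [lift_smul (j := k ⟨w₀, hw₀⟩), ← hx]
      simp only [cj, lift_smul, Matrix.mul_smul, Matrix.smul_mul]
    · rintro a b ⟨x, hx⟩ ⟨y, hy⟩
      refine ⟨x * y, ?_⟩
      rw [lift_mul, lift_mul, ← hx, ← hy, cj_mul]
    · intro b hb
      rw [← hall ⟨b, hb⟩]
      exact hk _
  choose π hπ using one g hg
  obtain ⟨z, hz⟩ : ∃ z : Fin m, z ≠ (0 : Fin m) := ⟨⟨1, by omega⟩, by simp [Fin.ext_iff]⟩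
  have hns : ¬ ∃ u : F, Matrix.single (0 : Fin m) z (1 : F) = u • 1 := by
    rintro ⟨u, hu⟩
    have := congrFun (congrFun hu 0) z
    rw [Matrix.single_apply_same, Matrix.smul_apply, Matrix.one_apply_ne hz.symm, smul_zero] at this
    exact one_ne_zero this
  have hinj : Function.Injective π := by
    intro i i' hii
    by_contra hne'
    obtain ⟨l, hl⟩ := one g⁻¹ (M.inv_mem hg) (π i)
    have back : ∀ i₀, π i₀ = π i → i₀ = l := by
      intro i₀ h0
      obtain ⟨ξ, hξ⟩ := hπ i₀ (Matrix.single 0 z (1 : F))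
      obtain ⟨ζ, hζ⟩ := hl ξ
      rw [← h0, ← hξ, cj_inv] at hζ
      by_contra hne''
      exact hns (scalar_of_two_lifts hne'' hζ)
    exact hne' ((back i rfl).trans (back i' hii.symm).symm)
  let τ : Equiv.Perm (Fin t) := Equiv.ofBijective π hinj.bijective_of_finite
  have hτ : ∀ i, τ i = π i := fun i => rfl
  set g' := (permU τ)⁻¹ * g with hg'
  have hfix : ∀ i η, AlgU i (cj g' (lift i η)) := by
    intro i η
    obtain ⟨ξ, hξ⟩ := hπ i η
    refine ⟨ξ, ?_⟩
    rw [hg']
    simp only [cj, mul_inv_rev, inv_inv, Units.val_mul] at hξ ⊢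
    calc ((permU τ)⁻¹ : GL (TI t m) F).val * g.val * lift i η * (g⁻¹.val * (permU τ).val)
        = ((permU τ)⁻¹ : GL (TI t m) F).val * ((g.val * lift i η * g⁻¹.val) * (permU τ).val) := by simp only [mul_assoc]
      _ = ((permU τ)⁻¹ : GL (TI t m) F).val * (lift (τ i) ξ * permT τ) := by rw [hξ, hτ]; rfl
      _ = lift i ξ := by
          rw [← permT_lift]
          exact Units.inv_mul_cancel_left (permU τ) _
  choose f hf using fun i a b => hfix i (Matrix.single a b (1 : F))
  have hinner : ∀ i, ∃ η : GL (Fin m) F, ∀ a b, (η : Matrix (Fin m) (Fin m) F) * Matrix.single a b 1 =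
      f i a b * (η : Matrix (Fin m) (Fin m) F) := by
    intro i
    refine exists_inner (f i) (fun a b c d => TensorWreath43.lift_injective i ?_) ?_
    · rw [lift_mul, ← hf, ← hf, cj_mul, lift_single_mul]
      split_ifs
      · rw [hf]
      · simp [cj, lift_zero]
    · intro e
      have h := hf i 0 0
      rw [e, lift_zero] at h
      have h' := congrArg (cj g'⁻¹) h
      rw [cj_inv] at h'
      simp only [cj, inv_inv, mul_zero, zero_mul] at h'
      rw [← lift_zero (F := F) (m := m) i] at h'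
      simpa using congrFun (congrFun (TensorWreath43.lift_injective i h') 0) 0
  choose η hη using hinner
  set h := (pureU η)⁻¹ * g' with hh
  have hcomm : ∀ i, Comm i (h : Matrix (TI t m) (TI t m) F) := fun i => comm_of_singles fun a b => by
    have e1 : (pureU η : Matrix (TI t m) (TI t m) F) * lift i (Matrix.single a b (1 : F)) =
        lift i (f i a b) * (pureU η : Matrix (TI t m) (TI t m) F) := by
      have := pureU_conj_lift η i (Matrix.single a b (1 : F))
      rw [hη, mul_assoc (f i a b), Units.mul_inv, mul_one] at this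
      rw [← this, mul_assoc, Units.inv_mul, mul_one]
    have e2 : (g' : Matrix (TI t m) (TI t m) F) * lift i (Matrix.single a b (1 : F)) =
        lift i (f i a b) * (g' : Matrix (TI t m) (TI t m) F) := by
      rw [← hf]
      simp only [cj, mul_assoc, Units.inv_mul, mul_one]
    rw [hh, Units.val_mul]
    calc lift i (Matrix.single a b 1) * (((pureU η)⁻¹ : GL (TI t m) F).val * g'.val)
        = ((pureU η)⁻¹ : GL (TI t m) F).val * ((pureU η).val * lift i (Matrix.single a b 1)) *
            ((pureU η)⁻¹ : GL (TI t m) F).val * g'.val := by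
          simp only [← mul_assoc, Units.inv_mul, one_mul]
      _ = ((pureU η)⁻¹ : GL (TI t m) F).val * (lift i (f i a b) * g'.val) := by
          rw [e1]; simp only [mul_assoc, Units.mul_inv_cancel_left]
      _ = _ := by rw [← e2, mul_assoc]
  obtain ⟨u, hu⟩ := eq_scalar_of_comm hcomm
  have hu0 : u ≠ 0 := fun e => h.ne_zero (by rw [hu, e, zero_smul])
  let i₀ : Fin t := ⟨0, by omega⟩
  have hh' : h = Units.map (liftHom (F := F) i₀).toMonoidHom
      (Units.map (algebraMap F (Matrix (Fin m) (Fin m) F)).toMonoidHom (Units.mk0 u hu0)) := by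
    refine Units.ext ?_
    show (h : Matrix (TI t m) (TI t m) F) = lift i₀ (algebraMap F (Matrix (Fin m) (Fin m) F) u)
    rw [Algebra.algebraMap_eq_smul_one, lift_smul, lift_one, hu]
  have hdec : g = permU τ * (pureU η * h) := by rw [hh, mul_inv_cancel_left, hg', mul_inv_cancel_left]
  have mperm : permU τ ∈ Cfsg.Geo.tensorWreathStandard m t F :=
    Subgroup.subset_closure (Or.inr ⟨τ, fun x y => rfl⟩)
  have mpure : ∀ ξ : Fin t → GL (Fin m) F, pureU ξ ∈ Cfsg.Geo.tensorWreathStandard m t F := fun ξ =>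
    Subgroup.subset_closure (Or.inl ⟨ξ, fun x y => rfl⟩)
  rw [hdec]
  refine Subgroup.mul_mem _ mperm (Subgroup.mul_mem _ (mpure η) ?_)
  rw [hh']
  set w := Units.map (algebraMap F (Matrix (Fin m) (Fin m) F)).toMonoidHom (Units.mk0 u hu0)
  rw [show Units.map (liftHom (F := F) i₀).toMonoidHom w = pureU (Function.update 1 i₀ w) from Units.ext (by
    show lift i₀ (w : Matrix (Fin m) (Fin m) F) = pureT _
    rw [← pureT_update_eq_lift]
    congr 1
    funext i
    by_cases hi : i = i₀ <;> simp [hi])]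
  exact mpure _

end Cfsg.Agent.TensorWreathU84
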