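import Cfsg.Prelude.Def_GeometricClasses
import Cfsg.Agent.Lib.TensorWreathU84Main
import Cfsg.Agent.Lib.TensorUnitLow74

/-!
The stabiliser of a tensor power decomposition is maximal in the special unitary group.
-/

set_option autoImplicit false
set_option linter.unusedSectionVars false

namespace Cfsg.Agent.TensorWreathU84

open scoped Matrix
open Cfsg.Agent.TensorWreath43 (TI lift liftHom pureT pureV permT permU MemU phi)

variable {F : Type*} [Field F] {σ : F →+* F} {t m : ℕ} {G : Matrix (Fin m) (Fin m) F}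

/-- A hyperbolic sum of two pure tensors is not pure. -/
theorem not_pure (hG : HG σ G) (ht : 2 ≤ t) {w r : Fin m → F} (hww : fH σ G w w = 0) (hrr : fH σ G r r = 0)
    (hwr : fH σ G w r = 1) (hrw : fH σ G r w = 1) {z : F} (hz : z ≠ 0) (ys : Fin t → Fin m → F) :
    pureV (fun _ => r) + z • pureV (fun _ => w) ≠ pureV ys := by
  classical
  intro h
  have key : ∀ a : Fin t → Fin m → F,
      (∏ i, fH σ G r (a i)) + z * ∏ i, fH σ G w (a i) = ∏ i, fH σ G (ys i) (a i) := fun a => by
    rw [← fH_pureV (fun _ => r), ← fH_pureV (fun _ => w), ← fH_pureV ys, ← h, fH_add_left, fH_smul_left]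
  let i₀ : Fin t := ⟨0, by omega⟩
  let i₁ : Fin t := ⟨1, by omega⟩
  have h01 : i₁ ≠ i₀ := by simp [i₀, i₁, Fin.ext_iff]
  have hw' := key fun _ => w
  have hr' := key fun _ => r
  simp only [hrw, hww, hrr, hwr, Finset.prod_const, one_pow, Finset.card_univ, Fintype.card_fin] at hw' hr'
  rw [zero_pow (by omega), mul_zero, add_zero] at hw'
  rw [zero_pow (by omega), zero_add, mul_one] at hr'
  have hm := key (Function.update (fun _ => w) i₀ r)
  rw [Finset.prod_eq_zero (Finset.mem_univ i₀) (by rw [Function.update_self, hrr]),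
    Finset.prod_eq_zero (Finset.mem_univ i₁) (by rw [Function.update_of_ne h01, hww]), mul_zero, add_zero] at hm
  refine Finset.prod_ne_zero_iff.2 (fun i _ => ?_) hm.symm
  by_cases hi : i = i₀
  · rw [hi, Function.update_self]
    exact (Finset.prod_ne_zero_iff (s := Finset.univ) (f := fun i => fH σ G (ys i) r)).1 (by rw [← hr']; exact hz) i₀
      (Finset.mem_univ _)
  · rw [Function.update_of_ne hi]
    exact (Finset.prod_ne_zero_iff (s := Finset.univ) (f := fun i => fH σ G (ys i) w)).1 (by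
      rw [← hw']; exact one_ne_zero) i (Finset.mem_univ _)

/-- A permutation of the positions preserves the tensor power. -/
theorem adj_permT (hG : HG σ G) (π : Equiv.Perm (Fin t)) :
    adj σ (GT t G) (permT π : Matrix (TI t m) (TI t m) F) * permT π = 1 := by
  classical
  have htr : ((permT π : Matrix (TI t m) (TI t m) F))ᵀ = permT π⁻¹ := by
    ext x y
    simp only [Matrix.transpose_apply, permT]
    refine if_congr ⟨fun h => ?_, fun h => ?_⟩ rfl rfl
    · rw [h]; funext i; simp
    · rw [h]; funext i; simp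
  have hc : permT π⁻¹ * GT t G = GT t G * (permT π⁻¹ : Matrix (TI t m) (TI t m) F) := by
    ext x y
    rw [TensorWreath43.permT_mul_apply, TensorWreath43.mul_permT_apply]
    exact Fintype.prod_equiv π⁻¹ _ _ fun i => by simp [Equiv.Perm.inv_def]
  rw [adj, htr, mul_assoc, hc, ← mul_assoc, (hG.gt t).inv_mul, one_mul,
    show ((permT π⁻¹ : Matrix (TI t m) (TI t m) F)).map σ = permT π⁻¹ by
      ext x y
      simp only [Matrix.map_apply, permT]
      split_ifs <;> simp,
    TensorWreath43.permT_mul, inv_mul_cancel, TensorWreath43.permT_one]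

theorem adj_mul_of_fH {ι : Type*} [Fintype ι] [DecidableEq ι] {G : Matrix ι ι F} (hG : HG σ G) {g : Matrix ι ι F}
    (h : ∀ x a, fH σ G (g *ᵥ x) (g *ᵥ a) = fH σ G x a) : adj σ G g * g = 1 := by
  refine Matrix.ext_iff_mulVec.mpr fun x => sub_eq_zero.1 (hG.eq_zero_of_left fun a => ?_)
  rw [fH_sub_left, Matrix.one_mulVec, ← hG.sigma_fH a, ← Matrix.mulVec_mulVec, hG.fH_adj, h, hG.sigma_fH, sub_self]

/-- Two fixed elements only over the field with four elements. -/
theorem q_eq_two [Fintype F] {q : ℕ} (hF : Fintype.card F = q ^ 2) (hσ : ∀ x, σ x = x ^ q)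
    (hinv : ∀ x, σ (σ x) = x) (hfix : ∀ c, σ c = c → c = 0 ∨ c = 1) : q = 2 := by
  classical
  have hqpos : 2 ≤ q := by
    by_contra h
    have h1 := Fintype.one_lt_card (α := F)
    interval_cases q <;> simp_all
  have hF4 : ∀ x : F, x = 0 ∨ x ^ (q + 1) = 1 := fun x => by
    by_cases hx : x = 0
    · exact Or.inl hx
    · refine Or.inr ?_
      have := (hfix (x * σ x) (by rw [map_mul, hinv, mul_comm])).resolve_left
        (mul_ne_zero hx ((map_ne_zero σ).2 hx))
      rwa [hσ, ← pow_succ'] at this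
  obtain ⟨g, hg⟩ := IsCyclic.exists_generator (α := Fˣ)
  have hord : orderOf g = q ^ 2 - 1 := by
    rw [orderOf_eq_card_of_forall_mem_zpowers hg, Nat.card_eq_fintype_card, Fintype.card_units, hF]
  have hdvd : q ^ 2 - 1 ∣ q + 1 := by
    rw [← hord]
    refine orderOf_dvd_of_pow_eq_one (Units.ext ?_)
    rw [Units.val_pow_eq_pow_val, Units.val_one]
    exact (hF4 g).resolve_left g.ne_zero
  have hle := Nat.le_of_dvd (by omega) hdvd
  by_contra hq
  have : 3 * q ≤ q ^ 2 := by rw [sq]; exact Nat.mul_le_mul_right q (by omega)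
  omega

/-- C7 maximality in the special unitary group. -/
theorem maximal {F : Type*} [Field F] [Fintype F] (n q : ℕ) (hF : Fintype.card F = q ^ 2) (hn : 13 ≤ n) (k t : ℕ)
    (hk : 3 ≤ k) (ht : 2 ≤ t) (hex : ¬ (q = 2 ∧ k = 3)) (e : Fin n ≃ (Fin t → Fin k))
    (P : Matrix.GeneralLinearGroup (Fin n) F) (f₁ : (Fin k → F) → (Fin k → F) → F)
    (hf₁ : Cfsg.Geo.IsUnitaryFormPow q f₁)
    (hT : Cfsg.Geo.IsTensorPowerFormStructure (fun x : F => x ^ q) (Cfsg.hermForm n F q) f₁ e P) :
    Cfsg.Geo.IsMaximalIn (Cfsg.GU n F q ⊓ Cfsg.Geo.specialLinear (Fin n) F)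
      (Cfsg.Geo.tensorWreathSubgroup k t e P ⊓ (Cfsg.GU n F q ⊓ Cfsg.Geo.specialLinear (Fin n) F)) := by
  classical
  haveI : NeZero k := ⟨by omega⟩
  obtain ⟨τ, hτ, hfU⟩ := TransvectionUnitaryGen.herm_isUnitaryForm (n := n) hF
  obtain ⟨c, hc, hT⟩ := hT
  let σ : F →+* F := τ.toRingHom
  have hσ : ∀ x, σ x = x ^ q := hτ
  have hinv : ∀ x, σ (σ x) = x := hfU.involutive
  have hne : ∃ x, σ x ≠ x := TransvectionUnitary.exists_not_fixed hfU.ne_refl
  -- the Gram matrix
  set G := Cfsg.Geo.gramMatrix f₁ with hGdef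
  have hherm : ∀ x y, σ (f₁ x y) = f₁ y x := fun x y => by rw [hσ]; exact (hf₁.herm y x).symm
  have hlin : ∀ x a, f₁ x a = ∑ p, x p * f₁ (Pi.single p 1) a := by
    intro x a
    let L : (Fin k → F) →ₗ[F] F :=
      { toFun := fun x => f₁ x a
        map_add' := fun x y => hf₁.add_left x y a
        map_smul' := fun s x => hf₁.smul_left s x a }
    calc f₁ x a = L (∑ p, x p • Pi.single p (1 : F)) := by
          rw [← pi_eq_sum_univ' x]
          rfl
      _ = _ := by rw [map_sum]; exact Finset.sum_congr rfl fun p _ => by rw [map_smul]; rfl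
  have hfG : ∀ x a, f₁ x a = fH σ G x a := by
    intro x a
    rw [hlin, fH, dotProduct]
    refine Finset.sum_congr rfl fun p _ => congrArg _ ?_
    rw [← hherm, hlin, map_sum, row, Matrix.mulVec, dotProduct]
    exact Finset.sum_congr rfl fun b _ => by rw [map_mul, hherm, mul_comm]; rfl
  have hG : HG σ G := by
    refine ⟨?_, ?_, hinv, hne⟩
    · ext a b
      exact hherm _ _
    · refine isUnit_iff_ne_zero.2 fun h0 => ?_
      obtain ⟨v, hv0, hv⟩ := Matrix.exists_vecMul_eq_zero_iff.2 h0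
      obtain ⟨y, hy⟩ := (hf₁.nondegenerate v hv0).2
      refine hy ?_
      rw [hfG, fH, row, Matrix.dotProduct_mulVec, hv, zero_dotProduct]
  have hTf : ∀ x y : TI t k → F, Cfsg.hermForm n F q ((P : Matrix (Fin n) (Fin n) F) *ᵥ (x ∘ e))
      ((P : Matrix (Fin n) (Fin n) F) *ᵥ (y ∘ e)) = c * fH σ (GT t G) x y := fun x y => by
    rw [hT]
    congr 1
    simp only [fH, row, dotProduct, Matrix.mulVec, Finset.mul_sum, hσ, GT, TensorWreath43.pureT]
    exact Finset.sum_congr rfl fun a _ => Finset.sum_congr rfl fun b _ => by rw [hGdef]; ring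
  have hGT := hG.gt t
  obtain ⟨w, hw⟩ := hG.exists_iso (by omega)
  obtain ⟨r, hr, hwr, hrw⟩ := hG.exists_partner hw
  -- the constant is fixed
  have hcfix : σ c = c := by
    obtain ⟨x, -, -, hx⟩ := hG.exists_perp_val hk hw hr (by rw [hwr]; exact one_ne_zero) (map_one σ)
    have hV : fH σ (GT t G) (pureV fun _ : Fin t => x) (pureV fun _ => x) = 1 := by
      rw [fH_pureV]; simp [hx]
    have h := hfU.herm ((P : Matrix (Fin n) (Fin n) F) *ᵥ ((pureV fun _ : Fin t => x) ∘ e))
      ((P : Matrix (Fin n) (Fin n) F) *ᵥ ((pureV fun _ : Fin t => x) ∘ e))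
    change _ = σ _ at h
    rw [hTf, hV, mul_one] at h
    exact h.symm
  have hsurj : ∀ v : Fin n → F, ∃ V : TI t k → F, v = (P : Matrix (Fin n) (Fin n) F) *ᵥ (V ∘ e) := fun v =>
    ⟨(((P⁻¹ : GL (Fin n) F) : Matrix (Fin n) (Fin n) F) *ᵥ v) ∘ e.symm, by
      rw [Function.comp_assoc, Equiv.symm_comp_self, Function.comp_id, Matrix.mulVec_mulVec, Units.mul_inv,
        Matrix.one_mulVec]⟩
  have hcomap : ∀ g : GL (TI t k) F, phi e P g ∈ Cfsg.GU n F q ⊓ Cfsg.Geo.specialLinear (Fin n) F ↔
      adj σ (GT t G) (g : Matrix (TI t k) (TI t k) F) * (g : Matrix (TI t k) (TI t k) F) = 1 ∧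
        (g : Matrix (TI t k) (TI t k) F).det = 1 := by
    intro g
    constructor
    · rintro ⟨hgU, hgS⟩
      refine ⟨adj_mul_of_fH hGT fun x a => ?_, by rw [← TensorWreath43.phi_det e P g]; exact congrArg Units.val hgS⟩
      have h := hgU ((P : Matrix (Fin n) (Fin n) F) *ᵥ (x ∘ e)) ((P : Matrix (Fin n) (Fin n) F) *ᵥ (a ∘ e))
      change Cfsg.hermForm n F q ((phi e P g : Matrix (Fin n) (Fin n) F) *ᵥ _)
        ((phi e P g : Matrix (Fin n) (Fin n) F) *ᵥ _) = _ at h
      rw [TensorWreath43.phi_mulVec, TensorWreath43.phi_mulVec, hTf, hTf] at h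
      exact mul_left_cancel₀ hc h
    · rintro ⟨hgi, hgd⟩
      refine ⟨fun x y => ?_, Units.ext (by
        rw [Matrix.GeneralLinearGroup.val_det_apply, Units.val_one]
        exact (TensorWreath43.phi_det e P g).trans hgd)⟩
      obtain ⟨u, rfl⟩ := hsurj x
      obtain ⟨v, rfl⟩ := hsurj y
      show Cfsg.hermForm n F q ((phi e P g : Matrix (Fin n) (Fin n) F) *ᵥ _)
        ((phi e P g : Matrix (Fin n) (Fin n) F) *ᵥ _) = _
      rw [TensorWreath43.phi_mulVec, TensorWreath43.phi_mulVec, hTf, hTf, hGT.iso_fH hgi]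
  refine TensorWreath43.isMaximalIn_of e P _ ?_ (fun M h1' h2' => ?_)
  · -- a transvection outside
    obtain ⟨z, hz0, hz⟩ := hG.exists_skew
    set W : TI t k → F := pureV (fun _ => w) with hW
    have hWW : fH σ (GT t G) W W = 0 := by
      rw [hW, fH_pureV, Finset.prod_eq_zero (Finset.mem_univ (⟨0, by omega⟩ : Fin t)) hw.2]
    have hdet : (1 + z • E σ (GT t G) W W).det = 1 := by rw [det_one_add_E, hWW, mul_zero, add_zero]
    refine ⟨Matrix.GeneralLinearGroup.mkOfDetNeZero _ (by rw [hdet]; exact one_ne_zero), (hcomap _).2 ⟨?_, hdet⟩,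
      fun hgk => ?_⟩
    · show adj σ (GT t G) (1 + z • E σ (GT t G) W W) * (1 + z • E σ (GT t G) W W) = 1
      rw [adj_add, hGT.adj_one, hGT.adj_smul_E_self hz]
      simp only [add_mul, mul_add, one_mul, mul_one, neg_mul, smul_mul_assoc, mul_smul_comm, E_self_sq hWW, smul_zero]
      abel
    · obtain ⟨ys, hys⟩ := TensorWreath43.pureV_image hgk (fun _ => r)
      refine not_pure hG ht hw.2 hr.2 hwr hrw hz0 ys ?_
      rw [← hys]
      show _ = (1 + z • E σ (GT t G) W W) *ᵥ _
      rw [Matrix.add_mulVec, Matrix.one_mulVec, Matrix.smul_mulVec, E_mulVec, hW, fH_pureV, hrw, Finset.prod_const,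
        one_pow, one_smul]
  · have hM : UOver σ G M := by
      refine ⟨hG, hk, ht, fun hfix => ?_, fun j η hη hd => ?_, fun π hπ => ?_, fun g hg => ((hcomap g).1 (h2' hg)).1⟩
      · have := q_eq_two hF hσ hinv hfix
        by_contra h
        exact hex ⟨this, by omega⟩
      · refine h1' ⟨?_, (hcomap _).2 ⟨?_, ?_⟩⟩
        · rw [TensorWreath43.liftU_eq_pureU]
          exact TensorWreath43.pureU_mem_wreath _
        · show adj σ (GT t G) (lift j (η : Matrix (Fin k) (Fin k) F)) * lift j (η : Matrix (Fin k) (Fin k) F) = 1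
          rw [adj_lift hG, ← TensorWreath43.lift_mul, hη, TensorWreath43.lift_one]
        · show (lift j (η : Matrix (Fin k) (Fin k) F)).det = 1
          rw [TensorWreath43.lift_det, hd, one_pow]
      · exact h1' ⟨TensorWreath43.permU_mem_wreath π, (hcomap _).2 ⟨adj_permT hG π, TensorWreath43.permT_det_eq_one hπ⟩⟩
    by_cases hBig : Big σ G M
    · right
      have hsu : Cfsg.GU n F q ⊓ Cfsg.Geo.specialLinear (Fin n) F ≤ M.map (phi e P).toMonoidHom := by
        refine TensorUnitLow74.su_le hF (by omega) fun v s hv hs => ?_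
        obtain ⟨V, rfl⟩ := hsurj v
        rw [hTf, mul_eq_zero] at hv
        have hs' : σ (s * c) = -(s * c) := by
          rw [map_mul, hcfix, hσ, eq_neg_of_add_eq_zero_right hs, neg_mul]
        obtain ⟨g, hg, hgX⟩ := hBig V (hv.resolve_left hc) (s * c) hs'
        refine ⟨phi e P g, ⟨g, hg, rfl⟩, fun x => ?_⟩
        obtain ⟨u, rfl⟩ := hsurj x
        rw [TensorWreath43.phi_mulVec, hgX, Matrix.add_mulVec, Matrix.one_mulVec, Matrix.smul_mulVec, E_mulVec, hTf,
          smul_smul, mul_assoc]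
        show (P : Matrix (Fin n) (Fin n) F) *ᵥ (u ∘ e + (s * (c * fH σ (GT t G) u V)) • (V ∘ e)) = _
        rw [Matrix.mulVec_add, Matrix.mulVec_smul]
      refine (Subgroup.comap_mono hsu).trans (le_of_eq ?_)
      exact Subgroup.comap_map_eq_self_of_injective (phi e P).injective M
    · exact Or.inl (hM.le_wreath hBig)

end Cfsg.Agent.TensorWreathU84
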