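import Cfsg.Agent.Lib.TensorWreathU84Local

/-!
The contraction of a root element at a root is never nilpotent, and the iteration towards a stable kernel.
-/

set_option autoImplicit false
set_option linter.unusedSectionVars false

namespace Cfsg.Agent.TensorWreathU84

open scoped Matrix
open Cfsg.Agent.TensorWreath43 (TI lift liftHom Comm cn MemU)

variable {F : Type*} [Field F] [Fintype F] {σ : F →+* F} {t m : ℕ}
variable {G : Matrix (Fin m) (Fin m) F} {M : Subgroup (GL (TI t m) F)}

theorem rank_add_of_orth {κ : Type*} [Fintype κ] [DecidableEq κ] {e f : Matrix κ κ F} (he : e * e = e)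
    (hf : f * f = f) (hef : e * f = 0) (hfe : f * e = 0) : (e + f).rank = e.rank + f.rank := by
  have h1 : LinearMap.range e.mulVecLin ≤ LinearMap.range (e + f).mulVecLin := by
    rintro _ ⟨v, rfl⟩
    exact ⟨e *ᵥ v, by simp only [Matrix.mulVecLin_apply, Matrix.mulVec_mulVec, add_mul, he, hfe, add_zero]⟩
  have h2 : LinearMap.range f.mulVecLin ≤ LinearMap.range (e + f).mulVecLin := by
    rintro _ ⟨v, rfl⟩
    exact ⟨f *ᵥ v, by simp only [Matrix.mulVecLin_apply, Matrix.mulVec_mulVec, add_mul, hf, hef, zero_add]⟩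
  have hsup : LinearMap.range e.mulVecLin ⊔ LinearMap.range f.mulVecLin = LinearMap.range (e + f).mulVecLin := by
    refine le_antisymm (sup_le h1 h2) ?_
    rintro _ ⟨v, rfl⟩
    rw [Matrix.mulVecLin_apply, Matrix.add_mulVec]
    exact Submodule.add_mem_sup ⟨v, rfl⟩ ⟨v, rfl⟩
  have hinf : LinearMap.range e.mulVecLin ⊓ LinearMap.range f.mulVecLin = ⊥ := by
    rw [eq_bot_iff]
    rintro x ⟨⟨a, rfl⟩, b, hb⟩
    simp only [Matrix.mulVecLin_apply] at hb ⊢
    rw [Submodule.mem_bot, ← he, ← Matrix.mulVec_mulVec, ← hb, Matrix.mulVec_mulVec, hef, Matrix.zero_mulVec]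
  have h := Submodule.finrank_sup_add_finrank_inf_eq (LinearMap.range e.mulVecLin) (LinearMap.range f.mulVecLin)
  rw [hsup, hinf, finrank_bot, add_zero] at h
  exact h

theorem rank_add_le' {κ : Type*} [Fintype κ] [DecidableEq κ] (A B : Matrix κ κ F) :
    (A + B).rank ≤ A.rank + B.rank := by
  have h : LinearMap.range (A + B).mulVecLin ≤ LinearMap.range A.mulVecLin ⊔ LinearMap.range B.mulVecLin := by
    rintro _ ⟨v, rfl⟩
    rw [Matrix.mulVecLin_apply, Matrix.add_mulVec]
    exact Submodule.add_mem_sup ⟨v, rfl⟩ ⟨v, rfl⟩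
  exact (Submodule.finrank_mono h).trans (Submodule.finrank_add_le_finrank_add_finrank _ _)

/-- The conditions on a root element used by the core arguments. -/
def Cond (σ : F →+* F) (G : Matrix (Fin m) (Fin m) F) (j : Fin t) (w r : Fin m → F)
    (X : Matrix (TI t m) (TI t m) F) : Prop :=
  (∀ v, lift j (E σ G w w) *ᵥ (X *ᵥ v) = 0 → lift j (E σ G w r) *ᵥ (X *ᵥ v) = X *ᵥ v) ∧
    (∀ e, ct σ G j w w X *ᵥ (lift j (E σ G w w) *ᵥ e) = 0 → X *ᵥ (lift j (E σ G w w) *ᵥ e) = 0)

/-- The conjugate of the root by a root element. -/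
noncomputable def stepR (σ : F →+* F) (G : Matrix (Fin m) (Fin m) F) (j : Fin t) (w : Fin m → F) (z : F)
    (X : Matrix (TI t m) (TI t m) F) : Matrix (TI t m) (TI t m) F :=
  (1 + z • X) * lift j (E σ G w w) * (1 - z • X)

theorem stepR_eq (j : Fin t) (w : Fin m → F) (z : F) (X : Matrix (TI t m) (TI t m) F) :
    stepR σ G j w z X = lift j (E σ G w w) + z • (X * lift j (E σ G w w) - lift j (E σ G w w) * X) -
      (z * z) • (X * lift j (E σ G w w) * X) := by
  rw [stepR]
  simp only [add_mul, mul_sub, one_mul, mul_one, smul_mul_assoc, mul_smul_comm, smul_sub, smul_add, smul_smul]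
  abel

variable (H : UOver σ G M)
include H

theorem UOver.root_stepR {j : Fin t} {w : Fin m → F} (hw : Iso σ G w) {z : F} (hz : σ z = -z)
    {X : Matrix (TI t m) (TI t m) F} (hX : Root σ G M X) :
    ∃ g ∈ M, (g : Matrix (TI t m) (TI t m) F) = 1 + z • X ∧ stepR σ G j w z X =
      (g : Matrix (TI t m) (TI t m) F) * lift j (E σ G w w) * ((g⁻¹ : GL (TI t m) F) : Matrix (TI t m) (TI t m) F) ∧
      Root σ G M (stepR σ G j w z X) := by
  obtain ⟨g, hg, hgX⟩ := H.root_mem_smul hX hz
  have e : stepR σ G j w z X = (g : Matrix (TI t m) (TI t m) F) * lift j (E σ G w w) *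
      ((g⁻¹ : GL (TI t m) F) : Matrix (TI t m) (TI t m) F) := by
    rw [stepR, hgX, Units.inv_eq_of_mul_eq_one_right (show (g : Matrix (TI t m) (TI t m) F) * (1 - z • X) = 1 by
      rw [hgX, add_mul, one_mul, mul_sub, mul_one, Matrix.smul_mul, Matrix.mul_smul, H.root_sq hX, smul_zero,
        smul_zero]
      abel)]
  exact ⟨g, hg, hgX, e, e ▸ H.root_conj (H.root_lift j hw) hg⟩

theorem UOver.ct_stepR {j : Fin t} {w : Fin m → F} (hw : Iso σ G w) (z : F) (X : Matrix (TI t m) (TI t m) F) :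
    ct σ G j w w (stepR σ G j w z X) = -(z * z) • (ct σ G j w w X * ct σ G j w w X) := by
  haveI := H.neZero
  rw [stepR_eq, ct_sub, ct_add, ct_smul, ct_smul, ct_sub, ct_lift, ct_prod H.hG, ct_mul_lift, ct_lift_left H.hG,
    H.hG.adj_E, E_mulVec, hw.2, zero_smul, fH_zero_left, zero_smul, ← zero_smul F (0 : Fin m → F), ct_smul_right,
    ct_smul_left, map_zero, zero_smul, zero_smul, sub_self, smul_zero, add_zero, zero_sub, neg_smul]

theorem UOver.lift_sq {j : Fin t} {w : Fin m → F} (hw : Iso σ G w) :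
    lift j (E σ G w w) * lift j (E σ G w w) = (0 : Matrix (TI t m) (TI t m) F) := by
  rw [← TensorWreath43.lift_mul, hw.E_sq, TensorWreath43.lift_zero]

theorem UOver.stepR_kill {j : Fin t} {w : Fin m → F} (hw : Iso σ G w) (z : F) {X : Matrix (TI t m) (TI t m) F}
    {e : TI t m → F} (he : ct σ G j w w X *ᵥ (lift j (E σ G w w) *ᵥ e) = 0) :
    stepR σ G j w z X *ᵥ (lift j (E σ G w w) *ᵥ e) = 0 := by
  set L := lift j (E σ G w w) with hL
  have hLXLe : (L * X * L) *ᵥ e = 0 := by
    rw [hL, sandwich, comm_ct j w w X, ← Matrix.mulVec_mulVec, he]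
  have e1 : stepR σ G j w z X * L = z • -(L * X * L) - (z * z) • (X * (L * X * L)) := by
    rw [stepR_eq, ← hL, sub_mul, add_mul, Matrix.smul_mul, Matrix.smul_mul, sub_mul, mul_assoc X L L,
      H.lift_sq hw, mul_zero, zero_sub, zero_add]
    simp only [mul_assoc]
  rw [Matrix.mulVec_mulVec, e1, Matrix.sub_mulVec, Matrix.smul_mulVec, Matrix.smul_mulVec, Matrix.neg_mulVec, hLXLe,
    ← Matrix.mulVec_mulVec, hLXLe, Matrix.mulVec_zero, neg_zero, smul_zero, smul_zero, sub_zero]

theorem UOver.cond_of_unit {j : Fin t} {w r : Fin m → F} (hw : Iso σ G w) {X : Matrix (TI t m) (TI t m) F}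
    (hX : Root σ G M X) (hu : IsUnit (ct σ G j w w X)) : Cond σ G j w r X := by
  haveI := H.neZero
  set L := lift j (E σ G w w) with hL
  constructor
  · intro v hv
    have h3 : X.rank ≤ (L * X).rank := by
      rw [H.root_rank hX j hw.1 hw.1]
      refine (rank_mul_unit _ hu).trans ?_
      rw [lift_E_mul_ct, ← hL]
      exact Matrix.rank_mul_le_left _ _
    have hle : LinearMap.ker X.mulVecLin ≤ LinearMap.ker (L * X).mulVecLin := by
      rw [Matrix.mulVecLin_mul]; exact LinearMap.ker_le_ker_comp _ _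
    have h4 := LinearMap.finrank_range_add_finrank_ker X.mulVecLin
    have h5 := LinearMap.finrank_range_add_finrank_ker (L * X).mulVecLin
    have h6 : X.rank = Module.finrank F (LinearMap.range X.mulVecLin) := rfl
    have h7 : (L * X).rank = Module.finrank F (LinearMap.range (L * X).mulVecLin) := rfl
    have heq := Submodule.eq_of_le_of_finrank_le hle (by omega)
    have hv0 : X *ᵥ v = 0 := by
      have : v ∈ LinearMap.ker X.mulVecLin := heq ▸ (LinearMap.mem_ker.2 (by
        rw [Matrix.mulVecLin_apply, ← Matrix.mulVec_mulVec]; exact hv))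
      exact LinearMap.mem_ker.1 this
    rw [hv0, Matrix.mulVec_zero]
  · intro e he
    obtain ⟨a, ha⟩ := hu
    rw [← ha] at he
    have h0 := congrArg (fun x => ((a⁻¹ : GL (TI t m) F) : Matrix (TI t m) (TI t m) F) *ᵥ x) he
    simp only [Matrix.mulVec_mulVec, ← mul_assoc, Units.inv_mul, one_mul, Matrix.mulVec_zero] at h0
    rw [h0, Matrix.mulVec_zero]

variable (hB : ¬ Big σ G M)
include hB

/-- The transformed element of a non-local root is not local. -/
theorem UOver.dec_step {j : Fin t} {w : Fin m → F} (hw : Iso σ G w) {z : F} (hz : σ z = -z) (hz0 : z ≠ 0)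
    {X : Matrix (TI t m) (TI t m) F} (hX : Root σ G M X) {u : Fin m → F} (hu : Iso σ G u)
    (hA : AlgU j (stepR σ G j u z X)) (hnil : ∃ n, ct σ G j w w X ^ n = 0) : ct σ G j w w X = 0 := by
  haveI := H.neZero
  obtain ⟨g, hg, hgX, he, hR⟩ := H.root_stepR (j := j) hu hz hX
  obtain ⟨η, hη⟩ := hA
  rw [hη] at hR he
  obtain ⟨κ, v, hκ0, -, hv, rfl⟩ := H.alg_root hR
  rw [TensorWreath43.lift_smul] at he
  rcases H.alg_or_comm_of_dec hX hz0 hgX (H.dec_of_conj hB hu hv hg he.symm) with ⟨ξ, hξ⟩ | hC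
  · obtain ⟨n, hn⟩ := hnil
    rw [hξ, ct_lift, smul_pow, one_pow, smul_eq_zero] at hn
    rcases hn with hn | hn
    · rw [hξ, ct_lift, (pow_eq_zero_iff').1 hn |>.1, zero_smul]
    · exact absurd hn one_ne_zero
  · rw [ct_comm hC, hw.2, zero_smul]

set_option maxHeartbeats 1000000 in
theorem UOver.ct_eq_zero_of_sq {j : Fin t} {w : Fin m → F} (hw : Iso σ G w) {X : Matrix (TI t m) (TI t m) F}
    (hX : Root σ G M X) (h : ct σ G j w w X * ct σ G j w w X = 0) : ct σ G j w w X = 0 := by
  classical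
  haveI := H.neZero
  set L := lift j (E σ G w w) with hL
  set C := ct σ G j w w X with hC
  have hLL := H.lift_sq (j := j) hw
  have hLXL : L * X * L = L * C := by rw [hL, sandwich]
  have hsh : ∀ z, σ z = -z → (2 : F) • z • (L * C) = (z * z) • (C * L * X - X * (L * C)) := by
    intro z hz
    obtain ⟨g, hg, hgX, he, hR⟩ := H.root_stepR (j := j) hw hz hX
    have h0 : ct σ G j w w (stepR σ G j w z X) = 0 := by rw [H.ct_stepR hw, ← hC, h, smul_zero]
    have hc := H.commute_of_ct_zero hB hw hR h0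
    rw [stepR_eq, ← hL] at hc
    have e1 : L * (L + z • (X * L - L * X) - (z * z) • (X * L * X)) = z • (L * C) - (z * z) • (C * L * X) := by
      rw [mul_sub, mul_add, Matrix.mul_smul, Matrix.mul_smul, mul_sub, hL, hLL, ← hL, ← mul_assoc L X L, hLXL,
        ← mul_assoc L L X, show L * L = 0 from hLL, zero_mul, sub_zero, zero_add, ← mul_assoc, ← mul_assoc, hLXL,
        hL, comm_ct j w w X, hC]
    have e2 : (L + z • (X * L - L * X) - (z * z) • (X * L * X)) * L =
        -(z • (L * C)) - (z * z) • (X * (L * C)) := by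
      rw [sub_mul, add_mul, Matrix.smul_mul, Matrix.smul_mul, sub_mul, mul_assoc X L L, show L * L = 0 from hLL,
        mul_zero, zero_sub, zero_add, mul_assoc (X * L) X L, mul_assoc X L (X * L), ← mul_assoc L X L, hLXL,
        smul_neg]
    rw [e1, e2] at hc
    rw [two_smul, smul_sub]
    calc z • (L * C) + z • (L * C) = (z • (L * C) - (z * z) • (C * L * X)) + z • (L * C) +
          (z * z) • (C * L * X) := by abel
      _ = _ := by rw [hc]; abel
  obtain ⟨z, hz0, hz⟩ := H.hG.exists_skew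
  have hLC : L * C = 0 → C = 0 := TensorWreath43.eq_zero_of_lift_mul (hw.E_ne H.hG) (comm_ct j w w X)
  by_cases h2 : (2 : F) = 0
  swap
  · refine hLC ?_
    have h1 := hsh z hz
    have h1' := hsh (-z) (by rw [map_neg, hz])
    rw [neg_mul_neg, ← h1, neg_smul, smul_neg, neg_eq_iff_add_eq_zero, ← smul_add, ← add_smul, ← two_mul] at h1'
    exact (smul_eq_zero.1 ((smul_eq_zero.1 h1').resolve_left h2)).resolve_left (mul_ne_zero h2 hz0)
  by_contra hC0
  have hneg : ∀ a : F, -a = a := fun a => by linear_combination -(a * h2)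
  have hY : ∀ z, σ z = z → z ≠ 0 → Comm j (stepR σ G j w z X) := by
    intro z hz hz0
    have hz' : σ z = -z := by rw [hz, hneg]
    obtain ⟨g, hg, hgX, he, hR⟩ := H.root_stepR (j := j) hw hz' hX
    have h0 : ct σ G j w w (stepR σ G j w z X) = 0 := by rw [H.ct_stepR hw, ← hC, h, smul_zero]
    rcases H.alg_or_comm_of_commute hB hw hR (H.commute_of_ct_zero hB hw hR h0) with hA | hA
    · exact absurd (H.dec_step hB hw hz' hz0 hX hw hA ⟨2, by rw [sq]; exact h⟩) hC0
    · exact hA
  by_cases hfix : ∀ c, σ c = c → c = 0 ∨ c = 1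
  swap
  · push Not at hfix
    obtain ⟨a, ha, ha0, ha1⟩ := hfix
    have hsum := ((hY 1 (map_one σ) one_ne_zero).add (hY a ha ha0)).add
      (hY (1 + a) (by rw [map_add, map_one, ha]) (fun e => ha1 (by rw [eq_neg_of_add_eq_zero_right e, hneg])))
    have e : stepR σ G j w 1 X + stepR σ G j w a X + stepR σ G j w (1 + a) X = L := by
      rw [stepR_eq, stepR_eq, stepR_eq, ← hL]
      calc _ = L + ((2 : F) • L + ((2 : F) * (1 + a)) • (X * L - L * X) -
            ((2 : F) * (1 + a + a * a)) • (X * L * X)) := by module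
        _ = L := by rw [h2, zero_mul, zero_mul, zero_smul, zero_smul, zero_smul, add_zero, sub_zero, add_zero]
    rw [e] at hsum
    have h1 := ct_comm (σ := σ) (G := G) hsum w w
    obtain ⟨r, hr, hwr, hrw⟩ := H.hG.exists_partner hw
    have h3 := ct_comm (σ := σ) (G := G) hsum r r
    rw [hL, ct_lift, E_mulVec, fH_smul_left, hrw, hwr, hr.2, one_mul, one_smul, zero_smul] at h3
    exact one_ne_zero h3
  -- the field of four elements
  have hm4 := H.q2 hfix
  have hX2 := H.root_sq hX
  obtain ⟨x, hx⟩ : ∃ x : Matrix (TI t m) (TI t m) F, x = 1 + X := ⟨_, rfl⟩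
  have dblM : ∀ Z : Matrix (TI t m) (TI t m) F, Z + Z = 0 := fun Z => by rw [← two_smul F, h2, zero_smul]
  have hnegM : ∀ Z : Matrix (TI t m) (TI t m) F, -Z = Z := fun Z => neg_eq_of_add_eq_zero_left (dblM Z)
  have hxx : x * x = 1 := by
    rw [hx, add_mul, one_mul, mul_add, mul_one, hX2, add_zero, add_assoc, dblM, add_zero]
  have h1s : σ (1 : F) = -1 := by rw [map_one, hneg]
  have hstep : ∀ u, stepR σ G j u 1 X = x * lift j (E σ G u u) * x := fun u => by
    rw [stepR, one_smul, sub_eq_add_neg, hnegM, hx]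
  have hΦ : ∀ η, Comm j (x * lift j η * x) := by
    refine H.hG.of_iso_E (by omega) (P := fun η => Comm j (x * lift j η * x)) ?_ (fun a b ha hb => ?_)
      (fun c a ha => ?_) (fun a b ha hb => ?_) ?_
    · intro ξ; rw [TensorWreath43.lift_zero, mul_zero, zero_mul, mul_zero, zero_mul]
    · rw [TensorWreath43.lift_add, mul_add, add_mul]; exact ha.add hb
    · rw [TensorWreath43.lift_smul, Matrix.mul_smul, Matrix.smul_mul]; exact ha.smul c
    · have := ha.mul hb
      simp only [mul_assoc] at this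
      rw [← mul_assoc x x, hxx, one_mul] at this
      rw [TensorWreath43.lift_mul]; simp only [mul_assoc]; exact this
    intro u hu
    obtain ⟨g, hg, hgX, he, hR⟩ := H.root_stepR (j := j) hu h1s hX
    have hc : lift j (E σ G w w) * stepR σ G j u 1 X = stepR σ G j u 1 X * lift j (E σ G w w) := by
      have h0 := hY 1 (map_one σ) one_ne_zero (E σ G u u)
      rw [hstep] at h0 ⊢
      have := congrArg (fun Z => x * Z * x) h0
      simp only [mul_assoc, hxx, mul_one] at this ⊢
      rw [← mul_assoc x x, hxx, one_mul] at this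
      exact this.symm
    rcases H.alg_or_comm_of_commute hB hw hR hc with hA | hA
    · exact absurd (H.dec_step hB hw h1s one_ne_zero hX hu hA ⟨2, by rw [sq]; exact h⟩) hC0
    · rwa [hstep] at hA
  let P : Fin m → Fin m → Matrix (TI t m) (TI t m) F := fun a b => lift j (Matrix.single a b 1)
  let P' : Fin m → Fin m → Matrix (TI t m) (TI t m) F := fun a b => x * P a b * x
  have hPP : ∀ a b c d, P a b * P c d = if b = c then P a d else 0 := fun a b c d =>
    TensorWreath43.lift_single_mul j a b c d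
  have hP'P' : ∀ a b c d, P' a b * P' c d = if b = c then P' a d else 0 := fun a b c d => by
    have e : P' a b * P' c d = x * (P a b * P c d) * x := by
      simp only [P', mul_assoc]; rw [← mul_assoc x x, hxx, one_mul]
    rw [e, hPP]
    split_ifs <;> simp [P']
  have hcom : ∀ a b c d, P a b * P' c d = P' c d * P a b := fun a b c d => hΦ (Matrix.single c d 1) _
  let Rk : Fin m × Fin m → Matrix (TI t m) (TI t m) F := fun p => P p.1 p.1 * P' p.2 p.2
  have hRR : ∀ p q, Rk p * Rk q = if p.1 = q.1 ∧ p.2 = q.2 then Rk p else 0 := by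
    intro p q
    have e : Rk p * Rk q = (P p.1 p.1 * P q.1 q.1) * (P' p.2 p.2 * P' q.2 q.2) := by
      simp only [Rk, mul_assoc]; rw [← mul_assoc (P' p.2 p.2), ← hcom, mul_assoc]
    rw [e, hPP, hP'P']
    by_cases h1 : p.1 = q.1 <;> by_cases h2 : p.2 = q.2 <;> simp [h1, h2, Rk]
  have hle : ∀ p q, (Rk p).rank ≤ (Rk q).rank := by
    rintro ⟨a, b⟩ ⟨c, d⟩
    have e : Rk (a, b) = P a c * P' b d * Rk (c, d) * (P c a * P' d b) := by
      simp only [Rk]
      rw [show P a c * P' b d * (P c c * P' d d) * (P c a * P' d b) =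
          (P a c * P c c * P c a) * (P' b d * P' d d * P' d b) by
        simp only [mul_assoc]
        rw [← mul_assoc (P' b d) (P c c), ← hcom]
        simp only [mul_assoc]
        rw [← mul_assoc (P' d d) (P c a), ← hcom]
        simp only [mul_assoc]
        rw [← mul_assoc (P' b d) (P c a), ← hcom, mul_assoc], hPP, hP'P', if_pos rfl, if_pos rfl, hPP, hP'P',
        if_pos rfl, if_pos rfl]
    rw [e]
    exact (Matrix.rank_mul_le_left _ _).trans (Matrix.rank_mul_le_right _ _)
  let e₀ : Fin m := ⟨0, by omega⟩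
  set ρ := (lift j (E σ G w w) : Matrix (TI t m) (TI t m) F).rank
  set ρ' := (Rk (e₀, e₀)).rank
  have hρ : ρ ≤ m * ρ' := by
    obtain ⟨a, ha⟩ := H.hG.exists_row (Pi.single e₀ (1 : F))
    have hs : (Pi.single e₀ (1 : F) : Fin m → F) ≠ 0 := fun e => one_ne_zero (α := F) (by simpa using congrFun e e₀)
    have ha0 : a ≠ 0 := fun e => hs (by rw [← ha, e, row]; simp [Matrix.mulVec_zero, funext_iff, Matrix.mulVec, dotProduct])
    have e1 : P e₀ e₀ = lift j (E σ G (Pi.single e₀ 1) a) := by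
      simp only [P, E, ha, TensorWreath43.single_eq_vec]
    have e2 : P e₀ e₀ = ∑ b, Rk (e₀, b) := by
      simp only [Rk, P', P, ← Finset.mul_sum, ← Finset.sum_mul, ← TensorWreath43.lift_sum]
      rw [show ∑ b : Fin m, Matrix.single b b (1 : F) = 1 by
        ext p q; simp [Matrix.sum_apply, Matrix.single_apply, Matrix.one_apply, ite_and],
        TensorWreath43.lift_one, mul_one, hxx, mul_one]
    have hsub : ∀ s : Finset (Fin m), (∑ b ∈ s, Rk (e₀, b)).rank ≤ s.card * ρ' := by
      intro s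
      induction s using Finset.induction with
      | empty => simp
      | insert b s hb ih =>
        rw [Finset.sum_insert hb, Finset.card_insert_of_notMem hb]
        have := rank_add_le' (Rk (e₀, b)) (∑ b ∈ s, Rk (e₀, b))
        have := hle (e₀, b) (e₀, e₀)
        rw [Nat.succ_mul]
        omega
    have := hsub Finset.univ
    rw [← e2, Finset.card_univ, Fintype.card_fin, e1] at this
    exact (rank_lift_E_eq H.hG j j hw.1 hw.1 hs ha0).le.trans this
  let f₁ : Fin m := ⟨1, by omega⟩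
  let f₂ : Fin m := ⟨2, by omega⟩
  let f₃ : Fin m := ⟨3, by omega⟩
  let S : Finset (Fin m × Fin m) := insert (f₁, f₂) (insert (f₁, f₃) ((Finset.univ.erase e₀).image fun b => (e₀, b)))
  have hS : ∀ p ∈ S, p.1 < p.2 := by
    intro p hp
    simp only [S, Finset.mem_insert, Finset.mem_image, Finset.mem_erase, Finset.mem_univ, and_true] at hp
    rcases hp with rfl | rfl | ⟨b, hb, rfl⟩
    · simp [f₁, f₂]
    · simp [f₁, f₃]
    · exact lt_of_le_of_ne (Fin.mk_le_mk.2 (Nat.zero_le _)) (Ne.symm hb)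
  have hcard : m + 1 ≤ S.card := by
    simp only [S]
    rw [Finset.card_insert_of_notMem, Finset.card_insert_of_notMem,
      Finset.card_image_of_injective _ (fun a b h => by simpa using h), Finset.card_erase_of_mem (Finset.mem_univ _),
      Finset.card_univ, Fintype.card_fin]
    · omega
    · intro h
      obtain ⟨b, -, hb⟩ := Finset.mem_image.1 h
      simp [e₀, f₁] at hb
    · intro h
      rcases Finset.mem_insert.1 h with h | h
      · simp [f₂, f₃] at h
      · obtain ⟨b, -, hb⟩ := Finset.mem_image.1 h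
        simp [e₀, f₁] at hb
  set Q := ∑ p ∈ S, Rk p with hQ
  have hrankQ : ∀ s : Finset (Fin m × Fin m),
      (∑ p ∈ s, Rk p).rank = s.card * ρ' ∧ (∑ p ∈ s, Rk p) * (∑ p ∈ s, Rk p) = ∑ p ∈ s, Rk p := by
    intro s
    induction s using Finset.induction with
    | empty => simp
    | insert p s hp ih =>
      have o1 : Rk p * ∑ q ∈ s, Rk q = 0 := by
        rw [Finset.mul_sum]; refine Finset.sum_eq_zero fun q hq => ?_
        rw [hRR, if_neg fun (h : p.1 = q.1 ∧ p.2 = q.2) => hp (Prod.ext h.1 h.2 ▸ hq)]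
      have o2 : (∑ q ∈ s, Rk q) * Rk p = 0 := by
        rw [Finset.sum_mul]; refine Finset.sum_eq_zero fun q hq => ?_
        rw [hRR, if_neg fun (h : q.1 = p.1 ∧ q.2 = p.2) => hp (Prod.ext h.1 h.2 ▸ hq)]
      have he : Rk p * Rk p = Rk p := by rw [hRR, if_pos ⟨rfl, rfl⟩]
      rw [Finset.sum_insert hp, Finset.card_insert_of_notMem hp]
      refine ⟨?_, by rw [add_mul, mul_add, mul_add, he, o1, o2, ih.2, add_zero, zero_add]⟩
      rw [rank_add_of_orth he ih.2 o1 o2, ih.1, le_antisymm (hle p (e₀, e₀)) (hle (e₀, e₀) p), Nat.succ_mul,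
        add_comm]
  have hQxQ : Q * x * Q = 0 := by
    rw [hQ, Finset.sum_mul, Finset.sum_mul]
    refine Finset.sum_eq_zero fun p hp => ?_
    rw [Finset.mul_sum]
    refine Finset.sum_eq_zero fun q hq => ?_
    have a1 : ∀ a, P' a a * x = x * P a a := fun a => by
      simp only [P', mul_assoc, hxx, mul_one]
    have a2 : ∀ a, x * P' a a = P a a * x := fun a => by
      simp only [P', ← mul_assoc, hxx, one_mul]
    show P p.1 p.1 * P' p.2 p.2 * x * (P q.1 q.1 * P' q.2 q.2) = 0
    rw [mul_assoc (P p.1 p.1) _ x, a1, ← mul_assoc (P p.1 p.1) x, mul_assoc (P p.1 p.1 * x),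
      ← mul_assoc (P p.2 p.2), hPP]
    by_cases hpq : p.2 = q.1
    · have hne : p.1 ≠ q.2 := ne_of_lt ((hS p hp).trans (hpq ▸ hS q hq))
      rw [if_pos hpq, hcom, ← mul_assoc, mul_assoc (P p.1 p.1) x, a2, ← mul_assoc (P p.1 p.1), hPP, if_neg hne,
        zero_mul, zero_mul]
    · rw [if_neg hpq, zero_mul, mul_zero]
  have hQX : Q * X * Q = -Q := by
    rw [hx, mul_add, mul_one, add_mul, (hrankQ S).2] at hQxQ
    exact eq_neg_of_add_eq_zero_right hQxQ
  have h1 : Q.rank ≤ ρ := by
    refine le_trans ?_ (H.root_rank hX j hw.1 hw.1).le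
    rw [show Q = Q * X * Q by rw [hQX, hnegM]]
    exact (Matrix.rank_mul_le_left _ _).trans (Matrix.rank_mul_le_right _ _)
  rw [hQ, (hrankQ S).1] at h1
  have hpos : 0 < ρ := Nat.pos_of_ne_zero fun h0 => by
    have h5 : Module.finrank F (LinearMap.range (lift j (E σ G w w) : Matrix (TI t m) (TI t m) F).mulVecLin) = 0 := h0
    rw [Submodule.finrank_eq_zero, LinearMap.range_eq_bot] at h5
    refine H.root_ne (H.root_lift j hw) (Matrix.ext_iff_mulVec.mpr fun v => ?_)
    simpa using LinearMap.congr_fun h5 v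
  have h6 : (m + 1) * ρ' ≤ S.card * ρ' := Nat.mul_le_mul_right _ hcard
  have h7 : (m + 1) * ρ' = m * ρ' + ρ' := Nat.succ_mul m ρ'
  have : ρ' = 0 := by omega
  rw [this, mul_zero] at hρ
  omega

/-- The contraction is not nilpotent. -/
theorem UOver.ct_eq_zero_of_pow {j : Fin t} {w : Fin m → F} (hw : Iso σ G w) (n : ℕ) :
    ∀ {X : Matrix (TI t m) (TI t m) F}, Root σ G M X → ct σ G j w w X ^ n = 0 → ct σ G j w w X = 0 := by
  induction n using Nat.strong_induction_on with
  | _ n ih =>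
    intro X hX h
    by_cases h2 : n ≤ 2
    · refine H.ct_eq_zero_of_sq hB hw hX ?_
      rw [← sq]
      exact pow_eq_zero_of_le h2 h
    obtain ⟨z, hz0, hz⟩ := H.hG.exists_skew
    obtain ⟨g, hg, hgX, he, hR⟩ := H.root_stepR (j := j) hw hz hX
    have hY := ih ((n + 1) / 2) (by omega) hR (by
      rw [H.ct_stepR hw, smul_pow, ← sq (ct σ G j w w X), ← pow_mul, pow_eq_zero_of_le (by omega) h, smul_zero])
    rw [H.ct_stepR hw, smul_eq_zero] at hY
    exact H.ct_eq_zero_of_sq hB hw hX (hY.resolve_left (neg_ne_zero.2 (mul_ne_zero hz0 hz0)))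

/-- A singular contraction leads to one satisfying the conditions. -/
theorem UOver.exists_cond {j : Fin t} {w r : Fin m → F} (hw : Iso σ G w) (hr : Iso σ G r) (hwr : fH σ G w r = 1)
    {X : Matrix (TI t m) (TI t m) F} (hX : Root σ G M X)
    (h0 : ct σ G j w w X ≠ 0) (hu : ¬ IsUnit (ct σ G j w w X)) :
    ∃ Z, Root σ G M Z ∧ Cond σ G j w r Z ∧ ct σ G j w w Z ≠ 0 ∧ ¬ IsUnit (ct σ G j w w Z) := by
  set C := ct σ G j w w X with hC
  obtain ⟨z, hz0, hz⟩ := H.hG.exists_skew
  have hzz : -(z * z) ≠ 0 := neg_ne_zero.2 (mul_ne_zero hz0 hz0)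
  have iter : ∀ n, ∃ Y, Root σ G M Y ∧ ∃ c : F, c ≠ 0 ∧ ct σ G j w w Y = c • C ^ (2 ^ n) := by
    intro n
    induction n with
    | zero => exact ⟨X, hX, 1, one_ne_zero, by rw [one_smul, pow_zero, pow_one]⟩
    | succ n ih =>
      obtain ⟨Y, hY, c, hc, hcY⟩ := ih
      obtain ⟨g, hg, hgX, he, hR⟩ := H.root_stepR (j := j) hw hz hY
      refine ⟨_, hR, -(z * z) * (c * c), mul_ne_zero hzz (mul_ne_zero hc hc), ?_⟩
      rw [H.ct_stepR hw, hcY, smul_mul_smul_comm, ← pow_add, smul_smul, pow_succ, mul_two]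
  let K : ℕ → Submodule F (TI t m → F) := fun n => LinearMap.ker (C ^ (2 ^ n)).mulVecLin
  have hmono : ∀ n, K n ≤ K (n + 1) := fun n => by
    show LinearMap.ker _ ≤ LinearMap.ker _
    rw [pow_succ, mul_two, pow_add, Matrix.mulVecLin_mul]
    exact LinearMap.ker_le_ker_comp _ _
  obtain ⟨n, hn⟩ : ∃ n, K (n + 1) = K n := by
    by_contra! h
    have grow : ∀ n, n ≤ Module.finrank F (K n) := by
      intro n
      induction n with
      | zero => exact Nat.zero_le _
      | succ n ih =>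
        have := Submodule.finrank_lt_finrank_of_lt (lt_of_le_of_ne (hmono n) (Ne.symm (h n)))
        omega
    have h1 := grow (Module.finrank F (TI t m → F) + 1)
    have := Submodule.finrank_le (K (Module.finrank F (TI t m → F) + 1))
    omega
  have hst : ∀ v, C ^ (2 ^ n) *ᵥ (C ^ (2 ^ n) *ᵥ v) = 0 → C ^ (2 ^ n) *ᵥ v = 0 := by
    intro v hv
    have : v ∈ K (n + 1) := by
      show _ ∈ LinearMap.ker _
      rw [LinearMap.mem_ker, Matrix.mulVecLin_apply, pow_succ, mul_two, pow_add, ← Matrix.mulVec_mulVec]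
      exact hv
    rw [hn] at this
    exact LinearMap.mem_ker.1 this
  obtain ⟨X₁, hX₁, c, hc, hcX⟩ := iter n
  set D := C ^ (2 ^ n) with hD
  obtain ⟨g₂, hg₂, hg₂X, he₂, hR₂⟩ := H.root_stepR (j := j) hw hz hX₁
  set Y := stepR σ G j w z X₁ with hY
  obtain ⟨g₃, hg₃, hg₃X, he₃, hR₃⟩ := H.root_stepR (j := j) hw hz hR₂
  set Z := stepR σ G j w z Y with hZ
  set L := lift j (E σ G w w) with hL
  have hCY : ct σ G j w w Y = (-(z * z) * (c * c)) • (D * D) := by
    rw [hY, H.ct_stepR hw, hcX, smul_mul_smul_comm, smul_smul]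
  have hd : -(z * z) * (c * c) ≠ 0 := mul_ne_zero hzz (mul_ne_zero hc hc)
  have killY : ∀ e, ct σ G j w w Y *ᵥ (L *ᵥ e) = 0 → Y *ᵥ (L *ᵥ e) = 0 := by
    intro e he
    rw [hCY, Matrix.smul_mulVec, smul_eq_zero, ← Matrix.mulVec_mulVec] at he
    refine H.stepR_kill hw z ?_
    rw [hcX, Matrix.smul_mulVec, hst _ (he.resolve_left hd), smul_zero]
  have hCZ : ct σ G j w w Z = -(z * z) • (ct σ G j w w Y * ct σ G j w w Y) := H.ct_stepR hw z Y
  have hp : ct σ G j w w Z = (-(z * z) * (-(z * z) * (c * c) * (-(z * z) * (c * c)))) • (D * D * (D * D)) := by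
    rw [hCZ, hCY, smul_mul_smul_comm, smul_smul]
  have hdd : -(z * z) * (-(z * z) * (c * c) * (-(z * z) * (c * c))) ≠ 0 := mul_ne_zero hzz (mul_ne_zero hd hd)
  have hLL := H.lift_sq (j := j) hw
  refine ⟨Z, hR₃, ⟨?_, ?_⟩, ?_, ?_⟩
  · intro v hv
    set e := (1 - z • Y) *ᵥ v with he
    have hZv : Z *ᵥ v = L *ᵥ e + z • (Y *ᵥ (L *ᵥ e)) := by
      rw [hZ, stepR, ← hL, ← Matrix.mulVec_mulVec, ← he, ← Matrix.mulVec_mulVec, Matrix.add_mulVec,
        Matrix.one_mulVec, Matrix.smul_mulVec]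
    rw [hZv, Matrix.mulVec_add, Matrix.mulVec_mulVec, show L * L = 0 from hLL, Matrix.zero_mulVec, zero_add,
      Matrix.mulVec_smul, smul_eq_zero] at hv
    have hYe : Y *ᵥ (L *ᵥ e) = 0 := by
      refine killY e ?_
      have := hv.resolve_left hz0
      rw [Matrix.mulVec_mulVec, Matrix.mulVec_mulVec, sandwich, ← hL, comm_ct j w w Y,
        ← Matrix.mulVec_mulVec] at this
      exact this
    rw [hZv, hYe, smul_zero, add_zero, Matrix.mulVec_mulVec, hL, ← TensorWreath43.lift_mul, E_mul, hwr, one_smul]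
  · intro e he
    refine H.stepR_kill hw z ?_
    rw [hp, Matrix.smul_mulVec, smul_eq_zero, ← Matrix.mulVec_mulVec, ← Matrix.mulVec_mulVec] at he
    have h3 := hst _ (he.resolve_left hdd)
    rw [← Matrix.mulVec_mulVec] at h3
    have h4 := hst _ (hst _ h3)
    rw [hCY, Matrix.smul_mulVec, ← Matrix.mulVec_mulVec, h4, Matrix.mulVec_zero, smul_zero]
  · intro e
    rw [hp, smul_eq_zero] at e
    have e' := e.resolve_left hdd
    refine h0 (H.ct_eq_zero_of_pow hB hw (2 ^ n + 2 ^ n + (2 ^ n + 2 ^ n)) hX ?_)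
    rw [← hC, pow_add, pow_add, ← hD, e']
  · intro e
    rw [hp, show D * D * (D * D) = C ^ (2 ^ n + 2 ^ n + (2 ^ n + 2 ^ n)) by rw [pow_add, pow_add],
      Matrix.isUnit_iff_isUnit_det, Matrix.det_smul, IsUnit.mul_iff, Matrix.det_pow] at e
    refine hu ((Matrix.isUnit_iff_isUnit_det _).2 ((isUnit_pow_iff ?_).1 e.2))
    have := Nat.two_pow_pos n
    omega

end Cfsg.Agent.TensorWreathU84
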