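import Cfsg.Agent.Lib.TensorWreathU84Dec

/-!
A root element commuting with a root at a position is local at that position, and the contractions of root
elements are not nilpotent.
-/

set_option autoImplicit false
set_option linter.unusedSectionVars false

namespace Cfsg.Agent.TensorWreathU84

open scoped Matrix
open Cfsg.Agent.TensorWreath43 (TI lift liftHom Comm cn MemU)

variable {F : Type*} [Field F] [Fintype F] {σ : F →+* F} {t m : ℕ}
variable {G : Matrix (Fin m) (Fin m) F} {M : Subgroup (GL (TI t m) F)}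

section Rank

variable [NeZero m]

theorem range_kill {κ : Type*} [Fintype κ] [DecidableEq κ] {X Y K : Matrix κ κ F}
    (hY : ∃ W, Y = X * W) (hrank : X.rank ≤ Y.rank) (hK : K * Y = 0) : K * X = 0 := by
  obtain ⟨W, rfl⟩ := hY
  have hle : LinearMap.range (X * W).mulVecLin ≤ LinearMap.range X.mulVecLin := by
    rw [Matrix.mulVecLin_mul]; exact LinearMap.range_comp_le_range _ _
  have heq := Submodule.eq_of_le_of_finrank_le hle hrank
  refine Matrix.ext_iff_mulVec.mpr fun v => ?_
  have hv : X *ᵥ v ∈ LinearMap.range (X * W).mulVecLin := heq ▸ LinearMap.mem_range_self X.mulVecLin v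
  obtain ⟨e, he⟩ := hv
  rw [← Matrix.mulVec_mulVec, ← he, Matrix.mulVecLin_apply, Matrix.mulVec_mulVec, hK, Matrix.zero_mulVec,
    Matrix.zero_mulVec]

theorem rank_mul_unit {κ : Type*} [Fintype κ] [DecidableEq κ] (A : Matrix κ κ F) {α : Matrix κ κ F}
    (hα : IsUnit α) : A.rank ≤ (A * α).rank := by
  obtain ⟨a, rfl⟩ := hα
  conv_lhs => rw [← Units.mul_inv_cancel_right A a]
  exact Matrix.rank_mul_le_left _ _

/-- Two independent tensor factors give too much rank. -/
theorem seg (hG : HG σ G) (hm : 3 ≤ m) {j : Fin t} {β : Matrix (Fin m) (Fin m) F}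
    {α₁ α₂ : Matrix (TI t m) (TI t m) F} (h₁ : Comm j α₁) (h₂ : Comm j α₂) (hu : IsUnit α₁)
    (hind : ∀ c : F, α₂ ≠ c • α₁) (hβ : ¬ ∃ c : F, β = c • 1) {w : Fin m → F} (hw : w ≠ 0)
    (hrank : (lift j β * α₁ + α₂).rank ≤ (lift j (E σ G w w) : Matrix (TI t m) (TI t m) F).rank) : False := by
  obtain ⟨y, hy⟩ : ∃ y, ∀ c : F, β *ᵥ y ≠ c • y := by
    by_contra! h
    exact hβ (scalar_of_eigen h)
  set X := lift j β * α₁ + α₂ with hX
  obtain ⟨a, hay, haβ⟩ := hG.exists_sep hy
  obtain ⟨c, hc0, hc, hcβ⟩ := hG.exists_perp_two hm y (β *ᵥ y)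
  have ha0 : a ≠ 0 := fun e => one_ne_zero (α := F) (by
    rw [← haβ, e, ← zero_smul F (0 : Fin m → F), fH_smul_right, map_zero, zero_mul])
  have hct : ∀ a b, ct σ G j a b X = fH σ G (β *ᵥ b) a • α₁ + fH σ G b a • α₂ := fun a b => by
    rw [hX, ct_add, ct_lift_mul h₁, ct_comm h₂]
  set Y := X * lift j (E σ G y a) with hY
  have h1 : lift j (E σ G a a) * Y = lift j (E σ G a a) * α₁ := by
    rw [hY, ← mul_assoc, ← lift_E_mul_ct, hct, haβ, hay, one_smul, zero_smul, add_zero]
  have h2 : lift j (E σ G c c) * Y = 0 := by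
    rw [hY, ← mul_assoc, sandwich, hct, hcβ, hc, zero_smul, zero_smul, add_zero, mul_zero]
  have hrY : X.rank ≤ Y.rank := by
    refine hrank.trans ((rank_lift_E_eq hG j j hw hw ha0 ha0).le.trans ((rank_mul_unit _ hu).trans ?_))
    rw [← h1]
    exact Matrix.rank_mul_le_right _ _
  have h3 : lift j (E σ G c c) * X = 0 := range_kill ⟨_, hY⟩ hrY h2
  obtain ⟨b, hb⟩ := hG.exists_right hc0
  have hbc : ct σ G j c (σ (fH σ G b c) • b) X = 0 := by
    refine TensorWreath43.eq_zero_of_lift_mul (hG.E_ne_zero hc0 hc0) (comm_ct _ _ _ _) ?_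
    rw [lift_E_mul_ct, h3, zero_mul]
  rw [hct, fH_smul_left, hG.sigma_fH, hb, one_mul, ← hG.sigma_fH c b, hb, map_one, one_smul, one_smul] at hbc
  exact hind _ (eq_neg_of_add_eq_zero_right hbc |>.trans (neg_smul _ _).symm)

end Rank

variable (H : UOver σ G M) (hB : ¬ Big σ G M)
include H

theorem UOver.root_smul_rank {X : Matrix (TI t m) (TI t m) F} (hX : Root σ G M X) (z : F) (j : Fin t)
    {w : Fin m → F} (hw : w ≠ 0) : (z • X).rank ≤ (lift j (E σ G w w) : Matrix (TI t m) (TI t m) F).rank := by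
  rw [← H.root_rank hX j hw hw, show z • X = (z • (1 : Matrix (TI t m) (TI t m) F)) * X by
    rw [Matrix.smul_mul, one_mul]]
  exact Matrix.rank_mul_le_right _ _

/-- A decomposable root element is local. -/
theorem UOver.alg_or_comm_of_dec {j : Fin t} {X : Matrix (TI t m) (TI t m) F} (hX : Root σ G M X) {z : F}
    (hz0 : z ≠ 0) {g : GL (TI t m) F} (hgX : (g : Matrix (TI t m) (TI t m) F) = 1 + z • X) (hd : Dec j g) :
    AlgU j X ∨ Comm j X := by
  haveI := H.neZero
  obtain ⟨β, α, hα, rfl⟩ := hd.decomp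
  rw [Units.val_mul, show ((Units.map (liftHom (F := F) j).toMonoidHom β : GL (TI t m) F) :
    Matrix (TI t m) (TI t m) F) = lift j (β : Matrix (Fin m) (Fin m) F) from rfl] at hgX
  set bv := (β : Matrix (Fin m) (Fin m) F)
  set av := (α : Matrix (TI t m) (TI t m) F) with hav
  have e : X = z⁻¹ • (lift j bv * av - 1) := by
    rw [hgX, add_sub_cancel_left, smul_smul, inv_mul_cancel₀ hz0, one_smul]
  by_cases hb : ∃ c : F, bv = c • 1
  · obtain ⟨c, hc⟩ := hb
    right
    rw [e, hc, TensorWreath43.lift_smul, TensorWreath43.lift_one, Matrix.smul_mul, one_mul]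
    exact ((hα.smul c).sub (TensorWreath43.comm_one j)).smul _
  by_cases ha : ∃ c : F, av = c • 1
  · obtain ⟨c, hc⟩ := ha
    left
    refine ⟨z⁻¹ • (c • bv - 1), ?_⟩
    rw [e, hc, Matrix.mul_smul, mul_one, TensorWreath43.lift_smul,
      show lift j (c • bv - 1) = liftHom (F := F) j (c • bv - 1) from rfl, map_sub, map_one,
      TensorWreath43.liftHom_apply, TensorWreath43.lift_smul]
  exfalso
  obtain ⟨w, hw⟩ := H.hG.exists_iso (by have := H.hm; omega)
  refine seg H.hG H.hm hα (comm_scalar j (-1)) α.isUnit (fun c hc => ?_) hb hw.1 ?_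
  · have hc0 : c ≠ 0 := fun e0 => by rw [e0, zero_smul, smul_eq_zero] at hc; simpa using hc
    exact ha ⟨-c⁻¹, by rw [neg_smul, ← smul_neg, ← neg_one_smul F (1 : Matrix (TI t m) (TI t m) F), hc, smul_smul,
      inv_mul_cancel₀ hc0, one_smul, hav]⟩
  · rw [neg_one_smul, ← sub_eq_add_neg, hgX, add_sub_cancel_left]
    exact H.root_smul_rank hX z j hw.1

/-- A root element which is a lift is the lift of a transvection operator. -/
theorem UOver.alg_root {j : Fin t} {η : Matrix (Fin m) (Fin m) F} (hX : Root σ G M (lift j η)) :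
    ∃ (κ : F) (u : Fin m → F), κ ≠ 0 ∧ σ κ = κ ∧ Iso σ G u ∧ η = κ • E σ G u u := by
  haveI := H.neZero
  have hη0 : η ≠ 0 := fun e => H.root_ne hX (by rw [e, TensorWreath43.lift_zero])
  obtain ⟨y, hy⟩ : ∃ y, η *ᵥ y ≠ 0 := by
    by_contra! h
    exact hη0 (Matrix.ext_iff_mulVec.mpr fun v => by rw [h, Matrix.zero_mulVec])
  set v := η *ᵥ y with hv
  obtain ⟨a, ha⟩ := H.hG.exists_right hy
  have ha0 : a ≠ 0 := fun e => one_ne_zero (α := F) (by
    rw [← ha, e, ← zero_smul F (0 : Fin m → F), fH_smul_right, map_zero, zero_mul])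
  have hline : ∀ c, fH σ G v c = 0 → ∀ b, fH σ G (η *ᵥ b) c = 0 := by
    intro c hc b
    by_cases hc0 : c = 0
    · rw [hc0, ← zero_smul F (0 : Fin m → F), fH_smul_right, map_zero, zero_mul]
    set Y := lift j η * lift j (E σ G y a) with hY
    have h1 : lift j (E σ G a a) * Y = lift j (E σ G a a) := by
      rw [hY, ← TensorWreath43.lift_mul, ← TensorWreath43.lift_mul, mul_E, ← hv, E_mul, ha, one_smul]
    have h2 : lift j (E σ G c c) * Y = 0 := by
      rw [hY, ← TensorWreath43.lift_mul, ← TensorWreath43.lift_mul, mul_E, ← hv, E_mul, hc, zero_smul,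
        TensorWreath43.lift_zero]
    have hr : (lift j η : Matrix (TI t m) (TI t m) F).rank ≤ Y.rank := by
      rw [H.root_rank hX j ha0 ha0]
      conv_lhs => rw [← h1]
      exact Matrix.rank_mul_le_right _ _
    have h3 := range_kill ⟨_, hY⟩ hr h2
    rw [← TensorWreath43.lift_mul, ← TensorWreath43.lift_zero (F := F) (m := m) j] at h3
    have h4 := congrArg (· *ᵥ b) (TensorWreath43.lift_injective j h3)
    simp only [← Matrix.mulVec_mulVec, E_mulVec, Matrix.zero_mulVec] at h4
    exact (smul_eq_zero.1 h4).resolve_right hc0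
  have hrange : ∀ b, η *ᵥ b = fH σ G (η *ᵥ b) a • v := by
    intro b
    obtain ⟨s, hs⟩ : ∃ s : F, η *ᵥ b = s • v := by
      by_contra! h
      obtain ⟨c, hc, hc1⟩ := H.hG.exists_sep h
      rw [hline c hc b] at hc1
      exact zero_ne_one hc1
    rw [hs, fH_smul_left, ha, mul_one]
  have hadj : adj σ G η = η := by
    have := H.root_adj hX
    rw [adj_lift H.hG] at this
    exact TensorWreath43.lift_injective j this
  set κ := σ (fH σ G (η *ᵥ a) a) with hκ
  have hη : η = κ • E σ G v v := by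
    refine Matrix.ext_iff_mulVec.mpr fun b => ?_
    rw [hrange b, Matrix.smul_mulVec, E_mulVec, smul_smul, ← H.hG.fH_adj, hadj]
    conv_lhs => rw [hrange a, fH_smul_right, ← hκ]
  have hκ0 : κ ≠ 0 := fun e => hη0 (by rw [hη, e, zero_smul])
  have hEne := H.hG.E_ne_zero hy hy
  have hκfix : σ κ = κ := by
    have h0 : (σ κ - κ) • E σ G v v = 0 := by
      rw [sub_smul, ← hη, sub_eq_zero]
      conv_rhs => rw [← hadj, hη, adj_smul, H.hG.adj_E]
    exact sub_eq_zero.1 ((smul_eq_zero.1 h0).resolve_right hEne)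
  refine ⟨κ, v, hκ0, hκfix, ⟨hy, ?_⟩, hη⟩
  have h2 : η * η = 0 := TensorWreath43.lift_injective j (by
    rw [TensorWreath43.lift_mul, H.root_sq hX, TensorWreath43.lift_zero])
  rw [hη, Matrix.smul_mul, Matrix.mul_smul, E_mul, smul_smul, smul_smul] at h2
  exact (mul_eq_zero.1 ((smul_eq_zero.1 h2).resolve_right hEne)).resolve_left (mul_ne_zero hκ0 hκ0)

include hB

/-- An element moving a root to a root at the position is decomposable. -/
theorem UOver.dec_of_conj {j : Fin t} {w u : Fin m → F} (hw : Iso σ G w) (hu : Iso σ G u) {g : GL (TI t m) F}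
    (hg : g ∈ M) {κ : F}
    (h : (g : Matrix (TI t m) (TI t m) F) * lift j (E σ G w w) * ((g⁻¹ : GL (TI t m) F) : Matrix (TI t m) (TI t m) F) =
      κ • lift j (E σ G u u)) : Dec j g := by
  haveI := H.neZero
  obtain ⟨r, hr, hwr, hrw⟩ := H.hG.exists_partner hw
  obtain ⟨η, h1, h2, h3⟩ := H.hG.exists_move H.hm hu hw
  set k := Units.map (liftHom (F := F) j).toMonoidHom η with hk
  have hkM : k ∈ M := H.root j η h1 h2
  have e : ((k * g : GL (TI t m) F) : Matrix (TI t m) (TI t m) F) * lift j (E σ G w w) *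
      (((k * g)⁻¹ : GL (TI t m) F) : Matrix (TI t m) (TI t m) F) = κ • lift j (E σ G w w) := by
    rw [mul_inv_rev, Units.val_mul, Units.val_mul]
    calc _ = (k : Matrix (TI t m) (TI t m) F) * ((g : Matrix (TI t m) (TI t m) F) * lift j (E σ G w w) *
          ((g⁻¹ : GL (TI t m) F) : Matrix (TI t m) (TI t m) F)) *
          ((k⁻¹ : GL (TI t m) F) : Matrix (TI t m) (TI t m) F) := by simp only [mul_assoc]
      _ = _ := by
        rw [h, H.inv_val hkM, show (k : Matrix (TI t m) (TI t m) F) = lift j (η : Matrix (Fin m) (Fin m) F) from rfl,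
          adj_lift H.hG, Matrix.mul_smul, Matrix.smul_mul, ← TensorWreath43.lift_mul, ← TensorWreath43.lift_mul,
          H.hG.conj_E, h3]
  set L := lift j (E σ G w w) with hL
  have eL : ((k * g : GL (TI t m) F) : Matrix (TI t m) (TI t m) F) * L =
      κ • (L * ((k * g : GL (TI t m) F) : Matrix (TI t m) (TI t m) F)) := by
    rw [← Matrix.smul_mul, ← e, mul_assoc, Units.inv_mul, mul_one]
  have eQ : lift j (E σ G w r) = L * lift j (E σ G r r) := by
    rw [hL, ← TensorWreath43.lift_mul, E_mul, hrw, one_smul]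
  have eQL : lift j (E σ G w r) * L = L := by rw [hL, ← TensorWreath43.lift_mul, E_mul, hwr, one_smul]
  have hR : lift j (E σ G w r) * ((k * g : GL (TI t m) F) : Matrix (TI t m) (TI t m) F) * lift j (E σ G w r) =
      ((k * g : GL (TI t m) F) : Matrix (TI t m) (TI t m) F) * lift j (E σ G w r) := by
    conv_lhs => arg 2; rw [eQ]
    conv_rhs => arg 2; rw [eQ]
    rw [mul_assoc (lift j (E σ G w r)), ← mul_assoc _ L, eL, Matrix.smul_mul, Matrix.mul_smul, ← mul_assoc,
      ← mul_assoc, eQL]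
  have hd := H.dec_of_range hB hw hr hwr hrw (M.mul_mem hkM hg) hR
  have := Dec.mul (dec_lift j η⁻¹) hd
  rwa [map_inv, ← hk, inv_mul_cancel_left] at this

/-- A root element commuting with a root at the position is local. -/
theorem UOver.alg_or_comm_of_commute {j : Fin t} {w : Fin m → F} (hw : Iso σ G w)
    {X : Matrix (TI t m) (TI t m) F} (hX : Root σ G M X)
    (hc : lift j (E σ G w w) * X = X * lift j (E σ G w w)) : AlgU j X ∨ Comm j X := by
  obtain ⟨z, hz0, hz⟩ := H.hG.exists_skew
  obtain ⟨g, hg, hgX⟩ := H.root_mem_smul hX hz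
  refine H.alg_or_comm_of_dec hX hz0 hgX (H.dec_of_conj hB hw hw hg (κ := 1) ?_)
  rw [one_smul, Units.mul_inv_eq_iff_eq_mul, hgX, add_mul, mul_add, one_mul, mul_one, Matrix.smul_mul,
    Matrix.mul_smul, hc]

/-- A root element with vanishing contraction commutes with the root. -/
theorem UOver.commute_of_ct_zero {j : Fin t} {w : Fin m → F} (hw : Iso σ G w)
    {X : Matrix (TI t m) (TI t m) F} (hX : Root σ G M X) (h0 : ct σ G j w w X = 0) :
    lift j (E σ G w w) * X = X * lift j (E σ G w w) := by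
  haveI := H.neZero
  obtain ⟨r, hr, hwr, hrw⟩ := H.hG.exists_partner hw
  set L := lift j (E σ G w w) with hL
  have hLL : L * L = 0 := by rw [hL, ← TensorWreath43.lift_mul, hw.E_sq, TensorWreath43.lift_zero]
  have hXX := H.root_sq hX
  have hLXL : L * X * L = 0 := by rw [hL, sandwich, h0, mul_zero]
  obtain ⟨z, hz0, hz⟩ := H.hG.exists_skew
  obtain ⟨g, hg, hgX⟩ := H.root_mem_smul hX hz
  have hginv : ((g⁻¹ : GL (TI t m) F) : Matrix (TI t m) (TI t m) F) = 1 - z • X :=
    Units.inv_eq_of_mul_eq_one_right (by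
      rw [hgX, add_mul, one_mul, mul_sub, mul_one, Matrix.smul_mul, Matrix.mul_smul, hXX, smul_zero, smul_zero]; abel)
  have hY := H.root_conj (H.root_lift j hw) hg
  rw [hgX, hginv, ← hL] at hY
  set A := X * L - L * X with hA
  set Bv := X * L * X with hBv
  set Y := (1 + z • X) * L * (1 - z • X) with hYdef
  have eY : Y = L + z • A - (z * z) • Bv := by
    rw [hYdef, hA, hBv]
    simp only [add_mul, mul_sub, one_mul, mul_one, smul_mul_assoc, mul_smul_comm, smul_sub, smul_add, smul_smul]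
    abel
  have hAL : A * L = 0 := by rw [hA, sub_mul, mul_assoc X L L, hLL, mul_zero, hLXL, sub_zero]
  have hLA : L * A = 0 := by rw [hA, mul_sub, ← mul_assoc, ← mul_assoc, hLL, zero_mul, hLXL, sub_zero]
  have hBL : Bv * L = 0 := by rw [hBv, mul_assoc (X * L), mul_assoc X L, ← mul_assoc L X L, hLXL, mul_zero]
  have hLB : L * Bv = 0 := by rw [hBv, ← mul_assoc, ← mul_assoc, hLXL, zero_mul]
  set n := z • (Y - L) with hn
  have hnmem : MemU M n := by
    have := (H.root_mem_smul hY hz).add (H.root_mem_smul (H.root_lift j hw) (z := -z) (by rw [map_neg, hz]))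
      (by rw [← hL, Matrix.smul_mul, Matrix.mul_smul, eY, sub_mul, add_mul, hLL, Matrix.smul_mul, Matrix.smul_mul,
        hAL, hBL]; simp)
    rw [← hL] at this
    convert this using 1
    rw [hn, smul_sub, neg_smul, ← sub_eq_add_neg]
  have eYL : Y - L = z • A - (z * z) • Bv := by rw [eY]; abel
  have hnL : n * L = 0 := by
    rw [hn, eYL, Matrix.smul_mul, sub_mul, Matrix.smul_mul, Matrix.smul_mul, hAL, hBL]; simp
  have hLn : L * n = 0 := by
    rw [hn, eYL, Matrix.mul_smul, mul_sub, Matrix.mul_smul, Matrix.mul_smul, hLA, hLB]; simp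
  obtain ⟨u, hu, huN⟩ := hnmem
  have eQ : lift j (E σ G w r) = L * lift j (E σ G r r) := by
    rw [hL, ← TensorWreath43.lift_mul, E_mul, hrw, one_smul]
  have huQ : (u : Matrix (TI t m) (TI t m) F) * lift j (E σ G w r) = lift j (E σ G w r) := by
    rw [huN, add_mul, one_mul, eQ, ← mul_assoc n, hnL, zero_mul, add_zero]
  have hd := H.dec_of_range hB hw hr hwr hrw hu (by
    rw [mul_assoc, huQ, ← TensorWreath43.lift_mul, E_mul, hwr, one_smul])
  obtain ⟨β, α, hα, rfl⟩ := hd.decomp
  rw [Units.val_mul, show ((Units.map (liftHom (F := F) j).toMonoidHom β : GL (TI t m) F) :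
    Matrix (TI t m) (TI t m) F) = lift j (β : Matrix (Fin m) (Fin m) F) from rfl] at huN huQ
  obtain ⟨η, hη⟩ : ∃ η, A - z • Bv = lift j η := by
    have e1 := congrArg (ct σ G j r w) huQ
    rw [mul_assoc, ← hα, ← mul_assoc, ← TensorWreath43.lift_mul, mul_E, ct_lift_mul hα, ct_lift, E_mulVec, E_mulVec,
      fH_smul_left, fH_smul_left, hwr, one_mul, one_mul, one_smul] at e1
    set s := fH σ G ((β : Matrix (Fin m) (Fin m) F) *ᵥ w) r
    have hs : s ≠ 0 := fun e => one_ne_zero (α := Matrix (TI t m) (TI t m) F) (by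
      rw [← e1, e, zero_smul])
    have hαs : (α : Matrix (TI t m) (TI t m) F) = s⁻¹ • 1 := by rw [← e1, smul_smul, inv_mul_cancel₀ hs, one_smul]
    rw [hαs, Matrix.mul_smul, mul_one] at huN
    refine ⟨(z * z)⁻¹ • (s⁻¹ • (β : Matrix (Fin m) (Fin m) F) - 1), ?_⟩
    rw [TensorWreath43.lift_smul, show lift j (s⁻¹ • (β : Matrix (Fin m) (Fin m) F) - 1) =
      liftHom (F := F) j (s⁻¹ • (β : Matrix (Fin m) (Fin m) F) - 1) from rfl, map_sub, map_one,
      TensorWreath43.liftHom_apply, TensorWreath43.lift_smul, huN, add_sub_cancel_left, hn, eYL, smul_sub, smul_sub,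
      smul_smul, smul_smul, smul_smul, smul_smul, show (z * z)⁻¹ * z * z = 1 by field_simp, one_smul,
      show (z * z)⁻¹ * z * (z * z) = z by field_simp]
  by_cases hcomm : L * X = X * L
  · exact hcomm
  have hz2 : σ z = -z := hz
  have hadjX := H.root_adj hX
  have hadjL : adj σ (GT t G) L = L := by rw [hL, adj_lift H.hG, H.hG.adj_E]
  have hskew : adj σ G η = -η := by
    refine TensorWreath43.lift_injective j ?_
    rw [← adj_lift H.hG, ← hη, ← neg_one_smul F η, TensorWreath43.lift_smul, ← hη, hA, hBv, adj_sub, adj_sub, adj_smul,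
      (H.hG.gt t).adj_mul, (H.hG.gt t).adj_mul, (H.hG.gt t).adj_mul, (H.hG.gt t).adj_mul, hadjX, hadjL, hz2,
      mul_assoc X L X]
    module
  have hηw : η *ᵥ w = 0 := by
    have h1 : lift j (η * E σ G w w) = (0 : Matrix (TI t m) (TI t m) F) := by
      rw [TensorWreath43.lift_mul, ← hη, ← hL, sub_mul, hAL, Matrix.smul_mul, hBL, smul_zero, sub_zero]
    rw [← TensorWreath43.lift_zero (F := F) (m := m) j] at h1
    have h2 := congrArg (· *ᵥ r) (TensorWreath43.lift_injective j h1)
    simpa [← Matrix.mulVec_mulVec, E_mulVec, hrw] using h2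
  have hf : ∀ b, fH σ G b w = 0 →
      (∀ a, fH σ G a w = 0 → fH σ G (η *ᵥ b) a • (1 : Matrix (TI t m) (TI t m) F) =
        (-z) • (ct σ G j a w X * ct σ G j w b X)) ∧
      fH σ G (η *ᵥ b) r • (1 : Matrix (TI t m) (TI t m) F) =
        (-1 - z • ct σ G j r w X) * ct σ G j w b X := by
    intro b hb
    have e : ∀ a, fH σ G (η *ᵥ b) a • (1 : Matrix (TI t m) (TI t m) F) =
        fH σ G b w • ct σ G j a w X - fH σ G w a • ct σ G j w b X - z • (ct σ G j a w X * ct σ G j w b X) := by
      intro a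
      have := congrArg (ct σ G j a b) hη
      rw [ct_lift, hA, hBv, ct_sub, ct_sub, ct_smul, hL, ct_prod H.hG, ct_mul_lift, E_mulVec, ct_smul_right,
        ct_lift_left H.hG, H.hG.adj_E, E_mulVec, ct_smul_left, H.hG.sigma_fH] at this
      exact this.symm
    refine ⟨fun a ha => ?_, ?_⟩
    · rw [e a, hb, H.hG.symm_zero ha, zero_smul, zero_smul, sub_zero, zero_sub, neg_smul]
    · rw [e r, hb, hwr, zero_smul, one_smul, zero_sub, sub_mul, neg_mul, one_mul, Matrix.smul_mul]
  have hkill : ∀ b, fH σ G b w = 0 → η *ᵥ b = 0 := by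
    intro b hb
    obtain ⟨h1, h2⟩ := hf b hb
    have hno : ¬ IsUnit (ct σ G j w b X) := by
      intro hu'
      refine hcomm ?_
      have h3 : X.rank ≤ (L * X).rank := by
        rw [H.root_rank hX j hw.1 hw.1]
        refine (rank_mul_unit _ hu').trans ?_
        rw [lift_E_mul_ct, ← hL]
        exact Matrix.rank_mul_le_left _ _
      obtain ⟨W, hW⟩ := factor_of_ker (A := X) (B := L * X) fun v hv => by
        have hle : LinearMap.ker X.mulVecLin ≤ LinearMap.ker (L * X).mulVecLin := by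
          rw [Matrix.mulVecLin_mul]; exact LinearMap.ker_le_ker_comp _ _
        have h4 := LinearMap.finrank_range_add_finrank_ker X.mulVecLin
        have h5 := LinearMap.finrank_range_add_finrank_ker (L * X).mulVecLin
        have h6 : X.rank = Module.finrank F (LinearMap.range X.mulVecLin) := rfl
        have h7 : (L * X).rank = Module.finrank F (LinearMap.range (L * X).mulVecLin) := rfl
        have heq := Submodule.eq_of_le_of_finrank_le hle (by omega)
        have : v ∈ LinearMap.ker X.mulVecLin := heq ▸ (LinearMap.mem_ker.2 hv)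
        exact LinearMap.mem_ker.1 this
      have hXL : X * L = 0 := by rw [hW, mul_assoc, hLXL, mul_zero]
      have hLX := congrArg (adj σ (GT t G)) hXL
      rw [(H.hG.gt t).adj_mul, hadjX, hadjL, adj_zero] at hLX
      rw [hXL, hLX]
    have hzero : ∀ {s : F} {P : Matrix (TI t m) (TI t m) F},
        s • (1 : Matrix (TI t m) (TI t m) F) = P * ct σ G j w b X → s = 0 := by
      intro s P h
      by_contra hs
      exact hno ⟨⟨ct σ G j w b X, s⁻¹ • P, mul_eq_one_comm.1 (by
        rw [Matrix.smul_mul, ← h, smul_smul, inv_mul_cancel₀ hs, one_smul]),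
        by rw [Matrix.smul_mul, ← h, smul_smul, inv_mul_cancel₀ hs, one_smul]⟩, rfl⟩
    refine H.hG.eq_zero_of_left fun a => ?_
    have hxw : fH σ G (a - fH σ G a w • r) w = 0 := by rw [fH_sub_left, fH_smul_left, hrw, mul_one, sub_self]
    have e1 : fH σ G (η *ᵥ b) (a - fH σ G a w • r) = 0 :=
      hzero (P := (-z) • ct σ G j (a - fH σ G a w • r) w X) (by rw [h1 _ hxw, Matrix.smul_mul])
    have e2 := hzero h2
    rw [show a = (a - fH σ G a w • r) + fH σ G a w • r by abel, fH_add_right, fH_smul_right, e1, e2, mul_zero,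
      add_zero]
  obtain ⟨c, hc⟩ : ∃ c : F, η *ᵥ r = c • w := by
    by_contra! h
    obtain ⟨a, haw, ha⟩ := H.hG.exists_sep h
    have hhr : fH σ G (η *ᵥ r) a = 0 := by
      have := H.hG.fH_adj η r a
      rw [hskew, Matrix.neg_mulVec, hkill a (H.hG.symm_zero haw), neg_zero, ← zero_smul F (0 : Fin m → F),
        fH_smul_right, map_zero, zero_mul] at this
      exact this.symm
    exact zero_ne_one (hhr.symm.trans ha)
  have hηE : η = c • E σ G w w := by
    refine Matrix.ext_iff_mulVec.mpr fun b => ?_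
    have e : b = (b - fH σ G b w • r) + fH σ G b w • r := by abel
    conv_lhs => rw [e]
    rw [Matrix.mulVec_add, hkill _ (by rw [fH_sub_left, fH_smul_left, hrw, mul_one, sub_self]), Matrix.mulVec_smul,
      hc, zero_add, Matrix.smul_mulVec, E_mulVec, smul_smul, smul_smul, mul_comm]
  rw [hηE, TensorWreath43.lift_smul, ← hL] at hη
  have hXB : X * Bv = 0 := by rw [hBv, ← mul_assoc, ← mul_assoc, hXX, zero_mul, zero_mul]
  have hBX : Bv * X = 0 := by rw [hBv, mul_assoc (X * L), hXX, mul_zero]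
  have e1 : -Bv = c • (X * L) := by
    have := congrArg (fun Z => X * Z) hη
    simp only [mul_sub, Matrix.mul_smul, hXB, smul_zero, sub_zero] at this
    rw [← this, hA, mul_sub, ← mul_assoc, ← mul_assoc, hXX, zero_mul, zero_sub, hBv]
  have e2 : Bv = c • (L * X) := by
    have := congrArg (fun Z => Z * X) hη
    simp only [sub_mul, Matrix.smul_mul, hBX, smul_zero, sub_zero] at this
    rw [← this, hA, sub_mul, mul_assoc L X X, hXX, mul_zero, sub_zero, hBv]
  by_cases hc0 : c = 0
  · rw [hc0, zero_smul] at hη e2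
    rw [e2, smul_zero, sub_zero, hA, sub_eq_zero] at hη
    exact hη.symm
  · have eXL : X * L = -(L * X) := smul_right_injective _ hc0 (by
      show c • (X * L) = c • -(L * X)
      rw [smul_neg, ← e2, e1])
    have hB0 : Bv = 0 := by rw [hBv, eXL, neg_mul, mul_assoc, hXX, mul_zero, neg_zero]
    have hLX : L * X = 0 := (smul_eq_zero.1 (e2.symm.trans hB0)).resolve_left hc0
    rw [eXL, hLX, neg_zero]

end Cfsg.Agent.TensorWreathU84
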