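import Cfsg.Agent.Lib.TensorWreathU84Basic

/-!
The quadratic lemma: a family with a square-zero factor at one position may be squeezed by a root at another.
-/

set_option autoImplicit false
set_option linter.unusedSectionVars false

namespace Cfsg.Agent.TensorWreathU84

open scoped Matrix
open Cfsg.Agent.TensorWreath43 (TI lift liftHom Comm MemU Fac)

variable {F : Type*} [Field F] [Fintype F] {σ : F →+* F} {t m : ℕ}
variable {G : Matrix (Fin m) (Fin m) F} {M : Subgroup (GL (TI t m) F)}

theorem skew_mul_fixed {z b : F} (hz : σ z = -z) (hb : σ b = b) : σ (b * z) = -(b * z) := by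
  rw [map_mul, hz, hb, mul_neg]

theorem fixed_sq {z : F} (hz : σ z = -z) : σ (z * z) = z * z := by rw [map_mul, hz, neg_mul_neg]

/-- When the fixed field has two elements the characteristic is two. -/
theorem char_two_of_fixed (h : ∀ c, σ c = c → c = 0 ∨ c = 1) : (2 : F) = 0 := by
  rcases h (-1) (by rw [map_neg, map_one]) with h' | h'
  · exact absurd h' (neg_ne_zero.2 one_ne_zero)
  · linear_combination -h'

variable (H : UOver σ G M)
include H

theorem UOver.quad_big {p i : Fin t} (hip : i ≠ p) {T : Matrix (Fin m) (Fin m) F} (hT : T * T = 0)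
    {W : Matrix (TI t m) (TI t m) F} (hF : Fac p T W) (hW : ∀ b, σ b = b → MemU M (b • W))
    {u : Fin m → F} (hu : Iso σ G u) {a : F} (ha : σ a = a) (ha0 : a ≠ 0) (ha1 : a ≠ 1) :
    ∀ b, σ b = b → MemU M (b • (lift i (E σ G u u) * W * lift i (E σ G u u))) := by
  set L := lift i (E σ G u u) with hL
  have fA : Fac p T (L * W - W * L) := (hF.lift_left hip _).sub (hF.lift_right hip _)
  have fB : Fac p T (L * W * L) := (hF.lift_left hip _).lift_right hip _
  have hg : ∀ b z, σ b = b → σ z = -z → MemU M ((b * z) • (L * W - W * L) - (b * (z * z)) • (L * W * L)) := by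
    intro b z hb hz
    have h1 := H.conj_root i hu.2 hz (hW b hb)
    have h2 := hW (-b) (by rw [map_neg, hb])
    have h3 := h1.add h2 (Fac.mul_eq_zero hT (((hF.smul b).add
      ((((hF.smul b).lift_left hip _).sub ((hF.smul b).lift_right hip _)).smul z)).sub
        ((((hF.smul b).lift_left hip _).lift_right hip _).smul (z * z))) (hF.smul (-b)))
    convert h3 using 1
    rw [← hL]
    simp only [smul_mul_assoc, mul_smul_comm, smul_sub, smul_smul, neg_smul, mul_comm b]
    abel
  intro c hc
  obtain ⟨z, hz0, hz⟩ := H.hG.exists_skew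
  set b := c / (a * (a - 1) * (z * z)) with hbdef
  have hb : σ b = b := by rw [hbdef, map_div₀, map_mul, map_mul, map_sub, map_one, hc, ha, fixed_sq hz]
  have key := (hg (b * a) z (by rw [map_mul, hb, ha]) hz).add
    (hg (-b) (a * z) (by rw [map_neg, hb]) (skew_mul_fixed hz ha))
    (Fac.mul_eq_zero hT ((fA.smul _).sub (fB.smul _)) ((fA.smul _).sub (fB.smul _)))
  convert key using 1
  have e : c = b * a * (a - 1) * (z * z) := by
    rw [hbdef]
    field_simp [sub_ne_zero.2 ha1]
  rw [e]
  module

theorem UOver.exists_siegel (i : Fin t) {u x : Fin m → F} (hu : fH σ G u u = 0) (hx : fH σ G x x = 0)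
    (hxu : fH σ G x u = 0) : MemU M (lift i (E σ G x u - E σ G u x)) := by
  have hux := H.hG.symm_zero hxu
  have e : (1 + (1 : F) • E σ G x u) * (1 + (-1 : F) • E σ G u x) = 1 + (E σ G x u - E σ G u x) := by
    rw [one_smul, neg_one_smul]
    simp only [add_mul, mul_add, one_mul, mul_one, mul_neg, E_mul, hu, zero_smul, neg_zero, add_zero]
    abel
  have hdet : (1 + (E σ G x u - E σ G u x)).det = 1 := by
    rw [← e, Matrix.det_mul, det_one_add_E, det_one_add_E, hxu, hux, mul_zero, mul_zero, add_zero, one_mul]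
  have hiso : adj σ G (1 + (E σ G x u - E σ G u x)) * (1 + (E σ G x u - E σ G u x)) = 1 := by
    rw [adj_add, adj_sub, H.hG.adj_one, H.hG.adj_E, H.hG.adj_E]
    simp only [add_mul, sub_mul, mul_add, mul_sub, one_mul, mul_one, E_mul, hu, hx, hxu, hux, zero_smul, sub_zero,
      add_zero]
    abel
  refine ⟨_, H.root i (Matrix.GeneralLinearGroup.mkOfDetNeZero _ (by rw [hdet]; exact one_ne_zero)) hiso hdet, ?_⟩
  show lift i (1 + (E σ G x u - E σ G u x)) = _
  rw [TensorWreath43.lift_add, TensorWreath43.lift_one]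

theorem UOver.quad_two {p i : Fin t} (hip : i ≠ p) {T : Matrix (Fin m) (Fin m) F} (hT : T * T = 0)
    {W : Matrix (TI t m) (TI t m) F} (hF : Fac p T W) (hW : MemU M W) (hfix : ∀ c, σ c = c → c = 0 ∨ c = 1)
    {u : Fin m → F} (hu : Iso σ G u) : MemU M (lift i (E σ G u u) * W * lift i (E σ G u u)) := by
  have hm4 := H.q2 hfix
  have h2 := char_two_of_fixed hfix
  have dbl : ∀ Y : Matrix (TI t m) (TI t m) F, Y + Y = 0 := fun Y => by rw [← two_smul F, h2, zero_smul]
  have negY : ∀ Y : Matrix (TI t m) (TI t m) F, -Y = Y := fun Y => neg_eq_of_add_eq_zero_left (dbl Y)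
  have h1 : σ (1 : F) = -1 := by rw [map_one]; linear_combination h2
  -- one difference
  have delta : ∀ {Y : Matrix (TI t m) (TI t m) F} {a : Fin m → F}, Fac p T Y → MemU M Y → fH σ G a a = 0 →
      MemU M (lift i (E σ G a a) * Y + Y * lift i (E σ G a a) + lift i (E σ G a a) * Y * lift i (E σ G a a)) := by
    intro Y a fY hY ha
    have h := H.conj_root i ha h1 hY
    rw [one_mul, one_smul, one_smul] at h
    have h' := h.add hY (Fac.mul_eq_zero hT ((fY.add ((fY.lift_left hip _).sub (fY.lift_right hip _))).sub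
      ((fY.lift_left hip _).lift_right hip _)) fY)
    convert h' using 1
    rw [sub_eq_add_neg, sub_eq_add_neg, negY, negY]
    calc _ = (Y + Y) + (lift i (E σ G a a) * Y + Y * lift i (E σ G a a) +
          lift i (E σ G a a) * Y * lift i (E σ G a a)) := by rw [dbl, zero_add]
      _ = _ := by abel
  let P : (Fin m → F) → Matrix (TI t m) (TI t m) F := fun v =>
    lift i (E σ G u u) * (ct σ G i u v W + ct σ G i v u W)
  have fct : ∀ a b, Fac p T (lift i (E σ G u u) * ct σ G i a b W) := fun a b => by
    rw [lift_E_mul_ct]; exact (hF.lift_left hip _).lift_right hip _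
  have hP : ∀ v, fH σ G v v = 0 → fH σ G v u = 0 → (∀ s : F, v ≠ s • u) → MemU M (P v) := by
    intro v hv hvu hvs
    have huv := H.hG.symm_zero hvu
    obtain ⟨b, hbb, hbu, hvb⟩ : ∃ b, fH σ G b b = 0 ∧ fH σ G b u = 0 ∧ fH σ G v b ≠ 0 := by
      by_contra! h'
      obtain ⟨s, hs⟩ := H.hG.uform.span_perp hm4 (iso_def.1 hu) h'
      exact hvs s hs
    have hbv : fH σ G b v ≠ 0 := fun e => hvb (H.hG.symm_zero e)
    set x := (fH σ G b v)⁻¹ • b with hxdef
    have hxx : fH σ G x x = 0 := by rw [hxdef, fH_smul_left, fH_smul_right, hbb, mul_zero, mul_zero]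
    have hxu : fH σ G x u = 0 := by rw [hxdef, fH_smul_left, hbu, mul_zero]
    have hux := H.hG.symm_zero hxu
    have hxv : fH σ G x v = 1 := by rw [hxdef, fH_smul_left, inv_mul_cancel₀ hbv]
    have hvx : fH σ G v x = 1 := by rw [← H.hG.sigma_fH, hxv, map_one]
    -- the double difference
    set Lu := lift i (E σ G u u) with hLu
    set Lv := lift i (E σ G v v) with hLv
    have zuv : Lu * Lv = 0 := by
      rw [hLu, hLv, ← TensorWreath43.lift_mul, E_mul, hvu, zero_smul, TensorWreath43.lift_zero]
    have zvu : Lv * Lu = 0 := by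
      rw [hLu, hLv, ← TensorWreath43.lift_mul, E_mul, huv, zero_smul, TensorWreath43.lift_zero]
    have fY : Fac p T (Lu * W + W * Lu + Lu * W * Lu) :=
      ((hF.lift_left hip _).add (hF.lift_right hip _)).add ((hF.lift_left hip _).lift_right hip _)
    have hD : MemU M (Lv * W * Lu + Lu * W * Lv) := by
      have := delta fY (delta hF hW hu.2) hv
      rw [← hLv] at this
      convert this using 1
      simp only [mul_add, add_mul, ← mul_assoc, zvu, zero_mul, zero_add, add_zero]
      simp only [mul_assoc, zuv, mul_zero, add_zero]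
    set S := E σ G x u - E σ G u x with hS
    set D := Lv * W * Lu + Lu * W * Lv with hDdef
    have fD : Fac p T D := ((hF.lift_left hip _).lift_right hip _).add ((hF.lift_left hip _).lift_right hip _)
    have eD : D = lift i (E σ G v u) * ct σ G i v u W + lift i (E σ G u v) * ct σ G i u v W := by
      rw [lift_E_mul_ct, lift_E_mul_ct]
    have SS : lift i S * lift i S = 0 := by
      rw [← TensorWreath43.lift_mul, hS]
      simp only [mul_sub, sub_mul, E_mul, hu.2, hxx, hxu, hux, zero_smul, sub_zero, TensorWreath43.lift_zero]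
    have e1 : E σ G v u * S = 0 := by
      rw [hS, mul_sub, E_mul, E_mul, hxu, hu.2, zero_smul, zero_smul, sub_zero]
    have e2 : E σ G u v * S = E σ G u u := by
      rw [hS, mul_sub, E_mul, E_mul, hxv, huv, zero_smul, one_smul, sub_zero]
    have e3 : S * E σ G v u = -E σ G u u := by
      rw [hS, sub_mul, E_mul, E_mul, hvu, hvx, zero_smul, one_smul, zero_sub]
    have e4 : S * E σ G u v = 0 := by
      rw [hS, sub_mul, E_mul, E_mul, hu.2, hux, zero_smul, zero_smul, sub_zero]
    have hSm := H.exists_siegel i hu.2 hxx hxu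
    rw [← hS] at hSm
    have SDS : lift i S * D * lift i S = 0 := by
      have e5 : E σ G u u * S = 0 := by rw [hS, mul_sub, E_mul, E_mul, hxu, hu.2, zero_smul, zero_smul, sub_zero]
      rw [eD, mul_add, add_mul, ← mul_assoc, ← mul_assoc, ← TensorWreath43.lift_mul, ← TensorWreath43.lift_mul, e3, e4,
        TensorWreath43.lift_zero, zero_mul, zero_mul, add_zero, mul_assoc, ← comm_ct i v u W, ← mul_assoc,
        ← TensorWreath43.lift_mul, neg_mul, e5, neg_zero, TensorWreath43.lift_zero, zero_mul]
    have DSD : D * lift i S * D = 0 := by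
      rw [mul_assoc]
      exact Fac.mul_eq_zero hT fD (fD.lift_left hip _)
    have := hD.bracket hSm (Fac.mul_eq_zero hT fD fD) SS DSD SDS
    convert this using 1
    rw [eD, add_mul, mul_add, mul_assoc, ← comm_ct i v u W, ← mul_assoc, ← TensorWreath43.lift_mul, e1,
      mul_assoc, ← comm_ct i u v W, ← mul_assoc, ← TensorWreath43.lift_mul, e2, ← mul_assoc, ← mul_assoc,
      ← TensorWreath43.lift_mul, ← TensorWreath43.lift_mul, e3, e4, TensorWreath43.lift_zero, zero_mul, zero_mul,
      zero_add, add_zero, ← neg_one_smul F (E σ G u u), TensorWreath43.lift_smul, neg_one_smul, neg_mul, sub_neg_eq_add,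
      ← mul_add]
  obtain ⟨r, hr, hur, -⟩ := H.hG.exists_partner hu
  obtain ⟨v, hv, hv'⟩ := H.hG.uform.exists_iso_perp (m := 2) (by omega) ![u, r]
  have hvs : ∀ s : F, v ≠ s • u := by
    intro s e
    have h0 : fH σ G v r = 0 := hv' 1
    rw [e, fH_smul_left, hur, mul_one] at h0
    exact hv.1 (by rw [e, h0, zero_smul])
  have hvu : fH σ G v u = 0 := hv' 0
  obtain ⟨c, hc⟩ := H.hG.uform.exists_trace (a := (1 : F)) (map_one σ)
  have hP1 := hP v hv.2 hvu hvs
  have hP2 := hP (v + c • u) (by
      rw [fH_add_left, fH_add_right, fH_add_right, fH_smul_left, fH_smul_left, fH_smul_right, fH_smul_right,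
        show fH σ G v v = 0 from hv.2, hvu, H.hG.symm_zero hvu, hu.2]
      ring)
    (by rw [fH_add_left, fH_smul_left, hvu, hu.2, mul_zero, add_zero])
    (fun s e => hvs (s - c) (by rw [sub_smul, ← e, add_sub_cancel_right]))
  have fP : ∀ a, Fac p T (P a) := fun a => by
    show Fac p T (_ * (_ + _))
    rw [mul_add]; exact (fct _ _).add (fct _ _)
  have := hP1.add hP2 (Fac.mul_eq_zero hT (fP _) (fP _))
  convert this using 1
  show _ = lift i (E σ G u u) * _ + lift i (E σ G u u) * _
  rw [← mul_add, ct_add_right, ct_add_left, ct_smul_right, ct_smul_left, ← lift_E_mul_ct]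
  congr 1
  calc ct σ G i u u W = (c + σ c) • ct σ G i u u W +
        ((ct σ G i u v W + ct σ G i v u W) + (ct σ G i u v W + ct σ G i v u W)) := by
        rw [dbl, hc, one_smul, add_zero]
    _ = _ := by rw [add_smul]; abel

/-- A root squeezes a family with a square-zero factor at another position. -/
theorem UOver.quad {p i : Fin t} (hip : i ≠ p) {T : Matrix (Fin m) (Fin m) F} (hT : T * T = 0)
    {W : Matrix (TI t m) (TI t m) F} (hF : Fac p T W) (hW : ∀ b, σ b = b → MemU M (b • W))
    {u : Fin m → F} (hu : Iso σ G u) :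
    ∀ b, σ b = b → MemU M (b • (lift i (E σ G u u) * W * lift i (E σ G u u))) := by
  by_cases hfix : ∀ c, σ c = c → c = 0 ∨ c = 1
  · intro b hb
    rcases hfix b hb with rfl | rfl
    · rw [zero_smul]; exact MemU.zero M
    · rw [one_smul]
      have h1 := hW 1 (map_one σ)
      rw [one_smul] at h1
      exact H.quad_two hip hT hF h1 hfix hu
  · push Not at hfix
    obtain ⟨a, ha, ha0, ha1⟩ := hfix
    exact H.quad_big hip hT hF hW hu ha ha0 ha1

end Cfsg.Agent.TensorWreathU84
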