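import Cfsg.Agent.Lib.TensorWreathU84Quad

/-!
A root element with a non-scalar cofactor leads to the transvections at all pure tensors of isotropic vectors.
-/

set_option autoImplicit false
set_option linter.unusedSectionVars false

namespace Cfsg.Agent.TensorWreathU84

open scoped Matrix
open Cfsg.Agent.TensorWreath43 (TI lift liftHom pureT pureV permT permU Comm cn MemU Fac)

variable {F : Type*} [Field F] [Fintype F] {σ : F →+* F} {t m : ℕ}
variable {G : Matrix (Fin m) (Fin m) F} {M : Subgroup (GL (TI t m) F)}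

/-- The projection-like operators at the positions in `S` and identities elsewhere. -/
def Pu (σ : F →+* F) (G : Matrix (Fin m) (Fin m) F) (S : Finset (Fin t)) (u : Fin t → Fin m → F) :
    Matrix (TI t m) (TI t m) F :=
  pureT fun i => if i ∈ S then E σ G (u i) (u i) else 1

/-- All transvection-like elements on `S` lie in `M`. -/
def AllS (σ : F →+* F) (G : Matrix (Fin m) (Fin m) F) (M : Subgroup (GL (TI t m) F)) (S : Finset (Fin t)) : Prop :=
  ∀ u : Fin t → Fin m → F, (∀ i, Iso σ G (u i)) → ∀ z, σ z = -z → MemU M (z • Pu σ G S u)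

/-- A family with factors on `S`. -/
def St (σ : F →+* F) (G : Matrix (Fin m) (Fin m) F) (M : Subgroup (GL (TI t m) F)) (S : Finset (Fin t))
    (u : Fin t → Fin m → F) (C : Matrix (TI t m) (TI t m) F) : Prop :=
  (∀ i, Iso σ G (u i)) ∧ (∀ i ∈ S, Comm i C) ∧ C ≠ 0 ∧ ∀ b, σ b = b → MemU M (b • (Pu σ G S u * C))

theorem comm_Pu {i : Fin t} {S : Finset (Fin t)} (hi : i ∉ S) (u : Fin t → Fin m → F) :
    Comm i (Pu σ G S u) :=
  TensorWreath43.comm_pureT (by simp [hi])

theorem fac_Pu {p : Fin t} {S : Finset (Fin t)} (hp : p ∈ S) (u : Fin t → Fin m → F) :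
    Fac p (E σ G (u p) (u p)) (Pu σ G S u) :=
  TensorWreath43.fac_pureT p 1 (by simp [hp])

theorem fac_mul_comm {p : Fin t} {T : Matrix (Fin m) (Fin m) F} {X D : Matrix (TI t m) (TI t m) F}
    (hX : Fac p T X) (hD : Comm p D) : Fac p T (X * D) := by
  obtain ⟨C, hC, rfl⟩ := hX
  exact ⟨C * D, hC.mul hD, mul_assoc _ _ _⟩

theorem sigma_prod_ite (j : Fin t) (β : F) :
    (∏ i : Fin t, if i = j then β else 1) = β := by
  rw [Finset.prod_ite_eq' Finset.univ j (fun _ => β), if_pos (Finset.mem_univ j)]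

/-- A matrix commuting with all positions is scalar. -/
theorem eq_scalar_of_comm [NeZero m] {C : Matrix (TI t m) (TI t m) F} (h : ∀ i, Comm i C) :
    ∃ c : F, C = c • 1 := by
  obtain ⟨c, hc⟩ := TensorWreath43.eq_smul_mono (S := ∅) (a := 0) (b := 0) (C := C) (by simp) (fun l _ => h l)
  refine ⟨c, ?_⟩
  rw [hc]
  congr 1
  ext x y
  simp only [TensorWreath43.mono, Matrix.one_apply, Finset.notMem_empty, IsEmpty.forall_iff, true_and,
    not_false_eq_true, forall_const]
  exact if_congr ⟨funext, fun h l => h ▸ rfl⟩ rfl rfl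

/-- The entries of a contraction. -/
theorem cn_apply (i : Fin t) (r v : Fin m → F) (Z : Matrix (TI t m) (TI t m) F) (x y : TI t m) :
    cn i r v Z x y = if x i = y i then
      r ⬝ᵥ ((Matrix.of fun p q => Z (Function.update x i p) (Function.update y i q)) *ᵥ v) else 0 := by
  rw [cn, Matrix.sum_apply]
  simp only [mul_assoc, TensorWreath43.lift_mul_apply, TensorWreath43.mul_lift_apply, Matrix.vecMulVec_apply,
    Pi.single_apply, Finset.mul_sum]
  rw [Finset.sum_eq_single (x i) (fun l _ hl => by simp [Ne.symm hl]) (by simp)]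
  simp only [if_true, one_mul]
  by_cases h : x i = y i
  · rw [if_pos h]
    simp [Matrix.mulVec, dotProduct, Finset.mul_sum, h, mul_comm, mul_left_comm]
    exact Finset.sum_comm
  · rw [if_neg h]
    simp [Ne.symm h]

/-- Without isotropic contraction a matrix commutes with the position. -/
theorem comm_of_contractions (hG : HG σ G) (hm : 2 ≤ m) (i : Fin t) {C : Matrix (TI t m) (TI t m) F}
    (h : ∀ u, Iso σ G u → ct σ G i u u C = 0) : Comm i C := by
  let N : TI t m → TI t m → Matrix (Fin m) (Fin m) F := fun x y =>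
    Matrix.of fun p q => C (Function.update x i p) (Function.update y i q)
  have hq : ∀ x y u, fH σ G u u = 0 → fH σ G (N x y *ᵥ u) u = 0 := by
    intro x y u hu
    by_cases hu0 : u = 0
    · subst hu0; rw [Matrix.mulVec_zero, fH_zero_left]
    have := congrFun (congrFun (h u ⟨hu0, hu⟩) x) (Function.update y i (x i))
    rw [ct, cn_apply, Function.update_self, if_pos rfl, Matrix.zero_apply] at this
    simp only [Function.update_idem] at this
    rw [fH, dotProduct_comm]
    exact this
  have hsc : ∀ x y, ∃ γ : F, N x y = γ • 1 := by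
    intro x y
    obtain ⟨γ, hγ⟩ := hG.uform.eq_scalar_of_quad (X := Matrix.toLin' (N x y)) hm
      (fun u hu => by rw [Matrix.toLin'_apply]; exact hq x y u hu)
    refine ⟨γ, Matrix.toLin'.injective ?_⟩
    rw [hγ, map_smul, Matrix.toLin'_one]
    rfl
  intro η
  ext x y
  obtain ⟨γ, hγ⟩ := hsc x y
  have e : ∀ p q, C (Function.update x i p) (Function.update y i q) = γ * (1 : Matrix (Fin m) (Fin m) F) p q :=
    fun p q => congrFun (congrFun hγ p) q
  rw [TensorWreath43.lift_mul_apply, TensorWreath43.mul_lift_apply]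
  have e1 : ∀ c, C (Function.update x i c) y = γ * (1 : Matrix (Fin m) (Fin m) F) c (y i) := fun c => by
    have := e c (y i)
    rwa [Function.update_eq_self] at this
  have e2 : ∀ c, C x (Function.update y i c) = γ * (1 : Matrix (Fin m) (Fin m) F) (x i) c := fun c => by
    have := e (x i) c
    rwa [Function.update_eq_self] at this
  simp only [e1, e2, Matrix.one_apply, mul_ite, mul_one, mul_zero, ite_mul, zero_mul, Finset.sum_ite_eq,
    Finset.sum_ite_eq', Finset.mem_univ, if_true]
  ring

variable (H : UOver σ G M)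
include H

theorem UOver.grow {S : Finset (Fin t)} {u : Fin t → Fin m → F} {C : Matrix (TI t m) (TI t m) F}
    (hSt : St σ G M S u C) (hne : S.Nonempty) {i : Fin t} (hi : i ∉ S) (hc : ¬ Comm i C) :
    ∃ u' C', St σ G M (insert i S) u' C' := by
  obtain ⟨hu, hC, -, hM⟩ := hSt
  obtain ⟨v, hv, hv0⟩ : ∃ v, Iso σ G v ∧ ct σ G i v v C ≠ 0 := by
    by_contra! h'
    exact hc (comm_of_contractions H.hG (by have := H.hm; omega) i h')
  obtain ⟨p, hp⟩ := hne
  have hip : i ≠ p := fun e => hi (e ▸ hp)
  refine ⟨Function.update u i v, ct σ G i v v C, fun l => ?_, ?_, hv0, ?_⟩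
  · by_cases hl : l = i
    · subst hl; simpa using hv
    · simpa [hl] using hu l
  · intro l hl
    rcases Finset.mem_insert.1 hl with rfl | hl
    · exact comm_ct _ _ _ _
    · exact comm_ct_of_comm (fun (e : i = l) => hi (e ▸ hl)) _ _ (hC l hl)
  · have hP : lift i (E σ G v v) * (Pu σ G S u * C) * lift i (E σ G v v) =
        Pu σ G (insert i S) (Function.update u i v) * ct σ G i v v C := by
      rw [← mul_assoc, comm_Pu hi u, mul_assoc (Pu σ G S u), mul_assoc (Pu σ G S u), ← lift_E_mul_ct,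
        ← mul_assoc, Pu, TensorWreath43.pureT_mul_lift]
      congr 1
      unfold Pu
      congr 1
      funext l
      by_cases hl : l = i
      · subst hl; simp [hi]
      · simp [hl]
    intro b hb
    have := H.quad hip (hu p).E_sq (fac_mul_comm (fac_Pu hp u) (hC p hp)) hM hv b hb
    rwa [hP] at this

theorem UOver.allS_of_one {S : Finset (Fin t)} {u : Fin t → Fin m → F} (hu : ∀ i, Iso σ G (u i))
    (h : ∀ z, σ z = -z → MemU M (z • Pu σ G S u)) : AllS σ G M S := by
  classical
  intro v hv z hz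
  choose η h1 h2 h3 using fun i => H.hG.exists_move H.hm (hu i) (hv i)
  suffices key : ∀ s : Finset (Fin t), MemU M (z • Pu σ G S fun i => if i ∈ s then v i else u i) by
    simpa using key Finset.univ
  intro s
  induction s using Finset.induction with
  | empty => simpa using h z hz
  | insert a s ha ih =>
    have := H.lift_conj a (h1 a) (h2 a) ih
    rw [Matrix.mul_smul, Matrix.smul_mul, Pu, TensorWreath43.lift_mul_pureT, TensorWreath43.pureT_mul_lift] at this
    convert this using 2
    unfold Pu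
    congr 1
    funext i
    by_cases hi : i = a
    · subst hi
      by_cases hiS : i ∈ S
      · simp [ha, hiS, H.hG.conj_E, h3]
      · simp [ha, hiS, mul_eq_one_comm.1 (h1 i)]
    · simp [hi]

theorem UOver.allS_perm {S : Finset (Fin t)} (h : AllS σ G M S) {π : Equiv.Perm (Fin t)} (hπ : π ^ 3 = 1) :
    AllS σ G M (S.map π.toEmbedding) := by
  intro u hu z hz
  have := (h (fun i => u (π i)) (fun i => hu _) z hz).conjU (H.perm π hπ)
  rw [Matrix.mul_smul, Matrix.smul_mul, Pu, TensorWreath43.permU_pureT] at this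
  convert this using 2
  unfold Pu
  congr 1
  funext i
  by_cases hi : π.symm i ∈ S <;> simp [Finset.mem_map_equiv, hi]

theorem UOver.allS_union {S S' : Finset (Fin t)} (h : AllS σ G M S) (h' : AllS σ G M S') {j p r : Fin t}
    (hj : j ∈ S) (hj' : j ∈ S') (hp : p ∈ S) (hp' : p ∉ S') (hr : r ∈ S') (hr' : r ∉ S) :
    AllS σ G M (S ∪ S') := by
  classical
  obtain ⟨u₀, hu₀⟩ := H.hG.exists_iso (by have := H.hm; omega)
  obtain ⟨v₀, hv₀, huv, hvu⟩ := H.hG.exists_partner hu₀
  obtain ⟨β, hβ⟩ := H.hG.ne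
  have hw : ∀ γ : F, ∃ w, Iso σ G w ∧ fH σ G u₀ w = 1 ∧ fH σ G w v₀ = γ := by
    intro γ
    obtain ⟨s, hsu, hsv, hss⟩ := H.hG.exists_perp_val H.hm hu₀ hv₀ (by rw [huv]; exact one_ne_zero)
      (s := -(γ + σ γ)) (by rw [map_neg, map_add, H.hG.invol, add_comm])
    have hus := H.hG.symm_zero hsu
    have hvs := H.hG.symm_zero hsv
    have h1 : fH σ G u₀ (γ • u₀ + v₀ + s) = 1 := by
      rw [fH_add_right, fH_add_right, fH_smul_right, hu₀.2, huv, hus]; ring
    refine ⟨γ • u₀ + v₀ + s, ⟨fun e => ?_, ?_⟩, h1, ?_⟩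
    · rw [e, ← zero_smul F (0 : Fin m → F), fH_smul_right, map_zero, zero_mul] at h1
      exact zero_ne_one h1
    · simp only [fH_add_left, fH_add_right, fH_smul_left, fH_smul_right, hu₀.2, hv₀.2, huv, hvu, hsu, hsv, hus, hvs,
        hss]
      ring
    · simp only [fH_add_left, fH_smul_left, huv, hv₀.2, hsv]
      ring
  choose w hwi hwu hwv using hw
  let θ : Fin t → Matrix (Fin m) (Fin m) F := fun i => if i ∈ S then E σ G u₀ u₀ else 1
  let θ' : Fin t → Matrix (Fin m) (Fin m) F := fun i => if i ∈ S' then E σ G v₀ v₀ else 1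
  let a : Fin t → F := fun i => if i = j then β else 1
  let Ew : Fin t → Matrix (Fin m) (Fin m) F := fun i => E σ G (w (a i)) (w (a i))
  let A : Finset (Fin t) → Fin t → Matrix (Fin m) (Fin m) F := fun s i =>
    if i ∈ s then Ew i * (θ i * θ' i) * Ew i else θ i * θ' i
  let B : Finset (Fin t) → Fin t → Matrix (Fin m) (Fin m) F := fun s i =>
    if i ∈ s then Ew i * (θ' i * θ i) * Ew i else θ' i * θ i
  obtain ⟨z₀, hz₀0, hz₀⟩ := H.hG.exists_skew
  have hT : E σ G u₀ u₀ * E σ G u₀ u₀ = 0 := hu₀.E_sq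
  have base : ∀ b, σ b = b → MemU M (b • (pureT (A ∅) - pureT (B ∅))) := by
    intro b hb
    have hX := h (fun _ => u₀) (fun _ => hu₀) (b / z₀) (by rw [map_div₀, hb, hz₀, div_neg])
    have hZ := h' (fun _ => v₀) (fun _ => hv₀) z₀ hz₀
    have := hX.bracket hZ ?_ ?_ ?_ ?_
    · simp only [Pu, Matrix.smul_mul, Matrix.mul_smul, smul_smul, TensorWreath43.pureT_mul] at this
      rw [show z₀ * (b / z₀) = b by field_simp, show b / z₀ * z₀ = b by field_simp, ← smul_sub] at this
      convert this using 4 <;>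
      · funext i
        simp [A, B, θ, θ']
    · rw [Pu, Matrix.smul_mul, Matrix.mul_smul, TensorWreath43.pureT_mul,
        TensorWreath43.pureT_eq_zero (p := p) (by simp [hp, hT]), smul_zero, smul_zero]
    · rw [Pu, Matrix.smul_mul, Matrix.mul_smul, TensorWreath43.pureT_mul,
        TensorWreath43.pureT_eq_zero (p := r) (by simp [hr, hv₀.E_sq]), smul_zero, smul_zero]
    · simp only [Pu, smul_mul_assoc, mul_smul_comm, TensorWreath43.pureT_mul]
      rw [TensorWreath43.pureT_eq_zero (p := p) (by simp [hp, hp', hT])]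
      simp
    · simp only [Pu, smul_mul_assoc, mul_smul_comm, TensorWreath43.pureT_mul]
      rw [TensorWreath43.pureT_eq_zero (p := r) (by simp [hr, hr', hv₀.E_sq])]
      simp
  have many : ∀ s : Finset (Fin t), p ∉ s → ∀ b, σ b = b → MemU M (b • (pureT (A s) - pureT (B s))) := by
    intro s
    induction s using Finset.induction with
    | empty => exact fun _ => base
    | insert c s hc ih =>
      intro hps
      rw [Finset.mem_insert, not_or] at hps
      have hF : Fac p (E σ G u₀ u₀) (pureT (A s) - pureT (B s)) :=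
        (TensorWreath43.fac_pureT p 1 (by simp [A, θ, θ', hps.2, hp, hp'])).sub
          (TensorWreath43.fac_pureT p 1 (by simp [B, θ, θ', hps.2, hp, hp']))
      intro b hb
      have := H.quad (i := c) (Ne.symm hps.1) hT hF (ih hps.2) (hwi (a c)) b hb
      rw [mul_sub, sub_mul, TensorWreath43.lift_mul_pureT, TensorWreath43.lift_mul_pureT,
        TensorWreath43.pureT_mul_lift, TensorWreath43.pureT_mul_lift] at this
      convert this using 4 <;>
      · funext i
        by_cases hi : i = c
        · subst hi; simp [A, B, Ew, hc]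
        · simp [A, B, hi]
  let U : Fin t → Fin m → F := fun i => if i ∈ S ∩ S' then w (a i) else if i ∈ S then u₀ else v₀
  have hU : ∀ i, Iso σ G (U i) := fun i => by
    simp only [U]
    split_ifs
    · exact hwi _
    · exact hu₀
    · exact hv₀
  have hcommon : ∀ i, E σ G (w (a i)) (w (a i)) * (E σ G u₀ u₀ * E σ G v₀ v₀) * E σ G (w (a i)) (w (a i)) =
      a i • E σ G (w (a i)) (w (a i)) ∧
      E σ G (w (a i)) (w (a i)) * (E σ G v₀ v₀ * E σ G u₀ u₀) * E σ G (w (a i)) (w (a i)) =
      σ (a i) • E σ G (w (a i)) (w (a i)) := fun i => by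
    have e1 : fH σ G (w (a i)) u₀ = 1 := by rw [← H.hG.sigma_fH, hwu, map_one]
    have e2 : fH σ G v₀ (w (a i)) = σ (a i) := by rw [← H.hG.sigma_fH, hwv]
    simp only [E_mul, huv, hvu, one_smul, hwu, hwv, e1, e2, smul_mul_assoc, smul_smul, mul_one, one_mul, and_self]
  have hA : A (S ∩ S') = fun i => a i • (if i ∈ S ∪ S' then E σ G (U i) (U i) else 1) := by
    funext i
    by_cases h1 : i ∈ S <;> by_cases h2 : i ∈ S'
    · simp [A, θ, θ', U, Ew, h1, h2, (hcommon i).1]
    all_goals
      have ha : a i = 1 := if_neg fun (e : i = j) => by subst e; contradiction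
      simp [A, θ, θ', U, h1, h2, ha]
  have hB : B (S ∩ S') = fun i => σ (a i) • (if i ∈ S ∪ S' then E σ G (U i) (U i) else 1) := by
    funext i
    by_cases h1 : i ∈ S <;> by_cases h2 : i ∈ S'
    · simp [B, θ, θ', U, Ew, h1, h2, (hcommon i).2]
    all_goals
      have ha : a i = 1 := if_neg fun (e : i = j) => by subst e; contradiction
      simp [B, θ, θ', U, h1, h2, ha]
  refine H.allS_of_one hU fun z hz => ?_
  have hne : β - σ β ≠ 0 := sub_ne_zero.2 fun e => hβ e.symm
  have hfix : σ (z / (β - σ β)) = z / (β - σ β) := by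
    rw [map_div₀, map_sub, H.hG.invol, hz, ← neg_sub β (σ β), neg_div_neg_eq]
  have := many (S ∩ S') (fun e => hp' (Finset.mem_inter.1 e).2) _ hfix
  rw [hA, hB, TensorWreath43.pureT_smul_pi, TensorWreath43.pureT_smul_pi, ← map_prod,
    sigma_prod_ite j β, ← sub_smul, smul_smul, div_mul_cancel₀ _ hne] at this
  exact this

theorem UOver.allS_univ {S : Finset (Fin t)} (hS : 2 ≤ S.card) (h : AllS σ G M S) : AllS σ G M Finset.univ := by
  classical
  let cand := (Finset.univ : Finset (Finset (Fin t))).filter fun T => 2 ≤ T.card ∧ AllS σ G M T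
  obtain ⟨T, hT, hmax⟩ := cand.exists_max_image Finset.card ⟨S, by simp [cand, hS, h]⟩
  simp only [cand, Finset.mem_filter, Finset.mem_univ, true_and] at hT hmax
  by_cases htop : T = Finset.univ
  · exact htop ▸ hT.2
  exfalso
  obtain ⟨r, -, hr⟩ := Finset.exists_of_ssubset (lt_of_le_of_ne (Finset.subset_univ T) htop)
  obtain ⟨i, hi, j, hj, hij⟩ := Finset.one_lt_card.1 hT.1
  obtain ⟨π, hπ, hπj, hπi⟩ := TensorWreath43.exists_three_cycle (p := i) (q := j) (r := r) hij
    (fun e => hr (e ▸ hi)) (fun e => hr (e ▸ hj))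
  have hjT' : j ∈ T.map π.toEmbedding := by rw [← hπi]; exact Finset.mem_map_of_mem _ hi
  have hrT' : r ∈ T.map π.toEmbedding := by rw [← hπj]; exact Finset.mem_map_of_mem _ hj
  obtain ⟨p, hp, hp'⟩ : ∃ p ∈ T, p ∉ T.map π.toEmbedding := by
    by_contra! h'
    exact hr ((Finset.eq_of_subset_of_card_le h' (by rw [Finset.card_map])).symm ▸ hrT')
  have hU := H.allS_union hT.2 (H.allS_perm hT.2 hπ) hj hjT' hp hp' hrT' hr
  have hle : T.card ≤ (T ∪ T.map π.toEmbedding).card := Finset.card_le_card Finset.subset_union_left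
  have := hmax _ ⟨hT.1.trans hle, hU⟩
  have hlt : T.card < (T ∪ T.map π.toEmbedding).card :=
    Finset.card_lt_card ⟨Finset.subset_union_left, fun h => hr (h (Finset.mem_union_right _ hrT'))⟩
  omega

/-- A root element with a non-scalar cofactor gives transvections at all pure tensors of isotropic vectors. -/
theorem UOver.pure_of_hit {j : Fin t} {w : Fin m → F} (hw : Iso σ G w) {C : Matrix (TI t m) (TI t m) F}
    (hC : Comm j C) (hns : ¬ ∃ c : F, C = c • 1) (hM : MemU M (lift j (E σ G w w) * C))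
    (u : Fin t → Fin m → F) (hu : ∀ i, Iso σ G (u i)) : TV σ G M (pureV u) := by
  classical
  haveI : NeZero m := ⟨by have := H.hm; omega⟩
  have hPu : Pu σ G {j} (fun _ => w) = lift j (E σ G w w) := by
    rw [Pu, ← TensorWreath43.pureT_update_eq_lift]
    congr 1
    funext i
    by_cases hi : i = j
    · subst hi; simp
    · simp [hi]
  have hC0 : C ≠ 0 := fun e => hns ⟨0, by rw [e, zero_smul]⟩
  have st0 : St σ G M {j} (fun _ => w) C := by
    refine ⟨fun _ => hw, fun i hi => Finset.mem_singleton.1 hi ▸ hC, hC0, fun b hb => ?_⟩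
    rw [hPu]
    by_cases hb0 : b = 0
    · rw [hb0, zero_smul]; exact MemU.zero M
    obtain ⟨a, ha⟩ := H.hG.uform.exists_norm hb
    obtain ⟨η, h1, h2, h3⟩ := H.hG.exists_torus H.hm hw (a := a) (fun e => hb0 (by rw [← ha, e, zero_mul]))
    have := H.lift_conj j h1 h2 hM
    rwa [← mul_assoc, mul_assoc _ C, ← hC, ← mul_assoc, ← TensorWreath43.lift_mul, ← TensorWreath43.lift_mul,
      H.hG.conj_E, h3, E_smul_left, E_smul_right, smul_smul, ha, TensorWreath43.lift_smul, Matrix.smul_mul] at this
  obtain ⟨i, hij, hi⟩ : ∃ i, i ≠ j ∧ ¬ Comm i C := by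
    by_contra! h'
    exact hns (eq_scalar_of_comm fun i => if hi : i = j then hi ▸ hC else h' i hi)
  obtain ⟨u₁, C₁, st₁⟩ := H.grow st0 (Finset.singleton_nonempty j) (by simp [hij]) hi
  let cand := (Finset.univ : Finset (Finset (Fin t))).filter fun T => 2 ≤ T.card ∧ ∃ u C, St σ G M T u C
  obtain ⟨T, hT, hmax⟩ := cand.exists_max_image Finset.card ⟨insert i {j}, by
    simp only [cand, Finset.mem_filter, Finset.mem_univ, true_and]
    exact ⟨by rw [Finset.card_insert_of_notMem (by simp [hij]), Finset.card_singleton], u₁, C₁, st₁⟩⟩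
  simp only [cand, Finset.mem_filter, Finset.mem_univ, true_and] at hT hmax
  obtain ⟨hT2, u₂, C₂, st₂⟩ := hT
  have hTne : T.Nonempty := Finset.card_pos.1 (by omega)
  have hall : ∀ l, Comm l C₂ := by
    intro l
    by_cases hl : l ∈ T
    · exact st₂.2.1 l hl
    by_contra hc
    obtain ⟨u', C', st'⟩ := H.grow st₂ hTne hl hc
    have := hmax _ ⟨hT2.trans (Finset.card_le_card (Finset.subset_insert l T)), u', C', st'⟩
    rw [Finset.card_insert_of_notMem hl] at this
    omega
  obtain ⟨c, hc⟩ := eq_scalar_of_comm hall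
  have hc0 : c ≠ 0 := fun e => st₂.2.2.1 (by rw [hc, e, zero_smul])
  haveI : Nonempty (Fin m) := ⟨0⟩
  have hPne : Pu σ G T u₂ ≠ 0 := TensorWreath43.pureT_ne_zero fun l => by
    split_ifs
    · exact (st₂.1 l).E_ne H.hG
    · exact one_ne_zero
  have hX : MemU M (c • Pu σ G T u₂) := by
    have := st₂.2.2.2 1 (map_one σ)
    rwa [one_smul, hc, Matrix.mul_smul, mul_one] at this
  obtain ⟨p, hp⟩ := hTne
  have hsq : c • Pu σ G T u₂ * c • Pu σ G T u₂ = (0 : Matrix (TI t m) (TI t m) F) := by
    rw [Matrix.smul_mul, Matrix.mul_smul, Fac.mul_eq_zero (st₂.1 p).E_sq (fac_Pu hp u₂) (fac_Pu hp u₂), smul_zero,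
      smul_zero]
  have hskew := H.skew_of_sq hX hsq
  have hPadj : adj σ (GT t G) (Pu σ G T u₂) = Pu σ G T u₂ := by
    rw [Pu, adj_pureT H.hG]
    congr 1
    funext l
    split_ifs
    · exact H.hG.adj_E _ _
    · exact H.hG.adj_one
  rw [adj_smul, hPadj, ← neg_smul] at hskew
  have hσc : σ c = -c := by
    have h0 : (σ c - -c) • Pu σ G T u₂ = 0 := by rw [sub_smul, hskew, sub_self]
    exact sub_eq_zero.1 ((smul_eq_zero.1 h0).resolve_right hPne)
  have hone : ∀ z, σ z = -z → MemU M (z • Pu σ G T u₂) := by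
    intro z hz
    have := st₂.2.2.2 (z / c) (by rw [map_div₀, hz, hσc, neg_div_neg_eq])
    rwa [hc, Matrix.mul_smul, mul_one, smul_smul, div_mul_cancel₀ _ hc0] at this
  intro z hz
  have := H.allS_univ hT2 (H.allS_of_one st₂.1 hone) u hu z hz
  rw [E_pureV]
  simpa [Pu] using this

end Cfsg.Agent.TensorWreathU84
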