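import Cfsg.Agent.Lib.TensorWreathU84Gen

/-!
Conjugates of root elements, decomposable elements and rank tools.
-/

set_option autoImplicit false
set_option linter.unusedSectionVars false

namespace Cfsg.Agent.TensorWreathU84

open scoped Matrix
open Cfsg.Agent.TensorWreath43 (TI lift liftHom pureT pureV permT permU Comm cn MemU Fac)

variable {F : Type*} [Field F] [Fintype F] {σ : F →+* F} {t m : ℕ}
variable {G : Matrix (Fin m) (Fin m) F} {M : Subgroup (GL (TI t m) F)}

/-- `Z` is a lift at the position `j`. -/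
def AlgU (j : Fin t) (Z : Matrix (TI t m) (TI t m) F) : Prop := ∃ η, Z = lift j η

/-- `g` normalises the lifts at the position `j`. -/
def Dec (j : Fin t) (g : GL (TI t m) F) : Prop :=
  ∀ η, AlgU j ((g : Matrix (TI t m) (TI t m) F) * lift j η * ((g⁻¹ : GL (TI t m) F) : Matrix (TI t m) (TI t m) F))

/-- A conjugate of the operator of an isotropic vector at some position. -/
def Root (σ : F →+* F) (G : Matrix (Fin m) (Fin m) F) (M : Subgroup (GL (TI t m) F))
    (X : Matrix (TI t m) (TI t m) F) : Prop :=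
  ∃ g ∈ M, ∃ i w, Iso σ G w ∧ X = (g : Matrix (TI t m) (TI t m) F) * lift i (E σ G w w) *
    ((g⁻¹ : GL (TI t m) F) : Matrix (TI t m) (TI t m) F)

section Linear

theorem factor_of_ker {κ : Type*} [Fintype κ] [DecidableEq κ] {A B : Matrix κ κ F}
    (h : ∀ v, B *ᵥ v = 0 → A *ᵥ v = 0) : ∃ W, A = W * B := by
  set f := B.mulVecLin
  obtain ⟨k, hk⟩ := LinearMap.exists_extend
    ((Submodule.liftQ (LinearMap.ker f) A.mulVecLin fun v hv => h v hv).comp f.quotKerEquivRange.symm.toLinearMap)
  refine ⟨LinearMap.toMatrix' k, Matrix.ext_iff_mulVec.mpr fun v => ?_⟩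
  rw [← Matrix.mulVec_mulVec, LinearMap.toMatrix'_mulVec]
  have := LinearMap.congr_fun hk ⟨f v, LinearMap.mem_range_self f v⟩
  rw [LinearMap.comp_apply, LinearMap.comp_apply, Submodule.subtype_apply] at this
  rw [show (B *ᵥ v) = f v from rfl, this, LinearEquiv.coe_coe, LinearMap.quotKerEquivRange_symm_apply_image]
  rfl

theorem rank_conj {κ : Type*} [Fintype κ] [DecidableEq κ] (g : GL κ F) (Z : Matrix κ κ F) :
    ((g : Matrix κ κ F) * Z * ((g⁻¹ : GL κ F) : Matrix κ κ F)).rank = Z.rank := by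
  refine le_antisymm ((Matrix.rank_mul_le_left _ _).trans (Matrix.rank_mul_le_right _ _)) ?_
  conv_lhs => rw [show Z = ((g⁻¹ : GL κ F) : Matrix κ κ F) * ((g : Matrix κ κ F) * Z *
    ((g⁻¹ : GL κ F) : Matrix κ κ F)) * (g : Matrix κ κ F) by
      simp only [mul_assoc, Units.inv_mul_cancel_left, Units.inv_mul, mul_one]]
  exact (Matrix.rank_mul_le_left _ _).trans (Matrix.rank_mul_le_right _ _)

theorem scalar_of_eigen [NeZero m] {β : Matrix (Fin m) (Fin m) F} (h : ∀ v, ∃ c : F, β *ᵥ v = c • v) :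
    ∃ c : F, β = c • 1 := by
  choose c hc using fun p : Fin m => h (Pi.single p 1)
  have hcol : ∀ p q, β p q = if p = q then c q else 0 := fun p q => by
    have := congrFun (hc q) p
    rw [Matrix.mulVec_single_one, Matrix.col_apply] at this
    rw [this]
    simp [Pi.single_apply]
  have heq : ∀ p, c p = c 0 := fun p => by
    by_cases hp : p = 0
    · rw [hp]
    obtain ⟨l, hl⟩ := h (Pi.single p 1 + Pi.single 0 1)
    rw [Matrix.mulVec_add, hc, hc] at hl
    have e1 := congrFun hl p
    have e2 := congrFun hl 0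
    simp [Pi.single_apply, hp, Ne.symm hp] at e1 e2
    rw [e1, e2]
  refine ⟨c 0, Matrix.ext fun p q => ?_⟩
  rw [hcol]
  by_cases hpq : p = q
  · subst hpq; simp [heq p]
  · simp [hpq]

end Linear

section Vectors

theorem HG.exists_right (hG : HG σ G) {x : Fin m → F} (hx : x ≠ 0) : ∃ a, fH σ G x a = 1 := by
  obtain ⟨a, ha⟩ : ∃ a, fH σ G x a ≠ 0 := by
    by_contra! h
    exact hx (hG.eq_zero_of_left h)
  refine ⟨σ (fH σ G x a)⁻¹ • a, ?_⟩
  rw [fH_smul_right, hG.invol, inv_mul_cancel₀ ha]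

theorem HG.exists_sep (hG : HG σ G) {x y : Fin m → F} (h : ∀ c : F, y ≠ c • x) :
    ∃ a, fH σ G x a = 0 ∧ fH σ G y a = 1 := by
  obtain ⟨a, ha, hay⟩ := TransvectionUnitary.exists_perp_val hG.uform.isU (W := Submodule.span F {x}) (a := y)
    (fun hm => by obtain ⟨c, hc⟩ := Submodule.mem_span_singleton.1 hm; exact h c hc.symm) (1 : F)
  refine ⟨a, hG.symm_zero ((TransvectionUnitary.mem_perp_singleton hG.uform.isU).1 ha), ?_⟩
  rw [← hG.sigma_fH, hay, map_one]

theorem HG.exists_perp_two (hG : HG σ G) (hm : 3 ≤ m) (x y : Fin m → F) :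
    ∃ a, a ≠ 0 ∧ fH σ G x a = 0 ∧ fH σ G y a = 0 := by
  classical
  set W := Submodule.span F ({x, y} : Set (Fin m → F)) with hW
  obtain ⟨v, hv⟩ : ∃ v, v ∉ W := by
    by_contra! h'
    have e : W = ⊤ := eq_top_iff.2 fun z _ => h' z
    have h1 := finrank_span_le_card (R := F) ({x, y} : Set (Fin m → F))
    have h2 : ({x, y} : Set (Fin m → F)).toFinset.card ≤ 2 := by
      rw [Set.toFinset_insert, Set.toFinset_singleton]
      exact Finset.card_le_two
    rw [← hW, e, finrank_top, Module.finrank_fin_fun] at h1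
    omega
  obtain ⟨a, ha, hav⟩ := TransvectionUnitary.exists_perp_val hG.uform.isU hv (1 : F)
  obtain ⟨h1, h2⟩ := (TransvectionUnitary.mem_perp_pair hG.uform.isU).1 ha
  exact ⟨a, fun e => zero_ne_one (α := F) (by rw [← hav, e, fH_zero_left]), hG.symm_zero h1, hG.symm_zero h2⟩

/-- A property closed under the operations holding at the isotropic transvection operators holds everywhere. -/
theorem HG.of_iso_E (hG : HG σ G) (hm : 2 ≤ m) {P : Matrix (Fin m) (Fin m) F → Prop} (h0 : P 0)
    (hadd : ∀ a b, P a → P b → P (a + b)) (hsmul : ∀ (c : F) a, P a → P (c • a))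
    (hmul : ∀ a b, P a → P b → P (a * b)) (hE : ∀ b, Iso σ G b → P (E σ G b b)) (η : Matrix (Fin m) (Fin m) F) :
    P η := by
  have h1 : ∀ b, Iso σ G b → ∀ v, P (E σ G b v) := by
    intro b hb v
    have hv := hG.uform.span_nonperp hm (iso_def.1 hb) v
    induction hv using Submodule.span_induction with
    | mem z hz =>
      have := hsmul (fH σ G z b)⁻¹ _ (hmul _ _ (hE b hb) (hE z hz.1))
      rwa [E_mul, smul_smul, inv_mul_cancel₀ hz.2, one_smul] at this
    | zero => rw [E_zero_right]; exact h0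
    | add p q _ _ hp hq => rw [E_add_right]; exact hadd _ _ hp hq
    | smul c p _ hp => rw [E_smul_right]; exact hsmul _ _ hp
  have h2 : ∀ x v, P (E σ G x v) := by
    intro x v
    have hx : x ∈ Submodule.span F {b | fH σ G b b = 0} := hG.uform.span_iso hm ▸ Submodule.mem_top
    induction hx using Submodule.span_induction with
    | mem b hb =>
      by_cases hb0 : b = 0
      · rw [hb0, E_zero_left]; exact h0
      · exact h1 b ⟨hb0, hb⟩ v
    | zero => rw [E_zero_left]; exact h0
    | add p q _ _ hp hq => rw [E_add_left]; exact hadd _ _ hp hq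
    | smul c p _ hp => rw [E_smul_left]; exact hsmul _ _ hp
  rw [Matrix.matrix_eq_sum_single η]
  refine Finset.sum_induction _ P hadd h0 fun p _ => Finset.sum_induction _ P hadd h0 fun q _ => ?_
  obtain ⟨a, ha⟩ := hG.exists_row (Pi.single q (1 : F))
  rw [show Matrix.single p q (η p q) = η p q • Matrix.single p q (1 : F) by
    rw [Matrix.smul_single, smul_eq_mul, mul_one], TensorWreath43.single_eq_vec, ← ha]
  exact hsmul _ _ (h2 _ a)

end Vectors

section Contraction

theorem ct_comm {i : Fin t} {D : Matrix (TI t m) (TI t m) F} (hD : Comm i D) (a b : Fin m → F) :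
    ct σ G i a b D = fH σ G b a • D := by
  have := ct_lift_mul (σ := σ) (G := G) hD a b 1
  rwa [TensorWreath43.lift_one, one_mul, Matrix.one_mulVec] at this

theorem ct_lift (i : Fin t) (a b : Fin m → F) (η : Matrix (Fin m) (Fin m) F) :
    ct σ G i a b (lift i η) = fH σ G (η *ᵥ b) a • (1 : Matrix (TI t m) (TI t m) F) := by
  have := ct_lift_mul (σ := σ) (G := G) (TensorWreath43.comm_one (t := t) i) a b η
  rwa [mul_one] at this

theorem ct_neg (i : Fin t) (a b : Fin m → F) (Z : Matrix (TI t m) (TI t m) F) :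
    ct σ G i a b (-Z) = -ct σ G i a b Z := by
  rw [← neg_one_smul F Z, ct_smul, neg_one_smul]

theorem eq_of_lift_E_mul (hG : HG σ G) {i : Fin t} {u v : Fin m → F} (hu : u ≠ 0) (hv : v ≠ 0)
    {A B : Matrix (TI t m) (TI t m) F} (hA : Comm i A) (hB : Comm i B)
    (h : lift i (E σ G u v) * A = lift i (E σ G u v) * B) : A = B :=
  sub_eq_zero.1 (TensorWreath43.eq_zero_of_lift_mul (hG.E_ne_zero hu hv) (hA.sub hB) (by rw [mul_sub, h, sub_self]))

/-- The contraction of a product through one operator. -/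
theorem ct_prod [NeZero m] (hG : HG σ G) (i : Fin t) (a b c d : Fin m → F) (Y Z : Matrix (TI t m) (TI t m) F) :
    ct σ G i a b (Y * lift i (E σ G c d) * Z) = ct σ G i a c Y * ct σ G i d b Z := by
  set e : Fin m → F := Pi.single 0 1
  have he : e ≠ 0 := fun h => one_ne_zero (α := F) (by simpa [e] using congrFun h 0)
  refine eq_of_lift_E_mul hG he he (comm_ct _ _ _ _) ((comm_ct _ _ _ _).mul (comm_ct _ _ _ _)) ?_
  obtain ⟨e', he'⟩ := hG.exists_right he
  have e2 : E σ G c d = E σ G c e' * E σ G e d := by rw [E_mul, he', one_smul]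
  calc lift i (E σ G e e) * ct σ G i a b (Y * lift i (E σ G c d) * Z)
      = lift i (E σ G e a) * Y * lift i (E σ G c e') * (lift i (E σ G e d) * Z * lift i (E σ G b e)) := by
        rw [lift_E_mul_ct, e2, TensorWreath43.lift_mul]; simp only [mul_assoc]
    _ = _ := by
        rw [← lift_E_mul_ct, ← lift_E_mul_ct, mul_assoc, ← mul_assoc (ct σ G i a c Y), ← comm_ct i a c Y,
          ← mul_assoc, ← mul_assoc, ← TensorWreath43.lift_mul, E_mul, he', one_smul, mul_assoc]

theorem rank_lift_E_le (hG : HG σ G) (i : Fin t) {u v : Fin m → F} (hu : u ≠ 0) (hv : v ≠ 0) (a b : Fin m → F) :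
    (lift i (E σ G a b) : Matrix (TI t m) (TI t m) F).rank ≤ (lift i (E σ G u v)).rank := by
  obtain ⟨u', hu'⟩ := hG.exists_right hu
  obtain ⟨v', hv'⟩ := hG.exists_right hv
  have hv'' : fH σ G v' v = 1 := by rw [← hG.sigma_fH, hv', map_one]
  have e : E σ G a b = E σ G a u' * E σ G u v * E σ G v' b := by
    rw [E_mul, hu', one_smul, E_mul, hv'', one_smul]
  rw [e, TensorWreath43.lift_mul, TensorWreath43.lift_mul]
  exact (Matrix.rank_mul_le_left _ _).trans (Matrix.rank_mul_le_right _ _)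

theorem rank_lift_E_eq (hG : HG σ G) (i j : Fin t) {u v a b : Fin m → F} (hu : u ≠ 0) (hv : v ≠ 0) (ha : a ≠ 0)
    (hb : b ≠ 0) : (lift i (E σ G u v) : Matrix (TI t m) (TI t m) F).rank = (lift j (E σ G a b)).rank := by
  have e : ((permU (Equiv.swap i j) : GL (TI t m) F) : Matrix (TI t m) (TI t m) F) * lift i (E σ G u v) *
      (((permU (Equiv.swap i j))⁻¹ : GL (TI t m) F) : Matrix (TI t m) (TI t m) F) = lift j (E σ G u v) := by
    rw [Units.mul_inv_eq_iff_eq_mul]
    show permT _ * _ = _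
    rw [TensorWreath43.permT_lift, Equiv.swap_apply_left]
    rfl
  rw [← rank_conj (permU (Equiv.swap i j)) (lift i (E σ G u v)), e]
  exact le_antisymm (rank_lift_E_le hG j ha hb u v) (rank_lift_E_le hG j hu hv a b)

theorem comm_scalar (j : Fin t) (c : F) : Comm j (c • (1 : Matrix (TI t m) (TI t m) F)) :=
  (TensorWreath43.comm_one j).smul c

/-- A matrix commuting with all matrices commuting with a position is a lift at that position. -/
theorem alg_of_commute [NeZero m] (j : Fin t) {Y : Matrix (TI t m) (TI t m) F}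
    (h : ∀ D, Comm j D → D * Y = Y * D) : AlgU j Y := by
  have hs : ∀ p q, ∃ c : F, cn j (Pi.single p 1) (Pi.single q 1) Y = c • 1 := fun p q =>
    eq_scalar_of_comm fun l => by
      by_cases hl : l = j
      · subst hl; exact TensorWreath43.comm_cn _ _ _ _
      · exact TensorWreath43.comm_cn_of_comm (Ne.symm hl) _ _ fun η =>
          h _ (TensorWreath43.comm_lift hl η)
  choose c hc using hs
  refine ⟨∑ p, ∑ q, c p q • Matrix.single p q 1, ?_⟩
  conv_lhs => rw [TensorWreath43.lift_decomp j Y]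
  simp only [TensorWreath43.lift_sum, TensorWreath43.lift_smul, hc, Matrix.mul_smul, mul_one]

theorem AlgU.comm_apply {j : Fin t} {X D : Matrix (TI t m) (TI t m) F} (h : AlgU j X) (hD : Comm j D) :
    X * D = D * X := by
  obtain ⟨η, rfl⟩ := h
  exact hD η

theorem Dec.mul {j : Fin t} {g h : GL (TI t m) F} (hg : Dec j g) (hh : Dec j h) : Dec j (g * h) := by
  intro η
  obtain ⟨η₁, h1⟩ := hh η
  obtain ⟨η₂, h2⟩ := hg η₁
  refine ⟨η₂, ?_⟩
  rw [← h2, ← h1, mul_inv_rev, Units.val_mul, Units.val_mul]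
  simp only [mul_assoc]

theorem dec_lift (j : Fin t) (β : GL (Fin m) F) : Dec j (Units.map (liftHom (F := F) j).toMonoidHom β) := by
  intro η
  refine ⟨(β : Matrix (Fin m) (Fin m) F) * η * ((β⁻¹ : GL (Fin m) F) : Matrix (Fin m) (Fin m) F), ?_⟩
  rw [TensorWreath43.lift_mul, TensorWreath43.lift_mul]
  rfl

/-- A decomposable element is a lift times an element commuting with the position. -/
theorem Dec.decomp [NeZero m] {j : Fin t} {g : GL (TI t m) F} (hg : Dec j g) :
    ∃ (β : GL (Fin m) F) (α : GL (TI t m) F), Comm j (α : Matrix (TI t m) (TI t m) F) ∧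
      g = Units.map (liftHom (F := F) j).toMonoidHom β * α := by
  choose f hf using fun a b => hg (Matrix.single a b (1 : F))
  have hmul : ∀ a b c d, f a b * f c d = if b = c then f a d else 0 := by
    intro a b c d
    refine TensorWreath43.lift_injective j ?_
    rw [TensorWreath43.lift_mul, ← hf, ← hf, apply_ite (lift j), ← hf, TensorWreath43.lift_zero,
      show (g : Matrix (TI t m) (TI t m) F) * lift j (Matrix.single a b 1) *
        ((g⁻¹ : GL (TI t m) F) : Matrix (TI t m) (TI t m) F) * ((g : Matrix (TI t m) (TI t m) F) *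
        lift j (Matrix.single c d 1) * ((g⁻¹ : GL (TI t m) F) : Matrix (TI t m) (TI t m) F)) =
        (g : Matrix (TI t m) (TI t m) F) * (lift j (Matrix.single a b 1) * lift j (Matrix.single c d 1)) *
        ((g⁻¹ : GL (TI t m) F) : Matrix (TI t m) (TI t m) F) by
        simp only [mul_assoc, Units.inv_mul_cancel_left], TensorWreath43.lift_single_mul]
    split_ifs <;> simp
  have hne : f 0 0 ≠ 0 := by
    intro e
    have h := hf 0 0
    rw [e, TensorWreath43.lift_zero, Units.mul_inv_eq_iff_eq_mul, zero_mul, Units.mul_right_eq_zero,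
      ← TensorWreath43.lift_zero (F := F) (m := m) j] at h
    simpa using congrFun (congrFun (TensorWreath43.lift_injective j h) 0) 0
  obtain ⟨β, hβ⟩ := TensorWreath43.exists_inner f hmul hne
  refine ⟨β, (Units.map (liftHom (F := F) j).toMonoidHom β)⁻¹ * g, ?_, by rw [mul_inv_cancel_left]⟩
  refine TensorWreath43.comm_of_singles fun a b => ?_
  have h1 : (g : Matrix (TI t m) (TI t m) F) * lift j (Matrix.single a b 1) =
      lift j (f a b) * (g : Matrix (TI t m) (TI t m) F) := by
    rw [← hf]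
    simp only [mul_assoc, Units.inv_mul, mul_one]
  have h2 : lift j (Matrix.single a b (1 : F)) * lift j ((β⁻¹ : GL (Fin m) F) : Matrix (Fin m) (Fin m) F) =
      lift j ((β⁻¹ : GL (Fin m) F) : Matrix (Fin m) (Fin m) F) * lift j (f a b) := by
    rw [← TensorWreath43.lift_mul, ← TensorWreath43.lift_mul]
    congr 1
    calc Matrix.single a b (1 : F) * ((β⁻¹ : GL (Fin m) F) : Matrix (Fin m) (Fin m) F)
        = ((β⁻¹ : GL (Fin m) F) : Matrix (Fin m) (Fin m) F) * ((β : Matrix (Fin m) (Fin m) F) *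
            Matrix.single a b 1) * ((β⁻¹ : GL (Fin m) F) : Matrix (Fin m) (Fin m) F) := by
          rw [Units.inv_mul_cancel_left]
      _ = _ := by rw [hβ]; simp only [mul_assoc, Units.mul_inv, mul_one]
  show lift j _ * (lift j ((β⁻¹ : GL (Fin m) F) : Matrix (Fin m) (Fin m) F) * (g : Matrix (TI t m) (TI t m) F)) =
    lift j ((β⁻¹ : GL (Fin m) F) : Matrix (Fin m) (Fin m) F) * (g : Matrix (TI t m) (TI t m) F) * lift j _
  rw [← mul_assoc, h2, mul_assoc, ← h1, mul_assoc]

end Contraction

section RootBasics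

variable (H : UOver σ G M)
include H

theorem UOver.neZero : NeZero m := ⟨by have := H.hm; omega⟩

theorem UOver.root_lift (i : Fin t) {w : Fin m → F} (hw : Iso σ G w) : Root σ G M (lift i (E σ G w w)) :=
  ⟨1, M.one_mem, i, w, hw, by simp⟩

theorem UOver.root_conj {X : Matrix (TI t m) (TI t m) F} (hX : Root σ G M X) {g : GL (TI t m) F} (hg : g ∈ M) :
    Root σ G M ((g : Matrix (TI t m) (TI t m) F) * X * ((g⁻¹ : GL (TI t m) F) : Matrix (TI t m) (TI t m) F)) := by
  obtain ⟨h, hh, i, w, hw, rfl⟩ := hX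
  refine ⟨g * h, M.mul_mem hg hh, i, w, hw, ?_⟩
  rw [mul_inv_rev, Units.val_mul, Units.val_mul]
  simp only [mul_assoc]

theorem UOver.root_sq {X : Matrix (TI t m) (TI t m) F} (hX : Root σ G M X) : X * X = 0 := by
  obtain ⟨h, hh, i, w, hw, rfl⟩ := hX
  have e : lift i (E σ G w w) * lift i (E σ G w w) = (0 : Matrix (TI t m) (TI t m) F) := by
    rw [← TensorWreath43.lift_mul, hw.E_sq, TensorWreath43.lift_zero]
  simp only [mul_assoc, Units.inv_mul_cancel_left]
  rw [← mul_assoc (lift i (E σ G w w)), e, zero_mul, mul_zero]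

theorem UOver.root_adj {X : Matrix (TI t m) (TI t m) F} (hX : Root σ G M X) : adj σ (GT t G) X = X := by
  obtain ⟨h, hh, i, w, hw, rfl⟩ := hX
  rw [H.inv_val hh, (H.hG.gt t).adj_mul, (H.hG.gt t).adj_mul, (H.hG.gt t).adj_adj, adj_lift H.hG, H.hG.adj_E,
    mul_assoc]

theorem UOver.root_mem_smul {X : Matrix (TI t m) (TI t m) F} (hX : Root σ G M X) {z : F} (hz : σ z = -z) :
    MemU M (z • X) := by
  obtain ⟨h, hh, i, w, hw, rfl⟩ := hX
  have := (H.root_mem i hw.2 hz).conjU hh
  rwa [Matrix.mul_smul, Matrix.smul_mul] at this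

theorem UOver.root_rank {X : Matrix (TI t m) (TI t m) F} (hX : Root σ G M X) (j : Fin t) {a b : Fin m → F}
    (ha : a ≠ 0) (hb : b ≠ 0) : X.rank = (lift j (E σ G a b) : Matrix (TI t m) (TI t m) F).rank := by
  obtain ⟨h, hh, i, w, hw, rfl⟩ := hX
  rw [rank_conj]
  exact rank_lift_E_eq H.hG i j hw.1 hw.1 ha hb

theorem UOver.root_ne {X : Matrix (TI t m) (TI t m) F} (hX : Root σ G M X) : X ≠ 0 := by
  haveI := H.neZero
  obtain ⟨h, hh, i, w, hw, rfl⟩ := hX
  intro e
  rw [Units.mul_inv_eq_iff_eq_mul, zero_mul, Units.mul_right_eq_zero,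
    ← TensorWreath43.lift_zero (F := F) (m := m) i] at e
  exact hw.E_ne H.hG (TensorWreath43.lift_injective (F := F) (m := m) i e)

theorem UOver.scalar_of_mem (hB : ¬ Big σ G M) {j : Fin t} {w : Fin m → F} (hw : Iso σ G w)
    {C : Matrix (TI t m) (TI t m) F} (hC : Comm j C) (hM : MemU M (lift j (E σ G w w) * C)) :
    ∃ c : F, C = c • 1 := by
  by_contra h
  exact hB (H.hit hw hC h hM)

end RootBasics

end Cfsg.Agent.TensorWreathU84
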