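import Mathlib

/-! Tables for the ternary Golay code on the 4 × 3 array (position (i, r) has index 3 i + r). -/

set_option autoImplicit false

namespace Cfsg.Agent.TernaryGolayData

/-- Basis rows. -/
def rows : List (List ℕ) :=
  [[1, 0, 0, 0, 0, 1, 0, 0, 1, 1, 1, 2],
   [0, 1, 0, 0, 0, 1, 0, 2, 2, 2, 0, 2],
   [0, 0, 1, 0, 0, 1, 0, 1, 0, 2, 1, 1],
   [0, 0, 0, 1, 0, 2, 0, 2, 1, 2, 1, 0],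
   [0, 0, 0, 0, 1, 2, 0, 1, 2, 0, 1, 2],
   [0, 0, 0, 0, 0, 0, 1, 1, 1, 2, 2, 2]]

/-- The 132 hexad masks. -/
def hexMasks : List ℕ :=
  [63, 222, 237, 243, 347, 366, 373, 413, 427, 438, 455, 504, 591, 630, 633, 667,
   679, 700, 725, 746, 791, 813, 826, 860, 867, 910, 945, 969, 978, 996, 1117, 1127,
   1146, 1175, 1198, 1209, 1227, 1268, 1295, 1331, 1340, 1366, 1385, 1434, 1445, 1484, 1489, 1506,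
   1566, 1579, 1589, 1619, 1644, 1677, 1714, 1734, 1752, 1761, 1817, 1830, 1861, 1866, 1904, 1923,
   1940, 1960, 2135, 2155, 2172, 2191, 2229, 2234, 2265, 2278, 2334, 2343, 2361, 2381, 2418, 2451,
   2476, 2506, 2516, 2529, 2589, 2606, 2611, 2650, 2661, 2710, 2729, 2755, 2764, 2800, 2827, 2868,
   2886, 2897, 2920, 2949, 2968, 2978, 3099, 3117, 3126, 3150, 3185, 3228, 3235, 3269, 3282, 3304,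
   3349, 3370, 3395, 3416, 3428, 3462, 3465, 3504, 3591, 3640, 3657, 3668, 3682, 3722, 3729, 3748,
   3852, 3858, 3873, 4032]

/-- Permutations fixing the first 0 positions, moving position 0 to each later position: images, inverse images, signs. -/
def level0 : List (List ℕ × List ℕ × List ℕ) :=
  [([0, 1, 2, 3, 4, 5, 6, 7, 8, 9, 10, 11], [0, 1, 2, 3, 4, 5, 6, 7, 8, 9, 10, 11], [1, 1, 1, 1, 1, 1, 1, 1, 1, 1, 1, 1]),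
   ([1, 0, 2, 3, 4, 5, 11, 9, 10, 7, 8, 6], [1, 0, 2, 3, 4, 5, 11, 9, 10, 7, 8, 6], [1, 1, 1, 1, 1, 1, 1, 1, 1, 1, 1, 1]),
   ([2, 0, 1, 3, 4, 5, 8, 6, 7, 10, 11, 9], [1, 2, 0, 3, 4, 5, 7, 8, 6, 11, 9, 10], [1, 1, 1, 1, 1, 1, 1, 1, 1, 1, 1, 1]),
   ([3, 0, 1, 2, 4, 5, 10, 7, 6, 8, 9, 11], [1, 2, 3, 0, 4, 5, 8, 7, 9, 10, 6, 11], [2, 2, 1, 1, 2, 2, 1, 1, 2, 1, 2, 1]),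
   ([4, 0, 1, 2, 3, 5, 6, 9, 10, 11, 7, 8], [1, 2, 3, 4, 0, 5, 6, 10, 11, 7, 8, 9], [1, 1, 2, 1, 2, 1, 1, 2, 2, 2, 2, 1]),
   ([5, 0, 1, 2, 3, 4, 9, 6, 8, 7, 11, 10], [1, 2, 3, 4, 5, 0, 7, 9, 8, 6, 11, 10], [2, 2, 1, 2, 2, 1, 1, 2, 1, 2, 1, 1]),
   ([6, 0, 1, 2, 3, 9, 5, 4, 7, 10, 8, 11], [1, 2, 3, 4, 7, 6, 0, 8, 10, 5, 9, 11], [2, 1, 2, 2, 1, 2, 1, 1, 1, 2, 2, 1]),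
   ([7, 0, 1, 2, 3, 11, 10, 8, 9, 4, 5, 6], [1, 2, 3, 4, 9, 10, 11, 0, 7, 8, 6, 5], [2, 1, 1, 1, 1, 2, 2, 2, 2, 2, 1, 1]),
   ([8, 0, 1, 2, 3, 10, 7, 11, 4, 6, 9, 5], [1, 2, 3, 4, 8, 11, 9, 6, 0, 10, 5, 7], [1, 1, 1, 2, 1, 1, 2, 2, 1, 1, 2, 1]),
   ([9, 0, 1, 2, 3, 6, 4, 5, 11, 8, 10, 7], [1, 2, 3, 4, 6, 7, 5, 11, 9, 0, 10, 8], [2, 1, 2, 2, 2, 1, 2, 1, 2, 1, 1, 1]),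
   ([10, 0, 1, 2, 3, 8, 11, 7, 5, 9, 6, 4], [1, 2, 3, 4, 11, 8, 10, 7, 5, 9, 0, 6], [2, 2, 2, 1, 2, 2, 2, 2, 1, 1, 2, 1]),
   ([11, 0, 1, 2, 3, 7, 8, 10, 6, 5, 4, 9], [1, 2, 3, 4, 10, 9, 8, 5, 6, 11, 7, 0], [1, 2, 2, 2, 1, 2, 1, 2, 2, 1, 1, 1])]

/-- Permutations fixing the first 1 positions, moving position 1 to each later position: images, inverse images, signs. -/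
def level1 : List (List ℕ × List ℕ × List ℕ) :=
  [([0, 1, 2, 3, 4, 5, 6, 7, 8, 9, 10, 11], [0, 1, 2, 3, 4, 5, 6, 7, 8, 9, 10, 11], [1, 1, 1, 1, 1, 1, 1, 1, 1, 1, 1, 1]),
   ([0, 2, 1, 3, 4, 5, 9, 10, 11, 6, 7, 8], [0, 2, 1, 3, 4, 5, 9, 10, 11, 6, 7, 8], [1, 1, 1, 1, 1, 1, 1, 1, 1, 1, 1, 1]),
   ([0, 3, 1, 2, 4, 5, 11, 8, 9, 7, 6, 10], [0, 2, 3, 1, 4, 5, 10, 9, 7, 8, 11, 6], [2, 2, 1, 1, 2, 2, 1, 1, 2, 1, 2, 1]),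
   ([0, 4, 1, 2, 3, 5, 8, 11, 7, 9, 10, 6], [0, 2, 3, 4, 1, 5, 11, 8, 6, 9, 10, 7], [1, 1, 2, 1, 2, 1, 1, 2, 2, 2, 2, 1]),
   ([0, 5, 1, 2, 3, 4, 10, 7, 11, 6, 8, 9], [0, 2, 3, 4, 5, 1, 9, 7, 10, 11, 6, 8], [2, 2, 1, 2, 2, 1, 1, 2, 1, 2, 1, 1]),
   ([0, 6, 1, 2, 3, 9, 11, 10, 8, 4, 7, 5], [0, 2, 3, 4, 9, 11, 1, 10, 8, 5, 7, 6], [2, 1, 2, 2, 1, 2, 1, 1, 1, 2, 2, 1]),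
   ([0, 7, 1, 2, 3, 11, 6, 4, 5, 8, 9, 10], [0, 2, 3, 4, 7, 8, 6, 1, 9, 10, 11, 5], [2, 1, 1, 1, 1, 2, 2, 2, 2, 2, 1, 1]),
   ([0, 8, 1, 2, 3, 10, 5, 6, 9, 11, 4, 7], [0, 2, 3, 4, 10, 6, 7, 11, 1, 8, 5, 9], [1, 1, 1, 2, 1, 1, 2, 2, 1, 1, 2, 1]),
   ([0, 9, 1, 2, 3, 6, 7, 8, 10, 5, 11, 4], [0, 2, 3, 4, 11, 9, 5, 6, 7, 1, 8, 10], [2, 1, 2, 2, 2, 1, 2, 1, 2, 1, 1, 1]),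
   ([0, 10, 1, 2, 3, 8, 4, 9, 6, 7, 5, 11], [0, 2, 3, 4, 6, 10, 8, 9, 5, 7, 1, 11], [2, 2, 2, 1, 2, 2, 2, 2, 1, 1, 2, 1]),
   ([0, 11, 1, 2, 3, 7, 9, 5, 4, 10, 6, 8], [0, 2, 3, 4, 8, 7, 10, 5, 11, 6, 9, 1], [1, 2, 2, 2, 1, 2, 1, 2, 2, 1, 1, 1])]

/-- Permutations fixing the first 2 positions, moving position 2 to each later position: images, inverse images, signs. -/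
def level2 : List (List ℕ × List ℕ × List ℕ) :=
  [([0, 1, 2, 3, 4, 5, 6, 7, 8, 9, 10, 11], [0, 1, 2, 3, 4, 5, 6, 7, 8, 9, 10, 11], [1, 1, 1, 1, 1, 1, 1, 1, 1, 1, 1, 1]),
   ([0, 1, 3, 2, 4, 5, 7, 6, 10, 11, 8, 9], [0, 1, 3, 2, 4, 5, 7, 6, 10, 11, 8, 9], [2, 2, 1, 1, 2, 2, 1, 1, 2, 1, 2, 1]),
   ([0, 1, 4, 2, 3, 5, 9, 10, 6, 8, 11, 7], [0, 1, 3, 4, 2, 5, 8, 11, 9, 6, 7, 10], [1, 1, 2, 1, 2, 1, 1, 2, 2, 2, 2, 1]),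
   ([0, 1, 5, 2, 3, 4, 6, 8, 9, 10, 7, 11], [0, 1, 3, 4, 5, 2, 6, 10, 7, 8, 9, 11], [2, 2, 1, 2, 2, 1, 1, 2, 1, 2, 1, 1]),
   ([0, 1, 6, 2, 3, 9, 4, 7, 5, 11, 10, 8], [0, 1, 3, 4, 6, 8, 2, 7, 11, 5, 10, 9], [2, 1, 2, 2, 1, 2, 1, 1, 1, 2, 2, 1]),
   ([0, 1, 7, 2, 3, 11, 8, 9, 10, 6, 4, 5], [0, 1, 3, 4, 10, 11, 9, 2, 6, 7, 8, 5], [2, 1, 1, 1, 1, 2, 2, 2, 2, 2, 1, 1]),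
   ([0, 1, 8, 2, 3, 10, 11, 4, 7, 5, 6, 9], [0, 1, 3, 4, 7, 9, 10, 8, 2, 11, 5, 6], [1, 1, 1, 2, 1, 1, 2, 2, 1, 1, 2, 1]),
   ([0, 1, 9, 2, 3, 6, 5, 11, 4, 7, 8, 10], [0, 1, 3, 4, 8, 6, 5, 9, 10, 2, 11, 7], [2, 1, 2, 2, 2, 1, 2, 1, 2, 1, 1, 1]),
   ([0, 1, 10, 2, 3, 8, 7, 5, 11, 4, 9, 6], [0, 1, 3, 4, 9, 7, 11, 6, 5, 10, 2, 8], [2, 2, 2, 1, 2, 2, 2, 2, 1, 1, 2, 1]),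
   ([0, 1, 11, 2, 3, 7, 10, 6, 8, 9, 5, 4], [0, 1, 3, 4, 11, 10, 7, 5, 8, 9, 6, 2], [1, 2, 2, 2, 1, 2, 1, 2, 2, 1, 1, 1])]

/-- Permutations fixing the first 3 positions, moving position 3 to each later position: images, inverse images, signs. -/
def level3 : List (List ℕ × List ℕ × List ℕ) :=
  [([0, 1, 2, 3, 4, 5, 6, 7, 8, 9, 10, 11], [0, 1, 2, 3, 4, 5, 6, 7, 8, 9, 10, 11], [1, 1, 1, 1, 1, 1, 1, 1, 1, 1, 1, 1]),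
   ([0, 1, 2, 4, 3, 5, 10, 9, 11, 7, 6, 8], [0, 1, 2, 4, 3, 5, 10, 9, 11, 7, 6, 8], [1, 1, 1, 1, 1, 1, 1, 1, 1, 1, 1, 1]),
   ([0, 1, 2, 5, 3, 4, 8, 6, 7, 11, 9, 10], [0, 1, 2, 4, 5, 3, 7, 8, 6, 10, 11, 9], [1, 1, 1, 1, 1, 1, 1, 1, 1, 1, 1, 1]),
   ([0, 1, 2, 6, 3, 9, 7, 4, 10, 8, 5, 11], [0, 1, 2, 4, 7, 10, 3, 6, 9, 5, 8, 11], [1, 2, 2, 1, 1, 1, 1, 1, 1, 1, 1, 1]),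
   ([0, 1, 2, 7, 3, 11, 9, 8, 4, 5, 10, 6], [0, 1, 2, 4, 8, 9, 11, 3, 7, 6, 10, 5], [2, 1, 2, 1, 1, 1, 1, 1, 1, 1, 1, 1]),
   ([0, 1, 2, 8, 3, 10, 4, 11, 6, 9, 7, 5], [0, 1, 2, 4, 6, 11, 8, 10, 3, 9, 5, 7], [2, 2, 1, 1, 1, 1, 1, 1, 1, 1, 1, 1]),
   ([0, 1, 2, 9, 3, 6, 11, 5, 8, 10, 4, 7], [0, 1, 2, 4, 10, 7, 5, 11, 8, 3, 9, 6], [1, 2, 2, 1, 1, 1, 1, 1, 1, 1, 1, 1]),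
   ([0, 1, 2, 10, 3, 8, 5, 7, 9, 6, 11, 4], [0, 1, 2, 4, 11, 6, 9, 7, 5, 8, 3, 10], [2, 2, 1, 1, 1, 1, 1, 1, 1, 1, 1, 1]),
   ([0, 1, 2, 11, 3, 7, 6, 10, 5, 4, 8, 9], [0, 1, 2, 4, 9, 8, 6, 5, 10, 11, 7, 3], [2, 1, 2, 1, 1, 1, 1, 1, 1, 1, 1, 1])]

/-- Permutations fixing the first 4 positions, moving position 4 to each later position: images, inverse images, signs. -/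
def level4 : List (List ℕ × List ℕ × List ℕ) :=
  [([0, 1, 2, 3, 4, 5, 6, 7, 8, 9, 10, 11], [0, 1, 2, 3, 4, 5, 6, 7, 8, 9, 10, 11], [1, 1, 1, 1, 1, 1, 1, 1, 1, 1, 1, 1]),
   ([0, 1, 2, 3, 5, 4, 9, 11, 10, 6, 8, 7], [0, 1, 2, 3, 5, 4, 9, 11, 10, 6, 8, 7], [1, 1, 1, 1, 1, 1, 1, 1, 1, 1, 1, 1]),
   ([0, 1, 2, 3, 6, 9, 5, 8, 11, 4, 7, 10], [0, 1, 2, 3, 9, 6, 4, 10, 7, 5, 11, 8], [1, 2, 2, 1, 1, 1, 1, 1, 1, 1, 1, 1]),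
   ([0, 1, 2, 3, 7, 11, 10, 5, 6, 8, 9, 4], [0, 1, 2, 3, 11, 7, 8, 4, 9, 10, 6, 5], [2, 1, 2, 1, 1, 1, 1, 1, 1, 1, 1, 1]),
   ([0, 1, 2, 3, 8, 10, 7, 9, 5, 11, 4, 6], [0, 1, 2, 3, 10, 8, 11, 6, 4, 7, 5, 9], [2, 2, 1, 1, 1, 1, 1, 1, 1, 1, 1, 1]),
   ([0, 1, 2, 3, 9, 6, 4, 10, 7, 5, 11, 8], [0, 1, 2, 3, 6, 9, 5, 8, 11, 4, 7, 10], [1, 2, 2, 1, 1, 1, 1, 1, 1, 1, 1, 1]),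
   ([0, 1, 2, 3, 10, 8, 11, 6, 4, 7, 5, 9], [0, 1, 2, 3, 8, 10, 7, 9, 5, 11, 4, 6], [2, 2, 1, 1, 1, 1, 1, 1, 1, 1, 1, 1]),
   ([0, 1, 2, 3, 11, 7, 8, 4, 9, 10, 6, 5], [0, 1, 2, 3, 7, 11, 10, 5, 6, 8, 9, 4], [2, 1, 2, 1, 1, 1, 1, 1, 1, 1, 1, 1])]

/-- For each hexad mask, coefficients of a word with that support. -/
def hexWitness : List (List ℕ) :=
  [[1, 1, 1, 2, 2, 0], [0, 1, 2, 1, 2, 2], [1, 0, 2, 1, 0, 1], [1, 2, 0, 0, 1, 2], [1, 2, 0, 1, 2, 1], [0, 1, 2, 2, 0, 1],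
   [1, 0, 2, 0, 2, 2], [1, 0, 2, 2, 1, 0], [1, 2, 0, 2, 0, 0], [0, 1, 2, 0, 1, 0], [1, 1, 1, 0, 0, 2], [0, 0, 0, 1, 1, 2],
   [1, 2, 2, 2, 0, 2], [0, 1, 1, 0, 1, 2], [1, 0, 0, 2, 1, 1], [1, 1, 0, 1, 1, 0], [1, 1, 2, 0, 0, 0], [0, 0, 1, 1, 1, 0],
   [1, 0, 1, 0, 2, 1], [0, 1, 0, 2, 0, 2], [1, 2, 1, 0, 1, 0], [1, 0, 1, 1, 0, 0], [0, 1, 0, 1, 2, 0], [0, 0, 1, 2, 2, 2],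
   [1, 1, 0, 0, 0, 1], [0, 1, 1, 2, 0, 0], [1, 0, 0, 0, 2, 0], [1, 0, 0, 1, 0, 2], [0, 1, 0, 0, 1, 1], [0, 0, 1, 0, 0, 1],
   [1, 0, 1, 1, 1, 2], [1, 2, 1, 0, 0, 1], [0, 1, 0, 1, 1, 1], [1, 2, 2, 0, 2, 0], [0, 1, 1, 1, 0, 0], [1, 0, 0, 1, 2, 0],
   [1, 1, 0, 2, 0, 1], [0, 0, 1, 0, 2, 2], [1, 1, 2, 1, 0, 0], [1, 1, 0, 0, 1, 0], [0, 0, 1, 2, 1, 0], [0, 1, 1, 0, 2, 1],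
   [1, 0, 0, 2, 0, 2], [0, 1, 0, 2, 2, 0], [1, 0, 1, 0, 0, 0], [0, 0, 1, 1, 0, 1], [1, 0, 0, 0, 1, 1], [0, 1, 0, 0, 0, 2],
   [0, 1, 2, 2, 1, 0], [1, 2, 0, 1, 0, 0], [1, 0, 2, 0, 1, 0], [1, 1, 0, 0, 2, 2], [0, 0, 1, 2, 0, 1], [1, 0, 1, 2, 0, 0],
   [0, 1, 0, 0, 2, 0], [0, 1, 2, 0, 0, 1], [0, 0, 0, 1, 2, 1], [1, 0, 0, 0, 0, 2], [1, 0, 0, 2, 2, 0], [0, 1, 1, 0, 0, 0],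
   [1, 0, 2, 0, 0, 1], [0, 1, 0, 1, 0, 2], [0, 0, 0, 0, 1, 2], [1, 2, 0, 0, 0, 0], [0, 0, 1, 0, 1, 0], [0, 0, 0, 1, 0, 0],
   [1, 1, 2, 0, 1, 1], [1, 1, 0, 1, 0, 2], [0, 0, 1, 1, 2, 1], [1, 2, 1, 1, 0, 0], [1, 0, 1, 0, 1, 0], [0, 1, 0, 2, 1, 0],
   [1, 0, 0, 2, 2, 2], [0, 1, 1, 0, 0, 1], [0, 1, 1, 1, 1, 0], [1, 2, 2, 0, 0, 0], [1, 0, 0, 1, 1, 0], [1, 0, 1, 2, 0, 1],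
   [0, 1, 0, 0, 2, 2], [1, 1, 0, 0, 2, 0], [0, 0, 1, 2, 0, 0], [0, 1, 0, 1, 0, 1], [0, 0, 1, 0, 1, 2], [1, 0, 0, 0, 0, 1],
   [1, 0, 2, 1, 2, 0], [0, 1, 2, 1, 0, 0], [1, 2, 0, 0, 2, 0], [0, 1, 0, 2, 2, 1], [1, 0, 1, 0, 0, 2], [0, 1, 1, 0, 2, 0],
   [1, 0, 0, 2, 0, 0], [1, 2, 0, 0, 0, 1], [0, 0, 1, 1, 0, 2], [0, 0, 0, 0, 1, 1], [1, 1, 0, 2, 0, 0], [0, 0, 1, 0, 2, 0],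
   [0, 1, 2, 0, 0, 2], [1, 0, 0, 0, 1, 2], [0, 0, 0, 1, 0, 1], [1, 0, 2, 0, 0, 0], [0, 0, 0, 1, 2, 0], [0, 1, 0, 0, 0, 0],
   [1, 2, 0, 2, 1, 0], [1, 0, 2, 2, 0, 0], [0, 1, 2, 0, 2, 0], [0, 1, 1, 2, 0, 2], [1, 0, 0, 0, 2, 1], [0, 0, 1, 2, 2, 0],
   [1, 1, 0, 0, 0, 0], [1, 0, 2, 0, 0, 2], [0, 1, 0, 0, 1, 2], [0, 0, 0, 1, 0, 2], [1, 0, 1, 0, 2, 0], [0, 1, 0, 2, 0, 0],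
   [1, 2, 0, 0, 0, 2], [0, 0, 0, 1, 2, 2], [0, 0, 1, 0, 0, 2], [0, 1, 2, 0, 0, 0], [1, 0, 0, 1, 0, 0], [0, 0, 0, 0, 1, 0],
   [1, 1, 1, 0, 0, 0], [0, 0, 0, 1, 1, 0], [1, 0, 0, 1, 0, 1], [0, 0, 1, 0, 1, 1], [0, 1, 0, 0, 0, 1], [0, 1, 0, 1, 0, 0],
   [1, 0, 0, 0, 1, 0], [0, 0, 1, 0, 0, 0], [0, 0, 1, 1, 0, 0], [0, 1, 0, 0, 1, 0], [1, 0, 0, 0, 0, 0], [0, 0, 0, 0, 0, 1]]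

end Cfsg.Agent.TernaryGolayData
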