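import Cfsg.Prelude.Def_SporadicCombinatorics
import Cfsg.Agent.Lib.TernaryGolayData

/-!
The ternary code `Cfsg.ternaryGolayCode` of length 12: parametrisation by six free positions.
-/

set_option autoImplicit false

namespace Cfsg.Agent.TernaryGolay

open Cfsg
open TernaryGolayData

/-- Index of a position: `(i, r) ↦ 3 i + r`. -/
def idx (p : ArrayPt) : ℕ := 3 * p.1.val + p.2.val

/-- Position with a given index. -/
def pt (n : ℕ) : ArrayPt := (⟨n / 3 % 4, Nat.mod_lt _ (by decide)⟩, ((n : ℕ) : ZMod 3))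

theorem pt_idx : ∀ p : ArrayPt, pt (idx p) = p := by decide

theorem idx_lt : ∀ p : ArrayPt, idx p < 12 := by decide

theorem idx_pt : ∀ n : Fin 12, idx (pt n) = n := by decide

theorem idx_injective : Function.Injective idx :=
  Function.LeftInverse.injective pt_idx

theorem sum_zmod3 {M : Type*} [AddCommMonoid M] (f : ZMod 3 → M) :
    ∑ r : ZMod 3, f r = f 0 + f 1 + f 2 := Fin.sum_univ_three f

theorem three_eq_zero : (3 : ZMod 3) = 0 := by decide

/-- The tetracode word with first two entries `a`, `b`. -/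
def tetWord (a b : ZMod 3) : Fin 4 → ZMod 3 := ![a, b, a + b, 2 * a + b]

theorem mem_tetracode_iff (t : Fin 4 → ZMod 3) : t ∈ tetracode ↔ ∃ a b, tetWord a b = t := by
  have key : ∀ a b : ZMod 3,
      b • (![0, 1, 1, 1] : Fin 4 → ZMod 3) + a • ![1, 0, 1, 2] = tetWord a b := by decide
  rw [tetracode, Submodule.mem_span_pair]
  constructor
  · rintro ⟨b, a, h⟩
    exact ⟨a, b, (key a b).symm.trans h⟩
  · rintro ⟨a, b, h⟩
    exact ⟨b, a, (key a b).trans h⟩

/-- The six basis words. -/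
def basisWord (k : Fin 6) : ArrayPt → ZMod 3 :=
  fun p => (((rows.getD k []).getD (idx p) 0 : ℕ) : ZMod 3)

theorem basisWord_mem (k : Fin 6) : basisWord k ∈ ternaryGolayCode := by
  have key : ∀ k : Fin 6, ∀ a b : ZMod 3, ∀ i : Fin 4,
      ∑ r : ZMod 3, basisWord k (i, r) = -(∑ j : Fin 4, basisWord k (j, 0)) ∧
      ∑ j : Fin 4, basisWord k (j, tetWord a b j) = ∑ j : Fin 4, basisWord k (j, 0) := by
    decide +kernel
  refine ⟨∑ j : Fin 4, basisWord k (j, 0), fun i => (key k 0 0 i).1, fun t ht => ?_⟩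
  obtain ⟨a, b, rfl⟩ := (mem_tetracode_iff t).mp ht
  exact (key k a b 0).2

/-- Six coefficients. -/
abbrev Coeff : Type := ZMod 3 × ZMod 3 × ZMod 3 × ZMod 3 × ZMod 3 × ZMod 3

/-- The word with given coefficients on the basis. -/
def word (v : Coeff) : ArrayPt → ZMod 3 := fun p =>
  v.1 * basisWord 0 p + v.2.1 * basisWord 1 p + v.2.2.1 * basisWord 2 p
    + v.2.2.2.1 * basisWord 3 p + v.2.2.2.2.1 * basisWord 4 p + v.2.2.2.2.2 * basisWord 5 p

/-- The entries at the six free positions. -/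
def coeff (x : ArrayPt → ZMod 3) : Coeff :=
  (x (0, 0), x (0, 1), x (0, 2), x (1, 0), x (1, 1), x (2, 0))

theorem word_mem (v : Coeff) : word v ∈ ternaryGolayCode := by
  have h := fun k => Submodule.smul_mem ternaryGolayCode (x := basisWord k)
  exact add_mem (add_mem (add_mem (add_mem (add_mem (h 0 _ (basisWord_mem 0))
    (h 1 _ (basisWord_mem 1))) (h 2 _ (basisWord_mem 2))) (h 3 _ (basisWord_mem 3)))
    (h 4 _ (basisWord_mem 4))) (h 5 _ (basisWord_mem 5))

theorem coeff_word (v : Coeff) : coeff (word v) = v := by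
  revert v; decide +kernel

theorem word_injective : Function.Injective word := Function.LeftInverse.injective coeff_word

theorem word_coeff {x : ArrayPt → ZMod 3} (hx : x ∈ ternaryGolayCode) : word (coeff x) = x := by
  obtain ⟨s, hcol, htet0⟩ := hx
  have htet : ∀ a b : ZMod 3, ∑ i : Fin 4, x (i, tetWord a b i) = s := fun a b =>
    htet0 _ ((mem_tetracode_iff _).mpr ⟨a, b, rfl⟩)
  have h0 : x (0, 0) + x (0, 1) + x (0, 2) + s = 0 := by
    have h := hcol 0
    rw [sum_zmod3] at h
    linear_combination h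
  have h1 : x (1, 0) + x (1, 1) + x (1, 2) + s = 0 := by
    have h := hcol 1
    rw [sum_zmod3] at h
    linear_combination h
  have h2 : x (2, 0) + x (2, 1) + x (2, 2) + s = 0 := by
    have h := hcol 2
    rw [sum_zmod3] at h
    linear_combination h
  have h3 : x (3, 0) + x (3, 1) + x (3, 2) + s = 0 := by
    have h := hcol 3
    rw [sum_zmod3] at h
    linear_combination h
  have h4 : x (0, 0) + x (1, 0) + x (2, 0) + x (3, 0) - s = 0 := by
    have h := htet 0 0
    rw [Fin.sum_univ_four, show tetWord 0 0 0 = 0 by decide, show tetWord 0 0 1 = 0 by decide, show tetWord 0 0 2 = 0 by decide, show tetWord 0 0 3 = 0 by decide] at h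
    linear_combination h
  have h5 : x (0, 0) + x (1, 1) + x (2, 1) + x (3, 1) - s = 0 := by
    have h := htet 0 1
    rw [Fin.sum_univ_four, show tetWord 0 1 0 = 0 by decide, show tetWord 0 1 1 = 1 by decide, show tetWord 0 1 2 = 1 by decide, show tetWord 0 1 3 = 1 by decide] at h
    linear_combination h
  have h6 : x (0, 0) + x (1, 2) + x (2, 2) + x (3, 2) - s = 0 := by
    have h := htet 0 2
    rw [Fin.sum_univ_four, show tetWord 0 2 0 = 0 by decide, show tetWord 0 2 1 = 2 by decide, show tetWord 0 2 2 = 2 by decide, show tetWord 0 2 3 = 2 by decide] at h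
    linear_combination h
  have h7 : x (0, 1) + x (1, 0) + x (2, 1) + x (3, 2) - s = 0 := by
    have h := htet 1 0
    rw [Fin.sum_univ_four, show tetWord 1 0 0 = 1 by decide, show tetWord 1 0 1 = 0 by decide, show tetWord 1 0 2 = 1 by decide, show tetWord 1 0 3 = 2 by decide] at h
    linear_combination h
  have h8 : x (0, 1) + x (1, 1) + x (2, 2) + x (3, 0) - s = 0 := by
    have h := htet 1 1
    rw [Fin.sum_univ_four, show tetWord 1 1 0 = 1 by decide, show tetWord 1 1 1 = 1 by decide, show tetWord 1 1 2 = 2 by decide, show tetWord 1 1 3 = 0 by decide] at h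
    linear_combination h
  have h9 : x (0, 1) + x (1, 2) + x (2, 0) + x (3, 1) - s = 0 := by
    have h := htet 1 2
    rw [Fin.sum_univ_four, show tetWord 1 2 0 = 1 by decide, show tetWord 1 2 1 = 2 by decide, show tetWord 1 2 2 = 0 by decide, show tetWord 1 2 3 = 1 by decide] at h
    linear_combination h
  have h10 : x (0, 2) + x (1, 0) + x (2, 2) + x (3, 1) - s = 0 := by
    have h := htet 2 0
    rw [Fin.sum_univ_four, show tetWord 2 0 0 = 2 by decide, show tetWord 2 0 1 = 0 by decide, show tetWord 2 0 2 = 2 by decide, show tetWord 2 0 3 = 1 by decide] at h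
    linear_combination h
  have h11 : x (0, 2) + x (1, 1) + x (2, 0) + x (3, 2) - s = 0 := by
    have h := htet 2 1
    rw [Fin.sum_univ_four, show tetWord 2 1 0 = 2 by decide, show tetWord 2 1 1 = 1 by decide, show tetWord 2 1 2 = 0 by decide, show tetWord 2 1 3 = 2 by decide] at h
    linear_combination h
  have h12 : x (0, 2) + x (1, 2) + x (2, 1) + x (3, 0) - s = 0 := by
    have h := htet 2 2
    rw [Fin.sum_univ_four, show tetWord 2 2 0 = 2 by decide, show tetWord 2 2 1 = 2 by decide, show tetWord 2 2 2 = 1 by decide, show tetWord 2 2 3 = 0 by decide] at h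
    linear_combination h
  have e11 : x (3, 2) = 2 * x (0, 0) + 2 * x (0, 1) + x (0, 2) + 2 * x (1, 1) + 2 * x (2, 0) := by
    linear_combination 2 * h0 + 2 * h3 + h4 + h5 + 2 * h7 + ((-2) * x (0, 0) + (-2) * x (0, 1) + (-1) * x (0, 2) + (-1) * x (1, 0) + (-1) * x (1, 1) + (-1) * x (2, 0) + (-1) * x (2, 1) + (-1) * x (3, 0) + (-1) * x (3, 1) + (-1) * x (3, 2)) * three_eq_zero
  have e10 : x (3, 1) = x (0, 0) + x (0, 2) + x (1, 0) + x (1, 1) + 2 * x (2, 0) := by
    linear_combination 2 * h0 + 2 * h3 + h4 + 2 * h5 + h7 + ((-2) * x (0, 0) + (-1) * x (0, 1) + (-1) * x (0, 2) + (-1) * x (1, 0) + (-1) * x (1, 1) + (-1) * x (2, 0) + (-1) * x (2, 1) + (-1) * x (3, 0) + (-1) * x (3, 1) + (-1) * x (3, 2)) * three_eq_zero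
  have e9 : x (3, 0) = x (0, 0) + 2 * x (0, 1) + 2 * x (0, 2) + 2 * x (1, 0) + 2 * x (2, 0) := by
    linear_combination h0 + h4 + ((-1) * x (0, 0) + (-1) * x (0, 1) + (-1) * x (0, 2) + (-1) * x (1, 0) + (-1) * x (2, 0)) * three_eq_zero
  have e8 : x (2, 2) = x (0, 0) + 2 * x (0, 1) + x (1, 0) + 2 * x (1, 1) + x (2, 0) := by
    linear_combination h2 + 2 * h3 + h4 + h5 + h7 + ((-1) * x (0, 0) + (-1) * x (0, 1) + (-1) * x (1, 0) + (-1) * x (1, 1) + (-1) * x (2, 0) + (-1) * x (2, 1) + (-1) * x (3, 0) + (-1) * x (3, 1) + (-1) * x (3, 2)) * three_eq_zero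
  have e7 : x (2, 1) = 2 * x (0, 1) + x (0, 2) + 2 * x (1, 0) + x (1, 1) + x (2, 0) := by
    linear_combination 2 * h0 + h3 + 2 * h4 + 2 * h5 + 2 * h7 + ((-2) * x (0, 0) + (-2) * x (0, 1) + (-1) * x (0, 2) + (-2) * x (1, 0) + (-1) * x (1, 1) + (-1) * x (2, 0) + (-1) * x (2, 1) + (-1) * x (3, 0) + (-1) * x (3, 1) + (-1) * x (3, 2) + (1) * s) * three_eq_zero
  have e5 : x (1, 2) = x (0, 0) + x (0, 1) + x (0, 2) + 2 * x (1, 0) + 2 * x (1, 1) := by
    linear_combination 2 * h0 + 2 * h2 + 2 * h3 + h4 + h5 + h6 + ((-2) * x (0, 0) + (-1) * x (0, 1) + (-1) * x (0, 2) + (-1) * x (1, 0) + (-1) * x (1, 1) + (-1) * x (2, 0) + (-1) * x (2, 1) + (-1) * x (2, 2) + (-1) * x (3, 0) + (-1) * x (3, 1) + (-1) * x (3, 2) + (-1) * s) * three_eq_zero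
  funext p
  obtain ⟨n, rfl⟩ : ∃ n : Fin 12, pt n = p := ⟨⟨idx p, idx_lt p⟩, pt_idx p⟩
  simp only [word, coeff, basisWord, idx_pt]
  fin_cases n <;> simp [rows,
    show pt 0 = ((0 : Fin 4), (0 : ZMod 3)) by decide,
    show pt 1 = ((0 : Fin 4), (1 : ZMod 3)) by decide,
    show pt 2 = ((0 : Fin 4), (2 : ZMod 3)) by decide,
    show pt 3 = ((1 : Fin 4), (0 : ZMod 3)) by decide,
    show pt 4 = ((1 : Fin 4), (1 : ZMod 3)) by decide,
    show pt 5 = ((1 : Fin 4), (2 : ZMod 3)) by decide,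
    show pt 6 = ((2 : Fin 4), (0 : ZMod 3)) by decide,
    show pt 7 = ((2 : Fin 4), (1 : ZMod 3)) by decide,
    show pt 8 = ((2 : Fin 4), (2 : ZMod 3)) by decide,
    show pt 9 = ((3 : Fin 4), (0 : ZMod 3)) by decide,
    show pt 10 = ((3 : Fin 4), (1 : ZMod 3)) by decide,
    show pt 11 = ((3 : Fin 4), (2 : ZMod 3)) by decide] <;> first
    | rfl
    | (rw [e11]; ring)
    | (rw [e10]; ring)
    | (rw [e9]; ring)
    | (rw [e8]; ring)
    | (rw [e7]; ring)
    | (rw [e5]; ring)

theorem mem_iff (x : ArrayPt → ZMod 3) : x ∈ ternaryGolayCode ↔ word (coeff x) = x :=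
  ⟨word_coeff, fun h => h ▸ word_mem _⟩

theorem code_eq_range : (ternaryGolayCode : Set (ArrayPt → ZMod 3)) = Set.range word := by
  ext x
  exact ⟨fun h => ⟨_, word_coeff h⟩, fun ⟨v, hv⟩ => hv ▸ word_mem v⟩

/-- A counting principle for subsets of the code. -/
theorem ncard_code_filter (P : (ArrayPt → ZMod 3) → Prop) [DecidablePred P] :
    {x : ArrayPt → ZMod 3 | x ∈ ternaryGolayCode ∧ P x}.ncard
      = (Finset.univ.filter fun v => P (word v)).card := by
  rw [← Finset.card_image_of_injective _ word_injective, ← Set.ncard_coe_finset]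
  congr 1
  ext x
  simp only [Finset.coe_image, Finset.coe_filter, Finset.mem_univ, true_and]
  exact ⟨fun ⟨h, hp⟩ => ⟨coeff x, by rw [Set.mem_setOf_eq, word_coeff h]; exact hp, word_coeff h⟩,
    fun ⟨v, hv, he⟩ => he ▸ ⟨word_mem v, hv⟩⟩

/-- The only diagonal maps preserving the code are constant. -/
theorem diagonal_const (c : ArrayPt → (ZMod 3)ˣ)
    (h : ∀ x ∈ ternaryGolayCode, monomialMap 1 c x ∈ ternaryGolayCode) (p : ArrayPt) :
    c p = c (1, 2) := by
  have hm : ∀ (k : Fin 6) (q : ArrayPt),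
      (c q : ZMod 3) * basisWord k q = word (coeff (monomialMap 1 c (basisWord k))) q := by
    intro k q
    rw [word_coeff (h _ (basisWord_mem k))]
    rfl
  have hk : ∀ (k : Fin 6) (q : ArrayPt), basisWord k q ≠ 0 →
      (c q : ZMod 3) = c (pt ([0, 1, 2, 3, 4, 6].getD k 0)) := by
    have table : ∀ (k : Fin 6) (a : ZMod 3) (q : ArrayPt),
        word (coeff (fun r => if r = pt ([0, 1, 2, 3, 4, 6].getD k 0) then a else 0)) q
          = a * basisWord k q := by decide +kernel
    have diag : ∀ (k j : Fin 6),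
        basisWord k (pt ([0, 1, 2, 3, 4, 6].getD j 0)) = if j = k then 1 else 0 := by decide +kernel
    intro k q hq
    have h1 := hm k q
    have hc : coeff (monomialMap 1 c (basisWord k)) = coeff (fun r =>
        if r = pt ([0, 1, 2, 3, 4, 6].getD k 0)
        then (c (pt ([0, 1, 2, 3, 4, 6].getD k 0)) : ZMod 3) else 0) := by
      have hv : ∀ r, monomialMap 1 c (basisWord k) r = (c r : ZMod 3) * basisWord k r := fun r => rfl
      have key : ∀ j : Fin 6,
          monomialMap 1 c (basisWord k) (pt ([0, 1, 2, 3, 4, 6].getD j 0)) =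
            if pt ([0, 1, 2, 3, 4, 6].getD j 0) = pt ([0, 1, 2, 3, 4, 6].getD k 0)
            then (c (pt ([0, 1, 2, 3, 4, 6].getD k 0)) : ZMod 3) else 0 := by
        intro j
        by_cases hjk : j = k
        · subst hjk
          rw [if_pos rfl]
          rw [hv, diag, if_pos rfl, mul_one]
        · rw [if_neg ((show ∀ j k : Fin 6, j ≠ k → pt ([0, 1, 2, 3, 4, 6].getD j 0) ≠
            pt ([0, 1, 2, 3, 4, 6].getD k 0) by decide) j k hjk)]
          rw [hv, diag, if_neg hjk, mul_zero]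
      exact Prod.ext (key 0) (Prod.ext (key 1) (Prod.ext (key 2) (Prod.ext (key 3)
        (Prod.ext (key 4) (key 5)))))
    rw [hc, table] at h1
    exact mul_right_cancel₀ hq h1
  have cover : ∀ q : ArrayPt, ∃ k : Fin 6, basisWord k q ≠ 0 := by decide +kernel
  have base : ∀ k : Fin 6, k ≠ 5 → basisWord k (1, 2) ≠ 0 := by decide +kernel
  obtain ⟨k, hkp⟩ := cover p
  refine Units.ext ((hk k p hkp).trans ?_)
  by_cases hk5 : k = 5
  · subst hk5
    rw [← hk 5 (2, 1) (by decide +kernel), hk 1 (2, 1) (by decide +kernel),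
      ← hk 1 (1, 2) (base 1 (by decide))]
  · exact (hk k (1, 2) (base k hk5)).symm

end Cfsg.Agent.TernaryGolay
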