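import Cfsg.Agent.Lib.TernaryGolay

/-!
The hexads (supports of weight-6 words) of the ternary Golay code, and their automorphisms.
-/

set_option autoImplicit false
-- kernel computations one after another, for peak memory
set_option Elab.async false

open scoped Pointwise

namespace Cfsg.Agent.TernaryHexads

open Cfsg
open TernaryGolay TernaryGolayData

/-- Finset of positions coded by a 12-bit mask. -/
def dec (m : ℕ) : Finset ArrayPt := Finset.univ.filter fun p => m.testBit (idx p) = true

/-- Mask of a set of positions. -/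
def enc (s : Finset ArrayPt) : ℕ := ∑ p ∈ s, 2 ^ idx p

theorem enc_dec_lt {m : ℕ} (hm : m < 4096) : enc (dec m) = m := by
  have key : ∀ a b : Fin 64, enc (dec (64 * a.val + b.val)) = 64 * a.val + b.val := by decide +kernel
  have := key ⟨m / 64, by omega⟩ ⟨m % 64, Nat.mod_lt _ (by decide)⟩
  simpa only [Nat.div_add_mod] using this

theorem dec_bijective : Function.Bijective (fun m : Fin 4096 => dec m) := by
  rw [Fintype.bijective_iff_injective_and_card]
  refine ⟨fun a b h => ?_, by simp [ArrayPt]⟩
  have h' : dec a.val = dec b.val := h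
  exact Fin.ext (by rw [← enc_dec_lt a.isLt, h', enc_dec_lt b.isLt])

theorem exists_dec (s : Finset ArrayPt) : ∃ m, m < 4096 ∧ dec m = s := by
  obtain ⟨m, hm⟩ := dec_bijective.2 s
  exact ⟨m, m.2, hm⟩

theorem dec_enc (s : Finset ArrayPt) : dec (enc s) = s := by
  obtain ⟨m, hm, rfl⟩ := exists_dec s
  rw [enc_dec_lt hm]

theorem dec_subset_iff {a b : ℕ} (ha : a < 4096) : dec a ⊆ dec b ↔ b &&& a = a := by
  constructor
  · intro h
    have h' : dec (b &&& a) = dec a := by
      ext p
      have := @h p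
      simp only [dec, Finset.mem_filter, Finset.mem_univ, true_and, Nat.testBit_and,
        Bool.and_eq_true] at this ⊢
      exact ⟨fun hp => hp.2, fun hp => ⟨this hp, hp⟩⟩
    have hlt : b &&& a < 4096 := lt_of_le_of_lt Nat.and_le_right ha
    rw [← enc_dec_lt hlt, h', enc_dec_lt ha]
  · intro h p hp
    rw [← h] at hp
    simp only [dec, Finset.mem_filter, Finset.mem_univ, true_and, Nat.testBit_and,
      Bool.and_eq_true] at hp ⊢
    exact hp.1

/-- The hexads of the ternary code. -/
def hexads : Set (Finset ArrayPt) :=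
  {h | ∃ x ∈ ternaryGolayCode, ternarySupport x = h ∧ h.card = 6}

theorem hexMasks_lt : ∀ b ∈ hexMasks, b < 4096 := by decide +kernel

theorem hexads_eq : hexads = dec '' {b | b ∈ hexMasks} := by
  ext h
  constructor
  · rintro ⟨x, hx, rfl, hc⟩
    have key : ∀ v : Coeff, (ternarySupport (word v)).card = 6 →
        hexMasks.contains (enc (ternarySupport (word v))) = true := by decide +kernel
    rw [← word_coeff hx] at hc ⊢
    exact ⟨_, List.contains_iff_mem.mp (key _ hc), dec_enc _⟩
  · rintro ⟨b, hb, rfl⟩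
    have key : ∀ k : Fin 132,
        (fun l : List ℕ => ternarySupport (word ((l.getD 0 0 : ℕ), (l.getD 1 0 : ℕ), (l.getD 2 0 : ℕ),
          (l.getD 3 0 : ℕ), (l.getD 4 0 : ℕ), (l.getD 5 0 : ℕ)))) (hexWitness.getD k [])
          = dec (hexMasks.getD k 0) ∧ (dec (hexMasks.getD k 0)).card = 6 := by decide +kernel
    obtain ⟨k, hk, rfl⟩ := List.mem_iff_getElem.mp hb
    have hlen : hexMasks.length = 132 := by decide +kernel
    obtain ⟨h1, h2⟩ := key ⟨k, hlen ▸ hk⟩
    simp only [List.getD_eq_getElem _ _ hk] at h1 h2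
    exact ⟨_, word_mem _, h1, h2⟩

theorem hexads_ncard : hexads.ncard = 132 := by
  rw [hexads_eq, Set.InjOn.ncard_image]
  · rw [show {b | b ∈ hexMasks} = (hexMasks.toFinset : Set ℕ) by ext; simp, Set.ncard_coe_finset]
    decide +kernel
  · intro a ha b hb h
    rw [← enc_dec_lt (hexMasks_lt a ha), h, enc_dec_lt (hexMasks_lt b hb)]

theorem hexads_steiner : IsSteinerSystem 5 6 hexads := by
  refine ⟨fun h ⟨x, hx, hs, hc⟩ => hc, fun s hs => ?_⟩
  obtain ⟨m, hm, rfl⟩ := exists_dec s
  have key : ∀ u v : Fin 64, (dec (64 * u.val + v.val)).card = 5 →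
      (hexMasks.filter fun b => b &&& (64 * u.val + v.val) == (64 * u.val + v.val)).length = 1 := by
    decide +kernel
  have hk := key ⟨m / 64, by omega⟩ ⟨m % 64, Nat.mod_lt _ (by decide)⟩
  simp only [Nat.div_add_mod] at hk
  obtain ⟨a, ha⟩ := List.length_eq_one_iff.mp (hk hs)
  have hiff : ∀ b, (b ∈ hexMasks ∧ b &&& m = m) ↔ b = a := by
    intro b
    have := congrArg (fun l : List ℕ => b ∈ l) ha
    simpa using Iff.of_eq this
  obtain ⟨ham, hasub⟩ := (hiff a).mpr rfl
  rw [hexads_eq]
  refine ⟨dec a, ⟨⟨a, ham, rfl⟩, (dec_subset_iff hm).mpr hasub⟩, ?_⟩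
  rintro _ ⟨⟨b, hb, rfl⟩, hsub⟩
  rw [(hiff b).mp ⟨hb, (dec_subset_iff hm).mp hsub⟩]

/-- A permutation of positions admitting signs that make it preserve the code. -/
def Liftable (σ : Equiv.Perm ArrayPt) : Prop :=
  ∃ c : ArrayPt → (ZMod 3)ˣ, ∀ x ∈ ternaryGolayCode, monomialMap σ c x ∈ ternaryGolayCode

theorem liftable_one : Liftable 1 :=
  ⟨fun _ => 1, fun x hx => by
    have : monomialMap (1 : Equiv.Perm ArrayPt) (fun _ => (1 : (ZMod 3)ˣ)) x = x := by
      funext p; simp [monomialMap, Equiv.Perm.one_def]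
    rw [this]; exact hx⟩

theorem Liftable.mul {σ τ : Equiv.Perm ArrayPt} (hσ : Liftable σ) (hτ : Liftable τ) :
    Liftable (σ * τ) := by
  obtain ⟨c, hc⟩ := hσ
  obtain ⟨d, hd⟩ := hτ
  refine ⟨fun p => c p * d (σ.symm p), fun x hx => ?_⟩
  have : monomialMap (σ * τ) (fun p => c p * d (σ.symm p)) x
      = monomialMap σ c (monomialMap τ d x) := by
    funext p
    simp [monomialMap, Equiv.Perm.mul_def, mul_assoc]
  rw [this]
  exact hc _ (hd _ hx)

theorem support_monomialMap (σ : Equiv.Perm ArrayPt) (c : ArrayPt → (ZMod 3)ˣ)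
    (x : ArrayPt → ZMod 3) :
    ternarySupport (monomialMap σ c x) = (ternarySupport x).image σ := by
  ext p
  rw [Finset.mem_image]
  unfold ternarySupport
  rw [Finset.mem_filter]
  constructor
  · intro h
    exact ⟨σ.symm p, Finset.mem_filter.mpr ⟨Finset.mem_univ _, right_ne_zero_of_mul h.2⟩,
      σ.apply_symm_apply p⟩
  · rintro ⟨q, hq, rfl⟩
    refine ⟨Finset.mem_univ _, ?_⟩
    simp only [monomialMap, σ.symm_apply_apply]
    exact mul_ne_zero (Units.ne_zero _) (Finset.mem_filter.mp hq).2

theorem Liftable.mem_aut {σ : Equiv.Perm ArrayPt} (hσ : Liftable σ) :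
    σ ∈ setSystemAut hexads := by
  obtain ⟨c, hc⟩ := hσ
  rw [MulAction.mem_stabilizer_iff]
  refine Set.eq_of_subset_of_ncard_le ?_ (le_of_eq (Set.ncard_smul_set σ hexads).symm)
    (Set.toFinite _)
  rintro _ ⟨h, ⟨x, hx, hs, hcard⟩, rfl⟩
  refine ⟨monomialMap σ c x, hc x hx, ?_, ?_⟩
  · rw [support_monomialMap, hs]
    rfl
  · show (σ • h).card = 6
    rw [Finset.card_smul_finset]; exact hcard

/-- The permutation given by a list of images and a list of inverse images. -/
def mkPerm (e : List ℕ × List ℕ × List ℕ) : Equiv.Perm ArrayPt :=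
  if h : (∀ p, pt (e.2.1.getD (idx (pt (e.1.getD (idx p) 0))) 0) = p) ∧
      (∀ p, pt (e.1.getD (idx (pt (e.2.1.getD (idx p) 0))) 0) = p) then
    ⟨fun p => pt (e.1.getD (idx p) 0), fun p => pt (e.2.1.getD (idx p) 0), h.1, h.2⟩
  else 1

/-- The signs given by a table entry. -/
def mkSign (e : List ℕ × List ℕ × List ℕ) (p : ArrayPt) : (ZMod 3)ˣ :=
  if e.2.2.getD (idx p) 0 = 2 then -1 else 1

theorem liftable_of_basis (σ : Equiv.Perm ArrayPt) (c : ArrayPt → (ZMod 3)ˣ)
    (h : ∀ k : Fin 6, word (coeff (monomialMap σ c (basisWord k))) = monomialMap σ c (basisWord k)) :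
    Liftable σ := by
  refine ⟨c, fun x hx => ?_⟩
  rw [← word_coeff hx]
  generalize coeff x = v
  have hk : ∀ k, monomialMap σ c (basisWord k) ∈ ternaryGolayCode := fun k => (mem_iff _).mpr (h k)
  have hlin : monomialMap σ c (word v) =
      v.1 • monomialMap σ c (basisWord 0) + v.2.1 • monomialMap σ c (basisWord 1)
      + v.2.2.1 • monomialMap σ c (basisWord 2) + v.2.2.2.1 • monomialMap σ c (basisWord 3)
      + v.2.2.2.2.1 • monomialMap σ c (basisWord 4) + v.2.2.2.2.2 • monomialMap σ c (basisWord 5) := by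
    funext p
    simp only [monomialMap, word, Pi.add_apply, Pi.smul_apply, smul_eq_mul]
    ring
  rw [hlin]
  have hs := fun k (a : ZMod 3) => Submodule.smul_mem _ a (hk k)
  exact add_mem (add_mem (add_mem (add_mem (add_mem (hs 0 _) (hs 1 _)) (hs 2 _)) (hs 3 _))
    (hs 4 _)) (hs 5 _)

/-- What a level table must satisfy. -/
def LevelOK (k : ℕ) (T : List (List ℕ × List ℕ × List ℕ)) : Prop :=
  ∀ n : Fin 12, k ≤ n.val →
    (∀ j : Fin 6, word (coeff (monomialMap (mkPerm (T.getD (n.val - k) default))
        (mkSign (T.getD (n.val - k) default)) (basisWord j)))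
      = monomialMap (mkPerm (T.getD (n.val - k) default)) (mkSign (T.getD (n.val - k) default))
        (basisWord j)) ∧
    (∀ j : Fin 12, j.val < k → mkPerm (T.getD (n.val - k) default) (pt j) = pt j) ∧
    mkPerm (T.getD (n.val - k) default) (pt k) = pt n

instance levelOKDecidable (k : ℕ) (T : List (List ℕ × List ℕ × List ℕ)) : Decidable (LevelOK k T) := by
  unfold LevelOK; infer_instance

theorem LevelOK.exists_move {k : ℕ} {T : List (List ℕ × List ℕ × List ℕ)} (h : LevelOK k T)
    (q : ArrayPt) (hq : k ≤ idx q) :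
    ∃ g, Liftable g ∧ (∀ j : Fin 12, j.val < k → g (pt j) = pt j) ∧ g (pt k) = q := by
  obtain ⟨h1, h2, h3⟩ := h ⟨idx q, idx_lt q⟩ hq
  exact ⟨_, liftable_of_basis _ _ h1, h2, h3.trans (pt_idx q)⟩

theorem level0_ok : LevelOK 0 level0 := by decide +kernel
theorem level1_ok : LevelOK 1 level1 := by decide +kernel
theorem level2_ok : LevelOK 2 level2 := by decide +kernel
theorem level3_ok : LevelOK 3 level3 := by decide +kernel
theorem level4_ok : LevelOK 4 level4 := by decide +kernel

theorem exists_move {k : ℕ} (hk : k < 5) (q : ArrayPt) (hq : k ≤ idx q) :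
    ∃ g, Liftable g ∧ (∀ j : Fin 12, j.val < k → g (pt j) = pt j) ∧ g (pt k) = q := by
  interval_cases k
  · exact level0_ok.exists_move q hq
  · exact level1_ok.exists_move q hq
  · exact level2_ok.exists_move q hq
  · exact level3_ok.exists_move q hq
  · exact level4_ok.exists_move q hq

/-- The five base positions. -/
def base : Fin 5 ↪ ArrayPt := ⟨fun j => pt j.val, by decide⟩

theorem exists_liftable (e : Fin 5 ↪ ArrayPt) : ∃ g, Liftable g ∧ ∀ j : Fin 5, g (base j) = e j := by
  suffices ∀ k ≤ 5, ∃ g, Liftable g ∧ ∀ j : Fin 5, j.val < k → g (base j) = e j by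
    obtain ⟨g, hg, h⟩ := this 5 le_rfl
    exact ⟨g, hg, fun j => h j j.isLt⟩
  intro k hk
  induction k with
  | zero => exact ⟨1, liftable_one, fun j hj => absurd hj (by omega)⟩
  | succ k ih =>
    obtain ⟨g, hg, hgj⟩ := ih (by omega)
    obtain ⟨q, hq⟩ : ∃ q, q = g.symm (e ⟨k, by omega⟩) := ⟨_, rfl⟩
    have hqk : k ≤ idx q := by
      by_contra hlt
      push Not at hlt
      have h1 := hgj ⟨idx q, by omega⟩ hlt
      have h2 : base ⟨idx q, by omega⟩ = q := pt_idx q
      rw [h2] at h1
      have h3 : g q = e ⟨k, by omega⟩ := by rw [hq, Equiv.apply_symm_apply]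
      have := congrArg Fin.val (e.injective (h1.symm.trans h3))
      simp only at this
      omega
    obtain ⟨h, hh, hfix, hmove⟩ := exists_move (by omega) q hqk
    refine ⟨g * h, hg.mul hh, fun j hj => ?_⟩
    rcases Nat.lt_or_eq_of_le (Nat.le_of_lt_succ hj) with hlt | heq
    · rw [Equiv.Perm.mul_apply, show h (base j) = base j from hfix ⟨j.val, by omega⟩ hlt, hgj j hlt]
    · obtain rfl : j = ⟨k, Nat.lt_of_succ_le hk⟩ := Fin.ext heq
      rw [Equiv.Perm.mul_apply, show h (base ⟨k, _⟩) = q from hmove, hq, Equiv.apply_symm_apply]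

/-- Image of a mask under a map of indices. -/
def imgMask (l : List ℕ) (b : ℕ) : ℕ :=
  ∑ n : Fin 12, if b.testBit n.val then 2 ^ (if n.val < 5 then n.val else l.getD (n.val - 5) 0) else 0

theorem aut_fix_base {σ : Equiv.Perm ArrayPt} (hσ : σ ∈ setSystemAut hexads)
    (hfix : ∀ j : Fin 5, σ (base j) = base j) : σ = 1 := by
  set l : List ℕ := (List.range' 5 7).map (fun n => idx (σ (pt n))) with hl
  have hfix' : ∀ n : ℕ, n < 5 → σ (pt n) = pt n := fun n hn => hfix ⟨n, hn⟩
  have hnd : l.Nodup := by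
    refine List.Nodup.map_on ?_ (List.nodup_range' ..)
    intro a ha b hb hab
    rw [List.mem_range'_1] at ha hb
    have := congrArg idx (σ.injective (idx_injective hab))
    rwa [show idx (pt a) = a from idx_pt ⟨a, by omega⟩, show idx (pt b) = b from idx_pt ⟨b, by omega⟩] at this
  have hmem : l ⊆ List.range' 5 7 := by
    intro v hv
    obtain ⟨n, hn, rfl⟩ := List.mem_map.mp hv
    rw [List.mem_range'_1] at hn ⊢
    refine ⟨?_, idx_lt _⟩
    by_contra hlt
    push Not at hlt
    have h1 : σ (pt (idx (σ (pt n)))) = σ (pt n) := by rw [hfix' _ hlt, pt_idx]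
    have := congrArg idx (σ.injective h1)
    rw [show idx (pt n) = n from idx_pt ⟨n, by omega⟩, idx_pt ⟨idx (σ (pt n)), idx_lt _⟩] at this
    simp only at this
    omega
  have hperm : l ∈ (List.range' 5 7).permutations' := by
    rw [List.mem_permutations']
    exact (List.subperm_of_subset hnd hmem).perm_of_length_le (by simp [hl])
  have himg : ∀ b ∈ hexMasks, imgMask l b ∈ hexMasks := by
    intro b hb
    have hd : σ • dec b ∈ hexads := by
      have h1 : σ • dec b ∈ σ • hexads :=
        Set.smul_mem_smul_set (by rw [hexads_eq]; exact ⟨b, hb, rfl⟩)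
      rwa [MulAction.mem_stabilizer_iff.mp hσ] at h1
    rw [hexads_eq] at hd
    obtain ⟨a, ha, hae⟩ := hd
    have : imgMask l b = enc (σ • dec b) := by
      rw [show σ • dec b = (dec b).image σ from rfl, enc,
        Finset.sum_image σ.injective.injOn, dec, Finset.sum_filter]
      unfold imgMask
      refine Fintype.sum_bijective (fun n : Fin 12 => pt n.val) ?_ _ _ ?_
      · exact ⟨fun a b h => Fin.ext (by rw [← idx_pt a, ← idx_pt b]; exact congrArg idx h),
          fun p => ⟨⟨idx p, idx_lt p⟩, pt_idx p⟩⟩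
      · intro n
        simp only [idx_pt]
        by_cases hb' : b.testBit n.val = true
        · rw [if_pos hb', if_pos hb']
          congr 1
          by_cases hn : n.val < 5
          · rw [if_pos hn, hfix' _ hn, idx_pt]
          · rw [if_neg hn, hl, List.getD_eq_getElem _ _ (by simp; omega)]
            simp [show 5 + (n.val - 5) = n.val by omega]
        · rw [if_neg hb', if_neg hb']
    rw [this, ← hae, enc_dec_lt (hexMasks_lt a ha)]
    exact ha
  -- one kernel computation for each first image keeps the peak memory low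
  have key : ∀ v ∈ List.range' 5 7, ((List.range' 5 7).permutations'.all fun l =>
      !(l.getD 0 0 == v) || (l == List.range' 5 7 ||
        hexMasks.any fun b => !(hexMasks.contains (imgMask l b)))) = true := by
    intro v hv
    rw [List.mem_range'_1] at hv
    obtain ⟨hv1, hv2⟩ := hv
    interval_cases v <;> decide +kernel
  have hv : l.getD 0 0 ∈ List.range' 5 7 := by
    rw [List.getD_eq_getElem _ _ (by simp [hl])]
    exact hmem (List.getElem_mem _)
  have hid := List.all_eq_true.mp (key _ hv) l hperm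
  rw [beq_self_eq_true, Bool.not_true, Bool.false_or] at hid
  simp only [Bool.or_eq_true, beq_iff_eq, List.any_eq_true, Bool.not_eq_true',
    ← Bool.not_eq_true, List.contains_iff_mem] at hid
  rcases hid with hid | ⟨b, hb, hnb⟩
  · apply Equiv.ext
    intro p
    rw [Equiv.Perm.one_apply]
    by_cases hp : idx p < 5
    · have := hfix' _ hp
      rwa [pt_idx] at this
    · have h1 := congrArg (fun L : List ℕ => L.getD (idx p - 5) 0) hid
      simp only [hl] at h1
      rw [List.getD_eq_getElem _ _ (by have := idx_lt p; simp; omega),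
        List.getD_eq_getElem _ _ (by have := idx_lt p; simp; omega)] at h1
      simp [show 5 + (idx p - 5) = idx p by omega, pt_idx] at h1
      exact idx_injective h1
  · exact absurd (himg b hb) hnb

theorem Liftable.of_mem_aut {σ : Equiv.Perm ArrayPt} (hσ : σ ∈ setSystemAut hexads) :
    Liftable σ := by
  obtain ⟨g, hg, hgb⟩ := exists_liftable (base.trans σ.toEmbedding)
  have : g⁻¹ * σ = 1 := by
    refine aut_fix_base (mul_mem (inv_mem hg.mem_aut) hσ) fun j => ?_
    rw [Equiv.Perm.mul_apply, Equiv.Perm.inv_eq_iff_eq]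
    exact (hgb j).symm
  rwa [← inv_mul_eq_one.mp this]

theorem liftable_iff (σ : Equiv.Perm ArrayPt) : Liftable σ ↔ σ ∈ setSystemAut hexads :=
  ⟨Liftable.mem_aut, Liftable.of_mem_aut⟩

theorem card_aut : Nat.card (setSystemAut hexads) = 95040 := by
  have hb : Function.Bijective
      (fun σ : setSystemAut hexads => base.trans (σ : Equiv.Perm ArrayPt).toEmbedding) := by
    constructor
    · rintro ⟨a, ha⟩ ⟨b, hb⟩ h
      have : b⁻¹ * a = 1 := by
        refine aut_fix_base (mul_mem (inv_mem hb) ha) fun j => ?_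
        rw [Equiv.Perm.mul_apply, Equiv.Perm.inv_eq_iff_eq]
        exact congrFun (congrArg DFunLike.coe h) j
      exact Subtype.ext (inv_mul_eq_one.mp this).symm
    · intro e
      obtain ⟨g, hg, hge⟩ := exists_liftable e
      exact ⟨⟨g, hg.mem_aut⟩, Function.Embedding.ext hge⟩
  rw [Nat.card_eq_of_bijective _ hb, Nat.card_eq_fintype_card, Fintype.card_embedding_eq]
  simp [ArrayPt, Fintype.card_prod, ZMod.card, Nat.descFactorial]

end Cfsg.Agent.TernaryHexads
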