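import Cfsg.Agent.Lib.ThompsonOffender39Basic

/-!
Minimal abelian subgroups of largest order outside a normal `p`-subgroup act with small Engel length on
abelian normal subgroups.
-/

set_option autoImplicit false
set_option linter.unusedSectionVars false

namespace Cfsg.Agent.ThompsonOffender39

open Subgroup
open scoped commutatorElement Pointwise

variable {G : Type*} [Group G] {A : Subgroup G}

theorem commE_eq_one {a b : G} (h : a * b = b * a) : ⁅a, b⁆ = 1 :=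
  commutatorElement_eq_one_iff_mul_comm.mpr h

theorem comm_swap {b c w : G} (hbc : b * c = c * b) (h : ⁅b, w⁆ * ⁅c, w⁆ = ⁅c, w⁆ * ⁅b, w⁆) :
    ⁅b, ⁅c, w⁆⁆ = ⁅c, ⁅b, w⁆⁆ := by
  have e1 : b * ⁅c, w⁆ * b⁻¹ = ⁅b * c, w⁆ * (⁅b, w⁆)⁻¹ := by
    simp [commutatorElement_def, mul_assoc]
  have e2 : c * ⁅b, w⁆ * c⁻¹ = ⁅c * b, w⁆ * (⁅c, w⁆)⁻¹ := by
    simp [commutatorElement_def, mul_assoc]
  rw [commutatorElement_def b, commutatorElement_def c ⁅b, w⁆, e1, e2, hbc, mul_assoc, mul_assoc,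
    ← mul_inv_rev, ← mul_inv_rev, h]

theorem mem_F_succ {X : Subgroup G} {a x : G} {n : ℕ} (ha : a ∈ A) (hx : x ∈ F A X n) :
    ⁅a, x⁆ ∈ F A X (n + 1) :=
  commutator_mem_commutator ha hx

theorem F_succ_le {X N : Subgroup G} {n : ℕ} (h : ∀ a ∈ A, ∀ x ∈ F A X n, ⁅a, x⁆ ∈ N) :
    F A X (n + 1) ≤ N :=
  commutator_le.mpr h

theorem F_mono {X Y : Subgroup G} (h : X ≤ Y) : ∀ n, F A X n ≤ F A Y n
  | 0 => h
  | n + 1 => commutator_mono le_rfl (F_mono h n)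

theorem F_add (X : Subgroup G) (m : ℕ) : ∀ n, F A (F A X m) n = F A X (m + n)
  | 0 => rfl
  | n + 1 => by show ⁅A, _⁆ = ⁅A, _⁆; rw [F_add X m n]; rfl

theorem F_le_normal {X K : Subgroup G} [K.Normal] (h : X ≤ K) : ∀ n, F A X n ≤ K
  | 0 => h
  | n + 1 => (commutator_mono le_rfl (F_le_normal h n)).trans (commutator_le_right A K)

/-- Invariance under `A` passes along the iterated commutators. -/
theorem F_conj {X : Subgroup G} (h : ∀ a ∈ A, ∀ x ∈ X, a * x * a⁻¹ ∈ X) :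
    ∀ n, ∀ a ∈ A, ∀ x ∈ F A X n, a * x * a⁻¹ ∈ F A X n
  | 0 => h
  | n + 1 => by
    intro a ha x hx
    have hle : F A X (n + 1) ≤ (F A X (n + 1)).comap (MulAut.conj a).toMonoidHom :=
      F_succ_le fun b hb y hy => by
        show a * ⁅b, y⁆ * a⁻¹ ∈ F A X (n + 1)
        rw [show a * ⁅b, y⁆ * a⁻¹ = ⁅a * b * a⁻¹, a * y * a⁻¹⁆ by simp [commutatorElement_def, mul_assoc]]
        exact mem_F_succ (mul_mem (mul_mem ha hb) (inv_mem ha)) (F_conj h n a ha y hy)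
    exact hle hx

theorem F_succ_le_self {X : Subgroup G} (h : ∀ a ∈ A, ∀ x ∈ X, a * x * a⁻¹ ∈ X) (n : ℕ) :
    F A X (n + 1) ≤ F A X n :=
  F_succ_le fun a ha x hx => by
    rw [commutatorElement_def]; exact mul_mem (F_conj h n a ha x hx) (inv_mem hx)

theorem F_anti {X : Subgroup G} (h : ∀ a ∈ A, ∀ x ∈ X, a * x * a⁻¹ ∈ X) {m n : ℕ} (hmn : m ≤ n) :
    F A X n ≤ F A X m := by
  induction hmn with
  | refl => exact le_rfl
  | step _ ih => exact (F_succ_le_self h _).trans ih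

theorem Mc_conj (hA : ∀ a ∈ A, ∀ b ∈ A, a * b = b * a) (x : G) :
    ∀ a ∈ A, ∀ m ∈ Mc A x, a * m * a⁻¹ ∈ Mc A x := by
  intro a ha m hm
  have hle : Mc A x ≤ (Mc A x).comap (MulAut.conj a).toMonoidHom := by
    refine (closure_le _).mpr ?_
    rintro _ ⟨b, hb, rfl⟩
    show a * ⁅b, x⁆ * a⁻¹ ∈ Mc A x
    rw [show a * ⁅b, x⁆ * a⁻¹ = ⁅a * b, x⁆ * (⁅a, x⁆)⁻¹ by simp [commutatorElement_def, mul_assoc]]
    exact mul_mem (subset_closure ⟨_, mul_mem ha hb, rfl⟩) (inv_mem (subset_closure ⟨a, ha, rfl⟩))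
  exact hle hm

theorem F_le_lcs {X T : Subgroup G} (hA : A ≤ T) (hX : X ≤ T) :
    ∀ n, F A X n ≤ T.lowerCentralSeries n
  | 0 => by rw [Subgroup.lowerCentralSeries_zero]; exact hX
  | n + 1 => by
    rw [Subgroup.lowerCentralSeries_succ, commutator_comm]
    exact commutator_mono hA (F_le_lcs hA hX n)

variable [Finite G] {p : ℕ} [hp : Fact p.Prime]

theorem exists_F_eq_bot {X T : Subgroup G} (hT : IsPGroup p T) (hA : A ≤ T) (hX : X ≤ T) :
    ∃ n, F A X n = ⊥ := by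
  haveI : Group.IsNilpotent ↥T := hT.isNilpotent
  obtain ⟨n, hn⟩ := (Subgroup.isNilpotent_iff_lowerCentralSeries T).mp inferInstance
  exact ⟨n, le_bot_iff.mp ((F_le_lcs hA hX n).trans hn.le)⟩

theorem eq_bot_of_le_comm {X T : Subgroup G} (hT : IsPGroup p T) (hA : A ≤ T) (hX : X ≤ T)
    (h : X ≤ ⁅A, X⁆) : X = ⊥ := by
  obtain ⟨n, hn⟩ := exists_F_eq_bot hT hA hX
  have key : ∀ m, X ≤ F A X m := by
    intro m
    induction m with
    | zero => exact le_rfl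
    | succ m ih => exact h.trans (commutator_mono le_rfl ih)
  exact le_bot_iff.mp ((key n).trans hn.le)

/-- `A` has least image modulo `Q` among the abelian subgroups of largest order outside `Q`, and among
those the largest intersection with `R`. -/
structure Off (p : ℕ) (Q T R A : Subgroup G) : Prop where
  pT : IsPGroup p T
  QT : Q ≤ T
  nQ : Q.Normal
  maxAb : MaxAb T A
  notle : ¬ A ≤ Q
  minQ : ∀ A' : Subgroup G, MaxAb T A' → ¬ A' ≤ Q → Nat.card ↥(A ⊔ Q) ≤ Nat.card ↥(A' ⊔ Q)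
  maxR : ∀ A' : Subgroup G, MaxAb T A' → ¬ A' ≤ Q → Nat.card ↥(A' ⊔ Q) = Nat.card ↥(A ⊔ Q) →
    Nat.card ↥(A' ⊓ R) ≤ Nat.card ↥(A ⊓ R)

theorem exists_off {Q T : Subgroup G} (R : Subgroup G) (hpT : IsPGroup p T) (hQT : Q ≤ T)
    (hQ : Q.Normal) (h : ∃ A : Subgroup G, MaxAb T A ∧ ¬ A ≤ Q) : ∃ A, Off p Q T R A := by
  obtain ⟨A₁, hA₁, hmin⟩ := Set.exists_min_image {A : Subgroup G | MaxAb T A ∧ ¬ A ≤ Q}
    (fun A => Nat.card ↥(A ⊔ Q)) (Set.toFinite _) h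
  obtain ⟨A, ⟨⟨hA, hAQ⟩, hAc⟩, hmax⟩ := Set.exists_max_image
    {A : Subgroup G | (MaxAb T A ∧ ¬ A ≤ Q) ∧ Nat.card ↥(A ⊔ Q) = Nat.card ↥(A₁ ⊔ Q)}
    (fun A => Nat.card ↥(A ⊓ R)) (Set.toFinite _) ⟨A₁, hA₁, rfl⟩
  exact ⟨A, hpT, hQT, hQ, hA, hAQ, fun A' h1 h2 => hAc.le.trans (hmin A' ⟨h1, h2⟩),
    fun A' h1 h2 h3 => hmax A' ⟨⟨h1, h2⟩, h3.trans hAc⟩⟩

variable {Q T R : Subgroup G}

theorem Off.le_T (o : Off p Q T R A) : A ≤ T := o.maxAb.le

/-- The replacement keeps the image of `A` unless the centralizer lies in `Q`. -/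
theorem Off.image_eq (o : Off p Q T R A) {W : Subgroup G} (hW : Good T A W) (hWQ : W ≤ Q)
    (hC : ¬ CA A W ≤ Q) :
    MaxAb T (W ⊔ CA A W) ∧ ¬ W ⊔ CA A W ≤ Q ∧ (W ⊔ CA A W) ⊔ Q = A ⊔ Q ∧ CA A W ⊔ Q = A ⊔ Q := by
  have hm : MaxAb T (W ⊔ CA A W) := ⟨sup_le hW.le (CA_le.trans o.le_T), o.maxAb.comm_sup_CA hW.comm,
    fun Y h1 h2 => (o.maxAb.max Y h1 h2).trans hW.ge⟩
  have hn : ¬ W ⊔ CA A W ≤ Q := fun h => hC (le_sup_right.trans h)
  have e : (W ⊔ CA A W) ⊔ Q = CA A W ⊔ Q := by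
    rw [sup_comm W, sup_assoc, sup_eq_right.mpr hWQ]
  have h2 : CA A W ⊔ Q = A ⊔ Q := eq_of_le_of_card_ge (sup_le_sup_right CA_le _)
    ((o.minQ _ hm hn).trans (le_of_eq (by rw [e])))
  exact ⟨hm, hn, e.trans h2, h2⟩

/-- A good subgroup of `R` centralized by `A ⊓ R` lies in `A` unless its centralizer lies in `Q`. -/
theorem Off.dichotomy (o : Off p Q T R A) {W : Subgroup G} (hW : Good T A W) (hWQ : W ≤ Q)
    (hWR : W ≤ R) (hfix : ∀ f ∈ A ⊓ R, ∀ w ∈ W, w * f = f * w) : CA A W ≤ Q ∨ W ≤ A := by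
  by_cases hC : CA A W ≤ Q
  · exact Or.inl hC
  obtain ⟨hm, hn, he, -⟩ := o.image_eq hW hWQ hC
  have hle : A ⊓ R ≤ (W ⊔ CA A W) ⊓ R :=
    le_inf (fun f hf => mem_sup_right (mem_CA.mpr ⟨hf.1, hfix f hf⟩)) inf_le_right
  have heq := eq_of_le_of_card_ge hle (o.maxR _ hm hn (by rw [he]))
  exact Or.inr ((le_inf le_sup_left hWR).trans (heq.ge.trans inf_le_left))

/-- `A` is quadratic on the centre of `Q`. -/
theorem Off.quad_center (o : Off p Q T R A) {z : G} (hz : z ∈ Q) (hzc : ∀ q ∈ Q, q * z = z * q)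
    {c d : G} (hc : c ∈ A) (hd : d ∈ A) : ⁅c, ⁅d, z⁆⁆ = 1 := by
  haveI := o.nQ
  set W := Mc A z
  set Zq := Q ⊓ centralizer (Q : Set G) with hZq
  have hzZ : z ∈ Zq := ⟨hz, mem_centralizer_iff.mpr hzc⟩
  have hWZ : W ≤ Zq := by
    refine (closure_le _).mpr ?_
    rintro _ ⟨b, -, rfl⟩
    rw [commutatorElement_def]
    exact mul_mem ((inferInstance : Zq.Normal).conj_mem z hzZ b) (inv_mem hzZ)
  have hWT : W ≤ T := hWZ.trans (inf_le_left.trans o.QT)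
  have hWc : ∀ a ∈ W, ∀ b ∈ W, a * b = b * a := fun a ha b hb =>
    mem_centralizer_iff.mp (hWZ hb).2 a (hWZ ha).1
  have hgood := o.maxAb.good_Mc z hWT hWc
  have hA0 : A ⊓ Q ≤ CA A W := fun a ha => mem_CA.mpr ⟨ha.1, fun w hw =>
    (mem_centralizer_iff.mp (hWZ hw).2 a ha.2).symm⟩
  by_cases hC : CA A W ≤ Q
  · have hYQ : W ⊔ CA A W ≤ Q := sup_le (hWZ.trans inf_le_left) hC
    have hzY : z ∈ W ⊔ CA A W := o.maxAb.mem_of_comm (sup_le hWT (CA_le.trans o.le_T))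
      (o.maxAb.comm_sup_CA hWc) hgood.ge (o.QT hz) fun y hy => hzc y (hYQ hy)
    have hprod : z ∈ ((W : Set G) * (CA A W : Set G)) := by
      rw [← coe_mul_of_left_le_normalizer_right W (CA A W)
        (le_normalizer_of_comm fun a ha b hb => (mem_CA.mp hb).2 a ha)]
      exact hzY
    obtain ⟨w, hw, f, hf, e⟩ := Set.mem_mul.mp hprod
    have hle : W ≤ ⁅A, W⁆ := by
      refine (closure_le _).mpr ?_
      rintro _ ⟨b, hb, rfl⟩
      have e2 : ⁅b, z⁆ = ⁅b, w⁆ := by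
        rw [← e, show ⁅b, w * f⁆ = ⁅b, w⁆ * (w * ⁅b, f⁆ * w⁻¹) by
          simp [commutatorElement_def, mul_assoc], commE_eq_one (o.maxAb.comm b hb f (CA_le hf))]
        simp
      rw [e2]
      exact commutator_mem_commutator hb hw
    have hW1 : W = ⊥ := eq_bot_of_le_comm o.pT o.le_T hWT hle
    have : ⁅d, z⁆ ∈ W := subset_closure ⟨d, hd, rfl⟩
    rw [hW1, mem_bot] at this
    rw [this]; exact commutatorElement_one_right c
  · obtain ⟨-, -, -, he⟩ := o.image_eq hgood (hWZ.trans inf_le_left) hC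
    have hc' : c ∈ CA A W := by
      have : c ∈ CA A W ⊔ Q := he ▸ mem_sup_left hc
      obtain ⟨f, hf, q, hq, rfl⟩ := mem_sup_of_normal_right.mp this
      exact mul_mem hf (hA0 ⟨(A.mul_mem_cancel_left (CA_le hf)).mp hc, hq⟩)
    exact commE_eq_one ((mem_CA.mp hc').2 _ (subset_closure ⟨d, hd, rfl⟩)).symm

/-- Commutators with generators in an abelian group. -/
theorem comm_mem_closure {D N : Subgroup G} (hD : ∀ a ∈ D, ∀ b ∈ D, a * b = b * a) {b : G}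
    (hinv : ∀ d ∈ D, ⁅b, d⁆ ∈ D) {S : Set G} (hS : S ⊆ D) (h : ∀ s ∈ S, ⁅b, s⁆ ∈ N)
    {z : G} (hz : z ∈ closure S) : ⁅b, z⁆ ∈ N := by
  suffices z ∈ D ∧ ⁅b, z⁆ ∈ N from this.2
  induction hz using closure_induction with
  | mem s hs => exact ⟨hS hs, h s hs⟩
  | one => exact ⟨one_mem _, by rw [commutatorElement_one_right]; exact one_mem _⟩
  | mul u v _ _ hu hv =>
    refine ⟨mul_mem hu.1 hv.1, ?_⟩
    rw [show ⁅b, u * v⁆ = ⁅b, u⁆ * (u * ⁅b, v⁆ * u⁻¹) by simp [commutatorElement_def, mul_assoc],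
      hD u hu.1 _ (hinv v hv.1), mul_inv_cancel_right]
    exact mul_mem hu.2 hv.2
  | inv u _ hu =>
    refine ⟨inv_mem hu.1, ?_⟩
    rw [show ⁅b, u⁻¹⁆ = u⁻¹ * (⁅b, u⁆)⁻¹ * u by simp [commutatorElement_def, mul_assoc],
      hD u⁻¹ (inv_mem hu.1) _ (inv_mem (hinv u hu.1)), inv_mul_cancel_right]
    exact inv_mem hu.2

/-- An abelian commutator subgroup with `A` is good. -/
theorem good_comm (hA : MaxAb T A) {Y : Subgroup G} (hT : ⁅A, Y⁆ ≤ T)
    (hc : ∀ a ∈ ⁅A, Y⁆, ∀ b ∈ ⁅A, Y⁆, a * b = b * a) : Good T A ⁅A, Y⁆ := by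
  classical
  have hle : ∀ y ∈ Y, Mc A y ≤ ⁅A, Y⁆ := fun y hy => (closure_le _).mpr (by
    rintro _ ⟨b, hb, rfl⟩; exact commutator_mem_commutator hb hy)
  let s := (Set.toFinite (Y : Set G)).toFinset
  have hs : ∀ y, y ∈ s ↔ y ∈ Y := fun y => by simp [s]
  have e : ⁅A, Y⁆ = s.sup (Mc A) := le_antisymm
    (commutator_le.mpr fun b hb y hy =>
      (Finset.le_sup (f := Mc A) ((hs y).mpr hy)) (subset_closure ⟨b, hb, rfl⟩))
    (Finset.sup_le fun y hy => hle y ((hs y).mp hy))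
  rw [e]
  refine hA.good_finset s _ (fun y hy => hA.good_Mc y ((hle y ((hs y).mp hy)).trans hT) ?_) ?_
  · exact fun a ha b hb => hc a (hle y ((hs y).mp hy) ha) b (hle y ((hs y).mp hy) hb)
  · exact fun y hy y' hy' a ha b hb => hc a (hle y ((hs y).mp hy) ha) b (hle y' ((hs y').mp hy') hb)

/-- Cubic action on an abelian normal subgroup modulo its commutator with `Q`. -/
theorem Off.cubic (o : Off p Q T R A) {D : Subgroup G} [D.Normal] (hDQ : D ≤ Q) (hDR : D ≤ R)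
    (hD : ∀ a ∈ D, ∀ b ∈ D, a * b = b * a) (hfix : ∀ f ∈ A ⊓ R, ∀ d ∈ D, d * f = f * d) :
    F A D 3 ≤ ⁅Q, D⁆ := by
  haveI := o.nQ
  have hdm : ∀ b : G, ∀ d ∈ D, ⁅b, d⁆ ∈ D := fun b d hd => by
    rw [commutatorElement_def]
    exact mul_mem ((inferInstance : D.Normal).conj_mem d hd b) (inv_mem hd)
  suffices key : ∀ x ∈ D, F A (Mc A x) 2 ≤ ⁅Q, D⁆ by
    refine F_succ_le fun a ha y hy => comm_mem_closure hD (hdm a) ?_ ?_ hy
    · rintro _ ⟨b, -, v, hv, rfl⟩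
      exact hdm b v (F_le_normal (A := A) le_rfl 1 hv)
    rintro _ ⟨b, hb, v, hv, rfl⟩
    have hb' : ∀ s ∈ {g | ∃ c ∈ A, ∃ x ∈ D, ⁅c, x⁆ = g}, ⁅b, s⁆ ∈ {z | z ∈ D ∧ ⁅a, z⁆ ∈ ⁅Q, D⁆} := by
      rintro _ ⟨c, hc, x, hx, rfl⟩
      exact ⟨hdm b _ (hdm c x hx), key x hx (mem_F_succ ha (mem_F_succ hb
        (show ⁅c, x⁆ ∈ F A (Mc A x) 0 from subset_closure ⟨c, hc, rfl⟩)))⟩
    let N' : Subgroup G :=
      { carrier := {z | z ∈ D ∧ ⁅a, z⁆ ∈ ⁅Q, D⁆}
        one_mem' := ⟨one_mem _, by rw [commutatorElement_one_right]; exact one_mem _⟩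
        mul_mem' := fun {u w} hu hw => ⟨mul_mem hu.1 hw.1,
          comm_mem_closure hD (hdm a) (S := {u, w}) (by
            rintro s (rfl | rfl)
            · exact hu.1
            · exact hw.1) (by
            rintro s (rfl | rfl)
            · exact hu.2
            · exact hw.2) (mul_mem (subset_closure (Or.inl rfl)) (subset_closure (Or.inr rfl)))⟩
        inv_mem' := fun {u} hu => ⟨inv_mem hu.1,
          comm_mem_closure hD (hdm a) (S := {u}) (by rintro s rfl; exact hu.1)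
            (by rintro s rfl; exact hu.2) (inv_mem (subset_closure rfl))⟩ }
    have hv' : v ∈ closure {g | ∃ c ∈ A, ∃ x ∈ D, ⁅c, x⁆ = g} := hv
    exact (comm_mem_closure (N := N') hD (hdm b) (by
      rintro _ ⟨c, -, x, hx, rfl⟩; exact hdm c x hx) hb' hv').2
  intro x hx
  set M := Mc A x
  have hMD : M ≤ D := (closure_le _).mpr (by rintro _ ⟨b, -, rfl⟩; exact hdm b x hx)
  have hFD : ∀ i, F A M i ≤ D := F_le_normal hMD
  have hFc : ∀ i, ∀ a ∈ F A M i, ∀ b ∈ F A M i, a * b = b * a :=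
    fun i a ha b hb => hD a (hFD i ha) b (hFD i hb)
  have hDT : D ≤ T := hDQ.trans o.QT
  by_cases h2 : F A M 2 = ⊥
  · rw [h2]; exact bot_le
  classical
  have hex := exists_F_eq_bot (X := M) o.pT o.le_T (hMD.trans hDT)
  have hm := Nat.find_spec hex
  have hmlt : 2 < Nat.find hex := by
    by_contra hcon
    refine h2 (le_bot_iff.mp ?_)
    rw [← hm]
    exact F_anti (Mc_conj o.maxAb.comm x) (by omega)
  obtain ⟨k, hk⟩ : ∃ k, Nat.find hex = k + 2 := ⟨Nat.find hex - 2, by omega⟩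
  rw [hk] at hm
  have hk1 : F A M (k + 1) ≠ ⊥ := Nat.find_min hex (by omega)
  obtain ⟨l, rfl⟩ : ∃ l, k = l + 1 := ⟨k - 1, by omega⟩
  have hgood : Good T A (F A M (l + 1)) :=
    good_comm o.maxAb ((hFD (l + 1)).trans hDT) (hFc (l + 1))
  have hCQ : CA A (F A M (l + 1)) ≤ Q :=
    (o.dichotomy hgood ((hFD _).trans hDQ) ((hFD _).trans hDR)
      (fun f hf w hw => hfix f hf w (hFD _ hw))).resolve_right fun h => hk1 (le_bot_iff.mp
        (F_succ_le fun a ha w hw => by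
          rw [mem_bot]; exact commE_eq_one (o.maxAb.comm a ha w (h hw))))
  refine F_succ_le fun d hd e he => ?_
  obtain ⟨b, hb, f, hf, heq⟩ := o.maxAb.surj_Mc x (hMD.trans hDT) (hFc 0)
    (F_succ_le_self (Mc_conj o.maxAb.comm x) 0 he)
  set K0 := F A M 1 ⊔ (A ⊓ D) with hK0
  have hK0D : K0 ≤ D := sup_le (hFD 1) inf_le_right
  have hbx : ⁅b, x⁆ ∈ K0 := by
    rw [show ⁅b, x⁆ = e * f⁻¹ by rw [heq]; group]
    exact mul_mem (mem_sup_left he) (inv_mem (mem_sup_right ⟨hf.2, hMD hf.1⟩))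
  have hind : ∀ i, ∀ z ∈ F A M i, ⁅b, z⁆ ∈ F A K0 (i + 1) := by
    intro i
    induction i with
    | zero =>
      intro z hz
      refine comm_mem_closure hD (hdm b) ?_ ?_ hz
      · rintro _ ⟨c, -, rfl⟩; exact hdm c x hx
      · rintro _ ⟨c, hc, rfl⟩
        rw [comm_swap (o.maxAb.comm b hb c hc) (hD _ (hdm b x hx) _ (hdm c x hx))]
        exact mem_F_succ hc hbx
    | succ i ih =>
      intro z hz
      refine comm_mem_closure hD (hdm b) ?_ ?_ hz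
      · rintro _ ⟨c, -, w, hw, rfl⟩; exact hdm c w (hFD i hw)
      · rintro _ ⟨c, hc, w, hw, rfl⟩
        rw [comm_swap (o.maxAb.comm b hb c hc) (hD _ (hdm b w (hFD i hw)) _ (hdm c w (hFD i hw)))]
        exact mem_F_succ hc (ih w hw)
  have hK01 : F A K0 1 ≤ F A M 2 := F_succ_le fun c hc w hw => by
    refine comm_mem_closure hD (hdm c) ?_ ?_
      (show w ∈ closure ((F A M 1 : Set G) ∪ (A ⊓ D : Subgroup G)) by rwa [← sup_eq_closure])
    · rintro s (hs | hs)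
      · exact hFD 1 hs
      · exact hs.2
    · rintro s (hs | hs)
      · exact mem_F_succ hc hs
      · rw [commE_eq_one (o.maxAb.comm c hc s hs.1)]; exact one_mem _
  have hbC : b ∈ CA A (F A M (l + 1)) := by
    refine mem_CA.mpr ⟨hb, fun w hw => (commutatorElement_eq_one_iff_mul_comm.mp (mem_bot.mp ?_)).symm⟩
    rw [← hm]
    have h := hind _ w hw
    rw [show l + 1 + 1 = 1 + (l + 1) by omega, ← F_add] at h
    have h' := F_mono hK01 _ h
    rwa [F_add, show 2 + (l + 1) = l + 1 + 2 by omega] at h'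
  rw [heq, show ⁅d, ⁅b, x⁆ * f⁆ = ⁅d, ⁅b, x⁆⁆ * (⁅b, x⁆ * ⁅d, f⁆ * (⁅b, x⁆)⁻¹) by
    simp [commutatorElement_def, mul_assoc], commE_eq_one (o.maxAb.comm d hd f hf.2)]
  simp only [mul_one, mul_inv_cancel]
  exact commutator_le_right (⊤ : Subgroup G) ⁅Q, D⁆ (commutator_mem_commutator (mem_top d)
    (commutator_mem_commutator (hCQ hbC) hx))

end Cfsg.Agent.ThompsonOffender39
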