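import Cfsg.Agent.Lib.ThompsonOffender39Abel

/-!
A minimal abelian subgroup of largest order outside `Q` has Engel length at most four on a section
`B / K` with `K` central in `B` and `[Q, B] ≤ K`.
-/

set_option autoImplicit false
set_option linter.unusedSectionVars false

namespace Cfsg.Agent.ThompsonOffender39

open Subgroup
open scoped commutatorElement Pointwise

variable {G : Type*} [Group G]

/-- The section `B / K` below `Q`. -/
structure Sect (Q B K : Subgroup G) : Prop where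
  nQ : Q.Normal
  nB : B.Normal
  nK : K.Normal
  BQ : B ≤ Q
  KB : K ≤ B
  qb : ∀ q ∈ Q, ∀ b ∈ B, ⁅q, b⁆ ∈ K
  kb : ∀ k ∈ K, ∀ b ∈ B, k * b = b * k

/-- Nested commutators applied to `x`. -/
def wd (x : G) : List G → G
  | [] => x
  | a :: l => ⁅a, wd x l⁆

/-- The span modulo `K` of the nested commutators of length `a`. -/
def Sp (A K : Subgroup G) (X : Set G) (a : ℕ) : Subgroup G :=
  closure ({g | ∃ x ∈ X, ∃ l : List G, l.length = a ∧ (∀ c ∈ l, c ∈ A) ∧ wd x l = g} ∪ K)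

variable {Q B K A : Subgroup G}

namespace Sect

variable (s : Sect Q B K)
include s

theorem comm_mem (c : G) {y : G} (hy : y ∈ B) : ⁅c, y⁆ ∈ B := by
  rw [commutatorElement_def]; exact mul_mem (s.nB.conj_mem y hy c) (inv_mem hy)

theorem central {g h : G} (hg : g ∈ B) (hh : h ∈ B) : ∀ q ∈ Q, q * ⁅g, h⁆ = ⁅g, h⁆ * q := by
  have hK : ⁅Q, B⁆ ≤ K := commutator_le.mpr s.qb
  have hKB : ⁅K, B⁆ = ⊥ := commutator_eq_bot_iff_le_centralizer.mpr fun k hk =>
    mem_centralizer_iff.mpr fun b hb => (s.kb k hk b hb).symm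
  have h1 : ⁅⁅B, Q⁆, B⁆ = ⊥ := le_bot_iff.mp
    ((commutator_mono ((commutator_comm B Q).le.trans hK) le_rfl).trans hKB.le)
  have h2 : ⁅⁅Q, B⁆, B⁆ = ⊥ := le_bot_iff.mp ((commutator_mono hK le_rfl).trans hKB.le)
  have h3 := commutator_commutator_eq_bot_of_rotate h1 h2
  intro q hq
  exact mem_centralizer_iff.mp
    (commutator_eq_bot_iff_le_centralizer.mp h3 (commutator_mem_commutator hg hh)) q hq

theorem mem_Zq {g h : G} (hg : g ∈ B) (hh : h ∈ B) : ⁅g, h⁆ ∈ Q ⊓ centralizer (Q : Set G) :=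
  ⟨s.BQ (s.comm_mem g hh), mem_centralizer_iff.mpr (s.central hg hh)⟩

theorem mul_left {a b h : G} (ha : a ∈ B) (hb : b ∈ B) (hh : h ∈ B) :
    ⁅a * b, h⁆ = ⁅a, h⁆ * ⁅b, h⁆ := by
  rw [show ⁅a * b, h⁆ = a * ⁅b, h⁆ * a⁻¹ * ⁅a, h⁆ by simp [commutatorElement_def, mul_assoc],
    s.central hb hh a (s.BQ ha), mul_inv_cancel_right]
  exact s.central ha hh _ (s.BQ (s.comm_mem b hh)) 

theorem mul_right {a b h : G} (ha : a ∈ B) (hb : b ∈ B) (hh : h ∈ B) :
    ⁅h, a * b⁆ = ⁅h, a⁆ * ⁅h, b⁆ := by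
  rw [show ⁅h, a * b⁆ = ⁅h, a⁆ * (a * ⁅h, b⁆ * a⁻¹) by simp [commutatorElement_def, mul_assoc],
    s.central hh hb a (s.BQ ha), mul_inv_cancel_right]

/-- The action on a commutator of two elements of `B`. -/
theorem act (c : G) {g h : G} (hg : g ∈ B) (hh : h ∈ B) :
    ⁅c, ⁅g, h⁆⁆ = ⁅⁅c, g⁆, ⁅c, h⁆⁆ * ⁅⁅c, g⁆, h⁆ * ⁅g, ⁅c, h⁆⁆ := by
  have h1 : c * ⁅g, h⁆ * c⁻¹ = ⁅⁅c, g⁆ * g, ⁅c, h⁆ * h⁆ := by
    simp [commutatorElement_def, mul_assoc]
  have hg' := s.comm_mem c hg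
  have hh' := s.comm_mem c hh
  rw [s.mul_left hg' hg (mul_mem hh' hh), s.mul_right hh' hh hg', s.mul_right hh' hh hg] at h1
  rw [commutatorElement_def c, h1]
  group

/-- Congruence modulo `K` in the second argument. -/
theorem comm_congr {g w w' : G} (hg : g ∈ B) (hw' : w' ∈ B) {k : G} (hk : k ∈ K) (e : w = k * w') :
    ⁅g, w⁆ = ⁅g, w'⁆ := by
  rw [e, s.mul_right (s.KB hk) hw' hg, commE_eq_one (s.kb k hk g hg).symm, one_mul]

theorem comm_K_left {g w : G} (hg : g ∈ K) (hw : w ∈ B) : ⁅g, w⁆ = 1 := commE_eq_one (s.kb g hg w hw)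

theorem comm_K_right {g w : G} (hg : g ∈ B) (hw : w ∈ K) : ⁅g, w⁆ = 1 :=
  commE_eq_one (s.kb w hw g hg).symm

theorem wd_mem {x : G} (hx : x ∈ B) : ∀ l : List G, wd x l ∈ B
  | [] => hx
  | _ :: l => s.comm_mem _ (wd_mem hx l)

/-- Preimages under commutation with `c` of subgroups over `K` are closed. -/
theorem comm_mem_mod {N : Subgroup G} (hKN : K ≤ N) (c : G) {S : Set G} (hS : S ⊆ B)
    (h : ∀ t ∈ S, ⁅c, t⁆ ∈ N) {z : G} (hz : z ∈ closure S) : ⁅c, z⁆ ∈ N := by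
  suffices z ∈ B ∧ ⁅c, z⁆ ∈ N from this.2
  induction hz using closure_induction with
  | mem t ht => exact ⟨hS ht, h t ht⟩
  | one => exact ⟨one_mem _, by rw [commutatorElement_one_right]; exact one_mem _⟩
  | mul u v _ _ hu hv =>
    refine ⟨mul_mem hu.1 hv.1, ?_⟩
    rw [show ⁅c, u * v⁆ = ⁅c, u⁆ * (⁅u, ⁅c, v⁆⁆ * ⁅c, v⁆) by simp [commutatorElement_def, mul_assoc]]
    exact mul_mem hu.2 (mul_mem (hKN (s.qb u (s.BQ hu.1) _ (s.comm_mem c hv.1))) hv.2)
  | inv u _ hu =>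
    refine ⟨inv_mem hu.1, ?_⟩
    rw [show ⁅c, u⁻¹⁆ = ⁅u⁻¹, (⁅c, u⁆)⁻¹⁆ * (⁅c, u⁆)⁻¹ by simp [commutatorElement_def, mul_assoc]]
    exact mul_mem (hKN (s.qb _ (s.BQ (inv_mem hu.1)) _ (inv_mem (s.comm_mem c hu.1)))) (inv_mem hu.2)

theorem Sp_le_B {X : Set G} (hX : X ⊆ B) (a : ℕ) : Sp A K X a ≤ B := by
  refine (closure_le _).mpr ?_
  rintro g (⟨x, hx, l, -, -, rfl⟩ | hg)
  · exact s.wd_mem (hX hx) l
  · exact s.KB hg

theorem comm_mem_Sp {X : Set G} (hX : X ⊆ B) {c : G} (hc : c ∈ A) {a : ℕ} {z : G}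
    (hz : z ∈ Sp A K X a) : ⁅c, z⁆ ∈ Sp A K X (a + 1) := by
  refine s.comm_mem_mod (fun k hk => subset_closure (Or.inr hk)) c ?_ ?_ hz
  · exact fun g hg => s.Sp_le_B (A := A) hX a (subset_closure hg)
  rintro g (⟨x, hx, l, hl, hlA, rfl⟩ | hg)
  · exact subset_closure (Or.inl ⟨x, hx, c :: l, by simp [hl],
      by simpa [hc] using hlA, rfl⟩)
  · refine subset_closure (Or.inr ?_)
    rw [commutatorElement_def]
    exact mul_mem (s.nK.conj_mem g hg c) (inv_mem hg)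

theorem F_le_Sp {X : Set G} (hX : X ⊆ B) {Y : Subgroup G} (hY : Y ≤ Sp A K X 0) :
    ∀ n, F A Y n ≤ Sp A K X n
  | 0 => hY
  | n + 1 => F_succ_le fun _ hc _ hz => s.comm_mem_Sp hX hc (F_le_Sp hX hY n hz)

theorem wd_swap (hAc : ∀ a ∈ A, ∀ b ∈ A, a * b = b * a) {a b y : G} (ha : a ∈ A) (hb : b ∈ A)
    (hy : y ∈ B) : ∃ k ∈ K, ⁅a, ⁅b, y⁆⁆ = k * ⁅b, ⁅a, y⁆⁆ := by
  refine ⟨⁅a, ⁅b, y⁆⁆ * (⁅b, ⁅a, y⁆⁆)⁻¹, ?_, by group⟩
  have e1 : ⁅a, ⁅b, y⁆⁆ = ⁅a * b, y⁆ * (⁅a, y⁆)⁻¹ * (⁅b, y⁆)⁻¹ := by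
    simp [commutatorElement_def, mul_assoc]
  have e2 : ⁅b, ⁅a, y⁆⁆ = ⁅a * b, y⁆ * (⁅b, y⁆)⁻¹ * (⁅a, y⁆)⁻¹ := by
    rw [hAc a ha b hb]; simp [commutatorElement_def, mul_assoc]
  rw [e1, e2, show ⁅a * b, y⁆ * (⁅a, y⁆)⁻¹ * (⁅b, y⁆)⁻¹ * (⁅a * b, y⁆ * (⁅b, y⁆)⁻¹ * (⁅a, y⁆)⁻¹)⁻¹ =
    ⁅a * b, y⁆ * ⁅(⁅a, y⁆)⁻¹, (⁅b, y⁆)⁻¹⁆ * (⁅a * b, y⁆)⁻¹ by simp [commutatorElement_def, mul_assoc]]
  exact s.nK.conj_mem _ (s.qb _ (s.BQ (inv_mem (s.comm_mem a hy))) _ (inv_mem (s.comm_mem b hy))) _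

theorem wd_perm (hAc : ∀ a ∈ A, ∀ b ∈ A, a * b = b * a) {x : G} (hx : x ∈ B) {l l' : List G}
    (h : l.Perm l') : (∀ c ∈ l, c ∈ A) → ∃ k ∈ K, wd x l = k * wd x l' := by
  induction h with
  | nil => exact fun _ => ⟨1, one_mem _, (one_mul _).symm⟩
  | @cons a l₁ l₂ _ ih =>
    intro hl
    obtain ⟨k, hk, e⟩ := ih fun c hc => hl c (List.mem_cons_of_mem _ hc)
    refine ⟨⁅a, k⁆ * (k * ⁅a, wd x l₂⁆ * k⁻¹ * (⁅a, wd x l₂⁆)⁻¹), mul_mem ?_ ?_, ?_⟩
    · rw [commutatorElement_def]; exact mul_mem (s.nK.conj_mem k hk a) (inv_mem hk)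
    · rw [← commutatorElement_def]
      exact s.qb k (s.BQ (s.KB hk)) _ (s.comm_mem a (s.wd_mem hx l₂))
    · show ⁅a, wd x l₁⁆ = _ * ⁅a, wd x l₂⁆
      rw [e]; simp [commutatorElement_def, mul_assoc]
  | swap a b l =>
    intro hl
    exact s.wd_swap hAc (hl b (by simp)) (hl a (by simp)) (s.wd_mem hx l)
  | trans h₁ _ ih₁ ih₂ =>
    intro hl
    obtain ⟨k, hk, e⟩ := ih₁ hl
    obtain ⟨k', hk', e'⟩ := ih₂ fun c hc => hl c (h₁.mem_iff.mpr hc)
    exact ⟨k * k', mul_mem hk hk', by rw [e, e', mul_assoc]⟩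

end Sect

variable [Finite G] {p : ℕ} [hp : Fact p.Prime] {T R : Subgroup G}

/-- The hypotheses on `x`: nested commutators of length above `N` lie in `K`. -/
structure Deg (A K : Subgroup G) (x : G) (N : ℕ) : Prop where
  top : ∀ l : List G, (∀ c ∈ l, c ∈ A) → N + 1 ≤ l.length → wd x l ∈ K

section Deg

variable (o : Off p Q T R A) (s : Sect Q B K) {x : G} {N : ℕ}

theorem comm_comm_mul {d u v : G} (h : u * ⁅d, v⁆ = ⁅d, v⁆ * u) :
    ⁅d, u * v⁆ = ⁅d, u⁆ * ⁅d, v⁆ := by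
  rw [show ⁅d, u * v⁆ = ⁅d, u⁆ * (u * ⁅d, v⁆ * u⁻¹) by simp [commutatorElement_def, mul_assoc], h,
    mul_inv_cancel_right]

/-- Commutation with a fixed element is a homomorphism on the centre of `Q`. -/
theorem hom_Zq (hQ : Q.Normal) (d : G) {u v : G} (hu : u ∈ Q ⊓ centralizer (Q : Set G))
    (hv : v ∈ Q ⊓ centralizer (Q : Set G)) : ⁅d, u * v⁆ = ⁅d, u⁆ * ⁅d, v⁆ := by
  refine comm_comm_mul (mem_centralizer_iff.mp ?_ u hu.1)
  haveI := hQ
  exact (by
    rw [commutatorElement_def]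
    exact mul_mem ((inferInstance : (Q ⊓ centralizer (Q : Set G)).Normal).conj_mem v hv d) (inv_mem hv) :
    ⁅d, v⁆ ∈ Q ⊓ centralizer (Q : Set G)).2

include o s

theorem step (hx : x ∈ B) (d : G) (t : G) (u w : List G) :
    ⁅d, ⁅t, ⁅wd x u, wd x w⁆⁆⁆ = ⁅d, ⁅wd x (t :: u), wd x (t :: w)⁆⁆ *
      ⁅d, ⁅wd x (t :: u), wd x w⁆⁆ * ⁅d, ⁅wd x u, wd x (t :: w)⁆⁆ := by
  have hB := s.wd_mem hx
  show ⁅d, ⁅t, ⁅wd x u, wd x w⁆⁆⁆ = ⁅d, ⁅⁅t, wd x u⁆, ⁅t, wd x w⁆⁆⁆ *
      ⁅d, ⁅⁅t, wd x u⁆, wd x w⁆⁆ * ⁅d, ⁅wd x u, ⁅t, wd x w⁆⁆⁆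
  have htu := s.comm_mem t (hB u)
  have htw := s.comm_mem t (hB w)
  rw [s.act t (hB u) (hB w), hom_Zq s.nQ d (mul_mem (s.mem_Zq htu htw) (s.mem_Zq htu (hB w)))
    (s.mem_Zq (hB u) htw), hom_Zq s.nQ d (s.mem_Zq htu htw) (s.mem_Zq htu (hB w))]

theorem comm_top (hx : x ∈ B) (hN : Deg A K x N) {u w : List G} (hu : ∀ c ∈ u, c ∈ A)
    (hw : ∀ c ∈ w, c ∈ A) (h : N + 1 ≤ u.length ∨ N + 1 ≤ w.length) : ⁅wd x u, wd x w⁆ = 1 := by
  rcases h with h | h
  · exact s.comm_K_left (hN.top u hu h) (s.wd_mem hx w)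
  · exact s.comm_K_right (s.wd_mem hx u) (hN.top w hw h)

/-- Above total length `N` the values are fixed by `A`. -/
theorem fixed (hx : x ∈ B) (hN : Deg A K x N) {d : G} (hd : d ∈ A) :
    ∀ (m : ℕ) (u w : List G), (∀ c ∈ u, c ∈ A) → (∀ c ∈ w, c ∈ A) → N + 1 ≤ u.length + w.length →
      2 * N + 1 ≤ u.length + w.length + m → ⁅d, ⁅wd x u, wd x w⁆⁆ = 1 := by
  intro m
  induction m with
  | zero =>
    intro u w hu hw h1 h2
    rw [comm_top o s hx hN hu hw (by omega)]; exact commutatorElement_one_right d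
  | succ m ih =>
    intro u
    induction u with
    | nil =>
      intro w hu hw h1 h2
      rw [comm_top o s hx hN hu hw (Or.inr (by simpa using h1))]; exact commutatorElement_one_right d
    | cons t u ihu =>
      intro w hu hw h1 h2
      have ht : t ∈ A := hu t (by simp)
      have hu' : ∀ c ∈ u, c ∈ A := fun c hc => hu c (List.mem_cons_of_mem _ hc)
      have htw : ∀ c ∈ t :: w, c ∈ A := by simpa [ht] using hw
      have e := step o s hx d t u w
      have hz := s.mem_Zq (s.wd_mem hx u) (s.wd_mem hx w)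
      rw [o.quad_center hz.1 (mem_centralizer_iff.mp hz.2) hd ht,
        ih (t :: u) (t :: w) hu htw (by simp at *; omega) (by simp at *; omega),
        ihu (t :: w) hu' htw (by simp at *; omega) (by simp at *; omega), one_mul, mul_one] at e
      exact e.symm

/-- At total length four, for `N = 4`. -/
theorem fixed_four (hp2 : p ≠ 2) (hx : x ∈ B) (hN : Deg A K x 4) {d : G} (hd : d ∈ A) (u w : List G)
    (hu : ∀ c ∈ u, c ∈ A) (hw : ∀ c ∈ w, c ∈ A) (h : u.length + w.length = 4) :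
    ⁅d, ⁅wd x u, wd x w⁆⁆ = 1 := by
  have hB := s.wd_mem hx
  have move : ∀ t ∈ A, ∀ u w : List G, (∀ c ∈ u, c ∈ A) → (∀ c ∈ w, c ∈ A) →
      u.length + w.length = 3 →
      ⁅d, ⁅wd x (t :: u), wd x w⁆⁆ = (⁅d, ⁅wd x u, wd x (t :: w)⁆⁆)⁻¹ := by
    intro t ht u w hu hw h
    have e := step o s hx d t u w
    have hz := s.mem_Zq (hB u) (hB w)
    rw [o.quad_center hz.1 (mem_centralizer_iff.mp hz.2) hd ht,
      fixed o s hx hN hd 9 (t :: u) (t :: w) (by simpa [ht] using hu) (by simpa [ht] using hw)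
        (by simp; omega) (by simp), one_mul] at e
    exact eq_inv_of_mul_eq_one_left e.symm
  have hflip : ∀ u w : List G, ⁅d, ⁅wd x w, wd x u⁆⁆ = (⁅d, ⁅wd x u, wd x w⁆⁆)⁻¹ := fun u w => by
    refine eq_inv_of_mul_eq_one_left ?_
    rw [← hom_Zq s.nQ d (s.mem_Zq (hB w) (hB u)) (s.mem_Zq (hB u) (hB w)),
      ← commutatorElement_inv (wd x u) (wd x w), inv_mul_cancel]
    exact commutatorElement_one_right d
  have hbase : ∀ l : List G, (∀ c ∈ l, c ∈ A) → l.length = 4 → ⁅d, ⁅x, wd x l⁆⁆ = 1 := by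
    intro l hl hlen
    match l, hlen with
    | [a, b, c, e], _ =>
      simp only [List.mem_cons, List.not_mem_nil, or_false, forall_eq_or_imp, forall_eq] at hl
      obtain ⟨ha, hb, hc, he⟩ := hl
      have mv : ∀ a b c e : G, a ∈ A → b ∈ A → c ∈ A → e ∈ A →
          ⁅d, ⁅wd x [b, a], wd x [c, e]⁆⁆ = ⁅d, ⁅x, wd x [a, b, c, e]⁆⁆ := by
        intro a b c e ha hb hc he
        rw [move b hb [a] [c, e] (by simp [ha]) (by simp [hc, he]) rfl,
          move a ha [] [b, c, e] (by simp) (by simp [hb, hc, he]) rfl, inv_inv]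
        rfl
      have h1 := mv a b c e ha hb hc he
      have h2 := mv e c b a he hc hb ha
      have hperm : ([e, c, b, a] : List G).Perm [a, b, c, e] := by
        have h3 := (List.reverse_perm ([a, b, c, e] : List G))
        simpa using h3
      obtain ⟨k, hk, ek⟩ := s.wd_perm o.maxAb.comm hx hperm (by simp [ha, hb, hc, he])
      rw [s.comm_congr hx (hB _) hk ek] at h2
      have h4 := hflip [b, a] [c, e]
      rw [h1, h2] at h4
      generalize hz : ⁅d, ⁅x, wd x [a, b, c, e]⁆⁆ = z at h4 ⊢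
      have hzT : z ∈ T := by
        rw [← hz]
        haveI := s.nQ
        exact o.QT (commutator_le_right (⊤ : Subgroup G) Q
          (commutator_mem_commutator (mem_top d) (s.mem_Zq hx (hB _)).1))
      obtain ⟨k', hk'⟩ := o.pT ⟨z, hzT⟩
      have hk'' : z ^ p ^ k' = 1 := congrArg Subtype.val hk'
      have hz2 : z ^ 2 = 1 := by rw [pow_two]; nth_rewrite 1 [h4]; exact inv_mul_cancel z
      have := pow_gcd_eq_one.2 ⟨hz2, hk''⟩
      rwa [(Nat.Coprime.pow_right k' ((Nat.coprime_primes Nat.prime_two hp.out).mpr (Ne.symm hp2))).gcd_eq_one,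
        pow_one] at this
  induction u generalizing w with
  | nil => exact hbase w hw (by simpa using h)
  | cons t u ihu =>
    have ht : t ∈ A := hu t (by simp)
    have hu' : ∀ c ∈ u, c ∈ A := fun c hc => hu c (List.mem_cons_of_mem _ hc)
    rw [move t ht u w hu' hw (by simp at h; omega),
      ihu (t :: w) hu' (by simpa [ht] using hw) (by simp at h ⊢; omega), inv_one]

/-- The commutators of total length at least `r` are trivial. -/
theorem vanish (hx : x ∈ B) (hN : Deg A K x N) {r : ℕ} (hr : N + 1 ≤ r)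
    (hfix : ∀ d ∈ A, ∀ u w : List G, (∀ c ∈ u, c ∈ A) → (∀ c ∈ w, c ∈ A) →
      r ≤ u.length + w.length + 1 → ⁅d, ⁅wd x u, wd x w⁆⁆ = 1) :
    ∀ (m : ℕ) (u w : List G), (∀ c ∈ u, c ∈ A) → (∀ c ∈ w, c ∈ A) → r ≤ u.length + w.length →
      2 * N + 1 ≤ u.length + w.length + m → ⁅wd x u, wd x w⁆ = 1 := by
  intro m
  induction m with
  | zero => intro u w hu hw h1 h2; exact comm_top o s hx hN hu hw (by omega)
  | succ m ih =>
    intro u
    induction u with
    | nil => intro w hu hw h1 h2; exact comm_top o s hx hN hu hw (Or.inr (by simp at h1; omega))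
    | cons t u ihu =>
      intro w hu hw h1 h2
      have ht : t ∈ A := hu t (by simp)
      have hu' : ∀ c ∈ u, c ∈ A := fun c hc => hu c (List.mem_cons_of_mem _ hc)
      have htw : ∀ c ∈ t :: w, c ∈ A := by simpa [ht] using hw
      have e := s.act t (s.wd_mem hx u) (s.wd_mem hx w)
      rw [hfix t ht u w hu' hw (by simp at h1; omega),
        show ⁅⁅t, wd x u⁆, ⁅t, wd x w⁆⁆ = 1 from ih (t :: u) (t :: w) hu htw (by simp at *; omega)
          (by simp at *; omega),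
        show ⁅wd x u, ⁅t, wd x w⁆⁆ = 1 from ihu (t :: w) hu' htw (by simp at *; omega)
          (by simp at *; omega), one_mul, mul_one] at e
      exact e.symm

/-- The spans of high total length commute. -/
theorem Sp_comm (hx : x ∈ B) {a b : ℕ}
    (h : ∀ u w : List G, (∀ c ∈ u, c ∈ A) → (∀ c ∈ w, c ∈ A) → u.length = a → w.length = b →
      ⁅wd x u, wd x w⁆ = 1) {z v : G} (hz : z ∈ Sp A K {x} a) (hv : v ∈ Sp A K {x} b) :
    z * v = v * z := by
  refine comm_closure₂ ?_ hz hv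
  rintro g (⟨_, rfl, u, hu, huA, rfl⟩ | hg) g' (⟨_, hy, w, hw, hwA, rfl⟩ | hg')
  · rw [Set.mem_singleton_iff] at hy; subst hy
    exact commutatorElement_eq_one_iff_mul_comm.mp (h u w huA hwA hu hw)
  · exact (s.kb g' hg' _ (s.wd_mem hx u)).symm
  · rw [Set.mem_singleton_iff] at hy; subst hy
    exact s.kb g hg _ (s.wd_mem hx w)
  · exact s.kb g hg g' (s.KB hg')

end Deg

theorem conj_mem_sup {H L : Subgroup G} (hH : ∀ a ∈ A, ∀ x ∈ H, a * x * a⁻¹ ∈ H)
    (hL : ∀ a ∈ A, ∀ x ∈ L, a * x * a⁻¹ ∈ L) : ∀ a ∈ A, ∀ x ∈ H ⊔ L, a * x * a⁻¹ ∈ H ⊔ L := by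
  intro a ha x hx
  have hle : H ⊔ L ≤ (H ⊔ L).comap (MulAut.conj a).toMonoidHom :=
    sup_le (fun y hy => mem_sup_left (hH a ha y hy)) fun y hy => mem_sup_right (hL a ha y hy)
  exact hle hx

theorem conj_mem_comm {A X : Subgroup G} (hA : ∀ a ∈ A, ∀ b ∈ A, a * b = b * a) :
    ∀ a ∈ A, ∀ y ∈ ⁅A, X⁆, a * y * a⁻¹ ∈ ⁅A, X⁆ := by
  intro a ha y hy
  have hle : ⁅A, X⁆ ≤ (⁅A, X⁆).comap (MulAut.conj a).toMonoidHom := commutator_le.mpr fun b hb v hv => by
    show a * ⁅b, v⁆ * a⁻¹ ∈ ⁅A, X⁆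
    rw [show a * ⁅b, v⁆ * a⁻¹ = ⁅a * b, v⁆ * (⁅a, v⁆)⁻¹ by simp [commutatorElement_def, mul_assoc]]
    exact mul_mem (commutator_mem_commutator (mul_mem ha hb) hv) (inv_mem (commutator_mem_commutator ha hv))
  exact hle hy

/-- Engel length at most four on `B / K`. -/
theorem Off.four (o : Off p Q T R A) (s : Sect Q B K) (hp2 : p ≠ 2) (hBR : B ≤ R)
    (hfix : ∀ f ∈ A ⊓ R, ∀ b ∈ B, ⁅f, b⁆ ∈ Q ⊓ centralizer (Q : Set G)) : F A B 4 ≤ K := by
  classical
  haveI := s.nQ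
  haveI := s.nB
  haveI := s.nK
  suffices key : ∀ x ∈ B, F A (zpowers x) 4 ≤ K by
    refine ((s.F_le_Sp (A := A) (X := (B : Set G)) (subset_refl _) ?_) 4).trans ((closure_le _).mpr ?_)
    · exact fun b hb => subset_closure (Or.inl ⟨b, hb, [], rfl, by simp, rfl⟩)
    rintro g (⟨x, hx, l, hl, hlA, rfl⟩ | hg)
    · refine key x hx ?_
      have hmem : ∀ l : List G, (∀ c ∈ l, c ∈ A) → wd x l ∈ F A (zpowers x) l.length := by
        intro l
        induction l with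
        | nil => exact fun _ => mem_zpowers x
        | cons a l ih => exact fun h => mem_F_succ (h a (by simp)) (ih fun c hc => h c (List.mem_cons_of_mem _ hc))
      exact hl ▸ hmem l hlA
    · exact hg
  intro x hx
  by_contra hcon
  set X := zpowers x with hXdef
  have hXB : X ≤ B := zpowers_le.mpr hx
  have hEB : ∀ i, F A X i ≤ B := F_le_normal hXB
  have hBT : B ≤ T := s.BQ.trans o.QT
  have hEK : ∀ i m, F A X i ≤ K → F A X (i + m) ≤ K := fun i m h => by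
    rw [← F_add]; exact F_le_normal h m
  have hexK : ∃ m, F A X m ≤ K := by
    obtain ⟨m, hm⟩ := exists_F_eq_bot o.pT o.le_T (hXB.trans hBT)
    exact ⟨m, by rw [hm]; exact bot_le⟩
  have hKfind := Nat.find_spec hexK
  have hfive : 4 < Nat.find hexK := by
    by_contra hc
    obtain ⟨m, hm⟩ : ∃ m, 4 = Nat.find hexK + m := ⟨4 - Nat.find hexK, by omega⟩
    exact hcon (hm ▸ hEK _ m hKfind)
  obtain ⟨N, hNf⟩ : ∃ N, Nat.find hexK = N + 1 := ⟨Nat.find hexK - 1, by omega⟩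
  have hN4 : 4 ≤ N := by omega
  rw [hNf] at hKfind
  have hNK : ¬ F A X N ≤ K := Nat.find_min hexK (by omega)
  have hexB : ∃ m, F A X m = ⊥ := exists_F_eq_bot o.pT o.le_T (hXB.trans hBT)
  have hBfind := Nat.find_spec hexB
  have hbot : ∀ m, F A X (Nat.find hexB + m) = ⊥ := fun m => by
    rw [← F_add, hBfind]; exact le_bot_iff.mp (F_le_normal le_rfl m)
  have hBN : N < Nat.find hexB := by
    by_contra hc
    obtain ⟨m, hm⟩ : ∃ m, N = Nat.find hexB + m := ⟨N - Nat.find hexB, by omega⟩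
    exact hNK (by rw [hm, hbot m]; exact bot_le)
  obtain ⟨n, hn⟩ : ∃ n, Nat.find hexB = n + 2 := ⟨Nat.find hexB - 2, by omega⟩
  have hn1 : F A X (n + 1) ≠ ⊥ := Nat.find_min hexB (by omega)
  have hn2 : ∀ m, F A X (n + 2 + m) = ⊥ := fun m => hn ▸ hbot m
  have hnN : N ≤ n + 1 := by omega
  -- vanishing
  have hdeg : Deg A K x N := ⟨fun l hl hlen => by
    have hmem : ∀ l : List G, (∀ c ∈ l, c ∈ A) → wd x l ∈ F A X l.length := by
      intro l
      induction l with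
      | nil => exact fun _ => mem_zpowers x
      | cons a l ih => exact fun h => mem_F_succ (h a (by simp)) (ih fun c hc => h c (List.mem_cons_of_mem _ hc))
    obtain ⟨m, hm⟩ : ∃ m, l.length = N + 1 + m := ⟨l.length - (N + 1), by omega⟩
    exact hEK _ m hKfind (hm ▸ hmem l hl)⟩
  have hSp : ∀ i, F A X i ≤ Sp A K {x} i := s.F_le_Sp (by simpa using hx)
    (zpowers_le.mpr (subset_closure (Or.inl ⟨x, rfl, [], rfl, by simp, rfl⟩)))
  have hcomm : ∀ a b, (N + 2 ≤ a + b ∨ (N = 4 ∧ 5 ≤ a + b)) →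
      ∀ z ∈ F A X a, ∀ v ∈ F A X b, z * v = v * z := by
    intro a b hab z hz v hv
    refine Sp_comm o s hx (fun u w hu hw hua hwb => ?_) (hSp a hz) (hSp b hv)
    rcases hab with hab | ⟨h4, hab⟩
    · exact vanish o s hx hdeg (r := N + 2) (by omega)
        (fun d hd u' w' hu' hw' h' => fixed o s hx hdeg hd (2 * N + 1) u' w' hu' hw' (by omega) (by omega))
        (2 * N + 1) u w hu hw (by omega) (by omega)
    · subst h4
      exact vanish o s hx hdeg (r := 5) (by omega)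
        (fun d hd u' w' hu' hw' h' => by
          rcases Nat.lt_or_ge (u'.length + w'.length) 5 with h5 | h5
          · exact fixed_four o s hp2 hx hdeg hd u' w' hu' hw' (by omega)
          · exact fixed o s hx hdeg hd 9 u' w' hu' hw' (by omega) (by omega))
        9 u w hu hw (by omega) (by omega)
  set W1 := F A X n with hW1
  have hW1B : W1 ≤ B := hEB n
  have hW1c : ∀ a ∈ W1, ∀ b ∈ W1, a * b = b * a := hcomm n n (by omega)
  have hW1inv : ∀ a ∈ A, ∀ y ∈ W1, a * y * a⁻¹ ∈ W1 := by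
    obtain ⟨n', hn'⟩ : ∃ n', n = n' + 1 := ⟨n - 1, by omega⟩
    rw [hW1, hn']
    exact conj_mem_comm o.maxAb.comm
  have hgood : Good T A W1 := by
    obtain ⟨n', hn'⟩ : ∃ n', n = n' + 1 := ⟨n - 1, by omega⟩
    rw [hW1, hn']
    exact good_comm o.maxAb ((hEB (n' + 1)).trans hBT) (by subst hn'; exact hW1c)
  have hfixW : ∀ f ∈ A ⊓ R, ∀ w ∈ W1, w * f = f * w := by
    intro f hf
    have hsw : ∀ c ∈ A, ∀ y ∈ B, ⁅f, ⁅c, y⁆⁆ = ⁅c, ⁅f, y⁆⁆ := fun c hc y hy =>
      comm_swap (o.maxAb.comm f hf.1 c hc)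
        ((mem_centralizer_iff.mp (hfix f hf y hy).2 _ (s.BQ (s.comm_mem c hy))).symm)
    have hmulf : ∀ u ∈ B, ∀ v ∈ B, ⁅f, u * v⁆ = ⁅f, u⁆ * ⁅f, v⁆ := fun u hu v hv =>
      comm_comm_mul (mem_centralizer_iff.mp (hfix f hf v hv).2 u (s.BQ hu))
    have h1 : ∀ c ∈ A, ∀ y ∈ F A X 1, ⁅c, ⁅f, y⁆⁆ = 1 := by
      intro c hc y hy
      let M : Subgroup G :=
        { carrier := {y | y ∈ B ∧ ⁅c, ⁅f, y⁆⁆ = 1}
          one_mem' := ⟨one_mem _, by simp⟩
          mul_mem' := fun {u v} hu hv => ⟨mul_mem hu.1 hv.1, by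
            rw [hmulf u hu.1 v hv.1, hom_Zq s.nQ c (hfix f hf u hu.1) (hfix f hf v hv.1), hu.2, hv.2,
              one_mul]⟩
          inv_mem' := fun {u} hu => ⟨inv_mem hu.1, by
            have e := hom_Zq s.nQ c (hfix f hf _ (inv_mem hu.1)) (hfix f hf u hu.1)
            rw [← hmulf _ (inv_mem hu.1) u hu.1, inv_mul_cancel, hu.2, mul_one,
              commutatorElement_one_right, commutatorElement_one_right] at e
            exact e.symm⟩ }
      have hle : F A X 1 ≤ M := F_succ_le fun d hd v hv => ⟨s.comm_mem d (hEB 0 hv), by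
        rw [hsw d hd v (hEB 0 hv)]
        have hz := hfix f hf v (hEB 0 hv)
        exact o.quad_center hz.1 (mem_centralizer_iff.mp hz.2) hc hd⟩
      exact (hle hy).2
    intro w hw
    have hle : F A X 2 ≤ centralizer ({f} : Set G) := F_succ_le fun c hc y hy =>
      mem_centralizer_singleton_iff.mpr ((commutatorElement_eq_one_iff_mul_comm.mp
        (by rw [hsw c hc y (hEB 1 hy)]; exact h1 c hc y hy)).symm)
    have hw2 : w ∈ F A X 2 := by
      have e : F A X n ≤ F A X 2 := by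
        obtain ⟨m, rfl⟩ : ∃ m, n = 1 + m := ⟨n - 1, by omega⟩
        rw [← F_add, show 2 = 1 + 1 from rfl, ← F_add]
        exact F_anti (conj_mem_comm o.maxAb.comm) (by omega)
      exact e hw
    exact mem_centralizer_singleton_iff.mp (hle hw2)
  have hCQ : CA A W1 ≤ Q :=
    (o.dichotomy hgood (hW1B.trans s.BQ) (hW1B.trans hBR) hfixW).resolve_right fun h => hn1
      (le_bot_iff.mp (F_succ_le fun a ha w hw => by
        rw [mem_bot]; exact commE_eq_one (o.maxAb.comm a ha w (h hw))))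
  obtain ⟨j, hj2, hjn, hjN, hj⟩ : ∃ j, 2 ≤ j ∧ j < n ∧ j + 1 < N ∧
      (N + 2 ≤ j + n ∨ (N = 4 ∧ 5 ≤ j + n)) := by
    by_cases hN : N ≤ n ∨ N = 4
    · exact ⟨2, le_rfl, by omega, by omega, by omega⟩
    · exact ⟨3, by omega, by omega, by omega, by omega⟩
  set C := CA A W1 with hC
  set Kc := closure {g | ∃ c ∈ C, ⁅c, x⁆ = g} with hKc
  have hKcK : Kc ≤ K := (closure_le _).mpr (by rintro _ ⟨c, hc, rfl⟩; exact s.qb c (hCQ hc) x hx)
  have hmain : ∀ z ∈ F A X j, z ∈ W1 ⊔ (A ⊓ B) ⊔ Kc := by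
    intro z hz
    have hzB : z ∈ B := hEB j hz
    have hKcB : Kc ≤ B := hKcK.trans s.KB
    set W := W1 ⊔ Kc ⊔ zpowers z with hW
    have hWB : W ≤ B := sup_le (sup_le hW1B hKcB) (zpowers_le.mpr hzB)
    have hWc : ∀ a ∈ W, ∀ b ∈ W, a * b = b * a :=
      comm_self_sup (comm_self_sup hW1c (fun a ha b hb => s.kb a (hKcK ha) b (hKcB hb))
          fun a ha b hb => (s.kb b (hKcK hb) a (hW1B ha)).symm)
        (fun a ha b hb => by
          obtain ⟨i, rfl⟩ := mem_zpowers_iff.mp ha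
          obtain ⟨i', rfl⟩ := mem_zpowers_iff.mp hb
          exact (Commute.zpow_zpow_self z i i').eq)
        fun a ha b hb => by
          obtain ⟨i, rfl⟩ := mem_zpowers_iff.mp hb
          refine (Commute.zpow_right (show Commute a z from ?_) i).eq
          exact comm_sup (L := zpowers z) (fun u hu l hl => by
              obtain ⟨i, rfl⟩ := mem_zpowers_iff.mp hl
              exact (Commute.zpow_right (show Commute u z from
                (hcomm j n hj z hz u hu).symm) i).eq)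
            (fun u hu l hl => s.kb u (hKcK hu) l (zpowers_le.mpr hzB hl)) ha (mem_zpowers z)
    have hWT : W ≤ T := hWB.trans hBT
    have hW1W : W1 ≤ W := le_sup_left.trans le_sup_left
    have hKcW : Kc ≤ W := le_sup_right.trans le_sup_left
    set Y := W1 ⊔ (W ⊓ A) with hY
    have hYW : Y ≤ W := sup_le hW1W inf_le_left
    have hYinv : ∀ a ∈ A, ∀ y ∈ Y, a * y * a⁻¹ ∈ Y :=
      conj_mem_sup hW1inv fun a ha y hy => by
        rw [o.maxAb.comm a ha y hy.2, mul_inv_cancel_right]; exact hy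
    have hYfix : ∀ c ∈ C, ∀ y ∈ Y, y * c = c * y := fun c hc y hy =>
      comm_sup (H := W1) (K := W ⊓ A) (L := C) (fun u hu l hl => (mem_CA.mp hl).2 u hu)
        (fun u hu l hl => o.maxAb.comm u hu.2 l (CA_le hl)) hy hc
    have hF1 : F A Y 1 ≤ F A X (n + 1) := F_succ_le fun a ha y hy => by
      refine comm_mem_closure (D := Y) (fun u hu v hv => hWc u (hYW hu) v (hYW hv)) (fun d hd => ?_)
        (S := (W1 : Set G) ∪ (W ⊓ A : Subgroup G)) ?_ ?_ (by rwa [← sup_eq_closure])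
      · rw [commutatorElement_def]; exact mul_mem (hYinv a ha d hd) (inv_mem hd)
      · rw [hY, sup_eq_closure]; exact subset_closure
      · rintro t (ht | ht)
        · exact mem_F_succ ha ht
        · rw [commE_eq_one (o.maxAb.comm a ha t ht.2)]; exact one_mem _
    set C' := CA A W with hC'
    have hC'C : C' ≤ C := fun a ha =>
      mem_CA.mpr ⟨CA_le ha, fun w hw => (mem_CA.mp ha).2 w (hW1W hw)⟩
    have hker : ∀ c ∈ C, ⁅c, x⁆ ∈ Y → c ∈ C' := by
      intro c hc hcx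
      have hcA : c ∈ A := CA_le hc
      have hsw : ∀ b ∈ A, ∀ y ∈ B, ⁅c, ⁅b, y⁆⁆ = ⁅b, ⁅c, y⁆⁆ := fun b hb y hy =>
        comm_swap (o.maxAb.comm c hcA b hb) (s.kb _ (s.qb c (hCQ hc) y hy) _ (s.comm_mem b hy))
      have hcK : ∀ y ∈ B, ∀ u ∈ B, u * ⁅c, y⁆ = ⁅c, y⁆ * u := fun y hy u hu =>
        (s.kb _ (s.qb c (hCQ hc) y hy) u hu).symm
      have hind : ∀ i, ∀ y ∈ F A X i, ⁅c, y⁆ ∈ F A Y i := by
        intro i y hy
        let L : Subgroup G :=
          { carrier := {y | y ∈ B ∧ ⁅c, y⁆ ∈ F A Y i}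
            one_mem' := ⟨one_mem _, by simp⟩
            mul_mem' := fun {u v} hu hv => ⟨mul_mem hu.1 hv.1, by
              rw [comm_comm_mul (hcK v hv.1 u hu.1)]; exact mul_mem hu.2 hv.2⟩
            inv_mem' := fun {u} hu => ⟨inv_mem hu.1, by
              have e := comm_comm_mul (hcK u hu.1 u⁻¹ (inv_mem hu.1))
              rw [inv_mul_cancel, commutatorElement_one_right] at e
              rw [eq_inv_of_mul_eq_one_left e.symm]; exact inv_mem hu.2⟩ }
        suffices hle : F A X i ≤ L from (hle hy).2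
        clear hy
        induction i with
        | zero => exact zpowers_le.mpr ⟨hx, hcx⟩
        | succ i ih =>
          refine F_succ_le fun b hb v hv => ⟨s.comm_mem b (hEB i hv), ?_⟩
          rw [hsw b hb v (hEB i hv)]
          exact mem_F_succ hb (ih hv).2
      refine mem_CA.mpr ⟨hcA, fun w hw => ?_⟩
      refine comm_sup (L := zpowers c) (fun u hu l hl => ?_) (fun u hu l hl => ?_) hw (mem_zpowers c)
      · obtain ⟨i, rfl⟩ := mem_zpowers_iff.mp hl
        refine (Commute.zpow_right (show Commute u c from ?_) i).eq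
        refine comm_sup (L := zpowers c) (fun u hu l hl => ?_) (fun u hu l hl => ?_) hu (mem_zpowers c)
        · obtain ⟨i, rfl⟩ := mem_zpowers_iff.mp hl
          exact (Commute.zpow_right (show Commute u c from (mem_CA.mp hc).2 u hu) i).eq
        · obtain ⟨i, rfl⟩ := mem_zpowers_iff.mp hl
          refine (Commute.zpow_right (show Commute u c from ?_) i).eq
          refine comm_closure (fun g hg => ?_) hu
          obtain ⟨c', hc', rfl⟩ := hg
          refine (commutatorElement_eq_one_iff_mul_comm.mp ?_).symm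
          rw [hsw c' (CA_le hc') x hx]
          exact commE_eq_one (hYfix c' hc' _ hcx).symm
      · obtain ⟨i, rfl⟩ := mem_zpowers_iff.mp hl
        obtain ⟨i', rfl⟩ := mem_zpowers_iff.mp hu
        refine (Commute.zpow_zpow (show Commute z c from ?_) i' i).eq
        refine (commutatorElement_eq_one_iff_mul_comm.mp ?_).symm
        obtain ⟨j', rfl⟩ : ∃ j', j = 1 + j' := ⟨j - 1, by omega⟩
        have h := hind (1 + j') z hz
        rw [← F_add] at h
        have h' := F_mono hF1 j' h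
        rw [F_add, show n + 1 + j' = n + 2 + (j' - 1) by omega, hn2] at h'
        exact mem_bot.mp h'
    set W0 := Y ⊔ Kc with hW0
    have hW0W : W0 ≤ W := sup_le hYW hKcW
    have hKcmem : ∀ c ∈ C, ⁅c, x⁆ ∈ W0 := fun c hc => mem_sup_right (subset_closure ⟨c, hc, rfl⟩)
    let φ : ↥C ⧸ C'.subgroupOf C → ↥W0 ⧸ Y.subgroupOf W0 := fun q =>
      ((⟨⁅(q.out : G), x⁆, hKcmem _ q.out.2⟩ : ↥W0) : ↥W0 ⧸ Y.subgroupOf W0)
    have hφ : Function.Injective φ := by
      intro q q' h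
      rw [← Quotient.out_eq' q, ← Quotient.out_eq' q']
      refine QuotientGroup.eq.2 ?_
      rw [mem_subgroupOf]
      have hk := mem_subgroupOf.1 (QuotientGroup.eq.1 h)
      push_cast at hk ⊢
      refine hker _ (mul_mem (inv_mem q.out.2) q'.out.2) ?_
      generalize hd : (q.out : G) = d at hk ⊢
      generalize he : (q'.out : G) = e at hk ⊢
      have hdC : d ∈ C := hd ▸ q.out.2
      have heC : e ∈ C := he ▸ q'.out.2
      rw [show ⁅d⁻¹ * e, x⁆ = d⁻¹ * (⁅e, x⁆ * (⁅d, x⁆)⁻¹) * d by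
        simp [commutatorElement_def, mul_assoc],
        s.kb _ (s.qb e (hCQ heC) x hx) _ (inv_mem (s.KB (s.qb d (hCQ hdC) x hx))), mul_assoc,
        hYfix d hdC _ hk, inv_mul_cancel_left]
      exact hk
    have h1 : C'.relIndex C ≤ Y.relIndex W0 := Nat.card_le_card_of_injective φ hφ
    have e1 := ThompsonAQuad.card_eq_card_inf_mul_relIndex C' C
    have e2 := ThompsonAQuad.card_eq_card_inf_mul_relIndex Y W0
    rw [inf_eq_left.mpr hC'C] at e1
    rw [inf_eq_left.mpr le_sup_left] at e2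
    have e3 := card_sup_comm (H := W1) (K := W ⊓ A) fun a ha b hb => hWc a (hW1W ha) b hb.1
    rw [← inf_assoc, inf_eq_left.mpr hW1W] at e3
    have e4 := (MaxAb.good_iff o.maxAb (hW1B.trans hBT) hW1c).mp hgood
    have e5 := o.maxAb.card_bound (C := C') hWT hWc CA_le (fun c hc w hw => (mem_CA.mp hc).2 w hw)
      fun w hw => mem_CA.mpr ⟨hw.2, fun v hv => hWc v hv w hw.1⟩
    have hcard : Nat.card W ≤ Nat.card W0 := by
      refine Nat.le_of_mul_le_mul_right (c := Nat.card C' * Nat.card ↥(W1 ⊓ A)) ?_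
        (Nat.mul_pos Nat.card_pos Nat.card_pos)
      calc Nat.card W * (Nat.card C' * Nat.card ↥(W1 ⊓ A))
          = Nat.card W * Nat.card C' * Nat.card ↥(W1 ⊓ A) := by ring
        _ ≤ Nat.card A * Nat.card ↥(W ⊓ A) * Nat.card ↥(W1 ⊓ A) := Nat.mul_le_mul_right _ e5
        _ = Nat.card A * Nat.card ↥(W1 ⊓ A) * Nat.card ↥(W ⊓ A) := by ring
        _ ≤ Nat.card W1 * Nat.card C * Nat.card ↥(W ⊓ A) := Nat.mul_le_mul_right _ e4
        _ = Nat.card Y * Nat.card ↥(W1 ⊓ A) * Nat.card C := by rw [e3]; ring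
        _ = Nat.card Y * C'.relIndex C * (Nat.card C' * Nat.card ↥(W1 ⊓ A)) := by rw [e1]; ring
        _ ≤ Nat.card Y * Y.relIndex W0 * (Nat.card C' * Nat.card ↥(W1 ⊓ A)) :=
          Nat.mul_le_mul_right _ (Nat.mul_le_mul_left _ h1)
        _ = Nat.card W0 * (Nat.card C' * Nat.card ↥(W1 ⊓ A)) := by rw [← e2]
    have hzW0 : z ∈ W0 := (eq_of_le_of_card_ge hW0W hcard).ge (mem_sup_right (mem_zpowers z))
    exact (sup_le_sup_right (sup_le_sup_left (le_inf inf_le_right (inf_le_left.trans hWB)) W1) Kc) hzW0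
  -- descend
  have hstep : F A X (j + 1) ≤ F A X (n + 1) ⊔ K := F_succ_le fun a ha z hz => by
    refine s.comm_mem_mod le_sup_right a (S := (W1 : Set G) ∪ (A ⊓ B : Subgroup G) ∪ K) ?_ ?_ ?_
    · rintro t ((ht | ht) | ht)
      · exact hW1B ht
      · exact ht.2
      · exact s.KB ht
    · rintro t ((ht | ht) | ht)
      · exact mem_sup_left (mem_F_succ ha ht)
      · rw [commE_eq_one (o.maxAb.comm a ha t ht.1)]; exact one_mem _
      · refine mem_sup_right ?_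
        rw [commutatorElement_def]; exact mul_mem (s.nK.conj_mem t ht a) (inv_mem ht)
    · have hle : W1 ⊔ (A ⊓ B) ⊔ Kc ≤ closure ((W1 : Set G) ∪ (A ⊓ B : Subgroup G) ∪ K) :=
        sup_le (sup_le (fun t ht => subset_closure (Or.inl (Or.inl ht)))
          fun t ht => subset_closure (Or.inl (Or.inr ht))) fun t ht => subset_closure (Or.inr (hKcK ht))
      exact hle (hmain z hz)
  have hiter : ∀ k, F A X (j + 1 + k) ≤ F A X (n + 1 + k) ⊔ K := by
    intro k
    induction k with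
    | zero => exact hstep
    | succ k ih =>
      refine F_succ_le fun a ha z hz => ?_
      refine s.comm_mem_mod le_sup_right a (S := (F A X (n + 1 + k) : Set G) ∪ K) ?_ ?_ ?_
      · rintro t (ht | ht)
        · exact hEB _ ht
        · exact s.KB ht
      · rintro t (ht | ht)
        · exact mem_sup_left (mem_F_succ ha ht)
        · refine mem_sup_right ?_
          rw [commutatorElement_def]; exact mul_mem (s.nK.conj_mem t ht a) (inv_mem ht)
      · rw [← sup_eq_closure]; exact ih hz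
  refine hNK ?_
  have h := hiter (N - j - 1)
  rw [show j + 1 + (N - j - 1) = N by omega] at h
  refine h.trans (sup_le ?_ le_rfl)
  rw [show n + 1 + (N - j - 1) = n + 2 + (N - j - 2) by omega, hn2]
  exact bot_le

end Cfsg.Agent.ThompsonOffender39
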