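/-!
Data for the three planes at a three-central element of the presented group Fi22.
-/

set_option autoImplicit false

namespace Cfsg.Agent.ThreeCentralM22Data19

/-- The points: the fixed ones, the point off the planes, and derived points. -/
def pts : List Nat := [640, 654, 1163, 1359, 1385, 1426, 1532, 1562, 1814, 1930, 1948, 1960, 2004, 2080, 2132, 2167, 2190, 2263, 2313, 2364, 2456, 2562, 2566, 2771, 2893, 3136, 3282, 86, 1355, 2515, 3090, 1116, 1374, 2956, 2346, 806, 723, 2936, 865, 767, 0, 1043, 612, 770, 2755, 40, 3271, 1177, 1828, 43, 88, 2, 6, 16, 154, 92]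

/-- A path to each point. -/
def pths : List (List Nat) := [[1, 0, 2, 3, 4, 5, 6, 7, 3, 2, 4, 3, 5, 4, 7, 8, 7, 3],
  [1, 0, 2, 3, 4, 5, 6, 7, 3, 2, 4, 3, 8, 7, 3, 2, 4, 5],
  [1, 0, 2, 3, 4, 5, 6, 7, 3, 2, 4, 5, 8, 7, 3, 2, 4, 3, 5, 6, 7],
  [1, 2, 3, 4, 5, 6, 7, 3, 2, 1, 4, 3, 2, 5, 7, 3, 8, 7, 3, 2, 1, 0],
  [1, 2, 3, 4, 5, 6, 7, 3, 2, 1, 4, 3, 2, 8, 7, 3, 2, 1, 0, 4, 5, 6],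
  [1, 2, 3, 4, 5, 6, 7, 3, 2, 1, 4, 3, 5, 8, 7, 3, 2, 1, 0, 4, 3, 7],
  [1, 2, 3, 4, 5, 6, 7, 3, 2, 1, 4, 3, 2, 5, 4, 8, 7, 3, 2, 1, 0, 4, 5],
  [1, 2, 3, 4, 5, 6, 7, 3, 2, 1, 4, 3, 2, 5, 8, 7, 3, 2, 4, 3, 5, 4, 6],
  [1, 2, 3, 4, 5, 6, 7, 3, 2, 1, 4, 3, 5, 7, 8, 7, 3, 2, 1, 0, 4, 3, 5, 4],
  [1, 2, 3, 4, 5, 6, 7, 3, 2, 1, 4, 3, 2, 5, 4, 8, 7, 3, 2, 1, 4, 3, 2, 5, 4],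
  [1, 2, 3, 4, 5, 6, 7, 3, 2, 1, 4, 3, 2, 5, 7, 8, 7, 3, 2, 1, 0, 4, 3, 2, 1],
  [1, 2, 3, 4, 5, 6, 7, 3, 2, 1, 4, 3, 2, 5, 7, 8, 7, 3, 2, 4, 3, 5, 4, 7, 8],
  [1, 2, 3, 4, 5, 6, 7, 3, 2, 1, 4, 3, 5, 4, 7, 8, 7, 3, 2, 1, 4, 3, 2, 7, 8],
  [1, 2, 3, 4, 5, 6, 7, 3, 2, 1, 4, 3, 5, 8, 7, 3, 2, 1, 4, 3, 2, 7, 3, 4, 8],
  [1, 2, 3, 4, 5, 6, 7, 3, 2, 1, 4, 3, 2, 5, 4, 3, 8, 7, 3, 2, 1, 4, 3, 2, 5, 7],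
  [1, 2, 3, 4, 5, 6, 7, 3, 2, 1, 4, 3, 2, 5, 4, 8, 7, 3, 2, 1, 4, 3, 2, 7, 3, 4],
  [1, 2, 3, 4, 5, 6, 7, 3, 2, 1, 4, 3, 2, 5, 7, 8, 7, 3, 2, 1, 0, 4, 3, 5, 4, 7],
  [1, 2, 3, 4, 5, 6, 7, 3, 2, 1, 4, 3, 5, 4, 8, 7, 3, 2, 1, 0, 4, 3, 2, 5, 4, 6],
  [1, 2, 3, 4, 5, 6, 7, 3, 2, 1, 4, 3, 5, 8, 7, 3, 2, 1, 0, 4, 3, 5, 4, 6, 7, 8],
  [1, 2, 3, 4, 5, 6, 7, 3, 2, 1, 4, 3, 2, 5, 4, 3, 8, 7, 3, 2, 1, 0, 4, 3, 2, 1, 7],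
  [1, 2, 3, 4, 5, 6, 7, 3, 2, 1, 4, 3, 2, 5, 8, 7, 3, 2, 1, 0, 4, 3, 2, 1, 5, 4, 7],
  [1, 2, 3, 4, 5, 6, 7, 3, 2, 1, 4, 3, 5, 7, 8, 7, 3, 2, 1, 4, 3, 2, 5, 7, 3, 4, 8],
  [1, 2, 3, 4, 5, 6, 7, 3, 2, 1, 4, 3, 5, 8, 7, 3, 2, 1, 0, 4, 3, 5, 4, 7, 3, 2, 1],
  [1, 2, 3, 4, 5, 6, 7, 3, 2, 1, 4, 3, 5, 4, 7, 8, 7, 3, 2, 4, 3, 5, 4, 7, 3, 2, 1, 8],
  [1, 2, 3, 4, 5, 6, 7, 3, 2, 1, 4, 3, 2, 5, 4, 8, 7, 3, 2, 1, 0, 4, 3, 2, 1, 7, 3, 2, 8],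
  [1, 2, 3, 4, 5, 6, 7, 3, 2, 1, 4, 3, 2, 5, 4, 8, 7, 3, 2, 1, 0, 4, 3, 5, 4, 7, 3, 2, 8, 7],
  [1, 2, 3, 4, 5, 6, 7, 3, 2, 1, 4, 3, 2, 5, 4, 3, 8, 7, 3, 2, 4, 3, 5, 4, 7, 3, 2, 1, 8, 7, 3],
  [1, 2, 3, 4, 7, 3, 2, 1, 8],
  [1, 2, 3, 4, 5, 6, 7, 3, 2, 1, 4, 3, 2, 5, 4, 8, 7, 3, 2, 1, 4, 5],
  [1, 2, 3, 4, 5, 6, 7, 3, 2, 1, 4, 3, 5, 4, 8, 7, 3, 2, 1, 0, 4, 3, 2, 1, 5, 7, 8],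
  [1, 2, 3, 4, 5, 6, 7, 3, 2, 1, 4, 3, 2, 5, 4, 3, 8, 7, 3, 2, 1, 0, 4, 3, 2, 7, 3, 4, 8, 7],
  [1, 2, 3, 4, 5, 6, 7, 3, 2, 4, 5, 8, 7, 3, 2, 4, 3, 5, 6, 7],
  [1, 2, 3, 4, 5, 6, 7, 3, 2, 1, 4, 3, 2, 5, 8, 7, 3, 2, 4, 3, 5, 6],
  [1, 2, 3, 4, 5, 6, 7, 3, 2, 1, 4, 3, 2, 5, 7, 8, 7, 3, 2, 1, 4, 3, 2, 5, 4, 7, 3, 8, 7],
  [1, 2, 3, 4, 5, 6, 7, 3, 2, 1, 4, 5, 8, 7, 3, 2, 1, 4, 3, 2, 5, 4, 7, 3, 2, 1],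
  [1, 0, 2, 3, 4, 5, 6, 7, 3, 2, 4, 3, 5, 8, 7, 3, 4, 5, 6],
  [1, 2, 3, 4, 5, 6, 7, 3, 2, 4, 3, 5, 4, 7, 8, 7, 3, 2],
  [1, 2, 3, 4, 5, 6, 7, 3, 2, 1, 4, 3, 2, 5, 4, 8, 7, 3, 2, 4, 3, 5, 4, 6, 5, 7, 3, 4, 8],
  [1, 2, 3, 4, 5, 6, 7, 3, 2, 1, 4, 3, 8, 7, 3, 2, 1, 0, 4],
  [1, 2, 3, 4, 5, 7, 3, 2, 1, 4, 3, 7, 8, 7, 3, 2, 4, 3],
  [],
  [1, 2, 3, 4, 5, 6, 7, 3, 2, 1, 4, 3, 8, 7, 3, 2, 1, 0, 4, 3],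
  [1, 2, 3, 4, 5, 7, 3, 2, 1, 4, 3, 8, 7, 3, 2, 4, 3],
  [1, 2, 3, 4, 5, 7, 3, 2, 1, 4, 3, 8, 7, 3, 2, 1, 0, 4],
  [1, 2, 3, 4, 5, 6, 7, 3, 2, 1, 4, 3, 5, 4, 7, 3, 8, 7, 3, 2, 4, 3, 5, 4, 6, 7, 3, 8],
  [1, 0, 2, 1, 3, 2, 4, 3],
  [1, 2, 3, 4, 5, 6, 7, 3, 2, 1, 4, 3, 2, 5, 4, 3, 8, 7, 3, 2, 1, 0, 4, 3, 2, 1, 7, 3, 4, 8, 7],
  [1, 2, 3, 4, 5, 6, 7, 3, 2, 1, 4, 3, 2, 5, 7, 8, 7, 3, 2, 1, 0],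
  [1, 2, 3, 4, 5, 6, 7, 3, 2, 1, 4, 3, 5, 7, 8, 7, 3, 2, 4, 3, 5, 4, 7, 8],
  [1, 0, 2, 1, 3, 2, 7, 3],
  [1, 0, 2, 1, 3, 2, 4, 3, 5, 4],
  [1, 0],
  [1, 0, 2, 1],
  [1, 0, 2, 1, 3, 2],
  [1, 0, 2, 1, 3, 2, 4, 3, 5, 4, 6, 5],
  [1, 0, 2, 1, 3, 2, 7, 3, 8, 7]]

/-- The derivations of the points after the first 28, as earlier positions. -/
def steps : List (Nat × Nat) := [(27, 2), (27, 4), (27, 5), (27, 6), (27, 11), (27, 16), (27, 22), (27, 23), (27, 24), (0, 28), (1, 28), (2, 29), (2, 31), (4, 35), (6, 34), (6, 35), (6, 36), (7, 32), (8, 33), (21, 34), (22, 36), (3, 47), (11, 48), (30, 46), (37, 44), (38, 41), (38, 43), (39, 42)]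

/-- The positions of the generators. -/
def gpos : List Nat := [40, 51, 52, 53, 45, 50, 54, 49, 55]

/-- The positions of three points in each plane. -/
def tri : List (List Nat) := [[16, 17, 24], [26, 10, 12], [8, 3, 13]]

/-- The quarter turns. -/
def turns : List (List Nat) := [[1, 0, 8, 2, 7, 3, 6, 4, 1, 0, 5, 8, 2, 5, 3, 2, 8, 4, 7, 5, 2, 0, 3, 1, 2, 4, 5, 8, 1, 8, 2, 0, 2, 5, 8, 3, 5, 0, 6, 7, 6, 4, 1, 0, 4, 2, 5, 3, 2, 7, 5, 2, 3, 0, 3, 8, 2, 4, 2, 3, 4, 5, 1, 8, 4, 2, 0, 2, 7, 8, 3, 6, 3, 7, 4, 1, 2, 8, 3, 4, 8, 6, 4, 3, 1, 0, 5, 4, 6, 7, 2, 6, 3, 4, 7, 8],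
  [1, 0, 8, 2, 7, 3, 6, 4, 1, 0, 5, 8, 2, 5, 3, 2, 8, 4, 7, 5, 2, 0, 3, 1, 2, 4, 5, 8, 1, 8, 2, 0, 2, 5, 8, 3, 5, 0, 6, 7, 6, 4, 1, 0, 4, 2, 5, 3, 2, 7, 5, 2, 3, 0, 3, 8, 2, 4, 2, 3, 4, 5, 1, 8, 4, 2, 0, 2, 7, 8, 3, 6, 3, 7, 4, 1, 2, 8, 3, 4, 8, 6, 4, 3, 1, 0, 5, 4, 6, 7, 2, 6, 3, 4, 7, 8],
  [1, 0, 8, 2, 7, 3, 6, 4, 1, 0, 5, 8, 2, 5, 3, 2, 8, 4, 7, 5, 2, 0, 3, 1, 2, 4, 5, 8, 1, 8, 2, 0, 2, 5, 8, 3, 5, 0, 6, 7, 6, 4, 1, 0, 4, 2, 5, 3, 2, 7, 5, 2, 3, 0, 3, 8, 2, 4, 2, 3, 4, 5, 1, 8, 4, 2, 0, 2, 7, 8, 3, 6, 3, 7, 4, 1, 2, 8, 3, 4, 8, 6, 4, 3, 1, 0, 5, 4, 6, 7, 2, 6, 3, 4, 7, 8]]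

/-- An element inverting the element of order three. -/
def flip : List Nat := [5, 6, 3, 1, 0, 7, 0, 2, 4, 0, 4, 2, 5, 2, 3, 4, 3, 5, 0, 4, 6, 8, 1, 0, 5, 8, 5, 1, 7, 1, 3, 6, 1, 0, 2, 1, 7, 0, 4, 1, 2, 7, 1, 7, 4, 2, 1, 7, 6, 0, 5, 3, 0, 7, 1, 5, 4, 2, 8, 5, 2, 6, 4, 3, 6, 7, 0, 6, 7, 6, 8, 6]

/-- The orbit of the point off the planes. -/
def orb : List Nat := [86, 897, 898]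

end Cfsg.Agent.ThreeCentralM22Data19
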