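import Cfsg.Agent.Lib.ThreeCentralM22x19
import Cfsg.Agent.Lib.ThreeCentral6Main
import Cfsg.Agent.Lib.ThreeTransM22Pres51

/-!
# The three-central configuration in every group of type M(22)
-/

set_option autoImplicit false
set_option linter.style.haveILetI false

namespace Cfsg.Agent.ThreeCentralM22Main19

open Subgroup Cfsg.Agent.Fi22Three93 Cfsg.Agent.Fi22Three93Width Cfsg.Agent.ThreeCentralM22x19

variable {G : Type*} [Group G] [Finite G] {D : Set G}

/-- In a group of type M(22) there are the three planes; eighteen centralised neighbours at a centralised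
member single out the class of the centre, and the centre is inverted. -/
theorem exists_data (hD : Cfsg.IsThreeTranspositionGroup D) (hprim : Cfsg.IsPrimitiveUnderConj D)
    (h22 : Cfsg.IsOfTypeM22 G D) :
    ∃ C : ThreeCentral6.Config D 3,
      (∀ Y : Subgroup G, Nat.card Y = 3 → ∀ x ∈ D, x ∈ centralizer (Y : Set G) →
        {y | y ∈ D ∧ y ≠ x ∧ Commute x y ∧ y ∈ centralizer (Y : Set G)}.ncard = 18 →
        ∃ g : G, Y.map (MulAut.conj g).toMonoidHom = zpowers C.z) ∧
      ∃ h : G, h * C.z * h⁻¹ = C.z⁻¹ := by
  classical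
  obtain ⟨e, he⟩ := ThreeTransM22Pres51.exists_equiv hD hprim h22
  obtain ⟨P, hP⟩ := exists_tab
  haveI := finite_Γ
  let f : Γ ≃* G := e
  have hfa : f aa ∈ D := he _
  have hiff : ∀ x : Γ, f x ∈ D ↔ x ∈ Set.range tau := by
    intro x
    rw [range_tau]
    constructor
    · intro hx
      obtain ⟨g, hg⟩ := hprim.1 _ hfa _ hx
      exact ⟨f.symm g, f.injective (by rw [map_mul, map_mul, map_inv, f.apply_symm_apply, hg])⟩
    · rintro ⟨g, rfl⟩
      rw [map_mul, map_mul, map_inv]
      exact hD.2.1 _ _ hfa
  refine ⟨(config hP).map f hiff, ?_, ?_⟩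
  · intro Y hY x hx hxY hn
    obtain ⟨i, g, hg⟩ := classes hP (Y.map f.symm.toMonoidHom)
      (by rw [card_map_of_injective f.symm.injective, hY])
    have hmap : Y.map (MulAut.conj (f g)).toMonoidHom = zpowers (f (rep P i)) := by
      rw [show zpowers (f (rep P i)) = (zpowers (rep P i)).map f.toMonoidHom from
        (MonoidHom.map_zpowers f.toMonoidHom _).symm, ← hg, Subgroup.map_map, Subgroup.map_map]
      congr 1
      ext w
      simp
    suffices hi : i = 2 by
      subst hi
      exact ⟨f g, hmap⟩
    -- carry the member and its neighbours to the representative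
    let c : G ≃* Γ := (MulAut.conj (f g)).trans f.symm
    have hcY : Y.map c.toMonoidHom = zpowers (rep P i) := by
      have h1 : (Y.map (MulAut.conj (f g)).toMonoidHom).map f.symm.toMonoidHom = zpowers (rep P i) := by
        rw [hmap, MonoidHom.map_zpowers]
        simp
      rw [Subgroup.map_map] at h1
      exact h1
    have hcD : ∀ y : G, c y ∈ Set.range tau ↔ y ∈ D := by
      intro y
      rw [← hiff]
      show f (f.symm (MulAut.conj (f g) y)) ∈ D ↔ _
      rw [f.apply_symm_apply, MulAut.conj_apply]
      refine ⟨fun h => ?_, hD.2.1 _ _⟩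
      have h' := hD.2.1 (f g)⁻¹ _ h
      simpa [mul_assoc] using h'
    have hcc : ∀ y : G, y ∈ centralizer (Y : Set G) ↔ Commute (rep P i) (c y) := by
      intro y
      rw [mem_centralizer_iff]
      constructor
      · intro h
        obtain ⟨w, hw, hwe⟩ : rep P i ∈ Y.map c.toMonoidHom := hcY ▸ mem_zpowers _
        rw [← hwe]
        exact (show Commute w y from h w hw).map c
      · intro h w hw
        have hw' : c w ∈ zpowers (rep P i) := hcY ▸ mem_map_of_mem _ hw
        obtain ⟨k, hk⟩ := mem_zpowers_iff.mp hw'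
        have := (h.zpow_left k).map c.symm
        rw [hk, c.symm_apply_apply, c.symm_apply_apply] at this
        exact this
    have hset : {y | y ∈ Set.range tau ∧ y ≠ c x ∧ Commute (c x) y ∧ Commute (rep P i) y} =
        c '' {y | y ∈ D ∧ y ≠ x ∧ Commute x y ∧ y ∈ centralizer (Y : Set G)} := by
      ext y
      obtain ⟨z, rfl⟩ := c.surjective y
      rw [c.injective.mem_set_image]
      show _ ∧ _ ∧ _ ∧ _ ↔ _ ∧ _ ∧ _ ∧ _
      rw [hcD, c.injective.ne_iff, ← hcc]
      refine and_congr_right fun _ => and_congr_right fun _ => and_congr_left fun _ =>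
        ⟨fun h => by simpa using h.map c.symm, fun h => h.map c⟩
    exact eighteen hP ((hcD x).mpr hx) ((hcc x).mp hxY)
      (by rw [hset, Set.ncard_image_of_injective _ c.injective, hn])
  · obtain ⟨h, hh⟩ := exists_inverting hP
    refine ⟨f h, ?_⟩
    show f h * f (config hP).z * (f h)⁻¹ = (f (config hP).z)⁻¹
    rw [← map_inv, ← map_mul, ← map_mul, ← map_inv]
    exact congrArg f hh

end Cfsg.Agent.ThreeCentralM22Main19
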