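import Cfsg.Agent.Lib.Fi22Three93Width
import Cfsg.Agent.Lib.ThreeCentral6Config
import Cfsg.Agent.Lib.ThreeCentralM22Data19

/-!
# The three planes at a three-central element of the presented group Fi22

The transpositions fixed by the representative with 27 fixed ones form three planes; a further
transposition and these generate; the representative is the only class with eighteen fixed neighbours at a
fixed transposition, and it is inverted.
-/

set_option autoImplicit false
set_option maxRecDepth 100000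

namespace Cfsg.Agent.ThreeCentralM22x19

open Cfsg.Agent.CosetCertCore Cfsg.Agent.CosetCertTable Cfsg.Agent.CosetCertPres
open Cfsg.Agent.Fi22Three93Core Cfsg.Agent.Fi22Three93Data Cfsg.Agent.Fi22Three93
open Cfsg.Agent.Fi22Three93Checks Cfsg.Agent.Fi22Three93Width Cfsg.Agent.ThreeCentralM22Data19

/-! ### Elements given by their action -/

/-- An element acting on the points as a function. -/
def Rep (x : Γ) (f : Nat → Nat) : Prop := ∀ p < D0.N, act x p = f p

theorem Rep.lt {x : Γ} {f : Nat → Nat} (h : Rep x f) {p : Nat} (hp : p < D0.N) : f p < D0.N :=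
  h p hp ▸ act_lt x hp

theorem Rep.mul {x y : Γ} {f g : Nat → Nat} (h : Rep x f) (h' : Rep y g) : Rep (x * y) (f ∘ g) :=
  fun p hp => by rw [act_mul, h' p hp, h _ (h'.lt hp)]; rfl

theorem Rep.pow {x : Γ} {f : Nat → Nat} (h : Rep x f) : ∀ n, Rep (x ^ n) f^[n]
  | 0 => fun p _ => by rw [pow_zero, act_one]; rfl
  | n + 1 => fun p hp => by
    rw [pow_succ', (h.mul (Rep.pow h n)) p hp, Function.iterate_succ_apply']; rfl

theorem Rep.eq {x y : Γ} {f g : Nat → Nat} (h : Rep x f) (h' : Rep y g)
    (e : ∀ j < 7, f (base j) = g (base j)) : x = y :=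
  ext7 fun j hj => by rw [h _ (base_lt hj), h' _ (base_lt hj), e j hj]

/-! ### The points -/

/-- A listed point. -/
def pnt (k : Nat) : Nat := pts.getD k 0

/-- Its path. -/
def pth (k : Nat) : List Nat := pths.getD k []

/-- The action of its transposition. -/
noncomputable def R (k i : Nat) : Nat := D0.run ((pth k).reverse ++ 0 :: pth k) i

theorem pts_ok : ((List.range 56).all fun k => Nat.blt (pnt k) D0.N &&
    (pth k).all (fun x => Nat.blt x D0.NG) && Nat.beq (D0.run (pth k) 0) (pnt k)) = true := by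
  decide +kernel

theorem pts_fixed : pts.take 27 = fixed2 := by decide +kernel

/-- Its transposition. -/
noncomputable def m (k : Nat) : Γ :=
  if h : pnt k < D0.N then tau ⟨pnt k, h⟩ else 1

theorem pt_spec {k : Nat} (hk : k < 56) :
    ∃ h : pnt k < D0.N, m k = tau ⟨pnt k, h⟩ ∧ Rep (m k) (R k) := by
  have h := List.all_eq_true.mp pts_ok k (List.mem_range.mpr hk)
  simp only [Bool.and_eq_true, List.all_eq_true, Nat.blt_eq, Nat.beq_eq] at h
  refine ⟨h.1.1, dif_pos h.1.1, fun p hp => ?_⟩
  rw [m, dif_pos h.1.1]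
  exact act_tau h.1.2 h.2 hp

theorem m_mem {k : Nat} (hk : k < 56) : m k ∈ Set.range tau := by
  obtain ⟨h, e, -⟩ := pt_spec hk
  exact ⟨_, e.symm⟩

theorem conj_m {x : Γ} {f : Nat → Nat} (hx : Rep x f) {k l : Nat} (hk : k < 56) (hl : l < 56)
    (h : f (pnt k) = pnt l) : x * m k * x⁻¹ = m l := by
  obtain ⟨h1, e1, -⟩ := pt_spec hk
  obtain ⟨h2, e2, -⟩ := pt_spec hl
  rw [e1, e2, conj_tau]
  congr 1
  apply Fin.ext
  have e := hx _ h1
  rw [Cfsg.Agent.Fi22Three93.act, dif_pos h1, h] at e
  exact e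

theorem commute_m {k l : Nat} (hk : k < 56) (hl : l < 56) :
    Commute (m k) (m l) ↔ R k (pnt l) = pnt l := by
  obtain ⟨-, -, r1⟩ := pt_spec hk
  obtain ⟨h2, e2, -⟩ := pt_spec hl
  rw [e2, commute_iff, r1 _ h2]

/-! ### The element of order three -/

/-- Its action. -/
noncomputable def Z (p : Nat) : Nat := appS pcs 1 p

variable {P : Nat → Γ} (hP : TabOK P)
include hP

theorem z_rep : Rep (rep P 2) Z := fun p hp => act_elemS hP pcs pcs_lt 1 p hp

theorem z_fix_m {k : Nat} (hk : k < 56) (h : Z (pnt k) = pnt k) : Commute (rep P 2) (m k) := by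
  obtain ⟨h1, e1, -⟩ := pt_spec hk
  rw [e1, commute_iff, z_rep hP _ h1]
  exact h

omit hP in
theorem fix27 : ((List.range 27).all fun k => Nat.beq (Z (pnt k)) (pnt k)) = true := by decide +kernel

/-- A transposition centralised by the element is one of the 27. -/
theorem fixed_eq {x : Γ} (hx : x ∈ Set.range tau) (hc : Commute (rep P 2) x) :
    ∃ k < 27, x = m k := by
  obtain ⟨i, rfl⟩ := hx
  rw [commute_iff, z_rep hP _ i.isLt] at hc
  have hm := mask2_ok i i.isLt
  have hc' : appS pcs 1 i = i := hc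
  simp only [maskOk, hc', Nat.beq_refl] at hm
  have hcov := cover2 i i.isLt
  rw [beq_iff_eq] at hm
  simp only [coverOk, ← hm, Bool.not_true, Bool.false_or, List.any_eq_true, Nat.beq_eq] at hcov
  obtain ⟨p, hp, hpi⟩ := hcov
  obtain ⟨a, ha, rfl⟩ := List.mem_iff_getElem.mp hp
  have ha' : a < 27 := by rwa [length2] at ha
  refine ⟨a, ha', ?_⟩
  obtain ⟨h1, e1, -⟩ := pt_spec (k := a) (by omega)
  rw [e1]
  congr 1
  apply Fin.ext
  show (i : Nat) = pnt a
  have e : pnt a = fixed2.getD a 0 := by
    simp only [pnt, ← pts_fixed, List.getD_eq_getElem?_getD, List.getElem?_take, if_pos ha']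
  exact ((e.trans (List.getD_eq_getElem fixed2 0 ha)).trans hpi).symm

/-! ### The configuration -/

omit hP

/-- The position of point `i` of plane `k`. -/
def J (k : Fin 3) (i : Fin 3) : Nat := (tri.getD k.val []).getD i.val 0

theorem J_lt : ∀ k i, J k i < 27 := by decide +kernel

theorem J_lt' (k : Fin 3) (i : Fin 3) : J k i < 56 := lt_trans (J_lt k i) (by norm_num)

/-- The action of a quarter turn. -/
noncomputable def Gf (k : Fin 3) (p : Nat) : Nat := D0.run (turns.getD k.val []) p

/-- The quarter turns. -/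
noncomputable def turn (k : Fin 3) : Γ := (val gg (turns.getD k.val []))⁻¹

theorem turns_ok : ∀ k : Fin 3, ((turns.getD k.val []).all fun x => Nat.blt x D0.NG) = true := by
  decide +kernel

theorem turn_rep (k : Fin 3) : Rep (turn k) (Gf k) := fun p hp => by
  refine run_act ?_ hp
  intro x hx
  have h := List.all_eq_true.mp (turns_ok k) x hx
  rwa [Nat.blt_eq] at h

theorem inv_m {k : Nat} (hk : k < 56) : (m k)⁻¹ = m k := by
  obtain ⟨h, e, -⟩ := pt_spec hk
  rw [e, tau]
  generalize (exists_to ⟨pnt k, h⟩).choose = c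
  rw [mul_inv_rev, mul_inv_rev, inv_inv, inv_eq_of_mul_eq_one_right aa_sq, mul_assoc]

/-- The combined checks of a plane. -/
noncomputable def planeOk (k : Fin 3) : Bool :=
  !Nat.beq (R (J k 0) (pnt (J k 1))) (pnt (J k 1)) && !Nat.beq (R (J k 0) (pnt (J k 2))) (pnt (J k 2)) &&
  all7 (fun j => Nat.beq (R (J k 0) (R (J k 1) (R (J k 0) (R (J k 2) (base j)))))
    (Z (R (J k 0) (R (J k 2) (R (J k 0) (R (J k 1) (base j))))))) &&
  all7 (fun j => Nat.beq (Gf k (Z (base j))) (Z (Gf k (base j)))) &&
  Nat.beq (Gf k (pnt (J k 0))) (pnt (J k 0)) && Nat.beq (Gf k (pnt (J k 1))) (pnt (J k 2)) &&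
  Nat.beq (Gf k (pnt (J k 2))) (R (J k 0) (pnt (J k 1)))

theorem planes_ok : ∀ k : Fin 3, planeOk k = true := by decide +kernel

theorem cross_ok : ∀ j k : Fin 3, j ≠ k → ∀ i l : Fin 3,
    Nat.beq (R (J j i) (pnt (J k l))) (pnt (J k l)) = true := by decide +kernel

/-- The action of the first translation. -/
noncomputable def Uf (k : Fin 3) (p : Nat) : Nat := R (J k 0) (R (J k 1) p)

/-- The action of the second translation. -/
noncomputable def Vf (k : Fin 3) (p : Nat) : Nat := R (J k 0) (R (J k 2) p)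

theorem cover_ok : ((List.range 27).all fun a => (List.finRange 3).any fun k : Fin 3 =>
    (List.finRange 3).any fun i : Fin 3 => (List.finRange 3).any fun j : Fin 3 =>
      Nat.beq ((Uf k)^[i.val] ((Vf k)^[j.val] (pnt (J k 0)))) (pnt a)) = true := by
  decide +kernel

/-- The pattern test of the point off the planes. -/
noncomputable def fibOk (i : Nat) : Bool :=
  !([12, 13, 19, 0, 4, 9, 16, 1].all fun b =>
    Nat.beq (R b i) i == Nat.beq (R b (pnt 27)) (pnt 27)) ||
  orb.any fun q => Nat.beq q i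

theorem fib_0 : AllBelow fibOk 0 := AllBelow.zero _
theorem fib_1 : AllBelow fibOk 512 := AllBelow.step fib_0 512 (by decide +kernel)
theorem fib_2 : AllBelow fibOk 1024 := AllBelow.step fib_1 512 (by decide +kernel)
theorem fib_3 : AllBelow fibOk 1536 := AllBelow.step fib_2 512 (by decide +kernel)
theorem fib_4 : AllBelow fibOk 2048 := AllBelow.step fib_3 512 (by decide +kernel)
theorem fib_5 : AllBelow fibOk 2560 := AllBelow.step fib_4 512 (by decide +kernel)
theorem fib_6 : AllBelow fibOk 3072 := AllBelow.step fib_5 512 (by decide +kernel)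
theorem fib_7 : AllBelow fibOk 3510 := AllBelow.step fib_6 438 (by decide +kernel)

theorem orb_ok : (orb.all fun q => (List.range 3).any fun l => Nat.beq (Z^[l] (pnt 27)) q) = true := by
  decide +kernel

theorem steps_ok : ((List.range 28).all fun k =>
    Nat.blt (steps.getD k (0, 0)).1 (28 + k) && Nat.blt (steps.getD k (0, 0)).2 (28 + k) &&
      Nat.beq (R (steps.getD k (0, 0)).1 (pnt (steps.getD k (0, 0)).2)) (pnt (28 + k))) = true := by
  decide +kernel

theorem gpos_ok : ((List.range 9).all fun x => Nat.blt (gpos.getD x 0) 56 &&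
    all7 fun j => Nat.beq (D0.run [x] (base j)) (R (gpos.getD x 0) (base j))) = true := by
  decide +kernel

/-- Every derived transposition lies in a subgroup containing the first 28. -/
theorem derived {H : Subgroup Γ} (h : ∀ k < 28, m k ∈ H) : ∀ k < 56, m k ∈ H := by
  intro k
  induction k using Nat.strong_induction_on with
  | _ k ih =>
    intro hk
    by_cases hs : k < 28
    · exact h k hs
    obtain ⟨n, rfl⟩ : ∃ n, k = 28 + n := ⟨k - 28, by omega⟩
    have e := List.all_eq_true.mp steps_ok n (List.mem_range.mpr (by omega))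
    simp only [Bool.and_eq_true, Nat.blt_eq, Nat.beq_eq] at e
    obtain ⟨⟨hs1, hq1⟩, he⟩ := e
    obtain ⟨-, -, r1⟩ := pt_spec (k := (steps.getD n (0, 0)).1) (by omega)
    rw [← conj_m r1 (k := (steps.getD n (0, 0)).2) (l := 28 + n) (by omega) hk he]
    exact H.mul_mem (H.mul_mem (ih _ hs1 (by omega)) (ih _ hq1 (by omega)))
      (H.inv_mem (ih _ hs1 (by omega)))

theorem closure_eq_top {H : Subgroup Γ} (h : ∀ k < 28, m k ∈ H) : H = ⊤ := by
  rw [eq_top_iff, ← closure_gg CosetCertFi22U.good, Subgroup.closure_le]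
  rintro _ ⟨x, hx, rfl⟩
  have e := List.all_eq_true.mp gpos_ok x (List.mem_range.mpr hx)
  simp only [Bool.and_eq_true, Nat.blt_eq, all7_iff, Nat.beq_eq] at e
  obtain ⟨-, -, r⟩ := pt_spec e.1
  have hgg : CosetCertFi22UData.pres.gg x = m (gpos.getD x 0) := by
    refine ext7 fun j hj => ?_
    have hrun := run_act (w := [x]) (fun y hy => by
      rw [List.mem_singleton.mp hy]; exact hx) (base_lt hj)
    rw [val_cons, val_nil, mul_one, inv_eq_of_mul_eq_one_right (gg_sq CosetCertFi22U.good x)] at hrun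
    rw [r _ (base_lt hj), ← e.2 j hj, ← hrun]
  rw [SetLike.mem_coe, hgg]
  exact derived h _ e.1

/-- The configuration in the presented group. -/
noncomputable def config (hP : TabOK P) : ThreeCentral6.Config (Set.range tau) 3 where
  z := rep P 2
  p k i := m (J k i)
  g := turn
  a := m 27
  z_ord := root_order hP 2
  mem k i := m_mem (J_lt' k i)
  comz k i := z_fix_m hP (J_lt' k i) (by
    have h := List.all_eq_true.mp fix27 _ (List.mem_range.mpr (J_lt k i))
    rwa [Nat.beq_eq] at h)
  nc1 k := by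
    have h := planes_ok k
    simp only [planeOk, Bool.and_eq_true, Bool.not_eq_true', ← Bool.not_eq_true, Nat.beq_eq] at h
    rw [commute_m (J_lt' k 0) (J_lt' k 1)]
    exact h.1.1.1.1.1.1
  nc2 k := by
    have h := planes_ok k
    simp only [planeOk, Bool.and_eq_true, Bool.not_eq_true', ← Bool.not_eq_true, Nat.beq_eq] at h
    rw [commute_m (J_lt' k 0) (J_lt' k 2)]
    exact h.1.1.1.1.1.2
  cross j k i l hjk := by
    rw [commute_m (J_lt' j i) (J_lt' k l)]
    exact Nat.beq_eq.mp (cross_ok j k hjk i l)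
  comm k := by
    have h := planes_ok k
    simp only [planeOk, Bool.and_eq_true, Nat.beq_eq, all7_iff] at h
    obtain ⟨-, -, r0⟩ := pt_spec (J_lt' k 0)
    obtain ⟨-, -, r1⟩ := pt_spec (J_lt' k 1)
    obtain ⟨-, -, r2⟩ := pt_spec (J_lt' k 2)
    exact ((r0.mul r1).mul (r0.mul r2)).eq ((z_rep hP).mul ((r0.mul r2).mul (r0.mul r1))) h.1.1.1.1.2
  cover x hx hc := by
    obtain ⟨a, ha, rfl⟩ := fixed_eq hP hx hc
    have h := List.all_eq_true.mp cover_ok a (List.mem_range.mpr ha)
    simp only [List.any_eq_true, List.mem_finRange, true_and, Nat.beq_eq] at h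
    obtain ⟨k, i, j, h⟩ := h
    obtain ⟨-, -, r0⟩ := pt_spec (J_lt' k 0)
    obtain ⟨-, -, r1⟩ := pt_spec (J_lt' k 1)
    obtain ⟨-, -, r2⟩ := pt_spec (J_lt' k 2)
    exact ⟨k, i, j, (conj_m (((r0.mul r1).pow i).mul ((r0.mul r2).pow j)) (J_lt' k 0)
      (l := a) (by omega) h).symm⟩
  g_z k := by
    have h := planes_ok k
    simp only [planeOk, Bool.and_eq_true, Nat.beq_eq, all7_iff] at h
    exact ((turn_rep k).mul (z_rep hP)).eq ((z_rep hP).mul (turn_rep k)) h.1.1.1.2
  g0 k := by
    have h := planes_ok k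
    simp only [planeOk, Bool.and_eq_true, Nat.beq_eq, all7_iff] at h
    exact conj_m (turn_rep k) (J_lt' k 0) (J_lt' k 0) h.1.1.2
  g1 k := by
    have h := planes_ok k
    simp only [planeOk, Bool.and_eq_true, Nat.beq_eq, all7_iff] at h
    exact conj_m (turn_rep k) (J_lt' k 1) (J_lt' k 2) h.1.2
  g2 k := by
    have h := planes_ok k
    simp only [planeOk, Bool.and_eq_true, Nat.beq_eq, all7_iff] at h
    obtain ⟨h1, e1, -⟩ := pt_spec (J_lt' k 1)
    obtain ⟨h2, e2, -⟩ := pt_spec (J_lt' k 2)
    obtain ⟨-, -, r0⟩ := pt_spec (J_lt' k 0)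
    calc turn k * m (J k 2) * (turn k)⁻¹
        = m (J k 0) * m (J k 1) * (m (J k 0))⁻¹ := by
          rw [e2, e1, conj_tau, conj_tau]
          congr 1
          apply Fin.ext
          have a := turn_rep k _ h2
          have b := r0 _ h1
          rw [Cfsg.Agent.Fi22Three93.act, dif_pos h2, h.2] at a
          rw [Cfsg.Agent.Fi22Three93.act, dif_pos h1] at b
          exact a.trans b.symm
      _ = _ := by rw [inv_m (J_lt' k 0)]
  a_mem := m_mem (by norm_num)
  fib x hx hpat := by
    obtain ⟨i, rfl⟩ := hx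
    have h := fib_7 i i.isLt
    simp only [fibOk, Bool.or_eq_true, Bool.not_eq_true', ← Bool.not_eq_true, List.any_eq_true,
      List.all_eq_true, Nat.beq_eq] at h
    rcases h with h | ⟨q, hq, hqi⟩
    · refine absurd (fun b hb => ?_) h
      have hb27 : b < 27 := (show ∀ b ∈ [12, 13, 19, 0, 4, 9, 16, 1], b < 27 by decide) b hb
      have hb56 : b < 56 := by omega
      obtain ⟨-, -, rb⟩ := pt_spec hb56
      have hz : Commute (rep P 2) (m b) := z_fix_m hP hb56 (by
        have h := List.all_eq_true.mp fix27 _ (List.mem_range.mpr hb27)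
        rwa [Nat.beq_eq] at h)
      have e := hpat (m b) (m_mem hb56) hz
      rw [Commute.symm_iff, commute_iff, rb _ i.isLt, Commute.symm_iff (a := m 27),
        commute_m hb56 (by norm_num : 27 < 56)] at e
      rw [beq_iff_eq, Bool.eq_iff_iff, Nat.beq_eq, Nat.beq_eq]
      exact e
    · have ho := List.all_eq_true.mp orb_ok q hq
      simp only [List.any_eq_true, Nat.beq_eq] at ho
      obtain ⟨l, -, hl⟩ := ho
      refine ⟨l, ?_⟩
      obtain ⟨h1, e1, -⟩ := pt_spec (k := 27) (by norm_num)
      rw [e1, conj_tau]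
      congr 1
      apply Fin.ext
      have e := (z_rep hP).pow l _ h1
      rw [Cfsg.Agent.Fi22Three93.act, dif_pos h1, hl, hqi] at e
      exact e.symm
  gen := closure_eq_top fun k hk => by
    by_cases h : k < 27
    · refine Subgroup.subset_closure (Set.mem_insert_of_mem _ ⟨m_mem (by omega), z_fix_m hP (by omega) ?_⟩)
      have h := List.all_eq_true.mp fix27 _ (List.mem_range.mpr h)
      rwa [Nat.beq_eq] at h
    · rw [show k = 27 by omega]
      exact Subgroup.subset_closure (Set.mem_insert _ _)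
  pos := by norm_num

/-! ### Inverting element -/

theorem flip_ok : (flip.all (fun x => Nat.blt x D0.NG) &&
    all7 fun j => Nat.beq (Z (D0.run flip (Z (base j)))) (D0.run flip (base j))) = true := by
  decide +kernel

/-- The element is inverted. -/
theorem exists_inverting (hP : TabOK P) : ∃ h : Γ, h * rep P 2 * h⁻¹ = (rep P 2)⁻¹ := by
  have h := flip_ok
  simp only [Bool.and_eq_true, List.all_eq_true, Nat.blt_eq, all7_iff, Nat.beq_eq] at h
  refine ⟨(val gg flip)⁻¹, ?_⟩
  have hr : Rep (val gg flip)⁻¹ fun p => D0.run flip p := fun p hp => run_act h.1 hp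
  have e : rep P 2 * ((val gg flip)⁻¹ * rep P 2) = (val gg flip)⁻¹ :=
    ((z_rep hP).mul (hr.mul (z_rep hP))).eq hr h.2
  rw [eq_inv_iff_mul_eq_one]
  calc (val gg flip)⁻¹ * rep P 2 * ((val gg flip)⁻¹)⁻¹ * rep P 2
      = (rep P 2)⁻¹ * (rep P 2 * ((val gg flip)⁻¹ * rep P 2)) * ((val gg flip)⁻¹)⁻¹ * rep P 2 := by
        group
    _ = 1 := by rw [e]; group

/-! ### Fixed neighbours -/

/-- Adjacency recorded in a neighbour list. -/
def adj (nb : List Nat) (a b : Nat) : Bool :=
  Nat.beq (Nat.land (Nat.shiftRight (nb.getD (max a b) 0) (min a b)) 1) 1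

theorem ncard_nbrs {r n mask : Nat} {F : List Nat} {W : List (List Nat)} {nb : List Nat}
    (hP : TabOK P) (hn : F.length = n) (hnd : F.Nodup)
    (hmask : AllBelow (maskOk r mask) 3510) (hcover : AllBelow (coverOk F mask) 3510)
    (hnb : AllBelow (nbrOk F W nb) n)
    (hF : F.all (fun p => Nat.blt p 3510 && Nat.beq (appS pcs r p) p) = true)
    {x : Γ} (hx : x ∈ Set.range tau) (hxr : Commute (elemS P pcs r) x) :
    ∃ a < n, {y | y ∈ Set.range tau ∧ y ≠ x ∧ Commute x y ∧ Commute (elemS P pcs r) y}.ncard =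
      (List.range n).countP fun b => b != a && adj nb a b := by
  classical
  simp only [List.all_eq_true, Bool.and_eq_true, Nat.blt_eq, Nat.beq_eq] at hF
  have hget : ∀ a (ha : a < n), F.getD a 0 = F[a]'(hn.symm ▸ ha) := fun a ha =>
    List.getD_eq_getElem _ _ _
  have hlt : ∀ a, a < n → F.getD a 0 < D0.N ∧ appS pcs r (F.getD a 0) = F.getD a 0 := fun a ha =>
    hget a ha ▸ hF _ (List.getElem_mem _)
  let t : Nat → Γ := fun a => if h : F.getD a 0 < D0.N then tau ⟨_, h⟩ else 1
  have hfix : ∀ y ∈ Set.range tau, Commute (elemS P pcs r) y → ∃ a < n, y = t a := by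
    rintro _ ⟨i, rfl⟩ hc
    rw [commute_iff, act_elemS hP pcs pcs_lt r i i.isLt] at hc
    have hm := hmask i i.isLt
    simp only [maskOk, hc, Nat.beq_refl] at hm
    have hc := hcover i i.isLt
    rw [beq_iff_eq] at hm
    simp only [coverOk, ← hm, Bool.not_true, Bool.false_or, List.any_eq_true, Nat.beq_eq] at hc
    obtain ⟨p, hp, hpi⟩ := hc
    obtain ⟨a, ha, rfl⟩ := List.mem_iff_getElem.mp hp
    refine ⟨a, hn ▸ ha, ?_⟩
    simp only [t, dif_pos (hlt a (hn ▸ ha)).1]
    congr 1
    apply Fin.ext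
    show (i : Nat) = F.getD a 0
    rw [hget a (hn ▸ ha)]
    exact hpi.symm
  have htinj : ∀ a < n, ∀ b < n, t a = t b → a = b := by
    intro a ha b hb e
    simp only [t, dif_pos (hlt a ha).1, dif_pos (hlt b hb).1] at e
    have e' := congrArg Fin.val (tau_injective e)
    simp only at e'
    rwa [hget a ha, hget b hb, hnd.getElem_inj_iff] at e'
  have htc : ∀ a < n, Commute (elemS P pcs r) (t a) := fun a ha => by
    simp only [t, dif_pos (hlt a ha).1]
    rw [commute_iff, act_elemS hP pcs pcs_lt r _ (hlt a ha).1]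
    exact (hlt a ha).2
  have hedge : ∀ a < n, ∀ b < n, b ≠ a → (Commute (t a) (t b) ↔ adj nb a b = true) := by
    have key : ∀ a < n, ∀ b, b < a → (Commute (t a) (t b) ↔ adj nb a b = true) := by
      intro a ha b hba
      have h := hnb a ha
      simp only [nbrOk, Bool.and_eq_true, List.all_eq_true, Nat.blt_eq, Nat.beq_eq] at h
      obtain ⟨⟨⟨-, hlet⟩, hrun⟩, hall⟩ := h
      have hb := (allFrom_iff _ a 0).mp hall b (Nat.zero_le _) (by omega)
      rw [beq_iff_eq] at hb
      simp only [t, dif_pos (hlt a ha).1, dif_pos (hlt b (hba.trans ha)).1]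
      rw [commute_iff, act_tau hlet hrun (hlt b (hba.trans ha)).1, adj, max_eq_left hba.le,
        min_eq_right hba.le, ← hb, Nat.beq_eq]
    intro a ha b hb hne
    rcases lt_or_gt_of_ne hne with h | h
    · exact key a ha b h
    · rw [Commute.symm_iff, key b hb a h, adj, adj, max_comm, min_comm]
  obtain ⟨a, ha, rfl⟩ := hfix x hx hxr
  refine ⟨a, ha, ?_⟩
  rw [List.countP_eq_length_filter, ← List.toFinset_card_of_nodup (List.nodup_range.filter _),
    ← Set.ncard_coe_finset]
  refine (Set.ncard_congr (fun b _ => t b) ?_ ?_ ?_).symm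
  · intro b hb
    simp only [List.coe_toFinset, Set.mem_ofPred_eq, List.mem_filter, List.mem_range, Bool.and_eq_true,
      bne_iff_ne] at hb
    refine ⟨?_, fun e => hb.2.1 (htinj b hb.1 a ha e), (hedge a ha b hb.1 hb.2.1).mpr hb.2.2, htc b hb.1⟩
    simp only [t, dif_pos (hlt b hb.1).1]
    exact ⟨_, rfl⟩
  · intro b c hb hc e
    simp only [List.coe_toFinset, Set.mem_ofPred_eq, List.mem_filter, List.mem_range] at hb hc
    exact htinj b hb.1 c hc.1 e
  · rintro y ⟨hy, hya, hyc, hyr⟩
    obtain ⟨b, hb, rfl⟩ := hfix y hy hyr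
    have hne : b ≠ a := fun e => hya (by rw [e])
    refine ⟨b, ?_, rfl⟩
    simp only [List.coe_toFinset, Set.mem_ofPred_eq, List.mem_filter, List.mem_range, Bool.and_eq_true,
      bne_iff_ne]
    exact ⟨hb, hne, (hedge a ha b hb hne).mp hyc⟩

theorem count0 : ((List.range 126).all fun a =>
    !Nat.beq ((List.range 126).countP fun b => b != a && adj nbrs0 a b) 18) = true := by decide +kernel

theorem count1 : ((List.range 36).all fun a =>
    !Nat.beq ((List.range 36).countP fun b => b != a && adj nbrs1 a b) 18) = true := by decide +kernel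

theorem count2 : ((List.range 27).all fun a =>
    Nat.beq ((List.range 27).countP fun b => b != a && adj nbrs2 a b) 18) = true := by decide +kernel

theorem nodup_fixed : fixed0.Nodup ∧ fixed1.Nodup ∧ fixed2.Nodup :=
  ⟨clique0_ok.2.2.2, clique1_ok.2.2.2, clique2_ok.2.2.2⟩

/-- Eighteen fixed neighbours at a fixed transposition single out the class. -/
theorem eighteen (hP : TabOK P) {i : Fin 4} {x : Γ} (hx : x ∈ Set.range tau) (hxr : Commute (rep P i) x)
    (h : {y | y ∈ Set.range tau ∧ y ≠ x ∧ Commute x y ∧ Commute (rep P i) y}.ncard = 18) : i = 2 := by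
  fin_cases i
  · obtain ⟨a, ha, e⟩ := ncard_nbrs hP length0 nodup_fixed.1 mask0_ok cover0 nbr0 nodup0 hx hxr
    have h0 := List.all_eq_true.mp count0 a (List.mem_range.mpr ha)
    rw [e.symm.trans h] at h0
    exact absurd h0 (by decide)
  · obtain ⟨a, ha, e⟩ := ncard_nbrs hP length1 nodup_fixed.2.1 mask1_ok cover1 nbr1 nodup1 hx hxr
    have h0 := List.all_eq_true.mp count1 a (List.mem_range.mpr ha)
    rw [e.symm.trans h] at h0
    exact absurd h0 (by decide)
  · rfl
  · obtain ⟨i, rfl⟩ := hx
    rw [commute_iff, rep, act_elemS hP pcs pcs_lt _ i i.isLt] at hxr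
    have hm := mask3_ok i i.isLt
    have hxr' : appS pcs 45 i = i := hxr
    simp only [maskOk, hxr', Nat.beq_refl] at hm
    have hc := cover3 i i.isLt
    rw [beq_iff_eq] at hm
    simp only [coverOk, ← hm, Bool.not_true, Bool.false_or, List.any_eq_true] at hc
    obtain ⟨p, hp, -⟩ := hc
    simp [fixed3] at hp

end Cfsg.Agent.ThreeCentralM22x19
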