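import Mathlib
import Cfsg.Prelude.Def_GeometricClasses

/-!
Over the field with three elements a non-degenerate symmetric form in dimension at most three has,
for one of the two non-zero values, exactly as many lines of vectors with that value as its dimension,
forming an orthogonal frame.
-/

set_option autoImplicit false

namespace Cfsg.Agent.ThreeFrames

open scoped Matrix

variable {F : Type*} [Field F] [Fintype F]

section Field

variable (h3 : Fintype.card F = 3)
include h3

/-- The field is `ZMod 3`. -/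
noncomputable def toZ : F ≃+* ZMod 3 := (ZMod.ringEquivOfPrime F Nat.prime_three h3).symm

theorem three_zero : (3 : F) = 0 := (toZ h3).injective (by rw [map_ofNat, map_zero]; rfl)

theorem two_ne : (2 : F) ≠ 0 := fun h => by
  have := congrArg (toZ h3) h
  rw [map_ofNat, map_zero] at this
  exact absurd this (by decide)

theorem sq_one {a : F} (ha : a ≠ 0) : a * a = 1 := (toZ h3).injective (by
  have key : ∀ x : ZMod 3, x ≠ 0 → x * x = 1 := by decide
  rw [map_mul, map_one]
  exact key _ ((map_ne_zero_iff _ (toZ h3).injective).mpr ha))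

theorem cases_pm {a e : F} (ha : a ≠ 0) (he : e ≠ 0) : a = e ∨ a = -e := by
  have key : ∀ x y : ZMod 3, x ≠ 0 → y ≠ 0 → x = y ∨ x = -y := by decide
  rcases key _ _ ((map_ne_zero_iff _ (toZ h3).injective).mpr ha)
    ((map_ne_zero_iff _ (toZ h3).injective).mpr he) with h | h
  · exact Or.inl ((toZ h3).injective h)
  · exact Or.inr ((toZ h3).injective (by rw [map_neg]; exact h))

/-- Vectors of value `1` for the sum of squares in dimension at most three. -/
theorem weight_one {d : ℕ} (hd : d ≤ 3) (c : Fin d → F) (hc : ∑ i, c i * c i = 1) :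
    ∃ i, ∀ j, j ≠ i → c j = 0 := by
  have key1 : ∀ x : Fin 1 → ZMod 3, ∑ i, x i * x i = 1 → ∃ i, ∀ j, j ≠ i → x j = 0 := by decide
  have key2 : ∀ x : Fin 2 → ZMod 3, ∑ i, x i * x i = 1 → ∃ i, ∀ j, j ≠ i → x j = 0 := by decide
  have key3 : ∀ x : Fin 3 → ZMod 3, ∑ i, x i * x i = 1 → ∃ i, ∀ j, j ≠ i → x j = 0 := by decide
  have key : ∀ x : Fin d → ZMod 3, ∑ i, x i * x i = 1 → ∃ i, ∀ j, j ≠ i → x j = 0 := by
    interval_cases d
    · intro x hx; simp at hx
    · exact key1
    · exact key2
    · exact key3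
  have he : ∑ i, toZ h3 (c i) * toZ h3 (c i) = 1 := by
    simp only [← map_mul, ← map_sum, hc, map_one]
  obtain ⟨i, hi⟩ := key _ he
  exact ⟨i, fun j hj => (toZ h3).injective (by rw [map_zero]; exact hi j hj)⟩

/-- No three mutually orthogonal vectors of value `-1`. -/
theorem no_triple (c : Fin 3 → Fin 3 → F) (hd : ∀ i, ∑ k, c i k * c i k = -1)
    (ho : ∀ i j, i ≠ j → ∑ k, c i k * c j k = 0) : False := by
  have key : ∀ x : Fin 3 → ZMod 3, ∑ k, x k * x k = -1 → ∀ y : Fin 3 → ZMod 3,
      ∑ k, y k * y k = -1 → ∑ k, x k * y k = 0 → ∀ z : Fin 3 → ZMod 3,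
      ∑ k, z k * z k = -1 → ∑ k, x k * z k = 0 → ∑ k, y k * z k = 0 → False := by decide +kernel
  have h1 : ∀ i, ∑ k, toZ h3 (c i k) * toZ h3 (c i k) = -1 := fun i => by
    simp only [← map_mul, ← map_sum, hd i, map_neg, map_one]
  have h2 : ∀ i j, i ≠ j → ∑ k, toZ h3 (c i k) * toZ h3 (c j k) = 0 := fun i j hij => by
    simp only [← map_mul, ← map_sum, ho i j hij, map_zero]
  exact key _ (h1 0) _ (h1 1) (h2 0 1 (by decide)) _ (h1 2) (h2 0 2 (by decide)) (h2 1 2 (by decide))

end Field

section Forms

variable {V : Type*} [AddCommGroup V] [Module F V]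

/-- A symmetric bilinear form given as a function. -/
structure Sym (f : V → V → F) : Prop where
  add_left : ∀ x y v, f (x + y) v = f x v + f y v
  smul_left : ∀ (c : F) (x v : V), f (c • x) v = c * f x v
  symm : ∀ x y, f x y = f y x

variable {f : V → V → F}

omit [Fintype F] in
theorem Sym.add_right (H : Sym f) (v x y : V) : f v (x + y) = f v x + f v y := by
  rw [H.symm, H.add_left, H.symm x, H.symm y]

omit [Fintype F] in
theorem Sym.smul_right (H : Sym f) (c : F) (v x : V) : f v (c • x) = c * f v x := by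
  rw [H.symm, H.smul_left, H.symm x]

omit [Fintype F] in
theorem Sym.zero_left (H : Sym f) (v : V) : f 0 v = 0 := by
  simpa using H.smul_left 0 0 v

omit [Fintype F] in
theorem Sym.sum_left (H : Sym f) {κ : Type*} (s : Finset κ) (g : κ → V) (v : V) :
    f (∑ i ∈ s, g i) v = ∑ i ∈ s, f (g i) v := by
  classical
  induction s using Finset.induction_on with
  | empty => simp [H.zero_left]
  | insert a s ha ih => rw [Finset.sum_insert ha, Finset.sum_insert ha, H.add_left, ih]

omit [Fintype F] in
theorem Sym.coord (H : Sym f) {d : ℕ} {y : Fin d → V} (ho : ∀ i j, i ≠ j → f (y i) (y j) = 0)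
    (c : Fin d → F) (j : Fin d) : f (∑ i, c i • y i) (y j) = c j * f (y j) (y j) := by
  rw [H.sum_left, Finset.sum_eq_single j (fun i _ hi => by rw [H.smul_left, ho i j hi, mul_zero])
    (fun h => absurd (Finset.mem_univ j) h), H.smul_left]

omit [Fintype F] in
theorem Sym.expand (H : Sym f) {d : ℕ} {y : Fin d → V} (ho : ∀ i j, i ≠ j → f (y i) (y j) = 0)
    (c c' : Fin d → F) :
    f (∑ i, c i • y i) (∑ i, c' i • y i) = ∑ i, c i * c' i * f (y i) (y i) := by
  rw [H.sum_left]
  refine Finset.sum_congr rfl fun i _ => ?_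
  rw [H.smul_left, H.symm, H.coord ho c' i]
  ring

omit [Fintype F] in
/-- An orthogonal basis of a non-degenerate subspace, in characteristic not two. -/
theorem Sym.exists_basis (H : Sym f) [FiniteDimensional F V] (h2 : (2 : F) ≠ 0) {W : Submodule F V}
    (hW : ∀ w ∈ W, w ≠ 0 → ∃ x ∈ W, f w x ≠ 0) {d : ℕ} (hd : Module.finrank F W = d) :
    ∃ y : Fin d → V, (∀ i, y i ∈ W) ∧ (∀ i j, i ≠ j → f (y i) (y j) = 0) ∧
      (∀ i, f (y i) (y i) ≠ 0) ∧ ∀ v ∈ W, ∃ c : Fin d → F, v = ∑ i, c i • y i := by
  subst hd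
  let B : LinearMap.BilinForm F W := LinearMap.mk₂ F (fun v w => f v w)
    (fun _ _ _ => H.add_left _ _ _) (fun _ _ _ => H.smul_left _ _ _)
    (fun _ _ _ => H.add_right _ _ _) (fun _ _ _ => H.smul_right _ _ _)
  have hB : LinearMap.IsSymm B := ⟨fun v w => H.symm v w⟩
  haveI := invertibleOfNonzero h2
  obtain ⟨b, hb⟩ := LinearMap.BilinForm.exists_orthogonal_basis hB
  refine ⟨fun i => b i, fun i => (b i).2, fun i j hij => hb hij, fun i h0 => ?_, fun v hv => ?_⟩
  · have hne : ((b i : W) : V) ≠ 0 := fun e => b.ne_zero i (Subtype.ext e)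
    obtain ⟨x, hx, hxne⟩ := hW _ (b i).2 hne
    apply hxne
    have hx' : x = ∑ j, b.repr ⟨x, hx⟩ j • ((b j : W) : V) := by
      have := congrArg (fun w : W => (w : V)) (b.sum_repr ⟨x, hx⟩)
      simp only [Submodule.coe_sum, Submodule.coe_smul] at this
      exact this.symm
    rw [hx', H.symm, H.coord (fun i j hij => hb hij), h0, mul_zero]
  · refine ⟨fun j => b.repr ⟨v, hv⟩ j, ?_⟩
    have := congrArg (fun w : W => (w : V)) (b.sum_repr ⟨v, hv⟩)
    simp only [Submodule.coe_sum, Submodule.coe_smul] at this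
    exact this.symm

variable (h3 : Fintype.card F = 3)
include h3

/-- The frame data. -/
structure Frame (f : V → V → F) (W : Submodule F V) (d : ℕ) (ε : F) where
  y : Fin d → V
  ne : ε ≠ 0
  mem : ∀ i, y i ∈ W
  orth : ∀ i j, i ≠ j → f (y i) (y j) = 0
  val : ∀ i, f (y i) (y i) = ε
  span : ∀ v ∈ W, ∃ c : Fin d → F, v = ∑ i, c i • y i

/-- Norm-`ε` vectors lie on the frame lines. -/
theorem Frame.lines {W : Submodule F V} {d : ℕ} {ε : F} (Y : Frame f W d ε) (H : Sym f) (hd : d ≤ 3)
    {v : V} (hv : v ∈ W) (hval : f v v = ε) : ∃ (i : Fin d) (c : F), v = c • Y.y i := by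
  obtain ⟨c, rfl⟩ := Y.span v hv
  rw [H.expand Y.orth] at hval
  simp only [Y.val, ← Finset.sum_mul] at hval
  obtain ⟨i, hi⟩ := weight_one h3 hd c (mul_right_cancel₀ Y.ne (by rw [hval, one_mul]))
  exact ⟨i, c i, Finset.sum_eq_single i (fun j _ hj => by rw [hi j hj, zero_smul])
    (fun h => absurd (Finset.mem_univ i) h)⟩

/-- In dimension three a similarity of multiplier `-1` does not exist. -/
theorem Frame.multiplier {W : Submodule F V} {ε l : F} (Y : Frame f W 3 ε) (H : Sym f) (hl : l ≠ 0)
    (z : Fin 3 → V) (hz : ∀ i, z i ∈ W) (hzz : ∀ i j, f (z i) (z j) = l * f (Y.y i) (Y.y j)) :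
    l = 1 := by
  rcases cases_pm h3 hl one_ne_zero with e | e
  · exact e
  exfalso
  choose c hc using fun i => Y.span (z i) (hz i)
  refine no_triple h3 c (fun i => mul_right_cancel₀ Y.ne ?_) (fun i j hij => mul_right_cancel₀ Y.ne ?_)
  · have := hzz i i
    rw [hc i, H.expand Y.orth, Y.val, e] at this
    simp only [Y.val, ← Finset.sum_mul] at this
    exact this
  · have := hzz i j
    rw [hc i, hc j, H.expand Y.orth, Y.orth i j hij, mul_zero] at this
    simp only [Y.val, ← Finset.sum_mul] at this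
    rw [this, zero_mul]

/-- A frame exists in dimension three. -/
theorem exists_frame_three (H : Sym f) [FiniteDimensional F V] {W : Submodule F V}
    (hW : ∀ w ∈ W, w ≠ 0 → ∃ x ∈ W, f w x ≠ 0) (hd : Module.finrank F W = 3) :
    ∃ ε, Nonempty (Frame f W 3 ε) := by
  obtain ⟨y, hy, ho, hne, hspan⟩ := H.exists_basis (two_ne h3) hW hd
  -- two equal values `a, a` and a third `-a` become three values `-a`
  have fix : ∀ i j k : Fin 3, i ≠ j → i ≠ k → j ≠ k →
      f (y i) (y i) = f (y j) (y j) → f (y k) (y k) = - f (y i) (y i) →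
      ∃ ε, Nonempty (Frame f W 3 ε) := by
    intro i j k hij hik hjk e1 e2
    have t2 : (3 : F) = 0 := three_zero h3
    have aux : ∀ l : Fin 3, ∀ (z : Fin 3 → V), z = ![y i + y j, y i + (-1 : F) • y j, y k] →
        z l ∈ W := by
      intro l z hz
      subst hz
      fin_cases l
      · exact W.add_mem (hy i) (hy j)
      · exact W.add_mem (hy i) (W.smul_mem _ (hy j))
      · exact hy k
    have oij := ho i j hij
    have oji := ho j i hij.symm
    have oik := ho i k hik
    have oki := ho k i hik.symm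
    have ojk := ho j k hjk
    have okj := ho k j hjk.symm
    refine ⟨_, ⟨⟨![y i + y j, y i + (-1 : F) • y j, y k], neg_ne_zero.mpr (hne i), fun l => aux l _ rfl,
      ?_, ?_, ?_⟩⟩⟩
    · intro p q hpq
      fin_cases p <;> fin_cases q <;>
        first
          | exact absurd rfl hpq
          | (simp only [Fin.zero_eta, Fin.mk_one, Fin.reduceFinMk, Matrix.cons_val_zero,
              Matrix.cons_val_one, Matrix.cons_val, H.add_left, H.add_right, H.smul_left, H.smul_right,
              oij, oji, oik, oki, ojk, okj, e1]; ring)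
    · intro l
      fin_cases l <;>
        simp only [Fin.zero_eta, Fin.mk_one, Fin.reduceFinMk, Matrix.cons_val_zero,
          Matrix.cons_val_one, Matrix.cons_val, H.add_left, H.add_right, H.smul_left, H.smul_right,
          oij, oji, e1, e2]
      all_goals linear_combination (f (y j) (y j)) * t2
    · intro v hv
      obtain ⟨c, rfl⟩ := hspan v hv
      refine ⟨![-(c i + c j), -(c i - c j), c k], ?_⟩
      have hsum : ∑ l, c l • y l = c i • y i + c j • y j + c k • y k := by
        rw [← Finset.sum_subset (Finset.subset_univ ({i, j, k} : Finset (Fin 3)))]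
        · rw [Finset.sum_insert (by simp [hij, hik]), Finset.sum_pair hjk, add_assoc]
        · intro l _ hl
          exfalso
          simp only [Finset.mem_insert, Finset.mem_singleton, not_or] at hl
          omega
      rw [hsum, Fin.sum_univ_three]
      simp only [Matrix.cons_val_zero, Matrix.cons_val_one, Matrix.cons_val]
      match_scalars
      · linear_combination (c i) * t2
      · linear_combination (c j) * t2
      · ring
  rcases cases_pm h3 (hne 1) (hne 0) with a | a <;> rcases cases_pm h3 (hne 2) (hne 0) with b | b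
  · exact ⟨_, ⟨⟨y, hne 0, hy, ho, fun i => by fin_cases i <;> simp [a, b], hspan⟩⟩⟩
  · exact fix 0 1 2 (by decide) (by decide) (by decide) a.symm b
  · exact fix 0 2 1 (by decide) (by decide) (by decide) b.symm a
  · exact fix 1 2 0 (by decide) (by decide) (by decide) (a.trans b.symm) (by rw [a, neg_neg])

/-- A frame exists in an anisotropic plane. -/
theorem exists_frame_two (H : Sym f) [FiniteDimensional F V] {W : Submodule F V}
    (hW : ∀ w ∈ W, w ≠ 0 → ∃ x ∈ W, f w x ≠ 0) (hd : Module.finrank F W = 2)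
    (han : ∀ w ∈ W, f w w = 0 → w = 0) :
    ∃ ε, Nonempty (Frame f W 2 ε) := by
  obtain ⟨y, hy, ho, hne, hspan⟩ := H.exists_basis (two_ne h3) hW hd
  refine ⟨_, ⟨⟨y, hne 0, hy, ho, fun i => ?_, hspan⟩⟩⟩
  fin_cases i
  · rfl
  rcases cases_pm h3 (hne 1) (hne 0) with a | a
  · exact a
  exfalso
  have h0 : y 0 + y 1 = 0 := han _ (W.add_mem (hy 0) (hy 1)) (by
    rw [H.add_left, H.add_right, H.add_right, ho 0 1 (by decide), ho 1 0 (by decide), a]; ring)
  have := ho 0 1 (by decide)
  rw [show y 1 = (-1 : F) • y 0 by rw [neg_one_smul]; exact eq_neg_of_add_eq_zero_right h0,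
    H.smul_right] at this
  exact hne 0 (by linear_combination -this)

/-- A non-zero isotropic vector in dimension at least three. -/
theorem exists_isotropic (H : Sym f) [FiniteDimensional F V] {W : Submodule F V}
    (hW : ∀ w ∈ W, w ≠ 0 → ∃ x ∈ W, f w x ≠ 0) (hd : 3 ≤ Module.finrank F W) :
    ∃ u ∈ W, u ≠ 0 ∧ f u u = 0 := by
  obtain ⟨y, hy, ho, hne, -⟩ := H.exists_basis (two_ne h3) hW rfl
  let i : Fin (Module.finrank F W) := ⟨0, by omega⟩
  let j : Fin (Module.finrank F W) := ⟨1, by omega⟩
  let k : Fin (Module.finrank F W) := ⟨2, by omega⟩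
  have hij : i ≠ j := by simp [i, j, Fin.ext_iff]
  have hik : i ≠ k := by simp [i, k, Fin.ext_iff]
  have hjk : j ≠ k := by simp [j, k, Fin.ext_iff]
  have nz : ∀ p : Fin (Module.finrank F W), ∀ w : V, f w (y p) = 0 → w + y p ≠ 0 := fun p w hw e => by
    have := congrArg (f · (y p)) e
    simp only [H.add_left, hw, H.zero_left, zero_add] at this
    exact hne p this
  rcases cases_pm h3 (hne j) (hne i) with a | a
  · rcases cases_pm h3 (hne k) (hne i) with b | b
    · refine ⟨y i + y j + y k, W.add_mem (W.add_mem (hy i) (hy j)) (hy k),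
        nz k _ (by rw [H.add_left, ho i k hik, ho j k hjk, add_zero]), ?_⟩
      simp only [H.add_left, H.add_right, ho i j hij, ho j i hij.symm, ho i k hik, ho k i hik.symm,
        ho j k hjk, ho k j hjk.symm, a, b]
      linear_combination f (y i) (y i) * three_zero h3
    · refine ⟨y i + y k, W.add_mem (hy i) (hy k), nz k _ (ho i k hik), ?_⟩
      simp only [H.add_left, H.add_right, ho i k hik, ho k i hik.symm, b]
      ring
  · refine ⟨y i + y j, W.add_mem (hy i) (hy j), nz j _ (ho i j hij), ?_⟩
    simp only [H.add_left, H.add_right, ho i j hij, ho j i hij.symm, a]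
    ring

end Forms

end Cfsg.Agent.ThreeFrames
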