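import Mathlib
import Cfsg.Prelude.Def_ClassicalGeometry
import Cfsg.Agent.Lib.ThreeFrames
import Cfsg.Agent.Lib.OmegaGeo

/-!
Over three elements the stabiliser of a tensor decomposition with a three-dimensional orthogonal
factor is contained in the stabiliser of the union of three orthogonal pieces.
-/

set_option autoImplicit false

namespace Cfsg.Agent.ThreeFrames

open Matrix

variable {F : Type*} [Field F] [Fintype F] {ι : Type} [Fintype ι] [DecidableEq ι]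

/-- An intermediate subgroup from a stable set of vectors. -/
theorem between {G H : Subgroup (GL ι F)} (S : Set (ι → F))
    (hHS : ∀ g ∈ H ⊓ G, ∀ v ∈ S, (g : Matrix ι ι F) *ᵥ v ∈ S)
    {g₁ : GL ι F} (hg₁ : g₁ ∈ G) (h₁S : ∀ v ∈ S, (g₁ : Matrix ι ι F) *ᵥ v ∈ S) (h₁H : g₁ ∉ H)
    {g₂ : GL ι F} (hg₂ : g₂ ∈ G) {z : ι → F} (hz : z ∈ S) (hz' : (g₂ : Matrix ι ι F) *ᵥ z ∉ S) :
    ∃ K : Subgroup (GL ι F), H ⊓ G < K ∧ K < G := by
  have two_sided : ∀ g : GL ι F, (∀ v ∈ S, (g : Matrix ι ι F) *ᵥ v ∈ S) →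
      g ∈ Cfsg.stabilizing (Units.coeHom (Matrix ι ι F)) S := by
    intro g hg v
    refine ⟨hg v, fun hv => ?_⟩
    let φ : S → S := fun w => ⟨_, hg w w.2⟩
    have hinj : Function.Injective φ := fun a b e => Subtype.ext
      (Matrix.mulVec_injective_of_isUnit g.isUnit (congrArg Subtype.val e))
    obtain ⟨w, hw⟩ := Finite.injective_iff_surjective.mp hinj ⟨_, hv⟩
    rw [← Matrix.mulVec_injective_of_isUnit g.isUnit (congrArg Subtype.val hw)]
    exact w.2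
  refine ⟨Cfsg.stabilizing (Units.coeHom (Matrix ι ι F)) S ⊓ G, ?_, ?_⟩
  · exact lt_of_le_of_ne (fun g hg => ⟨two_sided g (hHS g hg), hg.2⟩) fun e =>
      h₁H (e.symm.le (show g₁ ∈ _ from ⟨two_sided g₁ h₁S, hg₁⟩)).1
  · exact lt_of_le_of_ne inf_le_right fun e => hz' (((e.symm.le hg₂).1 z).mp hz)

/-- A tensor decomposition with a three-dimensional orthogonal factor. -/
structure Setting (h : (ι → F) → (ι → F) → F) (k : ℕ) where
  Φ : (Fin 3 → F) → (Fin k → F) → ι → F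
  f : (Fin 3 → F) → (Fin 3 → F) → F
  b : (Fin k → F) → (Fin k → F) → F
  c : F
  ε : F
  hc : c ≠ 0
  hf : Sym f
  Y : Frame f ⊤ 3 ε
  form : ∀ y y' w w', h (Φ y w) (Φ y' w') = c * (f y y' * b w w')
  smul_eq : ∀ (t : F) y w, Φ (t • y) w = Φ y (t • w)
  lin : ∀ (t : F) y w w', Φ y w + t • Φ y w' = Φ y (w + t • w')
  inj : ∀ {y y' w w'}, Φ y w = Φ y' w' → ∀ p q, y p * w q = y' p * w' q

variable {h : (ι → F) → (ι → F) → F} {k : ℕ} (T : Setting h k)

/-- The union of the three pieces. -/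
def Setting.S : Set (ι → F) := {v | ∃ i w, v = T.Φ (T.Y.y i) w}

/-- `g` respects the tensor decomposition. -/
def Setting.Acts (g : GL ι F) : Prop :=
  ∃ (A : Matrix (Fin 3) (Fin 3) F) (B : Matrix (Fin k) (Fin k) F),
    ∀ y w, (g : Matrix ι ι F) *ᵥ T.Φ y w = T.Φ (A *ᵥ y) (B *ᵥ w)

theorem Setting.stable (h3 : Fintype.card F = 3) {u v : Fin k → F} (hb : T.b u v ≠ 0) {g : GL ι F}
    (hg : T.Acts g)
    (hiso : ∀ x y, h ((g : Matrix ι ι F) *ᵥ x) ((g : Matrix ι ι F) *ᵥ y) = h x y)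
    {x : ι → F} (hx : x ∈ T.S) : (g : Matrix ι ι F) *ᵥ x ∈ T.S := by
  obtain ⟨A, B, hAB⟩ := hg
  have e : ∀ y y', T.f (A *ᵥ y) (A *ᵥ y') * T.b (B *ᵥ u) (B *ᵥ v) = T.f y y' * T.b u v := by
    intro y y'
    have := hiso (T.Φ y u) (T.Φ y' v)
    rw [hAB, hAB, T.form, T.form] at this
    exact mul_left_cancel₀ T.hc this
  have hB : T.b (B *ᵥ u) (B *ᵥ v) ≠ 0 := fun h0 => by
    have := e (T.Y.y 0) (T.Y.y 0)
    rw [h0, mul_zero, T.Y.val] at this
    exact mul_ne_zero T.Y.ne hb this.symm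
  obtain ⟨l, hl, hlA⟩ : ∃ l, l ≠ 0 ∧ ∀ y y', T.f (A *ᵥ y) (A *ᵥ y') = l * T.f y y' :=
    ⟨T.b u v / T.b (B *ᵥ u) (B *ᵥ v), div_ne_zero hb hB, fun y y' => by
      rw [div_mul_eq_mul_div, eq_div_iff hB, e, mul_comm]⟩
  have hl1 : l = 1 := T.Y.multiplier h3 T.hf hl (fun i => A *ᵥ T.Y.y i) (fun _ => trivial)
    (fun i j => hlA _ _)
  obtain ⟨i, w, rfl⟩ := hx
  obtain ⟨j, t, ht⟩ := T.Y.lines h3 T.hf le_rfl (v := A *ᵥ T.Y.y i) trivial
    (by rw [hlA, hl1, one_mul, T.Y.val])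
  exact ⟨j, t • (B *ᵥ w), by rw [hAB, ht, T.smul_eq]⟩

omit [Fintype F] in
theorem Setting.y_ne (i : Fin 3) : T.Y.y i ≠ 0 := fun e0 => by
  have := T.Y.val i
  rw [e0, T.hf.zero_left] at this
  exact T.Y.ne this.symm

/-- An element acting on the first piece only, and not as a scalar, respects no tensor decomposition. -/
theorem Setting.not_acts {g : GL ι F} {R : (Fin k → F) → (Fin k → F)}
    (h0 : ∀ w, (g : Matrix ι ι F) *ᵥ T.Φ (T.Y.y 0) w = T.Φ (T.Y.y 0) (R w))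
    (h1 : ∀ w, (g : Matrix ι ι F) *ᵥ T.Φ (T.Y.y 1) w = T.Φ (T.Y.y 1) w)
    {u v : Fin k → F} (hu : u ≠ 0) (hRu : R u = u) (hRv : R v ≠ v) : ¬ T.Acts g := by
  rintro ⟨A, B, hAB⟩
  obtain ⟨p, hp⟩ := Function.ne_iff.mp (T.y_ne 0)
  obtain ⟨p', hp'⟩ := Function.ne_iff.mp (T.y_ne 1)
  obtain ⟨q, hq⟩ := Function.ne_iff.mp hu
  obtain ⟨r, hr⟩ := Function.ne_iff.mp hRv
  have a1 := T.inj ((hAB _ u).symm.trans (by rw [h0, hRu])) p q
  have a2 := T.inj ((hAB _ v).symm.trans (h0 v)) p r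
  have a3 := T.inj ((hAB _ u).symm.trans (h1 u)) p' q
  have a4 := T.inj ((hAB _ v).symm.trans (h1 v)) p' r
  have : T.Y.y 0 p * T.Y.y 1 p' * u q * (R v r - v r) = 0 := by
    linear_combination ((A *ᵥ T.Y.y 0) p * (B *ᵥ u) q) * a4 + (T.Y.y 1 p' * v r) * a1 -
      ((A *ᵥ T.Y.y 1) p' * (B *ᵥ u) q) * a2 - (T.Y.y 0 p * R v r) * a3
  exact mul_ne_zero (mul_ne_zero (mul_ne_zero hp hp') hq) (sub_ne_zero.mpr hr) this

omit [Fintype F] in
theorem Setting.form_ne {i j : Fin 3} (hij : i ≠ j) (w w' : Fin k → F) :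
    h (T.Φ (T.Y.y i) w) (T.Φ (T.Y.y j) w') = 0 := by
  rw [T.form, T.Y.orth i j hij]; ring

omit [Fintype F] in
theorem Setting.form_eq (i : Fin 3) (w w' : Fin k → F) :
    h (T.Φ (T.Y.y i) w) (T.Φ (T.Y.y i) w') = T.c * T.ε * T.b w w' := by
  rw [T.form, T.Y.val]; ring

omit [Fintype F] in
/-- Detection: a vector of `S` is orthogonal to the pieces it does not lie in. -/
theorem Setting.not_mem {x : ι → F} {i j : Fin 3} (hij : i ≠ j) {w w' : Fin k → F}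
    (hi : h x (T.Φ (T.Y.y i) w) ≠ 0) (hj : h x (T.Φ (T.Y.y j) w') ≠ 0) : x ∉ T.S := by
  rintro ⟨l, v, rfl⟩
  by_cases hl : l = i
  · exact hj (T.form_ne (hl ▸ hij) _ _)
  · exact hi (T.form_ne hl _ _)

/-- Pure tensor coordinates. -/
theorem acts_of_mem {n₁ n₂ : ℕ} (e : ι ≃ Fin n₁ × Fin n₂) (P : GL ι F) {g : GL ι F}
    (hg : g ∈ Cfsg.Geo.tensorProductSubgroup n₁ n₂ e P) :
    ∃ (A : Matrix (Fin n₁) (Fin n₁) F) (B : Matrix (Fin n₂) (Fin n₂) F), ∀ y w,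
      (g : Matrix ι ι F) *ᵥ ((P : Matrix ι ι F) *ᵥ ((fun p => y p.1 * w p.2) ∘ e)) =
        (P : Matrix ι ι F) *ᵥ ((fun p => (A *ᵥ y) p.1 * (B *ᵥ w) p.2) ∘ e) := by
  obtain ⟨-, ⟨k, ⟨A, B, hk⟩, rfl⟩, rfl⟩ := hg
  refine ⟨A, B, fun y w => ?_⟩
  simp only [MulEquiv.coe_toMonoidHom, MulAut.conj_apply, Units.val_mul, Cfsg.Geo.glReindex]
  show _ *ᵥ ((P : Matrix ι ι F) *ᵥ _) = (P : Matrix ι ι F) *ᵥ _
  rw [Matrix.mulVec_mulVec, mul_assoc, Units.inv_mul, mul_one, ← Matrix.mulVec_mulVec]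
  congr 1
  show ((Matrix.reindex e.symm e.symm) (k : Matrix (Fin n₁ × Fin n₂) (Fin n₁ × Fin n₂) F)) *ᵥ _ = _
  rw [Matrix.reindex_apply, Equiv.symm_symm, hk, Matrix.submatrix_mulVec_equiv]
  have hs : ((fun p : Fin n₁ × Fin n₂ => y p.1 * w p.2) ∘ ⇑e) ∘ ⇑e.symm =
      fun p => y p.1 * w p.2 := by funext p; simp
  rw [hs]
  congr 1
  funext p
  simp only [Matrix.mulVec, dotProduct, Matrix.kroneckerMap_apply, Fintype.sum_prod_type,
    Finset.sum_mul_sum]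
  exact Finset.sum_congr rfl fun _ _ => Finset.sum_congr rfl fun _ _ => by ring

omit [Fintype F] [Fintype ι] [DecidableEq ι] in
theorem gram_eq {m : ℕ} {f : (Fin m → F) → (Fin m → F) → F} (H : Cfsg.Geo.IsBilinearForm f)
    (x y : Fin m → F) : Cfsg.Geo.formOfGram id (Cfsg.Geo.gramMatrix f) x y = f x y := by
  classical
  let L := LinearMap.mk₂ F f H.add_left H.smul_left H.add_right H.smul_right
  have key : ∀ z, L z = ∑ a, z a • L (Pi.single a 1) := fun z => by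
    conv_lhs => rw [pi_eq_sum_univ' z, map_sum]
    exact Finset.sum_congr rfl fun a _ => L.map_smul _ _
  have key' : ∀ a z, f (Pi.single a 1) z = ∑ b, z b * f (Pi.single a 1) (Pi.single b 1) := fun a z => by
    show L _ z = _
    conv_lhs => rw [pi_eq_sum_univ' z, map_sum]
    exact Finset.sum_congr rfl fun b _ => (L (Pi.single a 1)).map_smul _ _
  show _ = L x y
  rw [key x, LinearMap.sum_apply]
  refine Finset.sum_congr rfl fun a _ => ?_
  show _ = x a * f (Pi.single a 1) y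
  rw [key' a y, Finset.mul_sum]
  refine Finset.sum_congr rfl fun b _ => ?_
  rw [id_eq, Cfsg.Geo.gramMatrix]
  ring

omit [Fintype F] in
theorem gram_tp {n₁ n₂ : ℕ} (G₁ : Matrix (Fin n₁) (Fin n₁) F) (G₂ : Matrix (Fin n₂) (Fin n₂) F)
    (y y' : Fin n₁ → F) (w w' : Fin n₂ → F) :
    Cfsg.Geo.formOfGram id (Matrix.kroneckerMap (· * ·) G₁ G₂)
        (fun p => y p.1 * w p.2) (fun p => y' p.1 * w' p.2) =
      Cfsg.Geo.formOfGram id G₁ y y' * Cfsg.Geo.formOfGram id G₂ w w' := by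
  simp only [Cfsg.Geo.formOfGram, Matrix.kroneckerMap_apply, Fintype.sum_prod_type,
    Finset.sum_mul_sum, id_eq]
  exact Finset.sum_congr rfl fun _ _ => Finset.sum_congr rfl fun _ _ =>
    Finset.sum_congr rfl fun _ _ => Finset.sum_congr rfl fun _ _ => by ring

omit [Fintype F] in
theorem tensor_form {n₁ n₂ : ℕ} {h : (ι → F) → (ι → F) → F} {e : ι ≃ Fin n₁ × Fin n₂} {P : GL ι F}
    {f₁ : (Fin n₁ → F) → (Fin n₁ → F) → F} {f₂ : (Fin n₂ → F) → (Fin n₂ → F) → F}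
    (H₁ : Cfsg.Geo.IsBilinearForm f₁) (H₂ : Cfsg.Geo.IsBilinearForm f₂)
    (hT : Cfsg.Geo.IsTensorFormStructure id h f₁ f₂ e P) :
    ∃ c, c ≠ 0 ∧ ∀ y y' w w',
      h ((P : Matrix ι ι F) *ᵥ ((fun p => y p.1 * w p.2) ∘ e))
        ((P : Matrix ι ι F) *ᵥ ((fun p => y' p.1 * w' p.2) ∘ e)) = c * (f₁ y y' * f₂ w w') := by
  obtain ⟨c, hc, hT⟩ := hT
  exact ⟨c, hc, fun y y' w w' => by rw [hT, gram_tp, gram_eq H₁, gram_eq H₂]⟩

theorem sym_of {m : ℕ} {f : (Fin m → F) → (Fin m → F) → F} (hf : Cfsg.Geo.IsSymmetricForm f) : Sym f :=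
  ⟨hf.bilinear.add_left, hf.bilinear.smul_left, hf.symm⟩

/-- The linearity properties of pure tensors. -/
theorem tp_eq {n₁ n₂ : ℕ} (e : ι ≃ Fin n₁ × Fin n₂) (P : GL ι F) {x x' : Fin n₁ × Fin n₂ → F}
    (hx : (P : Matrix ι ι F) *ᵥ (x ∘ e) = (P : Matrix ι ι F) *ᵥ (x' ∘ e)) (p : Fin n₁ × Fin n₂) :
    x p = x' p := by
  have := congrFun (Matrix.mulVec_injective_of_isUnit P.isUnit hx) (e.symm p)
  simpa using this

/-! ### The symplectic case -/

theorem symp_tensor (h3 : Fintype.card F = 3) {m n₁ : ℕ} (hn₁ : 1 ≤ n₁)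
    (e : (Fin m ⊕ Fin m) ≃ Fin n₁ × Fin 3) (P : GL (Fin m ⊕ Fin m) F)
    (f₁ : (Fin n₁ → F) → (Fin n₁ → F) → F) (f₂ : (Fin 3 → F) → (Fin 3 → F) → F)
    (hf₁ : Cfsg.Geo.IsSymplecticForm f₁) (hf₂ : Cfsg.Geo.IsSymmetricForm f₂)
    (hT : Cfsg.Geo.IsTensorFormStructure id (Cfsg.sympForm m F) f₁ f₂ e P) :
    ∃ K : Subgroup (GL (Fin m ⊕ Fin m) F),
      Cfsg.Geo.tensorProductSubgroup n₁ 3 e P ⊓ Cfsg.spGL m F < K ∧ K < Cfsg.spGL m F := by
  classical
  set h := Cfsg.sympForm m F with hh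
  obtain ⟨c, hc, hform⟩ := tensor_form hf₁.bilinear hf₂.bilinear hT
  obtain ⟨ε, ⟨Y⟩⟩ := exists_frame_three h3 (sym_of hf₂) (W := ⊤)
    (fun w _ hw => by obtain ⟨x, hx⟩ := (hf₂.nondegenerate w hw).2; exact ⟨x, trivial, hx⟩)
    (by rw [finrank_top, Module.finrank_fin_fun])
  let T : Setting h n₁ :=
    { Φ := fun y w => (P : Matrix _ _ F) *ᵥ ((fun p => w p.1 * y p.2) ∘ e)
      f := f₂
      b := f₁
      c := c
      ε := ε
      hc := hc
      hf := sym_of hf₂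
      Y := Y
      form := fun y y' w w' => by rw [hform]; ring
      smul_eq := fun t y w => by
        congr 1; funext p; simp only [Function.comp_apply, Pi.smul_apply, smul_eq_mul]; ring
      lin := fun t y w w' => by
        rw [← Matrix.mulVec_smul, ← Matrix.mulVec_add]
        congr 1; funext p; simp only [Function.comp_apply, Pi.add_apply, Pi.smul_apply, smul_eq_mul]; ring
      inj := fun {y y' w w'} hh p q => by
        have := tp_eq e P (x := fun p => w p.1 * y p.2) (x' := fun p => w' p.1 * y' p.2) hh (q, p)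
        simp only at this
        linear_combination this }
  obtain ⟨u, hu⟩ : ∃ u : Fin n₁ → F, u ≠ 0 := ⟨Pi.single ⟨0, hn₁⟩ 1, by simp⟩
  obtain ⟨v, hv⟩ := (hf₁.nondegenerate u hu).1
  have hl : ∀ x x' y, h (x + x') y = h x y + h x' y := fun x x' y => add_dotProduct _ _ _
  have hls : ∀ (t : F) x y, h (t • x) y = t * h x y := fun t x y => by
    simp [hh, Cfsg.sympForm, smul_dotProduct]
  have hr : ∀ x y y', h x (y + y') = h x y + h x y' := fun x y y' => by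
    simp [hh, Cfsg.sympForm, Matrix.mulVec_add, dotProduct_add]
  have hrs : ∀ (t : F) x y, h x (t • y) = t * h x y := fun t x y => by
    simp [hh, Cfsg.sympForm, Matrix.mulVec_smul, dotProduct_smul]
  have halt : ∀ x, h x x = 0 := fun x => by
    simp [hh, Cfsg.sympForm, Matrix.J, Matrix.fromBlocks_mulVec, dotProduct, Fintype.sum_sum_type,
      Matrix.neg_mulVec, mul_comm]
  have hskew : ∀ x y, h y x = - h x y := fun x y => by
    have := halt (x + y)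
    rw [hl, hr, hr, halt, halt] at this
    linear_combination this
  have tvGL : ∀ a, ∃ g ∈ Cfsg.spGL m F, ∀ x, (g : Matrix _ _ F) *ᵥ x = x + h x a • a := by
    intro a
    let L : (Fin m ⊕ Fin m → F) →ₗ[F] (Fin m ⊕ Fin m → F) :=
      { toFun := fun x => x + h x a • a
        map_add' := fun x y => by rw [hl, add_smul]; abel
        map_smul' := fun t x => by rw [hls, smul_add, smul_smul, RingHom.id_apply] }
    let L' : (Fin m ⊕ Fin m → F) →ₗ[F] (Fin m ⊕ Fin m → F) :=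
      { toFun := fun x => x + (- h x a) • a
        map_add' := fun x y => by rw [hl, neg_add, add_smul]; abel
        map_smul' := fun t x => by rw [hls, smul_add, smul_smul, RingHom.id_apply, mul_neg] }
    have e1 : L.comp L' = LinearMap.id := LinearMap.ext fun x => by
      show x + (- h x a) • a + h (x + (- h x a) • a) a • a = x
      rw [hl, hls, halt]; simp
    have e2 : L'.comp L = LinearMap.id := LinearMap.ext fun x => by
      show x + h x a • a + (- h (x + h x a • a) a) • a = x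
      rw [hl, hls, halt]; simp
    have hmul : ∀ x, LinearMap.toMatrix' L *ᵥ x = x + h x a • a := fun x => by
      rw [← Matrix.toLin'_apply, Matrix.toLin'_toMatrix']; rfl
    refine ⟨⟨LinearMap.toMatrix' L, LinearMap.toMatrix' L', ?_, ?_⟩, fun x y => ?_, hmul⟩
    · rw [← LinearMap.toMatrix'_comp, e1, LinearMap.toMatrix'_id]
    · rw [← LinearMap.toMatrix'_comp, e2, LinearMap.toMatrix'_id]
    · show h (LinearMap.toMatrix' L *ᵥ x) (LinearMap.toMatrix' L *ᵥ y) = h x y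
      rw [hmul, hmul, hl, hr, hr, hls, hls, hrs, hrs, halt, hskew y a]
      ring
  obtain ⟨g₁, hg₁, hg₁v⟩ := tvGL (T.Φ (T.Y.y 0) u)
  obtain ⟨g₂, hg₂, hg₂v⟩ := tvGL (T.Φ (T.Y.y 0) u + T.Φ (T.Y.y 1) u)
  have hce : c * ε ≠ 0 := mul_ne_zero hc Y.ne
  have k0 : ∀ w, (g₁ : Matrix _ _ F) *ᵥ T.Φ (T.Y.y 0) w = T.Φ (T.Y.y 0) (w + (c * ε * f₁ w u) • u) :=
    fun w => by rw [hg₁v, T.form_eq, T.lin]
  have k1 : ∀ i, i ≠ 0 → ∀ w, (g₁ : Matrix _ _ F) *ᵥ T.Φ (T.Y.y i) w = T.Φ (T.Y.y i) w :=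
    fun i hi w => by rw [hg₁v, T.form_ne hi, zero_smul, add_zero]
  refine between T.S ?_ hg₁ ?_ ?_ hg₂ (z := T.Φ (T.Y.y 0) v) ⟨0, v, rfl⟩ ?_
  · rintro g ⟨hgT, hg⟩ x hx
    obtain ⟨A, B, hAB⟩ := acts_of_mem e P hgT
    exact T.stable h3 (u := v) (v := u) hv ⟨B, A, fun y w => hAB w y⟩ (fun x y => hg x y) hx
  · rintro _ ⟨i, w, rfl⟩
    by_cases hi : i = 0
    · subst hi; exact ⟨0, _, k0 w⟩
    · exact ⟨i, w, k1 i hi w⟩
  · intro hgT
    obtain ⟨A, B, hAB⟩ := acts_of_mem e P hgT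
    refine T.not_acts k0 (k1 1 (by decide)) hu ?_ (v := v) ?_ ⟨B, A, fun y w => hAB w y⟩
    · rw [hf₁.alternating, mul_zero, zero_smul, add_zero]
    · rw [ne_eq, add_eq_left, smul_eq_zero]
      exact not_or.mpr ⟨mul_ne_zero hce hv, hu⟩
  · have hb : f₁ u v ≠ 0 := fun h0 => hv (by rw [hf₁.skew, h0, neg_zero])
    have h0u : f₁ u u = 0 := hf₁.alternating u
    have fe : ∀ i w w', h (T.Φ (T.Y.y i) w) (T.Φ (T.Y.y i) w') = c * ε * f₁ w w' := T.form_eq
    have f01 : ∀ w w', h (T.Φ (T.Y.y 0) w) (T.Φ (T.Y.y 1) w') = 0 := T.form_ne (by decide)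
    have f10 : ∀ w w', h (T.Φ (T.Y.y 1) w) (T.Φ (T.Y.y 0) w') = 0 := T.form_ne (by decide)
    refine T.not_mem (i := 0) (j := 1) (w := u) (w' := v) (by decide) ?_ ?_ <;>
      simp only [hg₂v, hl, hls, hr, fe, f01, f10, h0u, mul_zero, add_zero, zero_add]
    · exact mul_ne_zero hce hv
    · exact mul_ne_zero (mul_ne_zero hce hv) (mul_ne_zero hce hb)

/-! ### The orthogonal case -/

set_option maxHeartbeats 1000000 in
theorem orth_tensor (h3 : Fintype.card F = 3) (Q : (ι → F) → F)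
    (hQ : Cfsg.Geo.IsNondegenerateQuadraticForm Q) (hι : 5 ≤ Fintype.card ι) {n₂ : ℕ} (h2 : 3 ≤ n₂)
    (e : ι ≃ Fin 3 × Fin n₂) (P : GL ι F) (f₁ : (Fin 3 → F) → (Fin 3 → F) → F)
    (f₂ : (Fin n₂ → F) → (Fin n₂ → F) → F) (hf₁ : Cfsg.Geo.IsSymmetricForm f₁)
    (hf₂ : Cfsg.Geo.IsSymmetricForm f₂)
    (hT : Cfsg.Geo.IsTensorFormStructure id (QuadraticMap.polar Q) f₁ f₂ e P) :
    ∃ K : Subgroup (GL ι F),
      Cfsg.Geo.tensorProductSubgroup 3 n₂ e P ⊓ Cfsg.Geo.omegaGL Q < K ∧ K < Cfsg.Geo.omegaGL Q := by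
  classical
  obtain ⟨q, hq, hnd⟩ := OmegaGeo.exists_quad hQ
  obtain ⟨c, hc, hform⟩ := tensor_form hf₁.bilinear hf₂.bilinear hT
  obtain ⟨ε, ⟨Y⟩⟩ := exists_frame_three h3 (sym_of hf₁) (W := ⊤)
    (fun w _ hw => by obtain ⟨x, hx⟩ := (hf₁.nondegenerate w hw).2; exact ⟨x, trivial, hx⟩)
    (by rw [finrank_top, Module.finrank_fin_fun])
  subst hq
  let T : Setting (QuadraticMap.polar q) n₂ :=
    { Φ := fun y w => (P : Matrix ι ι F) *ᵥ ((fun p => y p.1 * w p.2) ∘ e)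
      f := f₁
      b := f₂
      c := c
      ε := ε
      hc := hc
      hf := sym_of hf₁
      Y := Y
      form := fun y y' w w' => by exact hform y y' w w'
      smul_eq := fun t y w => by
        congr 1; funext p; simp only [Function.comp_apply, Pi.smul_apply, smul_eq_mul]; ring
      lin := fun t y w w' => by
        rw [← Matrix.mulVec_smul, ← Matrix.mulVec_add]
        congr 1; funext p; simp only [Function.comp_apply, Pi.add_apply, Pi.smul_apply, smul_eq_mul]; ring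
      inj := fun {y y' w w'} hh p r =>
        tp_eq e P (x := fun p => y p.1 * w p.2) (x' := fun p => y' p.1 * w' p.2) hh (p, r) }
  obtain ⟨u, -, hu, huu⟩ := exists_isotropic h3 (sym_of hf₂) (W := ⊤)
    (fun w _ hw => by obtain ⟨x, hx⟩ := (hf₂.nondegenerate w hw).2; exact ⟨x, trivial, hx⟩)
    (by rw [finrank_top, Module.finrank_fin_fun]; exact h2)
  obtain ⟨v, hv⟩ := (hf₂.nondegenerate u hu).1
  have hce : c * ε ≠ 0 := mul_ne_zero hc Y.ne
  -- a vector orthogonal to `u` outside its line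
  obtain ⟨w₁, hw₁u, hw₁⟩ : ∃ w₁, f₂ u w₁ = 0 ∧ ∀ t : F, w₁ ≠ t • u := by
    let φ : (Fin n₂ → F) →ₗ[F] F :=
      { toFun := f₂ u, map_add' := hf₂.bilinear.add_right u,
        map_smul' := fun t x => hf₂.bilinear.smul_right t u x }
    have hr := LinearMap.finrank_range_add_finrank_ker φ
    have hr' := Submodule.finrank_le (LinearMap.range φ)
    rw [Module.finrank_self] at hr'
    rw [Module.finrank_fin_fun] at hr
    obtain ⟨w₁, hw₁, hw₁'⟩ := SetLike.not_le_iff_exists.mp (show ¬ LinearMap.ker φ ≤ Submodule.span F {u}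
      from fun hle => by
        have := Submodule.finrank_mono hle
        rw [finrank_span_singleton hu] at this
        omega)
    exact ⟨w₁, hw₁, fun t e => hw₁' (Submodule.mem_span_singleton.mpr ⟨t, e.symm⟩)⟩
  have hQ0 : ∀ i, q (T.Φ (T.Y.y i) u) = 0 := fun i => by
    have : 2 * q (T.Φ (T.Y.y i) u) = 0 := by
      rw [← OrthUnitaryQuad.polar_self_mul, T.form_eq]
      show c * ε * f₂ u u = 0
      rw [huu, mul_zero]
    exact (mul_eq_zero.mp this).resolve_left (two_ne h3)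
  have sieg : ∀ (a b : ι → F) (ha : q a = 0) (hab : QuadraticMap.polar q a b = 0),
      ∃ g ∈ Cfsg.Geo.omegaGL ⇑q, ∀ x, (g : Matrix ι ι F) *ᵥ x = x + QuadraticMap.polar q a x • b -
        (QuadraticMap.polar q b x + q b * QuadraticMap.polar q a x) • a := fun a b ha hab => by
    have hn : 5 ≤ Module.finrank F (ι → F) := by rw [Module.finrank_fintype_fun_eq_card]; exact hι
    refine ⟨OmegaGeo.toGL q (OrthUnitaryQuad.siegel q a b ha hab),
      OmegaGeo.toGL_mem (OrthUnitarySimple.sGroup_le_commutator hnd hn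
        (OrthUnitarySimple.siegel_mem hnd hn ha hab)), fun x => ?_⟩
    rw [OmegaGeo.toGL_mulVec, OrthUnitaryQuad.siegel_apply]
  obtain ⟨g₁, hg₁, hg₁v⟩ := sieg (T.Φ (T.Y.y 0) u) (T.Φ (T.Y.y 0) w₁) (hQ0 0)
    (by rw [T.form_eq]; show c * ε * f₂ u w₁ = 0; rw [hw₁u, mul_zero])
  obtain ⟨g₂, hg₂, hg₂v⟩ := sieg (T.Φ (T.Y.y 0) u + T.Φ (T.Y.y 1) u) (T.Φ (T.Y.y 2) u)
    (by rw [QuadraticMap.map_add (⇑q), hQ0, hQ0, T.form_ne (i := 0) (j := 1) (by decide)]; ring)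
    (by rw [QuadraticMap.polar_add_left, T.form_ne (i := 0) (j := 2) (by decide),
          T.form_ne (i := 1) (j := 2) (by decide), add_zero])
  set R : (Fin n₂ → F) → (Fin n₂ → F) := fun w => w + (c * ε * f₂ u w) • w₁ +
    (-(c * ε * f₂ w₁ w + q (T.Φ (T.Y.y 0) w₁) * (c * ε * f₂ u w))) • u with hR
  have k0 : ∀ w, (g₁ : Matrix ι ι F) *ᵥ T.Φ (T.Y.y 0) w = T.Φ (T.Y.y 0) (R w) := fun w => by
    rw [hg₁v, T.form_eq, T.form_eq, T.lin, sub_eq_add_neg, ← neg_smul, T.lin]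
  have k1 : ∀ i, i ≠ 0 → ∀ w, (g₁ : Matrix ι ι F) *ᵥ T.Φ (T.Y.y i) w = T.Φ (T.Y.y i) w :=
    fun i hi w => by
      rw [hg₁v, T.form_ne (Ne.symm hi), T.form_ne (Ne.symm hi)]
      simp
  refine between T.S ?_ hg₁ ?_ ?_ hg₂ (z := T.Φ (T.Y.y 0) v) ⟨0, v, rfl⟩ ?_
  · rintro g ⟨hgT, hg⟩ x hx
    obtain ⟨k, -, rfl⟩ := OmegaGeo.exists_of_mem_omegaGL hg
    refine T.stable h3 (u := v) (v := u) hv (acts_of_mem e P hgT) (fun x y => ?_) hx
    rw [OmegaGeo.toGL_mulVec, OmegaGeo.toGL_mulVec, OrthUnitaryQuad.polar_orth]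
  · rintro _ ⟨i, w, rfl⟩
    by_cases hi : i = 0
    · subst hi; exact ⟨0, _, k0 w⟩
    · exact ⟨i, w, k1 i hi w⟩
  · intro hgT
    refine T.not_acts k0 (k1 1 (by decide)) hu ?_ (v := v) ?_ (acts_of_mem e P hgT)
    · simp [hR, huu, hf₂.symm w₁ u, hw₁u]
    · intro e0
      have hβ : c * ε * f₂ u v ≠ 0 := mul_ne_zero hce (by rw [hf₂.symm]; exact hv)
      simp only [hR, add_assoc, add_eq_left] at e0
      refine hw₁ ((c * ε * f₂ w₁ v + q (T.Φ (T.Y.y 0) w₁) * (c * ε * f₂ u v)) / (c * ε * f₂ u v)) ?_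
      rw [neg_smul, ← sub_eq_add_neg, sub_eq_zero] at e0
      rw [div_eq_inv_mul, ← smul_smul, ← e0, inv_smul_smul₀ hβ]
  · have hb : f₂ u v ≠ 0 := by rw [hf₂.symm]; exact hv
    have fe : ∀ i w w', QuadraticMap.polar q (T.Φ (T.Y.y i) w) (T.Φ (T.Y.y i) w') = c * ε * f₂ w w' :=
      T.form_eq
    have fne : ∀ i j, i ≠ j → ∀ w w', QuadraticMap.polar q (T.Φ (T.Y.y i) w) (T.Φ (T.Y.y j) w') = 0 :=
      fun i j hij => T.form_ne hij
    refine T.not_mem (i := 0) (j := 2) (w := u) (w' := v) (by decide) ?_ ?_ <;>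
      simp only [hg₂v, QuadraticMap.polar_add_left, QuadraticMap.polar_sub_left,
        QuadraticMap.polar_smul_left, smul_eq_mul, fe, hQ0, huu, mul_zero, zero_mul, add_zero,
        zero_add, sub_zero, zero_sub, fne 0 1 (by decide), fne 1 0 (by decide), fne 0 2 (by decide),
        fne 2 0 (by decide), fne 1 2 (by decide), fne 2 1 (by decide)]
    · exact mul_ne_zero hce hv
    · exact mul_ne_zero (mul_ne_zero hce hb) (mul_ne_zero hce hb)

end Cfsg.Agent.ThreeFrames
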