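import Mathlib

/-!
# An elementary abelian `2`-group of automorphisms moved by an automorphism of prime order

If an automorphism `c` of prime order `r` of an abelian group `V` of odd exponent normalises, but does
not centralise, an elementary abelian `2`-group `U` of automorphisms, then some `w : V` has non-trivial
"norm" `∏ i < r, cⁱ w`, which is fixed by `c`.
-/

set_option autoImplicit false

namespace Cfsg.Agent.TwoQ27

variable {V : Type*} [CommGroup V]

/-- A common eigenvector for a set of involutory automorphisms. -/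
def Eig (T : Set (MulAut V)) (v : V) : Prop := ∀ u ∈ T, u v = v ∨ u v = v⁻¹

theorem eq_one_of_pow_two_pow {q : ℕ} (hq : Odd q) {v : V} (hv : v ^ q = 1) {k : ℕ}
    (h : v ^ 2 ^ k = 1) : v = 1 := by
  have h' : v ^ q.gcd (2 ^ k) = 1 := pow_gcd_eq_one.2 ⟨hv, h⟩
  rwa [Nat.Coprime.gcd_eq_one (hq.coprime_two_right.pow_right k), pow_one] at h'

theorem comm_of_sq {A : Type*} [Group A] {U : Subgroup A} (hU : ∀ u ∈ U, u * u = 1) {u t : A}
    (hu : u ∈ U) (ht : t ∈ U) : u * t = t * u := by
  have h := hU (u * t) (U.mul_mem hu ht)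
  have h1 : u⁻¹ = u := inv_eq_of_mul_eq_one_right (hU u hu)
  have h2 : t⁻¹ = t := inv_eq_of_mul_eq_one_right (hU t ht)
  calc u * t = (u * t)⁻¹ := (inv_eq_of_mul_eq_one_right h).symm
    _ = t * u := by rw [mul_inv_rev, h1, h2]

/-- The eigenvectors generate. -/
theorem mem_closure_eig [Finite (MulAut V)] {q : ℕ} (hq : Odd q) (hV : ∀ v : V, v ^ q = 1)
    {U : Subgroup (MulAut V)} (hU : ∀ u ∈ U, u * u = 1) (v : V) :
    v ∈ Subgroup.closure {w | Eig (U : Set (MulAut V)) w} := by
  classical
  suffices h : ∀ T : Finset (MulAut V), (T : Set (MulAut V)) ⊆ U →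
      ∀ v : V, v ∈ Subgroup.closure {w | Eig (T : Set (MulAut V)) w} by
    have hfin : (U : Set (MulAut V)).Finite := Set.toFinite _
    have h' := h hfin.toFinset (by simp) v
    rwa [hfin.coe_toFinset] at h'
  intro T
  induction T using Finset.induction_on with
  | empty => exact fun _ v => Subgroup.subset_closure (fun u hu => by simp at hu)
  | @insert a T _ ih =>
    intro hT v
    rw [Finset.coe_insert] at hT ⊢
    obtain ⟨haU, hTU⟩ := Set.insert_subset_iff.1 hT
    refine Subgroup.closure_induction (p := fun x _ => x ∈ Subgroup.closure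
      {w | Eig (insert a (T : Set (MulAut V))) w}) ?_ (one_mem _) (fun _ _ _ _ => mul_mem)
      (fun _ _ => inv_mem) (ih hTU v)
    intro w hw
    have haa : a (a w) = w := by
      rw [← MulAut.mul_apply, hU a haU, MulAut.one_apply]
    have hcomm : ∀ t ∈ T, t (a w) = a (t w) := fun t ht => by
      rw [← MulAut.mul_apply, ← MulAut.mul_apply, comm_of_sq hU (hTU ht) haU]
    have h1 : Eig (insert a (T : Set (MulAut V))) (w * a w) := by
      intro u hu
      rcases hu with rfl | hu
      · left; rw [map_mul, haa, mul_comm]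
      · rcases hw u hu with h | h
        · left; rw [map_mul, hcomm u hu, h]
        · right; rw [map_mul, hcomm u hu, h, map_inv, mul_inv]
    have h2 : Eig (insert a (T : Set (MulAut V))) (w * (a w)⁻¹) := by
      intro u hu
      rcases hu with rfl | hu
      · right; rw [map_mul, map_inv, haa, mul_inv, inv_inv, mul_comm]
      · rcases hw u hu with h | h
        · left; rw [map_mul, map_inv, hcomm u hu, h]
        · right; rw [map_mul, map_inv, hcomm u hu, h, map_inv, mul_inv]
    have h3 : w * a w * (w * (a w)⁻¹) ∈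
        Subgroup.closure {w | Eig (insert a (T : Set (MulAut V))) w} :=
      mul_mem (Subgroup.subset_closure h1) (Subgroup.subset_closure h2)
    have h4 : w * a w * (w * (a w)⁻¹) = w ^ 2 := by
      rw [mul_mul_mul_comm, mul_inv_cancel, mul_one, pow_two]
    rw [h4] at h3
    obtain ⟨m, hm⟩ := hq
    have h5 : (w ^ 2) ^ (m + 1) = w := by
      rw [← pow_mul, show 2 * (m + 1) = 2 * m + 1 + 1 by ring, pow_succ, ← hm, hV, one_mul]
    exact h5 ▸ pow_mem h3 _

/-- The main linear lemma. -/
theorem exists_norm_ne_one [Finite (MulAut V)] {q : ℕ} (hq : Odd q) (hV : ∀ v : V, v ^ q = 1)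
    {U : Subgroup (MulAut V)} (hU : ∀ u ∈ U, u * u = 1) {c : MulAut V} {r : ℕ} (hr : r.Prime)
    (hc : c ^ r = 1) (hn : ∀ u ∈ U, c⁻¹ * u * c ∈ U) (hmove : ∃ u ∈ U, c⁻¹ * u * c ≠ u) :
    ∃ w : V, (∏ i ∈ Finset.range r, (c ^ i) w) ≠ 1 ∧
      c (∏ i ∈ Finset.range r, (c ^ i) w) = ∏ i ∈ Finset.range r, (c ^ i) w := by
  classical
  have hne : ∀ v : V, v ≠ 1 → v⁻¹ ≠ v := fun v hv h => hv (eq_one_of_pow_two_pow hq (hV v) (k := 1)
    (by rw [pow_one, pow_two]; nth_rewrite 1 [← h]; rw [inv_mul_cancel]))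
  -- a suitable eigenvector
  obtain ⟨w, hw, u₀, hu₀, hwu⟩ : ∃ w, Eig (U : Set (MulAut V)) w ∧
      ∃ u ∈ U, ¬ ((c⁻¹ * u * c) w = w ↔ u w = w) := by
    by_contra hcon
    obtain ⟨u, hu, hne'⟩ := hmove
    refine hne' (MulEquiv.ext fun v => ?_)
    refine Subgroup.closure_induction (p := fun x _ => (c⁻¹ * u * c) x = u x) ?_ (by simp)
      (fun _ _ _ _ h h' => by rw [map_mul, map_mul, h, h'])
      (fun _ _ h => by rw [map_inv, map_inv, h]) (mem_closure_eig hq hV hU v)
    intro x hx
    have h := not_not.1 fun h => hcon ⟨x, hx, u, hu, h⟩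
    rcases hx u hu with h1 | h1 <;> rcases hx _ (hn u hu) with h2 | h2
    · rw [h1, h2]
    · rw [h.2 h1, h1]
    · rw [h.1 h2, h2]
    · rw [h1, h2]
  have hw1 : w ≠ 1 := by
    rintro rfl
    exact hwu (by simp)
  have hnp : ∀ i : ℕ, ∀ u ∈ U, (c ^ i)⁻¹ * u * c ^ i ∈ U := by
    intro i
    induction i with
    | zero => intro u hu; simpa using hu
    | succ i ih =>
      intro u hu
      have h := hn _ (ih u hu)
      rwa [show (c ^ (i + 1))⁻¹ * u * c ^ (i + 1) = c⁻¹ * ((c ^ i)⁻¹ * u * c ^ i) * c by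
        rw [pow_succ]; group]
  have hze : ∀ i : ℕ, Eig (U : Set (MulAut V)) ((c ^ i) w) := by
    intro i u hu
    have hrw : u ((c ^ i) w) = (c ^ i) (((c ^ i)⁻¹ * u * c ^ i) w) := by
      rw [← MulAut.mul_apply, ← MulAut.mul_apply]; congr 1; group
    rcases hw _ (hnp i u hu) with h | h
    · left; rw [hrw, h]
    · right; rw [hrw, h, map_inv]
  -- the characters of the translates differ from that of `w`
  have hdiff : ∀ i : ℕ, 0 < i → i < r →
      ∃ u ∈ U, ¬ (u ((c ^ i) w) = (c ^ i) w ↔ u w = w) := by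
    intro i hi hir
    by_contra hcon
    push Not at hcon
    have hstep : ∀ u ∈ U, (((c ^ i)⁻¹ * u * c ^ i) w = w ↔ u w = w) := by
      intro u hu
      have hrw : u ((c ^ i) w) = (c ^ i) (((c ^ i)⁻¹ * u * c ^ i) w) := by
        rw [← MulAut.mul_apply, ← MulAut.mul_apply]; congr 1; group
      rw [← hcon u hu, hrw]
      exact (MulEquiv.injective _).eq_iff.symm
    have hpow : ∀ k : ℕ, ∀ u ∈ U, (((c ^ (i * k))⁻¹ * u * c ^ (i * k)) w = w ↔ u w = w) := by
      intro k
      induction k with
      | zero => intro u hu; simp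
      | succ k ih =>
        intro u hu
        rw [show (c ^ (i * (k + 1)))⁻¹ * u * c ^ (i * (k + 1)) =
          (c ^ i)⁻¹ * ((c ^ (i * k))⁻¹ * u * c ^ (i * k)) * c ^ i by
            rw [Nat.mul_succ, pow_add]; group, hstep _ (hnp _ u hu), ih u hu]
    obtain ⟨k, hk⟩ := Nat.exists_mul_mod_eq_one_of_coprime
      (Nat.Coprime.symm ((hr.coprime_iff_not_dvd).2 (fun h => absurd (Nat.le_of_dvd hi h) (by omega))))
      hr.one_lt
    have hck : c ^ (i * k) = c := by rw [pow_eq_pow_mod _ hc, hk.2, pow_one]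
    exact hwu (hck ▸ hpow k u₀ hu₀)
  -- projection operators
  have hproj : ∀ I : Finset ℕ, (∀ i ∈ I, 0 < i ∧ i < r) → ∃ f : V →* V,
      (∃ k, f w = w ^ 2 ^ k) ∧ ∀ i ∈ I, f ((c ^ i) w) = 1 := by
    intro I
    induction I using Finset.induction_on with
    | empty => exact fun _ => ⟨MonoidHom.id V, ⟨0, by simp⟩, by simp⟩
    | @insert a I _ ih =>
      intro hI
      obtain ⟨f, ⟨k, hk⟩, hf⟩ := ih fun i hi => hI i (Finset.mem_insert_of_mem hi)
      obtain ⟨u, hu, hua⟩ := hdiff a (hI a (Finset.mem_insert_self a I)).1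
        (hI a (Finset.mem_insert_self a I)).2
      let P : V →* V := if u w = w
        then MonoidHom.id V * u.toMonoidHom else MonoidHom.id V / u.toMonoidHom
      have hPz : ∀ z, Eig (U : Set (MulAut V)) z →
          P z = if (u z = z ↔ u w = w) then z ^ 2 else 1 := by
        intro z hz
        by_cases hwu' : u w = w
        · rcases hz u hu with h | h
          · simp [P, hwu', h, pow_two]
          · by_cases hz1 : z = 1
            · subst hz1; simp [P, hwu']
            · simp [P, hwu', h, hne z hz1]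
        · rcases hz u hu with h | h
          · simp [P, hwu', h]
          · by_cases hz1 : z = 1
            · subst hz1; simp [P, hwu']
            · simp [P, hwu', h, hne z hz1, pow_two]
      refine ⟨f.comp P, ⟨k + 1, ?_⟩, fun i hi => ?_⟩
      · rw [MonoidHom.comp_apply, hPz w hw, if_pos Iff.rfl, map_pow, hk, ← pow_mul, ← pow_succ]
      · rcases Finset.mem_insert.1 hi with rfl | hi
        · rw [MonoidHom.comp_apply, hPz _ (hze i), if_neg hua, map_one]
        · rw [MonoidHom.comp_apply, hPz _ (hze i)]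
          split
          · rw [map_pow, hf i hi, one_pow]
          · rw [map_one]
  refine ⟨w, fun hs => ?_, ?_⟩
  · obtain ⟨f, ⟨k, hk⟩, hf⟩ := hproj ((Finset.range r).erase 0)
      fun i hi => ⟨Nat.pos_of_ne_zero (Finset.mem_erase.1 hi).1,
        Finset.mem_range.1 (Finset.mem_erase.1 hi).2⟩
    have h := congrArg f hs
    rw [map_prod, map_one, ← Finset.mul_prod_erase _ _ (Finset.mem_range.2 hr.pos),
      Finset.prod_eq_one hf, mul_one] at h
    simp only [pow_zero, MulAut.one_apply] at h
    rw [hk] at h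
    exact hw1 (eq_one_of_pow_two_pow hq (hV w) h)
  · rw [map_prod]
    have h := Finset.prod_range_succ' (fun i => (c ^ i) w) r
    rw [Finset.prod_range_succ, hc] at h
    simp only [pow_zero, MulAut.one_apply] at h
    rw [mul_right_cancel h]
    exact Finset.prod_congr rfl fun i _ => by rw [← MulAut.mul_apply, ← pow_succ']

end Cfsg.Agent.TwoQ27
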