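import Mathlib
import Cfsg.Prelude.Def_Transfer
import Cfsg.Agent.Lib.TwoQ27Linear
import Cfsg.Agent.Lib.SignalizerCoprime
import Cfsg.Agent.S0071
import Cfsg.Agent.S0144
import Cfsg.Agent.S0205

/-!
# Groups in which even element orders are `2`, `2q` and element orders divisible by `q` are `q`, `2q`

`TwoQ G q` is this hypothesis.  The main result of this file: a non-solvable such group has no
non-trivial normal subgroup of odd order (`no_odd_normal`).
-/

set_option autoImplicit false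
set_option linter.style.haveILetI false

namespace Cfsg.Agent.TwoQ27

universe u v

/-- Even element orders are `2` or `2q`, element orders divisible by `q` are `q` or `2q`. -/
structure TwoQ (G : Type u) [Group G] (q : ℕ) : Prop where
  prime : q.Prime
  ne_two : q ≠ 2
  even : ∀ g : G, 2 ∣ orderOf g → orderOf g = 2 ∨ orderOf g = 2 * q
  qdvd : ∀ g : G, q ∣ orderOf g → orderOf g = q ∨ orderOf g = 2 * q

variable {G : Type u} [Group G] {q : ℕ}

theorem TwoQ.odd_q (h : TwoQ G q) : Odd q := h.prime.odd_of_ne_two h.ne_two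

theorem TwoQ.two_not_dvd (h : TwoQ G q) : ¬ 2 ∣ q := fun h' => h.ne_two
  ((h.prime.eq_one_or_self_of_dvd 2 h').resolve_left (by norm_num)).symm

theorem TwoQ.of_injective {H : Type v} [Group H] (h : TwoQ G q) {f : H →* G}
    (hf : Function.Injective f) : TwoQ H q :=
  ⟨h.prime, h.ne_two, fun g hg => by
    have h' := orderOf_injective f hf g
    rw [← h'] at hg ⊢; exact h.even _ hg, fun g hg => by
    have h' := orderOf_injective f hf g
    rw [← h'] at hg ⊢; exact h.qdvd _ hg⟩

theorem TwoQ.subgroup (h : TwoQ G q) (H : Subgroup G) : TwoQ H q :=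
  h.of_injective H.subtype_injective

theorem TwoQ.dvd_cases (h : TwoQ G q) {d : ℕ} (hd : d ∣ 2 * q) :
    d = 1 ∨ d = 2 ∨ d = q ∨ d = 2 * q := by
  obtain ⟨a, b, ha, hb, rfl⟩ := Nat.dvd_mul.1 hd
  rcases (Nat.dvd_prime Nat.prime_two).1 ha with rfl | rfl <;>
    rcases (Nat.dvd_prime h.prime).1 hb with rfl | rfl <;> simp

theorem TwoQ.of_surjective {H : Type v} [Group H] (h : TwoQ G q) {f : G →* H}
    (hf : Function.Surjective f) : TwoQ H q := by
  refine ⟨h.prime, h.ne_two, fun y hy => ?_, fun y hy => ?_⟩ <;> obtain ⟨g, rfl⟩ := hf y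
  · have hd := orderOf_map_dvd f g
    have hg : orderOf g ∣ 2 * q := by
      rcases h.even g (hy.trans hd) with e | e <;> rw [e]
      exact dvd_mul_right _ _
    rcases h.dvd_cases (hd.trans hg) with e | e | e | e
    · rw [e] at hy; norm_num at hy
    · exact Or.inl e
    · rw [e] at hy; exact absurd hy h.two_not_dvd
    · exact Or.inr e
  · have hd := orderOf_map_dvd f g
    have hg : orderOf g ∣ 2 * q := by
      rcases h.qdvd g (hy.trans hd) with e | e <;> rw [e]
      exact dvd_mul_left _ _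
    rcases h.dvd_cases (hd.trans hg) with e | e | e | e
    · rw [e] at hy; exact absurd (Nat.dvd_one.1 hy) h.prime.ne_one
    · rw [e] at hy
      exact absurd ((Nat.prime_dvd_prime_iff_eq h.prime Nat.prime_two).1 hy) h.ne_two
    · exact Or.inl e
    · exact Or.inr e

theorem TwoQ.pow_two_q_of_even (h : TwoQ G q) {g : G} (hg : 2 ∣ orderOf g) :
    g ^ (2 * q) = 1 := by
  apply orderOf_dvd_iff_pow_eq_one.1
  rcases h.even g hg with e | e <;> rw [e]
  exact dvd_mul_right _ _

theorem TwoQ.pow_two_q_of_qdvd (h : TwoQ G q) {g : G} (hg : q ∣ orderOf g) :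
    g ^ (2 * q) = 1 := by
  apply orderOf_dvd_iff_pow_eq_one.1
  rcases h.qdvd g hg with e | e <;> rw [e]
  exact dvd_mul_left _ _

/-- A `2`-element has order at most `2`. -/
theorem TwoQ.sq_of_two_pow (h : TwoQ G q) {g : G} {k : ℕ} (hg : g ^ 2 ^ k = 1) : g * g = 1 := by
  obtain ⟨j, _, hj⟩ := (Nat.dvd_prime_pow Nat.prime_two).1 (orderOf_dvd_of_pow_eq_one hg)
  rcases Nat.eq_zero_or_pos j with rfl | hj0
  · rw [pow_zero, orderOf_eq_one_iff] at hj; rw [hj, mul_one]
  · rcases h.even g (hj ▸ dvd_pow_self 2 hj0.ne') with e | e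
    · rw [← pow_two]; exact e ▸ pow_orderOf_eq_one g
    · have hqd : q ∣ 2 ^ j := ⟨2, by rw [← hj, e, mul_comm]⟩
      exact absurd ((Nat.prime_dvd_prime_iff_eq h.prime Nat.prime_two).1
        (h.prime.dvd_of_dvd_pow hqd)) h.ne_two

/-- A `q`-element has order at most `q`. -/
theorem TwoQ.pow_q_of_q_pow (h : TwoQ G q) {g : G} {k : ℕ} (hg : g ^ q ^ k = 1) : g ^ q = 1 := by
  obtain ⟨j, _, hj⟩ := (Nat.dvd_prime_pow h.prime).1 (orderOf_dvd_of_pow_eq_one hg)
  rcases Nat.eq_zero_or_pos j with rfl | hj0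
  · rw [pow_zero, orderOf_eq_one_iff] at hj; rw [hj, one_pow]
  · rcases h.qdvd g (hj ▸ dvd_pow_self q hj0.ne') with e | e
    · exact e ▸ pow_orderOf_eq_one g
    · have h2d : 2 ∣ q ^ j := ⟨q, by rw [← hj, e]⟩
      exact absurd (Nat.prime_two.dvd_of_dvd_pow h2d) h.two_not_dvd

theorem TwoQ.sq_of_mem (h : TwoQ G q) {P : Subgroup G} (hP : IsPGroup 2 P) {g : G} (hg : g ∈ P) :
    g * g = 1 := by
  obtain ⟨k, hk⟩ := hP ⟨g, hg⟩
  exact h.sq_of_two_pow (k := k) (by simpa using congrArg Subtype.val hk)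

theorem TwoQ.pow_q_of_mem (h : TwoQ G q) {P : Subgroup G} (hP : IsPGroup q P) {g : G}
    (hg : g ∈ P) : g ^ q = 1 := by
  obtain ⟨k, hk⟩ := hP ⟨g, hg⟩
  exact h.pow_q_of_q_pow (k := k) (by simpa using congrArg Subtype.val hk)

theorem TwoQ.comm_of_mem (h : TwoQ G q) {P : Subgroup G} (hP : IsPGroup 2 P) {g g' : G}
    (hg : g ∈ P) (hg' : g' ∈ P) : g * g' = g' * g :=
  comm_of_sq (fun _ hx => h.sq_of_mem hP hx) hg hg'

theorem TwoQ.elementary (h : TwoQ G q) {P : Subgroup G} (hP : IsPGroup 2 P) :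
    Cfsg.IsElementaryAbelian 2 P :=
  ⟨⟨⟨fun a b => Subtype.ext (h.comm_of_mem hP a.2 b.2)⟩⟩,
    fun a ha => by rw [pow_two]; exact h.sq_of_mem hP ha⟩

/-- An element of odd order centralising an involution has order dividing `q`. -/
theorem TwoQ.pow_q_of_comm (h : TwoQ G q) {t g : G} (ht : t * t = 1) (ht1 : t ≠ 1)
    (hg : Odd (orderOf g)) (hc : Commute t g) : g ^ q = 1 := by
  have h2 : orderOf t = 2 := orderOf_eq_prime (by rw [pow_two, ht]) ht1
  have ho := hc.orderOf_mul_eq_mul_orderOf_of_coprime (by rw [h2]; exact hg.coprime_two_left)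
  rw [h2] at ho
  apply orderOf_dvd_iff_pow_eq_one.1
  rcases h.even (t * g) (ho ▸ dvd_mul_right _ _) with e | e <;> rw [ho] at e
  · rw [show orderOf g = 1 by omega]; exact one_dvd _
  · rw [show orderOf g = q by omega]

/-- An element of order prime to `2q` centralising an element of order `q` is trivial. -/
theorem TwoQ.eq_one_of_comm (h : TwoQ G q) {y g : G} (hy : y ^ q = 1) (hy1 : y ≠ 1)
    (hq : ¬ q ∣ orderOf g) (hc : Commute y g) : g = 1 ∨ g * g = 1 := by
  haveI := Fact.mk h.prime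
  have hyo : orderOf y = q := orderOf_eq_prime hy hy1
  have ho := hc.orderOf_mul_eq_mul_orderOf_of_coprime
    (by rw [hyo]; exact (h.prime.coprime_iff_not_dvd).2 hq)
  rw [hyo] at ho
  rcases h.qdvd (y * g) (ho ▸ dvd_mul_right _ _) with e | e <;> rw [ho] at e
  · left
    rw [← orderOf_eq_one_iff]
    exact Nat.eq_of_mul_eq_mul_left h.prime.pos (e.trans (mul_one q).symm)
  · right
    rw [← pow_two]
    apply orderOf_dvd_iff_pow_eq_one.1
    rw [mul_comm 2 q] at e
    rw [Nat.eq_of_mul_eq_mul_left h.prime.pos e]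

/-- Everything centralising an involution or an element of order `q` has order dividing `2q`. -/
theorem TwoQ.pow_two_q_of_comm (h : TwoQ G q) {t g : G} (ht : t ≠ 1)
    (ht' : t * t = 1 ∨ t ^ q = 1) (hc : Commute t g) : g ^ (2 * q) = 1 := by
  by_cases h2 : 2 ∣ orderOf g
  · exact h.pow_two_q_of_even h2
  by_cases hq : q ∣ orderOf g
  · exact h.pow_two_q_of_qdvd hq
  have hodd : Odd (orderOf g) := Nat.odd_iff.2 (by omega)
  rcases ht' with ht' | ht'
  · rw [mul_comm, pow_mul, h.pow_q_of_comm ht' ht hodd hc, one_pow]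
  · rcases h.eq_one_of_comm ht' ht hq hc with e | e
    · rw [e, one_pow]
    · rw [pow_mul, pow_two, e, one_pow]

/-- A group all of whose elements have order dividing `2q` is solvable. -/
theorem isSolvable_of_pow_two_q [Finite G] (hq : q.Prime) (h : ∀ g : G, g ^ (2 * q) = 1) :
    Group.IsSolvable G := by
  have hdvd : ∀ r : ℕ, r.Prime → r ∣ Nat.card G → r = 2 ∨ r = q := by
    intro r hr hd
    haveI := Fact.mk hr
    obtain ⟨g, hg⟩ := exists_prime_orderOf_dvd_card' r hd
    have hd' : r ∣ 2 * q := hg ▸ orderOf_dvd_of_pow_eq_one (h g)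
    rcases hr.dvd_mul.1 hd' with e | e
    · exact Or.inl ((Nat.prime_dvd_prime_iff_eq hr Nat.prime_two).1 e)
    · exact Or.inr ((Nat.prime_dvd_prime_iff_eq hr hq).1 e)
  have h0 : Nat.card G ≠ 0 := Nat.card_pos.ne'
  obtain ⟨a, m, hm, hcard⟩ := Nat.exists_eq_pow_mul_and_not_dvd h0 2 (by norm_num)
  obtain ⟨b, hb⟩ : ∃ b, m = q ^ b := ⟨_, Nat.eq_prime_pow_of_unique_prime_dvd
    (fun e => h0 (by rw [hcard, e, mul_zero])) fun {r} hr hd =>
      (hdvd r hr (hcard ▸ hd.trans (dvd_mul_left _ _))).resolve_left fun e => hm (e ▸ hd)⟩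
  exact Cfsg.Agent.S0144.result 2 q a b Nat.prime_two hq (hb ▸ hcard)

/-- A nontrivial power-closed centraliser in a `TwoQ` group is solvable. -/
theorem TwoQ.isSolvable_of_le_centralizer [Finite G] (h : TwoQ G q) {t : G} (ht : t ≠ 1)
    (ht' : t * t = 1 ∨ t ^ q = 1) {H : Subgroup G} (hH : ∀ g ∈ H, Commute t g) :
    Group.IsSolvable H :=
  isSolvable_of_pow_two_q h.prime fun g =>
    Subtype.ext (by simpa using h.pow_two_q_of_comm ht ht' (hH g g.2))

/-- A normal `2`-complement makes a group solvable. -/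
theorem isSolvable_of_normal_two_complement [Finite G]
    (h : Cfsg.HasNormalPComplement 2 G) : Group.IsSolvable G := by
  haveI := Fact.mk Nat.prime_two
  obtain ⟨P, N, hN, hcomp⟩ := h
  haveI := hN
  have hodd : Odd (Nat.card N) := by
    rw [← hcomp.index_eq_card]
    exact Nat.odd_iff.2 (Nat.two_dvd_ne_zero.1 P.not_dvd_index)
  haveI : Group.IsSolvable N := Cfsg.Agent.S0205.result hodd
  obtain ⟨k, hk⟩ := IsPGroup.iff_card.1 P.isPGroup'
  have hQ : IsPGroup 2 (G ⧸ N) := IsPGroup.of_card (n := k) (by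
    rw [← Subgroup.index_eq_card, hcomp.symm.index_eq_card, hk])
  haveI : Group.IsNilpotent (G ⧸ N) := hQ.isNilpotent
  haveI : Group.IsSolvable (G ⧸ N) := inferInstance
  exact Group.isSolvable_of_ker_le_range N.subtype (QuotientGroup.mk' N) (by simp)

/-- In a non-solvable `TwoQ` group some element of odd prime order normalises, and does not
centralise, a `2`-subgroup. -/
theorem TwoQ.exists_moving [Finite G] (h : TwoQ G q) (hns : ¬ Group.IsSolvable G) :
    ∃ (Q : Subgroup G) (x : G) (r : ℕ), IsPGroup 2 Q ∧ r.Prime ∧ r ≠ 2 ∧ orderOf x = r ∧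
      x ∈ Subgroup.normalizer (Q : Set G) ∧ x ∉ Subgroup.centralizer (Q : Set G) := by
  haveI := Fact.mk Nat.prime_two
  obtain ⟨P⟩ := (inferInstance : Nonempty (Sylow 2 G))
  have hno : ¬ ∀ Q : Subgroup G, Q ≤ (P : Subgroup G) → ∀ g ∈ Subgroup.normalizer (Q : Set G),
      Nat.Coprime (orderOf g) 2 → g ∈ Subgroup.centralizer (Q : Set G) := fun hall => by
    obtain ⟨N, hN, hc⟩ := (Cfsg.Agent.S0071.result P).2 hall
    exact hns (isSolvable_of_normal_two_complement ⟨P, N, hN, hc⟩)
  push Not at hno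
  obtain ⟨Q, hQP, g, hgN, hgo, hgC⟩ := hno
  have hQ : IsPGroup 2 Q := P.isPGroup'.to_le hQP
  by_cases hqd : q ∣ orderOf g
  · refine ⟨Q, g, q, hQ, h.prime, h.ne_two, ?_, hgN, hgC⟩
    exact (h.qdvd g hqd).resolve_right fun e => by rw [e] at hgo; exact absurd (hgo.symm.eq_one_of_dvd (dvd_mul_right 2 q)) (by norm_num)
  obtain ⟨r, hr, hrd⟩ := Nat.exists_prime_and_dvd
    (show orderOf g ≠ 1 from fun e => hgC (orderOf_eq_one_iff.1 e ▸ one_mem _))
  have hr2 : r ≠ 2 := by
    rintro rfl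
    exact absurd (hgo.symm.eq_one_of_dvd hrd) (by norm_num)
  obtain ⟨u, hu, hu1⟩ : ∃ u ∈ Q, u ≠ 1 := by
    by_contra hcon
    push Not at hcon
    exact hgC (Subgroup.mem_centralizer_iff.2 fun u hu => by simp [hcon u hu])
  obtain ⟨d, hd⟩ := hrd
  have hd0 : d ≠ 0 := fun e => (orderOf_pos g).ne' (by rw [hd, e, mul_zero])
  have hxo : orderOf (g ^ d) = r := by
    rw [orderOf_pow_of_dvd hd0 (hd ▸ dvd_mul_left _ _), hd,
      Nat.mul_div_cancel _ (Nat.pos_of_ne_zero hd0)]
  refine ⟨Q, g ^ d, r, hQ, hr, hr2, hxo, pow_mem hgN d, fun hC => ?_⟩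
  have hpow := h.pow_q_of_comm (h.sq_of_mem hQ hu) hu1 (hxo ▸ hr.odd_of_ne_two hr2)
    (Subgroup.mem_centralizer_iff.1 hC u hu)
  have hrq : r ∣ q := hxo ▸ orderOf_dvd_of_pow_eq_one hpow
  exact hqd ((Nat.prime_dvd_prime_iff_eq hr h.prime).1 hrq ▸ hd ▸ dvd_mul_right _ _)

/-- No element of odd prime order moves, in its action on a normal abelian subgroup of exponent `q`,
an elementary abelian `2`-group of automorphisms normalised by it. -/
theorem TwoQ.no_move [Finite G] (h : TwoQ G q) {W : Subgroup G} [W.Normal]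
    (hWc : ∀ a ∈ W, ∀ b ∈ W, a * b = b * a) (hWq : ∀ a ∈ W, a ^ q = 1)
    {U : Subgroup (MulAut W)} (hU : ∀ u ∈ U, u * u = 1) {g : G} {r : ℕ} (hr : r.Prime)
    (hr2 : r ≠ 2) (hc : MulAut.conjNormal g ^ r = (1 : MulAut W))
    (hn : ∀ u ∈ U, (MulAut.conjNormal g)⁻¹ * u * MulAut.conjNormal g ∈ U) :
    ∀ u ∈ U, (MulAut.conjNormal g)⁻¹ * u * MulAut.conjNormal g = u := by
  by_contra hmove
  push Not at hmove
  let φ : G →* MulAut W := MulAut.conjNormal
  letI : CommGroup W := { (inferInstance : Group W) with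
    mul_comm := fun a b => Subtype.ext (hWc a a.2 b b.2) }
  have hV : ∀ v : W, v ^ q = 1 := fun v => Subtype.ext (by simpa using hWq v v.2)
  have hc1 : φ g ≠ 1 := fun e => by
    obtain ⟨u, -, hu⟩ := hmove
    exact hu (by rw [show (MulAut.conjNormal g : MulAut W) = 1 from e]; simp)
  have hco : orderOf (φ g) = r := haveI := Fact.mk hr; orderOf_eq_prime hc hc1
  have hrg : r ∣ orderOf g := hco ▸ orderOf_map_dvd φ g
  obtain ⟨w, hw1, hwfix⟩ := exists_norm_ne_one h.odd_q hV hU hr hc hn hmove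
  set s : W := ∏ i ∈ Finset.range r, (φ g ^ i) w with hs
  by_cases hrq : r = q
  · subst hrq
    -- a conjugate lift of order `r`
    have hg2q : g ^ (2 * r) = 1 := h.pow_two_q_of_qdvd hrg
    obtain ⟨m, hm⟩ := h.odd_q
    have hg1 : (g ^ (r + 1)) ^ r = 1 := by
      rw [← pow_mul, show (r + 1) * r = (2 * r) * (m + 1) by rw [hm]; ring, pow_mul, hg2q, one_pow]
    have hφ1 : φ (g ^ (r + 1)) = φ g := by rw [map_pow, pow_succ, hc, one_mul]
    set g1 := g ^ (r + 1)
    have hexp : ∀ i, ((w : G) * g1) ^ i =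
        ((∏ j ∈ Finset.range i, (φ g ^ j) w : W) : G) * g1 ^ i := by
      intro i
      induction i with
      | zero => simp
      | succ i ih =>
        rw [pow_succ', ih]
        have hcoe : ∀ v : W, g1 * (v : G) = ((φ g v : W) : G) * g1 := fun v => by
          rw [← hφ1, MulAut.conjNormal_apply]; group
        have hstep : (∏ j ∈ Finset.range (i + 1), (φ g ^ j) w : W) =
            w * φ g (∏ j ∈ Finset.range i, (φ g ^ j) w) := by
          rw [Finset.prod_range_succ', map_prod, pow_zero, MulAut.one_apply, mul_comm]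
          exact congrArg (w * ·) (Finset.prod_congr rfl fun j _ => by
            rw [← MulAut.mul_apply, ← pow_succ'])
        rw [hstep, Subgroup.coe_mul, pow_succ' g1]
        calc (w : G) * g1 * (((∏ j ∈ Finset.range i, (φ g ^ j) w : W) : G) * g1 ^ i)
            = (w : G) * (g1 * ((∏ j ∈ Finset.range i, (φ g ^ j) w : W) : G)) * g1 ^ i := by group
          _ = _ := by rw [hcoe]; group
    have hzr : ((w : G) * g1) ^ r = (s : G) := by rw [hexp, hg1, mul_one]
    have hφz : φ ((w : G) * g1) = φ g := by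
      have hw' : φ (w : G) = 1 := MulEquiv.ext fun v => Subtype.ext (by
        rw [MulAut.conjNormal_apply, hWc w w.2 v v.2, mul_inv_cancel_right, MulAut.one_apply])
      rw [map_mul, hw', one_mul, hφ1]
    have hz := h.pow_two_q_of_qdvd (g := (w : G) * g1)
      (by have := orderOf_map_dvd φ ((w : G) * g1); rwa [hφz, hco] at this)
    rw [mul_comm 2 r, pow_mul, hzr] at hz
    exact hw1 (eq_one_of_pow_two_pow h.odd_q (hV s) (k := 1)
      (Subtype.ext (by simpa using hz)))
  · have hq' : ¬ q ∣ orderOf g := fun hd => by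
      rcases h.qdvd g hd with e | e <;> rw [e] at hrg
      · exact hrq ((Nat.prime_dvd_prime_iff_eq hr h.prime).1 hrg)
      · rcases hr.dvd_mul.1 hrg with e' | e'
        · exact hr2 ((Nat.prime_dvd_prime_iff_eq hr Nat.prime_two).1 e')
        · exact hrq ((Nat.prime_dvd_prime_iff_eq hr h.prime).1 e')
    have hcomm : Commute (s : G) g := by
      have h' := congrArg Subtype.val hwfix
      rw [MulAut.conjNormal_apply] at h'
      exact (mul_inv_eq_iff_eq_mul.1 h').symm
    have hg2 : g * g = 1 := by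
      rcases h.eq_one_of_comm (hWq _ s.2) (fun e => hw1 (Subtype.ext e)) hq' hcomm with e | e
      · rw [e, mul_one]
      · exact e
    have := hrg.trans (orderOf_dvd_of_pow_eq_one (by rw [pow_two, hg2] : g ^ 2 = 1))
    exact hr2 ((Nat.prime_dvd_prime_iff_eq hr Nat.prime_two).1 this)

theorem exists_four [Finite G] {P : Subgroup G} (hP : IsPGroup 2 P) (h4 : 4 ≤ Nat.card P) :
    ∃ V ≤ P, Nat.card V = 4 := by
  haveI := Fact.mk Nat.prime_two
  obtain ⟨k, hk⟩ := IsPGroup.iff_card.1 hP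
  have hk2 : 2 ≤ k := by
    by_contra hlt
    have : Nat.card P ≤ 2 := by
      rw [hk]
      calc 2 ^ k ≤ 2 ^ 1 := Nat.pow_le_pow_right (by norm_num) (by omega)
        _ = 2 := by norm_num
    omega
  obtain ⟨V, hV⟩ := Sylow.exists_subgroup_card_pow_prime 2 (n := 2)
    (hk ▸ pow_dvd_pow 2 hk2 : 2 ^ 2 ∣ Nat.card P)
  exact ⟨V.map P.subtype, Subgroup.map_subtype_le _, by
    rw [Subgroup.card_map_of_injective P.subtype_injective, hV]; norm_num⟩

/-- A group with Sylow `2`-subgroups of order at most `2` is solvable. -/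
theorem four_le_card_sylow [Finite G] (hns : ¬ Group.IsSolvable G) (P : Sylow 2 G) :
    4 ≤ Nat.card P := by
  haveI := Fact.mk Nat.prime_two
  obtain ⟨k, hk⟩ := IsPGroup.iff_card.1 P.isPGroup'
  by_contra hlt
  have hk1 : k ≤ 1 := by
    by_contra hk2
    have : 4 ≤ Nat.card P := by
      rw [show Nat.card P = 2 ^ k from hk]
      calc 4 = 2 ^ 2 := by norm_num
        _ ≤ 2 ^ k := Nat.pow_le_pow_right (by norm_num) (by omega)
    omega
  refine hns (isSolvable_of_normal_two_complement ?_)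
  obtain ⟨N, hN, hc⟩ := (Cfsg.Agent.S0071.result P).2 fun Q hQ g hg hgo => by
    refine Subgroup.mem_centralizer_iff.2 fun u hu => ?_
    by_cases hu1 : u = 1
    · simp [hu1]
    have hc2 : Nat.card Q ≤ 2 := by
      refine (Nat.le_of_dvd Nat.card_pos (Subgroup.card_dvd_of_le hQ)).trans ?_
      rw [hk]
      exact (Nat.pow_le_pow_right (by norm_num) hk1).trans (le_of_eq (pow_one 2))
    have hgu : g * u * g⁻¹ ∈ Q := (Subgroup.mem_normalizer_iff.1 hg u).1 hu
    by_contra hne
    classical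
    have hthree : ({1, ⟨u, hu⟩, ⟨g * u * g⁻¹, hgu⟩} : Finset Q).card = 3 := by
      rw [Finset.card_eq_three]
      refine ⟨_, _, _, ?_, ?_, ?_, rfl⟩
      · exact fun e => hu1 (congrArg Subtype.val e).symm
      · intro e
        have e' : g * u * g⁻¹ = 1 := (congrArg Subtype.val e).symm
        exact hu1 (by
          have := congrArg (fun z => g⁻¹ * z * g) e'
          simpa [mul_assoc] using this)
      · intro e
        have e' : u = g * u * g⁻¹ := congrArg Subtype.val e
        exact hne (eq_mul_inv_iff_mul_eq.1 e')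
    haveI := Fintype.ofFinite Q
    have hle := Finset.card_le_univ ({1, ⟨u, hu⟩, ⟨g * u * g⁻¹, hgu⟩} : Finset Q)
    rw [hthree, ← Nat.card_eq_fintype_card] at hle
    omega
  exact ⟨P, N, hN, hc⟩

/-- A `V₄`-invariant subgroup of odd order is a `q`-group. -/
theorem TwoQ.isPGroup_of_invariant [Finite G] (h : TwoQ G q) {V O : Subgroup G}
    (hV : IsPGroup 2 V) (h4 : 4 ≤ Nat.card V) (hVO : V ≤ Subgroup.normalizer (O : Set G))
    (hO : Odd (Nat.card O)) : IsPGroup q O := by
  haveI := Fact.mk Nat.prime_two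
  haveI := Fact.mk h.prime
  obtain ⟨k, hk⟩ : ∃ k, Nat.card O = q ^ k := ⟨_, Nat.eq_prime_pow_of_unique_prime_dvd
    Nat.card_pos.ne' fun {r} hr hd => by
      by_contra hrq
      haveI := Fact.mk hr
      have hr2 : r ≠ 2 := fun e => by
        subst e
        have := Nat.odd_iff.1 hO
        omega
      obtain ⟨R, hRO, hRc, hVR⟩ := SignalizerCoprime.exists_invariant_sylow hV hVO
        (by have := Nat.odd_iff.1 hO; omega) r
      have hR2 : ¬ 2 ∣ Nat.card R := fun e => by
        have := e.trans (Subgroup.card_dvd_of_le hRO)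
        have := Nat.odd_iff.1 hO
        omega
      have hbot : R ≤ ⊥ := SignalizerCoprime.le_of_centralizers_le (h.elementary hV)
        (by norm_num; exact h4) hVR hR2 fun v hv hv1 => by
          intro x hx
          obtain ⟨hxR, hxv⟩ := Subgroup.mem_inf.1 hx
          have hxo : orderOf x ∣ Nat.card R := Subgroup.orderOf_dvd_natCard R hxR
          have hxodd : Odd (orderOf x) := Nat.odd_iff.2 (by
            have : ¬ 2 ∣ orderOf x := fun e => hR2 (e.trans hxo)
            omega)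
          have hpow := h.pow_q_of_comm (h.sq_of_mem hV hv) hv1 hxodd
            (Subgroup.mem_centralizer_iff.1 hxv v rfl)
          rw [hRc] at hxo
          rw [Subgroup.mem_bot, ← orderOf_eq_one_iff]
          exact Nat.eq_one_of_dvd_coprimes (((Nat.coprime_primes hr h.prime).2 hrq).pow_left _)
            hxo (orderOf_dvd_of_pow_eq_one hpow)
      rw [le_bot_iff] at hbot
      rw [hbot, Subgroup.card_bot] at hRc
      have hpos : 0 < (Nat.card O).factorization r := hr.factorization_pos_of_dvd Nat.card_pos.ne' hd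
      exact absurd hRc (Nat.one_lt_pow hpos.ne' hr.one_lt).ne⟩
  exact IsPGroup.of_card hk

/-- A non-solvable `TwoQ` group has no non-trivial normal subgroup of odd order. -/
theorem TwoQ.no_odd_normal [Finite G] (h : TwoQ G q) (hns : ¬ Group.IsSolvable G)
    (O : Subgroup G) [O.Normal] (hO : Odd (Nat.card O)) : O = ⊥ := by
  haveI := Fact.mk Nat.prime_two
  haveI := Fact.mk h.prime
  by_contra hbot
  obtain ⟨P⟩ := (inferInstance : Nonempty (Sylow 2 G))
  have hOq : IsPGroup q O := h.isPGroup_of_invariant P.isPGroup' (four_le_card_sylow hns P)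
    (by rw [Subgroup.normalizer_eq_top]; exact le_top) hO
  haveI : Nontrivial O := (Subgroup.nontrivial_iff_ne_bot O).2 hbot
  set W := (Subgroup.center O).map O.subtype
  haveI : W.Normal := ConjAct.normal_of_characteristic_of_normal
  haveI := hOq.center_nontrivial
  obtain ⟨y, hy1⟩ := exists_ne (1 : Subgroup.center O)
  have hyW : ((y : O) : G) ∈ W := ⟨y, y.2, rfl⟩
  have hy1' : ((y : O) : G) ≠ 1 := by simpa using hy1
  have hWc : ∀ a ∈ W, ∀ b ∈ W, a * b = b * a := by
    rintro _ ⟨a, ha, rfl⟩ _ ⟨b, -, rfl⟩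
    exact congrArg Subtype.val ((Subgroup.mem_center_iff.1 ha b).symm)
  have hWq : ∀ a ∈ W, a ^ q = 1 := fun a ha => h.pow_q_of_mem hOq (Subgroup.map_subtype_le _ ha)
  set φ : G →* MulAut W := MulAut.conjNormal with hφ
  haveI hker : Group.IsSolvable φ.ker :=
    h.isSolvable_of_le_centralizer hy1' (Or.inr (hWq _ hyW)) fun g hg => by
      have h' := congrArg (fun a : MulAut W => ((a ⟨_, hyW⟩ : W) : G)) (MonoidHom.mem_ker.1 hg)
      simp only [hφ, MulAut.conjNormal_apply, MulAut.one_apply] at h'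
      exact (mul_inv_eq_iff_eq_mul.1 h').symm
  have hA : ¬ Group.IsSolvable φ.range := fun hsol => hns <| by
    haveI := hsol
    exact Group.isSolvable_of_ker_le_range φ.ker.subtype φ.rangeRestrict (by simp)
  have hTA : TwoQ φ.range q := h.of_surjective φ.rangeRestrict_surjective
  obtain ⟨Q, x, r, hQ, hr, hr2, hxo, hxN, hxC⟩ := hTA.exists_moving hA
  obtain ⟨g, hg⟩ := φ.rangeRestrict_surjective x
  have hgx : φ g = (x : MulAut W) := congrArg Subtype.val hg
  have hall := h.no_move hWc hWq (U := Q.map φ.range.subtype) (g := g) ?_ hr hr2 ?_ ?_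
  · refine hxC (Subgroup.mem_centralizer_iff.2 fun u hu => Subtype.ext ?_)
    have h' := hall (u : MulAut W) ⟨u, hu, rfl⟩
    rw [← hφ, hgx, mul_assoc, inv_mul_eq_iff_eq_mul] at h'
    exact h'
  · rintro _ ⟨u, hu, rfl⟩
    exact congrArg Subtype.val (hTA.sq_of_mem hQ hu)
  · rw [← hφ, hgx, ← Subgroup.coe_pow, ← hxo, pow_orderOf_eq_one]; rfl
  · rintro _ ⟨u, hu, rfl⟩
    refine ⟨x⁻¹ * u * x, ?_, ?_⟩
    · have := (Subgroup.mem_normalizer_iff.1 (inv_mem hxN) u).1 hu
      simpa using this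
    · rw [← hφ, hgx]; rfl

end Cfsg.Agent.TwoQ27
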