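import Mathlib
import Cfsg.Agent.Lib.TwoQ27Basic
import Cfsg.Agent.Lib.SignalizerBasic

/-!
# `2q` groups: solvable subgroups and local subgroups

A solvable `TwoQ` group is `O(X)` extended by the normaliser of a Sylow `2`-subgroup; in a non-abelian
simple `TwoQ` group the normalisers of odd-order subgroups and the centralisers of involutions are
solvable.
-/

set_option autoImplicit false
set_option linter.style.haveILetI false
set_option linter.unusedSectionVars false

namespace Cfsg.Agent.TwoQ27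

universe u

variable {G : Type u} [Group G] [Finite G] {q : ℕ}

/-- In a solvable group with abelian Sylow `2`-subgroups, `O(G)P` is normal. -/
theorem TwoQ.core_sup_normal (h : TwoQ G q) [Group.IsSolvable G] (P : Sylow 2 G) :
    (Cfsg.pPrimeCore 2 G ⊔ (P : Subgroup G)).Normal := by
  haveI := Fact.mk Nat.prime_two
  haveI := HallCore.pPrimeCore_normal 2 G
  let f := QuotientGroup.mk' (Cfsg.pPrimeCore 2 G)
  have hf : Function.Surjective f := QuotientGroup.mk'_surjective _
  let P' := P.mapSurjective hf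
  haveI hVn : (Cfsg.pCore 2 (G ⧸ Cfsg.pPrimeCore 2 G)).Normal := HallCore.pCore_normal 2 _
  have hVP : Cfsg.pCore 2 (G ⧸ Cfsg.pPrimeCore 2 G) ≤ (P' : Subgroup _) := by
    obtain ⟨T, hT⟩ := (HallCore.isPGroup_pCore 2 (G ⧸ Cfsg.pPrimeCore 2 G)).exists_le_sylow
    obtain ⟨g, hg⟩ := MulAction.exists_smul_eq (G ⧸ Cfsg.pPrimeCore 2 G) T P'
    intro v hv
    rw [← hg]
    refine ⟨g⁻¹ * v * g, hT ?_, ?_⟩
    · simpa using hVn.conj_mem v hv g⁻¹
    · simp [mul_assoc]
  have hPV : (P' : Subgroup _) ≤ Cfsg.pCore 2 (G ⧸ Cfsg.pPrimeCore 2 G) := by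
    refine le_trans ?_ (HallSolvable.centralizer_pCore_le
      (HallSolvable.isPSolvable_quotient (HallSolvable.isPSolvable_of_solvable 2) _)
      (HallCore.pPrimeCore_quotient_self 2 G))
    exact fun x hx => Subgroup.mem_centralizer_iff.2 fun v hv =>
      (h.of_surjective hf).comm_of_mem P'.isPGroup' (hVP hv) hx
  have heq : (P : Subgroup G).map f = Cfsg.pCore 2 (G ⧸ Cfsg.pPrimeCore 2 G) :=
    le_antisymm hPV hVP
  have hcomap : ((P : Subgroup G).map f).comap f = Cfsg.pPrimeCore 2 G ⊔ (P : Subgroup G) := by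
    rw [Subgroup.comap_map_eq, QuotientGroup.ker_mk', sup_comm]
  rw [← hcomap, heq]
  exact hVn.comap f

/-- `G = O(G) N(P)` for solvable `G`. -/
theorem TwoQ.exists_mul_normalizer (h : TwoQ G q) [Group.IsSolvable G] (P : Sylow 2 G) (x : G) :
    ∃ o ∈ Cfsg.pPrimeCore 2 G, ∃ n ∈ Subgroup.normalizer ((P : Subgroup G) : Set G), x = o * n := by
  haveI := Fact.mk Nat.prime_two
  haveI := HallCore.pPrimeCore_normal 2 G
  haveI := h.core_sup_normal P
  have hle : (P : Subgroup G) ≤ Cfsg.pPrimeCore 2 G ⊔ (P : Subgroup G) := le_sup_right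
  have htop := Sylow.normalizer_sup_eq_top' P hle
  have hsup : Cfsg.pPrimeCore 2 G ⊔ Subgroup.normalizer ((P : Subgroup G) : Set G) = ⊤ := by
    refine le_antisymm le_top ?_
    rw [← htop]
    exact sup_le le_sup_right (sup_le le_sup_left (Subgroup.le_normalizer.trans le_sup_right))
  have hx : x ∈ (↑(Cfsg.pPrimeCore 2 G ⊔ Subgroup.normalizer ((P : Subgroup G) : Set G)) : Set G) := by
    rw [hsup]; exact Set.mem_univ x
  rw [Subgroup.normal_mul] at hx
  obtain ⟨o, ho, n, hn, rfl⟩ := hx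
  exact ⟨o, ho, n, hn, rfl⟩

/-- The same inside the ambient group, for a solvable subgroup containing a Sylow `2`-subgroup. -/
theorem TwoQ.exists_mul_normalizer_subgroup (h : TwoQ G q) {X : Subgroup G}
    (hX : Group.IsSolvable X) (S : Sylow 2 G) (hS : (S : Subgroup G) ≤ X) {x : G} (hx : x ∈ X) :
    ∃ o ∈ (Cfsg.pPrimeCore 2 X).map X.subtype, ∃ n ∈ X,
      n ∈ Subgroup.normalizer ((S : Subgroup G) : Set G) ∧ x = o * n := by
  haveI := hX
  obtain ⟨o, ho, n, hn, he⟩ := (h.subgroup X).exists_mul_normalizer (S.subtype hS) ⟨x, hx⟩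
  refine ⟨o, Subgroup.mem_map_of_mem _ ho, n, n.2, ?_, congrArg Subtype.val he⟩
  refine Subgroup.mem_normalizer_iff.2 fun y => ?_
  have hn' := Subgroup.mem_normalizer_iff.1 hn
  refine ⟨fun hy => (hn' ⟨y, hS hy⟩).1 hy, fun hy => ?_⟩
  have hyX : y ∈ X := by
    have h' := X.mul_mem (X.mul_mem (X.inv_mem n.2) (hS hy)) n.2
    have heq : (n : G)⁻¹ * ((n : G) * y * (n : G)⁻¹) * n = y := by group
    rwa [heq] at h'
  exact (hn' ⟨y, hyX⟩).2 hy

variable [IsSimpleGroup G]

theorem not_isSolvable_of_simple (hna : ∃ a b : G, a * b ≠ b * a) : ¬ Group.IsSolvable G := by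
  intro hsol
  obtain ⟨a, b, hab⟩ := hna
  exact hab ((IsSimpleGroup.comm_iff_isSolvable.2 hsol) a b)

/-- Normalisers of non-trivial subgroups of odd order are solvable. -/
theorem TwoQ.isSolvable_normalizer (h : TwoQ G q) {Y : Subgroup G} (hY : Y ≠ ⊥)
    (hodd : Odd (Nat.card Y)) : Group.IsSolvable (Subgroup.normalizer (Y : Set G)) := by
  by_contra hns
  refine hY ?_
  have hle : Y ≤ Subgroup.normalizer (Y : Set G) := Subgroup.le_normalizer
  haveI : (Y.subgroupOf (Subgroup.normalizer (Y : Set G))).Normal := Subgroup.normal_in_normalizer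
  have hbot := (h.subgroup _).no_odd_normal hns (Y.subgroupOf (Subgroup.normalizer (Y : Set G)))
    (by rwa [Nat.card_congr (Subgroup.subgroupOfEquivOfLe hle).toEquiv])
  rw [Subgroup.subgroupOf_eq_bot] at hbot
  exact hbot.eq_bot_of_le hle

omit [IsSimpleGroup G] in
/-- Centralisers of involutions and of elements of order `q` are solvable. -/
theorem TwoQ.isSolvable_centralizer (h : TwoQ G q) {t : G} (ht : t ≠ 1)
    (ht' : t * t = 1 ∨ t ^ q = 1) : Group.IsSolvable (Subgroup.centralizer ({t} : Set G)) :=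
  h.isSolvable_of_le_centralizer ht ht' fun _ hg => Subgroup.mem_centralizer_iff.1 hg t rfl

/-- `θ(a) = O(C(a))` is balanced. -/
theorem TwoQ.balance (h : TwoQ G q) {a b : G} (ha : a * a = 1) (hb : b * b = 1) (hb1 : b ≠ 1)
    (hab : a * b = b * a) :
    Cfsg.centralizerPPrimeCore 2 a ⊓ Subgroup.centralizer {b} ≤
      Cfsg.centralizerPPrimeCore 2 b := by
  haveI := Fact.mk Nat.prime_two
  exact SignalizerBasic.balance_of_solvable
    (SignalizerCoprime.isPGroup_zpowers (by rw [pow_two, ha])) hab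
    (h.isSolvable_centralizer hb1 (Or.inl hb))

end Cfsg.Agent.TwoQ27
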