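import Mathlib
import Cfsg.Agent.Lib.TwoQ27Local
import Cfsg.Agent.Lib.CITGraph39
import Cfsg.Agent.Lib.BaerSuzuki
import Cfsg.Agent.Lib.OddCoreOrth52

/-!
# Groups in which no prime divides three distinct element orders: generalities

Such a group has `2`-group centralisers of involutions or is a `2q` group.  General lemmas on
`2`-group centralisers, on the minimal normal subgroup and on the `2`-core.
-/

set_option autoImplicit false
set_option linter.style.haveILetI false
set_option linter.unusedSectionVars false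

namespace Cfsg.Agent.ThreeOrd27

open Subgroup

universe u v

variable {G : Type u} [Group G]

/-- No prime divides three pairwise distinct element orders. -/
def ThreeOrd (G : Type u) [Group G] : Prop :=
  ∀ p : ℕ, p.Prime → ∀ a b c : G, orderOf a ≠ orderOf b → orderOf b ≠ orderOf c →
    orderOf a ≠ orderOf c → ¬ (p ∣ orderOf a ∧ p ∣ orderOf b ∧ p ∣ orderOf c)

theorem ThreeOrd.of_injective {H : Type v} [Group H] (h : ThreeOrd G) {f : H →* G}
    (hf : Function.Injective f) : ThreeOrd H := by
  intro p hp a b c hab hbc hac habc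
  have e := orderOf_injective f hf
  exact h p hp (f a) (f b) (f c) (by rwa [e, e]) (by rwa [e, e]) (by rwa [e, e])
    (by rwa [e, e, e])

/-- Every order in an image is the order of an element. -/
theorem exists_orderOf_eq [Finite G] {H : Type v} [Group H] {f : G →* H}
    (hf : Function.Surjective f) (a : H) : ∃ g : G, orderOf g = orderOf a := by
  obtain ⟨g, rfl⟩ := hf a
  obtain ⟨d, hd⟩ := orderOf_map_dvd f g
  have hd0 : d ≠ 0 := fun e => (orderOf_pos g).ne' (by rw [hd, e, mul_zero])
  refine ⟨g ^ d, ?_⟩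
  rw [orderOf_pow_of_dvd hd0 (hd ▸ dvd_mul_left _ _), hd,
    Nat.mul_div_cancel _ (Nat.pos_of_ne_zero hd0)]

theorem ThreeOrd.of_surjective [Finite G] {H : Type v} [Group H] (h : ThreeOrd G) {f : G →* H}
    (hf : Function.Surjective f) : ThreeOrd H := by
  intro p hp a b c hab hbc hac habc
  obtain ⟨a', ha⟩ := exists_orderOf_eq hf a
  obtain ⟨b', hb⟩ := exists_orderOf_eq hf b
  obtain ⟨c', hc⟩ := exists_orderOf_eq hf c
  exact h p hp a' b' c' (by rwa [ha, hb]) (by rwa [hb, hc]) (by rwa [ha, hc]) (by rwa [ha, hb, hc])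

/-- Divisors of an element order are element orders. -/
theorem exists_orderOf_of_dvd [Finite G] (g : G) {d : ℕ} (hd : d ∣ orderOf g) :
    ∃ x : G, orderOf x = d :=
  ⟨g ^ (orderOf g / d), orderOf_pow_orderOf_div (orderOf_pos g).ne' hd⟩

theorem ThreeOrd.dvd_cases [Finite G] (h : ThreeOrd G) {p : ℕ} (hp : p.Prime) {g : G}
    (hg : p ∣ orderOf g) {x : G} (hx : p ∣ orderOf x) :
    orderOf g = p ∨ orderOf x = p ∨ orderOf x = orderOf g := by
  obtain ⟨y, hy⟩ := exists_orderOf_of_dvd g hg
  by_contra hcon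
  push Not at hcon
  exact h p hp y g x (by rw [hy]; exact hcon.1.symm) hcon.2.2.symm (by rw [hy]; exact hcon.2.1.symm)
    ⟨hy ▸ dvd_rfl, hg, hx⟩

/-- The prime factors of an element order, with multiplicity, are at most two. -/
theorem ThreeOrd.length_le_two [Finite G] (h : ThreeOrd G) (g : G) :
    (orderOf g).primeFactorsList.length ≤ 2 := by
  by_contra hlen
  push Not at hlen
  have hmem : ∀ r ∈ (orderOf g).primeFactorsList, r.Prime := fun r hr =>
    Nat.prime_of_mem_primeFactorsList hr
  have hprod : (orderOf g).primeFactorsList.prod = orderOf g :=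
    Nat.prod_primeFactorsList (orderOf_pos g).ne'
  match hl : (orderOf g).primeFactorsList, hlen with
  | a :: b :: c :: l, _ =>
    rw [hl] at hmem hprod
    have ha := hmem a (by simp)
    have hb := hmem b (by simp)
    have hc := hmem c (by simp)
    simp only [List.prod_cons] at hprod
    have hab : a * b ∣ orderOf g := ⟨c * l.prod, by rw [← hprod]; ring⟩
    obtain ⟨x, hx⟩ := exists_orderOf_of_dvd g hab
    have hl0 : 0 < l.prod := by
      rcases Nat.eq_zero_or_pos l.prod with e | e
      · rw [e] at hprod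
        have := orderOf_pos g
        simp at hprod
        omega
      · exact e
    have h1 : 1 < b * (c * l.prod) := by
      have := hb.two_le
      have := hc.two_le
      have : 0 < c * l.prod := Nat.mul_pos hc.pos hl0
      nlinarith
    rcases h.dvd_cases ha (g := x) (hx ▸ dvd_mul_right _ _) (x := g)
      (hprod ▸ dvd_mul_right a _) with e | e | e
    · rw [hx] at e
      have := hb.two_le
      have := ha.pos
      nlinarith
    · have := ha.pos
      rw [e] at hprod
      nlinarith
    · rw [hx] at e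
      have h2 : 0 < a * b := Nat.mul_pos ha.pos hb.pos
      have h3 : 2 ≤ c := hc.two_le
      have h4 : a * b * (c * l.prod) = a * b := by
        calc a * b * (c * l.prod) = a * (b * (c * l.prod)) := by ring
          _ = a * b := by rw [hprod, e]
      have h5 : 2 ≤ c * l.prod := le_trans h3 (Nat.le_mul_of_pos_right c hl0)
      have h6 : a * b * 2 ≤ a * b * (c * l.prod) := Nat.mul_le_mul_left _ h5
      omega
  | [], h' => simp at h'
  | [_], h' => simp at h'
  | [_, _], h' => simp at h'

/-- `2`-elements have order at most four. -/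
theorem ThreeOrd.pow_four [Finite G] (h : ThreeOrd G) {g : G} {k : ℕ} (hg : g ^ 2 ^ k = 1) :
    g ^ 4 = 1 := by
  obtain ⟨j, -, hj⟩ := (Nat.dvd_prime_pow Nat.prime_two).1 (orderOf_dvd_of_pow_eq_one hg)
  have hlen := h.length_le_two g
  rw [hj, Nat.Prime.primeFactorsList_pow Nat.prime_two, List.length_replicate] at hlen
  exact orderOf_dvd_iff_pow_eq_one.1 (hj ▸ pow_dvd_pow 2 hlen)

/-- The dichotomy. -/
theorem ThreeOrd.cit_or_twoQ [Finite G] (h : ThreeOrd G) :
    CIT21.IsCIT G ∨ ∃ q, TwoQ27.TwoQ G q ∧ ∃ g : G, orderOf g = 2 * q := by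
  by_cases hc : CIT21.IsCIT G
  · exact Or.inl hc
  right
  simp only [CIT21.IsCIT, not_forall] at hc
  obtain ⟨t, ht, hnp⟩ := hc
  rw [IsPGroup.iff_orderOf] at hnp
  push Not at hnp
  obtain ⟨⟨c, hct⟩, hk⟩ := hnp
  rw [mem_centralizer_singleton_iff] at hct
  obtain ⟨q, hq, hqd, hq2⟩ : ∃ q, q.Prime ∧ q ∣ orderOf c ∧ q ≠ 2 := by
    by_contra hcon
    push Not at hcon
    refine hk (orderOf c).primeFactorsList.length ?_
    rw [Subgroup.orderOf_mk]
    exact Nat.eq_prime_pow_of_unique_prime_dvd (orderOf_pos c).ne'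
      fun {d} hd hdd => hcon d hd hdd
  set y := c ^ (orderOf c / q) with hy
  have hyo : orderOf y = q := orderOf_pow_orderOf_div (orderOf_pos c).ne' hqd
  have hcomm : Commute t y := (show Commute t c from hct.symm).pow_right _
  have hgo : orderOf (t * y) = 2 * q := by
    rw [hcomm.orderOf_mul_eq_mul_orderOf_of_coprime, ht, hyo]
    rw [ht, hyo]
    exact (Nat.coprime_primes Nat.prime_two hq).2 (Ne.symm hq2)
  have hne2 : orderOf (t * y) ≠ 2 := by
    rw [hgo]; have := hq.two_le; omega
  have hneq : orderOf (t * y) ≠ q := by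
    rw [hgo]; have := hq.pos; omega
  refine ⟨q, ⟨hq, hq2, fun g hg => ?_, fun g hg => ?_⟩, t * y, hgo⟩
  · rcases h.dvd_cases Nat.prime_two (g := t * y) (hgo ▸ dvd_mul_right _ _) hg with e | e | e
    · exact absurd e hne2
    · exact Or.inl e
    · exact Or.inr (e.trans hgo)
  · rcases h.dvd_cases hq (g := t * y) (hgo ▸ dvd_mul_left _ _) hg with e | e | e
    · exact absurd e hneq
    · exact Or.inl e
    · exact Or.inr (e.trans hgo)

variable [Finite G]

/-- An involution inverts every element of a normalised subgroup of odd order. -/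
theorem inverts_of_cit (H : CIT21.IsCIT G) {t : G} (ht : orderOf t = 2) {X : Subgroup G}
    (hX : Odd (Nat.card X)) (hn : t ∈ normalizer (X : Set G)) {x : G} (hx : x ∈ X) :
    t * x * t⁻¹ = x⁻¹ := by
  have htt : t * t = 1 := by rw [← pow_two, ← ht, pow_orderOf_eq_one]
  have hti : t⁻¹ = t := inv_eq_of_mul_eq_one_right htt
  rw [hti]
  refine OddCoreOrth52.inverts_of_fpf t X htt (fun z hz => ?_) (fun z hz e => ?_) hx
  · have := (mem_normalizer_iff.1 hn z).1 hz
    rwa [hti] at this
  · exact CITGraph39.eq_one_of_odd H ht (hX.of_dvd_nat (Subgroup.orderOf_dvd_natCard X hz)) e.symm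

/-- The centraliser of a non-trivial element of odd order has odd order. -/
theorem odd_centralizer (H : CIT21.IsCIT G) {x : G} (hx : Odd (orderOf x)) (hx1 : x ≠ 1) :
    Odd (Nat.card (centralizer ({x} : Set G))) := by
  rw [← Nat.not_even_iff_odd, even_iff_two_dvd]
  intro h2
  haveI : Fact (Nat.Prime 2) := ⟨Nat.prime_two⟩
  obtain ⟨c, hc⟩ := exists_prime_orderOf_dvd_card' 2 h2
  exact hx1 (CITGraph39.eq_one_of_odd H (t := (c : G)) (by rw [Subgroup.orderOf_coe, hc]) hx
    (mem_centralizer_singleton_iff.1 c.2).symm)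

/-- A non-solvable group with `2`-group centralisers of involutions has no non-trivial normal
subgroup of odd order. -/
theorem cit_no_odd (H : CIT21.IsCIT G) (hns : ¬ Group.IsSolvable G) (V : Subgroup G) [hV : V.Normal]
    (hodd : Odd (Nat.card V)) : V = ⊥ := by
  haveI : Fact (Nat.Prime 2) := ⟨Nat.prime_two⟩
  by_contra hne
  obtain ⟨v, hv, hv1⟩ : ∃ v ∈ V, v ≠ 1 := by
    by_contra hcon
    push Not at hcon
    exact hne ((eq_bot_iff_forall V).2 hcon)
  have h2 : 2 ∣ Nat.card G := by
    by_contra h2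
    exact hns (Cfsg.Agent.S0205.result (Nat.odd_iff.2 (by omega)))
  obtain ⟨t, ht⟩ := exists_prime_orderOf_dvd_card' 2 h2
  have hNtop : ∀ u : G, u ∈ normalizer (V : Set G) := fun u => by
    rw [normalizer_eq_top_iff.2 hV]; trivial
  have hVinv : ∀ u : G, orderOf u = 2 → ∀ c ∈ V, u * c * u⁻¹ = c⁻¹ := fun u hu c hc =>
    inverts_of_cit H hu hodd (hNtop u) hc
  set C := centralizer (V : Set G) with hC
  haveI : C.Normal := by rw [hC]; infer_instance
  have hCodd : Odd (Nat.card C) :=
    (odd_centralizer H (hodd.of_dvd_nat (Subgroup.orderOf_dvd_natCard V hv)) hv1).of_dvd_nat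
      (Subgroup.card_dvd_of_le (centralizer_le (Set.singleton_subset_iff.2 hv)))
  have hquot : IsPGroup 2 (G ⧸ C) := by
    rw [IsPGroup.iff_orderOf]
    intro z
    refine ⟨_, Nat.eq_prime_pow_of_unique_prime_dvd (orderOf_pos z).ne' fun {r} hr hrd => ?_⟩
    by_contra hr2
    haveI := Fact.mk hr
    obtain ⟨g, rfl⟩ := QuotientGroup.mk'_surjective C z
    have hrg : r ∣ orderOf g := hrd.trans (orderOf_map_dvd _ g)
    obtain ⟨w, hw⟩ := exists_orderOf_of_dvd (QuotientGroup.mk' C g) hrd
    obtain ⟨g', hg'⟩ := QuotientGroup.mk'_surjective C w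
    obtain ⟨a, b, hb, hab⟩ := Nat.exists_eq_two_pow_mul_odd (orderOf_pos g').ne'
    set x := g' ^ 2 ^ a with hxdef
    have hxo : Odd (orderOf x) := hb.of_dvd_nat (orderOf_dvd_of_pow_eq_one (by
      rw [hxdef, ← pow_mul, ← hab, pow_orderOf_eq_one]))
    have hxC : x ∉ C := by
      intro hx
      have hx1 : QuotientGroup.mk' C x = 1 := (QuotientGroup.eq_one_iff x).2 hx
      rw [hxdef, map_pow, hg'] at hx1
      exact hr2 ((Nat.prime_dvd_prime_iff_eq hr Nat.prime_two).1
        (hr.dvd_of_dvd_pow (hw ▸ orderOf_dvd_of_pow_eq_one hx1)))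
    apply hxC
    have htx : orderOf (x * t * x⁻¹) = 2 := by rw [← ht]; exact (MulAut.conj x).orderOf_eq t
    have hti : t⁻¹ = t := inv_eq_of_mul_eq_one_right (by rw [← pow_two, ← ht, pow_orderOf_eq_one])
    have hcomm : x * t * x⁻¹ * t⁻¹ ∈ C := mem_centralizer_iff.2 fun c hc => by
      have e1 := hVinv t⁻¹ (by rw [hti, ht]) c hc
      have e2 := hVinv _ htx c⁻¹ (inv_mem hc)
      have h3 : x * t * x⁻¹ * t⁻¹ * c * (x * t * x⁻¹ * t⁻¹)⁻¹ = c := by
        calc x * t * x⁻¹ * t⁻¹ * c * (x * t * x⁻¹ * t⁻¹)⁻¹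
            = (x * t * x⁻¹) * (t⁻¹ * c * t⁻¹⁻¹) * (x * t * x⁻¹)⁻¹ := by group
          _ = (x * t * x⁻¹) * c⁻¹ * (x * t * x⁻¹)⁻¹ := by rw [e1]
          _ = c := by rw [e2, inv_inv]
      exact (mul_inv_eq_iff_eq_mul.1 h3).symm
    set M := C ⊔ zpowers x with hM
    have hcard : Odd (Nat.card M) := by
      rw [hM, sup_comm]
      refine Odd.of_dvd_nat ?_ (HallCore.card_sup_dvd (zpowers x) C)
      rw [Nat.card_zpowers]
      exact hxo.mul hCodd
    have htM : t ∈ normalizer (M : Set G) := by
      have hle : M ≤ M.comap (MulAut.conj t).toMonoidHom := by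
        refine sup_le (fun z hz => ?_) (zpowers_le.2 ?_)
        · exact mem_sup_left ((inferInstance : C.Normal).conj_mem z hz t)
        · show t * x * t⁻¹ ∈ M
          have e : t * x * t⁻¹ = (x * t * x⁻¹ * t⁻¹)⁻¹ * x := by group
          rw [e]
          exact mul_mem (mem_sup_left (inv_mem hcomm)) (mem_sup_right (mem_zpowers x))
      refine mem_normalizer_iff.2 fun z => ⟨fun hz => hle hz, fun hz => ?_⟩
      have h' : t * (t * z * t⁻¹) * t⁻¹ ∈ M := hle hz
      have htt : t * t = 1 := by rw [← pow_two, ← ht, pow_orderOf_eq_one]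
      rwa [show t * (t * z * t⁻¹) * t⁻¹ = (t * t) * z * (t * t)⁻¹ by group, htt, one_mul, inv_one,
        mul_one] at h'
    have hi := inverts_of_cit H ht hcard htM (mem_sup_right (mem_zpowers x))
    have hx2 : x * x ∈ C := by
      have h' := hcomm
      rw [show x * t * x⁻¹ * t⁻¹ = x * (t * x * t⁻¹)⁻¹ by group, hi, inv_inv] at h'
      exact h'
    obtain ⟨k, hk⟩ := hxo
    have : x = (x * x) ^ (k + 1) := by
      rw [← pow_two, ← pow_mul, show 2 * (k + 1) = orderOf x + 1 by omega, pow_succ,
        pow_orderOf_eq_one, one_mul]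
    rw [this]
    exact pow_mem hx2 _
  haveI : Group.IsSolvable C := Cfsg.Agent.S0205.result hCodd
  haveI : Group.IsNilpotent (G ⧸ C) := hquot.isNilpotent
  haveI : Group.IsSolvable (G ⧸ C) := inferInstance
  exact hns (Group.isSolvable_of_ker_le_range C.subtype (QuotientGroup.mk' C) (by simp))

/-- With trivial `p`-cores there is no non-trivial solvable normal subgroup. -/
theorem no_solvable_normal (hcore : ∀ p : ℕ, p.Prime → Cfsg.pCore p G = ⊥) {K : Subgroup G}
    [K.Normal] (hK : Group.IsSolvable K) : K = ⊥ := by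
  by_contra hne
  obtain ⟨N, hN, hNK⟩ := HallSolvable.exists_minNormal_le hne
  haveI : Group.IsSolvable N :=
    Group.isSolvable_of_isSolvable_injective (Subgroup.inclusion_injective hNK)
  obtain ⟨p, hp, -, hNp⟩ := hN.exists_prime
  haveI := hN.normal
  exact hN.ne_bot (le_bot_iff.1 (hcore p hp ▸ HallCore.le_pCore hNp))

/-- A non-solvable group with solvable involution centralisers and trivial `p`-cores has a normal
non-abelian simple subgroup. -/
theorem exists_simple_normal' (hns : ¬ Group.IsSolvable G)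
    (hcore : ∀ p : ℕ, p.Prime → Cfsg.pCore p G = ⊥)
    (hC : ∀ t : G, orderOf t = 2 → Group.IsSolvable (centralizer ({t} : Set G))) :
    ∃ N : Subgroup G, N.Normal ∧ IsSimpleGroup N ∧ ∃ a b : N, a * b ≠ b * a := by
  haveI : Fact (Nat.Prime 2) := ⟨Nat.prime_two⟩
  haveI : Nontrivial G := by
    rw [← not_subsingleton_iff_nontrivial]
    intro hsub
    exact hns inferInstance
  obtain ⟨V, hVn, hVne, hVmin⟩ := HallSolvable.exists_minNormal (G := G)
  haveI := hVn
  have hVns : ¬ Group.IsSolvable V := fun hs => hVne (no_solvable_normal hcore hs)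
  haveI : Nontrivial V := (Subgroup.nontrivial_iff_ne_bot V).2 hVne
  have hVcore : ∀ p : ℕ, p.Prime → Cfsg.pCore p V = ⊥ := fun p hp => by
    haveI := Fact.mk hp
    haveI := HallCore.pCore_characteristic p V
    have hle : (Cfsg.pCore p V).map V.subtype ≤ Cfsg.pCore p G :=
      HallCore.le_pCore ((HallCore.isPGroup_pCore p _).map _)
    rwa [hcore p hp, le_bot_iff, Subgroup.map_eq_bot_iff_of_injective _ V.subtype_injective] at hle
  refine ⟨V, hVn, ?_, ?_⟩
  · obtain ⟨W, hWn, hWne, hWmin⟩ := HallSolvable.exists_minNormal (G := V)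
    haveI := hWn
    by_cases hWtop : W = ⊤
    · exact ⟨fun K hK => (hWmin K hK (hWtop ▸ le_top)).imp id (·.trans hWtop)⟩
    exfalso
    obtain ⟨g, hg⟩ : ∃ g : G, W.map (MulAut.conjNormal g).toMonoidHom ≠ W := by
      by_contra h
      push Not at h
      haveI : (W.map V.subtype).Normal := ⟨fun c hc g => by
        obtain ⟨w, hw, rfl⟩ := hc
        exact ⟨MulAut.conjNormal g w, (h g).le (mem_map_of_mem _ hw), MulAut.conjNormal_apply g w⟩⟩
      rcases hVmin _ inferInstance (map_subtype_le W) with e | e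
      · exact hWne ((Subgroup.map_eq_bot_iff_of_injective _ V.subtype_injective).mp e)
      · exact hWtop (Subgroup.map_injective V.subtype_injective
          (e.trans (V.range_subtype.symm.trans (MonoidHom.range_eq_map _))))
    set W' := W.map (MulAut.conjNormal g).toMonoidHom with hW'
    haveI hW'n : W'.Normal := hWn.map _ (MulAut.conjNormal g).surjective
    have hW'card : Nat.card W' = Nat.card W := by
      rw [hW', Subgroup.card_map_of_injective (f := (MulAut.conjNormal (H := V) g).toMonoidHom)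
        (MulAut.conjNormal (H := V) g).injective]
    have hW'ne : W' ≠ ⊥ := fun e => hWne (Subgroup.eq_bot_of_card_eq W (by
      rw [← hW'card, e, Subgroup.card_bot]))
    have hinf : W ⊓ W' = ⊥ := by
      refine (hWmin _ inferInstance inf_le_left).resolve_right fun e => hg ?_
      exact (Subgroup.eq_of_le_of_card_ge (e.ge.trans inf_le_right) hW'card.le).symm
    have hWns : ∀ K : Subgroup V, K.Normal → K ≠ ⊥ → ¬ Group.IsSolvable K := fun K hK hK1 hs =>
      hK1 (by haveI := hK; exact no_solvable_normal hVcore hs)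
    have h2 : 2 ∣ Nat.card W := by
      by_contra h2
      exact hWns W hWn hWne (Cfsg.Agent.S0205.result (Nat.odd_iff.2 (by omega)))
    obtain ⟨w, hw⟩ := exists_prime_orderOf_dvd_card' 2 h2
    refine hWns W' hW'n hW'ne ?_
    haveI := hC ((w : V) : G) (by rw [Subgroup.orderOf_coe, Subgroup.orderOf_coe, hw])
    let f : W' →* centralizer ({((w : V) : G)} : Set G) :=
      (V.subtype.comp W'.subtype).codRestrict _ fun c => mem_centralizer_singleton_iff.2
        (congrArg Subtype.val (Subgroup.commute_of_normal_of_disjoint W' W hW'n hWn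
          (disjoint_iff.mpr (by rw [inf_comm, hinf])) _ _ c.2 w.2).eq)
    exact Group.isSolvable_of_isSolvable_injective (f := f) fun a b e =>
      Subtype.ext (Subtype.ext (congrArg (fun z : centralizer ({((w : V) : G)} : Set G) => (z : G)) e))
  · by_contra hcomm
    push Not at hcomm
    exact hVns (Group.isSolvable_of_comm hcomm)

/-- A normal elementary `2`-subgroup with nilpotent action by an element of order four whose square
inverts an element of odd order: impossible. -/
theorem false_of_order_four {E : Subgroup G} [E.Normal] (h : ThreeOrd G)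
    (hE : ∀ e ∈ E, ∀ f ∈ E, e * f = f * e) (hE2 : ∀ e ∈ E, e * e = 1) {s x : G} {r : ℕ}
    (hs : s ^ 4 = 1) (hr : Odd r) (hxr : ∀ e ∈ E, x ^ r * e * (x ^ r)⁻¹ = e)
    (hfpf : ∀ e ∈ E, x * e * x⁻¹ = e → e = 1)
    (hinv : ∀ e ∈ E, s ^ 2 * (x * e * x⁻¹) * (s ^ 2)⁻¹ = x⁻¹ * (s ^ 2 * e * (s ^ 2)⁻¹) * x⁻¹⁻¹) :
    ∀ e ∈ E, s ^ 2 * e * (s ^ 2)⁻¹ = e := by
  classical
  letI : CommGroup E := { (inferInstance : Group E) with
    mul_comm := fun a b => Subtype.ext (hE a a.2 b b.2) }
  set φ : G →* MulAut E := MulAut.conjNormal with hφ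
  have hval : ∀ (g : G) (e : E), ((φ g e : E) : G) = g * e * g⁻¹ := fun g e =>
    MulAut.conjNormal_apply g e
  have hsq : ∀ e : E, e * e = 1 := fun e => Subtype.ext (hE2 e e.2)
  have hinvE : ∀ e : E, e⁻¹ = e := fun e => inv_eq_of_mul_eq_one_right (hsq e)
  set σ := φ s
  set ρ := φ x
  -- the norm of `s` vanishes
  have hnorm : ∀ e : E, e * σ e * (σ (σ e) * σ (σ (σ e))) = 1 := by
    intro e
    have h4 : ((e : G) * s) ^ 4 = 1 := by
      refine h.pow_four (k := 4) ?_
      have key : ((e : G) * s) ^ 4 = ((e * σ e * (σ (σ e) * σ (σ (σ e))) : E) : G) * s ^ 4 := by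
        simp only [Subgroup.coe_mul, σ, hval, pow_succ, pow_zero, one_mul]; group
      rw [show 2 ^ 4 = 4 * 4 by norm_num, pow_mul, key, hs, mul_one, ← Subgroup.coe_pow,
        show 4 = 2 * 2 by norm_num, pow_mul, pow_two (e * σ e * (σ (σ e) * σ (σ (σ e)))), hsq,
        one_pow, Subgroup.coe_one]
    have key : ((e : G) * s) ^ 4 = ((e * σ e * (σ (σ e) * σ (σ (σ e))) : E) : G) * s ^ 4 := by
      simp only [Subgroup.coe_mul, σ, hval, pow_succ, pow_zero, one_mul]; group
    rw [key, hs, mul_one] at h4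
    exact Subtype.ext h4
  set ζ := φ (s ^ 2) with hζdef
  have hζ : ∀ e, ζ e = σ (σ e) := fun e => by
    simp [ζ, σ, map_pow, pow_two, MulAut.mul_apply]
  have hrel : ∀ e, ζ (ρ e) = ρ⁻¹ (ζ e) := fun e => Subtype.ext (by
    have e1 : (ρ⁻¹ : MulAut E) = φ x⁻¹ := (map_inv φ x).symm
    rw [e1, hval, hval, hval, hval]
    exact hinv e e.2)
  -- elements fixed by `ζ` are fixed by `σ`
  have hfix : ∀ e : E, ζ e = e → σ e = e := by
    intro e he
    obtain ⟨m, hm⟩ := hr
    have hρr : ∀ e : E, (ρ ^ r) e = e := fun e => Subtype.ext (by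
      rw [show ρ ^ r = φ (x ^ r) from (map_pow φ x r).symm, hval]; exact hxr e e.2)
    have hsum : (∏ i ∈ Finset.range r, (ρ ^ i) e : E) = 1 := by
      refine Subtype.ext (hfpf _ (Subtype.mem _) ?_)
      rw [← hval]
      congr 1
      rw [map_prod]
      have hstep : ∀ i, φ x ((ρ ^ i) e) = (ρ ^ (i + 1)) e := fun i => by
        rw [pow_succ', MulAut.mul_apply]
      simp only [hstep]
      have h1 := Finset.prod_range_succ (fun i => (ρ ^ i) e) r
      rw [Finset.prod_range_succ', hρr] at h1
      simp only [pow_zero, MulAut.one_apply] at h1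
      exact mul_right_cancel h1
    set c : E := ∏ i ∈ Finset.range m, (ρ ^ (i + 1)) e with hc
    have hζpow : ∀ i, ζ ((ρ ^ i) e) = ((ρ ^ i)⁻¹) e := by
      intro i
      induction i with
      | zero => simpa using he
      | succ i ih =>
        rw [pow_succ', MulAut.mul_apply, hrel, ih, ← MulAut.mul_apply, ← mul_inv_rev]
        congr 2
        rw [← pow_succ', ← pow_succ]
    have hec : e = c * ζ c := by
      have h2 : (∏ i ∈ Finset.range r, (ρ ^ i) e : E) =
          e * (c * ∏ i ∈ Finset.range m, (ρ ^ (m + 1 + i)) e) := by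
        rw [show r = (m + 1) + m by omega, Finset.prod_range_add, Finset.prod_range_succ']
        simp only [pow_zero, MulAut.one_apply]
        rw [mul_comm _ e, mul_assoc]
      have h3 : (∏ i ∈ Finset.range m, (ρ ^ (m + 1 + i)) e : E) = ζ c := by
        rw [hc, map_prod, ← Finset.prod_range_reflect]
        refine Finset.prod_congr rfl fun i hi => ?_
        rw [Finset.mem_range] at hi
        rw [hζpow]
        refine (MulEquiv.injective (ρ ^ (i + 1))) ?_
        rw [← MulAut.mul_apply, ← MulAut.mul_apply, mul_inv_cancel, MulAut.one_apply, ← pow_add,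
          show i + 1 + (m + 1 + (m - 1 - i)) = r by omega, hρr]
      rw [hsum, h3] at h2
      have := eq_inv_of_mul_eq_one_left h2.symm
      rwa [hinvE] at this
    have h6 : σ (c * ζ c) * (c * ζ c) = 1 := by
      rw [map_mul]
      simp only [hζ]
      calc σ c * σ (σ (σ c)) * (c * σ (σ c)) = c * σ c * (σ (σ c) * σ (σ (σ c))) := by
            simp only [mul_comm, mul_left_comm]
        _ = 1 := hnorm c
    rw [← hec] at h6
    rw [eq_inv_of_mul_eq_one_left h6, hinvE]
  intro e he
  have hd : σ (σ ⟨e, he⟩) = ⟨e, he⟩ := by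
    set a : E := ⟨e, he⟩
    have hd1 : ζ (a * σ a) = a * σ a := by
      have := hnorm a
      rw [map_mul, hζ, hζ]
      rw [eq_inv_of_mul_eq_one_right this, hinvE]
    have hd2 := hfix _ hd1
    rw [map_mul, mul_comm] at hd2
    have h7 : σ (σ a) * σ a = σ a * a := by rw [hd2, mul_comm]
    rw [mul_comm (σ (σ a))] at h7
    exact mul_left_cancel h7
  have := congrArg Subtype.val hd
  rw [← hζ, hζdef, hval] at this
  exact this

end Cfsg.Agent.ThreeOrd27
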