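import Mathlib
import Cfsg.Agent.Lib.TwoQ27Basic

/-!
# A `2`-group with transitive normaliser centralises normal `q`-subgroups of a `2q` group
-/

set_option autoImplicit false
set_option linter.style.haveILetI false
set_option linter.unusedSectionVars false

namespace Cfsg.Agent.TwoQ27

universe u

variable {G : Type u} [Group G] [Finite G] {q : ℕ}

/-- An element of odd order moving a `2`-subgroup has a power of prime order doing so. -/
theorem TwoQ.exists_prime_moving (h : TwoQ G q) {Q : Subgroup G} (hQ : IsPGroup 2 Q) {g : G}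
    (hgN : g ∈ Subgroup.normalizer (Q : Set G)) (hgo : Odd (orderOf g))
    (hgC : g ∉ Subgroup.centralizer (Q : Set G)) :
    ∃ (x : G) (r : ℕ), r.Prime ∧ r ≠ 2 ∧ orderOf x = r ∧
      x ∈ Subgroup.normalizer (Q : Set G) ∧ x ∉ Subgroup.centralizer (Q : Set G) := by
  by_cases hqd : q ∣ orderOf g
  · refine ⟨g, q, h.prime, h.ne_two, ?_, hgN, hgC⟩
    exact (h.qdvd g hqd).resolve_right fun e => by
      rw [e] at hgo; exact Nat.not_odd_iff_even.2 (even_two_mul q) hgo
  obtain ⟨r, hr, hrd⟩ := Nat.exists_prime_and_dvd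
    (show orderOf g ≠ 1 from fun e => hgC (orderOf_eq_one_iff.1 e ▸ one_mem _))
  have hr2 : r ≠ 2 := fun e => by
    subst e
    exact Nat.not_odd_iff_even.2 (even_iff_two_dvd.2 hrd) hgo
  obtain ⟨u, hu, hu1⟩ : ∃ u ∈ Q, u ≠ 1 := by
    by_contra hcon
    push Not at hcon
    exact hgC (Subgroup.mem_centralizer_iff.2 fun u hu => by simp [hcon u hu])
  obtain ⟨d, hd⟩ := hrd
  have hd0 : d ≠ 0 := fun e => (orderOf_pos g).ne' (by rw [hd, e, mul_zero])
  have hxo : orderOf (g ^ d) = r := by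
    rw [orderOf_pow_of_dvd hd0 (hd ▸ dvd_mul_left _ _), hd,
      Nat.mul_div_cancel _ (Nat.pos_of_ne_zero hd0)]
  refine ⟨g ^ d, r, hr, hr2, hxo, pow_mem hgN d, fun hC => ?_⟩
  have hpow := h.pow_q_of_comm (h.sq_of_mem hQ hu) hu1 (hxo ▸ hr.odd_of_ne_two hr2)
    (Subgroup.mem_centralizer_iff.1 hC u hu)
  have hrq : r ∣ q := hxo ▸ orderOf_dvd_of_pow_eq_one hpow
  exact hqd ((Nat.prime_dvd_prime_iff_eq hr h.prime).1 hrq ▸ hd ▸ dvd_mul_right _ _)

private theorem centralizes_aux : ∀ (k : ℕ) {X : Type u} [Group X] [Finite X] {q : ℕ}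
    (_ : TwoQ X q) (W : Subgroup X) [W.Normal] (_ : IsPGroup q W) (_ : Nat.card W ≤ k)
    (S : Subgroup X) (_ : IsPGroup 2 S) (x : X) (r : ℕ) (_ : r.Prime) (_ : r ≠ 2)
    (_ : orderOf x = r) (_ : x ∈ Subgroup.normalizer (S : Set X))
    (_ : x ∉ Subgroup.centralizer (S : Set X))
    (_ : ∀ u ∈ S, ∀ v ∈ S, u ≠ 1 → v ≠ 1 →
      ∃ g ∈ Subgroup.normalizer (S : Set X), g * u * g⁻¹ = v),
    ∀ w ∈ W, ∀ s ∈ S, Commute s w := by
  intro k
  induction k with
  | zero =>
    intro X _ _ q _ W _ _ hk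
    exact absurd hk (by have := Nat.card_pos (α := W); omega)
  | succ k ih =>
    intro X _ _ q h W hWn hW hk S hS x r hr hr2 hxo hxN hxC htr w hw s hs
    haveI := Fact.mk h.prime
    by_cases hbot : W = ⊥
    · rw [hbot, Subgroup.mem_bot] at hw
      rw [hw]; exact Commute.one_right _
    haveI : Nontrivial W := (Subgroup.nontrivial_iff_ne_bot W).2 hbot
    set Z := (Subgroup.center W).map W.subtype with hZdef
    haveI : Z.Normal := ConjAct.normal_of_characteristic_of_normal
    haveI := hW.center_nontrivial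
    have hZW : Z ≤ W := Subgroup.map_subtype_le _
    have hZc : ∀ a ∈ Z, ∀ b ∈ Z, a * b = b * a := by
      rintro _ ⟨a, ha, rfl⟩ _ ⟨b, -, rfl⟩
      exact congrArg Subtype.val ((Subgroup.mem_center_iff.1 ha b).symm)
    have hZq : ∀ a ∈ Z, a ^ q = 1 := fun a ha => h.pow_q_of_mem hW (hZW ha)
    have hSZ : ∀ a ∈ S, a ∈ Z → a = 1 := fun a ha haZ =>
      eq_one_of_two_pow_of_q (h.sq_of_mem hS ha) (hZq a haZ) h.odd_q
    set φ : X →* MulAut Z := MulAut.conjNormal with hφ
    -- `S` centralises `Z`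
    have hSker : ∀ a ∈ S, φ a = 1 := by
      by_contra hcon
      push Not at hcon
      obtain ⟨a₀, ha₀, hφa₀⟩ := hcon
      have hinj : ∀ a ∈ S, φ a = 1 → a = 1 := by
        intro a ha hφa
        by_contra ha1
        obtain ⟨g, -, hg⟩ := htr a ha a₀ ha₀ ha1 (fun e => hφa₀ (by rw [e, map_one]))
        exact hφa₀ (by rw [← hg, map_mul, map_mul, hφa, mul_one, ← map_mul, mul_inv_cancel, map_one])
      have hconj : ∀ a ∈ S, x⁻¹ * a * x ∈ S := fun a ha => by
        simpa using (Subgroup.mem_normalizer_iff.1 (inv_mem hxN) a).1 ha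
      have hall := h.no_move hZc hZq (U := S.map φ) (g := x) ?_ hr hr2 ?_ ?_
      · refine hxC (Subgroup.mem_centralizer_iff.2 fun a ha => ?_)
        have h' := hall (φ a) ⟨a, ha, rfl⟩
        rw [← hφ, ← map_inv, ← map_mul, ← map_mul] at h'
        have h'' : x⁻¹ * a * x * a⁻¹ = 1 := hinj _ (S.mul_mem (hconj a ha) (S.inv_mem ha))
          (by rw [map_mul, h', ← map_mul, mul_inv_cancel, map_one])
        rw [mul_inv_eq_one, mul_assoc, inv_mul_eq_iff_eq_mul] at h''
        exact h''
      · rintro _ ⟨a, ha, rfl⟩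
        rw [← map_mul, h.sq_of_mem hS ha, map_one]
      · rw [← hφ, ← map_pow, ← hxo, pow_orderOf_eq_one, map_one]
      · rintro _ ⟨a, ha, rfl⟩
        exact ⟨x⁻¹ * a * x, hconj a ha, by rw [← hφ, map_mul, map_mul, map_inv]⟩
    have hSZcomm : ∀ a ∈ S, ∀ z ∈ Z, a * z * a⁻¹ = z := fun a ha z hz => by
      have h' := congrArg (fun e : MulAut Z => ((e ⟨z, hz⟩ : Z) : X)) (hSker a ha)
      simpa [hφ, MulAut.conjNormal_apply] using h'
    -- pass to `X/Z`
    let π := QuotientGroup.mk' Z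
    have hπ : Function.Surjective π := QuotientGroup.mk'_surjective Z
    haveI : (W.map π).Normal := Subgroup.Normal.map inferInstance π hπ
    have hcard : Nat.card (W.map π) ≤ k := by
      have hmul : Nat.card Z * Nat.card (W.map π) = Nat.card W := by
        rw [mul_comm]
        exact HallCore.card_map_mk'_mul Z W hZW
      have hZ2 : 2 ≤ Nat.card Z := by
        rw [hZdef, Subgroup.card_map_of_injective W.subtype_injective]
        exact Finite.one_lt_card
      have hpos : 0 < Nat.card (W.map π) := Nat.card_pos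
      nlinarith
    have hxπ : orderOf (π x) = r := by
      haveI := Fact.mk hr
      refine orderOf_eq_prime (by rw [← map_pow, ← hxo, pow_orderOf_eq_one, map_one]) fun e => ?_
      have hxZ : x ∈ Z := (QuotientGroup.eq_one_iff x).1 e
      refine hxC (Subgroup.mem_centralizer_iff.2 fun a ha => ?_)
      have := hSZcomm a ha x hxZ
      rwa [mul_inv_eq_iff_eq_mul] at this
    have hnormmap : ∀ g ∈ Subgroup.normalizer (S : Set X),
        π g ∈ Subgroup.normalizer ((S.map π : Subgroup (X ⧸ Z)) : Set (X ⧸ Z)) := fun g hg =>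
      Subgroup.le_normalizer_map π ⟨g, hg, rfl⟩
    have hIH := ih (h.of_surjective hπ) (W.map π) (hW.map π) hcard (S.map π) (hS.map π)
      (π x) r hr hr2 hxπ (hnormmap x hxN) ?_ ?_ (π w) (Subgroup.mem_map_of_mem π hw) (π s)
      (Subgroup.mem_map_of_mem π hs)
    · have hz : s * w * s⁻¹ * w⁻¹ ∈ Z := by
        rw [← QuotientGroup.eq_one_iff]
        show π (s * w * s⁻¹ * w⁻¹) = 1
        simp only [map_mul, map_inv, hIH.eq]
        group
      have hss : s * s = 1 := h.sq_of_mem hS hs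
      have hsi : s⁻¹ = s := inv_eq_of_mul_eq_one_right hss
      set z := s * w * s⁻¹ * w⁻¹ with hzdef
      have h1 : s * w * s⁻¹ = z * w := by rw [hzdef]; group
      have hz2 : z * z = 1 := by
        have h2 : s * (z * w) * s⁻¹ = w := by
          rw [← h1, hsi]
          calc s * (s * w * s) * s = (s * s) * w * (s * s) := by group
            _ = w := by rw [hss]; group
        have h3 : s * (z * w) * s⁻¹ = z * (z * w) := by
          calc s * (z * w) * s⁻¹ = (s * z * s⁻¹) * (s * w * s⁻¹) := by group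
            _ = z * (z * w) := by rw [hSZcomm s hs z hz, h1]
        have h4 := h2.symm.trans h3
        rw [← mul_assoc] at h4
        exact (mul_eq_right.1 h4.symm)
      have hz1 : z = 1 := eq_one_of_two_pow_of_q hz2 (hZq z hz) h.odd_q
      rw [hz1, one_mul, mul_inv_eq_iff_eq_mul] at h1
      exact h1
    · intro hC
      refine hxC (Subgroup.mem_centralizer_iff.2 fun a ha => ?_)
      have h' := Subgroup.mem_centralizer_iff.1 hC (π a) (Subgroup.mem_map_of_mem π ha)
      have hmem : a⁻¹ * (x * a * x⁻¹) ∈ S :=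
        S.mul_mem (S.inv_mem ha) ((Subgroup.mem_normalizer_iff.1 hxN a).1 ha)
      have hmemZ : a⁻¹ * (x * a * x⁻¹) ∈ Z := by
        rw [← QuotientGroup.eq_one_iff]
        show π _ = 1
        simp only [map_mul, map_inv, ← h']
        group
      have := hSZ _ hmem hmemZ
      rw [inv_mul_eq_one, eq_mul_inv_iff_mul_eq] at this
      exact this
    · rintro _ ⟨a, ha, rfl⟩ _ ⟨b, hb, rfl⟩ ha1 hb1
      obtain ⟨g, hg, hgab⟩ := htr a ha b hb (fun e => ha1 (by rw [e, map_one]))
        (fun e => hb1 (by rw [e, map_one]))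
      exact ⟨π g, hnormmap g hg, by rw [← hgab, map_mul, map_mul, map_inv]⟩
where
  eq_one_of_two_pow_of_q {X : Type u} [Group X] {a : X} {q : ℕ} (h2 : a * a = 1) (hq : a ^ q = 1)
      (hodd : Odd q) : a = 1 := by
    obtain ⟨m, rfl⟩ := hodd
    rwa [pow_succ, pow_mul, pow_two, h2, one_pow, one_mul] at hq

/-- If `N(S)` is transitive on `S#` and some element of odd order moves `S`, then `S` centralises every
normal `q`-subgroup. -/
theorem TwoQ.centralizes_of_transitive (h : TwoQ G q) {W : Subgroup G} [W.Normal]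
    (hW : IsPGroup q W) {S : Subgroup G} (hS : IsPGroup 2 S) {g : G}
    (hgN : g ∈ Subgroup.normalizer (S : Set G)) (hgo : Odd (orderOf g))
    (hgC : g ∉ Subgroup.centralizer (S : Set G))
    (htr : ∀ u ∈ S, ∀ v ∈ S, u ≠ 1 → v ≠ 1 →
      ∃ g ∈ Subgroup.normalizer (S : Set G), g * u * g⁻¹ = v) :
    ∀ w ∈ W, ∀ s ∈ S, Commute s w := by
  obtain ⟨x, r, hr, hr2, hxo, hxN, hxC⟩ := h.exists_prime_moving hS hgN hgo hgC
  exact centralizes_aux (Nat.card W) h W hW le_rfl S hS x r hr hr2 hxo hxN hxC htr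

end Cfsg.Agent.TwoQ27
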