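import Mathlib
import Cfsg.Agent.Lib.TwoQ27Local
import Cfsg.Agent.Lib.TwoQ27Trans
import Cfsg.Agent.S0508

/-!
# Simple `2q` groups with Sylow `2`-subgroups of order four

Maximal `S`-invariant `q`-subgroups either centralise `S`, or give the hypotheses of the
Brauer–Suzuki–Wall characterisation of `PSL₂` over a field of odd order.
-/

set_option autoImplicit false
set_option linter.style.haveILetI false
set_option linter.unusedSectionVars false

namespace Cfsg.Agent.TwoQ27

universe u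

open Cfsg (centralizerPPrimeCore)

variable {G : Type u} [Group G] [Finite G] {q : ℕ}

/-- In a solvable group an odd subgroup normalised by a Sylow `2`-subgroup lies in the core. -/
theorem le_core_of_sylow_invariant {X : Type u} [Group X] [Finite X] [Group.IsSolvable X]
    (P : Sylow 2 X) {R : Subgroup X} (hR : Odd (Nat.card R))
    (hPR : (P : Subgroup X) ≤ Subgroup.normalizer (R : Set X)) :
    R ≤ Cfsg.pPrimeCore 2 X := by
  haveI := Fact.mk Nat.prime_two
  haveI := HallCore.pPrimeCore_normal 2 X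
  let f := QuotientGroup.mk' (Cfsg.pPrimeCore 2 X)
  have hf : Function.Surjective f := QuotientGroup.mk'_surjective _
  let P' := P.mapSurjective hf
  haveI hVn : (Cfsg.pCore 2 (X ⧸ Cfsg.pPrimeCore 2 X)).Normal := HallCore.pCore_normal 2 _
  have hVP : Cfsg.pCore 2 (X ⧸ Cfsg.pPrimeCore 2 X) ≤ (P : Subgroup X).map f := by
    obtain ⟨T, hT⟩ := (HallCore.isPGroup_pCore 2 (X ⧸ Cfsg.pPrimeCore 2 X)).exists_le_sylow
    obtain ⟨g, hg⟩ := MulAction.exists_smul_eq (X ⧸ Cfsg.pPrimeCore 2 X) T P'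
    intro v hv
    show v ∈ (P' : Subgroup (X ⧸ Cfsg.pPrimeCore 2 X))
    rw [← hg]
    refine ⟨g⁻¹ * v * g, hT ?_, ?_⟩
    · simpa using hVn.conj_mem v hv g⁻¹
    · simp [mul_assoc]
  have hsmall : ∀ y ∈ R.map f, y ∈ Cfsg.pCore 2 (X ⧸ Cfsg.pPrimeCore 2 X) → y = 1 := by
    intro y hyR hyV
    obtain ⟨k, hk⟩ := IsPGroup.iff_card.1
      (HallCore.isPGroup_pCore 2 (X ⧸ Cfsg.pPrimeCore 2 X))
    have hodd : Odd (Nat.card (R.map f)) := hR.of_dvd_nat (Subgroup.card_map_dvd _ _)
    have h1 := Subgroup.orderOf_dvd_natCard _ hyR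
    have h2 := Subgroup.orderOf_dvd_natCard _ hyV
    rw [hk] at h2
    exact orderOf_eq_one_iff.1 (Nat.eq_one_of_dvd_coprimes
      ((Nat.Coprime.pow_right k hodd.coprime_two_right)) h1 h2)
  intro r hr
  refine (QuotientGroup.eq_one_iff r).1 (hsmall (f r) ⟨r, hr, rfl⟩ ?_)
  refine HallSolvable.centralizer_pCore_le
    (HallSolvable.isPSolvable_quotient (HallSolvable.isPSolvable_of_solvable 2) _)
    (HallCore.pPrimeCore_quotient_self 2 X) (Subgroup.mem_centralizer_iff.2 fun v hv => ?_)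
  obtain ⟨p, hp, rfl⟩ := hVP hv
  have hc1 : f r * f p * (f r)⁻¹ * (f p)⁻¹ ∈ R.map f := by
    refine ⟨r * (p * r⁻¹ * p⁻¹), R.mul_mem hr
      ((Subgroup.mem_normalizer_iff.1 (hPR hp) r⁻¹).1 (R.inv_mem hr)), ?_⟩
    simp only [map_mul, map_inv, mul_assoc]
  have hc2 : f r * f p * (f r)⁻¹ * (f p)⁻¹ ∈ Cfsg.pCore 2 (X ⧸ Cfsg.pPrimeCore 2 X) :=
    mul_mem (hVn.conj_mem _ hv _) (inv_mem hv)
  exact (mul_inv_eq_iff_eq_mul.1 (mul_inv_eq_one.1 (hsmall _ hc1 hc2))).symm

/-- The same for subgroups. -/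
theorem le_core_of_invariant {X R : Subgroup G} (hX : Group.IsSolvable X) (S : Sylow 2 G)
    (hS : (S : Subgroup G) ≤ X) (hRX : R ≤ X) (hR : Odd (Nat.card R))
    (hSR : (S : Subgroup G) ≤ Subgroup.normalizer (R : Set G)) :
    R ≤ (Cfsg.pPrimeCore 2 X).map X.subtype := by
  haveI := hX
  have hle := le_core_of_sylow_invariant (S.subtype hS) (R := R.subgroupOf X)
    (by rwa [Nat.card_congr (Subgroup.subgroupOfEquivOfLe hRX).toEquiv]) (fun s hs => by
      refine Subgroup.mem_normalizer_iff.2 fun y => ?_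
      simp only [Subgroup.mem_subgroupOf]
      exact Subgroup.mem_normalizer_iff.1 (hSR hs) y)
  exact fun r hr => ⟨⟨r, hRX hr⟩, hle hr, rfl⟩

omit [Finite G] in
/-- The core of a subgroup is normalised by it. -/
theorem le_normalizer_core (X : Subgroup G) :
    X ≤ Subgroup.normalizer ((Cfsg.pPrimeCore 2 X).map X.subtype : Set G) := fun x hx =>
  Subgroup.le_normalizer_map X.subtype ⟨⟨x, hx⟩, by
    rw [Subgroup.normalizer_eq_top_iff.2 (HallCore.pPrimeCore_normal 2 X)]; trivial, rfl⟩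

theorem odd_card_core (X : Subgroup G) :
    Odd (Nat.card ((Cfsg.pPrimeCore 2 X).map X.subtype)) := by
  rw [Subgroup.card_map_of_injective X.subtype_injective]
  exact Nat.coprime_two_right.1 (HallCore.coprime_card_pPrimeCore 2 X)

theorem odd_card_centralizerCore (a : G) : Odd (Nat.card (centralizerPPrimeCore 2 a)) :=
  odd_card_core _

theorem odd_pow (hodd : Odd q) {R : Subgroup G} [Fact q.Prime] (hR : IsPGroup q R) :
    Odd (Nat.card R) := by
  obtain ⟨k, hk⟩ := IsPGroup.iff_card.1 hR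
  rw [hk]; exact hodd.pow

/-- Conjugation carries `θ(a)` to `θ(gag⁻¹)`. -/
theorem conj_mem_centralizerCore {a g z : G} (hz : z ∈ centralizerPPrimeCore 2 a) :
    g * z * g⁻¹ ∈ centralizerPPrimeCore 2 (g * a * g⁻¹) := by
  haveI := Fact.mk Nat.prime_two
  refine SignalizerBasic.le_centralizerPPrimeCore
    (M := (centralizerPPrimeCore 2 a).map (MulAut.conj g).toMonoidHom) ?_ ?_ ?_ ⟨z, hz, rfl⟩
  · rintro _ ⟨y, hy, rfl⟩
    have hy' := Subgroup.mem_centralizer_singleton_iff.1 (SignalizerBasic.centralizerPPrimeCore_le 2 a hy)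
    rw [Subgroup.mem_centralizer_singleton_iff]
    show g * y * g⁻¹ * (g * a * g⁻¹) = g * a * g⁻¹ * (g * y * g⁻¹)
    calc g * y * g⁻¹ * (g * a * g⁻¹) = g * (y * a) * g⁻¹ := by group
      _ = g * (a * y) * g⁻¹ := by rw [hy']
      _ = _ := by group
  · refine SignalizerCoprime.le_normalizer_of_forall fun c hc y hy => ?_
    obtain ⟨w, hw, rfl⟩ := hy
    have hc' : g⁻¹ * c * g ∈ Subgroup.centralizer ({a} : Set G) := by
      rw [Subgroup.mem_centralizer_singleton_iff] at hc ⊢
      calc g⁻¹ * c * g * a = g⁻¹ * (c * (g * a * g⁻¹)) * g := by group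
        _ = g⁻¹ * ((g * a * g⁻¹) * c) * g := by rw [hc]
        _ = _ := by group
    refine ⟨g⁻¹ * c * g * w * (g⁻¹ * c * g)⁻¹, SignalizerCoprime.mem_normalizer_conj
      (SignalizerBasic.centralizer_le_normalizer_centralizerPPrimeCore 2 a hc') hw, ?_⟩
    show g * (g⁻¹ * c * g * w * (g⁻¹ * c * g)⁻¹) * g⁻¹ = c * (g * w * g⁻¹) * c⁻¹
    group
  · rw [Subgroup.card_map_of_injective (MulAut.conj g).injective]
    exact SignalizerBasic.not_dvd_card_centralizerPPrimeCore 2 a

/-- An involution normalising a Sylow `2`-subgroup lies in it. -/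
theorem involution_mem_sylow (S : Sylow 2 G) {x : G} (hx : x * x = 1)
    (hN : x ∈ Subgroup.normalizer ((S : Subgroup G) : Set G)) : x ∈ (S : Subgroup G) := by
  haveI := Fact.mk Nat.prime_two
  have hp : IsPGroup 2 (Subgroup.zpowers x) :=
    SignalizerCoprime.isPGroup_zpowers (by rw [pow_two, hx])
  have h2 := hp.to_sup_of_normal_right' S.isPGroup' (Subgroup.zpowers_le.2 hN)
  rw [← S.is_maximal' h2 le_sup_right]
  exact Subgroup.mem_sup_left (Subgroup.mem_zpowers x)

/-- In a non-abelian simple group some element of odd order moves a Sylow `2`-subgroup. -/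
theorem TwoQ.exists_odd_moving [IsSimpleGroup G] (h : TwoQ G q)
    (hna : ∃ a b : G, a * b ≠ b * a) (S : Sylow 2 G) :
    ∃ g ∈ Subgroup.normalizer ((S : Subgroup G) : Set G), Odd (orderOf g) ∧
      g ∉ Subgroup.centralizer ((S : Subgroup G) : Set G) := by
  haveI := Fact.mk Nat.prime_two
  obtain ⟨g, hgN, hgC⟩ : ∃ g ∈ Subgroup.normalizer ((S : Subgroup G) : Set G),
      g ∉ Subgroup.centralizer ((S : Subgroup G) : Set G) := by
    by_contra hcon
    push Not at hcon
    exact not_isSolvable_of_simple hna (isSolvable_of_normal_two_complement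
      ⟨S, _, MonoidHom.normal_ker _, MonoidHom.ker_transferSylow_isComplement' S hcon⟩)
  by_cases h2 : 2 ∣ orderOf g
  · refine ⟨g ^ (q + 1), pow_mem hgN _, ?_, fun hC => hgC ?_⟩
    · have hpow : (g ^ (q + 1)) ^ q = 1 := by
        obtain ⟨m, hm⟩ := h.odd_q
        rw [← pow_mul, show (q + 1) * q = (2 * q) * (m + 1) by rw [hm]; ring, pow_mul,
          h.pow_two_q_of_even h2, one_pow]
      exact h.odd_q.of_dvd_nat (orderOf_dvd_of_pow_eq_one hpow)
    · have hsq : (g ^ q) * (g ^ q) = 1 := by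
        rw [← pow_add, ← two_mul, h.pow_two_q_of_even h2]
      have hmem : g ^ q ∈ (S : Subgroup G) :=
        involution_mem_sylow S hsq (pow_mem hgN _)
      have hmemC : g ^ q ∈ Subgroup.centralizer ((S : Subgroup G) : Set G) :=
        Subgroup.mem_centralizer_iff.2 fun s hs => h.comm_of_mem S.isPGroup' hs hmem
      have heq : g = (g ^ q)⁻¹ * g ^ (q + 1) := by rw [pow_succ]; group
      rw [heq]
      exact mul_mem (inv_mem hmemC) hC
  · exact ⟨g, hgN, Nat.odd_iff.2 (by omega), hgC⟩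

omit [Finite G] in
theorem exists_ne_one {H : Subgroup G} (hH : H ≠ ⊥) : ∃ y ∈ H, y ≠ 1 := by
  by_contra hcon
  push Not at hcon
  exact hH ((Subgroup.eq_bot_iff_forall H).2 hcon)

/-- Every involution is conjugate to an element of a given Sylow `2`-subgroup. -/
theorem exists_conj_mem_sylow (S : Sylow 2 G) {t : G} (ht : t * t = 1) :
    ∃ g : G, g * t * g⁻¹ ∈ (S : Subgroup G) := by
  haveI := Fact.mk Nat.prime_two
  obtain ⟨T, hT⟩ := (SignalizerCoprime.isPGroup_zpowers (by rw [pow_two, ht]) :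
    IsPGroup 2 (Subgroup.zpowers t)).exists_le_sylow
  obtain ⟨g, hg⟩ := MulAction.exists_smul_eq G T S
  refine ⟨g, ?_⟩
  rw [← hg]
  exact ⟨t, hT (Subgroup.mem_zpowers t), rfl⟩

/-- Either all `θ(a)` centralise `S`, or `G` is `PSL₂` over a field of odd order. -/
theorem TwoQ.small_rank [IsSimpleGroup G] (h : TwoQ G q) (hna : ∃ a b : G, a * b ≠ b * a)
    (h2q : ∃ g : G, orderOf g = 2 * q) (S : Sylow 2 G) (h4 : Nat.card S = 4) :
    ((∀ a ∈ (S : Subgroup G), a ≠ 1 →
        centralizerPPrimeCore 2 a ≤ Subgroup.centralizer ((S : Subgroup G) : Set G)) ∧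
      ∃ a ∈ (S : Subgroup G), a ≠ 1 ∧ centralizerPPrimeCore 2 a ≠ ⊥) ∨
    ((∀ t ∈ (S : Subgroup G), t ≠ 1 → centralizerPPrimeCore 2 t ≠ ⊥ ∧
        (∀ b ∈ (S : Subgroup G), b ≠ 1 → b ≠ t → ∀ y ∈ centralizerPPrimeCore 2 t,
          y ∈ Subgroup.centralizer ({b} : Set G) → y = 1) ∧
        ∀ Y : Subgroup G, Y ≤ centralizerPPrimeCore 2 t → Y ≠ ⊥ →
          Subgroup.normalizer (Y : Set G) ≤ Subgroup.centralizer ({t} : Set G)) ∧
      ∃ (F : Type) (_ : Field F) (_ : Fintype F), Odd (Fintype.card F) ∧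
        Nonempty (G ≃* Matrix.ProjectiveSpecialLinearGroup (Fin 2) F)) := by
  classical
  haveI := Fact.mk Nat.prime_two
  haveI := Fact.mk h.prime
  have hsq : ∀ a ∈ (S : Subgroup G), a * a = 1 := fun a ha => h.sq_of_mem S.isPGroup' ha
  have hcomm : ∀ a ∈ (S : Subgroup G), ∀ b ∈ (S : Subgroup G), a * b = b * a :=
    fun a ha b hb => h.comm_of_mem S.isPGroup' ha hb
  have hSC : ∀ a ∈ (S : Subgroup G), (S : Subgroup G) ≤ Subgroup.centralizer ({a} : Set G) :=
    fun a ha b hb => Subgroup.mem_centralizer_singleton_iff.2 (hcomm b hb a ha)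
  obtain ⟨g, hgN, hgo, hgC⟩ := h.exists_odd_moving hna S
  have hgS : ∀ a ∈ (S : Subgroup G), g * a * g⁻¹ ∈ (S : Subgroup G) := fun a ha =>
    (Subgroup.mem_normalizer_iff.1 hgN a).1 ha
  have hsix : ∀ a b c : G, a ∈ (S : Subgroup G) → b ∈ (S : Subgroup G) → c ∈ (S : Subgroup G) →
      a ≠ 1 → b ≠ 1 → c ≠ 1 → a ≠ b → a ≠ c → b ≠ c → ∀ d ∈ (S : Subgroup G), d ≠ 1 →
      d = a ∨ d = b ∨ d = c := by
    intro a b c ha hb hc ha1 hb1 hc1 hab hac hbc d hd hd1
    haveI := Fintype.ofFinite (S : Subgroup G)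
    by_contra hcon
    push Not at hcon
    have hcard : ({1, ⟨a, ha⟩, ⟨b, hb⟩, ⟨c, hc⟩, ⟨d, hd⟩} : Finset (S : Subgroup G)).card = 5 := by
      simp [Subtype.ext_iff, ha1.symm, hb1.symm, hc1.symm, hd1.symm, hab, hac, hbc,
        hcon.1.symm, hcon.2.1.symm, hcon.2.2.symm]
    have hle := Finset.card_le_univ
      ({1, ⟨a, ha⟩, ⟨b, hb⟩, ⟨c, hc⟩, ⟨d, hd⟩} : Finset (S : Subgroup G))
    rw [hcard, ← Nat.card_eq_fintype_card] at hle
    omega
  -- `g` has no fixed point on `S#`
  have hgpow : ∀ a : G, g * g * a * (g * g)⁻¹ = a → g * a * g⁻¹ = a := by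
    intro a ha
    obtain ⟨m, hm⟩ := hgo
    have hc : Commute (g * g) a := mul_inv_eq_iff_eq_mul.1 ha
    have h1 : (g * g) ^ (m + 1) = g := by
      rw [← pow_two, ← pow_mul, show 2 * (m + 1) = orderOf g + 1 by omega, pow_succ,
        pow_orderOf_eq_one, one_mul]
    have h2 := hc.pow_left (m + 1)
    rw [h1] at h2
    rw [h2.eq, mul_inv_cancel_right]
  have hfpf : ∀ a ∈ (S : Subgroup G), a ≠ 1 → g * a * g⁻¹ ≠ a := by
    intro a ha ha1 hfix
    refine hgC (Subgroup.mem_centralizer_iff.2 fun b hb => ?_)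
    suffices hb' : g * b * g⁻¹ = b from ((mul_inv_eq_iff_eq_mul.1 hb')).symm
    by_contra hne
    have hb1 : b ≠ 1 := fun e => hne (by rw [e]; group)
    have hab : a ≠ b := fun e => hne (e ▸ hfix)
    have hab1 : a * b ≠ 1 := fun e => hab (by
      rw [mul_eq_one_iff_eq_inv] at e
      rwa [inv_eq_of_mul_eq_one_right (hsq b hb)] at e)
    have hgb : g * b * g⁻¹ = a * b := by
      rcases hsix a b (a * b) ha hb (mul_mem ha hb) ha1 hb1 hab1 hab
        (fun e => hb1 (mul_eq_left.1 e.symm)) (fun e => ha1 (mul_eq_right.1 e.symm))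
        (g * b * g⁻¹) (hgS b hb) (fun e => hb1 (by rwa [conj_eq_one_iff] at e)) with e | e | e
      · exact absurd (mul_left_cancel (mul_right_cancel (e.trans hfix.symm))) (Ne.symm hab)
      · exact absurd e hne
      · exact e
    refine hne (hgpow b ?_)
    calc g * g * b * (g * g)⁻¹ = g * (g * b * g⁻¹) * g⁻¹ := by group
      _ = g * (a * b) * g⁻¹ := by rw [hgb]
      _ = (g * a * g⁻¹) * (g * b * g⁻¹) := by group
      _ = a * (a * b) := by rw [hfix, hgb]
      _ = b := by rw [← mul_assoc, hsq a ha, one_mul]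
  have horbit : ∀ a ∈ (S : Subgroup G), a ≠ 1 → ∀ b ∈ (S : Subgroup G), b ≠ 1 →
      b = a ∨ b = g * a * g⁻¹ ∨ b = g * (g * a * g⁻¹) * g⁻¹ := by
    intro a ha ha1 b hb hb1
    have h1 : g * a * g⁻¹ ≠ 1 := fun e => ha1 (by rwa [conj_eq_one_iff] at e)
    have h2 : g * (g * a * g⁻¹) * g⁻¹ ≠ 1 := fun e => h1 (by rwa [conj_eq_one_iff] at e)
    refine hsix a _ _ ha (hgS a ha) (hgS _ (hgS a ha)) ha1 h1 h2 (hfpf a ha ha1).symm
      (fun e => hfpf a ha ha1 (hgpow a ?_)) (hfpf _ (hgS a ha) h1).symm b hb hb1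
    calc g * g * a * (g * g)⁻¹ = g * (g * a * g⁻¹) * g⁻¹ := by group
      _ = a := e.symm
  -- an element of `N(S)` fixing a point of `S#` centralises `S`
  have hfix_all : ∀ a ∈ (S : Subgroup G), a ≠ 1 → ∀ n ∈ Subgroup.normalizer ((S : Subgroup G) : Set G),
      Odd (orderOf n) → n * a * n⁻¹ = a → ∀ b ∈ (S : Subgroup G), n * b * n⁻¹ = b := by
    intro a ha ha1 n hn hno hna' b hb
    by_contra hne
    have hb1 : b ≠ 1 := fun e => hne (by rw [e]; group)
    have hab : a ≠ b := fun e => hne (e ▸ hna')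
    have hab1 : a * b ≠ 1 := fun e => hab (by
      rw [mul_eq_one_iff_eq_inv] at e
      rwa [inv_eq_of_mul_eq_one_right (hsq b hb)] at e)
    have hnb : n * b * n⁻¹ = a * b := by
      rcases hsix a b (a * b) ha hb (mul_mem ha hb) ha1 hb1 hab1 hab
        (fun e => hb1 (mul_eq_left.1 e.symm)) (fun e => ha1 (mul_eq_right.1 e.symm))
        (n * b * n⁻¹) ((Subgroup.mem_normalizer_iff.1 hn b).1 hb)
        (fun e => hb1 (by rwa [conj_eq_one_iff] at e)) with e | e | e
      · exact absurd (mul_left_cancel (mul_right_cancel (e.trans hna'.symm))) (Ne.symm hab)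
      · exact absurd e hne
      · exact e
    obtain ⟨m, hm⟩ := hno
    have h2 : (n * n) * b * (n * n)⁻¹ = b := by
      calc n * n * b * (n * n)⁻¹ = n * (n * b * n⁻¹) * n⁻¹ := by group
        _ = n * (a * b) * n⁻¹ := by rw [hnb]
        _ = (n * a * n⁻¹) * (n * b * n⁻¹) := by group
        _ = a * (a * b) := by rw [hna', hnb]
        _ = b := by rw [← mul_assoc, hsq a ha, one_mul]
    have hc : Commute (n * n) b := mul_inv_eq_iff_eq_mul.1 h2
    have h1 : (n * n) ^ (m + 1) = n := by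
      rw [← pow_two, ← pow_mul, show 2 * (m + 1) = orderOf n + 1 by omega, pow_succ,
        pow_orderOf_eq_one, one_mul]
    have h3 := hc.pow_left (m + 1)
    rw [h1] at h3
    exact hne (by rw [h3.eq, mul_inv_cancel_right])
  -- facts on `θ`
  have hθle : ∀ a : G, centralizerPPrimeCore 2 a ≤ Subgroup.centralizer ({a} : Set G) :=
    SignalizerBasic.centralizerPPrimeCore_le 2
  have hθinv : ∀ a ∈ (S : Subgroup G),
      (S : Subgroup G) ≤ Subgroup.normalizer (centralizerPPrimeCore 2 a : Set G) := fun a ha =>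
    (hSC a ha).trans (SignalizerBasic.centralizer_le_normalizer_centralizerPPrimeCore 2 a)
  have hθq : ∀ a ∈ (S : Subgroup G), IsPGroup q (centralizerPPrimeCore 2 a) := fun a ha =>
    h.isPGroup_of_invariant S.isPGroup' h4.ge (hθinv a ha) (odd_card_centralizerCore a)
  have hinC : ∀ a ∈ (S : Subgroup G), a ≠ 1 → ∀ R : Subgroup G, Odd (Nat.card R) →
      R ≤ Subgroup.centralizer ({a} : Set G) → (S : Subgroup G) ≤ Subgroup.normalizer (R : Set G) →
      R ≤ centralizerPPrimeCore 2 a := fun a ha ha1 R hR hRC hSR =>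
    le_core_of_invariant (h.isSolvable_centralizer ha1 (Or.inl (hsq a ha))) S (hSC a ha) hRC hR hSR
  -- `C(a) = θ(a) S`
  have hCa : ∀ a ∈ (S : Subgroup G), a ≠ 1 → ∀ x ∈ Subgroup.centralizer ({a} : Set G),
      ∃ o ∈ centralizerPPrimeCore 2 a, ∃ s ∈ (S : Subgroup G), x = o * s := by
    intro a ha ha1 x hx
    obtain ⟨o, ho, n, hnC, hnN, rfl⟩ := h.exists_mul_normalizer_subgroup
      (h.isSolvable_centralizer ha1 (Or.inl (hsq a ha))) S (hSC a ha) hx
    have hn2 : n ^ (2 * q) = 1 := h.pow_two_q_of_comm ha1 (Or.inl (hsq a ha))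
      (Subgroup.mem_centralizer_iff.1 hnC a rfl)
    have hns : n ^ q ∈ (S : Subgroup G) := involution_mem_sylow S
      (by rw [← pow_add, ← two_mul, hn2]) (pow_mem hnN q)
    have hno : (n ^ (q + 1)) ^ q = 1 := by
      obtain ⟨m, hm⟩ := h.odd_q
      rw [← pow_mul, show (q + 1) * q = (2 * q) * (m + 1) by rw [hm]; ring, pow_mul, hn2, one_pow]
    have hnodd : Odd (orderOf (n ^ (q + 1))) := h.odd_q.of_dvd_nat (orderOf_dvd_of_pow_eq_one hno)
    have hall := hfix_all a ha ha1 (n ^ (q + 1)) (pow_mem hnN _) hnodd (by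
      have := (show Commute a n from Subgroup.mem_centralizer_iff.1 hnC a rfl).pow_right (q + 1)
      rw [this.symm.eq, mul_inv_cancel_right])
    have hmem : n ^ (q + 1) ∈ centralizerPPrimeCore 2 a := by
      refine hinC a ha ha1 (Subgroup.zpowers (n ^ (q + 1)))
        (by rw [Nat.card_zpowers]; exact hnodd) (Subgroup.zpowers_le.2 (pow_mem hnC _)) ?_
        (Subgroup.mem_zpowers _)
      intro b hb
      apply Subgroup.centralizer_le_normalizer
      refine Subgroup.mem_centralizer_iff.2 fun y hy => ?_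
      obtain ⟨k, rfl⟩ := Subgroup.mem_zpowers_iff.1 hy
      exact ((show Commute (n ^ (q + 1)) b from mul_inv_eq_iff_eq_mul.1 (hall b hb)).zpow_left k).eq
    refine ⟨o * n ^ (q + 1), mul_mem ho hmem, (n ^ q)⁻¹, inv_mem hns, ?_⟩
    rw [pow_succ']; group
  -- all `θ(a)` are non-trivial
  have hne : ∀ a ∈ (S : Subgroup G), a ≠ 1 → centralizerPPrimeCore 2 a ≠ ⊥ := by
    intro a ha ha1 hbot
    obtain ⟨y, hy⟩ := h2q
    have hy1 : y ^ q * y ^ q = 1 := by
      rw [← pow_add, ← two_mul, ← hy, pow_orderOf_eq_one]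
    have hyq : y ^ q ≠ 1 := fun e => by
      have h' := Nat.le_of_dvd h.prime.pos (hy ▸ orderOf_dvd_of_pow_eq_one e)
      have := h.prime.pos
      omega
    obtain ⟨c, hc⟩ := exists_conj_mem_sylow S hy1
    have hc1 : c * y ^ q * c⁻¹ ≠ 1 := fun e => hyq (by rwa [conj_eq_one_iff] at e)
    obtain ⟨d, hd⟩ : ∃ d : G, d * (c * y ^ q * c⁻¹) * d⁻¹ = a := by
      rcases horbit _ hc hc1 a ha ha1 with e | e | e
      · exact ⟨1, by rw [e]; group⟩
      · exact ⟨g, e.symm⟩
      · exact ⟨g * g, by rw [e]; group⟩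
    have hz : d * c * y * (d * c)⁻¹ ∈ Subgroup.centralizer ({a} : Set G) := by
      rw [Subgroup.mem_centralizer_singleton_iff, ← hd]
      have hyy : y * y ^ q = y ^ q * y := (Commute.self_pow y q).eq
      calc d * c * y * (d * c)⁻¹ * (d * (c * y ^ q * c⁻¹) * d⁻¹)
          = d * c * (y * y ^ q) * (d * c)⁻¹ := by group
        _ = d * c * (y ^ q * y) * (d * c)⁻¹ := by rw [hyy]
        _ = _ := by group
    obtain ⟨o, ho, s, hs, hos⟩ := hCa a ha ha1 _ hz
    rw [hbot, Subgroup.mem_bot] at ho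
    rw [ho, one_mul] at hos
    have h2 : (d * c * y * (d * c)⁻¹) ^ 2 = 1 := by rw [hos, pow_two, hsq s hs]
    rw [conj_pow, conj_eq_one_iff] at h2
    have h' := Nat.le_of_dvd two_pos (hy ▸ orderOf_dvd_of_pow_eq_one h2)
    have := h.prime.two_le
    omega
  -- maximal invariant `q`-subgroups
  set I : Set (Subgroup G) :=
    {R | IsPGroup q R ∧ (S : Subgroup G) ≤ Subgroup.normalizer (R : Set G)} with hI
  have hIle : ∀ R ∈ I, ∃ W, R ≤ W ∧ Maximal (· ∈ I) W := fun R hR =>
    (Set.toFinite I).exists_le_maximal hR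
  have huniq : ∀ W₁ W₂ : Subgroup G, Maximal (· ∈ I) W₁ → Maximal (· ∈ I) W₂ →
      W₁ ⊓ W₂ ≠ ⊥ → W₁ = W₂ := by
    by_contra hcon
    push Not at hcon
    set T : Set (Subgroup G × Subgroup G) := {p | Maximal (· ∈ I) p.1 ∧ Maximal (· ∈ I) p.2 ∧
      p.1 ⊓ p.2 ≠ ⊥ ∧ p.1 ≠ p.2} with hT
    obtain ⟨W₁, W₂, h1, h2, h3, h4'⟩ := hcon
    obtain ⟨⟨A, B⟩, ⟨hA, hB, hD, hAB⟩, hmax⟩ := Set.exists_max_image T
      (fun p => Nat.card (p.1 ⊓ p.2 : Subgroup G)) (Set.toFinite T) ⟨(W₁, W₂), h1, h2, h3, h4'⟩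
    set D := A ⊓ B with hDdef
    have hSD : (S : Subgroup G) ≤ Subgroup.normalizer (D : Set G) :=
      SignalizerCoprime.le_normalizer_inf hA.prop.2 hB.prop.2
    have hXs := h.isSolvable_normalizer hD
      (odd_pow h.odd_q (hA.prop.1.to_le inf_le_left))
    have hO := h.isPGroup_of_invariant S.isPGroup' h4.ge
      (hSD.trans (le_normalizer_core (Subgroup.normalizer (D : Set G))))
      (odd_card_core (Subgroup.normalizer (D : Set G)))
    obtain ⟨C, hOC, hC⟩ := hIle _ ⟨hO, hSD.trans (le_normalizer_core _)⟩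
    have hstep : ∀ W, Maximal (· ∈ I) W → D ≤ W → D ≠ W → C = W := by
      intro W hW hDW hne'
      by_contra hCW
      have hmem : W ⊓ Subgroup.normalizer (D : Set G) ≤ C :=
        le_trans (le_core_of_invariant hXs S hSD inf_le_right
          (odd_pow h.odd_q (hW.prop.1.to_le inf_le_left))
          (SignalizerCoprime.le_normalizer_inf hW.prop.2 (hSD.trans Subgroup.le_normalizer))) hOC
      have hlt : D < W ⊓ Subgroup.normalizer (D : Set G) := by
        refine lt_of_le_of_ne (le_inf hDW Subgroup.le_normalizer) fun heq => ?_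
        haveI := hW.prop.1.isNilpotent
        have hnc := Group.normalizerCondition_of_isNilpotent (G := W) (D.subgroupOf W)
          (lt_of_le_of_ne le_top fun e => hne' (le_antisymm hDW (Subgroup.subgroupOf_eq_top.1 e)))
        obtain ⟨w, hw, hw'⟩ := SetLike.exists_of_lt hnc
        refine hw' ?_
        rw [Subgroup.mem_subgroupOf, heq]
        refine ⟨w.2, Subgroup.mem_normalizer_iff.2 fun z => ?_⟩
        have hw2 := Subgroup.mem_normalizer_iff.1 hw
        constructor
        · intro hz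
          exact (hw2 ⟨z, hDW hz⟩).1 hz
        · intro hz
          have hzW : z ∈ W := by
            have h' := W.mul_mem (W.mul_mem (W.inv_mem w.2) (hDW hz)) w.2
            have e' : (w : G)⁻¹ * ((w : G) * z * (w : G)⁻¹) * w = z := by group
            rwa [e'] at h'
          exact (hw2 ⟨z, hzW⟩).2 hz
      have hsub : W ⊓ Subgroup.normalizer (D : Set G) ≤ C ⊓ W := le_inf hmem inf_le_left
      have hbig : Nat.card D < Nat.card (C ⊓ W : Subgroup G) :=
        lt_of_lt_of_le (lt_of_le_of_ne (Subgroup.card_le_of_le hlt.le)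
          (fun e => hlt.ne (Subgroup.eq_of_le_of_card_ge hlt.le e.ge))) (Subgroup.card_le_of_le hsub)
      have hne2 : C ⊓ W ≠ ⊥ := fun e => hD (le_bot_iff.1 (e ▸ hlt.le.trans hsub))
      have := hmax (C, W) ⟨hC, hW, hne2, hCW⟩
      simp only at this
      omega
    have hA' : D ≠ A := fun e => hAB (le_antisymm (inf_eq_left.1 e)
      (hA.le_of_ge hB.prop (inf_eq_left.1 e)))
    have hB' : D ≠ B := fun e => hAB (le_antisymm (hB.le_of_ge hA.prop (inf_eq_right.1 e))
      (inf_eq_right.1 e))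
    exact hAB ((hstep A hA inf_le_left hA').symm.trans (hstep B hB inf_le_right hB'))
  have hMax : ∀ a ∈ (S : Subgroup G), ∃ W, centralizerPPrimeCore 2 a ≤ W ∧ Maximal (· ∈ I) W :=
    fun a ha => hIle _ ⟨hθq a ha, hθinv a ha⟩
  choose! M hMle hMmax using hMax
  have hMuniq : ∀ a ∈ (S : Subgroup G), ∀ W, Maximal (· ∈ I) W → ∀ R : Subgroup G, R ≠ ⊥ →
      R ≤ centralizerPPrimeCore 2 a → R ≤ W → M a = W := fun a ha W hW R hR h1 h2 =>
    huniq _ _ (hMmax a ha) hW fun e => hR (le_bot_iff.1 (e ▸ le_inf (h1.trans (hMle a ha)) h2))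
  have hMconj : ∀ a ∈ (S : Subgroup G), a ≠ 1 →
      (M a).map (MulAut.conj g).toMonoidHom = M (g * a * g⁻¹) := by
    intro a ha ha1
    have hga := hgS a ha
    have hga1 : g * a * g⁻¹ ≠ 1 := fun e => ha1 (by rwa [conj_eq_one_iff] at e)
    have hin : (M a).map (MulAut.conj g).toMonoidHom ∈ I := by
      refine ⟨((hMmax a ha).prop.1).map _, ?_⟩
      refine SignalizerCoprime.le_normalizer_of_forall fun s hs y hy => ?_
      obtain ⟨w, hw, rfl⟩ := hy
      have hs' : g⁻¹ * s * g ∈ (S : Subgroup G) := by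
        simpa using (Subgroup.mem_normalizer_iff.1 (inv_mem hgN) s).1 hs
      refine ⟨g⁻¹ * s * g * w * (g⁻¹ * s * g)⁻¹,
        SignalizerCoprime.mem_normalizer_conj ((hMmax a ha).prop.2 hs') hw, ?_⟩
      show g * (g⁻¹ * s * g * w * (g⁻¹ * s * g)⁻¹) * g⁻¹ = s * (g * w * g⁻¹) * s⁻¹
      group
    obtain ⟨W, hW, hWmax⟩ := hIle _ hin
    have heq : M (g * a * g⁻¹) = W := by
      refine hMuniq _ hga W hWmax (centralizerPPrimeCore 2 (g * a * g⁻¹)) (hne _ hga hga1) le_rfl ?_
      intro z hz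
      refine hW ⟨g⁻¹ * z * g, hMle a ha ?_, by simp [mul_assoc]⟩
      have := conj_mem_centralizerCore (g := g⁻¹) hz
      rw [show g⁻¹ * (g * a * g⁻¹) * g⁻¹⁻¹ = a by group, inv_inv] at this
      exact this
    refine (le_antisymm ?_ ?_).trans heq.symm
    · exact hW
    · -- pull back
      have hback : W.map (MulAut.conj g⁻¹).toMonoidHom ∈ I := by
        refine ⟨(hWmax.prop.1).map _, ?_⟩
        refine SignalizerCoprime.le_normalizer_of_forall fun s hs y hy => ?_
        obtain ⟨w, hw, rfl⟩ := hy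
        have hs' : g * s * g⁻¹ ∈ (S : Subgroup G) := hgS s hs
        refine ⟨g * s * g⁻¹ * w * (g * s * g⁻¹)⁻¹,
          SignalizerCoprime.mem_normalizer_conj (hWmax.prop.2 hs') hw, ?_⟩
        show g⁻¹ * (g * s * g⁻¹ * w * (g * s * g⁻¹)⁻¹) * g⁻¹⁻¹ = s * (g⁻¹ * w * g⁻¹⁻¹) * s⁻¹
        group
      intro w hw
      have hMa : M a ≤ W.map (MulAut.conj g⁻¹).toMonoidHom := fun z hz =>
        ⟨g * z * g⁻¹, hW ⟨z, hz, rfl⟩, by simp [mul_assoc]⟩
      have := (hMmax a ha).le_of_ge hback hMa ⟨w, hw, rfl⟩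
      exact ⟨g⁻¹ * w * g⁻¹⁻¹, this, by simp [mul_assoc]⟩
  by_cases hA : ∃ a ∈ (S : Subgroup G), a ≠ 1 ∧ M a = M (g * a * g⁻¹)
  · -- all maximal subgroups coincide
    left
    obtain ⟨a, ha, ha1, hMa⟩ := hA
    refine ⟨?_, a, ha, ha1, hne a ha ha1⟩
    set W := M a with hW
    have hga1 : g * a * g⁻¹ ≠ 1 := fun e => ha1 (by rwa [conj_eq_one_iff] at e)
    have hfixW : W.map (MulAut.conj g).toMonoidHom = W := (hMconj a ha ha1).trans hMa.symm
    have hall : ∀ b ∈ (S : Subgroup G), b ≠ 1 → M b = W := by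
      intro b hb hb1
      rcases horbit a ha ha1 b hb hb1 with e | e | e
      · rw [e]
      · rw [e, ← hMa]
      · rw [e, ← hMconj _ (hgS a ha) hga1, ← hMa, hfixW]
    have hWne : W ≠ ⊥ := fun e => hne a ha ha1 (le_bot_iff.1 (e ▸ hMle a ha))
    set X := Subgroup.normalizer (W : Set G) with hX
    have hgX : g ∈ X := by
      refine Subgroup.mem_normalizer_iff.2 fun y => ⟨fun hy => ?_, fun hy => ?_⟩
      · rw [← hfixW]; exact ⟨y, hy, rfl⟩
      · rw [← hfixW] at hy
        obtain ⟨z, hz, hzy⟩ := hy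
        rwa [← (MulAut.conj g).injective hzy]
    have hSX : (S : Subgroup G) ≤ X := (hMmax a ha).prop.2
    haveI : (W.subgroupOf X).Normal := Subgroup.normal_in_normalizer
    have hWX : W ≤ X := Subgroup.le_normalizer
    have hc := (h.subgroup X).centralizes_of_transitive (W := W.subgroupOf X)
      (IsPGroup.comap_of_injective (hMmax a ha).prop.1 X.subtype X.subtype_injective)
      (S := (S : Subgroup G).subgroupOf X)
      (IsPGroup.comap_of_injective S.isPGroup' X.subtype X.subtype_injective)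
      (g := ⟨g, hgX⟩) ?_ (by rwa [Subgroup.orderOf_mk]) ?_ ?_
    · intro b hb hb1 z hz
      refine Subgroup.mem_centralizer_iff.2 fun s hs => ?_
      have hzW : z ∈ W := hall b hb hb1 ▸ hMle b hb hz
      exact congrArg Subtype.val (hc ⟨z, hWX hzW⟩ hzW ⟨s, hSX hs⟩ hs).eq
    · exact Subgroup.mem_normalizer_iff.2 fun y => Subgroup.mem_normalizer_iff.1 hgN y
    · intro hC
      exact hgC (Subgroup.mem_centralizer_iff.2 fun s hs =>
        congrArg Subtype.val (Subgroup.mem_centralizer_iff.1 hC ⟨s, hSX hs⟩ hs))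
    · intro u hu v hv hu1 hv1
      have hgg : ∀ k : ℕ, (⟨g, hgX⟩ : X) ^ k ∈
          Subgroup.normalizer (((S : Subgroup G).subgroupOf X : Subgroup X) : Set X) := fun k =>
        pow_mem (show (⟨g, hgX⟩ : X) ∈
          Subgroup.normalizer (((S : Subgroup G).subgroupOf X : Subgroup X) : Set X) from
            Subgroup.mem_normalizer_iff.2 fun y => Subgroup.mem_normalizer_iff.1 hgN y) k
      rcases horbit (u : G) hu (fun e => hu1 (Subtype.ext e)) (v : G) hv
        (fun e => hv1 (Subtype.ext e)) with e | e | e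
      · exact ⟨1, one_mem _, Subtype.ext (by simp [e])⟩
      · exact ⟨⟨g, hgX⟩, by simpa using hgg 1, Subtype.ext (by simp [e])⟩
      · exact ⟨⟨g, hgX⟩ ^ 2, hgg 2, Subtype.ext (by simp [e, pow_two, mul_assoc])⟩
  · -- the hypotheses of Brauer–Suzuki–Wall
    right
    push Not at hA
    have hdist : ∀ a ∈ (S : Subgroup G), a ≠ 1 → ∀ b ∈ (S : Subgroup G), b ≠ 1 → a ≠ b →
        M a ≠ M b := by
      intro a ha ha1 b hb hb1 hab he
      rcases horbit a ha ha1 b hb hb1 with e | e | e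
      · exact hab e.symm
      · exact hA a ha ha1 (he.trans (congrArg M e))
      · refine hA b hb hb1 ?_
        have hgb1 : g * b * g⁻¹ ≠ 1 := fun e => hb1 (by rwa [conj_eq_one_iff] at e)
        rcases horbit a ha ha1 (g * b * g⁻¹) (hgS b hb) hgb1 with e' | e' | e'
        · rw [e', he]
        · exact absurd (mul_left_cancel (mul_right_cancel e')).symm hab
        · rw [← e] at e'
          exact absurd e' (hfpf b hb hb1)
    suffices key : ∀ t ∈ (S : Subgroup G), t ≠ 1 → centralizerPPrimeCore 2 t ≠ ⊥ ∧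
        (∀ b ∈ (S : Subgroup G), b ≠ 1 → b ≠ t → ∀ y ∈ centralizerPPrimeCore 2 t,
          y ∈ Subgroup.centralizer ({b} : Set G) → y = 1) ∧
        ∀ Y : Subgroup G, Y ≤ centralizerPPrimeCore 2 t → Y ≠ ⊥ →
          Subgroup.normalizer (Y : Set G) ≤ Subgroup.centralizer ({t} : Set G) by
      refine ⟨key, ?_⟩
      obtain ⟨t, ht, ht1⟩ : ∃ t ∈ (S : Subgroup G), t ≠ 1 := by
        by_contra hcon
        push Not at hcon
        rw [(Subgroup.eq_bot_iff_forall _).2 hcon, Subgroup.card_bot] at h4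
        norm_num at h4
      obtain ⟨hO1, hdisj, hNY⟩ := key t ht ht1
      set O := centralizerPPrimeCore 2 t with hO
      have hinvert : ∀ b ∈ (S : Subgroup G), b ≠ 1 → b ≠ t → ∀ y ∈ O, b * y * b⁻¹ = y⁻¹ := by
        intro b hb hb1 hbt y hy
        have hbN : b ∈ Subgroup.normalizer (O : Set G) := hθinv t ht hb
        let φ : O →* O :=
          { toFun := fun z => ⟨b * z * b⁻¹, SignalizerCoprime.mem_normalizer_conj hbN z.2⟩
            map_one' := Subtype.ext (by simp)
            map_mul' := fun z w => Subtype.ext (by simp [mul_assoc]) }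
        have hfp : MonoidHom.FixedPointFree φ := fun z hz => Subtype.ext
          (hdisj b hb hb1 hbt z z.2 (Subgroup.mem_centralizer_singleton_iff.2
            ((mul_inv_eq_iff_eq_mul.1 (congrArg Subtype.val hz)).symm)))
        have hinv : Function.Involutive φ := fun z => Subtype.ext (by
          show b * (b * (z : G) * b⁻¹) * b⁻¹ = z
          have hbi : b⁻¹ = b := inv_eq_of_mul_eq_one_right (hsq b hb)
          rw [hbi]
          calc b * (b * (z : G) * b) * b = (b * b) * z * (b * b) := by group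
            _ = z := by rw [hsq b hb]; group)
        exact congrArg (fun f : O → O => ((f ⟨y, hy⟩ : O) : G))
          (hfp.coe_eq_inv_of_involutive hinv)
      have hCSO : (S : Subgroup G) ⊓ Subgroup.centralizer (O : Set G) = Subgroup.zpowers t := by
        apply le_antisymm
        · rintro b ⟨hb, hbC⟩
          by_cases hb1 : b = 1
          · rw [hb1]; exact one_mem _
          by_cases hbt : b = t
          · rw [hbt]; exact Subgroup.mem_zpowers t
          exfalso
          obtain ⟨y, hy, hy1⟩ := exists_ne_one hO1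
          refine hy1 (hdisj b hb hb1 hbt y hy (Subgroup.mem_centralizer_singleton_iff.2 ?_))
          exact Subgroup.mem_centralizer_iff.1 hbC y hy
        · rw [Subgroup.zpowers_le]
          exact ⟨ht, Subgroup.mem_centralizer_iff.2 fun y hy =>
            Subgroup.mem_centralizer_singleton_iff.1 (hθle t hy)⟩
      have htord : orderOf t = 2 := orderOf_eq_prime (by rw [pow_two, hsq t ht]) ht1
      haveI : Nontrivial (S : Subgroup G) :=
        Finite.one_lt_card_iff_nontrivial.1 (by rw [h4]; norm_num)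
      haveI : IsKleinFour (S : Subgroup G) :=
        ⟨h4, (Monoid.exponent_eq_prime_iff (p := 2) Nat.prime_two).2 fun a ha =>
          orderOf_eq_prime (Subtype.ext (by simpa [pow_two] using hsq a a.2)) ha⟩
      have hDih : Nonempty ((S : Subgroup G) ≃* DihedralGroup 2) := by
        letI := Fintype.ofFinite (S : Subgroup G)
        let e0 : (S : Subgroup G) ≃ DihedralGroup 2 := Fintype.equivOfCardEq (by
          rw [← Nat.card_eq_fintype_card, h4, DihedralGroup.card])
        exact ⟨IsKleinFour.mulEquiv (e0.trans (Equiv.swap (e0 1) 1)) (by simp)⟩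
      refine Cfsg.Agent.S0508.result S 2 le_rfl hDih t htord ht (fun s hs => hcomm s hs t ht) O rfl
        ?_ ?_ hNY
      · intro _
        rw [hCSO]
        refine ⟨inferInstance, ?_⟩
        have h1 := ((Subgroup.zpowers t).subgroupOf (S : Subgroup G)).index_mul_card
        rw [Nat.card_congr (Subgroup.subgroupOfEquivOfLe (Subgroup.zpowers_le.2 ht)).toEquiv,
          Nat.card_zpowers, htord, h4] at h1
        show ((Subgroup.zpowers t).subgroupOf (S : Subgroup G)).index = 2
        omega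
      · intro b hb hbC y hy
        have hbt : b ≠ t := fun e => hbC (e ▸ (hCSO.ge (Subgroup.mem_zpowers t)).2)
        exact hinvert b hb (fun e => hbC (e ▸ one_mem _)) hbt y hy
    intro t ht ht1
    set O := centralizerPPrimeCore 2 t with hO
    have hdisj : ∀ b ∈ (S : Subgroup G), b ≠ 1 → b ≠ t →
        ∀ y ∈ O, y ∈ Subgroup.centralizer ({b} : Set G) → y = 1 := by
      intro b hb hb1 hbt y hy hyb
      have hy' : y ∈ centralizerPPrimeCore 2 b :=
        h.balance (hsq t ht) (hsq b hb) hb1 (hcomm t ht b hb) ⟨hy, hyb⟩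
      by_contra hy1
      refine hdist t ht ht1 b hb hb1 hbt.symm
        (hMuniq t ht (M b) (hMmax b hb) (Subgroup.zpowers y) ?_ (Subgroup.zpowers_le.2 hy)
          (Subgroup.zpowers_le.2 (hMle b hb hy')))
      simpa [Subgroup.zpowers_eq_bot] using hy1
    refine ⟨hne t ht ht1, hdisj, ?_⟩
    have hinvert : ∀ b ∈ (S : Subgroup G), b ≠ 1 → b ≠ t → ∀ y ∈ O, b * y * b⁻¹ = y⁻¹ := by
      intro b hb hb1 hbt y hy
      have hbN : b ∈ Subgroup.normalizer (O : Set G) := hθinv t ht hb
      let φ : O →* O :=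
        { toFun := fun z => ⟨b * z * b⁻¹, SignalizerCoprime.mem_normalizer_conj hbN z.2⟩
          map_one' := Subtype.ext (by simp)
          map_mul' := fun z w => Subtype.ext (by simp [mul_assoc]) }
      have hfp : MonoidHom.FixedPointFree φ := fun z hz => Subtype.ext
        (hdisj b hb hb1 hbt z z.2 (Subgroup.mem_centralizer_singleton_iff.2
          ((mul_inv_eq_iff_eq_mul.1 (congrArg Subtype.val hz)).symm)))
      have hinv : Function.Involutive φ := fun z => Subtype.ext (by
        show b * (b * (z : G) * b⁻¹) * b⁻¹ = z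
        have hbi : b⁻¹ = b := inv_eq_of_mul_eq_one_right (hsq b hb)
        rw [hbi]
        calc b * (b * (z : G) * b) * b = (b * b) * z * (b * b) := by group
          _ = z := by rw [hsq b hb]; group)
      exact congrArg (fun f : O → O => ((f ⟨y, hy⟩ : O) : G))
        (hfp.coe_eq_inv_of_involutive hinv)
    intro Y hYO hY1
    set X := Subgroup.normalizer (Y : Set G) with hX
    have hSX : (S : Subgroup G) ≤ X := by
      refine SignalizerCoprime.le_normalizer_of_forall fun b hb y hy => ?_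
      by_cases hb1 : b = 1
      · subst hb1; simpa using hy
      by_cases hbt : b = t
      · subst hbt
        have := Subgroup.mem_centralizer_singleton_iff.1 (hθle b (hYO hy))
        rwa [← this, mul_inv_cancel_right]
      · rw [hinvert b hb hb1 hbt y (hYO hy)]; exact inv_mem hy
    have hYodd : Odd (Nat.card Y) :=
      (odd_card_centralizerCore t).of_dvd_nat (Subgroup.card_dvd_of_le hYO)
    have hXs := h.isSolvable_normalizer hY1 hYodd
    set OX := (Cfsg.pPrimeCore 2 X).map X.subtype with hOX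
    have hSOX : (S : Subgroup G) ≤ Subgroup.normalizer (OX : Set G) :=
      hSX.trans (le_normalizer_core X)
    have hYOX : Y ≤ OX := le_core_of_invariant hXs S hSX Subgroup.le_normalizer hYodd hSX
    obtain ⟨W, hOW, hW⟩ := hIle OX
      ⟨h.isPGroup_of_invariant S.isPGroup' h4.ge hSOX (odd_card_core X), hSOX⟩
    have hWt : M t = W := hMuniq t ht W hW Y hY1 hYO (hYOX.trans hOW)
    have hOXt : OX ≤ O := by
      refine SignalizerCoprime.le_of_centralizers_le (h.elementary S.isPGroup')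
        (by norm_num [h4]) hSOX (fun e => by
          have ho : Odd (Nat.card OX) := odd_card_core X
          exact Nat.not_even_iff_odd.2 ho (even_iff_two_dvd.2 e)) fun b hb hb1 => ?_
      have hle : OX ⊓ Subgroup.centralizer {b} ≤ centralizerPPrimeCore 2 b :=
        hinC b hb hb1 _ ((odd_card_core X).of_dvd_nat (Subgroup.card_dvd_of_le inf_le_left))
          inf_le_right (SignalizerCoprime.le_normalizer_inf hSOX
            ((hSC b hb).trans Subgroup.le_normalizer))
      by_cases hbt : b = t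
      · subst hbt; exact hle
      intro z hz
      by_contra hzO
      refine hdist t ht ht1 b hb hb1 (Ne.symm hbt) (hWt.trans
        (hMuniq b hb W hW (Subgroup.zpowers z) ?_ (Subgroup.zpowers_le.2 (hle hz))
          (Subgroup.zpowers_le.2 (hOW hz.1))).symm)
      intro e
      rw [Subgroup.zpowers_eq_bot] at e
      exact hzO (e ▸ one_mem _)
    intro x hx
    obtain ⟨o, ho, n, hnX, hnN, rfl⟩ := h.exists_mul_normalizer_subgroup hXs S hSX hx
    refine mul_mem (hθle t (hOXt ho)) ?_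
    rw [Subgroup.mem_centralizer_singleton_iff]
    by_contra hne'
    obtain ⟨y, hy, hy1⟩ := exists_ne_one hY1
    set b := n * t * n⁻¹ with hb
    have hbS : b ∈ (S : Subgroup G) := (Subgroup.mem_normalizer_iff.1 hnN t).1 ht
    have hbt : b ≠ t := fun e => hne' (mul_inv_eq_iff_eq_mul.1 e)
    have hb1 : b ≠ 1 := fun e => ht1 (by rwa [hb, conj_eq_one_iff] at e)
    refine hy1 (hdisj b hbS hb1 hbt y (hYO hy) ?_)
    have hy' : n⁻¹ * y * n ∈ Y := by
      simpa using SignalizerCoprime.mem_normalizer_conj (inv_mem hnX) hy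
    have := Subgroup.mem_centralizer_singleton_iff.1 (hθle t (hYO hy'))
    rw [Subgroup.mem_centralizer_singleton_iff, hb]
    calc y * (n * t * n⁻¹) = n * ((n⁻¹ * y * n) * t) * n⁻¹ := by group
      _ = n * (t * (n⁻¹ * y * n)) * n⁻¹ := by rw [this]
      _ = _ := by group

end Cfsg.Agent.TwoQ27
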