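import Mathlib
import Cfsg.Agent.Lib.ThreeOrd27Basic
import Cfsg.Agent.Lib.TwoQ27SmallRank

/-!
# Socle with Klein four Sylow `2`-subgroups and non-trivial cores

An outer element would give a centralising one, and a solvable centraliser meeting two of the three
cores.
-/

set_option autoImplicit false
set_option linter.style.haveILetI false
set_option linter.unusedSectionVars false

namespace Cfsg.Agent.ThreeOrd27

open Subgroup
open Cfsg (centralizerPPrimeCore)
open Cfsg.Agent.TwoQ27

universe u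

variable {G : Type u} [Group G] [Finite G] {q : ℕ}

/-- An automorphism fixing `b` stabilises `θ(b)`. -/
theorem map_centralizerCore {α : MulAut G} {b : G} (hb : α b = b) {z : G}
    (hz : z ∈ centralizerPPrimeCore 2 b) : α z ∈ centralizerPPrimeCore 2 b := by
  haveI := Fact.mk Nat.prime_two
  refine SignalizerBasic.le_centralizerPPrimeCore
    (M := (centralizerPPrimeCore 2 b).map α.toMonoidHom) ?_ ?_ ?_ ⟨z, hz, rfl⟩
  · rintro _ ⟨y, hy, rfl⟩
    have hy' := mem_centralizer_singleton_iff.1 (SignalizerBasic.centralizerPPrimeCore_le 2 b hy)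
    rw [mem_centralizer_singleton_iff]
    show α y * b = b * α y
    rw [← hb, ← map_mul, ← map_mul, hy']
  · refine SignalizerCoprime.le_normalizer_of_forall fun c hc y hy => ?_
    obtain ⟨w, hw, rfl⟩ := hy
    obtain ⟨c', rfl⟩ := α.surjective c
    have hc' : c' ∈ centralizer ({b} : Set G) := by
      rw [mem_centralizer_singleton_iff] at hc ⊢
      apply α.injective
      rw [map_mul, map_mul, hb]
      exact hc
    refine ⟨c' * w * c'⁻¹, SignalizerCoprime.mem_normalizer_conj
      (SignalizerBasic.centralizer_le_normalizer_centralizerPPrimeCore 2 b hc') hw, ?_⟩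
    simp
  · rw [card_map_of_injective (f := α.toMonoidHom) α.injective]
    exact SignalizerBasic.not_dvd_card_centralizerPPrimeCore 2 b

/-- A solvable subgroup containing `T` cannot meet two of the cores. -/
theorem two_cores_false (h : TwoQ G q) (T : Sylow 2 G) (h4 : 4 ≤ Nat.card T)
    (hS : ∀ t ∈ (T : Subgroup G), t ≠ 1 → centralizerPPrimeCore 2 t ≠ ⊥ ∧
      (∀ b ∈ (T : Subgroup G), b ≠ 1 → b ≠ t → ∀ y ∈ centralizerPPrimeCore 2 t,
        y ∈ centralizer ({b} : Set G) → y = 1) ∧
      ∀ Y : Subgroup G, Y ≤ centralizerPPrimeCore 2 t → Y ≠ ⊥ →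
        normalizer (Y : Set G) ≤ centralizer ({t} : Set G))
    {X : Subgroup G} (hX : Group.IsSolvable X) (hTX : (T : Subgroup G) ≤ X) {a b : G}
    (ha : a ∈ (T : Subgroup G)) (ha1 : a ≠ 1) (hb : b ∈ (T : Subgroup G)) (hb1 : b ≠ 1)
    (hab : a ≠ b) {y z : G} (hy : y ∈ centralizerPPrimeCore 2 a) (hyX : y ∈ X) (hy1 : y ≠ 1)
    (hz : z ∈ centralizerPPrimeCore 2 b) (hzX : z ∈ X) (hz1 : z ≠ 1) : False := by
  haveI := Fact.mk Nat.prime_two
  haveI := Fact.mk h.prime
  have hTC : ∀ c ∈ (T : Subgroup G), (T : Subgroup G) ≤ centralizer ({c} : Set G) :=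
    fun c hc d hd => mem_centralizer_singleton_iff.2 (h.comm_of_mem T.isPGroup' hd hc)
  set R := (Cfsg.pPrimeCore 2 X).map X.subtype with hR
  have hTR : (T : Subgroup G) ≤ normalizer (R : Set G) := hTX.trans (le_normalizer_core X)
  have hRodd : Odd (Nat.card R) := odd_card_core X
  have hRp : IsPGroup q R := h.isPGroup_of_invariant T.isPGroup' h4 hTR hRodd
  have hin : ∀ c ∈ (T : Subgroup G), X ⊓ centralizerPPrimeCore 2 c ≤ R := fun c hc =>
    le_core_of_invariant hX T hTX inf_le_left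
      ((odd_card_centralizerCore c).of_dvd_nat (card_dvd_of_le inf_le_right))
      (SignalizerCoprime.le_normalizer_inf (hTX.trans le_normalizer)
        ((hTC c hc).trans (SignalizerBasic.centralizer_le_normalizer_centralizerPPrimeCore 2 c)))
  have hyR : y ∈ R := hin a ha ⟨hyX, hy⟩
  have hzR : z ∈ R := hin b hb ⟨hzX, hz⟩
  set Z := R ⊓ centralizer (R : Set G) with hZ
  have hZne : Z ≠ ⊥ := by
    haveI : Nontrivial R := (nontrivial_iff_ne_bot R).2 fun e => hy1 (by simpa [e] using hyR)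
    haveI := hRp.center_nontrivial
    obtain ⟨u, hu⟩ := exists_ne (1 : center R)
    intro e
    refine hu (Subtype.ext (Subtype.ext ?_))
    have : ((u : R) : G) ∈ Z := ⟨(u : R).2, mem_centralizer_iff.2 fun r hr =>
      congrArg Subtype.val (mem_center_iff.1 u.2 ⟨r, hr⟩)⟩
    rwa [e, mem_bot] at this
  have hTZ : (T : Subgroup G) ≤ normalizer (Z : Set G) := by
    refine SignalizerCoprime.le_normalizer_of_forall fun s hs u hu => ⟨?_, ?_⟩
    · exact SignalizerCoprime.mem_normalizer_conj (hTR hs) hu.1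
    · refine mem_centralizer_iff.2 fun r hr => ?_
      have hr' : s⁻¹ * r * s ∈ R := by
        simpa using SignalizerCoprime.mem_normalizer_conj (inv_mem (hTR hs)) hr
      have := mem_centralizer_iff.1 hu.2 _ hr'
      calc r * (s * u * s⁻¹) = s * ((s⁻¹ * r * s) * u) * s⁻¹ := by group
        _ = s * (u * (s⁻¹ * r * s)) * s⁻¹ := by rw [this]
        _ = _ := by group
  obtain ⟨c, hc, hc1, hY⟩ : ∃ c ∈ (T : Subgroup G), c ≠ 1 ∧ Z ⊓ centralizer {c} ≠ ⊥ := by
    by_contra hcon
    push Not at hcon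
    refine hZne (le_bot_iff.1 (SignalizerCoprime.le_of_centralizers_le (h.elementary T.isPGroup')
      (by simpa using h4) hTZ (fun e => ?_) fun c hc hc1 => (hcon c hc hc1).le))
    exact Nat.not_even_iff_odd.2 (hRodd.of_dvd_nat (card_dvd_of_le inf_le_left))
      (even_iff_two_dvd.2 e)
  set Y := Z ⊓ centralizer {c} with hYdef
  have hYc : Y ≤ centralizerPPrimeCore 2 c :=
    le_core_of_invariant (h.isSolvable_centralizer hc1 (Or.inl (h.sq_of_mem T.isPGroup' hc)))
      T (hTC c hc) inf_le_right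
      (hRodd.of_dvd_nat (card_dvd_of_le (inf_le_left.trans inf_le_left)))
      (SignalizerCoprime.le_normalizer_inf hTZ ((hTC c hc).trans le_normalizer))
  have hRY : R ≤ normalizer (Y : Set G) := fun r hr => centralizer_le_normalizer (Y : Set G)
    (mem_centralizer_iff.2 fun u hu => (mem_centralizer_iff.1 hu.1.2 r hr).symm)
  have hRc : R ≤ centralizer ({c} : Set G) := hRY.trans ((hS c hc hc1).2.2 Y hYc hY)
  have h1 : c = a := by
    by_contra hne
    exact hy1 ((hS a ha ha1).2.1 c hc hc1 hne y hy (hRc hyR))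
  have h2 : c = b := by
    by_contra hne
    exact hz1 ((hS b hb hb1).2.1 c hc hc1 hne z hz (hRc hzR))
  exact hab (h1.symm.trans h2)

/-- A socle with Klein four Sylow `2`-subgroups and non-trivial cores is the whole group. -/
theorem klein_eq_top (h : TwoQ G q) (N : Subgroup G) [N.Normal] [IsSimpleGroup N]
    (hna : ∃ a b : N, a * b ≠ b * a) (T : Sylow 2 N) (h4 : Nat.card T = 4)
    (hS : ∀ t ∈ (T : Subgroup N), t ≠ 1 → centralizerPPrimeCore 2 t ≠ ⊥ ∧
      (∀ b ∈ (T : Subgroup N), b ≠ 1 → b ≠ t → ∀ y ∈ centralizerPPrimeCore 2 t,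
        y ∈ centralizer ({b} : Set N) → y = 1) ∧
      ∀ Y : Subgroup N, Y ≤ centralizerPPrimeCore 2 t → Y ≠ ⊥ →
        normalizer (Y : Set N) ≤ centralizer ({t} : Set N)) : N = ⊤ := by
  classical
  haveI := Fact.mk Nat.prime_two
  haveI := Fact.mk h.prime
  have hN := h.subgroup N
  set T' : Subgroup G := (T : Subgroup N).map N.subtype with hT'
  have hT'p : IsPGroup 2 T' := T.isPGroup'.map _
  have hsq : ∀ a ∈ (T : Subgroup N), a * a = 1 := fun a ha => hN.sq_of_mem T.isPGroup' ha
  have hthree : ∀ a ∈ (T : Subgroup N), a ≠ 1 → ∀ b ∈ (T : Subgroup N), b ≠ 1 → a ≠ b →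
      ∀ d ∈ (T : Subgroup N), d ≠ 1 → d = a ∨ d = b ∨ d = a * b := by
    intro a ha ha1 b hb hb1 hab d hd hd1
    haveI := Fintype.ofFinite (T : Subgroup N)
    by_contra hcon
    push Not at hcon
    have hab1 : a * b ≠ 1 := fun e => hab (by
      rw [mul_eq_one_iff_eq_inv] at e
      rwa [inv_eq_of_mul_eq_one_right (hsq b hb)] at e)
    have e1 : a ≠ a * b := fun e => hb1 (mul_eq_left.1 e.symm)
    have e2 : b ≠ a * b := fun e => ha1 (mul_eq_right.1 e.symm)
    have hcard : ({1, ⟨a, ha⟩, ⟨b, hb⟩, ⟨a * b, mul_mem ha hb⟩, ⟨d, hd⟩} :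
        Finset (T : Subgroup N)).card = 5 := by
      simp [Subtype.ext_iff, ha1.symm, hb1.symm, hab1.symm, hd1.symm, hab, e1, e2,
        hcon.1.symm, hcon.2.1.symm, hcon.2.2.symm]
    have hle := Finset.card_le_univ
      ({1, ⟨a, ha⟩, ⟨b, hb⟩, ⟨a * b, mul_mem ha hb⟩, ⟨d, hd⟩} : Finset (T : Subgroup N))
    rw [hcard, ← Nat.card_eq_fintype_card] at hle
    omega
  -- an element normalising `T'` and fixing a point centralises it
  have hfix : ∀ n : G, n ∈ normalizer (T' : Set G) → ∀ a ∈ (T : Subgroup N), a ≠ 1 →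
      n * (a : G) * n⁻¹ = a → ∀ v ∈ (T : Subgroup N), n * (v : G) * n⁻¹ = v := by
    intro n hn a ha ha1 hna'
    have haG : (a : G) ≠ 1 := fun e => ha1 (Subtype.ext e)
    have hn2 : n ^ (2 * q) = 1 := h.pow_two_q_of_comm haG
      (Or.inl (congrArg Subtype.val (hsq a ha)))
      (show Commute (a : G) n from (mul_inv_eq_iff_eq_mul.1 hna').symm)
    have h1 : ∀ v ∈ (T : Subgroup N), Commute (n ^ q) (v : G) := by
      intro v hv
      have hp := (SignalizerCoprime.isPGroup_zpowers (p := 2)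
        (show (n ^ q) ^ 2 = 1 by rw [← pow_mul, mul_comm, hn2])).to_sup_of_normal_right' hT'p
          (zpowers_le.2 (pow_mem hn q))
      exact h.comm_of_mem hp (mem_sup_left (mem_zpowers _)) (mem_sup_right ⟨v, hv, rfl⟩)
    set u := n ^ (q + 1) with hu
    have huo : Odd (orderOf u) := h.odd_q.of_dvd_nat (orderOf_dvd_of_pow_eq_one (by
      obtain ⟨m, hm⟩ := h.odd_q
      rw [hu, ← pow_mul, show (q + 1) * q = (2 * q) * (m + 1) by rw [hm]; ring, pow_mul, hn2,
        one_pow]))
    have hua : u * (a : G) * u⁻¹ = a :=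
      mul_inv_eq_iff_eq_mul.2 (((show Commute n (a : G) from mul_inv_eq_iff_eq_mul.1 hna').pow_left
        (q + 1)).eq)
    have h2 : ∀ v ∈ (T : Subgroup N), Commute u (v : G) := by
      intro v hv
      by_cases hv1 : v = 1
      · rw [hv1, Subgroup.coe_one]; exact Commute.one_right u
      by_cases hva : v = a
      · subst hva; exact mul_inv_eq_iff_eq_mul.1 hua
      obtain ⟨v', hv', e⟩ := (mem_normalizer_iff.1 (pow_mem hn (q + 1) : u ∈ normalizer (T' : Set G))
        (v : G)).1 ⟨v, hv, rfl⟩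
      have e' : u * (v : G) * u⁻¹ = v' := e.symm
      have hv'1 : v' ≠ 1 := fun h0 => hv1 (Subtype.ext (by
        rw [h0, Subgroup.coe_one, conj_eq_one_iff] at e'; exact e'))
      rcases hthree a ha ha1 v hv hv1 (Ne.symm hva) v' hv' hv'1 with h0 | h0 | h0
      · exact absurd (Subtype.ext (mul_left_cancel (mul_right_cancel
          ((h0 ▸ e').trans hua.symm)))) hva
      · exact mul_inv_eq_iff_eq_mul.1 (h0 ▸ e')
      · rw [h0, Subgroup.coe_mul] at e'
        have huu : Commute (u * u) (v : G) := mul_inv_eq_iff_eq_mul.1 (by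
          calc u * u * (v : G) * (u * u)⁻¹ = u * (u * v * u⁻¹) * u⁻¹ := by group
            _ = (u * a * u⁻¹) * (u * v * u⁻¹) := by nth_rw 1 [e']; group
            _ = (a : G) * ((a : G) * v) := by rw [e', hua]
            _ = v := by rw [← mul_assoc,
                  show (a : G) * a = 1 from congrArg Subtype.val (hsq a ha), one_mul])
        obtain ⟨m, hm⟩ := huo
        have := huu.pow_left (m + 1)
        rwa [← pow_two, ← pow_mul, show 2 * (m + 1) = orderOf u + 1 by omega, pow_succ,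
          pow_orderOf_eq_one, one_mul] at this
    intro v hv
    have hc : Commute ((n ^ q)⁻¹ * u) (v : G) := ((h1 v hv).inv_left).mul_left (h2 v hv)
    rw [show (n ^ q)⁻¹ * u = n by rw [hu, pow_succ]; group] at hc
    rw [hc.eq, mul_inv_cancel_right]
  by_contra hne
  obtain ⟨g₀, hg₀⟩ : ∃ g, g ∉ N := by
    by_contra hall
    push Not at hall
    exact hne (eq_top_iff.2 fun g _ => hall g)
  obtain ⟨m, hm, hmN⟩ : ∃ m ∈ normalizer (T' : Set G), m ∉ N := by
    have hg : g₀ ∈ (↑(normalizer (T' : Set G) ⊔ N) : Set G) := by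
      rw [hT', Sylow.normalizer_sup_eq_top T]; trivial
    rw [mul_normal] at hg
    obtain ⟨m, hm, x, hx, rfl⟩ := hg
    exact ⟨m, hm, fun h' => hg₀ (mul_mem h' hx)⟩
  obtain ⟨g, hgN, hgo, hgC⟩ := hN.exists_odd_moving hna T
  obtain ⟨a, ha, ha1⟩ : ∃ a ∈ (T : Subgroup N), a ≠ 1 := TwoQ27.exists_ne_one fun e => by
    rw [e, card_bot] at h4; omega
  have hgT' : (g : G) ∈ normalizer (T' : Set G) := le_normalizer_map N.subtype ⟨g, hgN, rfl⟩
  have hgfix : ∀ v ∈ (T : Subgroup N), v ≠ 1 → g * v * g⁻¹ ≠ v := by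
    intro v hv hv1 e
    refine hgC (mem_centralizer_iff.2 fun w hw => (mul_inv_eq_iff_eq_mul.1 ?_).symm)
    exact Subtype.ext (hfix g hgT' v hv hv1 (congrArg Subtype.val e) w hw)
  -- a correction of `m` fixing `a`
  obtain ⟨j, hj⟩ : ∃ j : ℕ, m * (a : G) * m⁻¹ = ((g ^ j : N) : G) * a * ((g ^ j : N) : G)⁻¹ := by
    obtain ⟨d, hd, hd'⟩ := (mem_normalizer_iff.1 hm (a : G)).1 ⟨a, ha, rfl⟩
    have hd' : (d : G) = m * a * m⁻¹ := hd'
    have hd1 : d ≠ 1 := fun e => ha1 (Subtype.ext (by
      rw [e, Subgroup.coe_one, eq_comm, conj_eq_one_iff] at hd'; exact hd'))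
    set b := g * a * g⁻¹ with hb
    have hbT : b ∈ (T : Subgroup N) := (mem_normalizer_iff.1 hgN a).1 ha
    have hb1 : b ≠ 1 := fun e => ha1 (by rwa [hb, conj_eq_one_iff] at e)
    have hab : a ≠ b := (hgfix a ha ha1).symm
    have hbb : g * b * g⁻¹ = a * b := by
      have hb'T := (mem_normalizer_iff.1 hgN b).1 hbT
      rcases hthree a ha ha1 b hbT hb1 hab (g * b * g⁻¹) hb'T
        (fun e => hb1 (by rwa [conj_eq_one_iff] at e)) with e | e | e
      · exfalso
        -- then `g²` fixes `a`, so `g` would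
        obtain ⟨k, hk⟩ := hgo
        have hc : Commute (g * g) a := mul_inv_eq_iff_eq_mul.1 (by
          calc g * g * a * (g * g)⁻¹ = g * b * g⁻¹ := by rw [hb]; group
            _ = a := e)
        have := hc.pow_left (k + 1)
        rw [← pow_two, ← pow_mul, show 2 * (k + 1) = orderOf g + 1 by omega, pow_succ,
          pow_orderOf_eq_one, one_mul] at this
        exact hgfix a ha ha1 (by rw [this.eq, mul_inv_cancel_right])
      · exact absurd e (hgfix b hbT hb1)
      · exact e
    rcases hthree a ha ha1 b hbT hb1 hab d hd hd1 with e | e | e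
    · exact ⟨0, by rw [← hd', e]; simp⟩
    · exact ⟨1, by rw [← hd', e, hb, pow_one]; rfl⟩
    · refine ⟨2, ?_⟩
      rw [← hd', e, ← hbb, hb]
      push_cast
      rw [pow_two]; group
  set n := ((g ^ j : N) : G)⁻¹ * m with hn
  have hnT : n ∈ normalizer (T' : Set G) := mul_mem (inv_mem (by
    rw [Subgroup.coe_pow]; exact pow_mem hgT' j)) hm
  have hnN : n ∉ N := fun h' => hmN (by
    have := N.mul_mem (g ^ j).2 h'
    rwa [hn, mul_inv_cancel_left] at this)
  have hna' : n * (a : G) * n⁻¹ = a := by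
    rw [hn]
    calc ((g ^ j : N) : G)⁻¹ * m * a * (((g ^ j : N) : G)⁻¹ * m)⁻¹
        = ((g ^ j : N) : G)⁻¹ * (m * a * m⁻¹) * ((g ^ j : N) : G) := by group
      _ = a := by rw [hj]; group
  have hncent := hfix n hnT a ha ha1 hna'
  have hn2 : n ^ (2 * q) = 1 := h.pow_two_q_of_comm (fun e => ha1 (Subtype.ext e))
    (Or.inl (congrArg Subtype.val (hsq a ha)))
    (show Commute (a : G) n from (mul_inv_eq_iff_eq_mul.1 hna').symm)
  -- general consequences for centralising outer elements
  have key : ∀ w : G, w ∉ N → (w * w = 1 ∨ w ^ q = 1) →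
      (∀ v ∈ (T : Subgroup N), Commute w (v : G)) → ∀ c ∈ (T : Subgroup N), c ≠ 1 →
      ∀ d ∈ (T : Subgroup N), d ≠ 1 → c ≠ d →
      (∃ y ∈ centralizerPPrimeCore 2 c, y ≠ 1 ∧ Commute w (y : G)) →
      (∃ y ∈ centralizerPPrimeCore 2 d, y ≠ 1 ∧ Commute w (y : G)) → False := by
    rintro w hw hw2 hwT c hc hc1 d hd hd1 hcd ⟨y, hy, hy1, hwy⟩ ⟨z, hz, hz1, hwz⟩
    have hw1 : w ≠ 1 := fun e => hw (e ▸ one_mem N)
    haveI := h.isSolvable_centralizer hw1 hw2
    set X := (centralizer ({w} : Set G)).comap N.subtype with hX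
    have hXs : Group.IsSolvable X :=
      Group.isSolvable_of_isSolvable_injective
        (f := (N.subtype.comp X.subtype).codRestrict (centralizer ({w} : Set G)) fun x => x.2)
        fun x y e => Subtype.ext (Subtype.ext (congrArg
          (fun z : centralizer ({w} : Set G) => (z : G)) e :))
    refine two_cores_false hN T h4.ge hS hXs
      (fun v hv => mem_centralizer_singleton_iff.2 (hwT v hv).symm) hc hc1 hd hd1 hcd hy
      (mem_centralizer_singleton_iff.2 hwy.symm) hy1 hz
      (mem_centralizer_singleton_iff.2 hwz.symm) hz1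
  have hnorm : ∀ w : G, (∀ v ∈ (T : Subgroup N), Commute w (v : G)) →
      ∀ c ∈ (T : Subgroup N), ∀ y ∈ centralizerPPrimeCore 2 c,
        MulAut.conjNormal w y ∈ centralizerPPrimeCore 2 c := fun w hw c hc y hy =>
    map_centralizerCore (α := MulAut.conjNormal w) (Subtype.ext (by
      rw [MulAut.conjNormal_apply, (hw c hc).eq, mul_inv_cancel_right])) hy
  have hnc : ∀ k : ℕ, ∀ v ∈ (T : Subgroup N), Commute (n ^ k) (v : G) := fun k v hv =>
    (show Commute n (v : G) from mul_inv_eq_iff_eq_mul.1 (hncent v hv)).pow_left k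
  by_cases hq' : n ^ (q + 1) ∈ N
  · -- an outer involution
    set w := n ^ q with hwdef
    have hwN : w ∉ N := fun h' => hnN (by
      have := N.mul_mem (N.inv_mem h') hq'
      rwa [hwdef, pow_succ, ← mul_assoc, inv_mul_cancel, one_mul] at this)
    have hww : w * w = 1 := by rw [hwdef, ← pow_add, ← two_mul, hn2]
    have hfalse : ∀ w : G, w ∉ N → w * w = 1 → (∀ v ∈ (T : Subgroup N), Commute w (v : G)) →
        ∀ c ∈ (T : Subgroup N), c ≠ 1 → ∀ d ∈ (T : Subgroup N), d ≠ 1 → c ≠ d →
        (∀ y ∈ centralizerPPrimeCore 2 c, w * (y : G) * w⁻¹ = (y : G)⁻¹) →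
        (∀ y ∈ centralizerPPrimeCore 2 d, w * (y : G) * w⁻¹ = (y : G)⁻¹) → False := by
      intro w hwN hww hwT c hc hc1 d hd hd1 hcd hic hid
      -- multiply by the third involution
      set e := c * d with he
      have heT : e ∈ (T : Subgroup N) := mul_mem hc hd
      have he1 : e ≠ 1 := fun e0 => hcd (by
        rw [he, mul_eq_one_iff_eq_inv] at e0
        rwa [inv_eq_of_mul_eq_one_right (hsq d hd)] at e0)
      have hew : Commute w (e : G) := hwT e heT
      have hinv : ∀ p ∈ (T : Subgroup N), p ≠ 1 → p ≠ e →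
          ∀ y ∈ centralizerPPrimeCore 2 p, (e : G) * (y : G) * (e : G)⁻¹ = (y : G)⁻¹ := by
        intro p hp hp1 hpe y hy
        have hee : (e : G) * e = 1 := congrArg Subtype.val (hsq e heT)
        have hei : (e : G)⁻¹ = e := inv_eq_of_mul_eq_one_right hee
        have heC : e ∈ normalizer (centralizerPPrimeCore 2 p : Set N) :=
          SignalizerBasic.centralizer_le_normalizer_centralizerPPrimeCore 2 p
            (mem_centralizer_singleton_iff.2 (hN.comm_of_mem T.isPGroup' heT hp))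
        rw [hei]
        refine OddCoreOrth52.inverts_of_fpf (e : G) ((centralizerPPrimeCore 2 p).map N.subtype) hee
          ?_ ?_ ⟨y, hy, rfl⟩
        · rintro _ ⟨z, hz, rfl⟩
          refine ⟨e * z * e⁻¹, SignalizerCoprime.mem_normalizer_conj heC hz, ?_⟩
          show (e : G) * z * (e : G)⁻¹ = (e : G) * z * e
          rw [hei]
        · rintro _ ⟨z, hz, rfl⟩ hcomm
          rw [(hS p hp hp1).2.1 e heT he1 (Ne.symm hpe) z hz
            (mem_centralizer_singleton_iff.2 (Subtype.ext hcomm.symm)), map_one]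
      have hfix2 : ∀ p ∈ (T : Subgroup N), p ≠ 1 → p ≠ e →
          (∀ y ∈ centralizerPPrimeCore 2 p, w * (y : G) * w⁻¹ = (y : G)⁻¹) →
          ∃ y ∈ centralizerPPrimeCore 2 p, y ≠ 1 ∧ Commute (w * (e : G)) (y : G) := by
        intro p hp hp1 hpe hip
        obtain ⟨y, hy, hy1⟩ := TwoQ27.exists_ne_one (hS p hp hp1).1
        refine ⟨y, hy, hy1, mul_inv_eq_iff_eq_mul.1 ?_⟩
        calc w * (e : G) * y * (w * (e : G))⁻¹ = w * ((e : G) * y * (e : G)⁻¹) * w⁻¹ := by group
          _ = (w * y * w⁻¹)⁻¹ := by rw [hinv p hp hp1 hpe y hy]; group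
          _ = y := by rw [hip y hy, inv_inv]
      refine key (w * (e : G)) (fun h' => hwN ?_) (Or.inl ?_)
        (fun v hv => (hwT v hv).mul_left ?_) c hc hc1 d hd hd1 hcd
        (hfix2 c hc hc1 (fun e0 => hd1 (mul_eq_left.1 (he ▸ e0.symm))) hic)
        (hfix2 d hd hd1 (fun e0 => hc1 (mul_eq_right.1 (he ▸ e0.symm))) hid)
      · have := N.mul_mem h' (N.inv_mem e.2)
        rwa [mul_inv_cancel_right] at this
      · rw [show w * (e : G) * (w * (e : G)) = w * ((e : G) * w) * e by group, ← hew.eq,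
          show w * (w * (e : G)) * e = (w * w) * ((e : G) * e) by group, hww, one_mul]
        exact congrArg Subtype.val (hsq e heT)
      · exact congrArg Subtype.val (hN.comm_of_mem T.isPGroup' heT hv)
    have hdich : ∀ c ∈ (T : Subgroup N),
        (∃ y ∈ centralizerPPrimeCore 2 c, y ≠ 1 ∧ Commute w (y : G)) ∨
        ∀ y ∈ centralizerPPrimeCore 2 c, w * (y : G) * w⁻¹ = (y : G)⁻¹ := by
      intro c hc
      by_contra hcon
      push Not at hcon
      obtain ⟨hnofix, y, hy, hyne⟩ := hcon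
      have hwi : w⁻¹ = w := inv_eq_of_mul_eq_one_right hww
      apply hyne
      rw [hwi]
      refine OddCoreOrth52.inverts_of_fpf w ((centralizerPPrimeCore 2 c).map N.subtype) hww ?_ ?_
        ⟨y, hy, rfl⟩
      · rintro _ ⟨z, hz, rfl⟩
        refine ⟨MulAut.conjNormal w z, hnorm w (hnc q) c hc z hz, ?_⟩
        show ((MulAut.conjNormal w z : N) : G) = w * z * w
        rw [MulAut.conjNormal_apply, hwi]
      · rintro _ ⟨z, hz, rfl⟩ hcomm
        by_contra hz1
        exact hnofix z hz (fun e => hz1 (by rw [e, map_one])) hcomm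
    obtain ⟨b, hb, hb1, hab⟩ : ∃ b ∈ (T : Subgroup N), b ≠ 1 ∧ a ≠ b :=
      ⟨g * a * g⁻¹, (mem_normalizer_iff.1 hgN a).1 ha,
        fun e => ha1 (by rwa [conj_eq_one_iff] at e), (hgfix a ha ha1).symm⟩
    have hcT : a * b ∈ (T : Subgroup N) := mul_mem ha hb
    have hc1 : a * b ≠ 1 := fun e0 => hab (by
      rw [mul_eq_one_iff_eq_inv] at e0
      rwa [inv_eq_of_mul_eq_one_right (hsq b hb)] at e0)
    have hac : a ≠ a * b := fun e => hb1 (mul_eq_left.1 e.symm)
    have hbc : b ≠ a * b := fun e => ha1 (mul_eq_right.1 e.symm)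
    rcases hdich a ha with fa | ia <;> rcases hdich b hb with fb | ib <;>
      rcases hdich _ hcT with fc | ic
    all_goals first
      | exact key w hwN (Or.inl hww) (hnc q) a ha ha1 b hb hb1 hab fa fb
      | exact key w hwN (Or.inl hww) (hnc q) a ha ha1 _ hcT hc1 hac fa fc
      | exact key w hwN (Or.inl hww) (hnc q) b hb hb1 _ hcT hc1 hbc fb fc
      | exact hfalse w hwN hww (hnc q) a ha ha1 b hb hb1 hab ia ib
      | exact hfalse w hwN hww (hnc q) a ha ha1 _ hcT hc1 hac ia ic
      | exact hfalse w hwN hww (hnc q) b hb hb1 _ hcT hc1 hbc ib ic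
  · -- an outer element of order `q`
    set w := n ^ (q + 1) with hwdef
    have hwq : w ^ q = 1 := by
      obtain ⟨k, hk⟩ := h.odd_q
      rw [hwdef, ← pow_mul, show (q + 1) * q = (2 * q) * (k + 1) by rw [hk]; ring, pow_mul, hn2,
        one_pow]
    set α : MulAut N := MulAut.conjNormal w with hα
    have hαq : α ^ q = 1 := by rw [hα, ← map_pow, hwq, map_one]
    have hfixed : ∀ c ∈ (T : Subgroup N), c ≠ 1 →
        ∃ y ∈ centralizerPPrimeCore 2 c, y ≠ 1 ∧ Commute w (y : G) := by
      intro c hc hc1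
      have hP : ∀ (x : zpowers α) (v : N), v ∈ centralizerPPrimeCore 2 c →
          (x : MulAut N) v ∈ centralizerPPrimeCore 2 c := by
        rintro ⟨x, hx⟩ v hv
        obtain ⟨k, rfl⟩ := (Submonoid.mem_powers_iff _ _).1 (mem_powers_iff_mem_zpowers.2 hx)
        show (α ^ k) v ∈ centralizerPPrimeCore 2 c
        clear hx
        induction k with
        | zero => simpa using hv
        | succ k ih => rw [pow_succ', MulAut.mul_apply]; exact hnorm w (hnc (q + 1)) c hc _ ih
      letI : MulAction (zpowers α) (centralizerPPrimeCore 2 c) :=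
        { smul := fun x v => ⟨(x : MulAut N) v.1, hP x v.1 v.2⟩
          one_smul := fun v => Subtype.ext rfl
          mul_smul := fun x y v => Subtype.ext rfl }
      have hOq : IsPGroup q (centralizerPPrimeCore 2 c) := hN.isPGroup_of_invariant T.isPGroup'
        h4.ge ((fun d hd => SignalizerBasic.centralizer_le_normalizer_centralizerPPrimeCore 2 c
          (mem_centralizer_singleton_iff.2 (hN.comm_of_mem T.isPGroup' hd hc))) :
            (T : Subgroup N) ≤ _) (odd_card_centralizerCore c)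
      obtain ⟨i, hi⟩ := IsPGroup.iff_card.1 hOq
      have hdvd : q ∣ Nat.card (centralizerPPrimeCore 2 c) := by
        rcases i with _ | i
        · exact absurd (eq_bot_of_card_eq _ (by simpa using hi)) (hS c hc hc1).1
        · rw [hi]; exact dvd_pow_self q i.succ_ne_zero
      obtain ⟨y, hyfix, hy1⟩ := (SignalizerCoprime.isPGroup_zpowers (p := q) hαq
        ).exists_fixed_point_of_prime_dvd_card_of_fixed_point (centralizerPPrimeCore 2 c) hdvd
          (a := (1 : centralizerPPrimeCore 2 c)) (fun x => Subtype.ext (map_one (x : MulAut N)))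
      refine ⟨y.1, y.2, fun e => hy1 (Subtype.ext e.symm), mul_inv_eq_iff_eq_mul.1 ?_⟩
      have := congrArg (fun v : centralizerPPrimeCore 2 c => ((v : N) : G))
        (hyfix ⟨α, mem_zpowers α⟩)
      exact (MulAut.conjNormal_apply w y.1).symm.trans this
    have hgaT := (mem_normalizer_iff.1 hgN a).1 ha
    have hga1 : g * a * g⁻¹ ≠ 1 := fun e => ha1 (by rwa [conj_eq_one_iff] at e)
    exact key w hq' (Or.inr hwq) (hnc (q + 1)) a ha ha1 _ hgaT hga1 (hgfix a ha ha1).symm
      (hfixed a ha ha1) (hfixed _ hgaT hga1)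

end Cfsg.Agent.ThreeOrd27
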