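import Mathlib
import Cfsg.Agent.Lib.ThreeOrd27Basic
import Cfsg.Agent.Lib.CIT21Main
import Cfsg.Agent.Lib.CIT21Frobenius
import Cfsg.Agent.Lib.CoprimeSZ

/-!
# Almost simple groups with `2`-group centralisers of involutions and small element orders are simple

`G` has `2`-group centralisers of involutions, its `2`-elements have order at most four, and `N` is a
normal non-abelian simple subgroup: then `N = G`.
-/

set_option autoImplicit false
set_option linter.style.haveILetI false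
set_option linter.unusedSectionVars false

namespace Cfsg.Agent.ThreeOrd27

open Subgroup
open scoped Pointwise
open Cfsg.Agent.TICentralizers82 (cn nm kk stab Pts base mem_of_coprime smul_base_eq)

universe u

variable {G : Type u} [Group G] [Finite G]

theorem cit_subgroup (H : CIT21.IsCIT G) (N : Subgroup G) : CIT21.IsCIT N := by
  intro t ht
  have h := H (t : G) (by rw [Subgroup.orderOf_coe, ht])
  rw [IsPGroup.iff_orderOf] at h ⊢
  intro c
  obtain ⟨k, hk⟩ := h ⟨((c : N) : G), mem_centralizer_singleton_iff.2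
    (congrArg Subtype.val (mem_centralizer_singleton_iff.1 c.2))⟩
  rw [Subgroup.orderOf_mk, Subgroup.orderOf_coe, Subgroup.orderOf_coe] at hk
  exact ⟨k, hk⟩

theorem pCore_eq_bot_of_simple {p : ℕ} [Fact p.Prime] [IsSimpleGroup G]
    (hna : ∃ a b : G, a * b ≠ b * a) : Cfsg.pCore p G = ⊥ := by
  haveI := HallCore.pCore_normal p G
  rcases (inferInstance : (Cfsg.pCore p G).Normal).eq_bot_or_eq_top with h | h
  · exact h
  exfalso
  have hp : IsPGroup p G := (HallCore.isPGroup_pCore p G).of_equiv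
    ((MulEquiv.subgroupCongr h).trans Subgroup.topEquiv)
  haveI := hp.isNilpotent
  obtain ⟨a, b, hab⟩ := hna
  exact hab ((IsSimpleGroup.comm_iff_isSolvable.2 (inferInstance : Group.IsSolvable G)) a b)

theorem two_dvd_of_simple [IsSimpleGroup G] (hna : ∃ a b : G, a * b ≠ b * a) :
    2 ∣ Nat.card G := by
  by_contra h2
  obtain ⟨a, b, hab⟩ := hna
  exact hab ((IsSimpleGroup.comm_iff_isSolvable.2
    (Cfsg.Agent.S0205.result (Nat.odd_iff.2 (by omega)))) a b)

/-- Some involution inverts a non-trivial element of odd order. -/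
theorem exists_inverted [IsSimpleGroup G] (hna : ∃ a b : G, a * b ≠ b * a) {t : G}
    (ht : orderOf t = 2) : ∃ h : G, h ≠ 1 ∧ Odd (orderOf h) ∧ t * h * t⁻¹ = h⁻¹ := by
  haveI := Fact.mk Nat.prime_two
  refine BaerSuzuki.exists_inverted_odd t ht fun M hM hMp hmem => ?_
  haveI := hM
  have := HallCore.le_pCore hMp hmem
  rw [pCore_eq_bot_of_simple hna, Subgroup.mem_bot] at this
  rw [this, orderOf_one] at ht
  omega

/-- The quotient by the simple normal subgroup is a `2`-group. -/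
theorem outer_two (H : CIT21.IsCIT G) (N : Subgroup G) [N.Normal] (hNs : IsSimpleGroup N)
    (hna : ∃ a b : N, a * b ≠ b * a) (g : G) : ∃ k : ℕ, g ^ 2 ^ k ∈ N := by
  haveI := hNs
  haveI := Fact.mk Nat.prime_two
  obtain ⟨t, ht⟩ := exists_prime_orderOf_dvd_card' 2 (two_dvd_of_simple hna)
  obtain ⟨h, hh1, hho, hth⟩ := exists_inverted hna ht
  obtain ⟨r, hr, hrd⟩ := Nat.exists_prime_and_dvd
    (show orderOf h ≠ 1 from fun e => hh1 (orderOf_eq_one_iff.1 e))
  haveI := Fact.mk hr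
  set x := h ^ (orderOf h / r) with hxdef
  have hxo : orderOf x = r := orderOf_pow_orderOf_div (orderOf_pos h).ne' hrd
  have hr2 : r ≠ 2 := fun e => by
    subst e
    exact Nat.not_even_iff_odd.2 hho (even_iff_two_dvd.2 hrd)
  have hx1 : x ≠ 1 := fun e => hr.ne_one (by rw [← hxo, e, orderOf_one])
  have htx : t * x * t⁻¹ = x⁻¹ := by rw [hxdef, ← conj_pow, hth, inv_pow]
  have HN := cit_subgroup H N
  have hxodd : Odd (orderOf x) := hxo ▸ hr.odd_of_ne_two hr2
  obtain ⟨R, hR⟩ := (IsPGroup.of_card (n := 1) (by rw [Nat.card_zpowers, hxo, pow_one]) :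
    IsPGroup r (zpowers x)).exists_le_sylow
  have hxR : x ∈ (R : Subgroup N) := hR (mem_zpowers x)
  haveI : Nontrivial (R : Subgroup N) := nontrivial_iff_exists_ne 1 |>.2
    ⟨⟨x, hxR⟩, fun e => hx1 (congrArg Subtype.val e)⟩
  haveI := R.isPGroup'.center_nontrivial
  obtain ⟨z0, hz0⟩ := exists_ne (1 : center (R : Subgroup N))
  set z : N := ((z0 : (R : Subgroup N)) : N) with hz
  have hz1 : z ≠ 1 := fun e => hz0 (Subtype.ext (Subtype.ext e))
  have hzR : z ∈ (R : Subgroup N) := (z0 : (R : Subgroup N)).2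
  have hzc : ∀ y ∈ (R : Subgroup N), y * z = z * y := fun y hy =>
    congrArg Subtype.val (mem_center_iff.1 z0.2 ⟨y, hy⟩)
  have hRodd : Odd (Nat.card (R : Subgroup N)) := by
    obtain ⟨i, hi⟩ := IsPGroup.iff_card.1 R.isPGroup'
    rw [hi]; exact (hr.odd_of_ne_two hr2).pow
  have hzodd : Odd (orderOf z) := hRodd.of_dvd_nat (Subgroup.orderOf_dvd_natCard _ hzR)
  -- `t` normalises the centraliser of every element it inverts
  have hnorm : ∀ y : N, t * y * t⁻¹ = y⁻¹ → t ∈ normalizer (centralizer ({y} : Set N) : Set N) := by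
    intro y hy
    have hstep : ∀ w, w ∈ centralizer ({y} : Set N) → t * w * t⁻¹ ∈ centralizer ({y} : Set N) := by
      intro w hw
      rw [mem_centralizer_singleton_iff] at hw ⊢
      have e : t * y⁻¹ * t⁻¹ = y := by rw [← conj_inv, hy, inv_inv]
      calc t * w * t⁻¹ * y = t * w * t⁻¹ * (t * y⁻¹ * t⁻¹) := by rw [e]
        _ = t * (w * y⁻¹) * t⁻¹ := by group
        _ = t * (y⁻¹ * w) * t⁻¹ := by
          rw [((show Commute w y from hw).inv_right).eq]
        _ = (t * y⁻¹ * t⁻¹) * (t * w * t⁻¹) := by group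
        _ = y * (t * w * t⁻¹) := by rw [e]
    refine mem_normalizer_iff.2 fun w => ⟨hstep w, fun hw => ?_⟩
    have h' := hstep _ hw
    have htt : t * t = 1 := by rw [← pow_two, ← ht, pow_orderOf_eq_one]
    rwa [show t * (t * w * t⁻¹) * t⁻¹ = (t * t) * w * (t * t)⁻¹ by group, htt, one_mul, inv_one,
      mul_one] at h'
  have htz : t * z * t⁻¹ = z⁻¹ := inverts_of_cit HN ht (odd_centralizer HN hxodd hx1) (hnorm x htx)
    (mem_centralizer_singleton_iff.2 (hzc x hxR).symm)
  have htR : ∀ y ∈ (R : Subgroup N), t * y * t⁻¹ = y⁻¹ := fun y hy =>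
    inverts_of_cit HN ht (odd_centralizer HN hzodd hz1) (hnorm z htz)
      (mem_centralizer_singleton_iff.2 (hzc y hy))
  -- Frattini twice
  set R' := (R : Subgroup N).map N.subtype with hR'
  set M := normalizer (R' : Set G) with hM
  have htM : ((t : N) : G) ∈ M := by
    have hmap : ∀ y ∈ R', (t : G) * y * (t : G)⁻¹ ∈ R' := by
      rintro _ ⟨y, hy, rfl⟩
      exact ⟨t * y * t⁻¹, by rw [htR y hy]; exact inv_mem hy, rfl⟩
    refine mem_normalizer_iff.2 fun y => ⟨hmap y, fun hy => ?_⟩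
    have h' := hmap _ hy
    have htt : (t : G) * t = 1 := by
      rw [← pow_two, ← ht, ← Subgroup.orderOf_coe, pow_orderOf_eq_one]
    rwa [show (t : G) * ((t : G) * y * (t : G)⁻¹) * (t : G)⁻¹ =
      ((t : G) * t) * y * ((t : G) * t)⁻¹ by group, htt, one_mul, inv_one, mul_one] at h'
  have htop : M ⊔ N = ⊤ := Sylow.normalizer_sup_eq_top R
  haveI : (N.subgroupOf M).Normal := inferInstance
  obtain ⟨U⟩ := (inferInstance : Nonempty (Sylow 2 (N.subgroupOf M)))
  set U' := (U : Subgroup (N.subgroupOf M)).map (N.subgroupOf M).subtype with hU'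
  have htop' : normalizer (U' : Set M) ⊔ N.subgroupOf M = ⊤ := Sylow.normalizer_sup_eq_top U
  have hUp : IsPGroup 2 U' := U.isPGroup'.map _
  have hinvU : ∀ u : M, u ∈ U' → orderOf u = 2 → ∀ y ∈ R', (u : G) * y * (u : G)⁻¹ = y⁻¹ :=
    fun u hu hu2 y hy => inverts_of_cit H (by rw [Subgroup.orderOf_coe, hu2])
      (by rw [hR', Subgroup.card_map_of_injective N.subtype_injective]; exact hRodd) u.2 hy
  -- the unique involution of `U'`
  obtain ⟨u, huU, hu2⟩ : ∃ u ∈ U', orderOf u = 2 := by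
    have hdvd : 2 ∣ Nat.card (N.subgroupOf M) := by
      have := Subgroup.orderOf_dvd_natCard (N.subgroupOf M)
        (x := (⟨(t : G), htM⟩ : M)) (by simp [Subgroup.mem_subgroupOf])
      rwa [Subgroup.orderOf_mk, Subgroup.orderOf_coe, ht] at this
    obtain ⟨v, hv⟩ := exists_prime_orderOf_dvd_card' (G := (U : Subgroup (N.subgroupOf M))) 2
      (U.dvd_card_of_dvd_card hdvd)
    exact ⟨_, mem_map_of_mem _ v.2, by
      rw [Subgroup.coe_subtype, Subgroup.orderOf_coe, Subgroup.orderOf_coe, hv]⟩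
  have huniq : ∀ v : M, v ∈ U' → orderOf v = 2 → v = u := by
    intro v hv hv2
    by_contra hne
    have hvu : v * u ≠ 1 := fun e => hne (by
      rw [mul_eq_one_iff_eq_inv.1 e]
      exact inv_eq_of_mul_eq_one_right (by rw [← pow_two, ← hu2, pow_orderOf_eq_one]))
    obtain ⟨k, hk⟩ := hUp ⟨v * u, U'.mul_mem hv huU⟩
    have hxR' : ((x : N) : G) ∈ R' := mem_map_of_mem _ hxR
    have e1 := hinvU v hv hv2 _ (inv_mem hxR')
    have e2 := hinvU u huU hu2 _ hxR'
    refine CITGraph39.false_of_commute_two H hr hr2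
      (by rw [Subgroup.orderOf_coe, hxo] : orderOf ((x : N) : G) = r)
      ⟨k, by simpa using congrArg (fun w : U' => ((w : M) : G)) hk⟩
      (fun e => hvu (Subtype.ext e)) ?_
    refine (mul_inv_eq_iff_eq_mul.1 (?_ : ((v * u : M) : G) * x * ((v * u : M) : G)⁻¹ = x)).symm
    rw [Subgroup.coe_mul]
    calc (v : G) * u * x * ((v : G) * u)⁻¹ = (v : G) * ((u : G) * x * (u : G)⁻¹) * (v : G)⁻¹ := by
          group
      _ = (x : G) := by rw [e2, e1, inv_inv]
  have hg : g ∈ (↑(M ⊔ N) : Set G) := by rw [htop]; trivial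
  rw [mul_normal] at hg
  obtain ⟨m, hm, n, hn, rfl⟩ := hg
  have hm' : (⟨m, hm⟩ : M) ∈ (↑(normalizer (U' : Set M) ⊔ N.subgroupOf M) : Set M) := by
    rw [htop']; trivial
  rw [mul_normal] at hm'
  obtain ⟨m₁, hm₁, n₁, hn₁, heq⟩ := hm'
  have hfix : (m₁ : G) * u * (m₁ : G)⁻¹ = u := by
    have h1 : m₁ * u * m₁⁻¹ ∈ U' := (mem_normalizer_iff.1 hm₁ u).1 huU
    have := huniq _ h1 (by rw [← hu2]; exact (MulAut.conj m₁).orderOf_eq u)
    exact congrArg Subtype.val this
  obtain ⟨k, hk⟩ := H (u : G) (by rw [Subgroup.orderOf_coe, hu2])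
    ⟨(m₁ : G), mem_centralizer_singleton_iff.2 (mul_inv_eq_iff_eq_mul.1 hfix)⟩
  refine ⟨k, ?_⟩
  rw [← QuotientGroup.eq_one_iff (N := N)]
  show QuotientGroup.mk' N ((m * n) ^ 2 ^ k) = 1
  have hmeq : m = (m₁ : G) * n₁ := (congrArg Subtype.val heq).symm
  have hn' : QuotientGroup.mk' N n = 1 := (QuotientGroup.eq_one_iff n).2 hn
  have hn₁' : QuotientGroup.mk' N (n₁ : G) = 1 := (QuotientGroup.eq_one_iff (n₁ : G)).2 hn₁
  have hk' : (m₁ : G) ^ 2 ^ k = 1 := congrArg Subtype.val hk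
  rw [map_pow, hmeq, map_mul, map_mul, hn', hn₁', mul_one, mul_one, ← map_pow, hk', map_one]

/-- An element of odd order of `N` normalising a `2`-subgroup `U` of `N` forces `C(U) ≤ N` on
`2`-elements. -/
theorem cent_two_mem (H : CIT21.IsCIT G) {N : Subgroup G} [N.Normal] {U : Subgroup G}
    (hU : IsPGroup 2 U) (hU1 : U ≠ ⊥) {h s : G} (hhN : h ∈ N)
    (hhU : h ∈ normalizer (U : Set G)) (hho : Odd (orderOf h)) (hh1 : h ≠ 1)
    (hs : s ∈ centralizer (U : Set G)) (hs2 : ∃ k : ℕ, s ^ 2 ^ k = 1) : s ∈ N := by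
  haveI := Fact.mk Nat.prime_two
  obtain ⟨r, hr, hrd⟩ := Nat.exists_prime_and_dvd
    (show orderOf h ≠ 1 from fun e => hh1 (orderOf_eq_one_iff.1 e))
  set x := h ^ (orderOf h / r) with hxdef
  have hxo : orderOf x = r := orderOf_pow_orderOf_div (orderOf_pos h).ne' hrd
  have hr2 : r ≠ 2 := fun e => by
    subst e
    exact Nat.not_even_iff_odd.2 hho (even_iff_two_dvd.2 hrd)
  set T := N ⊓ centralizer (U : Set G) with hT
  have hTp : IsPGroup 2 T := by
    obtain ⟨u, hu, hu1⟩ : ∃ u ∈ U, u ≠ 1 := by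
      by_contra hcon
      push Not at hcon
      exact hU1 ((eq_bot_iff_forall U).2 hcon)
    obtain ⟨k, hk⟩ := hU ⟨u, hu⟩
    obtain ⟨i, hi⟩ := CITGraph39.exists_involution_pow
      ⟨k, by simpa using congrArg Subtype.val hk⟩ hu1
    exact (H _ hi).to_le (inf_le_right.trans
      (centralizer_le (Set.singleton_subset_iff.2 (U.pow_mem hu i))))
  by_contra hsN
  have hxN : x ∈ N := N.pow_mem hhN _
  have hxU : x ∈ normalizer (U : Set G) := pow_mem hhU _
  have hnormC : ∀ y, y ∈ normalizer (U : Set G) →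
      y ∈ normalizer (centralizer (U : Set G) : Set G) := fun y hy =>
    SignalizerCoprime.le_normalizer_centralizer (A := normalizer (U : Set G)) le_rfl hy
  have hnormT : ∀ y, y ∈ normalizer (U : Set G) → y ∈ normalizer (T : Set G) := fun y hy => by
    refine mem_normalizer_iff.2 fun w => ?_
    have h1 := mem_normalizer_iff.1 (show y ∈ normalizer (N : Set G) by
      rw [normalizer_eq_top_iff.2 (inferInstance : N.Normal)]; trivial) w
    have h2 := mem_normalizer_iff.1 (hnormC y hy) w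
    simp only [hT, mem_inf]
    rw [h1, h2]
  have hsU : s ∈ normalizer (U : Set G) := centralizer_le_normalizer _ hs
  refine CITGraph39.false_of_coset H hTp hr hr2 hxo (hnormT x hxU) (hnormT s hsU) hs2
    (fun hsT => hsN hsT.1) ⟨?_, ?_⟩
  · rw [show x * s * x⁻¹ * s⁻¹ = x * (s * x⁻¹ * s⁻¹) by group]
    exact N.mul_mem hxN ((inferInstance : N.Normal).conj_mem _ (N.inv_mem hxN) s)
  · exact Subgroup.mul_mem _ ((mem_normalizer_iff.1 (hnormC x hxU) s).1 hs) (Subgroup.inv_mem _ hs)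

omit [Finite G] in
theorem mem_map_subtype {N : Subgroup G} {P : Subgroup N} {w : N} :
    (w : G) ∈ P.map N.subtype ↔ w ∈ P :=
  ⟨fun ⟨_, hw', e⟩ => (N.subtype_injective e) ▸ hw', fun hw => ⟨w, hw, rfl⟩⟩

/-- An element of `N` normalising the image of `P` normalises `P`. -/
theorem mem_normalizer_of_map {N : Subgroup G} {P : Subgroup N} {y : N}
    (hy : (y : G) ∈ normalizer (P.map N.subtype : Set G)) : y ∈ normalizer (P : Set N) :=
  mem_normalizer_iff.2 fun w => by
    rw [← mem_map_subtype (w := w), ← mem_map_subtype (w := y * w * y⁻¹)]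
    exact mem_normalizer_iff.1 hy (w : G)

/-- The TI case. -/
theorem ti_eq_top (H : CIT21.IsCIT G) (N : Subgroup G) [N.Normal] (hNs : IsSimpleGroup N)
    (hna : ∃ a b : N, a * b ≠ b * a)
    (hTI : ∀ S T : Sylow 2 N, S ≠ T → (S : Subgroup N) ⊓ (T : Subgroup N) = ⊥) : N = ⊤ := by
  haveI := hNs
  haveI := Fact.mk Nat.prime_two
  have HN := cit_subgroup H N
  obtain ⟨t, ht, hcc, hti⟩ := CIT21.frobenius_data HN hNs hna hTI
  have C := CIT21Frob5.cfg_of_simple hna ht hcc hti
  by_contra hne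
  obtain ⟨g, hg⟩ : ∃ g, g ∉ N := by
    by_contra hall
    push Not at hall
    exact hne (eq_top_iff.2 fun g _ => hall g)
  -- the Sylow subgroup `cn t`
  have hcn : IsPGroup 2 (cn t) := HN t ht
  have h2cn : 2 ∣ Nat.card (cn t) := ht ▸ Subgroup.orderOf_dvd_natCard _ C.t_mem
  have hidx : ¬ 2 ∣ (cn t).index := fun h2 => Nat.prime_two.not_dvd_one
    (C.hall ▸ Nat.dvd_gcd h2cn h2)
  set S₀ := hcn.toSylow hidx with hS₀
  set T := (cn t).map N.subtype with hT
  have htop : normalizer (T : Set G) ⊔ N = ⊤ := by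
    have := Sylow.normalizer_sup_eq_top S₀
    rwa [hS₀, IsPGroup.toSylow_coe] at this
  have hg' : g ∈ (↑(normalizer (T : Set G) ⊔ N) : Set G) := by rw [htop]; trivial
  rw [mul_normal] at hg'
  obtain ⟨m, hm, n, hn, rfl⟩ := hg'
  have hmN : m ∉ N := fun h => hg (mul_mem h hn)
  -- two-point stabiliser
  obtain ⟨p, hp⟩ := C.exists_point
  set K := (stab t p).map N.subtype with hK
  have hKc : Nat.card K = kk t := by
    rw [hK, card_map_of_injective N.subtype_injective, C.card_stab hp]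
  have hTc : Nat.card T = Nat.card (cn t) := card_map_of_injective N.subtype_injective
  have hcop : (Nat.card K).Coprime (Nat.card T) := by rw [hKc, hTc]; exact C.coprime_kk.symm
  have hKn : K ≤ (nm t).map N.subtype := map_mono inf_le_left
  have hnT : (nm t).map N.subtype ≤ normalizer (T : Set G) :=
    Subgroup.le_normalizer_map N.subtype
  have hsup : T ⊔ K = (nm t).map N.subtype := by
    refine eq_of_le_of_card_ge (sup_le (map_mono le_normalizer) hKn) ?_
    have h1 : Nat.card T * Nat.card K ∣ Nat.card (T ⊔ K : Subgroup G) :=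
      Nat.Coprime.mul_dvd_of_dvd_of_dvd hcop.symm (card_dvd_of_le le_sup_left)
        (card_dvd_of_le le_sup_right)
    rw [card_map_of_injective N.subtype_injective, TICentralizers82.card_nm, ← hTc, ← hKc]
    exact Nat.le_of_dvd Nat.card_pos h1
  have hKsol : Group.IsSolvable K := by
    refine Cfsg.Agent.S0205.result ?_
    rw [hKc]; exact C.odd
  have hmK : K.map (MulAut.conj m).toMonoidHom ≤ T ⊔ K := by
    rintro _ ⟨d, hd, rfl⟩
    rw [hsup]
    obtain ⟨d', hd', rfl⟩ := hd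
    refine ⟨⟨m * d' * m⁻¹, (inferInstance : N.Normal).conj_mem _ d'.2 m⟩, ?_, rfl⟩
    exact mem_normalizer_of_map
      (mul_mem (mul_mem hm (hnT (mem_map_of_mem _ hd'.1))) (inv_mem hm))
  obtain ⟨τ, hτ, hτK⟩ := CoprimeSZ.exists_conj_of_card_eq (N := T) (A := K)
    (B := K.map (MulAut.conj m).toMonoidHom) (hKn.trans hnT) hcop (Or.inl hKsol) hmK
    (card_map_of_injective (MulAut.conj m).injective)
  -- `m' = τ⁻¹ m` normalises `K`
  set m' := τ⁻¹ * m with hm'def
  have hTN : T ≤ N := map_subtype_le _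
  have hm'T : m' ∈ normalizer (T : Set G) := mul_mem (inv_mem (le_normalizer hτ)) hm
  have hm'K : ∀ d, d ∈ K → m' * d * m'⁻¹ ∈ K := by
    intro d hd
    have h1 : m * d * m⁻¹ ∈ MulAut.conj τ • K := by rw [hτK]; exact ⟨d, hd, rfl⟩
    rw [CoprimeSZ.mem_conj_smul] at h1
    have e : m' * d * m'⁻¹ = τ⁻¹ * (m * d * m⁻¹) * τ := by rw [hm'def]; group
    rw [e]; exact h1
  have hm'KN : m' ∈ normalizer (K : Set G) :=
    SignalizerCoprime.le_normalizer_of_forall (A := zpowers m') (fun a ha d hd => by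
      obtain ⟨i, rfl⟩ := Subgroup.mem_zpowers_iff.1 ha
      have hcl : ∀ j : ℕ, ∀ d ∈ K, m' ^ j * d * (m' ^ j)⁻¹ ∈ K := by
        intro j
        induction j with
        | zero => intro d hd; simpa using hd
        | succ j ih =>
          intro d hd
          rw [show m' ^ (j + 1) * d * (m' ^ (j + 1))⁻¹ =
            m' * (m' ^ j * d * (m' ^ j)⁻¹) * m'⁻¹ by rw [pow_succ']; group]
          exact hm'K _ (ih d hd)
      obtain ⟨j, hj⟩ : ∃ j : ℕ, m' ^ i = m' ^ j :=
        ⟨(i % orderOf m').toNat, by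
          rw [← zpow_natCast, Int.toNat_of_nonneg (Int.emod_nonneg _
            (by exact_mod_cast (orderOf_pos m').ne')), zpow_mod_orderOf]⟩
      rw [hj]; exact hcl j d hd) (mem_zpowers m')
  have hm'N : m' ∉ N := fun h => hmN (by
    have := N.mul_mem (hTN hτ) h
    rwa [hm'def, mul_inv_cancel_left] at this)
  -- its `2`-part
  obtain ⟨a, b, hb, hab⟩ := Nat.exists_eq_two_pow_mul_odd (orderOf_pos m').ne'
  have hex : ∃ j : ℕ, (m' ^ b) ^ 2 ^ j ∈ N := ⟨a, by
    rw [← pow_mul, mul_comm, ← hab, pow_orderOf_eq_one]; exact one_mem N⟩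
  have hb0 : (m' ^ b) ∉ N := by
    intro hmem
    obtain ⟨k, hk⟩ := outer_two H N hNs hna m'
    refine hm'N ?_
    rw [← QuotientGroup.eq_one_iff (N := N)] at hmem hk ⊢
    rw [QuotientGroup.mk_pow] at hmem hk
    exact orderOf_eq_one_iff.1 (Nat.eq_one_of_dvd_coprimes (hb.coprime_two_right.pow_right k)
      (orderOf_dvd_of_pow_eq_one hmem) (orderOf_dvd_of_pow_eq_one hk))
  classical
  set j := Nat.find hex with hj
  obtain ⟨i, hi⟩ : ∃ i, j = i + 1 := by
    refine ⟨j - 1, ?_⟩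
    have : j ≠ 0 := fun e => hb0 (by simpa [← hj, e] using Nat.find_spec hex)
    omega
  set x := (m' ^ b) ^ 2 ^ i with hxdef
  have hxN : x ∉ N := Nat.find_min hex (by omega : i < j)
  have hx2N : x * x ∈ N := by
    have := Nat.find_spec hex
    rw [← hj, hi, pow_succ, pow_mul, pow_two] at this
    exact this
  have hxT : x ∈ normalizer (T : Set G) := pow_mem (pow_mem hm'T _) _
  have hxK : x ∈ normalizer (K : Set G) := pow_mem (pow_mem hm'KN _) _
  have hx2elt : ∃ k : ℕ, x ^ 2 ^ k = 1 := ⟨a, by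
    rw [hxdef, ← pow_mul, ← pow_mul, show b * (2 ^ i * 2 ^ a) = (2 ^ a * b) * 2 ^ i by ring, ← hab,
      pow_mul, pow_orderOf_eq_one, one_pow]⟩
  have hxx : x * x = 1 := by
    by_contra hne1
    obtain ⟨k, hk⟩ := hx2elt
    have hk' : (x * x) ^ 2 ^ k = 1 := by rw [← pow_two, ← pow_mul, mul_comm, pow_mul, hk, one_pow]
    have hmem : (⟨x * x, hx2N⟩ : N) ∈ nm t := mem_normalizer_of_map (mul_mem hxT hxT)
    have hin : (⟨x * x, hx2N⟩ : N) ∈ cn t := by
      refine mem_of_coprime hmem (Nat.Coprime.coprime_dvd_left ?_ C.coprime_kk)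
      have hord : orderOf (⟨x * x, hx2N⟩ : N) ∣ 2 ^ k :=
        orderOf_dvd_of_pow_eq_one (Subtype.ext (by simpa using hk'))
      obtain ⟨l, hl⟩ := IsPGroup.iff_card.1 hcn
      obtain ⟨i', hi', e⟩ := (Nat.dvd_prime_pow Nat.prime_two).1 hord
      have hmem' : (⟨x * x, hx2N⟩ : N) ∈ nm t := hmem
      have h1 : orderOf (⟨x * x, hx2N⟩ : N) ∣ Nat.card (nm t) :=
        Subgroup.orderOf_dvd_natCard _ hmem'
      rw [TICentralizers82.card_nm] at h1
      rw [e] at h1 ⊢
      exact (Nat.Coprime.pow_left i' (Nat.coprime_two_left.2 C.odd)).dvd_of_dvd_mul_right h1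
    obtain ⟨d, hdK, hd1⟩ : ∃ d ∈ stab t p, d ≠ 1 := by
      by_contra hcon
      push Not at hcon
      exact C.ne (by rw [← C.card_stab hp, (eq_bot_iff_forall _).2 hcon, card_bot])
    have hcomm : (⟨x * x, hx2N⟩ : N) * d * (⟨x * x, hx2N⟩ : N)⁻¹ * d⁻¹ ∈ cn t ⊓ stab t p := by
      refine ⟨?_, ?_⟩
      · rw [mul_assoc, mul_assoc, ← mul_assoc d]
        exact Subgroup.mul_mem _ hin ((mem_normalizer_iff.1 hdK.1 _).1 (Subgroup.inv_mem _ hin))
      · refine Subgroup.mul_mem _ ?_ (Subgroup.inv_mem _ hdK)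
        obtain ⟨d', hd', e⟩ := (mem_normalizer_iff.1 (mul_mem hxK hxK) (d : G)).1 ⟨d, hdK, rfl⟩
        have : (⟨x * x, hx2N⟩ : N) * d * (⟨x * x, hx2N⟩ : N)⁻¹ = d' := Subtype.ext e.symm
        rw [this]; exact hd'
    have h1 := C.mem_cn_stab hp hcomm.1 hcomm.2
    rw [mul_inv_eq_one, mul_inv_eq_iff_eq_mul] at h1
    have hodd : Odd (orderOf d) :=
      (C.odd_stab hp).of_dvd_nat (Subgroup.orderOf_dvd_natCard _ hdK)
    have h2 : IsPGroup 2 (centralizer ({(⟨x * x, hx2N⟩ : N)} : Set N)) :=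
      CIT21.isPGroup_centralizer_elt HN ⟨k, Subtype.ext (by simpa using hk')⟩
        (fun e => hne1 (congrArg Subtype.val e))
    obtain ⟨l, hl⟩ := h2 ⟨d, mem_centralizer_singleton_iff.2 h1.symm⟩
    exact hd1 (CIT21.eq_one_of_odd_twoElt hodd ⟨l, congrArg Subtype.val hl⟩)
  -- `x` normalises a second Sylow subgroup
  induction p using QuotientGroup.induction_on with
  | _ c =>
  set Q := (cn t).map (MulAut.conj c).toMonoidHom with hQ
  have hQc : Nat.card Q = Nat.card (cn t) := card_map_of_injective (MulAut.conj c).injective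
  set QS := (hcn.map (MulAut.conj c).toMonoidHom).toSylow (p := 2) (P := Q) (by
    intro h2
    apply hidx
    have h1 := Q.card_mul_index
    rw [← (cn t).card_mul_index, hQc] at h1
    rwa [← Nat.eq_of_mul_eq_mul_left Nat.card_pos h1]) with hQS
  set Q' := (Q.map N.subtype).map (MulAut.conj x).toMonoidHom with hQ'
  set Q₁ := Q'.subgroupOf N with hQ₁
  have hQ'N : Q' ≤ N := by
    rintro _ ⟨y, ⟨z, hz, rfl⟩, rfl⟩
    exact (inferInstance : N.Normal).conj_mem _ z.2 x
  have hQ₁p : IsPGroup 2 Q₁ :=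
    IsPGroup.comap_of_injective ((hcn.map _ |>.map _).map _) N.subtype N.subtype_injective
  have hQ₁c : Nat.card Q₁ = Nat.card (cn t) := by
    rw [hQ₁, Nat.card_congr (Subgroup.subgroupOfEquivOfLe hQ'N).toEquiv, hQ',
      card_map_of_injective (MulAut.conj x).injective, card_map_of_injective N.subtype_injective, hQc]
  set Q₁S := hQ₁p.toSylow (by
    intro h2
    apply hidx
    have h1 := Q₁.card_mul_index
    rw [← (cn t).card_mul_index, hQ₁c] at h1
    rwa [← Nat.eq_of_mul_eq_mul_left Nat.card_pos h1]) with hQ₁S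
  obtain ⟨c', hc'⟩ := MulAction.exists_smul_eq N S₀ Q₁S
  have hQ₁eq : Q₁ = (cn t).map (MulAut.conj c').toMonoidHom := by
    have := congrArg (fun S : Sylow 2 N => (S : Subgroup N)) hc'
    simp only [hQ₁S, hS₀, IsPGroup.toSylow_coe, Sylow.coe_subgroup_smul] at this
    rw [← this]; rfl
  -- fixed points
  have hfixiff : ∀ (e d : N), d • (QuotientGroup.mk e : Pts t) = QuotientGroup.mk e ↔
      d ∈ normalizer (((cn t).map (MulAut.conj e).toMonoidHom : Subgroup N) : Set N) := by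
    intro e d
    rw [show d • (QuotientGroup.mk e : Pts t) = QuotientGroup.mk (d * e) from rfl,
      QuotientGroup.eq]
    have key : ∀ z : N, z ∈ normalizer (((cn t).map (MulAut.conj e).toMonoidHom : Subgroup N) :
        Set N) ↔ e⁻¹ * z * e ∈ nm t := by
      intro z
      have hmem : ∀ w : N, w ∈ (cn t).map (MulAut.conj e).toMonoidHom ↔ e⁻¹ * w * e ∈ cn t := by
        intro w
        refine ⟨fun ⟨v, hv, hvw⟩ => ?_, fun hw => ⟨_, hw, by simp [mul_assoc]⟩⟩
        rw [← hvw]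
        simpa [mul_assoc] using hv
      constructor
      · intro hz
        refine mem_normalizer_iff.2 fun w => ?_
        have := mem_normalizer_iff.1 hz (e * w * e⁻¹)
        rw [hmem, hmem] at this
        simpa [mul_assoc] using this
      · intro hz
        refine mem_normalizer_iff.2 fun w => ?_
        rw [hmem, hmem]
        have := mem_normalizer_iff.1 hz (e⁻¹ * w * e)
        simpa [mul_assoc] using this
    rw [key]
    constructor
    · intro h
      have h' := inv_mem h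
      simpa [mul_assoc] using h'
    · intro h
      have h' := inv_mem h
      simpa [mul_assoc] using h'
  have hstab' : ∀ d ∈ stab t (QuotientGroup.mk c), d • (QuotientGroup.mk c' : Pts t) =
      QuotientGroup.mk c' := by
    intro d hd
    rw [hfixiff, ← hQ₁eq]
    obtain ⟨d', hd', e⟩ : (x⁻¹ * (d : G) * x) ∈ K := by
      have := (mem_normalizer_iff.1 (inv_mem hxK) (d : G)).1 ⟨d, hd, rfl⟩
      simpa using this
    have hd'Q := (hfixiff c d').1 hd'.2
    rw [← hQ] at hd'Q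
    refine mem_normalizer_iff.2 fun w => ?_
    have hmem : ∀ w : N, w ∈ Q₁ ↔ ∃ z ∈ Q, x * (z : G) * x⁻¹ = w := by
      intro w
      simp only [hQ₁, mem_subgroupOf, hQ', mem_map]
      exact ⟨fun ⟨_, ⟨z, hz, rfl⟩, h⟩ => ⟨z, hz, h⟩, fun ⟨z, hz, h⟩ => ⟨_, ⟨z, hz, rfl⟩, h⟩⟩
    simp only [hmem]
    have e' : (d : G) = x * (d' : G) * x⁻¹ := by
      have e0 : (d' : G) = x⁻¹ * d * x := e
      rw [e0]; group
    constructor
    · rintro ⟨z, hz, hzw⟩
      refine ⟨d' * z * d'⁻¹, (mem_normalizer_iff.1 hd'Q z).1 hz, ?_⟩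
      push_cast
      rw [← hzw, e']; group
    · rintro ⟨z, hz, hzw⟩
      refine ⟨d'⁻¹ * z * d', by simpa using (mem_normalizer_iff.1 (inv_mem hd'Q) z).1 hz, ?_⟩
      push_cast at hzw ⊢
      rw [e'] at hzw
      calc x * ((d' : G)⁻¹ * z * d') * x⁻¹
          = x * (d' : G)⁻¹ * x⁻¹ * (x * (z : G) * x⁻¹) * (x * (d' : G) * x⁻¹) := by group
        _ = (w : G) := by rw [hzw]; group
  have hcbase : (QuotientGroup.mk c' : Pts t) ≠ base t := by
    intro e
    apply hp
    have hc'm : c' ∈ nm t := by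
      have h := QuotientGroup.eq.1 (show (QuotientGroup.mk c' : Pts t) = QuotientGroup.mk 1 from e)
      simpa using h
    have hQ₁T : Q₁ = cn t := by
      rw [hQ₁eq]
      ext w
      refine ⟨fun ⟨v, hv, hvw⟩ => hvw ▸ (mem_normalizer_iff.1 hc'm v).1 hv,
        fun hw => ⟨c'⁻¹ * w * c', by simpa using (mem_normalizer_iff.1 (inv_mem hc'm) w).1 hw,
          by simp [mul_assoc]⟩⟩
    show (QuotientGroup.mk c : Pts t) = QuotientGroup.mk 1
    rw [QuotientGroup.eq, mul_one]
    refine inv_mem ?_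
    have hQT : Q = cn t := by
      refine Subgroup.eq_of_le_of_card_ge (fun z hz => ?_) hQc.ge
      have hmem : (⟨x * (z : G) * x⁻¹, (inferInstance : N.Normal).conj_mem _ z.2 x⟩ : N) ∈ Q₁ :=
        ⟨(z : G), ⟨z, hz, rfl⟩, rfl⟩
      rw [hQ₁T] at hmem
      have h2 := (mem_normalizer_iff.1 (inv_mem hxT) _).1 ⟨_, hmem, rfl⟩
      simp only [coe_subtype] at h2
      rw [show x⁻¹ * (x * (z : G) * x⁻¹) * x⁻¹⁻¹ = (z : G) by group] at h2
      obtain ⟨z', hz', e'⟩ := h2
      rwa [← N.subtype_injective e']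
    refine mem_normalizer_iff.2 fun w => ?_
    conv_rhs => rw [← hQT, hQ]
    refine ⟨fun hw => ⟨w, hw, rfl⟩, fun ⟨v, hv, hvw⟩ => ?_⟩
    rwa [← (MulAut.conj c).injective hvw]
  obtain ⟨d, hd, hd1⟩ : ∃ d ∈ stab t (QuotientGroup.mk c), d ≠ 1 := by
    by_contra hcon
    push Not at hcon
    exact C.ne (by rw [← C.card_stab hp, (eq_bot_iff_forall _).2 hcon, card_bot])
  have hcc' : (QuotientGroup.mk c' : Pts t) = QuotientGroup.mk c :=
    C.fix_two hp hd hd1 hcbase ⟨hd.1, hstab' d hd⟩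
  have hQ₁Q : Q₁ = Q := by
    rw [hQ₁eq, hQ]
    have hm : c'⁻¹ * c ∈ nm t := QuotientGroup.eq.1 hcc'
    ext w
    constructor
    · rintro ⟨v, hv, rfl⟩
      refine ⟨(c'⁻¹ * c)⁻¹ * v * (c'⁻¹ * c), ?_, ?_⟩
      · simpa using (mem_normalizer_iff.1 (inv_mem hm) v).1 hv
      · simp [mul_assoc]
    · rintro ⟨v, hv, rfl⟩
      refine ⟨(c'⁻¹ * c) * v * (c'⁻¹ * c)⁻¹, (mem_normalizer_iff.1 hm v).1 hv, ?_⟩
      simp [mul_assoc]
  have hQne : Q ≠ cn t := by
    intro e
    apply hp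
    show (QuotientGroup.mk c : Pts t) = QuotientGroup.mk 1
    rw [QuotientGroup.eq, mul_one]
    refine inv_mem (mem_normalizer_iff.2 fun w => ?_)
    conv_rhs => rw [← e, hQ]
    refine ⟨fun hw => ⟨w, hw, rfl⟩, fun ⟨v, hv, hvw⟩ => ?_⟩
    rwa [← (MulAut.conj c).injective hvw]
  -- fixed points of `x` in both Sylow subgroups
  have hxN' : ∀ y : N, x * (y : G) * x⁻¹ ∈ N := fun y =>
    (inferInstance : N.Normal).conj_mem _ y.2 x
  have hfixpt : ∀ P : Subgroup N, IsPGroup 2 P → P ≠ ⊥ →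
      (∀ y ∈ P, (⟨x * (y : G) * x⁻¹, hxN' y⟩ : N) ∈ P) →
      ∃ y ∈ P, y ≠ 1 ∧ x * (y : G) * x⁻¹ = (y : G) := by
    intro P hP hP1 hinv
    let f : P → P := fun y => ⟨⟨x * ((y : N) : G) * x⁻¹, hxN' y⟩, hinv y y.2⟩
    have hf : Function.Involutive f := fun y => Subtype.ext (Subtype.ext (by
      show x * (x * ((y : N) : G) * x⁻¹) * x⁻¹ = ((y : N) : G)
      rw [show x * (x * ((y : N) : G) * x⁻¹) * x⁻¹ = (x * x) * ((y : N) : G) * (x * x)⁻¹ by group,
        hxx, one_mul, inv_one, mul_one]))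
    haveI := Fintype.ofFinite P
    let σ : Equiv.Perm P := hf.toPerm f
    have hσ : σ ^ 2 = 1 := Equiv.ext fun y => by rw [pow_two]; exact hf y
    have hmod := PTransp70.card_modEq_fix σ hσ
    obtain ⟨k, hk⟩ := IsPGroup.iff_card.1 hP
    have hev : 2 ∣ Nat.card P := by
      rw [hk]
      refine dvd_pow_self 2 ?_
      rintro rfl
      exact hP1 (eq_bot_of_card_eq P (by rw [hk, pow_zero]))
    by_contra hcon
    push Not at hcon
    have hone : Nat.card {s : P // σ s = s} = 1 := by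
      refine Nat.card_eq_one_iff_unique.2 ⟨⟨fun a b => ?_⟩,
        ⟨⟨1, Subtype.ext (Subtype.ext (by show x * ((1 : N) : G) * x⁻¹ = _; simp))⟩⟩⟩
      have h1 : ∀ s : {s : P // σ s = s}, (s : P) = 1 := fun s => by
        by_contra hs
        exact hcon ((s : P) : N) (s : P).2 (fun e => hs (Subtype.ext e))
          (congrArg (fun w : P => ((w : N) : G)) s.2)
      exact Subtype.ext ((h1 a).trans (h1 b).symm)
    rw [hone, Nat.ModEq] at hmod
    omega
  obtain ⟨y₁, hy₁, hy₁1, hy₁x⟩ := hfixpt (cn t) hcn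
    (fun e => by
      have := C.t_mem; rw [e, mem_bot] at this
      rw [this, orderOf_one] at ht; omega)
    (fun y hy => by
      obtain ⟨y', hy', e⟩ := (mem_normalizer_iff.1 hxT (y : G)).1 ⟨y, hy, rfl⟩
      rwa [← (Subtype.ext e : y' = (⟨x * (y : G) * x⁻¹, hxN' y⟩ : N))])
  obtain ⟨y₂, hy₂, hy₂1, hy₂x⟩ := hfixpt Q (hcn.map _)
    (fun e => by
      rw [e, card_bot] at hQc
      rw [← hQc] at h2cn
      exact Nat.prime_two.not_dvd_one h2cn)
    (fun y hy => hQ₁Q ▸ (⟨(y : G), ⟨y, hy, rfl⟩, rfl⟩ :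
      (⟨x * (y : G) * x⁻¹, hxN' y⟩ : N) ∈ Q₁))
  have hxo : orderOf x = 2 := orderOf_eq_prime (by rw [pow_two, hxx]) fun e => hxN (e ▸ one_mem N)
  have hCx : IsPGroup 2 ((centralizer ({x} : Set G)).subgroupOf N) :=
    IsPGroup.comap_of_injective (H x hxo) N.subtype N.subtype_injective
  obtain ⟨P, hP⟩ := hCx.exists_le_sylow
  have hy₁P : y₁ ∈ (P : Subgroup N) := hP (mem_subgroupOf.2 (mem_centralizer_singleton_iff.2
    (mul_inv_eq_iff_eq_mul.1 hy₁x).symm))
  have hy₂P : y₂ ∈ (P : Subgroup N) := hP (mem_subgroupOf.2 (mem_centralizer_singleton_iff.2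
    (mul_inv_eq_iff_eq_mul.1 hy₂x).symm))
  have e1 : P = S₀ := by
    by_contra hne'
    exact hy₁1 ((eq_bot_iff_forall _).1 (hTI P S₀ hne') y₁ ⟨hy₁P, hy₁⟩)
  have e2 : P = QS := by
    by_contra hne'
    exact hy₂1 ((eq_bot_iff_forall _).1 (hTI P QS hne') y₂ ⟨hy₂P, hy₂⟩)
  apply hQne
  have := congrArg (fun S : Sylow 2 N => (S : Subgroup N)) (e2.symm.trans e1)
  simpa [hQS, hS₀] using this

end Cfsg.Agent.ThreeOrd27
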