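import Mathlib
import Cfsg.Agent.Lib.ThreeOrd27Outer
import Cfsg.Agent.Lib.CIT21Induct

/-!
# The cases with a `2`-local `SL₂(c)`-section of the outer argument

If the socle has a self-centralising `V` with `N(V)/V` like `SL₂(c)`, an outer `2`-element would exchange
two elementary subgroups of a Sylow `2`-subgroup and yield an element of order eight.
-/

set_option autoImplicit false
set_option linter.style.haveILetI false
set_option linter.unusedSectionVars false

namespace Cfsg.Agent.ThreeOrd27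

open Subgroup

universe u

variable {G : Type u} [Group G] [Finite G]

/-- An element exchanging two elementary subgroups of `R` which contain all involutions of `R` gives
an element of order eight. -/
theorem swap_false (h4 : ∀ (k : ℕ) (g : G), g ^ 2 ^ k = 1 → g ^ 4 = 1) {R V A : Subgroup G}
    (hR : IsPGroup 2 R) (hVR : V ≤ R) (hAR : A ≤ R)
    (hinv : ∀ y ∈ R, y * y = 1 → y ∈ V ∨ y ∈ A)
    (hcent : ∀ z ∈ V, z ∈ A → ∀ y ∈ R, y * z = z * y) {s : G} (hs2 : s * s ∈ R)
    (hsV : ∀ v ∈ V, s * v * s⁻¹ ∈ A) (hsA : ∀ a ∈ A, s * a * s⁻¹ ∈ V)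
    (hne : ∃ b ∈ V, b ∉ A) : False := by
  obtain ⟨k, hk⟩ := hR ⟨s * s, hs2⟩
  have hk' : (s * s) ^ 2 ^ k = 1 := by simpa using congrArg Subtype.val hk
  have hs4 : s ^ 4 = 1 := h4 (k + 1) s (by rw [pow_succ', pow_mul, pow_two, hk'])
  have hz2 : (s * s) * (s * s) = 1 := by
    rw [← hs4]; simp only [pow_succ, pow_zero, one_mul, mul_assoc]
  have hzfix : s * (s * s) * s⁻¹ = s * s := by group
  have hz : s * s ∈ V ∧ s * s ∈ A := by
    rcases hinv _ hs2 hz2 with h | h
    · exact ⟨h, hzfix ▸ hsV _ h⟩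
    · exact ⟨hzfix ▸ hsA _ h, h⟩
  have hcomm := hcent _ hz.1 hz.2
  obtain ⟨b, hb, hbA⟩ := hne
  set b' := s * b * s⁻¹ with hb'
  have hb'A : b' ∈ A := hsV b hb
  have hb'V : b' ∉ V := by
    intro h
    -- `s` maps `A` into `V`, hence `b` would lie in `A`
    have h1 := hsV b' h
    have e : s * b' * s⁻¹ = b := by
      rw [hb']
      calc s * (s * b * s⁻¹) * s⁻¹ = (s * s) * b * (s * s)⁻¹ := by group
        _ = b * (s * s) * (s * s)⁻¹ := by rw [hcomm b (hVR hb)]
        _ = b := by group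
    exact hbA (e ▸ h1)
  set y := b' * b with hy
  have hyR : y ∈ R := R.mul_mem (hAR hb'A) (hVR hb)
  have hy2 : y * y ≠ 1 := fun e => by
    rcases hinv y hyR e with h | h
    · exact hb'V (by
        have := V.mul_mem h (V.inv_mem hb)
        rwa [hy, mul_inv_cancel_right] at this)
    · exact hbA (by
        have := A.mul_mem (A.inv_mem hb'A) h
        rwa [hy, inv_mul_cancel_left] at this)
  have hsb2 : (s * b) * (s * b) = y * (s * s) := by
    calc (s * b) * (s * b) = b' * ((s * s) * b) := by rw [hb']; group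
      _ = b' * (b * (s * s)) := by rw [hcomm b (hVR hb)]
      _ = y * (s * s) := by rw [hy]; group
  have hsb4 : (s * b) ^ 4 = y * y := by
    calc (s * b) ^ 4 = ((s * b) * (s * b)) * ((s * b) * (s * b)) := by
          simp only [pow_succ, pow_zero, one_mul, mul_assoc]
      _ = y * ((s * s) * y) * (s * s) := by rw [hsb2]; group
      _ = y * (y * (s * s)) * (s * s) := by rw [hcomm y hyR]
      _ = y * y * ((s * s) * (s * s)) := by group
      _ = y * y := by rw [hz2, mul_one]
  obtain ⟨j, hj⟩ := hR ⟨y, hyR⟩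
  have hy4 : y ^ 4 = 1 := h4 j y (by simpa using congrArg Subtype.val hj)
  have h8 : (s * b) ^ 2 ^ 3 = 1 := by
    rw [show 2 ^ 3 = 4 * 2 by norm_num, pow_mul, hsb4, pow_two, ← hy4]
    simp only [pow_succ, pow_zero, one_mul, mul_assoc]
  exact hy2 (hsb4 ▸ h4 3 _ h8)

/-- In a `2`-group properly containing `R` some element outside `R` normalises it and has square
in it. -/
theorem exists_step {R P : Subgroup G} (hP : IsPGroup 2 P) (hlt : R < P) :
    ∃ s ∈ P, s ∉ R ∧ s ∈ normalizer (R : Set G) ∧ s * s ∈ R := by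
  classical
  obtain ⟨g, hgP, hgR, hgN⟩ := CIT21.exists_normalizing hP hlt
  obtain ⟨k, hk⟩ := hP ⟨g, hgP⟩
  have hex : ∃ j, g ^ 2 ^ j ∈ R := ⟨k, by
    rw [show g ^ 2 ^ k = 1 from by simpa using congrArg Subtype.val hk]; exact one_mem R⟩
  obtain ⟨i, hi⟩ : ∃ i, Nat.find hex = i + 1 := by
    refine ⟨Nat.find hex - 1, ?_⟩
    have : Nat.find hex ≠ 0 := fun e => hgR (by simpa [e] using Nat.find_spec hex)
    omega
  refine ⟨g ^ 2 ^ i, pow_mem hgP _, Nat.find_min hex (by omega : i < Nat.find hex),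
    pow_mem hgN _, ?_⟩
  have := Nat.find_spec hex
  rwa [hi, pow_succ, pow_mul, pow_two] at this

/-- A normal subgroup with `2`-quotient containing a Sylow `2`-subgroup is everything. -/
theorem eq_top_of_sylow_le {N : Subgroup G} [N.Normal] (h2 : ∀ g : G, ∃ k : ℕ, g ^ 2 ^ k ∈ N)
    (P : Sylow 2 G) (hP : (P : Subgroup G) ≤ N) : N = ⊤ := by
  haveI := Fact.mk Nat.prime_two
  have hq : IsPGroup 2 (G ⧸ N) := by
    intro z
    induction z using QuotientGroup.induction_on with
    | H g =>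
      obtain ⟨k, hk⟩ := h2 g
      exact ⟨k, by rw [← QuotientGroup.mk_pow]; exact (QuotientGroup.eq_one_iff _).2 hk⟩
  obtain ⟨j, hj⟩ := IsPGroup.iff_card.1 hq
  rw [← Subgroup.index_eq_card] at hj
  rcases j with _ | j
  · exact Subgroup.index_eq_one.1 (by simpa using hj)
  · exfalso
    refine P.not_dvd_index ((dvd_trans ?_ (Subgroup.index_dvd_of_le hP)))
    rw [hj]; exact dvd_pow_self 2 j.succ_ne_zero

omit [Finite G] in
/-- A subgroup of `A` and `B` together lies in one of them. -/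
theorem le_or_le {C A B : Subgroup G} (h : ∀ x ∈ C, x ∈ A ∨ x ∈ B) : C ≤ A ∨ C ≤ B := by
  by_contra hcon
  push Not at hcon
  obtain ⟨x, hx, hxA⟩ := SetLike.not_le_iff_exists.1 hcon.1
  obtain ⟨y, hy, hyB⟩ := SetLike.not_le_iff_exists.1 hcon.2
  have hxB := (h x hx).resolve_left hxA
  have hyA := (h y hy).resolve_right hyB
  rcases h _ (C.mul_mem hx hy) with e | e
  · exact hxA (by simpa [mul_assoc] using A.mul_mem e (A.inv_mem hyA))
  · exact hyB (by simpa [mul_assoc] using B.mul_mem (B.inv_mem hxB) e)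

variable {N : Subgroup G} [N.Normal]

/-- The dihedral case. -/
theorem dihedral_case (H : CIT21.IsCIT G) (h4 : ∀ (k : ℕ) (g : G), g ^ 2 ^ k = 1 → g ^ 4 = 1)
    (hNs : IsSimpleGroup N) (hna : ∃ a b : N, a * b ≠ b * a) {Y V : Subgroup N}
    (hE : CIT21.ELocal Y V V 2) : N = ⊤ ∧ ∃ g : N, g * g ≠ 1 ∧ ∃ k : ℕ, g ^ 2 ^ k = 1 := by
  haveI := Fact.mk Nat.prime_two
  have S := hE.sl2
  obtain ⟨R, hR, -⟩ := S.exists_syl ⊥ bot_le IsPGroup.of_bot
  obtain ⟨hRY, hRp, hRc⟩ := hR
  have hVR : V ≤ R := S.syl_ge R ⟨hRY, hRp, hRc⟩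
  have hVc : Nat.card V = 4 := by rw [S.card_U]; norm_num
  rw [hVc] at hRc
  have hCV : ∀ y : N, (∀ v ∈ V, v * y = y * v) → y ∈ V := fun y hy => by
    rw [← hE.cent_V]; exact mem_centralizer_iff.2 hy
  -- `R` is not elementary
  obtain ⟨g₀, hg₀R, hg₀⟩ : ∃ g ∈ R, g * g ≠ 1 := by
    by_contra hcon
    push Not at hcon
    have hle : R ≤ V := fun y hy => hCV y fun v hv => TwoQ27.comm_of_sq hcon (hVR hv) hy
    have := Subgroup.card_le_of_le hle
    omega
  refine ⟨?_, g₀, hg₀, by
    obtain ⟨k, hk⟩ := hRp ⟨g₀, hg₀R⟩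
    exact ⟨k, congrArg Subtype.val hk⟩⟩
  set V' := V.map N.subtype with hV'
  set R' := R.map N.subtype with hR'
  have hR'p : IsPGroup 2 R' := hRp.map _
  have hV'R' : V' ≤ R' := map_mono hVR
  have hV'N : V' ≤ N := map_subtype_le _
  have hV'c : Nat.card V' = 4 := by rw [hV', card_map_of_injective N.subtype_injective, hVc]
  have hR'c : Nat.card R' = 8 := by rw [hR', card_map_of_injective N.subtype_injective, hRc]
  obtain ⟨h, hh⟩ := exists_prime_orderOf_dvd_card' (hp := ⟨Nat.prime_three⟩) (G := Y) 3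
    (by rw [S.card_N, hVc]; norm_num)
  have hh3 : orderOf ((h : N) : G) = 3 := by rw [Subgroup.orderOf_coe, Subgroup.orderOf_coe, hh]
  have hhV : ((h : N) : G) ∈ normalizer (V' : Set G) :=
    Subgroup.le_normalizer_map N.subtype ⟨h, S.normal_U h.2, rfl⟩
  have hV'ne : V' ≠ ⊥ := fun e => by rw [e, card_bot] at hV'c; omega
  have hCent : ∀ x ∈ centralizer (V' : Set G), x ∈ V' := by
    intro x hx
    obtain ⟨v, hv, hv1⟩ : ∃ v ∈ V', v ≠ 1 := (Subgroup.bot_or_exists_ne_one V').resolve_left hV'ne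
    have hvo : orderOf v = 2 := by
      obtain ⟨v', hv', rfl⟩ := hv
      exact orderOf_eq_prime (by
        rw [pow_two, ← map_mul, S.sq_U v' hv', map_one]) hv1
    obtain ⟨k, hk⟩ := H v hvo ⟨x, centralizer_le (Set.singleton_subset_iff.2 hv) hx⟩
    have hxN : x ∈ N := cent_two_mem H (hR'p.to_le hV'R') hV'ne
      (h : N).2 hhV (by rw [hh3]; decide) (fun e => by rw [e, orderOf_one] at hh3; omega) hx
      ⟨k, congrArg Subtype.val hk⟩
    exact ⟨⟨x, hxN⟩, hCV _ fun v hv => Subtype.ext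
      (mem_centralizer_iff.1 hx (v : G) ⟨v, hv, rfl⟩), rfl⟩
  -- a `2`-group normalising `V'` has order at most eight
  have hbound : ∀ P : Subgroup G, IsPGroup 2 P → P ≤ normalizer (V' : Set G) → Nat.card P ≤ 8 := by
    intro P hP hPV
    classical
    haveI := Fintype.ofFinite V'
    let f : P →* Equiv.Perm {v : V' // v ≠ 1} :=
      { toFun := fun p =>
          { toFun := fun v => ⟨⟨(p : G) * (v : V') * (p : G)⁻¹,
              (mem_normalizer_iff.1 (hPV p.2) _).1 (v : V').2⟩, fun e => v.2 (Subtype.ext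
                (conj_eq_one_iff.1 (congrArg Subtype.val e)))⟩
            invFun := fun v => ⟨⟨(p : G)⁻¹ * (v : V') * (p : G)⁻¹⁻¹,
              (mem_normalizer_iff.1 (inv_mem (hPV p.2)) _).1 (v : V').2⟩, fun e => v.2 (Subtype.ext
                (conj_eq_one_iff.1 (congrArg Subtype.val e)))⟩
            left_inv := fun v => Subtype.ext (Subtype.ext (by simp [mul_assoc]))
            right_inv := fun v => Subtype.ext (Subtype.ext (by simp [mul_assoc])) }
        map_one' := Equiv.ext fun v => Subtype.ext (Subtype.ext (by simp))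
        map_mul' := fun p p' => Equiv.ext fun v => Subtype.ext (Subtype.ext (by
          simp [mul_assoc])) }
    have hker : Nat.card f.ker ≤ 4 := by
      rw [← hV'c]
      refine Nat.card_le_card_of_injective (fun k => (⟨((k : P) : G), hCent _
        (mem_centralizer_iff.2 fun v hv => ?_)⟩ : V')) fun a b e => Subtype.ext (Subtype.ext
          (congrArg (fun x : V' => (x : G)) e :))
      by_cases hv1 : v = 1
      · simp [hv1]
      have := congrArg (fun σ : Equiv.Perm {v : V' // v ≠ 1} =>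
        (((σ ⟨⟨v, hv⟩, fun e => hv1 (congrArg Subtype.val e)⟩ : {v : V' // v ≠ 1}) : V') : G))
        (MonoidHom.mem_ker.1 k.2)
      have e : ((k : P) : G) * v * ((k : P) : G)⁻¹ = v := this
      exact (mul_inv_eq_iff_eq_mul.1 e).symm
    have hrange : Nat.card f.range ≤ 2 := by
      obtain ⟨i, hi⟩ := IsPGroup.iff_card.1 (hP.of_surjective f.rangeRestrict f.rangeRestrict_surjective)
      have hd := f.range.card_subgroup_dvd_card
      rw [hi, Nat.card_eq_fintype_card (α := Equiv.Perm {v : V' // v ≠ 1}), Fintype.card_perm,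
        Fintype.card_subtype_compl, Fintype.card_subtype_eq, ← Nat.card_eq_fintype_card, hV'c] at hd
      rw [hi]
      rcases i with _ | _ | i
      · norm_num
      · norm_num
      · exfalso
        have h4d : 4 ∣ Nat.factorial (4 - 1) :=
          (show 4 ∣ 2 ^ (i + 2) from ⟨2 ^ i, by ring⟩).trans hd
        norm_num [Nat.factorial] at h4d
    have hmul := f.ker.card_mul_index
    rw [Subgroup.index_ker] at hmul
    rw [← hmul]
    exact (Nat.mul_le_mul hker hrange).trans (by norm_num)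
  have hR'N : R' ≤ N := map_subtype_le _
  obtain ⟨P, hP⟩ := hR'p.exists_le_sylow
  by_cases hPR : (P : Subgroup G) = R'
  · exact eq_top_of_sylow_le (outer_two H N hNs hna) P (hPR ▸ hR'N)
  exfalso
  obtain ⟨s, hsP, hsR, hsN, hs2⟩ := exists_step P.isPGroup' (lt_of_le_of_ne hP (Ne.symm hPR))
  set A := V'.map (MulAut.conj s).toMonoidHom with hA
  have hAR' : A ≤ R' := by
    rintro _ ⟨v, hv, rfl⟩
    exact (mem_normalizer_iff.1 hsN v).1 (hV'R' hv)
  have hAc : Nat.card A = 4 := by rw [hA, card_map_of_injective (MulAut.conj s).injective, hV'c]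
  have hAV : A ≠ V' := by
    intro e
    have hsV : s ∈ normalizer (V' : Set G) := by
      refine mem_normalizer_iff.2 fun v => ⟨fun hv => e ▸ ⟨v, hv, rfl⟩, fun hv => ?_⟩
      rw [← e] at hv
      obtain ⟨w, hw, hwv⟩ := hv
      rwa [← (MulAut.conj s).injective hwv]
    have hRV : R' ≤ normalizer (V' : Set G) :=
      (map_mono (hRY.trans S.normal_U)).trans (Subgroup.le_normalizer_map N.subtype)
    have := hbound (R' ⊔ zpowers s) (P.isPGroup'.to_le (sup_le hP (zpowers_le.2 hsP)))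
      (sup_le hRV (zpowers_le.2 hsV))
    have hlt : R' < R' ⊔ zpowers s := lt_of_le_of_ne le_sup_left fun e' =>
      hsR (e'.ge (mem_sup_right (mem_zpowers s)))
    have h8 : Nat.card R' < Nat.card (R' ⊔ zpowers s : Subgroup G) :=
      lt_of_le_of_ne (card_le_of_le hlt.le) fun e' => hlt.ne (eq_of_le_of_card_ge hlt.le e'.ge)
    omega
  have hVsq : ∀ v ∈ V', v * v = 1 := by
    rintro _ ⟨v, hv, rfl⟩
    rw [← map_mul, S.sq_U v hv, map_one]
  have hAsq : ∀ a ∈ A, a * a = 1 := by
    rintro _ ⟨v, hv, rfl⟩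
    rw [← map_mul, hVsq v hv, map_one]
  have hne : ∃ b ∈ V', b ∉ A := by
    by_contra hcon
    push Not at hcon
    exact hAV (eq_of_le_of_card_ge hcon (by rw [hAc, hV'c])).symm
  -- elements of `R'` are products
  have hprod : ∀ y ∈ R', ∃ v ∈ V', ∃ a ∈ A, y = v * a := by
    intro y hy
    have hAn : A ≤ normalizer (V' : Set G) :=
      hAR'.trans ((map_mono (hRY.trans S.normal_U)).trans (Subgroup.le_normalizer_map N.subtype))
    have hlt : V' < V' ⊔ A := lt_of_le_of_ne le_sup_left fun e => hAV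
      (eq_of_le_of_card_ge (e ▸ le_sup_right) (by rw [hAc, hV'c]))
    have hle : V' ⊔ A ≤ R' := sup_le hV'R' hAR'
    have heq : V' ⊔ A = R' := by
      refine eq_of_le_of_card_ge hle ?_
      obtain ⟨i, hi⟩ := IsPGroup.iff_card.1 (hR'p.to_le hle)
      have h1 : Nat.card V' < Nat.card (V' ⊔ A : Subgroup G) :=
        lt_of_le_of_ne (card_le_of_le hlt.le) fun e' => hlt.ne (eq_of_le_of_card_ge hlt.le e'.ge)
      rw [hV'c, hi] at h1
      rw [hR'c, hi]
      exact Nat.le_of_not_lt fun hc => by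
        have h2 : 2 ^ 2 < 2 ^ i := h1
        have h3 : 2 ^ i < 2 ^ 3 := hc
        rw [Nat.pow_lt_pow_iff_right (by norm_num)] at h2 h3
        omega
    have hy' : y ∈ (↑(V' ⊔ A) : Set G) := by rw [heq]; exact hy
    rw [sup_comm, Subgroup.coe_mul_of_left_le_normalizer_right A V' hAn] at hy'
    obtain ⟨a, ha, v, hv, rfl⟩ := Set.mem_mul.1 hy'
    exact ⟨a * v * a⁻¹, (mem_normalizer_iff.1 (hAn ha) v).1 hv, a, ha, by group⟩
  have hcomm1 : ∀ v ∈ V', ∀ w ∈ V', v * w = w * v := fun v hv w hw =>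
    TwoQ27.comm_of_sq hVsq hv hw
  have hcomm2 : ∀ v ∈ A, ∀ w ∈ A, v * w = w * v := fun v hv w hw =>
    TwoQ27.comm_of_sq hAsq hv hw
  refine swap_false h4 hR'p hV'R' hAR' ?_ ?_ hs2 (fun v hv => ⟨v, hv, rfl⟩) ?_ hne
  · intro y hy hyy
    obtain ⟨v, hv, a, ha, rfl⟩ := hprod y hy
    by_contra hcon
    push Not at hcon
    have hvA : v ∉ A := fun h => hcon.2 (A.mul_mem h ha)
    have haV : a ∉ V' := fun h => hcon.1 (V'.mul_mem hv h)
    have hva : a * v = v * a := by
      calc a * v = (v * v) * (a * v) * (a * a) := by rw [hVsq v hv, hAsq a ha]; group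
        _ = v * ((v * a) * (v * a)) * a := by group
        _ = v * a := by rw [hyy, mul_one]
    -- `a` centralises `V'`
    apply haV
    apply hCent
    set W := V' ⊓ centralizer ({a} : Set G) with hW
    have hWtop : W = V' := by
      refine eq_of_le_of_card_ge inf_le_left ?_
      have hvW : v ∈ W := ⟨hv, mem_centralizer_singleton_iff.2 hva.symm⟩
      have hlt : V' ⊓ A < W := by
        refine lt_of_le_of_ne (fun z hz => ⟨hz.1, mem_centralizer_singleton_iff.2
          (hcomm2 z hz.2 a ha)⟩) fun e => hvA (e.ge hvW).2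
      have h1 : Nat.card (V' ⊓ A : Subgroup G) < Nat.card W :=
        lt_of_le_of_ne (card_le_of_le hlt.le) fun e' => hlt.ne (eq_of_le_of_card_ge hlt.le e'.ge)
      have h2 : 2 ≤ Nat.card (V' ⊓ A : Subgroup G) := by
        by_contra h2
        have hbot : V' ⊓ A = ⊥ := eq_bot_of_card_eq _ (by
          have := Nat.card_pos (α := (V' ⊓ A : Subgroup G)); omega)
        have hAn : A ≤ normalizer (V' : Set G) :=
          hAR'.trans ((map_mono (hRY.trans S.normal_U)).trans (Subgroup.le_normalizer_map N.subtype))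
        have hinj : Function.Injective (fun p : V' × A => (⟨(p.1 : G) * p.2,
            R'.mul_mem (hV'R' p.1.2) (hAR' p.2.2)⟩ : R')) := by
          rintro ⟨v₁, a₁⟩ ⟨v₂, a₂⟩ e
          have e' : (v₁ : G) * a₁ = (v₂ : G) * a₂ := congrArg Subtype.val e
          have hm : (v₂ : G)⁻¹ * v₁ ∈ V' ⊓ A := ⟨V'.mul_mem (V'.inv_mem v₂.2) v₁.2, by
            rw [show (v₂ : G)⁻¹ * v₁ = (v₂ : G)⁻¹ * ((v₁ : G) * a₁) * (a₁ : G)⁻¹ by group, e',
              inv_mul_cancel_left]
            exact A.mul_mem a₂.2 (A.inv_mem a₁.2)⟩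
          rw [hbot, mem_bot, inv_mul_eq_one] at hm
          have hv12 : v₁ = v₂ := Subtype.ext hm.symm
          subst hv12
          exact Prod.ext rfl (Subtype.ext (mul_left_cancel e'))
        have := Nat.card_le_card_of_injective _ hinj
        rw [Nat.card_prod, hV'c, hAc, hR'c] at this
        omega
      have h3 : Nat.card W ∣ 4 := hV'c ▸ card_dvd_of_le inf_le_left
      rw [hV'c]
      have h4' : Nat.card W ≤ 4 := Nat.le_of_dvd (by norm_num) h3
      interval_cases Nat.card W <;> omega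
    exact mem_centralizer_iff.2 fun z hz =>
      mem_centralizer_singleton_iff.1 ((hWtop.ge hz).2)
  · intro z hzV hzA y hy
    obtain ⟨v, hv, a, ha, rfl⟩ := hprod y hy
    rw [mul_assoc, hcomm2 a ha z hzA, ← mul_assoc, hcomm1 v hv z hzV, mul_assoc]
  · rintro _ ⟨v, hv, rfl⟩
    have hRV : R' ≤ normalizer (V' : Set G) :=
      (map_mono (hRY.trans S.normal_U)).trans (Subgroup.le_normalizer_map N.subtype)
    have h1 := (mem_normalizer_iff.1 (hRV hs2) v).1 hv
    simpa [mul_assoc] using h1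

/-- The `PSL₃(4)` case. -/
theorem flats_case (H : CIT21.IsCIT G) (h4 : ∀ (k : ℕ) (g : G), g ^ 2 ^ k = 1 → g ^ 4 = 1)
    (hNs : IsSimpleGroup N) (hna : ∃ a b : N, a * b ≠ b * a) {V A S : Subgroup N}
    (hF : CIT21.Flats V A S) : N = ⊤ ∧ ∃ g : N, g * g ≠ 1 ∧ ∃ k : ℕ, g ^ 2 ^ k = 1 := by
  haveI := Fact.mk Nat.prime_two
  haveI := Fact.mk Nat.prime_three
  obtain ⟨T, hT⟩ := hF.sylow
  have hSp : IsPGroup 2 S := hT ▸ T.isPGroup'
  have L := hF.sl2_V
  have hVc : Nat.card V = 16 := by rw [L.card_U]; norm_num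
  have hAc : Nat.card A = 16 := by rw [hF.sl2_A.card_U]; norm_num
  obtain ⟨g₀, hg₀R, hg₀⟩ : ∃ g ∈ S, g * g ≠ 1 := by
    by_contra hcon
    push Not at hcon
    rcases le_or_le (fun x hx => hF.involutions x hx (hcon x hx)) with h | h
    · have := Subgroup.card_le_of_le h; rw [hF.card_S, hVc] at this; omega
    · have := Subgroup.card_le_of_le h; rw [hF.card_S, hAc] at this; omega
  refine ⟨?_, g₀, hg₀, by
    obtain ⟨k, hk⟩ := hSp ⟨g₀, hg₀R⟩
    exact ⟨k, congrArg Subtype.val hk⟩⟩
  set V' := V.map N.subtype with hV'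
  set A' := A.map N.subtype with hA'
  set S' := S.map N.subtype with hS'
  have hS'p : IsPGroup 2 S' := hSp.map _
  obtain ⟨P, hP⟩ := hS'p.exists_le_sylow
  by_cases hPS : (P : Subgroup G) = S'
  · exact eq_top_of_sylow_le (outer_two H N hNs hna) P (hPS ▸ map_subtype_le _)
  exfalso
  obtain ⟨s, hsP, hsR, hsN, hs2⟩ := exists_step P.isPGroup' (lt_of_le_of_ne hP (Ne.symm hPS))
  have hsnotN : s ∉ N := by
    intro hs
    apply hsR
    have hzp : IsPGroup 2 (zpowers (⟨s, hs⟩ : N)) := by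
      obtain ⟨k, hk⟩ := P.isPGroup' ⟨s, hsP⟩
      obtain ⟨i, -, hi⟩ := (Nat.dvd_prime_pow Nat.prime_two).1
        (orderOf_dvd_of_pow_eq_one (congrArg Subtype.val hk))
      exact IsPGroup.of_card (n := i) (by
        rw [Nat.card_zpowers, Subgroup.orderOf_mk]; exact hi)
    have hmem : (⟨s, hs⟩ : N) ∈ normalizer (S : Set N) := mem_normalizer_of_map hsN
    have hsup := hzp.to_sup_of_normal_right' hSp (zpowers_le.2 hmem)
    have := T.is_maximal' hsup (hT ▸ le_sup_right)
    exact ⟨⟨s, hs⟩, hT ▸ this ▸ mem_sup_left (mem_zpowers _), rfl⟩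
  have hVsq : ∀ v ∈ V', v * v = 1 := by
    rintro _ ⟨v, hv, rfl⟩
    rw [← map_mul, L.sq_U v hv, map_one]
  have hinv : ∀ y ∈ S', y * y = 1 → y ∈ V' ∨ y ∈ A' := by
    rintro _ ⟨y, hy, rfl⟩ hyy
    rcases hF.involutions y hy (N.subtype_injective (by rw [map_mul, hyy, map_one])) with h | h
    · exact Or.inl ⟨y, h, rfl⟩
    · exact Or.inr ⟨y, h, rfl⟩
  -- the image of `V` under `s`
  have hVA : V'.map (MulAut.conj s).toMonoidHom = V' ∨ V'.map (MulAut.conj s).toMonoidHom = A' := by
    have hc : Nat.card (V'.map (MulAut.conj s).toMonoidHom) = 16 := by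
      rw [card_map_of_injective (MulAut.conj s).injective, hV',
        card_map_of_injective N.subtype_injective, hVc]
    rcases le_or_le (C := V'.map (MulAut.conj s).toMonoidHom) (A := V') (B := A') (by
      rintro _ ⟨v, hv, rfl⟩
      refine hinv _ ((mem_normalizer_iff.1 hsN v).1 ?_) ?_
      · exact map_mono hF.V_le hv
      · rw [← map_mul, hVsq v hv, map_one]) with h | h
    · exact Or.inl (eq_of_le_of_card_ge h (by
        rw [hc, hV', card_map_of_injective N.subtype_injective, hVc]))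
    · exact Or.inr (eq_of_le_of_card_ge h (by
        rw [hc, hA', card_map_of_injective N.subtype_injective, hAc]))
  rcases hVA with hfix | hswap
  · -- an outer element would normalise a subgroup of order three
    set Y := normalizer (V : Set N) with hY
    have hYc : Nat.card Y = 16 * 60 := by rw [L.card_N, hVc]
    obtain ⟨R, hR, -⟩ := L.exists_syl ⊥ bot_le IsPGroup.of_bot
    obtain ⟨R₂, hR₂, hne⟩ : ∃ R₂, CIT21.IsSyl Y V 4 R₂ ∧ R₂ ≠ R := by
      by_contra hcon
      push Not at hcon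
      have : Nat.card {R : Subgroup N // CIT21.IsSyl Y V 4 R} ≤ 1 :=
        Finite.card_le_one_iff_subsingleton.2 ⟨fun a b =>
          Subtype.ext ((hcon a.1 a.2).trans (hcon b.1 b.2).symm)⟩
      rw [L.syl_count] at this
      omega
    obtain ⟨t, htY, ht2, htR, -⟩ := L.swap R R₂ hR hR₂ hne.symm
    set Z := Y ⊓ normalizer (R : Set N) ⊓ normalizer (R₂ : Set N) with hZ
    have hZc : Nat.card Z = 48 := by
      rw [hZ, L.card_stab_two R R₂ hR hR₂ hne.symm, hVc]
    have htt : t * t = 1 := by rw [← pow_two, ← ht2, pow_orderOf_eq_one]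
    have hti : t⁻¹ = t := inv_eq_of_mul_eq_one_right htt
    have htR₂ : R₂.map (MulAut.conj t).toMonoidHom = R := by
      rw [← htR, CIT21.map_conj_map, htt, CIT21.map_conj_one]
    have htZ : t ∈ normalizer (Z : Set N) := by
      have hle : ∀ z ∈ Z, t * z * t⁻¹ ∈ Z := by
        intro z hz
        refine ⟨⟨Subgroup.mul_mem _ (Subgroup.mul_mem _ htY hz.1.1) (Subgroup.inv_mem _ htY), ?_⟩, ?_⟩
        · refine CIT21.mem_normalizer_of_map_eq ?_
          rw [show t * z * t⁻¹ = t * (z * t⁻¹) by group, ← CIT21.map_conj_map, ← CIT21.map_conj_map,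
            hti, htR, CIT21.map_eq_of_mem_normalizer hz.2, htR₂]
        · refine CIT21.mem_normalizer_of_map_eq ?_
          rw [show t * z * t⁻¹ = t * (z * t⁻¹) by group, ← CIT21.map_conj_map, ← CIT21.map_conj_map,
            hti, htR₂, CIT21.map_eq_of_mem_normalizer hz.1.2, htR]
      refine mem_normalizer_iff.2 fun z => ⟨hle z, fun hz => ?_⟩
      have := hle _ hz
      rwa [show t * (t * z * t⁻¹) * t⁻¹ = (t * t) * z * (t * t)⁻¹ by group, htt, one_mul, inv_one,
        mul_one] at this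
    have htnotZ : t ∉ Z := fun h => hne
      ((CIT21.map_eq_of_mem_normalizer h.1.2).symm.trans htR).symm
    obtain ⟨h, hh⟩ := exists_prime_orderOf_dvd_card' (G := Z) 3 (by rw [hZc]; norm_num)
    set C := zpowers (h : N) with hC
    have hCc : Nat.card C = 3 := by rw [hC, Nat.card_zpowers, Subgroup.orderOf_coe, hh]
    -- Frattini inside `Y`
    have frat : ∀ (X : Subgroup N), C ≤ X → ¬ 9 ∣ Nat.card X → ∀ {y : N},
        y ∈ normalizer (X : Set N) → ∃ x ∈ X, x * y ∈ normalizer (C : Set N) := by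
      intro X hCX h9 y hy
      have hsyl : ∀ D : Subgroup N, D ≤ X → Nat.card D = 3 →
          ¬ 3 ∣ (D.subgroupOf X).index := by
        intro D hD hDc h3
        have h1 := (D.subgroupOf X).card_mul_index
        rw [Nat.card_congr (Subgroup.subgroupOfEquivOfLe hD).toEquiv, hDc] at h1
        exact h9 (h1 ▸ mul_dvd_mul_left 3 h3)
      set C₁ := C.map (MulAut.conj y).toMonoidHom with hC₁
      have hC₁X : C₁ ≤ X := by
        rintro _ ⟨c, hc, rfl⟩
        exact (mem_normalizer_iff.1 hy c).1 (hCX hc)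
      have hC₁c : Nat.card C₁ = 3 := by rw [hC₁, card_map_of_injective (MulAut.conj y).injective, hCc]
      have hp3 : ∀ D : Subgroup N, Nat.card D = 3 → D ≤ X → IsPGroup 3 (D.subgroupOf X) :=
        fun D hD hDX => IsPGroup.of_card (n := 1) (by
          rw [Nat.card_congr (Subgroup.subgroupOfEquivOfLe hDX).toEquiv, hD, pow_one])
      obtain ⟨x, hx⟩ := MulAction.exists_smul_eq X
        ((hp3 C₁ hC₁c hC₁X).toSylow (hsyl C₁ hC₁X hC₁c))
        ((hp3 C hCc hCX).toSylow (hsyl C hCX hCc))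
      refine ⟨x, x.2, CIT21.mem_normalizer_of_map_eq (eq_of_le_of_card_ge ?_ (by
        rw [card_map_of_injective (MulAut.conj ((x : N) * y)).injective]))⟩
      rintro _ ⟨c, hc, rfl⟩
      have hc' : (⟨(MulAut.conj y) c, hC₁X ⟨c, hc, rfl⟩⟩ : X) ∈ C₁.subgroupOf X := ⟨c, hc, rfl⟩
      have h1 : x * ⟨(MulAut.conj y) c, hC₁X ⟨c, hc, rfl⟩⟩ * x⁻¹ ∈ C.subgroupOf X := by
        have h2 := congrArg (fun Q : Sylow 3 X => (Q : Subgroup X)) hx
        simp only [IsPGroup.toSylow_coe, Sylow.coe_subgroup_smul] at h2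
        rw [← h2]
        exact Subgroup.smul_mem_pointwise_smul _ (MulAut.conj x) _ hc'
      simpa [mul_assoc, mem_subgroupOf] using h1
    have hCZ : C ≤ Z := zpowers_le.2 h.2
    obtain ⟨z, hz, hzt⟩ := frat Z hCZ (by rw [hZc]; norm_num) htZ
    -- an involution of `N` normalising `C`
    obtain ⟨i, hiC, hi2⟩ : ∃ i ∈ normalizer (C : Set N), orderOf i = 2 := by
      set m := z * t with hm
      have hmap : R.map (MulAut.conj m).toMonoidHom = R₂ ∧
          R₂.map (MulAut.conj m).toMonoidHom = R := by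
        rw [hm, ← CIT21.map_conj_map, ← CIT21.map_conj_map, htR, htR₂]
        exact ⟨CIT21.map_eq_of_mem_normalizer hz.2, CIT21.map_eq_of_mem_normalizer hz.1.2⟩
      have heven : ∀ j : ℕ, R.map (MulAut.conj (m ^ (2 * j + 1))).toMonoidHom = R₂ := by
        intro j
        induction j with
        | zero => simpa using hmap.1
        | succ j ih =>
          rw [show m ^ (2 * (j + 1) + 1) = (m * m) * m ^ (2 * j + 1) by
            rw [show 2 * (j + 1) + 1 = 2 + (2 * j + 1) by ring, pow_add, pow_two],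
            ← CIT21.map_conj_map, ih, ← CIT21.map_conj_map, hmap.2, hmap.1]
      rcases Nat.even_or_odd (orderOf m) with he | ho
      · exact ⟨m ^ (orderOf m / 2), pow_mem hzt _, orderOf_pow_orderOf_div (orderOf_pos m).ne' he.two_dvd⟩
      · obtain ⟨j, hj⟩ := ho
        have := heven j
        rw [← hj, pow_orderOf_eq_one, CIT21.map_conj_one] at this
        exact absurd this.symm hne
    -- an outer element normalising `C`
    have hsV : s ∈ normalizer (V' : Set G) := CIT21.mem_normalizer_of_map_eq hfix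
    have hsYmap : ∀ y ∈ Y.map N.subtype, s * y * s⁻¹ ∈ Y.map N.subtype := by
      rintro _ ⟨y, hy, rfl⟩
      refine ⟨⟨s * y * s⁻¹, (inferInstance : N.Normal).conj_mem _ y.2 s⟩, ?_, rfl⟩
      exact mem_normalizer_of_map (Subgroup.mul_mem _ (Subgroup.mul_mem _ hsV
        (Subgroup.le_normalizer_map N.subtype ⟨y, hy, rfl⟩)) (Subgroup.inv_mem _ hsV))
    have hC' : ∀ c ∈ C, (⟨s * (c : G) * s⁻¹, (inferInstance : N.Normal).conj_mem _ c.2 s⟩ : N) ∈ Y :=
      fun c hc => mem_map_subtype.1 (hsYmap _ ⟨c, (hCZ hc).1.1, rfl⟩)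
    set C₁ := (C.map N.subtype).map (MulAut.conj s).toMonoidHom with hC₁
    have hC₁N : C₁ ≤ N := by
      rintro _ ⟨_, ⟨c, hc, rfl⟩, rfl⟩
      exact (inferInstance : N.Normal).conj_mem _ c.2 s
    have hC₁Y : C₁.subgroupOf N ≤ Y := by
      intro y hy
      obtain ⟨_, ⟨c, hc, rfl⟩, e⟩ := hy
      have : y = ⟨s * (c : G) * s⁻¹, (inferInstance : N.Normal).conj_mem _ c.2 s⟩ :=
        Subtype.ext e.symm
      rw [this]; exact hC' c hc
    have hC₁c : Nat.card (C₁.subgroupOf N) = 3 := by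
      rw [Nat.card_congr (Subgroup.subgroupOfEquivOfLe hC₁N).toEquiv, hC₁,
        card_map_of_injective (MulAut.conj s).injective, card_map_of_injective N.subtype_injective, hCc]
    have hC3 : IsPGroup 3 (C.subgroupOf Y) := IsPGroup.of_card (n := 1) (by
      rw [Nat.card_congr (Subgroup.subgroupOfEquivOfLe (hCZ.trans (inf_le_left.trans inf_le_left))).toEquiv,
        hCc, pow_one])
    have hC₁3 : IsPGroup 3 ((C₁.subgroupOf N).subgroupOf Y) := IsPGroup.of_card (n := 1) (by
      rw [Nat.card_congr (Subgroup.subgroupOfEquivOfLe hC₁Y).toEquiv, hC₁c, pow_one])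
    have hidx : ∀ D : Subgroup N, D ≤ Y → Nat.card D = 3 → ¬ 3 ∣ (D.subgroupOf Y).index := by
      intro D hD hDc h3
      have h1 := (D.subgroupOf Y).card_mul_index
      rw [Nat.card_congr (Subgroup.subgroupOfEquivOfLe hD).toEquiv, hDc, hYc] at h1
      have : (D.subgroupOf Y).index = 320 := by omega
      rw [this] at h3
      norm_num at h3
    obtain ⟨y, hy⟩ := MulAction.exists_smul_eq Y (hC₁3.toSylow (hidx _ hC₁Y hC₁c))
      (hC3.toSylow (hidx _ (hCZ.trans (inf_le_left.trans inf_le_left)) hCc))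
    have hm : ((y : N) : G) * s ∈ normalizer ((C.map N.subtype : Subgroup G) : Set G) := by
      refine CIT21.mem_normalizer_of_map_eq (eq_of_le_of_card_ge ?_ (by
        rw [card_map_of_injective (f := (MulAut.conj (((y : N) : G) * s)).toMonoidHom)
          (MulAut.conj (((y : N) : G) * s)).injective]))
      rintro _ ⟨_, ⟨c, hc, rfl⟩, rfl⟩
      have hmem : (⟨⟨s * (c : G) * s⁻¹, (inferInstance : N.Normal).conj_mem _ c.2 s⟩, hC' c hc⟩ : Y) ∈
          (C₁.subgroupOf N).subgroupOf Y := ⟨(c : G), ⟨c, hc, rfl⟩, rfl⟩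
      have h2 := congrArg (fun Q : Sylow 3 Y => (Q : Subgroup Y)) hy
      simp only [IsPGroup.toSylow_coe, Sylow.coe_subgroup_smul] at h2
      have h1 : y * ⟨⟨s * (c : G) * s⁻¹, (inferInstance : N.Normal).conj_mem _ c.2 s⟩, hC' c hc⟩ * y⁻¹
          ∈ C.subgroupOf Y := by
        rw [← h2]
        exact Subgroup.smul_mem_pointwise_smul _ (MulAut.conj y) _ hmem
      refine ⟨_, h1, ?_⟩
      simp [mul_assoc]
    set m := ((y : N) : G) * s with hmdef
    have hmN : m ∉ N := fun hmem => hsnotN (by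
      have := N.mul_mem (N.inv_mem (y : N).2) hmem
      rwa [hmdef, inv_mul_cancel_left] at this)
    obtain ⟨a, b, hb, hab⟩ := Nat.exists_eq_two_pow_mul_odd (orderOf_pos m).ne'
    set w := m ^ b with hw
    have hwN : w ∉ N := by
      intro hmem
      obtain ⟨k, hk⟩ := outer_two H N hNs hna m
      refine hmN ?_
      rw [← QuotientGroup.eq_one_iff (N := N)] at hk ⊢
      rw [hw, ← QuotientGroup.eq_one_iff (N := N), QuotientGroup.mk_pow] at hmem
      rw [QuotientGroup.mk_pow] at hk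
      exact orderOf_eq_one_iff.1 (Nat.eq_one_of_dvd_coprimes (hb.coprime_two_right.pow_right k)
        (orderOf_dvd_of_pow_eq_one hmem) (orderOf_dvd_of_pow_eq_one hk))
    set c : G := ((h : N) : G) with hc
    have hc3 : orderOf c = 3 := by rw [hc, Subgroup.orderOf_coe, Subgroup.orderOf_coe, hh]
    have hw2 : ∃ k : ℕ, w ^ 2 ^ k = 1 := ⟨a, by
      rw [hw, ← pow_mul, mul_comm, ← hab, pow_orderOf_eq_one]⟩
    have hcases : ∀ u : G, u ∈ normalizer ((C.map N.subtype : Subgroup G) : Set G) →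
        u * c * u⁻¹ = c ∨ u * c * u⁻¹ = c⁻¹ := by
      intro u hu
      obtain ⟨c', hc', e⟩ := (mem_normalizer_iff.1 hu c).1 ⟨(h : N), mem_zpowers _, rfl⟩
      obtain ⟨n, hn⟩ := Subgroup.mem_zpowers_iff.1 hc'
      have e' : u * c * u⁻¹ = c ^ n := by
        rw [← e, ← hn, map_zpow]; rfl
      have hne1 : u * c * u⁻¹ ≠ 1 := fun e1 => by
        rw [conj_eq_one_iff] at e1; rw [e1, orderOf_one] at hc3; omega
      rw [e', ← zpow_mod_orderOf, hc3] at hne1 ⊢
      have h0 := Int.emod_nonneg n (by norm_num : ((3 : ℕ) : ℤ) ≠ 0)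
      have h3 := Int.emod_lt_of_pos n (by norm_num : (0 : ℤ) < ((3 : ℕ) : ℤ))
      set j := n % ((3 : ℕ) : ℤ)
      rcases (show j = 0 ∨ j = 1 ∨ j = 2 by omega) with e0 | e0 | e0
      · rw [e0, zpow_zero] at hne1; exact absurd rfl hne1
      · left; rw [e0, zpow_one]
      · right
        rw [e0, eq_inv_iff_mul_eq_one, ← zpow_add_one]
        have := pow_orderOf_eq_one c
        rw [hc3] at this
        exact_mod_cast this
    have hwC : w * c * w⁻¹ = c⁻¹ := (hcases w (pow_mem hm b)).resolve_left fun e =>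
      CITGraph39.false_of_commute_two H Nat.prime_three (by norm_num) hc3 hw2
        (fun e1 => hwN (e1 ▸ one_mem N)) (mul_inv_eq_iff_eq_mul.1 e).symm
    have hi2' : orderOf (i : G) = 2 := by rw [Subgroup.orderOf_coe, hi2]
    have hiC' : (i : G) * c * (i : G)⁻¹ = c⁻¹ :=
      (hcases (i : G) (Subgroup.le_normalizer_map N.subtype ⟨i, hiC, rfl⟩)).resolve_left fun e => by
        have h1 := CITGraph39.eq_one_of_odd H hi2' (c := c) (by rw [hc3]; decide)
          (mul_inv_eq_iff_eq_mul.1 e).symm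
        rw [h1, orderOf_one] at hc3
        omega
    -- `w i` centralises `c`
    have hwi : Commute (w * i) c := mul_inv_eq_iff_eq_mul.1 (by
      calc w * i * c * (w * i)⁻¹ = w * ((i : G) * c * (i : G)⁻¹) * w⁻¹ := by group
        _ = (w * c * w⁻¹)⁻¹ := by rw [hiC']; group
        _ = c := by rw [hwC, inv_inv])
    have hodd := odd_centralizer H (x := c) (by rw [hc3]; decide)
      (fun e => by rw [e, orderOf_one] at hc3; omega)
    have hord : Odd (orderOf (w * i)) := hodd.of_dvd_nat (Subgroup.orderOf_dvd_natCard _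
      (mem_centralizer_singleton_iff.2 hwi.eq))
    obtain ⟨k, hk⟩ := outer_two H N hNs hna (w * i)
    apply hwN
    have hmem : w * i ∈ N := by
      rw [← QuotientGroup.eq_one_iff (N := N)] at hk ⊢
      rw [QuotientGroup.mk_pow] at hk
      exact orderOf_eq_one_iff.1 (Nat.eq_one_of_dvd_coprimes
        ((Odd.of_dvd_nat hord (orderOf_map_dvd (QuotientGroup.mk' N) (w * i))).coprime_two_right.pow_right k)
        dvd_rfl (orderOf_dvd_of_pow_eq_one hk))
    have := N.mul_mem hmem (N.inv_mem i.2)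
    rwa [mul_inv_cancel_right] at this
  · have hsA : ∀ a ∈ A', s * a * s⁻¹ ∈ V' := by
      rw [← hswap]
      rintro _ ⟨v, hv, rfl⟩
      have hSV : S' ≤ normalizer (V' : Set G) := by
        refine (map_mono ?_).trans (Subgroup.le_normalizer_map N.subtype)
        intro x hx
        refine mem_normalizer_iff.2 fun v => ?_
        have key : ∀ x ∈ S, ∀ v ∈ V, x * v * x⁻¹ ∈ V := by
          intro x hx v hv
          by_contra hno
          rcases hF.involutions (x * v * x⁻¹)
            (S.mul_mem (S.mul_mem hx (hF.V_le hv)) (S.inv_mem hx))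
            (by rw [show x * v * x⁻¹ * (x * v * x⁻¹) = x * (v * v) * x⁻¹ by group,
              L.sq_U v hv]; group) with h | h
          · exact hno h
          · -- a conjugate of `V` inside `V ∪ A` is `V` or `A`
            rcases le_or_le (C := V.map (MulAut.conj x).toMonoidHom) (A := V) (B := A) (by
              rintro _ ⟨u, hu, rfl⟩
              exact hF.involutions _ (S.mul_mem (S.mul_mem hx (hF.V_le hu)) (S.inv_mem hx))
                (by rw [← map_mul, L.sq_U u hu, map_one])) with h' | h'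
            · exact hno (h' ⟨v, hv, rfl⟩)
            · exact hF.not_conj x (eq_of_le_of_card_ge h' (by
                rw [card_map_of_injective (MulAut.conj x).injective, hVc, hAc]))
        exact ⟨key x hx v, fun hv => by
          simpa [mul_assoc] using key x⁻¹ (S.inv_mem hx) _ hv⟩
      have h1 := (mem_normalizer_iff.1 (hSV hs2) v).1 hv
      simpa [mul_assoc] using h1
    refine swap_false h4 hS'p (map_mono hF.V_le) (map_mono hF.A_le) hinv ?_ hs2
      (fun v hv => hswap.le ⟨v, hv, rfl⟩) hsA ?_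
    · rintro _ ⟨z, hzV, rfl⟩ hzA _ ⟨y, hy, rfl⟩
      have hzA' : z ∈ A := mem_map_subtype.1 hzA
      have hz : z ∈ S ⊓ centralizer (S : Set N) := hF.center_S.symm ▸ ⟨hzV, hzA'⟩
      rw [← map_mul, ← map_mul, mem_centralizer_iff.1 hz.2 y hy]
    · by_contra hcon
      push Not at hcon
      have hle : V ≤ A := fun v hv => mem_map_subtype.1 (hcon _ ⟨v, hv, rfl⟩)
      have hVA := hF.card_inter
      rw [inf_eq_left.2 hle, hVc] at hVA
      omega

/-- `G` is simple in the CIT case. -/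
theorem cit_eq_top (H : CIT21.IsCIT G) (h4 : ∀ (k : ℕ) (g : G), g ^ 2 ^ k = 1 → g ^ 4 = 1)
    (hNs : IsSimpleGroup N) (hna : ∃ a b : N, a * b ≠ b * a) :
    N = ⊤ ∧ ((∀ S T : Sylow 2 N, S ≠ T → (S : Subgroup N) ⊓ (T : Subgroup N) = ⊥) ∨
      ∃ g : N, g * g ≠ 1 ∧ ∃ k : ℕ, g ^ 2 ^ k = 1) := by
  haveI := hNs
  have HN := cit_subgroup H N
  by_cases hE : ∃ Y D V : Subgroup N, ∃ c, CIT21.ELocal Y D V c
  · obtain ⟨Y, V, c, hV⟩ := CIT21.reduceSpec CIT21.localSpec CIT21.quadraticSpec HN hNs hna hE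
    have h2 := hV.sl2.two_le
    rcases (show c = 2 ∨ c = 3 ∨ 4 ≤ c by omega) with rfl | rfl | hc
    · obtain ⟨e, g⟩ := dihedral_case H h4 hNs hna hV
      exact ⟨e, Or.inr g⟩
    · exfalso
      haveI := Fact.mk Nat.prime_two
      obtain ⟨n, hn⟩ := IsPGroup.iff_card.1 hV.sl2.pGroup_D
      have h3 := hV.sl2.card_U
      rw [hn] at h3
      have : (3 : ℕ) ∣ 2 ^ n := ⟨3, by rw [h3]; norm_num⟩
      have := Nat.prime_three.dvd_of_dvd_pow this
      norm_num at this
    · obtain ⟨V', A, S, hF⟩ :=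
        CIT21.flatsSpec CIT21.quadraticSpec HN hNs ⟨Y, V, c, hc, hV⟩
      obtain ⟨e, g⟩ := flats_case H h4 hNs hna hF
      exact ⟨e, Or.inr g⟩
  · have hTI := CIT21.climbSpec CIT21.localSpec HN hNs hna fun Y D V c h => hE ⟨Y, D, V, c, h⟩
    exact ⟨ti_eq_top H N hNs hna hTI, Or.inl hTI⟩

end Cfsg.Agent.ThreeOrd27
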