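import Mathlib
import Cfsg.Agent.Lib.ThreeOrd27Local
import Cfsg.Agent.Lib.TwoQ27SmallRank
import Cfsg.Agent.Lib.PSLCard
import Cfsg.Agent.Lib.PSL2Small
import Cfsg.Agent.S2475

/-!
# Simple groups with elementary abelian involution centralisers, and their automorphisms

Such a group is `PSL₂` over a field of characteristic two.  An automorphism centralising an involution
centraliser is inner, which excludes such a socle in a `2q` group.
-/

set_option autoImplicit false
set_option linter.style.haveILetI false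
set_option linter.unusedSectionVars false

namespace Cfsg.Agent.ThreeOrd27

open Subgroup
open Cfsg.Agent.TICentralizers82 hiding Setup
open Cfsg.Agent.CIT21Frob5

universe u

variable {G : Type u} [Group G] [Finite G]

/-- An automorphism centralising the abelian centraliser `cn t` is inner. -/
theorem inner_of_centralizes [IsSimpleGroup G] {t : G} (C : Cfg t)
    (hab : ∀ a ∈ cn t, ∀ b ∈ cn t, a * b = b * a) (α : MulAut G) (hα : ∀ y ∈ cn t, α y = y) :
    ∃ x ∈ cn t, ∀ g, α g = x * g * x⁻¹ := by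
  obtain ⟨p, hp⟩ := C.exists_point
  induction p using QuotientGroup.induction_on with
  | H g₀ =>
  have hbase : ∀ g : G, (QuotientGroup.mk g : Pts t) = base t ↔ g ∈ nm t := by
    intro g
    rw [← smul_base_eq, smul_base]
  have ht : α t = t := hα t C.t_mem
  have hcn : ∀ y, α y ∈ cn t ↔ y ∈ cn t := fun y =>
    ⟨fun h => by rwa [α.injective (hα _ h)] at h, fun h => by rwa [hα y h]⟩
  have hnm : ∀ g, α g ∈ nm t ↔ g ∈ nm t := by
    intro g
    simp only [nm, mem_normalizer_iff]
    constructor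
    · intro h y
      rw [← hcn y, h (α y), ← hcn (g * y * g⁻¹), map_mul, map_mul, map_inv]
    · intro h y
      obtain ⟨z, rfl⟩ := α.surjective y
      rw [hcn z, h z, ← hcn (g * z * g⁻¹), map_mul, map_mul, map_inv]
  have hp' : (QuotientGroup.mk (α g₀) : Pts t) ≠ base t := fun e =>
    hp ((hbase _).2 ((hnm _).1 ((hbase _).1 e)))
  obtain ⟨x, hx, hxp⟩ := C.regular hp hp'
  refine ⟨x, hx, ?_⟩
  set β : MulAut G := MulAut.conj x⁻¹ * α with hβ
  have hβv : ∀ g, β g = x⁻¹ * α g * x := fun g => by simp [hβ, MulAut.mul_apply]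
  have hβfix : ∀ y ∈ cn t, β y = y := fun y hy => by
    rw [hβv, hα y hy, mul_assoc, hab y hy x hx, inv_mul_cancel_left]
  have hβnm : ∀ g ∈ nm t, β g ∈ nm t := fun g hg => by
    rw [hβv]
    exact mul_mem (mul_mem (inv_mem (cn_le_nm t hx)) ((hnm g).2 hg)) (cn_le_nm t hx)
  have hg₀ : g₀⁻¹ * β g₀ ∈ nm t := by
    have h : (QuotientGroup.mk (x * g₀) : Pts t) = QuotientGroup.mk (α g₀) := hxp
    have := QuotientGroup.eq.1 h
    rw [hβv]
    have e : g₀⁻¹ * (x⁻¹ * α g₀ * x) = (x * g₀)⁻¹ * α g₀ * x := by group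
    rw [e]
    exact mul_mem this (cn_le_nm t hx)
  have hall : ∀ g, g⁻¹ * β g ∈ nm t := by
    intro g
    by_cases hg : g ∈ nm t
    · exact mul_mem (inv_mem hg) (hβnm g hg)
    obtain ⟨y, hy, hyp⟩ := C.regular hp (fun e => hg ((hbase g).1 e))
    have hn : (y * g₀)⁻¹ * g ∈ nm t := QuotientGroup.eq.1 (show
      (QuotientGroup.mk (y * g₀) : Pts t) = QuotientGroup.mk g from hyp)
    set n := (y * g₀)⁻¹ * g with hndef
    have hgeq : g = y * g₀ * n := by rw [hndef]; group
    have e : g⁻¹ * β g = n⁻¹ * (g₀⁻¹ * β g₀) * β n := by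
      conv_lhs => rw [hgeq, map_mul, map_mul, hβfix y hy]
      group
    rw [e]
    exact mul_mem (mul_mem (inv_mem hn) hg₀) (hβnm n hn)
  have hcore : (nm t).normalCore = ⊥ :=
    ((nm t).normalCore_normal.eq_bot_or_eq_top).resolve_right fun e =>
      C.ntop (top_le_iff.1 (e ▸ normalCore_le (nm t)))
  intro g
  have hc : g⁻¹ * β g ∈ (nm t).normalCore := by
    intro z
    have e : z * (g⁻¹ * β g) * z⁻¹ =
        ((g * z⁻¹)⁻¹ * β (g * z⁻¹)) * (z⁻¹⁻¹ * β z⁻¹)⁻¹ := by
      rw [map_mul]; group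
    rw [e]
    exact mul_mem (hall _) (inv_mem (hall _))
  rw [hcore, mem_bot, hβv] at hc
  calc α g = x * g * (g⁻¹ * (x⁻¹ * α g * x)) * x⁻¹ := by group
    _ = x * g * x⁻¹ := by rw [hc, mul_one]

/-- With elementary `2`-elements the Sylow `2`-subgroups are TI. -/
theorem ti_of_elementary [IsSimpleGroup G] (H : CIT21.IsCIT G) (hna : ∃ a b : G, a * b ≠ b * a)
    (hel : ∀ g : G, 2 ∣ orderOf g → orderOf g = 2) :
    ∀ S T : Sylow 2 G, S ≠ T → (S : Subgroup G) ⊓ (T : Subgroup G) = ⊥ := by
  haveI := Fact.mk Nat.prime_two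
  have hsq : ∀ (k : ℕ) (g : G), g ^ 2 ^ k = 1 → g * g = 1 := fun k g hg => by
    by_cases hg1 : g = 1
    · simp [hg1]
    obtain ⟨i, -, hi⟩ := (Nat.dvd_prime_pow Nat.prime_two).1 (orderOf_dvd_of_pow_eq_one hg)
    rcases i with _ | i
    · exact absurd (orderOf_eq_one_iff.1 (by simpa using hi)) hg1
    · rw [← pow_two, ← hel g (hi ▸ dvd_pow_self 2 i.succ_ne_zero), pow_orderOf_eq_one]
  by_contra hcon
  obtain ⟨Y, D, V, c, hE⟩ : ∃ Y D V : Subgroup G, ∃ c, CIT21.ELocal Y D V c := by
    by_contra hE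
    exact hcon (CIT21.climbSpec CIT21.localSpec H inferInstance hna
      fun Y D V c h => hE ⟨Y, D, V, c, h⟩)
  obtain ⟨Y', V', c', hV⟩ :=
    CIT21.reduceSpec CIT21.localSpec CIT21.quadraticSpec H inferInstance hna ⟨Y, D, V, c, hE⟩
  -- a Sylow subgroup of the local group would centralise `V'`
  have S := hV.sl2
  obtain ⟨R, hR, -⟩ := S.exists_syl ⊥ bot_le IsPGroup.of_bot
  obtain ⟨hRY, hRp, hRc⟩ := hR
  have hVR : V' ≤ R := S.syl_ge R ⟨hRY, hRp, hRc⟩
  have hle : R ≤ V' := fun y hy => by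
    rw [← hV.cent_V]
    refine mem_centralizer_iff.2 fun v hv => TwoQ27.comm_of_sq (U := R) (fun g hg => ?_) (hVR hv) hy
    obtain ⟨k, hk⟩ := hRp ⟨g, hg⟩
    exact hsq k g (congrArg Subtype.val hk)
  have h1 := Subgroup.card_le_of_le hle
  rw [hRc] at h1
  have h2 := S.two_le
  have h3 := Nat.card_pos (α := V')
  nlinarith

theorem cube_sub_strictMono {a b : ℕ} (ha : 1 ≤ a) (hab : a < b) :
    a * (a ^ 2 - 1) < b * (b ^ 2 - 1) := by
  have h1 : a ^ 2 < b ^ 2 := Nat.pow_lt_pow_left hab (by norm_num)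
  have h2 : 1 ≤ a ^ 2 := Nat.one_le_pow _ _ ha
  exact Nat.mul_lt_mul'' hab (by omega)

/-- Simple CIT groups with elementary `2`-elements are `PSL₂(2ᶠ)`. -/
theorem elementary_iso [IsSimpleGroup G] (H : CIT21.IsCIT G) (hna : ∃ a b : G, a * b ≠ b * a)
    (hel : ∀ g : G, 2 ∣ orderOf g → orderOf g = 2) :
    ∃ t : G, Cfg t ∧ (∀ a ∈ cn t, a * a = 1) ∧ kk t + 1 = Nat.card (cn t) ∧
      ∃ (F : Type) (_ : Field F) (_ : Fintype F), CharP F 2 ∧
        Fintype.card F = Nat.card (cn t) ∧
        Nonempty (G ≃* Matrix.ProjectiveSpecialLinearGroup (Fin 2) F) := by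
  classical
  haveI := Fact.mk Nat.prime_two
  obtain ⟨t, ht, hcc, hti⟩ :=
    CIT21.frobenius_data H inferInstance hna (ti_of_elementary H hna hel)
  have C := cfg_of_simple hna ht hcc hti
  refine ⟨t, C, ?_⟩
  have hsq : ∀ a ∈ cn t, a * a = 1 := by
    intro a ha
    obtain ⟨k, hk⟩ := H t ht ⟨a, ha⟩
    by_cases ha1 : a = 1
    · simp [ha1]
    obtain ⟨i, -, hi⟩ := (Nat.dvd_prime_pow Nat.prime_two).1
      (orderOf_dvd_of_pow_eq_one (congrArg Subtype.val hk : a ^ 2 ^ k = 1))
    rcases i with _ | i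
    · exact absurd (orderOf_eq_one_iff.1 (by simpa using hi)) ha1
    · rw [← pow_two, ← hel a (hi ▸ dvd_pow_self 2 i.succ_ne_zero), pow_orderOf_eq_one]
  set n := Nat.card (cn t) with hn
  have hkk : kk t + 1 = n := by
    rw [← C.card_invol_cen]
    letI := Fintype.ofFinite (cn t)
    have e : {x : G // x ∈ cn t ∧ orderOf x = 2} ≃ {x : cn t // x ≠ 1} :=
      { toFun := fun x => ⟨⟨x.1, x.2.1⟩, fun e => by
          have h := congrArg (fun y : cn t => orderOf (y : G)) e
          simp [x.2.2] at h⟩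
        invFun := fun x => ⟨x.1, x.1.2, orderOf_eq_prime (by rw [pow_two]; exact hsq _ x.1.2)
          fun e => x.2 (Subtype.ext e)⟩
        left_inv := fun _ => rfl
        right_inv := fun _ => rfl }
    have hpos := Nat.card_pos (α := cn t)
    rw [Nat.card_congr e, Nat.card_eq_fintype_card, Fintype.card_subtype_compl,
      Fintype.card_subtype_eq, hn, Nat.card_eq_fintype_card]
    rw [Nat.card_eq_fintype_card] at hpos
    omega
  refine ⟨hsq, hkk, ?_⟩
  obtain ⟨m, hm⟩ := IsPGroup.iff_card.1 (H t ht)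
  rw [← hn] at hm
  have hk3 := C.three_le_kk
  have hGc : Nat.card G = (n + 1) * (n * (n - 1)) := by
    rw [← (nm t).index_mul_card, C.card_points, C.degree, card_nm, ← hn, ← hkk,
      Nat.add_sub_cancel]
  have hGc' : Nat.card G = n * (n ^ 2 - 1) := by
    rw [hGc, show n ^ 2 - 1 = (n + 1) * (n - 1) by rw [← Nat.sq_sub_sq, one_pow]]
    ring
  rcases CIT21Frob5.main hna ht hcc hti with ⟨F, hF, hFf, ⟨e⟩⟩ | hSz
  · obtain ⟨p, hcp⟩ := CharP.exists F
    haveI := hcp
    obtain ⟨j, hp, hFc⟩ := FiniteField.card F p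
    haveI := Fact.mk hp
    have hNF : Nat.card F = Fintype.card F := Nat.card_eq_fintype_card
    have hcard : Nat.card G =
        Nat.card (Matrix.ProjectiveSpecialLinearGroup (Fin 2) F) := Nat.card_congr e.toEquiv
    by_cases hp2 : p = 2
    · subst hp2
      have heven : Even (Nat.card F) := by
        rw [hNF, hFc]; exact (Nat.even_pow' j.pos.ne').2 even_two
      rw [PSLCard.card_PSL2_even heven, hGc', hNF] at hcard
      refine ⟨F, hF, hFf, hcp, ?_, ⟨e⟩⟩
      rcases Nat.lt_trichotomy (Fintype.card F) n with h | h | h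
      · exact absurd hcard (cube_sub_strictMono Fintype.card_pos h).ne'
      · exact h
      · exact absurd hcard (cube_sub_strictMono (by omega) h).ne
    · have hodd : Odd (Nat.card F) := by
        rw [hNF, hFc]; exact (hp.odd_of_ne_two hp2).pow
      rw [PSLCard.card_PSL2_odd hodd, hGc', hNF] at hcard
      set a := Fintype.card F with ha
      have hn4 : 4 ≤ n := by omega
      have hbig : 4 * 15 ≤ n * (n ^ 2 - 1) :=
        Nat.mul_le_mul hn4 (by have := Nat.pow_le_pow_left hn4 2; omega)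
      have ha4 : 4 ≤ a := by
        by_contra hlt
        have : a * (a ^ 2 - 1) ≤ 4 * 15 :=
          Nat.mul_le_mul (by omega) (by have := Nat.pow_le_pow_left (show a ≤ 4 by omega) 2; omega)
        omega
      have hgcd : Nat.gcd 2 (a - 1) = 2 := Nat.gcd_eq_left (by
        rw [hNF] at hodd; obtain ⟨b, hb⟩ := hodd; exact ⟨b, by omega⟩)
      have hex : ∀ d, d ∣ (a - 1) / 2 ∨ d ∣ (a + 1) / 2 → ∃ g : G, orderOf g = d := by
        intro d hd
        have hmem : d ∈ Set.range
            (orderOf : Matrix.ProjectiveSpecialLinearGroup (Fin 2) F → ℕ) := by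
          rw [Cfsg.Agent.S2475.result p ha4]
          right
          rw [hgcd]
          exact hd
        obtain ⟨y, hy⟩ := hmem
        exact ⟨e.symm y, by rw [MulEquiv.orderOf_eq, hy]⟩
      have ha5 : a = 5 := by
        rw [hNF] at hodd
        obtain ⟨b, hb⟩ := hodd
        rcases Nat.even_or_odd b with hb2 | hb2
        · obtain ⟨g, hg⟩ := hex ((a - 1) / 2) (Or.inl dvd_rfl)
          have := hel g (by rw [hg]; obtain ⟨c, rfl⟩ := hb2; exact ⟨c, by omega⟩)
          omega
        · obtain ⟨g, hg⟩ := hex ((a + 1) / 2) (Or.inr dvd_rfl)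
          have := hel g (by rw [hg]; obtain ⟨c, rfl⟩ := hb2; exact ⟨c + 1, by omega⟩)
          omega
      have hn4' : n = 4 := by
        rw [ha5] at hcard
        by_contra hne
        have := cube_sub_strictMono (show 1 ≤ 4 by norm_num) (show 4 < n by omega)
        norm_num at this hcard
        omega
      obtain ⟨e1⟩ := PSL2Small.psl2_five F (by rw [hNF]; exact ha5)
      haveI : Fintype (GaloisField 2 2) := Fintype.ofFinite _
      have h4 : Nat.card (GaloisField 2 2) = 4 := GaloisField.card 2 2 (by norm_num)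
      obtain ⟨e2⟩ := PSL2Small.psl2_four (GaloisField 2 2) h4
      exact ⟨GaloisField 2 2, inferInstance, inferInstance, inferInstance,
        by rw [← Nat.card_eq_fintype_card, h4, hn4'], ⟨e.trans (e1.trans e2.symm)⟩⟩
  · exfalso
    obtain ⟨-, k, hk1, hkc⟩ := hSz
    set s := 2 ^ (2 * k + 1) with hs
    have hs2 : 2 ≤ s := le_self_pow₀ (by norm_num) (by omega)
    have hseven : 2 ∣ s := dvd_pow_self 2 (by omega)
    have hn2 : 2 ∣ n := by
      rcases m with _ | m
      · simp at hm; omega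
      · rw [hm]; exact dvd_pow_self 2 m.succ_ne_zero
    have hodd1 : Odd ((n + 1) * (n - 1)) := by
      obtain ⟨c, hc⟩ := hn2
      exact Odd.mul ⟨c, by omega⟩ ⟨c - 1, by omega⟩
    have hodd2 : Odd ((s ^ 2 + 1) * (s - 1)) := by
      obtain ⟨c, hc⟩ := hseven
      exact Odd.mul ⟨2 * c ^ 2, by rw [hc]; ring⟩ ⟨c - 1, by omega⟩
    have heq : n * ((n + 1) * (n - 1)) = s ^ 2 * ((s ^ 2 + 1) * (s - 1)) := by
      rw [← mul_assoc (s ^ 2), ← hkc, hGc]; ring
    have hns : n = s ^ 2 := by
      refine Nat.dvd_antisymm ?_ ?_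
      · refine Nat.Coprime.dvd_of_dvd_mul_right ?_ ⟨_, heq.symm⟩
        rw [hm]; exact (Nat.coprime_two_left.2 hodd2).pow_left m
      · refine Nat.Coprime.dvd_of_dvd_mul_right ?_ ⟨_, heq⟩
        rw [hs, ← pow_mul]; exact (Nat.coprime_two_left.2 hodd1).pow_left _
    rw [hns] at heq
    have h1 := Nat.eq_of_mul_eq_mul_left (by positivity) heq
    have h2 := Nat.eq_of_mul_eq_mul_left (by positivity) h1
    have h3 : 2 * s ≤ s ^ 2 := by rw [pow_two]; exact Nat.mul_le_mul_right s hs2
    omega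

/-- A `2q` group has no simple socle with `2`-group involution centralisers. -/
theorem twoQ_cit_false {q : ℕ} (h : TwoQ27.TwoQ G q) (h2q : ∃ g : G, orderOf g = 2 * q)
    (N : Subgroup G) [N.Normal] [IsSimpleGroup N] (hna : ∃ a b : N, a * b ≠ b * a)
    (hC : centralizer (N : Set G) = ⊥) (hno : ¬ ∃ g : N, orderOf g = 2 * q) : False := by
  classical
  haveI := Fact.mk Nat.prime_two
  haveI := Fact.mk h.prime
  have hN := h.subgroup N
  have hel : ∀ g : N, 2 ∣ orderOf g → orderOf g = 2 := fun g hg =>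
    (hN.even g hg).resolve_right fun e => hno ⟨g, e⟩
  have hqN : ∀ g : N, q ∣ orderOf g → orderOf g = q := fun g hg =>
    (hN.qdvd g hg).resolve_right fun e => hno ⟨g, e⟩
  have HN : CIT21.IsCIT N := by
    intro t ht c
    have hc := mem_centralizer_singleton_iff.1 c.2
    have htt : t * t = 1 := by rw [← pow_two, ← ht, pow_orderOf_eq_one]
    have h2q' := hN.pow_two_q_of_comm (fun e => by rw [e, orderOf_one] at ht; omega)
      (Or.inl htt) (show Commute t (c : N) from hc.symm)
    refine ⟨1, Subtype.ext ?_⟩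
    show (c : N) ^ 2 ^ 1 = 1
    rw [pow_one]
    rcases hN.dvd_cases (orderOf_dvd_of_pow_eq_one h2q') with e | e | e | e
    · rw [orderOf_eq_one_iff.1 e, one_pow]
    · rw [← e, pow_orderOf_eq_one]
    · exfalso
      have hcop : (orderOf t).Coprime (orderOf (c : N)) := by
        rw [ht, e]; exact Nat.coprime_two_left.2 h.odd_q
      exact hno ⟨t * c, by
        rw [(show Commute t (c : N) from hc.symm).orderOf_mul_eq_mul_orderOf_of_coprime hcop, ht, e]⟩
    · exact absurd ⟨_, e⟩ hno
  obtain ⟨t, C, hsq, hkk, F, hF, hFf, hchar, hFc, ⟨e⟩⟩ := elementary_iso HN hna hel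
  haveI := hchar
  set n := Nat.card (cn t) with hn
  have hk3 := C.three_le_kk
  have hab : ∀ a ∈ cn t, ∀ b ∈ cn t, a * b = b * a := fun a ha b hb =>
    TwoQ27.comm_of_sq hsq ha hb
  -- whatever centralises `cn t` lies in `N`
  have hinner : ∀ w : G, (∀ y ∈ cn t, w * (y : G) * w⁻¹ = y) → w ∈ N := by
    intro w hw
    obtain ⟨x, hx, hxe⟩ := inner_of_centralizes C hab (MulAut.conjNormal w) fun y hy =>
      Subtype.ext ((MulAut.conjNormal_apply w y).trans (hw y hy))
    have hmem : (x : G)⁻¹ * w ∈ centralizer (N : Set G) := by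
      refine mem_centralizer_iff.2 fun g hg => ?_
      have e1 := congrArg Subtype.val (hxe ⟨g, hg⟩)
      rw [MulAut.conjNormal_apply] at e1
      push_cast at e1
      calc g * ((x : G)⁻¹ * w) = (x : G)⁻¹ * ((x : G) * g * (x : G)⁻¹) * w := by group
        _ = (x : G)⁻¹ * (w * g * w⁻¹) * w := by rw [e1]
        _ = (x : G)⁻¹ * w * g := by group
    rw [hC, mem_bot, inv_mul_eq_one] at hmem
    exact hmem ▸ x.2
  set T : Subgroup G := (cn t).map N.subtype with hT
  have hTp : IsPGroup 2 T := (HN t C.ot).map _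
  -- all involutions lie in `N`
  have hinvN : ∀ s : G, s * s = 1 → s ∈ N := by
    intro s hs
    obtain ⟨S, hS⟩ := hTp.exists_le_sylow
    obtain ⟨g, hg⟩ := TwoQ27.exists_conj_mem_sylow S hs
    have := hinner _ fun y hy => mul_inv_eq_iff_eq_mul.2
      (h.comm_of_mem S.isPGroup' hg (hS ⟨y, hy, rfl⟩))
    have h2 := (inferInstance : N.Normal).conj_mem _ this g⁻¹
    simpa [mul_assoc] using h2
  obtain ⟨y, hy⟩ := h2q
  have hyq2 : y ^ q * y ^ q = 1 := by rw [← pow_add, ← two_mul, ← hy, pow_orderOf_eq_one]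
  have hyq1 : y ^ q ≠ 1 := fun e => by
    have := Nat.le_of_dvd h.prime.pos (hy ▸ orderOf_dvd_of_pow_eq_one e)
    have := h.prime.pos
    omega
  obtain ⟨g, hg⟩ := isConj_iff.1 (C.conjI ⟨y ^ q, hinvN _ hyq2⟩ t
    (orderOf_eq_prime (Subtype.ext (by simpa [pow_two] using hyq2))
      fun e => hyq1 (congrArg Subtype.val e)) C.ot)
  have hg' : (g : G) * y ^ q * (g : G)⁻¹ = t := congrArg Subtype.val hg
  set w : G := (g : G) * y ^ 2 * (g : G)⁻¹ with hwdef
  have hwo : orderOf w = q := by
    rw [hwdef, (SignalizerStrongEmb.orderOf_conj _ _), orderOf_pow' y (by norm_num), hy,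
      Nat.gcd_eq_right (dvd_mul_right 2 q), Nat.mul_div_cancel_left q two_pos]
  have hwq : w ^ q = 1 := by rw [← hwo, pow_orderOf_eq_one]
  have hw1 : w ≠ 1 := fun e => h.prime.ne_one (by rw [← hwo, e, orderOf_one])
  have hwt : w * (t : G) = t * w := by
    rw [hwdef, ← hg']
    calc (g : G) * y ^ 2 * (g : G)⁻¹ * ((g : G) * y ^ q * (g : G)⁻¹)
        = (g : G) * (y ^ 2 * y ^ q) * (g : G)⁻¹ := by group
      _ = (g : G) * (y ^ q * y ^ 2) * (g : G)⁻¹ := by rw [← pow_add, ← pow_add, add_comm]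
      _ = _ := by group
  have hwN : w ∉ N := fun hw => hno ⟨t * ⟨w, hw⟩, by
    rw [(show Commute t (⟨w, hw⟩ : N) from (Subtype.ext hwt : (⟨w, hw⟩ : N) * t = t * ⟨w, hw⟩).symm
      ).orderOf_mul_eq_mul_orderOf_of_coprime (by
      rw [C.ot, Subgroup.orderOf_mk, hwo]; exact Nat.coprime_two_left.2 h.odd_q),
      C.ot, Subgroup.orderOf_mk, hwo]⟩
  -- the action of `w`
  set α : MulAut N := MulAut.conjNormal w with hα
  have hαv : ∀ z : N, ((α z : N) : G) = w * z * w⁻¹ := MulAut.conjNormal_apply w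
  have hαt : α t = t := Subtype.ext (by rw [hαv, hwt, mul_inv_cancel_right])
  have hαp : IsPGroup q (zpowers α) := by
    have hαq : α ^ q = 1 := by rw [hα, ← map_pow, hwq, map_one]
    obtain ⟨i, -, hi⟩ := (Nat.dvd_prime_pow h.prime).1
      ((pow_one q).symm ▸ orderOf_dvd_of_pow_eq_one hαq : orderOf α ∣ q ^ 1)
    exact IsPGroup.of_card (n := i) (by rw [Nat.card_zpowers, hi])
  set X := {v : N // orderOf v = 2} with hX
  have hXc : Nat.card X = kk t * (n + 1) := by
    rw [C.card_involutions, C.degree]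
  have hfixmod : ∀ (P : N → Prop), (∀ v, P v → P (α v)) →
      Nat.card {v : N // P v} ≡ Nat.card {v : N // P v ∧ α v = v} [MOD q] := by
    intro P hP
    have hPall : ∀ (b : zpowers α) (v : N), P v → P ((b : MulAut N) v) := by
      rintro ⟨b, hb⟩ v hv
      obtain ⟨k, rfl⟩ := (Submonoid.mem_powers_iff _ _).1 (mem_powers_iff_mem_zpowers.2 hb)
      show P ((α ^ k) v)
      clear hb
      induction k with
      | zero => simpa using hv
      | succ k ih => rw [pow_succ', MulAut.mul_apply]; exact hP _ ih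
    letI : MulAction (zpowers α) {v : N // P v} :=
      { smul := fun b v => ⟨(b : MulAut N) v.1, hPall b v.1 v.2⟩
        one_smul := fun v => Subtype.ext rfl
        mul_smul := fun a b v => Subtype.ext rfl }
    refine (hαp.card_modEq_card_fixedPoints {v : N // P v}).trans (congrArg (· % q) ?_)
    refine Nat.card_congr
      { toFun := fun v => ⟨v.1.1, v.1.2,
          congrArg Subtype.val (v.2 ⟨α, mem_zpowers α⟩)⟩
        invFun := fun v => ⟨⟨v.1, v.2.1⟩, fun b => Subtype.ext ?_⟩
        left_inv := fun _ => rfl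
        right_inv := fun _ => rfl }
    obtain ⟨b, hb⟩ := b
    obtain ⟨k, rfl⟩ := (Submonoid.mem_powers_iff _ _).1 (mem_powers_iff_mem_zpowers.2 hb)
    show (α ^ k) v.1 = v.1
    clear hb
    induction k with
    | zero => simp
    | succ k ih => rw [pow_succ', MulAut.mul_apply, ih, v.2.2]
  -- a large `q` centralises `cn t`
  have hsmall : q + 2 ≤ n := by
    by_contra hlt
    apply hwN
    refine hinner w fun v hv => ?_
    have hcn : ∀ v, v ∈ cn t → α v ∈ cn t := fun v hv => by
      rw [mem_cn] at hv ⊢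
      have := hv.map α.toMonoidHom
      rwa [MulEquiv.coe_toMonoidHom, hαt] at this
    let P : N → Prop := fun v => v ∈ cn t ∧ v ≠ 1 ∧ v ≠ t
    have hP : ∀ v, P v → P (α v) := fun v hv =>
      ⟨hcn v hv.1, fun e => hv.2.1 (α.injective (e.trans (map_one α).symm)),
        fun e => hv.2.2 (α.injective (e.trans hαt.symm))⟩
    by_contra hne
    have hv1 : v ≠ 1 := fun e => hne (by rw [e, Subgroup.coe_one]; group)
    have hvt : v ≠ t := fun e => hne (by rw [e]; exact congrArg Subtype.val hαt)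
    have hlt' : Nat.card {v : N // P v ∧ α v = v} < Nat.card {v : N // P v} := by
      haveI := Fintype.ofFinite {v : N // P v ∧ α v = v}
      haveI := Fintype.ofFinite {v : N // P v}
      rw [Nat.card_eq_fintype_card, Nat.card_eq_fintype_card]
      refine Fintype.card_lt_of_injective_of_notMem (b := ⟨v, hv, hv1, hvt⟩)
        (fun u => (⟨u.1, u.2.1⟩ : {v : N // P v}))
        (fun a b e => Subtype.ext (congrArg Subtype.val e :)) fun ⟨u, hu⟩ => ?_
      have e' : u.1 = v := congrArg Subtype.val hu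
      exact hne ((hαv v).symm.trans (congrArg Subtype.val (e' ▸ u.2.2)))
    have hPc : Nat.card {v : N // P v} + 2 ≤ n := by
      letI := Fintype.ofFinite (cn t)
      have hle := Finset.card_le_univ
        ((Finset.univ.filter fun u : cn t => P u) ∪ {1, ⟨t, C.t_mem⟩})
      rw [Finset.card_union_of_disjoint (by
          simp only [Finset.disjoint_left, Finset.mem_filter, Finset.mem_univ, true_and,
            Finset.mem_insert, Finset.mem_singleton]
          rintro u ⟨-, h1, h2⟩ (e | e) <;> subst e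
          · exact h1 rfl
          · exact h2 rfl),
        Finset.card_pair (fun e => C.t_ne (congrArg Subtype.val e).symm)] at hle
      rw [hn, Nat.card_eq_fintype_card (α := cn t)]
      refine le_trans (le_of_eq ?_) hle
      congr 1
      rw [← Fintype.card_subtype, ← Nat.card_eq_fintype_card]
      exact Nat.card_congr
        { toFun := fun u => ⟨⟨u.1, u.2.1⟩, u.2⟩
          invFun := fun u => ⟨u.1, u.2⟩
          left_inv := fun _ => rfl
          right_inv := fun _ => rfl }
    have hdvd := (Nat.modEq_iff_dvd' hlt'.le).1 (hfixmod P hP).symm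
    have := Nat.le_of_dvd (by omega) hdvd
    omega
  -- torus orders
  have hn4 : 4 ≤ n := by omega
  have hex : ∀ d, d = n - 1 ∨ d = n + 1 → ∃ z : N, orderOf z = d := by
    intro d hd
    have hgcd : Nat.gcd 2 (Fintype.card F - 1) = 1 := by
      obtain ⟨k, hk⟩ := IsPGroup.iff_card.1 (HN t C.ot)
      rw [← hn] at hk
      rw [hFc]
      refine Nat.coprime_two_left.2 ?_
      rcases k with _ | k
      · simp at hk; omega
      · exact ⟨2 ^ k - 1, by rw [hk, pow_succ]; have := Nat.one_le_two_pow (n := k); omega⟩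
    have hmem : d ∈ Set.range
        (orderOf : Matrix.ProjectiveSpecialLinearGroup (Fin 2) F → ℕ) := by
      rw [Cfsg.Agent.S2475.result 2 (hFc ▸ hn4)]
      right
      rw [hgcd, Nat.div_one, Nat.div_one, hFc]
      rcases hd with rfl | rfl
      · exact Or.inl dvd_rfl
      · exact Or.inr dvd_rfl
    obtain ⟨z, hz⟩ := hmem
    exact ⟨e.symm z, by rw [MulEquiv.orderOf_eq, hz]⟩
  have hnq : ∀ d, d = n - 1 ∨ d = n + 1 → ¬ q ∣ d := by
    intro d hd hqd
    obtain ⟨z, hz⟩ := hex d hd
    have := hqN z (hz ▸ hqd)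
    rw [hz] at this
    omega
  -- `w` fixes an involution outside `cn t`
  obtain ⟨b, hb2, hbt, hbw⟩ : ∃ b : N, orderOf b = 2 ∧ b ∉ cn t ∧ α b = b := by
    by_contra hcon
    push Not at hcon
    let P : N → Prop := fun v => orderOf v = 2 ∧ v ∉ cn t
    have hP : ∀ v, P v → P (α v) := fun v hv =>
      ⟨by rw [MulEquiv.orderOf_eq]; exact hv.1, fun hmem => hv.2 (by
        rw [mem_cn] at hmem ⊢
        have := hmem.map α.symm.toMonoidHom
        rwa [MulEquiv.coe_toMonoidHom, α.symm_apply_apply,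
          α.symm_apply_eq.2 hαt.symm] at this)⟩
    have h0 : Nat.card {v : N // P v ∧ α v = v} = 0 := by
      haveI : IsEmpty {v : N // P v ∧ α v = v} := ⟨fun v => hcon v.1 v.2.1.1 v.2.1.2 v.2.2⟩
      exact Nat.card_of_isEmpty
    have hsplit : Nat.card X = Nat.card {v : N // P v} + kk t := by
      rw [← C.card_invol_cen, ← Nat.card_sum]
      refine Nat.card_congr
        { toFun := fun v => if hm : v.1 ∈ cn t then Sum.inr ⟨v.1, hm, v.2⟩
            else Sum.inl ⟨v.1, v.2, hm⟩
          invFun := Sum.elim (fun v => ⟨v.1, v.2.1⟩) fun v => ⟨v.1, v.2.2⟩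
          left_inv := fun v => by by_cases hm : v.1 ∈ cn t <;> simp [hm]
          right_inv := fun v => by
            rcases v with ⟨v, hv⟩ | ⟨v, hv⟩
            · simp [hv.2]
            · simp [hv.1] }
    have hPc : Nat.card {v : N // P v} = kk t * n := by
      rw [hXc, Nat.mul_succ] at hsplit
      omega
    have hdvd := hfixmod P hP
    rw [h0, hPc] at hdvd
    rcases h.prime.dvd_mul.1 (Nat.modEq_zero_iff_dvd.1 hdvd) with hd | hd
    · exact hnq (n - 1) (Or.inl rfl) (by rwa [← hkk, Nat.add_sub_cancel])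
    · obtain ⟨k, hk⟩ := IsPGroup.iff_card.1 (HN t C.ot)
      rw [← hn] at hk
      exact h.ne_two ((Nat.prime_dvd_prime_iff_eq h.prime Nat.prime_two).1
        (h.prime.dvd_of_dvd_pow (hk ▸ hd)))
  have hb1 : b ≠ 1 := fun e => by rw [e, orderOf_one] at hb2; omega
  have hbG : w * (b : G) = b * w := mul_inv_eq_iff_eq_mul.1
    ((hαv b).symm.trans (congrArg Subtype.val hbw))
  have hcomm : Commute w ((t * b : N) : G) := by
    rw [Subgroup.coe_mul]
    exact (show Commute w (t : G) from hwt).mul_right hbG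
  have hz1 : t * b ≠ 1 := fun e => hbt (by
    rw [eq_inv_of_mul_eq_one_right e]
    exact inv_mem C.t_mem)
  have hzq : orderOf (t * b) ∣ 2 * q := by
    refine orderOf_dvd_of_pow_eq_one (N.subtype_injective ?_)
    rw [map_pow, map_one]
    exact h.pow_two_q_of_comm hw1 (Or.inr hwq) hcomm
  have hznq : orderOf (t * b) = q := by
    rcases hN.dvd_cases hzq with e | e | e | e
    · exact absurd (orderOf_eq_one_iff.1 e) hz1
    · exfalso
      refine hbt (mem_cn.2 ?_)
      have hbb : b * b = 1 := by rw [← pow_two, ← hb2, pow_orderOf_eq_one]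
      have htt : t * t = 1 := hsq t C.t_mem
      have h2 : (t * b) * (t * b) = 1 := by rw [← pow_two, ← e, pow_orderOf_eq_one]
      show b * t = t * b
      calc b * t = (t * t) * (b * t) * (b * b) := by rw [htt, hbb, one_mul, mul_one]
        _ = t * ((t * b) * (t * b)) * b := by group
        _ = t * b := by rw [h2, mul_one]
    · exact e
    · exact absurd ⟨_, e⟩ hno
  -- hence `q` divides the order of `N`
  have hdvd : q ∣ n * ((n + 1) * kk t) := by
    have h1 := orderOf_dvd_natCard (t * b)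
    rw [hznq, ← (nm t).index_mul_card, C.card_points, C.degree, card_nm, ← hn] at h1
    rwa [show n * ((n + 1) * kk t) = (n + 1) * (n * kk t) by ring]
  rcases h.prime.dvd_mul.1 hdvd with hd | hd
  · obtain ⟨k, hk⟩ := IsPGroup.iff_card.1 (HN t C.ot)
    rw [← hn] at hk
    exact h.ne_two ((Nat.prime_dvd_prime_iff_eq h.prime Nat.prime_two).1
      (h.prime.dvd_of_dvd_pow (hk ▸ hd)))
  rcases h.prime.dvd_mul.1 hd with hd | hd
  · exact hnq (n + 1) (Or.inr rfl) hd
  · exact hnq (n - 1) (Or.inl rfl) (by rwa [← hkk, Nat.add_sub_cancel])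

end Cfsg.Agent.ThreeOrd27
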