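import Mathlib
import Cfsg.Agent.Lib.ThreeOrd27Elem
import Cfsg.Agent.Lib.EppoCIT4
import Cfsg.Agent.Lib.SuzukiGroupLie
import Cfsg.Agent.Lib.SuzukiGroupTori
import Cfsg.Agent.Lib.SuzukiGroupNormalizers
import Cfsg.Agent.S0324

/-!
# The element orders of the groups in the list

No prime divides three distinct element orders of `PSL₂(q)` or `Sz(q)` only if their torus orders
have at most two prime factors.
-/

set_option autoImplicit false
set_option linter.style.haveILetI false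
set_option linter.unusedSectionVars false

namespace Cfsg.Agent.ThreeOrd27

open Subgroup

universe u

variable {G : Type u} [Group G] [Finite G]

/-- A simple `PSL₂(F)` has `|F| ≥ 4`. -/
theorem four_le_card_field [IsSimpleGroup G] {F : Type} [Field F] [Fintype F]
    (e : G ≃* Matrix.ProjectiveSpecialLinearGroup (Fin 2) F) : 4 ≤ Fintype.card F := by
  haveI := e.isSimpleGroup_congr.1 ‹IsSimpleGroup G›
  by_contra hc
  have h2 := Fintype.one_lt_card (α := F)
  rcases (show Fintype.card F = 2 ∨ Fintype.card F = 3 by omega) with h2 | h2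
  · obtain ⟨f⟩ := PSL2Small.psl2_two F (by rw [Nat.card_eq_fintype_card, h2])
    haveI := f.isSimpleGroup_congr.1 ‹_›
    have h6 : Nat.card (Equiv.Perm (Fin 3)) = 6 := by rw [Nat.card_perm, Nat.card_fin]; rfl
    have h3 : Nat.card (alternatingGroup (Fin 3)) = 3 := by
      rw [nat_card_alternatingGroup, Nat.card_fin]; rfl
    rcases (inferInstance : (alternatingGroup (Fin 3)).Normal).eq_bot_or_eq_top with h | h
    · rw [h, Subgroup.card_bot] at h3; omega
    · rw [h, Subgroup.card_top, h6] at h3; omega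
  · obtain ⟨f⟩ := PSL2Small.psl2_three F (by rw [Nat.card_eq_fintype_card, h2])
    haveI := f.isSimpleGroup_congr.1 ‹_›
    have h4 : Nat.card (Fin 4) = 4 := Nat.card_fin 4
    have h12 : Nat.card (alternatingGroup (Fin 4)) = 12 := by
      rw [nat_card_alternatingGroup, h4]; rfl
    haveI := alternatingGroup.kleinFour_isKleinFour h4
    haveI := alternatingGroup.characteristic_kleinFour h4
    have hk := IsKleinFour.card_four (G := alternatingGroup.kleinFour (Fin 4))
    rcases (inferInstance : (alternatingGroup.kleinFour (Fin 4)).Normal).eq_bot_or_eq_top with h | h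
    · rw [h, Subgroup.card_bot] at hk; omega
    · rw [h, Subgroup.card_top, h12] at hk; omega

/-- `(q - 1)/d` and `(q + 1)/d` are element orders. -/
theorem torus_orders {F : Type} [Field F] [Fintype F] (h4 : 4 ≤ Fintype.card F)
    (e : G ≃* Matrix.ProjectiveSpecialLinearGroup (Fin 2) F) {d : ℕ}
    (hd : d ∣ (Fintype.card F - 1) / Nat.gcd 2 (Fintype.card F - 1) ∨
      d ∣ (Fintype.card F + 1) / Nat.gcd 2 (Fintype.card F - 1)) :
    ∃ g : G, orderOf g = d := by
  obtain ⟨p, hc⟩ := CharP.exists F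
  obtain ⟨-, hp, -⟩ := FiniteField.card F p
  haveI := Fact.mk hp
  obtain ⟨y, hy⟩ : d ∈ Set.range
      (orderOf : Matrix.ProjectiveSpecialLinearGroup (Fin 2) F → ℕ) := by
    rw [Cfsg.Agent.S2475.result p h4]
    exact Or.inr hd
  exact ⟨e.symm y, by rw [MulEquiv.orderOf_eq, hy]⟩

theorem gcd_of_odd {n : ℕ} (hn : Odd n) : Nat.gcd 2 (n - 1) = 2 :=
  Nat.gcd_eq_left (by obtain ⟨b, hb⟩ := hn; exact ⟨b, by omega⟩)

theorem gcd_of_even {n : ℕ} (hn : Even n) (h1 : 1 ≤ n) : Nat.gcd 2 (n - 1) = 1 :=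
  Nat.coprime_two_left.2 (by obtain ⟨b, hb⟩ := hn; exact ⟨b - 1, by omega⟩)

/-- The arithmetic conditions in odd characteristic. -/
theorem psl_two_odd_arith (h : ThreeOrd G) {F : Type} [Field F] [Fintype F]
    (h4 : 4 ≤ Fintype.card F) (hodd : Odd (Fintype.card F))
    (e : G ≃* Matrix.ProjectiveSpecialLinearGroup (Fin 2) F) :
    ((Fintype.card F + 1) / 2).primeFactorsList.length ≤ 2 ∧
      ((Fintype.card F - 1) / 2).primeFactorsList.length ≤ 2 := by
  obtain ⟨a, ha⟩ := torus_orders h4 e (Or.inr dvd_rfl)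
  obtain ⟨b, hb⟩ := torus_orders h4 e (Or.inl dvd_rfl)
  rw [gcd_of_odd hodd] at ha hb
  exact ⟨ha ▸ h.length_le_two a, hb ▸ h.length_le_two b⟩

/-- The arithmetic conditions in characteristic two. -/
theorem psl_two_even_arith (h : ThreeOrd G) {F : Type} [Field F] [Fintype F] [CharP F 2]
    (h4 : 4 ≤ Fintype.card F) (e : G ≃* Matrix.ProjectiveSpecialLinearGroup (Fin 2) F) :
    (Fintype.card F + 1).primeFactorsList.length ≤ 2 ∧
      (Fintype.card F - 1).primeFactorsList.length ≤ 2 := by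
  obtain ⟨a, ha⟩ := torus_orders h4 e (Or.inr dvd_rfl)
  obtain ⟨b, hb⟩ := torus_orders h4 e (Or.inl dvd_rfl)
  obtain ⟨n, -, hn⟩ := FiniteField.card F 2
  rw [gcd_of_even (by rw [hn]; exact (Nat.even_pow' n.pos.ne').2 even_two) (by omega),
    Nat.div_one] at ha hb
  exact ⟨ha ▸ h.length_le_two a, hb ▸ h.length_le_two b⟩

/-- The Suzuki disjunct. -/
theorem suzuki_arith (h : ThreeOrd G) [IsSimpleGroup G] (hG : Cfsg.Lie.IsoSuzuki G) :
    ∃ n : ℕ, 1 ≤ n ∧ IsSimpleGroup G ∧
      Nat.card G = (2 ^ (2 * n + 1)) ^ 2 * ((2 ^ (2 * n + 1)) ^ 2 + 1) * (2 ^ (2 * n + 1) - 1) ∧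
      (2 ^ (2 * n + 1) - 1).primeFactorsList.length ≤ 2 ∧
      (2 ^ (2 * n + 1) - 2 ^ (n + 1) + 1).primeFactorsList.length ≤ 2 ∧
      (2 ^ (2 * n + 1) + 2 ^ (n + 1) + 1).primeFactorsList.length ≤ 2 := by
  obtain ⟨F, iF, iFF, m, hm, hF, ⟨e₀⟩⟩ := hG
  haveI : SuzukiGroupBasic.Param F m := SuzukiGroupBasic.Param.mk' hm hF
  haveI : Finite ↥(Cfsg.Sz F m) := Finite.of_equiv G
    (e₀.trans SuzukiGroupLie.lieEquiv).toEquiv
  set e : G ≃* ↥(Cfsg.Sz F m) := e₀.trans SuzukiGroupLie.lieEquiv with he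
  have hlen : ∀ y : ↥(Cfsg.Sz F m), (orderOf y).primeFactorsList.length ≤ 2 := fun y => by
    rw [← MulEquiv.orderOf_eq e.symm y]
    exact h.length_le_two _
  have hcyc : ∀ A : Subgroup ↥(Cfsg.Sz F m), IsCyclic A →
      (Nat.card A).primeFactorsList.length ≤ 2 := by
    intro A hA
    obtain ⟨g, hg⟩ := IsCyclic.exists_generator (α := A)
    rw [← orderOf_eq_card_of_forall_mem_zpowers hg, ← Subgroup.orderOf_coe]
    exact hlen _
  obtain ⟨A₁, A₂, hA₁, hA₂, hc₁, hc₂, -⟩ := SuzukiGroupTori.exists_tori (F := F) (m := m)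
  refine ⟨m, hm, inferInstance, ?_, ?_, hc₂ ▸ hcyc A₂ hA₂.cyclic, hc₁ ▸ hcyc A₁ hA₁.cyclic⟩
  · rw [Nat.card_congr e.toEquiv, Cfsg.Agent.S0324.result hm hF]
  · have hinj : Function.Injective
        (SuzukiGroupStructure.torusHom : Fˣ →* ↥(Cfsg.Sz F m)) :=
      SuzukiGroupStructure.Hs_injective
    obtain ⟨g, hg⟩ := IsCyclic.exists_generator (α := Fˣ)
    have hc := orderOf_injective _ hinj g
    rw [orderOf_eq_card_of_forall_mem_zpowers hg, Nat.card_units, Nat.card_eq_fintype_card, hF]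
      at hc
    exact hc ▸ hlen _

end Cfsg.Agent.ThreeOrd27
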