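import Mathlib
import Cfsg.Agent.Lib.TransitiveOdd23
import Cfsg.Agent.Lib.ComponentsFitting

/-!
# The linear group of a large Sylow `2`-subgroup of a `2q` group

An odd order group `D` transitive on the non-zero vectors of an elementary abelian `2`-group `E`, whose
elements of order divisible by `q` and whose point stabilisers have exponent `q`.  Also the averaging
identity for a Frobenius group acting on an abelian group.
-/

set_option autoImplicit false

namespace Cfsg.Agent.TwoQ27

/-- If all norms of the conjugates of `b` vanish and `a` generates the kernel, the module has exponent `r`. -/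
theorem frobenius_norm {V : Type*} [CommGroup V] {a b : MulAut V} {r q : ℕ} (hq : 0 < q)
    (hnorm : ∀ v : V, ∏ i ∈ Finset.range q, (b ^ i) v = 1)
    (hc : ∀ i, 0 < i → i < q → ∃ c : MulAut V, c ^ r = 1 ∧ (∀ v, c v = v → v = 1) ∧
      ∀ k : ℕ, a ^ k * b ^ i * (a ^ k)⁻¹ = b ^ i * c ^ k) (v : V) : v ^ r = 1 := by
  have hrow : ∀ k, ∏ i ∈ Finset.range q, (a ^ k * b ^ i * (a ^ k)⁻¹) v = 1 := fun k => by
    simp only [MulAut.mul_apply]
    rw [← map_prod, hnorm, map_one]
  have hcol : ∀ i, 0 < i → i < q →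
      ∏ k ∈ Finset.range r, (a ^ k * b ^ i * (a ^ k)⁻¹) v = 1 := by
    intro i hi hiq
    obtain ⟨c, hcr, hfix, hk⟩ := hc i hi hiq
    simp only [hk, MulAut.mul_apply]
    rw [← map_prod, hfix (∏ k ∈ Finset.range r, (c ^ k) v) ?_, map_one]
    rw [map_prod]
    have h := Finset.prod_range_succ' (fun k => (c ^ k) v) r
    rw [Finset.prod_range_succ, hcr] at h
    simp only [pow_zero, MulAut.one_apply] at h
    rw [mul_right_cancel h]
    exact Finset.prod_congr rfl fun k _ => by rw [← MulAut.mul_apply, ← pow_succ']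
  have htot : ∏ i ∈ Finset.range q, ∏ k ∈ Finset.range r, (a ^ k * b ^ i * (a ^ k)⁻¹) v = 1 := by
    rw [Finset.prod_comm]
    exact Finset.prod_eq_one fun k _ => hrow k
  rw [Finset.prod_eq_single_of_mem 0 (Finset.mem_range.2 hq) fun i hi hi0 =>
    hcol i (Nat.pos_of_ne_zero hi0) (Finset.mem_range.1 hi)] at htot
  simpa using htot

variable {D E : Type*} [Group D] [Finite D] [AddCommGroup E] [Finite E] [DistribMulAction D E]

/-- The hypothesis on `(D, E)`. -/
structure LHyp (D E : Type*) [Group D] [AddCommGroup E] [DistribMulAction D E] (q : ℕ) : Prop where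
  prime : q.Prime
  ne_two : q ≠ 2
  faithful : FaithfulSMul D E
  odd : Odd (Nat.card D)
  solv : Group.IsSolvable D
  two : ∀ e : E, 2 • e = 0
  trans : ∀ a b : E, a ≠ 0 → b ≠ 0 → ∃ d : D, d • a = b
  qord : ∀ d : D, q ∣ orderOf d → d ^ q = 1
  stab : ∀ (d : D) (e : E), e ≠ 0 → d • e = e → d ^ q = 1
  big : 3 ≤ Nat.card E

namespace LHyp

variable {q : ℕ}

/-- A nontrivial element of order `q` commutes with no nontrivial element of order prime to `q`. -/
theorem eq_one_of_comm (h : LHyp D E q) {d f : D} (hd : d ^ q = 1) (hd1 : d ≠ 1)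
    (hf : ¬ q ∣ orderOf f) (hc : Commute d f) : f = 1 := by
  haveI := Fact.mk h.prime
  have hdo : orderOf d = q := orderOf_eq_prime hd hd1
  have ho := hc.orderOf_mul_eq_mul_orderOf_of_coprime
    (by rw [hdo]; exact (h.prime.coprime_iff_not_dvd).2 hf)
  have h1 := h.qord (d * f) (by rw [ho, hdo]; exact dvd_mul_right _ _)
  rw [hc.mul_pow, hd, one_mul] at h1
  by_contra hf1
  exact hf ((orderOf_eq_prime h1 hf1) ▸ dvd_rfl)

/-- An abelian `D` is cyclic and regular. -/
theorem abelian_cyclic (h : LHyp D E q) (hab : ∀ a b : D, a * b = b * a) :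
    IsCyclic D ∧ ∀ d : D, d ≠ 1 → ∀ e : E, d • e = e → e = 0 := by
  haveI := h.faithful
  haveI := h.solv
  obtain ⟨hcyc, hsemi, -⟩ := TransitiveOdd23.main h.odd Nat.prime_two h.two h.trans
  haveI : IsMulCommutative D := ⟨⟨hab⟩⟩
  have htop : Cfsg.fittingSubgroup D = ⊤ := ComponentsFitting.fittingSubgroup_eq_top_iff.2
    (letI : CommGroup D := { (inferInstance : Group D) with mul_comm := hab }
     CommGroup.isNilpotent (G := D))
  refine ⟨?_, fun d hd => hsemi d (htop ▸ Subgroup.mem_top d) hd⟩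
  rw [htop] at hcyc
  exact (Subgroup.topEquiv (G := D)).isCyclic.1 hcyc

/-- The structure of `D` when some point stabiliser is nontrivial. -/
theorem main (h : LHyp D E q) (hst : ∃ (d : D) (e : E), d ≠ 1 ∧ e ≠ 0 ∧ d • e = e) :
    ∃ F : Subgroup D, F.Normal ∧ IsCyclic F ∧ Nat.card F + 1 = Nat.card E ∧ F.index = q ∧
      ¬ q ∣ Nat.card F ∧ (∀ d, d ∉ F → d ^ q = 1) ∧
      (∀ f ∈ F, f ≠ 1 → ∀ e : E, f • e = e → e = 0) ∧
      (∀ d : D, d ^ q = 1 → d ≠ 1 → ∀ f ∈ F, Commute d f → f = 1) ∧
      (∀ d : D, d ^ q = 1 → d ≠ 1 →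
        (∃ e : E, e ≠ 0 ∧ d • e = e) ∧
          ∀ a b : E, a ≠ 0 → b ≠ 0 → d • a = a → d • b = b → a = b) := by
  haveI := h.faithful
  haveI := h.solv
  haveI := Fact.mk h.prime
  obtain ⟨hcyc, hsemi, hcomm⟩ := TransitiveOdd23.main h.odd Nat.prime_two h.two h.trans
  set F := Cfsg.fittingSubgroup D with hF
  haveI hFn : F.Normal := ComponentsCores.fittingSubgroup_normal
  haveI := hcyc
  obtain ⟨y, e₀, hy1, he₀, hye⟩ := hst
  have hyF : y ∉ F := fun hm => he₀ (hsemi y hm hy1 e₀ hye)
  have hyq : y ^ q = 1 := h.stab y e₀ he₀ hye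
  obtain ⟨f₀, hf₀⟩ := IsCyclic.exists_generator (α := F)
  have hFc : ∀ a ∈ F, ∀ b ∈ F, a * b = b * a := fun a ha b hb => by
    haveI : IsMulCommutative F := IsCyclic.isMulCommutative
    exact congrArg Subtype.val (mul_comm' (⟨a, ha⟩ : F) ⟨b, hb⟩)
  have hCF : Subgroup.centralizer (F : Set D) ≤ F :=
    ComponentsFitting.centralizer_fitting_le_of_solvable
  have hcardf : Nat.card F = orderOf (f₀ : D) := by
    rw [Subgroup.orderOf_coe, orderOf_eq_card_of_forall_mem_zpowers hf₀]
  have hgen : ∀ x : D, x ∈ F → x ∈ Subgroup.zpowers (f₀ : D) := fun x hx => by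
    obtain ⟨k, hk⟩ := hf₀ ⟨x, hx⟩
    exact ⟨k, by simpa using congrArg Subtype.val hk⟩
  have hFz : F = Subgroup.zpowers (f₀ : D) :=
    le_antisymm hgen (Subgroup.zpowers_le.2 f₀.2)
  -- conjugation on a power of a normal cyclic subgroup
  have hconjpow : ∀ z ∈ F, ∀ d : D, ∃ e : ℕ, d * z * d⁻¹ = z ^ e := by
    intro z hz d
    obtain ⟨k, hk⟩ := (isOfFinOrder_of_finite (f₀ : D)).mem_powers_iff_mem_zpowers.2
      (hgen _ (hFn.conj_mem _ f₀.2 d))
    obtain ⟨j, rfl⟩ := (isOfFinOrder_of_finite (f₀ : D)).mem_powers_iff_mem_zpowers.2 (hgen z hz)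
    refine ⟨k, ?_⟩
    show d * (f₀ : D) ^ j * d⁻¹ = _
    rw [← conj_pow, ← show (f₀ : D) ^ k = d * f₀ * d⁻¹ from hk, ← pow_mul, ← pow_mul, mul_comm]
  -- `q` does not divide `|F|`
  have hqF : ¬ q ∣ Nat.card F := by
    intro hd
    have hfo : orderOf (f₀ : D) = q := orderOf_eq_prime (h.qord _ (hcardf ▸ hd)) fun e => by
      rw [hcardf, e, orderOf_one] at hd
      exact h.prime.not_dvd_one hd
    obtain ⟨e, he⟩ := hconjpow _ f₀.2 y
    have hiter : ∀ m : ℕ, y ^ m * (f₀ : D) * (y ^ m)⁻¹ = (f₀ : D) ^ (e ^ m) := by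
      intro m
      induction m with
      | zero => simp
      | succ m ih =>
        rw [pow_succ' y, mul_inv_rev,
          show y * y ^ m * (f₀ : D) * ((y ^ m)⁻¹ * y⁻¹) = y * (y ^ m * f₀ * (y ^ m)⁻¹) * y⁻¹ by group,
          ih, ← conj_pow, he, ← pow_mul, ← pow_succ']
    have h1 := hiter q
    rw [hyq, one_mul, inv_one, mul_one] at h1
    nth_rewrite 1 [← pow_one (f₀ : D)] at h1
    rw [pow_eq_pow_iff_modEq, hfo] at h1
    have h2 : e ^ q ≡ e [MOD q] := (ZMod.natCast_eq_natCast_iff _ _ _).1 (by push_cast; exact ZMod.pow_card _)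
    have h3 : (f₀ : D) ^ e = f₀ := by
      conv_rhs => rw [← pow_one (f₀ : D)]
      rw [pow_eq_pow_iff_modEq, hfo]
      exact h2.symm.trans h1.symm
    rw [h3, mul_inv_eq_iff_eq_mul] at he
    refine hyF (hCF (Subgroup.mem_centralizer_iff.2 fun x hx => ?_))
    obtain ⟨k, rfl⟩ := hgen x hx
    exact ((show Commute (f₀ : D) y from he.symm).zpow_left k).eq
  have hcomm1 : ∀ d : D, d ^ q = 1 → d ≠ 1 → ∀ f ∈ F, Commute d f → f = 1 := fun d hd hd1 f hf hc =>
    h.eq_one_of_comm hd hd1 (fun hdv => hqF (hdv.trans (Subgroup.orderOf_dvd_natCard F hf))) hc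
  -- everything outside `F` has order `q`
  have hout : ∀ d, d ∉ F → d ^ q = 1 := by
    intro d hdF
    by_contra hne
    have hnd : ¬ q ∣ orderOf d := fun hd => hne (h.qord d hd)
    let π := QuotientGroup.mk' F
    have hc : Commute (π y) (π d) := by
      have := hcomm (Subgroup.commutator_mem_commutator (Subgroup.mem_top y) (Subgroup.mem_top d))
      rw [← QuotientGroup.eq_one_iff, commutatorElement_def] at this
      have h' : π (y * d * y⁻¹ * d⁻¹) = 1 := this
      rw [map_mul, map_mul, map_mul, map_inv, map_inv] at h'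
      rw [mul_inv_eq_one, mul_inv_eq_iff_eq_mul] at h'
      exact h'
    have hyo : orderOf (π y) = q := orderOf_eq_prime (by rw [← map_pow, hyq, map_one])
      fun e => hyF ((QuotientGroup.eq_one_iff y).1 e)
    have hnd' : ¬ q ∣ orderOf (π d) := fun hd => hnd (hd.trans (orderOf_map_dvd π d))
    have ho := hc.orderOf_mul_eq_mul_orderOf_of_coprime
      (by rw [hyo]; exact (h.prime.coprime_iff_not_dvd).2 hnd')
    rw [← map_mul, hyo] at ho
    have hyd : (y * d) ^ q = 1 :=
      h.qord _ ((ho ▸ dvd_mul_right q _ : q ∣ orderOf (π (y * d))).trans (orderOf_map_dvd π _))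
    have h1 : q * orderOf (π d) ∣ q := ho ▸ (orderOf_map_dvd π _).trans (orderOf_dvd_of_pow_eq_one hyd)
    have h2 : orderOf (π d) ∣ 1 := Nat.dvd_of_mul_dvd_mul_left h.prime.pos (by rwa [mul_one])
    exact hdF ((QuotientGroup.eq_one_iff d).1 (orderOf_eq_one_iff.1 (Nat.dvd_one.1 h2)))
  -- the quotient has order `q`
  have hFbot : F ≠ ⊥ := fun hb => hyF (hCF (by rw [hb]; simp [Subgroup.mem_centralizer_iff]))
  obtain ⟨r, hr, hrd⟩ := Nat.exists_prime_and_dvd
    (show Nat.card F ≠ 1 from fun e => hFbot (Subgroup.card_eq_one.1 e))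
  haveI := Fact.mk hr
  obtain ⟨z, hz⟩ := exists_prime_orderOf_dvd_card' r hrd
  rw [← Subgroup.orderOf_coe] at hz
  have hzF : (z : D) ∈ F := z.2
  have hz1 : (z : D) ≠ 1 := fun e => by rw [e, orderOf_one] at hz; exact hr.ne_one hz.symm
  haveI hZn : (Subgroup.zpowers (z : D)).Normal := ⟨fun x hx d => by
    obtain ⟨k, rfl⟩ := hx
    obtain ⟨e, he⟩ := hconjpow _ hzF d
    rw [← conj_zpow, he]
    exact Subgroup.zpow_mem _ (Subgroup.pow_mem _ (Subgroup.mem_zpowers _) e) k⟩
  let ψ : D →* MulAut (Subgroup.zpowers (z : D)) := MulAut.conjNormal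
  have hψker : ∀ d, ψ d = 1 ↔ d ∈ F := by
    intro d
    constructor
    · intro hd
      by_contra hdF
      have hd1 : d ≠ 1 := fun e => hdF (e ▸ one_mem _)
      have hcz : d * (z : D) * d⁻¹ = z := by
        have := congrArg (fun a : MulAut _ => ((a ⟨z, Subgroup.mem_zpowers _⟩ :
          Subgroup.zpowers (z : D)) : D)) hd
        simpa [ψ, MulAut.conjNormal_apply] using this
      exact hz1 (hcomm1 d (hout d hdF) hd1 z hzF (mul_inv_eq_iff_eq_mul.1 hcz))
    · intro hd
      refine MulEquiv.ext fun x => Subtype.ext ?_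
      show d * (x : D) * d⁻¹ = x
      rw [hFc d hd x (Subgroup.zpowers_le.2 hzF x.2), mul_inv_cancel_right]
  have hker : ψ.ker = F := SetLike.ext fun d => MonoidHom.mem_ker.trans (hψker d)
  haveI : IsCyclic (MulAut (Subgroup.zpowers (z : D))) := by
    haveI : IsCyclic (ZMod (Nat.card (Subgroup.zpowers (z : D))))ˣ := by
      rw [Nat.card_zpowers, hz]; exact ZMod.isCyclic_units_prime hr
    exact isCyclic_of_surjective (IsCyclic.mulAutMulEquiv _).symm (MulEquiv.surjective _)
  have hidx : F.index = q := by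
    rw [← hker, Subgroup.index_ker]
    obtain ⟨g, hg⟩ := IsCyclic.exists_generator (α := ψ.range)
    have hgq : ∀ x : ψ.range, x ^ q = 1 := by
      rintro ⟨_, d, rfl⟩
      apply Subtype.ext
      show ψ d ^ q = 1
      by_cases hd : d ∈ F
      · rw [(hψker d).2 hd, one_pow]
      · rw [← map_pow, hout d hd, map_one]
    rw [← orderOf_eq_card_of_forall_mem_zpowers hg]
    refine orderOf_eq_prime (hgq g) fun e => ?_
    obtain ⟨k, hk⟩ := hg ⟨ψ y, y, rfl⟩
    refine hyF ((hψker y).1 ?_)
    have := congrArg Subtype.val hk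
    rw [e] at this
    simpa using this.symm
  -- stabilisers have order `q`
  have hcardD : Nat.card D = Nat.card F * q := by rw [← hidx, Subgroup.card_mul_index]
  have hstq : Nat.card (MulAction.stabilizer D e₀) = q := by
    have hinj : Function.Injective
        ((QuotientGroup.mk' F).comp (MulAction.stabilizer D e₀).subtype) := by
      refine (injective_iff_map_eq_one _).2 fun x hx => ?_
      by_contra hx1
      exact he₀ (hsemi x.1 ((QuotientGroup.eq_one_iff x.1).1 hx) (fun e => hx1 (Subtype.ext e)) e₀ x.2)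
    have hdvd := Subgroup.card_dvd_of_injective _ hinj
    rw [← Subgroup.index_eq_card, hidx] at hdvd
    refine ((Nat.dvd_prime h.prime).1 hdvd).resolve_left fun e => hy1 ?_
    have hm : y ∈ MulAction.stabilizer D e₀ := hye
    rw [Subgroup.card_eq_one.1 e] at hm
    exact Subgroup.mem_bot.1 hm
  have horb : Nat.card F + 1 = Nat.card E := by
    have h1 : MulAction.orbit D e₀ = {e : E | e ≠ 0} := by
      ext e
      constructor
      · rintro ⟨d, rfl⟩ hd
        exact he₀ ((smul_eq_zero_iff_eq d).1 hd)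
      · exact fun he => h.trans e₀ e he₀ he
    have h2 := Nat.card_congr (MulAction.orbitProdStabilizerEquivGroup D e₀)
    rw [Nat.card_prod, hstq, hcardD, h1] at h2
    have h3 := Nat.eq_of_mul_eq_mul_right h.prime.pos h2
    classical
    have h4 : Nat.card {e : E // e ≠ 0} + 1 = Nat.card E := by
      rw [← Nat.card_congr (Equiv.optionSubtypeNe (0 : E)), Finite.card_option]
    rw [← h3]
    exact h4
  refine ⟨F, hFn, hcyc, horb, hidx, hqF, hout, hsemi, hcomm1, fun d hd hd1 => ?_⟩
  constructor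
  · by_contra hcon
    push Not at hcon
    have hP : IsPGroup q (Subgroup.zpowers d) := by
      refine IsPGroup.of_card (n := 1) ?_
      rw [Nat.card_zpowers, orderOf_eq_prime hd hd1, pow_one]
    have hmod := hP.card_modEq_card_fixedPoints E
    have hfp : MulAction.fixedPoints (Subgroup.zpowers d) E = {0} := by
      ext e
      constructor
      · intro he
        by_contra he0
        exact hcon e he0 (he ⟨d, Subgroup.mem_zpowers d⟩)
      · rintro rfl
        exact fun x => smul_zero x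
    rw [hfp, Nat.card_coe_set_eq, Set.ncard_singleton, ← horb] at hmod
    exact hqF (Nat.modEq_zero_iff_dvd.1 (Nat.ModEq.add_right_cancel' 1 hmod))
  · intro a b ha hb hda hdb
    by_contra hab
    -- some element of `F` moves `a` to `b`
    have hreg : Function.Bijective (fun f : F => (⟨(f : D) • a, fun e0 =>
        ha ((smul_eq_zero_iff_eq (f : D)).1 e0)⟩ : {e : E // e ≠ 0})) := by
      classical
      refine (Nat.bijective_iff_injective_and_card _).2 ⟨fun f g he => ?_, ?_⟩
      · have he' : (f : D) • a = (g : D) • a := congrArg Subtype.val he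
        by_contra hfg
        exact ha (hsemi ((g : D)⁻¹ * f) (F.mul_mem (F.inv_mem g.2) f.2)
          (fun e => hfg (Subtype.ext (inv_mul_eq_one.1 e).symm)) a
          (by rw [mul_smul, he', inv_smul_smul]))
      · have h4 : Nat.card {e : E // e ≠ 0} + 1 = Nat.card E := by
          rw [← Nat.card_congr (Equiv.optionSubtypeNe (0 : E)), Finite.card_option]
        omega
    obtain ⟨f, hf⟩ := hreg.2 ⟨b, hb⟩
    have hf' : (f : D) • a = b := congrArg Subtype.val hf
    have hconj : d * f * d⁻¹ = f := by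
      by_contra hne
      refine ha (hsemi ((f : D)⁻¹ * (d * f * d⁻¹)) (F.mul_mem (F.inv_mem f.2) (hFn.conj_mem _ f.2 d))
        (fun e => hne (inv_mul_eq_one.1 e).symm) a ?_)
      rw [mul_smul, mul_smul, mul_smul, show d⁻¹ • a = a by rw [inv_smul_eq_iff, hda], hf', hdb,
        inv_smul_eq_iff, hf']
    have := hcomm1 d hd hd1 f f.2 (mul_inv_eq_iff_eq_mul.1 hconj)
    rw [this, one_smul] at hf'
    exact hab hf'

end LHyp

end Cfsg.Agent.TwoQ27
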