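import Mathlib
import Cfsg.Agent.Lib.TwoQ27Local
import Cfsg.Agent.Lib.SignalizerStrongEmb

/-!
# The local situation of a large Sylow `2`-subgroup of a `2q` group

`N(S)` contains the centraliser of every involution of `S`, hence is strongly embedded, and
`C(S) = W × S` with `W` of exponent `q`.
-/

set_option autoImplicit false
set_option linter.unusedSectionVars false

namespace Cfsg.Agent.TwoQ27

open Cfsg.Agent.SignalizerStrongEmb

universe u

variable {G : Type u} [Group G] [Finite G]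

/-- The normaliser of a Sylow `2`-subgroup. -/
abbrev nrm (S : Sylow 2 G) : Subgroup G := Subgroup.normalizer ((S : Subgroup G) : Set G)

/-- The centraliser of a Sylow `2`-subgroup. -/
abbrev cen (S : Sylow 2 G) : Subgroup G := Subgroup.centralizer ((S : Subgroup G) : Set G)

/-- The local situation. -/
structure Loc {G : Type u} [Group G] [Finite G] (q : ℕ) (S : Sylow 2 G) (W : Subgroup G) :
    Prop where
  h : TwoQ G q
  four : 4 ≤ Nat.card S
  ne_top : nrm S ≠ ⊤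
  cent : ∀ a ∈ (S : Subgroup G), a ≠ 1 → Subgroup.centralizer ({a} : Set G) ≤ nrm S
  comm : ∀ w ∈ W, ∀ s ∈ (S : Subgroup G), Commute s w
  qgrp : ∀ w ∈ W, w ^ q = 1
  norm : ∀ n ∈ nrm S, ∀ w ∈ W, n * w * n⁻¹ ∈ W
  csplit : ∀ g ∈ cen S, g ^ q = 1 → g ∈ W
  wcent : ∀ w ∈ W, w ≠ 1 → Subgroup.centralizer ({w} : Set G) ≤ nrm S

/-- An element with square one in `N(S)` lies in `S`. -/
theorem mem_syl_of_sq {S : Sylow 2 G} {g : G} (hg : g ∈ nrm S) (hg2 : g * g = 1) :
    g ∈ (S : Subgroup G) := by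
  have hP : IsPGroup 2 (Subgroup.zpowers g) :=
    SignalizerCoprime.isPGroup_zpowers (by rw [pow_two, hg2])
  have hsup : IsPGroup 2 ((Subgroup.zpowers g ⊔ (S : Subgroup G) : Subgroup G)) :=
    hP.to_sup_of_normal_right' S.isPGroup' (Subgroup.zpowers_le.2 hg)
  rw [← S.is_maximal' hsup le_sup_right]
  exact le_sup_left (a := Subgroup.zpowers g) (Subgroup.mem_zpowers g)

namespace Loc

variable {q : ℕ} {S : Sylow 2 G} {W : Subgroup G}

theorem sq (L : Loc q S W) {s : G} (hs : s ∈ (S : Subgroup G)) : s * s = 1 :=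
  L.h.sq_of_mem S.isPGroup' hs

theorem le_nrm (_L : Loc q S W) : (S : Subgroup G) ≤ nrm S := Subgroup.le_normalizer

theorem sylow_le_cen (L : Loc q S W) : (S : Subgroup G) ≤ cen S := fun _ hs =>
  Subgroup.mem_centralizer_iff.2 fun _ ht => L.h.comm_of_mem S.isPGroup' ht hs

theorem cen_le_nrm (_L : Loc q S W) : cen S ≤ nrm S :=
  SignalizerCoprime.centralizer_le_normalizer _

theorem exists_mem_ne_one (L : Loc q S W) : ∃ s ∈ (S : Subgroup G), s ≠ 1 := by
  by_contra hcon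
  push Not at hcon
  haveI : Subsingleton (S : Subgroup G) := ⟨fun a b => Subtype.ext
    ((hcon a a.2).trans (hcon b b.2).symm)⟩
  have h1 : Nat.card (S : Subgroup G) ≤ 1 := Finite.card_le_one_iff_subsingleton.2 inferInstance
  have := L.four
  exact absurd (this.trans h1) (by norm_num)

theorem ord_of_mem (L : Loc q S W) {s : G} (hs : s ∈ (S : Subgroup G)) (hs1 : s ≠ 1) :
    orderOf s = 2 :=
  orderOf_eq_two_of_mul_self (L.sq hs) hs1

theorem mem_of_involution (_L : Loc q S W) {t : G} (ht : orderOf t = 2) (htN : t ∈ nrm S) :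
    t ∈ (S : Subgroup G) :=
  mem_syl_of_sq htN (involution_mul_self ht)

theorem odd_q (L : Loc q S W) : Odd q := L.h.odd_q

theorem w_le_cen (L : Loc q S W) : W ≤ cen S := fun _ hw =>
  Subgroup.mem_centralizer_iff.2 fun s hs => L.comm _ hw s hs

theorem pow_two_q_of_cen (L : Loc q S W) {g : G} (hg : g ∈ cen S) : g ^ (2 * q) = 1 := by
  obtain ⟨s, hs, hs1⟩ := L.exists_mem_ne_one
  exact L.h.pow_two_q_of_comm hs1 (Or.inl (L.sq hs)) (Subgroup.mem_centralizer_iff.1 hg s hs)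

/-- `C(S) = W × S`. -/
theorem cen_split (L : Loc q S W) {g : G} (hg : g ∈ cen S) :
    g ^ (q + 1) ∈ W ∧ g ^ q ∈ (S : Subgroup G) ∧ g = g ^ (q + 1) * g ^ q := by
  have h2 := L.pow_two_q_of_cen hg
  obtain ⟨m, hm⟩ := L.odd_q
  refine ⟨L.csplit _ (pow_mem hg _) ?_, mem_syl_of_sq (pow_mem (L.cen_le_nrm hg) q) ?_, ?_⟩
  · rw [← pow_mul, show (q + 1) * q = (2 * q) * (m + 1) by rw [hm]; ring, pow_mul, h2, one_pow]
  · rw [← pow_add, ← two_mul, h2]
  · rw [← pow_add, show q + 1 + q = 2 * q + 1 by ring, pow_succ, h2, one_mul]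

theorem w_inf_sylow (L : Loc q S W) {g : G} (hW : g ∈ W) (hS : g ∈ (S : Subgroup G)) : g = 1 := by
  obtain ⟨m, hm⟩ := L.odd_q
  have h1 := L.qgrp g hW
  rwa [hm, pow_succ, pow_mul, pow_two, L.sq hS, one_pow, one_mul] at h1

theorem card_cen (L : Loc q S W) : Nat.card (cen S) = Nat.card W * Nat.card S := by
  rw [← Nat.card_prod]
  refine (Nat.card_eq_of_bijective (fun p : W × (S : Subgroup G) => (⟨(p.1 : G) * (p.2 : G),
    (cen S).mul_mem (L.w_le_cen p.1.2) (L.sylow_le_cen p.2.2)⟩ : cen S)) ⟨?_, ?_⟩).symm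
  · rintro ⟨⟨w, hw⟩, ⟨s, hs⟩⟩ ⟨⟨w', hw'⟩, ⟨s', hs'⟩⟩ he
    have he' : w * s = w' * s' := congrArg Subtype.val he
    have h1 : w'⁻¹ * w = s' * s⁻¹ := by
      rw [eq_mul_inv_iff_mul_eq, mul_assoc, he', inv_mul_cancel_left]
    have h2 := L.w_inf_sylow (W.mul_mem (W.inv_mem hw') hw) (h1 ▸ (S : Subgroup G).mul_mem hs'
      ((S : Subgroup G).inv_mem hs))
    have hww : w' = w := inv_mul_eq_one.1 h2
    subst hww
    have hss : s = s' := mul_left_cancel he'
    subst hss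
    rfl
  · rintro ⟨g, hg⟩
    obtain ⟨h1, h2, h3⟩ := L.cen_split hg
    exact ⟨(⟨_, h1⟩, ⟨_, h2⟩), Subtype.ext h3.symm⟩

theorem conj_mem_cen (_L : Loc q S W) {n c : G} (hn : n ∈ nrm S) (hc : c ∈ cen S) :
    n * c * n⁻¹ ∈ cen S := by
  refine Subgroup.mem_centralizer_iff.2 fun s hs => ?_
  have hs' : n⁻¹ * s * n ∈ (S : Subgroup G) := by
    simpa using (Subgroup.mem_normalizer_iff.1 (inv_mem hn) s).1 hs
  have h := Subgroup.mem_centralizer_iff.1 hc _ hs'
  calc s * (n * c * n⁻¹) = n * ((n⁻¹ * s * n) * c) * n⁻¹ := by group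
    _ = n * (c * (n⁻¹ * s * n)) * n⁻¹ := by rw [h]
    _ = n * c * n⁻¹ * s := by group

theorem se (L : Loc q S W) : Cfsg.IsStronglyEmbedded (nrm S) := by
  refine isStronglyEmbedded_iff.2 ⟨L.ne_top, ?_, fun t htN ht g hg => ?_⟩
  · obtain ⟨s, hs, hs1⟩ := L.exists_mem_ne_one
    exact even_card_of_involution_mem (L.ord_of_mem hs hs1) (L.le_nrm hs)
  have htS := L.mem_of_involution ht htN
  have htg : g * t * g⁻¹ ∈ (S : Subgroup G) :=
    L.mem_of_involution (by rw [orderOf_conj, ht]) hg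
  have htg1 : g * t * g⁻¹ ≠ 1 :=
    involution_ne_one (by rw [orderOf_conj, ht])
  have hmaps : ∀ s ∈ (S : Subgroup G), g * s * g⁻¹ ∈ (S : Subgroup G) := by
    intro s hs
    refine mem_syl_of_sq (L.cent _ htg htg1 (Subgroup.mem_centralizer_singleton_iff.2 ?_)) ?_
    · calc g * s * g⁻¹ * (g * t * g⁻¹) = g * (s * t) * g⁻¹ := by group
        _ = g * (t * s) * g⁻¹ := by rw [L.h.comm_of_mem S.isPGroup' hs htS]
        _ = g * t * g⁻¹ * (g * s * g⁻¹) := by group
    · calc g * s * g⁻¹ * (g * s * g⁻¹) = g * (s * s) * g⁻¹ := by group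
        _ = 1 := by rw [L.sq hs]; group
  refine Subgroup.mem_normalizer_iff.2 fun s => ⟨hmaps s, fun hs => ?_⟩
  have hinj : Function.Injective (fun a : (S : Subgroup G) =>
      (⟨g * a * g⁻¹, hmaps a a.2⟩ : (S : Subgroup G))) := fun a b he => Subtype.ext (by
    simpa using congrArg Subtype.val he)
  obtain ⟨a, ha⟩ := (Finite.injective_iff_surjective.1 hinj) ⟨_, hs⟩
  have := congrArg Subtype.val ha
  simp only [mul_left_inj, mul_right_inj] at this
  exact this ▸ a.2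

theorem trans (L : Loc q S W) {a b : G} (ha : a ∈ (S : Subgroup G)) (ha1 : a ≠ 1)
    (hb : b ∈ (S : Subgroup G)) (hb1 : b ≠ 1) : ∃ g ∈ nrm S, g * a * g⁻¹ = b :=
  IsStronglyEmbedded.conj_in L.se (L.le_nrm ha) (L.le_nrm hb) (L.ord_of_mem ha ha1)
    (isConj_involutions L.se (L.ord_of_mem ha ha1) (L.ord_of_mem hb hb1))

/-- The involutions of `N(S)`. -/
theorem card_inv (L : Loc q S W) :
    Nat.card {t : G // orderOf t = 2 ∧ t ∈ nrm S} + 1 = Nat.card S := by
  classical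
  have h1 : Nat.card {t : G // orderOf t = 2 ∧ t ∈ nrm S} =
      Nat.card {s : (S : Subgroup G) // s ≠ 1} :=
    Nat.card_congr
      { toFun := fun t => ⟨⟨t.1, L.mem_of_involution t.2.1 t.2.2⟩, fun e =>
          involution_ne_one t.2.1 (congrArg Subtype.val e)⟩
        invFun := fun s => ⟨s.1.1, L.ord_of_mem s.1.2 (fun e => s.2 (Subtype.ext e)),
          L.le_nrm s.1.2⟩
        left_inv := fun _ => rfl
        right_inv := fun _ => rfl }
  rw [h1, ← Finite.card_option, Nat.card_congr (Equiv.optionSubtypeNe (1 : (S : Subgroup G)))]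

/-- `q`-part of an element of `N(S)` whose order `q` divides. -/
theorem pow_succ_q (L : Loc q S W) {g : G} (hg : g ^ (2 * q) = 1) : (g ^ (q + 1)) ^ q = 1 := by
  obtain ⟨m, hm⟩ := L.odd_q
  rw [← pow_mul, show (q + 1) * q = (2 * q) * (m + 1) by rw [hm]; ring, pow_mul, hg, one_pow]

end Loc

end Cfsg.Agent.TwoQ27
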