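import Mathlib
import Cfsg.Agent.Lib.TwoQ27LargeLoc91
import Cfsg.Agent.Lib.TwoQ27LargeLinear91

/-!
# The quotient `N(S)/C(S)` in the local situation
-/

set_option autoImplicit false
set_option linter.unusedSectionVars false
set_option linter.style.haveILetI false

namespace Cfsg.Agent.TwoQ27

universe u

variable {G : Type u} [Group G] [Finite G]

/-- A group of automorphisms acting on the additive version. -/
@[reducible] def autAction {M : Type*} [CommGroup M] (A : Subgroup (MulAut M)) :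
    DistribMulAction A (Additive M) where
  smul l x := Additive.ofMul ((l : MulAut M) x.toMul)
  one_smul x := rfl
  mul_smul l m x := rfl
  smul_zero l := congrArg Additive.ofMul (map_one (l : MulAut M))
  smul_add l x y := congrArg Additive.ofMul (map_mul (l : MulAut M) x.toMul y.toMul)

/-- `F/C(S)` is cyclic of order `|S| - 1` and semiregular, generated by `f`; `|N(S) : F| = e`. -/
structure Frame {G : Type u} [Group G] [Finite G] (q : ℕ) (S : Sylow 2 G) (W F : Subgroup G)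
    (f : G) (e : ℕ) : Prop where
  loc : Loc q S W
  le : F ≤ nrm S
  cen_le : cen S ≤ F
  normal : ∀ n ∈ nrm S, ∀ x ∈ F, n * x * n⁻¹ ∈ F
  card_F : Nat.card F + Nat.card (cen S) = Nat.card (cen S) * Nat.card S
  card_nrm : Nat.card (nrm S) = Nat.card F * e
  idx : e = 1 ∨ e = q
  coprime : ¬ q ∣ Nat.card S - 1
  gen_mem : f ∈ F
  gen_pow : f ^ (Nat.card S - 1) ∈ cen S
  gen : ∀ x ∈ F, ∃ k : ℕ, (f ^ k)⁻¹ * x ∈ cen S
  inj : ∀ x ∈ F, ∀ a ∈ (S : Subgroup G), a ≠ 1 → Commute x a → x ∈ cen S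
  disj : ∀ u : G, orderOf u = 2 → u ∉ nrm S → ∀ d ∈ cen S, u * d * u ∈ nrm S → d = 1

namespace Loc

variable {q : ℕ} {S : Sylow 2 G} {W : Subgroup G}

/-- Orbit-stabiliser on `S#`. -/
theorem card_transitive (_L : Loc q S W) {X : Subgroup G} (hX : X ≤ nrm S)
    (htr : ∀ a ∈ (S : Subgroup G), ∀ b ∈ (S : Subgroup G), a ≠ 1 → b ≠ 1 →
      ∃ x ∈ X, x * a * x⁻¹ = b)
    {a : G} (ha : a ∈ (S : Subgroup G)) (ha1 : a ≠ 1) :
    Nat.card X = (Nat.card S - 1) *
      Nat.card (X ⊓ Subgroup.centralizer ({a} : Set G) : Subgroup G) := by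
  classical
  letI := MulAction.compHom G ((ConjAct.toConjAct (G := G)).toMonoidHom.comp X.subtype)
  have hsmul : ∀ (x : X) (g : G), x • g = (x : G) * g * (x : G)⁻¹ := fun x g => by
    show ConjAct.toConjAct (x : G) • g = _
    rw [ConjAct.toConjAct_smul]
  have horb : MulAction.orbit X a = {b | b ∈ (S : Subgroup G) ∧ b ≠ 1} := by
    ext b
    constructor
    · rintro ⟨x, rfl⟩
      refine ⟨?_, fun e => ha1 ?_⟩
      · show x • a ∈ _
        rw [hsmul]
        exact (Subgroup.mem_normalizer_iff.1 (hX x.2) a).1 ha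
      · have e' : (x : G) * a * (x : G)⁻¹ = 1 := (hsmul x a).symm.trans e
        exact conj_eq_one_iff.1 e'
    · rintro ⟨hb, hb1⟩
      obtain ⟨x, hx, hxb⟩ := htr a ha b hb ha1 hb1
      exact ⟨⟨x, hx⟩, (hsmul _ _).trans hxb⟩
  have h := Nat.card_congr (MulAction.orbitProdStabilizerEquivGroup X a)
  rw [Nat.card_prod, horb] at h
  have h1 : Nat.card {b | b ∈ (S : Subgroup G) ∧ b ≠ 1} + 1 = Nat.card S := by
    rw [← Nat.card_congr (Equiv.optionSubtypeNe (1 : (S : Subgroup G))), Finite.card_option]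
    exact congrArg (· + 1) (Nat.card_congr
      { toFun := fun b => ⟨⟨b.1, b.2.1⟩, fun e => b.2.2 (congrArg Subtype.val e)⟩
        invFun := fun b => ⟨b.1.1, b.1.2, fun e => b.2 (Subtype.ext e)⟩
        left_inv := fun _ => rfl
        right_inv := fun _ => rfl })
  have h2 : Nat.card (MulAction.stabilizer X a) =
      Nat.card (X ⊓ Subgroup.centralizer ({a} : Set G) : Subgroup G) :=
    Nat.card_congr
      { toFun := fun x => ⟨x.1.1, x.1.2, Subgroup.mem_centralizer_singleton_iff.2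
          (mul_inv_eq_iff_eq_mul.1 ((hsmul x.1 a).symm.trans x.2))⟩
        invFun := fun x => ⟨⟨x.1, x.2.1⟩, (hsmul _ _).trans (mul_inv_eq_iff_eq_mul.2
          (Subgroup.mem_centralizer_singleton_iff.1 x.2.2))⟩
        left_inv := fun _ => rfl
        right_inv := fun _ => rfl }
  rw [← h, h2, show Nat.card S - 1 = Nat.card {b | b ∈ (S : Subgroup G) ∧ b ≠ 1} by omega]

/-- The conjugation action of `N(S)` on `S`. -/
theorem autConj_apply (g : nrm S) (s : (S : Subgroup G)) :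
    (((S : Subgroup G).normalizerMonoidHom g s : (S : Subgroup G)) : G) =
      (g : G) * (s : G) * (g : G)⁻¹ :=
  rfl

theorem odd_index_cen (L : Loc q S W) : Odd (((cen S).subgroupOf (nrm S)).index) := by
  haveI := Fact.mk Nat.prime_two
  have hdvd : ((cen S).subgroupOf (nrm S)).index ∣ (S : Subgroup G).index :=
    (Subgroup.relIndex_dvd_of_le_left (nrm S) L.sylow_le_cen).trans
      (Dvd.intro _ (Subgroup.relIndex_mul_index L.le_nrm))
  exact (Nat.odd_iff.2 (Nat.two_dvd_ne_zero.1 S.not_dvd_index)).of_dvd_nat hdvd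

/-- The case of a nontrivial stabiliser. -/
theorem stab_main (L : Loc q S W)
    (hst : ∃ a ∈ (S : Subgroup G), a ≠ 1 ∧ ∃ g, Commute g a ∧ g ∉ cen S) :
    ∃ (F : Subgroup G) (f : G), F ≤ nrm S ∧ cen S ≤ F ∧
      (∀ n ∈ nrm S, ∀ x ∈ F, n * x * n⁻¹ ∈ F) ∧
      Nat.card F + Nat.card (cen S) = Nat.card (cen S) * Nat.card S ∧
      Nat.card (nrm S) = Nat.card F * q ∧ ¬ q ∣ Nat.card S - 1 ∧ f ∈ F ∧
      f ^ (Nat.card S - 1) ∈ cen S ∧
      (∀ x ∈ F, ∃ k : ℕ, (f ^ k)⁻¹ * x ∈ cen S) ∧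
      (∀ x ∈ F, ∀ a ∈ (S : Subgroup G), a ≠ 1 → Commute x a → x ∈ cen S) ∧
      (∀ x ∈ nrm S, x ∉ F → x ^ (2 * q) = 1) ∧
      (∀ y ∈ nrm S, y ∉ cen S → y ^ q = 1 → ∀ x ∈ F, y * x * y⁻¹ * x⁻¹ ∈ cen S → x ∈ cen S) ∧
      (∀ y ∈ nrm S, y ∉ cen S → y ^ q = 1 → ∃ s ∈ (S : Subgroup G), s ≠ 1 ∧ Commute y s ∧
        ∀ b ∈ (S : Subgroup G), b ≠ 1 → Commute y b → b = s) := by
  letI : CommGroup (S : Subgroup G) :=
    { (inferInstance : Group (S : Subgroup G)) with
      mul_comm := fun a b => Subtype.ext (L.h.comm_of_mem S.isPGroup' a.2 b.2) }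
  let φ : nrm S →* MulAut (S : Subgroup G) := (S : Subgroup G).normalizerMonoidHom
  have hker : ∀ g : nrm S, φ g = 1 ↔ (g : G) ∈ cen S := by
    intro g
    rw [← MonoidHom.mem_ker, Subgroup.normalizerMonoidHom_ker, Subgroup.mem_subgroupOf]
  set A := φ.range with hA
  letI := autAction A
  have hfix : ∀ (g : nrm S) (s : (S : Subgroup G)),
      φ g s = s ↔ Commute (g : G) (s : G) := fun g s => by
    rw [Subtype.ext_iff, autConj_apply, mul_inv_eq_iff_eq_mul]
    rfl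
  have hodd : Odd (Nat.card A) := by
    rw [hA, ← Subgroup.index_ker, Subgroup.normalizerMonoidHom_ker]
    exact L.odd_index_cen
  have hpow : ∀ l : A, l.1 ^ (2 * q) = 1 → l ^ q = 1 := by
    intro l hl
    have h1 : (l ^ q) ^ 2 = 1 :=
      Subtype.ext (by rw [← pow_mul, mul_comm]; simpa using hl)
    have h2 : orderOf (l ^ q) ∣ 2 := orderOf_dvd_of_pow_eq_one h1
    have h3 : orderOf (l ^ q) ∣ Nat.card A := orderOf_dvd_natCard _
    exact orderOf_eq_one_iff.1 (Nat.eq_one_of_dvd_coprimes hodd.coprime_two_left h2 h3)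
  have hL : LHyp A (Additive (S : Subgroup G)) q := by
    refine ⟨L.h.prime, L.h.ne_two, ⟨fun {l m} hlm => Subtype.ext (MulEquiv.ext fun s =>
        Additive.ofMul.injective (hlm (Additive.ofMul s)))⟩, hodd, Cfsg.Agent.S0205.result hodd,
      ?_, ?_, ?_, ?_, ?_⟩
    · intro e
      rw [two_nsmul]
      exact congrArg Additive.ofMul (Subtype.ext (L.sq (Additive.toMul e).2) :
        Additive.toMul e * Additive.toMul e = 1)
    · intro a b ha hb
      obtain ⟨g, hg, hgab⟩ := L.trans (Additive.toMul a).2 (fun e => ha (Subtype.ext e))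
        (Additive.toMul b).2 (fun e => hb (Subtype.ext e))
      exact ⟨⟨φ ⟨g, hg⟩, _, rfl⟩, congrArg Additive.ofMul (Subtype.ext hgab :
        φ ⟨g, hg⟩ (Additive.toMul a) = Additive.toMul b)⟩
    · rintro ⟨_, g, rfl⟩ hd
      refine hpow _ ?_
      rw [← Subgroup.orderOf_coe] at hd
      have hg := L.h.pow_two_q_of_qdvd (g := (g : G))
        (by rw [Subgroup.orderOf_coe]; exact hd.trans (orderOf_map_dvd φ g))
      show φ g ^ (2 * q) = 1
      rw [← map_pow, show g ^ (2 * q) = 1 from Subtype.ext hg, map_one]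
    · rintro ⟨_, g, rfl⟩ e he hge
      refine hpow _ ?_
      have hc : Commute (g : G) ((Additive.toMul e : (S : Subgroup G)) : G) :=
        (hfix g _).1 (Additive.ofMul.injective hge)
      have hg := L.h.pow_two_q_of_comm (fun h1 => he (Subtype.ext h1))
        (Or.inl (L.sq (Additive.toMul e).2)) hc.symm
      show φ g ^ (2 * q) = 1
      rw [← map_pow, show g ^ (2 * q) = 1 from Subtype.ext hg, map_one]
    · have := L.four
      rw [Nat.card_congr Additive.toMul]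
      exact le_trans (by norm_num) this
  obtain ⟨a, ha, ha1, g₀, hg₀, hg₀C⟩ := hst
  have hg₀N : g₀ ∈ nrm S := L.cent a ha ha1 (Subgroup.mem_centralizer_singleton_iff.2 hg₀)
  obtain ⟨Fl, hFn, hFc, horb, hidx, hqF, hout, hsemi, hcomm, hfixd⟩ := hL.main
    ⟨⟨φ ⟨g₀, hg₀N⟩, _, rfl⟩, Additive.ofMul ⟨a, ha⟩, fun e => hg₀C ((hker _).1
      (congrArg Subtype.val e)), fun e => ha1 (congrArg Subtype.val e),
      congrArg Additive.ofMul ((hfix ⟨g₀, hg₀N⟩ ⟨a, ha⟩).2 hg₀)⟩
  haveI := hFn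
  haveI := hFc
  let P : Subgroup (nrm S) := Fl.comap φ.rangeRestrict
  have hPker : φ.ker ≤ P := fun x hx => by
    show φ.rangeRestrict x ∈ Fl
    rw [show φ.rangeRestrict x = 1 from Subtype.ext hx]
    exact one_mem _
  have hPidx : P.index = q := by
    rw [Subgroup.index_comap_of_surjective _ φ.rangeRestrict_surjective, hidx]
  obtain ⟨f₀, hf₀⟩ := IsCyclic.exists_generator (α := Fl)
  obtain ⟨f, hf⟩ := φ.rangeRestrict_surjective f₀.1
  have hcardFl : Nat.card Fl + 1 = Nat.card S := horb.trans (Nat.card_congr Additive.toMul)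
  have hmemF : ∀ x : G, x ∈ P.map (nrm S).subtype ↔ ∃ hx : x ∈ nrm S, φ.rangeRestrict ⟨x, hx⟩ ∈ Fl := by
    intro x
    constructor
    · rintro ⟨y, hy, rfl⟩
      exact ⟨y.2, hy⟩
    · rintro ⟨hx, hy⟩
      exact ⟨⟨x, hx⟩, hy, rfl⟩
  refine ⟨P.map (nrm S).subtype, f, Subgroup.map_subtype_le _, fun c hc => ?_, ?_, ?_, ?_, ?_, ?_,
    ?_, ?_, ?_, ?_, ?_, ?_⟩
  · exact ⟨⟨c, L.cen_le_nrm hc⟩, hPker ((hker _).2 hc), rfl⟩
  · intro n hn x hx
    obtain ⟨y, hy, rfl⟩ := hx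
    exact ⟨⟨n, hn⟩ * y * ⟨n, hn⟩⁻¹, (Subgroup.Normal.comap hFn _).conj_mem y hy _, rfl⟩
  · rw [Subgroup.card_map_of_injective (nrm S).subtype_injective]
    have hk : Nat.card φ.rangeRestrict.ker = Nat.card (cen S) := by
      rw [MonoidHom.ker_rangeRestrict, Subgroup.normalizerMonoidHom_ker]
      exact Nat.card_congr (Subgroup.subgroupOfEquivOfLe L.cen_le_nrm).toEquiv
    have hP : Nat.card P = Nat.card Fl * Nat.card (cen S) := by
      have h1 := P.card_mul_index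
      have h2 := φ.rangeRestrict.ker.card_mul_index
      have h3 := Fl.card_mul_index
      rw [hPidx] at h1
      rw [hk, Subgroup.index_ker, MonoidHom.range_eq_top.2 φ.rangeRestrict_surjective,
        Subgroup.card_top] at h2
      rw [hidx] at h3
      refine Nat.eq_of_mul_eq_mul_right L.h.prime.pos ?_
      calc Nat.card P * q = Nat.card (nrm S) := h1
        _ = Nat.card (cen S) * (Nat.card Fl * q) := by rw [h3]; exact h2.symm
        _ = _ := by ring
    rw [hP, ← hcardFl]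
    ring
  · rw [Subgroup.card_map_of_injective (nrm S).subtype_injective, ← hPidx, Subgroup.card_mul_index]
  · rwa [show Nat.card S - 1 = Nat.card Fl by omega]
  · exact (hmemF _).2 ⟨f.2, hf.symm ▸ f₀.2⟩
  · rw [show Nat.card S - 1 = Nat.card Fl by omega]
    refine (hker (f ^ Nat.card Fl)).1 ?_
    have h1 : φ.rangeRestrict (f ^ Nat.card Fl) = 1 := by
      rw [map_pow, hf, ← Subgroup.coe_pow, pow_card_eq_one']
      rfl
    exact congrArg Subtype.val h1
  · intro x hx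
    obtain ⟨hxN, hxF⟩ := (hmemF x).1 hx
    obtain ⟨k, hk⟩ := (isOfFinOrder_of_finite f₀).mem_powers_iff_mem_zpowers.2 (hf₀ ⟨_, hxF⟩)
    refine ⟨k, (hker ((f ^ k)⁻¹ * ⟨x, hxN⟩)).1 ?_⟩
    have h1 : φ.rangeRestrict ((f ^ k)⁻¹ * ⟨x, hxN⟩) = 1 := by
      rw [map_mul, map_inv, map_pow, hf, inv_mul_eq_one]
      exact congrArg Subtype.val hk
    exact congrArg Subtype.val h1
  · intro x hx b hb hb1 hxb
    obtain ⟨hxN, hxF⟩ := (hmemF x).1 hx
    by_contra hxC
    have := hsemi _ hxF (fun e => hxC ((hker _).1 (congrArg Subtype.val e)))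
      (Additive.ofMul ⟨b, hb⟩) (congrArg Additive.ofMul ((hfix ⟨x, hxN⟩ ⟨b, hb⟩).2 hxb))
    exact hb1 (congrArg Subtype.val this)
  · intro x hxN hxF
    have hd : φ.rangeRestrict ⟨x, hxN⟩ ∉ Fl := fun e => hxF ((hmemF x).2 ⟨hxN, e⟩)
    haveI := Fact.mk L.h.prime
    refine L.h.pow_two_q_of_qdvd ?_
    rw [← Subgroup.orderOf_mk x hxN]
    exact (orderOf_eq_prime (hout _ hd) (fun e => hd (e ▸ one_mem _))) ▸ orderOf_map_dvd _ _
  · intro y hyN hyC hyq x hx hc
    obtain ⟨hxN, hxF⟩ := (hmemF x).1 hx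
    refine (hker ⟨x, hxN⟩).1 (congrArg Subtype.val (hcomm (φ.rangeRestrict ⟨y, hyN⟩)
      (by rw [← map_pow, show (⟨y, hyN⟩ : nrm S) ^ q = 1 from Subtype.ext hyq, map_one])
      (fun e => hyC ((hker _).1 (congrArg Subtype.val e))) _ hxF ?_))
    have h1 : φ.rangeRestrict (⟨y, hyN⟩ * ⟨x, hxN⟩ * ⟨y, hyN⟩⁻¹ * ⟨x, hxN⟩⁻¹) = 1 :=
      Subtype.ext ((hker _).2 hc)
    rw [map_mul, map_mul, map_mul, map_inv, map_inv, mul_inv_eq_one, mul_inv_eq_iff_eq_mul] at h1
    exact h1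
  · intro y hyN hyC hyq
    obtain ⟨⟨e, he, hye⟩, huniq⟩ := hfixd (φ.rangeRestrict ⟨y, hyN⟩)
      (by rw [← map_pow, show (⟨y, hyN⟩ : nrm S) ^ q = 1 from Subtype.ext hyq, map_one])
      (fun e => hyC ((hker _).1 (congrArg Subtype.val e)))
    refine ⟨(Additive.toMul e : (S : Subgroup G)), (Additive.toMul e).2,
      fun h1 => he (Subtype.ext h1), (hfix ⟨y, hyN⟩ _).1 (Additive.ofMul.injective hye),
      fun b hb hb1 hyb => ?_⟩
    have h1 := huniq (Additive.ofMul ⟨b, hb⟩) e (fun h' => hb1 (congrArg Subtype.val h')) he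
      (congrArg Additive.ofMul ((hfix ⟨y, hyN⟩ ⟨b, hb⟩).2 hyb)) hye
    exact congrArg (fun z => ((Additive.toMul z : (S : Subgroup G)) : G)) h1

end Loc

end Cfsg.Agent.TwoQ27
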