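import Mathlib
import Cfsg.Agent.Lib.TwoQ27LargeStruct91

/-!
# Cosets of `N(S)` and the case of trivial stabilisers
-/

set_option autoImplicit false
set_option linter.unusedSectionVars false
set_option linter.style.haveILetI false

namespace Cfsg.Agent.TwoQ27

open Cfsg.Agent.SignalizerStrongEmb

universe u

variable {G : Type u} [Group G] [Finite G]

/-- The inverted elements of a subgroup of odd order normalised by an involution. -/
theorem card_inverted_mul {A : Subgroup G} {u : G} (hu : u * u = 1) (hodd : Odd (Nat.card A))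
    (hn : ∀ a ∈ A, u * a * u ∈ A) :
    Nat.card A = Nat.card {a : G // a ∈ A ∧ u * a * u = a⁻¹} *
      Nat.card (A ⊓ Subgroup.centralizer ({u} : Set G) : Subgroup G) := by
  set B := A ⊓ Subgroup.centralizer ({u} : Set G) with hB
  have hui : u⁻¹ = u := inv_eq_of_mul_eq_one_right hu
  obtain ⟨k, hk⟩ := hodd
  have hidx : (B.subgroupOf A).index = Nat.card {a : G // a ∈ A ∧ u * a * u = a⁻¹} := by
    rw [Subgroup.index_eq_card]
    refine Nat.card_eq_of_bijective (fun q => Quotient.liftOn' q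
      (fun a : A => (⟨(a : G) * (u * (a : G)⁻¹ * u), A.mul_mem a.2 (hn _ (A.inv_mem a.2)), by
        calc u * ((a : G) * (u * (a : G)⁻¹ * u)) * u = (u * a * u) * (a : G)⁻¹ * (u * u) := by group
          _ = ((a : G) * (u⁻¹ * (a : G)⁻¹ * u⁻¹))⁻¹ := by rw [hu, mul_one]; group
          _ = _ := by rw [hui]⟩ : {a : G // a ∈ A ∧ u * a * u = a⁻¹})) ?_) ⟨?_, ?_⟩
    · intro a b hab
      rw [QuotientGroup.leftRel_apply, Subgroup.mem_subgroupOf, hB, Subgroup.mem_inf,
        Subgroup.mem_centralizer_singleton_iff] at hab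
      obtain ⟨-, hab⟩ := hab
      push_cast at hab
      apply Subtype.ext
      show (a : G) * (u * (a : G)⁻¹ * u) = (b : G) * (u * (b : G)⁻¹ * u)
      calc (a : G) * (u * (a : G)⁻¹ * u) = a * (u * ((a : G)⁻¹ * b)) * (b : G)⁻¹ * u := by group
        _ = a * (((a : G)⁻¹ * b) * u) * (b : G)⁻¹ * u := by rw [hab]
        _ = _ := by group
    · intro q r
      induction q using QuotientGroup.induction_on with
      | H a =>
        induction r using QuotientGroup.induction_on with
        | H b =>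
          intro e
          have e' : (a : G) * (u * (a : G)⁻¹ * u) = (b : G) * (u * (b : G)⁻¹ * u) :=
            congrArg Subtype.val e
          rw [QuotientGroup.eq, Subgroup.mem_subgroupOf, hB, Subgroup.mem_inf,
            Subgroup.mem_centralizer_singleton_iff]
          push_cast
          refine ⟨A.mul_mem (A.inv_mem a.2) b.2, ?_⟩
          calc (a : G)⁻¹ * b * u
              = (a : G)⁻¹ * ((b : G) * (u * (b : G)⁻¹ * u)) * (u⁻¹ * b) := by group
            _ = (a : G)⁻¹ * ((a : G) * (u * (a : G)⁻¹ * u)) * (u⁻¹ * b) := by rw [e']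
            _ = _ := by group
    · rintro ⟨w, hw, hwi⟩
      refine ⟨((⟨w ^ (k + 1), A.pow_mem hw _⟩ : A) : A ⧸ B.subgroupOf A), ?_⟩
      apply Subtype.ext
      show w ^ (k + 1) * (u * (w ^ (k + 1))⁻¹ * u) = w
      have h1 : u * (w ^ (k + 1))⁻¹ * u = w ^ (k + 1) := by
        have hc := conj_pow (a := u) (b := w) (i := k + 1)
        rw [hui, hwi, inv_pow] at hc
        calc u * (w ^ (k + 1))⁻¹ * u = u * (u * w ^ (k + 1) * u) * u := by rw [hc]
          _ = (u * u) * w ^ (k + 1) * (u * u) := by group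
          _ = _ := by rw [hu, one_mul, mul_one]
      rw [h1, ← pow_add]
      have h2 : w ^ (2 * k + 1) = 1 :=
        orderOf_dvd_iff_pow_eq_one.1 (hk ▸ Subgroup.orderOf_dvd_natCard A hw)
      rw [show k + 1 + (k + 1) = (2 * k + 1) + 1 by omega, pow_succ, h2, one_mul]
  have h := (B.subgroupOf A).index_mul_card
  rw [hidx, Nat.card_congr (Subgroup.subgroupOfEquivOfLe (inf_le_left : B ≤ A)).toEquiv] at h
  exact h.symm

/-- A fixed-point-free involution inverts a group of odd order. -/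
theorem inverts_of_fpf {A : Subgroup G} {u : G} (hu : u * u = 1) (hodd : Odd (Nat.card A))
    (hn : ∀ a ∈ A, u * a * u ∈ A) (hfix : ∀ a ∈ A, Commute u a → a = 1) :
    ∀ a ∈ A, u * a * u = a⁻¹ := by
  classical
  have h1 := card_inverted_mul hu hodd hn
  have h2 : (A ⊓ Subgroup.centralizer ({u} : Set G) : Subgroup G) = ⊥ := by
    rw [Subgroup.eq_bot_iff_forall]
    rintro a ⟨ha, hac⟩
    exact hfix a ha (Subgroup.mem_centralizer_singleton_iff.1 hac).symm
  rw [h2, Subgroup.card_bot, mul_one] at h1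
  intro a ha
  have hbij := (Nat.bijective_iff_injective_and_card
    (fun w : {a : G // a ∈ A ∧ u * a * u = a⁻¹} => (⟨w.1, w.2.1⟩ : A))).2
    ⟨fun v w e => Subtype.ext (congrArg (fun z : A => (z : G)) e), h1.symm⟩
  obtain ⟨w, hw⟩ := hbij.2 ⟨a, ha⟩
  have := congrArg Subtype.val hw
  simp only at this
  exact this ▸ w.2.2

/-- The two-coset stabiliser. -/
abbrev twoStab (S : Sylow 2 G) (u : G) : Subgroup G :=
  nrm S ⊓ (nrm S).map (MulAut.conj u).toMonoidHom

theorem mem_twoStab {S : Sylow 2 G} {u d : G} (hu : orderOf u = 2) :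
    d ∈ twoStab S u ↔ d ∈ nrm S ∧ u * d * u ∈ nrm S := by
  rw [Subgroup.mem_inf, mem_conj_iff, involution_inv hu]

namespace Loc

variable {q : ℕ} {S : Sylow 2 G} {W : Subgroup G}

theorem conj_twoStab {u d : G} (hu : orderOf u = 2) (hd : d ∈ twoStab S u) :
    u * d * u ∈ twoStab S u := by
  obtain ⟨h1, h2⟩ := (mem_twoStab hu).1 hd
  refine (mem_twoStab hu).2 ⟨h2, ?_⟩
  rwa [show u * (u * d * u) * u = (u * u) * d * (u * u) by group, involution_mul_self hu, one_mul,
    mul_one]

theorem odd_twoStab (L : Loc q S W) {u : G} (hu : orderOf u = 2) (huN : u ∉ nrm S) :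
    Odd (Nat.card (twoStab S u)) :=
  L.se.2.2 u huN

theorem trans_twoStab (L : Loc q S W) {u : G} (hu : orderOf u = 2) (huN : u ∉ nrm S) :
    ∀ a ∈ (S : Subgroup G), ∀ b ∈ (S : Subgroup G), a ≠ 1 → b ≠ 1 →
      ∃ x ∈ twoStab S u, x * a * x⁻¹ = b := fun a ha b hb ha1 hb1 =>
  exists_conj_in_inf L.se hu huN (L.ord_of_mem ha ha1) (L.le_nrm ha) (L.ord_of_mem hb hb1)
    (L.le_nrm hb)

/-- Exactly `|S| - 1` elements of the two-coset stabiliser are inverted. -/
theorem card_inverted_twoStab (L : Loc q S W) {u : G} (hu : orderOf u = 2) (huN : u ∉ nrm S) :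
    Nat.card {d : G // d ∈ twoStab S u ∧ u * d * u = d⁻¹} = Nat.card S - 1 := by
  have hne : ((1 : G) : G ⧸ nrm S) ≠ (u : G ⧸ nrm S) := fun h => huN (by
    simpa [QuotientGroup.eq] using h)
  have h1 := card_swap L.se _ _ hne
  have h2 := L.card_inv
  rw [← h1] at h2
  rw [show Nat.card S - 1 = Nat.card {i : G // orderOf i = 2 ∧
    i • ((1 : G) : G ⧸ nrm S) = (u : G ⧸ nrm S)} by omega]
  have huu := involution_mul_self hu
  refine Nat.card_congr
    { toFun := fun d => ⟨u * d.1, ?_, ?_⟩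
      invFun := fun i => ⟨u * i.1, ?_, ?_⟩
      left_inv := fun d => Subtype.ext (by show u * (u * d.1) = d.1; rw [← mul_assoc, huu, one_mul])
      right_inv := fun i => Subtype.ext (by show u * (u * i.1) = i.1; rw [← mul_assoc, huu, one_mul]) }
  · refine orderOf_eq_two_of_mul_self ?_ fun e => huN ?_
    · rw [show u * d.1 * (u * d.1) = (u * d.1 * u) * d.1 by group, d.2.2, inv_mul_cancel]
    · rw [mul_eq_one_iff_eq_inv] at e
      rw [e]
      exact inv_mem ((mem_twoStab hu).1 d.2.1).1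
  · show ((u * d.1 * 1 : G) : G ⧸ nrm S) = _
    rw [QuotientGroup.eq, mul_one, mul_inv_rev, involution_inv hu, mul_assoc, huu, mul_one]
    exact inv_mem ((mem_twoStab hu).1 d.2.1).1
  · have hi : ((i.1 * 1 : G) : G ⧸ nrm S) = _ := i.2.2
    rw [QuotientGroup.eq, mul_one] at hi
    have hmem : u * i.1 ∈ nrm S := by
      have := inv_mem hi
      rwa [mul_inv_rev, inv_inv, involution_inv hu] at this
    refine (mem_twoStab hu).2 ⟨hmem, ?_⟩
    rw [← mul_assoc, huu, one_mul]
    rwa [involution_inv i.2.1] at hi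
  · rw [← mul_assoc u u, huu, one_mul, mul_inv_rev, involution_inv hu, involution_inv i.2.1]

theorem exists_involution_coset (L : Loc q S W) {g : G} (hg : g ∉ nrm S) :
    ∃ u, orderOf u = 2 ∧ u ∉ nrm S ∧ u⁻¹ * g ∈ nrm S := by
  have hne : ((1 : G) : G ⧸ nrm S) ≠ (g : G ⧸ nrm S) := fun h => hg (by
    simpa [QuotientGroup.eq] using h)
  have h1 := card_swap L.se _ _ hne
  have h2 := L.card_inv
  have := L.four
  have hpos : 0 < Nat.card {i : G // orderOf i = 2 ∧
      i • ((1 : G) : G ⧸ nrm S) = (g : G ⧸ nrm S)} := by omega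
  obtain ⟨⟨i, hi, hig⟩⟩ := (Nat.card_pos_iff.1 hpos).1
  have hi' : ((i * 1 : G) : G ⧸ nrm S) = _ := hig
  rw [QuotientGroup.eq, mul_one] at hi'
  exact ⟨i, hi, fun h => hg (by simpa using mul_mem h hi'), hi'⟩

/-- With all `C(S) ∩ N(S)ᵘ` trivial, `C(S)` is semiregular on the cosets other than `N(S)`. -/
theorem mem_of_conj_cen (L : Loc q S W)
    (hdisj : ∀ u : G, orderOf u = 2 → u ∉ nrm S → ∀ d ∈ cen S, u * d * u ∈ nrm S → d = 1)
    {c g : G} (hc : c ∈ cen S) (hc1 : c ≠ 1) (hg : g⁻¹ * c * g ∈ nrm S) : g ∈ nrm S := by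
  by_contra hgN
  obtain ⟨u, hu, huN, hug⟩ := L.exists_involution_coset hgN
  refine hc1 (hdisj u hu huN c hc ?_)
  have h := mul_mem (mul_mem hug hg) (inv_mem hug)
  rwa [show u⁻¹ * g * (g⁻¹ * c * g) * (u⁻¹ * g)⁻¹ = u⁻¹ * c * u by group, involution_inv hu] at h

/-- With trivial stabilisers, `C(S) ∩ N(S)ᵘ` is trivial. -/
theorem disj_of_free (L : Loc q S W)
    (hfree : ∀ a ∈ (S : Subgroup G), a ≠ 1 → ∀ g, Commute g a → g ∈ cen S) :
    ∀ u : G, orderOf u = 2 → u ∉ nrm S → ∀ d ∈ cen S, u * d * u ∈ nrm S → d = 1 := by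
  intro u hu huN d hd hdu
  have huu := involution_mul_self hu
  have hui := involution_inv hu
  have hconjpow : ∀ k : ℕ, u * d ^ k * u = (u * d * u) ^ k := fun k => by
    have := conj_pow (a := u) (b := d) (i := k)
    rw [hui] at this
    exact this.symm
  obtain ⟨-, hdS, hdsplit⟩ := L.cen_split hd
  have hdq : d ^ q = 1 := by
    by_contra h1
    refine huN (mem_of_conj_mem L.se (L.ord_of_mem hdS h1) (L.le_nrm hdS) ?_)
    rw [hui, hconjpow]
    exact pow_mem hdu q
  have hdW := L.csplit d hd hdq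
  set v' := u * d * u with hv'
  have hTI : ∀ w ∈ W, u * w * u ∈ W → w = 1 := by
    intro w hw huw
    by_contra hw1
    obtain ⟨s, hs, hs1⟩ := L.exists_mem_ne_one
    refine huN (mem_of_conj_mem L.se (L.ord_of_mem hs hs1) (L.le_nrm hs) ?_)
    refine L.wcent w hw hw1 (Subgroup.mem_centralizer_singleton_iff.2 ?_)
    have hc : s * (u * w * u) = u * w * u * s := (L.comm _ huw s hs).eq
    rw [hui]
    calc u * s * u * w = u * (s * (u * w * u)) * u⁻¹ := by
          simp only [hui, mul_assoc, huu, mul_one]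
      _ = u * (u * w * u * s) * u⁻¹ := by rw [hc]
      _ = w * (u * s * u) := by
          rw [hui]
          calc u * (u * w * u * s) * u = (u * u) * w * u * s * u := by group
            _ = _ := by rw [huu]; group
  have hcomm : Commute d v' := by
    have h1 : d * v' * d⁻¹ * v'⁻¹ ∈ W := by
      have := L.norm v' hdu d⁻¹ (W.inv_mem hdW)
      have h' := W.mul_mem hdW this
      rwa [show d * (v' * d⁻¹ * v'⁻¹) = d * v' * d⁻¹ * v'⁻¹ by group] at h'
    have h2 : u * (d * v' * d⁻¹ * v'⁻¹) * u = (d * v' * d⁻¹ * v'⁻¹)⁻¹ := by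
      rw [hv']
      calc u * (d * (u * d * u) * d⁻¹ * (u * d * u)⁻¹) * u
          = u * d * u * d * u * d⁻¹ * u⁻¹ * d⁻¹ * (u⁻¹ * u) := by group
        _ = u * d * u * d * u⁻¹ * d⁻¹ * u⁻¹ * d⁻¹ := by rw [hui, huu, mul_one]
        _ = _ := by group
    have h3 := hTI _ h1 (h2 ▸ W.inv_mem h1)
    rw [mul_inv_eq_one, mul_inv_eq_iff_eq_mul] at h3
    exact h3
  have huuv : u * v' * u = d := by
    rw [hv']
    calc u * (u * d * u) * u = (u * u) * d * (u * u) := by group
      _ = d := by rw [huu, one_mul, mul_one]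
  set d' := d * v' with hd'
  have hd'u : Commute d' u := by
    have : u * d' * u = d' := by
      calc u * (d * v') * u = u * d * (u * u) * v' * u := by rw [huu]; group
        _ = (u * d * u) * (u * v' * u) := by group
        _ = d' := by rw [huuv, ← hv', hd', hcomm.eq]
    show d' * u = u * d'
    nth_rewrite 1 [← this]
    rw [mul_assoc, huu, mul_one]
  have hvq : v' ^ q = 1 := by rw [hv', ← hconjpow, hdq, mul_one, huu]
  have hd'q : d' ^ q = 1 := by rw [hd', hcomm.mul_pow, hdq, hvq, one_mul]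
  by_cases hd1 : d' = 1
  · refine hTI d hdW ?_
    rw [hd', mul_eq_one_iff_inv_eq] at hd1
    rw [← hv', ← hd1]
    exact W.inv_mem hdW
  obtain ⟨s, hs, hs1⟩ := L.exists_mem_ne_one
  obtain ⟨g, hg⟩ := isConj_iff.1 (isConj_involutions L.se (L.ord_of_mem hs hs1) hu)
  set w := g⁻¹ * d' * g with hw
  have hwq : w ^ q = 1 := by
    have := conj_pow (a := g⁻¹) (b := d') (i := q)
    rw [inv_inv] at this
    rw [hw, this, hd'q, mul_one, inv_mul_cancel]
  have hwC : w ∈ cen S := hfree s hs hs1 w (by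
    show w * s = s * w
    calc g⁻¹ * d' * g * s = g⁻¹ * (d' * (g * s * g⁻¹)) * g := by group
      _ = g⁻¹ * ((g * s * g⁻¹) * d') * g := by rw [hg, hd'u.eq]
      _ = s * (g⁻¹ * d' * g) := by group)
  have hw1 : w ≠ 1 := fun e => hd1 (by
    calc d' = g * (g⁻¹ * d' * g) * g⁻¹ := by group
      _ = 1 := by rw [← hw, e]; group)
  have hv0 : g⁻¹ * d * g ∈ nrm S := by
    refine L.wcent w (L.csplit w hwC hwq) hw1 (Subgroup.mem_centralizer_singleton_iff.2 ?_)
    have hc : Commute d d' := (Commute.refl d).mul_right hcomm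
    calc g⁻¹ * d * g * w = g⁻¹ * (d * d') * g := by rw [hw]; group
      _ = g⁻¹ * (d' * d) * g := by rw [hc.eq]
      _ = w * (g⁻¹ * d * g) := by rw [hw]; group
  have hz : g⁻¹ * (d * v'⁻¹) * g ∈ (S : Subgroup G) := by
    have h1 := (S : Subgroup G).mul_mem ((Subgroup.mem_normalizer_iff.1 hv0 s).1 hs) hs
    have h2 : d * v'⁻¹ = d * u * d⁻¹ * u := by
      rw [hv', mul_inv_rev, mul_inv_rev, hui]; group
    have h3 : g⁻¹ * d * g * s * (g⁻¹ * d * g)⁻¹ * s = g⁻¹ * (d * v'⁻¹) * g := by
      rw [h2]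
      calc g⁻¹ * d * g * s * (g⁻¹ * d * g)⁻¹ * s
          = g⁻¹ * (d * (g * s * g⁻¹) * d⁻¹ * (g * s * g⁻¹)) * g := by group
        _ = _ := by rw [hg]
    rwa [h3] at h1
  have hzq : (g⁻¹ * (d * v'⁻¹) * g) ^ q = 1 := by
    have := conj_pow (a := g⁻¹) (b := d * v'⁻¹) (i := q)
    rw [inv_inv] at this
    rw [this, hcomm.inv_right.mul_pow, inv_pow, hdq, hvq, inv_one, mul_one, mul_one, inv_mul_cancel]
  have hz1 : g⁻¹ * (d * v'⁻¹) * g = 1 := by
    obtain ⟨m, hm⟩ := L.odd_q
    rwa [hm, pow_succ, pow_mul, pow_two, L.sq hz, one_pow, one_mul] at hzq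
  have hdv : d = v' := by
    refine mul_inv_eq_one.1 ?_
    calc d * v'⁻¹ = g * (g⁻¹ * (d * v'⁻¹) * g) * g⁻¹ := by group
      _ = 1 := by rw [hz1]; group
  exact hTI d hdW (by rw [← hv', ← hdv]; exact hdW)

/-- The frame in the case of trivial stabilisers. -/
theorem free_frame (L : Loc q S W) (hW : W ≠ ⊥)
    (hfree : ∀ a ∈ (S : Subgroup G), a ≠ 1 → ∀ g, Commute g a → g ∈ cen S) :
    ∃ f : G, Frame q S W (nrm S) f 1 := by
  classical
  haveI := Fact.mk L.h.prime
  haveI := Fact.mk Nat.prime_two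
  have hdisj := L.disj_of_free hfree
  obtain ⟨a, ha, ha1⟩ := L.exists_mem_ne_one
  obtain ⟨u, huN, hu⟩ := exists_involution_not_mem L.se
  have huu := involution_mul_self hu
  have hui := involution_inv hu
  set D := twoStab S u with hD
  have hDC : ∀ d ∈ D, d ∈ cen S → d = 1 := fun d hd hdC =>
    hdisj u hu huN d hdC ((mem_twoStab hu).1 hd).2
  have hDtr := L.trans_twoStab hu huN
  have hcardD : Nat.card D = Nat.card S - 1 := by
    have h := L.card_transitive (X := D) inf_le_left hDtr ha ha1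
    rwa [show (D ⊓ Subgroup.centralizer ({a} : Set G) : Subgroup G) = ⊥ from
      (Subgroup.eq_bot_iff_forall _).2 fun d hd => hDC d hd.1 (hfree a ha ha1 d
        (Subgroup.mem_centralizer_singleton_iff.1 hd.2)), Subgroup.card_bot, mul_one] at h
  have hinv : ∀ d ∈ D, u * d * u = d⁻¹ := by
    intro d hd
    have hbij := (Nat.bijective_iff_injective_and_card
      (fun w : {d : G // d ∈ D ∧ u * d * u = d⁻¹} => (⟨w.1, w.2.1⟩ : D))).2
      ⟨fun v w e => Subtype.ext (congrArg (fun z : D => (z : G)) e),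
        (L.card_inverted_twoStab hu huN).trans hcardD.symm⟩
    obtain ⟨w, hw⟩ := hbij.2 ⟨d, hd⟩
    have := congrArg Subtype.val hw
    simp only at this
    exact this ▸ w.2.2
  have hab : ∀ x ∈ D, ∀ y ∈ D, x * y = y * x := by
    intro x hx y hy
    have h1 : u * (x * y) * u = (u * x * u) * (u * y * u) := by
      calc u * (x * y) * u = u * x * (u * u) * y * u := by rw [huu]; group
        _ = _ := by group
    rw [hinv _ (D.mul_mem hx hy), hinv x hx, hinv y hy, ← mul_inv_rev, inv_inj] at h1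
    exact h1
  have hN : Nat.card (nrm S) = (Nat.card S - 1) * Nat.card (cen S) := by
    have h := L.card_transitive (X := nrm S) le_rfl
      (fun x hx y hy hx1 hy1 => L.trans hx hx1 hy hy1) ha ha1
    rwa [show (nrm S ⊓ Subgroup.centralizer ({a} : Set G) : Subgroup G) = cen S from
      le_antisymm (fun x hx => hfree a ha ha1 x (Subgroup.mem_centralizer_singleton_iff.1 hx.2))
        (le_inf L.cen_le_nrm fun x hx => Subgroup.mem_centralizer_singleton_iff.2
          (Subgroup.mem_centralizer_iff.1 hx a ha).symm)] at h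
  -- `q` does not divide `|S| - 1`
  have hqn : ¬ q ∣ Nat.card S - 1 := by
    intro hdvd
    obtain ⟨⟨y, hyD⟩, hy⟩ := exists_prime_orderOf_dvd_card' (G := D) q (hcardD ▸ hdvd)
    rw [Subgroup.orderOf_mk] at hy
    have hyq : y ^ q = 1 := hy ▸ pow_orderOf_eq_one y
    have hy1 : y ≠ 1 := fun e => by rw [e, orderOf_one] at hy; exact L.h.prime.ne_one hy.symm
    have hyN : y ∈ nrm S := ((mem_twoStab hu).1 hyD).1
    -- a fixed point on `W`
    have hWq : IsPGroup q W := fun w => ⟨1, Subtype.ext (by simpa using L.qgrp w w.2)⟩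
    haveI : Fintype W := Fintype.ofFinite W
    let σ : Equiv.Perm W :=
      { toFun := fun w => ⟨y * w * y⁻¹, L.norm y hyN w w.2⟩
        invFun := fun w => ⟨y⁻¹ * w * y, by
          have := L.norm y⁻¹ (inv_mem hyN) w w.2; rwa [inv_inv] at this⟩
        left_inv := fun w => Subtype.ext (by simp [mul_assoc])
        right_inv := fun w => Subtype.ext (by simp [mul_assoc]) }
    have hσpow : ∀ (k : ℕ) (w : W), (((σ ^ k) w : W) : G) = y ^ k * w * (y ^ k)⁻¹ := by
      intro k
      induction k with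
      | zero => intro w; simp
      | succ k ih =>
        intro w
        rw [pow_succ', Equiv.Perm.mul_apply, pow_succ']
        show y * ((σ ^ k) w : W) * y⁻¹ = _
        rw [ih]; group
    have hσ : σ ^ q ^ 1 = 1 := Equiv.ext fun w => Subtype.ext (by
      rw [pow_one, hσpow, hyq, one_mul, inv_one, mul_one]; rfl)
    haveI : Nontrivial W := (Subgroup.nontrivial_iff_ne_bot W).2 hW
    obtain ⟨k, hk0, hk⟩ := hWq.nontrivial_iff_card.1 inferInstance
    obtain ⟨w0, hw0, hw01⟩ := Equiv.Perm.exists_fixed_point_of_prime' (p := q) (n := 1)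
      (by rw [← Nat.card_eq_fintype_card, hk]; exact dvd_pow_self q hk0.ne') hσ
      (a := 1) (Subtype.ext (by show y * ((1 : W) : G) * y⁻¹ = ((1 : W) : G); simp))
    have hyw : y * (w0 : G) = (w0 : G) * y :=
      mul_inv_eq_iff_eq_mul.1 (congrArg Subtype.val hw0)
    have hw1' : (w0 : G) ≠ 1 := fun e => hw01 (Subtype.ext e)
    set T := Subgroup.centralizer ({y} : Set G) with hT
    have hTodd : Odd (Nat.card T) := by
      by_contra hev
      obtain ⟨t, htT, ht⟩ := exists_involution_of_even (Nat.not_odd_iff_even.1 hev)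
      obtain ⟨g, hg⟩ := isConj_iff.1 (isConj_involutions L.se (L.ord_of_mem ha ha1) ht)
      have hyt : y * t = t * y := (Subgroup.mem_centralizer_singleton_iff.1 htT).symm
      have hcC : g⁻¹ * y * g ∈ cen S := hfree a ha ha1 _ (by
        show g⁻¹ * y * g * a = a * (g⁻¹ * y * g)
        calc g⁻¹ * y * g * a = g⁻¹ * (y * (g * a * g⁻¹)) * g := by group
          _ = g⁻¹ * ((g * a * g⁻¹) * y) * g := by rw [hg, hyt]
          _ = _ := by group)
      have hgN : g⁻¹ ∈ nrm S := L.mem_of_conj_cen hdisj hcC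
        (fun e => hy1 (by
          calc y = g * (g⁻¹ * y * g) * g⁻¹ := by group
            _ = 1 := by rw [e]; group))
        (by rw [inv_inv, show g * (g⁻¹ * y * g) * g⁻¹ = y by group]; exact hyN)
      have h2 := L.conj_mem_cen (inv_mem hgN) hcC
      rw [inv_inv, show g * (g⁻¹ * y * g) * g⁻¹ = y by group] at h2
      exact hy1 (hDC y hyD h2)
    have hTn : ∀ z ∈ T, u * z * u ∈ T := by
      intro z hz
      rw [hT, Subgroup.mem_centralizer_singleton_iff] at hz ⊢
      have hyu : u * y⁻¹ * u = y := by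
        rw [← hinv y hyD]
        calc u * (u * y * u) * u = (u * u) * y * (u * u) := by group
          _ = y := by rw [huu, one_mul, mul_one]
      have hzy : z * y⁻¹ = y⁻¹ * z := (Commute.inv_right hz).eq
      calc u * z * u * y = u * z * u * (u * y⁻¹ * u) := by rw [hyu]
        _ = u * (z * y⁻¹) * u := by
            rw [show u * z * u * (u * y⁻¹ * u) = u * z * (u * u) * y⁻¹ * u by group, huu]; group
        _ = u * (y⁻¹ * z) * u := by rw [hzy]
        _ = (u * y⁻¹ * u) * (u * z * u) := by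
            rw [show u * y⁻¹ * u * (u * z * u) = u * y⁻¹ * (u * u) * z * u by group, huu]; group
        _ = _ := by rw [hyu]
    have hTfix : ∀ z ∈ T, Commute u z → z = 1 := by
      intro z hz huz
      by_contra hz1
      have hzy : z * y = y * z := Subgroup.mem_centralizer_singleton_iff.1 hz
      obtain ⟨g, hg⟩ := isConj_iff.1 (isConj_involutions L.se (L.ord_of_mem ha ha1) hu)
      set w := g⁻¹ * z * g with hw
      have hwC : w ∈ cen S := hfree a ha ha1 w (by
        show g⁻¹ * z * g * a = a * (g⁻¹ * z * g)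
        calc g⁻¹ * z * g * a = g⁻¹ * (z * (g * a * g⁻¹)) * g := by group
          _ = g⁻¹ * ((g * a * g⁻¹) * z) * g := by rw [hg, huz.eq]
          _ = _ := by group)
      have hzo : orderOf z ∣ Nat.card T := Subgroup.orderOf_dvd_natCard T hz
      have hwq : w ^ q = 1 := by
        have h := L.h.pow_q_of_comm huu (involution_ne_one hu) (hTodd.of_dvd_nat hzo) huz
        have hc := conj_pow (a := g⁻¹) (b := z) (i := q)
        rw [inv_inv] at hc
        rw [hw, hc, h, mul_one, inv_mul_cancel]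
      have hw1 : w ≠ 1 := fun e => hz1 (by
        calc z = g * (g⁻¹ * z * g) * g⁻¹ := by group
          _ = 1 := by rw [← hw, e]; group)
      have hy0 : g⁻¹ * y * g ∈ nrm S := by
        refine L.wcent w (L.csplit w hwC hwq) hw1 (Subgroup.mem_centralizer_singleton_iff.2 ?_)
        calc g⁻¹ * y * g * w = g⁻¹ * (y * z) * g := by rw [hw]; group
          _ = g⁻¹ * (z * y) * g := by rw [hzy]
          _ = w * (g⁻¹ * y * g) := by rw [hw]; group
      have h1 := (S : Subgroup G).mul_mem ((Subgroup.mem_normalizer_iff.1 hy0 a).1 ha) ha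
      have h3 : g⁻¹ * y * g * a * (g⁻¹ * y * g)⁻¹ * a = g⁻¹ * (y * y) * g := by
        calc g⁻¹ * y * g * a * (g⁻¹ * y * g)⁻¹ * a
            = g⁻¹ * (y * ((g * a * g⁻¹) * y⁻¹ * (g * a * g⁻¹))) * g := by group
          _ = g⁻¹ * (y * (u * y⁻¹ * u)) * g := by rw [hg]
          _ = _ := by
              rw [hinv y⁻¹ (D.inv_mem hyD), inv_inv]
      rw [h3] at h1
      have h4 := L.sq h1
      have h5 : y * y * (y * y) = 1 := by
        calc y * y * (y * y) = g * (g⁻¹ * (y * y) * g * (g⁻¹ * (y * y) * g)) * g⁻¹ := by group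
          _ = 1 := by rw [h4]; group
      have h6 : orderOf y ∣ 2 ^ 2 := orderOf_dvd_of_pow_eq_one (by
        rw [show (2 : ℕ) ^ 2 = 2 + 2 from rfl, pow_add, pow_two]; exact h5)
      rw [hy] at h6
      exact L.h.ne_two ((Nat.prime_dvd_prime_iff_eq L.h.prime Nat.prime_two).1
        (L.h.prime.dvd_of_dvd_pow h6))
    have hw0T : (w0 : G) ∈ T := Subgroup.mem_centralizer_singleton_iff.2 hyw.symm
    have hi := inverts_of_fpf huu hTodd hTn hTfix _ hw0T
    exact hw1' (hdisj u hu huN _ (L.w_le_cen w0.2)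
      (hi ▸ L.cen_le_nrm (inv_mem (L.w_le_cen w0.2))))
  -- a generator
  letI : CommGroup (S : Subgroup G) :=
    { (inferInstance : Group (S : Subgroup G)) with
      mul_comm := fun a b => Subtype.ext (L.h.comm_of_mem S.isPGroup' a.2 b.2) }
  let ψ : D →* MulAut (S : Subgroup G) :=
    (S : Subgroup G).normalizerMonoidHom.comp (Subgroup.inclusion inf_le_left)
  set A := ψ.range with hA
  letI := autAction A
  have hψ : ∀ d : D, ψ d = 1 → d = 1 := by
    intro d hd
    refine Subtype.ext (hDC d d.2 ?_)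
    have h' : Subgroup.inclusion (inf_le_left : D ≤ nrm S) d ∈
        (S : Subgroup G).normalizerMonoidHom.ker := hd
    rw [Subgroup.normalizerMonoidHom_ker] at h'
    exact h'
  have hψinj : Function.Injective ψ := (injective_iff_map_eq_one ψ).2 hψ
  have hAcard : Nat.card A = Nat.card S - 1 := by
    rw [← hcardD]
    exact Nat.card_congr (MonoidHom.ofInjective hψinj).symm.toEquiv
  have hAodd : Odd (Nat.card A) := by
    rw [hAcard, ← hcardD]; exact L.odd_twoStab hu huN
  have hL : LHyp A (Additive (S : Subgroup G)) q := by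
    refine ⟨L.h.prime, L.h.ne_two, ⟨fun {l m} hlm => Subtype.ext (MulEquiv.ext fun s =>
        Additive.ofMul.injective (hlm (Additive.ofMul s)))⟩, hAodd, Cfsg.Agent.S0205.result hAodd,
      ?_, ?_, ?_, ?_, ?_⟩
    · intro e
      rw [two_nsmul]
      exact congrArg Additive.ofMul (Subtype.ext (L.sq (Additive.toMul e).2) :
        Additive.toMul e * Additive.toMul e = 1)
    · intro x y hx hy
      obtain ⟨g, hg, hgxy⟩ := hDtr _ (Additive.toMul x).2 _ (Additive.toMul y).2
        (fun e => hx (Subtype.ext e)) (fun e => hy (Subtype.ext e))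
      exact ⟨⟨ψ ⟨g, hg⟩, _, rfl⟩, congrArg Additive.ofMul (Subtype.ext hgxy :
        ψ ⟨g, hg⟩ (Additive.toMul x) = Additive.toMul y)⟩
    · intro l hl
      exact absurd (hl.trans (orderOf_dvd_natCard l)) (hAcard ▸ hqn)
    · rintro ⟨_, g, rfl⟩ e he hge
      have hfix : (g : G) * ((Additive.toMul e : (S : Subgroup G)) : G) * (g : G)⁻¹ =
          ((Additive.toMul e : (S : Subgroup G)) : G) :=
        congrArg Subtype.val (Additive.ofMul.injective hge)
      have hg1 : g = 1 := Subtype.ext (hDC g g.2 (hfree _ (Additive.toMul e).2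
        (fun h1 => he (Subtype.ext h1)) g (mul_inv_eq_iff_eq_mul.1 hfix)))
      subst hg1
      exact Subtype.ext (by simp)
    · have := L.four
      rw [Nat.card_congr Additive.toMul]
      exact le_trans (by norm_num) this
  obtain ⟨hcyc, -⟩ := hL.abelian_cyclic fun l m => by
    obtain ⟨_, x, rfl⟩ := l
    obtain ⟨_, y, rfl⟩ := m
    exact Subtype.ext (by
      show ψ x * ψ y = ψ y * ψ x
      rw [← map_mul, ← map_mul, show x * y = y * x from Subtype.ext (hab x x.2 y y.2)])
  haveI : IsCyclic D := (MonoidHom.ofInjective hψinj).isCyclic.2 hcyc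
  obtain ⟨f, hf⟩ := IsCyclic.exists_generator (α := D)
  have hfN : (f : G) ∈ nrm S := ((mem_twoStab hu).1 f.2).1
  have hsurj : Function.Surjective (fun p : D × cen S => (⟨(p.1 : G) * (p.2 : G),
      (nrm S).mul_mem ((mem_twoStab hu).1 p.1.2).1 (L.cen_le_nrm p.2.2)⟩ : nrm S)) := by
    refine ((Nat.bijective_iff_injective_and_card _).2 ⟨?_, ?_⟩).2
    · rintro ⟨⟨d, hd⟩, ⟨c, hc⟩⟩ ⟨⟨d', hd'⟩, ⟨c', hc'⟩⟩ he
      have he' : d * c = d' * c' := congrArg Subtype.val he
      have h1 : d'⁻¹ * d = c' * c⁻¹ := by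
        rw [eq_mul_inv_iff_mul_eq, mul_assoc, he', inv_mul_cancel_left]
      have h2 := hDC _ (D.mul_mem (D.inv_mem hd') hd)
        (h1 ▸ (cen S).mul_mem hc' ((cen S).inv_mem hc))
      have hdd : d' = d := inv_mul_eq_one.1 h2
      subst hdd
      have hcc : c = c' := mul_left_cancel he'
      subst hcc
      rfl
    · rw [Nat.card_prod, hcardD, hN]
  refine ⟨f, ⟨L, le_rfl, L.cen_le_nrm, fun n hn x hx => mul_mem (mul_mem hn hx) (inv_mem hn), ?_,
    (mul_one _).symm, Or.inl rfl, hqn, hfN, ?_, ?_, fun x _ b hb hb1 hxb => hfree b hb hb1 x hxb,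
    hdisj⟩⟩
  · obtain ⟨k, hk⟩ : ∃ k, Nat.card S = k + 1 := ⟨Nat.card S - 1, by have := L.four; omega⟩
    rw [hN, hk, Nat.add_sub_cancel]; ring
  · rw [← hcardD, ← Subgroup.coe_pow, pow_card_eq_one']
    exact one_mem _
  · intro x hx
    obtain ⟨⟨d, c⟩, hdc⟩ := hsurj ⟨x, hx⟩
    obtain ⟨k, hk⟩ := (isOfFinOrder_of_finite f).mem_powers_iff_mem_zpowers.2 (hf d)
    refine ⟨k, ?_⟩
    have hx' : (d : G) * (c : G) = x := congrArg Subtype.val hdc
    have hk' : (f : G) ^ k = d := by simpa using congrArg Subtype.val hk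
    rw [hk', ← hx', inv_mul_cancel_left]
    exact c.2

end Loc

end Cfsg.Agent.TwoQ27
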