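import Mathlib
import Cfsg.Agent.Lib.TwoQ27LargeFree91

/-!
# Counting the involutions outside `N(S)`: `C(S)` is regular on the cosets other than `N(S)`
-/

set_option autoImplicit false
set_option linter.unusedSectionVars false
set_option linter.style.haveILetI false

namespace Cfsg.Agent.TwoQ27

open Cfsg.Agent.SignalizerStrongEmb

universe u

variable {G : Type u} [Group G] [Finite G]

namespace Frame

variable {q e : ℕ} {S : Sylow 2 G} {W F : Subgroup G} {f : G}

theorem card_eq (K : Frame q S W F f e) :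
    Nat.card F = Nat.card (cen S) * (Nat.card S - 1) := by
  have h := K.card_F
  have := K.loc.four
  obtain ⟨k, hk⟩ : ∃ k, Nat.card S = k + 1 := ⟨Nat.card S - 1, by omega⟩
  rw [hk, mul_add, mul_one] at h
  rw [hk, Nat.add_sub_cancel]
  omega

theorem odd_pred (K : Frame q S W F f e) : Odd (Nat.card S - 1) := by
  haveI := Fact.mk Nat.prime_two
  obtain ⟨k, hk⟩ := IsPGroup.iff_card.1 S.isPGroup'
  have := K.loc.four
  rw [hk] at this
  rcases k with _ | k
  · norm_num at this
  · rw [show Nat.card S = 2 ^ (k + 1) from hk, pow_succ']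
    have : 0 < 2 ^ k := Nat.two_pow_pos k
    exact ⟨2 ^ k - 1, by omega⟩

theorem coprime_two_q (K : Frame q S W F f e) : (2 * q).Coprime (Nat.card S - 1) :=
  Nat.Coprime.mul_left K.odd_pred.coprime_two_left ((K.loc.h.prime.coprime_iff_not_dvd).2 K.coprime)

theorem eq_one_of_pows (K : Frame q S W F f e) {z : G} (h1 : z ^ (2 * q) = 1)
    (h2 : z ^ (Nat.card S - 1) = 1) : z = 1 := by
  have h : z ^ (2 * q).gcd (Nat.card S - 1) = 1 := pow_gcd_eq_one.2 ⟨h1, h2⟩
  rwa [K.coprime_two_q.gcd_eq_one, pow_one] at h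

theorem mul_pow_cen (K : Frame q S W F f e) {a c : G} (ha : a ∈ nrm S) (hc : c ∈ cen S) (m : ℕ) :
    (a ^ m)⁻¹ * (a * c) ^ m ∈ cen S := by
  induction m with
  | zero => simp
  | succ m ih =>
    have h := K.loc.conj_mem_cen (inv_mem ha) ih
    rw [inv_inv] at h
    have h' := (cen S).mul_mem h hc
    rwa [show a⁻¹ * ((a ^ m)⁻¹ * (a * c) ^ m) * a * c = (a ^ (m + 1))⁻¹ * (a * c) ^ (m + 1) by
      rw [pow_succ, pow_succ]; group] at h'

theorem pow_mem_cen (K : Frame q S W F f e) {x : G} (hx : x ∈ F) :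
    x ^ (Nat.card S - 1) ∈ cen S := by
  obtain ⟨k, hk⟩ := K.gen x hx
  have hfk : f ^ k ∈ nrm S := pow_mem (K.le K.gen_mem) k
  have h := K.mul_pow_cen hfk hk (Nat.card S - 1)
  rw [mul_inv_cancel_left] at h
  have h2 : (f ^ k) ^ (Nat.card S - 1) ∈ cen S := by
    rw [← pow_mul, mul_comm, pow_mul]; exact pow_mem K.gen_pow k
  simpa using (cen S).mul_mem h2 h

theorem mem_cen_of_pow (K : Frame q S W F f e) {x : G} (hx : x ∈ F)
    (h : x ^ (2 * q) ∈ cen S) : x ∈ cen S := by
  have h2 := K.pow_mem_cen hx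
  let π : Subgroup.zpowers x → Prop := fun y => (y : G) ∈ cen S
  obtain ⟨a, b, hab⟩ : ∃ a b : ℤ, (1 : ℤ) = (2 * q : ℕ) * a + (Nat.card S - 1 : ℕ) * b :=
    ⟨_, _, by rw [← Nat.gcd_eq_gcd_ab, K.coprime_two_q.gcd_eq_one]; norm_num⟩
  have h3 : x ^ ((1 : ℤ)) ∈ cen S := by
    rw [hab, zpow_add, zpow_mul, zpow_mul, zpow_natCast, zpow_natCast]
    exact mul_mem (zpow_mem h a) (zpow_mem h2 b)
  rwa [zpow_one] at h3

theorem eq_one_of_comm_cen (K : Frame q S W F f e) {x c : G} (hx : x ∈ F) (hxC : x ∉ cen S)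
    (hc : c ∈ cen S) (hxc : Commute x c) : c = 1 := by
  obtain ⟨hW, hS, hsplit⟩ := K.loc.cen_split hc
  have h1 : c ^ q = 1 := by
    by_contra hne
    exact hxC (K.inj x hx _ hS hne (hxc.pow_right q))
  have h2 : c ^ (q + 1) = 1 := by
    by_contra hne
    refine hxC (K.mem_cen_of_pow hx ?_)
    rw [K.loc.h.pow_two_q_of_comm hne (Or.inr (K.loc.qgrp _ hW)) (hxc.pow_right (q + 1)).symm]
    exact one_mem _
  rw [hsplit, h1, h2, one_mul]

theorem pow_eq_one (K : Frame q S W F f e) {x : G} (hx : x ∈ F) (hxC : x ∉ cen S) :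
    x ^ (Nat.card S - 1) = 1 :=
  K.eq_one_of_comm_cen hx hxC (K.pow_mem_cen hx) ((Commute.refl x).pow_right _)

theorem gen_not_mem (K : Frame q S W F f e) : f ∉ cen S := by
  intro hf
  have hle : F = cen S := le_antisymm (fun x hx => by
    obtain ⟨k, hk⟩ := K.gen x hx
    simpa using (cen S).mul_mem (pow_mem hf k) hk) K.cen_le
  have h := K.card_F
  rw [hle] at h
  have := K.loc.four
  have hpos : 0 < Nat.card (cen S) := Nat.card_pos
  nlinarith

theorem coset_not_mem (K : Frame q S W F f e) {x : G} (hx : f⁻¹ * x ∈ cen S) :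
    x ∈ F ∧ x ∉ cen S := by
  refine ⟨?_, fun hxC => K.gen_not_mem ?_⟩
  · simpa using mul_mem K.gen_mem (K.cen_le hx)
  · simpa using (cen S).mul_mem hxC ((cen S).inv_mem hx)

theorem coset_conj (K : Frame q S W F f e) {x : G} (hx : f⁻¹ * x ∈ cen S) :
    ∃ c ∈ cen S, c * f * c⁻¹ = x := by
  have hf := K.le K.gen_mem
  let φ : cen S → cen S := fun c => ⟨f⁻¹ * c * f * (c : G)⁻¹, by
    have h := K.loc.conj_mem_cen (inv_mem hf) c.2
    rw [inv_inv] at h
    exact mul_mem h (inv_mem c.2)⟩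
  have hinj : Function.Injective φ := by
    intro c c' he
    have he' : f⁻¹ * (c : G) * f * (c : G)⁻¹ = f⁻¹ * (c' : G) * f * (c' : G)⁻¹ :=
      congrArg Subtype.val he
    refine Subtype.ext (inv_mul_eq_one.1 (K.eq_one_of_comm_cen K.gen_mem K.gen_not_mem
      (mul_mem (inv_mem c.2) c'.2) ?_))
    show f * ((c : G)⁻¹ * c') = (c : G)⁻¹ * c' * f
    calc f * ((c : G)⁻¹ * c')
        = (c : G)⁻¹ * f * (f⁻¹ * (c : G) * f * (c : G)⁻¹) * c' := by group
      _ = (c : G)⁻¹ * f * (f⁻¹ * (c' : G) * f * (c' : G)⁻¹) * c' := by rw [he']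
      _ = _ := by group
  obtain ⟨c, hc⟩ := (Finite.injective_iff_surjective.1 hinj) ⟨_, hx⟩
  have hc' : f⁻¹ * (c : G) * f * (c : G)⁻¹ = f⁻¹ * x := congrArg Subtype.val hc
  refine ⟨c, c.2, ?_⟩
  calc (c : G) * f * (c : G)⁻¹ = f * (f⁻¹ * (c : G) * f * (c : G)⁻¹) := by group
    _ = x := by rw [hc', mul_inv_cancel_left]

theorem mem_of_pow_one (K : Frame q S W F f e) {z : G} (hz : z ∈ nrm S)
    (h : z ^ (Nat.card S - 1) = 1) : z ∈ F := by
  rcases K.idx with he | he
  · have hF : F = nrm S := Subgroup.eq_of_le_of_card_ge K.le (by rw [K.card_nrm, he, mul_one])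
    rwa [hF]
  · haveI : (F.subgroupOf (nrm S)).Normal :=
      Subgroup.normal_subgroupOf_of_le_normalizer
        (SignalizerCoprime.le_normalizer_of_forall K.normal)
    have hidx : (F.subgroupOf (nrm S)).index = q := by
      have h1 := (F.subgroupOf (nrm S)).card_mul_index
      rw [Nat.card_congr (Subgroup.subgroupOfEquivOfLe K.le).toEquiv, K.card_nrm, he] at h1
      exact Nat.eq_of_mul_eq_mul_left Nat.card_pos h1
    have h1 : z ^ q ∈ F := by
      have := (F.subgroupOf (nrm S)).pow_index_mem ⟨z, hz⟩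
      rwa [hidx] at this
    obtain ⟨a, b, hab⟩ : ∃ a b : ℤ, (1 : ℤ) = (q : ℕ) * a + (Nat.card S - 1 : ℕ) * b :=
      ⟨_, _, by
        rw [← Nat.gcd_eq_gcd_ab,
          ((K.loc.h.prime.coprime_iff_not_dvd).2 K.coprime).gcd_eq_one]
        norm_num⟩
    have h3 : z ^ ((1 : ℤ)) ∈ F := by
      rw [hab, zpow_add, zpow_mul, zpow_mul, zpow_natCast, zpow_natCast, h, one_zpow, mul_one]
      exact zpow_mem h1 a
    rwa [zpow_one] at h3

/-- Every involution outside `N(S)` inverts an element of the coset `fC(S)`. -/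
theorem exists_inverted (K : Frame q S W F f e) {u : G} (hu : orderOf u = 2) (huN : u ∉ nrm S) :
    ∃ x, f⁻¹ * x ∈ cen S ∧ u * x * u = x⁻¹ := by
  classical
  have L := K.loc
  have huu := involution_mul_self hu
  set D := twoStab S u with hD
  set J := (D ⊓ F : Subgroup G) with hJ
  obtain ⟨a, ha, ha1⟩ := L.exists_mem_ne_one
  have hDN : D ≤ nrm S := inf_le_left
  have hcardD := L.card_transitive hDN (L.trans_twoStab hu huN) ha ha1
  have hdisj : ∀ d ∈ D, d ∈ cen S → d = 1 := fun d hd hdC =>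
    K.disj u hu huN d hdC ((mem_twoStab hu).1 hd).2
  -- `J × C(S) → F` is injective
  let m : J × cen S → F := fun p =>
    ⟨(p.1 : G) * p.2, mul_mem p.1.2.2 (K.cen_le p.2.2)⟩
  have hminj : Function.Injective m := by
    rintro ⟨⟨d, hd⟩, ⟨c, hc⟩⟩ ⟨⟨d', hd'⟩, ⟨c', hc'⟩⟩ he
    have he' : d * c = d' * c' := congrArg Subtype.val he
    have h1 : d'⁻¹ * d = c' * c⁻¹ := by
      rw [eq_mul_inv_iff_mul_eq, mul_assoc, he', inv_mul_cancel_left]
    have h2 := hdisj _ (D.mul_mem (D.inv_mem hd'.1) hd.1)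
      (h1 ▸ (cen S).mul_mem hc' ((cen S).inv_mem hc))
    have hdd : d' = d := inv_mul_eq_one.1 h2
    subst hdd
    have hcc : c = c' := mul_left_cancel he'
    subst hcc
    rfl
  have hJle : Nat.card J ≤ Nat.card S - 1 := by
    have h := Nat.card_le_card_of_injective m hminj
    rw [Nat.card_prod, K.card_eq, mul_comm (Nat.card (cen S))] at h
    exact Nat.le_of_mul_le_mul_right h Nat.card_pos
  -- `|D : J|` divides `e`
  haveI : (F.subgroupOf (nrm S)).Normal :=
    Subgroup.normal_subgroupOf_of_le_normalizer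
      (SignalizerCoprime.le_normalizer_of_forall K.normal)
  have hj : (F.subgroupOf D).index ∣ e := by
    have h1 : (F.subgroupOf (nrm S)).index = e := by
      have h1 := (F.subgroupOf (nrm S)).card_mul_index
      rw [Nat.card_congr (Subgroup.subgroupOfEquivOfLe K.le).toEquiv, K.card_nrm] at h1
      exact Nat.eq_of_mul_eq_mul_left Nat.card_pos h1
    have h2 : (F.subgroupOf (nrm S)).relIndex (D.subgroupOf (nrm S)) ∣ e :=
      h1 ▸ Subgroup.relIndex_dvd_index_of_normal _ _
    rwa [Subgroup.relIndex_subgroupOf hDN] at h2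
  have hJD : Nat.card J * (F.subgroupOf D).index = Nat.card D := by
    have h1 := (F.subgroupOf D).card_mul_index
    have h2 : Nat.card (F.subgroupOf D) = Nat.card J :=
      Nat.card_congr
        { toFun := fun x => ⟨x.1.1, x.1.2, x.2⟩
          invFun := fun x => ⟨⟨x.1, x.2.1⟩, x.2.2⟩
          left_inv := fun _ => rfl
          right_inv := fun _ => rfl }
    rwa [h2] at h1
  have hcop : (Nat.card S - 1).Coprime (F.subgroupOf D).index := by
    refine Nat.Coprime.coprime_dvd_right hj ?_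
    rcases K.idx with he | he <;> rw [he]
    · exact Nat.coprime_one_right _
    · exact ((L.h.prime.coprime_iff_not_dvd).2 K.coprime).symm
  have hJeq : Nat.card J = Nat.card S - 1 :=
    le_antisymm hJle (Nat.le_of_dvd Nat.card_pos
      (hcop.dvd_of_dvd_mul_right (hJD ▸ hcardD ▸ dvd_mul_right _ _)))
  have hmbij : Function.Bijective m := (Nat.bijective_iff_injective_and_card m).2
    ⟨hminj, by rw [Nat.card_prod, hJeq, K.card_eq, mul_comm]⟩
  obtain ⟨⟨⟨x, hxD, hxF⟩, ⟨c, hc⟩⟩, hxc⟩ := hmbij.2 ⟨f, K.gen_mem⟩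
  have hxc' : x * c = f := congrArg Subtype.val hxc
  have hfx : f⁻¹ * x ∈ cen S := by
    rw [← hxc', mul_inv_rev, mul_assoc, inv_mul_cancel, mul_one]; exact inv_mem hc
  refine ⟨x, hfx, ?_⟩
  have hxC : x ∉ cen S := (K.coset_not_mem hfx).2
  set x' := u * x * u with hx'
  have hx'D : x' ∈ D := Loc.conj_twoStab hu hxD
  have hx1 := K.pow_eq_one hxF hxC
  have hx'1 : x' ^ (Nat.card S - 1) = 1 := by
    have h := conj_pow (a := u) (b := x) (i := Nat.card S - 1)
    rw [involution_inv hu] at h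
    rw [hx', h, hx1, mul_one, huu]
  have hx'F : x' ∈ F := K.mem_of_pow_one (hDN hx'D) hx'1
  -- `J` is abelian
  have hab : Commute x x' := by
    obtain ⟨i, hi⟩ := K.gen x hxF
    obtain ⟨j, hj⟩ := K.gen x' hx'F
    haveI : ((cen S).subgroupOf (nrm S)).Normal :=
      Subgroup.normal_subgroupOf_of_le_normalizer
        (SignalizerCoprime.le_normalizer_of_forall fun n hn c hc => L.conj_mem_cen hn hc)
    let π := QuotientGroup.mk' ((cen S).subgroupOf (nrm S))
    have hfN : f ∈ nrm S := K.le K.gen_mem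
    have e1 : π ⟨f, hfN⟩ ^ i = π ⟨x, K.le hxF⟩ := by
      rw [← map_pow]
      refine (QuotientGroup.eq).2 ?_
      show (f ^ i)⁻¹ * x ∈ cen S
      exact hi
    have e2 : π ⟨f, hfN⟩ ^ j = π ⟨x', K.le hx'F⟩ := by
      rw [← map_pow]
      refine (QuotientGroup.eq).2 ?_
      show (f ^ j)⁻¹ * x' ∈ cen S
      exact hj
    have h := (Commute.refl (π ⟨f, hfN⟩)).pow_pow i j
    rw [e1, e2] at h
    have hc : x * x' * x⁻¹ * x'⁻¹ ∈ cen S := by
      have h' : π (⟨x, K.le hxF⟩ * ⟨x', K.le hx'F⟩ * ⟨x, K.le hxF⟩⁻¹ * ⟨x', K.le hx'F⟩⁻¹) = 1 := by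
        rw [map_mul, map_mul, map_mul, map_inv, map_inv, h.eq, mul_inv_cancel_right, mul_inv_cancel]
      exact (QuotientGroup.eq_one_iff (N := (cen S).subgroupOf (nrm S)) _).1 h'
    have := hdisj _ (D.mul_mem (D.mul_mem (D.mul_mem hxD hx'D) (D.inv_mem hxD)) (D.inv_mem hx'D)) hc
    rw [mul_inv_eq_one, mul_inv_eq_iff_eq_mul] at this
    exact this
  have hcu : Commute u (x * x') := by
    show u * (x * x') = x * x' * u
    rw [hab.eq, hx']
    calc u * (u * x * u * x) = (u * u) * x * u * x := by group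
      _ = x * u * x := by rw [huu, one_mul]
      _ = u * x * u * x * u := by
          have h2 : u * x * u * x = x * (u * x * u) := hab.eq.symm
          rw [h2]
          calc x * u * x = x * u * x * (u * u) := by rw [huu, mul_one]
            _ = _ := by group
  have hq1 := L.h.pow_q_of_comm huu (involution_ne_one hu) ((L.odd_twoStab hu huN).of_dvd_nat
    (Subgroup.orderOf_dvd_natCard D (D.mul_mem hxD hx'D))) hcu
  have h1 : x * x' = 1 := K.eq_one_of_pows (by rw [mul_comm 2 q, pow_mul, hq1, one_pow])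
    (by rw [hab.mul_pow, hx1, hx'1, one_mul])
  exact eq_inv_of_mul_eq_one_right h1

theorem inverted_unique (K : Frame q S W F f e) {u : G} (hu : orderOf u = 2) (huN : u ∉ nrm S)
    {x y : G} (hx : f⁻¹ * x ∈ cen S) (hy : f⁻¹ * y ∈ cen S) (hux : u * x * u = x⁻¹)
    (huy : u * y * u = y⁻¹) : x = y := by
  refine inv_mul_eq_one.1 (K.disj u hu huN _ ?_ ?_)
  · have h := (cen S).mul_mem ((cen S).inv_mem hx) hy
    rwa [show (f⁻¹ * x)⁻¹ * (f⁻¹ * y) = x⁻¹ * y by group] at h
  · have huu := involution_mul_self hu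
    have e1 : u * x⁻¹ * u = x := by
      rw [← hux]
      calc u * (u * x * u) * u = (u * u) * x * (u * u) := by group
        _ = x := by rw [huu, one_mul, mul_one]
    have e2 : u * (x⁻¹ * y) * u = x * y⁻¹ := by
      calc u * (x⁻¹ * y) * u = u * x⁻¹ * (u * u) * y * u := by rw [huu]; group
        _ = (u * x⁻¹ * u) * (u * y * u) := by group
        _ = _ := by rw [e1, huy]
    rw [e2]
    exact mul_mem (K.le (K.coset_not_mem hx).1) (inv_mem (K.le (K.coset_not_mem hy).1))

theorem not_mem_of_inverts (K : Frame q S W F f e) {u x : G} (hu : orderOf u = 2)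
    (hx : f⁻¹ * x ∈ cen S) (hux : u * x * u = x⁻¹) : u ∉ nrm S := by
  intro huN
  obtain ⟨hxF, hxC⟩ := K.coset_not_mem hx
  have huC : u ∈ cen S := K.loc.sylow_le_cen (K.loc.mem_of_involution hu huN)
  have h1 := (cen S).mul_mem huC (K.loc.conj_mem_cen (K.le hxF) huC)
  have h2 : u * (x * u * x⁻¹) = x⁻¹ * x⁻¹ := by
    calc u * (x * u * x⁻¹) = u * x * u * x⁻¹ := by group
      _ = _ := by rw [hux]
  rw [h2, ← mul_inv_rev, Subgroup.inv_mem_iff] at h1
  refine hxC (K.mem_cen_of_pow hxF ?_)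
  rw [pow_mul, pow_two]
  exact pow_mem h1 q

/-- The centraliser of an element of the coset has order prime to `2q`. -/
theorem cent_coprime (K : Frame q S W F f e) {x : G} (hx : f⁻¹ * x ∈ cen S) {r : ℕ}
    (hr : r.Prime) (hr2 : r = 2 ∨ r = q) :
    ¬ r ∣ Nat.card (Subgroup.centralizer ({x} : Set G)) := by
  intro hd
  haveI := Fact.mk hr
  obtain ⟨hxF, hxC⟩ := K.coset_not_mem hx
  obtain ⟨⟨t, ht⟩, hto⟩ := exists_prime_orderOf_dvd_card'
    (G := Subgroup.centralizer ({x} : Set G)) r hd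
  rw [Subgroup.orderOf_mk] at hto
  have ht1 : t ≠ 1 := fun e => by rw [e, orderOf_one] at hto; exact hr.ne_one hto.symm
  have htr : t ^ r = 1 := hto ▸ pow_orderOf_eq_one t
  have hx1 := K.eq_one_of_pows (K.loc.h.pow_two_q_of_comm ht1
    (by
      rcases hr2 with rfl | rfl
      · left; rw [← pow_two]; exact htr
      · right; exact htr)
    (Subgroup.mem_centralizer_singleton_iff.1 ht : Commute t x)) (K.pow_eq_one hxF hxC)
  exact hxC (hx1 ▸ one_mem _)

/-- The number of involutions inverting `x`. -/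
theorem card_fibre (K : Frame q S W F f e) {x : G} (hx : f⁻¹ * x ∈ cen S)
    {u : G} (hu : orderOf u = 2) (hux : u * x * u = x⁻¹) :
    Nat.card {v : G // orderOf v = 2 ∧ v * x * v = x⁻¹} =
      Nat.card (Subgroup.centralizer ({x} : Set G)) := by
  set T := Subgroup.centralizer ({x} : Set G) with hT
  have huu := involution_mul_self hu
  have hui := involution_inv hu
  have hTodd : Odd (Nat.card T) :=
    Nat.odd_iff.2 (Nat.two_dvd_ne_zero.1 (K.cent_coprime hx Nat.prime_two (Or.inl rfl)))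
  have huxi : u * x⁻¹ * u = x := by
    rw [← hux]
    calc u * (u * x * u) * u = (u * u) * x * (u * u) := by group
      _ = x := by rw [huu, one_mul, mul_one]
  have hTn : ∀ z ∈ T, u * z * u ∈ T := by
    intro z hz
    rw [hT, Subgroup.mem_centralizer_singleton_iff] at hz ⊢
    have hzx : z * x⁻¹ = x⁻¹ * z := (Commute.inv_right hz).eq
    calc u * z * u * x = u * z * u * (u * x⁻¹ * u) := by rw [huxi]
      _ = u * z * (u * u) * x⁻¹ * u := by group
      _ = u * (z * x⁻¹) * u := by rw [huu]; group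
      _ = u * (x⁻¹ * z) * u := by rw [hzx]
      _ = u * x⁻¹ * (u * u) * z * u := by rw [huu]; group
      _ = (u * x⁻¹ * u) * (u * z * u) := by group
      _ = _ := by rw [huxi]
  have hfix : ∀ z ∈ T, Commute u z → z = 1 := by
    intro z hz huz
    have hzo : orderOf z ∣ Nat.card T := Subgroup.orderOf_dvd_natCard T hz
    have hzq := K.loc.h.pow_q_of_comm huu (involution_ne_one hu) (hTodd.of_dvd_nat hzo) huz
    by_contra hz1
    haveI := Fact.mk K.loc.h.prime
    exact K.cent_coprime hx K.loc.h.prime (Or.inr rfl)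
      ((orderOf_eq_prime hzq hz1) ▸ hzo)
  have hinv := inverts_of_fpf huu hTodd hTn hfix
  refine Nat.card_congr
    { toFun := fun v => ⟨u * v.1, ?_⟩
      invFun := fun z => ⟨u * z.1, ?_, ?_⟩
      left_inv := fun v => Subtype.ext (by show u * (u * v.1) = v.1; rw [← mul_assoc, huu, one_mul])
      right_inv := fun z => Subtype.ext (by show u * (u * z.1) = z.1; rw [← mul_assoc, huu, one_mul]) }
  · obtain ⟨v, hv, hvx⟩ := v
    have hvv := involution_mul_self hv
    rw [hT, Subgroup.mem_centralizer_singleton_iff]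
    have hvx' : v * x = x⁻¹ * v := by
      calc v * x = v * x * (v * v) := by rw [hvv, mul_one]
        _ = (v * x * v) * v := by group
        _ = _ := by rw [hvx]
    have hux' : u * x⁻¹ = x * u := by
      calc u * x⁻¹ = u * x⁻¹ * (u * u) := by rw [huu, mul_one]
        _ = (u * x⁻¹ * u) * u := by group
        _ = _ := by rw [huxi]
    calc u * v * x = u * (v * x) := mul_assoc _ _ _
      _ = (u * x⁻¹) * v := by rw [hvx']; group
      _ = x * (u * v) := by rw [hux', mul_assoc]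
  · refine orderOf_eq_two_of_mul_self ?_ fun e => ?_
    · rw [show u * z.1 * (u * z.1) = (u * z.1 * u) * z.1 by group, hinv _ z.2, inv_mul_cancel]
    · rw [mul_eq_one_iff_eq_inv] at e
      obtain ⟨hxF, hxC⟩ := K.coset_not_mem hx
      exact K.cent_coprime hx Nat.prime_two (Or.inl rfl)
        (hu ▸ e ▸ Subgroup.orderOf_dvd_natCard T (T.inv_mem z.2))
  · have hz : z.1 * x = x * z.1 := Subgroup.mem_centralizer_singleton_iff.1 z.2
    have h1 : u * z.1 * u = z.1⁻¹ := hinv _ z.2
    have hzu : z.1 * u * z.1 = u := by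
      calc z.1 * u * z.1 = z.1 * u * z.1 * (u * u) := by rw [huu, mul_one]
        _ = z.1 * (u * z.1 * u) * u := by group
        _ = u := by rw [h1, mul_inv_cancel, one_mul]
    calc u * z.1 * x * (u * z.1) = u * (z.1 * x) * (u * z.1) := by group
      _ = u * x * (z.1 * u * z.1) := by rw [hz]; group
      _ = x⁻¹ := by rw [hzu, hux]

/-- `C(S)` is regular on the cosets other than `N(S)`. -/
theorem index_eq (K : Frame q S W F f e) :
    (nrm S).index = Nat.card (cen S) + 1 := by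
  classical
  have L := K.loc
  haveI := Fact.mk L.h.prime
  haveI := Fact.mk Nat.prime_two
  set n := Nat.card S with hn
  set c₀ : G ⧸ nrm S := ((1 : G) : G ⧸ nrm S) with hc₀
  obtain ⟨u₀, hu₀N, hu₀⟩ := exists_involution_not_mem L.se
  obtain ⟨x₀, hx₀, hux₀⟩ := K.exists_inverted hu₀ hu₀N
  set T := Subgroup.centralizer ({x₀} : Set G) with hT
  -- the involutions outside
  have hout : Nat.card {v : G // orderOf v = 2 ∧ v ∉ nrm S} = ((nrm S).index - 1) * (n - 1) := by
    haveI := Fintype.ofFinite {c : G ⧸ nrm S // c ≠ c₀}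
    have e1 : {v : G // orderOf v = 2 ∧ v ∉ nrm S} ≃
        Σ c : {c : G ⧸ nrm S // c ≠ c₀}, {i : G // orderOf i = 2 ∧ i • c₀ = c.1} :=
      { toFun := fun v => ⟨⟨v.1 • c₀, fun h => v.2.2 (smul_one_eq_iff.1 h)⟩, v.1, v.2.1, rfl⟩
        invFun := fun p => ⟨p.2.1, p.2.2.1, fun h =>
          p.1.2 (p.2.2.2.symm.trans (smul_one_eq_iff.2 h))⟩
        left_inv := fun v => rfl
        right_inv := by
          rintro ⟨⟨c, hc⟩, i, hi, hic⟩
          obtain rfl : i • c₀ = c := hic
          rfl }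
    rw [Nat.card_congr e1, Nat.card_sigma, Finset.sum_congr rfl fun c _ =>
      (card_swap L.se c₀ c.1 (Ne.symm c.2)), Finset.sum_const, Finset.card_univ, smul_eq_mul]
    have h2 := L.card_inv
    rw [show Nat.card {t : G // orderOf t = 2 ∧ t ∈ nrm S} = n - 1 by omega,
      ← Nat.card_eq_fintype_card]
    congr 1
    have h3 : Nat.card {c : G ⧸ nrm S // c ≠ c₀} + 1 = (nrm S).index := by
      rw [← Finite.card_option, Nat.card_congr (Equiv.optionSubtypeNe c₀), Subgroup.index_eq_card]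
    omega
  -- fibres
  have hfib : ∀ x, f⁻¹ * x ∈ cen S →
      Nat.card {v : G // orderOf v = 2 ∧ v * x * v = x⁻¹} = Nat.card T := by
    intro x hx
    obtain ⟨c, hc, rfl⟩ := K.coset_conj hx
    obtain ⟨c', hc', hx₀c⟩ := K.coset_conj hx₀
    rw [← K.card_fibre hx₀ hu₀ hux₀]
    set g := c * c'⁻¹ with hg
    have hgx : g * x₀ * g⁻¹ = c * f * c⁻¹ := by rw [hg, ← hx₀c]; group
    refine Nat.card_congr (Equiv.subtypeEquiv (MulAut.conj g⁻¹).toEquiv fun v => ?_)
    simp only [MulEquiv.toEquiv_eq_coe, MulEquiv.coe_toEquiv, MulAut.conj_apply, inv_inv]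
    have ho := orderOf_conj g⁻¹ v
    rw [inv_inv] at ho
    rw [ho, ← hgx]
    refine and_congr_right' ⟨fun h => ?_, fun h => ?_⟩
    · calc g⁻¹ * v * g * x₀ * (g⁻¹ * v * g) = g⁻¹ * (v * (g * x₀ * g⁻¹) * v) * g := by group
        _ = x₀⁻¹ := by rw [h]; group
    · calc v * (g * x₀ * g⁻¹) * v = g * (g⁻¹ * v * g * x₀ * (g⁻¹ * v * g)) * g⁻¹ := by group
        _ = (g * x₀ * g⁻¹)⁻¹ := by rw [h]; group
  have hcount : ((nrm S).index - 1) * (n - 1) = Nat.card (cen S) * Nat.card T := by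
    rw [← hout]
    haveI := Fintype.ofFinite {x : G // f⁻¹ * x ∈ cen S}
    have e2 : (Σ x : {x : G // f⁻¹ * x ∈ cen S}, {v : G // orderOf v = 2 ∧ v * x.1 * v = x.1⁻¹}) ≃
        {v : G // orderOf v = 2 ∧ v ∉ nrm S} :=
      Equiv.ofBijective (fun p => ⟨p.2.1, p.2.2.1, K.not_mem_of_inverts p.2.2.1 p.1.2 p.2.2.2⟩)
        ⟨by
          rintro ⟨⟨x, hx⟩, v, hv, hvx⟩ ⟨⟨y, hy⟩, w, hw, hwy⟩ he
          simp only [Subtype.mk.injEq] at he
          subst he
          obtain rfl := K.inverted_unique hv (K.not_mem_of_inverts hv hx hvx) hx hy hvx hwy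
          rfl, by
          rintro ⟨v, hv, hvN⟩
          obtain ⟨x, hx, hvx⟩ := K.exists_inverted hv hvN
          exact ⟨⟨⟨x, hx⟩, v, hv, hvx⟩, rfl⟩⟩
    rw [← Nat.card_congr e2, Nat.card_sigma, Finset.sum_congr rfl fun x _ => hfib x.1 x.2,
      Finset.sum_const, Finset.card_univ, smul_eq_mul, ← Nat.card_eq_fintype_card]
    congr 1
    exact Nat.card_congr
      { toFun := fun x => ⟨f⁻¹ * x.1, x.2⟩
        invFun := fun c => ⟨f * c.1, by rw [inv_mul_cancel_left]; exact c.2⟩
        left_inv := fun x => Subtype.ext (mul_inv_cancel_left f x.1)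
        right_inv := fun c => Subtype.ext (inv_mul_cancel_left f c.1) }
  -- semiregularity
  have hfixc : ∀ c : cen S, (c : G) • c₀ = c₀ := fun c =>
    smul_one_eq_iff.2 (L.cen_le_nrm c.2)
  letI act : MulAction (cen S) {c : G ⧸ nrm S // c ≠ c₀} :=
    { smul := fun g c => ⟨(g : G) • c.1, fun h => c.2 (smul_left_cancel (g : G) (h.trans (hfixc g).symm))⟩
      one_smul := fun c => Subtype.ext (one_smul G c.1)
      mul_smul := fun g g' c => Subtype.ext (mul_smul (g : G) (g' : G) c.1) }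
  have hstab : ∀ b : {c : G ⧸ nrm S // c ≠ c₀}, MulAction.stabilizer (cen S) b = ⊥ := by
    rintro ⟨b, hb⟩
    induction b using QuotientGroup.induction_on with
    | H g =>
      rw [Subgroup.eq_bot_iff_forall]
      intro c hc
      by_contra hc1
      have hc' : (((c : G) * g : G) : G ⧸ nrm S) = (g : G ⧸ nrm S) :=
        congrArg Subtype.val hc
      rw [QuotientGroup.eq] at hc'
      refine hb (QuotientGroup.eq.2 ?_)
      rw [mul_one]
      refine inv_mem (L.mem_of_conj_cen K.disj (inv_mem c.2)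
        (fun e => hc1 (Subtype.ext (inv_eq_one.1 e))) ?_)
      rwa [mul_inv_rev] at hc'
  obtain ⟨m, hm⟩ : Nat.card (cen S) ∣ (nrm S).index - 1 := by
    have h3 : Nat.card {c : G ⧸ nrm S // c ≠ c₀} + 1 = (nrm S).index := by
      rw [← Finite.card_option, Nat.card_congr (Equiv.optionSubtypeNe c₀), Subgroup.index_eq_card]
    have h4 := Nat.card_congr (MulAction.selfEquivOrbitsQuotientProd hstab)
    rw [Nat.card_prod] at h4
    rw [show (nrm S).index - 1 = Nat.card {c : G ⧸ nrm S // c ≠ c₀} by omega, h4]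
    exact dvd_mul_left _ _
  have hTm : Nat.card T = m * (n - 1) :=
    Nat.eq_of_mul_eq_mul_left Nat.card_pos (by rw [← hcount, hm, mul_assoc] :
      Nat.card (cen S) * Nat.card T = Nat.card (cen S) * (m * (n - 1)))
  have hidx0 : (nrm S).index ≠ 0 := Subgroup.index_ne_zero_of_finite
  have hidx1 : (nrm S).index = Nat.card (cen S) * m + 1 := by omega
  -- coprimality
  have hmT : m ∣ Nat.card T := hTm ▸ dvd_mul_right _ _
  have hcop : ∀ k, (∀ r : ℕ, r.Prime → r ∣ k → r = 2 ∨ r = q) → m.Coprime k := by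
    intro k hk
    refine Nat.coprime_of_dvd fun r hr hrm hrk => ?_
    exact K.cent_coprime hx₀ hr (hk r hr hrk) (hrm.trans hmT)
  have hC2q : ∀ r : ℕ, r.Prime → r ∣ Nat.card (cen S) → r = 2 ∨ r = q := by
    intro r hr hrC
    haveI := Fact.mk hr
    obtain ⟨⟨z, hz⟩, hzo⟩ := exists_prime_orderOf_dvd_card' (G := cen S) r hrC
    rw [Subgroup.orderOf_mk] at hzo
    have h := hzo ▸ orderOf_dvd_of_pow_eq_one (L.pow_two_q_of_cen hz)
    rcases hr.dvd_mul.1 h with h' | h'
    · exact Or.inl ((Nat.prime_dvd_prime_iff_eq hr Nat.prime_two).1 h')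
    · exact Or.inr ((Nat.prime_dvd_prime_iff_eq hr L.h.prime).1 h')
  have hdvd : Nat.card T ∣ (Nat.card (cen S) * m + 1) * (Nat.card (cen S) * (n - 1) * e) := by
    rw [← hidx1, ← K.card_eq, ← K.card_nrm, Subgroup.index_mul_card]
    exact Subgroup.card_subgroup_dvd_card T
  have hpos : 0 < n - 1 := by have := L.four; omega
  have h1 : m ∣ (Nat.card (cen S) * m + 1) * (Nat.card (cen S) * e) := by
    refine Nat.dvd_of_mul_dvd_mul_right hpos ?_
    rw [← hTm]
    refine hdvd.trans (dvd_of_eq ?_)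
    ring
  have he : ∀ r : ℕ, r.Prime → r ∣ Nat.card (cen S) * e → r = 2 ∨ r = q := by
    intro r hr hd
    rcases hr.dvd_mul.1 hd with h' | h'
    · exact hC2q r hr h'
    · rcases K.idx with e1 | e1 <;> rw [e1] at h'
      · exact absurd (Nat.dvd_one.1 h') hr.ne_one
      · exact Or.inr ((Nat.prime_dvd_prime_iff_eq hr L.h.prime).1 h')
  have h2 := (hcop _ he).dvd_of_dvd_mul_right h1
  have h3 : m ∣ 1 := (Nat.dvd_add_right (dvd_mul_left m _)).1 h2
  rw [Nat.dvd_one.1 h3, mul_one] at hidx1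
  exact hidx1

/-- `C(S)` is transitive on the cosets other than `N(S)`. -/
theorem exists_cen_coset (K : Frame q S W F f e) {u g : G} (hu : u ∉ nrm S) (hg : g ∉ nrm S) :
    ∃ c ∈ cen S, (c * u)⁻¹ * g ∈ nrm S := by
  classical
  set c₀ : G ⧸ nrm S := ((1 : G) : G ⧸ nrm S) with hc₀
  have hne : ∀ {z : G}, z ∉ nrm S → ((z : G) : G ⧸ nrm S) ≠ c₀ := fun hz h => hz (by
    rw [QuotientGroup.eq, mul_one] at h
    simpa using inv_mem h)
  let φ : cen S → {c : G ⧸ nrm S // c ≠ c₀} := fun c => ⟨((c * u : G) : G ⧸ nrm S), hne fun h =>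
    hu (by simpa using mul_mem (inv_mem (K.loc.cen_le_nrm c.2)) h)⟩
  have hinj : Function.Injective φ := by
    intro c c' h
    have h' := congrArg Subtype.val h
    rw [QuotientGroup.eq, mul_inv_rev, mul_assoc, ← mul_assoc (c : G)⁻¹, ← mul_assoc] at h'
    by_contra hne'
    exact hu (K.loc.mem_of_conj_cen K.disj (mul_mem (inv_mem c.2) c'.2)
      (fun e => hne' (Subtype.ext (inv_mul_eq_one.1 e))) h')
  have hcard : Nat.card (cen S) = Nat.card {c : G ⧸ nrm S // c ≠ c₀} := by
    have h3 : Nat.card {c : G ⧸ nrm S // c ≠ c₀} + 1 = (nrm S).index := by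
      rw [← Finite.card_option, Nat.card_congr (Equiv.optionSubtypeNe c₀), Subgroup.index_eq_card]
    have := K.index_eq
    omega
  obtain ⟨c, hc⟩ := ((Nat.bijective_iff_injective_and_card φ).2 ⟨hinj, hcard⟩).2 ⟨_, hne hg⟩
  exact ⟨c, c.2, QuotientGroup.eq.1 (congrArg Subtype.val hc)⟩

end Frame

end Cfsg.Agent.TwoQ27
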