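import Mathlib
import Cfsg.Agent.Lib.TwoQ27LargeStruct91

/-!
# A nontrivial `W` forces trivial stabilisers
-/

set_option autoImplicit false
set_option linter.unusedSectionVars false
set_option linter.style.haveILetI false

namespace Cfsg.Agent.TwoQ27

universe u

variable {G : Type u} [Group G] [Finite G]

namespace Loc

variable {q : ℕ} {S : Sylow 2 G} {W : Subgroup G}

/-- With `W ≠ 1` every element of `N(S)` fixing a point of `S#` centralises `S`. -/
theorem free_of_ne_bot (L : Loc q S W) (hW : W ≠ ⊥) :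
    ∀ a ∈ (S : Subgroup G), a ≠ 1 → ∀ g, Commute g a → g ∈ cen S := by
  classical
  by_contra hcon
  push Not at hcon
  obtain ⟨a, ha, ha1, g₁, hg₁, hg₁C⟩ := hcon
  haveI := Fact.mk L.h.prime
  obtain ⟨F, f, hle, hcle, hnorm, hcardF, hcardN, hco, hfF, hfpow, hgen, hinj, hout, hqcomm, -⟩ :=
    L.stab_main ⟨a, ha, ha1, g₁, hg₁, hg₁C⟩
  set n := Nat.card S with hn
  have hn4 : 4 ≤ n := L.four
  have hfN := hle hfF
  have hnormC : ∀ m ∈ nrm S, ∀ c ∈ cen S, m * c * m⁻¹ ∈ cen S := fun m hm c hc =>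
    L.conj_mem_cen hm hc
  -- the image of `f` has order `n - 1`
  have hmin : ∀ j, f ^ j ∈ cen S → n - 1 ∣ j := by
    intro j hj
    set d := Nat.gcd (n - 1) j with hd
    have hdpos : 0 < d := Nat.gcd_pos_of_pos_left _ (by omega)
    have hfd : f ^ d ∈ cen S := by
      have h := Nat.gcd_eq_gcd_ab (n - 1) j
      rw [← hd] at h
      rw [← zpow_natCast, h, zpow_add, zpow_mul, zpow_mul, zpow_natCast, zpow_natCast]
      exact mul_mem (zpow_mem hfpow _) (zpow_mem hj _)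
    let m : Fin d × cen S → F := fun p => ⟨f ^ (p.1 : ℕ) * p.2, mul_mem (pow_mem hfF _) (hcle p.2.2)⟩
    have hsurj : Function.Surjective m := by
      rintro ⟨x, hx⟩
      obtain ⟨k, hk⟩ := hgen x hx
      refine ⟨(⟨k % d, Nat.mod_lt _ hdpos⟩, ⟨(f ^ (k % d))⁻¹ * x, ?_⟩),
        Subtype.ext (mul_inv_cancel_left _ x)⟩
      have : (f ^ (k % d))⁻¹ * x = (f ^ d) ^ (k / d) * ((f ^ k)⁻¹ * x) := by
        nth_rewrite 3 [← Nat.mod_add_div k d]
        rw [pow_add, pow_mul, mul_inv_rev]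
        rw [show ((f ^ d) ^ (k / d))⁻¹ * (f ^ (k % d))⁻¹ * x =
          ((f ^ d) ^ (k / d))⁻¹ * ((f ^ (k % d))⁻¹ * x) from mul_assoc _ _ _, mul_inv_cancel_left]
      rw [this]
      exact mul_mem (pow_mem hfd _) hk
    have h := Nat.card_le_card_of_surjective m hsurj
    rw [Nat.card_prod, Nat.card_fin] at h
    have hdle : d ∣ n - 1 := Nat.gcd_dvd_left _ _
    have h1 : d = n - 1 := le_antisymm (Nat.le_of_dvd (by omega) hdle) (by
      have hpos : 0 < Nat.card (cen S) := Nat.card_pos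
      by_contra hlt
      have h2 : d * Nat.card (cen S) + 2 * Nat.card (cen S) ≤ n * Nat.card (cen S) := by
        rw [← add_mul]; exact Nat.mul_le_mul_right _ (by omega)
      rw [mul_comm n] at h2
      omega)
    exact h1 ▸ Nat.gcd_dvd_right _ _
  have hodd : Odd (n - 1) := by
    haveI := Fact.mk Nat.prime_two
    obtain ⟨k, hk⟩ := IsPGroup.iff_card.1 S.isPGroup'
    rcases k with _ | k
    · rw [hn, show Nat.card S = 2 ^ 0 from hk] at hn4; norm_num at hn4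
    · rw [hn, show Nat.card S = 2 ^ (k + 1) from hk, pow_succ']
      have : 0 < 2 ^ k := Nat.two_pow_pos k
      exact ⟨2 ^ k - 1, by omega⟩
  obtain ⟨r, hr, hrd⟩ := Nat.exists_prime_and_dvd (show n - 1 ≠ 1 by omega)
  obtain ⟨m, hm⟩ := hrd
  have hr2 : r ≠ 2 := fun e => by
    subst e
    exact Nat.not_odd_iff_even.2 ⟨m, by omega⟩ hodd
  have hrq : r ≠ q := fun e => hco (e ▸ ⟨m, hm⟩)
  have hcop : Nat.Coprime (2 * q) r := Nat.Coprime.mul_left
    ((Nat.coprime_primes Nat.prime_two hr).2 (Ne.symm hr2))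
    ((Nat.coprime_primes L.h.prime hr).2 (Ne.symm hrq))
  have hm0 : 0 < m := by
    rcases Nat.eq_zero_or_pos m with e | e
    · subst e; rw [mul_zero] at hm; omega
    · exact e
  set g₀ := f ^ m with hg₀
  have hg₀F : g₀ ∈ F := pow_mem hfF m
  have hg₀C : g₀ ∉ cen S := fun h => by
    have h1 := Nat.le_of_dvd hm0 (hmin m h)
    rw [hm] at h1
    have := Nat.mul_le_mul_right m hr.two_le
    omega
  have hg₀r : g₀ ^ r ∈ cen S := by rw [hg₀, ← pow_mul, mul_comm, ← hm]; exact hfpow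
  set g := g₀ ^ (2 * q) with hg
  have hgr : g ^ r = 1 := by
    rw [hg, ← pow_mul, mul_comm, pow_mul]; exact L.pow_two_q_of_cen hg₀r
  have hgF : g ∈ F := pow_mem hg₀F _
  obtain ⟨s, hs⟩ : ∃ s, 2 * q * s % r = 1 := by
    obtain ⟨s, -, hs⟩ := Nat.exists_mul_mod_eq_one_of_coprime hcop hr.one_lt
    exact ⟨s, hs⟩
  have hg₀g : (g ^ s)⁻¹ * g₀ ∈ cen S := by
    have h : g ^ s = g₀ * (g₀ ^ r) ^ (2 * q * s / r) := by
      rw [hg, ← pow_mul]
      nth_rewrite 1 [← Nat.mod_add_div (2 * q * s) r]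
      rw [hs, pow_add, pow_one, pow_mul]
    rw [h, mul_inv_rev, inv_mul_cancel_right]
    exact inv_mem (pow_mem hg₀r _)
  have hgC : g ∉ cen S := fun h => hg₀C (by
    simpa using mul_mem (pow_mem h s) hg₀g)
  haveI := Fact.mk hr
  have hgo : orderOf g = r := orderOf_eq_prime hgr fun e => hgC (e ▸ one_mem _)
  -- every element of `F` of order `r` modulo `C(S)` is in `<g> C(S)`
  have hRsub : ∀ x ∈ F, x ^ r ∈ cen S → ∃ e : ℕ, (g ^ e)⁻¹ * x ∈ cen S := by
    intro x hx hxr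
    obtain ⟨k, hk⟩ := hgen x hx
    have hfkr : f ^ (k * r) ∈ cen S := by
      have h := Subgroup.mul_mem _ hxr (one_mem (cen S))
      have hind : ∀ j : ℕ, (f ^ (k * j))⁻¹ * x ^ j ∈ cen S := by
        intro j
        induction j with
        | zero => simp
        | succ j ih =>
          have h1 := hnormC (f ^ k)⁻¹ (inv_mem (pow_mem hfN k)) _ ih
          rw [inv_inv] at h1
          have h2 := mul_mem h1 hk
          rwa [show (f ^ k)⁻¹ * ((f ^ (k * j))⁻¹ * x ^ j) * f ^ k * ((f ^ k)⁻¹ * x) =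
            (f ^ (k * (j + 1)))⁻¹ * x ^ (j + 1) by rw [Nat.mul_succ, pow_add, pow_succ]; group] at h2
      have h3 := mul_mem hxr (inv_mem (hind r))
      rwa [mul_inv_rev, inv_inv, ← mul_assoc, mul_inv_cancel, one_mul] at h3
    have hmk : m ∣ k := by
      have h := hmin _ hfkr
      rw [hm, mul_comm k r] at h
      exact Nat.dvd_of_mul_dvd_mul_left hr.pos h
    obtain ⟨k', rfl⟩ := hmk
    refine ⟨s * k', ?_⟩
    rw [pow_mul] at hk
    have hind : ∀ j : ℕ, ((g ^ s) ^ j)⁻¹ * g₀ ^ j ∈ cen S := by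
      intro j
      induction j with
      | zero => simp
      | succ j ih =>
        have h1 := hnormC (g ^ s)⁻¹ (inv_mem (pow_mem (hle hgF) s)) _ ih
        rw [inv_inv] at h1
        have h2 := mul_mem h1 hg₀g
        rwa [show (g ^ s)⁻¹ * (((g ^ s) ^ j)⁻¹ * g₀ ^ j) * g ^ s * ((g ^ s)⁻¹ * g₀) =
          ((g ^ s) ^ (j + 1))⁻¹ * g₀ ^ (j + 1) by rw [pow_succ, pow_succ]; group] at h2
    have h4 := mul_mem (hind k') hk
    rwa [mul_assoc, mul_inv_cancel_left, ← pow_mul] at h4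
  -- an element of order `q` normalising `<g>`
  have hg₁N : g₁ ∈ nrm S := L.cent a ha ha1 (Subgroup.mem_centralizer_singleton_iff.2 hg₁)
  have hg₁F : g₁ ∉ F := fun h => hg₁C (hinj g₁ h a ha ha1 hg₁)
  obtain ⟨e, he⟩ := hRsub (g₁ * g * g₁⁻¹) (hnorm _ hg₁N _ hgF) (by
    rw [conj_pow, hgr, mul_one, mul_inv_cancel]; exact one_mem _)
  have hgeC : g ^ e ∉ cen S := fun h => by
    have h1 : g₁ * g * g₁⁻¹ ∈ cen S := by simpa using mul_mem h he
    have h2 := L.conj_mem_cen (inv_mem hg₁N) h1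
    rw [inv_inv, show g₁⁻¹ * (g₁ * g * g₁⁻¹) * g₁ = g by group] at h2
    exact hgC h2
  have hgeF : g ^ e ∈ F := pow_mem hgF e
  -- `C(S)` is transitive on the coset `g ^ e C(S)`
  let ψ : cen S → cen S := fun c => ⟨(g ^ e)⁻¹ * c * g ^ e * (c : G)⁻¹, by
    have h := L.conj_mem_cen (inv_mem (pow_mem (hle hgF) e)) c.2
    rw [inv_inv] at h
    exact mul_mem h (inv_mem c.2)⟩
  have hψ : Function.Injective ψ := by
    intro c c' he'
    have h' : (g ^ e)⁻¹ * (c : G) * g ^ e * (c : G)⁻¹ =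
        (g ^ e)⁻¹ * (c' : G) * g ^ e * (c' : G)⁻¹ := congrArg Subtype.val he'
    set d := (c : G)⁻¹ * c' with hd
    have hdC : d ∈ cen S := mul_mem (inv_mem c.2) c'.2
    have hcomm : Commute d (g ^ e) := by
      show (c : G)⁻¹ * c' * g ^ e = g ^ e * ((c : G)⁻¹ * c')
      calc (c : G)⁻¹ * c' * g ^ e
          = (c : G)⁻¹ * (g ^ e) * ((g ^ e)⁻¹ * (c' : G) * g ^ e * (c' : G)⁻¹) * c' := by group
        _ = (c : G)⁻¹ * (g ^ e) * ((g ^ e)⁻¹ * (c : G) * g ^ e * (c : G)⁻¹) * c' := by rw [h']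
        _ = _ := by group
    obtain ⟨hdW, hdS, hsplit⟩ := L.cen_split hdC
    have h1 : d ^ q = 1 := by
      by_contra hne
      exact hgeC (hinj _ hgeF _ hdS hne (hcomm.symm.pow_right q))
    have h2 : d ^ (q + 1) = 1 := by
      by_contra hne
      have hge1 : g ^ e ≠ 1 := fun e1 => hgeC (e1 ▸ one_mem _)
      have hgeo : orderOf (g ^ e) = r := orderOf_eq_prime
        (by rw [← pow_mul, mul_comm, pow_mul, hgr, one_pow]) hge1
      rcases L.h.eq_one_of_comm (L.qgrp _ hdW) hne (hgeo ▸ fun hd' =>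
        hrq ((Nat.prime_dvd_prime_iff_eq L.h.prime hr).1 hd').symm) (hcomm.pow_left (q + 1))
        with e1 | e1
      · exact hge1 e1
      · exact hr2 ((Nat.prime_dvd_prime_iff_eq hr Nat.prime_two).1
          (hgeo ▸ orderOf_dvd_of_pow_eq_one (by rw [pow_two]; exact e1)))
    exact Subtype.ext (inv_mul_eq_one.1 (by rw [← hd, hsplit, h1, h2, one_mul] :
      (c : G)⁻¹ * c' = 1))
  obtain ⟨c, hc⟩ := (Finite.injective_iff_surjective.1 hψ) ⟨_, he⟩
  have hc' : (g ^ e)⁻¹ * (c : G) * g ^ e * (c : G)⁻¹ = (g ^ e)⁻¹ * (g₁ * g * g₁⁻¹) :=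
    congrArg Subtype.val hc
  have hc'' : (c : G) * g ^ e * (c : G)⁻¹ = g₁ * g * g₁⁻¹ := by
    calc (c : G) * g ^ e * (c : G)⁻¹
        = g ^ e * ((g ^ e)⁻¹ * (c : G) * g ^ e * (c : G)⁻¹) := by group
      _ = _ := by rw [hc', mul_inv_cancel_left]
  set y₂ := (c : G)⁻¹ * g₁ with hy₂
  have hy₂N : y₂ ∈ nrm S := mul_mem (inv_mem (L.cen_le_nrm c.2)) hg₁N
  have hy₂F : y₂ ∉ F := fun h => hg₁F (by
    simpa [hy₂] using mul_mem (hcle c.2) h)
  have hy₂g : y₂ * g * y₂⁻¹ = g ^ e := by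
    calc y₂ * g * y₂⁻¹ = (c : G)⁻¹ * (g₁ * g * g₁⁻¹) * c := by rw [hy₂]; group
      _ = g ^ e := by rw [← hc'']; group
  have hy₂q := hout y₂ hy₂N hy₂F
  set y := y₂ ^ (q + 1) with hy
  have hyq : y ^ q = 1 := L.pow_succ_q hy₂q
  have hyN : y ∈ nrm S := pow_mem hy₂N _
  have hyF : y ∉ F := by
    intro h
    refine hy₂F ?_
    have hS : y₂ ^ q ∈ (S : Subgroup G) := mem_syl_of_sq (pow_mem hy₂N q)
      (by rw [← pow_add, ← two_mul, hy₂q])
    have h2 : y * y₂ ^ q = y₂ := by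
      rw [hy, ← pow_add, show q + 1 + q = 2 * q + 1 by ring, pow_succ, hy₂q, one_mul]
    exact h2 ▸ mul_mem h (hcle (L.sylow_le_cen hS))
  have hygpow : ∀ j : ℕ, y₂ ^ j * g * (y₂ ^ j)⁻¹ = g ^ (e ^ j) := by
    intro j
    induction j with
    | zero => simp
    | succ j ih =>
      rw [pow_succ', show y₂ * y₂ ^ j * g * (y₂ * y₂ ^ j)⁻¹ =
        y₂ * (y₂ ^ j * g * (y₂ ^ j)⁻¹) * y₂⁻¹ by group, ih, ← conj_pow, hy₂g, ← pow_mul,
        ← pow_succ']
  -- the module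
  set Z := (Subgroup.center W).map W.subtype with hZdef
  have hZW : Z ≤ W := Subgroup.map_subtype_le _
  have hZN : nrm S ≤ Subgroup.normalizer (Z : Set G) :=
    SignalizerCoprime.le_normalizer_of_forall fun p hp z hz => by
      obtain ⟨w, hw, rfl⟩ := hz
      refine ⟨⟨p * w * p⁻¹, L.norm p hp w w.2⟩, Subgroup.mem_center_iff.2 fun v => ?_, rfl⟩
      have hv : p⁻¹ * v * p ∈ W := by
        have := L.norm p⁻¹ (inv_mem hp) v v.2; rwa [inv_inv] at this
      have h1 : p⁻¹ * v * p * w = w * (p⁻¹ * v * p) :=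
        congrArg Subtype.val (Subgroup.mem_center_iff.1 hw ⟨_, hv⟩)
      apply Subtype.ext
      show (v : G) * (p * w * p⁻¹) = p * w * p⁻¹ * v
      calc (v : G) * (p * w * p⁻¹) = p * (p⁻¹ * v * p * w) * p⁻¹ := by group
        _ = p * (w * (p⁻¹ * v * p)) * p⁻¹ := by rw [h1]
        _ = _ := by group
  letI : CommGroup Z := { (inferInstance : Group Z) with
    mul_comm := by
      rintro ⟨_, a, ha, rfl⟩ ⟨_, b, hb, rfl⟩
      exact Subtype.ext (congrArg Subtype.val (Subgroup.mem_center_iff.1 ha b).symm :) }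
  let φ : nrm S →* MulAut Z := Z.normalizerMonoidHom.comp (Subgroup.inclusion hZN)
  have hφ : ∀ (p : nrm S) (z : Z), ((φ p z : Z) : G) = (p : G) * z * (p : G)⁻¹ := fun _ _ => rfl
  have hnormY : ∀ v : Z, ∏ i ∈ Finset.range q, (φ ⟨y, hyN⟩ ^ i) v = 1 := by
    intro v
    have hexp : ∀ i, ((v : G) * y) ^ i =
        ((∏ j ∈ Finset.range i, (φ ⟨y, hyN⟩ ^ j) v : Z) : G) * y ^ i := by
      intro i
      induction i with
      | zero => simp
      | succ i ih =>
        rw [pow_succ', ih]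
        have hstep : (∏ j ∈ Finset.range (i + 1), (φ ⟨y, hyN⟩ ^ j) v : Z) =
            v * φ ⟨y, hyN⟩ (∏ j ∈ Finset.range i, (φ ⟨y, hyN⟩ ^ j) v) := by
          rw [Finset.prod_range_succ', map_prod, pow_zero, MulAut.one_apply, mul_comm]
          exact congrArg (v * ·) (Finset.prod_congr rfl fun j _ => by
            rw [← MulAut.mul_apply, ← pow_succ'])
        rw [hstep, Subgroup.coe_mul, hφ, pow_succ' y]
        group
    have hvy : (v : G) * y ∈ nrm S := mul_mem (L.cen_le_nrm (L.w_le_cen (hZW v.2))) hyN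
    have hvyF : (v : G) * y ∉ F := fun h => hyF (by
      simpa using mul_mem (inv_mem (hcle (L.w_le_cen (hZW v.2)))) h)
    have h2 := hout _ hvy hvyF
    rw [mul_comm 2 q, pow_mul, hexp q, hyq, mul_one] at h2
    set P := ∏ j ∈ Finset.range q, (φ ⟨y, hyN⟩ ^ j) v
    exact eq_one_of_pow_two_pow L.odd_q
      (Subtype.ext (by simpa using L.qgrp _ (hZW P.2))) (k := 1) (Subtype.ext (by simpa using h2))
  have hfrob := frobenius_norm (a := φ ⟨g, hle hgF⟩) (b := φ ⟨y, hyN⟩) (r := r) L.h.prime.pos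
    hnormY ?_
  · obtain ⟨z, hz⟩ : ∃ z : Z, z ≠ 1 := by
      haveI : Nontrivial W := (Subgroup.nontrivial_iff_ne_bot W).2 hW
      have hWq : IsPGroup q W := fun w => ⟨1, Subtype.ext (by simpa using L.qgrp w w.2)⟩
      haveI := hWq.center_nontrivial
      obtain ⟨c, hc⟩ := exists_ne (1 : Subgroup.center W)
      exact ⟨⟨_, c, c.2, rfl⟩, fun e => hc (Subtype.ext (Subtype.ext (congrArg Subtype.val e :)))⟩
    refine hz (Subtype.ext ?_)
    have h1 : (z : G) ^ r = 1 := by simpa using congrArg Subtype.val (hfrob z)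
    have h2 : (z : G) ^ q = 1 := L.qgrp _ (hZW z.2)
    have h3 : (z : G) ^ r.gcd q = 1 := pow_gcd_eq_one.2 ⟨h1, h2⟩
    rwa [Nat.Coprime.gcd_eq_one ((Nat.coprime_primes hr L.h.prime).2 hrq), pow_one] at h3
  intro i hi hiq
  have hyiq : (y ^ i) ^ q = 1 := by rw [← pow_mul, mul_comm, pow_mul, hyq, one_pow]
  have hyC : y ∉ cen S := fun h => hyF (hcle h)
  have hyiC : y ^ i ∉ cen S := by
    intro h
    obtain ⟨t, -, ht⟩ := Nat.exists_mul_mod_eq_one_of_coprime
      (Nat.Coprime.symm ((L.h.prime.coprime_iff_not_dvd).2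
        (fun hd => absurd (Nat.le_of_dvd hi hd) (by omega)))) L.h.prime.one_lt
    have h1 : y ^ (i * t) = y := by rw [pow_eq_pow_mod _ hyq, ht, pow_one]
    exact hyC (h1 ▸ (pow_mul y i t).symm ▸ pow_mem h t)
  -- `y ^ i` maps `g` to a power of `g`
  obtain ⟨j, hj⟩ : ∃ j : ℕ, y ^ i * g * (y ^ i)⁻¹ = g ^ j :=
    ⟨e ^ ((q + 1) * i), by rw [hy, ← pow_mul, hygpow]⟩
  obtain ⟨l, hl⟩ : ∃ l : ℕ, (y ^ i)⁻¹ * g * y ^ i = g ^ l := by
    refine ⟨e ^ ((q + 1) * (i * (q - 1))), ?_⟩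
    have hinv : (y ^ i)⁻¹ = y ^ (i * (q - 1)) := by
      refine inv_eq_of_mul_eq_one_right ?_
      rw [← pow_add, show i + i * (q - 1) = q * i by
        obtain ⟨p, hp⟩ : ∃ p, q = p + 1 := ⟨q - 1, by have := L.h.prime.pos; omega⟩
        rw [hp, Nat.add_sub_cancel]; ring, pow_mul, hyq, one_pow]
    nth_rewrite 1 [hinv]
    rw [show y ^ i = ((y ^ i)⁻¹)⁻¹ from (inv_inv _).symm, hinv, hy, ← pow_mul, hygpow]
  set h := g ^ l * g⁻¹ with hh
  have hhg : Commute h g := ((Commute.refl g).pow_left l).mul_left ((Commute.refl g).inv_left)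
  have hhr : h ^ r = 1 := by
    rw [hh, (((Commute.refl g).pow_left l).inv_right).mul_pow, ← pow_mul, mul_comm, pow_mul, hgr,
      one_pow, inv_pow, hgr, inv_one, one_mul]
  have hh1 : h ≠ 1 := by
    intro e1
    rw [hh, mul_inv_eq_one] at e1
    rw [e1] at hl
    refine hgC (hqcomm _ (pow_mem hyN i) hyiC hyiq g hgF ?_)
    have h2 : y ^ i * g * (y ^ i)⁻¹ = g := by
      calc y ^ i * g * (y ^ i)⁻¹ = y ^ i * ((y ^ i)⁻¹ * g * y ^ i) * (y ^ i)⁻¹ := by rw [hl]
        _ = g := by group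
    rw [h2, mul_inv_cancel]
    exact one_mem _
  have hhN : h ∈ nrm S := mul_mem (pow_mem (hle hgF) l) (inv_mem (hle hgF))
  refine ⟨φ ⟨h, hhN⟩, ?_, ?_, ?_⟩
  · rw [← map_pow, show (⟨h, hhN⟩ : nrm S) ^ r = 1 from Subtype.ext hhr, map_one]
  · intro v hv
    by_contra hv1
    have hv' : h * (v : G) * h⁻¹ = v := congrArg Subtype.val hv
    have hho : orderOf h = r := orderOf_eq_prime hhr hh1
    rcases L.h.eq_one_of_comm (L.qgrp _ (hZW v.2)) (fun e1 => hv1 (Subtype.ext e1))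
      (hho ▸ fun hd' => hrq ((Nat.prime_dvd_prime_iff_eq L.h.prime hr).1 hd').symm)
      (mul_inv_eq_iff_eq_mul.1 hv').symm with e1 | e1
    · exact hh1 e1
    · exact hr2 ((Nat.prime_dvd_prime_iff_eq hr Nat.prime_two).1
        (hho ▸ orderOf_dvd_of_pow_eq_one (by rw [pow_two]; exact e1)))
  · intro k
    rw [← map_pow, ← map_pow, ← map_pow, ← map_inv, ← map_mul, ← map_mul, ← map_mul]
    refine congrArg φ (Subtype.ext ?_)
    show g ^ k * y ^ i * (g ^ k)⁻¹ = y ^ i * h ^ k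
    have h1 : (y ^ i)⁻¹ * g ^ k * y ^ i = (g ^ l) ^ k := by
      have := conj_pow (a := (y ^ i)⁻¹) (b := g) (i := k)
      rw [inv_inv, hl] at this
      exact this.symm
    rw [hh, (((Commute.refl g).pow_left l).inv_right).mul_pow, inv_pow, ← h1]
    group

end Loc

end Cfsg.Agent.TwoQ27
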