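import Mathlib
import Cfsg.Prelude.Def_LieExceptional
import Cfsg.Agent.Lib.TwoQ27LargeCount91
import Cfsg.Agent.Lib.TwoQ27LargeKill91
import Cfsg.Agent.Lib.FeitMain

/-!
# A nontrivial core centralised by the Sylow `2`-subgroup is impossible

`TwoQ.centralised_core_false`: if every `O(C(a))`, `a ∈ S#`, centralises `S` then all are trivial.
-/

set_option autoImplicit false
set_option linter.unusedSectionVars false
set_option linter.style.haveILetI false

namespace Cfsg.Agent.TwoQ27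

open Cfsg.Agent.SignalizerStrongEmb

universe u

variable {G : Type u} [Group G] [Finite G] {q : ℕ}

/-- Elements of order `q` of `C(S)` lie in `O(C(a))` when `C(a) ≤ N(S)`. -/
theorem TwoQ.mem_core_of_cen (h : TwoQ G q) {S : Sylow 2 G} {a : G} (ha : a ∈ (S : Subgroup G))
    (hn : Subgroup.centralizer ({a} : Set G) ≤ nrm S) {g : G} (hg : g ∈ cen S) (hgq : g ^ q = 1) :
    g ∈ Cfsg.centralizerPPrimeCore 2 a := by
  haveI := Fact.mk Nat.prime_two
  have hSC : (S : Subgroup G) ≤ cen S := fun _ hs =>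
    Subgroup.mem_centralizer_iff.2 fun _ ht => h.comm_of_mem S.isPGroup' ht hs
  let P : Sylow 2 (cen S) := S.subtype hSC
  have hP : Subgroup.normalizer ((P : Subgroup (cen S)) : Set (cen S)) ≤
      Subgroup.centralizer ((P : Subgroup (cen S)) : Set (cen S)) := fun x _ =>
    Subgroup.mem_centralizer_iff.2 fun s hs => Subtype.ext
      (Subgroup.mem_centralizer_iff.1 x.2 (s : G) hs)
  set τ := MonoidHom.transferSylow P hP with hτ
  have hker : ∀ x : cen S, Odd (orderOf x) → x ∈ τ.ker := by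
    intro x hx
    rw [MonoidHom.mem_ker]
    obtain ⟨k, hk⟩ := P.isPGroup' (τ x)
    refine orderOf_eq_one_iff.1 (Nat.eq_one_of_dvd_coprimes
      (Nat.Coprime.pow_left k hx.coprime_two_left) (orderOf_dvd_of_pow_eq_one hk)
      (orderOf_map_dvd τ x))
  have hodd : Odd (Nat.card τ.ker) :=
    Nat.odd_iff.2 (Nat.two_dvd_ne_zero.1 (MonoidHom.not_dvd_card_ker_transferSylow P hP))
  have hle : τ.ker.map (cen S).subtype ≤ Subgroup.centralizer ({a} : Set G) :=
    (Subgroup.map_subtype_le _).trans (fun x hx => Subgroup.mem_centralizer_singleton_iff.2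
      (Subgroup.mem_centralizer_iff.1 hx a ha).symm)
  refine SignalizerBasic.le_centralizerPPrimeCore hle
    (SignalizerCoprime.le_normalizer_of_forall fun n hn' x hx => ?_) ?_
    ⟨⟨g, hg⟩, hker _ ?_, rfl⟩
  · obtain ⟨y, hy, rfl⟩ := hx
    have hmem : n * (y : G) * n⁻¹ ∈ cen S := by
      refine Subgroup.mem_centralizer_iff.2 fun s hs => ?_
      have hs' : n⁻¹ * s * n ∈ (S : Subgroup G) := by
        simpa using (Subgroup.mem_normalizer_iff.1 (inv_mem (hn hn')) s).1 hs
      have h' := Subgroup.mem_centralizer_iff.1 y.2 _ hs'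
      calc s * (n * (y : G) * n⁻¹) = n * ((n⁻¹ * s * n) * (y : G)) * n⁻¹ := by group
        _ = n * ((y : G) * (n⁻¹ * s * n)) * n⁻¹ := by rw [h']
        _ = n * (y : G) * n⁻¹ * s := by group
    refine ⟨⟨_, hmem⟩, hker _ ?_, rfl⟩
    rw [Subgroup.orderOf_mk, orderOf_conj, Subgroup.orderOf_coe, ← Subgroup.orderOf_mk y hy]
    exact hodd.of_dvd_nat (orderOf_dvd_natCard _)
  · rw [Subgroup.card_map_of_injective (cen S).subtype_injective]
    exact MonoidHom.not_dvd_card_ker_transferSylow P hP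
  · rw [Subgroup.orderOf_mk]
    exact h.odd_q.of_dvd_nat (orderOf_dvd_of_pow_eq_one hgq)

variable [IsSimpleGroup G]

theorem TwoQ.nrm_ne_top (h : TwoQ G q) (hna : ∃ a b : G, a * b ≠ b * a) (S : Sylow 2 G) :
    nrm S ≠ ⊤ := by
  haveI := Fact.mk Nat.prime_two
  intro e
  rcases (Subgroup.normalizer_eq_top_iff.1 e).eq_bot_or_eq_top with e' | e'
  · refine not_isSolvable_of_simple hna (isSolvable_of_normal_two_complement ⟨S, ⊤, inferInstance,
      ?_⟩)
    rw [e']
    exact Subgroup.isComplement'_top_bot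
  · obtain ⟨a, b, hab⟩ := hna
    exact hab (h.comm_of_mem S.isPGroup' (e' ▸ Subgroup.mem_top a) (e' ▸ Subgroup.mem_top b))

/-- Zassenhaus' configuration is excluded by Feit's inequality. -/
theorem Loc.false_of_free {S : Sylow 2 G} {W : Subgroup G} (L : Loc q S W) (hW : W ≠ ⊥)
    (hfree : ∀ a ∈ (S : Subgroup G), a ≠ 1 → ∀ g, Commute g a → g ∈ cen S) : False := by
  classical
  obtain ⟨f, K⟩ := L.free_frame hW hfree
  obtain ⟨u, huN, hu⟩ := exists_involution_not_mem L.se
  have huu := involution_mul_self hu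
  obtain ⟨x, hx, hux⟩ := K.exists_inverted hu huN
  set c₀ : G ⧸ nrm S := ((1 : G) : G ⧸ nrm S) with hc₀
  have hnum : ∀ {z : G}, z ∉ nrm S → c₀ ≠ ((z : G) : G ⧸ nrm S) := fun hz h => hz (by
    rw [QuotientGroup.eq] at h
    simpa using h)
  -- two-point stabilisers
  set D := twoStab S u with hD
  obtain ⟨a, ha, ha1⟩ := L.exists_mem_ne_one
  have hDC : ∀ d ∈ D, d ∈ cen S → d = 1 := fun d hd hdC =>
    K.disj u hu huN d hdC ((mem_twoStab hu).1 hd).2
  have hcardD : Nat.card D = Nat.card S - 1 := by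
    have h := L.card_transitive (X := D) inf_le_left (L.trans_twoStab hu huN) ha ha1
    rwa [show (D ⊓ Subgroup.centralizer ({a} : Set G) : Subgroup G) = ⊥ from
      (Subgroup.eq_bot_iff_forall _).2 fun d hd => hDC d hd.1 (hfree a ha ha1 d
        (Subgroup.mem_centralizer_singleton_iff.1 hd.2)), Subgroup.card_bot, mul_one] at h
  have hfixu : ∀ g : G, g • c₀ = c₀ → g • ((u : G) : G ⧸ nrm S) = (u : G ⧸ nrm S) → g ∈ D := by
    intro g h1 h2
    have h2' : ((g * u : G) : G ⧸ nrm S) = (u : G ⧸ nrm S) := h2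
    rw [QuotientGroup.eq] at h2'
    refine (mem_twoStab hu).2 ⟨smul_one_eq_iff.1 h1, ?_⟩
    have := inv_mem h2'
    rwa [mul_inv_rev, inv_inv, involution_inv hu, ← mul_assoc] at this
  have hDfix : ∀ g ∈ D, g • c₀ = c₀ ∧ g • ((u : G) : G ⧸ nrm S) = (u : G ⧸ nrm S) := by
    intro g hg
    obtain ⟨h1, h2⟩ := (mem_twoStab hu).1 hg
    refine ⟨smul_one_eq_iff.2 h1, ?_⟩
    show ((g * u : G) : G ⧸ nrm S) = _
    rw [QuotientGroup.eq]
    have h2' : ((g * u)⁻¹ * u) = (u * g * u)⁻¹ := by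
      rw [mul_inv_rev, mul_inv_rev, mul_inv_rev, involution_inv hu]; group
    rw [h2']
    exact inv_mem h2
  -- move any pair of cosets to `(N, uN)`
  have hmove : ∀ s t : G ⧸ nrm S, s ≠ t →
      ∃ g : G, g • s = c₀ ∧ g • t = ((u : G) : G ⧸ nrm S) := by
    intro s t hst
    induction s using QuotientGroup.induction_on with
    | H y =>
      induction t using QuotientGroup.induction_on with
      | H z =>
        have hz : y⁻¹ * z ∉ nrm S := fun h => hst (QuotientGroup.eq.2 h)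
        obtain ⟨c, hc, hcz⟩ := K.exists_cen_coset huN hz
        refine ⟨c⁻¹ * y⁻¹, ?_, ?_⟩
        · show ((c⁻¹ * y⁻¹ * y : G) : G ⧸ nrm S) = _
          rw [inv_mul_cancel_right, hc₀, QuotientGroup.eq, inv_inv, mul_one]
          exact L.cen_le_nrm hc
        · show ((c⁻¹ * y⁻¹ * z : G) : G ⧸ nrm S) = _
          rw [QuotientGroup.eq]
          have := inv_mem hcz
          rwa [show ((c * u)⁻¹ * (y⁻¹ * z))⁻¹ = (c⁻¹ * y⁻¹ * z)⁻¹ * u by group] at this
  have hZ : Cfsg.IsZassenhausGroup G (G ⧸ nrm S) := by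
    refine ⟨?_, ?_, ?_, ?_, ?_⟩
    · refine ⟨fun {g g'} h => ?_⟩
      have hk : g⁻¹ * g' ∈ (nrm S).normalCore := by
        rw [Subgroup.normalCore_eq_ker, MonoidHom.mem_ker]
        ext c
        show (g⁻¹ * g') • c = c
        rw [mul_smul, ← h c, inv_smul_smul]
      rcases (inferInstance : (nrm S).normalCore.Normal).eq_bot_or_eq_top with e | e
      · rw [e, Subgroup.mem_bot] at hk
        exact inv_mul_eq_one.1 hk
      · exact absurd (top_le_iff.1 (e ▸ (nrm S).normalCore_le)) L.ne_top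
    · rw [MulAction.is_two_pretransitive_iff]
      intro a b c d hab hcd
      obtain ⟨g, hga, hgb⟩ := hmove a b hab
      obtain ⟨g', hgc, hgd⟩ := hmove c d hcd
      exact ⟨g'⁻¹ * g, by rw [mul_smul, hga, inv_smul_eq_iff, hgc],
        by rw [mul_smul, hgb, inv_smul_eq_iff, hgd]⟩
    · intro g a b c hab hbc hac hga hgb hgc
      obtain ⟨k, hka, hkb⟩ := hmove a b hab
      have key : ∀ r : G ⧸ nrm S, g • r = r → (k * g * k⁻¹) • (k • r) = k • r := fun r hr => by
        rw [mul_smul, mul_smul, inv_smul_smul, hr]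
      have h1 := key a hga
      have h2 := key b hgb
      rw [hka] at h1
      rw [hkb] at h2
      have h3 := key c hgc
      set g' := k * g * k⁻¹ with hg'
      suffices g' = 1 by rwa [hg', conj_eq_one_iff] at this
      have hd : g' ∈ D := hfixu _ h1 h2
      obtain ⟨z, hz⟩ := QuotientGroup.mk_surjective (k • c)
      have hzN : z ∉ nrm S := fun h => hac (MulAction.injective k (show k • a = k • c by
        rw [hka, ← hz, hc₀, QuotientGroup.eq]; simpa using h))
      obtain ⟨w, hw, hwz⟩ := K.exists_cen_coset huN hzN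
      have hwu : ((w * u : G) : G ⧸ nrm S) = k • c := by rw [← hz]; exact QuotientGroup.eq.2 hwz
      rw [← hwu] at h3
      have hw1 : w ≠ 1 := fun e => hbc (MulAction.injective k (show k • b = k • c by
        rw [hkb, ← hwu, e, one_mul]))
      have hd' : w⁻¹ * g' * w ∈ D := by
        refine hfixu _ ?_ ?_
        · exact smul_one_eq_iff.2 (mul_mem (mul_mem (inv_mem (L.cen_le_nrm hw))
            ((mem_twoStab hu).1 hd).1) (L.cen_le_nrm hw))
        · have h3' : g' • (w • ((u : G) : G ⧸ nrm S)) = w • ((u : G) : G ⧸ nrm S) := h3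
          rw [mul_smul, mul_smul, h3', inv_smul_smul]
      have h5 : g'⁻¹ * (w⁻¹ * g' * w) ∈ cen S := by
        have h := L.conj_mem_cen (inv_mem ((mem_twoStab hu).1 hd).1) ((cen S).inv_mem hw)
        rw [inv_inv] at h
        have h' := mul_mem h hw
        rwa [show g'⁻¹ * w⁻¹ * g' * w = g'⁻¹ * (w⁻¹ * g' * w) by group] at h'
      have h6 := hDC _ (D.mul_mem (D.inv_mem hd) hd') h5
      rw [inv_mul_eq_one] at h6
      by_contra hne
      have hdC : g' ∉ cen S := fun hC => hne (hDC _ hd hC)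
      refine hw1 (K.eq_one_of_comm_cen ((mem_twoStab hu).1 hd).1 hdC hw ?_)
      show g' * w = w * g'
      calc g' * w = w * (w⁻¹ * g' * w) := by group
        _ = w * g' := by rw [← h6]
    · refine ⟨x, fun e => (K.coset_not_mem hx).2 (e ▸ one_mem _), c₀, _, hnum huN, ?_⟩
      exact hDfix x ((mem_twoStab hu).2 ⟨(K.coset_not_mem hx).1,
        hux ▸ inv_mem (K.coset_not_mem hx).1⟩)
    · intro M hM hMt
      rcases hM.eq_bot_or_eq_top with rfl | rfl
      · obtain ⟨⟨m, hm⟩, hmc⟩ := hMt.exists_smul_eq c₀ ((u : G) : G ⧸ nrm S)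
        rw [Subgroup.mem_bot] at hm
        subst hm
        exact absurd ((one_smul G c₀).symm.trans hmc) (hnum huN)
      · refine ⟨c₀, fun e => ?_⟩
        have hmem : (⟨a, Subgroup.mem_top a⟩ : (⊤ : Subgroup G)) ∈
            MulAction.stabilizer (⊤ : Subgroup G) c₀ :=
          smul_one_eq_iff.2 (L.le_nrm ha)
        exact ha1 (congrArg Subtype.val ((Subgroup.eq_bot_iff_forall _).1 e _ hmem))
  have hidx := K.index_eq
  have he : Nat.card (Zassenhaus.two G c₀ ((u : G) : G ⧸ nrm S)) = Nat.card S - 1 := by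
    rw [← hcardD]
    refine Nat.card_congr
      { toFun := fun g => ⟨g.1, hfixu g.1 g.2.1 g.2.2⟩
        invFun := fun d => ⟨d.1, (hDfix d.1 d.2).1, (hDfix d.1 d.2).2⟩
        left_inv := fun _ => rfl
        right_inv := fun _ => rfl }
  rcases Feit.feit_inequality (Nat.card G) rfl hZ (hnum huN) (Nat.card (cen S)) (Nat.card S - 1)
      (by rw [← hidx, Subgroup.index_eq_card]) he K.odd_pred (cen S)
      (fun c hc => smul_one_eq_iff.2 (L.cen_le_nrm hc)) rfl
      (fun c hc hc1 r hr => by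
        induction r using QuotientGroup.induction_on with
        | H g =>
          have hr' : ((c * g : G) : G ⧸ nrm S) = _ := hr
          rw [QuotientGroup.eq, mul_inv_rev] at hr'
          rw [hc₀, QuotientGroup.eq, mul_one]
          exact inv_mem (L.mem_of_conj_cen K.disj (inv_mem hc) (fun e => hc1 (inv_eq_one.1 e)) hr'))
    with hle | ⟨h2, -, -⟩
  · rw [L.card_cen] at hle
    haveI : Nontrivial W := (Subgroup.nontrivial_iff_ne_bot W).2 hW
    have hW3 : 3 ≤ Nat.card W := by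
      obtain ⟨w, hw⟩ := exists_ne (1 : W)
      haveI := Fact.mk L.h.prime
      have ho : orderOf w = q := orderOf_eq_prime (Subtype.ext (by simpa using L.qgrp w w.2)) hw
      have := Nat.le_of_dvd Nat.card_pos (ho ▸ orderOf_dvd_natCard w)
      have := L.h.prime.two_le
      have := L.h.ne_two
      omega
    have h3 := Nat.mul_le_mul_right (Nat.card S) hW3
    have := L.four
    omega
  · haveI : Nontrivial W := (Subgroup.nontrivial_iff_ne_bot W).2 hW
    obtain ⟨w, hw⟩ := exists_ne (1 : W)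
    obtain ⟨k, hk⟩ := h2 ⟨w, L.w_le_cen w.2⟩
    exact hw (Subtype.ext (eq_one_of_pow_two_pow' L.odd_q (L.qgrp w w.2)
      (by simpa using congrArg Subtype.val hk)))
where
  eq_one_of_pow_two_pow' {X : Type u} [Group X] {v : X} {q k : ℕ} (hq : Odd q) (hv : v ^ q = 1)
      (h : v ^ 2 ^ k = 1) : v = 1 := by
    have h' : v ^ q.gcd (2 ^ k) = 1 := pow_gcd_eq_one.2 ⟨hv, h⟩
    rwa [Nat.Coprime.gcd_eq_one (hq.coprime_two_right.pow_right k), pow_one] at h'

/-- The cores `O(C(a))` centralised by `S` are trivial. -/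
theorem TwoQ.centralised_core_false (h : TwoQ G q) (hna : ∃ a b : G, a * b ≠ b * a) (S : Sylow 2 G)
    (h4 : 4 ≤ Nat.card S)
    (hc : ∀ a ∈ (S : Subgroup G), a ≠ 1 →
      Cfsg.centralizerPPrimeCore 2 a ≤ Subgroup.centralizer ((S : Subgroup G) : Set G))
    (hne : ∃ a ∈ (S : Subgroup G), a ≠ 1 ∧ Cfsg.centralizerPPrimeCore 2 a ≠ ⊥) : False := by
  haveI := Fact.mk Nat.prime_two
  have hS2 := S.isPGroup'
  obtain ⟨a₀, ha₀, ha₀1, hW⟩ := hne
  set W := Cfsg.centralizerPPrimeCore 2 a₀ with hWdef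
  have hsq : ∀ s ∈ (S : Subgroup G), s * s = 1 := fun s hs => h.sq_of_mem hS2 hs
  have hsub : ∀ a ∈ (S : Subgroup G), a ≠ 1 → ∀ b ∈ (S : Subgroup G), b ≠ 1 →
      Cfsg.centralizerPPrimeCore 2 a ≤ Cfsg.centralizerPPrimeCore 2 b := fun a ha ha1 b hb hb1 x hx =>
    h.balance (hsq a ha) (hsq b hb) hb1 (h.comm_of_mem hS2 ha hb) ⟨hx,
      Subgroup.mem_centralizer_singleton_iff.2
        (Subgroup.mem_centralizer_iff.1 (hc a ha ha1 hx) b hb).symm⟩
  have heq : ∀ a ∈ (S : Subgroup G), a ≠ 1 → Cfsg.centralizerPPrimeCore 2 a = W := fun a ha ha1 =>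
    le_antisymm (hsub a ha ha1 a₀ ha₀ ha₀1) (hsub a₀ ha₀ ha₀1 a ha ha1)
  have hWodd : Odd (Nat.card W) := Nat.odd_iff.2 (Nat.two_dvd_ne_zero.1
    (SignalizerBasic.not_dvd_card_centralizerPPrimeCore 2 a₀))
  have hWC : W ≤ cen S := hc a₀ ha₀ ha₀1
  have hWq : ∀ w ∈ W, w ^ q = 1 := fun w hw =>
    h.pow_q_of_comm (hsq a₀ ha₀) ha₀1 (hWodd.of_dvd_nat (Subgroup.orderOf_dvd_natCard W hw))
      (Subgroup.mem_centralizer_iff.1 (hWC hw) a₀ ha₀)
  have hCM : ∀ a ∈ (S : Subgroup G), a ≠ 1 →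
      Subgroup.centralizer ({a} : Set G) ≤ Subgroup.normalizer (W : Set G) := fun a ha ha1 => by
    rw [← heq a ha ha1]
    exact SignalizerBasic.centralizer_le_normalizer_centralizerPPrimeCore 2 a
  have hel := h.elementary hS2
  -- `N(W) ≤ N(S)`
  have hMN : Subgroup.normalizer (W : Set G) ≤ nrm S := by
    set M := Subgroup.normalizer (W : Set G) with hM
    have hSM : (S : Subgroup G) ≤ M := fun s hs => hCM a₀ ha₀ ha₀1
      (Subgroup.mem_centralizer_singleton_iff.2 (h.comm_of_mem hS2 hs ha₀))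
    intro x hx
    obtain ⟨o, ho, n, -, hn, rfl⟩ :=
      h.exists_mul_normalizer_subgroup (h.isSolvable_normalizer hW hWodd) S hSM hx
    refine mul_mem ?_ hn
    set O := (Cfsg.pPrimeCore 2 M).map M.subtype with hO
    haveI := HallCore.pPrimeCore_normal 2 M
    have hOn : M ≤ Subgroup.normalizer (O : Set G) :=
      SignalizerCoprime.le_normalizer_of_forall fun m hm z hz => by
        obtain ⟨y, hy, rfl⟩ := hz
        exact ⟨⟨m, hm⟩ * y * ⟨m, hm⟩⁻¹,
          (inferInstance : (Cfsg.pPrimeCore 2 M).Normal).conj_mem y hy _, rfl⟩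
    have hO2 : ¬ 2 ∣ Nat.card O := fun hd =>
      HallCore.not_dvd_card_pPrimeCore 2 M (hd.trans (Subgroup.card_map_dvd _ _))
    have hle : O ≤ W := SignalizerCoprime.le_of_centralizers_le hel (by norm_num; exact h4)
      (hSM.trans hOn) hO2 fun v hv hv1 => by
        rw [← heq v hv hv1]
        refine SignalizerBasic.le_centralizerPPrimeCore inf_le_right ?_
          (fun hd => hO2 (hd.trans (Subgroup.card_dvd_of_le inf_le_left)))
        exact SignalizerCoprime.le_normalizer_of_forall fun c hc' z hz =>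
          ⟨SignalizerCoprime.mem_normalizer_conj (hOn (hCM v hv hv1 hc')) hz.1,
            SignalizerCoprime.mem_normalizer_conj
              ((Subgroup.le_normalizer : Subgroup.centralizer ({v} : Set G) ≤ _) hc') hz.2⟩
    exact SignalizerCoprime.centralizer_le_normalizer _ (hWC (hle ho))
  have hcent : ∀ a ∈ (S : Subgroup G), a ≠ 1 → Subgroup.centralizer ({a} : Set G) ≤ nrm S :=
    fun a ha ha1 => (hCM a ha ha1).trans hMN
  have hnorm : ∀ n ∈ nrm S, ∀ w ∈ W, n * w * n⁻¹ ∈ W := by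
    intro n hn w hw
    have hb : n * a₀ * n⁻¹ ∈ (S : Subgroup G) := (Subgroup.mem_normalizer_iff.1 hn a₀).1 ha₀
    have hb1 : n * a₀ * n⁻¹ ≠ 1 := fun e => ha₀1 (conj_eq_one_iff.1 e)
    set b := n * a₀ * n⁻¹ with hbdef
    rw [← heq b hb hb1]
    have hback : ∀ z ∈ Subgroup.centralizer ({b} : Set G),
        n⁻¹ * z * n ∈ Subgroup.centralizer ({a₀} : Set G) := by
      intro z hz
      rw [Subgroup.mem_centralizer_singleton_iff] at hz ⊢
      calc n⁻¹ * z * n * a₀ = n⁻¹ * (z * b) * n := by rw [hbdef]; group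
        _ = n⁻¹ * (b * z) * n := by rw [hz]
        _ = a₀ * (n⁻¹ * z * n) := by rw [hbdef]; group
    refine SignalizerBasic.le_centralizerPPrimeCore (M := W.map (MulAut.conj n).toMonoidHom) ?_ ?_ ?_
      ⟨w, hw, rfl⟩
    · rintro _ ⟨z, hz, rfl⟩
      have hz' : z * a₀ = a₀ * z := (Subgroup.mem_centralizer_iff.1 (hWC hz) a₀ ha₀).symm
      refine Subgroup.mem_centralizer_singleton_iff.2 ?_
      show n * z * n⁻¹ * b = b * (n * z * n⁻¹)
      calc n * z * n⁻¹ * b = n * (z * a₀) * n⁻¹ := by rw [hbdef]; group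
        _ = n * (a₀ * z) * n⁻¹ := by rw [hz']
        _ = _ := by rw [hbdef]; group
    · refine SignalizerCoprime.le_normalizer_of_forall fun z hz v hv => ?_
      obtain ⟨w', hw', rfl⟩ := hv
      refine ⟨n⁻¹ * z * n * w' * (n⁻¹ * z * n)⁻¹,
        SignalizerCoprime.mem_normalizer_conj (hCM a₀ ha₀ ha₀1 (hback z hz)) hw', ?_⟩
      show n * (n⁻¹ * z * n * w' * (n⁻¹ * z * n)⁻¹) * n⁻¹ = z * (n * w' * n⁻¹) * z⁻¹
      group
    · rw [Subgroup.card_map_of_injective (MulAut.conj n).injective]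
      exact Nat.two_dvd_ne_zero.2 (Nat.odd_iff.1 hWodd)
  have hwcent : ∀ w ∈ W, w ≠ 1 → Subgroup.centralizer ({w} : Set G) ≤ nrm S := by
    intro w hw hw1
    set X := Subgroup.centralizer ({w} : Set G) with hX
    have hSX : (S : Subgroup G) ≤ X := fun s hs => Subgroup.mem_centralizer_singleton_iff.2
      (Subgroup.mem_centralizer_iff.1 (hWC hw) s hs)
    intro x hx
    obtain ⟨o, ho, n, -, hn, rfl⟩ := h.exists_mul_normalizer_subgroup
      (h.isSolvable_centralizer hw1 (Or.inr (hWq w hw))) S hSX hx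
    refine mul_mem ?_ hn
    set O := (Cfsg.pPrimeCore 2 X).map X.subtype with hO
    haveI := HallCore.pPrimeCore_normal 2 X
    have hOn : X ≤ Subgroup.normalizer (O : Set G) :=
      SignalizerCoprime.le_normalizer_of_forall fun m hm z hz => by
        obtain ⟨y, hy, rfl⟩ := hz
        exact ⟨⟨m, hm⟩ * y * ⟨m, hm⟩⁻¹,
          (inferInstance : (Cfsg.pPrimeCore 2 X).Normal).conj_mem y hy _, rfl⟩
    have hO2 : ¬ 2 ∣ Nat.card O := fun hd =>
      HallCore.not_dvd_card_pPrimeCore 2 X (hd.trans (Subgroup.card_map_dvd _ _))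
    have hle : O ≤ W := SignalizerCoprime.le_of_centralizers_le hel (by norm_num; exact h4)
      (hSX.trans hOn) hO2 fun v hv hv1 z hz => by
        obtain ⟨hzO, hzv⟩ := Subgroup.mem_inf.1 hz
        have hzN := hcent v hv hv1 hzv
        have hzodd : Odd (orderOf z) := (Nat.odd_iff.2 (Nat.two_dvd_ne_zero.1 hO2)).of_dvd_nat
          (Subgroup.orderOf_dvd_natCard O hzO)
        have hzC : z ∈ cen S := Subgroup.mem_centralizer_iff.2 fun s hs => by
          have hs1 : s * z * s⁻¹ * z⁻¹ ∈ O := mul_mem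
            (SignalizerCoprime.mem_normalizer_conj (hOn (hSX hs)) hzO) (inv_mem hzO)
          have hs2 : s * z * s⁻¹ * z⁻¹ ∈ (S : Subgroup G) := by
            rw [mul_assoc, mul_assoc, ← mul_assoc z]
            exact mul_mem hs ((Subgroup.mem_normalizer_iff.1 hzN s⁻¹).1 (inv_mem hs))
          have h1 := SignalizerBasicAux_eq_one (hsq _ hs2) hO2 hs1
          rw [mul_inv_eq_one, mul_inv_eq_iff_eq_mul] at h1
          exact h1
        refine h.mem_core_of_cen ha₀ (hcent a₀ ha₀ ha₀1) hzC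
          (h.pow_q_of_comm (hsq v hv) hv1 hzodd (Subgroup.mem_centralizer_singleton_iff.1 hzv).symm)
    exact SignalizerCoprime.centralizer_le_normalizer _ (hWC (hle ho))
  have L : Loc q S W := ⟨h, h4, h.nrm_ne_top hna S, hcent,
    fun w hw s hs => Subgroup.mem_centralizer_iff.1 (hWC hw) s hs, hWq, hnorm,
    fun g hg hgq => h.mem_core_of_cen ha₀ (hcent a₀ ha₀ ha₀1) hg hgq, hwcent⟩
  exact L.false_of_free hW (L.free_of_ne_bot hW)
where
  SignalizerBasicAux_eq_one {X : Type u} [Group X] {z : X} {O : Subgroup X} (h2 : z * z = 1)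
      (hO : ¬ 2 ∣ Nat.card O) (hz : z ∈ O) : z = 1 := by
    have hd : orderOf z ∣ 2 := orderOf_dvd_of_pow_eq_one (by rw [pow_two, h2])
    rcases (Nat.dvd_prime Nat.prime_two).1 hd with e | e
    · exact orderOf_eq_one_iff.1 e
    · exact absurd (e ▸ Subgroup.orderOf_dvd_natCard O hz) hO

end Cfsg.Agent.TwoQ27
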