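import Mathlib
import Cfsg.Agent.Lib.TwoQ27LargeCount91
import Cfsg.Agent.Lib.TransferThompson

/-!
# A simple `2q` group has no strongly embedded `N(S)` with a trivial `W` and `|S| ≥ 8`

The count gives `|G : N(S)| = |S| + 1`, then `q = 3`, `|S| = 8` and `|G| = 1512`, which is impossible.
-/

set_option autoImplicit false
set_option linter.unusedSectionVars false
set_option linter.style.haveILetI false

namespace Cfsg.Agent.TwoQ27

open Cfsg.Agent.SignalizerStrongEmb

universe u

variable {G : Type u} [Group G] [Finite G]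

/-- No simple group of order `1512` has a subgroup `H` of index `9` as below. -/
theorem false_of_index_nine [IsSimpleGroup G] (hG : Nat.card G = 1512) (H : Subgroup G)
    (hH : Nat.card H = 168) {x : G} (hxH : x ∈ H) (hx3 : orderOf x = 3)
    (hreal : ∀ k ∈ H, k⁻¹ * x * k ≠ x ^ 2) : False := by
  classical
  haveI : Fact (Nat.Prime 3) := ⟨Nat.prime_three⟩
  have hidx : H.index = 9 := by
    have := H.index_mul_card
    rw [hH, hG] at this
    omega
  have hcore : H.normalCore = ⊥ := by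
    rcases (inferInstance : H.normalCore.Normal).eq_bot_or_eq_top with e | e
    · exact e
    · exfalso
      have : (H : Subgroup G) = ⊤ := top_le_iff.1 (e ▸ H.normalCore_le)
      rw [this, Subgroup.index_top] at hidx
      omega
  have hx1 : x ≠ 1 := fun e => by rw [e, orderOf_one] at hx3; omega
  obtain ⟨P, hP⟩ := (IsPGroup.of_card (p := 3) (n := 1)
    (by rw [Nat.card_zpowers, hx3, pow_one]) : IsPGroup 3 ↥(Subgroup.zpowers x)).exists_le_sylow
  have hxP : x ∈ P := hP (Subgroup.mem_zpowers x)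
  have hP27 : Nat.card ↥(P : Subgroup G) = 27 := by
    rw [P.card_eq_multiplicity, hG, show (1512 : ℕ) = 3 ^ 3 * 56 by norm_num,
      Nat.factorization_mul (by norm_num) (by norm_num), Nat.factorization_pow]
    simp [Nat.factorization_eq_zero_of_not_dvd (show ¬ 3 ∣ 56 by norm_num),
      Nat.prime_three.factorization_self]
  have hPH : ∀ y ∈ P, y ∈ H → y = 1 ∨ y = x ∨ y = x ^ 2 := by
    intro y hy hyH
    have hcard : Nat.card ↥((P : Subgroup G) ⊓ H : Subgroup G) ∣ 3 := by
      have h1 := Subgroup.card_dvd_of_le (inf_le_left : (P : Subgroup G) ⊓ H ≤ P)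
      have h2 := Subgroup.card_dvd_of_le (inf_le_right : (P : Subgroup G) ⊓ H ≤ H)
      rw [hP27] at h1
      rw [hH] at h2
      exact (Nat.dvd_gcd h1 h2).trans (dvd_of_eq (by decide +kernel))
    have hle : Subgroup.zpowers x ≤ (P : Subgroup G) ⊓ H := Subgroup.zpowers_le.2 ⟨hxP, hxH⟩
    have heq : Subgroup.zpowers x = (P : Subgroup G) ⊓ H := Subgroup.eq_of_le_of_card_ge hle
      (by rw [Nat.card_zpowers, hx3]; exact Nat.le_of_dvd (by norm_num) hcard)
    have hyx : y ∈ Subgroup.zpowers x := heq ▸ ⟨hy, hyH⟩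
    rw [mem_zpowers_iff_mem_range_orderOf, hx3] at hyx
    simp only [Finset.mem_image, Finset.mem_range] at hyx
    obtain ⟨n, hn, rfl⟩ := hyx
    interval_cases n <;> simp
  have htrans : ∀ g : G, ∃ p ∈ P, g⁻¹ * p ∈ H := by
    intro g
    set f : ↥(P : Subgroup G) ⧸ H.subgroupOf (P : Subgroup G) → G ⧸ H :=
      Quotient.map' Subtype.val fun a b hab => by
        rw [QuotientGroup.leftRel_apply] at hab ⊢
        exact hab with hf
    have hinj : Function.Injective f := by
      intro q r e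
      induction q using QuotientGroup.induction_on with
      | H a =>
        induction r using QuotientGroup.induction_on with
        | H b =>
          have e' : ((a : G) : G ⧸ H) = ((b : G) : G ⧸ H) := e
          rw [QuotientGroup.eq] at e' ⊢
          exact e'
    have hsub : H.subgroupOf (P : Subgroup G) ≤ Subgroup.zpowers ⟨x, hxP⟩ := by
      intro y hy
      rcases hPH y y.2 hy with e | e | e
      · exact (show y = 1 from Subtype.ext e) ▸ one_mem _
      · exact (show y = ⟨x, hxP⟩ from Subtype.ext e) ▸ Subgroup.mem_zpowers _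
      · exact (show y = (⟨x, hxP⟩ : ↥(P : Subgroup G)) ^ 2 from Subtype.ext e) ▸
          Subgroup.pow_mem _ (Subgroup.mem_zpowers _) 2
    have hc3 : Nat.card ↥(H.subgroupOf (P : Subgroup G)) ≤ 3 := by
      refine (Nat.le_of_dvd Nat.card_pos (Subgroup.card_dvd_of_le hsub)).trans ?_
      rw [Nat.card_zpowers, ← Subgroup.orderOf_coe, hx3]
    have hbij : Function.Bijective f := hinj.bijective_of_nat_card_le (by
      rw [← Subgroup.index_eq_card, hidx, ← Subgroup.index_eq_card]
      have := (H.subgroupOf (P : Subgroup G)).index_mul_card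
      rw [hP27] at this
      nlinarith)
    obtain ⟨q, hq⟩ := hbij.2 (g : G ⧸ H)
    induction q using QuotientGroup.induction_on with
    | H p => exact ⟨p, p.2, QuotientGroup.eq.1 hq.symm⟩
  have hxcore : ¬ ∀ p ∈ P, p⁻¹ * x * p ∈ H := by
    intro hall
    refine hx1 (Subgroup.mem_bot.1 (hcore ▸ fun g => ?_))
    obtain ⟨p, hp, hgp⟩ := htrans g⁻¹
    rw [inv_inv] at hgp
    have := H.mul_mem (H.mul_mem hgp (hall p hp)) (H.inv_mem hgp)
    rwa [show g * p * (p⁻¹ * x * p) * (g * p)⁻¹ = g * x * g⁻¹ by group] at this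
  have hxnotc : (⟨x, hxP⟩ : ↥(P : Subgroup G)) ∉ Subgroup.center ↥(P : Subgroup G) := by
    intro hc
    refine hxcore fun p hp => ?_
    have := congrArg Subtype.val (Subgroup.mem_center_iff.1 hc ⟨p, hp⟩)
    have e : p⁻¹ * x * p = x := by
      rw [mul_assoc, ← (show p * x = x * p from this), inv_mul_cancel_left]
    rw [e]; exact hxH
  set Z := Subgroup.center ↥(P : Subgroup G) with hZ
  have hncomm : ¬ ∀ a b : ↥(P : Subgroup G), a * b = b * a :=
    fun hc => hxnotc (Subgroup.mem_center_iff.2 fun y => hc y _)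
  have hZd : Nat.card ↥Z ∣ 3 ^ 3 := by
    have := Z.card_subgroup_dvd_card
    rwa [hP27] at this
  obtain ⟨i, hi, hZc⟩ := (Nat.dvd_prime_pow Nat.prime_three).1 hZd
  have hZ1 : i ≠ 0 := by
    intro e
    haveI : Nontrivial ↥(P : Subgroup G) :=
      Finite.one_lt_card_iff_nontrivial.1 (by rw [hP27]; norm_num)
    have := P.2.center_nontrivial
    have h2 := Finite.one_lt_card_iff_nontrivial.2 this
    rw [hZc, e] at h2
    simp at h2
  have hQcard : Nat.card (↥(P : Subgroup G) ⧸ Z) * 3 ^ i = 27 := by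
    rw [← Subgroup.index_eq_card, ← hZc, Subgroup.index_mul_card, hP27]
  have hcyc : ¬ IsCyclic (↥(P : Subgroup G) ⧸ Z) := by
    intro hcy
    haveI := (MonoidHom.isMulCommutative_of_isCyclic_of_ker_le_center (QuotientGroup.mk' Z)
      (by rw [QuotientGroup.ker_mk']))
    exact hncomm fun a b => mul_comm' a b
  have hi1 : i = 1 := by
    rcases (show i = 1 ∨ i = 2 ∨ i = 3 by omega) with e | e | e
    · exact e
    · exfalso
      rw [e] at hQcard
      exact hcyc (isCyclic_of_prime_card (p := 3) (by omega))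
    · exfalso
      rw [e] at hQcard
      haveI : Subsingleton (↥(P : Subgroup G) ⧸ Z) :=
        Finite.card_le_one_iff_subsingleton.1 (by omega)
      exact hcyc isCyclic_of_subsingleton
  subst hi1
  have h9 : Nat.card (↥(P : Subgroup G) ⧸ Z) = 3 ^ 2 := by omega
  haveI hab : IsMulCommutative (↥(P : Subgroup G) ⧸ Z) :=
    IsPGroup.isMulCommutative_of_card_eq_prime_sq h9
  set xb : ↥(P : Subgroup G) ⧸ Z :=
    ((⟨x, hxP⟩ : ↥(P : Subgroup G)) : ↥(P : Subgroup G) ⧸ Z) with hxb
  have hxb3 : orderOf xb = 3 := by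
    refine orderOf_eq_prime ?_ fun e => hxnotc ((QuotientGroup.eq_one_iff _).1 e)
    rw [hxb, ← QuotientGroup.mk_pow, show (⟨x, hxP⟩ : ↥(P : Subgroup G)) ^ 3 = 1 from
      Subtype.ext (show x ^ 3 = 1 by rw [← hx3]; exact pow_orderOf_eq_one x), QuotientGroup.mk_one]
  obtain ⟨a, ha⟩ : ∃ a, a ∉ Subgroup.zpowers xb := by
    by_contra hall
    push Not at hall
    exact hcyc ⟨⟨xb, fun a => hall a⟩⟩
  have ha3 : orderOf a = 3 := by
    have hd : orderOf a ∣ 3 ^ 2 := h9 ▸ orderOf_dvd_natCard a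
    obtain ⟨k, hk, hka⟩ := (Nat.dvd_prime_pow Nat.prime_three).1 hd
    interval_cases k
    · have ha1 : a = 1 := orderOf_eq_one_iff.1 (by simpa using hka)
      rw [ha1] at ha
      exact absurd (one_mem _) ha
    · simpa using hka
    · exfalso
      exact hcyc (isCyclic_of_orderOf_eq_card a (by rw [hka, h9]))
  haveI : (Subgroup.zpowers a).Normal := ⟨fun z hz g => by
    rwa [mul_comm' g z, mul_inv_cancel_right]⟩
  set Q := (Subgroup.zpowers a).comap (QuotientGroup.mk' Z) with hQ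
  haveI : Q.Normal := Subgroup.Normal.comap inferInstance _
  have hQi : Q.index = 3 := by
    rw [hQ, Subgroup.index_comap_of_surjective _ (QuotientGroup.mk'_surjective Z)]
    have := (Subgroup.zpowers a).index_mul_card
    rw [Nat.card_zpowers, ha3, h9] at this
    omega
  have hxQ : (⟨x, hxP⟩ : ↥(P : Subgroup G)) ∉ Q := by
    intro hx
    rw [hQ, Subgroup.mem_comap] at hx
    refine ha ?_
    have hle : Subgroup.zpowers xb ≤ Subgroup.zpowers a := Subgroup.zpowers_le.2 hx
    rw [Subgroup.eq_of_le_of_card_ge hle (by rw [Nat.card_zpowers, Nat.card_zpowers, ha3, hxb3])]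
    exact Subgroup.mem_zpowers a
  obtain ⟨M, hM, hMi, hxM⟩ := TransferThompson.exists_normal_index P Q hQi hx3 hxP hxQ (by
    intro g hg
    obtain ⟨p, hp, hgp⟩ := htrans g⁻¹
    rw [inv_inv] at hgp
    set k := g * p with hk
    have hw : p⁻¹ * (g⁻¹ * x * g) * p = k⁻¹ * x * k := by rw [hk]; group
    have hmem : k⁻¹ * x * k ∈ P :=
      hw ▸ mul_mem (mul_mem (inv_mem hp) hg) hp
    have hmemH : k⁻¹ * x * k ∈ H := H.mul_mem (H.mul_mem (H.inv_mem hgp) hxH) hgp
    rcases hPH _ hmem hmemH with e | e | e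
    · exact absurd (by
        calc x = k * (k⁻¹ * x * k) * k⁻¹ := by group
          _ = 1 := by rw [e]; group) hx1
    · rw [hQ, Subgroup.mem_comap]
      have e1 : (⟨g⁻¹ * x * g, hg⟩ : ↥(P : Subgroup G)) =
          ⟨p, hp⟩ * ⟨x, hxP⟩ * (⟨p, hp⟩)⁻¹ := Subtype.ext (by
        show g⁻¹ * x * g = p * x * p⁻¹
        calc g⁻¹ * x * g = p * (k⁻¹ * x * k) * p⁻¹ := by rw [hk]; group
          _ = _ := by rw [e])
      have e2 : QuotientGroup.mk' Z
          ((⟨x, hxP⟩ : ↥(P : Subgroup G))⁻¹ * ⟨g⁻¹ * x * g, hg⟩) = 1 := by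
        rw [e1]
        simp only [map_mul, map_inv]
        rw [mul_comm' (QuotientGroup.mk' Z ⟨p, hp⟩), mul_inv_cancel_right, inv_mul_cancel]
      rw [e2]; exact one_mem _
    · exact absurd e (hreal k hgp))
  rcases hM.eq_bot_or_eq_top with e | e
  · rw [e, Subgroup.index_bot, hG] at hMi
    omega
  · exact hxM (e ▸ Subgroup.mem_top x)

/-- Three additive generators. -/
theorem card_le_eight {M : Type*} [CommGroup M] [Finite M] (hsq : ∀ a : M, a * a = 1)
    (k : M →* M) (s : M) (hk : ∃ e₀ e₁ e₂ : Fin 2,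
      k (k (k s)) = s ^ (e₀ : ℕ) * k s ^ (e₁ : ℕ) * k (k s) ^ (e₂ : ℕ))
    (hgen : ∀ z : M, z ≠ 1 → ∃ i : ℕ, k^[i] s = z) : Nat.card M ≤ 8 := by
  obtain ⟨e₀, e₁, e₂, hk⟩ := hk
  let m : Fin 2 × Fin 2 × Fin 2 → M := fun p =>
    s ^ (p.1 : ℕ) * k s ^ (p.2.1 : ℕ) * k (k s) ^ (p.2.2 : ℕ)
  have hadd : ∀ (a : M) (i j : Fin 2), a ^ (i : ℕ) * a ^ (j : ℕ) = a ^ ((i + j : Fin 2) : ℕ) := by
    intro a i j
    fin_cases i <;> fin_cases j <;> simp [hsq]
  have hmul : ∀ p p', m p * m p' = m (p + p') := by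
    intro p p'
    simp only [m, Prod.fst_add, Prod.snd_add, ← hadd]
    simp only [mul_comm, mul_left_comm, mul_assoc]
  let H : Subgroup M :=
    { carrier := Set.range m
      one_mem' := ⟨0, by simp [m]⟩
      mul_mem' := by rintro _ _ ⟨p, rfl⟩ ⟨p', rfl⟩; exact ⟨p + p', (hmul p p').symm⟩
      inv_mem' := by
        rintro _ ⟨p, rfl⟩
        exact ⟨p, (inv_eq_of_mul_eq_one_right (hsq _)).symm⟩ }
  have hinv : ∀ z ∈ H, k z ∈ H := by
    rintro _ ⟨p, rfl⟩
    show k (s ^ (p.1 : ℕ) * k s ^ (p.2.1 : ℕ) * k (k s) ^ (p.2.2 : ℕ)) ∈ H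
    rw [map_mul, map_mul, map_pow, map_pow, map_pow, hk]
    exact mul_mem (mul_mem (pow_mem (show k s ∈ H from ⟨(0, 1, 0), by simp [m]⟩) _)
      (pow_mem (show k (k s) ∈ H from ⟨(0, 0, 1), by simp [m]⟩) _))
      (pow_mem (show _ ∈ H from ⟨(e₀, e₁, e₂), rfl⟩) _)
  have htop : ∀ z : M, z ∈ H := by
    intro z
    by_cases hz : z = 1
    · rw [hz]; exact one_mem H
    obtain ⟨i, rfl⟩ := hgen z hz
    induction i with
    | zero => exact ⟨(1, 0, 0), by simp [m]⟩
    | succ i ih =>
      rw [Function.iterate_succ_apply']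
      by_cases hi : k^[i] s = 1
      · rw [hi, map_one]; exact one_mem H
      · exact hinv _ (ih hi)
  have h := Nat.card_le_card_of_surjective m htop
  simpa using h

/-- The endomorphism identity of a cubic Frobenius group. -/
theorem card_le_eight_of_cubic {M : Type*} [CommGroup M] [Finite M] (hsq : ∀ a : M, a * a = 1)
    (k Y : MulAut M) (s₀ : M) (e : ℕ) (hYk : ∀ i : ℕ, Y * k ^ i * Y⁻¹ = k ^ (e * i))
    (he3 : k ^ (e * (e * e)) = k) (hYs : Y s₀ = s₀)
    (hfixY : ∀ z : M, Y z = z → z = 1 ∨ z = s₀)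
    (hgenS : ∀ z : M, z ≠ 1 → ∃ i : ℕ, (k ^ i) s₀ = z)
    (hE3 : ∀ z, (k ^ (1 + e + e * e)) z = z) : Nat.card M ≤ 8 := by
  let E1 : M →* M :=
    (k ^ 1).toMonoidHom * (k ^ e).toMonoidHom * (k ^ (e * e)).toMonoidHom
  let E2 : M →* M :=
    (k ^ (1 + e)).toMonoidHom * (k ^ (e + e * e)).toMonoidHom * (k ^ (e * e + 1)).toMonoidHom
  have hkk : ∀ i j z, (k ^ i) ((k ^ j) z) = (k ^ (i + j)) z := fun i j z => by
    rw [pow_add, MulAut.mul_apply]
  have hYk' : ∀ i z, Y ((k ^ i) z) = (k ^ (e * i)) (Y z) := fun i z => by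
    rw [← hYk i]; simp
  have he3' : ∀ z, (k ^ (e * (e * e))) z = (k ^ 1) z := fun z => by rw [he3, pow_one]
  -- an endomorphism commuting with `k` and fixed by `Y` at `s`
  have hE : ∀ E : M →* M, (∀ i z, E ((k ^ i) z) = (k ^ i) (E z)) →
      Y (E s₀) = E s₀ → ∃ d : Fin 2, ∀ z, E z = z ^ (d : ℕ) := by
    intro E hEk hEY
    rcases hfixY _ hEY with h | h
    · refine ⟨0, fun z => ?_⟩
      by_cases hz : z = 1
      · simp [hz]
      obtain ⟨i, rfl⟩ := hgenS z hz
      rw [hEk, h, map_one]; simp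
    · refine ⟨1, fun z => ?_⟩
      by_cases hz : z = 1
      · simp [hz]
      obtain ⟨i, rfl⟩ := hgenS z hz
      rw [hEk, h]; simp
  obtain ⟨d1, hd1⟩ := hE E1 (fun i z => by
    simp only [E1, MonoidHom.mul_apply, MulEquiv.coe_toMonoidHom, map_mul, hkk, add_comm i])
    (by
    simp only [E1, MonoidHom.mul_apply, MulEquiv.coe_toMonoidHom, map_mul, hYk', hYs, he3',
      mul_one]
    simp only [mul_comm, mul_left_comm, mul_assoc])
  obtain ⟨d2, hd2⟩ := hE E2 (fun i z => by
    simp only [E2, MonoidHom.mul_apply, MulEquiv.coe_toMonoidHom, map_mul, hkk, add_comm i])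
    (by
    have hs1' : ∀ z, (k ^ (e * e + e * (e * e))) z = (k ^ (e * e + 1)) z := fun z => by
      rw [← hkk, he3', hkk]
    have hs2' : ∀ z, (k ^ (e * (e * e) + e)) z = (k ^ (1 + e)) z := fun z => by
      rw [add_comm, ← hkk, he3', hkk, add_comm]
    simp only [E2, MonoidHom.mul_apply, MulEquiv.coe_toMonoidHom, map_mul, hYk', hYs, mul_add,
      mul_one, hs1', hs2']
    rw [mul_comm, ← mul_assoc])
  have hmain : k (k (k s₀)) = s₀ * E2 (k s₀) * E1 (k (k s₀)) := by
    have e1 : k (k (k s₀)) = (k ^ 3) s₀ := by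
      rw [show (3 : ℕ) = 1 + 1 + 1 from rfl, pow_add, pow_add, pow_one]; rfl
    have e2 : k (k s₀) = (k ^ 2) s₀ := by rw [pow_two]; rfl
    have e3 : k s₀ = (k ^ 1) s₀ := by rw [pow_one]
    rw [e1, e2]; nth_rewrite 1 [e3]
    simp only [E1, E2, MonoidHom.mul_apply, MulEquiv.coe_toMonoidHom, hkk]
    rw [show 1 + 2 = 3 from rfl, show 1 + e + 1 = e + 2 by ring,
      show e + e * e + 1 = 1 + e + e * e by ring, show e * e + 1 + 1 = e * e + 2 by ring, hE3]
    generalize (k ^ 3) s₀ = A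
    generalize (k ^ (e + 2)) s₀ = B
    generalize (k ^ (e * e + 2)) s₀ = C
    calc A = A * (s₀ * s₀) * (B * B) * (C * C) := by rw [hsq, hsq, hsq, mul_one, mul_one, mul_one]
      _ = _ := by simp only [mul_comm, mul_left_comm, mul_assoc]
  rw [hd1, hd2] at hmain
  have h := card_le_eight hsq k.toMonoidHom s₀
    ⟨1, d2, d1, by simpa using hmain⟩ (fun z hz => by
      obtain ⟨i, hi⟩ := hgenS z hz
      refine ⟨i, ?_⟩
      rw [← hi]
      clear hi
      induction i with
      | zero => rfl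
      | succ i ih =>
        rw [Function.iterate_succ_apply', ih, pow_succ']
        rfl)
  exact h

namespace Loc

variable {q : ℕ} {S : Sylow 2 G}

/-- The exceptional configuration. -/
theorem false_of_bot [IsSimpleGroup G] (L : Loc q S (⊥ : Subgroup G)) (h8 : 8 ≤ Nat.card S)
    (hst : ∃ a ∈ (S : Subgroup G), a ≠ 1 ∧ ∃ g, Commute g a ∧ g ∉ cen S) : False := by
  classical
  haveI := Fact.mk L.h.prime
  obtain ⟨F, f, hle, hcle, hnorm, hcardF, hcardN, hco, hfF, hfpow, hgen, hinj, hout, hqcomm,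
    hfixed⟩ := L.stab_main hst
  have hCS : ∀ c ∈ cen S, c ∈ (S : Subgroup G) := by
    intro c hc
    obtain ⟨h1, h2, h3⟩ := L.cen_split hc
    rw [Subgroup.mem_bot.1 h1, one_mul] at h3
    rw [h3]; exact h2
  have hdisj : ∀ u : G, orderOf u = 2 → u ∉ nrm S → ∀ d ∈ cen S, u * d * u ∈ nrm S → d = 1 := by
    intro u hu huN d hd hdu
    by_contra hd1
    refine huN (mem_of_conj_mem L.se (L.ord_of_mem (hCS d hd) hd1) (L.le_nrm (hCS d hd)) ?_)
    rwa [involution_inv hu]
  have K : Frame q S ⊥ F f q := ⟨L, hle, hcle, hnorm, hcardF, hcardN, Or.inr rfl, hco, hfF, hfpow,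
    hgen, hinj, hdisj⟩
  set n := Nat.card S with hn
  have hcC : Nat.card (cen S) = n := by rw [L.card_cen, Subgroup.card_bot, one_mul]
  have hidx := K.index_eq
  rw [hcC] at hidx
  have hF := K.card_eq
  rw [hcC, ← hn] at hF
  obtain ⟨u, huN, hu⟩ := exists_involution_not_mem L.se
  have huu := involution_mul_self hu
  set D := twoStab S u with hD
  have hDC : ∀ d ∈ D, d ∈ cen S → d = 1 := fun d hd hdC =>
    hdisj u hu huN d hdC ((mem_twoStab hu).1 hd).2
  -- `|D| = q (|S| - 1)`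
  have hcardD : Nat.card D = (n - 1) * q := by
    let m : D × cen S → nrm S := fun p =>
      ⟨(p.2 : G) * p.1, mul_mem (L.cen_le_nrm p.2.2) ((mem_twoStab hu).1 p.1.2).1⟩
    have hm : Function.Bijective m := by
      refine ⟨?_, ?_⟩
      · rintro ⟨⟨d, hd⟩, ⟨c, hc⟩⟩ ⟨⟨d', hd'⟩, ⟨c', hc'⟩⟩ he
        have he' : c * d = c' * d' := congrArg Subtype.val he
        have h1 : d * d'⁻¹ = c⁻¹ * c' := by
          rw [mul_inv_eq_iff_eq_mul, mul_assoc, ← he', inv_mul_cancel_left]
        have h2 := hDC _ (D.mul_mem hd (D.inv_mem hd'))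
          (h1 ▸ (cen S).mul_mem ((cen S).inv_mem hc) hc')
        have hdd : d = d' := mul_inv_eq_one.1 h2
        subst hdd
        have hcc : c = c' := mul_right_cancel he'
        subst hcc
        rfl
      · rintro ⟨z, hz⟩
        have hzu : z * u ∉ nrm S := fun h => huN (by simpa using mul_mem (inv_mem hz) h)
        obtain ⟨c, hc, hcz⟩ := K.exists_cen_coset huN hzu
        refine ⟨(⟨c⁻¹ * z, (mem_twoStab hu).2 ⟨mul_mem (inv_mem (L.cen_le_nrm hc)) hz, ?_⟩⟩,
          ⟨c, hc⟩), Subtype.ext (mul_inv_cancel_left c z)⟩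
        rwa [mul_inv_rev, involution_inv hu,
          show u * c⁻¹ * (z * u) = u * (c⁻¹ * z) * u by group] at hcz
    have h := Nat.card_congr (Equiv.ofBijective m hm)
    rw [Nat.card_prod, hcardN, hF, hcC] at h
    refine Nat.eq_of_mul_eq_mul_right (show 0 < n by omega) (h.trans ?_)
    ring
  -- the fixed element `y`
  have hB : Nat.card (D ⊓ Subgroup.centralizer ({u} : Set G) : Subgroup G) = q := by
    have h := card_inverted_mul huu (L.odd_twoStab hu huN) (fun d hd => Loc.conj_twoStab hu hd)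
    rw [L.card_inverted_twoStab hu huN, hcardD] at h
    exact (Nat.eq_of_mul_eq_mul_left (show 0 < n - 1 by omega) h).symm
  obtain ⟨⟨y, hy⟩, hyo⟩ := exists_prime_orderOf_dvd_card'
    (G := (D ⊓ Subgroup.centralizer ({u} : Set G) : Subgroup G)) q (by rw [hB])
  rw [Subgroup.orderOf_mk] at hyo
  obtain ⟨hyD, hyu⟩ := Subgroup.mem_inf.1 hy
  have hyq : y ^ q = 1 := hyo ▸ pow_orderOf_eq_one y
  have hy1 : y ≠ 1 := fun e => by rw [e, orderOf_one] at hyo; exact L.h.prime.ne_one hyo.symm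
  have hyN : y ∈ nrm S := ((mem_twoStab hu).1 hyD).1
  have hyu' : Commute y u := Subgroup.mem_centralizer_singleton_iff.1 hyu
  have hyC : y ∉ cen S := fun h => hy1 (hDC y hyD h)
  have hyF : y ∉ F := fun h => hy1 (K.eq_one_of_pows
    (by rw [mul_comm 2 q, pow_mul, hyq, one_pow]) (K.pow_eq_one h hyC))
  obtain ⟨s, hs, hs1, hys, hsuniq⟩ := hfixed y hyN hyC hyq
  have hss := L.sq hs
  -- `v = s u` has order `q` and moves `y`'s fixed points
  have hs2 := L.ord_of_mem hs hs1
  have hvN : s * u ∉ nrm S := fun h => huN (by simpa using mul_mem (inv_mem (L.le_nrm hs)) h)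
  have hvodd := odd_orderOf_mul L.se hs2 (L.le_nrm hs) hu huN
  have hvy : Commute y (s * u) := hys.mul_right hyu'
  have hvq : (s * u) ^ q = 1 := by
    by_cases hd : q ∣ orderOf (s * u)
    · rcases L.h.qdvd _ hd with e | e
      · exact e ▸ pow_orderOf_eq_one _
      · exact absurd hvodd (by rw [e]; exact Nat.not_odd_iff_even.2 (even_two_mul q))
    · rcases L.h.eq_one_of_comm hyq hy1 hd hvy with e | e
      · exact absurd (e ▸ one_mem (nrm S)) hvN
      · have h1 : orderOf (s * u) ∣ 2 := orderOf_dvd_of_pow_eq_one (by rw [pow_two, e])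
        have h2 := Nat.eq_one_of_dvd_coprimes hvodd.coprime_two_left h1 dvd_rfl
        exact absurd (orderOf_eq_one_iff.1 h2 ▸ one_mem (nrm S)) hvN
  -- the fixed points of `y`
  have hyfix : ∀ g : G, g⁻¹ * y * g ∈ nrm S →
      g ∈ nrm S ∨ u⁻¹ * g ∈ nrm S ∨ (s * u)⁻¹ * g ∈ nrm S := by
    intro g hg
    by_cases hgN : g ∈ nrm S
    · exact Or.inl hgN
    right
    obtain ⟨c, hc, hcg⟩ := K.exists_cen_coset huN hgN
    have h1 : u * (c⁻¹ * y * c) * u ∈ nrm S := by
      have h := mul_mem (mul_mem hcg hg) (inv_mem hcg)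
      rwa [show (c * u)⁻¹ * g * (g⁻¹ * y * g) * ((c * u)⁻¹ * g)⁻¹ = u⁻¹ * (c⁻¹ * y * c) * u by group,
        involution_inv hu] at h
    have h2 : c⁻¹ * y * c ∈ D := (mem_twoStab hu).2
      ⟨mul_mem (mul_mem (inv_mem (L.cen_le_nrm hc)) hyN) (L.cen_le_nrm hc), h1⟩
    have h3 : y⁻¹ * (c⁻¹ * y * c) ∈ cen S := by
      have h := L.conj_mem_cen (inv_mem hyN) ((cen S).inv_mem hc)
      rw [inv_inv] at h
      have h' := mul_mem h hc
      rwa [show y⁻¹ * c⁻¹ * y * c = y⁻¹ * (c⁻¹ * y * c) by group] at h'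
    have h4 := hDC _ (D.mul_mem (D.inv_mem hyD) h2) h3
    rw [inv_mul_eq_one] at h4
    have h5 : Commute y c := by
      show y * c = c * y
      calc y * c = c * (c⁻¹ * y * c) := by group
        _ = c * y := by rw [← h4]
    by_cases hc1 : c = 1
    · rw [hc1, one_mul] at hcg; exact Or.inl hcg
    · rw [hsuniq c (hCS c hc) hc1 h5] at hcg; exact Or.inr hcg
  have hq3 : q = 3 := by
    set v := s * u with hv
    let c : Fin q → G ⧸ nrm S := fun i => ((v ^ (i : ℕ) : G) : G ⧸ nrm S)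
    have hinjc : Function.Injective c := by
      have hkey : ∀ d, 0 < d → d < q → v ^ d ∉ nrm S := by
        intro d hd0 hdq h
        obtain ⟨t, -, ht⟩ := Nat.exists_mul_mod_eq_one_of_coprime
          (Nat.Coprime.symm ((L.h.prime.coprime_iff_not_dvd).2
            (fun hd' => absurd (Nat.le_of_dvd hd0 hd') (by omega)))) L.h.prime.one_lt
        have h' := pow_mem h t
        rw [← pow_mul, pow_eq_pow_mod _ hvq, ht, pow_one] at h'
        exact hvN h'
      intro i j hij
      have hij' : (v ^ (i : ℕ))⁻¹ * v ^ (j : ℕ) ∈ nrm S := QuotientGroup.eq.1 hij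
      by_contra hne
      rcases Nat.lt_or_gt_of_ne (fun e : (i : ℕ) = j => hne (Fin.ext e)) with hlt | hlt
      · refine hkey ((j : ℕ) - i) (by omega) (by have := j.2; omega) ?_
        obtain ⟨d, hd⟩ : ∃ d, (j : ℕ) = i + d := ⟨j - i, by omega⟩
        rw [hd, pow_add, inv_mul_cancel_left] at hij'
        rwa [hd, Nat.add_sub_cancel_left]
      · refine hkey ((i : ℕ) - j) (by omega) (by have := i.2; omega) ?_
        obtain ⟨d, hd⟩ : ∃ d, (i : ℕ) = j + d := ⟨i - j, by omega⟩
        rw [hd, pow_add, mul_inv_rev, inv_mul_cancel_right] at hij'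
        rw [hd, Nat.add_sub_cancel_left]
        exact inv_mem_iff.1 hij'
    have hsub : Set.range c ⊆ {((1 : G) : G ⧸ nrm S), ((u : G) : G ⧸ nrm S), ((v : G) : G ⧸ nrm S)} := by
      rintro _ ⟨i, rfl⟩
      have hc : Commute y (v ^ (i : ℕ)) := hvy.pow_right _
      rcases hyfix (v ^ (i : ℕ)) (by rw [mul_assoc, hc.eq, inv_mul_cancel_left]; exact hyN)
        with e | e | e
      · left
        exact QuotientGroup.eq.2 (by simpa using inv_mem e)
      · right; left
        exact (QuotientGroup.eq.2 e).symm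
      · right; right
        exact (QuotientGroup.eq.2 e).symm
    have hcard := Set.ncard_le_ncard hsub
    rw [← Nat.card_coe_set_eq, Nat.card_range_of_injective hinjc, Nat.card_fin] at hcard
    have h3 := hcard.trans (Set.ncard_insert_le _ _)
    have h4 := Set.ncard_insert_le ((u : G) : G ⧸ nrm S) {((v : G) : G ⧸ nrm S)}
    rw [Set.ncard_singleton] at h4
    have h5 := L.h.prime.two_le
    have h6 := L.h.ne_two
    omega
  -- `|S| = 8`
  have hn8 : n = 8 := by
    letI : CommGroup (S : Subgroup G) := { (inferInstance : Group (S : Subgroup G)) with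
      mul_comm := fun a b => Subtype.ext (L.h.comm_of_mem S.isPGroup' a.2 b.2) }
    let φ : nrm S →* MulAut (S : Subgroup G) := (S : Subgroup G).normalizerMonoidHom
    have hker : ∀ g : nrm S, φ g = 1 ↔ (g : G) ∈ cen S := by
      intro g
      rw [← MonoidHom.mem_ker, Subgroup.normalizerMonoidHom_ker, Subgroup.mem_subgroupOf]
    set fN : nrm S := ⟨f, hle hfF⟩ with hfN
    set yN : nrm S := ⟨y, hyN⟩ with hyNdef
    set k := φ fN with hk
    have hrepr : ∀ x : nrm S, (x : G) ∈ F → ∃ i : ℕ, φ x = k ^ i := by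
      intro x hx
      obtain ⟨i, hi⟩ := hgen _ hx
      refine ⟨i, ?_⟩
      rw [hk, ← map_pow]
      have h := (hker ((fN ^ i)⁻¹ * x)).2 (by simpa [hfN] using hi)
      rw [map_mul, map_inv, inv_mul_eq_one] at h
      exact h.symm
    obtain ⟨e, he⟩ := hrepr (yN * fN * yN⁻¹) (hnorm y hyN f hfF)
    set Y := φ yN with hY
    have hYk : ∀ i : ℕ, Y * k ^ i * Y⁻¹ = k ^ (e * i) := fun i => by
      rw [← conj_pow, pow_mul, ← he, map_mul, map_mul, map_inv]
    have hY3 : Y ^ 3 = 1 := by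
      rw [hY, ← map_pow, show yN ^ 3 = 1 from Subtype.ext (by
        show y ^ 3 = 1
        rw [← hq3]; exact hyq), map_one]
    have he3 : k ^ (e * (e * e)) = k := by
      calc k ^ (e * (e * e)) = Y * (Y * (Y * k ^ 1 * Y⁻¹) * Y⁻¹) * Y⁻¹ := by
            rw [hYk, mul_one, hYk, hYk]
        _ = (Y ^ 3) * k * (Y ^ 3)⁻¹ := by rw [pow_one k, pow_succ, pow_two]; group
        _ = k := by rw [hY3, one_mul, inv_one, mul_one]
    set sS : (S : Subgroup G) := ⟨s, hs⟩ with hsS
    have hYs : Y sS = sS := Subtype.ext (by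
      show y * s * y⁻¹ = s
      rw [hys.eq, mul_inv_cancel_right])
    have hfixY : ∀ z : (S : Subgroup G), Y z = z → z = 1 ∨ z = sS := by
      intro z hz
      by_cases hz1 : z = 1
      · exact Or.inl hz1
      right
      have hz' : y * (z : G) * y⁻¹ = z := congrArg Subtype.val hz
      exact Subtype.ext (hsuniq z z.2 (fun e => hz1 (Subtype.ext e)) (mul_inv_eq_iff_eq_mul.1 hz'))
    -- `k` is transitive
    have hgenS : ∀ z : (S : Subgroup G), z ≠ 1 → ∃ i : ℕ, (k ^ i) sS = z := by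
      intro z hz
      obtain ⟨g, hg, hgz⟩ := L.trans hs hs1 z.2 (fun e => hz (Subtype.ext e))
      -- `g` may be corrected by a power of `y`
      have hFidx : (F.subgroupOf (nrm S)).index = q := by
        have h1 := (F.subgroupOf (nrm S)).card_mul_index
        rw [Nat.card_congr (Subgroup.subgroupOfEquivOfLe hle).toEquiv, hcardN] at h1
        exact Nat.eq_of_mul_eq_mul_left Nat.card_pos h1
      let c : Fin q → nrm S ⧸ F.subgroupOf (nrm S) := fun i => ((yN ^ (i : ℕ) : nrm S) : _ ⧸ _)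
      have hci : Function.Injective c := by
        intro i j hij
        have hij0 : (yN ^ (i : ℕ))⁻¹ * yN ^ (j : ℕ) ∈ F.subgroupOf (nrm S) := QuotientGroup.eq.1 hij
        have hij' : (y ^ (i : ℕ))⁻¹ * y ^ (j : ℕ) ∈ F := hij0
        by_contra hne
        have hkey : ∀ d, 0 < d → d < q → y ^ d ∉ F := by
          intro d hd0 hdq h
          obtain ⟨t, -, ht⟩ := Nat.exists_mul_mod_eq_one_of_coprime
            (Nat.Coprime.symm ((L.h.prime.coprime_iff_not_dvd).2
              (fun hd' => absurd (Nat.le_of_dvd hd0 hd') (by omega)))) L.h.prime.one_lt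
          have h' := pow_mem h t
          rw [← pow_mul, pow_eq_pow_mod _ hyq, ht, pow_one] at h'
          exact hyF h'
        rcases Nat.lt_or_gt_of_ne (fun e : (i : ℕ) = j => hne (Fin.ext e)) with hlt | hlt
        · refine hkey ((j : ℕ) - i) (by omega) (by have := j.2; omega) ?_
          obtain ⟨d, hd⟩ : ∃ d, (j : ℕ) = i + d := ⟨j - i, by omega⟩
          rw [hd, pow_add, inv_mul_cancel_left] at hij'
          rwa [hd, Nat.add_sub_cancel_left]
        · refine hkey ((i : ℕ) - j) (by omega) (by have := i.2; omega) ?_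
          obtain ⟨d, hd⟩ : ∃ d, (i : ℕ) = j + d := ⟨i - j, by omega⟩
          rw [hd, pow_add, mul_inv_rev, inv_mul_cancel_right] at hij'
          rw [hd, Nat.add_sub_cancel_left]
          exact inv_mem_iff.1 hij'
      obtain ⟨j, hj⟩ := ((Nat.bijective_iff_injective_and_card c).2
        ⟨hci, by rw [Nat.card_fin, ← Subgroup.index_eq_card, hFidx]⟩).2
          ((⟨g, hg⟩⁻¹ : nrm S) : nrm S ⧸ _)
      have hj0 : (yN ^ (j : ℕ))⁻¹ * ⟨g, hg⟩⁻¹ ∈ F.subgroupOf (nrm S) := QuotientGroup.eq.1 hj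
      have hj' : (y ^ (j : ℕ))⁻¹ * g⁻¹ ∈ F := hj0
      rw [← mul_inv_rev] at hj'
      obtain ⟨i, hi⟩ := hrepr (⟨g, hg⟩ * yN ^ (j : ℕ)) (inv_mem_iff.1 hj')
      refine ⟨i, ?_⟩
      rw [← hi, map_mul, map_pow, ← hY, MulAut.mul_apply]
      have hYj : ∀ m : ℕ, (Y ^ m) sS = sS := by
        intro m
        induction m with
        | zero => rfl
        | succ m ih => rw [pow_succ, MulAut.mul_apply, hYs, ih]
      rw [hYj]
      exact Subtype.ext hgz
    have hsq : ∀ a : (S : Subgroup G), a * a = 1 := fun a => Subtype.ext (L.sq a.2)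
    -- `k ^ (1 + e + e * e) = 1`
    have hE3 : ∀ z, (k ^ (1 + e + e * e)) z = z := by
      intro z
      have hcomm : Y * k ^ (1 + e + e * e) * Y⁻¹ = k ^ (1 + e + e * e) := by
        rw [hYk, show e * (1 + e + e * e) = e + e * e + e * (e * e) by ring, pow_add _ (e + e * e),
          he3, ← pow_succ]
        congr 1
        ring
      have hmem := hqcomm y hyN hyC hyq _ (pow_mem hfF (1 + e + e * e))
        ((hker (yN * fN ^ (1 + e + e * e) * yN⁻¹ * (fN ^ (1 + e + e * e))⁻¹)).1 (by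
          rw [map_mul, map_mul, map_mul, map_inv, map_inv, map_pow, ← hY, ← hk, hcomm,
            mul_inv_cancel]))
      have h1 : k ^ (1 + e + e * e) = 1 := by
        rw [hk, ← map_pow]; exact (hker _).2 (by simpa [hfN] using hmem)
      rw [h1, MulAut.one_apply]
    have h := card_le_eight_of_cubic hsq k Y sS e hYk he3 hYs hfixY hgenS hE3
    omega
  -- the group of order `1512`
  have hN : Nat.card (nrm S) = 168 := by rw [hcardN, hF, hn8, hq3]
  have hG : Nat.card G = 1512 := by rw [← (nrm S).index_mul_card, hidx, hn8, hN]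
  refine false_of_index_nine hG (nrm S) hN hyN (hq3 ▸ hyo) fun k hk hkk => ?_
  haveI : (F.subgroupOf (nrm S)).Normal := Subgroup.normal_subgroupOf_of_le_normalizer
    (SignalizerCoprime.le_normalizer_of_forall hnorm)
  haveI : IsCyclic (nrm S ⧸ F.subgroupOf (nrm S)) := by
    refine isCyclic_of_prime_card (p := q) ?_
    rw [← Subgroup.index_eq_card]
    have h1 := (F.subgroupOf (nrm S)).card_mul_index
    rw [Nat.card_congr (Subgroup.subgroupOfEquivOfLe hle).toEquiv, hcardN] at h1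
    exact Nat.eq_of_mul_eq_mul_left Nat.card_pos h1
  haveI := IsCyclic.isMulCommutative (α := nrm S ⧸ F.subgroupOf (nrm S))
  set π := QuotientGroup.mk' (F.subgroupOf (nrm S))
  have h := congrArg π (show (⟨k, hk⟩ : nrm S)⁻¹ * ⟨y, hyN⟩ * ⟨k, hk⟩ = ⟨y, hyN⟩ ^ 2 from
    Subtype.ext hkk)
  rw [map_mul, map_mul, map_inv, map_pow, mul_comm' ((π ⟨k, hk⟩)⁻¹), inv_mul_cancel_right,
    pow_two, left_eq_mul] at h
  exact hyF ((QuotientGroup.eq_one_iff (⟨y, hyN⟩ : nrm S)).1 h)

end Loc

end Cfsg.Agent.TwoQ27
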