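import Mathlib
import Cfsg.Agent.Lib.TwoQ27Core
import Cfsg.Agent.Lib.TwoQ27LargeExc91
import Cfsg.Agent.Lib.TwoQ27Trans
import Cfsg.Agent.S0217

/-!
# A simple `2q` group has Sylow `2`-subgroups of order `4`
-/

set_option autoImplicit false
set_option linter.unusedSectionVars false
set_option linter.style.haveILetI false

namespace Cfsg.Agent.TwoQ27

open Cfsg.Agent.SignalizerStrongEmb

universe u

variable {G : Type u} [Group G] [Finite G] [IsSimpleGroup G] {q : ℕ}

theorem TwoQ.card_sylow_eq_four (h : TwoQ G q) (hna : ∃ a b : G, a * b ≠ b * a)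
    (h2q : ∃ g : G, orderOf g = 2 * q) (S : Sylow 2 G) : Nat.card S = 4 := by
  classical
  haveI := Fact.mk Nat.prime_two
  have hS2 := S.isPGroup'
  have h4 := four_le_card_sylow (not_isSolvable_of_simple hna) S
  by_contra hne4
  have h8 : 8 ≤ Nat.card S := by
    obtain ⟨k, hk⟩ := IsPGroup.iff_card.1 hS2
    rw [show Nat.card S = 2 ^ k from hk] at h4 hne4 ⊢
    rcases k with _ | _ | _ | k
    · norm_num at h4
    · norm_num at h4
    · norm_num at hne4
    · calc 8 = 2 ^ 3 := by norm_num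
        _ ≤ 2 ^ (k + 1 + 1 + 1) := Nat.pow_le_pow_right (by norm_num) (by omega)
  have hsq : ∀ s ∈ (S : Subgroup G), s * s = 1 := fun s hs => h.sq_of_mem hS2 hs
  have hcomm : ∀ a ∈ (S : Subgroup G), ∀ b ∈ (S : Subgroup G), a * b = b * a := fun a ha b hb =>
    h.comm_of_mem hS2 ha hb
  obtain ⟨hWodd, hWC⟩ := Cfsg.Agent.S0217.result (p := 2) (S : Subgroup G) hcomm
    (fun a ha => by rw [pow_two]; exact hsq a ha) (by norm_num; exact h8)
    (fun a => Cfsg.centralizerPPrimeCore 2 a)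
    (fun a _ _ => SignalizerBasic.centralizerPPrimeCore_le 2 a)
    (fun a _ _ => SignalizerBasic.not_dvd_card_centralizerPPrimeCore 2 a)
    (fun a ha _ b hb x hx => SignalizerCoprime.mem_normalizer_conj
      (SignalizerBasic.centralizer_le_normalizer_centralizerPPrimeCore 2 a
        (Subgroup.mem_centralizer_singleton_iff.2 (hcomm b hb a ha))) hx)
    (fun a _ _ => Cfsg.Agent.S0205.result (Nat.odd_iff.2 (Nat.two_dvd_ne_zero.1
      (SignalizerBasic.not_dvd_card_centralizerPPrimeCore 2 a))))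
    (fun a ha _ b hb hb1 => h.balance (hsq a ha) (hsq b hb) hb1 (hcomm a ha b hb))
  set W := ⨆ a : {a : G // a ∈ (S : Subgroup G) ∧ a ≠ 1}, Cfsg.centralizerPPrimeCore 2 a.1 with hW
  have hθW : ∀ a ∈ (S : Subgroup G), a ≠ 1 → Cfsg.centralizerPPrimeCore 2 a ≤ W := fun a ha ha1 =>
    le_iSup_of_le ⟨a, ha, ha1⟩ le_rfl
  have hCa : ∀ a ∈ (S : Subgroup G), a ≠ 1 → ∀ x ∈ Subgroup.centralizer ({a} : Set G),
      ∃ o ∈ Cfsg.centralizerPPrimeCore 2 a, ∃ n ∈ nrm S, x = o * n := fun a ha ha1 x hx => by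
    obtain ⟨o, ho, n, -, hn, e⟩ := h.exists_mul_normalizer_subgroup
      (h.isSolvable_centralizer ha1 (Or.inl (hsq a ha))) S
      (fun s hs => Subgroup.mem_centralizer_singleton_iff.2 (hcomm s hs a ha)) hx
    exact ⟨o, ho, n, hn, e⟩
  by_cases hall : ∀ a ∈ (S : Subgroup G), a ≠ 1 → Cfsg.centralizerPPrimeCore 2 a = ⊥
  · have hcent : ∀ a ∈ (S : Subgroup G), a ≠ 1 →
        Subgroup.centralizer ({a} : Set G) ≤ nrm S := fun a ha ha1 x hx => by
      obtain ⟨o, ho, n, hn, rfl⟩ := hCa a ha ha1 x hx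
      rw [hall a ha ha1, Subgroup.mem_bot] at ho
      rwa [ho, one_mul]
    obtain ⟨a₀, ha₀, ha₀1⟩ : ∃ a ∈ (S : Subgroup G), a ≠ 1 := by
      by_contra hcon
      push Not at hcon
      haveI : Subsingleton (S : Subgroup G) := ⟨fun a b => Subtype.ext
        ((hcon a a.2).trans (hcon b b.2).symm)⟩
      have h1 : Nat.card (S : Subgroup G) ≤ 1 := Finite.card_le_one_iff_subsingleton.2 inferInstance
      exact absurd (h4.trans h1) (by norm_num)
    have L : Loc q S (⊥ : Subgroup G) := ⟨h, h4, h.nrm_ne_top hna S, hcent,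
      fun w hw s _ => by rw [Subgroup.mem_bot] at hw; rw [hw]; exact Commute.one_right s,
      fun w hw => by rw [Subgroup.mem_bot] at hw; rw [hw, one_pow],
      fun n _ w hw => by rw [Subgroup.mem_bot] at hw ⊢; rw [hw, mul_one, mul_inv_cancel],
      fun g hg hgq => by
        have := h.mem_core_of_cen ha₀ (hcent a₀ ha₀ ha₀1) hg hgq
        rwa [hall a₀ ha₀ ha₀1] at this,
      fun w hw hw1 => absurd (Subgroup.mem_bot.1 hw) hw1⟩
    obtain ⟨g, hg⟩ := h2q
    have hgq2 : g ^ q * g ^ q = 1 := by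
      rw [← pow_add, ← two_mul, ← hg, pow_orderOf_eq_one]
    have hgq1 : g ^ q ≠ 1 := fun e => by
      have h1 := Nat.le_of_dvd h.prime.pos (hg ▸ orderOf_dvd_of_pow_eq_one e)
      have := h.prime.pos
      omega
    obtain ⟨c, hc⟩ := isConj_iff.1 (isConj_involutions L.se (orderOf_eq_two_of_mul_self hgq2 hgq1)
      (L.ord_of_mem ha₀ ha₀1))
    refine L.false_of_bot h8 ⟨a₀, ha₀, ha₀1, c * g * c⁻¹, ?_, fun hC => ?_⟩
    · show c * g * c⁻¹ * a₀ = a₀ * (c * g * c⁻¹)
      rw [← hc]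
      calc c * g * c⁻¹ * (c * g ^ q * c⁻¹) = c * (g * g ^ q) * c⁻¹ := by group
        _ = c * (g ^ q * g) * c⁻¹ := by rw [((Commute.refl g).pow_right q).eq]
        _ = _ := by group
    · obtain ⟨h1, -, h3⟩ := L.cen_split hC
      rw [Subgroup.mem_bot] at h1
      have h1' : g ^ (q + 1) = 1 := by
        rw [conj_pow, conj_eq_one_iff] at h1
        exact h1
      have h2 : 2 * q ∣ q + 1 := hg ▸ orderOf_dvd_of_pow_eq_one h1'
      have := Nat.le_of_dvd (by omega) h2
      have := h.prime.two_le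
      omega
  -- a nontrivial core
  push Not at hall
  refine h.centralised_core_false hna S h4 ?_ hall
  obtain ⟨a₀, ha₀, ha₀1, hne⟩ := hall
  have hWbot : W ≠ ⊥ := fun e => hne (le_bot_iff.1 (e ▸ hθW a₀ ha₀ ha₀1))
  set M := Subgroup.normalizer (W : Set G) with hM
  have hNM : nrm S ≤ M := SignalizerCoprime.le_normalizer_of_forall fun n hn w hw => by
    have hle : W ≤ W.comap (MulAut.conj n).toMonoidHom := by
      rw [hW]
      refine iSup_le fun b => ?_
      rw [← hW]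
      intro x hx
      have hb : n * b.1 * n⁻¹ ∈ (S : Subgroup G) := (Subgroup.mem_normalizer_iff.1 hn b.1).1 b.2.1
      refine hθW _ hb (fun e => b.2.2 (conj_eq_one_iff.1 e)) ?_
      have hback : ∀ z ∈ Subgroup.centralizer ({n * b.1 * n⁻¹} : Set G),
          n⁻¹ * z * n ∈ Subgroup.centralizer ({b.1} : Set G) := by
        intro z hz
        rw [Subgroup.mem_centralizer_singleton_iff] at hz ⊢
        calc n⁻¹ * z * n * b.1 = n⁻¹ * (z * (n * b.1 * n⁻¹)) * n := by group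
          _ = n⁻¹ * ((n * b.1 * n⁻¹) * z) * n := by rw [hz]
          _ = b.1 * (n⁻¹ * z * n) := by group
      refine SignalizerBasic.le_centralizerPPrimeCore
        (M := (Cfsg.centralizerPPrimeCore 2 b.1).map (MulAut.conj n).toMonoidHom) ?_ ?_ ?_
        ⟨x, hx, rfl⟩
      · rintro _ ⟨z, hz, rfl⟩
        have hz' := Subgroup.mem_centralizer_singleton_iff.1
          (SignalizerBasic.centralizerPPrimeCore_le 2 b.1 hz)
        refine Subgroup.mem_centralizer_singleton_iff.2 ?_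
        show n * z * n⁻¹ * (n * b.1 * n⁻¹) = n * b.1 * n⁻¹ * (n * z * n⁻¹)
        calc n * z * n⁻¹ * (n * b.1 * n⁻¹) = n * (z * b.1) * n⁻¹ := by group
          _ = n * (b.1 * z) * n⁻¹ := by rw [hz']
          _ = _ := by group
      · refine SignalizerCoprime.le_normalizer_of_forall fun z hz v hv => ?_
        obtain ⟨w', hw', rfl⟩ := hv
        refine ⟨n⁻¹ * z * n * w' * (n⁻¹ * z * n)⁻¹, SignalizerCoprime.mem_normalizer_conj
          (SignalizerBasic.centralizer_le_normalizer_centralizerPPrimeCore 2 b.1 (hback z hz)) hw', ?_⟩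
        show n * (n⁻¹ * z * n * w' * (n⁻¹ * z * n)⁻¹) * n⁻¹ = z * (n * w' * n⁻¹) * z⁻¹
        group
      · rw [Subgroup.card_map_of_injective (MulAut.conj n).injective]
        exact SignalizerBasic.not_dvd_card_centralizerPPrimeCore 2 b.1
    exact hle hw
  have hWodd' : Odd (Nat.card W) := Nat.odd_iff.2 (Nat.two_dvd_ne_zero.1 hWodd)
  have hWq : IsPGroup q W := h.isPGroup_of_invariant hS2 h4
    ((Subgroup.le_normalizer.trans hNM)) hWodd'
  have hCM : ∀ a ∈ (S : Subgroup G), a ≠ 1 → Subgroup.centralizer ({a} : Set G) ≤ M :=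
    fun a ha ha1 x hx => by
    obtain ⟨o, ho, n, hn, rfl⟩ := hCa a ha ha1 x hx
    exact mul_mem (Subgroup.le_normalizer (hθW a ha ha1 ho)) (hNM hn)
  have hMtop : M ≠ ⊤ := fun e => by
    haveI : W.Normal := Subgroup.normalizer_eq_top_iff.1 e
    exact hWbot (h.no_odd_normal (not_isSolvable_of_simple hna) W hWodd')
  have hSM : (S : Subgroup G) ≤ M := Subgroup.le_normalizer.trans hNM
  haveI : IsMulCommutative (S : Subgroup G) :=
    ⟨⟨fun a b => Subtype.ext (hcomm a a.2 b b.2)⟩⟩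
  have hfus : ∀ a ∈ (S : Subgroup G), ∀ g : G, g * a * g⁻¹ ∈ (S : Subgroup G) →
      ∃ n ∈ nrm S, n * a * n⁻¹ = g * a * g⁻¹ := fun a ha g hg => by
    obtain ⟨n, hn, e⟩ := S.conj_eq_normalizer_conj_of_mem a g⁻¹ ha (by rwa [inv_inv])
    exact ⟨n⁻¹, inv_mem hn, by rw [inv_inv] at e ⊢; exact e.symm⟩
  have hse : Cfsg.IsStronglyEmbedded M := by
    refine isStronglyEmbedded_iff.2 ⟨hMtop, even_card_of_involution_mem
      (orderOf_eq_two_of_mul_self (hsq a₀ ha₀) ha₀1) (hSM ha₀), fun t htM ht g hg => ?_⟩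
    -- conjugate both involutions into `S` inside `M`
    have hinto : ∀ t ∈ M, orderOf t = 2 → ∃ m ∈ M, m * t * m⁻¹ ∈ (S : Subgroup G) := by
      intro t htM ht
      obtain ⟨T, hT⟩ := (SignalizerCoprime.isPGroup_zpowers (p := 2) (a := (⟨t, htM⟩ : M))
        (Subtype.ext (by rw [pow_two]; exact involution_mul_self ht))).exists_le_sylow
      obtain ⟨m, hm⟩ := MulAction.exists_smul_eq M T (S.subtype hSM)
      refine ⟨m, m.2, ?_⟩
      have h1 : MulAut.conj m • (⟨t, htM⟩ : M) ∈ (m • T : Sylow 2 M) :=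
        Subgroup.smul_mem_pointwise_smul _ (MulAut.conj m) _ (hT (Subgroup.mem_zpowers _))
      rw [hm] at h1
      exact h1
    obtain ⟨m, hm, hmt⟩ := hinto t htM ht
    obtain ⟨m', hm', hmt'⟩ := hinto _ hg (by rw [orderOf_conj, ht])
    set a := m * t * m⁻¹ with ha
    have ha1 : a ≠ 1 := fun e => involution_ne_one ht (conj_eq_one_iff.1 e)
    obtain ⟨n, hn, hna'⟩ := hfus a hmt (m' * g * m⁻¹) (by
      rw [show m' * g * m⁻¹ * a * (m' * g * m⁻¹)⁻¹ = m' * (g * t * g⁻¹) * m'⁻¹ by rw [ha]; group]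
      exact hmt')
    have hc : n⁻¹ * (m' * g * m⁻¹) ∈ M := by
      refine hCM a hmt ha1 (Subgroup.mem_centralizer_singleton_iff.2 ?_)
      set k := m' * g * m⁻¹
      calc n⁻¹ * k * a = n⁻¹ * (k * a * k⁻¹) * k := by group
        _ = n⁻¹ * (n * a * n⁻¹) * k := by rw [hna']
        _ = a * (n⁻¹ * k) := by group
    have h1 := mul_mem (mul_mem (mul_mem (inv_mem hm') (hNM hn)) hc) hm
    rwa [show m'⁻¹ * n * (n⁻¹ * (m' * g * m⁻¹)) * m = g by group] at h1
  have htr : ∀ u ∈ (S : Subgroup G), ∀ v ∈ (S : Subgroup G), u ≠ 1 → v ≠ 1 →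
      ∃ g ∈ nrm S, g * u * g⁻¹ = v := fun u hu v hv hu1 hv1 => by
    obtain ⟨g, hg⟩ := isConj_iff.1 (isConj_involutions hse
      (orderOf_eq_two_of_mul_self (hsq u hu) hu1) (orderOf_eq_two_of_mul_self (hsq v hv) hv1))
    obtain ⟨n, hn, e⟩ := hfus u hu g (hg ▸ hv)
    exact ⟨n, hn, e.trans hg⟩
  obtain ⟨b, hb, hb1, hab⟩ : ∃ b ∈ (S : Subgroup G), b ≠ 1 ∧ a₀ ≠ b := by
    by_contra hcon
    push Not at hcon
    have hle : Nat.card (S : Subgroup G) ≤ Nat.card ({1, a₀} : Set G) :=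
      Nat.card_le_card_of_injective (fun x : (S : Subgroup G) => (⟨x.1, by
        by_cases hx : (x : G) = 1
        · exact Or.inl hx
        · exact Or.inr (hcon x x.2 hx).symm⟩ : ({1, a₀} : Set G)))
        fun x y e => Subtype.ext (congrArg (fun z : ({1, a₀} : Set G) => (z : G)) e)
    rw [Nat.card_coe_set_eq] at hle
    have h2 : ({1, a₀} : Set G).ncard ≤ 2 :=
      (Set.ncard_insert_le _ _).trans (by rw [Set.ncard_singleton])
    have h3 : Nat.card S ≤ 2 := hle.trans h2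
    omega
  obtain ⟨g, hg, hgab⟩ := htr a₀ ha₀ b hb ha₀1 hb1
  -- an element of odd order moving `S`
  obtain ⟨g', hg', hg'o, hg'C⟩ : ∃ g' ∈ nrm S, Odd (orderOf g') ∧ g' ∉ cen S := by
    have hgC : g ∉ cen S := fun hC => hab (by
      rw [← hgab, ← Subgroup.mem_centralizer_iff.1 hC a₀ ha₀, mul_inv_cancel_right])
    rcases Nat.even_or_odd (orderOf g) with he | ho
    · have h2 : g ^ (2 * q) = 1 := h.pow_two_q_of_even (even_iff_two_dvd.1 he)
      refine ⟨g ^ (q + 1), pow_mem hg _, h.odd_q.of_dvd_nat (orderOf_dvd_of_pow_eq_one ?_),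
        fun hC => hgC ?_⟩
      · obtain ⟨m, hm⟩ := h.odd_q
        rw [← pow_mul, show (q + 1) * q = (2 * q) * (m + 1) by rw [hm]; ring, pow_mul, h2, one_pow]
      · have hS : g ^ q ∈ (S : Subgroup G) :=
          mem_syl_of_sq (pow_mem hg q) (by rw [← pow_add, ← two_mul, h2])
        have hSC : g ^ q ∈ cen S :=
          Subgroup.mem_centralizer_iff.2 fun s hs => hcomm s hs _ hS
        have h3 := (cen S).mul_mem hC hSC
        rwa [← pow_add, show q + 1 + q = 2 * q + 1 by ring, pow_succ, h2, one_mul] at h3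
    · exact ⟨g, hg, ho, hgC⟩
  haveI : (W.subgroupOf M).Normal := Subgroup.normal_in_normalizer
  have hWX : IsPGroup q (W.subgroupOf M) :=
    hWq.of_equiv (Subgroup.subgroupOfEquivOfLe Subgroup.le_normalizer).symm
  have hSX : IsPGroup 2 ((S : Subgroup G).subgroupOf M) :=
    hS2.of_equiv (Subgroup.subgroupOfEquivOfLe hSM).symm
  have hnX : ∀ n (hn : n ∈ nrm S), (⟨n, hNM hn⟩ : M) ∈
      Subgroup.normalizer (((S : Subgroup G).subgroupOf M : Subgroup M) : Set M) := fun n hn =>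
    Subgroup.mem_normalizer_iff.2 fun x => Subgroup.mem_normalizer_iff.1 hn (x : G)
  have hcent : ∀ w ∈ W, ∀ s ∈ (S : Subgroup G), Commute s w := fun w hw s hs =>
    congrArg Subtype.val ((h.subgroup M).centralizes_of_transitive hWX hSX (g := ⟨g', hNM hg'⟩)
      (hnX g' hg') (by rw [Subgroup.orderOf_mk]; exact hg'o)
      (fun hC => hg'C (Subgroup.mem_centralizer_iff.2 fun s hs => congrArg Subtype.val
        (Subgroup.mem_centralizer_iff.1 hC ⟨s, hSM hs⟩ hs)))
      (fun u hu v hv hu1 hv1 => by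
        obtain ⟨n, hn, e⟩ := htr u hu v hv (fun e => hu1 (Subtype.ext e)) (fun e => hv1 (Subtype.ext e))
        exact ⟨⟨n, hNM hn⟩, hnX n hn, Subtype.ext e⟩)
      ⟨w, Subgroup.le_normalizer hw⟩ hw ⟨s, hSM hs⟩ hs).eq
  exact fun a ha ha1 x hx => Subgroup.mem_centralizer_iff.2 fun s hs =>
    (hcent x (hθW a ha ha1 hx) s hs).eq

end Cfsg.Agent.TwoQ27
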