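import Mathlib
import Cfsg.Agent.Lib.TwoQ27SmallRank
import Cfsg.Agent.Lib.TwoQ27Large
import Cfsg.Agent.Lib.TwoQ27Core

/-!
# Simple `2q` groups are `PSL₂` over fields of odd order
-/

set_option autoImplicit false
set_option linter.style.haveILetI false
set_option linter.unusedSectionVars false

namespace Cfsg.Agent.TwoQ27

universe u

open Cfsg (centralizerPPrimeCore)

variable {G : Type u} [Group G] [Finite G] {q : ℕ}

/-- The structure of a simple `2q` group, with the identification. -/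
theorem TwoQ.simple_structure [IsSimpleGroup G] (h : TwoQ G q) (hna : ∃ a b : G, a * b ≠ b * a)
    (h2q : ∃ g : G, orderOf g = 2 * q) (S : Sylow 2 G) :
    Nat.card S = 4 ∧
    (∀ t ∈ (S : Subgroup G), t ≠ 1 → centralizerPPrimeCore 2 t ≠ ⊥ ∧
      (∀ b ∈ (S : Subgroup G), b ≠ 1 → b ≠ t → ∀ y ∈ centralizerPPrimeCore 2 t,
        y ∈ Subgroup.centralizer ({b} : Set G) → y = 1) ∧
      ∀ Y : Subgroup G, Y ≤ centralizerPPrimeCore 2 t → Y ≠ ⊥ →
        Subgroup.normalizer (Y : Set G) ≤ Subgroup.centralizer ({t} : Set G)) ∧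
    ∃ (F : Type) (_ : Field F) (_ : Fintype F), Odd (Fintype.card F) ∧
      Nonempty (G ≃* Matrix.ProjectiveSpecialLinearGroup (Fin 2) F) := by
  have h4 := h.card_sylow_eq_four hna h2q S
  refine ⟨h4, ?_⟩
  rcases h.small_rank hna h2q S h4 with ⟨hc, hne⟩ | h'
  · exact (h.centralised_core_false hna S h4.ge hc hne).elim
  · exact h'

/-- A simple `2q` group is `PSL₂` over a field of odd order. -/
theorem TwoQ.iso_psl2 [IsSimpleGroup G] (h : TwoQ G q) (hna : ∃ a b : G, a * b ≠ b * a)
    (h2q : ∃ g : G, orderOf g = 2 * q) :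
    ∃ (F : Type) (_ : Field F) (_ : Fintype F), Odd (Fintype.card F) ∧
      Nonempty (G ≃* Matrix.ProjectiveSpecialLinearGroup (Fin 2) F) :=
  (h.simple_structure hna h2q default).2.2

end Cfsg.Agent.TwoQ27
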