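import Mathlib
import Cfsg.Agent.Lib.ThreeOrd27List
import Cfsg.Agent.Lib.ThreeOrd27Klein
import Cfsg.Agent.Lib.TwoQ27Main

/-!
# Non-solvable groups in which no prime divides three element orders: the two cases
-/

set_option autoImplicit false
set_option linter.style.haveILetI false
set_option linter.unusedSectionVars false

namespace Cfsg.Agent.ThreeOrd27

open Subgroup

universe u

variable {G : Type u} [Group G] [Finite G]

/-- The `2`-core of a non-solvable `2q` group is trivial. -/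
theorem twoQ_pCore_two {q : ℕ} (h : TwoQ27.TwoQ G q) (hns : ¬ Group.IsSolvable G) :
    Cfsg.pCore 2 G = ⊥ := by
  haveI := Fact.mk Nat.prime_two
  by_contra hne
  set R := Cfsg.pCore 2 G with hR
  haveI hRn : R.Normal := HallCore.pCore_normal 2 G
  have hRp : IsPGroup 2 R := HallCore.isPGroup_pCore 2 G
  obtain ⟨z, hz, hz1⟩ := TwoQ27.exists_ne_one hne
  set K := centralizer (R : Set G) with hK
  haveI : K.Normal := inferInstance
  haveI hKs : Group.IsSolvable K :=
    h.isSolvable_of_le_centralizer hz1 (Or.inl (h.sq_of_mem hRp hz)) fun g hg =>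
      mem_centralizer_iff.1 hg z hz
  obtain ⟨P⟩ := (inferInstance : Nonempty (Sylow 2 G))
  have hRP : R ≤ P := by
    have hsup := hRp.to_sup_of_normal_left P.isPGroup'
    rw [← P.is_maximal' hsup le_sup_right]
    exact le_sup_left
  have hPK : (P : Subgroup G) ≤ K := fun p hp =>
    mem_centralizer_iff.2 fun r hr => h.comm_of_mem P.isPGroup' (hRP hr) hp
  haveI : Group.IsSolvable (G ⧸ K) := Cfsg.Agent.S0205.result (by
    rw [← Subgroup.index_eq_card]
    exact Nat.odd_iff.2 (Nat.two_dvd_ne_zero.1 fun h2 =>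
      P.not_dvd_index (h2.trans (Subgroup.index_dvd_of_le hPK))))
  exact hns (Group.isSolvable_of_ker_le_range K.subtype (QuotientGroup.mk' K) (by simp))

/-- The `2q` case. -/
theorem twoQ_case (h : ThreeOrd G) {q : ℕ} (hq : TwoQ27.TwoQ G q)
    (h2q : ∃ g : G, orderOf g = 2 * q) (hns : ¬ Group.IsSolvable G) :
    IsSimpleGroup G ∧ ∃ (F : Type) (_ : Field F) (_ : Fintype F), 5 < Fintype.card F ∧
      (Fintype.card F % 8 = 3 ∨ Fintype.card F % 8 = 5) ∧
      ((Fintype.card F + 1) / 2).primeFactorsList.length ≤ 2 ∧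
      ((Fintype.card F - 1) / 2).primeFactorsList.length ≤ 2 ∧
      Nonempty (G ≃* Matrix.ProjectiveSpecialLinearGroup (Fin 2) F) := by
  haveI := Fact.mk Nat.prime_two
  have hcore : ∀ p : ℕ, p.Prime → Cfsg.pCore p G = ⊥ := by
    intro p hp
    by_cases hp2 : p = 2
    · exact hp2 ▸ twoQ_pCore_two hq hns
    · haveI := Fact.mk hp
      haveI := HallCore.pCore_normal p G
      obtain ⟨k, hk⟩ := IsPGroup.iff_card.1 (HallCore.isPGroup_pCore p G)
      exact hq.no_odd_normal hns _ (by rw [hk]; exact (hp.odd_of_ne_two hp2).pow)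
  have hCsol : ∀ t : G, orderOf t = 2 → Group.IsSolvable (centralizer ({t} : Set G)) := by
    intro t ht
    exact hq.isSolvable_centralizer (fun e => by rw [e, orderOf_one] at ht; omega)
      (Or.inl (by rw [← pow_two, ← ht, pow_orderOf_eq_one]))
  obtain ⟨N, hNn, hNs, hna⟩ := exists_simple_normal' hns hcore hCsol
  haveI := hNn
  haveI := hNs
  have hC : centralizer (N : Set G) = ⊥ := by
    obtain ⟨t, ht⟩ := exists_prime_orderOf_dvd_card' 2 (two_dvd_of_simple hna)
    haveI := hCsol (t : G) (by rw [Subgroup.orderOf_coe, ht])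
    exact no_solvable_normal hcore (Group.isSolvable_of_isSolvable_injective
      (Subgroup.inclusion_injective (centralizer_le (s := {(t : G)}) (t := (N : Set G))
        (Set.singleton_subset_iff.2 t.2))))
  have hNq : ∃ g : N, orderOf g = 2 * q := by
    by_contra hno
    exact twoQ_cit_false hq h2q N hna hC hno
  obtain ⟨h4, hS, -⟩ := (hq.subgroup N).simple_structure hna hNq default
  have htop := klein_eq_top hq N hna default h4 hS
  subst htop
  haveI hGs : IsSimpleGroup G := Subgroup.topEquiv.isSimpleGroup_congr.1 hNs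
  have hnaG : ∃ a b : G, a * b ≠ b * a := by
    obtain ⟨a, b, hab⟩ := hna
    exact ⟨a, b, fun e => hab (Subtype.ext e)⟩
  obtain ⟨hc4, -, F, iF, iFF, hodd, ⟨e⟩⟩ := hq.simple_structure hnaG h2q default
  refine ⟨hGs, F, iF, iFF, ?_⟩
  have hF4 := four_le_card_field e
  have hNF : Nat.card F = Fintype.card F := Nat.card_eq_fintype_card
  set a := Fintype.card F with ha
  -- `a ≠ 5`
  have ha5 : a ≠ 5 := by
    intro ha5
    obtain ⟨p, hc⟩ := CharP.exists F
    obtain ⟨n, hp, hn⟩ := FiniteField.card F p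
    haveI := Fact.mk hp
    obtain ⟨g, hg⟩ := h2q
    have hmem : 2 * q ∈ Set.range
        (orderOf : Matrix.ProjectiveSpecialLinearGroup (Fin 2) F → ℕ) :=
      ⟨e g, by rw [MulEquiv.orderOf_eq, hg]⟩
    rw [Cfsg.Agent.S2475.result p hF4] at hmem
    have hp5 : p = 5 := (Nat.prime_dvd_prime_iff_eq hp (by norm_num)).1
      (by rw [← ha5, ha, hn]; exact dvd_pow_self p n.pos.ne')
    have hq3 : 3 ≤ q := by
      have := hq.prime.two_le
      have := hq.ne_two
      omega
    have hgcd : Nat.gcd 2 (a - 1) = 2 := gcd_of_odd hodd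
    rw [← ha, hgcd, ha5, hp5] at hmem
    have h25 : ¬ 2 ∣ 5 := by norm_num
    rcases hmem with hm | hm | hm
    · exact h25 (dvd_trans (dvd_mul_right 2 q) hm)
    · have := Nat.le_of_dvd (by norm_num) hm; omega
    · have := Nat.le_of_dvd (by norm_num) hm; omega
  refine ⟨by obtain ⟨b, hb⟩ := hodd; omega, ?_, (psl_two_odd_arith h hF4 hodd e).1, (psl_two_odd_arith h hF4 hodd e).2, ⟨e⟩⟩
  -- the Sylow `2`-subgroup has order four
  have hcard : Nat.card G = a * (a ^ 2 - 1) / 2 := by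
    rw [Nat.card_congr e.toEquiv, PSLCard.card_PSL2_odd (by rw [hNF]; exact hodd), hNF]
  have h8 : ¬ 8 ∣ Nat.card G := by
    intro hd
    obtain ⟨Q, hQ⟩ := Sylow.exists_subgroup_card_pow_prime 2 (n := 3) (by simpa using hd)
    obtain ⟨P, hP⟩ := (IsPGroup.of_card hQ).exists_le_sylow
    have := Subgroup.card_le_of_le hP
    rw [hQ, show Nat.card (P : Subgroup G) = Nat.card ((default : Sylow 2 G) : Subgroup G) from
      Nat.card_congr (Sylow.equiv P default).toEquiv, hc4] at this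
    norm_num at this
  obtain ⟨b, hb⟩ := hodd
  by_contra hmod
  apply h8
  rw [hcard]
  obtain ⟨c, hc⟩ : 16 ∣ a ^ 2 - 1 := by
    obtain ⟨c, hc' | hc'⟩ : ∃ c, a = 8 * c + 1 ∨ a = 8 * c + 7 := ⟨a / 8, by omega⟩
    · exact ⟨4 * c ^ 2 + c, by
        rw [hc', show (8 * c + 1) ^ 2 = 16 * (4 * c ^ 2 + c) + 1 by ring]; simp⟩
    · exact ⟨4 * c ^ 2 + 7 * c + 3, by
        rw [hc', show (8 * c + 7) ^ 2 = 16 * (4 * c ^ 2 + 7 * c + 3) + 1 by ring]; simp⟩
  rw [hc, show a * (16 * c) = 2 * (8 * (a * c)) by ring, Nat.mul_div_cancel_left _ two_pos]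
  exact dvd_mul_right 8 _

/-- In the CIT case elements of even order are `2`-elements. -/
theorem cit_two_pow (H : CIT21.IsCIT G) {g : G} (hg : 2 ∣ orderOf g) :
    ∃ k : ℕ, g ^ 2 ^ k = 1 := by
  set t := g ^ (orderOf g / 2) with ht
  have hto : orderOf t = 2 := orderOf_pow_orderOf_div (orderOf_pos g).ne' hg
  obtain ⟨k, hk⟩ := H t hto ⟨g, mem_centralizer_singleton_iff.2
    ((Commute.refl g).pow_right _).eq⟩
  exact ⟨k, congrArg Subtype.val hk⟩

/-- A simple quotient with an element of order four forces a trivial `2`-core. -/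
theorem core_eq_bot_of_order_four (h : ThreeOrd G) (H : CIT21.IsCIT G) (R : Subgroup G) [R.Normal]
    (hR : IsPGroup 2 R) [IsSimpleGroup (G ⧸ R)] (hna : ∃ a b : G ⧸ R, a * b ≠ b * a)
    (h4 : ∃ g : G ⧸ R, orderOf g = 4) : R = ⊥ := by
  haveI := Fact.mk Nat.prime_two
  by_contra hne
  set π := QuotientGroup.mk' R with hπ
  -- a lift of order dividing four
  obtain ⟨s', hs'⟩ := h4
  obtain ⟨g, rfl⟩ := QuotientGroup.mk'_surjective R s'
  obtain ⟨a, b, hb, hab⟩ := Nat.exists_eq_two_pow_mul_odd (orderOf_pos g).ne'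
  set s := g ^ b with hs
  have hs4 : s ^ 4 = 1 := h.pow_four (k := a) (by
    rw [hs, ← pow_mul, mul_comm, ← hab, pow_orderOf_eq_one])
  have hπs : orderOf (π s) = 4 := by
    rw [hs, map_pow, orderOf_pow' _ (by obtain ⟨c, hc⟩ := hb; omega), hs',
      show Nat.gcd 4 b = 1 from Nat.Coprime.pow_left 2 (Nat.coprime_two_left.2 hb), Nat.div_one]
  have hz : orderOf (π s ^ 2) = 2 := by
    rw [orderOf_pow' _ two_ne_zero, hπs]; rfl
  obtain ⟨x', hx'1, hx'o, hx'i⟩ := exists_inverted hna hz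
  obtain ⟨y, rfl⟩ := QuotientGroup.mk'_surjective R x'
  obtain ⟨c, d, hd, hcd⟩ := Nat.exists_eq_two_pow_mul_odd (orderOf_pos y).ne'
  set x := y ^ 2 ^ c with hx
  have hxo : Odd (orderOf x) := hd.of_dvd_nat (orderOf_dvd_of_pow_eq_one (by
    rw [hx, ← pow_mul, ← hcd, pow_orderOf_eq_one]))
  have hx1 : π x ≠ 1 := fun e => hx'1 (by
    rw [hx, map_pow] at e
    exact orderOf_eq_one_iff.1 (Nat.eq_one_of_dvd_coprimes (hx'o.coprime_two_right.pow_right c)
      dvd_rfl (orderOf_dvd_of_pow_eq_one e)))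
  have hπx : π x = π y ^ 2 ^ c := map_pow π y _
  have hxi : π (s ^ 2 * x * (s ^ 2)⁻¹ * x) = 1 := by
    rw [map_mul, map_mul, map_mul, map_inv, hπx, map_pow π s 2, ← conj_pow, hx'i, inv_pow,
      inv_mul_cancel]
  -- the involutions of the centre of `R`
  let E : Subgroup G :=
    { carrier := {e | e ∈ R ∧ e ∈ centralizer (R : Set G) ∧ e * e = 1}
      one_mem' := ⟨one_mem _, one_mem _, one_mul 1⟩
      mul_mem' := fun {e f} he hf => ⟨R.mul_mem he.1 hf.1, mul_mem he.2.1 hf.2.1, by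
        have hef : e * f = f * e := mem_centralizer_iff.1 hf.2.1 e he.1
        calc e * f * (e * f) = e * (f * e) * f := by group
          _ = (e * e) * (f * f) := by rw [← hef]; group
          _ = 1 := by rw [he.2.2, hf.2.2, one_mul]⟩
      inv_mem' := fun {e} he => ⟨inv_mem he.1, inv_mem he.2.1, by
        rw [← mul_inv_rev, he.2.2, inv_one]⟩ }
  haveI hEn : E.Normal := ⟨fun e he k => ⟨(inferInstance : R.Normal).conj_mem e he.1 k,
    (inferInstance : (centralizer (R : Set G)).Normal).conj_mem e he.2.1 k, by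
      rw [show k * e * k⁻¹ * (k * e * k⁻¹) = k * (e * e) * k⁻¹ by group, he.2.2]; group⟩⟩
  obtain ⟨e₀, he₀, he₀1⟩ : ∃ e ∈ E, e ≠ 1 := by
    haveI : Nontrivial R := (nontrivial_iff_ne_bot R).2 hne
    haveI := hR.center_nontrivial
    obtain ⟨w, hw⟩ := exists_ne (1 : center R)
    obtain ⟨k, hk⟩ := hR (w : R)
    obtain ⟨i, hi⟩ := CITGraph39.exists_involution_pow
      ⟨k, (congrArg Subtype.val hk : ((w : R) : G) ^ 2 ^ k = 1)⟩
      fun e => hw (Subtype.ext (Subtype.ext e))
    refine ⟨((w : R) : G) ^ i, ⟨pow_mem (w : R).2 i, pow_mem (mem_centralizer_iff.2 fun r hr =>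
      congrArg Subtype.val (mem_center_iff.1 w.2 ⟨r, hr⟩)) i, ?_⟩, fun e => ?_⟩
    · rw [← pow_two, ← hi, pow_orderOf_eq_one]
    · rw [e, orderOf_one] at hi; omega
  have hE : ∀ e ∈ E, ∀ f ∈ E, e * f = f * e := fun e he f hf =>
    mem_centralizer_iff.1 hf.2.1 e he.1
  have hfpf : ∀ e ∈ E, x * e * x⁻¹ = e → e = 1 := by
    intro e he hfix
    by_contra he1
    have he2 : orderOf e = 2 := orderOf_eq_prime (by rw [pow_two]; exact he.2.2) he1
    exact hx1 (by
      rw [CITGraph39.eq_one_of_odd H he2 hxo (mul_inv_eq_iff_eq_mul.1 hfix), map_one])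
  have hinv : ∀ e ∈ E, s ^ 2 * (x * e * x⁻¹) * (s ^ 2)⁻¹ =
      x⁻¹ * (s ^ 2 * e * (s ^ 2)⁻¹) * x⁻¹⁻¹ := by
    intro e he
    set ρ := s ^ 2 * x * (s ^ 2)⁻¹ * x with hρdef
    have hρ : ρ ∈ R := (QuotientGroup.eq_one_iff ρ).1 hxi
    have hf : x⁻¹ * (s ^ 2 * e * (s ^ 2)⁻¹) * x⁻¹⁻¹ ∈ E :=
      hEn.conj_mem _ (hEn.conj_mem e he _) _
    have hc := mem_centralizer_iff.1 hf.2.1 ρ hρ
    calc s ^ 2 * (x * e * x⁻¹) * (s ^ 2)⁻¹
        = ρ * (x⁻¹ * (s ^ 2 * e * (s ^ 2)⁻¹) * x⁻¹⁻¹) * ρ⁻¹ := by rw [hρdef]; group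
      _ = (x⁻¹ * (s ^ 2 * e * (s ^ 2)⁻¹) * x⁻¹⁻¹) * ρ * ρ⁻¹ := by rw [hc]
      _ = _ := mul_inv_cancel_right _ _
  have hfix := false_of_order_four h hE (fun e he => he.2.2) hs4 hxo
    (fun e he => by rw [pow_orderOf_eq_one, one_mul, inv_one, mul_one]) hfpf hinv
  -- hence `C(E)` covers the quotient
  have hK : (centralizer (E : Set G)).map π = ⊤ := by
    haveI : ((centralizer (E : Set G)).map π).Normal :=
      Subgroup.Normal.map inferInstance π (QuotientGroup.mk'_surjective R)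
    refine (inferInstance : ((centralizer (E : Set G)).map π).Normal).eq_bot_or_eq_top.resolve_left
      fun e => ?_
    have hmem : π (s ^ 2) ∈ (centralizer (E : Set G)).map π :=
      mem_map_of_mem _ (mem_centralizer_iff.2 fun f hf => (mul_inv_eq_iff_eq_mul.1 (hfix f hf)).symm)
    rw [e, mem_bot, map_pow] at hmem
    rw [hmem, orderOf_one] at hz
    omega
  obtain ⟨k, hk, hkx⟩ : π x ∈ (centralizer (E : Set G)).map π := hK ▸ mem_top _
  have hxk : k⁻¹ * x ∈ centralizer (E : Set G) := by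
    have hr : k⁻¹ * x ∈ R := by
      rw [← QuotientGroup.eq_one_iff (N := R)]
      show π (k⁻¹ * x) = 1
      rw [map_mul, map_inv, hkx, inv_mul_cancel]
    exact mem_centralizer_iff.2 fun f hf => (mem_centralizer_iff.1 hf.2.1 _ hr).symm
  have hxC : x ∈ centralizer (E : Set G) := by
    have := mul_mem hk hxk
    rwa [mul_inv_cancel_left] at this
  refine he₀1 (hfpf e₀ he₀ ?_)
  rw [← mem_centralizer_iff.1 hxC e₀ he₀, mul_inv_cancel_right]

/-- The case of `2`-group centralisers of involutions. -/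
theorem cit_case (h : ThreeOrd G) (H : CIT21.IsCIT G) (hns : ¬ Group.IsSolvable G) :
    (∃ (F : Type) (_ : Field F) (_ : Fintype F), CharP F 2 ∧ 4 ≤ Fintype.card F ∧
      (Fintype.card F + 1).primeFactorsList.length ≤ 2 ∧
      (Fintype.card F - 1).primeFactorsList.length ≤ 2 ∧
      Nonempty (G ⧸ Cfsg.pCore 2 G ≃* Matrix.ProjectiveSpecialLinearGroup (Fin 2) F)) ∨
    (∃ (F : Type) (_ : Field F) (_ : Fintype F), (Fintype.card F = 7 ∨ Fintype.card F = 9) ∧
      Nonempty (G ≃* Matrix.ProjectiveSpecialLinearGroup (Fin 2) F)) ∨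
    (∃ (F : Type) (_ : Field F) (_ : Fintype F), Fintype.card F = 4 ∧
      Nonempty (G ≃* Matrix.ProjectiveSpecialLinearGroup (Fin 3) F)) ∨
    (IsSimpleGroup G ∧ Cfsg.Lie.IsoSuzuki G) := by
  classical
  haveI := Fact.mk Nat.prime_two
  haveI hRn : (Cfsg.pCore 2 G).Normal := HallCore.pCore_normal 2 G
  set R := Cfsg.pCore 2 G with hR
  have hRp : IsPGroup 2 R := HallCore.isPGroup_pCore 2 G
  have hns' : ¬ Group.IsSolvable (G ⧸ R) := by
    intro hs
    haveI := hs
    haveI : Group.IsNilpotent R := hRp.isNilpotent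
    exact hns (Group.isSolvable_of_ker_le_range R.subtype (QuotientGroup.mk' R) (by simp))
  have H' : CIT21.IsCIT (G ⧸ R) := CITGraph39.quot_cit H hRp
  have h' : ThreeOrd (G ⧸ R) := h.of_surjective (QuotientGroup.mk'_surjective R)
  have hcore : ∀ p : ℕ, p.Prime → Cfsg.pCore p (G ⧸ R) = ⊥ := by
    intro p hp
    by_cases hp2 : p = 2
    · subst hp2; exact HallCore.pCore_quotient_self 2 G
    · haveI := Fact.mk hp
      haveI := HallCore.pCore_normal p (G ⧸ R)
      obtain ⟨k, hk⟩ := IsPGroup.iff_card.1 (HallCore.isPGroup_pCore p (G ⧸ R))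
      exact cit_no_odd H' hns' _ (by rw [hk]; exact (hp.odd_of_ne_two hp2).pow)
  obtain ⟨N, hNn, hNs, hna⟩ := exists_simple_normal' hns' hcore fun t ht => by
    haveI := (H' t ht).isNilpotent
    infer_instance
  haveI := hNn
  obtain ⟨htop, -⟩ := cit_eq_top H' (fun k g hg => h'.pow_four hg) hNs hna
  subst htop
  haveI hQs : IsSimpleGroup (G ⧸ R) := Subgroup.topEquiv.isSimpleGroup_congr.1 hNs
  have hnaQ : ∃ a b : G ⧸ R, a * b ≠ b * a := by
    obtain ⟨a, b, hab⟩ := hna
    exact ⟨a, b, fun e => hab (Subtype.ext e)⟩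
  by_cases hel : ∀ g : G ⧸ R, 2 ∣ orderOf g → orderOf g = 2
  · left
    obtain ⟨t, C, -, hkk, F, iF, iFF, hchar, hFc, ⟨e⟩⟩ := elementary_iso H' hnaQ hel
    have h4 := four_le_card_field e
    haveI := hchar
    exact ⟨F, iF, iFF, hchar, h4, (psl_two_even_arith h' h4 e).1, (psl_two_even_arith h' h4 e).2,
      ⟨e⟩⟩
  right
  push Not at hel
  obtain ⟨g, hg2, hgne⟩ := hel
  have hfour : ∃ g : G ⧸ R, orderOf g = 4 := by
    obtain ⟨k, hk⟩ := cit_two_pow H' hg2
    obtain ⟨i, -, hi⟩ := (Nat.dvd_prime_pow Nat.prime_two).1 (orderOf_dvd_of_pow_eq_one hk)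
    have hd : orderOf g ∣ 2 ^ 2 := orderOf_dvd_of_pow_eq_one (h'.pow_four hk)
    obtain ⟨i, hi2, hi⟩ := (Nat.dvd_prime_pow Nat.prime_two).1 hd
    refine ⟨g, ?_⟩
    interval_cases i <;> omega
  have hbot := core_eq_bot_of_order_four h H R hRp hnaQ hfour
  obtain ⟨ε⟩ : Nonempty (G ≃* G ⧸ R) := ⟨MulEquiv.ofBijective (QuotientGroup.mk' R)
    ⟨(MonoidHom.ker_eq_bot_iff _).1 (by rw [QuotientGroup.ker_mk', hbot]),
      QuotientGroup.mk'_surjective R⟩⟩
  haveI hGs : IsSimpleGroup G := ε.isSimpleGroup_congr.2 hQs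
  have hnaG : ∃ a b : G, a * b ≠ b * a := by
    obtain ⟨a, b, hab⟩ := hnaQ
    exact ⟨ε.symm a, ε.symm b, fun e => hab (ε.symm.injective (by rw [map_mul, map_mul]; exact e))⟩
  obtain ⟨y', hy'⟩ := hfour
  have hy4 : orderOf (ε.symm y') = 4 := by rw [MulEquiv.orderOf_eq, hy']
  rcases EppoCIT4.citList hGs hnaG H with ⟨F, iF, iFF, hF, ⟨e⟩⟩ | h3 | hSz
  · left
    refine ⟨F, iF, iFF, ?_, ⟨e⟩⟩
    have hF4 := four_le_card_field e
    obtain ⟨p, hc⟩ := CharP.exists F
    obtain ⟨n, hp, hn⟩ := FiniteField.card F p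
    haveI := Fact.mk hp
    have hmem : 4 ∈ Set.range
        (orderOf : Matrix.ProjectiveSpecialLinearGroup (Fin 2) F → ℕ) :=
      ⟨e (ε.symm y'), by rw [MulEquiv.orderOf_eq, hy4]⟩
    rw [Cfsg.Agent.S2475.result p hF4] at hmem
    rcases hF with hF | ⟨k, hk⟩ | ⟨hprime, k, hk⟩
    · exact Or.inr hF
    · exfalso
      obtain ⟨k', rfl⟩ : ∃ k', k = k' + 2 := by
        refine ⟨k - 2, ?_⟩
        rcases k with _ | _ | k
        · simp at hk; omega
        · simp at hk; omega
        · omega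
      have heven : Even (Fintype.card F) := by rw [hk, pow_succ]; exact even_two.mul_left _
      have hp2 : p = 2 := (Nat.prime_dvd_prime_iff_eq hp Nat.prime_two).1
        (hp.dvd_of_dvd_pow (n := k' + 2) (by rw [← hk, hn]; exact dvd_pow_self p n.pos.ne'))
      rw [gcd_of_even heven (by omega), Nat.div_one, Nat.div_one, hp2] at hmem
      have hev := heven.two_dvd
      rcases hmem with hm | hm | hm
      · norm_num at hm
      · have := dvd_trans (show 2 ∣ 4 by norm_num) hm; omega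
      · have := dvd_trans (show 2 ∣ 4 by norm_num) hm; omega
    · -- a prime `2 ^ k ± 1`
      left
      have hodd : Odd (Fintype.card F) := hprime.odd_of_ne_two (by omega)
      rw [gcd_of_odd hodd] at hmem
      obtain ⟨k', rfl⟩ : ∃ k', k = k' + 2 := by
        refine ⟨k - 2, ?_⟩
        rcases k with _ | _ | k
        · simp at hk; omega
        · simp at hk; omega
        · omega
      obtain ⟨w, hw⟩ : ∃ w : G, orderOf w = 2 ^ (k' + 1) := by
        refine torus_orders hF4 e ?_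
        rw [gcd_of_odd hodd]
        rcases hk with hk | hk
        · left
          rw [hk, Nat.add_sub_cancel, pow_succ 2 (k' + 1), Nat.mul_div_cancel _ two_pos]
        · right
          rw [hk, pow_succ 2 (k' + 1), Nat.mul_div_cancel _ two_pos]
      have hk1 : k' ≤ 1 := by
        have h4 := orderOf_dvd_of_pow_eq_one (h.pow_four (g := w) (k := k' + 1)
          (by rw [← hw, pow_orderOf_eq_one]))
        rw [hw] at h4
        have := Nat.le_of_dvd (by norm_num) h4
        by_contra hk'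
        have : 2 ^ 3 ≤ 2 ^ (k' + 1) := Nat.pow_le_pow_right two_pos (by omega)
        omega
      interval_cases k'
      · exfalso
        norm_num at hk
        have h5 : Fintype.card F = 5 := by omega
        have hp5 : p = 5 := (Nat.prime_dvd_prime_iff_eq hp (by norm_num)).1
          (by rw [← h5, hn]; exact dvd_pow_self p n.pos.ne')
        rw [h5, hp5] at hmem
        rcases hmem with hm | hm | hm <;> norm_num at hm
      · norm_num at hk
        rcases hk with hk | hk
        · rw [hk] at hprime; norm_num at hprime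
        · omega
  · exact Or.inr (Or.inl h3)
  · exact Or.inr (Or.inr ⟨hGs, hSz⟩)

end Cfsg.Agent.ThreeOrd27
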