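import Mathlib

/-!
The degree equations of an exceptional character in a group with three self-centralising
Hall subgroups: the sum of squares of the remaining multiplicities is small.
-/

set_option autoImplicit false
set_option linter.unusedVariables false

namespace Cfsg.Agent.ThreeSSC77

private theorem mul_shift_nonneg {a u : ℤ} (hu : u = 1 ∨ u = -1) :
    a * (a + u) = 0 ∨ 2 ≤ a * (a + u) := by
  rcases hu with rfl | rfl
  · rcases lt_trichotomy a (-1) with h | h | h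
    · right; nlinarith
    · left; subst h; norm_num
    · rcases eq_or_lt_of_le (show 0 ≤ a by omega) with h0 | h0
      · left; rw [← h0]; norm_num
      · right; nlinarith
  · rcases lt_trichotomy a 1 with h | h | h
    · rcases eq_or_lt_of_le (show a ≤ 0 by omega) with h0 | h0
      · left; rw [h0]; norm_num
      · right; nlinarith
    · left; subst h; norm_num
    · right; nlinarith

private theorem quad_pos {M u : ℤ} (hM : 81 ≤ M) (hu : u ≠ 0) : 0 < u * (M * u - 1) := by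
  rcases lt_or_gt_of_ne hu with h | h
  · have : M * u < 0 := mul_neg_of_pos_of_neg (by omega) h
    exact mul_pos_of_neg_of_neg h (by omega)
  · have : M * 1 ≤ M * u := mul_le_mul_of_nonneg_left (by omega) (by omega)
    exact mul_pos h (by omega)

private theorem quad_big {M u : ℤ} (hM : 81 ≤ M) (hu : u ≤ -2 ∨ 2 ≤ u) :
    4 * M - 2 ≤ u * (M * u - 1) := by
  rcases hu with h | h
  · have e1 : M * u ≤ M * (-2) := mul_le_mul_of_nonneg_left h (by omega)
    have e2 : 2 * (2 * M + 1) ≤ -u * (-(M * u - 1)) :=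
      mul_le_mul (by omega) (by omega) (by omega) (by omega)
    linarith
  · have e1 : M * 2 ≤ M * u := mul_le_mul_of_nonneg_left h (by omega)
    have e2 : 2 * (2 * M - 1) ≤ u * (M * u - 1) :=
      mul_le_mul h (by omega) (by omega) (by omega)
    linarith

private theorem case_one {n1 n2 n3 : ℕ} {u a b M : ℤ} {S : ℤ} (g1 : 5 ≤ n1) (g2 : 9 ≤ n2)
    (g3 : 9 ≤ n3) (m2 : n2 % 4 = 1) (m3 : n3 % 4 = 1) (hM : M = (n2 : ℤ) * n3)
    (hM81 : 81 ≤ M) (hNM : (n2 : ℤ) + n3 ≤ M) (hu0 : u ≠ 0) (hS3 : 3 ≤ S)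
    (hlin : 2 * M * u + n1 * (n3 * a + n2 * b) = 4)
    (hu1 : u * (M * u - 1) ≤ 3 * n1 * M)
    (hI : (n3 : ℤ) * (a * (a + u)) + n2 * (b * (b + u)) = -(2 * M * S)) : False := by
  have hodd2 : IsCoprime (n2 : ℤ) 4 := by
    refine ⟨1, -((n2 / 4 : ℕ) : ℤ), ?_⟩; omega
  have hodd3 : IsCoprime (n3 : ℤ) 4 := by
    refine ⟨1, -((n3 / 4 : ℕ) : ℤ), ?_⟩; omega
  have hca : IsCoprime (n2 : ℤ) (n3 * a) := by
    have h' := (hodd2)
    rw [← hlin, hM, show 2 * ((n2 : ℤ) * n3) * u + n1 * (n3 * a + n2 * b) =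
      (n1 : ℤ) * (n3 * a) + (n2 : ℤ) * (2 * n3 * u + n1 * b) by ring,
      IsCoprime.add_mul_left_right_iff] at h'
    exact h'.of_mul_right_right
  have hcb : IsCoprime (n3 : ℤ) (n2 * b) := by
    have h' := hodd3
    rw [← hlin, hM, show 2 * ((n2 : ℤ) * n3) * u + n1 * (n3 * a + n2 * b) =
      (n1 : ℤ) * (n2 * b) + (n3 : ℤ) * (2 * n2 * u + n1 * a) by ring,
      IsCoprime.add_mul_left_right_iff] at h'
    exact h'.of_mul_right_right
  obtain ⟨i, hi⟩ : (n2 : ℤ) ∣ a + u := by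
    refine hca.dvd_of_dvd_mul_left ⟨-2 * n3 * S - b * (b + u), ?_⟩
    linear_combination hI - 2 * (S : ℤ) * hM
  obtain ⟨l, hl⟩ : (n3 : ℤ) ∣ b + u := by
    refine hcb.dvd_of_dvd_mul_left ⟨-2 * n2 * S - a * (a + u), ?_⟩
    linear_combination hI - 2 * (S : ℤ) * hM
  obtain rfl : a = n2 * i - u := by linarith
  obtain rfl : b = n3 * l - u := by linarith
  have hQ : (n2 : ℤ) * i ^ 2 + n3 * l ^ 2 = u * (i + l) - 2 * S := by
    have key : M * ((n2 : ℤ) * i ^ 2 + n3 * l ^ 2) = M * (u * (i + l) - 2 * S) := by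
      linear_combination hI + ((n2 : ℤ) * i ^ 2 + n3 * l ^ 2 - u * (i + l)) * hM
    exact mul_left_cancel₀ (by omega) key
  obtain ⟨s, hs⟩ : ∃ s, s = i + l := ⟨_, rfl⟩
  obtain ⟨N, hN⟩ : ∃ N, N = (n2 : ℤ) + n3 := ⟨_, rfl⟩
  obtain ⟨L, hL⟩ : ∃ L, L = u * N - M * s := ⟨_, rfl⟩
  have h2 : (9 : ℤ) ≤ n2 := by exact_mod_cast g2
  have h1 : (5 : ℤ) ≤ n1 := by exact_mod_cast g1
  have hN0 : 0 < N := by omega
  have hnL : (n1 : ℤ) * L = 2 * M * u - 4 := by
    rw [hL, hN, hs, hM]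
    rw [hM] at hlin
    linear_combination -hlin
  have hid : ((n2 : ℤ) * i - n3 * l) ^ 2 = s * L - 2 * S * N := by
    rw [hL, hN, hs, hM]
    linear_combination ((n2 : ℤ) + n3) * hQ
  have hA : 6 * N ≤ s * L := by nlinarith [sq_nonneg ((n2 : ℤ) * i - n3 * l)]
  have hupos : 0 < u * (M * u - 1) := quad_pos hM81 hu0
  have hmain : N * (u * (M * u - 1)) ≤ M * s * (M * u - 2) := by
    have e1 : 6 * N * (u * (M * u - 1)) ≤ s * L * (u * (M * u - 1)) :=
      mul_le_mul_of_nonneg_right hA hupos.le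
    have e2 : s * L * (u * (M * u - 1)) ≤ s * L * (3 * n1 * M) :=
      mul_le_mul_of_nonneg_left hu1 (by linarith)
    have e3 : s * L * (3 * (n1 : ℤ) * M) = 6 * (M * s * (M * u - 2)) := by
      linear_combination 3 * M * s * hnL
    linarith
  have hsL : 0 < s * L := by linarith
  rcases lt_or_gt_of_ne hu0 with hun | hup
  · have hLn : L < 0 := by
      have : M * u < 0 := mul_neg_of_pos_of_neg (by omega) hun
      have : (n1 : ℤ) * L < 0 := by linarith
      by_contra hc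
      have : 0 ≤ (n1 : ℤ) * L := mul_nonneg (by omega) (by omega)
      linarith
    have hsn : s < 0 := by
      by_contra hc
      have : s * L ≤ 0 := mul_nonpos_of_nonneg_of_nonpos (by omega) hLn.le
      linarith
    have hus : u < s := by
      by_contra hc
      have e1 : M * s ≤ M * u := mul_le_mul_of_nonneg_left (by omega) (by omega)
      have e2 : M * u ≤ N * u := mul_le_mul_of_nonpos_right (by omega) hun.le
      linarith
    have hn1 : (n1 : ℤ) ≤ 4 - 2 * M * u := by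
      have : (n1 : ℤ) * L ≤ (n1 : ℤ) * (-1) := mul_le_mul_of_nonneg_left (by omega) (by omega)
      linarith
    have huu : u ^ 2 ≤ 3 * (n1 : ℤ) := by
      have : M * u ^ 2 ≤ M * (3 * n1) := by linarith
      exact le_of_mul_le_mul_left this (by omega)
    have hprod : u * s < u ^ 2 := by rw [sq]; exact mul_lt_mul_of_neg_left hus hun
    have e : (N * (u * (M * u - 1)) - M * s * (M * u - 2)) * (-s) =
        s * L * (2 - M * u) - N * (u * s) := by rw [hL]; ring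
    have e1 : 6 * N * (2 - M * u) ≤ s * L * (2 - M * u) :=
      mul_le_mul_of_nonneg_right hA (by linarith [mul_neg_of_pos_of_neg (show 0 < M by omega) hun])
    have e2 : N * (u * s) < 6 * N * (2 - M * u) := by
      have : u * s < 6 * (2 - M * u) := by linarith
      linarith [mul_lt_mul_of_pos_left this hN0]
    have e3 : (N * (u * (M * u - 1)) - M * s * (M * u - 2)) * (-s) ≤ 0 :=
      mul_nonpos_of_nonpos_of_nonneg (by linarith) (by omega)
    linarith
  · have hMu : 2 < M * u := by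
      have : M * 1 ≤ M * u := mul_le_mul_of_nonneg_left (by omega) (by omega)
      omega
    have hLp : 0 < L := by
      by_contra hc
      have : (n1 : ℤ) * L ≤ 0 := mul_nonpos_of_nonneg_of_nonpos (by omega) (by omega)
      linarith
    have hlt : M * s < u * N := by linarith
    have e1 : M * s * (M * u - 2) < u * N * (M * u - 2) :=
      mul_lt_mul_of_pos_right hlt (by linarith)
    linarith [mul_pos hup hN0]

private theorem case_pos {n1 n2 n3 : ℕ} {u a b M j hz : ℤ} {S : ℕ} (o1 : Odd n1) (g1 : 5 ≤ n1)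
    (g2 : 9 ≤ n2) (g3 : 9 ≤ n3) (hM81 : 81 ≤ M) (hM4 : M % 4 = 1) (hu0 : u ≠ 0) (hjp : 1 ≤ j)
    (hlin : 2 * M * u + n1 * (n3 * a + n2 * b) = 4) (hj : hz ^ 2 - 1 = n1 * j)
    (hbj : j * (u * (M * u - 1)) * n1 + u * (M * u - 1) ≤ 3 * M * n1)
    (hI : (n3 : ℤ) * (a * (a + u)) + n2 * (b * (b + u)) = 4 * j * (u * (M * u - 1)) - 2 * M * S) :
    S ≤ 1 := by
  have h2 : (9 : ℤ) ≤ n2 := by exact_mod_cast g2
  have h3 : (9 : ℤ) ≤ n3 := by exact_mod_cast g3
  have h1 : (5 : ℤ) ≤ n1 := by exact_mod_cast g1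
  have hu1 : u = 1 ∨ u = -1 := by
    by_contra hc
    have hbig : 4 * M - 2 ≤ u * (M * u - 1) := by
      exact quad_big hM81 (by omega)
    have e1 : 1 * (u * (M * u - 1)) ≤ j * (u * (M * u - 1)) :=
      mul_le_mul_of_nonneg_right hjp (by linarith)
    have e2 : (4 * M - 2) * (n1 : ℤ) ≤ j * (u * (M * u - 1)) * n1 :=
      mul_le_mul_of_nonneg_right (by linarith) (by omega)
    nlinarith
  have hw : u * (M * u - 1) = M - u := by
    rcases hu1 with rfl | rfl <;> ring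
  rw [hw] at hI hbj
  have hu' : u ≤ 1 := by omega
  have hu'' : -1 ≤ u := by omega
  have hj3 : j ≤ 3 := by
    by_contra hc
    have e1 : 4 * (M - u) ≤ j * (M - u) := mul_le_mul_of_nonneg_right (by omega) (by omega)
    have e2 : (4 * (M - u)) * (n1 : ℤ) ≤ j * (M - u) * n1 :=
      mul_le_mul_of_nonneg_right e1 (by omega)
    nlinarith
  have hh1 : hz ^ 2 = n1 * j + 1 := by linarith
  obtain ⟨k, hk⟩ := o1
  have hh4 : hz ^ 2 % 4 = 0 ∨ hz ^ 2 % 4 = 1 := by
    rcases Int.even_or_odd hz with ⟨c, hc⟩ | ⟨c, hc⟩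
    · left; rw [hc, show (c + c) ^ 2 = c ^ 2 * 4 by ring]; simp
    · right; rw [hc, show (2 * c + 1) ^ 2 = 1 + (c ^ 2 + c) * 4 by ring]; simp [Int.add_emod]
  have hpa := mul_shift_nonneg (a := a) hu1
  have hpb := mul_shift_nonneg (a := b) hu1
  have hS : (0 : ℤ) ≤ S := by positivity
  interval_cases j
  · by_contra hc
    have hS2 : (2 : ℤ) ≤ S := by exact_mod_cast (show 2 ≤ S by omega)
    have hl : 0 ≤ (n3 : ℤ) * (a * (a + u)) + n2 * (b * (b + u)) := by
      rcases hpa with e | e <;> rcases hpb with e' | e' <;> positivity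
    rcases eq_or_lt_of_le hS2 with e | e
    · rw [← e] at hI
      rcases hpa with e1 | e1 <;> rcases hpb with e2 | e2
      · rw [e1, e2] at hI; omega
      all_goals nlinarith
    · nlinarith
  · omega
  · exfalso
    rcases hu1 with rfl | rfl
    · have hM3 : M ≤ 3 * n1 + 1 := by linarith
      obtain ⟨q, hq⟩ : ∃ q, q = (n3 : ℤ) * a + n2 * b := ⟨_, rfl⟩
      rw [← hq] at hlin
      have hqe : q % 2 = 0 := by
        have : ((n1 : ℤ) * q) % 2 = 0 := by omega
        rw [Int.mul_emod, show (n1 : ℤ) % 2 = 1 by omega] at this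
        simpa using this
      obtain ⟨r, rfl⟩ : ∃ r, q = 2 * r := ⟨q / 2, by omega⟩
      have hr : (n1 : ℤ) * r = 2 - M := by linarith
      have hr1 : r ≤ -1 := by nlinarith
      have hr2 : -2 ≤ r := by nlinarith
      interval_cases r <;> omega
    · nlinarith

/-- The degree equations bound the sum of squares `S` of the other multiplicities. -/
theorem degree_bound {n1 n2 n3 h f S : ℕ} {u a b : ℤ} (o1 : Odd n1) (g1 : 5 ≤ n1) (g2 : 9 ≤ n2)
    (g3 : 9 ≤ n3) (m2 : n2 % 4 = 1) (m3 : n3 % 4 = 1) (c12 : Nat.Coprime n1 n2)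
    (c13 : Nat.Coprime n1 n3) (c23 : Nat.Coprime n2 n3)
    (hlin : 2 * ((n2 : ℤ) * n3) * u + n1 * (n3 * a + n2 * b) = 4)
    (hf : (f : ℤ) = (h : ℤ) ^ 2 * u * ((n2 : ℤ) * n3 * u - 1)) (hpos : 0 < f)
    (hdeg : 4 * (f : ℤ) = 2 * ((n2 : ℤ) * n3) * u ^ 2 + n1 * n3 * a ^ 2 + n1 * n2 * b ^ 2 +
      2 * ((n1 : ℤ) * (n2 * n3)) * S)
    (hb : f ≤ 3 * (n1 * n2 * n3)) : S ≤ 1 ∨ (h = 1 ∧ S = 2) := by
  have h2 : (9 : ℤ) ≤ n2 := by exact_mod_cast g2
  have h3 : (9 : ℤ) ≤ n3 := by exact_mod_cast g3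
  have h1 : (5 : ℤ) ≤ n1 := by exact_mod_cast g1
  have hbZ : (f : ℤ) ≤ 3 * ((n1 : ℤ) * n2 * n3) := by exact_mod_cast hb
  have hfZ : (0 : ℤ) < f := by exact_mod_cast hpos
  obtain ⟨M, hM⟩ : ∃ M, M = (n2 : ℤ) * n3 := ⟨_, rfl⟩
  have hM81 : (81 : ℤ) ≤ M := by rw [hM]; nlinarith
  have hNM : (n2 : ℤ) + n3 ≤ M := by rw [hM]; nlinarith
  have hM4 : M % 4 = 1 := by
    rw [hM, Int.mul_emod, show (n2 : ℤ) % 4 = 1 by omega, show (n3 : ℤ) % 4 = 1 by omega]
    norm_num
  rw [← hM] at hlin hf hdeg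
  have hu0 : u ≠ 0 := by rintro rfl; simp at hf; omega
  have hh0 : 0 < h := by
    rcases Nat.eq_zero_or_pos h with rfl | hh
    · simp at hf; omega
    · exact hh
  -- `h ^ 2 ≡ 1` modulo `n1`
  have hdiv : (n1 : ℤ) ∣ ((h : ℤ) ^ 2 - 1) * (4 * u) := by
    refine ⟨(n3 * a ^ 2 + n2 * b ^ 2 + 2 * M * S) + u * (n3 * a + n2 * b) * (2 * h ^ 2 - 1), ?_⟩
    linear_combination u * (1 - 2 * (h : ℤ) ^ 2) * hlin + hdeg - 4 * hf
  have hodd : ¬ 2 ∣ n1 := by
    intro hd; obtain ⟨k, hk⟩ := o1; omega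
  have hcop : IsCoprime (n1 : ℤ) (4 * u) := by
    rw [Int.isCoprime_iff_gcd_eq_one]
    by_contra hne
    obtain ⟨p, hp, hpd⟩ := Nat.exists_prime_and_dvd hne
    have hpd' : ((p : ℕ) : ℤ) ∣ ((Int.gcd (n1 : ℤ) (4 * u) : ℕ) : ℤ) := Int.natCast_dvd_natCast.2 hpd
    have hp1 : (p : ℤ) ∣ (n1 : ℤ) := hpd'.trans (Int.gcd_dvd_left _ _)
    have hpu : (p : ℤ) ∣ 4 * u := hpd'.trans (Int.gcd_dvd_right _ _)
    have hpn : p ∣ n1 := Int.natCast_dvd_natCast.1 hp1
    have hp2 : p ≠ 2 := fun e => hodd (e ▸ hpn)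
    have hP : Prime (p : ℤ) := Nat.prime_iff_prime_int.1 hp
    have hp4 : ¬ (p : ℤ) ∣ 4 := by
      intro hd
      have hd' : p ∣ 2 ^ 2 := by exact_mod_cast hd
      exact hp2 ((Nat.prime_dvd_prime_iff_eq hp Nat.prime_two).1 (hp.dvd_of_dvd_pow hd'))
    have hpu' : (p : ℤ) ∣ u := (hP.dvd_or_dvd hpu).resolve_left hp4
    refine hp4 ?_
    rw [← hlin]
    exact dvd_add (hpu'.mul_left _) (hp1.mul_right _)
  obtain ⟨j, hj⟩ := hcop.dvd_of_dvd_mul_right hdiv
  have hj0 : 0 ≤ j := by nlinarith [show (1 : ℤ) ≤ (h : ℤ) by exact_mod_cast hh0]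
  have hI : (n3 : ℤ) * (a * (a + u)) + n2 * (b * (b + u)) = 4 * j * (u * (M * u - 1)) - 2 * M * S := by
    have key : (n1 : ℤ) * ((n3 : ℤ) * (a * (a + u)) + n2 * (b * (b + u))) =
        (n1 : ℤ) * (4 * j * (u * (M * u - 1)) - 2 * M * S) := by
      linear_combination u * hlin - hdeg + 4 * hf + 4 * u * (M * u - 1) * hj
    exact mul_left_cancel₀ (by omega) key
  have hsq : 0 ≤ (n1 : ℤ) * n3 * a ^ 2 + n1 * n2 * b ^ 2 := by positivity
  have hu2 : 0 < u ^ 2 := by positivity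
  have hS6 : (S : ℤ) < 6 := by
    by_contra hS
    have e1 : 2 * ((n1 : ℤ) * M) * 6 ≤ 2 * ((n1 : ℤ) * M) * S :=
      mul_le_mul_of_nonneg_left (by omega) (by positivity)
    have e2 : 0 < M * u ^ 2 := mul_pos (by omega) hu2
    rw [hM] at e1 e2 hdeg
    nlinarith
  have hbM : (f : ℤ) ≤ 3 * n1 * M := by rw [hM]; linarith
  rcases eq_or_lt_of_le hj0 with rfl | hjp
  · -- `h = 1`
    have hh1 : h = 1 := by
      have : (h : ℤ) ^ 2 = 1 := by linarith
      have : h ^ 2 = 1 := by exact_mod_cast this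
      simpa using this
    rw [show (h : ℤ) = 1 by exact_mod_cast hh1] at hf
    rcases Nat.lt_or_ge S 2 with hS | hS
    · left; omega
    refine Or.inr ⟨hh1, ?_⟩
    by_contra hne
    refine case_one g1 g2 g3 m2 m3 hM hM81 hNM hu0 (S := (S : ℤ)) ?_ hlin ?_ ?_
    · exact_mod_cast (show 3 ≤ S by omega)
    · linarith
    · linarith
  · left
    refine case_pos o1 g1 g2 g3 hM81 hM4 hu0 hjp hlin hj ?_ hI
    have : (f : ℤ) = j * (u * (M * u - 1)) * n1 + u * (M * u - 1) := by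
      linear_combination hf + u * (M * u - 1) * hj
    linarith

end Cfsg.Agent.ThreeSSC77
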