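import Mathlib

/-!
# Strongly self-centralising subgroups

A subgroup `A` is strongly self-centralising when `C(a) = A` for all `1 ≠ a ∈ A`; `e` is its
index in its normaliser.
-/

set_option autoImplicit false

namespace Cfsg.Agent.ThreeSSC77

open scoped Classical

universe u

variable {G : Type u} [Group G]

/-- A strongly self-centralising subgroup with index `e` in its normaliser. -/
structure SSC (A : Subgroup G) (e : ℕ) : Prop where
  cent : ∀ a ∈ A, a ≠ 1 → Subgroup.centralizer ({a} : Set G) = A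
  idx : A.relIndex (Subgroup.normalizer (A : Set G)) = e
  one_lt : 1 < Nat.card A

/-- The elements conjugate into `A` other than `1`. -/
def InA (A : Subgroup G) (g : G) : Prop := g ≠ 1 ∧ ∃ x : G, x * g * x⁻¹ ∈ A

theorem InA.conj {A : Subgroup G} {g : G} (h : InA A g) (x : G) : InA A (x * g * x⁻¹) := by
  obtain ⟨h1, y, hy⟩ := h
  refine ⟨fun e => h1 ?_, y * x⁻¹, ?_⟩
  · simpa using e
  · simpa [mul_assoc] using hy

theorem inA_conj_iff {A : Subgroup G} {g : G} (x : G) : InA A (x * g * x⁻¹) ↔ InA A g :=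
  ⟨fun h => by simpa [mul_assoc] using h.conj x⁻¹, fun h => h.conj x⟩

/-- The automorphism of `A` induced by an element of its normaliser. -/
def conjHom {A : Subgroup G} {x : G} (hx : x ∈ Subgroup.normalizer (A : Set G)) : A →* A where
  toFun a := ⟨x * a * x⁻¹, (Subgroup.mem_normalizer_iff.1 hx a).1 a.2⟩
  map_one' := Subtype.ext (by simp)
  map_mul' a b := Subtype.ext (by simp [mul_assoc])

namespace SSC

variable {A : Subgroup G} {e : ℕ} (h : SSC A e)
include h

theorem comm {a b : G} (ha : a ∈ A) (hb : b ∈ A) : a * b = b * a := by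
  by_cases h1 : a = 1
  · simp [h1]
  · rw [← h.cent a ha h1] at hb
    exact (Subgroup.mem_centralizer_singleton_iff.1 hb).symm

theorem mem_of_comm {a g : G} (ha : a ∈ A) (h1 : a ≠ 1) (hg : g * a = a * g) : g ∈ A := by
  rw [← h.cent a ha h1, Subgroup.mem_centralizer_singleton_iff]
  exact hg

theorem mem_normalizer {a x : G} (ha : a ∈ A) (h1 : a ≠ 1) (hx : x * a * x⁻¹ ∈ A) :
    x ∈ Subgroup.normalizer (A : Set G) := by
  have h1' : x * a * x⁻¹ ≠ 1 := fun e' => h1 (by simpa using e')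
  rw [Subgroup.mem_normalizer_iff]
  intro b
  constructor
  · intro hb
    refine h.mem_of_comm hx h1' ?_
    calc x * b * x⁻¹ * (x * a * x⁻¹) = x * (b * a) * x⁻¹ := by group
      _ = x * (a * b) * x⁻¹ := by rw [h.comm hb ha]
      _ = _ := by group
  · intro hb
    refine h.mem_of_comm ha h1 ?_
    have := h.comm hb hx
    calc b * a = x⁻¹ * (x * b * x⁻¹ * (x * a * x⁻¹)) * x := by group
      _ = x⁻¹ * (x * a * x⁻¹ * (x * b * x⁻¹)) * x := by rw [this]
      _ = _ := by group

theorem cent_eq_one_or {x : G} (hx : x ∉ A) {a : G} (ha : a ∈ A) (hc : x * a * x⁻¹ = a) : a = 1 := by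
  by_contra h1
  refine hx (h.mem_of_comm ha h1 ?_)
  exact mul_inv_eq_iff_eq_mul.1 hc

theorem inA_of_mem {a : G} (ha : a ∈ A) (h1 : a ≠ 1) : InA A a := ⟨h1, 1, by simpa using ha⟩

theorem centralizer_inA {g : G} (hg : InA A g) :
    ∃ x : G, ∀ c : G, c ∈ Subgroup.centralizer ({g} : Set G) ↔ x * c * x⁻¹ ∈ A := by
  obtain ⟨h1, x, hx⟩ := hg
  refine ⟨x, fun c => ?_⟩
  have h1' : x * g * x⁻¹ ≠ 1 := fun e' => h1 (by simpa using e')
  have hc := h.cent _ hx h1'
  rw [Subgroup.mem_centralizer_singleton_iff, ← hc, Subgroup.mem_centralizer_singleton_iff]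
  constructor
  · intro e'
    calc x * c * x⁻¹ * (x * g * x⁻¹) = x * (c * g) * x⁻¹ := by group
      _ = x * (g * c) * x⁻¹ := by rw [e']
      _ = _ := by group
  · intro e'
    calc c * g = x⁻¹ * (x * c * x⁻¹ * (x * g * x⁻¹)) * x := by group
      _ = x⁻¹ * (x * g * x⁻¹ * (x * c * x⁻¹)) * x := by rw [e']
      _ = _ := by group

variable [Finite G]

theorem card_centralizer_inA {g : G} (hg : InA A g) :
    Nat.card (Subgroup.centralizer ({g} : Set G)) = Nat.card A := by
  obtain ⟨x, hx⟩ := h.centralizer_inA hg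
  exact Nat.card_congr
    { toFun := fun c => ⟨x * c * x⁻¹, (hx c).1 c.2⟩
      invFun := fun a => ⟨x⁻¹ * a * x, (hx _).2 (by simp [mul_assoc])⟩
      left_inv := fun c => Subtype.ext (by group)
      right_inv := fun a => Subtype.ext (by group) }

theorem le_normalizer' : A ≤ Subgroup.normalizer (A : Set G) := Subgroup.le_normalizer

theorem card_normalizer : Nat.card (Subgroup.normalizer (A : Set G)) = e * Nat.card A := by
  rw [← h.idx, Subgroup.relIndex, ← Nat.card_congr (Subgroup.subgroupOfEquivOfLe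
    (Subgroup.le_normalizer (H := A))).toEquiv, mul_comm, Subgroup.card_mul_index]

theorem e_pos : 0 < e :=
  Nat.pos_of_ne_zero fun h0 =>
    (Nat.card_pos (α := Subgroup.normalizer (A : Set G))).ne' (by rw [h.card_normalizer, h0, zero_mul])

theorem card_dvd : e * Nat.card A ∣ Nat.card G := by
  rw [← h.card_normalizer]; exact Subgroup.card_subgroup_dvd_card _

theorem exists_sylow_le {r : ℕ} [Fact r.Prime] (hr : r ∣ Nat.card A) :
    ∃ Q : Sylow r G, (Q : Subgroup G) ≤ A := by
  obtain ⟨a, ha⟩ := exists_prime_orderOf_dvd_card' (G := A) r hr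
  rw [← Subgroup.orderOf_coe] at ha
  have h1 : (a : G) ≠ 1 := fun e' => by
    rw [e', orderOf_one] at ha; exact (Fact.out : r.Prime).one_lt.ne ha
  obtain ⟨Q, hQ⟩ := (IsPGroup.of_card (p := r) (n := 1)
    (by rw [Nat.card_zpowers, ha, pow_one]) : IsPGroup r (Subgroup.zpowers (a : G))).exists_le_sylow
  refine ⟨Q, ?_⟩
  have haQ : (a : G) ∈ (Q : Subgroup G) := hQ (Subgroup.mem_zpowers _)
  haveI : Nontrivial (Q : Subgroup G) := ⟨⟨⟨a, haQ⟩, 1, fun e' => h1 (congrArg Subtype.val e')⟩⟩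
  haveI := Q.isPGroup'.center_nontrivial
  obtain ⟨z, hz⟩ := exists_ne (1 : Subgroup.center (Q : Subgroup G))
  have hzc : ∀ q ∈ (Q : Subgroup G),
      q * ((z : (Q : Subgroup G)) : G) = (z : (Q : Subgroup G)) * q :=
    fun q hq => congrArg Subtype.val (Subgroup.mem_center_iff.1 z.2 ⟨q, hq⟩)
  have hzA : ((z : (Q : Subgroup G)) : G) ∈ A := h.mem_of_comm a.2 h1 (hzc _ haQ).symm
  have hz1 : ((z : (Q : Subgroup G)) : G) ≠ 1 := fun e' => hz (Subtype.ext (Subtype.ext e'))
  exact fun q hq => h.mem_of_comm hzA hz1 (hzc q hq)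

theorem coprime_index : Nat.Coprime (Nat.card A) A.index := by
  refine Nat.coprime_of_dvd fun r hr hrA hri => ?_
  haveI := Fact.mk hr
  obtain ⟨Q, hQ⟩ := h.exists_sylow_le hrA
  exact Q.not_dvd_index' (fun h0 => Subgroup.index_ne_zero_of_finite h0)
    (hri.trans (Subgroup.index_dvd_of_le hQ))

theorem coprime_e : Nat.Coprime (Nat.card A) e := by
  refine Nat.Coprime.coprime_dvd_right ?_ h.coprime_index
  rw [← h.idx]
  exact Subgroup.relIndex_dvd_index_of_le Subgroup.le_normalizer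

theorem odd_card (he : Even e) : Odd (Nat.card A) := by
  refine Nat.not_even_iff_odd.1 fun hn => ?_
  exact Nat.not_coprime_of_dvd_of_dvd one_lt_two hn.two_dvd he.two_dvd h.coprime_e

theorem comm_bijective {x : G} (hx : x ∈ Subgroup.normalizer (A : Set G)) (hxA : x ∉ A) :
    Function.Bijective (fun a : A => a⁻¹ * conjHom hx a) := by
  refine Finite.injective_iff_bijective.1 fun a b hab => ?_
  have hab' : (a : G)⁻¹ * (x * a * x⁻¹) = (b : G)⁻¹ * (x * b * x⁻¹) := congrArg Subtype.val hab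
  refine Subtype.ext (mul_inv_eq_one.1 (h.cent_eq_one_or hxA (A.mul_mem a.2 (A.inv_mem b.2)) ?_))
  have h2 : x * (a : G) * x⁻¹ = a * ((b : G)⁻¹ * (x * b * x⁻¹)) := by rw [← hab']; group
  calc x * ((a : G) * (b : G)⁻¹) * x⁻¹ = (x * a * x⁻¹) * (x * b * x⁻¹)⁻¹ := by group
    _ = _ := by rw [h2]; group

/-- A map on the normaliser constant exactly on the cosets of `A` has an image of size `e`. -/
theorem card_image {X : Type*} (φ : Subgroup.normalizer (A : Set G) → X)
    (hφ : ∀ x y, φ x = φ y ↔ ((x : G))⁻¹ * y ∈ A) : Nat.card (Set.range φ) = e := by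
  rw [← h.idx, Subgroup.relIndex, Subgroup.index]
  refine (Nat.card_congr (Equiv.ofBijective (fun q => Quotient.liftOn' q
    (fun x => (⟨φ x, x, rfl⟩ : Set.range φ)) fun x y hxy => ?_) ⟨?_, ?_⟩)).symm
  · rw [QuotientGroup.leftRel_apply] at hxy
    exact Subtype.ext ((hφ x y).2 (Subgroup.mem_subgroupOf.1 hxy))
  · intro q₁ q₂
    induction q₁ using QuotientGroup.induction_on with
    | H x =>
      induction q₂ using QuotientGroup.induction_on with
      | H y =>
        intro hxy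
        rw [QuotientGroup.eq, Subgroup.mem_subgroupOf]
        exact (hφ x y).1 (congrArg Subtype.val hxy)
  · rintro ⟨_, x, rfl⟩
    exact ⟨QuotientGroup.mk x, rfl⟩

/-- The number of `G`-conjugates in `A` of a non-trivial element of `A`. -/
theorem card_conj_in {a : G} (ha : a ∈ A) (h1 : a ≠ 1) :
    Nat.card {b : G // b ∈ A ∧ IsConj a b} = e := by
  rw [← h.card_image (X := G) (fun x => (x : G) * a * (x : G)⁻¹) fun x y => ?_]
  · refine Nat.card_congr (Equiv.subtypeEquivRight fun b => ⟨?_, ?_⟩)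
    · rintro ⟨hb, hab⟩
      obtain ⟨x, rfl⟩ := isConj_iff.1 hab
      exact ⟨⟨x, h.mem_normalizer ha h1 hb⟩, rfl⟩
    · rintro ⟨x, rfl⟩
      exact ⟨(Subgroup.mem_normalizer_iff.1 x.2 a).1 ha, isConj_iff.2 ⟨x, rfl⟩⟩
  · constructor
    · intro hxy
      refine h.mem_of_comm ha h1 ?_
      calc (x : G)⁻¹ * y * a = (x : G)⁻¹ * ((y : G) * a * (y : G)⁻¹) * y := by group
        _ = (x : G)⁻¹ * ((x : G) * a * (x : G)⁻¹) * y := by rw [← hxy]
        _ = a * ((x : G)⁻¹ * y) := by group
    · intro hxy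
      have := h.comm hxy ha
      calc (x : G) * a * (x : G)⁻¹ = (x : G) * (a * ((x : G)⁻¹ * y)) * (y : G)⁻¹ := by group
        _ = (x : G) * ((x : G)⁻¹ * y * a) * (y : G)⁻¹ := by rw [this]
        _ = _ := by group

/-- The classes meeting `A ∖ {1}`: `e` elements of `A` in each. -/
theorem card_classes :
    e * Nat.card {C : ConjClasses G // ∃ a ∈ A, a ≠ 1 ∧ ConjClasses.mk a = C} =
      Nat.card A - 1 := by
  let S := {a : G // a ∈ A ∧ a ≠ 1}
  have hS : Nat.card S = Nat.card A - 1 := by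
    haveI := Fintype.ofFinite G
    have h2 : Nat.card S = Nat.card {a : A // a ≠ 1} := Nat.card_congr
      { toFun := fun a => ⟨⟨a.1, a.2.1⟩, fun e' => a.2.2 (congrArg Subtype.val e')⟩
        invFun := fun a => ⟨a.1, a.1.2, fun e' => a.2 (Subtype.ext e')⟩
        left_inv := fun _ => rfl
        right_inv := fun _ => rfl }
    rw [h2, Nat.card_eq_fintype_card, Nat.card_eq_fintype_card, Fintype.card_subtype_compl,
      Fintype.card_subtype_eq]
  set T := {C : ConjClasses G // ∃ a ∈ A, a ≠ 1 ∧ ConjClasses.mk a = C}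
  let π : S → T := fun a => ⟨ConjClasses.mk a.1, a.1, a.2.1, a.2.2, rfl⟩
  haveI := Fintype.ofFinite S
  haveI := Fintype.ofFinite T
  rw [← hS, Nat.card_eq_fintype_card (α := S), ← Fintype.card_congr (Equiv.sigmaFiberEquiv π),
    Fintype.card_sigma, Finset.sum_const_nat (m := e), Finset.card_univ,
    ← Nat.card_eq_fintype_card, mul_comm]
  rintro ⟨C, a, ha, h1, rfl⟩ -
  rw [← Nat.card_eq_fintype_card, ← h.card_conj_in ha h1]
  exact Nat.card_congr
    { toFun := fun b => ⟨b.1.1, b.1.2.1,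
        (ConjClasses.mk_eq_mk_iff_isConj.1 (congrArg Subtype.val b.2)).symm⟩
      invFun := fun b => ⟨⟨b.1, b.2.1, fun e' => h1 (by
        have := b.2.2; rw [e', isConj_one_left] at this; exact this)⟩,
        Subtype.ext (ConjClasses.mk_eq_mk_iff_isConj.2 b.2.2.symm)⟩
      left_inv := fun _ => rfl
      right_inv := fun _ => rfl }

theorem dvd_pred : e ∣ Nat.card A - 1 := Dvd.intro _ h.card_classes

/-- For `e` even an involution of the normaliser inverts `A`. -/
theorem exists_inverting (he : Even e) :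
    ∃ t : G, orderOf t = 2 ∧ t ∉ A ∧ ∀ a ∈ A, t * a * t⁻¹ = a⁻¹ := by
  have h2 : 2 ∣ Nat.card (Subgroup.normalizer (A : Set G)) := by
    rw [h.card_normalizer]; exact he.two_dvd.mul_right _
  haveI : Fact (Nat.Prime 2) := ⟨Nat.prime_two⟩
  obtain ⟨⟨t, htN⟩, ht⟩ := exists_prime_orderOf_dvd_card' (G := Subgroup.normalizer (A : Set G)) 2 h2
  rw [← Subgroup.orderOf_coe] at ht
  have htA : t ∉ A := fun hm => by
    have h3 := Subgroup.orderOf_dvd_natCard A hm
    rw [ht] at h3
    exact Nat.not_even_iff_odd.2 (h.odd_card he) (even_iff_two_dvd.2 h3)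
  refine ⟨t, ht, htA, fun a ha => ?_⟩
  obtain ⟨b, hb⟩ := (h.comm_bijective htN htA).2 ⟨a, ha⟩
  have hb' : (b : G)⁻¹ * (t * b * t⁻¹) = a := congrArg Subtype.val hb
  have ht2 : t * t = 1 := by rw [← pow_two, ← ht, pow_orderOf_eq_one]
  have ht' : t⁻¹ = t := inv_eq_of_mul_eq_one_left ht2
  rw [← hb', ht']
  calc t * ((b : G)⁻¹ * (t * b * t)) * t = t * (b : G)⁻¹ * t * b * (t * t) := by group
    _ = t * (b : G)⁻¹ * t * b := by rw [ht2, mul_one]
    _ = ((b : G)⁻¹ * (t⁻¹ * b * t⁻¹))⁻¹ := by group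
    _ = _ := by rw [ht']

omit [Finite G] in
/-- All involutions of `t A` and only these invert a non-trivial element of `A`. -/
theorem inverting_iff {t : G} (ht : orderOf t = 2) (hti : ∀ a ∈ A, t * a * t⁻¹ = a⁻¹)
    {a : G} (ha : a ∈ A) (h1 : a ≠ 1) (p : G) :
    p * a * p⁻¹ = a⁻¹ ↔ t * p ∈ A := by
  have ht2 : t * t = 1 := by rw [← pow_two, ← ht, pow_orderOf_eq_one]
  have ht' : t⁻¹ = t := inv_eq_of_mul_eq_one_left ht2
  constructor
  · intro hp
    refine h.mem_of_comm ha h1 ?_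
    have h3 : t * (p * a * p⁻¹) * t⁻¹ = a := by rw [hp, hti _ (A.inv_mem ha), inv_inv]
    calc t * p * a = t * (p * a * p⁻¹) * t⁻¹ * (t * p) := by group
      _ = a * (t * p) := by rw [h3]
  · intro hp
    have h3 := h.comm hp ha
    calc p * a * p⁻¹ = t⁻¹ * ((t * p) * a) * p⁻¹ := by group
      _ = t⁻¹ * (a * (t * p)) * p⁻¹ := by rw [h3]
      _ = t⁻¹ * a * t := by group
      _ = t * a * t⁻¹ := by rw [ht']
      _ = a⁻¹ := hti a ha

/-- The elements `t a` are conjugates of `t` and square to `1`. -/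
theorem conj_t {t : G} (ht : orderOf t = 2) (hti : ∀ a ∈ A, t * a * t⁻¹ = a⁻¹) (he : Even e)
    {a : G} (ha : a ∈ A) : ∃ b ∈ A, t * a = b * t * b⁻¹ ∧ orderOf (t * a) = 2 := by
  have hodd : (Nat.card A).Coprime 2 := (Nat.coprime_two_right).2 (h.odd_card he)
  obtain ⟨c, hc⟩ := (powCoprime hodd).surjective (⟨a, ha⟩ : A)
  have hc' : (c : G) ^ 2 = a := congrArg Subtype.val hc
  refine ⟨(c : G)⁻¹, A.inv_mem c.2, ?_, ?_⟩
  · have := hti (c : G) c.2
    calc t * a = t * (c : G) * t⁻¹ * t * c := by rw [← hc', pow_two]; group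
      _ = _ := by rw [this]; group
  · have he' : IsConj t (t * a) := isConj_iff.2 ⟨(c : G)⁻¹, by
      have := hti (c : G) c.2
      calc (c : G)⁻¹ * t * ((c : G)⁻¹)⁻¹ = t * (c : G) * t⁻¹ * t * c := by rw [this]; group
        _ = _ := by rw [← hc', pow_two]; group⟩
    obtain ⟨x, hx⟩ := isConj_iff.1 he'
    rw [← hx, show x * t * x⁻¹ = MulAut.conj x t from rfl, MulEquiv.orderOf_eq, ht]

/-- For `e = 4` there is an element of order four. -/
theorem exists_order_four (he : e = 4) : ∃ f : G, orderOf f = 4 := by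
  have he2 : Even e := he ▸ ⟨2, rfl⟩
  have h4 : 2 ^ 2 ∣ Nat.card (Subgroup.normalizer (A : Set G)) := by
    rw [h.card_normalizer, he]; exact Dvd.intro _ rfl
  haveI : Fact (Nat.Prime 2) := ⟨Nat.prime_two⟩
  obtain ⟨K, hK⟩ := Sylow.exists_subgroup_card_pow_prime (G := Subgroup.normalizer (A : Set G)) 2 h4
  obtain ⟨t, ht, htA, hti⟩ := h.exists_inverting he2
  by_contra hno
  push Not at hno
  have hinv : ∀ k : K, k ≠ 1 → orderOf (((k : Subgroup.normalizer (A : Set G)) : G)) = 2 := by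
    intro k hk
    have h5 : orderOf k ∣ 2 ^ 2 := hK ▸ orderOf_dvd_natCard k
    rw [Subgroup.orderOf_coe, Subgroup.orderOf_coe]
    obtain ⟨i, hi, hi'⟩ := (Nat.dvd_prime_pow Nat.prime_two).1 h5
    interval_cases i
    · exact absurd (orderOf_eq_one_iff.1 hi') hk
    · exact hi'
    · exact absurd (by rw [Subgroup.orderOf_coe, Subgroup.orderOf_coe]; exact hi') (hno _)
  -- every non-trivial element of `K` inverts `A`
  have key : ∀ k : K, k ≠ 1 → ∀ a ∈ A,
      ((k : Subgroup.normalizer (A : Set G)) : G) * a *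
        ((k : Subgroup.normalizer (A : Set G)) : G)⁻¹ = a⁻¹ := by
    intro k hk a ha
    set s := ((k : Subgroup.normalizer (A : Set G)) : G)
    have hs2 := hinv k hk
    have hsA : s ∉ A := fun hm => by
      have h3 := Subgroup.orderOf_dvd_natCard A hm
      rw [hs2] at h3
      exact Nat.not_even_iff_odd.2 (h.odd_card he2) (even_iff_two_dvd.2 h3)
    obtain ⟨b, hb⟩ := (h.comm_bijective (k : Subgroup.normalizer (A : Set G)).2 hsA).2 ⟨a, ha⟩
    have hb' : (b : G)⁻¹ * (s * b * s⁻¹) = a := congrArg Subtype.val hb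
    have hs : s * s = 1 := by rw [← pow_two, ← hs2, pow_orderOf_eq_one]
    have hs' : s⁻¹ = s := inv_eq_of_mul_eq_one_left hs
    rw [← hb', hs']
    calc s * ((b : G)⁻¹ * (s * b * s)) * s = s * (b : G)⁻¹ * s * b * (s * s) := by group
      _ = s * (b : G)⁻¹ * s * b := by rw [hs, mul_one]
      _ = ((b : G)⁻¹ * (s⁻¹ * b * s⁻¹))⁻¹ := by group
      _ = _ := by rw [hs']
  -- hence any two of them are equal
  have huniq : ∀ k l : K, k ≠ 1 → l ≠ 1 → k = l := by
    intro k l hk hl
    obtain ⟨a, ha⟩ : ∃ a : A, a ≠ 1 := by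
      haveI : Nontrivial A := Finite.one_lt_card_iff_nontrivial.1 h.one_lt
      exact exists_ne 1
    have ha1 : (a : G) ≠ 1 := fun e' => ha (Subtype.ext e')
    have hm : ((k * l : K) : Subgroup.normalizer (A : Set G)).1 ∈ A := by
      refine h.mem_of_comm a.2 ha1 (mul_inv_eq_iff_eq_mul.1 ?_)
      push_cast
      calc _ = ((k : Subgroup.normalizer (A : Set G)) : G) *
            (((l : Subgroup.normalizer (A : Set G)) : G) * a *
              ((l : Subgroup.normalizer (A : Set G)) : G)⁻¹) *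
            ((k : Subgroup.normalizer (A : Set G)) : G)⁻¹ := by group
        _ = _ := by rw [key l hl a a.2, key k hk _ (A.inv_mem a.2), inv_inv]
    by_contra hne
    have hkl : k * l ≠ 1 := fun e' => hne (by
      have hl2 : l * l = 1 := by
        rw [← pow_two, ← hinv l hl, Subgroup.orderOf_coe, Subgroup.orderOf_coe, pow_orderOf_eq_one]
      rw [← mul_one k, ← hl2, ← mul_assoc, e', one_mul])
    have h3 := Subgroup.orderOf_dvd_natCard A hm
    rw [hinv _ hkl] at h3
    exact Nat.not_even_iff_odd.2 (h.odd_card he2) (even_iff_two_dvd.2 h3)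
  haveI := Fintype.ofFinite K
  have hc : Fintype.card K = 4 := by rw [← Nat.card_eq_fintype_card, hK]; rfl
  have h2 : (Finset.univ.filter fun k : K => k ≠ 1).card ≤ 1 :=
    Finset.card_le_one.2 fun k hk l hl =>
      huniq k l (Finset.mem_filter.1 hk).2 (Finset.mem_filter.1 hl).2
  rw [Finset.filter_ne', Finset.card_erase_of_mem (Finset.mem_univ _), Finset.card_univ, hc] at h2
  omega

omit [Finite G] in
/-- Non-conjugate strongly self-centralising subgroups share no conjugate. -/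
theorem not_inA_both {B : Subgroup G} {e' : ℕ} (h' : SSC B e')
    (hne : ∀ g : G, A.map (MulAut.conj g).toMonoidHom ≠ B) {g : G} (hA : InA A g)
    (hB : InA B g) : False := by
  obtain ⟨x, hx⟩ := h.centralizer_inA hA
  obtain ⟨y, hy⟩ := h'.centralizer_inA hB
  refine hne (y * x⁻¹) (Subgroup.ext fun b => ?_)
  simp only [Subgroup.mem_map, MulEquiv.coe_toMonoidHom, MulAut.conj_apply]
  constructor
  · rintro ⟨a, ha, rfl⟩
    have h2 : x⁻¹ * a * x ∈ Subgroup.centralizer ({g} : Set G) :=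
      (hx _).2 (by simpa [mul_assoc] using ha)
    have h3 := (hy _).1 h2
    convert h3 using 1
    group
  · intro hb
    have h2 : y⁻¹ * b * y ∈ Subgroup.centralizer ({g} : Set G) :=
      (hy _).2 (by simpa [mul_assoc] using hb)
    exact ⟨_, (hx _).1 h2, by group⟩

theorem coprime_of_not_conj {B : Subgroup G} {e' : ℕ} (h' : SSC B e')
    (hne : ∀ g : G, A.map (MulAut.conj g).toMonoidHom ≠ B) :
    Nat.Coprime (Nat.card A) (Nat.card B) := by
  refine Nat.coprime_of_dvd fun r hr hrA hrB => ?_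
  haveI := Fact.mk hr
  obtain ⟨P, hP⟩ := h.exists_sylow_le hrA
  obtain ⟨Q, hQ⟩ := h'.exists_sylow_le hrB
  obtain ⟨g, hg⟩ := MulAction.exists_smul_eq G P Q
  haveI : Nontrivial (P : Subgroup G) :=
    Finite.one_lt_card_iff_nontrivial.1
      (P.card_eq_multiplicity ▸ Nat.one_lt_pow (fun h0 => by
        have := hr.factorization_pos_of_dvd Nat.card_pos.ne'
          (hrA.trans (Subgroup.card_subgroup_dvd_card A))
        omega) hr.one_lt)
  obtain ⟨⟨a, ha⟩, ha1⟩ := exists_ne (1 : (P : Subgroup G))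
  have ha1' : a ≠ 1 := fun e'' => ha1 (Subtype.ext e'')
  refine h.not_inA_both h' hne (h.inA_of_mem (hP ha) ha1') ⟨ha1', g, hQ ?_⟩
  rw [← hg, Sylow.coe_subgroup_smul]
  exact Subgroup.smul_mem_pointwise_smul a (MulAut.conj g) _ ha

/-- Counting the elements conjugate into `A`. -/
theorem card_inA :
    Nat.card {g : G // InA A g} * (e * Nat.card A) = Nat.card G * (Nat.card A - 1) := by
  let π : G × {a : A // a ≠ 1} → {g : G // InA A g} := fun q =>
    ⟨q.1 * (q.2.1 : G) * q.1⁻¹,
      (h.inA_of_mem q.2.1.2 fun e' => q.2.2 (Subtype.ext e')).conj q.1⟩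
  haveI := Fintype.ofFinite G
  haveI := Fintype.ofFinite {g : G // InA A g}
  have h2 : Nat.card {a : A // a ≠ 1} = Nat.card A - 1 := by
    rw [Nat.card_eq_fintype_card, Nat.card_eq_fintype_card, Fintype.card_subtype_compl,
      Fintype.card_subtype_eq]
  rw [← h2, ← Nat.card_prod, Nat.card_eq_fintype_card (α := G × _),
    ← Fintype.card_congr (Equiv.sigmaFiberEquiv π), Fintype.card_sigma,
    Finset.sum_const_nat (m := e * Nat.card A), Finset.card_univ, Nat.card_eq_fintype_card]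
  rintro ⟨g, hg1, x, hx⟩ -
  rw [← Nat.card_eq_fintype_card, ← h.card_normalizer]
  have hg' : x * g * x⁻¹ ≠ 1 := fun e' => hg1 (by simpa using e')
  symm
  exact Nat.card_congr
    { toFun := fun y => ⟨(x⁻¹ * y, ⟨⟨(y : G)⁻¹ * (x * g * x⁻¹) * y,
        (Subgroup.mem_normalizer_iff''.1 y.2 _).1 hx⟩, fun e' => hg' (by
          have e2 : (y : G)⁻¹ * (x * g * x⁻¹) * y = 1 := congrArg Subtype.val e'
          calc x * g * x⁻¹ = (y : G) * ((y : G)⁻¹ * (x * g * x⁻¹) * y) * (y : G)⁻¹ := by group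
            _ = 1 := by rw [e2]; group)⟩), Subtype.ext (by
          show x⁻¹ * y * ((y : G)⁻¹ * (x * g * x⁻¹) * y) * (x⁻¹ * y)⁻¹ = g
          group)⟩
      invFun := fun q => ⟨x * q.1.1, by
        refine h.mem_normalizer q.1.2.1.2 (fun e' => q.1.2.2 (Subtype.ext e')) ?_
        have he : q.1.1 * (q.1.2.1 : G) * q.1.1⁻¹ = g := congrArg Subtype.val q.2
        rw [← he] at hx
        convert hx using 1
        group⟩
      left_inv := fun y => Subtype.ext (by group)
      right_inv := fun q => by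
        obtain ⟨⟨c, a⟩, hq⟩ := q
        have he : c * (a.1 : G) * c⁻¹ = g := congrArg Subtype.val hq
        refine Subtype.ext (Prod.ext (by group) (Subtype.ext (Subtype.ext ?_)))
        show (x * c)⁻¹ * (x * g * x⁻¹) * (x * c) = (a.1 : G)
        calc (x * c)⁻¹ * (x * g * x⁻¹) * (x * c) = c⁻¹ * g * c := by group
          _ = c⁻¹ * (c * (a.1 : G) * c⁻¹) * c := by rw [he]
          _ = _ := by group }

end SSC

end Cfsg.Agent.ThreeSSC77
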