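import Mathlib
import Cfsg.Agent.Lib.CharInducedTI
import Cfsg.Agent.Lib.CharBasicOrth
import Cfsg.Agent.Lib.CharBasicLinear
import Cfsg.Agent.Lib.ThreeSSC77Local

/-!
# The coefficient vectors of a strongly self-centralising subgroup

For a non-trivial linear character `λ` of `A` put `c χ λ = ⟨χ|A, 1⟩ - ⟨χ|A, λ⟩`; this is the
coefficient of `χ` in `(1 - λ)` induced to `G`.
-/

set_option autoImplicit false

open scoped ComplexConjugate
open Finset

namespace Cfsg.Agent.ThreeSSC77

open CharBasic CharBasicOrth CharBasicDecomp CharInduced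

universe u

variable {G : Type u} [Group G] [Finite G] {A : Subgroup G} {e : ℕ}

/-- The non-trivial irreducible characters of `A`. -/
abbrev Lam (A : Subgroup G) : Type u :=
  {ψ : Cfsg.IrrCharacter A // ψ ≠ trivIrr A}

open scoped Classical in
/-- The multiplicity of `ψ` in the restriction of `χ`. -/
noncomputable def mlt (A : Subgroup G) (χ : Cfsg.IrrCharacter G) (ψ : Cfsg.IrrCharacter A) : ℕ :=
  letI : Fintype A := Fintype.ofFinite _
  Classical.choose (exists_mult
    (isCharacter_comap A.subtype (isCharacter_of_isIrrCharacter χ.2))) ψ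

theorem mlt_spec [Fintype A] (χ : Cfsg.IrrCharacter G) (ψ : Cfsg.IrrCharacter A) :
    Cfsg.classInner (fun a : A => (χ : G → ℂ) a) (ψ : A → ℂ) = mlt A χ ψ := by
  classical
  obtain rfl : ‹Fintype A› = Fintype.ofFinite A := Subsingleton.elim _ _
  unfold mlt
  letI : Fintype A := Fintype.ofFinite _
  exact (Classical.choose_spec (exists_mult
    (isCharacter_comap A.subtype (isCharacter_of_isIrrCharacter χ.2)))).1 ψ

theorem res_eq [Fintype A] (χ : Cfsg.IrrCharacter G) (a : A) :
    (χ : G → ℂ) a = ∑ ψ : Cfsg.IrrCharacter A, (mlt A χ ψ : ℂ) * (ψ : A → ℂ) a := by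
  have h1 := congrFun (eq_sum_classInner (ψ := fun a : A => (χ : G → ℂ) a)
    (isClassFunction_of_isCharacter
      (isCharacter_comap A.subtype (isCharacter_of_isIrrCharacter χ.2)))) a
  simpa only [Finset.sum_apply, Pi.smul_apply, smul_eq_mul, mlt_spec] using h1

/-- The coefficient. -/
noncomputable def cf (A : Subgroup G) (χ : Cfsg.IrrCharacter G) (l : Lam A) : ℤ :=
  (mlt A χ (trivIrr A) : ℤ) - mlt A χ l.1

theorem mlt_eq (χ : Cfsg.IrrCharacter G) (l : Lam A) :
    ((mlt A χ l.1 : ℕ) : ℤ) = mlt A χ (trivIrr A) - cf A χ l := by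
  unfold cf; ring

namespace SSC

variable (h : SSC A e)
include h

theorem exists_hom (ψ : Cfsg.IrrCharacter A) : ∃ f : A →* ℂˣ, (ψ : A → ℂ) = fun a => (f a : ℂ) :=
  CharBasicLinear.exists_hom_of_comm (fun a b => Subtype.ext (h.comm a.2 b.2)) ψ.2

theorem lin_one (ψ : Cfsg.IrrCharacter A) : (ψ : A → ℂ) 1 = 1 := by
  obtain ⟨f, hf⟩ := h.exists_hom ψ; simp [hf]

theorem lin_mul (ψ : Cfsg.IrrCharacter A) (a b : A) :
    (ψ : A → ℂ) (a * b) = (ψ : A → ℂ) a * (ψ : A → ℂ) b := by
  obtain ⟨f, hf⟩ := h.exists_hom ψ; simp [hf]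

theorem card_irr : Nat.card (Cfsg.IrrCharacter A) = Nat.card A := by
  rw [card_irrCharacter]
  refine (Nat.card_congr (Equiv.ofBijective ConjClasses.mk ⟨fun a b hab => ?_,
    ConjClasses.mk_surjective⟩)).symm
  obtain ⟨c, rfl⟩ := isConj_iff.1 (ConjClasses.mk_eq_mk_iff_isConj.1 hab)
  refine Subtype.ext ?_
  push_cast
  rw [h.comm c.2 a.2, mul_inv_cancel_right]

theorem sum_lam_apply [Fintype (Lam A)] {a : A} (ha : a ≠ 1) :
    ∑ l : Lam A, (l.1 : A → ℂ) a = -1 := by
  classical
  letI : Fintype A := Fintype.ofFinite _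
  have h1 := sum_irr_mul_conj a 1
  rw [if_neg (fun e' => ha (isConj_one_left.1 e'))] at h1
  simp only [h.lin_one, map_one, mul_one] at h1
  rw [← Finset.add_sum_erase _ _ (mem_univ (trivIrr A))] at h1
  have h2 : ∑ l : Lam A, (l.1 : A → ℂ) a =
      ∑ ψ ∈ univ.erase (trivIrr A), (ψ : A → ℂ) a :=
    (Finset.sum_subtype _ (fun ψ => by simp) (fun ψ : Cfsg.IrrCharacter A => (ψ : A → ℂ) a)).symm
  rw [h2]
  have h3 : ((trivIrr A : Cfsg.IrrCharacter A) : A → ℂ) a = 1 := rfl
  rw [h3] at h1
  linear_combination h1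

theorem card_lam : Nat.card (Lam A) = Nat.card A - 1 := by
  classical
  haveI := Fintype.ofFinite (Cfsg.IrrCharacter A)
  rw [← h.card_irr, Nat.card_eq_fintype_card, Nat.card_eq_fintype_card,
    Fintype.card_subtype_compl, Fintype.card_subtype_eq]

/-- The degree. -/
theorem degree_eq [Fintype (Lam A)] (χ : Cfsg.IrrCharacter G) :
    (χ : G → ℂ) 1 =
      (((Nat.card A : ℤ) * mlt A χ (trivIrr A) - ∑ l : Lam A, cf A χ l : ℤ) : ℂ) := by
  classical
  letI : Fintype A := Fintype.ofFinite _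
  have h1 := res_eq (A := A) χ 1
  simp only [OneMemClass.coe_one, h.lin_one, mul_one] at h1
  rw [h1, ← Finset.add_sum_erase _ _ (mem_univ (trivIrr A)),
    Finset.sum_subtype (p := fun ψ : Cfsg.IrrCharacter A => ψ ≠ trivIrr A) (univ.erase (trivIrr A))
      (fun ψ => by simp)
      (fun ψ : Cfsg.IrrCharacter A => (mlt A χ ψ : ℂ))]
  have h2 : ∀ l : Lam A,
      (mlt A χ l.1 : ℂ) = (mlt A χ (trivIrr A) : ℂ) - (cf A χ l : ℂ) := fun l => by
    unfold cf; push_cast; ring
  simp only [h2, Finset.sum_sub_distrib, Finset.sum_const, card_univ]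
  rw [← Nat.card_eq_fintype_card, h.card_lam, nsmul_eq_mul, Nat.cast_sub Nat.card_pos]
  push_cast
  ring

/-- The value on `A ∖ {1}`. -/
theorem value_eq [Fintype (Lam A)] (χ : Cfsg.IrrCharacter G) {a : A} (ha : a ≠ 1) :
    (χ : G → ℂ) a = -∑ l : Lam A, (cf A χ l : ℂ) * (l.1 : A → ℂ) a := by
  classical
  letI : Fintype A := Fintype.ofFinite _
  rw [res_eq χ a, ← Finset.add_sum_erase _ _ (mem_univ (trivIrr A)),
    Finset.sum_subtype (p := fun ψ : Cfsg.IrrCharacter A => ψ ≠ trivIrr A) (univ.erase (trivIrr A))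
      (fun ψ => by simp)
      (fun ψ : Cfsg.IrrCharacter A => (mlt A χ ψ : ℂ) * (ψ : A → ℂ) a)]
  have h2 : ∀ l : Lam A, (mlt A χ l.1 : ℂ) * (l.1 : A → ℂ) a =
      (mlt A χ (trivIrr A) : ℂ) * (l.1 : A → ℂ) a - (cf A χ l : ℂ) * (l.1 : A → ℂ) a := fun l => by
    unfold cf; push_cast; ring
  have h3 : ((trivIrr A : Cfsg.IrrCharacter A) : A → ℂ) a = 1 := rfl
  simp only [h2, Finset.sum_sub_distrib, ← Finset.mul_sum, h.sum_lam_apply ha, h3]
  ring

theorem value_const {χ : Cfsg.IrrCharacter G} {k : ℤ} (hk : ∀ l : Lam A, cf A χ l = k) {a : G}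
    (ha : InA A a) : (χ : G → ℂ) a = k := by
  obtain ⟨h1, x, hx⟩ := ha
  haveI := Fintype.ofFinite (Lam A)
  have h2 := h.value_eq χ (a := ⟨x * a * x⁻¹, hx⟩)
    (fun e' => h1 (by simpa using congrArg Subtype.val e'))
  simp only [hk, ← Finset.mul_sum] at h2
  rw [h.sum_lam_apply (fun e' => h1 (by simpa using congrArg Subtype.val e'))] at h2
  rw [← CharBasic.isClassFunction_of_isCharacter (isCharacter_of_isIrrCharacter χ.2) a x, h2]
  ring

/-- A sum over the irreducible characters, evaluated through the coefficients. -/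
theorem sum_conj_value [Fintype G] (F : Cfsg.IrrCharacter G → ℂ) (K : ℂ)
    (hK : ∀ l : Lam A, ∑ χ, (cf A χ l : ℂ) * F χ = K) {a : A} (ha : a ≠ 1) :
    ∑ χ : Cfsg.IrrCharacter G, F χ * conj ((χ : G → ℂ) a) = K := by
  haveI := Fintype.ofFinite (Lam A)
  simp only [h.value_eq _ ha, map_neg, map_sum, map_mul, map_intCast, mul_neg, Finset.mul_sum,
    Finset.sum_neg_distrib]
  rw [Finset.sum_comm]
  have h2 : ∀ l : Lam A, ∑ χ : Cfsg.IrrCharacter G, F χ * ((cf A χ l : ℂ) * conj ((l.1 : A → ℂ) a))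
      = K * conj ((l.1 : A → ℂ) a) := fun l => by
    rw [← hK l, Finset.sum_mul]
    exact Finset.sum_congr rfl fun χ _ => by ring
  simp only [h2, ← Finset.mul_sum, ← map_sum, h.sum_lam_apply ha, map_neg, map_one]
  ring

omit h in
theorem trivIrr_eq_iff (ψ : Cfsg.IrrCharacter A) : ψ = trivIrr A ↔ ∀ a, (ψ : A → ℂ) a = 1 :=
  ⟨fun e' a => by rw [e']; rfl, fun e' => Subtype.ext (funext e')⟩

theorem conj_eq_id {l : Lam A} {x : G} (hx : x ∈ Subgroup.normalizer (A : Set G))
    (hl : ∀ a : A, (l.1 : A → ℂ) (conjHom hx a) = (l.1 : A → ℂ) a) : x ∈ A := by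
  by_contra hxA
  refine l.2 ((trivIrr_eq_iff l.1).2 fun b => ?_)
  obtain ⟨a, rfl⟩ := (h.comm_bijective hx hxA).2 b
  show (l.1 : A → ℂ) (a⁻¹ * conjHom hx a) = 1
  rw [h.lin_mul, hl, ← h.lin_mul, inv_mul_cancel, h.lin_one]

end SSC

omit [Finite G] in
/-- The conjugate of a linear character. -/
theorem conjHom_bijective {x : G} (hx : x ∈ Subgroup.normalizer (A : Set G)) :
    Function.Bijective (conjHom hx) := by
  refine ⟨fun a b hab => Subtype.ext ?_, fun b => ⟨⟨x⁻¹ * b * x,
    (Subgroup.mem_normalizer_iff''.1 hx b).1 b.2⟩, Subtype.ext (by simp [conjHom, mul_assoc])⟩⟩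
  have := congrArg Subtype.val hab
  simpa [conjHom] using this

/-- Two non-trivial characters of `A` lie in one orbit of the normaliser. -/
def OrbRel (l l' : Lam A) : Prop :=
  ∃ x : G, ∃ hx : x ∈ Subgroup.normalizer (A : Set G),
    ∀ a : A, (l.1 : A → ℂ) (conjHom hx a) = (l'.1 : A → ℂ) a

omit [Finite G] in
theorem conjHom_mul {x y : G} (hx : x ∈ Subgroup.normalizer (A : Set G))
    (hy : y ∈ Subgroup.normalizer (A : Set G)) (a : A) :
    conjHom hx (conjHom hy a) = conjHom (mul_mem hx hy) a :=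
  Subtype.ext (by simp [conjHom, mul_assoc])

theorem orbRel_refl (l : Lam A) : OrbRel l l :=
  ⟨1, one_mem _, fun a => congrArg _ (Subtype.ext (by simp [conjHom]))⟩

theorem orbRel_symm {l l' : Lam A} (hl : OrbRel l l') : OrbRel l' l := by
  obtain ⟨x, hx, e⟩ := hl
  refine ⟨x⁻¹, inv_mem hx, fun a => ?_⟩
  rw [← e, conjHom_mul]
  exact congrArg _ (Subtype.ext (by simp [conjHom]))

theorem orbRel_trans {l l' l'' : Lam A} (h1 : OrbRel l l') (h2 : OrbRel l' l'') :
    OrbRel l l'' := by
  obtain ⟨x, hx, e1⟩ := h1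
  obtain ⟨y, hy, e2⟩ := h2
  exact ⟨x * y, mul_mem hx hy, fun a => by rw [← e2, ← e1, conjHom_mul]⟩

/-- The orbits. -/
def orbSetoid (A : Subgroup G) : Setoid (Lam A) :=
  ⟨OrbRel, ⟨orbRel_refl, orbRel_symm, orbRel_trans⟩⟩

/-- The orbits of the normaliser on the non-trivial characters of `A`. -/
abbrev Orb (A : Subgroup G) : Type u := Quotient (orbSetoid A)

theorem mlt_orbRel (χ : Cfsg.IrrCharacter G) {l l' : Lam A} (hl : OrbRel l l') :
    mlt A χ l'.1 = mlt A χ l.1 := by
  classical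
  letI : Fintype A := Fintype.ofFinite _
  obtain ⟨x, hx, e1⟩ := hl
  refine Nat.cast_injective (R := ℂ) ?_
  rw [← mlt_spec, ← mlt_spec]
  simp only [Cfsg.classInner]
  refine congrArg _ (Fintype.sum_bijective _ (conjHom_bijective hx) _ _ fun a => ?_)
  rw [e1]
  congr 1
  exact (isClassFunction_of_isCharacter (isCharacter_of_isIrrCharacter χ.2) (a : G) x).symm

/-- The coefficient as a function of the orbit. -/
noncomputable def oc (A : Subgroup G) (χ : Cfsg.IrrCharacter G) : Orb A → ℤ :=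
  Quotient.lift (cf A χ) fun l l' hl => by
    simp only [cf, mlt_orbRel χ (show OrbRel l l' from hl)]

theorem oc_mk (χ : Cfsg.IrrCharacter G) (l : Lam A) :
    oc A χ (Quotient.mk (orbSetoid A) l) = cf A χ l := rfl

namespace SSC

variable (h : SSC A e)
include h

/-- Each orbit has `e` elements. -/
theorem card_fiber (l : Lam A) : Nat.card {l' : Lam A // OrbRel l l'} = e := by
  classical
  have hex : ∀ x : Subgroup.normalizer (A : Set G), ∃ l' : Lam A, ∀ a : A,
      (l'.1 : A → ℂ) a = (l.1 : A → ℂ) (conjHom x.2 a) := by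
    intro x
    refine ⟨⟨⟨fun a => (l.1 : A → ℂ) (conjHom x.2 a),
      isIrrCharacter_comap (conjHom x.2) (conjHom_bijective x.2).2 l.1.2⟩, fun e' => l.2 ?_⟩,
      fun _ => rfl⟩
    rw [trivIrr_eq_iff] at e' ⊢
    intro b
    obtain ⟨a, rfl⟩ := (conjHom_bijective x.2).2 b
    exact e' a
  choose φ hφ using hex
  rw [← h.card_image φ fun x y => ?_]
  · refine Nat.card_congr (Equiv.subtypeEquivRight fun l' => ⟨?_, ?_⟩)
    · rintro ⟨x, hx, e1⟩
      exact ⟨⟨x, hx⟩, Subtype.ext (Subtype.ext (funext fun a => by rw [hφ, e1]))⟩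
    · rintro ⟨x, rfl⟩
      exact ⟨x, x.2, fun a => (hφ x a).symm⟩
  · constructor
    · intro hxy
      have h1 : (x : G)⁻¹ * y ∈ Subgroup.normalizer (A : Set G) :=
        mul_mem (inv_mem x.2) y.2
      refine h.conj_eq_id (l := φ x) h1 fun a => ?_
      rw [hφ, conjHom_mul]
      have h2 := hφ y a
      rw [← hxy] at h2
      rw [h2]
      exact congrArg _ (Subtype.ext (by simp [conjHom, mul_assoc]))
    · intro hxy
      refine Subtype.ext (Subtype.ext (funext fun a => ?_))
      rw [hφ, hφ]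
      refine congrArg _ (Subtype.ext ?_)
      have h2 := h.comm hxy a.2
      show (x : G) * a * (x : G)⁻¹ = (y : G) * a * (y : G)⁻¹
      calc (x : G) * a * (x : G)⁻¹ = (x : G) * (a * ((x : G)⁻¹ * y)) * (y : G)⁻¹ := by group
        _ = (x : G) * ((x : G)⁻¹ * y * a) * (y : G)⁻¹ := by rw [h2]
        _ = _ := by group

theorem sum_lam_eq [Fintype (Lam A)] [Fintype (Orb A)] (f : Orb A → ℤ) :
    ∑ l : Lam A, f (Quotient.mk (orbSetoid A) l) = (e : ℤ) * ∑ o : Orb A, f o := by
  classical
  rw [← Finset.sum_fiberwise univ (Quotient.mk (orbSetoid A))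
    (fun l => f (Quotient.mk (orbSetoid A) l)), Finset.mul_sum]
  refine Finset.sum_congr rfl fun o _ => ?_
  induction o using Quotient.inductionOn with
  | h l =>
    rw [Finset.sum_congr rfl fun l' hl' => by rw [(Finset.mem_filter.1 hl').2],
      Finset.sum_const, nsmul_eq_mul]
    congr 1
    rw [← Fintype.card_subtype, ← Nat.card_eq_fintype_card, ← h.card_fiber l]
    refine congrArg _ (Nat.card_congr (Equiv.subtypeEquivRight fun l' => ?_))
    exact ⟨fun e' => orbRel_symm (Quotient.exact e'),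
      fun e' => (Quotient.sound (show (orbSetoid A) l l' from e')).symm⟩

theorem card_orb : e * Nat.card (Orb A) = Nat.card A - 1 := by
  classical
  haveI := Fintype.ofFinite (Lam A)
  haveI := Fintype.ofFinite (Orb A)
  have h1 := h.sum_lam_eq (fun _ => 1)
  simp only [Finset.sum_const, card_univ, nsmul_eq_mul, mul_one] at h1
  rw [← h.card_lam, Nat.card_eq_fintype_card, Nat.card_eq_fintype_card]
  exact_mod_cast h1.symm

theorem card_orb_eq_classes :
    Nat.card (Orb A) =
      Nat.card {C : ConjClasses G // ∃ a ∈ A, a ≠ 1 ∧ ConjClasses.mk a = C} :=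
  Nat.eq_of_mul_eq_mul_left h.e_pos (h.card_orb.trans h.card_classes.symm)

/-- `χ(1) ≡ -e ∑ c (mod |A|)`. -/
theorem degree_congr [Fintype (Orb A)] (χ : Cfsg.IrrCharacter G) :
    ∃ d : ℤ, (χ : G → ℂ) 1 = d ∧ (Nat.card A : ℤ) ∣ d + (e : ℤ) * ∑ o, oc A χ o := by
  haveI := Fintype.ofFinite (Lam A)
  refine ⟨_, h.degree_eq χ, ?_⟩
  rw [← h.sum_lam_eq (oc A χ)]
  simp only [oc_mk]
  exact ⟨mlt A χ (trivIrr A), by ring⟩

theorem value_const' {χ : Cfsg.IrrCharacter G} {k : ℤ} (hk : ∀ o : Orb A, oc A χ o = k) {a : G}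
    (ha : InA A a) : (χ : G → ℂ) a = k :=
  h.value_const (fun l => hk (Quotient.mk (orbSetoid A) l)) ha

theorem degree_const {χ : Cfsg.IrrCharacter G} {k : ℤ} (hk : ∀ o : Orb A, oc A χ o = k) :
    ∃ d : ℤ, (χ : G → ℂ) 1 = d ∧ (Nat.card A : ℤ) ∣ d - k := by
  haveI := Fintype.ofFinite (Orb A)
  obtain ⟨d, hd, hdvd⟩ := h.degree_congr χ
  refine ⟨d, hd, ?_⟩
  simp only [hk, Finset.sum_const, card_univ, nsmul_eq_mul, ← Nat.card_eq_fintype_card] at hdvd
  have h1 : (e : ℤ) * Nat.card (Orb A) = (Nat.card A : ℤ) - 1 := by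
    rw [← Nat.cast_mul, h.card_orb, Nat.cast_sub Nat.card_pos, Nat.cast_one]
  have h2 : d - k = d + (e : ℤ) * ((Nat.card (Orb A) : ℤ) * k) - (Nat.card A : ℤ) * k := by
    linear_combination (-k) * h1
  rw [h2]
  exact dvd_sub hdvd (Dvd.intro _ rfl)

end SSC

/-! ### The induced functions -/

/-- `1 - λ` as a function on `A`. -/
noncomputable def phi (l : Lam A) : A → ℂ := fun a => 1 - (l.1 : A → ℂ) a

/-- `(1 - λ)` induced to `G`. -/
noncomputable def Phi [Fintype G] (l : Lam A) : G → ℂ := indFun A (phi l)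

theorem inner_Phi_irr [Fintype G] (l : Lam A) (χ : Cfsg.IrrCharacter G) :
    Cfsg.classInner (Phi l) (χ : G → ℂ) = cf A χ l := by
  classical
  letI : Fintype A := Fintype.ofFinite _
  rw [Phi, inner_ind_left A _ (isClassFunction_of_isCharacter (isCharacter_of_isIrrCharacter χ.2))]
  show Cfsg.classInner ((trivIrr A : A → ℂ) - (l.1 : A → ℂ)) (fun a : A => (χ : G → ℂ) a) = _
  rw [CharBasicOrth.classInner_sub_left, ← conj_classInner, mlt_spec, ← conj_classInner, mlt_spec]
  simp [cf]

theorem Phi_expand [Fintype G] (l : Lam A) (g : G) :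
    Phi l g = ∑ χ : Cfsg.IrrCharacter G, (cf A χ l : ℂ) * (χ : G → ℂ) g := by
  have h1 := congrFun (eq_sum_classInner (isClassFunction_ind A (phi l))) g
  rw [Phi, h1]
  simp only [Finset.sum_apply, Pi.smul_apply, smul_eq_mul]
  refine Finset.sum_congr rfl fun χ _ => ?_
  rw [← inner_Phi_irr l χ]; rfl

namespace SSC

variable (h : SSC A e)
include h

theorem phi_one (l : Lam A) : phi l 1 = 0 := by simp [phi, h.lin_one]

theorem Phi_eq_zero [Fintype G] (l : Lam A) {g : G} (hg : ¬ InA A g) : Phi l g = 0 := by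
  refine ind_eq_zero_of_vanish A _ g fun x a hx => ?_
  by_cases ha : a = 1
  · rw [ha, h.phi_one]
  · refine absurd ?_ hg
    refine ⟨fun e' => ha (Subtype.ext ?_), x⁻¹, by rw [inv_inv, hx]; exact a.2⟩
    rw [← hx, e']; simp

/-- The relation off the conjugates of `A ∖ {1}`. -/
theorem relation [Fintype G] (o : Orb A) {g : G} (hg : ¬ InA A g) :
    ∑ χ : Cfsg.IrrCharacter G, (oc A χ o : ℂ) * (χ : G → ℂ) g = 0 := by
  induction o using Quotient.inductionOn with
  | h l => simpa only [oc_mk, ← Phi_expand] using h.Phi_eq_zero l hg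

theorem oc_triv (o : Orb A) : oc A (trivIrr G) o = 1 := by
  classical
  letI : Fintype A := Fintype.ofFinite _
  induction o using Quotient.inductionOn with
  | h l =>
    rw [oc_mk, cf]
    have h1 : ∀ ψ : Cfsg.IrrCharacter A,
        (mlt A (trivIrr G) ψ : ℂ) = if trivIrr A = ψ then 1 else 0 := fun ψ => by
      rw [← mlt_spec, ← classInner_irrCharacter]; rfl
    have h2 := h1 (trivIrr A)
    have h3 := h1 l.1
    rw [if_pos rfl] at h2
    rw [if_neg (fun e' => l.2 e'.symm)] at h3
    rw [show mlt A (trivIrr G) (trivIrr A) = 1 from by exact_mod_cast h2,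
      show mlt A (trivIrr G) l.1 = 0 from by exact_mod_cast h3]
    rfl

theorem inner_Phi [Fintype G] [DecidableEq (Orb A)] (l l' : Lam A) :
    Cfsg.classInner (Phi l) (Phi l') =
      (e : ℂ) + if Quotient.mk (orbSetoid A) l = Quotient.mk (orbSetoid A) l' then 1 else 0 := by
  classical
  letI : Fintype A := Fintype.ofFinite _
  have hn : (Nat.card A : ℂ) ≠ 0 := Nat.cast_ne_zero.2 Nat.card_pos.ne'
  set N := Subgroup.normalizer (A : Set G)
  -- the values on `A`
  have hval : ∀ a : A, indFun A (phi l') (a : G) * conj (phi l a) =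
      ((Nat.card A : ℂ)⁻¹ * ∑ x : N, phi l' (conjHom x.2 a)) * conj (phi l a) := by
    intro a
    by_cases ha : a = 1
    · rw [ha, h.phi_one]; simp
    congr 1
    rw [indFun_apply]
    congr 1
    rw [← Finset.sum_filter_add_sum_filter_not univ (fun x : G => x ∈ N), add_comm,
      Finset.sum_eq_zero, zero_add]
    · refine Finset.sum_bij' (fun x hx => (⟨x⁻¹, inv_mem (Finset.mem_filter.1 hx).2⟩ : N))
        (fun x _ => (x : G)⁻¹) (fun _ _ => mem_univ _)
        (fun x _ => Finset.mem_filter.2 ⟨mem_univ _, inv_mem x.2⟩)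
        (fun x _ => inv_inv x) (fun x _ => Subtype.ext (inv_inv _)) fun x hx => ?_
      have hm : x⁻¹ * (a : G) * x ∈ A :=
        (Subgroup.mem_normalizer_iff''.1 (Finset.mem_filter.1 hx).2 _).1 a.2
      rw [ext_zero_of_mem _ hm]
      exact congrArg _ (Subtype.ext (by simp [conjHom]))
    · intro x hx
      refine ext_zero_of_not_mem _ fun hm => (Finset.mem_filter.1 hx).2 ?_
      rw [← Subgroup.inv_mem_iff]
      refine h.mem_normalizer a.2 (fun e' => ha (Subtype.ext e')) ?_
      simpa using hm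
  -- one summand
  have hx : ∀ x : N, ∑ a : A, phi l' (conjHom x.2 a) * conj (phi l a) =
      (Nat.card A : ℂ) * (1 + if (∀ a : A, (l'.1 : A → ℂ) (conjHom x.2 a) = (l.1 : A → ℂ) a)
        then 1 else 0) := by
    intro x
    let μ : Cfsg.IrrCharacter A := ⟨fun a => (l'.1 : A → ℂ) (conjHom x.2 a),
      isIrrCharacter_comap (conjHom x.2) (conjHom_bijective x.2).2 l'.1.2⟩
    have hμ : μ ≠ trivIrr A := fun e' => l'.2 (by
      rw [trivIrr_eq_iff] at e' ⊢
      intro b
      obtain ⟨a, rfl⟩ := (conjHom_bijective x.2).2 b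
      exact e' a)
    have hsum : ∀ ψ θ : Cfsg.IrrCharacter A, ∑ a : A, (ψ : A → ℂ) a * conj ((θ : A → ℂ) a) =
        (Nat.card A : ℂ) * if ψ = θ then 1 else 0 := fun ψ θ => by
      rw [← classInner_irrCharacter, card_mul_classInner]
    have e0 := hsum (trivIrr A) (trivIrr A)
    have e1 := hsum μ (trivIrr A)
    have e2 := hsum (trivIrr A) l.1
    have e3 := hsum μ l.1
    rw [if_pos rfl] at e0
    rw [if_neg hμ] at e1
    rw [if_neg (Ne.symm l.2)] at e2
    have hiff : μ = l.1 ↔ ∀ a : A, (l'.1 : A → ℂ) (conjHom x.2 a) = (l.1 : A → ℂ) a :=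
      ⟨fun e' a => congrFun (congrArg Subtype.val e') a, fun e' => Subtype.ext (funext e')⟩
    calc ∑ a : A, phi l' (conjHom x.2 a) * conj (phi l a) =
        ∑ a : A, (((trivIrr A : A → ℂ) a * conj ((trivIrr A : A → ℂ) a) -
          (μ : A → ℂ) a * conj ((trivIrr A : A → ℂ) a)) -
          (trivIrr A : A → ℂ) a * conj ((l.1 : A → ℂ) a) +
          (μ : A → ℂ) a * conj ((l.1 : A → ℂ) a)) := by
          refine Finset.sum_congr rfl fun a _ => ?_
          show (1 - (μ : A → ℂ) a) * conj (1 - (l.1 : A → ℂ) a) =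
            (1 * conj (1 : ℂ) - (μ : A → ℂ) a * conj (1 : ℂ)) - 1 * conj ((l.1 : A → ℂ) a) +
              (μ : A → ℂ) a * conj ((l.1 : A → ℂ) a)
          simp only [map_sub, map_one]; ring
      _ = _ := by
          rw [Finset.sum_add_distrib, Finset.sum_sub_distrib, Finset.sum_sub_distrib, e0, e1, e2, e3]
          simp only [hiff]
          ring
  rw [← conj_classInner, Phi, Phi, inner_ind_right A _ (isClassFunction_ind A _)]
  have h1 : Cfsg.classInner (fun a : A => indFun A (phi l') (a : G)) (phi l) =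
      (e : ℂ) + if Quotient.mk (orbSetoid A) l = Quotient.mk (orbSetoid A) l' then 1 else 0 := by
    simp only [Cfsg.classInner]
    rw [Finset.sum_congr rfl fun a _ => hval a]
    simp only [mul_assoc, ← Finset.mul_sum, Finset.sum_mul]
    rw [Finset.sum_comm]
    simp only [hx, ← Finset.mul_sum, Finset.sum_add_distrib, Finset.sum_const, card_univ,
      nsmul_eq_mul, mul_one, Finset.sum_boole]
    have hN : (Fintype.card N : ℂ) = (e : ℂ) * Nat.card A := by
      rw [← Nat.card_eq_fintype_card]; exact_mod_cast h.card_normalizer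
    rw [hN]
    by_cases hll : Quotient.mk (orbSetoid A) l = Quotient.mk (orbSetoid A) l'
    · obtain ⟨x₀, hx₀, e₀⟩ := (show OrbRel l' l from orbRel_symm (Quotient.exact hll))
      have hc : (univ.filter fun x : N =>
          ∀ a : A, (l'.1 : A → ℂ) (conjHom x.2 a) = (l.1 : A → ℂ) a).card = Nat.card A := by
        rw [← Fintype.card_subtype, ← Nat.card_eq_fintype_card]
        refine Nat.card_congr
          { toFun := fun x => ⟨x₀⁻¹ * (x.1 : G), h.conj_eq_id (l := l)
              (mul_mem (inv_mem hx₀) x.1.2) fun a => by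
                rw [← e₀, conjHom_mul, ← x.2 a]
                exact congrArg _ (Subtype.ext (by simp [conjHom, mul_assoc]))⟩
            invFun := fun b => ⟨⟨x₀ * b, mul_mem hx₀ (Subgroup.le_normalizer b.2)⟩, fun a => by
              rw [← e₀ a]
              refine congrArg _ (Subtype.ext ?_)
              show x₀ * b * a * (x₀ * b)⁻¹ = x₀ * a * x₀⁻¹
              rw [mul_assoc x₀, h.comm b.2 a.2]; group⟩
            left_inv := fun x => Subtype.ext (Subtype.ext (mul_inv_cancel_left _ _))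
            right_inv := fun b => Subtype.ext (inv_mul_cancel_left _ _) }
      rw [if_pos hll, hc]
      field_simp
    · have hc : (univ.filter fun x : N =>
          ∀ a : A, (l'.1 : A → ℂ) (conjHom x.2 a) = (l.1 : A → ℂ) a).card = 0 := by
        rw [Finset.card_eq_zero, Finset.filter_eq_empty_iff]
        exact fun x _ hxx => hll (Quotient.sound
          (show (orbSetoid A) l l' from orbRel_symm ⟨x, x.2, hxx⟩))
      rw [if_neg hll, hc]
      push_cast
      field_simp
      ring
  rw [h1]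
  split_ifs <;> simp

/-- The Gram matrix of the coefficient vectors. -/
theorem gram [Fintype G] [DecidableEq (Orb A)] (o o' : Orb A) :
    ∑ χ : Cfsg.IrrCharacter G, oc A χ o * oc A χ o' = (e : ℤ) + if o = o' then 1 else 0 := by
  induction o using Quotient.inductionOn with
  | h l =>
    induction o' using Quotient.inductionOn with
    | h l' =>
      have h1 := classInner_eq_sum (ψ := Phi l) (φ := Phi l') (isClassFunction_ind A (phi l))
      rw [h.inner_Phi l l'] at h1
      simp only [inner_Phi_irr, map_intCast] at h1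
      simp only [oc_mk]
      refine Int.cast_injective (α := ℂ) ?_
      push_cast
      exact h1.symm

theorem cross [Fintype G] {B : Subgroup G} {e' : ℕ} (h' : SSC B e')
    (hne : ∀ g : G, A.map (MulAut.conj g).toMonoidHom ≠ B) (o : Orb A) (o' : Orb B) :
    ∑ χ : Cfsg.IrrCharacter G, oc A χ o * oc B χ o' = 0 := by
  induction o using Quotient.inductionOn with
  | h l =>
    induction o' using Quotient.inductionOn with
    | h l' =>
      have h1 := classInner_eq_sum (ψ := Phi l) (φ := Phi l') (isClassFunction_ind A (phi l))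
      simp only [inner_Phi_irr, map_intCast] at h1
      have h0 : Cfsg.classInner (Phi l) (Phi l') = 0 := by
        rw [Cfsg.classInner, Finset.sum_eq_zero, mul_zero]
        intro g _
        by_cases hg : InA A g
        · rw [h'.Phi_eq_zero l' fun hb => h.not_inA_both h' hne hg hb]; simp
        · rw [h.Phi_eq_zero l hg, zero_mul]
      rw [h0] at h1
      simp only [oc_mk]
      refine Int.cast_injective (α := ℂ) ?_
      push_cast
      exact h1.symm

/-- A sum over the irreducible characters at an element conjugate into `A`. -/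
theorem sum_conj [Fintype G] (F : Cfsg.IrrCharacter G → ℂ) (K : ℂ)
    (hK : ∀ o : Orb A, ∑ χ, (oc A χ o : ℂ) * F χ = K) {g : G} (hg : InA A g) :
    ∑ χ : Cfsg.IrrCharacter G, F χ * conj ((χ : G → ℂ) g) = K := by
  obtain ⟨h1, x, hx⟩ := hg
  rw [← h.sum_conj_value F K (fun l => hK (Quotient.mk (orbSetoid A) l)) (a := ⟨x * g * x⁻¹, hx⟩)
    (fun e' => h1 (by simpa using congrArg Subtype.val e'))]
  refine Finset.sum_congr rfl fun χ _ => ?_
  rw [isClassFunction_of_isCharacter (isCharacter_of_isIrrCharacter χ.2) g x]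

end SSC

end Cfsg.Agent.ThreeSSC77
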