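import Mathlib

/-!
# Integer vectors with the Gram matrices of exceptional characters
-/

set_option autoImplicit false

open Finset

namespace Cfsg.Agent.ThreeSSC77.Comb

variable {I : Type*} [Fintype I] [DecidableEq I]

/-- The support. -/
def supp (v : I → ℤ) : Finset I := univ.filter fun i => v i ≠ 0

@[simp] theorem mem_supp {v : I → ℤ} {i : I} : i ∈ supp v ↔ v i ≠ 0 := by simp [supp]

theorem not_mem_supp {v : I → ℤ} {i : I} (hi : i ∉ supp v) : v i = 0 := by simpa using hi

theorem sum_supp (v w : I → ℤ) : ∑ i, v i * w i = ∑ i ∈ supp v, v i * w i :=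
  (Finset.sum_subset (subset_univ _) fun i _ hi => by rw [not_mem_supp hi, zero_mul]).symm

theorem unit_of_norm {v : I → ℤ} {n : ℤ} (hn : n < 4) (h : ∑ i, v i * v i = n) (i : I)
    (hi : v i ≠ 0) : v i = 1 ∨ v i = -1 := by
  have h1 : v i * v i ≤ n := h ▸ Finset.single_le_sum (f := fun i => v i * v i)
    (fun j _ => mul_self_nonneg _) (mem_univ i)
  have h2 : -2 < v i := by nlinarith
  have h3 : v i < 2 := by nlinarith
  omega

theorem sq_unit {v : I → ℤ} {n : ℤ} (hn : n < 4) (h : ∑ i, v i * v i = n) {i : I}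
    (hi : v i ≠ 0) : v i * v i = 1 := by
  rcases unit_of_norm hn h i hi with e | e <;> simp [e]

theorem card_supp {v : I → ℤ} {n : ℕ} (hn : n < 4) (h : ∑ i, v i * v i = n) :
    (supp v).card = n := by
  have h1 : ∑ i ∈ supp v, v i * v i = ∑ i ∈ supp v, (1 : ℤ) :=
    Finset.sum_congr rfl fun i hi => sq_unit (by omega) h (mem_supp.1 hi)
  rw [← sum_supp, h, Finset.sum_const, nsmul_eq_mul, mul_one] at h1
  exact_mod_cast h1.symm

theorem abs_dot_le {v w : I → ℤ} {m n : ℤ} (hm : m < 4) (hn : n < 4)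
    (hv : ∑ i, v i * v i = m) (hw : ∑ i, w i * w i = n) :
    ∀ i ∈ supp v ∩ supp w, v i * w i = 1 ∨ v i * w i = -1 := fun i hi => by
  rw [mem_inter, mem_supp, mem_supp] at hi
  rcases unit_of_norm hm hv i hi.1 with a | a <;> rcases unit_of_norm hn hw i hi.2 with b | b <;>
    simp [a, b]

theorem dot_inter (v w : I → ℤ) : ∑ i, v i * w i = ∑ i ∈ supp v ∩ supp w, v i * w i :=
  (Finset.sum_subset (subset_univ _) fun i _ hi => by
    rw [mem_inter] at hi
    push Not at hi
    by_cases h : i ∈ supp v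
    · rw [not_mem_supp (hi h), mul_zero]
    · rw [not_mem_supp h, zero_mul]).symm

theorem dot_le_card {v w : I → ℤ} {m n : ℤ} (hm : m < 4) (hn : n < 4)
    (hv : ∑ i, v i * v i = m) (hw : ∑ i, w i * w i = n) :
    ∑ i, v i * w i ≤ (supp v ∩ supp w).card ∧ -((supp v ∩ supp w).card : ℤ) ≤ ∑ i, v i * w i := by
  rw [dot_inter]
  have h := abs_dot_le hm hn hv hw
  constructor
  · calc ∑ i ∈ supp v ∩ supp w, v i * w i ≤ ∑ _i ∈ supp v ∩ supp w, (1 : ℤ) :=
          Finset.sum_le_sum fun i hi => by rcases h i hi with e | e <;> omega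
      _ = _ := by simp
  · calc -((supp v ∩ supp w).card : ℤ) = ∑ _i ∈ supp v ∩ supp w, (-1 : ℤ) := by simp
      _ ≤ _ := Finset.sum_le_sum fun i hi => by rcases h i hi with e | e <;> omega

/-- Two vectors of norm `n + 1` and inner product `n`, `n ≤ 2`, share `n` entries. -/
theorem share {v w : I → ℤ} {n : ℕ} (hn : n ≤ 2) (hv : ∑ i, v i * v i = n + 1)
    (hw : ∑ i, w i * w i = n + 1) (hvw : ∑ i, v i * w i = n) :
    (supp v ∩ supp w).card = n ∧ ∀ i ∈ supp v ∩ supp w, w i = v i := by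
  have hb := dot_le_card (m := n + 1) (n := n + 1) (by omega) (by omega) hv hw
  rw [hvw] at hb
  have hc := card_supp (n := n + 1) (by omega) (by rw [hv]; push_cast; ring)
  have hle : (supp v ∩ supp w).card ≤ n + 1 := hc ▸ card_le_card inter_subset_left
  have hge : n ≤ (supp v ∩ supp w).card := by exact_mod_cast hb.1
  have h := abs_dot_le (m := n + 1) (n := n + 1) (by omega) (by omega) hv hw
  -- parity
  have hpar : ((supp v ∩ supp w).card : ℤ) - n =
      2 * ((supp v ∩ supp w).filter fun i => v i * w i = -1).card := by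
    have h1 : ∀ i ∈ supp v ∩ supp w,
        1 - v i * w i = 2 * if v i * w i = -1 then 1 else 0 := fun i hi => by
      rcases h i hi with e | e <;> simp [e]
    have h2 := Finset.sum_congr rfl h1
    rw [Finset.sum_sub_distrib, ← Finset.mul_sum, Finset.sum_boole, ← dot_inter, hvw,
      Finset.sum_const, nsmul_eq_mul, mul_one] at h2
    exact h2
  have heq : (supp v ∩ supp w).card = n := by omega
  refine ⟨heq, fun i hi => ?_⟩
  have hne : v i * w i = 1 := by
    rcases h i hi with e | e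
    · exact e
    · exfalso
      have : 0 < ((supp v ∩ supp w).filter fun i => v i * w i = -1).card :=
        card_pos.2 ⟨i, mem_filter.2 ⟨hi, e⟩⟩
      rw [heq] at hpar
      omega
  rw [mem_inter, mem_supp, mem_supp] at hi
  rcases unit_of_norm (n := n + 1) (by omega) hv i hi.1 with e | e <;>
    rw [e] at hne ⊢ <;> omega

/-- The remainder of a vector after its first coordinates. -/
def rest (T : Finset I) (v : I → ℤ) : I → ℤ := fun i => if i ∈ T then 0 else v i

theorem rest_apply {T : Finset I} (v : I → ℤ) {i : I} (hi : i ∉ T) : rest T v i = v i :=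
  if_neg hi

theorem sum_rest_mul (T : Finset I) (v w : I → ℤ) :
    ∑ i, rest T v i * rest T w i = ∑ i, v i * w i - ∑ i ∈ T, v i * w i := by
  rw [← Finset.sum_compl_add_sum T fun i => v i * w i, add_sub_cancel_right,
    ← Finset.sum_compl_add_sum T fun i => rest T v i * rest T w i,
    Finset.sum_eq_zero (s := T) fun i hi => by simp [rest, hi], add_zero]
  exact Finset.sum_congr rfl fun i hi => by simp [rest, mem_compl.1 hi]

theorem sum_rest (T : Finset I) (v d : I → ℤ) :
    ∑ i, rest T v i * d i = ∑ i, v i * d i - ∑ i ∈ T, v i * d i := by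
  rw [← Finset.sum_compl_add_sum T fun i => v i * d i, add_sub_cancel_right,
    ← Finset.sum_compl_add_sum T fun i => rest T v i * d i,
    Finset.sum_eq_zero (s := T) fun i hi => by simp [rest, hi], add_zero]
  exact Finset.sum_congr rfl fun i hi => by simp [rest, mem_compl.1 hi]

omit [Fintype I] in
theorem rest_ne_zero {T : Finset I} {v : I → ℤ} {i : I} (hi : rest T v i ≠ 0) : i ∉ T :=
  fun h => hi (if_pos h)

/-- The data of one subgroup: a coefficient matrix, the principal index and degrees. -/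
structure Sys {O : Type*} [DecidableEq O] (e : ℤ) (i₀ : I) (d : I → ℤ) (c : I → O → ℤ) : Prop where
  triv : ∀ o, c i₀ o = 1
  gram : ∀ o o', ∑ i, c i o * c i o' = e + if o = o' then 1 else 0
  deg : ∀ o, ∑ i, c i o * d i = 0
  d_triv : d i₀ = 1
  d_pos : ∀ i, 0 < d i

variable {O P Q : Type*} [DecidableEq O] [DecidableEq P] [DecidableEq Q]

/-- Equal signed degrees give equal signs and degrees. -/
theorem sign_eq {a b x y : ℤ} (ha : a = 1 ∨ a = -1) (hb : b = 1 ∨ b = -1) (hx : 0 < x) (hy : 0 < y)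
    (h : a * x = b * y) : a = b ∧ x = y := by
  rcases ha with rfl | rfl <;> rcases hb with rfl | rfl <;> omega

/-- The case `e = 2`. -/
theorem star {i₀ : I} {d : I → ℤ} {c : I → O → ℤ} (S : Sys 2 i₀ d c) [Nontrivial O] :
    ∃ (j : I) (δ ε : ℤ) (X : O → I),
      (δ = 1 ∨ δ = -1) ∧ (ε = 1 ∨ ε = -1) ∧ j ≠ i₀ ∧ Function.Injective X ∧
      (∀ o, X o ≠ i₀ ∧ X o ≠ j) ∧ (∀ o, c j o = δ) ∧
      (∀ o o', c (X o) o' = if o = o' then -ε else 0) ∧
      (∀ i, i ≠ i₀ → i ≠ j → (∀ o, X o ≠ i) → ∀ o, c i o = 0) ∧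
      ∀ o, ε * d (X o) = 1 + δ * d j := by
  set v : O → I → ℤ := fun o => rest {i₀} fun i => c i o with hv
  have hdot : ∀ o o', ∑ i, v o i * v o' i = 1 + if o = o' then 1 else 0 := by
    intro o o'
    simp only [hv, sum_rest_mul, S.gram, sum_singleton, S.triv]
    ring
  have hdeg : ∀ o, ∑ i ∈ supp (v o), v o i * d i = -1 := by
    intro o
    rw [← sum_supp]
    simp only [hv, sum_rest, S.deg, sum_singleton, S.triv, S.d_triv]
    ring
  have hnorm : ∀ o, ∑ i, v o i * v o i = (1 : ℕ) + 1 := fun o => by simp [hdot]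
  have hsh : ∀ o o', o ≠ o' → (supp (v o) ∩ supp (v o')).card = 1 ∧
      ∀ i ∈ supp (v o) ∩ supp (v o'), v o' i = v o i := fun o o' hne =>
    share (n := 1) (by norm_num) (hnorm o) (hnorm o') (by simp [hdot, hne])
  have hcard : ∀ o, (supp (v o)).card = 2 := fun o =>
    card_supp (n := 2) (by norm_num) (by simp [hdot])
  obtain ⟨o₁, o₂, h12⟩ := exists_pair_ne O
  obtain ⟨j, hj⟩ := card_eq_one.1 (hsh o₁ o₂ h12).1
  have hj1 : j ∈ supp (v o₁) := mem_of_mem_inter_left (hj ▸ mem_singleton_self j)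
  have hj2 : j ∈ supp (v o₂) := mem_of_mem_inter_right (hj ▸ mem_singleton_self j)
  have hjall : ∀ o, j ∈ supp (v o) := by
    intro o
    by_contra hno
    have h1 : o ≠ o₁ := fun e => hno (e ▸ hj1)
    have h2 : o ≠ o₂ := fun e => hno (e ▸ hj2)
    obtain ⟨b, hb⟩ := card_eq_one.1 (hsh o o₁ h1).1
    obtain ⟨b', hb'⟩ := card_eq_one.1 (hsh o o₂ h2).1
    have hbo := mem_inter.1 (hb ▸ mem_singleton_self b)
    have hbo' := mem_inter.1 (hb' ▸ mem_singleton_self b')
    have hbj : b ≠ j := fun e => hno (e ▸ hbo.1)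
    have hbj' : b' ≠ j := fun e => hno (e ▸ hbo'.1)
    have hbb : b ≠ b' := by
      intro e
      have : b ∈ supp (v o₁) ∩ supp (v o₂) := mem_inter.2 ⟨hbo.2, e ▸ hbo'.2⟩
      rw [hj, mem_singleton] at this
      exact hbj this
    have e1 : supp (v o₁) = {j, b} := (eq_of_subset_of_card_le
      (by simp [insert_subset_iff, mem_supp.1 hj1, mem_supp.1 hbo.2])
      (by rw [hcard, card_pair hbj.symm])).symm
    have e2 : supp (v o₂) = {j, b'} := (eq_of_subset_of_card_le
      (by simp [insert_subset_iff, mem_supp.1 hj2, mem_supp.1 hbo'.2])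
      (by rw [hcard, card_pair hbj'.symm])).symm
    have e3 : supp (v o) = {b, b'} := (eq_of_subset_of_card_le
      (by simp [insert_subset_iff, mem_supp.1 hbo.1, mem_supp.1 hbo'.1])
      (by rw [hcard, card_pair hbb])).symm
    have d1 := hdeg o₁
    have d2 := hdeg o₂
    have d3 := hdeg o
    rw [e1, sum_pair hbj.symm] at d1
    rw [e2, sum_pair hbj'.symm] at d2
    rw [e3, sum_pair hbb] at d3
    have w1 : v o₁ b = v o b :=
      (hsh o o₁ h1).2 b (hb ▸ mem_singleton_self b)
    have w2 : v o₂ b' = v o b' :=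
      (hsh o o₂ h2).2 b' (hb' ▸ mem_singleton_self b')
    have w3 : v o₂ j = v o₁ j := (hsh o₁ o₂ h12).2 j (hj ▸ mem_singleton_self j)
    rw [w1] at d1
    rw [w2, w3] at d2
    omega
  have hXex : ∀ o, ∃ b, b ≠ j ∧ supp (v o) = {j, b} := by
    intro o
    have h1 : ((supp (v o)).erase j).card = 1 := by rw [card_erase_of_mem (hjall o), hcard]
    obtain ⟨b, hb⟩ := card_eq_one.1 h1
    refine ⟨b, (mem_erase.1 (hb ▸ mem_singleton_self b)).1, ?_⟩
    rw [← insert_erase (hjall o), hb]
  choose X hXj hXs using hXex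
  have hmem : ∀ o, X o ∈ supp (v o) := fun o => by rw [hXs]; simp
  have hnot₀ : ∀ o i, i ∈ supp (v o) → i ≠ i₀ := fun o i hi => by
    simpa using rest_ne_zero (mem_supp.1 hi)
  have hval : ∀ o i, i ≠ i₀ → v o i = c i o := fun o i hi => by
    simp only [hv]; exact rest_apply (fun i => c i o) (by simpa using hi)
  have hδ : ∀ o, v o j = v o₁ j := fun o => by
    by_cases h : o₁ = o
    · rw [h]
    · exact (hsh o₁ o h).2 j (mem_inter.2 ⟨hj1, hjall o⟩)
  have hother : ∀ o o', o ≠ o' → X o ∉ supp (v o') := by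
    intro o o' hne hm
    have h2 : ({j, X o} : Finset I) ⊆ supp (v o) ∩ supp (v o') := by
      simp [insert_subset_iff, mem_supp.1 (hjall o), mem_supp.1 (hjall o'), mem_supp.1 (hmem o),
        mem_supp.1 hm]
    have := card_le_card h2
    rw [card_pair (hXj o).symm, (hsh o o' hne).1] at this
    omega
  have hrel : ∀ o, v o (X o) * d (X o) = -(1 + v o₁ j * d j) := fun o => by
    have := hdeg o
    rw [hXs, sum_pair (hXj o).symm, hδ] at this
    omega
  have hunit : ∀ o i, i ∈ supp (v o) → v o i = 1 ∨ v o i = -1 := fun o i hi =>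
    unit_of_norm (n := 2) (by norm_num) (by simp [hdot]) i (mem_supp.1 hi)
  have hsame : ∀ o, v o (X o) = v o₁ (X o₁) ∧ d (X o) = d (X o₁) := fun o =>
    sign_eq (hunit o _ (hmem o)) (hunit o₁ _ (hmem o₁)) (S.d_pos _) (S.d_pos _)
      (by rw [hrel, hrel])
  refine ⟨j, v o₁ j, -(v o₁ (X o₁)), X, hunit _ _ hj1, ?_, hnot₀ _ _ hj1, ?_,
    fun o => ⟨hnot₀ _ _ (hmem o), hXj o⟩, fun o => ?_, fun o o' => ?_, fun i h0 hij hX o => ?_,
    fun o => ?_⟩
  · rcases hunit o₁ _ (hmem o₁) with e | e <;> simp [e]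
  · intro o o' e
    by_contra hne
    exact hother o o' hne (e ▸ hmem o')
  · rw [← hval o j (hnot₀ _ _ hj1), hδ]
  · rw [← hval o' _ (hnot₀ _ _ (hmem o))]
    by_cases e : o = o'
    · subst e; rw [if_pos rfl, (hsame o).1, neg_neg]
    · rw [if_neg e]; exact not_mem_supp (hother o o' e)
  · rw [← hval o i h0]
    refine not_mem_supp ?_
    rw [hXs]
    simp [hij, (hX o).symm]
  · have := hrel o
    rw [(hsame o).1] at this
    linarith

/-- The three common facts for a family of vectors of norm three with inner products two. -/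
structure Tri (r : P → I → ℤ) (d : I → ℤ) (K : ℤ) : Prop where
  norm : ∀ p, ∑ i, r p i * r p i = 3
  dot : ∀ p p', p ≠ p' → ∑ i, r p i * r p' i = 2
  deg : ∀ p, ∑ i, r p i * d i = K
  d_pos : ∀ i, 0 < d i

namespace Tri

variable {r : P → I → ℤ} {d : I → ℤ} {K : ℤ} (T : Tri r d K)
include T

omit [DecidableEq P] in
theorem share2 {p p' : P} (h : p ≠ p') : (supp (r p) ∩ supp (r p')).card = 2 ∧
    ∀ i ∈ supp (r p) ∩ supp (r p'), r p' i = r p i :=
  share (n := 2) le_rfl (by rw [T.norm]; rfl) (by rw [T.norm]; rfl) (by rw [T.dot _ _ h]; rfl)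

omit [DecidableEq P] in
theorem card3 (p : P) : (supp (r p)).card = 3 :=
  card_supp (n := 3) (by norm_num) (by rw [T.norm]; rfl)

omit [DecidableEq P] in
theorem unit (p : P) {i : I} (hi : i ∈ supp (r p)) : r p i = 1 ∨ r p i = -1 :=
  unit_of_norm (n := 3) (by norm_num) (T.norm p) i (mem_supp.1 hi)

/-- A sunflower, given one vector with product `-2` with all of them and a second such vector. -/
theorem sunflower [Nontrivial P] {u : Q → I → ℤ} {K' : ℤ} (U : Tri u d K') [Nontrivial Q]
    (hru : ∀ p q, ∑ i, r p i * u q i = -2) :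
    ∃ (a b : I) (s : ℤ) (Y : P → I), a ≠ b ∧ Function.Injective Y ∧ (s = 1 ∨ s = -1) ∧
      (∀ p, Y p ≠ a ∧ Y p ≠ b ∧ supp (r p) = {a, b, Y p} ∧ r p (Y p) = s) ∧
      (∀ p p', r p a = r p' a ∧ r p b = r p' b) ∧ ∀ p p', d (Y p) = d (Y p') := by
  obtain ⟨p₁, p₂, h12⟩ := exists_pair_ne P
  obtain ⟨a, b, hab, hC⟩ := card_eq_two.1 (T.share2 h12).1
  have ha := mem_inter.1 (show a ∈ supp (r p₁) ∩ supp (r p₂) by rw [hC]; simp)
  have hb := mem_inter.1 (show b ∈ supp (r p₁) ∩ supp (r p₂) by rw [hC]; simp)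
  have hall : ∀ p, a ∈ supp (r p) ∧ b ∈ supp (r p) := by
    intro p
    by_contra hno
    -- rename so that `b` is missing
    wlog hbp : b ∉ supp (r p) generalizing a b
    · have hb' : b ∈ supp (r p) := not_not.1 hbp
      exact this b a hab.symm (hC.trans (pair_comm a b)) hb ha (fun h => hno ⟨h.2, h.1⟩)
        fun h => hno ⟨h, hb'⟩
    have h1 : p₁ ≠ p := fun e => hbp (e ▸ hb.1)
    have h2 : p₂ ≠ p := fun e => hbp (e ▸ hb.2)
    obtain ⟨x, hx⟩ : ∃ x, supp (r p₁) \ {a, b} = {x} := card_eq_one.1 (by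
      rw [card_sdiff_of_subset (by simp [insert_subset_iff, mem_supp.1 ha.1, mem_supp.1 hb.1]),
        T.card3, card_pair hab])
    obtain ⟨y, hy⟩ : ∃ y, supp (r p₂) \ {a, b} = {y} := card_eq_one.1 (by
      rw [card_sdiff_of_subset (by simp [insert_subset_iff, mem_supp.1 ha.2, mem_supp.1 hb.2]),
        T.card3, card_pair hab])
    have hx' := mem_sdiff.1 (hx ▸ mem_singleton_self x)
    have hy' := mem_sdiff.1 (hy ▸ mem_singleton_self y)
    simp only [mem_insert, mem_singleton, not_or] at hx' hy'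
    have s1 : supp (r p₁) = {a, b, x} := (eq_of_subset_of_card_le
      (by simp [insert_subset_iff, mem_supp.1 ha.1, mem_supp.1 hb.1, mem_supp.1 hx'.1])
      (by rw [T.card3, card_insert_of_notMem (by simp [hab, Ne.symm hx'.2.1]),
        card_pair (Ne.symm hx'.2.2)])).symm
    have s2 : supp (r p₂) = {a, b, y} := (eq_of_subset_of_card_le
      (by simp [insert_subset_iff, mem_supp.1 ha.2, mem_supp.1 hb.2, mem_supp.1 hy'.1])
      (by rw [T.card3, card_insert_of_notMem (by simp [hab, Ne.symm hy'.2.1]),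
        card_pair (Ne.symm hy'.2.2)])).symm
    have t1 : supp (r p₁) ∩ supp (r p) = {a, x} := eq_of_subset_of_card_le (by
        intro i hi
        rw [mem_inter, s1] at hi
        simp only [mem_insert, mem_singleton] at hi ⊢
        rcases hi.1 with e | e | e
        · exact Or.inl e
        · exact absurd (e ▸ hi.2) hbp
        · exact Or.inr e)
      (by rw [(T.share2 h1).1]; exact card_le_two)
    have t2 : supp (r p₂) ∩ supp (r p) = {a, y} := eq_of_subset_of_card_le (by
        intro i hi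
        rw [mem_inter, s2] at hi
        simp only [mem_insert, mem_singleton] at hi ⊢
        rcases hi.1 with e | e | e
        · exact Or.inl e
        · exact absurd (e ▸ hi.2) hbp
        · exact Or.inr e)
      (by rw [(T.share2 h2).1]; exact card_le_two)
    have hax := (show a ∈ supp (r p₁) ∩ supp (r p) by rw [t1]; simp)
    have hxp := (show x ∈ supp (r p₁) ∩ supp (r p) by rw [t1]; simp)
    have hyp := (show y ∈ supp (r p₂) ∩ supp (r p) by rw [t2]; simp)
    have hxy : x ≠ y := by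
      intro e
      have : x ∈ supp (r p₁) ∩ supp (r p₂) := mem_inter.2 ⟨hx'.1, e ▸ hy'.1⟩
      rw [hC] at this
      simp [hx'.2.1, hx'.2.2] at this
    have s3 : supp (r p) = {a, x, y} := (eq_of_subset_of_card_le
      (by simp [insert_subset_iff, mem_supp.1 (mem_inter.1 hax).2, mem_supp.1 (mem_inter.1 hxp).2,
        mem_supp.1 (mem_inter.1 hyp).2])
      (by rw [T.card3, card_insert_of_notMem (by simp [Ne.symm hx'.2.1, Ne.symm hy'.2.1]),
        card_pair hxy])).symm
    have wa : r p a = r p₁ a := (T.share2 h1).2 a hax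
    have wx : r p x = r p₁ x := (T.share2 h1).2 x hxp
    have wy : r p y = r p₂ y := (T.share2 h2).2 y hyp
    have wa2 : r p₂ a = r p₁ a := (T.share2 h12).2 a (by rw [hC]; simp)
    have wb2 : r p₂ b = r p₁ b := (T.share2 h12).2 b (by rw [hC]; simp)
    -- each `u q` is `-(b, x, y)`
    have key : ∀ q, r p₁ a * u q a = 0 ∧ r p₁ b * u q b = -1 ∧ r p₁ x * u q x = -1 ∧
        r p₂ y * u q y = -1 := by
      intro q
      have e1 := hru p₁ q
      have e2 := hru p₂ q
      have e3 := hru p q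
      rw [sum_supp, s1, sum_insert (by simp [hab, Ne.symm hx'.2.1]),
        sum_pair (Ne.symm hx'.2.2)] at e1
      rw [sum_supp, s2, sum_insert (by simp [hab, Ne.symm hy'.2.1]),
        sum_pair (Ne.symm hy'.2.2), wa2, wb2] at e2
      rw [sum_supp, s3, sum_insert (by simp [Ne.symm hx'.2.1, Ne.symm hy'.2.1]), sum_pair hxy,
        wa, wx, wy] at e3
      have hbd : ∀ (i : I) (s : ℤ), (s = 1 ∨ s = -1) →
          s * u q i = 0 ∨ s * u q i = 1 ∨ s * u q i = -1 := by
        intro i s hs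
        by_cases hi : u q i = 0
        · simp [hi]
        · rcases unit_of_norm (n := 3) (by norm_num) (U.norm q) i hi with e | e <;>
            rcases hs with rfl | rfl <;> simp [e]
      rcases hbd a _ (T.unit p₁ ha.1) with A | A | A <;>
        rcases hbd b _ (T.unit p₁ hb.1) with B | B | B <;> rw [A] at e1 e2 e3 ⊢ <;>
        rw [B] at e1 e2 ⊢ <;> omega
    obtain ⟨q₁, q₂, hq⟩ := exists_pair_ne Q
    have hsub : ∀ q, supp (u q) = {b, x, y} := fun q => (eq_of_subset_of_card_le (by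
        obtain ⟨-, k2, k3, k4⟩ := key q
        simp only [insert_subset_iff, singleton_subset_iff, mem_supp]
        refine ⟨?_, ?_, ?_⟩ <;> intro e <;> simp [e] at k2 k3 k4)
      (by rw [U.card3, card_insert_of_notMem (by simp [Ne.symm hx'.2.2, Ne.symm hy'.2.2]),
        card_pair hxy])).symm
    have := (U.share2 hq).1
    rw [hsub, hsub, inter_self, card_insert_of_notMem (by simp [Ne.symm hx'.2.2, Ne.symm hy'.2.2]),
      card_pair hxy] at this
    omega
  have hYex : ∀ p, ∃ y, y ≠ a ∧ y ≠ b ∧ supp (r p) = {a, b, y} := by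
    intro p
    have hsub : ({a, b} : Finset I) ⊆ supp (r p) := by
      simp [insert_subset_iff, mem_supp.1 (hall p).1, mem_supp.1 (hall p).2]
    obtain ⟨y, hy⟩ : ∃ y, supp (r p) \ {a, b} = {y} := card_eq_one.1 (by
      rw [card_sdiff_of_subset hsub, T.card3, card_pair hab])
    have hy' := mem_sdiff.1 (hy ▸ mem_singleton_self y)
    simp only [mem_insert, mem_singleton, not_or] at hy'
    refine ⟨y, hy'.2.1, hy'.2.2, (eq_of_subset_of_card_le
      (by simp [insert_subset_iff, mem_supp.1 (hall p).1, mem_supp.1 (hall p).2, mem_supp.1 hy'.1])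
      (by rw [T.card3, card_insert_of_notMem (by simp [hab, Ne.symm hy'.2.1]),
        card_pair (Ne.symm hy'.2.2)])).symm⟩
  choose Y hYa hYb hYs using hYex
  have hmem : ∀ p, Y p ∈ supp (r p) := fun p => by rw [hYs]; simp
  have hfix : ∀ p p', r p a = r p' a ∧ r p b = r p' b := by
    intro p p'
    by_cases e : p' = p
    · rw [e]; exact ⟨rfl, rfl⟩
    · exact ⟨(T.share2 e).2 a (mem_inter.2 ⟨(hall p').1, (hall p).1⟩),
        (T.share2 e).2 b (mem_inter.2 ⟨(hall p').2, (hall p).2⟩)⟩
  have hrel : ∀ p, r p (Y p) * d (Y p) = K - r p₁ a * d a - r p₁ b * d b := by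
    intro p
    have := T.deg p
    rw [sum_supp, hYs, sum_insert (by simp [hab, Ne.symm (hYa p)]), sum_pair (Ne.symm (hYb p)),
      (hfix p p₁).1, (hfix p p₁).2] at this
    linarith
  have hsame : ∀ p, r p (Y p) = r p₁ (Y p₁) ∧ d (Y p) = d (Y p₁) := fun p =>
    sign_eq (T.unit p (hmem p)) (T.unit p₁ (hmem p₁)) (T.d_pos _) (T.d_pos _) (by rw [hrel, hrel])
  refine ⟨a, b, r p₁ (Y p₁), Y, hab, ?_, T.unit p₁ (hmem p₁),
    fun p => ⟨hYa p, hYb p, hYs p, (hsame p).1⟩, hfix, fun p p' => (hsame p).2.trans (hsame p').2.symm⟩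
  intro p p' e
  by_contra hne
  have h2 := (T.share2 hne).1
  rw [hYs, hYs, e, inter_self, card_insert_of_notMem (by simp [hab, Ne.symm (hYa p')]),
    card_pair (Ne.symm (hYb p'))] at h2
  omega

end Tri

/-- The values of a sunflower on a second family of distinct points. -/
theorem dich {P' Q' : Type*} [Fintype Q'] [Nontrivial P'] [Nontrivial Q'] (r' : P' → I → ℤ)
    (a b : I) (Y : P' → I) (Z : Q' → I) (hY : Function.Injective Y) (hZ : Function.Injective Z)
    (hs : ∀ p, supp (r' p) = {a, b, Y p}) (hc : ∀ q q' p, r' p (Z q) = r' p (Z q')) :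
    (∀ p q, r' p (Z q) = 0) ∨ (Fintype.card Q' = 2 ∧ ∀ q, Z q = a ∨ Z q = b) := by
  by_cases h0 : ∀ p q, r' p (Z q) = 0
  · exact Or.inl h0
  push Not at h0
  obtain ⟨p, q₀, hpq⟩ := h0
  have hin : ∀ q, Z q = a ∨ Z q = b := by
    intro q
    by_contra hno
    push Not at hno
    have hqp : Z q = Y p := by
      have : Z q ∈ supp (r' p) := mem_supp.2 (hc q₀ q p ▸ hpq)
      rw [hs] at this
      simp [hno.1, hno.2] at this
      exact this
    obtain ⟨p', hp'⟩ := exists_ne p
    have hz : r' p' (Z q) = 0 := by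
      by_contra hne
      have : Z q ∈ supp (r' p') := mem_supp.2 hne
      rw [hs] at this
      simp [hno.1, hno.2] at this
      exact hp' (hY (this.symm.trans hqp))
    obtain ⟨q', hq'⟩ := exists_ne q
    have hq'p : Z q' = Y p := by
      have h1 : Z q' ∈ supp (r' p) := mem_supp.2 (hc q₀ q' p ▸ hpq)
      have h2 : Z q' ∉ supp (r' p') := by simp [hc q' q p', hz]
      rw [hs] at h1 h2
      simp only [mem_insert, mem_singleton, not_or] at h1 h2
      rcases h1 with e | e | e
      · exact absurd e h2.1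
      · exact absurd e h2.2.1
      · exact e
    exact hq' (hZ (hq'p.trans hqp.symm))
  refine Or.inr ⟨?_, hin⟩
  have hle : (univ.image Z).card ≤ 2 := (card_le_card (by
    intro i hi
    obtain ⟨q, -, rfl⟩ := mem_image.1 hi
    simpa using hin q : univ.image Z ⊆ {a, b})).trans card_le_two
  rw [card_image_of_injective _ hZ, card_univ] at hle
  have := Fintype.one_lt_card (α := Q')
  omega

/-- The two families of norm three. -/
theorem pair_split [Nontrivial P] [Nontrivial Q] [Fintype P] [Fintype Q] {r : P → I → ℤ}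
    {u : Q → I → ℤ} {d : I → ℤ} {K K' : ℤ} (T : Tri r d K) (U : Tri u d K')
    (hru : ∀ p q, ∑ i, r p i * u q i = -2)
    (hsize : ¬(Fintype.card P = 2 ∧ Fintype.card Q = 2)) :
    ∃ (a b : I) (sa sb sY sZ : ℤ) (Y : P → I) (Z : Q → I),
      a ≠ b ∧ (sa = 1 ∨ sa = -1) ∧ (sb = 1 ∨ sb = -1) ∧ (sY = 1 ∨ sY = -1) ∧
      (sZ = 1 ∨ sZ = -1) ∧ Function.Injective Y ∧ Function.Injective Z ∧
      (∀ p, Y p ≠ a ∧ Y p ≠ b) ∧ (∀ q, Z q ≠ a ∧ Z q ≠ b) ∧ (∀ p q, Y p ≠ Z q) ∧
      (∀ p, r p a = sa ∧ r p b = sb ∧ r p (Y p) = sY ∧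
        ∀ i, i ≠ a → i ≠ b → i ≠ Y p → r p i = 0) ∧
      (∀ q, u q a = -sa ∧ u q b = -sb ∧ u q (Z q) = sZ ∧
        ∀ i, i ≠ a → i ≠ b → i ≠ Z q → u q i = 0) ∧
      (∀ p p', d (Y p) = d (Y p')) ∧ ∀ q q', d (Z q) = d (Z q') := by
  have hur : ∀ q p, ∑ i, u q i * r p i = -2 := fun q p => by
    rw [← hru p q]; exact Finset.sum_congr rfl fun i _ => mul_comm _ _
  obtain ⟨a, b, sY, Y, hab, hY, hsY, hYp, hfix, hdY⟩ := T.sunflower U hru
  obtain ⟨a', b', sZ, Z, hab', hZ, hsZ, hZq, hfix', hdZ⟩ := U.sunflower T hur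
  have hdotR : ∀ p q, r p a * u q a + r p b * u q b + sY * u q (Y p) = -2 := by
    intro p q
    have := hru p q
    rw [sum_supp, (hYp p).2.2.1, sum_insert (by simp [hab, Ne.symm (hYp p).1]),
      sum_pair (Ne.symm (hYp p).2.1), (hYp p).2.2.2] at this
    linarith
  have hdotU : ∀ p q, u q a' * r p a' + u q b' * r p b' + sZ * r p (Z q) = -2 := by
    intro p q
    have := hur q p
    rw [sum_supp, (hZq q).2.2.1, sum_insert (by simp [hab', Ne.symm (hZq q).1]),
      sum_pair (Ne.symm (hZq q).2.1), (hZq q).2.2.2] at this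
    linarith
  have hs0 : sY ≠ 0 := by omega
  have ht0 : sZ ≠ 0 := by omega
  have hcY : ∀ p p' q, u q (Y p) = u q (Y p') := fun p p' q => by
    have h1 := hdotR p q
    have h2 := hdotR p' q
    rw [(hfix p p').1, (hfix p p').2] at h1
    exact mul_left_cancel₀ hs0 (by linarith)
  have hcZ : ∀ q q' p, r p (Z q) = r p (Z q') := fun q q' p => by
    have h1 := hdotU p q
    have h2 := hdotU p q'
    rw [(hfix' q q').1, (hfix' q q').2] at h1
    exact mul_left_cancel₀ ht0 (by linarith)
  have hnone : (∀ p q, r p (Z q) = 0) ∧ ∀ q p, u q (Y p) = 0 := by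
    rcases dich r a b Y Z hY hZ (fun p => (hYp p).2.2.1) hcZ with h1 | ⟨c1, i1⟩ <;>
      rcases dich u a' b' Z Y hZ hY (fun q => (hZq q).2.2.1) hcY with
        h2 | ⟨c2, i2⟩
    · exact ⟨h1, h2⟩
    · -- every `Y p` lies in `{a', b'}`; then `u q · r p` is small
      exfalso
      obtain ⟨p⟩ : Nonempty P := inferInstance
      obtain ⟨q⟩ : Nonempty Q := inferInstance
      have h3 := hdotU p q
      rw [h1, mul_zero, add_zero] at h3
      obtain ⟨p', hp'⟩ := exists_ne p
      have hz : r p (Y p') = 0 := by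
        by_contra hne
        have : Y p' ∈ supp (r p) := mem_supp.2 hne
        rw [(hYp p).2.2.1] at this
        simp [(hYp p').1, (hYp p').2.1] at this
        exact hp' (hY this)
      have hun : ∀ i s, (s = 1 ∨ s = -1) → -1 ≤ u q i * s ∧ u q i * s ≤ 1 := by
        intro i s hs
        by_cases hi : u q i = 0
        · simp [hi]
        · rcases U.unit q (mem_supp.2 hi) with e | e <;> rcases hs with rfl | rfl <;> simp [e]
      have hp'' := T.unit p (i := Y p) (by rw [(hYp p).2.2.1]; simp)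
      rcases i2 p' with e | e <;> rcases i2 p with e' | e'
      · exact hp' (hY (e.trans e'.symm))
      · rw [← e, ← e', hz, mul_zero] at h3
        have := hun (Y p) _ hp''
        omega
      · rw [← e, ← e', hz, mul_zero] at h3
        have := hun (Y p) _ hp''
        omega
      · exact hp' (hY (e.trans e'.symm))
    · exfalso
      obtain ⟨p⟩ : Nonempty P := inferInstance
      obtain ⟨q⟩ : Nonempty Q := inferInstance
      have h3 := hdotR p q
      rw [h2, mul_zero, add_zero] at h3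
      obtain ⟨q', hq'⟩ := exists_ne q
      have hz : u q (Z q') = 0 := by
        by_contra hne
        have : Z q' ∈ supp (u q) := mem_supp.2 hne
        rw [(hZq q).2.2.1] at this
        simp [(hZq q').1, (hZq q').2.1] at this
        exact hq' (hZ this)
      have hun : ∀ i s, (s = 1 ∨ s = -1) → -1 ≤ r p i * s ∧ r p i * s ≤ 1 := by
        intro i s hs
        by_cases hi : r p i = 0
        · simp [hi]
        · rcases T.unit p (mem_supp.2 hi) with e | e <;> rcases hs with rfl | rfl <;> simp [e]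
      have hq'' := U.unit q (i := Z q) (by rw [(hZq q).2.2.1]; simp)
      rcases i1 q' with e | e <;> rcases i1 q with e' | e'
      · exact hq' (hZ (e.trans e'.symm))
      · rw [← e, ← e', hz, mul_zero] at h3
        have := hun (Z q) _ hq''
        omega
      · rw [← e, ← e', hz, mul_zero] at h3
        have := hun (Z q) _ hq''
        omega
      · exact hq' (hZ (e.trans e'.symm))
    · exact absurd ⟨c2, c1⟩ hsize
  obtain ⟨hrZ, huY⟩ := hnone
  obtain ⟨p₀⟩ : Nonempty P := inferInstance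
  obtain ⟨q₀⟩ : Nonempty Q := inferInstance
  have hma : ∀ p, a ∈ supp (r p) := fun p => by rw [(hYp p).2.2.1]; simp
  have hmb : ∀ p, b ∈ supp (r p) := fun p => by rw [(hYp p).2.2.1]; simp
  -- `u` takes the opposite values at `a` and `b`
  have hopp : ∀ q, u q a = -(r p₀ a) ∧ u q b = -(r p₀ b) := by
    intro q
    have h3 := hdotR p₀ q
    rw [huY, mul_zero, add_zero] at h3
    have hx : ∀ i, i ∈ supp (r p₀) →
        (r p₀ i * u q i = -1 ∧ u q i = -(r p₀ i)) ∨ r p₀ i * u q i = 0 ∨ r p₀ i * u q i = 1 := by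
      intro i hi
      by_cases h0 : u q i = 0
      · simp [h0]
      · rcases U.unit q (mem_supp.2 h0) with e | e <;> rcases T.unit p₀ hi with e' | e' <;>
          simp [e, e']
    rcases hx a (hma p₀) with ⟨A, A'⟩ | A | A <;> rcases hx b (hmb p₀) with ⟨B, B'⟩ | B | B <;>
      first | exact ⟨A', B'⟩ | omega
  have hZab : ∀ q, Z q ≠ a ∧ Z q ≠ b := by
    intro q
    constructor <;> intro e
    · have := hrZ p₀ q; rw [e] at this; exact mem_supp.1 (hma p₀) this
    · have := hrZ p₀ q; rw [e] at this; exact mem_supp.1 (hmb p₀) this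
  have hsupp : ∀ q, supp (u q) = {a, b, Z q} := fun q => (eq_of_subset_of_card_le (by
      simp only [insert_subset_iff, singleton_subset_iff, mem_supp]
      refine ⟨?_, ?_, ?_⟩
      · rw [(hopp q).1]; simpa using mem_supp.1 (hma p₀)
      · rw [(hopp q).2]; simpa using mem_supp.1 (hmb p₀)
      · rw [(hZq q).2.2.2]; exact ht0)
    (by rw [U.card3, card_insert_of_notMem (by simp [hab, Ne.symm (hZab q).1]),
      card_pair (Ne.symm (hZab q).2)])).symm
  refine ⟨a, b, r p₀ a, r p₀ b, sY, sZ, Y, Z, hab, T.unit _ (hma p₀), T.unit _ (hmb p₀), hsY, hsZ,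
    hY, hZ, fun p => ⟨(hYp p).1, (hYp p).2.1⟩, hZab, fun p q e => ?_,
    fun p => ⟨(hfix p p₀).1, (hfix p p₀).2, (hYp p).2.2.2, fun i h1 h2 h3 => not_mem_supp ?_⟩,
    fun q => ⟨(hopp q).1, (hopp q).2, (hZq q).2.2.2, fun i h1 h2 h3 => not_mem_supp ?_⟩, hdY, hdZ⟩
  · have := hrZ p q
    rw [← e, (hYp p).2.2.2] at this
    exact hs0 this
  · rw [(hYp p).2.2.1]; simp [h1, h2, h3]
  · rw [hsupp q]; simp [h1, h2, h3]

end Cfsg.Agent.ThreeSSC77.Comb
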