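import Mathlib
import Cfsg.Agent.Lib.ThreeSSC77Char
import Cfsg.Agent.Lib.ThreeSSC77Comb
import Cfsg.Agent.Lib.ExcChar68b
import Cfsg.Agent.Lib.CharBasicInt
import Cfsg.Agent.Lib.CharAverage

/-!
# Three strongly self-centralising subgroups: classes, one class of involutions, basic bounds
-/

set_option autoImplicit false

open scoped ComplexConjugate
open Finset

namespace Cfsg.Agent.ThreeSSC77

open CharBasic CharBasicOrth CharBasicDecomp

universe u

variable {G : Type u} [Group G] [Finite G]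

/-- The degree as an integer. -/
noncomputable def deg (χ : Cfsg.IrrCharacter G) : ℤ := (Cfsg.charDegree (χ : G → ℂ) : ℤ)

theorem deg_spec (χ : Cfsg.IrrCharacter G) : (χ : G → ℂ) 1 = (deg χ : ℂ) := by
  rw [CharAverage.irr_apply_one χ]; simp [deg]

theorem deg_pos (χ : Cfsg.IrrCharacter G) : 0 < deg χ := by
  obtain ⟨n, hn, h1, -⟩ := CharBasicInt.exists_apply_one_dvd_card χ.2
  rw [deg_spec] at h1
  have h2 : deg χ = (n : ℤ) := by exact_mod_cast h1
  omega

theorem deg_dvd (χ : Cfsg.IrrCharacter G) : deg χ ∣ (Nat.card G : ℤ) :=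
  Int.natCast_dvd_natCast.2 (CharAverage.charDegree_dvd_card χ)

theorem deg_triv : deg (trivIrr G) = 1 := by
  have h : ((trivIrr G : Cfsg.IrrCharacter G) : G → ℂ) 1 = 1 := rfl
  rw [deg_spec] at h
  exact_mod_cast h

theorem sum_deg_sq [Fintype G] : ∑ χ : Cfsg.IrrCharacter G, deg χ ^ 2 = (Nat.card G : ℤ) := by
  refine Int.cast_injective (α := ℂ) ?_
  push_cast
  simp only [← deg_spec]
  exact sum_sq_apply_one

theorem value_ne_deg [IsSimpleGroup G] {χ : Cfsg.IrrCharacter G} (hχ : χ ≠ trivIrr G) {g : G}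
    (hg : g ≠ 1) : (χ : G → ℂ) g ≠ (χ : G → ℂ) 1 := by
  classical
  intro he
  letI : Fintype G := Fintype.ofFinite _
  have hc := isCharacter_of_isIrrCharacter χ.2
  rcases (CharBasicLinear.charKer_normal (χ : G → ℂ) hc).eq_bot_or_eq_top with hb | ht
  · exact hg ((Subgroup.mem_bot).1 (hb ▸ (he : g ∈ CharBasicLinear.charKer (χ : G → ℂ) hc)))
  · refine hχ (Subtype.ext (funext fun x => ?_))
    have hall : ∀ y : G, (χ : G → ℂ) y = (deg χ : ℂ) := fun y => by
      rw [← deg_spec]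
      exact (ht ▸ Subgroup.mem_top y : y ∈ CharBasicLinear.charKer (χ : G → ℂ) hc)
    have h1 := classInner_irr_self χ.2
    simp only [Cfsg.classInner, hall, map_intCast, Finset.sum_const, card_univ, nsmul_eq_mul] at h1
    rw [← Nat.card_eq_fintype_card, ← mul_assoc,
      inv_mul_cancel₀ (Nat.cast_ne_zero.2 Nat.card_pos.ne'), one_mul] at h1
    have h2 : deg χ * deg χ = 1 := by exact_mod_cast h1
    have h3 := deg_pos χ
    have h4 : deg χ = 1 := by nlinarith
    rw [hall x, h4]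
    show ((1 : ℤ) : ℂ) = 1
    simp

/-- Three pairwise non-conjugate strongly self-centralising subgroups. -/
structure Ctx (A₁ A₂ A₃ : Subgroup G) : Prop where
  s1 : SSC A₁ 2
  s2 : SSC A₂ 4
  s3 : SSC A₃ 4
  n12 : ∀ g : G, A₁.map (MulAut.conj g).toMonoidHom ≠ A₂
  n13 : ∀ g : G, A₁.map (MulAut.conj g).toMonoidHom ≠ A₃
  n23 : ∀ g : G, A₂.map (MulAut.conj g).toMonoidHom ≠ A₃
  b1 : 5 ≤ Nat.card A₁
  b2 : 5 < Nat.card A₂
  b3 : 5 < Nat.card A₃
  bound : Nat.card G ≤ 3 * Nat.card A₁ ^ 2 * Nat.card A₂ ^ 2 * Nat.card A₃ ^ 2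

variable {A₁ A₂ A₃ : Subgroup G}

/-- `g` avoids all conjugates of the three subgroups. -/
def Outside (A₁ A₂ A₃ : Subgroup G) (g : G) : Prop :=
  g ≠ 1 ∧ ¬ InA A₁ g ∧ ¬ InA A₂ g ∧ ¬ InA A₃ g

namespace Ctx

variable (c : Ctx A₁ A₂ A₃)
include c

theorem symm : Ctx A₁ A₃ A₂ :=
  ⟨c.s1, c.s3, c.s2, c.n13, c.n12, fun g hg => c.n23 g⁻¹ (by
    rw [← hg]
    ext b
    simp [Subgroup.mem_map, mul_assoc]), c.b1, c.b3, c.b2,
    le_of_le_of_eq c.bound (by ring)⟩

theorem odd1 : Odd (Nat.card A₁) := c.s1.odd_card ⟨1, rfl⟩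
theorem odd2 : Odd (Nat.card A₂) := c.s2.odd_card ⟨2, rfl⟩
theorem odd3 : Odd (Nat.card A₃) := c.s3.odd_card ⟨2, rfl⟩
theorem cop12 : Nat.Coprime (Nat.card A₁) (Nat.card A₂) := c.s1.coprime_of_not_conj c.s2 c.n12
theorem cop13 : Nat.Coprime (Nat.card A₁) (Nat.card A₃) := c.s1.coprime_of_not_conj c.s3 c.n13
theorem cop23 : Nat.Coprime (Nat.card A₂) (Nat.card A₃) := c.s2.coprime_of_not_conj c.s3 c.n23

theorem mod2 : Nat.card A₂ % 4 = 1 ∧ 9 ≤ Nat.card A₂ := by
  obtain ⟨k, hk⟩ := c.s2.dvd_pred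
  have := c.b2
  constructor <;> omega

theorem mod3 : Nat.card A₃ % 4 = 1 ∧ 9 ≤ Nat.card A₃ := c.symm.mod2

theorem m1 : 2 * Nat.card (Orb A₁) + 1 = Nat.card A₁ ∧ 2 ≤ Nat.card (Orb A₁) := by
  have := c.s1.card_orb
  have := c.b1
  omega

theorem m2 : 4 * Nat.card (Orb A₂) + 1 = Nat.card A₂ ∧ 2 ≤ Nat.card (Orb A₂) := by
  have := c.s2.card_orb
  have := c.b2
  omega

theorem m3 : 4 * Nat.card (Orb A₃) + 1 = Nat.card A₃ ∧ 2 ≤ Nat.card (Orb A₃) := c.symm.m2

/-- The product of the three orders. -/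
theorem prod_dvd : Nat.card A₁ * (Nat.card A₂ * Nat.card A₃) ∣ Nat.card G :=
  Nat.Coprime.mul_dvd_of_dvd_of_dvd (Nat.Coprime.mul_right c.cop12 c.cop13)
    (Subgroup.card_subgroup_dvd_card _) (c.cop23.mul_dvd_of_dvd_of_dvd
      (Subgroup.card_subgroup_dvd_card _) (Subgroup.card_subgroup_dvd_card _))

theorem sys1 [Fintype G] [DecidableEq (Orb A₁)] [DecidableEq (Cfsg.IrrCharacter G)] :
    Comb.Sys 2 (trivIrr G) deg (oc A₁) :=
  sys_of c.s1
where
  sys_of {A : Subgroup G} {e : ℕ} [Fintype G] [DecidableEq (Orb A)]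
      [DecidableEq (Cfsg.IrrCharacter G)] (h : SSC A e) :
      Comb.Sys (e : ℤ) (trivIrr G) deg (oc A) :=
    ⟨h.oc_triv, h.gram, fun o => by
      have h1 := h.relation o (g := 1) (fun h' => h'.1 rfl)
      simp only [deg_spec] at h1
      exact_mod_cast h1, deg_triv, deg_pos⟩

/-- An element outside has centraliser prime to the three orders. -/
theorem coprime_cent {g : G} (hg : Outside A₁ A₂ A₃ g) :
    Nat.Coprime (Nat.card (Subgroup.centralizer ({g} : Set G)))
      (Nat.card A₁ * (Nat.card A₂ * Nat.card A₃)) := by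
  have key : ∀ (A : Subgroup G) (e : ℕ), SSC A e → ¬ InA A g →
      Nat.Coprime (Nat.card (Subgroup.centralizer ({g} : Set G))) (Nat.card A) := by
    intro A e h hgA
    refine Nat.coprime_of_dvd fun r hr hrC hrA => ?_
    haveI := Fact.mk hr
    obtain ⟨Q, hQ⟩ := h.exists_sylow_le hrA
    obtain ⟨⟨b, hb⟩, hord⟩ := exists_prime_orderOf_dvd_card'
      (G := Subgroup.centralizer ({g} : Set G)) r hrC
    rw [← Subgroup.orderOf_coe] at hord
    have hb1 : b ≠ 1 := fun e' => by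
      rw [show ((⟨b, hb⟩ : Subgroup.centralizer ({g} : Set G)) : G) = b from rfl, e',
        orderOf_one] at hord
      exact hr.one_lt.ne hord
    obtain ⟨R, hR⟩ := (IsPGroup.of_card (p := r) (n := 1)
      (by rw [Nat.card_zpowers, hord, pow_one]) : IsPGroup r (Subgroup.zpowers b)).exists_le_sylow
    obtain ⟨x, hx⟩ := MulAction.exists_smul_eq G R Q
    have hbA : x * b * x⁻¹ ∈ A := by
      refine hQ ?_
      rw [← hx, Sylow.coe_subgroup_smul]
      exact Subgroup.smul_mem_pointwise_smul b (MulAut.conj x) _ (hR (Subgroup.mem_zpowers b))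
    have hgb : g * b = b * g := (Subgroup.mem_centralizer_singleton_iff.1 hb).symm
    refine hgA ⟨hg.1, x, h.mem_of_comm hbA (fun e' => hb1 (by simpa using e')) ?_⟩
    calc x * g * x⁻¹ * (x * b * x⁻¹) = x * (g * b) * x⁻¹ := by group
      _ = x * (b * g) * x⁻¹ := by rw [hgb]
      _ = _ := by group
  exact (key _ _ c.s1 hg.2.1).mul_right
    ((key _ _ c.s2 hg.2.2.1).mul_right (key _ _ c.s3 hg.2.2.2))

theorem even_not_inA {g : G} (hg : 2 ∣ Nat.card (Subgroup.centralizer ({g} : Set G))) :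
    ¬ InA A₁ g ∧ ¬ InA A₂ g ∧ ¬ InA A₃ g := by
  refine ⟨fun h => ?_, fun h => ?_, fun h => ?_⟩
  · rw [c.s1.card_centralizer_inA h] at hg
    exact Nat.not_even_iff_odd.2 c.odd1 (even_iff_two_dvd.2 hg)
  · rw [c.s2.card_centralizer_inA h] at hg
    exact Nat.not_even_iff_odd.2 c.odd2 (even_iff_two_dvd.2 hg)
  · rw [c.s3.card_centralizer_inA h] at hg
    exact Nat.not_even_iff_odd.2 c.odd3 (even_iff_two_dvd.2 hg)

theorem outside_of_even {g : G} (h1 : g ≠ 1) (hg : 2 ∣ orderOf g) : Outside A₁ A₂ A₃ g := by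
  refine ⟨h1, c.even_not_inA (hg.trans ?_)⟩
  exact Subgroup.orderOf_dvd_natCard _ (Subgroup.mem_centralizer_singleton_iff.2 rfl)

/-- The classes in the conjugates of the three subgroups and the classes outside. -/
theorem card_classes_ge (S : Finset G) (hS : ∀ g ∈ S, Outside A₁ A₂ A₃ g)
    (hne : ∀ g ∈ S, ∀ g' ∈ S, IsConj g g' → g = g') :
    1 + Nat.card (Orb A₁) + Nat.card (Orb A₂) + Nat.card (Orb A₃) + S.card ≤
      Nat.card (ConjClasses G) := by
  classical
  haveI := Fintype.ofFinite G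
  haveI := Fintype.ofFinite (ConjClasses G)
  rw [c.s1.card_orb_eq_classes, c.s2.card_orb_eq_classes, c.s3.card_orb_eq_classes]
  set T : Subgroup G → Finset (ConjClasses G) := fun A =>
    univ.filter fun C => ∃ a ∈ A, a ≠ 1 ∧ ConjClasses.mk a = C with hT
  have hcard : ∀ A : Subgroup G,
      Nat.card {C : ConjClasses G // ∃ a ∈ A, a ≠ 1 ∧ ConjClasses.mk a = C} = (T A).card := fun A => by
    rw [Nat.card_eq_fintype_card, Fintype.card_subtype]
  rw [hcard, hcard, hcard]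
  have hin : ∀ (A : Subgroup G) (g : G), ConjClasses.mk g ∈ T A → InA A g := by
    intro A g hg
    obtain ⟨a, ha, ha1, hag⟩ := (mem_filter.1 hg).2
    obtain ⟨x, rfl⟩ := isConj_iff.1 (ConjClasses.mk_eq_mk_iff_isConj.1 hag)
    exact (inA_conj_iff x).2 ⟨ha1, 1, by simpa using ha⟩
  have hone : ∀ A : Subgroup G, ConjClasses.mk (1 : G) ∉ T A := fun A hh => (hin A 1 hh).1 rfl
  have d12 : Disjoint (T A₁) (T A₂) := Finset.disjoint_left.2 fun C => by
    induction C using Quotient.inductionOn with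
    | h g => exact fun a b => c.s1.not_inA_both c.s2 c.n12 (hin _ g a) (hin _ g b)
  have d13 : Disjoint (T A₁) (T A₃) := Finset.disjoint_left.2 fun C => by
    induction C using Quotient.inductionOn with
    | h g => exact fun a b => c.s1.not_inA_both c.s3 c.n13 (hin _ g a) (hin _ g b)
  have d23 : Disjoint (T A₂) (T A₃) := Finset.disjoint_left.2 fun C => by
    induction C using Quotient.inductionOn with
    | h g => exact fun a b => c.s2.not_inA_both c.s3 c.n23 (hin _ g a) (hin _ g b)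
  have hS' : (S.image ConjClasses.mk).card = S.card :=
    Finset.card_image_of_injOn fun a ha b hb hab =>
      hne a ha b hb (ConjClasses.mk_eq_mk_iff_isConj.1 hab)
  have dS : ∀ A, (∀ g ∈ S, ¬ InA A g) → Disjoint (T A) (S.image ConjClasses.mk) := fun A hA =>
    Finset.disjoint_left.2 fun C hC hC' => by
      obtain ⟨g, hg, rfl⟩ := mem_image.1 hC'
      exact hA g hg (hin A g hC)
  rw [← hS', ← Finset.card_singleton (ConjClasses.mk (1 : G)), Nat.card_eq_fintype_card,
    ← Finset.card_union_of_disjoint (Finset.disjoint_singleton_left.2 (hone A₁)),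
    ← Finset.card_union_of_disjoint, ← Finset.card_union_of_disjoint,
    ← Finset.card_union_of_disjoint]
  · exact Finset.card_le_univ _
  · simp only [disjoint_union_left, Finset.disjoint_singleton_left]
    refine ⟨⟨⟨fun h1 => ?_, dS A₁ fun g hg => (hS g hg).2.1⟩, dS A₂ fun g hg => (hS g hg).2.2.1⟩,
      dS A₃ fun g hg => (hS g hg).2.2.2⟩
    obtain ⟨g, hg, hg'⟩ := mem_image.1 h1
    exact (hS g hg).1 (isConj_one_left.1 (ConjClasses.mk_eq_mk_iff_isConj.1 hg'))
  · simp only [disjoint_union_left, Finset.disjoint_singleton_left]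
    exact ⟨⟨hone A₃, d13⟩, d23⟩
  · simp only [disjoint_union_left, Finset.disjoint_singleton_left]
    exact ⟨hone A₂, d12⟩

end Ctx

/-- The data attached to the first subgroup. -/
structure One (A₁ : Subgroup G) (j : Cfsg.IrrCharacter G) (δ ε : ℤ)
    (X : Orb A₁ → Cfsg.IrrCharacter G) : Prop where
  hδ : δ = 1 ∨ δ = -1
  hε : ε = 1 ∨ ε = -1
  hj : j ≠ trivIrr G
  inj : Function.Injective X
  hX : ∀ o, X o ≠ trivIrr G ∧ X o ≠ j
  cj : ∀ o, oc A₁ j o = δ
  cX : ∀ o o', (o = o' → oc A₁ (X o) o' = -ε) ∧ (o ≠ o' → oc A₁ (X o) o' = 0)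
  zero : ∀ χ, χ ≠ trivIrr G → χ ≠ j → (∀ o, X o ≠ χ) → ∀ o, oc A₁ χ o = 0
  degX : ∀ o, ε * deg (X o) = 1 + δ * deg j

theorem exists_one [Fintype G] (c : Ctx A₁ A₂ A₃) : ∃ j δ ε X, One A₁ j δ ε X := by
  classical
  haveI : Nontrivial (Orb A₁) := Finite.one_lt_card_iff_nontrivial.1 (by have := c.m1; omega)
  obtain ⟨j, δ, ε, X, h1, h2, h3, h4, h5, h6, h7, h8, h9⟩ := Comb.star c.sys1
  exact ⟨j, δ, ε, X, h1, h2, h3, h4, h5, h6,
    fun o o' => ⟨fun e => by rw [h7, if_pos e], fun e => by rw [h7, if_neg e]⟩, h8, h9⟩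

private theorem one_alg {δ ε d vx vy : ℂ} (hδ : δ * δ = 1) (hε : ε * ε = 1) (hd : d ≠ 0)
    (hD : 1 + δ * d ≠ 0) :
    1 * 1 / 1 + δ * (vx * vy / d) -
        ε * (ε * (1 + δ * vx) * (ε * (1 + δ * vy)) / (ε * (1 + δ * d))) =
      (δ * d - δ * vx) * (δ * d - δ * vy) / (δ * d * (1 + δ * d)) := by
  have h1 : ε ≠ 0 := fun h => by simp [h] at hε
  have h2 : δ ≠ 0 := fun h => by simp [h] at hδ
  have e1 : ε * (ε * (1 + δ * vx) * (ε * (1 + δ * vy)) / (ε * (1 + δ * d))) =
      (1 + δ * vx) * (1 + δ * vy) / (1 + δ * d) := by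
    field_simp
    linear_combination (1 + δ * vx) * (1 + δ * vy) * hε
  have e2 : δ * (vx * vy / d) = (δ * vx) * (δ * vy) / (δ * d) := by
    field_simp
  rw [e1, e2]
  generalize δ * vx = P
  generalize δ * vy = Q
  have h3 : δ * d ≠ 0 := mul_ne_zero h2 hd
  generalize δ * d = D at hD h3 ⊢
  field_simp
  ring

namespace One

variable {j : Cfsg.IrrCharacter G} {δ ε : ℤ} {X : Orb A₁ → Cfsg.IrrCharacter G}
variable (w : One A₁ j δ ε X)
include w

theorem ε_sq : ε * ε = 1 := by rcases w.hε with e | e <;> simp [e]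

theorem δ_sq : δ * δ = 1 := by rcases w.hδ with e | e <;> simp [e]

theorem sum_oc [Fintype G] {R : Type*} [CommRing R] (F : Cfsg.IrrCharacter G → R) (o : Orb A₁)
    (h : SSC A₁ 2) :
    ∑ χ : Cfsg.IrrCharacter G, (oc A₁ χ o : R) * F χ =
      F (trivIrr G) + (δ : R) * F j - (ε : R) * F (X o) := by
  classical
  rw [← Finset.sum_subset (subset_univ {trivIrr G, j, X o}) fun χ _ hχ => ?_,
    Finset.sum_insert (by simp [Ne.symm w.hj, Ne.symm (w.hX o).1]),
    Finset.sum_pair (Ne.symm (w.hX o).2), h.oc_triv, w.cj, (w.cX o o).1 rfl]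
  · push_cast; ring
  · simp only [mem_insert, mem_singleton, not_or] at hχ
    by_cases he : ∃ o', X o' = χ
    · obtain ⟨o', rfl⟩ := he
      rw [(w.cX o' o).2 fun e => hχ.2.2 (by rw [e]), Int.cast_zero, zero_mul]
    · push Not at he
      rw [w.zero χ hχ.1 hχ.2.1 he o, Int.cast_zero, zero_mul]

theorem value_X [Fintype G] (h : SSC A₁ 2) (o : Orb A₁) {g : G} (hg : ¬ InA A₁ g) :
    (X o : G → ℂ) g = (ε : ℂ) * (1 + (δ : ℂ) * (j : G → ℂ) g) := by
  have h1 := h.relation o hg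
  rw [w.sum_oc (fun χ => (χ : G → ℂ) g) o h] at h1
  have h2 : ((trivIrr G : Cfsg.IrrCharacter G) : G → ℂ) g = 1 := rfl
  have h3 : (ε : ℂ) * (ε : ℂ) = 1 := by exact_mod_cast w.ε_sq
  rw [h2] at h1
  linear_combination -(ε : ℂ) * h1 - (X o : G → ℂ) g * h3


/-- The class equation at an element of `A₁`. -/
theorem class_eq [Fintype G] (h : SSC A₁ 2) {x y a : G} (hx : ¬ InA A₁ x) (hy : ¬ InA A₁ y)
    (ha : InA A₁ a) :
    (Nat.card {q : G × G // q.1 * x * q.1⁻¹ * (q.2 * y * q.2⁻¹) = a} : ℂ) / Nat.card G =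
      ((δ * deg j : ℤ) - (δ : ℂ) * (j : G → ℂ) x) * ((δ * deg j : ℤ) - (δ : ℂ) * (j : G → ℂ) y) /
        (((δ * deg j : ℤ) : ℂ) * (1 + ((δ * deg j : ℤ) : ℂ))) := by
  rw [← ExcChar68b.class_sum2]
  have key : ∀ o : Orb A₁, ∑ χ : Cfsg.IrrCharacter G, (oc A₁ χ o : ℂ) *
      ((χ : G → ℂ) x * (χ : G → ℂ) y / (χ : G → ℂ) 1) =
      ((δ * deg j : ℤ) - (δ : ℂ) * (j : G → ℂ) x) * ((δ * deg j : ℤ) - (δ : ℂ) * (j : G → ℂ) y) /
        (((δ * deg j : ℤ) : ℂ) * (1 + ((δ * deg j : ℤ) : ℂ))) := by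
    intro o
    rw [w.sum_oc _ o h]
    have t1 : ∀ g : G, ((trivIrr G : Cfsg.IrrCharacter G) : G → ℂ) g = 1 := fun _ => rfl
    simp only [t1, w.value_X h o hx, w.value_X h o hy, deg_spec]
    have hX : (deg (X o) : ℂ) = (ε : ℂ) * (1 + (δ : ℂ) * (deg j : ℂ)) := by
      have h9 : (ε : ℂ) * (deg (X o) : ℂ) = 1 + (δ : ℂ) * (deg j : ℂ) := by exact_mod_cast w.degX o
      have h3 : (ε : ℂ) * (ε : ℂ) = 1 := by exact_mod_cast w.ε_sq
      linear_combination (ε : ℂ) * h9 - (deg (X o) : ℂ) * h3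
    have d0 : (deg j : ℂ) ≠ 0 := Int.cast_ne_zero.2 (deg_pos j).ne'
    have d1 : (1 : ℂ) + (δ : ℂ) * (deg j : ℂ) ≠ 0 := fun e => by
      have h9 : ε * deg (X o) = 0 := by
        rw [w.degX o]; exact_mod_cast e
      have := deg_pos (X o)
      rcases w.hε with e' | e' <;> rw [e'] at h9 <;> omega
    rw [hX]
    push_cast
    exact one_alg (by exact_mod_cast w.δ_sq) (by exact_mod_cast w.ε_sq) d0 d1
  rw [← h.sum_conj _ _ key ha]
  exact Finset.sum_congr rfl fun χ _ => by ring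

end One

/-- `n χ(t) = χ(1) + (n-1)k - 2nm` when `t` inverts `A` and `χ` is the constant `k` on it. -/
theorem value_at_inverting [Fintype G] {A : Subgroup G} {e : ℕ} (h : SSC A e) (he : Even e)
    {t : G} (ht : orderOf t = 2) (htA : t ∉ A) (hti : ∀ a ∈ A, t * a * t⁻¹ = a⁻¹)
    {χ : Cfsg.IrrCharacter G} {k : ℤ} (hk : ∀ o : Orb A, oc A χ o = k) :
    ∃ m : ℕ, (Nat.card A : ℂ) * (χ : G → ℂ) t =
      (deg χ : ℂ) + ((Nat.card A : ℂ) - 1) * k - 2 * (Nat.card A : ℂ) * m := by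
  classical
  have ht2 : t * t = 1 := by rw [← pow_two, ← ht, pow_orderOf_eq_one]
  have ht' : t⁻¹ = t := inv_eq_of_mul_eq_one_left ht2
  have hswap : ∀ a ∈ A, a * t = t * a⁻¹ := fun a ha => by
    have := hti _ (A.inv_mem ha)
    rw [inv_inv] at this
    calc a * t = t * a⁻¹ * t⁻¹ * t := by rw [this]
      _ = _ := by group
  let N0 : Subgroup G :=
    { carrier := {g | g ∈ A ∨ t * g ∈ A}
      one_mem' := Or.inl A.one_mem
      mul_mem' := by
        rintro x y (hx | hx) (hy | hy)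
        · exact Or.inl (A.mul_mem hx hy)
        · right
          have h1 : t * x = x⁻¹ * t := by
            rw [hswap _ (A.inv_mem hx), inv_inv]
          rw [← mul_assoc, h1, mul_assoc]
          exact A.mul_mem (A.inv_mem hx) hy
        · right; rw [← mul_assoc]; exact A.mul_mem hx hy
        · left
          have h1 : x = t * (t * x) := by rw [← mul_assoc, ht2, one_mul]
          have h2 : t * (t * x) * y = (t * x)⁻¹ * (t * y) := by
            rw [show t * (t * x) = (t * x)⁻¹ * t by rw [hswap _ (A.inv_mem hx), inv_inv], mul_assoc]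
          rw [h1, h2]
          exact A.mul_mem (A.inv_mem hx) hy
      inv_mem' := by
        rintro x (hx | hx)
        · exact Or.inl (A.inv_mem hx)
        · right
          have h2 : x⁻¹ = x := by
            calc x⁻¹ = (t * x)⁻¹ * t := by group
              _ = t * (t * x) := by rw [hswap _ (A.inv_mem hx), inv_inv]
              _ = x := by rw [← mul_assoc, ht2, one_mul]
          rw [h2]
          exact hx }
  let s : N0 →* ℂˣ :=
    { toFun := fun g => if (g : G) ∈ A then 1 else -1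
      map_one' := if_pos A.one_mem
      map_mul' := by
        rintro ⟨x, hx⟩ ⟨y, hy⟩
        by_cases hxA : x ∈ A
        · by_cases hyA : y ∈ A
          · simp [hxA, hyA, A.mul_mem hxA hyA]
          · have : x * y ∉ A := fun hm => hyA ((A.mul_mem_cancel_left hxA).1 hm)
            simp [hxA, hyA, this]
        · by_cases hyA : y ∈ A
          · have : x * y ∉ A := fun hm => hxA ((A.mul_mem_cancel_right hyA).1 hm)
            simp [hxA, hyA, this]
          · have h1 : t * x ∈ A := hx.resolve_left hxA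
            have h2 : t * y ∈ A := hy.resolve_left hyA
            have h3 : x * y ∈ A := by
              have : x * y = (t * x)⁻¹ * (t * y) := by
                calc x * y = t * (t * x) * y := by rw [← mul_assoc t t, ht2, one_mul]
                  _ = (t * x)⁻¹ * t * y := by rw [hswap _ (A.inv_mem h1), inv_inv]
                  _ = _ := by group
              rw [this]; exact A.mul_mem (A.inv_mem h1) h2
            simp [hxA, hyA, h3] }
  letI : Fintype N0 := Fintype.ofFinite _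
  letI : Fintype A := Fintype.ofFinite _
  obtain ⟨m, hm⟩ := classInner_isCharacter
    (isCharacter_comap N0.subtype (isCharacter_of_isIrrCharacter χ.2)) (isCharacter_linear s)
  refine ⟨m, ?_⟩
  have hs : ∀ g : N0, conj ((s g : ℂˣ) : ℂ) = if (g : G) ∈ A then 1 else -1 := fun g => by
    show conj (((if (g : G) ∈ A then (1 : ℂˣ) else -1 : ℂˣ)) : ℂ) = _
    split_ifs <;> simp
  have hsumA : ∑ a : A, (χ : G → ℂ) a = (deg χ : ℂ) + ((Nat.card A : ℂ) - 1) * k := by
    rw [← Finset.add_sum_erase _ _ (mem_univ (1 : A)), OneMemClass.coe_one, deg_spec,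
      Finset.sum_congr rfl fun a ha => h.value_const' hk (h.inA_of_mem a.2 fun e' =>
        (mem_erase.1 ha).1 (Subtype.ext e')), Finset.sum_const,
      Finset.card_erase_of_mem (mem_univ _), card_univ, ← Nat.card_eq_fintype_card, nsmul_eq_mul,
      Nat.cast_sub Nat.card_pos, Nat.cast_one]
  have hsumT : ∑ a : A, (χ : G → ℂ) (t * a) = (Nat.card A : ℂ) * (χ : G → ℂ) t := by
    rw [Finset.sum_congr rfl fun (a : A) _ => by
      obtain ⟨b, -, hb, -⟩ := h.conj_t ht hti he a.2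
      rw [hb, isClassFunction_of_isCharacter (isCharacter_of_isIrrCharacter χ.2) t b],
      Finset.sum_const, card_univ, ← Nat.card_eq_fintype_card, nsmul_eq_mul]
  have htA' : ∀ a ∈ A, t * a ∉ A := fun a ha hm => htA ((A.mul_mem_cancel_right ha).1 hm)
  let f0 : A ⊕ A → N0 := Sum.elim (fun a : A => (⟨a, Or.inl a.2⟩ : N0))
    (fun a : A => (⟨t * a, Or.inr (by rw [← mul_assoc, ht2, one_mul]; exact a.2)⟩ : N0))
  have hf0 : Function.Bijective f0 := by
    constructor
    · rintro (a | a) (b | b) hab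
      · exact congrArg Sum.inl (Subtype.ext (congrArg Subtype.val hab :))
      · have h1 : (a : G) = t * b := congrArg Subtype.val hab
        exact absurd (h1 ▸ a.2) (htA' b b.2)
      · have h1 : t * (a : G) = b := congrArg Subtype.val hab
        exact absurd (h1.symm ▸ b.2) (htA' a a.2)
      · have h1 : t * (a : G) = t * b := congrArg Subtype.val hab
        exact congrArg Sum.inr (Subtype.ext (mul_left_cancel h1))
    · intro g
      by_cases hg : (g : G) ∈ A
      · exact ⟨Sum.inl ⟨g, hg⟩, rfl⟩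
      · refine ⟨Sum.inr ⟨t * g, g.2.resolve_left hg⟩, Subtype.ext ?_⟩
        show t * (t * (g : G)) = g
        rw [← mul_assoc, ht2, one_mul]
  let e0 := Equiv.ofBijective f0 hf0
  have hcard : (Nat.card N0 : ℂ) = 2 * Nat.card A := by
    rw [← Nat.card_congr e0, Nat.card_sum]; push_cast; ring
  have h5 := hm
  simp only [Cfsg.classInner, hs, hcard] at h5
  rw [← Fintype.sum_equiv e0 (fun a => (χ : G → ℂ) (e0 a) * if ((e0 a : N0) : G) ∈ A then 1 else -1)
    _ fun a => rfl, Fintype.sum_sum_type] at h5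
  simp only [e0, f0, Equiv.ofBijective_apply, Sum.elim_inl, Sum.elim_inr, SetLike.coe_mem, if_true, mul_one,
    htA' _ (SetLike.coe_mem _), if_false, mul_neg, Finset.sum_neg_distrib, hsumA, hsumT] at h5
  have hn : (Nat.card A : ℂ) ≠ 0 := Nat.cast_ne_zero.2 Nat.card_pos.ne'
  field_simp at h5
  linear_combination -h5

/-- There is a single class of involutions. -/
theorem One.isConj_inv [Fintype G] [IsSimpleGroup G] {j : Cfsg.IrrCharacter G} {δ ε : ℤ}
    {X : Orb A₁ → Cfsg.IrrCharacter G} (w : One A₁ j δ ε X) (c : Ctx A₁ A₂ A₃) {t : G}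
    (ht : orderOf t = 2) (hti : ∀ a ∈ A₁, t * a * t⁻¹ = a⁻¹) {x : G} (hx : orderOf x = 2) :
    IsConj t x := by
  classical
  obtain ⟨a, ha⟩ : ∃ a : A₁, a ≠ 1 := by
    haveI : Nontrivial A₁ := Finite.one_lt_card_iff_nontrivial.1 c.s1.one_lt
    exact exists_ne 1
  have ha1 : (a : G) ≠ 1 := fun e => ha (Subtype.ext e)
  have hx1 : x ≠ 1 := fun e => by rw [e, orderOf_one] at hx; omega
  have ht1 : t ≠ 1 := fun e => by rw [e, orderOf_one] at ht; omega
  have hxO := c.outside_of_even hx1 (hx ▸ dvd_rfl)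
  have htO := c.outside_of_even ht1 (ht ▸ dvd_rfl)
  have heq := w.class_eq c.s1 hxO.2.1 htO.2.1 (c.s1.inA_of_mem a.2 ha1)
  have hne : ∀ g : G, g ≠ 1 → ((δ * deg j : ℤ) : ℂ) - (δ : ℂ) * (j : G → ℂ) g ≠ 0 := by
    intro g hg e
    refine value_ne_deg w.hj hg ?_
    rw [deg_spec]
    push_cast at e
    have hd : (δ : ℂ) * (δ : ℂ) = 1 := by exact_mod_cast w.δ_sq
    linear_combination -(δ : ℂ) * e + ((deg j : ℂ) - (j : G → ℂ) g) * hd
  by_contra hcon
  have h0 : Nat.card {q : G × G // q.1 * x * q.1⁻¹ * (q.2 * t * q.2⁻¹) = a} = 0 := by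
    refine Nat.card_eq_zero.2 (Or.inl ⟨fun q => hcon ?_⟩)
    obtain ⟨⟨g, g'⟩, hq⟩ := q
    change g * x * g⁻¹ * (g' * t * g'⁻¹) = (a : G) at hq
    set p := g * x * g⁻¹ with hp
    set r := g' * t * g'⁻¹ with hr
    have hp2 : p * p = 1 := by
      rw [hp]
      calc g * x * g⁻¹ * (g * x * g⁻¹) = g * (x * x) * g⁻¹ := by group
        _ = 1 := by rw [← pow_two, ← hx, pow_orderOf_eq_one]; group
    have hr2 : r * r = 1 := by
      rw [hr]
      calc g' * t * g'⁻¹ * (g' * t * g'⁻¹) = g' * (t * t) * g'⁻¹ := by group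
        _ = 1 := by rw [← pow_two, ← ht, pow_orderOf_eq_one]; group
    have hinv : p * a * p⁻¹ = (a : G)⁻¹ := by
      rw [inv_eq_of_mul_eq_one_left hp2, ← hq, mul_inv_rev, inv_eq_of_mul_eq_one_left hp2,
        inv_eq_of_mul_eq_one_left hr2]
      calc p * (p * r) * p = p * p * r * p := by group
        _ = _ := by rw [hp2, one_mul]
    have htp := (c.s1.inverting_iff ht hti a.2 ha1 p).1 hinv
    obtain ⟨b, -, hb, -⟩ := c.s1.conj_t ht hti ⟨1, rfl⟩ htp
    have hp' : p = b * t * b⁻¹ := by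
      rw [← hb, ← mul_assoc, ← pow_two, ← ht, pow_orderOf_eq_one, one_mul]
    exact (isConj_iff.2 ⟨b, hp'.symm⟩).trans (isConj_iff.2 ⟨g, rfl⟩ : IsConj x p).symm
  rw [h0, Nat.cast_zero, zero_div, eq_comm, div_eq_zero_iff] at heq
  rcases heq with h | h
  · rcases mul_eq_zero.1 h with h | h
    · exact hne x hx1 h
    · exact hne t ht1 h
  · have hd := deg_pos j
    obtain ⟨o⟩ : Nonempty (Orb A₁) := (Nat.card_pos_iff.1 (by have := c.m1; omega)).1
    rcases mul_eq_zero.1 h with h | h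
    · have h' : δ * deg j = 0 := by exact_mod_cast h
      rcases w.hδ with e | e <;> rw [e] at h' <;> omega
    · have h' : 1 + δ * deg j = 0 := by exact_mod_cast h
      have h9 := w.degX o
      rw [h'] at h9
      have := deg_pos (X o)
      rcases w.hε with e | e <;> rw [e] at h9 <;> omega

/-- The number of pairs of involutions with product a given element of `A₁`. -/
theorem One.inv_pairs [Fintype G] [IsSimpleGroup G] {j : Cfsg.IrrCharacter G} {δ ε : ℤ}
    {X : Orb A₁ → Cfsg.IrrCharacter G} (w : One A₁ j δ ε X) (c : Ctx A₁ A₂ A₃) {t : G}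
    (ht : orderOf t = 2) (hti : ∀ a ∈ A₁, t * a * t⁻¹ = a⁻¹) :
    (Nat.card A₁ : ℂ) * (Nat.card (Subgroup.centralizer ({t} : Set G)) : ℂ) ^ 2 *
      (((δ * deg j : ℤ) : ℂ) * (1 + ((δ * deg j : ℤ) : ℂ))) =
      (Nat.card G : ℂ) * (((δ * deg j : ℤ) : ℂ) - (δ : ℂ) * (j : G → ℂ) t) ^ 2 := by
  classical
  obtain ⟨a, ha⟩ : ∃ a : A₁, a ≠ 1 := by
    haveI : Nontrivial A₁ := Finite.one_lt_card_iff_nontrivial.1 c.s1.one_lt
    exact exists_ne 1
  have ha1 : (a : G) ≠ 1 := fun e => ha (Subtype.ext e)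
  have ht1 : t ≠ 1 := fun e => by rw [e, orderOf_one] at ht; omega
  have htO := c.outside_of_even ht1 (ht ▸ dvd_rfl)
  have heq := w.class_eq c.s1 htO.2.1 htO.2.1 (c.s1.inA_of_mem a.2 ha1)
  have hB : Nat.card {q : G × G // IsConj t (MonoidHom.id G q.1) ∧ IsConj t (MonoidHom.id G q.2) ∧
      q.1 * q.2 = (a : G)} = Nat.card A₁ := by
    have ht2 : t * t = 1 := by rw [← pow_two, ← ht, pow_orderOf_eq_one]
    have hord : ∀ p, IsConj t p → p * p = 1 := fun p hp => by
      obtain ⟨g, rfl⟩ := isConj_iff.1 hp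
      calc g * t * g⁻¹ * (g * t * g⁻¹) = g * (t * t) * g⁻¹ := by group
        _ = 1 := by rw [ht2]; group
    refine Nat.card_congr (Equiv.ofBijective
      (fun q => (⟨t * q.1.1, (c.s1.inverting_iff ht hti a.2 ha1 q.1.1).1 ?_⟩ : A₁)) ⟨?_, ?_⟩)
    · obtain ⟨⟨p, r⟩, hp, hr, hpr⟩ := q
      simp only [MonoidHom.id_apply] at hp hr
      change p * r = (a : G) at hpr
      show p * a * p⁻¹ = (a : G)⁻¹
      rw [inv_eq_of_mul_eq_one_left (hord p hp), ← hpr, mul_inv_rev,
        inv_eq_of_mul_eq_one_left (hord p hp), inv_eq_of_mul_eq_one_left (hord r hr)]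
      calc p * (p * r) * p = p * p * r * p := by group
        _ = _ := by rw [hord p hp, one_mul]
    · rintro ⟨⟨p, r⟩, hp, hr, hpr⟩ ⟨⟨p', r'⟩, hp', hr', hpr'⟩ h
      have h1 : p = p' := mul_left_cancel (congrArg Subtype.val h)
      subst h1
      change p * r = (a : G) at hpr
      change p * r' = (a : G) at hpr'
      have h2 : r = r' := mul_left_cancel (hpr.trans hpr'.symm)
      subst h2; rfl
    · intro b
      obtain ⟨g, -, hg, hg2⟩ := c.s1.conj_t ht hti ⟨1, rfl⟩ b.2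
      obtain ⟨g', -, hg', -⟩ := c.s1.conj_t ht hti ⟨1, rfl⟩ (A₁.mul_mem b.2 a.2)
      refine ⟨⟨(t * b, t * b * a), isConj_iff.2 ⟨g, hg.symm⟩,
        isConj_iff.2 ⟨g', ?_⟩, ?_⟩, Subtype.ext ?_⟩
      · show g' * t * g'⁻¹ = t * b * a
        rw [← hg', mul_assoc]
      · show t * (b : G) * (t * b * a) = a
        rw [show t * (b : G) * (t * b * a) = (t * b) ^ 2 * a by simp [pow_two, mul_assoc], ← hg2, pow_orderOf_eq_one,
          one_mul]
      · show t * (t * b) = (b : G)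
        rw [← mul_assoc, ht2, one_mul]
  have hcard := ExcChar68b.card_pairs2 (ι := MonoidHom.id G) Function.injective_id t t (a : G)
    fun p q _ _ _ => ⟨⟨p, rfl⟩, ⟨q, rfl⟩⟩
  rw [hB] at hcard
  simp only [MonoidHom.id_apply] at hcard
  rw [hcard] at heq
  push_cast at heq ⊢
  have hG : (Nat.card G : ℂ) ≠ 0 := Nat.cast_ne_zero.2 Nat.card_pos.ne'
  have hden : ((δ : ℂ) * (deg j : ℂ)) * (1 + (δ : ℂ) * (deg j : ℂ)) ≠ 0 := by
    obtain ⟨o⟩ : Nonempty (Orb A₁) := (Nat.card_pos_iff.1 (by have := c.m1; omega)).1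
    have h1 : δ * deg j * (1 + δ * deg j) ≠ 0 := by
      rw [← w.degX o]
      have := deg_pos j
      have := deg_pos (X o)
      rcases w.hδ with e | e <;> rcases w.hε with e' | e' <;> subst e <;> subst e' <;>
        apply mul_ne_zero <;> omega
    exact_mod_cast h1
  rw [div_eq_div_iff hG hden] at heq
  linear_combination heq

end Cfsg.Agent.ThreeSSC77
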