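import Mathlib
import Cfsg.Agent.Lib.ThreeSSC77Count

/-!
# The possible configurations of exceptional characters
-/

set_option autoImplicit false

open scoped ComplexConjugate
open Finset

namespace Cfsg.Agent.ThreeSSC77

open CharBasic CharBasicOrth CharBasicDecomp

universe u

variable {G : Type u} [Group G] [Finite G] {A₁ A₂ A₃ : Subgroup G}

theorem dvd_deg {A : Subgroup G} {e : ℕ} (h : SSC A e) {χ : Cfsg.IrrCharacter G} {k : ℤ}
    (hk : ∀ o : Orb A, oc A χ o = k) : (Nat.card A : ℤ) ∣ deg χ - k := by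
  obtain ⟨d, hd, hdvd⟩ := h.degree_const hk
  rw [deg_spec] at hd
  have : deg χ = d := by exact_mod_cast hd
  rwa [this]

theorem orb_nontrivial {A : Subgroup G} {e : ℕ} (h : SSC A e) (hlt : e + 1 < Nat.card A) :
    Nontrivial (Orb A) := by
  refine Finite.one_lt_card_iff_nontrivial.1 ?_
  have := h.card_orb
  have := h.e_pos
  by_contra hcon
  have h2 : e * Nat.card (Orb A) ≤ e * 1 := Nat.mul_le_mul_left _ (by omega)
  omega

theorem Ctx.nontriv2 (c : Ctx A₁ A₂ A₃) : Nontrivial (Orb A₂) :=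
  orb_nontrivial c.s2 (by have := c.b2; omega)

theorem Ctx.nontriv3 (c : Ctx A₁ A₂ A₃) : Nontrivial (Orb A₃) :=
  orb_nontrivial c.s3 (by have := c.b3; omega)

/-- The first coordinates: the principal character and the constituents of the first subgroup. -/
noncomputable def head {O : Type u} [Finite O] (j : Cfsg.IrrCharacter G)
    (X : O → Cfsg.IrrCharacter G) : Finset (Cfsg.IrrCharacter G) :=
  haveI := Classical.decEq (Cfsg.IrrCharacter G)
  haveI := Fintype.ofFinite O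
  insert (trivIrr G) (insert j (univ.image X))

/-- Products of two involutions cover the conjugates of the three subgroups. -/
theorem pairs_bound (c : Ctx A₁ A₂ A₃) {t : G} (ht : orderOf t = 2)
    (hti : ∀ a ∈ A₁, t * a * t⁻¹ = a⁻¹)
    (h2 : ∃ t₂ : G, orderOf t₂ = 2 ∧ (∀ a ∈ A₂, t₂ * a * t₂⁻¹ = a⁻¹) ∧ IsConj t t₂)
    (h3 : ∃ t₃ : G, orderOf t₃ = 2 ∧ (∀ a ∈ A₃, t₃ * a * t₃⁻¹ = a⁻¹) ∧ IsConj t t₃) :
    (Nat.card (Orb A₁) + Nat.card (Orb A₂) + Nat.card (Orb A₃)) *
      Nat.card (Subgroup.centralizer ({t} : Set G)) ^ 2 ≤ Nat.card G := by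
  classical
  obtain ⟨t₂, ht₂, hti₂, hc₂⟩ := h2
  obtain ⟨t₃, ht₃, hti₃, hc₃⟩ := h3
  let I := {g : G // IsConj t g}
  let Q : Subgroup G → Type u := fun A => {g : G // InA A g} × A
  -- a pair with a given product
  have hmk : ∀ (A : Subgroup G) (e : ℕ) (h : SSC A e) (he : Even e) (s : G),
      orderOf s = 2 → (∀ a ∈ A, s * a * s⁻¹ = a⁻¹) → IsConj t s →
      ∃ φ : Q A → I × I, (∀ q, ((φ q).1 : G) * (φ q).2 = q.1.1) ∧ Function.Injective φ := by
    intro A e h he s hs hsi hts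
    have hx : ∀ g : {g : G // InA A g}, ∃ x : G, x * g.1 * x⁻¹ ∈ A := fun g => g.2.2
    choose x hx using hx
    have hs2 : s * s = 1 := by rw [← pow_two, ← hs, pow_orderOf_eq_one]
    have hcj : ∀ (y : G) (b : A), IsConj t (y⁻¹ * (s * b) * y) := by
      intro y b
      obtain ⟨z, -, hz, -⟩ := h.conj_t hs hsi he b.2
      exact hts.trans (isConj_iff.2 ⟨y⁻¹ * z, by rw [hz]; group⟩)
    refine ⟨fun q => (⟨(x q.1)⁻¹ * (s * q.2) * x q.1, hcj _ _⟩,
      ⟨(x q.1)⁻¹ * (s * ((q.2 * ⟨_, hx q.1⟩ : A) : G)) * x q.1, hcj _ _⟩), fun q => ?_,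
      fun q q' hq => ?_⟩
    · show (x q.1)⁻¹ * (s * q.2) * x q.1 *
        ((x q.1)⁻¹ * (s * ((q.2 : G) * (x q.1 * q.1.1 * (x q.1)⁻¹))) * x q.1) = q.1.1
      have h4 : s * (q.2 : G) * (s * q.2) = 1 := by
        obtain ⟨z, -, -, hz⟩ := h.conj_t hs hsi he q.2.2
        rw [← pow_two, ← hz, pow_orderOf_eq_one]
      calc _ = (x q.1)⁻¹ * (s * (q.2 : G) * (s * q.2)) * x q.1 * q.1.1 := by group
        _ = _ := by rw [h4]; group
    · simp only [Prod.mk.injEq, Subtype.mk.injEq] at hq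
      have hg : q.1 = q'.1 := by
        refine Subtype.ext ?_
        have e1 : ∀ r : Q A, (x r.1)⁻¹ * (s * r.2) * x r.1 *
            ((x r.1)⁻¹ * (s * ((r.2 * ⟨_, hx r.1⟩ : A) : G)) * x r.1) = r.1.1 := by
          intro r
          obtain ⟨z, -, -, hz⟩ := h.conj_t hs hsi he r.2.2
          have h4 : s * (r.2 : G) * (s * r.2) = 1 := by rw [← pow_two, ← hz, pow_orderOf_eq_one]
          push_cast
          calc _ = (x r.1)⁻¹ * (s * (r.2 : G) * (s * r.2)) * x r.1 * r.1.1 := by group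
            _ = _ := by rw [h4]; group
        have a1 := congrArg Subtype.val hq.1
        have a2 := congrArg Subtype.val hq.2
        dsimp only at a1 a2
        rw [← e1 q, ← e1 q', a1, a2]
      obtain ⟨g, b⟩ := q
      obtain ⟨g', b'⟩ := q'
      change g = g' at hg
      subst hg
      refine Prod.ext rfl (Subtype.ext ?_)
      have a1 := congrArg Subtype.val hq.1
      dsimp only at a1
      exact mul_left_cancel (mul_left_cancel (mul_right_cancel a1))
  obtain ⟨φ₁, e₁, i₁⟩ := hmk A₁ 2 c.s1 ⟨1, rfl⟩ t ht hti (IsConj.refl t)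
  obtain ⟨φ₂, e₂, i₂⟩ := hmk A₂ 4 c.s2 ⟨2, rfl⟩ t₂ ht₂ hti₂ hc₂
  obtain ⟨φ₃, e₃, i₃⟩ := hmk A₃ 4 c.s3 ⟨2, rfl⟩ t₃ ht₃ hti₃ hc₃
  have hinj : Function.Injective (Sum.elim φ₁ (Sum.elim φ₂ φ₃)) := by
    refine i₁.sumElim (i₂.sumElim i₃ fun a b e => ?_) fun a b e => ?_
    · have := (e₂ a).symm.trans ((congrArg (fun z : I × I => (z.1 : G) * z.2) e).trans (e₃ b))
      exact c.s2.not_inA_both c.s3 c.n23 a.1.2 (this ▸ b.1.2)
    · cases b with
      | inl b =>
        have := (e₁ a).symm.trans ((congrArg (fun z : I × I => (z.1 : G) * z.2) e).trans (e₂ b))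
        exact c.s1.not_inA_both c.s2 c.n12 a.1.2 (this ▸ b.1.2)
      | inr b =>
        have := (e₁ a).symm.trans ((congrArg (fun z : I × I => (z.1 : G) * z.2) e).trans (e₃ b))
        exact c.s1.not_inA_both c.s3 c.n13 a.1.2 (this ▸ b.1.2)
  have h1 := Nat.card_le_card_of_injective _ hinj
  rw [Nat.card_sum, Nat.card_sum, Nat.card_prod, Nat.card_prod, Nat.card_prod, Nat.card_prod] at h1
  haveI := Fintype.ofFinite G
  have hI : Nat.card I * Nat.card (Subgroup.centralizer ({t} : Set G)) = Nat.card G :=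
    card_conj_mul_card_centralizer t
  have hone : ∀ (A : Subgroup G) (e : ℕ), SSC A e →
      Nat.card {g : G // InA A g} * Nat.card A = Nat.card G * Nat.card (Orb A) := by
    intro A e h
    refine Nat.eq_of_mul_eq_mul_left h.e_pos ?_
    have h4 := h.card_inA
    rw [← h.card_orb] at h4
    calc e * (Nat.card {g : G // InA A g} * Nat.card A) =
        Nat.card {g : G // InA A g} * (e * Nat.card A) := by ring
      _ = _ := by rw [h4]; ring
  rw [hone _ _ c.s1, hone _ _ c.s2, hone _ _ c.s3] at h1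
  refine Nat.le_of_mul_le_mul_left ?_ (Nat.card_pos (α := G))
  calc Nat.card G * ((Nat.card (Orb A₁) + Nat.card (Orb A₂) + Nat.card (Orb A₃)) *
        Nat.card (Subgroup.centralizer ({t} : Set G)) ^ 2) =
      (Nat.card G * Nat.card (Orb A₁) + (Nat.card G * Nat.card (Orb A₂) +
        Nat.card G * Nat.card (Orb A₃))) * Nat.card (Subgroup.centralizer ({t} : Set G)) ^ 2 := by ring
    _ ≤ Nat.card I * Nat.card I * Nat.card (Subgroup.centralizer ({t} : Set G)) ^ 2 :=
        Nat.mul_le_mul_right _ h1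
    _ = _ := by rw [← hI]; ring

section

variable {j : Cfsg.IrrCharacter G} {δ ε : ℤ} {X : Orb A₁ → Cfsg.IrrCharacter G}

theorem mem_head {χ : Cfsg.IrrCharacter G} :
    χ ∈ head j X ↔ χ = trivIrr G ∨ χ = j ∨ ∃ o, X o = χ := by
  classical
  simp [head, eq_comm]

theorem One.sum_head (w : One A₁ j δ ε X) [Fintype (Orb A₁)] {R : Type*} [AddCommMonoid R]
    (F : Cfsg.IrrCharacter G → R) :
    ∑ χ ∈ head j X, F χ = F (trivIrr G) + (F j + ∑ o, F (X o)) := by
  classical
  have e : head j X = insert (trivIrr G) (insert j (univ.image X)) := by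
    ext χ; simp [mem_head, eq_comm]
  rw [e, Finset.sum_insert, Finset.sum_insert, Finset.sum_image fun a _ b _ h => w.inj h]
  · simp only [mem_image, mem_univ, true_and, not_exists]
    exact fun o => (w.hX o).2
  · simp only [mem_insert, mem_image, mem_univ, true_and, not_or, not_exists]
    exact ⟨Ne.symm w.hj, fun o => (w.hX o).1⟩

theorem One.card_head (w : One A₁ j δ ε X) : (head j X).card = 2 + Nat.card (Orb A₁) := by
  classical
  haveI := Fintype.ofFinite (Orb A₁)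
  rw [card_eq_sum_ones, w.sum_head (fun _ => 1), Nat.card_eq_fintype_card]
  simp; omega

/-- The relation between the two subgroups. -/
theorem One.rel [Fintype G] (w : One A₁ j δ ε X) (c : Ctx A₁ A₂ A₃) (p : Orb A₂) (o : Orb A₁) :
    oc A₂ (X o) p = ε * (1 + δ * oc A₂ j p) := by
  have h1 := c.s1.cross c.s2 c.n12 o p
  have h2 := w.sum_oc (fun χ => oc A₂ χ p) o c.s1
  simp only [Int.cast_id] at h2
  rw [h2, c.s2.oc_triv] at h1
  linear_combination -ε * h1 - oc A₂ (X o) p * w.ε_sq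

/-- Either the first family vanishes on the second subgroup, or `|A₁| ≤ 7`. -/
theorem One.second [Fintype G] (w : One A₁ j δ ε X) (c : Ctx A₁ A₂ A₃) :
    ((∀ p, oc A₂ j p = -δ) ∧ ∀ o p, oc A₂ (X o) p = 0) ∨
    (((∀ p, oc A₂ j p = 0) ∧ ∀ o p, oc A₂ (X o) p = ε) ∧
      (Nat.card (Orb A₁) = 2 ∨ Nat.card (Orb A₁) = 3)) := by
  classical
  haveI := c.nontriv2
  haveI := Fintype.ofFinite (Orb A₁)
  set m : ℤ := (Nat.card (Orb A₁) : ℤ) with hm
  have hm2 : 2 ≤ m := by have := c.m1.2; omega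
  have hrest : ∀ p p' : Orb A₂,
      ∑ χ, Comb.rest (head j X) (fun χ => oc A₂ χ p) χ * Comb.rest (head j X) (fun χ => oc A₂ χ p') χ =
        4 + (if p = p' then 1 else 0) - 1 - δ * oc A₂ j p * (δ * oc A₂ j p') -
          m * ((1 + δ * oc A₂ j p) * (1 + δ * oc A₂ j p')) := by
    intro p p'
    rw [Comb.sum_rest_mul, c.s2.gram, w.sum_head, c.s2.oc_triv, c.s2.oc_triv]
    simp only [w.rel c, Finset.sum_const, card_univ, nsmul_eq_mul, ← Nat.card_eq_fintype_card, ← hm]
    linear_combination (oc A₂ j p * oc A₂ j p') * w.δ_sq -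
      m * ((1 + δ * oc A₂ j p) * (1 + δ * oc A₂ j p')) * w.ε_sq
  have hx : ∀ p, δ * oc A₂ j p = 0 ∧ m ≤ 4 ∨ δ * oc A₂ j p = -1 := by
    intro p
    have h1 := hrest p p
    rw [if_pos rfl] at h1
    have h2 : 0 ≤ ∑ χ, Comb.rest (head j X) (fun χ => oc A₂ χ p) χ *
        Comb.rest (head j X) (fun χ => oc A₂ χ p) χ := Finset.sum_nonneg fun χ _ => mul_self_nonneg _
    rw [h1] at h2
    generalize δ * oc A₂ j p = x at h2
    have hx1 : -2 ≤ x ∧ x ≤ 2 := by constructor <;> nlinarith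
    obtain ⟨hx1, hx2⟩ := hx1
    interval_cases x <;> first | (right; rfl) | (left; constructor <;> nlinarith) | nlinarith
  have hc : ∀ p p', δ * oc A₂ j p = δ * oc A₂ j p' := by
    by_contra hcon
    push Not at hcon
    obtain ⟨p, p', hpp⟩ := hcon
    wlog h0 : δ * oc A₂ j p = 0 generalizing p p'
    · exact this p' p hpp.symm (by rcases hx p' with h | h <;> rcases hx p with h' | h' <;> omega)
    have h1 : δ * oc A₂ j p' = -1 := by
      rcases hx p' with h | h
      · omega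
      · exact h
    have hne : p ≠ p' := fun e => hpp (by rw [e])
    have a := hrest p p
    have b := hrest p p'
    have d := hrest p' p'
    rw [h0, if_pos rfl] at a
    rw [h0, h1, if_neg hne] at b
    rw [h1, if_pos rfl] at d
    have hcs := Finset.sum_mul_sq_le_sq_mul_sq univ
      (Comb.rest (head j X) fun χ => oc A₂ χ p) (Comb.rest (head j X) fun χ => oc A₂ χ p')
    simp only [sq] at hcs
    rw [b, a, d] at hcs
    nlinarith
  obtain ⟨p₀⟩ : Nonempty (Orb A₂) := inferInstance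
  have hδ0 : δ ≠ 0 := by rcases w.hδ with e | e <;> omega
  rcases hx p₀ with ⟨h0, h4⟩ | h0
  · right
    have hj : ∀ p, oc A₂ j p = 0 := fun p => mul_left_cancel₀ hδ0 (by rw [mul_zero, hc p p₀, h0])
    refine ⟨⟨hj, fun o p => by rw [w.rel c, hj]; ring⟩, ?_⟩
    by_contra hno
    push Not at hno
    have hm4 : m = 4 := by have := hno.1; have := hno.2; omega
    obtain ⟨p₁, p₂, hne⟩ := exists_pair_ne (Orb A₂)
    have a := hrest p₁ p₁
    have b := hrest p₁ p₂
    rw [hj, hm4, if_pos rfl] at a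
    rw [hj, hj, hm4, if_neg hne] at b
    have hz : ∀ χ, Comb.rest (head j X) (fun χ => oc A₂ χ p₁) χ = 0 := fun χ =>
      mul_self_eq_zero.1 ((Finset.sum_eq_zero_iff_of_nonneg fun χ _ => mul_self_nonneg _).1
        (a.trans (by ring)) χ (mem_univ _))
    simp only [hz, zero_mul, Finset.sum_const_zero] at b
    omega
  · left
    have hj : ∀ p, oc A₂ j p = -δ := fun p => mul_left_cancel₀ hδ0 (by
      rw [hc p p₀, h0, mul_neg, w.δ_sq])
    exact ⟨hj, fun o p => by rw [w.rel c, hj, mul_neg, w.δ_sq]; ring⟩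

theorem One.third [Fintype G] (w : One A₁ j δ ε X) (c : Ctx A₁ A₂ A₃) :
    ((∀ p, oc A₃ j p = -δ) ∧ ∀ o p, oc A₃ (X o) p = 0) ∨
    (((∀ p, oc A₃ j p = 0) ∧ ∀ o p, oc A₃ (X o) p = ε) ∧
      (Nat.card (Orb A₁) = 2 ∨ Nat.card (Orb A₁) = 3)) :=
  w.second c.symm

/-- Few classes: at most three outside the conjugates of the subgroups. -/
def Few (A₁ A₂ A₃ : Subgroup G) : Prop :=
  Nat.card (ConjClasses G) ≤
    1 + Nat.card (Orb A₁) + Nat.card (Orb A₂) + Nat.card (Orb A₃) + 3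

theorem Few.symm (h : Few A₁ A₂ A₃) : Few A₁ A₃ A₂ := by unfold Few at h ⊢; omega

/-- Characters vanishing on the three subgroups have large degree, so there are at most two. -/
theorem card_vanish_le [Fintype G] (c : Ctx A₁ A₂ A₃) (s : Finset (Cfsg.IrrCharacter G))
    (hs : ∀ χ ∈ s, χ ≠ trivIrr G ∧ (∀ o, oc A₁ χ o = 0) ∧ (∀ o, oc A₂ χ o = 0) ∧
      ∀ o, oc A₃ χ o = 0) : s.card ≤ 2 := by
  classical
  set P : ℤ := (Nat.card A₁ : ℤ) * ((Nat.card A₂ : ℤ) * (Nat.card A₃ : ℤ)) with hP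
  have hdvd : ∀ χ ∈ s, P ^ 2 ≤ deg χ ^ 2 := by
    intro χ hχ
    obtain ⟨-, h1, h2, h3⟩ := hs χ hχ
    have d1 := dvd_deg c.s1 h1
    have d2 := dvd_deg c.s2 h2
    have d3 := dvd_deg c.s3 h3
    rw [sub_zero] at d1 d2 d3
    have hd : P ∣ deg χ := (IsCoprime.mul_right (Nat.isCoprime_iff_coprime.2 c.cop12)
      (Nat.isCoprime_iff_coprime.2 c.cop13)).mul_dvd d1
      ((Nat.isCoprime_iff_coprime.2 c.cop23).mul_dvd d2 d3)
    exact pow_le_pow_left₀ (by positivity) (Int.le_of_dvd (deg_pos χ) hd) 2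
  have hsub : insert (trivIrr G) s ⊆ (univ : Finset (Cfsg.IrrCharacter G)) := subset_univ _
  have h1 := Finset.sum_le_sum_of_subset_of_nonneg hsub
    (f := fun χ => deg χ ^ 2) fun _ _ _ => sq_nonneg _
  rw [sum_deg_sq, Finset.sum_insert fun h => (hs _ h).1 rfl, deg_triv, one_pow] at h1
  have h2 : (s.card : ℤ) * P ^ 2 ≤ ∑ χ ∈ s, deg χ ^ 2 := by
    rw [← nsmul_eq_mul]; exact Finset.card_nsmul_le_sum _ _ _ hdvd
  have h3 : (Nat.card G : ℤ) ≤ 3 * P ^ 2 := by
    have h4 : ((Nat.card G : ℕ) : ℤ) ≤ ((3 * Nat.card A₁ ^ 2 * Nat.card A₂ ^ 2 * Nat.card A₃ ^ 2 : ℕ) : ℤ) :=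
      Int.ofNat_le.2 c.bound
    rw [hP]; push_cast at h4; nlinarith [h4]
  by_contra hcon
  have h5 : (3 : ℤ) ≤ s.card := by omega
  have h6 : 3 * P ^ 2 ≤ (s.card : ℤ) * P ^ 2 := mul_le_mul_of_nonneg_right h5 (sq_nonneg _)
  omega

/-- The case `|A₁| = 7`. -/
theorem One.few_seven [Fintype G] (w : One A₁ j δ ε X) (c : Ctx A₁ A₂ A₃)
    (h2 : (∀ p, oc A₂ j p = 0) ∧ ∀ o p, oc A₂ (X o) p = ε) (hm : Nat.card (Orb A₁) = 3) :
    Few A₁ A₂ A₃ := by
  classical
  haveI := c.nontriv2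
  haveI := c.nontriv3
  haveI := Fintype.ofFinite (Orb A₁)
  haveI := Fintype.ofFinite (Orb A₂)
  haveI := Fintype.ofFinite (Orb A₃)
  set T := head j X with hT
  set r : Orb A₂ → Cfsg.IrrCharacter G → ℤ := fun p => Comb.rest T fun χ => oc A₂ χ p with hr
  have hsum3 : ∀ v : ℤ, ∑ _o : Orb A₁, v = 3 * v := fun v => by
    rw [Finset.sum_const, card_univ, ← Nat.card_eq_fintype_card, hm, nsmul_eq_mul]; norm_num
  have hrr : ∀ p p', ∑ χ, r p χ * r p' χ = if p = p' then 1 else 0 := by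
    intro p p'
    simp only [hr, Comb.sum_rest_mul, c.s2.gram, hT, w.sum_head, c.s2.oc_triv, h2.1, h2.2, hsum3]
    linear_combination (-3 : ℤ) * w.ε_sq
  have hY : ∀ p, ∃ y, Comb.supp (r p) = {y} := fun p =>
    card_eq_one.1 (Comb.card_supp (n := 1) (by norm_num) (by rw [hrr, if_pos rfl]; rfl))
  choose Y hY using hY
  have hYT : ∀ p, Y p ∉ T := fun p => by
    have : r p (Y p) ≠ 0 := Comb.mem_supp.1 (by rw [hY]; simp)
    exact Comb.rest_ne_zero this
  have hYinj : ∀ p p', p ≠ p' → Y p ≠ Y p' := by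
    intro p p' hne e
    have h1 := hrr p p'
    rw [if_neg hne, Comb.sum_supp, hY, sum_singleton] at h1
    have hp : r p (Y p) ≠ 0 := Comb.mem_supp.1 (by rw [hY]; simp)
    have hp' : r p' (Y p') ≠ 0 := Comb.mem_supp.1 (by rw [hY]; simp)
    rw [e] at h1 hp
    exact mul_ne_zero hp hp' h1
  set u : Orb A₃ → Cfsg.IrrCharacter G → ℤ := fun q => Comb.rest T fun χ => oc A₃ χ q with hu
  rcases w.third c with ⟨hj3, hX3⟩ | ⟨⟨hj3, hX3⟩, -⟩
  · -- the only possible shape
    have huu : ∀ q q', ∑ χ, u q χ * u q' χ = 2 + if q = q' then 1 else 0 := by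
      intro q q'
      simp only [hu, Comb.sum_rest_mul, c.s3.gram, hT, w.sum_head, c.s3.oc_triv, hj3, hX3, hsum3]
      linear_combination -w.δ_sq
    have hru : ∀ p q, r p (Y p) * u q (Y p) = -1 := by
      intro p q
      have h1 : ∑ χ, r p χ * u q χ = -1 := by
        simp only [hr, hu, Comb.sum_rest_mul, c.s2.cross c.s3 c.n23, hT, w.sum_head,
          c.s2.oc_triv, c.s3.oc_triv, h2.1, h2.2, hj3, hX3, hsum3]
        ring
      rwa [Comb.sum_supp, hY, sum_singleton] at h1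
    have hmem : ∀ p q, Y p ∈ Comb.supp (u q) := fun p q => Comb.mem_supp.2 fun h => by
      have := hru p q; rw [h, mul_zero] at this; omega
    set J := univ.image Y with hJ
    have hJc : J.card = Fintype.card (Orb A₂) := by
      rw [hJ, card_image_of_injective _ fun a b h => by_contra fun hne => hYinj a b hne h, card_univ]
    have hJu : ∀ q, J ⊆ Comb.supp (u q) := fun q χ hχ => by
      obtain ⟨p, -, rfl⟩ := mem_image.1 hχ
      exact hmem p q
    have hu3 : ∀ q, (Comb.supp (u q)).card = 3 := fun q =>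
      Comb.card_supp (n := 3) (by norm_num) (by rw [huu, if_pos rfl]; rfl)
    have hZ : ∀ q, (Comb.supp (u q) \ J).card ≤ 1 := fun q => by
      rw [card_sdiff_of_subset (hJu q), hu3, hJc]
      have := Fintype.one_lt_card (α := Orb A₂)
      omega
    set K := T ∪ J ∪ univ.biUnion fun q => Comb.supp (u q) \ J
    have hKc : K.card ≤ 5 + Nat.card (Orb A₂) + Nat.card (Orb A₃) := by
      refine (card_union_le _ _).trans ((Nat.add_le_add_right (card_union_le _ _) _).trans ?_)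
      have h4 : (univ.biUnion fun q => Comb.supp (u q) \ J).card ≤ Fintype.card (Orb A₃) := by
        refine card_biUnion_le.trans ((Finset.sum_le_sum fun q _ => hZ q).trans ?_)
        simp
      rw [hT, w.card_head, hm, hJc, Nat.card_eq_fintype_card, Nat.card_eq_fintype_card]
      omega
    have hout : (univ \ K).card ≤ 2 := by
      refine card_vanish_le c _ fun χ hχ => ?_
      simp only [mem_sdiff, mem_univ, true_and, K, mem_union, not_or] at hχ
      obtain ⟨⟨h1, h3⟩, h4⟩ := hχ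
      rw [hT, mem_head] at h1
      push Not at h1
      refine ⟨h1.1, w.zero χ h1.1 h1.2.1 h1.2.2, fun o => ?_, fun o => ?_⟩
      · have h5 : χ ∉ Comb.supp (r o) := by
          rw [hY]; simp only [mem_singleton]; exact fun e => h3 (e ▸ mem_image_of_mem Y (mem_univ o))
        have := Comb.not_mem_supp h5
        simp only [hr] at this
        rwa [Comb.rest_apply _ (by rw [hT, mem_head]; push Not; exact h1)] at this
      · have h5 : χ ∉ Comb.supp (u o) := fun h5 =>
          h4 (mem_biUnion.2 ⟨o, mem_univ _, mem_sdiff.2 ⟨h5, h3⟩⟩)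
        have := Comb.not_mem_supp h5
        simp only [hu] at this
        rwa [Comb.rest_apply _ (by rw [hT, mem_head]; push Not; exact h1)] at this
    have h6 : Nat.card (Cfsg.IrrCharacter G) ≤ 7 + Nat.card (Orb A₂) + Nat.card (Orb A₃) := by
      rw [Nat.card_eq_fintype_card, ← card_univ, ← card_sdiff_add_card_eq_card (subset_univ K)]
      omega
    rw [card_irrCharacter] at h6
    unfold Few
    omega
  · exfalso
    obtain ⟨p⟩ : Nonempty (Orb A₂) := inferInstance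
    obtain ⟨q⟩ : Nonempty (Orb A₃) := inferInstance
    have h1 : ∑ χ, r p χ * u q χ = -4 := by
      simp only [hr, hu, Comb.sum_rest_mul, c.s2.cross c.s3 c.n23, hT, w.sum_head,
        c.s2.oc_triv, c.s3.oc_triv, h2.1, h2.2, hj3, hX3, hsum3]
      linear_combination (-3 : ℤ) * w.ε_sq
    have h3 : ∑ χ, u q χ * u q χ = 1 := by
      simp only [hu, Comb.sum_rest_mul, c.s3.gram, hT, w.sum_head, c.s3.oc_triv, hj3, hX3, hsum3]
      rw [if_pos trivial]
      linear_combination (-3 : ℤ) * w.ε_sq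
    have hb := (Comb.dot_le_card (m := 1) (n := 1) (by norm_num) (by norm_num)
      (by rw [hrr p p, if_pos rfl]) h3).2
    rw [h1] at hb
    have h7 : (Comb.supp (r p) ∩ Comb.supp (u q)).card ≤ 1 :=
      (card_le_card inter_subset_left).trans (by rw [hY]; simp)
    omega

/-- The case `|A₁| = 5` with the first family non-zero on the second subgroup is impossible. -/
theorem One.no_five [Fintype G] [IsSimpleGroup G] (w : One A₁ j δ ε X) (c : Ctx A₁ A₂ A₃)
    (h2 : ∀ p, oc A₂ j p = 0) (hm : Nat.card (Orb A₁) = 2) : False := by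
  classical
  obtain ⟨t, ht, htA, hti⟩ := c.s2.exists_inverting ⟨2, rfl⟩
  obtain ⟨t₁, ht1, htA1, hti1⟩ := c.s1.exists_inverting ⟨1, rfl⟩
  obtain ⟨t₃, ht3, htA3, hti3⟩ := c.s3.exists_inverting ⟨2, rfl⟩
  have hct := w.isConj_inv c ht1 hti1 ht
  have hct3 := w.isConj_inv c ht1 hti1 ht3
  obtain ⟨m, hmval⟩ := value_at_inverting c.s2 ⟨2, rfl⟩ ht htA hti h2
  have hjeq : (j : G → ℂ) t = (j : G → ℂ) t₁ :=
    (apply_eq_of_isConj (isClassFunction_of_isCharacter (isCharacter_of_isIrrCharacter j.2)) hct).symm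
  have heq := w.inv_pairs c ht1 hti1
  obtain ⟨q, hq⟩ := dvd_deg c.s2 (χ := j) (k := 0) h2
  rw [sub_zero] at hq
  set n₂ : ℤ := (Nat.card A₂ : ℤ) with hn₂
  -- the value is an integer `V ≤ d / n₂`
  have hV : (j : G → ℂ) t₁ = ((q - 2 * (m : ℤ) : ℤ) : ℂ) := by
    rw [← hjeq]
    have hn : (Nat.card A₂ : ℂ) ≠ 0 := Nat.cast_ne_zero.2 Nat.card_pos.ne'
    refine mul_left_cancel₀ hn ?_
    rw [hmval, hq]
    push_cast
    simp only [hn₂, Int.cast_natCast]
    ring
  set D : ℤ := δ * deg j with hD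
  set C : ℤ := (Nat.card (Subgroup.centralizer ({t₁} : Set G)) : ℤ) with hC
  set V : ℤ := q - 2 * (m : ℤ) with hVdef
  have heqZ : (Nat.card A₁ : ℤ) * C ^ 2 * (D * (1 + D)) = (Nat.card G : ℤ) * (D - δ * V) ^ 2 := by
    refine Int.cast_injective (α := ℂ) ?_
    rw [hV] at heq
    push_cast [hC]
    exact heq
  have hn1 : Nat.card A₁ = 5 := by have := c.m1.1; omega
  -- many pairs of involutions
  set M : ℕ := Nat.card (Orb A₁) + Nat.card (Orb A₂) + Nat.card (Orb A₃) with hM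
  have hpairs : M * Nat.card (Subgroup.centralizer ({t₁} : Set G)) ^ 2 ≤ Nat.card G :=
    pairs_bound c ht1 hti1 ⟨t, ht, hti, hct⟩ ⟨t₃, ht3, hti3, hct3⟩
  have hM7 : 7 ≤ M := by
    have := c.m2; have := c.m3; have := c.mod2; have := c.mod3
    have : Nat.card A₂ ≠ Nat.card A₃ := fun e => by
      have := c.cop23; rw [e, Nat.coprime_self] at this; omega
    omega
  have hpairs' : (7 : ℤ) * C ^ 2 ≤ (Nat.card G : ℤ) := by
    have h7 : ((7 * Nat.card (Subgroup.centralizer ({t₁} : Set G)) ^ 2 : ℕ) : ℤ) ≤ (Nat.card G : ℤ) :=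
      Int.ofNat_le.2 ((Nat.mul_le_mul_right _ hM7).trans hpairs)
    rw [hC]; push_cast at h7; exact h7
  have hCpos : 0 < C ^ 2 := pow_pos (Int.natCast_pos.2 Nat.card_pos) 2
  have hd := deg_pos j
  have hkey : 7 * (D - δ * V) ^ 2 ≤ 5 * (D * (1 + D)) := by
    refine le_of_mul_le_mul_left ?_ hCpos
    calc C ^ 2 * (7 * (D - δ * V) ^ 2) = 7 * C ^ 2 * (D - δ * V) ^ 2 := by ring
      _ ≤ (Nat.card G : ℤ) * (D - δ * V) ^ 2 := mul_le_mul_of_nonneg_right hpairs' (sq_nonneg _)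
      _ = _ := by rw [← heqZ, hn1]; push_cast; ring
  have hb2 := c.mod2.2
  have hVle : n₂ * (deg j - V) ≥ (n₂ - 1) * deg j := by
    rw [hq, hVdef]
    have h0 : (0 : ℤ) ≤ 2 * n₂ * (m : ℤ) :=
      mul_nonneg (mul_nonneg (by norm_num) (Int.natCast_nonneg _)) (Int.natCast_nonneg m)
    linarith
  have hsq : (D - δ * V) ^ 2 = (deg j - V) ^ 2 := by
    rw [hD, ← mul_sub, mul_pow, sq δ, w.δ_sq, one_mul]
  rw [hsq] at hkey
  have hn9 : (9 : ℤ) ≤ n₂ := by rw [hn₂]; exact_mod_cast hb2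
  have h89 : 8 * deg j ≤ 9 * (deg j - V) := by
    refine le_of_mul_le_mul_left ?_ (by omega : (0 : ℤ) < n₂)
    have h0 : 0 ≤ (n₂ - 9) * deg j := mul_nonneg (by omega) hd.le
    linarith
  have hD1 : D * (1 + D) ≤ deg j * (deg j + 1) := by
    rcases w.hδ with e | e <;> rw [hD, e] <;> nlinarith
  have h64 : (8 * deg j) ^ 2 ≤ (9 * (deg j - V)) ^ 2 := pow_le_pow_left₀ (by omega) h89 2
  have h43 : 43 * deg j * deg j ≤ 405 * deg j := by linarith
  have h9 : deg j ≤ 9 := by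
    have := le_of_mul_le_mul_right h43 hd
    omega
  -- `deg j = |A₂| = 9`, so the third subgroup gives a contradiction
  have hq1 : 0 < q := pos_of_mul_pos_right (hq ▸ hd) (by omega)
  have hdj : deg j = 9 ∧ n₂ = 9 := by
    have hle : n₂ ≤ n₂ * q := le_mul_of_one_le_right (by omega) (by omega)
    omega
  have hb3 := c.mod3
  have hn3 : 13 ≤ Nat.card A₃ := by
    have : Nat.card A₂ ≠ Nat.card A₃ := fun e => by
      have := c.cop23; rw [e, Nat.coprime_self] at this; omega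
    omega
  rcases w.third c with ⟨hj3, -⟩ | ⟨⟨hj3, -⟩, -⟩
  · have h3 := Int.le_of_dvd (by rcases w.hδ with e | e <;> omega) (dvd_deg c.s3 hj3)
    rcases w.hδ with e | e <;> omega
  · have h3 := Int.le_of_dvd (by omega) (dvd_deg c.s3 hj3)
    omega

end

end Cfsg.Agent.ThreeSSC77
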