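import Mathlib
import Cfsg.Agent.Lib.ThreeSSC77Cases
import Cfsg.Agent.Lib.ThreeSSC77Arith

/-!
# The general configuration: the degree equations
-/

set_option autoImplicit false

open scoped ComplexConjugate
open Finset

namespace Cfsg.Agent.ThreeSSC77

open CharBasic CharBasicOrth CharBasicDecomp

universe u

variable {G : Type u} [Group G] [Finite G] {A₁ A₂ A₃ : Subgroup G}
  {j : Cfsg.IrrCharacter G} {δ ε : ℤ} {X : Orb A₁ → Cfsg.IrrCharacter G}

/-- The exceptional situation: one class more, the order equation with `h = 1`, and a character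
vanishing on all three subgroups. -/
def Tight (A₁ A₂ A₃ : Subgroup G) (D : ℤ) : Prop :=
  Nat.card (ConjClasses G) =
      1 + Nat.card (Orb A₁) + Nat.card (Orb A₂) + Nat.card (Orb A₃) + 4 ∧
    (Nat.card G : ℤ) = (Nat.card A₁ : ℤ) * (D * (1 + D)) ∧
    ((Nat.card A₂ : ℤ) * (Nat.card A₃ : ℤ)) ∣ 1 + D ∧
    ((Nat.card A₁ : ℤ) * ((Nat.card A₂ : ℤ) * (Nat.card A₃ : ℤ))) ^ 2 ≤ (Nat.card G : ℤ)

/-- The value of the distinguished character at an involution inverting the first subgroup. -/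
theorem One.value_t [Fintype G] (w : One A₁ j δ ε X) (c : Ctx A₁ A₂ A₃) {t : G}
    (ht : orderOf t = 2) (htA : t ∉ A₁) (hti : ∀ a ∈ A₁, t * a * t⁻¹ = a⁻¹) :
    ∃ U : ℤ, (δ : ℂ) * (j : G → ℂ) t = (U : ℂ) := by
  obtain ⟨m, hm⟩ := value_at_inverting c.s1 ⟨1, rfl⟩ ht htA hti w.cj
  obtain ⟨q, hq⟩ := dvd_deg c.s1 w.cj
  refine ⟨δ * (q + δ - 2 * (m : ℤ)), ?_⟩
  have hn : (Nat.card A₁ : ℂ) ≠ 0 := Nat.cast_ne_zero.2 Nat.card_pos.ne'
  have hq' : (deg j : ℂ) = (δ : ℂ) + (Nat.card A₁ : ℂ) * (q : ℂ) := by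
    have h2 : deg j = δ + (Nat.card A₁ : ℤ) * q := by omega
    exact_mod_cast h2
  refine mul_left_cancel₀ hn ?_
  rw [mul_left_comm, hm, hq']
  push_cast
  ring

theorem int_sqrt {c m v : ℤ} (h : c ^ 2 = m * v ^ 2) (hv : v ≠ 0) :
    ∃ k : ℕ, m = (k : ℤ) ^ 2 := by
  have h1 : v ^ 2 ∣ c ^ 2 := ⟨m, by rw [h]; ring⟩
  obtain ⟨k, hk⟩ := (Int.pow_dvd_pow_iff (two_ne_zero)).1 h1
  refine ⟨k.natAbs, ?_⟩
  rw [Int.natAbs_sq]
  have h2 : v ^ 2 * m = v ^ 2 * k ^ 2 := by rw [mul_comm, ← h, hk]; ring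
  exact mul_left_cancel₀ (pow_ne_zero 2 hv) h2

theorem One.coprime_degrees (w : One A₁ j δ ε X) (c : Ctx A₁ A₂ A₃) [Fintype G] (o : Orb A₁) :
    (Nat.card A₁ : ℤ) * (δ * deg j * (1 + δ * deg j)) ∣ (Nat.card G : ℤ) := by
  obtain ⟨q, hq⟩ := dvd_deg c.s1 w.cj
  obtain ⟨k, hk⟩ := c.odd1
  set n : ℤ := (Nat.card A₁ : ℤ) with hn
  have hnk : n = 2 * (k : ℤ) + 1 := by rw [hn, hk]; push_cast; ring
  have hD : δ * deg j = 1 + n * (δ * q) := by
    have h2 : deg j = δ + n * q := by omega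
    rw [h2]; linear_combination w.δ_sq
  have c1 : IsCoprime n (δ * deg j) := ⟨-(δ * q), 1, by rw [hD]; ring⟩
  have c2 : IsCoprime n (1 + δ * deg j) :=
    ⟨1 + (δ * q) * (k : ℤ), -(k : ℤ), by rw [hD, hnk]; ring⟩
  have c3 : IsCoprime (δ * deg j) (1 + δ * deg j) := ⟨-1, 1, by ring⟩
  refine (IsCoprime.mul_right c1 c2).mul_dvd ?_ (c3.mul_dvd ?_ ?_)
  · exact Int.natCast_dvd_natCast.2 (Subgroup.card_subgroup_dvd_card _)
  · rcases w.hδ with e | e <;> rw [e]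
    · rw [one_mul]; exact deg_dvd j
    · rw [neg_one_mul, neg_dvd]; exact deg_dvd j
  · rw [← w.degX o]
    rcases w.hε with e | e <;> rw [e]
    · rw [one_mul]; exact deg_dvd (X o)
    · rw [neg_one_mul, neg_dvd]; exact deg_dvd (X o)

set_option maxHeartbeats 2000000 in
/-- The general configuration. -/
theorem One.generic [Fintype G] [IsSimpleGroup G] (w : One A₁ j δ ε X) (c : Ctx A₁ A₂ A₃)
    (h2 : (∀ p, oc A₂ j p = -δ) ∧ ∀ o p, oc A₂ (X o) p = 0)
    (h3 : (∀ p, oc A₃ j p = -δ) ∧ ∀ o p, oc A₃ (X o) p = 0) :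
    Few A₁ A₂ A₃ ∨ Tight A₁ A₂ A₃ (δ * deg j) := by
  classical
  haveI := c.nontriv2
  haveI := c.nontriv3
  haveI := Fintype.ofFinite (Orb A₁)
  haveI := Fintype.ofFinite (Orb A₂)
  haveI := Fintype.ofFinite (Orb A₃)
  set T := head j X with hT
  set D : ℤ := δ * deg j with hD
  set r : Orb A₂ → Cfsg.IrrCharacter G → ℤ := fun p => Comb.rest T fun χ => oc A₂ χ p with hr
  set r' : Orb A₃ → Cfsg.IrrCharacter G → ℤ := fun p => Comb.rest T fun χ => oc A₃ χ p with hr'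
  have hz : ∑ _o : Orb A₁, (0 : ℤ) = 0 := Finset.sum_const_zero
  have TT : Comb.Tri r deg (D - 1) := by
    refine ⟨fun p => ?_, fun p p' hne => ?_, fun p => ?_, deg_pos⟩
    · simp only [hr, Comb.sum_rest_mul, c.s2.gram, hT, w.sum_head, c.s2.oc_triv, h2.1, h2.2,
        mul_zero, hz]
      rw [if_pos trivial]
      linear_combination -w.δ_sq
    · simp only [hr, Comb.sum_rest_mul, c.s2.gram, hT, w.sum_head, c.s2.oc_triv, h2.1, h2.2,
        mul_zero, hz]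
      rw [if_neg hne]
      linear_combination -w.δ_sq
    · simp only [hr, Comb.sum_rest, (Ctx.sys1.sys_of c.s2).deg, hT, w.sum_head, c.s2.oc_triv,
        h2.1, h2.2, zero_mul, hz, deg_triv, hD]
      ring
  have UU : Comb.Tri r' deg (D - 1) := by
    refine ⟨fun p => ?_, fun p p' hne => ?_, fun p => ?_, deg_pos⟩
    · simp only [hr', Comb.sum_rest_mul, c.s3.gram, hT, w.sum_head, c.s3.oc_triv, h3.1, h3.2,
        mul_zero, hz]
      rw [if_pos trivial]
      linear_combination -w.δ_sq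
    · simp only [hr', Comb.sum_rest_mul, c.s3.gram, hT, w.sum_head, c.s3.oc_triv, h3.1, h3.2,
        mul_zero, hz]
      rw [if_neg hne]
      linear_combination -w.δ_sq
    · simp only [hr', Comb.sum_rest, (Ctx.sys1.sys_of c.s3).deg, hT, w.sum_head, c.s3.oc_triv,
        h3.1, h3.2, zero_mul, hz, deg_triv, hD]
      ring
  have hru : ∀ p q, ∑ χ, r p χ * r' q χ = -2 := by
    intro p q
    simp only [hr, hr', Comb.sum_rest_mul, c.s2.cross c.s3 c.n23, hT, w.sum_head, c.s2.oc_triv,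
      c.s3.oc_triv, h2.1, h2.2, h3.1, h3.2, mul_zero, hz]
    linear_combination -w.δ_sq
  have hsize : ¬(Fintype.card (Orb A₂) = 2 ∧ Fintype.card (Orb A₃) = 2) := by
    rintro ⟨e2, e3⟩
    rw [← Nat.card_eq_fintype_card] at e2 e3
    have h4 := c.m2.1; have h5 := c.m3.1
    have := c.cop23
    rw [show Nat.card A₂ = 9 by omega, show Nat.card A₃ = 9 by omega] at this
    exact absurd this (by norm_num)
  obtain ⟨a, b, sa, sb, sY, sZ, Y, Z, hab, hsa, hsb, hsY, hsZ, hY, hZ, hYab, hZab, hYZ, hrp, hup,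
    hdY, hdZ⟩ := Comb.pair_split TT UU hru hsize
  obtain ⟨p₀⟩ : Nonempty (Orb A₂) := inferInstance
  obtain ⟨q₀⟩ : Nonempty (Orb A₃) := inferInstance
  obtain ⟨o₀⟩ : Nonempty (Orb A₁) := (Nat.card_pos_iff.1 (by have := c.m1; omega)).1
  have hne1 : ∀ {s : ℤ}, (s = 1 ∨ s = -1) → s ≠ 0 := fun h => by rcases h with rfl | rfl <;> omega
  have haT : a ∉ T := Comb.rest_ne_zero (v := fun χ => oc A₂ χ p₀)
    (show r p₀ a ≠ 0 by rw [(hrp p₀).1]; exact hne1 hsa)
  have hbT : b ∉ T := Comb.rest_ne_zero (v := fun χ => oc A₂ χ p₀)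
    (show r p₀ b ≠ 0 by rw [(hrp p₀).2.1]; exact hne1 hsb)
  have hYT : ∀ p, Y p ∉ T := fun p => Comb.rest_ne_zero (v := fun χ => oc A₂ χ p)
    (show r p (Y p) ≠ 0 by rw [(hrp p).2.2.1]; exact hne1 hsY)
  have hZT : ∀ q, Z q ∉ T := fun q => Comb.rest_ne_zero (v := fun χ => oc A₃ χ q)
    (show r' q (Z q) ≠ 0 by rw [(hup q).2.2.1]; exact hne1 hsZ)
  -- the coefficients
  have co1 : ∀ χ, χ ∉ T → ∀ o, oc A₁ χ o = 0 := fun χ hχ => by
    rw [hT, mem_head] at hχ; push Not at hχ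
    exact w.zero χ hχ.1 hχ.2.1 hχ.2.2
  have co2 : ∀ χ, χ ∉ T → ∀ p, oc A₂ χ p = r p χ := fun χ hχ p =>
    (Comb.rest_apply (fun χ => oc A₂ χ p) hχ).symm
  have co3 : ∀ χ, χ ∉ T → ∀ p, oc A₃ χ p = r' p χ := fun χ hχ p =>
    (Comb.rest_apply (fun χ => oc A₃ χ p) hχ).symm
  have a2 : ∀ p, oc A₂ a p = sa := fun p => by rw [co2 a haT, (hrp p).1]
  have b2 : ∀ p, oc A₂ b p = sb := fun p => by rw [co2 b hbT, (hrp p).2.1]
  have a3 : ∀ p, oc A₃ a p = -sa := fun p => by rw [co3 a haT, (hup p).1]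
  have b3 : ∀ p, oc A₃ b p = -sb := fun p => by rw [co3 b hbT, (hup p).2.1]
  have Y3 : ∀ p q, oc A₃ (Y p) q = 0 := fun p q => by
    rw [co3 _ (hYT p), (hup q).2.2.2 _ (hYab p).1 (hYab p).2 (hYZ p q)]
  have Z2 : ∀ q p, oc A₂ (Z q) p = 0 := fun q p => by
    rw [co2 _ (hZT q), (hrp p).2.2.2 _ (hZab q).1 (hZab q).2 (Ne.symm (hYZ p q))]
  -- divisibilities
  set n1 : ℤ := (Nat.card A₁ : ℤ) with hn1
  set n2 : ℤ := (Nat.card A₂ : ℤ) with hn2
  set n3 : ℤ := (Nat.card A₃ : ℤ) with hn3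
  have c12 : IsCoprime n1 n2 := Nat.isCoprime_iff_coprime.2 c.cop12
  have c13 : IsCoprime n1 n3 := Nat.isCoprime_iff_coprime.2 c.cop13
  have c23 : IsCoprime n2 n3 := Nat.isCoprime_iff_coprime.2 c.cop23
  set P : ℤ := n1 * (n2 * n3) with hP
  have hPmul : ∀ {v : ℤ}, n1 ∣ v → n2 ∣ v → n3 ∣ v → P ∣ v := fun d1 d2 d3 =>
    (IsCoprime.mul_right c12 c13).mul_dvd d1 (c23.mul_dvd d2 d3)
  obtain ⟨u, hu⟩ : n2 * n3 ∣ 1 + D := by
    rw [hD, ← w.degX o₀]
    refine (c23.mul_dvd ?_ ?_).mul_left ε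
    · have := dvd_deg c.s2 (h2.2 o₀); rwa [sub_zero] at this
    · have := dvd_deg c.s3 (h3.2 o₀); rwa [sub_zero] at this
  obtain ⟨α, hα⟩ : n1 * n3 ∣ -(sY * deg (Y p₀)) := by
    refine (dvd_neg.2 ((c13.mul_dvd ?_ ?_).mul_left sY))
    · have := dvd_deg c.s1 (co1 _ (hYT p₀)); rwa [sub_zero] at this
    · have := dvd_deg c.s3 (Y3 p₀); rwa [sub_zero] at this
  obtain ⟨β, hβ⟩ : n1 * n2 ∣ -(sZ * deg (Z q₀)) := by
    refine (dvd_neg.2 ((c12.mul_dvd ?_ ?_).mul_left sZ))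
    · have := dvd_deg c.s1 (co1 _ (hZT q₀)); rwa [sub_zero] at this
    · have := dvd_deg c.s2 (Z2 q₀); rwa [sub_zero] at this
  have hsa2 : sa * sa = 1 := by rcases hsa with e | e <;> simp [e]
  have hsb2 : sb * sb = 1 := by rcases hsb with e | e <;> simp [e]
  obtain ⟨s₀, hs₀⟩ : P ∣ sa * deg a - sb * deg b := by
    refine hPmul ?_ ?_ ?_
    · have ha := dvd_deg c.s1 (co1 a haT)
      have hb := dvd_deg c.s1 (co1 b hbT)
      rw [sub_zero] at ha hb
      exact dvd_sub (ha.mul_left sa) (hb.mul_left sb)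
    · have := dvd_sub ((dvd_deg c.s2 a2).mul_left sa) ((dvd_deg c.s2 b2).mul_left sb)
      have e : sa * (deg a - sa) - sb * (deg b - sb) = sa * deg a - sb * deg b := by
        linear_combination hsb2 - hsa2
      rwa [e] at this
    · have := dvd_sub ((dvd_deg c.s3 a3).mul_left sa) ((dvd_deg c.s3 b3).mul_left sb)
      have e : sa * (deg a - -sa) - sb * (deg b - -sb) = sa * deg a - sb * deg b := by
        linear_combination hsa2 - hsb2
      rwa [e] at this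
  -- relations between the degrees
  have relY : sa * deg a + sb * deg b + sY * deg (Y p₀) = D - 1 := by
    have h4 := TT.deg p₀
    have hs : Comb.supp (r p₀) ⊆ {a, b, Y p₀} := fun χ hχ => by
      by_contra h5
      simp only [mem_insert, mem_singleton, not_or] at h5
      exact Comb.mem_supp.1 hχ ((hrp p₀).2.2.2 χ h5.1 h5.2.1 h5.2.2)
    rw [Comb.sum_supp, Finset.sum_subset hs fun χ _ h5 => by rw [Comb.not_mem_supp h5, zero_mul],
      sum_insert (by simp [hab, Ne.symm (hYab p₀).1]), sum_pair (Ne.symm (hYab p₀).2),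
      (hrp p₀).1, (hrp p₀).2.1, (hrp p₀).2.2.1] at h4
    linarith
  have relZ : -sa * deg a + -sb * deg b + sZ * deg (Z q₀) = D - 1 := by
    have h4 := UU.deg q₀
    have hs : Comb.supp (r' q₀) ⊆ {a, b, Z q₀} := fun χ hχ => by
      by_contra h5
      simp only [mem_insert, mem_singleton, not_or] at h5
      exact Comb.mem_supp.1 hχ ((hup q₀).2.2.2 χ h5.1 h5.2.1 h5.2.2)
    rw [Comb.sum_supp, Finset.sum_subset hs fun χ _ h5 => by rw [Comb.not_mem_supp h5, zero_mul],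
      sum_insert (by simp [hab, Ne.symm (hZab q₀).1]), sum_pair (Ne.symm (hZab q₀).2),
      (hup q₀).1, (hup q₀).2.1, (hup q₀).2.2.1] at h4
    linarith
  -- the characters
  set K := T ∪ (({a, b} : Finset _) ∪ (univ.image Y ∪ univ.image Z)) with hK
  have d1 : Disjoint (univ.image Y) (univ.image Z) := by
    rw [Finset.disjoint_left]
    simp only [mem_image, mem_univ, true_and, not_exists]
    rintro χ ⟨p, rfl⟩ q e
    exact hYZ p q e.symm
  have d2 : Disjoint ({a, b} : Finset _) (univ.image Y ∪ univ.image Z) := by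
    rw [Finset.disjoint_left]
    simp only [mem_insert, mem_singleton, mem_union, mem_image, mem_univ, true_and, not_or,
      not_exists]
    rintro χ (rfl | rfl)
    · exact ⟨fun p => (hYab p).1, fun q => (hZab q).1⟩
    · exact ⟨fun p => (hYab p).2, fun q => (hZab q).2⟩
  have d3 : Disjoint T (({a, b} : Finset _) ∪ (univ.image Y ∪ univ.image Z)) := by
    rw [Finset.disjoint_right]
    simp only [mem_insert, mem_singleton, mem_union, mem_image, mem_univ, true_and]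
    rintro χ ((rfl | rfl) | ⟨p, rfl⟩ | ⟨q, rfl⟩)
    · exact haT
    · exact hbT
    · exact hYT p
    · exact hZT q
  have sumK : ∀ F : Cfsg.IrrCharacter G → ℤ, ∑ χ ∈ K, F χ =
      (F (trivIrr G) + (F j + ∑ o, F (X o))) + ((F a + F b) + ((∑ p, F (Y p)) + ∑ q, F (Z q))) := by
    intro F
    rw [hK, sum_union d3, sum_union d2, sum_union d1, sum_pair hab, hT, w.sum_head,
      sum_image fun _ _ _ _ h => hY h, sum_image fun _ _ _ _ h => hZ h]
  have hKc : K.card = 4 + Nat.card (Orb A₁) + Nat.card (Orb A₂) + Nat.card (Orb A₃) := by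
    have h4 := sumK fun _ => 1
    simp only [Finset.sum_const, card_univ, ← Nat.card_eq_fintype_card, nsmul_eq_mul, mul_one] at h4
    omega
  set O := (univ : Finset (Cfsg.IrrCharacter G)) \ K with hO
  have hOdvd : ∀ χ ∈ O, P ∣ deg χ := by
    intro χ hχ
    simp only [hO, hK, mem_sdiff, mem_univ, true_and, mem_union, mem_insert, mem_singleton,
      mem_image, not_or, not_exists] at hχ
    obtain ⟨h4, ⟨h5, h6⟩, h7, h8⟩ := hχ
    refine hPmul ?_ ?_ ?_
    · have := dvd_deg c.s1 (co1 χ h4); rwa [sub_zero] at this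
    · have := dvd_deg c.s2 (χ := χ) (k := 0) fun p => by
        rw [co2 χ h4, (hrp p).2.2.2 χ h5 h6 (Ne.symm (h7 p))]
      rwa [sub_zero] at this
    · have := dvd_deg c.s3 (χ := χ) (k := 0) fun q => by
        rw [co3 χ h4, (hup q).2.2.2 χ h5 h6 (Ne.symm (h8 q))]
      rwa [sub_zero] at this
  set S : ℤ := s₀ ^ 2 + 2 * ∑ χ ∈ O, (deg χ / P) ^ 2 with hS
  have hPpos : 0 < P := by
    rw [hP, hn1, hn2, hn3]
    exact mul_pos (Int.natCast_pos.2 Nat.card_pos) (mul_pos (Int.natCast_pos.2 Nat.card_pos) (Int.natCast_pos.2 Nat.card_pos))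
  have hSn : 0 ≤ S := add_nonneg (sq_nonneg _)
    (mul_nonneg (by norm_num) (Finset.sum_nonneg fun _ _ => sq_nonneg _))
  have hOsum : ∑ χ ∈ O, deg χ ^ 2 = P ^ 2 * ∑ χ ∈ O, (deg χ / P) ^ 2 := by
    rw [Finset.mul_sum]
    refine Finset.sum_congr rfl fun χ hχ => ?_
    rw [← mul_pow, Int.mul_ediv_cancel' (hOdvd χ hχ)]
  have hOcard : 2 * (O.card : ℤ) ≤ S - s₀ ^ 2 := by
    have h4 : ∀ χ ∈ O, (1 : ℤ) ≤ (deg χ / P) ^ 2 := fun χ hχ => by
      have h5 := Int.mul_ediv_cancel' (hOdvd χ hχ)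
      have h6 : 0 < deg χ / P := by
        by_contra h7; push Not at h7
        nlinarith [deg_pos χ]
      nlinarith
    have h5 := Finset.card_nsmul_le_sum O (fun χ => (deg χ / P) ^ 2) 1 h4
    rw [nsmul_eq_mul, mul_one] at h5
    linarith
  -- the sum of squares
  have hdX : ∀ o, deg (X o) ^ 2 = (1 + D) ^ 2 := fun o => by
    rw [hD, ← w.degX o, mul_pow, sq ε, w.ε_sq, one_mul]
  have hm1 : 2 * (Nat.card (Orb A₁) : ℤ) + 1 = n1 := by rw [hn1]; exact_mod_cast c.m1.1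
  have hm2 : 4 * (Nat.card (Orb A₂) : ℤ) + 1 = n2 := by rw [hn2]; exact_mod_cast c.m2.1
  have hm3 : 4 * (Nat.card (Orb A₃) : ℤ) + 1 = n3 := by rw [hn3]; exact_mod_cast c.m3.1
  have hY2 : ∀ p, deg (Y p) ^ 2 = (n1 * n3 * α) ^ 2 := fun p => by
    rw [← hα, hdY p p₀]; rcases hsY with e | e <;> simp [e]
  have hZ2 : ∀ q, deg (Z q) ^ 2 = (n1 * n2 * β) ^ 2 := fun q => by
    rw [← hβ, hdZ q q₀]; rcases hsZ with e | e <;> simp [e]
  have hG : (Nat.card G : ℤ) = (1 + D ^ 2 + (Nat.card (Orb A₁) : ℤ) * (1 + D) ^ 2 + deg a ^ 2 +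
      deg b ^ 2 + (Nat.card (Orb A₂) : ℤ) * (n1 * n3 * α) ^ 2 +
      (Nat.card (Orb A₃) : ℤ) * (n1 * n2 * β) ^ 2) + P ^ 2 * ∑ χ ∈ O, (deg χ / P) ^ 2 := by
    rw [← sum_deg_sq (G := G), ← Finset.sum_sdiff (subset_univ K), ← hO, hOsum, sumK]
    simp only [hdX, hY2, hZ2, deg_triv, Finset.sum_const, card_univ, ← Nat.card_eq_fintype_card,
      nsmul_eq_mul]
    have hDsq : D ^ 2 = deg j ^ 2 := by rw [hD, mul_pow, sq δ, w.δ_sq, one_mul]
    rw [hDsq]
    ring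
  -- `h`
  obtain ⟨t, ht, htA, hti⟩ := c.s1.exists_inverting ⟨1, rfl⟩
  obtain ⟨U, hU⟩ := w.value_t c ht htA hti
  have heq := w.inv_pairs c ht hti
  rw [hU] at heq
  set C : ℤ := (Nat.card (Subgroup.centralizer ({t} : Set G)) : ℤ) with hC
  have heqZ : n1 * C ^ 2 * (D * (1 + D)) = (Nat.card G : ℤ) * (D - U) ^ 2 := by
    refine Int.cast_injective (α := ℂ) ?_
    push_cast [hn1, hC, hD] at heq ⊢
    exact heq
  have hD0 : D ≠ 0 := by
    have := deg_pos j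
    rcases w.hδ with e | e <;> rw [hD, e] <;> omega
  have hD1 : 1 + D ≠ 0 := by
    have := deg_pos (X o₀)
    rw [hD, ← w.degX o₀]
    rcases w.hε with e | e <;> rw [e] <;> omega
  obtain ⟨mm, hmm⟩ : n1 * (D * (1 + D)) ∣ (Nat.card G : ℤ) := w.coprime_degrees c o₀
  have hn1pos : 0 < n1 := by rw [hn1]; exact Int.natCast_pos.2 Nat.card_pos
  have hC2 : C ^ 2 = mm * (D - U) ^ 2 := by
    refine mul_left_cancel₀ (mul_ne_zero hn1pos.ne' (mul_ne_zero hD0 hD1)) ?_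
    calc n1 * (D * (1 + D)) * C ^ 2 = n1 * C ^ 2 * (D * (1 + D)) := by ring
      _ = _ := by rw [heqZ, hmm]; ring
  have hDU : D - U ≠ 0 := fun e => by
    rw [e] at hC2
    have hCpos : 0 < C := by rw [hC]; exact Int.natCast_pos.2 Nat.card_pos
    nlinarith
  obtain ⟨k, hk⟩ := int_sqrt hC2 hDU
  -- the arithmetic
  obtain ⟨f, hf⟩ := c.prod_dvd
  have hfZ : (Nat.card G : ℤ) = P * (f : ℤ) := by
    rw [hf, hP, hn1, hn2, hn3]; push_cast; ring
  have hfpos : 0 < f := by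
    rcases Nat.eq_zero_or_pos f with e | e
    · exact absurd (hf.trans (by rw [e, mul_zero])) Nat.card_pos.ne'
    · exact e
  have hlin : 2 * (n2 * n3) * u + n1 * (n3 * α + n2 * β) = 4 := by
    linear_combination relY * (-1 : ℤ) + relZ * (-1 : ℤ) - 2 * hu - hα - hβ
  have hfh : (f : ℤ) = (k : ℤ) ^ 2 * u * (n2 * n3 * u - 1) := by
    refine mul_left_cancel₀ hPpos.ne' ?_
    rw [← hfZ, hmm, hk, hu, show D = n2 * n3 * u - 1 by linarith, hP]
    ring
  have hdeg : 4 * (f : ℤ) = 2 * (n2 * n3) * u ^ 2 + n1 * n3 * α ^ 2 + n1 * n2 * β ^ 2 +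
      2 * (n1 * (n2 * n3)) * S := by
    refine mul_left_cancel₀ hPpos.ne' ?_
    have hY' : n1 * n3 * α = 1 - D + (sa * deg a + sb * deg b) := by linarith
    have hZ' : n1 * n2 * β = 1 - D - (sa * deg a + sb * deg b) := by linarith
    have e1 : P * (2 * (n2 * n3) * u ^ 2) = 2 * n1 * (1 + D) ^ 2 := by rw [hu, hP]; ring
    have e2 : P * (n1 * n3 * α ^ 2) = n2 * (n1 * n3 * α) ^ 2 := by rw [hP]; ring
    have e3 : P * (n1 * n2 * β ^ 2) = n3 * (n1 * n2 * β) ^ 2 := by rw [hP]; ring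
    have e4 : P * (2 * (n1 * (n2 * n3)) * S) =
        2 * (sa * deg a - sb * deg b) ^ 2 + 4 * (P ^ 2 * ∑ χ ∈ O, (deg χ / P) ^ 2) := by
      rw [hS, hs₀, ← hP]; ring
    have e5 : (sa * deg a) ^ 2 = deg a ^ 2 := by rw [mul_pow, sq sa, hsa2, one_mul]
    have e6 : (sb * deg b) ^ 2 = deg b ^ 2 := by rw [mul_pow, sq sb, hsb2, one_mul]
    calc P * (4 * (f : ℤ)) = 4 * (Nat.card G : ℤ) := by rw [hfZ]; ring
      _ = 4 * (1 + D ^ 2 + (Nat.card (Orb A₁) : ℤ) * (1 + D) ^ 2 + (sa * deg a) ^ 2 +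
          (sb * deg b) ^ 2 + (Nat.card (Orb A₂) : ℤ) * (n1 * n3 * α) ^ 2 +
          (Nat.card (Orb A₃) : ℤ) * (n1 * n2 * β) ^ 2) +
          4 * (P ^ 2 * ∑ χ ∈ O, (deg χ / P) ^ 2) := by rw [e5, e6, hG]; ring
      _ = _ := by
        rw [mul_add P, mul_add P, mul_add P, e1, e2, e3, e4, hY', hZ', ← hm1, ← hm2, ← hm3]
        ring
  have hb : f ≤ 3 * (Nat.card A₁ * Nat.card A₂ * Nat.card A₃) := by
    refine Nat.le_of_mul_le_mul_left ?_
      (Nat.mul_pos (Nat.card_pos (α := A₁)) (Nat.mul_pos (Nat.card_pos (α := A₂))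
        (Nat.card_pos (α := A₃))))
    rw [← hf]
    exact c.bound.trans_eq (by ring)
  have hS' : (S.toNat : ℤ) = S := Int.toNat_of_nonneg hSn
  have hres := degree_bound (S := S.toNat) c.odd1 c.b1 c.mod2.2 c.mod3.2 c.mod2.1 c.mod3.1
    c.cop12 c.cop13 c.cop23 hlin hfh hfpos (by rw [hS']; exact hdeg) hb
  have hcls : Nat.card (ConjClasses G) = K.card + O.card := by
    rw [← card_irrCharacter, Nat.card_eq_fintype_card, ← card_univ, hO,
      ← card_sdiff_add_card_eq_card (subset_univ K), add_comm]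
  have h4 : 0 ≤ s₀ ^ 2 := sq_nonneg s₀
  rcases hres with h5 | ⟨h5, h6⟩
  · left
    unfold Few
    omega
  · by_cases hO0 : O.card = 0
    · left; unfold Few; omega
    · right
      refine ⟨by omega, ?_, ⟨u, hu⟩, ?_⟩
      · rw [hmm, hk, h5]; push_cast; ring
      · have h7 : (1 : ℤ) ≤ ∑ χ ∈ O, (deg χ / P) ^ 2 := by
          have h8 : 1 ≤ O.card := Nat.pos_of_ne_zero hO0
          obtain ⟨χ, hχ⟩ := Finset.card_pos.1 h8
          refine le_trans ?_ (Finset.single_le_sum (fun _ _ => sq_nonneg _) hχ)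
          have h9 : deg χ / P ≠ 0 := fun e => by
            have := Int.mul_ediv_cancel' (hOdvd χ hχ)
            rw [e, mul_zero] at this
            have := deg_pos χ
            omega
          nlinarith [sq_pos_of_ne_zero h9]
        rw [hG, ← hP]
        refine le_add_of_nonneg_of_le ?_ (le_mul_of_one_le_right (sq_nonneg P) h7)
        positivity

end Cfsg.Agent.ThreeSSC77
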