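import Mathlib
import Cfsg.Agent.Lib.ThreeSSC77Generic
import Cfsg.Agent.Lib.CIT21Defs
import Cfsg.Agent.S0165

/-!
# At most three classes outside the three subgroups, hence a CIT group
-/

set_option autoImplicit false

open scoped ComplexConjugate
open Finset

namespace Cfsg.Agent.ThreeSSC77

open CharBasic CharBasicOrth CharBasicDecomp

universe u

variable {G : Type u} [Group G] [Finite G] {A₁ A₂ A₃ : Subgroup G}
  {j : Cfsg.IrrCharacter G} {δ ε : ℤ} {X : Orb A₁ → Cfsg.IrrCharacter G}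

/-- The two possibilities. -/
theorem dichotomy [Fintype G] [IsSimpleGroup G] (c : Ctx A₁ A₂ A₃) :
    Few A₁ A₂ A₃ ∨ ∃ (j : Cfsg.IrrCharacter G) (δ ε : ℤ) (X : Orb A₁ → Cfsg.IrrCharacter G),
      One A₁ j δ ε X ∧ Tight A₁ A₂ A₃ (δ * deg j) ∧ ∀ p, oc A₂ j p = -δ := by
  obtain ⟨j, δ, ε, X, w⟩ := exists_one c
  rcases w.second c with h2 | ⟨h2, hm | hm⟩
  · rcases w.third c with h3 | ⟨h3, hm | hm⟩
    · rcases w.generic c h2 h3 with h | h
      · exact Or.inl h
      · exact Or.inr ⟨j, δ, ε, X, w, h, h2.1⟩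
    · exact (w.no_five c.symm h3.1 hm).elim
    · exact Or.inl (w.few_seven c.symm h3 hm).symm
  · exact (w.no_five c h2.1 hm).elim
  · exact Or.inl (w.few_seven c h2 hm)

/-- A character of degree divisible by the `r`-part of `|G|` vanishes at `r`-singular elements. -/
theorem vanish_singular {r : ℕ} (hr : r.Prime) {χ : Cfsg.IrrCharacter G}
    (hd : ∀ a : ℕ, r ^ a ∣ Nat.card G → (r ^ a : ℤ) ∣ deg χ) {g : G} (hg : r ∣ orderOf g) :
    (χ : G → ℂ) g = 0 := by
  have hG : Nat.card G ≠ 0 := Nat.card_pos.ne'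
  obtain ⟨n, ρ, hρ, hρc⟩ := χ.2
  haveI := hρ
  set a := (Nat.card G).factorization r with ha
  have h1 : r ^ a ∣ Nat.card G := Nat.ordProj_dvd _ _
  have h2 : ¬ r ^ (a + 1) ∣ Nat.card G := Nat.pow_succ_factorization_not_dvd hG hr
  rw [← hρc]
  refine Cfsg.Agent.S0165.result ρ r a hr h1 h2 ?_ g hg
  have h3 : (deg χ : ℂ) = (Module.finrank ℂ (Fin n → ℂ) : ℕ) := by
    rw [← deg_spec, ← hρc, Representation.char_one]
  have h4 : deg χ = ((Module.finrank ℂ (Fin n → ℂ) : ℕ) : ℤ) := by exact_mod_cast h3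
  have h5 := hd a h1
  rw [h4] at h5
  exact_mod_cast h5

/-- The counting identity for `t` and a second element at an element of the first subgroup. -/
theorem One.dvd_of_value [Fintype G] [IsSimpleGroup G] (w : One A₁ j δ ε X) (c : Ctx A₁ A₂ A₃)
    (hG : (Nat.card G : ℤ) = (Nat.card A₁ : ℤ) * (δ * deg j * (1 + δ * deg j)))
    {t : G} (ht : orderOf t = 2) (htA : t ∉ A₁) (hti : ∀ a ∈ A₁, t * a * t⁻¹ = a⁻¹)
    {y : G} (hy : Outside A₁ A₂ A₃ y) {V : ℤ} (hV : (δ : ℂ) * (j : G → ℂ) y = (V : ℂ)) :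
    (Nat.card (Subgroup.centralizer ({y} : Set G)) : ℤ) ∣ δ * deg j - V := by
  classical
  obtain ⟨a, ha⟩ : ∃ a : A₁, a ≠ 1 := by
    haveI : Nontrivial A₁ := Finite.one_lt_card_iff_nontrivial.1 c.s1.one_lt
    exact exists_ne 1
  have ha1 : (a : G) ≠ 1 := fun e => ha (Subtype.ext e)
  have ht1 : t ≠ 1 := fun e => by rw [e, orderOf_one] at ht; omega
  have htO := c.outside_of_even ht1 (ht ▸ dvd_rfl)
  obtain ⟨U, hU⟩ := w.value_t c ht htA hti
  set D : ℤ := δ * deg j with hD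
  set n : ℤ := (Nat.card A₁ : ℤ) with hn
  set C : ℤ := (Nat.card (Subgroup.centralizer ({t} : Set G)) : ℤ) with hC
  have hD01 : D * (1 + D) ≠ 0 := by
    intro e
    rw [e, mul_zero] at hG
    exact (Nat.card_pos (α := G)).ne' (by exact_mod_cast hG)
  have hn0 : 0 < n := Int.natCast_pos.2 Nat.card_pos
  have h1 := w.inv_pairs c ht hti
  rw [hU] at h1
  have h1Z : n * C ^ 2 * (D * (1 + D)) = (Nat.card G : ℤ) * (D - U) ^ 2 := by
    refine Int.cast_injective (α := ℂ) ?_
    push_cast [hn, hC, hD] at h1 ⊢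
    exact h1
  have hsq : C ^ 2 = (D - U) ^ 2 := by
    refine mul_left_cancel₀ (mul_ne_zero hn0.ne' hD01) ?_
    calc n * (D * (1 + D)) * C ^ 2 = n * C ^ 2 * (D * (1 + D)) := by ring
      _ = _ := by rw [h1Z, hG]
  have h2 := w.class_eq c.s1 htO.2.1 hy.2.1 (c.s1.inA_of_mem a.2 ha1)
  have hp := ExcChar68b.card_pairs2 (ι := MonoidHom.id G) Function.injective_id t y (a : G)
    fun p q _ _ _ => ⟨⟨p, rfl⟩, ⟨q, rfl⟩⟩
  simp only [MonoidHom.id_apply] at hp
  rw [hp, hU, hV] at h2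
  set k := Nat.card {q : G × G // IsConj t q.1 ∧ IsConj y q.2 ∧ q.1 * q.2 = (a : G)}
  set Cy : ℤ := (Nat.card (Subgroup.centralizer ({y} : Set G)) : ℤ) with hCy
  have h2Z : C * Cy * (k : ℤ) * (D * (1 + D)) = (Nat.card G : ℤ) * ((D - U) * (D - V)) := by
    refine Int.cast_injective (α := ℂ) ?_
    have hG0 : (Nat.card G : ℂ) ≠ 0 := Nat.cast_ne_zero.2 Nat.card_pos.ne'
    have hD0 : ((D : ℤ) : ℂ) * (1 + ((D : ℤ) : ℂ)) ≠ 0 := by exact_mod_cast hD01
    rw [div_eq_div_iff hG0 hD0] at h2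
    push_cast [hC, hCy, hD] at h2 ⊢
    linear_combination h2
  have h3 : C * Cy * (k : ℤ) = n * ((D - U) * (D - V)) := by
    refine mul_left_cancel₀ hD01 ?_
    calc D * (1 + D) * (C * Cy * (k : ℤ)) = C * Cy * (k : ℤ) * (D * (1 + D)) := by ring
      _ = _ := by rw [h2Z, hG]; ring
  have hdvd : Cy ∣ n * (D - V) := by
    rcases sq_eq_sq_iff_eq_or_eq_neg.1 hsq with e | e
    · refine ⟨(k : ℤ), mul_left_cancel₀ (a := C) ?_ ?_⟩
      · rw [hC]; exact (Int.natCast_pos.2 Nat.card_pos).ne'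
      · calc C * (n * (D - V)) = n * ((D - U) * (D - V)) := by rw [e]; ring
          _ = _ := by rw [← h3]; ring
    · refine ⟨-(k : ℤ), mul_left_cancel₀ (a := C) ?_ ?_⟩
      · rw [hC]; exact (Int.natCast_pos.2 Nat.card_pos).ne'
      · calc C * (n * (D - V)) = -(n * ((D - U) * (D - V))) := by rw [e]; ring
          _ = _ := by rw [← h3]; ring
  refine IsCoprime.dvd_of_dvd_mul_left ?_ hdvd
  exact Nat.isCoprime_iff_coprime.2 ((c.coprime_cent hy).coprime_dvd_right (Dvd.intro _ rfl))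

/-- Four pairwise non-conjugate elements outside. -/
theorem five_le (c : Ctx A₁ A₂ A₃) (S : Finset G) (hS : ∀ g ∈ S, Outside A₁ A₂ A₃ g)
    (hord : ∀ g ∈ S, ∀ g' ∈ S, orderOf g = orderOf g' → g = g') :
    1 + Nat.card (Orb A₁) + Nat.card (Orb A₂) + Nat.card (Orb A₃) + S.card ≤
      Nat.card (ConjClasses G) :=
  c.card_classes_ge S hS fun g hg g' hg' h => hord g hg g' hg' (by
    obtain ⟨x, rfl⟩ := isConj_iff.1 h
    exact ((MulAut.conj x).orderOf_eq g).symm)

/-- A prime of the order of a subgroup does not divide its index. -/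
theorem not_dvd_of_mul_dvd {A : Subgroup G} {e : ℕ} (h : SSC A e) {q : ℕ} (hq : q.Prime)
    (hd : (q : ℤ) * (Nat.card A : ℤ) ∣ (Nat.card G : ℤ)) : ¬ q ∣ Nat.card A := by
  intro hqA
  have h1 : q * Nat.card A ∣ Nat.card G := by exact_mod_cast hd
  rw [← A.card_mul_index, mul_comm q] at h1
  exact Nat.not_coprime_of_dvd_of_dvd hq.one_lt hqA
    (Nat.dvd_of_mul_dvd_mul_left Nat.card_pos h1) h.coprime_index

theorem four_elts {α : Type*} [DecidableEq α] {f : α → ℕ} {a b x y : α}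
    (h1 : f a ≠ f b) (h2 : f a ≠ f x) (h3 : f a ≠ f y) (h4 : f b ≠ f x) (h5 : f b ≠ f y)
    (h6 : f x ≠ f y) :
    ({a, b, x, y} : Finset α).card = 4 ∧
      ∀ g ∈ ({a, b, x, y} : Finset α), ∀ g' ∈ ({a, b, x, y} : Finset α), f g = f g' → g = g' := by
  constructor
  · rw [card_insert_of_notMem, card_insert_of_notMem, card_pair (fun e => h6 (congrArg f e))]
    · simp only [mem_insert, mem_singleton, not_or]
      exact ⟨fun e => h4 (congrArg f e), fun e => h5 (congrArg f e)⟩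
    · simp only [mem_insert, mem_singleton, not_or]
      exact ⟨fun e => h1 (congrArg f e), fun e => h2 (congrArg f e), fun e => h3 (congrArg f e)⟩
  · intro g hg g' hg' he
    simp only [mem_insert, mem_singleton] at hg hg'
    rcases hg with rfl | rfl | rfl | rfl <;> rcases hg' with rfl | rfl | rfl | rfl <;>
      first | rfl | (exfalso; omega)

set_option maxHeartbeats 1000000 in
/-- Centralisers of involutions are `2`-groups. -/
theorem isCIT [IsSimpleGroup G] (c : Ctx A₁ A₂ A₃) : CIT21.IsCIT G := by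
  classical
  letI : Fintype G := Fintype.ofFinite _
  intro t ht
  obtain ⟨f, hf⟩ := c.s2.exists_order_four rfl
  by_contra hnot
  obtain ⟨r, hr, hrd, hr2⟩ : ∃ r : ℕ, r.Prime ∧
      r ∣ Nat.card (Subgroup.centralizer ({t} : Set G)) ∧ r ≠ 2 := by
    by_contra hcon
    push Not at hcon
    obtain ⟨k, hk⟩ : ∃ k, Nat.card (Subgroup.centralizer ({t} : Set G)) = 2 ^ k :=
      ⟨_, Nat.eq_prime_pow_of_unique_prime_dvd Nat.card_pos.ne' fun hd hdd => hcon _ hd hdd⟩
    exact hnot (IsPGroup.of_card hk)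
  haveI := Fact.mk hr
  obtain ⟨⟨y, hyC⟩, hy⟩ := exists_prime_orderOf_dvd_card'
    (G := Subgroup.centralizer ({t} : Set G)) r hrd
  rw [← Subgroup.orderOf_coe] at hy
  change orderOf y = r at hy
  have hyt : y * t = t * y := Subgroup.mem_centralizer_singleton_iff.1 hyC
  have hr3 : 3 ≤ r := by have := hr.two_le; omega
  have hy1 : y ≠ 1 := fun e => by rw [e, orderOf_one] at hy; omega
  have ht1 : t ≠ 1 := fun e => by rw [e, orderOf_one] at ht; omega
  have hf1 : f ≠ 1 := fun e => by rw [e, orderOf_one] at hf; omega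
  have htC : t ∈ Subgroup.centralizer ({y} : Set G) :=
    Subgroup.mem_centralizer_singleton_iff.2 hyt.symm
  have h2C : 2 ∣ Nat.card (Subgroup.centralizer ({y} : Set G)) :=
    ht ▸ Subgroup.orderOf_dvd_natCard _ htC
  have hyO : Outside A₁ A₂ A₃ y := ⟨hy1, c.even_not_inA h2C⟩
  have hty : orderOf (t * y) = 2 * r := by
    rw [Commute.orderOf_mul_eq_mul_orderOf_of_coprime hyt.symm, ht, hy]
    rw [ht, hy]
    exact (Nat.coprime_primes Nat.prime_two hr).2 (Ne.symm hr2)
  have hty1 : t * y ≠ 1 := fun e => by rw [e, orderOf_one] at hty; omega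
  obtain ⟨hcard, hinj⟩ := four_elts (f := orderOf) (a := t) (b := f) (x := y) (y := t * y)
    (by omega) (by omega) (by omega) (by rw [hf, hy]; intro e; subst e; norm_num at hr)
    (by rw [hf, hty]; omega) (by omega)
  have hS : ∀ g ∈ ({t, f, y, t * y} : Finset G), Outside A₁ A₂ A₃ g := by
    intro g hg
    simp only [mem_insert, mem_singleton] at hg
    rcases hg with rfl | rfl | rfl | rfl
    · exact c.outside_of_even ht1 (ht ▸ dvd_rfl)
    · exact c.outside_of_even hf1 (hf ▸ ⟨2, rfl⟩)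
    · exact hyO
    · exact c.outside_of_even hty1 (hty ▸ Dvd.intro _ rfl)
  rcases dichotomy c with hF | ⟨j, δ, ε, X, w, ⟨hk, hG, hM, hsq⟩, -⟩
  · have h := five_le c _ hS hinj
    rw [hcard] at h
    unfold Few at hF
    omega
  -- every prime of `D (1 + D)` outside is `2` or `r`
  set D : ℤ := δ * deg j with hD
  set n : ℤ := (Nat.card A₁ : ℤ) with hn
  set M : ℤ := (Nat.card A₂ : ℤ) * (Nat.card A₃ : ℤ) with hMdef
  obtain ⟨u, hu⟩ := hM
  obtain ⟨t₁, ht₁, htA₁, hti₁⟩ := c.s1.exists_inverting ⟨1, rfl⟩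
  have hprimes : ∀ q : ℕ, q.Prime → q ∣ Nat.card G → ¬ q ∣ Nat.card A₁ * (Nat.card A₂ * Nat.card A₃) →
      q = 2 ∨ q = r := by
    intro q hq hqG hqn
    by_contra hne
    push Not at hne
    haveI := Fact.mk hq
    obtain ⟨z, hz⟩ := exists_prime_orderOf_dvd_card' (G := G) q hqG
    have hz1 : z ≠ 1 := fun e => by rw [e, orderOf_one] at hz; exact hq.one_lt.ne hz
    have hzdvd : ∀ (A : Subgroup G) (e : ℕ), SSC A e → InA A z → q ∣ Nat.card A := by
      intro A e h hzA
      rw [← h.card_centralizer_inA hzA, ← hz]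
      exact Subgroup.orderOf_dvd_natCard _ (Subgroup.mem_centralizer_singleton_iff.2 rfl)
    have hzO : Outside A₁ A₂ A₃ z := ⟨hz1,
      fun h => hqn ((hzdvd _ _ c.s1 h).mul_right _),
      fun h => hqn (((hzdvd _ _ c.s2 h).mul_right _).mul_left _),
      fun h => hqn (((hzdvd _ _ c.s3 h).mul_left _).mul_left _)⟩
    have hne4 : q ≠ 4 := fun e => by rw [e] at hq; norm_num at hq
    have hne2r : q ≠ 2 * r := fun e => by
      rw [e] at hq
      exact Nat.not_prime_mul (by norm_num) (by omega) hq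
    have hnot : z ∉ ({t, f, y, t * y} : Finset G) := by
      simp only [mem_insert, mem_singleton, not_or]
      refine ⟨?_, ?_, ?_, ?_⟩ <;> intro e <;> rw [e] at hz <;> omega
    have h := five_le c (insert z {t, f, y, t * y}) (by
      intro g hg
      rcases mem_insert.1 hg with rfl | hg
      · exact hzO
      · exact hS g hg) (by
      intro g hg g' hg' he
      rcases mem_insert.1 hg with rfl | h1 <;> rcases mem_insert.1 hg' with rfl | h2
      · rfl
      · exfalso
        simp only [mem_insert, mem_singleton] at h2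
        rcases h2 with e | e | e | e <;> rw [e] at he <;> omega
      · exfalso
        simp only [mem_insert, mem_singleton] at h1
        rcases h1 with e | e | e | e <;> rw [e] at he <;> omega
      · exact hinj g h1 g' h2 he)
    rw [card_insert_of_notMem hnot, hcard] at h
    omega
  have hn0 : 0 < n := Int.natCast_pos.2 Nat.card_pos
  have hM0 : 81 ≤ M := by
    have := c.mod2.2; have := c.mod3.2
    rw [hMdef]
    have h2 : (9 : ℤ) ≤ (Nat.card A₂ : ℤ) := by exact_mod_cast c.mod2.2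
    have h3 : (9 : ℤ) ≤ (Nat.card A₃ : ℤ) := by exact_mod_cast c.mod3.2
    nlinarith
  have hrP : ¬ r ∣ Nat.card A₁ * (Nat.card A₂ * Nat.card A₃) := fun hd => by
    have h1 : r ∣ Nat.card (Subgroup.centralizer ({y} : Set G)) :=
      hy ▸ Subgroup.orderOf_dvd_natCard _ (Subgroup.mem_centralizer_singleton_iff.2 rfl)
    exact Nat.not_coprime_of_dvd_of_dvd hr.one_lt h1 hd (c.coprime_cent hyO)
  have hrG : r ∣ Nat.card G := hy ▸ orderOf_dvd_natCard y
  have hrI : Prime (r : ℤ) := Nat.prime_iff_prime_int.1 hr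
  have hrn : ¬ (r : ℤ) ∣ n := fun h => hrP ((Int.natCast_dvd_natCast.1 h).mul_right _)
  have hrD : (r : ℤ) ∣ D * (1 + D) := by
    have h1 : (r : ℤ) ∣ n * (D * (1 + D)) := hG ▸ Int.natCast_dvd_natCast.2 hrG
    exact (hrI.dvd_mul.1 h1).resolve_left hrn
  have hD0 : D ≠ 0 ∧ 1 + D ≠ 0 := mul_ne_zero_iff.1 (by
    intro e
    rw [e, mul_zero] at hG
    exact (Nat.card_pos (α := G)).ne' (by exact_mod_cast hG))
  have hpart : ∀ v : ℤ, ¬ (r : ℤ) ∣ v → ∀ (w' : ℤ), v * w' = D * (1 + D) →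
      ∀ a : ℕ, r ^ a ∣ Nat.card G → (r : ℤ) ^ a ∣ w' := by
    intro v hv w' hvw a ha
    have h1 : ((r ^ a : ℕ) : ℤ) ∣ (Nat.card G : ℤ) := Int.natCast_dvd_natCast.2 ha
    rw [hG, ← hvw, ← mul_assoc] at h1
    push_cast at h1
    refine IsCoprime.dvd_of_dvd_mul_left (IsCoprime.pow_left ?_) h1
    exact (hrI.coprime_iff_not_dvd).2 fun h => (hrI.dvd_mul.1 h).elim hrn hv
  have hunit : ∀ v : ℤ, v ≠ 0 → ¬ (2 : ℤ) ∣ v → ¬ (r : ℤ) ∣ v → v ∣ D * (1 + D) →
      IsCoprime v n → IsCoprime v M → v = 1 ∨ v = -1 := by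
    intro v hv h2 h3 hvd hvn hvM
    by_contra hcon
    have h1 : v.natAbs ≠ 1 := fun e => hcon (Int.natAbs_eq_natAbs_iff.1 (e.trans rfl : v.natAbs = (1 : ℤ).natAbs))
    obtain ⟨q, hq, hqv⟩ := Nat.exists_prime_and_dvd h1
    have hqv' : (q : ℤ) ∣ v := Int.natCast_dvd.2 hqv
    have hqG : q ∣ Nat.card G := Int.natCast_dvd_natCast.1 (hG ▸ (hqv'.trans hvd).mul_left n)
    have hqI : Prime (q : ℤ) := Nat.prime_iff_prime_int.1 hq
    rcases hprimes q hq hqG (fun hd => by
      have h4 : (q : ℤ) ∣ n * M := by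
        have h5 := Int.natCast_dvd_natCast.2 hd
        push_cast at h5
        rw [hn, hMdef]; exact h5
      rcases hqI.dvd_mul.1 h4 with h6 | h6
      · exact hqI.not_isUnit (hvn.isUnit_of_dvd' hqv' h6)
      · exact hqI.not_isUnit (hvM.isUnit_of_dvd' hqv' h6)) with rfl | rfl
    · exact h2 hqv'
    · exact h3 hqv'
  have hCy2 : (2 : ℤ) ∣ (Nat.card (Subgroup.centralizer ({y} : Set G)) : ℤ) :=
    Int.natCast_dvd_natCast.2 h2C
  have hDn : IsCoprime D n := by
    obtain ⟨q, hq⟩ := dvd_deg c.s1 w.cj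
    refine ⟨1, -(δ * q), ?_⟩
    rw [hD, show deg j = δ + n * q by rw [hn]; omega]
    linear_combination w.δ_sq
  rcases hrI.dvd_mul.1 hrD with hrd | hrd
  · have hrd1 : ¬ (r : ℤ) ∣ 1 + D := fun h =>
      hrI.not_isUnit (isUnit_of_dvd_one (by simpa using dvd_sub h hrd))
    have hvan : (j : G → ℂ) y = 0 := vanish_singular hr (fun a ha => by
      have h1 := hpart (1 + D) hrd1 D (by ring) a ha
      rw [hD] at h1
      rcases w.hδ with e | e <;> rw [e] at h1
      · rwa [one_mul] at h1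
      · rwa [neg_one_mul, dvd_neg] at h1) (hy ▸ dvd_rfl)
    have hdvd := w.dvd_of_value c hG ht₁ htA₁ hti₁ hyO (V := 0) (by rw [hvan]; simp)
    rw [sub_zero, ← hD] at hdvd
    have h2D : (2 : ℤ) ∣ D := hCy2.trans hdvd
    have hu1 : u = 1 ∨ u = -1 := by
      refine hunit u ?_ ?_ ?_ ?_ ?_ ?_
      · rintro rfl; rw [mul_zero] at hu; exact hD0.2 hu
      · intro h
        have : (2 : ℤ) ∣ 1 + D := hu ▸ h.mul_left M
        omega
      · intro h; exact hrd1 (hu ▸ h.mul_left M)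
      · exact (hu ▸ dvd_mul_left u M : u ∣ 1 + D).mul_left D
      · have h5 : IsCoprime (1 + D) n := by
          obtain ⟨q, hq⟩ := dvd_deg c.s1 w.cj
          obtain ⟨k, hk'⟩ := c.odd1
          refine ⟨-(k : ℤ), 1 + (δ * q) * (k : ℤ), ?_⟩
          have hnk : n = 2 * (k : ℤ) + 1 := by rw [hn, hk']; push_cast; ring
          have hDq : D = 1 + n * (δ * q) := by
            rw [hD, show deg j = δ + n * q by rw [hn]; omega]; linear_combination w.δ_sq
          rw [hDq, hnk]; ring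
        exact h5.of_isCoprime_of_dvd_left (hu ▸ dvd_mul_left u M)
      · by_contra hc
        rw [Int.isCoprime_iff_gcd_eq_one] at hc
        obtain ⟨q, hq, hqd⟩ := Nat.exists_prime_and_dvd hc
        have hqu : (q : ℤ) ∣ u := (Int.natCast_dvd_natCast.2 hqd).trans (Int.gcd_dvd_left _ _)
        have hqM : q ∣ Nat.card A₂ * Nat.card A₃ := by
          have h5 := (Int.natCast_dvd_natCast.2 hqd).trans (Int.gcd_dvd_right u M)
          rw [hMdef] at h5
          exact_mod_cast h5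
        have h1G : (1 + D) ∣ (Nat.card G : ℤ) := ⟨n * D, by rw [hG]; ring⟩
        rcases (Nat.Prime.dvd_mul hq).1 hqM with h6 | h6
        · refine not_dvd_of_mul_dvd c.s2 hq ?_ h6
          refine (mul_dvd_mul hqu (Dvd.intro (Nat.card A₃ : ℤ) rfl)).trans ?_
          rw [mul_comm, ← hMdef, ← hu]; exact h1G
        · refine not_dvd_of_mul_dvd c.s3 hq ?_ h6
          refine (mul_dvd_mul hqu (Dvd.intro_left (Nat.card A₂ : ℤ) rfl)).trans ?_
          rw [mul_comm, ← hMdef, ← hu]; exact h1G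
    have hle : n * M * (n * M) ≤ (Nat.card G : ℤ) := by
      rw [← sq, hn, hMdef]; exact hsq
    rw [hG] at hle
    have hbnd : D * (1 + D) ≤ (M + 1) * M := by
      rcases hu1 with e | e <;> rw [e] at hu <;> nlinarith
    have hn5 : 5 ≤ n := by rw [hn]; exact_mod_cast c.b1
    have h1 : M + 1 < n * M := by nlinarith
    have h2 := mul_lt_mul_of_pos_left h1 (mul_pos hn0 (by linarith : (0 : ℤ) < M))
    have h3 := hle.trans (mul_le_mul_of_nonneg_left hbnd hn0.le)
    linarith [show n * M * (M + 1) = n * ((M + 1) * M) by ring]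
  · have hrd0 : ¬ (r : ℤ) ∣ D := fun h =>
      hrI.not_isUnit (isUnit_of_dvd_one (by simpa using dvd_sub hrd h))
    obtain ⟨o⟩ : Nonempty (Orb A₁) := (Nat.card_pos_iff.1 (by have := c.m1; omega)).1
    have hvan : (X o : G → ℂ) y = 0 := vanish_singular hr (fun a ha => by
      have h1 := hpart D hrd0 (1 + D) rfl a ha
      rw [hD, ← w.degX o] at h1
      rcases w.hε with e | e <;> rw [e] at h1
      · rwa [one_mul] at h1
      · rwa [neg_one_mul, dvd_neg] at h1) (hy ▸ dvd_rfl)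
    have hV : (δ : ℂ) * (j : G → ℂ) y = ((-1 : ℤ) : ℂ) := by
      have h1 := w.value_X c.s1 o hyO.2.1
      rw [hvan] at h1
      have hε0 : (ε : ℂ) ≠ 0 := by rcases w.hε with e | e <;> rw [e] <;> norm_num
      have h3 := (mul_eq_zero.1 h1.symm).resolve_left hε0
      push_cast
      linear_combination h3
    have hdvd := w.dvd_of_value c hG ht₁ htA₁ hti₁ hyO hV
    have h21 : (2 : ℤ) ∣ 1 + D := by
      have := hCy2.trans hdvd
      rwa [show δ * deg j - -1 = 1 + D by rw [hD]; ring] at this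
    have hD1 : D = 1 ∨ D = -1 := by
      refine hunit D hD0.1 (fun h => by omega) hrd0 (Dvd.intro _ rfl) hDn ?_
      exact ⟨-1, u, by linear_combination -hu⟩
    rcases hD1 with e | e
    · rw [e] at hu
      have h4 : M ∣ 2 := ⟨u, by linarith⟩
      have := Int.le_of_dvd (by norm_num) h4
      omega
    · exact hD0.2 (by omega)

end Cfsg.Agent.ThreeSSC77
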