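import Mathlib
import Cfsg.Agent.Lib.ThreeSSC77Main

/-!
# The elements of odd order outside the three subgroups
-/

set_option autoImplicit false

open scoped ComplexConjugate
open Finset

namespace Cfsg.Agent.ThreeSSC77

open CharBasic CharBasicOrth CharBasicDecomp

universe u

variable {G : Type u} [Group G] [Finite G] {A₁ A₂ A₃ : Subgroup G}

theorem isConj_orderOf {g g' : G} (h : IsConj g g') : orderOf g = orderOf g' := by
  obtain ⟨x, rfl⟩ := isConj_iff.1 h
  exact ((MulAut.conj x).orderOf_eq g).symm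

/-- With few classes, the non-trivial elements of odd order outside form one class. -/
theorem Few.odd_conj (hF : Few A₁ A₂ A₃) (c : Ctx A₁ A₂ A₃) {x y : G}
    (hx : Outside A₁ A₂ A₃ x) (hy : Outside A₁ A₂ A₃ y)
    (hxo : Odd (orderOf x)) (hyo : Odd (orderOf y)) : IsConj x y := by
  classical
  by_contra hxy
  obtain ⟨t, ht, -, -⟩ := c.s1.exists_inverting ⟨1, rfl⟩
  obtain ⟨f, hf⟩ := c.s2.exists_order_four rfl
  have ht1 : t ≠ 1 := fun e => by rw [e, orderOf_one] at ht; omega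
  have hf1 : f ≠ 1 := fun e => by rw [e, orderOf_one] at hf; omega
  have htO := c.outside_of_even ht1 (ht ▸ dvd_rfl)
  have hfO := c.outside_of_even hf1 (hf ▸ ⟨2, rfl⟩)
  rw [Nat.odd_iff] at hxo hyo
  have htf : t ≠ f := fun e => by rw [e, hf] at ht; omega
  have htx : t ≠ x := fun e => by rw [e] at ht; omega
  have hty : t ≠ y := fun e => by rw [e] at ht; omega
  have hfx : f ≠ x := fun e => by rw [e] at hf; omega
  have hfy : f ≠ y := fun e => by rw [e] at hf; omega
  have hxy' : x ≠ y := fun e => hxy (e ▸ IsConj.refl x)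
  have hcard : ({t, f, x, y} : Finset G).card = 4 := by
    rw [card_insert_of_notMem (by simp [htf, htx, hty]),
      card_insert_of_notMem (by simp [hfx, hfy]), card_pair hxy']
  have h := c.card_classes_ge {t, f, x, y} (by
    intro g hg
    simp only [mem_insert, mem_singleton] at hg
    rcases hg with rfl | rfl | rfl | rfl
    · exact htO
    · exact hfO
    · exact hx
    · exact hy) (by
    intro g hg g' hg' hc
    have ho := isConj_orderOf hc
    simp only [mem_insert, mem_singleton] at hg hg'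
    rcases hg with rfl | rfl | rfl | rfl <;> rcases hg' with rfl | rfl | rfl | rfl <;>
      first | rfl | (exfalso; omega) | exact absurd hc hxy | exact absurd hc.symm hxy)
  rw [hcard] at h
  unfold Few at hF
  omega

/-- In the tight configuration the degree of the distinguished character is a power of two. -/
theorem One.tight_bound [Fintype G] [IsSimpleGroup G] {j : Cfsg.IrrCharacter G} {δ ε : ℤ}
    {X : Orb A₁ → Cfsg.IrrCharacter G} (w : One A₁ j δ ε X) (c : Ctx A₁ A₂ A₃)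
    (hT : Tight A₁ A₂ A₃ (δ * deg j)) (h2 : ∀ p, oc A₂ j p = -δ) {x : G}
    (hx : Outside A₁ A₂ A₃ x) (hxo : Odd (orderOf x)) :
    ∃ e : ℕ, 2 ^ e ∣ Nat.card G ∧
      Nat.card A₂ * Nat.card A₃ * orderOf x ≤ 2 ^ e + 1 := by
  classical
  obtain ⟨-, hG, hM, -⟩ := hT
  obtain ⟨t, ht, htA, hti⟩ := c.s1.exists_inverting ⟨1, rfl⟩
  obtain ⟨t', ht', htA', hti'⟩ := c.s2.exists_inverting ⟨2, rfl⟩
  obtain ⟨g, hg⟩ := isConj_iff.1 (w.isConj_inv c ht hti ht')
  obtain ⟨m, hm⟩ := value_at_inverting c.s2 ⟨2, rfl⟩ ht' htA' hti' h2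
  obtain ⟨n, ρ, -, hρc⟩ := j.2
  rw [← hg, ← hρc, Representation.char_conj, hρc] at hm
  obtain ⟨U, hU⟩ := w.value_t c ht htA hti
  have hδ := w.δ_sq
  -- the centraliser
  set C : ℕ := Nat.card (Subgroup.centralizer ({t} : Set G)) with hC
  obtain ⟨e, he⟩ := (isCIT c t ht).exists_card_eq
  have hCdvd : C ∣ Nat.card G := Subgroup.card_subgroup_dvd_card _
  refine ⟨e, he ▸ hCdvd, ?_⟩
  set d : ℤ := deg j with hd
  set n1 : ℤ := (Nat.card A₁ : ℤ) with hn1
  set n2 : ℤ := (Nat.card A₂ : ℤ) with hn2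
  set n3 : ℤ := (Nat.card A₃ : ℤ) with hn3
  -- `j t`
  have hjt : n2 * (d - δ * U) = (n2 - 1) * (d + δ) + 2 * n2 * (m : ℤ) := by
    refine Int.cast_injective (α := ℂ) ?_
    have h1 : ((δ * U : ℤ) : ℂ) = (j : G → ℂ) t := by
      push_cast
      rw [← hU, ← mul_assoc, show (δ : ℂ) * (δ : ℂ) = 1 by exact_mod_cast hδ, one_mul]
    push_cast [hn2, hd] at h1 hm ⊢
    linear_combination -(Nat.card A₂ : ℂ) * h1 - hm
  have hD01 : δ * d * (1 + δ * d) ≠ 0 := by
    intro e0
    rw [e0, mul_zero] at hG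
    exact (Nat.card_pos (α := G)).ne' (by exact_mod_cast hG)
  have hS0 : 0 < d + δ := by
    have hd0 := deg_pos j
    have hne : 1 + δ * d ≠ 0 := (mul_ne_zero_iff.1 hD01).2
    rcases w.hδ with e0 | e0 <;> rw [e0] at hne ⊢ <;> omega
  have hn2' : 9 ≤ n2 := by rw [hn2]; exact_mod_cast c.mod2.2
  have hn3' : 9 ≤ n3 := by rw [hn3]; exact_mod_cast c.mod3.2
  have hsq : (C : ℤ) ^ 2 = (d - δ * U) ^ 2 := by
    have h1 := w.inv_pairs c ht hti
    rw [hU] at h1
    have h1Z : n1 * (C : ℤ) ^ 2 * (δ * d * (1 + δ * d)) =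
        (Nat.card G : ℤ) * (δ * d - U) ^ 2 := by
      refine Int.cast_injective (α := ℂ) ?_
      push_cast [hn1, hC, hd] at h1 ⊢
      exact h1
    have hn1' : n1 ≠ 0 := by rw [hn1]; exact_mod_cast (Nat.card_pos (α := A₁)).ne'
    refine mul_left_cancel₀ (mul_ne_zero hn1' hD01) ?_
    calc n1 * (δ * d * (1 + δ * d)) * (C : ℤ) ^ 2
        = n1 * (C : ℤ) ^ 2 * (δ * d * (1 + δ * d)) := by ring
      _ = n1 * (δ * d * (1 + δ * d)) * (δ * d - U) ^ 2 := by rw [h1Z, hG]
      _ = _ := by linear_combination n1 * (δ * d * (1 + δ * d)) * (d ^ 2 - U ^ 2) * hδ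
  have hCeq : (C : ℤ) = d - δ * U := by
    have hpos : 0 < d - δ * U := by
      have h3 : 0 < n2 * (d - δ * U) := by
        rw [hjt]
        have : 0 < (n2 - 1) * (d + δ) := mul_pos (by omega) hS0
        positivity
      exact (mul_pos_iff_of_pos_left (by omega)).1 h3
    rcases sq_eq_sq_iff_eq_or_eq_neg.1 hsq with e0 | e0
    · exact e0
    · have : (0 : ℤ) ≤ (C : ℤ) := Int.natCast_nonneg _
      omega
  have hbig : (n2 - 1) * (d + δ) ≤ n2 * (C : ℤ) := by
    rw [hCeq, hjt]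
    have : 0 ≤ 2 * n2 * (m : ℤ) := by positivity
    linarith
  -- the two factors
  obtain ⟨u, hu⟩ := hM
  have hu' : d + δ = n2 * n3 * (δ * u) := by linear_combination δ * hu - d * hδ
  have huv : 0 < δ * u := by
    rcases lt_or_ge 0 (δ * u) with h | h
    · exact h
    · exfalso; nlinarith [mul_pos (show (0 : ℤ) < n2 by omega) (show (0 : ℤ) < n3 by omega)]
  obtain ⟨dn, hdn⟩ := Int.eq_ofNat_of_zero_le (deg_pos j).le
  obtain ⟨v, hv⟩ := Int.eq_ofNat_of_zero_le huv.le
  have hGnat : Nat.card G = Nat.card A₁ * (dn * (Nat.card A₂ * Nat.card A₃ * v)) := by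
    have h1 : (Nat.card G : ℤ) = n1 * (d * (n2 * n3 * (δ * u))) := by
      rw [hG, ← hu']
      linear_combination n1 * d ^ 2 * hδ
    rw [hd, hdn, hv, hn1, hn2, hn3] at h1
    exact_mod_cast h1
  have hSnat : (dn : ℤ) + δ = ((Nat.card A₂ * Nat.card A₃ * v : ℕ) : ℤ) := by
    rw [← hdn, ← hd, hu', hv]; push_cast; rfl
  set M : ℕ := Nat.card A₂ * Nat.card A₃ with hMdef
  have hMo : Odd M := c.odd2.mul c.odd3
  have hv1 : 1 ≤ v := by omega
  have hM81 : 81 ≤ M := Nat.mul_le_mul c.mod2.2 c.mod3.2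
  have hbigN : (Nat.card A₂ - 1) * (M * v) ≤ Nat.card A₂ * C := by
    zify [show 1 ≤ Nat.card A₂ by have := c.mod2.2; omega]
    have h1 := hbig
    rw [hu', hv, hn2, hn3] at h1
    calc ((Nat.card A₂ : ℤ) - 1) * ((M : ℤ) * (v : ℤ))
        = ((Nat.card A₂ : ℤ) - 1) * ((Nat.card A₂ : ℤ) * (Nat.card A₃ : ℤ) * (v : ℤ)) := by
          rw [hMdef]; push_cast; ring
      _ ≤ _ := h1
  have h2C : 2 * C > M * v + 1 := by
    by_contra hcon
    push Not at hcon
    have h9 := c.mod2.2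
    have h10 : Nat.card A₂ * (2 * C) ≤ Nat.card A₂ * (M * v + 1) := Nat.mul_le_mul_left _ hcon
    obtain ⟨k, hk⟩ : ∃ k, Nat.card A₂ = k + 9 := ⟨_, (Nat.sub_add_cancel h9).symm⟩
    rw [hk] at hbigN h10
    rw [show k + 9 - 1 = k + 8 by omega] at hbigN
    have h11 : 81 ≤ M * v := le_trans hM81 (Nat.le_mul_of_pos_right M hv1)
    nlinarith
  have hcop : ∀ n, n ∣ Nat.card A₁ * (Nat.card A₂ * Nat.card A₃) → Nat.Coprime (orderOf x) n :=
    fun n hn => ((c.coprime_cent hx).coprime_dvd_left (Subgroup.orderOf_dvd_natCard _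
      (Subgroup.mem_centralizer_singleton_iff.2 rfl))).coprime_dvd_right hn
  have hC2 : ∀ k, Odd k → Nat.Coprime C k := fun k hk => by
    rw [hC, he]; exact ((Nat.coprime_two_left).2 hk).pow_left e
  have hCdv : C ∣ dn * (M * v) :=
    (hC2 _ c.odd1).dvd_of_dvd_mul_left (hGnat ▸ hCdvd)
  rcases Nat.even_or_odd dn with hev | hodd
  · have hSodd : Odd (M * v) := by
      rw [Nat.odd_iff]
      rw [Nat.even_iff] at hev
      rcases w.hδ with e0 | e0 <;> rw [e0] at hSnat <;> omega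
    have hCd : C ∣ dn := (hC2 _ hSodd).dvd_of_dvd_mul_right hCdv
    have hdnC : dn = C := by
      obtain ⟨q, rfl⟩ := hCd
      have hle : C * q ≤ M * v + 1 := by
        rcases w.hδ with e0 | e0 <;> rw [e0] at hSnat <;> omega
      have hq : q < 2 := Nat.lt_of_mul_lt_mul_left (a := C) (by omega)
      have h0 := deg_pos j
      rw [hdn] at h0
      rcases q with _ | _ | q
      · simp at h0
      · ring
      · omega
    have hxv : orderOf x ∣ v := by
      have h1 : orderOf x ∣ Nat.card A₁ * (C * (M * v)) := hdnC ▸ hGnat ▸ orderOf_dvd_natCard x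
      have h2 := (hcop _ (Dvd.intro _ rfl)).dvd_of_dvd_mul_left h1
      have hxC : Nat.Coprime (orderOf x) C := (hC2 _ hxo).symm
      exact (hcop _ (Dvd.intro_left _ rfl)).dvd_of_dvd_mul_left (hxC.dvd_of_dvd_mul_left h2)
    calc M * orderOf x ≤ M * v := Nat.mul_le_mul_left _ (Nat.le_of_dvd hv1 hxv)
      _ ≤ C + 1 := by rcases w.hδ with e0 | e0 <;> rw [e0] at hSnat <;> omega
      _ = 2 ^ e + 1 := by rw [hC, he]
  · exfalso
    have h1 : C ∣ M * v := (hC2 _ hodd).dvd_of_dvd_mul_left hCdv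
    have h2 : C ∣ v := (hC2 _ hMo).dvd_of_dvd_mul_left h1
    have h3 := Nat.le_of_dvd hv1 h2
    have h4 : 81 * v ≤ M * v := Nat.mul_le_mul_right v hM81
    omega

/-- The elements of odd order outside the three subgroups. -/
theorem odd_outside [IsSimpleGroup G] (c : Ctx A₁ A₂ A₃) {x : G}
    (hx : Outside A₁ A₂ A₃ x) (hxo : Odd (orderOf x)) :
    (∀ y : G, Outside A₁ A₂ A₃ y → Odd (orderOf y) → IsConj x y) ∨
      ∃ e : ℕ, 2 ^ e ∣ Nat.card G ∧
        Nat.card A₂ * Nat.card A₃ * orderOf x ≤ 2 ^ e + 1 := by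
  letI : Fintype G := Fintype.ofFinite G
  rcases dichotomy c with hF | ⟨j, δ, ε, X, w, hT, h2⟩
  · exact Or.inl fun y hy hyo => hF.odd_conj c hx hy hxo hyo
  · exact Or.inr (w.tight_bound c hT h2 hx hxo)

end Cfsg.Agent.ThreeSSC77
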