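import Mathlib
import Cfsg.Agent.Lib.ClassSizeGraph76
import Cfsg.Agent.Lib.CaminaSizes63Core
import Cfsg.Agent.Lib.TwoRegSizes38
import Cfsg.Agent.Lib.KegelWielandt
import Cfsg.Agent.Lib.AbelCent88Height
import Cfsg.Agent.Lib.CNBasic
import Cfsg.Agent.S0205

/-!
# Groups with few class sizes: counting and product lemmas

A covering count for two subgroups with proper normalisers, Burnside's transfer theorem in the
form `¬ p ∣ |G'|`, and solvability of products of nilpotent subgroups of coprime index.
-/

set_option autoImplicit false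
set_option linter.style.haveILetI false
set_option linter.unusedSectionVars false

namespace Cfsg.Agent.ThreeSizes56

open Cfsg.Agent.ClassSizeGraph76 (cs cls)
open Cfsg.Agent.TwoRegSizes38 (Cn IsPE mem_cn self_mem_cn)
open Subgroup (centralizer normalizer)
open scoped Pointwise

variable {G : Type*} [Group G]

theorem mem_cn_comm {a b : G} : a ∈ Cn b ↔ Commute a b := mem_cn

theorem cn_le_center {x : G} (h : x ∈ Subgroup.center G) (H : Subgroup G) : H ≤ Cn x := fun g _ =>
  mem_cn.2 (Subgroup.mem_center_iff.1 h g)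

theorem cn_inv (x : G) : Cn x⁻¹ = Cn x := by
  ext g
  exact ⟨fun h => mem_cn.2 (Commute.inv_right_iff.1 (mem_cn_comm.1 h)).eq,
    fun h => mem_cn.2 (mem_cn_comm.1 h).inv_right.eq⟩

theorem cn_le_pow (x : G) (k : ℕ) : Cn x ≤ Cn (x ^ k) := fun _ hg =>
  mem_cn.2 (Commute.pow_right (mem_cn.1 hg) k)

theorem conj_mem_cn_iff {g x y : G} : g * y * g⁻¹ ∈ Cn (g * x * g⁻¹) ↔ y ∈ Cn x :=
  TwoRegSizes38.conj_mem_cn g

theorem isPE_self_of_orderOf {p : ℕ} {x : G} (h : orderOf x = p) : IsPE p x :=
  ⟨1, by rw [h, pow_one]⟩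

variable [Finite G]

theorem cn_mul_le_left {p r : ℕ} (hp : p.Prime) (hr : r.Prime) (hne : p ≠ r) {a b : G}
    (ha : IsPE p a) (hb : IsPE r b) (h : b ∈ Cn a) : Cn (a * b) ≤ Cn a :=
  (CaminaSizes63.cn_mul_isPE hp hr hne ha hb h).le.trans inf_le_left

theorem cn_mul_le_right {p r : ℕ} (hp : p.Prime) (hr : r.Prime) (hne : p ≠ r) {a b : G}
    (ha : IsPE p a) (hb : IsPE r b) (h : b ∈ Cn a) : Cn (a * b) ≤ Cn b :=
  (CaminaSizes63.cn_mul_isPE hp hr hne ha hb h).le.trans inf_le_right

omit [Finite G] in
theorem dvd_card_of_isPE {p : ℕ} {x : G} (h : IsPE p x) (hx : x ≠ 1) : p ∣ Nat.card G := by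
  obtain ⟨j, hj⟩ := h
  have hj0 : j ≠ 0 := fun e => hx (orderOf_eq_one_iff.1 (by rw [hj, e, pow_zero]))
  exact (dvd_pow_self p hj0).trans (hj ▸ orderOf_dvd_natCard x)

/-- A central element of prime order in a non-trivial `p`-subgroup. -/
theorem exists_central {p : ℕ} [hp : Fact p.Prime] {P : Subgroup G} (hP : IsPGroup p P) (h : P ≠ ⊥) :
    ∃ z ∈ P, orderOf z = p ∧ P ≤ Cn z := by
  haveI : Nontrivial P := (Subgroup.nontrivial_iff_ne_bot P).2 h
  haveI := hP.center_nontrivial
  obtain ⟨i, hi⟩ := IsPGroup.iff_card.1 (hP.to_subgroup (Subgroup.center P))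
  have h1 : 1 < Nat.card (Subgroup.center P) := Finite.one_lt_card
  have hd : p ∣ Nat.card (Subgroup.center P) := by
    rw [hi] at h1 ⊢
    exact dvd_pow_self p (by rintro rfl; simp at h1)
  obtain ⟨c, hc⟩ := exists_prime_orderOf_dvd_card' p hd
  refine ⟨(c.1 : G), c.1.2, by rw [Subgroup.orderOf_coe, Subgroup.orderOf_coe]; exact hc, fun g hg => ?_⟩
  exact mem_cn.2 (congrArg Subtype.val (Subgroup.mem_center_iff.1 c.2 ⟨g, hg⟩))

/-- A central element of prime order in a Sylow subgroup. -/
theorem exists_sylow_central {p : ℕ} [hp : Fact p.Prime] (P : Sylow p G) (h : p ∣ Nat.card G) :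
    ∃ z ∈ (P : Subgroup G), orderOf z = p ∧ (P : Subgroup G) ≤ Cn z :=
  exists_central P.2 (fun e => by
    have := P.dvd_card_of_dvd_card h
    rw [e, Subgroup.card_bot] at this
    exact hp.out.ne_one (Nat.dvd_one.1 this))

theorem not_dvd_cs {p : ℕ} [Fact p.Prime] (P : Sylow p G) {z : G} (h : (P : Subgroup G) ≤ Cn z) :
    ¬ p ∣ cs z :=
  ClassSizeGraph76.not_dvd_index_of_sylow_le P h

/-- Coprime indices: every element is a product. -/
theorem exists_mul (A B : Subgroup G) (h : A.index.Coprime B.index) :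
    ∀ g : G, ∃ a ∈ A, ∃ b ∈ B, g = a * b := by
  have hi : (A ⊓ B).index = A.index * B.index :=
    le_antisymm Subgroup.index_inf_le
      (Nat.le_of_dvd (Nat.pos_of_ne_zero Subgroup.index_ne_zero_of_finite)
        (h.mul_dvd_of_dvd_of_dvd (Subgroup.index_dvd_of_le inf_le_left)
          (Subgroup.index_dvd_of_le inf_le_right)))
  have h1 := (A ⊓ B).card_mul_index
  rw [hi] at h1
  have h2 := A.card_mul_index
  have h3 := B.card_mul_index
  have h4 := KegelWielandt.card_set_mul A B
  have hI : 0 < Nat.card ↥(A ⊓ B) := Nat.card_pos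
  have key : Nat.card ((A : Set G) * (B : Set G) : Set G) = Nat.card G := by
    have hpos : 0 < A.index * B.index :=
      Nat.mul_pos (Nat.pos_of_ne_zero Subgroup.index_ne_zero_of_finite)
        (Nat.pos_of_ne_zero Subgroup.index_ne_zero_of_finite)
    apply Nat.eq_of_mul_eq_mul_right (Nat.mul_pos hI hpos)
    calc Nat.card ((A : Set G) * (B : Set G) : Set G) * (Nat.card ↥(A ⊓ B) * (A.index * B.index))
        = (Nat.card A * A.index) * (Nat.card B * B.index) := by rw [← mul_assoc, h4]; ring
      _ = Nat.card G * (Nat.card ↥(A ⊓ B) * (A.index * B.index)) := by rw [h1, h2, h3]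
  intro g
  have huniv : ((A : Set G) * (B : Set G) : Set G) = Set.univ := by
    apply Set.eq_of_subset_of_ncard_le (Set.subset_univ _) _ Set.finite_univ
    rw [Set.ncard_univ, ← key, Nat.card_coe_set_eq]
  obtain ⟨a, ha, b, hb, e⟩ := (Set.eq_univ_iff_forall.1 huniv g)
  exact ⟨a, ha, b, hb, e.symm⟩

/-- A group with nilpotent subgroups of coprime index is solvable. -/
theorem solvable_of_nilpotent_mul (A B : Subgroup G) (hA : Group.IsNilpotent A)
    (hB : Group.IsNilpotent B) (h : A.index.Coprime B.index) : Group.IsSolvable G :=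
  KegelWielandt.isSolvable_of_mul A B hA hB (exists_mul A B h)

omit [Finite G] in
theorem isNilpotent_of_le {A B : Subgroup G} (hB : Group.IsNilpotent B) (h : A ≤ B) :
    Group.IsNilpotent A := by
  haveI := hB
  exact CNBasic.isNilpotent_of_injective (Subgroup.inclusion h) (Subgroup.inclusion_injective h)

theorem isNilpotent_of_isPGroup {p : ℕ} [Fact p.Prime] {A : Subgroup G} (hA : IsPGroup p A) :
    Group.IsNilpotent A := hA.isNilpotent

/-- A normal subgroup each prime of which misses the index of one of two nilpotent subgroups is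
solvable. -/
theorem solvable_of_normal_cover (X A B : Subgroup G) [X.Normal] (hA : Group.IsNilpotent A)
    (hB : Group.IsNilpotent B)
    (h : ∀ r : ℕ, r.Prime → r ∣ Nat.card X → ¬ r ∣ A.index ∨ ¬ r ∣ B.index) :
    Group.IsSolvable X := by
  haveI := hA
  haveI := hB
  have hcop : (A.subgroupOf X).index.Coprime (B.subgroupOf X).index := by
    refine Nat.coprime_of_dvd fun r hr h1 h2 => ?_
    rcases h r hr (h1.trans (Subgroup.index_dvd_card _)) with e | e
    · exact e (h1.trans (ClassSizeGraph76.relIndex_dvd_index A X))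
    · exact e (h2.trans (ClassSizeGraph76.relIndex_dvd_index B X))
  refine solvable_of_nilpotent_mul _ _ ?_ ?_ hcop
  · exact CNBasic.isNilpotent_of_injective
      ({ toFun := fun x => ⟨(x.1 : G), x.2⟩, map_one' := rfl, map_mul' := fun _ _ => rfl } :
        A.subgroupOf X →* A) (fun x y e => by
        have h' := congrArg Subtype.val e
        exact Subtype.ext (Subtype.ext h'))
  · exact CNBasic.isNilpotent_of_injective
      ({ toFun := fun x => ⟨(x.1 : G), x.2⟩, map_one' := rfl, map_mul' := fun _ _ => rfl } :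
        B.subgroupOf X →* B) (fun x y e => by
        have h' := congrArg Subtype.val e
        exact Subtype.ext (Subtype.ext h'))

omit [Finite G] in
theorem solvable_of_commutator (h : Group.IsSolvable (commutator G)) : Group.IsSolvable G := by
  haveI := h
  exact Group.isSolvable_of_ker_le_range (commutator G).subtype (Abelianization.of (G := G))
    (by rw [Abelianization.ker_of, Subgroup.range_subtype])

/-- Burnside's transfer theorem. -/
theorem not_dvd_commutator {p : ℕ} [Fact p.Prime] (P : Sylow p G)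
    (hN : normalizer ((P : Subgroup G) : Set G) ≤ centralizer ((P : Subgroup G) : Set G)) :
    ¬ p ∣ Nat.card (commutator G) := by
  have hcomm : ∀ a b : (P : Subgroup G), a * b = b * a := fun a b =>
    Subtype.ext (Subgroup.mem_centralizer_iff.1 (hN (Subgroup.le_normalizer b.2)) a a.2)
  have hc := MonoidHom.ker_transferSylow_isComplement' P hN
  set f := MonoidHom.transferSylow P hN with hf
  have hle : commutator G ≤ f.ker := by
    rw [commutator_def, Subgroup.commutator_le]
    intro a _ b _
    rw [MonoidHom.mem_ker, map_commutatorElement, commutatorElement_eq_one_iff_mul_comm]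
    exact hcomm _ _
  intro hd
  have h1 : p ∣ Nat.card f.ker := hd.trans (Subgroup.card_dvd_of_le hle)
  rw [← hc.index_eq_card] at h1
  exact P.not_dvd_index h1

/-- If every Sylow `2`-normaliser centralises, the group is solvable. -/
theorem solvable_of_two (h : ¬ 2 ∣ Nat.card (commutator G)) : Group.IsSolvable G :=
  solvable_of_commutator (S0205.result (Nat.not_even_iff_odd.1 fun e => h (even_iff_two_dvd.1 e)))

/-- The non-identity elements with a conjugate in `H`. -/
def conjSet (H : Subgroup G) : Set G := {x | x ≠ 1 ∧ ∃ g : G, g * x * g⁻¹ ∈ H}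

theorem ncard_conjSet_le (H : Subgroup G) :
    (conjSet H).ncard ≤ (normalizer (H : Set G)).index * (Nat.card H - 1) := by
  classical
  have hsub : conjSet H ⊆ Set.range (fun z : (G ⧸ normalizer (H : Set G)) × {h : H // h ≠ 1} =>
      z.1.out * (z.2.1 : G) * z.1.out⁻¹) := by
    rintro x ⟨hx, k, hk⟩
    obtain ⟨n, hn⟩ := QuotientGroup.mk_out_eq_mul (normalizer (H : Set G)) k⁻¹
    set q : G ⧸ normalizer (H : Set G) := QuotientGroup.mk k⁻¹
    have hmem : q.out⁻¹ * x * q.out ∈ H := by
      rw [hn, show (k⁻¹ * (n : G))⁻¹ * x * (k⁻¹ * n) = (n : G)⁻¹ * (k * x * k⁻¹) * n by group]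
      exact (Subgroup.mem_normalizer_iff''.1 n.2 _).1 hk
    refine ⟨(q, ⟨⟨q.out⁻¹ * x * q.out, hmem⟩, fun e => hx ?_⟩), ?_⟩
    · have h1 : q.out⁻¹ * x * q.out = 1 := congrArg Subtype.val e
      calc x = q.out * (q.out⁻¹ * x * q.out) * q.out⁻¹ := by group
        _ = 1 := by rw [h1]; group
    · show q.out * (q.out⁻¹ * x * q.out) * q.out⁻¹ = x
      group
  refine (Set.ncard_le_ncard hsub).trans ?_
  rw [← Nat.card_coe_set_eq]
  refine (Finite.card_range_le _).trans ?_
  rw [Nat.card_prod, Subgroup.index_eq_card]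
  refine Nat.mul_le_mul_left _ (le_of_eq ?_)
  haveI := Fintype.ofFinite H
  rw [Nat.card_eq_fintype_card (α := {h : H // h ≠ 1}), Fintype.card_subtype_compl,
    Fintype.card_subtype_eq, ← Nat.card_eq_fintype_card]

theorem two_mul_card_le {H N : Subgroup G} (h : H < N) : 2 * Nat.card H ≤ Nat.card N := by
  obtain ⟨c, hc⟩ := Subgroup.card_dvd_of_le h.le
  rcases c with _ | _ | c
  · have : 0 < Nat.card N := Nat.card_pos
    simp at hc; omega
  · exact absurd (Subgroup.eq_of_le_of_card_ge h.le (by rw [hc]; simp)) h.ne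
  · rw [hc, mul_comm]; exact Nat.mul_le_mul_left _ (by omega)

/-- A group is not covered by the conjugates of two subgroups properly contained in their
normalisers. -/
theorem cover_false (H M : Subgroup G) (hH : H < normalizer (H : Set G))
    (hM : M < normalizer (M : Set G))
    (hcov : ∀ x : G, x ≠ 1 → x ∈ conjSet H ∨ x ∈ conjSet M) : False := by
  have e1 := ncard_conjSet_le H
  have e2 := ncard_conjSet_le M
  have f1 := two_mul_card_le hH
  have f2 := two_mul_card_le hM
  have g1 := (normalizer (H : Set G)).card_mul_index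
  have g2 := (normalizer (M : Set G)).card_mul_index
  have hcard : Nat.card G ≤ 1 + ((conjSet H).ncard + (conjSet M).ncard) := by
    have hsub : (Set.univ : Set G) ⊆ {1} ∪ (conjSet H ∪ conjSet M) := fun x _ => by
      by_cases hx : x = 1
      · exact Or.inl hx
      · exact Or.inr (hcov x hx)
    have := Set.ncard_le_ncard hsub
    rw [Set.ncard_univ] at this
    refine this.trans ((Set.ncard_union_le _ _).trans ?_)
    rw [Set.ncard_singleton]
    exact Nat.add_le_add_left (Set.ncard_union_le _ _) 1
  have i1 : 0 < (normalizer (H : Set G)).index := Nat.pos_of_ne_zero Subgroup.index_ne_zero_of_finite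
  have i2 : 0 < (normalizer (M : Set G)).index := Nat.pos_of_ne_zero Subgroup.index_ne_zero_of_finite
  have p1 : 0 < Nat.card H := Nat.card_pos
  have p2 : 0 < Nat.card M := Nat.card_pos
  have j1 : 2 * ((normalizer (H : Set G)).index * Nat.card H) ≤ Nat.card G := by
    rw [← g1, mul_comm (Nat.card (normalizer (H : Set G))), ← mul_assoc, mul_comm 2, mul_assoc]
    exact Nat.mul_le_mul_left _ f1
  have j2 : 2 * ((normalizer (M : Set G)).index * Nat.card M) ≤ Nat.card G := by
    rw [← g2, mul_comm (Nat.card (normalizer (M : Set G))), ← mul_assoc, mul_comm 2, mul_assoc]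
    exact Nat.mul_le_mul_left _ f2
  rw [Nat.mul_sub, mul_one] at e1 e2
  have k1 : (normalizer (H : Set G)).index ≤ (normalizer (H : Set G)).index * Nat.card H :=
    Nat.le_mul_of_pos_right _ p1
  have k2 : (normalizer (M : Set G)).index ≤ (normalizer (M : Set G)).index * Nat.card M :=
    Nat.le_mul_of_pos_right _ p2
  omega

end Cfsg.Agent.ThreeSizes56
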