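import Cfsg.Agent.Lib.ThreeSizes56Mix

/-!
# Three class sizes: the centralisers of elements of class size `a`

With two primes of `b / a` outside `H` these centralisers have centres containing elements of
every prime order dividing `b / a`, form one conjugacy class and are self-normalising.
-/

set_option autoImplicit false
set_option linter.style.haveILetI false
set_option linter.unusedSectionVars false

namespace Cfsg.Agent.ThreeSizes56

open Cfsg.Agent.ClassSizeGraph76 (cs cls)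
open Cfsg.Agent.TwoRegSizes38 (Cn IsPE mem_cn self_mem_cn)
open Cfsg.Agent.CaminaSizes63 (cs_eq_one_iff cs_dvd_of_le cn_eq_of_le mem_cn_symm)
open Subgroup (centralizer normalizer)

universe u

variable {G : Type u} [Group G] [Finite G] {a b c : ℕ}

theorem exists_sylowIn (C : Subgroup G) (r : ℕ) [hr : Fact r.Prime] :
    ∃ T : Subgroup G, T ≤ C ∧ IsPGroup r T ∧ ¬ r ∣ T.relIndex C ∧
      (r ∣ Nat.card C → T ≠ ⊥) := by
  obtain ⟨Q⟩ : Nonempty (Sylow r C) := inferInstance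
  refine ⟨(Q : Subgroup C).map C.subtype, Subgroup.map_subtype_le _, Q.2.map _, ?_, fun hd e => ?_⟩
  · rw [Subgroup.relIndex, Subgroup.subgroupOf,
      Subgroup.comap_map_eq_self_of_injective C.subtype_injective]
    exact Q.not_dvd_index
  · rw [Subgroup.map_eq_bot_iff_of_injective _ C.subtype_injective] at e
    have := Q.dvd_card_of_dvd_card hd
    rw [e, Subgroup.card_bot] at this
    exact hr.out.ne_one (Nat.dvd_one.1 this)

/-- A group all of whose prime power elements are central is nilpotent. -/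
theorem nilpotent_of_pe_central (C : Subgroup G)
    (h : ∀ (r : ℕ) (y : G), r.Prime → IsPE r y → y ∈ C → C ≤ Cn y) : Group.IsNilpotent C := by
  refine AbelCent88Height.isNilpotent_of_central (t := 0) fun s hs _ x hx =>
    Subgroup.mem_center_iff.2 fun g => Subtype.ext ?_
  obtain ⟨j, hj⟩ := hx
  exact mem_cn.1 (h s x hs ⟨j, by rw [Subgroup.orderOf_coe, hj]⟩ x.2 g.2)

namespace Mix

variable (D : Mix G a b c)
include D

theorem k_mul : a * (b / a) = b := Nat.mul_div_cancel' D.dvd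

theorem a_pos : 0 < a := zero_lt_one.trans D.one_lt_a

theorem index_inf_of_le {u : G} (hu : cs u = a) (X : Subgroup G) (hX : X ≤ Cn u)
    (h : X.index = b) : X.relIndex (Cn u) = b / a := by
  have h1 := Subgroup.relIndex_mul_index hX
  rw [show (Cn u).index = a from hu, h] at h1
  rw [← h1, Nat.mul_div_cancel _ D.a_pos]

theorem card_cn_b {X : Subgroup G} (h : X.index = b) {x : G} (hx : cs x = b) :
    Nat.card X = Nat.card (Cn x) := by
  have h1 := X.card_mul_index
  have h2 := (Cn x).card_mul_index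
  rw [h] at h1
  rw [show (Cn x).index = b from hx] at h2
  exact Nat.eq_of_mul_eq_mul_right (D.a_pos.trans D.lt) (h1.trans h2.symm)

theorem k_dvd_card {u : G} (hu : cs u = a) : b / a ∣ Nat.card (Cn u) := by
  obtain ⟨x, hx⟩ := D.exb
  have h : a * (b / a) ∣ a * Nat.card (Cn u) := by
    rw [D.k_mul, mul_comm, ← hu, Subgroup.card_mul_index, ← hx]
    exact Subgroup.index_dvd_card _
  exact Nat.dvd_of_mul_dvd_mul_left D.a_pos h

theorem inner {s r : ℕ} (hs : s.Prime) (hr : r.Prime) (hne : s ≠ r) {u y : G} (hu : IsPE s u)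
    (hua : cs u = a) (hy : IsPE r y) (hmem : y ∈ Cn u) :
    Cn u ≤ Cn y ∨ (Cn u ⊓ Cn y).index = b := by
  rw [← CaminaSizes63.cn_mul_isPE hs hr hne hu hy hmem]
  rcases D.above_a hua (cn_mul_le_left hs hr hne hu hy hmem) with e | e
  · exact Or.inl ((cn_eq_of_le (cn_mul_le_left hs hr hne hu hy hmem) (e.trans hua.symm)) ▸
      cn_mul_le_right hs hr hne hu hy hmem)
  · exact Or.inr e

theorem central_of_ne {s r : ℕ} (hs : s.Prime) (hr : r.Prime) (hne : s ≠ r) {u z : G}
    (hu : IsPE s u) (hua : cs u = a) (hrk : r ∣ b / a) {T : Subgroup G} (hTC : T ≤ Cn u)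
    (hT : IsPGroup r T) (hidx : ¬ r ∣ T.relIndex (Cn u)) (hz : z ∈ T) (hTz : T ≤ Cn z) :
    Cn u ≤ Cn z := by
  haveI := Fact.mk hr
  rcases D.inner hs hr hne hu hua (IsPE.of_mem_pgroup hT hz) (hTC hz) with h | h
  · exact h
  · exfalso
    refine hidx (hrk.trans ?_)
    rw [← D.index_inf_of_le hua _ inf_le_left h]
    exact Subgroup.relIndex_dvd_of_le_left _ (le_inf hTC hTz)

theorem eq_cn_of_central {u z : G} (hu : cs u = a) (hz : z ≠ 1) (h : Cn u ≤ Cn z) :
    Cn z = Cn u ∧ cs z = a := by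
  have := D.eq_a_of_dvd hz ((cs_dvd_of_le h).trans hu.dvd)
  exact ⟨(cn_eq_of_le h (hu.trans this.symm)).symm, this⟩

variable {p : ℕ} (hp : p.Prime) {v : G} (hv : IsPE p v) (hvc : cs v = c)
  (hns : ¬ Group.IsSolvable G)

include hp hv hvc hns in
theorem exists_k_prime_ne (r : ℕ) :
    ∃ s : ℕ, s.Prime ∧ s ≠ r ∧ s ∣ b / a ∧ ¬ s ∣ Nat.card (Cn v) := by
  obtain ⟨r1, r2, h1, h2, hne, hb1, hb2, hH1, hH2⟩ := D.exists_two_primes hp hv hvc hns
  have key : ∀ s : ℕ, s.Prime → s ∣ b → ¬ s ∣ Nat.card (Cn v) → s ∣ b / a := by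
    intro s hs hb hH
    rw [← D.k_mul] at hb
    exact (hs.dvd_mul.1 hb).resolve_left fun h => hH (h.trans (D.a_dvd_card hvc))
  by_cases e : r1 = r
  · exact ⟨r2, h2, fun e2 => hne (e.trans e2.symm), key r2 h2 hb2 hH2, hH2⟩
  · exact ⟨r1, h1, e, key r1 h1 hb1 hH1, hH1⟩

include hp hv hvc hns in
theorem central_sylowIn {s r : ℕ} (hs : s.Prime) (hr : r.Prime) {u z : G} (hu : IsPE s u)
    (hua : cs u = a) (hrk : r ∣ b / a) {T : Subgroup G} (hTC : T ≤ Cn u) (hT : IsPGroup r T)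
    (hidx : ¬ r ∣ T.relIndex (Cn u)) (hz : z ∈ T) (hTz : T ≤ Cn z) : Cn u ≤ Cn z := by
  by_cases hne : s = r
  · subst hne
    obtain ⟨t, ht, hts, htk, -⟩ := D.exists_k_prime_ne hp hv hvc hns s
    haveI := Fact.mk ht
    obtain ⟨T', hT'C, hT', hidx', hT'ne⟩ := exists_sylowIn (Cn u) t
    obtain ⟨w, hw, hwo, hwT⟩ := exists_central hT' (hT'ne (htk.trans (D.k_dvd_card hua)))
    have hw1 : w ≠ 1 := fun e => ht.ne_one (by rw [← hwo, e, orderOf_one])
    obtain ⟨he, hwa⟩ := D.eq_cn_of_central hua hw1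
      (D.central_of_ne hs ht hts.symm hu hua htk hT'C hT' hidx' hw hwT)
    rw [← he] at hTC hidx ⊢
    exact D.central_of_ne ht hr hts (isPE_self_of_orderOf hwo) hwa hrk hTC hT hidx hz hTz
  · exact D.central_of_ne hs hr hne hu hua hrk hTC hT hidx hz hTz

include hp hv hvc hns in
/-- Elements of each prime order dividing `b / a` have centraliser `C`. -/
theorem exists_center_elt {s r : ℕ} (hs : s.Prime) (hr : r.Prime) {u : G} (hu : IsPE s u)
    (hua : cs u = a) (hrk : r ∣ b / a) :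
    ∃ z : G, orderOf z = r ∧ cs z = a ∧ Cn z = Cn u ∧ z ∈ Cn u := by
  haveI := Fact.mk hr
  obtain ⟨T, hTC, hT, hidx, hTne⟩ := exists_sylowIn (Cn u) r
  obtain ⟨z, hz, hzo, hTz⟩ := exists_central hT (hTne (hrk.trans (D.k_dvd_card hua)))
  have hz1 : z ≠ 1 := fun e => hr.ne_one (by rw [← hzo, e, orderOf_one])
  obtain ⟨he, hza⟩ := D.eq_cn_of_central hua hz1
    (D.central_sylowIn hp hv hvc hns hs hr hu hua hrk hTC hT hidx hz hTz)
  exact ⟨z, hzo, hza, he, hTC hz⟩

include hp hv hvc hns in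
theorem not_c_in {s r : ℕ} (hs : s.Prime) (hr : r.Prime) {u y : G} (hu : IsPE s u)
    (hua : cs u = a) (hy : IsPE r y) (hmem : y ∈ Cn u) : cs y ≠ c := by
  intro hyc
  obtain ⟨t, ht, htr, htk, -⟩ := D.exists_k_prime_ne hp hv hvc hns r
  obtain ⟨z, hzo, hza, hze, hzm⟩ := D.exists_center_elt hp hv hvc hns hs ht hu hua htk
  have hz1 : z ≠ 1 := D.ne_one_a hza
  have := (D.comm_c hr ht htr.symm hy (isPE_self_of_orderOf hzo) hyc
    (mem_cn_symm (hze ▸ hmem)) hz1).2
  exact absurd (hza.symm.trans this ▸ dvd_rfl : a ∣ c) D.not_a_dvd_c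

include hp hv hvc hns in
theorem inner_all {s r : ℕ} (hs : s.Prime) (hr : r.Prime) {u y : G} (hu : IsPE s u)
    (hua : cs u = a) (hy : IsPE r y) (hmem : y ∈ Cn u) :
    Cn u ≤ Cn y ∨ (Cn u ⊓ Cn y).index = b := by
  obtain ⟨t, ht, htr, htk, -⟩ := D.exists_k_prime_ne hp hv hvc hns r
  obtain ⟨z, hzo, hza, hze, -⟩ := D.exists_center_elt hp hv hvc hns hs ht hu hua htk
  rw [← hze] at hmem ⊢
  exact D.inner ht hr htr (isPE_self_of_orderOf hzo) hza hy hmem

include hp hv hvc hns in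
theorem cn_le_of_b {s r : ℕ} (hs : s.Prime) (hr : r.Prime) {u y : G} (hu : IsPE s u)
    (hua : cs u = a) (hy : IsPE r y) (hmem : y ∈ Cn u) (hyb : cs y = b) : Cn y ≤ Cn u := by
  obtain ⟨t, ht, htr, htk, -⟩ := D.exists_k_prime_ne hp hv hvc hns r
  obtain ⟨z, hzo, hza, hze, -⟩ := D.exists_center_elt hp hv hvc hns hs ht hu hua htk
  rw [← hze] at hmem ⊢
  exact D.comm_b hr ht htr.symm hy (isPE_self_of_orderOf hzo) hyb (mem_cn_symm hmem)

include hp hv hvc hns in
theorem exists_noncentral {u : G} (hua : cs u = a) :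
    ∃ (r : ℕ) (y : G), r.Prime ∧ IsPE r y ∧ y ∈ Cn u ∧ ¬ Cn u ≤ Cn y := by
  by_contra hno
  push Not at hno
  refine hns (solvable_of_nilpotent_mul (Cn u) (Cn v)
    (nilpotent_of_pe_central _ fun r y hr hy hm => hno r y hr hy hm) (D.nilpotent_cn hp hv hvc) ?_)
  show (cs u).Coprime (cs v)
  rw [hua, hvc]
  exact D.cop

include hp hv hvc hns in
theorem dvd_card_of_b {r : ℕ} (hr : r.Prime) (hrk : r ∣ b / a) {x : G} (hx : cs x = b) :
    r ∣ Nat.card (Cn x) := by
  obtain ⟨g, hg⟩ := D.exa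
  obtain ⟨s, u, hs, hu, hua, -⟩ := D.exists_part_a hg
  obtain ⟨t, y, ht, hy, hym, hync⟩ := D.exists_noncentral hp hv hvc hns hua
  have hidx := (D.inner_all hp hv hvc hns hs ht hu hua hy hym).resolve_left hync
  obtain ⟨z, hzo, hza, hze, hzm⟩ := D.exists_center_elt hp hv hvc hns hs hr hu hua hrk
  rw [← D.card_cn_b hidx hx, ← hzo]
  exact Subgroup.orderOf_dvd_natCard _ ⟨hzm, mem_cn_symm (hze ▸ hym)⟩

include hp hv hvc hns in
/-- The centralisers of prime power elements of class size `a` are self-normalising. -/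
theorem normalizer_cn_eq {s : ℕ} (hs : s.Prime) {u : G} (hu : IsPE s u) (hua : cs u = a) :
    normalizer (Cn u : Set G) = Cn u := by
  obtain ⟨q, hq, -, hqk, hqH⟩ := D.exists_k_prime_ne hp hv hvc hns 0
  haveI := Fact.mk hq
  have hqa : ¬ q ∣ a := fun h => hqH (h.trans (D.a_dvd_card hvc))
  have hqb : q ∣ b := hqk.trans (Dvd.intro_left _ D.k_mul)
  have hQ : ∀ {t : ℕ} {w : G}, t.Prime → IsPE t w → cs w = a → ∀ Q : Sylow q G,
      (Q : Subgroup G) ≤ Cn w → ∀ z ∈ (Q : Subgroup G), z ≠ 1 → (Q : Subgroup G) ≤ Cn z →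
      Cn z = Cn w := by
    intro t w ht hw hwa Q hQw z hz hz1 hzQ
    refine (D.eq_cn_of_central hwa hz1 (D.central_sylowIn hp hv hvc hns ht hq hw hwa hqk hQw Q.2
      (fun h => Q.not_dvd_index (h.trans (Subgroup.relIndex_dvd_index_of_le hQw))) hz hzQ)).1
  obtain ⟨Q0, hQ0⟩ := ClassSizeGraph76.exists_sylow_le (H := Cn u) (show ¬ q ∣ cs u from hua ▸ hqa)
  obtain ⟨z0, hz0, hz0o, hQz0⟩ := exists_sylow_central Q0
    (hqb.trans (by obtain ⟨x, hx⟩ := D.exb; exact hx ▸ Subgroup.index_dvd_card _))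
  have hz01 : z0 ≠ 1 := fun e => hq.ne_one (by rw [← hz0o, e, orderOf_one])
  have hu0 := hQ hs hu hua Q0 hQ0 z0 hz0 hz01 hQz0
  -- every such centraliser is conjugate to `Cn u`
  have hconj : ∀ {t : ℕ} {w : G}, t.Prime → IsPE t w → cs w = a →
      ∀ x ∈ Cn w, ∃ g : G, g * x * g⁻¹ ∈ Cn u := by
    intro t w ht hw hwa x hx
    obtain ⟨Q, hQw⟩ := ClassSizeGraph76.exists_sylow_le (H := Cn w) (show ¬ q ∣ cs w from hwa ▸ hqa)
    obtain ⟨g, hg⟩ := MulAction.exists_smul_eq G Q0 Q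
    have hgQ : ∀ y, y ∈ (Q0 : Subgroup G) → g * y * g⁻¹ ∈ (Q : Subgroup G) := fun y hy => by
      rw [← hg, Sylow.coe_subgroup_smul]
      exact ⟨y, hy, rfl⟩
    have hz' : Cn (g * z0 * g⁻¹) = Cn w := hQ ht hw hwa Q hQw _ (hgQ z0 hz0)
      (fun e => hz01 (conj_eq_one_iff.1 e)) (fun y hy => by
        rw [← hg, Sylow.coe_subgroup_smul] at hy
        obtain ⟨y', hy', rfl⟩ := hy
        exact conj_mem_cn_iff.2 (hQz0 hy'))
    refine ⟨g⁻¹, ?_⟩
    rw [← hu0]
    rw [← hz'] at hx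
    have h2 := (conj_mem_cn_iff (g := g⁻¹) (x := g * z0 * g⁻¹) (y := x)).2 hx
    rwa [show g⁻¹ * (g * z0 * g⁻¹) * g⁻¹⁻¹ = z0 by group] at h2
  refine D.normalizer_eq_of_cover hp hv hvc hns (Cn u) fun x hx hxc => ⟨hx, ?_⟩
  rcases D.cases x hx with e | e | e
  · obtain ⟨t, w, ht, hw, hwa, hle⟩ := D.exists_part_a e
    exact hconj ht hw hwa x (hle (self_mem_cn x))
  · obtain ⟨T, hTx, hT, hidx, hTne⟩ := exists_sylowIn (Cn x) q
    obtain ⟨w, hw, hwo, hTw⟩ :=
      exists_central hT (hTne (D.dvd_card_of_b hp hv hvc hns hq hqk e))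
    have hw1 : w ≠ 1 := fun e => hq.ne_one (by rw [← hwo, e, orderOf_one])
    rcases D.cases w hw1 with ew | ew | ew
    · exact hconj hq (isPE_self_of_orderOf hwo) ew x (mem_cn_symm (hTx hw))
    · obtain ⟨S, hS⟩ := hT.exists_le_sylow
      obtain ⟨z, hz, hzo, hSz⟩ := exists_sylow_central S
        (hqb.trans (e ▸ Subgroup.index_dvd_card _))
      have hz1 : z ≠ 1 := fun e => hq.ne_one (by rw [← hzo, e, orderOf_one])
      have hzT : z ∈ T := by
        set X := (S : Subgroup G) ⊓ Cn w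
        have hTX : T ≤ X := le_inf hS hTw
        have hX : IsPGroup q X := S.2.to_le inf_le_left
        have hle : Nat.card X ≤ Nat.card T := by
          obtain ⟨i, hi⟩ := IsPGroup.iff_card.1 hX
          refine Nat.le_of_dvd Nat.card_pos ?_
          have h1 : Nat.card X ∣ Nat.card T * T.relIndex (Cn x) := by
            rw [HallCore.card_mul_relIndex hTx, D.card_cn_b (X := Cn x) e ew]
            exact Subgroup.card_dvd_of_le inf_le_right
          rw [hi] at h1 ⊢
          exact (((Nat.Prime.coprime_iff_not_dvd hq).2 hidx).pow_left i).dvd_of_dvd_mul_right h1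
        rw [Subgroup.eq_of_le_of_card_ge hTX hle]
        exact ⟨hz, mem_cn_symm (hSz (hS hw))⟩
      have hza : cs z = a := by
        rcases D.cases z hz1 with ez | ez | ez
        · exact ez
        · exact absurd (ez ▸ hqb) (not_dvd_cs S hSz)
        · exact absurd ez (D.not_type_c hp hv hvc hq hqH (isPE_self_of_orderOf hzo))
      exact hconj hq (isPE_self_of_orderOf hzo) hza x (mem_cn_symm (hTx hzT))
    · exact absurd ew (D.not_type_c hp hv hvc hq hqH (isPE_self_of_orderOf hwo))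
  · exact absurd e hxc

end Mix

end Cfsg.Agent.ThreeSizes56
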