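import Cfsg.Agent.Lib.ThreeSizes56Centre

/-!
# Three class sizes with both small sizes dividing the largest

If `a, c` are coprime, both divide `b ≠ a c` and `c < a`, the data `(c, b, a)` satisfies `Mix`.
-/

set_option autoImplicit false
set_option linter.style.haveILetI false
set_option linter.unusedSectionVars false

namespace Cfsg.Agent.ThreeSizes56

open Cfsg.Agent.ClassSizeGraph76 (cs cls)
open Cfsg.Agent.TwoRegSizes38 (Cn IsPE mem_cn self_mem_cn)
open Cfsg.Agent.CaminaSizes63 (cs_eq_one_iff cs_dvd_of_le cn_eq_of_le mem_cn_symm)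
open Subgroup (centralizer normalizer zpowers)

universe u

variable {G : Type u} [Group G] [Finite G] {a b c : ℕ}

/-- Sizes `a, c` coprime, both dividing `b ≠ a c`, with `c < a`. -/
structure Divide (G : Type u) [Group G] (a b c : ℕ) : Prop where
  noCenter : Subgroup.center G = ⊥
  one_lt_a : 1 < a
  one_lt_c : 1 < c
  cop : a.Coprime c
  dvda : a ∣ b
  dvdc : c ∣ b
  ne : b ≠ a * c
  lt : c < a
  cases : ∀ x : G, x ≠ 1 → cs x = a ∨ cs x = b ∨ cs x = c
  exa : ∃ x : G, cs x = a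
  exb : ∃ x : G, cs x = b
  exc : ∃ x : G, cs x = c

namespace Divide

variable (D : Divide G a b c)
include D

theorem b_pos : 0 < b := by
  obtain ⟨x, hx⟩ := D.exb
  exact hx ▸ ClassSizeGraph76.cs_pos x

theorem not_b_dvd : ¬ b ∣ a * c := fun h =>
  D.ne (Nat.dvd_antisymm h (D.cop.mul_dvd_of_dvd_of_dvd D.dvda D.dvdc))

theorem not_a_dvd_c : ¬ a ∣ c := fun h => D.one_lt_a.ne' (D.cop.eq_one_of_dvd h)

theorem not_c_dvd_a : ¬ c ∣ a := fun h => D.one_lt_c.ne' (D.cop.symm.eq_one_of_dvd h)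

theorem not_b_dvd_a : ¬ b ∣ a := fun h => D.not_b_dvd (h.mul_right c)

theorem not_b_dvd_c : ¬ b ∣ c := fun h => D.not_b_dvd (h.mul_left a)

theorem cs_ne_one {x : G} (hx : x ≠ 1) : cs x ≠ 1 := fun h => hx (by
  have := cs_eq_one_iff.1 h
  rwa [D.noCenter, Subgroup.mem_bot] at this)

theorem ne_one_of_le {x y : G} (h : Cn x ≤ Cn y) (hy : y ≠ 1) : x ≠ 1 := fun e => by
  refine D.cs_ne_one hy ?_
  have h1 := cs_dvd_of_le h
  rw [e, cs_eq_one_iff.2 (Subgroup.one_mem _)] at h1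
  exact Nat.dvd_one.1 h1

omit [Finite G] in
theorem ne_one_of_eq {x : G} (h : cs x = a ∨ cs x = c) : x ≠ 1 := by
  rcases h with h | h
  · exact fun e => D.one_lt_a.ne' (h.symm.trans (by rw [e, cs_eq_one_iff.2 (Subgroup.one_mem _)]))
  · exact fun e => D.one_lt_c.ne' (h.symm.trans (by rw [e, cs_eq_one_iff.2 (Subgroup.one_mem _)]))

theorem above_b {g y : G} (hy : cs y = b) (hy1 : y ≠ 1) (h : Cn g ≤ Cn y) : Cn g = Cn y := by
  have hd := cs_dvd_of_le h
  rw [hy] at hd
  rcases D.cases g (D.ne_one_of_le h hy1) with e | e | e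
  · exact absurd (e ▸ hd) D.not_b_dvd_a
  · exact cn_eq_of_le h (e.trans hy.symm)
  · exact absurd (e ▸ hd) D.not_b_dvd_c

theorem exists_part_a {g : G} (hg : cs g = a) :
    ∃ (p : ℕ) (x : G), p.Prime ∧ IsPE p x ∧ cs x = a ∧ Cn g ≤ Cn x := by
  obtain ⟨p, x, hp, hx, hx1, hle⟩ := Mix.exists_part (D.ne_one_of_eq (Or.inl hg))
  refine ⟨p, x, hp, hx, ?_, hle⟩
  have hd := cs_dvd_of_le hle
  rw [hg] at hd
  rcases D.cases x hx1 with e | e | e
  · exact e
  · exact absurd (e ▸ hd) D.not_b_dvd_a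
  · exact absurd (e ▸ hd) D.not_c_dvd_a

theorem exists_part_c :
    ∃ (p : ℕ) (x : G), p.Prime ∧ IsPE p x ∧ cs x = c := by
  obtain ⟨g, hg⟩ := D.exc
  obtain ⟨p, x, hp, hx, hx1, hle⟩ := Mix.exists_part (D.ne_one_of_eq (Or.inr hg))
  refine ⟨p, x, hp, hx, ?_⟩
  have hd := cs_dvd_of_le hle
  rw [hg] at hd
  rcases D.cases x hx1 with e | e | e
  · exact absurd (e ▸ hd) D.not_a_dvd_c
  · exact absurd (e ▸ hd) D.not_b_dvd_c
  · exact e

/-- The primes of the elements of class size `c` divide `a`. -/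
theorem prime_of_c {t : ℕ} (ht : t.Prime) {v : G} (hv : IsPE t v) (hvc : cs v = c) : t ∣ a := by
  by_contra hta
  obtain ⟨g, hg⟩ := D.exa
  have hY : ∀ w ∈ {w : G | cs w = c}, (cs g).Coprime (cs w) ∧ cs (g * w) ≤ cs g := by
    intro w hw
    have hw' : cs w = c := hw
    have hco : (cs g).Coprime (cs w) := by rw [hg, hw']; exact D.cop
    refine ⟨hco, ?_⟩
    have h1 := ClassSizeGraph76.cs_mul_dvd hco
    have h2 := ClassSizeGraph76.left_le_cs_mul hco
    rw [hg, hw'] at h1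
    rw [hg] at h2 ⊢
    have hne : g * w ≠ 1 := fun e => by
      rw [e, cs_eq_one_iff.2 (Subgroup.one_mem _)] at h2
      exact absurd h2 (not_le.2 D.one_lt_a)
    rcases D.cases _ hne with e | e | e
    · exact e.le
    · exact absurd (e ▸ h1) D.not_b_dvd
    · exact absurd (e ▸ h2) (not_le.2 D.lt)
  have hconj : ∀ y ∈ {w : G | cs w = c}, ∀ k : G, k * y * k⁻¹ ∈ {w : G | cs w = c} :=
    fun y hy k => (ClassSizeGraph76.cs_conj y k).trans hy
  have := ClassSizeGraph76.mem_center_of_pow hconj hY (Subgroup.subset_closure hvc)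
    (pow_orderOf_eq_one v) (by rw [hg]; exact hv.coprime ((Nat.Prime.coprime_iff_not_dvd ht).2 hta))
  rw [D.noCenter, Subgroup.mem_bot] at this
  exact D.ne_one_of_eq (Or.inr hvc) this

theorem not_dvd_both {r : ℕ} (hr : r.Prime) (h : r ∣ c) : ¬ r ∣ a := fun ha =>
  hr.ne_one (Nat.eq_one_of_dvd_coprimes D.cop ha h)

theorem exists_prime_c : ∃ r : ℕ, r.Prime ∧ r ∣ c := Nat.exists_prime_and_dvd D.one_lt_c.ne'

theorem central_a {r : ℕ} [hr : Fact r.Prime] (hrc : r ∣ c) (R : Sylow r G) {z : G} (hz1 : z ≠ 1)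
    (hRz : (R : Subgroup G) ≤ Cn z) : cs z = a := by
  have h := not_dvd_cs R hRz
  rcases D.cases z hz1 with e | e | e
  · exact e
  · exact absurd (e.symm ▸ hrc.trans D.dvdc) h
  · exact absurd (e.symm ▸ hrc) h

theorem nc_ne {s t : ℕ} (hs : s.Prime) (ht : t.Prime) (hne : s ≠ t) {u v : G} (hu : IsPE s u)
    (hv : IsPE t v) (hua : cs u = a) (hvc : cs v = c) (h : v ∈ Cn u) : False := by
  have h1 : (Cn (u * v)).index = a * c := by
    rw [CaminaSizes63.cn_mul_isPE hs ht hne hu hv h]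
    have hco : (cs u).Coprime (cs v) := by rw [hua, hvc]; exact D.cop
    rw [ClassSizeGraph76.index_inf_eq hco, hua, hvc]
  have hne1 : u * v ≠ 1 :=
    D.ne_one_of_le (cn_mul_le_left hs ht hne hu hv h) (D.ne_one_of_eq (Or.inl hua))
  rcases D.cases _ hne1 with e | e | e <;> rw [show cs (u * v) = a * c from h1] at e
  · exact D.one_lt_c.ne' (by
      conv_rhs at e => rw [← mul_one a]
      exact Nat.eq_of_mul_eq_mul_left (zero_lt_one.trans D.one_lt_a) e)
  · exact D.ne e.symm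
  · exact D.one_lt_a.ne' (by
      conv_rhs at e => rw [← one_mul c]
      exact Nat.eq_of_mul_eq_mul_right (zero_lt_one.trans D.one_lt_c) e)

/-- The primes of the elements of class size `a` do not divide `a`. -/
theorem prime_of_a {p : ℕ} (hp : p.Prime) {u : G} (hu : IsPE p u) (hua : cs u = a) : ¬ p ∣ a := by
  intro hpa
  haveI := Fact.mk hp
  obtain ⟨r, hr, hrc⟩ := D.exists_prime_c
  haveI := Fact.mk hr
  have hrp : p ≠ r := fun e => D.not_dvd_both hr hrc (e ▸ hpa)
  have hu1 := D.ne_one_of_eq (Or.inl hua)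
  obtain ⟨j, hj⟩ := hu
  obtain ⟨P, hP⟩ := (IsPGroup.of_card (n := j) (by rw [Nat.card_zpowers, hj]) :
    IsPGroup p (zpowers u)).exists_le_sylow
  obtain ⟨z, -, hzo, hPz⟩ := exists_sylow_central P (dvd_card_of_isPE ⟨j, hj⟩ hu1)
  have hz1 : z ≠ 1 := fun e => hp.ne_one (by rw [← hzo, e, orderOf_one])
  have hzc : cs z = c := by
    have h := not_dvd_cs P hPz
    rcases D.cases z hz1 with e | e | e
    · exact absurd (e.symm ▸ hpa) h
    · exact absurd (e.symm ▸ hpa.trans D.dvda) h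
    · exact e
  have hzu : z ∈ Cn u := mem_cn_symm (hPz (hP (Subgroup.mem_zpowers u)))
  obtain ⟨R, hR⟩ := ClassSizeGraph76.exists_sylow_le (H := Cn u)
    (show ¬ r ∣ cs u from hua ▸ D.not_dvd_both hr hrc)
  obtain ⟨w, hw, hwo, hRw⟩ := exists_sylow_central R (hrc.trans (hzc ▸ Subgroup.index_dvd_card _))
  have hw1 : w ≠ 1 := fun e => hr.ne_one (by rw [← hwo, e, orderOf_one])
  have hwp := isPE_self_of_orderOf hwo
  have hle := cn_mul_le_left hp hr hrp ⟨j, hj⟩ hwp (hR hw)
  have hRle : (R : Subgroup G) ≤ Cn (u * w) := by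
    rw [CaminaSizes63.cn_mul_isPE hp hr hrp ⟨j, hj⟩ hwp (hR hw)]
    exact le_inf hR hRw
  have huw := D.central_a hrc R (D.ne_one_of_le hle hu1) hRle
  have heq := cn_eq_of_le hle (huw.trans hua.symm)
  have hzw : z ∈ Cn w := cn_mul_le_right hp hr hrp ⟨j, hj⟩ hwp (hR hw) (heq.symm ▸ hzu)
  exact D.nc_ne hr hp hrp.symm hwp (isPE_self_of_orderOf hzo) (D.central_a hrc R hw1 hRw) hzc hzw

theorem nc {s t : ℕ} (hs : s.Prime) (ht : t.Prime) {u v : G} (hu : IsPE s u) (hv : IsPE t v)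
    (hua : cs u = a) (hvc : cs v = c) (h : v ∈ Cn u) : False :=
  D.nc_ne hs ht (fun e => D.prime_of_a hs hu hua (e ▸ D.prime_of_c ht hv hvc)) hu hv hua hvc h

theorem b_le {s t : ℕ} (hs : s.Prime) (ht : t.Prime) (hne : s ≠ t) {x y : G} (hx : IsPE s x)
    (hy : IsPE t y) (hxb : cs x = b) (hx1 : x ≠ 1) (h : y ∈ Cn x) : Cn x ≤ Cn y :=
  (D.above_b hxb hx1 (cn_mul_le_left hs ht hne hx hy h)) ▸ cn_mul_le_right hs ht hne hx hy h

/-- The centraliser of an element of class size `c` is a `π(a)`-group. -/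
theorem pi_cn {s t : ℕ} (hs : s.Prime) (hsa : ¬ s ∣ a) (ht : t.Prime) {v x : G} (hv : IsPE t v)
    (hvc : cs v = c) (hx : IsPE s x) (hmem : x ∈ Cn v) : x = 1 := by
  by_contra hx1
  haveI := Fact.mk hs
  haveI := Fact.mk ht
  have hst : s ≠ t := fun e => hsa (e ▸ D.prime_of_c ht hv hvc)
  rcases D.cases x hx1 with e | e | e
  · exact D.nc hs ht hx hv e hvc (mem_cn_symm hmem)
  swap
  · exact hsa (D.prime_of_c hs hx e)
  have hle := D.b_le hs ht hst hx hv e hx1 (mem_cn_symm hmem)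
  by_cases hsc : s ∣ c
  · obtain ⟨T, hTx, hT, hidx, hTne⟩ := exists_sylowIn (Cn x) s
    have hd : s ∣ Nat.card (Cn x) := by
      obtain ⟨j, hj⟩ := hx
      have hj0 : j ≠ 0 := fun e => hx1 (orderOf_eq_one_iff.1 (by rw [hj, e, pow_zero]))
      exact (dvd_pow_self s hj0).trans (hj ▸ Subgroup.orderOf_dvd_natCard _ (self_mem_cn x))
    obtain ⟨w, hw, hwo, hTw⟩ := exists_central hT (hTne hd)
    have hw1 : w ≠ 1 := fun e => hs.ne_one (by rw [← hwo, e, orderOf_one])
    have hwp := isPE_self_of_orderOf hwo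
    rcases D.cases w hw1 with ew | ew | ew
    · exact D.nc hs ht hwp hv ew hvc (mem_cn_symm (hle (hTx hw)))
    swap
    · exact hsa (D.prime_of_c hs hwp ew)
    obtain ⟨S, hS⟩ := hT.exists_le_sylow
    obtain ⟨z, hz, hzo, hSz⟩ := exists_sylow_central S (hd.trans (Subgroup.card_subgroup_dvd_card _))
    have hz1 : z ≠ 1 := fun e => hs.ne_one (by rw [← hzo, e, orderOf_one])
    have hzT : z ∈ T := by
      set X := (S : Subgroup G) ⊓ Cn w
      have hTX : T ≤ X := le_inf hS hTw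
      have hX : IsPGroup s X := S.2.to_le inf_le_left
      have hcard : Nat.card (Cn w) = Nat.card (Cn x) := by
        have e1 := (Cn w).card_mul_index
        have e2 := (Cn x).card_mul_index
        rw [show (Cn w).index = b from ew] at e1
        rw [show (Cn x).index = b from e] at e2
        exact Nat.eq_of_mul_eq_mul_right D.b_pos (e1.trans e2.symm)
      have hle' : Nat.card X ≤ Nat.card T := by
        obtain ⟨i, hi⟩ := IsPGroup.iff_card.1 hX
        refine Nat.le_of_dvd Nat.card_pos ?_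
        have h1 : Nat.card X ∣ Nat.card T * T.relIndex (Cn x) := by
          rw [HallCore.card_mul_relIndex hTx, ← hcard]
          exact Subgroup.card_dvd_of_le inf_le_right
        rw [hi] at h1 ⊢
        exact (((Nat.Prime.coprime_iff_not_dvd hs).2 hidx).pow_left i).dvd_of_dvd_mul_right h1
      rw [Subgroup.eq_of_le_of_card_ge hTX hle']
      exact ⟨hz, mem_cn_symm (hSz (hS hw))⟩
    exact D.nc hs ht (isPE_self_of_orderOf hzo) hv (D.central_a hsc S hz1 hSz) hvc
      (mem_cn_symm (hle (hTx hzT)))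
  · obtain ⟨r, hr, hrc⟩ := D.exists_prime_c
    haveI := Fact.mk hr
    obtain ⟨R⟩ : Nonempty (Sylow r G) := inferInstance
    obtain ⟨w, -, hwo, hRw⟩ := exists_sylow_central R (hrc.trans (hvc ▸ Subgroup.index_dvd_card _))
    have hw1 : w ≠ 1 := fun e => hr.ne_one (by rw [← hwo, e, orderOf_one])
    have hwa := D.central_a hrc R hw1 hRw
    have hidx : ¬ s ∣ ((Cn w).subgroupOf (Cn v)).index := by
      intro hd
      have h2 : ((Cn w).subgroupOf (Cn v)).index ∣ a * c := by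
        have hco : (cs v).Coprime (cs w) := by rw [hvc, hwa]; exact D.cop.symm
        have h3 : (Cn v ⊓ Cn w).index = cs v * cs w := ClassSizeGraph76.index_inf_eq hco
        rw [CaminaSizes63.index_inf, hvc, hwa, mul_comm c a] at h3
        exact ⟨_, h3.symm⟩
      exact (hs.dvd_mul.1 (hd.trans h2)).elim hsa hsc
    obtain ⟨⟨k, hk⟩, hkx⟩ := CaminaSizes63.exists_conj_mem (G := Cn v) hs (z := ⟨x, hmem⟩)
      (by obtain ⟨j, hj⟩ := hx; exact ⟨j, by rw [Subgroup.orderOf_mk, hj]⟩) hidx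
    have hxw : k * x * k⁻¹ ∈ Cn w := Subgroup.mem_subgroupOf.1 hkx
    have hx' : IsPE s (k * x * k⁻¹) := CaminaSizes63.isPE_conj hx k
    have hle' := D.b_le hs hr (fun e => hsc (e ▸ hrc)) hx' (isPE_self_of_orderOf hwo)
      ((ClassSizeGraph76.cs_conj x k).trans e) (fun h => hx1 (conj_eq_one_iff.1 h)) (mem_cn_symm hxw)
    have hvx : v ∈ Cn (k * x * k⁻¹) := mem_cn_symm (mul_mem (mul_mem hk hmem) (inv_mem hk))
    exact D.nc hr ht (isPE_self_of_orderOf hwo) hv hwa hvc (hle' hvx)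

theorem mix : Mix G c b a where
  noCenter := D.noCenter
  one_lt_a := D.one_lt_c
  one_lt_c := D.one_lt_a
  cop := D.cop.symm
  dvd := D.dvdc
  lt := lt_of_le_of_ne (Nat.le_of_dvd D.b_pos D.dvdc) fun e => D.not_b_dvd_c e.symm.dvd
  cases := fun x hx => by rcases D.cases x hx with e | e | e <;> tauto
  exa := D.exc
  exb := D.exb
  exc := D.exa
  hcc := fun x u hua hle => by
    have hd := cs_dvd_of_le hle
    rw [hua] at hd
    have hu1 := D.ne_one_of_eq (Or.inl hua)
    rcases D.cases x (D.ne_one_of_le hle hu1) with e | e | e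
    · exact e
    · exfalso
      obtain ⟨t, w, ht, hw, hwa, hle'⟩ := D.exists_part_a hua
      haveI := Fact.mk ht
      have hta := D.prime_of_a ht hw hwa
      obtain ⟨p, v, hp, hv, hvc⟩ := D.exists_part_c
      have hwx : w ∈ Cn x := mem_cn_symm (hle' (hle (self_mem_cn x)))
      have hdx : Nat.card (Cn x) ∣ Nat.card (Cn v) := by
        have e1 := (Cn x).card_mul_index
        have e2 := (Cn v).card_mul_index
        obtain ⟨m, hm⟩ := D.dvdc
        rw [show (Cn x).index = b from e, hm, mul_comm c m, ← mul_assoc] at e1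
        rw [show (Cn v).index = c from hvc] at e2
        exact ⟨m, (Nat.eq_of_mul_eq_mul_right (zero_lt_one.trans D.one_lt_c)
          (e1.trans e2.symm)).symm⟩
      have htv : t ∣ Nat.card (Cn v) := by
        obtain ⟨j, hj⟩ := hw
        have hj0 : j ≠ 0 := fun e => D.ne_one_of_eq (Or.inl hwa)
          (orderOf_eq_one_iff.1 (by rw [hj, e, pow_zero]))
        exact ((dvd_pow_self t hj0).trans (hj ▸ Subgroup.orderOf_dvd_natCard _ hwx)).trans hdx
      obtain ⟨y, hy⟩ := exists_prime_orderOf_dvd_card' t htv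
      have hyo : orderOf (y : G) = t := by rw [Subgroup.orderOf_coe, hy]
      have := D.pi_cn ht hta hp hv hvc (isPE_self_of_orderOf hyo) y.2
      rw [this, orderOf_one] at hyo
      exact ht.ne_one hyo.symm
    · exact absurd (e ▸ hd) D.not_a_dvd_c

end Divide

end Cfsg.Agent.ThreeSizes56
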