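import Cfsg.Agent.Lib.ThreeSizes56Centre
import Cfsg.Agent.Lib.H74Kazarin
import Cfsg.Agent.Lib.PGroupsCyclic
import Cfsg.Agent.Lib.FrobeniusFPF

/-!
# Three class sizes: `H` a `2`-group and `b / a` odd is impossible
-/

set_option autoImplicit false
set_option linter.style.haveILetI false
set_option linter.unusedSectionVars false

namespace Cfsg.Agent.ThreeSizes56

open Cfsg.Agent.ClassSizeGraph76 (cs cls)
open Cfsg.Agent.TwoRegSizes38 (Cn IsPE mem_cn self_mem_cn)
open Cfsg.Agent.CaminaSizes63 (cs_eq_one_iff cs_dvd_of_le cn_eq_of_le mem_cn_symm)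
open Subgroup (centralizer normalizer)
open scoped commutatorElement

universe u

variable {G : Type u} [Group G] [Finite G] {a b c : ℕ}

/-- A non-trivial solvable normal subgroup contains a non-trivial abelian normal `r`-subgroup. -/
theorem exists_abelian_normal_pgroup (N : Subgroup G) [N.Normal] (hN : N ≠ ⊥)
    (hs : Group.IsSolvable N) :
    ∃ (r : ℕ) (U : Subgroup G), r.Prime ∧ U.Normal ∧ U ≠ ⊥ ∧ IsPGroup r U ∧
      ∀ x ∈ U, ∀ y ∈ U, x * y = y * x := by
  obtain ⟨n, hn⟩ := (isSolvable_def N).1 hs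
  classical
  have hm := Nat.find_spec (p := fun n => derivedSeries N n = ⊥) ⟨n, hn⟩
  set m := Nat.find (p := fun n => derivedSeries N n = ⊥) ⟨n, hn⟩ with hmdef
  have hm0 : m ≠ 0 := fun e => hN (by
    rw [e, derivedSeries_zero] at hm
    have := congrArg (Subgroup.map N.subtype) hm
    rwa [Subgroup.map_bot, ← MonoidHom.range_eq_map, Subgroup.range_subtype] at this)
  obtain ⟨j, hj⟩ := Nat.exists_eq_succ_of_ne_zero hm0
  have hjne : derivedSeries N j ≠ ⊥ :=
    Nat.find_min (p := fun n => derivedSeries N n = ⊥) ⟨n, hn⟩ (show j < m by omega)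
  set A := (derivedSeries N j).map N.subtype with hA
  have hAab : ∀ x ∈ A, ∀ y ∈ A, x * y = y * x := by
    rintro _ ⟨x, hx, rfl⟩ _ ⟨y, hy, rfl⟩
    rw [hj, derivedSeries_succ] at hm
    have : ⁅x, y⁆ = 1 := Subgroup.mem_bot.1 (hm ▸ Subgroup.commutator_mem_commutator hx hy)
    rw [← map_mul, ← map_mul, commutatorElement_eq_one_iff_mul_comm.1 this]
  haveI : (derivedSeries N j).Characteristic := inferInstance
  haveI hAn : A.Normal := inferInstance
  have hAne : A ≠ ⊥ := fun e => hjne ((Subgroup.map_eq_bot_iff_of_injective _ N.subtype_injective).1 e)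
  haveI : Nontrivial A := (Subgroup.nontrivial_iff_ne_bot A).2 hAne
  obtain ⟨r, hr, hrd⟩ := Nat.exists_prime_and_dvd (Finite.one_lt_card (α := A)).ne'
  haveI := Fact.mk hr
  let U : Subgroup G :=
    { carrier := {x | x ∈ A ∧ ∃ i : ℕ, x ^ (r ^ i) = 1}
      one_mem' := ⟨A.one_mem, 0, one_pow _⟩
      mul_mem' := by
        rintro x y ⟨hx, i, hi⟩ ⟨hy, k, hk⟩
        refine ⟨A.mul_mem hx hy, i + k, ?_⟩
        rw [(show Commute x y from hAab x hx y hy).mul_pow, pow_add, pow_mul, hi, one_pow, one_mul,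
          mul_comm, pow_mul, hk, one_pow]
      inv_mem' := by
        rintro x ⟨hx, i, hi⟩
        exact ⟨A.inv_mem hx, i, by rw [inv_pow, hi, inv_one]⟩ }
  refine ⟨r, U, hr, ⟨fun x hx g => ⟨hAn.conj_mem x hx.1 g, ?_⟩⟩, fun e => ?_, fun x => ?_,
    fun x hx y hy => hAab x hx.1 y hy.1⟩
  · obtain ⟨i, hi⟩ := hx.2
    exact ⟨i, by rw [conj_pow, hi]; group⟩
  · obtain ⟨x, hx⟩ := exists_prime_orderOf_dvd_card' r hrd
    have : (x : G) ∈ U := ⟨x.2, 1, by
      rw [pow_one, ← hx, ← Subgroup.orderOf_coe, pow_orderOf_eq_one]⟩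
    rw [e, Subgroup.mem_bot] at this
    rw [← Subgroup.orderOf_coe, this, orderOf_one] at hx
    exact hr.ne_one hx.symm
  · obtain ⟨i, hi⟩ := x.2.2
    exact ⟨i, Subtype.ext hi⟩

omit [Finite G] in
theorem pgroup_elt_eq_one {p r : ℕ} (hp : p.Prime) (hr : r.Prime) (hne : p ≠ r) {U : Subgroup G}
    (hU : IsPGroup p U) {x : G} (hx : x ∈ U) (hxr : IsPE r x) : x = 1 := by
  obtain ⟨i, hi⟩ := hU ⟨x, hx⟩
  have hi' : x ^ p ^ i = 1 := congrArg Subtype.val hi
  exact orderOf_eq_one_iff.1 (Nat.eq_one_of_dvd_coprimes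
    (hxr.coprime (((Nat.coprime_primes hr hp).2 hne.symm).pow_right i)) dvd_rfl
    (orderOf_dvd_of_pow_eq_one hi'))

namespace Mix

variable (D : Mix G a b c)
include D

theorem exists_sylowIn_not_central {v u : G} {p s : ℕ} (hp : p.Prime) (hv : IsPE p v)
    (hvc : cs v = c) (hns : ¬ Group.IsSolvable G) (hs : s.Prime) (hu : IsPE s u) (hua : cs u = a)
    {q : ℕ} (hq : q.Prime) (hqk : q ∣ b / a) {T : Subgroup G} (hTC : T ≤ Cn u) (hT : IsPGroup q T)
    (hidx : ¬ q ∣ T.relIndex (Cn u)) : ¬ IsCyclic T := by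
  haveI := Fact.mk hq
  intro hcyc
  haveI := hcyc
  have hab : ∀ x ∈ T, ∀ y ∈ T, x * y = y * x := fun x hx y hy =>
    congrArg Subtype.val (IsCyclic.commGroup.mul_comm (⟨x, hx⟩ : T) ⟨y, hy⟩)
  obtain ⟨r, y, hr, hy, hym, hyn⟩ := D.exists_noncentral hp hv hvc hns hua
  have hidx' := (D.inner_all hp hv hvc hns hs hr hu hua hy hym).resolve_left hyn
  refine hidx (hqk.trans ?_)
  rw [← D.index_inf_of_le hua _ inf_le_left hidx']
  refine Subgroup.relIndex_dvd_of_le_left _ (le_inf hTC fun z hz => mem_cn_symm ?_)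
  exact D.central_sylowIn hp hv hvc hns hs hq hu hua hqk hTC hT hidx hz
    (fun g hg => mem_cn.2 (hab g hg z hz)) hym

/-- The case of a `2`-group `H` and odd `b / a`. -/
theorem even_false {v : G} (hv : IsPE 2 v) (hvc : cs v = c) (hH : IsPGroup 2 (Cn v))
    (hns : ¬ Group.IsSolvable G) (hk2 : ¬ 2 ∣ b / a) : False := by
  classical
  haveI := Fact.mk Nat.prime_two
  have hp := Nat.prime_two
  obtain ⟨m, hm⟩ := IsPGroup.iff_card.1 hH
  obtain ⟨j, -, hj⟩ := (Nat.dvd_prime_pow hp).1 (hm ▸ D.a_dvd_card hvc)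
  have ha2 : 2 ∣ a := hj ▸ dvd_pow_self 2 (fun e => D.one_lt_a.ne' (by rw [hj, e, pow_zero]))
  have hodd : ∀ {r : ℕ}, r.Prime → r ≠ 2 → ¬ r ∣ Nat.card (Cn v) := fun hr hne h =>
    hne ((Nat.prime_dvd_prime_iff_eq hr hp).1 (hr.dvd_of_dvd_pow (hm ▸ h)))
  have hm0 : m ≠ 0 := fun e => D.one_lt_a.ne' (Nat.dvd_one.1 (by
    have := D.a_dvd_card hvc; rwa [hm, e, pow_zero] at this))
  have h2H : 2 ∣ Nat.card (Cn v) := hm ▸ dvd_pow_self 2 hm0
  have h2c := D.hall hp hv hvc hp h2H
  -- the centraliser of a central element of a Sylow `2`-subgroup is that subgroup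
  have hcz : ∀ (P : Sylow 2 G) (z : G), z ≠ 1 → (P : Subgroup G) ≤ Cn z →
      Cn z = (P : Subgroup G) := by
    intro P z hz hPz
    have hzc : cs z = c := by
      rcases D.cases z hz with e | e | e
      · exact absurd (e.symm ▸ ha2) (not_dvd_cs P hPz)
      · exact absurd (e.symm ▸ ha2.trans D.dvd) (not_dvd_cs P hPz)
      · exact e
    symm
    refine Subgroup.eq_of_le_of_card_ge hPz ?_
    obtain ⟨P', hP'⟩ := D.exists_sylow_le hp hv hvc h2H
    have e0 : (P' : Subgroup G) = Cn v := (P'.3 hH hP').symm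
    have e1 := (Cn v).card_mul_index
    have e2 := (Cn z).card_mul_index
    rw [show (Cn v).index = c from hvc] at e1
    rw [show (Cn z).index = c from hzc] at e2
    rw [Nat.eq_of_mul_eq_mul_right (zero_lt_one.trans D.one_lt_c) (e2.trans e1.symm), ← e0,
      P.card_eq_multiplicity, P'.card_eq_multiplicity]
  obtain ⟨g, hg⟩ := D.exa
  have hN := H74Kazarin.solvable_normalClosure _ G rfl g 2 j hp (hg.trans hj)
  obtain ⟨r, U, hr, hUn, hUne, hU, hUab⟩ :=
    exists_abelian_normal_pgroup (Subgroup.normalClosure {g}) (fun e => D.ne_one_a hg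
      (Subgroup.mem_bot.1 (e ▸ Subgroup.subset_normalClosure rfl))) hN
  haveI := hUn
  haveI := Fact.mk hr
  by_cases hr2 : r = 2
  · subst hr2
    obtain ⟨P⟩ : Nonempty (Sylow 2 G) := inferInstance
    have hUP : U ≤ (P : Subgroup G) := hU.le_sylow_of_normal P
    obtain ⟨z, hzU, hz1, hPz⟩ : ∃ z ∈ U, z ≠ 1 ∧ (P : Subgroup G) ≤ Cn z := by
      haveI : Nontrivial U := (Subgroup.nontrivial_iff_ne_bot U).2 hUne
      have hne : U.subgroupOf P ≠ ⊥ := fun e => hUne (by
        rw [Subgroup.subgroupOf_eq_bot] at e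
        exact e.eq_bot_of_le hUP)
      obtain ⟨⟨x, hx⟩, hx1⟩ := Subgroup.ne_bot_iff_exists_ne_one.1
        (PGroupsBasic.inf_center_ne_bot P.2 hne)
      exact ⟨x, hx.1, fun e => hx1 (Subtype.ext (Subtype.ext e)), fun g hg =>
        mem_cn.2 (congrArg Subtype.val (Subgroup.mem_center_iff.1 hx.2 ⟨g, hg⟩))⟩
    have hCU : ∀ x : G, U ≤ Cn x → x ∈ (P : Subgroup G) := fun x hx => by
      rw [← hcz P z hz1 hPz]; exact mem_cn_symm (hx hzU)
    have hfix : ∀ {q : ℕ} {w : G}, q.Prime → q ≠ 2 → IsPE q w → cs w = a → U ⊓ Cn w = ⊥ := by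
      intro q w hq hq2 hw hwa
      have hw1 := D.ne_one_a hwa
      refine (Subgroup.eq_bot_iff_forall _).2 fun x hx => ?_
      by_contra hx1
      have hxp : IsPE 2 x := IsPE.of_mem_pgroup hU hx.1
      have hwx : w ∈ Cn x := mem_cn_symm hx.2
      rcases D.cases x hx1 with e | e | e
      · obtain ⟨t, ht, ht2, htk, -⟩ := D.exists_k_prime_ne hp hv hvc hns 2
        obtain ⟨w', hw'o, hw'a, hw'e, -⟩ := D.exists_center_elt hp hv hvc hns hp ht hxp e htk
        refine D.ne_one_a hw'a (pgroup_elt_eq_one hp ht ht2.symm P.2 (hCU w' ?_)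
          (isPE_self_of_orderOf hw'o))
        rw [hw'e]
        exact fun y hy => mem_cn.2 (hUab y hy x hx.1)
      · refine hw1 (pgroup_elt_eq_one hp hq hq2.symm P.2 (hCU w ?_) hw)
        exact fun y hy => D.comm_b hp hq hq2.symm hxp hw e hwx (mem_cn.2 (hUab y hy x hx.1))
      · have : IsPGroup 2 (Cn x) := by
          refine IsPGroup.of_card (n := m) ?_
          have e1 := (Cn v).card_mul_index
          have e2 := (Cn x).card_mul_index
          rw [show (Cn v).index = c from hvc] at e1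
          rw [show (Cn x).index = c from e] at e2
          rw [← hm]
          exact Nat.eq_of_mul_eq_mul_right (zero_lt_one.trans D.one_lt_c) (e2.trans e1.symm)
        exact hw1 (pgroup_elt_eq_one hp hq hq2.symm this hwx hw)
    obtain ⟨q, hq, hq2, hqk, hqH⟩ := D.exists_k_prime_ne hp hv hvc hns 2
    haveI := Fact.mk hq
    obtain ⟨s, u0, hs, hu0, hu0a, -⟩ := D.exists_part_a hg
    obtain ⟨w, hwo, hwa, hwe, -⟩ := D.exists_center_elt hp hv hvc hns hs hq hu0 hu0a hqk
    have hw := isPE_self_of_orderOf hwo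
    obtain ⟨T, hTC, hT, hidx, -⟩ := exists_sylowIn (Cn w) q
    have hnc := D.exists_sylowIn_not_central hp hv hvc hns hq hw hwa hq hqk hTC hT hidx
    obtain ⟨E, -, hEc, hEel⟩ := PGroupsCyclic.exists_normal_elementary_sq hT hq2 hnc
    have hfpf : ∀ x ∈ E.map T.subtype, x ≠ 1 → U ⊓ centralizer ({x} : Set G) = ⊥ := by
      rintro _ ⟨x, hx, rfl⟩ hx1
      have hxq : IsPE q (x : G) := IsPE.of_mem_pgroup hT x.2
      have hxm := hTC x.2
      rcases D.cases (x : G) hx1 with e | e | e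
      · exact hfix hq hq2 hxq e
      · exact le_bot_iff.1 (le_trans
          (inf_le_inf_left U (D.cn_le_of_b hp hv hvc hns hq hq hw hwa hxq hxm e))
          (hfix hq hq2 hw hwa).le)
      · exact absurd e (D.not_type_c hp hv hvc hq hqH hxq)
    have hcyc := FrobeniusFPF.isCyclic_of_fpf (E.map T.subtype) U ⟨⟨fun x y =>
      Subtype.ext (hUab x x.2 y y.2)⟩⟩ hUne (fun x _ => by
        rw [Subgroup.normalizer_eq_top]; trivial) hfpf (Or.inl ?_)
    · haveI := hcyc
      haveI : IsCyclic E := isCyclic_of_surjective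
        (E.equivMapOfInjective _ T.subtype_injective).symm
        (E.equivMapOfInjective _ T.subtype_injective).symm.surjective
      obtain ⟨x, hx⟩ := IsCyclic.exists_generator (α := E)
      have h1 : orderOf x = Nat.card E := orderOf_eq_card_of_forall_mem_zpowers hx
      have h2 : orderOf x ∣ q := orderOf_dvd_of_pow_eq_one (Subtype.ext (hEel.2 x x.2))
      rw [h1, hEc] at h2
      have h3 := Nat.le_of_dvd hq.pos h2
      nlinarith [hq.two_le]
    · exact ⟨⟨fun x y => by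
        obtain ⟨_, x', hx', rfl⟩ := x
        obtain ⟨_, y', hy', rfl⟩ := y
        exact Subtype.ext (congrArg Subtype.val
          (congrArg Subtype.val (hEel.1.is_comm.comm ⟨x', hx'⟩ ⟨y', hy'⟩) :) :)⟩⟩
  · have hrH := hodd hr hr2
    have hrb : r ∣ b := by
      by_contra hb
      refine hUne (le_bot_iff.1 (le_trans (fun x hx => ?_) D.noCenter.le))
      refine Subgroup.mem_center_iff.2 fun g => ?_
      have h1 : ⁅g, x⁆ ∈ U :=
        mul_mem (hUn.conj_mem x hx g) (inv_mem hx)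
      have h2 : ⁅g, x⁆ ∈ commutator G :=
        Subgroup.commutator_mem_commutator (Subgroup.mem_top g) (Subgroup.mem_top x)
      have h3 : orderOf ⁅g, x⁆ = 1 := by
        obtain ⟨i, hi⟩ := IsPE.of_mem_pgroup hU h1
        rcases Nat.eq_zero_or_pos i with e | e
        · rw [hi, e, pow_zero]
        · exact absurd ((dvd_pow_self r e.ne').trans (hi ▸ Subgroup.orderOf_dvd_natCard _ h2))
            (D.not_dvd_derived hp hv hvc hns hrH hb)
      exact commutatorElement_eq_one_iff_mul_comm.1 (orderOf_eq_one_iff.1 h3)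
    obtain ⟨R⟩ : Nonempty (Sylow r G) := inferInstance
    have hUR : U ≤ (R : Subgroup G) := hU.le_sylow_of_normal R
    obtain ⟨u0, hu0U, hu01, hRu0⟩ : ∃ x ∈ U, x ≠ 1 ∧ (R : Subgroup G) ≤ Cn x := by
      have hne : U.subgroupOf R ≠ ⊥ := fun e => hUne (by
        rw [Subgroup.subgroupOf_eq_bot] at e
        exact e.eq_bot_of_le hUR)
      obtain ⟨⟨x, hx⟩, hx1⟩ := Subgroup.ne_bot_iff_exists_ne_one.1
        (PGroupsBasic.inf_center_ne_bot R.2 hne)
      exact ⟨x, hx.1, fun e => hx1 (Subtype.ext (Subtype.ext e)), fun g hg =>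
        mem_cn.2 (congrArg Subtype.val (Subgroup.mem_center_iff.1 hx.2 ⟨g, hg⟩))⟩
    have hu0 : IsPE r u0 := IsPE.of_mem_pgroup hU hu0U
    have hu0a : cs u0 = a := by
      rcases D.cases u0 hu01 with e | e | e
      · exact e
      · exact absurd (e.symm ▸ hrb) (not_dvd_cs R hRu0)
      · exact absurd e (D.not_type_c hp hv hvc hr hrH hu0)
    obtain ⟨P, -⟩ := D.exists_sylow_le hp hv hvc h2H
    obtain ⟨z, hzP, hzo, hPz⟩ := exists_sylow_central P
      (h2H.trans (Subgroup.card_subgroup_dvd_card _))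
    have hz1 : z ≠ 1 := fun e => by rw [e, orderOf_one] at hzo; omega
    have hzz : z * z = 1 := by
      have := pow_orderOf_eq_one z; rwa [hzo, pow_two] at this
    have hzi : z⁻¹ = z := inv_eq_of_mul_eq_one_right hzz
    have hinv : z * u0 * z⁻¹ = u0⁻¹ := by
      have hw : z * u0 * z⁻¹ ∈ U := hUn.conj_mem _ hu0U z
      set w := z * u0 * z⁻¹ with hwdef
      have hfix : z * (u0 * w) * z⁻¹ = u0 * w := by
        rw [show z * (u0 * w) * z⁻¹ = w * ((z * z) * u0 * (z⁻¹ * z⁻¹)) by rw [hwdef]; group,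
          hzi, hzz, one_mul, mul_one, hUab w hw u0 hu0U]
      have hmem : u0 * w ∈ Cn z := mem_cn.2 (mul_inv_eq_iff_eq_mul.1 hfix).symm
      rw [hcz P z hz1 hPz] at hmem
      exact eq_inv_of_mul_eq_one_right (pgroup_elt_eq_one hp hr (Ne.symm hr2) P.2 hmem
        (IsPE.of_mem_pgroup hU (mul_mem hu0U hw)))
    have hzN : z ∈ normalizer (Cn u0 : Set G) := Subgroup.mem_normalizer_iff.2 fun y => by
      conv_rhs => rw [← cn_inv u0, ← hinv]
      exact conj_mem_cn_iff.symm
    rw [D.normalizer_cn_eq hp hv hvc hns hr hu0 hu0a] at hzN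
    rw [mem_cn.1 hzN, mul_inv_cancel_right] at hinv
    have hsq : u0 ^ 2 = 1 := by rw [pow_two]; nth_rewrite 2 [hinv]; exact mul_inv_cancel u0
    have hd : orderOf u0 ∣ 2 := orderOf_dvd_of_pow_eq_one hsq
    obtain ⟨i, hi⟩ := hu0
    rcases Nat.eq_zero_or_pos i with e | e
    · exact hu01 (orderOf_eq_one_iff.1 (by rw [hi, e, pow_zero]))
    · exact hr2 ((Nat.prime_dvd_prime_iff_eq hr hp).1 ((hi ▸ dvd_pow_self r e.ne').trans hd))

end Mix

end Cfsg.Agent.ThreeSizes56
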