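import Cfsg.Agent.Lib.ThreeSizes56Basic
import Cfsg.Agent.Lib.FrobeniusBasic
import Cfsg.Agent.Lib.FrobeniusNilpotent
import Cfsg.Agent.S4138

/-!
# Three class sizes `a, b, c` with `a ∣ b` and `a, c` coprime

Structure of the centraliser `H` of an element of class size `c`, and of the centralisers of
elements of class size `a`: the latter are self-normalising once `b` has two prime divisors
outside `H`.
-/

set_option autoImplicit false
set_option linter.style.haveILetI false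
set_option linter.unusedSectionVars false

namespace Cfsg.Agent.ThreeSizes56

open Cfsg.Agent.ClassSizeGraph76 (cs cls)
open Cfsg.Agent.TwoRegSizes38 (Cn IsPE mem_cn self_mem_cn)
open Cfsg.Agent.CaminaSizes63 (cs_eq_one_iff cs_dvd_of_le cn_eq_of_le mem_cn_symm)
open Subgroup (centralizer normalizer)

universe u

/-- Class sizes `a ∣ b` and `c`, with no element of size other than `c` above a size `c` element. -/
structure Mix (G : Type u) [Group G] (a b c : ℕ) : Prop where
  noCenter : Subgroup.center G = ⊥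
  one_lt_a : 1 < a
  one_lt_c : 1 < c
  cop : a.Coprime c
  dvd : a ∣ b
  lt : a < b
  cases : ∀ x : G, x ≠ 1 → cs x = a ∨ cs x = b ∨ cs x = c
  exa : ∃ x : G, cs x = a
  exb : ∃ x : G, cs x = b
  exc : ∃ x : G, cs x = c
  hcc : ∀ x v : G, cs v = c → Cn x ≤ Cn v → cs x = c

variable {G : Type u} [Group G] [Finite G] {a b c : ℕ}

theorem ne_one_of_cs {x : G} (h : 1 < cs x) : x ≠ 1 := by
  rintro rfl
  rw [cs_eq_one_iff.2 (Subgroup.one_mem _)] at h
  exact lt_irrefl _ h

namespace Mix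

variable (D : Mix G a b c)
include D

theorem not_a_dvd_c : ¬ a ∣ c := fun h => D.one_lt_a.ne' (D.cop.eq_one_of_dvd h)

theorem not_c_dvd_a : ¬ c ∣ a := fun h => D.one_lt_c.ne' (D.cop.symm.eq_one_of_dvd h)

theorem not_b_dvd_c : ¬ b ∣ c := fun h => D.not_a_dvd_c (D.dvd.trans h)

theorem not_b_dvd_a : ¬ b ∣ a := fun h =>
  absurd (Nat.le_of_dvd (zero_lt_one.trans D.one_lt_a) h) (not_le.2 D.lt)

theorem b_ne_c : b ≠ c := fun h => D.not_b_dvd_c (dvd_of_eq h)

theorem ne_one_a {x : G} (h : cs x = a) : x ≠ 1 := ne_one_of_cs (h.symm ▸ D.one_lt_a)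

theorem ne_one_c {x : G} (h : cs x = c) : x ≠ 1 := ne_one_of_cs (h.symm ▸ D.one_lt_c)

theorem ne_one_b {x : G} (h : cs x = b) : x ≠ 1 :=
  ne_one_of_cs (h.symm ▸ D.one_lt_a.trans D.lt)

theorem cs_ne_one {x : G} (hx : x ≠ 1) : cs x ≠ 1 := fun h => hx (by
  have := cs_eq_one_iff.1 h
  rwa [D.noCenter, Subgroup.mem_bot] at this)

theorem eq_c_of_dvd {x : G} (hx : x ≠ 1) (h : cs x ∣ c) : cs x = c := by
  rcases D.cases x hx with e | e | e
  · exact absurd (e ▸ h) D.not_a_dvd_c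
  · exact absurd (e ▸ h) D.not_b_dvd_c
  · exact e

theorem eq_a_of_dvd {x : G} (hx : x ≠ 1) (h : cs x ∣ a) : cs x = a := by
  rcases D.cases x hx with e | e | e
  · exact e
  · exact absurd (e ▸ h) D.not_b_dvd_a
  · exact absurd (e ▸ h) D.not_c_dvd_a

theorem ne_one_of_le {x y : G} (h : Cn x ≤ Cn y) (hy : y ≠ 1) : x ≠ 1 := fun e => by
  refine D.cs_ne_one hy ?_
  have h1 := cs_dvd_of_le h
  rw [e, cs_eq_one_iff.2 (Subgroup.one_mem _)] at h1
  exact Nat.dvd_one.1 h1

theorem above_a {x u : G} (hu : cs u = a) (h : Cn x ≤ Cn u) : cs x = a ∨ cs x = b := by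
  rcases D.cases x (D.ne_one_of_le h (D.ne_one_a hu)) with e | e | e
  · exact Or.inl e
  · exact Or.inr e
  · have := cs_dvd_of_le h
    rw [hu, e] at this
    exact absurd this D.not_a_dvd_c

theorem above_b {x y : G} (hy : cs y = b) (h : Cn x ≤ Cn y) : Cn x = Cn y := by
  refine cn_eq_of_le h ?_
  rcases D.cases x (D.ne_one_of_le h (D.ne_one_b hy)) with e | e | e
  · have := cs_dvd_of_le h
    rw [hy, e] at this
    exact absurd this D.not_b_dvd_a
  · rw [e, hy]
  · have := cs_dvd_of_le h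
    rw [hy, e] at this
    exact absurd this D.not_b_dvd_c

omit D in
theorem exists_part {g : G} (hg : g ≠ 1) :
    ∃ (p : ℕ) (x : G), p.Prime ∧ IsPE p x ∧ x ≠ 1 ∧ Cn g ≤ Cn x := by
  obtain ⟨p, k, hp, -, hk, hpe⟩ :=
    TwoRegSizes38.exists_primePow_not_mem (K := (⊥ : Subgroup G)) (by rwa [Subgroup.mem_bot])
  exact ⟨p, g ^ k, hp, hpe, by rwa [Subgroup.mem_bot] at hk, cn_le_pow g k⟩

theorem exists_part_a {g : G} (hg : cs g = a) :
    ∃ (p : ℕ) (x : G), p.Prime ∧ IsPE p x ∧ cs x = a ∧ Cn g ≤ Cn x := by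
  obtain ⟨p, x, hp, hx, hx1, hle⟩ := exists_part (D.ne_one_a hg)
  exact ⟨p, x, hp, hx, D.eq_a_of_dvd hx1 ((cs_dvd_of_le hle).trans hg.dvd), hle⟩

theorem exists_part_c :
    ∃ (p : ℕ) (x : G), p.Prime ∧ IsPE p x ∧ cs x = c := by
  obtain ⟨g, hg⟩ := D.exc
  obtain ⟨p, x, hp, hx, hx1, hle⟩ := exists_part (D.ne_one_c hg)
  exact ⟨p, x, hp, hx, D.eq_c_of_dvd hx1 ((cs_dvd_of_le hle).trans hg.dvd)⟩

theorem comm_c {p r : ℕ} (hp : p.Prime) (hr : r.Prime) (hne : p ≠ r) {v y : G} (hv : IsPE p v)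
    (hy : IsPE r y) (hvc : cs v = c) (hmem : y ∈ Cn v) (hy1 : y ≠ 1) :
    Cn y = Cn v ∧ cs y = c := by
  have h1 : Cn (v * y) ≤ Cn v := cn_mul_le_left hp hr hne hv hy hmem
  have h2 := D.hcc _ _ hvc h1
  have h3 : Cn (v * y) = Cn v := cn_eq_of_le h1 (h2.trans hvc.symm)
  have h4 : Cn v ≤ Cn y := h3 ▸ cn_mul_le_right hp hr hne hv hy hmem
  have h5 : cs y = c := D.eq_c_of_dvd hy1 ((cs_dvd_of_le h4).trans hvc.dvd)
  exact ⟨(cn_eq_of_le h4 (hvc.trans h5.symm)).symm, h5⟩

theorem comm_b {p r : ℕ} (hp : p.Prime) (hr : r.Prime) (hne : p ≠ r) {x y : G} (hx : IsPE p x)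
    (hy : IsPE r y) (hxb : cs x = b) (hmem : y ∈ Cn x) : Cn x ≤ Cn y :=
  (D.above_b hxb (cn_mul_le_left hp hr hne hx hy hmem)) ▸ cn_mul_le_right hp hr hne hx hy hmem

/-! ### The centraliser of an element of class size `c` -/

section CSide

variable {p : ℕ} (hp : p.Prime) {v : G} (hv : IsPE p v) (hvc : cs v = c)

include hvc in
theorem a_dvd_card : a ∣ Nat.card (Cn v) := by
  obtain ⟨x, hx⟩ := D.exa
  have h : a ∣ Nat.card (Cn v) * c := by
    rw [← hvc, Subgroup.card_mul_index, ← hx]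
    exact Subgroup.index_dvd_card _
  exact D.cop.dvd_of_dvd_mul_right h

include hvc in
theorem cn_of_mem_abelian (hab : ∀ x ∈ Cn v, ∀ y ∈ Cn v, x * y = y * x) {h : G} (hh : h ∈ Cn v)
    (h1 : h ≠ 1) : Cn h = Cn v := by
  have hle : Cn v ≤ Cn h := fun g hg => mem_cn.2 (hab g hg h hh)
  exact (cn_eq_of_le hle (hvc.trans (D.eq_c_of_dvd h1 ((cs_dvd_of_le hle).trans hvc.dvd)).symm)).symm

include hp hv hvc in
theorem pgroup_or_abelian :
    IsPGroup p (Cn v) ∨ ∀ x ∈ Cn v, ∀ y ∈ Cn v, x * y = y * x := by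
  by_cases hex : ∃ w ∈ Cn v, ∃ r : ℕ, r.Prime ∧ r ≠ p ∧ IsPE r w ∧ w ≠ 1
  · right
    obtain ⟨w, hw, r, hr, hrp, hwr, hw1⟩ := hex
    obtain ⟨hwe, hwc⟩ := D.comm_c hp hr hrp.symm hv hwr hvc hw hw1
    intro x hx y hy
    have hy' : y ∈ centralizer (Cn v : Set G) := by
      refine S4138.mem_of_primePow _ y fun k s i hs hsi => ?_
      refine Subgroup.mem_centralizer_iff.2 fun g hg => mem_cn.1 ?_
      by_cases h1 : y ^ k = 1
      · rw [h1]; exact cn_le_center (Subgroup.one_mem _) _ hg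
      have hyk : y ^ k ∈ Cn v := (Cn v).pow_mem hy k
      by_cases hsp : s = p
      · subst hsp
        have := (D.comm_c hr hp hrp hwr ⟨i, hsi⟩ hwc (hwe.symm ▸ hyk) h1).1
        rw [this, hwe]; exact hg
      · have := (D.comm_c hp hs (Ne.symm hsp) hv ⟨i, hsi⟩ hvc hyk h1).1
        rw [this]; exact hg
    exact Subgroup.mem_centralizer_iff.1 hy' x hx
  · left
    push Not at hex
    haveI := Fact.mk hp
    refine IsPGroup.iff_orderOf.2 fun g => ?_
    by_cases hd : ∀ r : ℕ, r.Prime → r ∣ orderOf (g : G) → r = p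
    · refine ⟨_, (Subgroup.orderOf_coe g).symm.trans (Nat.eq_prime_pow_of_unique_prime_dvd
        (orderOf_pos _).ne' fun {r} hr h => hd r hr h)⟩
    · push Not at hd
      obtain ⟨r, hr, hrd, hrp⟩ := hd
      set w := (g : G) ^ (orderOf (g : G) / r)
      have hwo : orderOf w = r := orderOf_pow_orderOf_div (orderOf_pos _).ne' hrd
      have := hex w ((Cn v).pow_mem g.2 _) r hr hrp (isPE_self_of_orderOf hwo)
      rw [this, orderOf_one] at hwo
      exact absurd hwo.symm hr.ne_one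

include hp hv hvc in
theorem nilpotent_cn : Group.IsNilpotent (Cn v) := by
  rcases D.pgroup_or_abelian hp hv hvc with h | h
  · haveI := Fact.mk hp
    exact h.isNilpotent
  · haveI : IsMulCommutative (Cn v) := ⟨⟨fun x y => Subtype.ext (h x x.2 y y.2)⟩⟩
    exact AbelCent88Height.isNilpotent_of_central (t := 0) fun _ _ _ x _ =>
      Subgroup.mem_center_iff.2 fun y => Subtype.ext (h y y.2 x x.2)

include hp hv hvc in
theorem hall {r : ℕ} (hr : r.Prime) (hd : r ∣ Nat.card (Cn v)) : ¬ r ∣ c := by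
  haveI := Fact.mk hr
  rcases D.pgroup_or_abelian hp hv hvc with h | h
  · haveI := Fact.mk hp
    obtain ⟨i, hi⟩ := IsPGroup.iff_card.1 h
    rw [hi] at hd
    obtain rfl := (Nat.prime_dvd_prime_iff_eq hr hp).1 (hr.dvd_of_dvd_pow hd)
    intro hrc
    have hpa := D.a_dvd_card hvc
    rw [hi] at hpa
    obtain ⟨j, -, hj⟩ := (Nat.dvd_prime_pow hp).1 hpa
    have hj0 : j ≠ 0 := fun e => D.one_lt_a.ne' (by rw [hj, e, pow_zero])
    exact hr.ne_one (Nat.eq_one_of_dvd_coprimes D.cop (hj ▸ dvd_pow_self r hj0) hrc)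
  · obtain ⟨x, hx⟩ := exists_prime_orderOf_dvd_card' r hd
    have hxo : orderOf (x : G) = r := by rw [Subgroup.orderOf_coe, hx]
    have hx1 : (x : G) ≠ 1 := fun e => hr.ne_one (by rw [← hxo, e, orderOf_one])
    have hzp : IsPGroup r (Subgroup.zpowers (x : G)) :=
      IsPGroup.of_card (n := 1) (by rw [Nat.card_zpowers, hxo, pow_one])
    obtain ⟨P, hP⟩ := hzp.exists_le_sylow
    obtain ⟨z, hz, hzo, hPz⟩ := exists_sylow_central P (hd.trans (Subgroup.card_subgroup_dvd_card _))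
    have hz1 : z ≠ 1 := fun e => hr.ne_one (by rw [← hzo, e, orderOf_one])
    have hzH : z ∈ Cn v := by
      rw [← D.cn_of_mem_abelian hvc h x.2 hx1]
      exact mem_cn_symm (hPz (hP (Subgroup.mem_zpowers (x : G))))
    rw [← hvc]
    exact not_dvd_cs P (D.cn_of_mem_abelian hvc h hzH hz1 ▸ hPz)

include hp hv hvc in
theorem exists_sylow_le {r : ℕ} [hr : Fact r.Prime] (hd : r ∣ Nat.card (Cn v)) :
    ∃ P : Sylow r G, (P : Subgroup G) ≤ Cn v :=
  ClassSizeGraph76.exists_sylow_le (H := Cn v) (by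
    show ¬ r ∣ cs v; rw [hvc]; exact D.hall hp hv hvc hr.out hd)

/-- The centre of the centraliser of `v`. -/
def zc (_D : Mix G a b c) (v : G) : Subgroup G := (Subgroup.center (Cn v)).map (Cn v).subtype

omit D in
theorem zc_le (v : G) (D : Mix G a b c) : D.zc v ≤ Cn v := Subgroup.map_subtype_le _

theorem mem_zc {x v : G} : x ∈ D.zc v ↔ x ∈ Cn v ∧ Cn v ≤ Cn x := by
  constructor
  · rintro ⟨y, hy, rfl⟩
    exact ⟨y.2, fun g hg => mem_cn.2 (congrArg Subtype.val (Subgroup.mem_center_iff.1 hy ⟨g, hg⟩))⟩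
  · rintro ⟨h1, h2⟩
    exact ⟨⟨x, h1⟩, Subgroup.mem_center_iff.2 fun g => Subtype.ext (mem_cn.1 (h2 g.2)), rfl⟩

include hp hv hvc in
theorem type_c_conj {x : G} (hx : cs x = c) : x ∈ conjSet (D.zc v) := by
  haveI := Fact.mk hp
  have hv1 := D.ne_one_c hvc
  have hd : p ∣ Nat.card (Cn v) := by
    obtain ⟨j, hj⟩ := hv
    have hj0 : j ≠ 0 := fun e => hv1 (orderOf_eq_one_iff.1 (by rw [hj, e, pow_zero]))
    exact (hj ▸ dvd_pow_self p hj0 : p ∣ orderOf v).trans
      (Subgroup.orderOf_dvd_natCard _ (self_mem_cn v))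
  have hpc := D.hall hp hv hvc hp hd
  obtain ⟨P, hP⟩ := D.exists_sylow_le hp hv hvc hd
  obtain ⟨P', hP'⟩ := ClassSizeGraph76.exists_sylow_le (H := Cn x) (show ¬ p ∣ cs x from hx ▸ hpc)
  obtain ⟨g, hg⟩ := MulAction.exists_smul_eq G P' P
  have hPx : (P : Subgroup G) ≤ Cn (g * x * g⁻¹) := by
    intro y hy
    rw [← hg, Sylow.coe_subgroup_smul] at hy
    obtain ⟨w, hw, rfl⟩ := hy
    exact conj_mem_cn_iff.2 (hP' hw)
  have hxc : cs (g * x * g⁻¹) = c := by rw [ClassSizeGraph76.cs_conj, hx]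
  refine ⟨D.ne_one_c hx, g, D.mem_zc.2 ?_⟩
  rcases D.pgroup_or_abelian hp hv hvc with h | h
  · have hHP : (P : Subgroup G) = Cn v := (P.3 h hP).symm
    have heq : Cn v = Cn (g * x * g⁻¹) := by
      refine Subgroup.eq_of_le_of_card_ge (hHP ▸ hPx) ?_
      have e1 := (Cn v).card_mul_index
      have e2 := (Cn (g * x * g⁻¹)).card_mul_index
      rw [show (Cn v).index = c from hvc] at e1
      rw [show (Cn (g * x * g⁻¹)).index = c from hxc] at e2
      exact (Nat.eq_of_mul_eq_mul_right (zero_lt_one.trans D.one_lt_c) (e2.trans e1.symm)).le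
    exact ⟨heq ▸ self_mem_cn _, heq.le⟩
  · obtain ⟨z, hz, hzo, hPz⟩ := exists_sylow_central P (hd.trans (Subgroup.card_subgroup_dvd_card _))
    have hz1 : z ≠ 1 := fun e => hp.ne_one (by rw [← hzo, e, orderOf_one])
    have hmem : g * x * g⁻¹ ∈ Cn v := by
      rw [← D.cn_of_mem_abelian hvc h (hP hz) hz1]
      exact mem_cn_symm (hPx hz)
    exact ⟨hmem, fun y hy => mem_cn.2 (h y hy _ hmem)⟩

include hp hv hvc in
theorem not_type_c {r : ℕ} (hr : r.Prime) (hd : ¬ r ∣ Nat.card (Cn v)) {x : G} (hx : IsPE r x) :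
    cs x ≠ c := fun h => by
  obtain ⟨hx1, g, hg⟩ := D.type_c_conj hp hv hvc h
  obtain ⟨j, hj⟩ := hx
  have hj0 : j ≠ 0 := fun e => hx1 (orderOf_eq_one_iff.1 (by rw [hj, e, pow_zero]))
  refine hd ((dvd_pow_self r hj0).trans ?_)
  rw [← hj, ← MulEquiv.orderOf_eq (MulAut.conj g) x]
  exact Subgroup.orderOf_dvd_natCard _ (zc_le v D hg)

include hp hv hvc in
/-- `H` is abelian and self-normalising only in solvable groups. -/
theorem zc_lt_normalizer (hns : ¬ Group.IsSolvable G) :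
    D.zc v < normalizer (D.zc v : Set G) := by
  have hHN : Cn v ≤ normalizer (D.zc v : Set G) := by
    intro g hg
    refine Subgroup.mem_normalizer_iff.2 fun x => ?_
    constructor
    · intro hx
      rw [mul_inv_eq_iff_eq_mul.2 (mem_cn.1 ((D.mem_zc.1 hx).2 hg))]; exact hx
    · intro hx
      have h1 := mem_cn.1 ((D.mem_zc.1 hx).2 hg)
      have : x = g * x * g⁻¹ := by
        have h2 : g * x * g⁻¹ = g⁻¹ * (g * x * g⁻¹) * g := by
          calc g * x * g⁻¹ = g⁻¹ * (g * (g * x * g⁻¹)) := by group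
            _ = g⁻¹ * ((g * x * g⁻¹) * g) := by rw [h1]
            _ = _ := by group
        rw [h2]; group
      rw [this]; exact hx
  by_contra hnot
  have heq : D.zc v = normalizer (D.zc v : Set G) :=
    eq_of_le_of_not_lt Subgroup.le_normalizer hnot
  have hzH : D.zc v = Cn v := le_antisymm (zc_le v D) (hHN.trans heq.ge)
  have hab : ∀ x ∈ Cn v, ∀ y ∈ Cn v, x * y = y * x := fun x hx y hy =>
    mem_cn.1 ((D.mem_zc.1 (hzH.symm ▸ hy : y ∈ D.zc v)).2 hx)
  have hfc : Cfsg.IsFrobeniusComplement (Cn v) := by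
    refine FrobeniusBasic.isFrobeniusComplement_of_ti ?_ ?_ ?_
    · exact fun e => D.ne_one_c hvc (Subgroup.mem_bot.1 (e ▸ self_mem_cn v))
    · intro e
      have := congrArg Subgroup.index e
      rw [show (Cn v).index = c from hvc, Subgroup.index_top] at this
      exact D.one_lt_c.ne' this
    · intro g x hx hx1 hgx
      have h1 := D.cn_of_mem_abelian hvc hab hx hx1
      have h2 := D.cn_of_mem_abelian hvc hab hgx (fun e => hx1 (by
        have h' : g * (g⁻¹ * x * g) * g⁻¹ = x := by group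
        rw [e] at h'; simpa using h'.symm))
      have hmem : g⁻¹ ∈ normalizer (Cn v : Set G) := by
        refine Subgroup.mem_normalizer_iff.2 fun y => ?_
        rw [inv_inv]
        nth_rewrite 1 [← h1]
        rw [← h2]
        constructor
        · intro hy; simpa using (conj_mem_cn_iff (g := g⁻¹)).2 hy
        · intro hy
          exact (conj_mem_cn_iff (g := g⁻¹)).1 (by simpa using hy)
      rw [← hzH, ← heq, hzH, Subgroup.inv_mem_iff] at hmem
      exact hmem
  obtain ⟨N, -, -, hcompl, hN⟩ := FrobeniusNilpotent.exists_nilpotent_kernel hfc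
  refine hns (solvable_of_nilpotent_mul N (Cn v) hN (D.nilpotent_cn hp hv hvc) ?_)
  rw [hcompl.symm.index_eq_card]
  exact FrobeniusBasic.coprime_card_index hfc

include hp hv hvc in
/-- A subgroup whose conjugates cover the classes of size other than `c` is self-normalising. -/
theorem normalizer_eq_of_cover (hns : ¬ Group.IsSolvable G) (M : Subgroup G)
    (h : ∀ x : G, x ≠ 1 → cs x ≠ c → x ∈ conjSet M) : normalizer (M : Set G) = M := by
  by_contra hne
  refine cover_false (D.zc v) M (D.zc_lt_normalizer hp hv hvc hns)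
    (lt_of_le_of_ne Subgroup.le_normalizer (Ne.symm hne)) fun x hx => ?_
  by_cases hxc : cs x = c
  · exact Or.inl (D.type_c_conj hp hv hvc hxc)
  · exact Or.inr (h x hx hxc)

include hp hv hvc in
/-- Primes outside `H` not dividing `b` do not divide `|G'|`. -/
theorem not_dvd_derived (hns : ¬ Group.IsSolvable G) {r : ℕ} [hr : Fact r.Prime]
    (hd : ¬ r ∣ Nat.card (Cn v)) (hb : ¬ r ∣ b) : ¬ r ∣ Nat.card (commutator G) := by
  obtain ⟨Q⟩ : Nonempty (Sylow r G) := inferInstance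
  refine not_dvd_commutator Q ?_
  have hM := D.normalizer_eq_of_cover hp hv hvc hns (centralizer ((Q : Subgroup G) : Set G))
    fun x hx hxc => by
      have hx' : ¬ r ∣ cs x := by
        rcases D.cases x hx with e | e | e
        · rw [e]; exact fun h => hb (h.trans D.dvd)
        · rw [e]; exact hb
        · exact absurd e hxc
      obtain ⟨Q', hQ'⟩ := ClassSizeGraph76.exists_sylow_le hx'
      obtain ⟨g, hg⟩ := MulAction.exists_smul_eq G Q' Q
      refine ⟨hx, g, Subgroup.mem_centralizer_iff.2 fun y hy => ?_⟩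
      rw [SetLike.mem_coe, ← hg, Sylow.coe_subgroup_smul] at hy
      obtain ⟨w, hw, rfl⟩ := hy
      exact mem_cn.1 (conj_mem_cn_iff.2 (hQ' hw))
  intro n hn
  rw [← hM]
  refine Subgroup.mem_normalizer_iff.2 fun y => ?_
  simp only [Subgroup.mem_centralizer_iff, SetLike.mem_coe]
  constructor
  · intro hy w hw
    have h1 := hy (n⁻¹ * w * n) (by simpa using (Subgroup.mem_normalizer_iff''.1 hn w).1 hw)
    calc w * (n * y * n⁻¹) = n * ((n⁻¹ * w * n) * y) * n⁻¹ := by group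
      _ = n * (y * (n⁻¹ * w * n)) * n⁻¹ := by rw [h1]
      _ = _ := by group
  · intro hy w hw
    have h1 := hy (n * w * n⁻¹) ((Subgroup.mem_normalizer_iff.1 hn w).1 hw)
    calc w * y = n⁻¹ * ((n * w * n⁻¹) * (n * y * n⁻¹)) * n := by group
      _ = n⁻¹ * ((n * y * n⁻¹) * (n * w * n⁻¹)) * n := by rw [h1]
      _ = _ := by group

include hp hv hvc in
/-- Two primes outside `H` divide `b`. -/
theorem exists_two_primes (hns : ¬ Group.IsSolvable G) :
    ∃ r s : ℕ, r.Prime ∧ s.Prime ∧ r ≠ s ∧ r ∣ b ∧ s ∣ b ∧ ¬ r ∣ Nat.card (Cn v) ∧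
      ¬ s ∣ Nat.card (Cn v) := by
  by_contra hno
  push Not at hno
  apply hns
  apply solvable_of_commutator
  by_cases h1 : ∃ r : ℕ, r.Prime ∧ r ∣ b ∧ ¬ r ∣ Nat.card (Cn v)
  · obtain ⟨r, hr, hrb, hrH⟩ := h1
    haveI := Fact.mk hr
    obtain ⟨Q⟩ : Nonempty (Sylow r G) := inferInstance
    refine solvable_of_normal_cover (commutator G) (Cn v) (Q : Subgroup G)
      (D.nilpotent_cn hp hv hvc) Q.2.isNilpotent fun s hs hsG => ?_
    by_cases hsH : s ∣ Nat.card (Cn v)
    · refine Or.inl ?_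
      show ¬ s ∣ cs v; rw [hvc]; exact D.hall hp hv hvc hs hsH
    · haveI := Fact.mk hs
      have hsb : s ∣ b := by
        by_contra h
        exact D.not_dvd_derived hp hv hvc hns hsH h hsG
      obtain rfl : r = s := by
        by_contra hne
        exact hsH (hno r s hr hs hne hrb hsb hrH)
      exact Or.inr Q.not_dvd_index
  · push Not at h1
    refine solvable_of_normal_cover (commutator G) (Cn v) (Cn v) (D.nilpotent_cn hp hv hvc)
      (D.nilpotent_cn hp hv hvc) fun s hs hsG => Or.inl (show ¬ s ∣ cs v from ?_)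
    rw [hvc]
    refine D.hall hp hv hvc hs ?_
    by_contra hsH
    haveI := Fact.mk hs
    exact D.not_dvd_derived hp hv hvc hns hsH (fun h => hsH (h1 s hs h)) hsG

end CSide

end Mix

end Cfsg.Agent.ThreeSizes56
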