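import Cfsg.Agent.Lib.ThreeSizes56TwoPrime
import Cfsg.Agent.Lib.ThreeSizes56Even
import Cfsg.Agent.S2202
import Cfsg.Agent.S5748
import Cfsg.Agent.Lib.PSLCard

/-!
# Abelian centralisers of involutions from few class sizes
-/

set_option autoImplicit false
set_option linter.style.haveILetI false
set_option linter.unusedSectionVars false

namespace Cfsg.Agent.ThreeSizes56

open Cfsg.Agent.ClassSizeGraph76 (cs cls)
open Cfsg.Agent.TwoRegSizes38 (Cn IsPE mem_cn self_mem_cn)
open Cfsg.Agent.CaminaSizes63 (cs_eq_one_iff cs_dvd_of_le cn_eq_of_le mem_cn_symm)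
open Subgroup (centralizer normalizer)

universe u

variable {G : Type u} [Group G] [Finite G]

/-- The centralisers of involutions are abelian. -/
def Abel2 (G : Type u) [Group G] : Prop := ∀ t : G, orderOf t = 2 → Ab (Cn t)

theorem two_dvd_card (hns : ¬ Group.IsSolvable G) : 2 ∣ Nat.card G := by
  by_contra h
  exact hns (solvable_of_two fun h2 => h (h2.trans (Subgroup.card_subgroup_dvd_card _)))

theorem psl_of_abel2 (hZ : Subgroup.center G = ⊥) (hns : ¬ Group.IsSolvable G) (hcm : Abel2 G) :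
    ∃ a : ℕ, 0 < a ∧ Nonempty (G ≃* Matrix.ProjectiveSpecialLinearGroup (Fin 2) (GaloisField 2 a)) := by
  classical
  haveI := Fact.mk Nat.prime_two
  have heven := two_dvd_card hns
  obtain ⟨P⟩ : Nonempty (Sylow 2 G) := inferInstance
  rcases S2202.result (even_iff_two_dvd.2 heven) (fun t ht =>
      ⟨⟨fun x y => Subtype.ext (hcm t ht x x.2 y y.2)⟩⟩) with h | h | h
  · refine absurd (solvable_of_two (not_dvd_commutator P ?_)) hns
    have hmin : (Nat.card G).minFac = 2 := Nat.minFac_eq_two_iff _ |>.2 heven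
    exact IsCyclic.normalizer_le_centralizer hmin (h P)
  · refine absurd ?_ hns
    haveI := h P
    haveI : Group.IsSolvable (P : Subgroup G) := by
      haveI := P.2.isNilpotent
      infer_instance
    haveI : Group.IsSolvable (G ⧸ (P : Subgroup G)) := S0205.result (Nat.not_even_iff_odd.1 fun e =>
      P.not_dvd_index (by rw [Subgroup.index_eq_card]; exact even_iff_two_dvd.1 e))
    exact Group.isSolvable_of_ker_le_range (P : Subgroup G).subtype
      (QuotientGroup.mk' (P : Subgroup G)) (by rw [QuotientGroup.ker_mk', Subgroup.range_subtype])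
  · obtain ⟨F, iF, iFt, A, iA, iAf, hch, -, ⟨e⟩⟩ := h
    haveI : Subsingleton A := ⟨fun x y => by
      suffices hone : ∀ z : A, z = 1 by rw [hone x, hone y]
      intro z
      have hc : e.symm (1, z) ∈ Subgroup.center G := by
        refine Subgroup.mem_center_iff.2 fun g => e.injective ?_
        rw [map_mul, map_mul, e.apply_symm_apply]
        exact Prod.ext (by simp) (by simp [mul_comm])
      rw [hZ, Subgroup.mem_bot] at hc
      have := congrArg e hc
      rw [e.apply_symm_apply, map_one] at this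
      exact congrArg Prod.snd this⟩
    haveI : Unique A := uniqueOfSubsingleton 1
    haveI := hch
    obtain ⟨r, -, hr⟩ := FiniteField.card F 2
    have e' : G ≃* Matrix.ProjectiveSpecialLinearGroup (Fin 2) F :=
      (e.trans MulEquiv.prodUnique).trans (S5748.pslEquiv F).symm
    refine ⟨r, r.pos, ⟨e'.trans (PSLCard.pslEquivOfCard ?_)⟩⟩
    rw [Nat.card_eq_fintype_card, hr, GaloisField.card 2 r r.ne_zero]

theorem cn_conj_ab {g t : G} (h : Ab (Cn (g * t * g⁻¹))) : Ab (Cn t) := by
  intro x hx y hy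
  have := h _ (conj_mem_cn_iff (g := g) |>.2 hx) _ (conj_mem_cn_iff (g := g) |>.2 hy)
  rw [show g * x * g⁻¹ * (g * y * g⁻¹) = g * (x * y) * g⁻¹ by group,
    show g * y * g⁻¹ * (g * x * g⁻¹) = g * (y * x) * g⁻¹ by group] at this
  exact mul_left_cancel (mul_right_cancel this)

/-- It is enough to treat the involutions of one Sylow subgroup. -/
theorem abel2_of_sylow (P : Sylow 2 G) (h : ∀ t ∈ (P : Subgroup G), orderOf t = 2 → Ab (Cn t)) :
    Abel2 G := by
  intro t ht
  haveI := Fact.mk Nat.prime_two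
  obtain ⟨k, hk⟩ := CaminaSizes63.exists_conj_mem Nat.prime_two (isPE_self_of_orderOf ht)
    (H := (P : Subgroup G)) P.not_dvd_index
  refine cn_conj_ab (h _ hk ?_)
  rw [← ht]
  exact MulEquiv.orderOf_eq (MulAut.conj k) t

namespace Mix

variable {a b c : ℕ} (D : Mix G a b c)
include D

theorem abel2 (hns : ¬ Group.IsSolvable G) : Abel2 G := by
  haveI := Fact.mk Nat.prime_two
  obtain ⟨p, v, hp, hv, hvc⟩ := D.exists_part_c
  obtain ⟨g, hg⟩ := D.exa
  obtain ⟨s, w, hs, hw, hwa, -⟩ := D.exists_part_a hg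
  have heven2 : 2 ∣ b / a → False := fun h =>
    ({ mix := D, hns := hns, exc := ⟨p, v, hp, hv, hvc⟩, pe := ⟨s, hs, hw⟩, ua := hwa, two := h } :
      Even2 G a b c w).false
  by_cases h2 : 2 ∣ Nat.card (Cn v)
  · rcases D.pgroup_or_abelian hp hv hvc with h | h
    · haveI := Fact.mk hp
      obtain ⟨i, hi⟩ := IsPGroup.iff_card.1 h
      obtain rfl := (Nat.prime_dvd_prime_iff_eq Nat.prime_two hp).1
        (Nat.prime_two.dvd_of_dvd_pow (hi ▸ h2))
      by_cases hk : 2 ∣ b / a
      · exact (heven2 hk).elim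
      · exact (D.even_false hv hvc h hns hk).elim
    · obtain ⟨P, hP⟩ := D.exists_sylow_le hp hv hvc h2
      refine abel2_of_sylow P fun t ht hto => ?_
      rw [D.cn_of_mem_abelian hvc h (hP ht) (fun e => by rw [e, orderOf_one] at hto; omega)]
      exact h
  · by_cases hb : 2 ∣ b
    · refine (heven2 ?_).elim
      rw [← D.k_mul] at hb
      exact (Nat.prime_two.dvd_mul.1 hb).resolve_left fun e => h2 (e.trans (D.a_dvd_card hvc))
    · exact absurd (solvable_of_two (D.not_dvd_derived hp hv hvc hns h2 hb)) hns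

end Mix

section Antichain

variable (hZ : Subgroup.center G = ⊥)
  (hanti : ∀ x y : G, x ≠ 1 → y ≠ 1 → cs y ∣ cs x → cs x = cs y)

include hanti in
theorem anti_le {x y : G} (hx : x ≠ 1) (hy : y ≠ 1) (h : Cn x ≤ Cn y) : Cn x = Cn y :=
  cn_eq_of_le h (hanti x y hx hy (cs_dvd_of_le h))

include hanti in
theorem anti_comm {p r : ℕ} (hp : p.Prime) (hr : r.Prime) (hne : p ≠ r) {x y : G} (hx : IsPE p x)
    (hy : IsPE r y) (h : y ∈ Cn x) (hx1 : x ≠ 1) (hy1 : y ≠ 1) : Cn x = Cn y := by
  have hxy : x * y ≠ 1 := fun e => hx1 (CaminaSizes63.isPE_eq_one_or hp hr hx (by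
    rw [eq_inv_of_mul_eq_one_left e]
    obtain ⟨j, hj⟩ := hy
    exact ⟨j, by rw [orderOf_inv, hj]⟩) hne)
  rw [← anti_le hanti hxy hx1 (cn_mul_le_left hp hr hne hx hy h),
    anti_le hanti hxy hy1 (cn_mul_le_right hp hr hne hx hy h)]

include hZ hanti in
theorem abel2_of_antichain (hns : ¬ Group.IsSolvable G) : Abel2 G := by
  classical
  haveI := Fact.mk Nat.prime_two
  have h2G := two_dvd_card hns
  have h2 := Nat.prime_two
  obtain ⟨P⟩ : Nonempty (Sylow 2 G) := inferInstance
  obtain ⟨z, hzP, hzo, hPz⟩ := exists_sylow_central P h2G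
  have hz := isPE_self_of_orderOf hzo
  have hz1 : z ≠ 1 := fun e => by rw [e, orderOf_one] at hzo; omega
  suffices hab : Ab (Cn z) by
    refine abel2_of_sylow P fun t ht hto => ?_
    have ht1 : t ≠ 1 := fun e => by rw [e, orderOf_one] at hto; omega
    rw [← anti_le hanti hz1 ht1 fun g hg => mem_cn.2 (hab g hg t (hPz ht))]
    exact hab
  by_cases hodd : ∃ (r : ℕ) (y : G), r.Prime ∧ r ≠ 2 ∧ IsPE r y ∧ y ∈ Cn z ∧ y ≠ 1
  · obtain ⟨r, y, hr, hr2, hy, hym, hy1⟩ := hodd
    have hyz := anti_comm hanti h2 hr hr2.symm hz hy hym hz1 hy1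
    refine ab_of_pe _ fun s w hs hw hwm => ?_
    by_cases hw1 : w = 1
    · rw [hw1]; exact cn_le_center (Subgroup.one_mem _) _
    by_cases hs2 : s = 2
    · subst hs2
      rw [hyz, anti_comm hanti hr h2 hr2 hy hw (hyz ▸ hwm) hy1 hw1]
    · rw [anti_comm hanti h2 hs (Ne.symm hs2) hz hw hwm hz1 hw1]
  push Not at hodd
  -- the centralisers of the non-trivial elements of a Sylow subgroup are Sylow subgroups
  have hzP' : Cn z = (P : Subgroup G) := by
    refine P.3 (IsPGroup.iff_orderOf.2 fun g => ?_) hPz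
    refine ⟨_, (Subgroup.orderOf_coe g).symm.trans (Nat.eq_prime_pow_of_unique_prime_dvd
      (orderOf_pos _).ne' fun {r} hr hd => ?_)⟩
    by_contra hr2
    have hwo : orderOf ((g : G) ^ (orderOf (g : G) / r)) = r :=
      orderOf_pow_orderOf_div (orderOf_pos _).ne' hd
    have := hodd r _ hr hr2 (isPE_self_of_orderOf hwo) ((Cn z).pow_mem g.2 _)
    rw [this, orderOf_one] at hwo
    exact hr.ne_one hwo.symm
  have hsyl : ∀ s ∈ (P : Subgroup G), s ≠ 1 → ∃ Q : Sylow 2 G, Cn s = (Q : Subgroup G) := by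
    intro s hs hs1
    have hsp : IsPE 2 s := IsPE.of_mem_pgroup P.2 hs
    have hp : IsPGroup 2 (Cn s) := by
      refine IsPGroup.iff_orderOf.2 fun g => ?_
      refine ⟨_, (Subgroup.orderOf_coe g).symm.trans (Nat.eq_prime_pow_of_unique_prime_dvd
        (orderOf_pos _).ne' fun {r} hr hd => ?_)⟩
      by_contra hr2
      set w := (g : G) ^ (orderOf (g : G) / r)
      have hwo : orderOf w = r := orderOf_pow_orderOf_div (orderOf_pos _).ne' hd
      have hw1 : w ≠ 1 := fun e => by rw [e, orderOf_one] at hwo; exact hr.ne_one hwo.symm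
      have he := anti_comm hanti h2 hr (Ne.symm hr2) hsp (isPE_self_of_orderOf hwo)
        ((Cn s).pow_mem g.2 _) hs1 hw1
      exact hw1 (hodd r w hr hr2 (isPE_self_of_orderOf hwo)
        (mem_cn_symm (he ▸ mem_cn_symm (hPz hs))))
    obtain ⟨Q, hQ⟩ := hp.exists_le_sylow
    refine ⟨Q, Subgroup.eq_of_le_of_card_ge hQ ?_⟩
    have hd : Nat.card (Cn s) ∣ Nat.card (Cn z) := by
      rw [hzP', P.card_eq_multiplicity, ← Q.card_eq_multiplicity]
      exact Subgroup.card_dvd_of_le hQ
    have hcd : cs z ∣ cs s := by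
      obtain ⟨k, hk⟩ := hd
      have e1 := (Cn s).card_mul_index
      have e2 := (Cn z).card_mul_index
      rw [hk, ← e1, mul_assoc] at e2
      exact ⟨k, by rw [mul_comm]; exact (Nat.eq_of_mul_eq_mul_left Nat.card_pos e2).symm⟩
    have he := hanti s z hs1 hz1 hcd
    have e1 := (Cn s).card_mul_index
    have e2 := (Cn z).card_mul_index
    rw [show (Cn s).index = (Cn z).index from he, ← e2] at e1
    rw [Nat.eq_of_mul_eq_mul_right (Nat.pos_of_ne_zero Subgroup.index_ne_zero_of_finite) e1, hzP',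
      P.card_eq_multiplicity, Q.card_eq_multiplicity]
  -- if a Sylow subgroup is not abelian, it has exponent `2`
  by_contra hnab
  rw [hzP'] at hnab
  have hexp : ∀ Q : Sylow 2 G, ∀ s ∈ (Q : Subgroup G), (Q : Subgroup G) ≤ Cn s → s * s = 1 := by
    intro Q s hsQ hsc
    obtain ⟨g, hg⟩ := MulAction.exists_smul_eq G P Q
    obtain ⟨s', hs', hes⟩ : s ∈ (P : Subgroup G).map (MulAut.conj g).toMonoidHom := by
      rw [← hg, Sylow.coe_subgroup_smul] at hsQ; exact hsQ
    have hc' : (P : Subgroup G) ≤ Cn s' := fun w hw => by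
      have : g * w * g⁻¹ ∈ Cn (g * s' * g⁻¹) := by
        rw [show g * s' * g⁻¹ = s from hes]
        refine hsc ?_
        rw [← hg, Sylow.coe_subgroup_smul]
        exact ⟨w, hw, rfl⟩
      exact conj_mem_cn_iff.1 this
    suffices h : s' * s' = 1 by
      rw [← hes]
      show g * s' * g⁻¹ * (g * s' * g⁻¹) = 1
      rw [show g * s' * g⁻¹ * (g * s' * g⁻¹) = g * (s' * s') * g⁻¹ by group, h]; group
    -- a non-central element with central square is an involution
    have hsq : ∀ x ∈ (P : Subgroup G), ¬ (P : Subgroup G) ≤ Cn x →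
        (P : Subgroup G) ≤ Cn (x * x) → x * x = 1 := by
      intro x hx hxn hxx
      by_contra hne
      have hx1 : x ≠ 1 := fun e => hne (by rw [e, one_mul])
      have hle : Cn x ≤ Cn (x * x) := by
        have := cn_le_pow x 2; rwa [pow_two] at this
      obtain ⟨Q', hQ'⟩ := hsyl (x * x) (mul_mem hx hx) hne
      have hPQ : (P : Subgroup G) = Cn (x * x) := by
        rw [hQ'] at hxx ⊢
        exact (P.3 Q'.2 hxx).symm
      exact hxn ((anti_le hanti hx1 hne hle).trans hPQ.symm).ge
    obtain ⟨x, hx, hxn, hxx⟩ : ∃ x ∈ (P : Subgroup G), ¬ (P : Subgroup G) ≤ Cn x ∧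
        (P : Subgroup G) ≤ Cn (x * x) := by
      by_contra hno
      push Not at hno
      refine hnab fun x hx y hy => ?_
      by_contra hne
      have hyn : ¬ (P : Subgroup G) ≤ Cn y := fun h => hne (mem_cn.1 (h hx))
      have key : ∀ n : ℕ, ¬ (P : Subgroup G) ≤ Cn (y ^ 2 ^ n) := by
        intro n
        induction n with
        | zero => rwa [pow_zero, pow_one]
        | succ n ih =>
          rw [pow_succ, pow_mul, pow_two]
          exact hno _ (pow_mem hy _) ih
      obtain ⟨j, hj⟩ := IsPE.of_mem_pgroup P.2 hy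
      refine key j ?_
      rw [← hj, pow_orderOf_eq_one]
      exact cn_le_center (Subgroup.one_mem _) _
    have hx2 := hsq x hx hxn hxx
    have hc : Commute x s' := mem_cn_comm.1 (hc' hx)
    have hxs := hsq (x * s') (mul_mem hx hs') (fun h => hxn fun w hw => ?_) ?_
    · rwa [mul_assoc, ← mul_assoc s', ← hc.eq, mul_assoc x s', ← mul_assoc x x, hx2,
        one_mul] at hxs
    · have h3 := (mem_cn_comm.1 (h hw)).mul_right (mem_cn_comm.1 (hc' hw)).inv_right
      rw [mul_inv_cancel_right] at h3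
      exact mem_cn.2 h3.eq
    · rw [mul_assoc, ← mul_assoc s', ← hc.eq, mul_assoc x s', ← mul_assoc x x, hx2, one_mul]
      exact fun w hw => mem_cn.2 ((mem_cn_comm.1 (hc' hw)).mul_right (mem_cn_comm.1 (hc' hw))).eq
  have hall : ∀ s ∈ (P : Subgroup G), s * s = 1 := by
    intro s hs
    by_cases hs1 : s = 1
    · rw [hs1, one_mul]
    obtain ⟨Q, hQ⟩ := hsyl s hs hs1
    exact hexp Q s (hQ ▸ self_mem_cn s) hQ.ge
  exact hnab fun x hx y hy => commute_of_sq (hall x hx) (hall y hy) (hall _ (mul_mem hx hy))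

end Antichain

end Cfsg.Agent.ThreeSizes56
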