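import Cfsg.Agent.Lib.ThreeSizes56Centre

/-!
# Three class sizes: `b / a` even is impossible

Inside the centraliser `C` of an element of class size `a` the centralisers `D` of noncentral
prime power elements are abelian, so they form a partition modulo the centre `A`; the
fixed-point-free actions of Sylow subgroups on them give `k < |D : A|`, against `|D : A| ≤ k`.
-/

set_option autoImplicit false
set_option linter.style.haveILetI false
set_option linter.unusedSectionVars false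

namespace Cfsg.Agent.ThreeSizes56

open Cfsg.Agent.ClassSizeGraph76 (cs cls)
open Cfsg.Agent.TwoRegSizes38 (Cn IsPE mem_cn self_mem_cn)
open Cfsg.Agent.CaminaSizes63 (cs_eq_one_iff cs_dvd_of_le cn_eq_of_le mem_cn_symm)
open Subgroup (centralizer normalizer zpowers)
open scoped Pointwise

universe u

variable {G : Type u} [Group G] [Finite G] {a b c : ℕ}

/-- The data: the centraliser `C = Cn u` and `b / a` even. -/
structure Even2 (G : Type u) [Group G] (a b c : ℕ) (u : G) : Prop where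
  mix : Mix G a b c
  hns : ¬ Group.IsSolvable G
  exc : ∃ (p : ℕ) (v : G), p.Prime ∧ IsPE p v ∧ cs v = c
  pe : ∃ s : ℕ, s.Prime ∧ IsPE s u
  ua : cs u = a
  two : 2 ∣ b / a

theorem exists_central_ext {X : Subgroup G} {r : ℕ} [Fact r.Prime] {T : Subgroup G} (hTX : T ≤ X)
    (hT : IsPGroup r T) (hidx : ¬ r ∣ T.relIndex X) {z : G} (hz : IsPE r z) (hzX : z ∈ X)
    (hc : T ≤ Cn z) : z ∈ T := by
  obtain ⟨j, hj⟩ := hz
  have hzp : IsPGroup r (zpowers z) := IsPGroup.of_card (n := j) (by rw [Nat.card_zpowers, hj])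
  have hnorm : zpowers z ≤ normalizer (T : Set G) := Subgroup.zpowers_le.2
    (Subgroup.centralizer_le_normalizer _ (Subgroup.mem_centralizer_iff.2 fun w hw => mem_cn.1 (hc hw)))
  have hsup : IsPGroup r ↥(zpowers z ⊔ T) := hzp.to_sup_of_normal_right' hT hnorm
  have hle : zpowers z ⊔ T ≤ X := sup_le (Subgroup.zpowers_le.2 hzX) hTX
  obtain ⟨i, hi⟩ := IsPGroup.iff_card.1 hsup
  have h1 : Nat.card ↥(zpowers z ⊔ T) ∣ Nat.card T * T.relIndex X := by
    rw [HallCore.card_mul_relIndex hTX]; exact Subgroup.card_dvd_of_le hle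
  rw [hi] at h1
  have h2 := hi ▸ (((Nat.Prime.coprime_iff_not_dvd Fact.out).2 hidx).pow_left i).dvd_of_dvd_mul_right h1
  rw [Subgroup.eq_of_le_of_card_ge le_sup_right (Nat.le_of_dvd Nat.card_pos h2)]
  exact Subgroup.mem_sup_left (Subgroup.mem_zpowers z)

/-- The centraliser of `x` inside `C = Cn u`. -/
def dd (u x : G) : Subgroup G := Cn u ⊓ Cn x

theorem mem_dd {u x g : G} : g ∈ dd u x ↔ g ∈ Cn u ∧ g ∈ Cn x := Iff.rfl

theorem center_le_dd {u x a : G} (hx : x ∈ Cn u) (ha : a ∈ Cn u) (hc : Cn u ≤ Cn a) :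
    a ∈ dd u x := ⟨ha, mem_cn_symm (hc hx)⟩

/-- A subgroup is abelian. -/
def Ab (X : Subgroup G) : Prop := ∀ x ∈ X, ∀ y ∈ X, x * y = y * x

theorem ab_of_pe (X : Subgroup G)
    (h : ∀ (r : ℕ) (y : G), r.Prime → IsPE r y → y ∈ X → X ≤ Cn y) : Ab X := by
  intro x hx y hy
  have hy' : y ∈ centralizer (X : Set G) := by
    refine S4138.mem_of_primePow _ y fun k s i hs hsi => ?_
    exact Subgroup.mem_centralizer_iff.2 fun g hg =>
      mem_cn.1 (h s _ hs ⟨i, hsi⟩ (X.pow_mem hy k) hg)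
  exact Subgroup.mem_centralizer_iff.1 hy' x hx

theorem commute_of_sq {x y : G} (hx : x * x = 1) (hy : y * y = 1) (hxy : x * y * (x * y) = 1) :
    x * y = y * x := by
  have h1 : x⁻¹ = x := inv_eq_of_mul_eq_one_right hx
  have h2 : y⁻¹ = y := inv_eq_of_mul_eq_one_right hy
  calc x * y = (x * y)⁻¹ := (inv_eq_of_mul_eq_one_right hxy).symm
    _ = y * x := by rw [mul_inv_rev, h1, h2]

namespace Even2

variable {u : G} (E : Even2 G a b c u)
include E

theorem centre {r : ℕ} (hr : r.Prime) (hrk : r ∣ b / a) :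
    ∃ z : G, orderOf z = r ∧ cs z = a ∧ Cn z = Cn u ∧ z ∈ Cn u := by
  obtain ⟨p, v, hp, hv, hvc⟩ := E.exc
  obtain ⟨s, hs, hu⟩ := E.pe
  exact E.mix.exists_center_elt hp hv hvc E.hns hs hr hu E.ua hrk

theorem k_prime_ne (r : ℕ) : ∃ s : ℕ, s.Prime ∧ s ≠ r ∧ s ∣ b / a := by
  obtain ⟨p, v, hp, hv, hvc⟩ := E.exc
  obtain ⟨s, hs, hne, hd, -⟩ := E.mix.exists_k_prime_ne hp hv hvc E.hns r
  exact ⟨s, hs, hne, hd⟩

theorem index_dd {r : ℕ} (hr : r.Prime) {y : G} (hy : IsPE r y) (hm : y ∈ Cn u)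
    (hn : ¬ Cn u ≤ Cn y) : (dd u y).index = b := by
  obtain ⟨p, v, hp, hv, hvc⟩ := E.exc
  obtain ⟨s, hs, hu⟩ := E.pe
  exact (E.mix.inner_all hp hv hvc E.hns hs hr hu E.ua hy hm).resolve_left hn

theorem card_dd {r t : ℕ} (hr : r.Prime) (ht : t.Prime) {x y : G} (hx : IsPE r x) (hy : IsPE t y)
    (hxm : x ∈ Cn u) (hym : y ∈ Cn u) (hxn : ¬ Cn u ≤ Cn x) (hyn : ¬ Cn u ≤ Cn y) :
    Nat.card (dd u x) = Nat.card (dd u y) := by
  have h1 := (dd u x).card_mul_index
  have h2 := (dd u y).card_mul_index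
  rw [E.index_dd hr hx hxm hxn] at h1
  rw [E.index_dd ht hy hym hyn] at h2
  exact Nat.eq_of_mul_eq_mul_right (E.mix.a_pos.trans E.mix.lt) (h1.trans h2.symm)

theorem type_in {r : ℕ} (hr : r.Prime) {y : G} (hy : IsPE r y) (hm : y ∈ Cn u)
    (hn : ¬ Cn u ≤ Cn y) : cs y = a ∨ cs y = b := by
  obtain ⟨p, v, hp, hv, hvc⟩ := E.exc
  obtain ⟨s, hs, hu⟩ := E.pe
  rcases E.mix.cases y (fun e => hn (e ▸ cn_le_center (Subgroup.one_mem _) _)) with e | e | e
  · exact Or.inl e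
  · exact Or.inr e
  · exact absurd e (E.mix.not_c_in hp hv hvc E.hns hs hr hu E.ua hy hm)

theorem dd_of_b {r : ℕ} (hr : r.Prime) {y : G} (hy : IsPE r y) (hm : y ∈ Cn u) (hb : cs y = b) :
    dd u y = Cn y := by
  obtain ⟨p, v, hp, hv, hvc⟩ := E.exc
  obtain ⟨s, hs, hu⟩ := E.pe
  exact inf_eq_right.2 (E.mix.cn_le_of_b hp hv hvc E.hns hs hr hu E.ua hy hm hb)

/-- The partner of an element of class size `a` for the prime `t`. -/
theorem partner {r : ℕ} (hr : r.Prime) {x : G} (hx : IsPE r x) (hxm : x ∈ Cn u)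
    (hxn : ¬ Cn u ≤ Cn x) (hxa : cs x = a) {t : ℕ} (ht : t.Prime) (htk : t ∣ b / a) :
    ∃ w : G, IsPE t w ∧ w ∈ Cn u ∧ ¬ Cn u ≤ Cn w ∧ Cn w = Cn x := by
  obtain ⟨p, v, hp, hv, hvc⟩ := E.exc
  obtain ⟨w, hwo, -, hwe, hwm⟩ := E.mix.exists_center_elt hp hv hvc E.hns hr ht hx hxa htk
  obtain ⟨z, -, -, hze, hzm⟩ := E.centre ht htk
  refine ⟨w, isPE_self_of_orderOf hwo, ?_, hwe.symm ▸ hxn, hwe⟩
  rw [← hze]
  refine mem_cn_symm ?_
  rw [hwe]
  exact mem_cn_symm (hze.symm ▸ hxm)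

theorem exists_noncentral_prime {q : ℕ} (hq : q.Prime) (hqk : q ∣ b / a) :
    ∃ y : G, IsPE q y ∧ y ∈ Cn u ∧ ¬ Cn u ≤ Cn y := by
  by_contra hno
  push Not at hno
  haveI := Fact.mk hq
  obtain ⟨p, v, hp, hv, hvc⟩ := E.exc
  obtain ⟨r, y, hr, hy, hym, hyn⟩ := E.mix.exists_noncentral hp hv hvc E.hns E.ua
  obtain ⟨T, hTC, hT, hidx, -⟩ := exists_sylowIn (Cn u) q
  refine hidx (hqk.trans ?_)
  rw [← E.mix.index_inf_of_le E.ua (dd u y) inf_le_left (E.index_dd hr hy hym hyn)]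
  exact Subgroup.relIndex_dvd_of_le_left _ (le_inf hTC fun t ht =>
    mem_cn_symm (hno t (IsPE.of_mem_pgroup hT ht) (hTC ht) hym))

theorem exists_mem_dd {r : ℕ} (hr : r.Prime) {x : G} (hx : IsPE r x) (hxm : x ∈ Cn u)
    (hxn : ¬ Cn u ≤ Cn x) {q : ℕ} (hq : q.Prime) (hqk : q ∣ b / a) :
    ∃ y : G, IsPE q y ∧ y ∈ dd u x ∧ ¬ Cn u ≤ Cn y := by
  by_contra hno
  push Not at hno
  haveI := Fact.mk hq
  obtain ⟨y, hy, hym, hyn⟩ := E.exists_noncentral_prime hq hqk
  obtain ⟨T, hTD, hT, hidx, -⟩ := exists_sylowIn (dd u x) q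
  have hTc : ∀ t ∈ T, Cn u ≤ Cn t := fun t ht => hno t (IsPE.of_mem_pgroup hT ht) (hTD ht)
  have hTy : T ≤ dd u y := fun t ht => center_le_dd hym (hTD ht).1 (hTc t ht)
  have hidx' : ¬ q ∣ T.relIndex (dd u y) := by
    intro h
    apply hidx
    have e1 := HallCore.card_mul_relIndex hTD
    have e2 := HallCore.card_mul_relIndex hTy
    rw [E.card_dd hr hq hx hy hxm hym hxn hyn, ← e2] at e1
    rwa [Nat.eq_of_mul_eq_mul_left Nat.card_pos e1]
  exact hyn (hTc y (exists_central_ext hTy hT hidx' hy ⟨hym, self_mem_cn y⟩ fun t ht =>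
    (hTy ht).2))

theorem dd_eq_of_mem {r t : ℕ} (hr : r.Prime) (ht : t.Prime) {x y : G} (hx : IsPE r x)
    (hy : IsPE t y) (hxm : x ∈ Cn u) (hxn : ¬ Cn u ≤ Cn x) (hym : y ∈ Cn u)
    (hyn : ¬ Cn u ≤ Cn y) (hle : dd u x ≤ Cn y) : dd u x = dd u y :=
  Subgroup.eq_of_le_of_card_ge (le_inf inf_le_left hle)
    (E.card_dd ht hr hy hx hym hxm hyn hxn).le

theorem ab_of_b {r : ℕ} (hr : r.Prime) {x : G} (hx : IsPE r x) (hxm : x ∈ Cn u)
    (hxn : ¬ Cn u ≤ Cn x) (hb : cs x = b) : Ab (dd u x) := by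
  have he := E.dd_of_b hr hx hxm hb
  refine ab_of_pe _ fun t y ht hy hyd => ?_
  by_cases hc : Cn u ≤ Cn y
  · exact inf_le_left.trans hc
  by_cases htr : t = r
  swap
  · rw [he]
    exact E.mix.comm_b hr ht (Ne.symm htr) hx hy hb hyd.2
  subst htr
  obtain ⟨q, hq, hqt, hqk⟩ := E.k_prime_ne t
  rcases E.type_in hr hy hyd.1 hc with e | e
  · obtain ⟨w, hw, -, -, hwe⟩ := E.partner hr hy hyd.1 hc e hq hqk
    rw [he, ← hwe]
    exact E.mix.comm_b hr hq hqt.symm hx hw hb (mem_cn_symm (hwe.symm ▸ mem_cn_symm hyd.2))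
  · obtain ⟨w, hw, hwd, hwn⟩ := E.exists_mem_dd hr hx hxm hxn hq hqk
    have h1 : dd u x ≤ Cn w := by
      rw [he]; exact E.mix.comm_b hr hq hqt.symm hx hw hb hwd.2
    have h2 := E.dd_eq_of_mem hr hq hx hw hxm hxn hwd.1 hwn h1
    have hey := E.dd_of_b hr hy hyd.1 e
    have h3 : dd u y ≤ Cn w := by
      rw [hey]
      exact E.mix.comm_b hr hq hqt.symm hy hw e (mem_cn_symm (h1 hyd))
    have h4 := E.dd_eq_of_mem hr hq hy hw hyd.1 hc hwd.1 hwn h3
    rw [h2, ← h4]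
    exact inf_le_right

/-! ### Involutions -/

theorem sq_eq_one {z : G} (hzo : orderOf z = 2) (hze : Cn z = Cn u) {x : G} (hxm : x ∈ Cn u)
    (hxn : ¬ Cn u ≤ Cn x) (hxa : cs x = a) (hxza : cs (x * z) = a) : x * x = 1 := by
  by_contra hne
  have hc : Commute x z := mem_cn_comm.1 (hze.symm ▸ hxm)
  have hzz : z * z = 1 := by
    have := pow_orderOf_eq_one z; rwa [hzo, pow_two] at this
  have hle : Cn x ≤ Cn (x * x) := by
    have := cn_le_pow x 2; rwa [pow_two] at this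
  obtain ⟨he, hea⟩ := E.mix.eq_cn_of_central hxa hne hle
  have hle2 : Cn (x * z) ≤ Cn (x * x) := by
    have := cn_le_pow (x * z) 2
    rwa [hc.mul_pow, pow_two, pow_two, hzz, mul_one] at this
  obtain ⟨he2, -⟩ := E.mix.eq_cn_of_central hxza hne hle2
  have hxz : Cn x ≤ Cn u := by
    intro g hg
    have h2 : g ∈ Cn (x * z) := by rw [← he2, he]; exact hg
    rw [← hze]
    have h3 := (mem_cn_comm.1 hg).inv_right.mul_right (mem_cn_comm.1 h2)
    rw [inv_mul_cancel_left] at h3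
    exact mem_cn.2 h3.eq
  exact hxn (cn_eq_of_le hxz (hxa.trans E.ua.symm)).ge

theorem ab_of_all_a {z : G} (hzo : orderOf z = 2) (hze : Cn z = Cn u) (T : Subgroup G)
    (hTC : T ≤ Cn u) (hzT : z ∈ T) (h : ∀ t ∈ T, ¬ Cn u ≤ Cn t → cs t = a) : Ab T := by
  by_cases hall : ∀ t ∈ T, Cn u ≤ Cn t
  · exact fun x hx y hy => mem_cn.1 (hall y hy (hTC hx))
  push Not at hall
  obtain ⟨x, hx, hxn⟩ := hall
  have hzc : Cn u ≤ Cn z := hze.ge
  have key : ∀ t ∈ T, ¬ Cn u ≤ Cn t → t * t = 1 := by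
    intro t ht htn
    refine E.sq_eq_one hzo hze (hTC ht) htn (h t ht htn) (h _ (T.mul_mem ht hzT) fun hcon => htn ?_)
    intro g hg
    have h3 := (mem_cn_comm.1 (hcon hg)).mul_right (mem_cn_comm.1 (hzc hg)).inv_right
    rw [mul_inv_cancel_right] at h3
    exact mem_cn.2 h3.eq
  have all2 : ∀ t ∈ T, t * t = 1 := by
    intro t ht
    by_cases htn : Cn u ≤ Cn t
    · have hxtn : ¬ Cn u ≤ Cn (x * t) := by
        intro hcon
        apply hxn
        intro g hg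
        have h3 := (mem_cn_comm.1 (hcon hg)).mul_right (mem_cn_comm.1 (htn hg)).inv_right
        rw [mul_inv_cancel_right] at h3
        exact mem_cn.2 h3.eq
      have h1 := key _ (T.mul_mem hx ht) hxtn
      have hc : Commute x t := mem_cn_comm.1 (htn (hTC hx))
      rw [mul_assoc, ← mul_assoc t, ← hc.eq, ← mul_assoc, ← mul_assoc, key x hx hxn, one_mul] at h1
      exact h1
    · exact key t ht htn
  exact fun x hx y hy => commute_of_sq (all2 x hx) (all2 y hy) (all2 _ (T.mul_mem hx hy))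

/-- A `2`-subgroup of `dd u x` for a `2`-element `x` of class size `a` is abelian, or `dd u x` is. -/
theorem two_part {x : G} (hx : IsPE 2 x) (hxm : x ∈ Cn u) (hxn : ¬ Cn u ≤ Cn x)
    (T : Subgroup G) (hTD : T ≤ dd u x) (hT : IsPGroup 2 T) (hidx : ¬ 2 ∣ T.relIndex (dd u x)) :
    Ab T := by
  haveI := Fact.mk Nat.prime_two
  by_cases hb : ∃ w ∈ T, ¬ Cn u ≤ Cn w ∧ cs w = b
  · obtain ⟨w, hw, hwn, hwb⟩ := hb
    have hwp := IsPE.of_mem_pgroup hT hw
    have hab := E.ab_of_b Nat.prime_two hwp (hTD hw).1 hwn hwb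
    have hxw : x ∈ dd u w := ⟨hxm, mem_cn_symm (hTD hw).2⟩
    have hle : dd u w ≤ Cn x := fun g hg => mem_cn.2 (hab g hg x hxw)
    rw [← E.dd_eq_of_mem Nat.prime_two Nat.prime_two hwp hx (hTD hw).1 hwn hxm hxn hle] at hTD
    exact fun g hg h hh => hab g (hTD hg) h (hTD hh)
  · push Not at hb
    obtain ⟨z, hzo, -, hze, hzm⟩ := E.centre Nat.prime_two E.two
    have hzT : z ∈ T := exists_central_ext hTD hT hidx (isPE_self_of_orderOf hzo)
      (center_le_dd hxm hzm hze.ge) fun t ht => hze.symm ▸ (hTD ht).1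
    refine E.ab_of_all_a hzo hze T (hTD.trans inf_le_left) hzT fun t ht htn => ?_
    exact (E.type_in Nat.prime_two (IsPE.of_mem_pgroup hT ht) (hTD ht).1 htn).resolve_right
      (hb t ht htn)

theorem ab_dd_two {x : G} (hx : IsPE 2 x) (hxm : x ∈ Cn u) (hxn : ¬ Cn u ≤ Cn x)
    (hxa : cs x = a) : Ab (dd u x) := by
  classical
  haveI := Fact.mk Nat.prime_two
  by_cases hb : ∃ (r : ℕ) (y : G), r.Prime ∧ IsPE r y ∧ y ∈ dd u x ∧ ¬ Cn u ≤ Cn y ∧ cs y = b
  · obtain ⟨r, y, hr, hy, hyd, hyn, hyb⟩ := hb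
    have hab := E.ab_of_b hr hy hyd.1 hyn hyb
    rw [← E.dd_eq_of_mem hr Nat.prime_two hy hx hyd.1 hyn hxm hxn
      fun g hg => mem_cn.2 (hab g hg x ⟨hxm, mem_cn_symm hyd.2⟩)]
    exact hab
  push Not at hb
  obtain ⟨q, hq, hq2, hqk⟩ := E.k_prime_ne 2
  haveI := Fact.mk hq
  obtain ⟨w, hwo, hwa, hwe, hwm⟩ := E.centre hq hqk
  obtain ⟨x', hx', hx'm, hx'n, hx'e⟩ := E.partner Nat.prime_two hx hxm hxn hxa Nat.prime_two E.two
  have hwx' : x' ∈ Cn w := hwe.symm ▸ hx'm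
  set g := w * x' with hgdef
  have hwp := isPE_self_of_orderOf hwo
  have hg : Cn g = dd u x := by
    rw [hgdef, CaminaSizes63.cn_mul_isPE hq Nat.prime_two hq2 hwp hx' hwx', hwe, hx'e]; rfl
  have hgb : cs g = b := by
    show (Cn g).index = b
    rw [hg]; exact E.index_dd Nat.prime_two hx hxm hxn
  -- elements of the other primes are central
  have hother : ∀ (r : ℕ) (y : G), r.Prime → r ≠ 2 → r ≠ q → IsPE r y → y ∈ dd u x →
      dd u x ≤ Cn y := by
    intro r y hr hr2 hrq hy hyd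
    have hyg : y ∈ Cn g := hg.symm ▸ hyd
    have hog : orderOf g = orderOf w * orderOf x' :=
      (mem_cn_comm.1 hwx').symm.orderOf_mul_eq_mul_orderOf_of_coprime
        (hwp.coprime_coprime hx' ((Nat.coprime_primes hq Nat.prime_two).2 hq2))
    have hco : (orderOf g).Coprime (orderOf y) := by
      rw [hog]
      exact (hwp.coprime_coprime hy ((Nat.coprime_primes hq hr).2 hrq.symm)).mul_left
        (hx'.coprime_coprime hy ((Nat.coprime_primes Nat.prime_two hr).2 hr2.symm))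
    have hmul := CaminaSizes63.cn_mul (mem_cn_comm.1 hyg).symm hco
    have := E.mix.above_b hgb (hmul.le.trans inf_le_left)
    rw [← hg, ← this, hmul]
    exact inf_le_right
  obtain ⟨T, hTD, hT, hidx, -⟩ := exists_sylowIn (dd u x) 2
  have hTab := E.two_part hx hxm hxn T hTD hT hidx
  set K := dd u x ⊓ centralizer (T : Set G) with hK
  have hTK : T ≤ K := le_inf hTD fun t ht =>
    Subgroup.mem_centralizer_iff.2 fun s hs => hTab s hs t ht
  -- every odd element centralises a Sylow `2`-subgroup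
  have hodd : ∀ (r : ℕ) (y : G), r.Prime → r ≠ 2 → IsPE r y → y ∈ dd u x → ¬ Cn u ≤ Cn y →
      ∃ d ∈ dd u x, d⁻¹ * y * d ∈ K := by
    intro r y hr hr2 hy hyd hyn
    have hya : cs y = a := (E.type_in hr hy hyd.1 hyn).resolve_right (hb r y hr hy hyd hyn)
    obtain ⟨e, he, hem, hen, hee⟩ := E.partner hr hy hyd.1 hyn hya Nat.prime_two E.two
    have hdd : dd u e = dd u y := by unfold dd; rw [hee]
    obtain ⟨S, hS⟩ : ∃ S : Subgroup G, x ∈ S ∧ S ≤ dd u y ∧ IsPGroup 2 S ∧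
        ¬ 2 ∣ S.relIndex (dd u y) := by
      obtain ⟨j, hj⟩ := hx
      have hxp : IsPGroup 2 ((zpowers x).subgroupOf (dd u y)) :=
        IsPGroup.comap_subtype (IsPGroup.of_card (n := j) (by rw [Nat.card_zpowers, hj]))
      obtain ⟨Q, hQ⟩ := hxp.exists_le_sylow
      refine ⟨(Q : Subgroup (dd u y)).map (dd u y).subtype, ?_, Subgroup.map_subtype_le _, Q.2.map _,
        ?_⟩
      · exact ⟨⟨x, hxm, mem_cn_symm hyd.2⟩, hQ (Subgroup.mem_subgroupOf.2 (Subgroup.mem_zpowers x)),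
          rfl⟩
      · rw [Subgroup.relIndex, Subgroup.subgroupOf,
          Subgroup.comap_map_eq_self_of_injective (dd u y).subtype_injective]
        exact Q.not_dvd_index
    obtain ⟨hxS, hSy, hS2, hSidx⟩ := hS
    have hSab := E.two_part he hem hen S (hdd.symm ▸ hSy) hS2 (hdd.symm ▸ hSidx)
    have hSD : S ≤ dd u x := fun t ht => ⟨(hSy ht).1, mem_cn.2 (hSab t ht x hxS)⟩
    -- `S` and `T` are conjugate in `dd u x`
    have hSidx' : ¬ 2 ∣ S.relIndex (dd u x) := by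
      have e1 := HallCore.card_mul_relIndex hSy
      have e2 := HallCore.card_mul_relIndex hSD
      rw [E.card_dd hr Nat.prime_two hy hx hyd.1 hxm hyn hxn, ← e2] at e1
      rw [← Nat.eq_of_mul_eq_mul_left Nat.card_pos e1]; exact hSidx
    let PT : Sylow 2 (dd u x) :=
      (IsPGroup.comap_subtype hT : IsPGroup 2 (T.subgroupOf (dd u x))).toSylow hidx
    let PS : Sylow 2 (dd u x) :=
      (IsPGroup.comap_subtype hS2 : IsPGroup 2 (S.subgroupOf (dd u x))).toSylow hSidx'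
    obtain ⟨d, hd⟩ := MulAction.exists_smul_eq (dd u x) PT PS
    refine ⟨d, d.2, Subgroup.mem_inf.2 ⟨?_, Subgroup.mem_centralizer_iff.2 fun t ht => ?_⟩⟩
    · exact mul_mem (mul_mem (inv_mem d.2) hyd) d.2
    · have hmem : (d : G) * t * (d : G)⁻¹ ∈ S := by
        have : d * (⟨t, hTD ht⟩ : dd u x) * d⁻¹ ∈ (PS : Subgroup (dd u x)) := by
          rw [← hd, Sylow.coe_subgroup_smul]
          exact ⟨⟨t, hTD ht⟩, Subgroup.mem_subgroupOf.2 ht, rfl⟩
        exact Subgroup.mem_subgroupOf.1 this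
      have hcm := mem_cn.1 (hSy hmem).2
      calc t * ((d : G)⁻¹ * y * d) = (d : G)⁻¹ * ((d * t * (d : G)⁻¹) * y) * d := by group
        _ = (d : G)⁻¹ * (y * (d * t * (d : G)⁻¹)) * d := by rw [hcm]
        _ = _ := by group
  -- hence the `q`-part centralises `T`
  have hKtop : dd u x ≤ centralizer (T : Set G) := by
    have hrel : ∀ r : ℕ, r.Prime → r ≠ q → ¬ r ∣ K.relIndex (dd u x) := by
      intro r hr hrq
      haveI := Fact.mk hr
      by_cases hr2 : r = 2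
      · subst hr2
        exact fun h => hidx (h.trans (Subgroup.relIndex_dvd_of_le_left _ hTK))
      · obtain ⟨R, hRD, hR, hRidx, -⟩ := exists_sylowIn (dd u x) r
        refine fun h => hRidx (h.trans (Subgroup.relIndex_dvd_of_le_left _ ?_))
        exact le_inf hRD fun y hy => Subgroup.mem_centralizer_iff.2 fun t ht =>
          mem_cn.1 (hother r y hr hr2 hrq (IsPE.of_mem_pgroup hR hy) (hRD hy) (hTD ht))
    obtain ⟨Q, hQD, hQ, hQidx, -⟩ := exists_sylowIn (dd u x) q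
    have hcop : (K.subgroupOf (dd u x)).index.Coprime (Q.subgroupOf (dd u x)).index := by
      refine Nat.coprime_of_dvd fun r hr h1 h2 => ?_
      by_cases hrq : r = q
      · exact hQidx (hrq ▸ h2)
      · exact hrel r hr hrq h1
    have hprod := exists_mul (Q.subgroupOf (dd u x)) (K.subgroupOf (dd u x)) hcop.symm
    have hQK : Q ≤ K := by
      have htop : K.subgroupOf Q = ⊤ := by
        refine ClassSizeGraph76.eq_top_of_conj_cover _ fun y => ?_
        by_cases hyn : Cn u ≤ Cn (y : G)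
        · refine ⟨1, Subgroup.mem_subgroupOf.2 ?_⟩
          simp only [one_mul, inv_one, mul_one]
          exact ⟨hQD y.2, Subgroup.mem_centralizer_iff.2 fun t ht => mem_cn.1 (hyn (hTD ht).1)⟩
        obtain ⟨d, hd, hdK⟩ := hodd q y hq hq2 (IsPE.of_mem_pgroup hQ y.2) (hQD y.2) hyn
        obtain ⟨⟨m, hm⟩, hmQ, ⟨k, hk⟩, hkK, e⟩ := hprod ⟨d, hd⟩
        have e' : d = m * k := congrArg Subtype.val e
        refine ⟨⟨m, Subgroup.mem_subgroupOf.1 hmQ⟩⁻¹, Subgroup.mem_subgroupOf.2 ?_⟩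
        have hkK' : k ∈ K := Subgroup.mem_subgroupOf.1 hkK
        have h5 : m⁻¹ * (y : G) * m = k * (d⁻¹ * y * d) * k⁻¹ := by rw [e']; group
        show m⁻¹ * (y : G) * (m⁻¹)⁻¹ ∈ K
        rw [inv_inv, h5]
        exact mul_mem (mul_mem hkK' hdK) (inv_mem hkK')
      exact Subgroup.subgroupOf_eq_top.1 htop
    have h1 : K.relIndex (dd u x) = 1 := by
      by_contra hne
      obtain ⟨r, hr, hrd⟩ := Nat.exists_prime_and_dvd hne
      by_cases hrq : r = q
      · exact hQidx (hrq ▸ hrd.trans (Subgroup.relIndex_dvd_of_le_left _ hQK))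
      · exact hrel r hr hrq hrd
    exact (Subgroup.relIndex_eq_one.1 h1).trans inf_le_right
  -- now everything is central
  refine ab_of_pe _ fun r y hr hy hyd => ?_
  by_cases hyn : Cn u ≤ Cn y
  · exact inf_le_left.trans hyn
  by_cases hr2 : r = 2
  · subst hr2
    have hyT : y ∈ T := exists_central_ext hTD hT hidx hy hyd fun t ht =>
      mem_cn.2 (Subgroup.mem_centralizer_iff.1 (hKtop hyd) t ht)
    exact fun d hd => mem_cn.2 (Subgroup.mem_centralizer_iff.1 (hKtop hd) y hyT).symm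
  have hya : cs y = a := (E.type_in hr hy hyd.1 hyn).resolve_right (hb r y hr hy hyd hyn)
  obtain ⟨e, he, hem, hen, hee⟩ := E.partner hr hy hyd.1 hyn hya Nat.prime_two E.two
  have hed : e ∈ dd u x := ⟨hem, mem_cn_symm (hee ▸ mem_cn_symm hyd.2)⟩
  have heT : e ∈ T := exists_central_ext hTD hT hidx he hed fun t ht =>
    mem_cn.2 (Subgroup.mem_centralizer_iff.1 (hKtop hed) t ht)
  intro d hd
  rw [← hee]
  exact mem_cn.2 (Subgroup.mem_centralizer_iff.1 (hKtop hd) e heT).symm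

theorem ab_dd {r : ℕ} (hr : r.Prime) {x : G} (hx : IsPE r x) (hxm : x ∈ Cn u)
    (hxn : ¬ Cn u ≤ Cn x) : Ab (dd u x) := by
  rcases E.type_in hr hx hxm hxn with e | e
  · obtain ⟨w, hw, hwm, hwn, hwe⟩ := E.partner hr hx hxm hxn e Nat.prime_two E.two
    have hwa : cs w = a := by show (Cn w).index = a; rw [hwe]; exact e
    have hd : dd u x = dd u w := by unfold dd; rw [hwe]
    rw [hd]
    exact E.ab_dd_two hw hwm hwn hwa
  · exact E.ab_of_b hr hx hxm hxn e

/-! ### The inequality -/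

theorem dd_eq {r t : ℕ} (hr : r.Prime) (ht : t.Prime) {x y : G} (hx : IsPE r x) (hy : IsPE t y)
    (hxm : x ∈ Cn u) (hxn : ¬ Cn u ≤ Cn x) (hym : y ∈ dd u x) (hyn : ¬ Cn u ≤ Cn y) :
    dd u x = dd u y :=
  E.dd_eq_of_mem hr ht hx hy hxm hxn hym.1 hyn
    fun g hg => mem_cn.2 (E.ab_dd hr hx hxm hxn g hg y hym)

theorem zc_le_dd {x : G} (hxm : x ∈ Cn u) : E.mix.zc u ≤ dd u x := fun _ hg =>
  center_le_dd hxm (E.mix.mem_zc.1 hg).1 (E.mix.mem_zc.1 hg).2

theorem relIndex_dd {r : ℕ} (hr : r.Prime) {x : G} (hx : IsPE r x) (hxm : x ∈ Cn u)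
    (hxn : ¬ Cn u ≤ Cn x) : (dd u x).relIndex (Cn u) = b / a :=
  E.mix.index_inf_of_le E.ua _ inf_le_left (E.index_dd hr hx hxm hxn)

theorem zc_relIndex {r t : ℕ} (hr : r.Prime) (ht : t.Prime) {x y : G} (hx : IsPE r x)
    (hy : IsPE t y) (hxm : x ∈ Cn u) (hym : y ∈ Cn u) (hxn : ¬ Cn u ≤ Cn x)
    (hyn : ¬ Cn u ≤ Cn y) :
    (E.mix.zc u).relIndex (dd u x) = (E.mix.zc u).relIndex (dd u y) := by
  have e1 := HallCore.card_mul_relIndex (E.zc_le_dd hxm)
  have e2 := HallCore.card_mul_relIndex (E.zc_le_dd hym)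
  rw [E.card_dd hr ht hx hy hxm hym hxn hyn, ← e2] at e1
  exact Nat.eq_of_mul_eq_mul_left Nat.card_pos e1

theorem d_le_k {r : ℕ} (hr : r.Prime) {x : G} (hx : IsPE r x) (hxm : x ∈ Cn u)
    (hxn : ¬ Cn u ≤ Cn x) : (E.mix.zc u).relIndex (dd u x) ≤ b / a := by
  have hk : 1 < b / a := Nat.le_of_dvd
    (Nat.div_pos E.mix.lt.le E.mix.a_pos) E.two
  obtain ⟨g, hg, hgn⟩ : ∃ g ∈ Cn u, g ∉ dd u x := by
    by_contra hno
    push Not at hno
    have := E.relIndex_dd hr hx hxm hxn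
    rw [Subgroup.relIndex_eq_one.2 hno] at this
    omega
  obtain ⟨t, v, ht, hv, hvm, hvd⟩ : ∃ (t : ℕ) (v : G), t.Prime ∧ IsPE t v ∧ v ∈ Cn u ∧
      v ∉ dd u x := by
    by_contra hno
    push Not at hno
    exact hgn (S4138.mem_of_primePow _ g fun k s i hs hsi =>
      hno s _ hs ⟨i, hsi⟩ ((Cn u).pow_mem hg k))
  have hvn : ¬ Cn u ≤ Cn v := fun h => hvd (center_le_dd hxm hvm h)
  have hint : dd u x ⊓ dd u v = E.mix.zc u := by
    refine le_antisymm (fun g hg => ?_) (le_inf (E.zc_le_dd hxm) (E.zc_le_dd hvm))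
    refine S4138.mem_of_primePow _ g fun k s i hs hsi => ?_
    have hk1 : g ^ k ∈ dd u x := Subgroup.pow_mem _ hg.1 k
    have hk2 : g ^ k ∈ dd u v := Subgroup.pow_mem _ hg.2 k
    by_contra hgk
    have hn : ¬ Cn u ≤ Cn (g ^ k) := fun h => hgk (E.mix.mem_zc.2 ⟨hk1.1, h⟩)
    have e1 := E.dd_eq hr hs hx ⟨i, hsi⟩ hxm hxn hk1 hn
    have e2 := E.dd_eq ht hs hv ⟨i, hsi⟩ hvm hvn hk2 hn
    exact hvd (by rw [e1, ← e2]; exact ⟨hvm, self_mem_cn v⟩)
  have h4 := KegelWielandt.card_set_mul (dd u x) (dd u v)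
  rw [hint] at h4
  have hsub : Nat.card ((dd u x : Set G) * (dd u v : Set G) : Set G) ≤ Nat.card (Cn u) := by
    refine Nat.card_mono (Set.toFinite _) ?_
    rintro z ⟨i, hi, j, hj, rfl⟩
    exact (Cn u).mul_mem hi.1 hj.1
  have e1 := HallCore.card_mul_relIndex (E.zc_le_dd hxm)
  have e2 := HallCore.card_mul_relIndex (E.zc_le_dd hvm)
  have e3 := HallCore.card_mul_relIndex (show dd u x ≤ Cn u from inf_le_left)
  rw [E.relIndex_dd hr hx hxm hxn] at e3
  rw [← E.zc_relIndex hr ht hx hv hxm hvm hxn hvn] at e2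
  set d := (E.mix.zc u).relIndex (dd u x)
  set A := Nat.card (E.mix.zc u)
  have hA : 0 < A := Nat.card_pos
  have hd : 0 < d := Nat.pos_of_ne_zero fun e => by
    rw [e, mul_zero] at e1
    exact absurd e1.symm Nat.card_pos.ne'
  have key : A * d * (A * d) ≤ A * d * (b / a) * A := by
    calc A * d * (A * d) = Nat.card (dd u x) * Nat.card (dd u v) := congrArg₂ (· * ·) e1 e2
      _ ≤ Nat.card (Cn u) * A := by rw [← h4]; exact Nat.mul_le_mul_right _ hsub
      _ = _ := by rw [← e3, ← e1]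
  refine Nat.le_of_mul_le_mul_left ?_ (Nat.mul_pos (Nat.mul_pos hA hd) hA)
  calc A * d * A * d = A * d * (A * d) := by ring
    _ ≤ A * d * (b / a) * A := key
    _ = A * d * A * (b / a) := by ring

theorem prime_lt {p q : ℕ} (hp : p.Prime) (hq : q.Prime) (hne : p ≠ q) (hpk : p ∣ b / a)
    (hqk : q ∣ b / a) {x : G} {r : ℕ} (hr : r.Prime) (hx : IsPE r x) (hxm : x ∈ Cn u)
    (hxn : ¬ Cn u ≤ Cn x) :
    p ^ (b / a).factorization p < q ^ ((E.mix.zc u).relIndex (dd u x)).factorization q := by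
  classical
  haveI := Fact.mk hp
  haveI := Fact.mk hq
  obtain ⟨T, hTC, hT, hidx, -⟩ := exists_sylowIn (Cn u) p
  -- a noncentral element of `T` central modulo the centre
  obtain ⟨y, hyT, hyn, hyc⟩ : ∃ y ∈ T, ¬ Cn u ≤ Cn y ∧
      ∀ s ∈ T, y⁻¹ * (s * y * s⁻¹) ∈ E.mix.zc u := by
    let π := QuotientGroup.mk' (Subgroup.center (Cn u))
    have hne : (T.subgroupOf (Cn u)).map π ≠ ⊥ := by
      intro e
      obtain ⟨r', y', hr', hy', hy'm, hy'n⟩ : ∃ (r' : ℕ) (y' : G), r'.Prime ∧ IsPE r' y' ∧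
          y' ∈ Cn u ∧ ¬ Cn u ≤ Cn y' := ⟨r, x, hr, hx, hxm, hxn⟩
      refine hidx (hpk.trans ?_)
      rw [← E.relIndex_dd hr' hy' hy'm hy'n]
      refine Subgroup.relIndex_dvd_of_le_left _ (le_trans (fun t ht => ?_) (E.zc_le_dd hy'm))
      have h1 : (⟨t, hTC ht⟩ : Cn u) ∈ π.ker :=
        (Subgroup.map_eq_bot_iff _).1 e (Subgroup.mem_subgroupOf.2 ht)
      rw [QuotientGroup.ker_mk'] at h1
      exact ⟨⟨t, hTC ht⟩, h1, rfl⟩
    obtain ⟨z, hz, hzo, hzc⟩ := exists_central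
      ((IsPGroup.comap_subtype hT : IsPGroup p (T.subgroupOf (Cn u))).map π) hne
    obtain ⟨⟨y, hy⟩, hyT, rfl⟩ := hz
    have hyz : (⟨y, hy⟩ : Cn u) ∉ Subgroup.center (Cn u) := fun h => hp.ne_one (by
      rw [← hzo, show π ⟨y, hy⟩ = 1 from (QuotientGroup.eq_one_iff _).2 h, orderOf_one])
    refine ⟨y, Subgroup.mem_subgroupOf.1 hyT, fun h => hyz (Subgroup.mem_center_iff.2 fun g =>
      Subtype.ext (mem_cn.1 (h g.2))), fun s hs => ?_⟩
    have h1 := mem_cn.1 (hzc ⟨⟨s, hTC hs⟩, Subgroup.mem_subgroupOf.2 hs, rfl⟩)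
    have h2 : (⟨y, hy⟩ : Cn u)⁻¹ * (⟨s, hTC hs⟩ * ⟨y, hy⟩ * (⟨s, hTC hs⟩)⁻¹) ∈
        Subgroup.center (Cn u) := by
      rw [← QuotientGroup.eq_one_iff]
      show π _ = 1
      rw [map_mul, map_mul, map_mul, map_inv, map_inv, h1]
      group
    exact ⟨_, h2, rfl⟩
  have hyp : IsPE p y := IsPE.of_mem_pgroup hT hyT
  have hym := hTC hyT
  set D := dd u y with hD
  have hab : Ab D := E.ab_dd hp hyp hym hyn
  -- `T` normalises `D`
  have hnorm : ∀ s ∈ T, ∀ g ∈ D, s * g * s⁻¹ ∈ D := by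
    intro s hs g hg
    obtain ⟨hg1, hg2⟩ := mem_dd.1 hg
    refine mem_dd.2 ⟨mul_mem (mul_mem (hTC hs) hg1) (inv_mem (hTC hs)), ?_⟩
    have hmem : s * g * s⁻¹ ∈ Cn (s * y * s⁻¹) := conj_mem_cn_iff.2 hg2
    obtain ⟨hzC, hzc⟩ := E.mix.mem_zc.1 (hyc s hs)
    have h3 : s * g * s⁻¹ ∈ Cn (y⁻¹ * (s * y * s⁻¹)) :=
      hzc (mul_mem (mul_mem (hTC hs) hg1) (inv_mem (hTC hs)))
    have h4 := (mem_cn_comm.1 hmem).mul_right (mem_cn_comm.1 h3).inv_right
    rw [show (s * y * s⁻¹) * (y⁻¹ * (s * y * s⁻¹))⁻¹ = y by group] at h4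
    exact mem_cn.2 h4.eq
  obtain ⟨v, hv, hvD, hvn⟩ := E.exists_mem_dd hp hyp hym hyn hq hqk
  have hDv : D = dd u v := E.dd_eq hp hq hyp hv hym hyn hvD hvn
  obtain ⟨Q, hQD, hQ, hQidx, -⟩ := exists_sylowIn D q
  have hQmem : ∀ g ∈ D, IsPE q g → g ∈ Q := fun g hg hgq =>
    exists_central_ext hQD hQ hQidx hgq hg fun w hw => mem_cn.2 (hab w (hQD hw) g hg)
  set A := E.mix.zc u
  have hf : ∀ s : T, (s : G) * v * (s : G)⁻¹ ∈ Q := fun s => hQmem _ (hnorm s s.2 v hvD) (by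
    obtain ⟨j, hj⟩ := hv
    exact ⟨j, by rw [← hj]; exact MulEquiv.orderOf_eq (MulAut.conj (s : G)) v⟩)
  let f : Option (↥T ⧸ D.subgroupOf T) → ↥Q ⧸ A.subgroupOf Q := fun o => match o with
    | none => QuotientGroup.mk 1
    | some c => QuotientGroup.mk ⟨_, hf c.out⟩
  have hinj : Function.Injective f := by
    have hne1 : ∀ s : T, (s : G) * v * (s : G)⁻¹ ∉ A := fun s h => by
      obtain ⟨-, hc⟩ := E.mix.mem_zc.1 h
      refine hvn fun g hg => ?_
      have h1 : (s : G) * g * (s : G)⁻¹ ∈ Cn u :=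
        mul_mem (mul_mem (hTC s.2) hg) (inv_mem (hTC s.2))
      exact conj_mem_cn_iff.1 (hc h1)
    rintro (_ | c) (_ | c') h
    · rfl
    · exfalso
      have := QuotientGroup.eq.1 h
      rw [Subgroup.mem_subgroupOf, inv_one, one_mul] at this
      exact hne1 _ this
    · exfalso
      have := QuotientGroup.eq.1 h.symm
      rw [Subgroup.mem_subgroupOf, inv_one, one_mul] at this
      exact hne1 _ this
    · have h' := QuotientGroup.eq.1 h
      rw [Subgroup.mem_subgroupOf] at h'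
      simp only [Subgroup.coe_mul, Subgroup.coe_inv] at h'
      congr 1
      rw [← QuotientGroup.out_eq' c, ← QuotientGroup.out_eq' c', QuotientGroup.eq,
        Subgroup.mem_subgroupOf, Subgroup.coe_mul, Subgroup.coe_inv]
      set τ : T := c.out⁻¹ * c'.out with hτ
      set a₁ := ((c.out : G) * v * (c.out : G)⁻¹)⁻¹ * ((c'.out : G) * v * (c'.out : G)⁻¹) with ha₁
      obtain ⟨haC, hac⟩ := E.mix.mem_zc.1 h'
      have hvC : v ∈ Cn u := (mem_dd.1 hvD).1
      have hcomm : a₁ * (c.out : G) = (c.out : G) * a₁ :=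
        (mem_cn.1 (hac (hTC c.out.2))).symm
      have heq : (τ : G) * v * (τ : G)⁻¹ = a₁ * v := by
        rw [show a₁ * v = v * a₁ from (mem_cn.1 (hac hvC)).symm, hτ, Subgroup.coe_mul,
          Subgroup.coe_inv]
        calc (c.out : G)⁻¹ * (c'.out : G) * v * ((c.out : G)⁻¹ * (c'.out : G))⁻¹
            = v * ((c.out : G)⁻¹ * (a₁ * (c.out : G))) := by rw [ha₁]; group
          _ = v * a₁ := by rw [hcomm]; group
      have h7 := TwoRegSizes38.comm_of_coprime (G := Cn u) (g := ⟨τ, hTC τ.2⟩) (w := ⟨v, hvC⟩)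
        (z := ⟨a₁, haC⟩)
        (Subgroup.mem_center_iff.2 fun g => Subtype.ext (mem_cn.1 (hac g.2))) (Subtype.ext heq) (by
          rw [Subgroup.orderOf_mk, Subgroup.orderOf_mk]
          exact (IsPE.of_mem_pgroup hT τ.2).coprime_coprime hv ((Nat.coprime_primes hp hq).2 hne))
      show (τ : G) ∈ D
      rw [hDv]
      exact ⟨hTC τ.2, mem_cn.2 (congrArg Subtype.val h7)⟩
  have hle := Nat.card_le_card_of_injective f hinj
  rw [Finite.card_option, ← Subgroup.index_eq_card, ← Subgroup.index_eq_card] at hle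
  -- the `q`-side
  have hdq : A.relIndex Q ≤ q ^ (A.relIndex (dd u x)).factorization q := by
    obtain ⟨i, hi⟩ := IsPGroup.iff_card.1 hQ
    obtain ⟨j, -, hj⟩ : ∃ j ≤ i, A.relIndex Q = q ^ j :=
      (Nat.dvd_prime_pow hq).1 (hi ▸ (A.subgroupOf Q).index_dvd_card)
    haveI : (A.subgroupOf D).Normal := ⟨fun n hn g => by
      rw [show g * n * g⁻¹ = n by
        rw [mul_inv_eq_iff_eq_mul]
        exact Subtype.ext (hab g g.2 n n.2)]
      exact hn⟩
    have hdvd : A.relIndex Q ∣ A.relIndex (dd u x) := by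
      rw [E.zc_relIndex hr hp hx hyp hxm hym hxn hyn, ← Subgroup.relIndex_subgroupOf hQD]
      exact Subgroup.relIndex_dvd_index_of_normal _ _
    rw [hj] at hdvd ⊢
    refine Nat.pow_le_pow_right hq.pos ((hq.pow_dvd_iff_le_factorization ?_).1 hdvd)
    exact Subgroup.index_ne_zero_of_finite
  -- the `p`-side
  have hkp : p ^ (b / a).factorization p ≤ D.relIndex T := by
    have hpow : p ^ (b / a).factorization p ∣ b / a := Nat.ordProj_dvd _ _
    have e1 := HallCore.card_mul_relIndex hTC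
    have e2 := HallCore.card_mul_relIndex (show D ≤ Cn u from inf_le_left)
    rw [E.relIndex_dd hp hyp hym hyn, ← e1] at e2
    have e3 : Nat.card (D.subgroupOf T) * D.relIndex T = Nat.card T :=
      (D.subgroupOf T).card_mul_index
    have e4 : Nat.card (D.subgroupOf T) ∣ Nat.card D :=
      Subgroup.card_comap_dvd_of_injective _ _ T.subtype_injective
    have h5 : Nat.card (D.subgroupOf T) * p ^ (b / a).factorization p ∣
        Nat.card (D.subgroupOf T) * (D.relIndex T * T.relIndex (Cn u)) := by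
      rw [← mul_assoc, e3, ← e2]
      exact mul_dvd_mul e4 hpow
    exact Nat.le_of_dvd (Nat.pos_of_ne_zero Subgroup.index_ne_zero_of_finite)
      ((((Nat.Prime.coprime_iff_not_dvd hp).2 hidx).pow_left _).dvd_of_dvd_mul_right
        (Nat.dvd_of_mul_dvd_mul_left Nat.card_pos h5))
  exact lt_of_le_of_lt hkp (lt_of_lt_of_le hle hdq)

theorem false : False := by
  classical
  obtain ⟨q, hq, -, hqk⟩ := E.k_prime_ne 0
  obtain ⟨x, hx, hxm, hxn⟩ := E.exists_noncentral_prime hq hqk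
  have hd := E.d_le_k hq hx hxm hxn
  set k := b / a
  set d := (E.mix.zc u).relIndex (dd u x) with hddef
  have hd0 : d ≠ 0 := Subgroup.index_ne_zero_of_finite
  have hk0 : k ≠ 0 := (Nat.div_pos E.mix.lt.le E.mix.a_pos).ne'
  set S := k.primeFactors with hSdef
  have hS : ∀ {p : ℕ}, p ∈ S → p.Prime ∧ p ∣ k := fun h =>
    ⟨Nat.prime_of_mem_primeFactors h, Nat.dvd_of_mem_primeFactors h⟩
  have hqS : q ∈ S := Nat.mem_primeFactors.2 ⟨hq, hqk, hk0⟩
  obtain ⟨m, hm, hmax⟩ := S.exists_max_image (fun p => p ^ k.factorization p) ⟨q, hqS⟩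
  obtain ⟨o, ho, hom, hok⟩ := E.k_prime_ne m
  have hoS : o ∈ S := Nat.mem_primeFactors.2 ⟨ho, hok, hk0⟩
  have hlt : ∀ p ∈ S, ∀ p' ∈ S, p ≠ p' → p ^ k.factorization p < p' ^ d.factorization p' :=
    fun p hp p' hp' hne => E.prime_lt (hS hp).1 (hS hp').1 hne (hS hp).2 (hS hp').2 hq hx hxm hxn
  set σ := Equiv.swap m o with hσ
  have hσS : S.map σ.toEmbedding = S := by
    refine Finset.eq_of_subset_of_card_le (fun z hz => ?_) (by rw [Finset.card_map])
    obtain ⟨w, hw, rfl⟩ := Finset.mem_map.1 hz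
    show Equiv.swap m o w ∈ S
    rcases eq_or_ne w m with rfl | h1
    · rwa [Equiv.swap_apply_left]
    rcases eq_or_ne w o with rfl | h2
    · rwa [Equiv.swap_apply_right]
    · rwa [Equiv.swap_apply_of_ne_of_ne h1 h2]
  have hprod : ∏ p ∈ S, p ^ k.factorization p = k := by
    conv_rhs => rw [← Nat.prod_factorization_pow_eq_self hk0]
    rw [Finsupp.prod, Nat.support_factorization]
  have hdprod : ∏ p ∈ S, p ^ d.factorization p ≤ d := by
    refine Nat.le_of_dvd (Nat.pos_of_ne_zero hd0) ?_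
    have hgen : ∀ R : Finset ℕ, R ⊆ S → ∏ p ∈ R, p ^ d.factorization p ∣ d := by
      intro R
      induction R using Finset.induction_on with
      | empty => simp
      | insert p R hpR ih =>
        intro hsub
        rw [Finset.prod_insert hpR]
        refine Nat.Coprime.mul_dvd_of_dvd_of_dvd (Nat.Coprime.prod_right fun i hi => ?_)
          (Nat.ordProj_dvd _ _) (ih fun i hi => hsub (Finset.mem_insert_of_mem hi))
        exact ((Nat.coprime_primes (hS (hsub (Finset.mem_insert_self _ _))).1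
          (hS (hsub (Finset.mem_insert_of_mem hi))).1).2 (fun e => hpR (e ▸ hi))).pow _ _
    exact hgen S le_rfl
  have key : k < ∏ p ∈ S, p ^ d.factorization p := by
    conv_rhs => rw [← hσS, Finset.prod_map]
    conv_lhs => rw [← hprod]
    have hall : ∀ p ∈ S, p ^ k.factorization p < (σ p) ^ d.factorization (σ p) := by
      intro p hp
      rcases eq_or_ne p m with rfl | h1
      · rw [hσ, Equiv.swap_apply_left]; exact hlt _ hp _ hoS hom.symm
      rcases eq_or_ne p o with rfl | h2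
      · rw [hσ, Equiv.swap_apply_right]; exact hlt _ hp _ hm hom
      · rw [hσ, Equiv.swap_apply_of_ne_of_ne h1 h2]
        exact lt_of_le_of_lt (hmax p hp) (hlt m hm p hp h1.symm)
    exact Finset.prod_lt_prod_of_nonempty (fun p hp => pow_pos (hS hp).1.pos _) hall ⟨q, hqS⟩
  omega

end Even2

end Cfsg.Agent.ThreeSizes56
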