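import Cfsg.Agent.Lib.ThreeSizes63Rigid

/-!
# Three class sizes: every noncentral centralizer involves two primes modulo the centre

All centralizers of noncentral elements are abelian and form two classes of trivial intersection
subgroups; counting shows that one of them is normal.
-/

set_option autoImplicit false

namespace Cfsg.Agent.ThreeSizes63

open Cfsg.Agent.ClassSizeGraph76 (cs cs_pos cs_conj)
open Cfsg.Agent.TwoRegSizes38 (Cn IsPE mem_cn self_mem_cn center_le_cn bar)
open Cfsg.Agent.CaminaSizes63 (mem_cn_symm cs_eq_one_iff)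

universe u

variable {G : Type u} [Group G]

theorem Cj.exists_eq {w z : G} (h : Cj w z) : ∃ k : G, Cn w = Cn (k * z * k⁻¹) := by
  obtain ⟨k, hk⟩ := h
  refine ⟨k⁻¹, ?_⟩
  have h1 := cn_conj_congr hk k⁻¹
  rwa [show k⁻¹ * (k * w * k⁻¹) * k⁻¹⁻¹ = w by group] at h1

variable [Finite G]

theorem Rigid.exists_part (hR : Rigid G) {g : G} (hg : g ∉ Subgroup.center G) :
    ∃ r k : ℕ, r.Prime ∧ IsPE r (g ^ k) ∧ g ^ k ∉ Subgroup.center G ∧ Cn g = Cn (g ^ k) := by
  obtain ⟨r, k, hr, -, hk, hpe⟩ := TwoRegSizes38.exists_primePow_not_mem hg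
  exact ⟨r, k, hr, hpe, hk, hR _ _ hg hk (TwoRegSizes38.cn_le_cn_pow g k)⟩

/-- The family of all noncentral elements of prime power order. -/
theorem Rigid.fam (hR : Rigid G)
    (hpq : ∀ g : G, g ∉ Subgroup.center G → ∀ p : ℕ, ∃ s : ℕ, s.Prime ∧ s ≠ p ∧ s ∣ rho g) :
    Fam G (fun _ => True) := by
  have htwo : ∀ (w : G), w ∉ Subgroup.center G → ∀ r : ℕ, ∃ (s : ℕ) (v : G), s.Prime ∧ True ∧
      s ≠ r ∧ IsPE s v ∧ v ∉ Subgroup.center G ∧ v ∈ Cn w := by
    intro w hw r
    obtain ⟨s, hs, hsr, hd⟩ := hpq w hw r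
    obtain ⟨v, hv, hvc, hve⟩ := exists_of_dvd_rho hs hd
    exact ⟨s, v, hs, trivial, hsr, hve, hvc, hv⟩
  refine ⟨fun w v hw hv hvw => ?_, fun w hw r => htwo w hw.not_center r⟩
  obtain ⟨r, hr, -, hwe, hwc⟩ := hw
  obtain ⟨s, hs, -, hve, hvc⟩ := hv
  by_cases hsr : r = s
  · subst hsr
    obtain ⟨t, x, ht, -, htr, hxe, hxc, hxw⟩ := htwo w hwc r
    have e1 := hR.cn_eq_of_comm hr ht htr.symm hwe hwc hxe hxc hxw
    have e2 := hR.cn_eq_of_comm ht hs htr hxe hxc hve hvc (e1.symm ▸ hvw)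
    exact e2.trans e1
  · exact hR.cn_eq_of_comm hr hs hsr hwe hwc hve hvc hvw

/-- The centralizer of a noncentral element is abelian. -/
theorem Fam.comm_of_mem (F : Fam G (fun _ => True)) {w : G} (hw : GoodEl (fun _ => True) w) {x y : G}
    (hx : x ∈ Cn w) (hy : y ∈ Cn w) : x * y = y * x := by
  refine (mem_cn.1 (CaminaSizes63.mem_of_parts (H := Cn x) fun r k hr hpe => ?_)).symm
  by_cases hc : y ^ k ∈ Subgroup.center G
  · exact center_le_cn x hc
  · exact mem_cn_symm (F.ti hw ⟨r, hr, trivial, hpe, hc⟩ (pow_mem hy k) ▸ hx)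

theorem card_cn (x : G) : Nat.card (Cn x) = Nat.card (Subgroup.center G) * rho x := by
  rw [← ((Subgroup.center G).subgroupOf (Cn x)).card_mul_index,
    Nat.card_congr (Subgroup.subgroupOfEquivOfLe (center_le_cn x)).toEquiv]
  rfl

/-- The elements with a given class size, when their centralizers form one class. -/
theorem ncard_cs_eq (hR : Rigid G) (F : Fam G (fun _ => True)) {z : G}
    (hz : GoodEl (fun _ => True) z)
    (hall : ∀ g : G, cs g = cs z → ∃ k : G, Cn g = Cn (k * z * k⁻¹)) :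
    {g : G | cs g = cs z}.ncard = (Subgroup.normalizer (Cn z : Set G)).index *
      (Nat.card (Subgroup.center G) * (rho z - 1)) := by
  classical
  haveI : Fintype G := Fintype.ofFinite G
  set t : Finset (Subgroup G) := Finset.univ.image (fun k : G => Cn (k * z * k⁻¹)) with ht
  set s : Finset G := Finset.univ.filter (fun g => cs g = cs z) with hs
  have ht1 : t.card = (Subgroup.normalizer (Cn z : Set G)).index := by
    rw [← Set.ncard_coe_finset, ht, Finset.coe_image, Finset.coe_univ, Set.image_univ]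
    refine ClassSizeGraph76.ncard_range_eq_index _ _ fun g h => ⟨fun e => ?_, fun hgh => ?_⟩
    · refine TwoRegSizes38.mem_normalizer_cn ?_
      have h1 := cn_conj_congr e g⁻¹
      rw [show g⁻¹ * (g * z * g⁻¹) * g⁻¹⁻¹ = z by group,
        show g⁻¹ * (h * z * h⁻¹) * g⁻¹⁻¹ = g⁻¹ * h * z * (g⁻¹ * h)⁻¹ by group] at h1
      exact h1.symm
    · have h1 := cn_conj_congr (cn_conj_of_normalizer hgh) g
      rw [show g * (g⁻¹ * h * z * (g⁻¹ * h)⁻¹) * g⁻¹ = h * z * h⁻¹ by group] at h1
      exact h1.symm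
  have hset : {g : G | cs g = cs z} = (s : Set G) := by ext g; simp [hs]
  rw [hset, Set.ncard_coe_finset,
    Finset.card_eq_sum_card_fiberwise (f := fun g => Cn g) (t := t) (fun g hg => ?_)]
  swap
  · obtain ⟨k, hk⟩ := hall g (by simpa [hs] using hg)
    exact Finset.mem_coe.2 (Finset.mem_image.2 ⟨k, Finset.mem_univ _, hk.symm⟩)
  rw [Finset.sum_const_nat (m := Nat.card (Subgroup.center G) * (rho z - 1)) fun C hC => ?_, ht1]
  obtain ⟨k, -, rfl⟩ := Finset.mem_image.1 hC
  have hcsk : cs (k * z * k⁻¹) = cs z := cs_conj z k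
  have hfib : ((s.filter fun g => Cn g = Cn (k * z * k⁻¹) : Finset G) : Set G) =
      (Cn (k * z * k⁻¹) : Set G) \ (Subgroup.center G : Set G) := by
    ext g
    simp only [Finset.coe_filter, Set.mem_setOf_eq, Set.mem_diff, SetLike.mem_coe, hs,
      Finset.mem_filter, Finset.mem_univ, true_and]
    refine ⟨fun ⟨h1, h2⟩ => ⟨h2 ▸ self_mem_cn g, fun hc => hz.not_center ?_⟩, fun ⟨h1, h2⟩ => ?_⟩
    · rw [← cs_eq_one_iff, ← h1, cs_eq_one_iff]; exact hc
    · obtain ⟨r, i, hr, hpe, hi, he⟩ := hR.exists_part h2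
      have h3 : Cn g = Cn (k * z * k⁻¹) :=
        he.trans (F.ti (hz.conj k) ⟨r, hr, trivial, hpe, hi⟩ (pow_mem h1 i))
      exact ⟨(cs_eq_of_cn_eq h3).trans hcsk, h3⟩
  rw [← Set.ncard_coe_finset, hfib, Set.ncard_diff (center_le_cn _), Nat.mul_sub_one]
  congr 1
  rw [← Nat.card_coe_set_eq]
  exact (card_cn _).trans (by rw [rho_eq_of_cs hcsk])

/-- One self-normalizing class. -/
theorem solvable_of_self (F : Fam G (fun _ => True))
    (hpq : ∀ g : G, g ∉ Subgroup.center G → ∀ p : ℕ, ∃ s : ℕ, s.Prime ∧ s ≠ p ∧ s ∣ rho g)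
    {x y : G} (hx : GoodEl (fun _ => True) x) (hy : GoodEl (fun _ => True) y) (hne : cs x ≠ cs y)
    (hcover : ∀ g : G, g ∉ Subgroup.center G → cs g = cs x ∨ cs g = cs y)
    (hself : Subgroup.normalizer (Cn x : Set G) = Cn x)
    (hcount : (Subgroup.center G).index = 1 + cs x * (rho x - 1) +
      (Subgroup.normalizer (Cn y : Set G)).index * (rho y - 1)) :
    Group.IsSolvable G := by
  set X := rho x with hX
  set Y := rho y with hY
  have hgx : X * cs x = (Subgroup.center G).index := rho_mul_cs x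
  have hgy : Y * cs y = (Subgroup.center G).index := rho_mul_cs y
  have hXc : ∀ r : ℕ, r.Prime → r ∣ X → ¬ r ∣ cs x := by
    intro r hr h1 h2
    obtain ⟨u, -, huC, huN⟩ := F.exists_normalizing hr trivial hx h1 h2
    exact huC (hself ▸ huN)
  have hXY : X.Coprime Y := Nat.coprime_of_dvd fun r hr h1 h2 =>
    hne (F.cj_of_not_dvd hr trivial hx (hXc r hr h1) hy h2).cs_eq.symm
  obtain ⟨K, hK⟩ : Y ∣ cs x := by
    have h : Y ∣ X * cs x := ⟨cs y, by rw [hgx, hgy]⟩
    exact hXY.symm.dvd_of_dvd_mul_left h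
  have hcy : cs y = X * K := by
    have h1 := hgy.trans hgx.symm
    rw [hK, ← mul_assoc, mul_comm X Y, mul_assoc] at h1
    exact Nat.eq_of_mul_eq_mul_left (rho_pos y) h1
  have hK0 : 0 < K := Nat.pos_of_ne_zero fun h => (cs_pos x).ne' (by rw [hK, h, mul_zero])
  -- `K` is squarefree and divides `Y`
  have hKr : ∀ r : ℕ, r.Prime → r ∣ K → r ∣ Y ∧ ¬ r * r ∣ K := by
    intro r hr hrK
    haveI : Fact r.Prime := ⟨hr⟩
    have hrx : r ∣ cs x := hK ▸ hrK.mul_left Y
    let R : Sylow r G := default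
    obtain ⟨z, hzR, hzc, hzr, hcomm⟩ := F.exists_central R
      (exists_pe_of_dvd_index hr (hgx ▸ hrx.mul_left X))
    have hrz : r ∣ rho z := dvd_rho_of_mem hr (self_mem_cn z) (IsPE.of_mem_pgroup R.2 hzR) hzc
    have hzy : cs z = cs y := (hcover z hzc).resolve_left fun e =>
      hXc r hr (rho_eq_of_cs e ▸ hrz : r ∣ rho x) hrx
    refine ⟨(rho_eq_of_cs hzy ▸ hrz : r ∣ rho y), fun h2 => ?_⟩
    refine (F.index_central trivial R hzR hzc hzr hcomm (hzy ▸ hcy ▸ hrK.mul_left X)).2 ?_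
    rw [hzy, hcy, sq]
    exact h2.mul_left X
  have hKsq : Squarefree K :=
    Nat.squarefree_iff_prime_squarefree.2 fun r hr h => (hKr r hr ((dvd_mul_right r r).trans h)).2 h
  have hKY : K ∣ Y := by
    rw [← Nat.factorization_le_iff_dvd hK0.ne' (rho_pos y).ne']
    intro r
    by_cases hr : r ∈ K.factorization.support
    · rw [Nat.support_factorization, Nat.mem_primeFactors] at hr
      exact (hKsq.natFactorization_le_one r).trans
        (hr.1.factorization_pos_of_dvd (rho_pos y).ne' (hKr r hr.1 hr.2.1).1)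
    · rw [Finsupp.notMem_support_iff.1 hr]
      exact Nat.zero_le _
  obtain ⟨r, hr, -, hrY⟩ := hpq y hy.not_center 0
  obtain ⟨s, hs, hsr, hsY⟩ := hpq y hy.not_center r
  have hY2 : 2 ≤ Y := hr.two_le.trans (Nat.le_of_dvd (rho_pos y) hrY)
  set N := (Subgroup.normalizer (Cn y : Set G)).index with hN
  have hcnt : cs x = 1 + N * (Y - 1) := by
    have h2 : cs x * (X - 1) + cs x = X * cs x := by
      rw [← Nat.mul_succ, mul_comm, Nat.succ_eq_add_one, Nat.sub_add_cancel (rho_pos x)]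
    omega
  have hK1 : (Y - 1) ∣ K - 1 := by
    have e1 : Y * K = (Y - 1) * K + K := by
      rw [← Nat.succ_mul, Nat.succ_eq_add_one, Nat.sub_add_cancel (rho_pos y)]
    have e2 : (Y - 1) * K + (K - 1) = N * (Y - 1) := by omega
    exact (Nat.dvd_add_right (dvd_mul_right _ K)).1 (e2.symm ▸ dvd_mul_left _ N)
  have hKle : K ≤ Y := Nat.le_of_dvd (rho_pos y) hKY
  rcases Nat.eq_zero_or_pos (K - 1) with hone | hone
  · have hK' : K = 1 := by omega
    rw [hK', mul_one] at hK hcy
    have hN1 : N = 1 := by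
      refine Nat.eq_of_mul_eq_mul_right (show 0 < Y - 1 by omega) ?_
      omega
    haveI hCn : (Cn y).Normal := Subgroup.normalizer_eq_top_iff.1 (Subgroup.index_eq_one.1 hN1)
    have hsup : Cn x ⊔ Cn y = ⊤ := Subgroup.index_eq_one.1 (Nat.eq_one_of_dvd_coprimes hXY.symm
      (hK ▸ Subgroup.index_dvd_of_le le_sup_left) (hcy ▸ Subgroup.index_dvd_of_le le_sup_right))
    haveI : Group.IsSolvable (Cn x) :=
      Group.isSolvable_of_comm fun v w => Subtype.ext (F.comm_of_mem hx v.2 w.2)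
    haveI : Group.IsSolvable (Cn y) :=
      Group.isSolvable_of_comm fun v w => Subtype.ext (F.comm_of_mem hy v.2 w.2)
    haveI : Group.IsSolvable (G ⧸ Cn y) := by
      refine Group.isSolvable_of_surjective (f := (QuotientGroup.mk' (Cn y)).comp (Cn x).subtype) ?_
      rw [← MonoidHom.range_eq_top, MonoidHom.range_comp, Subgroup.range_subtype]
      have h := congrArg (Subgroup.map (QuotientGroup.mk' (Cn y))) hsup
      rwa [Subgroup.map_sup, QuotientGroup.map_mk'_self, sup_bot_eq,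
        Subgroup.map_top_of_surjective _ (QuotientGroup.mk'_surjective _)] at h
    exact Group.isSolvable_of_ker_le_range (Cn y).subtype (QuotientGroup.mk' (Cn y))
      (by rw [QuotientGroup.ker_mk', Subgroup.range_subtype])
  · exfalso
    have hKeq : K = Y := by
      have := Nat.le_of_dvd hone hK1
      omega
    have hr2 : ∀ t : ℕ, t.Prime → t ∣ Y → ¬ t ^ 2 ∣ Y ∧ t ∣ cs y := by
      intro t ht htY
      refine ⟨fun h => (hKr t ht (hKeq ▸ htY)).2 ?_, hcy ▸ (hKeq ▸ htY : t ∣ K).mul_left X⟩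
      rw [hKeq, ← sq]; exact h
    have h1 := F.dvd_sub_one hr trivial hs trivial hsr.symm hy hrY (hr2 r hr hrY).1 hsY
      (hr2 s hs hsY).2
    have h2 := F.dvd_sub_one hs trivial hr trivial hsr hy hsY (hr2 s hs hsY).1 hrY
      (hr2 r hr hrY).2
    have h3 := Nat.le_of_dvd (by have := hr.two_le; omega) h1
    have h4 := Nat.le_of_dvd (by have := hs.two_le; omega) h2
    have := hr.two_le
    omega

namespace Hyp

variable {a b : ℕ} (H : Hyp G a b)
include H

/-- Solvability when every centralizer involves two primes modulo the centre. -/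
theorem isSolvable_of_two_primes (hR : Rigid G)
    (hpq : ∀ g : G, g ∉ Subgroup.center G → ∀ p : ℕ, ∃ s : ℕ, s.Prime ∧ s ≠ p ∧ s ∣ rho g) :
    Group.IsSolvable G := by
  have F := hR.fam hpq
  have hclass : ∀ g0 : G, g0 ∉ Subgroup.center G → ∃ z : G, GoodEl (fun _ => True) z ∧
      cs z = cs g0 ∧ ∀ g : G, cs g = cs g0 → ∃ k : G, Cn g = Cn (k * z * k⁻¹) := by
    intro g0 hg0
    have hnc : ∀ g : G, cs g = cs g0 → g ∉ Subgroup.center G := fun g hg hc => hg0 (by
      rw [← cs_eq_one_iff, ← hg, cs_eq_one_iff]; exact hc)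
    obtain ⟨r, hr, -, hrd⟩ := hpq g0 hg0 0
    obtain ⟨s, hs, hsr, hsd⟩ := hpq g0 hg0 r
    obtain ⟨q, i, hq, hpe, hi, he⟩ := hR.exists_part hg0
    obtain ⟨z, hz, hzall⟩ := F.single hr trivial hs trivial hsr.symm
      (fun w => GoodEl (fun _ => True) w ∧ cs w = cs g0) (fun _ h => h.1)
      (fun w hw => rho_eq_of_cs hw.2 ▸ hrd) (fun w hw => rho_eq_of_cs hw.2 ▸ hsd)
      (fun t w w' _ _ hw hw' h => rho_eq_of_cs (hw.2.trans hw'.2.symm) ▸ h)
      (fun t w w' _ _ hw hw' h => hw'.2.symm ▸ hw.2 ▸ h)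
      ⟨g0 ^ i, ⟨q, hq, trivial, hpe, hi⟩, (cs_eq_of_cn_eq he).symm⟩
    have hzg : cs z = cs g0 :=
      (hzall _ ⟨⟨q, hq, trivial, hpe, hi⟩, (cs_eq_of_cn_eq he).symm⟩).cs_eq.symm.trans
        (cs_eq_of_cn_eq he).symm
    refine ⟨z, hz, hzg, fun g hg => ?_⟩
    obtain ⟨t, j, ht, hpe', hj, he'⟩ := hR.exists_part (hnc g hg)
    obtain ⟨k, hk⟩ := (hzall (g ^ j)
      ⟨⟨t, ht, trivial, hpe', hj⟩, (cs_eq_of_cn_eq he').symm.trans hg⟩).exists_eq
    exact ⟨k, he'.trans hk⟩
  obtain ⟨ga, hga⟩ := H.exa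
  obtain ⟨gb, hgb⟩ := H.exb
  obtain ⟨za, hza, hcza, halla⟩ := hclass ga (H.not_center_of_a hga)
  obtain ⟨zb, hzb, hczb, hallb⟩ := hclass gb (H.not_center_of_b hgb)
  rw [← hcza] at halla
  rw [← hczb] at hallb
  rw [hga] at hcza
  rw [hgb] at hczb
  set Na := (Subgroup.normalizer (Cn za : Set G)).index with hNa
  set Nb := (Subgroup.normalizer (Cn zb : Set G)).index with hNb
  -- counting
  have hcount : (Subgroup.center G).index = 1 + Na * (rho za - 1) + Nb * (rho zb - 1) := by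
    classical
    haveI : Fintype G := Fintype.ofFinite G
    have h1 : Nat.card G = ∑ c ∈ ({1, a, b} : Finset ℕ), {g : G | cs g = c}.ncard := by
      rw [Nat.card_eq_fintype_card, ← Finset.card_univ,
        Finset.card_eq_sum_card_fiberwise (f := fun g : G => cs g) (t := ({1, a, b} : Finset ℕ))
          (fun g _ => by rcases H.vals g with e | e | e <;> simp [e])]
      refine Finset.sum_congr rfl fun c _ => ?_
      rw [← Set.ncard_coe_finset]
      congr 1
      ext g
      simp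
    have hz1 : {g : G | cs g = 1} = (Subgroup.center G : Set G) := by
      ext g; exact cs_eq_one_iff
    rw [Finset.sum_insert (by simp [H.one_lt.ne, (H.one_lt.trans H.lt).ne]),
      Finset.sum_pair H.lt.ne, hz1, ← Nat.card_coe_set_eq] at h1
    have h2 := ncard_cs_eq hR F hza halla
    have h3 := ncard_cs_eq hR F hzb hallb
    rw [hcza] at h2
    rw [hczb] at h3
    rw [h2, h3, ← (Subgroup.center G).card_mul_index] at h1
    refine Nat.eq_of_mul_eq_mul_left (Nat.card_pos (α := Subgroup.center G)) (h1.trans ?_)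
    rw [show Nat.card ↥(Subgroup.center G : Set G) = Nat.card (Subgroup.center G) from rfl]
    ring
  have hrel : ∀ z : G, GoodEl (fun _ => True) z → 2 ≤ rho z ∧
      0 < (Subgroup.normalizer (Cn z : Set G)).index ∧
      ((Subgroup.normalizer (Cn z : Set G) = Cn z ∧
          (Subgroup.normalizer (Cn z : Set G)).index = cs z) ∨
        2 * ((Subgroup.normalizer (Cn z : Set G)).index * rho z) ≤ (Subgroup.center G).index) := by
    intro z hz
    obtain ⟨r, hr, -, hrd⟩ := hpq z hz.not_center 0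
    refine ⟨hr.two_le.trans (Nat.le_of_dvd (rho_pos z) hrd),
      Nat.pos_of_ne_zero Subgroup.index_ne_zero_of_finite, ?_⟩
    by_cases hN : Subgroup.normalizer (Cn z : Set G) = Cn z
    · exact Or.inl ⟨hN, congrArg Subgroup.index hN⟩
    refine Or.inr ?_
    have h1 : (Cn z).relIndex (Subgroup.normalizer (Cn z : Set G)) *
        (Subgroup.normalizer (Cn z : Set G)).index = cs z :=
      Subgroup.relIndex_mul_index Subgroup.le_normalizer
    have h2 : 2 ≤ (Cn z).relIndex (Subgroup.normalizer (Cn z : Set G)) := by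
      by_contra hlt
      have h3 : (Cn z).relIndex (Subgroup.normalizer (Cn z : Set G)) ≠ 0 :=
        Subgroup.index_ne_zero_of_finite
      exact hN (le_antisymm (Subgroup.relIndex_eq_one.1 (by omega)) Subgroup.le_normalizer)
    rw [← rho_mul_cs z, ← h1]
    calc 2 * ((Subgroup.normalizer (Cn z : Set G)).index * rho z)
        ≤ (Cn z).relIndex (Subgroup.normalizer (Cn z : Set G)) *
          ((Subgroup.normalizer (Cn z : Set G)).index * rho z) := Nat.mul_le_mul_right _ h2
      _ = _ := by ring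
  have hcover : ∀ g : G, g ∉ Subgroup.center G → cs g = cs za ∨ cs g = cs zb := fun g hg => by
    rw [hcza, hczb]; exact H.cases_nc hg
  have hne : cs za ≠ cs zb := by rw [hcza, hczb]; exact H.lt.ne
  obtain ⟨hXa, hNa0, hca⟩ := hrel za hza
  obtain ⟨hXb, hNb0, hcb⟩ := hrel zb hzb
  have ea : Na * (rho za - 1) + Na = Na * rho za := by
    rw [← Nat.mul_succ, Nat.succ_eq_add_one, Nat.sub_add_cancel (rho_pos za)]
  have eb : Nb * (rho zb - 1) + Nb = Nb * rho zb := by
    rw [← Nat.mul_succ, Nat.succ_eq_add_one, Nat.sub_add_cancel (rho_pos zb)]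
  rcases hca with ⟨hsa, hna⟩ | hca
  · exact solvable_of_self F hpq hza hzb hne hcover hsa (hna ▸ hcount)
  rcases hcb with ⟨hsb, hnb⟩ | hcb
  · refine solvable_of_self F hpq hzb hza hne.symm (fun g hg => (hcover g hg).symm) hsb ?_
    rw [← hnb, ← hNa, ← hNb]
    omega
  rw [← hNa] at hca hNa0
  rw [← hNb] at hcb hNb0
  omega

end Hyp

end Cfsg.Agent.ThreeSizes63
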