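import Cfsg.Agent.Lib.ThreeSizes63Fam

/-!
# Subgroups normalizing a trivial intersection centralizer
-/

set_option autoImplicit false

namespace Cfsg.Agent.ThreeSizes63

open Cfsg.Agent.ClassSizeGraph76 (cs)
open Cfsg.Agent.TwoRegSizes38 (Cn IsPE mem_cn self_mem_cn center_le_cn bar)
open Cfsg.Agent.CaminaSizes63 (isPE_conj conj_not_center)

variable {G : Type*} [Group G] {Good : ℕ → Prop}

/-- A power of an element outside the centre whose `s`-th power is central has `s`-power order. -/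
theorem exists_pow_isPE [Finite G] {s : ℕ} (hs : s.Prime) {g : G} (hg : g ∉ Subgroup.center G)
    (hgs : bar g ^ s = 1) : ∃ k : ℕ, g ^ k ∉ Subgroup.center G ∧ IsPE s (g ^ k) := by
  obtain ⟨q, k, hq, -, hk, j, hj⟩ := TwoRegSizes38.exists_primePow_not_mem hg
  have h1 : orderOf (bar (g ^ k)) ∣ s := orderOf_dvd_of_pow_eq_one (by
    rw [map_pow, ← pow_mul, mul_comm, pow_mul, hgs, one_pow])
  have h2 : orderOf (bar (g ^ k)) ∣ q ^ j := hj ▸ orderOf_map_dvd bar (g ^ k)
  rcases hs.eq_one_or_self_of_dvd _ h1 with h3 | h3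
  · exact absurd (TwoRegSizes38.bar_eq_one.1 (orderOf_eq_one_iff.1 h3)) hk
  · rw [h3] at h2
    have := (Nat.prime_dvd_prime_iff_eq hs hq).1 (hs.dvd_of_dvd_pow h2)
    exact ⟨k, hk, j, this ▸ hj⟩

/-- A nontrivial solvable normal subgroup contains a nontrivial normal abelian subgroup of prime
exponent. -/
theorem exists_elementary {H : Type*} [Group H] [Finite H] {M : Subgroup H} [M.Normal]
    (hsol : Group.IsSolvable M) (hM : M ≠ ⊥) :
    ∃ (q : ℕ) (V : Subgroup H), q.Prime ∧ V.Normal ∧ V ≠ ⊥ ∧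
      (∀ x ∈ V, ∀ y ∈ V, x * y = y * x) ∧ ∀ x ∈ V, x ^ q = 1 := by
  classical
  have hex : ∃ n, ∃ V : Subgroup H, V.Normal ∧ V ≠ ⊥ ∧ V ≤ M ∧ Nat.card V = n :=
    ⟨_, M, inferInstance, hM, le_rfl, rfl⟩
  obtain ⟨V, hVn, hV1, hVM, hVc⟩ := Nat.find_spec hex
  have hVs : Group.IsSolvable V :=
    haveI := hsol
    Group.isSolvable_of_isSolvable_injective (Subgroup.inclusion_injective hVM)
  have hab : ⁅V, V⁆ = ⊥ := by
    by_contra hne
    have hle : ⁅V, V⁆ ≤ V := Subgroup.commutator_le_left V V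
    have heq : ⁅V, V⁆ = V := Subgroup.eq_of_le_of_card_ge hle (by
      rw [hVc]
      exact Nat.find_min' hex ⟨_, inferInstance, hne, hle.trans hVM, rfl⟩)
    haveI : Nontrivial V := (Subgroup.nontrivial_iff_ne_bot V).2 hV1
    haveI := hVs
    have hlt := Group.IsSolvable.commutator_lt_top_of_nontrivial (G := V)
    apply hlt.ne
    apply Subgroup.map_injective V.subtype_injective
    rw [Subgroup.map_subtype_commutator, heq, ← MonoidHom.range_eq_map, Subgroup.range_subtype]
  have hcomm : ∀ x ∈ V, ∀ y ∈ V, x * y = y * x := fun x hx y hy =>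
    (Subgroup.mem_centralizer_iff.1 ((Subgroup.commutator_eq_bot_iff_le_centralizer.1 hab) hx) y hy).symm
  have h1 : Nat.card V ≠ 1 := fun h => hV1 (Subgroup.card_eq_one.1 h)
  obtain ⟨q, hq, hqd⟩ := Nat.exists_prime_and_dvd h1
  haveI : Fact q.Prime := ⟨hq⟩
  let W : Subgroup H :=
    { carrier := {x | x ∈ V ∧ x ^ q = 1}
      one_mem' := ⟨V.one_mem, one_pow q⟩
      mul_mem' := fun {x y} hx hy => ⟨V.mul_mem hx.1 hy.1, by
        rw [(show Commute x y from hcomm x hx.1 y hy.1).mul_pow, hx.2, hy.2, mul_one]⟩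
      inv_mem' := fun {x} hx => ⟨V.inv_mem hx.1, by rw [inv_pow, hx.2, inv_one]⟩ }
  have hWn : W.Normal := ⟨fun x (hx : x ∈ V ∧ x ^ q = 1) g =>
    ⟨hVn.conj_mem x hx.1 g, by rw [conj_pow, hx.2]; group⟩⟩
  refine ⟨q, W, hq, hWn, ?_,
    fun x hx y hy => hcomm x hx.1 y hy.1, fun x hx => hx.2⟩
  obtain ⟨x, hx⟩ := exists_prime_orderOf_dvd_card' q hqd
  intro hbot
  have h2 : (x : H) ∈ W := ⟨x.2, orderOf_dvd_iff_pow_eq_one.1 (by rw [Subgroup.orderOf_coe, hx])⟩
  rw [hbot, Subgroup.mem_bot] at h2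
  exact hq.one_lt.ne (by rw [← hx, (show x = 1 from Subtype.ext h2), orderOf_one])

variable [Finite G]

namespace Fam

variable (F : Fam G Good)
include F

omit [Finite G] F in
/-- The normalizer of `C(z)` acts on the parts of the centre of `C(z)`. -/
theorem conj_mem_centralPart {z g : G} {t : ℕ} (ht : t.Prime)
    (hg : g ∈ Subgroup.normalizer (Cn z : Set G)) {y : G} (hy : y ∈ centralPart z ht) :
    g * y * g⁻¹ ∈ centralPart z ht := by
  obtain ⟨hy, hyc, j, hj⟩ := hy
  refine ⟨(Subgroup.mem_normalizer_iff.1 hg y).1 hy, fun c hc => ?_, j, by rw [conj_pow, hj]; group⟩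
  have hc' : g⁻¹ * c * g ∈ Cn z := by
    refine (Subgroup.mem_normalizer_iff.1 hg _).2 ?_
    simpa [mul_assoc] using hc
  calc c * (g * y * g⁻¹) = g * ((g⁻¹ * c * g) * y) * g⁻¹ := by group
    _ = g * (y * (g⁻¹ * c * g)) * g⁻¹ := by rw [hyc _ hc']
    _ = _ := by group

/-- A good element of `C(z)` lies in a part of the centre of `C(z)`. -/
theorem mem_centralPart {z v : G} (hz : GoodEl Good z) {t : ℕ} (ht : t.Prime) (hgt : Good t)
    (hv : IsPE t v) (hvc : v ∉ Subgroup.center G) (hvz : v ∈ Cn z) : v ∈ centralPart z ht := by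
  obtain ⟨j, hj⟩ := id hv
  exact ⟨hvz, fun g hg => mem_cn.1 (F.le_cn hz ⟨t, ht, hgt, hv, hvc⟩ hvz hg), j,
    hj ▸ pow_orderOf_eq_one v⟩

/-- An element fixing a good element modulo the centre has a power of the same prime in `C(z)`. -/
theorem pow_mem_of_bar_comm {z g v : G} (hz : GoodEl Good z) {t : ℕ} (ht : t.Prime) (hgt : Good t)
    (hv : IsPE t v) (hvc : v ∉ Subgroup.center G) (hvz : v ∈ Cn z)
    (h : bar g * bar v = bar v * bar g) : ∃ e : ℕ, g ^ t ^ e ∈ Cn z := by
  obtain ⟨j, hj⟩ := id hv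
  refine ⟨j, F.mem_of_comm hz ⟨t, ht, hgt, hv, hvc⟩ hvz ?_⟩
  have hη := bar_comm_iff.1 h
  obtain ⟨η, hηdef⟩ : ∃ η, η = g * v * g⁻¹ * v⁻¹ := ⟨_, rfl⟩
  rw [← hηdef] at hη
  have h1 : g * v * g⁻¹ = η * v := by rw [hηdef]; group
  have h2 : ∀ n : ℕ, g ^ n * v * (g ^ n)⁻¹ = η ^ n * v := by
    intro n
    induction n with
    | zero => simp
    | succ n ih =>
      have hc := center_comm (pow_mem hη n) g
      calc g ^ (n + 1) * v * (g ^ (n + 1))⁻¹ = g * (g ^ n * v * (g ^ n)⁻¹) * g⁻¹ := by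
            rw [pow_succ']; group
        _ = (g * η ^ n) * (v * g⁻¹) := by rw [ih]; group
        _ = η ^ n * (g * v * g⁻¹) := by rw [hc]; group
        _ = η ^ (n + 1) * v := by rw [h1, pow_succ, mul_assoc]
  have h3 : η ^ orderOf v = 1 := by
    have h4 : (η * v) ^ orderOf v = 1 := by rw [← h1, conj_pow, pow_orderOf_eq_one]; group
    rwa [(show Commute η v from (center_comm hη v).symm).mul_pow, pow_orderOf_eq_one, mul_one] at h4
  have h5 := h2 (orderOf v)
  rw [h3, one_mul, mul_inv_eq_iff_eq_mul] at h5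
  rwa [hj] at h5

/-- The product of an orbit gives a contradiction. -/
theorem no_extend {s : ℕ} (hs : s.Prime) (hgs : Good s) {z u : G} (hz : GoodEl Good z)
    (hzs : IsPE s z) (hu : u ∈ Subgroup.normalizer (Cn z : Set G)) (huC : u ∉ Cn z)
    (hzu : bar u * bar z = bar z * bar u) {L : Subgroup G} (hCL : Cn z ≤ L)
    (hLN : L ≤ Subgroup.normalizer (Cn z : Set G)) (hne : L ≠ Cn z)
    (hLu : ∀ l ∈ L, u * l * u⁻¹ ∈ L) (hm : ¬ s ∣ (Cn z).relIndex L) : False := by
  classical
  haveI : Fintype L := Fintype.ofFinite L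
  set Y := centralPart z hs with hY
  letI : CommGroup Y :=
    { (inferInstance : Group Y) with
      mul_comm := fun x y => Subtype.ext (y.2.2.1 x x.2.1) }
  have hzY : z ∈ Y := F.mem_centralPart hz hs hgs hzs hz.not_center (self_mem_cn z)
  let act : ∀ g : G, g ∈ Subgroup.normalizer (Cn z : Set G) → (Y →* Y) := fun g hg =>
    { toFun := fun y => ⟨g * y * g⁻¹, conj_mem_centralPart hs hg y.2⟩
      map_one' := Subtype.ext (by simp)
      map_mul' := fun x y => Subtype.ext (by simp [mul_assoc]) }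
  have hinj : ∀ g hg, Function.Injective (act g hg) := fun g hg x y h => Subtype.ext (by
    simpa [act] using congrArg Subtype.val h)
  let f : L → Y := fun l => ⟨l * z * (l : G)⁻¹, conj_mem_centralPart hs (hLN l.2) hzY⟩
  set O : Finset Y := Finset.univ.image f with hO
  have hcard : O.card = (Cn z).relIndex L := by
    rw [← Set.ncard_coe_finset, hO, Finset.coe_image, Finset.coe_univ, Set.image_univ]
    refine ClassSizeGraph76.ncard_range_eq_index _ _ fun g h => ?_
    rw [Subgroup.mem_subgroupOf, Subtype.ext_iff]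
    exact ClassSizeGraph76.conj_eq_iff
  set P : Y := ∏ y ∈ O, y with hP
  -- the product is central
  have hfixed : ∀ l : L, (l : G) * P * (l : G)⁻¹ = P := by
    intro l
    have himg : O.image (act l (hLN l.2)) = O := by
      refine Finset.eq_of_subset_of_card_le ?_ (Finset.card_image_of_injective _ (hinj _ (hLN l.2))).ge
      intro y hy
      obtain ⟨w, hw, rfl⟩ := Finset.mem_image.1 hy
      obtain ⟨m, -, rfl⟩ := Finset.mem_image.1 hw
      refine Finset.mem_image.2 ⟨l * m, Finset.mem_univ _, Subtype.ext ?_⟩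
      simp [act, f, mul_assoc]
    have h1 : act l (hLN l.2) P = P := by
      rw [hP, map_prod]
      conv_rhs => rw [← himg]
      rw [Finset.prod_image fun x _ y _ h => hinj _ (hLN l.2) h]
    exact congrArg Subtype.val h1
  obtain ⟨l0, hl0, hl0C⟩ : ∃ l ∈ L, l ∉ Cn z := by
    by_contra hall
    push Not at hall
    exact hne (le_antisymm hall hCL)
  have hPc : (P : G) ∈ Subgroup.center G := by
    by_contra hPn
    obtain ⟨j, hj⟩ := P.2.2.2
    refine hl0C (F.mem_of_comm hz ⟨s, hs, hgs, isPE_of_pow_eq_one hs hj, hPn⟩ P.2.1 ?_)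
    exact mul_inv_eq_iff_eq_mul.1 (hfixed ⟨l0, hl0⟩)
  -- the effect of `u`
  have hζ := bar_comm_iff.1 hzu
  set ζ : Y := ⟨u * z * u⁻¹ * z⁻¹, mul_mem (conj_mem_centralPart hs hu hzY) (inv_mem hzY)⟩ with hζdef
  have himg : O.image (act u hu) = O.image (ζ * ·) := by
    refine Finset.eq_of_subset_of_card_le ?_ (by
      rw [Finset.card_image_of_injective _ (hinj u hu),
        Finset.card_image_of_injective _ (mul_right_injective ζ)])
    intro y hy
    obtain ⟨w, hw, rfl⟩ := Finset.mem_image.1 hy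
    obtain ⟨l, -, rfl⟩ := Finset.mem_image.1 hw
    refine Finset.mem_image.2 ⟨f ⟨u * l * u⁻¹, hLu l l.2⟩, Finset.mem_image.2 ⟨_, Finset.mem_univ _, rfl⟩,
      Subtype.ext ?_⟩
    show u * z * u⁻¹ * z⁻¹ * (u * l * u⁻¹ * z * (u * (l : G) * u⁻¹)⁻¹) = u * ((l : G) * z * (l : G)⁻¹) * u⁻¹
    have hc := center_comm hζ (u * l * u⁻¹)
    calc u * z * u⁻¹ * z⁻¹ * (u * l * u⁻¹ * z * (u * (l : G) * u⁻¹)⁻¹)
        = (u * l * u⁻¹) * (u * z * u⁻¹ * z⁻¹) * (z * (u * (l : G) * u⁻¹)⁻¹) := by rw [hc]; group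
      _ = _ := by group
  have h1 : ζ ^ O.card = 1 := by
    have h2 : act u hu P = ζ ^ O.card * P := by
      rw [hP, map_prod, ← Finset.prod_image (f := fun y : Y => y) (g := act u hu)
        (fun x _ y _ h => hinj u hu h), himg, Finset.prod_image fun x _ y _ h => mul_left_cancel h,
        Finset.prod_mul_distrib, Finset.prod_const]
    have h3 : act u hu P = P := Subtype.ext (by
      show u * (P : G) * u⁻¹ = P
      rw [center_comm hPc u, mul_inv_cancel_right])
    exact mul_eq_right.1 (h2.symm.trans h3)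
  obtain ⟨j, hj⟩ := ζ.2.2.2
  have h4 : ζ = 1 := by
    refine orderOf_eq_one_iff.1 (Nat.eq_one_of_dvd_coprimes ?_
      (orderOf_dvd_of_pow_eq_one (show ζ ^ s ^ j = 1 from Subtype.ext (by simpa using hj)))
      (orderOf_dvd_of_pow_eq_one h1))
    rw [hcard]
    exact ((Nat.Prime.coprime_iff_not_dvd hs).2 hm).pow_left j
  have h5 : u * z * u⁻¹ * z⁻¹ = 1 := congrArg Subtype.val h4
  rw [mul_inv_eq_one, mul_inv_eq_iff_eq_mul] at h5
  exact huC (mem_cn.2 h5)

/-- Subgroups of `N / C(z)` stable under the image of `u`. -/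
theorem no_quot {s : ℕ} (hs : s.Prime) (hgs : Good s) {z u : G} {C : Subgroup G} (hC : Cn z = C)
    (hz : GoodEl Good z) (hzs : IsPE s z) (hu : u ∈ Subgroup.normalizer (C : Set G)) (huC : u ∉ C)
    (hzu : bar u * bar z = bar z * bar u)
    (K : Subgroup (Subgroup.normalizer (C : Set G) ⧸ C.subgroupOf (Subgroup.normalizer (C : Set G))))
    (hK : K ≠ ⊥)
    (hconj : ∀ k ∈ K, QuotientGroup.mk' _ ⟨u, hu⟩ * k * (QuotientGroup.mk' _ ⟨u, hu⟩)⁻¹ ∈ K)
    (hcard : ¬ s ∣ Nat.card K) : False := by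
  subst hC
  set N := Subgroup.normalizer (Cn z : Set G) with hN
  set π := QuotientGroup.mk' ((Cn z).subgroupOf N) with hπ
  set L := (K.comap π).map N.subtype with hL
  have hmem : ∀ g : N, (g : G) ∈ L ↔ π g ∈ K := fun g =>
    (Subgroup.mem_map_iff_mem N.subtype_injective).trans Subgroup.mem_comap
  have hCN : Cn z ≤ N := Subgroup.le_normalizer
  have hCL : Cn z ≤ L := fun g hg => (hmem ⟨g, hCN hg⟩).2 (by
    rw [show π ⟨g, hCN hg⟩ = 1 from (QuotientGroup.eq_one_iff _).2 (Subgroup.mem_subgroupOf.2 hg)]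
    exact K.one_mem)
  have hrel : (Cn z).relIndex L = Nat.card K := by
    have h1 : ((Cn z).subgroupOf N).map N.subtype = Cn z := by
      rw [Subgroup.subgroupOf_map_subtype]; exact inf_eq_left.2 hCN
    have h2 : (((Cn z).subgroupOf N).map N.subtype).relIndex L =
        ((Cn z).subgroupOf N).relIndex (K.comap π) := by
      rw [hL]; exact Subgroup.relIndex_map_map_of_injective _ _ N.subtype_injective
    have h3 : (Cn z).subgroupOf N = (⊥ : Subgroup _).comap π := by
      rw [MonoidHom.comap_bot, hπ, QuotientGroup.ker_mk']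
    rw [h1] at h2
    rw [h2]
    refine (congrArg (fun S => Subgroup.relIndex S (K.comap π)) h3).trans ?_
    rw [Subgroup.relIndex_comap, Subgroup.map_comap_eq_self_of_surjective
      (QuotientGroup.mk'_surjective _), Subgroup.relIndex_bot_left]
  refine F.no_extend hs hgs hz hzs hu huC hzu hCL (Subgroup.map_subtype_le _) (fun e => hK ?_)
    ?_ (hrel ▸ hcard)
  · rw [← Subgroup.card_eq_one, ← hrel, e, Subgroup.relIndex_self]
  · intro l hl
    have hlN : l ∈ N := Subgroup.map_subtype_le _ hl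
    refine (hmem ⟨u * l * u⁻¹, mul_mem (mul_mem hu hlN) (inv_mem hu)⟩).2 ?_
    have h2 := hconj _ ((hmem ⟨l, hlN⟩).1 hl)
    rwa [← map_mul, ← map_inv, ← map_mul] at h2

/-- For a good prime dividing a class size: an element `z` with an element `u` normalizing `C(z)`
and fixing `z` modulo the centre. -/
theorem exists_data {s : ℕ} (hs : s.Prime) (hgs : Good s)
    (hex : ∃ v : G, IsPE s v ∧ v ∉ Subgroup.center G)
    (hdvd : ∀ v : G, GoodEl Good v → IsPE s v → s ∣ cs v) {z0 : G}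
    (hall : ∀ v : G, GoodEl Good v → Cj v z0) :
    ∃ z u : G, IsPE s z ∧ z ∉ Subgroup.center G ∧ Cn z = Cn z0 ∧
      IsPE s u ∧ u ∈ Subgroup.normalizer (Cn z : Set G) ∧ u ∉ Cn z ∧
      bar u * bar z = bar z * bar u ∧ z ^ s ∈ Subgroup.center G ∧ u ^ s ∈ Subgroup.center G ∧
      ¬ s ∣ cs (bar z) := by
  haveI : Fact s.Prime := ⟨hs⟩
  let R : Sylow s G := default
  obtain ⟨z, hzR, hzc, hzs, hcomm⟩ := F.exists_central R hex
  have hze : IsPE s z := IsPE.of_mem_pgroup R.2 hzR
  have hzg : GoodEl Good z := ⟨s, hs, hgs, hze, hzc⟩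
  have hidx := (F.index_central hgs R hzR hzc hzs hcomm (hdvd z hzg hze)).1
  obtain ⟨u, huR, huC⟩ : ∃ u ∈ (R : Subgroup G), u ∉ Cn z := by
    by_contra hallR
    push Not at hallR
    rw [Subgroup.subgroupOf_eq_top.2 hallR, Subgroup.index_top] at hidx
    exact hs.one_lt.ne hidx
  have hus : u ^ s ∈ Cn z := by
    haveI : ((Cn z).subgroupOf (R : Subgroup G)).Normal := ⟨fun d hd v => by
      rw [Subgroup.mem_subgroupOf] at hd ⊢
      exact (Subgroup.mem_normalizer_iff.1
        (TwoRegSizes38.normalizer_of_bar_comm (hcomm v v.2)) d).1 hd⟩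
    have := Subgroup.pow_index_mem ((Cn z).subgroupOf (R : Subgroup G)) ⟨u, huR⟩
    rw [hidx] at this
    simpa [Subgroup.mem_subgroupOf] using this
  have hue : IsPE s u := IsPE.of_mem_pgroup R.2 huR
  have husc : u ^ s ∈ Subgroup.center G := by
    by_contra h
    exact huC (F.mem_of_comm hzg ⟨s, hs, hgs, IsPE.pow hs hue s, h⟩ hus (Commute.self_pow u s).eq)
  have hcs : ¬ s ∣ cs (bar z) := by
    intro h
    refine ClassSizeGraph76.not_dvd_index_of_sylow_le R (H := (Cn (bar z)).comap bar)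
      (fun v hv => Subgroup.mem_comap.2 (mem_cn.2 (hcomm v hv))) ?_
    rwa [Subgroup.index_comap_of_surjective _ (QuotientGroup.mk'_surjective _)]
  obtain ⟨k, hk⟩ := hall z hzg
  refine ⟨k * z * k⁻¹, k * u * k⁻¹, isPE_conj hze k, conj_not_center hzc k, hk, isPE_conj hue k, ?_,
    fun h => huC ((TwoRegSizes38.conj_mem_cn k).1 h), ?_, ?_, ?_, ?_⟩
  · refine TwoRegSizes38.normalizer_of_bar_comm ?_
    simp only [map_mul, map_inv]
    rw [show bar k * bar u * (bar k)⁻¹ * (bar k * bar z * (bar k)⁻¹) = bar k * (bar u * bar z) * (bar k)⁻¹ by group,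
      hcomm u huR]
    group
  · simp only [map_mul, map_inv]
    rw [show bar k * bar u * (bar k)⁻¹ * (bar k * bar z * (bar k)⁻¹) = bar k * (bar u * bar z) * (bar k)⁻¹ by group,
      hcomm u huR]
    group
  · rw [conj_pow, center_comm hzs k, mul_inv_cancel_right]; exact hzs
  · rw [conj_pow, center_comm husc k, mul_inv_cancel_right]; exact husc
  · rw [map_mul, map_mul, map_inv, ClassSizeGraph76.cs_conj]
    exact hcs

end Fam

end Cfsg.Agent.ThreeSizes63
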