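import Mathlib

/-!
# A norm identity for two commuting operators of prime order

If `a`, `b` act on an abelian group `Y` as commuting automorphisms of order dividing the prime
`r`, then the `r`-th power of every element is a product of fixed points of `b` and of the
`a * b ^ j`.
-/

set_option autoImplicit false

namespace Cfsg.Agent.ThreeSizes63

variable {H : Type*} [Group H]

/-- If every fixed point of `b` or of some `a * b ^ j` in `Y` lies in `K`, then so does `y ^ r`. -/
theorem pow_mem_of_fixed {r : ℕ} [Fact r.Prime] (Y K : Subgroup H)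
    (hYc : ∀ x ∈ Y, ∀ y ∈ Y, x * y = y * x) {a b : H}
    (ha : ∀ y ∈ Y, a * y * a⁻¹ ∈ Y) (hb : ∀ y ∈ Y, b * y * b⁻¹ ∈ Y)
    (har : ∀ y ∈ Y, a ^ r * y * (a ^ r)⁻¹ = y) (hbr : ∀ y ∈ Y, b ^ r * y * (b ^ r)⁻¹ = y)
    (hab : ∀ y ∈ Y, a * (b * y * b⁻¹) * a⁻¹ = b * (a * y * a⁻¹) * b⁻¹)
    (hfix : ∀ y ∈ Y, (b * y * b⁻¹ = y ∨ ∃ j : ℕ, (a * b ^ j) * y * (a * b ^ j)⁻¹ = y) → y ∈ K)
    {y : H} (hy : y ∈ Y) : y ^ r ∈ K := by
  classical
  letI : CommGroup Y :=
    { (inferInstance : Group Y) with mul_comm := fun x z => Subtype.ext (hYc x x.2 z z.2) }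
  let α : Monoid.End Y :=
    { toFun := fun x => ⟨a * x * a⁻¹, ha x x.2⟩
      map_one' := Subtype.ext (by simp)
      map_mul' := fun x z => Subtype.ext (by simp [mul_assoc]) }
  let β : Monoid.End Y :=
    { toFun := fun x => ⟨b * x * b⁻¹, hb x x.2⟩
      map_one' := Subtype.ext (by simp)
      map_mul' := fun x z => Subtype.ext (by simp [mul_assoc]) }
  have hαpow : ∀ (k : ℕ) (x : Y), ((α ^ k) x : H) = a ^ k * x * (a ^ k)⁻¹ := by
    intro k
    induction k with
    | zero => intro x; simp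
    | succ k ih =>
      intro x
      rw [pow_succ']
      show a * ((α ^ k) x : H) * a⁻¹ = _
      rw [ih, pow_succ']; group
  have hβpow : ∀ (k : ℕ) (x : Y), ((β ^ k) x : H) = b ^ k * x * (b ^ k)⁻¹ := by
    intro k
    induction k with
    | zero => intro x; simp
    | succ k ih =>
      intro x
      rw [pow_succ']
      show b * ((β ^ k) x : H) * b⁻¹ = _
      rw [ih, pow_succ']; group
  have hα1 : α ^ r = 1 := MonoidHom.ext fun x => Subtype.ext ((hαpow r x).trans (har x x.2))
  have hβ1 : β ^ r = 1 := MonoidHom.ext fun x => Subtype.ext ((hβpow r x).trans (hbr x x.2))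
  have hαβ : Commute α β := MonoidHom.ext fun x => Subtype.ext (hab x x.2)
  have hαadd : ∀ i k : ZMod r, α ^ (i.val + k.val) = α ^ (i + k).val := fun i k => by
    rw [pow_eq_pow_mod _ hα1, ← ZMod.val_add]
  have hβadd : ∀ i k : ZMod r, β ^ (i.val + k.val) = β ^ (i + k).val := fun i k => by
    rw [pow_eq_pow_mod _ hβ1, ← ZMod.val_add]
  set y0 : Y := ⟨y, hy⟩ with hy0
  let f : ZMod r → ZMod r → Y := fun i k => (α ^ i.val * β ^ k.val) y0
  -- a product along a line is fixed
  have hline : ∀ j : ZMod r, ((∏ i : ZMod r, f i (i * j) : Y) : H) ∈ K := by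
    intro j
    refine hfix _ (∏ i : ZMod r, f i (i * j) : Y).2 (Or.inr ⟨j.val, ?_⟩)
    have hstep : ∀ i : ZMod r, (α * β ^ j.val) (f i (i * j)) = f (1 + i) ((1 + i) * j) := by
      intro i
      show ((α * β ^ j.val) * (α ^ i.val * β ^ (i * j).val)) y0 = _
      have hc : Commute (β ^ j.val) (α ^ i.val) := (hαβ.symm).pow_pow _ _
      rw [mul_assoc α (β ^ j.val), ← mul_assoc (β ^ j.val), hc.eq, mul_assoc (α ^ i.val),
        ← pow_add, hβadd, ← mul_assoc α, ← pow_succ', add_comm i.val 1]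
      conv_lhs => rw [← ZMod.val_one r, hαadd]
      rw [show (1 + i) * j = j + i * j by ring]
    have hprod : (α * β ^ j.val) (∏ i : ZMod r, f i (i * j)) = ∏ i : ZMod r, f i (i * j) := by
      rw [map_prod]
      exact Fintype.prod_equiv (Equiv.addLeft (1 : ZMod r)) _ _ hstep
    have hval : ∀ x : Y, ((α * β ^ j.val) x : H) = a * b ^ j.val * x * (a * b ^ j.val)⁻¹ := by
      intro x
      show a * ((β ^ j.val) x : H) * a⁻¹ = _
      rw [hβpow]; group
    exact (hval _).symm.trans (congrArg Subtype.val hprod)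
  -- the product along the line of `b` is fixed
  have hcol : ∀ i : ZMod r, ((∏ k : ZMod r, f i k : Y) : H) ∈ K := by
    intro i
    refine hfix _ (∏ k : ZMod r, f i k : Y).2 (Or.inl ?_)
    have hstep : ∀ k : ZMod r, β (f i k) = f i (1 + k) := by
      intro k
      show (β * (α ^ i.val * β ^ k.val)) y0 = _
      rw [← mul_assoc, ((hαβ.symm).pow_right i.val).eq, mul_assoc, ← pow_succ', add_comm k.val 1]
      conv_lhs => rw [← ZMod.val_one r, hβadd]
    have hprod : β (∏ k : ZMod r, f i k) = ∏ k : ZMod r, f i k := by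
      rw [map_prod]
      exact Fintype.prod_equiv (Equiv.addLeft (1 : ZMod r)) _ _ hstep
    exact congrArg Subtype.val hprod
  -- reindexing
  have hsum : (∏ j : ZMod r, ∏ i : ZMod r, f i (i * j)) =
      y0 ^ r * ∏ i ∈ Finset.univ.erase (0 : ZMod r), ∏ k : ZMod r, f i k := by
    rw [Finset.prod_comm, ← Finset.mul_prod_erase _ _ (Finset.mem_univ (0 : ZMod r))]
    congr 1
    · simp [f, hy0, ZMod.card]
    · refine Finset.prod_congr rfl fun i hi => ?_
      exact Fintype.prod_equiv (Equiv.mulLeft₀ i (Finset.mem_erase.1 hi).1) _ _ fun k => rfl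
  have hL : ((∏ j : ZMod r, ∏ i : ZMod r, f i (i * j) : Y) : H) ∈ K :=
    (Finset.prod_induction (fun j : ZMod r => ∏ i : ZMod r, f i (i * j)) (fun x : Y => (x : H) ∈ K)
      (fun x z hx hz => K.mul_mem hx hz) K.one_mem fun j _ => hline j)
  have hR : ((∏ i ∈ Finset.univ.erase (0 : ZMod r), ∏ k : ZMod r, f i k : Y) : H) ∈ K :=
    (Finset.prod_induction (fun i : ZMod r => ∏ k : ZMod r, f i k) (fun x : Y => (x : H) ∈ K)
      (fun x z hx hz => K.mul_mem hx hz) K.one_mem fun i _ => hcol i)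
  rw [hsum, Subgroup.coe_mul] at hL
  exact (K.mul_mem_cancel_right hR).1 hL

end Cfsg.Agent.ThreeSizes63
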