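import Cfsg.Agent.Lib.CaminaSizes63Core
import Cfsg.Agent.Lib.ThreeSizes63Norm

/-!
# Families of centralizers with trivial intersections

`Good` is a set of primes.  The centralizers of the noncentral elements of good prime power order
form a family: each contains good elements of two primes and is the centralizer of every good
element it contains.
-/

set_option autoImplicit false

namespace Cfsg.Agent.ThreeSizes63

open Cfsg.Agent.ClassSizeGraph76 (cs cls)
open Cfsg.Agent.TwoRegSizes38 (Cn IsPE mem_cn self_mem_cn bar)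
open Cfsg.Agent.CaminaSizes63 (mem_cn_symm exists_conj_mem isPE_conj conj_not_center
  mem_of_isPE_of_not_dvd cn_le_iff)

variable {G : Type*} [Group G] {Good : ℕ → Prop}

/-- The order of the centralizer modulo the centre. -/
noncomputable def rho (x : G) : ℕ := (Subgroup.center G).relIndex (Cn x)

/-- A noncentral element of good prime power order. -/
def GoodEl (Good : ℕ → Prop) (w : G) : Prop :=
  ∃ r : ℕ, r.Prime ∧ Good r ∧ IsPE r w ∧ w ∉ Subgroup.center G

/-- The family property. -/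
structure Fam (G : Type*) [Group G] (Good : ℕ → Prop) : Prop where
  ti : ∀ ⦃w u : G⦄, GoodEl Good w → GoodEl Good u → u ∈ Cn w → Cn u = Cn w
  two : ∀ ⦃w : G⦄, GoodEl Good w → ∀ r : ℕ,
    ∃ (s : ℕ) (v : G), s.Prime ∧ Good s ∧ s ≠ r ∧ IsPE s v ∧ v ∉ Subgroup.center G ∧ v ∈ Cn w

/-- The centralizers of `w` and `z` are conjugate. -/
def Cj (w z : G) : Prop := ∃ k : G, Cn (k * w * k⁻¹) = Cn z

theorem GoodEl.not_center {w : G} (h : GoodEl Good w) : w ∉ Subgroup.center G := by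
  obtain ⟨r, -, -, -, hc⟩ := h
  exact hc

theorem GoodEl.conj {w : G} (h : GoodEl Good w) (k : G) : GoodEl Good (k * w * k⁻¹) := by
  obtain ⟨r, hr, hg, hw, hc⟩ := h
  exact ⟨r, hr, hg, isPE_conj hw k, conj_not_center hc k⟩

theorem bar_comm_iff {g z : G} :
    bar g * bar z = bar z * bar g ↔ g * z * g⁻¹ * z⁻¹ ∈ Subgroup.center G := by
  rw [← TwoRegSizes38.bar_eq_one, map_mul, map_mul, map_mul, map_inv, map_inv, mul_inv_eq_one,
    mul_inv_eq_iff_eq_mul]

theorem center_comm {z : G} (hz : z ∈ Subgroup.center G) (g : G) : g * z = z * g :=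
  Subgroup.mem_center_iff.1 hz g

variable [Finite G]

theorem rho_mul_cs (x : G) : rho x * cs x = (Subgroup.center G).index :=
  Subgroup.relIndex_mul_index (TwoRegSizes38.center_le_cn x)

theorem rho_pos (x : G) : 0 < rho x :=
  Nat.pos_of_ne_zero fun h => by
    have := rho_mul_cs x
    rw [h, zero_mul] at this
    exact Subgroup.index_ne_zero_of_finite this.symm

theorem cs_eq_of_cn_eq {x y : G} (h : Cn x = Cn y) : cs x = cs y := by
  show (Cn x).index = (Cn y).index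
  rw [h]

theorem rho_eq_of_cs {x y : G} (h : cs x = cs y) : rho x = rho y := by
  have h1 := (rho_mul_cs x).trans (rho_mul_cs y).symm
  rw [h] at h1
  exact Nat.eq_of_mul_eq_mul_right (ClassSizeGraph76.cs_pos y) h1

theorem Cj.cs_eq {w z : G} (h : Cj w z) : cs w = cs z := by
  obtain ⟨k, hk⟩ := h
  rw [← ClassSizeGraph76.cs_conj w k]
  exact cs_eq_of_cn_eq hk

theorem exists_of_dvd_rho {r : ℕ} (hr : r.Prime) {w : G} (h : r ∣ rho w) :
    ∃ v ∈ Cn w, v ∉ Subgroup.center G ∧ IsPE r v :=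
  TwoRegSizes38.exists_primePow_of_dvd_relIndex hr h

theorem dvd_rho_of_mem {r : ℕ} (hr : r.Prime) {w v : G} (hv : v ∈ Cn w) (hpe : IsPE r v)
    (hc : v ∉ Subgroup.center G) : r ∣ rho w := by
  by_contra h
  exact hc (mem_of_isPE_of_not_dvd hr h hv hpe)

namespace Fam

variable (F : Fam G Good)
include F

theorem le_cn {w u : G} (hw : GoodEl Good w) (hu : GoodEl Good u) (h : u ∈ Cn w) :
    Cn w ≤ Cn u := (F.ti hw hu h).ge

/-- An element commuting with a good element of `C(w)` lies in `C(w)`. -/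
theorem mem_of_comm {w v g : G} (hw : GoodEl Good w) (hv : GoodEl Good v) (hvw : v ∈ Cn w)
    (h : g * v = v * g) : g ∈ Cn w := F.ti hw hv hvw ▸ mem_cn.2 h

/-- A prime not dividing a class size gives a single class of centralizers. -/
theorem cj_of_not_dvd {r : ℕ} (hr : r.Prime) (hg : Good r) {z w : G} (hz : GoodEl Good z)
    (hfull : ¬ r ∣ cs z) (hw : GoodEl Good w) (hrw : r ∣ rho w) : Cj w z := by
  obtain ⟨v, hv, hvc, hve⟩ := exists_of_dvd_rho hr hrw
  obtain ⟨k, hk⟩ := exists_conj_mem hr hve (H := Cn z) hfull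
  refine ⟨k, ?_⟩
  have h1 : Cn (k * v * k⁻¹) = Cn z := F.ti hz ⟨r, hr, hg, isPE_conj hve k, conj_not_center hvc k⟩ hk
  have h2 : k * v * k⁻¹ ∈ Cn (k * w * k⁻¹) := (TwoRegSizes38.conj_mem_cn k).2 hv
  rw [← h1]
  exact (F.ti (hw.conj k) ⟨r, hr, hg, isPE_conj hve k, conj_not_center hvc k⟩ h2).symm

/-- If `r` divides `cs w` and the centralizer order, some `r`-element outside `C(w)` normalizes
`C(w)`. -/
theorem exists_normalizing {r : ℕ} (hr : r.Prime) (hg : Good r) {w : G} (hw : GoodEl Good w)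
    (h1 : r ∣ rho w) (h2 : r ∣ cs w) :
    ∃ u : G, IsPE r u ∧ u ∉ Cn w ∧ u ∈ Subgroup.normalizer (Cn w : Set G) := by
  haveI : Fact r.Prime := ⟨hr⟩
  let S : Sylow r (Cn w) := default
  set U := (S : Subgroup (Cn w)).map (Cn w).subtype with hU
  have hUp : IsPGroup r U := S.2.map _
  obtain ⟨R, hR⟩ := hUp.exists_le_sylow
  have hlt : U.subgroupOf (R : Subgroup G) < ⊤ := by
    refine lt_top_iff_ne_top.2 fun e => R.not_dvd_index ?_
    have hUR : U = (R : Subgroup G) := le_antisymm hR (Subgroup.subgroupOf_eq_top.1 e)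
    rw [← hUR, hU, Subgroup.index_map_subtype]
    exact h2.mul_left _
  haveI : Group.IsNilpotent R := R.2.isNilpotent
  obtain ⟨⟨u, huR⟩, huN, huU⟩ :=
    SetLike.exists_of_lt (Group.normalizerCondition_of_isNilpotent _ hlt)
  -- a noncentral element of `U`
  obtain ⟨v, hv, hvc, hve⟩ := exists_of_dvd_rho hr h1
  obtain ⟨k, hk⟩ := exists_conj_mem hr (z := (⟨v, hv⟩ : Cn w))
    (by obtain ⟨j, hj⟩ := hve; exact ⟨j, by rw [Subgroup.orderOf_mk, hj]⟩) S.not_dvd_index
  set r1 := (k : G) * v * (k : G)⁻¹ with hr1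
  have hr1U : r1 ∈ U := ⟨_, hk, rfl⟩
  have hr1g : GoodEl Good r1 := ⟨r, hr, hg, isPE_conj hve _, conj_not_center hvc _⟩
  have hr1w : r1 ∈ Cn w := Subgroup.map_subtype_le _ hr1U
  have hconj : u * r1 * u⁻¹ ∈ U := by
    have := (Subgroup.mem_normalizer_iff.1 huN ⟨r1, hR hr1U⟩).1 (Subgroup.mem_subgroupOf.2 hr1U)
    simpa [Subgroup.mem_subgroupOf] using this
  refine ⟨u, IsPE.of_mem_pgroup R.2 huR, fun hu => huU ?_, ?_⟩
  · rw [Subgroup.mem_subgroupOf]
    have hle : U ≤ (R : Subgroup G) ⊓ Cn w := le_inf hR (Subgroup.map_subtype_le _)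
    have hp : IsPGroup r (((R : Subgroup G) ⊓ Cn w).subgroupOf (Cn w)) :=
      (R.2.to_le inf_le_left).of_equiv (Subgroup.subgroupOfEquivOfLe inf_le_right).symm
    have hS : (S : Subgroup (Cn w)) ≤ ((R : Subgroup G) ⊓ Cn w).subgroupOf (Cn w) := fun c hc =>
      Subgroup.mem_subgroupOf.2 (hle ⟨c, hc, rfl⟩)
    have heq := S.3 hp hS
    refine ⟨⟨u, hu⟩, ?_, rfl⟩
    exact heq.le (Subgroup.mem_subgroupOf.2 ⟨huR, hu⟩)
  · have e1 : Cn r1 = Cn w := F.ti hw hr1g hr1w
    have e2 : Cn (u * r1 * u⁻¹) = Cn w :=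
      F.ti hw (hr1g.conj u) (Subgroup.map_subtype_le _ hconj)
    rw [← e1]
    exact TwoRegSizes38.mem_normalizer_cn (e2.trans e1.symm)

/-- An `r`-part of order `r` in `C(w) / Z` and an `s`-element acting nontrivially. -/
theorem dvd_sub_one {r s : ℕ} (hr : r.Prime) (hgr : Good r) (hs : s.Prime) (hgs : Good s)
    (hne : r ≠ s) {w : G} (hw : GoodEl Good w) (hr1 : r ∣ rho w) (hr2 : ¬ r ^ 2 ∣ rho w)
    (hs1 : s ∣ rho w) (hs2 : s ∣ cs w) : s ∣ r - 1 := by
  haveI : Fact r.Prime := ⟨hr⟩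
  obtain ⟨u, hu, huC, huN⟩ := F.exists_normalizing hs hgs hw hs1 hs2
  obtain ⟨v, hv, hvc, hve⟩ := exists_of_dvd_rho hr hr1
  have hvg : GoodEl Good v := ⟨r, hr, hgr, hve, hvc⟩
  have hv' : u * v * u⁻¹ ∈ Cn w := (Subgroup.mem_normalizer_iff.1 huN v).1 hv
  have hcomm : Commute (bar v) (bar (u * v * u⁻¹)) := by
    refine Commute.map ?_ (bar (G := G))
    exact mem_cn.1 (F.le_cn hw (hvg.conj u) hv' hv)
  -- the image of `v` has order `r`
  set Q : Subgroup (G ⧸ Subgroup.center G) := (Cn w).map (bar (G := G)) with hQ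
  have hQcard : Nat.card Q = rho w := by
    rw [hQ, ← Subgroup.relIndex_ker, QuotientGroup.ker_mk']
    rfl
  obtain ⟨j, hj⟩ := hve
  have hord : orderOf (bar v) = r := by
    obtain ⟨i, -, hi⟩ := (Nat.dvd_prime_pow hr).1 (hj ▸ orderOf_map_dvd bar v)
    have hd : r ^ i ∣ rho w := hi ▸ hQcard ▸ Subgroup.orderOf_dvd_natCard Q ⟨v, hv, rfl⟩
    rcases i with _ | _ | i
    · rw [pow_zero, orderOf_eq_one_iff, TwoRegSizes38.bar_eq_one] at hi
      exact absurd hi hvc
    · rw [hi, pow_one]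
    · exact absurd ((pow_dvd_pow r (Nat.le_add_left 2 i)).trans hd) hr2
  have hord' : orderOf (bar (u * v * u⁻¹)) = r := by
    rw [map_mul, map_mul, map_inv]
    exact (MulEquiv.orderOf_eq (MulAut.conj (bar u)) (bar v)).trans hord
  -- the image of the conjugate is a power of that of `v`
  obtain ⟨k, hk⟩ : ∃ k : ℕ, bar (u * v * u⁻¹) = bar v ^ k := by
    set A := Subgroup.zpowers (bar v) with hA
    set B := Subgroup.zpowers (bar (u * v * u⁻¹)) with hB
    have hAp : IsPGroup r A := IsPGroup.of_card (n := 1) (by rw [hA, Nat.card_zpowers, hord, pow_one])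
    have hBp : IsPGroup r B := IsPGroup.of_card (n := 1) (by rw [hB, Nat.card_zpowers, hord', pow_one])
    have hBN : B ≤ Subgroup.normalizer (A : Set (G ⧸ Subgroup.center G)) := by
      rw [hB, Subgroup.zpowers_le, Subgroup.mem_normalizer_iff]
      intro h
      constructor
      · intro hh
        obtain ⟨i, rfl⟩ := Subgroup.mem_zpowers_iff.1 hh
        rw [(hcomm.zpow_left i).symm.eq, mul_inv_cancel_right]
        exact Subgroup.mem_zpowers_iff.2 ⟨i, rfl⟩
      · intro hh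
        obtain ⟨i, hi⟩ := Subgroup.mem_zpowers_iff.1 hh
        have : h = bar v ^ i := by
          apply mul_left_cancel (a := bar (u * v * u⁻¹))
          apply mul_right_cancel (b := (bar (u * v * u⁻¹))⁻¹)
          rw [← hi, (hcomm.zpow_left i).symm.eq, mul_inv_cancel_right]
        exact this ▸ Subgroup.mem_zpowers_iff.2 ⟨i, rfl⟩
    have hAB : IsPGroup r (B ⊔ A : Subgroup (G ⧸ Subgroup.center G)) :=
      IsPGroup.to_sup_of_normal_right' hBp hAp hBN
    obtain ⟨i, hi⟩ := IsPGroup.iff_card.1 hAB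
    have hle : B ⊔ A ≤ Q := sup_le (Subgroup.zpowers_le.2 ⟨_, hv', rfl⟩)
      (Subgroup.zpowers_le.2 ⟨v, hv, rfl⟩)
    have hd : r ^ i ∣ rho w := hi ▸ hQcard ▸ Subgroup.card_dvd_of_le hle
    have hi1 : i ≤ 1 := by
      by_contra h
      exact hr2 ((pow_dvd_pow r (by omega)).trans hd)
    have heq : A = B ⊔ A := by
      refine Subgroup.eq_of_le_of_card_ge le_sup_right ?_
      rw [hi, hA, Nat.card_zpowers, hord]
      calc r ^ i ≤ r ^ 1 := Nat.pow_le_pow_right hr.pos hi1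
        _ = r := pow_one r
    have hmem : bar (u * v * u⁻¹) ∈ A := heq ▸ Subgroup.mem_sup_left (Subgroup.mem_zpowers _)
    classical
    obtain ⟨k, hk⟩ := Finset.mem_image.1 ((mem_zpowers_iff_mem_range_orderOf (x := bar v)).1 hmem)
    exact ⟨k, hk.2.symm⟩
  by_contra hnd
  have hiter : ∀ i : ℕ, bar u ^ i * bar v * (bar u ^ i)⁻¹ = bar v ^ k ^ i := by
    intro i
    induction i with
    | zero => simp
    | succ i ih =>
      calc bar u ^ (i + 1) * bar v * (bar u ^ (i + 1))⁻¹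
          = bar u * (bar u ^ i * bar v * (bar u ^ i)⁻¹) * (bar u)⁻¹ := by rw [pow_succ']; group
        _ = (bar u * bar v * (bar u)⁻¹) ^ k ^ i := by rw [ih, conj_pow]
        _ = bar v ^ k ^ (i + 1) := by
            rw [← map_inv, ← map_mul, ← map_mul, hk, ← pow_mul, pow_succ']
  obtain ⟨e, he⟩ := id hu
  have hfix := hiter (s ^ e)
  rw [← map_pow, ← he, pow_orderOf_eq_one, map_one, one_mul, inv_one, mul_one] at hfix
  rw [he] at hfix
  conv at hfix => lhs; rw [← pow_one (bar v)]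
  rw [pow_eq_pow_iff_modEq, hord, ← ZMod.natCast_eq_natCast_iff, Nat.cast_pow, Nat.cast_one] at hfix
  have hk0 : (k : ZMod r) ≠ 0 := by
    intro h0
    rw [h0, zero_pow (pow_ne_zero _ hs.ne_zero)] at hfix
    exact one_ne_zero hfix
  have hk1 : (k : ZMod r) = 1 := by
    have h3 : orderOf (k : ZMod r) ∣ s ^ e := orderOf_dvd_of_pow_eq_one hfix.symm
    have h4 : orderOf (k : ZMod r) ∣ r - 1 :=
      orderOf_dvd_of_pow_eq_one (ZMod.pow_card_sub_one_eq_one hk0)
    refine orderOf_eq_one_iff.1 (Nat.eq_one_of_dvd_coprimes ?_ h3 h4)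
    exact ((Nat.Prime.coprime_iff_not_dvd hs).2 hnd).pow_left e
  have hbar : bar (u * v * u⁻¹) = bar v := by
    rw [hk]
    conv_rhs => rw [← pow_one (bar v)]
    rw [pow_eq_pow_iff_modEq, hord, ← ZMod.natCast_eq_natCast_iff, hk1, Nat.cast_one]
  have hcu : u * v = v * u := TwoRegSizes38.comm_of_bar_comm
    (by rw [map_mul, map_mul, map_inv] at hbar; exact mul_inv_eq_iff_eq_mul.1 hbar)
    (hu.coprime_coprime ⟨j, hj⟩ ((Nat.coprime_primes hs hr).2 hne.symm))
  exact huC (F.mem_of_comm hw hvg hv hcu)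

/-- A Sylow subgroup with noncentral elements contains one central modulo the centre. -/
theorem exists_central {r : ℕ} [Fact r.Prime] (R : Sylow r G)
    (h : ∃ v : G, IsPE r v ∧ v ∉ Subgroup.center G) :
    ∃ z ∈ (R : Subgroup G), z ∉ Subgroup.center G ∧ z ^ r ∈ Subgroup.center G ∧
      ∀ u ∈ (R : Subgroup G), bar u * bar z = bar z * bar u := by
  obtain ⟨v, hv, hvc⟩ := h
  obtain ⟨k, hk⟩ := exists_conj_mem Fact.out hv R.not_dvd_index
  set Rb := (R : Subgroup G).map (bar (G := G)) with hRb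
  have hp : IsPGroup r Rb := R.2.map _
  haveI : Nontrivial Rb := ⟨⟨⟨_, _, hk, rfl⟩, 1, fun e => conj_not_center hvc k
    (TwoRegSizes38.bar_eq_one.1 (congrArg Subtype.val e))⟩⟩
  haveI := hp.center_nontrivial
  have hd : r ∣ Nat.card (Subgroup.center Rb) := by
    obtain ⟨i, hi⟩ := IsPGroup.iff_card.1 (hp.to_subgroup (Subgroup.center Rb))
    rw [hi]
    refine dvd_pow_self r fun h0 => ?_
    have := Finite.one_lt_card (α := Subgroup.center Rb)
    rw [hi, h0, pow_zero] at this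
    exact lt_irrefl 1 this
  obtain ⟨c, hc⟩ := exists_prime_orderOf_dvd_card' r hd
  obtain ⟨z, hz, hzc⟩ := (c : Rb).2
  have hbz : orderOf (bar z) = r := by
    rw [hzc, Subgroup.orderOf_coe, Subgroup.orderOf_coe]; exact hc
  refine ⟨z, hz, fun h => ?_, ?_, fun u hu => ?_⟩
  · rw [TwoRegSizes38.bar_eq_one.2 h, orderOf_one] at hbz
    exact (Fact.out : r.Prime).ne_one hbz.symm
  · rw [← TwoRegSizes38.bar_eq_one, map_pow, ← hbz, pow_orderOf_eq_one]
  · have := congrArg Subtype.val (Subgroup.mem_center_iff.1 c.2 ⟨bar u, u, hu, rfl⟩)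
    simpa [hzc] using this

/-- A good `t`-part of the centre of `C(z)`. -/
def centralPart (z : G) {t : ℕ} (ht : t.Prime) : Subgroup G where
  carrier := {y | y ∈ Cn z ∧ (∀ g ∈ Cn z, g * y = y * g) ∧ ∃ j : ℕ, y ^ t ^ j = 1}
  one_mem' := ⟨(Cn z).one_mem, fun g _ => by simp, 0, by simp⟩
  mul_mem' := by
    rintro x y ⟨hx, hxc, i, hi⟩ ⟨hy, hyc, j, hj⟩
    refine ⟨(Cn z).mul_mem hx hy, fun g hg => ?_, i + j, ?_⟩
    · rw [← mul_assoc, hxc g hg, mul_assoc, hyc g hg, mul_assoc]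
    · rw [(show Commute x y from hyc x hx).mul_pow, pow_add, pow_mul, hi, one_pow, one_mul,
        mul_comm (t ^ i), pow_mul, hj, one_pow]
  inv_mem' := by
    rintro x ⟨hx, hxc, i, hi⟩
    exact ⟨(Cn z).inv_mem hx, fun g hg => (Commute.inv_right (hxc g hg)).eq, i,
      by rw [inv_pow, hi, inv_one]⟩

omit [Finite G] F in
theorem isPE_of_pow_eq_one {t j : ℕ} (ht : t.Prime) {y : G} (h : y ^ t ^ j = 1) : IsPE t y :=
  let ⟨i, _, hi⟩ := (Nat.dvd_prime_pow ht).1 (orderOf_dvd_of_pow_eq_one h)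
  ⟨i, hi⟩

/-- The index of `C(z)` in a Sylow subgroup centralizing `z` modulo the centre. -/
theorem index_central {r : ℕ} [Fact r.Prime] (hg : Good r) (R : Sylow r G) {z : G}
    (hzR : z ∈ (R : Subgroup G)) (hzc : z ∉ Subgroup.center G) (hzr : z ^ r ∈ Subgroup.center G)
    (hcomm : ∀ u ∈ (R : Subgroup G), bar u * bar z = bar z * bar u) (hdvd : r ∣ cs z) :
    ((Cn z).subgroupOf (R : Subgroup G)).index = r ∧ ¬ r ^ 2 ∣ cs z := by
  have hr : r.Prime := Fact.out
  have hzg : GoodEl Good z := ⟨r, hr, hg, IsPE.of_mem_pgroup R.2 hzR, hzc⟩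
  have hval : ∀ u : (R : Subgroup G), (u : G) * z * (u : G)⁻¹ * z⁻¹ ∈ Subgroup.center G :=
    fun u => bar_comm_iff.1 (hcomm u u.2)
  let ψ : (R : Subgroup G) →* G := MonoidHom.mk' (fun u => (u : G) * z * (u : G)⁻¹ * z⁻¹) (by
    intro u v
    simp only [Subgroup.coe_mul]
    have h1 := center_comm (hval v) (u : G)
    calc (u : G) * v * z * ((u : G) * v)⁻¹ * z⁻¹
        = ((u : G) * ((v : G) * z * (v : G)⁻¹ * z⁻¹)) * (z * (u : G)⁻¹ * z⁻¹) := by group
      _ = (((v : G) * z * (v : G)⁻¹ * z⁻¹) * (u : G)) * (z * (u : G)⁻¹ * z⁻¹) := by rw [h1]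
      _ = ((v : G) * z * (v : G)⁻¹ * z⁻¹) * ((u : G) * z * (u : G)⁻¹ * z⁻¹) := by group
      _ = _ := (center_comm (hval v) _).symm)
  have hψ : ∀ u, ψ u = (u : G) * z * (u : G)⁻¹ * z⁻¹ := fun _ => rfl
  have hker : ψ.ker = (Cn z).subgroupOf (R : Subgroup G) := by
    ext u
    rw [MonoidHom.mem_ker, Subgroup.mem_subgroupOf, mem_cn, hψ, mul_inv_eq_one,
      mul_inv_eq_iff_eq_mul]
  have hpow : ∀ u, ψ u ^ r = 1 := by
    intro u
    have h1 : (u : G) * z * (u : G)⁻¹ = ψ u * z := by rw [hψ]; group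
    have h2 : ((u : G) * z * (u : G)⁻¹) ^ r = z ^ r := by
      rw [conj_pow, center_comm hzr (u : G), mul_inv_cancel_right]
    rw [h1, (show Commute (ψ u) z from (center_comm (hval u) z).symm).mul_pow] at h2
    exact mul_eq_right.1 h2
  have hidx : ((Cn z).subgroupOf (R : Subgroup G)).index = Nat.card ψ.range := by
    rw [← hker, Subgroup.index_ker]
  have hidx1 : ((Cn z).subgroupOf (R : Subgroup G)).index ≠ 1 := fun h =>
    ClassSizeGraph76.not_dvd_index_of_sylow_le R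
      (Subgroup.subgroupOf_eq_top.1 (Subgroup.index_eq_one.1 h)) hdvd
  obtain ⟨b, hb⟩ : ∃ b, ψ b ≠ 1 := by
    by_contra hall
    push Not at hall
    apply hidx1
    rw [hidx, Subgroup.card_eq_one, eq_bot_iff]
    rintro _ ⟨u, rfl⟩
    exact hall u
  have hordb : orderOf (ψ b) = r :=
    ((hr.eq_one_or_self_of_dvd _ (orderOf_dvd_of_pow_eq_one (hpow b))).resolve_left
      fun h => hb (orderOf_eq_one_iff.1 h))
  have hzle : Subgroup.zpowers (ψ b) ≤ ψ.range := Subgroup.zpowers_le.2 ⟨b, rfl⟩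
  have hmain : ((Cn z).subgroupOf (R : Subgroup G)).index = r := by
    rw [hidx]
    by_contra hne
    obtain ⟨x, hx, hxn⟩ : ∃ x ∈ ψ.range, x ∉ Subgroup.zpowers (ψ b) := by
      by_contra hall
      push Not at hall
      apply hne
      rw [le_antisymm (fun x hx => hall x hx) hzle, Nat.card_zpowers, hordb]
    obtain ⟨a, rfl⟩ := hx
    obtain ⟨t, v, ht, hgt, htr, hvt, hvc, hvz⟩ := F.two hzg r
    have hvg : GoodEl Good v := ⟨t, ht, hgt, hvt, hvc⟩
    set Y := centralPart z ht with hY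
    have hconj : ∀ u : (R : Subgroup G), ∀ y ∈ Y, (u : G) * y * (u : G)⁻¹ ∈ Y := by
      rintro u y ⟨hy, hyc, j, hj⟩
      have hN := TwoRegSizes38.normalizer_of_bar_comm (x := z) (hcomm u u.2)
      refine ⟨(Subgroup.mem_normalizer_iff.1 hN y).1 hy, fun g hgz => ?_, j, by
        rw [conj_pow, hj]; group⟩
      have hg' : (u : G)⁻¹ * g * u ∈ Cn z := by
        refine (Subgroup.mem_normalizer_iff.1 hN _).2 ?_
        simpa [mul_assoc] using hgz
      calc g * ((u : G) * y * (u : G)⁻¹) = (u : G) * (((u : G)⁻¹ * g * u) * y) * (u : G)⁻¹ := by group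
        _ = (u : G) * (y * ((u : G)⁻¹ * g * u)) * (u : G)⁻¹ := by rw [hyc _ hg']
        _ = _ := by group
    have hfixc : ∀ u : (R : Subgroup G), ψ u = 1 → ∀ y ∈ Y, (u : G) * y * (u : G)⁻¹ = y := by
      rintro u hu y ⟨-, hyc, -⟩
      rw [hyc _ (Subgroup.mem_subgroupOf.1 (hker ▸ MonoidHom.mem_ker.2 hu)), mul_inv_cancel_right]
    have hvY : v ∈ Y := by
      obtain ⟨j, hj⟩ := hvt
      refine ⟨hvz, fun g hgz => ?_, j, hj ▸ pow_orderOf_eq_one v⟩
      exact mem_cn.1 (F.le_cn hzg hvg hvz hgz)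
    have hfix : v ^ r ∈ Subgroup.center G := by
      refine pow_mem_of_fixed (a := (a : G)) (b := (b : G)) Y (Subgroup.center G)
        (fun x hx y hy => hy.2.1 x hx.1) (hconj a) (hconj b) ?_ ?_ ?_ ?_ hvY
      · intro y hy
        simpa using hfixc (a ^ r) (by rw [map_pow, hpow]) y hy
      · intro y hy
        simpa using hfixc (b ^ r) (by rw [map_pow, hpow]) y hy
      · intro y hy
        have h1 := hfixc ((b * a)⁻¹ * (a * b)) (by
          have hψab : ψ b * ψ a = ψ a * ψ b := center_comm (hval a) (ψ b)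
          rw [map_mul, map_inv, map_mul, map_mul, hψab, inv_mul_cancel]) y hy
        simp only [Subgroup.coe_mul, Subgroup.coe_inv] at h1
        calc (a : G) * ((b : G) * y * (b : G)⁻¹) * (a : G)⁻¹
            = ((b : G) * a) * ((((b : G) * a)⁻¹ * ((a : G) * b)) * y *
                (((b : G) * a)⁻¹ * ((a : G) * b))⁻¹) * ((b : G) * a)⁻¹ := by group
          _ = _ := by rw [h1]; group
      · intro y hy hfixed
        by_contra hyc
        have hyg : GoodEl Good y :=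
          ⟨t, ht, hgt, isPE_of_pow_eq_one ht hy.2.2.choose_spec, hyc⟩
        rcases hfixed with h | ⟨j, h⟩
        · refine hb ?_
          have := F.mem_of_comm hzg hyg hy.1 (mul_inv_eq_iff_eq_mul.1 h)
          exact MonoidHom.mem_ker.1 (hker.symm ▸ Subgroup.mem_subgroupOf.2 this)
        · have := F.mem_of_comm hzg hyg hy.1 (mul_inv_eq_iff_eq_mul.1 h)
          have h0 : ψ (a * b ^ j) = 1 := by
            apply MonoidHom.mem_ker.1
            rw [hker, Subgroup.mem_subgroupOf]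
            simpa using this
          rw [map_mul, map_pow, mul_eq_one_iff_eq_inv] at h0
          exact hxn (h0 ▸ Subgroup.inv_mem _ (Subgroup.pow_mem _ (Subgroup.mem_zpowers _) j))
    obtain ⟨u', hu'⟩ := exists_pow_eq_self_of_coprime (n := r) (x := v)
      ((hvt.coprime ((Nat.coprime_primes ht hr).2 htr)).symm)
    exact hvc (hu' ▸ pow_mem hfix u')
  refine ⟨hmain, fun h2 => R.not_dvd_index ?_⟩
  set D := (Cn z).subgroupOf (R : Subgroup G) with hD
  have hDd : Nat.card D ∣ Nat.card (Cn z) := by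
    rw [← Subgroup.card_map_of_injective (R : Subgroup G).subtype_injective,
      Subgroup.subgroupOf_map_subtype]
    exact Subgroup.card_dvd_of_le inf_le_left
  obtain ⟨e, he⟩ := hDd
  have h3 := (Cn z).card_mul_index
  have h4 := (R : Subgroup G).card_mul_index
  rw [← D.card_mul_index, hmain, ← h3, he] at h4
  have h5 : r * (R : Subgroup G).index = e * cs z := by
    apply Nat.eq_of_mul_eq_mul_left (Nat.card_pos (α := D))
    rw [← mul_assoc, h4, mul_assoc]
  have h6 : r * r ∣ r * (R : Subgroup G).index := by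
    rw [h5, ← sq]; exact h2.mul_left e
  exact (Nat.mul_dvd_mul_iff_left hr.pos).1 h6

/-- The centralizers with an `r`-part are conjugate to `C(z)` or have `r`-part of order `r`. -/
theorem cj_or_small {r : ℕ} [Fact r.Prime] (hg : Good r) (R : Sylow r G) {z : G}
    (hzR : z ∈ (R : Subgroup G)) (hzc : z ∉ Subgroup.center G)
    (hcomm : ∀ u ∈ (R : Subgroup G), bar u * bar z = bar z * bar u)
    (hidx : ((Cn z).subgroupOf (R : Subgroup G)).index = r) {w : G} (hw : GoodEl Good w) :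
    Cj w z ∨ ¬ r ^ 2 ∣ rho w := by
  have hr : r.Prime := Fact.out
  let S : Sylow r (Cn w) := default
  obtain ⟨P, hP⟩ := (S.2.map (Cn w).subtype).exists_le_sylow
  obtain ⟨k, hk⟩ := MulAction.exists_smul_eq G P R
  set U := ((S : Subgroup (Cn w)).map (Cn w).subtype).map (MulAut.conj k).toMonoidHom with hU
  have hUR : U ≤ (R : Subgroup G) := by
    rintro _ ⟨c, hc, rfl⟩
    rw [← hk, Sylow.coe_subgroup_smul]
    exact ⟨c, hP hc, rfl⟩
  have hUx : U ≤ Cn (k * w * k⁻¹) := by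
    rintro _ ⟨_, ⟨c, -, rfl⟩, rfl⟩
    exact (TwoRegSizes38.conj_mem_cn k).2 c.2
  by_cases hex : ∃ g ∈ U, g ∈ Cn z ∧ g ∉ Subgroup.center G
  · obtain ⟨g, hgU, hgz, hgc⟩ := hex
    have hgg : GoodEl Good g := ⟨r, hr, hg, IsPE.of_mem_pgroup R.2 (hUR hgU), hgc⟩
    have hzg : GoodEl Good z := ⟨r, hr, hg, IsPE.of_mem_pgroup R.2 hzR, hzc⟩
    exact Or.inl ⟨k, (F.ti (hw.conj k) hgg (hUx hgU)).symm.trans (F.ti hzg hgg hgz)⟩
  refine Or.inr fun h2 => ?_
  have hle : Cn z ⊓ U ≤ Subgroup.center G := fun g hgg => by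
    by_contra hc
    exact hex ⟨g, hgg.2, hgg.1, hc⟩
  haveI : ((Cn z).subgroupOf (R : Subgroup G)).Normal := ⟨fun d hd u => by
    rw [Subgroup.mem_subgroupOf] at hd ⊢
    exact (Subgroup.mem_normalizer_iff.1
      (TwoRegSizes38.normalizer_of_bar_comm (hcomm u u.2)) d).1 hd⟩
  have hrel : (Cn z).relIndex U ∣ r := by
    rw [← hidx, ← Subgroup.relIndex_subgroupOf hUR]
    exact Subgroup.relIndex_dvd_index_of_normal _ _
  have hUcard : Nat.card U ∣ Nat.card (Subgroup.center G) * r := by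
    rw [← ((Cn z).subgroupOf U).card_mul_index]
    refine Nat.mul_dvd_mul ?_ hrel
    rw [← Subgroup.card_map_of_injective U.subtype_injective, Subgroup.subgroupOf_map_subtype]
    exact Subgroup.card_dvd_of_le hle
  have hScard : Nat.card U = Nat.card S := by
    rw [hU, Subgroup.card_map_of_injective (MulAut.conj k).injective,
      Subgroup.card_map_of_injective (Cn w).subtype_injective]
  have h3 : Nat.card (Subgroup.center G) * rho w = Nat.card S * (S : Subgroup (Cn w)).index := by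
    rw [(S : Subgroup (Cn w)).card_mul_index,
      ← ((Subgroup.center G).subgroupOf (Cn w)).card_mul_index,
      Nat.card_congr (Subgroup.subgroupOfEquivOfLe (TwoRegSizes38.center_le_cn w)).toEquiv]
    rfl
  have h4 : Nat.card (Subgroup.center G) * r * r ∣
      Nat.card (Subgroup.center G) * r * (S : Subgroup (Cn w)).index := by
    refine dvd_trans ?_ (Nat.mul_dvd_mul_right (hScard ▸ hUcard) _)
    rw [← h3, mul_assoc, ← sq]
    exact Nat.mul_dvd_mul_left _ h2
  exact S.not_dvd_index ((Nat.mul_dvd_mul_iff_left (Nat.mul_pos Nat.card_pos hr.pos)).1 h4)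

/-- For a good prime the centralizers with an `r`-part are conjugate or small at `r`. -/
theorem cj_dichotomy {r : ℕ} (hr : r.Prime) (hg : Good r)
    (hex : ∃ v : G, IsPE r v ∧ v ∉ Subgroup.center G) :
    ∃ z : G, GoodEl Good z ∧ ∀ w : G, GoodEl Good w → r ∣ rho w →
      Cj w z ∨ (¬ r ^ 2 ∣ rho w ∧ r ∣ cs w) := by
  haveI : Fact r.Prime := ⟨hr⟩
  by_cases hfull : ∃ w : G, GoodEl Good w ∧ r ∣ rho w ∧ ¬ r ∣ cs w
  · obtain ⟨z, hz, -, hzf⟩ := hfull
    exact ⟨z, hz, fun w hw hrw => Or.inl (F.cj_of_not_dvd hr hg hz hzf hw hrw)⟩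
  push Not at hfull
  let R : Sylow r G := default
  obtain ⟨z, hzR, hzc, hzr, hcomm⟩ := F.exists_central R hex
  have hzg : GoodEl Good z := ⟨r, hr, hg, IsPE.of_mem_pgroup R.2 hzR, hzc⟩
  have hidx := (F.index_central hg R hzR hzc hzr hcomm
    (hfull z hzg (dvd_rho_of_mem hr (self_mem_cn z) (IsPE.of_mem_pgroup R.2 hzR) hzc))).1
  exact ⟨z, hzg, fun w hw hrw => (F.cj_or_small hg R hzR hzc hcomm hidx hw).imp_right
    fun h => ⟨h, hfull w hw hrw⟩⟩

/-- A set of good elements with two common primes and equal parts has one class of centralizers. -/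
theorem single {r s : ℕ} (hr : r.Prime) (hgr : Good r) (hs : s.Prime) (hgs : Good s) (hne : r ≠ s)
    (P : G → Prop) (hP : ∀ w, P w → GoodEl Good w)
    (hr1 : ∀ w, P w → r ∣ rho w) (hs1 : ∀ w, P w → s ∣ rho w)
    (hsq : ∀ (t : ℕ) (w w' : G), t.Prime → Good t → P w → P w' → t ^ 2 ∣ rho w → t ^ 2 ∣ rho w')
    (hcs : ∀ (t : ℕ) (w w' : G), t.Prime → Good t → P w → P w' → t ∣ cs w → t ∣ cs w')
    (hPne : ∃ w, P w) : ∃ z : G, GoodEl Good z ∧ ∀ w, P w → Cj w z := by
  obtain ⟨w0, hw0⟩ := hPne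
  obtain ⟨vr, hvr, hvrc, hvre⟩ := exists_of_dvd_rho hr (hr1 w0 hw0)
  obtain ⟨vs, hvs, hvsc, hvse⟩ := exists_of_dvd_rho hs (hs1 w0 hw0)
  obtain ⟨z, hz, hzall⟩ := F.cj_dichotomy hr hgr ⟨vr, hvre, hvrc⟩
  by_cases hr2 : ∀ w, P w → Cj w z
  · exact ⟨z, hz, hr2⟩
  push Not at hr2
  obtain ⟨w1, hw1, hnc1⟩ := hr2
  obtain ⟨hsm1, hcs1⟩ := (hzall w1 (hP w1 hw1) (hr1 w1 hw1)).resolve_left hnc1
  obtain ⟨z', hz', hzall'⟩ := F.cj_dichotomy hs hgs ⟨vs, hvse, hvsc⟩
  by_cases hs2 : ∀ w, P w → Cj w z'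
  · exact ⟨z', hz', hs2⟩
  push Not at hs2
  obtain ⟨w2, hw2, hnc2⟩ := hs2
  obtain ⟨hsm2, hcs2⟩ := (hzall' w2 (hP w2 hw2) (hs1 w2 hw2)).resolve_left hnc2
  exfalso
  have h1 := F.dvd_sub_one hr hgr hs hgs hne (hP w1 hw1) (hr1 w1 hw1) hsm1 (hs1 w1 hw1)
    (hcs s w2 w1 hs hgs hw2 hw1 hcs2)
  have h2 := F.dvd_sub_one hs hgs hr hgr hne.symm (hP w1 hw1) (hs1 w1 hw1)
    (fun h => hsm2 (hsq s w1 w2 hs hgs hw1 hw2 h)) (hr1 w1 hw1) hcs1
  have h3 := Nat.le_of_dvd (by have := hr.two_le; omega) h1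
  have h4 := Nat.le_of_dvd (by have := hs.two_le; omega) h2
  have := hr.two_le
  omega

end Fam

end Cfsg.Agent.ThreeSizes63
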