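import Cfsg.Agent.Lib.ThreeSizes63Rigid
import Cfsg.Agent.Lib.ThreeSizes63Ext
import Cfsg.Agent.S0205
import Cfsg.Agent.S4037

/-!
# Three class sizes: a centralizer which is a `p`-group modulo the centre

The centralizers of the elements of prime power order for primes other than `p` form one class.
-/

set_option autoImplicit false

namespace Cfsg.Agent.ThreeSizes63

open Cfsg.Agent.ClassSizeGraph76 (cs cs_pos cs_conj)
open Cfsg.Agent.TwoRegSizes38 (Cn IsPE mem_cn self_mem_cn center_le_cn bar)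
open Cfsg.Agent.CaminaSizes63 (mem_cn_symm isPE_conj conj_not_center)

universe u

variable {G : Type u} [Group G] [Finite G] {p : ℕ}

theorem dvd_index_of_dvd_cs {r : ℕ} {z : G} (h : r ∣ cs z) : r ∣ (Subgroup.center G).index :=
  rho_mul_cs z ▸ h.mul_left (rho z)

namespace Fam

/-- An element of order two modulo `C(z)` inverts the good elements modulo the centre. -/
theorem inv_of_involution {Good : ℕ → Prop} (F : Fam G Good) {z ι v : G} (hz : GoodEl Good z)
    (hι : ι ∈ Subgroup.normalizer (Cn z : Set G)) (hιC : ι ∉ Cn z) (hι2 : ι * ι ∈ Cn z) {t : ℕ}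
    (ht : t.Prime) (hgt : Good t) (hv : IsPE t v) (hvc : v ∉ Subgroup.center G) (hvz : v ∈ Cn z) :
    bar ι * bar v * (bar ι)⁻¹ = (bar v)⁻¹ := by
  have hvY := F.mem_centralPart hz ht hgt hv hvc hvz
  have hv' := conj_mem_centralPart ht hι hvY
  have hw := (centralPart z ht).mul_mem hv' hvY
  have hwc : ι * v * ι⁻¹ * v ∈ Subgroup.center G := by
    by_contra hc
    obtain ⟨j, hj⟩ := hw.2.2
    refine hιC (F.mem_of_comm hz ⟨t, ht, hgt, isPE_of_pow_eq_one ht hj, hc⟩ hw.1 ?_)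
    have h1 : ι * ι * v = v * (ι * ι) := hvY.2.1 _ hι2
    have h2 : v * (ι * v * ι⁻¹) = ι * v * ι⁻¹ * v := hv'.2.1 _ hvz
    calc ι * (ι * v * ι⁻¹ * v) = (ι * ι * v) * (ι⁻¹ * v) := by group
      _ = (v * (ι * ι)) * (ι⁻¹ * v) := by rw [h1]
      _ = (v * (ι * v * ι⁻¹)) * ι := by group
      _ = _ := by rw [h2]
  have h3 := TwoRegSizes38.bar_eq_one.2 hwc
  rw [map_mul, map_mul, map_mul, map_inv] at h3
  exact eq_inv_of_mul_eq_one_left h3

/-- The prime `2` and an odd prime both dividing the class size. -/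
theorem false_of_two_at {Good : ℕ → Prop} (F : Fam G Good) (hg2 : Good 2) {t : ℕ} (ht : t.Prime)
    (hgt : Good t) (ht2 : t ≠ 2) {z u v w : G} (hze : IsPE 2 z) (hzc : z ∉ Subgroup.center G)
    (hu : u ∈ Subgroup.normalizer (Cn z : Set G)) (huC : u ∉ Cn z)
    (hzu : bar u * bar z = bar z * bar u) (hu2 : u * u ∈ Cn z)
    (hve : IsPE t v) (hvc : v ∉ Subgroup.center G) (hvz : v ∈ Cn z)
    (hw : w ∈ Subgroup.normalizer (Cn z : Set G)) (hwC : w ∉ Cn z)
    (hwv : bar w * bar v = bar v * bar w) : False := by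
  have hz : GoodEl Good z := ⟨2, Nat.prime_two, hg2, hze, hzc⟩
  have hinv := F.inv_of_involution hz hu huC hu2 ht hgt hve hvc hvz
  set N := Subgroup.normalizer (Cn z : Set G) with hN
  set L := N ⊓ (Cn (bar v)).comap bar with hL
  have hCL : Cn z ≤ L := fun g hg => ⟨Subgroup.le_normalizer hg, Subgroup.mem_comap.2 (mem_cn.2 (by
    rw [← map_mul, ← map_mul, (F.mem_centralPart hz ht hgt hve hvc hvz).2.1 g hg]))⟩
  refine F.no_extend Nat.prime_two hg2 hz hze hu huC hzu hCL inf_le_left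
    (fun e => hwC (e ▸ ⟨hw, Subgroup.mem_comap.2 (mem_cn.2 hwv)⟩)) (fun l hl => ?_) ?_
  · refine ⟨N.mul_mem (N.mul_mem hu hl.1) (N.inv_mem hu), Subgroup.mem_comap.2 (mem_cn.2 ?_)⟩
    have h1 := mem_cn.1 (Subgroup.mem_comap.1 hl.2)
    have h2 : bar (u * l * u⁻¹) * (bar v)⁻¹ = (bar v)⁻¹ * bar (u * l * u⁻¹) := by
      rw [← hinv, map_mul, map_mul, map_inv]
      calc bar u * bar l * (bar u)⁻¹ * (bar u * bar v * (bar u)⁻¹)
          = bar u * (bar l * bar v) * (bar u)⁻¹ := by group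
        _ = bar u * (bar v * bar l) * (bar u)⁻¹ := by rw [h1]
        _ = _ := by group
    have h3 : Commute (bar (u * l * u⁻¹)) (bar v)⁻¹ := h2
    exact (Commute.inv_right_iff.1 h3).eq
  · intro hd
    haveI : ((Cn z).subgroupOf L).Normal := ⟨fun d hd' g => by
      rw [Subgroup.mem_subgroupOf] at hd' ⊢
      exact (Subgroup.mem_normalizer_iff.1 g.2.1 _).1 hd'⟩
    obtain ⟨g, hgL, hgC, hge⟩ := TwoRegSizes38.exists_primePow_of_dvd_relIndex Nat.prime_two hd
    obtain ⟨e, he⟩ := F.pow_mem_of_bar_comm hz ht hgt hve hvc hvz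
      (mem_cn.1 (Subgroup.mem_comap.1 hgL.2))
    obtain ⟨i, hi⟩ := exists_pow_eq_self_of_coprime (n := t ^ e) (x := g)
      ((hge.coprime (((Nat.coprime_primes Nat.prime_two ht).2 ht2.symm).pow_right e)).symm)
    exact hgC (hi ▸ pow_mem he i)

/-- Two good primes dividing the class size. -/
theorem false_of_two (F : Fam G (fun r => r ≠ p)) {z0 : G}
    (hall : ∀ v : G, GoodEl (fun r => r ≠ p) v → Cj v z0) {s t : ℕ} (hs : s.Prime) (ht : t.Prime)
    (hsp : s ≠ p) (htp : t ≠ p) (hst : s ≠ t) (hsd : s ∣ cs z0) (htd : t ∣ cs z0) : False := by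
  have hdata : ∀ r : ℕ, r.Prime → r ≠ p → r ∣ cs z0 → _ := fun r hr hrp hrd =>
    F.exists_data hr hrp (exists_pe_of_dvd_index hr (dvd_index_of_dvd_cs hrd))
      (fun v hv _ => (hall v hv).cs_eq ▸ hrd) hall
  obtain ⟨z, u, hze, hzc, hzC, -, hu, huC, hzu, -, -, -⟩ := hdata s hs hsp hsd
  obtain ⟨v, w, hve, hvc, hvC, -, hw, hwC, hwv, -, -, -⟩ := hdata t ht htp htd
  rw [← hzC] at hvC
  rw [hvC] at hw hwC
  have hvz : v ∈ Cn z := hvC ▸ self_mem_cn v
  have hzg : GoodEl (fun r => r ≠ p) z := ⟨s, hs, hsp, hze, hzc⟩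
  set N := Subgroup.normalizer (Cn z : Set G) with hN
  set π := QuotientGroup.mk' ((Cn z).subgroupOf N) with hπ
  have hπ1 : ∀ g : N, π g = 1 ↔ (g : G) ∈ Cn z := fun g =>
    (QuotientGroup.eq_one_iff g).trans Subgroup.mem_subgroupOf
  by_cases hinv : ∃ ι ∈ N, ι ∉ Cn z ∧ ι * ι ∈ Cn z
  · obtain ⟨ι, hι, hιC, hι2⟩ := hinv
    have hord : orderOf (π ⟨ι, hι⟩) = 2 := by
      refine orderOf_eq_prime (p := 2) ?_ fun h => hιC ((hπ1 _).1 h)
      rw [← map_pow, hπ1, sq]
      exact hι2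
    by_cases hp2 : p = 2
    · have hs2 : s ≠ 2 := hp2 ▸ hsp
      have hι' : u * ι * u⁻¹ ∈ N := mul_mem (mul_mem hu hι) (inv_mem hu)
      have hconjC : ∀ g, g ∈ Cn z ↔ u * g * u⁻¹ ∈ Cn z := Subgroup.mem_normalizer_iff.1 hu
      have hd : ∀ (r : ℕ) (y : G), r.Prime → r ≠ p → IsPE r y → y ∉ Subgroup.center G → y ∈ Cn z →
          ∃ e : ℕ, π (⟨u * ι * u⁻¹, hι'⟩ * ⟨ι, hι⟩) ^ r ^ e = 1 := by
        intro r y hr hrp hye hyc hyz
        have e1 := F.inv_of_involution hzg hι hιC hι2 hr hrp hye hyc hyz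
        have e2 := F.inv_of_involution hzg hι' (fun h => hιC ((hconjC ι).2 h))
          (by rw [show u * ι * u⁻¹ * (u * ι * u⁻¹) = u * (ι * ι) * u⁻¹ by group]
              exact (hconjC _).1 hι2) hr hrp hye hyc hyz
        have e3 : bar (u * ι * u⁻¹ * ι) * bar y = bar y * bar (u * ι * u⁻¹ * ι) := by
          rw [map_mul _ (u * ι * u⁻¹) ι]
          have h1 : bar (u * ι * u⁻¹) * (bar ι * bar y * (bar ι)⁻¹) * (bar (u * ι * u⁻¹))⁻¹ = bar y := by
            rw [e1]
            calc _ = (bar (u * ι * u⁻¹) * bar y * (bar (u * ι * u⁻¹))⁻¹)⁻¹ := by group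
              _ = _ := by rw [e2, inv_inv]
          calc bar (u * ι * u⁻¹) * bar ι * bar y
              = (bar (u * ι * u⁻¹) * (bar ι * bar y * (bar ι)⁻¹) * (bar (u * ι * u⁻¹))⁻¹) *
                  (bar (u * ι * u⁻¹) * bar ι) := by group
            _ = _ := by rw [h1]
        obtain ⟨e, he⟩ := F.pow_mem_of_bar_comm hzg hr hrp hye hyc hyz e3
        refine ⟨e, ?_⟩
        rw [← map_pow, hπ1]
        simpa using he
      obtain ⟨e, he⟩ := hd s z hs hsp hze hzc (self_mem_cn z)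
      obtain ⟨f, hf⟩ := hd t v ht htp hve hvc hvz
      have h1 : π (⟨u * ι * u⁻¹, hι'⟩ * ⟨ι, hι⟩) = 1 := orderOf_eq_one_iff.1
        (Nat.eq_one_of_dvd_coprimes (Nat.Coprime.pow e f ((Nat.coprime_primes hs ht).2 hst))
          (orderOf_dvd_of_pow_eq_one he) (orderOf_dvd_of_pow_eq_one hf))
      have h2 : π ⟨ι, hι⟩ * π ⟨ι, hι⟩ = 1 := by
        rw [← sq]; exact hord ▸ pow_orderOf_eq_one _
      have h3 : π ⟨u, hu⟩ * π ⟨ι, hι⟩ * (π ⟨u, hu⟩)⁻¹ = π ⟨ι, hι⟩ := by
        rw [map_mul] at h1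
        rw [← map_inv, ← map_mul, ← map_mul]
        exact (eq_inv_of_mul_eq_one_left h1).trans (eq_inv_of_mul_eq_one_left h2).symm
      refine F.no_quot hs hsp rfl hzg hze hu huC hzu (Subgroup.zpowers (π ⟨ι, hι⟩)) ?_ ?_ ?_
      · rw [Subgroup.zpowers_ne_bot]
        exact fun h => hιC ((hπ1 _).1 h)
      · intro k hk
        obtain ⟨i, rfl⟩ := Subgroup.mem_zpowers_iff.1 hk
        rw [← hπ, ← conj_zpow, h3]
        exact hk
      · rw [Nat.card_zpowers, hord]
        exact fun h => hs2 ((Nat.prime_dvd_prime_iff_eq hs Nat.prime_two).1 h)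
    · -- `2` is good and divides the class size
      have h2d : 2 ∣ cs z0 := by
        have h1 : 2 ∣ (Cn z).relIndex N := hord ▸ orderOf_dvd_natCard (π ⟨ι, hι⟩)
        rw [show cs z0 = (Cn z).index by rw [hzC],
          ← Subgroup.relIndex_mul_index (Subgroup.le_normalizer (H := Cn z))]
        exact h1.mul_right _
      obtain ⟨z2, u2, hz2e, hz2c, hz2C, -, hu2, hu2C, hz2u, -, hu22, -⟩ :=
        hdata 2 Nat.prime_two (Ne.symm hp2) h2d
      rw [← hzC] at hz2C
      have hu22' : u2 * u2 ∈ Cn z2 := center_le_cn _ (sq u2 ▸ hu22)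
      by_cases hs2 : s = 2
      · refine F.false_of_two_at (Ne.symm hp2) ht htp (hs2 ▸ hst.symm) hz2e hz2c hu2 hu2C hz2u hu22'
          hve hvc (hz2C.symm ▸ hvz) ?_ ?_ hwv
        · rw [hz2C]; exact hw
        · rw [hz2C]; exact hwC
      · refine F.false_of_two_at (Ne.symm hp2) hs hsp hs2 hz2e hz2c hu2 hu2C hz2u hu22'
          hze hzc (hz2C.symm ▸ self_mem_cn z) ?_ ?_ hzu
        · rw [hz2C]; exact hu
        · rw [hz2C]; exact huC
  · -- the quotient has odd order
    have hodd : Odd (Nat.card (N ⧸ (Cn z).subgroupOf N)) := by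
      rw [Nat.odd_iff]
      by_contra h2
      haveI : Fact (Nat.Prime 2) := ⟨Nat.prime_two⟩
      obtain ⟨c, hc⟩ := exists_prime_orderOf_dvd_card' (G := N ⧸ (Cn z).subgroupOf N) 2
        (Nat.dvd_of_mod_eq_zero (by omega))
      obtain ⟨g, rfl⟩ := QuotientGroup.mk'_surjective ((Cn z).subgroupOf N) c
      refine hinv ⟨g, g.2, fun h => ?_, ?_⟩
      · rw [(hπ1 g).2 h, orderOf_one] at hc
        exact absurd hc (by omega)
      · have : π (g * g) = 1 := by rw [map_mul, ← sq, ← hc, pow_orderOf_eq_one]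
        simpa using (hπ1 _).1 this
    have hsolW := S0205.result hodd
    have hne : (⊤ : Subgroup (N ⧸ (Cn z).subgroupOf N)) ≠ ⊥ := fun e =>
      huC ((hπ1 ⟨u, hu⟩).1 (Subgroup.mem_bot.1 (e ▸ Subgroup.mem_top _)))
    obtain ⟨q, V, hq, hVn, hV1, -, hVq⟩ :=
      exists_elementary (H := N ⧸ (Cn z).subgroupOf N) (M := ⊤) (haveI := hsolW; inferInstance) hne
    haveI : Fact q.Prime := ⟨hq⟩
    have hVp : IsPGroup q V := fun x => ⟨1, Subtype.ext (by simpa using hVq x x.2)⟩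
    obtain ⟨i, hi⟩ := IsPGroup.iff_card.1 hVp
    have hnd : ∀ r : ℕ, r.Prime → r ≠ q → ¬ r ∣ Nat.card V := fun r hr hrq h =>
      hrq ((Nat.prime_dvd_prime_iff_eq hr hq).1 (hr.dvd_of_dvd_pow (hi ▸ h)))
    by_cases hsq : s = q
    · exact F.no_quot ht htp hvC ⟨t, ht, htp, hve, hvc⟩ hve hw hwC hwv V hV1
        (fun k hk => hVn.conj_mem k hk _) (hnd t ht (hsq ▸ hst.symm))
    · exact F.no_quot hs hsp rfl hzg hze hu huC hzu V hV1 (fun k hk => hVn.conj_mem k hk _) (hnd s hs hsq)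

/-- Exactly one good prime divides the class size. -/
theorem false_of_one (F : Fam G (fun r => r ≠ p)) (hR : Rigid G) {z0 : G}
    (hall : ∀ v : G, GoodEl (fun r => r ≠ p) v → Cj v z0) {s : ℕ} (hs : s.Prime)
    (hsp : s ≠ p) (hsd : s ∣ cs z0) (hp : p.Prime)
    (honly : ∀ r : ℕ, r.Prime → r ≠ p → r ∣ cs z0 → r = s) : False := by
  haveI : Fact s.Prime := ⟨hs⟩
  obtain ⟨z, u, hze, hzc, hzC, hue, hu, huC, hzu, hzs, hus, hcsb⟩ :=
    F.exists_data hs hsp (exists_pe_of_dvd_index hs (dvd_index_of_dvd_cs hsd))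
      (fun v hv _ => (hall v hv).cs_eq ▸ hsd) hall
  have hallz : ∀ v : G, GoodEl (fun r => r ≠ p) v → ∃ k : G, Cn (k * v * k⁻¹) = Cn z := fun v hv =>
    hzC ▸ hall v hv
  have hzg : GoodEl (fun r => r ≠ p) z := ⟨s, hs, hsp, hze, hzc⟩
  have huc : u ∉ Subgroup.center G := fun h => huC (center_le_cn z h)
  -- the class of the image of `z` has `p`-power size
  have hdz : cs (bar z) ∣ cs z := by
    show _ ∣ (Cn z).index
    rw [show cs (bar z) = ((Cn (bar z)).comap bar).index from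
      (Subgroup.index_comap_of_surjective _ (QuotientGroup.mk'_surjective _)).symm]
    refine Subgroup.index_dvd_of_le fun g hg => Subgroup.mem_comap.2 (mem_cn.2 ?_)
    rw [← map_mul, ← map_mul, mem_cn.1 hg]
  have hpow : cs (bar z) = p ^ (cs (bar z)).primeFactorsList.length := by
    refine Nat.eq_prime_pow_of_unique_prime_dvd (cs_pos _).ne' fun {r} hr hrd => ?_
    by_contra hrp
    refine hcsb (?_ : s ∣ _)
    rwa [← honly r hr hrp (cs_eq_of_cn_eq hzC ▸ hrd.trans hdz)]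
  have hsol := S4037.result (bar z) hp _ ((S4034.ncard_class _).trans hpow)
  have hbz : bar z ≠ 1 := fun h => hzc (TwoRegSizes38.bar_eq_one.1 h)
  obtain ⟨q, V, hq, hVn, hV1, hVc, hVq⟩ := exists_elementary hsol
    (fun h => hbz (Subgroup.mem_bot.1 (h ▸ Subgroup.subset_normalClosure (Set.mem_singleton _))))
  obtain ⟨y0, hy0, hy01⟩ : ∃ y ∈ V, y ≠ 1 := V.bot_or_exists_ne_one.resolve_left hV1
  -- a `q`-element with image in `V` whose centralizer is conjugate to `C(z)`
  obtain ⟨v1, hv1e, hv1c, hv1V, hv1C⟩ : ∃ v : G, IsPE q v ∧ v ∉ Subgroup.center G ∧ bar v ∈ V ∧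
      Cn v = Cn z := by
    suffices h : ∃ v : G, IsPE q v ∧ v ∉ Subgroup.center G ∧ bar v ∈ V ∧
        ∃ w, GoodEl (fun r => r ≠ p) w ∧ Cn v = Cn w by
      obtain ⟨v, hve, hvc, hvV, w, hw, hvw⟩ := h
      obtain ⟨k, hk⟩ := hallz w hw
      refine ⟨k * v * k⁻¹, isPE_conj hve k, conj_not_center hvc k, ?_,
        (cn_conj_congr hvw k).trans hk⟩
      rw [map_mul, map_mul, map_inv]
      exact hVn.conj_mem _ hvV _
    by_cases hqp : q = p
    · have hqs : q ≠ s := hqp.trans_ne hsp.symm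
      obtain ⟨y, hyV, hy1, g, hgs, hgc, hgy⟩ : ∃ y ∈ V, y ≠ 1 ∧ ∃ g : G, bar g ^ s = 1 ∧
          g ∉ Subgroup.center G ∧ bar g * y = y * bar g := by
        by_contra hno
        have hzs' : bar z ^ s = 1 := by rw [← map_pow]; exact TwoRegSizes38.bar_eq_one.2 hzs
        have hus' : bar u ^ s = 1 := by rw [← map_pow]; exact TwoRegSizes38.bar_eq_one.2 hus
        have h1 := pow_mem_of_fixed (r := s) V ⊥ hVc (a := bar z) (b := bar u)
          (fun y hy => hVn.conj_mem y hy _) (fun y hy => hVn.conj_mem y hy _)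
          (fun y _ => by rw [hzs']; group) (fun y _ => by rw [hus']; group)
          (fun y _ => by
            calc bar z * (bar u * y * (bar u)⁻¹) * (bar z)⁻¹
                = (bar z * bar u) * y * (bar z * bar u)⁻¹ := by group
              _ = (bar u * bar z) * y * (bar u * bar z)⁻¹ := by rw [hzu]
              _ = _ := by group)
          (fun y hy hfix => by
            by_contra hy1
            rw [Subgroup.mem_bot] at hy1
            refine hno ⟨y, hy, hy1, ?_⟩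
            rcases hfix with h | ⟨j, h⟩
            · exact ⟨u, hus', huc, mul_inv_eq_iff_eq_mul.1 h⟩
            · refine ⟨z * u ^ j, ?_, fun hc => ?_, ?_⟩
              · rw [map_mul, map_pow, (show Commute (bar z) (bar u) from hzu.symm).pow_right j
                  |>.mul_pow, hzs', one_mul, ← pow_mul, mul_comm, pow_mul, hus', one_pow]
              · apply huC
                rw [mem_cn]
                have hcu := center_comm hc u
                apply mul_right_cancel (b := u ^ j)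
                calc u * z * u ^ j = u * (z * u ^ j) := mul_assoc _ _ _
                  _ = z * u ^ j * u := hcu
                  _ = z * (u ^ j * u) := mul_assoc _ _ _
                  _ = z * u * u ^ j := by rw [← pow_succ, pow_succ', mul_assoc]
              · rw [map_mul, map_pow]
                exact mul_inv_eq_iff_eq_mul.1 h)
          hy0
        refine hy01 (orderOf_eq_one_iff.1 (Nat.eq_one_of_dvd_coprimes
          ((Nat.coprime_primes hq hs).2 hqs) (orderOf_dvd_of_pow_eq_one (hVq y0 hy0))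
          (orderOf_dvd_of_pow_eq_one (Subgroup.mem_bot.1 h1))))
      obtain ⟨gy, rfl⟩ := QuotientGroup.mk'_surjective (Subgroup.center G) y
      obtain ⟨i, hic, hie⟩ := exists_pow_isPE hq
        (fun h => hy1 (TwoRegSizes38.bar_eq_one.2 h)) (hVq _ hyV)
      obtain ⟨j, hjc, hje⟩ := exists_pow_isPE hs hgc hgs
      refine ⟨gy ^ i, hie, hic, by rw [map_pow]; exact V.pow_mem hyV i, g ^ j,
        ⟨s, hs, hsp, hje, hjc⟩, ?_⟩
      refine hR.cn_eq_of_comm hs hq hqs.symm hje hjc hie hic (mem_cn_symm (mem_cn.2 ?_))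
      refine TwoRegSizes38.comm_of_bar_comm ?_
        (hje.coprime_coprime hie ((Nat.coprime_primes hs hq).2 hqs.symm))
      rw [map_pow, map_pow]
      exact (show Commute (bar g) (bar gy) from hgy).pow_pow j i
    · obtain ⟨gy, rfl⟩ := QuotientGroup.mk'_surjective (Subgroup.center G) y0
      obtain ⟨i, hic, hie⟩ := exists_pow_isPE hq
        (fun h => hy01 (TwoRegSizes38.bar_eq_one.2 h)) (hVq _ hy0)
      exact ⟨gy ^ i, hie, hic, by rw [map_pow]; exact V.pow_mem hy0 i, gy ^ i,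
        ⟨q, hq, hqp, hie, hic⟩, rfl⟩
  -- the preimage of `V` gives `C(z)` only
  have hVset : ∀ v : G, IsPE q v → v ∉ Subgroup.center G → bar v ∈ V → Cn v = Cn z := by
    intro v hve hvc hvV
    obtain ⟨t, τ, ht, htp, htq, hτe, hτc, hτz⟩ := F.two hzg q
    have hτC : Cn τ = Cn z := F.ti hzg ⟨t, ht, htp, hτe, hτc⟩ hτz
    have hτv1 : τ * v1 = v1 * τ := mem_cn.1 (hv1C ▸ hτz)
    set e := τ * v * τ⁻¹ * v⁻¹ with he
    have heV : bar e ∈ V := by
      rw [he, map_mul, map_mul, map_mul, map_inv, map_inv]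
      exact V.mul_mem (hVn.conj_mem _ hvV _) (V.inv_mem hvV)
    have hc : v1 * v * v1⁻¹ * v⁻¹ ∈ Subgroup.center G := bar_comm_iff.1 (hVc _ hv1V _ hvV)
    have hev1 : v1 * e * v1⁻¹ = e := by
      set c := v1 * v * v1⁻¹ * v⁻¹ with hcd
      have h1 : v1 * v * v1⁻¹ = c * v := by rw [hcd]; group
      have h2 : v1 * (τ * v * τ⁻¹) * v1⁻¹ = c * (τ * v * τ⁻¹) := by
        calc v1 * (τ * v * τ⁻¹) * v1⁻¹ = (v1 * τ) * v * (v1 * τ)⁻¹ := by group
          _ = τ * (v1 * v * v1⁻¹) * τ⁻¹ := by rw [← hτv1]; group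
          _ = (τ * c) * (v * τ⁻¹) := by rw [h1]; group
          _ = _ := by rw [center_comm hc τ]; group
      calc v1 * e * v1⁻¹ = (v1 * (τ * v * τ⁻¹) * v1⁻¹) * (v1 * v * v1⁻¹)⁻¹ := by rw [he]; group
        _ = (c * (τ * v * τ⁻¹ * v⁻¹)) * c⁻¹ := by rw [h1, h2]; group
        _ = _ := by rw [← center_comm hc, mul_inv_cancel_right]
    have heτ : τ * e = e * τ := by
      refine (mem_cn.1 (?_ : e ∈ Cn τ)).symm
      rw [hτC, ← hv1C]
      exact mem_cn_symm (mem_cn.2 (mul_inv_eq_iff_eq_mul.1 hev1))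
    have hiter : ∀ n : ℕ, τ ^ n * v * (τ ^ n)⁻¹ = e ^ n * v := by
      intro n
      induction n with
      | zero => simp
      | succ n ih =>
        calc τ ^ (n + 1) * v * (τ ^ (n + 1))⁻¹ = τ * (τ ^ n * v * (τ ^ n)⁻¹) * τ⁻¹ := by
              rw [pow_succ']; group
          _ = (τ * e ^ n) * (v * τ⁻¹) := by rw [ih]; group
          _ = e ^ n * (τ * v * τ⁻¹) := by
              rw [(show Commute τ (e ^ n) from Commute.pow_right heτ n).eq]; group
          _ = e ^ n * (e * v) := by rw [he]; group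
          _ = _ := by rw [← mul_assoc, ← pow_succ]
    have heo : e ^ orderOf τ = 1 := by
      have h := hiter (orderOf τ)
      rw [pow_orderOf_eq_one, one_mul, inv_one, mul_one] at h
      exact mul_eq_right.1 h.symm
    have hbe : bar e = 1 := by
      refine orderOf_eq_one_iff.1 (Nat.eq_one_of_dvd_coprimes
        (hτe.coprime ((Nat.coprime_primes ht hq).2 htq))
        (orderOf_dvd_of_pow_eq_one (by rw [← map_pow, heo, map_one]))
        (orderOf_dvd_of_pow_eq_one (hVq _ heV)))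
    have hτv : τ * v = v * τ := by
      refine TwoRegSizes38.comm_of_bar_comm ?_
        (hτe.coprime_coprime hve ((Nat.coprime_primes ht hq).2 htq))
      exact bar_comm_iff.2 (TwoRegSizes38.bar_eq_one.1 hbe)
    exact (hR.cn_eq_of_comm ht hq htq hτe hτc hve hvc (mem_cn_symm (mem_cn.2 hτv))).trans hτC
  -- so `C(z)` is normal
  have hnormal : ∀ k : G, Cn (k * z * k⁻¹) = Cn z := fun k =>
    (cn_conj_congr hv1C k).symm.trans (hVset _ (isPE_conj hv1e k) (conj_not_center hv1c k)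
      (by rw [map_mul, map_mul, map_inv]; exact hVn.conj_mem _ hv1V _))
  obtain ⟨k, hk⟩ := hallz u ⟨s, hs, hsp, hue, huc⟩
  have h1 := cn_conj_congr hk k⁻¹
  rw [show k⁻¹ * (k * u * k⁻¹) * k⁻¹⁻¹ = u by group, hnormal] at h1
  exact huC (h1 ▸ self_mem_cn u)

end Fam

namespace Hyp

variable {a b : ℕ} (H : Hyp G a b)
include H

/-- Solvability when some centralizer is a group of prime power order modulo the centre. -/
theorem isSolvable_of_one_prime (hR : Rigid G) {g0 : G} (hg0 : g0 ∉ Subgroup.center G) {p : ℕ}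
    (h : ∀ r : ℕ, r.Prime → r ∣ rho g0 → r = p) : Group.IsSolvable G := by
  by_contra hns
  obtain ⟨q0, i0, hq0, -, hi0, hpe0⟩ := TwoRegSizes38.exists_primePow_not_mem hg0
  have hp : p.Prime := h q0 hq0
    (dvd_rho_of_mem hq0 (pow_mem (self_mem_cn g0) i0) hpe0 hi0) ▸ hq0
  -- the good elements have the same class size
  have hsame : ∀ v w : G, GoodEl (fun r => r ≠ p) v → GoodEl (fun r => r ≠ p) w → cs v = cs w := by
    have hne : ∀ v : G, GoodEl (fun r => r ≠ p) v → cs v ≠ cs g0 := by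
      rintro v ⟨r, hr, hrp, hve, hvc⟩ e
      exact hrp (h r hr (rho_eq_of_cs e ▸ dvd_rho_of_mem hr (self_mem_cn v) hve hvc))
    intro v w hv hw
    have h1 := hne v hv
    have h2 := hne w hw
    rcases H.cases_nc hg0 with e | e <;> rcases H.cases_nc hv.not_center with e1 | e1 <;>
      rcases H.cases_nc hw.not_center with e2 | e2 <;> omega
  have hrho : ∀ (v : G) (r : ℕ), GoodEl (fun r => r ≠ p) v → r.Prime → r ≠ p →
      r ∣ (Subgroup.center G).index → r ∣ rho v := by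
    intro v r hv hr hrp hrd
    obtain ⟨w, hwe, hwc⟩ := exists_pe_of_dvd_index hr hrd
    rw [rho_eq_of_cs (hsame v w hv ⟨r, hr, hrp, hwe, hwc⟩)]
    exact dvd_rho_of_mem hr (self_mem_cn w) hwe hwc
  have htwo : ∀ w : G, GoodEl (fun r => r ≠ p) w → ∀ r : ℕ, ∃ (s : ℕ) (v : G), s.Prime ∧ s ≠ p ∧
      s ≠ r ∧ IsPE s v ∧ v ∉ Subgroup.center G ∧ v ∈ Cn w := by
    intro w hw r
    obtain ⟨s, hs, hsd, hsp, hsr⟩ : ∃ s : ℕ, s.Prime ∧ s ∣ (Subgroup.center G).index ∧ s ≠ p ∧
        s ≠ r := by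
      by_cases hr : r.Prime
      · exact exists_third hns hp hr
      · obtain ⟨s, hs, hsd, hsp, -⟩ := exists_third hns hp hp
        exact ⟨s, hs, hsd, hsp, fun e => hr (e ▸ hs)⟩
    obtain ⟨v, hv, hvc, hve⟩ := exists_of_dvd_rho hs (hrho w s hw hs hsp hsd)
    exact ⟨s, v, hs, hsp, hsr, hve, hvc, hv⟩
  have F : Fam G (fun r => r ≠ p) := by
    refine ⟨fun w v hw hv hvw => ?_, htwo⟩
    have hwg := hw
    obtain ⟨r, hr, hrp, hwe, hwc⟩ := hw
    obtain ⟨s, hs, hsp, hve, hvc⟩ := hv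
    by_cases hsr : r = s
    · subst hsr
      obtain ⟨t, x, ht, htp, htr, hxe, hxc, hxw⟩ := htwo w hwg r
      have e1 := hR.cn_eq_of_comm hr ht htr.symm hwe hwc hxe hxc hxw
      have e2 := hR.cn_eq_of_comm ht hs htr hxe hxc hve hvc (e1.symm ▸ hvw)
      exact e2.trans e1
    · exact hR.cn_eq_of_comm hr hs hsr hwe hwc hve hvc hvw
  obtain ⟨r, hr, hrd, hrp, -⟩ := exists_third hns hp hp
  obtain ⟨r', hr', hrd', hrp', hrr'⟩ := exists_third hns hp hr
  obtain ⟨v0, hv0, hv0c⟩ := exists_pe_of_dvd_index hr hrd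
  obtain ⟨z0, hz0, hall⟩ := F.single hr hrp hr' hrp' hrr'.symm
    (fun w => GoodEl (fun r => r ≠ p) w) (fun _ hw => hw)
    (fun w hw => hrho w r hw hr hrp hrd) (fun w hw => hrho w r' hw hr' hrp' hrd')
    (fun t w w' _ _ hw hw' hd => rho_eq_of_cs (hsame w w' hw hw') ▸ hd)
    (fun t w w' _ _ hw hw' hd => hsame w w' hw hw' ▸ hd) ⟨v0, r, hr, hrp, hv0, hv0c⟩
  by_cases hone : ∃ s : ℕ, s.Prime ∧ s ≠ p ∧ s ∣ cs z0
  · obtain ⟨s, hs, hsp, hsd⟩ := hone
    by_cases honly : ∀ t : ℕ, t.Prime → t ≠ p → t ∣ cs z0 → t = s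
    · exact F.false_of_one hR hall hs hsp hsd hp honly
    · push Not at honly
      obtain ⟨t, ht, htp, htd, hts⟩ := honly
      exact F.false_of_two hall hs ht hsp htp hts.symm hsd htd
  · -- all `p`-regular class sizes are powers of `p`
    push Not at hone
    refine hns (S4034.solvable_of_regPow hp _ G le_rfl fun x hx => ?_)
    by_cases hxc : x ∈ Subgroup.center G
    · exact ⟨0, (CaminaSizes63.cs_eq_one_iff.2 hxc).trans (pow_zero p).symm⟩
    obtain ⟨t, i, ht, htd, hi, hie⟩ := TwoRegSizes38.exists_primePow_not_mem hxc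
    have htp : t ≠ p := fun e => by
      have h1 : p ∣ Nat.gcd (orderOf x) p := Nat.dvd_gcd (e ▸ htd) dvd_rfl
      rw [hx] at h1
      exact hp.one_lt.ne' (Nat.dvd_one.1 h1)
    have hxv : cs x = cs z0 := (cs_eq_of_cn_eq (hR _ _ hxc hi (TwoRegSizes38.cn_le_cn_pow x i))).trans
      (hall _ ⟨t, ht, htp, hie, hi⟩).cs_eq
    refine ⟨(cs z0).primeFactorsList.length, hxv.trans
      (Nat.eq_prime_pow_of_unique_prime_dvd (cs_pos z0).ne' fun {d} hd hdd => ?_)⟩
    by_contra hdp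
    exact hone d hd hdp hdd

end Hyp

end Cfsg.Agent.ThreeSizes63
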