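import Cfsg.Agent.Lib.ThreeSizes63Sizes

/-!
# Three class sizes without proper containments of centralizers
-/

set_option autoImplicit false

namespace Cfsg.Agent.ThreeSizes63

open Cfsg.Agent.ClassSizeGraph76 (cs)
open Cfsg.Agent.TwoRegSizes38 (Cn IsPE mem_cn self_mem_cn bar)
open Cfsg.Agent.CaminaSizes63 (mem_cn_symm cn_mul_isPE cn_eq_of_le cs_dvd_of_le mem_center_iff_cn)

universe u

variable {G : Type u} [Group G]

/-- No proper containment between centralizers of noncentral elements. -/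
def Rigid (G : Type u) [Group G] : Prop :=
  ∀ x y : G, x ∉ Subgroup.center G → y ∉ Subgroup.center G → Cn x ≤ Cn y → Cn x = Cn y

theorem cn_conj_congr {x y : G} (h : Cn x = Cn y) (k : G) :
    Cn (k * x * k⁻¹) = Cn (k * y * k⁻¹) := by
  ext w
  obtain ⟨v, rfl⟩ : ∃ v, w = k * v * k⁻¹ := ⟨k⁻¹ * w * k, by group⟩
  rw [TwoRegSizes38.conj_mem_cn, TwoRegSizes38.conj_mem_cn, h]

theorem cn_conj_of_normalizer {x g : G} (h : g ∈ Subgroup.normalizer (Cn x : Set G)) :
    Cn (g * x * g⁻¹) = Cn x := by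
  ext w
  obtain ⟨v, rfl⟩ : ∃ v, w = g * v * g⁻¹ := ⟨g⁻¹ * w * g, by group⟩
  rw [TwoRegSizes38.conj_mem_cn]
  exact Subgroup.mem_normalizer_iff.1 h v

/-- Noncentral commuting elements of distinct prime power orders have equal centralizers. -/
theorem Rigid.cn_eq_of_comm [Finite G] (hR : Rigid G) {r s : ℕ} (hr : r.Prime) (hs : s.Prime)
    (hne : r ≠ s) {w v : G} (hw : IsPE r w) (hwc : w ∉ Subgroup.center G) (hv : IsPE s v)
    (hvc : v ∉ Subgroup.center G) (hvw : v ∈ Cn w) : Cn v = Cn w := by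
  have hC : Cn (w * v) = Cn w ⊓ Cn v := cn_mul_isPE hr hs hne hw hv hvw
  have hwv : w * v ∉ Subgroup.center G := fun h => hwc (mem_center_iff_cn.2
    (top_le_iff.1 ((mem_center_iff_cn.1 h ▸ hC).le.trans inf_le_left)))
  have h1 : Cn (w * v) = Cn w := hR _ _ hwv hwc (hC ▸ inf_le_left)
  have h2 : Cn (w * v) = Cn v := hR _ _ hwv hvc (hC ▸ inf_le_right)
  exact h2.symm.trans h1

namespace Hyp

variable [Finite G] {a b : ℕ} (H : Hyp G a b)
include H

theorem rigid (hF : ∀ x y : G, cs x = b → cs y = a → ¬ Cn x ≤ Cn y) : Rigid G := by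
  intro x y hx hy h
  rcases H.cases_nc hx with ex | ex <;> rcases H.cases_nc hy with ey | ey
  · exact cn_eq_of_le h (ex.trans ey.symm)
  · exact absurd (ex ▸ ey ▸ cs_dvd_of_le h) H.not_b_dvd_a
  · exact absurd h (hF x y ex ey)
  · exact cn_eq_of_le h (ex.trans ey.symm)

end Hyp

end Cfsg.Agent.ThreeSizes63
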