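import Cfsg.Agent.Lib.ThreeSizes63Fam
import Cfsg.Agent.S4033
import Cfsg.Agent.S4034
import Cfsg.Agent.S0144

/-!
# Three class sizes: basic facts and the case of a proper containment of centralizers
-/

set_option autoImplicit false

namespace Cfsg.Agent.ThreeSizes63

open Cfsg.Agent.ClassSizeGraph76 (cs cls)
open Cfsg.Agent.TwoRegSizes38 (Cn IsPE mem_cn self_mem_cn)
open Cfsg.Agent.CaminaSizes63 (mem_cn_symm cn_mul_isPE cn_eq_of_le cs_dvd_of_le cs_eq_one_iff)

universe u

variable {G : Type u} [Group G]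

/-- The class sizes are `1`, `a` and `b`, with `1 < a < b`. -/
structure Hyp (G : Type u) [Group G] (a b : ℕ) : Prop where
  one_lt : 1 < a
  lt : a < b
  vals : ∀ g : G, cs g = 1 ∨ cs g = a ∨ cs g = b
  exa : ∃ g : G, cs g = a
  exb : ∃ g : G, cs g = b

variable [Finite G]

/-- At most two prime divisors modulo the centre gives solvability. -/
theorem solvable_of_two {p q : ℕ} (hp : p.Prime) (hq : q.Prime)
    (h : ∀ s : ℕ, s.Prime → s ∣ (Subgroup.center G).index → s = p ∨ s = q) :
    Group.IsSolvable G := by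
  set c := Nat.card (G ⧸ Subgroup.center G) with hc
  have hci : (Subgroup.center G).index = c := Subgroup.index_eq_card _
  rw [hci] at h
  have hc0 : c ≠ 0 := Nat.card_pos.ne'
  have h2 : c / p ^ c.factorization p =
      q ^ (c / p ^ c.factorization p).primeFactorsList.length := by
    refine Nat.eq_prime_pow_of_unique_prime_dvd (Nat.ordCompl_pos p hc0).ne' fun {d} hd hdd => ?_
    rcases h d hd (hdd.trans (Nat.ordCompl_dvd c p)) with e | e
    · exact absurd (e ▸ hdd) (Nat.not_dvd_ordCompl hp hc0)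
    · exact e
  have hcard : c = p ^ c.factorization p *
      q ^ (c / p ^ c.factorization p).primeFactorsList.length := by
    conv_lhs => rw [← Nat.ordProj_mul_ordCompl_eq_self c p, h2]
  haveI : Group.IsSolvable (Subgroup.center G) :=
    Group.isSolvable_of_comm fun a b => Subtype.ext (Subgroup.mem_center_iff.1 b.2 a)
  haveI : Group.IsSolvable (G ⧸ Subgroup.center G) := S0144.result p q _ _ hp hq (hc ▸ hcard)
  exact Group.isSolvable_of_ker_le_range (Subgroup.center G).subtype
    (QuotientGroup.mk' (Subgroup.center G))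
    (by rw [QuotientGroup.ker_mk', Subgroup.range_subtype])

theorem exists_third (hns : ¬ Group.IsSolvable G) {p q : ℕ} (hp : p.Prime) (hq : q.Prime) :
    ∃ s : ℕ, s.Prime ∧ s ∣ (Subgroup.center G).index ∧ s ≠ p ∧ s ≠ q := by
  by_contra hall
  push Not at hall
  exact hns (solvable_of_two hp hq fun s hs hd => or_iff_not_imp_left.2 (hall s hs hd))

theorem exists_pe_of_dvd_index {s : ℕ} (hs : s.Prime) (h : s ∣ (Subgroup.center G).index) :
    ∃ v : G, IsPE s v ∧ v ∉ Subgroup.center G := by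
  rw [← Subgroup.relIndex_top_right] at h
  obtain ⟨v, -, hvc, hv⟩ := TwoRegSizes38.exists_primePow_of_dvd_relIndex hs h
  exact ⟨v, hv, hvc⟩

/-- Two class sizes of `p`-regular elements in `C(x)` bound the primes of the larger one. -/
theorem primes_of_two_sizes {p r c : ℕ} (hp : p.Prime) (hr : r.Prime) (hne : r ≠ p) {x w : G}
    (hw : IsPE r w) (hwx : w ∈ Cn x) (hnle : ¬ Cn x ≤ Cn w) (hc : 1 < c)
    (hrel : ∀ v ∈ Cn x, (orderOf v).Coprime p →
      (Cn v).relIndex (Cn x) = 1 ∨ (Cn v).relIndex (Cn x) = c) :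
    ∀ s : ℕ, s.Prime → s ∣ c → s = p ∨ s = r := by
  classical
  haveI : Fact p.Prime := ⟨hp⟩
  have hsize : ∀ v : Cn x, (ConjClasses.mk v).carrier.ncard = (Cn (v : G)).relIndex (Cn x) :=
    fun v => (S4034.ncard_class v).trans (CaminaSizes63.index_cn_subgroup _ v)
  have hreg : ∀ v : Cn x, (orderOf v).Coprime p → (ConjClasses.mk v).carrier.ncard = 1 ∨
      (ConjClasses.mk v).carrier.ncard = c := fun v hv => by
    rw [hsize v]
    exact hrel v v.2 (by rwa [Subgroup.orderOf_coe])
  have hwo : (orderOf (⟨w, hwx⟩ : Cn x)).Coprime p := by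
    rw [Subgroup.orderOf_mk]
    exact hw.coprime ((Nat.coprime_primes hr hp).2 hne)
  have hwm : (ConjClasses.mk (⟨w, hwx⟩ : Cn x)).carrier.ncard = c := by
    refine (hreg _ hwo).resolve_left ?_
    rw [hsize, Subgroup.relIndex_eq_one]
    exact hnle
  have h2 : Set.ncard (Set.range fun v : {v : Cn x // (orderOf v).Coprime p} =>
      (ConjClasses.mk (v : Cn x)).carrier.ncard) = 2 := by
    have hrange : (Set.range fun v : {v : Cn x // (orderOf v).Coprime p} =>
        (ConjClasses.mk (v : Cn x)).carrier.ncard) = {1, c} := by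
      ext k
      constructor
      · rintro ⟨⟨v, hv⟩, rfl⟩
        exact hreg v hv
      · rintro (rfl | rfl)
        · refine ⟨⟨1, by simp⟩, ?_⟩
          show (ConjClasses.mk (1 : Cn x)).carrier.ncard = 1
          rw [hsize, Subgroup.relIndex_eq_one, CaminaSizes63.cn_le_iff]
          intro g _
          simp
        · exact ⟨⟨_, hwo⟩, hwm⟩
    rw [hrange, Set.ncard_pair hc.ne]
  intro s hs hsc
  rcases S4033.result hp h2 with hab | ⟨q, hqf, P, Q, A, hqp, hAc, hcard, hPQn, hinf, hsup⟩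
  · obtain ⟨k, hk⟩ := (S4034.result hp).2 hab ⟨w, hwx⟩ hwo
    rw [hwm] at hk
    rw [hk] at hsc
    exact Or.inl ((Nat.prime_dvd_prime_iff_eq hs hp).1 (hs.dvd_of_dvd_pow hsc))
  · haveI : A.Normal := ⟨fun a ha g => by
      rw [Subgroup.mem_center_iff.1 (hAc ha) g, mul_inv_cancel_right]; exact ha⟩
    have hidx : A.index = Nat.card P * Nat.card Q := by
      rw [← hcard, ← Subgroup.relIndex_top_right, ← hsup, Subgroup.relIndex_sup_right,
        ← Subgroup.inf_relIndex_right, inf_comm, hinf, Subgroup.relIndex_bot_left]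
    obtain ⟨i, hi⟩ := IsPGroup.iff_card.1 P.2
    obtain ⟨j, hj⟩ := IsPGroup.iff_card.1 Q.2
    have hsplit : ∀ t : ℕ, t.Prime → t ∣ A.index → t = p ∨ t = q := by
      intro t ht htd
      rw [hidx, hi, hj] at htd
      rcases ht.dvd_mul.1 htd with h | h
      · exact Or.inl ((Nat.prime_dvd_prime_iff_eq ht hp).1 (ht.dvd_of_dvd_pow h))
      · exact Or.inr ((Nat.prime_dvd_prime_iff_eq ht hqf.out).1 (ht.dvd_of_dvd_pow h))
    have hrd : r ∣ A.index := by
      by_contra hnd
      apply hnle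
      have h1 : (⟨w, hwx⟩ : Cn x) ∈ A := by
        obtain ⟨j', hj'⟩ := hw
        obtain ⟨e, he⟩ := exists_pow_eq_self_of_coprime (n := A.index) (x := (⟨w, hwx⟩ : Cn x))
          (by rw [Subgroup.orderOf_mk, hj']
              exact (((Nat.Prime.coprime_iff_not_dvd hr).2 hnd).symm).pow_right j')
        exact he ▸ pow_mem (Subgroup.pow_index_mem A _) e
      rw [CaminaSizes63.cn_le_iff]
      intro g hg
      have := Subgroup.mem_center_iff.1 (hAc h1) ⟨g, hg⟩
      simpa [Subtype.ext_iff] using this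
    have hrq : r = q := (hsplit r hr hrd).resolve_left hne
    have hcd : c ∣ A.index := by
      rw [← hwm, S4034.ncard_class]
      exact Subgroup.index_dvd_of_le (hAc.trans (Subgroup.center_le_centralizer _))
    rw [hrq]
    exact hsplit s hs (hsc.trans hcd)

namespace Hyp

variable {a b : ℕ} (H : Hyp G a b)
include H

theorem cases_nc {g : G} (hg : g ∉ Subgroup.center G) : cs g = a ∨ cs g = b :=
  (H.vals g).resolve_left fun e => hg (cs_eq_one_iff.1 e)

omit [Finite G] in
theorem not_b_dvd_a : ¬ b ∣ a := fun h => by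
  have := Nat.le_of_dvd (zero_lt_one.trans H.one_lt) h
  have := H.lt
  omega

theorem not_center_of_a {g : G} (h : cs g = a) : g ∉ Subgroup.center G := fun hg =>
  H.one_lt.ne' (h.symm.trans (cs_eq_one_iff.2 hg))

theorem not_center_of_b {g : G} (h : cs g = b) : g ∉ Subgroup.center G := fun hg =>
  (H.one_lt.trans H.lt).ne' (h.symm.trans (cs_eq_one_iff.2 hg))

theorem eq_a_of_dvd {g : G} (hg : g ∉ Subgroup.center G) (h : cs g ∣ a) : cs g = a :=
  (H.cases_nc hg).resolve_right fun e => H.not_b_dvd_a (e ▸ h)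

theorem eq_b_of_dvd {g : G} (h : b ∣ cs g) : cs g = b := by
  rcases H.vals g with e | e | e
  · rw [e] at h
    exact absurd (Nat.dvd_one.1 h) (H.one_lt.trans H.lt).ne'
  · exact absurd (e ▸ h) H.not_b_dvd_a
  · exact e

/-- In the centralizer of a small element, elements of other prime power order are central. -/
theorem small_le {r s : ℕ} (hr : r.Prime) (hs : s.Prime) (hne : r ≠ s) {x v : G} (hx : IsPE r x)
    (hxb : cs x = b) (hv : IsPE s v) (hvx : v ∈ Cn x) : Cn x ≤ Cn v := by
  have hC : Cn (x * v) = Cn x ⊓ Cn v := cn_mul_isPE hr hs hne hx hv hvx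
  have hd : b ∣ cs (x * v) := hxb ▸ cs_dvd_of_le (hC ▸ inf_le_left)
  have h1 : Cn (x * v) = Cn x :=
    cn_eq_of_le (hC ▸ inf_le_left) ((H.eq_b_of_dvd hd).trans hxb.symm)
  rw [← h1, hC]
  exact inf_le_right

/-- In the centralizer of a big element, a noncentral element of other prime power order bounds the
primes of the quotient of the class sizes. -/
theorem big_or {c : ℕ} (hc : b = a * c) {p r : ℕ} (hp : p.Prime) (hr : r.Prime) (hne : r ≠ p)
    {y v : G} (hy : IsPE p y) (hya : cs y = a) (hv : IsPE r v) (hvy : v ∈ Cn y) :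
    Cn y ≤ Cn v ∨ ∀ s : ℕ, s.Prime → s ∣ c → s = p ∨ s = r := by
  by_cases hle : Cn y ≤ Cn v
  · exact Or.inl hle
  have hc1 : 1 < c := by
    rcases c with _ | _ | c
    · have := H.lt; rw [mul_zero] at hc; omega
    · have := H.lt; simp at hc; omega
    · omega
  refine Or.inr (primes_of_two_sizes hp hr hne hv hvy hle hc1 fun w hw hwp => ?_)
  obtain ⟨j, hj⟩ := hy
  have hC : Cn (y * w) = Cn y ⊓ Cn w :=
    CaminaSizes63.cn_mul (mem_cn.1 hw).symm (by rw [hj]; exact (hwp.pow_right j).symm)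
  have h1 : cs (y * w) = (Cn w).relIndex (Cn y) * a := by
    show (Cn (y * w)).index = _
    rw [hC, CaminaSizes63.index_inf, show (Cn y).index = cs y from rfl, hya]
  have ha0 : 0 < a := zero_lt_one.trans H.one_lt
  rcases H.vals (y * w) with e | e | e
  · exact absurd (Nat.eq_one_of_mul_eq_one_left (h1.symm.trans e)) H.one_lt.ne'
  · exact Or.inl (Nat.eq_of_mul_eq_mul_right ha0 (h1.symm.trans (e.trans (one_mul a).symm)))
  · exact Or.inr (Nat.eq_of_mul_eq_mul_right ha0 (h1.symm.trans (e.trans (hc.trans (mul_comm a c)))))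

/-- A proper containment of centralizers gives solvability. -/
theorem isSolvable_of_lt {x y : G} (hxb : cs x = b) (hya : cs y = a) (hxy : Cn x ≤ Cn y) :
    Group.IsSolvable G := by
  by_contra hns
  obtain ⟨c, hc⟩ : a ∣ b := hxb ▸ hya ▸ cs_dvd_of_le hxy
  have ha0 : 0 < a := zero_lt_one.trans H.one_lt
  have hc1 : 1 < c := by
    rcases c with _ | _ | c
    · have := H.lt; rw [mul_zero] at hc; omega
    · have := H.lt; simp at hc; omega
    · omega
  -- the quotient of the centralizer orders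
  have hrho : ∀ g h : G, cs g = a → cs h = b → rho g = c * rho h := by
    intro g h hg hh
    have h1 := (rho_mul_cs g).trans (rho_mul_cs h).symm
    rw [hg, hh, hc, mul_comm a c, ← mul_assoc] at h1
    rw [Nat.eq_of_mul_eq_mul_right ha0 h1, mul_comm]
  have hdvd : ∀ (t i : ℕ), t.Prime → ¬ t ∣ c → ∀ g h : G, g ∉ Subgroup.center G →
      h ∉ Subgroup.center G → t ^ i ∣ rho g → t ^ i ∣ rho h := by
    intro t i ht htc g h hg hh hd
    rcases H.cases_nc hg with eg | eg <;> rcases H.cases_nc hh with eh | eh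
    · rwa [rho_eq_of_cs (eh.trans eg.symm)]
    · rw [hrho g h eg eh] at hd
      exact (((Nat.Prime.coprime_iff_not_dvd ht).2 htc).pow_left i).dvd_of_dvd_mul_left hd
    · rw [hrho h g eh eg]
      exact hd.mul_left c
    · rwa [rho_eq_of_cs (eh.trans eg.symm)]
  have hrhoprime : ∀ t : ℕ, t.Prime → t ∣ (Subgroup.center G).index → ¬ t ∣ c →
      ∀ g : G, g ∉ Subgroup.center G → t ∣ rho g := by
    intro t ht htd htc g hg
    obtain ⟨v, hv, hvc⟩ := exists_pe_of_dvd_index ht htd
    have := hdvd t 1 ht htc v g hvc hg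
      (by rw [pow_one]; exact dvd_rho_of_mem ht (self_mem_cn v) hv hvc)
    rwa [pow_one] at this
  -- `c` is a prime power
  obtain ⟨p, i, hp, hi⟩ : ∃ p i : ℕ, p.Prime ∧ c = p ^ i := by
    obtain ⟨q, k, hq, -, hk, hy'⟩ := TwoRegSizes38.exists_primePow_not_mem (H.not_center_of_a hya)
    set y1 := y ^ k with hy1
    have hle1 : Cn y ≤ Cn y1 := TwoRegSizes38.cn_le_cn_pow y k
    have hy1a : cs y1 = a := H.eq_a_of_dvd hk (hya ▸ cs_dvd_of_le hle1)
    by_cases hall : ∀ (r : ℕ) (v : G), r.Prime → r ≠ q → IsPE r v → v ∈ Cn y1 → Cn y1 ≤ Cn v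
    · refine ⟨q, c.primeFactorsList.length, hq,
        Nat.eq_prime_pow_of_unique_prime_dvd (by omega) fun {d} hd hdc => ?_⟩
      by_contra hdq
      haveI : Fact d.Prime := ⟨hd⟩
      have hxy1 : Cn x ≤ Cn y1 := hxy.trans hle1
      have hrel : (Cn x).relIndex (Cn y1) = c := by
        have := Subgroup.relIndex_mul_index hxy1
        rw [show (Cn y1).index = cs y1 from rfl, show (Cn x).index = cs x from rfl, hy1a, hxb, hc,
          mul_comm a c] at this
        exact Nat.eq_of_mul_eq_mul_right ha0 this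
      let S : Sylow d (Cn y1) := default
      refine ClassSizeGraph76.not_dvd_index_of_sylow_le S (H := (Cn x).subgroupOf (Cn y1))
        (fun v hv => ?_) (show d ∣ (Cn x).relIndex (Cn y1) from hrel ▸ hdc)
      have hve : IsPE d (v : G) := by
        obtain ⟨j, hj⟩ := IsPE.of_mem_pgroup S.2 hv
        exact ⟨j, by rw [Subgroup.orderOf_coe, hj]⟩
      rw [Subgroup.mem_subgroupOf]
      exact mem_cn_symm (hall d v hd hdq hve v.2 (hxy1 (self_mem_cn x)))
    · push Not at hall
      obtain ⟨r, v, hr, hrq, hv, hvy, hnle⟩ := hall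
      have hqr : ∀ s : ℕ, s.Prime → s ∣ c → s = q ∨ s = r :=
        (H.big_or hc hq hr hrq hy' hy1a hv hvy).resolve_left hnle
      by_cases hboth : q ∣ c ∧ r ∣ c
      · exfalso
        obtain ⟨s, hs, hsd, hsq, hsr⟩ := exists_third hns hq hr
        have hsc : ¬ s ∣ c := fun h => by rcases hqr s hs h with e | e <;> contradiction
        obtain ⟨w, hwy, hwc, hw⟩ :=
          exists_of_dvd_rho hs (hrhoprime s hs hsd hsc y1 (H.not_center_of_a hy1a))
        have hle : Cn y1 ≤ Cn w := by
          refine (H.big_or hc hq hs hsq hy' hy1a hw hwy).resolve_right fun h => ?_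
          rcases h r hr hboth.2 with e | e
          · exact hrq e
          · exact hsr e.symm
        have hwa : cs w = a := H.eq_a_of_dvd hwc (hy1a ▸ cs_dvd_of_le hle)
        have heq : Cn y1 = Cn w := cn_eq_of_le hle (hy1a.trans hwa.symm)
        refine hnle (heq ▸ (H.big_or hc hs hr hsr.symm hw hwa hv (heq ▸ hvy)).resolve_right ?_)
        intro h
        rcases h q hq hboth.1 with e | e
        · exact hsq e.symm
        · exact hrq e.symm
      · by_cases hqc : q ∣ c
        · exact ⟨q, _, hq, Nat.eq_prime_pow_of_unique_prime_dvd (by omega) fun {d} hd hdc =>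
            (hqr d hd hdc).resolve_right fun e => hboth ⟨hqc, e ▸ hdc⟩⟩
        · exact ⟨r, _, hr, Nat.eq_prime_pow_of_unique_prime_dvd (by omega) fun {d} hd hdc =>
            (hqr d hd hdc).resolve_left fun e => hqc (e ▸ hdc)⟩
  have hpc : p ∣ c := by
    rw [hi]
    refine dvd_pow_self p fun h => ?_
    rw [h, pow_zero] at hi
    omega
  have hnpc : ∀ t : ℕ, t.Prime → t ≠ p → ¬ t ∣ c := fun t ht htp h =>
    htp ((Nat.prime_dvd_prime_iff_eq ht hp).1 (ht.dvd_of_dvd_pow (hi ▸ h)))
  -- the family of `p'`-elements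
  have heqne : ∀ (r s : ℕ) (w v : G), r.Prime → r ≠ p → IsPE r w → w ∉ Subgroup.center G →
      s.Prime → s ≠ p → s ≠ r → IsPE s v → v ∉ Subgroup.center G → v ∈ Cn w → Cn v = Cn w := by
    intro r s w v hr hrp hw hwc hs hsp hsr hv hvc hvw
    have hnot : ∀ (r' s' : ℕ), r' ≠ p → s' ≠ p → ¬ ∀ t : ℕ, t.Prime → t ∣ c → t = r' ∨ t = s' := by
      intro r' s' h1 h2 h
      rcases h p hp hpc with e | e
      · exact h1 e.symm
      · exact h2 e.symm
    rcases H.cases_nc hwc with e | e
    · have hle := (H.big_or hc hr hs hsr hw e hv hvw).resolve_right (hnot r s hrp hsp)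
      exact (cn_eq_of_le hle (e.trans (H.eq_a_of_dvd hvc (e ▸ cs_dvd_of_le hle)).symm)).symm
    · have hle := H.small_le hr hs hsr.symm hw e hv hvw
      rcases H.cases_nc hvc with e' | e'
      · have h' := (H.big_or hc hs hr hsr.symm hv e' hw (mem_cn_symm hvw)).resolve_right
          (hnot s r hsp hrp)
        have := cs_dvd_of_le h'
        rw [e, e'] at this
        exact absurd this H.not_b_dvd_a
      · exact (cn_eq_of_le hle (e.trans e'.symm)).symm
  have htwo : ∀ w : G, w ∉ Subgroup.center G → ∀ r r' : ℕ, r.Prime → r'.Prime →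
      ∃ (s : ℕ) (v : G), s.Prime ∧ s ≠ p ∧ s ≠ r ∧ IsPE s v ∧ v ∉ Subgroup.center G ∧ v ∈ Cn w := by
    intro w hw r _ hr _
    obtain ⟨s, hs, hsd, hsp, hsr⟩ := exists_third hns hp hr
    obtain ⟨v, hv, hvc, hve⟩ := exists_of_dvd_rho hs (hrhoprime s hs hsd (hnpc s hs hsp) w hw)
    exact ⟨s, v, hs, hsp, hsr, hve, hvc, hv⟩
  have F : Fam G (fun r => r ≠ p) := by
    refine ⟨fun w v hw hv hvw => ?_, fun w hw r => ?_⟩
    · obtain ⟨r, hr, hrp, hwe, hwc⟩ := hw
      obtain ⟨s, hs, hsp, hve, hvc⟩ := hv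
      by_cases hsr : s = r
      · subst hsr
        obtain ⟨t, v', ht, htp, hts, hv'e, hv'c, hv'w⟩ := htwo w hwc s s hs hs
        have e1 := heqne s t w v' hs hsp hwe hwc ht htp hts hv'e hv'c hv'w
        have e2 := heqne t s v' v ht htp hv'e hv'c hs hsp hts.symm hve hvc (e1.symm ▸ hvw)
        exact e2.trans e1
      · exact heqne r s w v hr hrp hwe hwc hs hsp hsr hve hvc hvw
    · by_cases hr : r.Prime
      · exact htwo w hw.not_center r r hr hr
      · obtain ⟨s, v, hs, hsp, -, h1, h2, h3⟩ := htwo w hw.not_center p p hp hp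
        exact ⟨s, v, hs, hsp, fun e => hr (e ▸ hs), h1, h2, h3⟩
  obtain ⟨r, hr, hrd, hrp, -⟩ := exists_third hns hp hp
  obtain ⟨s, hs, hsd, hsp, hsr⟩ := exists_third hns hp hr
  obtain ⟨vr, hvr, hvrc⟩ := exists_pe_of_dvd_index hr hrd
  obtain ⟨z, hz, hall⟩ := F.single hr hrp hs hsp hsr.symm (fun w => GoodEl (fun r => r ≠ p) w)
    (fun _ h => h) (fun w hw => hrhoprime r hr hrd (hnpc r hr hrp) w hw.not_center)
    (fun w hw => hrhoprime s hs hsd (hnpc s hs hsp) w hw.not_center)
    (fun t w w' ht htp hw hw' h => hdvd t 2 ht (hnpc t ht htp) w w' hw.not_center hw'.not_center h)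
    (fun t w w' ht htp hw hw' h => by
      rcases H.cases_nc hw.not_center with e | e <;>
        rcases H.cases_nc hw'.not_center with e' | e'
      · rw [e']; rwa [e] at h
      · rw [e', hc]; rw [e] at h; exact h.mul_right c
      · rw [e']; rw [e, hc] at h
        exact (ht.dvd_mul.1 h).resolve_right (hnpc t ht htp)
      · rw [e']; rwa [e] at h)
    ⟨vr, r, hr, hrp, hvr, hvrc⟩
  refine hz.not_center (CaminaSizes63.mem_center_iff_cn.2 (ClassSizeGraph76.eq_top_of_conj_cover _
    fun g => ?_))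
  by_cases hg : g ∈ Subgroup.center G
  · exact ⟨1, by simpa using TwoRegSizes38.center_le_cn z hg⟩
  obtain ⟨v, hv, hvc, hve⟩ := exists_of_dvd_rho hr (hrhoprime r hr hrd (hnpc r hr hrp) g hg)
  obtain ⟨k, hk⟩ := hall v ⟨r, hr, hrp, hve, hvc⟩
  exact ⟨k, hk ▸ (TwoRegSizes38.conj_mem_cn k).2 (mem_cn_symm hv)⟩

end Hyp

end Cfsg.Agent.ThreeSizes63
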