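import Mathlib
import Cfsg.Agent.Lib.ClassSizeGraph76
import Cfsg.Agent.Lib.FrobeniusFPF
import Cfsg.Agent.Lib.PGroupsCyclic

/-!
Finite groups in which commuting non-central elements of coprime order have equal centralisers,
and the impossibility of two primes in a semiregular automiser of an abelian centraliser.
-/

namespace Cfsg.Agent.TwoIndicesNormal76

open scoped commutatorElement

/-- A subgroup containing every prime power order power of `g` contains `g`. -/
theorem mem_of_primePow {G : Type*} [Group G] [Finite G] (H : Subgroup G) : ∀ g : G,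
    (∀ k r i : ℕ, r.Prime → orderOf (g ^ k) = r ^ i → g ^ k ∈ H) → g ∈ H := by
  suffices key : ∀ d : ℕ, ∀ g : G, orderOf g = d →
      (∀ k r i : ℕ, r.Prime → orderOf (g ^ k) = r ^ i → g ^ k ∈ H) → g ∈ H from fun g => key _ g rfl
  intro d
  induction d using Nat.recOnPrimeCoprime with
  | zero => intro g hg; exact absurd hg (orderOf_pos g).ne'
  | prime_pow r n hr =>
    intro g hg h
    simpa using h 1 r n hr (by simpa using hg)
  | coprime a b ha hb hab iha ihb =>
    intro g hg h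
    have h1 : g ^ b ∈ H := iha (g ^ b) (by
      rw [orderOf_pow, hg, Nat.gcd_eq_right (dvd_mul_left b a), Nat.mul_div_cancel _ (by omega)]) fun k r i hr e => by
      rw [← pow_mul] at e ⊢
      exact h _ r i hr e
    have h2 : g ^ a ∈ H := ihb (g ^ a) (by
      rw [orderOf_pow, hg, Nat.gcd_eq_right (dvd_mul_right a b), Nat.mul_div_cancel_left _ (by omega)]) fun k r i hr e => by
      rw [← pow_mul] at e ⊢
      exact h _ r i hr e
    obtain ⟨u, v, huv⟩ := Nat.isCoprime_iff_coprime.mpr hab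
    have h3 : (g ^ a) ^ u * (g ^ b) ^ v = g := by
      rw [← zpow_natCast g a, ← zpow_natCast g b, ← zpow_mul, ← zpow_mul, ← zpow_add,
        mul_comm (a : ℤ) u, mul_comm (b : ℤ) v, huv, zpow_one]
    rw [← h3]
    exact H.mul_mem (H.zpow_mem h2 u) (H.zpow_mem h1 v)

/-- An element outside `H` has a power of prime power order outside `H`. -/
theorem exists_primePow_notMem {G : Type*} [Group G] [Finite G] {H : Subgroup G} {g : G} (hg : g ∉ H) :
    ∃ k r i : ℕ, r.Prime ∧ orderOf (g ^ k) = r ^ i ∧ g ^ k ∉ H := by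
  by_contra hcon
  push Not at hcon
  exact hg (mem_of_primePow H g hcon)

/-- The elements of `p`-power order of a commutative group. -/
def pElts (A : Type*) [CommGroup A] (p : ℕ) : Subgroup A where
  carrier := {a | ∃ k : ℕ, a ^ p ^ k = 1}
  one_mem' := ⟨0, one_pow _⟩
  mul_mem' := by
    rintro a b ⟨i, hi⟩ ⟨j, hj⟩
    exact ⟨i + j, by rw [mul_pow, pow_add, pow_mul, hi, one_pow, one_mul, mul_comm, pow_mul, hj, one_pow]⟩
  inv_mem' := by
    rintro a ⟨i, hi⟩
    exact ⟨i, by rw [inv_pow, hi, inv_one]⟩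

section semireg

variable {W A : Type*} [Group W] [Finite W] [CommGroup A] [Finite A] [MulDistribMulAction W A]
  {Z : Subgroup A}

/-- Semiregularity of `W` on `A` away from the fixed subgroup `Z`. -/
structure Semireg (W : Type*) {A : Type*} [Group W] [CommGroup A] [MulDistribMulAction W A]
    (Z : Subgroup A) : Prop where
  fix : ∀ (w : W), ∀ z ∈ Z, w • z = z
  free : ∀ w : W, w ≠ 1 → ∀ a : A, w • a = a → a ∈ Z

variable (hS : Semireg W Z)

include hS in
/-- The norm kernel of a coprime subgroup: non-trivial, meeting `Z` trivially. -/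
theorem exists_kernel {p : ℕ} [hp : Fact p.Prime] (H : Subgroup W) (hH : H ≠ ⊥)
    (hcop : ¬ p ∣ Nat.card H) (hp' : ∃ a ∈ pElts A p, a ∉ Z) :
    ∃ U : Subgroup A, U ≠ ⊥ ∧ IsPGroup p U ∧ U ⊓ Z = ⊥ ∧
      ∀ w : W, (∀ h : W, h ∈ H ↔ w * h * w⁻¹ ∈ H) → ∀ u ∈ U, w • u ∈ U := by
  classical
  have := Fintype.ofFinite H
  let e : A →* A := MonoidHom.mk' (fun a => ∏ h : H, (h : W) • a) fun a b => by
    simp [smul_mul', Finset.prod_mul_distrib]
  refine ⟨pElts A p ⊓ e.ker, ?_, ?_, ?_, ?_⟩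
  · obtain ⟨a₀, ha₀, ha₀Z⟩ := hp'
    obtain ⟨h₀, hh₀, hh₁⟩ := H.bot_or_exists_ne_one.resolve_left hH
    intro hbot
    have hu : (h₀ • a₀) * a₀⁻¹ ∈ pElts A p ⊓ e.ker := by
      refine ⟨(pElts A p).mul_mem ?_ ((pElts A p).inv_mem ha₀), ?_⟩
      · obtain ⟨k, hk⟩ := ha₀
        exact ⟨k, by rw [← smul_pow', hk, smul_one]⟩
      · refine MonoidHom.mem_ker.mpr ?_
        rw [map_mul, map_inv, mul_inv_eq_one]
        show ∏ h : H, (h : W) • h₀ • a₀ = ∏ h : H, (h : W) • a₀
        exact Fintype.prod_equiv (Equiv.mulRight (⟨h₀, hh₀⟩ : H)) _ _ fun h => by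
          rw [Equiv.coe_mulRight, Subgroup.coe_mul, mul_smul]
    rw [hbot, Subgroup.mem_bot, mul_inv_eq_one] at hu
    exact ha₀Z (hS.free h₀ hh₁ a₀ hu)
  · rintro ⟨a, ⟨k, hk⟩, -⟩
    exact ⟨k, Subtype.ext hk⟩
  · rw [Subgroup.eq_bot_iff_forall]
    rintro a ⟨⟨⟨k, hk⟩, hka⟩, haZ⟩
    have h1 : a ^ Nat.card H = 1 := by
      have : ∏ h : H, (h : W) • a = 1 := MonoidHom.mem_ker.mp hka
      simpa [hS.fix _ a haZ, Nat.card_eq_fintype_card] using this
    have h2 := pow_gcd_eq_one.mpr ⟨hk, h1⟩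
    rwa [Nat.Coprime.pow_left k (hp.out.coprime_iff_not_dvd.mpr hcop), pow_one] at h2
  · rintro w hw u ⟨⟨k, hk⟩, hu⟩
    refine ⟨⟨k, by rw [← smul_pow', hk, smul_one]⟩, MonoidHom.mem_ker.mpr ?_⟩
    show ∏ h : H, (h : W) • w • u = 1
    let σ : H ≃ H :=
      { toFun := fun h => ⟨w⁻¹ * h * w, (hw _).mpr (by simp [mul_assoc])⟩
        invFun := fun h => ⟨w * h * w⁻¹, (hw _).mp h.2⟩
        left_inv := fun h => Subtype.ext (by simp [mul_assoc])
        right_inv := fun h => Subtype.ext (by simp [mul_assoc]) }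
    have h1 : ∏ h : H, (h : W) • w • u = ∏ h : H, w • ((h : W) • u) := by
      refine Fintype.prod_equiv σ _ _ fun h => ?_
      show (h : W) • w • u = w • ((w⁻¹ * h * w : W) • u)
      simp [← mul_smul, mul_assoc]
    rw [h1, ← Finset.smul_prod', show ∏ h : H, (h : W) • u = 1 from MonoidHom.mem_ker.mp hu, smul_one]

include hS in
/-- A `p`-element normalises no non-trivial `p'`-subgroup. -/
theorem false_of_normalizes {p : ℕ} [hp : Fact p.Prime] {σ : W} (hσ : σ ≠ 1) {k : ℕ}
    (hk : σ ^ p ^ k = 1) (H : Subgroup W) (hH : H ≠ ⊥) (hcop : ¬ p ∣ Nat.card H)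
    (hn : ∀ h : W, h ∈ H ↔ σ * h * σ⁻¹ ∈ H) (hp' : ∃ a ∈ pElts A p, a ∉ Z) : False := by
  obtain ⟨U, hU, hUp, hUZ, hUinv⟩ := exists_kernel hS H hH hcop hp'
  have hinv : ∀ w ∈ Subgroup.zpowers σ, ∀ u ∈ U, w • u ∈ U := by
    intro w hw
    obtain ⟨i, rfl⟩ := mem_powers_iff_mem_zpowers.mpr hw
    suffices h : ∀ l : ℕ, ∀ u ∈ U, σ ^ l • u ∈ U from h i
    intro l
    induction l with
    | zero => simp
    | succ l ih => exact fun u hu => by rw [pow_succ', mul_smul]; exact hUinv σ hn _ (ih u hu)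
  let _ : MulAction (Subgroup.zpowers σ) U :=
    { smul := fun w u => ⟨(w : W) • (u : A), hinv w w.2 u u.2⟩
      one_smul := fun u => Subtype.ext (one_smul W (u : A))
      mul_smul := fun a b u => Subtype.ext (mul_smul (a : W) b (u : A)) }
  obtain ⟨i, -, hi⟩ := (Nat.dvd_prime_pow hp.out).mp (orderOf_dvd_of_pow_eq_one hk)
  have hpg : IsPGroup p (Subgroup.zpowers σ) :=
    IsPGroup.of_card (n := i) (by rw [Nat.card_zpowers, hi])
  have hdvd : p ∣ Nat.card U := by
    have : Nontrivial U := (Subgroup.nontrivial_iff_ne_bot U).mpr hU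
    obtain ⟨j, hj⟩ := IsPGroup.iff_card.mp hUp
    rcases Nat.eq_zero_or_pos j with h0 | h0
    · rw [h0, pow_zero] at hj
      exact absurd hj Finite.one_lt_card.ne'
    · exact hj ▸ dvd_pow_self p h0.ne'
  have hone : (1 : U) ∈ MulAction.fixedPoints (Subgroup.zpowers σ) U :=
    fun c => Subtype.ext (show (c : W) • (1 : A) = 1 from smul_one _)
  obtain ⟨u, hufix, hune⟩ := hpg.exists_fixed_point_of_prime_dvd_card_of_fixed_point U hdvd hone
  have hu : σ • (u : A) = u := congrArg Subtype.val (hufix ⟨σ, Subgroup.mem_zpowers σ⟩)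
  have hub : (u : A) ∈ (⊥ : Subgroup A) := hUZ ▸ (⟨u.2, hS.free σ hσ _ hu⟩ : (u : A) ∈ U ⊓ Z)
  exact hune (Subtype.ext (Subgroup.mem_bot.mp hub).symm)

include hS in
/-- Odd coprime `s`-subgroups are cyclic. -/
theorem isCyclic_sylow {p s : ℕ} [hp : Fact p.Prime] [hs : Fact s.Prime] (hps : p ≠ s) (hs2 : s ≠ 2)
    (P : Subgroup W) (hP : IsPGroup s P) (hp' : ∃ a ∈ pElts A p, a ∉ Z) : IsCyclic P := by
  by_cases hPb : P = ⊥
  · subst hPb; exact isCyclic_of_subsingleton
  have hcop : ¬ p ∣ Nat.card P := by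
    obtain ⟨j, hj⟩ := IsPGroup.iff_card.mp hP
    intro hd
    exact hps ((Nat.prime_dvd_prime_iff_eq hp.out hs.out).mp (hp.out.dvd_of_dvd_pow (hj ▸ hd)))
  obtain ⟨U, hU, -, hUZ, hUinv⟩ := exists_kernel hS P hPb hcop hp'
  have hinv : ∀ w ∈ P, ∀ u ∈ U, w • u ∈ U := fun w hw => hUinv w fun h => by
    constructor
    · exact fun hh => P.mul_mem (P.mul_mem hw hh) (P.inv_mem hw)
    · intro hh
      simpa [mul_assoc] using P.mul_mem (P.mul_mem (P.inv_mem hw) hh) hw
  let _ : MulDistribMulAction P U :=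
    { smul := fun w u => ⟨(w : W) • (u : A), hinv w w.2 u u.2⟩
      one_smul := fun u => Subtype.ext (one_smul W (u : A))
      mul_smul := fun a b u => Subtype.ext (mul_smul (a : W) b (u : A))
      smul_mul := fun a u v => Subtype.ext (smul_mul' (a : W) (u : A) v)
      smul_one := fun a => Subtype.ext (smul_one (a : W)) }
  have hfpf : Cfsg.Agent.FrobeniusFPF.IsFPF P U := by
    intro w hw u hu
    have h1 : (w : W) • (u : A) = u := congrArg Subtype.val hu
    have hub : (u : A) ∈ (⊥ : Subgroup A) :=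
      hUZ ▸ (⟨u.2, hS.free w (fun e => hw (Subtype.ext e)) _ h1⟩ : (u : A) ∈ U ⊓ Z)
    exact Subtype.ext (Subgroup.mem_bot.mp hub)
  have : Nontrivial U := (Subgroup.nontrivial_iff_ne_bot U).mpr hU
  have : Nontrivial P := (Subgroup.nontrivial_iff_ne_bot P).mpr hPb
  have := hP.center_nontrivial
  have hsc : s ∣ Nat.card (Subgroup.center P) := by
    obtain ⟨j, hj⟩ := IsPGroup.iff_card.mp (hP.to_subgroup (Subgroup.center P))
    rcases Nat.eq_zero_or_pos j with h0 | h0
    · rw [h0, pow_zero] at hj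
      exact absurd hj Finite.one_lt_card.ne'
    · exact hj ▸ dvd_pow_self s h0.ne'
  obtain ⟨c, hc⟩ := exists_prime_orderOf_dvd_card' s hsc
  rw [← Subgroup.orderOf_coe] at hc
  have huniq : ∀ H K : Subgroup P, Nat.card H = s → Nat.card K = s → H = K := by
    have key : ∀ H : Subgroup P, Nat.card H = s → H = Subgroup.zpowers (c : P) := by
      intro H hH
      refine Subgroup.eq_of_le_of_card_ge (fun d hd => ?_) (by rw [hH, Nat.card_zpowers, hc])
      by_cases hd1 : d = 1
      · exact hd1 ▸ Subgroup.one_mem _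
      have hdo : orderOf d = s := by
        have h2 := Subgroup.orderOf_dvd_natCard H hd
        rw [hH] at h2
        exact (hs.out.eq_one_or_self_of_dvd _ h2).resolve_left (fun e => hd1 (orderOf_eq_one_iff.mp e))
      exact Cfsg.Agent.FrobeniusFPF.mem_zpowers_of_commute hfpf hs.out hdo hc
        (Subgroup.mem_center_iff.mp c.2 d)
    intro H K hH hK
    rw [key H hH, key K hK]
  exact (Cfsg.Agent.PGroupsCyclic.isCyclic_or_quaternion hP huniq).resolve_right fun h => hs2 h.1

include hS in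
/-- Two primes cannot occur. -/
theorem false_of_two_primes {p q : ℕ} [hp : Fact p.Prime] [hq : Fact q.Prime] (hpq : p ≠ q)
    (hpA : ∃ a ∈ pElts A p, a ∉ Z) (hqA : ∃ a ∈ pElts A q, a ∉ Z)
    {u g : W} (hu : u ≠ 1) {i : ℕ} (hui : u ^ p ^ i = 1) (hg : g ≠ 1) {j : ℕ} (hgj : g ^ q ^ j = 1) :
    False := by
  -- no non-trivial normal subgroup of prime power order
  have hnormal : ∀ (t : ℕ) (H : Subgroup W), t.Prime → H.Normal → IsPGroup t H → H ≠ ⊥ → False := by
    intro t H ht hHn hHp hH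
    have := Fact.mk ht
    obtain ⟨c, hc⟩ := IsPGroup.iff_card.mp hHp
    have hn : ∀ w h : W, h ∈ H ↔ w * h * w⁻¹ ∈ H := fun w h =>
      ⟨fun hh => hHn.conj_mem h hh w, fun hh => by simpa [mul_assoc] using hHn.conj_mem _ hh w⁻¹⟩
    have hcop : ∀ r : ℕ, r.Prime → r ≠ t → ¬ r ∣ Nat.card H := fun r hr hrt hd =>
      hrt ((Nat.prime_dvd_prime_iff_eq hr ht).mp (hr.dvd_of_dvd_pow (hc ▸ hd)))
    by_cases hpt : p = t
    · exact false_of_normalizes hS hg hgj H hH (hcop q hq.out fun e => hpq (hpt.trans e.symm)) (hn g) hqA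
    · exact false_of_normalizes hS hu hui H hH (hcop p hp.out hpt) (hn u) hpA
  by_cases hev : 2 ∣ Nat.card W
  · obtain ⟨t, ht⟩ := exists_prime_orderOf_dvd_card' 2 hev
    have ht2 : t * t = 1 := by have := pow_orderOf_eq_one t; rwa [ht, pow_two] at this
    have ht1 : t ≠ 1 := fun e => by simp [e] at ht
    obtain ⟨s, hsodd, hs, hsA⟩ : ∃ s, s ≠ 2 ∧ s.Prime ∧ ∃ a ∈ pElts A s, a ∉ Z := by
      by_cases hp2 : p = 2
      · exact ⟨q, fun e => hpq (hp2.trans e.symm), hq.out, hqA⟩
      · exact ⟨p, hp2, hp.out, hpA⟩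
    let K : Subgroup W :=
      { carrier := {w | ∀ a ∈ pElts A s, (w • a) * a⁻¹ ∈ Z}
        one_mem' := fun a _ => by simp
        mul_mem' := fun {w w'} hw hw' a ha => by
          have e : ((w * w') • a) * a⁻¹ = w • ((w' • a) * a⁻¹) * ((w • a) * a⁻¹) := by
            rw [smul_mul', smul_inv', mul_smul]; group
          rw [e, hS.fix w _ (hw' a ha)]
          exact Z.mul_mem (hw' a ha) (hw a ha)
        inv_mem' := fun {w} hw a ha => by
          have h1 := hw a ha
          have e : (w⁻¹ • a) * a⁻¹ = w⁻¹ • (((w • a) * a⁻¹)⁻¹) := by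
            rw [smul_inv', smul_mul', smul_inv', inv_smul_smul, mul_inv_rev, inv_inv]
          rw [e, hS.fix _ _ (Z.inv_mem h1)]
          exact Z.inv_mem h1 }
    have hstab : ∀ (w : W), ∀ a ∈ pElts A s, w • a ∈ pElts A s := fun w a ⟨k, hk⟩ =>
      ⟨k, by rw [← smul_pow', hk, smul_one]⟩
    have hKn : K.Normal := ⟨fun k hk w a ha => by
      have h1 := hk (w⁻¹ • a) (hstab _ _ ha)
      have e : ((w * k * w⁻¹) • a) * a⁻¹ = w • ((k • (w⁻¹ • a)) * (w⁻¹ • a)⁻¹) := by
        rw [smul_mul', smul_inv', smul_inv_smul, mul_smul, mul_smul]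
      rw [e, hS.fix w _ h1]
      exact h1⟩
    have hKp : IsPGroup s K := by
      have := Fact.mk hs
      intro k
      obtain ⟨e, n', hn', hke⟩ := Nat.exists_eq_pow_mul_and_not_dvd (orderOf_pos (k : W)).ne' s hs.ne_one
      refine ⟨e, Subtype.ext ?_⟩
      show (k : W) ^ s ^ e = 1
      by_contra hne
      obtain ⟨a, ha, haZ⟩ := hsA
      set z := (((k : W) ^ s ^ e) • a) * a⁻¹ with hz
      have hzZ : z ∈ Z := K.pow_mem k.2 (s ^ e) a ha
      have hstep : ∀ l : ℕ, ((k : W) ^ s ^ e) ^ l • a = z ^ l * a := by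
        intro l
        induction l with
        | zero => simp
        | succ l ih =>
          rw [pow_succ', mul_smul, ih, smul_mul', hS.fix _ _ (Z.pow_mem hzZ l), pow_succ, mul_assoc,
            show z * a = ((k : W) ^ s ^ e) • a by rw [hz]; group]
      have h1 := hstep n'
      rw [← pow_mul, ← hke, pow_orderOf_eq_one, one_smul] at h1
      have h2 : z ^ n' = 1 := mul_eq_right.mp h1.symm
      obtain ⟨c, hc⟩ := (pElts A s).mul_mem (hstab ((k : W) ^ s ^ e) a ha) ((pElts A s).inv_mem ha)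
      have h3 := pow_gcd_eq_one.mpr ⟨(hc : z ^ s ^ c = 1), h2⟩
      rw [Nat.Coprime.pow_left c (hs.coprime_iff_not_dvd.mpr hn'), pow_one] at h3
      have h4 : ((k : W) ^ s ^ e) • a = a := mul_inv_eq_one.mp (hz ▸ h3)
      exact haZ (hS.free _ hne a h4)
    by_cases hK : K = ⊥
    swap
    · exact hnormal s K hs hKn hKp hK
    have hinvz : ∀ a : A, a * t • a ∈ Z := fun a => hS.free t ht1 _ (by
      rw [smul_mul', ← mul_smul, ht2, one_smul, mul_comm])
    have hcomm : ∀ w : W, w * t * w⁻¹ * t⁻¹ ∈ K := by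
      intro w a ha
      have ht' : t⁻¹ = t := inv_eq_of_mul_eq_one_right ht2
      rw [ht']
      have e1 : ((w * t * w⁻¹ * t) • a) * a⁻¹ =
          w • ((w⁻¹ • (t • a)) * t • (w⁻¹ • (t • a))) * (a * t • a)⁻¹ := by
        simp only [mul_smul]
        rw [smul_mul', smul_inv_smul, mul_inv_rev]
        generalize w • t • w⁻¹ • t • a = X
        rw [mul_comm (t • a) X, mul_assoc, mul_inv_cancel_left]
      rw [e1, hS.fix w _ (hinvz _)]
      exact Z.mul_mem (hinvz _) (Z.inv_mem (hinvz a))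
    have htc : t ∈ Subgroup.center W := Subgroup.mem_center_iff.mpr fun w => by
      have := hcomm w
      rw [hK, Subgroup.mem_bot, mul_inv_eq_one, mul_inv_eq_iff_eq_mul] at this
      exact this
    refine hnormal 2 (Subgroup.zpowers t) Nat.prime_two ⟨fun x hx w => ?_⟩
      (IsPGroup.of_card (n := 1) (by rw [Nat.card_zpowers, ht, pow_one]))
      (by rwa [Ne, Subgroup.zpowers_eq_bot])
    have hxc : x ∈ Subgroup.center W := (Subgroup.zpowers_le.mpr htc) hx
    rwa [Subgroup.mem_center_iff.mp hxc w, mul_inv_cancel_right]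
  · have hz : IsZGroup W := by
      refine ⟨fun s hs P => ?_⟩
      have := Fact.mk hs
      by_cases hs2 : s = 2
      · subst hs2
        have hP : (P : Subgroup W) = ⊥ := by
          obtain ⟨c, hc⟩ := IsPGroup.iff_card.mp P.2
          rcases Nat.eq_zero_or_pos c with h0 | h0
          · exact Subgroup.card_eq_one.mp (by rw [hc, h0, pow_zero])
          · exact absurd ((dvd_pow_self 2 h0.ne').trans (hc ▸ Subgroup.card_subgroup_dvd_card _)) hev
        show IsCyclic (P : Subgroup W)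
        rw [hP]
        exact isCyclic_of_subsingleton
      by_cases hps : p = s
      · exact isCyclic_sylow hS (p := q) (fun e => hpq (hps.trans e.symm)) hs2 _ P.2 hqA
      · exact isCyclic_sylow hS (p := p) hps hs2 _ P.2 hpA
    have hsolv : Group.IsSolvable W := inferInstance
    obtain ⟨n, hn⟩ := hsolv.solvable
    have hex : ∃ D : Subgroup W, D.Normal ∧ D ≠ ⊥ ∧ ⁅D, D⁆ = ⊥ := by
      have : ∀ n : ℕ, derivedSeries W n = ⊥ → ∃ D : Subgroup W, D.Normal ∧ D ≠ ⊥ ∧ ⁅D, D⁆ = ⊥ := by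
        intro n
        induction n with
        | zero =>
          intro h
          have h1 : u ∈ derivedSeries W 0 := Subgroup.mem_top u
          rw [h] at h1
          exact absurd (Subgroup.mem_bot.mp h1) hu
        | succ n ih =>
          intro h
          by_cases hb : derivedSeries W n = ⊥
          · exact ih hb
          · exact ⟨_, derivedSeries_normal W n, hb, by rwa [← derivedSeries_succ]⟩
      exact this n hn
    obtain ⟨D, hDn, hDb, hD2⟩ := hex
    have hDc : ∀ a ∈ D, ∀ b ∈ D, a * b = b * a := fun a ha b hb => by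
      have h1 : ⁅a, b⁆ ∈ (⊥ : Subgroup W) := hD2 ▸ Subgroup.commutator_mem_commutator ha hb
      exact commutatorElement_eq_one_iff_mul_comm.mp (Subgroup.mem_bot.mp h1)
    obtain ⟨t, ht, htd⟩ := Nat.exists_prime_and_dvd (n := Nat.card D)
      (fun e => hDb (Subgroup.card_eq_one.mp e))
    have := Fact.mk ht
    obtain ⟨d, hd⟩ := exists_prime_orderOf_dvd_card' t htd
    let T : Subgroup W :=
      { carrier := {x | x ∈ D ∧ x ^ t = 1}
        one_mem' := ⟨D.one_mem, one_pow t⟩
        mul_mem' := by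
          rintro a b ⟨ha, ha'⟩ ⟨hb, hb'⟩
          exact ⟨D.mul_mem ha hb, by rw [(show Commute a b from hDc a ha b hb).mul_pow, ha', hb', one_mul]⟩
        inv_mem' := by
          rintro a ⟨ha, ha'⟩
          exact ⟨D.inv_mem ha, by rw [inv_pow, ha', inv_one]⟩ }
    refine hnormal t T ht ⟨fun x hx w => ⟨hDn.conj_mem x hx.1 w, by rw [conj_pow, hx.2, mul_one, mul_inv_cancel]⟩⟩
      (fun x => ⟨1, Subtype.ext (by rw [pow_one]; exact x.2.2)⟩) ?_
    intro hT
    have hdT : (d : W) ∈ T := ⟨d.2, by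
      have := pow_orderOf_eq_one d
      rw [hd] at this
      exact congrArg Subtype.val this⟩
    rw [hT, Subgroup.mem_bot] at hdT
    have : d = 1 := Subtype.ext hdT
    rw [this, orderOf_one] at hd
    exact ht.ne_one hd.symm

end semireg

end Cfsg.Agent.TwoIndicesNormal76
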