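import Mathlib
import Cfsg.Agent.Lib.ClassSizeGraph76
import Cfsg.Agent.Lib.TwoIndicesNormal76
import Cfsg.Agent.S4127

/-!
Groups whose class sizes are `1`, `m`, `m * n` with coprime `m, n`: preliminaries, and the proof
that `m` is a power of a prime.
-/

namespace Cfsg.Agent.ThreeSizes76

open Cfsg.Agent.ClassSizeGraph76
open Cfsg.Agent.TwoIndicesNormal76

local notation "Cn" g => Subgroup.centralizer ({g} : Set _)

variable {G : Type*} [Group G]

/-- Being a `p`-element. -/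
def PEl (p : ℕ) (g : G) : Prop := ∃ k : ℕ, orderOf g = p ^ k

/-- Being a `p'`-element. -/
def Cop (p : ℕ) (g : G) : Prop := Nat.Coprime (orderOf g) p

theorem PEl.conj {p : ℕ} {g : G} (h : PEl p g) (c : G) : PEl p (c * g * c⁻¹) := by
  obtain ⟨k, hk⟩ := h
  exact ⟨k, by rw [show c * g * c⁻¹ = MulAut.conj c g from rfl, MulEquiv.orderOf_eq, hk]⟩

theorem Cop.conj {p : ℕ} {g : G} (h : Cop p g) (c : G) : Cop p (c * g * c⁻¹) := by
  show Nat.Coprime (orderOf (c * g * c⁻¹)) p
  rwa [show c * g * c⁻¹ = MulAut.conj c g from rfl, MulEquiv.orderOf_eq]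

theorem pEl_of_mem {p : ℕ} [Fact p.Prime] {U : Subgroup G} (hU : IsPGroup p U) {g : G} (hg : g ∈ U) :
    PEl p g := by
  obtain ⟨k, hk⟩ := IsPGroup.iff_orderOf.mp hU ⟨g, hg⟩
  exact ⟨k, by rwa [Subgroup.orderOf_mk] at hk⟩

theorem PEl.coprime {p : ℕ} {a b : G} (ha : PEl p a) (hb : Cop p b) : (orderOf a).Coprime (orderOf b) := by
  obtain ⟨k, hk⟩ := ha
  exact hk ▸ (Nat.Coprime.pow_left k (Nat.Coprime.symm hb))

variable [Finite G]

theorem eq_one_of_pEl_cop {p : ℕ} {g : G} (h1 : PEl p g) (h2 : Cop p g) : g = 1 :=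
  orderOf_eq_one_iff.mp ((Nat.coprime_self _).mp (h1.coprime h2))

theorem eq_of_same {a b : G} (h : cs a = cs b) (hle : (Cn b) ≤ (Cn a)) : (Cn b) = (Cn a) := by
  refine Subgroup.eq_of_le_of_card_ge hle (le_of_eq (Nat.eq_of_mul_eq_mul_right (cs_pos a) ?_))
  show _ * (Cn a).index = Nat.card (Cn b) * (Cn a).index
  rw [Subgroup.card_mul_index, show (Cn a).index = cs b from h, Subgroup.card_mul_index]

theorem mem_center_of_cs {g : G} (h : cs g = 1) : g ∈ Subgroup.center G := by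
  have h' : (Cn g) = ⊤ := Subgroup.index_eq_one.mp h
  exact Subgroup.mem_center_iff.mpr fun c => mem_cent.mp (h' ▸ Subgroup.mem_top c)

theorem cs_eq_one {g : G} (h : g ∈ Subgroup.center G) : cs g = 1 := by
  show Subgroup.index (Cn g) = 1
  rw [Subgroup.index_eq_one, eq_top_iff]
  exact fun c _ => mem_cent.mpr (Subgroup.mem_center_iff.mp h c)

/-- For commuting elements of coprime order the centraliser of the product is the intersection. -/
theorem cent_mul {a b : G} (hc : Commute a b) (hcop : (orderOf a).Coprime (orderOf b)) :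
    (Cn (a * b)) = (Cn a) ⊓ (Cn b) := by
  obtain ⟨k, hk1, hk2⟩ := Nat.chineseRemainder hcop 1 0
  have hx : a ^ k = a := by
    conv_rhs => rw [← pow_one a]
    exact pow_eq_pow_iff_modEq.2 hk1
  have hy : b ^ k = 1 := by
    rw [← pow_zero b]; exact pow_eq_pow_iff_modEq.2 hk2
  refine le_antisymm (fun c hc' => ?_) (fun c hc' => ?_)
  · have h1 : Commute c a := by
      have := (show Commute c (a * b) from mem_cent.mp hc').pow_right k
      rwa [hc.mul_pow, hx, hy, mul_one] at this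
    have h2 := h1.inv_right.mul_right (show Commute c (a * b) from mem_cent.mp hc')
    rw [inv_mul_cancel_left] at h2
    exact ⟨mem_cent.mpr h1, mem_cent.mpr h2⟩
  · exact mem_cent.mpr ((show Commute c a from mem_cent.mp hc'.1).mul_right (mem_cent.mp hc'.2)).eq

theorem mul_notMem_center {a b : G} (ha : a ∉ Subgroup.center G) (hc : Commute a b)
    (hcop : (orderOf a).Coprime (orderOf b)) : a * b ∉ Subgroup.center G := fun h => ha
  (Subgroup.mem_center_iff.mpr fun c =>
    mem_cent.mp ((cent_mul hc hcop).le (mem_cent.mpr (Subgroup.mem_center_iff.mp h c))).1)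

/-- A `p`-part of an element. -/
theorem exists_parts' (p : ℕ) [hp : Fact p.Prime] (g : G) :
    ∃ s z : G, g = s * z ∧ Commute s z ∧ PEl p s ∧ Cop p z :=
  Cfsg.Agent.S4127.exists_parts g

/-- A subgroup `C` contains a non-central `t`-element as soon as a subgroup with at most the same `t`-part does. -/
theorem exists_elt_in {t : ℕ} [ht : Fact t.Prime] {C D : Subgroup G}
    (hf : (Nat.card D).factorization t ≤ (Nat.card C).factorization t)
    {x : G} (hxD : x ∈ D) (hx : PEl t x) (hxZ : x ∉ Subgroup.center G)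
    (hZD : Subgroup.center G ≤ D) : ∃ w ∈ C, w ∉ Subgroup.center G ∧ PEl t w := by
  by_contra hcon
  push Not at hcon
  obtain ⟨T⟩ : Nonempty (Sylow t C) := inferInstance
  set T' := (T : Subgroup C).map C.subtype with hT'
  have hT'c : T' ≤ Subgroup.center G := by
    rintro _ ⟨w, hw, rfl⟩
    by_contra hwc
    exact hcon _ w.2 hwc (pEl_of_mem (T.2.map C.subtype) ⟨w, hw, rfl⟩)
  have hT'n : T'.Normal := ⟨fun w hw g => by
    rwa [Subgroup.mem_center_iff.mp (hT'c hw) g, mul_inv_cancel_right]⟩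
  obtain ⟨k, hk⟩ := hx
  have hVp : IsPGroup t (T' ⊔ Subgroup.zpowers x : Subgroup G) := IsPGroup.to_sup_of_normal_left (T.2.map _)
    (IsPGroup.of_card (n := k) (by rw [Nat.card_zpowers, hk]))
  have hVD : T' ⊔ Subgroup.zpowers x ≤ D := sup_le (hT'c.trans hZD) (Subgroup.zpowers_le.mpr hxD)
  obtain ⟨v, hv⟩ := IsPGroup.iff_card.mp hVp
  have hcard : Nat.card (T' ⊔ Subgroup.zpowers x : Subgroup G) ≤ Nat.card T' := by
    rw [hv, hT', Subgroup.card_map_of_injective (Subgroup.subtype_injective _), T.card_eq_multiplicity]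
    refine Nat.pow_le_pow_right ht.out.pos (le_trans ?_ hf)
    rw [← ht.out.pow_dvd_iff_le_factorization Nat.card_pos.ne', ← hv]
    exact Subgroup.card_dvd_of_le hVD
  have hVT := Subgroup.eq_of_le_of_card_ge (le_sup_left : T' ≤ T' ⊔ Subgroup.zpowers x) hcard
  exact hxZ (hT'c (hVT.ge ((le_sup_right : Subgroup.zpowers x ≤ _) (Subgroup.mem_zpowers x))))

/-- The hypothesis on class sizes. -/
structure Sizes (G : Type*) [Group G] (m n : ℕ) : Prop where
  hm : 1 < m
  hn : 1 < n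
  hcop : m.Coprime n
  hset : ∀ z : G, cs z = 1 ∨ cs z = m ∨ cs z = m * n
  hex : ∃ x : G, cs x = m
  hexn : ∃ x : G, cs x = m * n

/-- The common exponent of the Sylow `p`-subgroups of the non-central centralisers. -/
noncomputable def eP (G : Type*) (m p : ℕ) : ℕ := (Nat.card G).factorization p - m.factorization p

variable {m n : ℕ} (H : Sizes G m n)

include H in
theorem cases2 {z : G} (hz : z ∉ Subgroup.center G) : cs z = m ∨ cs z = m * n :=
  (H.hset z).resolve_left fun h => hz (mem_center_of_cs h)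

include H in
theorem m_dvd {z : G} (hz : z ∉ Subgroup.center G) : m ∣ cs z := by
  rcases cases2 H hz with h | h
  · rw [h]
  · exact h ▸ Dvd.intro n rfl

include H in
theorem dvd_mn (z : G) : cs z ∣ m * n := by
  rcases H.hset z with h | h | h <;> rw [h]
  · exact one_dvd _
  · exact Dvd.intro n rfl

include H in
theorem max_eq {a b : G} (ha : cs a = m * n) (hle : (Cn b) ≤ (Cn a)) : (Cn b) = (Cn a) := by
  refine eq_of_same (ha.trans ?_) hle
  exact Nat.dvd_antisymm (ha ▸ Subgroup.index_dvd_of_le hle) (dvd_mn H b)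

include H in
theorem not_mem_center_of_cs {z : G} (h : cs z = m ∨ cs z = m * n) : z ∉ Subgroup.center G := fun hz => by
  have h1 := cs_eq_one hz
  have := H.hm; have := H.hn
  rcases h with h | h <;> rw [h] at h1
  · omega
  · exact absurd (Nat.eq_one_of_mul_eq_one_right h1) (by omega)

variable {p : ℕ} [hp : Fact p.Prime]

include H in
theorem p_not_dvd_n (hpm : p ∣ m) : ¬ p ∣ n := fun h =>
  hp.out.ne_one (Nat.eq_one_of_dvd_coprimes H.hcop hpm h)

include H in
theorem fact_cent (hpm : p ∣ m) {a : G} (ha : a ∉ Subgroup.center G) :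
    (Nat.card (Cn a)).factorization p = eP G m p := by
  have h : Nat.card (Cn a) * cs a = Nat.card G := Subgroup.card_mul_index _
  have h1 : (cs a).factorization p = m.factorization p := by
    have := H.hm; have := H.hn
    rcases cases2 H ha with e | e <;> rw [e]
    rw [Nat.factorization_mul (by omega) (by omega), Finsupp.add_apply,
      Nat.factorization_eq_zero_of_not_dvd (p_not_dvd_n H hpm), add_zero]
  rw [eP, ← h, Nat.factorization_mul Nat.card_pos.ne' (cs_pos a).ne', Finsupp.add_apply, h1, Nat.add_sub_cancel]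

include H in
theorem card_le (hpm : p ∣ m) {a : G} (ha : a ∉ Subgroup.center G) {U : Subgroup G} (hU : IsPGroup p U)
    (hUa : U ≤ (Cn a)) : Nat.card U ≤ p ^ eP G m p := by
  obtain ⟨k, hk⟩ := IsPGroup.iff_card.mp hU
  rw [hk]
  refine Nat.pow_le_pow_right hp.out.pos ?_
  rw [← fact_cent H hpm ha, ← hp.out.pow_dvd_iff_le_factorization Nat.card_pos.ne', ← hk]
  exact Subgroup.card_dvd_of_le hUa

include H in
theorem exists_p (hpm : p ∣ m) : ∃ v : G, v ∉ Subgroup.center G ∧ PEl p v := by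
  by_contra hcon
  push Not at hcon
  obtain ⟨x, hx⟩ := H.hex
  obtain ⟨P⟩ : Nonempty (Sylow p G) := inferInstance
  refine not_dvd_index_of_sylow_le P (H := Cn x) (fun u hu => mem_cent.mpr ?_) (show p ∣ cs x from hx.symm ▸ hpm)
  by_contra hne
  exact hcon u (fun hc => hne (Subgroup.mem_center_iff.mp hc x).symm) (pEl_of_mem P.2 hu)

include H in
theorem exists_p_in (hpm : p ∣ m) {a : G} (ha : a ∉ Subgroup.center G) :
    ∃ w : G, w ∈ (Cn a) ∧ w ∉ Subgroup.center G ∧ PEl p w := by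
  obtain ⟨v, hv, hvp⟩ := exists_p H hpm
  exact exists_elt_in (by rw [fact_cent H hpm ha, fact_cent H hpm hv]) (mem_cent.mpr rfl) hvp hv
    (fun z hz => mem_cent.mpr (Subgroup.mem_center_iff.mp hz v).symm)

/-- The direct decomposition of the centraliser of a non-central `p`-element. -/
structure Dir (p : ℕ) (v : G) (S A : Subgroup G) (e : ℕ) : Prop where
  isP : IsPGroup p S
  sle : S ≤ Subgroup.centralizer ({v} : Set G)
  smem : ∀ g ∈ Subgroup.centralizer ({v} : Set G), PEl p g → g ∈ S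
  ale : A ≤ Subgroup.centralizer ({v} : Set G)
  amem : ∀ g ∈ Subgroup.centralizer ({v} : Set G), Cop p g → g ∈ A
  acop : ∀ g ∈ A, Cop p g
  comm : ∀ s ∈ S, ∀ a ∈ A, Commute s a
  card : Nat.card S = p ^ e

include H in
theorem exists_dir (hpm : p ∣ m) {v : G} (hv : v ∉ Subgroup.center G) (hvp : PEl p v) :
    ∃ S A : Subgroup G, Dir p v S A (eP G m p) := by
  set C : Subgroup G := Cn v with hC
  have hhyp : ∀ z : C, Nat.Coprime (orderOf z) p → ¬ p ∣ (Subgroup.centralizer ({z} : Set C)).index := by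
    intro z hz hd
    rw [← Subgroup.orderOf_coe] at hz
    have hc : Commute v (z : G) := (mem_cent.mp z.2).symm
    have hle : (Cn (v * (z : G))) ≤ (Subgroup.centralizer ({z} : Set C)).map C.subtype := by
      rw [cent_mul hc (hvp.coprime hz)]
      exact fun c hc' => ⟨⟨c, hc'.1⟩, mem_cent.mpr (Subtype.ext (mem_cent.mp hc'.2 : c * z = z * c)), rfl⟩
    have h0 : (Subgroup.centralizer ({z} : Set C)).index * C.index ∣ cs (v * (z : G)) := by
      rw [← Subgroup.index_map_subtype]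
      exact Subgroup.index_dvd_of_le hle
    have h1 := ((mul_dvd_mul hd (m_dvd H hv : m ∣ C.index)).trans h0).trans (dvd_mn H _)
    rw [mul_comm p m] at h1
    exact p_not_dvd_n H hpm ((mul_dvd_mul_iff_left (by have := H.hm; omega)).mp h1)
  obtain ⟨⟨T, A₀, hA₀n, hA₀⟩, hcomm⟩ := Cfsg.Agent.S4127.direct_factor (p := p) hhyp
  have hA₀mem := fun c => Cfsg.Agent.TransferPResidual.mem_iff_coprime_of_isComplement' hA₀ c
  have hTmem : ∀ g : C, PEl p g → g ∈ (T : Subgroup C) := by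
    intro g hg
    obtain ⟨k, hk⟩ := hg
    obtain ⟨T', hT'⟩ := (IsPGroup.of_card (n := k) (by rw [Nat.card_zpowers, hk]) :
      IsPGroup p (Subgroup.zpowers g)).exists_le_sylow
    have hg' : g ∈ (T' : Subgroup C) := hT' (Subgroup.mem_zpowers g)
    obtain ⟨c, hc⟩ := MulAction.exists_smul_eq C T T'
    rw [← hc, Sylow.coe_subgroup_smul] at hg'
    obtain ⟨t, ht, rfl⟩ := hg'
    obtain ⟨⟨a, b⟩, hab⟩ := hA₀.2 c
    have hat : ∀ u ∈ (T : Subgroup C), Commute u (a : C) := fun u hu =>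
      hcomm u a (pEl_of_mem T.2 hu) ((hA₀mem _).mp a.2)
    have e : MulAut.conj c t = (b : C) * t * (b : C)⁻¹ := by
      have hb : (b : C) * t * (b : C)⁻¹ ∈ (T : Subgroup C) :=
        (T : Subgroup C).mul_mem ((T : Subgroup C).mul_mem b.2 ht) ((T : Subgroup C).inv_mem b.2)
      rw [MulAut.conj_apply, ← hab]
      show (a : C) * b * t * ((a : C) * b)⁻¹ = _
      calc (a : C) * b * t * ((a : C) * b)⁻¹ = (a : C) * ((b : C) * t * (b : C)⁻¹) * (a : C)⁻¹ := by group
        _ = (b : C) * t * (b : C)⁻¹ * (a : C) * (a : C)⁻¹ := by rw [(hat _ hb).eq]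
        _ = _ := by group
    show MulAut.conj c t ∈ _
    rw [e]
    exact (T : Subgroup C).mul_mem ((T : Subgroup C).mul_mem b.2 ht) ((T : Subgroup C).inv_mem b.2)
  refine ⟨(T : Subgroup C).map C.subtype, A₀.map C.subtype,
    ⟨T.2.map _, Subgroup.map_subtype_le _, ?_, Subgroup.map_subtype_le _, ?_, ?_, ?_, ?_⟩⟩
  · exact fun g hg ⟨k, hk⟩ => ⟨⟨g, hg⟩, hTmem _ ⟨k, by rw [Subgroup.orderOf_mk, hk]⟩, rfl⟩
  · intro g hg hg'
    exact ⟨⟨g, hg⟩, (hA₀mem _).mpr (by rw [Subgroup.orderOf_mk]; exact hg'), rfl⟩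
  · rintro _ ⟨a, ha, rfl⟩
    show Nat.Coprime (orderOf (a : G)) p
    rw [Subgroup.orderOf_coe]
    exact (hA₀mem a).mp ha
  · rintro _ ⟨s, hs, rfl⟩ _ ⟨a, ha, rfl⟩
    exact congrArg Subtype.val (hcomm s a (pEl_of_mem T.2 hs) ((hA₀mem a).mp ha)).eq
  · rw [Subgroup.card_map_of_injective C.subtype_injective, T.card_eq_multiplicity, fact_cent H hpm hv]

include H in
/-- Commuting non-central `p`-elements have centralisers with the same `p'`-elements. -/
theorem cop_mem_of_commute (hpm : p ∣ m) {a b y : G} (ha : a ∉ Subgroup.center G) (hap : PEl p a)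
    (hbp : PEl p b) (hab : Commute a b) (hy : y ∈ (Cn a)) (hyc : Cop p y) : y ∈ (Cn b) := by
  obtain ⟨S, A, hD⟩ := exists_dir H hpm ha hap
  exact mem_cent.mpr (hD.comm b (hD.smem b (mem_cent.mpr hab.symm.eq) hbp) y (hD.amem y hy hyc)).symm.eq

include H in
/-- A central element of a centraliser of a `p`-element has the same centraliser. -/
theorem cent_eq_of_central (hpm : p ∣ m) {v a : G} {S A : Subgroup G} (hv : v ∉ Subgroup.center G) (hvp : PEl p v)
    (hD : Dir p v S A (eP G m p)) (ha : a ∉ Subgroup.center G) (haS : a ∈ S)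
    (hac : ∀ s ∈ S, Commute a s) : (Cn a) = (Cn v) := by
  have hap := pEl_of_mem hD.isP haS
  have hav : Commute a v := mem_cent.mp (hD.sle haS)
  obtain ⟨Sa, Aa, hDa⟩ := exists_dir H hpm ha hap
  have hS : S = Sa := Subgroup.eq_of_le_of_card_ge
    (fun s hs => hDa.smem s (mem_cent.mpr (hac s hs).symm.eq) (pEl_of_mem hD.isP hs)) (by rw [hD.card, hDa.card])
  refine le_antisymm (fun g hg => ?_) (fun g hg => ?_)
  all_goals
    obtain ⟨s, z, rfl, hsz, hs, hz⟩ := exists_parts' p g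
  · have h1 := (cent_mul (G := G) (a := s) (b := z) hsz (hs.coprime hz)).le
      (show a ∈ _ from mem_cent.mpr (mem_cent.mp hg).symm)
    refine Subgroup.mul_mem _ (hD.sle (hS ▸ hDa.smem s (mem_cent.mpr (mem_cent.mp h1.1).symm) hs))
      (cop_mem_of_commute H hpm ha hap hvp hav ?_ hz)
    exact mem_cent.mpr (mem_cent.mp h1.2).symm
  · have h1 := (cent_mul (G := G) (a := s) (b := z) hsz (hs.coprime hz)).le
      (show v ∈ _ from mem_cent.mpr (mem_cent.mp hg).symm)
    refine Subgroup.mul_mem _ (mem_cent.mpr (hac s (hD.smem s (mem_cent.mpr (mem_cent.mp h1.1).symm) hs)).symm.eq)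
      (cop_mem_of_commute H hpm hv hvp hap hav.symm ?_ hz)
    exact mem_cent.mpr (mem_cent.mp h1.2).symm

include H in
/-- A mover: normalises two centre parts and moves the `p`-part. -/
theorem exists_mover {q : ℕ} [hq : Fact q.Prime] (hpm : p ∣ m) (hqm : q ∣ m) {v : G} {S A Q : Subgroup G}
    (hv : v ∉ Subgroup.center G) (hvp : PEl p v) (hD : Dir p v S A (eP G m p))
    (hvS : ∀ s ∈ S, Commute v s) (hQ : IsPGroup q Q) (hQC : Q ≤ (Cn v)) (hQcard : Nat.card Q = q ^ eP G m q) :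
    ∃ u : G, PEl p u ∧ u ∈ Subgroup.normalizer (S : Set G) ∧ u ∈ Subgroup.normalizer (Q : Set G) ∧
      u ∉ (Cn v) := by
  obtain ⟨P, hP⟩ := hD.isP.exists_le_sylow
  have hlt : S.subgroupOf (P : Subgroup G) < ⊤ := lt_top_iff_ne_top.mpr fun h => by
    have h1 : (P : Subgroup G) ≤ (Cn v) := (Subgroup.subgroupOf_eq_top.mp h).trans hD.sle
    exact not_dvd_index_of_sylow_le P h1 (hpm.trans (m_dvd H hv))
  have := P.2.isNilpotent
  obtain ⟨u₀, hu₀n, hu₀S⟩ := SetLike.exists_of_lt (Group.normalizerCondition_of_isNilpotent _ hlt)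
  have hu₀p : PEl p (u₀ : G) := pEl_of_mem P.2 u₀.2
  have hu₀C : (u₀ : G) ∉ (Cn v) := fun h => hu₀S (Subgroup.mem_subgroupOf.mpr (hD.smem _ h hu₀p))
  have hu₀N : ∀ s, s ∈ S ↔ (u₀ : G) * s * (u₀ : G)⁻¹ ∈ S := fun s => by
    constructor
    · intro hs
      exact (Subgroup.mem_normalizer_iff.mp hu₀n ⟨s, hP hs⟩).mp (Subgroup.mem_subgroupOf.mpr hs)
    · intro hs
      have hsP : s ∈ (P : Subgroup G) := by
        have := (P : Subgroup G).mul_mem ((P : Subgroup G).mul_mem ((P : Subgroup G).inv_mem u₀.2) (hP hs)) u₀.2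
        simpa [mul_assoc] using this
      exact Subgroup.mem_subgroupOf.mp ((Subgroup.mem_normalizer_iff.mp hu₀n ⟨s, hsP⟩).mpr hs)
  -- `u₀` normalises the centraliser
  have hvS' : v ∈ S := hD.smem v (mem_cent.mpr rfl) hvp
  set v' := (u₀ : G) * v * (u₀ : G)⁻¹ with hv'
  have hv'S : v' ∈ S := (hu₀N v).mp hvS'
  have hv'c : (Cn v') = (Cn v) := by
    refine cent_eq_of_central H hpm hv hvp hD (fun h => hv ?_) hv'S fun s hs => ?_
    · have := (inferInstance : (Subgroup.center G).Normal).conj_mem _ h (u₀ : G)⁻¹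
      simpa [hv', mul_assoc] using this
    · have hs' : (u₀ : G)⁻¹ * s * u₀ ∈ S := (hu₀N _).mpr (by simpa [mul_assoc] using hs)
      have h1 := (hvS _ hs').map (MulAut.conj (u₀ : G)).toMonoidHom
      simpa [hv', mul_assoc] using h1
  set N := Subgroup.normalizer ((Cn v : Subgroup G) : Set G) with hN
  have hu₀Cn : (u₀ : G) ∈ N := by
    rw [hN, Subgroup.mem_normalizer_iff]
    intro g
    conv_rhs => rw [← hv'c]
    rw [mem_cent, mem_cent, hv']
    constructor
    · intro h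
      calc (u₀ : G) * g * (u₀ : G)⁻¹ * ((u₀ : G) * v * (u₀ : G)⁻¹) = (u₀ : G) * (g * v) * (u₀ : G)⁻¹ := by group
        _ = (u₀ : G) * (v * g) * (u₀ : G)⁻¹ := by rw [h]
        _ = _ := by group
    · intro h
      calc g * v = (u₀ : G)⁻¹ * ((u₀ : G) * g * (u₀ : G)⁻¹ * ((u₀ : G) * v * (u₀ : G)⁻¹)) * u₀ := by group
        _ = (u₀ : G)⁻¹ * ((u₀ : G) * v * (u₀ : G)⁻¹ * ((u₀ : G) * g * (u₀ : G)⁻¹)) * u₀ := by rw [h]
        _ = _ := by group
  -- Frattini argument
  let C' : Subgroup N := (Cn v : Subgroup G).subgroupOf N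
  have hC'n : C'.Normal := Subgroup.normal_in_normalizer
  have hCN : (Cn v : Subgroup G) ≤ N := Subgroup.le_normalizer
  let f : (Cn v : Subgroup G) →* N := Subgroup.inclusion hCN
  let Q' : Subgroup C' := (Q.subgroupOf N).subgroupOf C'
  have hQ'c : Nat.card Q' = q ^ (Nat.card C').factorization q := by
    show Nat.card ((Q.subgroupOf N).subgroupOf C') = _
    have hle : Q.subgroupOf N ≤ C' := fun x hx => hQC hx
    rw [Nat.card_congr (Subgroup.subgroupOfEquivOfLe hle).toEquiv,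
      Nat.card_congr (Subgroup.subgroupOfEquivOfLe (hQC.trans hCN)).toEquiv, hQcard,
      Nat.card_congr (Subgroup.subgroupOfEquivOfLe hCN).toEquiv, fact_cent H hqm hv]
  have hfr := Sylow.normalizer_sup_eq_top (Sylow.ofCard Q' hQ'c)
  have hmap : (Sylow.ofCard Q' hQ'c : Subgroup C').map C'.subtype = Q.subgroupOf N := by
    rw [Sylow.coe_ofCard]
    exact Subgroup.map_subgroupOf_eq_of_le (Subgroup.comap_mono hQC)
  rw [hmap] at hfr
  have hmem : (⟨u₀, hu₀Cn⟩ : N) ∈ ((Subgroup.normalizer ((Q.subgroupOf N : Subgroup N) : Set N) ⊔ C' : Subgroup N) : Set N) := by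
    rw [hfr]; trivial
  rw [Subgroup.mul_normal] at hmem
  obtain ⟨h, hhQ, c, hc, hhc⟩ := Set.mem_mul.mp hmem
  have hhc' : (h : G) * (c : G) = u₀ := congrArg Subtype.val hhc
  have hcC : (c : G) ∈ (Cn v) := hc
  have hhQ' : (h : G) ∈ Subgroup.normalizer (Q : Set G) := by
    rw [Subgroup.mem_normalizer_iff]
    intro g
    constructor
    · intro hg
      exact (Subgroup.mem_normalizer_iff.mp hhQ ⟨g, hCN (hQC hg)⟩).mp hg
    · intro hg
      have hgN : g ∈ N := by
        have := N.mul_mem (N.mul_mem (N.inv_mem h.2) (hCN (hQC hg))) h.2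
        simpa [mul_assoc] using this
      exact (Subgroup.mem_normalizer_iff.mp hhQ ⟨g, hgN⟩).mpr hg
  have hcS : (c : G) ∈ Subgroup.normalizer (S : Set G) := by
    rw [Subgroup.mem_normalizer_iff]
    intro s
    constructor
    · intro hs
      exact hD.smem _ (Subgroup.mul_mem _ (Subgroup.mul_mem _ hcC (hD.sle hs)) (Subgroup.inv_mem _ hcC))
        ((pEl_of_mem hD.isP hs).conj _)
    · intro hs
      have h1 : (c : G)⁻¹ * ((c : G) * s * (c : G)⁻¹) * (c : G)⁻¹⁻¹ ∈ S :=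
        hD.smem _ (Subgroup.mul_mem _ (Subgroup.mul_mem _ (Subgroup.inv_mem _ hcC) (hD.sle hs))
          (Subgroup.inv_mem _ (Subgroup.inv_mem _ hcC))) ((pEl_of_mem hD.isP hs).conj _)
      simpa [mul_assoc] using h1
  have hu₀S' : (u₀ : G) ∈ Subgroup.normalizer (S : Set G) := Subgroup.mem_normalizer_iff.mpr hu₀N
  have hhS : (h : G) ∈ Subgroup.normalizer (S : Set G) := by
    have := Subgroup.mul_mem _ hu₀S' (Subgroup.inv_mem _ hcS)
    rwa [show (u₀ : G) * (c : G)⁻¹ = h by rw [← hhc', mul_inv_cancel_right]] at this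
  have hhC : (h : G) ∉ (Cn v) := fun hh => hu₀C (hhc' ▸ Subgroup.mul_mem _ hh hcC)
  -- take the `p`-part of `h`
  obtain ⟨e, n', hn', hhe⟩ := Nat.exists_eq_pow_mul_and_not_dvd (orderOf_pos (h : G)).ne' p hp.out.ne_one
  have hpartp : PEl p ((h : G) ^ n') := by
    obtain ⟨i, -, hi⟩ := (Nat.dvd_prime_pow hp.out).mp
      (orderOf_dvd_of_pow_eq_one (show ((h : G) ^ n') ^ p ^ e = 1 by
        rw [← pow_mul, mul_comm, ← hhe, pow_orderOf_eq_one]))
    exact ⟨i, hi⟩
  refine ⟨(h : G) ^ n', hpartp, Subgroup.pow_mem _ hhS n', Subgroup.pow_mem _ hhQ' n', fun hcon => hu₀C ?_⟩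
  -- modulo the centraliser `h` is congruent to `u₀`
  have hq1 : (QuotientGroup.mk' C' h) = QuotientGroup.mk' C' ⟨u₀, hu₀Cn⟩ := by
    rw [← hhc, map_mul, (QuotientGroup.eq_one_iff c).mpr hc |> fun e => show QuotientGroup.mk' C' c = 1 from e, mul_one]
  have hq2 : (QuotientGroup.mk' C' ⟨u₀, hu₀Cn⟩) ^ n' = 1 := by
    rw [← hq1, ← map_pow]
    exact (QuotientGroup.eq_one_iff _).mpr (show ((h ^ n' : N) : G) ∈ _ by simpa using hcon)
  obtain ⟨k, hk⟩ := hu₀p
  have hq3 : (QuotientGroup.mk' C' ⟨u₀, hu₀Cn⟩) ^ p ^ k = 1 := by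
    rw [← map_pow, show (⟨u₀, hu₀Cn⟩ : N) ^ p ^ k = 1 from Subtype.ext (hk ▸ pow_orderOf_eq_one (u₀ : G)), map_one]
  have hq4 := pow_gcd_eq_one.mpr ⟨hq2, hq3⟩
  rw [Nat.Coprime.pow_right k (hp.out.coprime_iff_not_dvd.mpr hn').symm, pow_one] at hq4
  exact (QuotientGroup.eq_one_iff (⟨u₀, hu₀Cn⟩ : N)).mp hq4

omit [Finite G] in
theorem sup_of_commute {A B : Subgroup G} (h : ∀ a ∈ A, ∀ b ∈ B, Commute a b) {g : G} (hg : g ∈ A ⊔ B) :
    ∃ a ∈ A, ∃ b ∈ B, g = a * b := by
  have hle : A ≤ Subgroup.normalizer (B : Set G) := le_trans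
    (fun a ha => Subgroup.mem_centralizer_iff.mpr fun b hb => (h a ha b hb).symm.eq)
    (Subgroup.centralizer_le_normalizer _)
  rw [← SetLike.mem_coe, Subgroup.coe_mul_of_left_le_normalizer_right A B hle] at hg
  obtain ⟨a, ha, b, hb, rfl⟩ := Set.mem_mul.mp hg
  exact ⟨a, ha, b, hb, rfl⟩

include H in
theorem false_of_two {q : ℕ} [hq : Fact q.Prime] (hpq : p ≠ q) (hpm : p ∣ m) (hqm : q ∣ m) : False := by
  have hcopq : ∀ g : G, PEl q g → Cop p g := by
    rintro g ⟨k, hk⟩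
    show Nat.Coprime (orderOf g) p
    rw [hk]
    exact Nat.Coprime.pow_left k ((Nat.coprime_primes hq.out hp.out).mpr hpq.symm)
  have hcopp : ∀ g : G, PEl p g → Cop q g := by
    rintro g ⟨k, hk⟩
    show Nat.Coprime (orderOf g) q
    rw [hk]
    exact Nat.Coprime.pow_left k ((Nat.coprime_primes hp.out hq.out).mpr hpq)
  obtain ⟨v, hv, hvp⟩ := exists_p H hpm
  obtain ⟨w, hwC, hw, hwq⟩ := exists_p_in H hqm hv
  have hvw : Commute v w := (mem_cent.mp hwC : Commute w v).symm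
  obtain ⟨S, A, hD⟩ := exists_dir H hpm hv hvp
  obtain ⟨Q, B, hE⟩ := exists_dir H hqm hw hwq
  have hvS : ∀ s ∈ S, Commute v s := fun s hs => (mem_cent.mp (hD.sle hs) : Commute s v).symm
  have hwQ : ∀ s ∈ Q, Commute w s := fun s hs => (mem_cent.mp (hE.sle hs) : Commute s w).symm
  have hvwC := cent_mul hvw (hvp.coprime (hcopq w hwq))
  have hvwZ := mul_notMem_center hv hvw (hvp.coprime (hcopq w hwq))
  have hcontain : ∀ {r : ℕ} [Fact r.Prime], r ∣ m → ∀ {R : Subgroup G} {a : G}, (Cn (v * w)) ≤ (Cn a) →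
      (∀ g ∈ (Cn a), PEl r g → g ∈ R) → Nat.card R = r ^ eP G m r → R ≤ (Cn (v * w)) := by
    intro r _ hrm R a hle hmem hcard
    obtain ⟨T⟩ : Nonempty (Sylow r (Cn (v * w))) := inferInstance
    set T' := (T : Subgroup (Cn (v * w))).map (Subgroup.subtype _) with hT'
    have hT'R : T' ≤ R := fun t ht => hmem t (hle (Subgroup.map_subtype_le _ ht)) (pEl_of_mem (T.2.map _) ht)
    have h1 : Nat.card R ≤ Nat.card T' := by
      rw [hT', Subgroup.card_map_of_injective (Subgroup.subtype_injective _), T.card_eq_multiplicity,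
        fact_cent H hrm hvwZ, hcard]
    exact (Subgroup.eq_of_le_of_card_ge hT'R h1).ge.trans (Subgroup.map_subtype_le _)
  have hSw : S ≤ (Cn w) := (hcontain hpm (hvwC ▸ inf_le_left) hD.smem hD.card).trans (hvwC ▸ inf_le_right)
  have hQv : Q ≤ (Cn v) := (hcontain hqm (hvwC ▸ inf_le_right) hE.smem hE.card).trans (hvwC ▸ inf_le_left)
  have hSQ : ∀ s ∈ S, ∀ b ∈ Q, Commute s b := fun s hs b hb =>
    hD.comm s hs b (hD.amem b (hQv hb) (hcopq b (pEl_of_mem hE.isP hb)))
  set Vp := S ⊓ Subgroup.centralizer (S : Set G) with hVp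
  set Vq := Q ⊓ Subgroup.centralizer (Q : Set G) with hVq
  set V := Vp ⊔ Vq with hV
  have hVmem : ∀ g ∈ V, ∃ a ∈ Vp, ∃ b ∈ Vq, g = a * b :=
    fun g hg => sup_of_commute (A := Vp) (B := Vq) (fun a (ha : a ∈ Vp) b (hb : b ∈ Vq) => hSQ a ha.1 b hb.1) hg
  have hVpc : ∀ a ∈ Vp, ∀ s ∈ S, Commute a s := fun a ha s hs => (Subgroup.mem_centralizer_iff.mp ha.2 s hs).symm
  have hVqc : ∀ a ∈ Vq, ∀ s ∈ Q, Commute a s := fun a ha s hs => (Subgroup.mem_centralizer_iff.mp ha.2 s hs).symm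
  have habel : ∀ g ∈ V, ∀ g' ∈ V, g * g' = g' * g := by
    intro g hg g' hg'
    obtain ⟨a, ha, b, hb, rfl⟩ := hVmem g hg
    obtain ⟨a', ha', b', hb', rfl⟩ := hVmem g' hg'
    have c1 : Commute a a' := hVpc a ha a' ha'.1
    have c2 : Commute a b' := hSQ a ha.1 b' hb'.1
    have c3 : Commute b a' := (hSQ a' ha'.1 b hb.1).symm
    have c4 : Commute b b' := hVqc b hb b' hb'.1
    exact ((c1.mul_right c2).mul_left (c3.mul_right c4)).eq
  -- fixing one element forces centralising the whole part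
  have hfixp : ∀ h a : G, a ∈ Vp → a ∉ Subgroup.center G → Commute h a → ∀ a' ∈ Vp, Commute h a' := by
    intro h a ha hac hh a' ha'
    by_cases ha'c : a' ∈ Subgroup.center G
    · exact Subgroup.mem_center_iff.mp ha'c h
    have h1 := cent_eq_of_central H hpm hv hvp hD hac ha.1 (hVpc a ha)
    have h2 := cent_eq_of_central H hpm hv hvp hD ha'c ha'.1 (hVpc a' ha')
    have h3 : h ∈ (Cn a') := h2.ge (h1.le (mem_cent.mpr hh.eq))
    exact mem_cent.mp h3
  have hfixq : ∀ h a : G, a ∈ Vq → a ∉ Subgroup.center G → Commute h a → ∀ a' ∈ Vq, Commute h a' := by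
    intro h a ha hac hh a' ha'
    by_cases ha'c : a' ∈ Subgroup.center G
    · exact Subgroup.mem_center_iff.mp ha'c h
    have h1 := cent_eq_of_central H hqm hw hwq hE hac ha.1 (hVqc a ha)
    have h2 := cent_eq_of_central H hqm hw hwq hE ha'c ha'.1 (hVqc a' ha')
    have h3 : h ∈ (Cn a') := h2.ge (h1.le (mem_cent.mpr hh.eq))
    exact mem_cent.mp h3
  have hvVp : v ∈ Vp := ⟨hD.smem v (mem_cent.mpr rfl) hvp,
    Subgroup.mem_centralizer_iff.mpr fun s hs => (hvS s hs).symm.eq⟩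
  have hwVq : w ∈ Vq := ⟨hE.smem w (mem_cent.mpr rfl) hwq,
    Subgroup.mem_centralizer_iff.mpr fun s hs => (hwQ s hs).symm.eq⟩
  obtain ⟨u, hup, huS, huQ, huv⟩ := exists_mover H (q := q) hpm hqm hv hvp hD hvS hE.isP hQv hE.card
  obtain ⟨g, hgq, hgQ, hgS, hgw⟩ := exists_mover H (q := p) (p := q) hqm hpm hw hwq hE hwQ hD.isP hSw hD.card
  set M := Subgroup.normalizer (S : Set G) ⊓ Subgroup.normalizer (Q : Set G) with hM
  have hconjV : ∀ (R : Subgroup G) (k : G), k ∈ Subgroup.normalizer (R : Set G) → ∀ a,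
      a ∈ R ⊓ Subgroup.centralizer (R : Set G) → k * a * k⁻¹ ∈ R ⊓ Subgroup.centralizer (R : Set G) := by
    intro R k hk a ha
    refine ⟨(Subgroup.mem_normalizer_iff.mp hk a).mp ha.1, Subgroup.mem_centralizer_iff.mpr fun r hr => ?_⟩
    have hr' : k⁻¹ * r * k ∈ R := (Subgroup.mem_normalizer_iff.mp hk _).mpr (by simpa [mul_assoc] using hr)
    have h1 : k⁻¹ * r * k * a = a * (k⁻¹ * r * k) := Subgroup.mem_centralizer_iff.mp ha.2 _ hr'
    calc r * (k * a * k⁻¹) = k * (k⁻¹ * r * k * a) * k⁻¹ := by group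
      _ = k * (a * (k⁻¹ * r * k)) * k⁻¹ := by rw [h1]
      _ = _ := by group
  have hMV : ∀ k ∈ M, ∀ a ∈ V, k * a * k⁻¹ ∈ V := by
    intro k hk a ha
    obtain ⟨b, hb, c, hc, rfl⟩ := hVmem a ha
    rw [show k * (b * c) * k⁻¹ = (k * b * k⁻¹) * (k * c * k⁻¹) by group]
    exact V.mul_mem (Subgroup.mem_sup_left (hconjV S k hk.1 b hb)) (Subgroup.mem_sup_right (hconjV Q k hk.2 c hc))
  -- the kernel on one part is trivial on the other
  let _ : CommGroup V := { (inferInstance : Group V) with mul_comm := fun a b => Subtype.ext (habel a a.2 b b.2) }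
  let φ : M →* MulAut V :=
    { toFun := fun k =>
        { toFun := fun a => ⟨(k : G) * a * (k : G)⁻¹, hMV k k.2 a a.2⟩
          invFun := fun a => ⟨(k : G)⁻¹ * a * k, by
            have := hMV _ (M.inv_mem k.2) a a.2
            rwa [inv_inv] at this⟩
          left_inv := fun a => Subtype.ext (show (k : G)⁻¹ * ((k : G) * a * (k : G)⁻¹) * k = a by group)
          right_inv := fun a => Subtype.ext (show (k : G) * ((k : G)⁻¹ * a * k) * (k : G)⁻¹ = a by group)
          map_mul' := fun a b => Subtype.ext (show (k : G) * ((a : G) * b) * (k : G)⁻¹ =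
            (k : G) * a * (k : G)⁻¹ * ((k : G) * b * (k : G)⁻¹) by group) }
      map_one' := MulEquiv.ext fun a => Subtype.ext (show (1 : G) * a * (1 : G)⁻¹ = a by group)
      map_mul' := fun k l => MulEquiv.ext fun a => Subtype.ext
        (show (k : G) * (l : G) * a * ((k : G) * (l : G))⁻¹ = (k : G) * ((l : G) * a * (l : G)⁻¹) * (k : G)⁻¹ by group) }
  have hker : ∀ {r s : ℕ} [Fact r.Prime] [Fact s.Prime], r ∣ m → ∀ (R T : Subgroup G) (a b : G) (gg : G),
      a ∈ R ⊓ Subgroup.centralizer (R : Set G) →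
      (∀ h : G, h ∈ (Cn a) → PEl s h → h ∈ Subgroup.normalizer (T : Set G) → h ∈ T) →
      b ∈ T ⊓ Subgroup.centralizer (T : Set G) → b ∉ Subgroup.center G → PEl s b →
      (∀ h c : G, c ∈ T ⊓ Subgroup.centralizer (T : Set G) → c ∉ Subgroup.center G → Commute h c →
        ∀ c' ∈ T ⊓ Subgroup.centralizer (T : Set G), Commute h c') →
      IsPGroup s T →
      gg ∈ Subgroup.normalizer (R : Set G) → gg ∈ Subgroup.normalizer (T : Set G) → PEl s gg → gg ∉ (Cn b) →
      ∀ h : G, h ∈ Subgroup.normalizer (R : Set G) → h ∈ Subgroup.normalizer (T : Set G) →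
      (∀ a' ∈ R ⊓ Subgroup.centralizer (R : Set G), Commute h a') →
      ∀ b' ∈ T ⊓ Subgroup.centralizer (T : Set G), Commute h b' := by
    intro r s _ hsF _ R T a b gg ha hsyl hb hbZ hbs hfix hT hgR hgT hgs hgb h hhR hhT hh
    set VT := T ⊓ Subgroup.centralizer (T : Set G) with hVT
    let _ : CommGroup VT := { (inferInstance : Group VT) with
      mul_comm := fun a b => Subtype.ext (Subgroup.mem_centralizer_iff.mp b.2.2 a a.2.1) }
    let M' : Subgroup G := Subgroup.normalizer (R : Set G) ⊓ Subgroup.normalizer (T : Set G)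
    let ψ : M' →* MulAut VT :=
      { toFun := fun k =>
          { toFun := fun c => ⟨(k : G) * c * (k : G)⁻¹, hconjV T k k.2.2 c c.2⟩
            invFun := fun c => ⟨(k : G)⁻¹ * c * k, by
              have := hconjV T _ (M'.inv_mem k.2).2 c c.2
              rwa [inv_inv] at this⟩
            left_inv := fun c => Subtype.ext (show (k : G)⁻¹ * ((k : G) * c * (k : G)⁻¹) * k = c by group)
            right_inv := fun c => Subtype.ext (show (k : G) * ((k : G)⁻¹ * c * k) * (k : G)⁻¹ = c by group)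
            map_mul' := fun c d => Subtype.ext (show (k : G) * ((c : G) * d) * (k : G)⁻¹ =
              (k : G) * c * (k : G)⁻¹ * ((k : G) * d * (k : G)⁻¹) by group) }
        map_one' := MulEquiv.ext fun c => Subtype.ext (show (1 : G) * c * (1 : G)⁻¹ = c by group)
        map_mul' := fun k l => MulEquiv.ext fun c => Subtype.ext
          (show (k : G) * (l : G) * c * ((k : G) * (l : G))⁻¹ = (k : G) * ((l : G) * c * (l : G)⁻¹) * (k : G)⁻¹ by group) }
    have hval : ∀ (k : M') (c : VT), ψ.rangeRestrict k • c = c ↔ Commute (k : G) (c : G) := by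
      intro k c
      rw [Subtype.ext_iff]
      show (k : G) * c * (k : G)⁻¹ = c ↔ _
      exact mul_inv_eq_iff_eq_mul
    have hS : Semireg ψ.range ((Subgroup.center G).subgroupOf VT) := by
      refine ⟨?_, ?_⟩
      · rintro ⟨_, k, rfl⟩ z hz
        exact (hval k z).mpr (Subgroup.mem_center_iff.mp (Subgroup.mem_subgroupOf.mp hz) k)
      · rintro ⟨_, k, rfl⟩ hk c hc
        by_contra hcZ
        refine hk (Subtype.ext (MulEquiv.ext fun d => ?_))
        exact congrArg id ((hval k d).mpr (hfix k c c.2 (fun hz => hcZ (Subgroup.mem_subgroupOf.mpr hz))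
          ((hval k c).mp hc) d d.2))
    let K : Subgroup M' := (Subgroup.centralizer ((R ⊓ Subgroup.centralizer (R : Set G) : Subgroup G) : Set G)).subgroupOf M'
    let H' : Subgroup ψ.range := K.map ψ.rangeRestrict
    by_contra hne
    push Not at hne
    obtain ⟨b', hb', hne⟩ := hne
    have hH' : H' ≠ ⊥ := by
      intro hbot
      have hk : (⟨h, hhR, hhT⟩ : M') ∈ K :=
        Subgroup.mem_subgroupOf.mpr (Subgroup.mem_centralizer_iff.mpr fun a' ha' => (hh a' ha').symm.eq)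
      have h1 : ψ.rangeRestrict ⟨h, hhR, hhT⟩ ∈ H' := ⟨_, hk, rfl⟩
      rw [hbot, Subgroup.mem_bot] at h1
      exact hne ((hval ⟨h, hhR, hhT⟩ ⟨b', hb'⟩).mp (by rw [h1, one_smul]))
    have hcop : ¬ s ∣ Nat.card H' := by
      intro hd
      have hd2 : s ∣ Nat.card K := by
        refine hd.trans ?_
        exact Subgroup.card_dvd_of_surjective (ψ.rangeRestrict.subgroupMap K)
          (ψ.rangeRestrict.subgroupMap_surjective K) |>.trans dvd_rfl
      obtain ⟨P⟩ : Nonempty (Sylow s K) := inferInstance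
      have hPt : (P : Subgroup K).map (ψ.rangeRestrict.subgroupMap K) = ⊥ := by
        rw [Subgroup.eq_bot_iff_forall]
        rintro _ ⟨k, hk, rfl⟩
        refine Subtype.ext (Subtype.ext (MulEquiv.ext fun c => ?_))
        have hks : PEl s ((k : M') : G) := by
          obtain ⟨i, hi⟩ := IsPGroup.iff_orderOf.mp P.2 ⟨k, hk⟩
          exact ⟨i, by rw [Subgroup.orderOf_coe, Subgroup.orderOf_coe, ← Subgroup.orderOf_mk _ hk, hi]⟩
        have hkT : ((k : M') : G) ∈ T := hsyl _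
          (mem_cent.mpr (Subgroup.mem_centralizer_iff.mp (Subgroup.mem_subgroupOf.mp k.2) a ha).symm) hks (k : M').2.2
        exact congrArg id ((hval k c).mpr (Subgroup.mem_centralizer_iff.mp c.2.2 _ hkT))
      have := Subgroup.index_map_dvd (P : Subgroup K) (ψ.rangeRestrict.subgroupMap_surjective K)
      rw [hPt, Subgroup.index_bot] at this
      exact P.not_dvd_index (hd.trans this)
    obtain ⟨i, hi⟩ := hgs
    refine false_of_normalizes hS (p := s) (σ := ψ.rangeRestrict ⟨gg, hgR, hgT⟩) ?_ (k := i) ?_ H' hH' hcop ?_ ?_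
    · intro e
      exact hgb (mem_cent.mpr ((hval ⟨gg, hgR, hgT⟩ ⟨b, hb⟩).mp (by rw [e, one_smul])).eq)
    · rw [← map_pow, show (⟨gg, hgR, hgT⟩ : M') ^ s ^ i = 1 from Subtype.ext (hi ▸ pow_orderOf_eq_one gg), map_one]
    · have hKn : K.Normal := by
        refine ⟨fun k hk l => Subgroup.mem_subgroupOf.mpr (Subgroup.mem_centralizer_iff.mpr fun a' ha' => ?_)⟩
        have h1 : (l : G)⁻¹ * a' * (l : G)⁻¹⁻¹ ∈ _ := hconjV R _ (M'.inv_mem l.2).1 a' ha'
        rw [inv_inv] at h1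
        have h2 := Subgroup.mem_centralizer_iff.mp (Subgroup.mem_subgroupOf.mp hk) _ h1
        show a' * ((l : G) * k * (l : G)⁻¹) = (l : G) * k * (l : G)⁻¹ * a'
        calc a' * ((l : G) * k * (l : G)⁻¹) = (l : G) * ((l : G)⁻¹ * a' * l * k) * (l : G)⁻¹ := by group
          _ = (l : G) * (k * ((l : G)⁻¹ * a' * l)) * (l : G)⁻¹ := by rw [h2]
          _ = _ := by group
      have hH'n : H'.Normal := hKn.map _ ψ.rangeRestrict_surjective
      exact fun x => ⟨fun hx => hH'n.conj_mem x hx _, fun hx => by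
        simpa [mul_assoc] using hH'n.conj_mem _ hx (ψ.rangeRestrict ⟨gg, hgR, hgT⟩)⁻¹⟩
    · obtain ⟨i', hi'⟩ := hbs
      exact ⟨⟨b, hb⟩, ⟨i', Subtype.ext (hi' ▸ pow_orderOf_eq_one b)⟩, fun hz => hbZ (Subgroup.mem_subgroupOf.mp hz)⟩
  have hsylQ : ∀ h : G, h ∈ (Cn v) → PEl q h → h ∈ Subgroup.normalizer (Q : Set G) → h ∈ Q := by
    intro h hh ⟨k, hk⟩ hhn
    have hV2 : IsPGroup q (Q ⊔ Subgroup.zpowers h : Subgroup G) := hE.isP.to_sup_of_normal_left'
      (IsPGroup.of_card (n := k) (by rw [Nat.card_zpowers, hk])) (Subgroup.zpowers_le.mpr hhn)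
    have h1 := card_le H hqm hv hV2 (sup_le hQv (Subgroup.zpowers_le.mpr hh))
    rw [← hE.card] at h1
    exact (Subgroup.eq_of_le_of_card_ge (le_sup_left : Q ≤ Q ⊔ Subgroup.zpowers h) h1).ge
      ((le_sup_right : Subgroup.zpowers h ≤ _) (Subgroup.mem_zpowers h))
  have hsylS : ∀ h : G, h ∈ (Cn w) → PEl p h → h ∈ Subgroup.normalizer (S : Set G) → h ∈ S := by
    intro h hh ⟨k, hk⟩ hhn
    have hV2 : IsPGroup p (S ⊔ Subgroup.zpowers h : Subgroup G) := hD.isP.to_sup_of_normal_left'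
      (IsPGroup.of_card (n := k) (by rw [Nat.card_zpowers, hk])) (Subgroup.zpowers_le.mpr hhn)
    have h1 := card_le H hpm hw hV2 (sup_le hSw (Subgroup.zpowers_le.mpr hh))
    rw [← hD.card] at h1
    exact (Subgroup.eq_of_le_of_card_ge (le_sup_left : S ≤ S ⊔ Subgroup.zpowers h) h1).ge
      ((le_sup_right : Subgroup.zpowers h ≤ _) (Subgroup.mem_zpowers h))
  have hkerpq : ∀ h ∈ M, (∀ a ∈ Vp, Commute h a) → ∀ b ∈ Vq, Commute h b := fun h hh =>
    hker (r := p) (s := q) hpm S Q v w g hvVp hsylQ hwVq hw hwq hfixq hE.isP hgS hgQ hgq hgw h hh.1 hh.2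
  have hkerqp : ∀ h ∈ M, (∀ a ∈ Vq, Commute h a) → ∀ b ∈ Vp, Commute h b := fun h hh =>
    hker (r := q) (s := p) hqm Q S w v u hwVq hsylS hvVp hv hvp hfixp hD.isP huQ huS hup huv h hh.2 hh.1
  have hval : ∀ (k : M) (a : V), φ.rangeRestrict k • a = a ↔ Commute (k : G) (a : G) := by
    intro k a
    rw [Subtype.ext_iff]
    show (k : G) * a * (k : G)⁻¹ = a ↔ _
    exact mul_inv_eq_iff_eq_mul
  have hS : Semireg φ.range ((Subgroup.center G).subgroupOf V) := by
    refine ⟨?_, ?_⟩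
    · rintro ⟨_, k, rfl⟩ z hz
      exact (hval k z).mpr (Subgroup.mem_center_iff.mp (Subgroup.mem_subgroupOf.mp hz) k)
    · rintro ⟨_, k, rfl⟩ hk c hc
      by_contra hcZ
      refine hk (Subtype.ext (MulEquiv.ext fun d => congrArg id ((hval k d).mpr ?_)))
      obtain ⟨a, ha, b, hb, hab⟩ := hVmem c c.2
      have hcab : Commute (k : G) (a * b) := hab ▸ (hval k c).mp hc
      have hparts : Commute (k : G) a ∧ Commute (k : G) b := by
        have h1 := (cent_mul (hSQ a ha.1 b hb.1)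
          ((pEl_of_mem hD.isP ha.1).coprime (hcopq b (pEl_of_mem hE.isP hb.1)))).le (mem_cent.mpr hcab.eq)
        exact ⟨mem_cent.mp h1.1, mem_cent.mp h1.2⟩
      have hall : (∀ a' ∈ Vp, Commute (k : G) a') ∧ ∀ b' ∈ Vq, Commute (k : G) b' := by
        by_cases haZ : a ∈ Subgroup.center G
        · have hbZ : b ∉ Subgroup.center G := fun h => hcZ (Subgroup.mem_subgroupOf.mpr (hab ▸ Subgroup.mul_mem _ haZ h))
          have h2 := hfixq k b hb hbZ hparts.2
          exact ⟨hkerqp k k.2 h2, h2⟩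
        · have h2 := hfixp k a ha haZ hparts.1
          exact ⟨h2, hkerpq k k.2 h2⟩
      obtain ⟨a', ha', b', hb', hd⟩ := hVmem d d.2
      exact hd ▸ (hall.1 a' ha').mul_right (hall.2 b' hb')
  obtain ⟨iu, hiu⟩ := hup
  obtain ⟨ig, hig⟩ := hgq
  obtain ⟨iv, hiv⟩ := hvp
  obtain ⟨iw, hiw⟩ := hwq
  refine false_of_two_primes hS hpq
    ⟨⟨v, Subgroup.mem_sup_left hvVp⟩, ⟨iv, Subtype.ext (hiv ▸ pow_orderOf_eq_one v)⟩, fun h => hv (Subgroup.mem_subgroupOf.mp h)⟩
    ⟨⟨w, Subgroup.mem_sup_right hwVq⟩, ⟨iw, Subtype.ext (hiw ▸ pow_orderOf_eq_one w)⟩, fun h => hw (Subgroup.mem_subgroupOf.mp h)⟩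
    (u := φ.rangeRestrict ⟨u, huS, huQ⟩) (g := φ.rangeRestrict ⟨g, hgS, hgQ⟩) ?_ (i := iu) ?_ ?_ (j := ig) ?_
  · intro e
    exact huv (mem_cent.mpr ((hval ⟨u, huS, huQ⟩ ⟨v, Subgroup.mem_sup_left hvVp⟩).mp (by rw [e, one_smul])).eq)
  · rw [← map_pow, show (⟨u, huS, huQ⟩ : M) ^ p ^ iu = 1 from Subtype.ext (hiu ▸ pow_orderOf_eq_one u), map_one]
  · intro e
    exact hgw (mem_cent.mpr ((hval ⟨g, hgS, hgQ⟩ ⟨w, Subgroup.mem_sup_right hwVq⟩).mp (by rw [e, one_smul])).eq)
  · rw [← map_pow, show (⟨g, hgS, hgQ⟩ : M) ^ q ^ ig = 1 from Subtype.ext (hig ▸ pow_orderOf_eq_one g), map_one]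

include H in
/-- `m` is a power of a prime. -/
theorem exists_prime_pow : ∃ p a : ℕ, p.Prime ∧ 0 < a ∧ m = p ^ a := by
  have hm1 : m ≠ 1 := by have := H.hm; omega
  obtain ⟨p₀, hp₀, hpm₀⟩ := Nat.exists_prime_and_dvd hm1
  have := Fact.mk hp₀
  have huniq : ∀ r : ℕ, r.Prime → r ∣ m → r = p₀ := by
    intro r hr hrm
    by_contra hne
    have := Fact.mk hr
    exact false_of_two H (p := r) (q := p₀) hne hrm hpm₀
  have h := Nat.eq_prime_pow_of_unique_prime_dvd (by have := H.hm; omega) fun {d} hd hdm => huniq d hd hdm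
  refine ⟨p₀, m.primeFactorsList.length, hp₀, ?_, h⟩
  rcases Nat.eq_zero_or_pos m.primeFactorsList.length with h0 | h0
  · rw [h0, pow_zero] at h
    exact absurd h hm1
  · exact h0

end Cfsg.Agent.ThreeSizes76
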