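import Mathlib
import Cfsg.Agent.Lib.ThreeSizes76
import Cfsg.Agent.Lib.FrobeniusFPF

/-!
Groups with class sizes `1`, `p ^ a`, `p ^ a * n`: some `p`-element has class size `p ^ a`.
-/

namespace Cfsg.Agent.ThreeSizes76

open Cfsg.Agent.ClassSizeGraph76
open Cfsg.Agent.TwoIndicesNormal76

local notation "Cn" g => Subgroup.centralizer ({g} : Set _)

variable {G : Type*} [Group G] [Finite G] {p : ℕ} [hp : Fact p.Prime]

/-- A non-central element of a normal subgroup of a Sylow subgroup which is central modulo the centre. -/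
theorem exists_c (P : Sylow p G) (Q : Subgroup G) (hQP : Q ≤ (P : Subgroup G))
    (hQn : ∀ π ∈ (P : Subgroup G), ∀ q ∈ Q, π * q * π⁻¹ ∈ Q) (hQZ : ¬ Q ≤ Subgroup.center G) :
    ∃ c ∈ Q, c ∉ Subgroup.center G ∧ c ^ p ∈ Subgroup.center G ∧
      ∀ π ∈ (P : Subgroup G), c⁻¹ * (π * c * π⁻¹) ∈ Subgroup.center G := by
  set f := QuotientGroup.mk' (Subgroup.center G) with hf
  set N := Q.map f with hN
  let _ : MulAction (P : Subgroup G) N :=
    { smul := fun π x => ⟨f π * x * (f π)⁻¹, by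
        obtain ⟨q, hq, hqx⟩ := x.2
        exact ⟨π * q * (π : G)⁻¹, hQn π π.2 q hq, by rw [map_mul, map_mul, map_inv, hqx]⟩⟩
      one_smul := fun x => Subtype.ext (show f (1 : G) * x * (f (1 : G))⁻¹ = x by simp)
      mul_smul := fun a b x => Subtype.ext (show f ((a : G) * b) * x * (f ((a : G) * b))⁻¹ =
        f a * (f b * x * (f b)⁻¹) * (f a)⁻¹ by rw [map_mul]; group) }
  have hNb : N ≠ ⊥ := by
    intro h
    rw [hN, Subgroup.map_eq_bot_iff, QuotientGroup.ker_mk'] at h
    exact hQZ h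
  have hdvd : p ∣ Nat.card N := by
    have : Nontrivial N := (Subgroup.nontrivial_iff_ne_bot N).mpr hNb
    obtain ⟨j, hj⟩ := IsPGroup.iff_card.mp ((P.2.to_le hQP).map f)
    rw [← hN] at hj
    rcases Nat.eq_zero_or_pos j with h0 | h0
    · rw [h0, pow_zero] at hj
      exact absurd hj Finite.one_lt_card.ne'
    · exact hj ▸ dvd_pow_self p h0.ne'
  have hone : (1 : N) ∈ MulAction.fixedPoints (P : Subgroup G) N :=
    fun π => Subtype.ext (show f π * (1 : G ⧸ Subgroup.center G) * (f π)⁻¹ = 1 by group)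
  obtain ⟨x, hxfix, hxne⟩ := P.2.exists_fixed_point_of_prime_dvd_card_of_fixed_point N hdvd hone
  obtain ⟨q, hq, hqx⟩ := x.2
  have hqZ : q ∉ Subgroup.center G := by
    intro h
    refine hxne (Subtype.ext ?_)
    show (1 : G ⧸ Subgroup.center G) = (x : G ⧸ Subgroup.center G)
    rw [← hqx]
    exact ((QuotientGroup.eq_one_iff q).mpr h).symm
  obtain ⟨e, he⟩ := IsPGroup.iff_orderOf.mp P.2 ⟨q, hQP hq⟩
  rw [Subgroup.orderOf_mk] at he
  classical
  have hex : ∃ j : ℕ, q ^ p ^ j ∈ Subgroup.center G := ⟨e, by rw [← he, pow_orderOf_eq_one]; exact Subgroup.one_mem _⟩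
  have hj : Nat.find hex ≠ 0 := fun h0 => hqZ (by have := Nat.find_spec hex; rwa [h0, pow_zero, pow_one] at this)
  obtain ⟨j, hj'⟩ := Nat.exists_eq_succ_of_ne_zero hj
  refine ⟨q ^ p ^ j, Q.pow_mem hq _, Nat.find_min hex (by omega), ?_, fun π hπ => ?_⟩
  · have := Nat.find_spec hex
    rwa [hj', pow_succ, pow_mul] at this
  · rw [← QuotientGroup.eq_one_iff]
    show f _ = 1
    have hfix : f π * f q * (f π)⁻¹ = f q := by
      rw [hqx]
      exact congrArg Subtype.val (hxfix ⟨π, hπ⟩)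
    rw [map_mul, map_mul, map_mul, map_inv, map_inv, map_pow, ← conj_pow, hfix, inv_mul_cancel]

/-- Facts about an element central modulo the centre in a Sylow subgroup. -/
theorem c_facts (P : Sylow p G) {c : G} (hcp : c ^ p ∈ Subgroup.center G)
    (hc : ∀ π ∈ (P : Subgroup G), c⁻¹ * (π * c * π⁻¹) ∈ Subgroup.center G) :
    (∀ π ∈ (P : Subgroup G), ∀ g ∈ (Cn c), π * g * π⁻¹ ∈ (Cn c)) ∧
    (∀ π ∈ (P : Subgroup G), π ^ p ∈ (Cn c)) ∧
    (∀ π ∈ (P : Subgroup G), ∀ π' ∈ (P : Subgroup G), π * π' * π⁻¹ * π'⁻¹ ∈ (Cn c)) := by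
  let δ : (P : Subgroup G) →* Subgroup.center G := MonoidHom.mk' (fun π => ⟨_, hc π π.2⟩) fun a b => by
    refine Subtype.ext ?_
    show c⁻¹ * ((a : G) * b * c * ((a : G) * b)⁻¹) =
      c⁻¹ * ((a : G) * c * (a : G)⁻¹) * (c⁻¹ * ((b : G) * c * (b : G)⁻¹))
    set z := c⁻¹ * ((b : G) * c * (b : G)⁻¹) with hz
    have hzc := Subgroup.mem_center_iff.mp (hc b b.2)
    rw [show (a : G) * b * c * ((a : G) * b)⁻¹ = (a : G) * (c * z) * (a : G)⁻¹ by rw [hz]; group]
    calc c⁻¹ * ((a : G) * (c * z) * (a : G)⁻¹) = c⁻¹ * ((a : G) * c * (z * (a : G)⁻¹)) := by group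
      _ = c⁻¹ * ((a : G) * c * ((a : G)⁻¹ * z)) := by rw [hzc (a : G)⁻¹]
      _ = _ := by group
  have hker : ∀ π : (P : Subgroup G), δ π = 1 → (π : G) ∈ (Cn c) := by
    intro π h
    have h1 : c⁻¹ * ((π : G) * c * (π : G)⁻¹) = 1 := congrArg Subtype.val h
    rw [inv_mul_eq_one, eq_mul_inv_iff_mul_eq] at h1
    exact mem_cent.mpr h1.symm
  refine ⟨fun π hπ g hg => ?_, fun π hπ => ?_, fun π hπ π' hπ' => ?_⟩
  · have hz := hc π hπ
    set z := c⁻¹ * (π * c * π⁻¹) with hz'
    have e : π * c * π⁻¹ = c * z := by rw [hz']; group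
    have h1 : π * g * π⁻¹ * (π * c * π⁻¹) = π * c * π⁻¹ * (π * g * π⁻¹) := by
      calc π * g * π⁻¹ * (π * c * π⁻¹) = π * (g * c) * π⁻¹ := by group
        _ = π * (c * g) * π⁻¹ := by rw [mem_cent.mp hg]
        _ = _ := by group
    rw [e] at h1
    have hzc := Subgroup.mem_center_iff.mp hz (π * g * π⁻¹)
    refine mem_cent.mpr (mul_right_cancel (b := z) ?_)
    calc π * g * π⁻¹ * c * z = c * z * (π * g * π⁻¹) := by rw [mul_assoc, h1]
      _ = c * (π * g * π⁻¹) * z := by rw [mul_assoc c z, ← hzc, ← mul_assoc]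
  · refine hker (⟨π, hπ⟩ ^ p) ?_
    refine Subtype.ext ?_
    rw [map_pow, Subgroup.coe_pow]
    show (c⁻¹ * (π * c * π⁻¹)) ^ p = 1
    have hcomm : Commute c (π * c * π⁻¹) := by
      set z := c⁻¹ * (π * c * π⁻¹) with hz'
      rw [show π * c * π⁻¹ = c * z by rw [hz']; group]
      exact (Commute.refl c).mul_right (Subgroup.mem_center_iff.mp (hc π hπ) c)
    rw [hcomm.inv_left.mul_pow, conj_pow, inv_pow]
    have := Subgroup.mem_center_iff.mp hcp π
    rw [this, mul_inv_cancel_right, inv_mul_cancel]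
  · refine hker (⟨π, hπ⟩ * ⟨π', hπ'⟩ * ⟨π, hπ⟩⁻¹ * ⟨π', hπ'⟩⁻¹) ?_
    have hcm : δ ⟨π, hπ⟩ * δ ⟨π', hπ'⟩ = δ ⟨π', hπ'⟩ * δ ⟨π, hπ⟩ :=
      Subtype.ext (Subgroup.mem_center_iff.mp (δ ⟨π', hπ'⟩).2 (δ ⟨π, hπ⟩ : G))
    rw [map_mul, map_mul, map_mul, map_inv, map_inv, hcm, mul_inv_cancel_right, mul_inv_cancel]

/-- An abelian quotient of exponent `p` acting semiregularly has order `p`. -/
theorem relIndex_eq_prime (P L R : Subgroup G) {t : ℕ} [ht : Fact t.Prime] (hPp : IsPGroup p P) (htp : t ≠ p)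
    (hLc : ∀ a ∈ L, ∀ b ∈ L, a * b = b * a) (hnorm : ∀ π ∈ P, ∀ y ∈ L, π * y * π⁻¹ ∈ L)
    (hker : ∀ π ∈ R, ∀ y ∈ L, Commute π y)
    (hfree : ∀ π ∈ P, ∀ y ∈ L, y ∉ Subgroup.center G → Commute π y → π ∈ R)
    (hcomm : ∀ π ∈ P, ∀ π' ∈ P, π * π' * π⁻¹ * π'⁻¹ ∈ R) (hexp : ∀ π ∈ P, π ^ p ∈ R)
    (y : G) (hyL : y ∈ L) (hy : PEl t y) (hyZ : y ∉ Subgroup.center G)
    (hne : ∃ π ∈ P, π ∉ R) : R.relIndex P = p := by
  let _ : CommGroup L := { (inferInstance : Group L) with mul_comm := fun a b => Subtype.ext (hLc a a.2 b b.2) }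
  let φ : P →* MulAut L :=
    { toFun := fun k =>
        { toFun := fun a => ⟨(k : G) * a * (k : G)⁻¹, hnorm k k.2 a a.2⟩
          invFun := fun a => ⟨(k : G)⁻¹ * a * k, by
            have := hnorm _ (P.inv_mem k.2) a a.2
            rwa [inv_inv] at this⟩
          left_inv := fun a => Subtype.ext (show (k : G)⁻¹ * ((k : G) * a * (k : G)⁻¹) * k = a by group)
          right_inv := fun a => Subtype.ext (show (k : G) * ((k : G)⁻¹ * a * k) * (k : G)⁻¹ = a by group)
          map_mul' := fun a b => Subtype.ext (show (k : G) * ((a : G) * b) * (k : G)⁻¹ =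
            (k : G) * a * (k : G)⁻¹ * ((k : G) * b * (k : G)⁻¹) by group) }
      map_one' := MulEquiv.ext fun a => Subtype.ext (show (1 : G) * a * (1 : G)⁻¹ = a by group)
      map_mul' := fun k l => MulEquiv.ext fun a => Subtype.ext
        (show (k : G) * (l : G) * a * ((k : G) * (l : G))⁻¹ = (k : G) * ((l : G) * a * (l : G)⁻¹) * (k : G)⁻¹ by group) }
  have hval : ∀ (k : P) (a : L), φ.rangeRestrict k • a = a ↔ Commute (k : G) (a : G) := by
    intro k a
    rw [Subtype.ext_iff]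
    show (k : G) * a * (k : G)⁻¹ = a ↔ _
    exact mul_inv_eq_iff_eq_mul
  have hkerφ : φ.ker = R.subgroupOf P := by
    ext k
    rw [MonoidHom.mem_ker, Subgroup.mem_subgroupOf]
    constructor
    · intro h
      refine hfree k k.2 y hyL hyZ ((hval k ⟨y, hyL⟩).mp ?_)
      rw [show φ.rangeRestrict k = 1 from Subtype.ext h, one_smul]
    · intro h
      exact MulEquiv.ext fun a => congrArg id ((hval k a).mpr (hker k h a a.2))
  have hcard : Nat.card φ.range = R.relIndex P := by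
    rw [← Subgroup.index_ker, hkerφ]; rfl
  have hS : Semireg φ.range ((Subgroup.center G).subgroupOf L) := by
    refine ⟨?_, ?_⟩
    · rintro ⟨_, k, rfl⟩ z hz
      exact (hval k z).mpr (Subgroup.mem_center_iff.mp (Subgroup.mem_subgroupOf.mp hz) k)
    · rintro ⟨_, k, rfl⟩ hk a ha
      by_contra haZ
      refine hk (Subtype.ext ?_)
      have : k ∈ φ.ker := by
        rw [hkerφ, Subgroup.mem_subgroupOf]
        exact hfree k k.2 a a.2 (fun h => haZ (Subgroup.mem_subgroupOf.mpr h)) ((hval k a).mp ha)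
      exact this
  have habel : ∀ a b : φ.range, a * b = b * a := by
    rintro ⟨_, k, rfl⟩ ⟨_, l, rfl⟩
    refine Subtype.ext ?_
    show φ k * φ l = φ l * φ k
    have hmem : k * l * k⁻¹ * l⁻¹ ∈ φ.ker := by
      rw [hkerφ, Subgroup.mem_subgroupOf]; exact hcomm k k.2 l l.2
    rw [MonoidHom.mem_ker, map_mul, map_mul, map_mul, map_inv, map_inv, mul_inv_eq_one, mul_inv_eq_iff_eq_mul] at hmem
    exact hmem
  obtain ⟨π₀, hπ₀, hπ₀R⟩ := hne
  have hnt : φ.range ≠ ⊥ := by
    intro h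
    refine hπ₀R (Subgroup.mem_subgroupOf.mp (hkerφ ▸ (?_ : (⟨π₀, hπ₀⟩ : P) ∈ φ.ker)))
    have : φ ⟨π₀, hπ₀⟩ ∈ (⊥ : Subgroup (MulAut L)) := h ▸ ⟨_, rfl⟩
    exact Subgroup.mem_bot.mp this
  have : Nontrivial φ.range := (Subgroup.nontrivial_iff_ne_bot _).mpr hnt
  have hcop : ¬ t ∣ Nat.card (⊤ : Subgroup φ.range) := by
    rw [Subgroup.card_top]
    obtain ⟨j, hj⟩ := IsPGroup.iff_card.mp (hPp.of_surjective φ.rangeRestrict φ.rangeRestrict_surjective)
    intro hd
    exact htp ((Nat.prime_dvd_prime_iff_eq ht.out hp.out).mp (ht.out.dvd_of_dvd_pow (hj ▸ hd)))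
  obtain ⟨i, hi⟩ := hy
  obtain ⟨U, hU, -, hUZ, hUinv⟩ := exists_kernel hS (p := t) ⊤ top_ne_bot hcop
    ⟨⟨y, hyL⟩, ⟨i, Subtype.ext (hi ▸ pow_orderOf_eq_one y)⟩, fun h => hyZ (Subgroup.mem_subgroupOf.mp h)⟩
  have hinv : ∀ w : φ.range, ∀ u ∈ U, w • u ∈ U := fun w => hUinv w fun h => by simp
  let _ : MulDistribMulAction φ.range U :=
    { smul := fun w u => ⟨w • (u : L), hinv w u u.2⟩
      one_smul := fun u => Subtype.ext (one_smul _ (u : L))
      mul_smul := fun a b u => Subtype.ext (mul_smul a b (u : L))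
      smul_mul := fun a u v => Subtype.ext (smul_mul' a (u : L) v)
      smul_one := fun a => Subtype.ext (smul_one a) }
  have hfpf : Cfsg.Agent.FrobeniusFPF.IsFPF φ.range U := by
    intro w hw u hu
    have h1 : w • (u : L) = u := congrArg Subtype.val hu
    have hub : (u : L) ∈ (⊥ : Subgroup L) := hUZ ▸ (⟨u.2, hS.free w hw _ h1⟩ : (u : L) ∈ U ⊓ _)
    exact Subtype.ext (Subgroup.mem_bot.mp hub)
  have : Nontrivial U := (Subgroup.nontrivial_iff_ne_bot U).mpr hU
  obtain ⟨gen, hgen⟩ := (Cfsg.Agent.FrobeniusFPF.isCyclic_of_comm hfpf habel).exists_generator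
  have hord : orderOf gen = Nat.card φ.range := orderOf_eq_card_of_forall_mem_zpowers hgen
  have hpow : gen ^ p = 1 := by
    obtain ⟨_, k, rfl⟩ := gen
    refine Subtype.ext ?_
    show φ k ^ p = 1
    rw [← map_pow]
    show k ^ p ∈ φ.ker
    rw [hkerφ, Subgroup.mem_subgroupOf]
    exact hexp k k.2
  rw [← hcard, ← hord]
  refine (hp.out.eq_one_or_self_of_dvd _ (orderOf_dvd_of_pow_eq_one hpow)).resolve_left fun h => ?_
  rw [hord] at h
  exact absurd h Finite.one_lt_card.ne'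

variable {m n : ℕ} (H : Sizes G m n)

include H in
/-- The orbit of a Sylow subgroup through a class of size `m` is the whole class. -/
theorem exists_conj_in {a : ℕ} (hma : m = p ^ a) (P : Sylow p G) {x : G} (hx : cs x = m)
    (hcard : Nat.card ((P : Subgroup G) ⊓ (Cn x) : Subgroup G) = p ^ eP G m p) :
    ∀ g : G, ∃ π ∈ (P : Subgroup G), g * x * g⁻¹ = π * x * π⁻¹ := by
  intro g
  let f : ↥(P : Subgroup G) → G := fun π => (π : G) * x * (π : G)⁻¹
  have h1 : (Set.range f).ncard = ((Cn x).subgroupOf (P : Subgroup G)).index :=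
    ncard_range_eq_index _ f fun a b => by
      rw [Subgroup.mem_subgroupOf]; exact conj_eq_iff
  have hfac : m.factorization p = a := by rw [hma, hp.out.factorization_pow, Finsupp.single_eq_same]
  have hle : a ≤ (Nat.card G).factorization p := by
    rw [← hp.out.pow_dvd_iff_le_factorization Nat.card_pos.ne', ← hma, ← hx]
    exact Subgroup.index_dvd_card _
  have e1 : Nat.card ((Cn x).subgroupOf (P : Subgroup G)) = p ^ eP G m p := by
    rw [← hcard, ← Subgroup.inf_subgroupOf_left]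
    exact Nat.card_congr (Subgroup.subgroupOfEquivOfLe inf_le_left).toEquiv
  have h2 : p ^ eP G m p * ((Cn x).subgroupOf (P : Subgroup G)).index = p ^ eP G m p * m := by
    rw [← e1, Subgroup.card_mul_index, P.card_eq_multiplicity, e1, hma, ← pow_add, eP, ← hma, hfac, Nat.sub_add_cancel hle]
  have h3 := Nat.eq_of_mul_eq_mul_left (pow_pos hp.out.pos _) h2
  have hsub : Set.range f ⊆ cls x := by
    rintro _ ⟨π, rfl⟩; exact ⟨π, rfl⟩
  have heq := Set.eq_of_subset_of_ncard_le hsub (by rw [h1, h3, ncard_cls, hx])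
  obtain ⟨π, hπ⟩ : g * x * g⁻¹ ∈ Set.range f := heq ▸ ⟨g, rfl⟩
  exact ⟨π, π.2, hπ.symm⟩

omit [Finite G] in
theorem conj_commute {a b : G} (h : Commute a b) (g : G) : Commute (g * a * g⁻¹) (g * b * g⁻¹) := by
  show g * a * g⁻¹ * (g * b * g⁻¹) = g * b * g⁻¹ * (g * a * g⁻¹)
  calc g * a * g⁻¹ * (g * b * g⁻¹) = g * (a * b) * g⁻¹ := by group
    _ = g * (b * a) * g⁻¹ := by rw [h.eq]
    _ = _ := by group

include H in
/-- Some `p`-element has class size `m = p ^ a`. -/
theorem exists_pEl_m {a : ℕ} (ha : 0 < a) (hma : m = p ^ a) : ∃ v : G, PEl p v ∧ cs v = m := by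
  classical
  by_contra hcon
  push Not at hcon
  have hpm : p ∣ m := hma ▸ dvd_pow_self p ha.ne'
  have hmn : ∀ v : G, v ∉ Subgroup.center G → PEl p v → cs v = m * n :=
    fun v hv hvp => (cases2 H hv).resolve_left (hcon v hvp)
  -- a `t`-element of class size `m`
  obtain ⟨x₁, hx₁⟩ := H.hex
  obtain ⟨k, t, i, ht, hord, hxZ⟩ := exists_primePow_notMem (not_mem_center_of_cs H (Or.inl hx₁))
  set x := x₁ ^ k with hx'
  have := Fact.mk ht
  have hx : cs x = m := by
    refine (cases2 H hxZ).resolve_right fun e => ?_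
    have hd : cs x ∣ cs x₁ :=
      Subgroup.index_dvd_of_le fun g hg => mem_cent.mpr (Commute.pow_right (mem_cent.mp hg) k).eq
    rw [hx₁, e] at hd
    have := Nat.le_of_dvd (by have := H.hm; omega) hd
    have := H.hm; have := H.hn
    nlinarith
  have htp : t ≠ p := fun e => hcon x ⟨i, e ▸ hord⟩ hx
  have hxcop : ∀ z : G, PEl t z → Cop p z := by
    rintro z ⟨j, hj⟩
    show Nat.Coprime (orderOf z) p
    rw [hj]
    exact Nat.Coprime.pow_left j ((Nat.coprime_primes ht hp.out).mpr htp)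
  have hxc : Cop p x := hxcop x ⟨i, hord⟩
  obtain ⟨U₀⟩ : Nonempty (Sylow p (Cn x)) := inferInstance
  set U := (U₀ : Subgroup (Cn x)).map (Subgroup.subtype _) with hU
  have hUp : IsPGroup p U := U₀.2.map _
  have hUx : U ≤ (Cn x) := Subgroup.map_subtype_le _
  obtain ⟨P, hUP⟩ := hUp.exists_le_sylow
  have hPU : (P : Subgroup G) ⊓ (Cn x) = U := by
    refine (Subgroup.eq_of_le_of_card_ge (le_inf hUP hUx) ?_).symm
    rw [hU, Subgroup.card_map_of_injective (Subgroup.subtype_injective _), U₀.card_eq_multiplicity,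
      fact_cent H hpm hxZ]
    exact card_le H hpm hxZ (P.2.to_le inf_le_left) inf_le_right
  have hUcard : Nat.card ((P : Subgroup G) ⊓ (Cn x) : Subgroup G) = p ^ eP G m p := by
    rw [hPU, hU, Subgroup.card_map_of_injective (Subgroup.subtype_injective _), U₀.card_eq_multiplicity,
      fact_cent H hpm hxZ]
  have horb := exists_conj_in H hma P hx hUcard
  obtain ⟨v, hvU, hvZ⟩ : ∃ v ∈ U, v ∉ Subgroup.center G := by
    obtain ⟨w, hw, hwZ, hwp⟩ := exists_p_in H hpm hxZ
    obtain ⟨j, hj⟩ := hwp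
    by_contra hall
    push Not at hall
    have hUn : U.Normal := ⟨fun u hu g => by
      rwa [Subgroup.mem_center_iff.mp (hall u hu) g, mul_inv_cancel_right]⟩
    have h1 := card_le H hpm hxZ (IsPGroup.to_sup_of_normal_left hUp
      (IsPGroup.of_card (n := j) (by rw [Nat.card_zpowers, hj]))) (sup_le hUx (Subgroup.zpowers_le.mpr hw))
    rw [← hUcard, hPU] at h1
    exact hwZ (hall w ((Subgroup.eq_of_le_of_card_ge (le_sup_left : U ≤ U ⊔ Subgroup.zpowers w) h1).ge
      ((le_sup_right : Subgroup.zpowers w ≤ _) (Subgroup.mem_zpowers w))))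
  have hvP : v ∈ (P : Subgroup G) := hUP hvU
  have hvx : Commute v x := mem_cent.mp (hUx hvU)
  have hvp := pEl_of_mem P.2 hvP
  obtain ⟨c, hcP, hcZ, hcp, hcc⟩ := exists_c P (P : Subgroup G) le_rfl
    (fun π hπ q hq => (P : Subgroup G).mul_mem ((P : Subgroup G).mul_mem hπ hq) ((P : Subgroup G).inv_mem hπ))
    (fun h => hvZ (h hvP))
  have hcpel := pEl_of_mem P.2 hcP
  have hccs := hmn c hcZ hcpel
  obtain ⟨hnorm, hexp, hcomm⟩ := c_facts P hcp hcc
  obtain ⟨S, A, hD⟩ := exists_dir H hpm hcZ hcpel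
  have hPA : ∀ r ∈ (P : Subgroup G), r ∈ (Cn c) → r ∈ S := fun r hr hrc => hD.smem r hrc (pEl_of_mem P.2 hr)
  have hSP : S ≤ (P : Subgroup G) := by
    have hn : (P : Subgroup G) ≤ Subgroup.normalizer (S : Set G) := by
      intro π hπ
      rw [Subgroup.mem_normalizer_iff]
      intro s
      constructor
      · exact fun hs => hD.smem _ (hnorm π hπ s (hD.sle hs)) ((pEl_of_mem hD.isP hs).conj π)
      · intro hs
        have h := hD.smem _ (hnorm π⁻¹ ((P : Subgroup G).inv_mem hπ) _ (hD.sle hs)) ((pEl_of_mem hD.isP hs).conj π⁻¹)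
        simpa [mul_assoc] using h
    exact le_sup_left.trans (P.3 (hD.isP.to_sup_of_normal_left' P.2 hn) le_sup_right).le
  have hwexists : ∀ {s : ℕ} [Fact s.Prime] (d : G), d ∉ Subgroup.center G → PEl p d → ∀ {e : G}, cs e = m * n →
      ∀ {y : G}, y ∈ (Cn e) → PEl s y → y ∉ Subgroup.center G → ∃ b ∈ (Cn d), b ∉ Subgroup.center G ∧ PEl s b := by
    intro s _ d hd hdp e he y hye hy hyZ
    refine exists_elt_in (le_of_eq ?_) hye hy hyZ fun z hz => mem_cent.mpr (Subgroup.mem_center_iff.mp hz e).symm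
    have h : Nat.card (Cn e) * cs e = Nat.card (Cn d) * cs e := by
      rw [Subgroup.card_mul_index, show cs e = cs d from he.trans (hmn d hd hdp).symm, Subgroup.card_mul_index]
    rw [Nat.eq_of_mul_eq_mul_right (cs_pos e) h]
  by_cases hB : ∃ y, y ∈ (Cn c) ∧ Cop p y ∧ cs y = m
  · -- a class of size `m` inside the centraliser of `c`
    obtain ⟨y, hyc, hycop, hy⟩ := hB
    have hyZ := not_mem_center_of_cs H (Or.inl hy)
    have hcy : Commute c y := (mem_cent.mp hyc : Commute y c).symm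
    have hCy : (Cn c) ≤ (Cn y) := by
      have h1 := cent_mul hcy (hcpel.coprime hycop)
      have h2 := max_eq H hccs (h1.le.trans inf_le_left)
      exact h2.ge.trans (h1.le.trans inf_le_right)
    set R := (P : Subgroup G) ⊓ (Cn y) with hR
    have hSR : S = R := Subgroup.eq_of_le_of_card_ge (le_inf hSP (hD.sle.trans hCy))
      (by rw [hD.card]; exact card_le H hpm hyZ (P.2.to_le inf_le_left) inf_le_right)
    have horby := exists_conj_in H hma P hy (by rw [← hR, ← hSR, hD.card])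
    have hclsC : ∀ g : G, g * y * g⁻¹ ∈ (Cn c) := fun g => by
      obtain ⟨π, hπ, e⟩ := horby g
      rw [e]; exact hnorm π hπ y hyc
    set L := Subgroup.closure (cls y) with hL
    have hLA : L ≤ A := (Subgroup.closure_le _).mpr (by
      rintro _ ⟨g, rfl⟩; exact hD.amem _ (hclsC g) (hycop.conj g))
    have hpair : ∀ u ∈ cls y, ∀ w ∈ cls y, u * w = w * u := by
      rintro _ ⟨g, rfl⟩ _ ⟨g', rfl⟩
      have h1 : Commute (g⁻¹ * g' * y * (g⁻¹ * g')⁻¹) y := mem_cent.mp (hCy (hclsC (g⁻¹ * g')))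
      have h2 := (conj_commute h1 g).symm
      rw [show g * (g⁻¹ * g' * y * (g⁻¹ * g')⁻¹) * g⁻¹ = g' * y * g'⁻¹ by group] at h2
      exact h2.eq
    have hLc : ∀ a ∈ L, ∀ b ∈ L, a * b = b * a := by
      intro a ha b hb
      have h1 : L ≤ Subgroup.centralizer (cls y) :=
        (Subgroup.closure_le _).mpr fun u hu => Subgroup.mem_centralizer_iff.mpr fun w hw => hpair w hw u hu
      have h2 : L ≤ Subgroup.centralizer (L : Set G) := by
        rw [Subgroup.le_centralizer_iff, hL, Subgroup.closure_le]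
        exact fun u hu => Subgroup.mem_centralizer_iff.mpr fun w hw => (Subgroup.mem_centralizer_iff.mp (h1 hw) u hu).symm
      exact (Subgroup.mem_centralizer_iff.mp (h2 ha) b hb).symm
    have hLn : L.Normal := closure_normal fun u hu g => conj_mem_cls g hu
    have hkerL : ∀ π ∈ S, ∀ u ∈ L, Commute π u := fun π hπ u hu => hD.comm π hπ u (hLA hu)
    have hfree : ∀ π ∈ (P : Subgroup G), ∀ u ∈ L, u ∉ Subgroup.center G → Commute π u → π ∈ S := by
      intro π hπ u hu huZ hcu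
      have hle : S ≤ (P : Subgroup G) ⊓ (Cn u) :=
        le_inf hSP fun s hs => mem_cent.mpr (hkerL s hs u hu).eq
      have heq := Subgroup.eq_of_le_of_card_ge hle
        (by rw [hD.card]; exact card_le H hpm huZ (P.2.to_le inf_le_left) inf_le_right)
      exact heq.ge ⟨hπ, mem_cent.mpr hcu.eq⟩
    obtain ⟨k', t', i', ht', hord', hyt⟩ := exists_primePow_notMem hyZ
    have := Fact.mk ht'
    have hyL : y ^ k' ∈ L := Subgroup.pow_mem _ (Subgroup.subset_closure (self_mem_cls y)) k'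
    have ht'p : t' ≠ p := fun e =>
      hyt (by rw [eq_one_of_pEl_cop ⟨i', e ▸ hord'⟩ (hD.acop _ (hLA hyL))]; exact Subgroup.one_mem _)
    have hne : ∃ π ∈ (P : Subgroup G), π ∉ S := by
      by_contra hall
      push Not at hall
      exact not_dvd_index_of_sylow_le P (H := Cn c) (fun π hπ => hD.sle (hall π hπ))
        (show p ∣ cs c from hccs.symm ▸ hpm.mul_right n)
    have hrel := relIndex_eq_prime (P : Subgroup G) L S P.2 ht'p hLc (fun π _ u hu => hLn.conj_mem u hu π) hkerL hfree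
      (fun π hπ π' hπ' => hPA _ ((P : Subgroup G).mul_mem ((P : Subgroup G).mul_mem ((P : Subgroup G).mul_mem hπ hπ')
        ((P : Subgroup G).inv_mem hπ)) ((P : Subgroup G).inv_mem hπ')) (hcomm π hπ π' hπ'))
      (fun π hπ => hPA _ ((P : Subgroup G).pow_mem hπ p) (hexp π hπ))
      (y ^ k') hyL ⟨i', hord'⟩ hyt hne
    have hmp : m = p := by
      have h1 := Subgroup.card_mul_index (S.subgroupOf (P : Subgroup G))
      rw [Nat.card_congr (Subgroup.subgroupOfEquivOfLe hSP).toEquiv, hD.card, P.card_eq_multiplicity] at h1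
      have hfac : m.factorization p = a := by rw [hma, hp.out.factorization_pow, Finsupp.single_eq_same]
      have hle : a ≤ (Nat.card G).factorization p := by
        rw [← hp.out.pow_dvd_iff_le_factorization Nat.card_pos.ne', ← hma, ← hy]
        exact Subgroup.index_dvd_card _
      have h2 : p ^ eP G m p * p = p ^ eP G m p * m := by
        have h3 : (S.subgroupOf (P : Subgroup G)).index = p := hrel
        rw [h3] at h1
        rw [h1, hma, ← pow_add, eP, ← hma, hfac, Nat.sub_add_cancel hle]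
      exact (Nat.eq_of_mul_eq_mul_left (pow_pos hp.out.pos _) h2).symm
    obtain ⟨w, hwP, hwS⟩ := hne
    have hwp := pEl_of_mem P.2 hwP
    have hwy : ¬ Commute w y := fun h => hwS (hfree w hwP y (Subgroup.subset_closure (self_mem_cls y)) hyZ h)
    have hwZ : w ∉ Subgroup.center G := fun h => hwy (Subgroup.mem_center_iff.mp h y).symm
    obtain ⟨b, hbw, hbZ, hbt⟩ := hwexists w hwZ hwp hccs (y := y ^ k') (Subgroup.pow_mem _ hyc k') (⟨i', hord'⟩ : PEl t' _) hyt
    have hbcop : Cop p b := by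
      obtain ⟨j, hj⟩ := hbt
      show Nat.Coprime (orderOf b) p
      rw [hj]
      exact Nat.Coprime.pow_left j ((Nat.coprime_primes ht' hp.out).mpr ht'p)
    have hbw' : Commute b w := mem_cent.mp hbw
    let S' : Subgroup (P : Subgroup G) := S.subgroupOf (P : Subgroup G)
    have hS'n : S'.Normal := ⟨fun s hs π => Subgroup.mem_subgroupOf.mpr
      (hD.smem _ (hnorm π π.2 _ (hD.sle (Subgroup.mem_subgroupOf.mp hs))) ((pEl_of_mem P.2 s.2).conj (π : G)))⟩
    have hgenP : ∀ π ∈ (P : Subgroup G), ∃ i : ℤ, (w ^ i)⁻¹ * π ∈ S := by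
      intro π hπ
      have hc : Nat.card ((P : Subgroup G) ⧸ S') = p := (Subgroup.index_eq_card S').symm.trans hrel
      have hne' : QuotientGroup.mk' S' ⟨w, hwP⟩ ≠ 1 := fun h =>
        hwS (Subgroup.mem_subgroupOf.mp ((QuotientGroup.eq_one_iff (⟨w, hwP⟩ : (P : Subgroup G))).mp h))
      have hmem : QuotientGroup.mk' S' ⟨π, hπ⟩ ∈ Subgroup.zpowers (QuotientGroup.mk' S' ⟨w, hwP⟩) :=
        zpowers_eq_top_of_prime_card hc hne' ▸ Subgroup.mem_top _
      obtain ⟨j, hj⟩ := Subgroup.mem_zpowers_iff.mp hmem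
      rw [← map_zpow] at hj
      refine ⟨j, ?_⟩
      have h1 := QuotientGroup.eq.mp hj
      simpa using Subgroup.mem_subgroupOf.mp h1
    have hclsw : ∀ g : G, ∃ i : ℤ, g * y * g⁻¹ = w ^ i * y * (w ^ i)⁻¹ := by
      intro g
      obtain ⟨π, hπ, e⟩ := horby g
      obtain ⟨i, hi⟩ := hgenP π hπ
      refine ⟨i, e.trans ?_⟩
      have h1 : Commute ((w ^ i)⁻¹ * π) y := hkerL _ hi y (Subgroup.subset_closure (self_mem_cls y))
      calc π * y * π⁻¹ = w ^ i * (((w ^ i)⁻¹ * π) * y * ((w ^ i)⁻¹ * π)⁻¹) * (w ^ i)⁻¹ := by group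
        _ = _ := by rw [h1.eq, mul_inv_cancel_right]
    have hby : Commute b y := by
      obtain ⟨i, hi⟩ := hclsw b
      have hiter : ∀ l : ℕ, b ^ l * y * (b ^ l)⁻¹ = (w ^ i) ^ l * y * ((w ^ i) ^ l)⁻¹ := by
        intro l
        induction l with
        | zero => simp
        | succ l ih =>
          have hc' : Commute b ((w ^ i) ^ l) := (hbw'.zpow_right i).pow_right l
          calc b ^ (l + 1) * y * (b ^ (l + 1))⁻¹ = b * (b ^ l * y * (b ^ l)⁻¹) * b⁻¹ := by rw [pow_succ']; group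
            _ = (b * (w ^ i) ^ l) * y * ((b * (w ^ i) ^ l))⁻¹ := by rw [ih]; group
            _ = (w ^ i) ^ l * (b * y * b⁻¹) * ((w ^ i) ^ l)⁻¹ := by rw [hc'.eq]; group
            _ = _ := by rw [hi, pow_succ]; group
      have hwi : w ^ i ∈ (P : Subgroup G) := (P : Subgroup G).zpow_mem hwP i
      have h1 : (w ^ i) ^ orderOf b ∈ S := by
        refine hfree _ ((P : Subgroup G).pow_mem hwi _) y (Subgroup.subset_closure (self_mem_cls y)) hyZ ?_
        have h := hiter (orderOf b)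
        rw [pow_orderOf_eq_one] at h
        exact mul_inv_eq_iff_eq_mul.mp (by simpa using h.symm)
      have h2 : (w ^ i) ^ p ∈ S := hPA _ ((P : Subgroup G).pow_mem hwi p) (hexp _ hwi)
      have h3 : (w ^ i) ∈ S := by
        have g1 : (QuotientGroup.mk' S' ⟨w ^ i, hwi⟩) ^ orderOf b = 1 := by
          rw [← map_pow]
          exact (QuotientGroup.eq_one_iff _).mpr (Subgroup.mem_subgroupOf.mpr h1)
        have g2 : (QuotientGroup.mk' S' ⟨w ^ i, hwi⟩) ^ p = 1 := by
          rw [← map_pow]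
          exact (QuotientGroup.eq_one_iff _).mpr (Subgroup.mem_subgroupOf.mpr h2)
        have := pow_gcd_eq_one.mpr ⟨g1, g2⟩
        rw [hbcop, pow_one] at this
        exact Subgroup.mem_subgroupOf.mp ((QuotientGroup.eq_one_iff _).mp this)
      have h4 := hkerL _ h3 y (Subgroup.subset_closure (self_mem_cls y))
      rw [h4.eq, mul_inv_cancel_right, mul_inv_eq_iff_eq_mul] at hi
      exact hi
    have hbcls : ∀ g : G, Commute b (g * y * g⁻¹) := by
      intro g
      obtain ⟨i, hi⟩ := hclsw g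
      rw [hi]
      exact ((hbw'.zpow_right i).mul_right hby).mul_right (hbw'.zpow_right i).inv_right
    have hbm : cs b = m := by
      refine (cases2 H hbZ).resolve_right fun e => hwy ?_
      have h1 := cent_mul hbw'.symm (hwp.coprime hbcop)
      have h2 := max_eq H (hmn w hwZ hwp) (h1.le.trans inf_le_left)
      have h3 := max_eq H e (h1.le.trans inf_le_right)
      exact (mem_cent.mp ((h3.symm.trans h2).le (mem_cent.mpr hby.symm.eq) : y ∈ (Cn w)) : Commute y w).symm
    -- orbits of the Sylow subgroup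
    have hPcard : Nat.card (P : Subgroup G) = p ^ eP G m p * p := by
      have h0 : S'.index = p := hrel
      have h := Subgroup.card_mul_index S'
      rw [h0, Nat.card_congr (Subgroup.subgroupOfEquivOfLe hSP).toEquiv, hD.card] at h
      exact h.symm
    let B' : Subgroup (P : Subgroup G) := (Cn b).subgroupOf (P : Subgroup G)
    have hB'card : Nat.card B' ≤ p ^ eP G m p := by
      rw [Nat.card_congr ((Subgroup.subgroupOfEquivOfLe
        (inf_le_left : (P : Subgroup G) ⊓ (Cn b) ≤ P)).symm.trans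
          (MulEquiv.subgroupCongr (Subgroup.inf_subgroupOf_left _ _))).symm.toEquiv]
      exact card_le H hpm hbZ (P.2.to_le inf_le_left) inf_le_right
    have hB'idx : B'.index = p := by
      let f : ↥(P : Subgroup G) → G := fun π => (π : G) * b * (π : G)⁻¹
      have h1 : (Set.range f).ncard = B'.index :=
        ncard_range_eq_index _ f fun u u' => by rw [Subgroup.mem_subgroupOf]; exact conj_eq_iff
      have h2 : B'.index ≤ p := by
        have hc' : (cls b).ncard = p := by rw [ncard_cls, hbm, hmp]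
        rw [← h1]
        exact (Set.ncard_le_ncard (by rintro _ ⟨π, rfl⟩; exact ⟨π, rfl⟩)).trans hc'.le
      refine le_antisymm h2 ?_
      have h3 := Subgroup.card_mul_index B'
      rw [hPcard] at h3
      by_contra hlt
      push Not at hlt
      have := Nat.mul_le_mul_right B'.index hB'card
      have := (Nat.mul_lt_mul_left (pow_pos hp.out.pos (eP G m p))).mpr hlt
      omega
    have hB'n : B'.Normal := by
      refine Subgroup.normal_of_index_eq_minFac_card ?_
      rw [hB'idx, hPcard, ← pow_succ, hp.out.pow_minFac (Nat.succ_ne_zero _)]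
    have hwconj : ∀ π ∈ (P : Subgroup G), Commute w (π * b * π⁻¹) := by
      intro π hπ
      have hwB : (⟨w, hwP⟩ : (P : Subgroup G)) ∈ B' := Subgroup.mem_subgroupOf.mpr (mem_cent.mpr hbw'.symm.eq)
      have h1 := Subgroup.mem_subgroupOf.mp (hB'n.conj_mem _ hwB ⟨π, hπ⟩⁻¹)
      have h2 := conj_commute (show Commute _ b from mem_cent.mp h1) π
      simpa [mul_assoc] using h2
    -- the stabiliser of `y * b`
    have hstab : ∀ π : (P : Subgroup G), (π : G) * (y * b) * (π : G)⁻¹ = y * b ↔ π ∈ S' ⊓ B' := by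
      intro π
      rw [Subgroup.mem_inf, Subgroup.mem_subgroupOf, Subgroup.mem_subgroupOf]
      constructor
      · intro h
        set e : G := (π : G)
        set τ := y⁻¹ * (e * y * e⁻¹) with hτ
        have hτ' : τ = b * (e * b * e⁻¹)⁻¹ := by
          rw [hτ, inv_mul_eq_iff_eq_mul, ← mul_assoc, ← h]; group
        have hτL : τ ∈ L := L.mul_mem (L.inv_mem (Subgroup.subset_closure (self_mem_cls y)))
          (Subgroup.subset_closure ⟨e, rfl⟩)
        have hwτ : Commute w τ := hτ' ▸ hbw'.symm.mul_right (hwconj e π.2).inv_right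
        have hτZ : τ ∈ Subgroup.center G := by
          by_contra hne2
          exact hwS (hfree w hwP τ hτL hne2 hwτ)
        have hey : e * y * e⁻¹ = y * τ := by rw [hτ]; group
        have hpow : ∀ l : ℕ, e ^ l * y * (e ^ l)⁻¹ = y * τ ^ l := by
          intro l
          induction l with
          | zero => simp
          | succ l ih =>
            calc e ^ (l + 1) * y * (e ^ (l + 1))⁻¹ = e * (e ^ l * y * (e ^ l)⁻¹) * e⁻¹ := by rw [pow_succ']; group
              _ = (e * y * e⁻¹) * (e * τ ^ l * e⁻¹) := by rw [ih]; group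
              _ = y * τ * τ ^ l := by
                rw [Subgroup.mem_center_iff.mp (Subgroup.pow_mem _ hτZ l) e, mul_inv_cancel_right, hey]
              _ = _ := by rw [pow_succ', mul_assoc]
        have hep : τ ^ p = 1 := by
          have h1 := hpow p
          rw [(hkerL _ (hPA _ ((P : Subgroup G).pow_mem π.2 p) (hexp _ π.2)) y
            (Subgroup.subset_closure (self_mem_cls y))).eq, mul_inv_cancel_right] at h1
          exact mul_eq_left.mp h1.symm
        have hτ1 : τ = 1 := by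
          obtain ⟨j, -, hj⟩ := (Nat.dvd_prime_pow hp.out).mp
            ((orderOf_dvd_of_pow_eq_one hep).trans (dvd_of_eq (pow_one p).symm))
          exact eq_one_of_pEl_cop ⟨j, hj⟩ (hD.acop _ (hLA hτL))
        have hcy' : Commute e y := mul_inv_eq_iff_eq_mul.mp (by rw [hey, hτ1, mul_one])
        refine ⟨hfree e π.2 y (Subgroup.subset_closure (self_mem_cls y)) hyZ hcy', mem_cent.mpr ?_⟩
        rw [hτ1, eq_comm, mul_inv_eq_one] at hτ'
        exact mul_inv_eq_iff_eq_mul.mp hτ'.symm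
      · rintro ⟨h1, h2⟩
        rw [((hkerL _ h1 y (Subgroup.subset_closure (self_mem_cls y))).mul_right
          (show Commute (π : G) b from mem_cent.mp h2)).eq, mul_inv_cancel_right]
    let f : ↥(P : Subgroup G) → G := fun π => (π : G) * (y * b) * (π : G)⁻¹
    have horbn : (Set.range f).ncard = (S' ⊓ B').index :=
      ncard_range_eq_index _ f fun u u' => by
        rw [← hstab]
        show (u : G) * (y * b) * (u : G)⁻¹ = (u' : G) * (y * b) * (u' : G)⁻¹ ↔ _
        rw [conj_eq_iff, mem_cent, Subgroup.coe_mul, Subgroup.coe_inv, mul_inv_eq_iff_eq_mul]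
    have hbig : p * p ≤ (S' ⊓ B').index := by
      rw [← Subgroup.relIndex_mul_index (inf_le_right : S' ⊓ B' ≤ B'), hB'idx, Subgroup.inf_relIndex_right]
      refine Nat.mul_le_mul_right p ?_
      have hne1 : S'.relIndex B' ≠ 1 := fun h => hwS (Subgroup.mem_subgroupOf.mp
        (Subgroup.relIndex_eq_one.mp h (Subgroup.mem_subgroupOf.mpr (mem_cent.mpr hbw'.symm.eq) : (⟨w, hwP⟩ : (P : Subgroup G)) ∈ B')))
      have hd : S'.relIndex B' ∣ p := by
        have := relIndex_dvd_index S' B'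
        rwa [show S'.index = p from hrel] at this
      rw [(hp.out.eq_one_or_self_of_dvd _ hd).resolve_left hne1]
    have hsmall : (Set.range f).ncard ≤ cs (y * b) := by
      rw [← ncard_cls]
      exact Set.ncard_le_ncard (by rintro _ ⟨π, rfl⟩; exact ⟨π, rfl⟩)
    have hup : cs (y * b) ≤ p * p := by
      refine le_trans (Nat.le_of_dvd (Nat.pos_of_ne_zero Subgroup.index_ne_zero_of_finite)
        (Subgroup.index_dvd_of_le (H := (Cn y) ⊓ (Cn b)) (K := (Cn (y * b))) fun g hg =>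
          mem_cent.mpr ((show Commute g y from mem_cent.mp hg.1).mul_right (mem_cent.mp hg.2)).eq))
        (Subgroup.index_inf_le.trans (le_of_eq ?_))
      rw [show (Cn y).index = p from hy.trans hmp, show (Cn b).index = p from hbm.trans hmp]
    have hp2 := hp.out.two_le
    have hppn : p * p ≠ p * n := fun h => hp.out.ne_one
      (Nat.eq_one_of_dvd_coprimes H.hcop hpm (Nat.eq_of_mul_eq_mul_left hp.out.pos h ▸ dvd_rfl))
    have htot : cs (y * b) = p * p := le_antisymm hup (hbig.trans (horbn ▸ hsmall))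
    have hpp : 2 * p ≤ p * p := Nat.mul_le_mul_right p hp2
    rcases H.hset (y * b) with h | h | h
    · omega
    · rw [hmp] at h; omega
    · rw [hmp] at h; omega
  · push Not at hB
    have hxC : x ∉ (Cn c) := fun h => hB x h hxc hx
    have hsame : ∀ d ∈ (Cn c), Cop p d → d ∉ Subgroup.center G → (Cn d) = (Cn c) := by
      intro d hd hdc hdZ
      have h1 := cent_mul (show Commute c d from (mem_cent.mp hd : Commute d c).symm) (hcpel.coprime hdc)
      have h2 := max_eq H hccs (h1.le.trans inf_le_left)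
      have h3 := max_eq H ((cases2 H hdZ).resolve_left (hB d hd hdc)) (h1.le.trans inf_le_right)
      exact h3.symm.trans h2
    obtain ⟨b, hbc, hbZ, hbt⟩ := hwexists c hcZ hcpel (hmn v hvZ hvp) (y := x)
      (mem_cent.mpr hvx.symm.eq) (⟨i, hord⟩ : PEl t x) hxZ
    have hbcop : Cop p b := hxcop b hbt
    have hbA : b ∈ A := hD.amem b hbc hbcop
    set β := v * b * v⁻¹ * b⁻¹ with hβ
    have hβA : β ∈ A := A.mul_mem (hD.amem _ (hnorm v hvP b hbc) (hbcop.conj v)) (A.inv_mem hbA)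
    have hxnc : ∀ r : G, r ∈ (Cn c) → PEl p r → r ∉ Subgroup.center G → ¬ Commute r x := fun r hr hrp hrZ h =>
      hxC (cop_mem_of_commute H hpm hrZ hrp hcpel (mem_cent.mp hr) (mem_cent.mpr h.symm.eq) hxc)
    have hβZ : β ∉ Subgroup.center G := by
      intro hz
      obtain ⟨j, hj⟩ := hvp
      have hpow : ∀ l : ℕ, v ^ l * b * (v ^ l)⁻¹ = β ^ l * b := by
        intro l
        induction l with
        | zero => simp
        | succ l ih =>
          calc v ^ (l + 1) * b * (v ^ (l + 1))⁻¹ = v * (v ^ l * b * (v ^ l)⁻¹) * v⁻¹ := by rw [pow_succ']; group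
            _ = (v * β ^ l * v⁻¹) * (v * b * v⁻¹ * b⁻¹) * b := by rw [ih]; group
            _ = β ^ l * β * b := by
              rw [Subgroup.mem_center_iff.mp (Subgroup.pow_mem _ hz l) v, mul_inv_cancel_right]
            _ = _ := by rw [pow_succ]
      have h1 := hpow (p ^ j)
      rw [← hj, pow_orderOf_eq_one, hj] at h1
      have h2 : β ^ p ^ j = 1 := by
        rw [one_mul, inv_one, mul_one] at h1
        exact mul_eq_right.mp h1.symm
      obtain ⟨l, -, hl⟩ := (Nat.dvd_prime_pow hp.out).mp (orderOf_dvd_of_pow_eq_one h2)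
      have h3 := eq_one_of_pEl_cop ⟨l, hl⟩ (hD.acop _ hβA)
      rw [hβ, mul_inv_eq_one, mul_inv_eq_iff_eq_mul] at h3
      exact hxnc v ((hsame b hbc hbcop hbZ).le (mem_cent.mpr h3)) ⟨j, hj⟩ hvZ hvx
    have hvorb : ∀ π ∈ (P : Subgroup G), ∀ e ∈ (P : Subgroup G), Commute e x →
        ∃ ρ ∈ S, e * (π * x * π⁻¹) * e⁻¹ = ρ * (π * x * π⁻¹) * ρ⁻¹ := by
      intro π hπ e he hex
      refine ⟨e * π * e⁻¹ * π⁻¹, hPA _ ((P : Subgroup G).mul_mem ((P : Subgroup G).mul_mem ((P : Subgroup G).mul_mem he hπ)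
        ((P : Subgroup G).inv_mem he)) ((P : Subgroup G).inv_mem hπ)) (hcomm e he π hπ), ?_⟩
      calc e * (π * x * π⁻¹) * e⁻¹ = e * π * x * (π⁻¹ * e⁻¹) := by group
        _ = e * π * (e⁻¹ * (e * x)) * (π⁻¹ * e⁻¹) := by group
        _ = e * π * (e⁻¹ * (x * e)) * (π⁻¹ * e⁻¹) := by rw [hex.eq]
        _ = _ := by group
    obtain ⟨π₁, hπ₁, e1⟩ := horb b⁻¹
    obtain ⟨ρ₁, hρ₁, e2⟩ := hvorb π₁ hπ₁ v⁻¹ ((P : Subgroup G).inv_mem hvP) hvx.inv_left
    obtain ⟨ρ₂, hρ₂, e3⟩ := hvorb ρ₁ (hSP hρ₁) v hvP hvx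
    have hbρ : Commute b ρ₁ := (hD.comm ρ₁ hρ₁ b hbA).symm
    set ρ := ρ₂ * ρ₁ with hρ
    have hβx : β * x * β⁻¹ = ρ * x * ρ⁻¹ := by
      calc β * x * β⁻¹ = v * (b * (v⁻¹ * (b⁻¹ * x * b⁻¹⁻¹) * v⁻¹⁻¹) * b⁻¹) * v⁻¹ := by rw [hβ]; group
        _ = v * (b * (ρ₁ * (π₁ * x * π₁⁻¹) * ρ₁⁻¹) * b⁻¹) * v⁻¹ := by rw [e1, e2]
        _ = v * (b * (ρ₁ * (b⁻¹ * x * b⁻¹⁻¹) * ρ₁⁻¹) * b⁻¹) * v⁻¹ := by rw [e1]
        _ = v * ((b * ρ₁) * b⁻¹ * x * (b * ρ₁⁻¹ * b⁻¹)) * v⁻¹ := by group
        _ = v * (ρ₁ * x * ρ₁⁻¹) * v⁻¹ := by rw [hbρ.eq, hbρ.inv_right.eq]; group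
        _ = _ := by rw [e3, hρ]; group
    have hρS : ρ ∈ S := S.mul_mem hρ₂ hρ₁
    have hρβ : Commute β ρ := (hD.comm ρ hρS β hβA).symm
    have hiter : ∀ l : ℕ, β ^ l * x * (β ^ l)⁻¹ = ρ ^ l * x * (ρ ^ l)⁻¹ := by
      intro l
      induction l with
      | zero => simp
      | succ l ih =>
        calc β ^ (l + 1) * x * (β ^ (l + 1))⁻¹ = β * (β ^ l * x * (β ^ l)⁻¹) * β⁻¹ := by rw [pow_succ']; group
          _ = (β * ρ ^ l) * x * (β * ρ ^ l)⁻¹ := by rw [ih]; group
          _ = ρ ^ l * (β * x * β⁻¹) * (ρ ^ l)⁻¹ := by rw [(hρβ.pow_right l).eq]; group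
          _ = _ := by rw [hβx, pow_succ]; group
    have h1 : ρ ^ orderOf β ∈ Subgroup.center G := by
      by_contra hne2
      refine hxnc _ (hD.sle (S.pow_mem hρS _)) (pEl_of_mem hD.isP (S.pow_mem hρS _)) hne2 ?_
      have h := hiter (orderOf β)
      rw [pow_orderOf_eq_one] at h
      exact mul_inv_eq_iff_eq_mul.mp (by simpa using h.symm)
    have hρZ : ρ ∈ Subgroup.center G := by
      obtain ⟨j, hj⟩ := pEl_of_mem hD.isP hρS
      have h2 := pow_gcd_eq_one.mpr ⟨(QuotientGroup.eq_one_iff (ρ ^ orderOf β)).mpr h1,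
        show ((ρ : G ⧸ Subgroup.center G)) ^ p ^ j = 1 by rw [← QuotientGroup.mk_pow, ← hj, pow_orderOf_eq_one]; rfl⟩
      rw [Nat.Coprime.pow_right j (hD.acop _ hβA), pow_one] at h2
      exact (QuotientGroup.eq_one_iff ρ).mp h2
    rw [← Subgroup.mem_center_iff.mp hρZ x, mul_inv_cancel_right, mul_inv_eq_iff_eq_mul] at hβx
    exact hxC ((hsame β (hD.ale hβA) (hD.acop _ hβA) hβZ).le (mem_cent.mpr hβx.symm))

end Cfsg.Agent.ThreeSizes76
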