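import Cfsg.Agent.Lib.CosetCertThreeTrans
import Cfsg.Prelude.Def_KGroupFacts

/-!
Automorphisms of a presented group generated by a class of transpositions that is the point set
of its coset table: a bound from candidate counts, and tools to recognise a transposition.
-/

set_option autoImplicit false

namespace Cfsg.Agent.ThreeTransAut41

open Cfsg.Agent.CosetCertCore Cfsg.Agent.CosetCertTable Cfsg.Agent.CosetCertPres
open Cfsg.Agent.CosetCertOrder Cfsg.Agent.CosetCertRestrict Cfsg.Agent.CosetCertThreeTrans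

/-- Substitute words for symbols. -/
def ex (S : List (List Nat)) (M : List Nat) : List Nat := M.flatMap fun k => S.getD k []

/-- The word of the transposition at the end of a path from a root. -/
def dw (R : Nat) (path : List Nat) : List Nat := path.reverse ++ [R] ++ path

/-- The transpositions attached to the points, and the points of the generators. -/
structure Data {P : Pres} {S : List Wx} {C : Cert} {M : Nat} {D : Table}
    (h : Enumerated P S C M D) (d : Fin D.N → P.Grp) (E : Nat → Fin D.N) : Prop where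
  conj : ∀ g i, d (rho h g i) = g * d i * g⁻¹
  inj : Function.Injective d
  faithful : Function.Injective (rho h)
  base : ∀ x < D.NG, d (E x) = P.gg x

/-- Pattern of a point against some points, as kept by automorphic images. -/
noncomputable def patOk (D : Table) (R eR exi : Nat) (l : List (Nat × List Nat)) (p : Nat) : Bool :=
  l.all fun yq => (!Nat.beq p (D.run yq.2 eR)) &&
    (Nat.beq (D.run (dw R yq.2) p) p == Nat.beq (D.img yq.1 exi) exi)

section

variable {P : Pres} {S : List Wx} {C : Cert} {M : Nat} {D : Table}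
  (h : Enumerated P S C M D)
include h

theorem sq (x : Nat) : P.gg x * P.gg x = 1 := gg_sq h.good x

theorem exists_map {z : P.Grp} (hC : Subgroup.centralizer ({z} : Set P.Grp) = P.sub S) :
    ∃ d : Fin D.N → P.Grp, (∀ g i, d (rho h g i) = g * d i * g⁻¹) ∧ Function.Injective d ∧
      d ⟨0, h.table.npos⟩ = z := by
  obtain ⟨φ, h0, hφ⟩ := exists_coset_equiv h
  refine ⟨fun i => Quotient.out (φ i) * z * (Quotient.out (φ i))⁻¹, fun g i => ?_, fun i j hij => ?_, ?_⟩
  · have hq : ((Quotient.out (φ (rho h g i)) : P.Grp) : P.Grp ⧸ P.sub S) =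
        ((g * Quotient.out (φ i) : P.Grp) : P.Grp ⧸ P.sub S) := by
      rw [QuotientGroup.out_eq', hφ]
      conv_lhs => rw [← QuotientGroup.out_eq' (φ i)]
      rfl
    show Quotient.out (φ (rho h g i)) * z * (Quotient.out (φ (rho h g i)))⁻¹ = g * (Quotient.out (φ i) * z * (Quotient.out (φ i))⁻¹) * g⁻¹
    rw [conj_eq_of_coset hC hq]
    group
  · apply φ.injective
    rw [← QuotientGroup.out_eq' (φ i), ← QuotientGroup.out_eq' (φ j), QuotientGroup.eq, mem_iff hC]
    simp only at hij
    calc (Quotient.out (φ i))⁻¹ * Quotient.out (φ j) * z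
        = (Quotient.out (φ i))⁻¹ * (Quotient.out (φ j) * z * (Quotient.out (φ j))⁻¹) * Quotient.out (φ j) := by group
      _ = (Quotient.out (φ i))⁻¹ * (Quotient.out (φ i) * z * (Quotient.out (φ i))⁻¹) * Quotient.out (φ j) := by rw [hij]
      _ = z * ((Quotient.out (φ i))⁻¹ * Quotient.out (φ j)) := by group
  · have hq : ((Quotient.out (φ ⟨0, h.table.npos⟩) : P.Grp) : P.Grp ⧸ P.sub S) =
        ((1 : P.Grp) : P.Grp ⧸ P.sub S) := (QuotientGroup.out_eq' _).trans h0
    show Quotient.out (φ ⟨0, h.table.npos⟩) * z * (Quotient.out (φ ⟨0, h.table.npos⟩))⁻¹ = z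
    rw [conj_eq_of_coset hC hq, one_mul, inv_one, mul_one]

theorem inv_run {w : List Nat} (hw : ∀ x ∈ w, x < D.NG) (i : Fin D.N) :
    (((rho h (val P.gg w))⁻¹ i : Fin D.N) : Nat) = D.run w i :=
  rho_val_apply h hw i

theorem apply_of_run {w : List Nat} (hw : ∀ x ∈ w, x < D.NG) {i j : Fin D.N}
    (hr : D.run w i = (j : Nat)) : rho h (val P.gg w) j = i := by
  have hj : (rho h (val P.gg w))⁻¹ i = j := Fin.ext ((inv_run h hw i).trans hr)
  exact (Equiv.Perm.inv_eq_iff_eq.mp hj).symm

theorem exists_move (i j : Fin D.N) : ∃ k : P.Grp, rho h k i = j := by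
  obtain ⟨φ, -, hφ⟩ := exists_coset_equiv h
  obtain ⟨a, ha⟩ := QuotientGroup.mk_surjective (φ j)
  obtain ⟨b, hb⟩ := QuotientGroup.mk_surjective (φ i)
  refine ⟨a * b⁻¹, φ.injective ?_⟩
  rw [hφ, ← hb, ← ha]
  show ((((a * b⁻¹) * b) : P.Grp) : P.Grp ⧸ P.sub S) = _
  rw [inv_mul_cancel_right]

theorem img_eq {x : Nat} (hx : x < D.NG) (i : Fin D.N) :
    ((rho h (P.gg x) i : Fin D.N) : Nat) = D.img x i := by
  rw [rho_gg h x hx, perm_apply h.table hx]

theorem run_add (a b : List Nat) (i : Nat) : D.run (a ++ b) i = D.run b (D.run a i) := by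
  induction a generalizing i with
  | nil => rfl
  | cons x a ih => rw [List.cons_append, Table.run_cons, Table.run_cons, ih]

theorem run_lt {w : List Nat} (hw : ∀ x ∈ w, x < D.NG) {i : Nat} (hi : i < D.N) : D.run w i < D.N := by
  have := inv_run h hw ⟨i, hi⟩
  rw [← this]
  exact Fin.isLt _

variable {d : Fin D.N → P.Grp} {E : Nat → Fin D.N} (hd : Data h d E)
include hd

theorem fix_iff (g : P.Grp) (i : Fin D.N) : rho h g i = i ↔ g * d i = d i * g := by
  rw [← hd.inj.eq_iff (b := i), hd.conj, mul_inv_eq_iff_eq_mul]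

/-- An element fixing the points of all generators is trivial. -/
theorem eq_one (g : P.Grp) (hg : ∀ x < D.NG, rho h g (E x) = E x) : g = 1 := by
  have hc : ∀ k : P.Grp, g * k = k * g := by
    intro k
    have hk : k ∈ Subgroup.centralizer ({g} : Set P.Grp) := by
      have htop : (⊤ : Subgroup P.Grp) ≤ Subgroup.centralizer ({g} : Set P.Grp) := by
        rw [← closure_gg h.good, Subgroup.closure_le]
        rintro _ ⟨x, hx, rfl⟩
        rw [← h.ng] at hx
        rw [SetLike.mem_coe, Subgroup.mem_centralizer_singleton_iff, ← hd.base x hx]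
        exact ((fix_iff h hd g _).mp (hg x hx)).symm
      exact htop (Subgroup.mem_top k)
    exact (Subgroup.mem_centralizer_singleton_iff.mp hk).symm
  apply hd.faithful
  rw [map_one]
  refine Equiv.ext fun i => ?_
  obtain ⟨φ, h0, hφ⟩ := exists_coset_equiv h
  obtain ⟨k, hk⟩ := QuotientGroup.mk_surjective (φ i)
  obtain ⟨k₀, hk₀⟩ := QuotientGroup.mk_surjective (φ (E 0))
  have hi : rho h (k * k₀⁻¹) (E 0) = i := by
    apply φ.injective
    rw [hφ, ← hk₀, ← hk]
    show (((k * k₀⁻¹) * k₀ : P.Grp) : P.Grp ⧸ P.sub S) = _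
    rw [inv_mul_cancel_right]
  rw [Equiv.Perm.one_apply, ← hi, ← Equiv.Perm.mul_apply, ← map_mul, hc, map_mul,
    Equiv.Perm.mul_apply, hg 0 h.table.gpos]

/-- A word fixing the points of all generators is trivial. -/
theorem val_eq_one {w : List Nat} (hw : ∀ x ∈ w, x < D.NG)
    (hc : ∀ x < D.NG, D.run w (E x) = (E x : Nat)) : val P.gg w = 1 :=
  eq_one h hd _ fun x hx => apply_of_run h hw (hc x hx)

theorem d_word {R : Nat} (hR : R < D.NG) {path : List Nat} (hp : ∀ x ∈ path, x < D.NG) {p : Fin D.N}
    (hr : D.run path (E R) = (p : Nat)) : val P.gg (dw R path) = d p := by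
  have h1 := apply_of_run h hp hr
  have h2 := hd.conj (val P.gg path) p
  rw [h1, hd.base R hR] at h2
  rw [dw, val_append, val_append, val_reverse _ (sq h), val_cons, val_nil, mul_one, h2]
  group

omit hd in
/-- Equivariance for substituted words. -/
theorem transport (g : P.Grp) (Sa Sb : List (List Nat)) (Mw : List Nat)
    (hl : Sa.length = Sb.length)
    (hS : ∀ k < Sa.length, g * val P.gg (Sa.getD k []) = val P.gg (Sb.getD k []) * g)
    (la : ∀ w ∈ Sa, ∀ x ∈ w, x < D.NG) (lb : ∀ w ∈ Sb, ∀ x ∈ w, x < D.NG)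
    {i j i' : Fin D.N} (hg : rho h g i = i') (hj : D.run (ex Sa Mw) i = (j : Nat)) :
    D.run (ex Sb Mw) i' = ((rho h g j : Fin D.N) : Nat) := by
  induction Mw generalizing i i' with
  | nil =>
    have hij : i = j := Fin.ext hj
    rw [← hij, hg]
    rfl
  | cons k Mw ih =>
    have ea : ex Sa (k :: Mw) = Sa.getD k [] ++ ex Sa Mw := rfl
    have eb : ex Sb (k :: Mw) = Sb.getD k [] ++ ex Sb Mw := rfl
    rw [ea, run_add h] at hj
    rw [eb, run_add h]
    by_cases hk : k < Sa.length
    · have ma : Sa.getD k [] ∈ Sa := by rw [List.getD_eq_getElem _ _ hk]; exact List.getElem_mem hk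
      have mb : Sb.getD k [] ∈ Sb := by rw [List.getD_eq_getElem _ _ (hl ▸ hk)]; exact List.getElem_mem _
      have hi1 : D.run (Sa.getD k []) i < D.N := run_lt h (la _ ma) i.2
      have key : D.run (Sb.getD k []) i' =
          ((rho h g ⟨_, hi1⟩ : Fin D.N) : Nat) := by
        rw [← inv_run h (lb _ mb)]
        refine congrArg Fin.val ?_
        rw [Equiv.Perm.inv_eq_iff_eq, ← hg, ← Equiv.Perm.mul_apply, ← map_mul, ← hS k hk, map_mul,
          Equiv.Perm.mul_apply, apply_of_run h (la _ ma) (i := i) (j := ⟨_, hi1⟩) rfl]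
      rw [key]
      exact ih (i := ⟨_, hi1⟩) (i' := rho h g ⟨_, hi1⟩) rfl hj
    · rw [List.getD_eq_default _ _ (by omega)] at hj
      rw [List.getD_eq_default _ _ (by omega)]
      exact ih hg hj

/-- The conjugating words commute with an element as soon as its points are fixed. -/
theorem comm_letters (g : P.Grp) (w : List Nat) (hw : ∀ x ∈ w, x < D.NG)
    (hf : ∀ x ∈ w, rho h g (E x) = E x) : g * val P.gg w = val P.gg w * g := by
  induction w with
  | nil => simp [val]
  | cons x w ih =>
    have hx : g * P.gg x = P.gg x * g := by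
      rw [← hd.base x (hw x List.mem_cons_self)]
      exact (fix_iff h hd g _).mp (hf x List.mem_cons_self)
    rw [val_cons, ← mul_assoc, hx, mul_assoc,
      ih (fun y hy => hw y (List.mem_cons_of_mem _ hy)) (fun y hy => hf y (List.mem_cons_of_mem _ hy)),
      ← mul_assoc]

/-- Commutation with a transposition as read off the table. -/
theorem comm_test {x : Nat} (hx : x < D.NG) (p : Fin D.N) :
    P.gg x * d p = d p * P.gg x ↔ D.img x p = (p : Nat) := by
  rw [← fix_iff h hd, ← img_eq h hx, Fin.val_inj]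

theorem pattern {R : Nat} (hR : R < D.NG) {x : Nat} (hx : x < D.NG) (g : P.Grp)
    (l : List (Nat × List Nat))
    (hl : ∀ yq ∈ l, yq.1 < D.NG ∧ E yq.1 ≠ E x ∧ (∀ z ∈ yq.2, z < D.NG) ∧
      ((rho h g (E yq.1) : Fin D.N) : Nat) = D.run yq.2 (E R)) :
    patOk D R (E R) (E x) l ((rho h g (E x) : Fin D.N) : Nat) = true := by
  rw [patOk, List.all_eq_true]
  intro yq hy
  obtain ⟨hy1, hne, hy2, hy3⟩ := hl yq hy
  rw [Bool.and_eq_true, Bool.not_eq_true', beq_iff_eq]
  refine ⟨?_, ?_⟩
  · rw [← hy3]
    cases hb : Nat.beq ((rho h g (E x) : Fin D.N) : Nat) ((rho h g (E yq.1) : Fin D.N) : Nat)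
    · rfl
    · exact absurd ((rho h g).injective (Fin.ext (Nat.eq_of_beq_eq_true hb))).symm hne
  · have hdw := d_word h hd hR hy2 (p := rho h g (E yq.1)) hy3.symm
    have hwl : ∀ z ∈ dw R yq.2, z < D.NG := by
      intro z hz
      simp only [dw, List.mem_append, List.mem_reverse, List.mem_singleton] at hz
      rcases hz with (hz | rfl) | hz
      exacts [hy2 z hz, hR, hy2 z hz]
    rw [Bool.eq_iff_iff, Nat.beq_eq, Nat.beq_eq, ← inv_run h hwl, Fin.val_inj,
      Equiv.Perm.inv_eq_iff_eq, eq_comm, hdw, fix_iff h hd, ← comm_test h hd hy1]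
    rw [hd.conj, hd.conj, hd.base _ hy1, hd.base _ hx]
    constructor
    · intro hh
      have h2 := congrArg (fun k => g⁻¹ * k * g) hh
      simpa [mul_assoc] using h2
    · intro hh
      calc g * P.gg yq.1 * g⁻¹ * (g * P.gg x * g⁻¹) = g * (P.gg yq.1 * P.gg x) * g⁻¹ := by group
        _ = g * (P.gg x * P.gg yq.1) * g⁻¹ := by rw [hh]
        _ = g * P.gg x * g⁻¹ * (g * P.gg yq.1 * g⁻¹) := by group

/-- A generator next to another is its conjugate. -/
theorem base_step (c p : Nat) (hc : c < D.NG) (hp : p < D.NG) (q : Fin D.N) (hq : d q = P.gg p)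
    (e : Fin D.N) (hrel : [p, c, p, c, p, c] ∈ P.relWords) (hrun : D.run [p, c] e = (q : Nat)) :
    d e = P.gg c := by
  have h1 := apply_of_run h (by simp [hp, hc]) hrun
  have h2 := hd.conj (val P.gg [p, c]) q
  rw [h1, hq] at h2
  rw [h2]
  have h3 := val_relWords h.good hrel
  simp only [val_cons, val_nil, mul_one] at h3 ⊢
  have hpc : P.gg p * P.gg c * P.gg p = P.gg c * P.gg p * P.gg c := by
    rw [eq_comm, ← mul_inv_eq_one]
    simp only [mul_inv_rev, inv_of_sq _ (sq h)]
    simp only [← mul_assoc] at h3 ⊢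
    calc P.gg c * P.gg p * P.gg c * P.gg p * P.gg c * P.gg p
        = P.gg p * (P.gg p * P.gg c * P.gg p * P.gg c * P.gg p * P.gg c) * P.gg p := by
          simp only [mul_assoc, sq h, mul_one]
          rw [← mul_assoc (P.gg p) (P.gg p), sq h, one_mul]
      _ = 1 := by rw [h3, mul_one, sq h]
  rw [mul_inv_rev, inv_of_sq _ (sq h), inv_of_sq _ (sq h), ← mul_assoc, hpc]
  simp [mul_assoc, sq h]

end

/-! ### The bound on the automorphism group -/

/-- Count the numbers in a range passing a test. -/
noncomputable def cntFrom (f : Nat → Bool) (n : Nat) : Nat → Nat → Nat :=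
  Nat.rec (motive := fun _ => Nat → Nat → Nat) (fun _ acc => acc)
    (fun _ ih lo acc => force (lo + 1) fun lo' => cond (f lo) (force (acc + 1) (ih lo')) (ih lo' acc)) n

theorem cntFrom_eq (f : Nat → Bool) (n lo acc : Nat) :
    cntFrom f n lo acc = acc + (List.range' lo n).countP f := by
  induction n generalizing lo acc with
  | zero => rfl
  | succ n ih =>
    show force (lo + 1) (fun lo' => cond (f lo) (force (acc + 1) (cntFrom f n lo')) (cntFrom f n lo' acc)) = _
    rw [force_eq, List.range'_succ, List.countP_cons]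
    cases f lo
    · simp only [cond_false, ih, Bool.false_eq_true, if_false, Nat.add_zero]
    · simp only [cond_true, force_eq, ih, if_true]
      omega

theorem card_le_cnt (f : Nat → Bool) (N : Nat) :
    Nat.card {i : Fin N // f i = true} ≤ cntFrom f N 0 0 := by
  rw [cntFrom_eq, Nat.zero_add, ← List.range_eq_range', List.countP_eq_length_filter]
  classical
  rw [← List.toFinset_card_of_nodup ((List.nodup_range (n := N)).filter f), Nat.card_eq_fintype_card,
    Fintype.card_subtype]
  refine Finset.card_le_card_of_injOn (fun i : Fin N => (i : Nat)) (fun i hi => ?_)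
    (Set.injOn_of_injective Fin.val_injective)
  simp only [Finset.coe_filter, Finset.mem_univ, true_and, Set.mem_setOf_eq] at hi
  simp [hi]

/-- Commutation pattern of an image of generator `x` with fixed generators. -/
noncomputable def candOk (D : Table) (e : Nat → Nat) (l : List Nat) (x p : Nat) : Bool :=
  l.all fun y => (!Nat.beq p (e y)) && (Nat.beq (D.img y p) p == Nat.beq (D.img y (e x)) (e x))

/-- Product of the candidate numbers along a list. -/
noncomputable def prodCnt (D : Table) (e : Nat → Nat) : List Nat → List Nat → Nat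
  | _, [] => 1
  | l, x :: r => cntFrom (candOk D e l x) D.N 0 0 * prodCnt D e (x :: l) r

section

variable {P : Pres} {S : List Wx} {C : Cert} {M : Nat} {D : Table}
  (h : Enumerated P S C M D) {d : Fin D.N → P.Grp} {E : Nat → Fin D.N} (hd : Data h d E)

/-- Automorphisms fixing some generators. -/
def fixA (P : Pres) (l : List Nat) : Subgroup (MulAut P.Grp) where
  carrier := {α | ∀ y ∈ l, α (P.gg y) = P.gg y}
  one_mem' := fun _ _ => rfl
  mul_mem' := fun {a b} ha hb y hy => by
    show a (b (P.gg y)) = _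
    rw [hb y hy, ha y hy]
  inv_mem' := fun {a} ha y hy => by
    show a.symm (P.gg y) = _
    rw [MulEquiv.symm_apply_eq, ha y hy]

include h hd

theorem card_fixA [Finite P.Grp] (hcl : ∀ α : MulAut P.Grp, ∀ x < D.NG, ∃ p, α (P.gg x) = d p)
    (e : Nat → Nat) (he : ∀ x < D.NG, (E x : Nat) = e x) (r : List Nat) :
    ∀ l : List Nat, (∀ x ∈ l ++ r, x < D.NG) → (l ++ r).Nodup → (∀ x < D.NG, x ∈ l ++ r) →
      Function.Injective (fun x : {x // x < D.NG} => E x.1) →
      Nat.card (fixA P l) ≤ prodCnt D e l r := by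
  haveI : Finite (MulAut P.Grp) :=
    Finite.of_injective (fun a : MulAut P.Grp => (a : P.Grp → P.Grp)) DFunLike.coe_injective
  induction r with
  | nil =>
    intro l hl _ hall _
    refine le_of_eq ?_
    rw [prodCnt, Nat.card_eq_one_iff_unique]
    refine ⟨⟨fun a b => Subtype.ext ?_⟩, ⟨1⟩⟩
    refine MulEquiv.toMonoidHom_injective (MonoidHom.eq_of_eqOn_dense (closure_gg h.good) ?_)
    rintro _ ⟨x, hx, rfl⟩
    rw [← h.ng] at hx
    have hm : x ∈ l := by simpa using hall x hx
    exact (a.2 x hm).trans (b.2 x hm).symm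
  | cons x r ih =>
    intro l hl hnd hall hE
    have hx : x < D.NG := hl x (by simp)
    set A := fixA P l
    have hsub : ∀ α : A, ∃ p : {p : Fin D.N // candOk D e l x p = true},
        (α : MulAut P.Grp) (P.gg x) = d p.1 := by
      rintro ⟨α, hα⟩
      obtain ⟨p, hp⟩ := hcl α x hx
      refine ⟨⟨p, ?_⟩, hp⟩
      rw [candOk, List.all_eq_true]
      intro y hy
      have hy' : y < D.NG := hl y (List.mem_append_left _ hy)
      have hxy : y ≠ x := by
        rintro rfl
        exact (List.nodup_append.mp hnd).2.2 _ hy _ List.mem_cons_self rfl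
      rw [Bool.and_eq_true, Bool.not_eq_true', beq_iff_eq]
      refine ⟨?_, ?_⟩
      · cases hb : Nat.beq (p : Nat) (e y)
        · rfl
        · exfalso
          have hpy : p = E y := Fin.ext ((Nat.eq_of_beq_eq_true hb).trans (he y hy').symm)
          have h1 : α (P.gg x) = α (P.gg y) := by rw [hp, hpy, hd.base y hy', hα y hy]
          have h2 := α.injective h1
          rw [← hd.base x hx, ← hd.base y hy'] at h2
          exact hxy (congrArg Subtype.val (@hE ⟨y, hy'⟩ ⟨x, hx⟩ (hd.inj h2).symm))
      · rw [← he x hx, Bool.eq_iff_iff, Nat.beq_eq, Nat.beq_eq, ← comm_test h hd hy',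
          ← comm_test h hd hy', hd.base x hx, ← hp]
        constructor
        · intro hh
          apply α.injective
          rwa [map_mul, map_mul, hα y hy]
        · intro hh
          have := congrArg α hh
          rwa [map_mul, map_mul, hα y hy] at this
    choose f hf using hsub
    let B : Subgroup A := (fixA P (x :: l)).subgroupOf A
    have hB : Nat.card B = Nat.card (fixA P (x :: l)) :=
      Nat.card_congr (Subgroup.subgroupOfEquivOfLe (show fixA P (x :: l) ≤ A from fun α hα y hy => hα y (List.mem_cons_of_mem _ hy))).toEquiv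
    have hidx : B.index ≤ Nat.card {p : Fin D.N // candOk D e l x p = true} := by
      rw [Subgroup.index]
      refine Nat.card_le_card_of_injective (fun q => f (Quotient.out q)) fun q q' hq => ?_
      rw [← QuotientGroup.out_eq' q, ← QuotientGroup.out_eq' q', QuotientGroup.eq]
      simp only at hq
      have h1 := (hf (Quotient.out q)).trans ((congrArg (fun p => d p.1) hq).trans (hf (Quotient.out q')).symm)
      intro y hy
      rcases List.mem_cons.mp hy with rfl | hy
      · show ((Quotient.out q : A) : MulAut P.Grp).symm _ = _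
        rw [MulEquiv.symm_apply_eq]
        exact h1.symm
      · exact ((Quotient.out q)⁻¹ * Quotient.out q').2 y hy
    have := ih (x :: l) (fun y hy => hl y (by simp only [List.mem_append, List.mem_cons] at hy ⊢; tauto))
      ((List.perm_middle (l₁ := l) (l₂ := r) (a := x)).nodup_iff.mp hnd)
      (fun y hy => by have := hall y hy; simp only [List.mem_append, List.mem_cons] at this ⊢; tauto) hE
    rw [← Subgroup.card_mul_index B, hB, prodCnt, mul_comm (cntFrom _ _ _ _)]
    exact Nat.mul_le_mul this (hidx.trans (card_le_cnt _ _))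

theorem card_aut [Finite P.Grp] (hcl : ∀ α : MulAut P.Grp, ∀ x < D.NG, ∃ p, α (P.gg x) = d p)
    (e : Nat → Nat) (he : ∀ x < D.NG, (E x : Nat) = e x) (o : List Nat)
    (ho : ∀ x ∈ o, x < D.NG) (hnd : o.Nodup) (hall : ∀ x < D.NG, x ∈ o)
    (hE : Function.Injective (fun x : {x // x < D.NG} => E x.1)) :
    Nat.card (MulAut P.Grp) ≤ prodCnt D e [] o := by
  have htop : fixA P [] = ⊤ := eq_top_iff.mpr fun α _ y hy => by simp at hy
  have := card_fixA h hd hcl e he o [] ho hnd hall hE
  rwa [htop, Subgroup.card_top] at this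

omit h hd in
theorem card_inn (hz : ∀ g : P.Grp, (∀ k, g * k = k * g) → g = 1) :
    Nat.card (Cfsg.Inn P.Grp) = Nat.card P.Grp := by
  refine Nat.card_congr (MonoidHom.ofInjective (f := (MulAut.conj : P.Grp →* MulAut P.Grp)) ?_).symm.toEquiv
  rw [injective_iff_map_eq_one]
  intro g hg
  apply hz
  intro k
  have := congrArg (fun a : MulAut P.Grp => a k) hg
  simpa [MulAut.conj_apply, mul_inv_eq_iff_eq_mul] using this

end

/-- A transfer of an element to one commuting with a chosen element of prime order. -/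
theorem exists_commuting_conj {G : Type*} [Group G] [Finite G] {p : ℕ} (hp : p.Prime)
    (hp2 : ¬ p ^ 2 ∣ Nat.card G) {w t : G} (hw : orderOf w = p)
    (ht : p ∣ Nat.card (Subgroup.centralizer ({t} : Set G))) :
    ∃ g : G, g * t * g⁻¹ * w = w * (g * t * g⁻¹) := by
  haveI : Fact p.Prime := ⟨hp⟩
  obtain ⟨u, hu⟩ := exists_prime_orderOf_dvd_card' p ht
  rw [← Subgroup.orderOf_coe] at hu
  have hf : (Nat.card G).factorization p = 1 := by
    apply le_antisymm
    · by_contra hlt
      exact hp2 ((pow_dvd_pow p (by omega : 2 ≤ (Nat.card G).factorization p)).trans (Nat.ordProj_dvd _ p))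
    · exact hp.factorization_pos_of_dvd Nat.card_pos.ne' (ht.trans (Subgroup.card_subgroup_dvd_card _))
  have hcard : ∀ v : G, orderOf v = p → Nat.card (Subgroup.zpowers v) = p ^ (Nat.card G).factorization p :=
    fun v hv => by rw [Nat.card_zpowers, hv, hf, pow_one]
  let Pu : Sylow p G := Sylow.ofCard (Subgroup.zpowers (u : G)) (hcard _ hu)
  let Pw : Sylow p G := Sylow.ofCard (Subgroup.zpowers w) (hcard _ hw)
  obtain ⟨g, hg⟩ := MulAction.exists_smul_eq G Pu Pw
  refine ⟨g, ?_⟩
  have hmem : w ∈ ((g • Pu : Sylow p G) : Subgroup G) := by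
    rw [hg]
    exact Subgroup.mem_zpowers w
  rw [Sylow.coe_subgroup_smul, Subgroup.mem_pointwise_smul_iff_inv_smul_mem] at hmem
  obtain ⟨n, hn⟩ := Subgroup.mem_zpowers_iff.mp hmem
  have hut : (u : G) * t = t * u := Subgroup.mem_centralizer_singleton_iff.mp u.2
  have hcomm : Commute t ((u : G) ^ n) := Commute.zpow_right (Commute.symm hut) n
  have hw' : w = g * (u : G) ^ n * g⁻¹ := by
    rw [hn, ← map_inv, MulAut.smul_def, MulAut.conj_apply, inv_inv]
    group
  rw [hw']
  calc g * t * g⁻¹ * (g * (u : G) ^ n * g⁻¹) = g * (t * (u : G) ^ n) * g⁻¹ := by group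
    _ = g * ((u : G) ^ n * t) * g⁻¹ := by rw [hcomm.eq]
    _ = g * (u : G) ^ n * g⁻¹ * (g * t * g⁻¹) := by group

/-- An automorphism preserves centraliser orders. -/
theorem card_centralizer_map {G : Type*} [Group G] (α : MulAut G) (a : G) :
    Nat.card (Subgroup.centralizer ({α a} : Set G)) = Nat.card (Subgroup.centralizer ({a} : Set G)) := by
  symm
  refine Nat.card_congr (α.toEquiv.subtypeEquiv fun x => ?_)
  simp only [Subgroup.mem_centralizer_singleton_iff, MulEquiv.toEquiv_eq_coe, EquivLike.coe_coe]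
  rw [← map_mul, ← map_mul, α.injective.eq_iff]

end Cfsg.Agent.ThreeTransAut41
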