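import Cfsg.Agent.Lib.Fi23PointCheck78
import Cfsg.Agent.Lib.Fi23Final94
import Cfsg.Agent.Lib.Fi23Bridge79

/-!
# The presented Fi23 has a primitive class of 3-transpositions of type M(23)

The involution `zz` spanning the centre of the double cover of Fi22 inside the presented Fi23 is conjugate to the
generators; its centraliser is that maximal subgroup. Hence the class is primitive, and the recognition gives the
type M(23); the quotient of the centraliser carries the class of type M(22).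
-/

set_option autoImplicit false
set_option maxRecDepth 100000
set_option linter.style.haveILetI false

namespace Cfsg.Agent.ThreeTransExist17

open Subgroup Cfsg.Agent.CosetCertCore Cfsg.Agent.CosetCertTable Cfsg.Agent.CosetCertPres
open Cfsg.Agent.CosetCertOrder Cfsg.Agent.CosetCertFi23Simple
open Cfsg.Agent.Fi23PointCheck78 (DT ZT zt_comm zt_sq kw_conj center_bot rho_inv_apply)

/-- Primitivity of a class from a maximal centraliser. -/
theorem primitive_of_maximal {G : Type*} [Group G] {z : G}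
    (hmax : ∀ U : Subgroup G, centralizer ({z} : Set G) ≤ U → U = centralizer ({z} : Set G) ∨ U = ⊤)
    (hne : ∃ b ∈ conjugatesOf z, b ≠ z) : Cfsg.IsPrimitiveUnderConj (conjugatesOf z) := by
  obtain ⟨b, hb, hbz⟩ := hne
  refine ⟨fun a (ha : IsConj z a) c (hc : IsConj z c) => isConj_iff.mp (ha.symm.trans hc),
    ⟨z, mem_conjugatesOf_self, b, hb, hbz.symm⟩, fun B hB hblock => ?_⟩
  rw [or_iff_not_imp_left]
  intro hs
  rw [Set.not_subsingleton_iff] at hs
  obtain ⟨a, ha, c, hc, hac⟩ := hs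
  obtain ⟨g, rfl⟩ := isConj_iff.mp (hB ha)
  obtain ⟨k, hk⟩ := isConj_iff.mp (hB hc)
  -- the elements whose conjugate by `g` stabilises the block
  have hcomp : ∀ (x y : G) (S : Set G),
      (fun t => x * y * t * (x * y)⁻¹) '' S =
        (fun t => x * t * x⁻¹) '' ((fun t => y * t * y⁻¹) '' S) := fun x y S => by
    rw [Set.image_image]
    exact Set.image_congr' fun t => by group
  have hone : (fun t : G => (1 : G) * t * (1 : G)⁻¹) '' B = B := by simp
  let U : Subgroup G :=
    { carrier := {x | (fun t => g * x * g⁻¹ * t * (g * x * g⁻¹)⁻¹) '' B = B}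
      mul_mem' := fun {x y} hx hy => by
        show (fun t => g * (x * y) * g⁻¹ * t * (g * (x * y) * g⁻¹)⁻¹) '' B = B
        rw [show g * (x * y) * g⁻¹ = (g * x * g⁻¹) * (g * y * g⁻¹) by group, hcomp]
        rw [Set.mem_ofPred_eq] at hx hy
        rw [hy, hx]
      one_mem' := by
        show (fun t => g * 1 * g⁻¹ * t * (g * 1 * g⁻¹)⁻¹) '' B = B
        rw [show g * 1 * g⁻¹ = (1 : G) by group]
        exact hone
      inv_mem' := fun {x} hx => by
        show (fun t => g * x⁻¹ * g⁻¹ * t * (g * x⁻¹ * g⁻¹)⁻¹) '' B = B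
        rw [Set.mem_ofPred_eq] at hx
        conv_lhs => arg 2; rw [← hx]
        rw [← hcomp, show g * x⁻¹ * g⁻¹ * (g * x * g⁻¹) = (1 : G) by group]
        exact hone }
  have hU : ∀ x : G, x ∈ U ↔ (fun t => g * x * g⁻¹ * t * (g * x * g⁻¹)⁻¹) '' B = B := fun x => Iff.rfl
  have hle : centralizer ({z} : Set G) ≤ U := fun x hx => by
    rw [hU]
    refine (hblock _).resolve_right (Set.not_disjoint_iff.mpr ⟨g * z * g⁻¹, ?_, ha⟩)
    refine ⟨g * z * g⁻¹, ha, ?_⟩
    rw [mem_centralizer_singleton_iff] at hx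
    show g * x * g⁻¹ * (g * z * g⁻¹) * (g * x * g⁻¹)⁻¹ = g * z * g⁻¹
    rw [show g * x * g⁻¹ * (g * z * g⁻¹) * (g * x * g⁻¹)⁻¹ = g * (x * z) * x⁻¹ * g⁻¹ by group, hx]
    group
  rcases hmax U hle with e | e
  · exfalso
    have hkU : g⁻¹ * k ∈ U := by
      rw [hU]
      refine (hblock _).resolve_right (Set.not_disjoint_iff.mpr ⟨c, ?_, hc⟩)
      refine ⟨g * z * g⁻¹, ha, ?_⟩
      show g * (g⁻¹ * k) * g⁻¹ * (g * z * g⁻¹) * (g * (g⁻¹ * k) * g⁻¹)⁻¹ = c
      rw [← hk]
      group
    rw [e, mem_centralizer_singleton_iff] at hkU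
    apply hac
    rw [← hk]
    calc g * z * g⁻¹ = g * (g⁻¹ * k * z) * (g⁻¹ * k)⁻¹ * g⁻¹ := by rw [hkU]; group
      _ = k * z * k⁻¹ := by group
  · refine Set.Subset.antisymm hB fun y hy => ?_
    obtain ⟨l, rfl⟩ := isConj_iff.mp hy
    have hl := (hU (g⁻¹ * l)).mp (e ▸ mem_top _)
    rw [← hl]
    refine ⟨g * z * g⁻¹, ha, ?_⟩
    show g * (g⁻¹ * l) * g⁻¹ * (g * z * g⁻¹) * (g * (g⁻¹ * l) * g⁻¹)⁻¹ = l * z * l⁻¹
    group

/-- The transposition attached to the point zero. -/
noncomputable def zz : P23.Grp := val P23.gg ZT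

theorem zt_lt : ∀ x ∈ ZT, x < 10 := by decide +kernel

/-- A point where two words differ separates their values. -/
theorem val_ne {u v : List Nat} (hu : ∀ x ∈ u, x < 10) (hv : ∀ x ∈ v, x < 10) {i : Nat}
    (hi : i < DT.N) (h : DT.run u i ≠ DT.run v i) : val P23.gg u ≠ val P23.gg v := by
  intro e
  apply h
  rw [← rho_inv_apply u hu ⟨i, hi⟩, ← rho_inv_apply v hv ⟨i, hi⟩, e]

theorem zz_ne_one : zz ≠ 1 := by
  rw [zz, ← val_nil P23.gg]
  exact val_ne zt_lt (by simp) (i := DT.img 7 0) (by decide +kernel) (by decide +kernel)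

theorem gg0_ne : P23.gg 0 ≠ zz := by
  rw [zz, show P23.gg 0 = val P23.gg [0] by rw [val_cons, val_nil, mul_one]]
  exact val_ne (by decide) zt_lt (i := DT.img 7 0) (by decide +kernel) (by decide +kernel)

theorem span_le : span P23.gg SIG ≤ centralizer ({zz} : Set P23.Grp) := fun _ hk =>
  mem_centralizer_singleton_iff.mpr (zt_comm hk).symm

theorem maximal_cent (U : Subgroup P23.Grp) (hU : span P23.gg SIG ≤ U) :
    U = span P23.gg SIG ∨ U = ⊤ := by
  have h := CosetCertFi23Simple.maximal U (sub_eq_span.symm ▸ hU)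
  rwa [sub_eq_span] at h

theorem cent_zz : centralizer ({zz} : Set P23.Grp) = span P23.gg SIG := by
  refine (maximal_cent _ span_le).resolve_right fun h => zz_ne_one ?_
  have hz : zz ∈ center P23.Grp := mem_center_iff.mpr fun g =>
    mem_centralizer_singleton_iff.mp (h ▸ mem_top g)
  rwa [center_bot, mem_bot] at hz

theorem gg0_mem : P23.gg 0 ∈ centralizer ({zz} : Set P23.Grp) := by
  rw [cent_zz]
  exact Subgroup.subset_closure ⟨0, by simp, rfl⟩

theorem gg0_conj : P23.gg 0 ∈ conjugatesOf zz :=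
  isConj_iff.mpr ⟨_, kw_conj 0 (by norm_num)⟩

theorem center_cent :
    center ↥(centralizer ({zz} : Set P23.Grp)) =
      (zpowers zz).subgroupOf (centralizer ({zz} : Set P23.Grp)) := by
  haveI : Finite P23.Grp := upper.1
  have hc : Nat.card (center ↥(centralizer ({zz} : Set P23.Grp))) = 2 := by
    rw [cent_zz]
    exact double_cover.1
  refine (Subgroup.eq_of_le_of_card_ge ?_ ?_).symm
  · intro x hx
    rw [mem_subgroupOf, mem_zpowers_iff] at hx
    obtain ⟨n, hn⟩ := hx
    rw [mem_center_iff]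
    intro y
    apply Subtype.ext
    show (y : P23.Grp) * (x : P23.Grp) = (x : P23.Grp) * (y : P23.Grp)
    rw [← hn]
    exact ((show Commute (y : P23.Grp) zz from
      mem_centralizer_singleton_iff.mp y.2).zpow_right n)
  · rw [hc, Nat.card_congr (subgroupOfEquivOfLe (zpowers_le.mpr
      (mem_centralizer_singleton_iff.mpr rfl))).toEquiv, Nat.card_zpowers]
    have : orderOf zz = 2 := orderOf_eq_prime (by rw [pow_two]; exact zt_sq) zz_ne_one
    omega

theorem orderOf_zz : orderOf zz = 2 := orderOf_eq_prime (by rw [pow_two]; exact zt_sq) zz_ne_one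

theorem quot_iso : Nonempty (↥(centralizer ({zz} : Set P23.Grp)) ⧸
    center ↥(centralizer ({zz} : Set P23.Grp)) ≃* Cfsg.Spor.Fi22) := by
  rw [cent_zz]
  exact double_cover.2.1

theorem quasisimple : Cfsg.IsQuasisimple ↥(centralizer ({zz} : Set P23.Grp)) := by
  obtain ⟨e⟩ := quot_iso
  haveI : IsSimpleGroup Cfsg.Spor.Fi22 := CosetCertFi22Simple.simple
  haveI : Nontrivial (↥(centralizer ({zz} : Set P23.Grp)) ⧸
      center ↥(centralizer ({zz} : Set P23.Grp))) := e.toEquiv.nontrivial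
  refine ⟨⟨?_⟩, IsSimpleGroup.isSimpleGroup_of_surjective e.symm.toMonoidHom e.symm.surjective⟩
  rw [cent_zz]
  exact span_perfect

/-- The presented groups carry primitive classes of 3-transpositions of types M(22) and M(23). -/
theorem exists_m22_m23 :
    (∃ (X : Type) (_ : Group X) (_ : Finite X) (E : Set X), Cfsg.IsThreeTranspositionClass E ∧
        Cfsg.IsPrimitiveUnderConj E ∧ Cfsg.IsOfTypeM22 X E) ∧
      (∃ (X : Type) (_ : Group X) (_ : Finite X) (E : Set X), Cfsg.IsThreeTranspositionClass E ∧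
        Cfsg.IsPrimitiveUnderConj E ∧ Cfsg.IsOfTypeM23 X E) := by
  classical
  haveI : Finite P23.Grp := upper.1
  have hprim : Cfsg.IsPrimitiveUnderConj (conjugatesOf zz) :=
    primitive_of_maximal (fun U hU => by rw [cent_zz] at hU ⊢; exact maximal_cent U hU)
      ⟨_, gg0_conj, gg0_ne⟩
  haveI hn : ((zpowers zz).subgroupOf (centralizer ({zz} : Set P23.Grp))).Normal := by
    rw [← center_cent]; infer_instance
  have e : Cfsg.Spor.IsoFi22 (↥(centralizer ({zz} : Set P23.Grp)) ⧸
      (zpowers zz).subgroupOf (centralizer ({zz} : Set P23.Grp))) := by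
    obtain ⟨f⟩ := quot_iso
    exact ⟨(QuotientGroup.quotientMulEquivOfEq center_cent.symm).trans f⟩
  obtain ⟨g, hg⟩ := isConj_iff.mp gg0_conj
  obtain ⟨E, z', H⟩ := Fi23Final94.full_of_iso orderOf_zz quasisimple e
    ⟨g, by rw [hg]; exact gg0_mem, by rw [hg]; exact gg0_ne⟩
  obtain ⟨j, w, c⟩ := Fi23Bridge79.exists_config_of_full H
  obtain ⟨hclass, h23⟩ := Fi23Final94.type23_of_config H ⟨w, j, fun i hi => c.pat.mem i hi,
    c.jmem, c.zj, fun i hi k hk => c.pat.commute_iff hi hk, c.comm⟩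
  refine ⟨⟨_, inferInstance, inferInstance, E, ?_, H.prim, H.m22⟩,
    ⟨P23.Grp, inferInstance, inferInstance, _, hclass, hprim, h23⟩⟩
  obtain ⟨a, ha, -⟩ := H.prim.2.1
  refine ⟨H.grp.1, ⟨a, ha, ?_⟩, H.grp.2.2⟩
  exact Set.eq_of_subset_of_subset
    (fun b hb => isConj_iff.mpr (H.prim.1 a ha b hb))
    (fun b hb => by
      obtain ⟨k, rfl⟩ := isConj_iff.mp hb
      exact H.grp.2.1 k a ha)

end Cfsg.Agent.ThreeTransExist17
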