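import Cfsg.Agent.Lib.ThreeTransFi23TrialData74
import Cfsg.Agent.Lib.CosetCertTable
import Cfsg.Agent.Lib.OrthUnitarySimpleStd
import Cfsg.Agent.Lib.ComponentsBasic

/-!
# The group PΩ⁺(8,3) on the 1080 lines of norm one

The permutation image of the derived isometry group is generated by the products of pairs of nine tabulated
reflections and is isomorphic to PΩ⁺(8,3).
-/

set_option autoImplicit false
set_option maxRecDepth 100000

namespace Cfsg.Agent.ThreeTransFi23TrialLin74

open QuadraticMap Cfsg.Agent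
open OrthUnitaryQuad OrthUnitaryRefl OrthUnitaryOmega OrthUnitaryCentre OrthUnitarySimple
open OrthUnitaryForms OrthUnitaryStd
open CosetCertCore CosetCertTable ThreeTransFi23TrialData74

/-- The space. -/
abbrev V8 : Type := Fin 4 ⊕ Fin 4 → ZMod 3

/-- The hyperbolic form. -/
abbrev Q8 : QuadraticForm (ZMod 3) V8 := qfPlus (ZMod 3) 4

/-- The number of a coordinate. -/
def num : Fin 4 ⊕ Fin 4 → Nat
  | .inl i => i.1
  | .inr i => 4 + i.1

/-- A digit of a code. -/
def dig (c k : Nat) : Nat := c / 3 ^ k % 3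

/-- The vector of a code. -/
def dec (c : Nat) : V8 := fun s => (dig c (num s) : ZMod 3)

/-- The code with given digits. -/
def mk8 (f : Nat → Nat) : Nat :=
  f 0 + 3 * (f 1 + 3 * (f 2 + 3 * (f 3 + 3 * (f 4 + 3 * (f 5 + 3 * (f 6 + 3 * f 7))))))

/-- The code of a vector. -/
def enc (v : V8) : Nat :=
  mk8 fun k => if h : k < 4 then (v (.inl ⟨k, h⟩)).val else if h' : k - 4 < 4 then (v (.inr ⟨k - 4, h'⟩)).val else 0

/-- The form on codes. -/
def qn (c : Nat) : Nat := (dig c 0 * dig c 4 + dig c 1 * dig c 5 + dig c 2 * dig c 6 + dig c 3 * dig c 7) % 3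

/-- The polar form on codes. -/
def bn (c x : Nat) : Nat :=
  (dig c 0 * dig x 4 + dig c 4 * dig x 0 + dig c 1 * dig x 5 + dig c 5 * dig x 1
    + dig c 2 * dig x 6 + dig c 6 * dig x 2 + dig c 3 * dig x 7 + dig c 7 * dig x 3) % 3

/-- The negative of a code. -/
def negn (c : Nat) : Nat := mk8 fun k => (3 - dig c k) % 3

/-- The reflection in a code of norm one, on a code. -/
def refln (c x : Nat) : Nat := mk8 fun k => (dig x k + 2 * bn c x * dig c k) % 3

theorem enc_lt (v : V8) : enc v < 6561 := by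
  have h : ∀ a : ZMod 3, a.val ≤ 2 := fun a => Nat.le_of_lt_succ a.val_lt
  simp only [enc, mk8]
  norm_num
  have := h (v (.inl 0)); have := h (v (.inl 1))
  have := h (v (.inl ⟨2, by norm_num⟩)); have := h (v (.inl ⟨3, by norm_num⟩))
  have := h (v (.inr 0)); have := h (v (.inr 1))
  have := h (v (.inr ⟨2, by norm_num⟩)); have := h (v (.inr ⟨3, by norm_num⟩))
  omega

theorem mk8_lt (f : Nat → Nat) (hf : ∀ k, f k < 3) : mk8 f < 6561 := by
  have := hf 0; have := hf 1; have := hf 2; have := hf 3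
  have := hf 4; have := hf 5; have := hf 6; have := hf 7
  simp only [mk8]
  omega

theorem dig_mk8 (f : Nat → Nat) (hf : ∀ k, f k < 3) {k : Nat} (hk : k < 8) : dig (mk8 f) k = f k := by
  have := hf 0; have := hf 1; have := hf 2; have := hf 3
  have := hf 4; have := hf 5; have := hf 6; have := hf 7
  interval_cases k <;> simp only [dig, mk8] <;> omega

theorem num_lt (s : Fin 4 ⊕ Fin 4) : num s < 8 := by
  rcases s with i | i <;> simp only [num] <;> omega

theorem dec_enc (v : V8) : dec (enc v) = v := by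
  funext s
  show ((dig (enc v) (num s) : ℕ) : ZMod 3) = v s
  rw [enc, dig_mk8 _ (fun k => ?_) (num_lt s)]
  · rcases s with i | i
    · simp [num, i.isLt]
    · simp [num, i.isLt]
  · split
    · exact ZMod.val_lt _
    · split
      · exact ZMod.val_lt _
      · norm_num

theorem dec_mk8 (f : Nat → Nat) (hf : ∀ k, f k < 3) (s : Fin 4 ⊕ Fin 4) :
    dec (mk8 f) s = (f (num s) : ZMod 3) := by
  show ((dig (mk8 f) (num s) : ℕ) : ZMod 3) = _
  rw [dig_mk8 f hf (num_lt s)]

theorem q_dec (c : Nat) : Q8 (dec c) = (qn c : ZMod 3) := by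
  rw [qfPlus_apply]
  simp only [quadFormPlus, Fin.sum_univ_four, dec, num, qn, ZMod.natCast_mod, Nat.cast_add, Nat.cast_mul]
  norm_num

theorem polar_dec (c x : Nat) : polar Q8 (dec c) (dec x) = (bn c x : ZMod 3) := by
  simp only [polar, qfPlus_apply, quadFormPlus, Fin.sum_univ_four, dec, num, bn, Pi.add_apply,
    ZMod.natCast_mod, Nat.cast_add, Nat.cast_mul]
  norm_num
  ring

theorem dec_negn (c : Nat) : dec (negn c) = -dec c := by
  funext s
  rw [negn, dec_mk8 _ (fun k => Nat.mod_lt _ (by norm_num)), ZMod.natCast_mod,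
    Nat.cast_sub (le_of_lt (show dig c (num s) < 3 from Nat.mod_lt _ (by norm_num)))]
  simp [dec]
  decide +revert

theorem dec_refln {c : Nat} (hc : Q8 (dec c) = 1) (hc0 : Q8 (dec c) ≠ 0) (x : Nat) :
    (refl Q8 (dec c) hc0).1 (dec x) = dec (refln c x) := by
  rw [refl_apply, polar_dec, hc, inv_one, one_mul]
  funext s
  rw [refln, dec_mk8 _ (fun k => Nat.mod_lt _ (by norm_num)), ZMod.natCast_mod]
  have h2 : (2 : ZMod 3) = -1 := by decide
  simp [dec, h2, sub_eq_add_neg]

/-- The code of point `i`. -/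
noncomputable def vc (i : Nat) : Nat := entry vecTbl 16 i

/-- One more than the point of a code, or zero. -/
noncomputable def ix (c : Nat) : Nat := entry idxTbl 16 c

/-- The vector of point `i`. -/
noncomputable def vec (i : Fin 1080) : V8 := dec (vc i)

theorem vec_ok : allFrom (fun i => Nat.blt (vc i) 6561 && Nat.beq (qn (vc i)) 1 &&
    Nat.beq (ix (vc i)) (i + 1) && Nat.beq (ix (negn (vc i))) (i + 1)) 1080 0 = true := by
  decide +kernel

theorem ix_ok : allFrom (fun c => !Nat.beq (qn c) 1 || (Nat.blt 0 (ix c) && Nat.ble (ix c) 1080 &&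
    (Nat.beq (vc (ix c - 1)) c || Nat.beq (negn (vc (ix c - 1))) c))) 6561 0 = true := by
  decide +kernel

theorem vec_facts (i : Fin 1080) : vc i < 6561 ∧ qn (vc i) = 1 ∧ ix (vc i) = i.1 + 1 ∧
    ix (negn (vc i)) = i.1 + 1 := by
  have h := (allFrom_iff _ _ _).mp vec_ok i.1 (Nat.zero_le _) (by omega)
  simp only [Bool.and_eq_true, Nat.blt_eq, Nat.beq_eq] at h
  exact ⟨h.1.1.1, h.1.1.2, h.1.2, h.2⟩

theorem q_vec (i : Fin 1080) : Q8 (vec i) = 1 := by
  rw [vec, q_dec, (vec_facts i).2.1, Nat.cast_one]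

theorem q_vec_ne (i : Fin 1080) : Q8 (vec i) ≠ 0 := by
  rw [q_vec]; decide

/-- The point of a vector. -/
noncomputable def idxV (v : V8) : Fin 1080 :=
  if h : ix (enc v) - 1 < 1080 then ⟨ix (enc v) - 1, h⟩ else 0

theorem enc_dec {c : Nat} (hc : c < 6561) : enc (dec c) = c := by
  simp only [enc, mk8, dec, dig, num, ZMod.val_natCast]
  norm_num
  omega

theorem idxV_vec (i : Fin 1080) : idxV (vec i) = i := by
  obtain ⟨h1, -, h3, -⟩ := vec_facts i
  have h : ix (enc (vec i)) - 1 = i.1 := by rw [vec, enc_dec h1, h3, Nat.add_sub_cancel]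
  unfold idxV
  rw [dif_pos (by rw [h]; exact i.2)]
  exact Fin.ext h

theorem idxV_neg (i : Fin 1080) : idxV (-vec i) = i := by
  obtain ⟨h1, -, -, h4⟩ := vec_facts i
  have hlt : negn (vc i) < 6561 := mk8_lt _ fun k => Nat.mod_lt _ (by norm_num)
  have h : ix (enc (-vec i)) - 1 = i.1 := by
    rw [vec, ← dec_negn, enc_dec hlt, h4, Nat.add_sub_cancel]
  unfold idxV
  rw [dif_pos (by rw [h]; exact i.2)]
  exact Fin.ext h

theorem vec_idxV {v : V8} (hv : Q8 v = 1) : vec (idxV v) = v ∨ vec (idxV v) = -v := by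
  have hq : qn (enc v) = 1 := by
    have h := q_dec (enc v)
    rw [dec_enc, hv] at h
    have h3 : qn (enc v) < 3 := Nat.mod_lt _ (by norm_num)
    generalize qn (enc v) = m at h h3
    interval_cases m
    · exact absurd h (by decide)
    · rfl
    · exact absurd h (by decide)
  have h := (allFrom_iff _ _ _).mp ix_ok (enc v) (Nat.zero_le _) (by have := enc_lt v; omega)
  simp only [hq, Nat.beq_refl, Bool.not_true, Bool.false_or, Bool.and_eq_true, Bool.or_eq_true,
    Nat.blt_eq, Nat.ble_eq, Nat.beq_eq] at h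
  obtain ⟨⟨h1, h2⟩, h3⟩ := h
  have hlt : ix (enc v) - 1 < 1080 := by omega
  unfold vec idxV
  rw [dif_pos hlt]
  rcases h3 with h3 | h3
  · exact Or.inl (by rw [h3, dec_enc])
  · refine Or.inr ?_
    have h4 : dec (negn (vc (ix (enc v) - 1))) = v := by rw [h3, dec_enc]
    rw [dec_negn] at h4
    exact neg_eq_iff_eq_neg.mp h4

theorem idxV_map (g : orth Q8) {v : V8} (hv : Q8 v = 1) :
    idxV (g.1 (vec (idxV v))) = idxV (g.1 v) := by
  have hw : Q8 (g.1 v) = 1 := by rw [map_orth g, hv]
  rcases vec_idxV hv with h | h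
  · rw [h]
  · rw [h, map_neg]
    rcases vec_idxV hw with h' | h'
    · conv_lhs => rw [← h', idxV_neg]
    · conv_lhs => rw [← h', idxV_vec]

theorem idxV_inv (g : orth Q8) (i : Fin 1080) : idxV (g⁻¹.1 (vec (idxV (g.1 (vec i))))) = i := by
  rw [idxV_map g⁻¹ (by rw [map_orth g, q_vec]), ← orth_mul_apply, inv_mul_cancel]
  exact idxV_vec i

/-- The action on the lines of norm one. -/
noncomputable def toPerm (g : orth Q8) : Equiv.Perm (Fin 1080) where
  toFun i := idxV (g.1 (vec i))
  invFun i := idxV (g⁻¹.1 (vec i))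
  left_inv i := idxV_inv g i
  right_inv i := by
    have h := idxV_inv g⁻¹ i
    rwa [inv_inv] at h

theorem toPerm_apply (g : orth Q8) (i : Fin 1080) : toPerm g i = idxV (g.1 (vec i)) := rfl

/-- The action as a homomorphism. -/
noncomputable def piV : orth Q8 →* Equiv.Perm (Fin 1080) :=
  MonoidHom.mk' toPerm fun g h => Equiv.ext fun i => by
    rw [Equiv.Perm.mul_apply, toPerm_apply, toPerm_apply, toPerm_apply,
      idxV_map g (by rw [map_orth h, q_vec]), orth_mul_apply]

theorem piV_apply (g : orth Q8) (i : Fin 1080) : piV g i = idxV (g.1 (vec i)) := rfl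

/-- The reflection of point `i`. -/
noncomputable def rr (i : Fin 1080) : orth Q8 := refl Q8 (vec i) (q_vec_ne i)

theorem piV_rr (i j : Fin 1080) : piV (rr i) j = idxV (dec (refln (vc i) (vc j))) := by
  rw [piV_apply]
  exact congrArg idxV (dec_refln (q_vec i) (q_vec_ne i) _)

theorem refl_eq_rr {v : V8} (hv : Q8 v ≠ 0) (h : Q8 v = 1) : refl Q8 v hv = rr (idxV v) := by
  apply orth_ext
  intro x
  rw [rr, refl_apply, refl_apply, q_vec, h]
  rcases vec_idxV h with e | e
  · rw [e]
  · rw [e]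
    simp [polar_neg_left]

theorem conj_rr (g : orth Q8) (i : Fin 1080) : g * rr i * g⁻¹ = rr (piV g i) := by
  rw [rr, conj_refl, refl_eq_rr _ (by rw [map_orth g, q_vec]), piV_apply]

theorem piV_negOne : piV (negOne Q8) = 1 := Equiv.ext fun i => by
  rw [piV_apply, negOne_apply, idxV_neg, Equiv.Perm.one_apply]

theorem nondeg : (polarBilin Q8).Nondegenerate := by
  refine nondegenerate_iff_left _ fun x hx => funext fun s => ?_
  rcases s with i | i
  · have h := hx (Pi.single (Sum.inr i) 1)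
    fin_cases i <;> simpa [polar, qfPlus_apply, quadFormPlus, Fin.sum_univ_four, Pi.single_apply, mul_add, add_mul] using h
  · have h := hx (Pi.single (Sum.inl i) 1)
    fin_cases i <;> simpa [polar, qfPlus_apply, quadFormPlus, Fin.sum_univ_four, Pi.single_apply, mul_add, add_mul] using h

theorem five_le : 5 ≤ Module.finrank (ZMod 3) V8 := by simp

theorem quasi : Cfsg.IsQuasisimple (sGroup Q8) := by
  refine ⟨⟨?_⟩, isSimpleGroup_sGroup nondeg five_le⟩
  rw [eq_top_iff]
  intro x _
  have hx : x.1 ∈ ⁅sGroup Q8, sGroup Q8⁆ := sGroup_le_bracket nondeg five_le x.2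
  rw [← Subgroup.map_subtype_commutator] at hx
  obtain ⟨y, hy, hyx⟩ := hx
  rwa [← Subtype.ext hyx]

theorem refl_pair_mem (i j : Fin 1080) : rr i * rr j ∈ sGroup Q8 := by
  obtain ⟨g, hg, hgv⟩ := exists_move_norm nondeg five_le (q_vec_ne i) ((q_vec i).trans (q_vec j).symm)
  have hj : piV g i = j := by rw [piV_apply, hgv, idxV_vec]
  have hi : (rr i)⁻¹ = rr i := inv_eq_of_mul_eq_one_right (refl_sq _ _)
  rw [← hj, ← conj_rr, show rr i * (g * rr i * g⁻¹) = (rr i * g * (rr i)⁻¹) * g⁻¹ by
    rw [hi]; simp only [mul_assoc]]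
  exact mul_mem ((sGroup_normal (Q := Q8)).conj_mem g hg _) (inv_mem hg)

/-- The permutation image of the derived isometry group. -/
noncomputable def RR : Subgroup (Equiv.Perm (Fin 1080)) := (sGroup Q8).map piV

/-- The projection onto the image. -/
noncomputable def proj : ↥(sGroup Q8) →* ↥RR :=
  (piV.comp (sGroup Q8).subtype).codRestrict RR fun g => Subgroup.mem_map_of_mem piV g.2

theorem proj_surj : Function.Surjective proj := by
  rintro ⟨_, g, hg, rfl⟩
  exact ⟨⟨g, hg⟩, rfl⟩

theorem eq_one_or_neg {g : orth Q8} (hg : ∀ k ∈ sGroup Q8, g * k = k * g) :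
    g = 1 ∨ g = negOne Q8 := by
  obtain ⟨e, he, he0⟩ := exists_singular (isReg_of_nondegenerate nondeg) (by simp)
  refine eq_one_or_negOne_of_lines (isReg_of_nondegenerate nondeg) he he0 (by simp) fun u hu =>
    exists_smul_of_commute nondeg (by simp) (fun k hk => hg k ?_) hu
  rwa [commutator_eq_sGroup nondeg five_le] at hk

/-- The image of a point under a tabulated reflection. -/
noncomputable def rn (a i : Nat) : Nat := ix (refln (vc a) (vc i)) - 1

theorem idxV_val {v : V8} (hv : Q8 v = 1) : (idxV v : Nat) = ix (enc v) - 1 := by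
  have hq : qn (enc v) = 1 := by
    have h := q_dec (enc v)
    rw [dec_enc, hv] at h
    have h3 : qn (enc v) < 3 := Nat.mod_lt _ (by norm_num)
    generalize qn (enc v) = m at h h3
    interval_cases m
    · exact absurd h (by decide)
    · rfl
    · exact absurd h (by decide)
  have h := (allFrom_iff _ _ _).mp ix_ok (enc v) (Nat.zero_le _) (by have := enc_lt v; omega)
  simp only [hq, Nat.beq_refl, Bool.not_true, Bool.false_or, Bool.and_eq_true, Bool.or_eq_true,
    Nat.blt_eq, Nat.ble_eq, Nat.beq_eq] at h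
  unfold idxV
  rw [dif_pos (by omega)]

theorem piV_rr_val (i j : Fin 1080) : ((piV (rr i) j : Fin 1080) : Nat) = rn i j := by
  rw [piV_rr]
  have hq : Q8 (dec (refln (vc i) (vc j))) = 1 := by
    rw [← dec_refln (q_vec i) (q_vec_ne i)]
    exact (map_orth (rr i) (vec j)).trans (q_vec j)
  rw [idxV_val hq, enc_dec (show refln (vc i) (vc j) < 6561 from mk8_lt _ fun k => Nat.mod_lt _ (by norm_num))]
  rfl

/-- The two points used to see that the image is non-trivial. -/
theorem moves : piV (rr 0 * rr 1) 0 ≠ 0 := by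
  intro h
  have h1 : rn 0 (rn 1 0) = 0 := by
    have h2 := congrArg Fin.val h
    rw [map_mul, Equiv.Perm.mul_apply, piV_rr_val, piV_rr_val] at h2
    simpa using h2
  exact absurd h1 (by decide +kernel)

theorem ker_proj : proj.ker = Subgroup.center (sGroup Q8) := by
  haveI := quasi
  refine le_antisymm ?_ fun z hz => ?_
  · rcases ComponentsBasic.normal_le_center_or_eq_top quasi proj.ker with h | h
    · exact h
    · exfalso
      have h1 : (⟨_, refl_pair_mem 0 1⟩ : ↥(sGroup Q8)) ∈ proj.ker := h ▸ Subgroup.mem_top _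
      have h2 : piV (rr 0 * rr 1) = 1 := congrArg Subtype.val (MonoidHom.mem_ker.mp h1)
      exact moves (by rw [h2]; rfl)
  · rw [MonoidHom.mem_ker]
    apply Subtype.ext
    show piV z.1 = 1
    rcases eq_one_or_neg (g := z.1) fun k hk =>
      (congrArg Subtype.val (Subgroup.mem_center_iff.mp hz ⟨k, hk⟩)).symm with h | h
    · rw [h, map_one]
    · rw [h, piV_negOne]

theorem equiv_POmega : Nonempty (↥RR ≃* Cfsg.POmega (ZMod 3) (Cfsg.quadFormPlus 4 (ZMod 3))) := by
  let ψ : Cfsg.Omega (ZMod 3) (Cfsg.quadFormPlus 4 (ZMod 3)) ≃* ↥(sGroup Q8) :=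
    (omegaEquiv Q8 _ (LinearEquiv.refl _ _) (fun x => (qfPlus_apply (ZMod 3) 4 x).symm)).trans
      (MulEquiv.subgroupCongr (commutator_eq_sGroup nondeg five_le))
  have hc : (Subgroup.center (Cfsg.Omega (ZMod 3) (Cfsg.quadFormPlus 4 (ZMod 3)))).map ψ.toMonoidHom =
      Subgroup.center (sGroup Q8) := by
    ext x
    constructor
    · rintro ⟨y, hy, rfl⟩
      rw [Subgroup.mem_center_iff]
      intro z
      obtain ⟨z, rfl⟩ := ψ.surjective z
      show ψ z * ψ y = ψ y * ψ z
      rw [← map_mul, ← map_mul, Subgroup.mem_center_iff.1 hy z]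
    · intro hx
      refine ⟨ψ.symm x, Subgroup.mem_center_iff.2 fun z => ψ.injective ?_, ψ.apply_symm_apply x⟩
      rw [map_mul, map_mul, ψ.apply_symm_apply, Subgroup.mem_center_iff.1 hx (ψ z)]
  exact ⟨((QuotientGroup.congr _ _ ψ hc).trans
    ((QuotientGroup.quotientMulEquivOfEq ker_proj.symm).trans
      (QuotientGroup.quotientKerEquivOfSurjective proj proj_surj))).symm⟩

theorem simple_RR : IsSimpleGroup ↥RR := by
  obtain ⟨e⟩ := equiv_POmega
  haveI := OrthUnitarySimpleStd.isSimpleGroup_POmega Q8 (Cfsg.quadFormPlus 4 (ZMod 3))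
    (LinearEquiv.refl _ _) (fun x => (qfPlus_apply (ZMod 3) 4 x).symm) nondeg five_le
  exact e.isSimpleGroup

end Cfsg.Agent.ThreeTransFi23TrialLin74
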