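import Cfsg.Agent.Lib.CosetCertFi23FData
import Cfsg.Agent.Lib.ThreeTransFi23Data41
import Cfsg.Agent.Lib.ThreeTransFi23TrialLin74

/-! Checks on the table of Fi23 for its triality subgroup. -/

set_option autoImplicit false
set_option maxRecDepth 100000
set_option Elab.async false

namespace Cfsg.Agent.ThreeTransFi23TrialCheck74

open Cfsg.Agent.CosetCertCore Cfsg.Agent.CosetCertTable Cfsg.Agent.CosetCertPres
open Cfsg.Agent.ThreeTransFi23TrialData74 Cfsg.Agent.ThreeTransFi23TrialLin74

/-- The table. -/
noncomputable abbrev T : Table := CosetCertFi23FData.table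
/-- Point of a generator. -/
def e (x : Nat) : Nat := ThreeTransFi23Data41.EL.getD x 0
/-- Point number `k` of the subgroup. -/
noncomputable def om (k : Nat) : Nat := entry omTbl 16 k
/-- One more than the position of a point, or zero. -/
noncomputable def pos (p : Nat) : Nat := entry posTbl 16 p
/-- Parent data. -/
noncomputable def pp (p : Nat) : Nat := Nat.land (entry parTbl 32 p) 65535
/-- Parent data. -/
noncomputable def pg (p : Nat) : Nat := Nat.land (Nat.shiftRight (entry parTbl 32 p) 16) 15
/-- Parent data. -/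
noncomputable def pd (p : Nat) : Nat := Nat.shiftRight (entry parTbl 32 p) 20
/-- The colour of a position. -/
def colN (t : Nat) : Nat := (t - 1) / 1080
/-- Local point of a generator in the first colour. -/
noncomputable def la (a : Nat) : Nat := pos (e a) - 1
/-- Colours swapped by the generators. -/
def sw12 : List Nat := [0, 2, 1]
/-- Colours swapped by the extra transposition. -/
def sw02 : List Nat := [2, 1, 0]
/-- The points of the generators of the subgroup. -/
def pts : List Nat := [e 1, e 2, e 3, e 4, e 5, e 6, e 7, e 8, e 9, X]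

theorem om_ok : allFrom (fun k => Nat.blt (om k) T.N && Nat.beq (pos (om k)) (k + 1)) 3240 0 = true := by
  decide +kernel

theorem pos_ok : allFrom (fun p => Nat.beq (pos p) 0 ||
    (Nat.ble (pos p) 3240 && Nat.beq (om (pos p - 1)) p)) 31671 0 = true := by
  decide +kernel

theorem act_ok : allFrom (fun k => force (om k) fun p => allFrom (fun b => force (b + 1) fun a =>
    force (pos (T.img a p)) fun t => Nat.blt 0 t && Nat.beq (colN t) (sw12.getD (colN (k + 1)) 3) &&
      (Nat.ble 1080 k || Nat.beq (t - 1) (rn (la a) k))) 9 0) 3240 0 = true := by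
  decide +kernel

theorem actX_ok : allFrom (fun k => force (pos (T.run XW (om k))) fun t =>
    Nat.blt 0 t && Nat.beq (colN t) (sw02.getD (colN (k + 1)) 3)) 3240 0 = true := by
  decide +kernel

theorem tree_ok : allFrom (fun p => Nat.beq p (e 3) || Nat.beq p X || Nat.beq p Z ||
    (force (pp p) fun q => Nat.blt 0 (pg p) && Nat.blt (pg p) 10 && Nat.blt q T.N &&
      Nat.beq (T.img (pg p) q) p && Nat.blt (pd q) (pd p))) 31671 0 = true := by
  decide +kernel

theorem roots_ok : T.N = 31671 ∧ T.NG = 10 ∧ pos (e 3) = 1 ∧ pos X = 1081 ∧ pos Z = 0 ∧ Z < 31671 ∧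
    (∀ a < 10, 1 ≤ a → la a < 1080 ∧ pos (e a) ≠ 0) ∧ XW.reverse = XW ∧ (∀ x ∈ XW, x < 10) ∧
    T.run (XW.drop 36) (e (XW.getD 35 0)) = X ∧
    (XW.drop 36).reverse ++ [XW.getD 35 0] ++ XW.drop 36 = XW := by
  decide +kernel

theorem kd_ok : (KD.all fun w => Nat.beq (w.length % 2) 0 && w.all (fun x => Nat.blt 0 x && Nat.blt x 10) &&
      Nat.beq (T.run w (e 3)) (e 3)) = true ∧
    allFrom (fun k => Nat.beq k 0 || KD.any fun w => force (om k) fun p => !Nat.beq (T.run w p) p) 3240 0
      = true := by
  decide +kernel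

theorem ky_ok : (KY.all fun w => Nat.beq (w.length % 2) 0 && w.all (fun x => Nat.blt 0 x && Nat.blt x 10) &&
      Nat.beq (T.run w X) X) = true ∧
    allFrom (fun k => Nat.beq k 1080 || KY.any fun w => force (om k) fun p => !Nat.beq (T.run w p) p)
      2160 1080 = true := by
  decide +kernel

theorem kz_ok : (KZ.all fun w => w.all (fun x => Nat.blt 0 x && Nat.blt x 10) &&
      Nat.beq (T.run w Z) Z) = true ∧
    allFrom (fun p => !Nat.beq (pos p) 0 || Nat.beq p Z || KZ.any fun w => !Nat.beq (T.run w p) p)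
      31671 0 = true := by
  decide +kernel

theorem wx_ok : (∀ b < 9, (WX.getD b []).length % 2 = 0 ∧ (∀ x ∈ WX.getD b [], 0 < x ∧ x < 10) ∧
      ∀ p ∈ pts, T.run (XW ++ [b + 1, 3] ++ XW) p = T.run (WX.getD b []) p) ∧
    ∀ p ∈ pts, T.run ([3] ++ XW ++ [3] ++ XW ++ [3] ++ XW) p = p := by
  decide +kernel

end Cfsg.Agent.ThreeTransFi23TrialCheck74
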