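import Cfsg.Agent.Lib.ThreeTransFi23TrialLin74
import Cfsg.Agent.Lib.CosetCertO73Iso

/-!
# The stabiliser of a line of norm one

In the permutation group PΩ⁺(8,3) on the lines of norm one, the stabiliser of a line is Ω(7,3), embedded on
the orthogonal complement.
-/

set_option autoImplicit false
set_option maxRecDepth 100000

namespace Cfsg.Agent.ThreeTransFi23TrialSeven74

open QuadraticMap Cfsg.Agent Matrix
open OrthUnitaryQuad OrthUnitaryRefl OrthUnitaryOmega OrthUnitaryCentre OrthUnitarySimple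
open OrthUnitaryForms OrthUnitaryStd
open CosetCertCore CosetCertTable CosetCertPres CosetCertRestrict
open ThreeTransFi23TrialData74 ThreeTransFi23TrialLin74

/-- The seven-dimensional space. -/
abbrev V7 : Type := Unit ⊕ (Fin 3 ⊕ Fin 3) → ZMod 3

/-- The component along the fixed vector. -/
def sV (v : V8) : ZMod 3 := v (.inl 3) + v (.inr 3)

/-- The component in the orthogonal complement. -/
def to7 (v : V8) : V7
  | .inl _ => v (.inl 3) - v (.inr 3)
  | .inr (.inl i) => - v (.inl i.castSucc)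
  | .inr (.inr i) => v (.inr i.castSucc)

/-- Putting the components together. -/
def back (s : ZMod 3) (u : V7) : V8
  | .inl ⟨0, _⟩ => - u (.inr (.inl 0))
  | .inl ⟨1, _⟩ => - u (.inr (.inl 1))
  | .inl ⟨2, _⟩ => - u (.inr (.inl 2))
  | .inl ⟨_ + 3, _⟩ => 2 * (s + u (.inl ()))
  | .inr ⟨0, _⟩ => u (.inr (.inr 0))
  | .inr ⟨1, _⟩ => u (.inr (.inr 1))
  | .inr ⟨2, _⟩ => u (.inr (.inr 2))
  | .inr ⟨_ + 3, _⟩ => 2 * (s - u (.inl ()))

theorem four : ∀ a : ZMod 3, 2 * a + 2 * a = a := by decide

theorem sV_back (s : ZMod 3) (u : V7) : sV (back s u) = s := by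
  show 2 * (s + u (.inl ())) + 2 * (s - u (.inl ())) = s
  linear_combination four s

theorem to7_back (s : ZMod 3) (u : V7) : to7 (back s u) = u := by
  funext t
  rcases t with ⟨⟩ | i | i
  · show 2 * (s + u (.inl ())) - 2 * (s - u (.inl ())) = u (.inl ())
    linear_combination four (u (.inl ()))
  · fin_cases i <;> exact neg_neg _
  · fin_cases i <;> rfl

theorem back_to (v : V8) : back (sV v) (to7 v) = v := by
  funext t
  rcases t with i | i <;> fin_cases i
  · exact neg_neg _
  · exact neg_neg _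
  · exact neg_neg _
  · show 2 * (v (.inl 3) + v (.inr 3) + (v (.inl 3) - v (.inr 3))) = v (.inl 3)
    linear_combination four (v (.inl 3))
  · rfl
  · rfl
  · rfl
  · show 2 * (v (.inl 3) + v (.inr 3) - (v (.inl 3) - v (.inr 3))) = v (.inr 3)
    linear_combination four (v (.inr 3))

theorem back_add (s s' : ZMod 3) (u u' : V7) : back (s + s') (u + u') = back s u + back s' u' := by
  funext t
  rcases t with i | i <;> fin_cases i <;> simp only [back, Pi.add_apply] <;> ring

theorem back_smul (a s : ZMod 3) (u : V7) : back (a * s) (a • u) = a • back s u := by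
  funext t
  rcases t with i | i <;> fin_cases i <;> simp only [back, Pi.smul_apply, smul_eq_mul] <;> ring

theorem to7_add (v w : V8) : to7 (v + w) = to7 v + to7 w := by
  funext t
  rcases t with ⟨⟩ | i | i <;> simp only [to7, Pi.add_apply] <;> ring

theorem to7_smul (a : ZMod 3) (v : V8) : to7 (a • v) = a • to7 v := by
  funext t
  rcases t with ⟨⟩ | i | i <;> simp only [to7, Pi.smul_apply, smul_eq_mul] <;> ring

theorem q_back (s : ZMod 3) (u : V7) :
    Q8 (back s u) = s ^ 2 - Cfsg.quadFormOdd 3 (ZMod 3) u := by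
  rw [qfPlus_apply]
  simp only [Cfsg.quadFormPlus, Cfsg.quadFormOdd, Fin.sum_univ_four, Fin.sum_univ_three]
  show (-u (.inr (.inl 0))) * u (.inr (.inr 0)) + (-u (.inr (.inl 1))) * u (.inr (.inr 1))
    + (-u (.inr (.inl 2))) * u (.inr (.inr 2)) + 2 * (s + u (.inl ())) * (2 * (s - u (.inl ()))) = _
  linear_combination four (s ^ 2 - u (.inl ()) ^ 2)

/-- The matrix of an isometry in seven dimensions. -/
abbrev m7 (g : CosetCertO73Iso.O7) : Matrix (Unit ⊕ (Fin 3 ⊕ Fin 3)) (Unit ⊕ (Fin 3 ⊕ Fin 3)) (ZMod 3) :=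
  g.1.1

/-- An isometry of the complement, on the whole space. -/
def liftV (g : CosetCertO73Iso.O7) (v : V8) : V8 := back (sV v) (m7 g *ᵥ to7 v)

theorem liftV_mul (g h : CosetCertO73Iso.O7) (v : V8) : liftV (g * h) v = liftV g (liftV h v) := by
  simp only [liftV, sV_back, to7_back, Matrix.mulVec_mulVec]
  rfl

theorem liftV_one (v : V8) : liftV 1 v = v := by
  rw [liftV, show m7 1 = 1 from rfl, Matrix.one_mulVec, back_to]

/-- The linear equivalence of a lift. -/
def liftEquiv (g : CosetCertO73Iso.O7) : V8 ≃ₗ[ZMod 3] V8 where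
  toFun := liftV g
  map_add' v w := by
    simp only [liftV, to7_add, Matrix.mulVec_add]
    rw [← back_add]
    congr 1
    simp only [sV, Pi.add_apply]
    ring
  map_smul' a v := by
    simp only [liftV, to7_smul, Matrix.mulVec_smul, RingHom.id_apply]
    rw [← back_smul]
    congr 1
    simp only [sV, Pi.smul_apply, smul_eq_mul]
    ring
  invFun := liftV g⁻¹
  left_inv v := by rw [← liftV_mul, inv_mul_cancel, liftV_one]
  right_inv v := by rw [← liftV_mul, mul_inv_cancel, liftV_one]

theorem liftEquiv_mem (g : CosetCertO73Iso.O7) : liftEquiv g ∈ orth Q8 := by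
  intro v
  show Q8 (back (sV v) (m7 g *ᵥ to7 v)) = Q8 v
  have hg : Cfsg.quadFormOdd 3 (ZMod 3) (m7 g *ᵥ to7 v) = Cfsg.quadFormOdd 3 (ZMod 3) (to7 v) :=
    g.2 (to7 v) 0
  conv_rhs => rw [← back_to v]
  rw [q_back, q_back, hg]

/-- The embedding of the seven-dimensional isometry group. -/
def iota : CosetCertO73Iso.O7 →* orth Q8 :=
  MonoidHom.mk' (fun g => ⟨liftEquiv g, liftEquiv_mem g⟩) fun g h => orth_ext (liftV_mul g h)

theorem vc_zero : vc 0 = 2214 := by decide +kernel

theorem fix_zero (g : CosetCertO73Iso.O7) : (iota g).1 (vec 0) = vec 0 := by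
  have h : to7 (vec 0) = 0 := by
    have h0 : vec 0 = dec 2214 := congrArg dec vc_zero
    rw [h0]
    decide +kernel
  show back (sV (vec 0)) (m7 g *ᵥ to7 (vec 0)) = vec 0
  conv_rhs => rw [← back_to (vec 0)]
  rw [h, Matrix.mulVec_zero]

/-- The action of the presented group of type O7(3). -/
noncomputable def phi : Pres.Grp CosetCertO73Iso.K73 →* Equiv.Perm (Fin 1080) :=
  piV.comp (iota.comp (PresentedGroup.toGroup
    (lift_rels CosetCertO73.good (by decide +kernel) CosetCertO73Iso.iso CosetCertO73Iso.iso_sq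
      CosetCertO73Iso.iso_rel (by decide +kernel))))

theorem phi_of (k : Fin 8) (i : Fin 1080) :
    phi (PresentedGroup.of k) i = idxV (liftV (CosetCertO73Iso.iso (CosetCertO73Iso.K73.gens.idxOf k)) (vec i)) := by
  simp only [phi, MonoidHom.comp_apply, PresentedGroup.toGroup.of]
  rfl

/-- A moved point. -/
theorem phi_moves : ∃ (k : Fin 8) (i : Fin 1080), phi (PresentedGroup.of k) i ≠ i := by
  refine ⟨0, 1, fun h => ?_⟩
  rw [phi_of] at h
  have hq : Q8 (liftV (CosetCertO73Iso.iso (CosetCertO73Iso.K73.gens.idxOf (0 : Fin 8))) (vec 1)) = 1 :=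
    (liftEquiv_mem _ (vec 1)).trans (q_vec 1)
  have h1 := congrArg Fin.val h
  rw [idxV_val hq] at h1
  revert h1
  decide +kernel

theorem phi_injective : Function.Injective phi := by
  haveI := CosetCertO73Simple.simple
  rw [← MonoidHom.ker_eq_bot_iff]
  refine (Subgroup.Normal.eq_bot_or_eq_top inferInstance).resolve_right fun h => ?_
  obtain ⟨k, i, hki⟩ := phi_moves
  apply hki
  have h1 : phi (PresentedGroup.of k) = 1 := MonoidHom.mem_ker.mp (h ▸ Subgroup.mem_top _)
  rw [h1]
  rfl

theorem phi_range : phi.range ≤ RR ⊓ MulAction.stabilizer (Equiv.Perm (Fin 1080)) (0 : Fin 1080) := by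
  refine le_inf ?_ ?_
  · rw [MonoidHom.range_eq_map, ← CosetCertO73Iso.perfect, phi, ← Subgroup.map_map]
    refine Subgroup.map_mono ?_
    rw [← commutator_eq_sGroup nondeg five_le, commutator_def, Subgroup.map_commutator]
    exact Subgroup.commutator_mono le_top le_top
  · rintro _ ⟨k, rfl⟩
    rw [MulAction.mem_stabilizer_iff, Equiv.Perm.smul_def]
    show piV (iota _) 0 = 0
    rw [piV_apply, fix_zero, idxV_vec]

theorem card_POmega8 :
    Nat.card (Cfsg.POmega (ZMod 3) (Cfsg.quadFormPlus 4 (ZMod 3))) = 4952179814400 := by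
  have h := card_POmega_withBase (F := ZMod 3) nondegenerate_qfNil 4 (by norm_num) (by simp) (by simp)
    (Cfsg.quadFormPlus 4 (ZMod 3)) (eqPlus 4) (eqPlus_isometry 4)
  rw [if_neg (by decide), if_pos ((negOne_mem_plus (ZMod.card 3) (by decide) 4).mpr (by norm_num)),
    card_isometryGroup_plus (ZMod.card 3) 3] at h
  simp [Finset.prod_range_succ] at h
  omega

theorem card_RR : Nat.card ↥RR = 4952179814400 := by
  obtain ⟨e⟩ := equiv_POmega
  rw [Nat.card_congr e.toEquiv, card_POmega8]

/-- The stabiliser of the first line. -/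
theorem equiv_stab (htr : ∀ j : Fin 1080, ∃ t ∈ RR, t 0 = j) :
    Nonempty (↥(RR ⊓ MulAction.stabilizer (Equiv.Perm (Fin 1080)) (0 : Fin 1080)) ≃*
      Cfsg.POmega (ZMod 3) (Cfsg.quadFormOdd 3 (ZMod 3))) := by
  obtain ⟨e⟩ := CosetCertO73Iso.equiv_pomega
  haveI : Finite (Pres.Grp CosetCertO73Iso.K73) :=
    Nat.finite_of_card_ne_zero (by rw [CosetCertO73Iso.card_k]; decide)
  let S := RR ⊓ MulAction.stabilizer (Equiv.Perm (Fin 1080)) (0 : Fin 1080)
  have hcard : Nat.card ↥S * 1080 = 4952179814400 := by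
    have horb : MulAction.orbit ↥RR (0 : Fin 1080) = Set.univ :=
      Set.eq_univ_of_forall fun j => by
        obtain ⟨t, ht, e⟩ := htr j
        exact ⟨⟨t, ht⟩, e⟩
    have h1 := Nat.card_congr (MulAction.orbitProdStabilizerEquivGroup ↥RR (0 : Fin 1080))
    rw [Nat.card_prod, card_RR, Nat.card_congr (Equiv.setCongr horb), Nat.card_congr (Equiv.Set.univ _),
      Nat.card_eq_fintype_card (α := Fin 1080), Fintype.card_fin, mul_comm] at h1
    rw [← h1]
    congr 1
    refine Nat.card_congr ⟨fun g => ⟨⟨g.1, g.2.1⟩, g.2.2⟩, fun g => ⟨g.1.1, g.1.2, g.2⟩,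
      fun g => rfl, fun g => rfl⟩
  let ψ : Pres.Grp CosetCertO73Iso.K73 →* ↥S := phi.codRestrict S fun k => phi_range ⟨k, rfl⟩
  have hinj : Function.Injective ψ := fun a b h => phi_injective (congrArg Subtype.val h)
  have hbij : Function.Bijective ψ := by
    rw [Nat.bijective_iff_injective_and_card]
    refine ⟨hinj, ?_⟩
    rw [CosetCertO73Iso.card_k]
    omega
  exact ⟨(MulEquiv.ofBijective ψ hbij).symm.trans e⟩

end Cfsg.Agent.ThreeTransFi23TrialSeven74
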