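import Cfsg.Agent.Lib.ThreeTransFi23TrialCheck74
import Cfsg.Agent.Lib.ThreeTransAut41
import Cfsg.Agent.Lib.CosetCertFi23Simple

/-!
# The triality subgroup of the presented group Fi23

The subgroup generated by `b, …, j` and one further transposition acts faithfully on 3240 points in three
colours; the colour preserving part is generated by products of pairs of `b, …, j` and has trivial
centraliser.
-/

set_option autoImplicit false
set_option maxRecDepth 100000

namespace Cfsg.Agent.ThreeTransFi23TrialSub74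

open Cfsg.Agent.CosetCertCore Cfsg.Agent.CosetCertTable Cfsg.Agent.CosetCertPres
open Cfsg.Agent.ThreeTransAut41
open Cfsg.Agent.CosetCertFi23Simple (P23)
open Cfsg.Agent.ThreeTransFi23TrialData74 Cfsg.Agent.ThreeTransFi23TrialCheck74

local notation "hh" => CosetCertFi23F.enumerated

/-- The points. -/
abbrev Pt : Type := Fin T.N

/-- The presented group. -/
abbrev K : Type := Pres.Grp P23

/-- The action. -/
noncomputable abbrev act : K →* Equiv.Perm Pt := rho hh

theorem N_eq : T.N = 31671 := roots_ok.1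
theorem NG_eq : T.NG = 10 := roots_ok.2.1

theorem e_lt (x : Nat) : e x < T.N := by
  rw [N_eq]
  rcases Nat.lt_or_ge x 10 with h | h
  · exact (by decide +kernel : ∀ y < 10, e y < 31671) x h
  · rw [e, List.getD_eq_default _ _ (by simpa using h)]; norm_num

/-- Point of a generator. -/
noncomputable def E (x : Nat) : Pt := ⟨e x, e_lt x⟩
/-- The point of the extra transposition. -/
noncomputable def PX : Pt := ⟨X, by rw [N_eq]; norm_num⟩
/-- A point outside. -/
noncomputable def PZ : Pt := ⟨Z, by rw [N_eq]; norm_num⟩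

/-- The extra transposition. -/
noncomputable def xx : K := val P23.gg XW

theorem xx_inv : xx⁻¹ = xx := by
  rw [xx, ← val_reverse _ CosetCertFi23Simple.invol, roots_ok.2.2.2.2.2.2.2.1]

theorem xx_sq : xx * xx = 1 := by
  conv_lhs => arg 1; rw [← xx_inv]
  exact inv_mul_cancel _

theorem act_gen {a : Nat} (ha : a < 10) (p : Pt) :
    ((act (P23.gg a) p : Pt) : Nat) = T.img a p :=
  img_eq hh (x := a) (by rw [NG_eq]; exact ha) p

theorem run_val {w : List Nat} (hw : ∀ x ∈ w, x < 10) (p : Pt) :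
    (((act (val P23.gg w))⁻¹ p : Pt) : Nat) = T.run w p :=
  inv_run hh (fun x hx => by rw [NG_eq]; exact hw x hx) p

theorem act_xx (p : Pt) : ((act xx p : Pt) : Nat) = T.run XW p := by
  rw [← run_val roots_ok.2.2.2.2.2.2.2.2.1 p, ← map_inv, ← xx, xx_inv]

/-- The nine generators. -/
def G9 : Set K := {g | ∃ a, 0 < a ∧ a < 10 ∧ g = P23.gg a}

/-- The subgroup of type O8+(3):2. -/
noncomputable def L1 : Subgroup K := Subgroup.closure G9

/-- The generators of the triality subgroup. -/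
def GS : Set K := insert xx G9

/-- The triality subgroup. -/
noncomputable def LL : Subgroup K := Subgroup.closure GS

/-- The even part. -/
noncomputable def T0 : Subgroup K :=
  Subgroup.closure {g | ∃ a b, 0 < a ∧ a < 10 ∧ 0 < b ∧ b < 10 ∧ g = P23.gg a * P23.gg b}

theorem gg_sq' (a : Nat) : P23.gg a * P23.gg a = 1 := CosetCertFi23Simple.invol a

theorem gg_inv (a : Nat) : (P23.gg a)⁻¹ = P23.gg a := inv_eq_of_mul_eq_one_right (gg_sq' a)

theorem gg_mem_L1 {a : Nat} (h0 : 0 < a) (h : a < 10) : P23.gg a ∈ L1 :=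
  Subgroup.subset_closure ⟨a, h0, h, rfl⟩

theorem L1_le : L1 ≤ LL := Subgroup.closure_mono (Set.subset_insert _ _)

theorem xx_mem : xx ∈ LL := Subgroup.subset_closure (Set.mem_insert _ _)

theorem gg_mem {a : Nat} (h0 : 0 < a) (h : a < 10) : P23.gg a ∈ LL := L1_le (gg_mem_L1 h0 h)

theorem T0_le_L1 : T0 ≤ L1 := by
  rw [T0, Subgroup.closure_le]
  rintro _ ⟨a, b, ha0, ha, hb0, hb, rfl⟩
  exact mul_mem (gg_mem_L1 ha0 ha) (gg_mem_L1 hb0 hb)

theorem pair_mem {a b : Nat} (ha0 : 0 < a) (ha : a < 10) (hb0 : 0 < b) (hb : b < 10) :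
    P23.gg a * P23.gg b ∈ T0 :=
  Subgroup.subset_closure ⟨a, b, ha0, ha, hb0, hb, rfl⟩

theorem val_mem_L1 {w : List Nat} (hw : ∀ x ∈ w, 0 < x ∧ x < 10) : val P23.gg w ∈ L1 := by
  induction w with
  | nil => exact one_mem _
  | cons x w ih =>
    rw [val_cons]
    exact mul_mem (gg_mem_L1 (hw x (by simp)).1 (hw x (by simp)).2)
      (ih fun y hy => hw y (List.mem_cons_of_mem _ hy))

theorem val_mem_T0 : ∀ (n : Nat) {w : List Nat}, w.length = 2 * n → (∀ x ∈ w, 0 < x ∧ x < 10) →
    val P23.gg w ∈ T0 := by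
  intro n
  induction n with
  | zero =>
    intro w hl _
    rw [List.eq_nil_of_length_eq_zero (by omega : w.length = 0)]
    exact one_mem _
  | succ n ih =>
    intro w hl hw
    match w, hl with
    | x :: y :: r, hl =>
      rw [val_cons, val_cons, ← mul_assoc]
      exact mul_mem (pair_mem (hw x (by simp)).1 (hw x (by simp)).2 (hw y (by simp)).1 (hw y (by simp)).2)
        (ih (by simp at hl; omega) fun z hz => hw z (by simp [hz]))
    | [_], hl => simp at hl; omega

theorem even_mem_T0 {w : List Nat} (hl : w.length % 2 = 0) (hw : ∀ x ∈ w, 0 < x ∧ x < 10) :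
    val P23.gg w ∈ T0 := val_mem_T0 (w.length / 2) (by omega) hw

theorem gg3_conj {g : K} (hg : g ∈ T0) {c : Nat} (hc0 : 0 < c) (hc : c < 10) :
    P23.gg c * g * P23.gg c ∈ T0 := by
  induction hg using Subgroup.closure_induction with
  | mem g hg =>
    obtain ⟨a, b, ha0, ha, hb0, hb, rfl⟩ := hg
    rw [show P23.gg c * (P23.gg a * P23.gg b) * P23.gg c =
      (P23.gg c * P23.gg a) * (P23.gg b * P23.gg c) by simp only [mul_assoc]]
    exact mul_mem (pair_mem hc0 hc ha0 ha) (pair_mem hb0 hb hc0 hc)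
  | one => rw [mul_one, gg_sq']; exact one_mem _
  | mul a b _ _ ha hb =>
    rw [show P23.gg c * (a * b) * P23.gg c = (P23.gg c * a * P23.gg c) * (P23.gg c * b * P23.gg c) by
      simp only [mul_assoc]; rw [← mul_assoc (P23.gg c) (P23.gg c) (b * P23.gg c), gg_sq', one_mul]]
    exact mul_mem ha hb
  | inv a _ ha =>
    have := inv_mem ha
    rwa [mul_inv_rev, mul_inv_rev, gg_inv, ← mul_assoc] at this

/-! ### Positions and colours -/

/-- A point of the subgroup. -/
def InO (p : Pt) : Prop := pos p ≠ 0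

/-- The colour of a point. -/
noncomputable def colF (p : Pt) : Fin 3 := ⟨colN (pos p) % 3, Nat.mod_lt _ (by norm_num)⟩

theorem om_facts {k : Nat} (hk : k < 3240) : om k < T.N ∧ pos (om k) = k + 1 := by
  have h := (allFrom_iff _ _ _).mp om_ok k (Nat.zero_le _) (by omega)
  simpa using h

/-- Point number `k` of the subgroup. -/
noncomputable def OM (k : Fin 3240) : Pt := ⟨om k, (om_facts k.2).1⟩

theorem inO_OM (k : Fin 3240) : InO (OM k) := by
  show pos (om k) ≠ 0
  rw [(om_facts k.2).2]; omega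

theorem colF_OM (k : Fin 3240) : (colF (OM k) : Nat) = k.1 / 1080 := by
  show colN (pos (om k)) % 3 = _
  rw [(om_facts k.2).2, colN, Nat.add_sub_cancel]
  omega

theorem exists_OM {p : Pt} (hp : InO p) : ∃ k : Fin 3240, OM k = p ∧ pos p = k.1 + 1 := by
  have h := (allFrom_iff _ _ _).mp pos_ok p.1 (Nat.zero_le _) (by have := p.2; have := N_eq; omega)
  simp only [Bool.or_eq_true, Nat.beq_eq, Bool.and_eq_true, Nat.ble_eq] at h
  rcases h with h | ⟨h1, h2⟩
  · exact absurd h hp
  · refine ⟨⟨pos p - 1, by unfold InO at hp; omega⟩, Fin.ext h2, ?_⟩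
    show pos p = pos p - 1 + 1
    unfold InO at hp
    omega

theorem colN_lt {p : Pt} (hp : InO p) : colN (pos p) < 3 := by
  obtain ⟨k, -, hk⟩ := exists_OM hp
  rw [hk, colN]
  omega

/-- The swap of the colours `1, 2`. -/
def s12 : Equiv.Perm (Fin 3) := Equiv.swap 1 2
/-- The swap of the colours `0, 2`. -/
def s02 : Equiv.Perm (Fin 3) := Equiv.swap 0 2

/-- An element moving colours by a permutation. -/
def ColRel (g : K) (σ : Equiv.Perm (Fin 3)) : Prop :=
  ∀ p : Pt, InO p → InO (act g p) ∧ colF (act g p) = σ (colF p)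

theorem act_facts {a : Nat} (h0 : 0 < a) (ha : a < 10) {p : Pt} {k : Fin 3240} (hk : OM k = p) :
    0 < pos (act (P23.gg a) p) ∧ colN (pos (act (P23.gg a) p)) = sw12.getD (colN (k.1 + 1)) 3 ∧
      (k.1 < 1080 → pos (act (P23.gg a) p) - 1 = ThreeTransFi23TrialLin74.rn (la a) k.1) := by
  have h := (allFrom_iff _ _ _).mp act_ok k.1 (Nat.zero_le _) (by omega)
  simp only [force_eq] at h
  have h2 := (allFrom_iff _ _ _).mp h (a - 1) (Nat.zero_le _) (by omega)
  simp only [force_eq, show a - 1 + 1 = a by omega, Bool.and_eq_true, Bool.or_eq_true,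
    Nat.blt_eq, Nat.beq_eq, Nat.ble_eq] at h2
  rw [act_gen ha, show (p : Nat) = om k from congrArg Fin.val hk.symm]
  exact ⟨h2.1.1, h2.1.2, fun hlt => h2.2.resolve_left (by omega)⟩

theorem colRel_gg {a : Nat} (h0 : 0 < a) (ha : a < 10) : ColRel (P23.gg a) s12 := by
  intro p hp
  obtain ⟨k, hk, hpk⟩ := exists_OM hp
  obtain ⟨h1, h2, -⟩ := act_facts h0 ha hk
  refine ⟨Nat.pos_iff_ne_zero.mp h1, Fin.ext ?_⟩
  show colN (pos (act (P23.gg a) p)) % 3 = _
  have hc : colN (k.1 + 1) < 3 := by rw [colN]; omega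
  rw [h2, show colF p = ⟨colN (k.1 + 1), hc⟩ from Fin.ext (by
    show colN (pos p) % 3 = _; rw [hpk]; exact Nat.mod_eq_of_lt hc)]
  generalize colN (k.1 + 1) = c at hc ⊢
  interval_cases c <;> rfl

theorem colRel_xx : ColRel xx s02 := by
  intro p hp
  obtain ⟨k, hk, hpk⟩ := exists_OM hp
  have h := (allFrom_iff _ _ _).mp actX_ok k.1 (Nat.zero_le _) (by omega)
  simp only [force_eq, Bool.and_eq_true, Nat.blt_eq, Nat.beq_eq] at h
  have e1 : ((act xx p : Pt) : Nat) = T.run XW (om k) := by rw [act_xx, ← hk]; rfl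
  refine ⟨?_, Fin.ext ?_⟩
  · show pos _ ≠ 0
    rw [e1]; omega
  show colN (pos _) % 3 = _
  have hc : colN (k.1 + 1) < 3 := by rw [colN]; omega
  rw [e1, h.2, show colF p = ⟨colN (k.1 + 1), hc⟩ from Fin.ext (by
    show colN (pos p) % 3 = _; rw [hpk]; exact Nat.mod_eq_of_lt hc)]
  generalize colN (k.1 + 1) = c at hc ⊢
  interval_cases c <;> rfl

theorem colRel_mul {g g' : K} {σ σ' : Equiv.Perm (Fin 3)} (h : ColRel g σ) (h' : ColRel g' σ') :
    ColRel (g * g') (σ * σ') := by
  intro p hp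
  obtain ⟨h1, h2⟩ := h' p hp
  obtain ⟨h3, h4⟩ := h _ h1
  rw [map_mul, Equiv.Perm.mul_apply, Equiv.Perm.mul_apply, h4, h2]
  exact ⟨h3, rfl⟩

theorem colRel_one : ColRel 1 1 := fun p hp => by rw [map_one]; exact ⟨hp, rfl⟩

theorem exists_colRel {g : K} (hg : g ∈ LL) : ∃ σ, ColRel g σ := by
  induction hg using Subgroup.closure_induction_left with
  | one => exact ⟨1, colRel_one⟩
  | mul_left x hx y _ ih =>
    obtain ⟨σ, hσ⟩ := ih
    rcases hx with rfl | ⟨a, h0, ha, rfl⟩
    exacts [⟨_, colRel_mul colRel_xx hσ⟩, ⟨_, colRel_mul (colRel_gg h0 ha) hσ⟩]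
  | inv_mul_cancel x hx y _ ih =>
    obtain ⟨σ, hσ⟩ := ih
    rcases hx with rfl | ⟨a, h0, ha, rfl⟩
    · rw [xx_inv]; exact ⟨_, colRel_mul colRel_xx hσ⟩
    · rw [gg_inv]; exact ⟨_, colRel_mul (colRel_gg h0 ha) hσ⟩

theorem colRel_unique {g : K} {σ σ' : Equiv.Perm (Fin 3)} (h : ColRel g σ) (h' : ColRel g σ') : σ = σ' := by
  refine Equiv.ext fun c => ?_
  have hlt : c.1 * 1080 < 3240 := by omega
  have hc : colF (OM ⟨c.1 * 1080, hlt⟩) = c := Fin.ext (by rw [colF_OM]; simp)
  have h1 := (h _ (inO_OM ⟨c.1 * 1080, hlt⟩)).2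
  rw [(h' _ (inO_OM ⟨c.1 * 1080, hlt⟩)).2, hc] at h1
  exact h1.symm

/-- The permutation of the colours. -/
noncomputable def colHom : ↥LL →* Equiv.Perm (Fin 3) :=
  MonoidHom.mk' (fun g => (exists_colRel g.2).choose) fun g h =>
    colRel_unique (exists_colRel (g * h).2).choose_spec
      (colRel_mul (exists_colRel g.2).choose_spec (exists_colRel h.2).choose_spec)

theorem colRel_colHom (g : ↥LL) : ColRel g.1 (colHom g) := (exists_colRel g.2).choose_spec

theorem colHom_gg {a : Nat} (h0 : 0 < a) (ha : a < 10) : colHom ⟨P23.gg a, gg_mem h0 ha⟩ = s12 :=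
  colRel_unique (colRel_colHom _) (colRel_gg h0 ha)

theorem colHom_xx : colHom ⟨xx, xx_mem⟩ = s02 := colRel_unique (colRel_colHom _) colRel_xx

theorem colRel_T0 {g : K} (hg : g ∈ T0) : ColRel g 1 := by
  have h := exists_colRel (L1_le (T0_le_L1 hg))
  suffices ∀ hm : g ∈ LL, colHom ⟨g, hm⟩ = 1 by
    have h2 := colRel_colHom ⟨g, L1_le (T0_le_L1 hg)⟩
    rwa [this] at h2
  clear h
  induction hg using Subgroup.closure_induction with
  | mem g hg =>
    obtain ⟨a, b, ha0, ha, hb0, hb, rfl⟩ := hg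
    intro hm
    rw [show (⟨P23.gg a * P23.gg b, hm⟩ : ↥LL) = ⟨P23.gg a, gg_mem ha0 ha⟩ * ⟨P23.gg b, gg_mem hb0 hb⟩ from rfl,
      map_mul, colHom_gg ha0 ha, colHom_gg hb0 hb]
    decide
  | one => intro hm; rw [show (⟨1, hm⟩ : ↥LL) = 1 from rfl, map_one]
  | mul a b ha' hb' ha hb =>
    intro hm
    rw [show (⟨a * b, hm⟩ : ↥LL) = ⟨a, L1_le (T0_le_L1 ha')⟩ * ⟨b, L1_le (T0_le_L1 hb')⟩ from rfl,
      map_mul, ha, hb, one_mul]
  | inv a ha' ha =>
    intro hm
    rw [show (⟨a⁻¹, hm⟩ : ↥LL) = (⟨a, L1_le (T0_le_L1 ha')⟩ : ↥LL)⁻¹ from rfl, map_inv, ha, inv_one]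

theorem inO_act {g : K} (hg : g ∈ LL) {p : Pt} (hp : InO p) : InO (act g p) :=
  ((exists_colRel hg).choose_spec p hp).1

theorem not_inO_act {g : K} (hg : g ∈ LL) {p : Pt} (hp : ¬ InO p) : ¬ InO (act g p) := fun h => by
  have := inO_act (inv_mem hg) h
  rw [map_inv, Equiv.Perm.inv_def, Equiv.symm_apply_apply] at this
  exact hp this

/-! ### The three orbits of the nine generators -/

theorem orbits : ∀ (n : Nat) (p : Pt), pd p < n →
    ∃ r ∈ [E 3, PX, PZ], ∃ h ∈ L1, act h r = p := by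
  intro n
  induction n with
  | zero => intro p hp; exact absurd hp (Nat.not_lt_zero _)
  | succ n ih =>
    intro p hp
    have h := (allFrom_iff _ _ _).mp tree_ok p.1 (Nat.zero_le _) (by have := p.2; have := N_eq; omega)
    simp only [force_eq, Bool.or_eq_true, Bool.and_eq_true, Nat.beq_eq, Nat.blt_eq] at h
    rcases h with ((h | h) | h) | ⟨⟨⟨⟨h1, h2⟩, h3⟩, h4⟩, h5⟩
    · exact ⟨E 3, by simp, 1, one_mem _, by rw [map_one]; exact Fin.ext h.symm⟩
    · exact ⟨PX, by simp, 1, one_mem _, by rw [map_one]; exact Fin.ext h.symm⟩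
    · exact ⟨PZ, by simp, 1, one_mem _, by rw [map_one]; exact Fin.ext h.symm⟩
    · obtain ⟨r, hr, g, hg, e'⟩ := ih ⟨pp p, h3⟩ (by show pd (pp p) < n; omega)
      refine ⟨r, hr, P23.gg (pg p) * g, mul_mem (gg_mem_L1 h1 h2) hg, ?_⟩
      rw [map_mul, Equiv.Perm.mul_apply, e']
      exact Fin.ext ((act_gen h2 _).trans h4)

theorem inO_E3 : InO (E 3) := by
  show pos (e 3) ≠ 0
  rw [roots_ok.2.2.1]; norm_num

theorem colF_E3 : colF (E 3) = 0 := Fin.ext (by
  show colN (pos (e 3)) % 3 = 0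
  rw [roots_ok.2.2.1]; rfl)

theorem inO_PX : InO PX := by
  show pos X ≠ 0
  rw [roots_ok.2.2.2.1]; norm_num

theorem colF_PX : colF PX = 1 := Fin.ext (by
  show colN (pos X) % 3 = 1
  rw [roots_ok.2.2.2.1]; rfl)

theorem not_inO_PZ : ¬ InO PZ := fun h => h roots_ok.2.2.2.2.1

theorem colRel_L1 {g : K} (hg : g ∈ L1) : ColRel g 1 ∨ ColRel g s12 := by
  induction hg using Subgroup.closure_induction_left with
  | one => exact Or.inl colRel_one
  | mul_left x hx y _ ih =>
    obtain ⟨a, h0, ha, rfl⟩ := hx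
    rcases ih with h | h
    · exact Or.inr (by simpa using colRel_mul (colRel_gg h0 ha) h)
    · exact Or.inl (by simpa [s12] using colRel_mul (colRel_gg h0 ha) h)
  | inv_mul_cancel x hx y _ ih =>
    obtain ⟨a, h0, ha, rfl⟩ := hx
    rw [gg_inv]
    rcases ih with h | h
    · exact Or.inr (by simpa using colRel_mul (colRel_gg h0 ha) h)
    · exact Or.inl (by simpa [s12] using colRel_mul (colRel_gg h0 ha) h)

theorem orbit_out {p : Pt} (hp : ¬ InO p) : ∃ h ∈ L1, act h PZ = p := by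
  obtain ⟨r, hr, h, hh', e'⟩ := orbits _ p (Nat.lt_succ_self _)
  simp only [List.mem_cons, List.not_mem_nil, or_false] at hr
  rcases hr with rfl | rfl | rfl
  · exact absurd (e' ▸ inO_act (L1_le hh') inO_E3) hp
  · exact absurd (e' ▸ inO_act (L1_le hh') inO_PX) hp
  · exact ⟨h, hh', e'⟩

theorem orbit_zero {p : Pt} (hp : InO p) (hc : colF p = 0) : ∃ h ∈ L1, act h (E 3) = p := by
  obtain ⟨r, hr, h, hh', e'⟩ := orbits _ p (Nat.lt_succ_self _)
  simp only [List.mem_cons, List.not_mem_nil, or_false] at hr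
  rcases hr with rfl | rfl | rfl
  · exact ⟨h, hh', e'⟩
  · exfalso
    rcases colRel_L1 hh' with hs | hs <;> have h2 := (hs PX inO_PX).2 <;>
      rw [e', hc, colF_PX] at h2 <;> exact absurd h2 (by decide)
  · exact absurd hp (e' ▸ not_inO_act (L1_le hh') not_inO_PZ)

theorem orbit_other {p : Pt} (hp : InO p) (hc : colF p ≠ 0) : ∃ h ∈ L1, act h PX = p := by
  obtain ⟨r, hr, h, hh', e'⟩ := orbits _ p (Nat.lt_succ_self _)
  simp only [List.mem_cons, List.not_mem_nil, or_false] at hr
  rcases hr with rfl | rfl | rfl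
  · exfalso
    rcases colRel_L1 hh' with hs | hs <;> have h2 := (hs _ inO_E3).2 <;>
      rw [e', colF_E3] at h2 <;> exact hc (h2.trans (by decide))
  · exact ⟨h, hh', e'⟩
  · exact absurd hp (e' ▸ not_inO_act (L1_le hh') not_inO_PZ)

theorem act_xx_E3 : InO (act xx (E 3)) ∧ colF (act xx (E 3)) = 2 := by
  obtain ⟨h1, h2⟩ := colRel_xx _ inO_E3
  exact ⟨h1, h2.trans (by rw [colF_E3]; decide)⟩

theorem orbit_all {p : Pt} (hp : InO p) : ∃ h ∈ LL, act h (E 3) = p := by
  by_cases hc : colF p = 0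
  · obtain ⟨h, hh', e'⟩ := orbit_zero hp hc
    exact ⟨h, L1_le hh', e'⟩
  · obtain ⟨h, hh', e'⟩ := orbit_other hp hc
    obtain ⟨k, hk, e2⟩ := orbit_other act_xx_E3.1 (by rw [act_xx_E3.2]; decide)
    refine ⟨h * k⁻¹ * xx, mul_mem (mul_mem (L1_le hh') (inv_mem (L1_le hk))) xx_mem, ?_⟩
    rw [map_mul, map_mul, Equiv.Perm.mul_apply, Equiv.Perm.mul_apply, ← e2, map_inv,
      Equiv.Perm.inv_def, Equiv.symm_apply_apply, e']

theorem fixes_gg3 : act (P23.gg 3) (E 3) = E 3 :=
  Fin.ext ((act_gen (by norm_num) _).trans ((by decide +kernel : T.img 3 (e 3) = e 3)))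

theorem colHom_L1 {g : K} (hg : g ∈ L1) : g ∈ T0 ∨ g * P23.gg 3 ∈ T0 := by
  induction hg using Subgroup.closure_induction_left with
  | one => exact Or.inl (one_mem _)
  | mul_left x hx y _ ih =>
    obtain ⟨a, h0, ha, rfl⟩ := hx
    rcases ih with h | h
    · refine Or.inr ?_
      have h2 := mul_mem (pair_mem h0 ha (show 0 < 3 by norm_num) (show 3 < 10 by norm_num))
        (gg3_conj h (c := 3) (by norm_num) (by norm_num))
      simpa [mul_assoc, ← mul_assoc (P23.gg 3) (P23.gg 3), gg_sq'] using h2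
    · refine Or.inl ?_
      have h2 := mul_mem (pair_mem h0 ha (show 0 < 3 by norm_num) (show 3 < 10 by norm_num))
        (gg3_conj h (c := 3) (by norm_num) (by norm_num))
      simpa [mul_assoc, ← mul_assoc (P23.gg 3) (P23.gg 3), gg_sq'] using h2
  | inv_mul_cancel x hx y _ ih =>
    obtain ⟨a, h0, ha, rfl⟩ := hx
    rw [gg_inv]
    rcases ih with h | h
    · refine Or.inr ?_
      have h2 := mul_mem (pair_mem h0 ha (show 0 < 3 by norm_num) (show 3 < 10 by norm_num))
        (gg3_conj h (c := 3) (by norm_num) (by norm_num))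
      simpa [mul_assoc, ← mul_assoc (P23.gg 3) (P23.gg 3), gg_sq'] using h2
    · refine Or.inl ?_
      have h2 := mul_mem (pair_mem h0 ha (show 0 < 3 by norm_num) (show 3 < 10 by norm_num))
        (gg3_conj h (c := 3) (by norm_num) (by norm_num))
      simpa [mul_assoc, ← mul_assoc (P23.gg 3) (P23.gg 3), gg_sq'] using h2

theorem orbit_even {p : Pt} (hp : InO p) (hc : colF p = 0) : ∃ t ∈ T0, act t (E 3) = p := by
  obtain ⟨h, hh', e'⟩ := orbit_zero hp hc
  rcases colHom_L1 hh' with h1 | h1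
  · exact ⟨h, h1, e'⟩
  · exact ⟨_, h1, by rw [map_mul, Equiv.Perm.mul_apply, fixes_gg3, e']⟩

/-! ### Faithfulness -/

variable {d : Pt → K} (hd : Data hh d E)
include hd

theorem d_E3 : d (E 3) = P23.gg 3 := hd.base 3 (by rw [NG_eq]; norm_num)

theorem d_PX : d PX = xx := by
  obtain ⟨-, -, -, -, -, -, -, -, hl, hrun, heq⟩ := roots_ok
  have hR : XW.getD 35 0 < T.NG := by rw [NG_eq]; decide +kernel
  have hp : ∀ x ∈ XW.drop 36, x < T.NG := fun x hx => by
    rw [NG_eq]; exact hl x (List.mem_of_mem_drop hx)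
  rw [xx, ← d_word hh hd hR hp (p := PX) hrun, dw, heq]

theorem comm_of_fix {g : K} {p : Pt} (h : act g p = p) : g * d p = d p * g := (fix_iff hh hd g p).mp h

theorem fix_of_comm {g : K} {p : Pt} (h : g * d p = d p * g) : act g p = p := (fix_iff hh hd g p).mpr h

theorem d_mem {p : Pt} (hp : InO p) : d p ∈ LL := by
  obtain ⟨h, hh', rfl⟩ := orbit_all hp
  rw [hd.conj, d_E3 hd]
  exact mul_mem (mul_mem hh' (gg_mem (by norm_num) (by norm_num))) (inv_mem hh')

theorem comm_LL {g : K} (hg : ∀ s ∈ GS, g * s = s * g) {k : K} (hk : k ∈ LL) : g * k = k * g := by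
  have hle : LL ≤ Subgroup.centralizer ({g} : Set K) := by
    rw [LL, Subgroup.closure_le]
    intro s hs
    rw [SetLike.mem_coe, Subgroup.mem_centralizer_singleton_iff]
    exact (hg s hs).symm
  exact (Subgroup.mem_centralizer_singleton_iff.mp (hle hk)).symm

/-- Nothing centralises the triality subgroup. -/
theorem eq_one_of_central {g : K} (hg : ∀ s ∈ GS, g * s = s * g) : g = 1 := by
  have hin : ∀ p, InO p → act g p = p := fun p hp => fix_of_comm hd (comm_LL hd hg (d_mem hd hp))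
  have hout : ∀ p, ¬ InO p → ¬ InO (act g p) := fun p hp h =>
    hp ((act g).injective (hin _ h) ▸ h)
  obtain ⟨hw, hu⟩ := kz_ok
  have hz : act g PZ = PZ := by
    by_contra hne
    have hp := hout PZ not_inO_PZ
    have h := (allFrom_iff _ _ _).mp hu (act g PZ).1 (Nat.zero_le _)
      (by have := (act g PZ).2; have := N_eq; omega)
    simp only [Bool.or_eq_true, Bool.not_eq_true', List.any_eq_true, Nat.beq_eq] at h
    rcases h with (h | h) | ⟨w, hwm, h⟩
    · exact hp (fun h0 => by simp [h0] at h)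
    · exact hne (Fin.ext h)
    · simp only [List.all_eq_true, Bool.and_eq_true, Nat.blt_eq, Nat.beq_eq] at hw
      obtain ⟨hl, hfix⟩ := hw w hwm
      have hl' : ∀ x ∈ w, x < 10 := fun x hx => (hl x hx).2
      have hf : (act (val P23.gg w))⁻¹ PZ = PZ := Fin.ext ((run_val hl' PZ).trans hfix)
      have hc : g * (val P23.gg w)⁻¹ = (val P23.gg w)⁻¹ * g :=
        comm_LL hd hg (inv_mem (L1_le (val_mem_L1 hl)))
      have h2 : T.run w (act g PZ) = ((act g PZ : Pt) : Nat) := by
        rw [← run_val hl', ← map_inv, ← Equiv.Perm.mul_apply, ← map_mul, ← hc, map_mul,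
          Equiv.Perm.mul_apply, map_inv, hf]
      rw [h2] at h
      simp at h
  refine hd.faithful ?_
  rw [map_one]
  refine Equiv.ext fun p => ?_
  rw [Equiv.Perm.one_apply]
  by_cases hp : InO p
  · exact hin p hp
  · obtain ⟨h, hh', rfl⟩ := orbit_out hp
    show act g (act h PZ) = act h PZ
    rw [← Equiv.Perm.mul_apply, ← map_mul, comm_LL hd hg (L1_le hh'), map_mul, Equiv.Perm.mul_apply, hz]

/-- An element fixing the points of the generators is trivial. -/
theorem eq_one_of_fix {g : K} (hg : ∀ p : Pt, (p : Nat) ∈ pts → act g p = p) : g = 1 := by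
  refine eq_one_of_central hd fun s hs => ?_
  rcases hs with rfl | ⟨a, h0, ha, rfl⟩
  · rw [← d_PX hd]
    exact comm_of_fix hd (hg _ (by simp [pts, PX]))
  · rw [← hd.base a (by rw [NG_eq]; exact ha)]
    refine comm_of_fix hd (hg _ ?_)
    interval_cases a <;> simp [pts, E]

/-- Two words with the same effect on the points of the generators agree. -/
theorem val_eq {u v : List Nat} (hu : ∀ x ∈ u, x < 10) (hv : ∀ x ∈ v, x < 10)
    (h : ∀ p ∈ pts, T.run u p = T.run v p) : val P23.gg u = val P23.gg v := by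
  rw [← mul_inv_eq_one]
  refine eq_one_of_fix hd fun p hp => ?_
  have e1 : (act (val P23.gg u))⁻¹ p = (act (val P23.gg v))⁻¹ p :=
    Fin.ext ((run_val hu p).trans ((h _ hp).trans (run_val hv p).symm))
  rw [map_mul, map_inv, Equiv.Perm.mul_apply, ← e1, Equiv.Perm.inv_def, Equiv.apply_symm_apply]

theorem cox_rel : (P23.gg 3 * xx) * (P23.gg 3 * xx) * (P23.gg 3 * xx) = 1 := by
  have hex : ∀ w : List Nat, val P23.gg ([3] ++ w ++ [3] ++ w ++ [3] ++ w) =
      (P23.gg 3 * val P23.gg w) * (P23.gg 3 * val P23.gg w) * (P23.gg 3 * val P23.gg w) := fun w => by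
    simp [val, mul_assoc]
  have h := val_eq hd (u := [3] ++ XW ++ [3] ++ XW ++ [3] ++ XW) (v := []) (by decide +kernel) (by simp)
    (fun p hp => wx_ok.2 p hp)
  rw [hex, val_nil] at h
  exact h

theorem xx_conj {g : K} (hg : g ∈ T0) : xx * g * xx ∈ T0 := by
  have hmem : ∀ w : List Nat, (∀ x ∈ w, x < 10) → ∀ a < 10, ∀ x ∈ w ++ [a, 3] ++ w, x < 10 := by
    intro w hw a ha x hx
    simp only [List.mem_append, List.mem_cons, List.not_mem_nil, or_false] at hx
    rcases hx with (hx | rfl | rfl) | hx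
    exacts [hw x hx, ha, by norm_num, hw x hx]
  have hthree : ∀ (w : List Nat) (a : Nat), val P23.gg (w ++ [a, 3] ++ w) =
      val P23.gg w * (P23.gg a * P23.gg 3) * val P23.gg w := fun w a => by simp [val, mul_assoc]
  have h1 : ∀ a, 0 < a → a < 10 → xx * (P23.gg a * P23.gg 3) * xx ∈ T0 := by
    intro a h0 ha
    obtain ⟨he, hl, hrun⟩ := wx_ok.1 (a - 1) (by omega)
    rw [show a - 1 + 1 = a by omega] at hrun
    have h := val_eq hd (u := XW ++ [a, 3] ++ XW) (v := WX.getD (a - 1) []) (by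
        exact hmem _ roots_ok.2.2.2.2.2.2.2.2.1 a ha)
      (fun x hx => (hl x hx).2) hrun
    have h2 : xx * (P23.gg a * P23.gg 3) * xx = val P23.gg (WX.getD (a - 1) []) := by
      rw [← h]
      exact (hthree XW a).symm
    rw [h2]
    exact even_mem_T0 he hl
  have hmul : ∀ a b : K, xx * (a * b) * xx = (xx * a * xx) * (xx * b * xx) := fun a b => by
    simp only [mul_assoc]
    rw [← mul_assoc xx xx (b * xx), xx_sq, one_mul]
  induction hg using Subgroup.closure_induction with
  | mem g hg =>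
    obtain ⟨a, b, ha0, ha, hb0, hb, rfl⟩ := hg
    have h2 := inv_mem (h1 b hb0 hb)
    rw [mul_inv_rev, mul_inv_rev, mul_inv_rev, xx_inv, gg_inv, gg_inv, ← mul_assoc] at h2
    rw [show P23.gg a * P23.gg b = (P23.gg a * P23.gg 3) * (P23.gg 3 * P23.gg b) by
      simp only [mul_assoc]; rw [← mul_assoc (P23.gg 3) (P23.gg 3), gg_sq', one_mul], hmul]
    exact mul_mem (h1 a ha0 ha) h2
  | one => rw [mul_one, xx_sq]; exact one_mem _
  | mul a b _ _ ha hb => rw [hmul]; exact mul_mem ha hb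
  | inv a _ ha =>
    have := inv_mem ha
    rwa [mul_inv_rev, mul_inv_rev, xx_inv, ← mul_assoc] at this

/-- The six representatives. -/
noncomputable def six : List K :=
  [1, P23.gg 3, xx, P23.gg 3 * xx, xx * P23.gg 3, P23.gg 3 * xx * P23.gg 3]

theorem left_three {w : K} (hw : w ∈ six) : P23.gg 3 * w ∈ six := by
  simp only [six, List.mem_cons, List.not_mem_nil, or_false] at hw ⊢
  rcases hw with rfl | rfl | rfl | rfl | rfl | rfl
  · simp
  · simp [gg_sq']
  · simp
  · simp [← mul_assoc, gg_sq']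
  · simp [← mul_assoc]
  · simp [← mul_assoc, gg_sq']

theorem braid : xx * P23.gg 3 * xx = P23.gg 3 * xx * P23.gg 3 := by
  have h := cox_rel hd
  rw [show (P23.gg 3 * xx) * (P23.gg 3 * xx) * (P23.gg 3 * xx) =
    (P23.gg 3 * xx * P23.gg 3) * (xx * P23.gg 3 * xx) by simp only [mul_assoc], mul_eq_one_iff_inv_eq] at h
  rw [← h, mul_inv_rev, mul_inv_rev, gg_inv, xx_inv, ← mul_assoc]

theorem left_xx {w : K} (hw : w ∈ six) : xx * w ∈ six := by
  have hb := braid hd
  simp only [six, List.mem_cons, List.not_mem_nil, or_false] at hw ⊢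
  rcases hw with rfl | rfl | rfl | rfl | rfl | rfl
  · simp
  · simp
  · simp [xx_sq]
  · rw [← mul_assoc, hb]; simp
  · rw [← mul_assoc, xx_sq, one_mul]; simp
  · rw [show xx * (P23.gg 3 * xx * P23.gg 3) = (xx * P23.gg 3 * xx) * P23.gg 3 by simp only [mul_assoc], hb,
      mul_assoc _ (P23.gg 3) (P23.gg 3), gg_sq', mul_one]
    simp

theorem decompose {g : K} (hg : g ∈ LL) : ∃ t ∈ T0, ∃ w ∈ six, g = t * w := by
  induction hg using Subgroup.closure_induction_left with
  | one => exact ⟨1, one_mem _, 1, by simp [six], (one_mul _).symm⟩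
  | mul_left x hx y _ ih =>
    obtain ⟨t, ht, w, hw, rfl⟩ := ih
    rcases hx with rfl | ⟨a, h0, ha, rfl⟩
    · exact ⟨_, xx_conj hd ht, _, left_xx hd hw, by
        simp only [mul_assoc]; rw [← mul_assoc xx xx w, xx_sq, one_mul]⟩
    · refine ⟨_, mul_mem (pair_mem h0 ha (show 0 < 3 by norm_num) (show 3 < 10 by norm_num))
        (gg3_conj ht (c := 3) (by norm_num) (by norm_num)), _, left_three hd hw, ?_⟩
      simp [mul_assoc, ← mul_assoc (P23.gg 3) (P23.gg 3), gg_sq']
  | inv_mul_cancel x hx y _ ih =>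
    obtain ⟨t, ht, w, hw, rfl⟩ := ih
    rcases hx with rfl | ⟨a, h0, ha, rfl⟩
    · rw [xx_inv]
      exact ⟨_, xx_conj hd ht, _, left_xx hd hw, by
        simp only [mul_assoc]; rw [← mul_assoc xx xx w, xx_sq, one_mul]⟩
    · rw [gg_inv]
      refine ⟨_, mul_mem (pair_mem h0 ha (show 0 < 3 by norm_num) (show 3 < 10 by norm_num))
        (gg3_conj ht (c := 3) (by norm_num) (by norm_num)), _, left_three hd hw, ?_⟩
      simp [mul_assoc, ← mul_assoc (P23.gg 3) (P23.gg 3), gg_sq']

theorem mem_T0_iff (g : ↥LL) : colHom g = 1 ↔ g.1 ∈ T0 := by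
  constructor
  · intro h
    obtain ⟨t, ht, w, hw, e'⟩ := decompose hd g.2
    have h2 := colRel_colHom g
    rw [h, e'] at h2
    have c3 := colRel_gg (show 0 < 3 by norm_num) (show 3 < 10 by norm_num)
    have ct := colRel_T0 ht
    simp only [six, List.mem_cons, List.not_mem_nil, or_false] at hw
    rcases hw with rfl | rfl | rfl | rfl | rfl | rfl
    · rw [e', mul_one]; exact ht
    · exact absurd (colRel_unique h2 (colRel_mul ct c3)) (by decide)
    · exact absurd (colRel_unique h2 (colRel_mul ct colRel_xx)) (by decide)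
    · exact absurd (colRel_unique h2 (colRel_mul ct (colRel_mul c3 colRel_xx))) (by decide)
    · exact absurd (colRel_unique h2 (colRel_mul ct (colRel_mul colRel_xx c3))) (by decide)
    · exact absurd (colRel_unique h2 (colRel_mul ct (colRel_mul (colRel_mul c3 colRel_xx) c3))) (by decide)
  · intro h
    exact colRel_unique (colRel_colHom g) (colRel_T0 h)

/-- An element of the triality subgroup centralising the even part is trivial. -/
theorem centralizer_T0 {g : K} (hg : g ∈ LL) (hc : ∀ t ∈ T0, g * t = t * g) : g = 1 := by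
  obtain ⟨σ, hσ⟩ := exists_colRel hg
  have hfix : ∀ t ∈ T0, ∀ p, act t p = p → act t (act g p) = act g p := by
    intro t ht p hp
    rw [← Equiv.Perm.mul_apply, ← map_mul, ← hc t ht, map_mul, Equiv.Perm.mul_apply, hp]
  have hword : ∀ w : List Nat, w.length % 2 = 0 → (∀ x ∈ w, 0 < x ∧ x < 10) → ∀ p : Pt,
      T.run w p = p → T.run w (act g p) = ((act g p : Pt) : Nat) := by
    intro w he hl p hp
    have hl' : ∀ x ∈ w, x < 10 := fun x hx => (hl x hx).2
    have e1 : act (val P23.gg w)⁻¹ p = p := by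
      rw [map_inv]; exact Fin.ext ((run_val hl' p).trans hp)
    rw [← run_val hl', ← map_inv, hfix _ (inv_mem (even_mem_T0 he hl)) p e1]
  obtain ⟨hkd, hku⟩ := kd_ok
  simp only [List.all_eq_true, Bool.and_eq_true, Nat.blt_eq, Nat.beq_eq] at hkd
  have h3 : act g (E 3) = E 3 := by
    obtain ⟨k, hk, -⟩ := exists_OM (hσ _ inO_E3).1
    have h := (allFrom_iff _ _ _).mp hku k.1 (Nat.zero_le _) (by omega)
    simp only [Bool.or_eq_true, Nat.beq_eq, List.any_eq_true, force_eq] at h
    rcases h with h | ⟨w, hw, h⟩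
    · rw [← hk]
      obtain ⟨k', hk', hp'⟩ := exists_OM inO_E3
      have : pos (e 3) = k'.1 + 1 := hp'
      rw [roots_ok.2.2.1] at this
      rw [← hk']
      congr 1
      exact Fin.ext (by omega)
    · exfalso
      obtain ⟨⟨he, hl⟩, hf⟩ := hkd w hw
      have h2 := hword w he hl (E 3) hf
      rw [show ((act g (E 3) : Pt) : Nat) = om k from congrArg Fin.val hk.symm] at h2
      rw [h2] at h
      simp at h
  have hblock : ∀ p, InO p → colF p = 0 → act g p = p := by
    intro p hp hp0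
    obtain ⟨t, ht, rfl⟩ := orbit_even hp hp0
    rw [← Equiv.Perm.mul_apply, ← map_mul, hc t ht, map_mul, Equiv.Perm.mul_apply, h3]
  have hσ0 : σ 0 = 0 := by
    have h := (hσ _ inO_E3).2
    rw [h3, colF_E3] at h
    exact h.symm
  obtain ⟨hky, hkyu⟩ := ky_ok
  simp only [List.all_eq_true, Bool.and_eq_true, Nat.blt_eq, Nat.beq_eq] at hky
  have hX : act g PX = PX := by
    obtain ⟨hin, hcol⟩ := hσ _ inO_PX
    obtain ⟨k, hk, hpk⟩ := exists_OM hin
    have hne : colF (act g PX) ≠ 0 := by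
      rw [hcol, colF_PX, ← hσ0]
      exact fun h => absurd (σ.injective h) (by decide)
    have hk1 : 1080 ≤ k.1 := by
      by_contra hlt
      apply hne
      rw [← hk]
      exact Fin.ext (by rw [colF_OM]; show _ = 0; omega)
    have h := (allFrom_iff _ _ _).mp hkyu k.1 hk1 (by omega)
    simp only [Bool.or_eq_true, Nat.beq_eq, List.any_eq_true, force_eq] at h
    rcases h with h | ⟨w, hw, h⟩
    · rw [← hk]
      obtain ⟨k', hk', hp'⟩ := exists_OM inO_PX
      have : pos X = k'.1 + 1 := hp'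
      rw [roots_ok.2.2.2.1] at this
      rw [← hk']
      congr 1
      exact Fin.ext (by omega)
    · exfalso
      obtain ⟨⟨he, hl⟩, hf⟩ := hky w hw
      have h2 := hword w he hl PX hf
      rw [show ((act g PX : Pt) : Nat) = om k from congrArg Fin.val hk.symm] at h2
      rw [h2] at h
      simp at h
  refine eq_one_of_central hd fun s hs => ?_
  rcases hs with rfl | ⟨a, h0, ha, rfl⟩
  · rw [← d_PX hd]; exact comm_of_fix hd hX
  · rw [← hd.base a (by rw [NG_eq]; exact ha)]
    have hla := roots_ok.2.2.2.2.2.2.1 a ha h0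
    refine comm_of_fix hd (hblock _ hla.2 (Fin.ext ?_))
    show colN (pos (e a)) % 3 = 0
    have h1 : la a < 1080 := hla.1
    unfold la at h1
    unfold colN
    omega

end Cfsg.Agent.ThreeTransFi23TrialSub74
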