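import Cfsg.Agent.Lib.ThreeTransFi23TrialSub74
import Cfsg.Agent.Lib.ThreeTransFi23TrialSeven74
import Cfsg.Agent.Lib.ThreeTransFi23Out41
import Cfsg.Agent.Lib.ComponentsFitting
import Cfsg.Prelude.Def_FischerSpaces

/-!
# The triality subgroup PΩ⁺(8,3):S₃ of Fi23

In a group identified with the presented Fi23, with the transpositions matching the table points, there is a
subgroup generated by transpositions of shape PΩ⁺(8,3):S₃ with member centralisers `2 × Ω(7,3)`.
-/

set_option autoImplicit false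
set_option maxRecDepth 100000

namespace Cfsg.Agent.ThreeTransFi23Triality74

open Cfsg.Agent.CosetCertCore Cfsg.Agent.CosetCertTable Cfsg.Agent.CosetCertPres
open Cfsg.Agent.ThreeTransAut41
open Cfsg.Agent.CosetCertFi23Simple (P23)
open Cfsg.Agent.ThreeTransFi23TrialData74 Cfsg.Agent.ThreeTransFi23TrialCheck74
open Cfsg.Agent.ThreeTransFi23TrialSub74
open Cfsg.Agent.ThreeTransFi23TrialLin74 (RR piV rr rn piV_rr_val conj_rr refl_pair_mem)
open Cfsg.Agent.OrthUnitaryQuad (orth)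
open Cfsg.Agent.OrthUnitarySimple (sGroup)

local notation "hh" => CosetCertFi23F.enumerated

/-- Position in the first colour. -/
noncomputable def loc (p : Pt) : Fin 1080 := ⟨(pos p - 1) % 1080, Nat.mod_lt _ (by norm_num)⟩

/-- A point of the first colour. -/
noncomputable def blk (i : Fin 1080) : Pt := OM ⟨i.1, by omega⟩

theorem inO_blk (i : Fin 1080) : InO (blk i) := inO_OM _

theorem colF_blk (i : Fin 1080) : colF (blk i) = 0 := Fin.ext (by
  rw [blk, colF_OM]; show i.1 / 1080 = 0; omega)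

theorem loc_blk (i : Fin 1080) : loc (blk i) = i := Fin.ext (by
  show (pos (om i.1) - 1) % 1080 = i.1
  rw [(om_facts (show i.1 < 3240 by omega)).2]; omega)

theorem blk_loc {p : Pt} (hp : InO p) (hc : colF p = 0) : blk (loc p) = p := by
  obtain ⟨k, hk, hpk⟩ := exists_OM hp
  have h0 : k.1 / 1080 = 0 := by rw [← colF_OM k, hk, hc]; rfl
  rw [← hk]
  exact congrArg OM (Fin.ext (by
    show (pos (OM k) - 1) % 1080 = k.1
    rw [hk, hpk]; omega))

theorem blk_zero : blk 0 = E 3 := by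
  obtain ⟨k, hk, hpk⟩ := exists_OM inO_E3
  rw [← hk]
  refine congrArg OM (Fin.ext ?_)
  show (0 : Nat) = k.1
  have : pos (e 3) = k.1 + 1 := hpk
  rw [roots_ok.2.2.1] at this
  omega

/-- The point of a generator in the first colour. -/
noncomputable def la' (a : Nat) : Fin 1080 := ⟨la a % 1080, Nat.mod_lt _ (by norm_num)⟩

theorem la'_val {a : Nat} (h0 : 0 < a) (ha : a < 10) : (la' a : Nat) = la a :=
  Nat.mod_eq_of_lt (roots_ok.2.2.2.2.2.2.1 a ha h0).1

/-- A reflection as a permutation of lines. -/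
noncomputable def P (i : Fin 1080) : Equiv.Perm (Fin 1080) := piV (rr i)

theorem P_sq (i : Fin 1080) : P i * P i = 1 := by
  rw [P, ← map_mul, ThreeTransFi23TrialLin74.rr, OrthUnitaryRefl.refl_sq, map_one]

theorem P_inv (i : Fin 1080) : (P i)⁻¹ = P i := inv_eq_of_mul_eq_one_right (P_sq i)

theorem P_conj (j i : Fin 1080) : P (P j i) = P j * P i * P j := by
  conv_rhs => arg 2; rw [← P_inv j]
  rw [P, P, P, ← map_inv, ← map_mul, ← map_mul, conj_rr]

/-- The effect of a generator on the first colour. -/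
theorem act_blk {a : Nat} (h0 : 0 < a) (ha : a < 10) (i : Fin 1080) :
    loc (act (P23.gg a) (blk i)) = P (la' a) i := by
  obtain ⟨-, -, h3⟩ := act_facts h0 ha (k := ⟨i.1, by omega⟩) (p := blk i) rfl
  have h := h3 i.2
  apply Fin.ext
  show (pos (act (P23.gg a) (blk i)) - 1) % 1080 = _
  rw [P, piV_rr_val, la'_val h0 ha, h, ← la'_val h0 ha, ← piV_rr_val]
  exact Nat.mod_eq_of_lt (Fin.isLt _)

/-- Products of the tabulated pairs of reflections. -/
noncomputable def TP : Subgroup (Equiv.Perm (Fin 1080)) :=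
  Subgroup.closure {g | ∃ a b, 0 < a ∧ a < 10 ∧ 0 < b ∧ b < 10 ∧ g = P (la' a) * P (la' b)}

theorem pair_TP {a b : Nat} (ha0 : 0 < a) (ha : a < 10) (hb0 : 0 < b) (hb : b < 10) :
    P (la' a) * P (la' b) ∈ TP :=
  Subgroup.subset_closure ⟨a, b, ha0, ha, hb0, hb, rfl⟩

theorem la'_three : la' 3 = 0 := Fin.ext (by
  rw [la'_val (by norm_num) (by norm_num)]
  show pos (e 3) - 1 = 0
  rw [roots_ok.2.2.1])

theorem mem_TP : ∀ (n : Nat) (p : Pt), pd p < n → InO p → colF p = 0 → P (loc p) * P 0 ∈ TP := by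
  intro n
  induction n with
  | zero => intro p hp; exact absurd hp (Nat.not_lt_zero _)
  | succ n ih =>
    intro p hp hin hc
    have h := (allFrom_iff _ _ _).mp tree_ok p.1 (Nat.zero_le _) (by have := p.2; have := N_eq; omega)
    simp only [force_eq, Bool.or_eq_true, Bool.and_eq_true, Nat.beq_eq, Nat.blt_eq] at h
    rcases h with ((h | h) | h) | ⟨⟨⟨⟨h1, h2⟩, h3⟩, h4⟩, h5⟩
    · have e1 : p = E 3 := Fin.ext h
      rw [e1, ← blk_zero, loc_blk, P_sq]
      exact one_mem _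
    · have e1 : p = PX := Fin.ext h
      rw [e1, colF_PX] at hc
      exact absurd hc (by decide)
    · have e1 : p = PZ := Fin.ext h
      rw [e1] at hin
      exact absurd hin not_inO_PZ
    · have e1 : act (P23.gg (pg p)) ⟨pp p, h3⟩ = p := Fin.ext ((act_gen h2 _).trans h4)
      have hq : InO (⟨pp p, h3⟩ : Pt) := by
        by_contra hq
        exact not_inO_act (gg_mem h1 h2) hq (by rw [e1]; exact hin)
      have hqc : colF (⟨pp p, h3⟩ : Pt) = 0 := by
        have h6 := (colRel_gg h1 h2 _ hq).2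
        rw [e1, hc] at h6
        have h7 : s12 0 = 0 := by decide
        exact (s12.injective (h7.trans h6)).symm
      have hrec := ih ⟨pp p, h3⟩ (by show pd (pp p) < n; omega) hq hqc
      have hl : loc p = P (la' (pg p)) (loc ⟨pp p, h3⟩) := by
        rw [← act_blk h1 h2, blk_loc hq hqc, e1]
      rw [hl, P_conj]
      have hpair := pair_TP h1 h2 (show 0 < 3 by norm_num) (show 3 < 10 by norm_num)
      rw [la'_three] at hpair
      have h8 := mul_mem (mul_mem hpair (inv_mem hrec)) hpair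
      rw [mul_inv_rev, P_inv, P_inv] at h8
      simpa [mul_assoc, ← mul_assoc (P 0) (P 0), P_sq] using h8

theorem RR_eq : TP = RR := by
  apply le_antisymm
  · rw [TP, Subgroup.closure_le]
    rintro _ ⟨a, b, -, -, -, -, rfl⟩
    exact ⟨_, refl_pair_mem (la' a) (la' b), by rw [map_mul]; rfl⟩
  · let N : Subgroup (orth ThreeTransFi23TrialLin74.Q8) :=
      Subgroup.closure {g | ∃ i j, g = rr i * rr j}
    have hpair : ∀ i, P i * P 0 ∈ TP := fun i => by
      have := mem_TP _ (blk i) (Nat.lt_succ_self _) (inO_blk i) (colF_blk i)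
      rwa [loc_blk] at this
    have hN : N.map piV ≤ TP := by
      rw [MonoidHom.map_closure, Subgroup.closure_le]
      rintro _ ⟨_, ⟨i, j, rfl⟩, rfl⟩
      have h := mul_mem (hpair i) (inv_mem (hpair j))
      rw [mul_inv_rev, P_inv, P_inv] at h
      rw [SetLike.mem_coe, map_mul]
      show P i * P j ∈ TP
      rw [show P i * P j = P i * P 0 * (P 0 * P j) by rw [mul_assoc, ← mul_assoc (P 0), P_sq, one_mul]]
      exact h
    refine le_trans (Subgroup.map_mono ?_) hN
    have hnorm : N.Normal := ⟨fun x hx g => by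
      induction hx using Subgroup.closure_induction with
      | mem x hx =>
        obtain ⟨i, j, rfl⟩ := hx
        refine Subgroup.subset_closure ⟨piV g i, piV g j, ?_⟩
        rw [← conj_rr, ← conj_rr]
        group
      | one => simp [one_mem]
      | mul a b _ _ ha hb => rw [show g * (a * b) * g⁻¹ = (g * a * g⁻¹) * (g * b * g⁻¹) by group]; exact mul_mem ha hb
      | inv a _ ha => rw [show g * a⁻¹ * g⁻¹ = (g * a * g⁻¹)⁻¹ by group]; exact inv_mem ha⟩
    haveI := hnorm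
    rcases ComponentsBasic.normal_le_center_or_eq_top ThreeTransFi23TrialLin74.quasi
      (N.subgroupOf (sGroup ThreeTransFi23TrialLin74.Q8)) with h | h
    · exfalso
      rw [← ThreeTransFi23TrialLin74.ker_proj] at h
      have h1 : (⟨_, refl_pair_mem 0 1⟩ : ↥(sGroup ThreeTransFi23TrialLin74.Q8)) ∈
          N.subgroupOf (sGroup ThreeTransFi23TrialLin74.Q8) := Subgroup.subset_closure ⟨0, 1, rfl⟩
      have h2 : piV (rr 0 * rr 1) = 1 := congrArg Subtype.val (MonoidHom.mem_ker.mp (h h1))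
      exact ThreeTransFi23TrialLin74.moves (by rw [h2]; rfl)
    · exact Subgroup.subgroupOf_eq_top.mp h

theorem trans_RR (j : Fin 1080) : ∃ t ∈ RR, t 0 = j := by
  have h := mem_TP _ (blk j) (Nat.lt_succ_self _) (inO_blk j) (colF_blk j)
  rw [loc_blk, RR_eq] at h
  have key : ∀ t ∈ T0, ∀ i, ∃ s ∈ TP, loc (act t (blk i)) = s i := by
    intro t ht
    induction ht using Subgroup.closure_induction with
    | mem g hg =>
      intro i
      obtain ⟨a, b, ha0, ha, hb0, hb, rfl⟩ := hg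
      refine ⟨_, pair_TP ha0 ha hb0 hb, ?_⟩
      obtain ⟨h1, h2⟩ := colRel_gg hb0 hb _ (inO_blk i)
      rw [map_mul, Equiv.Perm.mul_apply, Equiv.Perm.mul_apply, ← act_blk hb0 hb, ← act_blk ha0 ha,
        blk_loc h1 (h2.trans (by rw [colF_blk]; decide))]
    | one => intro i; exact ⟨1, one_mem _, by rw [map_one]; exact loc_blk i⟩
    | mul a b ha' hb' ha hb =>
      intro i
      obtain ⟨s, hs, e1⟩ := hb i
      obtain ⟨h1, h2⟩ := colRel_T0 hb' _ (inO_blk i)
      obtain ⟨s', hs', e2⟩ := ha (loc (act b (blk i)))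
      refine ⟨s' * s, mul_mem hs' hs, ?_⟩
      rw [map_mul, Equiv.Perm.mul_apply, Equiv.Perm.mul_apply, ← e1, ← e2,
        blk_loc h1 (h2.trans (by rw [colF_blk]; rfl))]
    | inv a ha' ha =>
      intro i
      obtain ⟨h1, h2⟩ := colRel_T0 (inv_mem ha') _ (inO_blk i)
      obtain ⟨s, hs, e1⟩ := ha (loc (act a⁻¹ (blk i)))
      refine ⟨s⁻¹, inv_mem hs, ?_⟩
      rw [blk_loc h1 (h2.trans (by rw [colF_blk]; rfl)), ← Equiv.Perm.mul_apply, ← map_mul,
        mul_inv_cancel, map_one, Equiv.Perm.one_apply, loc_blk] at e1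
      rw [Equiv.Perm.eq_inv_iff_eq]
      exact e1.symm
  obtain ⟨t, ht, e1⟩ := orbit_even (inO_blk j) (colF_blk j)
  obtain ⟨s, hs, e2⟩ := key t ht 0
  rw [blk_zero, e1, loc_blk] at e2
  exact ⟨s, RR_eq ▸ hs, e2.symm⟩

/-- The action of the even part on the first colour. -/
noncomputable def pBfun (t : ↥T0) : Equiv.Perm (Fin 1080) where
  toFun i := loc (act t.1 (blk i))
  invFun i := loc (act (t.1)⁻¹ (blk i))
  left_inv i := by
    obtain ⟨h1, h2⟩ := colRel_T0 t.2 _ (inO_blk i)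
    show loc (act (t.1)⁻¹ (blk (loc (act t.1 (blk i))))) = i
    rw [blk_loc h1 (h2.trans (by rw [colF_blk]; rfl)), ← Equiv.Perm.mul_apply, ← map_mul, inv_mul_cancel,
      map_one, Equiv.Perm.one_apply, loc_blk]
  right_inv i := by
    obtain ⟨h1, h2⟩ := colRel_T0 (inv_mem t.2) _ (inO_blk i)
    show loc (act t.1 (blk (loc (act (t.1)⁻¹ (blk i))))) = i
    rw [blk_loc h1 (h2.trans (by rw [colF_blk]; rfl)), ← Equiv.Perm.mul_apply, ← map_mul, mul_inv_cancel,
      map_one, Equiv.Perm.one_apply, loc_blk]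

theorem pBfun_apply (t : ↥T0) (i : Fin 1080) : pBfun t i = loc (act t.1 (blk i)) := rfl

/-- The action of the even part on the first colour. -/
noncomputable def pB : ↥T0 →* Equiv.Perm (Fin 1080) :=
  MonoidHom.mk' pBfun fun s t => Equiv.ext fun i => by
    obtain ⟨h1, h2⟩ := colRel_T0 t.2 _ (inO_blk i)
    rw [Equiv.Perm.mul_apply, pBfun_apply, pBfun_apply, pBfun_apply,
      blk_loc h1 (h2.trans (by rw [colF_blk]; rfl)), Subgroup.coe_mul, map_mul, Equiv.Perm.mul_apply]

theorem pB_apply (t : ↥T0) (i : Fin 1080) : pB t i = loc (act t.1 (blk i)) := rfl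

theorem pB_pair {a b : Nat} (ha0 : 0 < a) (ha : a < 10) (hb0 : 0 < b) (hb : b < 10) :
    pB ⟨_, pair_mem ha0 ha hb0 hb⟩ = P (la' a) * P (la' b) := Equiv.ext fun i => by
  obtain ⟨h1, h2⟩ := colRel_gg hb0 hb _ (inO_blk i)
  rw [pB_apply, Equiv.Perm.mul_apply, map_mul, Equiv.Perm.mul_apply, ← act_blk hb0 hb, ← act_blk ha0 ha,
    blk_loc h1 (h2.trans (by rw [colF_blk]; decide))]

theorem range_eq_TP (f : ↥T0 →* Equiv.Perm (Fin 1080))
    (hf : ∀ {a b : Nat} (ha0 : 0 < a) (ha : a < 10) (hb0 : 0 < b) (hb : b < 10),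
      f ⟨_, pair_mem ha0 ha hb0 hb⟩ = P (la' a) * P (la' b)) : f.range = TP := by
  have key : ∀ t (ht : t ∈ T0), f ⟨t, ht⟩ ∈ TP := by
    intro t ht
    induction ht using Subgroup.closure_induction with
    | mem g hg =>
      obtain ⟨a, b, ha0, ha, hb0, hb, rfl⟩ := hg
      rw [hf ha0 ha hb0 hb]
      exact pair_TP ha0 ha hb0 hb
    | one =>
      rw [show (⟨(1 : K), _⟩ : ↥T0) = 1 from rfl, map_one]
      exact one_mem _
    | mul a b ha' hb' ha hb =>
      have hab : (⟨a * b, mul_mem ha' hb'⟩ : ↥T0) = ⟨a, ha'⟩ * ⟨b, hb'⟩ := Subtype.ext rfl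
      show f ⟨a * b, mul_mem ha' hb'⟩ ∈ TP
      rw [hab, map_mul]
      exact mul_mem ha hb
    | inv a ha' ha =>
      have hab : (⟨a⁻¹, inv_mem ha'⟩ : ↥T0) = (⟨a, ha'⟩ : ↥T0)⁻¹ := Subtype.ext rfl
      show f ⟨a⁻¹, inv_mem ha'⟩ ∈ TP
      rw [hab, map_inv]
      exact inv_mem ha
  refine le_antisymm ?_ ((Subgroup.closure_le _).mpr ?_)
  · rintro _ ⟨⟨t, ht⟩, rfl⟩
    exact key t ht
  · rintro _ ⟨a, b, ha0, ha, hb0, hb, rfl⟩
    exact ⟨_, hf ha0 ha hb0 hb⟩

theorem pB_range : pB.range = RR := by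
  rw [← RR_eq]
  exact range_eq_TP pB pB_pair

variable {d : Pt → K} (hd : Data hh d E)
include hd

theorem pB_injective : Function.Injective pB := by
  rw [injective_iff_map_eq_one]
  intro t ht
  refine Subtype.ext (centralizer_T0 hd (L1_le (T0_le_L1 t.2)) ?_)
  have hfix : ∀ p, InO p → colF p = 0 → act t.1 p = p := by
    intro p hp hc
    obtain ⟨h1, h2⟩ := colRel_T0 t.2 p hp
    have h3 := congrArg (fun s : Equiv.Perm (Fin 1080) => s (loc p)) ht
    simp only [pB_apply, Equiv.Perm.one_apply, blk_loc hp hc] at h3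
    rw [← blk_loc h1 (h2.trans hc), h3, blk_loc hp hc]
  have hgen : ∀ a, 0 < a → a < 10 → t.1 * P23.gg a = P23.gg a * t.1 := by
    intro a h0 ha
    rw [← hd.base a (by rw [NG_eq]; exact ha)]
    obtain ⟨h1, h2⟩ := roots_ok.2.2.2.2.2.2.1 a ha h0
    refine comm_of_fix hd (hfix _ h2 (Fin.ext ?_))
    show colN (pos (e a)) % 3 = 0
    unfold la at h1
    unfold colN
    omega
  intro s hs
  induction hs using Subgroup.closure_induction with
  | mem s hs =>
    obtain ⟨a, b, ha0, ha, hb0, hb, rfl⟩ := hs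
    rw [← mul_assoc, hgen a ha0 ha, mul_assoc, hgen b hb0 hb, mul_assoc]
  | one => simp
  | mul a b _ _ ha hb => rw [← mul_assoc, ha, mul_assoc, hb, mul_assoc]
  | inv a _ ha => exact (Commute.inv_right ha)

/-- The even part as the permutation group on lines. -/
noncomputable def equivRR : ↥T0 ≃* ↥RR :=
  (MonoidHom.ofInjective (pB_injective hd)).trans (MulEquiv.subgroupCongr pB_range)

omit hd in
theorem colHom_surj : Function.Surjective colHom := by
  have h3 : (⟨P23.gg 3, gg_mem (by norm_num) (by norm_num)⟩ : ↥LL) ∈ (⊤ : Subgroup ↥LL) := trivial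
  intro σ
  have hall : ∀ σ : Equiv.Perm (Fin 3), σ = 1 ∨ σ = s12 ∨ σ = s02 ∨ σ = s12 * s02 ∨ σ = s02 * s12 ∨
      σ = s12 * s02 * s12 := by decide
  have c3 := colHom_gg (show 0 < 3 by norm_num) (show 3 < 10 by norm_num)
  rcases hall σ with rfl | rfl | rfl | rfl | rfl | rfl
  exacts [⟨1, map_one _⟩, ⟨_, c3⟩, ⟨_, colHom_xx⟩,
    ⟨⟨P23.gg 3, gg_mem (by norm_num) (by norm_num)⟩ * ⟨xx, xx_mem⟩, by rw [map_mul, c3, colHom_xx]⟩,
    ⟨⟨xx, xx_mem⟩ * ⟨P23.gg 3, gg_mem (by norm_num) (by norm_num)⟩, by rw [map_mul, c3, colHom_xx]⟩,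
    ⟨⟨P23.gg 3, gg_mem (by norm_num) (by norm_num)⟩ * ⟨xx, xx_mem⟩ * ⟨P23.gg 3, gg_mem (by norm_num) (by norm_num)⟩,
      by rw [map_mul, map_mul, c3, colHom_xx]⟩]

theorem ker_eq : colHom.ker = T0.subgroupOf LL := by
  ext g
  rw [MonoidHom.mem_ker, mem_T0_iff hd g, Subgroup.mem_subgroupOf]

omit hd in
/-- A self-centralising normal simple subgroup is the generalised Fitting subgroup. -/
theorem gen_eq {H : Type*} [Group H] [Finite H] (M : Subgroup H) [hM : M.Normal]
    (hs : IsSimpleGroup M) (hc : ¬ IsMulCommutative M) (hC : Subgroup.centralizer (M : Set H) = ⊥) :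
    Cfsg.generalizedFittingSubgroup H = M := by
  have hcomp : Cfsg.IsComponent M := ⟨hM.isSubnormal, ComponentsBasic.isQuasisimple_of_simple hs hc⟩
  refine le_antisymm (sup_le (sSup_le fun L hL => ?_) ?_) (ComponentsFitting.component_le_gen hcomp)
  · rcases ComponentsBasic.component_le_or_commute_normal hL M with h | h
    · exact h
    · rw [Subgroup.commutator_eq_bot_iff_le_centralizer, hC, le_bot_iff] at h
      exact absurd h (ComponentsBasic.IsComponent.ne_bot hL)
  · have h := ComponentsFitting.component_commute_fitting hcomp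
    rw [Subgroup.commutator_comm, Subgroup.commutator_eq_bot_iff_le_centralizer, hC, le_bot_iff] at h
    rw [h]; exact bot_le

theorem gen_LL [Finite K] : Cfsg.generalizedFittingSubgroup ↥LL = colHom.ker := by
  let eM : ↥colHom.ker ≃* ↥RR :=
    ((MulEquiv.subgroupCongr (ker_eq hd)).trans
      (Subgroup.subgroupOfEquivOfLe (le_trans T0_le_L1 L1_le))).trans (equivRR hd)
  haveI := ThreeTransFi23TrialLin74.simple_RR
  have hs : IsSimpleGroup ↥colHom.ker := eM.isSimpleGroup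
  have hC : Subgroup.centralizer (colHom.ker : Set ↥LL) = ⊥ := by
    rw [eq_bot_iff]
    intro g hg
    rw [Subgroup.mem_bot]
    refine Subtype.ext (centralizer_T0 hd g.2 fun t ht => ?_)
    have hm : (⟨t, L1_le (T0_le_L1 ht)⟩ : ↥LL) ∈ colHom.ker := by
      rw [ker_eq hd]; exact ht
    exact (congrArg Subtype.val (Subgroup.mem_centralizer_iff.mp hg _ hm)).symm
  refine gen_eq colHom.ker hs (fun hcomm => ?_) hC
  haveI := hcomm
  have hbot : colHom.ker ≤ ⊥ := hC ▸ Subgroup.le_centralizer colHom.ker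
  haveI := hs
  obtain ⟨x, hx⟩ := exists_ne (1 : ↥colHom.ker)
  exact hx (Subtype.ext (Subgroup.mem_bot.mp (hbot x.2)))

/-- The centraliser of the root member. -/
theorem cent_root [Finite K] :
    Nonempty (↥(LL ⊓ Subgroup.centralizer ({P23.gg 3} : Set K)) ≃*
      Multiplicative (ZMod 2) × Cfsg.POmega (ZMod 3) (Cfsg.quadFormOdd 3 (ZMod 3))) := by
  set C := LL ⊓ Subgroup.centralizer ({P23.gg 3} : Set K)
  set S := T0 ⊓ Subgroup.centralizer ({P23.gg 3} : Set K)
  set Z3 := Subgroup.zpowers (P23.gg 3)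
  have c3 := colRel_gg (show 0 < 3 by norm_num) (show 3 < 10 by norm_num)
  have hZC : Z3 ≤ C := by
    rw [Subgroup.zpowers_le]
    exact ⟨gg_mem (by norm_num) (by norm_num), Subgroup.mem_centralizer_singleton_iff.mpr rfl⟩
  have hSC : S ≤ C := fun g hg => ⟨L1_le (T0_le_L1 hg.1), hg.2⟩
  have hfix : ∀ g : K, g ∈ Subgroup.centralizer ({P23.gg 3} : Set K) ↔ act g (E 3) = E 3 := fun g => by
    rw [Subgroup.mem_centralizer_singleton_iff, ← d_E3 hd]
    exact ⟨fun h => fix_of_comm hd h, fun h => comm_of_fix hd h⟩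
  have hne : P23.gg 3 ≠ 1 := fun h => by
    have := colRel_unique (h ▸ c3) colRel_one
    exact absurd this (by decide)
  have hord : orderOf (P23.gg 3) = 2 :=
    orderOf_eq_prime (by rw [pow_two, gg_sq']) hne
  have hcomm : ∀ (z : ↥Z3) (s : ↥S), Commute (Subgroup.inclusion hZC z) (Subgroup.inclusion hSC s) := by
    intro z s
    obtain ⟨n, hn⟩ := Subgroup.mem_zpowers_iff.mp z.2
    apply Subtype.ext
    show z.1 * s.1 = s.1 * z.1
    rw [← hn]
    exact (Commute.zpow_left (show Commute (P23.gg 3) s.1 from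
      (Subgroup.mem_centralizer_singleton_iff.mp s.2.2).symm) n)
  let f := MonoidHom.noncommCoprod (Subgroup.inclusion hZC) (Subgroup.inclusion hSC) hcomm
  have hz : ∀ z : ↥Z3, z.1 = 1 ∨ z.1 = P23.gg 3 := by
    intro z
    obtain ⟨n, hn⟩ := Subgroup.mem_zpowers_iff.mp z.2
    rw [← hn, ← zpow_mod_orderOf, hord]
    rcases Int.emod_two_eq n with h | h
    · rw [show n % ((2 : ℕ) : ℤ) = 0 from h]; simp
    · rw [show n % ((2 : ℕ) : ℤ) = 1 from h]; simp
  have hf : ∀ w, ((f w : ↥C) : K) = w.1.1 * w.2.1 := fun w => by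
    simp [f, MonoidHom.noncommCoprod_apply]
  have hinj : Function.Injective f := by
    rw [injective_iff_map_eq_one]
    rintro ⟨z, s⟩ h
    have h1 : z.1 * s.1 = 1 := by rw [← hf (z, s), h]; rfl
    rcases hz z with h2 | h2
    · rw [h2, one_mul] at h1
      exact Prod.ext (Subtype.ext h2) (Subtype.ext h1)
    · exfalso
      rw [h2] at h1
      have h4 : s.1 = (P23.gg 3)⁻¹ := eq_inv_of_mul_eq_one_right h1
      rw [gg_inv] at h4
      have := colRel_unique c3 (h4 ▸ colRel_T0 s.2.1)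
      exact absurd this (by decide)
  have hsurj : Function.Surjective f := by
    intro g
    have h0 := (hfix g.1).mp g.2.2
    obtain ⟨σ, hσ⟩ := exists_colRel g.2.1
    have hσ0 : σ 0 = 0 := by
      have := (hσ _ inO_E3).2
      rw [h0, colF_E3] at this
      exact this.symm
    have hσ2 : σ = 1 ∨ σ = s12 := by
      revert hσ0; clear hσ; revert σ; decide
    rcases hσ2 with rfl | rfl
    · have hT : g.1 ∈ T0 := (mem_T0_iff hd ⟨g.1, g.2.1⟩).mp (colRel_unique (colRel_colHom _) hσ)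
      exact ⟨(1, ⟨g.1, hT, g.2.2⟩), Subtype.ext (by rw [hf]; simp)⟩
    · have hm : P23.gg 3 * g.1 ∈ LL := mul_mem (gg_mem (by norm_num) (by norm_num)) g.2.1
      have hT : P23.gg 3 * g.1 ∈ T0 := (mem_T0_iff hd ⟨_, hm⟩).mp
        (colRel_unique (colRel_colHom _) (by simpa [s12] using colRel_mul c3 hσ))
      refine ⟨(⟨P23.gg 3, Subgroup.mem_zpowers _⟩, ⟨_, hT, ?_⟩), Subtype.ext ?_⟩
      · exact mul_mem (Subgroup.mem_centralizer_singleton_iff.mpr rfl) g.2.2
      · rw [hf, ← mul_assoc, gg_sq', one_mul]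
  haveI : Fact (Nat.Prime 2) := ⟨Nat.prime_two⟩
  let eZ : ↥Z3 ≃* Multiplicative (ZMod 2) :=
    mulEquivOfPrimeCardEq (p := 2) (by rw [Nat.card_zpowers, hord]) (by simp)
  obtain ⟨e7⟩ := ThreeTransFi23TrialSeven74.equiv_stab trans_RR
  let g0 : ↥S →* ↥(RR ⊓ MulAction.stabilizer (Equiv.Perm (Fin 1080)) (0 : Fin 1080)) :=
    (pB.comp (Subgroup.inclusion (inf_le_left : S ≤ T0))).codRestrict _ fun s => by
      refine ⟨pB_range ▸ ⟨_, rfl⟩, ?_⟩
      show pB ⟨s.1, s.2.1⟩ 0 = 0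
      rw [pB_apply, blk_zero, (hfix s.1).mp s.2.2, ← blk_zero, loc_blk]
  have hg0 : Function.Bijective g0 := by
    refine ⟨fun s t h => ?_, ?_⟩
    · have := pB_injective hd (congrArg Subtype.val h)
      exact Subgroup.inclusion_injective _ this
    · rintro ⟨σ, hσR, hσ0⟩
      rw [← pB_range] at hσR
      obtain ⟨t, rfl⟩ := hσR
      refine ⟨⟨t.1, t.2, (hfix t.1).mpr ?_⟩, rfl⟩
      obtain ⟨h1, h2⟩ := colRel_T0 t.2 _ (inO_blk 0)
      have h3 : pB t 0 = 0 := hσ0
      rw [pB_apply] at h3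
      rw [← blk_zero, ← blk_loc h1 (h2.trans (by rw [colF_blk]; rfl)), h3]
  exact ⟨(MulEquiv.ofBijective f ⟨hinj, hsurj⟩).symm.trans
    (MulEquiv.prodCongr eZ ((MulEquiv.ofBijective g0 hg0).trans e7))⟩

omit hd in
theorem not_top {h : LL = ⊤} : False := by
  obtain ⟨g, hg⟩ := exists_move hh (E 3) PZ
  exact not_inO_PZ (hg ▸ inO_act (h ▸ Subgroup.mem_top g) inO_E3)

/-- The members inside are the 3240 points. -/
theorem inO_of_mem {p : Pt} (hp : d p ∈ LL) : InO p := by
  by_contra hout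
  refine not_top (h := eq_top_iff.mpr ?_)
  obtain ⟨h0, hh0, e0⟩ := orbit_out hout
  have hz : d PZ ∈ LL := by
    have h1 : d PZ = h0⁻¹ * d p * h0 := by rw [← e0, hd.conj]; group
    rw [h1]
    exact mul_mem (mul_mem (inv_mem (L1_le hh0)) hp) (L1_le hh0)
  have hall : ∀ q, d q ∈ LL := fun q => by
    by_cases hq : InO q
    · exact d_mem hd hq
    · obtain ⟨h1, hh1, e1⟩ := orbit_out hq
      rw [← e1, hd.conj]
      exact mul_mem (mul_mem (L1_le hh1) hz) (inv_mem (L1_le hh1))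
  rw [← closure_gg (CosetCertFi23F.enumerated).good, Subgroup.closure_le]
  rintro _ ⟨x, hx, rfl⟩
  rw [← (CosetCertFi23F.enumerated).ng] at hx
  rw [SetLike.mem_coe, ← hd.base x hx]
  exact hall _

omit hd in
theorem exists_data74 : ∃ d : Pt → K, Data hh d E := by
  obtain ⟨d, hd⟩ := ThreeTransFi23Out41.exists_data
  refine ⟨d, ⟨hd.conj, hd.inj, hd.faithful, fun x hx => ?_⟩⟩
  rw [← hd.base x hx]
  exact congrArg d (Fin.ext (ThreeTransFi23Out41.E_val x hx).symm)

omit hd in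
/-- A group identified with the presented Fi23 has the triality subgroup. -/
theorem exists_triality {G : Type*} [Group G] [Finite G] {D : Set G}
    (hconj : ∀ g : G, ∀ a ∈ D, g * a * g⁻¹ ∈ D) (hclass : ∀ a ∈ D, ∀ b ∈ D, ∃ g : G, g * a * g⁻¹ = b)
    (φ : K ≃* G) (hφ : φ (P23.gg 3) ∈ D) :
    ∃ L : Subgroup G, Cfsg.IsDSubgroup D L ∧
      Nonempty (↥(Cfsg.generalizedFittingSubgroup ↥L) ≃* Cfsg.POmega (ZMod 3) (Cfsg.quadFormPlus 4 (ZMod 3))) ∧
      (∃ _ : (Cfsg.generalizedFittingSubgroup ↥L).Normal,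
        Nonempty (↥L ⧸ Cfsg.generalizedFittingSubgroup ↥L ≃* Equiv.Perm (Fin 3))) ∧
      ∀ x ∈ D, x ∈ L → Nonempty (↥(L ⊓ Subgroup.centralizer ({x} : Set G)) ≃*
        Multiplicative (ZMod 2) × Cfsg.POmega (ZMod 3) (Cfsg.quadFormOdd 3 (ZMod 3))) := by
  obtain ⟨d, hd⟩ := exists_data74
  haveI : Finite K := Finite.of_equiv G φ.symm.toEquiv
  have hD : ∀ p, φ (d p) ∈ D := fun p => by
    obtain ⟨g, hg⟩ := exists_move hh (E 3) p
    rw [← hg, hd.conj, d_E3 hd, map_mul, map_mul, map_inv]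
    exact hconj _ _ hφ
  have hDp : ∀ x ∈ D, ∃ p, φ (d p) = x := fun x hx => by
    obtain ⟨g, hg⟩ := hclass _ hφ x hx
    refine ⟨act (φ.symm g) (E 3), ?_⟩
    rw [hd.conj, d_E3 hd, map_mul, map_mul, map_inv, φ.apply_symm_apply, hg]
  let eL : ↥LL ≃* ↥(LL.map φ.toMonoidHom) := LL.equivMapOfInjective φ.toMonoidHom φ.injective
  obtain ⟨eP⟩ := ThreeTransFi23TrialLin74.equiv_POmega
  have hgen := gen_LL hd
  let eK : ↥(Cfsg.generalizedFittingSubgroup ↥(LL.map φ.toMonoidHom)) ≃* ↥colHom.ker :=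
    (MulEquiv.subgroupCongr (show _ = colHom.ker.map eL.toMonoidHom by
      rw [← hgen, ComponentsFitting.gen_map_mulEquiv])).trans
      (colHom.ker.equivMapOfInjective eL.toMonoidHom eL.injective).symm
  have hker : Cfsg.generalizedFittingSubgroup ↥(LL.map φ.toMonoidHom) =
      (colHom.comp eL.symm.toMonoidHom).ker := by
    rw [← ComponentsFitting.gen_map_mulEquiv eL, hgen]
    ext y
    rw [MonoidHom.mem_ker]
    constructor
    · rintro ⟨z, hz, rfl⟩
      show colHom (eL.symm (eL z)) = 1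
      rw [eL.symm_apply_apply]
      exact hz
    · intro hy
      exact ⟨eL.symm y, hy, eL.apply_symm_apply y⟩
  have hN : (Cfsg.generalizedFittingSubgroup ↥(LL.map φ.toMonoidHom)).Normal := by
    rw [hker]; exact MonoidHom.normal_ker _
  refine ⟨LL.map φ.toMonoidHom, ?_, ⟨?_⟩, ⟨hN, ⟨?_⟩⟩, ?_⟩
  · refine le_antisymm ((Subgroup.closure_le _).2 fun x hx => hx.2) ?_
    conv_lhs => rw [LL, MonoidHom.map_closure]
    rw [Subgroup.closure_le]
    rintro _ ⟨g, hg, rfl⟩
    refine Subgroup.subset_closure ⟨?_, Subgroup.mem_map_of_mem _ (Subgroup.subset_closure hg)⟩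
    rcases hg with rfl | ⟨a, h0, ha, rfl⟩
    · rw [← d_PX hd]; exact hD _
    · rw [← hd.base a (by rw [NG_eq]; exact ha)]; exact hD _
  · exact (eK.trans ((MulEquiv.subgroupCongr (ker_eq hd)).trans
      ((Subgroup.subgroupOfEquivOfLe (le_trans T0_le_L1 L1_le)).trans (equivRR hd)))).trans eP
  · exact (QuotientGroup.quotientMulEquivOfEq hker).trans
      (QuotientGroup.quotientKerEquivOfSurjective _ (colHom_surj.comp eL.symm.surjective))
  · intro x hx hxL
    obtain ⟨p, rfl⟩ := hDp x hx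
    have hp : InO p := inO_of_mem hd (by
      obtain ⟨y, hy, e1⟩ := hxL
      rwa [← φ.injective e1])
    obtain ⟨h, hh', rfl⟩ := orbit_all hp
    obtain ⟨e0⟩ := cent_root hd
    let ψ : K ≃* G := φ.trans (MulAut.conj (φ h))
    have hψ : ∀ k, ψ k = φ (h * k * h⁻¹) := fun k => by
      show φ h * φ k * (φ h)⁻¹ = _
      rw [map_mul, map_mul, map_inv]
    have hmap : (LL ⊓ Subgroup.centralizer ({P23.gg 3} : Set K)).map ψ.toMonoidHom =
        LL.map φ.toMonoidHom ⊓ Subgroup.centralizer ({φ (d (act h (E 3)))} : Set G) := by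
      rw [hd.conj, d_E3 hd, ← hψ]
      ext y
      constructor
      · rintro ⟨k, ⟨hk1, (hk2 : k ∈ Subgroup.centralizer ({P23.gg 3} : Set K))⟩, rfl⟩
        refine ⟨⟨h * k * h⁻¹, mul_mem (mul_mem hh' hk1) (inv_mem hh'), (hψ k).symm⟩, ?_⟩
        show ψ k ∈ Subgroup.centralizer ({ψ (P23.gg 3)} : Set G)
        rw [Subgroup.mem_centralizer_singleton_iff] at hk2 ⊢
        rw [← map_mul, ← map_mul, hk2]
      · rintro ⟨⟨k, (hk : k ∈ LL), rfl⟩, (hk2 : φ k ∈ Subgroup.centralizer ({ψ (P23.gg 3)} : Set G))⟩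
        have e2 : ψ (h⁻¹ * k * h) = φ k := by rw [hψ]; congr 1; group
        refine ⟨h⁻¹ * k * h, ⟨(show h⁻¹ * k * h ∈ LL from mul_mem (mul_mem (inv_mem hh') hk) hh'), ?_⟩, e2⟩
        show h⁻¹ * k * h ∈ Subgroup.centralizer ({P23.gg 3} : Set K)
        rw [Subgroup.mem_centralizer_singleton_iff] at hk2 ⊢
        apply ψ.injective
        rw [map_mul ψ (h⁻¹ * k * h), map_mul ψ (P23.gg 3), e2]
        exact hk2
    exact ⟨(MulEquiv.subgroupCongr hmap.symm).trans
      ((Subgroup.equivMapOfInjective _ _ ψ.injective).symm.trans e0)⟩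

end Cfsg.Agent.ThreeTransFi23Triality74
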