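import Mathlib
import Cfsg.Agent.Lib.ThreeTransM23Parity34
import Cfsg.Agent.Lib.ThreeTransM22Triples17
import Cfsg.Agent.Lib.ThreeTransM22Outer72

/-!
# Members centralising a subgroup of prime order

If the centraliser of `X` in the centraliser of each fixed member `d` is `X × ⟨d⟩`, the fixed members
do not commute pairwise, their number is a power of `3`, and two of them have no common neighbour
unless that neighbour commutes with all of them.  A set of pairwise non-commuting members is bounded by
counting common neighbours.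
-/

set_option autoImplicit false
set_option linter.unusedSectionVars false
set_option linter.style.haveILetI false

namespace Cfsg.Agent.ThreeTransFixed58

open Subgroup

variable {G : Type*} [Group G] [Finite G] {D : Set G}

/-- A member commuting with the product of two non-commuting members commutes with both. -/
theorem commute_pair (ht : ThreeTransRel.TSys D) {f d e : G} (hf : f ∈ D) (hd : d ∈ D) (he : e ∈ D)
    (hn : ¬ Commute d e) (h : Commute f (d * e)) : Commute f d ∧ Commute f e := by
  by_cases hfd : Commute f d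
  · refine ⟨hfd, ?_⟩
    have := hfd.mul_right h
    rwa [← mul_assoc, ht.sq d hd, one_mul] at this
  by_cases hfe : Commute f e
  · exfalso
    apply hfd
    have := h.mul_right hfe
    rwa [mul_assoc, ht.sq e he, mul_one] at this
  exfalso
  apply hn
  have hde : d * f * d = e * f * e := by
    calc d * f * d = d * (f * (d * e)) * e := by
          simp only [mul_assoc]; rw [ht.sq e he, mul_one]
      _ = d * (d * e * f) * e := by rw [h.eq]
      _ = e * f * e := by simp only [← mul_assoc]; rw [ht.sq d hd, one_mul]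
  rw [← ht.braid f hf d hd hfd, ← ht.braid f hf e he hfe] at hde
  rw [mul_left_cancel (mul_right_cancel hde)]

/-- Pairwise non-commuting members against the numbers of neighbours and of common neighbours. -/
theorem coclique_bound {V K : Set G}
    {k0 μ : ℕ} (hdeg : ∀ x ∈ K, {v | v ∈ V ∧ v ≠ x ∧ Commute x v}.ncard = k0)
    (hmu : ∀ x ∈ K, ∀ y ∈ K, x ≠ y →
      {v | v ∈ V ∧ (v ≠ x ∧ Commute x v) ∧ v ≠ y ∧ Commute y v}.ncard = μ)
    {m : ℕ} (hm : K.ncard = m) : (m * k0) ^ 2 ≤ V.ncard * (m * k0 + m * (m - 1) * μ) := by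
  classical
  haveI : Fintype G := Fintype.ofFinite G
  have hset : ∀ P : G → Prop, {v | v ∈ V ∧ P v}.ncard = ∑ v ∈ V.toFinset, if P v then 1 else 0 := by
    intro P
    rw [Finset.sum_boole, Nat.cast_id, ← Set.ncard_coe_finset]
    congr 1
    ext v
    simp
  let a : G → G → ℕ := fun x v => if v ≠ x ∧ Commute x v then 1 else 0
  have h1 : ∑ v ∈ V.toFinset, ∑ x ∈ K.toFinset, a x v = m * k0 := by
    rw [Finset.sum_comm, Finset.sum_congr rfl (g := fun _ => k0) fun x hx => ?_, Finset.sum_const,
      ← Set.ncard_eq_toFinset_card', hm, smul_eq_mul]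
    rw [← hdeg x (by simpa using hx), hset]
    refine Finset.sum_congr rfl fun v _ => ?_
    by_cases h : v ≠ x ∧ Commute x v <;> simp [a, h]
  have h2 : ∑ v ∈ V.toFinset, (∑ x ∈ K.toFinset, a x v) ^ 2 = m * k0 + m * (m - 1) * μ := by
    simp only [pow_two, Finset.sum_mul_sum]
    rw [Finset.sum_comm, Finset.sum_congr rfl (g := fun _ => k0 + (m - 1) * μ) fun x hx => ?_,
      Finset.sum_const, ← Set.ncard_eq_toFinset_card', hm, smul_eq_mul]
    · ring
    rw [Finset.sum_comm, ← Finset.add_sum_erase _ _ hx]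
    congr 1
    · rw [← hdeg x (by simpa using hx), hset]
      refine Finset.sum_congr rfl fun v _ => ?_
      by_cases h : v ≠ x ∧ Commute x v <;> simp [a, h]
    · rw [Finset.sum_congr rfl (g := fun _ => μ) fun y hy => ?_, Finset.sum_const,
        Finset.card_erase_of_mem hx, ← Set.ncard_eq_toFinset_card', hm, smul_eq_mul]
      rw [Finset.mem_erase] at hy
      rw [← hmu x (by simpa using hx) y (by simpa using hy.2) hy.1.symm, hset]
      refine Finset.sum_congr rfl fun v _ => ?_
      by_cases h : v ≠ x ∧ Commute x v <;> by_cases h' : v ≠ y ∧ Commute y v <;> simp [a, h, h']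
  have h3 := sq_sum_le_card_mul_sum_sq (s := V.toFinset) (f := fun v => ∑ x ∈ K.toFinset, a x v)
  rw [h1, h2, ← Set.ncard_eq_toFinset_card'] at h3
  exact h3

/-- The members centralising `X`. -/
def fixSet (D : Set G) (X : Subgroup G) : Set G := D ∩ (centralizer (X : Set G) : Set G)

theorem mem_fixSet {X : Subgroup G} {d : G} :
    d ∈ fixSet D X ↔ d ∈ D ∧ ∀ x ∈ X, Commute x d := by
  simp only [fixSet, Set.mem_inter_iff, SetLike.mem_coe, mem_centralizer_iff]
  exact Iff.rfl

/-- A subgroup of prime order at least `5` with small centraliser in those of the fixed members. -/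
structure Hyp (D : Set G) (X : Subgroup G) (p : ℕ) : Prop where
  ts : Cfsg.IsThreeTranspositionGroup D
  card : Nat.card ↥X = p
  prime : p.Prime
  five : 5 ≤ p
  cent : ∀ d ∈ fixSet D X, ∀ c : G, (∀ x ∈ X, Commute x c) → Commute c d → c ∈ X ∨ c * d ∈ X

variable {X : Subgroup G} {p : ℕ} (H : Hyp D X p)
include H

theorem Hyp.odd : Odd p := H.prime.odd_of_ne_two (by have := H.five; omega)

theorem Hyp.eq_one {x : G} (hx : x ∈ X) {n : ℕ} (hn : x ^ n = 1) (hco : Nat.Coprime n p) : x = 1 := by
  have h1 : orderOf x ∣ n := orderOf_dvd_of_pow_eq_one hn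
  have h2 : orderOf x ∣ p := by
    have := orderOf_dvd_natCard (⟨x, hx⟩ : ↥X)
    rwa [H.card, Subgroup.orderOf_mk] at this
  exact orderOf_eq_one_iff.mp (Nat.eq_one_of_dvd_coprimes hco h1 h2)

theorem Hyp.eq_one_two {x : G} (hx : x ∈ X) (hn : x * x = 1) : x = 1 :=
  H.eq_one hx (n := 2) (by rw [pow_two, hn]) (Nat.coprime_two_left.mpr H.odd)

theorem Hyp.eq_one_three {x : G} (hx : x ∈ X) (hn : x ^ 3 = 1) : x = 1 :=
  H.eq_one hx hn ((Nat.coprime_primes Nat.prime_three H.prime).mpr (by have := H.five; omega))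

theorem Hyp.not_commute {d e : G} (hd : d ∈ fixSet D X) (he : e ∈ fixSet D X) (hne : d ≠ e) :
    ¬ Commute d e := by
  intro h
  rw [mem_fixSet] at he
  have hd' := (mem_fixSet.mp hd).1
  have ht := ThreeTransRel.tsys_of_group H.ts
  rcases H.cent d hd e he.2 h.symm with k | k
  · exact ThreeTrans.ne_one H.ts.1 he.1 (H.eq_one_two k (ht.sq e he.1))
  · have h1 : (e * d) * (e * d) = 1 := by
      rw [h.mul_mul_mul_comm, ht.sq e he.1, ht.sq d hd', one_mul]
    have h2 := eq_inv_of_mul_eq_one_left (H.eq_one_two k h1)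
    rw [ht.inv_self hd'] at h2
    exact hne h2.symm

theorem Hyp.conj_fix {d g : G} (hd : d ∈ fixSet D X) (hg : g ∈ centralizer (X : Set G)) :
    g * d * g⁻¹ ∈ fixSet D X :=
  ⟨H.ts.2.1 g d hd.1, mul_mem (mul_mem hg hd.2) (inv_mem hg)⟩

theorem Hyp.transitive {d e : G} (hd : d ∈ fixSet D X) (he : e ∈ fixSet D X) :
    ∃ g ∈ centralizer (X : Set G), g * d * g⁻¹ = e := by
  by_cases hne : d = e
  · exact ⟨1, one_mem _, by simp [hne]⟩
  have ht := ThreeTransRel.tsys_of_group H.ts
  refine ⟨d * e, mul_mem hd.2 he.2, ?_⟩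
  have hb := ht.braid e he.1 d hd.1 fun h => H.not_commute hd he hne h.symm
  calc d * e * d * (d * e)⁻¹ = d * (e * d * e) * d := by
        rw [mul_inv_rev, ht.inv_self hd.1, ht.inv_self he.1]; group
    _ = d * (d * e * d) * d := by rw [hb]
    _ = e := ht.conj_conj hd.1 e

theorem Hyp.card_centralizer {d : G} (hd : d ∈ fixSet D X) :
    Nat.card ↥(centralizer (X : Set G)) = (fixSet D X).ncard * (2 * p) := by
  rw [ThreeTransM22Triples17.card_eq_mul (centralizer (X : Set G)) (fixSet D X) hd
    (fun g hg => H.conj_fix hd hg) (fun e he => H.transitive hd he)]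
  congr 1
  have hd1 := ThreeTrans.ne_one H.ts.1 hd.1
  have hdd := ThreeTrans.mul_self H.ts.1 hd.1
  have hdX : d ∉ X := fun h => hd1 (H.eq_one_two h hdd)
  have hXc : ∀ x ∈ X, x ∈ centralizer (X : Set G) ⊓ centralizer ({d} : Set G) := fun x hx => by
    refine ⟨mem_centralizer_iff.mpr fun y hy => ?_,
      mem_centralizer_singleton_iff.mpr ((mem_fixSet.mp hd).2 x hx).eq⟩
    haveI : Fact p.Prime := ⟨H.prime⟩
    haveI := isCyclic_of_prime_card H.card
    exact congrArg Subtype.val (IsMulCommutative.is_comm.comm (⟨y, hy⟩ : ↥X) ⟨x, hx⟩)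
  have hdc : d ∈ centralizer (X : Set G) ⊓ centralizer ({d} : Set G) :=
    ⟨hd.2, mem_centralizer_singleton_iff.mpr rfl⟩
  let f : ↥X × Bool → ↥(centralizer (X : Set G) ⊓ centralizer ({d} : Set G)) := fun q =>
    if q.2 then ⟨q.1 * d, mul_mem (hXc _ q.1.2) hdc⟩ else ⟨q.1, hXc _ q.1.2⟩
  have hf : Function.Bijective f := by
    constructor
    · rintro ⟨a, b⟩ ⟨a', b'⟩ h
      have h' := congrArg Subtype.val h
      cases b <;> cases b' <;> simp only [f, Bool.false_eq_true, if_false, if_true] at h'
      · rw [Subtype.ext h']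
      · exact absurd (show d ∈ X from (by
          have h2 : d = (a' : G)⁻¹ * (a : G) := by rw [h', inv_mul_cancel_left]
          exact h2 ▸ mul_mem (inv_mem a'.2) a.2)) hdX
      · exact absurd (show d ∈ X from (by
          have h2 : d = (a : G)⁻¹ * (a' : G) := by rw [← h', inv_mul_cancel_left]
          exact h2 ▸ mul_mem (inv_mem a.2) a'.2)) hdX
      · rw [Subtype.ext (mul_right_cancel h')]
    · rintro ⟨c, hc1, hc2⟩
      rcases H.cent d hd c (fun x hx => mem_centralizer_iff.mp hc1 x hx)
          (mem_centralizer_singleton_iff.mp hc2) with k | k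
      · exact ⟨(⟨c, k⟩, false), by simp [f]⟩
      · exact ⟨(⟨c * d, k⟩, true), by simp [f, mul_assoc, hdd]⟩
  rw [← Nat.card_eq_of_bijective f hf, Nat.card_prod, H.card, Nat.card_eq_fintype_card (α := Bool),
    Fintype.card_bool, mul_comm]

theorem Hyp.odd_ncard {d : G} (hd : d ∈ fixSet D X) : Odd (fixSet D X).ncard := by
  have ht := ThreeTransRel.tsys_of_group H.ts
  obtain ⟨k, hk⟩ := ThreeTransM23Parity34.ncard_split hd (ht.sq d hd.1)
    (fun y hy => H.conj_fix hy hd.2)
  have h0 : {y | y ∈ fixSet D X ∧ y ≠ d ∧ Commute d y} = ∅ :=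
    Set.eq_empty_of_forall_notMem fun y hy => H.not_commute hd hy.1 (Ne.symm hy.2.1) hy.2.2
  rw [h0, Set.ncard_empty] at hk
  exact ⟨k, by omega⟩

/-- The structure: the number is a power of `3`, and a common neighbour of two is one of all. -/
theorem Hyp.main {d : G} (hd : d ∈ fixSet D X) :
    (∃ a : ℕ, (fixSet D X).ncard = 3 ^ a) ∧ ∀ f ∈ D, ∀ u ∈ fixSet D X, ∀ v ∈ fixSet D X, u ≠ v →
      Commute f u → Commute f v → ∀ w ∈ fixSet D X, Commute f w := by
  classical
  set C := centralizer (X : Set G) with hC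
  have ht := ThreeTransRel.tsys_of_group H.ts
  have hdd := ThreeTrans.mul_self H.ts.1 hd.1
  have hd1 := ThreeTrans.ne_one H.ts.1 hd.1
  have hXC : X ≤ C := fun x hx => by
    haveI : Fact p.Prime := ⟨H.prime⟩
    haveI := isCyclic_of_prime_card H.card
    exact mem_centralizer_iff.mpr fun y hy =>
      congrArg Subtype.val (IsMulCommutative.is_comm.comm (⟨y, hy⟩ : ↥X) ⟨x, hx⟩)
  haveI : Fintype ↥C := Fintype.ofFinite _
  set dC : ↥C := ⟨d, hd.2⟩ with hdC
  have hdd' : dC * dC = 1 := Subtype.ext hdd
  let χ : ↥C →* ℤˣ := Equiv.Perm.sign.comp (MulAction.toPermHom ↥C ↥C)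
  have hχd : χ dC = -1 := by
    obtain ⟨k, hk, hs⟩ := ThreeTransM22Outer72.sign_involution (MulAction.toPermHom ↥C ↥C dC)
      (by rw [← map_mul, hdd', map_one])
    have h0 : {x | MulAction.toPermHom ↥C ↥C dC x = x} = ∅ :=
      Set.eq_empty_of_forall_notMem fun x (hx : dC * x = x) =>
        hd1 (congrArg Subtype.val (mul_eq_right.mp hx))
    rw [h0, Set.ncard_empty, ← Nat.card_eq_fintype_card, hC, H.card_centralizer hd, zero_add] at hk
    have hko : Odd k := by
      have := (H.odd_ncard hd).mul H.odd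
      rwa [show (fixSet D X).ncard * p = k by nlinarith] at this
    show Equiv.Perm.sign _ = _
    rw [hs, hko.neg_one_pow]
  set A := χ.ker with hA
  have hXA : ∀ (x : G) (hx : x ∈ X), (⟨x, hXC hx⟩ : ↥C) ∈ A := by
    intro x hx
    have h1 : (⟨x, hXC hx⟩ : ↥C) ^ p = 1 := Subtype.ext (by
      have := congrArg Subtype.val (pow_card_eq_one' (x := (⟨x, hx⟩ : ↥X)))
      rw [H.card] at this
      simpa using this)
    rcases Int.units_eq_one_or (χ ⟨x, hXC hx⟩) with h | h
    · exact h
    · have h2 := congrArg χ h1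
      rw [map_pow, map_one, h, H.odd.neg_one_pow] at h2
      exact absurd h2 (by decide)
  have hXn : ((X.subgroupOf C).subgroupOf A).Normal := ⟨fun a ha g => by
    simp only [mem_subgroupOf] at ha ⊢
    have h := mem_centralizer_iff.mp (g : ↥C).2 _ ha
    push_cast
    rw [← h, mul_inv_cancel_right]
    exact ha⟩
  set N := (X.subgroupOf C).subgroupOf A with hN
  have memN : ∀ a : ↥A, a ∈ N ↔ ((a : ↥C) : G) ∈ X := fun a => Iff.rfl
  -- conjugation by `d` on the quotient
  let c0 : ↥A →* ↥A :=
    { toFun := fun a => ⟨dC * a * dC, by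
        show χ _ = 1
        rw [map_mul, map_mul, show χ (a : ↥C) = 1 from a.2, mul_one, hχd]
        decide⟩
      map_one' := Subtype.ext (by simp [hdd'])
      map_mul' := fun a b => Subtype.ext (by
        show dC * (a * b : ↥C) * dC = dC * a * dC * (dC * b * dC)
        calc dC * ((a : ↥C) * b) * dC = dC * a * (dC * dC) * b * dC := by
              rw [hdd', mul_one]; group
          _ = _ := by group) }
  have hc0 : N ≤ N.comap c0 := fun a ha => by
    rw [mem_comap, memN]
    rw [memN] at ha
    show d * ((a : ↥C) : G) * d ∈ X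
    rw [← (mem_fixSet.mp hd).2 _ ha |>.eq, mul_assoc, hdd, mul_one]
    exact ha
  let φ : ↥A ⧸ N →* ↥A ⧸ N := QuotientGroup.map N N c0 hc0
  have hfpf : MonoidHom.FixedPointFree φ := by
    intro q
    induction q using QuotientGroup.induction_on with
    | H a =>
      intro hq
      rw [QuotientGroup.map_mk, QuotientGroup.eq, memN] at hq
      rw [QuotientGroup.eq_one_iff, memN]
      set g : G := ((a : ↥C) : G) with hg
      have hq' : (d * g * d)⁻¹ * g ∈ X := hq
      set x := (d * g * d)⁻¹ * g with hx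
      have hgx : g = d * g * d * x := by rw [hx, mul_inv_cancel_left]
      have hxd := (mem_fixSet.mp hd).2 x hq'
      have h2 : g = g * (x * x) := by
        calc g = d * g * d * x := hgx
          _ = d * (d * g * d * x) * d * x := congrArg (fun t => d * t * d * x) hgx
          _ = (d * d) * g * d * (x * d) * x := by group
          _ = (d * d) * g * (d * d) * (x * x) := by rw [hxd.eq]; group
          _ = g * (x * x) := by rw [hdd, one_mul, mul_one]
      have hx1 : x = 1 := H.eq_one_two hq' (mul_eq_left.mp h2.symm)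
      rw [hx1, mul_one] at hgx
      have hcomm : Commute g d := by
        show g * d = d * g
        conv_lhs => rw [hgx, mul_assoc (d * g), hdd, mul_one]
      rcases H.cent d hd g (fun y hy => mem_centralizer_iff.mp (a : ↥C).2 y hy) hcomm with k | k
      · exact k
      · exfalso
        have h4 : (a : ↥C) * dC ∈ A := hXA _ k
        change χ _ = 1 at h4
        rw [map_mul, show χ (a : ↥C) = 1 from a.2, hχd, one_mul] at h4
        exact absurd h4 (by decide)
  have hinv : Function.Involutive φ := fun q => by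
    induction q using QuotientGroup.induction_on with
    | H a =>
      show φ (φ a) = a
      rw [QuotientGroup.map_mk, QuotientGroup.map_mk]
      congr 1
      apply Subtype.ext
      show dC * (dC * a * dC) * dC = a
      calc dC * (dC * (a : ↥C) * dC) * dC = dC * dC * a * (dC * dC) := by group
        _ = _ := by rw [hdd', one_mul, mul_one]
  have hab := hfpf.commute_all_of_involutive hinv
  have hcomm : ∀ a b : ↥A, ((b * a : ↥A) : G)⁻¹ * (a * b : ↥A) ∈ X := by
    intro a b
    have h := (hab (QuotientGroup.mk b) (QuotientGroup.mk a)).eq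
    rw [← QuotientGroup.mk_mul, ← QuotientGroup.mk_mul, QuotientGroup.eq, memN] at h
    simpa using h
  have hprod : ∀ u ∈ fixSet D X, ∀ v ∈ fixSet D X, ∀ h : u * v ∈ C, (⟨u * v, h⟩ : ↥C) ∈ A := by
    intro u hu v hv h
    obtain ⟨g, hg, hgu⟩ := H.transitive hu hv
    have e : (⟨u * v, h⟩ : ↥C) = ⟨u, hu.2⟩ * (⟨g, hg⟩ * ⟨u, hu.2⟩ * ⟨g, hg⟩⁻¹) :=
      Subtype.ext (by simp [hgu])
    rw [hA, MonoidHom.mem_ker, e, map_mul, map_mul, map_mul, map_inv]
    rcases Int.units_eq_one_or (χ ⟨u, hu.2⟩) with h1 | h1 <;>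
      rcases Int.units_eq_one_or (χ ⟨g, hg⟩) with h2 | h2 <;> rw [h1, h2] <;> decide
  have hcube : ∀ u ∈ fixSet D X, ∀ v ∈ fixSet D X, (u * v) ^ 3 = 1 := by
    intro u hu v hv
    by_cases huv : u = v
    · rw [huv, ht.sq v hv.1, one_pow]
    · exact ThreeTrans.cube_of_not_commute H.ts.1 hu.1 hv.1 (H.not_commute hu hv huv)
  constructor
  · haveI : Fact (Nat.Prime 3) := ⟨Nat.prime_three⟩
    let ψ : fixSet D X → ↥A ⧸ N := fun e =>
      QuotientGroup.mk ⟨⟨e.1 * d, mul_mem e.2.2 hd.2⟩, hprod _ e.2 _ hd _⟩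
    have hψi : Function.Injective ψ := by
      intro e e' h
      simp only [ψ, QuotientGroup.eq, memN] at h
      have h' : (e.1 * d)⁻¹ * (e'.1 * d) ∈ X := by simpa using h
      rw [mul_inv_rev, ht.inv_self hd.1, ht.inv_self e.2.1] at h'
      have h1 : e.1 * e'.1 ∈ X := by
        have hx := (mem_fixSet.mp hd).2 _ h'
        have e1 : e.1 * e'.1 = d * (d * e.1 * (e'.1 * d)) * d := by
          simp only [← mul_assoc]; rw [hdd, one_mul, mul_assoc _ d d, hdd, mul_one]
        rw [e1, ← hx.eq, mul_assoc _ d d, hdd, mul_one]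
        exact h'
      have h2 := eq_inv_of_mul_eq_one_left (H.eq_one_three h1 (hcube _ e.2 _ e'.2))
      rw [ht.inv_self e'.2.1] at h2
      exact Subtype.ext h2
    have hcard : Nat.card (↥A ⧸ N) = (fixSet D X).ncard := by
      have h1 : Nat.card ↥A * 2 = Nat.card ↥C := by
        rw [← χ.ker.index_mul_card, hA, mul_comm]
        congr 1
        rw [Subgroup.index_ker]
        have hr : χ.range = ⊤ := by
          rw [eq_top_iff]
          intro u _
          rcases Int.units_eq_one_or u with rfl | rfl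
          · exact one_mem _
          · exact ⟨dC, hχd⟩
        rw [hr, Subgroup.card_top]
        simp [Nat.card_eq_fintype_card]
      have h2 := N.card_eq_card_quotient_mul_card_subgroup
      have h3 : Nat.card ↥N = p := by
        rw [hN, Nat.card_congr (subgroupOfEquivOfLe (fun a (ha : a ∈ X.subgroupOf C) =>
          hXA _ ha)).toEquiv, Nat.card_congr (subgroupOfEquivOfLe hXC).toEquiv, H.card]
      change Nat.card ↥A * 2 = Nat.card ↥(centralizer (X : Set G)) at h1
      rw [H.card_centralizer hd, h2, h3] at h1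
      exact Nat.eq_of_mul_eq_mul_right H.prime.pos (by linarith)
    have hψb := ((Nat.bijective_iff_injective_and_card ψ).mpr
      ⟨hψi, by rw [hcard, Nat.card_coe_set_eq]⟩)
    have hpg : IsPGroup 3 (↥A ⧸ N) := fun q => ⟨1, by
      obtain ⟨e, rfl⟩ := hψb.2 q
      simp only [ψ, pow_one, ← QuotientGroup.mk_pow, QuotientGroup.eq_one_iff, memN]
      simp [hcube _ e.2 _ hd]⟩
    obtain ⟨a, ha⟩ := IsPGroup.iff_card.mp hpg
    exact ⟨a, by rw [← hcard, ha]⟩
  · intro f hf u hu v hv huv hfu hfv w hw
    -- some element of `A` carries `u` to `w` and fixes `u * v`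
    set a : ↥A := ⟨⟨u * w, mul_mem hu.2 hw.2⟩, hprod _ hu _ hw _⟩ with ha
    set y : ↥A := ⟨⟨u * v, mul_mem hu.2 hv.2⟩, hprod _ hu _ hv _⟩ with hy
    set g := u * w with hg
    have hgC : g ∈ C := mul_mem hu.2 hw.2
    have hgw : g * u * g⁻¹ = w := by
      by_cases huw : u = w
      · rw [hg, huw]; group
      have hb := ht.braid w hw.1 u hu.1 fun h => H.not_commute hu hw huw h.symm
      calc g * u * g⁻¹ = u * (w * u * w) * u := by
            rw [hg, mul_inv_rev, ht.inv_self hu.1, ht.inv_self hw.1]; group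
        _ = u * (u * w * u) * u := by rw [hb]
        _ = w := ht.conj_conj hu.1 w
    have hgy : g * (u * v) * g⁻¹ = u * v := by
      have hx : (u * v * g)⁻¹ * (g * (u * v)) ∈ X := hcomm a y
      set x := (u * v * g)⁻¹ * (g * (u * v)) with hxdef
      have hxg : g * x = x * g := ((mem_centralizer_iff.mp hgC) x hx).symm
      have hxy : Commute (u * v) x :=
        ((mem_centralizer_iff.mp (mul_mem hu.2 hv.2 : u * v ∈ C)) x hx).symm
      have e1 : g * (u * v) * g⁻¹ = u * v * x := by
        rw [mul_inv_eq_iff_eq_mul, mul_assoc (u * v) x g, ← hxg, ← mul_assoc (u * v) g x, hxdef,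
          mul_inv_cancel_left]
      have h3 := congrArg (fun t => g * t * g⁻¹) (hcube u hu v hv)
      simp only [← conj_pow, mul_one, mul_inv_cancel] at h3
      rw [e1, hxy.mul_pow, hcube u hu v hv, one_mul] at h3
      rw [e1, H.eq_one_three hx h3, mul_one]
    have hn : ¬ Commute (g * u * g⁻¹) (g * v * g⁻¹) := fun h =>
      H.not_commute hu hv huv ((Commute.conj_iff g).mp h)
    have h5 : Commute f ((g * u * g⁻¹) * (g * v * g⁻¹)) := by
      rw [show g * u * g⁻¹ * (g * v * g⁻¹) = g * (u * v) * g⁻¹ by group, hgy]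
      exact hfu.mul_right hfv
    have h6 := (commute_pair ht hf (H.ts.2.1 g u hu.1) (H.ts.2.1 g v hv.1) hn h5).1
    rwa [hgw] at h6

omit H

end Cfsg.Agent.ThreeTransFixed58
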