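import Cfsg.Agent.Lib.ThreeTransM22Classes72
import Cfsg.Agent.Lib.ThreeTransM22Triples17

/-!
# A maximal commuting set of a class of type M(22) and the members meeting none of it

Every other member commutes with none or six of the twenty-two, and the members near one that meets
none, meeting none themselves, are its images under the products of pairs.
-/

set_option autoImplicit false
set_option linter.unusedSectionVars false
set_option linter.style.haveILetI false

namespace Cfsg.Agent.ThreeTransM22Base17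

open Subgroup Cfsg.Agent.ThreeTransRel Cfsg.Agent.ThreeTransDescent
open Cfsg.Agent.UnitaryF4Geo Cfsg.Agent.UnitaryF4Line
open Cfsg.Agent.ThreeTransM22Local72 Cfsg.Agent.ThreeTransM22Frame72 Cfsg.Agent.ThreeTransM22Lift72
open Cfsg.Agent.ThreeTransM22Outer72 (Blk)

/-- The kernel of a nonzero functional in three variables is spanned by two vectors. -/
theorem kernel_pair {F : Type*} [Field F] [Fintype F] [hF : FourField F] (a : Fin 3 → F)
    (ha : a ≠ 0) :
    ∃ c₁ c₂ : Fin 3 → F, ∑ i, c₁ i * a i = 0 ∧ ∑ i, c₂ i * a i = 0 ∧ c₁ ≠ 0 ∧ c₂ ≠ 0 ∧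
      (∀ k : F, c₁ ≠ k • c₂) ∧
      ∀ c : Fin 3 → F, ∑ i, c i * a i = 0 → ∃ s t : F, c = s • c₁ + t • c₂ := by
  simp only [Fin.sum_univ_three]
  by_cases h0 : a 0 = 0
  · have h12 : a 1 ≠ 0 ∨ a 2 ≠ 0 := by
      by_contra hn
      push Not at hn
      exact ha (funext fun i => by fin_cases i <;> simp [h0, hn.1, hn.2])
    refine ⟨![1, 0, 0], ![0, a 2, a 1], ?_, ?_, ?_, ?_, ?_, ?_⟩
    · simp [h0]
    · simp [mul_comm (a 1), add_self]
    · exact fun e => one_ne_zero (congrFun e 0)
    · rintro e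
      rcases h12 with h | h
      · exact h (congrFun e 2)
      · exact h (congrFun e 1)
    · intro k e
      simpa using congrFun e 0
    · intro c hc
      rw [h0, mul_zero, zero_add] at hc
      have hc' := eq_of_add_eq_zero hc
      rcases h12 with h | h
      · refine ⟨c 0, c 2 / a 1, funext fun i => ?_⟩
        fin_cases i
        · simp
        · simp; field_simp; linear_combination hc'
        · simp; field_simp
      · refine ⟨c 0, c 1 / a 2, funext fun i => ?_⟩
        fin_cases i
        · simp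
        · simp; field_simp
        · simp; field_simp; linear_combination -hc'
  · refine ⟨![a 1, a 0, 0], ![a 2, 0, a 0], ?_, ?_, ?_, ?_, ?_, ?_⟩
    · simp [mul_comm (a 1), add_self]
    · simp [mul_comm (a 2), add_self]
    · exact fun e => h0 (congrFun e 1)
    · exact fun e => h0 (congrFun e 2)
    · intro k e
      exact h0 (by simpa using congrFun e 1)
    · intro c hc
      have hc' : c 0 * a 0 = c 1 * a 1 + c 2 * a 2 := eq_of_add_eq_zero (by linear_combination hc)
      refine ⟨c 1 / a 0, c 2 / a 0, funext fun i => ?_⟩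
      fin_cases i
      · simp; field_simp; linear_combination hc'
      · simp; field_simp
      · simp; field_simp

variable {G : Type*} [Group G] [Finite G] {D : Set G}

/-- The image of `d` under the product of two commuting members. -/
def pairImg (d x y : G) : G := x * y * d * y * x

theorem near_of_mem {B : Set G} (hB : Blk D B) {x p : G} (hx : x ∈ B) (hp : p ∈ B) (hne : p ≠ x) :
    p ∈ near D x :=
  ⟨hB.sub hp, hne, hB.comm x hx p hp⟩

theorem five_mem {B : Set G} (hB : Blk D B) {x b c : G} (hx : x ∈ B) (hb : b ∈ B) (hc : c ∈ B)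
    {l : List G} (h5 : ThreeTransLine.Five D x b c l) : ∀ p ∈ l, p ∈ B := by
  intro p hp
  refine hB.max p (h5.near_mem p hp).1 fun y hy => ?_
  by_cases e : y = x
  · exact e ▸ (h5.near_mem p hp).2.2.symm
  · exact (h5.closed y (near_of_mem hB hx hy e) (hB.comm y hy b hb) (hB.comm y hy c hc) p hp).symm

variable (hD : Cfsg.IsThreeTranspositionGroup D) (hprim : Cfsg.IsPrimitiveUnderConj D)
  (h22 : Cfsg.IsOfTypeM22 G D)
include hD hprim h22

theorem ncard_blk {B : Set G} (hB : Blk D B) : B.ncard = 22 := by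
  classical
  obtain ⟨x, hx⟩ : B.Nonempty := by
    by_contra hn
    obtain ⟨d, hd, -⟩ := h22.2
    exact hn ⟨d, hB.max d hd fun y hy => absurd ⟨y, hy⟩ hn⟩
  obtain ⟨F, _, _, _, hctx⟩ := exists_ctx hD hprim h22
  obtain ⟨φ, X⟩ := hctx x (hB.sub hx)
  haveI : Fintype B := Fintype.ofFinite _
  rw [← Nat.card_coe_set_eq, Nat.card_eq_fintype_card]
  exact (ThreeTransM22Outer72.plane_action X hB hx).1

/-- A member outside commuting with a member of the set commutes with exactly six. -/
theorem ncard_meet {B : Set G} (hB : Blk D B) {x y : G} (hx : x ∈ B) (hy : y ∈ D) (hyB : y ∉ B)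
    (hxy : Commute y x) : {b ∈ B | Commute y b}.ncard = 6 := by
  classical
  have ht := tsys_of_group hD
  have hline := ThreeTransLine.lineAt_all ht hprim h22
  obtain ⟨F, _, _, _, hctx⟩ := exists_ctx hD hprim h22
  obtain ⟨φ, X⟩ := hctx x (hB.sub hx)
  obtain ⟨w, hw⟩ := exists_omega (F := F)
  obtain ⟨e, f, hfr, -, hmem, hsur⟩ := ThreeTransM22Outer72.exists_plane X hB hx hw
  have hyn : y ∈ near D x := ⟨hy, fun e => hyB (e ▸ hx), hxy.symm⟩
  obtain ⟨v, hv, hv0, ev⟩ := L_surj X hyn
  set a : Fin 3 → F := fun i => h (e i) v with ha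
  have hcomm : ∀ c : Fin 3 → F, c ≠ 0 →
      (Commute y (Chart.L X.chart (comb e c)) ↔ ∑ i, c i * a i = 0) := by
    intro c hc
    have hc0 : comb e c ≠ 0 := ThreeTransM22Std72.comb_ne X hfr hc
    have : h (comb e c) v = ∑ i, c i * a i := h_sum_left c e v
    rw [← ev, ← this]
    constructor
    · exact fun k => (L_comm X (hfr.h_ee _ _) hc0 hv hv0).mp k.symm
    · exact fun k => ((L_comm X (hfr.h_ee _ _) hc0 hv hv0).mpr k).symm
  have ha0 : a ≠ 0 := fun e0 => hyB (hB.max y hy fun b hb => by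
    by_cases eb : b = x
    · exact eb ▸ hxy
    obtain ⟨c, hc, rfl⟩ := hsur b hb eb
    exact (hcomm c hc).mpr (by simp [e0]))
  obtain ⟨c₁, c₂, k1, k2, n1, n2, hind, hspan⟩ := kernel_pair a ha0
  set b := Chart.L X.chart (comb e c₁)
  set c := Chart.L X.chart (comb e c₂)
  have hbB : b ∈ B := hmem c₁ n1
  have hcB : c ∈ B := hmem c₂ n2
  have hbx : b ≠ x := (L_mem X (hfr.h_ee _ _) (ThreeTransM22Std72.comb_ne X hfr n1)).2.1
  have hcx : c ≠ x := (L_mem X (hfr.h_ee _ _) (ThreeTransM22Std72.comb_ne X hfr n2)).2.1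
  have hbc : b ≠ c := L_comb_ne X hfr n1 n2 hind
  obtain ⟨l, h5⟩ := (hline x (hB.sub hx)).1 b (near_of_mem hB hx hbB hbx) c
    (near_of_mem hB hx hcB hcx) (hB.comm b hbB c hcB) hbc
  have hset : {p ∈ B | Commute y p} = ↑(insert x l.toFinset) := by
    ext p
    simp only [Finset.coe_insert, List.coe_toFinset, Set.mem_insert_iff, Set.mem_ofPred_eq]
    constructor
    · rintro ⟨hp, hyp⟩
      by_cases ep : p = x
      · exact Or.inl ep
      refine Or.inr (h5.maximal p (near_of_mem hB hx hp ep) fun t htn htb htc => ?_)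
      obtain ⟨cp, hcp, rfl⟩ := hsur p hp ep
      obtain ⟨s, r, hsr⟩ := hspan cp ((hcomm cp hcp).mp hyp)
      obtain ⟨u, hu, hu0, rfl⟩ := L_surj X htn
      have hb0 := ThreeTransM22Std72.comb_ne X hfr n1
      have hc0 := ThreeTransM22Std72.comb_ne X hfr n2
      refine (L_comm X hu hu0 (hfr.h_ee _ _) (ThreeTransM22Std72.comb_ne X hfr hcp)).mpr ?_
      have z1 := h_comm_zero ((L_comm X hu hu0 (hfr.h_ee _ _) hb0).mp htb)
      have z2 := h_comm_zero ((L_comm X hu hu0 (hfr.h_ee _ _) hc0).mp htc)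
      refine h_comm_zero ?_
      have hlin : comb e cp = s • comb e c₁ + r • comb e c₂ := by
        rw [hsr]
        simp [comb, add_smul, Finset.sum_add_distrib, Finset.smul_sum, smul_smul]
      rw [hlin, h_add_left, h_smul_left, h_smul_left, z1, z2, mul_zero, mul_zero, add_zero]
    · rintro (rfl | hp)
      · exact ⟨hx, hxy⟩
      · refine ⟨five_mem hB hx hbB hcB h5 p hp, h5.closed y hyn ?_ ?_ p hp⟩
        · exact (hcomm c₁ n1).mpr k1
        · exact (hcomm c₂ n2).mpr k2
  rw [hset, Set.ncard_coe_finset, Finset.card_insert_of_notMem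
    (fun hm => (h5.near_mem x (List.mem_toFinset.mp hm)).2.1 rfl),
    List.toFinset_card_of_nodup h5.nodup, h5.len]

/-- A product of four members of the set is a product of at most three. -/
theorem four_reduce {B : Set G} (hB : Blk D B) {x y z w : G} (hx : x ∈ B) (hy : y ∈ B) (hz : z ∈ B)
    (hw : w ∈ B) (hnd : [x, y, z, w].Nodup) :
    ∃ l : List G, CList D l ∧ (∀ a ∈ l, a ∈ B) ∧ l.length ≤ 3 ∧ l.prod = x * (y * (z * w)) := by
  classical
  have ht := tsys_of_group hD
  have hline := ThreeTransLine.lineAt_all ht hprim h22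
  simp only [List.nodup_cons, List.mem_cons, List.not_mem_nil, or_false, not_or, not_false_eq_true,
    List.nodup_nil, and_true] at hnd
  obtain ⟨⟨hxy, hxz, hxw⟩, ⟨hyz, hyw⟩, hzw⟩ := hnd
  have hyn := near_of_mem hB hx hy (Ne.symm hxy)
  have hzn := near_of_mem hB hx hz (Ne.symm hxz)
  have hwn := near_of_mem hB hx hw (Ne.symm hxw)
  obtain ⟨l, h5⟩ := (hline x (hB.sub hx)).1 y hyn z hzn (hB.comm y hy z hz) hyz
  by_cases hwl : w ∈ l
  · have h6 := ThreeTransLine.six ht hprim h22.1 hline (hB.sub hx) h5 hyn hzn (hB.comm y hy z hz) hyz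
    have hz1 : z ∈ l.erase y := (h5.nodup.mem_erase_iff).mpr ⟨Ne.symm hyz, h5.right_mem⟩
    have hw1 : w ∈ (l.erase y).erase z :=
      ((h5.nodup.erase y).mem_erase_iff).mpr ⟨Ne.symm hzw,
        (h5.nodup.mem_erase_iff).mpr ⟨Ne.symm hyw, hwl⟩⟩
    set m := ((l.erase y).erase z).erase w with hm
    have hperm : l.Perm (y :: z :: w :: m) :=
      ((List.perm_cons_erase h5.left_mem).trans ((List.perm_cons_erase hz1).cons y)).trans
        (((List.perm_cons_erase hw1).cons z).cons y)
    have hml : ∀ a ∈ m, a ∈ l := fun a ha =>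
      List.mem_of_mem_erase (List.mem_of_mem_erase (List.mem_of_mem_erase ha))
    have hcm : CList D m :=
      ⟨fun a ha => (h5.near_mem a (hml a ha)).1, ((h5.nodup.erase y).erase z).erase w,
        fun a ha b hb => h5.comm a (hml a ha) b (hml b hb)⟩
    refine ⟨m, hcm, fun a ha => five_mem hB hx hy hz h5 a (hml a ha), ?_, ?_⟩
    · rw [hm, List.length_erase_of_mem hw1, List.length_erase_of_mem hz1,
        List.length_erase_of_mem h5.left_mem, h5.len]
      norm_num
    · rw [hperm.prod_eq' (List.pairwise_of_forall_mem_list fun a ha b hb => h5.comm a ha b hb),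
        List.prod_cons, List.prod_cons, List.prod_cons] at h6
      have e : x * (y * (z * w)) * m.prod = 1 := by rw [← h6]; group
      rw [eq_inv_of_mul_eq_one_left e, inv_eq_of_mul_eq_one_right (hcm.prod_sq ht)]
  obtain ⟨F, _, _, _, hctx⟩ := exists_ctx hD hprim h22
  obtain ⟨φ, X⟩ := hctx x (hB.sub hx)
  obtain ⟨om, hom⟩ := exists_omega (F := F)
  obtain ⟨u, hu, hu0, eu⟩ := L_surj X hyn
  obtain ⟨v, hv, hv0, ev⟩ := L_surj X hzn
  obtain ⟨t, hts, ht0, et⟩ := L_surj X hwn
  have huv : h u v = 0 := (L_comm X hu hu0 hv hv0).mp (by rw [eu, ev]; exact hB.comm y hy z hz)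
  have htu : h t u = 0 := (L_comm X hts ht0 hu hu0).mp (by rw [et, eu]; exact hB.comm w hw y hy)
  have htv : h t v = 0 := (L_comm X hts ht0 hv hv0).mp (by rw [et, ev]; exact hB.comm w hw z hz)
  have hli2 : LinearIndependent F ![u, v] := by
    refine LinearIndependent.pair_iff.mpr fun s r hsr => ?_
    by_cases hs : s = 0
    · subst hs; rw [zero_smul, zero_add] at hsr
      exact ⟨rfl, (smul_eq_zero.mp hsr).resolve_right hv0⟩
    · exfalso
      have hu' : s • u = r • v := vec_eq_of_add hsr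
      have hr : r ≠ 0 := fun h0 => by
        rw [h0, zero_smul] at hu'; exact smul_ne_zero hs hu0 hu'
      have : u = (s⁻¹ * r) • v := by
        rw [mul_smul, ← hu', smul_smul, inv_mul_cancel₀ hs, one_smul]
      refine hyz ?_
      rw [← eu, ← ev, this, L_smul X hv hv0 (mul_ne_zero (inv_ne_zero hs) hr)]
  have htn : t ∉ Submodule.span F (Set.range ![u, v]) := by
    intro hin
    obtain ⟨c, hc⟩ := Submodule.mem_span_range_iff_exists_fun F |>.mp hin
    refine hwl (h5.maximal w hwn fun q hq hqy hqz => ?_)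
    obtain ⟨r, hr, hr0, rfl⟩ := L_surj X hq
    rw [← eu] at hqy
    rw [← ev] at hqz
    have z1 := (L_comm X hr hr0 hu hu0).mp hqy
    have z2 := (L_comm X hr hr0 hv hv0).mp hqz
    rw [← et]
    refine (L_comm X hr hr0 hts ht0).mpr ?_
    rw [← hc, Fin.sum_univ_two, h_add_right, h_smul_right, h_smul_right]
    simp [z1, z2]
  set e : Fin 3 → Fin 6 → F := Fin.cons t ![u, v] with he
  have hee : ∀ i j, h (e i) (e j) = 0 := by
    intro i j
    fin_cases i <;> fin_cases j <;>
      simp [he, hu, hv, hts, huv, htu, htv, h_comm_zero huv, h_comm_zero htu, h_comm_zero htv]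
  obtain ⟨f, hfr⟩ := exists_frame_of hee (hli2.finCons htn)
  obtain ⟨-, a, ha, hprod⟩ := conic_exists X hfr hom
  have hbase : ∀ i, Chart.L X.chart (e i) ∈ B := by
    intro i
    fin_cases i
    · show Chart.L X.chart t ∈ B; rw [et]; exact hw
    · show Chart.L X.chart u ∈ B; rw [eu]; exact hy
    · show Chart.L X.chart v ∈ B; rw [ev]; exact hz
  have hin : ∀ c : Fin 3 → F, c ≠ 0 → Chart.L X.chart (comb e c) ∈ B := by
    intro c hc
    have hc0 := ThreeTransM22Std72.comb_ne X hfr hc
    refine hB.max _ (L_mem X (hfr.h_ee _ _) hc0).1 fun b hb => ?_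
    by_cases eb : b = x
    · exact eb ▸ (L_mem X (hfr.h_ee _ _) hc0).2.2.symm
    obtain ⟨r, hr, hr0, rfl⟩ := L_surj X (near_of_mem hB hx hb eb)
    refine (L_comm X (hfr.h_ee _ _) hc0 hr hr0).mpr ?_
    rw [comb, h_sum_left]
    refine Finset.sum_eq_zero fun i _ => ?_
    rw [(L_comm X (hee i i) (hfr.ne_zero i) hr hr0).mp (hB.comm _ (hbase i) _ hb), mul_zero]
  refine ⟨conic X e a om, clist_conic X hfr hom, fun p hp => ?_, by simp [conic], ?_⟩
  · simp only [conic, List.mem_cons, List.not_mem_nil, or_false] at hp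
    rcases hp with rfl | rfl | rfl <;> exact hin _ (q_ne_zero a _)
  · rw [hprod]
    have hb : (base X e).prod = w * (y * z) := by simp [base, he, et, eu, ev]
    rw [hb]
    have c1 : Commute w (y * z) := (hB.comm w hw y hy).mul_right (hB.comm w hw z hz)
    have c2 : Commute x (y * (z * w)) :=
      (hB.comm x hx y hy).mul_right ((hB.comm x hx z hz).mul_right (hB.comm x hx w hw))
    rw [c1.eq, mul_assoc y z w, c2.eq]

/-- A member meeting none of the set does not commute with a product of four of it. -/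
theorem not_commute_four {B : Set G} (hB : Blk D B) {d : G} (hd : d ∈ D)
    (hnone : ∀ b ∈ B, ¬ Commute d b) {x y z w : G} (hx : x ∈ B) (hy : y ∈ B) (hz : z ∈ B)
    (hw : w ∈ B) (hnd : [x, y, z, w].Nodup) : ¬ Commute d (x * (y * (z * w))) := by
  intro hc
  have ht := tsys_of_group hD
  obtain ⟨l, hl, hlB, hlen, hp⟩ := four_reduce hD hprim h22 hB hx hy hz hw hnd
  cases l with
  | nil =>
    rw [List.prod_nil] at hp
    have hsub : ∀ p ∈ [y, z, w], p ∈ B := by simp [hy, hz, hw]
    have h3 : CList D [y, z, w] := ⟨fun p hp => hB.sub (hsub p hp), (List.nodup_cons.mp hnd).2,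
      fun p hp q hq => hB.comm p (hsub p hp) q (hsub q hq)⟩
    have h1 : CList D [x] := ⟨by simp [hB.sub hx], by simp, by simp⟩
    have := ThreeTransM22Classes72.length_unique hD hprim h22 h1 h3 (by simp) (by simp) (by simp) (by
      simp only [List.prod_cons, List.prod_nil, mul_one]
      rw [eq_inv_of_mul_eq_one_left hp.symm]
      exact inv_eq_of_mul_eq_one_right (by
        have := h3.prod_sq ht
        simpa using this))
    simp at this
  | cons a l =>
    rw [← hp] at hc
    exact hnone a (hlB a (by simp))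
      ((ThreeTransM22Count72.commute_prod_iff ht hd hl hlen).mp hc a (by simp))

/-- The pair determines and is determined by the image. -/
theorem pairImg_inj {B : Set G} (hB : Blk D B) {d : G} (hd : d ∈ D)
    (hnone : ∀ b ∈ B, ¬ Commute d b) {x y z w : G} (hx : x ∈ B) (hy : y ∈ B) (hz : z ∈ B)
    (hw : w ∈ B) (hxy : x ≠ y) (hzw : z ≠ w) (he : pairImg d x y = pairImg d z w) :
    x = z ∧ y = w ∨ x = w ∧ y = z := by
  have ht := tsys_of_group hD
  have hsymm : ∀ p q : G, p ∈ B → q ∈ B → pairImg d p q = pairImg d q p := by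
    intro p q hp hq
    simp only [pairImg]
    rw [(hB.comm p hp q hq).eq, mul_assoc _ q p, (hB.comm q hq p hp).eq, ← mul_assoc]
  have hone : ∀ p q r : G, p ∈ B → q ∈ B → r ∈ B → pairImg d p q = pairImg d p r → q = r := by
    intro p q r hp hq hr hpe
    simp only [pairImg] at hpe
    have h1 : q * d * q = r * d * r := by
      simp only [mul_assoc] at hpe ⊢
      have h2 := mul_left_cancel hpe
      simp only [← mul_assoc] at h2 ⊢
      exact mul_right_cancel h2
    rw [ht.braid q (hB.sub hq) d hd fun k => hnone q hq k.symm,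
      ht.braid r (hB.sub hr) d hd fun k => hnone r hr k.symm] at h1
    exact mul_left_cancel (mul_right_cancel h1)
  by_cases e1 : x = z
  · subst e1; exact Or.inl ⟨rfl, hone x y w hx hy hw he⟩
  by_cases e2 : x = w
  · subst e2; rw [hsymm z x hz hx] at he; exact Or.inr ⟨rfl, hone x y z hx hy hz he⟩
  rw [hsymm x y hx hy] at he
  by_cases e3 : y = z
  · subst e3; exact absurd (hone y x w hy hx hw he) e2
  by_cases e4 : y = w
  · subst e4; rw [hsymm z y hz hy] at he; exact absurd (hone y x z hy hx hz he) e1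
  exfalso
  refine not_commute_four hD hprim h22 hB hd hnone hw hz hy hx ?_ ?_
  · simp [hzw.symm, Ne.symm e4, Ne.symm e2, Ne.symm e3, Ne.symm e1, hxy.symm]
  · simp only [pairImg] at he
    have sz := ht.sq z (hB.sub hz)
    have sw := ht.sq w (hB.sub hw)
    have sx := ht.sq x (hB.sub hx)
    have sy := ht.sq y (hB.sub hy)
    have h1 : w * z * y * x * d = d * (w * z * y * x) := by
      have k1 : z * z = 1 := sz
      calc w * z * y * x * d = w * z * (y * x * d * x * y) * (y * x) := by
            simp only [mul_assoc]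
            rw [← mul_assoc y y x, sy, one_mul, sx, mul_one]
        _ = w * z * (z * w * d * w * z) * (y * x) := by rw [he]
        _ = (w * (z * z) * w) * (d * (w * z * (y * x))) := by simp only [mul_assoc]
        _ = d * (w * z * y * x) := by rw [sz, mul_one, sw, one_mul]; simp only [mul_assoc]
    show d * (w * (z * (y * x))) = w * (z * (y * x)) * d
    simp only [mul_assoc] at h1 ⊢
    exact h1.symm

section count

variable (hcard : D.ncard = 3510)
  (hmu : ∀ d ∈ D, ∀ b ∈ D, ¬ Commute d b → {y ∈ near D d | Commute y b}.ncard = 126)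
include hcard

/-- Some member meets none of the set. -/
theorem exists_none {B : Set G} (hB : Blk D B) : ∃ d ∈ D, ∀ b ∈ B, ¬ Commute d b := by
  classical
  have ht := tsys_of_group hD
  by_contra hno
  push Not at hno
  have hb : ∀ b ∈ B, {y ∈ D \ B | Commute y b}.ncard = 672 := by
    intro b hbB
    obtain ⟨F, _, _, _, hctx⟩ := exists_ctx hD hprim h22
    obtain ⟨φ, X⟩ := hctx b (hB.sub hbB)
    have e : {y ∈ D \ B | Commute y b} = near D b \ (B \ {b}) := by
      ext y
      simp only [Set.mem_ofPred_eq, Set.mem_sdiff, Set.mem_singleton_iff, near]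
      constructor
      · rintro ⟨⟨hy, hyB⟩, hc⟩
        exact ⟨⟨hy, fun e => hyB (e ▸ hbB), hc.symm⟩, fun k => hyB k.1⟩
      · rintro ⟨⟨hy, hne, hc⟩, hn⟩
        exact ⟨⟨hy, fun k => hn ⟨k, hne⟩⟩, hc.symm⟩
    rw [e, Set.ncard_sdiff (fun y hy => near_of_mem hB hbB hy.1 hy.2) (Set.toFinite _),
      ThreeTransM22Triples17.ncard_near X, Set.ncard_sdiff_singleton_of_mem hbB,
      ncard_blk hD hprim h22 hB]
  set Bf := (Set.toFinite B).toFinset with hBf
  set A := (Set.toFinite (D \ B)).toFinset with hA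
  have h1 : ∀ y ∈ A, (Bf.bipartiteAbove (fun y b => Commute y b) y).card = 6 := by
    intro y hy
    rw [hA, Set.Finite.mem_toFinset] at hy
    obtain ⟨b, hbB, hc⟩ := hno y hy.1
    rw [← ncard_meet hD hprim h22 hB hbB hy.1 hy.2 hc, Set.ncard_eq_toFinset_card _ (Set.toFinite _)]
    congr 1
    ext p
    simp [Finset.mem_bipartiteAbove, hBf]
  have h2 : ∀ b ∈ Bf, (A.bipartiteBelow (fun y b => Commute y b) b).card = 672 := by
    intro b hbB
    rw [hBf, Set.Finite.mem_toFinset] at hbB
    rw [← hb b hbB, Set.ncard_eq_toFinset_card _ (Set.toFinite _)]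
    congr 1
    ext p
    simp [Finset.mem_bipartiteBelow, hA]
  have h3 := Finset.sum_card_bipartiteAbove_eq_sum_card_bipartiteBelow
    (fun (y b : G) => Commute y b) (s := A) (t := Bf)
  rw [Finset.sum_congr rfl h1, Finset.sum_congr rfl h2, Finset.sum_const, Finset.sum_const,
    smul_eq_mul, smul_eq_mul, hA, hBf, ← Set.ncard_eq_toFinset_card _,
    ← Set.ncard_eq_toFinset_card _, ncard_blk hD hprim h22 hB,
    Set.ncard_sdiff hB.sub (Set.toFinite _), hcard, ncard_blk hD hprim h22 hB] at h3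
  omega

include hmu

/-- A member near one meeting none, and meeting none, is an image under a pair. -/
theorem eq_pairImg {B : Set G} (hB : Blk D B) {d e : G} (hd : d ∈ D)
    (hnone : ∀ b ∈ B, ¬ Commute d b) (he : e ∈ near D d) (henone : ∀ b ∈ B, ¬ Commute e b) :
    ∃ x ∈ B, ∃ y ∈ B, x ≠ y ∧ e = pairImg d x y := by
  classical
  have ht := tsys_of_group hD
  obtain ⟨F, _, _, _, hctx⟩ := exists_ctx hD hprim h22
  obtain ⟨φ, X⟩ := hctx d hd
  set Bf := (Set.toFinite B).toFinset with hBf
  set S := (Set.toFinite (near D d)).toFinset with hS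
  set W := S.filter fun y => ∃ b ∈ B, Commute y b with hW
  have hBm : ∀ p, p ∈ Bf ↔ p ∈ B := fun p => by simp [hBf]
  have h1 : ∀ y ∈ W, (Bf.bipartiteAbove (fun y b => Commute y b) y).card = 6 := by
    intro y hy
    rw [hW, Finset.mem_filter, hS, Set.Finite.mem_toFinset] at hy
    obtain ⟨hyn, b, hbB, hc⟩ := hy
    rw [← ncard_meet hD hprim h22 hB hbB hyn.1 (fun k => hnone y k hyn.2.2) hc,
      Set.ncard_eq_toFinset_card _ (Set.toFinite _)]
    congr 1
    ext p
    simp [Finset.mem_bipartiteAbove, hBf]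
  have h2 : ∀ b ∈ Bf, (W.bipartiteBelow (fun y b => Commute y b) b).card = 126 := by
    intro b hbB
    rw [hBm] at hbB
    rw [← hmu d hd b (hB.sub hbB) (hnone b hbB), Set.ncard_eq_toFinset_card _ (Set.toFinite _)]
    congr 1
    ext p
    simp only [Finset.mem_bipartiteBelow, hW, hS, Finset.mem_filter, Set.Finite.mem_toFinset,
      Set.mem_ofPred_eq]
    exact ⟨fun k => ⟨k.1.1, k.2⟩, fun k => ⟨⟨k.1, b, hbB, k.2⟩, k.2⟩⟩
  have h3 := Finset.sum_card_bipartiteAbove_eq_sum_card_bipartiteBelow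
    (fun (y b : G) => Commute y b) (s := W) (t := Bf)
  have hBc : Bf.card = 22 := by
    rw [hBf, ← Set.ncard_eq_toFinset_card _, ncard_blk hD hprim h22 hB]
  rw [Finset.sum_congr rfl h1, Finset.sum_congr rfl h2, Finset.sum_const, Finset.sum_const,
    smul_eq_mul, smul_eq_mul, hBc] at h3
  have hSc : S.card = 693 := by
    rw [hS, ← Set.ncard_eq_toFinset_card _, ThreeTransM22Triples17.ncard_near X]
  have hR : (S \ W).card = 231 := by
    have h4 := Finset.card_sdiff_of_subset (show W ⊆ S from Finset.filter_subset _ _)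
    omega
  set img := Bf.offDiag.image fun p => pairImg d p.1 p.2 with himg
  have hle : Bf.offDiag.card ≤ 2 * img.card := by
    refine Finset.card_le_mul_card_image _ 2 fun v hv => ?_
    obtain ⟨⟨x, y⟩, hp, rfl⟩ := Finset.mem_image.mp hv
    rw [Finset.mem_offDiag, hBm, hBm] at hp
    refine (Finset.card_le_card (t := {(x, y), (y, x)}) fun q hq => ?_).trans Finset.card_le_two
    rw [Finset.mem_filter, Finset.mem_offDiag, hBm, hBm] at hq
    rcases pairImg_inj hD hprim h22 hB hd hnone hq.1.1 hq.1.2.1 hp.1 hp.2.1 hq.1.2.2 hp.2.2 hq.2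
      with ⟨k1, k2⟩ | ⟨k1, k2⟩
    · exact Finset.mem_insert.mpr (Or.inl (Prod.ext k1 k2))
    · exact Finset.mem_insert_of_mem (Finset.mem_singleton.mpr (Prod.ext k1 k2))
  rw [Finset.offDiag_card, hBc] at hle
  have hsub : img ⊆ S \ W := by
    intro v hv
    obtain ⟨⟨x, y⟩, hp, rfl⟩ := Finset.mem_image.mp hv
    rw [Finset.mem_offDiag, hBm, hBm] at hp
    obtain ⟨hx, hy, hxy⟩ := hp
    have hl : CList D [x, y] :=
      ⟨by simp [hB.sub hx, hB.sub hy], by simp [hxy], by simp [hB.comm x hx y hy, hB.comm y hy x hx]⟩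
    have hconj : pairImg d x y = [x, y].prod * d * [x, y].prod⁻¹ := by
      simp only [pairImg, List.prod_cons, List.prod_nil, mul_one, mul_inv_rev,
        ht.inv_self (hB.sub hx), ht.inv_self (hB.sub hy)]
      simp only [mul_assoc]
    have hn : ∀ a ∈ [x, y], ¬ Commute d a := by simp [hnone x hx, hnone y hy]
    obtain ⟨k1, k2⟩ := key ht hd hl (by simp)
    have hcnt : cnt d [x, y] = 2 := by simp [cnt, hnone x hx, hnone y hy]
    have hcd : Commute d (pairImg d x y) := by rw [hconj]; exact k2.mpr (Or.inr hcnt)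
    have hne : pairImg d x y ≠ d := fun k => by
      rw [hconj, mul_inv_eq_iff_eq_mul] at k
      have := k1.mp (show Commute d [x, y].prod from k.symm)
      omega
    rw [Finset.mem_sdiff, hW, Finset.mem_filter, hS, Set.Finite.mem_toFinset]
    refine ⟨⟨hconj ▸ ht.conj _ d hd, hne, hcd⟩, fun k => ?_⟩
    obtain ⟨-, b, hbB, hc⟩ := k
    have hfix : [x, y].prod * b * [x, y].prod⁻¹ = b := by
      have : Commute [x, y].prod b := by
        simpa using (hB.comm x hx b hbB).mul_left (hB.comm y hy b hbB)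
      exact mul_inv_eq_iff_eq_mul.mpr this.eq
    rw [hconj, ← hfix] at hc
    exact hnone b hbB ((Commute.conj_iff _).mp hc)
  have heq := Finset.eq_of_subset_of_card_le hsub (by rw [hR]; omega)
  have hmemR : e ∈ S \ W := by
    rw [Finset.mem_sdiff, hW, Finset.mem_filter, hS, Set.Finite.mem_toFinset]
    exact ⟨he, fun k => by obtain ⟨-, b, hbB, hc⟩ := k; exact henone b hbB hc⟩
  rw [← heq, himg, Finset.mem_image] at hmemR
  obtain ⟨⟨x, y⟩, hp, rfl⟩ := hmemR
  rw [Finset.mem_offDiag, hBm, hBm] at hp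
  exact ⟨x, hp.1, y, hp.2.1, hp.2.2, rfl⟩

end count

theorem stable_class (φ : MulAut G) : φ '' D = D := by
  obtain ⟨d, hd, -⟩ := h22.2
  refine ThreeTransM22Cent72.unique_class hD hprim h22
    (ThreeTransM22Outer72.centralizer_eq_loc hD hprim h22) ⟨⟨?_, ?_⟩, ⟨φ d, ⟨d, hd, rfl⟩, ?_⟩, ?_⟩
  · rintro _ ⟨a, ha, rfl⟩
    rw [MulEquiv.orderOf_eq]; exact hD.1.1 a ha
  · rintro _ ⟨a, ha, rfl⟩ _ ⟨b, hb, rfl⟩
    rw [← map_mul, ← map_pow, ← map_pow, EmbeddingLike.map_eq_one_iff, EmbeddingLike.map_eq_one_iff]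
    exact hD.1.2 a ha b hb
  · ext y
    constructor
    · rintro ⟨a, ha, rfl⟩
      obtain ⟨g, rfl⟩ := hprim.1 d hd a ha
      exact isConj_iff.mpr ⟨φ g, by simp⟩
    · intro hy
      obtain ⟨g, rfl⟩ := isConj_iff.mp hy
      exact ⟨φ.symm g * d * (φ.symm g)⁻¹, hD.2.1 _ d hd, by simp⟩
  · rw [show (φ '' D) = φ.toMonoidHom '' D from rfl, ← MonoidHom.map_closure, hD.2.2,
      Subgroup.map_top_of_surjective _ φ.surjective]

/-- An automorphism of order two fixes a member, given the parameters of the graph. -/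
theorem exists_fixed (hcard : D.ncard = 3510)
    (hmu : ∀ d ∈ D, ∀ b ∈ D, ¬ Commute d b → {y ∈ near D d | Commute y b}.ncard = 126)
    (φ : MulAut G) (hφ : φ * φ = 1) : ∃ d ∈ D, φ d = d := by
  classical
  have ht := tsys_of_group hD
  have hst := stable_class hD hprim h22 φ
  have hφD : ∀ a ∈ D, φ a ∈ D := fun a ha => hst.subset ⟨a, ha, rfl⟩
  have hinv : ∀ a, φ (φ a) = a := fun a => by
    rw [← MulAut.mul_apply, hφ, MulAut.one_apply]
  by_contra hno
  push Not at hno
  have hcom : ∀ a ∈ D, Commute a (φ a) := by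
    intro a ha
    by_contra hn
    refine hno (a * φ a * a) (ht.conj_mem ha (hφD a ha)) ?_
    rw [map_mul, map_mul, hinv]
    exact (ht.braid a ha _ (hφD a ha) hn).symm
  have himage : ∀ B : Set G, Blk D B → Blk D (φ '' B) := by
    intro B hB
    refine ⟨?_, ?_, fun y hy hall => ⟨φ y, hB.max _ (hφD y hy) fun a ha => ?_, hinv y⟩⟩
    · rintro _ ⟨a, ha, rfl⟩; exact hφD a (hB.sub ha)
    · rintro _ ⟨a, ha, rfl⟩ _ ⟨b, hb, rfl⟩; exact (hB.comm a ha b hb).map φ.toMonoidHom
    · have := (hall _ ⟨a, ha, rfl⟩).map φ.toMonoidHom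
      simpa [hinv] using this
  obtain ⟨B, hB, hBφ⟩ : ∃ B, Blk D B ∧ φ '' B = B := by
    by_contra hnB
    push Not at hnB
    have h2 : 2 ∣ {B : Set G | Blk D B}.ncard := by
      refine ThreeTransM22Count72.dvd_of_partition 2 (fun B => {B, φ '' B}) fun B hB =>
        ⟨by simp, Set.insert_subset hB (Set.singleton_subset_iff.mpr (himage B hB)), ?_, ?_⟩
      · rw [Set.ncard_pair (hnB B hB).symm]
      · have e : φ '' (φ '' B) = B := by rw [Set.image_image]; simp [hinv]
        rintro C (rfl | rfl)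
        · rfl
        · rw [e]; exact Set.pair_comm _ _
    have h1 := ThreeTransM22Outer72.odd_blocks ht (T := ∅) (Set.empty_subset D) (by simp)
    simp only [Set.empty_subset, and_true] at h1
    omega
  obtain ⟨d, hd, hnone⟩ := exists_none hD hprim h22 hcard hB
  have hφB : ∀ b ∈ B, φ b ∈ B := fun b hb => hBφ.subset ⟨b, hb, rfl⟩
  have henone : ∀ b ∈ B, ¬ Commute (φ d) b := fun b hb k => hnone (φ b) (hφB b hb) (by
    have := k.map φ.toMonoidHom
    simpa [hinv] using this)
  obtain ⟨x, hx, y, hy, hxy, he⟩ := eq_pairImg hD hprim h22 hcard hmu hB hd hnone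
    ⟨hφD d hd, hno d hd, hcom d hd⟩ henone
  have sx := ht.sq x (hB.sub hx)
  have sy := ht.sq y (hB.sub hy)
  have he' : pairImg d x y = pairImg d (φ x) (φ y) := by
    have h1 : φ (φ d) = φ x * φ y * φ d * φ y * φ x := by
      conv_lhs => rw [he]
      simp [pairImg]
    rw [hinv] at h1
    have sx' := ht.sq _ (hB.sub (hφB x hx))
    have sy' := ht.sq _ (hB.sub (hφB y hy))
    have c : φ y * φ x = φ x * φ y := (hB.comm _ (hφB y hy) _ (hφB x hx)).eq
    rw [← he]
    calc φ d = (φ y * φ x) * (φ x * φ y * φ d * φ y * φ x) * (φ x * φ y) := by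
          simp only [mul_assoc]
          rw [← mul_assoc (φ x) (φ x), sx', one_mul, ← mul_assoc (φ y) (φ y), sy', one_mul,
            ← mul_assoc (φ x) (φ x), sx', one_mul, sy', mul_one]
      _ = (φ x * φ y) * d * (φ y * φ x) := by rw [← h1, c]
      _ = _ := by simp only [pairImg, mul_assoc]
  rcases pairImg_inj hD hprim h22 hB hd hnone hx hy (hφB x hx) (hφB y hy) hxy
    (fun k => hxy (φ.injective k)) he' with ⟨k1, -⟩ | ⟨-, k2⟩
  · exact hno x (hB.sub hx) k1.symm
  · refine hno (x * d * x) (ht.conj_mem (hB.sub hx) hd) ?_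
    rw [map_mul, map_mul, ← k2, he, pairImg]
    have c : x * y = y * x := (hB.comm x hx y hy).eq
    calc y * (x * y * d * y * x) * y = (y * y) * x * d * (x * (y * y)) := by
          rw [show y * (x * y * d * y * x) * y = y * (x * y) * d * ((y * x) * y) by group, c,
            show (y * x) * y = x * y * y by rw [c]]
          group
      _ = x * d * x := by rw [sy, one_mul, mul_one]

end Cfsg.Agent.ThreeTransM22Base17
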