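import Cfsg.Agent.Lib.ThreeTransM22Count72

/-!
# Centralizers and uniqueness of the class for type M(22)

An involution with quasisimple centralizer of unitary shape lies in the class, so the centralizer of a
member is its local group, and the class is the only class of 3-transpositions.
-/

set_option autoImplicit false
set_option linter.unusedSectionVars false
set_option linter.style.haveILetI false

namespace Cfsg.Agent.ThreeTransM22Cent72

open Subgroup Cfsg.Agent.ThreeTransRel Cfsg.Agent.ThreeTransDescent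
open Cfsg.Agent.UnitaryF4Geo Cfsg.Agent.UnitaryF4Line
open Cfsg.Agent.ThreeTransM22Local72 Cfsg.Agent.ThreeTransM22Count72

variable {G : Type*} [Group G] [Finite G] {D : Set G}

/-- Some member has two commuting members near it. -/
theorem exists_near_pair (ht : TSys D) (hprim : Cfsg.IsPrimitiveUnderConj D)
    (h22 : Cfsg.IsOfTypeM22 G D) :
    ∃ d ∈ D, ∃ a ∈ near D d, ∃ b ∈ near D d, Commute a b ∧ a ≠ b := by
  obtain ⟨-, d, hd, -, -, -, ⟨F, _, _, hF, ⟨e⟩⟩, -⟩ := h22
  haveI : FourField F := ⟨hF⟩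
  obtain ⟨φ, C⟩ := chart_of_iso ht hprim hd e
  obtain ⟨-, -, S, b, -, hblen, -, horth, hpw, hnz, -, -⟩ :=
    ThreeTransM22Hyperoval72.exists_ovals (F := F)
  obtain ⟨p, q, r, rfl⟩ := List.length_eq_three.mp hblen
  have hp := hnz true p (by simp)
  have hq := hnz true q (by simp)
  obtain ⟨x, hx, ex⟩ := C.lift p.2 hp
  obtain ⟨y, hy, ey⟩ := C.lift q.2 hq
  refine ⟨d, hd, x, hx, y, hy,
    (C.orth hx hy p.2 q.2 hp ex ey).mpr (horth true p (by simp) q (by simp)), fun exy => ?_⟩
  obtain ⟨c, hc⟩ := C.eq_iff hx hy p.2 q.2 hp ex ey exy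
  have := hpw true
  rw [List.cons_append] at this
  exact (List.pairwise_cons.mp this).1 q (by simp) c hc

/-- The class has `2` modulo `4` members. -/
theorem ncard_m22 (ht : TSys D) (hprim : Cfsg.IsPrimitiveUnderConj D)
    (h22 : Cfsg.IsOfTypeM22 G D) : D.ncard % 4 = 2 := by
  obtain ⟨d, hd, a, ha, b, hb, hab, hne⟩ := exists_near_pair ht hprim h22
  exact ncard_mod_four ht hprim h22.1 (ThreeTransLine.lineAt_all ht hprim h22) hd ha hb hab hne

/-- An involution centralizes some member. -/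
theorem exists_member (hD : Cfsg.IsThreeTranspositionGroup D) (hprim : Cfsg.IsPrimitiveUnderConj D)
    (h22 : Cfsg.IsOfTypeM22 G D) {x : G} (hx : orderOf x = 2) : ∃ s ∈ D, Commute x s := by
  have ht := tsys_of_group hD
  haveI := (ThreeTransM22Local72.main hD hprim h22).1
  have h2 := ncard_m22 ht hprim h22
  have hG : 2 < Nat.card G := by
    obtain ⟨d, hd, a, ha, b, hb, hab, hne⟩ := exists_near_pair ht hprim h22
    have hs : ({d, a, b} : Set G).ncard = 3 := by
      rw [Set.ncard_insert_of_notMem (by simp [ha.2.1.symm, hb.2.1.symm]), Set.ncard_pair hne]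
    have := Set.ncard_le_ncard (Set.subset_univ ({d, a, b} : Set G))
    rw [hs, Set.ncard_univ] at this
    omega
  exact exists_commute ht.conj h2 hG hx

theorem mem_zpowers_two {e z : G} (he : orderOf e = 2) (hz : z ∈ zpowers e) : z = 1 ∨ z = e := by
  obtain ⟨k, rfl⟩ := mem_zpowers_iff.mp hz
  rw [← zpow_mod_orderOf, he]
  rcases Int.emod_two_eq_zero_or_one k with h | h
  · left; rw [Nat.cast_ofNat, h, zpow_zero]
  · right; rw [Nat.cast_ofNat, h, zpow_one]

/-- An involution with centralizer a double cover of `PSU₆(2)` lies in the class. -/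
theorem mem_of_centralizer (hD : Cfsg.IsThreeTranspositionGroup D)
    (hprim : Cfsg.IsPrimitiveUnderConj D) (h22 : Cfsg.IsOfTypeM22 G D) {e : G} (he : orderOf e = 2)
    (hq : Cfsg.IsQuasisimple ↥(Subgroup.centralizer ({e} : Set G)))
    [((zpowers e).subgroupOf (Subgroup.centralizer ({e} : Set G))).Normal]
    {F : Type} [Field F] [Fintype F] (hF : Fintype.card F = 4)
    (iso : ↥(Subgroup.centralizer ({e} : Set G)) ⧸
      (zpowers e).subgroupOf (Subgroup.centralizer ({e} : Set G)) ≃* Cfsg.PSU 6 F 2) :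
    e ∈ D := by
  classical
  haveI : FourField F := ⟨hF⟩
  have ht := tsys_of_group hD
  have hU := ThreeTransPairs.psu6Simple F hF
  haveI := hU.1
  by_contra heD
  obtain ⟨d, hd, hde⟩ := exists_member hD hprim h22 he
  set C := Subgroup.centralizer ({e} : Set G) with hC
  have hmemC : ∀ {y : G}, Commute y e → y ∈ C := fun h => mem_centralizer_singleton_iff.mpr h.eq
  have hCc : ∀ x : ↥C, Commute (x : G) e := fun x => mem_centralizer_singleton_iff.mp x.2
  set φ : ↥C →* Cfsg.PSU 6 F 2 := iso.toMonoidHom.comp (QuotientGroup.mk' _) with hφ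
  have hsurj : Function.Surjective φ := iso.surjective.comp (QuotientGroup.mk'_surjective _)
  have hker : ∀ x : ↥C, φ x = 1 → (x : G) = 1 ∨ (x : G) = e := fun x hx =>
    mem_zpowers_two he (mem_subgroupOf.mp
      ((QuotientGroup.eq_one_iff x).mp ((map_eq_one_iff iso iso.injective).mp hx)))
  set E : Set ↥C := {x | (x : G) ∈ D} with hE
  have hne1 : ∀ x ∈ E, φ x ≠ 1 := by
    intro x hx h
    rcases hker x h with h | h
    · exact ThreeTrans.ne_one hD.1 hx h
    · exact heD (h ▸ hx)
  have hthree : IsThree (φ '' E) := by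
    refine ⟨?_, ?_, ?_, ?_, ⟨φ ⟨d, hmemC hde.symm⟩, ⟨d, hmemC hde.symm⟩, hd, rfl⟩⟩
    · rintro _ ⟨x, hx, rfl⟩
      rw [← map_mul, show x * x = 1 from Subtype.ext (ht.sq _ hx), map_one]
    · rintro _ ⟨x, hx, rfl⟩
      exact hne1 x hx
    · rintro _ ⟨x, hx, rfl⟩ _ ⟨y, hy, rfl⟩ hn
      rw [← map_mul, ← map_mul, ← map_mul, ← map_mul]
      exact congrArg φ (Subtype.ext (ht.braid _ hx _ hy fun h =>
        hn ((show Commute x y from Subtype.ext h).map φ)))
    · intro g x hx
      obtain ⟨g, rfl⟩ := hsurj g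
      obtain ⟨x, hx, rfl⟩ := hx
      exact ⟨g * x * g⁻¹, ht.conj g x hx, by simp⟩
  have hrefl : ∀ x ∈ E, ∀ y ∈ E, Commute (φ x) (φ y) → Commute (x : G) y := by
    intro x hx y hy h
    by_contra hn
    have h1 : φ (x * y * (x * y)) = 1 := by
      rw [map_mul, map_mul, h.symm.mul_mul_mul_comm, ← map_mul, ← map_mul,
        show x * x = 1 from Subtype.ext (ht.sq _ hx), show y * y = 1 from Subtype.ext (ht.sq _ hy),
        map_one, one_mul]
    have h3 := ThreeTrans.cube_of_not_commute hD.1 hx hy hn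
    have h2 : ((x : G) * y) ^ 4 = 1 := by
      rcases hker _ h1 with k | k <;> simp only [Subgroup.coe_mul] at k
      · rw [show 4 = 2 * 2 from rfl, pow_mul, pow_two ((x : G) * y), k, one_pow]
      · rw [show 4 = 2 * 2 from rfl, pow_mul, pow_two ((x : G) * y), k, ← he, pow_orderOf_eq_one]
    exact hn (ThreeTrans.commute_of_two_pow hD.1 hx hy (k := 2) h2)
  have hinj : ∀ x ∈ E, ∀ y ∈ E, φ x = φ y → x = y := by
    intro x hx y hy h
    have h1 : φ (x * y) = 1 := by
      rw [map_mul, ← h, ← map_mul, show x * x = 1 from Subtype.ext (ht.sq _ hx), map_one]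
    rcases hker _ h1 with k | k <;> simp only [Subgroup.coe_mul] at k
    · refine Subtype.ext ?_
      rw [eq_inv_of_mul_eq_one_left k, ht.inv_self hy]
    exfalso
    have hxy : Commute (x : G) y := hrefl x hx y hy (h ▸ Commute.refl _)
    have hne : (x : G) ≠ y := fun h' => by
      rw [h', ht.sq _ hy] at k
      rw [← k, orderOf_one] at he
      exact absurd he (by norm_num)
    have hl : CList D [(x : G), (y : G)] := ⟨by simp [show (x : G) ∈ D from hx, show (y : G) ∈ D from hy],
      by simp [hne], by simp [hxy, hxy.symm]⟩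
    have hperm : ∀ c : ↥C, ((c : G) * x * (c : G)⁻¹ = x ∨ (c : G) * x * (c : G)⁻¹ = y) ∧
        ((c : G) * y * (c : G)⁻¹ = x ∨ (c : G) * y * (c : G)⁻¹ = y) := by
      intro c
      have hl' : CList D [(c : G) * x * (c : G)⁻¹, c * y * (c : G)⁻¹] :=
        ⟨by simp [ht.conj _ _ (show (x : G) ∈ D from hx), ht.conj _ _ (show (y : G) ∈ D from hy)],
          by simp [hne], by simp [(Commute.conj_iff (c : G)).mpr hxy,
            (Commute.conj_iff (c : G)).mpr hxy.symm]⟩
      have := ThreeTransPairs.pair_unique ht hprim hl' rfl hl rfl (by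
        simp only [List.prod_cons, List.prod_nil, mul_one]
        rw [show (c : G) * x * (c : G)⁻¹ * (c * y * (c : G)⁻¹) = c * (x * y) * (c : G)⁻¹ by group, k,
          (hCc c).eq, mul_inv_cancel_right])
      exact ⟨by simpa using (this ((c : G) * x * (c : G)⁻¹)).mp (by simp),
        by simpa using (this ((c : G) * y * (c : G)⁻¹)).mp (by simp)⟩
    set K : Subgroup ↥C := (Subgroup.centralizer ({(x : G)} : Set G)).subgroupOf C with hK
    have hmemK : ∀ c : ↥C, c ∈ K ↔ (c : G) * x * (c : G)⁻¹ = x := fun c => by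
      rw [hK, mem_subgroupOf, mem_centralizer_singleton_iff, mul_inv_eq_iff_eq_mul]
    have hKtop : K = ⊤ := by
      by_contra hK'
      obtain ⟨c₀, hc₀⟩ : ∃ c, c ∉ K := by
        by_contra h'
        push Not at h'
        exact hK' (eq_top_iff.mpr fun c _ => h' c)
      have hxy' : ∀ c, c ∉ K → (c : G) * x * (c : G)⁻¹ = y ∧ (c : G) * y * (c : G)⁻¹ = x := by
        intro c hc
        have e1 := (hperm c).1.resolve_left fun h' => hc ((hmemK c).mpr h')
        exact ⟨e1, (hperm c).2.resolve_right fun h' =>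
          hne (mul_left_cancel (mul_right_cancel (e1.trans h'.symm)))⟩
      have hidx : K.index = 2 := by
        refine Subgroup.index_eq_two_iff.mpr ⟨c₀, fun c => ?_⟩
        by_cases hc : c ∈ K
        · exact Or.inr ⟨hc, fun h' => hc₀ ((K.mul_mem_cancel_left hc).mp h')⟩
        · refine Or.inl ⟨(hmemK _).mpr ?_, hc⟩
          rw [Subgroup.coe_mul, show ((c : G) * c₀) * x * ((c : G) * c₀)⁻¹ =
            c * (c₀ * x * (c₀ : G)⁻¹) * (c : G)⁻¹ by group, (hxy' c₀ hc₀).1, (hxy' c hc).2]
      haveI := normal_of_index_eq_two hidx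
      haveI : Fact (Nat.Prime 2) := ⟨Nat.prime_two⟩
      haveI : IsCyclic (↥C ⧸ K) := isCyclic_of_prime_card hidx
      have := (Subgroup.Normal.quotient_commutative_iff_commutator_le).mp
        (⟨⟨fun a b => IsCyclic.commGroup.mul_comm a b⟩⟩ : IsMulCommutative (↥C ⧸ K))
      rw [hq.1.commutator_eq_top] at this
      exact hK' (top_le_iff.mp this)
    refine hne1 x hx (mem_bot.mp ?_)
    rw [← hU.center, mem_center_iff]
    intro g
    obtain ⟨g, rfl⟩ := hsurj g
    have hg := (hmemK g).mp (hKtop ▸ mem_top g)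
    rw [← map_mul, ← map_mul]
    exact congrArg φ (Subtype.ext (mul_inv_eq_iff_eq_mul.mp hg))
  -- the members near `d` commuting with `e`
  set P : Set G := {y | y ∈ near D d ∧ Commute y e} with hP
  set dC : ↥C := ⟨d, hmemC hde.symm⟩ with hdC
  have hPcard : P.ncard = {q | q ∈ φ '' E ∧ q ≠ φ dC ∧ Commute (φ dC) q}.ncard := by
    refine Set.ncard_congr (fun y hy => φ ⟨y, hmemC hy.2⟩) (fun y hy => ?_) (fun a b ha hb h => ?_)
      fun q hq => ?_
    · refine ⟨⟨_, hy.1.1, rfl⟩, fun h => hy.1.2.1 (congrArg Subtype.val (hinj _ hy.1.1 dC hd h)), ?_⟩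
      exact (show Commute dC ⟨y, hmemC hy.2⟩ from Subtype.ext hy.1.2.2.eq).map φ
    · exact congrArg Subtype.val (hinj _ ha.1.1 _ hb.1.1 h)
    · obtain ⟨⟨x, hx, rfl⟩, hxne, hxc⟩ := hq
      refine ⟨x, ⟨⟨hx, fun h => hxne (congrArg φ (Subtype.ext h)), hrefl dC hd x hx hxc⟩, hCc x⟩, rfl⟩
  have hP4 : 4 ∣ P.ncard := by
    rw [hPcard]
    refine four_dvd_perp (fun b hb c hc hbc hne => ?_) ⟨dC, hd, rfl⟩
    obtain ⟨L, h1, h2, h3, h4, h5, h6, -, h8, h9⟩ := line le_rfl hthree hb hc hbc hne
    exact ⟨L, h1, h2, h3, h4, h5, h6, h8, h9⟩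
  have hee : e * e = 1 := by rw [← pow_two, ← he, pow_orderOf_eq_one]
  have hrest : 2 ∣ (near D d \ P).ncard := by
    refine dvd_of_partition 2 (fun y => {y, cg e y}) fun y hy => ⟨by simp, ?_, ?_, ?_⟩
    · refine Set.insert_subset hy (Set.singleton_subset_iff.mpr ⟨near_conj ht hde hy.1, fun h => hy.2 ⟨hy.1, ?_⟩⟩)
      exact ((commute_cg (Commute.refl e)).mp h.2.symm).symm
    · rw [Set.ncard_pair fun h => hy.2 ⟨hy.1, cg_eq.mp h.symm⟩]
    · intro b hb
      rcases hb with rfl | rfl
      · rfl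
      · rw [cg_cg hee]; exact Set.pair_comm _ _
  have hsplit := Set.ncard_sdiff_add_ncard_of_subset (show P ⊆ near D d from fun y hy => hy.1)
    (Set.toFinite _)
  have hA : 2 ∣ {y | y ∈ D ∧ ¬ Commute d y}.ncard := by
    refine dvd_of_partition 2 (fun y => {y, cg d y}) fun y hy => ⟨by simp, ?_, ?_, ?_⟩
    · exact Set.insert_subset hy (Set.singleton_subset_iff.mpr
        ⟨ht.conj d y hy.1, fun h => hy.2 ((commute_cg (Commute.refl d)).mp h)⟩)
    · rw [Set.ncard_pair fun h => hy.2 (cg_eq.mp h.symm).symm]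
    · intro b hb
      rcases hb with rfl | rfl
      · rfl
      · rw [cg_cg (ht.sq d hd)]; exact Set.pair_comm _ _
  have hD4 := ncard_m22 ht hprim h22
  have hDe : D = insert d (near D d ∪ {y | y ∈ D ∧ ¬ Commute d y}) := by
    ext y
    refine ⟨fun hy => ?_, ?_⟩
    · by_cases e1 : y = d
      · exact Or.inl e1
      · by_cases e2 : Commute d y
        · exact Or.inr (Or.inl ⟨hy, e1, e2⟩)
        · exact Or.inr (Or.inr ⟨hy, e2⟩)
    · rintro (rfl | h | h)
      · exact hd
      · exact h.1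
      · exact h.1
  rw [hDe, Set.ncard_insert_of_notMem (by simp [Commute.refl d]),
    Set.ncard_union_eq (Set.disjoint_left.mpr fun y h1 h2 => h2.2 h1.2.2)] at hD4
  omega

/-- If some involution has centralizer a double cover of `PSU₆(2)`, the centralizer of a member is its
local group. -/
theorem centralizer_eq (hD : Cfsg.IsThreeTranspositionGroup D)
    (hprim : Cfsg.IsPrimitiveUnderConj D) (h22 : Cfsg.IsOfTypeM22 G D)
    (hM : ∃ e : G, orderOf e = 2 ∧ Cfsg.IsQuasisimple ↥(Subgroup.centralizer ({e} : Set G)) ∧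
      ∃ (_ : ((zpowers e).subgroupOf (Subgroup.centralizer ({e} : Set G))).Normal)
        (K : Type) (_ : Field K) (_ : Fintype K), Fintype.card K = 4 ∧
        Nonempty (↥(Subgroup.centralizer ({e} : Set G)) ⧸
          (zpowers e).subgroupOf (Subgroup.centralizer ({e} : Set G)) ≃* Cfsg.PSU 6 K 2)) :
    ∀ s ∈ D, Subgroup.centralizer ({s} : Set G) = loc D s := by
  obtain ⟨e, he, hq, hn, K, _, _, hK, ⟨iso⟩⟩ := hM
  haveI := hn
  have heD := mem_of_centralizer hD hprim h22 he hq hK iso
  have ht := tsys_of_group hD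
  have hle : loc D e ≤ Subgroup.centralizer ({e} : Set G) := fun x hx =>
    mem_centralizer_singleton_iff.mpr (commute_d_of_mem_loc hx).symm.eq
  have hnorm : ((loc D e).subgroupOf (Subgroup.centralizer ({e} : Set G))).Normal := by
    refine ⟨fun n hn g => ?_⟩
    rw [mem_subgroupOf] at hn ⊢
    have hg : Commute (g : G) e := mem_centralizer_singleton_iff.mp g.2
    simp only [Subgroup.coe_mul, Subgroup.coe_inv]
    revert hn
    generalize (n : G) = m
    intro hn
    induction hn using Subgroup.closure_induction with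
    | mem w hw => exact near_le_loc (near_conj ht hg hw)
    | one => simp
    | mul p q _ _ hp hq =>
      rw [show (g : G) * (p * q) * (g : G)⁻¹ = (g * p * (g : G)⁻¹) * (g * q * (g : G)⁻¹) by group]
      exact mul_mem hp hq
    | inv p _ hp =>
      rw [show (g : G) * p⁻¹ * (g : G)⁻¹ = (g * p * (g : G)⁻¹)⁻¹ by group]
      exact inv_mem hp
  have htop : (loc D e).subgroupOf (Subgroup.centralizer ({e} : Set G)) = ⊤ := by
    haveI := hnorm
    refine (ComponentsBasic.normal_le_center_or_eq_top hq _).resolve_left fun h => ?_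
    refine ComponentsBasic.isQuasisimple_not_commutative
      ((ThreeTransM22Local72.main hD hprim h22).2 e heD).2.1 ⟨⟨fun a b => ?_⟩⟩
    have hb : (⟨b, hle b.2⟩ : ↥(Subgroup.centralizer ({e} : Set G))) ∈
        Subgroup.center ↥(Subgroup.centralizer ({e} : Set G)) := h (mem_subgroupOf.mpr b.2)
    have h2 := congrArg Subtype.val (mem_center_iff.mp hb ⟨a, hle a.2⟩)
    exact Subtype.ext h2
  have he' : Subgroup.centralizer ({e} : Set G) = loc D e :=
    le_antisymm (subgroupOf_eq_top.mp htop) hle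
  intro s hs
  obtain ⟨g, hg⟩ := hprim.1 e heD s hs
  refine le_antisymm (fun x hx => ?_) fun x hx =>
    mem_centralizer_singleton_iff.mpr (commute_d_of_mem_loc hx).symm.eq
  have hx' : g⁻¹ * x * g ∈ Subgroup.centralizer ({e} : Set G) := by
    refine mem_centralizer_singleton_iff.mpr ((Commute.conj_iff g).mp ?_).eq
    rw [hg, show g * (g⁻¹ * x * g) * g⁻¹ = x by group]
    exact mem_centralizer_singleton_iff.mp hx
  rw [he'] at hx'
  have hx'' := mem_map_of_mem (MulAut.conj g).toMonoidHom hx'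
  rw [show (MulAut.conj g).toMonoidHom (g⁻¹ * x * g) = x by simp [mul_assoc], loc,
    MonoidHom.map_closure] at hx''
  refine closure_mono ?_ hx''
  rintro _ ⟨y, hy, rfl⟩
  refine ⟨ht.conj g y hy.1, fun h => hy.2.1 ?_, ?_⟩
  · rw [← hg] at h; exact mul_left_cancel (mul_right_cancel h)
  · rw [← hg]; exact (Commute.conj_iff g).mpr hy.2.2

/-- The class is unique once centralizers of members are local. -/
theorem unique_class (hD : Cfsg.IsThreeTranspositionGroup D) (hprim : Cfsg.IsPrimitiveUnderConj D)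
    (h22 : Cfsg.IsOfTypeM22 G D)
    (hcent : ∀ s ∈ D, Subgroup.centralizer ({s} : Set G) = loc D s)
    {D' : Set G} (hD' : Cfsg.IsThreeTranspositionClass D') : D' = D := by
  classical
  obtain ⟨d₁, hd₁, a₁, ha₁, b₁, hb₁, hab₁⟩ := exists_near_pair (tsys_of_group hD) hprim h22
  have ht := tsys_of_group hD
  have hmain := ThreeTransM22Local72.main hD hprim h22
  have hline := ThreeTransLine.lineAt_all ht hprim h22
  obtain ⟨x₀, hx₀, hclass⟩ := hD'.2.1
  have hconj' : ∀ g : G, ∀ y ∈ D', g * y * g⁻¹ ∈ D' := by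
    intro g y hy
    rw [hclass] at hy ⊢
    exact (show IsConj x₀ y from hy).trans (isConj_iff.mpr ⟨g, rfl⟩)
  have hmeet : ∀ y, y ∈ D → y ∈ D' → D' = D := by
    intro y hy hy'
    ext z
    constructor
    · intro hz
      rw [hclass] at hz hy'
      obtain ⟨g, rfl⟩ := isConj_iff.mp ((show IsConj x₀ y from hy').symm.trans hz)
      exact ht.conj g y hy
    · intro hz
      obtain ⟨g, rfl⟩ := hprim.1 y hy z hz
      exact hconj' g y hy'
  have h22' := h22
  obtain ⟨hZ, d, hd, -, -, -, ⟨F, _, _, hF, ⟨e⟩⟩, -⟩ := h22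
  haveI : FourField F := ⟨hF⟩
  obtain ⟨φ, C⟩ := chart_of_iso ht hprim hd e
  obtain ⟨x, hx, hxd⟩ : ∃ x ∈ D', Commute x d := by
    obtain ⟨s, hs, hxs⟩ := exists_member hD hprim h22' (hD'.1.1 x₀ hx₀)
    obtain ⟨g, rfl⟩ := hprim.1 s hs d hd
    exact ⟨g * x₀ * g⁻¹, hconj' g x₀ hx₀, (Commute.conj_iff g).mpr hxs⟩
  have hloc : ∀ {y : G}, Commute y d → y ∈ loc D d := fun h => by
    rw [← hcent d hd]; exact mem_centralizer_singleton_iff.mpr h.eq
  have hker : ∀ y : ↥(loc D d), φ y = 1 → (y : G) = 1 ∨ (y : G) = d := by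
    intro y hy
    have hc : y ∈ Subgroup.center ↥(loc D d) := by
      refine mem_center_iff.mpr fun g => Subtype.ext ?_
      have hle : loc D d ≤ Subgroup.centralizer ({(y : G)} : Set G) := (closure_le _).mpr fun w hw =>
        mem_centralizer_singleton_iff.mpr ((C.one y).mp hy w hw).eq
      exact mem_centralizer_singleton_iff.mp (hle g.2)
    rw [(hmain.2 d hd).2.2] at hc
    exact mem_zpowers_two (hD.1.1 d hd) (mem_subgroupOf.mp hc)
  by_cases hex : ∃ y : ↥(loc D d), (y : G) ∈ D' ∧ φ y = 1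
  · obtain ⟨y, hy, hy1⟩ := hex
    rcases hker y hy1 with h | h
    · exact absurd h (ThreeTrans.ne_one hD'.1 hy)
    · exact hmeet d hd (h ▸ hy)
  push Not at hex
  have hthree : IsThree (φ '' {y | (y : G) ∈ D'}) := by
    refine ⟨?_, ?_, ?_, ?_, ⟨φ ⟨x, hloc hxd⟩, ⟨x, hloc hxd⟩, hx, rfl⟩⟩
    · rintro _ ⟨y, hy, rfl⟩
      rw [← map_mul, show y * y = 1 from Subtype.ext (ThreeTrans.mul_self hD'.1 hy), map_one]
    · rintro _ ⟨y, hy, rfl⟩
      exact hex y hy
    · rintro _ ⟨y, hy, rfl⟩ _ ⟨w, hw, rfl⟩ hn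
      rw [← map_mul, ← map_mul, ← map_mul, ← map_mul]
      exact congrArg φ (Subtype.ext (ThreeTrans.braid hD'.1 hy hw fun h =>
        hn ((show Commute y w from Subtype.ext h).map φ)))
    · intro g w hw
      obtain ⟨g, rfl⟩ := C.surj g
      obtain ⟨w, hw, rfl⟩ := hw
      exact ⟨g * w * g⁻¹, hconj' g w hw, by simp⟩
  obtain ⟨u, hu, hu0, eu⟩ := exists_transvection (by norm_num) hthree
    (x := φ ⟨x, hloc hxd⟩) ⟨_, hx, rfl⟩
  obtain ⟨y, hy, ey⟩ := C.lift hu hu0
  have hyy : (⟨y, near_le_loc hy⟩ : ↥(loc D d)) * ⟨y, near_le_loc hy⟩ = 1 :=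
    Subtype.ext (ht.sq y hy.1)
  have h1 : φ (⟨x, hloc hxd⟩ * ⟨y, near_le_loc hy⟩) = 1 := by
    rw [map_mul, ← eu, ← ey, ← map_mul, hyy, map_one]
  rcases hker _ h1 with k | k <;> simp only [Subgroup.coe_mul] at k
  · rw [eq_inv_of_mul_eq_one_left k, ht.inv_self hy.1] at hx
    exact hmeet y hy.1 hx
  exfalso
  have hxy : x = d * y := by rw [← k, mul_assoc, ht.sq y hy.1, mul_one]
  have hda : ∀ a ∈ near D d, d * a ∈ D' := by
    intro a ha
    obtain ⟨g, hg, hga⟩ := (hline d hd).2 y hy a ha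
    have := hconj' g x hx
    rw [hxy, show g * (d * y) * g⁻¹ = (g * d * g⁻¹) * (g * y * g⁻¹) by group, hga,
      mul_inv_eq_iff_eq_mul.mpr (commute_d_of_mem_loc hg).symm.eq] at this
    exact this
  -- three members near `d`
  obtain ⟨a, ha, b, hb, hab, hne⟩ : ∃ a ∈ near D d, ∃ b ∈ near D d, Commute a b ∧ a ≠ b := by
    obtain ⟨g, rfl⟩ := hprim.1 d₁ hd₁ d hd
    have hg : ∀ w ∈ near D d₁, g * w * g⁻¹ ∈ near D (g * d₁ * g⁻¹) := fun w hw =>
      ⟨ht.conj g w hw.1, fun h => hw.2.1 (mul_left_cancel (mul_right_cancel h)),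
        (Commute.conj_iff g).mpr hw.2.2⟩
    exact ⟨_, hg a₁ ha₁, _, hg b₁ hb₁, (Commute.conj_iff g).mpr hab₁.1,
      fun h => hab₁.2 (mul_left_cancel (mul_right_cancel h))⟩
  obtain ⟨c, hc, hac⟩ : ∃ c ∈ near D d, ¬ Commute c a := by
    by_contra hno
    push Not at hno
    exact ThreeTransLine.no_central ht hprim hd ha hno
  obtain ⟨b', hb', hab', hne', hbc⟩ :
      ∃ b' ∈ near D d, Commute a b' ∧ a ≠ b' ∧ ¬ Commute c b' := by
    by_contra hno
    push Not at hno
    obtain ⟨l, h5⟩ := (hline d hd).1 a ha b hb hab hne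
    have hbl : b ∈ l.erase a := (h5.nodup.mem_erase_iff).mpr ⟨hne.symm, h5.right_mem⟩
    have hlen : ((l.erase a).erase b).length = 3 := by
      rw [List.length_erase_of_mem hbl, List.length_erase_of_mem h5.left_mem, h5.len]
    obtain ⟨p, q, r, epqr⟩ := List.length_eq_three.mp hlen
    have hp : p ∈ (l.erase a).erase b := by rw [epqr]; simp
    rw [(h5.nodup.erase a).mem_erase_iff, h5.nodup.mem_erase_iff] at hp
    obtain ⟨hpb, hpa, hpl⟩ := hp
    have hcb := hno b hb hab hne
    have hcp := hno p (h5.near_mem p hpl) (h5.comm a h5.left_mem p hpl) hpa.symm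
    -- the line through `b` and `p` is the same one
    obtain ⟨m, hm⟩ := (hline d hd).1 b hb p (h5.near_mem p hpl)
      (h5.comm b h5.right_mem p hpl) hpb.symm
    have hsub : ∀ w ∈ m, w ∈ l := fun w hw => h5.maximal w (hm.near_mem w hw)
      fun z hz z1 z2 => hm.closed z hz z2 (h5.closed z hz z1 z2 p hpl) w hw
    have hperm : m.Perm l :=
      (List.subperm_of_subset hm.nodup hsub).perm_of_length_le (by rw [h5.len, hm.len])
    exact hac (hm.closed c hc hcb hcp a (hperm.mem_iff.mpr h5.left_mem))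
  have hab2 : a * b' ∈ D' := by
    have hda' : d ∈ near D a := ⟨hd, ha.2.1.symm, ha.2.2.symm⟩
    have hba' : b' ∈ near D a := ⟨hb'.1, hne'.symm, hab'⟩
    obtain ⟨g, hg, hgd⟩ := (hline a ha.1).2 d hda' b' hba'
    have h2 := hconj' g _ (hda a ha)
    rw [show g * (d * a) * g⁻¹ = (g * d * g⁻¹) * (g * a * g⁻¹) by group, hgd,
      mul_inv_eq_iff_eq_mul.mpr (commute_d_of_mem_loc hg).symm.eq] at h2
    rwa [hab'.eq]
  have hcd : c * d ∈ D' := by rw [← hc.2.2.eq]; exact hda c hc
  set w := a * b' * c with hw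
  have hwd : Commute w d := ((ha.2.2.symm.mul_left hb'.2.2.symm).mul_left hc.2.2.symm)
  have hw2 : w * w ≠ 1 := by
    intro h
    have hl : CList D [a, b'] :=
      ⟨by simp [ha.1, hb'.1], by simp [hne'], by simp [hab', hab'.symm]⟩
    have hj : (a * b') * (a * b') = 1 := by simpa using hl.prod_sq ht
    have e1 : c * (a * b') = (a * b') * c := by
      have := inv_eq_of_mul_eq_one_right h
      rw [hw, mul_inv_rev, ht.inv_self hc.1, inv_eq_of_mul_eq_one_right hj] at this
      exact this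
    have e1' : Commute c [a, b'].prod := by
      show c * [a, b'].prod = [a, b'].prod * c
      simpa using e1
    have := (commute_prod_iff ht hc.1 hl (by simp)).mp e1'
    exact hac (this a (by simp))
  have hw4 : w * w * (w * w) = 1 := by
    have e1 : c * a * c = a * c * a := ht.braid c hc.1 a ha.1 hac
    have e2 : c * b' * c = b' * c * b' := ht.braid c hc.1 b' hb'.1 hbc
    have sa := ht.sq a ha.1
    have sb := ht.sq b' hb'.1
    have sc := ht.sq c hc.1
    have e3 : w * w = (b' * c) * (a * b') * (c * b') := by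
      calc w * w = a * b' * (c * a * c) * (c * b' * c) := by
            rw [hw]; simp only [mul_assoc]; rw [← mul_assoc c c, sc, one_mul]
        _ = a * b' * (a * c * a) * (b' * c * b') := by rw [e1, e2]
        _ = (a * b' * a) * c * a * b' * c * b' := by simp only [mul_assoc]
        _ = b' * c * a * b' * c * b' := by rw [hab'.eq, mul_assoc b' a a, sa, mul_one]
        _ = _ := by simp only [mul_assoc]
    have e4 : (c * b') * (b' * c) = 1 := by
      rw [mul_assoc, ← mul_assoc b' b', sb, one_mul, sc]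
    have e5 : (a * b') * (a * b') = 1 := by
      rw [hab'.eq, mul_assoc, ← mul_assoc a b', hab'.eq, mul_assoc, sa, mul_one, sb]
    calc w * w * (w * w) = (b' * c) * (a * b') * ((c * b') * (b' * c)) * (a * b') * (c * b') := by
          rw [e3]; simp only [mul_assoc]
      _ = (b' * c) * ((a * b') * (a * b')) * (c * b') := by rw [e4]; simp only [mul_one, mul_assoc]
      _ = 1 := by rw [e5, mul_one, mul_assoc, ← mul_assoc c c, sc, one_mul, sb]
  have hprod : a * b' * (c * d) = w * d := by rw [hw]; simp only [mul_assoc]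
  rcases hD'.1.2 _ hab2 _ hcd with h | h <;> rw [hprod] at h
  · rw [pow_two, hwd.symm.mul_mul_mul_comm, ht.sq d hd, mul_one] at h
    exact hw2 h
  · rw [pow_succ, pow_two, hwd.symm.mul_mul_mul_comm, ht.sq d hd, mul_one, ← mul_assoc] at h
    have e6 : w * w * w = d := by rw [eq_inv_of_mul_eq_one_left h, ht.inv_self hd]
    apply hw2
    have e7 : w = d := by
      have h8 : (w * w * w) * w = 1 := by rw [mul_assoc (w * w) w w]; exact hw4
      rw [e6] at h8
      rw [eq_inv_of_mul_eq_one_right h8, ht.inv_self hd]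
    rw [e7, ht.sq d hd]

end Cfsg.Agent.ThreeTransM22Cent72
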