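import Cfsg.Agent.Lib.ThreeTransM22Local72
import Cfsg.Agent.Lib.TransferThompson

/-!
# Parity of a class of type M(22)

The class has `2` modulo `4` members: fixed-point-free four-groups act on the pieces of the partition
given by one member and one member near it. Hence every involution centralizes a member.
-/

set_option autoImplicit false
set_option linter.unusedSectionVars false
set_option linter.style.haveILetI false

namespace Cfsg.Agent.ThreeTransM22Count72

open Subgroup Cfsg.Agent.ThreeTransRel Cfsg.Agent.ThreeTransDescent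

/-- A divisor of all blocks of a partition divides the whole. -/
theorem dvd_of_partition {α : Type*} [Finite α] (n : ℕ) (K : α → Set α) :
    ∀ {s : Set α}, (∀ a ∈ s, a ∈ K a ∧ K a ⊆ s ∧ n ∣ (K a).ncard ∧ ∀ b ∈ K a, K b = K a) →
      n ∣ s.ncard := by
  intro s
  induction hm : s.ncard using Nat.strong_induction_on generalizing s with
  | _ m ih =>
    intro H
    by_cases he : s = ∅
    · subst he; rw [Set.ncard_empty] at hm; rw [← hm]; exact dvd_zero n
    obtain ⟨a, ha⟩ := Set.nonempty_iff_ne_empty.mpr he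
    obtain ⟨haK, hKs, hn, -⟩ := H a ha
    have hsum := Set.ncard_sdiff_add_ncard_of_subset hKs (Set.toFinite _)
    have hpos : 0 < (K a).ncard := (Set.ncard_pos (Set.toFinite _)).mpr ⟨a, haK⟩
    rw [← hm, ← hsum]
    refine dvd_add (ih _ (by omega) rfl fun b hb => ?_) hn
    obtain ⟨hbK, hKbs, hnb, hbb⟩ := H b hb.1
    refine ⟨hbK, fun c hc => ⟨hKbs hc, fun hca => hb.2 ?_⟩, hnb, hbb⟩
    obtain ⟨-, -, -, hcc⟩ := H a ha
    rw [← hcc c hca, hbb c hc]
    exact hbK

/-- A four-group acting without fixed points. -/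
theorem four_dvd_free {α : Type*} [Finite α] {s : Set α} (f g : α → α)
    (hf : ∀ a ∈ s, f a ∈ s) (hg : ∀ a ∈ s, g a ∈ s) (hff : ∀ a ∈ s, f (f a) = a)
    (hgg : ∀ a ∈ s, g (g a) = a) (hfg : ∀ a ∈ s, f (g a) = g (f a))
    (hf1 : ∀ a ∈ s, f a ≠ a) (hg1 : ∀ a ∈ s, g a ≠ a) (hfg1 : ∀ a ∈ s, f (g a) ≠ a) :
    4 ∣ s.ncard := by
  refine dvd_of_partition 4 (fun a => {a, f a, g a, f (g a)}) fun a ha => ⟨by simp, ?_, ?_, ?_⟩
  · simp [Set.insert_subset_iff, ha, hf a ha, hg a ha, hf _ (hg a ha)]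
  · have h1 := hf1 a ha
    have h2 := hg1 a ha
    have h3 := hfg1 a ha
    have h4 : f a ≠ g a := fun e => hfg1 a ha (by rw [← e, hff a ha])
    have h5 : f a ≠ f (g a) := fun e => h2 (by rw [← hff (g a) (hg a ha), ← e, hff a ha])
    have h6 : g a ≠ f (g a) := fun e => hf1 _ (hg a ha) e.symm
    refine dvd_of_eq (Eq.symm ?_)
    rw [Set.ncard_insert_of_notMem (by simp [h1.symm, h2.symm, h3.symm]),
      Set.ncard_insert_of_notMem (by simp [h4, h5]), Set.ncard_pair h6]
  · intro b hb
    simp only [Set.mem_insert_iff, Set.mem_singleton_iff] at hb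
    have hga := hg a ha
    have hfa := hf a ha
    ext x
    simp only [Set.mem_insert_iff, Set.mem_singleton_iff]
    rcases hb with rfl | rfl | rfl | rfl
    · rfl
    · rw [hff a ha, ← hfg a ha, hff (g a) hga]; tauto
    · rw [hgg a ha]; tauto
    · rw [hff (g a) hga, ← hfg (g a) hga, hgg a ha, hff a ha]; tauto

section perp

variable {G : Type*} [Group G] [Finite G]

/-- In a set with lines of five, the members commuting with one of them split into fours. -/
theorem four_dvd_perp {S : Set G}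
    (hline : ∀ b ∈ S, ∀ c ∈ S, Commute b c → b ≠ c → ∃ l : List G,
      l.Nodup ∧ l.length = 5 ∧ (∀ p ∈ l, p ∈ S) ∧ b ∈ l ∧ c ∈ l ∧
      (∀ p ∈ l, ∀ q ∈ l, Commute p q) ∧
      (∀ y ∈ S, Commute y b → Commute y c → ∀ p ∈ l, Commute y p) ∧
      ∀ q ∈ S, (∀ y ∈ S, Commute y b → Commute y c → Commute y q) → q ∈ l)
    {a : G} (ha : a ∈ S) : 4 ∣ {y | y ∈ S ∧ y ≠ a ∧ Commute a y}.ncard := by
  classical
  refine dvd_of_partition 4 (fun y => {q | (q ∈ S ∧ q ≠ a ∧ Commute a q) ∧
    ∀ w ∈ S, Commute w a → Commute w y → Commute w q}) fun y hy => ?_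
  obtain ⟨l, hnd, hlen, hlS, hal, hyl, hcm, hcl, hmax⟩ := hline a ha y hy.1 hy.2.2 hy.2.1.symm
  have hK : {q | (q ∈ S ∧ q ≠ a ∧ Commute a q) ∧
      ∀ w ∈ S, Commute w a → Commute w y → Commute w q} = ↑(l.toFinset.erase a) := by
    ext q
    simp only [Set.mem_setOf_eq, Finset.coe_erase, Set.mem_sdiff, List.coe_toFinset,
      Set.mem_singleton_iff]
    exact ⟨fun hq => ⟨hmax q hq.1.1 hq.2, hq.1.2.1⟩,
      fun hq => ⟨⟨hlS q hq.1, hq.2, hcm a hal q hq.1⟩, fun w hw h1 h2 => hcl w hw h1 h2 q hq.1⟩⟩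
  refine ⟨⟨hy, fun w _ _ h2 => h2⟩, fun q hq => hq.1, ?_, fun b hb => ?_⟩
  · rw [hK, Set.ncard_coe_finset, Finset.card_erase_of_mem (List.mem_toFinset.mpr hal),
      List.toFinset_card_of_nodup hnd, hlen]
  · have hbl : b ∈ l := hmax b hb.1.1 hb.2
    obtain ⟨l', hnd', hlen', hlS', hal', hbl', hcm', hcl', hmax'⟩ :=
      hline a ha b hb.1.1 hb.1.2.2 hb.1.2.1.symm
    have hsub : ∀ q ∈ l', q ∈ l := fun q hq =>
      hmax q (hlS' q hq) fun w hw h1 h2 => hcl' w hw h1 (hcl w hw h1 h2 b hbl) q hq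
    have hp : l'.Perm l :=
      (List.subperm_of_subset hnd' hsub).perm_of_length_le (by rw [hlen, hlen'])
    ext q
    simp only [Set.mem_setOf_eq, and_congr_right_iff]
    intro hq
    refine ⟨fun h w hw h1 h2 => h w hw h1 (hb.2 w hw h1 h2), fun h w hw h1 h2 => ?_⟩
    exact h w hw h1 (hcl' w hw h1 h2 y ((hp.mem_iff).mpr hyl))

end perp

variable {G : Type*} [Group G] [Finite G] {D : Set G}

/-- Conjugation as a map. -/
def cg (g : G) (y : G) : G := g * y * g⁻¹

theorem cg_cg {g : G} (hg : g * g = 1) (y : G) : cg g (cg g y) = y := by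
  have e : g⁻¹ = g := inv_eq_of_mul_eq_one_right hg
  simp only [cg, e]
  calc g * (g * y * g) * g = (g * g) * y * (g * g) := by group
    _ = y := by rw [hg, one_mul, mul_one]

theorem cg_comm {g k : G} (h : Commute g k) (y : G) : cg g (cg k y) = cg k (cg g y) := by
  simp only [cg]
  calc g * (k * y * k⁻¹) * g⁻¹ = (g * k) * y * (g * k)⁻¹ := by group
    _ = (k * g) * y * (k * g)⁻¹ := by rw [h.eq]
    _ = k * (g * y * g⁻¹) * k⁻¹ := by group

theorem cg_eq {g y : G} : cg g y = y ↔ Commute y g :=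
  ⟨fun h => (mul_inv_eq_iff_eq_mul.mp h).symm, fun h => mul_inv_eq_iff_eq_mul.mpr h.symm.eq⟩

theorem commute_cg {g x y : G} (hx : Commute g x) : Commute x (cg g y) ↔ Commute x y := by
  have : cg g x = x := cg_eq.mpr hx.symm
  conv_lhs => rw [← this]
  exact Commute.conj_iff g

/-- A product of commuting members commutes with a member iff all factors do. -/
theorem commute_prod_iff (ht : TSys D) {u : G} (hu : u ∈ D) {l : List G} (hl : CList D l)
    (hlen : l.length ≤ 3) : Commute u l.prod ↔ ∀ x ∈ l, Commute u x :=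
  (key ht hu hl hlen).1.trans cnt_eq_zero

/-- `D` has two modulo four members. -/
theorem ncard_mod_four (ht : TSys D) (hprim : Cfsg.IsPrimitiveUnderConj D)
    (hZ : Subgroup.center G = ⊥) (hline : ∀ s ∈ D, ThreeTransLine.LineAt D s)
    {d a b₀ : G} (hd : d ∈ D) (ha : a ∈ near D d) (hb₀ : b₀ ∈ near D d) (hab : Commute a b₀)
    (hne : a ≠ b₀) : D.ncard % 4 = 2 := by
  classical
  obtain ⟨l, h5⟩ := (hline d hd).1 a ha b₀ hb₀ hab hne
  have h6 := ThreeTransLine.six ht hprim hZ hline hd h5 ha hb₀ hab hne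
  -- three further members of the line
  obtain ⟨p₁, p₂, p₃, hl⟩ : ∃ p₁ p₂ p₃, l.Perm [a, b₀, p₁, p₂, p₃] := by
    have hb : b₀ ∈ l.erase a := (h5.nodup.mem_erase_iff).mpr ⟨hne.symm, h5.right_mem⟩
    have hlen : ((l.erase a).erase b₀).length = 3 := by
      rw [List.length_erase_of_mem hb, List.length_erase_of_mem h5.left_mem, h5.len]
    obtain ⟨p₁, p₂, p₃, e⟩ := List.length_eq_three.mp hlen
    exact ⟨p₁, p₂, p₃, (List.perm_cons_erase h5.left_mem).trans
      (((List.perm_cons_erase hb).trans (by rw [e])).cons a)⟩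
  have hnd : [a, b₀, p₁, p₂, p₃].Nodup := hl.nodup_iff.mp h5.nodup
  have hin : ∀ x ∈ [a, b₀, p₁, p₂, p₃], x ∈ l := fun x hx => hl.mem_iff.mpr hx
  have hn : ∀ x ∈ [a, b₀, p₁, p₂, p₃], x ∈ near D d := fun x hx => h5.near_mem x (hin x hx)
  have hc : ∀ x ∈ [a, b₀, p₁, p₂, p₃], ∀ y ∈ [a, b₀, p₁, p₂, p₃], Commute x y :=
    fun x hx y hy => h5.comm x (hin x hx) y (hin y hy)
  have hCL : CList D [d, a, b₀, p₁, p₂, p₃] := by
    refine ⟨fun x hx => ?_, List.nodup_cons.mpr ⟨fun h => (hn d h).2.1 rfl, hnd⟩, fun x hx y hy => ?_⟩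
    · rcases List.mem_cons.mp hx with rfl | hx
      · exact hd
      · exact (hn x hx).1
    · rcases List.mem_cons.mp hx with hx | hx <;> rcases List.mem_cons.mp hy with hy | hy
      all_goals first | subst x | skip
      all_goals first | subst y | skip
      · exact Commute.refl _
      · exact (hn y hy).2.2
      · exact (hn x hx).2.2.symm
      · exact hc x hx y hy
  have hc2 : ∀ x y, [x, y].Sublist [d, a, b₀, p₁, p₂, p₃] → Commute x y ∧ x * y * (x * y) = 1 := by
    intro x y h
    have := hCL.sublist h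
    exact ⟨this.comm x (by simp) y (by simp), by simpa using this.prod_sq ht⟩
  -- the members noncommuting with `d`
  set A : Set G := {y | y ∈ D ∧ ¬ Commute d y} with hA
  have hdd : d * d = 1 := ht.sq d hd
  have hAd : ∀ y ∈ A, cg d y ∈ A := fun y hy =>
    ⟨ht.conj d y hy.1, fun h => hy.2 ((commute_cg (Commute.refl d)).mp h)⟩
  have hA4 : ∀ (x y : G), [d, x, y].Sublist [d, a, b₀, p₁, p₂, p₃] → ∀ s : Set G, s ⊆ A →
      (∀ z ∈ s, cg d z ∈ s) → (∀ z ∈ s, cg (x * y) z ∈ s) →
      (∀ z ∈ s, ¬ (Commute z x ∧ Commute z y)) → 4 ∣ s.ncard := by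
    intro x y hsub s hs hfs hgs hno
    have hL := hCL.sublist hsub
    have hxy := hc2 x y ((List.sublist_cons_self d _).trans hsub)
    have hdxy : Commute d (x * y) :=
      (hL.comm d (by simp) x (by simp)).mul_right (hL.comm d (by simp) y (by simp))
    refine four_dvd_free (cg d) (cg (x * y)) hfs hgs (fun z _ => cg_cg hdd z)
      (fun z _ => cg_cg hxy.2 z) (fun z _ => cg_comm hdxy z)
      (fun z hz h => (hs hz).2 (cg_eq.mp h).symm) (fun z hz h => hno z hz ?_)
      (fun z hz h => (hs hz).2 ?_)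
    · have h' : Commute z [x, y].prod := by simpa using cg_eq.mp h
      have := (commute_prod_iff ht (hs hz).1 (hL.sublist (List.sublist_cons_self d _))
        (by simp)).mp h'
      exact ⟨this x (by simp), this y (by simp)⟩
    · have e : cg d (cg (x * y) z) = cg [d, x, y].prod z := by simp [cg, mul_assoc]
      rw [e] at h
      exact ((commute_prod_iff ht (hs hz).1 hL (by simp)).mp (cg_eq.mp h) d (by simp)).symm
  set Ab : Set G := {z | z ∈ A ∧ Commute z a ∧ Commute z b₀} with hAb
  have hAb4 : 4 ∣ Ab.ncard := by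
    refine hA4 p₁ p₂ (by simp) Ab (fun z hz => hz.1) (fun z hz => ⟨hAd z hz.1, ?_, ?_⟩)
      (fun z hz => ⟨⟨ht.conj _ z hz.1.1, fun h => hz.1.2 ((commute_cg ?_).mp h)⟩, ?_, ?_⟩) ?_
    · exact ((commute_cg (hn a (by simp)).2.2).mpr hz.2.1.symm).symm
    · exact ((commute_cg (hn b₀ (by simp)).2.2).mpr hz.2.2.symm).symm
    · exact ((hn p₁ (by simp)).2.2.symm).mul_left (hn p₂ (by simp)).2.2.symm
    · exact ((commute_cg ((hc p₁ (by simp) a (by simp)).mul_left
        (hc p₂ (by simp) a (by simp)))).mpr hz.2.1.symm).symm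
    · exact ((commute_cg ((hc p₁ (by simp) b₀ (by simp)).mul_left
        (hc p₂ (by simp) b₀ (by simp)))).mpr hz.2.2.symm).symm
    · rintro z ⟨⟨hzD, hzd⟩, hza, hzb⟩ ⟨hz1, -⟩
      have hprod : [d, p₂, p₃].prod = [a, b₀, p₁].prod := by
        have e : d * [a, b₀, p₁, p₂, p₃].prod = 1 := by
          rw [← hl.prod_eq' (List.pairwise_of_forall_mem_list fun x hx y hy => h5.comm x hx y hy)]
          exact h6
        have hdp : Commute d [a, b₀, p₁].prod :=
          Commute.list_prod_right _ _ fun x hx => (hn x (by simp at hx ⊢; tauto)).2.2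
        have e1 : [a, b₀, p₁].prod * [d, p₂, p₃].prod = 1 := by
          rw [← e]
          calc [a, b₀, p₁].prod * [d, p₂, p₃].prod
              = [a, b₀, p₁].prod * d * [p₂, p₃].prod := by simp [mul_assoc]
            _ = d * [a, b₀, p₁, p₂, p₃].prod := by rw [← hdp.eq]; simp [mul_assoc]
        rw [eq_inv_of_mul_eq_one_right e1, inv_eq_of_mul_eq_one_right
          ((hCL.sublist (by repeat (first | exact List.nil_sublist _ | apply List.Sublist.cons_cons | apply List.Sublist.cons))).prod_sq ht)]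
      apply hzd
      refine ((commute_prod_iff ht hzD (hCL.sublist (by repeat (first | exact List.nil_sublist _ | apply List.Sublist.cons_cons | apply List.Sublist.cons))) (by simp)).mp
        (show Commute z [d, p₂, p₃].prod from ?_) d (by simp)).symm
      rw [hprod]
      exact (commute_prod_iff ht hzD (hCL.sublist (by repeat (first | exact List.nil_sublist _ | apply List.Sublist.cons_cons | apply List.Sublist.cons))) (by simp)).mpr fun x hx => by
        simp at hx; rcases hx with rfl | rfl | rfl <;> assumption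
  have hAa4 : 4 ∣ (A \ Ab).ncard := by
    refine hA4 a b₀ (by simp) _ Set.sdiff_subset (fun z hz => ⟨hAd z hz.1, fun h => hz.2 ⟨hz.1, ?_, ?_⟩⟩)
      (fun z hz => ⟨⟨ht.conj _ z hz.1.1, fun h => hz.1.2 ((commute_cg ?_).mp h)⟩,
        fun h => hz.2 ⟨hz.1, ?_, ?_⟩⟩) fun z hz h => hz.2 ⟨hz.1, h.1, h.2⟩
    · exact ((commute_cg (hn a (by simp)).2.2).mp h.2.1.symm).symm
    · exact ((commute_cg (hn b₀ (by simp)).2.2).mp h.2.2.symm).symm
    · exact (hn a (by simp)).2.2.symm.mul_left (hn b₀ (by simp)).2.2.symm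
    · exact ((commute_cg ((Commute.refl a).mul_left (hab.symm))).mp h.2.1.symm).symm
    · exact ((commute_cg (hab.mul_left (Commute.refl b₀))).mp h.2.2.symm).symm
  have hA4' : 4 ∣ A.ncard := by
    rw [← Set.ncard_sdiff_add_ncard_of_subset (show Ab ⊆ A from fun z hz => hz.1) (Set.toFinite _)]
    exact dvd_add hAa4 hAb4
  -- the members near `d`
  set M : Set G := {y | y ∈ near D d ∧ y ≠ a ∧ Commute a y} with hM
  have hM4 : 4 ∣ M.ncard :=
    four_dvd_perp (fun u hu v hv huv hne' => by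
      obtain ⟨m, hm⟩ := (hline d hd).1 u hu v hv huv hne'
      exact ⟨m, hm.nodup, hm.len, hm.near_mem, hm.left_mem, hm.right_mem, hm.comm, hm.closed,
        hm.maximal⟩) ha
  set N : Set G := {y | y ∈ near D d ∧ ¬ Commute a y} with hN
  have hN4 : 4 ∣ N.ncard := by
    have hb : Commute a (b₀ * p₁) := hab.mul_right (hc a (by simp) p₁ (by simp))
    have hdb : Commute d (b₀ * p₁) :=
      (hn b₀ (by simp)).2.2.mul_right (hn p₁ (by simp)).2.2
    have hbp := hc2 b₀ p₁ (by simp)
    refine four_dvd_free (cg a) (cg (b₀ * p₁))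
      (fun z hz => ⟨near_conj ht ha.2.2.symm hz.1, fun h => hz.2 ((commute_cg (Commute.refl a)).mp h)⟩)
      (fun z hz => ⟨near_conj ht hdb.symm hz.1, fun h => hz.2 ((commute_cg hb.symm).mp h)⟩)
      (fun z _ => cg_cg (ht.sq a ha.1) z) (fun z _ => cg_cg hbp.2 z) (fun z _ => cg_comm hb z)
      (fun z hz h => hz.2 (cg_eq.mp h).symm) (fun z hz h => hz.2 ?_) (fun z hz h => hz.2 ?_)
    · have h' : Commute z [b₀, p₁].prod := by simpa using cg_eq.mp h
      have h2 := (commute_prod_iff ht hz.1.1 (hCL.sublist (by repeat (first | exact List.nil_sublist _ | apply List.Sublist.cons_cons | apply List.Sublist.cons))) (by simp)).mp h'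
      have : a ∈ l := h5.left_mem
      -- the line through `b₀` and `p₁` is the same one
      obtain ⟨m, hm⟩ := (hline d hd).1 b₀ hb₀ p₁ (hn p₁ (by simp)) (hc _ (by simp) _ (by simp))
        (fun e => by simp [e] at hnd)
      have hsub : ∀ q ∈ m, q ∈ l := fun q hq => h5.maximal q (hm.near_mem q hq)
        fun w hw w1 w2 => hm.closed w hw w2 (h5.closed w hw w1 w2 p₁ (hin p₁ (by simp))) q hq
      have hp : m.Perm l :=
        (List.subperm_of_subset hm.nodup hsub).perm_of_length_le (by rw [h5.len, hm.len])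
      exact (hm.closed z hz.1 (h2 b₀ (by simp)) (h2 p₁ (by simp)) a (hp.mem_iff.mpr this)).symm
    · have e : cg a (cg (b₀ * p₁) z) = cg [a, b₀, p₁].prod z := by simp [cg, mul_assoc]
      rw [e] at h
      exact ((commute_prod_iff ht hz.1.1 (hCL.sublist (by repeat (first | exact List.nil_sublist _ | apply List.Sublist.cons_cons | apply List.Sublist.cons))) (by simp)).mp
        (cg_eq.mp h) a (by simp)).symm
  have hnear : (near D d).ncard = M.ncard + N.ncard + 1 := by
    have e : near D d = insert a (M ∪ N) := by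
      ext y
      simp only [hM, hN, Set.mem_insert_iff, Set.mem_union, Set.mem_setOf_eq]
      refine ⟨fun hy => ?_, ?_⟩
      · by_cases e1 : y = a
        · exact Or.inl e1
        · by_cases e2 : Commute a y
          · exact Or.inr (Or.inl ⟨hy, e1, e2⟩)
          · exact Or.inr (Or.inr ⟨hy, e2⟩)
      · rintro (rfl | h | h)
        · exact ha
        · exact h.1
        · exact h.1
    rw [e, Set.ncard_insert_of_notMem (by simp [hM, hN, Commute.refl a]),
      Set.ncard_union_eq (Set.disjoint_left.mpr fun y h1 h2 => h2.2 h1.2.2)]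
  have hD : D.ncard = (near D d).ncard + A.ncard + 1 := by
    have e : D = insert d (near D d ∪ A) := by
      ext y
      simp only [hA, Set.mem_insert_iff, Set.mem_union, Set.mem_setOf_eq]
      refine ⟨fun hy => ?_, ?_⟩
      · by_cases e1 : y = d
        · exact Or.inl e1
        · by_cases e2 : Commute d y
          · exact Or.inr (Or.inl ⟨hy, e1, e2⟩)
          · exact Or.inr (Or.inr ⟨hy, e2⟩)
      · rintro (rfl | h | h)
        · exact hd
        · exact h.1
        · exact h.1
    conv_lhs => rw [e]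
    rw [Set.ncard_insert_of_notMem (by simp [hA, Commute.refl d]),
      Set.ncard_union_eq (Set.disjoint_left.mpr fun y h1 h2 => h2.2 h1.2.2)]
  omega

/-- An involution of a simple group centralizes some member of an invariant set of size two modulo four. -/
theorem exists_commute [IsSimpleGroup G] (hconj : ∀ g : G, ∀ e ∈ D, g * e * g⁻¹ ∈ D)
    (h2 : D.ncard % 4 = 2) (hG : 2 < Nat.card G) {x : G} (hx : orderOf x = 2) :
    ∃ e ∈ D, Commute x e := by
  classical
  obtain ⟨S₀⟩ := (inferInstance : Nonempty (Sylow 2 G))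
  haveI : Fact (Nat.Prime 2) := ⟨Nat.prime_two⟩
  obtain ⟨k, hk⟩ : ∃ k : G, k * x * k⁻¹ ∈ (S₀ : Subgroup G) := by
    obtain ⟨T, hT⟩ := (IsPGroup.of_card (p := 2) (n := 1)
      (show Nat.card ↥(zpowers x) = 2 ^ 1 by rw [Nat.card_zpowers, hx, pow_one])).exists_le_sylow
    obtain ⟨k, hk⟩ := MulAction.exists_smul_eq G T S₀
    refine ⟨k, ?_⟩
    rw [← hk, Sylow.coe_subgroup_smul]
    exact Subgroup.smul_mem_pointwise_smul _ (MulAut.conj k) _ (hT (mem_zpowers x))
  suffices h : ∃ e ∈ D, ∃ g : G, Commute (g * x * g⁻¹) e by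
    obtain ⟨e, he, g, hge⟩ := h
    refine ⟨g⁻¹ * e * g⁻¹⁻¹, hconj g⁻¹ e he, ?_⟩
    have := (Commute.conj_iff g⁻¹).mpr hge
    simpa [mul_assoc] using this
  set S := (S₀ : Subgroup G) with hS
  letI : MulAction ↥S D :=
    { smul := fun s e => ⟨(s : G) * e * (s : G)⁻¹, hconj _ _ e.2⟩
      one_smul := fun e => Subtype.ext (by show (1 : G) * e * (1 : G)⁻¹ = e; group)
      mul_smul := fun s t e => Subtype.ext (by
        show (s * t : G) * e * (s * t : G)⁻¹ = s * (t * e * (t : G)⁻¹) * (s : G)⁻¹; group) }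
  obtain ⟨e, he⟩ : ∃ e : D, (MulAction.orbit ↥S e).ncard ≤ 2 := by
    by_contra hno
    push Not at hno
    have : 4 ∣ (Set.univ : Set D).ncard := by
      refine dvd_of_partition 4 (fun e => MulAction.orbit ↥S e) fun e _ =>
        ⟨MulAction.mem_orbit_self e, Set.subset_univ _, ?_, fun b hb => MulAction.orbit_eq_iff.mpr hb⟩
      obtain ⟨n, hn⟩ := S₀.isPGroup'.card_orbit e
      rw [Nat.card_coe_set_eq] at hn
      have := hno e
      rw [hn] at this ⊢
      rcases n with _ | _ | n
      · simp at this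
      · simp at this
      · exact ⟨2 ^ n, by ring⟩
    rw [Set.ncard_univ, Nat.card_coe_set_eq] at this
    omega
  set Q := (MulAction.stabilizer ↥S e).map S.subtype with hQ
  have hQc : ∀ q ∈ Q, Commute q (e : G) := by
    rintro _ ⟨q, hq, rfl⟩
    have := congrArg Subtype.val (MulAction.mem_stabilizer_iff.mp hq)
    exact mul_inv_eq_iff_eq_mul.mp (show (q : G) * e * (q : G)⁻¹ = e from this)
  have hidx : (MulAction.stabilizer ↥S e).index = (MulAction.orbit ↥S e).ncard := by
    rw [MulAction.index_stabilizer]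
  have hpos : 0 < (MulAction.orbit ↥S e).ncard := (Set.ncard_pos (Set.toFinite _)).mpr ⟨e, MulAction.mem_orbit_self e⟩
  rcases (show (MulAction.orbit ↥S e).ncard = 1 ∨ (MulAction.orbit ↥S e).ncard = 2 by omega) with
    h1 | h1
  · rw [h1, Subgroup.index_eq_one] at hidx
    exact ⟨e, e.2, k, hQc _ ⟨⟨_, hk⟩, hidx ▸ mem_top _, rfl⟩⟩
  · by_contra hno
    push Not at hno
    have hrel : Q.relIndex S = 2 := by
      rw [Subgroup.relIndex, hQ, Subgroup.subgroupOf, Subgroup.comap_map_eq_self_of_injective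
        S.subtype_injective, hidx, h1]
    have hx' : orderOf (k * x * k⁻¹) = 2 :=
      (orderOf_injective (MulAut.conj k).toMonoidHom (MulAut.conj k).injective x).trans hx
    obtain ⟨M, hMn, hM2, -⟩ := TransferThompson.thompson_transfer S₀ Q (Subgroup.map_subtype_le _)
      hrel hx' hk fun g hg => hno e e.2 (g * k) (by
        have := hQc _ hg
        simpa [mul_assoc] using this)
    rcases hMn.eq_bot_or_eq_top with h | h
    · rw [h, Subgroup.index_bot] at hM2; omega
    · rw [h, Subgroup.index_top] at hM2; omega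

end Cfsg.Agent.ThreeTransM22Count72
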