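import Cfsg.Agent.Lib.ThreeTransM22Classes72
import Cfsg.Agent.Lib.ThreeTransPrimitive

/-!
# Involutions of a group of type M(22) in a central extension by a group of order two

The six-member relation shows that lifts of commuting members commute, and the seven-member relation
that lifts of members are involutions; so every involution lifts to an involution.
-/

set_option autoImplicit false
set_option linter.unusedSectionVars false
set_option linter.style.haveILetI false

namespace Cfsg.Agent.ThreeTransM22Lifts17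

open Subgroup Cfsg.Agent.ThreeTransRel Cfsg.Agent.ThreeTransDescent
open Cfsg.Agent.UnitaryF4Geo Cfsg.Agent.UnitaryF4Line
open Cfsg.Agent.ThreeTransM22Local72 Cfsg.Agent.ThreeTransM22Frame72 Cfsg.Agent.ThreeTransM22Lift72

/-- A class of 3-transpositions of a simple group is primitive. -/
theorem primitive_of_simple {Q : Type*} [Group Q] [Finite Q] [IsSimpleGroup Q] {E : Set Q}
    (hE : Cfsg.IsThreeTranspositionClass E) (h2 : ∃ a ∈ E, ∃ b ∈ E, a ≠ b) :
    Cfsg.IsPrimitiveUnderConj E := by
  refine ThreeTransPrimitive.primitive_of_dichotomy hE h2 ⊤ (by simp) fun N hN => ?_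
  rcases IsSimpleGroup.eq_bot_or_eq_top_of_normal N hN with h | h
  · exact Or.inr (h ▸ bot_le)
  · exact Or.inl (h ▸ le_rfl)

theorem group_of_class {Q : Type*} [Group Q] {E : Set Q} (hE : Cfsg.IsThreeTranspositionClass E) :
    Cfsg.IsThreeTranspositionGroup E := by
  refine ⟨hE.1, fun g a ha => ?_, hE.2.2⟩
  obtain ⟨x₀, -, hx₀⟩ := hE.2.1
  rw [hx₀] at ha ⊢
  exact (show IsConj x₀ a from ha).trans (isConj_iff.mpr ⟨g, rfl⟩)

variable {C Q : Type*} [Group C] [Group Q] [Finite Q] {π : C →* Q} {z : C}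

/-- Passing a list that is moved by `z`. -/
theorem mul_prod_twist (hz : ∀ c : C, Commute z c) {a : C} :
    ∀ l : List C, (∀ b ∈ l, a * b = b * a * z) → a * l.prod = l.prod * a * z ^ l.length
  | [], _ => by simp
  | b :: l, h => by
    have ih := mul_prod_twist hz l fun y hy => h y (List.mem_cons_of_mem _ hy)
    have hzl := (hz l.prod).eq
    rw [List.prod_cons, List.length_cons, ← mul_assoc, h b (List.mem_cons_self ..)]
    calc b * a * z * l.prod = b * (a * l.prod) * z := by
          rw [mul_assoc (b * a), hzl, mul_assoc b a, ← mul_assoc a, ← mul_assoc b]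
      _ = b * l.prod * a * (z ^ l.length * z) := by rw [ih]; simp only [mul_assoc]
      _ = _ := by rw [pow_succ]

/-- The square of a product of commuting elements with the same central square. -/
theorem prod_sq_eq {e : C} (he : ∀ c : C, Commute e c) :
    ∀ l : List C, (∀ a ∈ l, ∀ b ∈ l, Commute a b) → (∀ a ∈ l, a * a = e) →
      l.prod * l.prod = e ^ l.length
  | [], _, _ => by simp
  | a :: l, hc, hs => by
    have ih := prod_sq_eq he l (fun x hx y hy => hc x (List.mem_cons_of_mem _ hx) y
      (List.mem_cons_of_mem _ hy)) fun x hx => hs x (List.mem_cons_of_mem _ hx)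
    have h1 : Commute a l.prod := Commute.list_prod_right _ _ fun b hb =>
      hc a (List.mem_cons_self ..) b (List.mem_cons_of_mem _ hb)
    rw [List.prod_cons, h1.symm.mul_mul_mul_comm, hs a (List.mem_cons_self ..), ih,
      List.length_cons, pow_succ']

variable {E : Set Q} (hE : Cfsg.IsThreeTranspositionGroup E) (hprim : Cfsg.IsPrimitiveUnderConj E)
  (h22 : Cfsg.IsOfTypeM22 Q E) (hπ : Function.Surjective π)
  (hker : ∀ c : C, π c = 1 → c = 1 ∨ c = z) (hz : ∀ c : C, Commute z c) (hz2 : z * z = 1)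
  (hπz : π z = 1)
include hE hprim h22 hπ hker hz hz2 hπz

theorem eq_or_eq_mul {a b : C} (h : π a = π b) : a = b ∨ a = b * z := by
  rcases hker (b⁻¹ * a) (by rw [map_mul, map_inv, h, inv_mul_cancel]) with e | e
  · exact Or.inl (eq_of_inv_mul_eq_one e).symm
  · exact Or.inr (inv_mul_eq_iff_eq_mul.mp e)

theorem commute_or_twist {a b : C} (h : Commute (π a) (π b)) :
    Commute a b ∨ a * b = b * a * z :=
  eq_or_eq_mul hE hprim h22 hπ hker hz hz2 hπz (by rw [map_mul, map_mul, h.eq])

/-- Lifts of commuting members commute. -/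
theorem lifts_commute {a b : C} (ha : π a ∈ E) (hb : π b ∈ E) (hab : Commute (π a) (π b)) :
    Commute a b := by
  classical
  have ht := tsys_of_group hE
  have hline := ThreeTransLine.lineAt_all ht hprim h22
  have tw : ∀ {p q : C}, π p = π q → p = q ∨ p = q * z := fun h =>
    eq_or_eq_mul hE hprim h22 hπ hker hz hz2 hπz h
  by_cases he : π b = π a
  · rcases tw he with e | e
    · rw [e]
    · rw [e]; exact (Commute.refl a).mul_right (hz a).symm
  have hbn : π b ∈ near E (π a) := ⟨hb, he, hab⟩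
  obtain ⟨F, _, _, _, hctx⟩ := exists_ctx hE hprim h22
  obtain ⟨φ, X⟩ := hctx (π a) ha
  obtain ⟨w, hw⟩ := exists_omega (F := F)
  obtain ⟨v, hv, hv0, ev⟩ := L_surj X hbn
  -- if `a` and `b` do not commute, no lift of a near member commutes with `a`
  by_contra hn
  have hall : ∀ c : C, π c ∈ near E (π a) → a * c = c * a * z := by
    intro c hc
    refine (commute_or_twist hE hprim h22 hπ hker hz hz2 hπz hc.2.2).resolve_left fun hcc => hn ?_
    obtain ⟨k₀, hk₀, hk⟩ := (hline (π a) ha).2 _ hc _ hbn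
    obtain ⟨k, rfl⟩ := hπ k₀
    have h1 : π (k * c * k⁻¹) = π b := by rw [map_mul, map_mul, map_inv, hk]
    have h2 : π (k * a * k⁻¹) = π a := by
      rw [map_mul, map_mul, map_inv]
      exact mul_inv_eq_iff_eq_mul.mpr (commute_d_of_mem_loc hk₀).symm.eq
    have h3 : Commute (k * a * k⁻¹) (k * c * k⁻¹) := (Commute.conj_iff k).mpr hcc
    have h4 : ∀ p q : C, π p = π q → ∀ r : C, Commute p r → Commute q r := by
      intro p q hpq r hr
      rcases tw hpq.symm with e | e
      · rwa [e]
      · rw [e]; exact hr.mul_left (hz r)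
    exact (h4 _ _ h1 _ (h4 _ _ h2 _ h3).symm).symm
  -- a five-element line through `b`
  obtain ⟨c, hc, hcb, hcne⟩ : ∃ c ∈ near E (π a), Commute (π b) c ∧ π b ≠ c := by
    obtain ⟨e, f, hfr⟩ : ∃ e f : Fin 3 → Fin 6 → F, Frame e f := by
      obtain ⟨B, hB, hBd⟩ : ∃ B, ThreeTransM22Outer72.Blk E B ∧ π a ∈ B := by
        have h1 := ThreeTransM22Outer72.odd_blocks ht (T := {π a}) (by simpa using ha) (by simp)
        obtain ⟨B, hB⟩ := Set.nonempty_of_ncard_ne_zero (s := {B : Set Q |
          ThreeTransM22Outer72.Blk E B ∧ {π a} ⊆ B}) (by omega)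
        exact ⟨B, hB.1, hB.2 rfl⟩
      obtain ⟨e, f, hfr, -⟩ := ThreeTransM22Outer72.exists_plane X hB hBd hw
      exact ⟨e, f, hfr⟩
    have h01 : Commute (Chart.L X.chart (e 0)) (Chart.L X.chart (e 1)) :=
      (L_comm X (hfr.ee _ _) (hfr.ne_zero _) (hfr.ee _ _) (hfr.ne_zero _)).mpr (hfr.ee 0 1)
    have hne : Chart.L X.chart (e 0) ≠ Chart.L X.chart (e 1) := by
      have := (clist_base X hfr).nodup
      simp [ThreeTransM22Lift72.base] at this
      exact this.1.1
    obtain ⟨k, hk, hkb⟩ := (hline (π a) ha).2 _ (L_mem X (hfr.ee 0 0) (hfr.ne_zero 0)) _ hbn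
    refine ⟨k * Chart.L X.chart (e 1) * k⁻¹, ?_, ?_, ?_⟩
    · exact near_conj ht (commute_d_of_mem_loc hk).symm (L_mem X (hfr.ee 1 1) (hfr.ne_zero 1))
    · rw [← hkb]; exact (Commute.conj_iff k).mpr h01
    · rw [← hkb]; exact fun h => hne (mul_left_cancel (mul_right_cancel h))
  obtain ⟨l, h5⟩ := (hline (π a) ha).1 _ hbn c hc hcb hcne
  have h6 := ThreeTransLine.six ht hprim h22.1 hline ha h5 hbn hc hcb hcne
  obtain ⟨lC, rfl⟩ : ∃ lC : List C, lC.map π = l :=
    ⟨l.map (Function.surjInv hπ), by simp [List.map_map, Function.comp_def, Function.surjInv_eq hπ]⟩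
  have hp : a * lC.prod = lC.prod * a * z ^ lC.length := mul_prod_twist hz lC fun p hp =>
    hall p (h5.near_mem _ (List.mem_map_of_mem hp))
  have hlen : lC.length = 5 := by simpa using h5.len
  have hpa : π lC.prod = π a := by
    rw [map_list_prod, eq_inv_of_mul_eq_one_right h6, ht.inv_self ha]
  have hcomm : Commute a lC.prod := by
    rcases tw hpa with e | e
    · rw [e]
    · rw [e]; exact (Commute.refl a).mul_right (hz a).symm
  have hz5 : z ^ 5 = z := by
    rw [pow_succ, show z ^ 4 = (z * z) * (z * z) by simp [pow_succ, mul_assoc], hz2, one_mul, one_mul]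
  have hz1 : z = 1 := by
    rw [hcomm.eq, hlen, hz5] at hp
    exact mul_eq_left.mp hp.symm
  rcases commute_or_twist hE hprim h22 hπ hker hz hz2 hπz (a := a) (b := b) hab with h | h
  · exact hn h
  · exact hn (show a * b = b * a by rw [h, hz1, mul_one])

/-- Lifts of members are involutions. -/
theorem lifts_sq {a : C} (ha : π a ∈ E) : a * a = 1 := by
  classical
  have ht := tsys_of_group hE
  have tw : ∀ {p q : C}, π p = π q → p = q ∨ p = q * z := fun h =>
    eq_or_eq_mul hE hprim h22 hπ hker hz hz2 hπz h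
  set e := a * a with hedef
  have he1 : e = 1 ∨ e = z := hker e (by rw [hedef, map_mul, ht.sq _ ha])
  have hec : ∀ c : C, Commute e c := fun c => by
    rcases he1 with h | h <;> rw [h]
    · exact Commute.one_left c
    · exact hz c
  have hall : ∀ c : C, π c ∈ E → c * c = e := by
    intro c hc
    obtain ⟨g₀, hg⟩ := hprim.1 _ ha _ hc
    obtain ⟨g, rfl⟩ := hπ g₀
    have h1 : (g * a * g⁻¹) * (g * a * g⁻¹) = e := by
      calc (g * a * g⁻¹) * (g * a * g⁻¹) = g * e * g⁻¹ := by rw [hedef]; group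
        _ = e := by rw [(hec g).symm.eq, mul_inv_cancel_right]
    rcases tw (p := c) (q := g * a * g⁻¹) (by rw [map_mul, map_mul, map_inv, hg]) with h | h
    · rw [h, h1]
    · rw [h, (hz _).mul_mul_mul_comm, hz2, mul_one, h1]
  obtain ⟨F, _, _, _, hctx⟩ := exists_ctx hE hprim h22
  obtain ⟨φ, X⟩ := hctx (π a) ha
  obtain ⟨w, hw⟩ := exists_omega (F := F)
  obtain ⟨B, hB, hBd⟩ : ∃ B, ThreeTransM22Outer72.Blk E B ∧ π a ∈ B := by
    have h1 := ThreeTransM22Outer72.odd_blocks ht (T := {π a}) (by simpa using ha) (by simp)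
    obtain ⟨B, hB⟩ := Set.nonempty_of_ncard_ne_zero (s := {B : Set Q |
      ThreeTransM22Outer72.Blk E B ∧ {π a} ⊆ B}) (by omega)
    exact ⟨B, hB.1, hB.2 rfl⟩
  obtain ⟨ev, f, hfr, -⟩ := ThreeTransM22Outer72.exists_plane X hB hBd hw
  obtain ⟨-, k, -, hk⟩ := conic_exists X hfr hw
  set l := conic X ev k w ++ (ThreeTransM22Lift72.base X ev ++ [π a]) with hl
  have hbp : (ThreeTransM22Lift72.base X ev ++ [π a]).prod = (ThreeTransM22Lift72.base X ev).prod * π a := by
    simp
  have hprod : l.prod = 1 := by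
    rw [hl, List.prod_append, hbp, ← hk]
    exact (clist_conic X hfr hw).prod_sq ht
  have hmemE : ∀ p ∈ l, p ∈ E := by
    intro p hp
    simp only [hl, List.mem_append, List.mem_singleton] at hp
    rcases hp with h | h | h
    · exact (clist_conic X hfr hw).mem p h
    · exact (clist_base X hfr).mem p h
    · exact h ▸ ha
  have hcm : ∀ p ∈ l, ∀ q ∈ l, Commute p q := by
    have hvec : ∀ p ∈ l, p = π a ∨ ∃ c : Fin 3 → F, comb ev c ≠ 0 ∧ p = Chart.L X.chart (comb ev c) := by
      intro p hp
      simp only [hl, conic, ThreeTransM22Lift72.base, List.mem_append, List.mem_cons,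
        List.not_mem_nil, or_false] at hp
      rcases hp with (rfl | rfl | rfl) | (rfl | rfl | rfl) | rfl
      · exact Or.inr ⟨_, q_comb_ne X hfr k _, rfl⟩
      · exact Or.inr ⟨_, q_comb_ne X hfr k _, rfl⟩
      · exact Or.inr ⟨_, q_comb_ne X hfr k _, rfl⟩
      · exact Or.inr ⟨Pi.single 0 1, by rw [comb_single]; exact hfr.ne_zero _, by rw [comb_single]⟩
      · exact Or.inr ⟨Pi.single 1 1, by rw [comb_single]; exact hfr.ne_zero _, by rw [comb_single]⟩
      · exact Or.inr ⟨Pi.single 2 1, by rw [comb_single]; exact hfr.ne_zero _, by rw [comb_single]⟩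
      · exact Or.inl rfl
    intro p hp q hq
    rcases hvec p hp with rfl | ⟨c, hc, rfl⟩ <;> rcases hvec q hq with rfl | ⟨c', hc', rfl⟩
    · exact Commute.refl _
    · exact (L_mem X (hfr.h_ee _ _) hc').2.2
    · exact (L_mem X (hfr.h_ee _ _) hc).2.2.symm
    · exact (L_comm X (hfr.h_ee _ _) hc (hfr.h_ee _ _) hc').mpr (hfr.h_ee _ _)
  set lC := l.map (Function.surjInv hπ) with hlC
  have hπl : ∀ p ∈ lC, π p ∈ l := by
    intro p hp
    obtain ⟨q, hq, rfl⟩ := List.mem_map.mp hp
    rwa [Function.surjInv_eq hπ]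
  have hsq := prod_sq_eq hec lC (fun p hp q hq => lifts_commute hE hprim h22 hπ hker hz hz2 hπz
    (hmemE _ (hπl p hp)) (hmemE _ (hπl q hq)) (hcm _ (hπl p hp) _ (hπl q hq)))
    fun p hp => hall p (hmemE _ (hπl p hp))
  have hlen : lC.length = 7 := by simp [hlC, hl, conic, ThreeTransM22Lift72.base]
  have hone : lC.prod * lC.prod = 1 := by
    rcases hker lC.prod (by
      rw [map_list_prod, hlC, List.map_map]
      simpa [Function.comp_def, Function.surjInv_eq hπ] using hprod) with h | h <;> rw [h]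
    · exact one_mul 1
    · exact hz2
  rw [hsq, hlen] at hone
  rcases he1 with h | h
  · exact h
  · have h6 : e ^ 6 = 1 := by
      rw [h, show z ^ 6 = (z * z) * (z * z) * (z * z) by simp [pow_succ, mul_assoc], hz2, one_mul,
        one_mul]
    rwa [pow_succ, h6, one_mul] at hone

/-- Every involution of the quotient is the image of an involution. -/
theorem exists_lift {x : Q} (hx : orderOf x = 2) : ∃ y : C, orderOf y = 2 ∧ π y = x := by
  classical
  obtain ⟨l, hl, -, -, rfl⟩ := ThreeTransM22Classes72.exists_product hE hprim h22 hx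
  set lC := l.map (Function.surjInv hπ) with hlC
  have hmap : π lC.prod = l.prod := by
    rw [map_list_prod, hlC, List.map_map]
    simp [Function.comp_def, Function.surjInv_eq hπ]
  have hπl : ∀ p ∈ lC, π p ∈ l := by
    intro p hp
    obtain ⟨q, hq, rfl⟩ := List.mem_map.mp hp
    rwa [Function.surjInv_eq hπ]
  have hsq := prod_sq_eq (fun c => Commute.one_left c) lC
    (fun p hp q hq => lifts_commute hE hprim h22 hπ hker hz hz2 hπz (hl.mem _ (hπl p hp))
      (hl.mem _ (hπl q hq)) (hl.comm _ (hπl p hp) _ (hπl q hq)))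
    fun p hp => lifts_sq hE hprim h22 hπ hker hz hz2 hπz (hl.mem _ (hπl p hp))
  rw [one_pow] at hsq
  refine ⟨lC.prod, orderOf_eq_prime (by rw [pow_two, hsq]) fun h1 => ?_, hmap⟩
  rw [h1, map_one] at hmap
  rw [← hmap, orderOf_one] at hx
  omega

end Cfsg.Agent.ThreeTransM22Lifts17
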