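import Cfsg.Agent.Lib.ThreeTransM22Outer72

/-!
# The Thompson subgroup of a Sylow 2-subgroup in type M(22)

A Sylow 2-subgroup normalises a maximal commuting set `B`; the subgroup `E` generated by `B` is
elementary abelian and larger than every other elementary abelian subgroup normalising `B`: an
involution of the set moves at least sixteen members of `B`, and an elementary abelian group fixing a
member induces at most sixteen permutations of `B`.
-/

set_option autoImplicit false
set_option linter.unusedSectionVars false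
set_option linter.style.haveILetI false

namespace Cfsg.Agent.ThreeTransM22Thompson72

open Subgroup Cfsg.Agent.ThreeTransRel Cfsg.Agent.ThreeTransDescent
open Cfsg.Agent.UnitaryF4Geo Cfsg.Agent.UnitaryF4Line Matrix
open Cfsg.Agent.ThreeTransM22Local72 Cfsg.Agent.ThreeTransM22Frame72 Cfsg.Agent.ThreeTransM22Lift72
open Cfsg.Agent.ThreeTransM22Outer72 Cfsg.Agent.ThreeTransM22Std72
open Cfsg.Agent.ThreeTransM22Count72 (dvd_of_partition)

variable {G : Type*} [Group G] [Finite G] {D : Set G}

section matrices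

variable {F : Type} [Field F] [Fintype F] [hF : FourField F]

/-- A proper subspace of `F³` has at most sixteen vectors. -/
theorem card_proper {W : Submodule F (Fin 3 → F)} (hW : W ≠ ⊤) : Nat.card W ≤ 16 := by
  have h1 : Module.finrank F W ≤ 2 := by
    have := Submodule.finrank_lt hW
    rw [Module.finrank_fin_fun] at this
    omega
  rw [Module.natCard_eq_pow_finrank (K := F) (V := W), Nat.card_eq_fintype_card, hF.card_eq]
  calc 4 ^ Module.finrank F W ≤ 4 ^ 2 := Nat.pow_le_pow_right (by norm_num) h1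
    _ = 16 := by norm_num

/-- A square-zero matrix of size three has rank at most one. -/
theorem parallel {N : Matrix (Fin 3) (Fin 3) F} (hN : N * N = 0) {x : Fin 3 → F} (hx : N *ᵥ x ≠ 0)
    (y : Fin 3 → F) : ∃ c : F, c • (N *ᵥ x) = N *ᵥ y := by
  have hle : LinearMap.range N.mulVecLin ≤ LinearMap.ker N.mulVecLin := by
    rintro _ ⟨z, rfl⟩
    rw [LinearMap.mem_ker, Matrix.mulVecLin_apply, Matrix.mulVecLin_apply, Matrix.mulVec_mulVec, hN,
      Matrix.zero_mulVec]
  have h1 := Submodule.finrank_mono hle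
  have h2 := N.mulVecLin.finrank_range_add_finrank_ker
  rw [Module.finrank_fin_fun] at h2
  have h3 : Module.finrank F (LinearMap.range N.mulVecLin) = 1 := by
    have h4 : Module.finrank F (LinearMap.range N.mulVecLin) ≠ 0 := fun h0 => hx (by
      have := Submodule.finrank_eq_zero.mp h0
      have h5 : N *ᵥ x ∈ LinearMap.range N.mulVecLin := ⟨x, rfl⟩
      rwa [this, Submodule.mem_bot] at h5)
    omega
  obtain ⟨c, hc⟩ := (finrank_eq_one_iff_of_nonzero' (K := F)
    (⟨N *ᵥ x, x, rfl⟩ : LinearMap.range N.mulVecLin) (fun h => hx (congrArg Subtype.val h))).mp h3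
    ⟨N *ᵥ y, y, rfl⟩
  exact ⟨c, congrArg Subtype.val hc⟩

/-- Commuting matrices of square one form a group of order at most sixteen. -/
theorem card_le_sixteen {P : Type*} [Group P] [Finite P] (N : P → Matrix (Fin 3) (Fin 3) F)
    (hinj : Function.Injective N) (h0 : ∀ p, N p * N p = 0)
    (hmul : ∀ p q, N (p * q) = N p + N q + N p * N q) (hcomm : ∀ p q, N p * N q = N q * N p) :
    Nat.card P ≤ 16 := by
  classical
  have two : ∀ x : F, x + x = 0 := add_self
  by_cases hall : ∀ p, N p = 0
  · have : Subsingleton P := ⟨fun p q => hinj ((hall p).trans (hall q).symm)⟩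
    have := Finite.card_le_one_iff_subsingleton.mpr this
    omega
  push Not at hall
  obtain ⟨p₀, hp₀⟩ := hall
  obtain ⟨z, hz⟩ : ∃ z, N p₀ *ᵥ z ≠ 0 := by
    by_contra hno
    push Not at hno
    exact hp₀ (Matrix.ext_of_mulVec_single fun i => by rw [hno, Matrix.zero_mulVec])
  set u := N p₀ *ᵥ z with hu
  set W := LinearMap.ker (N p₀).mulVecLin with hW
  have hWtop : W ≠ ⊤ := fun h => hz (LinearMap.mem_ker.mp (h ▸ Submodule.mem_top : z ∈ W))
  -- the two kinds of elements
  let S₁ : Submonoid P :=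
    { carrier := {p | ∀ w ∈ W, N p *ᵥ w = 0}
      one_mem' := fun w _ => by
        have h1 := hmul 1 1
        rw [mul_one, h0, add_zero] at h1
        rw [add_eq_left.mp h1.symm, Matrix.zero_mulVec]
      mul_mem' := fun {p q} hp hq w hw => by
        rw [hmul, Matrix.add_mulVec, Matrix.add_mulVec, hp w hw, hq w hw, ← Matrix.mulVec_mulVec,
          hq w hw, Matrix.mulVec_zero, add_zero, add_zero] }
  let S₂ : Submonoid P :=
    { carrier := {p | ∀ x, ∃ c : F, c • u = N p *ᵥ x}
      one_mem' := fun x => by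
        have h1 := hmul 1 1
        rw [mul_one, h0, add_zero] at h1
        exact ⟨0, by rw [add_eq_left.mp h1.symm, Matrix.zero_mulVec, zero_smul]⟩
      mul_mem' := fun {p q} hp hq x => by
        obtain ⟨a, ha⟩ := hp x
        obtain ⟨b, hb⟩ := hq x
        obtain ⟨c, hc⟩ := hp (N q *ᵥ x)
        exact ⟨a + b + c, by rw [hmul, Matrix.add_mulVec, Matrix.add_mulVec, ← Matrix.mulVec_mulVec,
          add_smul, add_smul, ha, hb, hc]⟩ }
  have hcover : ∀ p, p ∈ S₁ ∨ p ∈ S₂ := by
    intro p
    by_contra hno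
    push Not at hno
    obtain ⟨h1, h2⟩ := hno
    obtain ⟨w, hw, hw'⟩ : ∃ w ∈ W, N p *ᵥ w ≠ 0 := by
      by_contra h; push Not at h; exact h1 h
    have hne : ∀ a : F, a • (N p *ᵥ w) ≠ u := by
      intro a ha
      refine h2 fun x => ?_
      obtain ⟨c, hc⟩ := parallel (h0 p) hw' x
      have ha0 : a ≠ 0 := fun h => hz (by rw [← ha, h, zero_smul])
      exact ⟨c * a⁻¹, by rw [← ha, smul_smul, mul_assoc, inv_mul_cancel₀ ha0, mul_one, hc]⟩
    have hmix : N p₀ * N p = 0 := by
      refine Matrix.ext_of_mulVec_single fun i => ?_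
      rw [Matrix.zero_mulVec]
      obtain ⟨a, ha⟩ := parallel (h0 p₀) hz (N p *ᵥ Pi.single i 1)
      obtain ⟨b, hb⟩ := parallel (h0 p) hw' (N p₀ *ᵥ Pi.single i 1)
      rw [Matrix.mulVec_mulVec] at ha hb
      rw [← hcomm] at hb
      rw [← ha]
      by_cases ha0 : a = 0
      · rw [ha0, zero_smul]
      · exact absurd (by rw [mul_smul, hb, ← ha, ← hu, smul_smul, inv_mul_cancel₀ ha0, one_smul])
          (hne (a⁻¹ * b))
    have hK : N (p₀ * p) = N p₀ + N p := by rw [hmul, hmix, add_zero]
    have hwK : N (p₀ * p) *ᵥ w = N p *ᵥ w := by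
      rw [hK, Matrix.add_mulVec, show N p₀ *ᵥ w = 0 from LinearMap.mem_ker.mp hw, zero_add]
    obtain ⟨c, hc⟩ := parallel (h0 (p₀ * p)) (hwK ▸ hw') z
    rw [hwK, hK, Matrix.add_mulVec, ← hu] at hc
    obtain ⟨b, hb⟩ := parallel (h0 p) hw' z
    refine hne (c + b) ?_
    rw [add_smul, hc, hb, add_assoc]
    funext i
    simp [Pi.add_apply, two]
  have hone : (∀ p, p ∈ S₁) ∨ ∀ p, p ∈ S₂ := by
    by_contra hno
    push Not at hno
    obtain ⟨⟨p, hp⟩, ⟨q, hq⟩⟩ := hno
    have hp2 := (hcover p).resolve_left hp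
    have hq1 := (hcover q).resolve_right hq
    have hinv : ∀ (S : Submonoid P) (x : P), x ∈ S → x⁻¹ ∈ S := fun S x hx => by
      obtain ⟨n, hn⟩ := (isOfFinOrder_of_finite x).mem_powers_iff_mem_zpowers.mpr
        (Subgroup.inv_mem _ (Subgroup.mem_zpowers x))
      exact hn ▸ pow_mem hx n
    rcases hcover (p * q) with h | h
    · exact hp (by simpa [mul_assoc] using mul_mem h (hinv S₁ q hq1))
    · exact hq (by simpa [← mul_assoc] using mul_mem (hinv S₂ p hp2) h)
  rcases hone with h | h
  · -- determined by the image of `z`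
    have hker : ∀ p w, w ∈ W → N p *ᵥ w = 0 := fun p w hw => h p w hw
    have hfull : ∀ x, ∃ c : F, x + c • z ∈ W := fun x => by
      obtain ⟨c, hc⟩ := parallel (h0 p₀) hz x
      refine ⟨c, ?_⟩
      rw [hW, LinearMap.mem_ker, Matrix.mulVecLin_apply, Matrix.mulVec_add, Matrix.mulVec_smul, hc]
      funext i; exact two _
    refine le_trans ?_ (card_proper (W := W) hWtop)
    refine Nat.card_le_card_of_injective (fun p => (⟨N p *ᵥ z, ?_⟩ : W)) fun p q hpq => hinj ?_
    · obtain ⟨c, hc⟩ := hfull (N p *ᵥ z)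
      have h1 := hker p _ hc
      rw [Matrix.mulVec_add, Matrix.mulVec_mulVec, h0, Matrix.zero_mulVec, zero_add,
        Matrix.mulVec_smul] at h1
      rcases smul_eq_zero.mp h1 with h2 | h2
      · rwa [h2, zero_smul, add_zero] at hc
      · rw [h2]; exact W.zero_mem
    · refine Matrix.ext_of_mulVec_single fun i => ?_
      obtain ⟨c, hc⟩ := hfull (Pi.single i 1)
      have e1 : ∀ r, N r *ᵥ Pi.single i 1 = c • (N r *ᵥ z) := fun r => by
        have h1 := hker r _ hc
        rw [Matrix.mulVec_add, Matrix.mulVec_smul] at h1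
        exact funext fun j => eq_of_add_eq_zero (congrFun h1 j)
      rw [e1, e1, show N p *ᵥ z = N q *ᵥ z from congrArg Subtype.val hpq]
  · -- determined by one row
    obtain ⟨k, hk⟩ : ∃ k, u k ≠ 0 := by
      by_contra hno; push Not at hno; exact hz (funext hno)
    let K : Submodule F (Fin 3 → F) :=
      { carrier := {a | a ⬝ᵥ u = 0}
        zero_mem' := zero_dotProduct u
        add_mem' := fun {a b} ha hb => by
          show (a + b) ⬝ᵥ u = 0
          rw [add_dotProduct, ha, hb, add_zero]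
        smul_mem' := fun c {a} ha => by
          show (c • a) ⬝ᵥ u = 0
          rw [smul_dotProduct, ha, smul_zero] }
    have hKtop : K ≠ ⊤ := fun htop => hk (by
      have : Pi.single k (1 : F) ∈ K := htop ▸ Submodule.mem_top
      have h1 : Pi.single k (1 : F) ⬝ᵥ u = 0 := this
      rwa [single_one_dotProduct] at h1)
    refine le_trans ?_ (card_proper (W := K) hKtop)
    refine Nat.card_le_card_of_injective (fun p => (⟨N p k, ?_⟩ : K)) fun p q hpq => hinj ?_
    · show N p k ⬝ᵥ u = 0
      by_cases hp : N p = 0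
      · rw [hp]; exact zero_dotProduct u
      obtain ⟨x, hx⟩ : ∃ x, N p *ᵥ x ≠ 0 := by
        by_contra hno; push Not at hno
        exact hp (Matrix.ext_of_mulVec_single fun i => by rw [hno, Matrix.zero_mulVec])
      obtain ⟨c, hc⟩ := h p x
      have h1 : N p *ᵥ (c • u) = 0 := by rw [hc, Matrix.mulVec_mulVec, h0, Matrix.zero_mulVec]
      rw [Matrix.mulVec_smul] at h1
      rcases smul_eq_zero.mp h1 with h2 | h2
      · rw [h2, zero_smul] at hc; exact absurd hc.symm hx
      · exact congrFun h2 k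
    · refine Matrix.ext_of_mulVec_single fun i => ?_
      obtain ⟨a, ha⟩ := h p (Pi.single i 1)
      obtain ⟨b, hb⟩ := h q (Pi.single i 1)
      have hrow : N p k = N q k := congrArg Subtype.val hpq
      have e1 : (N p *ᵥ Pi.single i 1) k = (N q *ᵥ Pi.single i 1) k := by
        show N p k ⬝ᵥ _ = N q k ⬝ᵥ _
        rw [hrow]
      rw [← ha, ← hb] at e1 ⊢
      simp only [Pi.smul_apply, smul_eq_mul] at e1
      rw [mul_right_cancel₀ hk e1]

end matrices

section local_data

variable {F : Type} [Field F] [Fintype F] [hF : FourField F]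
variable {d : G} {φ : ↥(loc D d) →* Cfsg.PSU 6 F 2}
variable (X : Ctx D d φ)

local notation "π" => QuotientGroup.mk' (Subgroup.center (Cfsg.SU 6 F 2))
local notation "act" => OrthUnitaryTransvection.act
local notation "L" => ThreeTransM22Lift72.Chart.L X.chart

include X

/-- What a maximal set through `d` gives about the elements of the local group stabilising it. -/
theorem local_facts {B : Set G} (hB : Blk D B) (hdB : d ∈ B) :
    (∀ x ∈ loc D d, (∀ y ∈ B, Commute x y) → x ^ 3 ∈ closure B) ∧
    (∀ (A : Subgroup G), A ≤ loc D d → (∀ a ∈ A, ∀ y ∈ B, a * y * a⁻¹ ∈ B) →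
      (∀ a ∈ A, ∀ y ∈ B, a * (a * y * a⁻¹) * a⁻¹ = y) → (∀ a ∈ A, ∀ b ∈ A, Commute a b) →
      ∀ (ρ : A →* Equiv.Perm B), (∀ a y, (ρ a y : G) = (a : G) * y * (a : G)⁻¹) →
        Nat.card ρ.range ≤ 16) ∧
    ∀ t ∈ loc D d, (∀ y ∈ B, t * y * t⁻¹ ∈ B) → (∀ y ∈ B, t * (t * y * t⁻¹) * t⁻¹ = y) →
      (∃ y ∈ B, t * y * t⁻¹ ≠ y) → 16 ≤ {y | y ∈ B ∧ t * y * t⁻¹ ≠ y}.ncard := by
  classical
  obtain ⟨w, hw⟩ := exists_omega (F := F)
  obtain ⟨e, f, hfr, hgood, hmem, hsur⟩ := exists_plane X hB hdB hw
  have hmd : ∀ {g : G}, g ∈ loc D d → g * d * g⁻¹ = d := fun hg =>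
    mul_inv_eq_iff_eq_mul.mpr (commute_d_of_mem_loc hg).symm.eq
  -- the linear map of a stabilising element
  have hlin : ∀ g ∈ loc D d, (∀ y ∈ B, g * y * g⁻¹ ∈ B) → ∃ M : Matrix (Fin 3) (Fin 3) F,
      ∀ c : Fin 3 → F, c ≠ 0 → M *ᵥ c ≠ 0 ∧ g * L (comb e c) * g⁻¹ = L (comb e (M *ᵥ c)) := by
    intro g hg hst
    obtain ⟨A, hA⟩ := QuotientGroup.mk'_surjective (Subgroup.center (Cfsg.SU 6 F 2)) (φ ⟨g, hg⟩)
    have hcol : ∀ j, ∃ m : Fin 3 → F, act A (e j) = comb e m := by
      intro j
      have h1 := hmem (Pi.single j 1) (by simp)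
      rw [comb_single] at h1
      have h2 : g * L (e j) * g⁻¹ = L (act A (e j)) :=
        L_conj X (k := ⟨g, hg⟩) hA.symm (hfr.ee j j) (hfr.ne_zero j)
      have hne : g * L (e j) * g⁻¹ ≠ d := fun h0 =>
        (L_mem X (hfr.ee j j) (hfr.ne_zero j)).2.1
          (mul_left_cancel (mul_right_cancel (h0.trans (hmd hg).symm)))
      obtain ⟨c, hc, e1⟩ := hsur _ (hst _ h1) hne
      rw [h2] at e1
      obtain ⟨k, -, e2⟩ := L_inj X ((OrthUnitaryTransvection.herm_act A _ _).trans (hfr.ee j j))
        (OrthUnitaryPSU.act_smul_right_inj A (hfr.ne_zero j)) (hfr.h_ee _ _) (comb_ne X hfr hc) e1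
      exact ⟨k • c, by rw [e2, comb_smul]⟩
    choose m hm using hcol
    set M : Matrix (Fin 3) (Fin 3) F := Matrix.of fun i j => m j i with hM
    have hact : ∀ c, act A (comb e c) = comb e (M *ᵥ c) := fun c => by
      rw [comb_three, OrthUnitaryTransvection.act_add, OrthUnitaryTransvection.act_add,
        OrthUnitaryTransvection.act_smul, OrthUnitaryTransvection.act_smul,
        OrthUnitaryTransvection.act_smul, hm, hm, hm]
      simp only [comb, Matrix.mulVec, dotProduct, hM, Matrix.of_apply, Fin.sum_univ_three]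
      module
    refine ⟨M, fun c hc => ⟨fun h0 => ?_, ?_⟩⟩
    · have := hact c
      rw [h0, comb_zero] at this
      exact OrthUnitaryPSU.act_smul_right_inj A (comb_ne X hfr hc) this
    · rw [← hact]
      exact L_conj X (k := ⟨g, hg⟩) hA.symm (hfr.h_ee _ _) (comb_ne X hfr hc)
  -- a matrix fixing all points is scalar
  have hscal : ∀ M : Matrix (Fin 3) (Fin 3) F, (∀ c : Fin 3 → F, c ≠ 0 → ∃ k : F, k ≠ 0 ∧ M *ᵥ c = k • c) →
      ∃ k : F, k ≠ 0 ∧ M = k • (1 : Matrix (Fin 3) (Fin 3) F) := by
    intro M hM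
    obtain ⟨k, hk, ek⟩ := hM (fun _ => 1) (fun h0 => one_ne_zero (congrFun h0 0))
    refine ⟨k, hk, Matrix.ext_of_mulVec_single fun i => ?_⟩
    choose l hl el using fun j => hM (Pi.single j 1) (by simp)
    have hsum : ∑ j, (Pi.single j (1 : F) : Fin 3 → F) = fun _ => 1 := by
      funext r; simp [Finset.sum_apply]
    rw [← hsum, Matrix.mulVec_sum, Finset.smul_sum] at ek
    simp only [el] at ek
    have hlk : l i = k := by
      have := congrFun ek i
      simpa [Finset.sum_apply, Pi.single_apply] using this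
    rw [el, hlk, Matrix.smul_mulVec, Matrix.one_mulVec]
  have hfixed : ∀ {g : G} {M : Matrix (Fin 3) (Fin 3) F},
      (∀ c : Fin 3 → F, c ≠ 0 → M *ᵥ c ≠ 0 ∧ g * L (comb e c) * g⁻¹ = L (comb e (M *ᵥ c))) →
      ∀ c : Fin 3 → F, c ≠ 0 → (g * L (comb e c) * g⁻¹ = L (comb e c) ↔ ∃ k : F, k ≠ 0 ∧ M *ᵥ c = k • c) := by
    intro g M hM c hc
    obtain ⟨h1, h2⟩ := hM c hc
    rw [h2]
    constructor
    · intro h3
      obtain ⟨k, hk, e1⟩ := L_inj X (hfr.h_ee _ _) (comb_ne X hfr h1) (hfr.h_ee _ _) (comb_ne X hfr hc) h3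
      rw [← comb_smul] at e1
      exact ⟨k, hk, hfr.comb_inj e1⟩
    · rintro ⟨k, hk, e1⟩
      rw [e1, comb_smul, L_smul X (hfr.h_ee _ _) (comb_ne X hfr hc) hk]
  -- the normalised matrix of an element squaring to a trivial action
  have hnorm : ∀ g ∈ loc D d, (∀ y ∈ B, g * y * g⁻¹ ∈ B) → (∀ y ∈ B, g * (g * y * g⁻¹) * g⁻¹ = y) →
      ∃ M : Matrix (Fin 3) (Fin 3) F, M * M = 1 ∧
        ∀ c : Fin 3 → F, c ≠ 0 → M *ᵥ c ≠ 0 ∧ g * L (comb e c) * g⁻¹ = L (comb e (M *ᵥ c)) := by
    intro g hg hst h2
    obtain ⟨M, hM⟩ := hlin g hg hst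
    obtain ⟨k, hk, ek⟩ := hscal (M * M) fun c hc => by
      obtain ⟨h1, e1⟩ := hM c hc
      obtain ⟨h3, e3⟩ := hM _ h1
      have := h2 _ (hmem c hc)
      rw [e1, e3] at this
      obtain ⟨k, hk, e4⟩ := L_inj X (hfr.h_ee _ _) (comb_ne X hfr h3) (hfr.h_ee _ _) (comb_ne X hfr hc) this
      rw [← comb_smul, ] at e4
      exact ⟨k, hk, by rw [← Matrix.mulVec_mulVec]; exact hfr.comb_inj e4⟩
    refine ⟨k • M, ?_, fun c hc => ?_⟩
    · rw [Matrix.smul_mul, Matrix.mul_smul, ek, smul_smul, smul_smul, ← pow_two, ← pow_succ, cube hk,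
        one_smul]
    · obtain ⟨h1, e1⟩ := hM c hc
      rw [Matrix.smul_mulVec]
      refine ⟨smul_ne_zero hk h1, ?_⟩
      rw [comb_smul, L_smul X (hfr.h_ee _ _) (comb_ne X hfr h1) hk, e1]
  refine ⟨?_, ?_, ?_⟩
  · -- the pointwise centralizer
    intro x hx hc
    obtain ⟨A, hA⟩ := QuotientGroup.mk'_surjective (Subgroup.center (Cfsg.SU 6 F 2)) (φ ⟨x, hx⟩)
    have heig : ∀ c : Fin 3 → F, c ≠ 0 → ∃ k : F, k ≠ 0 ∧ act A (comb e c) = k • comb e c := by
      intro c hc'
      refine L_inj X ((OrthUnitaryTransvection.herm_act A _ _).trans (hfr.h_ee _ _))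
        (OrthUnitaryPSU.act_smul_right_inj A (comb_ne X hfr hc')) (hfr.h_ee _ _) (comb_ne X hfr hc') ?_
      rw [← L_conj X (k := ⟨x, hx⟩) hA.symm (hfr.h_ee _ _) (comb_ne X hfr hc')]
      exact mul_inv_eq_iff_eq_mul.mpr (hc _ (hmem c hc')).eq
    have hfix : ∀ i, act (A ^ 3) (e i) = e i := fun i => by
      obtain ⟨k, hk, e1⟩ := heig (Pi.single i 1) (by simp)
      rw [comb_single] at e1
      rw [pow_succ, pow_two, OrthUnitaryTransvection.act_mul, OrthUnitaryTransvection.act_mul, e1,
        OrthUnitaryTransvection.act_smul, e1, OrthUnitaryTransvection.act_smul,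
        OrthUnitaryTransvection.act_smul, e1, smul_smul, smul_smul, mul_assoc, ← pow_two, ← pow_succ',
        cube hk, one_smul]
    set A' := A ^ 3 with hA'
    have hsq : A' * A' = 1 := by
      refine OrthUnitaryTransvection.su_ext fun v => ?_
      have hperp : ∀ i, h (act A' v + v) (e i) = 0 := fun i => by
        have e1 : h (act A' v) (e i) = h v (e i) := by
          conv_lhs => rw [← hfix i]
          exact OrthUnitaryTransvection.herm_act A' _ _
        rw [h_add_left, e1, add_self]
      have hplane := hfr.mem_plane hperp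
      have hfix' : act A' (act A' v + v) = act A' v + v := by
        conv_lhs => rw [hplane]
        conv_rhs => rw [hplane]
        rw [comb_three, OrthUnitaryTransvection.act_add, OrthUnitaryTransvection.act_add,
          OrthUnitaryTransvection.act_smul, OrthUnitaryTransvection.act_smul,
          OrthUnitaryTransvection.act_smul, hfix, hfix, hfix]
      rw [OrthUnitaryTransvection.act_add] at hfix'
      rw [OrthUnitaryTransvection.act_mul, OrthUnitaryTransvection.act_one]
      have h1 := congrArg (· + act A' v) hfix'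
      rw [add_assoc, vec_add_self, add_zero, add_comm (act A' v + v), ← add_assoc, vec_add_self,
        zero_add] at h1
      exact h1
    obtain ⟨k, u, xs, hu, -, hdual, hprod, hu'⟩ := decompose hsq
    have hu0 : ∀ i, u i ≠ 0 := fun i h0 => by
      have := hdual i i
      rw [h0, h_zero_right, if_pos rfl] at this
      exact zero_ne_one this
    have hin : ∀ i, L (u i) ∈ B := fun i => by
      have hperp : ∀ j, h (u i) (e j) = 0 := fun j => by
        have e1 : h (act A' (xs i)) (e j) = h (xs i) (e j) := by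
          conv_lhs => rw [← hfix j]
          exact OrthUnitaryTransvection.herm_act A' _ _
        rw [hu' i, h_add_left, e1, add_self]
      have hplane := hfr.mem_plane hperp
      rw [hplane]
      exact hmem _ fun h0 => hu0 i (by rw [hplane, h0, comb_zero])
    set us : List {u : Fin 6 → F // h u u = 0} := List.ofFn fun i => ⟨u i, hu i⟩ with hus
    obtain ⟨hm, em⟩ := L_prod_two X (u := us) (fun p hp => by
      obtain ⟨i, rfl⟩ := List.mem_ofFn.mp hp; exact hu0 i)
      (show (us.map fun p => T p.1 p.2).prod = A' by rw [hus, List.map_ofFn]; exact hprod)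
    have hPB : (us.map fun p => L p.1).prod ∈ closure B := by
      refine list_prod_mem fun z hz => ?_
      obtain ⟨p, hp, rfl⟩ := List.mem_map.mp hz
      obtain ⟨i, rfl⟩ := List.mem_ofFn.mp hp
      exact subset_closure (hin i)
    have h1 : φ (⟨x, hx⟩ ^ 3 * (⟨_, hm⟩ : ↥(loc D d))⁻¹) = 1 := by
      rw [map_mul, map_inv, map_pow, em, hA', map_pow, hA, mul_inv_cancel]
    rcases X.ker h1 with h1 | h1 <;>
      simp only [Subgroup.coe_mul, Subgroup.coe_inv, SubmonoidClass.coe_pow] at h1
    · rw [mul_inv_eq_one.mp h1]; exact hPB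
    · rw [mul_inv_eq_iff_eq_mul.mp h1]; exact mul_mem (subset_closure hdB) hPB
  · -- at most sixteen permutations
    intro A hA hst h2 hcomm ρ hρ
    have hex : ∀ p : ρ.range, ∃ M : Matrix (Fin 3) (Fin 3) F, M * M = 1 ∧
        ∀ c : Fin 3 → F, (hc : c ≠ 0) → M *ᵥ c ≠ 0 ∧
          ((p : Equiv.Perm B) ⟨_, hmem c hc⟩ : G) = L (comb e (M *ᵥ c)) := by
      rintro ⟨p, a, rfl⟩
      obtain ⟨M, hM1, hM⟩ := hnorm a (hA a.2) (hst a a.2) (h2 a a.2)
      exact ⟨M, hM1, fun c hc => ⟨(hM c hc).1, by rw [hρ]; exact (hM c hc).2⟩⟩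
    choose M hM1 hM using hex
    -- two matrices with the same action are equal
    have huniq : ∀ M₁ M₂ : Matrix (Fin 3) (Fin 3) F, M₁ * M₁ = 1 → M₂ * M₂ = 1 →
        (∀ c : Fin 3 → F, c ≠ 0 → M₁ *ᵥ c ≠ 0 ∧ M₂ *ᵥ c ≠ 0 ∧
          L (comb e (M₁ *ᵥ c)) = L (comb e (M₂ *ᵥ c))) → ∃ k : F, k ≠ 0 ∧ M₁ = k • M₂ ∧ k = 1 := by
      intro M₁ M₂ h1 h2 h12
      obtain ⟨k, hk, ek⟩ := hscal (M₂ * M₁) fun c hc => by
        obtain ⟨n1, n2, e1⟩ := h12 c hc
        obtain ⟨k, hk, e2⟩ := L_inj X (hfr.h_ee _ _) (comb_ne X hfr n1) (hfr.h_ee _ _) (comb_ne X hfr n2) e1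
        rw [← comb_smul] at e2
        refine ⟨k, hk, ?_⟩
        rw [← Matrix.mulVec_mulVec, hfr.comb_inj e2, Matrix.mulVec_smul, Matrix.mulVec_mulVec, h2,
          Matrix.one_mulVec]
      have e3 : M₁ = k • M₂ := by
        have := congrArg (M₂ * ·) ek
        simp only [← Matrix.mul_assoc, h2, Matrix.one_mul, Matrix.mul_smul, Matrix.mul_one] at this
        exact this
      refine ⟨k, hk, e3, ?_⟩
      rw [e3, Matrix.smul_mul, Matrix.mul_smul, smul_smul, h2] at h1
      have := congrFun (congrFun h1 0) 0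
      simp at this
      exact (mul_left_inj' hk).mp (by rw [one_mul]; calc k * k = 1 := this
        _ = k ^ 3 := (cube hk).symm
        _ = k := by rw [pow_succ, pow_two, this, one_mul])
    have heq : ∀ M₁ M₂ : Matrix (Fin 3) (Fin 3) F, M₁ * M₁ = 1 → M₂ * M₂ = 1 →
        (∀ c : Fin 3 → F, c ≠ 0 → M₁ *ᵥ c ≠ 0 ∧ M₂ *ᵥ c ≠ 0 ∧
          L (comb e (M₁ *ᵥ c)) = L (comb e (M₂ *ᵥ c))) → M₁ = M₂ := fun M₁ M₂ h1 h2 h12 => by
      obtain ⟨k, -, e1, rfl⟩ := huniq M₁ M₂ h1 h2 h12
      rw [e1, one_smul]
    have hcomp : ∀ p q : ρ.range, ∀ c : Fin 3 → F, (hc : c ≠ 0) →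
        (((p * q : ρ.range) : Equiv.Perm B) ⟨_, hmem c hc⟩ : G) = L (comb e ((M p * M q) *ᵥ c)) := by
      intro p q c hc
      obtain ⟨h1, e1⟩ := hM q c hc
      obtain ⟨h3, e3⟩ := hM p _ h1
      rw [Subgroup.coe_mul, Equiv.Perm.mul_apply, ← Matrix.mulVec_mulVec, ← e3]
      exact congrArg (fun y => ((p : Equiv.Perm B) y : G)) (Subtype.ext e1)
    have hpq : ∀ p q : ρ.range, p * q = q * p := by
      rintro ⟨_, a, rfl⟩ ⟨_, b, rfl⟩
      refine Subtype.ext ?_
      show ρ a * ρ b = ρ b * ρ a
      rw [← map_mul, ← map_mul, show a * b = b * a from Subtype.ext (hcomm a a.2 b b.2).eq]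
    have hMc : ∀ p q : ρ.range, M p * M q = M q * M p := by
      intro p q
      obtain ⟨k, hk, ek⟩ := hscal (M q * M p * (M q * M p)) fun c hc => by
        have hn : ∀ r : ρ.range, ∀ c : Fin 3 → F, c ≠ 0 → M r *ᵥ c ≠ 0 := fun r c hc => (hM r c hc).1
        have n1 := hn p c hc
        have n2 := hn q _ n1
        have n3 := hn p _ n2
        have n4 := hn q _ n3
        rw [Matrix.mulVec_mulVec] at n2
        have k1 := hcomp q p c hc
        have k2 := hcomp q p _ n2
        have h3 : ((q * p : ρ.range) : Equiv.Perm B)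
            (((q * p : ρ.range) : Equiv.Perm B) ⟨_, hmem c hc⟩) = ⟨_, hmem c hc⟩ := by
          obtain ⟨r, hr⟩ := (q * p).2
          rw [← hr]
          refine Subtype.ext ?_
          rw [hρ, hρ]
          exact h2 r r.2 _ (hmem c hc)
        rw [show (((q * p : ρ.range) : Equiv.Perm B) ⟨_, hmem c hc⟩) = ⟨_, hmem _ n2⟩ from Subtype.ext k1] at h3
        have h4 := congrArg Subtype.val h3
        rw [k2, Matrix.mulVec_mulVec] at h4
        have n5 : (M q * M p * (M q * M p)) *ᵥ c ≠ 0 := by
          simpa only [Matrix.mulVec_mulVec, Matrix.mul_assoc] using n4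
        obtain ⟨k, hk, e2⟩ := L_inj X (hfr.h_ee _ _) (comb_ne X hfr n5) (hfr.h_ee _ _) (comb_ne X hfr hc) h4
        rw [← comb_smul] at e2
        exact ⟨k, hk, hfr.comb_inj e2⟩
      have h1 : M p * M q = k⁻¹ • (M q * M p) := by
        have e1 : (M p * M q) * (M q * M p) = 1 := by
          rw [Matrix.mul_assoc, ← Matrix.mul_assoc (M q), hM1, Matrix.one_mul, hM1]
        have := congrArg ((M p * M q) * ·) ek
        rw [← Matrix.mul_assoc, e1, Matrix.one_mul, Matrix.mul_smul, Matrix.mul_one] at this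
        rw [this, smul_smul, inv_mul_cancel₀ hk, one_smul]
      have h3 : M q = k⁻¹ • (M p * M q * M p) := by
        have := congrArg (M p * ·) h1
        simp only [← Matrix.mul_assoc, hM1, Matrix.one_mul, Matrix.mul_smul] at this
        exact this
      have h4 : M p * M q * M p = k⁻¹ • M q := by
        rw [h1, Matrix.smul_mul, Matrix.mul_assoc, hM1, Matrix.mul_one]
      rw [h4, smul_smul] at h3
      have h5 : k⁻¹ * k⁻¹ = 1 := by
        by_contra hne
        have h0 : ((1 : F) - k⁻¹ * k⁻¹) • M q = 0 := by rw [sub_smul, one_smul, ← h3, sub_self]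
        rcases smul_eq_zero.mp h0 with h6 | h6
        · exact hne (sub_eq_zero.mp h6).symm
        · have := hM1 q; rw [h6, Matrix.zero_mul] at this; exact zero_ne_one this
      have h7 : k⁻¹ = 1 := by
        have h8 := cube (inv_ne_zero hk)
        rwa [pow_succ, pow_two, h5, one_mul] at h8
      rw [h1, h7, one_smul]
    have hmul : ∀ p q : ρ.range, M (p * q) = M p * M q := fun p q =>
      heq _ _ (hM1 _) (by rw [Matrix.mul_assoc, ← Matrix.mul_assoc (M q), ← hMc p q,
        Matrix.mul_assoc (M p) (M q), hM1, Matrix.mul_one, hM1]) fun c hc => by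
        refine ⟨(hM _ c hc).1, ?_, (hM _ c hc).2.symm.trans (hcomp p q c hc)⟩
        rw [← Matrix.mulVec_mulVec]
        exact (hM p _ (hM q c hc).1).1
    have hadd : ∀ x : Matrix (Fin 3) (Fin 3) F, x + x = 0 := fun x => by ext; exact add_self _
    refine card_le_sixteen (fun p => M p + 1) (fun p q hpq' => ?_) (fun p => ?_) (fun p q => ?_)
      fun p q => ?_
    · have hMeq : M p = M q := add_right_cancel hpq'
      refine Subtype.ext (Equiv.ext fun y => Subtype.ext ?_)
      by_cases hyd : (y : G) = d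
      · obtain ⟨a, ha⟩ := p.2
        obtain ⟨b, hb⟩ := q.2
        rw [← ha, ← hb, hρ, hρ, hyd, hmd (hA a.2), hmd (hA b.2)]
      · obtain ⟨c, hc, e1⟩ := hsur y y.2 hyd
        rw [show y = ⟨_, hmem c hc⟩ from Subtype.ext e1, (hM p c hc).2, (hM q c hc).2, hMeq]
    · calc (M p + 1) * (M p + 1) = M p * M p + 1 + (M p + M p) := by noncomm_ring
        _ = 0 := by rw [hM1, hadd, hadd, add_zero]
    · calc M (p * q) + 1 = M p * M q + 1 + ((M p + M p) + (M q + M q) + (1 + 1)) := by
            simp [hmul, hadd]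
        _ = M p + 1 + (M q + 1) + (M p + 1) * (M q + 1) := by noncomm_ring
    · simp only [Matrix.add_mul, Matrix.mul_add, Matrix.one_mul, Matrix.mul_one, hMc p q]
      abel
  · -- at least sixteen moved members
    intro t ht hst h2 hmv
    obtain ⟨M, hM1, hM⟩ := hnorm t ht hst h2
    set W := LinearMap.ker (M + 1).mulVecLin with hW
    have hWiff : ∀ c : Fin 3 → F, c ∈ W ↔ M *ᵥ c = c := fun c => by
      rw [hW, LinearMap.mem_ker, Matrix.mulVecLin_apply, Matrix.add_mulVec, Matrix.one_mulVec]
      exact ⟨fun h => funext fun i => eq_of_add_eq_zero (congrFun h i), fun h => by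
        rw [h]; funext i; exact add_self _⟩
    have hWtop : W ≠ ⊤ := by
      intro htop
      obtain ⟨y, hy, hne⟩ := hmv
      apply hne
      by_cases hyd : y = d
      · rw [hyd, hmd ht]
      · obtain ⟨c, hc, rfl⟩ := hsur y hy hyd
        rw [(hM c hc).2, (hWiff c).mp (htop ▸ Submodule.mem_top)]
    set S : Set G := {y | y ∈ B ∧ t * y * t⁻¹ = y ∧ y ≠ d} with hS
    have hS5 : S.ncard ≤ 5 := by
      have hco : ∀ y : S, ∃ c : W, (c : Fin 3 → F) ≠ 0 ∧ (y : G) = L (comb e c) := by
        rintro ⟨y, hyB, hyf, hyd⟩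
        obtain ⟨c, hc, rfl⟩ := hsur y hyB hyd
        obtain ⟨k, hk, ek⟩ := (hfixed hM c hc).mp hyf
        refine ⟨⟨c, (hWiff c).mpr ?_⟩, hc, rfl⟩
        have h3 : M *ᵥ (M *ᵥ c) = c := by rw [Matrix.mulVec_mulVec, hM1, Matrix.one_mulVec]
        rw [ek, Matrix.mulVec_smul, ek, smul_smul] at h3
        have h4 : k * k = 1 := by
          by_contra hne
          have : (k * k - 1) • c = 0 := by rw [sub_smul, one_smul, h3, sub_self]
          exact hne (sub_eq_zero.mp ((smul_eq_zero.mp this).resolve_right hc))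
        have h5 : k = 1 := by
          have h6 := cube hk
          rwa [pow_succ, pow_two, h4, one_mul] at h6
        rw [ek, h5, one_smul]
      choose co hco0 hco using hco
      let Φ : S × Fˣ → {c : W // c ≠ 0} := fun p => ⟨(p.2 : F) • co p.1, by
        refine fun h0 => smul_ne_zero p.2.ne_zero (hco0 p.1) ?_
        simpa using congrArg Subtype.val h0⟩
      have hΦ : Function.Injective Φ := fun p q hpq => by
        have h1 : (p.2 : F) • (co p.1 : Fin 3 → F) = (q.2 : F) • (co q.1 : Fin 3 → F) :=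
          congrArg (fun z : {c : W // c ≠ 0} => ((z : W) : Fin 3 → F)) hpq
        have h2 : p.1 = q.1 := Subtype.ext (by
          rw [hco p.1, hco q.1,
            ← L_smul X (hfr.h_ee _ _) (comb_ne X hfr (hco0 p.1)) p.2.ne_zero, ← comb_smul, h1,
            comb_smul, L_smul X (hfr.h_ee _ _) (comb_ne X hfr (hco0 q.1)) q.2.ne_zero])
        refine Prod.ext h2 (Units.ext ?_)
        rw [h2] at h1
        exact smul_left_injective F (hco0 q.1) h1
      have h1 := Nat.card_le_card_of_injective Φ hΦ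
      have h2 : Nat.card {c : W // c ≠ 0} < Nat.card W := by
        rw [Nat.card_eq_fintype_card, Nat.card_eq_fintype_card]
        exact Fintype.card_subtype_lt (x := (0 : W)) (by simp)
      have h3 := card_proper hWtop
      rw [Nat.card_prod, Nat.card_eq_fintype_card (α := Fˣ), Fintype.card_units, hF.card_eq,
        Nat.card_coe_set_eq] at h1
      omega
    haveI : Fintype B := Fintype.ofFinite _
    have h22 := (plane_action X hB hdB).1
    rw [← Nat.card_eq_fintype_card, Nat.card_coe_set_eq] at h22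
    have hsub : B ⊆ {y | y ∈ B ∧ t * y * t⁻¹ ≠ y} ∪ insert d S := fun y hy => by
      by_cases h1 : t * y * t⁻¹ = y
      · by_cases h3 : y = d
        · exact Or.inr (Or.inl h3)
        · exact Or.inr (Or.inr ⟨hy, h1, h3⟩)
      · exact Or.inl ⟨hy, h1⟩
    have := (Set.ncard_le_ncard hsub).trans (Set.ncard_union_le _ _)
    have := Set.ncard_insert_le d S
    omega

end local_data

section thompson

/-- Half: a proper subgroup has at most half the order. -/
theorem card_half {H K : Subgroup G} (h : H < K) : 2 * Nat.card H ≤ Nat.card K := by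
  obtain ⟨c, hc⟩ := Subgroup.card_dvd_of_le h.le
  have hpos : 0 < Nat.card H := Nat.card_pos
  have hne : c ≠ 1 := fun hc1 => h.ne (Subgroup.eq_of_le_of_card_ge h.le (by rw [hc, hc1, mul_one]))
  have hK : 0 < Nat.card K := Nat.card_pos
  rcases c with _ | _ | c
  · rw [hc, mul_zero] at hK; omega
  · exact absurd rfl hne
  · rw [hc]; nlinarith

/-- Type M(22): a Sylow 2-subgroup normalises a maximal commuting set, and the group generated by this set
is the largest elementary abelian subgroup of the Sylow subgroup. -/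
theorem exists_block (hD : Cfsg.IsThreeTranspositionGroup D)
    (hprim : Cfsg.IsPrimitiveUnderConj D) (h22 : Cfsg.IsOfTypeM22 G D) (T : Sylow 2 G) :
    ∃ B : Set G, Blk D B ∧ (∀ t ∈ (T : Subgroup G), ∀ y ∈ B, t * y * t⁻¹ ∈ B) ∧
      closure B ≤ (T : Subgroup G) ∧ {x : G | x ∈ D ∧ x ∈ (T : Subgroup G)} = B ∧
      (∀ x ∈ closure B, ∀ y ∈ closure B, Commute x y) ∧ (∀ x ∈ closure B, x ^ 2 = 1) ∧
      ∀ A : Subgroup G, A ≤ (T : Subgroup G) → (∀ a ∈ A, a ^ 2 = 1) →
        (∀ a ∈ A, ∀ b ∈ A, Commute a b) → ¬ A ≤ closure B → Nat.card A < Nat.card ↥(closure B) := by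
  classical
  have ht := tsys_of_group hD
  obtain ⟨F, _, _, _, hctx⟩ := exists_ctx hD hprim h22
  haveI : Fact (Nat.Prime 2) := ⟨Nat.prime_two⟩
  -- a maximal set normalised by the Sylow subgroup
  letI : MulAction T {B : Set G // Blk D B} :=
    { smul := fun g B => ⟨MulAut.conj (g : G) '' B.1, B.2.conj ht g⟩
      one_smul := fun B => Subtype.ext (show MulAut.conj ((1 : T) : G) '' B.1 = B.1 by simp)
      mul_smul := fun g k B => Subtype.ext (show MulAut.conj ((g * k : T) : G) '' B.1 =
        MulAut.conj (g : G) '' (MulAut.conj (k : G) '' B.1) by rw [Set.image_image]; simp [mul_assoc]) }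
  obtain ⟨⟨B, hB⟩, hfixB⟩ : ∃ B : {B : Set G // Blk D B}, MulAction.orbit T B = {B} := by
    by_contra hno
    push Not at hno
    have h1 : 2 ∣ (Set.univ : Set {B : Set G // Blk D B}).ncard := by
      refine dvd_of_partition 2 (fun B => MulAction.orbit T B) fun B _ =>
        ⟨MulAction.mem_orbit_self B, Set.subset_univ _, ?_, fun C hC => MulAction.orbit_eq_iff.mpr hC⟩
      obtain ⟨n, hn⟩ := T.isPGroup'.card_orbit B
      rw [Nat.card_coe_set_eq] at hn
      rcases n with _ | n
      · obtain ⟨C, hC⟩ := Set.ncard_eq_one.mp (hn.trans (pow_zero 2))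
        have hBC : B = C := Set.mem_singleton_iff.mp (hC ▸ MulAction.mem_orbit_self B)
        exact absurd (hBC ▸ hC) (hno B)
      · rw [hn, pow_succ]; exact dvd_mul_left 2 _
    have h2 := odd_blocks ht (T := ∅) (Set.empty_subset D) (by simp)
    rw [Set.ncard_univ] at h1
    simp only [Set.empty_subset, and_true] at h2
    rw [← Nat.card_coe_set_eq] at h2
    change 2 ∣ Nat.card {B : Set G | Blk D B} at h1
    omega
  have hstab : ∀ t ∈ (T : Subgroup G), ∀ y ∈ B, t * y * t⁻¹ ∈ B := by
    intro t htT y hy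
    have h1 : (⟨t, htT⟩ : T) • (⟨B, hB⟩ : {B : Set G // Blk D B}) = ⟨B, hB⟩ :=
      Set.mem_singleton_iff.mp (hfixB ▸ MulAction.mem_orbit _ _)
    have h2 : MulAut.conj t '' B = B := congrArg Subtype.val h1
    exact h2 ▸ ⟨y, hy, rfl⟩
  -- the subgroup generated by the set
  set E := closure B with hE
  have hEcomm : ∀ x ∈ E, ∀ y ∈ E, Commute x y := by
    intro x hx y hy
    have h1 : E ≤ Subgroup.centralizer (B : Set G) := (closure_le _).mpr fun z hz =>
      mem_centralizer_iff.mpr fun w hw => (hB.comm w hw z hz).eq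
    have h2 : E ≤ Subgroup.centralizer ({y} : Set G) := (closure_le _).mpr fun z hz =>
      mem_centralizer_singleton_iff.mpr (mem_centralizer_iff.mp (h1 hy) z hz)
    exact mem_centralizer_singleton_iff.mp (h2 hx)
  have hE2 : ∀ x ∈ E, x ^ 2 = 1 := by
    intro x hx
    induction hx using Subgroup.closure_induction with
    | mem z hz => rw [pow_two]; exact ht.sq z (hB.sub hz)
    | one => exact one_pow 2
    | mul p q hp hq ihp ihq => rw [(hEcomm p hp q hq).mul_pow, ihp, ihq, one_mul]
    | inv p hp ihp => rw [inv_pow, ihp, inv_one]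
  have hnorm : ∀ t ∈ (T : Subgroup G), ∀ x ∈ E, t * x * t⁻¹ ∈ E := by
    intro t htT x hx
    induction hx using Subgroup.closure_induction with
    | mem z hz => exact subset_closure (hstab t htT z hz)
    | one => simp
    | mul p q _ _ hp hq =>
      rw [show t * (p * q) * t⁻¹ = (t * p * t⁻¹) * (t * q * t⁻¹) by group]; exact mul_mem hp hq
    | inv p _ hp => rw [show t * p⁻¹ * t⁻¹ = (t * p * t⁻¹)⁻¹ by group]; exact inv_mem hp
  have hEp : IsPGroup 2 E := fun x => ⟨1, Subtype.ext (by simpa using hE2 x x.2)⟩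
  have hET : E ≤ (T : Subgroup G) := by
    have hn : (T : Subgroup G) ≤ Subgroup.normalizer (E : Set G) := fun t htT => by
      rw [Subgroup.mem_normalizer_iff]
      refine fun x => ⟨fun hx => hnorm t htT x hx, fun hx => ?_⟩
      have := hnorm t⁻¹ (inv_mem htT) _ hx
      simpa [mul_assoc] using this
    have := T.is_maximal' (T.isPGroup'.to_sup_of_normal_right' hEp hn) le_sup_left
    exact this ▸ le_sup_right
  have hBD : {x : G | x ∈ D ∧ x ∈ (T : Subgroup G)} = B := by
    refine Set.Subset.antisymm (fun y hy => hB.mem_of_stable ht hy.1 (hstab y hy.2)) fun y hy =>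
      ⟨hB.sub hy, hET (subset_closure hy)⟩
  refine ⟨B, hB, hstab, hET, hBD, hEcomm, hE2, ?_⟩
  -- the centralizer of the set in involutions
  obtain ⟨b₀, hb₀⟩ : B.Nonempty := by
    by_contra hne
    obtain ⟨a, ha, -⟩ := hprim.2.1
    exact hne ⟨a, hB.max a ha fun x hx => absurd ⟨x, hx⟩ hne⟩
  have hloc : ∀ {x : G} {b : G}, b ∈ B → x * b * x⁻¹ = b → x ∈ loc D b := fun {x b} hb hx => by
    rw [← ThreeTransM22Outer72.centralizer_eq_loc hD hprim h22 b (hB.sub hb)]
    exact mem_centralizer_singleton_iff.mpr (mul_inv_eq_iff_eq_mul.mp hx)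
  have hCB : ∀ x : G, x ^ 2 = 1 → (∀ y ∈ B, Commute x y) → x ∈ E := by
    intro x hx2 hc
    obtain ⟨φ, X⟩ := hctx b₀ (hB.sub hb₀)
    have h3 := (local_facts X hB hb₀).1 x (hloc hb₀ (mul_inv_eq_iff_eq_mul.mpr (hc b₀ hb₀).eq)) hc
    rwa [pow_succ, hx2, one_mul] at h3
  -- the main inequality
  have key : ∀ A : Subgroup G, A ≤ (T : Subgroup G) → (∀ a ∈ A, a ^ 2 = 1) →
      (∀ a ∈ A, ∀ b ∈ A, Commute a b) → ¬ A ≤ E → Nat.card A < Nat.card E := by
    intro A hAT hA2 hAc hAE
    set CE : G → Subgroup G := fun t => E ⊓ Subgroup.centralizer ({t} : Set G) with hCE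
    have hinvol : ∀ a ∈ A, ∀ y : G, a * (a * y * a⁻¹) * a⁻¹ = y := fun a ha y => by
      have e : a * a = 1 := by rw [← pow_two]; exact hA2 a ha
      rw [inv_eq_of_mul_eq_one_right e, show a * (a * y * a) * a = (a * a) * y * (a * a) by group, e,
        one_mul, mul_one]
    -- index of the centralizer of one element
    have hindex : ∀ (t : G), t ∈ A → ∀ (P : Set G), P ⊆ B → (∀ y ∈ P, t * y * t⁻¹ ≠ y) →
        16 ≤ P.ncard → 16 * Nat.card (CE t) ≤ Nat.card E := by
      intro t htA P hPB hP h16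
      have htE : ∀ x ∈ E, t * x * t⁻¹ * x ∈ E := fun x hx => mul_mem (hnorm t (hAT htA) x hx) hx
      let ξ : E →* E :=
        { toFun := fun x => ⟨t * x * t⁻¹ * x, htE x x.2⟩
          map_one' := Subtype.ext (by simp)
          map_mul' := fun x y => Subtype.ext (by
            simp only [Subgroup.coe_mul]
            rw [show t * ((x : G) * y) * t⁻¹ * (x * y) =
              (t * x * t⁻¹) * ((t * y * t⁻¹) * x) * y by group,
              (hEcomm _ (hnorm t (hAT htA) y y.2) x x.2).eq]
            group) }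
      have hker : ξ.ker = (CE t).subgroupOf E := by
        ext x
        rw [MonoidHom.mem_ker, mem_subgroupOf, hCE, mem_inf, mem_centralizer_singleton_iff]
        simp only [SetLike.coe_mem, true_and]
        have hx : (x : G) * x = 1 := by rw [← pow_two]; exact hE2 x x.2
        constructor
        · intro h1
          have h2 : t * (x : G) * t⁻¹ = (x : G)⁻¹ := eq_inv_of_mul_eq_one_left (congrArg Subtype.val h1)
          rw [inv_eq_of_mul_eq_one_right hx] at h2
          exact (mul_inv_eq_iff_eq_mul.mp h2).symm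
        · intro h1
          refine Subtype.ext ?_
          show t * (x : G) * t⁻¹ * x = 1
          rw [mul_inv_eq_iff_eq_mul.mpr h1.symm, hx]
      have hcard : Nat.card E = Nat.card (CE t) * Nat.card ξ.range := by
        rw [← Subgroup.card_mul_index ξ.ker, Subgroup.index_ker, hker]
        congr 1
        exact Nat.card_congr (Subgroup.subgroupOfEquivOfLe (by rw [hCE]; exact inf_le_left)).toEquiv
      -- the products of moved pairs
      let pr : G → G := fun y => t * y * t⁻¹ * y
      have hpair : ∀ y ∈ P, CList D [t * y * t⁻¹, y] := fun y hy => by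
        refine ⟨?_, by simp [hP y hy], ?_⟩
        · intro z hz; simp at hz; rcases hz with rfl | rfl
          exacts [ht.conj t y (hB.sub (hPB hy)), hB.sub (hPB hy)]
        · have := hB.comm _ (hstab t (hAT htA) y (hPB hy)) y (hPB hy)
          intro a ha b hb; simp at ha hb
          rcases ha with rfl | rfl <;> rcases hb with rfl | rfl <;>
            first | exact Commute.refl _ | exact this | exact this.symm
      have h8 : P.ncard ≤ 2 * (pr '' P).ncard := by
        have hPe : P.ncard = P.toFinite.toFinset.card := Set.ncard_eq_toFinset_card P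
        have hIe : (pr '' P).ncard = (P.toFinite.toFinset.image pr).card := by
          rw [← Set.ncard_coe_finset, Finset.coe_image, Set.Finite.coe_toFinset]
        rw [hPe, hIe]
        refine Finset.card_le_mul_card_image _ 2 fun v hv => ?_
        obtain ⟨y, hy, rfl⟩ := Finset.mem_image.mp hv
        rw [Set.Finite.mem_toFinset] at hy
        refine (Finset.card_le_card (t := {t * y * t⁻¹, y}) fun z hz => ?_).trans Finset.card_le_two
        obtain ⟨hz1, hz2⟩ := Finset.mem_filter.mp hz
        rw [Set.Finite.mem_toFinset] at hz1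
        have := (ThreeTransPairs.pair_unique ht hprim (hpair z hz1) rfl (hpair y hy) rfl
          (by simpa [pr] using hz2) z).mp (by simp)
        simpa using this
      have h1notin : (1 : G) ∉ pr '' P := by
        rintro ⟨y, hy, e1⟩
        have : t * y * t⁻¹ = y := by
          rw [eq_inv_of_mul_eq_one_left e1, ht.inv_self (hB.sub (hPB hy))]
        exact hP y hy this
      have hsub : insert (1 : G) (pr '' P) ⊆ Subtype.val '' (ξ.range : Set E) := by
        rintro z (rfl | ⟨y, hy, rfl⟩)
        · exact ⟨1, one_mem _, rfl⟩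
        · exact ⟨ξ ⟨y, subset_closure (hPB hy)⟩, ⟨_, rfl⟩, rfl⟩
      have h9 : 9 ≤ Nat.card ξ.range := by
        have h2 := Set.ncard_le_ncard hsub
        rw [Set.ncard_insert_of_notMem h1notin, Set.ncard_image_of_injective _ Subtype.val_injective]
          at h2
        have h3 : (ξ.range : Set E).ncard = Nat.card ξ.range := (Nat.card_coe_set_eq _).symm
        omega
      obtain ⟨n, hn⟩ := IsPGroup.iff_card.mp (hEp.to_subgroup ξ.range)
      have h16' : 16 ≤ Nat.card ξ.range := by
        rw [hn] at h9 ⊢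
        rcases le_or_gt 4 n with h4 | h4
        · calc 16 = 2 ^ 4 := by norm_num
            _ ≤ 2 ^ n := Nat.pow_le_pow_right (by norm_num) h4
        · interval_cases n <;> norm_num at h9
      rw [hcard, mul_comm 16]
      exact Nat.mul_le_mul_left _ h16'
    -- the permutations
    let ρ : A →* Equiv.Perm B :=
      { toFun := fun a =>
          { toFun := fun y => ⟨(a : G) * y * (a : G)⁻¹, hstab a (hAT a.2) y y.2⟩
            invFun := fun y => ⟨(a : G) * y * (a : G)⁻¹, hstab a (hAT a.2) y y.2⟩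
            left_inv := fun y => Subtype.ext (hinvol a a.2 y)
            right_inv := fun y => Subtype.ext (hinvol a a.2 y) }
        map_one' := Equiv.ext fun y => Subtype.ext (by simp)
        map_mul' := fun a b => Equiv.ext fun y => Subtype.ext (by
          simp only [Subgroup.coe_mul, Equiv.coe_fn_mk, Equiv.Perm.mul_apply]; group) }
    have hρ : ∀ a y, (ρ a y : G) = (a : G) * y * (a : G)⁻¹ := fun a y => rfl
    have hρker : ∀ a : A, ρ a = 1 → (a : G) ∈ E := fun a ha => by
      refine hCB a (hA2 a a.2) fun y hy => mul_inv_eq_iff_eq_mul.mp ?_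
      exact congrArg (fun p : Equiv.Perm B => (p ⟨y, hy⟩ : G)) ha
    have hρE : ∀ a : A, (a : G) ∈ E → ρ a = 1 := fun a ha => Equiv.ext fun y => Subtype.ext
      (mul_inv_eq_iff_eq_mul.mpr (hEcomm _ ha y (subset_closure y.2)).eq)
    set CA : Subgroup G → Subgroup G := fun A' => E ⊓ Subgroup.centralizer (A' : Set G) with hCA
    -- subgroups with a fixed member
    have hfixed : ∀ A' : Subgroup G, A' ≤ A → ∀ b ∈ B, (∀ a ∈ A', a * b * a⁻¹ = b) → ¬ A' ≤ E →
        ∀ f : ℕ, f = Nat.card ((ρ.comp (A'.subgroupOf A).subtype).range) →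
          f * Nat.card (CA A') < Nat.card E := by
      intro A' hA'A b hb hfix hA'E f hf
      obtain ⟨φ, X⟩ := hctx b (hB.sub hb)
      obtain ⟨-, hcard, hmoved⟩ := local_facts X hB hb
      have hA'loc : A' ≤ loc D b := fun a ha => hloc hb (hfix a ha)
      let ρ' : A' →* Equiv.Perm B := ρ.comp (Subgroup.inclusion hA'A)
      have hf' : f = Nat.card ρ'.range := by
        rw [hf]
        congr 2
        ext p
        constructor
        · rintro ⟨⟨a, ha⟩, rfl⟩; exact ⟨⟨a, ha⟩, rfl⟩
        · rintro ⟨a, rfl⟩; exact ⟨⟨⟨a, hA'A a.2⟩, a.2⟩, rfl⟩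
      have h16 : f ≤ 16 := hf' ▸ hcard A' hA'loc (fun a ha y hy => hstab a (hAT (hA'A ha)) y hy)
        (fun a ha y _ => hinvol a (hA'A ha) y) (fun a ha c hc => hAc a (hA'A ha) c (hA'A hc)) ρ'
        (fun a y => rfl)
      obtain ⟨t, htA', htE⟩ := SetLike.not_le_iff_exists.mp hA'E
      have hCt : ∀ s ∈ A', s ∉ E → 16 * Nat.card (CE s) ≤ Nat.card E := fun s hs hsE =>
        hindex s (hA'A hs) {y | y ∈ B ∧ s * y * s⁻¹ ≠ y} (fun y hy => hy.1) (fun y hy => hy.2)
          (hmoved s (hA'loc hs) (hstab s (hAT (hA'A hs))) (fun y _ => hinvol s (hA'A hs) y) (by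
            by_contra hno
            push Not at hno
            exact hsE (hCB s (hA2 s (hA'A hs)) fun y hy => mul_inv_eq_iff_eq_mul.mp (hno y hy))))
      have hle : ∀ s ∈ A', CA A' ≤ CE s := fun s hs x hx => by
        rw [hCA, mem_inf] at hx
        rw [hCE, mem_inf, mem_centralizer_singleton_iff]
        exact ⟨hx.1, (mem_centralizer_iff.mp hx.2 s hs).symm⟩
      have hpos : 0 < Nat.card (CA A') := Nat.card_pos
      have hbound := hCt t htA' htE
      have hle' := Nat.le_of_dvd Nat.card_pos (Subgroup.card_dvd_of_le (hle t htA'))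
      rcases lt_or_eq_of_le h16 with h | h
      · nlinarith
      -- a second element shrinks the centralizer
      obtain ⟨s, hs, hsne, hst⟩ :
          ∃ (s : G) (hs : s ∈ A'), s ∉ E ∧ ρ' ⟨s, hs⟩ ≠ ρ' ⟨t, htA'⟩ := by
        by_contra hno
        push Not at hno
        have hsub : (ρ'.range : Set (Equiv.Perm B)) ⊆ {1, ρ' ⟨t, htA'⟩} := by
          rintro _ ⟨⟨a, ha⟩, rfl⟩
          by_cases haE : a ∈ E
          · exact Or.inl (hρE ⟨a, hA'A ha⟩ haE)
          · exact Or.inr (hno a ha haE)
        have h2 := Set.ncard_le_ncard hsub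
        have h3 : ({1, ρ' ⟨t, htA'⟩} : Set (Equiv.Perm B)).ncard ≤ 2 :=
          (Set.ncard_insert_le _ _).trans (by rw [Set.ncard_singleton])
        have h4 : (ρ'.range : Set (Equiv.Perm B)).ncard = Nat.card ρ'.range :=
          (Nat.card_coe_set_eq _).symm
        omega
      obtain ⟨y, hy, hyne⟩ : ∃ y ∈ B, s * y * s⁻¹ ≠ t * y * t⁻¹ := by
        by_contra hno
        push Not at hno
        exact hst (Equiv.ext fun y => Subtype.ext (hno y y.2))
      have hwit : ∃ r ∈ A', r ∉ E ∧ CA A' < CE r := by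
        by_cases h1 : t * y * t⁻¹ = y
        · -- fixed by `t`, moved by `s`
          refine ⟨t, htA', htE, lt_of_le_of_ne (hle t htA') fun h2 => ?_⟩
          have h3 : y ∈ CE t := by
            rw [hCE, mem_inf, mem_centralizer_singleton_iff]
            exact ⟨subset_closure hy, (mul_inv_eq_iff_eq_mul.mp h1).symm⟩
          rw [← h2, hCA, mem_inf] at h3
          exact hyne ((mul_inv_eq_iff_eq_mul.mpr (mem_centralizer_iff.mp h3.2 s hs)).trans h1.symm)
        by_cases h2 : s * y * s⁻¹ = y
        · refine ⟨s, hs, hsne, lt_of_le_of_ne (hle s hs) fun h3 => h1 ?_⟩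
          have h4 : y ∈ CE s := by
            rw [hCE, mem_inf, mem_centralizer_singleton_iff]
            exact ⟨subset_closure hy, (mul_inv_eq_iff_eq_mul.mp h2).symm⟩
          rw [← h3, hCA, mem_inf] at h4
          exact mul_inv_eq_iff_eq_mul.mpr (mem_centralizer_iff.mp h4.2 t htA')
        -- the product over the orbit of `t`
        refine ⟨t, htA', htE, lt_of_le_of_ne (hle t htA') fun h3 => ?_⟩
        set y' := t * y * t⁻¹ with hy'
        have hy'B : y' ∈ B := hstab t (hAT (hA'A htA')) y hy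
        have hyy' := hB.comm y hy y' hy'B
        have h4 : y * y' ∈ CE t := by
          rw [hCE, mem_inf, mem_centralizer_singleton_iff]
          refine ⟨mul_mem (subset_closure hy) (subset_closure hy'B), ?_⟩
          have h5 : t * (y * y') * t⁻¹ = y * y' := by
            rw [show t * (y * y') * t⁻¹ = (t * y * t⁻¹) * (t * y' * t⁻¹) by group, hy',
              hinvol t (hA'A htA') y]
            exact hyy'.symm.eq
          exact (mul_inv_eq_iff_eq_mul.mp h5).symm
        rw [← h3, hCA, mem_inf] at h4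
        have h6 : (s * y * s⁻¹) * (s * y' * s⁻¹) = y * y' := by
          rw [show (s * y * s⁻¹) * (s * y' * s⁻¹) = s * (y * y') * s⁻¹ by group]
          exact mul_inv_eq_iff_eq_mul.mpr (mem_centralizer_iff.mp h4.2 s hs)
        have hl1 : CList D [s * y * s⁻¹, s * y' * s⁻¹] := by
          refine ⟨?_, ?_, ?_⟩
          · intro z hz; simp at hz; rcases hz with rfl | rfl
            exacts [ht.conj s y (hB.sub hy), ht.conj s y' (hB.sub hy'B)]
          · simp; exact fun h => h1 h.symm
          · have := (Commute.conj_iff s).mpr hyy'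
            intro a ha b hb; simp at ha hb
            rcases ha with rfl | rfl <;> rcases hb with rfl | rfl <;>
              first | exact Commute.refl _ | exact this | exact this.symm
        have hl2 : CList D [y, y'] := by
          refine ⟨?_, by simp; exact fun h => h1 h.symm, ?_⟩
          · intro z hz; simp at hz; rcases hz with rfl | rfl
            exacts [hB.sub hy, hB.sub hy'B]
          · intro a ha b hb; simp at ha hb
            rcases ha with rfl | rfl <;> rcases hb with rfl | rfl <;>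
              first | exact Commute.refl _ | exact hyy' | exact hyy'.symm
        have := (ThreeTransPairs.pair_unique ht hprim hl1 rfl hl2 rfl (by simpa using h6)
          (s * y * s⁻¹)).mp (by simp)
        simp at this
        rcases this with h7 | h7
        · exact h2 h7
        · exact hyne h7
      obtain ⟨r, hr, hrE, hlt⟩ := hwit
      have := card_half hlt
      have := hCt r hr hrE
      nlinarith
    -- the kernel
    have hsplit : ∀ A' : Subgroup G, A' ≤ A → Nat.card A' ≤
        Nat.card ((ρ.comp (A'.subgroupOf A).subtype).range) * Nat.card (CA A') := by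
      intro A' hA'A
      set ρ' := ρ.comp (A'.subgroupOf A).subtype
      have h1 : Nat.card A' = Nat.card ρ'.ker * Nat.card ρ'.range := by
        rw [← Nat.card_congr (Subgroup.subgroupOfEquivOfLe hA'A).toEquiv,
          ← Subgroup.card_mul_index ρ'.ker, Subgroup.index_ker]
      rw [h1, mul_comm]
      refine Nat.mul_le_mul_left _ (Nat.card_le_card_of_injective
        (fun a => (⟨((a.1 : A) : G), ?_⟩ : CA A')) fun a b h => ?_)
      · rw [hCA, mem_inf]
        exact ⟨hρker _ a.2, mem_centralizer_iff.mpr fun c hc =>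
          (hAc c (hA'A hc) _ (a.1 : A).2).eq⟩
      · have h' : ((a.1 : A) : G) = ((b.1 : A) : G) := congrArg (fun z : CA A' => (z : G)) h
        exact Subtype.ext (Subtype.ext (Subtype.ext h'))
    by_cases hfx : ∃ b ∈ B, ∀ a ∈ A, a * b * a⁻¹ = b
    · obtain ⟨b, hb, hfix⟩ := hfx
      exact lt_of_le_of_lt (hsplit A le_rfl) (hfixed A le_rfl b hb hfix hAE _ rfl)
    -- no fixed member: an orbit of two
    push Not at hfx
    letI : MulAction A B :=
      { smul := fun a y => ρ a y
        one_smul := fun y => by show ρ 1 y = y; rw [map_one]; rfl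
        mul_smul := fun a b y => by show ρ (a * b) y = ρ a (ρ b y); rw [map_mul]; rfl }
    haveI : Fintype B := Fintype.ofFinite _
    have h22B : B.ncard = 22 := by
      obtain ⟨φ, X⟩ := hctx b₀ (hB.sub hb₀)
      rw [← Nat.card_coe_set_eq, Nat.card_eq_fintype_card]
      exact (plane_action X hB hb₀).1
    have hAp : IsPGroup 2 A := fun a => ⟨1, Subtype.ext (by simpa using hA2 a a.2)⟩
    obtain ⟨b, hb2⟩ : ∃ b : B, (MulAction.orbit A b).ncard = 2 := by
      by_contra hno
      push Not at hno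
      have h4 : 4 ∣ (Set.univ : Set B).ncard := by
        refine dvd_of_partition 4 (fun b => MulAction.orbit A b) fun b _ =>
          ⟨MulAction.mem_orbit_self b, Set.subset_univ _, ?_, fun c hc => MulAction.orbit_eq_iff.mpr hc⟩
        obtain ⟨n, hn⟩ := hAp.card_orbit b
        rw [Nat.card_coe_set_eq] at hn
        rcases n with _ | _ | n
        · exfalso
          obtain ⟨c, hc⟩ := Set.ncard_eq_one.mp (hn.trans (pow_zero 2))
          obtain ⟨a, ha, hne⟩ := hfx b b.2
          have h1 : (⟨a, ha⟩ : A) • b = c := Set.mem_singleton_iff.mp (hc ▸ MulAction.mem_orbit _ _)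
          have h2 : b = c := Set.mem_singleton_iff.mp (hc ▸ MulAction.mem_orbit_self b)
          exact hne (congrArg Subtype.val (h1.trans h2.symm))
        · exact absurd (hn.trans (pow_one 2)) (hno b)
        · rw [hn]; exact ⟨2 ^ n, by ring⟩
      rw [Set.ncard_univ, Nat.card_coe_set_eq, h22B] at h4
      omega
    set A₀ := (MulAction.stabilizer A b).map A.subtype with hA₀
    have hA₀A : A₀ ≤ A := Subgroup.map_subtype_le _
    have hcard2 : Nat.card A = 2 * Nat.card A₀ := by
      rw [← Subgroup.card_mul_index (MulAction.stabilizer A b), MulAction.index_stabilizer, hb2, mul_comm,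
        hA₀, Subgroup.card_map_of_injective A.subtype_injective]
    have hfix₀ : ∀ a ∈ A₀, a * b * a⁻¹ = b := by
      rintro _ ⟨a, ha, rfl⟩
      exact congrArg Subtype.val (MulAction.mem_stabilizer_iff.mp ha)
    obtain ⟨t, htA, htb⟩ := hfx b b.2
    have hlt : CA A < CA A₀ := by
      refine lt_of_le_of_ne (fun x hx => ?_) fun h1 => htb ?_
      · rw [hCA, mem_inf] at hx ⊢
        exact ⟨hx.1, mem_centralizer_iff.mpr fun c hc => mem_centralizer_iff.mp hx.2 c (hA₀A hc)⟩
      · have h2 : (b : G) ∈ CA A₀ := by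
          rw [hCA, mem_inf]
          exact ⟨subset_closure b.2, mem_centralizer_iff.mpr fun c hc =>
            mul_inv_eq_iff_eq_mul.mp (hfix₀ c hc)⟩
        rw [← h1, hCA, mem_inf] at h2
        exact mul_inv_eq_iff_eq_mul.mpr (mem_centralizer_iff.mp h2.2 t htA)
    by_cases h0 : A₀ ≤ E
    · -- all elements outside move every member
      have hmovall : ∀ y ∈ B, t * y * t⁻¹ ≠ y := by
        intro y hy heq
        obtain ⟨a, ha, hne⟩ := hfx y hy
        have htn : (⟨t, htA⟩ : A) ∉ MulAction.stabilizer A b := fun h => htb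
          (congrArg Subtype.val (MulAction.mem_stabilizer_iff.mp h))
        by_cases haS : (⟨a, ha⟩ : A) ∈ MulAction.stabilizer A b
        · exact hne (mul_inv_eq_iff_eq_mul.mpr
            (hEcomm a (h0 ⟨⟨a, ha⟩, haS, rfl⟩) y (subset_closure hy)).eq)
        · have h2 : (MulAction.stabilizer A b).index = 2 := by rw [MulAction.index_stabilizer, hb2]
          have h3 : (⟨t, htA⟩ : A) * ⟨a, ha⟩ ∈ MulAction.stabilizer A b :=
            (Subgroup.mul_mem_iff_of_index_two h2).mpr (iff_of_false htn haS)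
          have h5 : t * a * y * (t * a)⁻¹ = y := mul_inv_eq_iff_eq_mul.mpr
            (hEcomm (t * a) (h0 ⟨_, h3, rfl⟩) y (subset_closure hy)).eq
          apply hne
          have h4 : t * (a * y * a⁻¹) * t⁻¹ = t * y * t⁻¹ := by
            rw [heq]
            calc t * (a * y * a⁻¹) * t⁻¹ = t * a * y * (t * a)⁻¹ := by group
              _ = y := h5
          exact mul_left_cancel (mul_right_cancel h4)
      have h1 := hindex t htA B subset_rfl hmovall (by omega)
      have h2 : A₀ ≤ CE t := fun x hx => by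
        rw [hCE, mem_inf, mem_centralizer_singleton_iff]
        exact ⟨h0 hx, (hAc x (hA₀A hx) t htA).eq⟩
      have := Nat.le_of_dvd Nat.card_pos (Subgroup.card_dvd_of_le h2)
      have : 0 < Nat.card A₀ := Nat.card_pos
      omega
    have hf := hfixed A₀ hA₀A b b.2 hfix₀ h0 _ rfl
    set f₀ := Nat.card ((ρ.comp (A₀.subgroupOf A).subtype).range)
    -- the kernel lies in the smaller centralizer
    have hker : Nat.card A₀ ≤ f₀ * Nat.card (CA A) := by
      set ρ' := ρ.comp (A₀.subgroupOf A).subtype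
      have h1 : Nat.card A₀ = Nat.card ρ'.ker * Nat.card ρ'.range := by
        rw [← Nat.card_congr (Subgroup.subgroupOfEquivOfLe hA₀A).toEquiv,
          ← Subgroup.card_mul_index ρ'.ker, Subgroup.index_ker]
      rw [h1, mul_comm]
      refine Nat.mul_le_mul_left _ (Nat.card_le_card_of_injective
        (fun a => (⟨((a.1 : A) : G), ?_⟩ : CA A)) fun a c h => ?_)
      · rw [hCA, mem_inf]
        exact ⟨hρker _ a.2, mem_centralizer_iff.mpr fun c hc => (hAc c hc _ (a.1 : A).2).eq⟩
      · have h' : ((a.1 : A) : G) = ((c.1 : A) : G) := congrArg (fun z : CA A => (z : G)) h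
        exact Subtype.ext (Subtype.ext (Subtype.ext h'))
    have := card_half hlt
    calc Nat.card A = 2 * Nat.card A₀ := hcard2
      _ ≤ f₀ * (2 * Nat.card (CA A)) := by rw [mul_left_comm]; omega
      _ ≤ f₀ * Nat.card (CA A₀) := Nat.mul_le_mul_left _ this
      _ < Nat.card E := hf
  exact key

/-- Type M(22): the Thompson subgroup of a Sylow 2-subgroup is generated by its members of the class. -/
theorem closure_eq_thompson (hD : Cfsg.IsThreeTranspositionGroup D)
    (hprim : Cfsg.IsPrimitiveUnderConj D) (h22 : Cfsg.IsOfTypeM22 G D) (T : Sylow 2 G) :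
    Subgroup.closure {x : G | x ∈ D ∧ x ∈ (T : Subgroup G)} =
      Cfsg.thompsonSubgroupOf 2 (T : Subgroup G) := by
  classical
  obtain ⟨B, -, -, hET, hBD, hEcomm, hE2, key⟩ := exists_block hD hprim h22 T
  set E := closure B with hE
  rw [hBD, ← hE]
  -- conclusion
  have hEel : Cfsg.IsElementaryAbelian 2 (E.subgroupOf (T : Subgroup G)) :=
    ⟨⟨⟨fun a b => Subtype.ext (Subtype.ext (hEcomm _ a.2 _ b.2).eq)⟩⟩,
      fun a ha => Subtype.ext (hE2 _ ha)⟩
  have hcardE : Nat.card (E.subgroupOf (T : Subgroup G)) = Nat.card E :=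
    Nat.card_congr (Subgroup.subgroupOfEquivOfLe hET).toEquiv
  have hle : ∀ A : Subgroup (T : Subgroup G), Cfsg.IsElementaryAbelian 2 A →
      A ≤ E.subgroupOf (T : Subgroup G) ∨ Nat.card A < Nat.card E := by
    intro A hA
    by_cases h : A ≤ E.subgroupOf (T : Subgroup G)
    · exact Or.inl h
    right
    rw [← Subgroup.card_map_of_injective (T : Subgroup G).subtype_injective]
    refine key _ (Subgroup.map_subtype_le _) ?_ ?_ fun hle => h fun x hx => ?_
    · rintro _ ⟨a, ha, rfl⟩
      exact congrArg Subtype.val (hA.2 a ha)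
    · rintro _ ⟨a, ha, rfl⟩ _ ⟨b, hb, rfl⟩
      have := hA.1.1.1 ⟨a, ha⟩ ⟨b, hb⟩
      exact congrArg (fun z : A => ((z : (T : Subgroup G)) : G)) this
    · exact mem_subgroupOf.mpr (hle ⟨x, hx, rfl⟩)
  have hJ : Cfsg.thompsonSubgroup 2 (T : Subgroup G) = E.subgroupOf (T : Subgroup G) := by
    refine le_antisymm (sSup_le fun A hA => ?_) (le_sSup ⟨hEel, fun A hA => ?_⟩)
    · rcases hle A hA.1 with h | h
      · exact h
      · have := hA.2 _ hEel
        omega
    · rcases hle A hA with h | h
      · exact Subgroup.card_le_of_le h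
      · omega
  rw [Cfsg.thompsonSubgroupOf, hJ, Subgroup.map_subgroupOf_eq_of_le hET]

end thompson

end Cfsg.Agent.ThreeTransM22Thompson72
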