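import Cfsg.Agent.Lib.ThreeTransM22Block72
import Cfsg.Agent.Lib.ThreeTransM22Lifts17
import Cfsg.Agent.Lib.ThreeTransM22Thompson72

/-!
# A central extension of a group of type M(22) by a group of order two: the preimage of a block

The preimage of the group of a maximal commuting set is elementary abelian of order 2048 and is the
largest elementary abelian subgroup of any 2-subgroup containing it; its stabiliser has the orbits given
by chosen lifts of members, pairs and triples.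
-/

set_option autoImplicit false
set_option linter.unusedSectionVars false
set_option linter.style.haveILetI false

namespace Cfsg.Agent.ThreeTransM22Cover72

open Subgroup Cfsg.Agent.ThreeTransRel Cfsg.Agent.ThreeTransDescent
open Cfsg.Agent.ThreeTransM22Outer72 Cfsg.Agent.ThreeTransM22Block72 Cfsg.Agent.M22BlockCode72

variable {C Q : Type*} [Group C] [Group Q] [Finite C] [Finite Q]

/-- A double cover of a group of type M(22). -/
structure Cov (p : C →* Q) (z : C) (E : Set Q) : Prop where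
  grp : Cfsg.IsThreeTranspositionGroup E
  prim : Cfsg.IsPrimitiveUnderConj E
  m22 : Cfsg.IsOfTypeM22 Q E
  surj : Function.Surjective p
  ker : ∀ c, p c = 1 → c = 1 ∨ c = z
  central : ∀ c, Commute z c
  zz : z * z = 1
  map_z : p z = 1
  ne : z ≠ 1

variable {p : C →* Q} {z : C} {E : Set Q}

theorem Cov.ts (X : Cov p z E) : TSys E := tsys_of_group X.grp

theorem Cov.fib (X : Cov p z E) {a b : C} (h : p a = p b) : a = b ∨ a = b * z :=
  ThreeTransM22Lifts17.eq_or_eq_mul X.grp X.prim X.m22 X.surj X.ker X.central X.zz X.map_z h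

theorem Cov.comm (X : Cov p z E) {a b : C} (ha : p a ∈ E) (hb : p b ∈ E) (h : Commute (p a) (p b)) :
    Commute a b :=
  ThreeTransM22Lifts17.lifts_commute X.grp X.prim X.m22 X.surj X.ker X.central X.zz X.map_z ha hb h

theorem Cov.sq (X : Cov p z E) {a : C} (ha : p a ∈ E) : a * a = 1 :=
  ThreeTransM22Lifts17.lifts_sq X.grp X.prim X.m22 X.surj X.ker X.central X.zz X.map_z ha

theorem Cov.mul_z_ne (X : Cov p z E) (a : C) : a * z ≠ a := fun h => X.ne (mul_eq_left.mp h)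

theorem Cov.mul_z_z (X : Cov p z E) (a : C) : a * z * z = a := by rw [mul_assoc, X.zz, mul_one]

theorem Cov.map_mul_z (X : Cov p z E) (a : C) : p (a * z) = p a := by rw [map_mul, X.map_z, mul_one]

theorem Cov.conj_z (X : Cov p z E) (c a : C) : c * (a * z) * c⁻¹ = c * a * c⁻¹ * z := by
  rw [← mul_assoc c a, mul_assoc (c * a), (X.central c⁻¹).eq, ← mul_assoc]

/-- An element centralising the image of a member centralises its lifts. -/
theorem Cov.centralises (X : Cov p z E) {c x : C} (hx : p x ∈ E) (h : Commute (p c) (p x)) :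
    Commute c x := by
  have hmem : p c ∈ loc E (p x) := by
    rw [← ThreeTransM22Outer72.centralizer_eq_loc X.grp X.prim X.m22 _ hx]
    exact mem_centralizer_singleton_iff.mpr h.eq
  have hle : loc E (p x) ≤ (Subgroup.centralizer ({x} : Set C)).map p := by
    refine (closure_le _).mpr fun y hy => ?_
    obtain ⟨y', rfl⟩ := X.surj y
    exact ⟨y', mem_centralizer_singleton_iff.mpr (X.comm hy.1 hx hy.2.2.symm).eq, rfl⟩
  obtain ⟨k, hk, hkc⟩ := hle hmem
  have hk' : Commute k x := mem_centralizer_singleton_iff.mp hk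
  rcases X.fib hkc.symm with e | e <;> rw [e]
  · exact hk'
  · exact hk'.mul_left (X.central x)

open Classical in
/-- The lift in the class of `x₀`. -/
noncomputable def sig (p : C →* Q) (x₀ : C) (t : Q) : C :=
  if h : ∃ y, IsConj x₀ y ∧ p y = t then h.choose else 1

variable {x₀ : C}

theorem Cov.sig_spec (X : Cov p z E) (hx : p x₀ ∈ E) {t : Q} (ht : t ∈ E) :
    IsConj x₀ (sig p x₀ t) ∧ p (sig p x₀ t) = t := by
  classical
  have h : ∃ y, IsConj x₀ y ∧ p y = t := by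
    obtain ⟨g, hg⟩ := X.prim.1 _ hx _ ht
    obtain ⟨g, rfl⟩ := X.surj g
    exact ⟨g * x₀ * g⁻¹, isConj_iff.mpr ⟨g, rfl⟩, by rw [map_mul, map_mul, map_inv, hg]⟩
  rw [sig, dif_pos h]
  exact h.choose_spec

theorem Cov.conj_mem (X : Cov p z E) (hx : p x₀ ∈ E) {y : C} (hy : IsConj x₀ y) : p y ∈ E := by
  obtain ⟨g, rfl⟩ := isConj_iff.mp hy
  rw [map_mul, map_mul, map_inv]
  exact X.ts.conj _ _ hx

theorem Cov.sig_unique (X : Cov p z E) (hx : p x₀ ∈ E) {y : C} (hy : IsConj x₀ y) :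
    sig p x₀ (p y) = y := by
  obtain ⟨h1, h2⟩ := X.sig_spec hx (X.conj_mem hx hy)
  refine (X.fib h2).resolve_right fun e => ?_
  obtain ⟨g, hg⟩ := isConj_iff.mp (hy.symm.trans h1)
  rw [e] at hg
  have hc : Commute g y := X.centralises (X.conj_mem hx hy) (by
    have := congrArg p hg
    rw [map_mul, map_mul, map_inv, X.map_mul_z] at this
    exact mul_inv_eq_iff_eq_mul.mp this)
  rw [hc.eq, mul_inv_cancel_right] at hg
  exact X.mul_z_ne y hg.symm

theorem Cov.sig_mem (X : Cov p z E) (hx : p x₀ ∈ E) {t : Q} (ht : t ∈ E) : p (sig p x₀ t) ∈ E := by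
  rw [(X.sig_spec hx ht).2]; exact ht

theorem Cov.sig_conj (X : Cov p z E) (hx : p x₀ ∈ E) {t : Q} (ht : t ∈ E) (c : C) :
    c * sig p x₀ t * c⁻¹ = sig p x₀ (p c * t * (p c)⁻¹) := by
  obtain ⟨h1, h2⟩ := X.sig_spec hx ht
  have h := X.sig_unique hx (y := c * sig p x₀ t * c⁻¹) (h1.trans (isConj_iff.mpr ⟨c, rfl⟩))
  rw [map_mul, map_mul, map_inv, h2] at h
  exact h.symm

theorem Cov.sig_comm (X : Cov p z E) (hx : p x₀ ∈ E) {s t : Q} (hs : s ∈ E) (ht : t ∈ E)
    (h : Commute s t) : Commute (sig p x₀ s) (sig p x₀ t) :=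
  X.comm (X.sig_mem hx hs) (X.sig_mem hx ht) (by rwa [(X.sig_spec hx hs).2, (X.sig_spec hx ht).2])

theorem Cov.sig_sq (X : Cov p z E) (hx : p x₀ ∈ E) {t : Q} (ht : t ∈ E) :
    sig p x₀ t * sig p x₀ t = 1 :=
  X.sq (X.sig_mem hx ht)

section block

variable {B : Set Q}

/-- The stabiliser of the set. -/
def stab (p : C →* Q) (B : Set Q) : Subgroup C where
  carrier := {c | MulAut.conj (p c) '' B = B}
  one_mem' := by simp
  mul_mem' := by
    intro a b ha hb
    show MulAut.conj (p (a * b)) '' B = B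
    conv_rhs => rw [← ha, ← hb]
    rw [Set.image_image]
    simp [map_mul, mul_assoc]
  inv_mem' := by
    intro a ha
    show MulAut.conj (p a⁻¹) '' B = B
    conv_lhs => rw [← ha]
    rw [Set.image_image]
    simp [mul_assoc]

theorem mem_stab_conj {c : C} (hc : c ∈ stab p B) {t : Q} (ht : t ∈ B) :
    p c * t * (p c)⁻¹ ∈ B :=
  (show MulAut.conj (p c) '' B = B from hc) ▸ ⟨t, ht, rfl⟩

theorem Cov.blk_comm (X : Cov p z E) (hx : p x₀ ∈ E) (hB : Blk E B) {s t : Q} (hs : s ∈ B)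
    (ht : t ∈ B) : Commute (sig p x₀ s) (sig p x₀ t) :=
  X.sig_comm hx (hB.sub hs) (hB.sub ht) (hB.comm s hs t ht)

/-- The preimage is generated by chosen lifts and the central involution. -/
theorem Cov.preimage_eq (X : Cov p z E) (hx : p x₀ ∈ E) (hB : Blk E B) :
    (closure B).comap p = closure (insert z (sig p x₀ '' B)) := by
  refine le_antisymm (fun c hc => ?_) ((closure_le _).mpr ?_)
  · have hle : closure B ≤ (closure (insert z (sig p x₀ '' B))).map p := (closure_le _).mpr fun t ht =>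
      ⟨sig p x₀ t, subset_closure (Set.mem_insert_of_mem _ ⟨t, ht, rfl⟩), (X.sig_spec hx (hB.sub ht)).2⟩
    obtain ⟨k, hk, hkc⟩ := hle hc
    rcases X.fib hkc.symm with e | e <;> rw [e]
    · exact hk
    · exact mul_mem hk (subset_closure (Set.mem_insert _ _))
  · rintro c (rfl | ⟨t, ht, rfl⟩)
    · show p c ∈ closure B
      rw [X.map_z]; exact one_mem _
    · show p (sig p x₀ t) ∈ closure B
      rw [(X.sig_spec hx (hB.sub ht)).2]; exact subset_closure ht

theorem Cov.preimage_elem (X : Cov p z E) (hx : p x₀ ∈ E) (hB : Blk E B) :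
    (∀ a ∈ (closure B).comap p, ∀ b ∈ (closure B).comap p, Commute a b) ∧
      ∀ a ∈ (closure B).comap p, a * a = 1 := by
  rw [X.preimage_eq hx hB]
  set S := insert z (sig p x₀ '' B)
  have hgen : ∀ a ∈ S, ∀ b ∈ S, Commute a b := by
    rintro a (rfl | ⟨s, hs, rfl⟩) b (rfl | ⟨t, ht, rfl⟩)
    · exact Commute.refl _
    · exact X.central _
    · exact (X.central _).symm
    · exact X.blk_comm hx hB hs ht
  have hcomm : ∀ a ∈ closure S, ∀ b ∈ closure S, Commute a b := by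
    intro a ha b hb
    have h1 : closure S ≤ Subgroup.centralizer S := (closure_le _).mpr fun u hu =>
      mem_centralizer_iff.mpr fun w hw => (hgen w hw u hu).eq
    have h2 : closure S ≤ Subgroup.centralizer ({b} : Set C) := (closure_le _).mpr fun u hu =>
      mem_centralizer_singleton_iff.mpr (mem_centralizer_iff.mp (h1 hb) u hu)
    exact mem_centralizer_singleton_iff.mp (h2 ha)
  refine ⟨hcomm, fun a ha => ?_⟩
  induction ha using Subgroup.closure_induction with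
  | mem u hu =>
    rcases hu with rfl | ⟨t, ht, rfl⟩
    · exact X.zz
    · exact X.sig_sq hx (hB.sub ht)
  | one => exact one_mul 1
  | mul u v hu hv iu iv => rw [(hcomm u hu v hv).symm.mul_mul_mul_comm, iu, iv, one_mul]
  | inv u hu iu => rw [inv_eq_of_mul_eq_one_right iu, iu]

theorem Cov.card_map (X : Cov p z E) (A : Subgroup C) :
    Nat.card ↥A ≤ 2 * Nat.card ↥(A.map p) ∧ (z ∈ A → Nat.card ↥A = 2 * Nat.card ↥(A.map p)) := by
  set f : ↥A →* Q := p.comp A.subtype with hf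
  have hr : f.range = A.map p := by rw [hf, MonoidHom.range_comp, Subgroup.range_subtype]
  have hle : Nat.card ↥f.ker ≤ 2 := by
    have h1 : Nat.card ↥f.ker ≤ Nat.card ↥({1, z} : Set C) :=
      Nat.card_le_card_of_injective (fun c => ⟨(c : ↥A), X.ker _ c.2⟩)
        fun a b h => Subtype.ext (Subtype.ext (congrArg Subtype.val h :))
    rwa [Nat.card_coe_set_eq, Set.ncard_pair X.ne.symm] at h1
  have h := f.ker.card_mul_index
  rw [Subgroup.index_ker, hr] at h
  refine ⟨h ▸ Nat.mul_le_mul_right _ hle, fun hz => ?_⟩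
  have hz' : (⟨z, hz⟩ : ↥A) ∈ f.ker := X.map_z
  haveI : Nontrivial ↥f.ker := ⟨⟨⟨z, hz⟩, hz'⟩, 1, fun e =>
    X.ne (congrArg (fun w : ↥f.ker => ((w : ↥A) : C)) e)⟩
  have : 2 ≤ Nat.card ↥f.ker := Finite.one_lt_card
  rw [← h, show Nat.card ↥f.ker = 2 by omega]

theorem Cov.card_preimage (X : Cov p z E) (hB : Blk E B) :
    Nat.card ↥((closure B).comap p) = 2048 := by
  rw [(X.card_map _).2 (show p z ∈ closure B by rw [X.map_z]; exact one_mem _),
    Subgroup.map_comap_eq_self_of_surjective X.surj, card_block X.grp X.prim X.m22 hB]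

theorem Cov.mem_set (hB : Blk E B) {t : Q} (ht : t ∈ E) (hc : t ∈ closure B) : t ∈ B := by
  refine hB.max t ht fun u hu => ?_
  have h1 : closure B ≤ Subgroup.centralizer ({u} : Set Q) := (closure_le _).mpr fun w hw =>
    mem_centralizer_singleton_iff.mpr (hB.comm w hw u hu).eq
  exact mem_centralizer_singleton_iff.mp (h1 hc)

theorem Cov.stab_iff (X : Cov p z E) (hB : Blk E B) {c : C} :
    c ∈ stab p B ↔ ∀ a ∈ (closure B).comap p, c * a * c⁻¹ ∈ (closure B).comap p := by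
  constructor
  · intro hc a ha
    show p (c * a * c⁻¹) ∈ closure B
    have h1 : (closure B).map (MulAut.conj (p c)).toMonoidHom ≤ closure B := by
      rw [MonoidHom.map_closure]
      refine closure_mono ?_
      rintro _ ⟨t, ht, rfl⟩
      exact mem_stab_conj hc ht
    rw [map_mul, map_mul, map_inv]
    exact h1 ⟨p a, ha, rfl⟩
  · intro h
    have hsub : MulAut.conj (p c) '' B ⊆ B := by
      rintro _ ⟨t, ht, rfl⟩
      obtain ⟨a, rfl⟩ := X.surj t
      refine Cov.mem_set hB (X.ts.conj _ _ (hB.sub ht)) ?_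
      have := h a (subset_closure ht)
      rwa [mem_comap, map_mul, map_mul, map_inv] at this
    exact hsub.antisymm fun t ht => (hB.conj X.ts (p c)).max t (hB.sub ht) fun u hu =>
      hB.comm t ht u (hsub hu)

/-- Every elementary abelian subgroup of order at least 2048 in a Sylow subgroup is one preimage. -/
theorem Cov.big_unique (X : Cov p z E) (S : Sylow 2 C) :
    ∃ B, Blk E B ∧ (closure B).comap p ≤ (S : Subgroup C) ∧
      ∀ A : Subgroup C, A ≤ (S : Subgroup C) → (∀ a ∈ A, ∀ b ∈ A, Commute a b) →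
        (∀ a ∈ A, a * a = 1) → Nat.card ↥A ≤ 2048 ∧
          (Nat.card ↥A = 2048 → A = (closure B).comap p) := by
  classical
  haveI : Fact (Nat.Prime 2) := ⟨Nat.prime_two⟩
  set T := S.mapSurjective X.surj
  obtain ⟨B, hB, -, hBT, -, -, -, hmax⟩ :=
    ThreeTransM22Thompson72.exists_block X.grp X.prim X.m22 T
  have hker : p.ker ≤ (S : Subgroup C) := by
    have hp : IsPGroup 2 ↥p.ker := fun c => ⟨1, Subtype.ext (by
      rcases X.ker c c.2 with h | h
      · simp [h]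
      · simp [h, pow_two, X.zz])⟩
    have := S.is_maximal' (IsPGroup.to_sup_of_normal_right S.isPGroup' hp) le_sup_left
    exact this ▸ le_sup_right
  refine ⟨B, hB, fun c hc => ?_, fun A hA hc hs => ?_⟩
  · obtain ⟨k, hk, hkc⟩ : p c ∈ (S : Subgroup C).map p := hBT hc
    have : k⁻¹ * c ∈ p.ker := by rw [MonoidHom.mem_ker, map_mul, map_inv, hkc, inv_mul_cancel]
    simpa using mul_mem hk (hker this)
  · have hT : A.map p ≤ (T : Subgroup Q) := Subgroup.map_mono hA
    have hle2 := (X.card_map A).1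
    have hcard := card_block X.grp X.prim X.m22 hB
    by_cases hAB : A.map p ≤ closure B
    · have hle : A ≤ (closure B).comap p := Subgroup.map_le_iff_le_comap.mp hAB
      exact ⟨(Subgroup.card_le_of_le hle).trans (X.card_preimage hB).le, fun h =>
        Subgroup.eq_of_le_of_card_ge hle (by rw [h, X.card_preimage hB])⟩
    · have := hmax (A.map p) hT (by
        rintro _ ⟨a, ha, rfl⟩
        rw [pow_two, ← map_mul, hs a ha, map_one]) (by
        rintro _ ⟨a, ha, rfl⟩ _ ⟨b, hb, rfl⟩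
        exact (hc a ha b hb).map p) hAB
      exact ⟨by omega, fun h => by omega⟩

theorem Cov.conj_preimage (X : Cov p z E) (g : C) (B : Set Q) :
    ((closure B).comap p).map (MulAut.conj g).toMonoidHom =
      (closure (MulAut.conj (p g) '' B)).comap p := by
  have h1 : closure (MulAut.conj (p g) '' B) = (closure B).map (MulAut.conj (p g)).toMonoidHom :=
    (MonoidHom.map_closure (MulAut.conj (p g)).toMonoidHom B).symm
  ext c
  rw [h1, Subgroup.mem_comap, Subgroup.mem_map, Subgroup.mem_map]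
  constructor
  · rintro ⟨a, ha, rfl⟩
    refine ⟨p a, ha, ?_⟩
    show p g * p a * (p g)⁻¹ = p (g * a * g⁻¹)
    rw [map_mul, map_mul, map_inv]
  · rintro ⟨t, ht, hct⟩
    refine ⟨g⁻¹ * c * g, ?_, ?_⟩
    · show p (g⁻¹ * c * g) ∈ closure B
      rw [map_mul, map_mul, map_inv, show p c = p g * t * (p g)⁻¹ from hct.symm]
      rwa [show (p g)⁻¹ * (p g * t * (p g)⁻¹) * p g = t by group]
    · show g * (g⁻¹ * c * g) * g⁻¹ = c
      group

/-- An elementary abelian subgroup of order 2048 is conjugate to the preimage of a given set. -/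
theorem Cov.big_conj (X : Cov p z E) (hB : Blk E B) {A : Subgroup C}
    (hc : ∀ a ∈ A, ∀ b ∈ A, Commute a b) (hs : ∀ a ∈ A, a * a = 1) (hA : Nat.card ↥A = 2048) :
    ∃ g : C, ((closure B).comap p).map (MulAut.conj g).toMonoidHom = A := by
  haveI : Fact (Nat.Prime 2) := ⟨Nat.prime_two⟩
  obtain ⟨S, hS⟩ := IsPGroup.exists_le_sylow (p := 2) (P := A)
    (fun a => ⟨1, Subtype.ext (by simpa [pow_two] using hs a a.2)⟩)
  obtain ⟨B', hB', -, hu⟩ := X.big_unique S
  obtain ⟨t, ht⟩ := block_conj X.grp X.prim X.m22 hB hB'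
  obtain ⟨g, rfl⟩ := X.surj t
  exact ⟨g, by rw [X.conj_preimage g B, ht, (hu A hS hc hs).2 hA]⟩

/-- An involution is conjugate into the preimage of a given set. -/
theorem Cov.exists_into (X : Cov p z E) (hB : Blk E B) {c : C} (hc : c * c = 1) :
    ∃ g : C, g * c * g⁻¹ ∈ (closure B).comap p := by
  by_cases h1 : p c = 1
  · exact ⟨1, by simp [h1]⟩
  obtain ⟨l, hl, -, -, hlp⟩ := ThreeTransM22Classes72.exists_product X.grp X.prim X.m22 (x := p c)
    (orderOf_eq_prime (by rw [pow_two, ← map_mul, hc, map_one]) h1)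
  obtain ⟨B', hB', hsub⟩ := exists_block_through X.grp X.prim X.m22 (T := {t | t ∈ l})
    (fun t ht => hl.mem t ht) hl.comm
  obtain ⟨t, ht⟩ := block_conj X.grp X.prim X.m22 hB' hB
  obtain ⟨g, rfl⟩ := X.surj t
  refine ⟨g, ?_⟩
  have hm : p c ∈ closure B' := hlp ▸ list_prod_mem fun u hu => subset_closure (hsub hu)
  have h2 := X.conj_preimage g B'
  rw [ht] at h2
  exact h2 ▸ ⟨c, hm, rfl⟩

/-- The lifts of members. -/
def V1 (p : C →* Q) (x₀ : C) (B : Set Q) : Set C := sig p x₀ '' B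

/-- The lifts of pairs. -/
def V2 (p : C →* Q) (x₀ : C) (B : Set Q) : Set C :=
  {y | ∃ s ∈ B, ∃ t ∈ B, s ≠ t ∧ y = sig p x₀ s * sig p x₀ t}

/-- The lifts of triples. -/
def V3 (p : C →* Q) (x₀ : C) (B : Set Q) : Set C :=
  {y | ∃ s ∈ B, ∃ t ∈ B, ∃ u ∈ B, s ≠ t ∧ s ≠ u ∧ t ≠ u ∧
    y = sig p x₀ s * sig p x₀ t * sig p x₀ u}

theorem Cov.exists_stab (X : Cov p z E) (hB : Blk E B) {a b c a' b' c' : Q} (ha : a ∈ B) (hb : b ∈ B)
    (hc : c ∈ B) (hab : a ≠ b) (hac : a ≠ c) (hbc : b ≠ c) (ha' : a' ∈ B) (hb' : b' ∈ B) (hc' : c' ∈ B)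
    (hab' : a' ≠ b') (hac' : a' ≠ c') (hbc' : b' ≠ c') :
    ∃ k ∈ stab p B, p k * a * (p k)⁻¹ = a' ∧ p k * b * (p k)⁻¹ = b' ∧ p k * c * (p k)⁻¹ = c' := by
  obtain ⟨g, hg, e1, e2, e3⟩ := move_three X.grp X.prim X.m22 hB hB ha hb hc hab hac hbc ha' hb' hc'
    hab' hac' hbc'
  obtain ⟨k, rfl⟩ := X.surj g
  exact ⟨k, hg, e1, e2, e3⟩

theorem Cov.exists_third (X : Cov p z E) (hB : Blk E B) (a b : Q) : ∃ c ∈ B, c ≠ a ∧ c ≠ b :=
  exists_other X.grp X.prim X.m22 hB a b

theorem Cov.conj_mul2 (X : Cov p z E) (hx : p x₀ ∈ E) (k : C) {s t : Q} (hs : s ∈ E) (ht : t ∈ E) :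
    k * (sig p x₀ s * sig p x₀ t) * k⁻¹ =
      sig p x₀ (p k * s * (p k)⁻¹) * sig p x₀ (p k * t * (p k)⁻¹) := by
  rw [← X.sig_conj hx hs, ← X.sig_conj hx ht]
  group

theorem Cov.conj_mul3 (X : Cov p z E) (hx : p x₀ ∈ E) (k : C) {s t u : Q} (hs : s ∈ E) (ht : t ∈ E)
    (hu : u ∈ E) : k * (sig p x₀ s * sig p x₀ t * sig p x₀ u) * k⁻¹ =
      sig p x₀ (p k * s * (p k)⁻¹) * sig p x₀ (p k * t * (p k)⁻¹) * sig p x₀ (p k * u * (p k)⁻¹) := by
  rw [← X.sig_conj hx hs, ← X.sig_conj hx ht, ← X.sig_conj hx hu]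
  group

/-- The stabiliser acts transitively on each kind of lift. -/
theorem Cov.orbits (X : Cov p z E) (hx : p x₀ ∈ E) (hB : Blk E B) :
    (∀ k ∈ stab p B, ∀ y, (y ∈ V1 p x₀ B → k * y * k⁻¹ ∈ V1 p x₀ B) ∧
      (y ∈ V2 p x₀ B → k * y * k⁻¹ ∈ V2 p x₀ B) ∧ (y ∈ V3 p x₀ B → k * y * k⁻¹ ∈ V3 p x₀ B)) ∧
    (∀ y ∈ V1 p x₀ B, ∀ y' ∈ V1 p x₀ B, ∃ k ∈ stab p B, k * y * k⁻¹ = y') ∧
    (∀ y ∈ V2 p x₀ B, ∀ y' ∈ V2 p x₀ B, ∃ k ∈ stab p B, k * y * k⁻¹ = y') ∧
    (∀ y ∈ V3 p x₀ B, ∀ y' ∈ V3 p x₀ B, ∃ k ∈ stab p B, k * y * k⁻¹ = y') := by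
  have hne : ∀ {g a b : Q}, a ≠ b → g * a * g⁻¹ ≠ g * b * g⁻¹ := fun h e =>
    h (mul_left_cancel (mul_right_cancel e))
  refine ⟨fun k hk y => ⟨?_, ?_, ?_⟩, ?_, ?_, ?_⟩
  · rintro ⟨s, hs, rfl⟩
    exact ⟨_, mem_stab_conj hk hs, (X.sig_conj hx (hB.sub hs) k).symm⟩
  · rintro ⟨s, hs, t, ht, hst, rfl⟩
    exact ⟨_, mem_stab_conj hk hs, _, mem_stab_conj hk ht, hne hst,
      X.conj_mul2 hx k (hB.sub hs) (hB.sub ht)⟩
  · rintro ⟨s, hs, t, ht, u, hu, hst, hsu, htu, rfl⟩
    exact ⟨_, mem_stab_conj hk hs, _, mem_stab_conj hk ht, _, mem_stab_conj hk hu, hne hst, hne hsu,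
      hne htu, X.conj_mul3 hx k (hB.sub hs) (hB.sub ht) (hB.sub hu)⟩
  · rintro _ ⟨s, hs, rfl⟩ _ ⟨s', hs', rfl⟩
    obtain ⟨t, ht, hts, -⟩ := X.exists_third hB s s
    obtain ⟨u, hu, hus, hut⟩ := X.exists_third hB s t
    obtain ⟨t', ht', hts', -⟩ := X.exists_third hB s' s'
    obtain ⟨u', hu', hus', hut'⟩ := X.exists_third hB s' t'
    obtain ⟨k, hk, e, -, -⟩ := X.exists_stab hB hs ht hu hts.symm hus.symm hut.symm hs' ht' hu'
      hts'.symm hus'.symm hut'.symm
    exact ⟨k, hk, by rw [X.sig_conj hx (hB.sub hs), e]⟩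
  · rintro _ ⟨s, hs, t, ht, hst, rfl⟩ _ ⟨s', hs', t', ht', hst', rfl⟩
    obtain ⟨u, hu, hus, hut⟩ := X.exists_third hB s t
    obtain ⟨u', hu', hus', hut'⟩ := X.exists_third hB s' t'
    obtain ⟨k, hk, e1, e2, -⟩ := X.exists_stab hB hs ht hu hst hus.symm hut.symm hs' ht' hu'
      hst' hus'.symm hut'.symm
    exact ⟨k, hk, by rw [X.conj_mul2 hx k (hB.sub hs) (hB.sub ht), e1, e2]⟩
  · rintro _ ⟨s, hs, t, ht, u, hu, hst, hsu, htu, rfl⟩ _
      ⟨s', hs', t', ht', u', hu', hst', hsu', htu', rfl⟩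
    obtain ⟨k, hk, e1, e2, e3⟩ := X.exists_stab hB hs ht hu hst hsu htu hs' ht' hu' hst' hsu' htu'
    exact ⟨k, hk, by rw [X.conj_mul3 hx k (hB.sub hs) (hB.sub ht) (hB.sub hu), e1, e2, e3]⟩

end block

end Cfsg.Agent.ThreeTransM22Cover72
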