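import Cfsg.Agent.Lib.ThreeTransM22Cover72

/-!
# The orbits in the preimage of a maximal commuting set

The images of the lifts of members, pairs and triples number 22, 231 and 770, and an invariant subset
of the preimage contains, of the lifts of each kind, none, one class or all.
-/

set_option autoImplicit false
set_option linter.unusedSectionVars false
set_option linter.style.haveILetI false

namespace Cfsg.Agent.ThreeTransM22CoverCount72

open Subgroup Cfsg.Agent.ThreeTransRel Cfsg.Agent.ThreeTransDescent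
open Cfsg.Agent.ThreeTransM22Outer72 Cfsg.Agent.ThreeTransM22Block72 Cfsg.Agent.M22BlockCode72
open Cfsg.Agent.ThreeTransM22Cover72

variable {C Q : Type*} [Group C] [Group Q] [Finite C] [Finite Q]
variable {p : C →* Q} {z x₀ : C} {E B : Set Q} {x : Fin 22 → Q}

attribute [local irreducible] single M22BlockCode72.two three

theorem bits (X : Cov p z E) (hx : p x₀ ∈ E) (hB : Blk E B) (m : Model E B x) :
    (p '' V1 p x₀ B = (fun n => ev x n) '' {n | n < 1024 ∧ single.testBit n = true}) ∧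
    (p '' V2 p x₀ B = (fun n => ev x n) '' {n | n < 1024 ∧ two.testBit n = true}) ∧
    (p '' V3 p x₀ B = (fun n => ev x n) '' {n | n < 1024 ∧ three.testBit n = true}) := by
  have hidx : ∀ s ∈ B, ∃ i, x i = s := fun s hs => (m.range_eq ▸ hs : s ∈ Set.range x)
  have hp : ∀ i, p (sig p x₀ (x i)) = x i := fun i => (X.sig_spec hx (hB.sub (m.mem i))).2
  have he2 : ∀ i j, x i * x j = ev x (mv i ^^^ mv j) := fun i j => by
    rw [m.rep.toInv.ev_xor, ← m.rep.member, ← m.rep.member]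
  have he3 : ∀ i j k, x i * x j * x k = ev x (mv i ^^^ mv j ^^^ mv k) := fun i j k => by
    rw [m.rep.toInv.ev_xor, ← he2, ← m.rep.member]
  have hne : ∀ {i j}, x i ≠ x j ↔ i ≠ j := fun {i j} => m.inj.ne_iff
  refine ⟨Set.ext fun q => ⟨?_, ?_⟩, Set.ext fun q => ⟨?_, ?_⟩, Set.ext fun q => ⟨?_, ?_⟩⟩
  · rintro ⟨_, ⟨s, hs, rfl⟩, rfl⟩
    obtain ⟨i, rfl⟩ := hidx s hs
    exact ⟨mv i, ⟨mv_lt i, mem_single.mpr ⟨i, rfl⟩⟩, by rw [hp]; exact (m.rep.member i).symm⟩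
  · rintro ⟨n, ⟨-, hn⟩, rfl⟩
    obtain ⟨i, rfl⟩ := mem_single.mp hn
    exact ⟨_, ⟨x i, m.mem i, rfl⟩, by rw [hp]; exact m.rep.member i⟩
  · rintro ⟨_, ⟨s, hs, t, ht, hst, rfl⟩, rfl⟩
    obtain ⟨i, rfl⟩ := hidx s hs
    obtain ⟨j, rfl⟩ := hidx t ht
    refine ⟨mv i ^^^ mv j, ⟨Nat.xor_lt_two_pow (n := 10) (mv_lt i) (mv_lt j), ?_⟩, ?_⟩
    · rcases lt_or_gt_of_ne (hne.mp hst) with h | h
      · exact mem_two.mpr ⟨i, j, h, rfl⟩
      · exact mem_two.mpr ⟨j, i, h, Nat.xor_comm _ _⟩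
    · rw [map_mul, hp, hp, he2]
  · rintro ⟨n, ⟨-, hn⟩, rfl⟩
    obtain ⟨i, j, hij, rfl⟩ := mem_two.mp hn
    exact ⟨_, ⟨x i, m.mem i, x j, m.mem j, hne.mpr hij.ne, rfl⟩, by rw [map_mul, hp, hp]; exact he2 i j⟩
  · rintro ⟨_, ⟨s, hs, t, ht, u, hu, hst, hsu, htu, rfl⟩, rfl⟩
    obtain ⟨i, rfl⟩ := hidx s hs
    obtain ⟨j, rfl⟩ := hidx t ht
    obtain ⟨k, rfl⟩ := hidx u hu
    refine ⟨mv i ^^^ mv j ^^^ mv k,
      ⟨Nat.xor_lt_two_pow (n := 10) (Nat.xor_lt_two_pow (mv_lt i) (mv_lt j)) (mv_lt k), ?_⟩, ?_⟩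
    · rw [mem_three]
      rcases lt_or_gt_of_ne (hne.mp hst) with h1 | h1 <;>
        rcases lt_or_gt_of_ne (hne.mp hsu) with h2 | h2 <;>
        rcases lt_or_gt_of_ne (hne.mp htu) with h3 | h3 <;>
        first
        | exact ⟨i, j, k, h1, h3, rfl⟩
        | exact ⟨i, k, j, h2, h3, by ac_rfl⟩
        | exact ⟨j, i, k, h1, h2, by ac_rfl⟩
        | exact ⟨j, k, i, h3, h2, by ac_rfl⟩
        | exact ⟨k, i, j, h2, h1, by ac_rfl⟩
        | exact ⟨k, j, i, h3, h1, by ac_rfl⟩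
    · rw [map_mul, map_mul, hp, hp, hp, he3]
  · rintro ⟨n, ⟨-, hn⟩, rfl⟩
    obtain ⟨i, j, k, hij, hjk, rfl⟩ := mem_three.mp hn
    exact ⟨_, ⟨x i, m.mem i, x j, m.mem j, x k, m.mem k, hne.mpr hij.ne, hne.mpr (hij.trans hjk).ne,
      hne.mpr hjk.ne, rfl⟩, by rw [map_mul, map_mul, hp, hp, hp]; exact he3 i j k⟩

theorem ncard_bits (M c : ℕ) (h : ((List.range 1024).filter fun n => M.testBit n).length = c) :
    {n | n < 1024 ∧ M.testBit n = true}.ncard = c := by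
  have e : {n | n < 1024 ∧ M.testBit n = true} =
      ↑(((List.range 1024).filter fun n => M.testBit n).toFinset) := by
    ext n; simp
  rw [e, Set.ncard_coe_finset, List.toFinset_card_of_nodup (List.nodup_range.filter _), h]

/-- The images of the three kinds: their sizes, and that with one they fill the group. -/
theorem images (X : Cov p z E) (hx : p x₀ ∈ E) (hB : Blk E B) :
    (p '' V1 p x₀ B).ncard = 22 ∧ (p '' V2 p x₀ B).ncard = 231 ∧ (p '' V3 p x₀ B).ncard = 770 ∧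
    (∀ q ∈ closure B, q = 1 ∨ q ∈ p '' V1 p x₀ B ∨ q ∈ p '' V2 p x₀ B ∨ q ∈ p '' V3 p x₀ B) ∧
    Disjoint (p '' V1 p x₀ B) (p '' V2 p x₀ B) ∧ Disjoint (p '' V1 p x₀ B) (p '' V3 p x₀ B) ∧
    Disjoint (p '' V2 p x₀ B) (p '' V3 p x₀ B) ∧
    ((1 : Q) ∉ p '' V1 p x₀ B ∧ (1 : Q) ∉ p '' V2 p x₀ B ∧ (1 : Q) ∉ p '' V3 p x₀ B) := by
  obtain ⟨a, ha⟩ := block_nonempty X.grp X.prim X.m22 hB
  obtain ⟨x, m, -⟩ := exists_model X.grp X.prim X.m22 hB ha
  obtain ⟨b1, b2, b3⟩ := bits X hx hB m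
  rw [b1, b2, b3]
  have hinj : Set.InjOn (fun n => ev x n) {n | n < 1024} := fun i hi j hj e => m.ev_inj hi hj e
  have hc : ∀ M c : ℕ, ((List.range 1024).filter fun n => M.testBit n).length = c →
      ((fun n => ev x n) '' {n | n < 1024 ∧ M.testBit n = true}).ncard = c := fun M c h => by
    rw [Set.ncard_image_of_injOn (hinj.mono fun n hn => hn.1), ncard_bits M c h]
  have hdis : ∀ M M' : ℕ, M &&& M' = 0 → Disjoint ((fun n => ev x n) '' {n | n < 1024 ∧ M.testBit n = true})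
      ((fun n => ev x n) '' {n | n < 1024 ∧ M'.testBit n = true}) := by
    intro M M' h
    rw [Set.disjoint_left]
    rintro _ ⟨i, ⟨hi, bi⟩, rfl⟩ ⟨j, ⟨hj, bj⟩, e⟩
    obtain rfl := hinj hj hi e
    have := congrArg (fun n => n.testBit j) h
    simp [bi, bj] at this
  have hone : ∀ M : ℕ, M.testBit 0 = false →
      (1 : Q) ∉ (fun n => ev x n) '' {n | n < 1024 ∧ M.testBit n = true} := by
    rintro M h ⟨i, ⟨hi, bi⟩, e⟩
    obtain rfl := hinj hi (show (0 : ℕ) < 1024 by norm_num) (e.trans (ev_zero x).symm)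
    rw [h] at bi
    exact absurd bi (by simp)
  obtain ⟨d1, d2, d3, o1, o2, o3⟩ := disjoint_classes
  refine ⟨hc _ _ count_single, hc _ _ count_two, hc _ _ count_three, fun q hq => ?_, hdis _ _ d1,
    hdis _ _ d2, hdis _ _ d3, hone _ o1, hone _ o2, hone _ o3⟩
  obtain ⟨n, hn, rfl⟩ := m.mem_closure.mp hq
  by_cases h0 : n = 0
  · exact Or.inl (h0 ▸ ev_zero x)
  rcases cover ⟨n, hn⟩ h0 with h | h | h
  · exact Or.inr (Or.inl ⟨n, ⟨hn, h⟩, rfl⟩)
  · exact Or.inr (Or.inr (Or.inl ⟨n, ⟨hn, h⟩, rfl⟩))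
  · exact Or.inr (Or.inr (Or.inr ⟨n, ⟨hn, h⟩, rfl⟩))

/-- Pairs are determined by their products. -/
theorem pair_unique (X : Cov p z E) (hB : Blk E B) {s t s' t' : Q} (hs : s ∈ B) (ht : t ∈ B)
    (hst : s ≠ t) (hs' : s' ∈ B) (ht' : t' ∈ B) (hst' : s' ≠ t') (e : s * t = s' * t') :
    (s = s' ∧ t = t') ∨ (s = t' ∧ t = s') := by
  obtain ⟨x, m, -⟩ := exists_model X.grp X.prim X.m22 hB hs
  have hidx : ∀ s ∈ B, ∃ i, x i = s := fun s hs => (m.range_eq ▸ hs : s ∈ Set.range x)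
  obtain ⟨i, rfl⟩ := hidx s hs
  obtain ⟨j, rfl⟩ := hidx t ht
  obtain ⟨k, rfl⟩ := hidx s' hs'
  obtain ⟨l, rfl⟩ := hidx t' ht'
  rw [m.rep.member i, m.rep.member j, m.rep.member k, m.rep.member l, ← m.rep.toInv.ev_xor,
    ← m.rep.toInv.ev_xor] at e
  have h := m.ev_inj (Nat.xor_lt_two_pow (n := 10) (mv_lt i) (mv_lt j))
    (Nat.xor_lt_two_pow (n := 10) (mv_lt k) (mv_lt l)) e
  rcases lt_or_gt_of_ne (m.inj.ne_iff.mp hst) with h1 | h1 <;>
    rcases lt_or_gt_of_ne (m.inj.ne_iff.mp hst') with h2 | h2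
  · obtain ⟨rfl, rfl⟩ := pair_inj i j h1 k l h2 h; exact Or.inl ⟨rfl, rfl⟩
  · obtain ⟨rfl, rfl⟩ := pair_inj i j h1 l k h2 (by rw [h, Nat.xor_comm]); exact Or.inr ⟨rfl, rfl⟩
  · obtain ⟨rfl, rfl⟩ := pair_inj j i h1 k l h2 (by rw [Nat.xor_comm, h]); exact Or.inr ⟨rfl, rfl⟩
  · obtain ⟨rfl, rfl⟩ := pair_inj j i h1 l k h2 (by rw [Nat.xor_comm, h, Nat.xor_comm])
    exact Or.inl ⟨rfl, rfl⟩

/-- An invariant set meets the preimage of the image of an orbit in nothing, everything, or one lift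
of each element. -/
theorem piece (X : Cov p z E) {H : Subgroup C} {V O : Set C}
    (hV : ∀ k ∈ H, ∀ y ∈ V, k * y * k⁻¹ ∈ V) (htr : ∀ y ∈ V, ∀ y' ∈ V, ∃ k ∈ H, k * y * k⁻¹ = y')
    (hO : ∀ k ∈ H, ∀ y ∈ O, k * y * k⁻¹ ∈ O) :
    (O ∩ p ⁻¹' (p '' V) = ∅) ∨
    (p ⁻¹' (p '' V) ⊆ O ∧ (O ∩ p ⁻¹' (p '' V)).ncard = 2 * (p '' V).ncard) ∨
    ((O ∩ p ⁻¹' (p '' V)).ncard = (p '' V).ncard ∧ (∀ y ∈ V, y * z ∉ V) ∧
      (∀ y, y ∈ O → y * z ∈ O → y ∉ p ⁻¹' (p '' V)) ∧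
      ((O ∩ p ⁻¹' (p '' V) = V) ∨ (O ∩ p ⁻¹' (p '' V) = (· * z) '' V))) := by
  classical
  have hmem : ∀ y, y ∈ p ⁻¹' (p '' V) ↔ y ∈ V ∨ y * z ∈ V := fun y => by
    constructor
    · rintro ⟨v, hv, e⟩
      rcases X.fib e with h | h
      · exact Or.inl (h ▸ hv)
      · exact Or.inr (h ▸ hv)
    · rintro (h | h)
      · exact ⟨y, h, rfl⟩
      · exact ⟨_, h, X.map_mul_z y⟩
  have inV : ∀ y ∈ V, y ∈ O → V ⊆ O := fun y hy hyO y' hy' => by
    obtain ⟨k, hk, rfl⟩ := htr y hy y' hy'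
    exact hO k hk y hyO
  have inVz : ∀ y ∈ V, y * z ∈ O → ∀ y' ∈ V, y' * z ∈ O := fun y hy hyO y' hy' => by
    obtain ⟨k, hk, rfl⟩ := htr y hy y' hy'
    rw [← X.conj_z]; exact hO k hk _ hyO
  have hcard : ∀ T : Set C, Set.InjOn p T → p '' T = p '' V → T.ncard = (p '' V).ncard :=
    fun T hi e => by rw [← e, Set.ncard_image_of_injOn hi]
  by_cases h1 : ∃ y ∈ V, y ∈ O <;> by_cases h2 : ∃ y ∈ V, y * z ∈ O
  · -- everything
    obtain ⟨y, hy, hyO⟩ := h1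
    obtain ⟨y', hy', hyO'⟩ := h2
    have hsub : p ⁻¹' (p '' V) ⊆ O := fun w hw => by
      rcases (hmem w).mp hw with h | h
      · exact inV y hy hyO h
      · simpa [X.mul_z_z] using inVz y' hy' hyO' _ h
    refine Or.inr (Or.inl ⟨hsub, ?_⟩)
    rw [Set.inter_eq_right.mpr hsub]
    choose f hf hpf using fun q : ↥(p '' V) => q.2
    set T := Set.range f with hT
    have hTi : Set.InjOn p T := by
      rintro _ ⟨q, rfl⟩ _ ⟨r, rfl⟩ e
      rw [hpf, hpf] at e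
      rw [Subtype.ext e]
    have hTim : p '' T = p '' V := by
      refine Set.Subset.antisymm ?_ fun q hq => ⟨f ⟨q, hq⟩, ⟨_, rfl⟩, hpf _⟩
      rintro _ ⟨_, ⟨q, rfl⟩, rfl⟩
      exact ⟨_, hf q, rfl⟩
    have hun : p ⁻¹' (p '' V) = T ∪ (· * z) '' T := by
      refine Set.Subset.antisymm (fun w hw => ?_) ?_
      · have := hpf ⟨p w, hw⟩
        rcases X.fib this.symm with h | h
        · exact Or.inl ⟨_, h.symm⟩
        · exact Or.inr ⟨_, ⟨_, rfl⟩, h.symm⟩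
      · rintro w (⟨q, rfl⟩ | ⟨_, ⟨q, rfl⟩, rfl⟩)
        · exact ⟨_, hf q, rfl⟩
        · exact ⟨_, hf q, (X.map_mul_z _).symm⟩
    rw [hun, Set.ncard_union_eq, Set.ncard_image_of_injective _ (mul_left_injective z),
      hcard T hTi hTim, two_mul]
    rw [Set.disjoint_left]
    rintro w hw ⟨w', hw', rfl⟩
    exact X.mul_z_ne w' (hTi hw hw' (X.map_mul_z w'))
  · -- one class
    obtain ⟨y, hy, hyO⟩ := h1
    push Not at h2
    have hVV : ∀ v ∈ V, v * z ∉ V := fun v hv hvz => h2 v hv (inV y hy hyO hvz)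
    have hset : O ∩ p ⁻¹' (p '' V) = V := by
      refine Set.Subset.antisymm (fun w hw => ?_) fun w hw => ⟨inV y hy hyO hw, w, hw, rfl⟩
      rcases (hmem w).mp hw.2 with h | h
      · exact h
      · exact absurd (by simpa [X.mul_z_z] using hw.1) (h2 _ h)
    refine Or.inr (Or.inr ⟨?_, hVV, fun w hw hwz hwP => ?_, Or.inl hset⟩)
    · rw [hset]
      exact hcard V (fun a ha b hb e => (X.fib e).resolve_right fun h => hVV b hb (h ▸ ha)) rfl
    · rcases (hmem w).mp hwP with h | h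
      · exact h2 w h hwz
      · exact h2 _ h (by simpa [X.mul_z_z] using hw)
  · -- the other class
    obtain ⟨y, hy, hyO⟩ := h2
    push Not at h1
    have hVV : ∀ v ∈ V, v * z ∉ V := fun v hv hvz => h1 _ hvz (inVz y hy hyO v hv)
    have hset : O ∩ p ⁻¹' (p '' V) = (· * z) '' V := by
      refine Set.Subset.antisymm (fun w hw => ?_) ?_
      · rcases (hmem w).mp hw.2 with h | h
        · exact absurd hw.1 (h1 w h)
        · exact ⟨w * z, h, X.mul_z_z w⟩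
      · rintro _ ⟨v, hv, rfl⟩
        exact ⟨inVz y hy hyO v hv, v, hv, (X.map_mul_z v).symm⟩
    refine Or.inr (Or.inr ⟨?_, hVV, fun w hw hwz hwP => ?_, Or.inr hset⟩)
    · rw [hset, Set.ncard_image_of_injective _ (mul_left_injective z)]
      exact hcard V (fun a ha b hb e => (X.fib e).resolve_right fun h => hVV b hb (h ▸ ha)) rfl
    · rcases (hmem w).mp hwP with h | h
      · exact h1 w h hw
      · exact h1 _ h hwz
  · refine Or.inl (Set.eq_empty_of_forall_notMem fun w hw => ?_)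
    rcases (hmem w).mp hw.2 with h | h
    · exact h1 ⟨w, h, hw.1⟩
    · exact h2 ⟨_, h, by simpa [X.mul_z_z] using hw.1⟩

end Cfsg.Agent.ThreeTransM22CoverCount72
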