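import Cfsg.Agent.Lib.UnitaryF4Line
import Cfsg.Agent.Lib.UnitaryImageFields
import Cfsg.Prelude.Def_FischerSpaces

/-!
# Elements of order eleven in six-dimensional orthogonal and unitary groups

An isometry group of a six-dimensional form over three elements has no element of order 11; an element of
order 11 of `SU₆(2)` has no isotropic eigenvector, stabilizes no totally isotropic subspace and generates its
centralizer modulo scalars.
-/

set_option autoImplicit false
set_option linter.unusedSectionVars false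
set_option linter.style.haveILetI false

namespace Cfsg.Agent.ThreeTransM22ElevenLin10

open Polynomial

theorem finrank_mod {K V : Type*} [Field K] [Fintype K] [AddCommGroup V] [Module K V] [Finite V]
    (f : V →ₗ[K] V) (hf : f ^ 11 = 1) (U : Submodule K V) (hU : ∀ v ∈ U, f v ∈ U)
    (hfix : ∀ v ∈ U, f v = v → v = 0) : Fintype.card K ^ Module.finrank K U % 11 = 1 := by
  classical
  haveI : Fintype U := Fintype.ofFinite _
  haveI : Fact (Nat.Prime 11) := ⟨by norm_num⟩
  let σ₀ : U → U := fun v => ⟨f v, hU v v.2⟩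
  have hinj : Function.Injective σ₀ := fun a b e => by
    have e' : f (a : V) = f (b : V) := congrArg Subtype.val e
    have := congrArg (fun x => (f ^ 10) x) e'
    simp only [← Module.End.mul_apply, ← pow_succ, hf, Module.End.one_apply] at this
    exact Subtype.ext this
  let σ : Equiv.Perm U := Equiv.ofBijective σ₀ (Finite.injective_iff_bijective.mp hinj)
  have hσ : ∀ (i : ℕ) (v : U), (((σ ^ i) v : U) : V) = (f ^ i) (v : V) := by
    intro i
    induction i with
    | zero => intro v; simp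
    | succ i ih =>
      intro v
      rw [pow_succ', pow_succ', Equiv.Perm.mul_apply, Module.End.mul_apply, ← ih]
      rfl
  have hσ11 : σ ^ 11 ^ 1 = 1 := by
    ext v
    rw [pow_one, hσ, hf]
    rfl
  have h := Equiv.Perm.card_compl_support_modEq hσ11
  have hc : σ.supportᶜ = {0} := by
    ext v
    simp only [Finset.mem_compl, Equiv.Perm.mem_support, not_not, Finset.mem_singleton]
    constructor
    · intro e
      exact Subtype.ext (hfix v v.2 (congrArg Subtype.val e))
    · rintro rfl
      exact Subtype.ext (map_zero f)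
  rw [hc, Finset.card_singleton] at h
  rw [← Module.card_eq_pow_finrank (K := K) (V := U)]
  exact h.symm

/-- A number dividing all blocks of a partition divides the whole. -/
theorem dvd_of_orbits {α : Type*} [Finite α] (n : ℕ) (K : α → Set α) {s : Set α}
    (H : ∀ a ∈ s, a ∈ K a ∧ K a ⊆ s ∧ (K a).ncard = n ∧ ∀ b ∈ K a, K b = K a) : n ∣ s.ncard := by
  induction hm : s.ncard using Nat.strong_induction_on generalizing s with
  | _ m ih =>
    rcases Set.eq_empty_or_nonempty s with rfl | ⟨a, ha⟩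
    · rw [Set.ncard_empty] at hm; rw [← hm]; exact dvd_zero n
    obtain ⟨haK, hKs, hn, hcl⟩ := H a ha
    have hsum := Set.ncard_sdiff_add_ncard_of_subset hKs (Set.toFinite _)
    have hpos : 0 < (K a).ncard := (Set.ncard_pos (Set.toFinite _)).mpr ⟨a, haK⟩
    rw [← hm, ← hsum]
    refine dvd_add (ih _ (by omega) (fun b hb => ?_) rfl) (dvd_of_eq hn.symm)
    obtain ⟨hbK, hKbs, hnb, hbb⟩ := H b hb.1
    refine ⟨hbK, fun c hc => ⟨hKbs hc, fun hca => hb.2 ?_⟩, hnb, hbb⟩
    rw [← hcl c hca, hbb c hc]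
    exact hbK

section orth

variable {Q : QuadraticForm (ZMod 3) (Fin 6 → ZMod 3)}

noncomputable def q₁ : (ZMod 3)[X] := X ^ 5 + 2 * X ^ 3 + X ^ 2 + 2 * X + 2
noncomputable def q₂ : (ZMod 3)[X] := X ^ 5 + X ^ 4 + 2 * X ^ 3 + X ^ 2 + 2

theorem three_zero : (3 : (ZMod 3)[X]) = 0 := by
  have : ((3 : ℕ) : (ZMod 3)[X]) = 0 := CharP.cast_eq_zero _ 3
  exact_mod_cast this

theorem q₁_one : q₁.eval 1 ≠ 0 := by simp [q₁]; decide

theorem q₂_one : q₂.eval 1 ≠ 0 := by simp [q₂]; decide

theorem two_ne : (2 : ZMod 3) ≠ 0 := by decide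

theorem factor : (X - 1) * q₁ * q₂ = (X : (ZMod 3)[X]) ^ 11 - 1 := by
  unfold q₁ q₂
  linear_combination (-1 + -2 * X ^ 3 + X ^ 4 + -1 * X ^ 5 + X ^ 6 + X ^ 7 + X ^ 9) *
    three_zero

theorem bezout : (X + 2 * X ^ 2 + 2 * X ^ 4) * q₁ + (2 + 2 * X + 2 * X ^ 2 + 2 * X ^ 3 + X ^ 4) * q₂ =
    (1 : (ZMod 3)[X]) := by
  unfold q₁ q₂
  linear_combination (1 + 2 * X + 4 * X ^ 2 + 5 * X ^ 3 + 6 * X ^ 4 + 6 * X ^ 5 + 4 * X ^ 6 +
    4 * X ^ 7 + X ^ 8 + X ^ 9) * three_zero

theorem recip₁ : q₁.comp (X ^ 10) * ((X ^ 10) - 1) * X ^ 6 + 2 * (q₂ * (X - 1)) =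
    (X ^ 11 - 1) * (1 + -1 * X + 2 * X ^ 2 + -1 * X ^ 3 + X ^ 4 + X ^ 11 + -1 * X ^ 12 + 2 * X ^ 13 +
      -1 * X ^ 14 + X ^ 15 + X ^ 22 + -1 * X ^ 23 + 2 * X ^ 24 + -1 * X ^ 25 + X ^ 33 + -1 * X ^ 34 +
      2 * X ^ 35 + X ^ 44 + -1 * X ^ 45 + (X : (ZMod 3)[X]) ^ 55) := by
  simp only [q₁, q₂, add_comp, mul_comp, X_pow_comp, X_comp, ofNat_comp]
  linear_combination (-1 + X + -1 * X ^ 3 + X ^ 4) * three_zero

theorem recip₂ : q₂.comp (X ^ 10) * ((X ^ 10) - 1) * X ^ 6 + 2 * (q₁ * (X - 1)) =
    (X ^ 11 - 1) * (1 + X ^ 2 + -1 * X ^ 3 + -1 * X ^ 4 + 2 * X ^ 5 + X ^ 11 + X ^ 13 + -1 * X ^ 14 +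
      -1 * X ^ 15 + X ^ 22 + X ^ 24 + -1 * X ^ 25 + X ^ 33 + X ^ 35 + X ^ 44 +
      (X : (ZMod 3)[X]) ^ 55) := by
  simp only [q₁, q₂, add_comp, mul_comp, X_pow_comp, X_comp, ofNat_comp]
  linear_combination (-1 + X ^ 2 + -1 * X ^ 3 + X ^ 4) * three_zero

/-- An orthogonal transformation of order dividing eleven in dimension six is trivial. -/
theorem orth_eq_one (hQ : (QuadraticMap.polarBilin Q).Nondegenerate)
    (g : (Fin 6 → ZMod 3) →ₗ[ZMod 3] (Fin 6 → ZMod 3))
    (hg : ∀ v w, QuadraticMap.polar Q (g v) (g w) = QuadraticMap.polar Q v w) (h11 : g ^ 11 = 1) :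
    g = 1 := by
  haveI : Fact (Nat.Prime 3) := ⟨by norm_num⟩
  have hadd : ∀ a b c : Fin 6 → ZMod 3, QuadraticMap.polar Q (a + b) c =
      QuadraticMap.polar Q a c + QuadraticMap.polar Q b c := QuadraticMap.polar_add_left Q
  have hadj : ∀ (i : ℕ) v w, QuadraticMap.polar Q ((g ^ i) v) w =
      QuadraticMap.polar Q v (((g ^ 10) ^ i) w) := by
    intro i
    induction i with
    | zero => intro v w; simp
    | succ i ih =>
      intro v w
      rw [pow_succ g i, Module.End.mul_apply, ih, pow_succ' (g ^ 10) i, Module.End.mul_apply]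
      generalize ((g ^ 10) ^ i) w = z
      rw [← hg v ((g ^ 10) z), ← Module.End.mul_apply g (g ^ 10) z, ← pow_succ', h11,
        Module.End.one_apply]
  have hpoly : ∀ (f : (ZMod 3)[X]) v w, QuadraticMap.polar Q (aeval g f v) w =
      QuadraticMap.polar Q v (aeval (g ^ 10) f w) := by
    intro f
    induction f using Polynomial.induction_on' with
    | add a b ha hb =>
      intro v w
      rw [map_add, map_add, LinearMap.add_apply, LinearMap.add_apply, hadd, ha, hb,
        QuadraticMap.polar_add_right]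
    | monomial i c =>
      intro v w
      rw [aeval_monomial, aeval_monomial, ← Algebra.smul_def, ← Algebra.smul_def,
        LinearMap.smul_apply, LinearMap.smul_apply, QuadraticMap.polar_smul_left,
        QuadraticMap.polar_smul_right, hadj]
  have hX : aeval g (X ^ 11 - 1 : (ZMod 3)[X]) = 0 := by simp [h11]
  have hfac : aeval g q₂ * (aeval g q₁ * aeval g (X - 1 : (ZMod 3)[X])) = 0 := by
    rw [← map_mul, ← map_mul, show q₂ * (q₁ * (X - 1)) = (X - 1) * q₁ * q₂ by ring, factor, hX]
  have hdim : ∀ f : (ZMod 3)[X], f.eval 1 ≠ 0 →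
      LinearMap.ker (aeval g f) = ⊥ ∨ 5 ≤ Module.finrank (ZMod 3) ↥(LinearMap.ker (aeval g f)) := by
    intro f hf
    have hm := finrank_mod g h11 (LinearMap.ker (aeval g f))
      (fun v hv => by
        rw [LinearMap.mem_ker] at hv ⊢
        have hc : aeval g f * g = g * aeval g f := by
          conv_lhs => arg 2; rw [← aeval_X (R := ZMod 3) g]
          conv_rhs => arg 1; rw [← aeval_X (R := ZMod 3) g]
          rw [← map_mul, ← map_mul, mul_comm]
        rw [← Module.End.mul_apply, hc, Module.End.mul_apply, hv, map_zero])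
      (fun v hv hfv => by
        by_contra hv0
        have he : Module.End.HasEigenvector g 1 v :=
          ⟨Module.End.mem_eigenspace_iff.mpr (by rw [one_smul]; exact hfv), hv0⟩
        rw [LinearMap.mem_ker, Module.End.aeval_apply_of_hasEigenvector he] at hv
        exact hv0 ((smul_eq_zero.mp hv).resolve_left hf))
    rw [ZMod.card] at hm
    generalize hk : Module.finrank (ZMod 3) ↥(LinearMap.ker (aeval g f)) = k at hm
    rcases Nat.lt_or_ge k 5 with h | h
    · interval_cases k <;> first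
        | (exact Or.inl (Submodule.finrank_eq_zero.mp hk)) | (norm_num at hm)
    · exact Or.inr h
  have hinj : ∀ q q' : (ZMod 3)[X], q.eval 1 ≠ 0 → LinearMap.ker (aeval g q) = ⊥ →
      aeval g (q * (q' * (X - 1))) = 0 →
      (∃ R : (ZMod 3)[X], q'.comp (X ^ 10) * ((X ^ 10) - 1) * X ^ 6 + 2 * (q * (X - 1)) =
        (X ^ 11 - 1) * R) → g = 1 := by
    intro q q' _ hker he ⟨R, hR⟩
    have hi := LinearMap.ker_eq_bot.mp hker
    have h1 : aeval g (q' * (X - 1)) = 0 := LinearMap.ext fun v => hi (by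
      rw [LinearMap.zero_apply, map_zero, ← Module.End.mul_apply, ← map_mul, he, LinearMap.zero_apply])
    have h2 : aeval (g ^ 10) (q' * (X - 1) : (ZMod 3)[X]) = 0 := by
      refine LinearMap.ext fun w => ?_
      by_contra hne
      refine hne (hQ.2 _ fun v => ?_)
      show QuadraticMap.polar Q v _ = 0
      rw [← hpoly, h1]
      simp [QuadraticMap.polar]
    have h3 : aeval g (q'.comp (X ^ 10) * ((X ^ 10) - 1) : (ZMod 3)[X]) = 0 := by
      rw [show (q'.comp (X ^ 10) * ((X ^ 10) - 1) : (ZMod 3)[X]) = (q' * (X - 1)).comp (X ^ 10) by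
        simp [mul_comp, sub_comp], aeval_comp, map_pow, aeval_X, h2]
    have h4 := congrArg (aeval g) hR
    rw [map_add, map_mul (aeval g) (q'.comp _ * _), h3, zero_mul, zero_add,
      map_mul (aeval g) (X ^ 11 - 1) R, hX, zero_mul, map_mul, map_mul] at h4
    refine sub_eq_zero.mp (LinearMap.ext fun v => hi ?_)
    have h5 := LinearMap.congr_fun h4 v
    simp only [map_ofNat, Module.End.mul_apply, map_sub, aeval_X, map_one] at h5
    rw [LinearMap.zero_apply, map_zero]
    have h2z : (2 : ZMod 3) • (aeval g q ((g - 1) v)) = 0 := by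
      rw [show ((2 : ZMod 3) • (aeval g q ((g - 1) v))) = aeval g q ((g - 1) v) + aeval g q ((g - 1) v)
        from by rw [show (2 : ZMod 3) = 1 + 1 from rfl, add_smul, one_smul]]
      rwa [← one_add_one_eq_two, LinearMap.add_apply, Module.End.one_apply, LinearMap.zero_apply] at h5
    exact (smul_eq_zero.mp h2z).resolve_left two_ne
  rcases hdim q₂ q₂_one with h | h
  · exact hinj q₂ q₁ q₂_one h (by rw [map_mul, map_mul]; exact hfac) ⟨_, recip₁⟩
  rcases hdim q₁ q₁_one with h' | h'
  · exact hinj q₁ q₂ q₁_one h'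
      (by rw [show q₁ * (q₂ * (X - 1)) = q₂ * (q₁ * (X - 1)) by ring, map_mul, map_mul]; exact hfac)
      ⟨_, recip₂⟩
  exfalso
  have hdisj : Disjoint (LinearMap.ker (aeval g q₁)) (LinearMap.ker (aeval g q₂)) :=
    Polynomial.disjoint_ker_aeval_of_isCoprime g ⟨_, _, bezout⟩
  have := Submodule.finrank_add_finrank_le_of_disjoint hdisj
  rw [Module.finrank_fin_fun] at this
  omega

/-- The isometry group of a nondegenerate form in dimension six over three elements has order prime to 11. -/
theorem isometry_not_eleven (hQ : (QuadraticMap.polarBilin Q).Nondegenerate) :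
    ¬ 11 ∣ Nat.card ↥(Cfsg.isometryGroup (ZMod 3) (⇑Q)) := by
  haveI : Fact (Nat.Prime 11) := ⟨by norm_num⟩
  haveI : Fact (Nat.Prime 3) := ⟨by norm_num⟩
  intro h
  obtain ⟨⟨g, hgm⟩, hg⟩ := exists_prime_orderOf_dvd_card' 11 h
  rw [Subgroup.orderOf_mk] at hg
  have hpres : ∀ u, Q ((g : Matrix (Fin 6) (Fin 6) (ZMod 3)).mulVec u) = Q u := fun u => hgm u u
  have hlin : Matrix.toLin' (g : Matrix (Fin 6) (Fin 6) (ZMod 3)) = 1 := by
    refine orth_eq_one hQ _ (fun v w => ?_) ?_
    · simp only [QuadraticMap.polar, Matrix.toLin'_apply]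
      rw [← Matrix.mulVec_add, hpres, hpres, hpres]
    · rw [← Matrix.toLin'_pow, ← Units.val_pow_eq_pow_val, ← hg, pow_orderOf_eq_one, Units.val_one,
        Matrix.toLin'_one]
      rfl
  have : g = 1 := Units.ext (Matrix.toLin'.injective (hlin.trans (by rw [Units.val_one, Matrix.toLin'_one]; rfl)))
  rw [this, orderOf_one] at hg
  exact absurd hg (by norm_num)

end orth

section unitary

open UnitaryF4Geo UnitaryF4Line

variable {F : Type} [Field F] [Fintype F] [hF : FourField F]

local notation "act" => OrthUnitaryTransvection.act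
local notation "π" => QuotientGroup.mk' (Subgroup.center (Cfsg.SU 6 F 2))

/-- An element as a linear map. -/
def lin (A : Cfsg.SU 6 F 2) : (Fin 6 → F) →ₗ[F] (Fin 6 → F) where
  toFun := act A
  map_add' := OrthUnitaryTransvection.act_add A
  map_smul' := OrthUnitaryTransvection.act_smul A

theorem lin_apply (A : Cfsg.SU 6 F 2) (v : Fin 6 → F) : lin A v = act A v := rfl

theorem lin_pow (A : Cfsg.SU 6 F 2) (i : ℕ) : lin A ^ i = lin (A ^ i) := by
  induction i with
  | zero => exact LinearMap.ext fun v => (OrthUnitaryTransvection.act_one v).symm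
  | succ i ih =>
    exact LinearMap.ext fun v => by
      rw [pow_succ', Module.End.mul_apply, ih, pow_succ' A, lin_apply, lin_apply, lin_apply,
        OrthUnitaryTransvection.act_mul]

/-- The sum of the powers. -/
noncomputable def P (A : Cfsg.SU 6 F 2) : (Fin 6 → F) →ₗ[F] (Fin 6 → F) :=
  ∑ i ∈ Finset.range 11, lin A ^ i

/-- The moving space. -/
noncomputable def M (A : Cfsg.SU 6 F 2) : Submodule F (Fin 6 → F) := LinearMap.ker (P A)

variable {A : Cfsg.SU 6 F 2} (hA : A ^ 11 = 1) (hA1 : A ≠ 1)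

theorem eleven_eq_one : (11 : F) = 1 := by
  linear_combination (5 : F) * two_eq_zero (F := F)

theorem P_fixed {v : Fin 6 → F} (hv : act A v = v) : P A v = v := by
  have : ∀ i : ℕ, (lin A ^ i) v = v := fun i => by
    induction i with
    | zero => rfl
    | succ i ih => rw [pow_succ, Module.End.mul_apply, lin_apply, hv, ih]
  rw [P, LinearMap.sum_apply, Finset.sum_congr rfl fun i _ => this i, Finset.sum_const,
    Finset.card_range, ← Nat.cast_smul_eq_nsmul F]
  rw [show ((11 : ℕ) : F) = (11 : F) from Nat.cast_ofNat, eleven_eq_one, one_smul]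

include hA

theorem lin_eleven : lin A ^ 11 = 1 := by
  rw [lin_pow, hA]
  exact LinearMap.ext fun v => OrthUnitaryTransvection.act_one v

theorem act_P (v : Fin 6 → F) : act A (P A v) = P A v := by
  have := mul_geom_sum (lin A) 11
  rw [lin_eleven hA, sub_self] at this
  have := LinearMap.congr_fun this v
  rwa [Module.End.mul_apply, LinearMap.sub_apply, Module.End.one_apply, LinearMap.zero_apply,
    sub_eq_zero] at this

theorem P_act (v : Fin 6 → F) : P A (act A v) = P A v := by
  have := geom_sum_mul (lin A) 11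
  rw [lin_eleven hA, sub_self] at this
  have := LinearMap.congr_fun this v
  rwa [Module.End.mul_apply, LinearMap.sub_apply, Module.End.one_apply, map_sub, LinearMap.zero_apply,
    sub_eq_zero] at this

theorem M_stable {v : Fin 6 → F} (hv : v ∈ M A) : act A v ∈ M A := by
  rw [M, LinearMap.mem_ker, P_act hA]; exact hv

theorem M_fixed {v : Fin 6 → F} (hv : v ∈ M A) (hf : act A v = v) : v = 0 :=
  (P_fixed hf).symm.trans hv

theorem add_P_mem (v : Fin 6 → F) : v + P A v ∈ M A := by
  rw [M, LinearMap.mem_ker, map_add, P_fixed (act_P hA v), vec_add_self]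

theorem h_P (v : Fin 6 → F) {u : Fin 6 → F} (hu : act A u = u) : h (P A v) u = h v u := by
  have : ∀ i : ℕ, h ((lin A ^ i) v) u = h v u := by
    intro i
    induction i with
    | zero => rfl
    | succ i ih =>
      conv_lhs => rw [pow_succ', Module.End.mul_apply, lin_apply, ← hu]
      exact (OrthUnitaryTransvection.herm_act A _ _).trans ih
  rw [P, LinearMap.sum_apply]
  rw [show h (∑ i ∈ Finset.range 11, (lin A ^ i) v) u = ∑ i ∈ Finset.range 11, h ((lin A ^ i) v) u by
    simp only [h, Finset.sum_apply, Finset.sum_mul]; exact Finset.sum_comm]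
  rw [Finset.sum_congr rfl fun i _ => this i, Finset.sum_const, Finset.card_range,
    ← Nat.cast_smul_eq_nsmul F, show ((11 : ℕ) : F) = (11 : F) from Nat.cast_ofNat, eleven_eq_one,
    one_smul]

theorem M_orth {v u : Fin 6 → F} (hv : v ∈ M A) (hu : act A u = u) : h v u = 0 := by
  rw [← h_P hA v hu, show P A v = 0 from hv, h_zero_left]

theorem eq_zero_of_orth {w : Fin 6 → F} (h1 : ∀ v ∈ M A, h v w = 0)
    (h2 : ∀ v, act A v = v → h v w = 0) : w = 0 := by
  refine eq_zero_of_h fun v => h_comm_zero ?_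
  rw [show v = (v + P A v) + P A v by rw [add_assoc, vec_add_self, add_zero], h_add_left,
    h1 _ (add_P_mem hA v), h2 _ (act_P hA v), add_zero]

theorem dim_ge {U : Submodule F (Fin 6 → F)} (hU : ∀ v ∈ U, act A v ∈ U)
    (hfix : ∀ v ∈ U, act A v = v → v = 0) (hne : U ≠ ⊥) : Module.finrank F U = 5 := by
  have hm := finrank_mod (lin A) (lin_eleven hA) U hU hfix
  rw [hF.card_eq] at hm
  have hle := Submodule.finrank_le U
  rw [Module.finrank_fin_fun] at hle
  generalize hk : Module.finrank F U = k at hm hle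
  interval_cases k <;> first
    | rfl | (exact absurd (Submodule.finrank_eq_zero.mp hk) hne) | (norm_num at hm)

include hA1

theorem M_ne : M A ≠ ⊥ := fun e => hA1 <| OrthUnitaryTransvection.su_ext fun v => by
  have := add_P_mem hA v
  rw [e, Submodule.mem_bot] at this
  rw [OrthUnitaryTransvection.act_one, vec_eq_of_add this, act_P hA]

theorem M_dim : Module.finrank F (M A) = 5 :=
  dim_ge hA (fun _ hv => M_stable hA hv) (fun _ hv => M_fixed hA hv) (M_ne hA hA1)

theorem eq_M {U : Submodule F (Fin 6 → F)} (hU : ∀ v ∈ U, act A v ∈ U) (hle : U ≤ M A)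
    (hne : U ≠ ⊥) : U = M A :=
  Submodule.eq_of_le_of_finrank_eq hle (by
    rw [M_dim hA hA1, dim_ge hA hU (fun _ hv => M_fixed hA (hle hv)) hne])

/-- The fixed space is spanned by a vector of norm one. -/
theorem exists_fix : ∃ u : Fin 6 → F, act A u = u ∧ h u u = 1 ∧
    ∀ v, act A v = v → ∃ a : F, v = a • u := by
  have hrk := LinearMap.finrank_range_add_finrank_ker (P A)
  rw [Module.finrank_fin_fun] at hrk
  have h5 : Module.finrank F ↥(LinearMap.ker (P A)) = 5 := M_dim hA hA1
  obtain ⟨⟨u, hu⟩, hu0, hall⟩ :=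
    finrank_eq_one_iff'.mp (show Module.finrank F ↥(LinearMap.range (P A)) = 1 by omega)
  have hspan : ∀ v, act A v = v → ∃ a : F, v = a • u := fun v hv => by
    obtain ⟨a, ha⟩ := hall ⟨v, LinearMap.mem_range.mpr ⟨v, P_fixed hv⟩⟩
    exact ⟨a, (congrArg Subtype.val ha).symm⟩
  obtain ⟨x, rfl⟩ := LinearMap.mem_range.mp hu
  refine ⟨P A x, act_P hA x, (h_self _).resolve_left fun h0 => hu0 (Subtype.ext ?_), hspan⟩
  refine eq_zero_of_orth hA (fun v hv => M_orth hA hv (act_P hA x)) fun v hv => ?_
  obtain ⟨a, rfl⟩ := hspan v hv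
  rw [h_smul_left, h0, mul_zero]

/-- No isotropic eigenvector. -/
theorem no_iso_eigen {v : Fin 6 → F} (hv : h v v = 0) {c : F} (hc : act A v = c • v) : v = 0 := by
  by_contra hv0
  have hpow : ∀ i : ℕ, act (A ^ i) v = c ^ i • v := by
    intro i
    induction i with
    | zero => rw [pow_zero, pow_zero, OrthUnitaryTransvection.act_one, one_smul]
    | succ i ih =>
      rw [pow_succ, OrthUnitaryTransvection.act_mul, hc, OrthUnitaryTransvection.act_smul, ih,
        smul_smul, ← pow_succ']
  have h11 : c ^ 11 = 1 := by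
    have := hpow 11
    rw [hA, OrthUnitaryTransvection.act_one] at this
    exact (smul_left_injective F hv0 (this.symm.trans (one_smul F v).symm))
  have hc0 : c ≠ 0 := fun e => by rw [e] at h11; simp at h11
  have h3 := cube hc0
  have hc1 : c = 1 := by
    have : c ^ 12 = c := by rw [pow_succ, h11, one_mul]
    rw [← this, show 12 = 3 * 4 from rfl, pow_mul, h3, one_pow]
  rw [hc1, one_smul] at hc
  obtain ⟨u, -, hu1, hspan⟩ := exists_fix hA hA1
  obtain ⟨a, rfl⟩ := hspan v hc
  rw [h_smul_left, h_smul_right, hu1, mul_one, ← pow_succ'] at hv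
  exact hv0 (by rw [pow_eq_zero_iff (by norm_num) |>.mp hv, zero_smul])

/-- No invariant totally isotropic set. -/
theorem no_iso_set {T : Set (Fin 6 → F)} (hstab : ∀ v ∈ T, act A v ∈ T)
    (horth : ∀ v ∈ T, ∀ w ∈ T, h v w = 0) {v₀ : Fin 6 → F} (hv₀ : v₀ ∈ T) : v₀ = 0 := by
  by_contra h0
  set U := Submodule.span F T with hU
  have hUstab : ∀ v ∈ U, act A v ∈ U := fun v hv => by
    have : U ≤ U.comap (lin A) := Submodule.span_le.mpr fun w hw => Submodule.subset_span (hstab w hw)
    exact this hv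
  have hUorth : ∀ v ∈ U, ∀ w ∈ U, h v w = 0 := by
    intro v hv
    induction hv using Submodule.span_induction with
    | mem v hv =>
      intro w hw
      induction hw using Submodule.span_induction with
      | mem w hw => exact horth v hv w hw
      | zero => exact h_zero_right v
      | add a b _ _ ha hb => rw [h_add_right, ha, hb, add_zero]
      | smul c a _ ha => rw [h_smul_right, ha, mul_zero]
    | zero => exact fun w _ => h_zero_left w
    | add a b _ _ ha hb => exact fun w hw => by rw [h_add_left, ha w hw, hb w hw, add_zero]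
    | smul c a _ ha => exact fun w hw => by rw [h_smul_left, ha w hw, mul_zero]
  have hnf : ∀ v ∈ U, act A v = v → v = 0 := fun v hv hf =>
    no_iso_eigen hA hA1 (hUorth v hv v hv) (c := 1) (by rw [one_smul, hf])
  have hle : U ≤ M A := fun v hv => by
    have hP : P A v ∈ U := by
      rw [P, LinearMap.sum_apply]
      refine sum_mem fun i hi => ?_
      clear hi
      induction i with
      | zero => exact hv
      | succ i ih => rw [pow_succ', Module.End.mul_apply]; exact hUstab _ ih
    exact hnf _ hP (act_P hA v)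
  have hne : U ≠ ⊥ := fun e => h0 (by
    have := Submodule.subset_span (R := F) hv₀
    rwa [← hU, e, SetLike.mem_coe, Submodule.mem_bot] at this)
  have hv₀U : v₀ ∈ U := Submodule.subset_span hv₀
  rw [eq_M hA hA1 hUstab hle hne] at hUorth hv₀U
  exact h0 (eq_zero_of_orth hA (fun v hv => hUorth v hv v₀ hv₀U)
    fun v hv => h_comm_zero (M_orth hA hv₀U hv))

/-- A centralizing element fixing a moving vector is trivial. -/
theorem centralizer_free {B : Cfsg.SU 6 F 2} (hB : Commute B A) {w : Fin 6 → F} (hw : w ∈ M A)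
    (hw0 : w ≠ 0) (hBw : act B w = w) : B = 1 := by
  classical
  set U := LinearMap.ker (lin B - 1) ⊓ M A with hU
  have hmem : ∀ v, v ∈ U ↔ act B v = v ∧ v ∈ M A := fun v => by
    rw [hU, Submodule.mem_inf, LinearMap.mem_ker, LinearMap.sub_apply, sub_eq_zero]
    rfl
  have hUM : U = M A := by
    refine eq_M hA hA1 (fun v hv => ?_) inf_le_right fun e => hw0 ?_
    · rw [hmem] at hv ⊢
      refine ⟨?_, M_stable hA hv.2⟩
      rw [← OrthUnitaryTransvection.act_mul, hB.eq, OrthUnitaryTransvection.act_mul, hv.1]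
    · have := (hmem w).mpr ⟨hBw, hw⟩
      rwa [e, Submodule.mem_bot] at this
  have hBM : ∀ v ∈ M A, act B v = v := fun v hv => ((hmem v).mp (hUM ▸ hv)).1
  obtain ⟨u, hu, hu1, hspan⟩ := exists_fix hA hA1
  obtain ⟨a, ha⟩ := hspan (act B u) (by
    rw [← OrthUnitaryTransvection.act_mul, ← hB.eq, OrthUnitaryTransvection.act_mul, hu])
  set Bm : Matrix (Fin 6) (Fin 6) F :=
    ((B : Matrix.SpecialLinearGroup (Fin 6) F) : Matrix (Fin 6) (Fin 6) F) with hBm
  have hform : Bm = 1 + Matrix.replicateCol Unit ((a + 1) • u) * Matrix.replicateRow Unit (fun i => u i ^ 2) := by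
    refine Matrix.toLin'.injective (LinearMap.ext fun v => ?_)
    rw [Matrix.toLin'_apply, Matrix.toLin'_apply, Matrix.add_mulVec, Matrix.one_mulVec]
    have e1 : (Matrix.replicateCol Unit ((a + 1) • u) * Matrix.replicateRow Unit (fun i => u i ^ 2)).mulVec v =
        h v u • ((a + 1) • u) := by
      funext i
      simp only [Matrix.mulVec, dotProduct, Matrix.mul_apply, Matrix.replicateCol_apply,
        Matrix.replicateRow_apply, Finset.univ_unique, Finset.sum_singleton, h, Pi.smul_apply,
        smul_eq_mul, Finset.sum_mul]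
      exact Finset.sum_congr rfl fun j _ => by ring
    rw [e1]
    obtain ⟨b, hb⟩ := hspan (P A v) (act_P hA v)
    have hb' : b = h v u := by
      have e := h_P hA v hu
      rwa [hb, h_smul_left, hu1, mul_one] at e
    have hv : v = (v + P A v) + P A v := by rw [add_assoc, vec_add_self, add_zero]
    show act B v = _
    conv_lhs => rw [hv]
    rw [OrthUnitaryTransvection.act_add, hBM _ (add_P_mem hA v), hb, OrthUnitaryTransvection.act_smul,
      ha, hb', add_assoc, smul_smul, smul_smul, ← add_smul]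
    congr 2
    ring
  have hdet : Bm.det = 1 := (B : Matrix.SpecialLinearGroup (Fin 6) F).2
  rw [hform, Matrix.det_one_add_replicateCol_mul_replicateRow] at hdet
  have ha1 : a = 1 := by
    have e : dotProduct (fun i => u i ^ 2) ((a + 1) • u) = a + 1 := by
      simp only [dotProduct, Pi.smul_apply, smul_eq_mul]
      have hu2 : ∑ i, u i * u i ^ 2 = 1 := hu1
      calc ∑ i, u i ^ 2 * ((a + 1) * u i) = (a + 1) * ∑ i, u i * u i ^ 2 := by
            rw [Finset.mul_sum]; exact Finset.sum_congr rfl fun j _ => by ring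
        _ = a + 1 := by rw [hu2, mul_one]
    rw [e] at hdet
    exact eq_of_add_eq_zero (left_eq_add.mp hdet.symm)
  refine OrthUnitaryTransvection.su_ext fun v => ?_
  have : Bm = 1 := by rw [hform, ha1, add_self, zero_smul]; simp
  show Bm.mulVec v = _
  rw [this, Matrix.one_mulVec, OrthUnitaryTransvection.act_one]

/-- The centralizer in `SU₆(2)` has order dividing 1023. -/
theorem centralizer_dvd : Nat.card ↥(Subgroup.centralizer ({A} : Set (Cfsg.SU 6 F 2))) ∣ 1023 := by
  classical
  set C := Subgroup.centralizer ({A} : Set (Cfsg.SU 6 F 2)) with hC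
  have hCc : ∀ B : ↥C, Commute (B : Cfsg.SU 6 F 2) A := fun B =>
    (Subgroup.mem_centralizer_singleton_iff.mp B.2)
  have hMst : ∀ (B : ↥C) (v : Fin 6 → F), v ∈ M A → act (B : Cfsg.SU 6 F 2) v ∈ M A := by
    intro B v hv
    rw [M, LinearMap.mem_ker] at hv ⊢
    have hc : lin (B : Cfsg.SU 6 F 2) * lin A = lin A * lin (B : Cfsg.SU 6 F 2) :=
      LinearMap.ext fun x => by
        simp only [Module.End.mul_apply, lin_apply, ← OrthUnitaryTransvection.act_mul, (hCc B).eq]
    have : Commute (lin (B : Cfsg.SU 6 F 2)) (P A) := Commute.sum_right _ _ _ fun i _ =>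
      (show Commute _ _ from hc).pow_right i
    rw [← lin_apply, ← Module.End.mul_apply, ← this.eq, Module.End.mul_apply, hv, map_zero]
  let Ω : Set (Fin 6 → F) := {w | w ∈ M A ∧ w ≠ 0}
  have hcard : Ω.ncard = 1023 := by
    have h1 : (M A : Set (Fin 6 → F)).ncard = 1024 := by
      rw [← Nat.card_coe_set_eq, SetLike.coe_sort_coe, Module.natCard_eq_pow_finrank (K := F),
        M_dim hA hA1, Nat.card_eq_fintype_card, hF.card_eq]
      norm_num
    rw [show Ω = (M A : Set (Fin 6 → F)) \ {0} from rfl,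
      Set.ncard_sdiff_singleton_of_mem (zero_mem _), h1]
  rw [← hcard]
  refine dvd_of_orbits _ (fun w => Set.range fun B : ↥C =>
    act (B : Cfsg.SU 6 F 2) w) fun w hw => ⟨⟨1, OrthUnitaryTransvection.act_one w⟩, ?_, ?_, ?_⟩
  · rintro _ ⟨B, rfl⟩
    refine ⟨hMst B w hw.1, fun e => hw.2 ?_⟩
    rw [← OrthUnitaryTransvection.act_inv_act (B : Cfsg.SU 6 F 2) w]
    exact (congrArg _ e).trans (lin (B : Cfsg.SU 6 F 2)⁻¹).map_zero
  · rw [← Nat.card_coe_set_eq, Nat.card_range_of_injective]
    intro B B' e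
    have := centralizer_free hA hA1 (hCc (B'⁻¹ * B)) hw.1 hw.2 (by
      rw [Subgroup.coe_mul, Subgroup.coe_inv, OrthUnitaryTransvection.act_mul]
      rw [show act (B : Cfsg.SU 6 F 2) w = act (B' : Cfsg.SU 6 F 2) w from e,
        OrthUnitaryTransvection.act_inv_act])
    exact (inv_mul_eq_one.mp (Subtype.ext this)).symm
  · rintro _ ⟨B, rfl⟩
    ext x
    constructor
    · rintro ⟨B', rfl⟩
      exact ⟨B' * B, by simp [OrthUnitaryTransvection.act_mul]⟩
    · rintro ⟨B', rfl⟩
      refine ⟨B' * B⁻¹, ?_⟩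
      simp [OrthUnitaryTransvection.act_mul, OrthUnitaryTransvection.act_inv_act]

omit hA hA1

theorem card_center : Nat.card ↥(Subgroup.center (Cfsg.SU 6 F 2)) = 3 := by
  have h1 := OrthUnitaryHerm.card_PSU_mul (n := 6) (q := 2) (F := F) hF4 (by norm_num)
  have h2 := OrthUnitaryHerm.card_GU_eq_mul_card_SU (n := 6) (q := 2) (F := F) hF4 (by norm_num)
  have h3 := Subgroup.card_eq_card_quotient_mul_card_subgroup (Subgroup.center (Cfsg.SU 6 F 2))
  have h4 := UnitaryImageFields.card_PSU62 (F := F) hF.card_eq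
  rw [h4] at h1
  rw [show Nat.card (Cfsg.SU 6 F 2 ⧸ Subgroup.center (Cfsg.SU 6 F 2)) = 9196830720 from h4] at h3
  rw [← h1, h3] at h2
  norm_num at h2
  omega

/-- An element of order eleven has a lift of order eleven. -/
theorem exists_lift {x : Cfsg.PSU 6 F 2} (hx : orderOf x = 11) :
    ∃ A : Cfsg.SU 6 F 2, π A = x ∧ A ^ 11 = 1 ∧ A ≠ 1 := by
  obtain ⟨A, rfl⟩ := QuotientGroup.mk'_surjective _ x
  have h11 : A ^ 11 ∈ Subgroup.center (Cfsg.SU 6 F 2) := by
    refine (QuotientGroup.eq_one_iff _).mp ?_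
    have := pow_orderOf_eq_one (π A)
    rw [hx, ← map_pow] at this
    exact this
  have h33 : A ^ 33 = 1 := by
    have := center_cube (by norm_num) h11
    rw [← this, ← pow_add, ← pow_add]
  have e12 : π (A ^ 12) = π A := by
    rw [map_pow, pow_succ, ← hx, pow_orderOf_eq_one, one_mul]
  refine ⟨A ^ 12, e12, ?_, fun e => ?_⟩
  · rw [← pow_mul, show 12 * 11 = 33 * 4 from rfl, pow_mul, h33, one_pow]
  · rw [e, map_one] at e12
    rw [← e12, orderOf_one] at hx
    exact absurd hx (by norm_num)

include hA hA1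

/-- The centralizer in `PSU₆(2)` has order dividing 11. -/
theorem psu_centralizer_dvd :
    Nat.card ↥(Subgroup.centralizer ({π A} : Set (Cfsg.PSU 6 F 2))) ∣ 11 := by
  set Z := Subgroup.center (Cfsg.SU 6 F 2) with hZ
  set C := Subgroup.centralizer ({π A} : Set (Cfsg.PSU 6 F 2)) with hC
  have hcom : C.comap (QuotientGroup.mk' Z) = Subgroup.centralizer ({A} : Set (Cfsg.SU 6 F 2)) := by
    ext B
    rw [Subgroup.mem_comap, hC, Subgroup.mem_centralizer_singleton_iff,
      Subgroup.mem_centralizer_singleton_iff]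
    refine ⟨fun e => ?_, fun e => by rw [← map_mul, ← map_mul, e]⟩
    rw [← map_mul, ← map_mul] at e
    obtain ⟨z, hz, ez⟩ := (QuotientGroup.mk'_eq_mk' _).mp e.symm
    have hzc := fun g => (Subgroup.mem_center_iff.mp hz g)
    have e1 : B * A * B⁻¹ = A * z := by
      rw [← ez, mul_assoc A B z, hzc B, ← mul_assoc, mul_inv_cancel_right]
    have e2 : (B * A * B⁻¹) ^ 11 = 1 := by rw [conj_pow, hA, mul_one, mul_inv_cancel]
    rw [e1, (show Commute A z from hzc A).mul_pow, hA, one_mul] at e2
    have h3 : z ^ 3 = 1 := by rw [pow_succ, pow_two]; exact center_cube (by norm_num) hz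
    have hz1 : z = 1 := by
      have h12 : z ^ 12 = z := by rw [pow_succ, e2, one_mul]
      rw [← h12, show 12 = 3 * 4 from rfl, pow_mul, h3, one_pow]
    rw [← ez, hz1, mul_one]
  have hmap : (C.comap (QuotientGroup.mk' Z)).map (QuotientGroup.mk' Z) = C :=
    Subgroup.map_comap_eq_self_of_surjective (QuotientGroup.mk'_surjective _) _
  have hle : Z ≤ C.comap (QuotientGroup.mk' Z) := fun z hz => by
    rw [hcom, Subgroup.mem_centralizer_singleton_iff]
    exact (Subgroup.mem_center_iff.mp hz A).symm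
  have hmul : Nat.card ↥C * 3 = Nat.card ↥(C.comap (QuotientGroup.mk' Z)) := by
    have e1 := Subgroup.card_mul_index (C.comap (QuotientGroup.mk' Z))
    rw [Subgroup.index_comap_of_surjective _ (QuotientGroup.mk'_surjective _),
      Subgroup.card_eq_card_quotient_mul_card_subgroup Z, ← Subgroup.card_mul_index C,
      show Nat.card ↥Z = 3 from card_center] at e1
    exact mul_right_cancel₀ (Subgroup.index_ne_zero_of_finite (H := C)) (by rw [e1]; ring)
  rw [hcom] at hmul
  have h1 : Nat.card ↥C * 3 ∣ 1023 := hmul ▸ centralizer_dvd hA hA1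
  have h2 : Nat.card ↥C ∣ 9196830720 :=
    UnitaryImageFields.card_PSU62 (F := F) hF.card_eq ▸ Subgroup.card_subgroup_dvd_card C
  have h3 : Nat.card ↥C ∣ Nat.gcd 341 9196830720 :=
    Nat.dvd_gcd (Nat.dvd_of_mul_dvd_mul_right (by norm_num) (show Nat.card ↥C * 3 ∣ 341 * 3 from h1)) h2
  norm_num at h3
  exact h3

end unitary

end Cfsg.Agent.ThreeTransM22ElevenLin10
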