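import Cfsg.Agent.Lib.ThreeTransReflSeven78
import Cfsg.Agent.Lib.ThreeTransM23Quot59
import Cfsg.Agent.Lib.ThreeTransDescent

/-!
# Members near two non-commuting members as vectors

If the subgroup generated by the members near two non-commuting members is, modulo its centre, the
seven-dimensional projective reflection group, each vector of the given norm has a member; vectors with
zero pairing give commuting members. This yields nine members with the diagram used for `Fi23`.
-/

set_option autoImplicit false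
set_option linter.unusedSectionVars false

namespace Cfsg.Agent.ThreeTransM23Vectors78

open QuadraticMap Cfsg.Agent.OrthUnitaryQuad Cfsg.Agent.OrthUnitaryRefl Cfsg.Agent.OrthUnitaryOmega
  Cfsg.Agent.OrthUnitaryPrelude Cfsg.Agent.OrthUnitarySimple Cfsg.Agent.ThreeTransReflection
  Cfsg.Agent.ThreeTransReflSeven78 Cfsg.Agent.ThreeTransRel Cfsg.Agent.ThreeTransDescent

local notation "K" => ZMod 3
local notation "V7" => Fin 7 → ZMod 3

/-! ### The reflection group of one norm -/

variable (Q : QuadraticForm K V7) (c : K)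

/-- The group generated by the reflections of norm `c`. -/
def RC : Subgroup (orth Q) :=
  Subgroup.closure {g | ∃ v, ∃ hv : Q v ≠ 0, Q v = c ∧ g = refl Q v hv}

variable {Q c}

theorem map_iso (hc : c ≠ 0) :
    (Cfsg.reflectionSubgroup (⇑Q) c).map (iso Q).toMonoidHom = RC Q c := by
  rw [Cfsg.reflectionSubgroup, MonoidHom.map_closure, RC]
  congr 1
  ext g
  constructor
  · rintro ⟨r, ⟨v, hv, hr⟩, rfl⟩
    exact ⟨v, hv ▸ hc, hv, (mat_eq_reflectionMatrix_iff r (hv ▸ hc)).mp hr⟩
  · rintro ⟨v, hv, hvc, rfl⟩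
    exact ⟨(iso Q).symm (refl Q v hv),
      ⟨v, hvc, (mat_eq_reflectionMatrix_iff _ hv).mpr ((iso Q).apply_symm_apply _)⟩,
      (iso Q).apply_symm_apply _⟩

/-- The reflection group as a subgroup of the orthogonal group, modulo centres. -/
noncomputable def quotEquiv (hc : c ≠ 0) :
    (↥(Cfsg.reflectionSubgroup (⇑Q) c) ⧸ Subgroup.center ↥(Cfsg.reflectionSubgroup (⇑Q) c)) ≃*
      (↥(RC Q c) ⧸ Subgroup.center ↥(RC Q c)) :=
  ThreeTransM23Quot59.centerQuot
    (((Cfsg.reflectionSubgroup (⇑Q) c).equivMapOfInjective (iso Q).toMonoidHom (iso Q).injective).trans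
      (MulEquiv.subgroupCongr (map_iso hc)))

/-- A reflection of norm `c` in the group. -/
noncomputable def rf (hc : c ≠ 0) (v : V7) (hv : Q v = c) : ↥(RC Q c) :=
  ⟨refl Q v (hv ▸ hc), Subgroup.subset_closure ⟨v, hv ▸ hc, hv, rfl⟩⟩

theorem center_cases (hQ : IsReg Q) (hc : c ≠ 0) {x : ↥(RC Q c)} (hx : x ∈ Subgroup.center ↥(RC Q c)) :
    x.1 = 1 ∨ x.1 = negOne Q := by
  rcases scalar_of_signs hQ (by simp) hc (x.1.1 : V7 →ₗ[K] V7) (fun a b => polar_orth x.1 a b)
    (fun v hv => sign_of_commute_refl hc x.1 hv (hv ▸ hc)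
      (congrArg Subtype.val (Subgroup.mem_center_iff.mp hx (rf hc v hv)))) with h | h
  · exact Or.inl (orth_ext fun y => (h y).trans (one_apply' y).symm)
  · exact Or.inr (orth_ext fun y => (h y).trans (negOne_apply y).symm)

theorem det_negOne : detHom Q (negOne Q) = -1 := by
  apply Units.ext
  show ((LinearEquiv.det (negOne Q).1 : Kˣ) : K) = _
  rw [LinearEquiv.coe_det,
    show ((negOne Q).1 : V7 →ₗ[K] V7) = (-1 : K) • LinearMap.id from
      LinearMap.ext fun x => by
        show (negOne Q).1 x = (-1 : K) • x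
        rw [negOne_apply, neg_one_smul],
    LinearMap.det_smul, LinearMap.det_id, show Module.finrank K V7 = 7 by simp]
  decide

theorem negOne_ne_one : negOne Q ≠ 1 := fun e => by
  have h := congrArg (detHom Q) e
  rw [det_negOne, map_one] at h
  revert h; decide

/-- The sign of a reflection of norm `c`. -/
noncomputable def eps (c : K) : ℤˣ := if c = 1 then -1 else 1

theorem theta_eq {v : V7} (hv : Q v ≠ 0) : theta Q (refl Q v hv) = eps (Q v) := by
  rw [theta_refl zmod3_two_ne_zero, eps]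
  revert hv
  generalize Q v = a
  intro ha
  rcases three_cases a with rfl | rfl | rfl
  · exact absurd rfl ha
  · rw [if_pos IsSquare.one, if_pos rfl]
  · rw [if_neg, if_neg (by decide)]
    rintro ⟨r, hr⟩
    revert r; decide

theorem theta_mem {g : orth Q} (hg : g ∈ RC Q c) :
    theta Q g = if detHom Q g = 1 then 1 else eps c := by
  induction hg using Subgroup.closure_induction with
  | mem x hx =>
    obtain ⟨v, hv, hvc, rfl⟩ := hx
    rw [theta_eq, detHom_refl, if_neg (by decide), hvc]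
  | one => simp
  | mul a b _ _ ha hb =>
    rw [map_mul, map_mul, ha, hb]
    exact (show ∀ (x y : Kˣ) (e : ℤˣ), (if x = 1 then 1 else e) * (if y = 1 then 1 else e) =
      if x * y = 1 then 1 else e by decide) _ _ _
  | inv a _ ha =>
    rw [map_inv, map_inv, ha]
    exact (show ∀ (x : Kˣ) (e : ℤˣ), (if x = 1 then 1 else e)⁻¹ = if x⁻¹ = 1 then 1 else e by decide) _ _

theorem eps_inj : ∀ a c : K, a ≠ 0 → c ≠ 0 → eps a = eps c → a = c := by
  intro a c ha hc
  rcases three_cases a with rfl | rfl | rfl <;> rcases three_cases c with rfl | rfl | rfl <;>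
    simp [eps] at * <;> simp_all (config := { decide := true })

theorem norm_of_mem (hc : c ≠ 0) {u : V7} {hu : Q u ≠ 0} (h : refl Q u hu ∈ RC Q c) : Q u = c := by
  have := theta_mem h
  rw [theta_eq, detHom_refl, if_neg (by decide)] at this
  exact eps_inj _ _ hu hc this

/-! ### Coordinates in a frame -/

/-- The vector with given coordinates. -/
def fv (e : Fin 7 → V7) (t : Fin 7 → K) : V7 := ∑ i, t i • e i

/-- The scalar product of coordinates. -/
def dot (t s : Fin 7 → K) : K := ∑ i, t i * s i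

section frame

variable {e : Fin 7 → V7} (he : ∀ i, Q (e i) = c)
  (ho : ∀ i k, i ≠ k → polar Q (e i) (e k) = 0)
include he ho

theorem polar_e (i k : Fin 7) : polar Q (e i) (e k) = if i = k then 2 * c else 0 := by
  by_cases h : i = k
  · subst h; rw [if_pos rfl, polar_self_mul, he]
  · rw [if_neg h, ho i k h]

theorem polar_fv (t s : Fin 7 → K) : polar Q (fv e t) (fv e s) = 2 * c * dot t s := by
  simp only [fv, ← polarBilin_apply_apply, map_sum, LinearMap.coe_sum, Finset.sum_apply, map_smul,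
    LinearMap.smul_apply, smul_eq_mul]
  simp only [polarBilin_apply_apply, polar_e he ho, mul_ite, mul_zero, Finset.sum_ite_eq',
    Finset.mem_univ, if_true, dot, Finset.mul_sum]
  refine Finset.sum_congr rfl fun i _ => ?_
  ring

theorem q_fv (t : Fin 7 → K) : Q (fv e t) = c * dot t t := by
  have h := polar_fv he ho t t
  rw [polar_self_mul, mul_assoc] at h
  exact mul_left_cancel₀ zmod3_two_ne_zero h

theorem fv_injective (hc : c ≠ 0) : Function.Injective (fv e) := by
  intro t s h
  funext k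
  have h1 : polar Q (fv e t) (fv e (Pi.single k 1)) = polar Q (fv e s) (fv e (Pi.single k 1)) := by
    rw [h]
  rw [polar_fv he ho, polar_fv he ho] at h1
  simpa [dot, Pi.single_apply] using mul_left_cancel₀ (mul_ne_zero zmod3_two_ne_zero hc) h1

theorem fv_surjective (hc : c ≠ 0) : Function.Surjective (fv e) :=
  Finite.surjective_of_injective (fv_injective he ho hc)

theorem negOne_mem (hc : c ≠ 0) : negOne Q ∈ RC Q c := by
  have hr : ∀ i k, (rf hc (e i) (he i)).1.1 (e k) = if i = k then -e k else e k := by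
    intro i k
    show (refl Q (e i) (he i ▸ hc)).1 (e k) = _
    rw [refl_apply, polar_e he ho, he]
    by_cases h : i = k
    · subst h
      rw [if_pos rfl, if_pos rfl, show c⁻¹ * (2 * c) = 2 by field_simp, two_smul]
      abel
    · rw [if_neg h, if_neg h, mul_zero, zero_smul, sub_zero]
  set r := fun i => (rf hc (e i) (he i)).1
  have hp : negOne Q = r 0 * (r 1 * (r 2 * (r 3 * (r 4 * (r 5 * r 6))))) := by
    apply orth_ext
    intro y
    obtain ⟨t, rfl⟩ := fv_surjective he ho hc y
    rw [negOne_apply]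
    simp [r, orth_mul_apply, fv, Fin.sum_univ_seven, hr]
    abel
  rw [hp]
  have hm : ∀ i, r i ∈ RC Q c := fun i => (rf hc (e i) (he i)).2
  exact mul_mem (hm 0) (mul_mem (hm 1) (mul_mem (hm 2) (mul_mem (hm 3) (mul_mem (hm 4)
    (mul_mem (hm 5) (hm 6))))))

end frame

/-! ### The members -/

variable {G : Type*} [Group G] {D : Set G} {z j : G}

/-- The subgroup generated by the members near both. -/
abbrev com (D : Set G) (z j : G) : Subgroup G := Subgroup.closure (near D z ∩ near D j)

theorem conj_pair (ht : TSys D) {k p : G} (hk : k ∈ com D z j) (hp : p ∈ near D z ∩ near D j) :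
    k * p * k⁻¹ ∈ near D z ∩ near D j :=
  ⟨near_conj ht (commute_d_of_mem_loc (Subgroup.closure_mono Set.inter_subset_left hk)).symm hp.1,
    near_conj ht (commute_d_of_mem_loc (Subgroup.closure_mono Set.inter_subset_right hk)).symm hp.2⟩

/-- The map onto the projective reflection group, and what is needed about it. -/
structure Mdl (D : Set G) (z j : G) (Q : QuadraticForm K V7) (c : K)
    (φ : ↥(com D z j) →* ↥(RC Q c) ⧸ Subgroup.center ↥(RC Q c)) : Prop where
  ts : TSys D
  surj : Function.Surjective φ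
  ker : ∀ x, φ x = 1 → x ∈ Subgroup.center ↥(com D z j)
  reg : IsReg Q
  cne : c ≠ 0
  neg : negOne Q ∈ RC Q c

variable {φ : ↥(com D z j) →* ↥(RC Q c) ⧸ Subgroup.center ↥(RC Q c)}

/-- The member has the given vector. -/
def At (φ : ↥(com D z j) →* ↥(RC Q c) ⧸ Subgroup.center ↥(RC Q c)) (p : G) (v : V7) : Prop :=
  ∃ hp : p ∈ near D z ∩ near D j, ∃ hc : c ≠ 0, ∃ hv : Q v = c,
    φ ⟨p, Subgroup.subset_closure hp⟩ = QuotientGroup.mk (rf hc v hv)

variable (M : Mdl D z j Q c φ)
include M

theorem mk_eq_iff' {x y : ↥(RC Q c)} :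
    (QuotientGroup.mk x : ↥(RC Q c) ⧸ Subgroup.center ↥(RC Q c)) = QuotientGroup.mk y ↔
      x.1 = y.1 ∨ x.1 = negOne Q * y.1 := by
  have hcen : (⟨negOne Q, M.neg⟩ : ↥(RC Q c)) ∈ Subgroup.center ↥(RC Q c) :=
    Subgroup.mem_center_iff.mpr fun g => Subtype.ext (negOne_comm g.1).symm
  constructor
  · intro h
    have h' : x⁻¹ * y ∈ Subgroup.center ↥(RC Q c) := QuotientGroup.eq.mp h
    rcases center_cases M.reg M.cne h' with e | e
    · exact Or.inl (inv_mul_eq_one.mp e)
    · refine Or.inr ?_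
      have e' : y.1 = x.1 * negOne Q := eq_mul_of_inv_mul_eq e
      rw [e', ← negOne_comm, ← mul_assoc, negOne_sq, one_mul]
  · rintro (h | h)
    · rw [Subtype.ext h]
    · refine QuotientGroup.eq.mpr ?_
      have : x⁻¹ * y = ⟨negOne Q, M.neg⟩ := Subtype.ext (inv_mul_eq_iff_eq_mul.mpr (by
        show y.1 = x.1 * negOne Q
        rw [h, mul_assoc, ← negOne_comm, ← mul_assoc, negOne_sq, one_mul]))
      rw [this]; exact hcen

/-- Elements commuting modulo the signs commute. -/
theorem comm_of_comm {x y : ↥(RC Q c)}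
    (h : Commute (QuotientGroup.mk x : ↥(RC Q c) ⧸ Subgroup.center ↥(RC Q c)) (QuotientGroup.mk y)) :
    x.1 * y.1 = y.1 * x.1 := by
  rcases (mk_eq_iff' M (x := x * y) (y := y * x)).mp h with e | e
  · exact e
  · exfalso
    have h2 := congrArg (detHom Q) (show x.1 * y.1 = negOne Q * (y.1 * x.1) from e)
    simp only [map_mul, det_negOne] at h2
    revert h2
    generalize detHom Q x.1 = a
    generalize detHom Q y.1 = b
    revert a b; decide

set_option maxHeartbeats 1600000 in
theorem refl_of_member {p : G} (hp : p ∈ near D z ∩ near D j)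
    (h1 : φ ⟨p, Subgroup.subset_closure hp⟩ ≠ 1) : ∃ v, At φ p v := by
  obtain ⟨x, hx⟩ := QuotientGroup.mk_surjective (φ ⟨p, Subgroup.subset_closure hp⟩)
  have hpp : (⟨p, Subgroup.subset_closure hp⟩ : ↥(com D z j)) * ⟨p, Subgroup.subset_closure hp⟩ = 1 :=
    Subtype.ext (M.ts.sq p hp.1.1)
  have hxx : x.1 * x.1 = 1 := by
    have h : (QuotientGroup.mk (x * x) : ↥(RC Q c) ⧸ Subgroup.center ↥(RC Q c)) = QuotientGroup.mk 1 := by
      rw [QuotientGroup.mk_mul, hx, ← map_mul, hpp, map_one, QuotientGroup.mk_one]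
    rcases (mk_eq_iff' M).mp h with e | e
    · exact e
    · exfalso
      have h2 := congrArg (detHom Q) e
      simp only [Subgroup.coe_mul, Subgroup.coe_one, map_mul, det_negOne, map_one] at h2
      revert h2; generalize detHom Q x.1 = a; revert a; decide
  have hx1 : x.1 ≠ 1 := fun e => h1 (by rw [← hx, show x = 1 from Subtype.ext e]; rfl)
  have hx2 : x.1 ≠ negOne Q := fun e => h1 (by
    rw [← hx, ← QuotientGroup.mk_one]
    exact (mk_eq_iff' M).mpr (Or.inr (by rw [Subgroup.coe_one, mul_one]; exact e)))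
  have h3 : ∀ v w (hv : Q v = c) (hw : Q w = c), ∀ g, g = refl Q v (hv ▸ M.cne) * refl Q w (hw ▸ M.cne) →
      ((x.1 * (g * x.1 * g⁻¹)) ^ 2 = 1 ∨ (x.1 * (g * x.1 * g⁻¹)) ^ 2 = negOne Q) ∨
      ((x.1 * (g * x.1 * g⁻¹)) ^ 3 = 1 ∨ (x.1 * (g * x.1 * g⁻¹)) ^ 3 = negOne Q) := by
    rintro v w hv hw g rfl
    set g' := rf M.cne v hv * rf M.cne w hw
    obtain ⟨k, hk⟩ := M.surj (QuotientGroup.mk g')
    have hq := conj_pair M.ts k.2 hp
    set pp : ↥(com D z j) := ⟨p, Subgroup.subset_closure hp⟩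
    have hn : ∀ n : ℕ, (pp * (k * pp * k⁻¹)) ^ n = 1 →
        ((x * (g' * x * g'⁻¹)) ^ n).1 = 1 ∨ ((x * (g' * x * g'⁻¹)) ^ n).1 = negOne Q := by
      intro n h
      have h' : (QuotientGroup.mk ((x * (g' * x * g'⁻¹)) ^ n) :
          ↥(RC Q c) ⧸ Subgroup.center ↥(RC Q c)) = QuotientGroup.mk 1 := by
        have e := congrArg φ h
        rw [map_pow, map_mul, map_mul, map_mul, map_inv, hk, ← hx, map_one] at e
        exact e
      rcases (mk_eq_iff' M).mp h' with e | e
      · exact Or.inl e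
      · exact Or.inr (e.trans (mul_one _))
    by_cases hc' : Commute p ((k : G) * p * (k : G)⁻¹)
    · exact Or.inl (hn 2 (Subtype.ext (by
        show (p * ((k : G) * p * (k : G)⁻¹)) ^ 2 = 1
        rw [hc'.mul_pow, pow_two, pow_two, M.ts.sq p hp.1.1, M.ts.sq _ hq.1.1, one_mul])))
    · refine Or.inr (hn 3 (Subtype.ext ?_))
      show (p * ((k : G) * p * (k : G)⁻¹)) ^ 3 = 1
      set q := (k : G) * p * (k : G)⁻¹
      calc (p * q) ^ 3 = (p * q * p) * (q * p * q) := by simp [pow_succ, mul_assoc]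
        _ = (p * q * p) * (p * q * p) := by rw [M.ts.braid _ hp.1.1 _ hq.1.1 hc']
        _ = 1 := M.ts.sq _ (M.ts.conj_mem hp.1.1 hq.1.1)
  obtain ⟨u, hu, e⟩ := classify M.reg (by simp) M.cne hxx hx1 hx2 h3
  have hmem : refl Q u hu ∈ RC Q c := by
    rcases e with e | e
    · exact e ▸ x.2
    · have : refl Q u hu = negOne Q * x.1 := by rw [e, ← mul_assoc, negOne_sq, one_mul]
      exact this ▸ mul_mem M.neg x.2
  exact ⟨u, hp, M.cne, norm_of_mem M.cne hmem, hx.symm.trans ((mk_eq_iff' M).mpr e)⟩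

theorem exists_at : ∃ p v, At φ p v := by
  by_contra h
  push Not at h
  have h1 : ∀ x, φ x = 1 := by
    intro x
    have hx : x ∈ φ.ker := by
      obtain ⟨x, hx⟩ := x
      induction hx using Subgroup.closure_induction with
      | mem y hy =>
        by_contra hne
        obtain ⟨v, hv⟩ := refl_of_member M hy hne
        exact h y v hv
      | one => exact one_mem φ.ker
      | mul a b ha hb ia ib => exact mul_mem ia ib
      | inv a ha ia => exact inv_mem ia
    exact hx
  obtain ⟨v, hv⟩ := ThreeTransReflection.exists_value M.reg (by simp) c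
  obtain ⟨k, hk⟩ := M.surj (QuotientGroup.mk (rf M.cne v hv))
  rw [h1, ← QuotientGroup.mk_one] at hk
  have hdet : detHom Q (rf M.cne v hv).1 = -1 := detHom_refl v (hv ▸ M.cne)
  rcases (mk_eq_iff' M).mp hk with e | e
  · rw [← e, Subgroup.coe_one, map_one] at hdet
    revert hdet; decide
  · have hq : Q v ≠ 0 := hv ▸ M.cne
    obtain ⟨y, hy, hqy⟩ := exists_aniso (regOn_perp (regOn_top M.reg) (Submodule.mem_top (x := v)) hq) (by
      have := finrank_perp (Q := Q) (Submodule.mem_top (R := K) (x := v)) hq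
      rw [finrank_top, show Module.finrank K V7 = 7 by simp] at this
      omega)
    have h2 : (rf M.cne v hv).1 = negOne Q := by
      calc (rf M.cne v hv).1 = negOne Q * (negOne Q * (rf M.cne v hv).1) := by
            rw [← mul_assoc, negOne_sq, one_mul]
        _ = negOne Q := by rw [← e, Subgroup.coe_one, mul_one]
    have h3 : (refl Q v hq).1 y = -y := by
      rw [show refl Q v hq = negOne Q from h2, negOne_apply]
    rw [refl_apply, (mem_perp.mp hy).2, mul_zero, zero_smul, sub_zero] at h3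
    refine hqy ?_
    have h4 : (2 : K) • y = 0 := by rw [two_smul, ← sub_neg_eq_add y y, ← h3, sub_self]
    rw [(smul_eq_zero.mp h4).resolve_left zmod3_two_ne_zero, QuadraticMap.map_zero]

theorem At.step {p : G} {u w : V7} (h : At φ p u) (hw : Q w = c) {v : V7}
    (hv : (refl Q w (hw ▸ M.cne)).1 u = v ∨ (refl Q w (hw ▸ M.cne)).1 u = -v) (hvc : Q v = c) :
    ∃ q, At φ q v := by
  obtain ⟨hp, hc, hu, e⟩ := h
  obtain ⟨k, hk⟩ := M.surj (QuotientGroup.mk (rf M.cne w hw))
  have hq := conj_pair M.ts k.2 hp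
  refine ⟨(k : G) * p * (k : G)⁻¹, hq, hc, hvc, ?_⟩
  rw [show (⟨(k : G) * p * (k : G)⁻¹, Subgroup.subset_closure hq⟩ : ↥(com D z j)) =
    k * ⟨p, Subgroup.subset_closure hp⟩ * k⁻¹ from rfl, map_mul, map_mul, map_inv, hk, e]
  refine (mk_eq_iff' M (x := rf M.cne w hw * rf hc u hu * (rf M.cne w hw)⁻¹)).mpr (Or.inl ?_)
  simp only [rf, Subgroup.coe_mul, InvMemClass.coe_inv]
  rw [conj_refl]
  rcases hv with e' | e'
  · simp only [e']
  · simp only [e']
    have h2 := refl_smul (Q := Q) v (hvc ▸ hc) (t := (-1 : K)) (by decide)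
    simp only [neg_one_smul] at h2
    exact h2

theorem At.step_polar {p : G} {u v : V7} (h : At φ p u) (hvc : Q v = c) (hne : polar Q u v ≠ 0) :
    ∃ q, At φ q v := by
  obtain ⟨hp, hc, hu, e⟩ := id h
  rcases (show ∀ a b : K, a ≠ 0 → b ≠ 0 → a = b ∨ a = -b by decide) _ c hne hc with hpc | hpc
  · have hq : Q (u - v) = c := by
      rw [sub_eq_add_neg, QuadraticMap.map_add Q, QuadraticMap.map_neg, polar_neg_right, hu, hvc, hpc]
      ring
    exact At.step M h hq (Or.inl (refl_sub_apply (hu.trans hvc.symm) _)) hvc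
  · have hq : Q (u - -v) = c := by
      rw [sub_neg_eq_add, QuadraticMap.map_add Q, hu, hvc, hpc]; ring
    exact At.step M h hq (Or.inr (refl_sub_apply (by rw [QuadraticMap.map_neg, hu, hvc]) _)) hvc

/-- Every vector of norm `c` has a member. -/
theorem all_at {v : V7} (hv : Q v = c) : ∃ p, At φ p v := by
  obtain ⟨p, u, h⟩ := exists_at M
  obtain ⟨hp, hc, hu, -⟩ := id h
  by_cases hp0 : polar Q u v = 0
  · obtain ⟨t, ht, htu, htv⟩ := exists_value_perpTwo zmod3_two_ne_zero M.reg (by simp)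
      (hu.symm ▸ hc : Q u ≠ 0) (hv.symm ▸ hc : Q v ≠ 0) hp0 (-c)
    have hw : Q (u + v + t) = c := by
      rw [QuadraticMap.map_add Q, QuadraticMap.map_add Q, hu, hv, hp0, polar_add_left, htu, htv, ht]
      ring
    have h1 : polar Q u (u + v + t) ≠ 0 := by
      rw [polar_add_right, polar_add_right, polar_self_mul, hu, hp0, htu, add_zero, add_zero]
      exact mul_ne_zero zmod3_two_ne_zero hc
    obtain ⟨q, hq⟩ := At.step_polar M h hw h1
    refine At.step_polar M hq hv ?_
    rw [polar_add_left, polar_add_left, polar_self_mul, hv, hp0, polar_comm (f := ⇑Q) t v, htv,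
      zero_add, add_zero]
    exact mul_ne_zero zmod3_two_ne_zero hc
  · exact At.step_polar M h hv hp0

set_option maxHeartbeats 1600000 in
theorem commute_of_polar {p q : G} {u v : V7} (h : At φ p u) (h' : At φ q v)
    (h0 : polar Q u v = 0) : Commute p q := by
  obtain ⟨hp, hc, hu, e⟩ := h
  obtain ⟨hq, hc2, hv, e'⟩ := h'
  by_contra hn
  set pp : ↥(com D z j) := ⟨p, Subgroup.subset_closure hp⟩
  set qq : ↥(com D z j) := ⟨q, Subgroup.subset_closure hq⟩
  have hb := congrArg φ (show pp * qq * pp = qq * pp * qq from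
    Subtype.ext (M.ts.braid _ hp.1.1 _ hq.1.1 hn))
  rw [map_mul, map_mul, map_mul, map_mul, e, e', ← QuotientGroup.mk_mul, ← QuotientGroup.mk_mul,
    ← QuotientGroup.mk_mul, ← QuotientGroup.mk_mul] at hb
  have huv : (refl Q u (hu ▸ hc)).1 v = v := by
    rw [refl_apply, h0, mul_zero, zero_smul, sub_zero]
  have hvu : (refl Q v (hv ▸ hc)).1 u = u := by
    rw [refl_apply, polar_comm, h0, mul_zero, zero_smul, sub_zero]
  have hvv : ∀ w (hw : Q w ≠ 0), (refl Q w hw).1 w = -w := fun w hw => by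
    rw [refl_apply, polar_self_mul, show (Q w)⁻¹ * (2 * Q w) = 2 by field_simp, two_smul]; abel
  have hne : ∀ {w : V7}, Q w = c → w ≠ -w := fun {w} hw e => by
    have h4 : (2 : K) • w = 0 := by rw [two_smul, ← sub_neg_eq_add w w, ← e, sub_self]
    exact hc (by rw [← hw, (smul_eq_zero.mp h4).resolve_left zmod3_two_ne_zero, QuadraticMap.map_zero])
  rcases (mk_eq_iff' M).mp hb with e1 | e1
  · have e2 : refl Q u (hu ▸ hc) * refl Q v (hv ▸ hc) * refl Q u (hu ▸ hc) =
        refl Q v (hv ▸ hc) * refl Q u (hu ▸ hc) * refl Q v (hv ▸ hc) := e1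
    have h9 : (refl Q u (hu ▸ hc) * refl Q v (hv ▸ hc) * refl Q u (hu ▸ hc)).1 u =
        (refl Q v (hv ▸ hc) * refl Q u (hu ▸ hc) * refl Q v (hv ▸ hc)).1 u := by rw [e2]
    rw [orth_mul_apply, orth_mul_apply, orth_mul_apply, orth_mul_apply, hvv u, map_neg, hvu, map_neg,
      hvv u, map_neg, hvu, neg_neg] at h9
    exact hne hu h9
  · have hd := congrArg (detHom Q) e1
    simp only [rf, Subgroup.coe_mul, map_mul, det_negOne, detHom_refl] at hd
    revert hd; decide

theorem not_commute_of_polar {p q : G} {u v : V7} (h : At φ p u) (h' : At φ q v)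
    (h0 : polar Q u v ≠ 0) (hne : ∀ t : K, u ≠ t • v) : ¬ Commute p q := by
  obtain ⟨hp, hc, hu, e⟩ := h
  obtain ⟨hq, hc2, hv, e'⟩ := h'
  intro hpq
  have hc1 := (show Commute (⟨p, Subgroup.subset_closure hp⟩ : ↥(com D z j))
    ⟨q, Subgroup.subset_closure hq⟩ from Subtype.ext hpq).map φ
  rw [e, e'] at hc1
  have hcomm := comm_of_comm M hc1
  rcases sign_of_commute_refl hc (rf hc v hv).1 hu (hu ▸ hc) hcomm with h1 | h1 <;>
    simp only [rf] at h1 <;> rw [refl_apply] at h1
  · have h2 : ((Q v)⁻¹ * polar Q v u) • v = 0 := by simpa using h1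
    rcases smul_eq_zero.mp h2 with h3 | h3
    · rcases mul_eq_zero.mp h3 with h4 | h4
      · exact hc (by rw [← hv]; simpa using h4)
      · exact h0 (by rw [polar_comm]; exact h4)
    · exact hc (by rw [← hv, h3, QuadraticMap.map_zero])
  · set k := (Q v)⁻¹ * polar Q v u
    refine hne ((2 : K) * k) ?_
    rw [sub_eq_iff_eq_add] at h1
    have h2 : (2 : K) • u = k • v := by
      rw [two_smul]; nth_rewrite 1 [h1]; abel
    rw [← smul_smul, ← h2, smul_smul, show (2 : K) * 2 = 1 from by decide, one_smul]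

/-- A member commuting with members at a connected non-degenerate system commutes with all. -/
theorem central_of_seven {n : ℕ} {w : Fin (n + 1) → V7} {p : Fin (n + 1) → G}
    (hat : ∀ i, At φ (p i) (w i))
    (hnd : ∀ y : V7, (∀ i, polar Q y (w i) = 0) → y = 0)
    (hconn : ∀ i, i ≠ 0 → ∃ k < i, polar Q (w k) (w i) ≠ 0)
    {g : G} (hg : g ∈ near D z ∩ near D j) (hcg : ∀ i, Commute g (p i)) :
    ∀ q ∈ near D z ∩ near D j, Commute g q := by
  set gg : ↥(com D z j) := ⟨g, Subgroup.subset_closure hg⟩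
  obtain ⟨x, hx⟩ := QuotientGroup.mk_surjective (φ gg)
  have hs : ∀ i, x.1.1 (w i) = w i ∨ x.1.1 (w i) = -w i := by
    intro i
    obtain ⟨hp, hc, hw, e⟩ := hat i
    refine sign_of_commute_refl hc x.1 hw (hw ▸ hc) ?_
    have h1 := (show Commute (⟨p i, Subgroup.subset_closure hp⟩ : ↥(com D z j)) gg from
      Subtype.ext (hcg i).symm).map φ
    rw [e, ← hx] at h1
    exact comm_of_comm M h1
  have hall : ∃ s : K, (s = 1 ∨ s = -1) ∧ ∀ i, x.1.1 (w i) = s • w i := by
    obtain ⟨s, hs', h0⟩ : ∃ s : K, (s = 1 ∨ s = -1) ∧ x.1.1 (w 0) = s • w 0 := by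
      rcases hs 0 with h | h
      · exact ⟨1, Or.inl rfl, by rw [one_smul]; exact h⟩
      · exact ⟨-1, Or.inr rfl, by rw [neg_one_smul]; exact h⟩
    refine ⟨s, hs', fun i => ?_⟩
    induction i using WellFoundedLT.induction with
    | _ i ih =>
      by_cases hi : i = 0
      · rw [hi]; exact h0
      obtain ⟨k, hk, hpol⟩ := hconn i hi
      have hkk := ih k hk
      have hp := polar_orth x.1 (w k) (w i)
      rw [hkk, polar_smul_left, smul_eq_mul] at hp
      rcases hs i with h | h <;> rcases hs' with rfl | rfl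
      · rw [h, one_smul]
      · rw [h] at hp; exfalso; apply hpol; revert hp
        generalize polar Q (w k) (w i) = t; revert t; decide
      · rw [h, polar_neg_right] at hp; exfalso; apply hpol; revert hp
        generalize polar Q (w k) (w i) = t; revert t; decide
      · rw [h, neg_one_smul]
  obtain ⟨s, hs', hall⟩ := hall
  have hss : s * s = 1 := by rcases hs' with rfl | rfl <;> decide
  have hxy : ∀ y, x.1.1 y = s • y := by
    intro y
    refine sub_eq_zero.mp (hnd _ fun i => ?_)
    have h1 := polar_orth x.1 y (w i)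
    rw [hall, polar_smul_right, smul_eq_mul] at h1
    rw [polar_sub_left, polar_smul_left, smul_eq_mul, ← h1, ← mul_assoc, hss, one_mul, sub_self]
  have hcen : gg ∈ Subgroup.center ↥(com D z j) := by
    refine M.ker gg ?_
    rw [← hx]
    refine (QuotientGroup.eq_one_iff x).mpr (Subgroup.mem_center_iff.mpr fun y => Subtype.ext ?_)
    refine orth_ext fun u => ?_
    simp [Subgroup.coe_mul, orth_mul_apply, hxy]
  intro q hq
  exact (congrArg Subtype.val (Subgroup.mem_center_iff.mp hcen ⟨q, Subgroup.subset_closure hq⟩)).symm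

/-- A member conjugated by a member moves its vector by the reflection. -/
theorem At.conj {p q : G} {u w : V7} (h : At φ p u) (h' : At φ q w) (hw : Q w ≠ 0) :
    At φ (q * p * q⁻¹) ((refl Q w hw).1 u) := by
  obtain ⟨hp, hc, hu, e⟩ := h
  obtain ⟨hq, hc2, hw', e'⟩ := h'
  have hm := conj_pair M.ts (Subgroup.subset_closure hq) hp
  have hv : Q ((refl Q w hw).1 u) = c := (map_orth _ u).trans hu
  refine ⟨hm, hc, hv, ?_⟩
  rw [show (⟨q * p * q⁻¹, Subgroup.subset_closure hm⟩ : ↥(com D z j)) =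
    ⟨q, Subgroup.subset_closure hq⟩ * ⟨p, Subgroup.subset_closure hp⟩ *
      ⟨q, Subgroup.subset_closure hq⟩⁻¹ from rfl, map_mul, map_mul, map_inv, e', e]
  refine (mk_eq_iff' M (x := rf hc2 w hw' * rf hc u hu * (rf hc2 w hw')⁻¹)).mpr (Or.inl ?_)
  simp only [rf, Subgroup.coe_mul, InvMemClass.coe_inv]
  exact conj_refl _ _ _

omit M

/-! ### The nine members -/

/-- Coordinates of the members `a, b, c, d, e, f, m, h, i`. -/
def coord : Fin 9 → Fin 7 → K :=
  ![![0, 0, 0, 0, 0, 0, 1], ![1, 1, 0, 2, 0, 0, 1], ![1, 0, 0, 0, 0, 0, 0], ![1, 0, 1, 1, 1, 0, 0],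
    ![0, 1, 1, 1, 0, 1, 0], ![0, 0, 0, 0, 0, 1, 0], ![1, 1, 1, 1, 0, 0, 0], ![0, 0, 0, 0, 1, 0, 0],
    ![0, 1, 1, 1, 1, 0, 0]]

/-- The diagram of the nine members. -/
def adjM (i k : Fin 9) : Bool :=
  ((i.1, k.1) ∈ [(0, 1), (1, 0), (1, 2), (2, 1), (2, 3), (3, 2), (3, 4), (4, 3), (4, 5), (5, 4),
    (3, 7), (7, 3), (7, 8), (8, 7), (6, 1), (1, 6), (6, 2), (2, 6)] : Bool)

/-- The seven members with a non-degenerate connected system. -/
def seven : Fin 7 → Fin 9 := ![0, 1, 2, 3, 4, 7, 8]

/-- The word moving `c`. -/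
def mover {H : Type*} [Group H] (v : Fin 9 → H) : H :=
  v 3 * v 7 * v 8 * v 4 * v 3 * v 7 * v 5 * v 4 * v 3

/-- A reflection in coordinates. -/
def rr (s t : Fin 7 → K) : Fin 7 → K := fun i => t i + dot s t * s i

/-- The coordinates of the moved `c`. -/
def moved : Fin 7 → K :=
  rr (coord 3) (rr (coord 7) (rr (coord 8) (rr (coord 4) (rr (coord 3) (rr (coord 7) (rr (coord 5)
    (rr (coord 4) (rr (coord 3) (coord 2)))))))))

/-- The seven vectors with `c` or the moved `c`. -/
def sys (b : Bool) (i : Fin 7) : Fin 7 → K := if b && i = 2 then moved else coord (seven i)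

theorem coord_spec :
    (∀ i, dot (coord i) (coord i) = 1) ∧ (∀ i k, i ≠ k → (dot (coord i) (coord k) = 0 ↔ adjM i k = false)) ∧
    (∀ i k, i ≠ k → ∀ t : K, coord i ≠ t • coord k) := by
  decide +kernel

theorem sys_conn : ∀ b, ∀ i : Fin 7, i ≠ 0 → ∃ k < i, dot (sys b k) (sys b i) ≠ 0 := by
  decide +kernel

theorem sys_nondeg : ∀ b, ∀ s : Fin 7 → K, (∀ i, dot s (sys b i) = 0) → s = 0 := by
  decide +kernel

theorem refl_fv {e : Fin 7 → V7} (he : ∀ i, Q (e i) = c)
    (ho : ∀ i k, i ≠ k → polar Q (e i) (e k) = 0) (hc : c ≠ 0) {s : Fin 7 → K}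
    (hs : dot s s = 1) (hs0 : Q (fv e s) ≠ 0) (t : Fin 7 → K) :
    (refl Q (fv e s) hs0).1 (fv e t) = fv e (rr s t) := by
  rw [refl_apply, polar_fv he ho, q_fv he ho, hs, mul_one,
    show c⁻¹ * (2 * c * dot s t) = -dot s t by
      field_simp
      rw [show (2 : K) = -1 from by decide, neg_one_mul]]
  simp only [fv, rr, add_smul, Finset.sum_add_distrib, mul_smul, ← Finset.smul_sum, neg_smul,
    sub_neg_eq_add]

/-- The nine members, and the property of the seven. -/
theorem exists_nine (ht : TSys D) (hc : c ≠ 0) (hQ : (polarBilin Q).Nondegenerate)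
    (hdet : Cfsg.polarGramDet (⇑Q) = -c)
    (e : (↥(com D z j) ⧸ Subgroup.center ↥(com D z j)) ≃*
      (↥(Cfsg.reflectionSubgroup (⇑Q) c) ⧸ Subgroup.center ↥(Cfsg.reflectionSubgroup (⇑Q) c))) :
    ∃ p : Fin 9 → G, (∀ i, p i ∈ near D z ∩ near D j) ∧
      (∀ i k, Commute (p i) (p k) ↔ adjM i k = false) ∧
      ∀ g ∈ near D z ∩ near D j, Commute g (p 0) → Commute g (p 1) →
        (Commute g (p 2) ∨ Commute g (mover p * p 2 * (mover p)⁻¹)) →
        Commute g (p 3) → Commute g (p 4) → Commute g (p 7) → Commute g (p 8) →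
        ∀ q ∈ near D z ∩ near D j, Commute g q := by
  obtain ⟨f, hf, ho⟩ := exists_frame hQ hc hdet
  let φ : ↥(com D z j) →* ↥(RC Q c) ⧸ Subgroup.center ↥(RC Q c) :=
    ((e.trans (quotEquiv hc)).toMonoidHom).comp (QuotientGroup.mk' _)
  have M : Mdl D z j Q c φ :=
    { ts := ht
      surj := (e.trans (quotEquiv hc)).surjective.comp (QuotientGroup.mk'_surjective _)
      ker := fun x hx => (QuotientGroup.eq_one_iff x).mp
        ((map_eq_one_iff _ (e.trans (quotEquiv hc)).injective).mp hx)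
      reg := isReg_of_nondegenerate hQ
      cne := hc
      neg := negOne_mem hf ho hc }
  obtain ⟨h1, h2, h3⟩ := coord_spec
  have hq : ∀ i, Q (fv f (coord i)) = c := fun i => by rw [q_fv hf ho, h1, mul_one]
  choose p hp using fun i => all_at M (hq i)
  have h2c : (2 * c : K) ≠ 0 := mul_ne_zero zmod3_two_ne_zero hc
  refine ⟨p, fun i => (hp i).1, fun i k => ?_, ?_⟩
  · by_cases hik : i = k
    · subst hik
      exact iff_of_true (Commute.refl _) ((show ∀ i, adjM i i = false by decide) i)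
    by_cases h0 : dot (coord i) (coord k) = 0
    · exact iff_of_true (commute_of_polar M (hp i) (hp k) (by rw [polar_fv hf ho, h0, mul_zero]))
        ((h2 i k hik).mp h0)
    · refine iff_of_false (not_commute_of_polar M (hp i) (hp k) (by
        rw [polar_fv hf ho]; exact mul_ne_zero h2c h0) fun t e' => h3 i k hik t ?_)
        (fun e' => h0 ((h2 i k hik).mpr e'))
      refine fv_injective hf ho hc (e'.trans ?_)
      simp [fv, Finset.smul_sum, smul_smul]
  intro g hg g0 g1 g2 g3 g4 g7 g8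
  have hstep : ∀ {x : G} {t : Fin 7 → K}, At φ x (fv f t) → ∀ i,
      At φ (p i * x * (p i)⁻¹) (fv f (rr (coord i) t)) := fun {x t} h i => by
    rw [← refl_fv hf ho hc (h1 i) (hq i ▸ hc) t]
    exact At.conj M h (hp i) _
  have hmv : At φ (mover p * p 2 * (mover p)⁻¹) (fv f moved) := by
    have := hstep (hstep (hstep (hstep (hstep (hstep (hstep (hstep (hstep (hp 2) 3) 4) 5) 7) 3) 4) 8) 7) 3
    have e' : mover p * p 2 * (mover p)⁻¹ = p 3 * (p 7 * (p 8 * (p 4 * (p 3 * (p 7 * (p 5 * (p 4 *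
      (p 3 * p 2 * (p 3)⁻¹) * (p 4)⁻¹) * (p 5)⁻¹) * (p 7)⁻¹) * (p 3)⁻¹) * (p 4)⁻¹) * (p 8)⁻¹) *
      (p 7)⁻¹) * (p 3)⁻¹ := by simp only [mover]; group
    rw [e']
    exact this
  have fin : ∀ (b : Bool) (r : G), At φ r (fv f (sys b 2)) → Commute g r →
      ∀ q ∈ near D z ∩ near D j, Commute g q := by
    intro b r hr hgr
    refine central_of_seven M (n := 6) (w := fun i => fv f (sys b i))
      (p := fun i => if i = 2 then r else p (seven i)) (fun i => ?_) (fun y hy => ?_) (fun i hi => ?_)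
      hg fun i => ?_
    · by_cases h : i = 2
      · simp only [h, if_true]; exact hr
      · simp only [h, if_false, sys, decide_false, Bool.and_false, Bool.false_eq_true]
        exact hp _
    · obtain ⟨s, rfl⟩ := fv_surjective hf ho hc y
      have : s = 0 := sys_nondeg b s fun i => by
        have := hy i
        rw [polar_fv hf ho] at this
        exact (mul_eq_zero.mp this).resolve_left h2c
      simp [this, fv]
    · obtain ⟨k, hk, hd⟩ := sys_conn b i hi
      exact ⟨k, hk, by rw [polar_fv hf ho]; exact mul_ne_zero h2c hd⟩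
    · fin_cases i <;> simp [seven] <;> assumption
  rcases g2 with g2 | g2
  · exact fin false (p 2) (by simpa [sys, seven] using hp 2) g2
  · exact fin true _ (by simpa [sys] using hmv) g2

end Cfsg.Agent.ThreeTransM23Vectors78
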