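import Cfsg.Agent.Lib.ThreeTransM22Pat51
import Cfsg.Agent.Lib.ThreeTransM23Vectors78

/-!
# Completing the diagram in a group of type M(22)

Eight members of the diagram `Y332` without the end of one arm, and a ninth member at a further node,
complete to the whole diagram, possibly after moving the neighbour of the branch point.
-/

set_option autoImplicit false
set_option linter.unusedSectionVars false
set_option linter.style.haveILetI false

namespace Cfsg.Agent.ThreeTransM22Extend78

open Subgroup Cfsg.Agent.ThreeTransRel Cfsg.Agent.ThreeTransDescent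
open Cfsg.Agent.UnitaryF4Geo Cfsg.Agent.UnitaryF4Line
open Cfsg.Agent.ThreeTransM22Frame72 Cfsg.Agent.ThreeTransM22Lift72
open Cfsg.Agent.ThreeTransM22Local72 (Chart)
open Cfsg.Agent.ThreeTransM22Frames51 Cfsg.Agent.ThreeTransM22Pat51
open Cfsg.Agent.Fi22Certs51 (adjN)
open Cfsg.Agent.ThreeTransM23Vectors78 (adjM mover)

variable {G : Type*} [Group G] [Finite G] {D : Set G}

/-- The letters with the new end `g` and the neighbour `c` of the branch point. -/
def letters (v : Fin 9 → G) (c g : G) (i : ℕ) : G :=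
  if i = 2 then c else if i = 6 then g else if hi : i < 9 then v ⟨i, hi⟩ else 1

theorem pat_of {v : Fin 9 → G} (hv : ∀ i, v i ∈ D)
    (hpat : ∀ i k, Commute (v i) (v k) ↔ adjM i k = false) {c g : G} (hc : c ∈ D) (hg : g ∈ D)
    (hcc : ∀ k : Fin 9, k ≠ 2 → k ≠ 6 → (Commute c (v k) ↔ adjN 2 k.1 = false))
    (hgc : ∀ k : Fin 9, k ≠ 2 → k ≠ 6 → (Commute g (v k) ↔ adjN 6 k.1 = false))
    (hcg : Commute c g) : Pat D (letters v c g) := by
  have key : ∀ i < 9, ∀ k < 9,
      (Commute (letters v c g i) (letters v c g k) ↔ adjN i k = false) := by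
    intro i hi k hk
    have hs : ∀ a < 9, ∀ b < 9, adjN a b = adjN b a := by decide
    unfold letters
    by_cases i2 : i = 2 <;> by_cases i6 : i = 6 <;> by_cases k2 : k = 2 <;> by_cases k6 : k = 6 <;>
      first | omega | skip
    · subst i2 k2; simp [adjN]
    · subst i2 k6; simpa [adjN] using hcg
    · subst i2
      rw [if_pos rfl, if_neg k2, if_neg k6, dif_pos hk]
      exact hcc ⟨k, hk⟩ (fun e => k2 (congrArg Fin.val e)) (fun e => k6 (congrArg Fin.val e))
    · subst i6 k2; simpa [adjN] using hcg.symm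
    · subst i6 k6; simp [adjN]
    · subst i6
      rw [if_neg i2, if_pos rfl, if_neg k2, if_neg k6, dif_pos hk]
      exact hgc ⟨k, hk⟩ (fun e => k2 (congrArg Fin.val e)) (fun e => k6 (congrArg Fin.val e))
    · subst k2
      rw [if_neg i2, if_neg i6, dif_pos hi, if_pos rfl, Commute.symm_iff, hs i hi 2 hk]
      exact hcc ⟨i, hi⟩ (fun e => i2 (congrArg Fin.val e)) (fun e => i6 (congrArg Fin.val e))
    · subst k6
      rw [if_neg i2, if_neg i6, dif_pos hi, if_neg k2, if_pos rfl, Commute.symm_iff, hs i hi 6 hk]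
      exact hgc ⟨i, hi⟩ (fun e => i2 (congrArg Fin.val e)) (fun e => i6 (congrArg Fin.val e))
    · rw [if_neg i2, if_neg i6, dif_pos hi, if_neg k2, if_neg k6, dif_pos hk, hpat]
      have hh : ∀ a b : Fin 9, a ≠ 6 → b ≠ 6 → adjM a b = adjN a.1 b.1 := by decide
      rw [hh _ _ (fun e => i6 (congrArg Fin.val e)) (fun e => k6 (congrArg Fin.val e))]
  refine ⟨fun i hi => ?_, fun i hi k hk h => (key i hi k hk).mpr h, fun i hi k hk h h' => ?_⟩
  · unfold letters
    split_ifs
    exacts [hc, hg, hv _]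
  · rw [(key i hi k hk).mp h'] at h
    exact Bool.noConfusion h

theorem pat_ne {v : Fin 9 → G} (hpat : ∀ i k, Commute (v i) (v k) ↔ adjM i k = false) {i k : Fin 9}
    (hik : i ≠ k) : v i ≠ v k := by
  intro e
  obtain ⟨l, hl⟩ := (show ∀ i k : Fin 9, i ≠ k → ∃ l, adjM i l ≠ adjM k l by decide) i k hik
  have h1 := hpat i l
  rw [e, hpat k l] at h1
  revert hl h1
  cases adjM i l <;> cases adjM k l <;> simp

variable (hD : Cfsg.IsThreeTranspositionGroup D) (hprim : Cfsg.IsPrimitiveUnderConj D)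
  (h22 : Cfsg.IsOfTypeM22 G D) (hmu : Mu D)
include hD hprim h22 hmu

set_option maxHeartbeats 1600000 in
/-- The diagram completes. -/
theorem extend {v : Fin 9 → G} (hv : ∀ i, v i ∈ D)
    (hpat : ∀ i k, Commute (v i) (v k) ↔ adjM i k = false) :
    ∃ g c, (c = v 2 ∨ c = mover v * v 2 * (mover v)⁻¹) ∧ Pat D (letters v c g) := by
  classical
  have ht := tsys_of_group hD
  obtain ⟨F, _, _, _, hctx⟩ := exists_ctx hD hprim h22
  obtain ⟨φ, X⟩ := hctx (v 0) (hv 0)
  set nd : Fin 6 → Fin 9 := ![2, 3, 4, 5, 7, 8] with hnd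
  have hnear : ∀ i, v (nd i) ∈ near D (v 0) := fun i =>
    ⟨hv _, pat_ne hpat ((show ∀ i : Fin 6, (![2, 3, 4, 5, 7, 8] : Fin 6 → Fin 9) i ≠ 0 by decide) i),
      (hpat _ _).mpr ((show ∀ i : Fin 6, adjM 0 ((![2, 3, 4, 5, 7, 8] : Fin 6 → Fin 9) i) = false by
        decide) i)⟩
  obtain ⟨u, hu, hg⟩ := exists_gram X 6 (fun i => v (nd i)) tree6 hnear
    (fun i k => by
      rw [hpat, (show ∀ i k : Fin 6, adjM ((![2, 3, 4, 5, 7, 8] : Fin 6 → Fin 9) i)
        ((![2, 3, 4, 5, 7, 8] : Fin 6 → Fin 9) k) = tree6 i k by decide) i k])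
    (by decide) (by decide)
  have hli := tree6_li hg
  set R : Fin 6 → F := u 1 + u 3 + u 5 with hR
  set g0 : Fin 6 → F := u 0 + u 2 with hg0
  have hRp : ∀ k : Fin 6, h R (u k) = if k = 0 then 1 else 0 := fun k => by
    rw [hR, h_add_left, h_add_left, hg, hg, hg]
    fin_cases k <;> simp [tree6, add_self]
  have hgp : ∀ k : Fin 6, h g0 (u k) = if k = 3 then 1 else 0 := fun k => by
    rw [hg0, h_add_left, hg, hg]
    fin_cases k <;> simp [tree6, add_self]
  have hRR : h R R = 0 := by
    conv_lhs => arg 2; rw [hR]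
    rw [h_add_right, h_add_right, hRp, hRp, hRp]
    simp
  have hgg : h g0 g0 = 0 := by
    conv_lhs => arg 2; rw [hg0]
    rw [h_add_right, hgp, hgp]
    simp
  have hRg : h R g0 = 1 := by
    rw [hg0, h_add_right, hRp, hRp]
    simp
  have hgR : h g0 R = 1 := h_comm_one hRg
  have hR0 : R ≠ 0 := fun e => by
    have := hRp 0; rw [e, h_zero_left, if_pos rfl] at this; exact zero_ne_one this
  have hg00 : g0 ≠ 0 := fun e => by
    have := hgp 3; rw [e, h_zero_left, if_pos rfl] at this; exact zero_ne_one this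
  set g1 : Fin 6 → F := R + g0 with hg1
  have hg1p : ∀ k : Fin 6, h g1 (u k) = if k = 0 ∨ k = 3 then 1 else 0 := fun k => by
    rw [hg1, h_add_left, hRp, hgp]
    fin_cases k <;> simp
  have hg11 : h g1 g1 = 0 := by
    rw [hg1, h_add_left, h_add_right R R g0, h_add_right g0 R g0, hRR, hgg, hRg, hgR]
    simp [add_self]
  have hg10 : g1 ≠ 0 := fun e => by
    have := hg1p 0; rw [e, h_zero_left, if_pos (Or.inl rfl)] at this; exact zero_ne_one this
  -- the ninth member is the radical point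
  have hm : v 6 = Chart.L X.chart R := by
    obtain ⟨w, hw, hw0, hwe⟩ := L_surj X (x := v 6)
      ⟨hv 6, pat_ne hpat (by decide), (hpat _ _).mpr (by decide)⟩
    have hz : ∀ k : Fin 6, k ≠ 0 → h w (u k) = 0 := fun k hk =>
      (L_comm X hw hw0 (hu k).1 (hu k).2.1).mp (by
        rw [hwe, (hu k).2.2]
        exact (hpat _ _).mpr ((show ∀ k : Fin 6, k ≠ 0 →
          adjM 6 ((![2, 3, 4, 5, 7, 8] : Fin 6 → Fin 9) k) = false by decide) k hk))
    have e : w = h w (u 0) • R := by
      refine eq_of_pair hli fun k => ?_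
      rw [h_smul_left, hRp]
      by_cases hk : k = 0
      · rw [hk, if_pos rfl, mul_one]
      · rw [if_neg hk, mul_zero, hz k hk]
    have hk : h w (u 0) ≠ 0 := fun e0 => hw0 (by rw [e, e0, zero_smul])
    rw [← hwe, e, L_smul X hRR hR0 hk]
  -- a member fixed by the element of order five
  set S : Set G := near D (v 0) ∩ near D (v 1) with hS
  have hnab : ¬ Commute (v 0) (v 1) := fun e =>
    absurd ((hpat 0 1).mp e) (by decide)
  set y := v 4 * v 3 * v 7 * v 8 with hy
  have hyp : y ^ 5 = 1 := cycle_pow ht (hv 4) (hv 3) (hv 7) (hv 8)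
    (fun e => absurd ((hpat _ _).mp e) (by decide)) (fun e => absurd ((hpat _ _).mp e) (by decide))
    (fun e => absurd ((hpat _ _).mp e) (by decide)) ((hpat _ _).mpr (by decide))
    ((hpat _ _).mpr (by decide)) ((hpat _ _).mpr (by decide))
  have hcy : ∀ s : Fin 9, (∀ k ∈ ([4, 3, 7, 8] : List (Fin 9)), adjM k s = false) →
      Commute y (v s) := fun s h =>
    ((((hpat 4 s).mpr (h 4 (by simp))).mul_left ((hpat 3 s).mpr (h 3 (by simp)))).mul_left
      ((hpat 7 s).mpr (h 7 (by simp)))).mul_left ((hpat 8 s).mpr (h 8 (by simp)))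
  have hy0 : Commute y (v 0) := hcy 0 (by decide)
  have hy1 : Commute y (v 1) := hcy 1 (by decide)
  have hyS : ∀ g ∈ zpowers y, ∀ z ∈ S, g * z * g⁻¹ ∈ S := by
    intro g hg z hz
    obtain ⟨k, rfl⟩ := mem_zpowers_iff.mp hg
    exact ⟨near_conj ht (hy0.zpow_left k) hz.1, near_conj ht (hy1.zpow_left k) hz.2⟩
  letI : MulAction ↥(zpowers y) ↥S :=
    { smul := fun g z => ⟨(g : G) * z.1 * (g : G)⁻¹, hyS g g.2 z.1 z.2⟩
      one_smul := fun z => Subtype.ext (by
        show ((1 : ↥(zpowers y)) : G) * z.1 * ((1 : ↥(zpowers y)) : G)⁻¹ = z.1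
        simp)
      mul_smul := fun g k z => Subtype.ext (by
        show ((g * k : ↥(zpowers y)) : G) * z.1 * ((g * k : ↥(zpowers y)) : G)⁻¹ =
          (g : G) * ((k : G) * z.1 * (k : G)⁻¹) * (g : G)⁻¹
        push_cast; group) }
  haveI : Fact (Nat.Prime 5) := ⟨by norm_num⟩
  have hp5 : IsPGroup 5 ↥(zpowers y) := fun g => ⟨1, by
    obtain ⟨k, hk⟩ := mem_zpowers_iff.mp g.2
    apply Subtype.ext
    rw [pow_one, SubmonoidClass.coe_pow, ← hk, ← zpow_natCast, ← zpow_mul, mul_comm, zpow_mul,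
      zpow_natCast, hyp, one_zpow]
    rfl⟩
  obtain ⟨z, hz⟩ := hp5.nonempty_fixed_point_of_prime_not_dvd_card ↥S (by
    rw [Nat.card_coe_set_eq, hmu _ (hv 0) _ (hv 1) hnab]; norm_num)
  have hyz : Commute y z.1 := mul_inv_eq_iff_eq_mul.mp (congrArg Subtype.val (hz ⟨y, mem_zpowers y⟩))
  obtain ⟨w, hw, hw0, hwz⟩ := L_surj X z.2.1
  have hperp := perp_of_cycle X (u := ![u 2, u 1, u 4, u 5])
    (fun i => by fin_cases i <;> exact (hu _).1) (fun i => by fin_cases i <;> exact (hu _).2.1)
    (fun i k => by fin_cases i <;> fin_cases k <;> simp [hg _ _, tree6])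
    hw hw0 (by
      show Commute (Chart.L X.chart (u 2) * Chart.L X.chart (u 1) * Chart.L X.chart (u 4) *
        Chart.L X.chart (u 5)) (Chart.L X.chart w)
      rw [(hu 2).2.2, (hu 1).2.2, (hu 4).2.2, (hu 5).2.2, hwz]
      exact hyz)
  set α := h w (u 0)
  set β := h w (u 3)
  have hweq : w = α • R + β • g0 := by
    refine eq_of_pair hli fun k => ?_
    rw [h_add_left, h_smul_left, h_smul_left, hRp, hgp]
    have p0 : h w (u 2) = 0 := hperp 0
    have p1 : h w (u 1) = 0 := hperp 1
    have p2 : h w (u 4) = 0 := hperp 2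
    have p3 : h w (u 5) = 0 := hperp 3
    fin_cases k <;> simp [α, β, p0, p1, p2, p3]
  have hiso : α * β * (α + β) = 0 := by
    have h1 := hw
    rw [hweq] at h1
    simp only [h_add_left, h_add_right, h_smul_left, h_smul_right, hRR, hgg, hRg, hgR, mul_zero,
      mul_one, add_zero, zero_add] at h1
    linear_combination h1
  -- commuting with the nodes, from the pairings
  have hcomm : ∀ (p : Fin 6 → F) (hp : h p p = 0) (hp0 : p ≠ 0) (q : Fin 6),
      Commute (Chart.L X.chart p) (v (nd q)) ↔ h p (u q) = 0 := fun p hp hp0 q => by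
    rw [← L_comm X hp hp0 (hu q).1 (hu q).2.1, (hu q).2.2]
  have hLw : Chart.L X.chart w = Chart.L X.chart g0 ∨ Chart.L X.chart w = Chart.L X.chart g1 := by
    by_cases hb : β = 0
    · exfalso
      have ha : α ≠ 0 := fun h0 => hw0 (by rw [hweq, h0, hb]; simp)
      have e : z.1 = v 6 := by
        rw [← hwz, hm, hweq, hb, zero_smul, add_zero, L_smul X hRR hR0 ha]
      have h16 : Commute (v 1) (v 6) := e ▸ z.2.2.2.2
      exact absurd ((hpat 1 6).mp h16) (by decide)
    by_cases ha : α = 0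
    · left
      rw [hweq, ha, zero_smul, zero_add, L_smul X hgg hg00 hb]
    · right
      have hab : α = β :=
        UnitaryF4Geo.eq_of_add_eq_zero ((mul_eq_zero.mp hiso).resolve_left (mul_ne_zero ha hb))
      rw [hweq, hab, ← smul_add, ← hg1, L_smul X hg11 hg10 hb]
  have hzc : Commute z.1 (v 0) ∧ Commute z.1 (v 1) := ⟨z.2.1.2.2.symm, z.2.2.2.2.symm⟩
  rcases hLw with hcase | hcase
  · refine ⟨z.1, v 2, Or.inl rfl, pat_of hv hpat (hv 2) z.2.1.1 (fun k h2 h6 => ?_)
      (fun k h2 h6 => ?_) ?_⟩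
    · rw [hpat, (show ∀ k : Fin 9, k ≠ 6 → adjM 2 k = adjN 2 k.1 by decide) k h6]
    · fin_cases k
      · simpa [adjN] using hzc.1
      · simpa [adjN] using hzc.2
      · exact absurd rfl h2
      · rw [← hwz, hcase]; exact (hcomm g0 hgg hg00 1).trans (by simp [hgp, adjN])
      · rw [← hwz, hcase]; exact (hcomm g0 hgg hg00 2).trans (by simp [hgp, adjN])
      · rw [← hwz, hcase]; exact (hcomm g0 hgg hg00 3).trans (by simp [hgp, adjN])
      · exact absurd rfl h6
      · rw [← hwz, hcase]; exact (hcomm g0 hgg hg00 4).trans (by simp [hgp, adjN])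
      · rw [← hwz, hcase]; exact (hcomm g0 hgg hg00 5).trans (by simp [hgp, adjN])
    · rw [← hwz, hcase]
      exact ((hcomm g0 hgg hg00 0).mpr (by simp [hgp])).symm
  · set cs : Fin 6 → F := u 0 + u 1 + u 3 + u 5 with hcs
    have hcsp : ∀ k : Fin 6, h cs (u k) = if k = 0 ∨ k = 1 then 1 else 0 := fun k => by
      rw [hcs, h_add_left, h_add_left, h_add_left, hg, hg, hg, hg]
      fin_cases k <;> simp [tree6, add_self]
    set c' := mover v * v 2 * (mover v)⁻¹ with hc'
    have hcs11 : h cs cs = 0 := by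
      conv_lhs => arg 2; rw [hcs]
      rw [h_add_right, h_add_right, h_add_right, hcsp, hcsp, hcsp, hcsp]
      simp [add_self]
    have hcs0 : cs ≠ 0 := fun e => by
      have := hcsp 0; rw [e, h_zero_left, if_pos (Or.inl rfl)] at this; exact zero_ne_one this
    -- one step of the walk
    have step : ∀ (x : G) (p : Fin 6 → F) (q : Fin 6), h p p = 0 ∧ p ≠ 0 ∧ x = Chart.L X.chart p →
        h p (u q) = 1 →
        h (p + u q) (p + u q) = 0 ∧ p + u q ≠ 0 ∧
          v (nd q) * x * (v (nd q))⁻¹ = Chart.L X.chart (p + u q) := by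
      intro x p q hx hpq
      have hqp : h (u q) p = 1 := h_comm_one hpq
      refine ⟨?_, fun e => ?_, ?_⟩
      · rw [h_add_left, h_add_right, h_add_right, hx.1, (hu q).1, hpq, hqp]
        simp [add_self]
      · have := congrArg (fun t => h t (u q)) e
        simp only [h_add_left, hpq, (hu q).1, h_zero_left, add_zero] at this
        exact one_ne_zero this
      · rw [hx.2.2, ← (hu q).2.2, L_tconj X hx.1 hx.2.1 (hu q).1 (hu q).2.1, hpq, one_smul]
    have s1 := step _ (u 0) 1 ⟨(hu 0).1, (hu 0).2.1, (hu 0).2.2.symm⟩ (by simp [hg _ _, tree6])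
    have s2 := step _ _ 2 s1 (by simp [h_add_left, hg _ _, tree6])
    have s3 := step _ _ 3 s2 (by simp [h_add_left, hg _ _, tree6])
    have s4 := step _ _ 4 s3 (by simp [h_add_left, hg _ _, tree6])
    have s5 := step _ _ 1 s4 (by simp [h_add_left, hg _ _, tree6, add_self])
    have s6 := step _ _ 2 s5 (by simp [h_add_left, hg _ _, tree6, add_self])
    have s7 := step _ _ 5 s6 (by simp [h_add_left, hg _ _, tree6, add_self])
    have s8 := step _ _ 4 s7 (by simp [h_add_left, hg _ _, tree6, add_self])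
    have s9 := step _ _ 1 s8 (by simp [h_add_left, hg _ _, tree6, add_self])
    have hceq : c' = Chart.L X.chart cs := by
      have e : u 0 + u 1 + u 2 + u 3 + u 4 + u 1 + u 2 + u 5 + u 4 + u 1 = cs := by
        funext i
        simp only [hcs, Pi.add_apply]
        linear_combination (u 1 i + u 2 i + u 4 i) * two_eq_zero (F := F)
      rw [← e, ← s9.2.2, hc', mover]
      simp only [hnd, Matrix.cons_val, mul_inv_rev, mul_assoc]
    have hc'D : c' ∈ D := ht.conj _ _ (hv 2)
    have hmove : ∀ s : Fin 9, (∀ k ∈ ([3, 4, 5, 7, 8] : List (Fin 9)), adjM k s = false) →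
        Commute (mover v) (v s) := by
      intro s h
      have h3 := (hpat 3 s).mpr (h 3 (by simp)); have h4 := (hpat 4 s).mpr (h 4 (by simp))
      have h5 := (hpat 5 s).mpr (h 5 (by simp)); have h7 := (hpat 7 s).mpr (h 7 (by simp))
      have h8 := (hpat 8 s).mpr (h 8 (by simp))
      exact (((((((h3.mul_left h7).mul_left h8).mul_left h4).mul_left h3).mul_left h7).mul_left
        h5).mul_left h4).mul_left h3
    have hc0 : Commute c' (v 0) := by
      rw [hceq]
      exact (commute_d_of_mem_loc (near_le_loc (L_mem X hcs11 hcs0))).symm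
    have hc1 : ¬ Commute c' (v 1) := fun e => by
      have hfix : mover v * v 1 * (mover v)⁻¹ = v 1 :=
        mul_inv_eq_iff_eq_mul.mpr (hmove 1 (by decide)).eq
      rw [← hfix, hc', Commute.conj_iff] at e
      exact absurd ((hpat 2 1).mp e) (by decide)
    refine ⟨z.1, c', Or.inr hc', pat_of hv hpat hc'D z.2.1.1 (fun k h2 h6 => ?_) (fun k h2 h6 => ?_) ?_⟩
    · fin_cases k
      · simpa [adjN] using hc0
      · simpa [adjN] using hc1
      · exact absurd rfl h2
      · rw [hceq]; exact (hcomm cs hcs11 hcs0 1).trans (by simp [hcsp, adjN])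
      · rw [hceq]; exact (hcomm cs hcs11 hcs0 2).trans (by simp [hcsp, adjN])
      · rw [hceq]; exact (hcomm cs hcs11 hcs0 3).trans (by simp [hcsp, adjN])
      · exact absurd rfl h6
      · rw [hceq]; exact (hcomm cs hcs11 hcs0 4).trans (by simp [hcsp, adjN])
      · rw [hceq]; exact (hcomm cs hcs11 hcs0 5).trans (by simp [hcsp, adjN])
    · fin_cases k
      · simpa [adjN] using hzc.1
      · simpa [adjN] using hzc.2
      · exact absurd rfl h2
      · rw [← hwz, hcase]; exact (hcomm g1 hg11 hg10 1).trans (by simp [hg1p, adjN])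
      · rw [← hwz, hcase]; exact (hcomm g1 hg11 hg10 2).trans (by simp [hg1p, adjN])
      · rw [← hwz, hcase]; exact (hcomm g1 hg11 hg10 3).trans (by simp [hg1p, adjN])
      · exact absurd rfl h6
      · rw [← hwz, hcase]; exact (hcomm g1 hg11 hg10 4).trans (by simp [hg1p, adjN])
      · rw [← hwz, hcase]; exact (hcomm g1 hg11 hg10 5).trans (by simp [hg1p, adjN])
    · rw [hceq, ← hwz, hcase, L_comm X hcs11 hcs0 hg11 hg10]
      refine h_comm_zero ?_
      rw [hcs, h_add_right, h_add_right, h_add_right, hg1p, hg1p, hg1p, hg1p]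
      simp [add_self]

end Cfsg.Agent.ThreeTransM22Extend78
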