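import Cfsg.Agent.Lib.ThreeTransM22Triples17

/-!
# Configurations of members near a member as systems of scaled vectors

Trees of non-commuting members give vectors with Gram entries `0` and `1`; non-degenerate systems of six
determine vectors by their pairings; elements fixing such systems are scalars or transvections.
-/

set_option autoImplicit false
set_option linter.unusedSectionVars false
set_option linter.style.haveILetI false

namespace Cfsg.Agent.ThreeTransM22Frames51

open Subgroup Cfsg.Agent.ThreeTransRel Cfsg.Agent.ThreeTransDescent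
open Cfsg.Agent.UnitaryF4Geo Cfsg.Agent.UnitaryF4Line
open Cfsg.Agent.ThreeTransM22Local72 Cfsg.Agent.ThreeTransM22Frame72 Cfsg.Agent.ThreeTransM22Lift72
open Cfsg.Agent.OrthUnitaryTransvection (act)

variable {F : Type} [Field F] [Fintype F] [hF : FourField F]

local notation "π" => QuotientGroup.mk' (Subgroup.center (Cfsg.SU 6 F 2))

/-- The Gram entries of a system are given by an adjacency function. -/
def Gram {k : ℕ} (adj : Fin k → Fin k → Bool) (u : Fin k → Fin 6 → F) : Prop :=
  ∀ i j, h (u i) (u j) = if adj i j then 1 else 0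

theorem mul_sq_eq {a b : F} (hb : b ≠ 0) (e : a * b ^ 2 = 1) : a = b := by
  have h3 := cube hb
  linear_combination b * e - a * h3

theorem indep_of_nondeg {k : ℕ} {u : Fin k → Fin 6 → F}
    (hnd : ∀ c : Fin k → F, (∀ j, ∑ i, c i * h (u i) (u j) = 0) → c = 0) :
    LinearIndependent F u := by
  rw [Fintype.linearIndependent_iff]
  intro c hc i
  refine congrFun (hnd c fun j => ?_) i
  rw [← h_sum_left, hc, h_zero_left]

theorem eq_of_pair {u : Fin 6 → Fin 6 → F} (hli : LinearIndependent F u) {v w : Fin 6 → F}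
    (e : ∀ j, h v (u j) = h w (u j)) : v = w := by
  refine eq_of_add_eq_zero' (eq_zero_of_h fun x => ?_)
  obtain ⟨c, rfl⟩ := (Submodule.mem_span_range_iff_exists_fun F).mp
    ((hli.span_eq_top_of_card_eq_finrank (by simp)).ge (Submodule.mem_top (x := x)))
  rw [h_sum_right]
  refine Finset.sum_eq_zero fun j _ => ?_
  rw [h_add_left, e j, add_self, mul_zero]
where
  eq_of_add_eq_zero' {v w : Fin 6 → F} (e : v + w = 0) : v = w :=
    funext fun i => eq_of_add_eq_zero (congrFun e i)

/-- A path of six. -/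
def path6 (i j : Fin 6) : Bool := i.1 + 1 == j.1 || j.1 + 1 == i.1

/-- The diagram `E₆` in the order `c, d, e, f, h, i`. -/
def tree6 (i j : Fin 6) : Bool :=
  ((i.1, j.1) ∈ [(0, 1), (1, 2), (2, 3), (1, 4), (4, 5), (1, 0), (2, 1), (3, 2), (4, 1), (5, 4)] : Bool)

theorem path6_li {u : Fin 6 → Fin 6 → F} (hg : Gram path6 u) : LinearIndependent F u := by
  refine indep_of_nondeg fun c hc => ?_
  have e0 := hc 0; have e1 := hc 1; have e2 := hc 2
  have e3 := hc 3; have e4 := hc 4; have e5 := hc 5
  simp [hg _ _, Fin.sum_univ_six, path6] at e0 e1 e2 e3 e4 e5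
  have c3 : c 3 = 0 := by linear_combination e2 - e0
  have c2 : c 2 = 0 := by linear_combination e3 - e5
  have c5 : c 5 = 0 := by linear_combination e4 - c3
  have c0' : c 0 = 0 := by linear_combination e1 - c2
  funext i
  fin_cases i <;> simp [e0, e5, c3, c2, c5, c0']

theorem tree6_li {u : Fin 6 → Fin 6 → F} (hg : Gram tree6 u) : LinearIndependent F u := by
  refine indep_of_nondeg fun c hc => ?_
  have e0 := hc 0; have e1 := hc 1; have e2 := hc 2
  have e3 := hc 3; have e4 := hc 4; have e5 := hc 5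
  simp [hg _ _, Fin.sum_univ_six, tree6] at e0 e1 e2 e3 e4 e5
  have c0' : c 0 = 0 := by linear_combination e1 - e3 - e5
  have c3 : c 3 = 0 := by linear_combination e2 - e0
  have c5 : c 5 = 0 := by linear_combination e4 - e0
  funext i
  fin_cases i <;> simp [e0, e3, e5, c3, c5, c0']

/-- The vector orthogonal to the first five points of a path of six. -/
def rad (u : Fin 6 → Fin 6 → F) : Fin 6 → F := u 0 + u 2 + u 4

theorem rad_pair {u : Fin 6 → Fin 6 → F} (hg : Gram path6 u) (j : Fin 6) :
    h (rad u) (u j) = if j = 5 then 1 else 0 := by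
  rw [rad, h_add_left, h_add_left, hg, hg, hg]
  fin_cases j <;> simp [path6, add_self]

theorem rad_iso {u : Fin 6 → Fin 6 → F} (hg : Gram path6 u) : h (rad u) (rad u) = 0 := by
  conv_lhs => arg 2; rw [rad]
  rw [h_add_right, h_add_right, rad_pair hg, rad_pair hg, rad_pair hg]
  simp

theorem rad_ne {u : Fin 6 → Fin 6 → F} (hg : Gram path6 u) : rad u ≠ 0 := fun e => by
  have := rad_pair hg 5
  rw [e, h_zero_left, if_pos rfl] at this
  exact zero_ne_one this

theorem perp_five {u : Fin 6 → Fin 6 → F} (hg : Gram path6 u) {w : Fin 6 → F}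
    (hw : ∀ j : Fin 6, j ≠ 5 → h w (u j) = 0) : w = h w (u 5) • rad u := by
  refine eq_of_pair (path6_li hg) fun j => ?_
  rw [h_smul_left, rad_pair hg]
  by_cases e : j = 5
  · rw [if_pos e, mul_one, e]
  · rw [if_neg e, mul_zero, hw j e]

variable {G : Type*} [Group G] [Finite G] {D : Set G} {d : G} {φ : ↥(loc D d) →* Cfsg.PSU 6 F 2}
  (X : Ctx D d φ)
include X

local notation "L" => Chart.L X.chart

theorem exists_scaled {u : Fin 6 → F} (hu : h u u = 0) (hu0 : u ≠ 0) {y : G} (hy : y ∈ near D d)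
    (hn : ¬ Commute (L u) y) :
    ∃ v : Fin 6 → F, h v v = 0 ∧ v ≠ 0 ∧ L v = y ∧ h u v = 1 := by
  obtain ⟨v, hv, hv0, rfl⟩ := L_surj X hy
  have hk : h u v ≠ 0 := fun e => hn ((L_comm X hu hu0 hv hv0).mpr e)
  refine ⟨h u v • v, by rw [h_smul_left, h_smul_right, hv, mul_zero, mul_zero], smul_ne_zero hk hv0,
    L_smul X hv hv0 hk, ?_⟩
  rw [h_smul_right, ← pow_succ, cube hk]

/-- Scaled vectors for a forest of members near `d`. -/
theorem exists_gram : ∀ (n : ℕ) (x : Fin n → G) (adj : Fin n → Fin n → Bool),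
    (∀ i, x i ∈ near D d) → (∀ i j, Commute (x i) (x j) ↔ adj i j = false) →
    (∀ i j, adj i j = adj j i) →
    (∀ i j j', j < i → j' < i → adj j i = true → adj j' i = true → j = j') →
    ∃ u : Fin n → Fin 6 → F, (∀ i, h (u i) (u i) = 0 ∧ u i ≠ 0 ∧ L (u i) = x i) ∧ Gram adj u
  | 0, _, _, _, _, _, _ => ⟨fun i => i.elim0, fun i => i.elim0, fun i => i.elim0⟩
  | n + 1, x, adj, hx, hpat, hsym, htree => by
    obtain ⟨u, hu, hg⟩ := exists_gram n (x ∘ Fin.castSucc) (fun i j => adj i.castSucc j.castSucc)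
      (fun i => hx _) (fun i j => hpat _ _) (fun i j => hsym _ _)
      (fun i j j' h1 h2 a1 a2 => Fin.castSucc_injective _ (htree _ _ _ (by simpa using h1)
        (by simpa using h2) a1 a2))
    have hlast : ∃ v : Fin 6 → F, h v v = 0 ∧ v ≠ 0 ∧ L v = x (Fin.last n) ∧
        ∀ i, h (u i) v = if adj i.castSucc (Fin.last n) then 1 else 0 := by
      have hz : ∀ {v : Fin 6 → F}, h v v = 0 → v ≠ 0 → L v = x (Fin.last n) → ∀ i,
          adj i.castSucc (Fin.last n) = false → h (u i) v = 0 := fun hv hv0 e i ha =>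
        (L_comm X (hu i).1 (hu i).2.1 hv hv0).mp (by rw [e, (hu i).2.2]; exact (hpat _ _).mpr ha)
      by_cases hex : ∃ j : Fin n, adj j.castSucc (Fin.last n) = true
      · obtain ⟨j, hj⟩ := hex
        have hn : ¬ Commute (L (u j)) (x (Fin.last n)) := by
          rw [(hu j).2.2]
          intro hc
          have := (hpat _ _).mp hc
          rw [hj] at this
          exact Bool.noConfusion this
        obtain ⟨v, hv, hv0, e, h1⟩ := exists_scaled X (hu j).1 (hu j).2.1 (hx _) hn
        refine ⟨v, hv, hv0, e, fun i => ?_⟩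
        by_cases ha : adj i.castSucc (Fin.last n) = true
        · rw [if_pos ha, show i = j from Fin.castSucc_injective _
            (htree (Fin.last n) _ _ (Fin.castSucc_lt_last i) (Fin.castSucc_lt_last j) ha hj), h1]
        · rw [if_neg ha]; exact hz hv hv0 e i (by simpa using ha)
      · obtain ⟨v, hv, hv0, e⟩ := L_surj X (hx (Fin.last n))
        push Not at hex
        refine ⟨v, hv, hv0, e, fun i => ?_⟩
        rw [if_neg (hex i)]
        exact hz hv hv0 e i (by simpa using hex i)
    obtain ⟨v, hv, hv0, e, hgv⟩ := hlast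
    refine ⟨Fin.snoc u v, fun i => ?_, fun i j => ?_⟩
    · induction i using Fin.lastCases with
      | last => rw [Fin.snoc_last]; exact ⟨hv, hv0, e⟩
      | cast i => rw [Fin.snoc_castSucc]; exact hu i
    · have hd : adj (Fin.last n) (Fin.last n) = false := (hpat _ _).mp (Commute.refl _)
      induction i using Fin.lastCases with
      | last =>
        induction j using Fin.lastCases with
        | last => simp [hd, hv]
        | cast j =>
          rw [Fin.snoc_last, Fin.snoc_castSucc, h_symm (u j) v, hgv, hsym]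
          split_ifs <;> simp
      | cast i =>
        induction j using Fin.lastCases with
        | last => rw [Fin.snoc_last, Fin.snoc_castSucc, hgv]
        | cast j => rw [Fin.snoc_castSucc, Fin.snoc_castSucc]; exact hg i j

/-- Two distinct points orthogonal to a non-degenerate system of four, and every further one. -/
theorem perp_four {u : Fin 4 → Fin 6 → F} (hiso : ∀ i, h (u i) (u i) = 0)
    (hnd : ∀ c : Fin 4 → F, (∀ j, ∑ i, c i * h (u i) (u j) = 0) → c = 0)
    {p q : Fin 6 → F} (hp : h p p = 0) (hp0 : p ≠ 0) (hq : h q q = 0) (hq0 : q ≠ 0)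
    (hne : L p ≠ L q) (hpu : ∀ i, h p (u i) = 0) (hqu : ∀ i, h q (u i) = 0) :
    h p q ≠ 0 ∧ ∀ w : Fin 6 → F, h w w = 0 → w ≠ 0 → (∀ i, h w (u i) = 0) →
      L w = L p ∨ L w = L q ∨ L w = L q * L p * (L q)⁻¹ := by
  have step : ∀ q' : Fin 6 → F, h q' q' = 0 → (∀ i, h q' (u i) = 0) → q' ≠ 0 →
      (∀ a b : F, a • p + b • q' = 0 → a = 0 ∧ b = 0) →
      LinearIndependent F (![u 0, u 1, u 2, u 3, p, q'] : Fin 6 → Fin 6 → F) := by
    intro q' hq' hq'u hq'0 hpq
    rw [Fintype.linearIndependent_iff]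
    intro c hc
    have hc' : c 0 • u 0 + c 1 • u 1 + c 2 • u 2 + c 3 • u 3 + (c 4 • p + c 5 • q') = 0 := by
      rw [← hc]; simp [Fin.sum_univ_six]; abel
    have hz : (fun i : Fin 4 => c i.castSucc.castSucc) = 0 := by
      refine hnd _ fun j => ?_
      have := congrArg (fun z => h z (u j)) hc'
      simp only [h_add_left, h_smul_left, h_zero_left, hpu, hq'u, mul_zero, add_zero] at this
      rw [Fin.sum_univ_four]
      exact this
    have z : ∀ i : Fin 4, c i.castSucc.castSucc = 0 := congrFun hz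
    have z0 : c 0 = 0 := z 0
    have z1 : c 1 = 0 := z 1
    have z2 : c 2 = 0 := z 2
    have z3 : c 3 = 0 := z 3
    rw [z0, z1, z2, z3] at hc'
    simp only [zero_smul, zero_add] at hc'
    obtain ⟨z4, z5⟩ := hpq _ _ hc'
    intro i
    fin_cases i <;> assumption
  have hpq : ∀ a b : F, a • p + b • q = 0 → a = 0 ∧ b = 0 := by
    intro a b e
    by_cases ha : a = 0
    · subst ha
      rw [zero_smul, zero_add] at e
      exact ⟨rfl, (smul_eq_zero.mp e).resolve_right hq0⟩
    · exfalso
      refine hne ?_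
      have e1 : p = (a⁻¹ * b) • q := by
        have h1 : a • p = b • q := funext fun i => eq_of_add_eq_zero (congrFun e i)
        calc p = a⁻¹ • (a • p) := by rw [smul_smul, inv_mul_cancel₀ ha, one_smul]
          _ = _ := by rw [h1, smul_smul]
      have hk : a⁻¹ * b ≠ 0 := fun h0 => hp0 (by rw [e1, h0, zero_smul])
      rw [e1, L_smul X hq hq0 hk]
  have hli := step q hq hqu hq0 hpq
  have hn : h p q ≠ 0 := by
    intro e0
    refine hp0 (eq_of_pair hli fun j => ?_)
    rw [h_zero_left]
    fin_cases j <;> simp [hpu, hp, e0]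
  refine ⟨hn, fun w hw hw0 hwu => ?_⟩
  -- scale `q`
  set k := h p q with hk
  set q' := k • q with hq'
  have hq'q : h q' q' = 0 := by rw [hq', h_smul_left, h_smul_right, hq, mul_zero, mul_zero]
  have hq'0 : q' ≠ 0 := smul_ne_zero hn hq0
  have hq'u : ∀ i, h q' (u i) = 0 := fun i => by rw [hq', h_smul_left, hqu, mul_zero]
  have h1 : h p q' = 1 := by rw [hq', h_smul_right, ← hk, ← pow_succ, cube hn]
  have h1' : h q' p = 1 := h_comm_one h1
  have hLq : L q' = L q := L_smul X hq hq0 hn
  have hli' := step q' hq'q hq'u hq'0 fun a b e => by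
    have ea := congrArg (fun z => h z q') e
    have eb := congrArg (fun z => h z p) e
    simp only [h_add_left, h_smul_left, h_zero_left, hp, hq'q, h1, h1', mul_zero, mul_one,
      add_zero, zero_add] at ea eb
    exact ⟨ea, eb⟩
  set α := h w q'
  set β := h w p
  have hweq : w = α • p + β • q' := by
    refine eq_of_pair hli' fun j => ?_
    rw [h_add_left, h_smul_left, h_smul_left]
    fin_cases j <;> simp [hwu, hpu, hq'u, hp, hq'q, h1, h1', α, β]
  have hz : α * β ^ 2 + β * α ^ 2 = 0 := by
    have := hw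
    rw [hweq] at this
    simp only [h_add_left, h_add_right, h_smul_left, h_smul_right, hp, hq'q, h1, h1', mul_zero,
      mul_one, zero_add, add_zero] at this
    linear_combination this
  rw [show α * β ^ 2 + β * α ^ 2 = α * β * (α + β) by ring] at hz
  by_cases hb : β = 0
  · rw [hb, zero_smul, add_zero] at hweq
    have ha : α ≠ 0 := fun h0 => hw0 (by rw [hweq, h0, zero_smul])
    exact Or.inl (by rw [hweq, L_smul X hp hp0 ha])
  by_cases ha : α = 0
  · rw [ha, zero_smul, zero_add] at hweq
    exact Or.inr (Or.inl (by rw [hweq, L_smul X hq'q hq'0 hb, hLq]))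
  · have hab : α = β := eq_of_add_eq_zero
      (((mul_eq_zero.mp hz).resolve_left (mul_ne_zero ha hb)))
    refine Or.inr (Or.inr ?_)
    rw [← hLq, L_tconj X hp hp0 hq'q hq'0, h1, one_smul, hweq, hab, ← smul_add]
    refine L_smul X ?_ ?_ hb
    · simp only [h_add_left, h_add_right, hp, hq'q, h1, h1', add_zero, zero_add, add_self]
    · intro e0
      exact hw0 (by rw [hweq, hab, ← smul_add, e0, smul_zero])

/-- An element fixing a connected system of points scales all of them by one factor. -/
theorem exists_scalar {n : ℕ} {x : Fin (n + 1) → G} {adj : Fin (n + 1) → Fin (n + 1) → Bool}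
    {u : Fin (n + 1) → Fin 6 → F}
    (hu : ∀ i, h (u i) (u i) = 0 ∧ u i ≠ 0 ∧ L (u i) = x i) (hg : Gram adj u)
    (hconn : ∀ i, i ≠ 0 → ∃ j < i, adj j i = true)
    {g : ↥(loc D d)} (hfix : ∀ i, Commute (g : G) (x i)) :
    ∃ (A : Cfsg.SU 6 F 2) (l : F), φ g = π A ∧ l ≠ 0 ∧ ∀ i, act A (u i) = l • u i := by
  obtain ⟨A, hA⟩ := QuotientGroup.mk'_surjective (Subgroup.center (Cfsg.SU 6 F 2)) (φ g)
  have hAu : ∀ i, ∃ l : F, l ≠ 0 ∧ act A (u i) = l • u i := by
    intro i
    have hm : h (act A (u i)) (act A (u i)) = 0 :=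
      (OrthUnitaryTransvection.herm_act A (u i) (u i)).trans (hu i).1
    have hm0 : act A (u i) ≠ 0 := fun e => (hu i).2.1 (by
      have e2 := congrArg (act A⁻¹) e
      rw [OrthUnitaryTransvection.act_inv_act] at e2
      rw [e2]; exact Matrix.mulVec_zero _)
    refine L_inj X hm hm0 (hu i).1 (hu i).2.1 ?_
    rw [← L_conj X hA.symm (hu i).1 (hu i).2.1, (hu i).2.2]
    exact mul_inv_eq_iff_eq_mul.mpr (hfix i).eq
  choose l hl0 hl using hAu
  refine ⟨A, l 0, hA.symm, hl0 0, fun i => ?_⟩
  have key : ∀ m : ℕ, ∀ i : Fin (n + 1), i.1 = m → l i = l 0 := by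
    intro m
    induction m using Nat.strong_induction_on with
    | _ m ih =>
      intro i him
      by_cases hi : i = 0
      · rw [hi]
      obtain ⟨j, hj, ha⟩ := hconn i hi
      have he : h (act A (u j)) (act A (u i)) = h (u j) (u i) :=
        OrthUnitaryTransvection.herm_act A _ _
      rw [hl, hl, h_smul_left, h_smul_right, hg, if_pos ha, mul_one] at he
      rw [← mul_sq_eq (hl0 i) he]
      exact ih j.1 (him ▸ hj) j rfl
  rw [hl i, key i.1 i rfl]

/-- An element scaling a basis by one factor is trivial on the points. -/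
theorem eq_of_scalar {u : Fin 6 → Fin 6 → F} (hli : LinearIndependent F u) {g : ↥(loc D d)}
    {A : Cfsg.SU 6 F 2} {l : F} (hA : φ g = π A) (hl : l ≠ 0) (hu : ∀ i, act A (u i) = l • u i) :
    (g : G) = 1 ∨ (g : G) = d := by
  refine X.ker ?_
  rw [hA]
  refine (QuotientGroup.eq_one_iff A).mpr ?_
  have hall : ∀ x, act A x = l • x := by
    intro x
    refine eq_of_pair hli fun j => ?_
    have he : h (act A x) (act A (u j)) = h x (u j) := OrthUnitaryTransvection.herm_act A _ _
    rw [hu j, h_smul_right] at he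
    rw [h_smul_left, ← he]
    linear_combination (-(h (act A x) (u j))) * cube hl
  refine Subgroup.mem_center_iff.mpr fun B => OrthUnitaryTransvection.su_ext fun x => ?_
  rw [OrthUnitaryTransvection.act_mul, OrthUnitaryTransvection.act_mul, hall, hall,
    OrthUnitaryTransvection.act_smul]

/-- An element fixing a connected basis of points is `1` or `d`. -/
theorem eq_of_fix {x : Fin 6 → G} {adj : Fin 6 → Fin 6 → Bool} {u : Fin 6 → Fin 6 → F}
    (hu : ∀ i, h (u i) (u i) = 0 ∧ u i ≠ 0 ∧ L (u i) = x i) (hg : Gram adj u)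
    (hli : LinearIndependent F u) (hconn : ∀ i, i ≠ 0 → ∃ j < i, adj j i = true)
    {g : G} (hgl : g ∈ loc D d) (hfix : ∀ i, Commute g (x i)) : g = 1 ∨ g = d := by
  obtain ⟨A, l, hA, hl, hAu⟩ := exists_scalar X hu hg hconn (g := ⟨g, hgl⟩) hfix
  exact eq_of_scalar X hli hA hl hAu

/-- An element fixing the first five points of a path of six is trivial or the transvection at their
radical point. -/
theorem eq_of_fix_five {x : Fin 6 → G} {u : Fin 6 → Fin 6 → F}
    (hu : ∀ i, h (u i) (u i) = 0 ∧ u i ≠ 0 ∧ L (u i) = x i) (hg : Gram path6 u)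
    {g : G} (hgl : g ∈ loc D d) (hfix : ∀ i : Fin 6, i ≠ 5 → Commute g (x i)) :
    g = 1 ∨ g = d ∨ g = L (rad u) ∨ g = L (rad u) * d := by
  obtain ⟨A, l, hA, hl, hAu⟩ := exists_scalar X (n := 4) (x := fun i => x i.castSucc)
    (adj := fun i j => path6 i.castSucc j.castSucc) (u := fun i => u i.castSucc)
    (fun i => hu _) (fun i j => hg _ _) (by decide) (g := ⟨g, hgl⟩)
    (fun i => hfix _ (by intro e; exact absurd (congrArg Fin.val e) (by simp; omega)))
  have hAu' : ∀ j : Fin 6, j ≠ 5 → act A (u j) = l • u j := fun j hj => by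
    obtain ⟨j', rfl⟩ := Fin.exists_castSucc_eq.mpr (show j ≠ Fin.last 5 from hj)
    exact hAu j'
  set r := rad u with hr
  have hrr : h r r = 0 := rad_iso hg
  have hr0 : r ≠ 0 := rad_ne hg
  have hur : ∀ j : Fin 6, h (u j) r = if j = 5 then 1 else 0 := fun j => by
    rw [h_symm, rad_pair hg]; split_ifs <;> simp
  have hpr : ∀ j : Fin 6, h r (u j) = if j = 5 then 1 else 0 := rad_pair hg
  set v := act A (u 5) with hv
  set m := h (v + l • u 5) (u 5) with hm
  have hv5 : v + l • u 5 = m • r := perp_five hg fun j hj => by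
    have he : h v (act A (u j)) = h (u 5) (u j) := OrthUnitaryTransvection.herm_act A _ _
    rw [hAu' j hj, h_smul_right] at he
    rw [h_add_left, h_smul_left, ← he]
    linear_combination (-(h v (u j))) * cube hl + l * (l ^ 2 * h v (u j)) * two_eq_zero (F := F)
  have hveq : v = l • u 5 + m • r := by
    rw [← hv5, add_left_comm]
    funext i
    simp [add_self]
  have hiso : m * l * (m + l) = 0 := by
    have he : h v v = h (u 5) (u 5) := OrthUnitaryTransvection.herm_act A _ _
    rw [(hu 5).1, hveq] at he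
    simp only [h_add_left, h_add_right, h_smul_left, h_smul_right, (hu 5).1, hrr, hur,
      hpr, if_true, mul_one, mul_zero, zero_add, add_zero] at he
    linear_combination he
  rcases mul_eq_zero.mp hiso with h0 | h0
  · have hm0 : m = 0 := (mul_eq_zero.mp h0).resolve_right hl
    have hall : ∀ j, act A (u j) = l • u j := fun j => by
      by_cases hj : j = 5
      · rw [hj, ← hv, hveq, hm0, zero_smul, add_zero]
      · exact hAu' j hj
    rcases eq_of_scalar X (path6_li hg) hA hl hall with e | e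
    exacts [Or.inl e, Or.inr (Or.inl e)]
  · have hml : m = l := eq_of_add_eq_zero h0
    obtain ⟨hsm, hsi⟩ := L_spec X hrr hr0
    have hTA : φ (⟨L r, near_le_loc hsm⟩ * ⟨g, hgl⟩) = π (T r hrr * A) := by
      rw [map_mul, map_mul, hsi, hA]
    have hall : ∀ j, act (T r hrr * A) (u j) = l • u j := fun j => by
      rw [OrthUnitaryTransvection.act_mul]
      by_cases hj : j = 5
      · rw [hj, ← hv, T_act, hveq, hml, h_add_left, h_smul_left, h_smul_left, hrr, hur, if_pos rfl,
          mul_one, mul_zero, add_zero, add_assoc, ← add_smul, add_self, zero_smul, add_zero]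
      · rw [hAu' j hj, T_act, h_smul_left, hur, if_neg hj, mul_zero, zero_smul, add_zero]
    have hinv : (L r)⁻¹ = L r := X.ts.inv_self hsm.1
    rcases eq_of_scalar X (path6_li hg) hTA hl hall with e | e
    · refine Or.inr (Or.inr (Or.inl ?_))
      have e' : L r * g = 1 := e
      rw [eq_inv_of_mul_eq_one_right e', hinv]
    · refine Or.inr (Or.inr (Or.inr ?_))
      have e' : L r * g = d := e
      calc g = (L r)⁻¹ * (L r * g) := (inv_mul_cancel_left _ _).symm
        _ = _ := by rw [e', hinv]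

/-- A point fixed by the product of a path of four is orthogonal to all four. -/
theorem perp_of_cycle {u : Fin 4 → Fin 6 → F} (hiso : ∀ i, h (u i) (u i) = 0) (hu0 : ∀ i, u i ≠ 0)
    (hg : Gram (fun i j : Fin 4 => i.1 + 1 == j.1 || j.1 + 1 == i.1) u)
    {w : Fin 6 → F} (hw : h w w = 0) (hw0 : w ≠ 0)
    (hc : Commute (L (u 0) * L (u 1) * L (u 2) * L (u 3)) (L w)) : ∀ i, h w (u i) = 0 := by
  obtain ⟨hm, e⟩ := L_prod_two X
    (u := [⟨u 0, hiso 0⟩, ⟨u 1, hiso 1⟩, ⟨u 2, hiso 2⟩, ⟨u 3, hiso 3⟩])
    (t := T (u 0) (hiso 0) * (T (u 1) (hiso 1) * (T (u 2) (hiso 2) * T (u 3) (hiso 3))))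
    (fun p hp => by simp at hp; rcases hp with rfl | rfl | rfl | rfl <;> exact hu0 _) (by simp)
  set A := T (u 0) (hiso 0) * (T (u 1) (hiso 1) * (T (u 2) (hiso 2) * T (u 3) (hiso 3))) with hA
  set y := ([(⟨u 0, hiso 0⟩ : {u : Fin 6 → F // h u u = 0}), ⟨u 1, hiso 1⟩, ⟨u 2, hiso 2⟩,
    ⟨u 3, hiso 3⟩].map fun p => L p.1).prod with hy
  have hy' : y = L (u 0) * L (u 1) * L (u 2) * L (u 3) := by simp [hy, mul_assoc]
  have hconj := L_conj X (k := ⟨y, hm⟩) e hw hw0
  have hfix : y * L w * y⁻¹ = L w := by rw [hy']; exact mul_inv_eq_iff_eq_mul.mpr hc.eq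
  rw [show ((⟨y, hm⟩ : ↥(loc D d)) : G) = y from rfl, hfix] at hconj
  have hAw : h (act A w) (act A w) = 0 := (OrthUnitaryTransvection.herm_act A w w).trans hw
  have hAw0 : act A w ≠ 0 := fun e => hw0 (by
    have e2 := congrArg (act A⁻¹) e
    rw [OrthUnitaryTransvection.act_inv_act] at e2
    rw [e2]; exact Matrix.mulVec_zero _)
  obtain ⟨l, hl, hlw⟩ := L_inj X hAw hAw0 hw hw0 hconj.symm
  have g01 : h (u 0) (u 1) = 1 := by simpa using hg 0 1
  have g10 : h (u 1) (u 0) = 1 := by simpa using hg 1 0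
  have g12 : h (u 1) (u 2) = 1 := by simpa using hg 1 2
  have g21 : h (u 2) (u 1) = 1 := by simpa using hg 2 1
  have g23 : h (u 2) (u 3) = 1 := by simpa using hg 2 3
  have g32 : h (u 3) (u 2) = 1 := by simpa using hg 3 2
  have g02 : h (u 0) (u 2) = 0 := by simpa using hg 0 2
  have g20 : h (u 2) (u 0) = 0 := by simpa using hg 2 0
  have g03 : h (u 0) (u 3) = 0 := by simpa using hg 0 3
  have g30 : h (u 3) (u 0) = 0 := by simpa using hg 3 0
  have g13 : h (u 1) (u 3) = 0 := by simpa using hg 1 3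
  have g31 : h (u 3) (u 1) = 0 := by simpa using hg 3 1
  rw [hA] at hlw
  simp only [OrthUnitaryTransvection.act_mul, T_act, h_add_left, h_smul_left] at hlw
  have e0 := congrArg (fun z => h z (u 0)) hlw
  have e1 := congrArg (fun z => h z (u 1)) hlw
  have e2 := congrArg (fun z => h z (u 2)) hlw
  have e3 := congrArg (fun z => h z (u 3)) hlw
  simp only [h_add_left, h_smul_left, hiso, g01, g10, g12, g21, g23, g32, g02, g20, g03, g30, g13,
    g31, mul_zero, mul_one, add_zero, zero_add] at e0 e1 e2 e3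
  set α := h w (u 0)
  set β := h w (u 1)
  set γ := h w (u 2)
  set δ := h w (u 3)
  have h2 := two_eq_zero (F := F)
  have k2 : γ = l * δ := by linear_combination e3 - δ * h2
  have k1 : β = l * γ := by linear_combination e2 - (γ + δ) * h2
  have k0 : α = l * β := by linear_combination e1 - (β + γ + δ) * h2
  have hd : δ = 0 := by
    have h4 : l ^ 2 * δ = 0 := by
      rw [k0, k1, k2] at e0
      linear_combination e0 + (l * δ - δ) * cube hl - δ * h2
    exact (mul_eq_zero.mp h4).resolve_left (pow_ne_zero 2 hl)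
  intro i
  fin_cases i
  · show α = 0
    rw [k0, k1, k2, hd]; ring
  · show β = 0
    rw [k1, k2, hd]; ring
  · show γ = 0
    rw [k2, hd]; ring
  · exact hd

end Cfsg.Agent.ThreeTransM22Frames51
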