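import Cfsg.Agent.Lib.ThreeTransM22CoverCount72
import Cfsg.Agent.Lib.FrattiniTuples

/-!
# Conjugates of a central involution inside the preimage of a maximal commuting set

If the centralizer of an involution is a double cover of a group of type M(22), its conjugates in the
preimage of a maximal commuting set are permuted transitively by the normaliser; there are 23 of them,
or the lifts of triples fall into two classes.
-/

set_option autoImplicit false
set_option linter.unusedSectionVars false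
set_option linter.style.haveILetI false

namespace Cfsg.Agent.ThreeTransM22Fusion72

open Subgroup Cfsg.Agent.ThreeTransRel
open Cfsg.Agent.ThreeTransM22Outer72 Cfsg.Agent.ThreeTransM22Block72
open Cfsg.Agent.ThreeTransM22Cover72 Cfsg.Agent.ThreeTransM22CoverCount72

section general

variable {G : Type*} [Group G] [Finite G]

/-- The class of `y` under a subgroup. -/
def cl (K : Subgroup G) (y : G) : Set G := (fun k : G => k * y * k⁻¹) '' (K : Set G)

theorem cl_card (K : Subgroup G) (y : G) :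
    (cl K y).ncard * Nat.card ↥(K ⊓ Subgroup.centralizer ({y} : Set G)) = Nat.card ↥K := by
  letI : MulAction ↥K G :=
    { smul := fun k v => (k : G) * v * (k : G)⁻¹
      one_smul := fun v => show ((1 : ↥K) : G) * v * ((1 : ↥K) : G)⁻¹ = v by simp
      mul_smul := fun k l v => show ((k * l : ↥K) : G) * v * ((k * l : ↥K) : G)⁻¹ =
        (k : G) * ((l : G) * v * (l : G)⁻¹) * (k : G)⁻¹ by simp [mul_assoc] }
  have h1 : MulAction.orbit ↥K y = cl K y := by
    ext v
    exact ⟨fun ⟨k, hk⟩ => ⟨k, k.2, hk⟩, fun ⟨k, hk, hv⟩ => ⟨⟨k, hk⟩, hv⟩⟩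
  have h2 : MulAction.stabilizer ↥K y = (K ⊓ Subgroup.centralizer ({y} : Set G)).subgroupOf K := by
    ext k
    rw [MulAction.mem_stabilizer_iff, Subgroup.mem_subgroupOf, Subgroup.mem_inf,
      Subgroup.mem_centralizer_singleton_iff]
    refine ⟨fun h => ⟨k.2, ?_⟩, fun h => ?_⟩
    · exact mul_inv_eq_iff_eq_mul.mp h
    · exact mul_inv_eq_iff_eq_mul.mpr h.2
  have h3 := MulAction.index_stabilizer (G := ↥K) y
  have h4 := (MulAction.stabilizer ↥K y).card_mul_index
  rw [h3, h1] at h4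
  rw [← h4, h2, mul_comm, Nat.card_congr (Subgroup.subgroupOfEquivOfLe inf_le_left).toEquiv]

end general

variable {G : Type*} [Group G] [Finite G] {d : G}
variable {Q : Type*} [Group Q] [Finite Q]

set_option quotPrecheck false in
local notation "C₀" => Subgroup.centralizer ({d} : Set G)

variable {p : ↥(Subgroup.centralizer ({d} : Set G)) →* Q} {z x₀ : ↥(Subgroup.centralizer ({d} : Set G))}
variable {E B : Set Q}

/-- The preimage, in the big group. -/
def pre (p : ↥(Subgroup.centralizer ({d} : Set G)) →* Q) (B : Set Q) : Subgroup G :=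
  ((closure B).comap p).map (Subgroup.centralizer ({d} : Set G)).subtype

/-- The conjugates of `d` in it. -/
def fused (p : ↥(Subgroup.centralizer ({d} : Set G)) →* Q) (B : Set Q) : Set G :=
  {x | x ∈ pre p B ∧ IsConj d x}

theorem mem_pre {x : G} :
    x ∈ pre p B ↔ ∃ hx : x ∈ C₀, p ⟨x, hx⟩ ∈ closure B := by
  constructor
  · rintro ⟨y, hy, rfl⟩; exact ⟨y.2, hy⟩
  · rintro ⟨hx, hy⟩; exact ⟨⟨x, hx⟩, hy, rfl⟩

variable (X : Cov p z E) (hzd : (z : G) = d) (hx : p x₀ ∈ E) (hB : Blk E B)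
include X hzd hB

theorem d_mem : d ∈ pre p B := by
  have h : (z : G) ∈ pre p B := (mem_pre (p := p) (B := B)).mpr ⟨z.2, by
    rw [show (⟨(z : G), z.2⟩ : ↥C₀) = z from rfl, X.map_z]; exact one_mem _⟩
  rwa [hzd] at h

theorem pre_comm {a b : G} (ha : a ∈ pre p B) (hb : b ∈ pre p B) (hx : p x₀ ∈ E) : Commute a b := by
  obtain ⟨u, hu, rfl⟩ := ha
  obtain ⟨v, hv, rfl⟩ := hb
  exact congrArg Subtype.val ((X.preimage_elem hx hB).1 u hu v hv).eq

theorem pre_sq {a : G} (ha : a ∈ pre p B) (hx : p x₀ ∈ E) : a * a = 1 := by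
  obtain ⟨u, hu, rfl⟩ := ha
  exact congrArg Subtype.val ((X.preimage_elem hx hB).2 u hu)

theorem card_pre : Nat.card ↥(pre p B) = 2048 := by
  rw [pre, Subgroup.card_map_of_injective (Subgroup.subtype_injective _), X.card_preimage hB]

/-- The normaliser is transitive on the conjugates. -/
theorem transitive (hx : p x₀ ∈ E) {y : G} (hy : y ∈ fused p B) :
    ∃ n ∈ Subgroup.normalizer (pre p B : Set G), n * d * n⁻¹ = y := by
  obtain ⟨g, hg⟩ := isConj_iff.mp hy.2
  set A' : Subgroup ↥C₀ := ((pre p B).map (MulAut.conj g⁻¹).toMonoidHom).comap (Subgroup.subtype _)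
  have hle : (pre p B).map (MulAut.conj g⁻¹).toMonoidHom ≤ C₀ := by
    rintro _ ⟨a, ha, rfl⟩
    refine Subgroup.mem_centralizer_singleton_iff.mpr ?_
    have h1 := (Commute.conj_iff g⁻¹).mpr (pre_comm X hzd hB ha hy.1 hx)
    rw [show g⁻¹ * y * g⁻¹⁻¹ = d by rw [← hg]; group] at h1
    exact h1.eq
  have hmap : A'.map (Subgroup.subtype _) = (pre p B).map (MulAut.conj g⁻¹).toMonoidHom := by
    rw [Subgroup.map_comap_eq, Subgroup.range_subtype, inf_eq_right.mpr hle]
  have hcard : Nat.card ↥A' = 2048 := by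
    rw [← Subgroup.card_map_of_injective (f := Subgroup.subtype C₀) (Subgroup.subtype_injective _), hmap,
      Subgroup.card_map_of_injective (MulAut.conj g⁻¹).injective, card_pre X hzd hB]
  have hpull : ∀ a ∈ A', ∃ b ∈ pre p B, g⁻¹ * b * g⁻¹⁻¹ = (a : G) := fun a ha => ha
  obtain ⟨h, hh⟩ := X.big_conj hB (A := A') (fun a ha b hb => by
      obtain ⟨u, hu, eu⟩ := hpull a ha
      obtain ⟨v, hv, ev⟩ := hpull b hb
      refine Subtype.ext ?_
      show (a : G) * b = b * a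
      rw [← eu, ← ev]
      exact ((Commute.conj_iff g⁻¹).mpr (pre_comm X hzd hB hu hv hx)).eq)
    (fun a ha => by
      obtain ⟨u, hu, eu⟩ := hpull a ha
      refine Subtype.ext ?_
      show (a : G) * a = 1
      rw [← eu, show g⁻¹ * u * g⁻¹⁻¹ * (g⁻¹ * u * g⁻¹⁻¹) = g⁻¹ * (u * u) * g by group,
        pre_sq X hzd hB hu hx]
      group) hcard
  refine ⟨g * (h : G), Subgroup.mem_normalizer_iff.mpr fun a => ⟨fun ha => ?_, fun ha => ?_⟩, ?_⟩
  · obtain ⟨u, hu, rfl⟩ := ha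
    have h1 : MulAut.conj h u ∈ A' := hh ▸ ⟨u, hu, rfl⟩
    obtain ⟨b, hb, eb⟩ := hpull _ h1
    have e : g * (h : G) * (u : G) * (g * (h : G))⁻¹ = b := by
      have eb' : g⁻¹ * b * g⁻¹⁻¹ = (h : G) * u * (h : G)⁻¹ := eb
      calc g * (h : G) * (u : G) * (g * (h : G))⁻¹ = g * ((h : G) * u * (h : G)⁻¹) * g⁻¹ := by group
        _ = b := by rw [← eb']; group
    show g * (h : G) * (u : G) * (g * (h : G))⁻¹ ∈ pre p B
    rw [e]; exact hb
  · set b := g * (h : G) * a * (g * (h : G))⁻¹ with hb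
    have h1 : g⁻¹ * b * g⁻¹⁻¹ ∈ A'.map (Subgroup.subtype _) := hmap ▸ ⟨b, ha, rfl⟩
    rw [← hh] at h1
    obtain ⟨_, ⟨u, hu, rfl⟩, eu⟩ := h1
    have eu' : (h : G) * u * (h : G)⁻¹ = (h : G) * a * (h : G)⁻¹ := by
      rw [show (h : G) * u * (h : G)⁻¹ = g⁻¹ * b * g⁻¹⁻¹ from eu, hb]; group
    exact (mul_left_cancel (mul_right_cancel eu')) ▸ ⟨u, hu, rfl⟩
  · have hh' : (h : G) * d = d * (h : G) := Subgroup.mem_centralizer_singleton_iff.mp h.2
    rw [show g * (h : G) * d * (g * (h : G))⁻¹ = g * ((h : G) * d * (h : G)⁻¹) * g⁻¹ by group, hh',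
      mul_inv_cancel_right, hg]

theorem fused_invariant {n x : G} (hn : n ∈ Subgroup.normalizer (pre p B : Set G))
    (hxf : x ∈ fused p B) : n * x * n⁻¹ ∈ fused p B :=
  ⟨(Subgroup.mem_normalizer_iff.mp hn x).mp hxf.1, hxf.2.trans (isConj_iff.mpr ⟨n, rfl⟩)⟩

theorem normalizer_stab {n : G} (hnC : n ∈ C₀) :
    n ∈ Subgroup.normalizer (pre p B : Set G) ↔ (⟨n, hnC⟩ : ↥C₀) ∈ stab p B := by
  constructor
  · intro hn
    rw [X.stab_iff hB]
    intro a ha
    obtain ⟨b, hb, e⟩ := (Subgroup.mem_normalizer_iff.mp hn _).mp ⟨a, ha, rfl⟩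
    rwa [show (⟨n, hnC⟩ : ↥C₀) * a * (⟨n, hnC⟩ : ↥C₀)⁻¹ = b from Subtype.ext e.symm]
  · intro hn
    have h1 := (X.stab_iff hB).mp hn
    have h2 := (X.stab_iff hB).mp (inv_mem hn)
    refine Subgroup.mem_normalizer_iff.mpr fun x => ⟨?_, ?_⟩
    · rintro ⟨a, ha, rfl⟩
      exact ⟨_, h1 a ha, rfl⟩
    · rintro ⟨a, ha, e⟩
      refine ⟨_, h2 a ha, ?_⟩
      show n⁻¹ * (a : G) * n⁻¹⁻¹ = x
      rw [show (a : G) = n * x * n⁻¹ from e]
      group

section orbits

/-- The stabiliser of `d` in the normaliser. -/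
def Kd (p : ↥(Subgroup.centralizer ({d} : Set G)) →* Q) (B : Set Q) : Subgroup G :=
  Subgroup.normalizer (pre p B : Set G) ⊓ Subgroup.centralizer ({d} : Set G)

theorem mem_Kd {k : G} (hk : k ∈ Kd p B) :
    ∃ hC : k ∈ C₀, (⟨k, hC⟩ : ↥C₀) ∈ stab p B :=
  ⟨hk.2, (normalizer_stab X hzd hB hk.2).mp hk.1⟩

theorem Kd_of_stab {c : ↥C₀} (hc : c ∈ stab p B) : (c : G) ∈ Kd p B :=
  ⟨(normalizer_stab X hzd hB c.2).mpr hc, c.2⟩

theorem cl_eq {V : Set ↥C₀} (hV : ∀ k ∈ stab p B, ∀ y ∈ V, k * y * k⁻¹ ∈ V)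
    (htr : ∀ y ∈ V, ∀ y' ∈ V, ∃ k ∈ stab p B, k * y * k⁻¹ = y') {v : ↥C₀} (hv : v ∈ V) :
    cl (Kd p B) (v : G) = Subtype.val '' V := by
  ext y
  constructor
  · rintro ⟨k, hk, rfl⟩
    obtain ⟨hC, hs⟩ := mem_Kd X hzd hB hk
    exact ⟨_, hV _ hs v hv, rfl⟩
  · rintro ⟨w, hw, rfl⟩
    obtain ⟨k, hk, rfl⟩ := htr v hv w hw
    exact ⟨k, Kd_of_stab X hzd hB hk, rfl⟩

theorem cl_mul_d {y : G} : cl (Kd p B) (y * d) = (· * d) '' cl (Kd p B) y := by
  have hk : ∀ k ∈ Kd p B, k * (y * d) * k⁻¹ = k * y * k⁻¹ * d := fun k hk => by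
    have h : k * d = d * k := Subgroup.mem_centralizer_singleton_iff.mp hk.2
    have h' : d * k⁻¹ = k⁻¹ * d := (show Commute k d from h).inv_left.eq.symm
    rw [← mul_assoc k y d, mul_assoc (k * y), h', ← mul_assoc]
  rw [cl, cl, Set.image_image]
  exact Set.image_congr fun k hk' => hk k hk'

theorem card_Kd_symm {y n : G} (hn : n ∈ Subgroup.normalizer (pre p B : Set G))
    (hny : n * d * n⁻¹ = y) :
    Nat.card ↥(Kd p B ⊓ Subgroup.centralizer ({n⁻¹ * d * n} : Set G)) =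
      Nat.card ↥(Kd p B ⊓ Subgroup.centralizer ({y} : Set G)) := by
  set N := Subgroup.normalizer (pre p B : Set G)
  have hm : (Kd p B ⊓ Subgroup.centralizer ({n⁻¹ * d * n} : Set G)).map (MulAut.conj n).toMonoidHom =
      Kd p B ⊓ Subgroup.centralizer ({y} : Set G) := by
    ext v
    simp only [Subgroup.mem_map, Kd, Subgroup.mem_inf, Subgroup.mem_centralizer_singleton_iff,
      MulEquiv.coe_toMonoidHom, MulAut.conj_apply]
    constructor
    · rintro ⟨u, ⟨⟨hu, hud⟩, huy⟩, rfl⟩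
      refine ⟨⟨mul_mem (mul_mem hn hu) (inv_mem hn), ?_⟩, ?_⟩
      · have := (Commute.conj_iff n).mpr (show Commute u (n⁻¹ * d * n) from huy)
        rw [show n * (n⁻¹ * d * n) * n⁻¹ = d by group] at this
        exact this.eq
      · rw [← hny]; exact ((Commute.conj_iff n).mpr (show Commute u d from hud)).eq
    · rintro ⟨⟨hv, hvd⟩, hvy⟩
      refine ⟨n⁻¹ * v * n, ⟨⟨mul_mem (mul_mem (inv_mem hn) hv) hn, ?_⟩, ?_⟩, by group⟩
      · have := (Commute.conj_iff n⁻¹).mpr (show Commute v y from hvy)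
        rw [show n⁻¹ * y * n⁻¹⁻¹ = d by rw [← hny]; group, inv_inv] at this
        exact this.eq
      · have := (Commute.conj_iff n⁻¹).mpr (show Commute v d from hvd)
        rw [inv_inv] at this
        exact this.eq
  rw [← hm, Subgroup.card_map_of_injective (MulAut.conj n).injective]

theorem cl_ncard_symm {y n : G} (hn : n ∈ Subgroup.normalizer (pre p B : Set G))
    (hny : n * d * n⁻¹ = y) :
    (cl (Kd p B) (n⁻¹ * d * n)).ncard = (cl (Kd p B) y).ncard := by
  have h1 := cl_card (Kd p B) (n⁻¹ * d * n)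
  have h2 := cl_card (Kd p B) y
  rw [card_Kd_symm X hzd hB hn hny] at h1
  exact Nat.eq_of_mul_eq_mul_right Nat.card_pos (h1.trans h2.symm)

end orbits

end Cfsg.Agent.ThreeTransM22Fusion72
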