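import Cfsg.Agent.Lib.ThreeTransM22Fusion72

/-!
# The possible numbers of conjugates

The number of conjugates in the preimage of a maximal commuting set times 2310 divides the order of the
linear group of dimension eleven over two elements; this leaves few possibilities, each but 23 being
contradictory or separating the lifts of triples.
-/

set_option autoImplicit false
set_option linter.unusedSectionVars false
set_option linter.style.haveILetI false

namespace Cfsg.Agent.ThreeTransM22FusionCount72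

open Subgroup Cfsg.Agent.ThreeTransRel
open Cfsg.Agent.ThreeTransM22Outer72 Cfsg.Agent.ThreeTransM22Block72
open Cfsg.Agent.ThreeTransM22Cover72 Cfsg.Agent.ThreeTransM22CoverCount72
open Cfsg.Agent.ThreeTransM22Fusion72

variable {G : Type*} [Group G] [Finite G] {d : G}
variable {Q : Type*} [Group Q] [Finite Q]

set_option quotPrecheck false in
local notation "C₀" => Subgroup.centralizer ({d} : Set G)

variable {p : ↥(Subgroup.centralizer ({d} : Set G)) →* Q} {z x₀ : ↥(Subgroup.centralizer ({d} : Set G))}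
variable {E B : Set Q}
variable (X : Cov p z E) (hzd : (z : G) = d) (hx : p x₀ ∈ E) (hB : Blk E B)
include X hzd hx hB

theorem ncard_V1 : (V1 p x₀ B).ncard = 22 := by
  rw [← (images X hx hB).1]
  symm
  refine Set.InjOn.ncard_image ?_
  rintro _ ⟨s, hs, rfl⟩ _ ⟨t, ht, rfl⟩ e
  rw [(X.sig_spec hx (hB.sub hs)).2, (X.sig_spec hx (hB.sub ht)).2] at e
  rw [e]

theorem V1_not_mul_z {v : ↥C₀} (hv : v ∈ V1 p x₀ B) : v * z ∉ V1 p x₀ B := by
  rintro ⟨t, ht, e⟩
  obtain ⟨s, hs, rfl⟩ := hv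
  have h := congrArg p e
  rw [(X.sig_spec hx (hB.sub ht)).2, X.map_mul_z, (X.sig_spec hx (hB.sub hs)).2] at h
  rw [h] at e
  exact X.mul_z_ne _ e.symm

theorem dvd_ncard {V : Set ↥C₀} (hV : ∀ k ∈ stab p B, ∀ y ∈ V, k * y * k⁻¹ ∈ V)
    (htr : ∀ y ∈ V, ∀ y' ∈ V, ∃ k ∈ stab p B, k * y * k⁻¹ = y') {v : ↥C₀} (hv : v ∈ V) :
    (p '' V).ncard ∣ (cl (Kd p B) (v : G)).ncard := by
  rw [cl_eq X hzd hB hV htr hv, Set.ncard_image_of_injective _ Subtype.val_injective]
  have hsub : V ⊆ p ⁻¹' (p '' V) := Set.subset_preimage_image p V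
  rcases piece X hV htr hV with h | ⟨hall, h⟩ | ⟨h, -, -, -⟩
  · exact absurd (h ▸ ⟨hv, hsub hv⟩ : v ∈ (∅ : Set ↥C₀)) (Set.notMem_empty v)
  · rw [Set.inter_eq_left.mpr hsub] at h
    exact h ▸ dvd_mul_left _ _
  · rw [Set.inter_eq_left.mpr hsub] at h
    exact h ▸ dvd_rfl

theorem exists_members : ∃ s ∈ B, ∃ t ∈ B, ∃ u ∈ B, s ≠ t ∧ s ≠ u ∧ t ≠ u := by
  obtain ⟨s, hs⟩ := block_nonempty X.grp X.prim X.m22 hB
  obtain ⟨t, ht, hts, -⟩ := X.exists_third hB s s
  obtain ⟨u, hu, hus, hut⟩ := X.exists_third hB s t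
  exact ⟨s, hs, t, ht, u, hu, hts.symm, hus.symm, hut.symm⟩

/-- The centralizer of the preimage in its normaliser. -/
def CA (p : ↥(Subgroup.centralizer ({d} : Set G)) →* Q) (B : Set Q) : Subgroup G :=
  Subgroup.normalizer (pre p B : Set G) ⊓ Subgroup.centralizer (pre p B : Set G)

theorem card_range_dvd :
    Nat.card ↥(pre p B).normalizerMonoidHom.range ∣ 768105432118265670534631586896281600 := by
  haveI : Fact (Nat.Prime 2) := ⟨Nat.prime_two⟩
  have hA := card_pre X hzd hB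
  have hΦ : frattini ↥(pre p B) = ⊥ := PGroupsBasic.frattini_eq_bot_of_elementary (p := 2)
    (fun a b => Subtype.ext (pre_comm X hzd hB a.2 b.2 hx).eq)
    fun a => Subtype.ext (by
      rw [Subgroup.coe_pow, pow_two]; exact pre_sq X hzd hB a.2 hx)
  have h := FrattiniTuples.card_mulAut_dvd (P := ↥(pre p B)) (p := 2) (n := 11)
    (by rw [hA]; norm_num) (r := 11) (by rw [hΦ, Subgroup.index_bot, hA]; norm_num)
  refine (Subgroup.card_subgroup_dvd_card _).trans ?_
  simpa [Finset.prod_range_succ] using h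

theorem order_split :
    Nat.card ↥(CA p B) * Nat.card ↥(pre p B).normalizerMonoidHom.range =
      Nat.card ↥(Subgroup.normalizer (pre p B : Set G)) := by
  have h := (pre p B).normalizerMonoidHom.ker.card_mul_index
  rw [Subgroup.index_ker] at h
  rw [← h]
  congr 1
  rw [Subgroup.normalizerMonoidHom_ker]
  refine (Nat.card_congr (?_ : _ ≃ _)).symm
  exact
    { toFun := fun a => ⟨(a : G), a.1.2, a.2⟩
      invFun := fun a => ⟨⟨(a : G), a.2.1⟩, a.2.2⟩
      left_inv := fun a => rfl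
      right_inv := fun a => rfl }

/-- The number of conjugates times 2310 divides the order of the linear group. -/
theorem count_dvd : (fused p B).ncard * 2310 ∣ 768105432118265670534631586896281600 := by
  obtain ⟨hinv, h1, h2, h3⟩ := X.orbits hx hB
  obtain ⟨s, hs, t, ht, u, hu, hst, hsu, htu⟩ := exists_members X hzd hx hB
  obtain ⟨i1, i2, i3, -⟩ := images X hx hB
  set N := Subgroup.normalizer (pre p B : Set G)
  have hd : cl N d = fused p B := by
    ext y
    constructor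
    · rintro ⟨n, hn, rfl⟩
      exact fused_invariant X hzd hB hn ⟨d_mem X hzd hB, IsConj.refl d⟩
    · intro hy
      obtain ⟨n, hn, e⟩ := transitive X hzd hB hx hy
      exact ⟨n, hn, e⟩
  have hN := cl_card N d
  rw [hd] at hN
  have hpart : ∀ (V : Set ↥C₀) (n : ℕ), (∀ k ∈ stab p B, ∀ y ∈ V, k * y * k⁻¹ ∈ V) →
      (∀ y ∈ V, ∀ y' ∈ V, ∃ k ∈ stab p B, k * y * k⁻¹ = y') → V.Nonempty → (p '' V).ncard = n →
      V ⊆ ((closure B).comap p : Set ↥C₀) →
      n * Nat.card ↥(CA p B) ∣ Nat.card ↥(Kd p B) := by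
    rintro V n hV htr ⟨v, hv⟩ rfl hVA
    rw [← cl_card (Kd p B) (v : G)]
    refine Nat.mul_dvd_mul (dvd_ncard X hzd hx hB hV htr hv) (Subgroup.card_dvd_of_le ?_)
    intro a ha
    have hm := Subgroup.mem_centralizer_iff.mp ha.2
    exact ⟨⟨ha.1, Subgroup.mem_centralizer_singleton_iff.mpr (hm d (d_mem X hzd hB)).symm⟩,
      Subgroup.mem_centralizer_singleton_iff.mpr (hm (v : G) ⟨v, hVA hv, rfl⟩).symm⟩
  have hsig : ∀ q ∈ B, sig p x₀ q ∈ (closure B).comap p := fun q hq => by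
    rw [Subgroup.mem_comap, (X.sig_spec hx (hB.sub hq)).2]
    exact subset_closure hq
  have k1 := hpart (V1 p x₀ B) 22 (fun k hk y hy => (hinv k hk y).1 hy) h1 ⟨_, s, hs, rfl⟩ i1 (by
    rintro _ ⟨q, hq, rfl⟩; exact hsig q hq)
  have k2 := hpart (V2 p x₀ B) 231 (fun k hk y hy => (hinv k hk y).2.1 hy) h2
    ⟨_, s, hs, t, ht, hst, rfl⟩ i2 (by
    rintro _ ⟨a, ha, b, hb, -, rfl⟩; exact mul_mem (hsig a ha) (hsig b hb))
  have k3 := hpart (V3 p x₀ B) 770 (fun k hk y hy => (hinv k hk y).2.2 hy) h3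
    ⟨_, s, hs, t, ht, u, hu, hst, hsu, htu, rfl⟩ i3 (by
    rintro _ ⟨a, ha, b, hb, c, hc, -, -, -, rfl⟩; exact mul_mem (mul_mem (hsig a ha) (hsig b hb)) (hsig c hc))
  obtain ⟨j, hj⟩ := dvd_trans (dvd_mul_left _ _) k1
  have hc : 0 < Nat.card ↥(CA p B) := Nat.card_pos
  rw [hj, mul_comm _ (Nat.card ↥(CA p B))] at k1 k2 k3
  have l1 := Nat.dvd_of_mul_dvd_mul_left hc k1
  have l2 := Nat.dvd_of_mul_dvd_mul_left hc k2
  have l3 := Nat.dvd_of_mul_dvd_mul_left hc k3
  have hl : 2310 ∣ j := by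
    have := Nat.lcm_dvd (Nat.lcm_dvd l1 l2) l3
    rwa [show Nat.lcm (Nat.lcm 22 231) 770 = 2310 by decide] at this
  have hcard : Nat.card ↥(Kd p B) = Nat.card ↥(N ⊓ Subgroup.centralizer ({d} : Set G)) := rfl
  rw [← hcard, hj, ← order_split X hzd hx hB] at hN
  have : (fused p B).ncard * j = Nat.card ↥(pre p B).normalizerMonoidHom.range := by
    refine Nat.eq_of_mul_eq_mul_left hc ?_
    rw [← hN]; ring
  exact ((Nat.mul_dvd_mul_left _ hl).trans (dvd_of_eq this)).trans (card_range_dvd X hzd hx hB)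

theorem d_ne_one : d ≠ 1 := fun h => X.ne (Subtype.ext (hzd.trans h))

theorem fused_sub {y : G} (hy : y ∈ fused p B) : ∃ hC : y ∈ C₀, p ⟨y, hC⟩ ∈ closure B :=
  mem_pre.mp hy.1

/-- The pieces of the set of conjugates. -/
theorem ncard_fused :
    (fused p B).ncard = 1 +
      ({y : ↥C₀ | (y : G) ∈ fused p B} ∩ p ⁻¹' (p '' V1 p x₀ B)).ncard +
      ({y : ↥C₀ | (y : G) ∈ fused p B} ∩ p ⁻¹' (p '' V2 p x₀ B)).ncard +
      ({y : ↥C₀ | (y : G) ∈ fused p B} ∩ p ⁻¹' (p '' V3 p x₀ B)).ncard := by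
  obtain ⟨-, -, -, hcov, d12, d13, d23, o1, o2, o3⟩ := images X hx hB
  set O : Set ↥C₀ := {y | (y : G) ∈ fused p B}
  have hO : fused p B = Subtype.val '' O := by
    ext y
    exact ⟨fun hy => ⟨⟨y, (fused_sub X hzd hx hB hy).1⟩, hy, rfl⟩, by rintro ⟨v, hv, rfl⟩; exact hv⟩
  rw [hO, Set.ncard_image_of_injective _ Subtype.val_injective]
  have hzO : z ∈ O := by
    show (z : G) ∈ fused p B
    rw [hzd]; exact ⟨d_mem X hzd hB, IsConj.refl d⟩
  have hone : ∀ y ∈ O, p y = 1 → y = z := fun y hy e => (X.ker y e).resolve_left fun h => by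
    have := hy.2
    rw [h] at this
    exact d_ne_one X hzd hx hB (isConj_one_left.mp this)
  have hsplit : O = (({z} ∪ O ∩ p ⁻¹' (p '' V1 p x₀ B)) ∪ O ∩ p ⁻¹' (p '' V2 p x₀ B)) ∪
      O ∩ p ⁻¹' (p '' V3 p x₀ B) := by
    refine Set.Subset.antisymm (fun y hy => ?_) ?_
    · rcases hcov (p y) (fused_sub X hzd hx hB hy).2 with h | h | h | h
      · exact Or.inl (Or.inl (Or.inl (hone y hy h)))
      · exact Or.inl (Or.inl (Or.inr ⟨hy, h⟩))
      · exact Or.inl (Or.inr ⟨hy, h⟩)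
      · exact Or.inr ⟨hy, h⟩
    · rintro y (((rfl | h) | h) | h)
      exacts [hzO, h.1, h.1, h.1]
  have hz : ∀ V : Set ↥C₀, (1 : Q) ∉ p '' V → z ∉ O ∩ p ⁻¹' (p '' V) := fun V h hm => h (X.map_z ▸ hm.2)
  conv_lhs => rw [hsplit]
  rw [Set.ncard_union_eq, Set.ncard_union_eq, Set.ncard_union_eq, Set.ncard_singleton]
  · exact Set.disjoint_singleton_left.mpr (hz _ o1)
  · refine Set.disjoint_union_left.mpr ⟨Set.disjoint_singleton_left.mpr (hz _ o2), ?_⟩
    exact (d12.preimage p).mono Set.inter_subset_right Set.inter_subset_right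
  · refine Set.disjoint_union_left.mpr ⟨Set.disjoint_union_left.mpr
      ⟨Set.disjoint_singleton_left.mpr (hz _ o3), ?_⟩, ?_⟩
    · exact (d13.preimage p).mono Set.inter_subset_right Set.inter_subset_right
    · exact (d23.preimage p).mono Set.inter_subset_right Set.inter_subset_right

end Cfsg.Agent.ThreeTransM22FusionCount72
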