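import Cfsg.Agent.Lib.ThreeTransM22Triples17
import Cfsg.Agent.Lib.AutPSU52BalTwo
import Cfsg.Agent.Lib.PSUFourTwoPSp57

/-!
# The stabilizer of an isotropic point in `SU₆(2)`

Its action on the orthogonal of the point modulo the point gives a homomorphism onto the inner
automorphisms of `PSU₄(2)`; the kernel is commutative modulo the transvection of the point.
-/

set_option autoImplicit false
set_option linter.unusedSectionVars false
set_option linter.style.haveILetI false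

namespace Cfsg.Agent.ThreeTransM22Levi54

open Cfsg.Agent.UnitaryF4Geo Cfsg.Agent.UnitaryF4Line Matrix
open Cfsg.Agent.ThreeTransM22Frame72 Cfsg.Agent.ThreeTransM22Triples17
open Cfsg.Agent.OrthUnitaryHerm Cfsg.Agent.AutPSU52Basic

variable {F : Type} [Field F] [Fintype F] [hF : FourField F]

local notation "act" => OrthUnitaryTransvection.act
local notation "π" => QuotientGroup.mk' (Subgroup.center (Cfsg.SU 6 F 2))

/-- The last four coordinates. -/
def tl (x : Fin 6 → F) : Fin 4 → F := Fin.tail (Fin.tail x)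

/-- Vectors supported on the last four coordinates. -/
def ι (w : Fin 4 → F) : Fin 6 → F := Fin.cons 0 (Fin.cons 0 w)

theorem tl_cons (a b : F) (w : Fin 4 → F) : tl (Fin.cons a (Fin.cons b w) : Fin 6 → F) = w := by
  simp [tl]

theorem tl_ι (w : Fin 4 → F) : tl (ι w) = w := tl_cons _ _ _

theorem tl_add (x y : Fin 6 → F) : tl (x + y) = tl x + tl y := rfl

theorem tl_smul (c : F) (x : Fin 6 → F) : tl (c • x) = c • tl x := rfl

theorem tl_u0 : tl (u0 : Fin 6 → F) = 0 := tl_cons _ _ _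

theorem ι_add (w w' : Fin 4 → F) : ι (w + w') = ι w + ι w' :=
  funext (Fin.cases (by simp [ι]) (Fin.cases (by simp [ι]) fun i => by simp [ι]))

theorem ι_smul (c : F) (w : Fin 4 → F) : ι (c • w) = c • ι w :=
  funext (Fin.cases (by simp [ι]) (Fin.cases (by simp [ι]) fun i => by simp [ι]))

theorem ι_zero : ι (0 : Fin 4 → F) = 0 :=
  funext (Fin.cases (by simp [ι]) (Fin.cases (by simp [ι]) fun i => by simp [ι]))

theorem h_cons₂ {n : ℕ} (a b : F) (v w : Fin n → F) :
    h (Fin.cons a v : Fin (n + 1) → F) (Fin.cons b w) = a * b ^ 2 + h v w := by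
  simp [h, Fin.sum_univ_succ]

theorem h_ι (w w' : Fin 4 → F) : h (ι w) (ι w') = h w w' := by
  simp [ι, h_cons₂]

theorem ι_u0 (w : Fin 4 → F) : h (ι w) u0 = 0 := by
  rw [ι, h_u0, add_zero]

theorem decomp {x : Fin 6 → F} (hx : h x u0 = 0) : x = x 0 • u0 + ι (tl x) := by
  rw [← Fin.cons_self_tail x, ← Fin.cons_self_tail (Fin.tail x), h_u0] at hx
  have e : x (Fin.succ 0) = x 0 := (eq_of_add_eq_zero hx).symm
  refine funext (Fin.cases ?_ (Fin.cases ?_ fun i => ?_))
  · simp [u0, ι]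
  · simp only [Pi.add_apply, Pi.smul_apply, u0, ι, Fin.cons_succ, Fin.cons_zero, smul_eq_mul]
    rw [mul_one, add_zero, e]
  · simp [u0, ι, tl, Fin.tail]

theorem h_perp {x y : Fin 6 → F} (hx : h x u0 = 0) (hy : h y u0 = 0) :
    h x y = h (tl x) (tl y) := by
  conv_lhs => rw [decomp hx, decomp hy]
  simp only [h_add_left, h_add_right, h_smul_left, h_smul_right, iso_u0, h_comm_zero (ι_u0 _), ι_u0,
    h_ι, mul_zero, zero_add, add_zero]

/-- The stabilizer of the point of `u0`. -/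
def P : Subgroup (Cfsg.SU 6 F 2) where
  carrier := {A | ∃ c : F, c ≠ 0 ∧ act A u0 = c • u0}
  one_mem' := ⟨1, one_ne_zero, by rw [OrthUnitaryTransvection.act_one, one_smul]⟩
  mul_mem' := by
    rintro A B ⟨a, ha, eA⟩ ⟨b, hb, eB⟩
    exact ⟨b * a, mul_ne_zero hb ha, by
      rw [OrthUnitaryTransvection.act_mul, eB, OrthUnitaryTransvection.act_smul, eA, smul_smul]⟩
  inv_mem' := by
    rintro A ⟨a, ha, eA⟩
    refine ⟨a⁻¹, inv_ne_zero ha, ?_⟩
    have h1 := OrthUnitaryTransvection.act_inv_act A u0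
    rw [eA, OrthUnitaryTransvection.act_smul] at h1
    conv_rhs => rw [← h1]
    rw [smul_smul, inv_mul_cancel₀ ha, one_smul]

theorem mem_P {A : Cfsg.SU 6 F 2} : A ∈ P ↔ ∃ c : F, c ≠ 0 ∧ act A u0 = c • u0 := Iff.rfl

theorem P_perp {A : Cfsg.SU 6 F 2} (hA : A ∈ P) {x : Fin 6 → F} (hx : h x u0 = 0) :
    h (act A x) u0 = 0 := by
  obtain ⟨c, hc, e⟩ := hA
  have h1 : h (act A x) (act A u0) = h x u0 := OrthUnitaryTransvection.herm_act A x u0
  rw [e, h_smul_right, hx] at h1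
  exact (mul_eq_zero.mp h1).resolve_left (pow_ne_zero 2 hc)

/-- The map induced on the last four coordinates. -/
def lin (A : Cfsg.SU 6 F 2) : (Fin 4 → F) →ₗ[F] Fin 4 → F where
  toFun w := tl (act A (ι w))
  map_add' w w' := by rw [ι_add, OrthUnitaryTransvection.act_add, tl_add]
  map_smul' c w := by
    rw [ι_smul, OrthUnitaryTransvection.act_smul, tl_smul]; rfl

theorem tl_act {A : Cfsg.SU 6 F 2} (hA : A ∈ P) {x : Fin 6 → F} (hx : h x u0 = 0) :
    tl (act A x) = lin A (tl x) := by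
  obtain ⟨c, -, e⟩ := hA
  conv_lhs => rw [decomp hx]
  rw [OrthUnitaryTransvection.act_add, OrthUnitaryTransvection.act_smul, e, tl_add, tl_smul,
    tl_smul, tl_u0, smul_zero, smul_zero, zero_add]
  rfl

/-- Its matrix. -/
noncomputable def levM (A : Cfsg.SU 6 F 2) : Matrix (Fin 4) (Fin 4) F :=
  LinearMap.toMatrix' (lin A)

theorem levM_mulVec (A : Cfsg.SU 6 F 2) (w : Fin 4 → F) : levM A *ᵥ w = lin A w :=
  LinearMap.toMatrix'_mulVec (lin A) w

theorem isU_levM {A : Cfsg.SU 6 F 2} (hA : A ∈ P) : IsU 2 (levM A) := by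
  intro w w'
  rw [levM_mulVec, levM_mulVec]
  show h (tl (act A (ι w))) (tl (act A (ι w'))) = h w w'
  rw [← h_perp (P_perp hA (ι_u0 w)) (P_perp hA (ι_u0 w')), ← h_ι w w']
  exact OrthUnitaryTransvection.herm_act A _ _

/-- The action on the orthogonal of the point modulo the point. -/
noncomputable def lev : ↥(P : Subgroup (Cfsg.SU 6 F 2)) →* Cfsg.GU 4 F 2 :=
  MonoidHom.mk' (fun A => mkGU hF4 (levM A.1) (isU_levM A.2)) fun A B => by
    refine Subtype.ext (Units.ext ?_)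
    simp only [Subgroup.coe_mul, Units.val_mul, mkGU_coe]
    rw [levM, levM, levM, ← LinearMap.toMatrix'_comp]
    congr 1
    refine LinearMap.ext fun w => ?_
    show tl (act (A.1 * B.1) (ι w)) = lin A.1 (tl (act B.1 (ι w)))
    rw [OrthUnitaryTransvection.act_mul, tl_act A.2 (P_perp B.2 (ι_u0 w))]

theorem gMat_lev (A : ↥(P : Subgroup (Cfsg.SU 6 F 2))) : gMat (lev A) = levM A.1 := by
  simp [lev, gMat, mkGU_coe]

/-- The induced automorphism of `PSU₄(2)`. -/
noncomputable def Ψ : ↥(P : Subgroup (Cfsg.SU 6 F 2)) →* MulAut (Cfsg.PSU 4 F 2) :=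
  cj.comp lev

theorem Ψ_eq_one_iff (A : ↥(P : Subgroup (Cfsg.SU 6 F 2))) :
    Ψ A = 1 ↔ ∃ b : F, b ≠ 0 ∧ ∀ w, lin A.1 w = b • w := by
  rw [Ψ, MonoidHom.comp_apply, AutPSU52Api.cj_eq_one_iff hF4 (by norm_num),
    Cfsg.Geo.mem_scalars_iff]
  constructor
  · rintro ⟨c, hc⟩
    refine ⟨c, c.ne_zero, fun w => ?_⟩
    rw [← levM_mulVec, ← gMat_lev, gMat, hc, smul_mulVec, one_mulVec]
  · rintro ⟨b, hb, e⟩
    refine ⟨Units.mk0 b hb, ?_⟩
    show gMat (lev A) = _
    rw [gMat_lev]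
    refine Matrix.ext_iff_mulVec.mpr fun w => ?_
    rw [levM_mulVec, e, smul_mulVec, one_mulVec, Units.val_mk0]

theorem center_le : Subgroup.center (Cfsg.SU 6 F 2) ≤ P := by
  intro z hz
  obtain ⟨a, ha, e⟩ := exists_scalar_of_mem_center hF4 (by norm_num) hz
  exact ⟨a, ha, e u0⟩

theorem Ψ_center {A : ↥(P : Subgroup (Cfsg.SU 6 F 2))}
    (hA : A.1 ∈ Subgroup.center (Cfsg.SU 6 F 2)) : Ψ A = 1 := by
  obtain ⟨a, ha, e⟩ := exists_scalar_of_mem_center hF4 (by norm_num) hA
  refine (Ψ_eq_one_iff A).mpr ⟨a, ha, fun w => ?_⟩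
  show tl (act A.1 (ι w)) = _
  rw [e, tl_smul, tl_ι]

theorem Ψ_congr {A B : ↥(P : Subgroup (Cfsg.SU 6 F 2))} (e : π A.1 = π B.1) : Ψ A = Ψ B := by
  obtain ⟨z, hz, hz'⟩ := (QuotientGroup.mk'_eq_mk' _).mp e
  rw [show B = A * ⟨z, center_le hz⟩ from Subtype.ext hz'.symm, map_mul, Ψ_center (A := ⟨z, center_le hz⟩) hz, mul_one]

theorem T_mem_P {v : Fin 6 → F} (hv : h v v = 0) (hvu : h v u0 = 0) : T v hv ∈ P :=
  ⟨1, one_ne_zero, by rw [T_act, h_comm_zero hvu, zero_smul, add_zero, one_smul]⟩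

theorem iso_tl {v : Fin 6 → F} (hv : h v v = 0) (hvu : h v u0 = 0) : h (tl v) (tl v) = 0 :=
  (h_perp hvu hvu).symm.trans hv

theorem Ψ_T {v : Fin 6 → F} (hv : h v v = 0) (hvu : h v u0 = 0) :
    Ψ ⟨T v hv, T_mem_P hv hvu⟩ =
      MulAut.conj (QuotientGroup.mk (T (tl v) (iso_tl hv hvu)) : Cfsg.PSU 4 F 2) := by
  rw [← cj_suToGU, Ψ, MonoidHom.comp_apply]
  congr 1
  refine Subtype.ext (Units.ext ?_)
  show gMat (lev _) = _
  rw [gMat_lev]
  refine Matrix.ext_iff_mulVec.mpr fun w => ?_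
  rw [levM_mulVec]
  show tl (act (T v hv) (ι w)) = act (T (tl v) (iso_tl hv hvu)) w
  rw [T_act, T_act, tl_add, tl_smul, tl_ι, h_perp (ι_u0 w) hvu, tl_ι]

/-- Points of the orthogonal inducing the same transvection differ along `u0`. -/
theorem eq_of_Ψ_T {v v' : Fin 6 → F} (hv : h v v = 0) (hvu : h v u0 = 0) (hv' : h v' v' = 0)
    (hvu' : h v' u0 = 0) (hne : tl v' ≠ 0)
    (e : Ψ ⟨T v' hv', T_mem_P hv' hvu'⟩ = Ψ ⟨T v hv, T_mem_P hv hvu⟩) :
    ∃ c a : F, c ≠ 0 ∧ v' = c • (v + a • u0) := by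
  rw [Ψ_T hv' hvu', Ψ_T hv hvu] at e
  have e1 := AutPSU52BalTwo.conj_injective hF4 (by norm_num) e
  obtain ⟨c, hc, e2⟩ := T_inj _ _ hne
    (UnitaryF4Line.eq_of_mk_eq (by norm_num) (T_sq _ _) (T_sq _ _) e1)
  refine ⟨c, c⁻¹ * (v' 0) + v 0, hc, ?_⟩
  have e3 : v + v 0 • u0 = ι (tl v) :=
    (congrArg (· + v 0 • u0) (decomp hvu)).trans (by
      rw [add_comm (v 0 • u0), add_assoc, vec_add_self, add_zero])
  conv_lhs => rw [decomp hvu', e2, ι_smul, ← e3]
  rw [smul_add, smul_add, smul_smul, smul_smul, mul_add, ← mul_assoc, mul_inv_cancel₀ hc, one_mul,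
    add_smul]
  abel

/-- `PSU₄(2)` as inner automorphisms. -/
theorem card_conj_range :
    Nat.card (MulAut.conj : Cfsg.PSU 4 F 2 →* MulAut (Cfsg.PSU 4 F 2)).range = 25920 := by
  rw [← Nat.card_congr (MonoidHom.ofInjective
    (AutPSU52BalTwo.conj_injective (F := F) hF4 (by norm_num))).toEquiv,
    PSUFourTwoPSp57.card_psu hF.card_eq]

theorem range_Ψ : (Ψ : ↥(P : Subgroup (Cfsg.SU 6 F 2)) →* _).range =
    (MulAut.conj : Cfsg.PSU 4 F 2 →* MulAut (Cfsg.PSU 4 F 2)).range := by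
  classical
  have hge : (MulAut.conj : Cfsg.PSU 4 F 2 →* MulAut (Cfsg.PSU 4 F 2)).range ≤
      (Ψ : ↥(P : Subgroup (Cfsg.SU 6 F 2)) →* _).range := by
    rintro _ ⟨x, rfl⟩
    obtain ⟨s, rfl⟩ := QuotientGroup.mk_surjective x
    have hs : s ∈ OrthUnitaryTransvection.tGroup 4 F 2 := by
      rw [OrthUnitaryTransvection.tGroup_eq_top hF4 (by norm_num) (by norm_num)]; trivial
    let R : Subgroup (Cfsg.SU 4 F 2) := ((Ψ : ↥(P : Subgroup (Cfsg.SU 6 F 2)) →* _).range).comap
      ((MulAut.conj : Cfsg.PSU 4 F 2 →* MulAut (Cfsg.PSU 4 F 2)).comp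
        (QuotientGroup.mk' (Subgroup.center (Cfsg.SU 4 F 2))))
    suffices h : OrthUnitaryTransvection.tGroup 4 F 2 ≤ R from h hs
    rw [OrthUnitaryTransvection.tGroup, Subgroup.closure_le]
    rintro A ⟨v, c, hv, hA⟩
    rcases OrthUnitaryTransvection.eq_tv_or_one hF4 hv hA with rfl | ⟨hc, rfl, -⟩
    · exact one_mem R
    by_cases hc0 : c = 0
    · rw [show OrthUnitaryTransvection.tv hF4 v c hv hc = 1 from
        OrthUnitaryTransvection.su_ext fun x => by
          rw [OrthUnitaryTransvection.tv_act, hc0, zero_mul, zero_smul, add_zero,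
            OrthUnitaryTransvection.act_one]]
      exact one_mem R
    · have hc1 : c = 1 := by
        refine (fixed_cases ?_).resolve_left hc0
        exact (eq_of_add_eq_zero hc).symm
      subst hc1
      refine ⟨⟨T (ι v) ((h_ι v v).trans hv), T_mem_P _ (ι_u0 v)⟩, ?_⟩
      have hvu : h (ι v) u0 = 0 := ι_u0 v
      rw [Ψ_T _ hvu]
      exact congrArg (fun t : Cfsg.SU 4 F 2 => MulAut.conj (QuotientGroup.mk t : Cfsg.PSU 4 F 2))
        (T_congr (tl_ι v) _ hv)
  refine (Subgroup.eq_of_le_of_card_ge hge ?_).symm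
  rw [card_conj_range]
  have h1 : (Ψ : ↥(P : Subgroup (Cfsg.SU 6 F 2)) →* _).range ≤
      (AutPSU52Api.cjP : Cfsg.PGU 4 F 2 →* MulAut (Cfsg.PSU 4 F 2)).range := by
    rintro _ ⟨A, rfl⟩
    exact ⟨QuotientGroup.mk (lev A), rfl⟩
  refine (Subgroup.card_le_of_le h1).trans ((Nat.card_le_card_of_surjective _
    (MonoidHom.rangeRestrict_surjective _)).trans ?_)
  rw [AutPSU52Api.card_PGU hF4 (by norm_num), PSUFourTwoPSp57.card_psu hF.card_eq]
  norm_num

/-- A vector with product one with `u0`. -/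
theorem exists_dual : ∃ v0 : Fin 6 → F, h v0 u0 = 1 ∧ h v0 v0 = 0 := by
  obtain ⟨w, hw⟩ := exists_omega (F := F)
  refine ⟨Fin.cons w (Fin.cons (w + 1) 0), ?_, ?_⟩
  · rw [h_u0, ← add_assoc, add_self, zero_add]
  · rw [h_cons, h_cons, h_zero_left, add_zero, cube (omega_ne hw).1,
      cube (fun e => (omega_ne hw).2 (eq_of_add_eq_zero e)), add_self]

/-- A map which is a scalar on the orthogonal of `u0` is a scalar or a scalar times `T u0`. -/
theorem scalar_on_perp {A : Cfsg.SU 6 F 2} {b : F} (hb : b ≠ 0)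
    (hA : ∀ x, h x u0 = 0 → act A x = b • x) : π A = 1 ∨ π A = π (T u0 iso_u0) := by
  obtain ⟨v0, hv0, hvv⟩ := exists_dual (F := F)
  have hu : act A u0 = b • u0 := hA u0 iso_u0
  set d := act A v0 + b • v0 with hd
  have hperp : ∀ x, h x u0 = 0 → h d x = 0 := by
    intro x hx
    have h1 : h (act A v0) (act A x) = h v0 x := OrthUnitaryTransvection.herm_act A v0 x
    rw [hA x hx, h_smul_right] at h1
    rw [hd, h_add_left, h_smul_left, ← h1, ← mul_assoc, ← pow_succ', cube hb, one_mul, add_self]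
  have hdu : h d u0 = 0 := hperp u0 iso_u0
  have htl : tl d = 0 := eq_zero_of_h fun w => by
    rw [← tl_ι w, ← h_perp hdu (ι_u0 w)]
    exact hperp _ (ι_u0 w)
  have hdν : d = d 0 • u0 := by
    conv_lhs => rw [decomp hdu, htl, ι_zero, add_zero]
  set ν := d 0
  have hAv : act A v0 = b • v0 + ν • u0 := by
    rw [← hdν, hd, add_left_comm, vec_add_self, add_zero]
  have h0 : h (act A v0) (act A v0) = 0 := (OrthUnitaryTransvection.herm_act A v0 v0).trans hvv
  rw [hAv] at h0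
  simp only [h_add_left, h_add_right, h_smul_left, h_smul_right, hvv, iso_u0, hv0,
    h_comm_one hv0, mul_zero, mul_one, zero_add, add_zero] at h0
  have hcases : ν = 0 ∨ ν = b := by
    have : b * ν * (b + ν) = 0 := by linear_combination h0
    rcases mul_eq_zero.mp this with h1 | h1
    · exact Or.inl ((mul_eq_zero.mp h1).resolve_left hb)
    · exact Or.inr (eq_of_add_eq_zero h1).symm
  have hdec : ∀ x : Fin 6 → F, x = (x + h x u0 • v0) + h x u0 • v0 := fun x => by
    rw [add_assoc, vec_add_self, add_zero]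
  have hx0 : ∀ x : Fin 6 → F, h (x + h x u0 • v0) u0 = 0 := fun x => by
    rw [h_add_left, h_smul_left, hv0, mul_one, add_self]
  rcases hcases with e | e
  · left
    refine (mk_eq_of_smul (s := 1) (t := A) (a := b) fun x => ?_).symm.trans (map_one π)
    conv_lhs => rw [hdec x, OrthUnitaryTransvection.act_add, OrthUnitaryTransvection.act_smul,
      hAv, hA _ (hx0 x), e, zero_smul, add_zero, smul_comm, ← smul_add, ← hdec x]
    rw [OrthUnitaryTransvection.act_one]
  · right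
    refine (mk_eq_of_smul (s := T u0 iso_u0) (t := A) (a := b) fun x => ?_).symm
    conv_lhs => rw [hdec x, OrthUnitaryTransvection.act_add, OrthUnitaryTransvection.act_smul,
      hAv, hA _ (hx0 x), e, ← smul_add, smul_comm, ← smul_add]
    rw [T_act]
    congr 1
    rw [smul_add, ← add_assoc, ← hdec x]

/-- An element fixing all isotropic points orthogonal to `u0` is scalar there. -/
theorem scalar_of_eigen {A : Cfsg.SU 6 F 2}
    (hA : ∀ x, h x x = 0 → h x u0 = 0 → x ≠ 0 → ∃ c : F, c ≠ 0 ∧ act A x = c • x) :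
    ∃ b : F, b ≠ 0 ∧ ∀ x, h x u0 = 0 → act A x = b • x := by
  obtain ⟨b, hb, hu⟩ := hA u0 iso_u0 iso_u0 u0_ne
  refine ⟨b, hb, ?_⟩
  have hiso : ∀ w : Fin 4 → F, h w w = 0 → w ≠ 0 → act A (ι w) = b • ι w := by
    intro w hw hw0
    have hιu : h (ι w) u0 = 0 := ι_u0 w
    obtain ⟨α, -, e1⟩ := hA (ι w) ((h_ι w w).trans hw) hιu fun e => hw0 (by
      rw [← tl_ι w, e]; rfl)
    obtain ⟨β, -, e2⟩ := hA (ι w + u0) (by
      simp only [h_add_left, h_add_right, h_ι, hw, hιu, h_comm_zero hιu, iso_u0, add_zero])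
      (by rw [h_add_left, hιu, iso_u0, add_zero]) fun e => hw0 (by
        have := congrArg tl e
        rwa [tl_add, tl_ι, tl_u0, add_zero] at this)
    rw [OrthUnitaryTransvection.act_add, e1, hu, smul_add] at e2
    have h1 := congrArg tl e2
    simp only [tl_add, tl_smul, tl_ι, tl_u0, smul_zero, add_zero] at h1
    obtain rfl := smul_left_injective F hw0 h1
    rw [e1, smul_left_injective F u0_ne (add_left_cancel e2)]
  obtain ⟨w, hw⟩ := exists_omega (F := F)
  let S : Submodule F (Fin 4 → F) :=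
    { carrier := {v | act A (ι v) = b • ι v}
      add_mem' := fun {v v'} hv hv' => by
        show act A (ι (v + v')) = b • ι (v + v')
        rw [ι_add, OrthUnitaryTransvection.act_add, hv, hv', smul_add]
      zero_mem' := by
        show act A (ι 0) = b • ι 0
        rw [ι_zero, smul_zero]
        exact Matrix.mulVec_zero _
      smul_mem' := fun c v hv => by
        show act A (ι (c • v)) = b • ι (c • v)
        rw [ι_smul, OrthUnitaryTransvection.act_smul, hv, smul_comm] }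
  have hw3 : w ^ 3 = 1 := cube (omega_ne hw).1
  have hmem : ∀ a₀ a₁ a₂ a₃ : F, a₀ ^ 3 + (a₁ ^ 3 + (a₂ ^ 3 + a₃ ^ 3)) = 0 →
      (![a₀, a₁, a₂, a₃] : Fin 4 → F) ∈ S := by
    intro a₀ a₁ a₂ a₃ h4
    by_cases h0 : (![a₀, a₁, a₂, a₃] : Fin 4 → F) = 0
    · rw [h0]; exact S.zero_mem
    refine hiso _ ?_ h0
    simp only [h, Fin.sum_univ_succ]
    simp
    linear_combination h4
  have p01 : (![1, 1, 0, 0] : Fin 4 → F) ∈ S := hmem _ _ _ _ (by ring_nf; exact two_eq_zero)
  have p12 : (![0, 1, 1, 0] : Fin 4 → F) ∈ S := hmem _ _ _ _ (by ring_nf; exact two_eq_zero)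
  have p23 : (![0, 0, 1, 1] : Fin 4 → F) ∈ S := hmem _ _ _ _ (by ring_nf; exact two_eq_zero)
  have p0w : (![1, w, 0, 0] : Fin 4 → F) ∈ S := hmem _ _ _ _ (by rw [hw3]; ring_nf; exact two_eq_zero)
  have hw1 : w + 1 ≠ 0 := fun e => (omega_ne hw).2 (eq_of_add_eq_zero e)
  have s1 : (![0, 1, 0, 0] : Fin 4 → F) ∈ S := by
    have := S.smul_mem (w + 1)⁻¹ (S.add_mem p0w p01)
    convert this using 1
    funext i; fin_cases i <;> simp [add_self, inv_mul_cancel₀ hw1]
  have s0 : (![1, 0, 0, 0] : Fin 4 → F) ∈ S := by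
    convert S.add_mem p01 s1 using 1
    funext i; fin_cases i <;> simp [add_self]
  have s2 : (![0, 0, 1, 0] : Fin 4 → F) ∈ S := by
    convert S.add_mem p12 s1 using 1
    funext i; fin_cases i <;> simp [add_self]
  have s3 : (![0, 0, 0, 1] : Fin 4 → F) ∈ S := by
    convert S.add_mem p23 s2 using 1
    funext i; fin_cases i <;> simp [add_self]
  intro x hx
  have hall : tl x ∈ S := by
    rw [show tl x = tl x 0 • ![1, 0, 0, 0] + tl x 1 • ![0, 1, 0, 0] + tl x 2 • ![0, 0, 1, 0] +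
      tl x 3 • ![0, 0, 0, 1] by funext i; fin_cases i <;> simp]
    exact S.add_mem (S.add_mem (S.add_mem (S.smul_mem _ s0) (S.smul_mem _ s1)) (S.smul_mem _ s2))
      (S.smul_mem _ s3)
  conv_lhs => rw [decomp hx]
  rw [OrthUnitaryTransvection.act_add, OrthUnitaryTransvection.act_smul, hu,
    show act A (ι (tl x)) = b • ι (tl x) from hall, smul_comm, ← smul_add, ← decomp hx]

/-- Elements of the kernel of two-power order modulo the centre are, up to `u0`, scalars. -/
theorem kernel_shape {A : ↥(P : Subgroup (Cfsg.SU 6 F 2))} (hA : Ψ A = 1)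
    (h2 : A.1 ^ 1024 ∈ Subgroup.center (Cfsg.SU 6 F 2)) :
    ∃ b : F, b ≠ 0 ∧ act A.1 u0 = b • u0 ∧
      ∀ x, h x u0 = 0 → ∃ a : F, act A.1 x = b • x + a • u0 := by
  obtain ⟨b, hb, hlin⟩ := (Ψ_eq_one_iff A).mp hA
  obtain ⟨c, -, hc⟩ := A.2
  have hpow : ∀ n : ℕ, act (A.1 ^ n) u0 = c ^ n • u0 ∧
      ∀ x, h x u0 = 0 → h (act (A.1 ^ n) x) u0 = 0 ∧ tl (act (A.1 ^ n) x) = b ^ n • tl x := by
    intro n
    induction n with
    | zero =>
      refine ⟨by rw [pow_zero, pow_zero, OrthUnitaryTransvection.act_one, one_smul], fun x hx => ?_⟩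
      rw [pow_zero, pow_zero, OrthUnitaryTransvection.act_one, one_smul]
      exact ⟨hx, rfl⟩
    | succ n ih =>
      refine ⟨?_, fun x hx => ?_⟩
      · rw [pow_succ', OrthUnitaryTransvection.act_mul, ih.1, OrthUnitaryTransvection.act_smul, hc,
          smul_smul, ← pow_succ]
      · rw [pow_succ', OrthUnitaryTransvection.act_mul]
        exact ⟨P_perp A.2 (ih.2 x hx).1, by
          rw [tl_act A.2 (ih.2 x hx).1, (ih.2 x hx).2, hlin, smul_smul, ← pow_succ']⟩
  obtain ⟨a, -, hza⟩ := exists_scalar_of_mem_center hF4 (by norm_num) h2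
  have h5 : ∀ y : F, y ^ 1024 = y := fun y => by
    rw [show 1024 = 4 * 4 * 4 * 4 * 4 from rfl]
    simp only [pow_mul, pow_four]
  have e1 : c = a := by
    have := ((hpow 1024).1).symm.trans (hza u0)
    rw [h5] at this
    exact smul_left_injective F u0_ne this
  have e2 : b = a := by
    have hw0 : (![1, 1, 0, 0] : Fin 4 → F) ≠ 0 := fun e => by simpa using congrFun e 0
    have := ((hpow 1024).2 (ι ![1, 1, 0, 0]) (ι_u0 _)).2
    rw [h5, hza, tl_smul, tl_ι] at this
    exact (smul_left_injective F hw0 this).symm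
  refine ⟨b, hb, by rw [hc, e1, e2], fun x hx => ?_⟩
  refine ⟨(act A.1 x) 0 + b * x 0, ?_⟩
  conv_lhs => rw [decomp (P_perp A.2 hx), tl_act A.2 hx, hlin, ι_smul]
  have e3 : x + x 0 • u0 = ι (tl x) :=
    (congrArg (· + x 0 • u0) (decomp hx)).trans (by
      rw [add_comm (x 0 • u0), add_assoc, vec_add_self, add_zero])
  rw [← e3, smul_add, smul_smul, add_smul]
  abel

/-- Two such elements commute modulo the transvection of the point, and their squares lie there. -/
theorem kernel_comm {A B : Cfsg.SU 6 F 2} {a b : F} (ha : a ≠ 0) (hA : act A u0 = a • u0)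
    (hA' : ∀ x, h x u0 = 0 → ∃ r : F, act A x = a • x + r • u0) (hb : b ≠ 0)
    (hB : act B u0 = b • u0) (hB' : ∀ x, h x u0 = 0 → ∃ r : F, act B x = b • x + r • u0) :
    (π (A * B * A⁻¹ * B⁻¹) = 1 ∨ π (A * B * A⁻¹ * B⁻¹) = π (T u0 iso_u0)) ∧
      (π (A * A) = 1 ∨ π (A * A) = π (T u0 iso_u0)) := by
  have hswap : ∀ x, h x u0 = 0 → act A (act B x) = act B (act A x) := by
    intro x hx
    obtain ⟨r, hr⟩ := hA' x hx
    obtain ⟨s, hs⟩ := hB' x hx
    rw [hs, hr]
    simp only [OrthUnitaryTransvection.act_add, OrthUnitaryTransvection.act_smul, hA, hB, hr, hs,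
      smul_add, smul_smul]
    rw [mul_comm a b, mul_comm r b, mul_comm s a]
    abel
  have hAP : A ∈ P := ⟨a, ha, hA⟩
  have hBP : B ∈ P := ⟨b, hb, hB⟩
  refine ⟨scalar_on_perp one_ne_zero fun y hy => ?_,
    scalar_on_perp (mul_ne_zero ha ha) fun x hx => ?_⟩
  · set x := act A⁻¹ (act B⁻¹ y) with hxdef
    have hx : h x u0 = 0 := P_perp (inv_mem hAP) (P_perp (inv_mem hBP) hy)
    have hy' : act B (act A x) = y := by
      rw [hxdef, ← OrthUnitaryTransvection.act_mul A, mul_inv_cancel,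
        OrthUnitaryTransvection.act_one, ← OrthUnitaryTransvection.act_mul, mul_inv_cancel,
        OrthUnitaryTransvection.act_one]
    rw [OrthUnitaryTransvection.act_mul, OrthUnitaryTransvection.act_mul,
      OrthUnitaryTransvection.act_mul, one_smul, ← hxdef, hswap x hx, hy']
  · obtain ⟨r, hr⟩ := hA' x hx
    rw [OrthUnitaryTransvection.act_mul, hr, OrthUnitaryTransvection.act_add,
      OrthUnitaryTransvection.act_smul, OrthUnitaryTransvection.act_smul, hr, hA, smul_add,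
      smul_smul, smul_smul, smul_smul, add_assoc, mul_comm r a, ← add_smul, add_self, zero_smul,
      add_zero]

/-- A product of two transvections inducing the same transvection moves a point along `u0`. -/
theorem exists_mover {v : Fin 6 → F} (hv : h v v = 0) (hvu : h v u0 = 0) (hne : tl v ≠ 0) (b : F) :
    ∃ (p p' : Fin 6 → F) (hp : h p p = 0) (hpu : h p u0 = 0) (hp' : h p' p' = 0)
      (hpu' : h p' u0 = 0), tl p ≠ 0 ∧ tl p' ≠ 0 ∧
      Ψ ⟨T p hp, T_mem_P hp hpu⟩ = Ψ ⟨T p' hp', T_mem_P hp' hpu'⟩ ∧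
      act (T p hp) (act (T p' hp') v) = v + b • u0 := by
  obtain ⟨x, hx, -⟩ := exists_h_eq_one hne
  obtain ⟨α, hα⟩ := exists_alpha (iso_tl hv hvu) hx
  set w := x + α • tl v
  have hwv : h w (tl v) = 1 := by rw [h_add_left, h_smul_left, iso_tl hv hvu, mul_zero, add_zero, hx]
  have hw0 : w ≠ 0 := fun e => by rw [e, h_zero_left] at hwv; exact zero_ne_one hwv
  have hp : h (ι w) (ι w) = 0 := (h_ι w w).trans hα
  have hpu : h (ι w) u0 = 0 := ι_u0 w
  have hp' : h (ι w + b • u0) (ι w + b • u0) = 0 := by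
    simp only [h_add_left, h_add_right, h_smul_left, h_smul_right, hp, hpu, h_comm_zero hpu,
      iso_u0, mul_zero, add_zero]
  have hpu' : h (ι w + b • u0) u0 = 0 := by
    rw [h_add_left, h_smul_left, hpu, iso_u0, mul_zero, add_zero]
  have htl : tl (ι w + b • u0) = w := by rw [tl_add, tl_ι, tl_smul, tl_u0, smul_zero, add_zero]
  refine ⟨ι w, ι w + b • u0, hp, hpu, hp', hpu', by rwa [tl_ι], by rwa [htl], ?_, ?_⟩
  · rw [Ψ_T hp hpu, Ψ_T hp' hpu']
    exact congrArg (fun t : Cfsg.SU 4 F 2 => MulAut.conj (QuotientGroup.mk t : Cfsg.PSU 4 F 2))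
      (T_congr (by rw [htl, tl_ι]) _ _)
  · have e1 : h v (ι w) = 1 := by rw [h_perp hvu hpu, tl_ι]; exact h_comm_one hwv
    have e2 : h v (ι w + b • u0) = 1 := by
      rw [h_add_right, h_smul_right, e1, hvu, mul_zero, add_zero]
    rw [T_act (ι w + b • u0) hp' v, e2, one_smul, T_act, h_add_left, h_add_left, h_smul_left, e1, hp,
      h_comm_zero hpu, mul_zero, add_zero, add_zero, one_smul]
    rw [show v + (ι w + b • u0) + ι w = v + b • u0 + (ι w + ι w) by abel, vec_add_self, add_zero]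

end Cfsg.Agent.ThreeTransM22Levi54
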