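import Cfsg.Agent.Lib.ThreeTransM22FusionCount72

/-!
# Oriented lines among the conjugates

If both lifts of each member are conjugates of the central involution, the lines so obtained are
cyclically oriented by the normaliser; this excludes the sizes 45, 276 and 2047.
-/

set_option autoImplicit false
set_option linter.unusedSectionVars false
set_option linter.style.haveILetI false

namespace Cfsg.Agent.ThreeTransM22Lines72

open Subgroup Cfsg.Agent.ThreeTransRel
open Cfsg.Agent.ThreeTransM22Outer72 Cfsg.Agent.ThreeTransM22Block72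
open Cfsg.Agent.ThreeTransM22Cover72 Cfsg.Agent.ThreeTransM22CoverCount72
open Cfsg.Agent.ThreeTransM22Fusion72 Cfsg.Agent.ThreeTransM22FusionCount72

variable {G : Type*} [Group G] [Finite G] {d : G}
variable {Q : Type*} [Group Q] [Finite Q]

set_option quotPrecheck false in
local notation "C₀" => Subgroup.centralizer ({d} : Set G)

variable {p : ↥(Subgroup.centralizer ({d} : Set G)) →* Q} {z x₀ : ↥(Subgroup.centralizer ({d} : Set G))}
variable {E B : Set Q}

/-- The lifts of members, in the big group. -/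
def W (p : ↥(Subgroup.centralizer ({d} : Set G)) →* Q) (x₀ : ↥(Subgroup.centralizer ({d} : Set G)))
    (B : Set Q) : Set G :=
  Subtype.val '' V1 p x₀ B

/-- `b` is a lift of the first kind seen from `a`. -/
def R1 (p : ↥(Subgroup.centralizer ({d} : Set G)) →* Q) (x₀ : ↥(Subgroup.centralizer ({d} : Set G)))
    (B : Set Q) (a b : G) : Prop :=
  ∃ n ∈ Subgroup.normalizer (pre p B : Set G), n * d * n⁻¹ = a ∧ n⁻¹ * b * n ∈ W p x₀ B

theorem R1_conj {a b m : G} (hm : m ∈ Subgroup.normalizer (pre p B : Set G)) (h : R1 p x₀ B a b) :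
    R1 p x₀ B (m * a * m⁻¹) (m * b * m⁻¹) := by
  obtain ⟨n, hn, hna, hnb⟩ := h
  refine ⟨m * n, mul_mem hm hn, ?_, ?_⟩
  · rw [← hna]; group
  · rwa [show (m * n)⁻¹ * (m * b * m⁻¹) * (m * n) = n⁻¹ * b * n by group]

variable (X : Cov p z E) (hzd : (z : G) = d) (hx : p x₀ ∈ E) (hB : Blk E B)
include X hzd hx hB

theorem W_sub {y : G} (hy : y ∈ W p x₀ B) :
    y ∈ pre p B ∧ ∃ hC : y ∈ C₀, (⟨y, hC⟩ : ↥C₀) ∈ V1 p x₀ B := by
  obtain ⟨v, hv, rfl⟩ := hy
  obtain ⟨s, hs, e⟩ := id hv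
  refine ⟨⟨v, ?_, rfl⟩, v.2, hv⟩
  show p v ∈ closure B
  rw [← e, (X.sig_spec hx (hB.sub hs)).2]
  exact subset_closure hs

theorem W_not_mul_d {y : G} (hy : y ∈ W p x₀ B) : y * d ∉ W p x₀ B := by
  intro h
  obtain ⟨v, hv, rfl⟩ := hy
  obtain ⟨w, hw, e⟩ := h
  refine V1_not_mul_z X hzd hx hB hv ?_
  rwa [show v * z = w from Subtype.ext (show (v : G) * (z : G) = (w : G) by rw [hzd, ← e])]

theorem d_notMem_W : d ∉ W p x₀ B := by
  rintro ⟨v, hv, e⟩
  obtain ⟨-, -, -, -, -, -, -, o1, -, -⟩ := images X hx hB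
  refine o1 ⟨v, hv, ?_⟩
  rw [show v = z from Subtype.ext (e.trans hzd.symm), X.map_z]

theorem R1_wd {a b m : G} (h : R1 p x₀ B a b) (hm : m ∈ Subgroup.normalizer (pre p B : Set G))
    (hma : m * d * m⁻¹ = a) : m⁻¹ * b * m ∈ W p x₀ B := by
  obtain ⟨n, hn, hna, hnb⟩ := h
  have hk : m⁻¹ * n ∈ Kd p B := by
    refine Subgroup.mem_inf.mpr ⟨mul_mem (inv_mem hm) hn, Subgroup.mem_centralizer_singleton_iff.mpr ?_⟩
    calc m⁻¹ * n * d = m⁻¹ * (n * d * n⁻¹) * n := by group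
      _ = m⁻¹ * (m * d * m⁻¹) * n := by rw [hna, hma]
      _ = d * (m⁻¹ * n) := by group
  obtain ⟨hC, hs⟩ := mem_Kd X hzd hB hk
  obtain ⟨v, hv, e⟩ := hnb
  refine ⟨_, ((X.orbits hx hB).1 _ hs v).1 hv, ?_⟩
  show m⁻¹ * n * (v : G) * (m⁻¹ * n)⁻¹ = m⁻¹ * b * m
  rw [e]; group

theorem one_mem_N : (1 : G) ∈ Subgroup.normalizer (pre p B : Set G) := one_mem _

theorem R1_d_iff {b : G} : R1 p x₀ B d b ↔ b ∈ W p x₀ B := by
  refine ⟨fun h => ?_, fun h => ⟨1, one_mem _, by simp, by simpa using h⟩⟩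
  simpa using R1_wd X hzd hx hB h (one_mem _) (show (1 : G) * d * (1 : G)⁻¹ = d by simp)

theorem R1_mem (hW : W p x₀ B ⊆ fused p B) {a b : G} (h : R1 p x₀ B a b) :
    a ∈ fused p B ∧ b ∈ fused p B ∧ b ≠ a := by
  obtain ⟨n, hn, hna, hnb⟩ := h
  have h1 := fused_invariant X hzd hB hn (x := d) ⟨d_mem X hzd hB, IsConj.refl d⟩
  have h2 := fused_invariant X hzd hB hn (hW hnb)
  rw [hna] at h1
  rw [show n * (n⁻¹ * b * n) * n⁻¹ = b by group] at h2
  refine ⟨h1, h2, fun e => d_notMem_W X hzd hx hB ?_⟩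
  rwa [e, ← hna, show n⁻¹ * (n * d * n⁻¹) * n = d by group] at hnb

theorem fused_comm {a b : G} (ha : a ∈ fused p B) (hb : b ∈ fused p B) : Commute a b :=
  pre_comm X hzd hB ha.1 hb.1 hx

theorem fused_sq {a : G} (ha : a ∈ fused p B) : a * a = 1 := pre_sq X hzd hB ha.1 hx

theorem dichotomy {a b : G} (h : R1 p x₀ B a b) (h' : R1 p x₀ B a (b * a)) : False := by
  obtain ⟨n, hn, hna, hnb⟩ := h
  have := R1_wd X hzd hx hB h' hn hna
  refine W_not_mul_d X hzd hx hB hnb ?_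
  rwa [show n⁻¹ * b * n * d = n⁻¹ * (b * a) * n by rw [← hna]; group]

/-- Lifts of members are exactly the elements with 22 conjugates under the stabiliser of `d`. -/
theorem small_class {y : G} (hy : y ∈ pre p B) (hy1 : y ≠ 1) (hyd : y ≠ d)
    (h22 : (cl (Kd p B) y).ncard = 22) : y ∈ W p x₀ B ∨ y * d ∈ W p x₀ B := by
  obtain ⟨hinv, h1, h2, h3⟩ := X.orbits hx hB
  obtain ⟨-, i2, i3, hcov, -, -, -, -⟩ := images X hx hB
  obtain ⟨hC, hyc⟩ := mem_pre.mp hy
  have hlift : ∀ {V : Set ↥C₀}, p ⟨y, hC⟩ ∈ p '' V → ∃ v ∈ V, y = (v : G) ∨ y * d = (v : G) := by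
    rintro V ⟨v, hv, e⟩
    rcases X.fib e.symm with h | h
    · exact ⟨v, hv, Or.inl (congrArg Subtype.val h)⟩
    · exact ⟨v, hv, Or.inr ((congrArg (fun t : G => y * t) hzd.symm).trans
        (congrArg Subtype.val (show (⟨y, hC⟩ : ↥C₀) * z = v by rw [h, X.mul_z_z])))⟩
  have hbig : ∀ {V : Set ↥C₀} {n : ℕ}, (∀ k ∈ stab p B, ∀ y ∈ V, k * y * k⁻¹ ∈ V) →
      (∀ y ∈ V, ∀ y' ∈ V, ∃ k ∈ stab p B, k * y * k⁻¹ = y') → (p '' V).ncard = n →
      p ⟨y, hC⟩ ∈ p '' V → n ∣ 22 := by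
    rintro V _ hV htr rfl hm
    obtain ⟨v, hv, e⟩ := hlift hm
    have h := dvd_ncard X hzd hx hB hV htr hv
    rcases e with e | e
    · rw [← e, h22] at h; exact h
    · rw [← e, cl_mul_d X hzd hB, Set.ncard_image_of_injective _ (mul_left_injective d), h22] at h
      exact h
  rcases hcov _ hyc with h | h | h | h
  · rcases X.ker _ h with e | e
    · exact absurd (congrArg Subtype.val e) hy1
    · exact absurd ((congrArg Subtype.val e).trans hzd) hyd
  · obtain ⟨v, hv, e | e⟩ := hlift h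
    · exact Or.inl ⟨v, hv, e.symm⟩
    · exact Or.inr ⟨v, hv, e.symm⟩
  · exact absurd (hbig (fun k hk y hy => (hinv k hk y).2.1 hy) h2 i2 h) (by decide)
  · exact absurd (hbig (fun k hk y hy => (hinv k hk y).2.2 hy) h3 i3 h) (by decide)

theorem cl_W {y : G} (hy : y ∈ W p x₀ B ∨ y * d ∈ W p x₀ B) : (cl (Kd p B) y).ncard = 22 := by
  obtain ⟨hinv, h1, -, -⟩ := X.orbits hx hB
  have h : ∀ w ∈ W p x₀ B, (cl (Kd p B) w).ncard = 22 := by
    rintro _ ⟨v, hv, rfl⟩
    rw [cl_eq X hzd hB (fun k hk y hy => (hinv k hk y).1 hy) h1 hv,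
      Set.ncard_image_of_injective _ Subtype.val_injective, ncard_V1 X hzd hx hB]
  rcases hy with hy | hy
  · exact h y hy
  · have := h _ hy
    rwa [cl_mul_d X hzd hB, Set.ncard_image_of_injective _ (mul_left_injective d)] at this

section both

variable (hW : W p x₀ B ⊆ fused p B) (hWd : ∀ y ∈ W p x₀ B, y * d ∈ fused p B)
include hW hWd

theorem rel_mem {a b : G} (h : R1 p x₀ B a b) : b * a ∈ fused p B := by
  obtain ⟨n, hn, hna, hnb⟩ := h
  have h2 := fused_invariant X hzd hB hn (hWd _ hnb)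
  rwa [show n * (n⁻¹ * b * n * d) * n⁻¹ = b * a by rw [← hna]; group] at h2

/-- Two conjugates related by a lift of a member are so related both ways. -/
theorem rel_symm {a b : G} (h : R1 p x₀ B a b) : R1 p x₀ B b a ∨ R1 p x₀ B b (a * b) := by
  obtain ⟨ha, hb, hne⟩ := R1_mem X hzd hx hB hW h
  obtain ⟨n, hn, hna, hnb⟩ := h
  obtain ⟨m, hm, hmy⟩ := transitive X hzd hB hx (hW hnb)
  have hsize := cl_W X hzd hx hB (Or.inl hnb)
  rw [← cl_ncard_symm X hzd hB hm hmy] at hsize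
  have hmem : m⁻¹ * d * m ∈ pre p B := by
    have := (Subgroup.mem_normalizer_iff.mp (inv_mem hm) d).mp (d_mem X hzd hB)
    rwa [inv_inv] at this
  have hd1 : m⁻¹ * d * m ≠ 1 := fun e => d_ne_one X hzd hx hB (by
    rw [show d = m * (m⁻¹ * d * m) * m⁻¹ by group, e]; group)
  have hdd : m⁻¹ * d * m ≠ d := fun e => hne (by
    have e' : m * d * m⁻¹ = d := by
      conv_lhs => rw [← e]
      group
    rw [hmy] at e'
    rw [← hna, show b = n * (n⁻¹ * b * n) * n⁻¹ by group, e'])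
  have hnm : n * m * d * (n * m)⁻¹ = b := by
    rw [show n * m * d * (n * m)⁻¹ = n * (m * d * m⁻¹) * n⁻¹ by group, hmy]; group
  rcases small_class X hzd hx hB hmem hd1 hdd hsize with h1 | h1
  · refine Or.inl ⟨n * m, mul_mem hn hm, hnm, ?_⟩
    rwa [show (n * m)⁻¹ * a * (n * m) = m⁻¹ * d * m by rw [← hna]; group]
  · refine Or.inr ⟨n * m, mul_mem hn hm, hnm, ?_⟩
    rwa [show (n * m)⁻¹ * (a * b) * (n * m) = m⁻¹ * d * m * d by rw [← hna, ← hnm]; group]

/-- The relation is antisymmetric. -/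
theorem antisymm {a b : G} (h : R1 p x₀ B a b) (h' : R1 p x₀ B b a) : False := by
  obtain ⟨hinv, h1, -, -⟩ := X.orbits hx hB
  obtain ⟨n, hn, hna, hnb⟩ := id h
  -- symmetric at d, hence everywhere
  have hx0 : R1 p x₀ B (n⁻¹ * b * n) d := by
    have := R1_conj (inv_mem hn) h'
    rwa [inv_inv, show n⁻¹ * a * n = d by rw [← hna]; group] at this
  have hall : ∀ a b, R1 p x₀ B a b → R1 p x₀ B b a := by
    rintro a b ⟨m, hm, hma, hmb⟩
    obtain ⟨v, hv, ev⟩ := hnb
    obtain ⟨w, hw, ew⟩ := hmb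
    obtain ⟨k, hk, hkvw⟩ := h1 v hv w hw
    have := R1_conj hm (R1_conj (Kd_of_stab X hzd hB hk).1 hx0)
    have hkd : (k : G) * d * (k : G)⁻¹ = d :=
      mul_inv_eq_iff_eq_mul.mpr (Subgroup.mem_centralizer_singleton_iff.mp k.2)
    rwa [← ev, show (k : G) * (v : G) * (k : G)⁻¹ = w from congrArg Subtype.val hkvw, hkd, hma, ew,
      show m * (m⁻¹ * b * m) * m⁻¹ = b by group] at this
  set x := n⁻¹ * b * n
  have hxd : R1 p x₀ B d x := (R1_d_iff X hzd hx hB).mpr hnb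
  have hxA := hW hnb
  have hdA : d ∈ fused p B := ⟨d_mem X hzd hB, IsConj.refl d⟩
  have hc := fused_comm X hzd hx hB hdA hxA
  have hxdd : R1 p x₀ B d (x * d * d) := by
    rwa [mul_assoc, fused_sq X hzd hx hB hdA, mul_one]
  have hsym : R1 p x₀ B (x * d) d ∨ R1 p x₀ B (x * d) x := by
    obtain ⟨m, hm, hmy⟩ := transitive X hzd hB hx (hWd x hnb)
    have hsize : (cl (Kd p B) (x * d)).ncard = 22 := cl_W X hzd hx hB (Or.inr (by
      rwa [mul_assoc, fused_sq X hzd hx hB hdA, mul_one]))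
    rw [← cl_ncard_symm X hzd hB hm hmy] at hsize
    have hmem : m⁻¹ * d * m ∈ pre p B := by
      have := (Subgroup.mem_normalizer_iff.mp (inv_mem hm) d).mp (d_mem X hzd hB)
      rwa [inv_inv] at this
    have hd1 : m⁻¹ * d * m ≠ 1 := fun e => d_ne_one X hzd hx hB (by
      rw [show d = m * (m⁻¹ * d * m) * m⁻¹ by group, e]; group)
    have hdd : m⁻¹ * d * m ≠ d := fun e => by
      have e' : m * d * m⁻¹ = d := by
        conv_lhs => rw [← e]
        group
      rw [hmy] at e'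
      have hx1 : x = 1 := mul_eq_right.mp e'
      have := hxA.2
      rw [hx1] at this
      exact d_ne_one X hzd hx hB (isConj_one_left.mp this)
    rcases small_class X hzd hx hB hmem hd1 hdd hsize with h2 | h2
    · exact Or.inl ⟨m, hm, hmy, h2⟩
    · refine Or.inr ⟨m, hm, hmy, ?_⟩
      rwa [show m⁻¹ * x * m = m⁻¹ * d * m * d by
        have hxeq : x = d * (x * d) := by
          rw [← mul_assoc, hc.eq, mul_assoc, fused_sq X hzd hx hB hdA, mul_one]
        conv_lhs => rw [hxeq, ← hmy]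
        group]
  rcases hsym with h2 | h2
  · exact W_not_mul_d X hzd hx hB hnb ((R1_d_iff X hzd hx hB).mp (hall _ _ h2))
  · exact dichotomy X hzd hx hB hx0 (by rw [← hc.eq] at h2; exact hall _ _ h2)

/-- The lines are cyclically oriented. -/
theorem next_rel {a b : G} (h : R1 p x₀ B a b) : R1 p x₀ B b (a * b) :=
  (rel_symm X hzd hx hB hW hWd h).resolve_left fun h' => antisymm X hzd hx hB hW hWd h h'

/-- Hence three divides the number of related pairs. -/
theorem three_dvd : 3 ∣ (fused p B).ncard * 22 := by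
  classical
  choose n hn hnd using fun a : ↥(fused p B) => transitive X hzd hB hx a.2
  set f : ↥(fused p B) × ↥(W p x₀ B) → G × G :=
    fun q => ((q.1 : G), n q.1 * (q.2 : G) * (n q.1)⁻¹)
  have hinj : Function.Injective f := by
    rintro ⟨a, y⟩ ⟨a', y'⟩ e
    obtain ⟨e1, e2⟩ := Prod.ext_iff.mp e
    have : a = a' := Subtype.ext e1
    subst this
    exact congrArg (Prod.mk a) (Subtype.ext (mul_left_cancel (mul_right_cancel e2)))
  have hran : Set.range f = {q | R1 p x₀ B q.1 q.2} := by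
    ext ⟨a, b⟩
    constructor
    · rintro ⟨⟨a', y⟩, e⟩
      obtain ⟨rfl, rfl⟩ := Prod.ext_iff.mp e
      refine ⟨n a', hn a', hnd a', ?_⟩
      rw [show (n a')⁻¹ * (n a' * (y : G) * (n a')⁻¹) * n a' = y by group]
      exact y.2
    · intro h
      set a' : ↥(fused p B) := ⟨a, (R1_mem X hzd hx hB hW h).1⟩
      refine ⟨(a', ⟨_, R1_wd X hzd hx hB h (hn a') (hnd a')⟩), Prod.ext rfl ?_⟩
      show n a' * ((n a')⁻¹ * b * n a') * (n a')⁻¹ = b
      group
  have hcard : {q : G × G | R1 p x₀ B q.1 q.2}.ncard = (fused p B).ncard * 22 := by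
    rw [← hran, Set.ncard_range_of_injective hinj, Nat.card_prod, Nat.card_coe_set_eq,
      Nat.card_coe_set_eq, W, Set.ncard_image_of_injective _ Subtype.val_injective,
      ncard_V1 X hzd hx hB]
  rw [← hcard, ← Nat.card_coe_set_eq, ← Set.ncard_univ]
  set S := {q : G × G | R1 p x₀ B q.1 q.2}
  let σ : ↥S → ↥S := fun q => ⟨(q.1.2, q.1.1 * q.1.2), next_rel X hzd hx hB hW hWd q.2⟩
  have hσ3 : ∀ q, σ (σ (σ q)) = q := by
    rintro ⟨⟨a, b⟩, h⟩
    obtain ⟨ha, hb, -⟩ := R1_mem X hzd hx hB hW h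
    have hab := fused_comm X hzd hx hB ha hb
    have hb2 := fused_sq X hzd hx hB hb
    have e1 : b * (a * b) = a := by rw [← mul_assoc, ← hab.eq, mul_assoc, hb2, mul_one]
    refine Subtype.ext (Prod.ext ?_ ?_)
    · exact e1
    · show a * b * (b * (a * b)) = b
      rw [e1, mul_assoc, ← hab.eq, ← mul_assoc, fused_sq X hzd hx hB ha, one_mul]
  have hσ1 : ∀ q, σ q ≠ q := by
    rintro ⟨⟨a, b⟩, h⟩ e
    exact (R1_mem X hzd hx hB hW h).2.2 (congrArg (fun q : ↥S => q.1.1) e)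
  refine ThreeTransM22Count72.dvd_of_partition 3 (fun q => {q, σ q, σ (σ q)}) fun q _ =>
    ⟨by simp, Set.subset_univ _, ?_, ?_⟩
  · have h12 : q ≠ σ q := fun e => hσ1 q e.symm
    have h13 : q ≠ σ (σ q) := fun e => hσ1 q (by conv_lhs => rw [e, hσ3])
    have h23 : σ q ≠ σ (σ q) := fun e => hσ1 _ e.symm
    rw [Set.ncard_insert_of_notMem (by simp [h12, h13]), Set.ncard_pair h23]
  · rintro r (rfl | rfl | rfl)
    · rfl
    · rw [hσ3]; ext t; simp only [Set.mem_insert_iff, Set.mem_singleton_iff]; tauto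
    · rw [hσ3]; ext t; simp only [Set.mem_insert_iff, Set.mem_singleton_iff]; tauto

end both

end Cfsg.Agent.ThreeTransM22Lines72
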