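import Cfsg.Agent.S1685
import Cfsg.Agent.S1686
import Cfsg.Prelude.Def_FischerSpaces

/-!
The subgroup of type Ω(7,3) in a group identified with the presented Fischer group Fi22.
-/

set_option autoImplicit false

namespace Cfsg.Agent.ThreeTransM22Omega93

open Cfsg Cfsg.Spor

variable {G : Type*} [Group G] [Finite G] {D : Set G}

/-- The relator set of the presentation. -/
abbrev rels : Set (FreeGroup Fi22.Gen) := coxRelators Fi22.edges ∪ {r | r ∈ Fi22.extra}

/-- The image of a generator. -/
def img (x : Fi22.Gen) : Fi22 := PresentedGroup.mk rels (FreeGroup.of x)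

theorem rel (x y : Fi22.Gen) : (img x * img y) ^ coxLabel Fi22.edges x y = 1 := by
  have h1 : (FreeGroup.of x * FreeGroup.of y) ^ coxLabel Fi22.edges x y ∈ rels :=
    Or.inl ⟨x, by cases x <;> decide, y, by cases y <;> decide, rfl⟩
  have := PresentedGroup.one_of_mem h1
  rwa [map_pow, map_mul] at this

theorem sq (x : Fi22.Gen) : img x * img x = 1 := by
  have h1 := rel x x
  rwa [show coxLabel Fi22.edges x x = 1 by cases x <;> decide, pow_one] at h1

theorem conj_eq {x y : Fi22.Gen} (hxy : coxLabel Fi22.edges x y = 3) :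
    (img x * img y) * img x * (img x * img y)⁻¹ = img y := by
  have h1 := rel x y
  rw [hxy] at h1
  have hx : (img x)⁻¹ = img x := inv_eq_of_mul_eq_one_right (sq x)
  have hy : (img y)⁻¹ = img y := inv_eq_of_mul_eq_one_right (sq y)
  rw [mul_inv_rev, hx, hy]
  calc img x * img y * img x * (img y * img x) = (img x * img y) ^ 3 * (img y)⁻¹ := by
        simp [pow_succ, mul_assoc]
    _ = img y := by rw [h1, one_mul, hy]

theorem mem_step (hconj : ∀ g : G, ∀ d ∈ D, g * d * g⁻¹ ∈ D) (e : Fi22 ≃* G) {x y : Fi22.Gen}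
    (hxy : coxLabel Fi22.edges x y = 3) (hx : e (img x) ∈ D) : e (img y) ∈ D := by
  rw [← conj_eq hxy, map_mul, map_mul, map_inv]
  exact hconj _ _ hx

theorem mem_all (hconj : ∀ g : G, ∀ d ∈ D, g * d * g⁻¹ ∈ D) (e : Fi22 ≃* G)
    (ha : e (img .a) ∈ D) : ∀ x : Fi22.Gen, e (img x) ∈ D := by
  have hb := mem_step hconj e (show coxLabel Fi22.edges .a .b = 3 by decide) ha
  have hc := mem_step hconj e (show coxLabel Fi22.edges .b .c = 3 by decide) hb
  have hd := mem_step hconj e (show coxLabel Fi22.edges .c .d = 3 by decide) hc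
  have he := mem_step hconj e (show coxLabel Fi22.edges .d .e = 3 by decide) hd
  have hf := mem_step hconj e (show coxLabel Fi22.edges .e .f = 3 by decide) he
  have hg := mem_step hconj e (show coxLabel Fi22.edges .f .g = 3 by decide) hf
  have hh := mem_step hconj e (show coxLabel Fi22.edges .d .h = 3 by decide) hd
  have hi := mem_step hconj e (show coxLabel Fi22.edges .h .i = 3 by decide) hh
  intro x
  cases x <;> assumption

/-- The subgroup of the presented group. -/
noncomputable def K : Subgroup Fi22 :=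
  (Subgroup.closure ({Fi22.b, Fi22.c, Fi22.d, Fi22.e, Fi22.f, Fi22.g, Fi22.h, Fi22.i} :
    Set (FreeGroup Fi22.Gen))).map (PresentedGroup.mk rels)

/-- A group isomorphic to Fi22 with the class through the generators has the wanted subgroup. -/
theorem exists_omega (hconj : ∀ g : G, ∀ d ∈ D, g * d * g⁻¹ ∈ D) (e : Fi22 ≃* G)
    (ha : e (img .a) ∈ D) :
    ∃ L : Subgroup G, IsDSubgroup D L ∧
      Nonempty (↥L ≃* POmega (ZMod 3) (quadFormOdd 3 (ZMod 3))) ∧
      ∀ P : Sylow 3 ↥L, ∃ P' : Sylow 3 G, (P : Subgroup ↥L).map L.subtype = (P' : Subgroup G) := by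
  haveI : Fact (Nat.Prime 3) := ⟨Nat.prime_three⟩
  refine ⟨K.map e.toMonoidHom, ?_, ?_, fun P => ?_⟩
  · refine le_antisymm ((Subgroup.closure_le _).2 fun x hx => hx.2) ?_
    rw [K, MonoidHom.map_closure, MonoidHom.map_closure, Subgroup.closure_le]
    intro y hy
    refine Subgroup.subset_closure ⟨?_, Subgroup.subset_closure hy⟩
    obtain ⟨w, ⟨r, hr, rfl⟩, rfl⟩ := hy
    simp only [Set.mem_insert_iff, Set.mem_singleton_iff] at hr
    rcases hr with rfl | rfl | rfl | rfl | rfl | rfl | rfl | rfl <;> exact mem_all hconj e ha _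
  · obtain ⟨e'⟩ := S1686.result
    exact ⟨((K.equivMapOfInjective e.toMonoidHom e.injective).symm).trans e'⟩
  · generalize hLK : K.map e.toMonoidHom = L at P ⊢
    have hidx : L.index = 14080 := by
      rw [← hLK]; exact (Subgroup.index_map_equiv K e).trans S1685.result
    have hL := L.index_mul_card
    rw [hidx] at hL
    have hP : Nat.card ↥((P : Subgroup ↥L).map L.subtype) = 3 ^ (Nat.card G).factorization 3 := by
      rw [Subgroup.card_map_of_injective L.subtype_injective, P.card_eq_multiplicity, ← hL,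
        Nat.factorization_mul (by norm_num) Nat.card_pos.ne', Finsupp.add_apply,
        Nat.factorization_eq_zero_of_not_dvd (show ¬ (3 : ℕ) ∣ 14080 by norm_num), zero_add]
    exact ⟨Sylow.ofCard _ hP, (Sylow.coe_ofCard _ hP).symm⟩

end Cfsg.Agent.ThreeTransM22Omega93
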