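import Cfsg.Agent.Lib.ThreeTransM22TwoCent48

/-!
# The blocks of four members and the structure of the core
-/

set_option autoImplicit false
set_option linter.unusedSectionVars false
set_option linter.style.haveILetI false

namespace Cfsg.Agent.ThreeTransM22TwoBlock48

open Subgroup
open Cfsg.Agent.ThreeTransRel Cfsg.Agent.ThreeTransDescent
open Cfsg.Agent.UnitaryF4Geo Cfsg.Agent.UnitaryF4Line
open Cfsg.Agent.ThreeTransM22Local72 Cfsg.Agent.ThreeTransM22Lift72
open Cfsg.Agent.ThreeTransM22Triples17 Cfsg.Agent.ThreeTransM22PointStab48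
open Cfsg.Agent.ThreeTransM22TwoCent48
open Cfsg.Agent.OrthUnitaryTransvection (su_ext act_mul act_one)
open scoped Matrix

variable {G : Type*} [Group G] [Finite G] {D : Set G}
variable {F : Type} [Field F] [Fintype F] [hF : FourField F]
variable {d : G} {φ : ↥(loc D d) →* Cfsg.PSU 6 F 2}

local notation "π" => QuotientGroup.mk' (Subgroup.center (Cfsg.SU 6 F 2))
local notation "act" => OrthUnitaryTransvection.act

/-- An isotropic nonzero vector of the four space. -/
def Iso4 (v : Fin 4 → F) : Prop := h v v = 0 ∧ v ≠ 0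

theorem Iso4.vec {v : Fin 4 → F} (hv : Iso4 v) (t : F) :
    h (t • u0 + emb v) (t • u0 + emb v) = 0 ∧ (t • u0 + emb v : Fin 6 → F) ≠ 0 ∧
      h (t • u0 + emb v) u0 = 0 :=
  ⟨by rw [h_perp]; exact hv.1, perp_ne hv.2 t,
    by rw [h_add_left, h_smul_left, iso_u0, mul_zero, h_emb_point, add_zero]⟩

theorem zero_vec (v : Fin 4 → F) : ((0 : F) • u0 + emb v : Fin 6 → F) = emb v := by
  rw [zero_smul, zero_add]

theorem one_vec (v : Fin 4 → F) : ((1 : F) • u0 + emb v : Fin 6 → F) = u0 + emb v := by
  rw [one_smul]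

theorem w_mul {w : F} (hw : w ^ 2 = w + 1) : w * (w + 1) = 1 := by
  linear_combination hw + w * two_eq_zero (F := F)

theorem shift_cases {w : F} (hw : w ^ 2 = w + 1) (t : F) :
    t = 0 ∨ t = 1 ∨ t = w ∨ t = w + 1 := by
  by_cases h0 : t = 0
  · exact Or.inl h0
  by_cases h1 : t = 1
  · exact Or.inr (Or.inl h1)
  have e : (t + w) * (t + (w + 1)) = 0 := by
    linear_combination rel h0 h1 + w_mul hw + (t + t * w + 1) * two_eq_zero (F := F)
  rcases mul_eq_zero.mp e with h | h
  · exact Or.inr (Or.inr (Or.inl (eq_of_add_eq_zero h)))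
  · exact Or.inr (Or.inr (Or.inr (eq_of_add_eq_zero h)))

variable (X : Ctx D d φ)
include X

local notation "L" => Chart.L X.chart

/-- The member at the point `t u₀ + v`. -/
noncomputable abbrev pt (v : Fin 4 → F) (t : F) : G := L (t • u0 + emb v)

/-- The product of the pair. -/
noncomputable abbrev pair (v : Fin 4 → F) : G := pt X v 0 * pt X v 1

theorem pt_mem {v : Fin 4 → F} (hv : Iso4 v) (t : F) : pt X v t ∈ near D d :=
  L_mem X (hv.vec t).1 (hv.vec t).2.1

theorem pt_comm_second {v : Fin 4 → F} (hv : Iso4 v) (t : F) : Commute (pt X v t) (second X) :=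
  (L_comm X (hv.vec t).1 (hv.vec t).2.1 iso_u0 u0_ne).mpr (hv.vec t).2.2

theorem pt_comm {v : Fin 4 → F} (hv : Iso4 v) (s t : F) : Commute (pt X v s) (pt X v t) :=
  (L_comm X (hv.vec s).1 (hv.vec s).2.1 (hv.vec t).1 (hv.vec t).2.1).mpr (by
    rw [h_perp]; exact hv.1)

theorem pt_joint {v : Fin 4 → F} (hv : Iso4 v) (t : F) : pt X v t ∈ joint X :=
  (mem_joint X).mpr ⟨(pt_mem X hv t).2.2.symm, pt_comm_second X hv t⟩

theorem pt_inj {v : Fin 4 → F} (hv : Iso4 v) {s t : F} (e : pt X v s = pt X v t) : s = t := by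
  obtain ⟨c, -, hc⟩ := L_inj X (hv.vec s).1 (hv.vec s).2.1 (hv.vec t).1 (hv.vec t).2.1 e
  have h1 := congrArg tl hc
  rw [tl_add, tl_smul, tl_u0, smul_zero, zero_add, tl_emb, tl_smul, tl_add, tl_smul, tl_u0,
    smul_zero, zero_add, tl_emb] at h1
  have hc1 : c = 1 := by
    obtain ⟨i, hi⟩ := Function.ne_iff.mp hv.2
    have := congrFun h1 i
    simp only [Pi.smul_apply, smul_eq_mul] at this
    exact mul_right_cancel₀ hi (by rw [one_mul]; exact this.symm)
  have := congrFun hc 0
  rwa [hc1, one_smul, smul_point_zero, smul_point_zero] at this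

theorem pt_ne_second {v : Fin 4 → F} (hv : Iso4 v) (t : F) : pt X v t ≠ second X := fun e => by
  obtain ⟨c, -, hcv⟩ := L_inj X (hv.vec t).1 (hv.vec t).2.1 iso_u0 u0_ne e
  have h1 := congrArg tl hcv
  rw [tl_add, tl_smul, tl_u0, smul_zero, zero_add, tl_emb, tl_smul, tl_u0, smul_zero] at h1
  exact hv.2 h1

/-- A member commuting with both is at such a point. -/
theorem exists_pt {a : G} (ha : a ∈ near D d) (hc2 : Commute a (second X)) :
    a = second X ∨ ∃ v t, Iso4 v ∧ a = pt X v t := by
  obtain ⟨x, hx, hx0, rfl⟩ := L_surj X ha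
  have hp := (L_comm X hx hx0 iso_u0 u0_ne).mp hc2
  have e := perp_eq hp
  by_cases h0 : tl x = 0
  · left
    rw [h0, show emb (0 : Fin 4 → F) = 0 by simpa using (emb_smul (0 : F) 0), add_zero] at e
    have hx00 : x 0 ≠ 0 := fun h1 => hx0 (by rw [e, h1, zero_smul])
    rw [e, L_smul X iso_u0 u0_ne hx00]
  · refine Or.inr ⟨tl x, x 0, ⟨?_, h0⟩, ?_⟩
    · rw [e, h_perp] at hx; exact hx
    · show L x = L _
      rw [← e]

/-- The six members: the four of a block multiply to `d` times the second member. -/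
theorem four_prod {v : Fin 4 → F} (hv : Iso4 v) {w : F} (hw : w ^ 2 = w + 1) :
    pt X v 0 * pt X v 1 * (pt X v w * pt X v (w + 1)) = d * second X := by
  obtain ⟨hw0, hw1⟩ := omega_ne hw
  obtain ⟨l, hl⟩ := (X.lines d X.mem).1 _ (second_mem X) _ (pt_mem X hv 0)
    (pt_comm_second X hv 0).symm (pt_ne_second X hv 0).symm
  have hin : ∀ t, pt X v t ∈ l := fun t => hl.maximal _ (pt_mem X hv t) fun y hy hy1 hy2 => by
    obtain ⟨x, hx, hx0, rfl⟩ := L_surj X hy
    have e1 := (L_comm X hx hx0 iso_u0 u0_ne).mp hy1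
    have e2 := (L_comm X hx hx0 (hv.vec 0).1 (hv.vec 0).2.1).mp hy2
    rw [zero_vec] at e2
    refine (L_comm X hx hx0 (hv.vec t).1 (hv.vec t).2.1).mpr ?_
    rw [h_add_right, h_smul_right, e1, e2, mul_zero, add_zero]
  set m : List G := [second X, pt X v 0, pt X v 1, pt X v w, pt X v (w + 1)]
  have hnd : m.Nodup := by
    have hw10 : w + 1 ≠ 0 := fun e => hw1 (eq_of_add_eq_zero e)
    have hw11 : w + 1 ≠ 1 := fun e => hw0 (add_eq_right.mp e)
    have hwx : w + 1 ≠ w := fun e => one_ne_zero (add_eq_left.mp e)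
    simp only [m, List.nodup_cons, List.mem_cons, List.not_mem_nil, or_false, not_or,
      List.nodup_nil, and_true, not_false_iff]
    exact ⟨⟨(pt_ne_second X hv 0).symm, (pt_ne_second X hv 1).symm, (pt_ne_second X hv w).symm,
      (pt_ne_second X hv _).symm⟩,
      ⟨fun e => zero_ne_one (pt_inj X hv e), fun e => hw0.symm (pt_inj X hv e),
        fun e => hw10.symm (pt_inj X hv e)⟩,
      ⟨fun e => hw1.symm (pt_inj X hv e), fun e => hw11.symm (pt_inj X hv e)⟩,
      fun e => hwx.symm (pt_inj X hv e)⟩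
  have hperm : m.Perm l := by
    refine (List.subperm_of_subset hnd fun y hy => ?_).perm_of_length_le (by rw [hl.len]; rfl)
    simp only [m, List.mem_cons, List.not_mem_nil, or_false] at hy
    rcases hy with rfl | rfl | rfl | rfl | rfl
    · exact hl.left_mem
    all_goals exact hin _
  have h6 := ThreeTransLine.six X.ts X.prim X.centre X.lines X.mem hl (second_mem X) (pt_mem X hv 0)
    (pt_comm_second X hv 0).symm (pt_ne_second X hv 0).symm
  rw [← hperm.prod_eq' (List.pairwise_of_forall_mem_list fun x hx y hy =>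
    hl.comm x (hperm.mem_iff.mp hx) y (hperm.mem_iff.mp hy))] at h6
  simp only [m, List.prod_cons, List.prod_nil, mul_one] at h6
  have hinv := inv_eq_of_mul_eq_one_right h6
  rw [X.ts.inv_self X.mem] at hinv
  have h7 : pt X v 0 * pt X v 1 * (pt X v w * pt X v (w + 1)) = second X * d := by
    calc pt X v 0 * pt X v 1 * (pt X v w * pt X v (w + 1))
        = second X * (second X * (pt X v 0 * (pt X v 1 * (pt X v w * pt X v (w + 1))))) := by
          rw [← mul_assoc (second X), X.ts.sq _ (second_mem X).1, one_mul, mul_assoc]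
      _ = second X * d := congrArg (second X * ·) hinv.symm
  rw [h7, (second_mem X).2.2.eq]

theorem pair_sq {v : Fin 4 → F} (hv : Iso4 v) : pair X v * pair X v = 1 := by
  rw [pair, (pt_comm X hv 1 0).mul_mul_mul_comm, X.ts.sq _ (pt_mem X hv 0).1,
    X.ts.sq _ (pt_mem X hv 1).1, mul_one]

theorem j_sq : (d * second X) * (d * second X) = 1 := by
  rw [(second_mem X).2.2.symm.mul_mul_mul_comm, X.ts.sq d X.mem, X.ts.sq _ (second_mem X).1,
    mul_one]

theorem j_ne : d * second X ≠ 1 := fun e => (second_mem X).2.1 (by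
  rw [eq_inv_of_mul_eq_one_right e, X.ts.inv_self X.mem])

theorem j_ne_d : d * second X ≠ d := fun e => by
  have h1 : second X = 1 := mul_eq_left.mp e
  exact ThreeTransLine.no_central X.ts X.prim X.mem (second_mem X) fun y _ => by
    show Commute y (second X)
    rw [h1]; exact Commute.one_right y

theorem mem_zpowers_j {x : G} (hx : x ∈ zpowers (d * second X)) : x = 1 ∨ x = d * second X :=
  ThreeTransM22Cent72.mem_zpowers_two (orderOf_eq_prime (by rw [pow_two]; exact j_sq X) (j_ne X)) hx

variable (hc : centralizer ({d} : Set G) = loc D d)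
include hc

theorem j_core : d * second X ∈ core X hc := mul_mem (d_mem X hc) (second_mem_core X hc)

theorem j_central {g : G} (hg : g ∈ joint X) : Commute g (d * second X) :=
  ((mem_joint X).mp hg).1.mul_right ((mem_joint X).mp hg).2

/-- The pair in the core. -/
theorem pair_data' {v : Fin 4 → F} (hv : Iso4 v) :
    ∃ h : pair X v ∈ core X hc,
      rowHom X hc ⟨pair X v, h⟩ = Multiplicative.ofAdd fun j => v j ^ 2 := by
  have h1 : h (emb v) (emb v) = 0 := zero_vec v ▸ (hv.vec 0).1
  have h2 : h (u0 + emb v) (u0 + emb v) = 0 := one_vec v ▸ (hv.vec 1).1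
  obtain ⟨hA, hq, hr⟩ := pair_data hv.1 h1 h2
  have hl : pair X v ∈ loc D d :=
    mul_mem (near_le_loc (pt_mem X hv 0)) (near_le_loc (pt_mem X hv 1))
  have e : φ ⟨pair X v, hl⟩ = π (T (emb v) h1 * T (u0 + emb v) h2) := by
    rw [map_mul π]
    show φ (⟨pt X v 0, near_le_loc (pt_mem X hv 0)⟩ * ⟨pt X v 1, near_le_loc (pt_mem X hv 1)⟩) = _
    rw [map_mul, L_img X (hv.vec 0).1 (hv.vec 0).2.1, L_img X (hv.vec 1).1 (hv.vec 1).2.1,
      T_congr (zero_vec v) (hv.vec 0).1 h1, T_congr (one_vec v) (hv.vec 1).1 h2]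
  have hm : pair X v ∈ core X hc := (mem_core X hc).mpr ⟨hl, _, hA, hq, e⟩
  exact ⟨hm, by rw [rowHom_eq X hc hm hA hq e, hr]⟩

theorem pair_mem {v : Fin 4 → F} (hv : Iso4 v) : pair X v ∈ core X hc := (pair_data' X hc hv).1

/-- The translation of a core element on a block. -/
noncomputable abbrev shift {g : G} (hg : g ∈ core X hc) (v : Fin 4 → F) : F :=
  ∑ j, Multiplicative.toAdd (rowHom X hc ⟨g, hg⟩) j * v j

theorem conj_pt {g : G} (hg : g ∈ core X hc) {v : Fin 4 → F} (hv : Iso4 v) (t : F) :
    g * pt X v t * g⁻¹ = pt X v (t + shift X hc hg v) := by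
  obtain ⟨hl, A, hA, hq, e⟩ := (mem_core X hc).mp hg
  show g * L _ * g⁻¹ = L _
  refine (L_conj X e (hv.vec t).1 (hv.vec t).2.1).trans (congrArg _ ?_)
  rw [act_add', act_smul', point_fixed hA hq, act_emb_one hA hq, shift,
    rowHom_eq X hc hg hA hq e, toAdd_ofAdd, add_smul, add_assoc]

theorem conj_pair {g : G} (hg : g ∈ core X hc) {v : Fin 4 → F} (hv : Iso4 v) :
    g * pair X v * g⁻¹ = pt X v (shift X hc hg v) * pt X v (shift X hc hg v + 1) := by
  rw [show g * pair X v * g⁻¹ = (g * pt X v 0 * g⁻¹) * (g * pt X v 1 * g⁻¹) by group,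
    conj_pt X hc hg hv, conj_pt X hc hg hv, zero_add, add_comm]

/-- Commutators with pairs. -/
theorem comm_pair {g : G} (hg : g ∈ core X hc) {v : Fin 4 → F} (hv : Iso4 v) :
    (g * pair X v * g⁻¹ = pair X v ∧ (shift X hc hg v = 0 ∨ shift X hc hg v = 1)) ∨
      g * pair X v * g⁻¹ = (d * second X) * pair X v := by
  obtain ⟨w, hw⟩ := exists_omega (F := F)
  rcases shift_cases hw (shift X hc hg v) with e | e | e | e <;> rw [conj_pair X hc hg hv, e]
  · left; exact ⟨by rw [zero_add], Or.inl rfl⟩
  · left; refine ⟨?_, Or.inr rfl⟩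
    rw [add_self]; exact (pt_comm X hv 1 0).eq
  all_goals right
  all_goals rw [← four_prod X hv hw]
  · have hsw : Commute (pair X v) (pt X v w * pt X v (w + 1)) :=
      ((pt_comm X hv 0 w).mul_right (pt_comm X hv 0 _)).mul_left
        ((pt_comm X hv 1 w).mul_right (pt_comm X hv 1 _))
    rw [hsw.eq, mul_assoc, pair_sq X hv, mul_one]
  · have hsw : Commute (pair X v) (pt X v w * pt X v (w + 1)) :=
      ((pt_comm X hv 0 w).mul_right (pt_comm X hv 0 _)).mul_left
        ((pt_comm X hv 1 w).mul_right (pt_comm X hv 1 _))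
    rw [hsw.eq, mul_assoc, pair_sq X hv, mul_one, add_assoc, add_self, add_zero,
      (pt_comm X hv (w + 1) w).eq]

/-- Generation. -/
theorem core_gen : core X hc ≤
    closure ({d, second X} ∪ {x | ∃ v : Fin 4 → F, Iso4 v ∧ x = pair X v}) := by
  classical
  set M := closure ({d, second X} ∪ {x | ∃ v : Fin 4 → F, Iso4 v ∧ x = pair X v})
  have hV : closure ({d, second X} : Set G) ≤ M := closure_mono Set.subset_union_left
  let S : AddSubgroup (Fin 4 → F) :=
    { carrier := {r | ∃ g, ∃ hg : g ∈ core X hc,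
        g ∈ M ∧ rowHom X hc ⟨g, hg⟩ = Multiplicative.ofAdd r}
      zero_mem' := ⟨1, one_mem _, one_mem _, by rw [ofAdd_zero]; exact map_one _⟩
      add_mem' := by
        rintro a b ⟨g, hg, hgM, e⟩ ⟨g', hg', hgM', e'⟩
        exact ⟨g * g', mul_mem hg hg', mul_mem hgM hgM', by
          rw [ofAdd_add, ← e, ← e', ← map_mul]; rfl⟩
      neg_mem' := by
        rintro a ⟨g, hg, hgM, e⟩
        exact ⟨g⁻¹, inv_mem hg, inv_mem hgM, by rw [ofAdd_neg, ← e, ← map_inv]; rfl⟩ }
  have hpair : ∀ v : Fin 4 → F, Iso4 v → (fun j => v j ^ 2) ∈ S := fun v hv =>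
    ⟨_, pair_mem X hc hv, subset_closure (Or.inr ⟨v, hv, rfl⟩), (pair_data' X hc hv).2⟩
  have htwo : ∀ i j : Fin 4, i ≠ j → ∀ c m : F, c ≠ 0 → m ≠ 0 →
      (Pi.single i c + Pi.single j m : Fin 4 → F) ∈ S := by
    intro i j hij c m hc0 hm0
    set v : Fin 4 → F := Pi.single i (c ^ 2) + Pi.single j (m ^ 2)
    have hv : Iso4 v := by
      refine ⟨?_, fun e => ?_⟩
      · have h1 : c ^ 2 * (c ^ 2) ^ 2 = 1 := by rw [← pow_succ']; exact cube (pow_ne_zero 2 hc0)
        have h2 : m ^ 2 * (m ^ 2) ^ 2 = 1 := by rw [← pow_succ']; exact cube (pow_ne_zero 2 hm0)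
        simp only [v, h_add_left, h_add_right]
        simp only [h, Pi.single_apply, ite_mul, zero_mul, Finset.sum_ite_eq', Finset.mem_univ,
          if_true, if_neg hij, if_neg hij.symm]
        simp only [ne_eq, OfNat.ofNat_ne_zero, not_false_eq_true, zero_pow, mul_zero, add_zero,
          zero_add, h1, h2, add_self]
      · have := congrFun e i
        simp [v, hij, hc0] at this
    have h1 := hpair v hv
    have e : (fun k => v k ^ 2) = (Pi.single i c + Pi.single j m : Fin 4 → F) := by
      funext k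
      by_cases hki : k = i
      · subst hki; simp [v, hij, sq_sq]
      · by_cases hkj : k = j
        · subst hkj; simp [v, hij.symm, sq_sq]
        · simp [v, hki, hkj]
    rwa [e] at h1
  have hone : ∀ (j : Fin 4) (x : F), (Pi.single j x : Fin 4 → F) ∈ S := by
    intro j x
    by_cases hx : x = 0
    · rw [hx, Pi.single_zero]; exact S.zero_mem
    obtain ⟨w, hw⟩ := exists_omega (F := F)
    obtain ⟨i, hij⟩ := exists_ne j
    have h1 := htwo i j hij 1 (x * w) one_ne_zero (mul_ne_zero hx (omega_ne hw).1)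
    have h2 := htwo i j hij 1 (x * (w + 1)) one_ne_zero
      (mul_ne_zero hx fun e => (omega_ne hw).2 (eq_of_add_eq_zero e))
    have h3 := S.add_mem h1 h2
    rwa [add_add_add_comm, ← Pi.single_add, ← Pi.single_add, add_self, Pi.single_zero, zero_add,
      ← mul_add, ← add_assoc, add_self, zero_add, mul_one] at h3
  intro g hg
  have hr : Multiplicative.toAdd (rowHom X hc ⟨g, hg⟩) ∈ S := by
    rw [← Finset.univ_sum_single (Multiplicative.toAdd (rowHom X hc ⟨g, hg⟩))]
    exact AddSubgroup.sum_mem S fun j _ => hone j _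
  obtain ⟨m, hm, hmM, e⟩ := hr
  rw [ofAdd_toAdd] at e
  have hk : rowHom X hc (⟨g, hg⟩ * ⟨m, hm⟩⁻¹) = 1 := by rw [map_mul, map_inv, e, mul_inv_cancel]
  have h4 := rowHom_ker X hc hk
  have hd' : d ∈ M := hV (subset_closure (by simp))
  have hs' : second X ∈ M := hV (subset_closure (by simp))
  have h5 : g * m⁻¹ ∈ M := by
    rcases h4 with h | h | h | h <;> simp at h <;> rw [h]
    · exact one_mem _
    · exact hd'
    · exact hs'
    · exact mul_mem hd' hs'
  simpa using mul_mem h5 hmM

/-- Commutators in the core. -/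
theorem comm_mem {g x : G} (hg : g ∈ core X hc) (hx : x ∈ core X hc) :
    g * x * g⁻¹ * x⁻¹ ∈ zpowers (d * second X) := by
  have hj : d * second X ∈ zpowers (d * second X) := mem_zpowers _
  have key := core_gen X hc hx
  revert hx
  induction key using Subgroup.closure_induction with
  | mem y hy =>
    intro hx
    rcases hy with (rfl | rfl) | ⟨v, hv, rfl⟩
    · have := ((mem_joint X).mp (core_le X hc hg)).1
      rw [conj_one_iff_commute.mpr this, mul_inv_cancel]; exact one_mem _
    · have := ((mem_joint X).mp (core_le X hc hg)).2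
      rw [conj_one_iff_commute.mpr this, mul_inv_cancel]; exact one_mem _
    · rcases comm_pair X hc hg hv with ⟨h, -⟩ | h <;> rw [h]
      · rw [mul_inv_cancel]; exact one_mem _
      · rw [mul_inv_cancel_right]; exact hj
  | one => intro _; simp
  | mul y z hy hz ih1 ih2 =>
    intro _
    have hcl : closure ({d, second X} ∪ {x | ∃ v : Fin 4 → F, Iso4 v ∧ x = pair X v}) ≤ core X hc := by
      rw [closure_le]
      rintro a ((rfl | rfl) | ⟨v, hv, rfl⟩)
      · exact d_mem X hc
      · exact second_mem_core X hc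
      · exact pair_mem X hc hv
    have h1 := ih1 (hcl hy)
    have h2 := ih2 (hcl hz)
    have hyj : Commute y (g * z * g⁻¹ * z⁻¹) := by
      rcases mem_zpowers_j X h2 with e | e <;> rw [e]
      · exact Commute.one_right _
      · exact j_central X hc (core_le X hc (hcl hy))
    have e : g * (y * z) * g⁻¹ * (y * z)⁻¹ =
        (g * y * g⁻¹ * y⁻¹) * (y * (g * z * g⁻¹ * z⁻¹) * y⁻¹) := by group
    rw [e, conj_one_iff_commute.mpr hyj]
    exact mul_mem h1 h2
  | inv y hy ih =>
    intro hx
    have hy' : y ∈ core X hc := by simpa using inv_mem hx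
    have h1 := ih hy'
    have hyj : Commute y (g * y * g⁻¹ * y⁻¹)⁻¹ := by
      rcases mem_zpowers_j X h1 with e | e <;> rw [e]
      · rw [inv_one]; exact Commute.one_right _
      · exact (j_central X hc (core_le X hc hy')).inv_right
    have e : g * y⁻¹ * g⁻¹ * y⁻¹⁻¹ = y⁻¹ * (g * y * g⁻¹ * y⁻¹)⁻¹ * y := by group
    rw [e, mul_assoc, ← hyj.eq, ← mul_assoc, inv_mul_cancel, one_mul]
    exact inv_mem h1

/-- Squares in the core. -/
theorem sq_mem {x : G} (hx : x ∈ core X hc) : x * x ∈ zpowers (d * second X) := by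
  have hgen := core_gen X hc hx
  have hcl : closure ({d, second X} ∪ {x | ∃ v : Fin 4 → F, Iso4 v ∧ x = pair X v}) ≤ core X hc := by
    rw [closure_le]
    rintro a ((rfl | rfl) | ⟨v, hv, rfl⟩)
    · exact d_mem X hc
    · exact second_mem_core X hc
    · exact pair_mem X hc hv
  clear hx
  induction hgen using Subgroup.closure_induction with
  | mem y hy =>
    rcases hy with (rfl | rfl) | ⟨v, hv, rfl⟩
    · rw [X.ts.sq y X.mem]; exact one_mem _
    · rw [X.ts.sq _ (second_mem X).1]; exact one_mem _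
    · rw [pair_sq X hv]; exact one_mem _
  | one => simp
  | mul y z hy hz h1 h2 =>
    have hcm := comm_mem X hc (hcl hz) (hcl hy)
    have hyj : Commute y (z * y * z⁻¹ * y⁻¹) := by
      rcases mem_zpowers_j X hcm with e | e <;> rw [e]
      · exact Commute.one_right _
      · exact j_central X hc (core_le X hc (hcl hy))
    have e : y * z * (y * z) = (y * (z * y * z⁻¹ * y⁻¹) * y⁻¹) * (y * y) * (z * z) := by group
    rw [e, conj_one_iff_commute.mpr hyj]
    exact mul_mem (mul_mem hcm h1) h2
  | inv y hy h1 => rw [← mul_inv_rev]; exact inv_mem h1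

/-- The centre of the core. -/
theorem central_core {g : G} (hg : g ∈ core X hc) (hall : ∀ x ∈ core X hc, Commute g x) :
    g ∈ closure ({d, second X} : Set G) := by
  have hz : ∀ v : Fin 4 → F, Iso4 v → shift X hc hg v = 0 := by
    intro v hv
    by_contra h0
    have hkey : ∀ v' : Fin 4 → F, Iso4 v' → shift X hc hg v' = 0 ∨ shift X hc hg v' = 1 := by
      intro v' hv'
      have h1 : g * pair X v' * g⁻¹ = pair X v' :=
        conj_one_iff_commute.mpr (hall _ (pair_mem X hc hv'))
      rcases comm_pair X hc hg hv' with ⟨-, h⟩ | h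
      · exact h
      · exact absurd (mul_eq_right.mp (h.symm.trans h1)) (j_ne X)
    obtain ⟨w, hw⟩ := exists_omega (F := F)
    have hv' : Iso4 (w • v) := ⟨by rw [h_smul_left, h_smul_right, hv.1, mul_zero, mul_zero],
      smul_ne_zero (omega_ne hw).1 hv.2⟩
    have hs : shift X hc hg (w • v) = w * shift X hc hg v := by
      simp only [shift, Pi.smul_apply, smul_eq_mul, Finset.mul_sum]
      exact Finset.sum_congr rfl fun j _ => by ring
    have h1 := (hkey v hv).resolve_left h0
    rcases hkey _ hv' with h | h <;> rw [hs, h1, mul_one] at h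
    · exact (omega_ne hw).1 h
    · exact (omega_ne hw).2 h
  set r := Multiplicative.toAdd (rowHom X hc ⟨g, hg⟩) with hr
  have hpair : ∀ i j : Fin 4, i ≠ j → ∀ m : F, m ≠ 0 → r i + r j * m = 0 := by
    intro i j hij m hm
    have hv : Iso4 (Pi.single i 1 + Pi.single j m : Fin 4 → F) := by
      refine ⟨?_, fun e => ?_⟩
      · have h2 : m * m ^ 2 = 1 := by rw [← pow_succ']; exact cube hm
        simp only [h_add_left, h_add_right]
        simp only [h, Pi.single_apply, ite_mul, zero_mul, one_mul, Finset.sum_ite_eq',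
          Finset.mem_univ, if_true, if_neg hij, if_neg hij.symm]
        simp only [ne_eq, OfNat.ofNat_ne_zero, not_false_eq_true, zero_pow, mul_zero, add_zero,
          zero_add, one_pow, h2, add_self]
      · have := congrFun e i
        simp [hij] at this
    have := hz _ hv
    simpa [shift, Pi.single_apply, mul_add, Finset.sum_add_distrib, ← hr] using this
  have hr0 : r = 0 := by
    funext j
    obtain ⟨i, hij⟩ := exists_ne j
    obtain ⟨w, hw⟩ := exists_omega (F := F)
    have h1 := hpair i j hij 1 one_ne_zero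
    have h2 := hpair i j hij w (omega_ne hw).1
    have h3 : r j * (w + 1) = 0 := by linear_combination h1 + h2 - r i * two_eq_zero (F := F)
    exact (mul_eq_zero.mp h3).resolve_right fun e => (omega_ne hw).2 (eq_of_add_eq_zero e)
  have hk : rowHom X hc ⟨g, hg⟩ = 1 := by
    rw [← ofAdd_toAdd (rowHom X hc ⟨g, hg⟩), ← hr, hr0, ofAdd_zero]
  rcases rowHom_ker X hc hk with h | h | h | h <;> simp at h <;> rw [h]
  · exact one_mem _
  · exact subset_closure (by simp)
  · exact subset_closure (by simp)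
  · exact mul_mem (subset_closure (by simp)) (subset_closure (by simp))

end Cfsg.Agent.ThreeTransM22TwoBlock48
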