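import Cfsg.Agent.Lib.ThreeTransM22Aut59
import Cfsg.Agent.Lib.ThreeTransM22TwoBlock48

/-!
# Outer involutions stabilizing a maximal set of commuting members

An outer automorphism of order two fixing a member `d` and a maximal set through `d` squares the
coordinates of a suitable frame; so two such are conjugate on their sets.
-/

set_option autoImplicit false
set_option linter.unusedSectionVars false
set_option linter.style.haveILetI false

namespace Cfsg.Agent.ThreeTransM22PlaneFrob48

open Subgroup Cfsg.Agent.ThreeTransRel Cfsg.Agent.ThreeTransDescent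
open Cfsg.Agent.UnitaryF4Geo Cfsg.Agent.UnitaryF4Line
open Cfsg.Agent.ThreeTransM22Local72 Cfsg.Agent.ThreeTransM22Frame72 Cfsg.Agent.ThreeTransM22Lift72
open Cfsg.Agent.ThreeTransM22Std72 (comb_ne comb_mem)
open Cfsg.Agent.ThreeTransM22Aut59

variable {G : Type*} [Group G] [Finite G] {D : Set G}
variable {F : Type} [Field F] [Fintype F] [hF : FourField F]
variable {d : G} {φ : ↥(loc D d) →* Cfsg.PSU 6 F 2}
variable (X : Ctx D d φ)

local notation "π" => QuotientGroup.mk' (Subgroup.center (Cfsg.SU 6 F 2))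
local notation "act" => OrthUnitaryTransvection.act
local notation "L" => ThreeTransM22Lift72.Chart.L X.chart

theorem comb_add' (e : Fin 3 → Fin 6 → F) (x y : Fin 3 → F) :
    comb e (x + y) = comb e x + comb e y := by
  simp [comb, add_smul, Finset.sum_add_distrib]

/-- The squares of the coordinates. -/
def sq (c : Fin 3 → F) : Fin 3 → F := fun i => c i ^ 2

theorem sq_ne {c : Fin 3 → F} (hc : c ≠ 0) : sq c ≠ 0 := fun h0 => hc (funext fun i =>
  (pow_eq_zero_iff (n := 2) (by norm_num)).mp (congrFun h0 i))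

include X

/-- Two equal products of three members give equal parameters. -/
theorem conic_param {e f : Fin 3 → Fin 6 → F} (hfr : Frame e f) {w : F} (hw : w ^ 2 = w + 1)
    {a b : F} (ha : a ≠ 0) (hb : b ≠ 0) (hgood : (conic X e b w).prod = (base X e).prod)
    {M : List G} (hM : CList D M) (hl : M.length = 3) (hMp : M.prod = (base X e).prod)
    (hin : L (comb e (q a 1)) ∈ M) : a = b := by
  obtain ⟨a₀, -, -, huniq⟩ := (conic_exists X hfr hw).1
  have h1 := (huniq M hM hl hMp).resolve_left fun h =>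
    conic_ne_base X hfr (w := w) ha ((h _).mp hin)
  have h2 := (huniq _ (clist_conic X hfr hw) rfl hgood).resolve_left fun h =>
    conic_ne_base X hfr (w := w) hb ((h _).mp (by simp [conic]))
  by_contra hne
  exact conic_disjoint X hfr hw hne ((h2 _).mpr ((h1 _).mp hin))

/-- An outer involution stabilizing a maximal set squares coordinates on it. -/
theorem exists_square (hD : Cfsg.IsThreeTranspositionGroup D) {τ : MulAut G} (hτ : IsAut X τ)
    (h2 : τ * τ = 1) (hout : τ ∉ (MulAut.conj : G →* MulAut G).range) {B : Set G}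
    (hB : ThreeTransM22Outer72.Blk D B) (hdB : d ∈ B) (hτB : ∀ x ∈ B, τ x ∈ B)
    {w : F} (hw : w ^ 2 = w + 1) :
    ∃ e f : Fin 3 → Fin 6 → F, Frame e f ∧ (conic X e 1 w).prod = (base X e).prod ∧
      (∀ c : Fin 3 → F, c ≠ 0 → L (comb e c) ∈ B) ∧
      (∀ x ∈ B, x ≠ d → ∃ c : Fin 3 → F, c ≠ 0 ∧ x = L (comb e c)) ∧
      ∀ c : Fin 3 → F, c ≠ 0 → τ (L (comb e c)) = L (comb e (sq c)) := by
  classical
  obtain ⟨e, f, hfr, hgood, hmem, hsur⟩ := ThreeTransM22Outer72.exists_plane X hB hdB hw
  obtain ⟨k, hk, hfix, hp⟩ := normalise X hfr hw hgood hτ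
  have hsq : ∀ c : Fin 3 → F, c ≠ 0 → k * τ (L (comb e c)) * k⁻¹ = L (comb e (sq c)) := by
    rcases std_cases X hfr hfix hp with h | ⟨he, -⟩
    · exfalso
      rcases fix_near X hD X.mem hfix.1.1 hfix.1.2 h with h' | h'
      · exact hout ⟨k⁻¹, by rw [map_inv]; exact (eq_inv_of_mul_eq_one_right h').symm⟩
      · exact hout ⟨k⁻¹ * d, by rw [map_mul, map_inv, ← h', inv_mul_cancel_left]⟩
    · exact he
  obtain ⟨A, hA⟩ := QuotientGroup.mk'_surjective (Subgroup.center (Cfsg.SU 6 F 2))
    (φ ⟨k⁻¹, inv_mem hk⟩)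
  have hτA : ∀ c : Fin 3 → F, c ≠ 0 → τ (L (comb e c)) = L (act A (comb e (sq c))) := fun c hc => by
    rw [← L_conj X hA.symm (hfr.h_ee _ _) (comb_ne X hfr (sq_ne hc)), ← hsq c hc]
    simp only
    group
  -- the semilinear map in coordinates
  set N : (Fin 3 → F) → (Fin 3 → F) := fun c i => h (act A (comb e (sq c))) (f i) with hN
  have hiso : ∀ c, h (act A (comb e (sq c))) (act A (comb e (sq c))) = 0 := fun c => by
    exact (OrthUnitaryTransvection.herm_act A _ _).trans (hfr.h_ee _ _)
  have hne : ∀ c : Fin 3 → F, c ≠ 0 → act A (comb e (sq c)) ≠ 0 := fun c hc =>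
    OrthUnitaryPSU.act_smul_right_inj A (comb_ne X hfr (sq_ne hc))
  have hNc : ∀ c : Fin 3 → F, c ≠ 0 → comb e (N c) = act A (comb e (sq c)) := by
    intro c hc
    obtain ⟨q', hq', eq'⟩ := hsur _ (hτB _ (hmem c hc)) fun h' =>
      (comb_mem X hfr hc).2.1 (τ.injective (h'.trans hτ.2.symm))
    rw [hτA c hc] at eq'
    obtain ⟨r, -, hr⟩ := L_inj X (hiso c) (hne c hc) (hfr.h_ee _ _) (comb_ne X hfr hq') eq'
    refine (hfr.mem_plane fun i => ?_).symm
    rw [hr, h_smul_left, ← comb_single e i, hfr.h_ee, mul_zero]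
  have hNadd : ∀ c c', N (c + c') = N c + N c' := fun c c' => funext fun i => by
    have : sq (c + c') = sq c + sq c' := funext fun j => sq_add _ _
    simp [hN, this, comb_add', OrthUnitaryTransvection.act_add, h_add_left]
  have hNsm : ∀ (a : F) c, N (a • c) = a ^ 2 • N c := fun a c => funext fun i => by
    have : sq (a • c) = a ^ 2 • sq c := funext fun j => by simp [sq, mul_pow]
    simp [hN, this, comb_smul, OrthUnitaryTransvection.act_smul, h_smul_left]
  have hN0 : N 0 = 0 := by have := hNsm 0 0; simpa using this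
  have hNne : ∀ c : Fin 3 → F, c ≠ 0 → N c ≠ 0 := fun c hc h0 =>
    hne c hc (by rw [← hNc c hc, h0, comb_zero])
  have hτN : ∀ c : Fin 3 → F, c ≠ 0 → τ (L (comb e c)) = L (comb e (N c)) := fun c hc => by
    rw [hτA c hc, hNc c hc]
  have heig : ∀ c : Fin 3 → F, c ≠ 0 → ∃ m : F, m ≠ 0 ∧ N (N c) = m • c := by
    intro c hc
    have h1 : τ (τ (L (comb e c))) = L (comb e c) := DFunLike.congr_fun h2 _
    rw [hτN c hc, hτN _ (hNne c hc)] at h1
    obtain ⟨r, hr0, hr⟩ := L_inj X (hfr.h_ee _ _) (comb_ne X hfr (hNne _ (hNne c hc))) (hfr.h_ee _ _)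
      (comb_ne X hfr hc) h1
    rw [← comb_smul] at hr
    exact ⟨r, hr0, hfr.comb_inj hr⟩
  -- the square is a scalar, so trivial
  obtain ⟨m, hm0, hm⟩ := heig (fun _ => 1) fun h0 => one_ne_zero (congrFun h0 0)
  have hall : ∀ c, N (N c) = m • c := by
    have hsingle : ∀ i : Fin 3, ∃ t : F, N (N (Pi.single i 1)) = t • Pi.single i 1 := fun i =>
      (heig (Pi.single i 1) (by simp)).imp fun t h => h.2
    choose t ht using hsingle
    have hlin : ∀ (a : F) c, N (N (a • c)) = a • N (N c) := fun a c => by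
      rw [hNsm, hNsm, sq_sq]
    have hdec : ∀ c : Fin 3 → F,
        c = c 0 • Pi.single 0 1 + c 1 • Pi.single 1 1 + c 2 • Pi.single 2 1 := fun c => by
      funext r; fin_cases r <;> simp
    have hexp : ∀ c : Fin 3 → F, N (N c) = fun i => t i * c i := fun c => by
      conv_lhs => rw [hdec c, hNadd, hNadd, hNadd, hNadd, hlin, hlin, hlin, ht, ht, ht]
      funext r; fin_cases r <;> simp [mul_comm]
    have htm : ∀ i, t i = m := fun i => by
      have := congrFun ((hexp fun _ => 1).symm.trans hm) i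
      simpa using this
    intro c
    rw [hexp c]
    funext i
    simp [htm]
  have hm1 : m = 1 := by
    set c0 : Fin 3 → F := fun _ => 1
    have hc0 : c0 ≠ 0 := fun h0 => one_ne_zero (congrFun h0 0)
    have h1 : N (N (N c0)) = m • N c0 := hall (N c0)
    rw [hall c0, hNsm] at h1
    obtain ⟨i, hi⟩ := Function.ne_iff.mp (hNne c0 hc0)
    have h3 := mul_right_cancel₀ hi (congrFun h1 i)
    exact (fixed_cases h3).resolve_left hm0
  subst hm1
  simp only [one_smul] at hall
  -- fixed vectors span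
  obtain ⟨hw0, hw1⟩ := omega_ne hw
  set S : Set (Fin 3 → F) := {v | N v = v} with hS
  have hspan : Submodule.span F S = ⊤ := by
    refine eq_top_iff.mpr fun c _ => ?_
    have hu : ∀ c, c + N c ∈ S := fun c => by
      show N _ = _
      rw [hNadd, hall, add_comm]
    have key : c = w ^ 2 • (c + N c) + (w • c + N (w • c)) := by
      rw [hNsm]
      funext i
      simp only [Pi.add_apply, Pi.smul_apply, smul_eq_mul]
      linear_combination (-(c i)) * hw - (w ^ 2 * N c i + w * c i) *
        two_eq_zero (F := F)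
    rw [key]
    exact add_mem (Submodule.smul_mem _ _ (Submodule.subset_span (hu c))) (Submodule.subset_span (hu _))
  obtain ⟨b, hbS, hbspan, hbli⟩ := exists_linearIndependent F S
  haveI : Fintype b := Fintype.ofFinite b
  have hcard : Fintype.card b = 3 := by
    have h3 := finrank_span_set_eq_card hbli
    rw [hbspan, hspan, finrank_top, Module.finrank_fintype_fun_eq_card, Fintype.card_fin,
      Set.toFinset_card] at h3
    exact h3.symm
  set ι := (Fintype.equivFinOfCardEq hcard).symm
  set v : Fin 3 → Fin 3 → F := fun i => (ι i : Fin 3 → F) with hv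
  have hvli : LinearIndependent F v := hbli.comp ι ι.injective
  have hvfix : ∀ i, N (v i) = v i := fun i => hbS (ι i).2
  set e' : Fin 3 → Fin 6 → F := fun i => comb e (v i) with he'
  set V : (Fin 3 → F) → (Fin 3 → F) := fun c => c 0 • v 0 + c 1 • v 1 + c 2 • v 2 with hV
  have hcomb : ∀ c, comb e' c = comb e (V c) := fun c => by
    rw [comb_three, hV]
    simp only [he', comb_add', comb_smul]
  have hV0 : ∀ {c}, c ≠ 0 → V c ≠ 0 := fun {c} hc h0 => hc (funext fun i => by
    refine Fintype.linearIndependent_iff.mp hvli c ?_ i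
    rw [Fin.sum_univ_three]
    exact h0)
  have hVsur : ∀ x, ∃ c, V c = x := fun x => by
    have htop := hvli.span_eq_top_of_card_eq_finrank (by simp)
    obtain ⟨c, hc⟩ := Submodule.mem_span_range_iff_exists_fun F |>.mp
      (htop ▸ Submodule.mem_top (x := x))
    exact ⟨c, by rw [← hc, Fin.sum_univ_three]⟩
  have hli' : LinearIndependent F e' := Fintype.linearIndependent_iff.mpr fun c hc i => by
    by_contra hne'
    have : comb e (V c) = 0 := by rw [← hcomb]; exact hc
    exact hV0 (fun h0 => hne' (congrFun h0 i)) (hfr.comb_inj (this.trans (comb_zero e).symm))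
  obtain ⟨f', hfr'⟩ := exists_frame_of (fun i j => hfr.h_ee _ _) hli'
  have hact : ∀ c : Fin 3 → F, c ≠ 0 → τ (L (comb e' c)) = L (comb e' (sq c)) := fun c hc => by
    rw [hcomb, hcomb, hτN _ (hV0 hc)]
    simp only [hV, hNadd, hNsm, hvfix, sq]
  -- the conic
  obtain ⟨a, ha, hgood', -⟩ := (conic_exists X hfr' hw).1
  have ha1 : a = 1 := by
    have hC := clist_conic X hfr' (a := a) hw
    have hM : CList D ((conic X e' a w).map τ) := by
      refine ⟨fun x hx => ?_, hC.nodup.map τ.injective, fun x hx y hy => ?_⟩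
      · obtain ⟨z, hz, rfl⟩ := List.mem_map.mp hx; exact hτ.1 z (hC.mem z hz)
      · obtain ⟨z, hz, rfl⟩ := List.mem_map.mp hx
        obtain ⟨z', hz', rfl⟩ := List.mem_map.mp hy
        exact (commute_map τ).mpr (hC.comm z hz z' hz')
    have hMp : ((conic X e' a w).map τ).prod = (base X e').prod := by
      rw [← map_list_prod, hgood', map_list_prod]
      have : ∀ i, τ (L (e' i)) = L (e' i) := fun i => by
        have := hact (Pi.single i 1) (by simp)
        rwa [show sq (Pi.single i 1 : Fin 3 → F) = Pi.single i 1 from funext fun j => by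
          by_cases hj : j = i
          · subst hj; simp [sq]
          · simp [sq, hj], comb_single] at this
      refine congrArg List.prod ((List.map_congr_left fun x hx => ?_).trans (List.map_id _))
      simp only [base, List.mem_cons, List.not_mem_nil, or_false] at hx
      rcases hx with rfl | rfl | rfl <;> exact this _
    have hin : L (comb e' (q (a ^ 2) 1)) ∈ (conic X e' a w).map τ := by
      refine List.mem_map.mpr ⟨L (comb e' (q a 1)), by simp [conic], ?_⟩
      rw [hact _ (q_ne_zero a 1)]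
      congr 2
      funext i; fin_cases i <;> simp [sq, q]
    exact (fixed_cases (conic_param X hfr' hw (pow_ne_zero 2 ha) ha hgood' hM (by simp [conic])
      hMp hin)).resolve_left ha
  refine ⟨e', f', hfr', ha1 ▸ hgood', fun c hc => hcomb c ▸ hmem _ (hV0 hc), fun x hx hxd => ?_, hact⟩
  obtain ⟨c, hc, rfl⟩ := hsur x hx hxd
  obtain ⟨c', rfl⟩ := hVsur c
  exact ⟨c', fun h0 => hc (by simp [hV, h0]), by rw [hcomb]⟩

/-- Two outer involutions stabilizing maximal sets through `d` are conjugate on the sets. -/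
theorem exists_transfer (hD : Cfsg.IsThreeTranspositionGroup D) {τ σ : MulAut G}
    (hτ : IsAut X τ) (hσ : IsAut X σ) (h2 : τ * τ = 1) (h2' : σ * σ = 1)
    (hout : τ ∉ (MulAut.conj : G →* MulAut G).range) (hout' : σ ∉ (MulAut.conj : G →* MulAut G).range)
    {B B' : Set G} (hB : ThreeTransM22Outer72.Blk D B) (hdB : d ∈ B) (hτB : ∀ x ∈ B, τ x ∈ B)
    (hB' : ThreeTransM22Outer72.Blk D B') (hdB' : d ∈ B') (hσB : ∀ x ∈ B', σ x ∈ B') :
    ∃ k : G, k * d * k⁻¹ = d ∧
      ∀ x ∈ B', (MulAut.conj k * τ * (MulAut.conj k)⁻¹) x = σ x := by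
  classical
  obtain ⟨w, hw⟩ := exists_omega (F := F)
  obtain ⟨e, f, hfr, hgood, -, -, hact⟩ := exists_square X hD hτ h2 hout hB hdB hτB hw
  obtain ⟨e', f', hfr', hgood', -, hsur', hact'⟩ := exists_square X hD hσ h2' hout' hB' hdB' hσB hw
  obtain ⟨δ, hδ, -, hA⟩ := exists_isometry hfr hfr'
  obtain ⟨A, hAe, -⟩ := hA ![δ, 1, 1] (fun i => by fin_cases i <;> simp [hδ])
    (by simp [Fin.prod_univ_three]; rw [← pow_succ']; exact cube hδ)
  obtain ⟨k, hk⟩ := X.chart.surj (π A)
  have hkd : (k : G) * d * (k : G)⁻¹ = d := by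
    rw [(commute_d_of_mem_loc k.2).symm.eq, mul_inv_cancel_right]
  have hmove : ∀ c : Fin 3 → F, c ≠ 0 →
      (k : G) * L (comb e c) * (k : G)⁻¹ = L (comb e' (fun i => (![δ, 1, 1] : Fin 3 → F) i * c i)) := by
    intro c hc
    rw [L_conj X hk (hfr.h_ee _ _) (comb_ne X hfr hc)]
    congr 1
    simp only [comb_three, OrthUnitaryTransvection.act_add, OrthUnitaryTransvection.act_smul, hAe]
    simp [smul_smul, mul_comm]
  -- the scalar is one
  have hδ1 : δ = 1 := by
    have hC := clist_conic X hfr (a := (1 : F)) hw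
    have hM : CList D ((conic X e 1 w).map (MulAut.conj (k : G))) := by
      refine ⟨fun x hx => ?_, hC.nodup.map (MulAut.conj (k : G)).injective, fun x hx y hy => ?_⟩
      · obtain ⟨z, hz, rfl⟩ := List.mem_map.mp hx; exact X.ts.conj _ z (hC.mem z hz)
      · obtain ⟨z, hz, rfl⟩ := List.mem_map.mp hx
        obtain ⟨z', hz', rfl⟩ := List.mem_map.mp hy
        exact (commute_map _).mpr (hC.comm z hz z' hz')
    have hbase : ∀ i, MulAut.conj (k : G) (L (e i)) = L (e' i) := fun i => by
      show (k : G) * L (e i) * (k : G)⁻¹ = _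
      rw [L_conj X hk (hfr.ee i i) (hfr.ne_zero i), hAe,
        L_smul X (hfr'.ee i i) (hfr'.ne_zero i) (by fin_cases i <;> simp [hδ])]
    have hMp : ((conic X e 1 w).map (MulAut.conj (k : G))).prod = (base X e').prod := by
      rw [← map_list_prod, hgood, map_list_prod]
      simp only [base, List.map_cons, List.map_nil, hbase]
    have hmemC : L (comb e (q 1 δ)) ∈ conic X e 1 w := by
      rcases ThreeTransM22TwoBlock48.shift_cases hw δ with h | h | h | h
      · exact absurd h hδ
      all_goals rw [h]; simp [conic]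
    have hin : L (comb e' (q δ 1)) ∈ (conic X e 1 w).map (MulAut.conj (k : G)) := by
      refine List.mem_map.mpr ⟨_, hmemC, ?_⟩
      show (k : G) * _ * (k : G)⁻¹ = _
      rw [hmove _ (q_ne_zero 1 δ), ← L_smul X (hfr'.h_ee _ _) (q_comb_ne X hfr' δ 1) hδ, ← comb_smul]
      congr 2
      funext i; fin_cases i <;> simp [q, pow_two]
    exact conic_param X hfr' hw hδ one_ne_zero hgood' hM (by simp [conic]) hMp hin
  refine ⟨k, hkd, fun x hx => ?_⟩
  by_cases hxd : x = d
  · rw [hxd]
    show (k : G) * τ ((MulAut.conj (k : G))⁻¹ d) * (k : G)⁻¹ = σ d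
    have : (MulAut.conj (k : G))⁻¹ d = d := by
      rw [← map_inv]
      show (k : G)⁻¹ * d * (k : G)⁻¹⁻¹ = d
      calc (k : G)⁻¹ * d * (k : G)⁻¹⁻¹ = (k : G)⁻¹ * ((k : G) * d * (k : G)⁻¹) * k := by simp [hkd]
        _ = d := by group
    rw [this, hτ.2, hσ.2, hkd]
  · obtain ⟨c, hc, rfl⟩ := hsur' x hx hxd
    have hone : ∀ c : Fin 3 → F, c ≠ 0 → (k : G) * L (comb e c) * (k : G)⁻¹ = L (comb e' c) :=
      fun c hc => by
        rw [hmove c hc]; congr 2; funext i; fin_cases i <;> simp [hδ1]
    show (k : G) * τ ((MulAut.conj (k : G))⁻¹ (L (comb e' c))) * (k : G)⁻¹ = _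
    rw [← hone c hc, ← map_inv]
    simp only [MulAut.conj_apply, inv_inv]
    rw [show (k : G)⁻¹ * ((k : G) * L (comb e c) * (k : G)⁻¹) * k = L (comb e c) by group,
      hact c hc, hone c hc, hone _ (sq_ne hc), hact' c hc]

end Cfsg.Agent.ThreeTransM22PlaneFrob48
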