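import Cfsg.Agent.Lib.ThreeTransM22TwoFstar48
import Cfsg.Agent.Lib.ThreeTransM22Aut59
import Cfsg.Agent.Lib.ThreeTransM22Order72
import Cfsg.Agent.Lib.ThreeTransM22Classes72
import Cfsg.Agent.S5463

/-!
# Type M(22): automorphisms and the centralizer of a product of two members

Every automorphism preserves the class; one fixing the product of two commuting members and acting
trivially on the quotient of its centralizer translates every block, and is inner if it fixes a factor.
-/

set_option autoImplicit false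
set_option linter.unusedSectionVars false
set_option linter.style.haveILetI false

namespace Cfsg.Agent.ThreeTransM22TwoAutCore48

open Subgroup
open Cfsg.Agent.ThreeTransRel Cfsg.Agent.ThreeTransDescent
open Cfsg.Agent.UnitaryF4Geo Cfsg.Agent.UnitaryF4Line
open Cfsg.Agent.ThreeTransM22Frame72 Cfsg.Agent.ThreeTransM22Lift72
open Cfsg.Agent.ThreeTransM22PointStab48
open Cfsg.Agent.ThreeTransM22Triples17 (u0 iso_u0 u0_ne)
open Cfsg.Agent.ThreeTransM22TwoCent48 Cfsg.Agent.ThreeTransM22TwoBlock48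
open Cfsg.Agent.ThreeTransM22TwoOuter48 Cfsg.Agent.ThreeTransM22TwoMain48

variable {G : Type*} [Group G] [Finite G] {D : Set G}

/-- An automorphism moves a centralizer to the centralizer of the image. -/
theorem card_centralizer_map (β : MulAut G) (x : G) :
    Nat.card ↥(centralizer ({β x} : Set G)) = Nat.card ↥(centralizer ({x} : Set G)) :=
  (Nat.card_congr (β.toEquiv.subtypeEquiv fun g => by
    simp only [mem_centralizer_singleton_iff, MulEquiv.toEquiv_eq_coe, MulEquiv.coe_toEquiv]
    rw [← map_mul, ← map_mul, β.injective.eq_iff])).symm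

section

variable (hD : Cfsg.IsThreeTranspositionGroup D) (hprim : Cfsg.IsPrimitiveUnderConj D)
    (h22 : Cfsg.IsOfTypeM22 G D)
include hD hprim h22

/-- The centralizer of a product of two commuting members. -/
theorem card_pair {a b : G} (ha : a ∈ D) (hb : b ∈ D) (hne : a ≠ b) (hc : Commute a b) :
    Nat.card ↥(centralizer ({a * b} : Set G)) = 53084160 := by
  obtain ⟨N, S⟩ := ThreeTransM22TwoMain48.main hD hprim h22 ha hb hne hc
  obtain ⟨hn, F, _, _, hF, ⟨e⟩⟩ := S.quot
  haveI := hn
  have h := (N.subgroupOf (centralizer ({a * b} : Set G))).index_mul_card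
  rw [Subgroup.index, Nat.card_congr e.toEquiv, OrthMinusSixTwoAut48.card_mulAut_four hF,
    Nat.card_congr (subgroupOfEquivOfLe (S.le_joint.trans S.joint_le)).toEquiv, S.card] at h
  rw [← h]
  norm_num

/-- Every automorphism preserves the class. -/
theorem aut_mem (β : MulAut G) {x : G} (hx : x ∈ D) : β x ∈ D := by
  have h2 : orderOf (β x) = 2 := (MulEquiv.orderOf_eq β x).trans (hD.1.1 x hx)
  obtain ⟨l, hl, h1, h3, he⟩ := ThreeTransM22Classes72.exists_product hD hprim h22 h2
  have hc := card_centralizer_map β x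
  rw [ThreeTransM22Order72.card_centralizer hD hprim h22 hx, ← he] at hc
  match l, h1, h3 with
  | [a], _, _ =>
    rw [← he, List.prod_cons, List.prod_nil, mul_one]
    exact hl.mem a (List.mem_singleton_self a)
  | [a, b], _, _ =>
    exfalso
    have ha := hl.mem a (by simp)
    have hb := hl.mem b (by simp)
    have hne : a ≠ b := by simpa using hl.nodup
    rw [List.prod_cons, List.prod_cons, List.prod_nil, mul_one,
      card_pair hD hprim h22 ha hb hne (hl.comm a (by simp) b (by simp))] at hc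
    norm_num at hc
  | [a, b, c], _, _ =>
    exfalso
    have ht := tsys_of_group hD
    rw [List.prod_cons, List.prod_cons, List.prod_cons, List.prod_nil, mul_one, ← mul_assoc,
      ThreeTransM22Triples17.card_centralizer_triple hD hprim h22 hl
        (S5463.two_triples ht hprim h22.1 (ThreeTransLine.lineAt_all ht hprim h22) hl rfl |>
          fun ⟨l₂, a1, a2, a3, a4, a5⟩ => ⟨l₂, a1, a2, a3, a4, a5⟩)] at hc
    norm_num at hc

/-- Up to an inner factor an automorphism fixes a given member. -/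
theorem exists_fix (β : MulAut G) {s : G} (hs : s ∈ D) :
    ∃ g : G, (MulAut.conj g * β) s = s := by
  obtain ⟨g, hg⟩ := hprim.1 (β s) (aut_mem hD hprim h22 β hs) s hs
  exact ⟨g, hg⟩

/-- There is at most one outer coset. -/
theorem index_two {α β : MulAut G} (hα : α ∉ (MulAut.conj : G →* MulAut G).range)
    (hβ : β ∉ (MulAut.conj : G →* MulAut G).range) :
    β * α ∈ (MulAut.conj : G →* MulAut G).range := by
  set I := (MulAut.conj : G →* MulAut G).range
  haveI : I.Normal := ⟨fun n hn g => by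
    obtain ⟨s, rfl⟩ := hn
    exact ⟨g s, MulEquiv.ext fun x => by simp [MulAut.mul_apply]⟩⟩
  obtain ⟨s, hs, -⟩ := h22.2
  obtain ⟨g, hg⟩ := exists_fix hD hprim h22 β hs
  obtain ⟨k, hk⟩ := exists_fix hD hprim h22 α hs
  have hgI : MulAut.conj g ∈ I := ⟨g, rfl⟩
  have hkI : MulAut.conj k ∈ I := ⟨k, rfl⟩
  rcases ThreeTransM22Aut59.outer_index hD hprim h22 hs
      (fun y hy => aut_mem hD hprim h22 _ hy) hg (fun y hy => aut_mem hD hprim h22 _ hy) hk
    with ⟨m, hm⟩ | ⟨m, hm⟩ | ⟨m, hm⟩
  · exact absurd ((I.mul_mem_cancel_left hgI).mp ⟨m, hm.symm⟩) hβ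
  · exact absurd ((I.mul_mem_cancel_left hkI).mp ⟨m, hm.symm⟩) hα
  · have h1 : MulAut.conj g * (β * MulAut.conj k * β⁻¹) * (β * α) ∈ I := by
      rw [show MulAut.conj g * (β * MulAut.conj k * β⁻¹) * (β * α)
        = MulAut.conj g * β * (MulAut.conj k * α) by group]
      exact ⟨m, hm.symm⟩
    exact (I.mul_mem_cancel_left
      (mul_mem hgI ((inferInstance : I.Normal).conj_mem _ hkI β))).mp h1

end

variable {F : Type} [Field F] [Fintype F] [hF : FourField F]
variable {d : G} {φ : ↥(loc D d) →* Cfsg.PSU 6 F 2}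

local notation "π" => QuotientGroup.mk' (Subgroup.center (Cfsg.SU 6 F 2))
local notation "act" => OrthUnitaryTransvection.act

theorem field_cases {w : F} (hw : w ^ 2 = w + 1) (x : F) : x = 0 ∨ x = 1 ∨ x = w ∨ x = w + 1 := by
  have two := two_eq_zero (F := F)
  by_cases h0 : x = 0
  · exact Or.inl h0
  by_cases h1 : x = 1
  · exact Or.inr (Or.inl h1)
  have h2 := rel h0 h1
  have : (x - w) * (x - (w + 1)) = 0 := by linear_combination h2 + hw + (-(x * w) + w + 1) * two
  rcases mul_eq_zero.mp this with h | h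
  · exact Or.inr (Or.inr (Or.inl (sub_eq_zero.mp h)))
  · exact Or.inr (Or.inr (Or.inr (sub_eq_zero.mp h)))

section

variable (X : Ctx D d φ) (H : Env D F)
include X H

local notation "L" => ThreeTransM22Lift72.Chart.L X.chart

/-- An automorphism acting trivially modulo the core maps each block affinely to itself. -/
theorem block_affine {β : MulAut G} (hβD : ∀ y ∈ D, β y ∈ D)
    (hp : (β d = d ∧ β (second X) = second X) ∨ (β d = second X ∧ β (second X) = d))
    (hk : ∀ k ∈ joint X, β k * k⁻¹ ∈ core X (hcd X H)) {v : Fin 4 → F} (hv : Iso4 v) :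
    ∃ a c : F, a ≠ 0 ∧ ∀ t, β (pt X v t) = pt X v (a * t + c) := by
  set hc := hcd X H
  have hblock : ∀ t, ∃ t', β (pt X v t) = pt X v t' := by
    intro t
    have c1 : Commute (β (pt X v t)) (β (second X)) := (pt_comm_second X hv t).map β.toMonoidHom
    have c2 : Commute (β (pt X v t)) (β d) := (pt_mem X hv t).2.2.symm.map β.toMonoidHom
    have hj : β (pt X v t) ∈ joint X := (mem_joint X).mpr (by
      rcases hp with ⟨h1, h2⟩ | ⟨h1, h2⟩ <;> rw [h1] at c2 <;> rw [h2] at c1
      · exact ⟨c2, c1⟩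
      · exact ⟨c1, c2⟩)
    have hd1 : β (pt X v t) ≠ β d := fun e => (pt_mem X hv t).2.1 (β.injective e)
    have hd2 : β (pt X v t) ≠ β (second X) := fun e => pt_ne_second X hv t (β.injective e)
    refine block_fix X H hv t ⟨hβD _ (pt_mem X hv t).1, ?_, ((mem_joint X).mp hj).1.symm⟩ hj ?_
      (hk _ (pt_joint X hv t))
    · rcases hp with ⟨h1, -⟩ | ⟨-, h2⟩
      · rwa [h1] at hd1
      · rwa [h2] at hd2
    · rcases hp with ⟨-, h2⟩ | ⟨h1, -⟩
      · rwa [h2] at hd2
      · rwa [h1] at hd1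
  choose σ hσ using hblock
  obtain ⟨w, hw⟩ := exists_omega (F := F)
  obtain ⟨k, hkj, hkt⟩ := exists_scale X H hv (omega_ne hw).1
  have hm := hk k hkj
  have hrec : ∀ t, σ (w * t) = w * σ t + shift X hc hm v := fun t => by
    refine pt_inj X hv ?_
    rw [← hσ, ← hkt, map_mul, map_mul, map_inv, hσ, ← conj_pt X hc hm hv, ← hkt]
    group
  have two := two_eq_zero (F := F)
  set c := σ 0
  have hs : shift X hc hm v = c + w * c := by
    have := hrec 0
    rw [mul_zero] at this
    linear_combination -this - w * c * two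
  refine ⟨σ 1 + c, c, fun e => ?_, fun t => ?_⟩
  · have h1 : σ 1 = σ 0 := eq_of_add_eq_zero e
    exact one_ne_zero (pt_inj X hv (β.injective ((hσ 1).trans ((congrArg _ h1).trans (hσ 0).symm))))
  rw [hσ]
  congr 1
  have h1 : σ w = w * (σ 1 + c) + c := by
    have := hrec 1
    rw [mul_one, hs] at this
    linear_combination this
  rcases field_cases hw t with rfl | rfl | rfl | rfl
  · simp [c]
  · linear_combination -c * two
  · linear_combination h1
  · have h2 := hrec w
    rw [show w * w = w + 1 by linear_combination hw, hs, h1] at h2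
    linear_combination h2 + (σ 1 + c) * hw + w * c * two

/-- An automorphism fixing the two members and mapping a block affinely to itself is inner. -/
theorem fixed_inner (hD : Cfsg.IsThreeTranspositionGroup D) {β : MulAut G}
    (hβ : ThreeTransM22Aut59.IsAut X β) (hs : β (second X) = second X) {v : Fin 4 → F} (hv : Iso4 v)
    {a c : F} (ha : a ≠ 0) (hmap : ∀ t, β (pt X v t) = pt X v (a * t + c)) :
    ∃ k, β = MulAut.conj k := by
  classical
  have two := two_eq_zero (F := F)
  obtain ⟨w, hw⟩ := exists_omega (F := F)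
  set T : Set G := {d, second X} ∪ Set.range (pt X v) with hT
  obtain ⟨B, hB, hTB⟩ : ∃ B : Set G, ThreeTransM22Outer72.Blk D B ∧ T ⊆ B := by
    by_contra hno
    push Not at hno
    have hmem : ∀ x ∈ T, x ∈ D := by
      rintro x ((rfl | rfl) | ⟨t, rfl⟩)
      · exact X.mem
      · exact (second_mem X).1
      · exact (pt_mem X hv t).1
    have hcomm : ∀ x ∈ T, ∀ y ∈ T, Commute x y := by
      rintro x ((rfl | rfl) | ⟨s, rfl⟩) y ((rfl | rfl) | ⟨t, rfl⟩)
      · exact Commute.refl _
      · exact (second_mem X).2.2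
      · exact (pt_mem X hv t).2.2
      · exact (second_mem X).2.2.symm
      · exact Commute.refl _
      · exact (pt_comm_second X hv t).symm
      · exact (pt_mem X hv s).2.2.symm
      · exact pt_comm_second X hv s
      · exact pt_comm X hv s t
    have := ThreeTransM22Outer72.odd_blocks X.ts hmem hcomm
    rw [show {B : Set G | ThreeTransM22Outer72.Blk D B ∧ T ⊆ B} = ∅ from
      Set.eq_empty_iff_forall_notMem.mpr fun B hB => hno B hB.1 hB.2, Set.ncard_empty] at this
    omega
  obtain ⟨e, f, hfr, hgood, -, hsur⟩ :=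
    ThreeTransM22Outer72.exists_plane X hB (hTB (Or.inl (Or.inl rfl))) hw
  obtain ⟨k, hkl, hfix, hp⟩ := ThreeTransM22Aut59.normalise X hfr hw hgood hβ
  rcases ThreeTransM22Aut59.std_cases X hfr hfix hp with h | ⟨himgE, -⟩
  · rcases ThreeTransM22Aut59.fix_near X hD X.mem hfix.1.1 hfix.1.2 h with h | h
    · exact ⟨k⁻¹, by rw [map_inv, eq_inv_iff_mul_eq_one]; exact mul_eq_one_comm.mp h⟩
    · exact ⟨k⁻¹ * d, by rw [map_mul, map_inv, ← h, inv_mul_cancel_left]⟩
  exfalso
  -- coordinates in the plane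
  have hco : ∀ x : Fin 6 → F, h x x = 0 → x ≠ 0 → L x ∈ T →
      ∃ q : Fin 3 → F, q ≠ 0 ∧ x = comb e q := by
    intro x hx hx0 hxT
    obtain ⟨q, hq, eq⟩ := hsur _ (hTB hxT) (L_mem X hx hx0).2.1
    obtain ⟨r, hr, er⟩ := L_inj X hx hx0 (hfr.h_ee _ _) (ThreeTransM22Std72.comb_ne X hfr hq) eq
    exact ⟨r • q, smul_ne_zero hr hq, by rw [comb_smul]; exact er⟩
  obtain ⟨p, hp0, ep⟩ := hco u0 iso_u0 u0_ne (Or.inl (Or.inr rfl))
  obtain ⟨q, hq0, eq⟩ := hco (emb v) (zero_vec v ▸ (hv.vec 0).1) (zero_vec v ▸ (hv.vec 0).2.1)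
    (Or.inr ⟨0, by simp only [pt, zero_vec]⟩)
  have hadd : ∀ x y : Fin 3 → F, comb e (x + y) = comb e x + comb e y := fun x y => by
    simp [comb, add_smul, Finset.sum_add_distrib]
  obtain ⟨A, hA⟩ := QuotientGroup.mk'_surjective (Subgroup.center (Cfsg.SU 6 F 2)) (φ ⟨k, hkl⟩)
  have himg : ∀ (x x' : Fin 6 → F) (r : Fin 3 → F), h x x = 0 → x ≠ 0 → h x' x' = 0 → x' ≠ 0 →
      r ≠ 0 → x = comb e r → β (L x) = L x' →
      ∃ μ : F, μ ≠ 0 ∧ act A x' = μ • comb e (fun i => r i ^ 2) := by
    intro x x' r hx hx0 hx' hx'0 hr ex he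
    have h1 : k * β (L (comb e r)) * k⁻¹ = L (comb e fun i => r i ^ 2) := himgE r hr
    rw [← ex, he] at h1
    have hr2 : (fun i => r i ^ 2) ≠ 0 := fun h0 => hr (funext fun i =>
      (pow_eq_zero_iff (n := 2) (by norm_num)).mp (congrFun h0 i))
    exact L_inj X ((h_act A x' x').trans hx') (act_ne A hx'0) (hfr.h_ee _ _)
      (ThreeTransM22Std72.comb_ne X hfr hr2) ((L_conj X hA.symm hx' hx'0).symm.trans h1)
  obtain ⟨μ, hμ, hAu⟩ := himg u0 u0 p iso_u0 u0_ne iso_u0 u0_ne hp0 ep hs
  set P := comb e fun i => p i ^ 2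
  set R := comb e fun i => q i ^ 2
  have hpt : ∀ t : F, ∃ ν : F, (a * t + c) • μ • P + act A (emb v) = ν • (t ^ 2 • P + R) := by
    intro t
    have hne : t • p + q ≠ 0 := fun h0 => (hv.vec t).2.1 (by
      rw [ep, eq, ← comb_smul, ← hadd, h0, comb_zero])
    obtain ⟨ν, -, hν⟩ := himg (t • u0 + emb v) ((a * t + c) • u0 + emb v) (t • p + q)
      (hv.vec t).1 (hv.vec t).2.1 (hv.vec _).1 (hv.vec _).2.1 hne
      (by rw [hadd, comb_smul, ← ep, ← eq]) (hmap t)
    refine ⟨ν, ?_⟩
    rw [act_add', act_smul', hAu] at hν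
    rw [hν]
    congr 1
    rw [← comb_smul, ← hadd]
    congr 1
    funext i
    simp only [Pi.add_apply, Pi.smul_apply, smul_eq_mul, sq_add, mul_pow]
  obtain ⟨ν₀, h0⟩ := hpt 0
  have hind : ∀ α γ : F, α • P + γ • R = 0 → α = 0 ∧ γ = 0 := by
    intro α γ h0
    rw [← comb_smul, ← comb_smul, ← hadd] at h0
    have h1 := hfr.comb_inj (h0.trans (comb_zero e).symm)
    have h2 : (α ^ 2) • (u0 : Fin 6 → F) + (γ ^ 2) • emb v = 0 := by
      rw [ep, eq, ← comb_smul, ← comb_smul, ← hadd]
      have : α ^ 2 • p + γ ^ 2 • q = 0 := funext fun i => by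
        have h2 : (α • (fun i => p i ^ 2) + γ • fun i => q i ^ 2) i ^ 2 = 0 := by
          rw [h1]; simp
        simpa [sq_add, mul_pow, sq_sq] using h2
      rw [this, comb_zero]
    have hli : LinearIndependent F ![(u0 : Fin 6 → F), emb v] := by
      refine (LinearIndependent.pair_iff' u0_ne).mpr fun a e => hv.2 ?_
      have := congrArg tl e
      rwa [tl_smul, tl_u0, smul_zero, tl_emb, eq_comm] at this
    obtain ⟨e1, e2⟩ := LinearIndependent.pair_iff.mp hli _ _ h2
    exact ⟨(pow_eq_zero_iff (n := 2) (by norm_num)).mp e1,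
      (pow_eq_zero_iff (n := 2) (by norm_num)).mp e2⟩
  have key : ∀ t : F, a * μ * t = ν₀ * t ^ 2 := by
    intro t
    obtain ⟨ν, hν⟩ := hpt t
    have e : (a * μ * t - ν * t ^ 2) • P + (ν₀ - ν) • R = 0 := by
      simp only [zero_pow two_ne_zero, mul_zero, zero_add, zero_smul, smul_smul, smul_add] at h0
      simp only [smul_smul, smul_add] at hν
      linear_combination (norm := module) hν - h0
    obtain ⟨e1, e2⟩ := hind _ _ e
    rw [sub_eq_zero] at e1 e2
    rw [e1, e2]
  have k1 := key 1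
  rw [mul_one, one_pow, mul_one] at k1
  have k2 := key w
  rw [← k1] at k2
  obtain ⟨hw0, hw1⟩ := omega_ne hw
  have h3 : (a * μ) * w * (1 - w) = 0 := by linear_combination k2
  rcases mul_eq_zero.mp h3 with h3 | h3
  · exact mul_ne_zero (mul_ne_zero ha hμ) hw0 h3
  · exact hw1 (sub_eq_zero.mp h3).symm

/-- What an automorphism trivial on the quotient does. -/
theorem aut_data (hD : Cfsg.IsThreeTranspositionGroup D) (hAD : ∀ (β : MulAut G), ∀ y ∈ D, β y ∈ D)
    (hcen : ∀ k ∈ centralizer ({d * second X} : Set G),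
      (∀ x ∈ centralizer ({d * second X} : Set G), k * x * k⁻¹ * x⁻¹ ∈ core X (hcd X H)) →
      k ∈ core X (hcd X H))
    {β : MulAut G} (hz : β (d * second X) = d * second X)
    (hker : ∀ k ∈ centralizer ({d * second X} : Set G), β k * k⁻¹ ∈ core X (hcd X H)) :
    ((β d = d ∧ β (second X) = second X) ∨ (β d = second X ∧ β (second X) = d)) ∧
      (β d = d → ∃ k ∈ core X (hcd X H), β = MulAut.conj k) ∧
      ∀ x ∈ core X (hcd X H), β x * x⁻¹ ∈ zpowers (d * second X) := by
  set hc := hcd X H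
  set z := d * second X with hzdef
  have hsm := second_mem X
  have hperm : (β d = d ∧ β (second X) = second X) ∨ (β d = second X ∧ β (second X) = d) := by
    have hcl : ∀ x y : G, x ∈ D → y ∈ D → x ≠ y → Commute x y → CList D [x, y] := fun x y hx hy hn he =>
      ⟨by simp [hx, hy], by simp [hn], by simp [he, he.symm]⟩
    have he := ThreeTransPairs.pair_unique X.ts X.prim
      (hcl _ _ (hAD β d X.mem) (hAD β _ hsm.1) (fun e => hsm.2.1 (β.injective e).symm)
        (hsm.2.2.map β.toMonoidHom)) rfl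
      (hcl _ _ X.mem hsm.1 hsm.2.1.symm hsm.2.2) rfl (by
        simp only [List.prod_cons, List.prod_nil, mul_one]
        rw [← map_mul, ← hzdef, hz])
    simp only [List.mem_cons, List.not_mem_nil, or_false] at he
    rcases (he (β d)).mp (Or.inl rfl) with h1 | h1 <;>
      rcases (he (β (second X))).mp (Or.inr rfl) with h2 | h2
    · exact absurd (β.injective (h1.trans h2.symm)) hsm.2.1.symm
    · exact Or.inl ⟨h1, h2⟩
    · exact Or.inr ⟨h1, h2⟩
    · exact absurd (β.injective (h1.trans h2.symm)) hsm.2.1.symm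
  have hCmap : ∀ x ∈ centralizer ({z} : Set G), β x ∈ centralizer ({z} : Set G) := fun x hx => by
    rw [mem_centralizer_singleton_iff] at hx ⊢
    rw [← hz, ← map_mul, hx, map_mul]
  set v₀ : Fin 4 → F := ![1, 1, 0, 0] with hvd
  have hv₀ : Iso4 v₀ := ⟨by simp [hvd, h, Fin.sum_univ_four, add_self],
    fun e => by simpa [hvd] using congrFun e 0⟩
  have hkj : ∀ k ∈ joint X, β k * k⁻¹ ∈ core X hc := fun k hk => hker k (joint_le_cent X H hk)
  have hin : ∀ γ : MulAut G, γ d = d → γ (second X) = second X →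
      (∀ k ∈ centralizer ({z} : Set G), γ k * k⁻¹ ∈ core X hc) →
      ∃ k ∈ core X hc, γ = MulAut.conj k := by
    intro γ h1 h2 hγ
    obtain ⟨a, c, ha, hmap⟩ := block_affine X H (hAD γ) (Or.inl ⟨h1, h2⟩)
      (fun k hk => hγ k (joint_le_cent X H hk)) hv₀
    obtain ⟨k, rfl⟩ := fixed_inner X H hD ⟨hAD γ, h1⟩ h2 hv₀ ha hmap
    refine ⟨k, hcen k ?_ fun x hx => by simpa using hγ x hx, rfl⟩
    rw [mem_centralizer_singleton_iff]
    refine mul_inv_eq_iff_eq_mul.mp ?_
    show (MulAut.conj k) z = z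
    rw [hzdef, map_mul, h1, h2]
  refine ⟨hperm, fun hd => hin β hd (hperm.resolve_right fun h => hsm.2.1 (h.1.symm.trans hd)).2 hker, ?_⟩
  -- the square translates
  obtain ⟨k₂, hk₂, hsq⟩ := hin (β * β)
    (show β (β d) = d by rcases hperm with ⟨h1, h2⟩ | ⟨h1, h2⟩ <;> simp [h1, h2])
    (show β (β (second X)) = second X by rcases hperm with ⟨h1, h2⟩ | ⟨h1, h2⟩ <;> simp [h1, h2])
    (fun k hk => by
      show β (β k) * k⁻¹ ∈ _
      rw [show β (β k) * k⁻¹ = (β (β k) * (β k)⁻¹) * (β k * k⁻¹) by group]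
      exact mul_mem (hker _ (hCmap k hk)) (hker k hk))
  have two := two_eq_zero (F := F)
  obtain ⟨w, hw⟩ := exists_omega (F := F)
  set M : Subgroup G :=
    { carrier := {x | x ∈ joint X ∧ β x * x⁻¹ ∈ zpowers z}
      one_mem' := ⟨one_mem _, by simp⟩
      mul_mem' := by
        rintro x y ⟨hx, hx'⟩ ⟨hy, hy'⟩
        refine ⟨mul_mem hx hy, ?_⟩
        obtain ⟨n, hn⟩ := mem_zpowers_iff.mp hy'
        rw [map_mul, show β x * β y * (x * y)⁻¹ = β x * (β y * y⁻¹) * x⁻¹ by group, ← hn,
          mul_assoc, ((j_central X hc hx).zpow_right n).inv_left.symm.eq, ← mul_assoc, hn]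
        exact mul_mem hx' hy'
      inv_mem' := by
        rintro x ⟨hx, hx'⟩
        refine ⟨inv_mem hx, ?_⟩
        obtain ⟨n, hn⟩ := mem_zpowers_iff.mp hx'
        rw [show β x⁻¹ * x⁻¹⁻¹ = x⁻¹ * (β x * x⁻¹)⁻¹ * x by rw [map_inv]; group, ← hn,
          ((j_central X hc hx).zpow_right n).inv_left.inv_right.eq, inv_mul_cancel_right, hn]
        exact inv_mem hx' }
  have hjz : ∀ x, x ∈ joint X → β x = x → x ∈ M := fun x hx e => ⟨hx, by rw [e]; simp⟩
  intro x hx
  suffices hle : core X hc ≤ M from (hle hx).2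
  refine (core_gen X hc).trans ((closure_le _).mpr ?_)
  rintro y ((rfl | rfl) | ⟨v, hv, rfl⟩)
  · rcases hperm with ⟨h1, -⟩ | ⟨h1, -⟩
    · exact hjz _ (core_le X hc (d_mem X hc)) h1
    · refine ⟨core_le X hc (d_mem X hc), ?_⟩
      rw [h1, X.ts.inv_self X.mem, ← hsm.2.2.eq]
      exact mem_zpowers _
  · rcases hperm with ⟨-, h2⟩ | ⟨-, h2⟩
    · exact hjz _ (core_le X hc (second_mem_core X hc)) h2
    · refine ⟨core_le X hc (second_mem_core X hc), ?_⟩
      rw [h2, X.ts.inv_self hsm.1]
      exact mem_zpowers _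
  · obtain ⟨a, c, ha, hmap⟩ := block_affine X H (hAD β) hperm hkj hv
    have ha1 : a = 1 := by
      have h2 : ∀ t, a * (a * t + c) + c = t + shift X hc hk₂ v := fun t => by
        refine pt_inj X hv ?_
        rw [← conj_pt X hc hk₂ hv, ← hmap, ← hmap]
        exact DFunLike.congr_fun hsq (pt X v t)
      have e : (a + 1) ^ 2 = 0 := by linear_combination h2 1 - h2 0 + (a + 1) * two
      exact eq_of_add_eq_zero ((pow_eq_zero_iff (n := 2) (by norm_num)).mp e)
    subst ha1
    refine ⟨mul_mem (pt_joint X hv 0) (pt_joint X hv 1), ?_⟩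
    have hval : β (pair X v) = pt X v c * pt X v (c + 1) := by
      simp only [pair, map_mul, hmap, one_mul, zero_add]
      rw [add_comm (1 : F) c]
    rw [hval]
    have hp2 := pair_sq X hv
    have hinv : (pair X v)⁻¹ = pair X v := inv_eq_of_mul_eq_one_right hp2
    have hww : w + 1 + 1 = w := by rw [add_assoc, add_self, add_zero]
    have hz4 : pair X v * (pt X v w * pt X v (w + 1)) = z := four_prod X hv hw
    have hzz : pt X v w * pt X v (w + 1) * (pair X v)⁻¹ ∈ zpowers z := by
      have e : pt X v w * pt X v (w + 1) = pair X v * z := by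
        rw [← hz4, ← mul_assoc, hp2, one_mul]
      rw [e, mul_assoc, (j_central X hc (mul_mem (pt_joint X hv 0) (pt_joint X hv 1))).inv_left.symm.eq,
        ← mul_assoc, mul_inv_cancel, one_mul]
      exact mem_zpowers _
    rcases field_cases hw c with rfl | rfl | rfl | rfl
    · simp [pair]
    · rw [add_self, (pt_comm X hv 1 0).eq]; simp [pair]
    · exact hzz
    · rw [hww, (pt_comm X hv (w + 1) w).eq]; exact hzz

end

end Cfsg.Agent.ThreeTransM22TwoAutCore48
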