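import Cfsg.Agent.Lib.ThreeTransM22SFix48
import Cfsg.Agent.Lib.ThreeTransM22PlaneFrob48
import Cfsg.Agent.Lib.ThreeTransM22Block72
import Cfsg.Agent.Lib.ThreeTransM22Fix17
import Cfsg.Agent.Lib.ThreeTransM22TwoAutCore48

/-!
# The classes of outer involutions of a group of type M(22)

An outer involution can be moved to agree with the diagram symmetry on a maximal set of commuting
members; it is then that symmetry times a product of members of the set, and those are checked.
-/

set_option autoImplicit false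
set_option maxRecDepth 100000
set_option maxHeartbeats 800000
set_option linter.unusedSectionVars false
set_option linter.style.haveILetI false

namespace Cfsg.Agent.ThreeTransM22OuterClass48

open Cfsg.Agent.CosetCertCore Cfsg.Agent.CosetCertTable
open Cfsg.Agent.ThreeTransM22Tab48 Cfsg.Agent.ThreeTransM22Word48 Cfsg.Agent.ThreeTransM22SFix48
open Cfsg.Agent.ThreeTransM22OutData48
open Cfsg.Agent.ThreeTransFi22Out41 (e pi)
open Cfsg.Agent.CosetCertU62 (T22)

/-- The basis members of a mask. -/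
def sel (m : Nat) : List Pt := (List.range 10).flatMap fun i => if m.testBit i then [BS.getD i PA] else []

/-- The symmetry on masks. -/
def sg' (m : Nat) : Nat :=
  ((List.range 10).map fun i => if m.testBit i then IM.getD i 0 else 0).foldr (· ^^^ ·) 0

theorem oks : (BK ++ BS ++ YS ++ POOL).all ptOk = true := by decide +kernel

theorem bs_in : (BS.all fun P => BK.elem P) = true := by decide +kernel

theorem bk_comm : (BK.all fun P => BK.all fun Q => cm P Q.1) = true := by decide +kernel

theorem bk_max : allFrom (fun p => !(BK.all fun P => cm P p) || (BK.map Prod.fst).elem p) T22.N 0 = true := by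
  decide +kernel

theorem bk_pi : (BK.all fun P => (BK.map Prod.fst).elem (pi P.1)) = true := by decide +kernel

theorem pa_in : PA ∈ BK := by decide +kernel

theorem bk_mask : ((List.range 22).all fun i =>
    same (wp [BK.getD i PA]) (wp (sel (MASK.getD i 0)))) = true := by
  decide +kernel

theorem count_ys : prodC (fun _ => true) BK YS = 512 := by decide +kernel

theorem ys_ok : (YS.map Prod.fst).Nodup ∧ ∀ x ∈ YS, ∀ y ∈ BK, x.1 ≠ y.1 := by decide +kernel

theorem reachBK : reach (BK ++ YS) ((BK ++ YS).map Prod.fst) TRB = true := by decide +kernel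

theorem coverBK : allFrom (fun q => !(cm PA q && !Nat.beq q PA.1) ||
    ((BK ++ YS).map Prod.fst ++ TRB.map Prod.fst).elem q) T22.N 0 = true := by
  decide +kernel

theorem im_ok : ((List.range 10).all fun i => Nat.blt (IM.getD i 0) 1024 &&
    BK.any fun P => Nat.beq P.1 (pi (BS.getD i PA).1) && same (wp [P]) (wp (sel (IM.getD i 0)))) = true := by
  decide +kernel

theorem fixed_ok : allFrom (fun m => !Nat.beq (sg' m) m || FIXED.elem m) 1024 0 = true := by
  decide +kernel

theorem wit_cover : (FIXED.all fun m => (WIT.map Prod.fst).elem m) = true := by decide +kernel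

/-- The representative members. -/
def rep : Nat → List Pt
  | 0 => []
  | 1 => [PA]
  | _ => [PA, PB]

theorem wit_ok : (WIT.all fun w =>
    let x := w.2.1.map fun i => POOL.getD i PA
    let y := w.2.2.1.map fun i => POOL.getD i PA
    (x.map fun P => pi P.1) == y.map Prod.fst &&
      same (wp (y ++ sel w.1 ++ x.reverse)) (wp (rep w.2.2.2))) = true := by
  decide +kernel

theorem rep_mem : ∀ n, ∀ P ∈ rep n, P = PA ∨ P = PB := by
  intro n
  rcases n with _ | _ | n <;> simp [rep]

theorem sel_zero : sel 0 = [] := by decide +kernel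

variable {G : Type*} [Group G] [Finite G] {D : Set G}

/-- The product of a mask. -/
def Ψ (dN : Nat → G) (m : Nat) : G := ((sel m).map fun P => dN P.1).prod

variable (hD : Cfsg.IsThreeTranspositionGroup D) (hprim : Cfsg.IsPrimitiveUnderConj D)
  (h22 : Cfsg.IsOfTypeM22 G D)
variable {dN : Nat → G} {s : MulAut G} (T : Tab D dN s)
include T

theorem okP {P : Pt} (h : P ∈ BK ++ BS ++ YS ++ POOL) : ptOk P = true :=
  List.all_eq_true.mp oks P h

theorem ltP {P : Pt} (h : P ∈ BK ++ BS ++ YS ++ POOL) : P.1 < T22.N := (ptOk_iff T (okP T h)).1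

theorem sel_bk {m : Nat} {P : Pt} (h : P ∈ sel m) : P ∈ BK := by
  obtain ⟨i, hi, hP⟩ := List.mem_flatMap.mp h
  split_ifs at hP
  · rw [List.mem_singleton] at hP
    have hb := List.all_eq_true.mp bs_in P (by
      rw [hP, List.getD_eq_getElem _ _ (show i < BS.length from List.mem_range.mp hi)]
      exact List.getElem_mem _)
    exact List.elem_iff.mp hb
  · exact absurd hP List.not_mem_nil

theorem ok_sel {m : Nat} {P : Pt} (h : P ∈ sel m) : ptOk P = true :=
  okP T (by simp [sel_bk T h])

theorem comm_bk {P Q : Pt} (hP : P ∈ BK) (hQ : Q ∈ BK) : Commute (dN P.1) (dN Q.1) :=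
  (cm_iff T (okP T (by simp [hP])) (ltP T (by simp [hQ]))).mp
    (List.all_eq_true.mp (List.all_eq_true.mp bk_comm P hP) Q hQ)

theorem psi_comm {m : Nat} {P : Pt} (hP : P ∈ BK) : Commute (dN P.1) (Ψ dN m) := by
  refine Commute.list_prod_right _ _ fun x hx => ?_
  obtain ⟨Q, hQ, rfl⟩ := List.mem_map.mp hx
  exact comm_bk T hP (sel_bk T hQ)

theorem psi_eq (m : Nat) : Ψ dN m =
    ((List.range 10).map fun i => if m.testBit i then dN (BS.getD i PA).1 else 1).prod := by
  unfold Ψ sel
  induction (List.range 10) with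
  | nil => rfl
  | cons i l ih =>
    rw [List.flatMap_cons, List.map_append, List.prod_append, List.map_cons, List.prod_cons, ih]
    congr 1
    split_ifs <;> simp

theorem psi_zero : Ψ dN 0 = 1 := by rw [Ψ, sel_zero]; rfl

theorem psi_xor (m n : Nat) : Ψ dN (m ^^^ n) = Ψ dN m * Ψ dN n := by
  rw [psi_eq T, psi_eq T, psi_eq T]
  have hbs : ∀ i ∈ List.range 10, BS.getD i PA ∈ BK := fun i hi => by
    have hb := List.all_eq_true.mp bs_in (BS.getD i PA) (by
      rw [List.getD_eq_getElem _ _ (show i < BS.length from List.mem_range.mp hi)]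
      exact List.getElem_mem _)
    exact List.elem_iff.mp hb
  rw [← ThreeTransM22Block72.prod_map_mul _ _ (List.range 10) fun i hi j hj => by
    split_ifs
    · exact comm_bk T (hbs i hi) (hbs j hj)
    all_goals first | exact Commute.one_left _ | exact Commute.one_right _]
  refine congrArg List.prod (List.map_congr_left fun i hi => ?_)
  rw [Nat.testBit_xor]
  rcases hm : m.testBit i <;> rcases hn : n.testBit i <;> simp
  exact (T.ts.sq _ (T.mem _ (ltP T (List.mem_append_left _ (List.mem_append_left _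
    (List.mem_append_left _ (hbs i hi))))))).symm

theorem psi_sq (m : Nat) : Ψ dN m * Ψ dN m = 1 := by rw [← psi_xor T, Nat.xor_self, psi_zero T]

/-- The group of the masks. -/
def span : Subgroup G where
  carrier := {g | ∃ m, m < 1024 ∧ g = Ψ dN m}
  one_mem' := ⟨0, by norm_num, (psi_zero T).symm⟩
  mul_mem' := by
    rintro _ _ ⟨m, hm, rfl⟩ ⟨n, hn, rfl⟩
    exact ⟨m ^^^ n, Nat.xor_lt_two_pow (n := 10) hm hn, (psi_xor T m n).symm⟩
  inv_mem' := by
    rintro _ ⟨m, hm, rfl⟩
    exact ⟨m, hm, inv_eq_of_mul_eq_one_right (psi_sq T m)⟩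

/-- The members of the maximal set. -/
def Bs (dN : Nat → G) : Set G := {y | ∃ P ∈ BK, y = dN P.1}

theorem bk_blk : ThreeTransM22Outer72.Blk D (Bs dN) := by
  refine ⟨?_, ?_, fun y hy hc => ?_⟩
  · rintro _ ⟨P, hP, rfl⟩; exact T.mem _ (ltP T (by simp [hP]))
  · rintro _ ⟨P, hP, rfl⟩ _ ⟨Q, hQ, rfl⟩; exact comm_bk T hP hQ
  · obtain ⟨p, hp, rfl⟩ := T.surj y hy
    have h := all_of bk_max hp
    have hall : (BK.all fun P => cm P p) = true := List.all_eq_true.mpr fun P hP =>
      (cm_iff T (okP T (by simp [hP])) hp).mpr (hc _ ⟨P, hP, rfl⟩).symm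
    simp only [hall, Bool.not_true, Bool.false_or, List.elem_iff, List.mem_map] at h
    obtain ⟨P, hP, rfl⟩ := h
    exact ⟨P, hP, rfl⟩

theorem s_bk {x : G} (hx : x ∈ Bs dN) : s x ∈ Bs dN := by
  obtain ⟨P, hP, rfl⟩ := hx
  have h := List.all_eq_true.mp bk_pi P hP
  rw [List.elem_iff, List.mem_map] at h
  obtain ⟨Q, hQ, e1⟩ := h
  exact ⟨Q, hQ, by rw [T.aut _ (ltP T (by simp [hP])), e1]⟩

theorem a_bk : dN PA.1 ∈ Bs dN := ⟨PA, pa_in, rfl⟩

theorem s_psi (m : Nat) : s (Ψ dN m) = Ψ dN (sg' m) := by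
  rw [psi_eq T, sg', map_list_prod, List.map_map]
  have key : ∀ l : List Nat, (∀ i ∈ l, i < 10) →
      (l.map (s ∘ fun i => if m.testBit i then dN (BS.getD i PA).1 else 1)).prod =
        Ψ dN ((l.map fun i => if m.testBit i then IM.getD i 0 else 0).foldr (· ^^^ ·) 0) := by
    intro l
    induction l with
    | nil => intro _; exact (psi_zero T).symm
    | cons i l ih =>
      intro hl
      rw [List.map_cons, List.prod_cons, List.map_cons, List.foldr_cons,
        ih fun j hj => hl j (List.mem_cons_of_mem _ hj), psi_xor T]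
      refine congrArg (· * _) ?_
      show s (if m.testBit i then dN (BS.getD i PA).1 else 1) = _
      split_ifs
      · have h := List.all_eq_true.mp im_ok i (List.mem_range.mpr (hl i List.mem_cons_self))
        simp only [Bool.and_eq_true, List.any_eq_true, Nat.beq_eq] at h
        obtain ⟨-, P, hP, e1, e2⟩ := h
        have hok : BS.getD i PA ∈ BK ++ BS ++ YS ++ POOL := by
          rw [List.getD_eq_getElem _ _ (show i < BS.length from hl i List.mem_cons_self)]
          simp
        rw [T.aut _ (ltP T hok), ← e1]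
        have := prod_eq_of_same T (L := [P]) (M := sel (IM.getD i 0))
          (fun Q hQ => by rw [List.mem_singleton] at hQ; exact hQ ▸ okP T (by simp [hP]))
          (fun Q hQ => ok_sel T hQ) e2
        simpa [Ψ] using this
      · rw [map_one, psi_zero T]
  exact key _ fun i hi => List.mem_range.mp hi

theorem sg'_lt (m : Nat) : sg' m < 1024 := by
  have key : ∀ l : List Nat, (∀ x ∈ l, x < 1024) → l.foldr (· ^^^ ·) 0 < 1024 := by
    intro l hl
    induction l with
    | nil => norm_num
    | cons x l ih =>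
      exact Nat.xor_lt_two_pow (n := 10) (hl x List.mem_cons_self)
        (ih fun y hy => hl y (List.mem_cons_of_mem _ hy))
  refine key _ fun x hx => ?_
  obtain ⟨i, hi, rfl⟩ := List.mem_map.mp hx
  split_ifs
  · have h := List.all_eq_true.mp im_ok i hi
    simp only [Bool.and_eq_true, Nat.blt_eq] at h
    exact h.1
  · norm_num

include hD hprim h22

/-- The centralizer of the set is its span, of order 1024. -/
theorem cent_bk : (∀ g : G, (∀ x ∈ Bs dN, Commute g x) → g ∈ span T) ∧
    Function.Injective (fun m : Fin 1024 => Ψ dN m) := by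
  classical
  set C := Subgroup.centralizer (Bs dN)
  set K := Subgroup.closure (Bs dN)
  have hKc : Nat.card K = 1024 := ThreeTransM22Block72.card_block hD hprim h22 (bk_blk T)
  have hKC : K ≤ C := (Subgroup.closure_le _).mpr fun x hx =>
    Subgroup.mem_centralizer_iff.mpr fun y hy => ((bk_blk T).comm y hy x hx).eq
  have hKE : K ≤ span T := by
    refine (Subgroup.closure_le _).mpr ?_
    rintro _ ⟨P, hP, rfl⟩
    obtain ⟨i, hi, rfl⟩ := List.getElem_of_mem hP
    have h := List.all_eq_true.mp bk_mask i (List.mem_range.mpr hi)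
    rw [List.getD_eq_getElem _ _ hi] at h
    have hlen : i < MASK.length := Nat.lt_of_lt_of_eq hi (by decide +kernel)
    refine ⟨MASK.getD i 0, ?_, ?_⟩
    · rw [List.getD_eq_getElem _ _ hlen]
      exact (by decide +kernel : ∀ m ∈ MASK, m < 1024) _ (List.getElem_mem hlen)
    · have := prod_eq_of_same T
        (fun Q hQ => by rw [List.mem_singleton] at hQ; exact hQ ▸ okP T (by simp [List.getElem_mem hi]))
        (fun Q hQ => ok_sel T hQ) h
      simpa [Ψ] using this
  have hC : Nat.card C ≤ 1024 := by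
    have hchain := card_chain T (fun _ => true) YS BK C
      (fun P hP => okP T (by simp at hP ⊢; tauto))
      (fun P hP g hg => (Subgroup.mem_centralizer_iff.mp hg _ ⟨P, hP, rfl⟩).symm)
      (fun _ _ _ _ _ _ _ => rfl) ys_ok.2 ys_ok.1
    rw [count_ys] at hchain
    refine hchain.trans (le_trans (Nat.mul_le_mul le_rfl
      (?_ : Nat.card ↥(C ⊓ Subgroup.centralizer {y | ∃ P ∈ YS, y = dN P.1}) ≤ 2)) (by norm_num))
    refine le_trans (Nat.card_mono (Set.toFinite ({1, dN PA.1} : Set G)) fun g hg => ?_) ?_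
    · obtain ⟨hg1, hg2⟩ := hg
      have ha := Subgroup.mem_centralizer_iff.mp hg1 _ (a_bk T)
      refine only_member hD hprim h22 (T.mem _ (aN T)) ha fun y hy => ?_
      obtain ⟨q, hq, rfl⟩ := T.surj y hy.1
      obtain ⟨hc, hne⟩ := (near_iff T hq).mp hy
      have hgen : ∀ P ∈ BK ++ YS, dN P.1 ∈ Subgroup.centralizer ({g} : Set G) := fun P hP => by
        refine Subgroup.mem_centralizer_singleton_iff.mpr ?_
        rcases List.mem_append.mp hP with h | h
        · exact Subgroup.mem_centralizer_iff.mp hg1 _ ⟨P, h, rfl⟩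
        · exact Subgroup.mem_centralizer_iff.mp hg2 _ ⟨P, h, rfl⟩
      have hall := reach_mem T (Subgroup.centralizer ({g} : Set G)) (gs := BK ++ YS)
        (fun P hP => okP T (by simp at hP ⊢; tauto)) hgen reachBK (fun p hp => by
          obtain ⟨P, hP, rfl⟩ := List.mem_map.mp hp
          exact ⟨ltP T (by simp at hP ⊢; tauto), hgen P hP⟩)
      have hcov := all_of coverBK hq
      rw [hc, show Nat.beq q PA.1 = false from by rw [← Bool.not_eq_true, Nat.beq_eq]; exact hne] at hcov
      simp only [Bool.not_false, Bool.and_self, Bool.not_true, Bool.false_or, List.elem_iff,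
        List.mem_append, List.mem_map] at hcov
      rcases hcov with ⟨P, hP, rfl⟩ | ⟨t, ht, rfl⟩
      · exact Subgroup.mem_centralizer_singleton_iff.mp (hgen P (List.mem_append.mpr hP))
      · exact Subgroup.mem_centralizer_singleton_iff.mp (hall t ht)
    · rw [Nat.card_coe_set_eq]
      exact (Set.ncard_insert_le _ _).trans (by rw [Set.ncard_singleton])
  have hCK : K = C := Subgroup.eq_of_le_of_card_ge hKC (hKc.symm ▸ hC)
  refine ⟨fun g hg => hKE (hCK ▸ Subgroup.mem_centralizer_iff.mpr fun x hx => (hg x hx).symm.eq), ?_⟩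
  let f : Fin 1024 → span T := fun m => ⟨Ψ dN m, m, m.2, rfl⟩
  have hsur : Function.Surjective f := fun ⟨g, m, hm, e1⟩ => ⟨⟨m, hm⟩, Subtype.ext e1.symm⟩
  have hcard : Nat.card (Fin 1024) ≤ Nat.card (span T) := by
    rw [Nat.card_fin, ← hKc]
    exact Nat.card_mono (Set.toFinite _) hKE
  have hb : Function.Bijective f := hsur.bijective_of_nat_card_le hcard
  exact fun m n h => hb.1 (Subtype.ext h)

/-- An involution agreeing with the symmetry on the set is one of the representatives. -/
theorem agree_cases {g : G} (h2 : (s * MulAut.conj g) * (s * MulAut.conj g) = 1)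
    (hg : ∀ x ∈ Bs dN, Commute g x) :
    IsConj (s * MulAut.conj g) s ∨ IsConj (s * MulAut.conj g) (s * MulAut.conj (dN PA.1)) ∨
      IsConj (s * MulAut.conj g) (s * MulAut.conj (dN PA.1 * dN PB.1)) := by
  obtain ⟨hin, hinj⟩ := cent_bk hD hprim h22 T
  obtain ⟨m, hm, rfl⟩ := hin g hg
  have hss : ∀ y, s (s y) = y := fun y => DFunLike.congr_fun T.invol y
  -- fixed
  have hfix : s (Ψ dN m) = Ψ dN m := by
    have hz : s (Ψ dN m) * Ψ dN m ∈ Subgroup.center G := by
      refine Subgroup.mem_center_iff.mpr fun y => ?_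
      have h := DFunLike.congr_fun h2 y
      simp only [MulAut.mul_apply, MulAut.conj_apply, MulAut.one_apply, map_mul, map_inv, hss] at h
      set u := s (Ψ dN m)
      set v := Ψ dN m
      calc y * (u * v) = (u * v * u⁻¹ * (u * y * u⁻¹) * (u * v * u⁻¹)⁻¹) * (u * v) := by rw [h]
        _ = u * v * y := by group
    rw [T.centre, Subgroup.mem_bot] at hz
    rw [eq_inv_of_mul_eq_one_left hz, inv_eq_of_mul_eq_one_right (psi_sq T m)]
  rw [s_psi T] at hfix
  have hmfix : sg' m = m := congrArg Fin.val (@hinj ⟨_, sg'_lt T m⟩ ⟨m, hm⟩ hfix)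
  have h := (allFrom_iff _ _ _).mp fixed_ok m (Nat.zero_le _) (by omega)
  rw [show Nat.beq (sg' m) m = true from Nat.beq_eq.mpr hmfix, Bool.not_true, Bool.false_or,
    List.elem_iff] at h
  have h := List.all_eq_true.mp wit_cover m h
  rw [List.elem_iff, List.mem_map] at h
  obtain ⟨w, hw, rfl⟩ := h
  have h := List.all_eq_true.mp wit_ok w hw
  simp only [Bool.and_eq_true, beq_iff_eq] at h
  obtain ⟨hpi, hsame⟩ := h
  set x := w.2.1.map fun i => POOL.getD i PA with hx
  set y := w.2.2.1.map fun i => POOL.getD i PA with hy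
  have hpool : ∀ (l : List Nat), ∀ P ∈ l.map (fun i => POOL.getD i PA), ptOk P = true := by
    intro l P hP
    obtain ⟨i, -, rfl⟩ := List.mem_map.mp hP
    by_cases hi : i < POOL.length
    · rw [List.getD_eq_getElem _ _ hi]
      exact okP T (by simp)
    · rw [List.getD_eq_default _ _ (by omega)]
      exact okP T (by simp [pa_in])
  have hrep : ∀ P ∈ rep w.2.2.2, ptOk P = true := by
    intro P hP
    refine ok T ?_
    rcases rep_mem _ P hP with rfl | rfl <;> simp
  have hxok : ∀ P ∈ x, ptOk P = true := hpool _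
  have heq := prod_eq_of_same T (fun P hP => by
      simp only [List.mem_append, List.mem_reverse] at hP
      rcases hP with (hP | hP) | hP
      exacts [hpool _ P hP, ok_sel T hP, hpool _ P hP]) hrep hsame
  clear_value x y
  set X := (x.map fun P => dN P.1).prod with hX
  have e1 : (y.map fun P => dN P.1) = x.map fun P => dN (pi P.1) := by
    have := congrArg (List.map dN) hpi
    simpa [List.map_map, Function.comp_def] using this.symm
  have hy' : (y.map fun P => dN P.1).prod = s X := by
    rw [e1, hX, map_list_prod, List.map_map]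
    refine congrArg List.prod (List.map_congr_left fun P hP => ?_)
    exact (T.aut _ (ptOk_iff T (hxok P hP)).1).symm
  have hrev : (x.reverse.map fun P => dN P.1).prod = X⁻¹ := by
    rw [hX, List.prod_inv_reverse, List.map_reverse, List.map_map]
    refine congrArg List.prod (congrArg List.reverse (List.map_congr_left fun P hP => ?_))
    exact (inv_dN T (ptOk_iff T (hxok P hP)).1).symm
  rw [List.map_append, List.map_append, List.prod_append, List.prod_append, hy', hrev] at heq
  have hc : MulAut.conj X * (s * MulAut.conj (Ψ dN w.1)) * (MulAut.conj X)⁻¹ =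
      s * MulAut.conj (((rep w.2.2.2).map fun P => dN P.1).prod) := by
    rw [← heq]
    refine MulEquiv.ext fun z => ?_
    simp only [MulAut.mul_apply, MulAut.conj_apply, ← map_inv, map_mul, hss, inv_inv, mul_inv_rev,
      Ψ, mul_assoc]
  have hconj : IsConj (s * MulAut.conj (Ψ dN w.1)) (s * MulAut.conj (((rep w.2.2.2).map fun P => dN P.1).prod)) :=
    isConj_iff.mpr ⟨_, hc⟩
  generalize w.2.2.2 = n at hconj
  rcases n with _ | _ | n
  · left; simpa [rep] using hconj
  · right; left; simpa [rep] using hconj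
  · right; right; simpa [rep] using hconj

/-- Every outer involution is conjugate to one of the three. -/
theorem classes {τ : MulAut G} (h2 : τ * τ = 1) (hout : τ ∉ (MulAut.conj : G →* MulAut G).range) :
    IsConj τ s ∨ IsConj τ (s * MulAut.conj (dN PA.1)) ∨
      IsConj τ (s * MulAut.conj (dN PA.1 * dN PB.1)) := by
  classical
  have haut := fun (β : MulAut G) y (hy : y ∈ D) => ThreeTransM22TwoAutCore48.aut_mem hD hprim h22 β hy
  set I := (MulAut.conj : G →* MulAut G).range with hI
  have hcI : ∀ c : MulAut G, ∀ t : MulAut G, c * t * c⁻¹ ∈ I → t ∈ I := by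
    rintro c t ⟨g, hg⟩
    refine ⟨c⁻¹ g, ?_⟩
    rw [show t = c⁻¹ * MulAut.conj g * c by rw [hg]; group]
    exact MulEquiv.ext fun x => by simp [MulAut.mul_apply]
  -- fix the first member
  obtain ⟨b, hb, hτb⟩ := ThreeTransM22Fix17.exists_fixed hD hprim h22 τ h2
  obtain ⟨g₀, hg₀⟩ := hprim.1 b hb (dN PA.1) (T.mem _ (aN T))
  set c₁ := MulAut.conj g₀ with hc₁
  set τ₁ := c₁ * τ * c₁⁻¹ with hτ₁
  have h₁d : τ₁ (dN PA.1) = dN PA.1 := by
    rw [hτ₁, hc₁, ← map_inv, MulAut.mul_apply, MulAut.mul_apply, MulAut.conj_apply, MulAut.conj_apply,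
      show g₀⁻¹ * dN PA.1 * g₀⁻¹⁻¹ = b by rw [← hg₀]; group, hτb]
    exact hg₀
  have h₁2 : τ₁ * τ₁ = 1 := by
    rw [hτ₁, show c₁ * τ * c₁⁻¹ * (c₁ * τ * c₁⁻¹) = c₁ * (τ * τ) * c₁⁻¹ by group, h2]; group
  have h₁out : τ₁ ∉ I := fun h => hout (hcI c₁ τ h)
  -- a fixed maximal set
  set S := {B : Set G | ThreeTransM22Outer72.Blk D B ∧ {dN PA.1} ⊆ B} with hS
  have hodd : S.ncard % 2 = 1 := ThreeTransM22Outer72.odd_blocks T.ts
    (Set.singleton_subset_iff.mpr (T.mem _ (aN T))) (by simp)
  have hinv : ∀ z, τ₁ (τ₁ z) = z := fun z => DFunLike.congr_fun h₁2 z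
  have hmap : ∀ B ∈ S, τ₁ '' B ∈ S := by
    rintro B ⟨hB, hdB⟩
    refine ⟨⟨?_, ?_, fun y hy hc => ⟨τ₁ y, hB.max _ (haut τ₁ y hy) fun x hx => ?_, hinv y⟩⟩, ?_⟩
    · rintro _ ⟨x, hx, rfl⟩; exact haut τ₁ x (hB.sub hx)
    · rintro _ ⟨x, hx, rfl⟩ _ ⟨y, hy, rfl⟩; exact (hB.comm x hx y hy).map τ₁.toMonoidHom
    · have := (hc _ ⟨x, hx, rfl⟩).map τ₁.toMonoidHom
      simpa [hinv] using this
    · exact Set.singleton_subset_iff.mpr ⟨dN PA.1, hdB rfl, h₁d⟩
  have hSS : ∀ B : Set G, τ₁ '' (τ₁ '' B) = B := fun B => by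
    rw [Set.image_image]; simp [hinv]
  let σ : Equiv.Perm S :=
    { toFun := fun B => ⟨τ₁ '' B.1, hmap B.1 B.2⟩
      invFun := fun B => ⟨τ₁ '' B.1, hmap B.1 B.2⟩
      left_inv := fun B => Subtype.ext (hSS B.1)
      right_inv := fun B => Subtype.ext (hSS B.1) }
  haveI : Fintype S := Fintype.ofFinite _
  haveI : Fact (Nat.Prime 2) := ⟨Nat.prime_two⟩
  obtain ⟨⟨B, hB, hdB⟩, hBfix⟩ := Equiv.Perm.exists_fixed_point_of_prime (p := 2) (n := 1)
    (by rw [← Nat.card_eq_fintype_card, Nat.card_coe_set_eq]; omega) (σ := σ) (by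
      rw [pow_one, pow_two]
      exact Equiv.ext fun B => Subtype.ext (hSS B.1))
  have hBfix' : τ₁ '' B = B := congrArg Subtype.val hBfix
  -- transfer
  obtain ⟨F, _, _, _, hctx⟩ := ThreeTransM22Lift72.exists_ctx hD hprim h22
  obtain ⟨φ, X⟩ := hctx _ (T.mem _ (aN T))
  obtain ⟨k, -, hk⟩ := ThreeTransM22PlaneFrob48.exists_transfer X hD ⟨haut τ₁, h₁d⟩
    ⟨haut s, a_fix T⟩ h₁2 T.invol h₁out T.outer hB (hdB rfl)
    (fun x hx => hBfix' ▸ ⟨x, hx, rfl⟩) (bk_blk T) (a_bk T) (fun x hx => s_bk T hx)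
  set c₂ := MulAut.conj k
  set τ₂ := c₂ * τ₁ * c₂⁻¹ with hτ₂
  have h₂2 : τ₂ * τ₂ = 1 := by
    rw [hτ₂, show c₂ * τ₁ * c₂⁻¹ * (c₂ * τ₁ * c₂⁻¹) = c₂ * (τ₁ * τ₁) * c₂⁻¹ by group, h₁2]; group
  obtain ⟨g, hg⟩ := ThreeTransM22TwoAutCore48.index_two hD hprim h22
    (α := τ₂) (β := s) (fun h => h₁out (hcI c₂ τ₁ h)) T.outer
  have hτ₂g : τ₂ = s * MulAut.conj g := by rw [hg, ← mul_assoc, T.invol, one_mul]
  have hgc : ∀ x ∈ Bs dN, Commute g x := fun x hx => by
    have h1 : MulAut.conj g x = x := by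
      rw [hg, MulAut.mul_apply, hk x hx]
      exact DFunLike.congr_fun T.invol x
    exact mul_inv_eq_iff_eq_mul.mp h1
  rw [hτ₂g] at h₂2
  have hcj : IsConj τ (s * MulAut.conj g) := isConj_iff.mpr ⟨c₂ * c₁, by rw [← hτ₂g, hτ₂, hτ₁]; group⟩
  exact (agree_cases hD hprim h22 T h₂2 hgc).imp hcj.trans (Or.imp hcj.trans hcj.trans)

end Cfsg.Agent.ThreeTransM22OuterClass48
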