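import Cfsg.Agent.Lib.ThreeTransM22Pres51
import Cfsg.Agent.Lib.ThreeTransFi22Out41

/-!
# A group of type M(22) has an outer automorphism
-/

set_option autoImplicit false

namespace Cfsg.Agent.ThreeTransM22OuterExists48

/-- Type M(22): some automorphism is not inner. -/
theorem exists_outer {G : Type*} [Group G] [Finite G] {D : Set G}
    (hD : Cfsg.IsThreeTranspositionGroup D) (hprim : Cfsg.IsPrimitiveUnderConj D)
    (h22 : Cfsg.IsOfTypeM22 G D) :
    ∃ α : MulAut G, α ∉ (MulAut.conj : G →* MulAut G).range := by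
  obtain ⟨e⟩ := ThreeTransM22Pres51.nonempty_mulEquiv hD hprim h22
  by_contra hno
  push Not at hno
  have hall : (MulAut.conj : CosetCertU62.P22.Grp →* MulAut CosetCertU62.P22.Grp).range = ⊤ := by
    rw [eq_top_iff]
    intro β _
    obtain ⟨g, hg⟩ := hno (MulAut.congr e β)
    refine ⟨e.symm g, MulEquiv.ext fun x => e.injective ?_⟩
    have h := DFunLike.congr_fun hg (e x)
    simp [MulAut.congr] at h
    simp [h]
  have h := ThreeTransFi22Out41.card_out
  change Nat.card (MulAut CosetCertU62.P22.Grp ⧸ (MulAut.conj : CosetCertU62.P22.Grp →* _).range) = 2 at h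
  rw [← Subgroup.index, hall, Subgroup.index_top] at h
  norm_num at h

end Cfsg.Agent.ThreeTransM22OuterExists48
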