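import Cfsg.Agent.Lib.ThreeTransM22Levi54

/-!
# The centralizer of two commuting members in type M(22)

It maps onto `PSU₄(2)` with kernel of order `2^10`, commutative modulo the group of the two members.
-/

set_option autoImplicit false
set_option linter.unusedSectionVars false
set_option linter.style.haveILetI false

namespace Cfsg.Agent.ThreeTransM22Pair54

open Subgroup Cfsg.Agent.ThreeTransRel Cfsg.Agent.ThreeTransDescent
open Cfsg.Agent.UnitaryF4Geo Cfsg.Agent.UnitaryF4Line Matrix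
open Cfsg.Agent.ThreeTransM22Local72 Cfsg.Agent.ThreeTransM22Frame72 Cfsg.Agent.ThreeTransM22Lift72
open Cfsg.Agent.ThreeTransM22Triples17 Cfsg.Agent.ThreeTransM22Levi54

variable {G : Type*} [Group G] [Finite G] {D : Set G}

/-- Everything near `d` commuting with `b` and `x` commutes with `y`. -/
def Sub (D : Set G) (d b x y : G) : Prop :=
  ∀ z ∈ near D d, Commute z b → Commute z x → Commute z y

/-- The members near `d` other than `b` commuting with it. -/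
def N2 (D : Set G) (d b : G) : Set G := {x | x ∈ near D d ∧ x ≠ b ∧ Commute x b}

/-- The other members of the six of `d`, `b` and `x`. -/
def Fib (D : Set G) (d b x y : G) : Prop := y ∈ N2 D d b ∧ y ≠ x ∧ Sub D d b x y

variable {F : Type} [Field F] [Fintype F] [hF : FourField F]

local notation "π" => QuotientGroup.mk' (Subgroup.center (Cfsg.SU 6 F 2))
local notation "act" => OrthUnitaryTransvection.act

/-- A chart in which a given member near `d` is the standard point. -/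
theorem exists_ctx_u0 {d b : G} {φ : ↥(loc D d) →* Cfsg.PSU 6 F 2} (X : Ctx D d φ)
    (hb : b ∈ near D d) :
    ∃ (φ' : ↥(loc D d) →* Cfsg.PSU 6 F 2) (X' : Ctx D d φ'), Chart.L X'.chart u0 = b := by
  obtain ⟨m, hm, hmb⟩ := near_trans X (L_mem X iso_u0 u0_ne) hb
  let M : ↥(loc D d) := ⟨m, hm⟩
  set φ' := φ.comp (MulAut.conj M⁻¹).toMonoidHom with hφ'
  have hφx : ∀ x, φ' x = (φ M)⁻¹ * φ x * φ M := fun x => by
    simp [hφ', MulAut.conj_apply]
  have hconj : ∀ x : ↥(loc D d), (x : G) ∈ near D d →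
      ((MulAut.conj M⁻¹ x : ↥(loc D d)) : G) ∈ near D d := by
    intro x hx
    simpa using loc_near X (inv_mem hm) hx
  have C : Chart D d φ' := by
    refine ⟨X.chart.surj.comp (MulAut.conj M⁻¹).surjective, fun x => ?_, fun p q hp hq hpq => ?_,
      fun p q hp hq hpq => ?_, ?_⟩
    · rw [← X.chart.one, hφx]
      constructor
      · intro h
        calc φ x = φ M * ((φ M)⁻¹ * φ x * φ M) * (φ M)⁻¹ := by group
          _ = 1 := by rw [h, mul_one, mul_inv_cancel]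
      · intro h; rw [h, mul_one, inv_mul_cancel]
    · have h1 := X.chart.refl _ _ (hconj p hp) (hconj q hq) hpq
      have h2 : Commute (MulAut.conj M⁻¹ p) (MulAut.conj M⁻¹ q) := Subtype.ext h1.eq
      exact congrArg Subtype.val
        (show p * q = q * p from (MulAut.conj M⁻¹).injective (by simpa only [map_mul] using h2.eq))
    · exact (MulAut.conj M⁻¹).injective (X.chart.inj _ _ (hconj p hp) (hconj q hq) hpq)
    · convert X.chart.three using 1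
      ext y
      constructor
      · rintro ⟨x, hx, rfl⟩; exact ⟨_, hconj x hx, rfl⟩
      · rintro ⟨x, hx, rfl⟩
        refine ⟨MulAut.conj M x, ?_, ?_⟩
        · simpa using loc_near X hm hx
        · rw [hφx]; simp [MulAut.conj_apply, mul_assoc]
  let X' : Ctx D d φ' := ⟨X.ts, X.prim, X.centre, X.lines, X.self, X.only, X.mem, C⟩
  refine ⟨φ', X', L_eq X' iso_u0 u0_ne hb ?_⟩
  rw [hφx, show (⟨b, near_le_loc hb⟩ : ↥(loc D d)) =
    M * ⟨Chart.L X.chart u0, near_le_loc (L_mem X iso_u0 u0_ne)⟩ * M⁻¹ from Subtype.ext hmb.symm,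
    map_mul, map_mul, map_inv, L_img X iso_u0 u0_ne]
  group

variable {d : G} {φ : ↥(loc D d) →* Cfsg.PSU 6 F 2} (X : Ctx D d φ)

local notation "L" => ThreeTransM22Lift72.Chart.L X.chart

/-- The centralizer of the two members. -/
def Kp : Subgroup G := loc D d ⊓ centralizer ({L u0} : Set G)

include X

theorem d_ne_one : d ≠ 1 := fun e => by
  have h1 : ∀ g : G, g * d * g⁻¹ = d := fun g => by rw [e, mul_one, mul_inv_cancel]
  obtain ⟨x, hx⟩ : ∃ x, x ∈ near D d := ⟨_, L_mem X iso_u0 u0_ne⟩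
  obtain ⟨g, hg⟩ := X.prim.1 d X.mem x hx.1
  exact hx.2.1 (hg.symm.trans (h1 g))

theorem kp_le : Kp X ≤ loc D d := inf_le_left

theorem kp_fix {k : G} (hk : k ∈ Kp X) : k * L u0 * k⁻¹ = L u0 :=
  mul_inv_eq_iff_eq_mul.mpr (mem_centralizer_singleton_iff.mp hk.2)

theorem exists_lift {k : G} (hk : k ∈ Kp X) :
    ∃ A : ↥(P : Subgroup (Cfsg.SU 6 F 2)), φ ⟨k, kp_le X hk⟩ = π A.1 := by
  obtain ⟨A, hA⟩ := QuotientGroup.mk'_surjective (Subgroup.center (Cfsg.SU 6 F 2)) (φ ⟨k, kp_le X hk⟩)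
  have h1 := L_conj X hA.symm iso_u0 u0_ne
  change k * L u0 * k⁻¹ = _ at h1
  rw [kp_fix X hk] at h1
  obtain ⟨c, hc, e⟩ := L_inj X ((OrthUnitaryTransvection.herm_act A _ _).trans iso_u0)
    (OrthUnitaryPSU.act_smul_right_inj A u0_ne) iso_u0 u0_ne h1.symm
  exact ⟨⟨A, c, hc, e⟩, hA.symm⟩

theorem mem_kp_of_lift {k : G} (hk : k ∈ loc D d) {A : ↥(P : Subgroup (Cfsg.SU 6 F 2))}
    (hA : φ ⟨k, hk⟩ = π A.1) : k ∈ Kp X := by
  refine ⟨hk, mem_centralizer_singleton_iff.mpr (mul_inv_eq_iff_eq_mul.mp ?_)⟩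
  rw [show k * L u0 * k⁻¹ = _ from L_conj X hA iso_u0 u0_ne]
  obtain ⟨c, hc, e⟩ := A.2
  rw [e, L_smul X iso_u0 u0_ne hc]

theorem exists_psi : ∃ ψ : ↥(Kp X) →* Cfsg.PSU 4 F 2,
    (∀ (k : ↥(Kp X)) (A : ↥(P : Subgroup (Cfsg.SU 6 F 2))), φ ⟨k, kp_le X k.2⟩ = π A.1 →
      MulAut.conj (ψ k) = Ψ A) ∧ Function.Surjective ψ := by
  have hcinj := AutPSU52BalTwo.conj_injective (F := F) (n := 4) hF4 (by norm_num)
  have hrange : ∀ A : ↥(P : Subgroup (Cfsg.SU 6 F 2)), ∃ x : Cfsg.PSU 4 F 2, MulAut.conj x = Ψ A := by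
    intro A
    have h : Ψ A ∈ (Ψ : ↥(P : Subgroup (Cfsg.SU 6 F 2)) →* _).range := ⟨A, rfl⟩
    rwa [range_Ψ] at h
  choose A hA using fun k : ↥(Kp X) => exists_lift X k.2
  choose ρ hρ using hrange
  have hspec : ∀ (k : ↥(Kp X)) (B : ↥(P : Subgroup (Cfsg.SU 6 F 2))),
      φ ⟨k, kp_le X k.2⟩ = π B.1 → MulAut.conj (ρ (A k)) = Ψ B := fun k B hB =>
    (hρ _).trans (Ψ_congr ((hA k).symm.trans hB))
  refine ⟨MonoidHom.mk' (fun k => ρ (A k)) fun k l => hcinj ?_, fun k B hB => hspec k B hB, fun x => ?_⟩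
  · rw [map_mul, hρ (A k), hρ (A l), ← map_mul]
    refine hspec _ _ ?_
    rw [show (⟨((k * l : ↥(Kp X)) : G), kp_le X (k * l).2⟩ : ↥(loc D d)) =
      ⟨k, kp_le X k.2⟩ * ⟨l, kp_le X l.2⟩ from rfl, map_mul, Subgroup.coe_mul, map_mul, hA, hA]
  · have hx : MulAut.conj x ∈ (Ψ : ↥(P : Subgroup (Cfsg.SU 6 F 2)) →* _).range := by
      rw [range_Ψ]; exact ⟨x, rfl⟩
    obtain ⟨B, hB⟩ := hx
    obtain ⟨k, hk⟩ := X.chart.surj (π B.1)
    refine ⟨⟨k, mem_kp_of_lift X k.2 hk⟩, hcinj ?_⟩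
    exact (hspec _ B hk).trans hB

/-- The homomorphism onto `PSU₄(2)`. -/
noncomputable def psi : ↥(Kp X) →* Cfsg.PSU 4 F 2 := (exists_psi X).choose

theorem psi_spec (k : ↥(Kp X)) (A : ↥(P : Subgroup (Cfsg.SU 6 F 2)))
    (h : φ ⟨k, kp_le X k.2⟩ = π A.1) : MulAut.conj (psi X k) = Ψ A :=
  (exists_psi X).choose_spec.1 k A h

theorem psi_surj : Function.Surjective (psi X) := (exists_psi X).choose_spec.2

theorem psi_eq_one {k : ↥(Kp X)} {A : ↥(P : Subgroup (Cfsg.SU 6 F 2))}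
    (h : φ ⟨k, kp_le X k.2⟩ = π A.1) : psi X k = 1 ↔ Ψ A = 1 := by
  rw [← psi_spec X k A h]
  exact (map_eq_one_iff _ (AutPSU52BalTwo.conj_injective (F := F) hF4 (by norm_num))).symm

theorem d_mem : d ∈ Kp X :=
  ⟨X.self d X.mem, mem_centralizer_singleton_iff.mpr (L_mem X iso_u0 u0_ne).2.2.eq⟩

theorem b_mem : L u0 ∈ Kp X :=
  ⟨near_le_loc (L_mem X iso_u0 u0_ne), mem_centralizer_singleton_iff.mpr rfl⟩

theorem phi_d : φ ⟨d, X.self d X.mem⟩ = 1 := (X.chart.one _).mpr fun _ hy => hy.2.2.symm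

theorem psi_d : psi X ⟨d, d_mem X⟩ = 1 :=
  (psi_eq_one X (A := 1) ((phi_d X).trans (map_one π).symm)).mpr (map_one Ψ)

theorem psi_b : psi X ⟨L u0, b_mem X⟩ = 1 := by
  refine (psi_eq_one X (A := ⟨T u0 iso_u0, T_mem_P iso_u0 iso_u0⟩) (L_img X iso_u0 u0_ne)).mpr ?_
  rw [Ψ_T iso_u0 iso_u0, show T (tl (u0 : Fin 6 → F)) (iso_tl iso_u0 iso_u0) = 1 from
    OrthUnitaryTransvection.su_ext fun x => by
      rw [T_act, tl_u0, smul_zero, add_zero, OrthUnitaryTransvection.act_one]]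
  exact map_one _

/-- The kernel. -/
noncomputable def E : Subgroup G := (psi X).ker.map (Kp X).subtype

theorem mem_E {g : G} : g ∈ E X ↔ ∃ hg : g ∈ Kp X, psi X ⟨g, hg⟩ = 1 := by
  constructor
  · rintro ⟨k, hk, rfl⟩; exact ⟨k.2, hk⟩
  · rintro ⟨hg, h⟩; exact ⟨⟨g, hg⟩, h, rfl⟩

theorem card_kp : Nat.card ↥(Kp X) = 26542080 := by
  have h1 := card_eq_mul (loc D d) (near D d) (L_mem X iso_u0 u0_ne)
    (fun k hk => loc_near X hk (L_mem X iso_u0 u0_ne))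
    (fun y hy => near_trans X (L_mem X iso_u0 u0_ne) hy)
  rw [card_loc X (d_ne_one X), ncard_near X] at h1
  change 2 * 9196830720 = 693 * Nat.card ↥(Kp X) at h1
  omega

theorem card_ker : Nat.card (psi X).ker = 1024 := by
  have h := (psi X).ker.index_mul_card
  rw [index_ker, MonoidHom.range_eq_top.mpr (psi_surj X), Subgroup.card_top,
    PSUFourTwoPSp57.card_psu hF.card_eq, card_kp X] at h
  omega

theorem card_E : Nat.card ↥(E X) = 2 ^ 10 := by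
  rw [E, Subgroup.card_map_of_injective (Kp X).subtype_injective, card_ker X]
  norm_num

/-- Elements over `1` and the transvection at the point lie in the group of the two members. -/
theorem mem_V {k : G} (hk : k ∈ loc D d)
    (h : φ ⟨k, hk⟩ = 1 ∨ φ ⟨k, hk⟩ = π (T u0 iso_u0)) : k ∈ closure ({d, L u0} : Set G) := by
  have hd : d ∈ closure ({d, L u0} : Set G) := subset_closure (Or.inl rfl)
  rcases h with h | h
  · rcases X.ker h with e | e
    · rw [show k = 1 from e]; exact one_mem _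
    · rw [show k = d from e]; exact hd
  · have hb : L u0 ∈ closure ({d, L u0} : Set G) := subset_closure (Or.inr rfl)
    have h1 : φ (⟨k, hk⟩ * ⟨L u0, near_le_loc (L_mem X iso_u0 u0_ne)⟩⁻¹) = 1 := by
      rw [map_mul, map_inv, h, L_img X iso_u0 u0_ne, mul_inv_cancel]
    rcases X.ker h1 with e | e <;> simp only [Subgroup.coe_mul, Subgroup.coe_inv] at e
    · rw [mul_inv_eq_one.mp e]; exact hb
    · rw [show k = d * L u0 from mul_inv_eq_iff_eq_mul.mp e]; exact mul_mem hd hb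

theorem V_le : closure ({d, L u0} : Set G) ≤ E X := by
  rw [closure_le]
  rintro x (rfl | rfl)
  · exact (mem_E X).mpr ⟨d_mem X, psi_d X⟩
  · exact (mem_E X).mpr ⟨b_mem X, psi_b X⟩

theorem E_shape {x : G} (hx : x ∈ E X) : ∃ (hk : x ∈ loc D d) (A : Cfsg.SU 6 F 2) (a : F),
    a ≠ 0 ∧ φ ⟨x, hk⟩ = π A ∧ act A u0 = a • u0 ∧
      ∀ v, h v u0 = 0 → ∃ r : F, act A v = a • v + r • u0 := by
  obtain ⟨hxK, hx1⟩ := (mem_E X).mp hx
  obtain ⟨A, hA⟩ := exists_lift X hxK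
  suffices hz : A.1 ^ 1024 ∈ Subgroup.center (Cfsg.SU 6 F 2) by
    obtain ⟨b, hb, e1, e2⟩ := kernel_shape ((psi_eq_one X (k := ⟨x, hxK⟩) hA).mp hx1) hz
    exact ⟨kp_le X hxK, A.1, b, hb, hA, e1, e2⟩
  rw [← QuotientGroup.eq_one_iff]
  show π (A.1 ^ 1024) = 1
  rw [map_pow, ← hA, ← map_pow]
  refine (congrArg φ (Subtype.ext ?_)).trans (map_one φ)
  have h1 : (⟨x, hx⟩ : ↥(E X)) ^ Nat.card ↥(E X) = 1 := pow_card_eq_one'
  have h2 := congrArg Subtype.val h1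
  rw [SubmonoidClass.coe_pow, card_E X] at h2
  exact h2

theorem E_comm {x y : G} (hx : x ∈ E X) (hy : y ∈ E X) :
    x * y * x⁻¹ * y⁻¹ ∈ closure ({d, L u0} : Set G) ∧ x ^ 2 ∈ closure ({d, L u0} : Set G) := by
  obtain ⟨hx', A, a, ha, eA, e1, e2⟩ := E_shape X hx
  obtain ⟨hy', B, b, hb, eB, f1, f2⟩ := E_shape X hy
  obtain ⟨g1, g2⟩ := kernel_comm ha e1 e2 hb f1 f2
  refine ⟨mem_V X (k := x * y * x⁻¹ * y⁻¹)
    (mul_mem (mul_mem (mul_mem hx' hy') (inv_mem hx')) (inv_mem hy')) ?_, ?_⟩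
  · rw [show (⟨_, mul_mem (mul_mem (mul_mem hx' hy') (inv_mem hx')) (inv_mem hy')⟩ : ↥(loc D d)) =
      ⟨x, hx'⟩ * ⟨y, hy'⟩ * ⟨x, hx'⟩⁻¹ * ⟨y, hy'⟩⁻¹ from rfl, map_mul, map_mul, map_mul, map_inv,
      map_inv, eA, eB, ← map_inv, ← map_inv, ← map_mul, ← map_mul, ← map_mul]
    exact g1
  · rw [pow_two]
    refine mem_V X (mul_mem hx' hx') ?_
    rw [show (⟨_, mul_mem hx' hx'⟩ : ↥(loc D d)) = ⟨x, hx'⟩ * ⟨x, hx'⟩ from rfl, map_mul, eA,
      ← map_mul]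
    exact g2

theorem L_mem_kp {v : Fin 6 → F} (hv : h v v = 0) (hv0 : v ≠ 0) (hvu : h v u0 = 0) :
    L v ∈ Kp X :=
  ⟨near_le_loc (L_mem X hv hv0),
    mem_centralizer_singleton_iff.mpr ((L_comm X hv hv0 iso_u0 u0_ne).mpr hvu).eq⟩

theorem psi_L {v : Fin 6 → F} (hv : h v v = 0) (hv0 : v ≠ 0) (hvu : h v u0 = 0) :
    MulAut.conj (psi X ⟨L v, L_mem_kp X hv hv0 hvu⟩) = Ψ ⟨T v hv, T_mem_P hv hvu⟩ :=
  psi_spec X _ _ (L_img X hv hv0)

theorem center_eq : (Subgroup.center ↥(Kp X)).map (Kp X).subtype = closure ({d, L u0} : Set G) := by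
  refine le_antisymm ?_ ((closure_le _).mpr ?_)
  · rintro _ ⟨z, hz, rfl⟩
    obtain ⟨A, hA⟩ := exists_lift X z.2
    obtain ⟨b, hb, he⟩ := scalar_of_eigen (A := A.1) fun x hx hxu hx0 => by
      have h1 : (z : G) * L x * (z : G)⁻¹ = L x :=
        mul_inv_eq_iff_eq_mul.mpr (congrArg Subtype.val
          (Subgroup.mem_center_iff.mp hz ⟨L x, L_mem_kp X hx hx0 hxu⟩)).symm
      have h2 := L_conj X (k := ⟨z, kp_le X z.2⟩) hA hx hx0
      exact L_inj X ((OrthUnitaryTransvection.herm_act A.1 _ _).trans hx)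
        (OrthUnitaryPSU.act_smul_right_inj A.1 hx0) hx hx0 (h2.symm.trans h1)
    show (z : G) ∈ _
    refine mem_V X (kp_le X z.2) ?_
    rw [hA]
    exact scalar_on_perp hb he
  · rintro x (rfl | rfl)
    · exact ⟨⟨x, d_mem X⟩, Subgroup.mem_center_iff.mpr fun k => Subtype.ext
        (commute_d_of_mem_loc (kp_le X k.2)).symm.eq, rfl⟩
    · exact ⟨⟨_, b_mem X⟩, Subgroup.mem_center_iff.mpr fun k => Subtype.ext
        (mem_centralizer_singleton_iff.mp k.2.2), rfl⟩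

/-! ### The sixes through the two members -/

theorem vec_of_mem {x : G} (hx : x ∈ N2 D d (L u0)) :
    ∃ v : Fin 6 → F, ∃ (_ : h v v = 0) (_ : v ≠ 0) (_ : h v u0 = 0), tl v ≠ 0 ∧ L v = x := by
  obtain ⟨v, hv, hv0, rfl⟩ := L_surj X hx.1
  have hvu : h v u0 = 0 := (L_comm X hv hv0 iso_u0 u0_ne).mp hx.2.2
  refine ⟨v, hv, hv0, hvu, fun e => hx.2.1 ?_, rfl⟩
  have e' : v = v 0 • u0 := by
    conv_lhs => rw [decomp hvu, e, ι_zero, add_zero]
  rw [e', L_smul X iso_u0 u0_ne fun h0 => hv0 (by rw [e', h0, zero_smul])]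

theorem n2_mem_kp {x : G} (hx : x ∈ N2 D d (L u0)) : x ∈ Kp X :=
  ⟨near_le_loc hx.1, mem_centralizer_singleton_iff.mpr hx.2.2.eq⟩

/-- Members with the same image lie on a line with the point. -/
theorem sub_of_psi {x y : G} (hx : x ∈ N2 D d (L u0)) (hy : y ∈ N2 D d (L u0))
    (e : psi X ⟨y, n2_mem_kp X hy⟩ = psi X ⟨x, n2_mem_kp X hx⟩) : Sub D d (L u0) x y := by
  obtain ⟨v, hv, hv0, hvu, -, rfl⟩ := vec_of_mem X hx
  obtain ⟨v', hv', hv0', hvu', htl, rfl⟩ := vec_of_mem X hy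
  have e' : Ψ ⟨T v' hv', T_mem_P hv' hvu'⟩ = Ψ ⟨T v hv, T_mem_P hv hvu⟩ := by
    rw [← psi_L X hv hv0 hvu, ← psi_L X hv' hv0' hvu']
    exact congrArg _ e
  obtain ⟨c, a, -, rfl⟩ := eq_of_Ψ_T hv hvu hv' hvu' htl e'
  intro z hz hzb hzx
  obtain ⟨p, hp, hp0, rfl⟩ := L_surj X hz
  rw [L_comm X hp hp0 hv' hv0', h_smul_right, h_add_right, h_smul_right,
    (L_comm X hp hp0 iso_u0 u0_ne).mp hzb, (L_comm X hp hp0 hv hv0).mp hzx, mul_zero, add_zero,
    mul_zero]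

theorem fib_symm {x y : G} (hx : x ∈ N2 D d (L u0)) (h : Fib D d (L u0) x y) :
    Fib D d (L u0) y x := by
  classical
  obtain ⟨hy, hne, hs⟩ := h
  refine ⟨hx, hne.symm, ?_⟩
  obtain ⟨k, hk, hkb, hky⟩ := pair_trans X (L_mem X iso_u0 u0_ne) hy.1 hy.2.2.symm hy.2.1.symm
    hx.1 hx.2.2.symm hx.2.1.symm
  let Z : G → Set G := fun w => {z | z ∈ near D d ∧ Commute z (L u0) ∧ Commute z w}
  have hsub : Z x ⊆ Z y := fun z hz => ⟨hz.1, hz.2.1, hs z hz.1 hz.2.1 hz.2.2⟩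
  have hcard : (Z y).ncard ≤ (Z x).ncard := by
    refine Set.ncard_le_ncard_of_injOn (fun z => k * z * k⁻¹) ?_
      (fun p _ q _ e => mul_left_cancel (mul_right_cancel e)) (Set.toFinite _)
    intro z hz
    refine ⟨loc_near X hk hz.1, ?_, ?_⟩
    · exact hkb ▸ (Commute.conj_iff k).mpr hz.2.1
    · exact hky ▸ (Commute.conj_iff k).mpr hz.2.2
  have heq : Z x = Z y := Set.eq_of_subset_of_ncard_le hsub hcard (Set.toFinite _)
  intro z hz hzb hzy
  exact ((Set.ext_iff.mp heq z).mpr ⟨hz, hzb, hzy⟩).2.2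

/-- The three other members of the six of `d`, the point and `x`. -/
theorem fib_list {x : G} (hx : x ∈ N2 D d (L u0)) : ∃ l : List G, CList D l ∧ l.length = 3 ∧
    l.prod = d * L u0 * x ∧ ∀ q, q ∈ l ↔ Fib D d (L u0) x q := by
  classical
  have hbn := L_mem X iso_u0 u0_ne
  have hbx : L u0 ≠ x := fun e => hx.2.1 e.symm
  obtain ⟨l, h5⟩ := (X.lines d X.mem).1 (L u0) hbn x hx.1 hx.2.2.symm hbx
  have h6 := ThreeTransLine.six X.ts X.prim X.centre X.lines X.mem h5 hbn hx.1 hx.2.2.symm hbx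
  set l₂ := (l.erase (L u0)).erase x with hl₂
  have hxl : x ∈ l.erase (L u0) := h5.nodup.mem_erase_iff.mpr ⟨fun e => hx.2.1 e, h5.right_mem⟩
  have hmem₂ : ∀ q, q ∈ l₂ ↔ q ∈ l ∧ q ≠ L u0 ∧ q ≠ x := fun q => by
    rw [hl₂, (h5.nodup.erase _).mem_erase_iff, h5.nodup.mem_erase_iff]; tauto
  have hC : CList D l₂ := ⟨fun p hp => (h5.near_mem p ((hmem₂ p).mp hp).1).1,
    (h5.nodup.erase _).erase x,
    fun p hp q hq => h5.comm p ((hmem₂ p).mp hp).1 q ((hmem₂ q).mp hq).1⟩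
  refine ⟨l₂, hC, ?_, ?_, fun q => ?_⟩
  · rw [hl₂, List.length_erase_of_mem hxl, List.length_erase_of_mem h5.left_mem, h5.len]
  · have hperm : l.Perm (L u0 :: x :: l₂) :=
      (List.perm_cons_erase h5.left_mem).trans ((List.perm_cons_erase hxl).cons _)
    rw [hperm.prod_eq' (List.pairwise_of_forall_mem_list fun p hp q hq => h5.comm p hp q hq),
      List.prod_cons, List.prod_cons] at h6
    have hcl : CList D [d, L u0, x] := ⟨by simp [X.mem, hbn.1, hx.1.1],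
      by simp [hbn.2.1.symm, hx.1.2.1.symm, hbx],
      by simp [Commute.refl, hbn.2.2, hbn.2.2.symm, hx.1.2.2, hx.1.2.2.symm, hx.2.2, hx.2.2.symm]⟩
    have hsq := hcl.prod_sq X.ts
    simp only [List.prod_cons, List.prod_nil, mul_one] at hsq
    have e : d * L u0 * x * l₂.prod = 1 := by rw [← h6]; group
    rw [eq_inv_of_mul_eq_one_right e, inv_eq_of_mul_eq_one_right]
    rw [mul_assoc d (L u0) x]
    exact hsq
  · rw [hmem₂]
    constructor
    · rintro ⟨hq, hqb, hqx⟩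
      exact ⟨⟨h5.near_mem q hq, hqb, h5.comm q hq _ h5.left_mem⟩, hqx,
        fun z hz hzb hzx => h5.closed z hz hzb hzx q hq⟩
    · rintro ⟨hqN, hqx, hs⟩
      exact ⟨h5.maximal q hqN.1 hs, hqN.2.1, hqx⟩

/-- An element of the kernel moving a member to another one over the same image. -/
theorem exists_mover_elt {x y : G} (hx : x ∈ N2 D d (L u0)) (hy : y ∈ N2 D d (L u0))
    (e : psi X ⟨y, n2_mem_kp X hy⟩ = psi X ⟨x, n2_mem_kp X hx⟩) :
    ∃ g ∈ E X, g * y * g⁻¹ = x := by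
  obtain ⟨v, hv, hv0, hvu, -, rfl⟩ := vec_of_mem X hx
  obtain ⟨v', hv', hv0', hvu', htl, rfl⟩ := vec_of_mem X hy
  have e' : Ψ ⟨T v' hv', T_mem_P hv' hvu'⟩ = Ψ ⟨T v hv, T_mem_P hv hvu⟩ := by
    rw [← psi_L X hv hv0 hvu, ← psi_L X hv' hv0' hvu']
    exact congrArg _ e
  obtain ⟨c, a, hc, rfl⟩ := eq_of_Ψ_T hv hvu hv' hvu' htl e'
  have htl' : tl (v + a • u0) ≠ 0 := fun h0 => htl (by rw [tl_smul, h0, smul_zero])
  have hw : h (v + a • u0) (v + a • u0) = 0 := by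
    simp only [h_add_left, h_add_right, h_smul_left, h_smul_right, hv, hvu, h_comm_zero hvu,
      iso_u0, mul_zero, add_zero]
  have hwu : h (v + a • u0) u0 = 0 := by
    rw [h_add_left, h_smul_left, hvu, iso_u0, mul_zero, add_zero]
  have hw0 : v + a • u0 ≠ 0 := fun h0 => htl' (by rw [h0]; rfl)
  obtain ⟨p, p', hp, hpu, hp', hpu', hp0, hp0', hΨ, hact⟩ := exists_mover hw hwu htl' a
  have hp0 : p ≠ 0 := fun h0 => hp0 (by rw [h0]; rfl)
  have hp0' : p' ≠ 0 := fun h0 => hp0' (by rw [h0]; rfl)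
  have hq : psi X ⟨L p, L_mem_kp X hp hp0 hpu⟩ = psi X ⟨L p', L_mem_kp X hp' hp0' hpu'⟩ := by
    apply AutPSU52BalTwo.conj_injective (F := F) hF4 (by norm_num)
    rw [psi_L X hp hp0 hpu, psi_L X hp' hp0' hpu', hΨ]
  refine ⟨L p * L p', (mem_E X).mpr ⟨mul_mem (L_mem_kp X hp hp0 hpu) (L_mem_kp X hp' hp0' hpu'), ?_⟩, ?_⟩
  · rw [show (⟨L p * L p', _⟩ : ↥(Kp X)) = ⟨L p, L_mem_kp X hp hp0 hpu⟩ *
      ⟨L p', L_mem_kp X hp' hp0' hpu'⟩ from rfl, map_mul, ← hq, ← map_mul]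
    rw [show (⟨L p, L_mem_kp X hp hp0 hpu⟩ : ↥(Kp X)) * ⟨L p, L_mem_kp X hp hp0 hpu⟩ = 1 from
      Subtype.ext (X.ts.sq _ (L_mem X hp hp0).1), map_one]
  · have himg : φ (⟨L p, near_le_loc (L_mem X hp hp0)⟩ * ⟨L p', near_le_loc (L_mem X hp' hp0')⟩) =
        π (T p hp * T p' hp') := by
      rw [map_mul, L_img X hp hp0, L_img X hp' hp0', map_mul]
    rw [L_smul X hw hw0 hc]
    have h1 := L_conj X himg hw hw0
    simp only [Subgroup.coe_mul] at h1
    rw [h1, OrthUnitaryTransvection.act_mul, hact, add_assoc, vec_add_self, add_zero]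

end Cfsg.Agent.ThreeTransM22Pair54
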