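import Cfsg.Agent.Lib.ThreeTransM22Swap54
import Cfsg.Agent.Lib.ThreeTransM22Classes72

/-!
# The centralizer of the product of two commuting members in type M(22)

The centralizer of the two members has index two in it and the quotient by the kernel of order
`2^10` is the automorphism group of `PSU₄(2)`.
-/

set_option autoImplicit false
set_option linter.unusedSectionVars false
set_option linter.style.haveILetI false

namespace Cfsg.Agent.ThreeTransM22PairCent54

open Subgroup Cfsg.Agent.ThreeTransRel Cfsg.Agent.ThreeTransDescent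
open Cfsg.Agent.UnitaryF4Geo Cfsg.Agent.UnitaryF4Line Matrix
open Cfsg.Agent.ThreeTransM22Local72 Cfsg.Agent.ThreeTransM22Frame72 Cfsg.Agent.ThreeTransM22Lift72
open Cfsg.Agent.ThreeTransM22Triples17 Cfsg.Agent.ThreeTransM22Levi54 Cfsg.Agent.ThreeTransM22Pair54

variable {G : Type*} [Group G] [Finite G] {D : Set G}

theorem main (hD : Cfsg.IsThreeTranspositionGroup D) (hprim : Cfsg.IsPrimitiveUnderConj D)
    (h22 : Cfsg.IsOfTypeM22 G D) {d b : G} (hd : d ∈ D) (hb : b ∈ D) (hne : d ≠ b)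
    (hc : Commute d b) (K C V : Subgroup G) (hK : K = centralizer ({d, b} : Set G))
    (hC : C = centralizer ({d * b} : Set G)) (hV : V = closure ({d, b} : Set G)) :
    K ≤ C ∧ (K.subgroupOf C).index = 2 ∧ (Subgroup.center ↥K).map K.subtype = V ∧
      ∃ E : Subgroup G, V ≤ E ∧ E ≤ C ∧ (∀ c ∈ C, ∀ x ∈ E, c * x * c⁻¹ ∈ E) ∧
        Nat.card E = 2 ^ 10 ∧ (∀ x ∈ E, ∀ y ∈ E, x * y * x⁻¹ * y⁻¹ ∈ V ∧ x ^ 2 ∈ V) ∧
        ∃ (_ : (E.subgroupOf C).Normal) (F : Type) (_ : Field F) (_ : Fintype F),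
          Fintype.card F = 4 ∧ Nonempty (↥C ⧸ E.subgroupOf C ≃* MulAut (Cfsg.PSU 4 F 2)) := by
  classical
  have ht := tsys_of_group hD
  obtain ⟨F, _, _, hF, hctx⟩ := exists_ctx hD hprim h22
  haveI := hF
  have hloc := ThreeTransM22Outer72.centralizer_eq_loc hD hprim h22
  obtain ⟨φ₀, X₀⟩ := hctx d hd
  obtain ⟨φ, X, hu0⟩ := exists_ctx_u0 X₀ (b := b) ⟨hb, hne.symm, hc⟩
  subst hu0
  set b := Chart.L X.chart u0 with hbdef
  subst hC hV
  have hmemK : ∀ g, g ∈ Kp X ↔ g * d * g⁻¹ = d ∧ g * b * g⁻¹ = b := by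
    intro g
    rw [Kp, Subgroup.mem_inf, ← hloc d hd, mem_centralizer_singleton_iff,
      mem_centralizer_singleton_iff, mul_inv_eq_iff_eq_mul, mul_inv_eq_iff_eq_mul]
  obtain rfl : K = Kp X := by
    subst hK
    ext g
    rw [mem_centralizer_iff, hmemK, mul_inv_eq_iff_eq_mul, mul_inv_eq_iff_eq_mul]
    constructor
    · intro h; exact ⟨(h d (Or.inl rfl)).symm, (h b (Or.inr rfl)).symm⟩
    · rintro ⟨h1, h2⟩ x (rfl | rfl)
      · exact h1.symm
      · exact h2.symm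
  set C := centralizer ({d * b} : Set G) with hCdef
  -- the elements of `C` fix or exchange the two members
  have hswapC : ∀ g, g * d * g⁻¹ = b → g * b * g⁻¹ = d → g ∈ C := fun g h1 h2 => by
    refine mem_centralizer_singleton_iff.mpr (mul_inv_eq_iff_eq_mul.mp ?_)
    rw [show g * (d * b) * g⁻¹ = (g * d * g⁻¹) * (g * b * g⁻¹) by group, h1, h2, hc.eq]
  have hKC : Kp X ≤ C := fun g hg => by
    obtain ⟨h1, h2⟩ := (hmemK g).mp hg
    refine mem_centralizer_singleton_iff.mpr (mul_inv_eq_iff_eq_mul.mp ?_)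
    rw [show g * (d * b) * g⁻¹ = (g * d * g⁻¹) * (g * b * g⁻¹) by group, h1, h2]
  have hcases : ∀ g ∈ C, (g * d * g⁻¹ = d ∧ g * b * g⁻¹ = b) ∨
      (g * d * g⁻¹ = b ∧ g * b * g⁻¹ = d) := by
    intro g hg
    have hne' : g * d * g⁻¹ ≠ g * b * g⁻¹ := fun e => hne (mul_left_cancel (mul_right_cancel e))
    have hc' : Commute (g * d * g⁻¹) (g * b * g⁻¹) := (Commute.conj_iff g).mpr hc
    have h := ThreeTransPairs.pair_unique ht hprim (l := [g * d * g⁻¹, g * b * g⁻¹]) (l' := [d, b])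
      ⟨by simp [ht.conj g d hd, ht.conj g b hb], by simp [hne'],
        by simp [Commute.refl, hc', hc'.symm]⟩ rfl
      ⟨by simp [hd, hb], by simp [hne], by simp [Commute.refl, hc, hc.symm]⟩ rfl (by
        have := mul_inv_eq_iff_eq_mul.mpr (mem_centralizer_singleton_iff.mp hg)
        rw [show g * (d * b) * g⁻¹ = (g * d * g⁻¹) * (g * b * g⁻¹) by group] at this
        simpa using this)
    have h1 := (h (g * d * g⁻¹)).mp (by simp)
    have h2 := (h (g * b * g⁻¹)).mp (by simp)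
    simp only [List.mem_cons, List.not_mem_nil, or_false] at h1 h2
    rcases h1 with h1 | h1 <;> rcases h2 with h2 | h2
    · exact absurd (h1.trans h2.symm) hne'
    · exact Or.inl ⟨h1, h2⟩
    · exact Or.inr ⟨h1, h2⟩
    · exact absurd (h1.trans h2.symm) hne'
  obtain ⟨s, hs1, hs2⟩ : ∃ s : G, s * d * s⁻¹ = b ∧ s * b * s⁻¹ = d := by
    obtain ⟨k, hk⟩ := hprim.1 d hd b hb
    obtain ⟨ψ', Z⟩ := hctx b hb
    have h1 : k * b * k⁻¹ ∈ near D b := ⟨ht.conj k b hb,
      fun e => hne (mul_left_cancel (mul_right_cancel (hk.trans e.symm))),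
      by have := (Commute.conj_iff k).mpr hc; rwa [hk] at this⟩
    obtain ⟨m, hm, hmd⟩ := near_trans Z h1 ⟨hd, hne, hc.symm⟩
    refine ⟨m * k, ?_, by rw [← hmd]; group⟩
    rw [show m * k * d * (m * k)⁻¹ = m * (k * d * k⁻¹) * m⁻¹ by group, hk]
    exact mul_inv_eq_iff_eq_mul.mpr (commute_d_of_mem_loc hm).symm.eq
  have hsC : s ∈ C := hswapC s hs1 hs2
  have hindex : ((Kp X).subgroupOf C).index = 2 := by
    rw [index_eq_two_iff]
    refine ⟨⟨s, hsC⟩, fun g => ?_⟩
    simp only [mem_subgroupOf, Subgroup.coe_mul, hmemK,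
      show ∀ x : G, (g : G) * s * x * ((g : G) * s)⁻¹ = g * (s * x * s⁻¹) * (g : G)⁻¹ from
        fun x => by group, hs1, hs2]
    rcases hcases g g.2 with ⟨h1, h2⟩ | ⟨h1, h2⟩
    · exact Or.inr ⟨⟨h1, h2⟩, fun h => hne.symm (h2.symm.trans h.1)⟩
    · exact Or.inl ⟨⟨h2, h1⟩, fun h => hne (h.1.symm.trans h1)⟩
  have hnormK : ∀ c ∈ C, ∀ k ∈ Kp X, c * k * c⁻¹ ∈ Kp X := by
    intro c hcC k hk
    obtain ⟨k1, k2⟩ := (hmemK k).mp hk
    obtain ⟨c1, c2⟩ | ⟨c1, c2⟩ := hcases c hcC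
    · refine (hmemK _).mpr ⟨?_, ?_⟩
      · conv_lhs => rw [← c1, show c * k * c⁻¹ * (c * d * c⁻¹) * (c * k * c⁻¹)⁻¹ =
          c * (k * d * k⁻¹) * c⁻¹ by group, k1]
        exact c1
      · conv_lhs => rw [← c2, show c * k * c⁻¹ * (c * b * c⁻¹) * (c * k * c⁻¹)⁻¹ =
          c * (k * b * k⁻¹) * c⁻¹ by group, k2]
        exact c2
    · refine (hmemK _).mpr ⟨?_, ?_⟩
      · conv_lhs => rw [← c2, show c * k * c⁻¹ * (c * b * c⁻¹) * (c * k * c⁻¹)⁻¹ =
          c * (k * b * k⁻¹) * c⁻¹ by group, k2]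
        exact c2
      · conv_lhs => rw [← c1, show c * k * c⁻¹ * (c * d * c⁻¹) * (c * k * c⁻¹)⁻¹ =
          c * (k * d * k⁻¹) * c⁻¹ by group, k1]
        exact c1
  let cK : ↥C → (↥(Kp X) →* ↥(Kp X)) := fun c => MonoidHom.mk'
    (fun k => ⟨(c : G) * k * (c : G)⁻¹, hnormK c c.2 k k.2⟩) fun k l => Subtype.ext (by simp)
  have hcKsurj : ∀ c, Function.Surjective (cK c) := fun c k =>
    ⟨cK c⁻¹ k, Subtype.ext (by simp [cK]; group)⟩
  haveI hsimple := OrthUnitaryPSU.isSimpleGroup_PSU (F := F) (n := 4) (q := 2) hF4 (by norm_num)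
    (by norm_num)
  have hker : ∀ c, ∀ k, psi X k = 1 → psi X (cK c k) = 1 := by
    intro c k hk
    set η := (psi X).comp (cK c)
    have hη : Function.Surjective η := (psi_surj X).comp (hcKsurj c)
    rcases ((MonoidHom.normal_ker (psi X)).map η hη).eq_bot_or_eq_top with h | h
    · exact (Subgroup.mem_bot).mp (h ▸ mem_map_of_mem η (MonoidHom.mem_ker.mpr hk))
    · exfalso
      have h1 := Nat.card_le_card_of_surjective _ (η.subgroupMap_surjective (psi X).ker)
      rw [h, Subgroup.card_top, PSUFourTwoPSp57.card_psu hF.card_eq, card_ker X] at h1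
      omega
  have hind : ∀ c, ∀ k l, psi X k = psi X l → psi X (cK c k) = psi X (cK c l) := by
    intro c k l e
    have := hker c (k * l⁻¹) (by rw [map_mul, map_inv, e, mul_inv_cancel])
    rwa [map_mul, map_inv, map_mul, map_inv, mul_inv_eq_one] at this
  let inv := Function.surjInv (psi_surj X)
  let θ : ↥C → Cfsg.PSU 4 F 2 → Cfsg.PSU 4 F 2 := fun c x => psi X (cK c (inv x))
  have hθ : ∀ c k, θ c (psi X k) = psi X (cK c k) := fun c k =>
    hind c _ _ (Function.surjInv_eq (psi_surj X) _)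
  have hθmul : ∀ c c' x, θ (c * c') x = θ c (θ c' x) := by
    intro c c' x
    obtain ⟨k, rfl⟩ := psi_surj X x
    rw [hθ c' k, hθ (c * c') k, hθ c]
    congr 1
    exact Subtype.ext (by simp [cK, mul_assoc])
  have hθone : ∀ x, θ 1 x = x := by
    intro x
    obtain ⟨k, rfl⟩ := psi_surj X x
    rw [hθ]
    congr 1
    exact Subtype.ext (by simp [cK])
  let χ : ↥C →* MulAut (Cfsg.PSU 4 F 2) := MonoidHom.mk'
    (fun c =>
      { toFun := θ c
        invFun := θ c⁻¹
        left_inv := fun x => by rw [← hθmul, inv_mul_cancel, hθone]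
        right_inv := fun x => by rw [← hθmul, mul_inv_cancel, hθone]
        map_mul' := fun x y => by
          obtain ⟨k, rfl⟩ := psi_surj X x
          obtain ⟨l, rfl⟩ := psi_surj X y
          rw [← map_mul, hθ, hθ, hθ, map_mul, map_mul] })
    fun c c' => MulEquiv.ext fun x => hθmul c c' x
  have hχ : ∀ c k, χ c (psi X k) = psi X (cK c k) := hθ
  -- an element inducing the trivial automorphism fixes both members
  have hkey : ∀ t : ↥C, χ t = 1 → (t : G) ∈ Kp X := by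
    intro t hχt
    by_contra htK
    obtain ⟨t1, t2⟩ : (t : G) * d * (t : G)⁻¹ = b ∧ (t : G) * b * (t : G)⁻¹ = d :=
      (hcases t t.2).resolve_left fun h => htK ((hmemK _).mpr h)
    have hn2 : ∀ (g : G), g * d * g⁻¹ = b → g * b * g⁻¹ = d → ∀ x ∈ N2 D d b,
        g * x * g⁻¹ ∈ N2 D d b := by
      intro g g1 g2 x hx
      refine ⟨⟨ht.conj g x hx.1.1, fun e => hx.2.1 (mul_left_cancel (mul_right_cancel (e.trans g2.symm))),
        g2 ▸ (Commute.conj_iff g).mpr hx.2.2.symm⟩,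
        fun e => hx.1.2.1 (mul_left_cancel (mul_right_cancel (e.trans g1.symm))),
        g1 ▸ (Commute.conj_iff g).mpr hx.1.2.2.symm⟩
    set v : Fin 6 → F := ι ![1, 1, 0, 0] with hvdef
    have hv : h v v = 0 := by
      rw [hvdef, h_ι]
      simp only [h, Fin.sum_univ_succ]
      simp
      exact add_self 1
    have hvt : tl v ≠ 0 := fun e => by
      rw [hvdef, tl_ι] at e
      simpa using congrFun e 0
    have hv0 : v ≠ 0 := fun e => hvt (by rw [e]; rfl)
    have haN : Chart.L X.chart v ∈ N2 D d b := by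
      refine ⟨L_mem X hv hv0, fun e => ?_, (L_comm X hv hv0 iso_u0 u0_ne).mpr (ι_u0 _)⟩
      obtain ⟨k, -, e1⟩ := L_inj X hv hv0 iso_u0 u0_ne e
      exact hvt (by rw [e1, tl_smul, tl_u0, smul_zero])
    set a := Chart.L X.chart v
    have hψ : ∀ (k : ↥(Kp X)), psi X (cK t k) = psi X k := fun k => by rw [← hχ, hχt]; rfl
    have hy := hn2 _ t1 t2 a haN
    obtain ⟨g, hg, hga⟩ := exists_mover_elt X haN hy (hψ ⟨a, n2_mem_kp X haN⟩)
    obtain ⟨hgK, hg1⟩ := (mem_E X).mp hg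
    obtain ⟨g1, g2⟩ := (hmemK g).mp hgK
    set t' := g * (t : G) with ht'
    have hconj : ∀ x : G, t' * x * t'⁻¹ = g * ((t : G) * x * (t : G)⁻¹) * g⁻¹ := fun x => by
      rw [ht']; group
    have u1 : t' * d * t'⁻¹ = b := by rw [hconj, t1, g2]
    have u2 : t' * b * t'⁻¹ = d := by rw [hconj, t2, g1]
    have u3 : t' * a * t'⁻¹ = a := by rw [hconj, hga]
    obtain ⟨φa, Y⟩ := hctx a haN.1.1
    have ht'loc : t' ∈ loc D a := by
      rw [← hloc a haN.1.1, mem_centralizer_singleton_iff]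
      exact mul_inv_eq_iff_eq_mul.mp u3
    have hfp := ThreeTransM22Classes72.exists_frame_pair Y
      (b := d) (c := b) ⟨hd, haN.1.2.1.symm, haN.1.2.2.symm⟩ ⟨hb, haN.2.1.symm, haN.2.2⟩ hc hne
    obtain ⟨e, f, hfr, he0, he1⟩ := hfp
    refine ThreeTransM22Swap54.no_swap Y hfr he0 he1 haN (fun x hx => fib_list X hx)
      (fun x y hx h => fib_symm X hx h) ht'loc u1 u2 fun x hx => ?_
    by_cases e : t' * x * t'⁻¹ = x
    · exact Or.inl e
    refine Or.inr ⟨hn2 t' u1 u2 x hx, e, sub_of_psi X hx (hn2 t' u1 u2 x hx) ?_⟩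
    rw [show (⟨t' * x * t'⁻¹, n2_mem_kp X (hn2 t' u1 u2 x hx)⟩ : ↥(Kp X)) =
      ⟨g, hgK⟩ * cK t ⟨x, n2_mem_kp X hx⟩ * ⟨g, hgK⟩⁻¹ from Subtype.ext (by simp [cK, ht', mul_assoc]),
      map_mul, map_mul, map_inv, hg1, hψ]
    simp
  have hEC : E X ≤ C := fun x hx => hKC ((mem_E X).mp hx).1
  have hχker : χ.ker = (E X).subgroupOf C := by
    ext c
    rw [MonoidHom.mem_ker, mem_subgroupOf, mem_E X]
    constructor
    · intro h
      have hcK := hkey c h
      refine ⟨hcK, AutPSU52BalTwo.conj_injective (F := F) hF4 (by norm_num) ?_⟩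
      rw [map_one, ← h]
      refine MulEquiv.ext fun x => ?_
      obtain ⟨k, rfl⟩ := psi_surj X x
      rw [hχ, MulAut.conj_apply, ← map_inv, ← map_mul, ← map_mul]
      rfl
    · rintro ⟨hcK, h1⟩
      refine MulEquiv.ext fun x => ?_
      obtain ⟨k, rfl⟩ := psi_surj X x
      rw [hχ, show cK c k = ⟨(c : G), hcK⟩ * k * ⟨(c : G), hcK⟩⁻¹ from Subtype.ext rfl,
        map_mul, map_mul, map_inv, h1]
      simp
  have hnormE : ∀ c ∈ C, ∀ x ∈ E X, c * x * c⁻¹ ∈ E X := by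
    intro c hcC x hx
    obtain ⟨hxK, h1⟩ := (mem_E X).mp hx
    exact (mem_E X).mpr ⟨hnormK c hcC x hxK, hker ⟨c, hcC⟩ ⟨x, hxK⟩ h1⟩
  refine ⟨hKC, hindex, center_eq X, E X, V_le X, hEC, hnormE, card_E X,
    fun x hx y hy => E_comm X hx hy, ?_⟩
  haveI hnorm : ((E X).subgroupOf C).Normal := hχker ▸ MonoidHom.normal_ker χ
  have hcardC : Nat.card ↥C = 53084160 := by
    have h1 := ((Kp X).subgroupOf C).card_mul_index
    rw [hindex, Nat.card_congr (subgroupOfEquivOfLe hKC).toEquiv, card_kp X] at h1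
    omega
  have hrange : χ.range = ⊤ := by
    apply Subgroup.eq_top_of_card_eq
    have h1 := χ.ker.card_mul_index
    rw [index_ker, hχker, Nat.card_congr (subgroupOfEquivOfLe hEC).toEquiv, card_E X, hcardC] at h1
    haveI : Fact (Nat.Prime 2) := ⟨Nat.prime_two⟩
    rw [AutPSU52Api.card_mulAut (p := 2) (f := 1) (by norm_num) le_rfl hF4 (by norm_num) (by norm_num),
      PSUFourTwoPSp57.card_psu hF.card_eq]
    rw [show Nat.gcd 4 (2 + 1) * (2 * 1) * 25920 = 51840 by norm_num]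
    omega
  exact ⟨hnorm, F, inferInstance, inferInstance, hF.card_eq,
    ⟨(QuotientGroup.quotientMulEquivOfEq hχker.symm).trans
      (QuotientGroup.quotientKerEquivOfSurjective χ (MonoidHom.range_eq_top.mp hrange))⟩⟩

end Cfsg.Agent.ThreeTransM22PairCent54
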