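import Cfsg.Agent.Lib.ThreeTransM22PairCent54

/-!
# An element exchanging two commuting members is outer on their centralizer in type M(22)
-/

set_option autoImplicit false
set_option linter.unusedSectionVars false
set_option linter.style.haveILetI false

namespace Cfsg.Agent.ThreeTransM22QuadSwap54

open Subgroup Cfsg.Agent.ThreeTransRel Cfsg.Agent.ThreeTransDescent
open Cfsg.Agent.UnitaryF4Geo Cfsg.Agent.ThreeTransM22Frame72 Cfsg.Agent.ThreeTransM22Lift72
open Cfsg.Agent.ThreeTransM22Pair54 Cfsg.Agent.UnitaryF4Line Cfsg.Agent.ThreeTransM22Triples17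
open Cfsg.Agent.ThreeTransM22Local72

/-- The inner automorphisms of a simple group are their own normal closure and have trivial centralizer. -/
theorem inn_facts {T : Type*} [Group T] [IsSimpleGroup T]
    (hinj : Function.Injective (MulAut.conj : T →* MulAut T)) :
    (MulAut.conj : T →* MulAut T).range.Normal ∧
      ∀ α : MulAut T, (∀ x, Commute α (MulAut.conj x)) → α = 1 := by
  have key : ∀ (α : MulAut T) (x : T), α * MulAut.conj x * α⁻¹ = MulAut.conj (α x) := fun α x =>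
    MulEquiv.ext fun y => by simp [MulAut.conj_apply]
  refine ⟨⟨?_⟩, fun α h => MulEquiv.ext fun x => hinj ?_⟩
  · rintro _ ⟨x, rfl⟩ α
    exact ⟨α x, (key α x).symm⟩
  · rw [← key, (h x).eq, mul_inv_cancel_right]; rfl

variable {G : Type*} [Group G] [Finite G] {D : Set G} {d : G}
variable {F : Type} [Field F] [Fintype F] [hF : FourField F] {φ : ↥(loc D d) →* Cfsg.PSU 6 F 2}

theorem not_inner (hD : Cfsg.IsThreeTranspositionGroup D) (hprim : Cfsg.IsPrimitiveUnderConj D)
    (h22 : Cfsg.IsOfTypeM22 G D) (X : Ctx D d φ) {t : G}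
    (hkp : ∀ g, g ∈ Kp X ↔ Commute g d ∧ Commute g (Chart.L X.chart u0))
    (h1 : t * d * t⁻¹ = Chart.L X.chart u0) (h2 : t * Chart.L X.chart u0 * t⁻¹ = d)
    (hfix : ∀ (k : ↥(Kp X)) (hk : t * k * t⁻¹ ∈ Kp X), psi X ⟨t * k * t⁻¹, hk⟩ = psi X k) :
    False := by
  classical
  set b := Chart.L X.chart u0 with hb
  have hbn : b ∈ near D d := L_mem X iso_u0 u0_ne
  obtain ⟨hKC, hidx, -, E, -, hEC, -, hE, -, hnorm, F', iF, jF, hF', ⟨e⟩⟩ :=
    ThreeTransM22PairCent54.main hD hprim h22 X.mem hbn.1 hbn.2.1.symm hbn.2.2 (Kp X)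
      (centralizer ({d * b} : Set G)) (closure ({d, b} : Set G))
      (by
        ext g
        rw [hkp, mem_centralizer_iff]
        constructor
        · rintro ⟨a1, a2⟩ x (rfl | rfl)
          exacts [a1.symm.eq, a2.symm.eq]
        · exact fun h => ⟨(h d (Or.inl rfl)).symm, (h b (Or.inr rfl)).symm⟩) rfl rfl
  letI := iF
  letI := jF
  haveI : FourField F' := ⟨hF'⟩
  haveI := hnorm
  set C := centralizer ({d * b} : Set G) with hC
  set K := (Kp X).subgroupOf C with hK
  have htC : t ∈ C := mem_centralizer_singleton_iff.mpr (mul_inv_eq_iff_eq_mul.mp (by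
    rw [show t * (d * b) * t⁻¹ = (t * d * t⁻¹) * (t * b * t⁻¹) by group, h1, h2, hbn.2.2.eq]))
  have htK : (⟨t, htC⟩ : ↥C) ∉ K := fun h => hbn.2.1 (by
    rw [← h1, mul_inv_eq_iff_eq_mul.mpr ((hkp t).mp h).1.eq])
  haveI : K.Normal := normal_of_index_eq_two hidx
  -- the kernel of the map to `PSU₄(2)` is `E`
  haveI hs := OrthUnitaryPSU.isSimpleGroup_PSU (F := F) (n := 4) (q := 2) hF.card_eq (by norm_num)
    (by norm_num)
  haveI hs' := OrthUnitaryPSU.isSimpleGroup_PSU (F := F') (n := 4) (q := 2) hF' (by norm_num)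
    (by norm_num)
  obtain ⟨hInn, hcentral⟩ := inn_facts (T := Cfsg.PSU 4 F' 2)
    (AutPSU52BalTwo.conj_injective (F := F') (n := 4) (q := 2) hF' (by norm_num))
  let η : ↥C →* MulAut (Cfsg.PSU 4 F' 2) := e.toMonoidHom.comp (QuotientGroup.mk' _)
  have hη : Function.Surjective η := e.surjective.comp (QuotientGroup.mk'_surjective _)
  have hηker : η.ker = E.subgroupOf C := by
    ext x
    rw [MonoidHom.mem_ker]
    show e (QuotientGroup.mk x) = 1 ↔ _
    rw [map_eq_one_iff e e.injective, QuotientGroup.eq_one_iff]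
  have hkerC : ∀ (x : ↥C) (hx : (x : G) ∈ Kp X), psi X ⟨x, hx⟩ = 1 → ∀ c : ↥C,
      ∃ hc : ((c * x * c⁻¹ : ↥C) : G) ∈ Kp X, psi X ⟨_, hc⟩ = 1 := by
    intro x hx hx1 c
    have hmemK : ∀ k : ↥(Kp X), (c : G) * k * (c : G)⁻¹ ∈ Kp X := fun k =>
      (inferInstance : K.Normal).conj_mem ⟨(k : G), hKC k.2⟩ k.2 c
    let cK : ↥(Kp X) →* ↥(Kp X) := MonoidHom.mk' (fun k => ⟨_, hmemK k⟩)
      fun k l => Subtype.ext (by simp)
    have hcK : Function.Surjective ((psi X).comp cK) := by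
      refine (psi_surj X).comp fun k => ?_
      have h' : (c : G)⁻¹ * k * (c : G) ∈ Kp X := by
        have := (inferInstance : K.Normal).conj_mem ⟨(k : G), hKC k.2⟩ k.2 c⁻¹
        simpa [K, mem_subgroupOf] using this
      exact ⟨⟨_, h'⟩, Subtype.ext (by simp [cK]; group)⟩
    refine ⟨hmemK ⟨x, hx⟩, ?_⟩
    rcases ((MonoidHom.normal_ker (psi X)).map _ hcK).eq_bot_or_eq_top with h | h
    · exact mem_bot.mp (h ▸ mem_map_of_mem _ (MonoidHom.mem_ker.mpr hx1) :
        psi X (cK ⟨x, hx⟩) ∈ (⊥ : Subgroup (Cfsg.PSU 4 F 2)))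
    · exfalso
      have h1 := Nat.card_le_card_of_surjective _ (((psi X).comp cK).subgroupMap_surjective (psi X).ker)
      rw [h, Subgroup.card_top, PSUFourTwoPSp57.card_psu hF.card_eq, card_ker X] at h1
      omega
  set E₁ := (ThreeTransM22Pair54.E X).subgroupOf C with hE₁
  haveI hE₁n : E₁.Normal := ⟨fun x hx c => by
    obtain ⟨hxK, hx1⟩ := (mem_E X).mp hx
    exact (mem_E X).mpr (hkerC x hxK hx1 c)⟩
  have hE₁C : ThreeTransM22Pair54.E X ≤ C := fun x hx => hKC ((mem_E X).mp hx).1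
  have himg : E₁.map η = ⊥ := by
    haveI := hE₁n.map η hη
    set N := E₁.map η with hN
    have hcN : Nat.card ↥N ≤ 1024 := by
      refine (Nat.card_le_card_of_surjective _ (η.subgroupMap_surjective E₁)).trans ?_
      rw [Nat.card_congr (subgroupOfEquivOfLe hE₁C).toEquiv, card_E X]
      norm_num
    have hdis : N ⊓ (MulAut.conj : Cfsg.PSU 4 F' 2 →* _).range = ⊥ := by
      rcases ((inferInstance : N.Normal).comap MulAut.conj).eq_bot_or_eq_top with h | h
      · refine eq_bot_iff.mpr ?_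
        rintro _ ⟨hy, ⟨x, rfl⟩⟩
        rw [show x = 1 from mem_bot.mp (h ▸ (hy : x ∈ N.comap MulAut.conj)), map_one]
        exact one_mem _
      · exfalso
        have h3 : (MulAut.conj : Cfsg.PSU 4 F' 2 →* _).range ≤ N := by
          rintro _ ⟨x, rfl⟩; exact (h.ge (mem_top x) : x ∈ N.comap MulAut.conj)
        have h4 := Nat.le_of_dvd Nat.card_pos (Subgroup.card_dvd_of_le h3)
        rw [Nat.card_congr (MonoidHom.ofInjective
          (AutPSU52BalTwo.conj_injective (F := F') (n := 4) (q := 2) hF' (by norm_num))).toEquiv.symm,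
          PSUFourTwoPSp57.card_psu hF'] at h4
        omega
    refine eq_bot_iff.mpr fun α hα => mem_bot.mpr (hcentral α fun x => ?_)
    exact Subgroup.commute_of_normal_of_disjoint _ _ inferInstance hInn
      (disjoint_iff.mpr hdis) α _ hα ⟨x, rfl⟩
  have hEeq : E₁ = E.subgroupOf C := by
    refine eq_of_le_of_card_ge (by rw [← hηker]; exact (map_eq_bot_iff E₁).mp himg) ?_
    rw [Nat.card_congr (subgroupOfEquivOfLe hEC).toEquiv,
      Nat.card_congr (subgroupOfEquivOfLe hE₁C).toEquiv, hE, card_E X]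
  -- the image of the joint centralizer is the inner part
  have hEK : η.ker ≤ K := by
    rw [hηker, ← hEeq]
    exact fun x hx => ((mem_E X).mp hx).1
  haveI := (inferInstance : K.Normal).map η hη
  have hKη : (K.map η).index = 2 := by
    rw [Subgroup.index_map_eq K hη hEK, hidx]
  have hIK : (MulAut.conj : Cfsg.PSU 4 F' 2 →* _).range ≤ K.map η := by
    rcases ((inferInstance : (K.map η).Normal).comap MulAut.conj).eq_bot_or_eq_top with h | h
    · exfalso
      have hinj2 : Function.Injective ((QuotientGroup.mk' (K.map η)).comp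
          (MulAut.conj : Cfsg.PSU 4 F' 2 →* _)) := by
        rw [← MonoidHom.ker_eq_bot_iff, ← MonoidHom.comap_ker, QuotientGroup.ker_mk', h]
      have := Nat.card_le_card_of_injective _ hinj2
      rw [PSUFourTwoPSp57.card_psu hF', ← Subgroup.index_eq_card, hKη] at this
      omega
    · rintro _ ⟨x, rfl⟩; exact (h.ge (mem_top x) : x ∈ (K.map η).comap MulAut.conj)
  refine htK (hEK (MonoidHom.mem_ker.mpr (hcentral _ fun x => ?_)))
  obtain ⟨k, hk, e'⟩ := mem_map.mp (hIK ⟨x, rfl⟩)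
  rw [← e']
  have hk' : (k : G) ∈ Kp X := hk
  have hck : t * (k : G) * t⁻¹ ∈ Kp X :=
    (inferInstance : K.Normal).conj_mem k hk ⟨t, htC⟩
  have h3 := hfix ⟨k, hk'⟩ hck
  have h4 : (⟨t, htC⟩ * k * (⟨t, htC⟩ : ↥C)⁻¹ * k⁻¹ : ↥C) ∈ η.ker := by
    rw [hηker, ← hEeq]
    refine (mem_E X).mpr ⟨mul_mem hck (inv_mem hk'), ?_⟩
    have e4 : psi X (⟨_, hck⟩ * (⟨k, hk'⟩ : ↥(Kp X))⁻¹) = 1 := by
      rw [map_mul, map_inv, h3, mul_inv_cancel]
    exact e4
  rw [MonoidHom.mem_ker, map_mul, map_mul, map_mul, map_inv, map_inv, mul_inv_eq_one,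
    mul_inv_eq_iff_eq_mul] at h4
  exact h4

end Cfsg.Agent.ThreeTransM22QuadSwap54
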