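import Cfsg.Agent.Lib.ThreeTransM22OutData48
import Cfsg.Agent.Lib.ThreeTransM22Aut59
import Cfsg.Agent.Lib.PSp62Multiplier
import Cfsg.Agent.S0270

/-!
# The fixed points of the outer involution of a group of type M(22)

The members fixed by it generate them; those commuting with a fixed member form `2 × PSp₆(2)`.
-/

set_option autoImplicit false
set_option maxRecDepth 100000
set_option linter.unusedSectionVars false
set_option maxHeartbeats 800000

namespace Cfsg.Agent.ThreeTransM22SFix48

open Subgroup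
open Cfsg.Agent.CosetCertCore Cfsg.Agent.CosetCertTable
open Cfsg.Agent.ThreeTransAut41 (cntFrom)
open Cfsg.Agent.ThreeTransRel Cfsg.Agent.ThreeTransDescent
open Cfsg.Agent.ThreeTransM22Tab48 Cfsg.Agent.ThreeTransM22Word48 Cfsg.Agent.ThreeTransM22OutData48
open Cfsg.Agent.ThreeTransFi22Out41 (e pi)
open Cfsg.Agent.CosetCertU62 (T22)
open Cfsg.Agent.PSp62MultiplierE7 (adj cox Braids)

theorem all_ok : ([PA, PB, PR, PY] ++ T7 ++ CH ++ PP).all ptOk = true := by decide +kernel

theorem t7_near : T7.all (fun P => Nat.beq (pi P.1) P.1 && !Nat.beq P.1 PA.1 && cm PA P.1) = true := by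
  decide +kernel

theorem t7_ch : (CH.map Prod.fst).Nodup ∧ ∀ P ∈ CH, P.1 ≠ PA.1 ∧ P ∈ T7 := by decide +kernel

theorem ch_all : ∀ P ∈ T7, P ∈ CH := by decide +kernel

theorem reach63 : reach T7 (T7.map Prod.fst) TR63 = true := by decide +kernel

theorem cover63 : allFrom (fun q => !(Nat.beq (pi q) q && cm PA q && !Nat.beq q PA.1) ||
    (T7.map Prod.fst ++ TR63.map Prod.fst).elem q) T22.N 0 = true := by
  decide +kernel

theorem reachNear : reach (T7 ++ [PY]) ((T7 ++ [PY]).map Prod.fst) TRN = true := by decide +kernel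

theorem coverNear : allFrom (fun q => !(cm PA q && !Nat.beq q PA.1) ||
    ((T7 ++ [PY]).map Prod.fst ++ TRN.map Prod.fst).elem q) T22.N 0 = true := by
  decide +kernel

theorem py_facts : (cm PA PY.1 && !Nat.beq PY.1 PA.1 && (PP.all fun P =>
    Nat.beq P.1 PA.1 || (Nat.beq (pi P.1) P.1 && cm PA P.1))) = true := by
  decide +kernel

theorem py_cand : allFrom (fun p => !cand (fun _ => true) PP PY.1 p ||
    (Nat.beq p PY.1 || Nat.beq p (pi PY.1))) T22.N 0 = true := by
  decide +kernel

theorem count63 : prodC (fun p => Nat.beq (pi p) p) [PA] CH = 1451520 := by decide +kernel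

theorem braid_ok : ((List.finRange 7).all fun i => (List.finRange 7).all fun j =>
    let P := T7.getD i.val PA
    let Q := T7.getD j.val PA
    if adj i j then same (wp [P, Q, P]) (wp [Q, P, Q]) else same (wp [P, Q]) (wp [Q, P])) = true := by
  decide +kernel

theorem cox_ok : same (wp (List.replicate 9 T7).flatten) (wp [PA]) = true := by decide +kernel

theorem moves : same (wp [T7.getD 0 PA]) (wp [PA]) = false := by decide +kernel

theorem far_ok : allFrom (fun q => !(Nat.beq (pi q) q) || (Nat.beq q PA.1 || (!cm PA q || !cm PR q)))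
    T22.N 0 = true := by
  decide +kernel

theorem pr_facts : Nat.beq (pi PR.1) PR.1 = true ∧ cm PA PR.1 = false := by decide +kernel

theorem pa_fix : pi PA.1 = PA.1 := by decide +kernel

theorem fixed360 : cntFrom (fun p => Nat.beq (pi p) p) T22.N 0 0 = 360 :=
  ThreeTransFi22Out41.pi_fix

theorem z2_cases : ∀ m : Multiplicative (ZMod 2), m = 1 ∨ m = Multiplicative.ofAdd 1 := by decide

theorem all_of {f : Nat → Bool} (h : allFrom f T22.N 0 = true) {q : Nat} (hq : q < T22.N) :
    f q = true :=
  (allFrom_iff _ _ _).mp h q (Nat.zero_le _) (by omega)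

variable {G : Type*} [Group G] [Finite G] {D : Set G}

/-- The fixed points of an automorphism. -/
def fixS (s : MulAut G) : Subgroup G where
  carrier := {g | s g = g}
  one_mem' := map_one s
  mul_mem' := fun {a b} ha hb => by
    show s (a * b) = a * b
    rw [map_mul, ha, hb]
  inv_mem' := fun {a} ha => by
    show s a⁻¹ = a⁻¹
    rw [map_inv, ha]

theorem mem_fixS {s : MulAut G} {g : G} : g ∈ fixS s ↔ s g = g := Iff.rfl

variable (hD : Cfsg.IsThreeTranspositionGroup D) (hprim : Cfsg.IsPrimitiveUnderConj D)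
  (h22 : Cfsg.IsOfTypeM22 G D)
include hD hprim h22

/-- An element commuting with a member and those near it is trivial or the member. -/
theorem only_member {a g : G} (ha : a ∈ D) (h1 : Commute a g) (h2 : ∀ y ∈ near D a, Commute y g) :
    g = 1 ∨ g = a := by
  obtain ⟨F, _, _, _, hctx⟩ := ThreeTransM22Lift72.exists_ctx hD hprim h22
  obtain ⟨φ, X⟩ := hctx a ha
  exact X.only g h1 h2

variable {dN : Nat → G} {s : MulAut G} (T : Tab D dN s)
include T

omit hD hprim h22

theorem ok {P : Pt} (h : P ∈ [PA, PB, PR, PY] ++ T7 ++ CH ++ PP) : ptOk P = true :=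
  List.all_eq_true.mp all_ok P h

theorem lt {P : Pt} (h : P ∈ [PA, PB, PR, PY] ++ T7 ++ CH ++ PP) : P.1 < T22.N := (ptOk_iff T (ok T h)).1

theorem aN : PA.1 < T22.N := lt T (by simp)

theorem fixed_iff {q : Nat} (hq : q < T22.N) : dN q ∈ fixS s ↔ pi q = q := by
  rw [mem_fixS, T.aut q hq]
  exact ⟨fun h => T.inj _ (pi_spec q hq).1 _ hq h, fun h => by rw [h]⟩

theorem a_fix : s (dN PA.1) = dN PA.1 := by rw [T.aut _ (aN T), pa_fix]

theorem near_iff {q : Nat} (hq : q < T22.N) :
    dN q ∈ near D (dN PA.1) ↔ cm PA q = true ∧ q ≠ PA.1 := by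
  rw [cm_iff T (ok T (by simp)) hq]
  exact ⟨fun h => ⟨h.2.2, fun e => h.2.1 (congrArg dN e)⟩,
    fun h => ⟨T.mem q hq, fun e => h.2 (T.inj q hq _ (aN T) e), h.1⟩⟩

theorem t7_mem {P : Pt} (h : P ∈ T7) : ptOk P = true ∧ pi P.1 = P.1 ∧ P.1 ≠ PA.1 ∧
    Commute (dN PA.1) (dN P.1) := by
  have h1 := ok T (P := P) (by simp [h])
  have h2 := List.all_eq_true.mp t7_near P h
  simp only [Bool.and_eq_true, Nat.beq_eq, Bool.not_eq_true'] at h2
  refine ⟨h1, h2.1.1, fun e => ?_, (cm_iff T (ok T (by simp)) (ptOk_iff T h1).1).mp h2.2⟩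
  rw [e, Nat.beq_refl] at h2
  exact Bool.noConfusion h2.1.2

/-- An element commuting with the seven commutes with all fixed members near the first. -/
theorem comm63 {g : G} (hg : ∀ P ∈ T7, Commute (dN P.1) g) {q : Nat} (hq : q < T22.N)
    (hf : pi q = q) (hc : cm PA q = true) (hne : q ≠ PA.1) : Commute (dN q) g := by
  set K := Subgroup.centralizer ({g} : Set G)
  have hm : ∀ {x : G}, x ∈ K ↔ Commute x g := fun {x} => mem_centralizer_singleton_iff
  have hall := reach_mem T K (gs := T7) (fun P hP => (t7_mem T hP).1) (fun P hP => hm.mpr (hg P hP))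
    reach63 (fun p hp => by
      obtain ⟨P, hP, rfl⟩ := List.mem_map.mp hp
      exact ⟨(ptOk_iff T (t7_mem T hP).1).1, hm.mpr (hg P hP)⟩)
  have hcov := all_of cover63 hq
  simp only [Bool.or_eq_true, Bool.not_eq_true', List.elem_iff, List.mem_append, List.mem_map] at hcov
  rcases hcov with h | ⟨P, hP, rfl⟩ | ⟨t, ht, rfl⟩
  · rw [show Nat.beq (pi q) q = true from Nat.beq_eq.mpr hf, hc,
      show Nat.beq q PA.1 = false from by rw [← Bool.not_eq_true, Nat.beq_eq]; exact hne] at h
    exact Bool.noConfusion h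
  · exact hg P hP
  · exact hm.mp (hall t ht)

include hD hprim h22

/-- A fixed element commuting with the first and the seven is trivial or the first. -/
theorem residual {g : G} (hs : s g = g) (ha : Commute (dN PA.1) g)
    (hg : ∀ P ∈ T7, Commute (dN P.1) g) : g = 1 ∨ g = dN PA.1 := by
  have hyN : PY.1 < T22.N := lt T (by simp)
  have hyok := ok T (P := PY) (by simp)
  obtain ⟨p, hp, e1⟩ := T.surj _ (T.ts.conj g _ (T.mem _ hyN))
  have hpf := py_facts
  simp only [Bool.and_eq_true, List.all_eq_true, Bool.or_eq_true, Nat.beq_eq] at hpf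
  have hPP : ∀ P ∈ PP, Commute (dN P.1) g := by
    intro P hP
    rcases hpf.2 P hP with h | ⟨h1, h2⟩
    · rw [h]; exact ha
    · by_cases hPa : P.1 = PA.1
      · rw [hPa]; exact ha
      · exact comm63 T hg (lt T (by simp [hP])) h1 h2 hPa
  have hcand : cand (fun _ => true) PP PY.1 p = true := by
    rw [cand, Bool.true_and, List.all_eq_true]
    intro P hP
    have hPo := ok T (P := P) (by simp [hP])
    have hgP : g * dN P.1 * g⁻¹ = dN P.1 := mul_inv_eq_iff_eq_mul.mpr (hPP P hP).symm.eq
    rw [Bool.and_eq_true, Bool.not_eq_true', beq_iff_eq]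
    refine ⟨?_, ?_⟩
    · rw [← Bool.not_eq_true, Nat.beq_eq]
      rintro rfl
      have := T.inj _ hyN _ (ptOk_iff T hPo).1 (mul_left_cancel (mul_right_cancel (e1.symm.trans hgP.symm)))
      exact (by decide +kernel : ∀ P ∈ PP, PY.1 ≠ P.1) P hP this
    · rw [Bool.eq_iff_iff, cm_iff T hPo hp, cm_iff T hPo hyN, e1]
      conv_lhs => rw [← hgP]
      exact Commute.conj_iff g
  have hp2 := all_of py_cand hp
  simp only [hcand, Bool.not_true, Bool.false_or, Bool.or_eq_true, Nat.beq_eq] at hp2
  -- automorphisms fixing the seven and a further member fix everything near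
  have hkey : ∀ z : MulAut G, z (dN PA.1) = dN PA.1 → (∀ P ∈ T7, z (dN P.1) = dN P.1) →
      z (dN PY.1) = dN PY.1 → ∀ y ∈ near D (dN PA.1), z y = y := by
    intro z _ z7 zy y hy
    have hall := reach_mem T (fixS z) (gs := T7 ++ [PY])
      (fun P hP => ok T (by simp at hP ⊢; tauto))
      (fun P hP => by
        rcases List.mem_append.mp hP with h | h
        · exact z7 P h
        · rw [List.mem_singleton] at h; exact h ▸ zy)
      reachNear (fun q hq => by
        obtain ⟨P, hP, rfl⟩ := List.mem_map.mp hq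
        refine ⟨lt T (by simp at hP ⊢; tauto), ?_⟩
        rcases List.mem_append.mp hP with h | h
        · exact z7 P h
        · rw [List.mem_singleton] at h; exact h ▸ zy)
    obtain ⟨q, hq, rfl⟩ := T.surj y hy.1
    obtain ⟨hc, hne⟩ := (near_iff T hq).mp hy
    have hcov := all_of coverNear hq
    rw [hc, show Nat.beq q PA.1 = false from by rw [← Bool.not_eq_true, Nat.beq_eq]; exact hne] at hcov
    simp only [Bool.not_false, Bool.and_self, Bool.not_true, Bool.false_or, List.elem_iff,
      List.mem_append, List.mem_map] at hcov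
    rcases hcov with ⟨P, hP, rfl⟩ | ⟨t, ht, rfl⟩
    · rcases hP with h | h
      · exact z7 P h
      · simp only [List.mem_singleton] at h; exact h ▸ zy
    · exact hall t ht
  have hfix : ∀ {k x : G}, Commute x k → MulAut.conj k x = x := fun {k x} h => by
    show k * x * k⁻¹ = x
    rw [← h.eq, mul_inv_cancel_right]
  rcases hp2 with h | h
  · have hgy : MulAut.conj g (dN PY.1) = dN PY.1 := e1.symm.trans (congrArg dN h)
    refine only_member hD hprim h22 (T.mem _ (aN T)) ha fun y hy => ?_
    have := hkey (MulAut.conj g) (hfix ha) (fun P hP => hfix (hg P hP)) hgy y hy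
    exact (mul_inv_eq_iff_eq_mul.mp this).symm
  · exfalso
    have hgy : g * dN PY.1 * g⁻¹ = dN (pi PY.1) := e1.symm.trans (congrArg dN h)
    set z : MulAut G := MulAut.conj g * s with hz
    have hzval : ∀ x, z x = g * s x * g⁻¹ := fun x => rfl
    have z7 : ∀ P ∈ T7, z (dN P.1) = dN P.1 := fun P hP => by
      rw [hzval, T.aut _ (ptOk_iff T (t7_mem T hP).1).1, (t7_mem T hP).2.1]
      exact hfix (hg P hP)
    have zy : z (dN PY.1) = dN PY.1 := by
      have h2 := congrArg s hgy
      rw [map_mul, map_mul, map_inv, hs, ← T.aut _ hyN] at h2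
      rw [hzval, T.aut _ hyN]
      rw [T.aut _ hyN] at h2
      rw [h2, T.aut _ (pi_spec _ hyN).1, (pi_spec _ hyN).2.1]
    have za : z (dN PA.1) = dN PA.1 := by rw [hzval, a_fix T]; exact hfix ha
    rcases ThreeTransM22Aut59.fix_member hD hprim h22 (T.mem _ (aN T))
      (fun y hy => by
        obtain ⟨q, hq, rfl⟩ := T.surj y hy
        rw [hzval, T.aut q hq]
        exact T.ts.conj g _ (T.mem _ (pi_spec q hq).1)) za (hkey z za z7 zy) with h1 | h1
    · refine T.outer ⟨g⁻¹, ?_⟩
      rw [map_inv]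
      exact (eq_inv_of_mul_eq_one_right h1).symm
    · refine T.outer ⟨g⁻¹ * dN PA.1, ?_⟩
      rw [map_mul, map_inv, ← h1, inv_mul_cancel_left]

/-- The fixed elements commuting with the first are at most `2 · 1451520`. -/
theorem card_le : Nat.card ↥(fixS s ⊓ Subgroup.centralizer ({dN PA.1} : Set G)) ≤ 2903040 := by
  set H := fixS s ⊓ Subgroup.centralizer ({dN PA.1} : Set G)
  have hH : ∀ g ∈ H, Commute g (dN PA.1) := fun g hg => mem_centralizer_singleton_iff.mp hg.2
  have hchain := card_chain T (fun p => Nat.beq (pi p) p) CH [PA] H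
    (fun P hP => ok T (by simp at hP ⊢; tauto))
    (fun P hP g hg => by rw [List.mem_singleton] at hP; exact hP ▸ hH g hg)
    (fun P hP g hg p hp e1 => by
      rw [Nat.beq_eq]
      refine (fixed_iff T hp).mp ?_
      rw [← e1]
      refine mul_mem (mul_mem hg.1 ((fixed_iff T (lt T (by simp [hP]))).mpr ?_)) (inv_mem hg.1)
      exact (t7_mem T (t7_ch.2 P hP).2).2.1)
    (fun x hx y hy => by rw [List.mem_singleton] at hy; exact hy ▸ (t7_ch.2 x hx).1) t7_ch.1
  rw [count63] at hchain
  have h2 : Nat.card ↥(H ⊓ Subgroup.centralizer {y | ∃ P ∈ CH, y = dN P.1}) ≤ 2 := by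
    refine le_trans (Nat.card_mono (Set.toFinite ({1, dN PA.1} : Set G)) fun g hg => ?_) ?_
    · obtain ⟨hgH, hgC⟩ := hg
      refine residual hD hprim h22 T hgH.1 (hH g hgH).symm fun P hP => ?_
      exact Subgroup.mem_centralizer_iff.mp hgC _ ⟨P, ch_all P hP, rfl⟩
    · rw [Nat.card_coe_set_eq]
      exact (Set.ncard_insert_le _ _).trans (by rw [Set.ncard_singleton])
  calc _ ≤ _ := hchain
    _ ≤ 1451520 * 2 := Nat.mul_le_mul le_rfl h2
    _ = 2903040 := by norm_num

/-- The fixed elements commuting with the first are `2 × PSp₆(2)`, generated by fixed members. -/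
theorem structure_two :
    Nonempty (↥(fixS s ⊓ Subgroup.centralizer ({dN PA.1} : Set G)) ≃*
      Multiplicative (ZMod 2) × Cfsg.PSp 3 (ZMod 2)) ∧
    fixS s ⊓ Subgroup.centralizer ({dN PA.1} : Set G) =
      Subgroup.closure {y | ∃ P ∈ PA :: T7, y = dN P.1} := by
  classical
  have hF : Fintype.card (ZMod 2) = 2 := ZMod.card 2
  set a := dN PA.1 with ha
  set H := fixS s ⊓ Subgroup.centralizer ({a} : Set G)
  let Q : Fin 7 → Pt := fun i => T7.getD i.val PA
  have hQ : ∀ i, Q i ∈ T7 := fun i => by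
    simp only [Q]
    rw [List.getD_eq_getElem _ _ (show i.val < T7.length from i.isLt)]
    exact List.getElem_mem _
  have hqa : ∀ i, Commute a (dN (Q i).1) := fun i => (t7_mem T (hQ i)).2.2.2
  have ha2 : a * a = 1 := T.ts.sq a (T.mem _ (aN T))
  have hsame : ∀ {L M : List Pt}, (∀ P ∈ L, P ∈ PA :: T7) → (∀ P ∈ M, P ∈ PA :: T7) →
      same (wp L) (wp M) = true → (L.map fun P => dN P.1).prod = (M.map fun P => dN P.1).prod :=
    fun hL hM h => prod_eq_of_same T (fun P hP => ok T (by have := hL P hP; simp at this ⊢; tauto))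
      (fun P hP => ok T (by have := hM P hP; simp at this ⊢; tauto)) h
  have hrel := braid_ok
  simp only [List.all_eq_true, List.mem_finRange, forall_const] at hrel
  have hmem : ∀ (i j : Fin 7) (L : List Pt), (∀ P ∈ L, P = Q i ∨ P = Q j) → ∀ P ∈ L, P ∈ PA :: T7 :=
    fun i j L h P hP => (h P hP).elim (fun e => e ▸ List.mem_cons_of_mem _ (hQ i))
      fun e => e ▸ List.mem_cons_of_mem _ (hQ j)
  have hbQ : Braids fun i => dN (Q i).1 := by
    constructor <;> intro i j hij <;> have h := hrel i j <;> rw [hij] at h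
    · have := hsame (L := [Q i, Q j]) (M := [Q j, Q i])
        (hmem i j _ fun P hP => by simp only [List.mem_cons, List.not_mem_nil, or_false] at hP; tauto)
        (hmem i j _ fun P hP => by simp only [List.mem_cons, List.not_mem_nil, or_false] at hP; tauto) h
      simpa only [List.map_cons, List.map_nil, List.prod_cons, List.prod_nil, mul_one] using this
    · have := hsame (L := [Q i, Q j, Q i]) (M := [Q j, Q i, Q j])
        (hmem i j _ fun P hP => by simp only [List.mem_cons, List.not_mem_nil, or_false] at hP; tauto)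
        (hmem i j _ fun P hP => by simp only [List.mem_cons, List.not_mem_nil, or_false] at hP; tauto) h
      simpa only [List.map_cons, List.map_nil, List.prod_cons, List.prod_nil, mul_one, ← mul_assoc] using this
  have h9 : cox (fun i => dN (Q i).1) ^ 9 = a := by
    have := hsame (L := (List.replicate 9 T7).flatten) (M := [PA])
      (fun P hP => by
        obtain ⟨l, hl, hPl⟩ := List.mem_flatten.mp hP
        rw [List.eq_of_mem_replicate hl] at hPl
        exact List.mem_cons_of_mem _ hPl) (by simp) cox_ok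
    rw [List.map_flatten, List.prod_flatten, List.map_replicate, List.map_replicate,
      List.prod_replicate] at this
    have e7 : cox (fun i => dN (Q i).1) = (T7.map fun P => dN P.1).prod := by
      simp [cox, Q, T7, mul_assoc]
    rw [e7, this]
    simp [ha]
  -- the twisted seven
  let R : Fin 7 → G := fun i => dN (Q i).1 * a
  have hR2 : ∀ i, R i * R i = 1 := fun i => by
    show dN (Q i).1 * a * (dN (Q i).1 * a) = 1
    rw [(hqa i).mul_mul_mul_comm, T.ts.sq _ (T.mem _ (ptOk_iff T (t7_mem T (hQ i)).1).1), one_mul, ha2]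
  have hRb : Braids R := by
    refine ⟨fun i j hij => ?_, fun i j hij => ?_⟩
    · show dN (Q i).1 * a * (dN (Q j).1 * a) = dN (Q j).1 * a * (dN (Q i).1 * a)
      rw [mul_assoc, ← mul_assoc a, (hqa j).eq, mul_assoc (dN (Q j).1), ha2, mul_one, hbQ.comm i j hij,
        mul_assoc (dN (Q j).1) a, ← mul_assoc a, (hqa i).eq, mul_assoc (dN (Q i).1), ha2, mul_one]
    · have e3 : ∀ i j, R i * R j * R i = dN (Q i).1 * dN (Q j).1 * dN (Q i).1 * a := fun i j => by
        show dN (Q i).1 * a * (dN (Q j).1 * a) * (dN (Q i).1 * a) = _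
        rw [mul_assoc (dN (Q i).1) a, ← mul_assoc a, (hqa j).eq, mul_assoc (dN (Q j).1), ha2, mul_one,
          ← mul_assoc]
      rw [e3, e3, hbQ.braid i j hij]
  have hR9 : cox R ^ 9 = 1 := by
    let f : G × ↥(Subgroup.zpowers a) → G := fun p => p.1 * p.2
    have e7 : cox R = cox (fun i => dN (Q i).1) * a := by
      have sw : ∀ i (x : G), a * (dN (Q i).1 * x) = dN (Q i).1 * (a * x) := fun i x => by
        rw [← mul_assoc, (hqa i).eq, mul_assoc]
      have sa : ∀ x : G, a * (a * x) = x := fun x => by rw [← mul_assoc, ha2, one_mul]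
      simp only [cox, R, mul_assoc, sw, sa]
    have hca : Commute (cox fun i => dN (Q i).1) a := by
      simp only [cox]
      exact ((((((hqa 0).mul_right (hqa 1)).mul_right (hqa 2)).mul_right (hqa 3)).mul_right
        (hqa 4)).mul_right (hqa 5)).mul_right (hqa 6) |>.symm
    rw [e7, hca.mul_pow, h9, show 9 = 2 * 4 + 1 from rfl, pow_succ, pow_mul, pow_two, ha2, one_pow,
      one_mul, ha2]
  -- the group of the twisted seven
  let U : Fin 7 → Cfsg.PSp 3 (ZMod 2) × G := fun i => (PSp62Multiplier.tF hF i, R i)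
  set K := Subgroup.closure (Set.range U) with hK
  let U' : Fin 7 → K := fun i => ⟨U i, Subgroup.subset_closure ⟨i, rfl⟩⟩
  have hU : Braids U' :=
    ⟨fun i j e => Subtype.ext (Prod.ext ((PSp62Multiplier.tF_braids hF).comm i j e) (hRb.comm i j e)),
      fun i j e => Subtype.ext (Prod.ext ((PSp62Multiplier.tF_braids hF).braid i j e) (hRb.braid i j e))⟩
  have hgen : Subgroup.closure (Set.range U') = ⊤ := by
    refine Subgroup.map_injective K.subtype_injective ?_
    rw [MonoidHom.map_closure, ← Set.range_comp, ← MonoidHom.range_eq_map, Subgroup.range_subtype]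
    rfl
  haveI : Finite (Cfsg.PSp 3 (ZMod 2)) := Nat.finite_of_card_ne_zero (by rw [PSp62Multiplier.card_psp hF]; norm_num)
  have hK' : Nat.card K ≤ 1451520 :=
    PSp62MultiplierE7.card_le hU (fun i => Subtype.ext (Prod.ext (PSp62Multiplier.tF_sq hF i) (hR2 i)))
      (Subtype.ext (Prod.ext (by simpa [cox, U', U] using PSp62Multiplier.tF_cox hF)
        (by simpa [cox, U', U] using hR9))) hgen
  let q : K →* Cfsg.PSp 3 (ZMod 2) := (MonoidHom.fst _ _).comp K.subtype
  have hq : Function.Surjective q := by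
    rw [← MonoidHom.range_eq_top, eq_top_iff, ← PSp62Multiplier.tF_gen hF, Subgroup.closure_le]
    rintro _ ⟨i, rfl⟩
    exact ⟨U' i, rfl⟩
  have hbij : Function.Bijective q :=
    (Nat.bijective_iff_surjective_and_card q).mpr ⟨hq, le_antisymm
      (by rw [PSp62Multiplier.card_psp hF]; exact hK') (Nat.card_le_card_of_surjective q hq)⟩
  let eK : K ≃* Cfsg.PSp 3 (ZMod 2) := MulEquiv.ofBijective q hbij
  let f : Cfsg.PSp 3 (ZMod 2) →* G := ((MonoidHom.snd _ _).comp K.subtype).comp eK.symm.toMonoidHom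
  have hf : ∀ i, f (PSp62Multiplier.tF hF i) = R i := fun i => by
    have : eK.symm (PSp62Multiplier.tF hF i) = U' i := by rw [MulEquiv.symm_apply_eq]; rfl
    simp [f, this, U', U]
  -- inside the subgroup
  set W := Subgroup.closure {y | ∃ P ∈ PA :: T7, y = dN P.1} with hW
  have haW : a ∈ W := Subgroup.subset_closure ⟨PA, List.mem_cons_self, rfl⟩
  have hWH : W ≤ H := by
    rw [hW, Subgroup.closure_le]
    rintro _ ⟨P, hP, rfl⟩
    rcases List.mem_cons.mp hP with rfl | hP
    · exact ⟨a_fix T, mem_centralizer_singleton_iff.mpr rfl⟩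
    · obtain ⟨h1, h2, -, h4⟩ := t7_mem T hP
      exact ⟨(fixed_iff T (ptOk_iff T h1).1).mpr h2, mem_centralizer_singleton_iff.mpr h4.symm.eq⟩
  have hfW : ∀ x, f x ∈ W := by
    intro x
    have hx : x ∈ Subgroup.closure (Set.range (PSp62Multiplier.tF hF)) := by
      rw [PSp62Multiplier.tF_gen hF]; exact Subgroup.mem_top x
    induction hx using Subgroup.closure_induction with
    | mem y hy =>
      obtain ⟨i, rfl⟩ := hy
      rw [hf]
      exact mul_mem (Subgroup.subset_closure ⟨Q i, List.mem_cons_of_mem _ (hQ i), rfl⟩) haW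
    | one => rw [map_one]; exact one_mem _
    | mul y z _ _ hy hz => rw [map_mul]; exact mul_mem hy hz
    | inv y _ hy => rw [map_inv]; exact inv_mem hy
  haveI : IsSimpleGroup (Cfsg.PSp 3 (ZMod 2)) := S0270.result 3 (by norm_num) (by norm_num)
  have hfinj : Function.Injective f := by
    rw [← MonoidHom.ker_eq_bot_iff]
    refine (f.normal_ker.eq_bot_or_eq_top).resolve_right fun h => ?_
    have h0 : R 0 = 1 := by rw [← hf]; exact MonoidHom.mem_ker.mp (h ▸ Subgroup.mem_top _)
    refine prod_ne_of_run T (L := [Q 0]) (M := [PA]) (fun P hP => ?_) (fun P hP => ?_) moves ?_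
    · rw [List.mem_singleton] at hP; exact hP ▸ (t7_mem T (hQ 0)).1
    · rw [List.mem_singleton] at hP; exact hP ▸ ok T (by simp)
    · simp only [List.map_cons, List.map_nil, List.prod_cons, List.prod_nil, mul_one]
      exact (eq_inv_of_mul_eq_one_left h0).trans (inv_eq_of_mul_eq_one_right ha2)
  have hna : ∀ x, f x ≠ a := by
    intro x hx
    have hcx : x ∈ Subgroup.center (Cfsg.PSp 3 (ZMod 2)) := Subgroup.mem_center_iff.mpr fun y => by
      refine hfinj ?_
      rw [map_mul, map_mul, hx]
      exact mem_centralizer_singleton_iff.mp (hWH (hfW y)).2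
    rcases (inferInstance : (Subgroup.center (Cfsg.PSp 3 (ZMod 2))).Normal).eq_bot_or_eq_top with h | h
    · rw [h, Subgroup.mem_bot] at hcx
      rw [hcx, map_one] at hx
      exact (ThreeTransM22Order72.not_one_mem hD hprim h22 (T.mem _ (aN T))) hx.symm
    · have hp := PSp62Multiplier.psp_perfect hF
      rw [(commutator_eq_bot_iff_center_eq_top _).mpr h] at hp
      exact bot_ne_top hp
  -- the isomorphism
  let ga : Multiplicative (ZMod 2) → G := fun m => if m = 1 then 1 else a
  have hga : ∀ m n, ga (m * n) = ga m * ga n := by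
    intro m n
    rcases z2_cases m with rfl | rfl <;>
    rcases z2_cases n with rfl | rfl <;>
    simp [ga, ha2, show Multiplicative.ofAdd (1 : ZMod 2) * Multiplicative.ofAdd 1 = 1 from by decide]
  have hgcomm : ∀ m x, Commute (ga m) (f x) := fun m x => by
    simp only [ga]; split_ifs
    · exact Commute.one_left _
    · exact (mem_centralizer_singleton_iff.mp (hWH (hfW x)).2).symm
  have hgW : ∀ m, ga m ∈ W := fun m => by
    simp only [ga]; split_ifs
    · exact one_mem _
    · exact haW
  let Φ : Multiplicative (ZMod 2) × Cfsg.PSp 3 (ZMod 2) →* G :=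
    { toFun := fun p => ga p.1 * f p.2
      map_one' := by simp [ga]
      map_mul' := fun p p' => by
        show ga (p.1 * p'.1) * f (p.2 * p'.2) = _
        rw [hga, map_mul, mul_assoc, ← mul_assoc (ga p'.1), (hgcomm p'.1 p.2).eq]
        group }
  have hΦinj : Function.Injective Φ := by
    rw [injective_iff_map_eq_one]
    rintro ⟨m, x⟩ h
    change ga m * f x = 1 at h
    rcases z2_cases m with rfl | rfl
    · simp only [ga, if_true, one_mul] at h
      exact Prod.ext rfl (hfinj (h.trans (map_one f).symm))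
    · have hne : Multiplicative.ofAdd (1 : ZMod 2) ≠ 1 := by decide
      simp only [ga, hne, if_false] at h
      exact absurd ((eq_inv_of_mul_eq_one_right h).trans (inv_eq_of_mul_eq_one_right ha2)) (hna x)
  have hΦW : Φ.range ≤ W := by
    rintro _ ⟨p, rfl⟩
    exact mul_mem (hgW _) (hfW _)
  have hcard : Nat.card Φ.range = 2903040 := by
    rw [← Nat.card_congr (MonoidHom.ofInjective hΦinj).toEquiv, Nat.card_prod, PSp62Multiplier.card_psp hF]
    simp
  have heq : Φ.range = H := by
    refine Subgroup.eq_of_le_of_card_ge (hΦW.trans hWH) ?_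
    rw [hcard]
    exact card_le hD hprim h22 T
  refine ⟨⟨((MonoidHom.ofInjective hΦinj).trans (MulEquiv.subgroupCongr heq)).symm⟩, ?_⟩
  exact le_antisymm (heq ▸ hΦW) hWH

theorem card_two : Nat.card ↥(fixS s ⊓ Subgroup.centralizer ({dN PA.1} : Set G)) = 2903040 := by
  obtain ⟨⟨e0⟩, -⟩ := structure_two hD hprim h22 T
  rw [Nat.card_congr e0.toEquiv, Nat.card_prod, PSp62Multiplier.card_psp (ZMod.card 2)]
  simp

/-- The fixed members generate the fixed points, of order `1045094400`. -/
theorem fixS_eq : fixS s = Subgroup.closure {y | y ∈ D ∧ s y = y} ∧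
    Nat.card ↥(fixS s) = 1045094400 := by
  classical
  set a := dN PA.1 with ha
  set K := Subgroup.closure {y | y ∈ D ∧ s y = y} with hK
  have hKle : K ≤ fixS s := by rw [hK, Subgroup.closure_le]; exact fun y hy => hy.2
  have hmemK : ∀ {q}, q < T22.N → pi q = q → dN q ∈ K := fun {q} hq h =>
    Subgroup.subset_closure ⟨T.mem q hq, (fixed_iff T hq).mpr h⟩
  have haK : a ∈ K := hmemK (aN T) pa_fix
  have hH : fixS s ⊓ Subgroup.centralizer ({a} : Set G) ≤ K := by
    rw [(structure_two hD hprim h22 T).2, Subgroup.closure_le]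
    rintro _ ⟨P, hP, rfl⟩
    rcases List.mem_cons.mp hP with rfl | hP
    · exact haK
    · exact hmemK (ptOk_iff T (t7_mem T hP).1).1 (t7_mem T hP).2.1
  -- any two fixed noncommuting members are conjugate
  have hbr : ∀ x ∈ D, ∀ y ∈ D, x ∈ K → y ∈ K → ¬ Commute x y →
      ∃ g ∈ K, g * x * g⁻¹ = y := by
    intro x hx y hy hxK hyK hn
    refine ⟨x * y, mul_mem hxK hyK, ?_⟩
    rw [mul_inv_rev, T.ts.inv_self hx, T.ts.inv_self hy]
    calc x * y * x * (y * x) = (x * y * x) * y * x := by group
      _ = (y * x * y) * y * x := by rw [T.ts.braid x hx y hy hn]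
      _ = y * x * (y * y) * x := by group
      _ = y := by rw [T.ts.sq y hy, mul_one, mul_assoc, T.ts.sq x hx, mul_one]
  have htr : ∀ y : G, y ∈ D → s y = y → ∃ g ∈ K, g * a * g⁻¹ = y := by
    intro y hy hsy
    obtain ⟨q, hq, rfl⟩ := T.surj y hy
    have hf : pi q = q := (fixed_iff T hq).mp hsy
    have hr := lt T (P := PR) (by simp)
    have hrK := hmemK hr (Nat.beq_eq.mp pr_facts.1)
    have hn1 : ¬ Commute a (dN PR.1) := fun h => by
      have h2 := pr_facts.2
      rw [(cm_iff T (ok T (P := PA) (by simp)) hr).mpr h] at h2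
      exact Bool.noConfusion h2
    have hcov := all_of far_ok hq
    simp only [Bool.or_eq_true, Bool.not_eq_true', Nat.beq_eq] at hcov
    rcases hcov with h | h | h | h
    · rw [hf, Nat.beq_refl] at h; exact Bool.noConfusion h
    · exact ⟨1, one_mem _, by simp [ha, h]⟩
    · refine hbr a (T.mem _ (aN T)) _ (T.mem q hq) haK (hmemK hq hf) fun hc => ?_
      rw [(cm_iff T (ok T (P := PA) (by simp)) hq).mpr hc] at h
      exact Bool.noConfusion h
    · obtain ⟨g1, hg1, e1⟩ := hbr a (T.mem _ (aN T)) _ (T.mem _ hr) haK hrK hn1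
      obtain ⟨g2, hg2, e2⟩ := hbr _ (T.mem _ hr) _ (T.mem q hq) hrK (hmemK hq hf) fun hc => by
        rw [(cm_iff T (ok T (P := PR) (by simp)) hq).mpr hc] at h
        exact Bool.noConfusion h
      exact ⟨g2 * g1, mul_mem hg2 hg1, by rw [← e2, ← e1]; group⟩
  have heq : fixS s = K := by
    refine le_antisymm (fun g hg => ?_) hKle
    obtain ⟨k, hk, e1⟩ := htr (g * a * g⁻¹) (T.ts.conj g _ (T.mem _ (aN T)))
      (by rw [map_mul, map_mul, map_inv, mem_fixS.mp hg, ha, a_fix T])
    have hkg : k⁻¹ * g ∈ fixS s ⊓ Subgroup.centralizer ({a} : Set G) := by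
      refine Subgroup.mem_inf.mpr ⟨mul_mem (inv_mem (hKle hk)) hg, mem_centralizer_singleton_iff.mpr ?_⟩
      calc k⁻¹ * g * a = k⁻¹ * (g * a * g⁻¹) * g := by group
        _ = a * (k⁻¹ * g) := by rw [← e1]; group
    have := mul_mem hk (hH hkg)
    rwa [mul_inv_cancel_left] at this
  refine ⟨heq, ?_⟩
  -- counting the cosets
  set H := fixS s ⊓ Subgroup.centralizer ({a} : Set G) with hHdef
  let B : Subgroup ↥(fixS s) := H.subgroupOf (fixS s)
  let φ : ↥(fixS s) ⧸ B → {y | y ∈ D ∧ s y = y} := fun q => Quotient.liftOn' q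
    (fun g => ⟨(g : G) * a * (g : G)⁻¹, T.ts.conj _ _ (T.mem _ (aN T)),
      by rw [map_mul, map_mul, map_inv, mem_fixS.mp g.2, ha, a_fix T]⟩)
    (fun g g' h => by
      rw [QuotientGroup.leftRel_apply] at h
      have h2 := mem_centralizer_singleton_iff.mp (Subgroup.mem_subgroupOf.mp h).2
      simp only [Subgroup.coe_mul, Subgroup.coe_inv] at h2
      refine Subtype.ext ?_
      calc (g : G) * a * (g : G)⁻¹ = (g : G) * (a * ((g : G)⁻¹ * g')) * (g' : G)⁻¹ := by group
        _ = (g' : G) * a * (g' : G)⁻¹ := by rw [← h2]; group)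
  have hφ : Function.Bijective φ := by
    refine ⟨fun q q' => ?_, fun y => ?_⟩
    · induction q using QuotientGroup.induction_on with
      | H g =>
      induction q' using QuotientGroup.induction_on with
      | H g' =>
      intro h
      have h1 : (g : G) * a * (g : G)⁻¹ = (g' : G) * a * (g' : G)⁻¹ := congrArg Subtype.val h
      rw [QuotientGroup.eq]
      refine Subgroup.mem_subgroupOf.mpr ⟨(g⁻¹ * g').2, mem_centralizer_singleton_iff.mpr ?_⟩
      simp only [Subgroup.coe_mul, Subgroup.coe_inv]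
      calc (g : G)⁻¹ * g' * a = (g : G)⁻¹ * ((g' : G) * a * (g' : G)⁻¹) * g' := by group
        _ = a * ((g : G)⁻¹ * g') := by rw [← h1]; group
    · obtain ⟨g, hg, e1⟩ := htr y.1 y.2.1 y.2.2
      exact ⟨QuotientGroup.mk ⟨g, hKle hg⟩, Subtype.ext e1⟩
  rw [← B.index_mul_card, Nat.card_congr (Subgroup.subgroupOfEquivOfLe inf_le_left).toEquiv,
    card_two hD hprim h22 T, Subgroup.index, Nat.card_congr (Equiv.ofBijective φ hφ), Nat.card_coe_set_eq,
    ncard_fixed T s pi (fun p hp => ⟨(pi_spec p hp).1, T.aut p hp⟩), fixed360]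

end Cfsg.Agent.ThreeTransM22SFix48
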