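import Cfsg.Agent.Lib.ThreeTransM22SFix48
import Cfsg.Agent.Lib.ThreeTransFi22EightModel82
import Cfsg.Agent.S0293

/-!
# The fixed points of the outer involution are the automorphism group of Ω⁺(8,2)

A conjugate of the subgroup generated by the E8 diagram and a further member is generated by fixed members.
-/

set_option autoImplicit false
set_option maxRecDepth 100000
set_option linter.unusedSectionVars false

namespace Cfsg.Agent.ThreeTransM22SFixAut48

open Cfsg.Agent.CosetCertCore Cfsg.Agent.CosetCertTable Cfsg.Agent.CosetCertPres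
open Cfsg.Agent.ThreeTransAut41
open Cfsg.Agent.ThreeTransM22Tab48 Cfsg.Agent.ThreeTransM22Word48 Cfsg.Agent.ThreeTransM22SFix48
open Cfsg.Agent.ThreeTransFi22Out41 (e pi)
open Cfsg.Agent.CosetCertU62 (P22 T22)
open Cfsg.Agent.ThreeTransFi22EightChecks82 (pt sw)
open Cfsg.Agent.ThreeTransFi22EightData82 (PATH)
open Cfsg.Agent.ThreeTransFi22Eight82 (I9 S)

/-- A conjugating word. -/
def KW : List Nat := [3, 2, 1, 4, 3, 5, 4, 6, 5, 7, 3, 8, 7, 1, 0, 2, 1, 3, 2]

theorem gens_ok : (((List.range 8) ++ [120]).all fun k => ptOk (pt k, PATH.getD k []) &&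
    Nat.beq (pi (T22.run KW (pt k))) (T22.run KW (pt k))) = true := by
  decide +kernel

theorem kw_lt : ∀ x ∈ KW, x < 9 := by decide +kernel

theorem card_mulAut_omega :
    Nat.card (MulAut ↥(Cfsg.Omega (ZMod 2) (Cfsg.quadFormPlus 4 (ZMod 2)))) = 1045094400 := by
  obtain ⟨d, hd⟩ := ThreeTransFi22Out41.exists_data
  obtain ⟨e0⟩ := ThreeTransFi22EightModel82.equivOmega hd
  have hc : Subgroup.center (Cfsg.Omega (ZMod 2) (Cfsg.quadFormPlus 4 (ZMod 2))) = ⊥ := by
    refine (Subgroup.eq_bot_iff_forall _).mpr fun z hz => ?_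
    have : e0.symm z ∈ Subgroup.center _ := Subgroup.mem_center_iff.mpr fun n => by
      apply e0.injective
      simpa using Subgroup.mem_center_iff.mp hz (e0 n)
    rw [ThreeTransFi22EightModel82.center_N8 hd, Subgroup.mem_bot] at this
    simpa using congrArg e0 this
  have h := S0293.result (F := ZMod 2) (q := 2) (ZMod.card 2) 4 le_rfl
  have e2 : ↥(Cfsg.Omega (ZMod 2) (Cfsg.quadFormPlus 4 (ZMod 2))) ≃*
      Cfsg.POmega (ZMod 2) (Cfsg.quadFormPlus 4 (ZMod 2)) :=
    (QuotientGroup.quotientBot).symm.trans (QuotientGroup.quotientMulEquivOfEq hc.symm)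
  rw [show Nat.gcd 4 (2 ^ 4 - 1) = 1 from by decide, one_mul] at h
  norm_num [Finset.prod_range_succ] at h
  rw [Nat.card_congr (MulAut.congr e0.symm).toEquiv, ThreeTransFi22EightModel82.card_mulAut_N8 hd,
    Nat.card_congr (e0.trans e2).toEquiv, h]

variable {G : Type*} [Group G] [Finite G] {D : Set G}
variable (hD : Cfsg.IsThreeTranspositionGroup D) (hprim : Cfsg.IsPrimitiveUnderConj D)
  (h22 : Cfsg.IsOfTypeM22 G D)
include hD hprim h22
variable {dN : Nat → G} {s : MulAut G} (T : Tab D dN s)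
include T

theorem map_val {ef : P22.Grp ≃* G} (hef : ∀ x < 9, ef (P22.gg x) = gen dN x) {w : List Nat}
    (hw : ∀ x ∈ w, x < 9) : ef (val P22.gg w) = val (gen dN) w := by
  induction w with
  | nil => exact map_one ef
  | cons x w ih =>
    rw [val_cons, val_cons, map_mul, hef x (hw x List.mem_cons_self),
      ih fun y hy => hw y (List.mem_cons_of_mem _ hy)]

/-- The fixed points are the automorphism group of `Ω⁺(8,2)`. -/
theorem nonempty_equiv :
    Nonempty (↥(fixS s) ≃* MulAut ↥(Cfsg.Omega (ZMod 2) (Cfsg.quadFormPlus 4 (ZMod 2)))) := by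
  obtain ⟨d, hd⟩ := ThreeTransFi22Out41.exists_data
  obtain ⟨ef, hef⟩ := T.model
  obtain ⟨e1⟩ := ThreeTransFi22EightModel82.equivI9 hd
  set κ := val (gen dN) KW with hκ
  let f : P22.Grp ≃* G := ef.trans (MulAut.conj κ⁻¹)
  have hgen : ∀ k ∈ List.range 8 ++ [120], f (S k) ∈ fixS s := by
    intro k hk
    have h := List.all_eq_true.mp gens_ok k hk
    rw [Bool.and_eq_true, Nat.beq_eq] at h
    have hp := (ptOk_iff T h.1).1
    show κ⁻¹ * ef (S k) * κ⁻¹⁻¹ ∈ fixS s
    rw [S, map_val hD hprim h22 T hef (w := sw k) (wd_lt T (P := (pt k, PATH.getD k [])) h.1),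
      show val (gen dN) (sw k) = dN (pt k) from val_wd T h.1, inv_inv, hκ, conj_word T kw_lt hp]
    exact (fixed_iff T (run_lt kw_lt hp)).mpr h.2
  have hle : I9.map f.toMonoidHom ≤ fixS s := by
    rw [I9, MonoidHom.map_closure, Subgroup.closure_le]
    rintro _ ⟨x, hx, rfl⟩
    rcases hx with ⟨i, hi, rfl⟩ | rfl
    · exact hgen i (List.mem_append_left _ (List.mem_range.mpr hi))
    · exact hgen 120 (List.mem_append_right _ (List.mem_singleton.mpr rfl))
  have heq : I9.map f.toMonoidHom = fixS s := by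
    refine Subgroup.eq_of_le_of_card_ge hle ?_
    rw [Subgroup.card_map_of_injective f.injective, Nat.card_congr e1.toEquiv,
      (fixS_eq hD hprim h22 T).2]
    exact card_mulAut_omega.ge
  exact ⟨((MulEquiv.subgroupCongr heq).symm.trans
    (I9.equivMapOfInjective f.toMonoidHom f.injective).symm).trans e1⟩

end Cfsg.Agent.ThreeTransM22SFixAut48
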