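import Cfsg.Agent.Lib.ThreeTransM22Word48

/-! Data for the third class of outer involutions of a group of type M(22); it only feeds checks. -/

set_option autoImplicit false
set_option maxRecDepth 100000

namespace Cfsg.Agent.ThreeTransM22SabData48

open Cfsg.Agent.ThreeTransM22Word48 (Pt)

/-- The fixed members, the chosen two first. -/
def PL : List Pt := [(16, [1, 0, 2, 1, 3, 2]),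
  (92, [1, 0, 2, 1, 3, 2, 7, 3, 8, 7]),
  (17, [1, 0, 2, 1, 3, 4]),
  (19, [1, 0, 2, 3, 4, 5]),
  (22, [1, 2, 3, 4, 5, 6]),
  (97, [1, 0, 2, 1, 3, 4, 7, 3, 8, 7]),
  (104, [1, 0, 2, 3, 4, 5, 7, 3, 8, 7]),
  (111, [1, 2, 3, 4, 5, 6, 7, 3, 8, 7]),
  (331, [1, 0, 2, 3, 4, 5, 7, 3, 2, 4, 8, 7, 3, 2, 4]),
  (363, [1, 2, 3, 4, 5, 6, 7, 3, 2, 4, 8, 7, 3, 2, 4]),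
  (532, [1, 0, 2, 3, 4, 5, 7, 3, 2, 4, 3, 8, 7, 3, 2, 1, 4]),
  (534, [1, 0, 2, 3, 4, 5, 7, 3, 2, 4, 3, 8, 7, 3, 2, 4, 5]),
  (537, [1, 0, 2, 3, 4, 5, 7, 3, 2, 4, 8, 7, 3, 2, 1, 4, 5]),
  (596, [1, 2, 3, 4, 5, 6, 7, 3, 2, 4, 8, 7, 3, 2, 1, 4, 5]),
  (631, [1, 2, 3, 4, 5, 7, 3, 2, 4, 3, 8, 7, 3, 2, 4, 5, 6]),
  (668, [1, 0, 2, 3, 4, 5, 7, 3, 2, 4, 3, 7, 8, 7, 3, 2, 1, 4]),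
  (670, [1, 0, 2, 3, 4, 5, 7, 3, 2, 4, 3, 7, 8, 7, 3, 2, 4, 5]),
  (785, [1, 2, 3, 4, 5, 7, 3, 2, 4, 3, 7, 8, 7, 3, 2, 4, 5, 6]),
  (788, [1, 2, 3, 4, 5, 7, 3, 2, 4, 3, 8, 7, 3, 2, 4, 3, 5, 6]),
  (812, [1, 0, 2, 3, 4, 5, 6, 7, 3, 2, 4, 3, 8, 7, 3, 2, 1, 0, 4]),
  (826, [1, 0, 2, 3, 4, 5, 7, 3, 2, 4, 8, 7, 3, 2, 1, 0, 4, 5, 6]),
  (914, [1, 2, 3, 4, 5, 6, 7, 3, 2, 4, 3, 8, 7, 3, 2, 1, 0, 4, 5]),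
  (917, [1, 2, 3, 4, 5, 6, 7, 3, 2, 4, 3, 8, 7, 3, 2, 1, 4, 5, 6]),
  (929, [1, 2, 3, 4, 5, 6, 7, 3, 2, 4, 8, 7, 3, 2, 1, 0, 4, 5, 6]),
  (1100, [1, 2, 3, 4, 5, 6, 7, 3, 2, 4, 3, 7, 8, 7, 3, 2, 1, 0, 4, 5]),
  (1103, [1, 2, 3, 4, 5, 6, 7, 3, 2, 4, 3, 7, 8, 7, 3, 2, 1, 4, 5, 6]),
  (1458, [1, 2, 3, 4, 5, 6, 7, 3, 2, 1, 4, 5, 8, 7, 3, 2, 1, 4, 3, 2, 5, 4]),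
  (1831, [1, 2, 3, 4, 5, 6, 7, 3, 2, 1, 4, 3, 5, 8, 7, 3, 2, 1, 0, 4, 3, 2, 5, 4]),
  (1840, [1, 2, 3, 4, 5, 6, 7, 3, 2, 1, 4, 3, 5, 8, 7, 3, 2, 1, 4, 3, 2, 5, 4, 6]),
  (1860, [1, 2, 3, 4, 5, 6, 7, 3, 2, 1, 4, 5, 8, 7, 3, 2, 1, 0, 4, 3, 2, 5, 4, 6]),
  (2043, [1, 2, 3, 4, 5, 6, 7, 3, 2, 1, 4, 3, 5, 7, 8, 7, 3, 2, 1, 0, 4, 3, 2, 5, 4]),
  (2049, [1, 2, 3, 4, 5, 6, 7, 3, 2, 1, 4, 3, 5, 7, 8, 7, 3, 2, 1, 4, 3, 2, 5, 4, 6]),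
  (2125, [1, 2, 3, 4, 5, 6, 7, 3, 2, 1, 4, 3, 2, 5, 4, 3, 8, 7, 3, 2, 1, 0, 4, 3, 2, 1]),
  (2126, [1, 2, 3, 4, 5, 6, 7, 3, 2, 1, 4, 3, 2, 5, 4, 3, 8, 7, 3, 2, 1, 0, 4, 3, 2, 5]),
  (2128, [1, 2, 3, 4, 5, 6, 7, 3, 2, 1, 4, 3, 2, 5, 4, 3, 8, 7, 3, 2, 1, 0, 4, 3, 5, 4]),
  (2179, [1, 2, 3, 4, 5, 6, 7, 3, 2, 1, 4, 3, 2, 5, 7, 3, 8, 7, 3, 2, 1, 0, 4, 3, 2, 1]),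
  (2199, [1, 2, 3, 4, 5, 6, 7, 3, 2, 1, 4, 3, 2, 5, 8, 7, 3, 2, 1, 0, 4, 3, 2, 1, 5, 4]),
  (2276, [1, 2, 3, 4, 5, 6, 7, 3, 2, 1, 4, 3, 5, 4, 8, 7, 3, 2, 1, 4, 3, 2, 5, 4, 6, 5]),
  (2351, [1, 2, 3, 4, 5, 6, 7, 3, 2, 1, 4, 5, 8, 7, 3, 2, 1, 4, 3, 2, 5, 4, 7, 3, 8, 7]),
  (2438, [1, 2, 3, 4, 5, 6, 7, 3, 2, 1, 4, 3, 2, 5, 7, 8, 7, 3, 2, 1, 0, 4, 3, 2, 1, 5, 4]),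
  (2454, [1, 2, 3, 4, 5, 6, 7, 3, 2, 1, 4, 3, 2, 5, 8, 7, 3, 2, 1, 0, 4, 3, 2, 1, 5, 4, 3]),
  (2496, [1, 2, 3, 4, 5, 6, 7, 3, 2, 1, 4, 3, 2, 8, 7, 3, 2, 1, 4, 3, 5, 4, 7, 3, 2, 1, 0]),
  (2586, [1, 2, 3, 4, 5, 6, 7, 3, 2, 1, 4, 3, 8, 7, 3, 2, 1, 0, 4, 3, 5, 4, 7, 3, 2, 1, 0]),
  (2638, [1, 2, 3, 4, 5, 6, 7, 3, 2, 1, 4, 3, 2, 5, 4, 8, 7, 3, 2, 1, 0, 4, 3, 2, 1, 5, 4, 6]),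
  (2647, [1, 2, 3, 4, 5, 6, 7, 3, 2, 1, 4, 3, 2, 5, 4, 8, 7, 3, 2, 1, 0, 4, 3, 2, 5, 4, 6, 5]),
  (2820, [1, 2, 3, 4, 5, 6, 7, 3, 2, 1, 4, 3, 5, 8, 7, 3, 2, 1, 0, 4, 3, 2, 5, 4, 7, 3, 8, 7]),
  (2830, [1, 2, 3, 4, 5, 6, 7, 3, 2, 1, 4, 3, 5, 8, 7, 3, 2, 1, 4, 3, 2, 5, 4, 6, 7, 3, 8, 7]),
  (2843, [1, 2, 3, 4, 5, 6, 7, 3, 2, 1, 4, 5, 8, 7, 3, 2, 1, 0, 4, 3, 2, 5, 4, 6, 7, 3, 8, 7]),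
  (3053, [1, 2, 3, 4, 5, 6, 7, 3, 2, 1, 4, 3, 5, 7, 8, 7, 3, 2, 1, 0, 4, 3, 2, 5, 4, 7, 3, 8, 7]),
  (3055, [1, 2, 3, 4, 5, 6, 7, 3, 2, 1, 4, 3, 5, 7, 8, 7, 3, 2, 1, 4, 3, 2, 5, 4, 6, 7, 3, 8, 7]),
  (3087, [1, 2, 3, 4, 5, 6, 7, 3, 2, 1, 4, 3, 2, 5, 4, 3, 8, 7, 3, 2, 1, 0, 4, 3, 2, 1, 7, 3, 8, 7]),
  (3088, [1, 2, 3, 4, 5, 6, 7, 3, 2, 1, 4, 3, 2, 5, 4, 3, 8, 7, 3, 2, 1, 0, 4, 3, 2, 5, 7, 3, 8, 7]),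
  (3091, [1, 2, 3, 4, 5, 6, 7, 3, 2, 1, 4, 3, 2, 5, 4, 3, 8, 7, 3, 2, 1, 0, 4, 3, 5, 4, 7, 3, 8, 7]),
  (3163, [1, 2, 3, 4, 5, 6, 7, 3, 2, 1, 4, 3, 2, 5, 7, 3, 8, 7, 3, 2, 1, 0, 4, 3, 2, 1, 7, 3, 8, 7]),
  (3180, [1, 2, 3, 4, 5, 6, 7, 3, 2, 1, 4, 3, 2, 5, 8, 7, 3, 2, 1, 0, 4, 3, 2, 1, 5, 4, 7, 3, 8, 7]),
  (3239, [1, 2, 3, 4, 5, 6, 7, 3, 2, 1, 4, 3, 5, 4, 8, 7, 3, 2, 1, 4, 3, 2, 5, 4, 6, 5, 7, 3, 8, 7]),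
  (3329, [1, 2, 3, 4, 5, 6, 7, 3, 2, 1, 4, 3, 2, 5, 7, 8, 7, 3, 2, 1, 0, 4, 3, 2, 1, 5, 4, 7, 3, 8, 7]),
  (3337, [1, 2, 3, 4, 5, 6, 7, 3, 2, 1, 4, 3, 2, 5, 8, 7, 3, 2, 1, 0, 4, 3, 2, 1, 5, 4, 3, 7, 3, 8, 7]),
  (3347, [1, 2, 3, 4, 5, 6, 7, 3, 2, 1, 4, 3, 2, 5, 8, 7, 3, 2, 1, 0, 4, 3, 2, 5, 7, 3, 4, 8, 7, 3, 2]),
  (3355, [1, 2, 3, 4, 5, 6, 7, 3, 2, 1, 4, 3, 2, 5, 8, 7, 3, 2, 1, 4, 3, 2, 5, 4, 7, 3, 2, 1, 0, 8, 7]),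
  (3363, [1, 2, 3, 4, 5, 6, 7, 3, 2, 1, 4, 3, 2, 5, 8, 7, 3, 2, 1, 4, 3, 2, 5, 4, 7, 3, 4, 8, 7, 3, 2]),
  (3366, [1, 2, 3, 4, 5, 6, 7, 3, 2, 1, 4, 3, 2, 5, 8, 7, 3, 2, 1, 4, 3, 2, 5, 6, 7, 3, 4, 8, 7, 3, 2]),
  (3367, [1, 2, 3, 4, 5, 6, 7, 3, 2, 1, 4, 3, 2, 5, 8, 7, 3, 2, 1, 4, 3, 2, 5, 7, 3, 4, 5, 8, 7, 3, 2]),
  (3368, [1, 2, 3, 4, 5, 6, 7, 3, 2, 1, 4, 3, 2, 5, 8, 7, 3, 2, 1, 4, 3, 2, 5, 7, 3, 4, 8, 7, 3, 2, 1]),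
  (3387, [1, 2, 3, 4, 5, 6, 7, 3, 2, 1, 4, 3, 5, 4, 8, 7, 3, 2, 1, 4, 3, 2, 5, 4, 7, 3, 2, 8, 7, 3, 4]),
  (3388, [1, 2, 3, 4, 5, 6, 7, 3, 2, 1, 4, 3, 5, 4, 8, 7, 3, 2, 1, 4, 3, 2, 5, 4, 7, 3, 4, 5, 6, 8, 7]),
  (3398, [1, 2, 3, 4, 5, 6, 7, 3, 2, 1, 4, 5, 8, 7, 3, 2, 1, 4, 3, 2, 5, 4, 7, 3, 2, 1, 4, 8, 7, 3, 2]),
  (3412, [1, 2, 3, 4, 5, 6, 7, 3, 2, 1, 4, 3, 2, 5, 4, 8, 7, 3, 2, 1, 0, 4, 3, 2, 1, 5, 4, 6, 7, 3, 8, 7]),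
  (3419, [1, 2, 3, 4, 5, 6, 7, 3, 2, 1, 4, 3, 2, 5, 4, 8, 7, 3, 2, 1, 0, 4, 3, 2, 5, 4, 6, 5, 7, 3, 8, 7]),
  (3451, [1, 2, 3, 4, 5, 6, 7, 3, 2, 1, 4, 3, 2, 5, 8, 7, 3, 2, 1, 4, 3, 2, 5, 4, 3, 7, 3, 4, 8, 7, 3, 2]),
  (3460, [1, 2, 3, 4, 5, 6, 7, 3, 2, 1, 4, 3, 2, 5, 8, 7, 3, 2, 1, 4, 3, 2, 5, 4, 7, 3, 2, 4, 8, 7, 3, 2]),
  (3481, [1, 2, 3, 4, 5, 6, 7, 3, 2, 1, 4, 3, 2, 5, 4, 7, 8, 7, 3, 2, 1, 4, 3, 2, 5, 7, 3, 4, 8, 7, 3, 2, 1])]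

/-- The partner of each. -/
def MATE : List Nat := [1, 0, 32, 33, 34, 50, 51, 52, 62, 66, 11, 10, 63, 61, 19, 16, 15, 18, 17, 14, 71, 22, 21, 58, 25, 24, 38, 28, 27, 47, 31, 30, 2, 3, 4, 53, 37, 36, 26, 40, 39, 42, 41, 44, 43, 46, 45, 29, 49, 48, 5, 6, 7, 35, 55, 54, 57, 56, 23, 65, 64, 13, 8, 12, 60, 59, 9, 68, 67, 70, 69, 20]

/-- Seven fixed members. -/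
def GS : List Pt := [(92, [1, 0, 2, 1, 3, 2, 7, 3, 8, 7]),
  (532, [1, 0, 2, 3, 4, 5, 7, 3, 2, 4, 3, 8, 7, 3, 2, 1, 4]),
  (22, [1, 2, 3, 4, 5, 6]),
  (97, [1, 0, 2, 1, 3, 4, 7, 3, 8, 7]),
  (19, [1, 0, 2, 3, 4, 5]),
  (104, [1, 0, 2, 3, 4, 5, 7, 3, 8, 7]),
  (16, [1, 0, 2, 1, 3, 2])]

/-- Orbit certificate on the ordered pairs. -/
def TR : List (Nat × Nat × Nat) := [(16, 0, 1), (11, 16, 0), (41, 16, 2), (10, 16, 6), (44, 11, 2), (15, 11, 6), (37, 41, 3), (27, 41, 5),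
  (43, 41, 6), (34, 44, 1), (40, 44, 3), (30, 44, 5), (42, 44, 6), (1, 15, 1), (14, 37, 4), (64, 37, 5),
  (39, 37, 6), (31, 27, 6), (4, 43, 1), (71, 34, 3), (58, 34, 5), (17, 40, 4), (70, 40, 5), (36, 40, 6),
  (28, 30, 6), (55, 14, 5), (18, 14, 6), (67, 64, 2), (69, 64, 6), (20, 39, 1), (23, 31, 1), (50, 71, 2),
  (53, 71, 4), (26, 71, 5), (51, 58, 2), (56, 17, 5), (19, 17, 6), (59, 70, 2), (60, 70, 6), (49, 55, 2),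
  (57, 55, 6), (35, 18, 1), (7, 67, 1), (65, 67, 6), (38, 69, 1), (5, 20, 2), (6, 23, 2), (63, 50, 4),
  (9, 53, 5), (45, 56, 2), (54, 56, 6), (68, 59, 6), (13, 49, 1), (24, 49, 3), (46, 49, 6), (66, 57, 1),
  (12, 35, 2), (33, 63, 3), (21, 45, 3), (48, 45, 6), (52, 68, 1), (47, 13, 3), (22, 24, 6), (3, 12, 3),
  (25, 21, 6), (61, 48, 1), (62, 47, 2), (29, 25, 1), (32, 62, 5), (8, 29, 2), (2, 8, 5)]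

/-- Six products of members. -/
def BE : List (List Pt) := [[(16, [1, 0, 2, 1, 3, 2]),
  (92, [1, 0, 2, 1, 3, 2, 7, 3, 8, 7]),
  (17, [1, 0, 2, 1, 3, 4]),
  (2125, [1, 2, 3, 4, 5, 6, 7, 3, 2, 1, 4, 3, 2, 5, 4, 3, 8, 7, 3, 2, 1, 0, 4, 3, 2, 1])],
  [(16, [1, 0, 2, 1, 3, 2]),
  (92, [1, 0, 2, 1, 3, 2, 7, 3, 8, 7]),
  (19, [1, 0, 2, 3, 4, 5]),
  (2126, [1, 2, 3, 4, 5, 6, 7, 3, 2, 1, 4, 3, 2, 5, 4, 3, 8, 7, 3, 2, 1, 0, 4, 3, 2, 5])],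
  [(16, [1, 0, 2, 1, 3, 2]),
  (92, [1, 0, 2, 1, 3, 2, 7, 3, 8, 7]),
  (104, [1, 0, 2, 3, 4, 5, 7, 3, 8, 7]),
  (3088, [1, 2, 3, 4, 5, 6, 7, 3, 2, 1, 4, 3, 2, 5, 4, 3, 8, 7, 3, 2, 1, 0, 4, 3, 2, 5, 7, 3, 8, 7])],
  [(16, [1, 0, 2, 1, 3, 2]),
  (92, [1, 0, 2, 1, 3, 2, 7, 3, 8, 7]),
  (97, [1, 0, 2, 1, 3, 4, 7, 3, 8, 7]),
  (3087, [1, 2, 3, 4, 5, 6, 7, 3, 2, 1, 4, 3, 2, 5, 4, 3, 8, 7, 3, 2, 1, 0, 4, 3, 2, 1, 7, 3, 8, 7])],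
  [(16, [1, 0, 2, 1, 3, 2]),
  (92, [1, 0, 2, 1, 3, 2, 7, 3, 8, 7])],
  [(3363, [1, 2, 3, 4, 5, 6, 7, 3, 2, 1, 4, 3, 2, 5, 8, 7, 3, 2, 1, 4, 3, 2, 5, 4, 7, 3, 4, 8, 7, 3, 2]),
  (3387, [1, 2, 3, 4, 5, 6, 7, 3, 2, 1, 4, 3, 5, 4, 8, 7, 3, 2, 1, 4, 3, 2, 5, 4, 7, 3, 2, 8, 7, 3, 4])]]

/-- The vectors of the pairs. -/
def VEC : List Nat := [16, 16, 17, 18, 19, 24, 20, 28, 5, 13, 47, 47, 10, 14, 38, 63, 63, 54, 54, 38, 11, 41, 41, 7, 57, 57, 31, 56, 56, 22, 40, 40, 17, 18, 19, 25, 52, 52, 31, 36, 36, 44, 44, 60, 60, 49, 49, 22, 33, 33, 24, 20, 28, 25, 50, 50, 34, 34, 7, 35, 32, 14, 5, 10, 32, 35, 13, 51, 51, 48, 48, 11]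

/-- Orbit certificate from the second member. -/
def TRB : List (Nat × Nat × Nat) := [(207, 92, 1), (165, 207, 0), (1899, 207, 2), (1697, 165, 2), (3065, 1899, 3), (3358, 1899, 6), (111, 1697, 1), (2823, 1697, 3),
  (3204, 1697, 6), (3123, 3065, 4), (2355, 3065, 6), (363, 111, 3), (596, 111, 6), (3298, 2823, 4), (2108, 2823, 6), (1218, 3123, 5),
  (1530, 3123, 6), (540, 2355, 2), (17, 363, 2), (3163, 363, 4), (1458, 363, 6), (19, 596, 2), (1423, 3298, 5), (1716, 3298, 6),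
  (425, 2108, 2), (3124, 1218, 6), (2147, 1530, 2), (2128, 540, 1), (331, 17, 4), (3368, 3163, 5), (3481, 3163, 6), (3299, 1423, 6),
  (1919, 1716, 2), (3056, 3124, 2), (3347, 2147, 1), (3287, 2147, 3), (104, 331, 3), (1860, 331, 5), (3087, 3368, 6), (2814, 3299, 2),
  (3107, 1919, 3), (3088, 3056, 1), (1825, 3056, 3), (2843, 3347, 3), (929, 104, 5), (1612, 2814, 3), (3367, 3088, 3), (223, 1825, 4),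
  (537, 2843, 2), (22, 929, 4), (176, 1612, 4), (2179, 3367, 2), (2125, 3367, 4), (97, 537, 6), (3398, 2179, 4), (826, 2179, 6),
  (3091, 3398, 3), (2351, 3398, 6), (3366, 3091, 6), (2126, 3366, 2), (343, 2126, 1), (270, 343, 0)]

end Cfsg.Agent.ThreeTransM22SabData48
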