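import Cfsg.Agent.Lib.ThreeTransM22SFix48
import Cfsg.Agent.Lib.ThreeTransM22SabData48
import Cfsg.Agent.Lib.OrthMinusSixTwoAut48
import Cfsg.Agent.Lib.ComponentsCores
import Cfsg.Prelude.Def_Transfer
import Cfsg.Agent.S0283

/-!
# The third outer class of a group of type M(22)

The fixed points of the outer involution times a product of two fixed members have an elementary abelian
normal subgroup of order 64, on which they induce the orthogonal group of minus type in dimension six.
-/

set_option autoImplicit false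
set_option maxRecDepth 100000
set_option maxHeartbeats 800000
set_option linter.unusedSectionVars false
set_option linter.style.haveILetI false

namespace Cfsg.Agent.ThreeTransM22SabFix48

open Cfsg.Agent.CosetCertCore Cfsg.Agent.CosetCertTable
open Cfsg.Agent.ThreeTransM22Tab48 Cfsg.Agent.ThreeTransM22Word48 Cfsg.Agent.ThreeTransM22SFix48
open Cfsg.Agent.ThreeTransM22SabData48
open Cfsg.Agent.ThreeTransM22OutData48 (PA PB T7)
open Cfsg.Agent.ThreeTransFi22Out41 (e pi)
open Cfsg.Agent.CosetCertU62 (T22)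

/-- The index type of the six coordinates. -/
abbrev J : Type := (Fin 2 ⊕ Fin 2) ⊕ Fin 2

/-- The vectors. -/
abbrev V : Type := J → ZMod 2

/-- The quadratic form. -/
abbrev Qf : V → ZMod 2 := Cfsg.quadFormMinus 2 (ZMod 2) 1 1

/-- Number of a coordinate. -/
def num : J → Nat
  | .inl (.inl i) => i.val
  | .inl (.inr i) => 2 + i.val
  | .inr i => 4 + i.val

/-- The coordinates in order. -/
def JX : List J := [.inl (.inl 0), .inl (.inl 1), .inl (.inr 0), .inl (.inr 1), .inr 0, .inr 1]

/-- The vector of a code. -/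
def vecN (n : Nat) : V := fun j => if n.testBit (num j) then 1 else 0

/-- The point number `i`. -/
def pl (i : Nat) : Pt := PL.getD i PA

/-- The mate of a point. -/
def mt (i : Nat) : Nat := MATE.getD i 0

/-- The product of members of a vector. -/
def bl (v : V) : List Pt := JX.flatMap fun j => if v j = 1 then BE.getD (num j) [] else []

/-- The reflection. -/
def rfv (v x : V) : V := x + (Qf (v + x) + Qf v + Qf x) • v

/-- The action on the points of the outer involution times the two members. -/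
noncomputable def fab (p : Nat) : Nat := pi (T22.run (wd PA) (T22.run (wd PB) p))

/-- Orbit certificate on ordered pairs. -/
noncomputable def reach2 : List Nat → List (Nat × Nat × Nat) → Bool
  | _, [] => true
  | seen, (r, p, j) :: rest =>
    (seen.elem p && Nat.blt r 72 && Nat.blt j GS.length &&
      Nat.beq (T22.run (wd (GS.getD j PA)) (pl p).1) (pl r).1 &&
      Nat.beq (T22.run (wd (GS.getD j PA)) (pl (mt p)).1) (pl (mt r)).1) && reach2 (r :: seen) rest

theorem vecN_surj : ∀ v : V, ∃ n, n < 64 ∧ ∀ j, vecN n j = v j := by decide +kernel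

theorem pl_ok : (PL.all ptOk && GS.all ptOk && BE.all fun L => L.all fun P => PL.elem P) = true := by
  decide +kernel

theorem gs_mem : ∀ P ∈ GS, P ∈ PL := by decide +kernel

theorem pl_len : PL.length = 72 ∧ pl 0 = PA ∧ pl 1 = PB ∧ mt 0 = 1 := by decide +kernel

theorem mt_lt : ∀ i < 72, mt i < 72 := by decide +kernel

theorem fixed_ok : (PL.all fun P => Nat.beq (fab P.1) P.1) = true := by decide +kernel

theorem fixed_all : allFrom (fun p => !Nat.beq (fab p) p || (PL.map Prod.fst).elem p) T22.N 0 = true := by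
  decide +kernel

theorem count72 : ThreeTransAut41.cntFrom (fun p => Nat.beq (fab p) p) T22.N 0 0 = 72 := by decide +kernel

theorem reach_ok : reach2 [0] TR = true := by decide +kernel

theorem cover_pairs : ((List.range 72).all fun i => Nat.beq i 0 || (TR.map Prod.fst).elem i) = true := by
  decide +kernel

theorem mate_pattern : ((List.range 72).all fun r => Nat.beq r 0 || Nat.beq r 1 ||
    (cm PA (pl r).1 == cm PB (pl r).1)) = true := by
  decide +kernel

theorem mate_unique : ((List.range 72).all fun q => Nat.beq q 0 || Nat.beq q 1 ||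
    (List.range 72).any fun r => !Nat.beq r 0 && !Nat.beq r q &&
      !(cm PA (pl r).1 == cm (pl q) (pl r).1)) = true := by
  decide +kernel

theorem reachB : reach T7 [PB.1] TRB = true := by decide +kernel

theorem coverB : allFrom (fun q => !(Nat.beq (pi q) q && cm PA q && !Nat.beq q PA.1) ||
    (Nat.beq q PB.1 || (TRB.map Prod.fst).elem q)) T22.N 0 = true := by
  decide +kernel

theorem countB : ThreeTransAut41.cntFrom (fun q => Nat.beq (pi q) q && cm PA q && !Nat.beq q PA.1)
    T22.N 0 0 = 63 := by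
  decide +kernel

theorem basis_ok : ((List.range 6).all fun i => same (wp (BE.getD i [] ++ BE.getD i [])) [] &&
    (List.range 6).all fun j => same (wp (BE.getD i [] ++ BE.getD j [])) (wp (BE.getD j [] ++ BE.getD i []))) =
    true := by
  decide +kernel

theorem nonzero_ok : ((List.range 64).all fun n => Nat.beq n 0 || !same (wp (bl (vecN n))) []) = true := by
  decide +kernel

theorem pair_ok : ((List.range 72).all fun i =>
    same (wp [pl i, pl (mt i)]) (wp (bl (vecN (VEC.getD i 0))))) = true := by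
  decide +kernel

theorem vec_Q : ∀ i < 72, Qf (vecN (VEC.getD i 0)) = 1 := by decide +kernel

theorem vec_all : ∀ n < 64, Qf (vecN n) = 1 → n ∈ (List.range 72).map fun i => VEC.getD i 0 := by
  decide +kernel

theorem split_Q : ∀ n < 64, Qf (vecN n) = 1 ∨ n = 0 ∨
    ∃ m, m < 64 ∧ Qf (vecN m) = 1 ∧ Qf (vecN n + vecN m) = 1 := by
  decide +kernel

theorem refl_ok : ((List.range 72).all fun i => (List.range 6).all fun j =>
    same (wp ([pl i] ++ BE.getD j [] ++ [pl i]))
      (wp (bl (rfv (vecN (VEC.getD i 0)) (fun k => if num k = j then 1 else 0))))) = true := by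
  decide +kernel

theorem single_eq : ∀ j k : J, (Pi.single j (1 : ZMod 2) : V) k = if num k = num j then 1 else 0 := by
  decide +kernel

theorem bl_single : ∀ j : J, bl (Pi.single j 1) = BE.getD (num j) [] := by decide +kernel

theorem num_lt : ∀ j : J, num j < 6 := by decide +kernel

theorem cases_two : ∀ x : ZMod 2, x = 0 ∨ x = 1 := by decide

/-- The order of a subgroup permuting a set transitively. -/
theorem card_orbit {G : Type*} [Group G] [Finite G] (K : Subgroup G) (a : G) (S : Set G)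
    (hS : ∀ g ∈ K, g * a * g⁻¹ ∈ S) (htr : ∀ y ∈ S, ∃ g ∈ K, g * a * g⁻¹ = y) :
    Nat.card ↥K = S.ncard * Nat.card ↥(K ⊓ Subgroup.centralizer ({a} : Set G)) := by
  let B : Subgroup ↥K := (K ⊓ Subgroup.centralizer ({a} : Set G)).subgroupOf K
  let φ : ↥K ⧸ B → S := fun q => Quotient.liftOn' q
    (fun g => ⟨(g : G) * a * (g : G)⁻¹, hS _ g.2⟩)
    (fun g g' h => by
      rw [QuotientGroup.leftRel_apply] at h
      have h2 := Subgroup.mem_centralizer_singleton_iff.mp (Subgroup.mem_subgroupOf.mp h).2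
      simp only [Subgroup.coe_mul, Subgroup.coe_inv] at h2
      refine Subtype.ext ?_
      calc (g : G) * a * (g : G)⁻¹ = (g : G) * (a * ((g : G)⁻¹ * g')) * (g' : G)⁻¹ := by group
        _ = (g' : G) * a * (g' : G)⁻¹ := by rw [← h2]; group)
  have hφ : Function.Bijective φ := by
    refine ⟨fun q q' => ?_, fun y => ?_⟩
    · induction q using QuotientGroup.induction_on with
      | H g =>
      induction q' using QuotientGroup.induction_on with
      | H g' =>
      intro h
      have h1 : (g : G) * a * (g : G)⁻¹ = (g' : G) * a * (g' : G)⁻¹ := congrArg Subtype.val h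
      rw [QuotientGroup.eq]
      refine Subgroup.mem_subgroupOf.mpr ⟨(g⁻¹ * g').2, Subgroup.mem_centralizer_singleton_iff.mpr ?_⟩
      simp only [Subgroup.coe_mul, Subgroup.coe_inv]
      calc (g : G)⁻¹ * g' * a = (g : G)⁻¹ * ((g' : G) * a * (g' : G)⁻¹) * g' := by group
        _ = a * ((g : G)⁻¹ * g') := by rw [← h1]; group
    · obtain ⟨g, hg, e1⟩ := htr y.1 y.2
      exact ⟨QuotientGroup.mk ⟨g, hg⟩, Subtype.ext e1⟩
  rw [← B.index_mul_card, Nat.card_congr (Subgroup.subgroupOfEquivOfLe inf_le_left).toEquiv,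
    Subgroup.index, Nat.card_congr (Equiv.ofBijective φ hφ), Nat.card_coe_set_eq]

/-- Products of commuting families. -/
theorem prod_map_mul {G I : Type*} [Group G] (f g : I → G) (hc : ∀ i j, Commute (g i) (f j)) :
    ∀ l : List I, (l.map fun i => f i * g i).prod = (l.map f).prod * (l.map g).prod
  | [] => by simp
  | i :: l => by
    have h : Commute (g i) (l.map f).prod := Commute.list_prod_right _ _ fun x hx => by
      obtain ⟨j, -, rfl⟩ := List.mem_map.mp hx
      exact hc i j
    rw [List.map_cons, List.map_cons, List.map_cons, List.prod_cons, List.prod_cons, List.prod_cons,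
      prod_map_mul f g hc l]
    simp only [mul_assoc]
    rw [← mul_assoc (g i), h.eq, mul_assoc]

/-- A normal 2-subgroup of the automorphism group of a simple group of another order is trivial. -/
theorem pCore_mulAut {S : Type*} [Group S] [Finite S] [IsSimpleGroup S] (h : ¬ IsPGroup 2 S)
    (hc : Subgroup.center S = ⊥) : Cfsg.pCore 2 (MulAut S) = ⊥ := by
  haveI : Finite (MulAut S) :=
    Finite.of_injective (fun a : MulAut S => (a : S → S)) DFunLike.coe_injective
  set M := Cfsg.pCore 2 (MulAut S)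
  haveI : M.Normal := inferInstance
  set N := M.comap (MulAut.conj : S →* MulAut S)
  have hinj : Function.Injective (MulAut.conj : S →* MulAut S) := by
    rw [injective_iff_map_eq_one]
    intro x hx
    have : x ∈ Subgroup.center S := Subgroup.mem_center_iff.mpr fun y => by
      have h1 : x * y * x⁻¹ = y := DFunLike.congr_fun hx y
      exact (mul_inv_eq_iff_eq_mul.mp h1).symm
    rwa [hc, Subgroup.mem_bot] at this
  rcases (inferInstance : N.Normal).eq_bot_or_eq_top with hN | hN
  · rw [eq_bot_iff]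
    intro m hm
    rw [Subgroup.mem_bot]
    refine MulEquiv.ext fun x => ?_
    have h1 : m * MulAut.conj x * m⁻¹ * (MulAut.conj x)⁻¹ ∈ M := by
      rw [mul_assoc m, mul_assoc m]
      exact mul_mem hm ((inferInstance : M.Normal).conj_mem _ (inv_mem hm) _)
    have h2 : m * MulAut.conj x * m⁻¹ = MulAut.conj (m x) := MulEquiv.ext fun y => by
      simp [MulAut.mul_apply]
    rw [h2, ← map_inv, ← map_mul] at h1
    have h3 : m x * x⁻¹ ∈ N := h1
    rw [hN, Subgroup.mem_bot] at h3
    exact mul_inv_eq_one.mp h3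
  · refine absurd (?_ : IsPGroup 2 S) h
    have hr : (MulAut.conj : S →* MulAut S).range ≤ M := by
      rintro _ ⟨x, rfl⟩
      exact (hN ▸ Subgroup.mem_top x : x ∈ N)
    exact ((ComponentsCores.isPGroup_pCore 2).to_le hr).of_equiv (MonoidHom.ofInjective hinj).symm

theorem pCore_orth : Cfsg.pCore 2 ↥(Cfsg.isometryGroup (ZMod 2) Qf) = ⊥ := by
  letI : Fintype (GaloisField 2 2) := Fintype.ofFinite _
  have h4 : Fintype.card (GaloisField 2 2) = 4 := by
    rw [← Nat.card_eq_fintype_card, GaloisField.card 2 2 (by norm_num)]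
    norm_num
  obtain ⟨e0⟩ := OrthMinusSixTwoAut48.nonempty_equiv h4
  haveI : IsSimpleGroup (Cfsg.PSU 4 (GaloisField 2 2) 2) :=
    S0283.result (q := 2) (by rw [h4]; rfl) 4 (by norm_num) (by omega)
  have hn2 : ¬ IsPGroup 2 (Cfsg.PSU 4 (GaloisField 2 2) 2) := by
    intro h
    obtain ⟨n, hn⟩ := IsPGroup.iff_card.mp h
    rw [OrthMinusSixTwoAut48.card_PSU_four h4] at hn
    have h5 : 5 ∣ 2 ^ n := hn ▸ by norm_num
    exact absurd (Nat.prime_five.dvd_of_dvd_pow h5) (by norm_num)
  have hc : Subgroup.center (Cfsg.PSU 4 (GaloisField 2 2) 2) = ⊥ := by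
    rcases (inferInstance : (Subgroup.center (Cfsg.PSU 4 (GaloisField 2 2) 2)).Normal).eq_bot_or_eq_top
      with h | h
    · exact h
    · exfalso
      letI : CommGroup (Cfsg.PSU 4 (GaloisField 2 2) 2) :=
        { (inferInstance : Group (Cfsg.PSU 4 (GaloisField 2 2) 2)) with
          mul_comm := fun x y => (Subgroup.mem_center_iff.mp (h ▸ Subgroup.mem_top y) x) }
      have hp := IsSimpleGroup.prime_card (α := Cfsg.PSU 4 (GaloisField 2 2) 2)
      rw [OrthMinusSixTwoAut48.card_PSU_four h4] at hp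
      norm_num at hp
  have h := ComponentsCores.pCore_map_mulEquiv e0 2
  rw [pCore_mulAut hn2 hc] at h
  exact (Subgroup.map_eq_bot_iff_of_injective _ e0.injective).mp h

variable {G : Type*} [Group G] [Finite G] {D : Set G}
variable (hD : Cfsg.IsThreeTranspositionGroup D) (hprim : Cfsg.IsPrimitiveUnderConj D)
  (h22 : Cfsg.IsOfTypeM22 G D)
variable {dN : Nat → G} {s : MulAut G} (T : Tab D dN s)

/-- The automorphism. -/
def tab (dN : Nat → G) (s : MulAut G) : MulAut G := s * MulAut.conj (dN PA.1 * dN PB.1)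

/-- The product of a vector. -/
def Φ (dN : Nat → G) (v : V) : G := ((bl v).map fun P => dN P.1).prod

include T

theorem okL {i : Nat} : ptOk (pl i) = true := by
  have h := pl_ok
  rw [Bool.and_eq_true, Bool.and_eq_true, List.all_eq_true] at h
  by_cases hi : i < PL.length
  · rw [pl, List.getD_eq_getElem _ _ hi]; exact h.1.1 _ (List.getElem_mem hi)
  · rw [pl, List.getD_eq_default _ _ (by omega)]; exact ok T (by simp)

theorem ltL {i : Nat} : (pl i).1 < T22.N := (ptOk_iff T (okL T)).1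

theorem okB (j : Nat) : ∀ P ∈ BE.getD j [], P ∈ PL ∧ ptOk P = true := by
  have h := pl_ok
  simp only [Bool.and_eq_true, List.all_eq_true, List.elem_iff] at h
  intro P hP
  by_cases hj : j < BE.length
  · rw [List.getD_eq_getElem _ _ hj] at hP
    have := h.2 _ (List.getElem_mem hj) P hP
    exact ⟨this, h.1.1 P this⟩
  · rw [List.getD_eq_default _ _ (by omega)] at hP
    exact absurd hP List.not_mem_nil

theorem okBl (v : V) : ∀ P ∈ bl v, P ∈ PL ∧ ptOk P = true := by
  intro P hP
  obtain ⟨j, -, hPj⟩ := List.mem_flatMap.mp hP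
  split_ifs at hPj
  · exact okB T _ P hPj
  · exact absurd hPj List.not_mem_nil

theorem pl_index {P : Pt} (h : P ∈ PL) : ∃ i < 72, pl i = P := by
  obtain ⟨i, hi, rfl⟩ := List.getElem_of_mem h
  exact ⟨i, pl_len.1 ▸ hi, by rw [pl, List.getD_eq_getElem _ _ hi]⟩

theorem tab_dN {q : Nat} (hq : q < T22.N) : fab q < T22.N ∧ tab dN s (dN q) = dN (fab q) := by
  have h2 := conj_pt T (ok T (P := PB) (by simp)) hq
  have hr := run_lt (wd_lt T (ok T (P := PB) (by simp))) hq
  have h1 := conj_pt T (ok T (P := PA) (by simp)) hr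
  have hr' := run_lt (wd_lt T (ok T (P := PA) (by simp))) hr
  refine ⟨(pi_spec _ hr').1, ?_⟩
  show s (MulAut.conj (dN PA.1 * dN PB.1) (dN q)) = _
  rw [fab, ← T.aut _ hr', ← h1, ← h2]
  simp [mul_assoc]

theorem pl_fixed {i : Nat} : dN (pl i).1 ∈ fixS (tab dN s) := by
  rw [mem_fixS, (tab_dN T (ltL T)).2]
  by_cases hi : i < PL.length
  · have h := List.all_eq_true.mp fixed_ok (pl i) (by rw [pl, List.getD_eq_getElem _ _ hi]; exact List.getElem_mem hi)
    rw [Nat.beq_eq.mp h]
  · rw [pl, List.getD_eq_default _ _ (by omega)]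
    have h := List.all_eq_true.mp fixed_ok (pl 0) (by
      rw [pl, List.getD_eq_getElem _ _ (by rw [pl_len.1]; norm_num)]; exact List.getElem_mem _)
    rw [pl_len.2.1, Nat.beq_eq] at h
    rw [h]

theorem fixed_index {q : Nat} (hq : q < T22.N) (h : tab dN s (dN q) = dN q) :
    ∃ i < 72, (pl i).1 = q := by
  have he : fab q = q := T.inj _ (tab_dN T hq).1 _ hq ((tab_dN T hq).2.symm.trans h)
  have := all_of fixed_all hq
  simp only [Bool.or_eq_true, Bool.not_eq_true', List.elem_iff, List.mem_map] at this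
  rcases this with h1 | ⟨P, hP, rfl⟩
  · rw [he, Nat.beq_refl] at h1; exact Bool.noConfusion h1
  · obtain ⟨i, hi, rfl⟩ := pl_index T hP
    exact ⟨i, hi, rfl⟩

/-- The pairs are conjugate under the seven. -/
theorem pair_orbit : ∀ i < 72, ∃ k ∈ fixS (tab dN s),
    k * dN PA.1 * k⁻¹ = dN (pl i).1 ∧ k * dN PB.1 * k⁻¹ = dN (pl (mt i)).1 := by
  have key : ∀ (tr : List (Nat × Nat × Nat)) (seen : List Nat), reach2 seen tr = true →
      (∀ q ∈ seen, q < 72 ∧ ∃ k ∈ fixS (tab dN s),
        k * dN PA.1 * k⁻¹ = dN (pl q).1 ∧ k * dN PB.1 * k⁻¹ = dN (pl (mt q)).1) →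
      ∀ t ∈ tr, ∃ k ∈ fixS (tab dN s),
        k * dN PA.1 * k⁻¹ = dN (pl t.1).1 ∧ k * dN PB.1 * k⁻¹ = dN (pl (mt t.1)).1 := by
    intro tr
    induction tr with
    | nil => simp
    | cons t tr ih =>
      obtain ⟨r, p, j⟩ := t
      intro seen h hs
      simp only [reach2, Bool.and_eq_true, Nat.blt_eq, Nat.beq_eq, List.elem_iff] at h
      obtain ⟨⟨⟨⟨⟨hp, hr⟩, hj⟩, h1⟩, h2⟩, hrest⟩ := h
      have hgm : GS.getD j PA ∈ GS := by rw [List.getD_eq_getElem _ _ hj]; exact List.getElem_mem hj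
      obtain ⟨i, -, hi⟩ := pl_index T (gs_mem _ hgm)
      obtain ⟨-, k, hk, e1, e2⟩ := hs p hp
      have hnew : r < 72 ∧ ∃ k ∈ fixS (tab dN s),
          k * dN PA.1 * k⁻¹ = dN (pl r).1 ∧ k * dN PB.1 * k⁻¹ = dN (pl (mt r)).1 := by
        refine ⟨hr, dN (pl i).1 * k, mul_mem (pl_fixed T) hk, ?_, ?_⟩
        · rw [← h1, ← hi, ← conj_pt T (okL T) (ltL T), ← e1]; group
        · rw [← h2, ← hi, ← conj_pt T (okL T) (ltL T), ← e2]; group
      intro t' ht'
      rcases List.mem_cons.mp ht' with rfl | ht'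
      · exact hnew.2
      · refine ih (r :: seen) hrest (fun y hy => ?_) t' ht'
        rcases List.mem_cons.mp hy with rfl | hy
        exacts [hnew, hs y hy]
  have h0 : ∃ k ∈ fixS (tab dN s),
      k * dN PA.1 * k⁻¹ = dN (pl 0).1 ∧ k * dN PB.1 * k⁻¹ = dN (pl (mt 0)).1 :=
    ⟨1, one_mem _, by simp [pl_len.2.1], by simp [pl_len.2.2.2, pl_len.2.2.1]⟩
  intro i hi
  have hc := List.all_eq_true.mp cover_pairs i (List.mem_range.mpr hi)
  simp only [Bool.or_eq_true, Nat.beq_eq, List.elem_iff, List.mem_map] at hc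
  rcases hc with rfl | ⟨t, ht, rfl⟩
  · exact h0
  · exact key TR [0] reach_ok (fun q hq => by
      rw [List.mem_singleton] at hq; subst hq; exact ⟨by norm_num, h0⟩) t ht

/-- What fixes the first member fixes the second. -/
theorem stab_b {g : G} (hg : g ∈ fixS (tab dN s)) (ha : g * dN PA.1 * g⁻¹ = dN PA.1) :
    g * dN PB.1 * g⁻¹ = dN PB.1 := by
  have hPA := ok T (P := PA) (by simp)
  have hPB := ok T (P := PB) (by simp)
  have hbf : dN PB.1 ∈ fixS (tab dN s) := by rw [← pl_len.2.2.1]; exact pl_fixed T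
  have hperm : ∀ i, ∃ j < 72, g * dN (pl i).1 * g⁻¹ = dN (pl j).1 := fun i => by
    obtain ⟨q, hq, e1⟩ := T.surj _ (T.ts.conj g _ (T.mem _ (ltL T (i := i))))
    obtain ⟨j, hj, rfl⟩ := fixed_index T hq (by
      rw [e1, map_mul, map_mul, map_inv, mem_fixS.mp hg, mem_fixS.mp (pl_fixed T)])
    exact ⟨j, hj, e1.symm⟩
  obtain ⟨q, hq72, hq⟩ : ∃ j < 72, g * dN PB.1 * g⁻¹ = dN (pl j).1 := by
    rw [← pl_len.2.2.1]; exact hperm 1
  have h01 : PA.1 ≠ PB.1 := by decide +kernel
  have hu := List.all_eq_true.mp mate_unique q (List.mem_range.mpr hq72)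
  simp only [Bool.or_eq_true, Nat.beq_eq, List.any_eq_true, Bool.and_eq_true, Bool.not_eq_true',
    List.mem_range] at hu
  rcases hu with (rfl | rfl) | ⟨r, hr, ⟨hr0, hrq⟩, hpat⟩
  · rw [pl_len.2.1] at hq
    exact absurd (T.inj _ (ptOk_iff T hPA).1 _ (ptOk_iff T hPB).1
      (mul_left_cancel (mul_right_cancel (ha.trans hq.symm)))) h01
  · rw [pl_len.2.2.1] at hq; exact hq
  · exfalso
    rw [beq_eq_false_iff_ne] at hpat
    apply hpat
    -- pull the point back
    obtain ⟨i, hi, e1⟩ : ∃ i < 72, g⁻¹ * dN (pl r).1 * g = dN (pl i).1 := by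
      obtain ⟨p, hp, e1⟩ := T.surj _ (T.ts.conj g⁻¹ _ (T.mem _ (ltL T (i := r))))
      obtain ⟨j, hj, rfl⟩ := fixed_index T hp (by
        simp only [e1, map_mul, map_inv, mem_fixS.mp hg, mem_fixS.mp (pl_fixed T (i := r))])
      exact ⟨j, hj, by rw [e1, inv_inv]⟩
    have e2 : g * dN (pl i).1 * g⁻¹ = dN (pl r).1 := by rw [← e1]; group
    have hi01 : i ≠ 0 ∧ i ≠ 1 := by
      refine ⟨fun h => ?_, fun h => ?_⟩
      · rw [h, pl_len.2.1, ha] at e2
        have := T.inj _ (ptOk_iff T hPA).1 _ (ltL T) e2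
        have hnd : ∀ r < 72, (pl r).1 = PA.1 → r = 0 := by decide +kernel
        have h0 := hnd r hr this.symm
        rw [h0, Nat.beq_refl] at hr0
        exact Bool.noConfusion hr0
      · rw [h, pl_len.2.2.1, hq] at e2
        have := T.inj _ (ltL T) _ (ltL T) e2
        have hnd : ∀ a < 72, ∀ b < 72, (pl a).1 = (pl b).1 → a = b := by decide +kernel
        rw [← hnd q hq72 r hr this, Nat.beq_refl] at hrq
        exact Bool.noConfusion hrq
    have hp := List.all_eq_true.mp mate_pattern i (List.mem_range.mpr hi)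
    simp only [Bool.or_eq_true, Nat.beq_eq, beq_iff_eq] at hp
    have hp' := (hp.resolve_left fun h => h.elim hi01.1 hi01.2)
    rw [Bool.eq_iff_iff, cm_iff T hPA (ltL T), cm_iff T hPB (ltL T)] at hp'
    rw [Bool.eq_iff_iff, cm_iff T hPA (ltL T), cm_iff T (okL T) (ltL T)]
    rw [← e2, ← hq]
    conv_lhs => rw [← ha]
    rw [Commute.conj_iff g, Commute.conj_iff g]
    exact hp'

/-- Conjugates of the product of the two are the products of the pairs. -/
theorem pair_conj {g : G} (hg : g ∈ fixS (tab dN s)) :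
    ∃ i < 72, g * (dN PA.1 * dN PB.1) * g⁻¹ = dN (pl i).1 * dN (pl (mt i)).1 := by
  have haf : dN PA.1 ∈ fixS (tab dN s) := by rw [← pl_len.2.1]; exact pl_fixed T
  obtain ⟨q, hq, e1⟩ := T.surj _ (T.ts.conj g _ (T.mem _ (aN T)))
  obtain ⟨i, hi, rfl⟩ := fixed_index T hq (by
    rw [e1, map_mul, map_mul, map_inv, mem_fixS.mp hg, mem_fixS.mp haf])
  obtain ⟨k, hk, ka, kb⟩ := pair_orbit T i hi
  have ha' : k⁻¹ * g * dN PA.1 * (k⁻¹ * g)⁻¹ = dN PA.1 := by
    calc k⁻¹ * g * dN PA.1 * (k⁻¹ * g)⁻¹ = k⁻¹ * (g * dN PA.1 * g⁻¹) * k := by group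
      _ = dN PA.1 := by rw [← e1, ← ka]; group
  have hb' := stab_b T (mul_mem (inv_mem hk) hg) ha'
  have hgb : g * dN PB.1 * g⁻¹ = dN (pl (mt i)).1 := by
    calc g * dN PB.1 * g⁻¹ = k * (k⁻¹ * g * dN PB.1 * (k⁻¹ * g)⁻¹) * k⁻¹ := by group
      _ = dN (pl (mt i)).1 := by rw [hb', kb]
  refine ⟨i, hi, ?_⟩
  rw [← hgb, e1]
  group

theorem Φ_zero : Φ dN (0 : V) = 1 := by
  rw [Φ, show bl (0 : V) = [] from by decide +kernel]; rfl

theorem Φ_word (v : V) : Φ dN v = (JX.map fun j => ((BE.getD (num j) []).map fun P => dN P.1).prod ^ (v j).val).prod := by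
  rw [Φ, bl]
  induction JX with
  | nil => rfl
  | cons j l ih =>
    rw [List.flatMap_cons, List.map_append, List.prod_append, ih, List.map_cons, List.prod_cons]
    congr 1
    rcases cases_two (v j) with h | h <;> rw [h]
    · simp
    · simp [ZMod.val_one]

theorem basis_rel (i j : J) :
    Commute (((BE.getD (num i) []).map fun P => dN P.1).prod) (((BE.getD (num j) []).map fun P => dN P.1).prod) ∧
    ((BE.getD (num i) []).map fun P => dN P.1).prod * ((BE.getD (num i) []).map fun P => dN P.1).prod = 1 := by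
  have h := List.all_eq_true.mp basis_ok (num i) (List.mem_range.mpr (num_lt i))
  rw [Bool.and_eq_true, List.all_eq_true] at h
  have hok : ∀ k l, ∀ P ∈ BE.getD k [] ++ BE.getD l [], ptOk P = true := fun k l P hP =>
    (List.mem_append.mp hP).elim (fun h => (okB T k P h).2) fun h => (okB T l P h).2
  have h1 := prod_eq_of_same T (M := []) (hok _ _) (by simp) h.1
  have h2 := prod_eq_of_same T (hok _ _) (hok _ _) (h.2 (num j) (List.mem_range.mpr (num_lt j)))
  simp only [List.map_append, List.prod_append, List.map_nil, List.prod_nil] at h1 h2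
  exact ⟨h2, h1⟩

theorem Φ_add (v w : V) : Φ dN (v + w) = Φ dN v * Φ dN w := by
  rw [Φ_word T, Φ_word T, Φ_word T, ← prod_map_mul _ _ (fun i j =>
    ((basis_rel T i j).1.pow_pow _ _))]
  refine congrArg List.prod (List.map_congr_left fun j _ => ?_)
  have h2 := (basis_rel T j j).2
  show _ ^ ((v + w) j).val = _
  rw [Pi.add_apply]
  rcases cases_two (v j) with h | h <;> rcases cases_two (w j) with h' | h' <;> rw [h, h']
  · simp
  · simp
  · simp
  · rw [show (1 + 1 : ZMod 2) = 0 by decide, ZMod.val_zero, pow_zero, ZMod.val_one, pow_one, h2]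

theorem Φ_inj {v w : V} (h : Φ dN v = Φ dN w) : v = w := by
  have h2 : Φ dN (v + w) = 1 := by
    rw [Φ_add T, h, ← Φ_add T, show w + w = 0 from CharTwo.add_self_eq_zero w, Φ_zero T]
  obtain ⟨n, hn, hv⟩ := vecN_surj (v + w)
  have hv' : vecN n = v + w := funext hv
  have hc := List.all_eq_true.mp nonzero_ok n (List.mem_range.mpr hn)
  simp only [Bool.or_eq_true, Nat.beq_eq, Bool.not_eq_true'] at hc
  rcases hc with rfl | hne
  · have h0 : v + w = 0 := by rw [← hv']; funext j; simp [vecN]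
    funext j
    have := congrFun h0 j
    exact CharTwo.add_eq_zero.mp this
  · exfalso
    refine prod_ne_of_run T (fun P hP => (okBl T _ P hP).2) (M := []) (by simp) hne ?_
    rw [List.map_nil, List.prod_nil, hv']
    exact h2

theorem pair_vec {i : Nat} (hi : i < 72) :
    dN (pl i).1 * dN (pl (mt i)).1 = Φ dN (vecN (VEC.getD i 0)) := by
  have := prod_eq_of_same T (L := [pl i, pl (mt i)])
    (fun P hP => by simp at hP; rcases hP with rfl | rfl <;> exact okL T)
    (fun P hP => (okBl T _ P hP).2) (List.all_eq_true.mp pair_ok i (List.mem_range.mpr hi))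
  simpa [Φ] using this

theorem vec_pair {v : V} (hv : Qf v = 1) :
    ∃ i < 72, dN (pl i).1 * dN (pl (mt i)).1 = Φ dN v ∧ v = vecN (VEC.getD i 0) := by
  obtain ⟨n, hn, h⟩ := vecN_surj v
  obtain rfl : vecN n = v := funext h
  obtain ⟨i, hi, rfl⟩ := List.mem_map.mp (vec_all n hn hv)
  exact ⟨i, List.mem_range.mp hi, pair_vec T (List.mem_range.mp hi), rfl⟩

/-- Conjugation moves a non-singular vector to one. -/
theorem conj_one {g : G} (hg : g ∈ fixS (tab dN s)) {v : V} (hv : Qf v = 1) :
    ∃ w, Qf w = 1 ∧ g * Φ dN v * g⁻¹ = Φ dN w := by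
  obtain ⟨i, hi, e1, -⟩ := vec_pair T hv
  obtain ⟨k, hk, ka, kb⟩ := pair_orbit T i hi
  obtain ⟨j, hj, e2⟩ := pair_conj T (mul_mem hg hk)
  refine ⟨_, vec_Q j hj, ?_⟩
  rw [← pair_vec T hj, ← e2, ← e1, ← ka, ← kb]
  group

theorem conj_any {g : G} (hg : g ∈ fixS (tab dN s)) (v : V) :
    ∃ w, g * Φ dN v * g⁻¹ = Φ dN w := by
  obtain ⟨n, hn, h⟩ := vecN_surj v
  obtain rfl : vecN n = v := funext h
  rcases split_Q n hn with h1 | rfl | ⟨m, -, h1, h2⟩
  · exact (conj_one T hg h1).imp fun w hw => hw.2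
  · exact ⟨0, by rw [show vecN 0 = (0 : V) from funext fun j => by simp [vecN], Φ_zero T]; group⟩
  · obtain ⟨w1, -, e1⟩ := conj_one T hg h1
    obtain ⟨w2, -, e2⟩ := conj_one T hg h2
    refine ⟨w2 + w1, ?_⟩
    have : vecN n = (vecN n + vecN m) + vecN m := by
      rw [add_assoc, CharTwo.add_self_eq_zero, add_zero]
    rw [this, Φ_add T (vecN n + vecN m) (vecN m), Φ_add T w2 w1, ← e1, ← e2]
    group

theorem Φ_mem (v : V) : Φ dN v ∈ fixS (tab dN s) :=
  Subgroup.list_prod_mem _ fun x hx => by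
    obtain ⟨P, hP, rfl⟩ := List.mem_map.mp hx
    obtain ⟨i, -, rfl⟩ := pl_index T (okBl T v P hP).1
    exact pl_fixed T

include hD hprim h22

theorem card_fix : Nat.card ↥(fixS (tab dN s)) = 3317760 := by
  set a := dN PA.1
  set H := fixS (tab dN s)
  have hPA := ok T (P := PA) (by simp)
  have hPB := ok T (P := PB) (by simp)
  have haH : a ∈ H := by show dN PA.1 ∈ _; rw [← pl_len.2.1]; exact pl_fixed T
  have h1 := card_orbit H a {y | y ∈ D ∧ tab dN s y = y}
    (fun g hg => ⟨T.ts.conj g _ (T.mem _ (aN T)), by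
      rw [map_mul, map_mul, map_inv, mem_fixS.mp hg, mem_fixS.mp haH]⟩)
    (fun y hy => by
      obtain ⟨q, hq, rfl⟩ := T.surj y hy.1
      obtain ⟨i, hi, rfl⟩ := fixed_index T hq hy.2
      exact (pair_orbit T i hi).imp fun k hk => ⟨hk.1, hk.2.1⟩)
  set C1 := fixS s ⊓ Subgroup.centralizer ({a} : Set G)
  have hab : Commute a (dN PB.1) :=
    (cm_iff T hPA (ptOk_iff T hPB).1).mp (by decide +kernel)
  have hconjb : ∀ {g : G}, Commute g a → Commute g (dN PB.1) →
      MulAut.conj (a * dN PB.1) g = g := fun {g} e1 e2 =>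
    show a * dN PB.1 * g * (a * dN PB.1)⁻¹ = g from
      mul_inv_eq_iff_eq_mul.mpr (e1.mul_right e2).eq.symm
  have h2 : H ⊓ Subgroup.centralizer ({a} : Set G) = C1 ⊓ Subgroup.centralizer ({dN PB.1} : Set G) := by
    ext g
    simp only [C1, Subgroup.mem_inf, Subgroup.mem_centralizer_singleton_iff]
    constructor
    · rintro ⟨hg, hga⟩
      have hgb : g * dN PB.1 = dN PB.1 * g :=
        mul_inv_eq_iff_eq_mul.mp (stab_b T hg (mul_inv_eq_iff_eq_mul.mpr hga))
      refine ⟨⟨?_, hga⟩, hgb⟩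
      have h3 : s (MulAut.conj (a * dN PB.1) g) = g := hg
      rwa [hconjb hga hgb] at h3
    · rintro ⟨⟨hg, hga⟩, hgb⟩
      refine ⟨?_, hga⟩
      show s (MulAut.conj (a * dN PB.1) g) = g
      rw [hconjb hga hgb, mem_fixS.mp hg]
  have h3 := card_orbit C1 (dN PB.1) {y | ∃ q < T22.N, (Nat.beq (pi q) q && cm PA q && !Nat.beq q PA.1) = true ∧ y = dN q}
    (fun g hg => by
      obtain ⟨q, hq, e1⟩ := T.surj _ (T.ts.conj g _ (T.mem _ (ptOk_iff T hPB).1))
      refine ⟨q, hq, ?_, e1.symm⟩
      have hga : Commute g a := Subgroup.mem_centralizer_singleton_iff.mp hg.2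
      have hga' : g * a * g⁻¹ = a := mul_inv_eq_iff_eq_mul.mpr hga.eq
      rw [Bool.and_eq_true, Bool.and_eq_true, Nat.beq_eq, Bool.not_eq_true', cm_iff T hPA hq]
      refine ⟨⟨(fixed_iff T hq).mp ?_, ?_⟩, ?_⟩
      · rw [e1]
        exact mul_mem (mul_mem hg.1 ((fixed_iff T (ptOk_iff T hPB).1).mpr (by decide +kernel))) (inv_mem hg.1)
      · show Commute a (dN q)
        rw [e1, ← hga', Commute.conj_iff g]
        exact hab
      · rw [← Bool.not_eq_true, Nat.beq_eq]
        rintro rfl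
        exact (by decide +kernel : PB.1 ≠ PA.1) (T.inj _ (ptOk_iff T hPB).1 _ (aN T)
          (mul_left_cancel (mul_right_cancel (e1.symm.trans hga'.symm)))))
    (fun y ⟨q, hq, hcond, he⟩ => by
      have hK : ∀ P ∈ T7, dN P.1 ∈ C1 := fun P hP => by
        obtain ⟨p1, p2, -, p4⟩ := t7_mem T hP
        exact ⟨(fixed_iff T (ptOk_iff T p1).1).mpr p2, Subgroup.mem_centralizer_singleton_iff.mpr p4.symm.eq⟩
      have hall := reach_conj T C1 (fun P hP => (t7_mem T hP).1) hK (ptOk_iff T hPB).1 reachB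
      have hcov := all_of coverB hq
      simp only [hcond, Bool.not_true, Bool.false_or, Bool.or_eq_true, Nat.beq_eq, List.elem_iff,
        List.mem_map] at hcov
      subst he
      rcases hcov with rfl | ⟨t, ht, rfl⟩
      · exact ⟨1, one_mem _, by simp⟩
      · exact hall t ht)
  have h63 : {y | ∃ q < T22.N, (Nat.beq (pi q) q && cm PA q && !Nat.beq q PA.1) = true ∧ y = dN q}.ncard = 63 := by
    classical
    rw [← countB, ThreeTransAut41.cntFrom_eq, Nat.zero_add, ← List.range_eq_range',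
      List.countP_eq_length_filter, ← List.toFinset_card_of_nodup ((List.nodup_range).filter _),
      ← Set.ncard_coe_finset]
    refine (Set.ncard_congr (fun p _ => dN p) (fun p hp => ?_) (fun p q hp hq h => ?_) fun y hy => ?_).symm
    · simp only [List.coe_toFinset, List.mem_filter, List.mem_range, Set.mem_setOf_eq] at hp
      exact ⟨p, hp.1, hp.2, rfl⟩
    · simp only [List.coe_toFinset, List.mem_filter, List.mem_range, Set.mem_setOf_eq] at hp hq
      exact T.inj p hp.1 q hq.1 h
    · obtain ⟨q, hq, hc, rfl⟩ := hy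
      exact ⟨q, by simp only [List.coe_toFinset, List.mem_filter, List.mem_range, Set.mem_setOf_eq]; exact ⟨hq, hc⟩, rfl⟩
  rw [h63, card_two hD hprim h22 T] at h3
  rw [ncard_fixed T (tab dN s) fab (fun p hp => tab_dN T hp), count72, h2] at h1
  omega

/-- The structure of the fixed points. -/
theorem main : ∃ O : Subgroup G,
    O = (Cfsg.pCore 2 ↥(fixS (tab dN s))).map (fixS (tab dN s)).subtype ∧
    Cfsg.IsElementaryAbelian 2 O ∧ Nat.card O = 64 ∧
    ∃ _ : (O.subgroupOf (fixS (tab dN s))).Normal,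
      Nonempty (↥(fixS (tab dN s)) ⧸ O.subgroupOf (fixS (tab dN s)) ≃* Cfsg.isometryGroup (ZMod 2) Qf) := by
  classical
  set H := fixS (tab dN s)
  set Q := QuadClassify.qMinus 2 (ZMod 2) (1 : ZMod 2) 1
  have hf : ∀ v, Qf v = Q v := fun v => (congrFun (QuadClassify.qMinus_coe (F := ZMod 2) 2 1 1) v).symm
  have hab : ∀ z₁ z₂ : ZMod 2, z₁ ^ 2 + 1 * z₁ * z₂ + 1 * z₂ ^ 2 = 0 → z₁ = 0 ∧ z₂ = 0 := by decide
  haveI := OrthUnitaryQuad.finite_orth Q
  -- the action
  have hex : ∀ g : H, ∀ v, ∃ w, (g : G) * Φ dN v * (g : G)⁻¹ = Φ dN w := fun g v => conj_any T g.2 v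
  choose act hact using hex
  have hadd : ∀ g v w, act g (v + w) = act g v + act g w := fun g v w => Φ_inj T (by
    rw [← hact, Φ_add T, Φ_add T, ← hact, ← hact]; group)
  have hmul : ∀ g g' v, act (g * g') v = act g (act g' v) := fun g g' v => Φ_inj T (by
    rw [← hact, ← hact, ← hact, Subgroup.coe_mul]; group)
  have hone : ∀ v, act 1 v = v := fun v => Φ_inj T (by rw [← hact]; simp)
  have hQ1 : ∀ g v, Qf v = 1 → Qf (act g v) = 1 := fun g v hv => by
    obtain ⟨w, hw, e1⟩ := conj_one T g.2 hv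
    rwa [Φ_inj T ((hact g v).symm.trans e1)]
  have hQ : ∀ g v, Qf (act g v) = Qf v := fun g v => by
    rcases cases_two (Qf v) with h | h
    · rcases cases_two (Qf (act g v)) with h' | h'
      · rw [h, h']
      · have h1 := hQ1 g⁻¹ _ h'
        rw [← hmul, inv_mul_cancel, hone, h] at h1
        exact absurd h1 (by decide)
    · rw [h]; exact hQ1 g v h
  let lin : H → (V ≃ₗ[ZMod 2] V) := fun g =>
    { AddMonoidHom.toZModLinearMap 2 (AddMonoidHom.mk' (act g) (hadd g)) with
      invFun := act g⁻¹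
      left_inv := fun v => by
        show act g⁻¹ (act g v) = v
        rw [← hmul, inv_mul_cancel, hone]
      right_inv := fun v => by
        show act g (act g⁻¹ v) = v
        rw [← hmul, mul_inv_cancel, hone] }
  let ψ : H →* OrthUnitaryQuad.orth Q :=
    MonoidHom.mk' (fun g => ⟨lin g, fun v => by rw [← hf, ← hf]; exact hQ g v⟩)
      (fun g g' => Subtype.ext (LinearEquiv.ext fun v => hmul g g' v))
  -- reflections
  have hsur : Function.Surjective ψ := by
    rw [← MonoidHom.range_eq_top, eq_top_iff, ← OrthUnitaryRefl.reflGroup_eq_top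
      (OrthUnitaryOmega.isReg_of_nondegenerate (AutOrth45Forms.nondegenerate_qMinus hab 2))
      (Or.inr (by simp)), OrthUnitaryRefl.reflGroup, Subgroup.closure_le]
    rintro _ ⟨v, hv, rfl⟩
    have hv1 : Qf v = 1 := (cases_two (Qf v)).resolve_left (by rw [hf]; exact hv)
    obtain ⟨i, hi, -, rfl⟩ := vec_pair T hv1
    refine ⟨⟨dN (pl i).1, pl_fixed T⟩, Subtype.ext (LinearEquiv.toLinearMap_injective
      ((Pi.basisFun (ZMod 2) J).ext fun j => ?_))⟩
    rw [Pi.basisFun_apply]
    show act _ (Pi.single j 1) = (OrthUnitaryQuad.refl Q _ hv).1 (Pi.single j 1)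
    refine Φ_inj T ?_
    rw [← hact, OrthUnitaryQuad.refl_apply, ← hf, hv1, inv_one, one_mul, QuadraticMap.polar, ← hf, ← hf, ← hf, hv1]
    have h := List.all_eq_true.mp (List.all_eq_true.mp refl_ok i (List.mem_range.mpr hi)) (num j)
      (List.mem_range.mpr (num_lt j))
    have h' := prod_eq_of_same T
      (fun P hP => by
        simp only [List.mem_append, List.mem_singleton] at hP
        rcases hP with (rfl | hP) | rfl
        exacts [okL T, (okB T _ P hP).2, okL T])
      (fun P hP => (okBl T _ P hP).2) h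
    simp only [List.map_append, List.prod_append, List.map_cons, List.map_nil, List.prod_cons,
      List.prod_nil, mul_one] at h'
    show dN (pl i).1 * Φ dN (Pi.single j 1) * (dN (pl i).1)⁻¹ = _
    rw [inv_dN T (ltL T), Φ, bl_single, h']
    show Φ dN _ = Φ dN _
    congr 1
    rw [show (fun k => if num k = num j then (1 : ZMod 2) else 0) = Pi.single j 1 from
      funext fun k => (single_eq j k).symm, rfv, hv1, CharTwo.sub_eq_add, CharTwo.sub_eq_add,
      CharTwo.sub_eq_add]
  -- the elementary subgroup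
  let E : Subgroup G :=
    { carrier := Set.range (Φ dN)
      one_mem' := ⟨0, Φ_zero T⟩
      mul_mem' := by rintro _ _ ⟨v, rfl⟩ ⟨w, rfl⟩; exact ⟨v + w, Φ_add T v w⟩
      inv_mem' := by
        rintro _ ⟨v, rfl⟩
        refine ⟨v, (inv_eq_of_mul_eq_one_right ?_).symm⟩
        rw [← Φ_add T, CharTwo.add_self_eq_zero, Φ_zero T] }
  have hEH : E ≤ H := by rintro _ ⟨v, rfl⟩; exact Φ_mem T v
  have hEc : Nat.card E = 64 := by
    show Nat.card ↥(Set.range (Φ dN)) = 64
    rw [Nat.card_range_of_injective (fun v w h => Φ_inj T h)]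
    simp
  have hEab : IsMulCommutative E := ⟨⟨fun x y => by
    obtain ⟨v, hv⟩ := x.2
    obtain ⟨w, hw⟩ := y.2
    refine Subtype.ext ?_
    show (x : G) * y = y * x
    rw [← hv, ← hw, ← Φ_add T, ← Φ_add T, add_comm]⟩⟩
  have hEexp : ∀ x ∈ E, x ^ 2 = 1 := by
    rintro _ ⟨v, rfl⟩
    rw [pow_two, ← Φ_add T, CharTwo.add_self_eq_zero, Φ_zero T]
  -- the kernel
  have hEle : E.subgroupOf H ≤ ψ.ker := by
    rintro ⟨x, hxH⟩ hx
    obtain ⟨w, rfl⟩ := Subgroup.mem_subgroupOf.mp hx
    refine Subtype.ext (LinearEquiv.ext fun v => Φ_inj T ?_)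
    show Φ dN (act ⟨Φ dN w, hxH⟩ v) = Φ dN v
    rw [← hact]
    show Φ dN w * Φ dN v * (Φ dN w)⁻¹ = _
    rw [← Φ_add T, add_comm, Φ_add T, mul_inv_cancel_right]
  have hker : Nat.card ψ.ker = 64 := by
    have h := ψ.ker.index_mul_card
    rw [Subgroup.index_ker, MonoidHom.range_eq_top.mpr hsur, Subgroup.card_top, card_fix hD hprim h22 T,
      ← Nat.card_congr (OrthUnitaryQuad.isometryGroupEquiv Q Qf hf).toEquiv,
      OrthUnitaryForms.card_isometryGroup_minus (F := ZMod 2) (q := 2) (ZMod.card 2) hab 2] at h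
    norm_num [Finset.prod_range_succ] at h
    have hk : Nat.card ↥ψ.ker = Nat.card {x // ψ x = 1} := rfl
    omega
  have hkE : E.subgroupOf H = ψ.ker := Subgroup.eq_of_le_of_card_ge hEle (by
    rw [hker, Nat.card_congr (Subgroup.subgroupOfEquivOfLe hEH).toEquiv, hEc])
  let eH : H ⧸ ψ.ker ≃* ↥(Cfsg.isometryGroup (ZMod 2) Qf) :=
    (QuotientGroup.quotientKerEquivOfSurjective ψ hsur).trans
      (OrthUnitaryQuad.isometryGroupEquiv Q Qf hf).symm
  -- it is the core
  have hcore : Cfsg.pCore 2 ↥H = ψ.ker := by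
    refine le_antisymm ?_ ?_
    · let π : H →* ↥(Cfsg.isometryGroup (ZMod 2) Qf) :=
        eH.toMonoidHom.comp (QuotientGroup.mk' ψ.ker)
      have hπ : Function.Surjective π := eH.surjective.comp (QuotientGroup.mk'_surjective _)
      haveI hn : ((Cfsg.pCore 2 ↥H).map π).Normal := Subgroup.Normal.map inferInstance π hπ
      have hle : (Cfsg.pCore 2 ↥H).map π ≤ Cfsg.pCore 2 _ :=
        le_sSup ⟨hn, (ComponentsCores.isPGroup_pCore 2).map π⟩
      rw [pCore_orth] at hle
      intro x hx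
      have h1 : π x = 1 := Subgroup.mem_bot.mp (hle ⟨x, hx, rfl⟩)
      exact (QuotientGroup.eq_one_iff x).mp (eH.injective (h1.trans (map_one eH).symm))
    · refine le_sSup ⟨ψ.normal_ker, ?_⟩
      exact IsPGroup.of_card (n := 6) (by rw [hker]; norm_num)
  refine ⟨E, ?_, ⟨hEab, hEexp⟩, hEc, hkE ▸ ψ.normal_ker, ?_⟩
  · rw [hcore, ← hkE, Subgroup.map_subgroupOf_eq_of_le hEH]
  · haveI : (E.subgroupOf H).Normal := hkE ▸ ψ.normal_ker
    exact ⟨(QuotientGroup.quotientMulEquivOfEq hkE).trans eH⟩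

end Cfsg.Agent.ThreeTransM22SabFix48
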