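import Cfsg.Agent.Lib.ThreeTransM22Swap59

/-!
# Two non-commuting members near a commuting pair in type M(22)
-/

set_option autoImplicit false
set_option linter.unusedSectionVars false
set_option linter.style.haveILetI false

namespace Cfsg.Agent.ThreeTransM22Square88

open Subgroup Cfsg.Agent.ThreeTransRel Cfsg.Agent.ThreeTransDescent
open Cfsg.Agent.UnitaryF4Geo Cfsg.Agent.UnitaryF4Line
open Cfsg.Agent.ThreeTransM22Local72 Cfsg.Agent.ThreeTransM22Frame72 Cfsg.Agent.ThreeTransM22Lift72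

variable {G : Type*} [Group G] [Finite G] {D : Set G}
variable {F : Type} [Field F] [Fintype F] [hF : FourField F]
variable {d : G} {φ : ↥(loc D d) →* Cfsg.PSU 6 F 2}
variable (X : Ctx D d φ)

local notation "L" => ThreeTransM22Lift72.Chart.L X.chart

include X

theorem exists_square_ctx :
    ∃ a b q : G, a ∈ near D d ∧ b ∈ near D d ∧ q ∈ near D d ∧ ¬ Commute a b ∧ Commute a q ∧
      Commute b q ∧ a ≠ q ∧ b ≠ q := by
  obtain ⟨w, hw⟩ := exists_omega (F := F)
  obtain ⟨S, hS, hdS⟩ : ∃ S : Set G, ThreeTransM22Outer72.Blk D S ∧ {d} ⊆ S := by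
    by_contra hno
    push Not at hno
    have := ThreeTransM22Outer72.odd_blocks X.ts (T := {d}) (Set.singleton_subset_iff.mpr X.mem)
      (by simp)
    rw [show {B : Set G | ThreeTransM22Outer72.Blk D B ∧ {d} ⊆ B} = ∅ from
      Set.eq_empty_iff_forall_notMem.mpr fun B hB => hno B hB.1 hB.2, Set.ncard_empty] at this
    omega
  obtain ⟨e, f, hfr, -, -, -⟩ := ThreeTransM22Outer72.exists_plane X hS (hdS rfl) hw
  have e0 := hfr.ne_zero 0
  have e1 := hfr.ne_zero 1
  have f0 := hfr.symm.ne_zero 0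
  have h01 : Commute (L (e 0)) (L (e 1)) :=
    (L_comm X (hfr.ee 0 0) e0 (hfr.ee 1 1) e1).mpr (hfr.ee 0 1)
  have hf1 : Commute (L (e 1)) (L (f 0)) :=
    (L_comm X (hfr.ee 1 1) e1 (hfr.ff 0 0) f0).mpr (by rw [hfr.ef]; simp)
  have hn : ¬ Commute (L (e 0)) (L (f 0)) := fun h => by
    have := (L_comm X (hfr.ee 0 0) e0 (hfr.ff 0 0) f0).mp h
    rw [hfr.ef] at this
    simp at this
  exact ⟨L (e 0), L (f 0), L (e 1), L_mem X (hfr.ee 0 0) e0,
    L_mem X (hfr.ff 0 0) f0, L_mem X (hfr.ee 1 1) e1, hn, h01, hf1.symm,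
    fun h => hn (h ▸ hf1), fun h => hn (h ▸ h01)⟩

omit X

/-- Type M(22): two non-commuting members near a member and a second one near it. -/
theorem exists_square (hD : Cfsg.IsThreeTranspositionGroup D) (hprim : Cfsg.IsPrimitiveUnderConj D)
    (h22 : Cfsg.IsOfTypeM22 G D) {s : G} (hs : s ∈ D) :
    ∃ a b q : G, a ∈ near D s ∧ b ∈ near D s ∧ q ∈ near D s ∧ ¬ Commute a b ∧ Commute a q ∧
      Commute b q ∧ a ≠ q ∧ b ≠ q := by
  obtain ⟨F, _, _, _, hctx⟩ := exists_ctx hD hprim h22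
  obtain ⟨φ, X⟩ := hctx s hs
  exact exists_square_ctx X

end Cfsg.Agent.ThreeTransM22Square88
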