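import Cfsg.Agent.Lib.ThreeTransM22Lift72

/-!
# Automorphisms of the polar space of a local group fixing a frame

An element commuting with `d` is, up to the local group, one fixing a frame and its unit point; such an
element is trivial or squares all coordinates.
-/

set_option autoImplicit false
set_option linter.unusedSectionVars false
set_option linter.style.haveILetI false

namespace Cfsg.Agent.ThreeTransM22Std72

open Subgroup Cfsg.Agent.ThreeTransRel Cfsg.Agent.ThreeTransDescent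
open Cfsg.Agent.UnitaryF4Geo Cfsg.Agent.UnitaryF4Line
open Cfsg.Agent.ThreeTransM22Local72 Cfsg.Agent.ThreeTransM22Frame72 Cfsg.Agent.ThreeTransM22Lift72

variable {G : Type*} [Group G] [Finite G] {D : Set G}
variable {F : Type} [Field F] [Fintype F] [hF : FourField F]
variable {d : G} {φ : ↥(loc D d) →* Cfsg.PSU 6 F 2}
variable {e f : Fin 3 → Fin 6 → F}
variable (X : Ctx D d φ)

local notation "π" => QuotientGroup.mk' (Subgroup.center (Cfsg.SU 6 F 2))
local notation "act" => OrthUnitaryTransvection.act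
local notation "L" => ThreeTransM22Lift72.Chart.L X.chart

include X

theorem comb_ne (hfr : Frame e f) {c : Fin 3 → F} (hc : c ≠ 0) : comb e c ≠ 0 := fun h0 =>
  hc (hfr.comb_inj (h0.trans (comb_zero e).symm))

theorem comb_mem (hfr : Frame e f) {c : Fin 3 → F} (hc : c ≠ 0) : L (comb e c) ∈ near D d :=
  L_mem X (hfr.h_ee _ _) (comb_ne X hfr hc)

/-- Fixing both planes means trivial. -/
theorem trivial_of_planes (hfr : Frame e f) {g : G} (hg : Commute d g)
    (he : ∀ c : Fin 3 → F, c ≠ 0 → Commute g (L (comb e c)))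
    (hf : ∀ c : Fin 3 → F, c ≠ 0 → Commute g (L (comb f c))) : g = 1 ∨ g = d := by
  classical
  refine X.only g hg fun y hy => ?_
  obtain ⟨u, hu, hu0, rfl⟩ := L_surj X hy
  refine Commute.symm ?_
  have hback : ∀ {u v : Fin 6 → F}, h u u = 0 → u ≠ 0 → h v v = 0 → v ≠ 0 →
      Commute g (L v) → Commute g (L (u + h u v • v)) → Commute g (L u) := by
    intro u v hu hu0 hv hv0 h1 h2
    rw [← L_tconj X hu hu0 hv hv0] at h2
    have h3 : L v * g * (L v)⁻¹ = g := mul_inv_eq_iff_eq_mul.mpr h1.symm.eq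
    rw [← h3] at h2
    exact (Commute.conj_iff (L v)).mp h2
  -- the case of coordinates pairing to one
  have hone : ∀ u : Fin 6 → F, h u u = 0 → u ≠ 0 →
      ∑ i, h u (f i) * h u (e i) ^ 2 = 1 → Commute g (L u) := by
    intro u hu hu0 h1
    set c : Fin 3 → F := fun i => h u (f i) with hc
    set b : Fin 3 → F := fun i => h u (e i) with hb
    have hu' : u = comb e c + comb f b := hfr.expand u
    have hb0 : b ≠ 0 := fun h0 => by simp [show ∀ i, h u (e i) = 0 from congrFun h0] at h1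
    have hc0 : c ≠ 0 := fun h0 => by simp [show ∀ i, h u (f i) = 0 from congrFun h0] at h1
    have huv : h u (comb f b) = 1 := by
      rw [hu', h_add_left, hfr.h_ef, hfr.symm.h_ee, add_zero]; exact h1
    refine hback hu hu0 (hfr.symm.h_ee _ _) (comb_ne X hfr.symm hb0) (hf b hb0) ?_
    rw [huv, one_smul, hu', add_assoc, vec_add_self, add_zero]
    exact he c hc0
  set c : Fin 3 → F := fun i => h u (f i) with hc
  set b : Fin 3 → F := fun i => h u (e i) with hb
  have hu' : u = comb e c + comb f b := hfr.expand u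
  by_cases hb0 : b = 0
  · rw [hb0, comb_zero, add_zero] at hu'
    rw [hu']
    exact he c fun h0 => hu0 (by rw [hu', h0, comb_zero])
  obtain ⟨k, hk⟩ : ∃ k, b k ≠ 0 := by
    by_contra hno
    push Not at hno
    exact hb0 (funext hno)
  have hs : (∑ i, c i * b i ^ 2) ^ 2 = ∑ i, c i * b i ^ 2 := by
    have h0 := hu
    rw [hu'] at h0
    simp only [h_add_left, h_add_right, hfr.h_ee, hfr.symm.h_ee, hfr.h_ef, hfr.symm.h_ef, zero_add,
      add_zero] at h0
    have h1 : ∑ i, b i * c i ^ 2 = (∑ i, c i * b i ^ 2) ^ 2 := by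
      rw [sq_sum]
      exact Finset.sum_congr rfl fun i _ => by rw [mul_pow, sq_sq, mul_comm]
    rw [h1] at h0
    exact eq_of_add_eq_zero h0
  rcases fixed_cases hs with h0 | h0
  swap
  · exact hone u hu hu0 h0
  have hek : h (e k) (e k) = 0 := hfr.ee k k
  set u' := u + h u (e k) • e k with hu''
  have hu'2 : h u' u' = 0 := by
    simp only [hu'', h_add_left, h_add_right, h_smul_left, h_smul_right, hu, hek, h_symm u (e k),
      zero_add, add_zero, mul_zero]
    linear_combination (h u (e k) ^ 3) * (two_eq_zero (F := F))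
  have hb' : ∀ i, h u' (e i) = b i := fun i => by
    rw [hu'', h_add_left, h_smul_left, hfr.ee, mul_zero, add_zero]
  have hc' : ∀ i, h u' (f i) = c i + (if k = i then b k else 0) := fun i => by
    rw [hu'', h_add_left, h_smul_left, hfr.ef]
    split_ifs <;> simp [hc, hb]
  refine hback hu hu0 hek (hfr.ne_zero k) ?_ (hone u' hu'2 (fun h' => hk ?_) ?_)
  · rw [← comb_single e k]; exact he _ (by simp)
  · rw [← hb', h', h_zero_left]
  · simp only [hb', hc', add_mul, Finset.sum_add_distrib, ite_mul, zero_mul, Finset.sum_ite_eq,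
      Finset.mem_univ, if_true]
    rw [h0, zero_add, ← pow_succ']
    exact cube hk

/-- Fixing the frame. -/
def FixBase (g : G) (e f : Fin 3 → Fin 6 → F) : Prop :=
  Commute d g ∧ (∀ i, Commute g (L (e i))) ∧ ∀ i, Commute g (L (f i))

theorem FixBase.symm {g : G} (hg : FixBase X g e f) : FixBase X g f e := ⟨hg.1, hg.2.2, hg.2.1⟩

/-- The image of a point of a plane. -/
def Img (g : G) (e : Fin 3 → Fin 6 → F) (c c' : Fin 3 → F) : Prop :=
  g * L (comb e c) * g⁻¹ = L (comb e c')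

theorem Img.smul (hfr : Frame e f) {g : G} {c c' : Fin 3 → F} (hc : c ≠ 0) (hc' : c' ≠ 0)
    (hi : Img X g e c c') {k l : F} (hk : k ≠ 0) (hl : l ≠ 0) : Img X g e (k • c) (l • c') := by
  rw [Img, comb_smul, comb_smul, L_smul X (hfr.h_ee _ _) (comb_ne X hfr hc) hk,
    L_smul X (hfr.h_ee _ _) (comb_ne X hfr hc') hl]
  exact hi

theorem Img.zero_iff (hfr : Frame e f) {g : G} (hg : FixBase X g e f) {c c' : Fin 3 → F}
    (hc : c ≠ 0) (hc' : c' ≠ 0) (hi : Img X g e c c') (i : Fin 3) : c' i = 0 ↔ c i = 0 := by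
  have h1 : ∀ c : Fin 3 → F, c ≠ 0 → (Commute (L (comb e c)) (L (f i)) ↔ c i = 0) := fun c hc => by
    rw [L_comm X (hfr.h_ee _ _) (comb_ne X hfr hc) (hfr.ff i i) (hfr.symm.ne_zero i), hfr.h_eb]
  rw [← h1 c' hc', ← h1 c hc, ← hi]
  conv_lhs => rw [show L (f i) = g * L (f i) * g⁻¹ from (mul_inv_eq_iff_eq_mul.mpr (hg.2.2 i).eq).symm]
  exact Commute.conj_iff g

theorem exists_img (hfr : Frame e f) {g : G} (hg : FixBase X g e f) {c : Fin 3 → F} (hc : c ≠ 0) :
    ∃ c' : Fin 3 → F, c' ≠ 0 ∧ Img X g e c c' ∧ ∀ i, c' i = 0 ↔ c i = 0 := by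
  obtain ⟨u, hu, hu0, e1⟩ := L_surj X (near_conj X.ts hg.1.symm (comb_mem X hfr hc))
  have hperp : ∀ i, h u (e i) = 0 := fun i => by
    rw [← L_comm X hu hu0 (hfr.ee i i) (hfr.ne_zero i), e1,
      show L (e i) = g * L (e i) * g⁻¹ from (mul_inv_eq_iff_eq_mul.mpr (hg.2.1 i).eq).symm,
      Commute.conj_iff, L_comm X (hfr.h_ee _ _) (comb_ne X hfr hc) (hfr.ee i i) (hfr.ne_zero i),
      ← comb_single e i, hfr.h_ee]
  have hu' := hfr.mem_plane hperp
  have hc' : (fun i => h u (f i)) ≠ 0 := fun h0 => hu0 (by rw [hu', h0, comb_zero])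
  have hi : Img X g e c (fun i => h u (f i)) := by rw [Img, ← hu', e1]
  exact ⟨_, hc', hi, Img.zero_iff X hfr hg hc hc' hi⟩

theorem Img.perp (hfr : Frame e f) {g : G} {c c' b b' : Fin 3 → F} (hc : c ≠ 0) (hc' : c' ≠ 0)
    (hb : b ≠ 0) (hb' : b' ≠ 0) (h1 : Img X g e c c') (h2 : Img X g f b b')
    (h0 : ∑ i, c i * b i ^ 2 = 0) : ∑ i, c' i * b' i ^ 2 = 0 := by
  rw [← hfr.h_ef] at h0 ⊢
  rw [← L_comm X (hfr.h_ee _ _) (comb_ne X hfr hc) (hfr.symm.h_ee _ _) (comb_ne X hfr.symm hb)] at h0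
  rw [← L_comm X (hfr.h_ee _ _) (comb_ne X hfr hc') (hfr.symm.h_ee _ _) (comb_ne X hfr.symm hb'),
    ← h1, ← h2]
  exact (Commute.conj_iff g).mpr h0

omit X in
theorem perp_swap {c b : Fin 3 → F} (h0 : ∑ i, c i * b i ^ 2 = 0) : ∑ i, b i * c i ^ 2 = 0 := by
  have : (∑ i, c i * b i ^ 2) ^ 2 = ∑ i, b i * c i ^ 2 := by
    rw [sq_sum]
    exact Finset.sum_congr rfl fun i _ => by rw [mul_pow, sq_sq, mul_comm]
  rw [← this, h0, zero_pow (by norm_num)]

omit X in
theorem first_ne {t s : F} : (![1, t, s] : Fin 3 → F) ≠ 0 := fun h0 => by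
  simpa using congrFun h0 0

omit X in
theorem second_ne {s : F} : (![0, 1, s] : Fin 3 → F) ≠ 0 := fun h0 => by
  simpa using congrFun h0 1

omit X in
theorem smul_three (k x y z : F) : k • (![x, y, z] : Fin 3 → F) = ![k * x, k * y, k * z] := by
  funext i; fin_cases i <;> simp

/-- Normalised image of a point with non-zero first coordinate. -/
theorem img_first (hfr : Frame e f) {g : G} (hg : FixBase X g e f) (t s : F) :
    ∃ t' s' : F, Img X g e ![1, t, s] ![1, t', s'] ∧ (t' = 0 ↔ t = 0) ∧ (s' = 0 ↔ s = 0) := by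
  obtain ⟨c, hc, hi, hz⟩ := exists_img X hfr hg (c := ![1, t, s]) first_ne
  have h0 : c 0 ≠ 0 := fun h => by simpa using (hz 0).mp h
  refine ⟨(c 0)⁻¹ * c 1, (c 0)⁻¹ * c 2, ?_, ?_, ?_⟩
  · have := Img.smul X hfr first_ne hc hi one_ne_zero (inv_ne_zero h0)
    rw [one_smul] at this
    convert this using 2
    funext i; fin_cases i <;> simp [h0]
  · simpa [h0] using hz 1
  · simpa [h0] using hz 2

/-- Normalised image of a point with first coordinate zero. -/
theorem img_second (hfr : Frame e f) {g : G} (hg : FixBase X g e f) (s : F) :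
    ∃ s' : F, Img X g e ![0, 1, s] ![0, 1, s'] ∧ (s' = 0 ↔ s = 0) := by
  obtain ⟨c, hc, hi, hz⟩ := exists_img X hfr hg (c := ![0, 1, s]) second_ne
  have h0 : c 0 = 0 := (hz 0).mpr rfl
  have h1 : c 1 ≠ 0 := fun h => by simpa using (hz 1).mp h
  refine ⟨(c 1)⁻¹ * c 2, ?_, ?_⟩
  · have := Img.smul X hfr second_ne hc hi one_ne_zero (inv_ne_zero h1)
    rw [one_smul] at this
    convert this using 2
    funext i; fin_cases i <;> simp [h0, h1]
  · simpa [h1] using hz 2

/-- Two points with the same image coincide. -/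
theorem img_inj (hfr : Frame e f) {g : G} {t s t' s' a b : F} (h1 : Img X g e ![1, t, s] ![1, a, b])
    (h2 : Img X g e ![1, t', s'] ![1, a, b]) : t = t' ∧ s = s' := by
  have h3 : L (comb e ![1, t, s]) = L (comb e ![1, t', s']) :=
    mul_left_cancel (mul_right_cancel (h1.trans h2.symm))
  obtain ⟨k, -, hk⟩ := L_inj X (hfr.h_ee _ _) (comb_ne X hfr first_ne) (hfr.h_ee _ _)
    (comb_ne X hfr first_ne) h3
  rw [← comb_smul, smul_three] at hk
  have := hfr.comb_inj hk
  have e0 := congrFun this 0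
  have e1 := congrFun this 1
  have e2 := congrFun this 2
  simp at e0 e1 e2
  rw [← e0, one_mul] at e1 e2
  exact ⟨e1, e2⟩

/-- An element fixing a frame and the unit point is trivial or squares the coordinates. -/
theorem std_cases (hfr : Frame e f) {g : G} (hg : FixBase X g e f)
    (hp : Commute g (L (comb e ![1, 1, 1]))) :
    g = 1 ∨ g = d ∨ ((∀ c : Fin 3 → F, c ≠ 0 → Img X g e c (fun i => c i ^ 2)) ∧
      ∀ c : Fin 3 → F, c ≠ 0 → Img X g f c (fun i => c i ^ 2)) := by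
  classical
  obtain ⟨w, hw⟩ := exists_omega (F := F)
  obtain ⟨hw0, hw1⟩ := omega_ne hw
  have two := two_eq_zero (F := F)
  have hw10 : w + 1 ≠ 0 := fun e => hw1 (eq_of_add_eq_zero e)
  have hall : ∀ x : F, x = 0 ∨ x = 1 ∨ x = w ∨ x = w + 1 := by
    intro x
    by_cases h0 : x = 0
    · exact Or.inl h0
    by_cases h1 : x = 1
    · exact Or.inr (Or.inl h1)
    have h2 := rel h0 h1
    have : (x - w) * (x - (w + 1)) = 0 := by linear_combination h2 + hw + (-(x * w) + w + 1) * two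
    rcases mul_eq_zero.mp this with h | h
    · exact Or.inr (Or.inr (Or.inl (sub_eq_zero.mp h)))
    · exact Or.inr (Or.inr (Or.inr (sub_eq_zero.mp h)))
  have hcube : ∀ {x : F}, x ≠ 0 → x * x ^ 2 = 1 := fun hx => by rw [← pow_succ']; exact cube hx
  have hfs := hg.symm X
  have hfr' := hfr.symm
  -- the unit point
  have hp' : Img X g e ![1, 1, 1] ![1, 1, 1] := mul_inv_eq_iff_eq_mul.mpr hp.eq
  have ne1 : ∀ {t s : F}, (![1, t, s] : Fin 3 → F) ≠ 0 := fun {_ _} => first_ne
  have p3 : ∀ {c b : Fin 3 → F}, ∑ i, c i * b i ^ 2 = c 0 * b 0 ^ 2 + c 1 * b 1 ^ 2 + c 2 * b 2 ^ 2 :=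
    fun {_ _} => Fin.sum_univ_three _
  have hf110 : Img X g f ![1, 1, 0] ![1, 1, 0] := by
    obtain ⟨x, y, hi, -, hy⟩ := img_first X hfr' hfs 1 0
    rw [hy.mpr rfl] at hi
    have := Img.perp X hfr ne1 ne1 ne1 ne1 hp' hi (by simp [p3]; exact add_self 1)
    simp [p3] at this
    have hx : (1 + x) ^ 2 = 0 := by rw [sq_add, one_pow]; exact this
    rwa [← eq_of_add_eq_zero (pow_eq_zero_iff (n := 2) (by norm_num) |>.mp hx)] at hi
  have he110 : Img X g e ![1, 1, 0] ![1, 1, 0] := by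
    obtain ⟨x, y, hi, -, hy⟩ := img_first X hfr hg 1 0
    rw [hy.mpr rfl] at hi
    have := Img.perp X hfr ne1 ne1 ne1 ne1 hi hf110 (by simp [p3]; exact add_self 1)
    simp [p3] at this
    rwa [← eq_of_add_eq_zero this] at hi
  have hf101 : Img X g f ![1, 0, 1] ![1, 0, 1] := by
    obtain ⟨x, y, hi, hx, -⟩ := img_first X hfr' hfs 0 1
    rw [hx.mpr rfl] at hi
    have := Img.perp X hfr ne1 ne1 ne1 ne1 hp' hi (by simp [p3]; exact add_self 1)
    simp [p3] at this
    have hy : (1 + y) ^ 2 = 0 := by rw [sq_add, one_pow]; exact this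
    rwa [← eq_of_add_eq_zero (pow_eq_zero_iff (n := 2) (by norm_num) |>.mp hy)] at hi
  have hf111 : Img X g f ![1, 1, 1] ![1, 1, 1] := by
    obtain ⟨x, y, hi, -, -⟩ := img_first X hfr' hfs 1 1
    have h1 := Img.perp X hfr ne1 ne1 ne1 ne1 he110 hi (by simp [p3]; exact add_self 1)
    simp [p3] at h1
    obtain ⟨x', y', hi', hx', -⟩ := img_first X hfr hg 0 1
    rw [hx'.mpr rfl] at hi'
    have h2 := Img.perp X hfr ne1 ne1 ne1 ne1 hi' hf101 (by simp [p3]; exact add_self 1)
    simp [p3] at h2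
    rw [← eq_of_add_eq_zero h2] at hi'
    have h3 := Img.perp X hfr ne1 ne1 ne1 ne1 hi' hi (by simp [p3]; exact add_self 1)
    simp [p3] at h3
    have ex : (1 + x) ^ 2 = 0 := by rw [sq_add, one_pow]; exact h1
    have ey : (1 + y) ^ 2 = 0 := by rw [sq_add, one_pow]; exact h3
    rwa [← eq_of_add_eq_zero (pow_eq_zero_iff (n := 2) (by norm_num) |>.mp ex),
      ← eq_of_add_eq_zero (pow_eq_zero_iff (n := 2) (by norm_num) |>.mp ey)] at hi
  -- the field automorphism
  obtain ⟨ψ, hψ, hψm, hψ1, hψ0, hψi, hψd, hψw⟩ : ∃ ψ : F → F,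
      ((∀ x, ψ x = x) ∨ ∀ x, ψ x = x ^ 2) ∧ (∀ x y, ψ (x * y) = ψ x * ψ y) ∧ ψ 1 = 1 ∧ ψ 0 = 0 ∧
        Function.Injective ψ ∧ (∀ x y, ψ (x + y) = ψ x + ψ y) ∧
        Img X g f ![1, w, 0] ![1, ψ w, 0] := by
    obtain ⟨s, y, hi, hs, hy⟩ := img_first X hfr' hfs w 0
    rw [hy.mpr rfl] at hi
    rcases hall s with e | e | e | e <;> rw [e] at hi hs
    · exact absurd (hs.mp rfl) hw0
    · exact absurd (img_inj X hfr' hi hf110).1 hw1
    · exact ⟨fun x => x, Or.inl fun _ => rfl, fun _ _ => rfl, rfl, rfl, fun _ _ h => h,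
        fun _ _ => rfl, hi⟩
    · exact ⟨fun x => x ^ 2, Or.inr fun _ => rfl, fun x y => mul_pow x y 2, one_pow 2,
        zero_pow (by norm_num), fun x y h => by rw [← sq_sq x, ← sq_sq y]; exact congrArg (· ^ 2) h,
        sq_add, by simpa [hw] using hi⟩
  have hψne : ∀ {x : F}, x ≠ 0 → ψ x ≠ 0 := fun hx h => hx (hψi (h.trans hψ0.symm))
  -- determine the last value by injectivity
  have hlast : ∀ (x : F), x ≠ 0 → x = ψ 1 ∨ x = ψ w ∨ x = ψ (w + 1) := by
    intro x hx
    rcases hψ with hid | hsq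
    · simp only [hid]
      exact (hall x).resolve_left hx
    · simp only [hsq, sq_add, one_pow, hw]
      rcases (hall x).resolve_left hx with h | h | h
      · exact Or.inl h
      · exact Or.inr (Or.inr (by rw [h, add_assoc, add_self, add_zero]))
      · exact Or.inr (Or.inl h)
  -- first and second coordinates
  have hft : ∀ t : F, t ≠ 0 → Img X g f ![1, t, 0] ![1, ψ t, 0] := by
    intro t ht
    rcases (hall t).resolve_left ht with e | e | e <;> rw [e]
    · rwa [hψ1]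
    · exact hψw
    · obtain ⟨s, y, hi, hs, hy⟩ := img_first X hfr' hfs (w + 1) 0
      rw [hy.mpr rfl] at hi
      rcases hlast s (fun h => hw10 (hs.mp h)) with e | e | e <;> rw [e] at hi
      · rw [hψ1] at hi; exact absurd (img_inj X hfr' hi hf110).1 (fun h => hw0 (add_eq_right.mp h))
      · exact absurd (img_inj X hfr' hi hψw).1 (fun h => one_ne_zero (add_eq_left.mp h))
      · exact hi
  have het : ∀ t : F, t ≠ 0 → Img X g e ![1, t, 0] ![1, ψ t, 0] := by
    intro t ht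
    obtain ⟨s, y, hi, -, hy⟩ := img_first X hfr hg t 0
    rw [hy.mpr rfl] at hi
    have := Img.perp X hfr ne1 ne1 ne1 ne1 hi (hft t ht) (by simp [p3, hcube ht]; exact add_self 1)
    simp [p3] at this
    have e1 : s = ψ t := by
      calc s = s * (ψ t * ψ t ^ 2) := by rw [hcube (hψne ht), mul_one]
        _ = ψ t := by rw [mul_left_comm, ← eq_of_add_eq_zero this, mul_one]
    rwa [e1] at hi
  -- first and third coordinates
  have hmid : Img X g e ![1, w, w + 1] ![1, ψ w, ψ (w + 1)] := by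
    obtain ⟨a, c, hi, -, -⟩ := img_first X hfr hg w (w + 1)
    have h1 := Img.perp X hfr ne1 ne1 ne1 ne1 hi hψw (by simp [p3, hcube hw0]; exact add_self 1)
    simp [p3] at h1
    have ea : a = ψ w := by
      have h3 : a * (ψ w) ^ 2 = 1 := (eq_of_add_eq_zero h1).symm
      calc a = a * (ψ w * ψ w ^ 2) := by rw [hcube (hψne hw0), mul_one]
        _ = ψ w := by rw [mul_left_comm, h3, mul_one]
    have h2 := Img.perp X hfr ne1 ne1 ne1 ne1 hi hf111 (by simp [p3]; linear_combination (1 + w) * two)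
    simp [p3] at h2
    have ec : c = ψ (w + 1) := by
      rw [hψd, hψ1, ← ea]
      linear_combination h2 - (1 + a) * two
    rwa [ea, ec] at hi
  have hfs' : ∀ s : F, s ≠ 0 → Img X g f ![1, 0, s] ![1, 0, ψ s] := by
    have hf1 : Img X g f ![1, 0, w + 1] ![1, 0, ψ (w + 1)] := by
      obtain ⟨x, c, hi, hx, -⟩ := img_first X hfr' hfs 0 (w + 1)
      rw [hx.mpr rfl] at hi
      have := Img.perp X hfr ne1 ne1 ne1 ne1 hmid hi (by simp [p3, hcube hw10]; exact add_self 1)
      simp [p3] at this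
      have h3 : ψ (w + 1) * c ^ 2 = 1 := (eq_of_add_eq_zero this).symm
      have hc : c ≠ 0 := fun h => by simp [h] at h3
      have : c = ψ (w + 1) := by
        calc c = c * (ψ (w + 1) * c ^ 2) := by rw [h3, mul_one]
          _ = ψ (w + 1) := by rw [mul_left_comm, hcube hc, mul_one]
      rwa [this] at hi
    intro s hs0
    rcases (hall s).resolve_left hs0 with e | e | e <;> rw [e]
    · rwa [hψ1]
    · obtain ⟨x, c, hi, hx, hc⟩ := img_first X hfr' hfs 0 w
      rw [hx.mpr rfl] at hi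
      rcases hlast c (fun h => hw0 (hc.mp h)) with e | e | e <;> rw [e] at hi
      · rw [hψ1] at hi; exact absurd (img_inj X hfr' hi hf101).2 hw1
      · exact hi
      · exact absurd (img_inj X hfr' hi hf1).2 (fun h => one_ne_zero (left_eq_add.mp h))
    · exact hf1
  have hes : ∀ s : F, s ≠ 0 → Img X g e ![1, 0, s] ![1, 0, ψ s] := by
    intro s hs0
    obtain ⟨x, c, hi, hx, -⟩ := img_first X hfr hg 0 s
    rw [hx.mpr rfl] at hi
    have := Img.perp X hfr ne1 ne1 ne1 ne1 hi (hfs' s hs0) (by simp [p3, hcube hs0]; exact add_self 1)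
    simp [p3] at this
    have h3 : c * (ψ s) ^ 2 = 1 := (eq_of_add_eq_zero this).symm
    have : c = ψ s := by
      calc c = c * (ψ s * ψ s ^ 2) := by rw [hcube (hψne hs0), mul_one]
        _ = ψ s := by rw [mul_left_comm, h3, mul_one]
    rwa [this] at hi
  -- all points with non-zero first coordinate, on either side
  have hfull : ∀ {e f : Fin 3 → Fin 6 → F}, Frame e f → FixBase X g e f →
      (∀ t : F, t ≠ 0 → Img X g f ![1, t, 0] ![1, ψ t, 0]) →
      (∀ s : F, s ≠ 0 → Img X g f ![1, 0, s] ![1, 0, ψ s]) →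
      ∀ t s : F, t ≠ 0 → s ≠ 0 → Img X g e ![1, t, s] ![1, ψ t, ψ s] := by
    intro e f hfr hg h1 h2 t s ht hs
    obtain ⟨a, c, hi, -, -⟩ := img_first X hfr hg t s
    have k1 := Img.perp X hfr ne1 ne1 ne1 ne1 hi (h1 t ht) (by simp [p3, hcube ht]; exact add_self 1)
    have k2 := Img.perp X hfr ne1 ne1 ne1 ne1 hi (h2 s hs) (by simp [p3, hcube hs]; exact add_self 1)
    simp [p3] at k1 k2
    have ha : a = ψ t := by
      calc a = a * (ψ t * ψ t ^ 2) := by rw [hcube (hψne ht), mul_one]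
        _ = ψ t := by rw [mul_left_comm, ← eq_of_add_eq_zero k1, mul_one]
    have hc : c = ψ s := by
      calc c = c * (ψ s * ψ s ^ 2) := by rw [hcube (hψne hs), mul_one]
        _ = ψ s := by rw [mul_left_comm, ← eq_of_add_eq_zero k2, mul_one]
    rwa [ha, hc] at hi
  have hEfull := hfull hfr hg hft hfs'
  have hFfull := hfull hfr' hfs het hes
  -- first coordinate zero
  have hzero : ∀ {e f : Fin 3 → Fin 6 → F}, Frame e f → FixBase X g e f →
      (∀ t s : F, t ≠ 0 → s ≠ 0 → Img X g f ![1, t, s] ![1, ψ t, ψ s]) →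
      ∀ r : F, r ≠ 0 → Img X g e ![0, 1, r] ![0, 1, ψ r] := by
    intro e f hfr hg h1 r hr
    obtain ⟨c, hi, -⟩ := img_second X hfr hg r
    have k := Img.perp X hfr second_ne second_ne ne1 ne1 hi (h1 (r ^ 2) 1 (pow_ne_zero 2 hr) one_ne_zero)
      (by simp [p3, sq_sq]; exact add_self r)
    have hr2 : ψ (r ^ 2) ^ 2 = ψ r := by
      rw [pow_two (ψ (r ^ 2)), ← hψm, ← pow_two, sq_sq]
    simp [p3, hψ1, hr2] at k
    rwa [← eq_of_add_eq_zero k] at hi
  have hEz := hzero hfr hg hFfull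
  have hFz := hzero hfr' hfs hEfull
  -- every point
  have hany : ∀ {e f : Fin 3 → Fin 6 → F}, Frame e f → FixBase X g e f →
      (∀ t : F, t ≠ 0 → Img X g e ![1, t, 0] ![1, ψ t, 0]) →
      (∀ s : F, s ≠ 0 → Img X g e ![1, 0, s] ![1, 0, ψ s]) →
      (∀ t s : F, t ≠ 0 → s ≠ 0 → Img X g e ![1, t, s] ![1, ψ t, ψ s]) →
      (∀ r : F, r ≠ 0 → Img X g e ![0, 1, r] ![0, 1, ψ r]) →
      ∀ c : Fin 3 → F, c ≠ 0 → Img X g e c (fun i => ψ (c i)) := by
    intro e f hfr hg h1 h2 h3 h4 c hc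
    have hbase : ∀ i : Fin 3, Img X g e (Pi.single i 1) (Pi.single i 1) := fun i => by
      rw [Img, comb_single]
      exact mul_inv_eq_iff_eq_mul.mpr (hg.2.1 i).eq
    have b0 : Img X g e ![1, 0, 0] ![1, 0, 0] := by
      convert hbase 0 using 1 <;> funext i <;> fin_cases i <;> simp
    have b1 : Img X g e ![0, 1, 0] ![0, 1, 0] := by
      convert hbase 1 using 1 <;> funext i <;> fin_cases i <;> simp
    have b2 : Img X g e ![0, 0, 1] ![0, 0, 1] := by
      convert hbase 2 using 1 <;> funext i <;> fin_cases i <;> simp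
    have hsc : ∀ {k : F} {c0 : Fin 3 → F}, k ≠ 0 → c0 ≠ 0 → Img X g e c0 (fun i => ψ (c0 i)) →
        Img X g e (k • c0) (fun i => ψ ((k • c0) i)) := by
      intro k c0 hk hc0 hi
      have hψc : (fun i => ψ (c0 i)) ≠ 0 := fun h0 => hc0 (funext fun i =>
        hψi ((congrFun h0 i).trans hψ0.symm))
      have := Img.smul X hfr hc0 hψc hi hk (hψne hk)
      convert this using 1
      funext i; simp [hψm]
    have hcomp : ∀ a b r : F, (fun i => ψ ((![a, b, r] : Fin 3 → F) i)) = ![ψ a, ψ b, ψ r] :=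
      fun a b r => by funext i; fin_cases i <;> rfl
    by_cases h0 : c 0 = 0
    · by_cases h1' : c 1 = 0
      · have h2' : c 2 ≠ 0 := fun h => hc (funext fun i => by fin_cases i <;> simp [h0, h1', h])
        rw [show c = c 2 • (![0, 0, 1] : Fin 3 → F) by funext i; fin_cases i <;> simp [h0, h1']]
        refine hsc h2' (fun h => by simpa using congrFun h 2) ?_
        rw [hcomp, hψ0, hψ1]; exact b2
      · rw [show c = c 1 • (![0, 1, (c 1)⁻¹ * c 2] : Fin 3 → F) by
          funext i; fin_cases i <;> simp [h0, h1']]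
        refine hsc h1' second_ne ?_
        rw [hcomp, hψ0, hψ1]
        by_cases hr : (c 1)⁻¹ * c 2 = 0
        · rw [hr, hψ0]; exact b1
        · exact h4 _ hr
    · rw [show c = c 0 • (![1, (c 0)⁻¹ * c 1, (c 0)⁻¹ * c 2] : Fin 3 → F) by
        funext i; fin_cases i <;> simp [h0]]
      refine hsc h0 first_ne ?_
      rw [hcomp, hψ1]
      by_cases ht : (c 0)⁻¹ * c 1 = 0 <;> by_cases hs : (c 0)⁻¹ * c 2 = 0
      · rw [ht, hs, hψ0]; exact b0
      · rw [ht, hψ0]; exact h2 _ hs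
      · rw [hs, hψ0]; exact h1 _ ht
      · exact h3 _ _ ht hs
  have hE := hany hfr hg het hes hEfull hEz
  have hF := hany hfr' hfs hft hfs' hFfull hFz
  rcases hψ with hid | hsq
  · have : ∀ {e : Fin 3 → Fin 6 → F}, (∀ c : Fin 3 → F, c ≠ 0 → Img X g e c (fun i => ψ (c i))) →
        ∀ c : Fin 3 → F, c ≠ 0 → Commute g (L (comb e c)) := fun hh c hc => by
      have := hh c hc
      simp only [hid] at this
      exact mul_inv_eq_iff_eq_mul.mp this
    exact (trivial_of_planes X hfr hg.1 (this hE) (this hF)).imp id Or.inl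
  · simp only [hsq] at hE hF
    exact Or.inr (Or.inr ⟨hE, hF⟩)

/-- Up to the local group every element commuting with `d` fixes a given good frame and its unit point. -/
theorem normalise (hfr : Frame e f) {w : F} (hw : w ^ 2 = w + 1)
    (hgood : (conic X e 1 w).prod = (base X e).prod) {g : G} (hg : Commute d g) :
    ∃ k ∈ loc D d, FixBase X (k * g) e f ∧ Commute (k * g) (L (comb e ![1, 1, 1])) := by
  classical
  have hcomm : ∀ {k x : G}, k * x * k⁻¹ = g * x * g⁻¹ → Commute (k⁻¹ * g) x := fun {k x} h => by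
    refine mul_inv_eq_iff_eq_mul.mp ?_
    rw [show k⁻¹ * g * x * (k⁻¹ * g)⁻¹ = k⁻¹ * (g * x * g⁻¹) * k by group, ← h]; group
  -- a frame from the images
  choose a ha ha0 hLa using fun i => L_surj X (near_conj X.ts hg.symm (L_mem X (hfr.ee i i) (hfr.ne_zero i)))
  choose b hb hb0 hLb using fun i =>
    L_surj X (near_conj X.ts hg.symm (L_mem X (hfr.ff i i) (hfr.symm.ne_zero i)))
  have hab : ∀ {u v u' v' : Fin 6 → F}, h u u = 0 → u ≠ 0 → h v v = 0 → v ≠ 0 → h u' u' = 0 → u' ≠ 0 →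
      h v' v' = 0 → v' ≠ 0 → L u' = g * L u * g⁻¹ → L v' = g * L v * g⁻¹ →
      (h u' v' = 0 ↔ h u v = 0) := by
    intro u v u' v' hu hu0 hv hv0 hu' hu'0 hv' hv'0 e1 e2
    rw [← L_comm X hu' hu'0 hv' hv'0, ← L_comm X hu hu0 hv hv0, e1, e2, Commute.conj_iff]
  have haa : ∀ i j, h (a i) (a j) = 0 := fun i j =>
    (hab (hfr.ee i i) (hfr.ne_zero i) (hfr.ee j j) (hfr.ne_zero j) (ha i) (ha0 i) (ha j) (ha0 j)
      (hLa i) (hLa j)).mpr (hfr.ee i j)
  have hbb : ∀ i j, h (b i) (b j) = 0 := fun i j =>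
    (hab (hfr.ff i i) (hfr.symm.ne_zero i) (hfr.ff j j) (hfr.symm.ne_zero j) (hb i) (hb0 i) (hb j)
      (hb0 j) (hLb i) (hLb j)).mpr (hfr.ff i j)
  have habne : ∀ i j, h (a i) (b j) = 0 ↔ i ≠ j := fun i j => by
    rw [hab (hfr.ee i i) (hfr.ne_zero i) (hfr.ff j j) (hfr.symm.ne_zero j) (ha i) (ha0 i) (hb j)
      (hb0 j) (hLa i) (hLb j), hfr.ef]
    by_cases e : i = j <;> simp [e]
  set b' : Fin 3 → Fin 6 → F := fun j => h (a j) (b j) • b j with hb'
  have hsne : ∀ j, h (a j) (b j) ≠ 0 := fun j h0 => (habne j j).mp h0 rfl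
  have hfr' : Frame a b' := by
    refine ⟨haa, fun i j => ?_, fun i j => ?_⟩
    · simp only [hb', h_smul_left, h_smul_right, hbb, mul_zero]
    · simp only [hb', h_smul_right]
      by_cases e : i = j
      · subst e; rw [if_pos rfl, ← pow_succ]; exact cube (hsne i)
      · rw [if_neg e, (habne i j).mpr e, mul_zero]
  obtain ⟨δ, hδ, -, hA⟩ := exists_isometry hfr hfr'
  obtain ⟨A, hAe, hAf⟩ := hA ![δ, 1, 1] (fun i => by fin_cases i <;> simp [hδ])
    (by simp [Fin.prod_univ_three]; rw [← pow_succ']; exact cube hδ)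
  obtain ⟨k₁, hk₁⟩ := X.chart.surj (π A)
  set g₁ := (k₁ : G)⁻¹ * g with hg₁
  have hl : ∀ i : Fin 3, (![δ, 1, 1] : Fin 3 → F) i ≠ 0 := fun i => by fin_cases i <;> simp [hδ]
  have hfix₁ : FixBase X g₁ e f := by
    refine ⟨(commute_d_of_mem_loc k₁.2).inv_right.mul_right hg, fun i => hcomm ?_, fun i => hcomm ?_⟩
    · rw [L_conj X hk₁ (hfr.ee i i) (hfr.ne_zero i), hAe, L_smul X (ha i) (ha0 i) (hl i), hLa]
    · rw [L_conj X hk₁ (hfr.ff i i) (hfr.symm.ne_zero i), hAf, hb', smul_smul,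
        L_smul X (hb i) (hb0 i) (mul_ne_zero (hl i) (hsne i)), hLb]
  -- the unit point
  have hP : (![1, 1, 1] : Fin 3 → F) = q 1 1 := by simp [q]
  obtain ⟨t, ht0, ht⟩ : ∃ t : F, t ≠ 0 ∧
      g₁ * L (comb e ![1, 1, 1]) * g₁⁻¹ = L (comb e (q 1 t)) := by
    obtain ⟨a₀, ha₀, -, huniq⟩ := (conic_exists X hfr hw).1
    set M := (conic X e 1 w).map (MulAut.conj g₁) with hM
    have hMC : CList D M := by
      have hC := clist_conic X hfr (a := 1) hw
      refine ⟨fun x hx => ?_, hC.nodup.map (MulAut.conj g₁).injective, fun x hx y hy => ?_⟩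
      · obtain ⟨z, hz, rfl⟩ := List.mem_map.mp hx; exact X.ts.conj _ z (hC.mem z hz)
      · obtain ⟨z, hz, rfl⟩ := List.mem_map.mp hx
        obtain ⟨z', hz', rfl⟩ := List.mem_map.mp hy
        exact (Commute.conj_iff g₁).mpr (hC.comm z hz z' hz')
    have hMp : M.prod = (base X e).prod := by
      rw [hM, ← map_list_prod, hgood, MulAut.conj_apply, mul_inv_eq_iff_eq_mul]
      exact (Commute.list_prod_right _ _ fun x hx => by
        simp only [base, List.mem_cons, List.not_mem_nil, or_false] at hx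
        rcases hx with rfl | rfl | rfl <;> exact hfix₁.2.1 _).eq
    have hx : g₁ * L (comb e ![1, 1, 1]) * g₁⁻¹ ∈ M :=
      List.mem_map.mpr ⟨L (comb e (q 1 1)), by simp [conic], by rw [hP]; rfl⟩
    have hnb := conic_ne_base X hfr (a := (1 : F)) (w := w) one_ne_zero
    have key : ∀ x, x ∈ conic X e 1 w ↔ x ∈ conic X e a₀ w :=
      (huniq _ (clist_conic X hfr hw) rfl hgood).resolve_left fun h =>
        hnb ((h _).mp (by simp [conic]))
    rcases huniq M hMC rfl hMp with h | h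
    · exfalso
      obtain hb : g₁ * L (comb e ![1, 1, 1]) * g₁⁻¹ ∈ base X e := (h _).mp hx
      apply hnb
      rw [← hP]
      have hbase : ∀ y ∈ base X e, g₁ * y * g₁⁻¹ = y := fun y hy => by
        simp only [base, List.mem_cons, List.not_mem_nil, or_false] at hy
        rcases hy with rfl | rfl | rfl <;> exact mul_inv_eq_iff_eq_mul.mpr (hfix₁.2.1 _).eq
      have := hbase _ hb
      rwa [mul_left_cancel (mul_right_cancel this)] at hb
    · have hx' := (key _).mpr ((h _).mp hx)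
      obtain ⟨hw0, hw1⟩ := omega_ne hw
      simp only [conic, List.mem_cons, List.not_mem_nil, or_false] at hx'
      rcases hx' with h' | h' | h'
      · exact ⟨1, one_ne_zero, h'⟩
      · exact ⟨w, hw0, h'⟩
      · exact ⟨w + 1, fun e => hw1 (eq_of_add_eq_zero e), h'⟩
  obtain ⟨δ', -, hδ', hA'⟩ := exists_isometry hfr hfr
  obtain ⟨A', hAe', hAf'⟩ := hA' ![1, t, t ^ 2] (fun i => by fin_cases i <;> simp [ht0])
    (by rw [hδ' ⟨rfl, rfl⟩, one_mul, Fin.prod_univ_three]
        simp only [Matrix.cons_val_zero, Matrix.cons_val_one, Matrix.cons_val, one_mul]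
        rw [← pow_succ', cube ht0, one_pow])
  obtain ⟨k₂, hk₂⟩ := X.chart.surj (π A')
  have hl' : ∀ i : Fin 3, (![1, t, t ^ 2] : Fin 3 → F) i ≠ 0 := fun i => by
    fin_cases i <;> simp [ht0]
  have hcomm₁ : ∀ {k x : G}, k * x * k⁻¹ = g₁ * x * g₁⁻¹ → Commute (k⁻¹ * g₁) x := fun {k x} h => by
    refine mul_inv_eq_iff_eq_mul.mp ?_
    rw [show k⁻¹ * g₁ * x * (k⁻¹ * g₁)⁻¹ = k⁻¹ * (g₁ * x * g₁⁻¹) * k by group, ← h]; group
  refine ⟨(k₂ : G)⁻¹ * (k₁ : G)⁻¹, mul_mem (inv_mem k₂.2) (inv_mem k₁.2), ?_, ?_⟩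
  · rw [mul_assoc, ← hg₁]
    refine ⟨(commute_d_of_mem_loc k₂.2).inv_right.mul_right hfix₁.1, fun i => hcomm₁ ?_,
      fun i => hcomm₁ ?_⟩
    · rw [L_conj X hk₂ (hfr.ee i i) (hfr.ne_zero i), hAe', L_smul X (hfr.ee i i) (hfr.ne_zero i) (hl' i)]
      exact (mul_inv_eq_iff_eq_mul.mpr (hfix₁.2.1 i).eq).symm
    · rw [L_conj X hk₂ (hfr.ff i i) (hfr.symm.ne_zero i), hAf',
        L_smul X (hfr.ff i i) (hfr.symm.ne_zero i) (hl' i)]
      exact (mul_inv_eq_iff_eq_mul.mpr (hfix₁.2.2 i).eq).symm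
  · rw [mul_assoc, ← hg₁]
    refine hcomm₁ ?_
    rw [L_conj X hk₂ (hfr.h_ee _ _) (comb_ne X hfr first_ne), ht]
    congr 1
    simp only [comb_three, OrthUnitaryTransvection.act_add, OrthUnitaryTransvection.act_smul, hAe', q]
    simp [smul_smul]

end Cfsg.Agent.ThreeTransM22Std72
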