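import Cfsg.Agent.Lib.ThreeTransM22Pair54

/-!
# An exchange of two commuting members moves the sixes through them

In a chart at a fixed third member the exchange is linear on a plane; six-sets are unitary
triangles, and no linear map interchanging two vertices keeps every point inside its six.
-/

set_option autoImplicit false
set_option linter.unusedSectionVars false
set_option linter.style.haveILetI false

namespace Cfsg.Agent.ThreeTransM22Swap54

open Subgroup Cfsg.Agent.ThreeTransRel Cfsg.Agent.ThreeTransDescent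
open Cfsg.Agent.UnitaryF4Geo Cfsg.Agent.UnitaryF4Line Matrix
open Cfsg.Agent.ThreeTransM22Local72 Cfsg.Agent.ThreeTransM22Frame72 Cfsg.Agent.ThreeTransM22Lift72
open Cfsg.Agent.ThreeTransM22Pair54

variable {F : Type} [Field F] [Fintype F] [hF : FourField F]

/-- Three vectors forming a unitary matrix. -/
def Unit3 (p : Fin 3 → Fin 3 → F) : Prop :=
  (∀ j k, ∑ i, p i j ^ 2 * p i k = if j = k then (1 : F) else 0) ∧
    ∀ i i', ∑ j, p i j ^ 2 * p i' j = if i = i' then (1 : F) else 0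

theorem unit3_of_rows {p : Fin 3 → Fin 3 → F}
    (h1 : ∀ j k, ∑ i, p i j ^ 2 * p i k = if j = k then (1 : F) else 0) : Unit3 p := by
  classical
  refine ⟨h1, ?_⟩
  let A : Matrix (Fin 3) (Fin 3) F := Matrix.of fun j i => p i j ^ 2
  let B : Matrix (Fin 3) (Fin 3) F := Matrix.of fun i k => p i k
  have hAB : A * B = 1 := by
    ext j k
    rw [Matrix.mul_apply, Matrix.one_apply]
    exact h1 j k
  have hBA : B * A = 1 := mul_eq_one_comm.mp hAB
  intro i i'
  have := congrFun (congrFun hBA i') i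
  rw [Matrix.mul_apply, Matrix.one_apply] at this
  rw [show (∑ j, p i j ^ 2 * p i' j) = ∑ j, B i' j * A j i from
    Finset.sum_congr rfl fun j _ => mul_comm _ _, this]
  exact if_congr eq_comm rfl rfl

theorem others : ∀ i : Fin 3, i ≠ i + 1 ∧ i ≠ i + 2 ∧ i + 1 ≠ i + 2 := by decide

theorem cube_sum {α β : F} (e : α ^ 3 + β ^ 3 = 0) : (α = 0 ∧ β = 0) ∨ (α ≠ 0 ∧ β ≠ 0) := by
  by_cases ha : α = 0
  · left
    subst ha
    refine ⟨rfl, ?_⟩
    simpa using e
  · right
    refine ⟨ha, fun hb => ?_⟩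
    rw [cube ha, hb] at e
    simp at e

theorem norm_col {p : Fin 3 → Fin 3 → F} (hp : Unit3 p) {i : Fin 3} {c α β : F} (hc : c ≠ 0)
    (e : p i = c • ![α, β, 1]) : α ^ 3 + β ^ 3 = 0 := by
  have h1 := hp.2 i i
  rw [Fin.sum_univ_three, e, if_pos rfl] at h1
  simp at h1
  linear_combination h1 - (α ^ 3 + β ^ 3 + 1) * cube hc

theorem orth_col {p : Fin 3 → Fin 3 → F} (hp : Unit3 p) {i k : Fin 3} (hik : i ≠ k)
    {c c' α β α' β' : F} (hc : c ≠ 0) (hc' : c' ≠ 0)
    (e : p i = c • ![α, β, 1]) (e' : p k = c' • ![α', β', 1]) :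
    α ^ 2 * α' + β ^ 2 * β' + 1 = 0 := by
  have h1 := hp.2 i k
  rw [Fin.sum_univ_three, e, e', if_neg hik] at h1
  simp at h1
  have h2 : c ^ 2 * c' * (α ^ 2 * α' + β ^ 2 * β' + 1) = 0 := by linear_combination h1
  exact (mul_eq_zero.mp h2).resolve_left (mul_ne_zero (pow_ne_zero 2 hc) hc')

/-- A unitary triangle with one full column has the expected other columns. -/
theorem other_col {p : Fin 3 → Fin 3 → F} (hp : Unit3 p) {i : Fin 3} {c α β w : F} (hc : c ≠ 0)
    (e : p i = c • ![α, β, 1]) (ha : α ≠ 0) (hb : β ≠ 0) (hw : w ^ 2 = w + 1) :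
    ∃ (k : Fin 3) (c' : F), c' ≠ 0 ∧ p k = c' • ![w * α, w ^ 2 * β, 1] := by
  have key : ∀ k, i ≠ k → ∃ c' x : F, c' ≠ 0 ∧ (x = w ∨ x = w + 1) ∧
      p k = c' • ![x * α, (x + 1) * β, 1] := by
    intro k hik
    have ho := hp.2 i k
    rw [Fin.sum_univ_three, e, if_neg hik] at ho
    simp at ho
    have ho' : α ^ 2 * p k 0 + β ^ 2 * p k 1 + p k 2 = 0 := by
      have h2 : c ^ 2 * (α ^ 2 * p k 0 + β ^ 2 * p k 1 + p k 2) = 0 := by linear_combination ho
      exact (mul_eq_zero.mp h2).resolve_left (pow_ne_zero 2 hc)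
    have hn := hp.2 k k
    rw [Fin.sum_univ_three, if_pos rfl] at hn
    have h2 : p k 2 ≠ 0 := by
      intro h2
      rw [h2] at ho' hn
      by_cases h0 : p k 0 = 0
      · have h1 : p k 1 = 0 := by
          rw [h0] at ho'
          simpa [hb] using ho'
        rw [h0, h1] at hn
        simp at hn
      · have h1 : p k 1 ≠ 0 := fun h1 => h0 (by rw [h1] at ho'; simpa [ha] using ho')
        have : (0 : F) = 1 := by
          linear_combination hn - cube h0 - cube h1 - (two_eq_zero (F := F))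
        exact zero_ne_one this
    set x := α ^ 2 * p k 0 / p k 2 with hx
    set y := β ^ 2 * p k 1 / p k 2 with hy
    have hxy : x + 1 = y := by
      refine eq_of_add_eq_zero ?_
      rw [hx, hy]
      field_simp
      linear_combination ho'
    have e0 : p k 0 = p k 2 * (x * α) := by
      rw [hx, div_mul_eq_mul_div, mul_div_assoc', eq_div_iff h2]
      linear_combination -(p k 0 * p k 2) * cube ha
    have e1 : p k 1 = p k 2 * (y * β) := by
      rw [hy, div_mul_eq_mul_div, mul_div_assoc', eq_div_iff h2]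
      linear_combination -(p k 1 * p k 2) * cube hb
    have hxn : x ≠ 0 ∧ y ≠ 0 := by
      have h3 : x ^ 3 + y ^ 3 = 0 := by
        linear_combination hn - p k 0 ^ 2 * e0 - (p k 2 * (x * α)) * p k 0 * e0
          - (p k 2 * (x * α)) ^ 2 * e0 - p k 1 ^ 2 * e1 - (p k 2 * (y * β)) * p k 1 * e1
          - (p k 2 * (y * β)) ^ 2 * e1
          - (x ^ 3 * α ^ 3 + y ^ 3 * β ^ 3 + 1) * cube h2 - x ^ 3 * cube ha - y ^ 3 * cube hb
      rcases cube_sum h3 with ⟨hx0, hy0⟩ | h4
      · exact absurd (by rw [← hxy, hx0, zero_add] at hy0; exact hy0) one_ne_zero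
      · exact h4
    have hx2 : x ^ 2 = x + 1 := rel hxn.1 fun h1 => hxn.2 (by rw [← hxy, h1, add_self])
    refine ⟨p k 2, x, h2, ?_, ?_⟩
    · have : (x - w) * (x - (w + 1)) = 0 := by
        linear_combination hx2 + hw + (w + 1 - w * x) * (two_eq_zero (F := F))
      rcases mul_eq_zero.mp this with h3 | h3
      · exact Or.inl (sub_eq_zero.mp h3)
      · exact Or.inr (sub_eq_zero.mp h3)
    · funext j
      fin_cases j
      · simpa using e0
      · simpa [hxy] using e1
      · simp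
  obtain ⟨k, k', hk, hk', hkk⟩ : ∃ k k' : Fin 3, i ≠ k ∧ i ≠ k' ∧ k ≠ k' :=
    ⟨i + 1, i + 2, (others i).1, (others i).2.1, (others i).2.2⟩
  obtain ⟨c₁, x₁, hc₁, hx₁, e₁⟩ := key k hk
  obtain ⟨c₂, x₂, hc₂, hx₂, e₂⟩ := key k' hk'
  have hw2 : w + 1 = w ^ 2 := hw.symm
  rcases hx₁ with rfl | hx₁
  · exact ⟨k, c₁, hc₁, by rw [e₁, hw2]⟩
  rcases hx₂ with rfl | hx₂
  · exact ⟨k', c₂, hc₂, by rw [e₂, hw2]⟩
  exfalso
  rw [hx₂, ← hx₁] at e₂
  have h4 := orth_col hp hkk hc₁ hc₂ e₁ e₂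
  have hn := norm_col hp hc₁ e₁
  exact one_ne_zero (α := F) (by linear_combination h4 - hn)

variable {G : Type*} [Group G] [Finite G] {D : Set G}
variable {a : G} {φ : ↥(loc D a) →* Cfsg.PSU 6 F 2} (Y : Ctx D a φ)

local notation "π" => QuotientGroup.mk' (Subgroup.center (Cfsg.SU 6 F 2))
local notation "act" => OrthUnitaryTransvection.act
local notation "L" => ThreeTransM22Lift72.Chart.L Y.chart

include Y

/-- Equal products of three members of a plane give a unitary matrix. -/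
theorem triple_unit {e f : Fin 3 → Fin 6 → F} (hfr : Frame e f) {q₀ q₁ q₂ : G}
    {p : Fin 3 → Fin 3 → F}
    (hp : ∀ i, (p i = 0 ∧ ![q₀, q₁, q₂] i = a) ∨ (p i ≠ 0 ∧ ![q₀, q₁, q₂] i = L (comb e (p i))))
    (hprod : q₀ * (q₁ * q₂) = L (e 0) * (L (e 1) * L (e 2))) : Unit3 p := by
  classical
  refine unit3_of_rows fun j k => ?_
  let T' : (Fin 3 → F) → Cfsg.SU 6 F 2 := fun c => T (comb e c) (hfr.h_ee c c)
  have himg : ∀ i, ∃ hm : ![q₀, q₁, q₂] i ∈ loc D a, φ ⟨_, hm⟩ = π (T' (p i)) := by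
    intro i
    rcases hp i with ⟨h0, e1⟩ | ⟨hne, e1⟩
    · refine ⟨by rw [e1]; exact Y.self a Y.mem, ?_⟩
      rw [show T' (p i) = 1 from OrthUnitaryTransvection.su_ext fun x => by
        rw [T_act, h0, comb_zero, smul_zero, add_zero, OrthUnitaryTransvection.act_one], map_one]
      refine (Y.chart.one _).mpr fun y hy => ?_
      show Commute y (![q₀, q₁, q₂] i)
      rw [e1]
      exact hy.2.2.symm
    · have hc0 : comb e (p i) ≠ 0 := fun h0 => hne (hfr.comb_inj (by rw [h0, comb_zero]))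
      refine ⟨by rw [e1]; exact near_le_loc (L_mem Y (hfr.h_ee _ _) hc0), ?_⟩
      rw [← L_img Y (hfr.h_ee (p i) (p i)) hc0]
      congr 1
      exact Subtype.ext e1
  obtain ⟨m0, i0⟩ := himg 0
  obtain ⟨m1, i1⟩ := himg 1
  obtain ⟨m2, i2⟩ := himg 2
  have he : ∀ i : Fin 3, φ ⟨L (e i), near_le_loc (L_mem Y (hfr.ee i i) (hfr.ne_zero i))⟩ =
      π (T' (Pi.single i 1)) := fun i =>
    (L_img Y (hfr.ee i i) (hfr.ne_zero i)).trans (congrArg π (T_congr (comb_single e i).symm _ _))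
  have hsq : ∀ c₀ c₁ c₂ : Fin 3 → F,
      (T' c₀ * (T' c₁ * T' c₂)) * (T' c₀ * (T' c₁ * T' c₂)) = 1 := by
    intro c₀ c₁ c₂
    have k : ∀ c c' : Fin 3 → F, Commute (T' c) (T' c') := fun c c' =>
      T_commute _ _ (hfr.h_ee c c')
    rw [((k c₀ c₁).mul_right (k c₀ c₂)).symm.mul_mul_mul_comm, (k c₁ c₂).symm.mul_mul_mul_comm,
      T_sq, T_sq, T_sq, one_mul, one_mul]
  have hπ : π (T' (p 0) * (T' (p 1) * T' (p 2))) =
      π (T' (Pi.single 0 1) * (T' (Pi.single 1 1) * T' (Pi.single 2 1))) := by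
    rw [map_mul, map_mul, map_mul, map_mul, ← i0, ← i1, ← i2, ← he, ← he, ← he, ← map_mul, ← map_mul,
      ← map_mul, ← map_mul]
    exact congrArg φ (Subtype.ext hprod)
  have hSU := UnitaryF4Line.eq_of_mk_eq (by norm_num) (hsq _ _ _) (hsq _ _ _) hπ
  have hev : ∀ c₀ c₁ c₂ : Fin 3 → F, act (T' c₀ * (T' c₁ * T' c₂)) (f j) =
      f j + comb e (c₀ j ^ 2 • c₀ + c₁ j ^ 2 • c₁ + c₂ j ^ 2 • c₂) := by
    intro c₀ c₁ c₂
    have hfc : ∀ c : Fin 3 → F, h (f j) (comb e c) = c j ^ 2 := fun c => by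
      rw [h_symm (comb e c) (f j), hfr.h_eb]
    simp only [OrthUnitaryTransvection.act_mul, T', T_act, h_add_left, h_smul_left, hfr.h_ee, hfc,
      mul_zero, add_zero]
    rw [← comb_smul, ← comb_smul, ← comb_smul]
    simp only [comb, Pi.add_apply, add_smul, Finset.sum_add_distrib]
    abel
  have h1 := congrArg (fun A => act A (f j)) hSU
  simp only [hev] at h1
  have h2 := congrFun (hfr.comb_inj (add_left_cancel h1)) k
  rw [Fin.sum_univ_three]
  simp only [Pi.add_apply, Pi.smul_apply, smul_eq_mul] at h2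
  rw [h2]
  fin_cases j <;> fin_cases k <;> simp

variable {d b : G} {e f : Fin 3 → Fin 6 → F}

/-- The points off the line of the two members. -/
noncomputable def xv (e : Fin 3 → Fin 6 → F) (r s : F) : G := L (comb e ![r, s, 1])

theorem xv_eq (hfr : Frame e f) {r s : F} {c : Fin 3 → F} (hc : c ≠ 0)
    (h1 : L (comb e c) = xv Y e r s) : ∃ k : F, k ≠ 0 ∧ c = k • ![r, s, 1] := by
  have hx : (![r, s, 1] : Fin 3 → F) ≠ 0 := fun h0 => by simpa using congrFun h0 2
  have hne : ∀ c : Fin 3 → F, c ≠ 0 → comb e c ≠ 0 := fun c hc h0 =>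
    hc (hfr.comb_inj (by rw [h0, comb_zero]))
  obtain ⟨k, hk, e1⟩ := L_inj Y (hfr.h_ee _ _) (hne c hc) (hfr.h_ee _ _) (hne _ hx) h1
  rw [← comb_smul] at e1
  exact ⟨k, hk, hfr.comb_inj e1⟩

theorem xv_n2 (hfr : Frame e f) (he0 : L (e 0) = d) (he1 : L (e 1) = b) (r s : F) :
    xv Y e r s ∈ N2 D d b := by
  have hx : comb e ![r, s, 1] ≠ 0 := fun h0 => by
    simpa using congrFun (hfr.comb_inj (h0.trans (comb_zero e).symm)) 2
  have hcm : ∀ i, Commute (xv Y e r s) (L (e i)) := fun i =>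
    (L_comm Y (hfr.h_ee _ _) hx (hfr.ee i i) (hfr.ne_zero i)).mpr (by
      rw [← comb_single e i]; exact hfr.h_ee _ _)
  have hne : ∀ i : Fin 3, i ≠ 2 → xv Y e r s ≠ L (e i) := fun i hi h1 => by
    rw [← comb_single e i] at h1
    obtain ⟨k, hk, e2⟩ := xv_eq Y hfr (by simp) h1.symm
    have := congrFun e2 2
    rw [Pi.single_eq_of_ne hi.symm] at this
    simp [hk.symm] at this
  exact ⟨⟨(L_mem Y (hfr.h_ee _ _) hx).1, he0 ▸ hne 0 (by decide), he0 ▸ (hcm 0).symm⟩,
    he1 ▸ hne 1 (by decide), he1 ▸ hcm 1⟩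

/-- The other members of the six through a point, in coordinates. -/
theorem exists_unit (hfr : Frame e f) (he0 : L (e 0) = d) (he1 : L (e 1) = b)
    (ha : a ∈ N2 D d b)
    (hlist : ∀ x ∈ N2 D d b, ∃ l : List G, CList D l ∧ l.length = 3 ∧ l.prod = d * b * x ∧
      ∀ q, q ∈ l ↔ Fib D d b x q) (r s : F) :
    ∃ p : Fin 3 → Fin 3 → F, Unit3 p ∧
      (∀ r' s', Fib D d b (xv Y e r s) (xv Y e r' s') →
        ∃ (i : Fin 3) (c : F), c ≠ 0 ∧ p i = c • ![r' + r, s' + s, 1]) ∧
      ∀ (i : Fin 3) (c α β : F), c ≠ 0 → p i = c • ![α, β, 1] →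
        Fib D d b (xv Y e r s) (xv Y e (r + α) (s + β)) := by
  classical
  set x := xv Y e r s with hxdef
  have hxN := xv_n2 Y hfr he0 he1 r s
  have hx0 : comb e ![r, s, 1] ≠ 0 := fun h0 => by
    simpa using congrFun (hfr.comb_inj (h0.trans (comb_zero e).symm)) 2
  set e' : Fin 3 → Fin 6 → F := ![e 0, e 1, comb e ![r, s, 1]] with he'
  have hcomb : ∀ γ : Fin 3 → F, comb e' γ = comb e ![γ 0 + γ 2 * r, γ 1 + γ 2 * s, γ 2] := by
    intro γ
    simp only [comb_three, he', Matrix.cons_val_zero, Matrix.cons_val_one, Matrix.cons_val, smul_add,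
      smul_smul, add_smul, mul_one]
    abel
  have hee' : ∀ i j, h (e' i) (e' j) = 0 := fun i j => by
    have : ∀ i, ∃ c, e' i = comb e c := fun i => by
      fin_cases i
      · exact ⟨Pi.single 0 1, (comb_single e 0).symm⟩
      · exact ⟨Pi.single 1 1, (comb_single e 1).symm⟩
      · exact ⟨_, rfl⟩
    obtain ⟨c, hc⟩ := this i
    obtain ⟨c', hc'⟩ := this j
    rw [hc, hc']
    exact hfr.h_ee c c'
  have hli : LinearIndependent F e' := by
    rw [Fintype.linearIndependent_iff]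
    intro γ hγ
    have h1 : comb e' γ = 0 := hγ
    rw [hcomb, ← comb_zero e] at h1
    have h2 := hfr.comb_inj h1
    have g2 : γ 2 = 0 := by simpa using congrFun h2 2
    have g0 := congrFun h2 0
    have g1 := congrFun h2 1
    simp [g2] at g0 g1
    intro i
    fin_cases i
    · exact g0
    · exact g1
    · exact g2
  obtain ⟨f', hfr'⟩ := exists_frame_of hee' hli
  obtain ⟨l, hl, hlen, hprod, hmem⟩ := hlist x hxN
  obtain ⟨q₀, q₁, q₂, rfl⟩ := List.length_eq_three.mp hlen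
  have hcoord : ∀ i : Fin 3, ∃ p : Fin 3 → F,
      (p = 0 ∧ ![q₀, q₁, q₂] i = a) ∨ (p ≠ 0 ∧ ![q₀, q₁, q₂] i = L (comb e' p)) := by
    intro i
    set q := ![q₀, q₁, q₂] i with hq
    obtain ⟨hqN, -, hs⟩ : Fib D d b x q := (hmem q).mp (by fin_cases i <;> simp [hq])
    by_cases hqa : q = a
    · exact ⟨0, Or.inl ⟨rfl, hqa⟩⟩
    have hax : Commute a x := (L_mem Y (hfr.h_ee _ _) hx0).2.2
    obtain ⟨u, hu, hu0, e1⟩ := L_surj Y (x := q) ⟨hqN.1.1, hqa, hs a ha.1 ha.2.2 hax⟩
    have hperp : ∀ j, h u (e' j) = 0 := by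
      intro j
      fin_cases j
      · exact (L_comm Y hu hu0 (hfr.ee 0 0) (hfr.ne_zero 0)).mp (by rw [e1, he0]; exact hqN.1.2.2.symm)
      · exact (L_comm Y hu hu0 (hfr.ee 1 1) (hfr.ne_zero 1)).mp (by rw [e1, he1]; exact hqN.2.2)
      · refine (L_comm Y hu hu0 (hfr.h_ee _ _) hx0).mp ?_
        rw [e1]
        exact (hs x hxN.1 hxN.2.2 (Commute.refl x)).symm
    have hp := hfr'.mem_plane hperp
    exact ⟨fun j => h u (f' j), Or.inr ⟨fun h0 => hu0 (by rw [hp, h0, comb_zero]), by rw [← hp, e1]⟩⟩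
  choose p hp using hcoord
  have hU : Unit3 p := by
    refine triple_unit Y hfr' hp ?_
    rw [show e' 0 = e 0 from rfl, show e' 1 = e 1 from rfl,
      show L (e' 2) = x from rfl, he0, he1, ← mul_assoc d b x, ← hprod]
    simp
  refine ⟨p, hU, fun r' s' hF' => ?_, fun i c α β hc hi => ?_⟩
  · obtain ⟨i, hi⟩ : ∃ i : Fin 3, ![q₀, q₁, q₂] i = xv Y e r' s' := by
      have := (hmem _).mpr hF'
      simp only [List.mem_cons, List.not_mem_nil, or_false] at this
      rcases this with h | h | h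
      exacts [⟨0, h.symm⟩, ⟨1, h.symm⟩, ⟨2, h.symm⟩]
    refine ⟨i, ?_⟩
    rcases hp i with ⟨-, e1⟩ | ⟨hne, e1⟩
    · exfalso
      have hne' : comb e ![r', s', 1] ≠ 0 := fun h0 => by
        simpa using congrFun (hfr.comb_inj (h0.trans (comb_zero e).symm)) 2
      exact (L_mem Y (hfr.h_ee _ _) hne').2.1 (hi.symm.trans e1)
    · rw [hi, hcomb] at e1
      obtain ⟨k, hk, e2⟩ := xv_eq Y hfr (fun h0 => hne (by
        have g2 : p i 2 = 0 := by simpa using congrFun h0 2
        have g0 := congrFun h0 0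
        have g1 := congrFun h0 1
        simp [g2] at g0 g1
        funext j; fin_cases j
        · exact g0
        · exact g1
        · exact g2)) e1.symm
      have g2 : p i 2 = k := by simpa using congrFun e2 2
      have g0 := congrFun e2 0
      have g1 := congrFun e2 1
      simp [g2] at g0 g1
      refine ⟨k, hk, funext fun j => ?_⟩
      fin_cases j
      · simp
        linear_combination g0 - (k * r) * (two_eq_zero (F := F))
      · simp
        linear_combination g1 - (k * s) * (two_eq_zero (F := F))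
      · simpa using g2
  · rcases hp i with ⟨h0, -⟩ | ⟨-, e1⟩
    · rw [hi] at h0
      exact absurd (by simpa using congrFun h0 2) hc
    · have h3 : ![q₀, q₁, q₂] i = xv Y e (r + α) (s + β) := by
        rw [e1, hi, hcomb]
        have : (![(c • ![α, β, 1] : Fin 3 → F) 0 + (c • ![α, β, 1] : Fin 3 → F) 2 * r,
            (c • ![α, β, 1] : Fin 3 → F) 1 + (c • ![α, β, 1] : Fin 3 → F) 2 * s,
            (c • ![α, β, 1] : Fin 3 → F) 2] : Fin 3 → F) = c • ![r + α, s + β, 1] := by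
          funext j; fin_cases j <;> simp <;> ring
        rw [this, comb_smul]
        exact L_smul Y (hfr.h_ee _ _) (fun h0 => by
          simpa using congrFun (hfr.comb_inj (h0.trans (comb_zero e).symm)) 2) hc
      rw [← h3]
      exact (hmem _).mp (by fin_cases i <;> simp)

/-- No element exchanging the two members keeps every member inside its six. -/
theorem no_swap (hfr : Frame e f) (he0 : L (e 0) = d) (he1 : L (e 1) = b) (ha : a ∈ N2 D d b)
    (hlist : ∀ x ∈ N2 D d b, ∃ l : List G, CList D l ∧ l.length = 3 ∧ l.prod = d * b * x ∧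
      ∀ q, q ∈ l ↔ Fib D d b x q)
    (hsymm : ∀ x y, x ∈ N2 D d b → Fib D d b x y → Fib D d b y x)
    {t : G} (ht : t ∈ loc D a) (htd : t * d * t⁻¹ = b) (htb : t * b * t⁻¹ = d)
    (hmove : ∀ x ∈ N2 D d b, t * x * t⁻¹ = x ∨ Fib D d b x (t * x * t⁻¹)) : False := by
  classical
  obtain ⟨A, hA⟩ := QuotientGroup.mk'_surjective (Subgroup.center (Cfsg.SU 6 F 2)) (φ ⟨t, ht⟩)
  have himg : ∀ u : Fin 6 → F, h u u = 0 → u ≠ 0 → t * L u * t⁻¹ = L (act A u) := fun u hu hu0 =>
    L_conj Y (k := ⟨t, ht⟩) hA.symm hu hu0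
  have hiso : ∀ u : Fin 6 → F, h u u = 0 → h (act A u) (act A u) = 0 := fun u hu =>
    (OrthUnitaryTransvection.herm_act A u u).trans hu
  obtain ⟨c₀, hc₀, a0⟩ : ∃ c : F, c ≠ 0 ∧ act A (e 0) = c • e 1 :=
    L_inj Y (hiso _ (hfr.ee 0 0)) (OrthUnitaryPSU.act_smul_right_inj A (hfr.ne_zero 0)) (hfr.ee 1 1)
      (hfr.ne_zero 1) (by rw [← himg _ (hfr.ee 0 0) (hfr.ne_zero 0), he0, he1, htd])
  obtain ⟨c₁, hc₁, a1⟩ : ∃ c : F, c ≠ 0 ∧ act A (e 1) = c • e 0 :=
    L_inj Y (hiso _ (hfr.ee 1 1)) (OrthUnitaryPSU.act_smul_right_inj A (hfr.ne_zero 1)) (hfr.ee 0 0)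
      (hfr.ne_zero 0) (by rw [← himg _ (hfr.ee 1 1) (hfr.ne_zero 1), he0, he1, htb])
  set u := act A (e 2) with hudef
  have hu : h u u = 0 := hiso _ (hfr.ee 2 2)
  have hu0 : u ≠ 0 := OrthUnitaryPSU.act_smul_right_inj A (hfr.ne_zero 2)
  have hx2 : xv Y e 0 0 = L (e 2) := by
    show L (comb e ![0, 0, 1]) = _
    congr 1
    rw [comb_three]; simp
  have hperp : ∀ i, h u (e i) = 0 := by
    have key : ∀ i j : Fin 3, ∀ c : F, c ≠ 0 → act A (e i) = c • e j → h u (e j) = 0 := by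
      intro i j c hc e2
      have h1 : h (act A (e 2)) (act A (e i)) = h (e 2) (e i) :=
        OrthUnitaryTransvection.herm_act A _ _
      rw [e2, hfr.ee, h_smul_right] at h1
      exact (mul_eq_zero.mp h1).resolve_left (pow_ne_zero 2 hc)
    intro i
    fin_cases i
    · exact key 1 0 c₁ hc₁ a1
    · exact key 0 1 c₀ hc₀ a0
    · refine (L_comm Y hu hu0 (hfr.ee 2 2) (hfr.ne_zero 2)).mp ?_
      rw [hudef, ← himg _ (hfr.ee 2 2) (hfr.ne_zero 2), ← hx2]
      rcases hmove _ (xv_n2 Y hfr he0 he1 0 0) with h1 | ⟨-, -, hs⟩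
      · rw [h1]
      · exact (hs _ (xv_n2 Y hfr he0 he1 0 0).1 (xv_n2 Y hfr he0 he1 0 0).2.2 (Commute.refl _)).symm
  have hplane := hfr.mem_plane hperp
  obtain ⟨c, g, z, hz, hu'⟩ : ∃ c g z : F, z ≠ 0 ∧ u = comb e ![c, g, z] := by
    refine ⟨h u (f 0), h u (f 1), h u (f 2), fun hz => ?_, ?_⟩
    · have h1 : act A (e 2) = act A ((h u (f 1) * c₀⁻¹) • e 0 + (h u (f 0) * c₁⁻¹) • e 1) := by
        rw [OrthUnitaryTransvection.act_add, OrthUnitaryTransvection.act_smul,
          OrthUnitaryTransvection.act_smul, a0, a1, smul_smul, smul_smul,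
          inv_mul_cancel_right₀ hc₀, inv_mul_cancel_right₀ hc₁]
        conv_lhs => rw [← hudef, hplane, comb_three]
        simp [hz, add_comm]
      have h2 := congrArg (act A⁻¹) h1
      rw [OrthUnitaryTransvection.act_inv_act, OrthUnitaryTransvection.act_inv_act] at h2
      have h3 := congrArg (fun v => h v (f 2)) h2
      simp [h_add_left, h_smul_left, hfr.ef] at h3
    · conv_lhs => rw [hplane]
      congr 1
      funext i; fin_cases i <;> rfl
  set μ₁ := c₁ / z with hμ₁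
  set μ₂ := c₀ / z with hμ₂
  set c' := c / z with hc'
  set g' := g / z with hg'
  have hT : ∀ r s, t * xv Y e r s * t⁻¹ = xv Y e (μ₁ * s + c') (μ₂ * r + g') := by
    intro r s
    have hne : comb e ![r, s, 1] ≠ 0 := fun h0 => by
      simpa using congrFun (hfr.comb_inj (h0.trans (comb_zero e).symm)) 2
    show t * L _ * t⁻¹ = L _
    rw [himg _ (hfr.h_ee _ _) hne]
    have e1 : act A (comb e ![r, s, 1]) = z • comb e ![μ₁ * s + c', μ₂ * r + g', 1] := by
      rw [← comb_smul, comb_three e ![r, s, 1]]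
      simp only [OrthUnitaryTransvection.act_add, OrthUnitaryTransvection.act_smul, a0, a1,
        Matrix.cons_val_zero, Matrix.cons_val_one, Matrix.cons_val, one_smul, ← hudef, hu']
      have hv : z • (![μ₁ * s + c', μ₂ * r + g', 1] : Fin 3 → F) =
          ![c₁ * s + c, c₀ * r + g, z] := by
        rw [hμ₁, hμ₂, hc', hg']
        funext j; fin_cases j <;> simp <;> field_simp
      rw [hv]
      simp only [comb_three, smul_smul, add_smul, Matrix.cons_val_zero, Matrix.cons_val_one,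
        Matrix.cons_val]
      module
    rw [e1, L_smul Y (hfr.h_ee _ _) (fun h0 => by
      simpa using congrFun (hfr.comb_inj (h0.trans (comb_zero e).symm)) 2) hz]
  -- consequences of the sixes
  have hcase : ∀ r s, (r + (μ₁ * s + c') = 0 ∧ s + (μ₂ * r + g') = 0) ∨
      (r + (μ₁ * s + c') ≠ 0 ∧ s + (μ₂ * r + g') ≠ 0 ∧
        Fib D d b (xv Y e r s) (xv Y e (μ₁ * s + c') (μ₂ * r + g'))) := by
    intro r s
    rcases hmove _ (xv_n2 Y hfr he0 he1 r s) with h1 | h1
    · left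
      rw [hT] at h1
      obtain ⟨k, -, e1⟩ := xv_eq Y hfr (fun h0 => by simpa using congrFun h0 2) h1
      have k1 : k = 1 := by simpa using (congrFun e1 2).symm
      have g0 := congrFun e1 0
      have g1 := congrFun e1 1
      simp [k1] at g0 g1
      exact ⟨by rw [g0, add_self], by rw [g1, add_self]⟩
    · rw [hT] at h1
      obtain ⟨p, hp, hp1, -⟩ := exists_unit Y hfr he0 he1 ha hlist r s
      obtain ⟨i, k, hk, e1⟩ := hp1 _ _ h1
      rcases cube_sum (norm_col hp hk e1) with ⟨g0, g1⟩ | ⟨g0, g1⟩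
      · left
        exact ⟨by rw [add_comm]; exact g0, by rw [add_comm]; exact g1⟩
      · exact Or.inr ⟨fun e2 => g0 (by rw [add_comm]; exact e2),
          fun e2 => g1 (by rw [add_comm]; exact e2), h1⟩
  have hg0 : g' = μ₂ * c' := by
    rcases hcase c' 0 with ⟨-, h2⟩ | ⟨h1, -, -⟩
    · rw [zero_add] at h2
      exact (eq_of_add_eq_zero h2).symm
    · exact absurd (by rw [mul_zero, zero_add, add_self]) h1
  have hμ : μ₂ * μ₁ = 1 := by
    rcases hcase (c' + μ₁) 1 with ⟨-, h2⟩ | ⟨h1, -, -⟩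
    · refine (eq_of_add_eq_zero ?_).symm
      rw [hg0] at h2
      linear_combination h2 - (μ₂ * c') * (two_eq_zero (F := F))
    · exact absurd (by linear_combination (c' + μ₁) * (two_eq_zero (F := F))) h1
  obtain ⟨w, hw⟩ := exists_omega (F := F)
  have hw0 := (omega_ne hw).1
  have hμ20 : μ₂ ≠ 0 := div_ne_zero hc₀ hz
  have two := two_eq_zero (F := F)
  -- two points whose sixes pass through the same fixed point
  have hpass : ∀ r s α β : F, α ≠ 0 → r + (μ₁ * s + c') = α → s + (μ₂ * r + g') = β →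
      r + w * α = c' → s + w ^ 2 * β = 0 → Fib D d b (xv Y e c' 0) (xv Y e r s) := by
    intro r s α β hα e1 e2 e3 e4
    rcases hcase r s with ⟨h1, -⟩ | ⟨h1, h2, hF'⟩
    · exact absurd (e1.symm.trans h1) hα
    obtain ⟨p, hp, hp1, hp2⟩ := exists_unit Y hfr he0 he1 ha hlist r s
    obtain ⟨i, k, hk, ei⟩ := hp1 _ _ hF'
    rw [add_comm _ r, add_comm _ s, e1, e2] at ei
    obtain ⟨k', c'', hc'', ek⟩ := other_col hp hk ei hα (e2 ▸ h2) hw
    have h5 := hp2 k' c'' _ _ hc'' ek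
    rw [e3, e4] at h5
    exact hsymm _ _ (xv_n2 Y hfr he0 he1 r s) h5
  have P1 : Fib D d b (xv Y e c' 0) (xv Y e (c' + w) (μ₂ * w ^ 2)) := by
    refine hpass _ _ 1 μ₂ one_ne_zero ?_ ?_ ?_ ?_
    · linear_combination w ^ 2 * hμ + hw + (c' + w) * two
    · rw [hg0]; linear_combination μ₂ * hw + (μ₂ * c' + μ₂ * w) * two
    · linear_combination w * two
    · linear_combination (μ₂ * w ^ 2) * two
  have P2 : Fib D d b (xv Y e c' 0) (xv Y e (c' + w ^ 2) μ₂) := by
    refine hpass _ _ w (μ₂ * w) hw0 ?_ ?_ ?_ ?_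
    · linear_combination hμ + hw + (c' + 1) * two
    · rw [hg0]; linear_combination μ₂ * hw + (μ₂ * c' + μ₂) * two
    · linear_combination w ^ 2 * two
    · linear_combination μ₂ * cube hw0 + μ₂ * two
  obtain ⟨p, hp, hp1, -⟩ := exists_unit Y hfr he0 he1 ha hlist c' 0
  obtain ⟨i, k, hk, ei⟩ := hp1 _ _ P1
  obtain ⟨i', k', hk', ei'⟩ := hp1 _ _ P2
  rw [show c' + w + c' = w by linear_combination c' * two, add_zero] at ei
  rw [show c' + w ^ 2 + c' = w ^ 2 by linear_combination c' * two, add_zero] at ei'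
  have hne : i ≠ i' := by
    rintro rfl
    have h2 := congrFun (ei.symm.trans ei') 2
    have h0 := congrFun (ei.symm.trans ei') 0
    simp at h0 h2
    rw [h2] at h0
    have h4 : w = w ^ 2 := mul_left_cancel₀ hk' h0
    rw [hw] at h4
    exact one_ne_zero (α := F) (by linear_combination -h4)
  have h5 := orth_col hp hne hk hk' ei ei'
  exact one_ne_zero (α := F) (by
    linear_combination h5 - w * cube hw0 - (μ₂ ^ 3 * w) * cube hw0 - w * cube hμ20
      - w * two)

end Cfsg.Agent.ThreeTransM22Swap54
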