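import Cfsg.Agent.Lib.ThreeTransM22Pres51
import Cfsg.Agent.Lib.ThreeTransFi22Out41

/-!
# A group of type M(22) on the table of 3510 points

The members are numbered by the points of the coset table, conjugation by the nine diagram members is
read off the table, and the symmetry of the diagram gives an automorphism which is not inner.
-/

set_option autoImplicit false
set_option maxRecDepth 100000
set_option linter.unusedSectionVars false

namespace Cfsg.Agent.ThreeTransM22Tab48

open Cfsg.Agent.CosetCertCore Cfsg.Agent.CosetCertTable Cfsg.Agent.CosetCertPres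
open Cfsg.Agent.CosetCertRestrict Cfsg.Agent.ThreeTransAut41 Cfsg.Agent.ThreeTransFi22Out41
open Cfsg.Agent.CosetCertU62 (P22 T22)

local notation "hh" => CosetCertFi22U.enumerated

/-- The diagram member number `x`. -/
def gen {G : Type*} (dN : Nat → G) (x : Nat) : G := dN (e x)

/-- The numbering of the members and the outer automorphism. -/
structure Tab {G : Type*} [Group G] (D : Set G) (dN : Nat → G) (s : MulAut G) : Prop where
  ts : ThreeTransRel.TSys D
  inj : ∀ p < T22.N, ∀ q < T22.N, dN p = dN q → p = q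
  mem : ∀ p < T22.N, dN p ∈ D
  surj : ∀ y ∈ D, ∃ p < T22.N, dN p = y
  conj : ∀ x < 9, ∀ q < T22.N, gen dN x * dN q * gen dN x = dN (T22.img x q)
  sq : ∀ x, gen dN x * gen dN x = 1
  top : Subgroup.closure (gen dN '' {x | x < 9}) = ⊤
  aut : ∀ p < T22.N, s (dN p) = dN (pi p)
  invol : s * s = 1
  outer : s ∉ (MulAut.conj : G →* MulAut G).range
  centre : Subgroup.center G = ⊥
  model : ∃ ef : P22.Grp ≃* G, ∀ x < 9, ef (P22.gg x) = gen dN x

theorem pi_spec : ∀ p < T22.N, pi p < T22.N ∧ pi (pi p) = p ∧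
    ∀ x < 9, pi (T22.img x p) = T22.img (sg x) (pi p) := by
  intro p hp
  have := (allFrom_iff _ _ _).mp pi_ok p (Nat.zero_le _) (Nat.lt_of_lt_of_eq hp (Nat.zero_add _).symm)
  simp only [Bool.and_eq_true, Nat.blt_eq, Nat.beq_eq, List.all_eq_true, List.mem_range] at this
  exact ⟨this.1.1, this.1.2, this.2⟩

theorem ng : T22.NG = 9 := by decide +kernel

theorem img_lt {x p : Nat} (hx : x < 9) (hp : p < T22.N) : T22.img x p < T22.N :=
  (edge (CosetCertFi22U.enumerated).table p x hp (ng ▸ hx)).1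

theorem run_lt {w : List Nat} (hw : ∀ x ∈ w, x < 9) {p : Nat} (hp : p < T22.N) :
    T22.run w p < T22.N :=
  ThreeTransAut41.run_lt hh (fun x hx => ng ▸ hw x hx) hp

theorem exists_tab {G : Type*} [Group G] [Finite G] {D : Set G}
    (hD : Cfsg.IsThreeTranspositionGroup D) (hprim : Cfsg.IsPrimitiveUnderConj D)
    (h22 : Cfsg.IsOfTypeM22 G D) : ∃ (dN : Nat → G) (s : MulAut G), Tab D dN s := by
  classical
  obtain ⟨d, hd⟩ := exists_data
  haveI : Finite P22.Grp := CosetCertFi22Simple.upper.1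
  obtain ⟨e0, he0⟩ := ThreeTransM22Pres51.exists_equiv hD hprim h22
  obtain ⟨e, he⟩ : ∃ e : P22.Grp ≃* G, ∀ a : P22.α, e (PresentedGroup.of a) ∈ D := ⟨e0, he0⟩
  have ht := ThreeTransRel.tsys_of_group hD
  have hgg : ∀ x < T22.NG, d (E x) = P22.gg x := hd.base
  have hmem : ∀ p : Fin T22.N, e (d p) ∈ D := by
    intro p
    obtain ⟨m, hm⟩ := exists_move hh (E 0) p
    rw [← hm, hd.conj, hgg 0 (by decide +kernel), map_mul, map_mul, map_inv]
    exact ht.conj _ _ (he _)
  let dN : Nat → G := fun p => if h : p < T22.N then e (d ⟨p, h⟩) else 1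
  have hdN : ∀ p : Fin T22.N, dN p = e (d p) := fun p => dif_pos p.2
  have hgen : ∀ x < 9, gen dN x = e (P22.gg x) := by
    intro x hx
    have h1 := e_lt x (ng ▸ hx)
    show dN (ThreeTransFi22Out41.e x) = _
    rw [show dN (ThreeTransFi22Out41.e x) = dN (E x : Nat) from by rw [E_val x (ng ▸ hx)], hdN,
      hgg x (ng ▸ hx)]
  -- the symmetry of the diagram
  have hrel : ∀ w ∈ P22.relWords, val (fun x => P22.gg (sg x)) w = 1 := by
    intro w hw
    have e1 : val (fun x => P22.gg (sg x)) w = val P22.gg (w.map sg) := by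
      unfold val
      rw [List.map_map]
      rfl
    rw [e1]
    refine val_eq_one hh hd
      ((by decide +kernel : ∀ w ∈ P22.relWords, ∀ x ∈ w.map sg, x < T22.NG) w hw) fun x hx => ?_
    rw [E_val x hx]
    exact (by decide +kernel :
      ∀ w ∈ P22.relWords, ∀ x < T22.NG, T22.run (w.map sg) (ThreeTransFi22Out41.e x)
        = ThreeTransFi22Out41.e x) w hw x hx
  let f : P22.Grp →* P22.Grp := PresentedGroup.toGroup (lift_rels CosetCertFi22U.good (by decide +kernel)
    (fun x => P22.gg (sg x)) (fun x => CosetCertFi22Simple.invol _) hrel (by decide +kernel))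
  have hf : ∀ x < T22.NG, f (P22.gg x) = P22.gg (sg x) := by
    intro x hx
    show f (PresentedGroup.of (P22.gen x)) = _
    rw [show f (PresentedGroup.of (P22.gen x)) = P22.gg (sg (P22.gens.idxOf (P22.gen x))) from
      PresentedGroup.toGroup.of _,
      (by decide +kernel : ∀ x < T22.NG, P22.gens.idxOf (P22.gen x) = x) x hx]
  have hff : f.comp f = MonoidHom.id _ := by
    refine MonoidHom.eq_of_eqOn_dense (closure_gg CosetCertFi22U.good) ?_
    rintro _ ⟨x, hx, rfl⟩
    show f (f (P22.gg x)) = P22.gg x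
    rw [hf x hx, hf _ (sg_lt x hx).1, (sg_lt x hx).2]
  let s0 : MulAut P22.Grp := MonoidHom.toMulEquiv f f hff hff
  let s : MulAut G := MulAut.congr e s0
  have hs : ∀ k, s (e k) = e (f k) := fun k => by simp [s, s0, MulAut.congr]
  -- the action on the points
  have hclo : ∀ (g : P22.Grp) (p : Fin T22.N), f (d p) = d ⟨pi p, (pi_spec p p.2).1⟩ →
      f (d (rho hh g p)) = d ⟨pi (rho hh g p), (pi_spec _ (rho hh g p).2).1⟩ := by
    intro g
    have hg : g ∈ Subgroup.closure {y | ∃ x, x < P22.gens.length ∧ y = P22.gg x} := by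
      rw [closure_gg CosetCertFi22U.good]; exact Subgroup.mem_top g
    induction hg using Subgroup.closure_induction_left with
    | one => intro p hp; simpa using hp
    | mul_left y hy z _ ih =>
      obtain ⟨x, hxl, rfl⟩ := hy
      intro p hp
      have hx9 : x < T22.NG := hxl
      have h1 := ih p hp
      rw [map_mul, Equiv.Perm.mul_apply]
      generalize rho hh z p = q at h1 ⊢
      rw [hd.conj, map_mul, map_mul, map_inv, hf x hx9, h1, ← hd.conj]
      refine congrArg d (Fin.ext ?_)
      rw [img_eq hh (sg_lt x hx9).1]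
      show T22.img (sg x) (pi q) = pi (rho hh (P22.gg x) q : Fin T22.N)
      rw [img_eq hh hx9, (pi_spec q q.2).2.2 x (ng ▸ hx9)]
    | inv_mul_cancel y hy z _ ih =>
      obtain ⟨x, hxl, rfl⟩ := hy
      intro p hp
      rw [inv_of_sq _ CosetCertFi22Simple.invol]
      have hx9 : x < T22.NG := hxl
      have h1 := ih p hp
      rw [map_mul, Equiv.Perm.mul_apply]
      generalize rho hh z p = q at h1 ⊢
      rw [hd.conj, map_mul, map_mul, map_inv, hf x hx9, h1, ← hd.conj]
      refine congrArg d (Fin.ext ?_)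
      rw [img_eq hh (sg_lt x hx9).1]
      show T22.img (sg x) (pi q) = pi (rho hh (P22.gg x) q : Fin T22.N)
      rw [img_eq hh hx9, (pi_spec q q.2).2.2 x (ng ▸ hx9)]
  refine ⟨dN, s, ⟨ht, ?_, fun p hp => ?_, fun y hy => ?_, ?_, ?_, ?_, fun p hp => ?_, ?_, ?_, h22.1, ⟨e, fun x hx => (hgen x hx).symm⟩⟩⟩
  · intro p hp q hq h
    rw [show dN p = e (d ⟨p, hp⟩) from dif_pos hp, show dN q = e (d ⟨q, hq⟩) from dif_pos hq] at h
    exact congrArg Fin.val (hd.inj (e.injective h))
  · rw [show dN p = e (d ⟨p, hp⟩) from dif_pos hp]; exact hmem _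
  · have hN : D.ncard = 3510 := ThreeTransM22Order72.card_D hD hprim h22
    have hr : Set.range (fun p : Fin T22.N => e (d p)) = D := by
      refine Set.eq_of_subset_of_ncard_le (Set.range_subset_iff.mpr hmem) ?_ (Set.toFinite _)
      rw [Set.ncard_range_of_injective (f := fun p : Fin T22.N => e (d p)) (e.injective.comp hd.inj), hN, Nat.card_fin]
      exact le_of_eq (by decide +kernel)
    obtain ⟨p, hp⟩ := hr ▸ hy
    exact ⟨p, p.2, (hdN p).trans hp⟩
  · intro x hx q hq
    rw [hgen x hx, show dN q = e (d ⟨q, hq⟩) from dif_pos hq, ← map_mul, ← map_mul,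
      show dN (T22.img x q) = e (d ⟨T22.img x q, img_lt hx hq⟩) from dif_pos _]
    refine congrArg e ?_
    rw [show (⟨T22.img x q, img_lt hx hq⟩ : Fin T22.N) = rho hh (P22.gg x) ⟨q, hq⟩ from
      Fin.ext (img_eq hh (ng ▸ hx) ⟨q, hq⟩).symm, hd.conj, inv_of_sq _ CosetCertFi22Simple.invol]
  · intro x
    show dN (ThreeTransFi22Out41.e x) * dN (ThreeTransFi22Out41.e x) = 1
    by_cases h : ThreeTransFi22Out41.e x < T22.N
    · rw [show dN _ = e (d ⟨_, h⟩) from dif_pos h]; exact ht.sq _ (hmem _)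
    · rw [show dN _ = 1 from dif_neg h, one_mul]
  · rw [eq_top_iff, ← (MonoidHom.range_eq_top.mpr e.surjective : e.toMonoidHom.range = ⊤),
      MonoidHom.range_eq_map, ← closure_gg CosetCertFi22U.good, MonoidHom.map_closure]
    refine Subgroup.closure_mono ?_
    rintro _ ⟨_, ⟨x, hx, rfl⟩, rfl⟩
    exact ⟨x, hx, hgen x hx⟩
  · rw [show dN p = e (d ⟨p, hp⟩) from dif_pos hp, hs,
      show dN (pi p) = e (d ⟨pi p, (pi_spec p hp).1⟩) from dif_pos _]
    refine congrArg e ?_
    obtain ⟨m, hm⟩ := exists_move hh (E 0) ⟨p, hp⟩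
    have key := hclo m (E 0) ?_
    · simp only [hm] at key
      exact key
    · have hr0 : pi (E 0 : Nat) = (E (sg 0) : Nat) := by
        rw [E_val 0 (by decide +kernel), E_val _ (by decide +kernel)]; exact pi_root
      rw [hgg 0 (by decide +kernel), hf 0 (by decide +kernel), ← hgg (sg 0) (by decide +kernel)]
      exact congrArg d (Fin.ext hr0.symm)
  · refine MulEquiv.ext fun y => ?_
    obtain ⟨k, rfl⟩ := e.surjective y
    rw [MulAut.mul_apply, hs, hs]
    exact congrArg e (DFunLike.congr_fun hff k)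
  · rintro ⟨g, hg⟩
    obtain ⟨k, rfl⟩ := e.surjective g
    refine no_swap hd k fun x hx => hd.inj ?_
    rw [hd.conj, hgg x hx, hgg _ (sg_lt x hx).1, ← hf x hx]
    refine e.injective ?_
    rw [← hs, ← hg]
    simp

end Cfsg.Agent.ThreeTransM22Tab48
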