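import Cfsg.Agent.Lib.LargeExtraspecialTransfer62

/-!
# Two general tools

An extraspecial group of order `2^(2k+1)` whose central involution inverts a non-trivial odd subgroup `R`
it normalises forces `3^(2^k) ≤ |R|`; and the automorphism group of the automorphism group of a non-abelian
simple group consists of inner automorphisms.
-/

set_option autoImplicit false
set_option linter.style.haveILetI false

namespace Cfsg.Agent.ThreeTransM22TwoAutTools48

open Subgroup Cfsg.Agent.LargeExtraspecial Cfsg.Agent.LargeExtraspecialTransfer62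

variable {G : Type*} [Group G] [Finite G] {z : G}

/-- An extraspecial subgroup of order at least 32 has a non-central involution. -/
theorem exists_involution {M : Subgroup G} (h : Ext M z) (hM : 32 ≤ Nat.card M) :
    ∃ x ∈ M, x * x = 1 ∧ x ≠ 1 ∧ x ≠ z := by
  obtain ⟨u, hu, hu1, huz⟩ : ∃ u ∈ M, u ≠ 1 ∧ u ≠ z := by
    by_contra hc
    push Not at hc
    have hsub : (M : Set G) ⊆ {1, z} := fun y hy => by
      rcases eq_or_ne y 1 with h1 | h1
      · exact Or.inl h1
      · exact Or.inr (hc y hy h1)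
    have h1 := (Set.ncard_le_ncard hsub (Set.toFinite _)).trans (Set.ncard_insert_le _ _)
    rw [Set.ncard_singleton] at h1
    rw [← SetLike.coe_sort_coe, Nat.card_coe_set_eq] at hM
    omega
  rcases h.sq u hu with e | e
  · exact ⟨u, hu, e, hu1, huz⟩
  obtain ⟨a, ha, b, hb, hau, hbu, hab⟩ := exists_noncomm h hu hu1 huz hM
  have hne : a * b ≠ b * a := fun e => h.z_mul_ne b (by rw [← hab, e, mul_inv_cancel_right])
  rcases h.sq a ha with e1 | e1
  · refine ⟨a, ha, e1, fun e' => hne (by simp [e']), fun e' => hne ?_⟩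
    rw [e']; exact (h.comm b hb).symm
  refine ⟨u * a, M.mul_mem hu ha, ?_, fun e' => hne ?_, fun e' => hne ?_⟩
  · rw [mul_assoc, ← mul_assoc a, hau, mul_assoc u a a, e1, ← mul_assoc, e, h.zz]
  · rw [eq_inv_of_mul_eq_one_right e']
    exact (Commute.inv_left (show Commute u b from hbu.symm)).eq
  · rw [eq_inv_mul_of_mul_eq e']
    exact ((Commute.inv_left (show Commute u b from hbu.symm)).mul_left
      (show Commute z b from (h.comm b hb).symm)).eq

/-- The centraliser of an involution of `M` and a partner of it. -/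
theorem ext_pair {M : Subgroup G} (h : Ext M z) {x y : G} (hx : x ∈ M) (hy : y ∈ M)
    (hxy : y * x * y⁻¹ = z * x) :
    Ext (M ⊓ centralizer {x, y}) z ∧ Nat.card M ≤ 4 * Nat.card ↥(M ⊓ centralizer {x, y}) := by
  classical
  have hxy' : x * y * x⁻¹ = z * y := by
    rcases h.conj x hx y hy with e | e
    · exfalso
      have : y * x * y⁻¹ = x := mul_inv_eq_iff_eq_mul.mpr (mul_inv_eq_iff_eq_mul.mp e).symm
      exact h.z_mul_ne x (hxy.symm.trans this)
    · exact e
  have hmem : ∀ {g : G}, g ∈ M ⊓ centralizer {x, y} ↔ g ∈ M ∧ g * x = x * g ∧ g * y = y * g := by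
    intro g
    refine ⟨fun hg => ⟨hg.1, (mem_centralizer_iff.mp hg.2 x (by simp)).symm,
      (mem_centralizer_iff.mp hg.2 y (by simp)).symm⟩, fun hg => ⟨hg.1, mem_centralizer_iff.mpr ?_⟩⟩
    rintro c (rfl | rfl)
    · exact hg.2.1.symm
    · exact hg.2.2.symm
  -- adjusting an element by the pair
  have hadj : ∀ q ∈ M, ∃ c ∈ ({1, x, y, y * x} : Set G), q * c ∈ M ⊓ centralizer {x, y} := by
    intro q hq
    obtain ⟨c₁, hc₁, hc₁M, h1⟩ : ∃ c₁, (c₁ = 1 ∨ c₁ = y) ∧ c₁ ∈ M ∧ q * c₁ * x = x * (q * c₁) := by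
      by_cases hqx : q * x = x * q
      · exact ⟨1, Or.inl rfl, one_mem _, by simpa using hqx⟩
      · refine ⟨y, Or.inr rfl, hy, ?_⟩
        refine mul_inv_eq_iff_eq_mul.mp ?_
        calc q * y * x * (q * y)⁻¹ = q * (y * x * y⁻¹) * q⁻¹ := by group
          _ = q * (z * x) * q⁻¹ := by rw [hxy]
          _ = z * (q * x * q⁻¹) := by rw [← mul_assoc q, h.comm q hq]; group
          _ = x := by rw [(h.not_comm_iff hx hq).mp hqx, h.z_mul_z_mul]
    by_cases hqy : q * c₁ * y = y * (q * c₁)
    · refine ⟨c₁, ?_, hmem.mpr ⟨M.mul_mem hq hc₁M, h1, hqy⟩⟩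
      rcases hc₁ with rfl | rfl <;> simp
    · refine ⟨c₁ * x, ?_, hmem.mpr ⟨M.mul_mem hq (M.mul_mem hc₁M hx), ?_, ?_⟩⟩
      · rcases hc₁ with rfl | rfl <;> simp
      · rw [← mul_assoc, mul_assoc _ x x, ← mul_assoc x, ← h1]; group
      · rw [← mul_assoc]
        have e := (h.not_comm_iff hy (M.mul_mem hq hc₁M)).mp hqy
        refine mul_inv_eq_iff_eq_mul.mp ?_
        calc q * c₁ * x * y * (q * c₁ * x)⁻¹ = q * c₁ * (x * y * x⁻¹) * (q * c₁)⁻¹ := by group
          _ = q * c₁ * (z * y) * (q * c₁)⁻¹ := by rw [hxy']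
          _ = z * (q * c₁ * y * (q * c₁)⁻¹) := by
            rw [← mul_assoc (q * c₁), h.comm _ (M.mul_mem hq hc₁M)]; group
          _ = y := by rw [e, h.z_mul_z_mul]
  refine ⟨⟨hmem.mpr ⟨h.mem, (h.comm x hx).symm, (h.comm y hy).symm⟩, h.ne_one, h.zz,
    fun g hg => h.comm g hg.1, fun g hg => h.sq g hg.1, fun a ha b hb => h.conj a ha.1 b hb.1, ?_⟩, ?_⟩
  · intro w hw hw1 hwz
    obtain ⟨-, hwx, hwy⟩ := hmem.mp hw
    obtain ⟨q, hq, eq⟩ := h.partner w hw.1 hw1 hwz
    obtain ⟨c, hc, hqc⟩ := hadj q hq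
    have hcw : c * w = w * c := by
      rcases hc with rfl | rfl | rfl | rfl
      · simp
      · exact hwx.symm
      · exact hwy.symm
      · exact (Commute.mul_left (show Commute y w from hwy.symm) (show Commute x w from hwx.symm)).eq
    refine ⟨q * c, hqc, ?_⟩
    rw [show q * c * w * (q * c)⁻¹ = q * (c * w * c⁻¹) * q⁻¹ by group,
      mul_inv_eq_iff_eq_mul.mpr hcw]
    exact eq
  · set M' := M ⊓ centralizer {x, y} with hM'
    have hsub : (M : Set G) ⊆ (fun p : G × G => p.1 * p.2⁻¹) '' ((M' : Set G) ×ˢ ({1, x, y, y * x} : Set G)) := by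
      intro q hq
      obtain ⟨c, hc, hqc⟩ := hadj q hq
      exact ⟨(q * c, c), ⟨hqc, hc⟩, by group⟩
    have h4 : ({1, x, y, y * x} : Set G).ncard ≤ 4 := by
      refine (Set.ncard_insert_le _ _).trans ?_
      refine (Nat.add_le_add_right (Set.ncard_insert_le _ _) _).trans ?_
      refine (Nat.add_le_add_right (Nat.add_le_add_right (Set.ncard_insert_le _ _) _) _).trans ?_
      rw [Set.ncard_singleton]
    rw [← SetLike.coe_sort_coe, Nat.card_coe_set_eq, ← SetLike.coe_sort_coe, Nat.card_coe_set_eq]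
    calc (M : Set G).ncard ≤ _ := Set.ncard_le_ncard hsub (Set.toFinite _)
      _ ≤ ((M' : Set G) ×ˢ ({1, x, y, y * x} : Set G)).ncard := Set.ncard_image_le (Set.toFinite _)
      _ ≤ 4 * (M' : Set G).ncard := by
        rw [Set.ncard_prod, mul_comm]; exact Nat.mul_le_mul_right _ h4

/-- An element of odd order which is its own inverse is trivial. -/
theorem odd_self {R : Subgroup G} (hR : Odd (Nat.card R)) {r : G} (hr : r ∈ R) (e : r = r⁻¹) :
    r = 1 :=
  eq_one_of_mem_odd_of_pow_two hR hr (n := 1) (by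
    rw [pow_one, pow_two]; nth_rewrite 2 [e]; exact mul_inv_cancel r)

/-- The bound on an inverted odd subgroup. -/
theorem bound : ∀ (k : ℕ), 1 ≤ k → ∀ {M R : Subgroup G}, Ext M z → 2 ^ (2 * k + 1) ≤ Nat.card M →
    R ≠ ⊥ → Odd (Nat.card R) → (∀ g ∈ M, ∀ r ∈ R, g * r * g⁻¹ ∈ R) →
    (∀ r ∈ R, z * r * z⁻¹ = r⁻¹) → 3 ^ 2 ^ k ≤ Nat.card R := by
  classical
  intro k
  induction k with
  | zero => intro h; omega
  | succ k ih =>
    intro _ M R h hM hR hodd hnorm hinv
    rcases Nat.eq_zero_or_pos k with rfl | hk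
    · -- a group of order eight acts on at least nine elements
      by_contra hlt
      push Not at hlt
      norm_num at hlt hM
      obtain ⟨⟨r, hr⟩, hne⟩ := (Subgroup.ne_bot_iff_exists_ne_one.mp hR : ∃ r : ↥R, r ≠ 1)
      have hr1 : r ≠ 1 := fun e => hne (Subtype.ext e)
      obtain ⟨u, hu, hu1, huz⟩ : ∃ u ∈ M, u ≠ 1 ∧ u ≠ z := by
        by_contra hc
        push Not at hc
        have hsub : (M : Set G) ⊆ {1, z} := fun y hy => by
          rcases eq_or_ne y 1 with h1 | h1
          · exact Or.inl h1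
          · exact Or.inr (hc y hy h1)
        have h1 := (Set.ncard_le_ncard hsub (Set.toFinite _)).trans (Set.ncard_insert_le _ _)
        rw [Set.ncard_singleton] at h1
        rw [← SetLike.coe_sort_coe, Nat.card_coe_set_eq] at hM
        omega
      obtain ⟨a, ha, e⟩ := h.partner u hu hu1 huz
      haveI : Nontrivial ↥R := ⟨⟨⟨r, hr⟩, 1, fun e => hr1 (congrArg Subtype.val e)⟩⟩
      have h2 : 1 < Nat.card ↥R := Finite.one_lt_card
      have hcyc : IsCyclic ↥R := by
        have h3 : Nat.card ↥R = 3 ∨ Nat.card ↥R = 5 ∨ Nat.card ↥R = 7 := by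
          obtain ⟨m, hm⟩ := hodd; omega
        rcases h3 with e | e | e
        · exact isCyclic_of_prime_card (hp := ⟨Nat.prime_three⟩) e
        · exact isCyclic_of_prime_card (hp := ⟨by norm_num⟩) e
        · exact isCyclic_of_prime_card (hp := ⟨by norm_num⟩) e
      obtain ⟨s, hs⟩ := IsCyclic.exists_generator (α := ↥R)
      have hact : ∀ g ∈ M, ∃ i : ℤ, ∀ t ∈ R, g * t * g⁻¹ = t ^ i := by
        intro g hg
        obtain ⟨i, hi⟩ := mem_zpowers_iff.mp (hs ⟨_, hnorm g hg _ s.2⟩)
        refine ⟨i, fun t ht => ?_⟩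
        obtain ⟨l, hl⟩ := mem_zpowers_iff.mp (hs ⟨t, ht⟩)
        have e1 : (s : G) ^ i = g * s * g⁻¹ := congrArg Subtype.val hi
        have e2 : (s : G) ^ l = t := congrArg Subtype.val hl
        rw [← e2, ← conj_zpow, ← e1, ← zpow_mul, ← zpow_mul, mul_comm]
      obtain ⟨i, hi⟩ := hact a ha
      obtain ⟨j, hj⟩ := hact u hu
      have key : a * u * r * (a * u)⁻¹ = u * a * r * (u * a)⁻¹ := by
        calc a * u * r * (a * u)⁻¹ = a * (u * r * u⁻¹) * a⁻¹ := by group
          _ = (r ^ i) ^ j := by rw [hj r hr, hi _ (zpow_mem hr j), ← zpow_mul, ← zpow_mul, mul_comm]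
          _ = u * (a * r * a⁻¹) * u⁻¹ := by rw [hi r hr, hj _ (zpow_mem hr i)]
          _ = u * a * r * (u * a)⁻¹ := by group
      rw [show a * u = z * (u * a) by rw [← mul_assoc]; exact mul_inv_eq_iff_eq_mul.mp e] at key
      have hin : u * a * r * (u * a)⁻¹ ∈ R := hnorm _ (M.mul_mem hu ha) r hr
      have : z * (u * a * r * (u * a)⁻¹) * z⁻¹ = u * a * r * (u * a)⁻¹ := by
        conv_rhs => rw [← key]
        group
      have h5 := odd_self hodd hin ((hinv _ hin).symm.trans this).symm
      exact hr1 (by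
        calc r = (u * a)⁻¹ * (u * a * r * (u * a)⁻¹) * (u * a) := by group
          _ = 1 := by rw [h5]; group)
    · have h32 : 32 ≤ Nat.card M := le_trans (by
        calc 32 = 2 ^ 5 := by norm_num
          _ ≤ 2 ^ (2 * (k + 1) + 1) := Nat.pow_le_pow_right (by norm_num) (by omega)) hM
      obtain ⟨x, hx, hxx, hx1, hxz⟩ := exists_involution h h32
      obtain ⟨y, hy, hxy⟩ := h.partner x hx hx1 hxz
      obtain ⟨hE, hcard⟩ := ext_pair h hx hy hxy
      set M' := M ⊓ centralizer {x, y}
      set R' := R ⊓ centralizer ({x} : Set G) with hR'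
      have hfix : ∀ {r : G}, r ∈ R' → x * r * x⁻¹ = r := fun hr =>
        mul_inv_eq_iff_eq_mul.mpr (mem_centralizer_singleton_iff.mp hr.2).symm
      have hne : R' ≠ ⊥ := by
        intro hbot
        apply hR
        rw [eq_bot_iff]
        intro r hr
        -- `x` inverts everything
        have hxinv : ∀ t ∈ R, x * t * x⁻¹ = t⁻¹ := by
          intro t ht
          let φ : R →* R :=
            { toFun := fun a => ⟨x * a * x⁻¹, hnorm x hx a a.2⟩
              map_one' := Subtype.ext (by simp)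
              map_mul' := fun a b => Subtype.ext (by simp [mul_assoc]) }
          have hφ : MonoidHom.FixedPointFree φ := fun a ha => Subtype.ext (by
            have : (a : G) ∈ R' := ⟨a.2, mem_centralizer_singleton_iff.mpr
              (mul_inv_eq_iff_eq_mul.mp (congrArg Subtype.val ha)).symm⟩
            rw [hbot] at this
            exact Subgroup.mem_bot.mp this)
          have h2 : Function.Involutive φ := fun a => Subtype.ext (by
            show x * (x * a * x⁻¹) * x⁻¹ = a
            calc x * (x * a * x⁻¹) * x⁻¹ = (x * x) * a * (x * x)⁻¹ := by group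
              _ = a := by rw [hxx]; group)
          exact congrArg Subtype.val (congrFun (hφ.coe_eq_inv_of_involutive h2) ⟨t, ht⟩)
        have hs : y⁻¹ * r * y ∈ R := by simpa using hnorm y⁻¹ (M.inv_mem hy) r hr
        have e1 : (z * x) * r * (z * x)⁻¹ = r⁻¹ := by
          rw [← hxy]
          calc y * x * y⁻¹ * r * (y * x * y⁻¹)⁻¹ = y * (x * (y⁻¹ * r * y) * x⁻¹) * y⁻¹ := by group
            _ = r⁻¹ := by rw [hxinv _ hs]; group
        have e2 : (z * x) * r * (z * x)⁻¹ = r := by
          calc (z * x) * r * (z * x)⁻¹ = z * (x * r * x⁻¹) * z⁻¹ := by group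
            _ = r := by rw [hxinv r hr, hinv _ (R.inv_mem hr), inv_inv]
        exact Subgroup.mem_bot.mpr (odd_self hodd hr (e2.symm.trans e1))
      have hnorm' : ∀ g ∈ M', ∀ r ∈ R', g * r * g⁻¹ ∈ R' := by
        intro g hg r hr
        refine ⟨hnorm g hg.1 r hr.1, mem_centralizer_singleton_iff.mpr ?_⟩
        have hgx : Commute g x := (mem_centralizer_iff.mp hg.2 x (by simp)).symm
        have hrx : Commute r x := mem_centralizer_singleton_iff.mp hr.2
        exact ((hgx.mul_left hrx).mul_left hgx.inv_left).eq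
      have hsmall := ih hk hE (by
        have : 2 ^ (2 * (k + 1) + 1) = 4 * 2 ^ (2 * k + 1) := by ring
        omega) hne (hodd.of_dvd_nat (card_dvd_of_le inf_le_left)) hnorm' fun r hr => hinv r hr.1
      -- two independent copies
      let f : R' × R' → R := fun p => ⟨(p.1 : G) * (y * p.2 * y⁻¹),
        R.mul_mem p.1.2.1 (hnorm y hy _ p.2.2.1)⟩
      have hf : Function.Injective f := by
        rintro ⟨a, b⟩ ⟨a', b'⟩ e
        have e' : (a : G) * (y * b * y⁻¹) = a' * (y * b' * y⁻¹) := congrArg Subtype.val e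
        set w := (a' : G)⁻¹ * a with hw
        have hw2 : w = y * (b' * (b : G)⁻¹) * y⁻¹ := by
          calc w = (a' : G)⁻¹ * (a * (y * b * y⁻¹)) * (y * b * y⁻¹)⁻¹ := by rw [hw]; group
            _ = y * (b' * (b : G)⁻¹) * y⁻¹ := by rw [e']; group
        have hwR : w ∈ R' := R'.mul_mem (R'.inv_mem a'.2) a.2
        have hwx := hfix hwR
        have hwzx : (z * x) * w * (z * x)⁻¹ = w := by
          rw [← hxy, hw2]
          calc y * x * y⁻¹ * (y * (b' * (b : G)⁻¹) * y⁻¹) * (y * x * y⁻¹)⁻¹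
              = y * (x * (b' * (b : G)⁻¹) * x⁻¹) * y⁻¹ := by group
            _ = y * (b' * (b : G)⁻¹) * y⁻¹ := by rw [hfix (R'.mul_mem b'.2 (R'.inv_mem b.2))]
        have hwz : z * w * z⁻¹ = w := by
          calc z * w * z⁻¹ = z * (x * w * x⁻¹) * z⁻¹ := by rw [hwx]
            _ = (z * x) * w * (z * x)⁻¹ := by group
            _ = w := hwzx
        have hw1 := odd_self hodd hwR.1 (hwz.symm.trans (hinv w hwR.1))
        have ea : (a : G) = a' := (inv_mul_eq_one.mp hw1).symm
        have eb : (b : G) = b' := by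
          rw [ea] at e'
          exact mul_left_cancel (mul_right_cancel (mul_left_cancel e'))
        exact Prod.ext (Subtype.ext ea) (Subtype.ext eb)
      have h2 := Nat.card_le_card_of_injective f hf
      rw [Nat.card_prod] at h2
      calc 3 ^ 2 ^ (k + 1) = 3 ^ 2 ^ k * 3 ^ 2 ^ k := by rw [← pow_add]; congr 1; ring
        _ ≤ Nat.card R' * Nat.card R' := Nat.mul_le_mul hsmall hsmall
        _ ≤ _ := h2

/-- An extraspecial subgroup too big to act faithfully on an odd subgroup is large. -/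
theorem isLarge_of_bound {Q : Subgroup G} (h : LHyp Q z) {k : ℕ} (hk : 1 ≤ k)
    (hQ : 2 ^ (2 * k + 1) ≤ Nat.card Q) (hG : Nat.card G < 3 ^ 2 ^ k) :
    Cfsg.IsLargeExtraspecial Q := by
  refine h.isLarge_of fun K hK hQK c hc => ?_
  by_cases hbot : K = ⊥
  · rw [hbot] at hc
    simp [Subgroup.mem_bot.mp hc]
  exfalso
  have hinv : ∀ r ∈ K, z * r * z⁻¹ = r⁻¹ := by
    intro t ht
    let φ : K →* K :=
      { toFun := fun a => ⟨z * a * z⁻¹, hQK z h.mem a a.2⟩
        map_one' := Subtype.ext (by simp)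
        map_mul' := fun a b => Subtype.ext (by simp [mul_assoc]) }
    have hφ : MonoidHom.FixedPointFree φ := fun a ha => Subtype.ext
      (h.odd_centralized hK hQK a.2 (mul_inv_eq_iff_eq_mul.mp (congrArg Subtype.val ha)).symm)
    have h2 : Function.Involutive φ := fun a => Subtype.ext (by
      show z * (z * a * z⁻¹) * z⁻¹ = a
      calc z * (z * a * z⁻¹) * z⁻¹ = (z * z) * a * (z * z)⁻¹ := by group
        _ = a := by rw [h.zz]; group)
    exact congrArg Subtype.val (congrFun (hφ.coe_eq_inv_of_involutive h2) ⟨t, ht⟩)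
  have h1 := bound k hk h.toExt hQ hbot hK hQK hinv
  have h2 := Subgroup.card_le_card_group K
  omega

/-- Automorphisms of the automorphism group of a non-abelian simple group are inner. -/
theorem mulAut_mulAut {S : Type*} [Group S] [Finite S] [IsSimpleGroup S]
    (hZ : Subgroup.center S = ⊥) :
    Function.Bijective (MulAut.conj : MulAut S →* MulAut (MulAut S)) := by
  set I := (MulAut.conj : S →* MulAut S).range with hI
  haveI hIn : I.Normal := ⟨fun n hn g => by
    obtain ⟨s, rfl⟩ := hn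
    exact ⟨g s, MulEquiv.ext fun x => by simp [MulAut.mul_apply]⟩⟩
  have hinj : Function.Injective (MulAut.conj : S →* MulAut S) := by
    rw [injective_iff_map_eq_one]
    intro s hs
    have : s ∈ Subgroup.center S := mem_center_iff.mpr fun t => by
      have := DFunLike.congr_fun hs t
      simpa using (mul_inv_eq_iff_eq_mul.mp this).symm
    rwa [hZ, Subgroup.mem_bot] at this
  have heq : ∀ a b : MulAut S, (∀ s, a * MulAut.conj s * a⁻¹ = b * MulAut.conj s * b⁻¹) → a = b := by
    intro a b h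
    refine MulEquiv.ext fun s => hinj ?_
    have e : ∀ g : MulAut S, g * MulAut.conj s * g⁻¹ = MulAut.conj (g s) := fun g =>
      MulEquiv.ext fun x => by simp [MulAut.mul_apply]
    rw [← e a, ← e b, h]
  refine ⟨?_, fun ψ => ?_⟩
  · rw [injective_iff_map_eq_one]
    intro a ha
    refine heq a 1 fun s => ?_
    have := DFunLike.congr_fun ha (MulAut.conj s)
    simpa using this
  set J := I.map ψ.toMonoidHom with hJ
  haveI : J.Normal := Subgroup.Normal.map hIn _ ψ.surjective
  have hIJ : J = I := by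
    have hle : I ≤ J := by
      rcases (Subgroup.Normal.comap (inferInstance : J.Normal) (MulAut.conj : S →* MulAut S)).eq_bot_or_eq_top
        with h | h
      · exfalso
        -- two normal subgroups meeting trivially commute
        have hJ1 : ∀ b ∈ J, b = 1 := fun b hb => heq b 1 fun s => by
          have hm : b * MulAut.conj s * b⁻¹ * (MulAut.conj s)⁻¹ ∈ J ⊓ I := by
            have hs' : MulAut.conj s ∈ I := ⟨s, rfl⟩
            refine Subgroup.mem_inf.mpr ⟨?_, mul_mem (hIn.conj_mem _ hs' _) (inv_mem hs')⟩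
            rw [show b * MulAut.conj s * b⁻¹ * (MulAut.conj s)⁻¹
              = b * (MulAut.conj s * b⁻¹ * (MulAut.conj s)⁻¹) by group]
            exact mul_mem hb ((inferInstance : J.Normal).conj_mem _ (inv_mem hb) _)
          obtain ⟨t, ht⟩ := hm.2
          have ht' : t ∈ J.comap (MulAut.conj : S →* MulAut S) := by
            rw [mem_comap, ht]; exact hm.1
          rw [h, Subgroup.mem_bot] at ht'
          rw [ht', map_one] at ht
          rw [one_mul, inv_one, mul_one]
          exact mul_inv_eq_one.mp ht.symm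
        obtain ⟨s, hs⟩ : ∃ s : S, s ≠ 1 := exists_ne 1
        exact hs (hinj (ψ.injective (by
          rw [map_one, map_one]; exact hJ1 _ ⟨_, ⟨s, rfl⟩, rfl⟩)))
      · rintro _ ⟨t, rfl⟩
        exact mem_comap.mp (h ▸ mem_top t)
    exact (Subgroup.eq_of_le_of_card_ge hle
      (Nat.card_congr (I.equivMapOfInjective _ ψ.injective).toEquiv).ge).symm
  have hval : ∀ s, ∃ t, MulAut.conj t = ψ (MulAut.conj s) := fun s => by
    have : ψ (MulAut.conj s) ∈ I := hIJ ▸ ⟨_, ⟨s, rfl⟩, rfl⟩
    exact this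
  choose σ hσ using hval
  have hσm : ∀ a b, σ (a * b) = σ a * σ b := fun a b => hinj (by rw [hσ, map_mul, map_mul, map_mul, hσ, hσ])
  have hσi : Function.Injective σ := fun a b e => hinj (ψ.injective (by rw [← hσ, ← hσ, e]))
  let τ : MulAut S := MulEquiv.ofBijective (MonoidHom.mk' σ hσm)
    ((Nat.bijective_iff_injective_and_card _).2 ⟨hσi, rfl⟩)
  refine ⟨τ, MulEquiv.ext fun a => heq _ _ fun s => ?_⟩
  obtain ⟨s, rfl⟩ := τ.surjective s
  have e : ∀ (g : MulAut S) (x : S), g * MulAut.conj x * g⁻¹ = MulAut.conj (g x) := fun g x =>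
    MulEquiv.ext fun y => by simp [MulAut.mul_apply]
  rw [e, show MulAut.conj (τ s) = ψ (MulAut.conj s) from hσ s, ← map_inv, ← map_mul, ← map_mul, e,
    ← hσ (a s)]
  congr 1
  show τ (a (τ⁻¹ (τ s))) = σ (a s)
  rw [MulAut.inv_apply, MulEquiv.symm_apply_apply]
  rfl

end Cfsg.Agent.ThreeTransM22TwoAutTools48
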