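import Cfsg.Agent.Lib.ThreeTransM22TwoAutCore48
import Cfsg.Agent.Lib.ThreeTransM22TwoAutTools48

/-!
# Type M(22): the centralizer of an involution in the automorphism group

With an outer automorphism, the centralizer of the inner automorphism of a product of two commuting
members has a large extraspecial subgroup of order `2^11` with quotient `Aut PSU₄(2)`.
-/

set_option autoImplicit false
set_option linter.unusedSectionVars false
set_option linter.style.haveILetI false
set_option maxHeartbeats 1600000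

namespace Cfsg.Agent.ThreeTransM22TwoAut48

open Subgroup
open Cfsg.Agent.ThreeTransRel Cfsg.Agent.ThreeTransDescent
open Cfsg.Agent.UnitaryF4Geo
open Cfsg.Agent.ThreeTransM22Lift72
open Cfsg.Agent.ThreeTransM22TwoCent48 Cfsg.Agent.ThreeTransM22TwoBlock48
open Cfsg.Agent.ThreeTransM22TwoOuter48 Cfsg.Agent.ThreeTransM22TwoMain48
open Cfsg.Agent.ThreeTransM22TwoAutTools48 Cfsg.Agent.ThreeTransM22TwoAutCore48

/-- Bijectivity of the inner map passes along an isomorphism. -/
theorem conj_bijective_congr {H K : Type*} [Group H] [Group K] (e : H ≃* K)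
    (h : Function.Bijective (MulAut.conj : K →* MulAut K)) :
    Function.Bijective (MulAut.conj : H →* MulAut H) := by
  have he : (MulAut.conj : H → MulAut H) = (MulAut.congr e).symm ∘ MulAut.conj ∘ e :=
    funext fun x => (MulAut.congr e).eq_symm_apply.mpr (MulEquiv.ext fun y => by simp [MulAut.congr])
  rw [he]
  exact (MulAut.congr e).symm.bijective.comp (h.comp e.bijective)

/-- The group generated by two commuting involutions. -/
theorem four_closure {H : Type*} [Group H] {a b : H} (ha : a * a = 1) (hb : b * b = 1)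
    (hab : b * a = a * b) : ∀ x ∈ closure ({a, b} : Set H), x = 1 ∨ x = a ∨ x = b ∨ x = a * b := by
  have e1 : a * (a * b) = b := by rw [← mul_assoc, ha, one_mul]
  have e2 : b * (a * b) = a := by rw [← hab, ← mul_assoc, hb, one_mul]
  have e3 : a * b * a = b := by rw [mul_assoc, hab, ← mul_assoc, ha, one_mul]
  have e4 : a * b * b = a := by rw [mul_assoc, hb, mul_one]
  have e5 : a * b * (a * b) = 1 := by rw [mul_assoc, e2, ha]
  intro x hx
  induction hx using Subgroup.closure_induction with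
  | mem x hx => rcases hx with e | e <;> simp [show x = _ from e]
  | one => simp
  | mul x y _ _ hx hy =>
    rcases hx with e | e | e | e <;> rcases hy with e' | e' | e' | e' <;> rw [e, e'] <;>
      simp [ha, hb, hab, e1, e2, e3, e4, e5]
  | inv x _ hx =>
    rcases hx with e | e | e | e <;> rw [e] <;>
      simp [inv_eq_of_mul_eq_one_right ha, inv_eq_of_mul_eq_one_right hb, hab, -mul_inv_rev,
        inv_eq_of_mul_eq_one_right e5]

variable {G : Type*} [Group G] [Finite G] {D : Set G}
variable {F : Type} [Field F] [Fintype F] [hF : FourField F]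
variable {d : G} {φ : ↥(loc D d) →* Cfsg.PSU 6 F 2}

/-- What is proved about the centralizer in the automorphism group. -/
def Result (d₁ d₂ : G) : Prop :=
  ∃ Q : Subgroup (MulAut G),
    Q = (Cfsg.generalizedFittingSubgroup ↥(centralizer ({MulAut.conj (d₁ * d₂)} : Set (MulAut G)))).map
      (centralizer ({MulAut.conj (d₁ * d₂)} : Set (MulAut G))).subtype ∧
    Cfsg.IsLargeExtraspecial Q ∧ Nat.card Q = 2 ^ 11 ∧
    Q ≤ centralizer ({MulAut.conj (d₁ * d₂)} : Set (MulAut G)) ∧
    ∃ (_ : (Q.subgroupOf (centralizer ({MulAut.conj (d₁ * d₂)} : Set (MulAut G)))).Normal)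
      (F : Type) (_ : Field F) (_ : Fintype F), Fintype.card F = 4 ∧
      Nonempty (↥(centralizer ({MulAut.conj (d₁ * d₂)} : Set (MulAut G))) ⧸
        Q.subgroupOf (centralizer ({MulAut.conj (d₁ * d₂)} : Set (MulAut G))) ≃*
          MulAut (Cfsg.PSU 4 F 2))

section

variable (hD : Cfsg.IsThreeTranspositionGroup D) (hprim : Cfsg.IsPrimitiveUnderConj D)
    (h22 : Cfsg.IsOfTypeM22 G D)
variable (X : Ctx D d φ) (H : Env D F)
include hD hprim h22 X H

theorem result_at (hout : ∃ α : MulAut G, α ∉ (MulAut.conj : G →* MulAut G).range) :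
    Result d (second X) := by
  classical
  haveI : Fact (Nat.Prime 2) := ⟨Nat.prime_two⟩
  haveI : Finite (MulAut G) := Finite.of_injective _ DFunLike.coe_injective
  set hc := hcd X H
  have ht := tsys_of_group hD
  have hsm := second_mem X
  have hAD : ∀ (β : MulAut G), ∀ y ∈ D, β y ∈ D := fun β y hy => aut_mem hD hprim h22 β hy
  have S := main_at X H
  set s := second X with hsdef
  set N := core X hc with hN
  set z := d * s with hzdef
  set C := centralizer ({z} : Set G) with hC
  obtain ⟨hn, F₀, _, _, hF₀, ⟨e⟩⟩ := S.quot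
  haveI := hn
  set Nc := N.subgroupOf C with hNc
  have hNle : N ≤ C := S.le_joint.trans S.joint_le
  -- the simple group
  haveI : UnitaryF4Geo.FourField F₀ := ⟨hF₀⟩
  haveI hsimp := OrthUnitaryPSU.isSimpleGroup_PSU (n := 4) (F := F₀) (q := 2) UnitaryF4Line.hF4
    (by norm_num) (by norm_num)
  haveI : Finite (MulAut (Cfsg.PSU 4 F₀ 2)) := Finite.of_injective _ DFunLike.coe_injective
  have hb := conj_bijective_congr e (mulAut_mulAut ThreeTransM22TwoCent48.psu_center)
  have hmk : ∀ a b : ↥C, (QuotientGroup.mk a : ↥C ⧸ Nc) = QuotientGroup.mk b →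
      (b : G) * (a : G)⁻¹ ∈ N := fun a b h => by
    have h1 := mem_subgroupOf.mp (QuotientGroup.eq.mp h)
    have h2 := S.conj a a.2 _ h1
    simpa [mul_assoc] using h2
  have hcen : ∀ k ∈ C, (∀ x ∈ C, k * x * k⁻¹ * x⁻¹ ∈ N) → k ∈ N := by
    intro k hk hall
    have h1 : MulAut.conj (QuotientGroup.mk ⟨k, hk⟩ : ↥C ⧸ Nc) = 1 := MulEquiv.ext fun q => by
      obtain ⟨x, rfl⟩ := QuotientGroup.mk_surjective q
      rw [MulAut.conj_apply, MulAut.one_apply, ← QuotientGroup.mk_inv, ← QuotientGroup.mk_mul,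
        ← QuotientGroup.mk_mul, ← mul_inv_eq_one, ← QuotientGroup.mk_inv, ← QuotientGroup.mk_mul,
        QuotientGroup.eq_one_iff]
      exact mem_subgroupOf.mpr (hall x x.2)
    exact mem_subgroupOf.mp ((QuotientGroup.eq_one_iff _).mp (hb.1 (h1.trans (map_one _).symm)))
  have hfinj : Function.Injective (MulAut.conj : G →* MulAut G) := by
    rw [injective_iff_map_eq_one]
    intro g hg
    have : g ∈ Subgroup.center G := mem_center_iff.mpr fun x => by
      have := DFunLike.congr_fun hg x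
      simpa using (mul_inv_eq_iff_eq_mul.mp this).symm
    rwa [h22.1, Subgroup.mem_bot] at this
  set f : G →* MulAut G := MulAut.conj with hf
  have hconjβ : ∀ (β : MulAut G) (x : G), β * f x * β⁻¹ = f (β x) := fun β x =>
    MulEquiv.ext fun y => by simp [f, MulAut.mul_apply]
  set j := f z with hj
  set A := centralizer ({j} : Set (MulAut G)) with hA
  have hmemA : ∀ β, β ∈ A ↔ β z = z := fun β => by
    rw [hA, mem_centralizer_singleton_iff]
    constructor
    · intro h
      refine hfinj ?_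
      rw [← hconjβ, h, mul_inv_cancel_right]
    · intro h
      have := hconjβ β z
      rw [h] at this
      exact mul_inv_eq_iff_eq_mul.mp this
  -- the outer element fixing the product
  obtain ⟨α₀, hα₀⟩ := hout
  obtain ⟨α, hαz, hα⟩ : ∃ α : MulAut G, α z = z ∧ α ∉ f.range := by
    have hne : α₀ d ≠ α₀ s := fun e => hsm.2.1 (α₀.injective e).symm
    have h1 : CList D [α₀ d, α₀ s] := ⟨by simp [hAD α₀ d X.mem, hAD α₀ s hsm.1], by simp [hne], by
      have := hsm.2.2.map α₀.toMonoidHom
      simp only [MulEquiv.coe_toMonoidHom] at this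
      simp [this, this.symm]⟩
    have h2 : CList D [d, s] := ⟨by simp [X.mem, hsm.1], by simp [hsm.2.1.symm], by
      simp [hsm.2.2, hsm.2.2.symm]⟩
    obtain ⟨g, hg⟩ := isConj_iff.mp (ThreeTransM22Classes72.isConj_products hD hprim h22 h1 h2 rfl
      (by simp) (by simp))
    simp only [List.prod_cons, List.prod_nil, mul_one] at hg
    refine ⟨f g * α₀, ?_, fun hr => hα₀ ((f.range.mul_mem_cancel_left ⟨g, rfl⟩).mp hr)⟩
    show g * α₀ (d * s) * g⁻¹ = d * s
    rw [map_mul]; exact hg
  -- the action on the quotient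
  have hr : ∀ β : ↥A, C.map (β : MulAut G).toMonoidHom = C := by
    intro β
    refine Subgroup.eq_of_le_of_card_ge ?_
      (Nat.card_congr (C.equivMapOfInjective _ (β : MulAut G).injective).toEquiv).le
    rintro _ ⟨x, hx, rfl⟩
    show (β : MulAut G) x ∈ C
    rw [SetLike.mem_coe, hC, mem_centralizer_singleton_iff] at hx
    rw [hC, mem_centralizer_singleton_iff]
    rw [← (hmemA β).mp β.2, ← map_mul, hx, map_mul]
  let r : ↥A → MulAut ↥C := fun β =>
    ((β : MulAut G).subgroupMap C).trans (MulEquiv.subgroupCongr (hr β))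
  have hrval : ∀ (β : ↥A) (x : ↥C), ((r β x : ↥C) : G) = (β : MulAut G) x := fun β x => rfl
  have hrN : ∀ β : ↥A, Nc.map (r β).toMonoidHom = Nc := by
    intro β
    set M := Nc.map (r β).toMonoidHom
    haveI : M.Normal := Subgroup.Normal.map hn _ (r β).surjective
    have hp : IsPGroup 2 Nc := IsPGroup.of_card (n := 10) (by
      rw [hNc, Nat.card_congr (subgroupOfEquivOfLe hNle).toEquiv, S.card])
    set g : ↥C →* MulAut (Cfsg.PSU 4 F₀ 2) := e.toMonoidHom.comp (QuotientGroup.mk' Nc) with hg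
    haveI : (M.map g).Normal := Subgroup.Normal.map inferInstance g
      (e.surjective.comp (QuotientGroup.mk'_surjective _))
    have h1 := ThreeTransM22TwoFstar48.two_bot hF₀ (M.map g) ((hp.map _).map g)
    rw [Subgroup.map_eq_bot_iff] at h1
    refine Subgroup.eq_of_le_of_card_ge (h1.trans fun x hx => ?_)
      (Nat.card_congr (Nc.equivMapOfInjective _ (r β).injective).toEquiv).le
    rw [MonoidHom.mem_ker, hg, MonoidHom.comp_apply] at hx
    exact (QuotientGroup.eq_one_iff x).mp (e.injective (by rw [map_one]; exact hx))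
  let θ : ↥A →* MulAut (↥C ⧸ Nc) :=
    MonoidHom.mk' (fun β => QuotientGroup.congr Nc Nc (r β) (hrN β)) fun a b => MulEquiv.ext fun q => by
      obtain ⟨x, rfl⟩ := QuotientGroup.mk_surjective q
      simp only [MulAut.mul_apply, QuotientGroup.congr_mk]
      exact congrArg _ (Subtype.ext rfl)
  have hθ : ∀ (β : ↥A) (x : ↥C), θ β (QuotientGroup.mk x) = QuotientGroup.mk (r β x) := fun β x =>
    QuotientGroup.congr_mk Nc Nc (r β) (hrN β) x
  -- inner elements
  have hfA : ∀ x, x ∈ C → f x ∈ A := fun x hx => by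
    rw [hmemA]
    exact mul_inv_eq_iff_eq_mul.mpr (mem_centralizer_singleton_iff.mp hx)
  have hCA : ∀ x, f x ∈ A → x ∈ C := fun x hx =>
    mem_centralizer_singleton_iff.mpr (mul_inv_eq_iff_eq_mul.mp ((hmemA _).mp hx))
  have hθf : ∀ (x : G) (hx : x ∈ C), θ ⟨f x, hfA x hx⟩ = MulAut.conj (QuotientGroup.mk ⟨x, hx⟩) := by
    intro x hx
    refine MulEquiv.ext fun q => ?_
    obtain ⟨y, rfl⟩ := QuotientGroup.mk_surjective q
    rw [hθ, MulAut.conj_apply, ← QuotientGroup.mk_inv, ← QuotientGroup.mk_mul, ← QuotientGroup.mk_mul]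
    exact congrArg _ (Subtype.ext (by simp [hrval, f]))
  have hθs : Function.Surjective θ := fun ψ => by
    obtain ⟨q, rfl⟩ := hb.2 ψ
    obtain ⟨x, rfl⟩ := QuotientGroup.mk_surjective q
    exact ⟨_, hθf x x.2⟩
  set Qc := θ.ker with hQc
  have hQA : (↥A ⧸ Qc) ≃* (↥C ⧸ Nc) :=
    (QuotientGroup.quotientKerEquivOfSurjective θ hθs).trans (MulEquiv.ofBijective _ hb).symm
  -- the orders
  have hcardA : Nat.card ↥A = 2 * Nat.card ↥C := by
    set I := (C.map f).subgroupOf A with hI
    have hIle : C.map f ≤ A := by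
      rintro _ ⟨x, hx, rfl⟩; exact hfA x hx
    have hidx : I.index = 2 := by
      refine Subgroup.index_eq_two_iff.mpr ⟨⟨α, (hmemA α).mpr hαz⟩, fun b => ?_⟩
      have hin : ∀ b : ↥A, b ∈ I ↔ (b : MulAut G) ∈ f.range := fun b => by
        rw [hI, mem_subgroupOf]
        exact ⟨fun ⟨x, _, hx⟩ => ⟨x, hx⟩, fun ⟨x, hx⟩ => ⟨x, hCA x (hx ▸ b.2), hx⟩⟩
      rw [hin, hin]
      by_cases hb' : (b : MulAut G) ∈ f.range
      · exact Or.inr ⟨hb', fun h => hα ((f.range.mul_mem_cancel_left hb').mp h)⟩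
      · exact Or.inl ⟨index_two hD hprim h22 hα hb', hb'⟩
    rw [← I.index_mul_card, hidx, hI, Nat.card_congr (subgroupOfEquivOfLe hIle).toEquiv,
      Nat.card_congr (C.equivMapOfInjective f hfinj).toEquiv.symm]
  have hcardQ : Nat.card ↥Qc = 2 ^ 11 := by
    have h1 := Qc.index_mul_card
    have h2 := Nc.index_mul_card
    rw [Subgroup.index, Nat.card_congr hQA.toEquiv, hcardA] at h1
    rw [Subgroup.index, hNc, Nat.card_congr (subgroupOfEquivOfLe hNle).toEquiv, S.card, ← hNc] at h2
    rw [← h2] at h1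
    refine Nat.eq_of_mul_eq_mul_left (Nat.card_pos (α := ↥C ⧸ Nc)) ?_
    rw [h1]; ring
  set Q := Qc.map A.subtype with hQdef
  have hQle : Q ≤ A := map_subtype_le _
  have hcQ : Nat.card ↥Q = 2 ^ 11 := by
    rw [hQdef, ← Nat.card_congr (Qc.equivMapOfInjective A.subtype A.subtype_injective).toEquiv, hcardQ]
  -- elements of the kernel
  have hnQ : ∀ n ∈ N, f n ∈ Q := fun n hn' => ⟨⟨f n, hfA n (hNle hn')⟩, by
    rw [SetLike.mem_coe, hQc, MonoidHom.mem_ker, hθf n (hNle hn'),
      (QuotientGroup.eq_one_iff _).mpr (mem_subgroupOf.mpr hn'), map_one], rfl⟩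
  have hQn : ∀ x, f x ∈ Q → x ∈ N := by
    rintro x ⟨β, hβ, e'⟩
    have hx : x ∈ C := hCA x (e' ▸ β.2)
    have e2 : β = ⟨f x, hfA x hx⟩ := Subtype.ext e'
    rw [SetLike.mem_coe, hQc, MonoidHom.mem_ker, e2, hθf x hx] at hβ
    exact mem_subgroupOf.mp ((QuotientGroup.eq_one_iff _).mp (hb.1 (hβ.trans (map_one _).symm)))
  have hdata : ∀ β ∈ Q, ((β d = d ∧ β s = s) ∨ (β d = s ∧ β s = d)) ∧
      (β d = d → β ∈ f.range) ∧ ∀ x ∈ N, β x * x⁻¹ ∈ zpowers z := by
    rintro _ ⟨β, hβ, rfl⟩
    have hker : ∀ k ∈ C, (β : MulAut G) k * k⁻¹ ∈ N := fun k hk => by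
      have h1 := hθ β ⟨k, hk⟩
      rw [MonoidHom.mem_ker.mp hβ, MulAut.one_apply] at h1
      exact hmk _ _ h1
    obtain ⟨h1, h2, h3⟩ := aut_data X H hD hAD hcen ((hmemA β).mp β.2) hker
    exact ⟨h1, fun h => let ⟨k, _, hk⟩ := h2 h; ⟨k, hk.symm⟩, h3⟩
  obtain ⟨q₀, hq₀, hq₀n⟩ : ∃ q ∈ Q, q ∉ f.range := by
    by_contra hno
    push Not at hno
    have hle : Q ≤ N.map f := fun x hx => by
      obtain ⟨n, hn'⟩ := hno x hx
      exact ⟨n, hQn n (hn' ▸ hx), hn'⟩
    have := Nat.le_of_dvd Nat.card_pos (Subgroup.card_dvd_of_le hle)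
    rw [hcQ, ← Nat.card_congr (N.equivMapOfInjective f hfinj).toEquiv, S.card] at this
    norm_num at this
  obtain ⟨hq0d, hq0s⟩ : q₀ d = s ∧ q₀ s = d :=
    (hdata q₀ hq₀).1.resolve_left fun h => hq₀n ((hdata q₀ hq₀).2.1 h.1)
  have hq0z : q₀ z = z := (hmemA q₀).mp (hQle hq₀)
  have hdec : ∀ β ∈ Q, ∃ n ∈ N, β = f n ∨ β = f n * q₀ := by
    intro β hβ
    by_cases hb' : β ∈ f.range
    · obtain ⟨n, rfl⟩ := hb'
      exact ⟨n, hQn n hβ, Or.inl rfl⟩
    · obtain ⟨n, hn'⟩ := index_two hD hprim h22 (α := q₀⁻¹) (fun h => hq₀n (inv_mem_iff.mp h)) hb'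
      refine ⟨n, hQn n ?_, Or.inr ?_⟩
      · rw [show f n = β * q₀⁻¹ from hn']
        exact mul_mem hβ (inv_mem hq₀)
      · rw [show f n = β * q₀⁻¹ from hn', inv_mul_cancel_right]
  have hzne : z ≠ 1 := j_ne X
  have hdne : d ≠ s := hsm.2.1.symm
  have hd2 : d * d = 1 := ht.sq d X.mem
  have hs2 : s * s = 1 := ht.sq s hsm.1
  have hds : s * d = d * s := hsm.2.2.symm.eq
  have hcent : ∀ n ∈ N, (∀ x ∈ N, Commute n x) → q₀ n = n → n = 1 ∨ n = z := by
    intro n hn' hall hfix
    have h4 := four_closure hd2 hs2 hds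
    rcases h4 n (S.central n hn' hall) with h | h | h | h
    · exact Or.inl h
    · exact absurd (by rw [← h, hfix] at hq0d; rw [h] at hq0d; exact hq0d) hdne
    · exact absurd (by rw [← h, hfix] at hq0s; rw [h] at hq0s; exact hq0s.symm) hdne
    · exact Or.inr h
  have hjQ : j ∈ Q := hnQ z (mul_mem S.left_mem S.right_mem)
  have hjne : j ≠ 1 := fun h => hzne (hfinj (h.trans (map_one f).symm))
  have hjj : j * j = 1 := by rw [hj, ← map_mul, j_sq X, map_one]
  have hjc : ∀ β ∈ Q, β * j = j * β := fun β hβ => mem_centralizer_singleton_iff.mp (hQle hβ)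
  have hZ : ∀ {x : MulAut G}, x ∈ zpowers j → x = 1 ∨ x = j := fun {x} hx =>
    ThreeTransM22Cent72.mem_zpowers_two (orderOf_eq_prime (by rw [pow_two]; exact hjj) hjne) hx
  have hfz : ∀ {x : G}, x ∈ zpowers z → f x ∈ zpowers j := fun {x} hx => by
    obtain ⟨n, rfl⟩ := mem_zpowers_iff.mp hx
    rw [map_zpow]; exact zpow_mem (mem_zpowers j) n
  have hact : ∀ β ∈ Q, ∀ n ∈ N, β * f n * β⁻¹ * (f n)⁻¹ ∈ zpowers j := fun β hβ n hn' => by
    rw [hconjβ, ← map_inv, ← map_mul]
    exact hfz ((hdata β hβ).2.2 n hn')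
  -- `j` commutes with the kernel, so the commutator is bilinear
  have hzc : ∀ β ∈ Q, ∀ x ∈ zpowers j, β * x = x * β := fun β hβ x hx => by
    rcases hZ hx with rfl | rfl
    · simp
    · exact hjc β hβ
  have hcq : ∀ x ∈ Q, x * q₀ * x⁻¹ * q₀⁻¹ ∈ zpowers j := by
    intro x hx
    obtain ⟨n, hn', rfl | rfl⟩ := hdec x hx
    · rw [show f n * q₀ * (f n)⁻¹ * q₀⁻¹ = (q₀ * f n * q₀⁻¹ * (f n)⁻¹)⁻¹ by group]
      exact inv_mem (hact q₀ hq₀ n hn')
    · rw [show f n * q₀ * q₀ * (f n * q₀)⁻¹ * q₀⁻¹ = (q₀ * f n * q₀⁻¹ * (f n)⁻¹)⁻¹ by group]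
      exact inv_mem (hact q₀ hq₀ n hn')
  have hcomm : ∀ x ∈ Q, ∀ y ∈ Q, x * y * x⁻¹ * y⁻¹ ∈ zpowers j := by
    intro x hx y hy
    obtain ⟨m, hm, rfl | rfl⟩ := hdec y hy
    · exact hact x hx m hm
    · rw [show x * (f m * q₀) * x⁻¹ * (f m * q₀)⁻¹
        = (x * f m * x⁻¹ * (f m)⁻¹) * (f m * (x * q₀ * x⁻¹ * q₀⁻¹) * (f m)⁻¹) by group,
        hzc _ (hnQ m hm) _ (hcq x hx), mul_inv_cancel_right]
      exact mul_mem (hact x hx m hm) (hcq x hx)
  have hq0sq : q₀ * q₀ ∈ zpowers j := by
    obtain ⟨c, hc'⟩ := (hdata _ (mul_mem hq₀ hq₀)).2.1 (show q₀ (q₀ d) = d by rw [hq0d, hq0s])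
    have hcN : c ∈ N := hQn c (hc' ▸ mul_mem hq₀ hq₀)
    have hfix : ∀ n ∈ N, Commute c n := fun n hn' => by
      refine mul_inv_eq_iff_eq_mul.mp ?_
      have h1 : c * n * c⁻¹ = q₀ (q₀ n) := DFunLike.congr_fun hc' n
      rw [h1]
      obtain ⟨i, hi⟩ := mem_zpowers_iff.mp ((hdata q₀ hq₀).2.2 n hn')
      have hi' : q₀ n = z ^ i * n := by rw [hi]; group
      rw [hi', map_mul, map_zpow, hq0z, hi', ← mul_assoc, ← (Commute.refl z).mul_zpow,
        j_sq X, one_zpow, one_mul]
    have hc0 : q₀ c = c := hfinj (by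
      rw [← hconjβ, show f c = q₀ * q₀ from hc']; group)
    rw [← show f c = q₀ * q₀ from hc']
    rcases hcent c hcN hfix hc0 with rfl | rfl
    · rw [map_one]; exact one_mem _
    · exact mem_zpowers _
  have hExt : LargeExtraspecial.Ext Q j := by
    refine ⟨hjQ, hjne, hjj, hjc, fun x hx => hZ ?_, fun x hx y hy => ?_, fun x hx h1 hxj => ?_⟩
    · obtain ⟨n, hn', rfl | rfl⟩ := hdec x hx
      · rw [← map_mul]
        exact hfz (S.sq n hn')
      · rw [show f n * q₀ * (f n * q₀) = f n * (q₀ * f n * q₀⁻¹ * (f n)⁻¹) * f n * (q₀ * q₀) by group,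
          hzc _ (hnQ n hn') _ (hact q₀ hq₀ n hn'), mul_assoc (q₀ * f n * q₀⁻¹ * (f n)⁻¹), ← map_mul]
        exact mul_mem (mul_mem (hact q₀ hq₀ n hn') (hfz (S.sq n hn'))) hq0sq
    · rcases hZ (hcomm x hx y hy) with h | h
      · exact Or.inl (mul_inv_eq_one.mp h)
      · exact Or.inr (mul_inv_eq_iff_eq_mul.mp h)
    · by_contra hno
      push Not at hno
      have hall : ∀ y ∈ Q, Commute y x := fun y hy => by
        rcases hZ (hcomm y hy x hx) with h | h
        · exact mul_inv_eq_iff_eq_mul.mp (mul_inv_eq_one.mp h)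
        · exact absurd (mul_inv_eq_iff_eq_mul.mp h) (hno y hy)
      obtain ⟨n, hn', rfl | rfl⟩ := hdec x hx
      · rcases hcent n hn' (fun m hm => hfinj (by
            rw [map_mul, map_mul]; exact (hall _ (hnQ m hm)).eq.symm))
          (hfinj (by rw [← hconjβ, (hall q₀ hq₀).eq, mul_inv_cancel_right])) with rfl | rfl
        · exact h1 (map_one f)
        · exact hxj rfl
      · have h := hall _ (hnQ d S.left_mem)
        have h' : (f n * q₀) d = d := hfinj (by rw [← hconjβ, ← h.eq, mul_inv_cancel_right])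
        change n * q₀ d * n⁻¹ = d at h'
        rw [hq0d] at h'
        refine hdne ?_
        rw [← h']
        exact mul_inv_eq_iff_eq_mul.mpr
          ((mem_joint X).mp (S.le_joint hn')).2.eq
  have hLH : LargeExtraspecial.LHyp Q j := by
    refine ⟨hExt, fun g hg => ?_, fun g hg x hx => ?_, ⟨f d, hnQ d S.left_mem, fun h => ?_, fun h => ?_⟩⟩
    · have hgA : g ∈ A := mem_centralizer_singleton_iff.mpr (hg j hjQ)
      have hgN : ∀ n ∈ N, g n = n := fun n hn' => hfinj (by
        rw [← hconjβ, hg _ (hnQ n hn'), mul_inv_cancel_right])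
      have hgq : q₀ * g = g * q₀ := (hg q₀ hq₀).symm
      by_cases hgI : g ∈ f.range
      · obtain ⟨c, rfl⟩ := hgI
        have hall : ∀ n ∈ N, Commute c n := fun n hn' => mul_inv_eq_iff_eq_mul.mp (hgN n hn')
        rcases hcent c (S.self c (hCA c hgA) hall) hall
          (hfinj (by rw [← hconjβ, hgq, mul_inv_cancel_right])) with rfl | rfl
        · exact Or.inl (map_one f)
        · exact Or.inr rfl
      exfalso
      obtain ⟨c, hc'⟩ := index_two hD hprim h22 (α := q₀⁻¹) (fun h => hq₀n (inv_mem_iff.mp h)) hgI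
      change f c = g * q₀⁻¹ at hc'
      have hcC : c ∈ C := hCA c (hc' ▸ mul_mem hgA (inv_mem (hQle hq₀)))
      have hcmod : ∀ n ∈ N, c * n * c⁻¹ * n⁻¹ ∈ zpowers z := fun n hn' => by
        have hq' : q₀⁻¹ n * n⁻¹ ∈ zpowers z := (hdata _ (inv_mem hq₀)).2.2 n hn'
        have : q₀⁻¹ n ∈ N := by
          have := mul_mem (show q₀⁻¹ n * n⁻¹ ∈ N from
            (zpowers_le.mpr (mul_mem S.left_mem S.right_mem)) hq') hn'
          rwa [inv_mul_cancel_right] at this
        have e1 : c * n * c⁻¹ = q₀⁻¹ n := (DFunLike.congr_fun hc' n).trans (hgN _ this)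
        rwa [e1]
      -- elements centralising the core modulo the product
      let T : Subgroup ↥C :=
        { carrier := {c | ∀ n ∈ N, (c : G) * n * (c : G)⁻¹ * n⁻¹ ∈ zpowers z}
          one_mem' := fun n _ => by simp
          mul_mem' := by
            intro a b ha hb n hn'
            have h2 := ha _ (S.conj b b.2 n hn')
            have := mul_mem h2 (hb n hn')
            simpa [mul_assoc] using this
          inv_mem' := by
            intro a ha n hn'
            have h2 := inv_mem (ha _ (S.conj _ (inv_mem a.2) n hn'))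
            simpa [mul_assoc] using h2 }
      haveI hTn : T.Normal := ⟨fun t ht' g' n hn' => by
        have hm := S.conj _ (inv_mem g'.2) n hn'
        have h2 := ht' _ hm
        obtain ⟨i, hi⟩ := mem_zpowers_iff.mp h2
        have hgz : Commute (g' : G) z := mem_centralizer_singleton_iff.mp g'.2
        have h3 : ((g' * t * g'⁻¹ : ↥C) : G) * n * ((g' * t * g'⁻¹ : ↥C) : G)⁻¹ * n⁻¹
            = (g' : G) * z ^ i * (g' : G)⁻¹ := by
          rw [hi]; push_cast; group
        rw [h3, (hgz.zpow_right i).eq, mul_inv_cancel_right]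
        exact zpow_mem (mem_zpowers z) i⟩
      set g₁ : ↥C →* MulAut (Cfsg.PSU 4 F₀ 2) := e.toMonoidHom.comp (QuotientGroup.mk' Nc) with hg₁
      have hg₁s : Function.Surjective g₁ := e.surjective.comp (QuotientGroup.mk'_surjective _)
      have hg₁k : g₁.ker = Nc := by
        ext x
        rw [MonoidHom.mem_ker, hg₁, MonoidHom.comp_apply]
        exact (map_eq_one_iff _ e.injective).trans (QuotientGroup.eq_one_iff x)
      haveI : (T.map g₁).Normal := Subgroup.Normal.map hTn g₁ hg₁s
      have hcT : (⟨c, hcC⟩ : ↥C) ∈ T := hcmod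
      have hcN : c ∈ N := by
        rcases (Subgroup.Normal.comap (inferInstance : (T.map g₁).Normal)
          (MulAut.conj : Cfsg.PSU 4 F₀ 2 →* MulAut (Cfsg.PSU 4 F₀ 2))).eq_bot_or_eq_top with h | h
        · have h1 : g₁ ⟨c, hcC⟩ = 1 := MulEquiv.ext fun x => by
            set a := g₁ ⟨c, hcC⟩
            have ha : a ∈ T.map g₁ := mem_map_of_mem g₁ hcT
            have hm : a x * x⁻¹ ∈ (T.map g₁).comap (MulAut.conj : Cfsg.PSU 4 F₀ 2 →* _) := by
              rw [Subgroup.mem_comap, map_mul, map_inv,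
                show MulAut.conj (a x) = a * MulAut.conj x * a⁻¹ from MulEquiv.ext fun y => by
                  simp [MulAut.conj_apply, map_mul, map_inv],
                mul_assoc, mul_assoc, ← mul_assoc (MulAut.conj x)]
              exact mul_mem ha ((inferInstance : (T.map g₁).Normal).conj_mem _ (inv_mem ha) _)
            rw [h, Subgroup.mem_bot] at hm
            exact mul_inv_eq_one.mp hm
          exact mem_subgroupOf.mp (hg₁k ▸ (MonoidHom.mem_ker.mpr h1) : (⟨c, hcC⟩ : ↥C) ∈ Nc)
        · exfalso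
          refine joint_moves X H fun k hk x hx => ?_
          suffices hKT : ((joint X).subgroupOf C).map g₁ ≤ T.map g₁ by
            obtain ⟨t, ht', e'⟩ := hKT (mem_map_of_mem g₁
              (show (⟨k, joint_le_cent X H hk⟩ : ↥C) ∈ (joint X).subgroupOf C from mem_subgroupOf.mpr hk))
            have hmem : (⟨k, joint_le_cent X H hk⟩ : ↥C) ∈ T := by
              have h4 : t⁻¹ * ⟨k, joint_le_cent X H hk⟩ ∈ g₁.ker := by
                rw [MonoidHom.mem_ker, map_mul, map_inv, e', inv_mul_cancel]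
              rw [hg₁k] at h4
              have h5 : t⁻¹ * ⟨k, joint_le_cent X H hk⟩ ∈ T := fun n hn' =>
                S.comm _ (mem_subgroupOf.mp h4) n hn'
              simpa using mul_mem ht' h5
            exact hmem x hx
          set K := ((joint X).subgroupOf C).map g₁
          set I := (MulAut.conj : Cfsg.PSU 4 F₀ 2 →* MulAut (Cfsg.PSU 4 F₀ 2)).range
          have hIT : I ≤ T.map g₁ := by
            rintro _ ⟨x, rfl⟩; exact Subgroup.mem_comap.mp (h ▸ mem_top x)
          have hcinj : Function.Injective (MulAut.conj : Cfsg.PSU 4 F₀ 2 →* _) := by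
            rw [injective_iff_map_eq_one]
            intro x hx
            have : x ∈ Subgroup.center (Cfsg.PSU 4 F₀ 2) := Subgroup.mem_center_iff.mpr fun y =>
              (mul_inv_eq_iff_eq_mul.mp (by simpa using DFunLike.congr_fun hx y) : x * y = y * x).symm
            rwa [ThreeTransM22TwoCent48.psu_center, Subgroup.mem_bot] at this
          haveI hKJ : ((joint X).subgroupOf C).Normal := Subgroup.normal_of_index_eq_two S.index
          haveI : K.Normal := Subgroup.Normal.map hKJ g₁ hg₁s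
          have hK2 : K.index = 2 := by
            rw [Subgroup.index_map_eq _ hg₁s (hg₁k.le.trans fun x hx =>
              mem_subgroupOf.mpr (S.le_joint (mem_subgroupOf.mp hx)))]
            exact S.index
          have hIcard : Nat.card I = 25920 := by
            rw [← OrthMinusSixTwoAut48.card_PSU_four hF₀,
              Nat.card_congr (MonoidHom.ofInjective hcinj).toEquiv]
          have hKcard : Nat.card K = 25920 := by
            have := K.index_mul_card
            rw [hK2, OrthMinusSixTwoAut48.card_mulAut_four hF₀] at this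
            omega
          rcases (Subgroup.Normal.comap (inferInstance : K.Normal)
            (MulAut.conj : Cfsg.PSU 4 F₀ 2 →* MulAut (Cfsg.PSU 4 F₀ 2))).eq_bot_or_eq_top with h' | h'
          · exfalso
            have hall : ∀ x, MulAut.conj x ∈ K → x = 1 := fun x hx => by
              rw [← Subgroup.mem_bot, ← h']; exact hx
            have : ∀ x y : Cfsg.PSU 4 F₀ 2, x * y = 1 ∨ x = 1 ∨ y = 1 := fun x y => by
              rcases em (MulAut.conj x ∈ K) with hx | hx
              · exact Or.inr (Or.inl (hall x hx))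
              rcases em (MulAut.conj y ∈ K) with hy | hy
              · exact Or.inr (Or.inr (hall y hy))
              refine Or.inl (hall _ ?_)
              rw [map_mul]
              exact (Subgroup.mul_mem_iff_of_index_two hK2).mpr (iff_of_false hx hy)
            obtain ⟨x, hx⟩ : ∃ x : Cfsg.PSU 4 F₀ 2, x ≠ 1 := exists_ne 1
            have htwo : ∀ y : Cfsg.PSU 4 F₀ 2, y = 1 ∨ y = x⁻¹ := fun y => by
              rcases this x y with h | h | h
              · exact Or.inr (eq_inv_of_mul_eq_one_right h)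
              · exact absurd h hx
              · exact Or.inl h
            have h2 : Nat.card (Cfsg.PSU 4 F₀ 2) ≤ 2 := by
              have : (Set.univ : Set (Cfsg.PSU 4 F₀ 2)) ⊆ {1, x⁻¹} := fun y _ => htwo y
              have h5 := Set.ncard_le_ncard this (Set.toFinite _)
              rw [Set.ncard_univ] at h5
              exact h5.trans ((Set.ncard_insert_le _ _).trans (by rw [Set.ncard_singleton]))
            rw [OrthMinusSixTwoAut48.card_PSU_four hF₀] at h2
            omega
          · have hIK : I ≤ K := by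
              rintro _ ⟨x, rfl⟩; exact Subgroup.mem_comap.mp (h' ▸ mem_top x)
            rw [← Subgroup.eq_of_le_of_card_ge hIK (by rw [hIcard, hKcard])]
            exact hIT
      have hcd' : (f c * q₀) d = d := by
        rw [hc', inv_mul_cancel_right]; exact hgN d S.left_mem
      change c * q₀ d * c⁻¹ = d at hcd'
      rw [hq0d] at hcd'
      refine hdne ?_
      rw [← hcd']
      exact mul_inv_eq_iff_eq_mul.mpr ((mem_joint X).mp (S.le_joint hcN)).2.eq
    · have hgA : g ∈ A := by rw [hA, mem_centralizer_singleton_iff]; exact hg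
      have hxA : x ∈ A := hQle hx
      have hxQ : (⟨x, hxA⟩ : ↥A) ∈ Qc := (Subgroup.mem_map_iff_mem A.subtype_injective).mp hx
      have h := (MonoidHom.normal_ker θ).conj_mem _ hxQ ⟨g, hgA⟩
      exact Subgroup.mem_map_of_mem A.subtype h
    · exact ThreeTrans.ne_one hD.1 X.mem (hfinj (h.trans (map_one f).symm))
    · exact ThreeTrans.ne_one hD.1 hsm.1 (mul_eq_left.mp (hfinj h).symm)
  -- largeness
  have hbig : Nat.card (MulAut G) < 3 ^ 2 ^ 5 := by
    have hidx : f.range.index ≤ 2 := by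
      refine le_of_eq (Subgroup.index_eq_two_iff.mpr ⟨α, fun b => ?_⟩)
      by_cases hb' : b ∈ f.range
      · exact Or.inr ⟨hb', fun h => hα ((f.range.mul_mem_cancel_left hb').mp h)⟩
      · exact Or.inl ⟨index_two hD hprim h22 hα hb', hb'⟩
    rw [← f.range.index_mul_card, ← Nat.card_congr (MonoidHom.ofInjective hfinj).toEquiv,
      ThreeTransM22Order72.card_G hD hprim h22]
    calc f.range.index * _ ≤ 2 * (2 ^ 17 * 3 ^ 9 * 5 ^ 2 * 7 * 11 * 13) := Nat.mul_le_mul_right _ hidx
      _ < _ := by norm_num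
  have hlarge := isLarge_of_bound hLH (k := 5) (by norm_num) (by rw [hcQ]) hbig
  -- the generalized Fitting subgroup
  haveI : Qc.Normal := MonoidHom.normal_ker θ
  have hgen : Cfsg.generalizedFittingSubgroup ↥A = Qc := by
    have hp : IsPGroup 2 Qc := IsPGroup.of_card hcardQ
    have hcore : Cfsg.pCore 2 ↥A = Qc := by
      refine le_antisymm ?_ (ComponentsCores.le_pCore' hp)
      set g : ↥A →* MulAut (Cfsg.PSU 4 F₀ 2) :=
        (hQA.trans e).toMonoidHom.comp (QuotientGroup.mk' Qc) with hg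
      haveI : ((Cfsg.pCore 2 ↥A).map g).Normal := Subgroup.Normal.map inferInstance g
        ((hQA.trans e).surjective.comp (QuotientGroup.mk'_surjective _))
      have h1 := ThreeTransM22TwoFstar48.two_bot hF₀ ((Cfsg.pCore 2 ↥A).map g)
        ((ComponentsCores.isPGroup_pCore 2).map g)
      rw [Subgroup.map_eq_bot_iff] at h1
      refine h1.trans (fun x hx => ?_)
      rw [MonoidHom.mem_ker, hg, MonoidHom.comp_apply] at hx
      exact (QuotientGroup.eq_one_iff x).mp ((hQA.trans e).injective (by rw [map_one]; exact hx))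
    have hchar : Cfsg.IsOfCharacteristicTwo ↥A := by
      show centralizer (Cfsg.pCore 2 ↥A : Set ↥A) ≤ Cfsg.pCore 2 ↥A
      rw [hcore]
      intro c hc'
      have hmem : ∀ x, x ∈ Qc ↔ (x : MulAut G) ∈ Q := fun x =>
        ⟨fun h => mem_map_of_mem A.subtype h, fun ⟨y, hy, ey⟩ => Subtype.ext ey ▸ hy⟩
      rw [hmem]
      rcases hLH.cent c (fun x hx => by
        obtain ⟨y, hy, rfl⟩ := hx
        exact (congrArg Subtype.val (Subgroup.mem_centralizer_iff.mp hc' y hy)).symm) with h | h
      · rw [h]; exact one_mem _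
      · rw [h]; exact hjQ
    rw [CharTwoLocal.gen_eq_of_charTwo hchar, hcore]
  have hsub : Q.subgroupOf A = Qc := by
    rw [hQdef, Subgroup.subgroupOf, comap_map_eq_self_of_injective A.subtype_injective]
  refine ⟨Q, by rw [hgen], hlarge, hcQ, hQle, ?_, F₀, inferInstance, inferInstance, hF₀, ⟨?_⟩⟩
  · show (Q.subgroupOf A).Normal
    rw [hsub]; infer_instance
  · haveI : (Q.subgroupOf A).Normal := by rw [hsub]; infer_instance
    exact (QuotientGroup.quotientMulEquivOfEq hsub).trans (hQA.trans e)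

end

/-- Type M(22) with an outer automorphism. -/
theorem main (hD : Cfsg.IsThreeTranspositionGroup D) (hprim : Cfsg.IsPrimitiveUnderConj D)
    (h22 : Cfsg.IsOfTypeM22 G D) (hout : ∃ α : MulAut G, α ∉ (MulAut.conj : G →* MulAut G).range)
    {d₁ d₂ : G} (h₁ : d₁ ∈ D) (h₂ : d₂ ∈ D) (hne : d₁ ≠ d₂) (hcomm : Commute d₁ d₂) :
    Result d₁ d₂ := by
  obtain ⟨F, _, _, _, hctx⟩ := exists_ctx hD hprim h22
  have hcent := ThreeTransM22Outer72.centralizer_eq_loc hD hprim h22
  obtain ⟨φ₀, X₀⟩ := hctx d₁ h₁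
  obtain ⟨φ, X, hX⟩ := exists_ctx_at X₀ (a := d₂) ⟨h₂, hne.symm, hcomm⟩
  subst hX
  exact result_at hD hprim h22 X ⟨hctx, hcent⟩ hout

end Cfsg.Agent.ThreeTransM22TwoAut48
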