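import Cfsg.Agent.Lib.ThreeTransM22PointStab48
import Cfsg.Agent.Lib.OrthMinusSixTwoAut48

/-!
# Two commuting members in a class of type M(22)

The joint centralizer of `d` and the member at the point of `u₀`: the unipotent part `core`, its
commutators, and the quotient.
-/

set_option autoImplicit false
set_option linter.unusedSectionVars false
set_option linter.style.haveILetI false

namespace Cfsg.Agent.ThreeTransM22TwoCent48

open Subgroup
open Cfsg.Agent.ThreeTransRel Cfsg.Agent.ThreeTransDescent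
open Cfsg.Agent.UnitaryF4Geo Cfsg.Agent.UnitaryF4Line
open Cfsg.Agent.ThreeTransM22Local72 Cfsg.Agent.ThreeTransM22Lift72
open Cfsg.Agent.ThreeTransM22Triples17 Cfsg.Agent.ThreeTransM22PointStab48
open Cfsg.Agent.ThreeTransM22Frame72 (Frame exists_isometry)
open Cfsg.Agent.OrthUnitaryTransvection (su_ext act_mul act_one)
open scoped Matrix

variable {G : Type*} [Group G] [Finite G] {D : Set G}
variable {F : Type} [Field F] [Fintype F] [hF : FourField F]
variable {d : G} {φ : ↥(loc D d) →* Cfsg.PSU 6 F 2}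

local notation "π" => QuotientGroup.mk' (Subgroup.center (Cfsg.SU 6 F 2))
local notation "act" => OrthUnitaryTransvection.act

/-- A chart sending the standard point to a given member. -/
theorem exists_ctx_at (X : Ctx D d φ) {a : G} (ha : a ∈ near D d) :
    ∃ φ' : ↥(loc D d) →* Cfsg.PSU 6 F 2, ∃ X' : Ctx D d φ', Chart.L X'.chart u0 = a := by
  obtain ⟨k, hk, hka⟩ := near_trans X (L_mem X iso_u0 u0_ne) ha
  set k' : ↥(loc D d) := ⟨k, hk⟩
  set φ' : ↥(loc D d) →* Cfsg.PSU 6 F 2 := φ.comp (MulAut.conj k'⁻¹).toMonoidHom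
  have e : ∀ x, φ' x = φ k'⁻¹ * φ x * (φ k'⁻¹)⁻¹ := fun x => by simp [φ', map_mul, map_inv]
  have C' : Chart D d φ' := by
    refine ⟨X.chart.surj.comp (MulAut.conj k'⁻¹).surjective,
      fun x => by rw [e, conj_eq_one_iff, X.chart.one],
      fun p q hp hq h => X.chart.refl p q hp hq ((Commute.conj_iff (φ k'⁻¹)).mp (e p ▸ e q ▸ h)),
      fun p q hp hq h => X.chart.inj p q hp hq (by
        rw [e, e] at h; exact mul_left_cancel (mul_right_cancel h)), ?_⟩
    have himg : φ' '' {x | (x : G) ∈ near D d} = φ '' {x | (x : G) ∈ near D d} := by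
      ext y
      constructor
      · rintro ⟨x, hx, rfl⟩
        exact ⟨MulAut.conj k'⁻¹ x, loc_near X (k'⁻¹).2 hx, rfl⟩
      · rintro ⟨x, hx, rfl⟩
        refine ⟨k' * x * k'⁻¹, loc_near X k'.2 hx, ?_⟩
        show φ (k'⁻¹ * (k' * x * k'⁻¹) * k'⁻¹⁻¹) = φ x
        congr 1; group
    rw [himg]
    exact X.chart.three
  let X' : Ctx D d φ' := ⟨X.ts, X.prim, X.centre, X.lines, X.self, X.only, X.mem, C'⟩
  refine ⟨φ', X', L_eq X' iso_u0 u0_ne ha ?_⟩
  show φ (k'⁻¹ * ⟨a, near_le_loc ha⟩ * k'⁻¹⁻¹) = _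
  rw [← L_img X iso_u0 u0_ne]
  congr 1
  refine Subtype.ext ?_
  show k⁻¹ * a * k⁻¹⁻¹ = _
  rw [← hka]; group

/-! ### Elements of order two products -/

theorem conj_one_iff_commute {x y : G} : x * y * x⁻¹ = y ↔ Commute x y :=
  mul_inv_eq_iff_eq_mul

variable (X : Ctx D d φ)
include X

local notation "L" => Chart.L X.chart

/-- The second member. -/
noncomputable abbrev second : G := L (u0 : Fin 6 → F)

/-- The joint centralizer. -/
abbrev joint : Subgroup G := Subgroup.centralizer ({d, second X} : Set G)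

theorem second_mem : second X ∈ near D d := L_mem X iso_u0 u0_ne

theorem mem_joint {g : G} : g ∈ joint X ↔ Commute g d ∧ Commute g (second X) := by
  rw [Subgroup.mem_centralizer_iff]
  refine ⟨fun h => ⟨(h d (by simp)).symm, (h _ (by simp)).symm⟩, ?_⟩
  rintro ⟨h1, h2⟩ y (rfl | rfl)
  · exact h1.symm
  · exact h2.symm

variable (hc : centralizer ({d} : Set G) = loc D d)
include hc

theorem mem_loc_iff {g : G} : g ∈ loc D d ↔ Commute g d := by
  rw [← hc, mem_centralizer_singleton_iff]; rfl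

omit hc in
/-- An element of the stabiliser centralizes both. -/
theorem joint_of_lift {k : ↥(loc D d)} {A : Cfsg.SU 6 F 2} (hA : A ∈ stab) (e : φ k = π A) :
    (k : G) ∈ joint X := by
  refine (mem_joint X).mpr ⟨(commute_d_of_mem_loc k.2).symm, conj_one_iff_commute.mp ?_⟩
  obtain ⟨c, hcA⟩ := hA
  have hc0 : c ≠ 0 := fun h0 => act_ne A u0_ne (by rw [hcA, h0, zero_smul])
  rw [L_conj X e iso_u0 u0_ne, hcA, L_smul X iso_u0 u0_ne hc0]

/-- An element centralizing both is in the stabiliser. -/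
theorem lift_of_joint {g : G} (hg : g ∈ joint X) :
    ∃ (h : g ∈ loc D d) (A : Cfsg.SU 6 F 2), A ∈ stab ∧ φ ⟨g, h⟩ = π A := by
  obtain ⟨h1, h2⟩ := (mem_joint X).mp hg
  have hgl := (mem_loc_iff X hc).mpr h1
  obtain ⟨A, hA⟩ := QuotientGroup.mk'_surjective (Subgroup.center (Cfsg.SU 6 F 2)) (φ ⟨g, hgl⟩)
  refine ⟨hgl, A, ?_, hA.symm⟩
  have h3 := L_conj X hA.symm iso_u0 u0_ne
  rw [show (g : G) * L u0 * g⁻¹ = L u0 from conj_one_iff_commute.mpr h2] at h3
  obtain ⟨c, hc0, e⟩ := L_inj X ((h_act A u0 u0).trans iso_u0) (act_ne A u0_ne) iso_u0 u0_ne h3.symm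
  exact ⟨c, e⟩

theorem joint_le_loc : joint X ≤ loc D d := fun _ hg => (lift_of_joint X hc hg).1

omit X hc in
theorem psi_eq_of_mk {A B : ↥(stab (F := F))}
    (e : π (A : Cfsg.SU 6 F 2) = π (B : Cfsg.SU 6 F 2)) : psi A = psi B := by
  obtain ⟨z, hz, ez⟩ := (QuotientGroup.mk'_eq_mk' _).mp e
  rw [show B = A * ⟨z, center_le_stab hz⟩ from Subtype.ext ez.symm, map_mul, psi_center hz, mul_one]

/-- The action of the joint centralizer on `PSU₄(2)`. -/
noncomputable def quot : ↥(joint X) →* MulAut (Cfsg.PSU 4 F 2) :=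
  MonoidHom.mk' (fun g => psi ⟨_, (lift_of_joint X hc g.2).choose_spec.choose_spec.1⟩)
    (fun g g' => by
      rw [← map_mul]
      refine psi_eq_of_mk ?_
      have e1 := (lift_of_joint X hc g.2).choose_spec.choose_spec.2
      have e2 := (lift_of_joint X hc g'.2).choose_spec.choose_spec.2
      have e3 := (lift_of_joint X hc (g * g').2).choose_spec.choose_spec.2
      show π _ = π (_ * _)
      rw [← e3, map_mul π, ← e1, ← e2, ← map_mul]
      rfl)

theorem quot_eq {g : G} (hg : g ∈ joint X) (hl : g ∈ loc D d) {A : Cfsg.SU 6 F 2} (hA : A ∈ stab)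
    (e : φ ⟨g, hl⟩ = π A) : quot X hc ⟨g, hg⟩ = psi ⟨A, hA⟩ :=
  psi_eq_of_mk ((lift_of_joint X hc hg).choose_spec.choose_spec.2.symm.trans e)

/-- The kernel. -/
noncomputable def core : Subgroup G := (quot X hc).ker.map (joint X).subtype

theorem core_le : core X hc ≤ joint X := map_subtype_le _

theorem mem_core {g : G} : g ∈ core X hc ↔
    ∃ (h : g ∈ loc D d) (A : Cfsg.SU 6 F 2), A ∈ stab ∧ qm A = 1 ∧ φ ⟨g, h⟩ = π A := by
  constructor
  · intro hg
    obtain ⟨hgl, A, hA, e⟩ := lift_of_joint X hc (core_le X hc hg)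
    obtain ⟨⟨k, hk⟩, hker, rfl⟩ := hg
    rw [SetLike.mem_coe, MonoidHom.mem_ker, quot_eq X hc hk hgl hA e] at hker
    obtain ⟨s, hs, hq⟩ := eq_scalar_of_psi hker
    obtain ⟨z, hz, hzs⟩ := exists_center s⁻¹ (inv_ne_zero hs)
    have hzst := center_le_stab hz
    refine ⟨hgl, A * z, mul_mem hA hzst, ?_, ?_⟩
    · refine Matrix.ext_of_mulVec_single fun i => ?_
      rw [qm_mul hA hzst, ← Matrix.mulVec_mulVec, qm_mulVec z, hzs, tl_smul, tl_emb,
        Matrix.mulVec_smul, hq, Matrix.smul_mulVec, Matrix.one_mulVec, smul_smul,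
        inv_mul_cancel₀ hs, one_smul]
    · rw [map_mul π, show π z = 1 from (QuotientGroup.eq_one_iff z).mpr hz, mul_one]
      exact e
  · rintro ⟨h, A, hA, hq, e⟩
    have hj := joint_of_lift X hA e
    refine ⟨⟨g, hj⟩, ?_, rfl⟩
    rw [SetLike.mem_coe, MonoidHom.mem_ker, quot_eq X hc hj h hA e]
    exact psi_eq_one (s := 1) (by rw [one_smul]; exact hq)

omit X hc in
theorem lift_unique {A B : Cfsg.SU 6 F 2} (hA : A ∈ stab) (hqA : qm A = 1) (hB : B ∈ stab)
    (hqB : qm B = 1) (e : π A = π B) : A = B := by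
  obtain ⟨z, hz, ez⟩ := (QuotientGroup.mk'_eq_mk' _).mp e
  obtain ⟨l, hl⟩ := exists_scalar (by norm_num) hz
  have hq : qm z = 1 := by
    have := qm_mul hA (center_le_stab hz)
    rwa [ez, hqA, hqB, one_mul, eq_comm] at this
  have hl1 : l = 1 := by
    have := congrFun (qm_mulVec z (Pi.single 0 1)) 0
    rw [hq, Matrix.one_mulVec, hl, tl_smul, tl_emb] at this
    simpa using this.symm
  rw [← ez, show z = 1 from su_ext fun x => by rw [hl, hl1, one_smul, act_one], mul_one]

/-- The row of a lift. -/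
noncomputable def rowHom : ↥(core X hc) →* Multiplicative (Fin 4 → F) :=
  MonoidHom.mk' (fun g => Multiplicative.ofAdd (row ((mem_core X hc).mp g.2).choose_spec.choose))
    (fun g g' => by
      obtain ⟨hA, hqA, e1⟩ := ((mem_core X hc).mp g.2).choose_spec.choose_spec
      obtain ⟨hB, hqB, e2⟩ := ((mem_core X hc).mp g'.2).choose_spec.choose_spec
      obtain ⟨hC, hqC, e3⟩ := ((mem_core X hc).mp (g * g').2).choose_spec.choose_spec
      rw [← ofAdd_add, ← row_mul hA hqA hB hqB, lift_unique hC hqC (mul_mem hA hB)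
        (by rw [qm_mul hA hB, hqA, hqB, one_mul])]
      rw [← e3, map_mul π, ← e1, ← e2, ← map_mul]
      rfl)

theorem rowHom_eq {g : G} (hg : g ∈ core X hc) {hl : g ∈ loc D d} {A : Cfsg.SU 6 F 2}
    (hA : A ∈ stab) (hq : qm A = 1) (e : φ ⟨g, hl⟩ = π A) :
    rowHom X hc ⟨g, hg⟩ = Multiplicative.ofAdd (row A) := by
  obtain ⟨hB, hqB, e'⟩ := ((mem_core X hc).mp hg).choose_spec.choose_spec
  show Multiplicative.ofAdd (row ((mem_core X hc).mp hg).choose_spec.choose) = _
  rw [lift_unique hB hqB hA hq (e'.symm.trans e)]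

theorem phi_d (h : d ∈ loc D d) : φ ⟨d, h⟩ = 1 := (X.chart.one _).mpr fun _ hy => hy.2.2.symm

theorem d_mem : d ∈ core X hc :=
  (mem_core X hc).mpr ⟨X.self d X.mem, 1, one_mem _, qm_one, by rw [phi_d X hc, map_one]⟩

omit X hc in
theorem qm_T_point : qm (T (u0 : Fin 6 → F) iso_u0) = 1 :=
  Matrix.ext_of_mulVec_single fun i => by
    rw [qm_T iso_u0 iso_u0, tl_u0, h_zero_right, zero_smul, add_zero, Matrix.one_mulVec]

theorem second_mem_core : second X ∈ core X hc :=
  (mem_core X hc).mpr ⟨near_le_loc (second_mem X), _, T_mem_stab iso_u0 iso_u0, qm_T_point,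
    L_img X iso_u0 u0_ne⟩

omit X hc in
/-- Four elements. -/
theorem four_set (x y : G) : ({1, x, y, x * y} : Set G).ncard ≤ 4 := by
  refine (Set.ncard_insert_le _ _).trans ?_
  refine Nat.add_le_add_right ((Set.ncard_insert_le _ _).trans ?_) 1
  refine Nat.add_le_add_right ((Set.ncard_insert_le _ _).trans ?_) 1
  simp

/-- The kernel of the row. -/
theorem rowHom_ker {g : ↥(core X hc)} (e : rowHom X hc g = 1) :
    (g : G) ∈ ({1, d, second X, d * second X} : Set G) := by
  obtain ⟨g, hg⟩ := g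
  obtain ⟨hl, A, hA, hq, eA⟩ := (mem_core X hc).mp hg
  rw [rowHom_eq X hc hg hA hq eA] at e
  rcases eq_of_row hA hq (Multiplicative.ofAdd.injective e) with h | h <;> subst h
  · rcases X.ker (x := ⟨g, hl⟩) (by rw [eA, map_one]) with h | h <;> simp at h <;> simp [h]
  · set b : ↥(loc D d) := ⟨second X, near_le_loc (second_mem X)⟩
    have hb : φ b = π (T u0 iso_u0) := L_img X iso_u0 u0_ne
    have hbb : second X * second X = 1 := X.ts.sq _ (second_mem X).1
    rcases X.ker (x := ⟨g, hl⟩ * b⁻¹) (by rw [map_mul, map_inv, eA, hb, mul_inv_cancel]) with h | h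
      <;> simp [b] at h
    · have : g = second X := mul_inv_eq_one.mp h
      simp [this]
    · have : g = d * second X := mul_inv_eq_iff_eq_mul.mp h
      simp [this]

theorem rowHom_ker_of_mem {g : G} (hg : g ∈ core X hc)
    (hm : g ∈ closure ({d, second X} : Set G)) : rowHom X hc ⟨g, hg⟩ = 1 := by
  have hle : closure ({d, second X} : Set G) ≤ (rowHom X hc).ker.map (core X hc).subtype := by
    rw [closure_le]
    rintro y (rfl | rfl)
    · refine ⟨⟨y, d_mem X hc⟩, ?_, rfl⟩
      rw [SetLike.mem_coe, MonoidHom.mem_ker,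
        rowHom_eq X hc (d_mem X hc) (hl := X.self y X.mem) (one_mem _) qm_one
          (by rw [phi_d X hc, map_one])]
      refine congrArg Multiplicative.ofAdd (funext fun j => ?_)
      simp [row, mat, Matrix.one_apply, Ne.symm (Fin.succ_ne_zero _)]
    · refine ⟨⟨second X, second_mem_core X hc⟩, ?_, rfl⟩
      rw [SetLike.mem_coe, MonoidHom.mem_ker,
        rowHom_eq X hc (second_mem_core X hc) (T_mem_stab iso_u0 iso_u0) qm_T_point
          (L_img X iso_u0 u0_ne)]
      refine congrArg Multiplicative.ofAdd (funext fun j => ?_)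
      have h1 := row_dot (T (u0 : Fin 6 → F) iso_u0) (Pi.single j 1)
      rw [T_act, h_emb_point, zero_smul, add_zero, emb_zero,
        Finset.sum_eq_single j (fun i _ hij => by simp [hij]) (by simp)] at h1
      simpa using h1.symm
  obtain ⟨⟨y, hy⟩, hk, hye⟩ := hle hm
  cases hye
  exact hk

/-! ### Counting -/

omit X hc in
theorem card_F : Fintype.card F = 4 := hF.card_eq

omit X hc in
theorem psu_center : Subgroup.center (Cfsg.PSU 4 F 2) = ⊥ := by
  haveI := OrthUnitaryPSU.isSimpleGroup_PSU (n := 4) (F := F) hF4 (by norm_num) (by norm_num)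
  rcases (inferInstance : (Subgroup.center (Cfsg.PSU 4 F 2)).Normal).eq_bot_or_eq_top with h | h
  · exact h
  · exfalso
    have hcomm : ∀ a b : Cfsg.PSU 4 F 2, a * b = b * a := fun a b =>
      Subgroup.mem_center_iff.mp (h ▸ Subgroup.mem_top b) a
    letI : CommGroup (Cfsg.PSU 4 F 2) := { mul_comm := hcomm }
    have hp : (Nat.card (Cfsg.PSU 4 F 2)).Prime := IsSimpleGroup.prime_card
    rw [OrthMinusSixTwoAut48.card_PSU_four card_F] at hp
    norm_num at hp

theorem card_joint : Nat.card ↥(joint X) = 2 ^ 10 * 25920 := by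
  have h := card_eq_mul (loc D d) (near D d) (second_mem X) (fun k hk => loc_near X hk (second_mem X))
    (fun y hy => near_trans X (second_mem X) hy)
  have e : loc D d ⊓ centralizer ({second X} : Set G) = joint X := by
    ext g
    rw [mem_inf, mem_loc_iff X hc, mem_joint X, mem_centralizer_singleton_iff]
    rfl
  have hd1 : d ≠ 1 := fun h1 => no_fix h1
  rw [card_loc X hd1, ncard_near X, e] at h
  omega
where
  no_fix (h1 : d = 1) : False := by
    refine ThreeTransLine.no_central X.ts X.prim X.mem (second_mem X) fun y hy => ?_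
    have := X.prim.1 d X.mem y hy.1
    obtain ⟨g, hg⟩ := this
    rw [h1, mul_one, mul_inv_cancel] at hg
    rw [← hg]
    exact Commute.one_left _

/-- The image is the inner group, and the kernel has order `2^10`. -/
theorem quot_data :
    (quot X hc).range = (MulAut.conj : Cfsg.PSU 4 F 2 →* _).range ∧
      Nat.card ↥(core X hc) = 2 ^ 10 ∧ Function.Surjective (rowHom X hc) := by
  haveI : Finite (MulAut (Cfsg.PSU 4 F 2)) := Finite.of_injective _ DFunLike.coe_injective
  have hconj : Nat.card (MulAut.conj : Cfsg.PSU 4 F 2 →* _).range = 25920 := by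
    have hinj : Function.Injective (MulAut.conj : Cfsg.PSU 4 F 2 →* _) := by
      rw [injective_iff_map_eq_one]
      intro x hx
      have : x ∈ Subgroup.center (Cfsg.PSU 4 F 2) := Subgroup.mem_center_iff.mpr fun y =>
        ((mul_inv_eq_iff_eq_mul.mp (by simpa using DFunLike.congr_fun hx y)) : x * y = y * x).symm
      rwa [psu_center, Subgroup.mem_bot] at this
    rw [← Nat.card_congr (MonoidHom.ofInjective hinj).toEquiv,
      OrthMinusSixTwoAut48.card_PSU_four card_F]
  have hcj : (quot X hc).range ≤ (AutPSU52Basic.cj (n := 4) (F := F) (q := 2)).range := by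
    rintro _ ⟨g, rfl⟩
    exact ⟨_, rfl⟩
  have hinn : (MulAut.conj : Cfsg.PSU 4 F 2 →* _).range ≤
      (AutPSU52Basic.cj (n := 4) (F := F) (q := 2)).range := by
    rintro _ ⟨x, rfl⟩
    obtain ⟨s, rfl⟩ := QuotientGroup.mk_surjective x
    exact ⟨_, AutPSU52Basic.cj_suToGU s⟩
  have hcjcard : Nat.card (AutPSU52Basic.cj (n := 4) (F := F) (q := 2)).range ≤ 25920 := by
    have h1 : (AutPSU52Basic.cj (n := 4) (F := F) (q := 2)).range ≤
        (AutPSU52Api.cjP (n := 4) (F := F) (q := 2)).range := by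
      rintro _ ⟨g, rfl⟩
      exact ⟨QuotientGroup.mk g, rfl⟩
    refine (Nat.le_of_dvd Nat.card_pos (Subgroup.card_dvd_of_le h1)).trans ?_
    refine (Nat.card_le_card_of_surjective _ (AutPSU52Api.cjP).rangeRestrict_surjective).trans
      (le_of_eq ?_)
    rw [AutPSU52Api.card_PGU hF4 (by norm_num), OrthMinusSixTwoAut48.card_PSU_four card_F]
    rfl
  have he : (MulAut.conj : Cfsg.PSU 4 F 2 →* _).range =
      (AutPSU52Basic.cj (n := 4) (F := F) (q := 2)).range :=
    Subgroup.eq_of_le_of_card_ge hinn (hconj ▸ hcjcard)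
  rw [← he] at hcj
  have hcore : Nat.card ↥(core X hc) = Nat.card (quot X hc).ker :=
    Subgroup.card_map_of_injective (joint X).subtype_injective
  have hk : Nat.card ↥(joint X) = Nat.card (quot X hc).range * Nat.card ↥(core X hc) := by
    rw [hcore, ← index_ker, index_mul_card]
  have hr : Nat.card (quot X hc).range ≤ 25920 := hconj ▸ Subgroup.card_le_of_le hcj
  have hrk : Nat.card (rowHom X hc).ker ≤ 4 := by
    refine le_trans (le_of_eq (Nat.card_congr ((rowHom X hc).ker.equivMapOfInjective _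
      (core X hc).subtype_injective).toEquiv)) ?_
    show Nat.card ((rowHom X hc).ker.map (core X hc).subtype : Set G) ≤ 4
    rw [Nat.card_coe_set_eq]
    refine (Set.ncard_le_ncard ?_ (Set.toFinite _)).trans (four_set d (second X))
    rintro _ ⟨g, hg, rfl⟩
    exact rowHom_ker X hc hg
  have h256 : Nat.card (Multiplicative (Fin 4 → F)) = 256 := by
    rw [Nat.card_congr Multiplicative.toAdd, Nat.card_fun, Nat.card_eq_fintype_card,
      Nat.card_eq_fintype_card, Fintype.card_fin, card_F]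
    rfl
  have hn := (rowHom X hc).ker.index_mul_card
  rw [index_ker] at hn
  have hrr : Nat.card (rowHom X hc).range ≤ 256 := h256 ▸ Subgroup.card_le_card_group _
  rw [card_joint X hc] at hk
  have hcb : Nat.card ↥(core X hc) ≤ 1024 := by rw [← hn]; exact Nat.mul_le_mul hrr hrk
  have hA : Nat.card (quot X hc).range = 25920 := by
    have := Nat.mul_le_mul_left (Nat.card (quot X hc).range) hcb
    omega
  rw [hA] at hk
  have hB : Nat.card ↥(core X hc) = 2 ^ 10 := by omega
  refine ⟨Subgroup.eq_of_le_of_card_ge hcj (by omega), hB, ?_⟩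
  rw [← MonoidHom.range_eq_top]
  refine Subgroup.eq_top_of_card_eq _ ?_
  rw [h256]
  have := Nat.mul_le_mul_left (Nat.card (rowHom X hc).range) hrk
  rw [hn] at this
  omega

end Cfsg.Agent.ThreeTransM22TwoCent48
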