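import Cfsg.Agent.Lib.ThreeTransM22TwoMain48
import Cfsg.Agent.Lib.CharTwoLocal
import Cfsg.Agent.Lib.SymplecticType
import Cfsg.Agent.Lib.GenExtraspecialSplit

/-!
# Type M(22): the generalized Fitting subgroup of the centralizer of a product
-/

set_option autoImplicit false
set_option linter.unusedSectionVars false
set_option linter.style.haveILetI false

namespace Cfsg.Agent.ThreeTransM22TwoFstar48

open Subgroup
open scoped commutatorElement
open Cfsg.Agent.ThreeTransM22TwoMain48

/-- An element outside the centre of a group splits off when all squares and commutators are in a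
subgroup avoiding it. -/
theorem exists_complement {P : Type*} [Group P] [Finite P] (S : Subgroup P) {d : P}
    (hd : d ∉ S) (hsq : ∀ x : P, x * x ∈ S) (hcm : ∀ x y : P, x * y * x⁻¹ * y⁻¹ ∈ S) :
    ∃ M : Subgroup P, S ≤ M ∧ d ∉ M ∧ ∀ x, x ∈ M ∨ x * d ∈ M := by
  obtain ⟨M, hM, hmax⟩ :=
    (Set.toFinite {M : Subgroup P | S ≤ M ∧ d ∉ M}).exists_maximal ⟨S, le_rfl, hd⟩
  refine ⟨M, hM.1, hM.2, fun x => ?_⟩
  by_cases hx : x ∈ M
  · exact Or.inl hx
  right
  have hmul : ∀ a ∈ M, ∀ b : P, b * a * b⁻¹ ∈ M := fun a ha b => by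
    have := mul_mem (hM.1 (hcm b a)) ha
    rwa [inv_mul_cancel_right] at this
  let M' : Subgroup P :=
    { carrier := {y | y ∈ M ∨ y * x⁻¹ ∈ M}
      one_mem' := Or.inl (one_mem _)
      mul_mem' := by
        rintro a b (ha | ha) (hb | hb)
        · exact Or.inl (mul_mem ha hb)
        · exact Or.inr (by rw [mul_assoc]; exact mul_mem ha hb)
        · refine Or.inr ?_
          rw [show a * b * x⁻¹ = (a * x⁻¹) * (x * b * x⁻¹) by group]
          exact mul_mem ha (hmul b hb x)
        · refine Or.inl ?_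
          rw [show a * b = (a * x⁻¹) * (x * (b * x⁻¹) * x⁻¹) * (x * x) by group]
          exact mul_mem (mul_mem ha (hmul _ hb x)) (hM.1 (hsq x))
      inv_mem' := by
        rintro a (ha | ha)
        · exact Or.inl (inv_mem ha)
        · refine Or.inr ?_
          rw [show a⁻¹ * x⁻¹ = x⁻¹ * (a * x⁻¹)⁻¹ * x⁻¹⁻¹ * (x * x)⁻¹ by group]
          exact mul_mem (hmul _ (inv_mem ha) _) (inv_mem (hM.1 (hsq x))) }
  have hdM' : d ∈ M' := by
    by_contra h
    have h1 : M' ≤ M :=
      hmax (show S ≤ M' ∧ d ∉ M' from ⟨fun y hy => Or.inl (hM.1 hy), h⟩) fun y hy => Or.inl hy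
    exact hx (h1 (show x ∈ M ∨ x * x⁻¹ ∈ M from Or.inr (by rw [mul_inv_cancel]; exact one_mem _)))
  rcases hdM' with h | h
  · exact absurd h hM.2
  · rw [show x * d = (x * (d * x⁻¹) * x⁻¹) * (x * x) by group]
    exact mul_mem (hmul _ h x) (hM.1 (hsq x))

theorem zmod_two_cases : ∀ z : ZMod 2, z = 0 ∨ z = 1 := by decide

theorem zmod_two_one : (1 : ZMod 2) + 1 = 0 := by decide

variable {G : Type*} [Group G] [Finite G] {D : Set G}

/-- The split form of the normal subgroup. -/
theorem split_core {d₁ d₂ : G} {N : Subgroup G} (S : Structure d₁ d₂ N) (h1 : d₁ * d₁ = 1)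
    (h2 : d₂ * d₂ = 1) (hne : d₁ ≠ d₂) (hd1 : d₁ ≠ 1) (hd2 : d₂ ≠ 1) :
    ∃ (E : Type) (_ : Group E) (_ : Finite E), Cfsg.IsExtraspecial 2 E ∧ Nat.card E = 2 ^ 9 ∧
      Nonempty (↥N ≃* Multiplicative (ZMod 2) × E) := by
  classical
  haveI : Fact (Nat.Prime 2) := ⟨Nat.prime_two⟩
  set d : ↥N := ⟨d₁, S.left_mem⟩ with hdd
  set e : ↥N := ⟨d₂, S.right_mem⟩ with hed
  set j : ↥N := d * e with hjd
  have hcomm12 : Commute d₁ d₂ := by
    have := (Subgroup.mem_centralizer_iff.mp (S.le_joint S.left_mem)) d₂ (by simp)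
    exact this.symm
  have hjne : d₁ * d₂ ≠ 1 := fun h => hne (by
    calc d₁ = d₁ * (d₂ * d₂) := by rw [h2, mul_one]
      _ = d₂ := by rw [← mul_assoc, h, one_mul])
  have hjsq : (d₁ * d₂) * (d₁ * d₂) = 1 := by
    rw [hcomm12.symm.mul_mul_mul_comm, h1, h2, mul_one]
  have hjj : ∀ x : G, x ∈ zpowers (d₁ * d₂) → x = 1 ∨ x = d₁ * d₂ := fun x hx =>
    ThreeTransM22Cent72.mem_zpowers_two (orderOf_eq_prime (by rw [pow_two]; exact hjsq) hjne) hx
  have hz : ∀ x : ↥N, (x : G) ∈ zpowers (d₁ * d₂) → x ∈ zpowers j := fun x hx => by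
    rcases hjj x hx with h | h
    · rw [show x = 1 from Subtype.ext h]; exact one_mem _
    · rw [show x = j from Subtype.ext h]; exact mem_zpowers _
  have hdS : d ∉ zpowers j := by
    intro h
    obtain ⟨k, hk⟩ := mem_zpowers_iff.mp h
    have h3 : d₁ ∈ zpowers (d₁ * d₂) := mem_zpowers_iff.mpr ⟨k, by
      have := congrArg Subtype.val hk
      rw [SubgroupClass.coe_zpow] at this
      exact this⟩
    rcases hjj _ h3 with h4 | h4
    · exact hd1 h4
    · exact hd2 (mul_eq_left.mp h4.symm)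
  have hcm : ∀ x y : ↥N, x * y * x⁻¹ * y⁻¹ ∈ zpowers j := fun x y =>
    hz _ (by simpa using S.comm x x.2 y y.2)
  have hsq : ∀ x : ↥N, x * x ∈ zpowers j := fun x => hz _ (by simpa using S.sq x x.2)
  obtain ⟨M, hjM, hdM, hMd⟩ := exists_complement (zpowers j) hdS hsq hcm
  have hjm : j ∈ M := hjM (mem_zpowers _)
  have hdd1 : d * d = 1 := Subtype.ext h1
  have hdc : ∀ x : ↥N, x * d = d * x := fun x => Subtype.ext (by
    have := (Subgroup.mem_centralizer_iff.mp (S.le_joint x.2)) d₁ (by simp)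
    exact this.symm)
  let f : Multiplicative (ZMod 2) × ↥M →* ↥N :=
    MonoidHom.mk' (fun p => (if Multiplicative.toAdd p.1 = 0 then 1 else d) * (p.2 : ↥N)) (by
      rintro ⟨a, x⟩ ⟨b, y⟩
      show (if Multiplicative.toAdd a + Multiplicative.toAdd b = 0 then 1 else d) * ((x : ↥N) * y) = _
      rcases (zmod_two_cases (Multiplicative.toAdd a)) with ha | ha <;>
        rcases (zmod_two_cases (Multiplicative.toAdd b)) with hb | hb <;>
        simp only [ha, hb, zmod_two_one, zero_add, add_zero,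
          if_true, one_ne_zero, if_false, one_mul, mul_assoc]
      · rw [← mul_assoc (x : ↥N), hdc, mul_assoc]
      · rw [← mul_assoc (x : ↥N), hdc, mul_assoc, ← mul_assoc d, hdd1, one_mul])
  have hf : Function.Bijective f := by
    constructor
    · rw [injective_iff_map_eq_one]
      rintro ⟨a, x⟩ h
      change (if Multiplicative.toAdd a = 0 then 1 else d) * (x : ↥N) = 1 at h
      by_cases ha : Multiplicative.toAdd a = 0
      · rw [if_pos ha, one_mul] at h
        exact Prod.ext (Multiplicative.toAdd.injective ha) (Subtype.ext h)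
      · rw [if_neg ha] at h
        exact absurd (eq_inv_of_mul_eq_one_left h ▸ inv_mem x.2) hdM
    · intro x
      rcases hMd x with h | h
      · exact ⟨(1, ⟨x, h⟩), by show (if (0 : ZMod 2) = 0 then 1 else d) * x = x; simp⟩
      · refine ⟨(Multiplicative.ofAdd 1, ⟨_, h⟩), ?_⟩
        show (if (1 : ZMod 2) = 0 then 1 else d) * (x * d) = x
        rw [if_neg one_ne_zero, hdc, ← mul_assoc, hdd1, one_mul]
  let eN : ↥N ≃* Multiplicative (ZMod 2) × ↥M := (MulEquiv.ofBijective f hf).symm
  have hM : Nat.card ↥M = 2 ^ 9 := by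
    have := Nat.card_congr eN.toEquiv
    rw [Nat.card_prod, S.card, Nat.card_congr Multiplicative.toAdd, Nat.card_zmod] at this
    omega
  have hext : Cfsg.IsExtraspecial 2 ↥M := by
    have hjz : Cfsg.Agent.PGroupsExtraspecial.IsCentralPrime 2 (⟨j, hjm⟩ : ↥M) := by
      refine ⟨Subgroup.mem_center_iff.mpr fun x => Subtype.ext (Subtype.ext ?_), ?_⟩
      · have := (Subgroup.mem_centralizer_iff.mp (S.joint_le (S.le_joint (x : ↥N).2))) (d₁ * d₂)
          (Set.mem_singleton _)
        exact this.symm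
      · exact orderOf_eq_prime (Subtype.ext (Subtype.ext (by simpa [pow_two, hjd, hdd, hed] using hjsq)))
          fun h => hjne (congrArg (fun z : ↥M => ((z : ↥N) : G)) h)
    have hzM : ∀ x : ↥M, (x : ↥N) ∈ zpowers j → x ∈ zpowers (⟨j, hjm⟩ : ↥M) := fun x hx => by
      obtain ⟨k, hk⟩ := mem_zpowers_iff.mp hx
      exact mem_zpowers_iff.mpr ⟨k, Subtype.ext (by rw [SubgroupClass.coe_zpow]; exact hk)⟩
    have hV : ∀ x : ↥M, ((x : ↥N) : G) ∈ closure ({d₁, d₂} : Set G) →
        x ∈ zpowers (⟨j, hjm⟩ : ↥M) := by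
      intro x hx
      refine hzM x ?_
      have hle : closure ({d₁, d₂} : Set G) ≤ (closure ({d, e} : Set ↥N)).map N.subtype := by
        rw [closure_le]
        rintro y (rfl | rfl)
        · exact ⟨d, subset_closure (by simp), rfl⟩
        · exact ⟨e, subset_closure (by simp), rfl⟩
      obtain ⟨y, hy, hye⟩ := hle hx
      have hxy : y = (x : ↥N) := Subtype.ext hye
      subst hxy
      have key : ∀ z ∈ closure ({d, e} : Set ↥N), z ∈ zpowers j ∨ z * d ∈ zpowers j := by
        intro z hzc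
        induction hzc using Subgroup.closure_induction with
        | mem w hw =>
          rcases hw with rfl | rfl
          · exact Or.inr (by rw [hdd1]; exact one_mem _)
          · exact Or.inr (by rw [hdc, ← hjd]; exact mem_zpowers _)
        | one => exact Or.inl (one_mem _)
        | mul a b _ _ ha hb =>
          rcases ha with ha | ha <;> rcases hb with hb | hb
          · exact Or.inl (mul_mem ha hb)
          · exact Or.inr (by rw [mul_assoc]; exact mul_mem ha hb)
          · exact Or.inr (by rw [mul_assoc, hdc b, ← mul_assoc]; exact mul_mem ha hb)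
          · refine Or.inl ?_
            have := mul_mem ha hb
            rwa [mul_assoc, hdc b, ← mul_assoc d, hdd1, one_mul] at this
        | inv a _ ha =>
          rcases ha with ha | ha
          · exact Or.inl (inv_mem ha)
          · refine Or.inr ?_
            have := inv_mem ha
            rwa [mul_inv_rev, inv_eq_of_mul_eq_one_right hdd1, ← hdc] at this
      rcases key _ hy with h | h
      · exact h
      · exact absurd (by simpa using mul_mem (inv_mem x.2) (hjM h)) hdM
    have hC : ∀ g : ↥M, (∀ x : ↥M, g * x = x * g) → g ∈ zpowers (⟨j, hjm⟩ : ↥M) := fun g hg => by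
      refine hV g (S.central _ (g : ↥N).2 fun y hy => ?_)
      have hgd : (g : ↥N) * d = d * (g : ↥N) := hdc _
      suffices h : (g : ↥N) * ⟨y, hy⟩ = ⟨y, hy⟩ * (g : ↥N) from congrArg Subtype.val h
      rcases hMd ⟨y, hy⟩ with h | h
      · exact congrArg Subtype.val (hg ⟨_, h⟩)
      · have h3 : (g : ↥N) * (⟨y, hy⟩ * d) = ⟨y, hy⟩ * d * (g : ↥N) :=
          congrArg Subtype.val (hg ⟨_, h⟩)
        rw [← mul_assoc, mul_assoc ⟨y, hy⟩ d, ← hgd, ← mul_assoc] at h3
        exact mul_right_cancel h3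
    refine Cfsg.Agent.SymplecticType.isExtraspecial_of (z := ⟨j, hjm⟩)
      (IsPGroup.of_card hM) hjz (fun g h => hzM _ ?_) (fun g => hzM _ ?_)
      (fun g hg => hC g fun x => (Subgroup.mem_center_iff.mp hg x).symm) ?_
    · rw [commutatorElement_def]; simpa using hcm (g : ↥N) (h : ↥N)
    · rw [pow_two]; simpa using hsq (g : ↥N)
    · by_contra hall
      push Not at hall
      have hle : (⊤ : Subgroup ↥M) ≤ zpowers (⟨j, hjm⟩ : ↥M) := fun g _ =>
        hC g fun x => commutatorElement_eq_one_iff_mul_comm.mp (hall g x)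
      have h3 := Subgroup.card_le_of_le hle
      rw [Subgroup.card_top, hM, Nat.card_zpowers, hjz.2] at h3
      norm_num at h3
  let eE : ↥M ≃* Shrink.{0} ↥M := Shrink.mulEquiv.symm
  haveI : Finite (Shrink.{0} ↥M) := Finite.of_equiv _ eE.toEquiv
  exact ⟨Shrink.{0} ↥M, inferInstance, inferInstance,
    Cfsg.Agent.GenExtraspecialSplit.isExtraspecial_equiv eE hext,
    by rw [← Nat.card_congr eE.toEquiv, hM], ⟨eN.trans (MulEquiv.prodCongr (MulEquiv.refl _) eE)⟩⟩

/-- A normal 2-subgroup of the automorphism group of `PSU₄(2)` is trivial. -/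
theorem two_bot {F : Type} [Field F] [Fintype F] (hF : Fintype.card F = 4)
    (P : Subgroup (MulAut (Cfsg.PSU 4 F 2))) [P.Normal] (hP : IsPGroup 2 P) : P = ⊥ := by
  haveI : Fact (Nat.Prime 2) := ⟨Nat.prime_two⟩
  haveI : UnitaryF4Geo.FourField F := ⟨hF⟩
  haveI := OrthUnitaryPSU.isSimpleGroup_PSU (n := 4) (F := F) (q := 2) UnitaryF4Line.hF4
    (by norm_num) (by norm_num)
  haveI : Finite (MulAut (Cfsg.PSU 4 F 2)) := Finite.of_injective _ DFunLike.coe_injective
  set c : Cfsg.PSU 4 F 2 →* MulAut (Cfsg.PSU 4 F 2) := MulAut.conj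
  rcases (Subgroup.Normal.comap (inferInstance : P.Normal) c).eq_bot_or_eq_top with h | h
  · rw [eq_bot_iff]
    intro a ha
    rw [Subgroup.mem_bot]
    refine MulEquiv.ext fun x => ?_
    have hm : a x * x⁻¹ ∈ P.comap c := by
      rw [Subgroup.mem_comap, map_mul, map_inv,
        show c (a x) = a * c x * a⁻¹ from MulEquiv.ext fun y => by
          simp [c, MulAut.conj_apply, map_mul, map_inv], mul_assoc, mul_assoc, ← mul_assoc (c x)]
      exact mul_mem ha ((inferInstance : P.Normal).conj_mem _ (inv_mem ha) _)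
    rw [h, Subgroup.mem_bot] at hm
    exact mul_inv_eq_one.mp hm
  · exfalso
    obtain ⟨k, hk⟩ := IsPGroup.iff_card.mp hP
    have hinj : Function.Injective c := by
      rw [injective_iff_map_eq_one]
      intro x hx
      have : x ∈ Subgroup.center (Cfsg.PSU 4 F 2) := Subgroup.mem_center_iff.mpr fun y =>
        ((mul_inv_eq_iff_eq_mul.mp (by simpa [c] using DFunLike.congr_fun hx y)) : x * y = y * x).symm
      rwa [ThreeTransM22TwoCent48.psu_center, Subgroup.mem_bot] at this
    have h1 : Nat.card (Cfsg.PSU 4 F 2) ∣ 2 ^ k := by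
      rw [← hk, Nat.card_congr (MonoidHom.ofInjective hinj).toEquiv]
      refine Subgroup.card_dvd_of_le ?_
      rintro _ ⟨x, rfl⟩
      exact Subgroup.mem_comap.mp (h ▸ Subgroup.mem_top x)
    rw [OrthMinusSixTwoAut48.card_PSU_four hF] at h1
    have h3 : 3 ∣ 2 ^ k := (show 3 ∣ 25920 by norm_num).trans h1
    have := Nat.Prime.dvd_of_dvd_pow Nat.prime_three h3
    norm_num at this

/-- The generalized Fitting subgroup. -/
theorem gen_eq {d₁ d₂ : G} {N : Subgroup G} (S : Structure d₁ d₂ N) :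
    Cfsg.generalizedFittingSubgroup ↥(centralizer ({d₁ * d₂} : Set G)) =
      N.subgroupOf (centralizer ({d₁ * d₂} : Set G)) := by
  haveI : Fact (Nat.Prime 2) := ⟨Nat.prime_two⟩
  obtain ⟨hn, F, _, _, hF, ⟨e⟩⟩ := S.quot
  set C := centralizer ({d₁ * d₂} : Set G)
  set Nc := N.subgroupOf C with hNc
  haveI := hn
  have hle : N ≤ C := S.le_joint.trans S.joint_le
  have hp : IsPGroup 2 Nc := IsPGroup.of_card (n := 10) (by
    rw [Nat.card_congr (subgroupOfEquivOfLe hle).toEquiv, S.card])
  have hcore : Cfsg.pCore 2 ↥C = Nc := by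
    refine le_antisymm ?_ (ComponentsCores.le_pCore' hp)
    set f : ↥C →* MulAut (Cfsg.PSU 4 F 2) := e.toMonoidHom.comp (QuotientGroup.mk' Nc) with hf
    have hfs : Function.Surjective f := e.surjective.comp (QuotientGroup.mk'_surjective _)
    haveI : ((Cfsg.pCore 2 ↥C).map f).Normal := Subgroup.Normal.map inferInstance f hfs
    have h1 := two_bot hF ((Cfsg.pCore 2 ↥C).map f) ((ComponentsCores.isPGroup_pCore 2).map f)
    rw [Subgroup.map_eq_bot_iff] at h1
    refine h1.trans (fun x hx => ?_)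
    rw [MonoidHom.mem_ker, hf, MonoidHom.comp_apply] at hx
    exact (QuotientGroup.eq_one_iff x).mp (e.injective (by rw [map_one]; exact hx))
  have hchar : Cfsg.IsOfCharacteristicTwo ↥C := by
    show centralizer (Cfsg.pCore 2 ↥C : Set ↥C) ≤ Cfsg.pCore 2 ↥C
    rw [hcore]
    intro c hc
    rw [hNc, mem_subgroupOf]
    refine S.self c c.2 fun x hx => ?_
    have := Subgroup.mem_centralizer_iff.mp hc ⟨x, hle hx⟩ (mem_subgroupOf.mpr hx)
    exact (congrArg Subtype.val this).symm
  rw [CharTwoLocal.gen_eq_of_charTwo hchar, hcore]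

end Cfsg.Agent.ThreeTransM22TwoFstar48
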