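import Cfsg.Agent.Lib.ThreeTransM22TwoOuter48

/-!
# Type M(22): the centralizer of a product of two commuting members

`C(d₁d₂)` has a normal subgroup `N` of order `2^10` with quotient `Aut PSU₄(2)`.
-/

set_option autoImplicit false
set_option linter.unusedSectionVars false
set_option linter.style.haveILetI false

namespace Cfsg.Agent.ThreeTransM22TwoMain48

open Subgroup
open Cfsg.Agent.ThreeTransRel Cfsg.Agent.ThreeTransDescent
open Cfsg.Agent.UnitaryF4Geo
open Cfsg.Agent.ThreeTransM22Lift72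
open Cfsg.Agent.ThreeTransM22Triples17
open Cfsg.Agent.ThreeTransM22TwoCent48 Cfsg.Agent.ThreeTransM22TwoBlock48
open Cfsg.Agent.ThreeTransM22TwoOuter48

variable {G : Type*} [Group G] [Finite G] {D : Set G}
variable {F : Type} [Field F] [Fintype F] [hF : FourField F]
variable {d : G} {φ : ↥(loc D d) →* Cfsg.PSU 6 F 2}

/-- What is proved about the centralizer. -/
structure Structure (d₁ d₂ : G) (N : Subgroup G) : Prop where
  le_joint : N ≤ centralizer ({d₁, d₂} : Set G)
  joint_le : centralizer ({d₁, d₂} : Set G) ≤ centralizer ({d₁ * d₂} : Set G)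
  index : ((centralizer ({d₁, d₂} : Set G)).subgroupOf (centralizer ({d₁ * d₂} : Set G))).index = 2
  centre : (Subgroup.center ↥(centralizer ({d₁, d₂} : Set G))).map
    (centralizer ({d₁, d₂} : Set G)).subtype = closure ({d₁, d₂} : Set G)
  card : Nat.card ↥N = 2 ^ 10
  left_mem : d₁ ∈ N
  right_mem : d₂ ∈ N
  comm : ∀ g ∈ N, ∀ x ∈ N, g * x * g⁻¹ * x⁻¹ ∈ zpowers (d₁ * d₂)
  sq : ∀ x ∈ N, x * x ∈ zpowers (d₁ * d₂)
  central : ∀ g ∈ N, (∀ x ∈ N, Commute g x) → g ∈ closure ({d₁, d₂} : Set G)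
  conj : ∀ c ∈ centralizer ({d₁ * d₂} : Set G), ∀ x ∈ N, c * x * c⁻¹ ∈ N
  self : ∀ c ∈ centralizer ({d₁ * d₂} : Set G), (∀ x ∈ N, Commute c x) → c ∈ N
  quot : ∃ (_ : (N.subgroupOf (centralizer ({d₁ * d₂} : Set G))).Normal) (F : Type) (_ : Field F)
    (_ : Fintype F), Fintype.card F = 4 ∧
      Nonempty (↥(centralizer ({d₁ * d₂} : Set G)) ⧸
        N.subgroupOf (centralizer ({d₁ * d₂} : Set G)) ≃* MulAut (Cfsg.PSU 4 F 2))

section

variable (X : Ctx D d φ) (H : Env D F)
include X H

theorem main_at : Structure d (second X) (core X (hcd X H)) := by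
  classical
  set hc := hcd X H
  set C := centralizer ({d * second X} : Set G) with hC
  set K := joint X with hKdef
  have hKC : K ≤ C := joint_le_cent X H
  have hK : (K.subgroupOf C).index = 2 := by
    obtain ⟨g, hg1, hg2⟩ := exists_swap X H
    have hgC : g ∈ C := by
      rw [hC, mem_centralizer_singleton_iff]
      refine conj_one_iff_commute.mp ?_
      rw [show g * (d * second X) * g⁻¹ = (g * d * g⁻¹) * (g * second X * g⁻¹) by group, hg1, hg2]
      exact (second_mem X).2.2.symm.eq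
    have h := card_eq_mul C {d, second X} (a := d) (Set.mem_insert ..)
      (fun k hk => by
        rcases perm_two X H hk with h | ⟨h1, -⟩
        · rw [conj_one_iff_commute.mpr ((mem_joint X).mp h).1]; exact Set.mem_insert ..
        · rw [h1]; simp)
      (by
        rintro y (rfl | rfl)
        · exact ⟨1, one_mem _, by simp⟩
        · exact ⟨g, hgC, hg1⟩)
    have e : C ⊓ centralizer ({d} : Set G) = K := by
      ext k
      rw [mem_inf]
      refine ⟨fun ⟨h1, h2⟩ => (perm_two X H h1).resolve_right fun ⟨h3, _⟩ => (second_mem X).2.1 ?_,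
        fun hk => ⟨hKC hk, mem_centralizer_singleton_iff.mpr ((mem_joint X).mp hk).1.eq⟩⟩
      rw [← h3]; exact conj_one_iff_commute.mpr (mem_centralizer_singleton_iff.mp h2)
    rw [e, Set.ncard_pair (second_mem X).2.1.symm] at h
    have h2 := (K.subgroupOf C).index_mul_card
    rw [Nat.card_congr (subgroupOfEquivOfLe hKC).toEquiv, h] at h2
    exact Nat.eq_of_mul_eq_mul_right Nat.card_pos h2
  obtain ⟨he, hcard, -⟩ := quot_data X hc
  set N := core X hc with hN
  have hNK : N ≤ K := core_le X hc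
  set Nc := N.subgroupOf C with hNc
  haveI hnorm : Nc.Normal := ⟨fun n hn g => by
    rw [hNc, mem_subgroupOf] at hn ⊢
    exact core_conj X H g.2 hn⟩
  haveI : (K.subgroupOf C).Normal := Subgroup.normal_of_index_eq_two hK
  set q := QuotientGroup.mk' Nc with hq
  set Kb := (K.subgroupOf C).map q with hKb
  haveI : Kb.Normal := Subgroup.Normal.map inferInstance q (QuotientGroup.mk'_surjective Nc)
  obtain ⟨er⟩ := range_equiv X H
  -- `K/N` is the simple group
  have eK : Nonempty (↥Kb ≃* Cfsg.PSU 4 F 2) := by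
    set fK : ↥(K.subgroupOf C) →* ↥Kb := q.subgroupMap (K.subgroupOf C)
    have hfs : Function.Surjective fK := q.subgroupMap_surjective _
    set gK : ↥(K.subgroupOf C) →* (quot X hc).range :=
      (quot X hc).rangeRestrict.comp (subgroupOfEquivOfLe hKC).toMonoidHom
    have hgs : Function.Surjective gK :=
      (quot X hc).rangeRestrict_surjective.comp (subgroupOfEquivOfLe hKC).surjective
    have hker : fK.ker = gK.ker := by
      ext x
      have h1 : x ∈ fK.ker ↔ ((x : ↥C) : G) ∈ N := by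
        rw [MonoidHom.mem_ker, ← Subtype.coe_inj]
        show q (x : ↥C) = 1 ↔ _
        rw [hq, QuotientGroup.mk'_apply, QuotientGroup.eq_one_iff, hNc, mem_subgroupOf]
      have h2 : x ∈ gK.ker ↔ ((x : ↥C) : G) ∈ N := by
        rw [MonoidHom.mem_ker, ← Subtype.coe_inj]
        show quot X hc (subgroupOfEquivOfLe hKC x) = 1 ↔ _
        rw [← MonoidHom.mem_ker]
        constructor
        · exact fun h => ⟨_, h, rfl⟩
        · rintro ⟨k, hk, e⟩
          have : k = subgroupOfEquivOfLe hKC x := Subtype.ext e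
          rwa [← this]
      rw [h1, h2]
    exact ⟨((QuotientGroup.quotientKerEquivOfSurjective fK hfs).symm.trans
      ((QuotientGroup.quotientMulEquivOfEq hker).trans
        (QuotientGroup.quotientKerEquivOfSurjective gK hgs))).trans er⟩
  obtain ⟨eK⟩ := eK
  haveI := OrthUnitaryPSU.isSimpleGroup_PSU (n := 4) (F := F) (q := 2) UnitaryF4Line.hF4
    (by norm_num) (by norm_num)
  haveI : IsSimpleGroup ↥Kb := eK.isSimpleGroup
  let θ : (↥C ⧸ Nc) →* MulAut ↥Kb := MulAut.conjNormal
  have hinj : Function.Injective θ := by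
    rw [injective_iff_map_eq_one]
    intro x hx
    obtain ⟨z, rfl⟩ := QuotientGroup.mk_surjective x
    have hzc : ∀ k : ↥Kb, (z : ↥C ⧸ Nc) * k * (z : ↥C ⧸ Nc)⁻¹ = k := fun k => by
      have := congrArg Subtype.val (DFunLike.congr_fun hx k)
      simpa [θ, MulAut.conjNormal_apply] using this
    have hall : ∀ k ∈ K, (z : G) * k * (z : G)⁻¹ * k⁻¹ ∈ N := by
      intro k hk
      have h1 : q z * q ⟨k, hKC hk⟩ * (q z)⁻¹ = q ⟨k, hKC hk⟩ :=
        hzc ⟨_, mem_map_of_mem q (mem_subgroupOf.mpr hk)⟩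
      rw [← mul_inv_eq_one, ← map_inv, ← map_inv, ← map_mul, ← map_mul, ← map_mul, hq,
        QuotientGroup.mk'_apply, QuotientGroup.eq_one_iff, hNc, mem_subgroupOf] at h1
      exact h1
    by_cases hzK : (z : G) ∈ K
    · have h1 : (⟨q z, mem_map_of_mem q (mem_subgroupOf.mpr hzK)⟩ : ↥Kb) ∈ Subgroup.center ↥Kb :=
        Subgroup.mem_center_iff.mpr fun k => Subtype.ext
          (mul_inv_eq_iff_eq_mul.mp (hzc k)).symm
      have h3 : Subgroup.center ↥Kb = ⊥ := by
        rcases (inferInstance : (Subgroup.center ↥Kb).Normal).eq_bot_or_eq_top with h | h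
        · exact h
        · exfalso
          have hz : Subgroup.center (Cfsg.PSU 4 F 2) = ⊤ := eq_top_iff.mpr fun a _ =>
            Subgroup.mem_center_iff.mpr fun b => by
              obtain ⟨a, rfl⟩ := eK.surjective a
              obtain ⟨b, rfl⟩ := eK.surjective b
              rw [← map_mul, ← map_mul, Subgroup.mem_center_iff.mp (h ▸ Subgroup.mem_top a) b]
          rw [psu_center] at hz
          exact bot_ne_top hz
      rw [h3, Subgroup.mem_bot] at h1
      exact congrArg Subtype.val h1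
    · exact (outer X H z.2 hzK hall).elim
  have hidx : Nc ≤ K.subgroupOf C := fun x hx => by
    rw [mem_subgroupOf] at hx ⊢; exact hNK hx
  have hcardQ : Nat.card (↥C ⧸ Nc) = 2 * 25920 := by
    have h1 := Kb.index_mul_card
    rw [Nat.card_congr eK.toEquiv, OrthMinusSixTwoAut48.card_PSU_four hF.card_eq, hKb,
      Subgroup.index_map_eq _ (QuotientGroup.mk'_surjective Nc)
        (by rw [QuotientGroup.ker_mk']; exact hidx), hK] at h1
    exact h1.symm
  haveI : Finite (MulAut ↥Kb) := Finite.of_injective _ DFunLike.coe_injective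
  have hbij : Function.Bijective θ := (Nat.bijective_iff_injective_and_card θ).2 ⟨hinj, by
    rw [hcardQ, Nat.card_congr (MulAut.congr eK).toEquiv,
      OrthMinusSixTwoAut48.card_mulAut_four hF.card_eq]⟩
  have hself : ∀ c ∈ C, (∀ x ∈ N, Commute c x) → c ∈ N := by
    set Z : Subgroup ↥C := centralizer (Nc : Set ↥C) with hZ
    haveI : Z.Normal := Subgroup.normal_centralizer
    set M := Z.map q
    haveI : M.Normal := Subgroup.Normal.map inferInstance q (QuotientGroup.mk'_surjective Nc)
    rcases (inferInstance : (M.subgroupOf Kb).Normal).eq_bot_or_eq_top with h | h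
    · intro c hcC hcomm
      have hcz : (⟨c, hcC⟩ : ↥C) ∈ Z := Subgroup.mem_centralizer_iff.mpr fun n hn =>
        Subtype.ext (hcomm n (mem_subgroupOf.mp hn)).eq.symm
      have h1 : θ (q ⟨c, hcC⟩) = 1 := by
        apply MulEquiv.ext
        intro k
        refine Subtype.ext ?_
        rw [MulAut.conjNormal_apply, MulAut.one_apply]
        have hmem : q ⟨c, hcC⟩ * (k : ↥C ⧸ Nc) * (q ⟨c, hcC⟩)⁻¹ * (k : ↥C ⧸ Nc)⁻¹ ∈ M ⊓ Kb := by
          refine Subgroup.mem_inf.mpr ⟨?_, mul_mem ((inferInstance : Kb.Normal).conj_mem _ k.2 _) (inv_mem k.2)⟩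
          rw [mul_assoc, mul_assoc, ← mul_assoc (k : ↥C ⧸ Nc)]
          exact mul_mem (mem_map_of_mem q hcz)
            ((inferInstance : M.Normal).conj_mem _ (inv_mem (mem_map_of_mem q hcz)) _)
        have h2 : (⟨_, hmem.2⟩ : ↥Kb) ∈ M.subgroupOf Kb := mem_subgroupOf.mpr hmem.1
        rw [h, Subgroup.mem_bot] at h2
        exact mul_inv_eq_one.mp (congrArg Subtype.val h2)
      have h3 := (map_eq_one_iff θ hinj).mp h1
      rw [hq, QuotientGroup.mk'_apply, QuotientGroup.eq_one_iff, hNc, mem_subgroupOf] at h3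
      exact h3
    · exfalso
      refine joint_moves X H fun k hk x hx => ?_
      have hkM : q ⟨k, hKC hk⟩ ∈ M := Subgroup.mem_subgroupOf.mp
        (h ▸ Subgroup.mem_top (⟨_, mem_map_of_mem q (mem_subgroupOf.mpr hk)⟩ : ↥Kb))
      obtain ⟨c, hcZ, hce⟩ := hkM
      have hn : (c : G)⁻¹ * k ∈ N := by
        have := (QuotientGroup.eq (s := Nc)).mp hce
        rw [hNc, mem_subgroupOf] at this
        simpa using this
      set n := (c : G)⁻¹ * k with hndef
      have hcx : ∀ y ∈ N, Commute (c : G) y := fun y hy => by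
        have := Subgroup.mem_centralizer_iff.mp hcZ ⟨y, hKC (hNK hy)⟩ (mem_subgroupOf.mpr hy)
        exact (congrArg Subtype.val this).symm
      have hnx : n * x * n⁻¹ ∈ N := mul_mem (mul_mem hn hx) (inv_mem hn)
      rw [show k * x * k⁻¹ = (c : G) * (n * x * n⁻¹) * (c : G)⁻¹ by rw [hndef]; group,
        conj_one_iff_commute.mpr (hcx _ hnx)]
      exact comm_mem X hc hn hx
  refine ⟨hNK, hKC, hK, ?_, hcard, d_mem X hc, second_mem_core X hc,
    fun g hg x hx => comm_mem X hc hg hx, fun x hx => sq_mem X hc hx,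
    fun g hg hall => central_core X hc hg hall, fun c hcC x hx => core_conj X H hcC hx, hself,
    hnorm, F, inferInstance, inferInstance, hF.card_eq,
    ⟨(MulEquiv.ofBijective θ hbij).trans (MulAut.congr eK)⟩⟩
  refine le_antisymm ?_ ((closure_le _).mpr ?_)
  · rintro _ ⟨z, hz, rfl⟩
    have hcomm : ∀ k ∈ K, Commute (z : G) k := fun k hk =>
      ((congrArg Subtype.val (Subgroup.mem_center_iff.mp hz ⟨k, hk⟩)) :).symm
    refine central_core X hc (hself _ (hKC z.2) fun x hx => hcomm x (hNK hx))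
      fun x hx => hcomm x (hNK hx)
  · rintro y hy
    have hyK : y ∈ K := by
      rcases hy with rfl | rfl
      · exact hNK (d_mem X hc)
      · exact hNK (second_mem_core X hc)
    refine ⟨⟨y, hyK⟩, Subgroup.mem_center_iff.mpr fun k => Subtype.ext ?_, rfl⟩
    obtain ⟨k1, k2⟩ := (mem_joint X).mp k.2
    rcases hy with rfl | rfl
    · exact k1.eq
    · exact k2.eq

end

/-- Type M(22): the structure of the centralizer of a product. -/
theorem main (hD : Cfsg.IsThreeTranspositionGroup D) (hprim : Cfsg.IsPrimitiveUnderConj D)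
    (h22 : Cfsg.IsOfTypeM22 G D) {d₁ d₂ : G} (h₁ : d₁ ∈ D) (h₂ : d₂ ∈ D) (hne : d₁ ≠ d₂)
    (hcomm : Commute d₁ d₂) : ∃ N : Subgroup G, Structure d₁ d₂ N := by
  obtain ⟨F, _, _, _, hctx⟩ := exists_ctx hD hprim h22
  have hcent := ThreeTransM22Outer72.centralizer_eq_loc hD hprim h22
  obtain ⟨φ₀, X₀⟩ := hctx d₁ h₁
  obtain ⟨φ, X, hX⟩ := exists_ctx_at X₀ (a := d₂) ⟨h₂, hne.symm, hcomm⟩
  subst hX
  exact ⟨_, main_at X ⟨hctx, hcent⟩⟩

end Cfsg.Agent.ThreeTransM22TwoMain48
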