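import Cfsg.Agent.Lib.ThreeTransM22TwoBlock48

/-!
# The centralizer of the product of two commuting members
-/

set_option autoImplicit false
set_option linter.unusedSectionVars false
set_option linter.style.haveILetI false

namespace Cfsg.Agent.ThreeTransM22TwoOuter48

open Subgroup
open Cfsg.Agent.ThreeTransRel Cfsg.Agent.ThreeTransDescent
open Cfsg.Agent.UnitaryF4Geo Cfsg.Agent.UnitaryF4Line
open Cfsg.Agent.ThreeTransM22Local72 Cfsg.Agent.ThreeTransM22Lift72
open Cfsg.Agent.ThreeTransM22Triples17 Cfsg.Agent.ThreeTransM22PointStab48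
open Cfsg.Agent.ThreeTransM22TwoCent48 Cfsg.Agent.ThreeTransM22TwoBlock48
open Cfsg.Agent.ThreeTransM22Frame72 (Frame exists_isometry)
open Cfsg.Agent.OrthUnitaryTransvection (su_ext act_mul act_one)
open scoped Matrix

variable {G : Type*} [Group G] [Finite G] {D : Set G}
variable {F : Type} [Field F] [Fintype F] [hF : FourField F]
variable {d : G} {φ : ↥(loc D d) →* Cfsg.PSU 6 F 2}

local notation "π" => QuotientGroup.mk' (Subgroup.center (Cfsg.SU 6 F 2))
local notation "act" => OrthUnitaryTransvection.act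

/-- The facts used about all members. -/
structure Env (D : Set G) (F : Type) [Field F] [Fintype F] [FourField F] : Prop where
  ctx : ∀ s ∈ D, ∃ φ : ↥(loc D s) →* Cfsg.PSU 6 F 2, Ctx D s φ
  cent : ∀ s ∈ D, centralizer ({s} : Set G) = loc D s

variable (X : Ctx D d φ) (H : Env D F)
include X H

local notation "L" => Chart.L X.chart

theorem hcd : centralizer ({d} : Set G) = loc D d := H.cent d X.mem

/-- Commuting with `d`, the second member and the first point of a block. -/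
theorem commute_block {v : Fin 4 → F} (hv : Iso4 v) {y : G} (hy : y ∈ D) (hyd : Commute y d)
    (hys : Commute y (second X)) (hya : Commute y (pt X v 0)) (t : F) : Commute y (pt X v t) := by
  by_cases e : y = d
  · rw [e]; exact (pt_mem X hv t).2.2
  obtain ⟨x, hx, hx0, rfl⟩ := L_surj X (show y ∈ near D d from ⟨hy, e, hyd.symm⟩)
  have e1 := (L_comm X hx hx0 iso_u0 u0_ne).mp hys
  have e2 := (L_comm X hx hx0 (hv.vec 0).1 (hv.vec 0).2.1).mp hya
  rw [zero_vec] at e2
  refine (L_comm X hx hx0 (hv.vec t).1 (hv.vec t).2.1).mpr ?_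
  rw [h_add_right, h_smul_right, e1, e2, mul_zero, add_zero]

/-- An element exchanging the two members cannot fix three members of a block. -/
theorem swap_false {z : G} (h1 : z * d * z⁻¹ = second X) (h2 : z * second X * z⁻¹ = d)
    {v : Fin 4 → F} (hv : Iso4 v) {w : F} (hw : w ^ 2 = w + 1)
    (ha : z * pt X v 0 * z⁻¹ = pt X v 0) (hb : z * pt X v 1 * z⁻¹ = pt X v 1)
    (hcw : z * pt X v w * z⁻¹ = pt X v w) : False := by
  set a := pt X v 0
  have haD : a ∈ D := (pt_mem X hv 0).1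
  obtain ⟨ψ, Y⟩ := H.ctx a haD
  have hza : z ∈ loc D a := by
    rw [← H.cent a haD, mem_centralizer_singleton_iff]
    exact conj_one_iff_commute.mp ha
  have hnd : d ∈ near D a := ⟨X.mem, (pt_mem X hv 0).2.1.symm, (pt_mem X hv 0).2.2.symm⟩
  have hns : second X ∈ near D a :=
    ⟨(second_mem X).1, (pt_ne_second X hv 0).symm, pt_comm_second X hv 0⟩
  have hnt : ∀ t : F, t ≠ 0 → pt X v t ∈ near D a := fun t ht =>
    ⟨(pt_mem X hv t).1, fun e => ht (pt_inj X hv e), pt_comm X hv 0 t⟩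
  obtain ⟨p, hp, hp0, ep⟩ := L_surj Y hnd
  obtain ⟨q, hq, hq0, eq⟩ := L_surj Y hns
  have hpq : h p q = 0 := (L_comm Y hp hp0 hq hq0).mp (by
    rw [ep, eq]; exact (second_mem X).2.2)
  have hli : LinearIndependent F ![p, q] := by
    refine (LinearIndependent.pair_iff' hp0).mpr fun c e => (second_mem X).2.1 ?_
    have hc0 : c ≠ 0 := fun h0 => hq0 (by rw [← e, h0, zero_smul])
    rw [← eq, ← e, L_smul Y hp hp0 hc0, ep]
  obtain ⟨A, hA⟩ := QuotientGroup.mk'_surjective (Subgroup.center (Cfsg.SU 6 F 2)) (ψ ⟨z, hza⟩)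
  have himg : ∀ (x x' : Fin 6 → F), h x x = 0 → x ≠ 0 → h x' x' = 0 → x' ≠ 0 →
      z * Chart.L Y.chart x * z⁻¹ = Chart.L Y.chart x' → ∃ c : F, act A x = c • x' := by
    intro x x' hx hx0 hx' hx'0 e
    obtain ⟨c, -, hc⟩ := L_inj Y ((h_act A x x).trans hx) (act_ne A hx0) hx' hx'0
      ((L_conj Y hA.symm hx hx0).symm.trans e)
    exact ⟨c, hc⟩
  obtain ⟨l, hl⟩ := himg p q hp hp0 hq hq0 (by rw [ep, eq]; exact h1)
  obtain ⟨m, hm⟩ := himg q p hq hq0 hp hp0 (by rw [ep, eq]; exact h2)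
  -- a fixed member of the line gives the ratio
  have key : ∀ t : F, t ≠ 0 → z * pt X v t * z⁻¹ = pt X v t →
      ∃ x : F, x ≠ 0 ∧ l = x ^ 2 * m ∧ h (p + x • q) (p + x • q) = 0 ∧
        pt X v t = Chart.L Y.chart (p + x • q) := by
    intro t ht hfix
    obtain ⟨r, hr, hr0, er⟩ := L_surj Y (hnt t ht)
    have hspan : r ∈ Submodule.span F {p, q} := by
      refine mem_span_of_perp (by norm_num) hp hq fun x hx hxp hxq => ?_
      by_cases hx0 : x = 0
      · rw [hx0, h_zero_left]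
      refine (L_comm Y hx hx0 hr hr0).mp ?_
      rw [er]
      have hy := L_mem Y hx hx0
      refine commute_block X H hv hy.1 ?_ ?_ hy.2.2.symm t
      · rw [← ep]; exact (L_comm Y hx hx0 hp hp0).mpr hxp
      · rw [← eq]; exact (L_comm Y hx hx0 hq hq0).mpr hxq
    obtain ⟨α, β, rfl⟩ := Submodule.mem_span_pair.mp hspan
    have hα : α ≠ 0 := by
      intro h0
      have hβ : β ≠ 0 := fun hb0 => hr0 (by rw [h0, hb0]; simp)
      rw [h0, zero_smul, zero_add, L_smul Y hq hq0 hβ, eq] at er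
      exact pt_ne_second X hv t er.symm
    have hβ : β ≠ 0 := by
      intro h0
      rw [h0, zero_smul, add_zero, L_smul Y hp hp0 hα, ep] at er
      exact (pt_mem X hv t).2.1 er.symm
    obtain ⟨n, hn⟩ := himg _ _ hr hr0 hr hr0 (by rw [er]; exact hfix)
    have e : (β * m - n * α) • p + (α * l - n * β) • q = 0 := by
      rw [act_add', act_smul', act_smul', hl, hm] at hn
      simp only [sub_smul, mul_smul]
      linear_combination (norm := module) hn
    obtain ⟨e1, e2⟩ := LinearIndependent.pair_iff.mp hli _ _ e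
    have hx0 : β / α ≠ 0 := div_ne_zero hβ hα
    have hxv : p + (β / α) • q = α⁻¹ • (α • p + β • q) := by
      rw [smul_add, smul_smul, smul_smul, inv_mul_cancel₀ hα, one_smul, div_eq_inv_mul]
    refine ⟨β / α, hx0, ?_, ?_, ?_⟩
    · field_simp
      linear_combination α * e2 - β * e1
    · rw [hxv, h_smul_left, h_smul_right, hr, mul_zero, mul_zero]
    · rw [hxv, L_smul Y hr hr0 (inv_ne_zero hα), er]
  obtain ⟨hw0, hw1⟩ := omega_ne hw
  obtain ⟨x, -, hx, -, ex⟩ := key 1 one_ne_zero hb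
  obtain ⟨y, -, hy, -, ey⟩ := key w hw0 hcw
  have hm0 : m ≠ 0 := fun h0 => act_ne A hq0 (by rw [hm, h0, zero_smul])
  have hxy : x ^ 2 = y ^ 2 := mul_right_cancel₀ hm0 (hx.symm.trans hy)
  have : x = y := by rw [← sq_sq x, hxy, sq_sq]
  rw [this, ← ey] at ex
  exact hw1 (pt_inj X hv ex).symm

/-- The centralizer of the product permutes the two members. -/
theorem perm_two {g : G} (hg : g ∈ centralizer ({d * second X} : Set G)) :
    g ∈ joint X ∨ (g * d * g⁻¹ = second X ∧ g * second X * g⁻¹ = d) := by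
  have hcl : ∀ x y : G, x ∈ D → y ∈ D → x ≠ y → Commute x y → CList D [x, y] := fun x y hx hy hn he =>
    ⟨by simp [hx, hy], by simp [hn], by simp [he, he.symm]⟩
  have hd := X.mem
  have hs := second_mem X
  have hj : g * (d * second X) * g⁻¹ = d * second X :=
    conj_one_iff_commute.mpr (mem_centralizer_singleton_iff.mp hg)
  have he := ThreeTransPairs.pair_unique X.ts X.prim
    (hcl _ _ (X.ts.conj g d hd) (X.ts.conj g _ hs.1)
      (fun e => hs.2.1 (mul_left_cancel (mul_right_cancel e)).symm)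
      ((Commute.conj_iff g).mpr hs.2.2)) rfl
    (hcl _ _ hd hs.1 hs.2.1.symm hs.2.2) rfl (by
      simp only [List.prod_cons, List.prod_nil, mul_one]
      rw [show g * d * g⁻¹ * (g * second X * g⁻¹) = g * (d * second X) * g⁻¹ by group, hj])
  simp only [List.mem_cons, List.not_mem_nil, or_false] at he
  have hne : g * d * g⁻¹ ≠ g * second X * g⁻¹ :=
    fun e => hs.2.1 (mul_left_cancel (mul_right_cancel e)).symm
  rcases (he (g * d * g⁻¹)).mp (Or.inl rfl) with h1 | h1 <;>
    rcases (he (g * second X * g⁻¹)).mp (Or.inr rfl) with h2 | h2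
  · exact absurd (h1.trans h2.symm) hne
  · exact Or.inl ((mem_joint X).mpr ⟨conj_one_iff_commute.mp h1, conj_one_iff_commute.mp h2⟩)
  · exact Or.inr ⟨h1, h2⟩
  · exact absurd (h1.trans h2.symm) hne

theorem joint_le_cent : joint X ≤ centralizer ({d * second X} : Set G) := fun _ hg =>
  mem_centralizer_singleton_iff.mpr (j_central X (hcd X H) hg).eq

/-- An exchanging element exists. -/
theorem exists_swap : ∃ g : G, g * d * g⁻¹ = second X ∧ g * second X * g⁻¹ = d := by
  have hs := second_mem X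
  obtain ⟨g, hg⟩ := X.prim.1 d X.mem _ hs.1
  obtain ⟨ψ, Y⟩ := H.ctx _ hs.1
  have h1 : g * second X * g⁻¹ ∈ near D (second X) := ⟨X.ts.conj g _ hs.1,
    fun e => hs.2.1 (mul_left_cancel (mul_right_cancel (e.trans hg.symm))),
    (by
      have := (Commute.conj_iff g).mpr hs.2.2
      rwa [hg] at this)⟩
  obtain ⟨k, hk, hkd⟩ := near_trans Y h1
    (show d ∈ near D (second X) from ⟨X.mem, hs.2.1.symm, hs.2.2.symm⟩)
  refine ⟨k * g, ?_, ?_⟩
  · rw [show k * g * d * (k * g)⁻¹ = k * (g * d * g⁻¹) * k⁻¹ by group, hg]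
    exact conj_one_iff_commute.mpr (commute_d_of_mem_loc hk).symm
  · rw [show k * g * second X * (k * g)⁻¹ = k * (g * second X * g⁻¹) * k⁻¹ by group, hkd]

theorem conj_joint {g k : G} (hg : g ∈ centralizer ({d * second X} : Set G)) (hk : k ∈ joint X) :
    g * k * g⁻¹ ∈ joint X := by
  obtain ⟨k1, k2⟩ := (mem_joint X).mp hk
  rw [mem_joint X]
  rcases perm_two X H hg with h | ⟨h1, h2⟩
  · have := (mem_joint X).mp (mul_mem (mul_mem h hk) (inv_mem h))
    exact this
  · exact ⟨h2 ▸ (Commute.conj_iff g).mpr k2, h1 ▸ (Commute.conj_iff g).mpr k1⟩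

/-- The quotient is the simple group. -/
theorem range_equiv :
    Nonempty ((quot X (hcd X H)).range ≃* Cfsg.PSU 4 F 2) := by
  obtain ⟨e, -, -⟩ := quot_data X (hcd X H)
  have hinj : Function.Injective (MulAut.conj : Cfsg.PSU 4 F 2 →* _) := by
    rw [injective_iff_map_eq_one]
    intro x hx
    have : x ∈ Subgroup.center (Cfsg.PSU 4 F 2) := Subgroup.mem_center_iff.mpr fun y =>
      ((mul_inv_eq_iff_eq_mul.mp (by simpa using DFunLike.congr_fun hx y)) : x * y = y * x).symm
    rwa [psu_center, Subgroup.mem_bot] at this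
  exact ⟨(MulEquiv.subgroupCongr e).trans (MonoidHom.ofInjective hinj).symm⟩

/-- The core is invariant. -/
theorem core_conj {g x : G} (hg : g ∈ centralizer ({d * second X} : Set G))
    (hx : x ∈ core X (hcd X H)) : g * x * g⁻¹ ∈ core X (hcd X H) := by
  set q := quot X (hcd X H)
  obtain ⟨e⟩ := range_equiv X H
  haveI := OrthUnitaryPSU.isSimpleGroup_PSU (n := 4) (F := F) hF4 (by norm_num) (by norm_num)
  haveI : IsSimpleGroup q.range := e.isSimpleGroup
  let α : ↥(joint X) →* ↥(joint X) :=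
    MonoidHom.mk' (fun k => ⟨g * k * g⁻¹, conj_joint X H hg k.2⟩)
      (fun a b => Subtype.ext (by simp [mul_assoc]))
  have hα : Function.Surjective α := fun k => by
    have hg' := inv_mem hg
    refine ⟨⟨g⁻¹ * k * g⁻¹⁻¹, conj_joint X H hg' k.2⟩, Subtype.ext ?_⟩
    show g * (g⁻¹ * k * g⁻¹⁻¹) * g⁻¹ = k
    group
  have hN : (q.ker.map α).Normal := Subgroup.Normal.map inferInstance α hα
  have hM : ((q.ker.map α).map q.rangeRestrict).Normal :=
    Subgroup.Normal.map hN _ q.rangeRestrict_surjective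
  rcases hM.eq_bot_or_eq_top with h | h
  · obtain ⟨⟨k, hk⟩, hker, rfl⟩ := hx
    have : q.rangeRestrict (α ⟨k, hk⟩) = 1 := by
      rw [← Subgroup.mem_bot, ← h]
      exact mem_map_of_mem _ (mem_map_of_mem _ hker)
    refine ⟨α ⟨k, hk⟩, ?_, rfl⟩
    exact congrArg Subtype.val this
  · exfalso
    have h1 : Nat.card q.range ∣ Nat.card q.ker := by
      rw [← Subgroup.card_top, ← h]
      exact (Subgroup.card_map_dvd _ _).trans (Subgroup.card_map_dvd _ _)
    rw [Nat.card_congr e.toEquiv, OrthMinusSixTwoAut48.card_PSU_four hF.card_eq] at h1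
    have h2 : Nat.card q.ker = 2 ^ 10 := by
      rw [← (quot_data X (hcd X H)).2.1]
      exact (Subgroup.card_map_of_injective (joint X).subtype_injective).symm
    rw [h2] at h1
    norm_num at h1

/-- The image of a block member, modulo the core. -/
theorem block_fix {v : Fin 4 → F} (hv : Iso4 v) (t : F) {a : G} (ha : a ∈ near D d)
    (haj : a ∈ joint X) (has : a ≠ second X)
    (hcm : a * (pt X v t)⁻¹ ∈ core X (hcd X H)) : ∃ t', a = pt X v t' := by
  rcases exists_pt X ha ((mem_joint X).mp haj).2 with e | ⟨v', t', hv', rfl⟩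
  · exact absurd e has
  set hc := hcd X H
  have q1 : quot X hc ⟨pt X v' t', haj⟩ = quot X hc ⟨pt X v t, pt_joint X hv t⟩ := by
    obtain ⟨⟨k, hk⟩, hker, e⟩ := hcm
    rw [← mul_inv_eq_one, ← map_inv, ← map_mul]
    rw [show (⟨pt X v' t', haj⟩ : ↥(joint X)) * (⟨pt X v t, pt_joint X hv t⟩)⁻¹ = ⟨k, hk⟩ from
      Subtype.ext e.symm]
    exact hker
  have hS := T_mem_stab (hv'.vec t').1 (hv'.vec t').2.2
  have hS' := T_mem_stab (hv.vec t).1 (hv.vec t).2.2
  rw [quot_eq X hc haj (near_le_loc (pt_mem X hv' t')) hS (L_img X (hv'.vec t').1 (hv'.vec t').2.1),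
    quot_eq X hc (pt_joint X hv t) (near_le_loc (pt_mem X hv t)) hS'
      (L_img X (hv.vec t).1 (hv.vec t).2.1)] at q1
  have q2 : psi (⟨_, hS⟩ * ⟨_, hS'⟩ : ↥(stab (F := F))) = 1 := by
    rw [map_mul, q1, ← map_mul,
      show (⟨_, hS'⟩ * ⟨_, hS'⟩ : ↥(stab (F := F))) = 1 from Subtype.ext (T_sq _ (hv.vec t).1), map_one]
  obtain ⟨s, -, hs⟩ := eq_scalar_of_psi q2
  have htl : ∀ (u : Fin 4 → F) (c : F), tl (c • u0 + emb u : Fin 6 → F) = u := fun u c => by
    rw [tl_add, tl_smul, tl_u0, smul_zero, zero_add, tl_emb]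
  have hy : ∀ y : Fin 4 → F, y + h y v • v + h (y + h y v • v) v' • v' = s • y := by
    intro y
    have h1 := congrArg (fun M : Matrix (Fin 4) (Fin 4) F => M *ᵥ y) hs
    simp only [Subgroup.coe_mul] at h1
    rw [qm_mul hS hS', ← Matrix.mulVec_mulVec, qm_T _ (hv.vec t).2.2, qm_T _ (hv'.vec t').2.2,
      htl, htl, Matrix.smul_mulVec, Matrix.one_mulVec] at h1
    exact h1
  have hs1 : s = 1 := by
    let f : (Fin 4 → F) →ₗ[F] F × F :=
      (OrthUnitaryTransvection.hermL 2 v).prod (OrthUnitaryTransvection.hermL 2 v')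
    obtain ⟨y, hy1, hy0⟩ := (Submodule.ne_bot_iff _).mp
      (LinearMap.ker_ne_bot_of_finrank_lt (f := f) (by simp))
    have hyv : h y v = 0 := congrArg Prod.fst hy1
    have hyv' : h y v' = 0 := congrArg Prod.snd hy1
    have := hy y
    rw [hyv, zero_smul, add_zero, hyv', zero_smul, add_zero] at this
    obtain ⟨i, hi⟩ := Function.ne_iff.mp hy0
    have h2 := congrFun this i
    simp only [Pi.smul_apply, smul_eq_mul] at h2
    exact mul_right_cancel₀ hi (by rw [one_mul]; exact h2.symm)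
  have htv : tv v' = tv v := by
    refine LinearMap.ext fun y => ?_
    have h1 := hy (tv v y)
    rw [show tv v y + h (tv v y) v • v = y from tv_tv hv.1 y, hs1, one_smul] at h1
    exact h1
  obtain ⟨c, hc0, rfl⟩ := tv_inj hv'.2 htv
  refine ⟨c⁻¹ * t', ?_⟩
  show L _ = L _
  rw [emb_smul, ← L_smul X (hv.vec (c⁻¹ * t')).1 (hv.vec (c⁻¹ * t')).2.1 hc0, smul_add, smul_smul,
    mul_inv_cancel_left₀ hc0]

/-- An element fixing the first point of a block and multiplying the others. -/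
theorem exists_scale {v : Fin 4 → F} (hv : Iso4 v) {s : F} (hs : s ≠ 0) :
    ∃ k ∈ joint X, ∀ t, k * pt X v t * k⁻¹ = pt X v (s * t) := by
  have h1 : h (emb v) (emb v) = 0 := zero_vec v ▸ (hv.vec 0).1
  have hli : LinearIndependent F ![(u0 : Fin 6 → F), emb v] := by
    refine (LinearIndependent.pair_iff' u0_ne).mpr fun a e => hv.2 ?_
    have := congrArg tl e
    rwa [tl_smul, tl_u0, smul_zero, tl_emb, eq_comm] at this
  obtain ⟨e, f, hfr, e0, e1⟩ := exists_frame_pair iso_u0 h1 (h_point_emb v) hli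
  obtain ⟨δ, -, hδ, hiso⟩ := exists_isometry hfr hfr
  obtain ⟨A, hA, -⟩ := hiso ![s, 1, s ^ 2]
    (fun i => by fin_cases i <;> simp [hs])
    (by
      rw [hδ ⟨rfl, rfl⟩, Fin.prod_univ_three]
      simp only [Matrix.cons_val_zero, Matrix.cons_val_one, Matrix.cons_val]
      linear_combination (s ^ 3 + 1) * cube hs)
  have hu : act A u0 = s • u0 := by rw [← e0]; simpa using hA 0
  have hev : act A (emb v) = emb v := by rw [← e1]; simpa using hA 1
  obtain ⟨k, hk⟩ := X.chart.surj (π A)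
  refine ⟨k, joint_of_lift X ⟨s, hu⟩ hk, fun t => ?_⟩
  refine (L_conj X hk (hv.vec t).1 (hv.vec t).2.1).trans (congrArg _ ?_)
  rw [act_add', act_smul', hu, hev, smul_smul, mul_comm]

/-- The exchanging elements act on the quotient from outside. -/
theorem outer {z : G} (hz : z ∈ centralizer ({d * second X} : Set G)) (hzn : z ∉ joint X)
    (hall : ∀ k ∈ joint X, z * k * z⁻¹ * k⁻¹ ∈ core X (hcd X H)) : False := by
  set hc := hcd X H
  obtain ⟨h1, h2⟩ := (perm_two X H hz).resolve_left hzn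
  set v : Fin 4 → F := ![1, 1, 0, 0] with hvd
  have hv : Iso4 v := by
    refine ⟨?_, fun e => ?_⟩
    · simp [hvd, h, Fin.sum_univ_four, add_self]
    · have := congrFun e 0
      simp [hvd] at this
  have hblock : ∀ (z : G), z * d * z⁻¹ = second X → z * second X * z⁻¹ = d →
      (∀ k ∈ joint X, z * k * z⁻¹ * k⁻¹ ∈ core X hc) →
      ∀ t, ∃ t', z * pt X v t * z⁻¹ = pt X v t' := by
    intro z h1 h2 hall t
    have c1 := (Commute.conj_iff z).mpr (pt_comm_second X hv t)
    have c2 := (Commute.conj_iff z).mpr (pt_mem X hv t).2.2.symm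
    rw [h2] at c1
    rw [h1] at c2
    have hj : z * pt X v t * z⁻¹ ∈ joint X := (mem_joint X).mpr ⟨c1, c2⟩
    refine block_fix X H hv t ⟨X.ts.conj z _ (pt_mem X hv t).1, fun e => ?_,
      ((mem_joint X).mp hj).1.symm⟩ hj (fun e => ?_) (hall _ (pt_joint X hv t))
    · exact pt_ne_second X hv t (mul_left_cancel (mul_right_cancel (e.trans h2.symm)))
    · exact (pt_mem X hv t).2.1 (mul_left_cancel (mul_right_cancel (e.trans h1.symm)))
  -- translate to fix the first point
  obtain ⟨t0, ht0⟩ := hblock z h1 h2 hall 0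
  obtain ⟨n, hn, hn0⟩ : ∃ n : G, ∃ hn : n ∈ core X hc, shift X hc hn v = t0 := by
    by_cases h0 : t0 = 0
    · refine ⟨1, one_mem _, ?_⟩
      rw [h0, shift, show (⟨1, one_mem _⟩ : ↥(core X hc)) = 1 from rfl, map_one]
      simp
    · set p : Fin 4 → F := ![t0 ^ 2, 0, 1, 0] with hpd
      have hp : Iso4 p := by
        refine ⟨?_, fun e => ?_⟩
        · have : t0 ^ 2 * (t0 ^ 2) ^ 2 = 1 := by rw [← pow_succ']; exact cube (pow_ne_zero 2 h0)
          simp [hpd, h, Fin.sum_univ_four, this, add_self]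
        · have := congrFun e 2
          simp [hpd] at this
      obtain ⟨hm, hr⟩ := pair_data' X hc hp
      refine ⟨_, hm, ?_⟩
      rw [shift, hr]
      simp [hvd, hpd, Fin.sum_univ_four, sq_sq]
  have hnj := core_le X hc hn
  obtain ⟨n1, n2⟩ := (mem_joint X).mp hnj
  set z' := n * z with hz'
  have h1' : z' * d * z'⁻¹ = second X := by
    rw [hz', show n * z * d * (n * z)⁻¹ = n * (z * d * z⁻¹) * n⁻¹ by group, h1]
    exact conj_one_iff_commute.mpr n2
  have h2' : z' * second X * z'⁻¹ = d := by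
    rw [hz', show n * z * second X * (n * z)⁻¹ = n * (z * second X * z⁻¹) * n⁻¹ by group, h2]
    exact conj_one_iff_commute.mpr n1
  have hall' : ∀ k ∈ joint X, z' * k * z'⁻¹ * k⁻¹ ∈ core X hc := fun k hk => by
    rw [hz', show n * z * k * (n * z)⁻¹ * k⁻¹ = n * (z * k * z⁻¹ * k⁻¹) * (k * n⁻¹ * k⁻¹) by group]
    exact mul_mem (mul_mem hn (hall k hk))
      (core_conj X H (joint_le_cent X H hk) (inv_mem hn))
  have ha : z' * pt X v 0 * z'⁻¹ = pt X v 0 := by
    rw [hz', show n * z * pt X v 0 * (n * z)⁻¹ = n * (z * pt X v 0 * z⁻¹) * n⁻¹ by group, ht0,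
      conj_pt X hc hn hv, hn0, add_self]
  choose σ hσ using hblock z' h1' h2' hall'
  obtain ⟨w, hw⟩ := exists_omega (F := F)
  have hs : σ 1 ≠ 0 := fun e => by
    have := hσ 1
    rw [e] at this
    exact one_ne_zero (pt_inj X hv (mul_left_cancel (mul_right_cancel (this.trans ha.symm))))
  obtain ⟨k, hk, hkt⟩ := exists_scale X H hv (omega_ne hw).1
  have hcomm : σ w = w * σ 1 := by
    have hm := hall' k hk
    set m := z' * k * z'⁻¹ * k⁻¹ with hmd
    have hk0 : k * pt X v 0 * k⁻¹ = pt X v 0 := by rw [hkt, mul_zero]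
    have hzi : z'⁻¹ * pt X v 0 * z'⁻¹⁻¹ = pt X v 0 := by conv_lhs => rw [← ha]
                                                         group
    have hki : k⁻¹ * pt X v 0 * k⁻¹⁻¹ = pt X v 0 := by conv_lhs => rw [← hk0]
                                                       group
    have hm0 : m * pt X v 0 * m⁻¹ = pt X v 0 := by
      rw [hmd, show z' * k * z'⁻¹ * k⁻¹ * pt X v 0 * (z' * k * z'⁻¹ * k⁻¹)⁻¹ =
        z' * (k * (z'⁻¹ * (k⁻¹ * pt X v 0 * k⁻¹⁻¹) * z'⁻¹⁻¹) * k⁻¹) * z'⁻¹ by group,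
        hki, hzi, hk0, ha]
    have hsh : shift X hc hm v = 0 := by
      have := (conj_pt X hc hm hv 0).symm.trans hm0
      simpa using pt_inj X hv this
    have e1 : (m * k) * pt X v (σ 1) * (m * k)⁻¹ = pt X v (w * σ 1) := by
      rw [show m * k * pt X v (σ 1) * (m * k)⁻¹ = m * (k * pt X v (σ 1) * k⁻¹) * m⁻¹ by group,
        hkt, conj_pt X hc hm hv, hsh, add_zero]
    rw [show m * k = z' * k * z'⁻¹ by rw [hmd]; group, ← hσ 1,
      show z' * k * z'⁻¹ * (z' * pt X v 1 * z'⁻¹) * (z' * k * z'⁻¹)⁻¹ =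
        z' * (k * pt X v 1 * k⁻¹) * z'⁻¹ by group, hkt, mul_one, hσ w] at e1
    exact pt_inj X hv e1
  obtain ⟨k', hk', hkt'⟩ := exists_scale X H hv hs
  obtain ⟨k1, k2⟩ := (mem_joint X).mp hk'
  have hrev : ∀ t, k'⁻¹ * pt X v (σ 1 * t) * k' = pt X v t := fun t => by rw [← hkt']; group
  refine swap_false X H (z := k'⁻¹ * z') ?_ ?_ hv hw ?_ ?_ ?_
  · rw [show k'⁻¹ * z' * d * (k'⁻¹ * z')⁻¹ = k'⁻¹ * (z' * d * z'⁻¹) * k'⁻¹⁻¹ by group, h1']
    exact conj_one_iff_commute.mpr k2.inv_left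
  · rw [show k'⁻¹ * z' * second X * (k'⁻¹ * z')⁻¹ = k'⁻¹ * (z' * second X * z'⁻¹) * k'⁻¹⁻¹ by group,
      h2']
    exact conj_one_iff_commute.mpr k1.inv_left
  · rw [show k'⁻¹ * z' * pt X v 0 * (k'⁻¹ * z')⁻¹ = k'⁻¹ * (z' * pt X v 0 * z'⁻¹) * k' by group, ha]
    simpa using hrev 0
  · rw [show k'⁻¹ * z' * pt X v 1 * (k'⁻¹ * z')⁻¹ = k'⁻¹ * (z' * pt X v 1 * z'⁻¹) * k' by group, hσ 1]
    simpa using hrev 1
  · rw [show k'⁻¹ * z' * pt X v w * (k'⁻¹ * z')⁻¹ = k'⁻¹ * (z' * pt X v w * z'⁻¹) * k' by group, hσ w,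
      hcomm, mul_comm w]
    exact hrev w

/-- The joint centralizer moves the core modulo the product. -/
theorem joint_moves (hall : ∀ k ∈ joint X, ∀ x ∈ core X (hcd X H),
    k * x * k⁻¹ * x⁻¹ ∈ zpowers (d * second X)) : False := by
  set hc := hcd X H
  set v : Fin 4 → F := ![1, 1, 0, 0] with hvd
  set p : Fin 4 → F := ![0, 1, 1, 0] with hpd
  set v' : Fin 4 → F := ![1, 0, 1, 0] with hvd'
  have hv : Iso4 v := ⟨by simp [hvd, h, Fin.sum_univ_four, add_self],
    fun e => by simpa [hvd] using congrFun e 0⟩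
  have hp : Iso4 p := ⟨by simp [hpd, h, Fin.sum_univ_four, add_self],
    fun e => by simpa [hpd] using congrFun e 1⟩
  have hv' : Iso4 v' := ⟨by simp [hvd', h, Fin.sum_univ_four, add_self],
    fun e => by simpa [hvd'] using congrFun e 0⟩
  have hk : ∀ t, pt X p 0 * pt X v t * (pt X p 0)⁻¹ = pt X v' t := by
    intro t
    refine (L_tconj X (hv.vec t).1 (hv.vec t).2.1 (hp.vec 0).1 (hp.vec 0).2.1).trans
      (congrArg _ ?_)
    have h1 : h (t • u0 + emb v : Fin 6 → F) ((0 : F) • u0 + emb p) = 1 := by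
      rw [h_perp]; simp [hvd, hpd, h, Fin.sum_univ_four]
    rw [h1, one_smul, zero_vec, add_assoc, ← emb_add]
    congr 2
    funext i
    fin_cases i <;> simp [hvd, hpd, hvd', add_self]
  have h1 := hall _ (pt_joint X hp 0) _ (pair_mem X hc hv)
  rw [show pt X p 0 * pair X v * (pt X p 0)⁻¹ =
    (pt X p 0 * pt X v 0 * (pt X p 0)⁻¹) * (pt X p 0 * pt X v 1 * (pt X p 0)⁻¹) by group, hk, hk] at h1
  have hm := mul_mem (pair_mem X hc hv') (inv_mem (pair_mem X hc hv))
  have h2 : rowHom X hc ⟨_, hm⟩ = 1 := by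
    refine rowHom_ker_of_mem X hc hm ?_
    rcases mem_zpowers_j X h1 with e | e <;> rw [show pair X v' * (pair X v)⁻¹ = _ from e]
    · exact one_mem _
    · exact mul_mem (subset_closure (by simp)) (subset_closure (by simp))
  have h3 : rowHom X hc ⟨_, pair_mem X hc hv'⟩ = rowHom X hc ⟨_, pair_mem X hc hv⟩ := by
    rw [← mul_inv_eq_one, ← map_inv, ← map_mul]
    exact h2
  rw [(pair_data' X hc hv').2, (pair_data' X hc hv).2] at h3
  have := congrFun (Multiplicative.ofAdd.injective h3) 1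
  simp [hvd, hvd'] at this

end Cfsg.Agent.ThreeTransM22TwoOuter48
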