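import Cfsg.Agent.Lib.ThreeTransM22Tab48

/-!
# Computing with the numbered members of a group of type M(22)

Commutation and equality of products of members, orbits, and bounds on the order of a subgroup
fixing some members, all from tests on the table.
-/

set_option autoImplicit false
set_option linter.unusedSectionVars false

namespace Cfsg.Agent.ThreeTransM22Word48

open Cfsg.Agent.CosetCertCore Cfsg.Agent.CosetCertTable Cfsg.Agent.CosetCertPres
open Cfsg.Agent.ThreeTransAut41 Cfsg.Agent.ThreeTransM22Tab48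
open Cfsg.Agent.ThreeTransFi22Out41 (e pi)
open Cfsg.Agent.CosetCertU62 (T22)

/-- A point with a path to it. -/
abbrev Pt : Type := Nat × List Nat

/-- The word of the member at a point. -/
def wd (P : Pt) : List Nat := dw 0 P.2

/-- The path of a point is right. -/
noncomputable def ptOk (P : Pt) : Bool :=
  Nat.blt P.1 T22.N && (P.2.all fun x => Nat.blt x 9) && Nat.beq (T22.run P.2 (e 0)) P.1

/-- The member at a point commutes with the member of number `q`. -/
noncomputable def cm (P : Pt) (q : Nat) : Bool := Nat.beq (T22.run (wd P) q) q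

/-- The word of a product of members. -/
def wp (L : List Pt) : List Nat := L.flatMap wd

/-- Two words move the nine base points alike. -/
noncomputable def same (u v : List Nat) : Bool :=
  (List.range 9).all fun x => Nat.beq (T22.run u (e x)) (T22.run v (e x))

/-- Each new point comes from an earlier one by one of the members. -/
noncomputable def reach (gs : List Pt) : List Nat → List (Nat × Nat × Nat) → Bool
  | _, [] => true
  | seen, (p, q, j) :: r =>
    (seen.elem q && Nat.blt j gs.length && Nat.beq (T22.run (wd (gs.getD j (0, []))) q) p) &&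
      reach gs (p :: seen) r

/-- Same relations with some members as the point `x`. -/
noncomputable def cand (base : Nat → Bool) (l : List Pt) (x p : Nat) : Bool :=
  base p && l.all fun y => !Nat.beq p y.1 && (cm y p == cm y x)

/-- Product of the candidate numbers along a list. -/
noncomputable def prodC (base : Nat → Bool) : List Pt → List Pt → Nat
  | _, [] => 1
  | l, x :: r => cntFrom (cand base l x.1) T22.N 0 0 * prodC base (x :: l) r

theorem e_lt' : ∀ x < 9, e x < T22.N := by decide +kernel

section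

variable {G : Type*} [Group G] [Finite G] {D : Set G} {dN : Nat → G} {s : MulAut G}
  (T : Tab D dN s)
include T

theorem ptOk_iff {P : Pt} (h : ptOk P = true) :
    P.1 < T22.N ∧ (∀ x ∈ P.2, x < 9) ∧ T22.run P.2 (e 0) = P.1 := by
  simp only [ptOk, Bool.and_eq_true, Nat.blt_eq, Nat.beq_eq, List.all_eq_true] at h
  exact ⟨h.1.1, h.1.2, h.2⟩

theorem inv_gen (x : Nat) : (gen dN x)⁻¹ = gen dN x := inv_eq_of_mul_eq_one_right (T.sq x)

theorem inv_dN {p : Nat} (hp : p < T22.N) : (dN p)⁻¹ = dN p := T.ts.inv_self (T.mem p hp)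

theorem conj_word {w : List Nat} (hw : ∀ x ∈ w, x < 9) {q : Nat} (hq : q < T22.N) :
    (val (gen dN) w)⁻¹ * dN q * val (gen dN) w = dN (T22.run w q) := by
  induction w generalizing q with
  | nil => simp [val, Table.run_nil]
  | cons x w ih =>
    have hx := hw x List.mem_cons_self
    rw [Table.run_cons, ← ih (fun y hy => hw y (List.mem_cons_of_mem _ hy)) (img_lt hx hq),
      ← T.conj x hx q hq, val_cons, mul_inv_rev, inv_gen T]
    group

theorem wd_lt {P : Pt} (h : ptOk P = true) : ∀ x ∈ wd P, x < 9 := by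
  intro x hx
  simp only [wd, dw, List.mem_append, List.mem_reverse, List.mem_singleton] at hx
  rcases hx with (hx | rfl) | hx
  exacts [(ptOk_iff T h).2.1 x hx, by norm_num, (ptOk_iff T h).2.1 x hx]

theorem val_wd {P : Pt} (h : ptOk P = true) : val (gen dN) (wd P) = dN P.1 := by
  obtain ⟨-, hl, hr⟩ := ptOk_iff T h
  rw [wd, dw, val_append, val_append, val_reverse _ T.sq, val_cons, val_nil, mul_one, ← hr,
    ← conj_word T hl (e_lt' 0 (by norm_num))]
  rfl

theorem conj_pt {P : Pt} (h : ptOk P = true) {q : Nat} (hq : q < T22.N) :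
    dN P.1 * dN q * (dN P.1)⁻¹ = dN (T22.run (wd P) q) := by
  rw [← conj_word T (wd_lt T h) hq, val_wd T h, inv_dN T (ptOk_iff T h).1]

theorem cm_iff {P : Pt} (h : ptOk P = true) {q : Nat} (hq : q < T22.N) :
    cm P q = true ↔ Commute (dN P.1) (dN q) := by
  rw [cm, Nat.beq_eq]
  refine ⟨fun e => ?_, fun hc => ?_⟩
  · have := conj_pt T h hq
    rw [e, mul_inv_eq_iff_eq_mul] at this
    exact this
  · refine T.inj _ (run_lt (wd_lt T h) hq) q hq ?_
    rw [← conj_pt T h hq, mul_inv_eq_iff_eq_mul]
    exact hc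

theorem val_wp {L : List Pt} (h : ∀ P ∈ L, ptOk P = true) :
    val (gen dN) (wp L) = (L.map fun P => dN P.1).prod := by
  induction L with
  | nil => rfl
  | cons P L ih =>
    rw [List.map_cons, List.prod_cons, ← ih fun Q hQ => h Q (List.mem_cons_of_mem _ hQ),
      ← val_wd T (h P List.mem_cons_self), ← val_append]
    rfl

theorem wp_lt {L : List Pt} (h : ∀ P ∈ L, ptOk P = true) : ∀ x ∈ wp L, x < 9 := by
  intro x hx
  obtain ⟨P, hP, hxP⟩ := List.mem_flatMap.mp hx
  exact wd_lt T (h P hP) x hxP

/-- An element commuting with the nine diagram members is trivial. -/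
theorem eq_one_of_comm {z : G} (h : ∀ x < 9, Commute z (gen dN x)) : z = 1 := by
  have hc : z ∈ Subgroup.center G := by
    rw [Subgroup.mem_center_iff]
    intro g
    have hg : g ∈ Subgroup.centralizer ({z} : Set G) := by
      have : (⊤ : Subgroup G) ≤ Subgroup.centralizer ({z} : Set G) := by
        rw [← T.top, Subgroup.closure_le]
        rintro _ ⟨x, hx, rfl⟩
        exact Subgroup.mem_centralizer_singleton_iff.mpr (h x hx).symm.eq
      exact this (Subgroup.mem_top g)
    exact Subgroup.mem_centralizer_singleton_iff.mp hg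
  rw [T.centre] at hc
  exact Subgroup.mem_bot.mp hc

theorem eq_of_same {u v : List Nat} (hu : ∀ x ∈ u, x < 9) (hv : ∀ x ∈ v, x < 9)
    (h : same u v = true) : val (gen dN) u = val (gen dN) v := by
  simp only [same, List.all_eq_true, List.mem_range, Nat.beq_eq] at h
  refine mul_inv_eq_one.mp (eq_one_of_comm T fun x hx => ?_)
  have h1 := conj_word T hu (e_lt' x hx)
  rw [h x hx, ← conj_word T hv (e_lt' x hx)] at h1
  set a := val (gen dN) u
  set b := val (gen dN) v
  show a * b⁻¹ * gen dN x = gen dN x * (a * b⁻¹)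
  calc a * b⁻¹ * gen dN x = a * (b⁻¹ * dN (e x) * b) * b⁻¹ := by
        show a * b⁻¹ * dN (e x) = _
        group
    _ = dN (e x) * (a * b⁻¹) := by rw [← h1]; group
    _ = gen dN x * (a * b⁻¹) := rfl

theorem prod_eq_of_same {L M : List Pt} (hL : ∀ P ∈ L, ptOk P = true) (hM : ∀ P ∈ M, ptOk P = true)
    (h : same (wp L) (wp M) = true) :
    (L.map fun P => dN P.1).prod = (M.map fun P => dN P.1).prod := by
  rw [← val_wp T hL, ← val_wp T hM]
  exact eq_of_same T (wp_lt T hL) (wp_lt T hM) h

/-- Different images of a base point separate two products. -/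
theorem prod_ne_of_run {L M : List Pt} (hL : ∀ P ∈ L, ptOk P = true) (hM : ∀ P ∈ M, ptOk P = true)
    (h : same (wp L) (wp M) = false) :
    (L.map fun P => dN P.1).prod ≠ (M.map fun P => dN P.1).prod := by
  intro e1
  rw [← Bool.not_eq_true] at h
  refine h ?_
  simp only [same, List.all_eq_true, List.mem_range, Nat.beq_eq]
  intro x hx
  refine T.inj _ (run_lt (wp_lt T hL) (e_lt' x hx)) _ (run_lt (wp_lt T hM) (e_lt' x hx)) ?_
  rw [← conj_word T (wp_lt T hL) (e_lt' x hx), ← conj_word T (wp_lt T hM) (e_lt' x hx),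
    val_wp T hL, val_wp T hM, e1]

/-- What is kept by the members spreads along the certificate. -/
theorem reach_ind (Q : Nat → Prop) {gs : List Pt} (hgs : ∀ P ∈ gs, ptOk P = true)
    (step : ∀ P ∈ gs, ∀ q < T22.N, Q q → Q (T22.run (wd P) q)) :
    ∀ (tr : List (Nat × Nat × Nat)) (seen : List Nat), reach gs seen tr = true →
      (∀ q ∈ seen, q < T22.N ∧ Q q) → ∀ t ∈ tr, Q t.1 := by
  intro tr
  induction tr with
  | nil => simp
  | cons t tr ih =>
    obtain ⟨p, q, j⟩ := t
    intro seen h hs
    simp only [reach, Bool.and_eq_true, Nat.blt_eq, Nat.beq_eq, List.elem_iff] at h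
    obtain ⟨⟨⟨hq, hj⟩, hr⟩, hrest⟩ := h
    have hm : gs.getD j (0, []) ∈ gs := by
      rw [List.getD_eq_getElem _ _ hj]; exact List.getElem_mem hj
    obtain ⟨hqN, hQq⟩ := hs q hq
    have hp : p < T22.N ∧ Q p := hr ▸ ⟨run_lt (wd_lt T (hgs _ hm)) hqN, step _ hm q hqN hQq⟩
    intro t' ht'
    rcases List.mem_cons.mp ht' with rfl | ht'
    · exact hp.2
    · refine ih (p :: seen) hrest (fun y hy => ?_) t' ht'
      rcases List.mem_cons.mp hy with rfl | hy
      exacts [hp, hs y hy]

/-- Members reached from members of a subgroup lie in it. -/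
theorem reach_mem (K : Subgroup G) {gs : List Pt} (hgs : ∀ P ∈ gs, ptOk P = true)
    (hK : ∀ P ∈ gs, dN P.1 ∈ K) {seen : List Nat} {tr : List (Nat × Nat × Nat)}
    (h : reach gs seen tr = true) (hs : ∀ q ∈ seen, q < T22.N ∧ dN q ∈ K) :
    ∀ t ∈ tr, dN t.1 ∈ K :=
  reach_ind T (fun q => dN q ∈ K) hgs (fun P hP q hq hQ => by
    rw [← conj_pt T (hgs P hP) hq]
    exact mul_mem (mul_mem (hK P hP) hQ) (inv_mem (hK P hP))) tr seen h hs

/-- Points reached from one are conjugate to it under the subgroup. -/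
theorem reach_conj (K : Subgroup G) {gs : List Pt} (hgs : ∀ P ∈ gs, ptOk P = true)
    (hK : ∀ P ∈ gs, dN P.1 ∈ K) {a : Nat} (ha : a < T22.N) {tr : List (Nat × Nat × Nat)}
    (h : reach gs [a] tr = true) : ∀ t ∈ tr, ∃ g ∈ K, g * dN a * g⁻¹ = dN t.1 :=
  reach_ind T (fun q => ∃ g ∈ K, g * dN a * g⁻¹ = dN q) hgs (fun P hP q hq hQ => by
    obtain ⟨g, hg, e1⟩ := hQ
    refine ⟨dN P.1 * g, mul_mem (hK P hP) hg, ?_⟩
    rw [← conj_pt T (hgs P hP) hq, ← e1]
    group) tr [a] h fun q hq => by
      obtain rfl := List.mem_singleton.mp hq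
      exact ⟨ha, 1, one_mem _, by group⟩

/-- A subgroup keeping some members is small if few points look like each further one. -/
theorem card_chain (base : Nat → Bool) : ∀ (r l : List Pt) (H : Subgroup G),
    (∀ P ∈ l ++ r, ptOk P = true) → (∀ P ∈ l, ∀ g ∈ H, Commute g (dN P.1)) →
    (∀ P ∈ r, ∀ g ∈ H, ∀ p < T22.N, g * dN P.1 * g⁻¹ = dN p → base p = true) →
    (∀ x ∈ r, ∀ y ∈ l, x.1 ≠ y.1) → (r.map Prod.fst).Nodup →
    Nat.card H ≤ prodC base l r *
      Nat.card ↥(H ⊓ Subgroup.centralizer {y | ∃ P ∈ r, y = dN P.1} : Subgroup G) := by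
  intro r
  induction r with
  | nil =>
    intro l H _ _ _ _ _
    rw [prodC, one_mul]
    refine le_of_eq (congrArg (fun K : Subgroup G => Nat.card K) ?_)
    refine (inf_eq_left.mpr fun g _ => Subgroup.mem_centralizer_iff.mpr ?_).symm
    rintro y ⟨P, hP, -⟩
    exact absurd hP (List.not_mem_nil)
  | cons x r ih =>
    intro l H hok hl hbase hne hnd
    have hx : ptOk x = true := hok x (by simp)
    have hxN := (ptOk_iff T hx).1
    set H' : Subgroup G := H ⊓ Subgroup.centralizer {dN x.1}
    have himg : ∀ g : H, ∃ p : {p : Fin T22.N // cand base l x.1 p = true},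
        (g : G) * dN x.1 * (g : G)⁻¹ = dN (p.1 : Fin T22.N) := by
      rintro ⟨g, hg⟩
      obtain ⟨p, hp, e1⟩ := T.surj _ (T.ts.conj g _ (T.mem _ hxN))
      refine ⟨⟨⟨p, hp⟩, ?_⟩, e1.symm⟩
      rw [cand, Bool.and_eq_true, List.all_eq_true]
      refine ⟨hbase x List.mem_cons_self g hg p hp e1.symm, fun y hy => ?_⟩
      have hyo := hok y (List.mem_append_left _ hy)
      have hgy : g * dN y.1 * g⁻¹ = dN y.1 := mul_inv_eq_iff_eq_mul.mpr (hl y hy g hg).eq
      rw [Bool.and_eq_true, Bool.not_eq_true', beq_iff_eq]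
      refine ⟨?_, ?_⟩
      · rw [← Bool.not_eq_true, Nat.beq_eq]
        rintro rfl
        exact hne x List.mem_cons_self y hy
          (T.inj _ hxN _ (ptOk_iff T hyo).1 (mul_left_cancel (mul_right_cancel (e1.symm.trans hgy.symm))))
      · rw [Bool.eq_iff_iff, cm_iff T hyo hp, cm_iff T hyo hxN, e1]
        conv_lhs => rw [← hgy]
        exact Commute.conj_iff g
    choose f hf using himg
    let B : Subgroup H := H'.subgroupOf H
    have hB : Nat.card B = Nat.card H' :=
      Nat.card_congr (Subgroup.subgroupOfEquivOfLe inf_le_left).toEquiv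
    have hidx : B.index ≤ cntFrom (cand base l x.1) T22.N 0 0 := by
      refine le_trans ?_ (card_le_cnt _ _)
      rw [Subgroup.index]
      refine Nat.card_le_card_of_injective (fun q => f (Quotient.out q)) fun q q' hq => ?_
      rw [← QuotientGroup.out_eq' q, ← QuotientGroup.out_eq' q', QuotientGroup.eq]
      simp only at hq
      have h1 := (hf (Quotient.out q)).trans ((congrArg (fun p => dN (p.1 : Fin T22.N)) hq).trans
        (hf (Quotient.out q')).symm)
      refine Subgroup.mem_subgroupOf.mpr ⟨((Quotient.out q)⁻¹ * Quotient.out q').2,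
        Subgroup.mem_centralizer_singleton_iff.mpr ?_⟩
      simp only [Subgroup.coe_mul, Subgroup.coe_inv]
      set a := ((Quotient.out q : H) : G)
      set b := ((Quotient.out q' : H) : G)
      calc a⁻¹ * b * dN x.1 = a⁻¹ * (b * dN x.1 * b⁻¹) * b := by group
        _ = dN x.1 * (a⁻¹ * b) := by rw [← h1]; group
    have hH' := ih (x :: l) H' (fun P hP => hok P (by simp at hP ⊢; tauto))
      (fun P hP g hg => by
        rcases List.mem_cons.mp hP with rfl | hP
        · exact (Subgroup.mem_centralizer_singleton_iff.mp hg.2)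
        · exact hl P hP g hg.1)
      (fun P hP g hg => hbase P (List.mem_cons_of_mem _ hP) g hg.1)
      (fun z hz y hy => by
        rcases List.mem_cons.mp hy with rfl | hy
        · intro e1
          rw [List.map_cons, List.nodup_cons] at hnd
          exact hnd.1 (e1 ▸ List.mem_map_of_mem hz)
        · exact hne z (List.mem_cons_of_mem _ hz) y hy)
      (List.nodup_cons.mp hnd).2
    have hsplit : (H' ⊓ Subgroup.centralizer {y | ∃ P ∈ r, y = dN P.1}) =
        H ⊓ Subgroup.centralizer {y | ∃ P ∈ x :: r, y = dN P.1} := by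
      ext g
      simp only [H', Subgroup.mem_inf, Subgroup.mem_centralizer_iff, Set.mem_setOf_eq,
        Set.mem_singleton_iff, forall_eq, List.mem_cons]
      constructor
      · rintro ⟨⟨h1, h2⟩, h3⟩
        refine ⟨h1, ?_⟩
        rintro y ⟨P, rfl | hP, rfl⟩
        exacts [h2, h3 _ ⟨P, hP, rfl⟩]
      · rintro ⟨h1, h2⟩
        exact ⟨⟨h1, h2 _ ⟨x, Or.inl rfl, rfl⟩⟩, fun y ⟨P, hP, hy⟩ => h2 y ⟨P, Or.inr hP, hy⟩⟩
    rw [← hsplit, prodC, ← Subgroup.card_mul_index B, hB, mul_comm (cntFrom _ _ _ _), mul_right_comm]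
    exact Nat.mul_le_mul hH' hidx

/-- The number of members fixed by an automorphism. -/
theorem ncard_fixed (t : MulAut G) (f : Nat → Nat) (hf : ∀ p < T22.N, f p < T22.N ∧ t (dN p) = dN (f p)) :
    {y ∈ D | t y = y}.ncard = cntFrom (fun p => Nat.beq (f p) p) T22.N 0 0 := by
  classical
  rw [cntFrom_eq, Nat.zero_add, ← List.range_eq_range', List.countP_eq_length_filter,
    ← List.toFinset_card_of_nodup ((List.nodup_range).filter _), ← Set.ncard_coe_finset]
  have hlt : ∀ p ∈ ((List.range T22.N).filter fun p => Nat.beq (f p) p).toFinset, p < T22.N := fun p hp => by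
    simp at hp; exact hp.1
  refine (Set.ncard_congr (fun p _ => dN p) (fun p hp => ?_) (fun p q hp hq h => ?_) fun y hy => ?_).symm
  · have hpN := hlt p hp
    have h2 : f p = p := by simp at hp; exact hp.2
    exact ⟨T.mem p hpN, by rw [(hf p hpN).2, h2]⟩
  · exact T.inj p (hlt p hp) q (hlt q hq) h
  · obtain ⟨p, hp, rfl⟩ := T.surj y hy.1
    refine ⟨p, ?_, rfl⟩
    simp only [List.coe_toFinset, List.mem_filter, List.mem_range, Set.mem_setOf_eq, Nat.beq_eq]
    exact ⟨hp, T.inj _ (hf p hp).1 _ hp ((hf p hp).2.symm.trans hy.2)⟩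

end

end Cfsg.Agent.ThreeTransM22Word48
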