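import Cfsg.Agent.Lib.ThreeTransM23Parity34
import Cfsg.Agent.S5361

/-!
# Uniqueness of the class for type M(23)

An involution whose centralizer is a double cover of a group of type M(22) lies in the class, and the
class is the only class of 3-transpositions.
-/

set_option autoImplicit false
set_option linter.unusedSectionVars false
set_option linter.style.haveILetI false

namespace Cfsg.Agent.ThreeTransM23Unique34

open Subgroup Cfsg.Agent.ThreeTransRel Cfsg.Agent.ThreeTransDescent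
open Cfsg.Agent.ThreeTransM22Count72 Cfsg.Agent.ThreeTransM23Parity34

universe u
variable {G : Type u} [Group G] [Finite G] {D : Set G}

/-- A product of two commuting members is no member. -/
theorem mul_not_mem (hD : Cfsg.IsThreeTranspositionGroup D) (hZ : Subgroup.center G = ⊥) {a b : G}
    (ha : a ∈ D) (hb : b ∈ D) (hab : Commute a b) (hne : a ≠ b) : a * b ∉ D := by
  intro h
  have ht := tsys_of_group hD
  have ha1 := ThreeTrans.ne_one hD.1 ha
  have hb1 := ThreeTrans.ne_one hD.1 hb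
  have e1 : a ≠ a * b := fun e => hb1 (mul_eq_left.mp e.symm)
  have e2 : b ≠ a * b := fun e => ha1 (mul_eq_right.mp e.symm)
  have hca : Commute a (a * b) := (Commute.refl a).mul_right hab
  have hcb : Commute b (a * b) := hab.symm.mul_right (Commute.refl b)
  have hr : Rel D [a, b, a * b] := by
    refine ⟨⟨by simp [ha, hb, h], by simp [hne, e1, e2], ?_⟩, ?_⟩
    · intro x hx y hy
      simp only [List.mem_cons, List.not_mem_nil, or_false] at hx hy
      rcases hx with rfl | rfl | rfl <;> rcases hy with rfl | rfl | rfl <;>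
        first
          | exact Commute.refl _
          | assumption
          | (apply Commute.symm; assumption)
    · simp only [List.prod_cons, List.prod_nil, mul_one]
      rw [← mul_assoc, show a * b * (a * b) = 1 from by
        rw [hab.symm.mul_mul_mul_comm, ht.sq a ha, ht.sq b hb, one_mul]]
  exact absurd (no_short ht hZ hr (fun x hx => ThreeTrans.ne_one hD.1 (hr.mem x hx)) (by simp))
    (by simp)

/-- The type M(22) quotient: its class is the only invariant set of 3-transpositions. -/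
theorem quot_unique {Y : Type u} [Group Y] [Finite Y] (hYq : Nontrivial Y → Cfsg.IsQuasisimple Y)
    {E : Set Y} (hE : Cfsg.IsThreeTranspositionClass E) (h22 : Cfsg.IsOfTypeM22 Y E)
    (hM : ∃ e : Y, orderOf e = 2 ∧ Cfsg.IsQuasisimple ↥(Subgroup.centralizer ({e} : Set Y)) ∧
      ∃ (_ : ((zpowers e).subgroupOf (Subgroup.centralizer ({e} : Set Y))).Normal)
        (K : Type) (_ : Field K) (_ : Fintype K), Fintype.card K = 4 ∧
        Nonempty (↥(Subgroup.centralizer ({e} : Set Y)) ⧸
          (zpowers e).subgroupOf (Subgroup.centralizer ({e} : Set Y)) ≃* Cfsg.PSU 6 K 2)) :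
    Subgroup.center Y = ⊥ ∧ ∀ F : Set Y, F.Nonempty → Cfsg.IsThreeTranspositionSet F →
      (∀ g : Y, ∀ x ∈ F, g * x * g⁻¹ ∈ F) → F = E := by
  have hgrp : Cfsg.IsThreeTranspositionGroup E := ⟨hE.1, ThreeTrans.conjInv hE, hE.2.2⟩
  have ht := tsys_of_group hgrp
  obtain ⟨-, -, d, hd, a, ha, -⟩ := m22_even ht (fun y hy => ThreeTrans.ne_one hE.1 hy) h22
  haveI : Nontrivial Y := ⟨⟨a, d, ha.2.1⟩⟩
  have hq := hYq inferInstance
  have hc : Subgroup.center Y = ⊥ := h22.1
  haveI hsimp : IsSimpleGroup Y := by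
    haveI := hq.2
    exact IsSimpleGroup.isSimpleGroup_of_surjective
      ((QuotientGroup.quotientMulEquivOfEq hc).trans QuotientGroup.quotientBot).toMonoidHom
      ((QuotientGroup.quotientMulEquivOfEq hc).trans QuotientGroup.quotientBot).surjective
  have hprim : Cfsg.IsPrimitiveUnderConj E := by
    refine (S5361.result hE hc ⟨d, hd, a, ha.1, ha.2.1.symm, ha.2.2⟩).1.mp ?_
    haveI := hq.1
    rw [Group.IsPerfect.commutator_eq_top]
    exact IsSimpleGroup.isSimpleGroup_of_surjective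
      (Subgroup.topEquiv.symm : Y ≃* ↥(⊤ : Subgroup Y)).toMonoidHom
      (Subgroup.topEquiv.symm : Y ≃* ↥(⊤ : Subgroup Y)).surjective
  have hcent := ThreeTransM22Cent72.centralizer_eq hgrp hprim h22 hM
  refine ⟨hc, fun F hF hset hinv => ?_⟩
  have hsub : ∀ x ∈ F, conjugatesOf x ⊆ F ∧ conjugatesOf x = E := by
    intro x hx
    have hle : conjugatesOf x ⊆ F := fun y hy => by
      obtain ⟨g, rfl⟩ := isConj_iff.mp (show IsConj x y from hy)
      exact hinv g x hx
    refine ⟨hle, ThreeTransM22Cent72.unique_class hgrp hprim h22 hcent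
      ⟨⟨fun y hy => hset.1 y (hle hy), fun y hy z hz => hset.2 y (hle hy) z (hle hz)⟩,
        ⟨x, mem_conjugatesOf_self, rfl⟩, ?_⟩⟩
    have hn : (Subgroup.closure (conjugatesOf x)).Normal := by
      have := Subgroup.normalClosure_normal (s := ({x} : Set Y))
      simpa [Subgroup.normalClosure, Group.conjugatesOfSet] using this
    refine hn.eq_bot_or_eq_top.resolve_left fun h => ThreeTrans.ne_one hset hx ?_
    exact Subgroup.mem_bot.mp (h ▸ Subgroup.subset_closure mem_conjugatesOf_self)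
  obtain ⟨x₀, hx₀⟩ := hF
  exact Set.Subset.antisymm (fun x hx => (hsub x hx).2 ▸ mem_conjugatesOf_self)
    ((hsub x₀ hx₀).2 ▸ (hsub x₀ hx₀).1)

/-- The image of an invariant set of 3-transpositions of `C`. -/
theorem image_three {C Y : Type*} [Group C] [Group Y] (φ : C →* Y) (hsurj : Function.Surjective φ)
    {T : Set C} (hsq : ∀ x ∈ T, x * x = 1)
    (h3 : ∀ x ∈ T, ∀ y ∈ T, (x * y) ^ 2 = 1 ∨ (x * y) ^ 3 = 1) (hne : ∀ x ∈ T, φ x ≠ 1)
    (hinv : ∀ g : C, ∀ x ∈ T, g * x * g⁻¹ ∈ T) :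
    Cfsg.IsThreeTranspositionSet (φ '' T) ∧ ∀ g : Y, ∀ x ∈ φ '' T, g * x * g⁻¹ ∈ φ '' T := by
  refine ⟨⟨?_, ?_⟩, ?_⟩
  · rintro _ ⟨x, hx, rfl⟩
    exact orderOf_eq_prime (by rw [pow_two, ← map_mul, hsq x hx, map_one]) (hne x hx)
  · rintro _ ⟨x, hx, rfl⟩ _ ⟨y, hy, rfl⟩
    rw [← map_mul, ← map_pow, ← map_pow]
    exact (h3 x hx y hy).imp (fun h => by rw [h, map_one]) fun h => by rw [h, map_one]
  · intro g x hx
    obtain ⟨g, rfl⟩ := hsurj g
    obtain ⟨x, hx, rfl⟩ := hx
    exact ⟨g * x * g⁻¹, hinv g x hx, by simp⟩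

/-- The main argument. -/
theorem main (hD : Cfsg.IsThreeTranspositionGroup D) (hprim : Cfsg.IsPrimitiveUnderConj D)
    (h23 : Cfsg.IsOfTypeM23 G D) {e : G} (he : orderOf e = 2)
    {C : Subgroup G} (hC : C = Subgroup.centralizer ({e} : Set G))
    (hq : Cfsg.IsQuasisimple ↥C) {Y : Type u} [Group Y] [Finite Y]
    (φ : ↥C →* Y) (hsurj : Function.Surjective φ)
    (hker : ∀ x, φ x = 1 → (x : G) = 1 ∨ (x : G) = e)
    {E : Set Y} (hE : Cfsg.IsThreeTranspositionClass E) (h22 : Cfsg.IsOfTypeM22 Y E)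
    (hM : ∃ x : Y, orderOf x = 2 ∧ Cfsg.IsQuasisimple ↥(Subgroup.centralizer ({x} : Set Y)) ∧
      ∃ (_ : ((zpowers x).subgroupOf (Subgroup.centralizer ({x} : Set Y))).Normal)
        (K : Type) (_ : Field K) (_ : Fintype K), Fintype.card K = 4 ∧
        Nonempty (↥(Subgroup.centralizer ({x} : Set Y)) ⧸
          (zpowers x).subgroupOf (Subgroup.centralizer ({x} : Set Y)) ≃* Cfsg.PSU 6 K 2))
    {D' : Set G} (hD' : Cfsg.IsThreeTranspositionClass D') : D' = D := by
  classical
  have ht := tsys_of_group hD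
  have hZ : Subgroup.center G = ⊥ := h23.1
  obtain ⟨hodd, hnearne⟩ := m23_odd ht hprim h23
  have hee : e * e = 1 := by rw [← pow_two, ← he, pow_orderOf_eq_one]
  have hmemC : ∀ {y : G}, Commute y e → y ∈ C := fun h => hC ▸ mem_centralizer_singleton_iff.mpr h.eq
  have hCc : ∀ x : ↥C, Commute (x : G) e := fun x =>
    mem_centralizer_singleton_iff.mp (hC.le x.2)
  obtain ⟨hYZ, huniq⟩ := quot_unique
    (fun h => by haveI := h; exact ComponentsBasic.isQuasisimple_of_surjective φ hsurj hq) hE h22 hM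
  have hgrpE : Cfsg.IsThreeTranspositionGroup E := ⟨hE.1, ThreeTrans.conjInv hE, hE.2.2⟩
  obtain ⟨hEeven, -, dE, hdE, aE, haE, bE, hbE, habE⟩ :=
    m22_even (tsys_of_group hgrpE) (fun y hy => ThreeTrans.ne_one hE.1 hy) h22
  have hrefl : ∀ x y : ↥C, (x : G) ∈ D → (y : G) ∈ D → Commute (φ x) (φ y) →
      Commute (x : G) y := by
    intro x y hx hy h
    by_contra hn
    have h1 : φ (x * y * (x * y)) = 1 := by
      rw [map_mul, map_mul, h.symm.mul_mul_mul_comm, ← map_mul, ← map_mul,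
        show x * x = 1 from Subtype.ext (ht.sq _ hx), show y * y = 1 from Subtype.ext (ht.sq _ hy),
        map_one, one_mul]
    have h2 : ((x : G) * y) ^ 4 = 1 := by
      rcases hker _ h1 with k | k <;> simp only [Subgroup.coe_mul] at k
      · rw [show 4 = 2 * 2 from rfl, pow_mul, pow_two ((x : G) * y), k, one_pow]
      · rw [show 4 = 2 * 2 from rfl, pow_mul, pow_two ((x : G) * y), k, ← he, pow_orderOf_eq_one]
    exact hn (ThreeTrans.commute_of_two_pow hD.1 hx hy (k := 2) h2)
  have hquot : ∀ x y : ↥C, (y : G) * y = 1 → φ x = φ y → x = y ∨ (x : G) * y = e := by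
    intro x y hy h
    have h1 : φ (x * y) = 1 := by
      rw [map_mul, h, ← map_mul, show y * y = 1 from Subtype.ext hy, map_one]
    rcases hker _ h1 with k | k <;> simp only [Subgroup.coe_mul] at k
    · exact Or.inl (Subtype.ext (by rw [eq_inv_of_mul_eq_one_left k, inv_eq_of_mul_eq_one_right hy]))
    · exact Or.inr k
  -- `e` is a member
  have heD : e ∈ D := by
    by_contra heD
    set T : Set ↥C := {x | (x : G) ∈ D} with hT
    obtain ⟨p, hp, hpe⟩ := exists_commute_odd hodd hee fun y hy => ht.conj e y hy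
    have hne1 : ∀ x ∈ T, φ x ≠ 1 := by
      intro x hx h
      rcases hker x h with h | h
      · exact ThreeTrans.ne_one hD.1 hx h
      · exact heD (h ▸ hx)
    obtain ⟨hF, hFinv⟩ := image_three φ hsurj (T := T) (fun x hx => Subtype.ext (ht.sq _ hx))
      (fun x hx y hy => (hD.1.2 _ hx _ hy).imp (fun h => Subtype.ext (by simpa using h))
        fun h => Subtype.ext (by simpa using h)) hne1 (fun g x hx => ht.conj g x hx)
    have hFE := huniq (φ '' T) ⟨_, ⟨p, hmemC hpe.symm⟩, hp, rfl⟩ hF hFinv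
    have hinj : Set.InjOn φ T := by
      intro x hx y hy h
      refine (hquot x y (ht.sq _ hy) h).resolve_right fun k => ?_
      have hxy : Commute (x : G) y := hrefl x y hx hy (h ▸ Commute.refl _)
      have hne : (x : G) ≠ y := fun h' => by
        rw [h', ht.sq _ hy] at k
        rw [← k, orderOf_one] at he
        exact absurd he (by norm_num)
      have hl : CList D [(x : G), (y : G)] :=
        ⟨by simp [show (x : G) ∈ D from hx, show (y : G) ∈ D from hy],
          by simp [hne], by simp [hxy, hxy.symm]⟩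
      have hperm : ∀ c : ↥C, ((c : G) * x * (c : G)⁻¹ = x ∨ (c : G) * x * (c : G)⁻¹ = y) ∧
          ((c : G) * y * (c : G)⁻¹ = x ∨ (c : G) * y * (c : G)⁻¹ = y) := by
        intro c
        have hl' : CList D [(c : G) * x * (c : G)⁻¹, c * y * (c : G)⁻¹] :=
          ⟨by simp [ht.conj _ _ (show (x : G) ∈ D from hx), ht.conj _ _ (show (y : G) ∈ D from hy)],
            by simp [hne], by simp [(Commute.conj_iff (c : G)).mpr hxy,
              (Commute.conj_iff (c : G)).mpr hxy.symm]⟩
        have := ThreeTransPairs.pair_unique ht hprim hl' rfl hl rfl (by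
          simp only [List.prod_cons, List.prod_nil, mul_one]
          rw [show (c : G) * x * (c : G)⁻¹ * (c * y * (c : G)⁻¹) = c * (x * y) * (c : G)⁻¹ by group,
            k, (hCc c).eq, mul_inv_cancel_right])
        exact ⟨by simpa using (this ((c : G) * x * (c : G)⁻¹)).mp (by simp),
          by simpa using (this ((c : G) * y * (c : G)⁻¹)).mp (by simp)⟩
      set K : Subgroup ↥C := (Subgroup.centralizer ({(x : G)} : Set G)).subgroupOf C with hK
      have hmemK : ∀ c : ↥C, c ∈ K ↔ (c : G) * x * (c : G)⁻¹ = x := fun c => by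
        rw [hK, mem_subgroupOf, mem_centralizer_singleton_iff, mul_inv_eq_iff_eq_mul]
      have hKtop : K = ⊤ := by
        by_contra hK'
        obtain ⟨c₀, hc₀⟩ : ∃ c, c ∉ K := by
          by_contra h'
          push Not at h'
          exact hK' (eq_top_iff.mpr fun c _ => h' c)
        have hxy' : ∀ c, c ∉ K → (c : G) * x * (c : G)⁻¹ = y ∧ (c : G) * y * (c : G)⁻¹ = x := by
          intro c hc
          have e1 := (hperm c).1.resolve_left fun h' => hc ((hmemK c).mpr h')
          exact ⟨e1, (hperm c).2.resolve_right fun h' =>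
            hne (mul_left_cancel (mul_right_cancel (e1.trans h'.symm)))⟩
        have hidx : K.index = 2 := by
          refine Subgroup.index_eq_two_iff.mpr ⟨c₀, fun c => ?_⟩
          by_cases hc : c ∈ K
          · exact Or.inr ⟨hc, fun h' => hc₀ ((K.mul_mem_cancel_left hc).mp h')⟩
          · refine Or.inl ⟨(hmemK _).mpr ?_, hc⟩
            rw [Subgroup.coe_mul, show ((c : G) * c₀) * x * ((c : G) * c₀)⁻¹ =
              c * (c₀ * x * (c₀ : G)⁻¹) * (c : G)⁻¹ by group, (hxy' c₀ hc₀).1, (hxy' c hc).2]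
        haveI := normal_of_index_eq_two hidx
        haveI : Fact (Nat.Prime 2) := ⟨Nat.prime_two⟩
        haveI : IsCyclic (↥C ⧸ K) := isCyclic_of_prime_card hidx
        have := (Subgroup.Normal.quotient_commutative_iff_commutator_le).mp
          (⟨⟨fun a b => IsCyclic.commGroup.mul_comm a b⟩⟩ : IsMulCommutative (↥C ⧸ K))
        rw [hq.1.commutator_eq_top] at this
        exact hK' (top_le_iff.mp this)
      refine hne1 x hx (mem_bot.mp ?_)
      rw [← hYZ, mem_center_iff]
      intro g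
      obtain ⟨g, rfl⟩ := hsurj g
      have hg := (hmemK g).mp (hKtop ▸ mem_top g)
      rw [← map_mul, ← map_mul]
      exact congrArg φ (Subtype.ext (mul_inv_eq_iff_eq_mul.mp hg))
    have hP : {y | y ∈ D ∧ Commute e y}.ncard = E.ncard := by
      rw [← hFE, hinj.ncard_image]
      refine Set.ncard_congr (fun y hy => (⟨y, hmemC hy.2.symm⟩ : ↥C)) (fun y hy => hy.1)
        (fun a b _ _ h => congrArg Subtype.val h) fun x hx => ⟨x, ⟨hx, (hCc x).symm⟩, rfl⟩
    have hadd := ncard_commute_add (S := D) (x := e)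
    have hev := even_noncomm (S := D) hee fun y hy => ht.conj e y hy
    omega
  -- the members near `e` are the class of the quotient
  set N : Set ↥C := {x | (x : G) ∈ near D e} with hN
  have hN1 : ∀ x ∈ N, φ x ≠ 1 := by
    intro x hx h
    rcases hker x h with h | h
    · exact ThreeTrans.ne_one hD.1 hx.1 h
    · exact hx.2.1 h
  obtain ⟨hF, hFinv⟩ := image_three φ hsurj (T := N) (fun x hx => Subtype.ext (ht.sq _ hx.1))
    (fun x hx y hy => (hD.1.2 _ hx.1 _ hy.1).imp (fun h => Subtype.ext (by simpa using h))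
      fun h => Subtype.ext (by simpa using h)) hN1 (fun g x hx => near_conj ht (hCc g) hx)
  obtain ⟨y₀, hy₀⟩ := hnearne e heD
  have hNE := huniq (φ '' N) ⟨_, ⟨y₀, hmemC hy₀.2.2.symm⟩, hy₀, rfl⟩ hF hFinv
  have hNinj : ∀ x ∈ N, ∀ y ∈ N, φ x = φ y → x = y := by
    intro x hx y hy h
    refine (hquot x y (ht.sq _ hy.1) h).resolve_right fun k => ?_
    have hne : (x : G) ≠ y := fun h' => by
      rw [h', ht.sq _ hy.1] at k
      exact ThreeTrans.ne_one hD.1 heD k.symm
    exact mul_not_mem hD hZ hx.1 hy.1 (hrefl x y hx.1 hy.1 (h ▸ Commute.refl _)) hne (by rw [k]; exact heD)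
  -- the other class
  have hconj' := ThreeTrans.conjInv hD'
  obtain ⟨x₀, hx₀, hclass⟩ := hD'.2.1
  have hmeet : ∀ y, y ∈ D → y ∈ D' → D' = D := by
    intro y hy hy'
    ext z
    constructor
    · intro hz
      rw [hclass] at hz hy'
      obtain ⟨g, rfl⟩ := isConj_iff.mp ((show IsConj x₀ y from hy').symm.trans hz)
      exact ht.conj g y hy
    · intro hz
      obtain ⟨g, rfl⟩ := hprim.1 y hy z hz
      exact hconj' g y hy'
  obtain ⟨s, hs, hxs⟩ := exists_commute_odd hodd (ThreeTrans.mul_self hD'.1 hx₀)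
    fun y hy => ht.conj x₀ y hy
  obtain ⟨g₀, hg₀⟩ := hprim.1 s hs e heD
  set x : ↥C := ⟨g₀ * x₀ * g₀⁻¹, hmemC (hg₀ ▸ (Commute.conj_iff g₀).mpr hxs)⟩ with hx
  by_cases heD' : e ∈ D'
  · exact hmeet e heD heD'
  set T' : Set ↥C := {y | (y : G) ∈ D'} with hT'
  obtain ⟨hF', hFinv'⟩ := image_three φ hsurj (T := T')
    (fun y hy => Subtype.ext (ThreeTrans.mul_self hD'.1 hy))
    (fun y hy z hz => (hD'.1.2 _ hy _ hz).imp (fun h => Subtype.ext (by simpa using h))
      fun h => Subtype.ext (by simpa using h))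
    (fun y hy h => by
      rcases hker y h with h | h
      · exact ThreeTrans.ne_one hD'.1 hy h
      · exact heD' (h ▸ hy))
    (fun g y hy => hconj' g y hy)
  have hxT : x ∈ T' := hconj' g₀ x₀ hx₀
  have hT'E := huniq (φ '' T') ⟨_, x, hxT, rfl⟩ hF' hFinv'
  obtain ⟨y, hy, hyx⟩ : φ x ∈ φ '' N := by rw [hNE, ← hT'E]; exact ⟨x, hxT, rfl⟩
  rcases hquot x y (ht.sq _ hy.1) hyx.symm with h | h
  · exact hmeet _ hy.1 (h ▸ hxT)
  exfalso
  have hxy : (x : G) = e * y := by rw [← h, mul_assoc, ht.sq _ hy.1, mul_one]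
  -- products of commuting members lie in the other class
  have hea : ∀ a ∈ near D e, e * a ∈ D' := by
    intro a ha
    have h1 : φ y ∈ E := hNE ▸ ⟨y, hy, rfl⟩
    have h2 : φ ⟨a, hmemC ha.2.2.symm⟩ ∈ E := hNE ▸ ⟨_, ha, rfl⟩
    obtain ⟨d₀, -, hEd⟩ := hE.2.1
    obtain ⟨g, hg⟩ := isConj_iff.mp
      ((show IsConj d₀ (φ y) from Set.ext_iff.mp hEd _ |>.mp h1).symm.trans
        (show IsConj d₀ _ from Set.ext_iff.mp hEd _ |>.mp h2))
    obtain ⟨g, rfl⟩ := hsurj g
    have hga := congrArg Subtype.val (hNinj (g * y * g⁻¹) (near_conj ht (hCc g) hy)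
      ⟨a, hmemC ha.2.2.symm⟩ ha (by rw [map_mul, map_mul, map_inv, hg]))
    have := hconj' (g : G) x hxT
    rw [hxy, show (g : G) * (e * y) * (g : G)⁻¹ = (g * e * (g : G)⁻¹) * (g * y * (g : G)⁻¹) by group,
      mul_inv_eq_iff_eq_mul.mpr (hCc g).eq] at this
    simpa [show (g : G) * y * (g : G)⁻¹ = a from hga] using this
  have hsa : ∀ s ∈ D, ∀ a ∈ near D s, s * a ∈ D' := by
    intro s hs a ha
    obtain ⟨g, rfl⟩ := hprim.1 e heD s hs
    have ha' : g⁻¹ * a * g⁻¹⁻¹ ∈ near D e := by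
      refine ⟨ht.conj g⁻¹ a ha.1, fun h => ha.2.1 (by rw [← h]; group), ?_⟩
      have := (Commute.conj_iff g⁻¹).mpr ha.2.2
      rwa [show g⁻¹ * (g * e * g⁻¹) * g⁻¹⁻¹ = e by group] at this
    have := hconj' g _ (hea _ ha')
    rwa [show g * (e * (g⁻¹ * a * g⁻¹⁻¹)) * g⁻¹ = g * e * g⁻¹ * a by group] at this
  -- two such products with product of order six
  have hliftN : ∀ z ∈ E, ∃ w ∈ N, φ w = z := fun z hz => by rwa [← hNE] at hz
  obtain ⟨c, hc, hcz⟩ := hliftN dE hdE
  obtain ⟨a, ha, haz⟩ := hliftN aE haE.1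
  obtain ⟨b, hb, hbz⟩ := hliftN bE hbE.1
  have hca : Commute (c : G) a := hrefl c a hc.1 ha.1 (by rw [hcz, haz]; exact haE.2.2)
  have hcb : Commute (c : G) b := hrefl c b hc.1 hb.1 (by rw [hcz, hbz]; exact hbE.2.2)
  have hab : ¬ Commute (a : G) b := fun k => habE (by
    rw [← haz, ← hbz]; exact (show Commute a b from Subtype.ext k.eq).map φ)
  have hane : (a : G) ≠ c := fun k => haE.2.1 (by rw [← haz, ← hcz, Subtype.ext k])
  have h1 : (c : G) * a ∈ D' := hsa c hc.1 a ⟨ha.1, hane, hca⟩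
  have h2 : e * (b : G) ∈ D' := hea b hb
  set z := (c : G) * e with hz
  set w := (a : G) * b with hw
  have hw3 : w ^ 3 = 1 := ThreeTrans.cube_of_not_commute hD.1 ha.1 hb.1 hab
  have hzz : z ^ 2 = 1 := by
    rw [hz, (hCc c).mul_pow, pow_two, pow_two, ht.sq _ hc.1, hee, one_mul]
  have hzw : Commute z w :=
    (hca.mul_right hcb).mul_left ((hCc a).symm.mul_right (hCc b).symm)
  have hprod : (c : G) * a * (e * b) = z * w := by
    rw [hz, hw]; exact (hCc a).mul_mul_mul_comm _ _
  rcases hD'.1.2 _ h1 _ h2 with k | k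
  · rw [hprod, hzw.mul_pow, hzz, one_mul] at k
    rw [pow_succ, k, one_mul] at hw3
    refine hab (ThreeTrans.commute_of_sq hD.1 ha.1 hb.1 ?_)
    rw [← hw, hw3, one_pow]
  · rw [hprod, hzw.mul_pow, hw3, mul_one, pow_succ, hzz, one_mul, hz] at k
    exact hc.2.1 (by rw [eq_inv_of_mul_eq_one_left k, inv_eq_of_mul_eq_one_right hee])

end Cfsg.Agent.ThreeTransM23Unique34
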