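import Cfsg.Agent.Lib.ThreeTransM23Cent59
import Cfsg.Agent.S0293
import Cfsg.Agent.S0296
import Cfsg.Agent.S5361

/-!
# The local quotient in type M(24)

In a primitive class of type M(24) with central cores in the local group the members near a member form
one class, the local quotient is primitive of type M(23), and every member of it has a context.
-/

set_option autoImplicit false
set_option linter.unusedSectionVars false
set_option linter.style.haveILetI false

namespace Cfsg.Agent.ThreeTransM24Base88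

open Subgroup Cfsg.Agent.ThreeTransRel Cfsg.Agent.ThreeTransDescent
open Cfsg.Agent.ThreeTransM23Parity34
open scoped commutatorElement

variable {G : Type*} [Group G] [Finite G] {D : Set G}

/-- The derived group of a primitive class with two commuting members is simple and not abelian. -/
theorem derived (hD : Cfsg.IsThreeTranspositionGroup D) (hprim : Cfsg.IsPrimitiveUnderConj D)
    (hZ : Subgroup.center G = ⊥) {d c a : G} (hd : d ∈ D) (hc : c ∈ D) (hdc : ¬ Commute d c)
    (ha : a ∈ near D d) :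
    (∀ N : Subgroup G, N.Normal → Group.IsSolvable ↥N → N ≤ commutator G → N = ⊥) ∧
      ⁅commutator G, commutator G⁆ = commutator G := by
  have hcl := ThreeTransM23Prim34.class_of_prim hD hprim
  have ht := tsys_of_group hD
  have hw : ∃ a ∈ D, ∃ b ∈ D, a ≠ b ∧ Commute a b := ⟨d, hd, a, ha.1, ha.2.1.symm, ha.2.2⟩
  haveI hs : IsSimpleGroup ↥(commutator G) := (S5361.result hcl hZ hw).1.mpr hprim
  have hidx : (commutator G).index ≤ 2 := by
    refine ThreeTransPrimitive.index_le_two hcl _
      (ThreeTransPrimitive.connected_of_primitive hcl hprim hw) fun a ha b hb _ => ?_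
    obtain ⟨g, rfl⟩ := hprim.1 a ha b hb
    rw [show a⁻¹ * (g * a * g⁻¹) = ⁅a⁻¹, g⁆ by rw [commutatorElement_def]; group]
    exact Subgroup.commutator_mem_commutator (mem_top _) (mem_top _)
  have hnc : ¬ IsMulCommutative ↥(commutator G) := by
    intro hco
    letI : CommGroup ↥(commutator G) :=
      { (inferInstance : Group ↥(commutator G)) with mul_comm := hco.is_comm.comm }
    have hp : (Nat.card ↥(commutator G)).Prime := IsSimpleGroup.prime_card
    have h2 := (commutator G).card_mul_index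
    have h4 : 4 ∣ Nat.card G := by
      set V := Subgroup.closure ({d, a} : Set G)
      have hd1 := ThreeTrans.ne_one hD.1 hd
      have ha1 := ThreeTrans.ne_one hD.1 ha.1
      have hV2 : ∀ x ∈ V, x * x = 1 := by
        intro x hx
        have hcomm : ∀ u ∈ ({d, a} : Set G), ∀ v ∈ ({d, a} : Set G), u * v = v * u := by
          intro u hu v hv
          rcases hu with rfl | rfl <;> rcases hv with rfl | rfl
          exacts [rfl, ha.2.2.eq, ha.2.2.symm.eq, rfl]
        letI : CommGroup ↥V :=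
          { (inferInstance : Group ↥V) with
            mul_comm := (isMulCommutative_closure hcomm).is_comm.comm }
        induction hx using Subgroup.closure_induction with
        | mem y hy =>
          rcases hy with rfl | rfl
          exacts [ht.sq _ hd, ht.sq _ ha.1]
        | one => exact one_mul 1
        | mul y z hy hz ihy ihz =>
          have hyz : y * z = z * y := congrArg Subtype.val (mul_comm (⟨y, hy⟩ : ↥V) ⟨z, hz⟩)
          rw [show y * z * (y * z) = y * (z * y) * z by group, ← hyz,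
            show y * (y * z) * z = (y * y) * (z * z) by group, ihy, ihz, one_mul]
        | inv y hy ih => rw [← mul_inv_rev, ih, inv_one]
      haveI : Fact (Nat.Prime 2) := ⟨Nat.prime_two⟩
      have hP : IsPGroup 2 ↥V := fun x => ⟨1, by
        apply Subtype.ext
        simpa [pow_two] using hV2 x x.2⟩
      obtain ⟨n, hn⟩ := IsPGroup.iff_card.mp hP
      have h3 : ({1, d, a} : Set G).ncard = 3 := by
        rw [Set.ncard_insert_of_notMem (by simp [hd1.symm, ha1.symm]), Set.ncard_pair ha.2.1.symm]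
      have hle : 3 ≤ Nat.card ↥V := by
        rw [← h3]
        refine Set.ncard_le_ncard ?_ (Set.toFinite _)
        rintro x (rfl | rfl | rfl)
        exacts [one_mem V, subset_closure (by simp), subset_closure (by simp)]
      rw [hn] at hle
      have h2n : 2 ≤ n := by
        by_contra h
        interval_cases n <;> norm_num at hle
      exact ((pow_dvd_pow 2 h2n).trans (hn ▸ dvd_rfl)).trans V.card_subgroup_dvd_card
    have hi : 0 < (commutator G).index := Nat.pos_of_ne_zero FiniteIndex.index_ne_zero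
    rw [← h2] at h4
    have hG4 : Nat.card G = 4 := by
      rcases hp.eq_two_or_odd with h | h <;>
        rcases (show (commutator G).index = 1 ∨ (commutator G).index = 2 by omega) with h' | h' <;>
          rw [h'] at h4 h2 <;> omega
    haveI : Fact (Nat.Prime 2) := ⟨Nat.prime_two⟩
    exact hdc (IsPGroup.commutative_of_card_eq_prime_sq (p := 2) hG4 d c)
  haveI := hs.toNontrivial
  have hbr : commutator ↥(commutator G) = ⊤ := by
    rcases Subgroup.Normal.eq_bot_or_eq_top (H := commutator ↥(commutator G)) inferInstance with h | h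
    · exact absurd ((commutator_eq_bot_iff _).mp h) hnc
    · exact h
  refine ⟨fun N hN hsol hle => ?_, ?_⟩
  · rcases Subgroup.Normal.eq_bot_or_eq_top (H := N.subgroupOf (commutator G)) inferInstance with h | h
    · rw [Subgroup.subgroupOf_eq_bot, disjoint_iff, inf_eq_left.mpr hle] at h
      exact h
    · exfalso
      have hle' : commutator G ≤ N := Subgroup.subgroupOf_eq_top.mp h
      haveI := hsol
      haveI : Group.IsSolvable ↥(commutator G) := Group.isSolvable_of_isSolvable_injective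
        (f := Subgroup.inclusion hle') (Subgroup.inclusion_injective hle')
      haveI : Group.IsPerfect ↥(commutator G) := ⟨hbr⟩
      exact Group.IsPerfect.not_isSolvable ↥(commutator G) inferInstance
  · have h := congrArg (Subgroup.map (commutator G).subtype) hbr
    rwa [Subgroup.map_subtype_commutator, ← MonoidHom.range_eq_map, Subgroup.range_subtype] at h

/-- Five divides the order of the simple group occurring in type M(24). -/
theorem five_dvd : 5 ∣ Nat.card (Cfsg.POmega (ZMod 3) (Cfsg.quadFormPlus 4 (ZMod 3))) := by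
  haveI : Fact (Nat.Prime 3) := ⟨Nat.prime_three⟩
  have h := S0293.result (F := ZMod 3) (q := 3) (ZMod.card 3) 4 le_rfl
  norm_num [Finset.prod_range_succ] at h
  omega

/-- A local group common to two members is not of width one. -/
theorem exists_partner (hD : Cfsg.IsThreeTranspositionGroup D) {d c : G}
    (h5 : 5 ∣ Nat.card ↥(Subgroup.closure (near D d ∩ near D c))) :
    ∀ s ∈ near D d ∩ near D c, ∃ t ∈ near D d ∩ near D c, t ≠ s ∧ Commute s t := by
  classical
  have ht := tsys_of_group hD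
  set S := near D d ∩ near D c with hS
  set L := Subgroup.closure S with hLdef
  have hLd : ∀ k ∈ L, Commute d k ∧ Commute c k := fun k hk =>
    ⟨commute_d_of_mem_loc (closure_mono Set.inter_subset_left hk),
      commute_d_of_mem_loc (closure_mono Set.inter_subset_right hk)⟩
  have hSconj : ∀ k ∈ L, ∀ y ∈ S, k * y * k⁻¹ ∈ S := fun k hk y hy =>
    ⟨near_conj ht (hLd k hk).1.symm hy.1, near_conj ht (hLd k hk).2.symm hy.2⟩
  intro s hs
  by_contra hno
  push Not at hno
  have hw1 : ∀ a ∈ S, ∀ b ∈ S, Commute a b → a = b := by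
    intro a ha b hb hab
    by_contra hne
    by_cases has : a = s
    · exact hno b hb (fun e => hne (has.trans e.symm)) (has ▸ hab)
    · have hn : ¬ Commute s a := hno a ha has
      set k := s * a with hk
      have hkL : k ∈ L := mul_mem (subset_closure hs) (subset_closure ha)
      have hks : k * s * k⁻¹ = a := by
        rw [hk, mul_inv_rev, ht.inv_self hs.1.1, ht.inv_self ha.1.1]
        calc s * a * s * (a * s) = (s * a * s) * a * s := by group
          _ = (a * s * a) * a * s := by rw [ht.braid s hs.1.1 a ha.1.1 hn]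
          _ = a * (s * (a * a) * s) := by group
          _ = a := by rw [ht.sq a ha.1.1, mul_one, ht.sq s hs.1.1, mul_one]
      have hb' := hSconj _ (inv_mem hkL) b hb
      refine hno _ hb' (fun e => hne ?_) ?_
      · rw [← hks, ← e]; group
      · have := (Commute.conj_iff k⁻¹).mpr hab
        rwa [← hks, show k⁻¹ * (k * s * k⁻¹) * k⁻¹⁻¹ = s by group] at this
  set S' : Set ↥L := {x | (x : G) ∈ S} with hS'
  have hset : Cfsg.IsThreeTranspositionSet S' := by
    refine ⟨fun x hx => ?_, fun x hx y hy => ?_⟩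
    · rw [← hD.1.1 _ hx.1.1]; exact (orderOf_injective L.subtype L.subtype_injective x).symm
    · exact (hD.1.2 _ hx.1.1 _ hy.1.1).imp (fun h => Subtype.ext (by simpa using h))
        fun h => Subtype.ext (by simpa using h)
  have hin : ∀ x ∈ S', ∀ y ∈ S', x * y ∈ Cfsg.pCore 3 ↥L := fun x hx y hy =>
    ThreeTransPerp.mul_mem_pCore_of_width_one hset (fun g x hx => hSconj g g.2 x hx)
      (fun a ha b hb h => Subtype.ext (hw1 _ ha _ hb (h.map L.subtype))) hx hy
  haveI := HallCore.pCore_normal 3 ↥L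
  set π := QuotientGroup.mk' (Cfsg.pCore 3 ↥L) with hπ
  have hgen : Subgroup.closure S' = ⊤ := by
    rw [eq_top_iff]
    rintro ⟨x, hx⟩ -
    induction hx using Subgroup.closure_induction with
    | mem y hy => exact subset_closure hy
    | one => exact one_mem _
    | mul a b _ _ ha hb => exact mul_mem ha hb
    | inv a _ ha => exact inv_mem ha
  have hsL : (⟨s, subset_closure hs⟩ : ↥L) ∈ S' := hs
  have htop : (⊤ : Subgroup (↥L ⧸ Cfsg.pCore 3 ↥L)) ≤ zpowers (π ⟨s, subset_closure hs⟩) := by
    rw [← map_top_of_surjective _ (QuotientGroup.mk'_surjective _), ← hgen, MonoidHom.map_closure,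
      closure_le]
    rintro _ ⟨x, hx, rfl⟩
    have h1 : π (x * ⟨s, subset_closure hs⟩) = 1 :=
      (QuotientGroup.eq_one_iff _).mpr (hin x hx _ hsL)
    rw [map_mul] at h1
    show QuotientGroup.mk' _ x ∈ zpowers _
    rw [eq_inv_of_mul_eq_one_left h1]
    exact inv_mem (mem_zpowers _)
  have hidx : (Cfsg.pCore 3 ↥L).index ≤ 2 := by
    rw [index_eq_card, ← Subgroup.card_top, ← top_le_iff.mp htop, Nat.card_zpowers]
    refine Nat.le_of_dvd (by norm_num) (orderOf_dvd_of_pow_eq_one ?_)
    rw [← map_pow, pow_two, show (⟨s, subset_closure hs⟩ : ↥L) * ⟨s, _⟩ = 1 from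
      Subtype.ext (ht.sq s hs.1.1), map_one]
  haveI : Fact (Nat.Prime 3) := ⟨Nat.prime_three⟩
  obtain ⟨n, hn⟩ := IsPGroup.iff_card.mp (HallCore.isPGroup_pCore 3 ↥L)
  have h5' : 5 ∣ 3 ^ n * (Cfsg.pCore 3 ↥L).index := by
    rw [← hn, Subgroup.card_mul_index]
    exact h5
  rcases (Nat.Prime.dvd_mul (by norm_num)).mp h5' with h | h
  · exact absurd (Nat.Prime.dvd_of_dvd_pow (by norm_num) h) (by norm_num)
  · have hi : 0 < (Cfsg.pCore 3 ↥L).index := Nat.pos_of_ne_zero FiniteIndex.index_ne_zero
    have := Nat.le_of_dvd hi h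
    omega

/-- What is used about a member `d` in type M(24). -/
structure Ctx (D : Set G) (d : G) : Prop where
  grp : Cfsg.IsThreeTranspositionGroup D
  prim : Cfsg.IsPrimitiveUnderConj D
  centre : Subgroup.center G = ⊥
  mem : d ∈ D
  sol : ∀ N : Subgroup G, N.Normal → Group.IsSolvable ↥N → N ≤ commutator G → N = ⊥
  perf : ⁅commutator G, commutator G⁆ = commutator G
  q23 : Cfsg.IsOfTypeM23 (↥(loc D d) ⧸ Subgroup.center ↥(loc D d)) (imgSet D d)
  qctx : ∀ u ∈ imgSet D d, ThreeTransM23Local59.Ctx (imgSet D d) u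

/-- A context exists. -/
theorem exists_ctx (hD : Cfsg.IsThreeTranspositionGroup D) (hprim : Cfsg.IsPrimitiveUnderConj D)
    {d₀ : G} (hd₀ : d₀ ∈ D)
    (h3 : Cfsg.pCore 3 ↥(loc D d₀) ≤ Subgroup.center ↥(loc D d₀))
    (h2 : Cfsg.pCore 2 ↥(loc D d₀) ≤ Subgroup.center ↥(loc D d₀))
    (h24 : Cfsg.IsOfTypeM24 G D) : ∃ d, Ctx D d := by
  classical
  have ht := tsys_of_group hD
  have hcl := ThreeTransM23Prim34.class_of_prim hD hprim
  have htc := ThreeTransp.tc_of_class hcl
  obtain ⟨hZ, d, hd, c, hc, hdc, h23, N, hN, ⟨eN⟩, -⟩ := h24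
  have hno := no_trivial ht hprim hd
  have htI := tsys_img ht d
  obtain ⟨-, u, hu, w, hw, huw, -⟩ := id h23
  obtain ⟨a, ha, hau⟩ := hu
  obtain ⟨hsol, hperf⟩ := derived hD hprim hZ hd hc hdc ha
  have h1 : ∀ y ∈ imgSet D d, y ≠ 1 := by
    rintro _ ⟨x, hx, rfl⟩ e
    exact hno _ hx ((mk_eq_one_iff x).mp e)
  -- the members near `d` form one class
  have hall : ∀ y ∈ imgSet D d, IsConj u y := by
    rintro _ ⟨x, hx, rfl⟩
    obtain ⟨g, hg, e⟩ := ThreeTransp.dx_transitive htc hsol hd (y := (a : G)) (y' := (x : G)) ha hx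
    refine isConj_iff.mpr ⟨QuotientGroup.mk (⟨g, hg⟩ : ↥(loc D d)), ?_⟩
    rw [← hau, ← QuotientGroup.mk_inv, ← QuotientGroup.mk_mul, ← QuotientGroup.mk_mul]
    exact congrArg _ (Subtype.ext e)
  have hclI := class_of_types htI h1 ⟨a, ha, hau⟩ hall
  -- common neighbours
  have h5 : 5 ∣ Nat.card ↥(Subgroup.closure (near D d ∩ near D c)) := by
    have h := five_dvd
    rw [← Nat.card_congr eN.toEquiv] at h
    exact (h.trans N.card_subgroup_dvd_card).trans (Subgroup.card_quotient_dvd_card _)
  have hcommon : ∀ p ∈ near D d, ∀ q ∈ near D d, ¬ Commute p q →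
      ∃ y ∈ near D d, y ∈ near D p ∧ y ∈ near D q := by
    intro p hp q hq hpq
    obtain ⟨g, hg⟩ := hprim.1 p hp.1 d hd
    have hq' : ¬ Commute d (g * q * g⁻¹) := fun h => hpq ((Commute.conj_iff g).mp (hg ▸ h))
    obtain ⟨k, hk1, hk2⟩ :=
      ThreeTransp.ax_transitive htc hsol hperf hd (hD.2.1 g q hq.1) hc hq' hdc
    set m := k * g with hm
    have hmp : m * p * m⁻¹ = d := by
      rw [hm, show k * g * p * (k * g)⁻¹ = k * (g * p * g⁻¹) * k⁻¹ by group, hg, hk1]
    have hmq : m * q * m⁻¹ = c := by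
      rw [hm, show k * g * q * (k * g)⁻¹ = k * (g * q * g⁻¹) * k⁻¹ by group, hk2]
    have hmn' : ∀ x y : G, y ∈ near D x → m * y * m⁻¹ ∈ near D (m * x * m⁻¹) := fun x y h =>
      ⟨hD.2.1 m y h.1, fun e => h.2.1 (mul_left_cancel (mul_right_cancel e)),
        (Commute.conj_iff m).mpr h.2.2⟩
    have hmn : ∀ x y : G, m * y * m⁻¹ ∈ near D (m * x * m⁻¹) → y ∈ near D x := fun x y h => by
      have e : ∀ w : G, m⁻¹ * (m * w * m⁻¹) * m⁻¹⁻¹ = w := fun w => by group
      exact ⟨e y ▸ hD.2.1 m⁻¹ _ h.1, fun h' => h.2.1 (by rw [h']), (Commute.conj_iff m).mp h.2.2⟩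
    obtain ⟨t, htS, htne, htc'⟩ := exists_partner hD h5 (m * d * m⁻¹)
      ⟨hmp ▸ hmn' p d ⟨hd, hp.2.1.symm, hp.2.2.symm⟩, hmq ▸ hmn' q d ⟨hd, hq.2.1.symm, hq.2.2.symm⟩⟩
    have e : m * (m⁻¹ * t * m) * m⁻¹ = t := by group
    exact ⟨m⁻¹ * t * m, hmn _ _ (by rw [e]; exact ⟨htS.1.1, htne, htc'⟩),
      hmn _ _ (by rw [e, hmp]; exact htS.1), hmn _ _ (by rw [e, hmq]; exact htS.2)⟩
  -- primitivity
  obtain ⟨g, hg⟩ := hprim.1 d₀ hd₀ d hd
  have hcore : ∀ {p : ℕ}, Cfsg.pCore p ↥(loc D d₀) ≤ Subgroup.center ↥(loc D d₀) →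
      Cfsg.pCore p ↥(loc D d) ≤ Subgroup.center ↥(loc D d) := by
    intro p hp x hx
    rw [← HallCore.map_equiv_pCore (p := p) (ThreeTransM23Local59.locEquiv ht g hg)] at hx
    obtain ⟨y, hy, rfl⟩ := mem_map.mp hx
    refine mem_center_iff.mpr fun z => ?_
    obtain ⟨z, rfl⟩ := (ThreeTransM23Local59.locEquiv ht g hg).surjective z
    show ThreeTransM23Local59.locEquiv ht g hg z * ThreeTransM23Local59.locEquiv ht g hg y = _
    rw [← map_mul, mem_center_iff.mp (hp hy) z, map_mul]
    rfl
  obtain ⟨y, hy, hay, hcy⟩ : ∃ y ∈ near D d, y ≠ (a : G) ∧ Commute (a : G) y := by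
    obtain ⟨b, hb, hbw⟩ := hw
    obtain ⟨y, hy, hya, -⟩ := hcommon a ha b hb fun e => huw (by
      rw [← hau, ← hbw]; exact (show Commute a b from Subtype.ext e.eq).map (QuotientGroup.mk' _))
    exact ⟨y, hy, hya.2.1, hya.2.2⟩
  have hw' : ∃ x ∈ imgSet D d, ∃ z ∈ imgSet D d, x ≠ z ∧ Commute x z :=
    ⟨_, ⟨a, ha, rfl⟩, _, ⟨⟨y, near_le_loc hy⟩, hy, rfl⟩,
      fun e => hay (congrArg Subtype.val (img_inj ht hno (p := a) (q := ⟨y, near_le_loc hy⟩) ha hy e)).symm,
      (show Commute a (⟨y, near_le_loc hy⟩ : ↥(loc D d)) from Subtype.ext hcy.eq).map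
        (QuotientGroup.mk' _)⟩
  obtain ⟨-, hiff⟩ := S5361.result hclI h23.1 hw'
  haveI : Fact (Nat.Prime 2) := ⟨Nat.prime_two⟩
  haveI : Fact (Nat.Prime 3) := ⟨Nat.prime_three⟩
  have hgrpI : Cfsg.IsThreeTranspositionGroup (imgSet D d) := ⟨hclI.1, htI.conj, htI.gen⟩
  have hprimI : Cfsg.IsPrimitiveUnderConj (imgSet D d) := by
    refine hiff.mpr ⟨ThreeTransM23Quot59.pCore_quot_center (hcore h2),
      ThreeTransM23Quot59.pCore_quot_center (hcore h3), ?_⟩
    haveI : Nonempty ↥(imgSet D d) := ⟨⟨u, a, ha, hau⟩⟩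
    refine ⟨fun u v => ?_⟩
    have hstep : ∀ u v : ↥(imgSet D d), Commute u.1 v.1 →
        (Cfsg.commutingGraph (imgSet D d)).Reachable u v := by
      intro u v h
      by_cases e : u = v
      · subst e; exact .refl _
      · exact SimpleGraph.Adj.reachable ⟨e, Or.inl h⟩
    by_cases huv : Commute u.1 v.1
    · exact hstep u v huv
    obtain ⟨p, hp, hpu⟩ := u.2
    obtain ⟨q, hq, hqv⟩ := v.2
    have hpq : ¬ Commute (p : G) q := fun h => huv (by
      rw [← hpu, ← hqv]
      exact (show Commute p q from Subtype.ext h.eq).map (QuotientGroup.mk' _))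
    obtain ⟨y, hy, hyp, hyq⟩ := hcommon p hp q hq hpq
    refine (hstep u ⟨_, ⟨y, near_le_loc hy⟩, hy, rfl⟩ ?_).trans (hstep _ v ?_)
    · rw [← hpu]
      exact (show Commute p ⟨y, near_le_loc hy⟩ from Subtype.ext hyp.2.2.eq).map (QuotientGroup.mk' _)
    · rw [← hqv]
      exact (show Commute (⟨y, near_le_loc hy⟩ : ↥(loc D d)) q from Subtype.ext hyq.2.2.symm.eq).map
        (QuotientGroup.mk' _)
  exact ⟨d, hD, hprim, hZ, hd, hsol, hperf, h23,
    ThreeTransM23Cent59.ctx_all hgrpI hprimI h23⟩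

end Cfsg.Agent.ThreeTransM24Base88
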