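import Cfsg.Agent.Lib.ThreeTransM24Local88
import Cfsg.Agent.Lib.ThreeTransM22Fix17
import Cfsg.Agent.Lib.ThreeTransM22Square88
import Cfsg.Agent.Lib.ThreeTransM23Classes59
import Cfsg.Agent.S5464

/-!
# The classes of involutions in type M(24)

Every involution fixes a member, so it is a product of at most four commuting members; the products of
a given length are conjugate, there is no relation of at most seven members, and only members form a
class of 3-transpositions.
-/

set_option autoImplicit false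
set_option linter.unusedSectionVars false
set_option linter.style.haveILetI false

namespace Cfsg.Agent.ThreeTransM24Classes88

open Subgroup Cfsg.Agent.ThreeTransRel Cfsg.Agent.ThreeTransDescent
open Cfsg.Agent.ThreeTransM24Base88 Cfsg.Agent.ThreeTransM24Pair88 Cfsg.Agent.ThreeTransM24Local88

variable {G : Type*} [Group G] [Finite G] {D : Set G}

/-- An involution centralizes a member. -/
theorem exists_fixed {d : G} (X : Ctx D d) {x : G} (hx : x * x = 1) : ∃ y ∈ D, Commute x y := by
  have hinv : x⁻¹ = x := inv_eq_of_mul_eq_one_right hx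
  have hxx : ∀ z : G, x * (x * z * x⁻¹) * x⁻¹ = z := fun z => by
    calc x * (x * z * x⁻¹) * x⁻¹ = (x * x) * z * (x * x)⁻¹ := by group
      _ = z := by rw [hx]; group
  set e := x * d * x⁻¹ with he
  by_cases hde : e = d
  · exact ⟨d, X.mem, mul_inv_eq_iff_eq_mul.mp hde⟩
  have heD : e ∈ D := (ts X).conj x d X.mem
  by_cases hc : Commute d e
  swap
  · refine ⟨d * e * d, (ts X).conj_mem X.mem heD, mul_inv_eq_iff_eq_mul.mp ?_⟩
    rw [show x * (d * e * d) * x⁻¹ = (x * d * x⁻¹) * (x * e * x⁻¹) * (x * d * x⁻¹) by group,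
      show x * e * x⁻¹ = d from hxx d]
    exact ((ts X).braid d X.mem e heD hc).symm
  have hen : e ∈ near D d := ⟨heD, hde, hc⟩
  have hswap : ∀ q ∈ N2 D d e, x * q * x⁻¹ ∈ N2 D d e := fun q hq =>
    ⟨ThreeTransM23Local59.near_map (ts X) (show x * e * x⁻¹ = d from hxx d) ▸ ⟨q, hq.2, rfl⟩,
      ThreeTransM23Local59.near_map (ts X) (show x * d * x⁻¹ = e from rfl) ▸ ⟨q, hq.1, rfl⟩⟩
  obtain ⟨σ, hσ, -⟩ := exists_quot2 X hen hswap
  have hσσ : σ * σ = 1 := MulEquiv.ext fun w => by
    obtain ⟨a, ha, rfl⟩ := im2_surj X hen w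
    show σ (σ (im2 D d e a)) = im2 D d e a
    rw [hσ a ha, hσ _ (conj_L2 hswap ha), hxx]
  have Q := qc X hen
  obtain ⟨u, hu, hfix⟩ := ThreeTransM22Fix17.exists_fixed Q.qgrp Q.qprim Q.q22 σ hσσ
  obtain ⟨q, hq, rfl⟩ := im2_surj_img X hen hu
  rw [hσ q (subset_closure hq)] at hfix
  exact ⟨q, hq.1.1, mul_inv_eq_iff_eq_mul.mp (im2_inj X hen (hswap q hq) hq hfix)⟩

variable {d : G} (X : Ctx D d)
include X

theorem im_list : ∀ {l : List G}, (∀ p ∈ l, p ∈ near D d) →
    im D d l.prod = (l.map (im D d)).prod := fun h => by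
  rw [im_prod fun p hp => near_le_loc (h p hp), im_eq]

theorem lift1 {L : List (↥(loc D d) ⧸ Subgroup.center ↥(loc D d))} (hL : CList (imgSet D d) L) :
    ∃ l : List G, CList D l ∧ (∀ p ∈ l, p ∈ near D d) ∧ l.map (im D d) = L := by
  classical
  choose f hf hf' using fun y (hy : y ∈ imgSet D d) => surj_img X hy
  set g : ↥(loc D d) ⧸ Subgroup.center ↥(loc D d) → G :=
    fun y => if hy : y ∈ imgSet D d then f y hy else 1 with hg
  have h1 : ∀ y ∈ L, g y ∈ near D d ∧ im D d (g y) = y := fun y hy => by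
    rw [hg]; simp only [dif_pos (hL.mem y hy)]; exact ⟨hf _ _, hf' _ _⟩
  refine ⟨L.map g, ⟨fun p hp => ?_, ?_, fun p hp q hq => ?_⟩, fun p hp => ?_, ?_⟩
  · obtain ⟨y, hy, rfl⟩ := List.mem_map.mp hp; exact (h1 y hy).1.1
  · refine List.Nodup.map_on (fun y hy y' hy' e => ?_) hL.nodup
    rw [← (h1 y hy).2, ← (h1 y' hy').2, e]
  · obtain ⟨y, hy, rfl⟩ := List.mem_map.mp hp
    obtain ⟨y', hy', rfl⟩ := List.mem_map.mp hq
    rw [← comm_iff X (h1 y hy).1 (h1 y' hy').1, (h1 y hy).2, (h1 y' hy').2]
    exact hL.comm y hy y' hy'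
  · obtain ⟨y, hy, rfl⟩ := List.mem_map.mp hp; exact (h1 y hy).1
  · rw [List.map_map]
    exact (List.map_congr_left (g := id) fun y hy => (h1 y hy).2).trans (List.map_id L)

theorem cons_clist {l : List G} (hl : CList D l) (hn : ∀ p ∈ l, p ∈ near D d) : CList D (d :: l) := by
  refine ⟨fun p hp => ?_, List.nodup_cons.mpr ⟨fun h => (hn d h).2.1 rfl, hl.nodup⟩,
    fun p hp q hq => ?_⟩
  · rcases List.mem_cons.mp hp with rfl | hp
    exacts [X.mem, hl.mem p hp]
  · rcases List.mem_cons.mp hp with e₁ | hp' <;> rcases List.mem_cons.mp hq with e₂ | hq'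
    · rw [e₁, e₂]
    · rw [e₁]; exact (hn q hq').2.2
    · rw [e₂]; exact (hn p hp').2.2.symm
    · exact hl.comm p hp' q hq'

/-- An involution commuting with `d` is a product of at most four commuting members. -/
theorem local_product {x : G} (hxd : Commute x d) (hx : orderOf x = 2) :
    ∃ l : List G, CList D l ∧ 1 ≤ l.length ∧ l.length ≤ 4 ∧ l.prod = x := by
  have hx2 : x * x = 1 := by rw [← pow_two, ← hx]; exact pow_orderOf_eq_one x
  have hx1 : x ≠ 1 := fun h => by rw [h, orderOf_one] at hx; norm_num at hx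
  have hxl : x ∈ loc D d := centralizer_eq X ▸ mem_centralizer_singleton_iff.mpr hxd.eq
  by_cases h0 : im D d x = 1
  · refine ⟨[d], ⟨by simp [X.mem], by simp, by simp⟩, le_rfl, by simp, ?_⟩
    simpa using ((ker X hxl h0).resolve_left hx1).symm
  have ho : orderOf (im D d x) = 2 := orderOf_eq_prime
    (by rw [pow_two, ← im_mul X hxl hxl, hx2]; exact im_eq (one_mem _)) h0
  obtain ⟨e, he⟩ := exists_near X
  obtain ⟨L, hL, h1, h3, hp⟩ := ThreeTransM23Classes59.exists_product (qc X he) ho
  obtain ⟨l, hl, hn, rfl⟩ := lift1 X hL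
  rw [List.length_map] at h1 h3
  have hll : l.prod ∈ loc D d := list_prod_mem fun p hp => near_le_loc (hn p hp)
  have h' : im D d (x * l.prod) = 1 := by
    rw [im_mul X hxl hll, ← hp, ← im_list X hn, ← im_mul X hll hll, hl.prod_sq (ts X)]
    exact im_eq (one_mem _)
  have e' : x = x * l.prod * l.prod := by rw [mul_assoc, hl.prod_sq (ts X), mul_one]
  rcases ker X (mul_mem hxl hll) h' with h | h <;> rw [h] at e'
  · exact ⟨l, hl, h1, by omega, by rw [e', one_mul]⟩
  · exact ⟨d :: l, cons_clist X hl hn, by simp, by simp only [List.length_cons]; omega,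
      by rw [e', List.prod_cons]⟩

omit X

/-- Every involution is a product of at most four commuting members. -/
theorem exists_product (hX : ∀ s ∈ D, Ctx D s) (hne : D.Nonempty) {x : G} (hx : orderOf x = 2) :
    ∃ l : List G, CList D l ∧ 1 ≤ l.length ∧ l.length ≤ 4 ∧ l.prod = x := by
  obtain ⟨d, hd⟩ := hne
  have h2 : x * x = 1 := by rw [← pow_two, ← hx]; exact pow_orderOf_eq_one x
  obtain ⟨y, hy, hxy⟩ := exists_fixed (hX d hd) h2
  exact local_product (hX y hy) hxy hx

include X

/-- A list moved so that it begins with `d`. -/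
theorem move {a : G} {t : List G} (hat : CList D (a :: t)) : ∃ g : G, g * a * g⁻¹ = d ∧
    (∀ p ∈ t.map (MulAut.conj g), p ∈ near D d) ∧ CList D (t.map (MulAut.conj g)) := by
  obtain ⟨g, hg⟩ := X.prim.1 a (hat.mem a (by simp)) d X.mem
  refine ⟨g, hg, fun p hp => ?_,
    ThreeTransM23Classes59.clist_map (ts X) (hat.sublist (List.sublist_cons_self a t)) g⟩
  obtain ⟨r, hr, rfl⟩ := List.mem_map.mp hp
  refine ⟨(ts X).conj g r (hat.mem r (by simp [hr])), fun e => ?_,
    hg ▸ (Commute.conj_iff g).mpr (hat.comm a (by simp) r (by simp [hr]))⟩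
  have hra : r = a := mul_left_cancel (mul_right_cancel (e.trans hg.symm))
  exact (List.nodup_cons.mp hat.nodup).1 (hra ▸ hr)

/-- The local group is transitive on commuting pairs near `d`. -/
theorem pair_transitive {b c b' c' : G} (hb : b ∈ near D d) (hc : c ∈ near D d) (hbc : Commute b c)
    (hne : b ≠ c) (hb' : b' ∈ near D d) (hc' : c' ∈ near D d) (hbc' : Commute b' c') (hne' : b' ≠ c') :
    ∃ k ∈ loc D d, k * b * k⁻¹ = b' ∧ k * c * k⁻¹ = c' := by
  obtain ⟨k, hk, rfl⟩ := transitive X hb hb'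
  have Q := qc X hb'
  have hkc : k * c * k⁻¹ ∈ near D d := near_conj (ts X) (commute_d_of_mem_loc hk).symm hc
  have hin : ∀ {r : G}, r ∈ near D d → Commute (k * b * k⁻¹) r → k * b * k⁻¹ ≠ r →
      im D d r ∈ near (imgSet D d) (im D d (k * b * k⁻¹)) := fun hr hcr hn =>
    n2_img X hb' ⟨hr, hr.1, fun e => hn e.symm, hcr⟩
  obtain ⟨g, hg, hgc⟩ := Q.transitive
    (hin hkc ((Commute.conj_iff k).mpr hbc) fun e => hne (mul_left_cancel (mul_right_cancel e)))
    (hin hc' hbc' hne')
  obtain ⟨j, hj, rfl⟩ := surj_quot X g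
  have hjd : Commute j d := (commute_d_of_mem_loc hj).symm
  refine ⟨j * k, mul_mem hj hk, ?_, ?_⟩ <;>
    rw [show ∀ r : G, j * k * r * (j * k)⁻¹ = j * (k * r * k⁻¹) * j⁻¹ from fun r => by group]
  · exact inj X (near_conj (ts X) hjd hb') hb' (by
      rw [im_conj X hj (near_le_loc hb'),
        mul_inv_eq_iff_eq_mul.mpr (commute_d_of_mem_loc hg).symm.eq])
  · exact inj X (near_conj (ts X) hjd hkc) hc' (by rw [im_conj X hj (near_le_loc hkc), hgc])

/-- The local group is transitive on commuting triples near `d`. -/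
theorem triple_transitive {b c f b' c' f' : G} (hl : CList D [b, c, f]) (hl' : CList D [b', c', f'])
    (hn : ∀ p ∈ [b, c, f], p ∈ near D d) (hn' : ∀ p ∈ [b', c', f'], p ∈ near D d) :
    ∃ k ∈ loc D d, k * b * k⁻¹ = b' ∧ k * c * k⁻¹ = c' ∧ k * f * k⁻¹ = f' := by
  have h1 := hl.nodup
  have h1' := hl'.nodup
  simp only [List.nodup_cons, List.mem_cons, List.not_mem_nil, or_false, not_false_eq_true,
    List.nodup_nil, and_true, not_or] at h1 h1'
  obtain ⟨k, hk, rfl, rfl⟩ := pair_transitive X (hn b (by simp)) (hn c (by simp))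
    (hl.comm b (by simp) c (by simp)) h1.1.1 (hn' b' (by simp)) (hn' c' (by simp))
    (hl'.comm b' (by simp) c' (by simp)) h1'.1.1
  set B := k * b * k⁻¹
  set C := k * c * k⁻¹
  set Fk := k * f * k⁻¹ with hFk
  have hkd : Commute k d := (commute_d_of_mem_loc hk).symm
  have hB : B ∈ near D d := hn' _ (by simp)
  have hC : C ∈ near D d := hn' _ (by simp)
  have hF : Fk ∈ near D d := near_conj (ts X) hkd (hn f (by simp))
  have hF' : f' ∈ near D d := hn' f' (by simp)
  have hCB : C ∈ N2 D d B := ⟨hC, hC.1, fun e => h1'.1.1 e.symm, hl'.comm B (by simp) C (by simp)⟩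
  have hFB : Fk ∈ N2 D d B := ⟨hF, hF.1, fun e => h1.1.2 (mul_left_cancel (mul_right_cancel e)).symm,
    (Commute.conj_iff k).mpr (hl.comm b (by simp) f (by simp))⟩
  have hFB' : f' ∈ N2 D d B := ⟨hF', hF'.1, fun e => h1'.1.2 e.symm, hl'.comm B (by simp) f' (by simp)⟩
  have Q := qc X hB
  obtain ⟨g, hg, hg1, hg2⟩ := Q.pair_transitive (n2_img X hB hCB) (n2_img X hB hFB)
    ((comm_iff X hC hF).mpr ((Commute.conj_iff k).mpr (hl.comm c (by simp) f (by simp))))
    (fun e => h1.2 (mul_left_cancel (mul_right_cancel (inj X hC hF e))))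
    (n2_img X hB hCB) (n2_img X hB hFB')
    ((comm_iff X hC hF').mpr (hl'.comm C (by simp) f' (by simp)))
    (fun e => h1'.2 (inj X hC hF' e))
  obtain ⟨j, hj, rfl⟩ := surj_quot X g
  have hjd : Commute j d := (commute_d_of_mem_loc hj).symm
  refine ⟨j * k, mul_mem hj hk, ?_, ?_, ?_⟩ <;>
    rw [show ∀ r : G, j * k * r * (j * k)⁻¹ = j * (k * r * k⁻¹) * j⁻¹ from fun r => by group]
  · exact inj X (near_conj (ts X) hjd hB) hB (by
      rw [im_conj X hj (near_le_loc hB),
        mul_inv_eq_iff_eq_mul.mpr (commute_d_of_mem_loc hg).symm.eq])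
  · exact inj X (near_conj (ts X) hjd hC) hC (by rw [im_conj X hj (near_le_loc hC), hg1])
  · exact inj X (near_conj (ts X) hjd hF) hF' (by rw [im_conj X hj (near_le_loc hF), hg2])

/-- Products of the same number of members are conjugate. -/
theorem isConj_products {l l' : List G} (hl : CList D l) (hl' : CList D l')
    (hlen : l.length = l'.length) (h1 : 1 ≤ l.length) (h4 : l.length ≤ 4) :
    IsConj l.prod l'.prod := by
  have hmove : ∀ {a : G} {t : List G}, CList D (a :: t) → ∃ t' : List G, t'.length = t.length ∧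
      (∀ p ∈ t', p ∈ near D d) ∧ CList D t' ∧ IsConj (a :: t).prod (d * t'.prod) := by
    intro a t hat
    obtain ⟨g, hg, h1, h2⟩ := move X hat
    refine ⟨t.map (MulAut.conj g), by simp, h1, h2, isConj_iff.mpr ⟨g, ?_⟩⟩
    rw [← map_list_prod, MulAut.conj_apply, List.prod_cons, ← hg]; group
  obtain ⟨a, t, rfl⟩ := List.exists_cons_of_length_pos (l := l) (by omega)
  obtain ⟨a', u, rfl⟩ := List.exists_cons_of_length_pos (l := l') (by omega)
  obtain ⟨t', ht1, ht2, ht3, hc⟩ := hmove hl
  obtain ⟨u', hu1, hu2, hu3, hc'⟩ := hmove hl'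
  refine hc.trans (IsConj.trans ?_ hc'.symm)
  simp only [List.length_cons] at hlen h4
  suffices h : ∃ k ∈ loc D d, k * t'.prod * k⁻¹ = u'.prod by
    obtain ⟨k, hk, e⟩ := h
    refine isConj_iff.mpr ⟨k, ?_⟩
    rw [show k * (d * t'.prod) * k⁻¹ = k * d * k⁻¹ * (k * t'.prod * k⁻¹) by group, e,
      mul_inv_eq_iff_eq_mul.mpr (commute_d_of_mem_loc hk).symm.eq]
  match t', u', (show t'.length = u'.length by omega), (show t'.length ≤ 3 by omega) with
  | [], [], _, _ => exact ⟨1, one_mem _, by simp⟩
  | [b], [b'], _, _ =>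
    obtain ⟨k, hk, e⟩ := transitive X (ht2 b (by simp)) (hu2 b' (by simp))
    exact ⟨k, hk, by simpa using e⟩
  | [b, c], [b', c'], _, _ =>
    obtain ⟨k, hk, e, e'⟩ := pair_transitive X (ht2 b (by simp)) (ht2 c (by simp))
      (ht3.comm b (by simp) c (by simp)) (by have := ht3.nodup; simpa using this)
      (hu2 b' (by simp)) (hu2 c' (by simp)) (hu3.comm b' (by simp) c' (by simp))
      (by have := hu3.nodup; simpa using this)
    refine ⟨k, hk, ?_⟩
    simp only [List.prod_cons, List.prod_nil, mul_one]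
    rw [show k * (b * c) * k⁻¹ = (k * b * k⁻¹) * (k * c * k⁻¹) by group, e, e']
  | [b, c, f], [b', c', f'], _, _ =>
    obtain ⟨k, hk, e, e', e''⟩ := triple_transitive X ht3 hu3 ht2 hu2
    refine ⟨k, hk, ?_⟩
    simp only [List.prod_cons, List.prod_nil, mul_one]
    rw [show k * (b * (c * f)) * k⁻¹ = (k * b * k⁻¹) * ((k * c * k⁻¹) * (k * f * k⁻¹)) by group,
      e, e', e'']
  | _ :: _ :: _ :: _ :: _, _, _, h => simp only [List.length_cons] at h; omega

/-- Four pairwise commuting members. -/
theorem exists_chain : ∃ l : List G, CList D l ∧ l.length = 4 := by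
  obtain ⟨e, he⟩ := exists_near X
  obtain ⟨l, hl, hn, hlen⟩ := exists_triple X he
  exact ⟨d :: l, cons_clist X hl fun p hp => (hn p hp).1, by simp [hlen]⟩

/-- No relation of at most seven members. -/
theorem no_relation {r : List G} (hr : Rel D r) (hlen : r.length ≤ 7) : r = [] := by
  by_contra hne
  obtain ⟨a, t, rfl⟩ := List.exists_cons_of_length_pos (l := r) (List.length_pos_of_ne_nil hne)
  obtain ⟨g, hg, hn, hcl⟩ := move X hr.toCList
  set r' := t.map (MulAut.conj g) with hr'
  have hprod : r'.prod = d := by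
    have hp := hr.prod
    rw [List.prod_cons] at hp
    rw [hr', ← map_list_prod, MulAut.conj_apply, eq_inv_of_mul_eq_one_right hp,
      show g * a⁻¹ * g⁻¹ = (g * a * g⁻¹)⁻¹ by group, hg, (ts X).inv_self X.mem]
  have hself := ThreeTransM24Local88.self X
  have himd : im D d d = 1 := (im_eq_one X hself).mpr fun y hy => hy.2.2.symm
  have hRel : Rel (imgSet D d) (r'.map (im D d)) := by
    refine ⟨⟨fun y hy => ?_, List.Nodup.map_on (fun p hp q hq e => inj X (hn p hp) (hn q hq) e)
      hcl.nodup, fun y hy y' hy' => ?_⟩, by rw [← im_list X hn, hprod, himd]⟩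
    · obtain ⟨p, hp, rfl⟩ := List.mem_map.mp hy; exact im_mem X (hn p hp)
    · obtain ⟨p, hp, rfl⟩ := List.mem_map.mp hy
      obtain ⟨q, hq, rfl⟩ := List.mem_map.mp hy'
      exact (comm_iff X (hn p hp) (hn q hq)).mpr (hcl.comm p hp q hq)
  obtain ⟨e, he⟩ := exists_near X
  have Q := qc X he
  have hlen' : (r'.map (im D d)).length ≤ 6 := by
    simp only [hr', List.length_map, List.length_cons] at hlen ⊢; omega
  have h0 : r' = [] := by
    by_contra h
    have hpos : 0 < (r'.map (im D d)).length := by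
      rw [List.length_map]; exact List.length_pos_of_ne_nil h
    rcases Nat.lt_or_ge (r'.map (im D d)).length 6 with h5 | h6
    · have := ThreeTransM23Classes59.no_relation Q hRel (by omega)
      rw [this] at hpos; simp at hpos
    · exact S5464.no_six Q.ts Q.prim Q.mem (fun _ h1 h2 =>
        (ThreeTransTypes.level1_of_m22 ThreeTransPairs.psu6Simple Q.qts Q.q22).no_five h1 h2)
        hRel (by omega)
  rw [h0, List.prod_nil] at hprod
  exact ThreeTrans.ne_one X.grp.1 X.mem hprod.symm

/-- The product of a short list is an involution. -/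
theorem order_product {l : List G} (hl : CList D l) (h1 : 1 ≤ l.length) (h4 : l.length ≤ 7) :
    orderOf l.prod = 2 := by
  refine orderOf_eq_prime (by rw [pow_two]; exact hl.prod_sq (ts X)) fun h => ?_
  have := no_relation X ⟨hl, h⟩ h4
  rw [this] at h1
  simp at h1

theorem length_unique : ∀ {n : ℕ} {l l' : List G}, l.length + l'.length ≤ n → CList D l → CList D l' →
    (∀ x ∈ l, ∀ y ∈ l', Commute x y) → l.length + l'.length ≤ 7 → l.prod = l'.prod →
    l.length = l'.length := by
  classical
  intro n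
  induction n with
  | zero => intro l l' h _ _ _ _ _; omega
  | succ n ih =>
    intro l l' hn hl hl' hcr h7 he
    by_cases hcom : ∃ x ∈ l, x ∈ l'
    · obtain ⟨x, hx, hx'⟩ := hcom
      have p1 := List.perm_cons_erase hx
      have p2 := List.perm_cons_erase hx'
      rw [hl.prod_perm p1, hl'.prod_perm p2, List.prod_cons, List.prod_cons] at he
      have n1 := List.length_erase_of_mem hx
      have n2 := List.length_erase_of_mem hx'
      have := List.length_pos_of_mem hx
      have := List.length_pos_of_mem hx'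
      have := ih (l := l.erase x) (l' := l'.erase x) (by omega) (hl.sublist List.erase_sublist)
        (hl'.sublist List.erase_sublist)
        (fun a ha b hb => hcr a (List.mem_of_mem_erase ha) b (List.mem_of_mem_erase hb))
        (by omega) (mul_left_cancel he)
      omega
    push Not at hcom
    by_contra hne
    have hR : Rel D (l ++ l') := by
      refine ⟨⟨fun a ha => ?_, List.nodup_append.mpr ⟨hl.nodup, hl'.nodup, fun a ha b hb e =>
        hcom a ha (e ▸ hb)⟩, fun a ha b hb => ?_⟩, ?_⟩
      · rcases List.mem_append.mp ha with h | h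
        exacts [hl.mem a h, hl'.mem a h]
      · rcases List.mem_append.mp ha with h | h <;> rcases List.mem_append.mp hb with h' | h'
        exacts [hl.comm a h b h', hcr a h b h', (hcr b h' a h).symm, hl'.comm a h b h']
      · rw [List.prod_append, ← he, hl.prod_sq (ts X)]
    have := congrArg List.length (no_relation X hR (by rw [List.length_append]; omega))
    rw [List.length_append, List.length_nil] at this
    omega

/-- The number of factors of an involution. -/
theorem length_eq {l l' : List G} (hl : CList D l) (hl' : CList D l') (h4 : l.length ≤ 4)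
    (h4' : l'.length ≤ 4) (he : l.prod = l'.prod) : l.length = l'.length := by
  by_cases h : l.length = 4 ∧ l'.length = 4
  · omega
  refine length_unique X le_rfl hl hl' ?_ (by omega) he
  by_cases h3 : l'.length ≤ 3
  · exact fun x hx => (ThreeTransM22Count72.commute_prod_iff (ts X) (hl.mem x hx) hl' h3).mp
      (he ▸ Commute.list_prod_right _ _ fun y hy => hl.comm x hx y hy)
  · exact fun x hx y hy => ((ThreeTransM22Count72.commute_prod_iff (ts X) (hl'.mem y hy) hl
      (by omega)).mp (he ▸ Commute.list_prod_right _ _ fun z hz => hl'.comm y hy z hz) x hx).symm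

/-- Only members form a class of 3-transpositions. -/
theorem unique (hX : ∀ s ∈ D, Ctx D s) {D' : Set G} (hD' : Cfsg.IsThreeTranspositionClass D') :
    D' = D := by
  obtain ⟨⟨hord, h3⟩, ⟨x₀, hx₀, hD0⟩, -⟩ := hD'
  obtain ⟨l, hl, h1, h4, hp⟩ := exists_product hX ⟨d, X.mem⟩ (hord x₀ hx₀)
  have hmem : ∀ l' : List G, CList D l' → l'.length = l.length → l'.prod ∈ D' := fun l' hl' h => by
    rw [hD0]
    exact hp ▸ isConj_products X hl hl' h.symm h1 h4
  by_cases hm : l.length = 1
  · obtain ⟨a, rfl⟩ := List.length_eq_one_iff.mp hm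
    rw [List.prod_singleton] at hp
    subst hp
    have ha := hl.mem a (by simp)
    refine Set.Subset.antisymm (fun y hy => ?_) fun y hy => ?_
    · rw [hD0] at hy
      obtain ⟨g, rfl⟩ := isConj_iff.mp hy
      exact (ts X).conj g a ha
    · simpa using hmem [y] ⟨by simp [hy], by simp, by simp⟩ (by simp)
  exfalso
  obtain ⟨e, he⟩ := exists_near X
  have Q := qc X he
  obtain ⟨l3, -, hl3n, hl3⟩ := exists_triple X he
  obtain ⟨p, hp3⟩ := List.exists_mem_of_length_pos (l := l3) (by omega)
  obtain ⟨A, B, C, hA, hB, hC, hAB, hAC, hBC, hneAC, hneBC⟩ :=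
    ThreeTransM22Square88.exists_square Q.qgrp Q.qprim Q.q22 (im2_mem X he (hl3n p hp3))
  obtain ⟨a, ha, rfl⟩ := im2_surj_img X he hA.1
  obtain ⟨b, hb, rfl⟩ := im2_surj_img X he hB.1
  obtain ⟨c, hc, rfl⟩ := im2_surj_img X he hC.1
  have hpn := hl3n p hp3
  have hab : ¬ Commute a b := fun h => hAB ((im2_comm_iff X he ha hb).mpr h)
  have hac : Commute a c := (im2_comm_iff X he ha hc).mp hAC
  have hbc : Commute b c := (im2_comm_iff X he hb hc).mp hBC
  have hap : Commute p a := (im2_comm_iff X he hpn ha).mp hA.2.2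
  have hbp : Commute p b := (im2_comm_iff X he hpn hb).mp hB.2.2
  have hcp : Commute p c := (im2_comm_iff X he hpn hc).mp hC.2.2
  have hcne : c ≠ p := fun h => hC.2.1 (by rw [h])
  have nap : a ≠ p := fun h => hA.2.1 (by rw [h])
  have nbp : b ≠ p := fun h => hB.2.1 (by rw [h])
  have nac : a ≠ c := fun h => hneAC (by rw [h])
  have nbc : b ≠ c := fun h => hneBC (by rw [h])
  set T : List G := [d, e].take (l.length - 2) with hT
  have hTsub : ∀ z ∈ T, z = d ∨ z = e := fun z hz => by
    have := List.take_subset _ _ hz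
    simpa using this
  have hTc : ∀ z ∈ T, ∀ r ∈ N2 D d e, Commute z r ∧ z ≠ r := fun z hz r hr => by
    rcases hTsub z hz with rfl | rfl
    · exact ⟨hr.1.2.2, hr.1.2.1.symm⟩
    · exact ⟨hr.2.2.2, hr.2.2.1.symm⟩
  have hde : CList D [d, e] := cons_clist X ⟨by simp [he.1], by simp, by simp⟩
    (fun q hq => by rw [List.mem_singleton.mp hq]; exact he)
  have hTl : CList D T := hde.sublist (List.take_sublist _ _)
  have hTlen : T.length = l.length - 2 := by
    rw [hT, List.length_take]; simp only [List.length_cons, List.length_nil]; omega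
  have hlist : ∀ u ∈ N2 D d e, ∀ v ∈ N2 D d e, Commute u v → u ≠ v → CList D (u :: v :: T) := by
    intro u hu v hv huv hne
    refine ⟨fun z hz => ?_, ?_, fun z hz z' hz' => ?_⟩
    · simp only [List.mem_cons] at hz
      rcases hz with rfl | rfl | hz
      exacts [hu.1.1, hv.1.1, hTl.mem z hz]
    · refine List.nodup_cons.mpr ⟨?_, List.nodup_cons.mpr ⟨fun h => (hTc v h v hv).2 rfl, hTl.nodup⟩⟩
      simp only [List.mem_cons, not_or]
      exact ⟨hne, fun h => (hTc u h u hu).2 rfl⟩
    · simp only [List.mem_cons] at hz hz'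
      rcases hz with rfl | rfl | hz <;> rcases hz' with rfl | rfl | hz'
      exacts [Commute.refl _, huv, (hTc z' hz' _ hu).1.symm, huv.symm, Commute.refl _,
        (hTc z' hz' _ hv).1.symm, (hTc z hz _ hu).1, (hTc z hz _ hv).1, hTl.comm z hz z' hz']
  have hx := hmem _ (hlist a ha p hpn hap.symm nap) (by simp only [List.length_cons, hTlen]; omega)
  have hy := hmem _ (hlist b hb c hc hbc nbc) (by simp only [List.length_cons, hTlen]; omega)
  simp only [List.prod_cons] at hx hy
  set t := T.prod with ht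
  have htt : t * t = 1 := hTl.prod_sq (ts X)
  have htc : ∀ r ∈ N2 D d e, Commute t r := fun r hr =>
    Commute.list_prod_left _ _ fun z hz => (hTc z hz r hr).1
  have hprod : a * (p * t) * (b * (c * t)) = (a * b) * (p * c) := by
    have h1 : Commute (p * t) b := hbp.mul_left (htc b hb)
    rw [show a * (p * t) * (b * (c * t)) = a * ((p * t) * b) * (c * t) by group, h1.eq,
      show a * (b * (p * t)) * (c * t) = a * b * (p * (t * c) * t) by group, (htc c hc).eq,
      show p * (c * t) * t = p * c * (t * t) by group, htt, mul_one]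
  have hcomm : Commute (a * b) (p * c) := (hap.symm.mul_right hac).mul_left (hbp.symm.mul_right hbc)
  have haa : a * a = 1 := (ts X).sq a ha.1.1
  have hbb : b * b = 1 := (ts X).sq b hb.1.1
  have hpp : p * p = 1 := (ts X).sq p hpn.1.1
  have hcc : c * c = 1 := (ts X).sq c hc.1.1
  have hpc : (p * c) ^ 2 = 1 := by rw [hcp.mul_pow, pow_two, pow_two, hpp, hcc, one_mul]
  have hne2 : (a * b) ^ 2 ≠ 1 := fun h => hab (by
    show a * b = b * a
    calc a * b = (a * b)⁻¹ := eq_inv_of_mul_eq_one_left (by rwa [pow_two] at h)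
      _ = b * a := by rw [mul_inv_rev, (ts X).inv_self ha.1.1, (ts X).inv_self hb.1.1])
  have hab3 : (a * b) ^ 3 = 1 := (X.grp.1.2 a ha.1.1 b hb.1.1).resolve_left hne2
  rcases h3 _ hx _ hy with h | h <;> rw [hprod, hcomm.mul_pow] at h
  · rw [hpc, mul_one] at h; exact hne2 h
  · rw [hab3, one_mul, pow_succ, hpc, one_mul] at h
    exact hcne (mul_left_cancel (a := p) (h.trans hpp.symm))

end Cfsg.Agent.ThreeTransM24Classes88
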