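import Cfsg.Agent.Lib.ThreeTransM24Inner39
import Cfsg.Agent.Lib.ThreeTransM23Order34
import Cfsg.Agent.Lib.ThreeTransM23Pair34
import Cfsg.Agent.Lib.ThreeTransM22Pres51
import Cfsg.Agent.Lib.ThreeTransFi22Out41

/-!
# The centralizer of a product of two commuting members in type M(24)
-/

set_option autoImplicit false
set_option linter.unusedSectionVars false

namespace Cfsg.Agent.ThreeTransM24Duo39

open Subgroup Cfsg.Agent.ThreeTransRel Cfsg.Agent.ThreeTransDescent
open Cfsg.Agent.ThreeTransM24Order59 (Hyp)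
open Cfsg.Agent.ThreeTransM24Inner39
open Cfsg.Agent.CosetCertU62 (P22)

/-- A group whose quasisimple normal subgroup has the index of the outer automorphism group. -/
theorem aut_of_index {C : Type*} [Group C] [Finite C] (K E : Subgroup C) [hKn : K.Normal]
    [hEn : E.Normal] (hEK : E ≤ K) (hq : Cfsg.IsQuasisimple ↥K)
    (hE : E = K ⊓ centralizer (K : Set C)) (hcK : centralizer (K : Set C) ≤ K)
    {X : Type*} [Group X] [Finite X] (hcard : Nat.card (MulAut X) = K.index * Nat.card X)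
    (iso : ↥K ⧸ E.subgroupOf K ≃* X) :
    Nonempty (C ⧸ E ≃* MulAut X) := by
  classical
  set π := QuotientGroup.mk' E with hπ
  set Kb := K.map π with hKb
  haveI : Kb.Normal := Normal.map hKn π (QuotientGroup.mk'_surjective E)
  let g : ↥K →* ↥Kb := (π.comp K.subtype).codRestrict Kb fun x => mem_map_of_mem π x.2
  have hgs : Function.Surjective g := by
    rintro ⟨_, x, hx, rfl⟩; exact ⟨⟨x, hx⟩, rfl⟩
  have hgk : g.ker = E.subgroupOf K := by
    ext x
    rw [MonoidHom.mem_ker, mem_subgroupOf, ← QuotientGroup.eq_one_iff (N := E)]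
    exact Subtype.ext_iff
  let eKb : ↥Kb ≃* X :=
    ((QuotientGroup.quotientMulEquivOfEq hgk.symm).trans
      (QuotientGroup.quotientKerEquivOfSurjective g hgs)).symm.trans iso
  let Φ : C ⧸ E →* MulAut (X) :=
    (MulAut.congr eKb).toMonoidHom.comp (MulAut.conjNormal (H := Kb))
  have hinj : Function.Injective Φ := by
    rw [injective_iff_map_eq_one]
    intro y hy
    obtain ⟨x, rfl⟩ := QuotientGroup.mk'_surjective E y
    have h1 : MulAut.conjNormal (H := Kb) (π x) = 1 := (MulAut.congr eKb).injective (by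
      rw [map_one]; exact hy)
    have hxk : ∀ k ∈ K, x * k * x⁻¹ * k⁻¹ ∈ E := by
      intro k hk
      have h2 := congrArg (fun φ : MulAut ↥Kb => ((φ ⟨π k, mem_map_of_mem π hk⟩ : ↥Kb) : C ⧸ E)) h1
      simp only [MulAut.conjNormal_apply, MulAut.one_apply] at h2
      refine (QuotientGroup.eq_one_iff _).mp ?_
      show π (x * k * x⁻¹ * k⁻¹) = 1
      rw [map_mul, map_mul, map_mul, map_inv, map_inv, h2, mul_inv_cancel]
    have hEc : ∀ v ∈ E, v ∈ K ∧ ∀ k ∈ K, k * v = v * k := fun v hv => by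
      rw [hE] at hv
      exact ⟨hv.1, fun k hk => mem_centralizer_iff.mp hv.2 k hk⟩
    haveI := hq.1
    let f : ↥K →* ↥(Subgroup.center ↥K) := MonoidHom.mk'
      (fun k => ⟨⟨x * k * x⁻¹ * (k : C)⁻¹, hEK (hxk k k.2)⟩,
        mem_center_iff.mpr fun w => Subtype.ext ((hEc _ (hxk k k.2)).2 w w.2)⟩)
      (fun k k' => Subtype.ext (Subtype.ext (by
        show x * ((k : C) * k') * x⁻¹ * ((k : C) * k')⁻¹ =
          (x * k * x⁻¹ * (k : C)⁻¹) * (x * k' * x⁻¹ * (k' : C)⁻¹)
        calc x * ((k : C) * k') * x⁻¹ * ((k : C) * k')⁻¹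
            = (x * k * x⁻¹ * (k : C)⁻¹) * ((k : C) * (x * k' * x⁻¹ * (k' : C)⁻¹) * (k : C)⁻¹) := by group
          _ = _ := by rw [(hEc _ (hxk k' k'.2)).2 k k.2, mul_inv_cancel_right])))
    letI : CommGroup ↥(Subgroup.center ↥K) :=
      { (inferInstance : Group ↥(Subgroup.center ↥K)) with
        mul_comm := fun u w => Subtype.ext (mem_center_iff.mp w.2 u.1) }
    have hxc : x ∈ centralizer (K : Set C) := mem_centralizer_iff.mpr fun k hk => by
      have h2 : commutator ↥K ≤ f.ker := Abelianization.commutator_subset_ker f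
      have h3 := congrArg (fun u : ↥(Subgroup.center ↥K) => ((u : ↥K) : C))
        (MonoidHom.mem_ker.mp (h2 ((Group.IsPerfect.commutator_eq_top (G := ↥K)).ge
          (mem_top ⟨k, hk⟩))))
      change x * k * x⁻¹ * k⁻¹ = 1 at h3
      exact (mul_inv_eq_iff_eq_mul.mp (mul_inv_eq_one.mp h3)).symm
    refine (QuotientGroup.eq_one_iff x).mpr ?_
    rw [hE]
    exact ⟨hcK hxc, hxc⟩
  have h1 := card_eq_card_quotient_mul_card_subgroup E
  have h2 := K.card_mul_index
  have h3 : Nat.card ↥K = Nat.card X * Nat.card ↥E := by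
    rw [card_eq_card_quotient_mul_card_subgroup (E.subgroupOf K), Nat.card_congr iso.toEquiv,
      Nat.card_congr (subgroupOfEquivOfLe hEK).toEquiv]
  have hq6 : Nat.card (C ⧸ E) = Nat.card (MulAut X) := by
    rw [h3, h1] at h2
    rw [hcard]
    refine Nat.eq_of_mul_eq_mul_right (Nat.card_pos (α := ↥E)) (h2.symm.trans ?_)
    ring
  exact ⟨MulEquiv.ofBijective Φ ((Nat.bijective_iff_injective_and_card Φ).mpr ⟨hinj, hq6⟩)⟩

variable {G : Type*} [Group G] [Finite G] {D : Set G}

variable {a b : G} (H : Hyp D a) (hL : Even D) (hb : b ∈ near D a)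
include H hL hb

/-- The joint centralizer in the derived group is the local group of the second member in the quotient. -/
theorem exists_iso :
    ∃ e : ↥(commutator G ⊓ centralizer ({a, b} : Set G)) ≃* ↥(loc (imgSet D a) (im D a b)),
      ∀ x, (e x : ↥(loc D a) ⧸ Subgroup.center ↥(loc D a)) = im D a (x : G) := by
  have X := ThreeTransM23Cent59.ctx_all H.qgrp H.qprim H.q23 _ (H.im_mem hb)
  rw [← ThreeTransM23Cent59.centralizer_eq X]
  have hle : commutator G ⊓ centralizer ({a, b} : Set G) ≤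
      commutator G ⊓ centralizer ({a} : Set G) :=
    inf_le_inf_left _ (centralizer_le (by simp))
  let f := (θ H).comp (Subgroup.inclusion hle)
  have hf : ∀ x, f x = im D a (x : G) := fun x => θ_apply H (Subgroup.inclusion hle x)
  have hmem : ∀ x, f x ∈ centralizer ({im D a b} : Set _) := fun x => by
    obtain ⟨e1, e2⟩ := ThreeTransM23Pair34.mem_joint.mp x.2.2
    rw [hf]
    exact mem_centralizer_singleton_iff.mpr ((commute_iff H e1 hb).mpr e2).eq
  refine ⟨MulEquiv.ofBijective (f.codRestrict _ hmem) ⟨fun x y h => ?_, fun y => ?_⟩, hf⟩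
  · exact Subgroup.inclusion_injective hle (θ_injective H hL (congrArg Subtype.val h))
  · obtain ⟨x, hx⟩ := lift H hL (y : ↥(loc D a) ⧸ Subgroup.center ↥(loc D a))
    have e1 : Commute (x : G) a := mem_centralizer_singleton_iff.mp x.2.2
    have hy := y.2
    rw [← hx, θ_apply H, mem_centralizer_singleton_iff] at hy
    exact ⟨⟨x, x.2.1, ThreeTransM23Pair34.mem_joint.mpr ⟨e1, (commute_iff H e1 hb).mp hy⟩⟩,
      Subtype.ext hx⟩

/-- The joint centralizer is quasisimple over `Fi₂₂` with centre generated by the product. -/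
theorem structure_K :
    Cfsg.IsQuasisimple ↥(commutator G ⊓ centralizer ({a, b} : Set G)) ∧
      (Subgroup.center ↥(commutator G ⊓ centralizer ({a, b} : Set G))).map
        (commutator G ⊓ centralizer ({a, b} : Set G)).subtype = zpowers (a * b) ∧
      Nonempty (↥(commutator G ⊓ centralizer ({a, b} : Set G)) ⧸
          Subgroup.center ↥(commutator G ⊓ centralizer ({a, b} : Set G)) ≃* Cfsg.Spor.Fi22) := by
  classical
  set y := im D a b with hy
  have X := ThreeTransM23Cent59.ctx_all H.qgrp H.qprim H.q23 y (H.im_mem hb)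
  obtain ⟨φ, -⟩ := ThreeTransM22Pres51.exists_equiv X.qgrp X.qprim X.q22
  set K := commutator G ⊓ centralizer ({a, b} : Set G)
  set KY := loc (imgSet D a) y
  obtain ⟨e, he⟩ : ∃ e : ↥K ≃* ↥KY, ∀ x, (e x : ↥(loc D a) ⧸ Subgroup.center ↥(loc D a)) =
      im D a (x : G) := exists_iso H hL hb
  have hcz : (Subgroup.center ↥K).map e.toMonoidHom = Subgroup.center ↥KY := by
    ext v
    simp only [mem_map, mem_center_iff]
    constructor
    · rintro ⟨x, hx, rfl⟩ z
      obtain ⟨w, rfl⟩ := e.surjective z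
      show e w * e x = e x * e w
      rw [← map_mul, hx w, map_mul]
    · intro hv
      obtain ⟨x, rfl⟩ := e.surjective v
      exact ⟨x, fun w => e.injective (by rw [map_mul, map_mul, hv]), rfl⟩
  refine ⟨ComponentsBasic.isQuasisimple_of_mulEquiv e.symm (ThreeTransM23Order34.loc_quasisimple X),
    ?_, ⟨(QuotientGroup.congr _ _ e hcz).trans φ.symm⟩⟩
  have hjK : a * b ∈ K := ⟨mul_mem_derived hL H.mem hb.1, ThreeTransM23Pair34.mem_joint.mpr
    ⟨(Commute.refl a).mul_left hb.2.2.symm, hb.2.2.mul_left (Commute.refl b)⟩⟩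
  let f : ↥K →* ↥(loc D a) ⧸ Subgroup.center ↥(loc D a) := KY.subtype.comp e.toMonoidHom
  have hfi : Function.Injective f := KY.subtype_injective.comp e.injective
  have hfj : f ⟨a * b, hjK⟩ = y := by
    show ((e _ : ↥KY) : ↥(loc D a) ⧸ Subgroup.center ↥(loc D a)) = y
    rw [he, ThreeTransM24Inner39.im_mul H (ThreeTransM24Sign39.self_mem H) (near_le_loc hb),
      im_self H, one_mul]
  have hz : Subgroup.center ↥K = zpowers (⟨a * b, hjK⟩ : ↥K) := by
    refine map_injective (f := f) hfi ?_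
    rw [MonoidHom.map_zpowers, hfj, show (Subgroup.center ↥K).map f =
      ((Subgroup.center ↥K).map e.toMonoidHom).map KY.subtype from (map_map _ _ _).symm, hcz,
      ThreeTransM23Cent59.center_loc X]
    exact map_subgroupOf_eq_of_le (zpowers_le.mpr X.self)
  rw [hz, MonoidHom.map_zpowers]
  rfl

/-- An element fixing the product fixes or exchanges the two members. -/
theorem fixes_or_swaps {g : G} (hg : Commute g (a * b)) :
    (g * a * g⁻¹ = a ∧ g * b * g⁻¹ = b) ∨ (g * a * g⁻¹ = b ∧ g * b * g⁻¹ = a) := by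
  have key : ∀ x y : G, x ∈ D → y ∈ D → x ≠ y → Commute x y → Commute g (x * y) →
      g * x * g⁻¹ = x ∨ g * x * g⁻¹ = y := by
    intro x y hx hy hne hxy he
    have hl : CList D [x, y] := ⟨by simp [hx, hy], by simp [hne], by simp [hxy, hxy.symm]⟩
    have hl' : CList D [g * x * g⁻¹, g * y * g⁻¹] := ⟨by simp [H.ts.conj g x hx, H.ts.conj g y hy],
      by simp [hne], by simp [(Commute.conj_iff g).mpr hxy, (Commute.conj_iff g).mpr hxy.symm]⟩
    have hp : [x, y].prod = [g * x * g⁻¹, g * y * g⁻¹].prod := by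
      simp only [List.prod_cons, List.prod_nil, mul_one]
      rw [show g * x * g⁻¹ * (g * y * g⁻¹) = g * (x * y) * g⁻¹ by group,
        mul_inv_eq_iff_eq_mul.mpr he.eq]
    have h := (ThreeTransPairs.pair_unique H.ts H.prim hl rfl hl' rfl hp (g * x * g⁻¹)).mpr (by simp)
    simpa using h
  have hne : g * a * g⁻¹ ≠ g * b * g⁻¹ := fun e => hb.2.1 (mul_left_cancel (mul_right_cancel e)).symm
  rcases key a b H.mem hb.1 hb.2.1.symm hb.2.2 hg,
    key b a hb.1 H.mem hb.2.1 hb.2.2.symm (hb.2.2.eq ▸ hg) with ⟨h | h, h' | h'⟩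
  exacts [Or.inl ⟨h, h'⟩, absurd (h.trans h'.symm) hne, absurd (h.trans h'.symm) hne, Or.inr ⟨h, h'⟩]

/-- Index two, and self-centralizing. -/
theorem index_two :
    commutator G ⊓ centralizer ({a, b} : Set G) ≤ commutator G ⊓ centralizer ({a * b} : Set G) ∧
    ((commutator G ⊓ centralizer ({a, b} : Set G)).subgroupOf
      (commutator G ⊓ centralizer ({a * b} : Set G))).index = 2 ∧
    ∀ g ∈ commutator G ⊓ centralizer ({a * b} : Set G),
      (∀ k ∈ commutator G ⊓ centralizer ({a, b} : Set G), Commute g k) →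
        g ∈ commutator G ⊓ centralizer ({a, b} : Set G) := by
  set K := commutator G ⊓ centralizer ({a, b} : Set G) with hK
  set C := commutator G ⊓ centralizer ({a * b} : Set G) with hC
  have ht := H.ts
  have hKC : K ≤ C := fun g hg => ⟨hg.1, mem_centralizer_singleton_iff.mpr
    ((ThreeTransM23Pair34.mem_joint.mp hg.2).1.mul_right
      (ThreeTransM23Pair34.mem_joint.mp hg.2).2).eq⟩
  have hab : a ≠ b := hb.2.1.symm
  have hcases : ∀ g ∈ C, (g ∈ K ↔ g * a * g⁻¹ = a) ∧
      (g * a * g⁻¹ ≠ a → g * a * g⁻¹ = b ∧ g * b * g⁻¹ = a) := by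
    intro g hg
    rcases fixes_or_swaps H hL hb (mem_centralizer_singleton_iff.mp hg.2) with ⟨h, h'⟩ | h
    · exact ⟨iff_of_true ⟨hg.1, ThreeTransM23Pair34.mem_joint.mpr
        ⟨mul_inv_eq_iff_eq_mul.mp h, mul_inv_eq_iff_eq_mul.mp h'⟩⟩ h, fun hn => absurd h hn⟩
    · exact ⟨iff_of_false (fun hk => hab ((mul_inv_eq_iff_eq_mul.mpr
        (ThreeTransM23Pair34.mem_joint.mp hk.2).1.eq).symm.trans h.1))
        (fun e => hab (e.symm.trans h.1)), fun _ => h⟩
  obtain ⟨u, hu, h1, h2⟩ := ThreeTransSign39.exists_common ht H.prim.1 H.centre H.mem hb.1 hab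
  obtain ⟨e1, e2⟩ := ThreeTransSwap.exchange ht H.mem hb.1 hu hb.2.2 h1 (fun e => h2 e.symm)
  have hs : u * a * b * u ∈ C := by
    refine ⟨?_, mem_centralizer_singleton_iff.mpr (mul_inv_eq_iff_eq_mul.mp ?_)⟩
    · rw [show u * a * b * u = (u * a) * (b * u) by group]
      exact mul_mem (mul_mem_derived hL hu H.mem) (mul_mem_derived hL hb.1 hu)
    · calc u * a * b * u * (a * b) * (u * a * b * u)⁻¹
          = (u * a * b * u * a * (u * a * b * u)⁻¹) * (u * a * b * u * b * (u * a * b * u)⁻¹) := by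
            group
        _ = b * a := by rw [e1, e2]
        _ = a * b := hb.2.2.symm.eq
  refine ⟨hKC, ?_, ?_⟩
  · rw [index_eq_two_iff]
    refine ⟨⟨_, hs⟩, fun g => ?_⟩
    simp only [mem_subgroupOf, Subgroup.coe_mul]
    rw [(hcases _ (mul_mem g.2 hs)).1, (hcases _ g.2).1]
    have e : (g : G) * (u * a * b * u) * a * ((g : G) * (u * a * b * u))⁻¹ = g * b * (g : G)⁻¹ := by
      calc (g : G) * (u * a * b * u) * a * ((g : G) * (u * a * b * u))⁻¹
          = (g : G) * (u * a * b * u * a * (u * a * b * u)⁻¹) * (g : G)⁻¹ := by group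
        _ = g * b * (g : G)⁻¹ := by rw [e1]
    rw [e]
    rcases fixes_or_swaps H hL hb (mem_centralizer_singleton_iff.mp g.2.2) with ⟨h, h'⟩ | ⟨h, h'⟩
    · exact Or.inr ⟨h, fun e => hab (e.symm.trans h')⟩
    · exact Or.inl ⟨h', fun e => hab (e.symm.trans h)⟩
  · intro g hg hcomm
    by_contra hgK
    obtain ⟨g1, g2⟩ := (hcases g hg).2 (fun e => hgK ((hcases g hg).1.mpr e))
    have X := ThreeTransM23Cent59.ctx_all H.qgrp H.qprim H.q23 _ (H.im_mem hb)
    obtain ⟨l, hl, hln, hlen⟩ := X.exists_triple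
    obtain ⟨v, hv⟩ : ∃ v, v ∈ l := ⟨l.head (by rintro rfl; simp at hlen), List.head_mem _⟩
    obtain ⟨p, hp, rfl⟩ := H.surj_img (hln v hv).1
    have hpb : Commute b p := (H.comm_iff hb hp).mp (hln _ hv).2.2
    have hpne : p ≠ b := fun e => (hln _ hv).2.1 (by rw [e])
    have hpaK : p * a ∈ K := ⟨mul_mem_derived hL hp.1 H.mem, ThreeTransM23Pair34.mem_joint.mpr
      ⟨hp.2.2.symm.mul_left (Commute.refl a), hpb.symm.mul_left hb.2.2⟩⟩
    set q := g * p * g⁻¹
    have hprod : [q, b].prod = [p, a].prod := by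
      simp only [List.prod_cons, List.prod_nil, mul_one]
      rw [← g1, show g * p * g⁻¹ * (g * a * g⁻¹) = g * (p * a) * g⁻¹ by group,
        mul_inv_eq_iff_eq_mul.mpr (hcomm _ hpaK).eq]
    have hqb : q ≠ b := fun e => hp.2.1 (mul_left_cancel (mul_right_cancel (e.trans g1.symm)))
    have hcq : Commute q b := by
      rw [← g1]; exact (Commute.conj_iff g).mpr hp.2.2.symm
    have hl' : CList D [q, b] := ⟨by simp [ht.conj g p hp.1, hb.1, q], by simp [hqb],
      by simp [hcq, hcq.symm]⟩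
    have hl'' : CList D [p, a] := ⟨by simp [hp.1, H.mem], by simp [hp.2.1],
      by simp [hp.2.2, hp.2.2.symm]⟩
    have h := (ThreeTransPairs.pair_unique ht H.prim hl' rfl hl'' rfl hprod b).mp (by simp)
    simp [hpne.symm, hab.symm] at h

omit H hL hb

/-- The automorphism group of the presented `Fi₂₂` has twice its order. -/
theorem card_mulAut_fi22 :
    Nat.card (MulAut Cfsg.Spor.Fi22) = 2 * Nat.card Cfsg.Spor.Fi22 := by
  obtain ⟨d, hd⟩ := ThreeTransFi22Out41.exists_data
  show Nat.card (MulAut P22.Grp) = 2 * Nat.card P22.Grp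
  rw [card_eq_card_quotient_mul_card_subgroup (Cfsg.Inn P22.Grp),
    ThreeTransAut41.card_inn (ThreeTransFi22Out41.center_trivial hd)]
  show Nat.card (Cfsg.Out P22.Grp) * _ = _
  rw [ThreeTransFi22Out41.card_out]

end Cfsg.Agent.ThreeTransM24Duo39
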