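import Cfsg.Agent.Lib.ThreeTransM24Base88

/-!
# The quotient attached to two commuting members in type M(24)

For commuting members `d`, `e` the group generated by the members near both has a quotient of type M(22),
on which every element permuting those members induces an automorphism.
-/

set_option autoImplicit false
set_option linter.unusedSectionVars false
set_option linter.style.haveILetI false

namespace Cfsg.Agent.ThreeTransM24Pair88

open Subgroup Cfsg.Agent.ThreeTransRel Cfsg.Agent.ThreeTransDescent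
open Cfsg.Agent.ThreeTransM23Parity34 Cfsg.Agent.ThreeTransM24Base88

variable {G : Type*} [Group G] [Finite G] {D : Set G}

/-- The members near both `d` and `e`. -/
abbrev N2 (D : Set G) (d e : G) : Set G := near D d ∩ near D e

/-- The group they generate. -/
abbrev L2 (D : Set G) (d e : G) : Subgroup G := Subgroup.closure (N2 D d e)

/-- The quotient. -/
abbrev Wq (D : Set G) (d e : G) : Type _ :=
  ↥(loc (imgSet D d) (im D d e)) ⧸ Subgroup.center ↥(loc (imgSet D d) (im D d e))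

/-- The map to the quotient. -/
noncomputable def im2 (D : Set G) (d e x : G) : Wq D d e := im (imgSet D d) (im D d e) (im D d x)

/-- The members of the quotient. -/
abbrev E2 (D : Set G) (d e : G) : Set (Wq D d e) := imgSet (imgSet D d) (im D d e)

theorem conj_L2 {d e y : G} (hy : ∀ p ∈ N2 D d e, y * p * y⁻¹ ∈ N2 D d e) {x : G}
    (hx : x ∈ L2 D d e) : y * x * y⁻¹ ∈ L2 D d e := by
  have h : (L2 D d e).map (MulAut.conj y).toMonoidHom ≤ L2 D d e := by
    rw [MonoidHom.map_closure]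
    exact closure_mono (Set.image_subset_iff.mpr fun p hp => hy p hp)
  exact h (mem_map_of_mem _ hx)

theorem inv_n2 {d e y : G} (hy : ∀ p ∈ N2 D d e, y * p * y⁻¹ ∈ N2 D d e) {p : G}
    (hp : p ∈ N2 D d e) : y⁻¹ * p * y ∈ N2 D d e := by
  have hbij : Set.SurjOn (fun p => y * p * y⁻¹) (N2 D d e) (N2 D d e) :=
    ((Set.toFinite _).injOn_iff_bijOn_of_mapsTo (f := fun p => y * p * y⁻¹) hy).mp
      (fun a _ b _ h => mul_left_cancel (mul_right_cancel h)) |>.surjOn
  obtain ⟨q, hq, e'⟩ := hbij hp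
  rw [← e', show y⁻¹ * (y * q * y⁻¹) * y = q by group]
  exact hq

variable {d : G} (X : Ctx D d)
include X

theorem ts : TSys D := tsys_of_group X.grp

theorem qts : TSys (imgSet D d) := tsys_img (ts X) d

theorem im_mem {p : G} (hp : p ∈ near D d) : im D d p ∈ imgSet D d :=
  ⟨⟨p, near_le_loc hp⟩, hp, (im_eq (near_le_loc hp)).symm⟩

theorem surj_img {y : ↥(loc D d) ⧸ Subgroup.center ↥(loc D d)} (hy : y ∈ imgSet D d) :
    ∃ p ∈ near D d, im D d p = y := by
  obtain ⟨x, hx, rfl⟩ := hy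
  exact ⟨x, hx, by rw [im_eq x.2]⟩

theorem inj {p q : G} (hp : p ∈ near D d) (hq : q ∈ near D d) (h : im D d p = im D d q) : p = q := by
  rw [im_eq (near_le_loc hp), im_eq (near_le_loc hq)] at h
  exact congrArg Subtype.val (img_inj (ts X) (no_trivial (ts X) X.prim X.mem) (p := ⟨p, _⟩)
    (q := ⟨q, _⟩) hp hq h)

theorem comm_iff {p q : G} (hp : p ∈ near D d) (hq : q ∈ near D d) :
    Commute (im D d p) (im D d q) ↔ Commute p q := by
  rw [im_eq (near_le_loc hp), im_eq (near_le_loc hq)]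
  exact ⟨fun h => img_refl (ts X) (p := ⟨p, _⟩) (q := ⟨q, _⟩) hp hq h, fun h =>
    (show Commute (⟨p, near_le_loc hp⟩ : ↥(loc D d)) ⟨q, near_le_loc hq⟩ from Subtype.ext h).map
      (QuotientGroup.mk' (Subgroup.center ↥(loc D d)))⟩

theorem im_mul {x y : G} (hx : x ∈ loc D d) (hy : y ∈ loc D d) :
    im D d (x * y) = im D d x * im D d y := by
  rw [im_eq hx, im_eq hy, im_eq (mul_mem hx hy)]
  rfl

theorem im_conj {k y : G} (hk : k ∈ loc D d) (hy : y ∈ loc D d) :
    im D d (k * y * k⁻¹) = im D d k * im D d y * (im D d k)⁻¹ := by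
  rw [im_eq hk, im_eq hy, im_eq (mul_mem (mul_mem hk hy) (inv_mem hk))]
  rfl

theorem im_eq_one {x : G} (hx : x ∈ loc D d) : im D d x = 1 ↔ ∀ y ∈ near D d, Commute y x := by
  rw [im_eq hx]; exact mk_eq_one_iff _

theorem surj_quot (y : ↥(loc D d) ⧸ Subgroup.center ↥(loc D d)) :
    ∃ k ∈ loc D d, im D d k = y := by
  obtain ⟨x, rfl⟩ := QuotientGroup.mk'_surjective _ y
  exact ⟨x, x.2, by rw [im_eq x.2]; rfl⟩

/-- The local group is transitive on the members near `d`. -/
theorem transitive {p q : G} (hp : p ∈ near D d) (hq : q ∈ near D d) :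
    ∃ k ∈ loc D d, k * p * k⁻¹ = q := by
  obtain ⟨g, hg⟩ := (X.qctx _ (im_mem X hp)).prim.1 _ (im_mem X hp) _ (im_mem X hq)
  obtain ⟨k, hk, rfl⟩ := surj_quot X g
  refine ⟨k, hk, inj X (near_conj (ts X) (commute_d_of_mem_loc hk).symm hp) hq ?_⟩
  rw [im_conj X hk (near_le_loc hp), hg]

variable {e : G} (he : e ∈ near D d)
include he

theorem qc : ThreeTransM23Local59.Ctx (imgSet D d) (im D d e) := X.qctx _ (im_mem X he)

theorem n2_img {p : G} (hp : p ∈ N2 D d e) : im D d p ∈ near (imgSet D d) (im D d e) :=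
  ⟨im_mem X hp.1, fun h => hp.2.2.1 (inj X hp.1 he h), (comm_iff X he hp.1).mpr hp.2.2.2⟩

theorem n2_surj {y : ↥(loc D d) ⧸ Subgroup.center ↥(loc D d)}
    (hy : y ∈ near (imgSet D d) (im D d e)) : ∃ p ∈ N2 D d e, im D d p = y := by
  obtain ⟨p, hp, rfl⟩ := surj_img X hy.1
  exact ⟨p, ⟨hp, hp.1, fun h => hy.2.1 (h ▸ rfl), (comm_iff X he hp).mp hy.2.2⟩, rfl⟩

theorem l2_loc {x : G} (hx : x ∈ L2 D d e) : x ∈ loc D d := closure_mono Set.inter_subset_left hx

theorem l2_img {x : G} (hx : x ∈ L2 D d e) : im D d x ∈ loc (imgSet D d) (im D d e) := by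
  induction hx using Subgroup.closure_induction with
  | mem p hp => exact near_le_loc (n2_img X he hp)
  | one => rw [im_eq (one_mem _)]; exact one_mem _
  | mul a b ha hb iha ihb => rw [im_mul X (l2_loc X he ha) (l2_loc X he hb)]; exact mul_mem iha ihb
  | inv a ha iha =>
    have h : im D d a⁻¹ = (im D d a)⁻¹ := by
      refine eq_inv_of_mul_eq_one_left ?_
      rw [← im_mul X (inv_mem (l2_loc X he ha)) (l2_loc X he ha), inv_mul_cancel]
      exact im_eq (one_mem _)
    rw [h]; exact inv_mem iha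

/-- The quotient map. -/
noncomputable def psi : ↥(L2 D d e) →* Wq D d e :=
  MonoidHom.mk' (fun x => im2 D d e x) fun a b => by
    show im2 D d e (a * b : G) = _
    rw [im2, im_mul X (l2_loc X he a.2) (l2_loc X he b.2), (qc X he).im_mul (l2_img X he a.2)
      (l2_img X he b.2)]
    rfl

theorem psi_apply (x : ↥(L2 D d e)) : psi X he x = im2 D d e x := rfl

theorem im2_mul {a b : G} (ha : a ∈ L2 D d e) (hb : b ∈ L2 D d e) :
    im2 D d e (a * b) = im2 D d e a * im2 D d e b := map_mul (psi X he) ⟨a, ha⟩ ⟨b, hb⟩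

theorem im2_inv {a : G} (ha : a ∈ L2 D d e) : im2 D d e a⁻¹ = (im2 D d e a)⁻¹ :=
  map_inv (psi X he) ⟨a, ha⟩

theorem im2_one : im2 D d e 1 = 1 := map_one (psi X he)

theorem im2_conj {a b : G} (ha : a ∈ L2 D d e) (hb : b ∈ L2 D d e) :
    im2 D d e (a * b * a⁻¹) = im2 D d e a * im2 D d e b * (im2 D d e a)⁻¹ := by
  rw [im2_mul X he (mul_mem ha hb) (inv_mem ha), im2_mul X he ha hb, im2_inv X he ha]

theorem im2_mem {p : G} (hp : p ∈ N2 D d e) : im2 D d e p ∈ E2 D d e :=
  (qc X he).im_mem (n2_img X he hp)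

theorem im2_surj_img {y : Wq D d e} (hy : y ∈ E2 D d e) : ∃ p ∈ N2 D d e, im2 D d e p = y := by
  obtain ⟨q, hq, rfl⟩ := (qc X he).surj_img hy
  obtain ⟨p, hp, rfl⟩ := n2_surj X he hq
  exact ⟨p, hp, rfl⟩

theorem im2_inj {p q : G} (hp : p ∈ N2 D d e) (hq : q ∈ N2 D d e)
    (h : im2 D d e p = im2 D d e q) : p = q :=
  inj X hp.1 hq.1 ((qc X he).inj (n2_img X he hp) (n2_img X he hq) h)

theorem im2_comm_iff {p q : G} (hp : p ∈ N2 D d e) (hq : q ∈ N2 D d e) :
    Commute (im2 D d e p) (im2 D d e q) ↔ Commute p q :=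
  ((qc X he).comm_iff (n2_img X he hp) (n2_img X he hq)).trans (comm_iff X hp.1 hq.1)

theorem psi_surjective : Function.Surjective (psi X he) := by
  rw [← MonoidHom.range_eq_top, eq_top_iff, ← (qc X he).qts.gen, closure_le]
  intro y hy
  obtain ⟨p, hp, rfl⟩ := im2_surj_img X he hy
  exact ⟨⟨p, subset_closure hp⟩, rfl⟩

theorem im2_surj (w : Wq D d e) : ∃ x ∈ L2 D d e, im2 D d e x = w :=
  let ⟨x, hx⟩ := psi_surjective X he w
  ⟨x, x.2, hx⟩

theorem l2_conj {x p : G} (hx : x ∈ L2 D d e) (hp : p ∈ N2 D d e) : x * p * x⁻¹ ∈ N2 D d e :=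
  ⟨near_conj (ts X) (commute_d_of_mem_loc (l2_loc X he hx)).symm hp.1,
    near_conj (ts X) (commute_d_of_mem_loc (closure_mono Set.inter_subset_right hx)).symm hp.2⟩

theorem im2_eq_one {x : G} (hx : x ∈ L2 D d e) :
    im2 D d e x = 1 ↔ ∀ p ∈ N2 D d e, Commute x p := by
  constructor
  · intro h p hp
    refine mul_inv_eq_iff_eq_mul.mp (im2_inj X he (l2_conj X he hx hp) hp ?_)
    rw [im2_conj X he hx (subset_closure hp), h, one_mul, inv_one, mul_one]
  · intro h
    refine eq_one_of_central (qc X he).qts (qc X he).q22.1 fun y hy => ?_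
    obtain ⟨p, hp, rfl⟩ := im2_surj_img X he hy
    show im2 D d e p * im2 D d e x = im2 D d e x * im2 D d e p
    rw [← im2_mul X he (subset_closure hp) hx, ← im2_mul X he hx (subset_closure hp), (h p hp).eq]

/-- The automorphism induced by an element permuting the members near both. -/
theorem exists_quot2 {y : G} (hy : ∀ p ∈ N2 D d e, y * p * y⁻¹ ∈ N2 D d e) :
    ∃ φ : MulAut (Wq D d e), (∀ x ∈ L2 D d e, φ (im2 D d e x) = im2 D d e (y * x * y⁻¹)) ∧
      ∀ u ∈ E2 D d e, φ u ∈ E2 D d e := by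
  let c : ↥(L2 D d e) →* ↥(L2 D d e) :=
    MonoidHom.mk' (fun x => ⟨y * x * y⁻¹, conj_L2 hy x.2⟩) fun a b => Subtype.ext (by
      show y * ((a : G) * b) * y⁻¹ = (y * a * y⁻¹) * (y * b * y⁻¹)
      group)
  have hker : (psi X he).ker ≤ ((psi X he).comp c).ker := fun x hx => by
    refine (im2_eq_one X he (conj_L2 hy x.2)).mpr fun p hp => ?_
    have h := ((im2_eq_one X he x.2).mp (MonoidHom.mem_ker.mp hx) _ (inv_n2 hy hp))
    have := (Commute.conj_iff y).mpr h
    rwa [show y * (y⁻¹ * p * y) * y⁻¹ = p by group] at this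
  set f := MonoidHom.liftOfSurjective (psi X he) (psi_surjective X he) ⟨(psi X he).comp c, hker⟩
    with hf
  have hfx : ∀ x ∈ L2 D d e, f (im2 D d e x) = im2 D d e (y * x * y⁻¹) := fun x hx =>
    MonoidHom.liftOfRightInverse_comp_apply (psi X he) _ _ ⟨(psi X he).comp c, hker⟩ ⟨x, hx⟩
  have hinj : Function.Injective f := by
    rw [injective_iff_map_eq_one]
    intro w hw
    obtain ⟨x, hx, rfl⟩ := im2_surj X he w
    rw [hfx x hx, im2_eq_one X he (conj_L2 hy hx)] at hw
    refine (im2_eq_one X he hx).mpr fun p hp => (Commute.conj_iff y).mp (hw _ (hy p hp))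
  refine ⟨MulEquiv.ofBijective f ⟨hinj, (Finite.injective_iff_surjective.mp hinj)⟩, hfx, fun u hu => ?_⟩
  obtain ⟨p, hp, rfl⟩ := im2_surj_img X he hu
  show f (im2 D d e p) ∈ E2 D d e
  rw [hfx p (subset_closure hp)]
  exact im2_mem X he (hy p hp)

end Cfsg.Agent.ThreeTransM24Pair88
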