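import Cfsg.Agent.Lib.ThreeTransM24QuadSpace54
import Cfsg.Agent.Lib.ThreeTransM24QuadGroupData54
import Cfsg.Agent.Lib.LeechUnitary43
import Cfsg.Agent.Lib.OrthUnitaryPSU

/-!
`PSU₄(3)` in the group generated by the products of two involutions of the space of 126 points.
-/

set_option autoImplicit false
set_option linter.unusedSectionVars false
set_option maxRecDepth 100000

namespace Cfsg.Agent.ThreeTransM24QuadGroup54

open Cfsg.Agent.PermImageCert Cfsg.Agent.ThreeTransM24QuadTables54
open Cfsg.Agent.ThreeTransM24QuadGroupData54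

/-- The group on the 112 subspaces. -/
abbrev Gam : Subgroup (Equiv.Perm (Fin 112)) := genGroup 112 (LeechUnitary43.perms.map Prod.fst)

theorem nonempty_gen_iso (F : Type) [Field F] [Fintype F] (hF : Fintype.card F = 9) :
    Nonempty (↥Gam ≃* Cfsg.PSU 4 F 3) := by
  obtain ⟨s, hs, hsp⟩ := UnitaryImageFields.gen_nine hF
  have hgen : UnitaryImage.GenOK LeechUnitary43.field s :=
    { tables := LeechUnitary43.tables_ok
      char := UnitaryImageFields.cast_char (k := 2) Nat.prime_three (by rw [hF]; rfl)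
      sq := by simp [LeechUnitary43.field, hs]
      frob := by simpa [LeechUnitary43.field] using hsp
      prime := Nat.prime_three }
  obtain ⟨e₂⟩ := UnitaryImage.exists_iso hgen (n := 4) (r := 2) (N := 112) (by norm_num)
    (show Fintype.card F = 3 ^ 2 by rw [hF]; rfl)
    LeechUnitary43.subspaces LeechUnitary43.annihilators LeechUnitary43.distinct_ok
    (LeechUnitary43.matrices.zip (LeechUnitary43.perms.map Prod.fst)) LeechUnitary43.matrices_ok
    (by rw [LeechUnitary43.matrices_map]; exact transitive_of_tree LeechUnitary43.perms_ok LeechUnitary43.slp_ok LeechUnitary43.chain_ok LeechUnitary43.tree_length)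
    (M := 3265920) (by rw [LeechUnitary43.matrices_map]; exact LeechUnitary43.le_card)
    (UnitaryImageFields.card_PSU43 hF)
  exact ⟨(MulEquiv.subgroupCongr (by rw [LeechUnitary43.matrices_map])).trans e₂.symm⟩

/-- The code of a reflection. -/
def tau (p : ℕ) : ℕ := tauRows.getD p 0

/-- The code of a generator on the points. -/
def sgm (i : ℕ) : ℕ := sigRows.getD i 0

/-- The code of a generator on the subspaces. -/
def gen (i : ℕ) : ℕ := (LeechUnitary43.perms.map Prod.fst).getD i 0

/-- The word of a generator. -/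
def word (i : ℕ) : List ℕ := sigWords.getD i []

theorem gens_length : (LeechUnitary43.perms.map Prod.fst).length = 2 := by decide +kernel

theorem tau_ok : allBelow (fun p => invOK 112 (tau p, tau p)) 126 = true := by decide +kernel

theorem tau_ne : allBelow (fun p => allBelow (fun r => Nat.beq p r ||
    !(allBelow (fun k => Nat.beq (get (tau p) k) (get (tau r) k)) 112)) 126) 126 = true := by
  decide +kernel

theorem conj_ok : allBelow (fun i => allBelow (fun p => Nat.blt (get (sgm i) p) 126 &&
    allBelow (fun k => Nat.beq (get (gen i) (get (tau p) k)) (get (tau (get (sgm i) p)) (get (gen i) k))) 112)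
    126) 2 = true := by decide +kernel

theorem word_ok : allBelow (fun i => allBelow (fun p =>
    Nat.beq ((word i).foldr (fun w y => T w y) p) (get (sgm i) p)) 126 &&
    (word i).all (fun w => Nat.blt w 126) && Nat.beq ((word i).length % 2) 0) 2 = true := by
  decide +kernel

theorem sgm_moves : allBelow (fun p => Nat.beq (get (sgm 0) p) p) 126 = false := by decide +kernel

theorem exists_tau (p : Fin 126) : ∃ σ : Equiv.Perm (Fin 112), Rep σ (tau p) := by
  obtain ⟨σ, h, -⟩ := exists_rep (allBelow_spec tau_ok p p.2)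
  exact ⟨σ, h⟩

/-- A reflection. -/
noncomputable def tauP (p : Fin 126) : Equiv.Perm (Fin 112) := (exists_tau p).choose

theorem tauP_rep (p : Fin 126) : Rep (tauP p) (tau p) := (exists_tau p).choose_spec

theorem tauP_inj : Function.Injective tauP := by
  intro p r e
  have h := allBelow_spec (allBelow_spec tau_ne p p.2) r r.2
  simp only [Bool.or_eq_true, Nat.beq_eq, Bool.not_eq_true'] at h
  rcases h with h | h
  · exact Fin.ext h
  · exfalso
    have hall : allBelow (fun k => Nat.beq (get (tau p) k) (get (tau r) k)) 112 = true :=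
      ThreeTransM24QuadSpace54.pair_line.allBelow_of_forall fun k hk => by
        rw [Nat.beq_eq, ← tauP_rep p ⟨k, hk⟩, e, tauP_rep r ⟨k, hk⟩]
    rw [hall] at h
    exact Bool.noConfusion h

/-- The permutations of the subspaces permuting the reflections. -/
def Nsub : Subgroup (Equiv.Perm (Fin 112)) where
  carrier := {g | ∀ p, ∃ p', g * tauP p * g⁻¹ = tauP p'}
  one_mem' := fun p => ⟨p, by simp⟩
  mul_mem' := fun {g k} hg hk p => by
    obtain ⟨p₁, h₁⟩ := hk p
    obtain ⟨p₂, h₂⟩ := hg p₁
    exact ⟨p₂, by rw [show g * k * tauP p * (g * k)⁻¹ = g * (k * tauP p * k⁻¹) * g⁻¹ by group, h₁, h₂]⟩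
  inv_mem' := fun {g} hg p => by
    choose f hf using hg
    have hinj : Function.Injective f := fun a b e => tauP_inj
      (mul_left_cancel (mul_right_cancel ((hf a).trans ((congrArg tauP e).trans (hf b).symm))))
    obtain ⟨a, rfl⟩ := (Finite.injective_iff_surjective.mp hinj) p
    exact ⟨a, by rw [inv_inv, ← hf a]; group⟩

theorem gam_le : Gam ≤ Nsub := by
  rw [Gam, genGroup, Subgroup.closure_le]
  rintro σ ⟨Pc, hP, hσ⟩ p
  obtain ⟨i, hi, rfl⟩ := List.getElem_of_mem hP
  have hi2 : i < 2 := gens_length ▸ hi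
  have h := allBelow_spec (allBelow_spec conj_ok i hi2) p p.2
  simp only [Bool.and_eq_true, Nat.blt_eq] at h
  refine ⟨⟨_, h.1⟩, mul_inv_eq_iff_eq_mul.mpr (Equiv.ext fun k => Fin.ext ?_)⟩
  have h2 := allBelow_spec h.2 k k.2
  rw [Nat.beq_eq, gen, List.getD_eq_getElem _ _ hi] at h2
  rw [Equiv.Perm.mul_apply, Equiv.Perm.mul_apply, hσ, tauP_rep, tauP_rep, hσ]
  exact h2

/-- The action on the reflections. -/
noncomputable def act (g : ↥Gam) (p : Fin 126) : Fin 126 := (gam_le g.2 p).choose

theorem act_spec (g : ↥Gam) (p : Fin 126) :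
    (g : Equiv.Perm (Fin 112)) * tauP p * (g : Equiv.Perm (Fin 112))⁻¹ = tauP (act g p) :=
  (gam_le g.2 p).choose_spec

theorem act_one (p : Fin 126) : act 1 p = p := tauP_inj (by rw [← act_spec]; simp)

theorem act_mul (g k : ↥Gam) (p : Fin 126) : act (g * k) p = act g (act k p) := tauP_inj (by
  rw [← act_spec, ← act_spec g (act k p), ← act_spec k p]; push_cast; group)

/-- The permutation of the points. -/
noncomputable def toPerm : ↥Gam →* Equiv.Perm (Fin 126) where
  toFun g :=
    { toFun := act g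
      invFun := act g⁻¹
      left_inv := fun p => by rw [← act_mul, inv_mul_cancel, act_one]
      right_inv := fun p => by rw [← act_mul, mul_inv_cancel, act_one] }
  map_one' := Equiv.ext act_one
  map_mul' g k := Equiv.ext (act_mul g k)

theorem toPerm_gen {g : ↥Gam} {i : ℕ} (hi : i < 2)
    (hg : Rep (g : Equiv.Perm (Fin 112)) (gen i)) (p : Fin 126) :
    (toPerm g p : ℕ) = get (sgm i) p := by
  have h := allBelow_spec (allBelow_spec conj_ok i hi) p p.2
  simp only [Bool.and_eq_true, Nat.blt_eq] at h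
  suffices e : toPerm g p = ⟨_, h.1⟩ from congrArg Fin.val e
  refine tauP_inj ?_
  show tauP (act g p) = _
  rw [← act_spec]
  refine mul_inv_eq_iff_eq_mul.mpr (Equiv.ext fun k => Fin.ext ?_)
  have h2 := allBelow_spec h.2 k k.2
  rw [Nat.beq_eq] at h2
  rw [Equiv.Perm.mul_apply, Equiv.Perm.mul_apply, hg, tauP_rep, tauP_rep, hg]
  exact h2

variable {Ω : Type*} [Fintype Ω] [DecidableEq Ω] {t : Ω → Equiv.Perm Ω} {q : Ω} {ι : ℕ → Ω}

theorem even_prod {W : Type*} [Group W] (f : ℕ → W) :
    ∀ l : List ℕ, l.length % 2 = 0 →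
      (l.map f).prod ∈ Subgroup.closure (Set.range fun p : ℕ × ℕ => f p.1 * f p.2)
  | [], _ => one_mem _
  | [_], h => by simp at h
  | a :: b :: l, h => by
    rw [List.map_cons, List.map_cons, List.prod_cons, List.prod_cons, ← mul_assoc]
    exact mul_mem (Subgroup.subset_closure ⟨(a, b), rfl⟩)
      (even_prod f l (by simp only [List.length_cons] at h; omega))

/-- The group `PSU₄(3)` among the products of pairs of involutions. -/
theorem exists_sub (S : ThreeTransM24QuadSpace54.Space t q ι) (F : Type) [Field F] [Fintype F]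
    (hF : Fintype.card F = 9) :
    ∃ H : Subgroup (Equiv.Perm Ω), H ≤ Subgroup.closure (Set.range fun p : Ω × Ω => t p.1 * t p.2) ∧
      Nat.card ↥H = 3265920 ∧ Nonempty (↥H ≃* Cfsg.PSU 4 F 3) := by
  classical
  obtain ⟨e, he⟩ := ThreeTransM24QuadSpace54.exists_model S
  obtain ⟨iso⟩ := nonempty_gen_iso F hF
  haveI : IsSimpleGroup (Cfsg.PSU 4 F 3) :=
    OrthUnitaryPSU.isSimpleGroup_PSU (F := F) (n := 4) (q := 3) (by rw [hF]; norm_num) (by norm_num)
      (by norm_num)
  haveI : IsSimpleGroup ↥Gam := iso.isSimpleGroup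
  let Φ : ↥Gam →* Equiv.Perm Ω := e.permCongrHom.toMonoidHom.comp toPerm
  have hinj : Function.Injective Φ := by
    refine e.permCongrHom.injective.comp ((MonoidHom.ker_eq_bot_iff toPerm).mp ?_)
    rcases (inferInstance : toPerm.ker.Normal).eq_bot_or_eq_top with h | h
    · exact h
    exfalso
    have h0 : 0 < (LeechUnitary43.perms.map Prod.fst).length := gens_length.symm ▸ Nat.two_pos
    obtain ⟨σ, hσ, -⟩ := exists_rep (List.all_eq_true.mp LeechUnitary43.perms_ok _
      (List.getElem_mem (by rw [List.length_map] at h0; exact h0)))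
    have hrep : Rep σ (gen 0) := by
      rw [gen, List.getD_eq_getElem _ _ h0, List.getElem_map]; exact hσ
    have hm : σ ∈ Gam := Subgroup.subset_closure ⟨_, List.getElem_mem h0, by
      rwa [gen, List.getD_eq_getElem _ _ h0] at hrep⟩
    have h1 : toPerm ⟨σ, hm⟩ = 1 := (h.ge (Subgroup.mem_top (⟨σ, hm⟩ : ↥Gam)) : _)
    have h2 : allBelow (fun p => Nat.beq (get (sgm 0) p) p) 126 = true :=
      ThreeTransM24QuadSpace54.pair_line.allBelow_of_forall fun p hp => by
        have h3 := toPerm_gen (g := ⟨σ, hm⟩) Nat.two_pos hrep ⟨p, hp⟩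
        rw [h1] at h3
        rw [Nat.beq_eq]; exact h3.symm
    rw [sgm_moves] at h2
    exact Bool.noConfusion h2
  have hrange : Φ.range ≤ Subgroup.closure (Set.range fun p : Ω × Ω => t p.1 * t p.2) := by
    suffices key : ∀ (σ : Equiv.Perm (Fin 112)) (hm : σ ∈ Gam), Φ ⟨σ, hm⟩ ∈
        Subgroup.closure (Set.range fun p : Ω × Ω => t p.1 * t p.2) by
      rintro _ ⟨⟨σ, hm⟩, rfl⟩
      exact key σ hm
    intro σ hm
    induction hm using Subgroup.closure_induction with
    | one => exact (map_one Φ).symm ▸ one_mem _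
    | mul a b ha hb iha ihb => exact (map_mul Φ ⟨a, ha⟩ ⟨b, hb⟩).symm ▸ mul_mem iha ihb
    | inv a ha iha => exact (map_inv Φ ⟨a, ha⟩).symm ▸ inv_mem iha
    | mem σ hgm =>
    obtain ⟨Pc, hP, hσ⟩ := hgm
    have hm : σ ∈ Gam := Subgroup.subset_closure ⟨Pc, hP, hσ⟩
    show Φ ⟨σ, hm⟩ ∈ _
    obtain ⟨i, hi, rfl⟩ := List.getElem_of_mem hP
    have hi2 : i < 2 := gens_length ▸ hi
    have hrep : Rep σ (gen i) := by rwa [gen, List.getD_eq_getElem _ _ hi]
    have hw := allBelow_spec word_ok i hi2
    simp only [Bool.and_eq_true, List.all_eq_true, Nat.blt_eq, Nat.beq_eq] at hw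
    obtain ⟨⟨hwp, hlt⟩, heven⟩ := hw
    let f : ℕ → Equiv.Perm Ω := fun w => t (e ⟨w % 126, Nat.mod_lt _ (by norm_num)⟩)
    have hprod : ∀ l : List ℕ, (∀ w ∈ l, w < 126) → ∀ p : Fin 126,
        ((e.symm ((l.map f).prod (e p))) : ℕ) = l.foldr (fun w y => T w y) p := by
      intro l
      induction l with
      | nil => intro _ p; simp
      | cons w l ih =>
        intro hl p
        have hw0 : w < 126 := hl w List.mem_cons_self
        have h3 := ih (fun v hv => hl v (List.mem_cons_of_mem _ hv)) p
        rw [List.map_cons, List.prod_cons, List.foldr_cons, Equiv.Perm.mul_apply, ← h3]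
        have h4 := he ⟨w, hw0⟩ (e.symm ((l.map f).prod (e p)))
        rw [Equiv.apply_symm_apply] at h4
        simp only [f, Nat.mod_eq_of_lt hw0]
        exact h4
    have heq : Φ ⟨σ, hm⟩ = ((word i).map f).prod := by
      refine Equiv.ext fun x => ?_
      obtain ⟨p, rfl⟩ := e.surjective x
      apply e.symm.injective
      refine Fin.ext ?_
      rw [hprod _ hlt p]
      have h5 := allBelow_spec hwp p p.2
      rw [Nat.beq_eq] at h5
      rw [h5, ← toPerm_gen (g := ⟨σ, hm⟩) hi2 hrep p]
      simp [Φ, Equiv.permCongrHom, Equiv.permCongr_apply]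
    rw [heq]
    refine Subgroup.closure_mono ?_ (even_prod f _ heven)
    rintro _ ⟨⟨u, v⟩, rfl⟩
    exact ⟨(_, _), rfl⟩
  refine ⟨Φ.range, hrange, ?_, ⟨(MonoidHom.ofInjective hinj).symm.trans iso⟩⟩
  rw [← Nat.card_congr (MonoidHom.ofInjective hinj).toEquiv, Nat.card_congr iso.toEquiv]
  exact UnitaryImageFields.card_PSU43 hF

end Cfsg.Agent.ThreeTransM24QuadGroup54
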