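import Cfsg.Agent.Lib.ThreeTransM24Quads54

/-!
# The group of the products of two members of a quadruple in type M(24)
-/

set_option autoImplicit false
set_option linter.unusedSectionVars false
set_option linter.style.haveILetI false

namespace Cfsg.Agent.ThreeTransM24QuadPairs54

open Subgroup Cfsg.Agent.ThreeTransRel Cfsg.Agent.ThreeTransDescent
open Cfsg.Agent.ThreeTransM24Quads54

variable {G : Type*} [Group G] [Finite G] {D : Set G} {z : G}

/-- The centralizer of `z` as a type. -/
abbrev Cz (z : G) : Type _ := ↥(centralizer ({z} : Set G))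

variable (W : Setup D z)
include W

theorem z_sq : z * z = 1 := by
  obtain ⟨l, hl, -, hp⟩ := W.base
  exact hp ▸ hl.prod_sq (ts W)

theorem z_ne : z ≠ 1 := by
  obtain ⟨l, hl, h4, hp⟩ := W.base
  match l, h4 with
  | [a, b, c, h], _ =>
    intro e
    have ha := hl.mem a (by simp)
    have h1 : [b, c, h].prod = [a].prod := by
      rw [List.prod_singleton]
      refine mul_left_cancel (a := a) ?_
      rw [(ts W).sq a ha]
      simpa [e] using hp
    have := ThreeTransM24Classes88.length_eq (W.ctx a ha) (l := [b, c, h]) (l' := [a])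
      (hl.sublist (List.sublist_cons_self _ _)) ⟨by simp [ha], by simp, by simp⟩ (by simp) (by simp) h1
    simp at this

theorem pair_clist {p : Quad D z} {a b : G} (ha : a ∈ p.1) (hb : b ∈ p.1) (hne : a ≠ b) :
    CList D [a, b] := by
  refine ⟨fun x hx => ?_, by simp [hne], fun x hx y hy => ?_⟩
  · simp only [List.mem_cons, List.not_mem_nil, or_false] at hx
    rcases hx with rfl | rfl
    exacts [(quad_mem W p.2 ha).1, (quad_mem W p.2 hb).1]
  · simp only [List.mem_cons, List.not_mem_nil, or_false] at hx hy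
    rcases hx with rfl | rfl <;> rcases hy with rfl | rfl <;> apply quad_comm W p.2 <;> assumption

/-- Equal products of two members give equal pairs. -/
theorem pair_eq {p r : Quad D z} {a b c e : G} (ha : a ∈ p.1) (hb : b ∈ p.1) (hne : a ≠ b)
    (hc : c ∈ r.1) (he : e ∈ r.1) (hne' : c ≠ e) (h : a * b = c * e) :
    (a = c ∨ a = e) ∧ (b = c ∨ b = e) := by
  have X := W.ctx a (quad_mem W p.2 ha).1
  have hu := ThreeTransPairs.pair_unique (ts W) X.prim (pair_clist W ha hb hne) rfl
    (pair_clist W hc he hne') rfl (by simpa using h)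
  exact ⟨by simpa using (hu a).mp (by simp), by simpa using (hu b).mp (by simp)⟩

/-- Two disjoint pairs of a quadruple have product `z`. -/
theorem other {p : Quad D z} {a b c e : G} (ha : a ∈ p.1) (hb : b ∈ p.1) (hc : c ∈ p.1) (he : e ∈ p.1)
    (hab : a ≠ b) (hce : c ≠ e) (hca : c ≠ a) (hcb : c ≠ b) (hea : e ≠ a) (heb : e ≠ b) :
    a * b * (c * e) = z := by
  classical
  obtain ⟨l, hl, h4, hp, hs⟩ := p.2
  have hsub : [a, b, c, e] ⊆ l := fun x hx => by
    have : x ∈ l.toFinset := by
      rw [hs]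
      simp only [List.mem_cons, List.not_mem_nil, or_false] at hx
      rcases hx with rfl | rfl | rfl | rfl <;> assumption
    exact List.mem_toFinset.mp this
  have hnd : [a, b, c, e].Nodup := by
    simp [hab, hce, hca.symm, hcb.symm, hea.symm, heb.symm]
  have hperm := ((List.subperm_of_subset hnd hsub).perm_of_length_le (by simp [h4])).symm
  rw [← hp, hl.prod_perm hperm]
  simp [mul_assoc]

/-- A pair of one quadruple moves every member of a quadruple not commuting with it. -/
theorem fpf {p r : Quad D z} (hpr : t W p r ≠ r) {a a' x : G} (ha : a ∈ p.1) (ha' : a' ∈ p.1)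
    (hne : a ≠ a') (hx : x ∈ r.1) : a * a' * x * (a * a')⁻¹ ≠ x := by
  have haD := (quad_mem W p.2 ha).1
  have ha'D := (quad_mem W p.2 ha').1
  have hxD := (quad_mem W r.2 hx).1
  have hn : ∀ {u : G}, u ∈ p.1 → ¬ Commute u x := fun hu e => hpr (t_fix_of_commute W hu hx e)
  intro e
  refine hne ?_
  rw [mul_inv_rev, (ts W).inv_self haD, (ts W).inv_self ha'D] at e
  have e2 : a' * x * a' = a * x * a := by
    calc a' * x * a' = (a * a) * (a' * x * a') * (a * a) := by
          rw [(ts W).sq a haD, one_mul, mul_one]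
      _ = a * (a * a' * x * (a' * a)) * a := by group
      _ = a * x * a := by rw [e]
  rw [(ts W).braid a' ha'D x hxD (hn ha'), (ts W).braid a haD x hxD (hn ha)] at e2
  exact (mul_left_cancel (mul_right_cancel e2)).symm

/-- A pair of one quadruple fixes a pair of another or moves it to the other two. -/
theorem conj_pair {p r : Quad D z} {a a' b b' : G} (ha : a ∈ p.1) (ha' : a' ∈ p.1) (hb : b ∈ r.1)
    (hb' : b' ∈ r.1) : a * a' * (b * b') * (a * a')⁻¹ = b * b' ∨
      a * a' * (b * b') * (a * a')⁻¹ = z * (b * b') := by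
  have hbD := (quad_mem W r.2 hb).1
  have hb'D := (quad_mem W r.2 hb').1
  rcases eq_or_ne b b' with rfl | hbb
  · left; rw [(ts W).sq b hbD, mul_one, mul_inv_cancel]
  rcases eq_or_ne a a' with rfl | haa
  · left; rw [(ts W).sq a (quad_mem W p.2 ha).1, one_mul, inv_one, mul_one]
  by_cases hpr : t W p r = r
  · left
    have hc : ∀ {u y : G}, u ∈ p.1 → y ∈ r.1 → Commute u y := fun hu hy =>
      commute_of_t_fix W hpr hu hy
    exact mul_inv_eq_iff_eq_mul.mpr
      (((hc ha hb).mul_right (hc ha hb')).mul_left ((hc ha' hb).mul_right (hc ha' hb'))).eq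
  set f := fun x => a * a' * x * (a * a')⁻¹ with hf
  have hmem : ∀ {x}, x ∈ r.1 → f x ∈ r.1 := fun hx => pair_fix W ha ha' r hx
  have haD := (quad_mem W p.2 ha).1
  have hinv : ∀ x, f (f x) = x := fun x => by
    have h2 : a * a' * (a * a') = 1 := by
      rw [(quad_comm W p.2 ha' ha).mul_mul_mul_comm, (ts W).sq a haD,
        (ts W).sq a' (quad_mem W p.2 ha').1, one_mul]
    show a * a' * (a * a' * x * (a * a')⁻¹) * (a * a')⁻¹ = x
    rw [inv_eq_of_mul_eq_one_right h2,
      show a * a' * (a * a' * x * (a * a')) * (a * a') = (a * a' * (a * a')) * x * (a * a' * (a * a')) by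
        group, h2, one_mul, mul_one]
  have hfm : f (b * b') = f b * f b' := by simp only [hf]; group
  show f (b * b') = _ ∨ f (b * b') = _
  rw [hfm]
  have h1 : f b ≠ b := fpf W hpr ha ha' haa hb
  have h2 : f b' ≠ b' := fpf W hpr ha ha' haa hb'
  by_cases h3 : f b = b'
  · left
    rw [show f b' = b from h3 ▸ hinv b, h3, (quad_comm W r.2 hb hb').eq]
  · right
    have h4 : f b' ≠ b := fun e => h3 (by rw [← e]; exact hinv b')
    have h5 : f b ≠ f b' := fun e => hbb (by rw [← hinv b, e, hinv b'])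
    have h6 := other W hb hb' (hmem hb) (hmem hb') hbb h5 h1 h3 h4 h2
    have h7 : b * b' * (b * b') = 1 := by
      rw [(quad_comm W r.2 hb' hb).mul_mul_mul_comm, (ts W).sq b hbD, (ts W).sq b' hb'D, one_mul]
    have hzc : Commute z (b * b') := (quad_mem W r.2 hb).2.symm.mul_right (quad_mem W r.2 hb').2.symm
    calc f b * f b' = (b * b' * (b * b')) * (f b * f b') := by rw [h7, one_mul]
      _ = (b * b') * (b * b' * (f b * f b')) := by group
      _ = z * (b * b') := by rw [h6, hzc.eq]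

/-- The products of two members of a quadruple. -/
def gens (_ : Setup D z) : Set (Cz z) :=
  {g | ∃ p : Quad D z, ∃ a ∈ p.1, ∃ b ∈ p.1, (g : G) = a * b}

/-- The group they generate. -/
def P : Subgroup (Cz z) := Subgroup.closure (gens W)

/-- The central involution. -/
def zc (_ : Setup D z) : (Cz z) := ⟨z, mem_centralizer_singleton_iff.mpr rfl⟩

theorem zc_central (g : (Cz z)) : g * zc W = zc W * g :=
  Subtype.ext (mem_centralizer_singleton_iff.mp g.2)

theorem zc_sq : zc W * zc W = 1 := Subtype.ext (z_sq W)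

theorem zc_ne : zc W ≠ 1 := fun e => z_ne W (congrArg Subtype.val e)

theorem mem_zc {g : (Cz z)} (h : g ∈ zpowers (zc W)) : g = 1 ∨ g = zc W :=
  ThreeTransM22Cent72.mem_zpowers_two
    (orderOf_eq_prime (by rw [pow_two]; exact zc_sq W) (zc_ne W)) h

instance zc_normal : (zpowers (zc W)).Normal := by
  refine ⟨fun n hn g => ?_⟩
  rcases mem_zc W hn with rfl | rfl
  · rw [mul_one, mul_inv_cancel]; exact one_mem _
  · rw [zc_central W g, mul_inv_cancel_right]; exact mem_zpowers _

theorem gen_mem {p : Quad D z} {a b : G} (ha : a ∈ p.1) (hb : b ∈ p.1) :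
    ∃ hg : a * b ∈ centralizer ({z} : Set G), (⟨a * b, hg⟩ : (Cz z)) ∈ gens W :=
  ⟨mem_cz W ((quad_mem W p.2 ha).2.mul_left (quad_mem W p.2 hb).2), p, a, ha, b, hb, rfl⟩

theorem zc_mem : zc W ∈ P W := by
  obtain ⟨l, hl, h4, hp⟩ := W.base
  match l, h4 with
  | [a, b, c, h], _ =>
    classical
    have hq : IsQuad D z [a, b, c, h].toFinset := ⟨_, hl, rfl, hp, rfl⟩
    obtain ⟨h1, g1⟩ := gen_mem W (p := ⟨_, hq⟩) (a := a) (b := b) (by simp) (by simp)
    obtain ⟨h2, g2⟩ := gen_mem W (p := ⟨_, hq⟩) (a := c) (b := h) (by simp) (by simp)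
    rw [show zc W = ⟨a * b, h1⟩ * ⟨c * h, h2⟩ from Subtype.ext (by
      show z = a * b * (c * h)
      simpa [mul_assoc] using hp.symm)]
    exact mul_mem (subset_closure g1) (subset_closure g2)

instance P_normal : (P W).Normal := by
  refine ⟨fun n hn g => ?_⟩
  have h : (P W).map (MulAut.conj g).toMonoidHom ≤ P W := by
    rw [P, MonoidHom.map_closure]
    refine closure_mono ?_
    rintro _ ⟨y, ⟨p, a, ha, b, hb, e⟩, rfl⟩
    refine ⟨rho W g p, _, mem_rho W ha, _, mem_rho W hb, ?_⟩
    show (g : G) * (y : G) * (g : G)⁻¹ = _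
    rw [e]; group
  exact h (mem_map_of_mem _ hn)

theorem gens_comm {g k : (Cz z)} (hg : g ∈ gens W) (hk : k ∈ gens W) :
    (QuotientGroup.mk g : (Cz z) ⧸ zpowers (zc W)) * QuotientGroup.mk k =
      QuotientGroup.mk k * QuotientGroup.mk g := by
  obtain ⟨p, a, ha, a', ha', eg⟩ := hg
  obtain ⟨r, b, hb, b', hb', ek⟩ := hk
  rw [← mul_inv_eq_iff_eq_mul, ← QuotientGroup.mk_mul, ← QuotientGroup.mk_inv, ← QuotientGroup.mk_mul]
  have h := conj_pair W ha ha' hb hb'
  rw [← eg, ← ek] at h
  rcases h with h | h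
  · rw [show g * k * g⁻¹ = k from Subtype.ext h]
  · rw [show g * k * g⁻¹ = zc W * k from Subtype.ext h, QuotientGroup.mk_mul,
      (QuotientGroup.eq_one_iff _).mpr (mem_zpowers _), one_mul]

theorem gens_sq {g : (Cz z)} (hg : g ∈ gens W) : g * g = 1 := by
  obtain ⟨p, a, ha, b, hb, e⟩ := hg
  refine Subtype.ext ?_
  show (g : G) * g = 1
  rw [e, (quad_comm W p.2 hb ha).mul_mul_mul_comm, (ts W).sq a (quad_mem W p.2 ha).1,
    (ts W).sq b (quad_mem W p.2 hb).1, one_mul]

theorem P_structure {g k : (Cz z)} (hg : g ∈ P W) (hk : k ∈ P W) :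
    (g * k * g⁻¹ = k ∨ g * k * g⁻¹ = zc W * k) ∧ (g * g = 1 ∨ g * g = zc W) := by
  let π := QuotientGroup.mk' (zpowers (zc W))
  have hcom : ∀ u ∈ π '' gens W, ∀ v ∈ π '' gens W, u * v = v * u := by
    rintro _ ⟨u, hu, rfl⟩ _ ⟨v, hv, rfl⟩
    exact gens_comm W hu hv
  have hmap : ∀ {x : (Cz z)}, x ∈ P W → π x ∈ Subgroup.closure (π '' gens W) := fun {x} hx => by
    rw [← MonoidHom.map_closure]; exact mem_map_of_mem _ hx
  have hc : ∀ {x y : (Cz z)}, x ∈ P W → y ∈ P W → π x * π y = π y * π x := fun {x y} hx hy =>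
    congrArg Subtype.val ((isMulCommutative_closure hcom).is_comm.comm ⟨_, hmap hx⟩ ⟨_, hmap hy⟩)
  constructor
  · have h1 : π (g * k * g⁻¹ * k⁻¹) = 1 := by
      rw [map_mul, map_mul, map_mul, map_inv, map_inv, hc hg hk]; group
    have h2 := mem_zc W ((QuotientGroup.eq_one_iff _).mp h1)
    exact h2.imp (fun e => mul_inv_eq_one.mp e) fun e => mul_inv_eq_iff_eq_mul.mp e
  · refine mem_zc W ((QuotientGroup.eq_one_iff _).mp ?_)
    show π (g * g) = 1
    induction hg using Subgroup.closure_induction with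
    | mem x hx => rw [gens_sq W hx, map_one]
    | one => rw [mul_one, map_one]
    | mul x y hx hy ihx ihy =>
      rw [map_mul] at ihx ihy ⊢
      rw [map_mul, show π x * π y * (π x * π y) = π x * (π y * π x) * π y by group, ← hc hx hy,
        show π x * (π x * π y) * π y = (π x * π x) * (π y * π y) by group, ihx, ihy, one_mul]
    | inv x _ ih => rw [← mul_inv_rev, map_inv, ih, inv_one]

theorem P_isPGroup : IsPGroup 2 ↥(P W) := fun g => ⟨2, Subtype.ext (by
  have h := (P_structure W g.2 g.2).2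
  show (g : (Cz z)) ^ 4 = 1
  rw [show (g : (Cz z)) ^ 4 = ((g : (Cz z)) * g) * ((g : (Cz z)) * g) by
    rw [pow_succ, pow_succ, pow_two, mul_assoc]]
  rcases h with h | h <;> rw [h]
  · exact one_mul 1
  · exact zc_sq W)⟩

theorem P_le_ker : P W ≤ (rho W).ker := by
  rw [P, closure_le]
  rintro g ⟨p, a, ha, b, hb, e⟩
  show rho W g = 1
  have ga : a ∈ centralizer ({z} : Set G) := mem_cz W (quad_mem W p.2 ha).2
  have gb : b ∈ centralizer ({z} : Set G) := mem_cz W (quad_mem W p.2 hb).2
  rw [show g = (⟨a, ga⟩ : (Cz z)) * ⟨b, gb⟩ from Subtype.ext e, map_mul, rho_member W (a := ⟨a, ga⟩) ha,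
    rho_member W (a := ⟨b, gb⟩) hb, t_invol W]

open Classical in
/-- The commutator with an element is additive. -/
theorem delta_add {g k h : (Cz z)} (hgP : g ∈ P W) (hkP : k ∈ P W) (hhP : h ∈ P W) :
    (if Commute (g * k) h then (0 : ZMod 2) else 1) =
      (if Commute g h then 0 else 1) + (if Commute k h then 0 else 1) := by
  have hg := (P_structure W hgP hhP).1
  have hk := (P_structure W hkP hhP).1
  have hiff : ∀ y : (Cz z), Commute y h ↔ y * h * y⁻¹ = h := fun y =>
    ⟨fun e => mul_inv_eq_iff_eq_mul.mpr e.eq, fun e => mul_inv_eq_iff_eq_mul.mp e⟩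
  have hzh : zc W * h ≠ h := fun e => zc_ne W (mul_eq_right.mp e)
  have e : g * k * h * (g * k)⁻¹ = g * (k * h * k⁻¹) * g⁻¹ := by group
  have hcomm : g * (zc W * h) * g⁻¹ = zc W * (g * h * g⁻¹) := by
    rw [← mul_assoc g, zc_central W]; group
  simp only [hiff, e]
  rcases hk with hk | hk <;> rcases hg with hg | hg <;> rw [hk]
  · simp [hg]
  · simp [hg, hzh]
  · rw [hcomm, hg]; simp [hzh]
  · rw [hcomm, hg, ← mul_assoc, zc_sq W, one_mul]
    simp [hzh, show (1 : ZMod 2) + 1 = 0 from by decide]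

/-- A symplectic basis inside the group: six quadruples commuting except in three pairs. -/
theorem card_P_ge (Qd : Fin 3 → Bool → Quad D z)
    (hno : ∀ i, t W (Qd i false) (Qd i true) ≠ Qd i true)
    (hyes : ∀ i j, i ≠ j → ∀ e f, t W (Qd i e) (Qd j f) = Qd j f) :
    2 ^ 13 ≤ Nat.card ↥(P W) := by
  classical
  have key : ∀ i, ∃ x : Bool → Bool → (Cz z), (∀ e k, x e k ∈ gens W) ∧
      (∀ e k, ∃ a ∈ (Qd i e).1, ∃ b ∈ (Qd i e).1, (x e k : G) = a * b) ∧
      ∀ k l, Commute (x false k) (x true l) ↔ k ≠ l := by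
    intro i
    set p := Qd i false
    set r := Qd i true
    have hpr : t W p r ≠ r := hno i
    obtain ⟨a, b, c, h, hl, -, hm⟩ := quad_list W p.2
    obtain ⟨b₀, hb₀⟩ := quad_nonempty W r
    have ha : a ∈ p.1 := (hm a).mpr (by simp)
    have hb : b ∈ p.1 := (hm b).mpr (by simp)
    have hc : c ∈ p.1 := (hm c).mpr (by simp)
    have hnd := hl.nodup
    simp only [List.nodup_cons, List.mem_cons, List.not_mem_nil, or_false, not_or, List.nodup_nil,
      and_true, not_false_eq_true] at hnd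
    obtain ⟨⟨hab, hac, -⟩, ⟨hbc, -⟩, -⟩ := hnd
    set b₁ := a * b * b₀ * (a * b)⁻¹ with hb₁d
    set b₂ := a * c * b₀ * (a * c)⁻¹ with hb₂d
    have hb₁ : b₁ ∈ r.1 := pair_fix W ha hb r hb₀
    have hb₂ : b₂ ∈ r.1 := pair_fix W ha hc r hb₀
    have n1 : b₁ ≠ b₀ := fpf W hpr ha hb hab hb₀
    have n2 : b₂ ≠ b₀ := fpf W hpr ha hc hac hb₀
    have haD := (quad_mem W p.2 ha).1
    have n12 : b₁ ≠ b₂ := by
      intro e
      refine fpf W hpr hb hc hbc hb₀ ?_
      have ecb : b * c = (a * c)⁻¹ * (a * b) := by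
        rw [mul_inv_rev, (ts W).inv_self (quad_mem W p.2 hc).1, (ts W).inv_self haD,
          mul_assoc c a (a * b), ← mul_assoc a a b, (ts W).sq a haD, one_mul]
        exact (quad_comm W p.2 hb hc).eq
      rw [ecb, show (a * c)⁻¹ * (a * b) * b₀ * ((a * c)⁻¹ * (a * b))⁻¹ =
        (a * c)⁻¹ * (a * b * b₀ * (a * b)⁻¹) * (a * c) by group, ← hb₁d, e, hb₂d]
      group
    have sw : ∀ {u v : G}, u ∈ p.1 → v ∈ p.1 → Commute (u * v) (b₀ * (u * v * b₀ * (u * v)⁻¹)) := by
      intro u v hu hv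
      have hsq : u * v * (u * v) = 1 := by
        rw [(quad_comm W p.2 hv hu).mul_mul_mul_comm, (ts W).sq u (quad_mem W p.2 hu).1,
          (ts W).sq v (quad_mem W p.2 hv).1, one_mul]
      set g := u * v
      set b' := g * b₀ * g⁻¹ with hb'
      have hcomm : Commute b' b₀ := quad_comm W r.2 (pair_fix W hu hv r hb₀) hb₀
      refine mul_inv_eq_iff_eq_mul.mp ?_
      have hgg : g⁻¹ = g := inv_eq_of_mul_eq_one_right hsq
      have h1 : g * b' * g⁻¹ = b₀ := by
        rw [hb', hgg, show g * (g * b₀ * g) * g = (g * g) * b₀ * (g * g) by group, hsq, one_mul, mul_one]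
      rw [show g * (b₀ * b') * g⁻¹ = (g * b₀ * g⁻¹) * (g * b' * g⁻¹) by group, h1, ← hb', hcomm.eq]
    have nc : ∀ {u v w : G}, u ∈ p.1 → v ∈ p.1 → u ≠ v → w ∈ r.1 → w ≠ b₀ →
        u * v * b₀ * (u * v)⁻¹ ≠ w → ¬ Commute (u * v) (b₀ * w) := by
      intro u v w hu hv huv hw hw0 hne hcom
      have e : u * v * b₀ * (u * v)⁻¹ * (u * v * w * (u * v)⁻¹) = b₀ * w := by
        rw [show u * v * b₀ * (u * v)⁻¹ * (u * v * w * (u * v)⁻¹) = u * v * (b₀ * w) * (u * v)⁻¹ by
          group]
        exact mul_inv_eq_iff_eq_mul.mpr hcom.eq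
      rcases (pair_eq W (pair_fix W hu hv r hb₀) (pair_fix W hu hv r hw)
        (fun h' => hw0 (mul_left_cancel (mul_right_cancel h')).symm) hb₀ hw hw0.symm e).1 with h' | h'
      · exact fpf W hpr hu hv huv hb₀ h'
      · exact hne h'
    refine ⟨fun e k => cond e
      (cond k (⟨b₀ * b₁, (gen_mem W hb₀ hb₁).1⟩) ⟨b₀ * b₂, (gen_mem W hb₀ hb₂).1⟩)
      (cond k (⟨a * c, (gen_mem W ha hc).1⟩) ⟨a * b, (gen_mem W ha hb).1⟩), fun e k => ?_,
      fun e k => ?_, fun k l => ?_⟩
    · cases e <;> cases k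
      exacts [(gen_mem W ha hb).2, (gen_mem W ha hc).2, (gen_mem W hb₀ hb₂).2, (gen_mem W hb₀ hb₁).2]
    · cases e <;> cases k
      exacts [⟨a, ha, b, hb, rfl⟩, ⟨a, ha, c, hc, rfl⟩, ⟨b₀, hb₀, b₂, hb₂, rfl⟩,
        ⟨b₀, hb₀, b₁, hb₁, rfl⟩]
    · have cv : ∀ {x y : (Cz z)}, Commute x y ↔ Commute (x : G) (y : G) := fun {x y} =>
        ⟨fun h => congrArg Subtype.val h.eq, fun h => Subtype.ext h.eq⟩
      rw [cv]
      cases k <;> cases l <;> simp only [cond, ne_eq, not_true_eq_false, iff_false, Bool.false_eq_true,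
        Bool.true_eq_false, not_false_eq_true, iff_true]
      exacts [nc ha hb hab hb₂ n2 n12, sw ha hb, sw ha hc, nc ha hc hac hb₁ n1 n12.symm]
  choose x hx hxm hxc using key
  let J := Fin 3 × Bool × Bool
  let el : J → (Cz z) := fun j => x j.1 j.2.1 j.2.2
  let pr : J → J := fun j => (j.1, !j.2.1, j.2.2)
  have hel : ∀ j, el j ∈ P W := fun j => subset_closure (hx _ _ _)
  have hcomm : ∀ j j' : J, Commute (el j) (el (pr j')) ↔ j ≠ j' := by
    rintro ⟨i, e, k⟩ ⟨i', e', k'⟩
    obtain ⟨a, ha, a', ha', ea⟩ := hxm i e k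
    obtain ⟨b, hb, b', hb', eb⟩ := hxm i' (!e') k'
    have cv : ∀ {u v : G}, (∀ s ∈ [a, a'], ∀ s' ∈ [b, b'], Commute s s') →
        Commute (el (i, e, k)) (el (pr (i', e', k'))) := fun h => Subtype.ext (by
      show (x i e k : G) * (x i' (!e') k') = (x i' (!e') k') * (x i e k)
      rw [ea, eb]
      exact (((h a (by simp) b (by simp)).mul_right (h a (by simp) b' (by simp))).mul_left
        ((h a' (by simp) b (by simp)).mul_right (h a' (by simp) b' (by simp)))).eq)
    by_cases hi : i = i'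
    · subst hi
      by_cases he : e = e'
      · subst he
        cases e
        · simpa [el, pr, J] using hxc i k k'
        · simp only [el, pr, Bool.not_true, ne_eq, Prod.mk.injEq, true_and]
          rw [Commute.symm_iff, hxc i k' k]
          simp [J, Prod.ext_iff, eq_comm]
      · refine iff_of_true (cv (u := a) (v := a) fun s hs s' hs' => ?_) (by simp [J, he])
        have ee : (!e') = e := by cases e <;> cases e' <;> simp_all
        rw [ee] at hb hb'
        simp only [List.mem_cons, List.not_mem_nil, or_false] at hs hs'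
        rcases hs with rfl | rfl <;> rcases hs' with rfl | rfl <;>
          apply quad_comm W (Qd i e).2 <;> assumption
    · refine iff_of_true (cv (u := a) (v := a) fun s hs s' hs' => ?_) (by simp [J, hi])
      simp only [List.mem_cons, List.not_mem_nil, or_false] at hs hs'
      rcases hs with rfl | rfl <;> rcases hs' with rfl | rfl <;>
        exact commute_of_t_fix W (hyes i i' hi e (!e')) (by assumption) (by assumption)
  let χ : ↥(P W) →* Multiplicative (J → ZMod 2) := MonoidHom.mk'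
    (fun g => Multiplicative.ofAdd fun j => if Commute (g : (Cz z)) (el (pr j)) then 0 else 1) (by
      intro g k
      show Multiplicative.ofAdd _ = Multiplicative.ofAdd (_ + _)
      refine congrArg _ (funext fun j => ?_)
      exact delta_add W g.2 k.2 (hel (pr j)))
  have hsurj : Function.Surjective χ := by
    have hsingle : ∀ j, χ ⟨el j, hel j⟩ = Multiplicative.ofAdd (Pi.single j 1) := fun j => by
      refine congrArg Multiplicative.ofAdd (funext fun j' => ?_)
      show (if Commute (el j) (el (pr j')) then 0 else 1) = _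
      rw [Pi.single_apply]
      by_cases h : j = j'
      · subst h; simp [hcomm]
      · simp [hcomm, h, Ne.symm h]
    intro f
    have hf : f = ∏ j, Multiplicative.ofAdd (Pi.single j (Multiplicative.toAdd f j)) := by
      refine Multiplicative.toAdd.injective ?_
      rw [toAdd_prod]
      simp only [toAdd_ofAdd]
      exact (Finset.univ_sum_single _).symm
    show f ∈ χ.range
    rw [hf]
    refine prod_mem fun j _ => ?_
    rcases (show ∀ y : ZMod 2, y = 0 ∨ y = 1 by decide) (Multiplicative.toAdd f j) with h | h <;> rw [h]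
    · rw [Pi.single_zero]; exact one_mem χ.range
    · exact ⟨_, hsingle j⟩
  have hker : (⟨zc W, zc_mem W⟩ : ↥(P W)) ∈ χ.ker := by
    refine congrArg Multiplicative.ofAdd (funext fun j => ?_)
    exact if_pos (zc_central W _).symm
  have h1 := χ.ker.index_mul_card
  rw [Subgroup.index_ker, MonoidHom.range_eq_top.mpr hsurj, Subgroup.card_top] at h1
  have h2 : 1 < Nat.card ↥χ.ker :=
    Finite.one_lt_card_iff_nontrivial.mpr ⟨⟨⟨_, hker⟩, 1, fun e =>
      zc_ne W (congrArg (fun y : ↥χ.ker => ((y : ↥(P W)) : (Cz z))) e)⟩⟩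
  have h3 : Nat.card (Multiplicative (J → ZMod 2)) = 4096 := by
    rw [Nat.card_congr Multiplicative.toAdd]
    simp [J, Nat.card_fun]
  rw [h3] at h1
  omega

/-- An element commuting with all pairs fixes all members. -/
theorem fix_of_centralizer {g : (Cz z)} (hg : g ∈ centralizer (gens W)) {p : Quad D z} {x : G}
    (hx : x ∈ p.1) : Commute (g : G) x := by
  obtain ⟨b, c, h, hl, -, hm⟩ := quad_head W p.2 hx
  have hb : b ∈ p.1 := (hm b).mpr (by simp)
  have hc : c ∈ p.1 := (hm c).mpr (by simp)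
  have hnd := hl.nodup
  simp only [List.nodup_cons, List.mem_cons, List.not_mem_nil, or_false, not_or] at hnd
  have key : ∀ {u : G}, u ∈ p.1 → x ≠ u →
      (g : G) * x * (g : G)⁻¹ = x ∨ (g : G) * x * (g : G)⁻¹ = u := by
    intro u hu hxu
    obtain ⟨hm', hgen⟩ := gen_mem W hx hu
    have h1 : (x * u) * g = g * (x * u) :=
      congrArg Subtype.val (mem_centralizer_iff.mp hg _ hgen)
    refine (pair_eq W (mem_rho W (g := g) hx) (mem_rho W (g := g) hu)
      (fun e => hxu (mul_left_cancel (mul_right_cancel e))) hx hu hxu ?_).1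
    rw [show (g : G) * x * (g : G)⁻¹ * ((g : G) * u * (g : G)⁻¹) = g * (x * u) * (g : G)⁻¹ by group,
      ← h1, mul_inv_cancel_right]
  refine mul_inv_eq_iff_eq_mul.mp ?_
  rcases key hb hnd.1.1 with e | e
  · exact e
  rcases key hc hnd.1.2.1 with e' | e'
  · exact e'
  · exact absurd (e.symm.trans e') hnd.2.1.1

/-- The centralizer of the group is the centre. -/
theorem centralizer_P {q p : Quad D z} {a b c h : G} (hl : CList D [a, b, c, h])
    (hp : a * b * c * h = z) (hm : ∀ y, y ∈ q.1 ↔ y = a ∨ y = b ∨ y = c ∨ y = h) (hqp : t W q p ≠ p)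
    (hcent : ∀ g : G, g ∈ centralizer ({a, b, c, h} : Set G) →
      (∀ x ∈ near D a ∩ near D b ∩ near D c ∩ near D h, Commute g x) →
      ∃ pa pb pc ph : G, (pa = 1 ∨ pa = a) ∧ (pb = 1 ∨ pb = b) ∧ (pc = 1 ∨ pc = c) ∧
        (ph = 1 ∨ ph = h) ∧ g = pa * pb * pc * ph)
    {g : (Cz z)} (hg : g ∈ centralizer (P W : Set (Cz z))) : g = 1 ∨ g = zc W := by
  have hg' : g ∈ centralizer (gens W) := centralizer_le Subgroup.subset_closure hg
  have hfix := fun {r : Quad D z} {x : G} (hx : x ∈ r.1) => fix_of_centralizer W hg' hx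
  have ma : a ∈ q.1 := (hm a).mpr (by simp)
  have mb : b ∈ q.1 := (hm b).mpr (by simp)
  have mc : c ∈ q.1 := (hm c).mpr (by simp)
  have mh : h ∈ q.1 := (hm h).mpr (by simp)
  obtain ⟨pa, pb, pc, ph, hpa, hpb, hpc, hph, e⟩ := hcent (g : G)
    (mem_centralizer_iff.mpr fun y hy => by
      rcases hy with rfl | rfl | rfl | rfl
      exacts [(hfix ma).symm.eq, (hfix mb).symm.eq, (hfix mc).symm.eq, (hfix mh).symm.eq])
    fun x hx => by
      have hxz : Commute x z := hp ▸ ((hx.1.1.1.2.2.symm.mul_right hx.1.1.2.2.2.symm).mul_right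
        hx.1.2.2.2.symm).mul_right hx.2.2.2.symm
      obtain ⟨s, hs, hxs⟩ := exists_quad W hx.1.1.1.1 hxz
      exact hfix (r := ⟨s, hs⟩) hxs
  obtain ⟨x, hx⟩ := quad_nonempty W p
  have hgx : Commute (g : G) x := hfix hx
  have hzx : Commute z x := (quad_mem W p.2 hx).2.symm
  have one : ∀ {u : G}, u ∈ q.1 → ¬ Commute u x := fun hu e' => hqp (t_fix_of_commute W hu hx e')
  have two : ∀ {u v : G}, u ∈ q.1 → v ∈ q.1 → u ≠ v → ¬ Commute (u * v) x := fun hu hv hne e' =>
    fpf W hqp hu hv hne hx (mul_inv_eq_iff_eq_mul.mpr e'.eq)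
  have sq : ∀ {u : G}, u ∈ q.1 → u * u = 1 := fun hu => (ts W).sq _ (quad_mem W q.2 hu).1
  have cm : ∀ {u v : G}, u ∈ q.1 → v ∈ q.1 → u * v = v * u := fun hu hv => (quad_comm W q.2 hu hv).eq
  have three : ∀ {u : G}, u ∈ q.1 → ¬ Commute (z * u) x := fun {u} hu e' => one hu (by
    have h1 := hzx.mul_left e'
    rwa [← mul_assoc, z_sq W, one_mul] at h1)
  have hnd := hl.nodup
  simp only [List.nodup_cons, List.mem_cons, List.not_mem_nil, or_false, not_or] at hnd
  obtain ⟨⟨hab, hac, hah⟩, ⟨hbc, hbh⟩, hch, -⟩ := hnd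
  have e3 : a * b * c = z * h := by rw [← hp, mul_assoc _ h h, sq mh, mul_one]
  have e2 : a * b * h = z * c := by
    rw [← hp, mul_assoc (a * b * c), cm mh mc, ← mul_assoc, mul_assoc (a * b) c c, sq mc, mul_one]
  have e1 : a * c * h = z * b := by
    rw [← hp, mul_assoc a b c, cm mb mc, ← mul_assoc, mul_assoc (a * c), cm mb mh, ← mul_assoc,
      mul_assoc (a * c * h), sq mb, mul_one]
  have e0 : b * c * h = z * a := by
    have hz : z * a = a * z := ((quad_mem W q.2 ma).2).symm.eq
    rw [hz, ← hp, ← mul_assoc, ← mul_assoc, ← mul_assoc, sq ma, one_mul]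
  rw [e] at hgx
  rcases hpa with rfl | rfl <;> rcases hpb with rfl | rfl <;> rcases hpc with rfl | rfl <;>
    rcases hph with rfl | rfl <;> simp (config := { failIfUnchanged := false }) only [one_mul, mul_one] at hgx e
  · exact Or.inl (Subtype.ext e)
  · exact absurd hgx (one mh)
  · exact absurd hgx (one mc)
  · exact absurd hgx (two mc mh hch)
  · exact absurd hgx (one mb)
  · exact absurd hgx (two mb mh hbh)
  · exact absurd hgx (two mb mc hbc)
  · exact absurd (e0 ▸ hgx) (three ma)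
  · exact absurd hgx (one ma)
  · exact absurd hgx (two ma mh hah)
  · exact absurd hgx (two ma mc hac)
  · exact absurd (e1 ▸ hgx) (three mb)
  · exact absurd hgx (two ma mb hab)
  · exact absurd (e2 ▸ hgx) (three mc)
  · exact absurd (e3 ▸ hgx) (three mh)
  · exact Or.inr (Subtype.ext (e.trans hp))

end Cfsg.Agent.ThreeTransM24QuadPairs54
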