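import Cfsg.Agent.Lib.ThreeTransM24QuadLocal54
import Cfsg.Agent.Lib.ThreeTransM24QuadPairs54

/-!
# The kernel of the action on the quadruples in type M(24)

The centralizer of `z` has order `2^22 · 3^7 · 35`, the kernel of its action on the 126 quadruples has order
`3 · 2^13` and contains the group of the pairs, whose centralizer is the group of `z`.
-/

set_option autoImplicit false
set_option linter.unusedSectionVars false
set_option linter.style.haveILetI false
set_option maxRecDepth 100000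

namespace Cfsg.Agent.ThreeTransM24QuadKernel54

open Subgroup Cfsg.Agent.ThreeTransRel Cfsg.Agent.ThreeTransDescent
open Cfsg.Agent.ThreeTransM24Quads54 Cfsg.Agent.ThreeTransM24QuadPairs54
open Cfsg.Agent.ThreeTransM24QuadSpace54 Cfsg.Agent.ThreeTransM24QuadLocal54

section abstract

variable {Ω : Type*} [Fintype Ω] [DecidableEq Ω] {t : Ω → Equiv.Perm Ω} {q : Ω} {ι : ℕ → Ω}
variable (S : Space t q ι)
include S

theorem frame_cases {x : Ω} (hx : HasFrame t q ι x 0) {y : Ω} (hy : HasFrame t q ι y 0) :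
    y = x ∨ y = t q x := by
  have hinj : Function.Injective fun d : Fin 126 => pd t q ι x d := fun d d' e =>
    Fin.ext (pd_injective S hx d.2 d'.2 e)
  obtain ⟨⟨d, hd⟩, rfl⟩ := ((Fintype.bijective_iff_injective_and_card _).mpr
    ⟨hinj, by rw [Fintype.card_fin, S.card]⟩).2 y
  simp only at hy ⊢
  rcases pd_cases (x := x) hd with ⟨-, e⟩ | ⟨u, hu, -, e⟩ | ⟨k, hk, b, -, e⟩ <;> rw [e] at hy ⊢
  · exact absurd (S.fix q) hy.1
  · exact absurd (iota_fix S hu).1 hy.1
  · obtain rfl : k = 0 := frame_inj hk (by norm_num) fun v hv => by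
      have h1 := (pf_frame S hx hk b).2 v hv
      exact Bool.eq_iff_iff.mpr (h1.trans (hy.2 v hv).symm)
    have h0 : lab t ι x 8 0 = x := rfl
    cases b
    · exact Or.inl h0
    · exact Or.inr (congrArg (t q) h0)

/-- An automorphism fixing a point and its neighbours. -/
theorem fix_all {π : Equiv.Perm Ω} (hπ : ∀ p, t (π p) = π * t p * π⁻¹) (hq : π q = q)
    (hι : ∀ u < 45, π (ι u) = ι u) : π = 1 ∨ π = t q := by
  obtain ⟨x, hx⟩ := exists_root S
  have gen : ∀ σ : Equiv.Perm Ω, (∀ p, t (σ p) = σ * t p * σ⁻¹) → σ q = q →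
      (∀ u < 45, σ (ι u) = ι u) → σ x = x → σ = 1 := by
    intro σ hσ hσq hσι hσx
    have hc : ∀ p, σ p = p → ∀ y, σ (t p y) = t p (σ y) := fun p hp y => by
      have h := hσ p
      rw [hp] at h
      conv_rhs => rw [h]
      simp
    have hlab : ∀ n k, k < 40 → σ (lab t ι x n k) = lab t ι x n k := by
      intro n
      induction n with
      | zero => intro k _; exact hσx
      | succ n ih =>
        intro k hk
        obtain ⟨-, h1, h2, -⟩ := tree_spec S hk
        cases hk0 : Nat.beq k 0 with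
        | true => rw [lab, hk0, cond_true]; exact hσx
        | false => rw [lab, hk0, cond_false, hc _ (hσι _ h2), ih _ h1]
    have hinj : Function.Injective fun d : Fin 126 => pd t q ι x d := fun d d' e =>
      Fin.ext (pd_injective S hx d.2 d'.2 e)
    refine Equiv.ext fun y => ?_
    obtain ⟨⟨d, hd⟩, rfl⟩ := ((Fintype.bijective_iff_injective_and_card _).mpr
      ⟨hinj, by rw [Fintype.card_fin, S.card]⟩).2 y
    simp only [Equiv.Perm.one_apply]
    rcases pd_cases (x := x) hd with ⟨-, e⟩ | ⟨u, hu, -, e⟩ | ⟨k, hk, b, -, e⟩ <;> rw [e]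
    · exact hσq
    · exact hσι u hu
    · cases b
      · exact hlab 8 k hk
      · show σ (t q _) = t q _
        rw [hc q hσq, hlab 8 k hk]
  have hy : HasFrame t q ι (π x) 0 := by
    refine ⟨fun e => hx.1 ?_, fun u hu => (hx.2 u hu).trans ?_⟩
    · have h := hπ q
      rw [hq] at h
      refine π.injective ?_
      rw [h] at e
      simpa using e
    · show t x (ι u) = ι u ↔ t (π x) (ι u) = ι u
      rw [hπ, Equiv.Perm.mul_apply, Equiv.Perm.mul_apply,
        show π⁻¹ (ι u) = ι u by rw [Equiv.Perm.inv_eq_iff_eq, hι u hu]]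
      exact ⟨fun e => by rw [e, hι u hu], fun e => π.injective (e.trans (hι u hu).symm)⟩
  rcases frame_cases S hx hy with e | e
  · exact Or.inl (gen π hπ hq hι e)
  · right
    have h := gen (t q * π) (fun p => by
      rw [Equiv.Perm.mul_apply, S.conj, hπ, mul_inv_rev, inv_t S]; group)
      (by rw [Equiv.Perm.mul_apply, hq, S.fix])
      (fun u hu => by rw [Equiv.Perm.mul_apply, hι u hu, (iota_fix S hu).1])
      (by rw [Equiv.Perm.mul_apply, e, invol_apply S])
    rw [← inv_t S q]
    exact eq_inv_of_mul_eq_one_right h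

/-- Six points commuting except in three pairs. -/
theorem six_points : ∃ Qd : Fin 3 → Bool → Ω, (∀ i, t (Qd i false) (Qd i true) ≠ Qd i true) ∧
    ∀ i j, i ≠ j → ∀ e f, t (Qd i e) (Qd j f) = Qd j f := by
  obtain ⟨e, he⟩ := exists_model S
  let n : Fin 3 → Bool → Fin 126 := fun i b => (![![0, 15], ![1, 17], ![10, 31]] i) (bif b then 1 else 0)
  have h1 : ∀ i, ThreeTransM24QuadTables54.T (n i false) (n i true) ≠ (n i true : ℕ) := by
    decide +kernel
  have h2 : ∀ i j, i ≠ j → ∀ u v, ThreeTransM24QuadTables54.T (n i u) (n j v) = (n j v : ℕ) := by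
    decide +kernel
  refine ⟨fun i b => e (n i b), fun i hcon => h1 i ?_, fun i j hij u v => ?_⟩
  · rw [← he, hcon, Equiv.symm_apply_apply]
  · apply e.symm.injective
    rw [Equiv.symm_apply_apply]
    exact Fin.ext ((he _ _).trans (h2 i j hij u v))

end abstract

variable {G : Type*} [Group G] [Finite G] {D : Set G} {z : G} {a b c h : G}

/-- The order of the centralizer of four commuting members. -/
theorem card_C4 (hX : ∀ s ∈ D, ThreeTransM24Base88.Ctx D s) (hl : CList D [a, b, c, h]) :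
    Nat.card ↥(C4 a b c h) = 2 ^ 12 * 25920 := by
  have X := hX a (hl.mem a (by simp))
  have H := ThreeTransM24Local88.hyp X
  have ht := ThreeTransM24Pair88.ts X
  have hnd := hl.nodup
  simp only [List.nodup_cons, List.mem_cons, List.not_mem_nil, or_false, not_or, List.nodup_nil,
    and_true, not_false_eq_true] at hnd
  obtain ⟨⟨hab, hac, hah⟩, ⟨hbc, hbh⟩, hch⟩ := hnd
  have hb : b ∈ near D a := ⟨hl.mem b (by simp), Ne.symm hab, hl.comm a (by simp) b (by simp)⟩
  have hca : c ∈ near D a := ⟨hl.mem c (by simp), Ne.symm hac, hl.comm a (by simp) c (by simp)⟩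
  have hcb : c ∈ near D b := ⟨hl.mem c (by simp), Ne.symm hbc, hl.comm b (by simp) c (by simp)⟩
  have hha : h ∈ near D a := ⟨hl.mem h (by simp), Ne.symm hah, hl.comm a (by simp) h (by simp)⟩
  have hhb : h ∈ near D b := ⟨hl.mem h (by simp), Ne.symm hbh, hl.comm b (by simp) h (by simp)⟩
  have hhc : h ∈ near D c := ⟨hl.mem h (by simp), Ne.symm hch, hl.comm c (by simp) h (by simp)⟩
  have cm : ∀ {k x : G}, k * x * k⁻¹ = x ↔ k ∈ centralizer ({x} : Set G) := fun {k x} => by
    rw [mem_centralizer_singleton_iff, mul_inv_eq_iff_eq_mul]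
  have cc : ∀ {k x : G}, k ∈ centralizer ({x} : Set G) → Commute k x := fun hk =>
    mem_centralizer_singleton_iff.mp hk
  set A := centralizer ({a} : Set G)
  set B := centralizer ({b} : Set G)
  set Cc := centralizer ({c} : Set G)
  have hloc : ∀ {k : G}, k ∈ loc D a → k ∈ A := fun hk =>
    (ThreeTransM24Local88.centralizer_eq X).ge hk
  have h1 := ThreeTransM22Triples17.card_eq_mul A (near D a) hb
    (fun k hk => near_conj ht (cc hk) hb)
    (fun y hy => (ThreeTransM24Pair88.transitive X hb hy).imp fun k hk => ⟨hloc hk.1, hk.2⟩)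
  have h2 := ThreeTransM22Triples17.card_eq_mul (A ⊓ B) (near D a ∩ near D b) ⟨hca, hcb⟩
    (fun k hk => ⟨near_conj ht (cc hk.1) hca, near_conj ht (cc hk.2) hcb⟩)
    (fun y hy => by
      obtain ⟨k, hk, k1, k2⟩ := ThreeTransM24Classes88.pair_transitive X hb hca hcb.2.2
        hcb.2.1.symm hb hy.1 hy.2.2.2 hy.2.2.1.symm
      exact ⟨k, ⟨hloc hk, cm.mp k1⟩, k2⟩)
  have h3 := ThreeTransM22Triples17.card_eq_mul (A ⊓ B ⊓ Cc) (near D a ∩ near D b ∩ near D c)
    ⟨⟨hha, hhb⟩, hhc⟩
    (fun k hk => ⟨⟨near_conj ht (cc hk.1.1) hha, near_conj ht (cc hk.1.2) hhb⟩,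
      near_conj ht (cc hk.2) hhc⟩)
    (fun y hy => by
      have hl2 : CList D [b, c, y] := by
        refine ⟨fun x hx => ?_, ?_, fun x hx x' hx' => ?_⟩
        · simp only [List.mem_cons, List.not_mem_nil, or_false] at hx
          rcases hx with rfl | rfl | rfl
          exacts [hb.1, hca.1, hy.1.1.1]
        · simp [hbc, hy.1.2.2.1.symm, hy.2.2.1.symm]
        · simp only [List.mem_cons, List.not_mem_nil, or_false] at hx hx'
          rcases hx with rfl | rfl | rfl <;> rcases hx' with rfl | rfl | rfl <;>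
            first
              | exact Commute.refl _
              | exact hcb.2.2
              | exact hcb.2.2.symm
              | exact hy.1.2.2.2
              | exact hy.1.2.2.2.symm
              | exact hy.2.2.2
              | exact hy.2.2.2.symm
      obtain ⟨k, hk, k1, k2, k3⟩ := ThreeTransM24Classes88.triple_transitive X
        (hl.sublist (List.sublist_cons_self _ _)) hl2
        (fun p hp => by
          simp only [List.mem_cons, List.not_mem_nil, or_false] at hp
          rcases hp with rfl | rfl | rfl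
          exacts [hb, hca, hha])
        (fun p hp => by
          simp only [List.mem_cons, List.not_mem_nil, or_false] at hp
          rcases hp with rfl | rfl | rfl
          exacts [hb, hca, hy.1.1])
      exact ⟨k, ⟨⟨hloc hk, cm.mp k1⟩, cm.mp k2⟩, k3⟩)
  have e : A ⊓ B ⊓ Cc ⊓ centralizer ({h} : Set G) = C4 a b c h := by
    ext g
    simp only [A, B, Cc, mem_inf, mem_centralizer_singleton_iff, mem_C4, commute_iff_eq, and_assoc]
  rw [e, ThreeTransM24Quad65.ncard_three hX (hl.sublist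
    (((List.Sublist.refl ([] : List G)).cons h).cons_cons c |>.cons_cons b |>.cons_cons a))] at h3
  rw [ThreeTransM24Order59.ncard_adjacent H hb, h3] at h2
  rw [ThreeTransM24Order59.ncard_near H, h2, ThreeTransM24Order59.card_centralizer H] at h1
  omega

open Classical in
/-- The facts about the kernel. -/
structure Facts (W : Setup D z) : Prop where
  card_Cz : Nat.card (Cz z) = 2 ^ 22 * 3 ^ 7 * 35
  card_ker : Nat.card ↥(rho W).ker = 3 * 2 ^ 13
  card_P : Nat.card ↥(P W) = 2 ^ 13
  cent_P : ∀ g : Cz z, g ∈ centralizer (P W : Set (Cz z)) → g = 1 ∨ g = zc W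

open Classical in
theorem facts [Fintype (Quad D z)] (W : Setup D z) : Facts W ∧
    ∃ (q : Quad D z) (ι : ℕ → Quad D z), Space (t W) q ι := by
  obtain ⟨l₀, hl₀, h4₀, hp₀⟩ := W.base
  obtain ⟨a, b, c, h, rfl⟩ : ∃ a b c h, l₀ = [a, b, c, h] := by
    match l₀, h4₀ with
    | [a, b, c, h], _ => exact ⟨a, b, c, h, rfl⟩
  have hp : a * b * c * h = z := by rw [← hp₀]; simp [mul_assoc]
  let q : Quad D z := ⟨_, _, hl₀, rfl, hp₀, rfl⟩
  have hm : ∀ y, y ∈ q.1 ↔ y = a ∨ y = b ∨ y = c ∨ y = h := fun y => by simp [q]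
  have X : Data D z a b c h q := ⟨W, hl₀, hp, hm⟩
  obtain ⟨ι, S₀, M, iM, θ, hθ, hcM, fM, hcA, hcent, hspec, hswap⟩ := ThreeTransM24QuadLocal54.main X
  have S : Space (t W) q ι := S₀
  have ma : a ∈ q.1 := (hm a).mpr (by simp)
  have mb : b ∈ q.1 := (hm b).mpr (by simp)
  have mc : c ∈ q.1 := (hm c).mpr (by simp)
  have mh : h ∈ q.1 := (hm h).mpr (by simp)
  have hC4z : C4 a b c h ≤ centralizer ({z} : Set G) := fun g hg => by
    obtain ⟨g1, g2, g3, g4⟩ := mem_C4.mp hg
    exact mem_centralizer_singleton_iff.mpr (hp ▸ ((g1.mul_right g2).mul_right g3).mul_right g4).eq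
  -- the stabilizer of the quadruple
  letI : MulAction (Cz z) (Quad D z) := MulAction.compHom _ (rho W)
  set St := MulAction.stabilizer (Cz z) q with hSt
  have mem_St : ∀ {g : Cz z}, g ∈ St ↔ rho W g q = q := fun {g} => Iff.rfl
  have hidx : St.index = 126 := by
    rw [MulAction.index_stabilizer, show MulAction.orbit (Cz z) q = Set.univ from
      Set.eq_univ_of_forall fun p => rho_transitive W q p, Set.ncard_univ, card_quad W]
  -- its action on the four members
  have hpres : ∀ (g : Cz z), g ∈ St → ∀ {x : G}, x ∈ q.1 → (g : G) * x * (g : G)⁻¹ ∈ q.1 :=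
    fun g hg x hx => by
      have := mem_rho W (g := g) hx
      rwa [mem_St.mp hg] at this
  let σ : ↥St →* Equiv.Perm {x : G // x ∈ q.1} :=
    { toFun := fun g =>
        { toFun := fun x => ⟨(g : Cz z) * x.1 * ((g : Cz z) : G)⁻¹, hpres _ g.2 x.2⟩
          invFun := fun x => ⟨((g⁻¹ : ↥St) : Cz z) * x.1 * (((g⁻¹ : ↥St) : Cz z) : G)⁻¹,
            hpres _ (g⁻¹).2 x.2⟩
          left_inv := fun x => Subtype.ext (by push_cast; group)
          right_inv := fun x => Subtype.ext (by push_cast; group) }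
      map_one' := Equiv.ext fun x => Subtype.ext (by simp)
      map_mul' := fun g k => Equiv.ext fun x => Subtype.ext (by
        show (((g * k : ↥St) : Cz z) : G) * x.1 * (((g * k : ↥St) : Cz z) : G)⁻¹ = _
        simp [mul_assoc]) }
  have hσ_surj : Function.Surjective σ := by
    intro π
    set f : G → G := fun x => if hx : x ∈ q.1 then (π ⟨x, hx⟩).1 else x with hf
    have hfmem : ∀ {x}, x ∈ q.1 → f x ∈ q.1 := fun {x} hx => by
      simp only [hf, dif_pos hx]; exact (π ⟨x, hx⟩).2
    have hfinj : ∀ {x y}, x ∈ q.1 → y ∈ q.1 → f x = f y → x = y := fun {x y} hx hy e => by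
      simp only [hf, dif_pos hx, dif_pos hy] at e
      exact congrArg Subtype.val (π.injective (Subtype.ext e))
    have hnd := hl₀.nodup
    simp only [List.nodup_cons, List.mem_cons, List.not_mem_nil, or_false, not_or, List.nodup_nil,
      and_true, not_false_eq_true] at hnd
    have hperm : List.Perm [a, b, c, h] [f a, f b, f c, f h] := by
      refine ((List.subperm_of_subset ?_ fun x hx => ?_).perm_of_length_le (by simp)).symm
      · have e := hnd
        simp only [List.nodup_cons, List.mem_cons, List.not_mem_nil, or_false, not_or, List.nodup_nil,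
          and_true, not_false_eq_true]
        exact ⟨⟨fun h' => e.1.1 (hfinj ma mb h'), fun h' => e.1.2.1 (hfinj ma mc h'),
          fun h' => e.1.2.2 (hfinj ma mh h')⟩, ⟨fun h' => e.2.1.1 (hfinj mb mc h'),
          fun h' => e.2.1.2 (hfinj mb mh h')⟩, fun h' => e.2.2 (hfinj mc mh h')⟩
      · have : x ∈ q.1 := by
          simp only [List.mem_cons, List.not_mem_nil, or_false] at hx
          rcases hx with rfl | rfl | rfl | rfl <;> apply hfmem <;> assumption
        simpa using (hm x).mp this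
    obtain ⟨g, e1, e2, e3, e4⟩ := ordered_transitive W hl₀ (hl₀.perm hperm)
    have hgz : g ∈ centralizer ({z} : Set G) := mem_centralizer_singleton_iff.mpr
      (mul_inv_eq_iff_eq_mul.mp (by
        rw [← hp, show g * (a * b * c * h) * g⁻¹ =
          (g * a * g⁻¹) * (g * b * g⁻¹) * (g * c * g⁻¹) * (g * h * g⁻¹) by group, e1, e2, e3, e4]
        have := hl₀.prod_perm hperm
        simpa [mul_assoc] using this.symm))
    have hst : (⟨g, hgz⟩ : Cz z) ∈ St := mem_St.mpr
      (rho_eq W ma (by show g * a * g⁻¹ ∈ q.1; rw [e1]; exact hfmem ma))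
    refine ⟨⟨⟨g, hgz⟩, hst⟩, Equiv.ext fun ⟨x, hx⟩ => Subtype.ext ?_⟩
    show g * x * g⁻¹ = _
    rcases (hm x).mp hx with rfl | rfl | rfl | rfl
    · rw [e1]; simp [hf, hx]
    · rw [e2]; simp [hf, hx]
    · rw [e3]; simp [hf, hx]
    · rw [e4]; simp [hf, hx]
  have hperm24 : Nat.card (Equiv.Perm {x : G // x ∈ q.1}) = 24 := by
    rw [Nat.card_perm, Nat.card_eq_fintype_card, Fintype.card_coe, quad_card W q.2]
    rfl
  -- the kernel is the centralizer of the four
  have hC4St : ∀ g : ↥(C4 a b c h), (⟨(g : G), hC4z g.2⟩ : Cz z) ∈ St := fun g =>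
    mem_St.mpr (rho_eq W ma (by
      rw [mul_inv_eq_iff_eq_mul.mpr (mem_C4.mp g.2).1.eq]; exact ma))
  let j : ↥(C4 a b c h) →* ↥St :=
    MonoidHom.mk' (fun g => ⟨⟨(g : G), hC4z g.2⟩, hC4St g⟩) fun _ _ => rfl
  have hj : Function.Injective j := fun g k e =>
    Subtype.ext (congrArg (fun y : ↥St => ((y : Cz z) : G)) e)
  have hσker : σ.ker = j.range := by
    ext g
    constructor
    · intro hg
      have hfix : ∀ {x : G}, x ∈ q.1 → Commute ((g : Cz z) : G) x := fun {x} hx =>
        mul_inv_eq_iff_eq_mul.mp (congrArg Subtype.val (Equiv.ext_iff.mp hg ⟨x, hx⟩))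
      exact ⟨⟨((g : Cz z) : G), mem_C4.mpr ⟨hfix ma, hfix mb, hfix mc, hfix mh⟩⟩, rfl⟩
    · rintro ⟨k, rfl⟩
      obtain ⟨k1, k2, k3, k4⟩ := mem_C4.mp k.2
      refine Equiv.ext fun ⟨x, hx⟩ => Subtype.ext ?_
      show (k : G) * x * (k : G)⁻¹ = x
      rcases (hm x).mp hx with rfl | rfl | rfl | rfl
      exacts [mul_inv_eq_iff_eq_mul.mpr k1.eq, mul_inv_eq_iff_eq_mul.mpr k2.eq,
        mul_inv_eq_iff_eq_mul.mpr k3.eq, mul_inv_eq_iff_eq_mul.mpr k4.eq]
  have hcardSt : Nat.card ↥St = 24 * (2 ^ 12 * 25920) := by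
    have := σ.ker.index_mul_card
    rw [Subgroup.index_ker, MonoidHom.range_eq_top.mpr hσ_surj, Subgroup.card_top, hperm24, hσker,
      ← Nat.card_congr (MonoidHom.ofInjective hj).toEquiv, card_C4 W.ctx hl₀] at this
    exact this.symm
  -- its action on the neighbours
  let Nr := {p : Quad D z // ∃ u < 45, ι u = p}
  have hNr : ∀ (g : Cz z), g ∈ St → ∀ p, (∃ u < 45, ι u = p) → ∃ u < 45, ι u = rho W g p := by
    intro g hg p hp'
    obtain ⟨h1, h2⟩ := (S.near p).mpr hp'
    refine (S.near _).mp ⟨fun e => h1 ((rho W g).injective (e.trans (mem_St.mp hg).symm)), ?_⟩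
    rw [show t W q = t W (rho W g q) from congrArg (t W) (mem_St.mp hg).symm, t_rho]
    simp [h2]
  let r : ↥St →* Equiv.Perm Nr :=
    { toFun := fun g =>
        { toFun := fun p => ⟨rho W g p.1, hNr _ g.2 p.1 p.2⟩
          invFun := fun p => ⟨rho W ((g⁻¹ : ↥St) : Cz z) p.1, hNr _ (g⁻¹).2 p.1 p.2⟩
          left_inv := fun p => Subtype.ext (by simp)
          right_inv := fun p => Subtype.ext (by simp) }
      map_one' := Equiv.ext fun p => Subtype.ext (by simp)
      map_mul' := fun g k => Equiv.ext fun p => Subtype.ext (by simp) }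
  have mem_r : ∀ {g : ↥St}, g ∈ r.ker ↔ ∀ u < 45, rho W g (ι u) = ι u := fun {g} =>
    ⟨fun hg u hu => congrArg Subtype.val (Equiv.ext_iff.mp hg ⟨ι u, u, hu, rfl⟩),
      fun H => Equiv.ext fun ⟨p, u, hu, e⟩ => Subtype.ext (e ▸ H u hu)⟩
  have hθker : θ.ker = (r.comp j).ker := by
    ext g
    rw [MonoidHom.mem_ker, hspec g (hC4z g.2)]
    exact (mem_r (g := j g)).symm
  have hKθ : Nat.card ↥θ.ker = 2 ^ 12 := by
    have := θ.ker.index_mul_card
    rw [Subgroup.index_ker, MonoidHom.range_eq_top.mpr hθ, Subgroup.card_top, hcM,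
      card_C4 W.ctx hl₀] at this
    omega
  -- the lower bound for the group fixing the neighbours
  set N := σ.ker.map r.rangeRestrict with hN
  haveI : N.Normal := Subgroup.Normal.map inferInstance _ r.rangeRestrict_surjective
  have hNM : Nonempty (↥N ≃* M) := by
    refine ⟨(MulEquiv.subgroupCongr (show N = (r.rangeRestrict.comp j).range by
      rw [hN, hσker, MonoidHom.range_comp])).trans
      ((QuotientGroup.quotientKerEquivRange (r.rangeRestrict.comp j)).symm.trans
        ((QuotientGroup.quotientMulEquivOfEq ?_).trans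
          (QuotientGroup.quotientKerEquivOfSurjective θ hθ)))⟩
    rw [hθker]
    ext g
    rw [MonoidHom.mem_ker, MonoidHom.mem_ker, Subtype.ext_iff]
    rfl
  have hinj : Function.Injective (MulAut.conjNormal : ↥r.range →* MulAut ↥N) := by
    rw [injective_iff_map_eq_one]
    rintro ⟨π, g, rfl⟩ hπ
    refine Subtype.ext (mem_r.mpr fun u hu => ?_)
    obtain ⟨v, hv, hv'⟩ := hNr _ g.2 (ι u) ⟨u, hu, rfl⟩
    rw [← hv']
    refine congrArg ι (ThreeTransM24QuadPts54.separated hv hu fun y hy => ?_)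
    obtain ⟨x, hx⟩ := quad_nonempty W (ι u)
    have hfix := ((S.near _).mpr ⟨u, hu, rfl⟩).2
    have hxC : x ∈ C4 a b c h := mem_C4.mpr ⟨(commute_of_t_fix W hfix ma hx).symm,
      (commute_of_t_fix W hfix mb hx).symm, (commute_of_t_fix W hfix mc hx).symm,
      (commute_of_t_fix W hfix mh hx).symm⟩
    have hmemN : r.rangeRestrict (j ⟨x, hxC⟩) ∈ N :=
      mem_map_of_mem _ (hσker ▸ ⟨⟨x, hxC⟩, rfl⟩)
    have h1 := congrArg (fun k : ↥N => ((k : ↥r.range) : Equiv.Perm Nr))
      (MulEquiv.ext_iff.mp hπ ⟨_, hmemN⟩)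
    have hcoe : rho W (j ⟨x, hxC⟩ : Cz z) = t W (ι u) := rho_member W hx
    have h2 : rho W g (t W (ι u) ((rho W g)⁻¹ (ι y))) = t W (ι u) (ι y) := by
      have h3 := congrArg Subtype.val (Equiv.ext_iff.mp h1 ⟨ι y, y, hy, rfl⟩)
      have h4 : rho W g (rho W (j ⟨x, hxC⟩ : Cz z) (rho W ((g⁻¹ : ↥St) : Cz z) (ι y))) =
          rho W (j ⟨x, hxC⟩ : Cz z) (ι y) := h3
      rw [hcoe] at h4
      simpa using h4
    rw [S.equiv u hu y hy] at h2
    have h5 : t W (rho W g (ι u)) (ι y) = ι (ThreeTransM24QuadTables54.C u y) := by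
      rw [t_rho]; simpa using h2
    rw [← hv', S.equiv v hv y hy] at h5
    rw [S.inj _ (C_lt hv hy) _ (C_lt hu hy) h5]
  obtain ⟨eNM⟩ := hNM
  haveI := fM
  haveI : Finite (MulAut M) := Finite.of_injective _ DFunLike.coe_injective
  haveI : Finite (MulAut ↥N) := Finite.of_injective _ DFunLike.coe_injective
  have hrr : Nat.card ↥r.range ≤ 51840 := by
    refine (Nat.card_le_card_of_injective _ hinj).trans (le_of_eq ?_)
    rw [← hcA]
    exact Nat.card_congr (MulAut.congr eNM).toEquiv
  have hRlow : 12 * 2 ^ 12 ≤ Nat.card ↥r.ker := by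
    have := r.ker.index_mul_card
    rw [Subgroup.index_ker, hcardSt] at this
    by_contra hlt
    push Not at hlt
    have := Nat.mul_le_mul hrr (Nat.le_sub_one_of_lt hlt)
    omega
  -- the upper bound
  set σR := σ.comp r.ker.subtype with hσR
  have hσRker : Nat.card ↥σR.ker = 2 ^ 12 := by
    rw [← hKθ]
    refine (Nat.card_congr (Equiv.ofBijective (fun k : ↥θ.ker =>
      (⟨⟨j k.1, mem_r.mpr ((hspec k.1 (hC4z k.1.2)).mp k.2)⟩,
        (show j k.1 ∈ σ.ker from hσker ▸ ⟨k.1, rfl⟩)⟩ : ↥σR.ker)) ⟨?_, ?_⟩)).symm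
    · intro k k' e
      exact Subtype.ext (hj (congrArg (fun y : ↥σR.ker => ((y : ↥r.ker) : ↥St)) e))
    · rintro ⟨⟨g, hg⟩, hgσ⟩
      have : g ∈ σ.ker := hgσ
      rw [hσker] at this
      obtain ⟨k, rfl⟩ := this
      exact ⟨⟨k, (hspec k (hC4z k.2)).mpr (mem_r.mp hg)⟩, rfl⟩
  have hσtop : σR.range ≠ ⊤ := by
    intro htop
    obtain ⟨⟨g, hg⟩, hgs⟩ : Equiv.swap (⟨c, mc⟩ : {x : G // x ∈ q.1}) ⟨h, mh⟩ ∈ σR.range :=
      htop ▸ mem_top _
    have hnd := hl₀.nodup
    simp only [List.nodup_cons, List.mem_cons, List.not_mem_nil, or_false, not_or] at hnd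
    have hval : ∀ (x : G) (hx : x ∈ q.1), ((g : Cz z) : G) * x * ((g : Cz z) : G)⁻¹ =
        (Equiv.swap (⟨c, mc⟩ : {x : G // x ∈ q.1}) ⟨h, mh⟩ ⟨x, hx⟩).1 := fun x hx =>
      congrArg Subtype.val (Equiv.ext_iff.mp hgs ⟨x, hx⟩)
    refine hswap g ?_ ?_ ?_ ?_ (mem_r.mp hg)
    · rw [hval a ma, Equiv.swap_apply_of_ne_of_ne
        (fun e => hnd.1.2.1 (congrArg Subtype.val e)) (fun e => hnd.1.2.2 (congrArg Subtype.val e))]
    · rw [hval b mb, Equiv.swap_apply_of_ne_of_ne
        (fun e => hnd.2.1.1 (congrArg Subtype.val e)) (fun e => hnd.2.1.2 (congrArg Subtype.val e))]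
    · rw [hval c mc, Equiv.swap_apply_left]
    · rw [hval h mh, Equiv.swap_apply_right]
  have hRcard : Nat.card ↥r.ker = 12 * 2 ^ 12 := by
    have h1 := σR.ker.index_mul_card
    rw [Subgroup.index_ker, hσRker] at h1
    have h2 := σR.range.card_mul_index
    rw [hperm24] at h2
    have h3 : σR.range.index ≠ 1 := fun e => hσtop (Subgroup.index_eq_one.mp e)
    have h4 : 0 < σR.range.index := Nat.pos_of_ne_zero FiniteIndex.index_ne_zero
    have h5 : Nat.card ↥σR.range ≤ 12 := by
      by_contra hh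
      push Not at hh
      have := Nat.mul_le_mul hh (show 2 ≤ σR.range.index by omega)
      omega
    have := Nat.mul_le_mul h5 (le_refl (2 ^ 12))
    omega
  -- the kernel of the action
  set ρR := ((rho W).comp St.subtype).comp r.ker.subtype with hρR
  have hqa : t W q ≠ 1 := fun e => by
    obtain ⟨x, hx⟩ := exists_root S
    exact hx.1 (by rw [e, Equiv.Perm.one_apply])
  have hrange : Nat.card ↥ρR.range = 2 := by
    have e : (ρR.range : Set (Equiv.Perm (Quad D z))) = {1, t W q} := by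
      refine Set.Subset.antisymm ?_ ?_
      · rintro _ ⟨g, rfl⟩
        exact fix_all S (fun p => t_rho W _ p) (mem_St.mp g.1.2) (mem_r.mp g.2)
      · rintro _ (rfl | rfl)
        · exact one_mem ρR.range
        · set A : Cz z := ⟨a, mem_cz W (quad_mem W q.2 ma).2⟩
          have hA : rho W A = t W q := rho_member W ma
          have hAs : A ∈ St := mem_St.mpr (by rw [hA, t_self W])
          exact ⟨⟨⟨A, hAs⟩, mem_r.mpr fun u hu => by
            show rho W A (ι u) = ι u
            rw [hA]; exact (iota_fix S hu).1⟩, hA⟩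
    have := congrArg Set.ncard e
    rwa [Set.ncard_pair (Ne.symm hqa), ← Nat.card_coe_set_eq] at this
  have hker : Nat.card ↥(rho W).ker = 3 * 2 ^ 13 := by
    have h1 := ρR.ker.index_mul_card
    rw [Subgroup.index_ker, hrange, hRcard] at h1
    have e : Nat.card ↥(rho W).ker = Nat.card ↥ρR.ker := by
      refine Nat.card_congr (Equiv.ofBijective (fun k : ↥(rho W).ker =>
        (⟨⟨⟨k.1, mem_St.mpr (by rw [MonoidHom.mem_ker.mp k.2, Equiv.Perm.one_apply])⟩,
          mem_r.mpr fun u _ => by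
            show rho W k.1 (ι u) = ι u
            rw [MonoidHom.mem_ker.mp k.2, Equiv.Perm.one_apply]⟩,
          k.2⟩ : ↥ρR.ker)) ⟨fun k k' e => ?_, fun k => ⟨⟨_, k.2⟩, rfl⟩⟩)
      exact Subtype.ext (congrArg (fun y : ↥ρR.ker => (((y : ↥r.ker) : ↥St) : Cz z)) e)
    omega
  have hP : Nat.card ↥(P W) = 2 ^ 13 := by
    obtain ⟨Qd, h1, h2⟩ := six_points S
    have hge := card_P_ge W Qd h1 h2
    haveI : Fact (Nat.Prime 2) := ⟨Nat.prime_two⟩
    obtain ⟨n, hn⟩ := IsPGroup.iff_card.mp (P_isPGroup W)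
    have hdvd := Subgroup.card_dvd_of_le (P_le_ker W)
    rw [hn, hker] at hdvd
    have h13 : n ≤ 13 := by
      by_contra hh
      have : 2 ^ 14 ∣ 3 * 2 ^ 13 := (pow_dvd_pow 2 (by omega)).trans hdvd
      norm_num at this
    rw [hn] at hge ⊢
    have : 13 ≤ n := (Nat.pow_le_pow_iff_right (by norm_num)).mp hge
    rw [show n = 13 by omega]
  refine ⟨⟨?_, hker, hP, fun g hg => ?_⟩, q, ι, S⟩
  · have := St.index_mul_card
    rw [hidx, hcardSt] at this
    omega
  · obtain ⟨x, hx⟩ := exists_root S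
    exact centralizer_P W (q := q) (p := x) hl₀ hp hm hx.1 hcent hg

end Cfsg.Agent.ThreeTransM24QuadKernel54
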