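import Cfsg.Agent.Lib.ThreeTransM24QuadTables54
import Cfsg.Agent.Lib.UnitaryF4Geo

/-!
The 45 isotropic points of the unitary space of dimension four over four elements, by codes.
-/

set_option autoImplicit false
set_option linter.unusedSectionVars false
set_option maxRecDepth 100000

namespace Cfsg.Agent.ThreeTransM24QuadPts54

open Cfsg.Agent.PermImageCert Cfsg.Agent.ThreeTransM24QuadTables54
open Cfsg.Agent.ThreeTransM24QuadData54 Cfsg.Agent.UnitaryF4Geo

/-- A coordinate of a code. -/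
def digit (c i : ℕ) : ℕ := c / 4 ^ i % 4

/-- The product of two codes of scalars. -/
def mulc : ℕ → ℕ → ℕ
  | 1, b => b
  | a, 1 => a
  | 2, 2 => 3
  | 2, 3 => 1
  | 3, 2 => 1
  | 3, 3 => 2
  | _, _ => 0

/-- The form on codes of vectors. -/
def hc (u v : ℕ) : ℕ :=
  (mulc (digit u 0) (mulc (digit v 0) (digit v 0))).xor
  ((mulc (digit u 1) (mulc (digit v 1) (digit v 1))).xor
  ((mulc (digit u 2) (mulc (digit v 2) (digit v 2))).xor
  (mulc (digit u 3) (mulc (digit v 3) (digit v 3)))))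

/-- A point. -/
def pt (u : ℕ) : ℕ := ptCodes.getD u 0

/-- A code is a multiple of another. -/
noncomputable def prop (c d : ℕ) : Bool :=
  !(allBelow (fun l => Nat.beq l 0 || !(allBelow (fun i => Nat.beq (digit c i) (mulc l (digit d i))) 4)) 4)

theorem pts_ok : allBelow (fun u => Nat.beq (hc (pt u) (pt u)) 0 &&
    !(allBelow (fun i => Nat.beq (digit (pt u) i) 0) 4)) 45 = true := by decide +kernel

/-- The image of a point under a transvection, as digits. -/
def moved (u v i : ℕ) : ℕ := (digit (pt v) i).xor (mulc (hc (pt v) (pt u)) (digit (pt u) i))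

theorem moved_ok : allBelow (fun u => allBelow (fun v =>
    !(allBelow (fun l => Nat.beq l 0 ||
      !(allBelow (fun i => Nat.beq (moved u v i) (mulc l (digit (pt (C u v)) i))) 4)) 4)) 45) 45 = true := by
  decide +kernel

theorem perp_ok : allBelow (fun u => allBelow (fun v =>
    Nat.beq (hc (pt v) (pt u)) 0 == Nat.beq (C u v) v) 45) 45 = true := by decide +kernel

theorem complete_ok : allBelow (fun c => !(Nat.beq (hc c c) 0) || Nat.beq c 0 ||
    !(allBelow (fun u => !(prop c (pt u))) 45)) 256 = true := by decide +kernel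

theorem separated_ok : allBelow (fun u => allBelow (fun v => Nat.beq u v ||
    !(allBelow (fun x => Nat.beq (C u x) x == Nat.beq (C v x) x) 45)) 45) 45 = true := by decide +kernel

variable {F : Type*} [Field F] [Fintype F] [hF : FourField F]

/-- The scalar of a code. -/
def fe (w : F) : ℕ → F
  | 0 => 0
  | 1 => 1
  | 2 => w
  | _ => w + 1

theorem mulc_lt {a b : ℕ} (ha : a < 4) (hb : b < 4) : mulc a b < 4 := by
  interval_cases a <;> interval_cases b <;> decide

theorem digit_lt (c i : ℕ) : digit c i < 4 := Nat.mod_lt _ (by norm_num)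

theorem xor_lt {a b : ℕ} (ha : a < 4) (hb : b < 4) : a.xor b < 4 := by
  interval_cases a <;> interval_cases b <;> decide

variable {w : F} (hw : w ^ 2 = w + 1)
include hw

theorem fe_add {a b : ℕ} (ha : a < 4) (hb : b < 4) : fe w (a.xor b) = fe w a + fe w b := by
  have h2 := two_eq_zero (F := F)
  interval_cases a <;> interval_cases b <;> simp only [show Nat.xor 0 0 = 0 from rfl,
    show Nat.xor 0 1 = 1 from rfl, show Nat.xor 0 2 = 2 from rfl, show Nat.xor 0 3 = 3 from rfl,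
    show Nat.xor 1 0 = 1 from rfl, show Nat.xor 1 1 = 0 from rfl, show Nat.xor 1 2 = 3 from rfl,
    show Nat.xor 1 3 = 2 from rfl, show Nat.xor 2 0 = 2 from rfl, show Nat.xor 2 1 = 3 from rfl,
    show Nat.xor 2 2 = 0 from rfl, show Nat.xor 2 3 = 1 from rfl, show Nat.xor 3 0 = 3 from rfl,
    show Nat.xor 3 1 = 2 from rfl, show Nat.xor 3 2 = 1 from rfl, show Nat.xor 3 3 = 0 from rfl, fe] <;>
    first | ring1 | linear_combination (-(1 : F)) * h2 | linear_combination (-w) * h2 |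
      linear_combination (-(w + 1)) * h2 | linear_combination h2 | linear_combination w * h2

theorem fe_mul {a b : ℕ} (ha : a < 4) (hb : b < 4) : fe w (mulc a b) = fe w a * fe w b := by
  have h2 := two_eq_zero (F := F)
  interval_cases a <;> interval_cases b <;> simp only [mulc, fe] <;>
    first | ring1 | linear_combination -hw | linear_combination (-(1 : F)) * hw - (w + 1) * h2 |
      linear_combination (-(1 : F)) * hw - w * h2 | linear_combination (-(1 : F)) * hw - h2

theorem fe_eq_zero {a : ℕ} (ha : a < 4) : fe w a = 0 ↔ a = 0 := by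
  obtain ⟨h0, h1⟩ := omega_ne hw
  interval_cases a <;> simp [fe, h0]
  exact fun e => h1 (eq_of_add_eq_zero e)

theorem fe_surj (x : F) : ∃ a < 4, fe w a = x := by
  by_cases h0 : x = 0
  · exact ⟨0, by norm_num, h0.symm⟩
  by_cases h1 : x = 1
  · exact ⟨1, by norm_num, h1.symm⟩
  by_cases h2 : x = w
  · exact ⟨2, by norm_num, h2.symm⟩
  refine ⟨3, by norm_num, ?_⟩
  have hx := rel h0 h1
  have e : (x - w) * (x + w - 1) = 0 := by linear_combination hx - hw
  have := (mul_eq_zero.mp e).resolve_left (sub_ne_zero.mpr h2)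
  show w + 1 = x
  linear_combination this.trans (rfl : (0 : F) = 0) - (x - 1) * (two_eq_zero (F := F))

/-- The vector of a code. -/
def vec (c : ℕ) : Fin 4 → F := fun i => fe w (digit c i)

theorem h_vec (u v : ℕ) : h (vec (w := w) u) (vec (w := w) v) = fe w (hc u v) := by
  have hm : ∀ i, mulc (digit u i) (mulc (digit v i) (digit v i)) < 4 := fun i =>
    mulc_lt (digit_lt _ _) (mulc_lt (digit_lt _ _) (digit_lt _ _))
  rw [hc, fe_add hw (hm 0) (xor_lt (hm 1) (xor_lt (hm 2) (hm 3))),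
    fe_add hw (hm 1) (xor_lt (hm 2) (hm 3)), fe_add hw (hm 2) (hm 3)]
  simp only [fe_mul hw (digit_lt _ _) (mulc_lt (digit_lt _ _) (digit_lt _ _)),
    fe_mul hw (digit_lt _ _) (digit_lt _ _), h, vec, Fin.sum_univ_four, sq]
  simp [add_assoc]

theorem hc_lt (u v : ℕ) : hc u v < 4 :=
  have hm : ∀ i, mulc (digit u i) (mulc (digit v i) (digit v i)) < 4 := fun i =>
    mulc_lt (digit_lt _ _) (mulc_lt (digit_lt _ _) (digit_lt _ _))
  xor_lt (hm 0) (xor_lt (hm 1) (xor_lt (hm 2) (hm 3)))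

theorem h_vec_zero (u v : ℕ) : h (vec (w := w) u) (vec (w := w) v) = 0 ↔ hc u v = 0 := by
  rw [h_vec hw, fe_eq_zero hw (hc_lt hw u v)]

theorem vec_eq_zero (c : ℕ) : vec (w := w) c = 0 ↔ ∀ i < 4, digit c i = 0 := by
  constructor
  · intro e i hi
    exact (fe_eq_zero hw (digit_lt c i)).mp (congrFun e ⟨i, hi⟩)
  · intro e
    funext i
    exact (fe_eq_zero hw (digit_lt c i)).mpr (e i i.2)

theorem vec_surj (x : Fin 4 → F) : ∃ c < 256, vec (w := w) c = x := by
  choose a ha hax using fun i => fe_surj hw (x i)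
  refine ⟨a 0 + 4 * a 1 + 16 * a 2 + 64 * a 3, ?_, ?_⟩
  · have := ha 0; have := ha 1; have := ha 2; have := ha 3; omega
  · funext i
    rw [← hax i, vec]
    congr 1
    have := ha 0; have := ha 1; have := ha 2; have := ha 3
    fin_cases i <;> simp [digit] <;> omega

theorem pt_iso {u : ℕ} (hu : u < 45) : h (vec (w := w) (pt u)) (vec (w := w) (pt u)) = 0 := by
  have h1 := allBelow_spec pts_ok u hu
  simp only [Bool.and_eq_true, Nat.beq_eq] at h1
  exact (h_vec_zero hw _ _).mpr h1.1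

omit hw in
theorem below_of {f : ℕ → Bool} : ∀ {n : ℕ}, (∀ k < n, f k = true) → allBelow f n = true
  | 0, _ => rfl
  | n + 1, h => by
    show (f n && allBelow f n) = true
    rw [h n (Nat.lt_succ_self n), below_of fun k hk => h k (Nat.lt_succ_of_lt hk)]
    rfl

theorem pt_ne {u : ℕ} (hu : u < 45) : vec (w := w) (pt u) ≠ 0 := by
  intro e
  have h1 := allBelow_spec pts_ok u hu
  simp only [Bool.and_eq_true, Nat.beq_eq, Bool.not_eq_true'] at h1
  have : allBelow (fun i => Nat.beq (digit (pt u) i) 0) 4 = true := by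
    refine below_of fun i hi => ?_
    rw [(vec_eq_zero hw _).mp e i hi]
    rfl
  simp [this] at h1

omit hw in
theorem exists_of_not {f : ℕ → Bool} : ∀ {n : ℕ}, allBelow f n = false → ∃ k < n, f k = false
  | 0, e => Bool.noConfusion (e : true = false)
  | n + 1, e => by
    rcases Bool.and_eq_false_iff.mp (e : (f n && allBelow f n) = false) with h | h
    · exact ⟨n, Nat.lt_succ_self n, h⟩
    · obtain ⟨k, hk, hk'⟩ := exists_of_not h
      exact ⟨k, Nat.lt_succ_of_lt hk, hk'⟩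

theorem scalar_digits {f : ℕ → ℕ} {c : ℕ} (hf : ∀ i, f i < 4)
    (h : (!(allBelow (fun l => Nat.beq l 0 || !(allBelow (fun i => Nat.beq (f i) (mulc l (digit c i))) 4)) 4)) = true) :
    ∃ s : F, s ≠ 0 ∧ (fun i : Fin 4 => fe w (f i)) = s • vec (w := w) c := by
  obtain ⟨l, hl, h1⟩ := exists_of_not ((Bool.not_eq_true' _).mp h)
  simp only [Bool.or_eq_false_iff, Bool.not_eq_false'] at h1
  have hl0 : l ≠ 0 := fun e => by simp [e] at h1
  refine ⟨fe w l, fun e => hl0 ((fe_eq_zero hw hl).mp e), funext fun i => ?_⟩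
  have h2 := allBelow_spec h1.2 i i.2
  rw [Nat.beq_eq] at h2
  rw [h2, fe_mul hw hl (digit_lt _ _)]
  rfl

theorem moved_eq {u v : ℕ} (hu : u < 45) (hv : v < 45) :
    ∃ s : F, s ≠ 0 ∧ vec (w := w) (pt v) + h (vec (w := w) (pt v)) (vec (w := w) (pt u)) • vec (w := w) (pt u) =
      s • vec (w := w) (pt (C u v)) := by
  obtain ⟨s, hs, e⟩ := scalar_digits hw
    (fun i => xor_lt (digit_lt (pt v) i) (mulc_lt (hc_lt hw _ _) (digit_lt (pt u) i)))
    (allBelow_spec (allBelow_spec moved_ok u hu) v hv)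
  refine ⟨s, hs, ?_⟩
  rw [← e]
  funext i
  rw [Pi.add_apply, Pi.smul_apply, smul_eq_mul, h_vec hw,
    fe_add hw (digit_lt _ _) (mulc_lt (hc_lt hw _ _) (digit_lt _ _)),
    fe_mul hw (hc_lt hw _ _) (digit_lt _ _)]
  rfl

theorem perp_iff {u v : ℕ} (hu : u < 45) (hv : v < 45) :
    h (vec (w := w) (pt v)) (vec (w := w) (pt u)) = 0 ↔ C u v = v := by
  have h1 := allBelow_spec (allBelow_spec perp_ok u hu) v hv
  rw [h_vec_zero hw, ← Nat.beq_eq, beq_iff_eq.mp h1, Nat.beq_eq]

theorem complete {x : Fin 4 → F} (hx : h x x = 0) (hx0 : x ≠ 0) :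
    ∃ u < 45, ∃ s : F, s ≠ 0 ∧ x = s • vec (w := w) (pt u) := by
  obtain ⟨c, hc, rfl⟩ := vec_surj hw x
  have h1 := allBelow_spec complete_ok c hc
  simp only [Bool.or_eq_true, Bool.not_eq_true', Nat.beq_eq] at h1
  rcases h1 with (h | h) | h
  · simp [(h_vec_zero hw c c).mp hx] at h
  · exact absurd ((vec_eq_zero hw c).mpr fun i _ => by simp [h, digit]) hx0
  · obtain ⟨u, hu, h2⟩ := exists_of_not h
    obtain ⟨s, hs, e⟩ := scalar_digits hw (f := digit c) (digit_lt c)
      (by rw [Bool.not_eq_false'] at h2; exact h2)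
    exact ⟨u, hu, s, hs, e⟩

omit hw in
theorem separated {u v : ℕ} (hu : u < 45) (hv : v < 45)
    (h : ∀ x < 45, (C u x = x ↔ C v x = x)) : u = v := by
  have h1 := allBelow_spec (allBelow_spec separated_ok u hu) v hv
  simp only [Bool.or_eq_true, Nat.beq_eq, Bool.not_eq_true'] at h1
  refine h1.resolve_right fun h2 => ?_
  obtain ⟨x, hx, h3⟩ := exists_of_not h2
  have h4 := h x hx
  simp only [← Nat.beq_eq] at h4
  cases hu' : Nat.beq (C u x) x <;> cases hv' : Nat.beq (C v x) x <;> simp_all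

/-- A linear map with all isotropic vectors as eigenvectors is a scalar. -/
theorem scalar_of_iso {f : (Fin 4 → F) →ₗ[F] Fin 4 → F}
    (hf : ∀ x : Fin 4 → F, h x x = 0 → x ≠ 0 → ∃ s : F, f x = s • x) :
    ∃ b : F, ∀ x, f x = b • x := by
  obtain ⟨-, h1⟩ := omega_ne hw
  set a₁ : Fin 4 → F := ![1, 1, 0, 0] with ha₁
  set a₂ : Fin 4 → F := ![1, w, 0, 0] with ha₂
  set b₁ : Fin 4 → F := ![0, 0, 1, 1] with hb₁
  set b₂ : Fin 4 → F := ![0, 0, 1, w] with hb₂
  have hw3 : w * w ^ 2 = 1 := by rw [← pow_succ', cube (omega_ne hw).1]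
  have hiso : ∀ x ∈ [a₁, a₂, b₁, b₂, a₁ + b₁, a₁ + b₂, a₂ + b₁], h x x = 0 ∧ x ≠ 0 := by
    intro x hx
    simp only [List.mem_cons, List.not_mem_nil, or_false] at hx
    refine ⟨?_, fun e => ?_⟩
    · rcases hx with rfl | rfl | rfl | rfl | rfl | rfl | rfl <;>
        simp [h, Fin.sum_univ_four, a₁, a₂, b₁, b₂, hw3, UnitaryF4Geo.add_self]
    · rcases hx with rfl | rfl | rfl | rfl | rfl | rfl | rfl <;>
        have e0 := congrFun e 0 <;> have e2 := congrFun e 2 <;>
        simp [a₁, a₂, b₁, b₂] at e0 e2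
  have ev : ∀ x ∈ [a₁, a₂, b₁, b₂, a₁ + b₁, a₁ + b₂, a₂ + b₁], ∃ s : F, f x = s • x :=
    fun x hx => hf x (hiso x hx).1 (hiso x hx).2
  obtain ⟨p₁, e₁⟩ := ev a₁ (by simp)
  obtain ⟨p₂, e₂⟩ := ev a₂ (by simp)
  obtain ⟨r₁, g₁⟩ := ev b₁ (by simp)
  obtain ⟨r₂, g₂⟩ := ev b₂ (by simp)
  have same : ∀ (a b : Fin 4 → F) (p r : F), f a = p • a → f b = r • b → a 0 = 1 → a 2 = 0 →
      b 0 = 0 → b 2 = 1 → (∃ s : F, f (a + b) = s • (a + b)) → p = r := by
    rintro a b p r ea eb a0 a2 b0 b2 ⟨s, es⟩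
    rw [map_add, ea, eb] at es
    have h0 := congrFun es 0
    have h2 := congrFun es 2
    simp [a0, a2, b0, b2] at h0 h2
    exact h0.trans h2.symm
  have q11 := same a₁ b₁ _ _ e₁ g₁ rfl rfl rfl rfl (ev _ (by simp))
  have q12 := same a₁ b₂ _ _ e₁ g₂ rfl rfl rfl rfl (ev _ (by simp))
  have q21 := same a₂ b₁ _ _ e₂ g₁ rfl rfl rfl rfl (ev _ (by simp))
  refine ⟨p₁, fun x => ?_⟩
  have hw1 : w - 1 ≠ 0 := sub_ne_zero.mpr h1
  set β := (x 1 - x 0) * (w - 1)⁻¹ with hβ
  set δ := (x 3 - x 2) * (w - 1)⁻¹ with hδ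
  have hx : x = (x 0 - β) • a₁ + β • a₂ + (x 2 - δ) • b₁ + δ • b₂ := by
    funext i
    fin_cases i <;> simp [a₁, a₂, b₁, b₂]
    · linear_combination (-(x 1 - x 0)) * (inv_mul_cancel₀ hw1) + (0 : F)
    · linear_combination (-(x 3 - x 2)) * (inv_mul_cancel₀ hw1) + (0 : F)
  rw [show p₂ = p₁ from q21.trans q11.symm] at e₂
  rw [← q11] at g₁
  rw [← q12] at g₂
  conv_lhs => rw [hx]
  conv_rhs => rw [hx]
  simp only [map_add, map_smul, e₁, e₂, g₁, g₂, smul_add, smul_smul, mul_comm]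

end Cfsg.Agent.ThreeTransM24QuadPts54
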