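import Cfsg.Agent.Lib.ThreeTransM24QuadData54
import Cfsg.Agent.Lib.PermImageCert

/-!
Checks of the tables of the space of 126 points.
-/

set_option autoImplicit false
set_option maxRecDepth 100000
set_option maxHeartbeats 2000000

namespace Cfsg.Agent.ThreeTransM24QuadTables54

open Cfsg.Agent.PermImageCert Cfsg.Agent.ThreeTransM24QuadData54

/-- An involution of the model. -/
def T (i j : ℕ) : ℕ := get (tRows.getD i 0) j

/-- A transvection on the 45 points. -/
def C (u v : ℕ) : ℕ := get (cRows.getD u 0) v

/-- Different commuting points. -/
def adj (u v : ℕ) : Bool := !(Nat.beq u v) && Nat.beq (C u v) v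

/-- Membership in a frame. -/
def mem (k u : ℕ) : Bool := Nat.testBit (frames.getD k 0) u

/-- A transvection on the frames. -/
def img (u k : ℕ) : ℕ := get (imgRows.getD u 0) k

/-- The sign. -/
def sig (u k : ℕ) : Bool := Nat.testBit (sigRows.getD u 0) k

/-- The parent frame. -/
def par (k : ℕ) : ℕ := parents.getD k 0 % 64

/-- The transvection from the parent. -/
def via (k : ℕ) : ℕ := parents.getD k 0 / 64

/-- A point of a line. -/
def lin (l i : ℕ) : ℕ := get (lineSets.getD l 0) i

/-- The points of a line. -/
def linePts (l : ℕ) : List ℕ := [lin l 0, lin l 1, lin l 2, lin l 3, lin l 4]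

theorem c_ok : allBelow (fun u => allBelow (fun v =>
    Nat.blt (C u v) 45 && Nat.beq (C u (C u v)) v) 45 && Nat.beq (C u u) u) 45 = true := by
  decide +kernel

/-- The facts on lines. -/
noncomputable def lineOK (l : ℕ) : Bool :=
  allBelow (fun i => Nat.blt (lin l i) 45 && allBelow (fun j => Nat.beq i j || adj (lin l i) (lin l j)) 5) 5 &&
  allBelow (fun c => (linePts l).contains c || Nat.beq ((linePts l).countP (fun a => adj c a)) 1) 45 &&
  allBelow (fun c => Nat.beq (C (lin l 4) (C (lin l 3) (C (lin l 2) (C (lin l 1) (C (lin l 0) c))))) c) 45

theorem lines_ok : allBelow lineOK 27 = true := by decide +kernel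

theorem pairs_ok : allBelow (fun a => allBelow (fun b => !(adj a b) ||
    !(allBelow (fun l => !((linePts l).contains a && (linePts l).contains b)) 27)) 45) 45 = true := by
  decide +kernel

theorem through_ok : allBelow (fun u =>
    Nat.beq ((List.range 27).countP fun l => (linePts l).contains u) 3 &&
    Nat.beq ((List.range 45).countP fun v => adj u v) 12 &&
    !(allBelow (fun v => Nat.beq (C u v) v) 45)) 45 = true := by decide +kernel

/-- A state of the search is impossible. -/
def bad (i : ℕ) (ins outs : List ℕ) : Bool :=
  (List.range 27).any (fun l => (linePts l).contains i &&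
    (Nat.blt 2 ((linePts l).countP fun a => ins.contains a) ||
      Nat.blt 3 ((linePts l).countP fun a => outs.contains a))) ||
  ins.any (fun u => outs.contains (C i u) && ins.contains i) ||
  ins.any (fun u => ins.contains (C u i) && outs.contains i)

/-- The search. -/
noncomputable def search : List ℕ → List ℕ → List ℕ → Bool
  | [], ins, outs => !(allBelow (fun k => !(allBelow (fun u =>
      (mem k u && ins.contains u) || (!(mem k u) && outs.contains u)) 45)) 40)
  | i :: r, ins, outs => (bad i (i :: ins) outs || search r (i :: ins) outs) &&
      (bad i ins (i :: outs) || search r ins (i :: outs))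

theorem search_ok : search order [] [] = true := by decide +kernel

theorem img_ok : allBelow (fun u => allBelow (fun k => Nat.blt (img u k) 40 &&
    allBelow (fun v => mem (img u k) (C u v) == mem k v) 45) 40) 45 = true := by decide +kernel

theorem frames_ok : allBelow (fun k => allBelow (fun k' => Nat.beq k k' ||
    !(allBelow (fun v => mem k v == mem k' v) 45)) 40 && Nat.beq ((List.range 45).countP (mem k)) 18) 40 =
    true := by decide +kernel

/-- Going to the root. -/
def reaches : ℕ → ℕ → Bool
  | 0, k => Nat.beq k 0
  | n + 1, k => Nat.beq k 0 || reaches n (par k)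

theorem tree_ok : allBelow (fun k => reaches 8 k && Nat.blt (par k) 40 && Nat.blt (via k) 45 &&
    (Nat.beq k 0 || Nat.beq (img (via k) (par k)) k)) 40 = true := by decide +kernel

/-- Key of a fact. -/
def key (u k : ℕ) : ℕ := 40 * u + k

/-- A fact is known. -/
def has (done u k : ℕ) : Bool := Nat.testBit done (key u k)

/-- Move forwards along a line. -/
def fwd (l : ℕ) : ℕ → ℕ → Bool → ℕ × Bool
  | 0, k, b => (k, b)
  | i + 1, k, b => let r := fwd l i k b; (img (lin l i) r.1, xor r.2 (sig (lin l i) r.1))

/-- Move backwards along a line from its end. -/
def bwd (l : ℕ) : ℕ → ℕ → Bool → ℕ × Bool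
  | 0, k, b => (k, b)
  | i + 1, k, b => let r := bwd l i k b; (img (lin l (4 - i)) r.1, xor r.2 (sig (lin l (4 - i)) r.1))

/-- One step of the derivation of the signs: the new fact. -/
noncomputable def step (done s : ℕ) : Option (ℕ × ℕ) :=
  let r := s % 8
  let a := s / 8 % 64
  let b := s / 512 % 64
  let c := s / 32768
  match r with
  | 0 => if Nat.blt a 45 && Nat.blt b 40 && !(Nat.beq (img a b) 0) && Nat.beq (par (img a b)) b &&
      Nat.beq (via (img a b)) a && !(sig a b) then some (a, b) else none
  | 1 => if Nat.blt a 45 && Nat.blt b 40 && mem b a && Nat.beq (img a b) b && !(sig a b) then some (a, b) else none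
  | 2 => if Nat.blt a 45 && Nat.blt b 40 && has done a (img a b) && Nat.beq (img a (img a b)) b &&
      (sig a b == sig a (img a b)) then some (a, b) else none
  | 3 => if Nat.blt a 45 && Nat.blt c 45 && Nat.blt b 40 && has done a b && has done c (img a b) &&
      has done a (img c (img a b)) && Nat.beq (img (C a c) b) (img a (img c (img a b))) &&
      (sig (C a c) b == xor (xor (sig a b) (sig c (img a b))) (sig a (img c (img a b)))) then
      some (C a c, b) else none
  | 4 => if Nat.blt a 27 && Nat.blt b 40 && Nat.blt c 5 &&
      allBelow (fun i => has done (lin a i) (fwd a i b false).1) c &&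
      allBelow (fun i => has done (lin a (4 - i)) (bwd a i b true).1) (4 - c) &&
      Nat.beq (img (lin a c) (fwd a c b false).1) (bwd a (4 - c) b true).1 &&
      (sig (lin a c) (fwd a c b false).1 == xor (fwd a c b false).2 (bwd a (4 - c) b true).2) then
      some (lin a c, (fwd a c b false).1) else none
  | _ => none

/-- The derivation. -/
noncomputable def run : ℕ → List ℕ → Option ℕ
  | done, [] => some done
  | done, s :: r => match step done s with
    | some p => run (done ||| 1 <<< key p.1 p.2) r
    | none => none

/-- All facts are derived. -/
noncomputable def signsOK : Bool :=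
  match run 0 signSteps with
  | some done => allBelow (fun u => allBelow (fun k => has done u k) 40) 45
  | none => false

theorem signs_ok : signsOK = true := by decide +kernel

/-- The label of a model point. -/
def desc (i : ℕ) : ℕ := descs.getD i 0

/-- The model point with a label. -/
def idx (d : ℕ) : ℕ := index.getD d 0

/-- The action of a generator on a label. -/
def genAct (g d : ℕ) : ℕ :=
  bif Nat.beq g 45 then (bif Nat.blt d 46 then d else (bif Nat.beq (d % 2) 0 then d + 1 else d - 1))
  else bif Nat.beq d 0 then 0
  else bif Nat.blt d 46 then 1 + C g (d - 1)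
  else 46 + 2 * img g ((d - 46) / 2) + (bif xor (Nat.beq ((d - 46) % 2) 1) (sig g ((d - 46) / 2)) then 1 else 0)

theorem desc_ok : (allBelow (fun i => Nat.blt (desc i) 126 && Nat.beq (idx (desc i)) i) 126 &&
    allBelow (fun d => Nat.blt (idx d) 126 && Nat.beq (desc (idx d)) d) 126) = true := by decide +kernel

/-- The model point of a generator. -/
def genPt (g : ℕ) : ℕ := bif Nat.beq g 45 then idx 0 else idx (1 + g)

theorem gen_ok : allBelow (fun g => allBelow (fun i =>
    Nat.beq (genAct g (desc i)) (desc (T (genPt g) i))) 126) 46 = true := by decide +kernel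

/-- One step of the derivation of the last generator. -/
noncomputable def xstep (done s : ℕ) : Option ℕ :=
  let r := s % 8
  let a := s / 8 % 64
  let z := s / 512
  let x := idx 46
  match r with
  | 0 => if Nat.beq (T x x) x then some x else none
  | 1 => if Nat.beq a 0 then (if Nat.beq (T x (idx 0)) (idx 47) then some (idx 0) else none)
      else (if Nat.beq (T x (idx 47)) (idx 0) then some (idx 47) else none)
  | 2 => if Nat.blt a 45 && mem 0 a && Nat.beq (T x (genPt a)) (genPt a) then some (genPt a) else none
  | 3 => if Nat.blt a 45 && !(mem 0 a) then
      (if Nat.beq z 0 then (if Nat.beq (T x (genPt a)) (T (genPt a) x) then some (genPt a) else none)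
      else (if Nat.beq (T x (T (genPt a) x)) (genPt a) then some (T (genPt a) x) else none)) else none
  | 4 => if Nat.blt a 46 && (Nat.beq a 45 || !(mem 0 a)) && Nat.blt z 126 && Nat.testBit done z &&
      Nat.testBit done (T (genPt a) (T x z)) &&
      Nat.beq (T x (T (genPt a) z)) (T (genPt a) (T x (T (genPt a) (T x z)))) then
      some (T (genPt a) z) else none
  | _ => none

/-- The derivation. -/
noncomputable def xrun : ℕ → List ℕ → Option ℕ
  | done, [] => some done
  | done, s :: r => match xstep done s with
    | some i => xrun (done ||| 1 <<< i) r
    | none => none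

/-- All values are derived. -/
noncomputable def pointsOK : Bool :=
  match xrun 0 pointSteps with
  | some done => allBelow (fun i => Nat.testBit done i) 126
  | none => false

theorem points_ok : pointsOK = true := by decide +kernel

/-- The generators: the centre, the 45 points, the far point. -/
def genList : List ℕ := (List.range 46).map genPt ++ [idx 46]

/-- The conjugation steps. -/
noncomputable def crun : ℕ → List ℕ → Option ℕ
  | done, [] => some done
  | done, s :: r =>
    let g := s % 128
    let j := s / 128
    if genList.contains g && Nat.testBit done j && Nat.blt j 126 &&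
      allBelow (fun i => Nat.beq (T (T g j) i) (T g (T j (T g i)))) 126 then
      crun (done ||| 1 <<< (T g j)) r
    else none

/-- All points are conjugates of generators. -/
noncomputable def conjOK : Bool :=
  match crun (genList.foldl (fun m g => m ||| 1 <<< g) 0) conjSteps with
  | some done => allBelow (fun i => Nat.testBit done i) 126
  | none => false

theorem conj_ok : conjOK = true := by decide +kernel

theorem t_ok : allBelow (fun i => allBelow (fun j => Nat.blt (T i j) 126 && Nat.beq (T i (T i j)) j) 126) 126 =
    true := by decide +kernel

end Cfsg.Agent.ThreeTransM24QuadTables54
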