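import Mathlib
import Cfsg.Agent.Lib.ThreeTransM24QuadTables54

/-!
A space of 126 points with one involution at each point, in which the points commuting with one point
form the isotropic points of a unitary space of dimension four over four elements, is the model.
-/

set_option autoImplicit false
set_option linter.unusedSectionVars false

namespace Cfsg.Agent.ThreeTransM24QuadSpace54

open Cfsg.Agent.PermImageCert Cfsg.Agent.ThreeTransM24QuadTables54
open Cfsg.Agent.ThreeTransM24QuadData54

/-! ### Table facts -/

theorem spec {f : ℕ → Bool} {n : ℕ} (h : allBelow f n = true) {k : ℕ} (hk : k < n) : f k = true :=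
  allBelow_spec h k hk

theorem C_lt {u v : ℕ} (hu : u < 45) (hv : v < 45) : C u v < 45 := by
  have h := spec c_ok hu
  rw [Bool.and_eq_true] at h
  have h1 := spec h.1 hv
  simp only [Bool.and_eq_true, Nat.blt_eq] at h1
  exact h1.1

theorem C_invol {u v : ℕ} (hu : u < 45) (hv : v < 45) : C u (C u v) = v := by
  have h := spec c_ok hu
  rw [Bool.and_eq_true] at h
  have h1 := spec h.1 hv
  simp only [Bool.and_eq_true, Nat.beq_eq] at h1
  exact h1.2

theorem C_self {u : ℕ} (hu : u < 45) : C u u = u := by
  have h := spec c_ok hu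
  simp only [Bool.and_eq_true, Nat.beq_eq] at h
  exact h.2

theorem adj_iff {u v : ℕ} : adj u v = true ↔ u ≠ v ∧ C u v = v := by
  simp [adj, Bool.and_eq_true, ← Bool.not_eq_true, Nat.beq_eq]

theorem lin_lt {l i : ℕ} (hl : l < 27) (hi : i < 5) : lin l i < 45 := by
  have h := spec lines_ok hl
  simp only [lineOK, Bool.and_eq_true] at h
  have h1 := spec h.1.1 hi
  simp only [Bool.and_eq_true, Nat.blt_eq] at h1
  exact h1.1

theorem lin_adj {l i j : ℕ} (hl : l < 27) (hi : i < 5) (hj : j < 5) (hne : i ≠ j) :
    adj (lin l i) (lin l j) = true := by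
  have h := spec lines_ok hl
  simp only [lineOK, Bool.and_eq_true] at h
  have h1 := spec h.1.1 hi
  simp only [Bool.and_eq_true] at h1
  have h2 := spec h1.2 hj
  simp only [Bool.or_eq_true, Nat.beq_eq] at h2
  exact h2.resolve_left hne

theorem line_one {l c : ℕ} (hl : l < 27) (hc : c < 45) (h : c ∉ linePts l) :
    (linePts l).countP (fun a => adj c a) = 1 := by
  have h0 := spec lines_ok hl
  simp only [lineOK, Bool.and_eq_true] at h0
  have h1 := spec h0.1.2 hc
  simp only [Bool.or_eq_true, Nat.beq_eq, List.contains_iff_mem] at h1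
  exact h1.resolve_left h

theorem line_prod {l c : ℕ} (hl : l < 27) (hc : c < 45) :
    C (lin l 4) (C (lin l 3) (C (lin l 2) (C (lin l 1) (C (lin l 0) c)))) = c := by
  have h0 := spec lines_ok hl
  simp only [lineOK, Bool.and_eq_true] at h0
  have h1 := spec h0.2 hc
  simpa only [Nat.beq_eq] using h1

theorem mem_linePts {l a : ℕ} : a ∈ linePts l ↔ ∃ i < 5, lin l i = a := by
  constructor
  · intro h
    simp only [linePts, List.mem_cons, List.not_mem_nil, or_false] at h
    rcases h with rfl | rfl | rfl | rfl | rfl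
    exacts [⟨0, by omega, rfl⟩, ⟨1, by omega, rfl⟩, ⟨2, by omega, rfl⟩, ⟨3, by omega, rfl⟩,
      ⟨4, by omega, rfl⟩]
  · rintro ⟨i, hi, rfl⟩
    interval_cases i <;> simp [linePts]

theorem linePts_lt {l a : ℕ} (hl : l < 27) (h : a ∈ linePts l) : a < 45 := by
  obtain ⟨i, hi, rfl⟩ := mem_linePts.mp h
  exact lin_lt hl hi

theorem lin_inj {l i j : ℕ} (hl : l < 27) (hi : i < 5) (hj : j < 5) (h : lin l i = lin l j) : i = j := by
  by_contra hne
  exact (adj_iff.mp (lin_adj hl hi hj hne)).1 h

theorem linePts_nodup {l : ℕ} (hl : l < 27) : (linePts l).Nodup := by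
  have : linePts l = (List.range 5).map (lin l) := rfl
  rw [this]
  exact List.nodup_range.map_on fun i hi j hj e =>
    lin_inj hl (List.mem_range.mp hi) (List.mem_range.mp hj) e

theorem linePts_adj {l a b : ℕ} (hl : l < 27) (ha : a ∈ linePts l) (hb : b ∈ linePts l) (hne : a ≠ b) :
    adj a b = true := by
  obtain ⟨i, hi, rfl⟩ := mem_linePts.mp ha
  obtain ⟨j, hj, rfl⟩ := mem_linePts.mp hb
  exact lin_adj hl hi hj fun e => hne (by rw [e])

theorem pair_line {a b : ℕ} (ha : a < 45) (hb : b < 45) (h : adj a b = true) :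
    ∃ l < 27, a ∈ linePts l ∧ b ∈ linePts l := by
  have h1 := spec (spec pairs_ok ha) hb
  rw [h] at h1
  by_contra hcon
  have h2 : allBelow (fun l => !((linePts l).contains a && (linePts l).contains b)) 27 = true := by
    refine allBelow_of_forall fun l hl => ?_
    simp only [Bool.not_eq_true', Bool.and_eq_false_iff]
    by_contra h3
    simp only [not_or, Bool.not_eq_false, List.contains_iff_mem] at h3
    exact hcon ⟨l, hl, h3.1, h3.2⟩
  rw [h2] at h1
  exact Bool.false_ne_true h1
where allBelow_of_forall {f : ℕ → Bool} : ∀ {n : ℕ}, (∀ k < n, f k = true) → allBelow f n = true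
  | 0, _ => rfl
  | n + 1, h => by
    show (f n && allBelow f n) = true
    rw [h n (Nat.lt_succ_self n), allBelow_of_forall fun k hk => h k (Nat.lt_succ_of_lt hk)]
    rfl

/-- A clique of five is a line. -/
theorem five_line {s : List ℕ} (hs : s.Nodup) (hlen : s.length = 5) (hlt : ∀ a ∈ s, a < 45)
    (hadj : ∀ a ∈ s, ∀ b ∈ s, a ≠ b → adj a b = true) :
    ∃ l < 27, ∀ a, a ∈ s ↔ a ∈ linePts l := by
  match s, hlen with
  | [a, b, c, d, e], _ =>
    have hab : a ≠ b := by intro e'; subst e'; simp at hs
    obtain ⟨l, hl, ha, hb⟩ := pair_line (hlt a (by simp)) (hlt b (by simp))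
      (hadj a (by simp) b (by simp) hab)
    have hsub : ∀ x ∈ [a, b, c, d, e], x ∈ linePts l := by
      intro x hx
      by_contra hxl
      have h1 := line_one hl (hlt x hx) hxl
      have h2 : 2 ≤ (linePts l).countP fun r => adj x r := by
        have hsub : [a, b].Subperm ((linePts l).filter fun r => adj x r) := by
          refine List.subperm_of_subset (by simp [hab]) fun r hr => ?_
          rw [List.mem_filter]
          simp only [List.mem_cons, List.not_mem_nil, or_false] at hr
          rcases hr with rfl | rfl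
          · exact ⟨ha, hadj x hx _ (by simp) fun e => hxl (e ▸ ha)⟩
          · exact ⟨hb, hadj x hx _ (by simp) fun e => hxl (e ▸ hb)⟩
        rw [List.countP_eq_length_filter]
        simpa using hsub.length_le
      omega
    refine ⟨l, hl, fun x => ⟨fun hx => hsub x hx, fun hx => ?_⟩⟩
    have hp : List.Subperm [a, b, c, d, e] (linePts l) := List.subperm_of_subset hs hsub
    exact (hp.perm_of_length_le (by simp [linePts])).mem_iff.mpr hx

theorem through {u : ℕ} (hu : u < 45) :
    ((List.range 27).countP fun l => (linePts l).contains u) = 3 := by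
  have h := spec through_ok hu
  simp only [Bool.and_eq_true, Nat.beq_eq] at h
  exact h.1.1

theorem deg_twelve {u : ℕ} (hu : u < 45) : ((List.range 45).countP fun v => adj u v) = 12 := by
  have h := spec through_ok hu
  simp only [Bool.and_eq_true, Nat.beq_eq] at h
  exact h.1.2

theorem moves {u : ℕ} (hu : u < 45) : ∃ v < 45, C u v ≠ v := by
  have h := spec through_ok hu
  simp only [Bool.and_eq_true, Bool.not_eq_true'] at h
  by_contra hcon
  push Not at hcon
  have h2 : allBelow (fun v => Nat.beq (C u v) v) 45 = true :=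
    pair_line.allBelow_of_forall fun v hv => by simp only [Nat.beq_eq]; exact hcon v hv
  rw [h2] at h
  exact absurd h.2 (by simp)

theorem img_lt {u k : ℕ} (hu : u < 45) (hk : k < 40) : img u k < 40 := by
  have h := spec (spec img_ok hu) hk
  simp only [Bool.and_eq_true, Nat.blt_eq] at h
  exact h.1

theorem mem_img {u k v : ℕ} (hu : u < 45) (hk : k < 40) (hv : v < 45) :
    mem (img u k) (C u v) = mem k v := by
  have h := spec (spec img_ok hu) hk
  simp only [Bool.and_eq_true] at h
  simpa using spec h.2 hv

theorem frame_inj {k k' : ℕ} (hk : k < 40) (hk' : k' < 40) (h : ∀ v < 45, mem k v = mem k' v) :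
    k = k' := by
  have h0 := spec frames_ok hk
  rw [Bool.and_eq_true] at h0
  have h1 := spec h0.1 hk'
  simp only [Bool.or_eq_true, Nat.beq_eq, Bool.not_eq_true'] at h1
  rcases h1 with h1 | h1
  · exact h1
  · rw [pair_line.allBelow_of_forall fun v hv => by simp [h v hv]] at h1
    exact absurd h1 (by simp)

theorem frame_card {k : ℕ} (hk : k < 40) : ((List.range 45).countP (mem k)) = 18 := by
  have h0 := spec frames_ok hk
  simp only [Bool.and_eq_true, Nat.beq_eq] at h0
  exact h0.2

theorem img_invol {u k : ℕ} (hu : u < 45) (hk : k < 40) : img u (img u k) = k :=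
  frame_inj (img_lt hu (img_lt hu hk)) hk fun v hv => by
    conv_lhs => rw [← C_invol hu hv]
    rw [mem_img hu (img_lt hu hk) (C_lt hu hv), mem_img hu hk hv]

/-! ### Braids in a group -/

section braid

variable {W : Type*} [Group W] {a b c x : W}

/-- The first involution commutes with the fourth. -/
theorem star_one (ha : a * a = 1) (hb : b * b = 1) (hc : c * c = 1) (hx : x * x = 1)
    (hab : a * b = b * a) (hac : a * c = c * a) (hbc : b * c = c * b)
    (xa : x * a * x = a * x * a) (xb : x * b * x = b * x * b) (xc : x * c * x = c * x * c) :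
    a * (x * (a * b * c) * x * (a * b * c) * x) = x * (a * b * c) * x * (a * b * c) * x * a := by
  have hu : a * b * c = c * b * a := by
    rw [mul_assoc a b c, hbc, ← mul_assoc, hac, mul_assoc, hab, ← mul_assoc]
  set y := b * c * x * c * b with hy
  have h1 : x * y * x = y := by
    calc x * y * x = x * b * (c * x * c) * b * x := by rw [hy]; group
      _ = x * b * (x * c * x) * b * x := by rw [xc]
      _ = (x * b * x) * c * (x * b * x) := by group
      _ = b * x * (b * c * b) * x * b := by rw [xb]; group
      _ = b * (x * c * x) * b := by rw [hbc, mul_assoc c b b, hb, mul_one]; group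
      _ = y := by rw [xc, hy]; group
  set f := x * (a * b * c) * x * (a * b * c) * x with hf
  have h2 : f = x * a * y * a * x := by
    rw [hf]
    conv_lhs => arg 1; arg 2; rw [hu]
    rw [hy]; group
  have h3 : a * f * a = f := by
    calc a * f * a = (a * x * a) * y * (a * x * a) := by rw [h2]; group
      _ = x * a * (x * y * x) * a * x := by rw [← xa]; group
      _ = f := by rw [h1, ← h2]
  calc a * f = a * f * (a * a) := by rw [ha, mul_one]
    _ = a * f * a * a := by group
    _ = f * a := by rw [h3]

/-- The fourth involution of the configuration of type `D₄`. -/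
theorem star (ha : a * a = 1) (hb : b * b = 1) (hc : c * c = 1) (hx : x * x = 1)
    (hab : a * b = b * a) (hac : a * c = c * a) (hbc : b * c = c * b)
    (xa : x * a * x = a * x * a) (xb : x * b * x = b * x * b) (xc : x * c * x = c * x * c) :
    let u := a * b * c
    let f := x * u * x * u * x
    f = (x * b * c * x) * a * (x * b * c * x)⁻¹ ∧ a * f = f * a ∧ b * f = f * b ∧ c * f = f * c ∧
      u * f = f * u ∧ x * (u * f) = u * f * x := by
  intro u f
  have h1 : a * f = f * a := star_one ha hb hc hx hab hac hbc xa xb xc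
  have e1 : b * a * c = u := by rw [← hab]
  have e2 : c * a * b = u := by rw [← hac, mul_assoc, ← hbc, ← mul_assoc]
  have h2 : b * f = f * b := by
    have := star_one hb ha hc hx hab.symm hbc hac xb xa xc
    rwa [e1] at this
  have h3 : c * f = f * c := by
    have := star_one hc ha hb hx hac.symm hbc.symm hab xc xa xb
    rwa [e2] at this
  have h4 : u * f = f * u := ((Commute.mul_left h1 h2).mul_left h3).eq
  refine ⟨?_, h1, h2, h3, h4, ?_⟩
  · have e3 : u = b * c * a := by rw [mul_assoc, ← hac, ← mul_assoc]; exact e1.symm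
    have e4 : u = a * (b * c) := mul_assoc a b c
    have ei : (x * b * c * x)⁻¹ = x * b * c * x := by
      rw [mul_inv_rev, mul_inv_rev, mul_inv_rev, inv_eq_of_mul_eq_one_right hb,
        inv_eq_of_mul_eq_one_right hc, inv_eq_of_mul_eq_one_right hx]
      rw [← mul_assoc c b x, ← hbc]
      group
    rw [ei]
    calc f = x * (b * c * a) * x * (a * (b * c)) * x := by
          show x * u * x * u * x = _
          conv_lhs => arg 1; arg 2; rw [e4]
          conv_lhs => arg 1; arg 1; arg 1; arg 2; rw [e3]
      _ = x * (b * c) * (a * x * a) * (b * c) * x := by group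
      _ = _ := by rw [← xa]; group
  · calc x * (u * f) = x * u * x * u * x * u * x := by simp only [f]; group
      _ = f * u * x := by simp only [f]
      _ = u * f * x := by rw [h4]

end braid

/-! ### The space -/

variable {Ω : Type*} [Fintype Ω] [DecidableEq Ω]

/-- The axioms. -/
structure Space (t : Ω → Equiv.Perm Ω) (q : Ω) (ι : ℕ → Ω) : Prop where
  card : Fintype.card Ω = 126
  invol : ∀ p, t p * t p = 1
  fix : ∀ p, t p p = p
  conj : ∀ p r, t (t p r) = t p * t r * t p
  symm : ∀ p r, t p r ≠ r → t p r = t r p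
  near : ∀ p, (p ≠ q ∧ t q p = p) ↔ ∃ u < 45, ι u = p
  inj : ∀ u < 45, ∀ v < 45, ι u = ι v → u = v
  equiv : ∀ u < 45, ∀ v < 45, t (ι u) (ι v) = ι (C u v)
  hom : ∀ p, ∃ g : Equiv.Perm Ω, g q = p ∧ ∀ r, t (g r) = g * t r * g⁻¹

variable {t : Ω → Equiv.Perm Ω} {q : Ω} {ι : ℕ → Ω} (S : Space t q ι)
include S

theorem invol_apply (p r : Ω) : t p (t p r) = r := by
  rw [← Equiv.Perm.mul_apply, S.invol, Equiv.Perm.one_apply]

theorem inv_t (p : Ω) : (t p)⁻¹ = t p := inv_eq_of_mul_eq_one_right (S.invol p)

theorem fixed_symm {p r : Ω} (h : t p r = r) : t r p = p := by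
  by_contra hn
  have := S.symm r p hn
  exact hn (this.trans (by
    rw [h] at this
    have h1 : t r (t r p) = t r r := by rw [this]
    rw [invol_apply S, S.fix] at h1
    rw [h]; exact h1.symm))

theorem commute_of_fixed {p r : Ω} (h : t p r = r) : Commute (t p) (t r) := by
  have h1 := S.conj p r
  rw [h] at h1
  calc t p * t r = t p * t r * (t p * t p) := by rw [S.invol, mul_one]
    _ = (t p * t r * t p) * t p := by group
    _ = t r * t p := by rw [← h1]

theorem braid {p r : Ω} (h : t p r ≠ r) : t p * t r * t p = t r * t p * t r := by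
  rw [← S.conj, ← S.conj, S.symm p r h]

theorem far_ne {x : Ω} (h : t q x ≠ x) : x ≠ q ∧ ∀ u < 45, ι u ≠ x :=
  ⟨fun e => h (e ▸ S.fix q), fun u hu e => h ((S.near x).mpr ⟨u, hu, e⟩).2⟩

theorem iota_fix {u : ℕ} (hu : u < 45) : t q (ι u) = ι u ∧ t (ι u) q = q :=
  ⟨((S.near _).mpr ⟨u, hu, rfl⟩).2, fixed_symm S ((S.near _).mpr ⟨u, hu, rfl⟩).2⟩

theorem iota_ne {u : ℕ} (hu : u < 45) : ι u ≠ q := ((S.near _).mpr ⟨u, hu, rfl⟩).1

/-- The transported nearness. -/
theorem near_map {g : Equiv.Perm Ω} (hg : ∀ r, t (g r) = g * t r * g⁻¹) (a b : Ω) :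
    t (g a) (g b) = g (t a b) := by
  rw [hg]; simp

/-- The neighbours of any point. -/
theorem nbrs (p : Ω) : ∃ g : Equiv.Perm Ω, g q = p ∧ (∀ r, t (g r) = g * t r * g⁻¹) ∧
    ∀ r, (r ≠ p ∧ t p r = r) ↔ ∃ u < 45, g (ι u) = r := by
  obtain ⟨g, hgq, hg⟩ := S.hom p
  refine ⟨g, hgq, hg, fun r => ?_⟩
  obtain ⟨r, rfl⟩ := g.surjective r
  rw [← hgq, near_map S hg, g.injective.eq_iff, g.injective.ne_iff]
  simp only [g.injective.eq_iff]
  exact S.near r

open Classical in
/-- Every point is near exactly 45 others. -/
theorem card_near (p : Ω) : (Finset.univ.filter fun r => r ≠ p ∧ t p r = r).card = 45 := by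
  obtain ⟨g, -, -, hg⟩ := nbrs S p
  have : (Finset.univ.filter fun r => r ≠ p ∧ t p r = r) =
      (Finset.range 45).image fun u => g (ι u) := by
    ext r
    simp only [Finset.mem_filter, Finset.mem_univ, true_and, Finset.mem_image, Finset.mem_range]
    exact hg r
  rw [this, Finset.card_image_of_injOn, Finset.card_range]
  intro a ha b hb e
  exact S.inj a (Finset.mem_range.mp ha) b (Finset.mem_range.mp hb) (g.injective e)

/-- The involutions determine the points. -/
theorem t_inj {p r : Ω} (h : t p = t r) : p = r := by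
  classical
  obtain ⟨y, hy⟩ : ∃ y, t p y ≠ y := by
    by_contra hcon
    push Not at hcon
    have h1 := card_near S p
    have h2 : (Finset.univ.filter fun z => z ≠ p ∧ t p z = z) = Finset.univ.erase p := by
      ext z; simp [hcon z]
    rw [h2, Finset.card_erase_of_mem (Finset.mem_univ _), Finset.card_univ, S.card] at h1
    omega
  refine (t y).injective ?_
  rw [← S.symm p y hy, ← S.symm r y (h ▸ hy), h]

theorem map_eq_of_commute {g : Equiv.Perm Ω} {x : Ω} (hx : t (g x) = g * t x * g⁻¹)
    (h : Commute g (t x)) : g x = x :=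
  t_inj S (by rw [hx, h.eq, mul_inv_cancel_right])

/-- The points near `q` commuting with a far point. -/
def Sset (t : Ω → Equiv.Perm Ω) (ι : ℕ → Ω) (x : Ω) (u : ℕ) : Prop := t x (ι u) = ι u

theorem sset_closed {x : Ω} {u v : ℕ} (hu : u < 45) (hv : v < 45) (h1 : Sset t ι x u)
    (h2 : Sset t ι x v) : Sset t ι x (C u v) := by
  rw [Sset, ← S.equiv u hu v hv, ← Equiv.Perm.mul_apply, (commute_of_fixed S h1).eq,
    Equiv.Perm.mul_apply, h2]

/-- A line through a point of the set meets it once more. -/
theorem sset_line {x : Ω} (hx : t q x ≠ x) {l u : ℕ} (hl : l < 27) (hu : u ∈ linePts l)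
    (h : Sset t ι x u) :
    ((linePts l).filter fun v => decide (v ≠ u) && decide (t x (ι v) = ι v)).length = 1 := by
  classical
  have hu45 := linePts_lt hl hu
  obtain ⟨g, hgu, hg, hn⟩ := nbrs S (ι u)
  obtain ⟨a, ha, hax⟩ := (hn x).mp ⟨fun e => ((far_ne S hx).2 u hu45) e.symm, fixed_symm S h⟩
  obtain ⟨w, hw, hwq⟩ := (hn q).mp ⟨(iota_ne S hu45).symm, (iota_fix S hu45).2⟩
  have hpre : ∀ v ∈ linePts l, v ≠ u → ∃ b < 45, g (ι b) = ι v := fun v hv hne =>
    (hn (ι v)).mp ⟨fun e => hne (S.inj v (linePts_lt hl hv) u hu45 e), by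
      rw [S.equiv u hu45 v (linePts_lt hl hv), (adj_iff.mp (linePts_adj hl hu hv hne.symm)).2]⟩
  have hcomm : ∀ b < 45, ∀ b' < 45, (adj b b' = true ↔
      g (ι b) ≠ g (ι b') ∧ t (g (ι b)) (g (ι b')) = g (ι b')) := by
    intro b hb b' hb'
    rw [adj_iff, near_map S hg, g.injective.ne_iff, g.injective.eq_iff, S.equiv b hb b' hb']
    constructor
    · exact fun h => ⟨fun e => h.1 (S.inj _ hb _ hb' e), by rw [h.2]⟩
    · exact fun h => ⟨fun e => h.1 (by rw [e]), S.inj _ (C_lt hb hb') _ hb' h.2⟩
  choose! pre hpre45 hpre' using hpre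
  set L' := (linePts l).erase u with hL'
  have hnd := linePts_nodup hl
  have hmem' : ∀ v, v ∈ L' ↔ v ≠ u ∧ v ∈ linePts l := fun v => hnd.mem_erase_iff
  have hlen : L'.length = 4 := by rw [hL', List.length_erase_of_mem hu]; rfl
  have hnd' : (L'.map pre).Nodup := (hnd.erase u).map_on fun v hv v' hv' e => by
    obtain ⟨h1, h2⟩ := (hmem' v).mp hv
    obtain ⟨h3, h4⟩ := (hmem' v').mp hv'
    refine S.inj v (linePts_lt hl h2) v' (linePts_lt hl h4) ?_
    rw [← hpre' v h2 h1, ← hpre' v' h4 h3, e]
  have hwn : w ∉ L'.map pre := fun h' => by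
    obtain ⟨v, hv, e⟩ := List.mem_map.mp h'
    obtain ⟨h1, h2⟩ := (hmem' v).mp hv
    exact iota_ne S (linePts_lt hl h2) (by rw [← hpre' v h2 h1, e, hwq])
  have hlt : ∀ b ∈ w :: L'.map pre, b < 45 := by
    intro b hb
    rcases List.mem_cons.mp hb with rfl | hb
    · exact hw
    · obtain ⟨v, hv, rfl⟩ := List.mem_map.mp hb
      exact hpre45 v ((hmem' v).mp hv).2 ((hmem' v).mp hv).1
  have hfive : ∀ b ∈ w :: L'.map pre, g (ι b) = q ∨ ∃ v ∈ L', g (ι b) = ι v := by
    intro b hb
    rcases List.mem_cons.mp hb with rfl | hb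
    · exact Or.inl hwq
    · obtain ⟨v, hv, rfl⟩ := List.mem_map.mp hb
      exact Or.inr ⟨v, hv, hpre' v ((hmem' v).mp hv).2 ((hmem' v).mp hv).1⟩
  obtain ⟨m, hm, hmm⟩ := five_line (List.nodup_cons.mpr ⟨hwn, hnd'⟩)
    (by simp [hlen]) hlt (fun b hb b' hb' hne => (hcomm b (hlt b hb) b' (hlt b' hb')).mpr
      ⟨fun e => hne (S.inj b (hlt b hb) b' (hlt b' hb') (g.injective e)), by
        rcases hfive b hb with e | ⟨v, hv, e⟩ <;> rcases hfive b' hb' with e' | ⟨v', hv', e'⟩
        · rw [e, e', S.fix]
        · rw [e, e', (iota_fix S (linePts_lt hl ((hmem' v').mp hv').2)).1]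
        · rw [e, e', (iota_fix S (linePts_lt hl ((hmem' v).mp hv).2)).2]
        · have h2 := ((hmem' v).mp hv).2
          have h4 := ((hmem' v').mp hv').2
          by_cases hvv : v = v'
          · rw [e, e', hvv, S.fix]
          rw [e, e', S.equiv v (linePts_lt hl h2) v' (linePts_lt hl h4),
            (adj_iff.mp (linePts_adj hl h2 h4 hvv)).2]⟩)
  have hanot : a ∉ linePts m := fun h' => by
    rcases hfive a ((hmm a).mpr h') with e | ⟨v, hv, e⟩
    · exact (far_ne S hx).1 (hax.symm.trans e)
    · exact (far_ne S hx).2 v (linePts_lt hl ((hmem' v).mp hv).2) (e.symm.trans hax)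
  have h1 := line_one hm ha hanot
  have hperm : (linePts m).Perm (w :: L'.map pre) :=
    ((List.perm_ext_iff_of_nodup (List.nodup_cons.mpr ⟨hwn, hnd'⟩) (linePts_nodup hm)).mpr hmm).symm
  rw [hperm.countP_eq, List.countP_cons, List.countP_map] at h1
  have haw : adj a w = false := by
    rw [← Bool.not_eq_true, hcomm a ha w hw, hax, hwq]
    exact fun h' => hx (fixed_symm S h'.2)
  rw [haw] at h1
  simp only [Bool.false_eq_true, if_false, add_zero] at h1
  rw [← List.countP_eq_length_filter]
  calc ((linePts l).countP fun v => decide (v ≠ u) && decide (t x (ι v) = ι v))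
      = L'.countP fun v => decide (v ≠ u) && decide (t x (ι v) = ι v) := by
        rw [(List.perm_cons_erase hu).countP_eq, List.countP_cons]
        simp [hL']
    _ = L'.countP ((fun r => adj a r) ∘ pre) := List.countP_congr fun v hv => by
        obtain ⟨h1', h2'⟩ := (hmem' v).mp hv
        simp only [Function.comp_apply, Bool.and_eq_true, decide_eq_true_eq]
        rw [hcomm a ha _ (hpre45 v h2' h1'), hax, hpre' v h2' h1']
        exact ⟨fun h' => ⟨((far_ne S hx).2 v (linePts_lt hl h2')).symm, h'.2⟩, fun h' => ⟨h1', h'.2⟩⟩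
    _ = 1 := h1

open Classical in
/-- The count on one line. -/
theorem line_count {x : Ω} (hx : t q x ≠ x) {l : ℕ} (hl : l < 27) :
    ((linePts l).countP fun v => decide (Sset t ι x v)) = 0 ∨
      ((linePts l).countP fun v => decide (Sset t ι x v)) = 2 := by
  by_cases h : ∃ u ∈ linePts l, Sset t ι x u
  · obtain ⟨u, hu, hs⟩ := h
    refine Or.inr ?_
    have h1 := sset_line S hx hl hu hs
    rw [← List.countP_eq_length_filter, (List.perm_cons_erase hu).countP_eq, List.countP_cons] at h1
    rw [(List.perm_cons_erase hu).countP_eq, List.countP_cons]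
    simp only [hs, decide_true, if_true]
    simp only [ne_eq, not_true_eq_false, decide_false, Bool.false_and, Bool.false_eq_true,
      if_false, add_zero] at h1
    rw [List.countP_congr (q := fun v => decide (v ≠ u) && decide (t x (ι v) = ι v))
      fun v hv => by
        simp only [decide_eq_true_eq, Bool.and_eq_true]
        exact ⟨fun h => ⟨((linePts_nodup hl).mem_erase_iff.mp hv).1, h⟩, fun h => h.2⟩]
    simp only [ne_eq] at h1 ⊢
    rw [h1]
  · refine Or.inl (List.countP_eq_zero.mpr fun v hv => ?_)
    simp only [decide_eq_true_eq]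
    exact fun hs => h ⟨v, hv, hs⟩

open Classical in
/-- Twenty seven lines each with at most two points. -/
theorem set_le {x : Ω} (hx : t q x ≠ x) :
    3 * ((Finset.range 45).filter (Sset t ι x)).card =
      ∑ l ∈ Finset.range 27, (linePts l).countP (fun v => decide (Sset t ι x v)) := by
  have h1 : ∀ l ∈ Finset.range 27, (linePts l).countP (fun v => decide (Sset t ι x v)) =
      ∑ v ∈ (Finset.range 45).filter (Sset t ι x), if v ∈ linePts l then 1 else 0 := by
    intro l hl
    rw [Finset.sum_boole, Nat.cast_id, List.countP_eq_length_filter,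
      ← List.toFinset_card_of_nodup ((linePts_nodup (Finset.mem_range.mp hl)).filter _)]
    congr 1
    ext v
    simp only [List.mem_toFinset, List.mem_filter, decide_eq_true_eq, Finset.mem_filter, Finset.mem_range]
    exact ⟨fun h => ⟨⟨linePts_lt (Finset.mem_range.mp hl) h.1, h.2⟩, h.1⟩, fun h => ⟨h.2, h.1.2⟩⟩
  rw [Finset.sum_congr rfl h1, Finset.sum_comm, mul_comm]
  refine (Finset.sum_const_nat fun v hv => ?_).symm
  rw [Finset.sum_boole, Nat.cast_id]
  have h2 := through (Finset.mem_range.mp (Finset.mem_filter.mp hv).1)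
  rw [List.countP_eq_length_filter, ← List.toFinset_card_of_nodup (List.nodup_range.filter _)] at h2
  refine Eq.trans (congrArg Finset.card ?_) h2
  ext l
  simp [List.contains_iff_mem]

theorem iota_far_count {u : ℕ} (hu : u < 45) [DecidablePred fun r => t q r ≠ r] :
    ((Finset.univ.filter fun r => t q r ≠ r).filter fun r => t r (ι u) = ι u).card = 32 := by
  classical
  set N := Finset.univ.filter fun r => r ≠ ι u ∧ t (ι u) r = r with hN
  have h45 := card_near S (ι u)
  set M := insert q (((Finset.range 45).filter fun v => adj u v = true).image ι) with hM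
  have hMN : M ⊆ N := by
    intro r hr
    rw [hM, Finset.mem_insert, Finset.mem_image] at hr
    rw [hN, Finset.mem_filter]
    rcases hr with rfl | ⟨v, hv, rfl⟩
    · exact ⟨Finset.mem_univ _, (iota_ne S hu).symm, (iota_fix S hu).2⟩
    · simp only [Finset.mem_filter, Finset.mem_range] at hv
      exact ⟨Finset.mem_univ _, fun e => (adj_iff.mp hv.2).1 (S.inj _ hv.1 _ hu e).symm,
        by rw [S.equiv u hu v hv.1, (adj_iff.mp hv.2).2]⟩
  have hcM : M.card = 13 := by
    rw [hM, Finset.card_insert_of_notMem, Finset.card_image_of_injOn]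
    · have := deg_twelve hu
      rw [List.countP_eq_length_filter, ← List.toFinset_card_of_nodup (List.nodup_range.filter _)] at this
      rw [show (Finset.range 45).filter (fun v => adj u v = true) =
        ((List.range 45).filter fun v => adj u v).toFinset by ext v; simp]
      omega
    · exact fun a ha b hb e => S.inj a (Finset.mem_range.mp (Finset.mem_filter.mp ha).1) b
        (Finset.mem_range.mp (Finset.mem_filter.mp hb).1) e
    · rw [Finset.mem_image]
      rintro ⟨v, hv, e⟩
      exact iota_ne S (Finset.mem_range.mp (Finset.mem_filter.mp hv).1) e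
  have heq : (Finset.univ.filter fun r => t q r ≠ r).filter (fun r => t r (ι u) = ι u) = N \ M := by
    ext r
    simp only [hN, Finset.mem_filter, Finset.mem_univ, true_and, Finset.mem_sdiff, hM,
      Finset.mem_insert, Finset.mem_image, Finset.mem_range, not_or]
    constructor
    · rintro ⟨h1, h2⟩
      exact ⟨⟨((far_ne S h1).2 u hu).symm, fixed_symm S h2⟩, (far_ne S h1).1,
        fun ⟨v, hv, e⟩ => (far_ne S h1).2 v hv.1 e⟩
    · rintro ⟨⟨h1, h2⟩, h3, h4⟩
      refine ⟨fun h => ?_, fixed_symm S h2⟩
      obtain ⟨v, hv, rfl⟩ := (S.near r).mp ⟨h3, h⟩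
      exact h4 ⟨v, ⟨hv, adj_iff.mpr ⟨fun e => h1 (by rw [e]),
        S.inj _ (C_lt hu hv) _ hv (by rw [← S.equiv u hu v hv, h2])⟩⟩, rfl⟩
  rw [heq, Finset.card_sdiff_of_subset hMN, hcM, hN, h45]

open Classical in
theorem line_two {x : Ω} (hx : t q x ≠ x) {l : ℕ} (hl : l < 27) :
    ((linePts l).countP fun v => decide (Sset t ι x v)) = 2 := by
  by_contra hne
  have hfar : (Finset.univ.filter fun r => t q r ≠ r).card = 80 := by
    have h1 := card_near S q
    have h2 : (Finset.univ.filter fun r => t q r ≠ r) =
        Finset.univ \ insert q (Finset.univ.filter fun r => r ≠ q ∧ t q r = r) := by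
      ext r
      simp only [Finset.mem_filter, Finset.mem_univ, true_and, Finset.mem_sdiff, Finset.mem_insert,
        not_or, not_and]
      exact ⟨fun h => ⟨fun e => h (e ▸ S.fix q), fun _ => h⟩, fun h => h.2 h.1⟩
    rw [h2, Finset.card_univ_diff, Finset.card_insert_of_notMem (by simp), h1, S.card]
  have hsum : ∑ r ∈ Finset.univ.filter (fun r => t q r ≠ r),
      ((Finset.range 45).filter (Sset t ι r)).card = 1440 := by
    calc _ = ∑ r ∈ Finset.univ.filter (fun r => t q r ≠ r),
          ∑ u ∈ Finset.range 45, (if Sset t ι r u then 1 else 0) :=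
        Finset.sum_congr rfl fun r _ => by rw [Finset.sum_boole, Nat.cast_id]
      _ = ∑ u ∈ Finset.range 45, ((Finset.univ.filter fun r => t q r ≠ r).filter
          fun r => t r (ι u) = ι u).card := by
        rw [Finset.sum_comm]
        exact Finset.sum_congr rfl fun u _ => by rw [Finset.sum_boole, Nat.cast_id]; congr 1; ext r; simp [Sset]
      _ = _ := by
        rw [Finset.sum_const_nat fun u hu => iota_far_count S (Finset.mem_range.mp hu)]; rfl
  have hle : ∀ r ∈ Finset.univ.filter (fun r => t q r ≠ r),
      ((Finset.range 45).filter (Sset t ι r)).card ≤ 18 := by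
    intro r hr
    have h1 := set_le S (Finset.mem_filter.mp hr).2
    have h2 : ∑ l ∈ Finset.range 27, (linePts l).countP (fun v => decide (Sset t ι r v)) ≤
        ∑ l ∈ Finset.range 27, 2 := Finset.sum_le_sum fun l hl => by
      rcases line_count S (Finset.mem_filter.mp hr).2 (Finset.mem_range.mp hl) with h | h <;> omega
    simp only [Finset.sum_const, Finset.card_range, smul_eq_mul] at h2
    omega
  have hlt : ((Finset.range 45).filter (Sset t ι x)).card < 18 := by
    have h1 := set_le S hx
    have h2 : ∑ i ∈ Finset.range 27, (linePts i).countP (fun v => decide (Sset t ι x v)) <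
        ∑ i ∈ Finset.range 27, 2 := Finset.sum_lt_sum (fun i hi => by
      rcases line_count S hx (Finset.mem_range.mp hi) with h | h <;> omega)
      ⟨l, Finset.mem_range.mpr hl, by rcases line_count S hx hl with h | h <;> omega⟩
    simp only [Finset.sum_const, Finset.card_range, smul_eq_mul] at h2
    omega
  have := Finset.sum_lt_sum hle ⟨x, by simp [hx], hlt⟩
  rw [hsum, Finset.sum_const, hfar, smul_eq_mul] at this
  omega

/-- The search. -/
theorem search_sound {x : Ω} (hx : t q x ≠ x) : ∀ {o ins outs : List ℕ}, search o ins outs = true →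
    (∀ u ∈ ins, u < 45 ∧ Sset t ι x u) → (∀ u ∈ outs, ¬ Sset t ι x u) → (∀ u ∈ o, u < 45) →
    ∃ k < 40, ∀ u < 45, (mem k u = true ↔ Sset t ι x u) := by
  intro o
  induction o with
  | nil =>
    intro ins outs h hi ho _
    simp only [search, Bool.not_eq_true'] at h
    by_contra hcon
    rw [pair_line.allBelow_of_forall fun k hk => ?_] at h
    · exact absurd h (by simp)
    rw [Bool.not_eq_true']
    by_contra hk'
    rw [Bool.not_eq_false] at hk'
    refine hcon ⟨k, hk, fun u hu => ?_⟩
    have h1 := spec hk' hu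
    simp only [Bool.or_eq_true, Bool.and_eq_true, List.contains_iff_mem, Bool.not_eq_true'] at h1
    rcases h1 with ⟨h1, h2⟩ | ⟨h1, h2⟩
    · exact iff_of_true h1 (hi u h2).2
    · exact iff_of_false (by simp [h1]) (ho u h2)
  | cons i r ih =>
    intro ins outs h hi ho hlt
    have hi45 := hlt i List.mem_cons_self
    have hbad : ∀ ins' outs' : List ℕ, (∀ u ∈ ins', u < 45 ∧ Sset t ι x u) →
        (∀ u ∈ outs', ¬ Sset t ι x u) → bad i ins' outs' = false := by
      intro ins' outs' hi' ho'
      rw [← Bool.not_eq_true]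
      intro hb
      simp only [bad, Bool.or_eq_true, List.any_eq_true, Bool.and_eq_true, List.contains_iff_mem,
        List.mem_range, Nat.blt_eq] at hb
      rcases hb with (⟨l, hl, -, hc⟩ | ⟨u, hu, hw, hii⟩) | ⟨u, hu, hw, hio⟩
      · classical
        have h2 := line_two S hx hl
        rcases hc with hc | hc
        · have : (linePts l).countP (fun a => ins'.contains a) ≤
              (linePts l).countP fun v => decide (Sset t ι x v) :=
            List.countP_mono_left fun a _ ha => by
              simp only [List.contains_iff_mem] at ha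
              simp [(hi' a ha).2]
          omega
        · have h3 : (linePts l).countP (fun a => outs'.contains a) ≤
              (linePts l).countP fun v => !decide (Sset t ι x v) :=
            List.countP_mono_left fun a _ ha => by
              simp only [List.contains_iff_mem] at ha
              simp [ho' a ha]
          have h4 := List.length_eq_countP_add_countP (fun v => decide (Sset t ι x v)) (l := linePts l)
          simp only [linePts, List.length_cons, List.length_nil] at h4
          simp only [linePts] at h2 h3 hc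
          simp only [Bool.not_eq_true] at h4
          simp only [Bool.decide_eq_false] at h4
          omega
      · exact ho' _ hw (sset_closed S (hi' i hii).1 (hi' u hu).1 (hi' i hii).2 (hi' u hu).2)
      · refine ho' _ hio ?_
        have := sset_closed S (hi' u hu).1 (hi' _ hw).1 (hi' u hu).2 (hi' _ hw).2
        rwa [C_invol (hi' u hu).1 hi45] at this
    simp only [search, Bool.and_eq_true, Bool.or_eq_true] at h
    by_cases hs : Sset t ι x i
    · have hi' : ∀ u ∈ i :: ins, u < 45 ∧ Sset t ι x u := by
        intro u hu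
        rcases List.mem_cons.mp hu with rfl | hu
        exacts [⟨hi45, hs⟩, hi u hu]
      exact ih (h.1.resolve_left (by simp [hbad _ _ hi' ho])) hi' ho
        fun u hu => hlt u (List.mem_cons_of_mem _ hu)
    · have ho' : ∀ u ∈ i :: outs, ¬ Sset t ι x u := by
        intro u hu
        rcases List.mem_cons.mp hu with rfl | hu
        exacts [hs, ho u hu]
      exact ih (h.2.resolve_left (by simp [hbad _ _ hi ho'])) hi ho'
        fun u hu => hlt u (List.mem_cons_of_mem _ hu)

theorem exists_frame {x : Ω} (hx : t q x ≠ x) :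
    ∃ k < 40, ∀ u < 45, (mem k u = true ↔ Sset t ι x u) :=
  search_sound S hx search_ok (by simp) (by simp) (by decide +kernel)

/-- The frame of a far point. -/
def HasFrame (t : Ω → Equiv.Perm Ω) (q : Ω) (ι : ℕ → Ω) (x : Ω) (k : ℕ) : Prop :=
  t q x ≠ x ∧ ∀ u < 45, (mem k u = true ↔ Sset t ι x u)

theorem far_move {x : Ω} (hx : t q x ≠ x) {u : ℕ} (hu : u < 45) :
    t q (t (ι u) x) = t (ι u) (t q x) ∧ t q (t (ι u) x) ≠ t (ι u) x := by
  have h1 : t q (t (ι u) x) = t (ι u) (t q x) := by
    rw [← Equiv.Perm.mul_apply, (commute_of_fixed S (iota_fix S hu).1).eq, Equiv.Perm.mul_apply]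
  exact ⟨h1, fun h => hx ((t (ι u)).injective (h1.symm.trans h))⟩

theorem hasFrame_move {x : Ω} {k : ℕ} (h : HasFrame t q ι x k) (hk : k < 40) {u : ℕ} (hu : u < 45) :
    HasFrame t q ι (t (ι u) x) (img u k) := by
  refine ⟨(far_move S h.1 hu).2, fun v hv => ?_⟩
  have h2 := h.2 (C u v) (C_lt hu hv)
  rw [← mem_img hu hk (C_lt hu hv), C_invol hu hv] at h2
  rw [h2, Sset, Sset, S.conj, Equiv.Perm.mul_apply, Equiv.Perm.mul_apply, S.equiv u hu v hv]
  constructor
  · intro h3
    rw [h3, ← S.equiv u hu v hv, invol_apply S]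
  · intro h3
    rw [← S.equiv u hu v hv] at h3 ⊢
    calc t x (t (ι u) (ι v)) = t (ι u) (t (ι u) (t x (t (ι u) (ι v)))) := (invol_apply S _ _).symm
      _ = _ := by rw [h3]

theorem tree_spec {k : ℕ} (hk : k < 40) : reaches 8 k = true ∧ par k < 40 ∧ via k < 45 ∧
    (k ≠ 0 → img (via k) (par k) = k) := by
  have h := spec tree_ok hk
  simp only [Bool.and_eq_true, Bool.or_eq_true, Nat.blt_eq, Nat.beq_eq] at h
  exact ⟨h.1.1.1, h.1.1.2, h.1.2, h.2.resolve_left⟩

theorem exists_root : ∃ x, HasFrame t q ι x 0 := by
  have key : ∀ n k, k < 40 → reaches n k = true → ∀ x, HasFrame t q ι x k →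
      ∃ x, HasFrame t q ι x 0 := by
    intro n
    induction n with
    | zero =>
      intro k _ h x hx
      simp only [reaches, Nat.beq_eq] at h
      exact ⟨x, h ▸ hx⟩
    | succ n ih =>
      intro k hk h x hx
      simp only [reaches, Bool.or_eq_true, Nat.beq_eq] at h
      rcases eq_or_ne k 0 with rfl | hk0
      · exact ⟨x, hx⟩
      obtain ⟨-, h1, h2, h3⟩ := tree_spec S hk
      have h4 := hasFrame_move S hx hk h2
      rw [show img (via k) k = par k from (congrArg (img (via k)) (h3 hk0)).symm.trans (img_invol h2 h1)] at h4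
      exact ih (par k) h1 (h.resolve_left hk0) _ h4
  classical
  obtain ⟨x, hx⟩ : ∃ x, t q x ≠ x := by
    by_contra hcon
    push Not at hcon
    have h1 := card_near S q
    have h2 : (Finset.univ.filter fun z => z ≠ q ∧ t q z = z) = Finset.univ.erase q := by
      ext z; simp [hcon z]
    rw [h2, Finset.card_erase_of_mem (Finset.mem_univ _), Finset.card_univ, S.card] at h1
    omega
  obtain ⟨k, hk, hS⟩ := exists_frame S hx
  exact key 8 k hk (tree_spec S hk).1 x ⟨hx, hS⟩

omit S

/-- The labelled points over the frames. -/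
def lab (t : Ω → Equiv.Perm Ω) (ι : ℕ → Ω) (x : Ω) : ℕ → ℕ → Ω
  | 0, _ => x
  | n + 1, k => bif Nat.beq k 0 then x else t (ι (via k)) (lab t ι x n (par k))

theorem lab_stable {x : Ω} : ∀ n k, reaches n k = true →
    lab t ι x (n + 1) k = lab t ι x n k := by
  intro n
  induction n with
  | zero =>
    intro k h
    simp only [reaches] at h
    simp [lab, h]
  | succ n ih =>
    intro k h
    simp only [reaches, Bool.or_eq_true] at h
    cases hk : Nat.beq k 0 with
    | true => simp [lab, hk]
    | false =>
      conv_lhs => rw [lab]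
      conv_rhs => rw [lab]
      simp only [hk, cond_false]
      rw [ih _ (h.resolve_left (by simp [hk]))]

/-- The point with a label. -/
def pf (t : Ω → Equiv.Perm Ω) (q : Ω) (ι : ℕ → Ω) (x : Ω) (k : ℕ) (b : Bool) : Ω :=
  bif b then t q (lab t ι x 8 k) else lab t ι x 8 k

include S

theorem lab_succ {x : Ω} {k : ℕ} (hk : k < 40) (h0 : k ≠ 0) :
    lab t ι x 8 k = t (ι (via k)) (lab t ι x 8 (par k)) := by
  obtain ⟨h, h1, -, -⟩ := tree_spec S hk
  have hk0 : Nat.beq k 0 = false := by rw [← Bool.not_eq_true, Nat.beq_eq]; exact h0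
  have hp : reaches 7 (par k) = true := by
    have h' : (Nat.beq k 0 || reaches 7 (par k)) = true := h
    rw [hk0] at h'
    simpa using h'
  calc lab t ι x 8 k = t (ι (via k)) (lab t ι x 7 (par k)) := by
        show (bif Nat.beq k 0 then x else t (ι (via k)) (lab t ι x 7 (par k))) = _
        rw [hk0]; rfl
    _ = _ := by rw [lab_stable 7 _ hp]

theorem lab_frame {x : Ω} (hx : HasFrame t q ι x 0) : ∀ n k, k < 40 → reaches n k = true →
    HasFrame t q ι (lab t ι x n k) k := by
  intro n
  induction n with
  | zero =>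
    intro k _ h
    simp only [reaches, Nat.beq_eq] at h
    subst h
    exact hx
  | succ n ih =>
    intro k hk h
    simp only [reaches, Bool.or_eq_true] at h
    cases hk0 : Nat.beq k 0 with
    | true =>
      rw [lab, hk0, cond_true, Nat.eq_of_beq_eq_true hk0]
      exact hx
    | false =>
      obtain ⟨-, h1, h2, h3⟩ := tree_spec S hk
      rw [lab, hk0, cond_false]
      have := hasFrame_move S (ih (par k) h1 (h.resolve_left (by simp [hk0]))) h1 h2
      rwa [h3 (fun e => by subst e; simp at hk0)] at this

/-- A value of the involution at a point near `q`. -/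
def Fact (t : Ω → Equiv.Perm Ω) (q : Ω) (ι : ℕ → Ω) (x : Ω) (u k : ℕ) : Prop :=
  u < 45 ∧ k < 40 ∧ t (ι u) (pf t q ι x k false) = pf t q ι x (img u k) (sig u k)

theorem pf_flip {x : Ω} (k : ℕ) (b : Bool) : t q (pf t q ι x k b) = pf t q ι x k (!b) := by
  cases b <;> simp [pf, invol_apply S]

theorem fact_use {x : Ω} {u k : ℕ} (h : Fact t q ι x u k) (b : Bool) :
    t (ι u) (pf t q ι x k b) = pf t q ι x (img u k) (xor b (sig u k)) := by
  obtain ⟨hu, -, h⟩ := h
  cases b
  · simpa using h
  · have e := pf_flip S (x := x) k false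
    rw [Bool.not_false] at e
    rw [← e, ← Equiv.Perm.mul_apply, ← (commute_of_fixed S (iota_fix S hu).1).eq,
      Equiv.Perm.mul_apply, h, pf_flip S]
    simp

set_option maxHeartbeats 1000000 in
/-- The product of the involutions on a line is the central one. -/
theorem line_rule {x : Ω} (hx : t q x ≠ x) {l : ℕ} (hl : l < 27) :
    t (ι (lin l 4)) (t (ι (lin l 3)) (t (ι (lin l 2)) (t (ι (lin l 1)) (t (ι (lin l 0)) x)))) = t q x := by
  classical
  have h2 := line_two S hx hl
  have hsplit := List.length_eq_countP_add_countP (fun v => decide (Sset t ι x v)) (l := linePts l)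
  set P := (linePts l).filter (fun v => decide (Sset t ι x v)) with hP
  set N := (linePts l).filter (fun v => !decide (Sset t ι x v)) with hN
  have hPl : P.length = 2 := by rw [hP, ← List.countP_eq_length_filter, h2]
  have hpermNP : (linePts l).Perm (N ++ P) :=
    ((List.filter_append_perm (fun v => decide (Sset t ι x v)) (linePts l)).symm).trans List.perm_append_comm
  have hNl : N.length = 3 := by
    have := hpermNP.length_eq
    rw [List.length_append, hPl] at this
    simpa [linePts] using this.symm
  obtain ⟨d, e, hPe⟩ := List.length_eq_two.mp hPl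
  obtain ⟨a, b, c, hNe⟩ := List.length_eq_three.mp hNl
  rw [hPe, hNe] at hpermNP
  have hmem : ∀ v ∈ [a, b, c, d, e], v ∈ linePts l := fun v hv => hpermNP.mem_iff.mpr (by simpa using hv)
  have hlt : ∀ v ∈ [a, b, c, d, e], v < 45 := fun v hv => linePts_lt hl (hmem v hv)
  have hnd : [a, b, c, d, e].Nodup := by
    have := hpermNP.nodup (linePts_nodup hl)
    simpa using this
  have hcomm : ∀ v ∈ [a, b, c, d, e], ∀ w ∈ [a, b, c, d, e], Commute (t (ι v)) (t (ι w)) := by
    intro v hv w hw
    rcases eq_or_ne v w with rfl | hne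
    · rfl
    refine commute_of_fixed S ?_
    rw [S.equiv v (hlt v hv) w (hlt w hw), (adj_iff.mp (linePts_adj hl (hmem v hv) (hmem w hw) hne)).2]
  have hprod : t (ι (lin l 4)) * t (ι (lin l 3)) * t (ι (lin l 2)) * t (ι (lin l 1)) * t (ι (lin l 0)) =
      t (ι a) * t (ι b) * t (ι c) * t (ι d) * t (ι e) := by
    have hp : ([lin l 4, lin l 3, lin l 2, lin l 1, lin l 0].map fun v => t (ι v)).Perm
        ([a, b, c, d, e].map fun v => t (ι v)) := by
      refine ((List.reverse_perm (linePts l)).trans ?_).map _
      simpa using hpermNP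
    have := hp.prod_eq' (List.pairwise_of_forall_mem_list fun p hp' r hr => by
      obtain ⟨v, hv, rfl⟩ := List.mem_map.mp hp'
      obtain ⟨w, hw, rfl⟩ := List.mem_map.mp hr
      refine hcomm v ?_ w ?_ <;>
      · have hperm' : [lin l 4, lin l 3, lin l 2, lin l 1, lin l 0].Perm [a, b, c, d, e] := by
          refine (List.reverse_perm (linePts l)).trans ?_
          simpa using hpermNP
        exact hperm'.mem_iff.mp (by assumption))
    simpa [mul_assoc] using this
  simp only [← Equiv.Perm.mul_apply, ← mul_assoc]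
  rw [hprod]
  have hd : t (ι d) x = x := fixed_symm S (by
    have : d ∈ P := by rw [hPe]; simp
    exact (decide_eq_true_iff (p := Sset t ι x _)).mp (List.mem_filter.mp this).2)
  have he : t (ι e) x = x := fixed_symm S (by
    have : e ∈ P := by rw [hPe]; simp
    exact (decide_eq_true_iff (p := Sset t ι x _)).mp (List.mem_filter.mp this).2)
  have hn : ∀ v ∈ [a, b, c], t x (ι v) ≠ ι v := fun v hv => by
    have : v ∈ N := by rw [hNe]; exact hv
    exact (decide_eq_false_iff_not (p := Sset t ι x v)).mp (by simpa only [Bool.not_eq_true'] using (List.mem_filter.mp this).2)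
  simp only [Equiv.Perm.mul_apply, hd, he]
  -- the fourth involution
  have hb3 : ∀ v ∈ [a, b, c], t x * t (ι v) * t x = t (ι v) * t x * t (ι v) := fun v hv =>
    braid S (hn v hv)
  obtain ⟨sf, sa, sb, sc, -, sx⟩ := star (S.invol (ι a)) (S.invol (ι b)) (S.invol (ι c)) (S.invol x)
    (hcomm a (by simp) b (by simp)).eq (hcomm a (by simp) c (by simp)).eq (hcomm b (by simp) c (by simp)).eq
    (hb3 a (by simp)) (hb3 b (by simp)) (hb3 c (by simp))
  set u := t (ι a) * t (ι b) * t (ι c) with hu
  have huu : u * u = 1 := by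
    have c1 := (hcomm a (by simp) b (by simp))
    have c2 := (hcomm a (by simp) c (by simp))
    have c3 := (hcomm b (by simp) c (by simp))
    rw [hu, ← pow_two, ((c2.mul_left c3)).mul_pow, c1.mul_pow, pow_two, pow_two, pow_two,
      S.invol, S.invol, S.invol, one_mul, one_mul]
  set f := t x (t (ι b) (t (ι c) (t x (ι a)))) with hf
  have htf : t f = t x * u * t x * u * t x := by
    rw [sf, hf, S.conj, S.conj, S.conj, S.conj]
    simp only [mul_inv_rev, inv_t S]
    group
  rw [← htf] at sa sb sc sx
  have hfix : u (t f x) = x := by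
    rw [← Equiv.Perm.mul_apply]
    refine t_inj S ?_
    have h1 : t ((u * t f) x) = (u * t f) * t x * (u * t f)⁻¹ := by
      simp only [hu, Equiv.Perm.mul_apply, S.conj, mul_inv_rev, inv_t S]
      group
    rw [h1, ← (show t x * (u * t f) = u * t f * t x from sx), mul_inv_cancel_right]
  have hffix : ∀ v ∈ [a, b, c], t (ι v) f = f := by
    intro v hv
    refine t_inj S ?_
    rw [S.conj]
    have hc' : t (ι v) * t f = t f * t (ι v) := by
      simp only [List.mem_cons, List.not_mem_nil, or_false] at hv
      rcases hv with rfl | rfl | rfl <;> assumption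
    rw [hc', mul_assoc, S.invol, mul_one]
  -- `f` is `q`
  have hfne : ∀ v ∈ [a, b, c], f ≠ ι v := by
    intro v hv e'
    have hrest : ∃ r ∈ [a, b, c], ∃ r' ∈ [a, b, c], r ≠ r' ∧ u * t (ι v) = t (ι r) * t (ι r') := by
      have n1 : a ≠ b ∧ a ≠ c ∧ b ≠ c := by
        simp only [List.nodup_cons, List.mem_cons, List.not_mem_nil, or_false, not_or] at hnd
        exact ⟨hnd.1.1, hnd.1.2.1, hnd.2.1.1⟩
      have cab := (hcomm a (by simp) b (by simp)).eq
      have cac := (hcomm a (by simp) c (by simp)).eq
      have cbc := (hcomm b (by simp) c (by simp)).eq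
      simp only [List.mem_cons, List.not_mem_nil, or_false] at hv
      rcases hv with rfl | rfl | rfl
      · refine ⟨b, by simp, c, by simp, n1.2.2, ?_⟩
        rw [hu, cab, mul_assoc (t (ι b)) (t (ι v)) (t (ι c)), cac, ← mul_assoc, mul_assoc, S.invol, mul_one]
      · refine ⟨a, by simp, c, by simp, n1.2.1, ?_⟩
        rw [hu, mul_assoc (t (ι a)) (t (ι v)) (t (ι c)), cbc, ← mul_assoc, mul_assoc, S.invol, mul_one]
      · refine ⟨a, by simp, b, by simp, n1.1, ?_⟩
        rw [hu, mul_assoc, S.invol, mul_one]
    obtain ⟨r, hr, r', hr', hne, e2⟩ := hrest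
    rw [e', ← Equiv.Perm.mul_apply, e2, Equiv.Perm.mul_apply] at hfix
    have h3 : t (ι r') x = t (ι r) x := by
      conv_rhs => rw [← hfix, invol_apply S]
    have h4 : ∀ v ∈ [a, b, c], t x (ι v) = t (ι v) x := fun v hv => S.symm x (ι v) (hn v hv)
    rw [← h4 r' hr', ← h4 r hr] at h3
    exact hne (S.inj r (hlt r (by simp only [List.mem_cons, List.not_mem_nil, or_false] at hr ⊢; tauto))
      r' (hlt r' (by simp only [List.mem_cons, List.not_mem_nil, or_false] at hr' ⊢; tauto))
      ((t x).injective h3).symm)
  have hfq : f = q := by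
    by_contra hfq
    -- a common neighbour of the three near `q` is on the line
    obtain ⟨g, hga, hg, hgn⟩ := nbrs S (ι a)
    have hgq := (hgn q).mp ⟨(iota_ne S (hlt a (by simp))).symm, (iota_fix S (hlt a (by simp))).2⟩
    have hgb := (hgn (ι b)).mp ⟨fun e' => by
      have := S.inj _ (hlt b (by simp)) _ (hlt a (by simp)) e'
      simp [this] at hnd, by
      rw [S.equiv a (hlt a (by simp)) b (hlt b (by simp)),
        (adj_iff.mp (linePts_adj hl (hmem a (by simp)) (hmem b (by simp))
          (fun e' => by simp [e'] at hnd))).2]⟩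
    have hgc := (hgn (ι c)).mp ⟨fun e' => by
      have := S.inj _ (hlt c (by simp)) _ (hlt a (by simp)) e'
      simp [this] at hnd, by
      rw [S.equiv a (hlt a (by simp)) c (hlt c (by simp)),
        (adj_iff.mp (linePts_adj hl (hmem a (by simp)) (hmem c (by simp))
          (fun e' => by simp [e'] at hnd))).2]⟩
    have hgf := (hgn f).mp ⟨hfne a (by simp), hffix a (by simp)⟩
    obtain ⟨q', hq', eq'⟩ := hgq
    obtain ⟨b', hb', eb⟩ := hgb
    obtain ⟨c', hc', ec⟩ := hgc
    obtain ⟨f', hf', ef⟩ := hgf
    have hadj : ∀ {m n : ℕ}, m < 45 → n < 45 → g (ι m) ≠ g (ι n) →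
        t (g (ι m)) (g (ι n)) = g (ι n) → adj m n = true := by
      intro m n hm hn' h1 h2'
      rw [near_map S hg, g.injective.eq_iff, S.equiv m hm n hn'] at h2'
      exact adj_iff.mpr ⟨fun e' => h1 (by rw [e']), S.inj _ (C_lt hm hn') _ hn' h2'⟩
    have hbne : ι b ≠ q := iota_ne S (hlt b (by simp))
    have hcne : ι c ≠ q := iota_ne S (hlt c (by simp))
    have hbc' : ι b ≠ ι c := fun e' => by
      have := S.inj _ (hlt b (by simp)) _ (hlt c (by simp)) e'
      simp [this] at hnd
    have A1 : adj b' c' = true := hadj hb' hc' (by rw [eb, ec]; exact hbc') (by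
      rw [eb, ec]
      rw [S.equiv b (hlt b (by simp)) c (hlt c (by simp)),
        (adj_iff.mp (linePts_adj hl (hmem b (by simp)) (hmem c (by simp))
          (fun e' => by simp [e'] at hnd))).2])
    obtain ⟨m, hm, hmb, hmc⟩ := pair_line hb' hc' A1
    have A2 : adj q' b' = true := hadj hq' hb' (by rw [eq', eb]; exact hbne.symm) (by
      rw [eq', eb]; exact (iota_fix S (hlt b (by simp))).1)
    have A3 : adj q' c' = true := hadj hq' hc' (by rw [eq', ec]; exact hcne.symm) (by
      rw [eq', ec]; exact (iota_fix S (hlt c (by simp))).1)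
    have A4 : adj f' b' = true := hadj hf' hb' (by rw [ef, eb]; exact hfne b (by simp)) (by
      rw [ef, eb]; exact fixed_symm S (hffix b (by simp)))
    have A5 : adj f' c' = true := hadj hf' hc' (by rw [ef, ec]; exact hfne c (by simp)) (by
      rw [ef, ec]; exact fixed_symm S (hffix c (by simp)))
    have hin : ∀ {w : ℕ}, w < 45 → adj w b' = true → adj w c' = true → w ∈ linePts m := by
      intro w hw h1 h2'
      by_contra hwm
      have h3 := line_one hm hw hwm
      have h4 : 2 ≤ (linePts m).countP fun r => adj w r := by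
        rw [List.countP_eq_length_filter]
        have hsub : [b', c'].Subperm ((linePts m).filter fun r => adj w r) := by
          refine List.subperm_of_subset (by simp [(adj_iff.mp A1).1]) fun r hr => ?_
          rw [List.mem_filter]
          simp only [List.mem_cons, List.not_mem_nil, or_false] at hr
          rcases hr with rfl | rfl
          exacts [⟨hmb, h1⟩, ⟨hmc, h2'⟩]
        simpa using hsub.length_le
      omega
    have hne' : q' ≠ f' := fun e' => hfq (by rw [← ef, ← eq', e'])
    have hqf := adj_iff.mp (linePts_adj hm (hin hq' A2 A3) (hin hf' A4 A5) hne')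
    have hqfix : t q f = f := by
      rw [← eq', ← ef, near_map S hg, S.equiv q' hq' f' hf', hqf.2]
    obtain ⟨w, hw, hwt'⟩ := (S.near f).mp ⟨hfq, hqfix⟩
    have hwt : f = ι w := hwt'.symm
    have hadjw : ∀ v ∈ [a, b, c], adj w v = true := fun v hv => adj_iff.mpr
      ⟨fun e' => hfne v hv (by rw [hwt, e']), S.inj _ (C_lt hw (hlt v (by
        simp only [List.mem_cons, List.not_mem_nil, or_false] at hv ⊢; tauto))) _ (hlt v (by
        simp only [List.mem_cons, List.not_mem_nil, or_false] at hv ⊢; tauto)) (by
        rw [← S.equiv w hw v (hlt v (by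
          simp only [List.mem_cons, List.not_mem_nil, or_false] at hv ⊢; tauto))]
        have h5 := hffix v hv
        rw [hwt] at h5
        exact fixed_symm S h5)⟩
    have hwl : w ∈ linePts l := by
      by_contra hwl
      have h3 := line_one hl hw hwl
      have h4 : 2 ≤ (linePts l).countP fun r => adj w r := by
        rw [List.countP_eq_length_filter]
        have hsub : [a, b].Subperm ((linePts l).filter fun r => adj w r) := by
          refine List.subperm_of_subset (by
            simp only [List.nodup_cons, List.mem_cons, List.not_mem_nil, or_false, not_or] at hnd ⊢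
            simp [hnd.1.1]) fun r hr => ?_
          rw [List.mem_filter]
          simp only [List.mem_cons, List.not_mem_nil, or_false] at hr
          rcases hr with rfl | rfl
          · exact ⟨hmem _ (by simp), hadjw _ (by simp)⟩
          · exact ⟨hmem _ (by simp), hadjw _ (by simp)⟩
        simpa using hsub.length_le
      omega
    have hwde : w = d ∨ w = e := by
      have := hpermNP.mem_iff.mp hwl
      simp only [List.cons_append, List.nil_append, List.mem_cons, List.not_mem_nil, or_false] at this
      rcases this with h | h | h | h | h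
      · exact absurd (by rw [hwt, h]) (hfne a (by simp))
      · exact absurd (by rw [hwt, h]) (hfne b (by simp))
      · exact absurd (by rw [hwt, h]) (hfne c (by simp))
      · exact Or.inl h
      · exact Or.inr h
    -- then `f` would be `x`
    have hwx : t (ι w) x = x := by rcases hwde with rfl | rfl <;> assumption
    have hcx : t x * t (ι w) = t (ι w) * t x := (commute_of_fixed S hwx).symm.eq
    have hxu : t x * u = u * t x := by
      have h5 : t x * u * t (ι w) = u * t (ι w) * t x := by rw [mul_assoc, ← hwt]; exact sx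
      rw [mul_assoc u, ← hcx, ← mul_assoc] at h5
      exact mul_right_cancel h5
    have hfx : f = x := by
      rw [hwt]
      refine t_inj S ?_
      rw [← hwt, htf, hxu]
      calc u * t x * t x * u * t x = u * (t x * t x) * u * t x := by group
        _ = t x := by rw [S.invol, mul_one, huu, one_mul]
    exact (far_ne S hx).2 w hw (hwt.symm.trans hfx)
  rw [hfq] at hfix
  have hqx : t q x = u x := by
    conv_rhs => rw [← hfix]
    rw [← Equiv.Perm.mul_apply, huu, Equiv.Perm.one_apply]
  rw [hqx, hu]
  rfl

theorem pf_frame {x : Ω} (hx : HasFrame t q ι x 0) {k : ℕ} (hk : k < 40) (b : Bool) :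
    HasFrame t q ι (pf t q ι x k b) k := by
  have h := lab_frame S hx 8 k hk (tree_spec S hk).1
  cases b
  · exact h
  · refine ⟨fun e => h.1 ((t q).injective e), fun u hu => (h.2 u hu).trans ?_⟩
    show Sset t ι _ u ↔ t (t q (lab t ι x 8 k)) (ι u) = ι u
    rw [S.conj, Equiv.Perm.mul_apply, Equiv.Perm.mul_apply, (iota_fix S hu).1, Sset]
    exact ⟨fun e => by rw [e, (iota_fix S hu).1], fun e => (t q).injective (e.trans (iota_fix S hu).1.symm)⟩

omit S

theorem key_inj {u k u' k' : ℕ} (hk : k < 40) (hk' : k' < 40) (h : key u k = key u' k') :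
    u = u' ∧ k = k' := by
  simp only [key] at h; omega

theorem testBit_insert {done i j : ℕ} (h : (done ||| 1 <<< j).testBit i = true) :
    done.testBit i = true ∨ i = j := by
  rw [Nat.testBit_or, Bool.or_eq_true] at h
  rcases h with h | h
  · exact Or.inl h
  · rw [Nat.one_shiftLeft, Nat.testBit_two_pow] at h
    exact Or.inr (of_decide_eq_true h).symm

/-- What the mask of the derivation means. -/
def Done (t : Ω → Equiv.Perm Ω) (q : Ω) (ι : ℕ → Ω) (x : Ω) (done : ℕ) : Prop :=
  ∀ u < 45, ∀ k < 40, has done u k = true → Fact t q ι x u k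

include S

theorem fwd_spec {x : Ω} {done l k : ℕ} (hd : Done t q ι x done) (hl : l < 27) (hk : k < 40) (b : Bool) :
    ∀ c ≤ 5, (∀ i < c, has done (lin l i) (fwd l i k b).1 = true) → (fwd l c k b).1 < 40 ∧
      ((List.range c).foldl (fun y i => t (ι (lin l i)) y) (pf t q ι x k b)) =
        pf t q ι x (fwd l c k b).1 (fwd l c k b).2 := by
  intro c
  induction c with
  | zero => exact fun _ _ => ⟨hk, rfl⟩
  | succ c ih =>
    intro hc h
    obtain ⟨h1, h2⟩ := ih (by omega) fun i hi => h i (by omega)
    have hu : lin l c < 45 := lin_lt hl (by omega)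
    refine ⟨img_lt hu h1, ?_⟩
    rw [List.range_succ, List.foldl_append, h2]
    exact fact_use S (hd _ hu _ h1 (h c (by omega))) _

theorem bwd_spec {x : Ω} {done l k : ℕ} (hd : Done t q ι x done) (hl : l < 27) (hk : k < 40) (b : Bool) :
    ∀ c ≤ 5, (∀ i < c, has done (lin l (4 - i)) (bwd l i k b).1 = true) → (bwd l c k b).1 < 40 ∧
      ((List.range c).foldl (fun y i => t (ι (lin l (4 - i))) y) (pf t q ι x k b)) =
        pf t q ι x (bwd l c k b).1 (bwd l c k b).2 := by
  intro c
  induction c with
  | zero => exact fun _ _ => ⟨hk, rfl⟩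
  | succ c ih =>
    intro hc h
    obtain ⟨h1, h2⟩ := ih (by omega) fun i hi => h i (by omega)
    have hu : lin l (4 - c) < 45 := lin_lt hl (by omega)
    refine ⟨img_lt hu h1, ?_⟩
    rw [List.range_succ, List.foldl_append, h2]
    exact fact_use S (hd _ hu _ h1 (h c (by omega))) _

theorem step_spec {x : Ω} (hx : HasFrame t q ι x 0) {done s : ℕ} {p : ℕ × ℕ} (hd : Done t q ι x done)
    (h : step done s = some p) : Fact t q ι x p.1 p.2 := by
  unfold step at h
  simp only at h
  split at h
  · split_ifs at h with hc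
    injection h with h; subst h
    simp only [Bool.and_eq_true, Nat.blt_eq, Nat.beq_eq, Bool.not_eq_true', ← Bool.not_eq_true] at hc
    obtain ⟨⟨⟨⟨⟨h1, h2⟩, h3⟩, h4⟩, h5⟩, h6⟩ := hc
    refine ⟨h1, h2, ?_⟩
    rw [Bool.not_eq_true] at h6
    have := lab_succ S (x := x) (img_lt h1 h2) h3
    rw [h4, h5] at this
    simp only [pf, h6, cond_false]
    exact this.symm
  · split_ifs at h with hc
    injection h with h; subst h
    simp only [Bool.and_eq_true, Nat.blt_eq, Nat.beq_eq, Bool.not_eq_true'] at hc
    obtain ⟨⟨⟨⟨h1, h2⟩, h3⟩, h4⟩, h5⟩ := hc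
    refine ⟨h1, h2, ?_⟩
    rw [h4, h5]
    exact fixed_symm S (((pf_frame S hx h2 false).2 _ h1).mp h3)
  · split_ifs at h with hc
    injection h with h; subst h
    simp only [Bool.and_eq_true, Nat.blt_eq, Nat.beq_eq, beq_iff_eq] at hc
    obtain ⟨⟨⟨⟨h1, h2⟩, h3⟩, h4⟩, h5⟩ := hc
    refine ⟨h1, h2, ?_⟩
    have := fact_use S (hd _ h1 _ (img_lt h1 h2) h3) (sig (s / 8 % 64) (s / 512 % 64))
    rw [h4, h5, Bool.xor_self] at this
    rw [← this, invol_apply S, h5]
  · split_ifs at h with hc
    injection h with h; subst h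
    simp only [Bool.and_eq_true, Nat.blt_eq, Nat.beq_eq, beq_iff_eq] at hc
    obtain ⟨⟨⟨⟨⟨⟨⟨h1, h2⟩, h3⟩, h4⟩, h5⟩, h6⟩, h7⟩, h8⟩ := hc
    refine ⟨C_lt h1 h2, h3, ?_⟩
    have f1 := fact_use S (hd _ h1 _ h3 h4) false
    have f2 := fact_use S (hd _ h2 _ (img_lt h1 h3) h5) (xor false (sig (s / 8 % 64) (s / 512 % 64)))
    have f3 := fact_use S (hd _ h1 _ (img_lt h2 (img_lt h1 h3)) h6)
      (xor (xor false (sig (s / 8 % 64) (s / 512 % 64))) (sig (s / 32768) (img (s / 8 % 64) (s / 512 % 64))))
    rw [← S.equiv _ h1 _ h2, S.conj, Equiv.Perm.mul_apply, Equiv.Perm.mul_apply, f1, f2, f3, h7, h8]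
    simp
  · split_ifs at h with hc
    injection h with h; subst h
    simp only [Bool.and_eq_true, Nat.blt_eq, Nat.beq_eq, beq_iff_eq] at hc
    obtain ⟨⟨⟨⟨⟨⟨h1, h2⟩, h3⟩, h4⟩, h5⟩, h6⟩, h7⟩ := hc
    set l := s / 8 % 64
    set k := s / 512 % 64
    set c := s / 32768
    obtain ⟨F1, F2⟩ := fwd_spec S hd h1 h2 false c (by omega) fun i hi => spec h4 hi
    obtain ⟨B1, B2⟩ := bwd_spec S hd h1 h2 true (4 - c) (by omega) fun i hi => spec h5 hi
    refine ⟨lin_lt h1 h3, F1, ?_⟩
    have hline := line_rule S (pf_frame S hx h2 false).1 h1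
    rw [pf_flip S] at hline
    simp only [Bool.not_false] at hline
    have key : t (ι (lin l c)) (pf t q ι x (fwd l c k false).1 (fwd l c k false).2) =
        pf t q ι x (bwd l (4 - c) k true).1 (bwd l (4 - c) k true).2 := by
      rw [← F2, ← B2, ← hline]
      interval_cases c <;> simp [List.range_succ, invol_apply S]
    rw [h6, h7]
    cases hb : (fwd l c k false).2
    · rw [hb] at key; simpa using key
    · rw [hb] at key
      have e : t q (t q (t (ι (lin l c)) (pf t q ι x (fwd l c k false).1 false))) =
          t q (t (ι (lin l c)) (pf t q ι x (fwd l c k false).1 true)) := by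
        congr 1
        rw [← Equiv.Perm.mul_apply, (commute_of_fixed S (iota_fix S (lin_lt h1 h3)).1).eq,
          Equiv.Perm.mul_apply, pf_flip S]
        rfl
      rw [invol_apply S, key, pf_flip S] at e
      simpa using e
  · exact absurd h (by simp)

theorem run_spec {x : Ω} (hx : HasFrame t q ι x 0) : ∀ (l : List ℕ) (done done' : ℕ),
    run done l = some done' → Done t q ι x done → Done t q ι x done'
  | [], _, _, h, hd => by simp only [run, Option.some.injEq] at h; exact h ▸ hd
  | s :: r, done, done', h, hd => by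
    rw [run] at h
    cases hs : step done s with
    | none => rw [hs] at h; simp at h
    | some p =>
      rw [hs] at h
      refine run_spec hx r _ _ h fun u hu k hk hb => ?_
      rcases testBit_insert hb with hb | hb
      · exact hd u hu k hk hb
      · have hp := step_spec S hx hd hs
        obtain ⟨e1, e2⟩ := key_inj hk hp.2.1 hb
        exact e1.symm ▸ e2.symm ▸ hp

/-- All values of the involutions at points near `q`. -/
theorem facts {x : Ω} (hx : HasFrame t q ι x 0) {u k : ℕ} (hu : u < 45) (hk : k < 40) :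
    Fact t q ι x u k := by
  have h := signs_ok
  unfold signsOK at h
  cases hr : run 0 signSteps with
  | none => rw [hr] at h; exact absurd h (by simp)
  | some done =>
    rw [hr] at h
    exact run_spec S hx _ _ _ hr (fun u _ k _ h => by simp [has] at h) u hu k hk (spec (spec h hu) hk)

omit S

/-- The point of a label. -/
def pd (t : Ω → Equiv.Perm Ω) (q : Ω) (ι : ℕ → Ω) (x : Ω) (d : ℕ) : Ω :=
  bif Nat.beq d 0 then q else bif Nat.blt d 46 then ι (d - 1)
  else pf t q ι x ((d - 46) / 2) (Nat.beq ((d - 46) % 2) 1)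

theorem pd_cases {x : Ω} {d : ℕ} (hd : d < 126) :
    (d = 0 ∧ pd t q ι x d = q) ∨ (∃ u < 45, d = 1 + u ∧ pd t q ι x d = ι u) ∨
      (∃ k < 40, ∃ b : Bool, d = 46 + 2 * k + (bif b then 1 else 0) ∧ pd t q ι x d = pf t q ι x k b) := by
  rcases eq_or_ne d 0 with rfl | h0
  · exact Or.inl ⟨rfl, rfl⟩
  have e0 : Nat.beq d 0 = false := by rw [← Bool.not_eq_true, Nat.beq_eq]; exact h0
  by_cases h46 : d < 46
  · refine Or.inr (Or.inl ⟨d - 1, by omega, by omega, ?_⟩)
    rw [pd, e0, cond_false, Nat.blt_eq.mpr h46, cond_true]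
  · refine Or.inr (Or.inr ⟨(d - 46) / 2, by omega, Nat.beq ((d - 46) % 2) 1, ?_, ?_⟩)
    · rcases Nat.mod_two_eq_zero_or_one (d - 46) with h | h <;> rw [h]
      · show d = 46 + 2 * ((d - 46) / 2) + 0; omega
      · show d = 46 + 2 * ((d - 46) / 2) + 1; omega
    · rw [pd, e0, cond_false, show Nat.blt d 46 = false by
        rw [← Bool.not_eq_true, Nat.blt_eq]; exact h46, cond_false]

theorem pd_far {x : Ω} {k : ℕ} (hk : k < 40) (b : Bool) :
    pd t q ι x (46 + 2 * k + (bif b then 1 else 0)) = pf t q ι x k b := by
  cases b <;> simp only [cond_true, cond_false, add_zero]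
  · rw [pd, show Nat.beq (46 + 2 * k) 0 = false by rw [← Bool.not_eq_true, Nat.beq_eq]; omega,
      show Nat.blt (46 + 2 * k) 46 = false by rw [← Bool.not_eq_true, Nat.blt_eq]; omega, cond_false,
      cond_false, show (46 + 2 * k - 46) / 2 = k by omega, show (46 + 2 * k - 46) % 2 = 0 by omega]
    rfl
  · rw [pd, show Nat.beq (46 + 2 * k + 1) 0 = false by rw [← Bool.not_eq_true, Nat.beq_eq]; omega,
      show Nat.blt (46 + 2 * k + 1) 46 = false by rw [← Bool.not_eq_true, Nat.blt_eq]; omega, cond_false,
      cond_false, show (46 + 2 * k + 1 - 46) / 2 = k by omega,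
      show (46 + 2 * k + 1 - 46) % 2 = 1 by omega]
    rfl

theorem pd_near {x : Ω} {u : ℕ} (hu : u < 45) : pd t q ι x (1 + u) = ι u := by
  rw [pd, show Nat.beq (1 + u) 0 = false by rw [← Bool.not_eq_true, Nat.beq_eq]; omega, cond_false,
    Nat.blt_eq.mpr (by omega), cond_true, show 1 + u - 1 = u by omega]

/-- The involution of a generator. -/
def genT (t : Ω → Equiv.Perm Ω) (q : Ω) (ι : ℕ → Ω) (g : ℕ) : Equiv.Perm Ω :=
  bif Nat.beq g 45 then t q else t (ι g)

include S

theorem gen_act {x : Ω} (hx : HasFrame t q ι x 0) {g d : ℕ} (hg : g < 46) (hd : d < 126) :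
    genT t q ι g (pd t q ι x d) = pd t q ι x (genAct g d) := by
  rcases Nat.lt_or_ge g 45 with hg' | hg'
  · have e45 : Nat.beq g 45 = false := by rw [← Bool.not_eq_true, Nat.beq_eq]; omega
    rw [genT, genAct, e45, cond_false, cond_false]
    rcases pd_cases (x := x) hd with ⟨rfl, e⟩ | ⟨u, hu, rfl, e⟩ | ⟨k, hk, b, rfl, e⟩
    · rw [e, (iota_fix S hg').2]; rfl
    · rw [e, S.equiv g hg' u hu,
        show Nat.beq (1 + u) 0 = false by rw [← Bool.not_eq_true, Nat.beq_eq]; omega, cond_false,
        Nat.blt_eq.mpr (by omega), cond_true, show 1 + u - 1 = u by omega, pd_near (C_lt hg' hu)]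
    · rw [e, fact_use S (facts S hx hg' hk)]
      generalize hd' : 46 + 2 * k + (bif b then 1 else 0) = d at hd ⊢
      have h1 : d ≠ 0 := by omega
      have h2 : ¬ d < 46 := by omega
      have h3 : (d - 46) / 2 = k := by cases b <;> simp at hd' <;> omega
      have h4 : Nat.beq ((d - 46) % 2) 1 = b := by
        cases b <;> simp at hd'
        · rw [show (d - 46) % 2 = 0 by omega]; rfl
        · rw [show (d - 46) % 2 = 1 by omega]; rfl
      rw [show Nat.beq d 0 = false by rw [← Bool.not_eq_true, Nat.beq_eq]; exact h1, cond_false,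
        show Nat.blt d 46 = false by rw [← Bool.not_eq_true, Nat.blt_eq]; exact h2, cond_false, h3, h4,
        pd_far (img_lt hg' hk)]
  · obtain rfl : g = 45 := by omega
    show t q _ = _
    rcases pd_cases (x := x) hd with ⟨rfl, e⟩ | ⟨u, hu, rfl, e⟩ | ⟨k, hk, b, rfl, e⟩
    · rw [e, S.fix]; rfl
    · rw [e, (iota_fix S hu).1]
      simp only [genAct, show Nat.beq 45 45 = true from rfl, cond_true,
        Nat.blt_eq.mpr (show 1 + u < 46 by omega)]
      exact (pd_near hu).symm
    · rw [e, pf_flip S]
      have e' : genAct 45 (46 + 2 * k + (bif b then 1 else 0)) = 46 + 2 * k + (bif !b then 1 else 0) := by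
        simp only [genAct, show Nat.beq 45 45 = true from rfl, cond_true,
          show Nat.blt (46 + 2 * k + (bif b then 1 else 0)) 46 = false by
            rw [← Bool.not_eq_true, Nat.blt_eq]; omega, cond_false]
        cases b
        · simp [show Nat.beq ((46 + 2 * k) % 2) 0 = true by rw [Nat.beq_eq]; omega]
        · simp [show Nat.beq ((46 + 2 * k + 1) % 2) 0 = false by
            rw [← Bool.not_eq_true, Nat.beq_eq]; omega]
      rw [e', pd_far hk]

theorem pd_injective {x : Ω} (hx : HasFrame t q ι x 0) {d d' : ℕ} (hd : d < 126) (hd' : d' < 126)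
    (h : pd t q ι x d = pd t q ι x d') : d = d' := by
  have far : ∀ {k : ℕ}, k < 40 → ∀ b : Bool, pf t q ι x k b ≠ q ∧ ∀ u < 45, ι u ≠ pf t q ι x k b :=
    fun hk b => far_ne S (pf_frame S hx hk b).1
  rcases pd_cases (x := x) hd with ⟨rfl, e⟩ | ⟨u, hu, rfl, e⟩ | ⟨k, hk, b, rfl, e⟩ <;>
    rcases pd_cases (x := x) hd' with ⟨rfl, e'⟩ | ⟨u', hu', rfl, e'⟩ | ⟨k', hk', b', rfl, e'⟩ <;>
    replace h := e.symm.trans (h.trans e')
  · rfl
  · exact absurd h.symm (iota_ne S hu')
  · exact absurd h.symm (far hk' b').1
  · exact absurd h (iota_ne S hu)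
  · rw [S.inj u hu u' hu' h]
  · exact absurd h ((far hk' b').2 u hu)
  · exact absurd h (far hk b).1
  · exact absurd h.symm ((far hk b).2 u' hu')
  · have hkk : k = k' := frame_inj hk hk' fun v hv => by
      have h1 := (pf_frame S hx hk b).2 v hv
      have h2 := (pf_frame S hx hk' b').2 v hv
      rw [← h] at h2
      exact Bool.eq_iff_iff.mpr (h1.trans h2.symm)
    subst hkk
    cases b <;> cases b' <;> try rfl
    · exact absurd h.symm (pf_frame S hx hk false).1
    · exact absurd h (pf_frame S hx hk false).1

/-- The point of the model. -/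
theorem exists_model : ∃ e : Fin 126 ≃ Ω, ∀ i j : Fin 126, ((e.symm (t (e i) (e j))) : ℕ) = T i j := by
  classical
  obtain ⟨x, hx⟩ := exists_root S
  have hdesc : ∀ i < 126, desc i < 126 ∧ idx (desc i) = i := fun i hi => by
    have h := desc_ok
    rw [Bool.and_eq_true] at h
    have h1 := spec h.1 hi
    simpa only [Bool.and_eq_true, Nat.blt_eq, Nat.beq_eq] using h1
  have hidx : ∀ d < 126, idx d < 126 ∧ desc (idx d) = d := fun d hd => by
    have h := desc_ok
    rw [Bool.and_eq_true] at h
    have h1 := spec h.2 hd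
    simpa only [Bool.and_eq_true, Nat.blt_eq, Nat.beq_eq] using h1
  set P : ℕ → Ω := fun i => pd t q ι x (desc i) with hP
  have hTlt : ∀ i < 126, ∀ j < 126, T i j < 126 ∧ T i (T i j) = j := fun i hi j hj => by
    have h := spec (spec t_ok hi) hj
    simpa only [Bool.and_eq_true, Nat.blt_eq, Nat.beq_eq] using h
  have hPd : ∀ d < 126, P (idx d) = pd t q ι x d := fun d hd => by
    simp only [hP, (hidx d hd).2]
  -- the generators
  have hgen : ∀ g < 46, ∀ i < 126, genT t q ι g (P i) = P (T (genPt g) i) := fun g hg i hi => by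
    have h := spec (spec gen_ok hg) hi
    rw [Nat.beq_eq] at h
    simp only [hP, gen_act S hx hg (hdesc i hi).1, h]
  have hgpt : ∀ g < 46, genPt g < 126 ∧ t (P (genPt g)) = genT t q ι g := fun g hg => by
    rcases Nat.lt_or_ge g 45 with hg' | hg'
    · have e45 : Nat.beq g 45 = false := by rw [← Bool.not_eq_true, Nat.beq_eq]; omega
      simp only [genPt, genT, e45, cond_false]
      exact ⟨(hidx _ (by omega)).1, by rw [hPd _ (by omega), pd_near hg']⟩
    · obtain rfl : g = 45 := by omega
      exact ⟨(hidx 0 (by norm_num)).1, by simp only [genPt, genT]; rw [show Nat.beq 45 45 = true from rfl,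
        cond_true, cond_true, hPd 0 (by norm_num)]; rfl⟩
  have hx46 : P (idx 46) = x := by
    rw [hPd 46 (by norm_num)]; rfl
  -- the last generator
  have hlast : ∀ i < 126, t x (P i) = P (T (idx 46) i) := by
    have h := points_ok
    unfold pointsOK at h
    cases hr : xrun 0 pointSteps with
    | none => rw [hr] at h; exact absurd h (by simp)
    | some done =>
      rw [hr] at h
      suffices key : ∀ (l : List ℕ) (dn dn' : ℕ), xrun dn l = some dn' →
          (∀ i < 126, dn.testBit i = true → t x (P i) = P (T (idx 46) i)) →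
          ∀ i < 126, dn'.testBit i = true → t x (P i) = P (T (idx 46) i) by
        intro i hi
        exact key _ _ _ hr (fun _ _ h => by simp at h) i hi (spec h hi)
      intro l
      induction l with
      | nil => intro dn dn' h' hd; simp only [xrun, Option.some.injEq] at h'; exact h' ▸ hd
      | cons s r ih =>
        intro dn dn' h' hd
        rw [xrun] at h'
        cases hs : xstep dn s with
        | none => rw [hs] at h'; simp at h'
        | some i0 =>
          rw [hs] at h'
          refine ih _ _ h' fun i hi hb => ?_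
          rcases testBit_insert hb with hb | rfl
          · exact hd i hi hb
          clear hb h' ih
          unfold xstep at hs
          simp only at hs
          split at hs
          · split_ifs at hs with hc
            injection hs with hs
            rw [Nat.beq_eq] at hc
            rw [← hs, hc, hx46, S.fix]
          · split_ifs at hs with ha hc hc <;> injection hs with hs <;> rw [Nat.beq_eq] at hc <;>
              rw [← hs, hc]
            · rw [hPd 0 (by norm_num), hPd 47 (by norm_num)]
              show t x q = t q x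
              exact S.symm x q fun e => hx.1 (fixed_symm S e)
            · rw [hPd 0 (by norm_num), hPd 47 (by norm_num)]
              show t x (t q x) = q
              rw [← S.symm x q fun e => hx.1 (fixed_symm S e), invol_apply S]
          · split_ifs at hs with hc
            injection hs with hs
            simp only [Bool.and_eq_true, Nat.blt_eq, Nat.beq_eq] at hc
            obtain ⟨⟨h1, h2⟩, h3⟩ := hc
            have e : P (genPt (s / 8 % 64)) = ι (s / 8 % 64) := by
              simp only [genPt, show Nat.beq (s / 8 % 64) 45 = false by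
                rw [← Bool.not_eq_true, Nat.beq_eq]; omega, cond_false]
              rw [hPd _ (by omega), pd_near h1]
            rw [← hs, h3, e]
            exact (hx.2 _ h1).mp h2
          · split_ifs at hs with ha hz hc hc <;> injection hs with hs <;> rw [Nat.beq_eq] at hc <;>
              simp only [Bool.and_eq_true, Nat.blt_eq, Bool.not_eq_true'] at ha
            all_goals
              have e : P (genPt (s / 8 % 64)) = ι (s / 8 % 64) := by
                simp only [genPt, show Nat.beq (s / 8 % 64) 45 = false by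
                  rw [← Bool.not_eq_true, Nat.beq_eq]; omega, cond_false]
                rw [hPd _ (by omega), pd_near ha.1]
              have hn : t x (ι (s / 8 % 64)) ≠ ι (s / 8 % 64) := fun h3 => by
                rw [(hx.2 _ ha.1).mpr h3] at ha; simp at ha
              have e2 : t (ι (s / 8 % 64)) x = P (T (genPt (s / 8 % 64)) (idx 46)) := by
                rw [← hgen _ (by omega) _ (hidx 46 (by norm_num)).1, hx46, genT, show
                  Nat.beq (s / 8 % 64) 45 = false by rw [← Bool.not_eq_true, Nat.beq_eq]; omega, cond_false]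
            · rw [← hs, hc, e, ← e2]
              exact S.symm _ _ hn
            · rw [← hs, hc, e, ← e2, ← S.symm _ _ hn, invol_apply S]
          · split_ifs at hs with hc
            injection hs with hs
            simp only [Bool.and_eq_true, Bool.or_eq_true, Nat.blt_eq, Nat.beq_eq, Bool.not_eq_true'] at hc
            obtain ⟨⟨⟨⟨⟨ha, hmem⟩, hz⟩, hb1⟩, hb2⟩, heq⟩ := hc
            set a := s / 8 % 64
            set z := s / 512
            obtain ⟨hpa, hta⟩ := hgpt a ha
            have hne : t x (P (genPt a)) ≠ P (genPt a) := by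
              intro h3
              rcases Nat.lt_or_ge a 45 with ha' | ha'
              · have e45 : Nat.beq a 45 = false := by rw [← Bool.not_eq_true, Nat.beq_eq]; omega
                simp only [genPt, e45, cond_false] at h3
                rw [hPd _ (by omega), pd_near ha'] at h3
                rw [(hx.2 _ ha').mpr h3] at hmem
                simp [show a ≠ 45 by omega] at hmem
              · have e45 : Nat.beq a 45 = true := by rw [Nat.beq_eq]; omega
                simp only [genPt, e45, cond_true] at h3
                rw [hPd 0 (by norm_num)] at h3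
                exact hx.1 (fixed_symm S h3)
            have hbr := braid S hne
            rw [hta] at hbr
            have hzT := (hTlt _ (hidx 46 (by norm_num)).1 z hz).1
            have hTz := (hTlt _ hpa _ hzT).1
            have e3 : t x (genT t q ι a (P z)) = genT t q ι a (t x (genT t q ι a (t x (P z)))) := by
              have h4 : t x * genT t q ι a = genT t q ι a * t x * genT t q ι a * t x := by
                rw [← hbr, mul_assoc (t x * _) (t x) (t x), S.invol, mul_one]
              simpa using congrArg (fun p : Equiv.Perm Ω => p (P z)) h4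
            rw [hgen a ha z hz] at e3
            rw [← hs, e3, hd z hz hb1, hgen a ha _ hzT, hd _ hTz hb2,
              hgen a ha _ (hTlt _ (hidx 46 (by norm_num)).1 _ hTz).1, ← heq]
          · exact absurd hs (by simp)
  -- all points
  have hall : ∀ j < 126, ∀ i < 126, t (P j) (P i) = P (T j i) := by
    have hbase : ∀ j ∈ genList, j < 126 ∧ ∀ i < 126, t (P j) (P i) = P (T j i) := by
      intro j hj
      simp only [genList, List.mem_append, List.mem_map, List.mem_range, List.mem_singleton] at hj
      rcases hj with ⟨g, hg, rfl⟩ | rfl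
      · exact ⟨(hgpt g hg).1, fun i hi => by rw [(hgpt g hg).2, hgen g hg i hi]⟩
      · exact ⟨(hidx 46 (by norm_num)).1, fun i hi => by rw [hx46, hlast i hi]⟩
    have h := conj_ok
    unfold conjOK at h
    cases hr : crun (genList.foldl (fun m g => m ||| 1 <<< g) 0) conjSteps with
    | none => rw [hr] at h; exact absurd h (by simp)
    | some done =>
      rw [hr] at h
      have h0 : ∀ (l : List ℕ) (m : ℕ), (∀ g ∈ l, g ∈ genList) →
          (∀ j < 126, m.testBit j = true → ∀ i < 126, t (P j) (P i) = P (T j i)) →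
          ∀ j < 126, (l.foldl (fun m g => m ||| 1 <<< g) m).testBit j = true →
            ∀ i < 126, t (P j) (P i) = P (T j i) := by
        intro l
        induction l with
        | nil => exact fun m _ hm => hm
        | cons g r ih =>
          intro m hsub hm
          refine ih _ (fun g' hg' => hsub g' (List.mem_cons_of_mem _ hg')) fun j hj hb => ?_
          rcases testBit_insert hb with hb | rfl
          exacts [hm j hj hb, (hbase _ (hsub _ List.mem_cons_self)).2]
      suffices key : ∀ (l : List ℕ) (dn dn' : ℕ), crun dn l = some dn' →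
          (∀ j < 126, dn.testBit j = true → ∀ i < 126, t (P j) (P i) = P (T j i)) →
          ∀ j < 126, dn'.testBit j = true → ∀ i < 126, t (P j) (P i) = P (T j i) by
        intro j hj
        exact key _ _ _ hr (h0 _ _ (fun g hg => hg) fun _ _ hb => by simp at hb) j hj (spec h hj)
      intro l
      induction l with
      | nil => intro dn dn' h' hd; simp only [crun, Option.some.injEq] at h'; exact h' ▸ hd
      | cons s r ih =>
        intro dn dn' h' hd
        rw [crun] at h'
        split_ifs at h' with hc
        simp only [Bool.and_eq_true, List.contains_iff_mem] at hc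
        obtain ⟨⟨⟨hgl, hj⟩, hjlt⟩, htab⟩ := hc
        rw [Nat.blt_eq] at hjlt
        refine ih _ _ h' fun j' hj' hb => ?_
        rcases testBit_insert hb with hb | rfl
        · exact hd j' hj' hb
        intro i hi
        obtain ⟨hg126, hgact⟩ := hbase _ hgl
        have h3 := spec htab hi
        rw [Nat.beq_eq] at h3
        rw [h3, ← hgact _ hjlt, S.conj, Equiv.Perm.mul_apply, Equiv.Perm.mul_apply, hgact i hi,
          hd _ hjlt hj _ (hTlt _ hg126 i hi).1,
          hgact _ (hTlt _ hjlt _ (hTlt _ hg126 i hi).1).1]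
  have hinj : Function.Injective fun i : Fin 126 => P i := fun i j e => by
    have := pd_injective S hx (hdesc i i.2).1 (hdesc j j.2).1 e
    exact Fin.ext (by rw [← (hdesc i i.2).2, this, (hdesc j j.2).2])
  have hbij : Function.Bijective fun i : Fin 126 => P i :=
    (Fintype.bijective_iff_injective_and_card _).mpr ⟨hinj, by rw [Fintype.card_fin, S.card]⟩
  refine ⟨Equiv.ofBijective _ hbij, fun i j => ?_⟩
  have h2 := (hTlt i i.2 j j.2).1
  have h1 : t (P i) (P j) = P (T i j) := hall i i.2 j j.2
  show ((Equiv.ofBijective _ hbij).symm (t (P i) (P j)) : ℕ) = _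
  rw [h1]
  have : (Equiv.ofBijective _ hbij).symm (P (T i j)) = ⟨T i j, h2⟩ := by
    rw [Equiv.symm_apply_eq]; rfl
  rw [this]

end Cfsg.Agent.ThreeTransM24QuadSpace54
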