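import Cfsg.Agent.Lib.ThreeTransM24Quads54
import Cfsg.Agent.Lib.ThreeTransM24QuadSpace54
import Cfsg.Agent.Lib.ThreeTransM24QuadPts54
import Cfsg.Agent.Lib.ThreeTransM22QuadSwap54

/-!
# The quadruples near one quadruple in type M(24)

They are the 45 isotropic points of a unitary space of dimension four over four elements, and the
centralizer of the four members maps onto `PSU₄(2)`.
-/

set_option autoImplicit false
set_option linter.unusedSectionVars false
set_option linter.style.haveILetI false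

namespace Cfsg.Agent.ThreeTransM24QuadLocal54

open Subgroup Cfsg.Agent.ThreeTransRel Cfsg.Agent.ThreeTransDescent
open Cfsg.Agent.UnitaryF4Geo Cfsg.Agent.UnitaryF4Line
open Cfsg.Agent.ThreeTransM22Lift72 Cfsg.Agent.ThreeTransM22Levi54 Cfsg.Agent.ThreeTransM22Triples17
open Cfsg.Agent.ThreeTransM24Pair88 (im2 Wq E2)
open Cfsg.Agent.ThreeTransM24Quads54 Cfsg.Agent.ThreeTransM24QuadPts54
open Cfsg.Agent.ThreeTransM24QuadTables54 (C)

variable {G : Type*} [Group G] [Finite G] {D : Set G} {z : G}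

/-- Everything at one ordered quadruple. -/
structure Data (D : Set G) (z a b c h : G) (q : Quad D z) : Prop where
  setup : Setup D z
  clist : CList D [a, b, c, h]
  prod : a * b * c * h = z
  mems : ∀ y, y ∈ q.1 ↔ y = a ∨ y = b ∨ y = c ∨ y = h

variable {a b c h : G} {q : Quad D z} (X : Data D z a b c h q)
include X

theorem Data.ctx : ThreeTransM24Base88.Ctx D a := X.setup.ctx a (X.clist.mem a (by simp))

theorem Data.tsys : TSys D := ts X.setup

theorem Data.nodup : (a ≠ b ∧ a ≠ c ∧ a ≠ h) ∧ (b ≠ c ∧ b ≠ h) ∧ c ≠ h := by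
  simpa [and_assoc] using X.clist.nodup

theorem Data.hb : b ∈ near D a :=
  ⟨X.clist.mem b (by simp), X.nodup.1.1.symm, X.clist.comm a (by simp) b (by simp)⟩

theorem Data.hc : c ∈ ThreeTransM24Pair88.N2 D a b :=
  ⟨⟨X.clist.mem c (by simp), X.nodup.1.2.1.symm, X.clist.comm a (by simp) c (by simp)⟩,
    X.clist.mem c (by simp), X.nodup.2.1.1.symm, X.clist.comm b (by simp) c (by simp)⟩

theorem Data.hh : h ∈ ThreeTransM24Pair88.N2 D a b :=
  ⟨⟨X.clist.mem h (by simp), X.nodup.1.2.2.symm, X.clist.comm a (by simp) h (by simp)⟩,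
    X.clist.mem h (by simp), X.nodup.2.1.2.symm, X.clist.comm b (by simp) h (by simp)⟩

theorem Data.hch : im2 D a b h ∈ near (E2 D a b) (im2 D a b c) :=
  ⟨ThreeTransM24Pair88.im2_mem X.ctx X.hb X.hh,
    fun e => X.nodup.2.2 (ThreeTransM24Pair88.im2_inj X.ctx X.hb X.hh X.hc e).symm,
    (ThreeTransM24Pair88.im2_comm_iff X.ctx X.hb X.hc X.hh).mpr
      (X.clist.comm c (by simp) h (by simp))⟩

theorem ca_comm : (Commute c a ∧ Commute c b) ∧ (Commute h a ∧ Commute h b) :=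
  ⟨⟨X.clist.comm c (by simp) a (by simp), X.clist.comm c (by simp) b (by simp)⟩,
    ⟨X.clist.comm h (by simp) a (by simp), X.clist.comm h (by simp) b (by simp)⟩⟩

/-- The centralizer of the four members. -/
abbrev C4 (a b c h : G) : Subgroup G := centralizer ({a, b, c, h} : Set G)

omit X in
theorem mem_C4 {g : G} : g ∈ C4 a b c h ↔ Commute g a ∧ Commute g b ∧ Commute g c ∧ Commute g h := by
  rw [mem_centralizer_iff]
  constructor
  · intro H
    exact ⟨(H a (by simp)).symm, (H b (by simp)).symm, (H c (by simp)).symm, (H h (by simp)).symm⟩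
  · rintro ⟨h1, h2, h3, h4⟩ x (rfl | rfl | rfl | rfl)
    exacts [h1.symm.eq, h2.symm.eq, h3.symm.eq, h4.symm.eq]

theorem Data.mem_loc {g : G} (h1 : Commute g a) : g ∈ loc D a :=
  ThreeTransM24Local88.centralizer_eq X.ctx ▸ mem_centralizer_singleton_iff.mpr h1.eq

theorem Data.mem_loc2 {g : G} (h1 : Commute g a) (h2 : Commute g b) :
    im D a g ∈ loc (imgSet D a) (im D a b) := by
  rw [← ThreeTransM23Cent59.centralizer_eq (ThreeTransM24Pair88.qc X.ctx X.hb)]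
  refine mem_centralizer_singleton_iff.mpr ?_
  rw [← ThreeTransM24Pair88.im_mul X.ctx (X.mem_loc h1) (near_le_loc X.hb),
    ← ThreeTransM24Pair88.im_mul X.ctx (near_le_loc X.hb) (X.mem_loc h1), h2.eq]

theorem Data.im2_mul {g k : G} (h1 : Commute g a) (h2 : Commute g b) (k1 : Commute k a)
    (k2 : Commute k b) : im2 D a b (g * k) = im2 D a b g * im2 D a b k := by
  rw [im2, ThreeTransM24Pair88.im_mul X.ctx (X.mem_loc h1) (X.mem_loc k1)]
  exact (ThreeTransM24Pair88.qc X.ctx X.hb).im_mul (X.mem_loc2 h1 h2)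
    (X.mem_loc2 k1 k2)

/-- The common neighbours of the four members. -/
abbrev N4 (D : Set G) (a b c h : G) : Set G := near D a ∩ near D b ∩ near D c ∩ near D h

theorem Data.mem_N4 {x : G} : x ∈ N4 D a b c h ↔
    x ∈ D ∧ x ∉ q.1 ∧ Commute a x ∧ Commute b x ∧ Commute c x ∧ Commute h x := by
  simp only [N4, near, Set.mem_inter_iff, Set.mem_setOf_eq, X.mems, not_or]
  tauto

theorem Data.n4_z {x : G} (hx : x ∈ N4 D a b c h) : Commute x z := by
  obtain ⟨-, -, h1, h2, h3, h4⟩ := X.mem_N4.mp hx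
  exact X.prod ▸ ((h1.symm.mul_right h2.symm).mul_right h3.symm).mul_right h4.symm

omit X in
theorem n4_le {x : G} (hx : x ∈ N4 D a b c h) : x ∈ ThreeTransM24Pair88.N2 D a b := hx.1.1

theorem Data.n4_conj {g x : G} (hg : g ∈ C4 a b c h) (hx : x ∈ N4 D a b c h) :
    g * x * g⁻¹ ∈ N4 D a b c h := by
  obtain ⟨h1, h2, h3, h4⟩ := mem_C4.mp hg
  exact ⟨⟨⟨near_conj X.tsys h1 hx.1.1.1, near_conj X.tsys h2 hx.1.1.2⟩, near_conj X.tsys h3 hx.1.2⟩,
    near_conj X.tsys h4 hx.2⟩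

variable {F : Type} [Field F] [Fintype F] [hF : FourField F] {w : F}
variable {φ : ↥(loc (E2 D a b) (im2 D a b c)) →* Cfsg.PSU 6 F 2}

/-- A chart at the images of the third and fourth members. -/
structure Chart4 (D : Set G) (z a b c h : G) (q : Quad D z)
    (φ : ↥(loc (E2 D a b) (im2 D a b c)) →* Cfsg.PSU 6 F 2) (w : F) : Prop where
  data : Data D z a b c h q
  omega : w ^ 2 = w + 1
  ctx : ThreeTransM22Lift72.Ctx (E2 D a b) (im2 D a b c) φ
  base : ThreeTransM22Lift72.Chart.L ctx.chart u0 = im2 D a b h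

omit φ w hF in
theorem exists_chart : ∃ (F : Type) (_ : Field F) (_ : Fintype F) (_ : FourField F)
    (φ : ↥(loc (E2 D a b) (im2 D a b c)) →* Cfsg.PSU 6 F 2) (w : F), Chart4 D z a b c h q φ w := by
  have Q := ThreeTransM24Pair88.qc X.ctx X.hb
  obtain ⟨F, iF, jF, hF, hctx⟩ := ThreeTransM22Lift72.exists_ctx Q.qgrp Q.qprim Q.q22
  haveI := hF
  obtain ⟨φ₀, Y₀⟩ := hctx _ (ThreeTransM24Pair88.im2_mem X.ctx X.hb X.hc)
  obtain ⟨φ, Y, hu⟩ := ThreeTransM22Pair54.exists_ctx_u0 Y₀ X.hch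
  obtain ⟨w, hw⟩ := exists_omega (F := F)
  exact ⟨F, iF, jF, hF, φ, w, X, hw, Y, hu⟩

variable (Y : Chart4 D z a b c h q φ w)
omit X
include Y

local notation "L" => ThreeTransM22Lift72.Chart.L Y.ctx.chart

theorem Chart4.phi_mem (g : ↥(C4 a b c h)) : im2 D a b g ∈ ThreeTransM22Pair54.Kp Y.ctx := by
  have X := Y.data
  obtain ⟨h1, h2, h3, h4⟩ := mem_C4.mp g.2
  have key : ∀ {x : G}, Commute (g : G) x → Commute x a → Commute x b →
      Commute (im2 D a b g) (im2 D a b x) := fun {x} hx x1 x2 => by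
    rw [commute_iff_eq, ← X.im2_mul h1 h2 x1 x2, ← X.im2_mul x1 x2 h1 h2, hx.eq]
  have ha := X.clist.comm
  refine ⟨?_, ?_⟩
  · rw [← ThreeTransM22Outer72.centralizer_eq_loc (ThreeTransM24Pair88.qc X.ctx X.hb).qgrp
      (ThreeTransM24Pair88.qc X.ctx X.hb).qprim (ThreeTransM24Pair88.qc X.ctx X.hb).q22 _
      (ThreeTransM24Pair88.im2_mem X.ctx X.hb X.hc)]
    exact mem_centralizer_singleton_iff.mpr
      (key h3 (ha c (by simp) a (by simp)) (ha c (by simp) b (by simp))).eq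
  · rw [SetLike.mem_coe, Y.base]
    exact mem_centralizer_singleton_iff.mpr
      (key h4 (ha h (by simp) a (by simp)) (ha h (by simp) b (by simp))).eq

/-- The map to the centralizer of the two images. -/
noncomputable def Chart4.Phi : ↥(C4 a b c h) →* ↥(ThreeTransM22Pair54.Kp Y.ctx) :=
  MonoidHom.mk' (fun g => ⟨im2 D a b g, Y.phi_mem g⟩) fun g k => Subtype.ext
    (Y.data.im2_mul (mem_C4.mp g.2).1 (mem_C4.mp g.2).2.1 (mem_C4.mp k.2).1 (mem_C4.mp k.2).2.1)

theorem Chart4.Phi_surj : Function.Surjective Y.Phi := by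
  intro k
  have X := Y.data
  obtain ⟨x, hx, hk⟩ := ThreeTransM24Pair88.im2_surj X.ctx X.hb (k : Wq D a b)
  have fix : ∀ {p : G}, p ∈ ThreeTransM24Pair88.N2 D a b →
      Commute (k : Wq D a b) (im2 D a b p) → Commute x p := fun {p} hp hc => by
    refine mul_inv_eq_iff_eq_mul.mp (ThreeTransM24Pair88.im2_inj X.ctx X.hb
      (ThreeTransM24Pair88.l2_conj X.ctx X.hb hx hp) hp ?_)
    rw [ThreeTransM24Pair88.im2_conj X.ctx X.hb hx (subset_closure hp), hk, hc.eq, mul_inv_cancel_right]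
  have hkb := k.2.2
  rw [SetLike.mem_coe, Y.base] at hkb
  refine ⟨⟨x, mem_C4.mpr ⟨(commute_d_of_mem_loc (ThreeTransM24Pair88.l2_loc X.ctx X.hb hx)).symm,
    (commute_d_of_mem_loc (closure_mono Set.inter_subset_right hx)).symm,
    fix X.hc (commute_d_of_mem_loc k.2.1).symm, fix X.hh (mem_centralizer_singleton_iff.mp hkb)⟩⟩,
    Subtype.ext hk⟩

/-- The map onto `PSU₄(2)`. -/
noncomputable def Chart4.theta : ↥(C4 a b c h) →* Cfsg.PSU 4 F 2 :=
  (ThreeTransM22Pair54.psi Y.ctx).comp Y.Phi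

theorem Chart4.theta_surj : Function.Surjective Y.theta :=
  (ThreeTransM22Pair54.psi_surj Y.ctx).comp Y.Phi_surj

/-- The vectors of the images of the common neighbours. -/
theorem Chart4.exists_vec {x : G} (hx : x ∈ N4 D a b c h) :
    ∃ v : Fin 6 → F, ∃ (_ : UnitaryF4Geo.h v v = 0) (_ : v ≠ 0) (_ : UnitaryF4Geo.h v u0 = 0),
      tl v ≠ 0 ∧ L v = im2 D a b x := by
  have X := Y.data
  have h2 := n4_le hx
  refine ThreeTransM22Pair54.vec_of_mem Y.ctx ⟨⟨ThreeTransM24Pair88.im2_mem X.ctx X.hb h2,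
    fun e => hx.1.2.2.1 (ThreeTransM24Pair88.im2_inj X.ctx X.hb h2 X.hc e),
    (ThreeTransM24Pair88.im2_comm_iff X.ctx X.hb X.hc h2).mpr hx.1.2.2.2⟩, ?_, ?_⟩
  · rw [Y.base]
    exact fun e => hx.2.2.1 (ThreeTransM24Pair88.im2_inj X.ctx X.hb h2 X.hh e)
  · rw [Y.base]
    exact (ThreeTransM24Pair88.im2_comm_iff X.ctx X.hb h2 X.hh).mpr hx.2.2.2.symm

/-- A vector of a point. -/
abbrev Chart4.pv (_ : Chart4 D z a b c h q φ w) (u : ℕ) : Fin 6 → F :=
  ι (vec (w := w) (pt u))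

theorem Chart4.pv_facts {u : ℕ} (hu : u < 45) : UnitaryF4Geo.h (Y.pv u) (Y.pv u) = 0 ∧
    Y.pv u ≠ 0 ∧ UnitaryF4Geo.h (Y.pv u) u0 = 0 :=
  ⟨(h_ι _ _).trans (pt_iso Y.omega hu), fun e => pt_ne Y.omega hu (by
    rw [← tl_ι (vec (w := w) (pt u)), show ι (vec (w := w) (pt u)) = 0 from e]; rfl), ι_u0 _⟩

theorem Chart4.exists_e {u : ℕ} (hu : u < 45) :
    ∃ x ∈ N4 D a b c h, im2 D a b x = L (Y.pv u) := by
  have X := Y.data
  obtain ⟨h1, h0, hu0⟩ := Y.pv_facts hu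
  have hm := L_mem Y.ctx h1 h0
  obtain ⟨x, hx, hxe⟩ := ThreeTransM24Pair88.im2_surj_img X.ctx X.hb hm.1
  refine ⟨x, ⟨⟨hx, hx.1.1, fun e => hm.2.1 (by rw [← hxe, e]), ?_⟩, hx.1.1, fun e => ?_, ?_⟩, hxe⟩
  · exact (ThreeTransM24Pair88.im2_comm_iff X.ctx X.hb X.hc hx).mp (hxe.symm ▸ hm.2.2)
  · obtain ⟨s, hs, e'⟩ := L_inj Y.ctx h1 h0 iso_u0 u0_ne (by rw [← hxe, e, Y.base])
    exact pt_ne Y.omega hu (by
      rw [← tl_ι (vec (w := w) (pt u)), show ι (vec (w := w) (pt u)) = s • u0 from e', tl_smul, tl_u0,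
        smul_zero])
  · refine (ThreeTransM24Pair88.im2_comm_iff X.ctx X.hb X.hh hx).mp ?_
    rw [hxe, ← Y.base]
    exact (L_comm Y.ctx iso_u0 u0_ne h1 h0).mpr (h_comm_zero hu0)

/-- The member of a point. -/
noncomputable def Chart4.e (u : ℕ) : G := if hu : u < 45 then (Y.exists_e hu).choose else 1

theorem Chart4.e_spec {u : ℕ} (hu : u < 45) :
    Y.e u ∈ N4 D a b c h ∧ im2 D a b (Y.e u) = L (Y.pv u) := by
  rw [Chart4.e, dif_pos hu]
  exact (Y.exists_e hu).choose_spec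

theorem Chart4.exists_pq {u : ℕ} (hu : u < 45) : ∃ p : Quad D z, Y.e u ∈ p.1 := by
  obtain ⟨s, hs, hx⟩ := exists_quad Y.data.setup (Y.e_spec hu).1.1.1.1.1 (Y.data.n4_z (Y.e_spec hu).1)
  exact ⟨⟨s, hs⟩, hx⟩

/-- The quadruple of a point. -/
noncomputable def Chart4.pq (u : ℕ) : Quad D z := if hu : u < 45 then (Y.exists_pq hu).choose else q

theorem Chart4.e_mem {u : ℕ} (hu : u < 45) : Y.e u ∈ (Y.pq u).1 := by
  simp only [Chart4.pq, dif_pos hu]
  exact (Y.exists_pq hu).choose_spec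

/-- A common neighbour commutes with a point's member by orthogonality. -/
theorem Chart4.comm_e {x : G} (hx : x ∈ N4 D a b c h) {v : Fin 6 → F}
    (hv : UnitaryF4Geo.h v v = 0) (hv0 : v ≠ 0) (hvu : UnitaryF4Geo.h v u0 = 0)
    (hL : L v = im2 D a b x) {u : ℕ} (hu : u < 45) :
    Commute x (Y.e u) ↔ UnitaryF4Geo.h (tl v) (vec (w := w) (pt u)) = 0 := by
  obtain ⟨h1, h0, hu0⟩ := Y.pv_facts hu
  rw [← ThreeTransM24Pair88.im2_comm_iff Y.data.ctx Y.data.hb (n4_le hx) (n4_le (Y.e_spec hu).1),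
    (Y.e_spec hu).2, ← hL, L_comm Y.ctx hv hv0 h1 h0, h_perp hvu hu0, tl_ι]

theorem Chart4.comm_ee {u v : ℕ} (hu : u < 45) (hv : v < 45) :
    Commute (Y.e v) (Y.e u) ↔ C u v = v := by
  obtain ⟨h1, h0, hu0⟩ := Y.pv_facts hv
  rw [Y.comm_e (Y.e_spec hv).1 h1 h0 hu0 (Y.e_spec hv).2.symm hu, tl_ι, perp_iff Y.omega hu hv]

theorem Chart4.pq_inj {u v : ℕ} (hu : u < 45) (hv : v < 45) (e : Y.pq u = Y.pq v) : u = v := by
  refine separated hu hv fun x hx => ?_
  have X := Y.data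
  have hz := X.n4_z (Y.e_spec hx).1
  have hD := (Y.e_spec hx).1.1.1.1.1
  rw [← Y.comm_ee hu hx, ← Y.comm_ee hv hx]
  exact ⟨fun h' => (quad_all X.setup (Y.pq u).2 hD hz (Y.e_mem hu) h'.symm _ (e ▸ Y.e_mem hv)).symm,
    fun h' => (quad_all X.setup (Y.pq v).2 hD hz (Y.e_mem hv) h'.symm _ (e.symm ▸ Y.e_mem hu)).symm⟩

theorem Chart4.member_n4 {u : ℕ} (hu : u < 45) {x : G} (hx : x ∈ (Y.pq u).1) :
    x ∈ N4 D a b c h := by
  have X := Y.data
  obtain ⟨hxD, hxz⟩ := quad_mem X.setup (Y.pq u).2 hx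
  obtain ⟨-, hq, h1, h2, h3, h4⟩ := X.mem_N4.mp (Y.e_spec hu).1
  have key : ∀ {p : G}, p ∈ q.1 → Commute p (Y.e u) → Commute p x := fun {p} hp hpe =>
    (quad_all X.setup (Y.pq u).2 (quad_mem X.setup q.2 hp).1 (quad_mem X.setup q.2 hp).2
      (Y.e_mem hu) hpe.symm x hx).symm
  refine X.mem_N4.mpr ⟨hxD, fun hxq => hq ?_, key ((X.mems a).mpr (by simp)) h1,
    key ((X.mems b).mpr (by simp)) h2, key ((X.mems c).mpr (by simp)) h3,
    key ((X.mems h).mpr (by simp)) h4⟩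
  rw [quad_unique X.setup q.2 (Y.pq u).2 hxq hx]
  exact Y.e_mem hu

/-- The common neighbours are in the quadruples of the points. -/
theorem Chart4.cover {x : G} (hx : x ∈ N4 D a b c h) : ∃ u < 45, x ∈ (Y.pq u).1 := by
  classical
  haveI := Fintype.ofFinite G
  have X := Y.data
  set S : Finset G := (Finset.range 45).biUnion fun u => (Y.pq u).1 with hS
  have hcard : S.card = 180 := by
    rw [hS, Finset.card_biUnion fun u hu v hv hne => Finset.disjoint_left.mpr fun y hy hy' =>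
      hne (Y.pq_inj (Finset.mem_range.mp hu) (Finset.mem_range.mp hv)
        (Subtype.ext (quad_unique X.setup (Y.pq u).2 (Y.pq v).2 hy hy'))),
      Finset.sum_const_nat fun u _ => quad_card X.setup (Y.pq u).2, Finset.card_range]
  have hsub : (S : Set G) ⊆ N4 D a b c h := fun y hy => by
    obtain ⟨u, hu, hy⟩ := Finset.mem_biUnion.mp (Finset.mem_coe.mp hy)
    exact Y.member_n4 (Finset.mem_range.mp hu) hy
  have heq := Set.eq_of_subset_of_ncard_le hsub (by
    rw [Set.ncard_coe_finset, hcard, ThreeTransM24Quad65.ncard_four X.setup.ctx X.clist])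
  obtain ⟨u, hu, hxu⟩ := Finset.mem_biUnion.mp (Finset.mem_coe.mp (heq.symm ▸ hx : x ∈ (S : Set G)))
  exact ⟨u, Finset.mem_range.mp hu, hxu⟩

/-- The quadruple of a common neighbour is told by the direction of its vector. -/
theorem Chart4.mem_pq_iff {x : G} (hx : x ∈ N4 D a b c h) {v : Fin 6 → F}
    (hv : UnitaryF4Geo.h v v = 0) (hv0 : v ≠ 0) (hvu : UnitaryF4Geo.h v u0 = 0) (htl : tl v ≠ 0)
    (hL : L v = im2 D a b x) {u : ℕ} (hu : u < 45) :
    x ∈ (Y.pq u).1 ↔ ∃ s : F, s ≠ 0 ∧ tl v = s • vec (w := w) (pt u) := by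
  have X := Y.data
  obtain ⟨u₁, hu₁, hxu⟩ := Y.cover hx
  obtain ⟨u₂, hu₂, s, hs, hvs⟩ := complete Y.omega (iso_tl hv hvu) htl
  have h12 : u₁ = u₂ := by
    refine separated hu₁ hu₂ fun y hy => ?_
    have hD := (Y.e_spec hy).1.1.1.1.1
    have hz := X.n4_z (Y.e_spec hy).1
    rw [← Y.comm_ee hu₁ hy, ← perp_iff Y.omega hu₂ hy]
    have h3 := Y.comm_e hx hv hv0 hvu hL hy
    rw [hvs, h_smul_left, mul_eq_zero, or_iff_right hs] at h3
    constructor
    · intro h'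
      exact h_comm_zero (h3.mp (quad_all X.setup (Y.pq u₁).2 hD hz (Y.e_mem hu₁) h'.symm x hxu))
    · intro h'
      exact (quad_all X.setup (Y.pq u₁).2 hD hz hxu (h3.mpr (h_comm_zero h')) _ (Y.e_mem hu₁)).symm
  subst h12
  constructor
  · intro h'
    obtain rfl : u = u₁ := Y.pq_inj hu hu₁
      (Subtype.ext (quad_unique X.setup (Y.pq u).2 (Y.pq u₁).2 h' hxu))
    exact ⟨s, hs, hvs⟩
  · rintro ⟨s', hs', e⟩
    obtain rfl : u = u₁ := separated hu hu₁ fun y hy => by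
      rw [← perp_iff Y.omega hu hy, ← perp_iff Y.omega hu₁ hy]
      have e1 : UnitaryF4Geo.h (vec (w := w) (pt y)) (s' • vec (w := w) (pt u)) =
          UnitaryF4Geo.h (vec (w := w) (pt y)) (s • vec (w := w) (pt u₁)) := by rw [← e, hvs]
      rw [h_smul_right, h_smul_right] at e1
      constructor <;> intro h0 <;> rw [h0, mul_zero] at e1
      · exact (mul_eq_zero.mp e1.symm).resolve_left (pow_ne_zero 2 hs)
      · exact (mul_eq_zero.mp e1).resolve_left (pow_ne_zero 2 hs')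
    exact hxu

theorem Chart4.equiv {u v : ℕ} (hu : u < 45) (hv : v < 45) :
    t Y.data.setup (Y.pq u) (Y.pq v) = Y.pq (C u v) := by
  have X := Y.data
  have hC := ThreeTransM24QuadSpace54.C_lt hu hv
  obtain ⟨hx, hxe⟩ := Y.e_spec hu
  obtain ⟨hy, hye⟩ := Y.e_spec hv
  obtain ⟨h1, h0, hu0⟩ := Y.pv_facts hu
  obtain ⟨k1, k0, ku0⟩ := Y.pv_facts hv
  obtain ⟨-, -, c1, c2, c3, c4⟩ := X.mem_N4.mp hx
  have hg : Y.e u ∈ C4 a b c h := mem_C4.mpr ⟨c1.symm, c2.symm, c3.symm, c4.symm⟩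
  set g : ↥(centralizer ({z} : Set G)) := ⟨Y.e u, mem_cz X.setup (X.n4_z hx)⟩
  rw [← rho_member X.setup (a := g) (Y.e_mem hu)]
  refine rho_eq X.setup (Y.e_mem hv) ?_
  show Y.e u * Y.e v * (Y.e u)⁻¹ ∈ _
  set x := Y.pv v + UnitaryF4Geo.h (Y.pv v) (Y.pv u) • Y.pv u with hxdef
  have hL : L x = im2 D a b (Y.e u * Y.e v * (Y.e u)⁻¹) := by
    rw [ThreeTransM24Pair88.im2_conj X.ctx X.hb (subset_closure (n4_le hx)) (subset_closure (n4_le hy)),
      hxe, hye, L_tconj Y.ctx k1 k0 h1 h0]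
  have hxa : x = OrthUnitaryTransvection.act (T (Y.pv u) h1) (Y.pv v) := (T_act _ _ _).symm
  obtain ⟨s, hs, htl⟩ := moved_eq Y.omega hu hv
  have htl' : tl x = s • vec (w := w) (pt (C u v)) := by
    rw [hxdef, tl_add, tl_smul, tl_ι, tl_ι, h_ι, htl]
  refine (Y.mem_pq_iff (X.n4_conj hg hy) ?_ ?_ ?_ ?_ hL hC).mpr ⟨s, hs, htl'⟩
  · rw [hxa]; exact (OrthUnitaryTransvection.herm_act _ _ _).trans k1
  · rw [hxa]; exact OrthUnitaryPSU.act_smul_right_inj _ k0
  · rw [hxdef, h_add_left, h_smul_left, hu0, ku0, mul_zero, add_zero]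
  · rw [htl']; exact smul_ne_zero hs (pt_ne Y.omega hC)

theorem Chart4.near_iff (p : Quad D z) :
    (p ≠ q ∧ t Y.data.setup q p = p) ↔ ∃ u < 45, Y.pq u = p := by
  have X := Y.data
  have ha : a ∈ q.1 := (X.mems a).mpr (Or.inl rfl)
  constructor
  · rintro ⟨hne, hfix⟩
    obtain ⟨x, hx⟩ := quad_nonempty X.setup p
    have hc : ∀ y ∈ q.1, Commute y x := fun y hy => commute_of_t_fix X.setup hfix hy hx
    obtain ⟨u, hu, hxu⟩ := Y.cover (X.mem_N4.mpr ⟨(quad_mem X.setup p.2 hx).1,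
      fun hxq => hne (Subtype.ext (quad_unique X.setup p.2 q.2 hx hxq)),
      hc a ha, hc b ((X.mems b).mpr (by simp)), hc c ((X.mems c).mpr (by simp)),
      hc h ((X.mems h).mpr (by simp))⟩)
    exact ⟨u, hu, Subtype.ext (quad_unique X.setup (Y.pq u).2 p.2 hxu hx)⟩
  · rintro ⟨u, hu, rfl⟩
    obtain ⟨-, hq, h1, -⟩ := X.mem_N4.mp (Y.e_spec hu).1
    exact ⟨fun e => hq ((congrArg Subtype.val e).subst (motive := fun s => Y.e u ∈ s) (Y.e_mem hu)), t_fix_of_commute X.setup ha (Y.e_mem hu) h1⟩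

theorem Chart4.theta_eq_one (g : ↥(C4 a b c h)) : Y.theta g = 1 ↔
    ∀ u < 45, (g : G) * Y.e u * (g : G)⁻¹ ∈ (Y.pq u).1 := by
  have X := Y.data
  obtain ⟨A, hA⟩ := ThreeTransM22Pair54.exists_lift Y.ctx (Y.phi_mem g)
  show ThreeTransM22Pair54.psi Y.ctx (Y.Phi g) = 1 ↔ _
  rw [ThreeTransM22Pair54.psi_eq_one Y.ctx (k := Y.Phi g) (A := A) hA, Ψ_eq_one_iff]
  obtain ⟨g1, g2, -, -⟩ := mem_C4.mp g.2
  have key : ∀ u < 45, (g : G) * Y.e u * (g : G)⁻¹ ∈ (Y.pq u).1 ↔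
      ∃ s : F, s ≠ 0 ∧ lin A.1 (vec (w := w) (pt u)) = s • vec (w := w) (pt u) := by
    intro u hu
    obtain ⟨hx, hxe⟩ := Y.e_spec hu
    obtain ⟨h1, h0, hu0⟩ := Y.pv_facts hu
    obtain ⟨-, -, c1, c2, -⟩ := X.mem_N4.mp hx
    have hL : L (OrthUnitaryTransvection.act A.1 (Y.pv u)) =
        im2 D a b ((g : G) * Y.e u * (g : G)⁻¹) := by
      rw [← L_conj Y.ctx (k := ⟨im2 D a b g, (Y.phi_mem g).1⟩) hA h1 h0, ← hxe,
        X.im2_mul (g1.mul_left c1.symm) (g2.mul_left c2.symm) g1.inv_left g2.inv_left,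
        X.im2_mul g1 g2 c1.symm c2.symm]
      refine congrArg _ (eq_inv_of_mul_eq_one_left ?_).symm
      rw [← X.im2_mul g1.inv_left g2.inv_left g1 g2, inv_mul_cancel]
      exact ThreeTransM24Pair88.im2_one X.ctx X.hb
    have htl : tl (OrthUnitaryTransvection.act A.1 (Y.pv u)) = lin A.1 (vec (w := w) (pt u)) := rfl
    have hu0' := P_perp A.2 hu0
    have hne : tl (OrthUnitaryTransvection.act A.1 (Y.pv u)) ≠ 0 := by
      obtain ⟨v, hv, hv0, hvu, hvtl, hvL⟩ := Y.exists_vec (X.n4_conj g.2 hx)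
      obtain ⟨s, hs, e⟩ := L_inj Y.ctx hv hv0
        ((OrthUnitaryTransvection.herm_act A.1 _ _).trans h1)
        (OrthUnitaryPSU.act_smul_right_inj A.1 h0) (hvL.trans hL.symm)
      intro h'
      exact hvtl (by rw [e, tl_smul, h', smul_zero])
    rw [← htl]
    exact Y.mem_pq_iff (X.n4_conj g.2 hx) ((OrthUnitaryTransvection.herm_act A.1 _ _).trans h1)
      (OrthUnitaryPSU.act_smul_right_inj A.1 h0) hu0' hne hL hu
  constructor
  · rintro ⟨s, hs, e⟩ u hu
    exact (key u hu).mpr ⟨s, hs, e _⟩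
  · intro H
    obtain ⟨s, hs⟩ := scalar_of_iso Y.omega (f := lin A.1) fun x hx hx0 => by
      obtain ⟨u, hu, r, hr, rfl⟩ := complete Y.omega hx hx0
      obtain ⟨s, -, e⟩ := (key u hu).mp (H u hu)
      exact ⟨s, by rw [map_smul, e, smul_comm]⟩
    obtain ⟨r, hr, e⟩ := (key 0 (by norm_num)).mp (H 0 (by norm_num))
    refine ⟨s, fun h0 => ?_, hs⟩
    rw [hs, h0, zero_smul] at e
    exact smul_ne_zero hr (pt_ne Y.omega (by norm_num : (0 : ℕ) < 45)) e.symm

/-- An element of the centralizer commuting with all common neighbours is a product of the four. -/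
theorem Chart4.central {g : G} (hg : g ∈ C4 a b c h) (hgn : ∀ x ∈ N4 D a b c h, Commute g x) :
    ∃ pa pb pc ph : G, (pa = 1 ∨ pa = a) ∧ (pb = 1 ∨ pb = b) ∧ (pc = 1 ∨ pc = c) ∧
      (ph = 1 ∨ ph = h) ∧ g = pa * pb * pc * ph := by
  have X := Y.data
  obtain ⟨g1, g2, -, -⟩ := mem_C4.mp hg
  obtain ⟨A, hA⟩ := ThreeTransM22Pair54.exists_lift Y.ctx (Y.phi_mem ⟨g, hg⟩)
  have hLfix : ∀ x, UnitaryF4Geo.h x x = 0 → UnitaryF4Geo.h x u0 = 0 → x ≠ 0 →
      ∃ s : F, s ≠ 0 ∧ OrthUnitaryTransvection.act A.1 x = s • x := by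
    intro x hx hxu hx0
    have h2 := L_conj Y.ctx (k := ⟨im2 D a b g, (Y.phi_mem ⟨g, hg⟩).1⟩) hA hx hx0
    suffices hfix : Commute (im2 D a b g) (L x) by
      have h1 : im2 D a b g * L x * (im2 D a b g)⁻¹ = L x := mul_inv_eq_iff_eq_mul.mpr hfix.eq
      exact L_inj Y.ctx ((OrthUnitaryTransvection.herm_act A.1 _ _).trans hx)
        (OrthUnitaryPSU.act_smul_right_inj A.1 hx0) hx hx0 (h2.symm.trans h1)
    by_cases hb : L x = im2 D a b h
    · rw [hb]
      have := (mem_centralizer_singleton_iff.mp (Y.phi_mem ⟨g, hg⟩).2)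
      rw [Y.base] at this
      exact this
    · have hm := L_mem Y.ctx hx hx0
      obtain ⟨p, hp, hpe⟩ := ThreeTransM24Pair88.im2_surj_img X.ctx X.hb hm.1
      have hpN : p ∈ N4 D a b c h := by
        refine ⟨⟨hp, hp.1.1, fun e => hm.2.1 (by rw [← hpe, e]), ?_⟩, hp.1.1, fun e => hb ?_, ?_⟩
        · exact (ThreeTransM24Pair88.im2_comm_iff X.ctx X.hb X.hc hp).mp (hpe.symm ▸ hm.2.2)
        · rw [← hpe, e]
        · refine (ThreeTransM24Pair88.im2_comm_iff X.ctx X.hb X.hh hp).mp ?_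
          rw [hpe, ← Y.base]
          exact (L_comm Y.ctx iso_u0 u0_ne hx hx0).mpr (h_comm_zero hxu)
      obtain ⟨-, -, p1, p2, -⟩ := X.mem_N4.mp hpN
      rw [← hpe, commute_iff_eq, ← X.im2_mul g1 g2 p1.symm p2.symm, ← X.im2_mul p1.symm p2.symm g1 g2,
        (hgn p hpN).eq]
  obtain ⟨s, hs, he⟩ := scalar_of_eigen hLfix
  have hV : im2 D a b g ∈ closure ({im2 D a b c, L u0} : Set (Wq D a b)) := by
    refine ThreeTransM22Pair54.mem_V Y.ctx (Y.phi_mem ⟨g, hg⟩).1 ?_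
    rw [hA]
    exact scalar_on_perp hs he
  rw [Y.base] at hV
  have hcom := ca_comm X
  have hone : im2 D a b (1 : G) = 1 := ThreeTransM24Pair88.im2_one X.ctx X.hb
  obtain ⟨pc, ph, hpc, hph, hk⟩ : ∃ pc ph : G, (pc = 1 ∨ pc = c) ∧ (ph = 1 ∨ ph = h) ∧
      im2 D a b g = im2 D a b (pc * ph) := by
    have hcd : c * c = 1 := X.tsys.sq c X.hc.1.1
    have hdd : h * h = 1 := X.tsys.sq h X.hh.1.1
    have hch : c * h = h * c := (X.clist.comm c (by simp) h (by simp)).eq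
    generalize im2 D a b g = y₀ at hV ⊢
    induction hV using Subgroup.closure_induction with
    | mem y hy =>
      rcases hy with rfl | rfl
      · exact ⟨c, 1, Or.inr rfl, Or.inl rfl, by rw [mul_one]⟩
      · exact ⟨1, h, Or.inl rfl, Or.inr rfl, by rw [one_mul]⟩
    | one => exact ⟨1, 1, Or.inl rfl, Or.inl rfl, by rw [mul_one, hone]⟩
    | mul y y' _ _ ih ih' =>
      obtain ⟨p, r, hp, hr, rfl⟩ := ih
      obtain ⟨p', r', hp', hr', rfl⟩ := ih'
      have cp : ∀ {x}, x = 1 ∨ x = c → Commute x a ∧ Commute x b := fun {x} hx => by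
        rcases hx with rfl | rfl
        exacts [⟨Commute.one_left _, Commute.one_left _⟩, hcom.1]
      have cr : ∀ {x}, x = 1 ∨ x = h → Commute x a ∧ Commute x b := fun {x} hx => by
        rcases hx with rfl | rfl
        exacts [⟨Commute.one_left _, Commute.one_left _⟩, hcom.2]
      rw [← X.im2_mul ((cp hp).1.mul_left (cr hr).1) ((cp hp).2.mul_left (cr hr).2)
        ((cp hp').1.mul_left (cr hr').1) ((cp hp').2.mul_left (cr hr').2)]
      have e : p * r * (p' * r') = (p * p') * (r * r') := by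
        have : r * p' = p' * r := by
          rcases hp' with rfl | rfl <;> rcases hr with rfl | rfl <;> simp [hch]
        rw [mul_assoc, ← mul_assoc r, this]; group
      refine ⟨p * p', r * r', ?_, ?_, by rw [e]⟩
      · rcases hp with rfl | rfl <;> rcases hp' with rfl | rfl <;> simp [hcd]
      · rcases hr with rfl | rfl <;> rcases hr' with rfl | rfl <;> simp [hdd]
    | inv y _ ih =>
      obtain ⟨p, r, hp, hr, rfl⟩ := ih
      refine ⟨p, r, hp, hr, inv_eq_of_mul_eq_one_right ?_⟩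
      have hpr : p * r * (p * r) = 1 := by
        have e4 : c * h * (c * h) = 1 := by
          rw [Commute.mul_mul_mul_comm (show Commute h c from hch.symm), hcd, hdd, one_mul]
        rcases hp with rfl | rfl <;> rcases hr with rfl | rfl
        exacts [by simp, by simpa using hdd, by simpa using hcd, e4]
      have c1 : Commute (p * r) a ∧ Commute (p * r) b := by
        rcases hp with rfl | rfl <;> rcases hr with rfl | rfl <;>
          simp [hcom.1.1, hcom.1.2, hcom.2.1, hcom.2.2, hcom.1.1.mul_left hcom.2.1,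
            hcom.1.2.mul_left hcom.2.2]
      rw [← X.im2_mul c1.1 c1.2 c1.1 c1.2, hpr, hone]
  have c1 : Commute (pc * ph) a ∧ Commute (pc * ph) b := by
    rcases hpc with rfl | rfl <;> rcases hph with rfl | rfl <;>
      simp [hcom.1.1, hcom.1.2, hcom.2.1, hcom.2.2, hcom.1.1.mul_left hcom.2.1,
        hcom.1.2.mul_left hcom.2.2]
  set g' := g * (pc * ph)⁻¹ with hg'
  have g'1 : Commute g' a := g1.mul_left c1.1.inv_left
  have g'2 : Commute g' b := g2.mul_left c1.2.inv_left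
  have h1 : im2 D a b g' = 1 := by
    refine mul_right_cancel (b := im2 D a b (pc * ph)) ?_
    rw [← X.im2_mul g'1 g'2 c1.1 c1.2, hg', inv_mul_cancel_right, one_mul, hk]
  have Q := ThreeTransM24Pair88.qc X.ctx X.hb
  have hker : im D a g' = 1 ∨ im D a g' = im D a b := Q.ker (X.mem_loc2 g'1 g'2) h1
  obtain ⟨pb, hpb, hk2⟩ : ∃ pb : G, (pb = 1 ∨ pb = b) ∧ im D a (g' * pb) = 1 := by
    rcases hker with h' | h'
    · exact ⟨1, Or.inl rfl, by rw [mul_one, h']⟩
    · refine ⟨b, Or.inr rfl, ?_⟩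
      rw [ThreeTransM24Pair88.im_mul X.ctx (X.mem_loc g'1) (near_le_loc X.hb), h',
        ← ThreeTransM24Pair88.im_mul X.ctx (near_le_loc X.hb) (near_le_loc X.hb),
        X.tsys.sq b X.hb.1]
      exact im_eq (one_mem _)
  have hm : g' * pb ∈ loc D a := by
    rcases hpb with rfl | rfl
    · rw [mul_one]; exact X.mem_loc g'1
    · exact mul_mem (X.mem_loc g'1) (near_le_loc X.hb)
  obtain ⟨pa, hpa, e⟩ : ∃ pa : G, (pa = 1 ∨ pa = a) ∧ g' * pb = pa := by
    rcases ThreeTransM24Local88.ker X.ctx hm hk2 with h' | h'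
    exacts [⟨1, Or.inl rfl, h'⟩, ⟨a, Or.inr rfl, h'⟩]
  refine ⟨pa, pb, pc, ph, hpa, hpb, hpc, hph, ?_⟩
  have hbb : pb * pb = 1 := by
    rcases hpb with rfl | rfl
    exacts [one_mul 1, X.tsys.sq _ X.hb.1]
  rw [← e, mul_assoc g', hbb, mul_one, hg', mul_assoc, mul_assoc, inv_mul_cancel, mul_one]

omit Y
include X

open Classical in
/-- The space at the quadruple, and the map onto `PSU₄(2)`. -/
theorem main [Fintype (Quad D z)] : ∃ (ι : ℕ → Quad D z),
    ThreeTransM24QuadSpace54.Space (t X.setup) q ι ∧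
    ∃ (M : Type) (_ : Group M) (θ : ↥(C4 a b c h) →* M), Function.Surjective θ ∧ Nat.card M = 25920 ∧
      Finite M ∧ Nat.card (MulAut M) = 51840 ∧
      (∀ g ∈ C4 a b c h, (∀ x ∈ N4 D a b c h, Commute g x) → ∃ pa pb pc ph : G, (pa = 1 ∨ pa = a) ∧
        (pb = 1 ∨ pb = b) ∧ (pc = 1 ∨ pc = c) ∧ (ph = 1 ∨ ph = h) ∧ g = pa * pb * pc * ph) ∧
      (∀ (g : ↥(C4 a b c h)) (hg : (g : G) ∈ centralizer ({z} : Set G)),
        θ g = 1 ↔ ∀ u < 45, rho X.setup ⟨g, hg⟩ (ι u) = ι u) ∧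
      ∀ g : ↥(centralizer ({z} : Set G)), (g : G) * a * (g : G)⁻¹ = a → (g : G) * b * (g : G)⁻¹ = b →
        (g : G) * c * (g : G)⁻¹ = h → (g : G) * h * (g : G)⁻¹ = c →
        ¬ ∀ u < 45, rho X.setup g (ι u) = ι u := by
  obtain ⟨F, iF, jF, hF, φ, w, Y⟩ := exists_chart X
  letI := iF
  letI := jF
  haveI := hF
  refine ⟨Y.pq, ⟨?_, t_invol X.setup, t_self X.setup, t_conj X.setup, t_symm X.setup, Y.near_iff,
    fun u hu v hv => Y.pq_inj hu hv, fun u hu v hv => Y.equiv hu hv, fun p => ?_⟩,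
    Cfsg.PSU 4 F 2, inferInstance, Y.theta, Y.theta_surj, PSUFourTwoPSp57.card_psu hF.card_eq,
    Nat.finite_of_card_ne_zero (by rw [PSUFourTwoPSp57.card_psu hF.card_eq]; norm_num), ?_,
    fun g hg hgn => Y.central hg hgn, fun g hg => ?_, fun g ga gb gc gh H => ?_⟩
  · rw [← Nat.card_eq_fintype_card]; exact card_quad X.setup
  · obtain ⟨g, hg⟩ := rho_transitive X.setup q p
    exact ⟨rho X.setup g, hg, fun r => t_rho X.setup g r⟩
  · haveI : Fact (Nat.Prime 2) := ⟨Nat.prime_two⟩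
    rw [AutPSU52Api.card_mulAut (p := 2) (f := 1) (by norm_num) le_rfl
      (by rw [hF.card_eq]; norm_num) (by norm_num) (by norm_num), PSUFourTwoPSp57.card_psu hF.card_eq]
    norm_num
  · rw [Y.theta_eq_one]
    constructor
    · intro H u hu
      exact rho_eq X.setup (Y.e_mem hu) (H u hu)
    · intro H u hu
      have := mem_rho X.setup (g := ⟨g, hg⟩) (Y.e_mem hu)
      rwa [H u hu] at this
  · have Q := ThreeTransM24Pair88.qc X.ctx X.hb
    have g1 : Commute (g : G) a := mul_inv_eq_iff_eq_mul.mp ga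
    have g2 : Commute (g : G) b := mul_inv_eq_iff_eq_mul.mp gb
    have hconj : ∀ {x : G}, Commute x a → Commute x b → im2 D a b ((g : G) * x * (g : G)⁻¹) =
        im2 D a b g * im2 D a b x * (im2 D a b g)⁻¹ := by
      intro x x1 x2
      rw [X.im2_mul (g1.mul_left x1) (g2.mul_left x2) g1.inv_left g2.inv_left, X.im2_mul g1 g2 x1 x2]
      refine congrArg _ (eq_inv_of_mul_eq_one_left ?_)
      rw [← X.im2_mul g1.inv_left g2.inv_left g1 g2, inv_mul_cancel]
      exact ThreeTransM24Pair88.im2_one X.ctx X.hb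
    have ca : ∀ {x}, x ∈ [a, b, c, h] → Commute x a ∧ Commute x b := fun {x} hx =>
      ⟨X.clist.comm x hx a (by simp), X.clist.comm x hx b (by simp)⟩
    refine ThreeTransM22QuadSwap54.not_inner Q.qgrp Q.qprim Q.q22 Y.ctx (t := im2 D a b g)
      (fun k => ?_) ?_ ?_ fun k hk => ?_
    · rw [ThreeTransM22Pair54.Kp, Subgroup.mem_inf, ← ThreeTransM22Outer72.centralizer_eq_loc Q.qgrp
        Q.qprim Q.q22 _ (ThreeTransM24Pair88.im2_mem X.ctx X.hb X.hc), mem_centralizer_singleton_iff,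
        mem_centralizer_singleton_iff]
      rfl
    · rw [Y.base, ← hconj (ca (by simp)).1 (ca (by simp)).2, gc]
    · rw [Y.base, ← hconj (ca (by simp)).1 (ca (by simp)).2, gh]
    · obtain ⟨k₀, hk₀⟩ := Y.Phi_surj k
      obtain ⟨k1, k2, k3, k4⟩ := mem_C4.mp k₀.2
      have hmem : (g : G) * k₀ * (g : G)⁻¹ ∈ C4 a b c h := by
        refine mem_C4.mpr ⟨?_, ?_, ?_, ?_⟩
        · have := (Commute.conj_iff (g : G)).mpr k1; rwa [ga] at this
        · have := (Commute.conj_iff (g : G)).mpr k2; rwa [gb] at this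
        · have := (Commute.conj_iff (g : G)).mpr k4; rwa [gh] at this
        · have := (Commute.conj_iff (g : G)).mpr k3; rwa [gc] at this
      have e1 : (⟨_, hk⟩ : ↥(ThreeTransM22Pair54.Kp Y.ctx)) = Y.Phi ⟨_, hmem⟩ := Subtype.ext (by
        show _ = im2 D a b ((g : G) * k₀ * (g : G)⁻¹)
        rw [hconj k1 k2, show im2 D a b (k₀ : G) = (k : Wq D a b) from congrArg Subtype.val hk₀])
      have h4 : ∀ x : ↥(C4 a b c h), (x : G) ∈ centralizer ({z} : Set G) := fun x => by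
        obtain ⟨x1, x2, x3, x4⟩ := mem_C4.mp x.2
        exact mem_centralizer_singleton_iff.mpr
          (X.prod ▸ ((x1.mul_right x2).mul_right x3).mul_right x4).eq
      have e2 : Y.theta (⟨_, hmem⟩ * k₀⁻¹) = 1 := by
        refine (Y.theta_eq_one _).mpr fun u hu => ?_
        set G' : ↥(centralizer ({z} : Set G)) := g * ⟨k₀, h4 k₀⟩ * g⁻¹ * ⟨k₀, h4 k₀⟩⁻¹
        have hnear : ∀ (x : ↥(C4 a b c h)), ∃ v < 45, rho X.setup ⟨x, h4 x⟩ (Y.pq u) = Y.pq v := by
          intro x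
          obtain ⟨v, hv, hxv⟩ := Y.cover (X.n4_conj x.2 (Y.e_spec hu).1)
          exact ⟨v, hv, rho_eq X.setup (Y.e_mem hu) hxv⟩
        have hG' : rho X.setup G' (Y.pq u) = Y.pq u := by
          obtain ⟨v, hv, hv'⟩ := hnear k₀⁻¹
          have hginv : rho X.setup g⁻¹ (Y.pq v) = Y.pq v := by
            conv_lhs => rw [← H v hv]
            rw [← Equiv.Perm.mul_apply, ← map_mul, inv_mul_cancel, map_one, Equiv.Perm.one_apply]
          simp only [G', map_mul, Equiv.Perm.mul_apply]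
          rw [show (⟨(k₀ : G), h4 k₀⟩ : ↥(centralizer ({z} : Set G)))⁻¹ =
            ⟨((k₀⁻¹ : ↥(C4 a b c h)) : G), h4 _⟩ from rfl, hv', hginv]
          rw [show rho X.setup ⟨(k₀ : G), h4 k₀⟩ (Y.pq v) = Y.pq u by
            rw [← hv', ← Equiv.Perm.mul_apply, ← map_mul,
              show (⟨(k₀ : G), h4 k₀⟩ : ↥(centralizer ({z} : Set G))) *
                ⟨((k₀⁻¹ : ↥(C4 a b c h)) : G), h4 _⟩ = 1 from Subtype.ext (mul_inv_cancel (k₀ : G)),
              map_one, Equiv.Perm.one_apply]]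
          exact H u hu
        have := mem_rho X.setup (g := G') (Y.e_mem hu)
        rwa [hG'] at this
      rw [map_mul, map_inv, mul_inv_eq_one] at e2
      show ThreeTransM22Pair54.psi Y.ctx _ = _
      rw [e1, ← hk₀]
      exact e2

end Cfsg.Agent.ThreeTransM24QuadLocal54
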