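import Cfsg.Agent.Lib.ThreeTransM24QuadKernel54
import Cfsg.Agent.Lib.ThreeTransM24QuadGroup54
import Cfsg.Agent.Lib.CharTwoLocal
import Cfsg.Agent.Lib.SymplecticType

/-!
# The centralizer in the derived group of a product of four commuting members in type M(24)
-/

set_option autoImplicit false
set_option linter.unusedSectionVars false
set_option linter.style.haveILetI false

namespace Cfsg.Agent.ThreeTransM24QuadTop54

open Subgroup Cfsg.Agent.ThreeTransRel Cfsg.Agent.ThreeTransDescent
open Cfsg.Agent.ThreeTransM24Quads54 Cfsg.Agent.ThreeTransM24QuadPairs54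
open scoped commutatorElement

variable {G : Type*} [Group G] [Finite G] {D : Set G} {z : G}

theorem main (W : Setup D z) (hlay : (commutator G).index = 2 ∧ ∀ x ∈ D, x ∉ commutator G) :
    ∃ (Q : Subgroup ↥(commutator G ⊓ centralizer ({z} : Set G))) (_ : Q.Normal),
      Cfsg.generalizedFittingSubgroup ↥(commutator G ⊓ centralizer ({z} : Set G)) = Q ∧
      Cfsg.IsExtraspecial 2 ↥Q ∧ Nat.card Q = 2 ^ 13 ∧
      ∃ (N M : Subgroup ↥(commutator G ⊓ centralizer ({z} : Set G))) (_ : N.Normal) (_ : M.Normal),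
        Q ≤ N ∧ N ≤ M ∧ Nat.card N = 3 * Nat.card Q ∧
        (∃ (K : Type) (_ : Field K) (_ : Fintype K), Fintype.card K = 9 ∧
          Nonempty (↥M ⧸ N.subgroupOf M ≃* Cfsg.PSU 4 K 3)) ∧ M.index = 2 := by
  classical
  haveI : Fintype (Quad D z) := Fintype.ofFinite _
  haveI : Fact (Nat.Prime 2) := ⟨Nat.prime_two⟩
  obtain ⟨⟨hCz, hK0, hP, hcent⟩, q, ι, S⟩ := ThreeTransM24QuadKernel54.facts W
  set L := commutator G with hLd
  set C := L ⊓ centralizer ({z} : Set G) with hCd
  let i : ↥C →* Cz z := Subgroup.inclusion inf_le_right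
  have hi : Function.Injective i := Subgroup.inclusion_injective _
  have mem_range : ∀ {g : Cz z}, g ∈ i.range ↔ (g : G) ∈ L := fun {g} => by
    constructor
    · rintro ⟨x, rfl⟩; exact x.2.1
    · exact fun h => ⟨⟨g, h, g.2⟩, rfl⟩
  have two_mem : ∀ {a b : G}, a ∈ D → b ∈ D → a * b ∈ L := fun {a b} ha hb =>
    (Subgroup.mul_mem_iff_of_index_two hlay.1).mpr (iff_of_false (hlay.2 a ha) (hlay.2 b hb))
  -- index two in the centralizer
  set A : Cz z := el W q with hA
  have hAD : (A : G) ∈ D := (quad_mem W q.2 (el_mem W q)).1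
  have hidx : i.range.index = 2 := Subgroup.index_eq_two_iff.mpr ⟨A, fun g => by
    rw [mem_range, mem_range, Subgroup.coe_mul, Subgroup.mul_mem_iff_of_index_two hlay.1]
    by_cases hg : (g : G) ∈ L
    · exact Or.inr ⟨hg, fun h => hlay.2 _ hAD (h.mp hg)⟩
    · exact Or.inl ⟨iff_of_false hg (hlay.2 _ hAD), hg⟩⟩
  haveI : i.range.Normal := Subgroup.normal_of_index_eq_two hidx
  have hcardC : Nat.card ↥C = 2 ^ 21 * 3 ^ 7 * 35 := by
    have h := i.range.card_mul_index
    rw [hidx, ← Nat.card_congr (MonoidHom.ofInjective hi).toEquiv] at h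
    change Nat.card ↥C * 2 = Nat.card (Cz z) at h
    rw [hCz] at h
    omega
  -- the pairs and the kernel lie in the derived group
  have hPr : P W ≤ i.range := by
    rw [P, closure_le]
    rintro g ⟨p, a, ha, b, hb, e⟩
    exact mem_range.mpr (e ▸ two_mem (quad_mem W p.2 ha).1 (quad_mem W p.2 hb).1)
  have hKr : (rho W).ker ≤ i.range := by
    have h1 := (i.range.subgroupOf (rho W).ker).card_mul_index
    have h2 : i.range.relIndex (rho W).ker ∣ i.range.index := Subgroup.relIndex_dvd_index_of_normal _ _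
    rw [hidx] at h2
    have h3 : Nat.card ↥((P W).subgroupOf (rho W).ker) ∣ Nat.card ↥(i.range.subgroupOf (rho W).ker) :=
      Subgroup.card_dvd_of_le fun x hx => hPr hx
    rw [Nat.card_congr (subgroupOfEquivOfLe (P_le_ker W)).toEquiv, hP] at h3
    change _ * i.range.relIndex (rho W).ker = _ at h1
    rw [hK0] at h1
    rcases (Nat.dvd_prime Nat.prime_two).mp h2 with h | h <;> rw [h] at h1
    · exact Subgroup.relIndex_eq_one.mp h
    · exfalso; omega
  set Q := (P W).comap i with hQd
  set ρ := (rho W).comp i with hρ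
  set N := ρ.ker with hNd
  have hcardQ : Nat.card ↥Q = 2 ^ 13 := by
    rw [← hP, ← Subgroup.card_map_of_injective (K := Q) hi, map_comap_eq, inf_eq_right.mpr hPr]
  have hcardN : Nat.card ↥N = 3 * 2 ^ 13 := by
    rw [← hK0, ← Subgroup.card_map_of_injective (K := N) hi, hNd, hρ, ← MonoidHom.comap_ker,
      map_comap_eq, inf_eq_right.mpr hKr]
  have hQN : Q ≤ N := fun x hx => P_le_ker W hx
  -- the projective unitary group
  let K := GaloisField 3 2
  haveI : Fact (Nat.Prime 3) := ⟨Nat.prime_three⟩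
  letI : Fintype K := Fintype.ofFinite _
  have hK : Fintype.card K = 9 := by
    rw [← Nat.card_eq_fintype_card, GaloisField.card 3 2 (by norm_num)]; norm_num
  obtain ⟨H, hH, hcardH, ⟨eH⟩⟩ := ThreeTransM24QuadGroup54.exists_sub S K hK
  haveI : IsSimpleGroup (Cfsg.PSU 4 K 3) :=
    OrthUnitaryPSU.isSimpleGroup_PSU (F := K) (n := 4) (q := 3) (by rw [hK]; norm_num) (by norm_num)
      (by norm_num)
  haveI : IsSimpleGroup ↥H := eH.isSimpleGroup
  have hHr : H ≤ ρ.range := by
    refine hH.trans ((closure_le _).mpr ?_)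
    rintro _ ⟨⟨p, r⟩, rfl⟩
    refine ⟨⟨((el W p * el W r : Cz z) : G), two_mem (quad_mem W p.2 (el_mem W p)).1
      (quad_mem W r.2 (el_mem W r)).1, (el W p * el W r).2⟩, ?_⟩
    show rho W (el W p * el W r) = t W p * t W r
    rw [map_mul]; rfl
  set M := H.comap ρ with hMd
  have hNM : N ≤ M := fun x hx => by
    rw [hMd, mem_comap, MonoidHom.mem_ker.mp hx]; exact one_mem _
  let f : ↥M →* ↥H := (ρ.comp M.subtype).codRestrict H fun x => x.2
  have hf : Function.Surjective f := fun y => by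
    obtain ⟨x, hx⟩ := hHr y.2
    exact ⟨⟨x, show ρ x ∈ H by rw [hx]; exact y.2⟩, Subtype.ext hx⟩
  have hfker : f.ker = N.subgroupOf M := by
    ext x
    rw [MonoidHom.mem_ker, mem_subgroupOf, hNd, MonoidHom.mem_ker, Subtype.ext_iff]
    rfl
  have hcardM : Nat.card ↥M = 3 * 2 ^ 13 * 3265920 := by
    have h := f.ker.index_mul_card
    rw [Subgroup.index_ker, MonoidHom.range_eq_top.mpr hf, Subgroup.card_top, hcardH, hfker,
      Nat.card_congr (subgroupOfEquivOfLe hNM).toEquiv, hcardN] at h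
    omega
  have hMidx : M.index = 2 := by
    have h := M.card_mul_index
    rw [hcardC, hcardM] at h
    omega
  haveI hMn : M.Normal := Subgroup.normal_of_index_eq_two hMidx
  haveI hQn : Q.Normal := Subgroup.Normal.comap inferInstance i
  -- the largest normal 2-subgroup
  have hQp : IsPGroup 2 ↥Q := IsPGroup.of_card hcardQ
  set O := Cfsg.pCore 2 ↥C with hOd
  have hOp : IsPGroup 2 ↥O := ComponentsCores.isPGroup_pCore 2
  have hOM : ∀ x ∈ O, x ∈ M → x ∈ N := by
    intro x hxO hxM
    haveI : ((O.subgroupOf M).map f).Normal := Subgroup.Normal.map inferInstance f hf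
    have hp : IsPGroup 2 ↥((O.subgroupOf M).map f) := (hOp.comap_subtype (H := O) (K := M)).map f
    rcases (inferInstance : ((O.subgroupOf M).map f).Normal).eq_bot_or_eq_top with h | h
    · have hm : f ⟨x, hxM⟩ ∈ (O.subgroupOf M).map f := mem_map_of_mem _ hxO
      rw [h, mem_bot, ← MonoidHom.mem_ker, hfker] at hm
      exact hm
    · exfalso
      obtain ⟨k, hk⟩ := IsPGroup.iff_card.mp hp
      rw [h, Subgroup.card_top, hcardH] at hk
      have h3 : 3 ∣ 2 ^ k := hk ▸ (by norm_num)
      have := Nat.Prime.dvd_of_dvd_pow Nat.prime_three h3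
      norm_num at this
  have hON : O ≤ N := by
    intro x hxO
    by_cases hxM : x ∈ M
    · exact hOM x hxO hxM
    have same : ∀ y ∈ O, y ∉ M → ρ y = ρ x := by
      intro y hy hyM
      have h1 : y * x⁻¹ ∈ M := (Subgroup.mul_mem_iff_of_index_two hMidx).mpr
        (iff_of_false hyM fun h => hxM (by simpa using inv_mem h))
      have h2 := hOM _ (mul_mem hy (inv_mem hxO)) h1
      rwa [hNd, MonoidHom.mem_ker, map_mul, map_inv, mul_inv_eq_one] at h2
    have hC : ∀ g : ↥C, ρ g * ρ x * (ρ g)⁻¹ = ρ x := fun g => by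
      rw [← map_inv, ← map_mul, ← map_mul]
      refine same _ ((inferInstance : O.Normal).conj_mem x hxO g) fun h => hxM ?_
      simpa [mul_assoc] using hMn.conj_mem _ h g⁻¹
    have hconjA : ∀ y : ↥C, (A : G) * y * (A : G)⁻¹ ∈ C := fun y =>
      ⟨(inferInstance : (commutator G).Normal).conj_mem _ y.2.1 _,
        Subgroup.mul_mem _ (Subgroup.mul_mem _ A.2 y.2.2) (Subgroup.inv_mem _ A.2)⟩
    have hAA : (A : G) * A = 1 := (ts W).sq _ hAD
    let α : ↥C ≃* ↥C :=
      { toFun := fun y => ⟨_, hconjA y⟩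
        invFun := fun y => ⟨_, hconjA y⟩
        left_inv := fun y => Subtype.ext (by
          show (A : G) * ((A : G) * y * (A : G)⁻¹) * (A : G)⁻¹ = y
          rw [inv_eq_of_mul_eq_one_right hAA, show (A : G) * ((A : G) * y * A) * A =
            ((A : G) * A) * y * ((A : G) * A) by group, hAA, one_mul, mul_one])
        right_inv := fun y => Subtype.ext (by
          show (A : G) * ((A : G) * y * (A : G)⁻¹) * (A : G)⁻¹ = y
          rw [inv_eq_of_mul_eq_one_right hAA, show (A : G) * ((A : G) * y * A) * A =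
            ((A : G) * A) * y * ((A : G) * A) by group, hAA, one_mul, mul_one])
        map_mul' := fun y y' => Subtype.ext (by
          show (A : G) * ((y : G) * y') * (A : G)⁻¹ = _
          simp [mul_assoc]) }
    have hαO : α x ∈ O := by
      have := HallCore.map_equiv_pCore (p := 2) α
      rw [hOd, ← this]
      exact mem_map_of_mem _ hxO
    have hρα : ρ (α x) = rho W A * ρ x * (rho W A)⁻¹ := by
      rw [← map_inv, hρ, MonoidHom.comp_apply, MonoidHom.comp_apply, ← map_mul, ← map_mul]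
      exact congrArg _ (Subtype.ext rfl)
    by_cases hαM : α x ∈ M
    · -- then the conjugate is in the kernel, so `x` is
      have h1 := hOM _ hαO hαM
      rw [hNd, MonoidHom.mem_ker, hρα, mul_inv_eq_one, mul_eq_left] at h1
      exact h1
    have hA2 : rho W A * ρ x * (rho W A)⁻¹ = ρ x := hρα ▸ same _ hαO hαM
    have hall : ∀ g : Cz z, Commute (rho W g) (ρ x) := by
      intro g
      by_cases hg : (g : G) ∈ L
      · exact mul_inv_eq_iff_eq_mul.mp (hC ⟨g, hg, g.2⟩)
      · have hg' : (g : G) * A ∈ L :=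
          (Subgroup.mul_mem_iff_of_index_two hlay.1).mpr (iff_of_false hg (hlay.2 _ hAD))
        have h1 : Commute (rho W (g * A)) (ρ x) :=
          mul_inv_eq_iff_eq_mul.mp (hC ⟨(g : G) * A, hg', (g * A).2⟩)
        have h2 : Commute (rho W A) (ρ x) := mul_inv_eq_iff_eq_mul.mp hA2
        have h3 := h1.mul_left h2
        rwa [← map_mul, mul_assoc, show A * A = 1 from Subtype.ext hAA, mul_one] at h3
    rw [hNd, MonoidHom.mem_ker]
    refine Equiv.ext fun p => ?_
    exact ThreeTransM24QuadSpace54.map_eq_of_commute S (t_rho W (i x) p) (hall (el W p)).symm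
  have hOQ : O = Q := by
    have h1 : Q ≤ O := ComponentsCores.le_pCore' hQp
    refine (eq_of_le_of_card_ge h1 ?_).symm
    obtain ⟨k, hk⟩ := IsPGroup.iff_card.mp hOp
    have h2 := Subgroup.card_dvd_of_le hON
    rw [hcardN, hk] at h2
    rw [hcardQ, hk]
    refine Nat.pow_le_pow_right (by norm_num) ?_
    by_contra hh
    have : 2 ^ 14 ∣ 3 * 2 ^ 13 := (pow_dvd_pow 2 (by omega)).trans h2
    norm_num at this
  have hzL : z ∈ C := ⟨mem_range.mp (hPr (zc_mem W) : zc W ∈ i.range), (zc W).2⟩
  have hchar : Cfsg.IsOfCharacteristicTwo ↥C := by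
    show centralizer (Cfsg.pCore 2 ↥C : Set ↥C) ≤ Cfsg.pCore 2 ↥C
    rw [← hOd, hOQ]
    intro x hx
    have h1 : i x ∈ centralizer (P W : Set (Cz z)) := mem_centralizer_iff.mpr fun y hy => by
      obtain ⟨y, rfl⟩ := hPr hy
      rw [← map_mul, ← map_mul, mem_centralizer_iff.mp hx y hy]
    rcases hcent _ h1 with e | e
    · rw [hQd, mem_comap, e]; exact one_mem _
    · rw [hQd, mem_comap, e]; exact zc_mem W
  refine ⟨Q, hQn, (CharTwoLocal.gen_eq_of_charTwo hchar).trans hOQ, ?_, hcardQ, N, M, inferInstance,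
    hMn, hQN, hNM, by rw [hcardN, hcardQ], ⟨K, inferInstance, inferInstance, hK,
      ⟨(QuotientGroup.quotientMulEquivOfEq hfker.symm).trans
        ((QuotientGroup.quotientKerEquivOfSurjective f hf).trans eH)⟩⟩, hMidx⟩
  -- extraspecial
  set ζ : ↥Q := ⟨⟨z, hzL⟩, show i ⟨z, hzL⟩ ∈ P W from zc_mem W⟩ with hζ
  have hval : ∀ x : ↥Q, i (x : ↥C) ∈ P W := fun x => x.2
  have hQinj : ∀ {x y : ↥Q}, i (x : ↥C) = i (y : ↥C) → x = y := fun h => Subtype.ext (hi h)
  have hcases : ∀ {x : ↥Q}, (i (x : ↥C) = 1 ∨ i (x : ↥C) = zc W) → x ∈ zpowers ζ := fun {x} h => by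
    rcases h with h | h
    · rw [show x = 1 from hQinj (h.trans (map_one i).symm)]; exact one_mem _
    · rw [show x = ζ from hQinj h]; exact mem_zpowers _
  have hcz : PGroupsExtraspecial.IsCentralPrime 2 ζ := by
    refine ⟨mem_center_iff.mpr fun x => hQinj ?_, orderOf_eq_prime (hQinj ?_) fun h => ?_⟩
    · show i (x : ↥C) * zc W = zc W * i (x : ↥C)
      exact zc_central W _
    · rw [pow_two]; show zc W * zc W = i 1; rw [map_one]; exact zc_sq W
    · exact zc_ne W (Subtype.ext (congrArg (fun x : ↥Q => ((x : ↥C) : G)) h))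
  refine SymplecticType.isExtraspecial_of (z := ζ) hQp hcz (fun g k => hcases ?_) (fun g => hcases ?_)
    (fun g hg => hcases ?_) ?_
  · have h1 := (P_structure W (hval g) (hval k)).1
    rw [commutatorElement_def]
    show i g * i k * (i g)⁻¹ * (i k)⁻¹ = 1 ∨ i g * i k * (i g)⁻¹ * (i k)⁻¹ = zc W
    exact h1.imp (fun e => by rw [e, mul_inv_cancel]) fun e => by rw [e, mul_inv_cancel_right]
  · rw [pow_two]
    exact (P_structure W (hval g) (hval g)).2
  · refine hcent _ (mem_centralizer_iff.mpr fun y hy => ?_)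
    obtain ⟨y, rfl⟩ := hPr hy
    have := congrArg (fun x : ↥Q => i (x : ↥C)) (mem_center_iff.mp hg ⟨y, hy⟩)
    exact this
  · by_contra hall
    push Not at hall
    have hle : (⊤ : Subgroup ↥Q) ≤ zpowers ζ := fun g _ => hcases (hcent _
      (mem_centralizer_iff.mpr fun y hy => by
        obtain ⟨y, rfl⟩ := hPr hy
        exact congrArg (fun x : ↥Q => i (x : ↥C))
          (commutatorElement_eq_one_iff_mul_comm.mp (hall ⟨y, hy⟩ g))))
    have h1 := Subgroup.card_le_of_le hle
    rw [Subgroup.card_top, Nat.card_zpowers, hcz.2, hcardQ] at h1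
    norm_num at h1

end Cfsg.Agent.ThreeTransM24QuadTop54
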