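import Cfsg.Agent.Lib.ThreeTransM24Quad65
import Cfsg.Agent.Lib.ThreeTransM24Local88

/-!
# The quadruples with a given product in type M(24)

The members commuting with the product `z` of four commuting members fall into 126 quadruples with product
`z`, on which the centralizer of `z` acts; the members of one quadruple act in the same way.
-/

set_option autoImplicit false
set_option linter.unusedSectionVars false
set_option linter.style.haveILetI false

namespace Cfsg.Agent.ThreeTransM24Quads54

open Subgroup Cfsg.Agent.ThreeTransRel Cfsg.Agent.ThreeTransDescent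

variable {G : Type*} [Group G] [Finite G] {D : Set G}

open Classical in
/-- A set of four commuting members with product `z`. -/
def IsQuad (D : Set G) (z : G) (s : Finset G) : Prop :=
  ∃ l : List G, CList D l ∧ l.length = 4 ∧ l.prod = z ∧ l.toFinset = s

/-- The quadruples. -/
def Quad (D : Set G) (z : G) : Type _ := {s : Finset G // IsQuad D z s}

instance (D : Set G) (z : G) : Finite (Quad D z) := Subtype.finite

variable {z : G}

/-- The setting. -/
structure Setup (D : Set G) (z : G) : Prop where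
  ctx : ∀ s ∈ D, ThreeTransM24Base88.Ctx D s
  base : ∃ l : List G, CList D l ∧ l.length = 4 ∧ l.prod = z

variable (W : Setup D z)
include W

theorem ts : TSys D := by
  obtain ⟨l, hl, h4, -⟩ := W.base
  obtain ⟨a, ha⟩ := List.exists_mem_of_length_pos (l := l) (by omega)
  exact ThreeTransM24Pair88.ts (W.ctx a (hl.mem a ha))

theorem quad_list {s : Finset G} (hs : IsQuad D z s) : ∃ a b c h : G, CList D [a, b, c, h] ∧
    a * b * c * h = z ∧ ∀ y, y ∈ s ↔ y = a ∨ y = b ∨ y = c ∨ y = h := by
  classical
  obtain ⟨l, hl, h4, hp, rfl⟩ := hs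
  match l, h4 with
  | [a, b, c, h], _ => exact ⟨a, b, c, h, hl, by simpa [mul_assoc] using hp, fun y => by simp⟩

theorem quad_mem {s : Finset G} (hs : IsQuad D z s) {a : G} (ha : a ∈ s) : a ∈ D ∧ Commute a z := by
  classical
  obtain ⟨l, hl, -, rfl, rfl⟩ := hs
  rw [List.mem_toFinset] at ha
  exact ⟨hl.mem a ha, Commute.list_prod_right _ _ fun y hy => hl.comm a ha y hy⟩

theorem quad_comm {s : Finset G} (hs : IsQuad D z s) {a b : G} (ha : a ∈ s) (hb : b ∈ s) :
    Commute a b := by
  classical
  obtain ⟨l, hl, -, -, rfl⟩ := hs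
  exact hl.comm a (List.mem_toFinset.mp ha) b (List.mem_toFinset.mp hb)

theorem quad_card {s : Finset G} (hs : IsQuad D z s) : s.card = 4 := by
  classical
  obtain ⟨l, hl, h4, -, rfl⟩ := hs
  rw [List.toFinset_card_of_nodup hl.nodup, h4]

/-- A quadruple starting with a given one of its members. -/
theorem quad_head {s : Finset G} (hs : IsQuad D z s) {a : G} (ha : a ∈ s) : ∃ b c h : G,
    CList D [a, b, c, h] ∧ a * b * c * h = z ∧ ∀ y, y ∈ s ↔ y = a ∨ y = b ∨ y = c ∨ y = h := by
  classical
  obtain ⟨l, hl, h4, hp, rfl⟩ := hs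
  have hperm := List.perm_cons_erase (List.mem_toFinset.mp ha)
  have hlen : (l.erase a).length = 3 := by
    rw [List.length_erase_of_mem (List.mem_toFinset.mp ha), h4]
  match hr : l.erase a, hlen with
  | [b, c, h], _ =>
    rw [hr] at hperm
    refine ⟨b, c, h, hl.perm hperm, ?_, fun y => ?_⟩
    · rw [← hp, hl.prod_perm hperm]; simp [mul_assoc]
    · rw [List.mem_toFinset, hperm.mem_iff]; simp

/-- A member commuting with `z` is in a quadruple. -/
theorem exists_quad {x : G} (hx : x ∈ D) (hxz : Commute x z) : ∃ s, IsQuad D z s ∧ x ∈ s := by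
  classical
  obtain ⟨l₀, hl₀, h4₀, hp₀⟩ := W.base
  have X := W.ctx x hx
  have hne : x ≠ z := fun e => by
    have := ThreeTransM24Classes88.length_eq X (l := [x]) (l' := l₀)
      ⟨by simp [hx], by simp, by simp⟩ hl₀ (by simp) h4₀.le (by simp [e, hp₀])
    simp [h4₀] at this
  have hz2 : z * z = 1 := hp₀ ▸ hl₀.prod_sq (ts W)
  have hy2 : (x * z) * (x * z) = 1 := by
    rw [show x * z * (x * z) = x * (z * x) * z by group, ← hxz.eq,
      show x * (x * z) * z = (x * x) * (z * z) by group, (ts W).sq x hx, hz2, one_mul]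
  have hy1 : x * z ≠ 1 := fun e => hne (by
    rw [← mul_one x, ← e, ← mul_assoc, (ts W).sq x hx, one_mul])
  have hxl : x * z ∈ loc D x := ThreeTransM24Local88.centralizer_eq X ▸
    mem_centralizer_singleton_iff.mpr (((Commute.refl x).mul_left hxz.symm).eq)
  -- the image is a product of at most three
  open ThreeTransM24Pair88 in
  have key : ∃ l : List G, CList D l ∧ (∀ p ∈ l, p ∈ near D x) ∧ l.length ≤ 3 ∧
      (x * z = l.prod ∨ x * z = x * l.prod) := by
    by_cases h0 : im D x (x * z) = 1
    · refine ⟨[], ⟨by simp, by simp, by simp⟩, by simp, by simp, ?_⟩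
      rcases ThreeTransM24Local88.ker X hxl h0 with h | h
      · exact Or.inl (by simpa using h)
      · exact Or.inr (by simpa using h)
    have ho : orderOf (im D x (x * z)) = 2 := orderOf_eq_prime
      (by rw [pow_two, ← im_mul X hxl hxl, hy2]; exact im_eq (one_mem _)) h0
    obtain ⟨e, he⟩ := ThreeTransM24Local88.exists_near X
    obtain ⟨L, hL, -, h3, hp⟩ := ThreeTransM23Classes59.exists_product (qc X he) ho
    obtain ⟨l, hl, hn, rfl⟩ := ThreeTransM24Classes88.lift1 X hL
    rw [List.length_map] at h3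
    have hll : l.prod ∈ loc D x := list_prod_mem fun p hp => near_le_loc (hn p hp)
    have h' : im D x (x * z * l.prod) = 1 := by
      rw [im_mul X hxl hll, ← hp, ← ThreeTransM24Classes88.im_list X hn, ← im_mul X hll hll,
        hl.prod_sq (ts W)]
      exact im_eq (one_mem _)
    have e' : x * z = x * z * l.prod * l.prod := by rw [mul_assoc _ l.prod, hl.prod_sq (ts W), mul_one]
    refine ⟨l, hl, hn, h3, ?_⟩
    rcases ThreeTransM24Local88.ker X (mul_mem hxl hll) h' with h | h <;> rw [h] at e'
    · exact Or.inl (by rw [e', one_mul])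
    · exact Or.inr e'
  obtain ⟨l, hl, hn, h3, h | h⟩ := key
  · have hcl := ThreeTransM24Classes88.cons_clist X hl hn
    have hz : (x :: l).prod = z := by
      rw [List.prod_cons, ← h, ← mul_assoc, (ts W).sq x hx, one_mul]
    have hlen := ThreeTransM24Classes88.length_eq X hcl hl₀ (by simp; omega) h4₀.le (hz.trans hp₀.symm)
    refine ⟨(x :: l).toFinset, ⟨_, hcl, hlen.trans h4₀, hz, rfl⟩, ?_⟩
    simp
  · exfalso
    have hz : l.prod = z := (mul_left_cancel h).symm
    have := ThreeTransM24Classes88.length_eq X hl hl₀ (by omega) h4₀.le (hz.trans hp₀.symm)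
    omega

/-- Quadruples with a common member are equal. -/
theorem quad_unique {s s' : Finset G} (hs : IsQuad D z s) (hs' : IsQuad D z s') {x : G} (hx : x ∈ s)
    (hx' : x ∈ s') : s = s' := by
  classical
  obtain ⟨b, c, h, hl, hp, hm⟩ := quad_head W hs hx
  obtain ⟨b', c', h', hl', hp', hm'⟩ := quad_head W hs' hx'
  have he : [b, c, h].prod = [b', c', h'].prod := by
    simp only [List.prod_cons, List.prod_nil, mul_one]
    refine mul_left_cancel (a := x) ?_
    rw [← mul_assoc, ← mul_assoc, hp, ← mul_assoc, ← mul_assoc, hp']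
  have hu := ThreeTransM24Local88.unique3 (W.ctx x (hl.mem x (by simp)))
    (hl.sublist (List.sublist_cons_self _ _)) rfl (hl'.sublist (List.sublist_cons_self _ _)) rfl he
  ext y
  rw [hm, hm']
  have := hu y
  simp only [List.mem_cons, List.not_mem_nil, or_false] at this
  rw [this]

/-- Commuting with one member of a quadruple is commuting with all. -/
theorem quad_all {s : Finset G} (hs : IsQuad D z s) {x : G} (hx : x ∈ D) (hxz : Commute x z) {a : G}
    (ha : a ∈ s) (h : Commute a x) : ∀ b ∈ s, Commute b x := by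
  obtain ⟨b, c, h', hl, hp, hm⟩ := quad_head W hs ha
  obtain ⟨r1, r2, r3, r4⟩ := ThreeTransM24Quad65.all_or_none W.ctx hl hx (hp ▸ hxz) (Or.inl h)
  intro y hy
  rcases (hm y).mp hy with rfl | rfl | rfl | rfl <;> assumption

theorem card_quad : Nat.card (Quad D z) = 126 := by
  classical
  haveI := Fintype.ofFinite G
  haveI := Fintype.ofFinite (Quad D z)
  obtain ⟨l₀, hl₀, h4₀, hp₀⟩ := W.base
  have h504 : {f | f ∈ D ∧ Commute f z}.ncard = 504 := by
    match l₀, h4₀ with
    | [a, b, c, h], _ =>
      rw [← hp₀, show [a, b, c, h].prod = a * b * c * h by simp [mul_assoc]]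
      exact ThreeTransM24Quad65.ncard_quad W.ctx hl₀
  have hU : (Finset.univ : Finset (Quad D z)).biUnion (fun s => s.1) =
      Finset.univ.filter (fun f => f ∈ D ∧ Commute f z) := by
    ext f
    simp only [Finset.mem_biUnion, Finset.mem_univ, true_and, Finset.mem_filter]
    constructor
    · rintro ⟨s, hs⟩; exact quad_mem W s.2 hs
    · rintro ⟨h1, h2⟩
      obtain ⟨s, hs, hfs⟩ := exists_quad W h1 h2
      exact ⟨⟨s, hs⟩, hfs⟩
  have hc := congrArg Finset.card hU
  have hd : (Finset.univ.biUnion fun s : Quad D z => s.1).card =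
      ∑ s : Quad D z, s.1.card := Finset.card_biUnion fun s _ s' _ hne =>
    Finset.disjoint_left.mpr fun x hx hx' => hne (Subtype.ext (quad_unique W s.2 s'.2 hx hx'))
  replace hc := hd.symm.trans hc
  rw [Finset.sum_const_nat fun s _ => quad_card W s.2, Finset.card_univ] at hc
  rw [Set.ncard_eq_toFinset_card', show {f | f ∈ D ∧ Commute f z}.toFinset =
    Finset.univ.filter (fun f => f ∈ D ∧ Commute f z) by ext; simp] at h504
  rw [Nat.card_eq_fintype_card]
  omega

theorem quad_nonempty (ω : Quad D z) : ∃ a, a ∈ ω.1 := by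
  obtain ⟨a, b, c, h, -, -, hm⟩ := quad_list W ω.2
  exact ⟨a, (hm a).mpr (Or.inl rfl)⟩

open Classical in
theorem quad_image {s : Finset G} (hs : IsQuad D z s) {g : G}
    (hg : g ∈ centralizer ({z} : Set G)) : IsQuad D z (s.image fun x => g * x * g⁻¹) := by
  obtain ⟨l, hl, h4, hp, rfl⟩ := hs
  refine ⟨l.map (MulAut.conj g), ThreeTransM23Classes59.clist_map (ts W) hl g, by simp [h4], ?_, ?_⟩
  · rw [← map_list_prod, hp, MulAut.conj_apply]
    exact mul_inv_eq_iff_eq_mul.mpr (mem_centralizer_singleton_iff.mp hg)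
  · ext y; simp [MulAut.conj_apply]

open Classical in
/-- The action of the centralizer. -/
noncomputable def rho : ↥(centralizer ({z} : Set G)) →* Equiv.Perm (Quad D z) where
  toFun g :=
    { toFun := fun ω => ⟨ω.1.image fun x => (g : G) * x * (g : G)⁻¹, quad_image W ω.2 g.2⟩
      invFun := fun ω => ⟨ω.1.image fun x => (g : G)⁻¹ * x * (g : G), by
        simpa using quad_image W ω.2 (g⁻¹).2⟩
      left_inv := fun ω => Subtype.ext (by
        show (ω.1.image _).image _ = ω.1
        rw [Finset.image_image]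
        convert Finset.image_id (s := ω.1) using 2
        funext x; simp only [Function.comp_apply, id_eq]; group)
      right_inv := fun ω => Subtype.ext (by
        show (ω.1.image _).image _ = ω.1
        rw [Finset.image_image]
        convert Finset.image_id (s := ω.1) using 2
        funext x; simp only [Function.comp_apply, id_eq]; group) }
  map_one' := Equiv.ext fun ω => Subtype.ext (by simp; rfl)
  map_mul' g h := Equiv.ext fun ω => Subtype.ext (by
    show ω.1.image _ = (ω.1.image _).image _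
    rw [Finset.image_image]
    congr 1
    funext x
    simp only [Function.comp_apply, Subgroup.coe_mul]; group)

theorem mem_rho {g : ↥(centralizer ({z} : Set G))} {ω : Quad D z} {x : G} (hx : x ∈ ω.1) :
    (g : G) * x * (g : G)⁻¹ ∈ (rho W g ω).1 := by
  classical
  exact Finset.mem_image_of_mem _ hx

theorem rho_eq {g : ↥(centralizer ({z} : Set G))} {ω ω' : Quad D z} {x : G} (hx : x ∈ ω.1)
    (hx' : (g : G) * x * (g : G)⁻¹ ∈ ω'.1) : rho W g ω = ω' :=
  Subtype.ext (quad_unique W (rho W g ω).2 ω'.2 (mem_rho W hx) hx')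

theorem mem_cz {a : G} (h : Commute a z) : a ∈ centralizer ({z} : Set G) :=
  mem_centralizer_singleton_iff.mpr h.eq

/-- The member of a quadruple as an element of the centralizer. -/
noncomputable def el (ω : Quad D z) : ↥(centralizer ({z} : Set G)) :=
  ⟨(quad_nonempty W ω).choose, mem_cz W (quad_mem W ω.2 (quad_nonempty W ω).choose_spec).2⟩

theorem el_mem (ω : Quad D z) : ((el W ω : ↥(centralizer ({z} : Set G))) : G) ∈ ω.1 :=
  (quad_nonempty W ω).choose_spec

/-- The involution of a quadruple. -/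
noncomputable def t (ω : Quad D z) : Equiv.Perm (Quad D z) := rho W (el W ω)

/-- A member moves another quadruple to one containing the conjugate by a second member. -/
theorem pair_fix {ω : Quad D z} {a b : G} (ha : a ∈ ω.1) (hb : b ∈ ω.1) (ω' : Quad D z) {x : G}
    (hx : x ∈ ω'.1) : a * b * x * (a * b)⁻¹ ∈ ω'.1 := by
  classical
  obtain ⟨hxD, hxz⟩ := quad_mem W ω'.2 hx
  obtain ⟨haD, haz⟩ := quad_mem W ω.2 ha
  obtain ⟨hbD, hbz⟩ := quad_mem W ω.2 hb
  by_cases hc : Commute a x
  · have hbx := quad_all W ω.2 hxD hxz ha hc b hb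
    rwa [mul_inv_eq_iff_eq_mul.mpr (hc.mul_left hbx).eq]
  have hbx : ¬ Commute b x := fun e => hc (quad_all W ω.2 hxD hxz hb e a ha)
  set g : ↥(centralizer ({z} : Set G)) := ⟨a * x, mem_cz W (haz.mul_left hxz)⟩
  have e1 : (g : G) * a * (g : G)⁻¹ = x := by
    show a * x * a * (a * x)⁻¹ = x
    rw [mul_inv_rev, (ts W).inv_self haD, (ts W).inv_self hxD]
    calc a * x * a * (x * a) = (a * x * a) * x * a := by group
      _ = (x * a * x) * x * a := by rw [(ts W).braid a haD x hxD hc]
      _ = x * a * (x * x) * a := by group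
      _ = x := by rw [(ts W).sq x hxD, mul_one, mul_assoc, (ts W).sq a haD, mul_one]
  have h1 : rho W g ω = ω' := rho_eq W ha (e1.symm ▸ hx)
  have h2 := mem_rho W (g := g) hb
  rw [h1] at h2
  have e2 : (g : G) * b * (g : G)⁻¹ = a * b * x * (a * b)⁻¹ := by
    show a * x * b * (a * x)⁻¹ = _
    rw [mul_inv_rev, mul_inv_rev, (ts W).inv_self haD, (ts W).inv_self hxD, (ts W).inv_self hbD]
    calc a * x * b * (x * a) = a * (x * b * x) * a := by group
      _ = a * (b * x * b) * a := by rw [(ts W).braid x hxD b hbD fun e => hbx e.symm]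
      _ = a * b * x * (b * a) := by group
  rwa [e2] at h2

/-- All members of a quadruple act as its involution. -/
theorem rho_member {ω : Quad D z} {a : ↥(centralizer ({z} : Set G))} (ha : (a : G) ∈ ω.1) :
    rho W a = t W ω := by
  refine Equiv.ext fun ω' => ?_
  obtain ⟨x, hx⟩ := quad_nonempty W ω'
  have hb := el_mem W ω
  set b : G := ((el W ω : ↥(centralizer ({z} : Set G))) : G) with hbdef
  have h1 : rho W (el W ω * a) ω' = ω' := rho_eq W hx (by
    simpa using pair_fix W hb ha ω' hx)
  rw [map_mul, Equiv.Perm.mul_apply] at h1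
  have h2 : el W ω * el W ω = 1 := Subtype.ext ((ts W).sq b (quad_mem W ω.2 hb).1)
  calc rho W a ω' = rho W (el W ω) (rho W (el W ω) (rho W a ω')) := by
        rw [← Equiv.Perm.mul_apply, ← map_mul, h2, map_one, Equiv.Perm.one_apply]
    _ = _ := by rw [h1]; rfl

theorem t_fix_of_commute {ω ω' : Quad D z} {a x : G} (ha : a ∈ ω.1) (hx : x ∈ ω'.1)
    (h : Commute a x) : t W ω ω' = ω' := by
  have h1 := quad_all W ω.2 (quad_mem W ω'.2 hx).1 (quad_mem W ω'.2 hx).2 ha h _ (el_mem W ω)
  refine rho_eq W hx ?_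
  rwa [mul_inv_eq_iff_eq_mul.mpr h1.eq]

theorem commute_of_t_fix {ω ω' : Quad D z} (h : t W ω ω' = ω') {a x : G} (ha : a ∈ ω.1)
    (hx : x ∈ ω'.1) : Commute a x := by
  have haD := (quad_mem W ω.2 ha).1
  have hxD := (quad_mem W ω'.2 hx).1
  set A : ↥(centralizer ({z} : Set G)) := ⟨a, mem_cz W (quad_mem W ω.2 ha).2⟩
  have h1 := mem_rho W (g := A) hx
  rw [rho_member W (a := A) ha, h] at h1
  by_contra hn
  have hxy := quad_comm W ω'.2 hx h1
  refine hn ?_
  change Commute x (a * x * a⁻¹) at hxy
  rw [(ts W).inv_self haD, (ts W).braid a haD x hxD hn] at hxy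
  have h2 : a * x = x * a := by
    have := hxy.eq
    calc a * x = x * (x * (a * x)) := by rw [← mul_assoc, (ts W).sq x hxD, one_mul]
      _ = x * (x * a * x) := by group
      _ = x * a * x * x := this
      _ = x * a := by rw [mul_assoc (x * a), (ts W).sq x hxD, mul_one]
  exact h2

theorem t_invol (ω : Quad D z) : t W ω * t W ω = 1 := by
  rw [t, ← map_mul, show el W ω * el W ω = 1 from
    Subtype.ext ((ts W).sq _ (quad_mem W ω.2 (el_mem W ω)).1), map_one]

theorem t_self (ω : Quad D z) : t W ω ω = ω :=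
  t_fix_of_commute W (el_mem W ω) (el_mem W ω) (Commute.refl _)

theorem t_rho (g : ↥(centralizer ({z} : Set G))) (ω : Quad D z) :
    t W (rho W g ω) = rho W g * t W ω * (rho W g)⁻¹ := by
  rw [← rho_member W (a := g * el W ω * g⁻¹) (ω := rho W g ω) (by
    simpa using mem_rho W (g := g) (el_mem W ω)), map_mul, map_mul, map_inv]
  rfl

theorem t_conj (p r : Quad D z) : t W (t W p r) = t W p * t W r * t W p := by
  have := t_rho W (el W p) r
  rw [inv_eq_of_mul_eq_one_right
    (show rho W (el W p) * rho W (el W p) = 1 from t_invol W p)] at this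
  exact this

theorem t_symm (p r : Quad D z) (h : t W p r ≠ r) : t W p r = t W r p := by
  have ha := el_mem W p
  have hx := el_mem W r
  have haD := (quad_mem W p.2 ha).1
  have hxD := (quad_mem W r.2 hx).1
  have hn : ¬ Commute ((el W p : ↥(centralizer ({z} : Set G))) : G) (el W r) :=
    fun e => h (t_fix_of_commute W ha hx e)
  refine (rho_eq W (g := el W r) (x := ((el W p : ↥(centralizer ({z} : Set G))) : G)) ha ?_).symm
  have h1 := mem_rho W (g := el W p) hx
  rw [(ts W).inv_self haD, (ts W).braid _ haD _ hxD hn] at h1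
  rw [(ts W).inv_self hxD]
  exact h1

/-- The centralizer is transitive on ordered quadruples. -/
theorem ordered_transitive {a b c h a' b' c' h' : G} (hl : CList D [a, b, c, h])
    (hl' : CList D [a', b', c', h']) : ∃ g : G, g * a * g⁻¹ = a' ∧ g * b * g⁻¹ = b' ∧
      g * c * g⁻¹ = c' ∧ g * h * g⁻¹ = h' := by
  have X := W.ctx a' (hl'.mem a' (by simp))
  obtain ⟨g, hg, hgn, hgl⟩ := ThreeTransM24Classes88.move X hl
  simp only [List.map_cons, List.map_nil, MulAut.conj_apply] at hgn hgl
  have hn' : ∀ p ∈ [b', c', h'], p ∈ near D a' := fun p hp =>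
    ⟨hl'.mem p (by simp at hp ⊢; tauto), fun e => (List.nodup_cons.mp hl'.nodup).1 (e ▸ hp),
      hl'.comm a' (by simp) p (by simp at hp ⊢; tauto)⟩
  obtain ⟨k, hk, e1, e2, e3⟩ := ThreeTransM24Classes88.triple_transitive X hgl
    (hl'.sublist (List.sublist_cons_self _ _)) hgn hn'
  have hka := mul_inv_eq_iff_eq_mul.mpr (commute_d_of_mem_loc hk).symm.eq
  refine ⟨k * g, ?_, ?_, ?_, ?_⟩ <;>
    rw [show ∀ r : G, k * g * r * (k * g)⁻¹ = k * (g * r * g⁻¹) * k⁻¹ from fun r => by group]
  exacts [by rw [hg, hka], e1, e2, e3]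

theorem rho_transitive (p r : Quad D z) : ∃ g, rho W g p = r := by
  obtain ⟨a, b, c, h, hl, hp, hm⟩ := quad_list W p.2
  obtain ⟨a', b', c', h', hl', hp', hm'⟩ := quad_list W r.2
  obtain ⟨g, e1, e2, e3, e4⟩ := ordered_transitive W hl hl'
  have hgz : g ∈ centralizer ({z} : Set G) := mem_centralizer_singleton_iff.mpr
    (mul_inv_eq_iff_eq_mul.mp (by
      rw [← hp, show g * (a * b * c * h) * g⁻¹ =
        (g * a * g⁻¹) * (g * b * g⁻¹) * (g * c * g⁻¹) * (g * h * g⁻¹) by group, e1, e2, e3, e4, hp', hp]))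
  exact ⟨⟨g, hgz⟩, rho_eq W ((hm a).mpr (Or.inl rfl)) (e1.symm ▸ (hm' a').mpr (Or.inl rfl))⟩

end Cfsg.Agent.ThreeTransM24Quads54
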