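import Cfsg.Agent.Lib.ThreeTransSign39
import Cfsg.Agent.Lib.ThreeTransM24Order59
import Cfsg.Agent.S2054

/-!
# Members of a class of type M(24) lie outside the derived subgroup

Given that the local quotient at a member is the presented group Fi23, whose multiplier is trivial.
-/

set_option autoImplicit false
set_option linter.unusedSectionVars false

namespace Cfsg.Agent.ThreeTransM24Sign39

open Subgroup Cfsg.Agent.ThreeTransRel Cfsg.Agent.ThreeTransDescent
open Cfsg.Agent.ThreeTransM24Order59 (Hyp)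

variable {G : Type*} [Group G] [Finite G] {D : Set G} {a : G}

theorem self_mem (H : Hyp D a) : a ∈ loc D a :=
  H.cent ▸ mem_centralizer_singleton_iff.mpr rfl

theorem ne_one (H : Hyp D a) : a ≠ 1 := by
  intro e
  obtain ⟨b, hb, c, hc, hbc⟩ := H.prim.2.1
  obtain ⟨g, rfl⟩ := H.prim.1 a H.mem b hb
  obtain ⟨k, rfl⟩ := H.prim.1 a H.mem c hc
  exact hbc (by rw [e]; simp)

/-- The centre of the local group consists of `1` and the member. -/
theorem center_le (H : Hyp D a) :
    Subgroup.center ↥(loc D a) = zpowers ⟨a, self_mem H⟩ := by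
  have hz : (⟨a, self_mem H⟩ : ↥(loc D a)) ∈ Subgroup.center ↥(loc D a) :=
    mem_center_iff.mpr fun g => Subtype.ext (commute_d_of_mem_loc g.2).eq.symm
  refine (eq_of_le_of_card_ge (zpowers_le.mpr hz) ?_).symm
  rw [H.card_centre, Nat.card_zpowers]
  refine le_of_eq ((orderOf_eq_prime (p := 2) ?_ ?_).symm)
  · rw [pow_two]; exact Subtype.ext (H.ts.sq a H.mem)
  · exact fun e => ne_one H (congrArg Subtype.val e)

/-- The sign on the centralizer of a member. -/
theorem exists_chi (H : Hyp D a)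
    (he : Nonempty (↥(loc D a) ⧸ Subgroup.center ↥(loc D a) ≃* Cfsg.Spor.Fi23)) :
    ∃ χ : ↥(centralizer ({a} : Set G)) →* ℤˣ, ∀ (y : G) (hy : y ∈ centralizer ({a} : Set G)),
      y ∈ D → χ ⟨y, hy⟩ = -1 := by
  obtain ⟨e⟩ := he
  set L := loc D a
  set z : ↥L := ⟨a, self_mem H⟩ with hz
  set π : ↥L →* Cfsg.Spor.Fi23 := e.toMonoidHom.comp (QuotientGroup.mk' (Subgroup.center ↥L))
  have hzc : ∀ h, h * z = z * h := fun h => Subtype.ext (commute_d_of_mem_loc h.2).eq.symm
  have hker : π.ker ≤ zpowers z := by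
    intro x hx
    rw [hz, ← center_le H]
    exact (QuotientGroup.eq_one_iff x).mp (e.injective (by rw [map_one]; exact hx))
  have hzk : π z = 1 := by
    show e (QuotientGroup.mk z) = 1
    rw [(QuotientGroup.eq_one_iff z).mpr (mem_center_iff.mpr hzc), map_one]
  have hnot : z ∉ commutator ↥L := fun h => ne_one H (congrArg Subtype.val
    (ThreeTransSign39.eq_one_of_mult S2054.result π
      (e.surjective.comp (QuotientGroup.mk'_surjective _)) hker hzk hzc h))
  have hgen : Subgroup.closure {x : ↥L | (x : G) ∈ near D a} = ⊤ := by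
    rw [eq_top_iff]
    rintro ⟨x, hx⟩ -
    induction hx using Subgroup.closure_induction with
    | mem y hy => exact subset_closure hy
    | one => exact one_mem _
    | mul p q _ _ hp hq => exact mul_mem hp hq
    | inv p _ hp => exact inv_mem hp
  obtain ⟨χ, hχz, hχ⟩ := ThreeTransSign39.exists_local_sign hgen
    (fun x hx => Subtype.ext (H.ts.sq _ hx.1)) hnot (Subtype.ext (H.ts.sq a H.mem))
    (fun x hx y hy => by
      obtain ⟨g, hg⟩ := H.qprim.1 _ (H.im_mem hx) _ (H.im_mem hy)
      obtain ⟨k, rfl⟩ := QuotientGroup.mk'_surjective _ g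
      refine ⟨k, Subtype.ext (H.inj (near_conj H.ts (commute_d_of_mem_loc k.2).symm hx) hy ?_)⟩
      rw [← hg, im_eq (near_le_loc hx),
        im_eq (show ((k * x * k⁻¹ : ↥L) : G) ∈ loc D a from (k * x * k⁻¹).2)]
      rfl)
  refine ⟨χ.comp (Subgroup.inclusion H.cent.le), fun y hy hyD => ?_⟩
  by_cases hya : y = a
  · subst hya; exact hχz
  · exact hχ ⟨y, H.cent.le hy⟩ ⟨hyD, hya, (mem_centralizer_singleton_iff.mp hy).symm⟩

/-- A sign on `G`. -/
theorem exists_sign (H : Hyp D a)
    (he : Nonempty (↥(loc D a) ⧸ Subgroup.center ↥(loc D a) ≃* Cfsg.Spor.Fi23)) :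
    ∃ ε : G →* ℤˣ, ∀ x ∈ D, ε x = -1 := by
  obtain ⟨χ, hχ⟩ := exists_chi H he
  exact ThreeTransSign39.exists_sign H.ts H.prim.1 H.centre H.mem χ hχ

/-- The derived subgroup has index two and contains no member. -/
theorem layer (H : Hyp D a)
    (he : Nonempty (↥(loc D a) ⧸ Subgroup.center ↥(loc D a) ≃* Cfsg.Spor.Fi23)) :
    (commutator G).index = 2 ∧ ∀ x ∈ D, x ∉ commutator G := by
  obtain ⟨ε, hε⟩ := exists_sign H he
  exact (ThreeTransSign39.layer H.ts H.prim.1 H.mem ε hε).2

end Cfsg.Agent.ThreeTransM24Sign39
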