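import Cfsg.Agent.Lib.ThreeTransLocLift65
import Cfsg.Agent.Lib.ThreeTransM24Line11
import Cfsg.Agent.Lib.ThreeTransM22Triples17

/-!
# The normaliser of a subgroup of order 13 in type M(24)

For members `a, b, c, d` generating a product of two symmetric groups of degree three and a subgroup
`B` of order 13 centralizing them, the fixed members are the six of the product, once the local groups
have the properties of type M(23): three fixed members near a fixed one, pairwise non-commuting.
-/

set_option autoImplicit false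
set_option linter.unusedSectionVars false
set_option linter.style.haveILetI false

namespace Cfsg.Agent.ThreeTransM24Thirteen61

open Subgroup Cfsg.Agent.ThreeTransRel Cfsg.Agent.ThreeTransDescent
open Cfsg.Agent.ThreeTransFixed58

variable {G : Type*} [Group G] [Finite G] {D : Set G}

/-- The fixed members near a member. -/
abbrev nf (D : Set G) (B : Subgroup G) (e : G) : Set G := fixSet D B ∩ near D e

/-- What is used about a member centralizing `B`. -/
structure Local13 (D : Set G) (d : G) (B : Subgroup G) : Prop where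
  three : (nf D B d).ncard = 3
  indep : ∀ x ∈ nf D B d, ∀ y ∈ nf D B d, x ≠ y → ¬ Commute x y
  cent : ∀ c : G, (∀ x ∈ B, Commute x c) → Commute c d → (∀ y ∈ nf D B d, Commute y c) →
    c ∈ B ∨ c * d ∈ B
  card_norm : Nat.card ↥(normalizer (B : Set G) ⊓ centralizer ({d} : Set G)) = 936

/-- Four members generating a product of two symmetric groups of degree three. -/
structure Quad (D : Set G) (a b c d : G) : Prop where
  ma : a ∈ D
  mb : b ∈ D
  mc : c ∈ D
  md : d ∈ D
  had : ¬ Commute a d
  hbc : ¬ Commute b c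
  hab : Commute a b
  hac : Commute a c
  hdb : Commute d b
  hdc : Commute d c

/-- Two further members: commuting `a`, `w` and a member `e` commuting with neither. -/
theorem commute_partner (ht : TSys D) {a w e : G} (ha : a ∈ D) (hw : w ∈ D) (he : e ∈ D)
    (haw : Commute a w) (hea : ¬ Commute e a) (hew : ¬ Commute e w) :
    Commute (a * w * e * (w * a)) e := by
  have h1 : w * e * w = e * w * e := (ht.braid e he w hw hew).symm
  have h2 : a * e * a = e * a * e := (ht.braid e he a ha hea).symm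
  set q := a * w * e * (w * a) with hq
  have e1 : q = a * (w * e * w) * a := by rw [hq]; group
  have e2 : q = e * a * (w * e * w) * a * e := by
    calc q = a * (e * w * e) * a := by rw [e1, h1]
      _ = (a * e * a) * (a * w * a) * (a * e * a) := by
        rw [show (a * e * a) * (a * w * a) * (a * e * a) = a * e * (a * a) * w * (a * a) * e * a by
          group, ht.sq a ha, mul_one, mul_one]
        group
      _ = (e * a * e) * w * (e * a * e) := by
        rw [h2, haw.eq, mul_assoc w a a, ht.sq a ha, mul_one]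
      _ = e * a * (e * w * e) * a * e := by group
      _ = e * a * (w * e * w) * a * e := by rw [← h1]
  have e3 : q = e * q * e := by
    calc q = e * a * (w * e * w) * a * e := e2
      _ = e * q * e := by rw [e1]; group
  show q * e = e * q
  calc q * e = e * q * e * e := by rw [← e3]
    _ = e * q := by rw [mul_assoc, ht.sq e he, mul_one]

/-- The six members. -/
def six (a b c d : G) : Set G := {a, d, a * d * a, b, c, b * c * b}

theorem Quad.perm_left {a b c d : G} (Q : Quad D a b c d) (ht : TSys D) :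
    Quad D b a d c :=
  ⟨Q.mb, Q.ma, Q.md, Q.mc, Q.hbc, Q.had, Q.hab.symm, Q.hdb.symm, Q.hac.symm, Q.hdc.symm⟩

theorem mem_fix_conj {B : Subgroup G} (ht : TSys D) {g x : G} (hg : g ∈ centralizer (B : Set G))
    (hx : x ∈ fixSet D B) : g * x * g⁻¹ ∈ fixSet D B :=
  ⟨ht.conj g x hx.1, mul_mem (mul_mem hg hx.2) (inv_mem hg)⟩

/-- The third member of a line. -/
theorem third_ne (ht : TSys D) {b c : G} (hb : b ∈ D) (hc : c ∈ D) (h : ¬ Commute b c) :
    b * c * b ≠ b ∧ b * c * b ≠ c := by
  refine ⟨fun e => h ?_, fun e => h ?_⟩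
  · have : c = b := by
      have h2 := congrArg (fun t => b * t * b) e
      simp only [ht.conj_conj hb] at h2
      rwa [ht.sq b hb, one_mul] at h2
    rw [this]
  · show b * c = c * b
    calc b * c = b * (b * c * b) := by rw [e]
      _ = c * b := by rw [← mul_assoc, ← mul_assoc, ht.sq b hb, one_mul]

variable {a b c d : G} {B : Subgroup G} (ht : TSys D) (Q : Quad D a b c d)
  (hB : Nat.card ↥B = 13) (hfix : ∀ x ∈ ({a, b, c, d} : Set G), x ∈ centralizer (B : Set G))
  (hloc : ∀ e ∈ fixSet D B, Local13 D e B)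
include ht Q hB hfix hloc

theorem fix_a : a ∈ fixSet D B := ⟨Q.ma, hfix a (by simp)⟩
theorem fix_b : b ∈ fixSet D B := ⟨Q.mb, hfix b (by simp)⟩
theorem fix_c : c ∈ fixSet D B := ⟨Q.mc, hfix c (by simp)⟩
theorem fix_d : d ∈ fixSet D B := ⟨Q.md, hfix d (by simp)⟩

theorem fix_ada : a * d * a ∈ fixSet D B := by
  have := mem_fix_conj ht (fix_a ht Q hB hfix hloc).2 (fix_d ht Q hB hfix hloc)
  rwa [ht.inv_self Q.ma] at this

theorem fix_bcb : b * c * b ∈ fixSet D B := by
  have := mem_fix_conj ht (fix_b ht Q hB hfix hloc).2 (fix_c ht Q hB hfix hloc)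
  rwa [ht.inv_self Q.mb] at this

/-- A member commuting with `b` and `c` but distinct from both and the third has `b`, `c` and the
third as its fixed neighbours. -/
theorem nf_eq {x : G} (hx : x ∈ fixSet D B) (hxb : Commute x b) (hxc : Commute x c) :
    nf D B x = {b, c, b * c * b} := by
  obtain ⟨hzb, hzc⟩ := third_ne ht Q.mb Q.mc Q.hbc
  have hne : ∀ y : G, y = b ∨ y = c ∨ y = b * c * b → y ≠ x := by
    rintro y (rfl | rfl | rfl) e
    · exact Q.hbc (e ▸ hxc)
    · exact Q.hbc (e ▸ hxb).symm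
    · have hcom : Commute (b * c * b) b := e ▸ hxb
      have := ht.commute_conj Q.mb hcom
      rw [ht.conj_conj Q.mb, ht.sq b Q.mb, one_mul] at this
      exact Q.hbc this.symm
  refine (Set.eq_of_subset_of_ncard_le ?_ ?_ (Set.toFinite _)).symm
  · rintro y (rfl | rfl | rfl)
    · exact ⟨fix_b ht Q hB hfix hloc, Q.mb, hne _ (Or.inl rfl), hxb⟩
    · exact ⟨fix_c ht Q hB hfix hloc, Q.mc, hne _ (Or.inr (Or.inl rfl)), hxc⟩
    · exact ⟨fix_bcb ht Q hB hfix hloc, ht.conj_mem Q.mb Q.mc, hne _ (Or.inr (Or.inr rfl)),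
        (hxb.mul_right hxc).mul_right hxb⟩
  · rw [(hloc x hx).three, Set.ncard_eq_three.mpr ⟨b, c, b * c * b,
      fun e => Q.hbc (e ▸ Commute.refl b), hzb.symm, hzc.symm, rfl⟩]

/-- No fixed member outside the six. -/
theorem fixSet_six : fixSet D B = six a b c d := by
  classical
  have fa := fix_a ht Q hB hfix hloc
  have fb := fix_b ht Q hB hfix hloc
  have fc := fix_c ht Q hB hfix hloc
  have fd := fix_d ht Q hB hfix hloc
  have fz := fix_bcb ht Q hB hfix hloc
  refine Set.Subset.antisymm (fun e he => ?_) ?_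
  swap
  · rintro e (rfl | rfl | rfl | rfl | rfl | rfl)
    exacts [fa, fd, fix_ada ht Q hB hfix hloc, fb, fc, fz]
  by_contra hout
  simp only [six, Set.mem_insert_iff, Set.mem_singleton_iff, not_or] at hout
  obtain ⟨hea, hed, hout', heb, hec, hez⟩ := hout
  -- `e` commutes with none of `a`, `d`, `b`, `c`, `bcb`
  have nfa := nf_eq ht Q hB hfix hloc fa Q.hab Q.hac
  have nfd := nf_eq ht Q hB hfix hloc fd Q.hdb Q.hdc
  have hna : ¬ Commute e a := by
    intro h
    have : e ∈ nf D B a := ⟨he, he.1, hea, h.symm⟩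
    rw [nfa] at this
    simp only [Set.mem_insert_iff, Set.mem_singleton_iff] at this
    tauto
  have hnd : ¬ Commute e d := by
    intro h
    have : e ∈ nf D B d := ⟨he, he.1, hed, h.symm⟩
    rw [nfd] at this
    simp only [Set.mem_insert_iff, Set.mem_singleton_iff] at this
    tauto
  set z := b * c * b with hz
  have hW : ∀ w ∈ ({b, c, z} : Set G), w ∈ fixSet D B ∧ Commute a w ∧ Commute d w ∧ ¬ Commute e w := by
    have hQ' := Q.perm_left ht
    have hfix' : ∀ x ∈ ({b, a, d, c} : Set G), x ∈ centralizer (B : Set G) := fun x hx =>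
      hfix x (by simp only [Set.mem_insert_iff, Set.mem_singleton_iff] at hx ⊢; tauto)
    have nfw : ∀ w : G, w ∈ fixSet D B → Commute a w → Commute d w → ¬ Commute e w := by
      intro w hw hwa hwd h
      have hne : e ≠ w := fun e' => hna (e' ▸ hwa).symm
      have : e ∈ nf D B w := ⟨he, he.1, hne, h.symm⟩
      rw [nf_eq ht hQ' hB hfix' hloc hw hwa.symm hwd.symm] at this
      simp only [Set.mem_insert_iff, Set.mem_singleton_iff] at this
      rcases this with e' | e' | e'
      · exact hea e'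
      · exact hed e'
      · exact hout' e'
    intro w hw
    simp only [Set.mem_insert_iff, Set.mem_singleton_iff] at hw
    rcases hw with rfl | rfl | rfl
    · exact ⟨fb, Q.hab, Q.hdb, nfw _ fb Q.hab Q.hdb⟩
    · exact ⟨fc, Q.hac, Q.hdc, nfw _ fc Q.hac Q.hdc⟩
    · exact ⟨fz, (Q.hab.mul_right Q.hac).mul_right Q.hab, (Q.hdb.mul_right Q.hdc).mul_right Q.hdb,
        nfw _ fz ((Q.hab.mul_right Q.hac).mul_right Q.hab) ((Q.hdb.mul_right Q.hdc).mul_right Q.hdb)⟩
  have hane : ∀ w ∈ ({b, c, z} : Set G), a ≠ w ∧ d ≠ w := fun w hw =>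
    ⟨fun e' => (show w ∈ nf D B a from nfa ▸ hw).2.2.1 e'.symm,
      fun e' => (show w ∈ nf D B d from nfd ▸ hw).2.2.1 e'.symm⟩
  -- the neighbour of `e` attached to a commuting pair
  set f : G → G → G := fun x w => x * w * e * (w * x) with hf
  have hfmem : ∀ x w : G, x ∈ fixSet D B → w ∈ fixSet D B → Commute x w → x ≠ w → ¬ Commute e x →
      ¬ Commute e w → f x w ∈ nf D B e := by
    intro x w hx hw hxw hne hex hew
    have h1 := mem_fix_conj ht (mul_mem hx.2 hw.2) he
    rw [mul_inv_rev, ht.inv_self hx.1, ht.inv_self hw.1] at h1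
    refine ⟨h1, h1.1, fun e' => ?_, (commute_partner ht hx.1 hw.1 he.1 hxw hex hew).symm⟩
    -- `f x w = e` would give `w e w = x e x`, hence `w = x`
    have hwe : w * e * w = x * e * x := by
      have := congrArg (fun t => x * t * x) e'
      simp only [hf] at this
      rw [show x * (x * w * e * (w * x)) * x = x * x * (w * e * w) * (x * x) by group,
        ht.sq x hx.1, one_mul, mul_one] at this
      exact this
    rw [← ht.braid e he.1 w hw.1 hew, ← ht.braid e he.1 x hx.1 hex] at hwe
    exact hne (mul_left_cancel (mul_right_cancel hwe)).symm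
  have finj : ∀ w ∈ ({b, c, z} : Set G), ∀ w' ∈ ({b, c, z} : Set G), f a w = f a w' → w = w' := by
    intro w hw w' hw' h
    obtain ⟨mw, -, -, ew⟩ := hW w hw
    obtain ⟨mw', -, -, ew'⟩ := hW w' hw'
    simp only [hf] at h
    have h' : w * e * w = w' * e * w' := by
      rw [show a * w * e * (w * a) = a * (w * e * w) * a by group,
        show a * w' * e * (w' * a) = a * (w' * e * w') * a by group] at h
      exact mul_left_cancel (mul_right_cancel h)
    rw [← ht.braid e he.1 w mw.1 ew, ← ht.braid e he.1 w' mw'.1 ew'] at h'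
    exact mul_left_cancel (mul_right_cancel h')
  obtain ⟨hzb, hzc⟩ := third_ne ht Q.mb Q.mc Q.hbc
  have hbc' : b ≠ c := fun e' => Q.hbc (e' ▸ Commute.refl b)
  have hS : nf D B e = f a '' {b, c, z} := by
    refine (Set.eq_of_subset_of_ncard_le ?_ ?_ (Set.toFinite _)).symm
    · rintro _ ⟨w, hw, rfl⟩
      obtain ⟨mw, aw, -, ew⟩ := hW w hw
      exact hfmem a w fa mw aw (hane w hw).1 hna ew
    · rw [(hloc e he).three, Set.ncard_image_of_injOn (fun w hw w' hw' h => finj w hw w' hw' h),
        Set.ncard_eq_three.mpr ⟨b, c, z, hbc', hzb.symm, hzc.symm, rfl⟩]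
  obtain ⟨-, -, -, ebn⟩ := hW b (by simp)
  obtain ⟨w, hw, hwf⟩ : f d b ∈ f a '' {b, c, z} := hS ▸ hfmem d b fd fb Q.hdb (hane b (by simp)).2 hnd ebn
  obtain ⟨mw, aw, dw, ew⟩ := hW w hw
  simp only [hf] at hwf
  set p := a * w with hp
  set r := d * b with hr
  have hpi : p⁻¹ = w * a := by rw [hp, mul_inv_rev, ht.inv_self Q.ma, ht.inv_self mw.1]
  have hri : r⁻¹ = b * d := by rw [hr, mul_inv_rev, ht.inv_self Q.md, ht.inv_self Q.mb]
  have hpp : p * p = 1 := by
    rw [hp, aw.symm.mul_mul_mul_comm, ht.sq a Q.ma, ht.sq w mw.1, one_mul]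
  have hrr : r * r = 1 := by
    rw [hr, Q.hdb.symm.mul_mul_mul_comm, ht.sq d Q.md, ht.sq b Q.mb, one_mul]
  have hpi' : w * a = p := hpi ▸ inv_eq_of_mul_eq_one_right hpp
  have hri' : b * d = r := hri ▸ inv_eq_of_mul_eq_one_right hrr
  rw [hpi', hri'] at hwf
  set t := p * r with htdef
  have hte : Commute t e := by
    show t * e = e * t
    calc t * e = p * (r * e * r) * r := by
          rw [htdef]; simp only [mul_assoc, hrr, mul_one]
      _ = p * (p * e * p) * r := by rw [← hwf]
      _ = e * t := by rw [htdef]; simp only [← mul_assoc, hpp, one_mul]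
  -- `t` is the product of two commuting elements of order three
  have e1 : t = (a * d) * (w * b) := by rw [htdef, hp, hr]; exact dw.symm.mul_mul_mul_comm a b
  have hwb : ¬ Commute w b := by
    intro hc'
    have hw' : w = b := by
      simp only [Set.mem_insert_iff, Set.mem_singleton_iff] at hw
      rcases hw with rfl | rfl | rfl
      · rfl
      · exact absurd hc'.symm Q.hbc
      · exfalso
        have := ht.commute_conj Q.mb hc'
        rw [hz, ht.conj_conj Q.mb, ht.sq b Q.mb, one_mul] at this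
        exact Q.hbc this.symm
    rw [hw', ht.sq b Q.mb, mul_one] at e1
    exact hna (((ThreeTransM24Line11.fixed_iff ht Q.ma Q.md Q.had he.1).mp (e1 ▸ hte).symm).1.symm)
  have hcube : ∀ x y : G, x ∈ D → y ∈ D → ¬ Commute x y → (x * y) ^ 3 = 1 := fun x y hx hy hn => by
    rw [pow_succ, pow_two, ThreeTransM24Line11.cube ht hx hy hn,
      ← ThreeTransM24Line11.inv_mul' ht hx hy hn, inv_mul_cancel]
  have ht3 : t ^ 3 = 1 := by
    have c1 : Commute (a * d) (w * b) :=
      (aw.mul_right Q.hab).mul_left (dw.mul_right Q.hdb)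
    rw [e1, c1.mul_pow, hcube a d Q.ma Q.md Q.had, hcube w b mw.1 Q.mb hwb, one_mul]
  have htB : ∀ x ∈ B, Commute x t := fun x hx => by
    have hC : t ∈ centralizer (B : Set G) := by
      rw [e1]; exact mul_mem (mul_mem fa.2 fd.2) (mul_mem mw.2 fb.2)
    exact mem_centralizer_iff.mp hC x hx
  -- the member `q` of the neighbours is centralized by `t`
  set q := p * e * p with hq
  have hqS : q ∈ nf D B e := by
    have := hfmem a w fa mw aw (hane w hw).1 hna ew
    simp only [hf, ← hp, hpi'] at this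
    exact this
  have htq : Commute t q := by
    have hti : p * t * p = t⁻¹ := by
      rw [htdef, mul_inv_rev, inv_eq_of_mul_eq_one_right hpp, inv_eq_of_mul_eq_one_right hrr]
      simp only [← mul_assoc, hpp, one_mul]
    have hpt : p * t⁻¹ * p = t := by
      rw [← hti, show p * (p * t * p) * p = (p * p) * t * (p * p) by group, hpp, one_mul, mul_one]
    have h1 : Commute (p * t⁻¹ * p⁻¹) (p * e * p⁻¹) := (Commute.conj_iff p).mpr hte.inv_left
    rwa [inv_eq_of_mul_eq_one_right hpp, hpt] at h1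
  have hperm : ∀ y ∈ nf D B e, t * y * t⁻¹ ∈ nf D B e := by
    intro y hy
    refine ⟨mem_fix_conj ht (mem_centralizer_iff.mpr htB) hy.1, near_conj ht hte hy.2⟩
  have htall : ∀ y ∈ nf D B e, Commute y t := by
    intro y hy
    by_contra hn
    have hn' : t * y * t⁻¹ ≠ y := fun h => hn (mul_inv_eq_iff_eq_mul.mp h).symm
    have hnq : ∀ u : G, t * u * t⁻¹ = q → u = q := fun u hu => by
      calc u = t⁻¹ * (t * u * t⁻¹) * t := by group
        _ = q := by rw [hu, mul_assoc, ← htq.eq, ← mul_assoc, inv_mul_cancel, one_mul]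
    have hyq : y ≠ q := fun h => hn (h ▸ htq).symm
    -- the three are `q`, `y` and `t y t⁻¹`
    have h3 : nf D B e = {q, y, t * y * t⁻¹} := by
      refine (Set.eq_of_subset_of_ncard_le ?_ ?_ (Set.toFinite _)).symm
      · rintro u (rfl | rfl | rfl)
        exacts [hqS, hy, hperm y hy]
      · rw [(hloc e he).three, Set.ncard_eq_three.mpr ⟨q, y, t * y * t⁻¹, hyq.symm,
          fun h => hyq (hnq y h.symm), hn'.symm, rfl⟩]
    have h4 := hperm _ (hperm y hy)
    rw [h3] at h4
    simp only [Set.mem_insert_iff, Set.mem_singleton_iff] at h4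
    rcases h4 with h4 | h4 | h4
    · exact hyq (hnq y (hnq _ h4))
    · apply hn'
      calc t * y * t⁻¹ = t * (t * (t * y * t⁻¹) * t⁻¹) * t⁻¹ := by rw [h4]
        _ = t ^ 3 * y * (t ^ 3)⁻¹ := by rw [pow_succ, pow_two]; group
        _ = y := by rw [ht3, one_mul, inv_one, mul_one]
    · exact hn' (mul_left_cancel (mul_right_cancel h4))
  have hpowB : ∀ x ∈ B, x ^ 13 = 1 := fun x hx => by
    have := congrArg Subtype.val (pow_card_eq_one' (x := (⟨x, hx⟩ : ↥B)))
    rw [hB] at this
    simpa using this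
  rcases (hloc e he).cent t htB hte htall with k | k
  · have h13 := hpowB t k
    rw [show (13 : ℕ) = 3 * 4 + 1 from rfl, pow_succ, pow_mul, ht3, one_pow, one_mul] at h13
    apply Q.had
    rw [e1] at h13
    have h5 : a * d = b * w := by
      rw [eq_inv_of_mul_eq_one_left h13, mul_inv_rev, ht.inv_self mw.1, ht.inv_self Q.mb]
    have h6 : Commute a (a * d) := h5 ▸ Q.hab.mul_right aw
    show a * d = d * a
    calc a * d = a * (a * d) * a⁻¹ := by rw [h6.eq, mul_inv_cancel_right]
      _ = d * a := by rw [ht.inv_self Q.ma, ← mul_assoc, ht.sq a Q.ma, one_mul]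
  · have h13 := hpowB _ k
    rw [hte.mul_pow, show (13 : ℕ) = 3 * 4 + 1 from rfl, pow_succ, pow_mul, ht3, one_pow, one_mul,
      show 3 * 4 + 1 = 2 * 6 + 1 from rfl, pow_succ, pow_mul, pow_two, ht.sq e he.1, one_pow,
      one_mul] at h13
    rw [eq_inv_of_mul_eq_one_left h13, ht.inv_self he.1] at ht3
    rw [pow_succ, pow_two, ht.sq e he.1, one_mul] at ht3
    exact hna (ht3 ▸ Commute.one_left a)

omit hfix hloc in
theorem card_pair : Nat.card ↥(closure ({a, d} : Set G)) = 6 := by
  obtain ⟨e⟩ := ThreeTransM24Line11.nonempty_equiv_perm ht Q.ma Q.md Q.had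
  rw [Nat.card_congr e.toEquiv, Nat.card_perm, Nat.card_eq_fintype_card, Fintype.card_fin]; rfl

/-- The normaliser permutes the fixed members. -/
theorem conj_six {g : G} (hg : g ∈ normalizer (B : Set G)) {x : G} (hx : x ∈ six a b c d) :
    g * x * g⁻¹ ∈ six a b c d := by
  rw [← fixSet_six ht Q hB hfix hloc] at hx ⊢
  refine mem_fixSet.mpr ⟨ht.conj g x hx.1, fun y hy => ?_⟩
  have hy' : g⁻¹ * y * g ∈ B := by
    have := (Subgroup.mem_normalizer_iff.mp (inv_mem hg) y).mp hy
    rwa [inv_inv] at this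
  have := (Commute.conj_iff g).mpr ((mem_fixSet.mp hx).2 _ hy')
  rwa [show g * (g⁻¹ * y * g) * g⁻¹ = y by group] at this

omit hB hfix hloc in
theorem six_subset : six a b c d ⊆ (closure ({a, b, c, d} : Set G) : Set G) := by
  have ha : a ∈ closure ({a, b, c, d} : Set G) := subset_closure (by simp)
  have hb : b ∈ closure ({a, b, c, d} : Set G) := subset_closure (by simp)
  have hc : c ∈ closure ({a, b, c, d} : Set G) := subset_closure (by simp)
  have hd : d ∈ closure ({a, b, c, d} : Set G) := subset_closure (by simp)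
  rintro x (rfl | rfl | rfl | rfl | rfl | rfl)
  exacts [ha, hd, mul_mem (mul_mem ha hd) ha, hb, hc, mul_mem (mul_mem hb hc) hb]

omit hB hfix hloc in
theorem mem_cent_quad {x : G} :
    x ∈ centralizer (closure ({a, b, c, d} : Set G) : Set G) ↔
      Commute a x ∧ Commute b x ∧ Commute c x ∧ Commute d x := by
  rw [centralizer_closure, mem_centralizer_iff]
  simp only [Set.mem_insert_iff, Set.mem_singleton_iff, forall_eq_or_imp, forall_eq]
  exact Iff.rfl

/-- The normaliser of `B` is below that of the centralizer of the product. -/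
theorem normalizer_le : normalizer (B : Set G) ≤
    normalizer (centralizer (closure ({a, b, c, d} : Set G) : Set G) : Set G) := by
  intro g hg
  refine ThreeTransLocLift65.mem_normalizer_of_maps fun x hx => ?_
  have hT : ∀ y ∈ six a b c d, Commute y x := fun y hy =>
    mem_centralizer_iff.mp hx y (six_subset ht Q hy)
  have key : ∀ y ∈ six a b c d, Commute y (g * x * g⁻¹) := fun y hy => by
    have h1 := conj_six ht Q hB hfix hloc (inv_mem hg) hy
    rw [inv_inv] at h1
    have := (Commute.conj_iff g).mpr (hT _ h1)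
    rwa [show g * (g⁻¹ * y * g) * g⁻¹ = y by group] at this
  refine (mem_cent_quad ht Q).mpr ⟨key a ?_, key b ?_, key c ?_, key d ?_⟩ <;>
    simp [six]

/-- An element exchanging `a` and `b` and normalising `B`. -/
theorem exists_swap (hsyl : ¬ 13 ^ 2 ∣ Nat.card G) (hswap : ∃ g : G, g * a * g⁻¹ = b ∧ g * b * g⁻¹ = a) :
    ∃ g ∈ normalizer (B : Set G), g * a * g⁻¹ = b := by
  classical
  haveI : Fact (Nat.Prime 13) := ⟨by norm_num⟩
  obtain ⟨g, hga, hgb⟩ := hswap
  set H := centralizer ({a, b} : Set G) with hH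
  set B' := B.map (MulAut.conj g).toMonoidHom with hB'
  have hBH : B ≤ H := fun x hx => mem_centralizer_iff.mpr fun y hy => by
    rcases hy with rfl | rfl
    · exact (((mem_fixSet.mp (fix_a ht Q hB hfix hloc)).2 x hx).symm).eq
    · exact (((mem_fixSet.mp (fix_b ht Q hB hfix hloc)).2 x hx).symm).eq
  have hB'H : B' ≤ H := by
    rintro _ ⟨x, hx, rfl⟩
    refine mem_centralizer_iff.mpr fun y hy => ?_
    show Commute y (g * x * g⁻¹)
    rcases hy with rfl | rfl
    · exact hgb ▸ (Commute.conj_iff g).mpr ((mem_fixSet.mp (fix_b ht Q hB hfix hloc)).2 x hx).symm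
    · exact hga ▸ (Commute.conj_iff g).mpr ((mem_fixSet.mp (fix_a ht Q hB hfix hloc)).2 x hx).symm
  have hB'c : Nat.card ↥B' = 13 := by
    rw [hB', ← Nat.card_congr (equivMapOfInjective B _ (MulAut.conj g).injective).toEquiv, hB]
  have hexp : (Nat.card ↥H).factorization 13 = 1 := by
    have h0 : Nat.card ↥H ≠ 0 := Nat.card_pos.ne'
    have hp : Nat.Prime 13 := by norm_num
    have h1 := (hp.dvd_iff_one_le_factorization h0).mp (hB ▸ card_dvd_of_le hBH)
    have h2 : ¬ 2 ≤ (Nat.card ↥H).factorization 13 := fun h =>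
      hsyl (((hp.pow_dvd_iff_le_factorization h0).mpr h).trans (card_subgroup_dvd_card H))
    omega
  let P : Sylow 13 ↥H := Sylow.ofCard (B'.subgroupOf H)
    (by rw [hexp, pow_one, Nat.card_congr (subgroupOfEquivOfLe hB'H).toEquiv, hB'c])
  let R : Sylow 13 ↥H := Sylow.ofCard (B.subgroupOf H)
    (by rw [hexp, pow_one, Nat.card_congr (subgroupOfEquivOfLe hBH).toEquiv, hB])
  obtain ⟨h, hh⟩ := MulAction.exists_smul_eq ↥H P R
  have hh' : (B'.subgroupOf H).map (MulAut.conj h).toMonoidHom = B.subgroupOf H :=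
    congrArg (fun S : Sylow 13 ↥H => (S : Subgroup ↥H)) hh
  refine ⟨h * g, ThreeTransLocLift65.mem_normalizer_of_maps fun x hx => ?_, ?_⟩
  · have h1 : (⟨g * x * g⁻¹, hB'H ⟨x, hx, rfl⟩⟩ : ↥H) ∈ B'.subgroupOf H := ⟨x, hx, rfl⟩
    have h2 : (MulAut.conj h).toMonoidHom ⟨g * x * g⁻¹, hB'H ⟨x, hx, rfl⟩⟩ ∈ B.subgroupOf H :=
      hh' ▸ mem_map_of_mem _ h1
    have h3 : (h : G) * (g * x * g⁻¹) * (h : G)⁻¹ ∈ B := h2
    simpa [mul_assoc] using h3
  · have hb' : b * (h : G) = (h : G) * b := mem_centralizer_iff.mp h.2 b (by simp)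
    rw [show (h : G) * g * a * ((h : G) * g)⁻¹ = (h : G) * (g * a * g⁻¹) * (h : G)⁻¹ by group, hga,
      ← hb', mul_inv_cancel_right]

/-- The orders of the normaliser in `G` and in the centralizer of the product. -/
theorem cards (hsyl : ¬ 13 ^ 2 ∣ Nat.card G)
    (hswap : ∃ g : G, g * a * g⁻¹ = b ∧ g * b * g⁻¹ = a) :
    Nat.card ↥(normalizer (B : Set G)) = 5616 ∧
      Nat.card ↥(centralizer (closure ({a, b, c, d} : Set G) : Set G) ⊓ normalizer (B : Set G)) = 78 := by
  classical
  have hb6 := fixSet_six ht Q hB hfix hloc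
  have fa := fix_a ht Q hB hfix hloc
  have fb := fix_b ht Q hB hfix hloc
  have fc := fix_c ht Q hB hfix hloc
  have fd := fix_d ht Q hB hfix hloc
  set N := normalizer (B : Set G) with hN
  have hcN : ∀ x ∈ fixSet D B, x ∈ N := fun x hx => centralizer_le_normalizer (B : Set G) hx.2
  obtain ⟨hzb, hzc⟩ := third_ne ht Q.mb Q.mc Q.hbc
  obtain ⟨haa, had⟩ := third_ne ht Q.ma Q.md Q.had
  have hbc : b ≠ c := fun e => Q.hbc (e ▸ Commute.refl b)
  have hadne : a ≠ d := fun e => Q.had (e ▸ Commute.refl a)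
  -- transpositions of the lines
  have tad : (a * d) * a * (a * d)⁻¹ = d := by
    rw [mul_inv_rev, ht.inv_self Q.ma, ht.inv_self Q.md,
      show a * d * a * (d * a) = a * (d * a * d) * a by group, ← ht.braid a Q.ma d Q.md Q.had,
      ht.conj_conj Q.ma]
  have tbc : (b * c) * b * (b * c)⁻¹ = c := by
    rw [mul_inv_rev, ht.inv_self Q.mb, ht.inv_self Q.mc,
      show b * c * b * (c * b) = b * (c * b * c) * b by group, ← ht.braid b Q.mb c Q.mc Q.hbc,
      ht.conj_conj Q.mb]
  have tada : d * a * d⁻¹ = a * d * a := by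
    rw [ht.inv_self Q.md]; exact (ht.braid a Q.ma d Q.md Q.had).symm
  have tbcb : c * b * c⁻¹ = b * c * b := by
    rw [ht.inv_self Q.mc]; exact (ht.braid b Q.mb c Q.mc Q.hbc).symm
  -- the whole normaliser
  obtain ⟨g, hgN, hg⟩ := exists_swap ht Q hB hfix hloc hsyl hswap
  have hmove : ∀ y ∈ six a b c d, ∃ k ∈ N, k * a * k⁻¹ = y := by
    have hthen : ∀ k y : G, k ∈ N → k * b * k⁻¹ = y → ∃ k' ∈ N, k' * a * k'⁻¹ = y :=
      fun k y hk e => ⟨k * g, mul_mem hk hgN, by rw [← e, ← hg]; group⟩
    intro y hy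
    rcases hy with e | e | e | e | e | e <;> rw [e]
    · exact ⟨1, one_mem _, by group⟩
    · exact ⟨a * d, mul_mem (hcN _ fa) (hcN _ fd), tad⟩
    · exact ⟨d, hcN _ fd, tada⟩
    · exact ⟨g, hgN, hg⟩
    · exact hthen _ _ (mul_mem (hcN _ fb) (hcN _ fc)) tbc
    · exact hthen _ _ (hcN _ fc) tbcb
  have n6 : (six a b c d).ncard = 6 := by
    have s1 : six a b c d = {a, d, a * d * a} ∪ {b, c, b * c * b} := by
      ext; simp only [six, Set.mem_union, Set.mem_insert_iff, Set.mem_singleton_iff]; tauto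
    have d1 : Disjoint ({a, d, a * d * a} : Set G) {b, c, b * c * b} := by
      refine Set.disjoint_left.mpr fun x hx hx' => ?_
      have h1 : x ∈ nf D B a := (nf_eq ht Q hB hfix hloc fa Q.hab Q.hac) ▸ hx'
      simp only [Set.mem_insert_iff, Set.mem_singleton_iff] at hx
      rcases hx with rfl | rfl | rfl
      · exact h1.2.2.1 rfl
      · exact Q.had h1.2.2.2
      · have h2 := ht.commute_conj Q.ma h1.2.2.2
        rw [ht.sq a Q.ma, one_mul, ht.conj_conj Q.ma] at h2
        exact Q.had h2
    rw [s1, Set.ncard_union_eq d1 (Set.toFinite _) (Set.toFinite _),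
      Set.ncard_eq_three.mpr ⟨a, d, _, hadne, haa.symm, had.symm, rfl⟩,
      Set.ncard_eq_three.mpr ⟨b, c, _, hbc, hzb.symm, hzc.symm, rfl⟩]
  have hNcard : Nat.card ↥N = 5616 := by
    rw [ThreeTransM22Triples17.card_eq_mul N (six a b c d) (a := a) (by simp [six])
      (fun k hk => conj_six ht Q hB hfix hloc hk (by simp [six])) hmove, n6, hN,
      (hloc a fa).card_norm]
  refine ⟨hNcard, ?_⟩
  -- the stabilisers
  have hnear : ∀ {x : G}, ∀ k ∈ N ⊓ centralizer ({x} : Set G), ∀ y ∈ nf D B x,
      k * y * k⁻¹ ∈ nf D B x := fun {x} k hk y hy => by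
    refine ⟨?_, near_conj ht (mem_centralizer_singleton_iff.mp hk.2) hy.2⟩
    rw [hb6]
    exact conj_six ht Q hB hfix hloc hk.1 (hb6 ▸ hy.1)
  have cb : Commute (b * c) a := (Q.hab.mul_right Q.hac).symm
  set N1 := N ⊓ centralizer ({a} : Set G) with hN1
  have h1 : Nat.card ↥N1 = 936 := (hloc a fa).card_norm
  have hnfa := nf_eq ht Q hB hfix hloc fa Q.hab Q.hac
  have h2 : Nat.card ↥(N1 ⊓ centralizer ({b} : Set G)) = 312 := by
    have := ThreeTransM22Triples17.card_eq_mul N1 (nf D B a) (a := b) (hnfa ▸ Set.mem_insert _ _)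
      (fun k hk => hnear k hk b (hnfa ▸ Set.mem_insert _ _)) (by
        rw [hnfa]
        intro y hy
        rcases hy with e | e | e <;> rw [e]
        · exact ⟨1, one_mem _, by group⟩
        · exact ⟨b * c, ⟨mul_mem (hcN _ fb) (hcN _ fc), mem_centralizer_singleton_iff.mpr cb.eq⟩, tbc⟩
        · exact ⟨c, ⟨hcN _ fc, mem_centralizer_singleton_iff.mpr Q.hac.symm.eq⟩, tbcb⟩)
    rw [(hloc a fa).three, h1] at this
    omega
  set N2 := N1 ⊓ centralizer ({b} : Set G) with hN2
  have hfix' : ∀ x ∈ ({b, a, d, c} : Set G), x ∈ centralizer (B : Set G) := fun x hx =>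
    hfix x (by simp only [Set.mem_insert_iff, Set.mem_singleton_iff] at hx ⊢; tauto)
  have hnfb : nf D B b = {a, d, a * d * a} :=
    nf_eq ht (Q.perm_left ht) hB hfix' hloc fb Q.hab.symm Q.hdb.symm
  have h3 : Nat.card ↥(N2 ⊓ centralizer ({d} : Set G)) = 156 := by
    have := ThreeTransM22Triples17.card_eq_mul N2 ({d, a * d * a} : Set G) (a := d) (Set.mem_insert _ _)
      (fun k hk => by
        have hy := hnear k ⟨hk.1.1, hk.2⟩ d (hnfb ▸ by simp)
        rw [hnfb] at hy
        simp only [Set.mem_insert_iff, Set.mem_singleton_iff] at hy ⊢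
        refine hy.resolve_left fun e => hadne ?_
        have hka : k * a * k⁻¹ = a := mul_inv_eq_iff_eq_mul.mpr (mem_centralizer_singleton_iff.mp hk.1.2)
        exact (mul_left_cancel (mul_right_cancel (e.trans hka.symm))).symm) (by
        intro y hy
        rcases hy with e | e <;> rw [e]
        · exact ⟨1, one_mem _, by group⟩
        · refine ⟨a, ⟨⟨hcN _ fa, mem_centralizer_singleton_iff.mpr rfl⟩,
            mem_centralizer_singleton_iff.mpr Q.hab.eq⟩, ?_⟩
          rw [ht.inv_self Q.ma])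
    rw [Set.ncard_pair had.symm, h2] at this
    omega
  set N3 := N2 ⊓ centralizer ({d} : Set G) with hN3
  have h4 : Nat.card ↥(N3 ⊓ centralizer ({c} : Set G)) = 78 := by
    have := ThreeTransM22Triples17.card_eq_mul N3 ({c, b * c * b} : Set G) (a := c) (Set.mem_insert _ _)
      (fun k hk => by
        have hy := hnear k hk.1.1 c (hnfa ▸ by simp)
        rw [hnfa] at hy
        simp only [Set.mem_insert_iff, Set.mem_singleton_iff] at hy ⊢
        refine hy.resolve_left fun e => hbc ?_
        have hkb : k * b * k⁻¹ = b := mul_inv_eq_iff_eq_mul.mpr (mem_centralizer_singleton_iff.mp hk.1.2)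
        exact (mul_left_cancel (mul_right_cancel (e.trans hkb.symm))).symm) (by
        intro y hy
        rcases hy with e | e <;> rw [e]
        · exact ⟨1, one_mem _, by group⟩
        · refine ⟨b, ⟨⟨⟨hcN _ fb, mem_centralizer_singleton_iff.mpr Q.hab.symm.eq⟩,
            mem_centralizer_singleton_iff.mpr rfl⟩, mem_centralizer_singleton_iff.mpr Q.hdb.symm.eq⟩, ?_⟩
          rw [ht.inv_self Q.mb])
    rw [Set.ncard_pair hzc.symm, h3] at this
    omega
  rw [← h4]
  congr 2
  ext x
  simp only [hN3, hN2, hN1, Subgroup.mem_inf, mem_centralizer_singleton_iff, mem_cent_quad ht Q]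
  exact ⟨fun h => ⟨⟨⟨⟨h.2, h.1.1.symm.eq⟩, h.1.2.1.symm.eq⟩, h.1.2.2.2.symm.eq⟩, h.1.2.2.1.symm.eq⟩,
    fun h => ⟨⟨Commute.symm h.1.1.1.2, Commute.symm h.1.1.2, Commute.symm h.2, Commute.symm h.1.2⟩,
      h.1.1.1.1⟩⟩

/-- The conclusion for one subgroup. -/
theorem main (hsyl : ¬ 13 ^ 2 ∣ Nat.card G)
    (hswap : ∃ g : G, g * a * g⁻¹ = b ∧ g * b * g⁻¹ = a) {T K : Subgroup G}
    (hT : T = closure ({a, b, c, d} : Set G)) (hK : K = centralizer (T : Set G)) (hBK : B ≤ K) :
    normalizer (B : Set G) ≤ normalizer (K : Set G) ∧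
      Nat.card ↥(K ⊓ normalizer (B : Set G)) = 78 ∧ K ⊓ centralizer (B : Set G) = B ∧
      (((K ⊓ normalizer (B : Set G)) ⊔ T).subgroupOf (normalizer (B : Set G))).index = 2 := by
  subst hT hK
  obtain ⟨hN, hF⟩ := cards ht Q hB hfix hloc hsyl hswap
  have fa := fix_a ht Q hB hfix hloc
  have fd := fix_d ht Q hB hfix hloc
  have hTc : closure ({a, b, c, d} : Set G) ≤ centralizer (B : Set G) :=
    (closure_le _).mpr fun x hx => hfix x hx
  refine ⟨normalizer_le ht Q hB hfix hloc, hF, le_antisymm (fun x hx => ?_) (le_inf hBK ?_), ?_⟩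
  · obtain ⟨hxa, hxb, hxc, hxd⟩ := (mem_cent_quad ht Q).mp hx.1
    have hxB : ∀ y ∈ B, Commute y x := fun y hy => mem_centralizer_iff.mp hx.2 y hy
    rcases (hloc a fa).cent x hxB hxa.symm (fun y hy => by
        rw [nf_eq ht Q hB hfix hloc fa Q.hab Q.hac] at hy
        simp only [Set.mem_insert_iff, Set.mem_singleton_iff] at hy
        rcases hy with rfl | rfl | rfl
        exacts [hxb, hxc, (hxb.mul_left hxc).mul_left hxb]) with k | k
    · exact k
    · exfalso
      obtain ⟨-, -, -, hd'⟩ := (mem_cent_quad ht Q).mp (hBK k)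
      have h2 : Commute d (x⁻¹ * (x * a)) := hxd.inv_right.mul_right hd'
      rw [inv_mul_cancel_left] at h2
      exact Q.had h2.symm
  · haveI : Fact (Nat.Prime 13) := ⟨by norm_num⟩
    haveI := isCyclic_of_prime_card hB
    exact fun x hx => mem_centralizer_iff.mpr fun y hy =>
      congrArg Subtype.val (IsMulCommutative.is_comm.comm (⟨y, hy⟩ : ↥B) ⟨x, hx⟩)
  set F := centralizer (closure ({a, b, c, d} : Set G) : Set G) ⊓ normalizer (B : Set G) with hFdef
  set P := closure ({a, d} : Set G) with hP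
  set R := closure ({b, c} : Set G) with hR
  have hPR : ∀ (x : ↥P) (y : ↥R), Commute (x : G) y := fun x y => by
    refine ThreeTransM24Line11.commute_pair x.2 ?_
    refine mem_centralizer_iff.mpr fun z hz => ?_
    have : R ≤ centralizer ({z} : Set G) := (closure_le _).mpr fun w hw => by
      refine mem_centralizer_singleton_iff.mpr ?_
      rcases hz with rfl | rfl <;> rcases hw with rfl | rfl
      exacts [Q.hab.symm.eq, Q.hac.symm.eq, Q.hdb.symm.eq, Q.hdc.symm.eq]
    exact (mem_centralizer_singleton_iff.mp (this y.2)).symm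
  let φ := MonoidHom.noncommCoprod P.subtype R.subtype fun x y => hPR x y
  have hφr : φ.range = closure ({a, b, c, d} : Set G) := by
    refine (MonoidHom.noncommCoprod_range _ _ _).trans ?_
    rw [range_subtype, range_subtype, hP, hR, ← Subgroup.closure_union]
    congr 1
    ext; simp only [Set.mem_union, Set.mem_insert_iff, Set.mem_singleton_iff]; tauto
  have hdisj : Disjoint P R := disjoint_iff.mpr (eq_bot_iff.mpr fun x hx => by
    rw [← ThreeTransM24Line11.inf_centralizer ht Q.ma Q.md Q.had]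
    refine ⟨hx.1, mem_centralizer_iff.mpr fun z hz => ?_⟩
    exact hPR ⟨z, subset_closure hz⟩ ⟨x, hx.2⟩)
  have hφi : Function.Injective φ := (injective_iff_map_eq_one φ).mpr fun p hp => by
    have hp' : (p.1 : G) * (p.2 : G) = 1 := hp
    have hm : (p.1 : G) ∈ P ⊓ R := Subgroup.mem_inf.mpr ⟨p.1.2, (eq_inv_of_mul_eq_one_left hp').symm ▸ R.inv_mem p.2.2⟩
    rw [hdisj.eq_bot, mem_bot] at hm
    rw [hm, one_mul] at hp'
    exact Prod.ext (Subtype.ext hm) (Subtype.ext hp')
  have hT36 : Nat.card ↥(closure ({a, b, c, d} : Set G)) = 36 := by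
    rw [← hφr, ← Nat.card_congr (MonoidHom.ofInjective hφi).toEquiv, Nat.card_prod,
      card_pair ht Q hB, card_pair ht (Q.perm_left ht) hB]
  have hFT : ∀ (x : ↥F) (y : ↥(closure ({a, b, c, d} : Set G))), Commute (x : G) y := fun x y =>
    (mem_centralizer_iff.mp x.2.1 y y.2).symm
  let ψ := MonoidHom.noncommCoprod F.subtype (closure ({a, b, c, d} : Set G)).subtype fun x y => hFT x y
  have hψi : Function.Injective ψ := (injective_iff_map_eq_one ψ).mpr fun p hp => by
    have hp' : (p.1 : G) * (p.2 : G) = 1 := hp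
    obtain ⟨⟨u, v⟩, huv⟩ : (p.2 : G) ∈ φ.range := by rw [hφr]; exact p.2.2
    have h2 : (p.2 : G) ∈ centralizer (closure ({a, b, c, d} : Set G) : Set G) := by
      rw [eq_inv_of_mul_eq_one_right hp']; exact inv_mem p.1.2.1
    have huv' : (u : G) * (v : G) = (p.2 : G) := huv
    obtain ⟨ca, cb, cc, cd⟩ := (mem_cent_quad ht Q).mp h2
    have hu : (u : G) = 1 := by
      rw [← mem_bot, ← ThreeTransM24Line11.inf_centralizer ht Q.ma Q.md Q.had]
      refine ⟨u.2, mem_centralizer_iff.mpr fun z hz => ?_⟩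
      have hv : Commute z (v : G) := hPR ⟨z, subset_closure hz⟩ v
      have hz' : Commute z (p.2 : G) := by rcases hz with rfl | rfl <;> assumption
      have := hz'.mul_right hv.inv_right
      rwa [← huv', mul_inv_cancel_right] at this
    have hv1 : (v : G) = 1 := by
      rw [← mem_bot, ← ThreeTransM24Line11.inf_centralizer ht Q.mb Q.mc Q.hbc]
      refine ⟨v.2, mem_centralizer_iff.mpr fun z hz => ?_⟩
      rw [hu, one_mul] at huv'
      rw [huv']
      rcases hz with rfl | rfl
      exacts [cb.eq, cc.eq]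
    rw [hu, hv1, one_mul] at huv'
    rw [← huv', mul_one] at hp'
    exact Prod.ext (Subtype.ext hp') (Subtype.ext huv'.symm)
  have h2808 : Nat.card ↥(F ⊔ closure ({a, b, c, d} : Set G)) = 2808 := by
    rw [show F ⊔ closure ({a, b, c, d} : Set G) = ψ.range from
        ((MonoidHom.noncommCoprod_range _ _ _).trans (by rw [range_subtype, range_subtype])).symm,
      ← Nat.card_congr (MonoidHom.ofInjective hψi).toEquiv, Nat.card_prod, hF, hT36]
  have hle : F ⊔ closure ({a, b, c, d} : Set G) ≤ normalizer (B : Set G) :=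
    sup_le inf_le_right (hTc.trans (centralizer_le_normalizer (B : Set G)))
  have h := ((F ⊔ closure ({a, b, c, d} : Set G)).subgroupOf (normalizer (B : Set G))).card_mul_index
  rw [Nat.card_congr (subgroupOfEquivOfLe hle).toEquiv, h2808, hN] at h
  omega

end Cfsg.Agent.ThreeTransM24Thirteen61
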