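import Cfsg.Agent.Lib.ThreeTransM24Thirteen61
import Cfsg.Agent.Lib.ThreeTransM24Order59
import Cfsg.Agent.Lib.ThreeTransM24Glue65
import Cfsg.Agent.Lib.ThreeTransM23Normal58

/-!
# Subgroups of order 13 in the local groups of type M(24)

The facts about subgroups of order 13 in type M(23), carried to the centralizer of a member, and the
assembled conclusion in type M(24).
-/

set_option autoImplicit false
set_option linter.unusedSectionVars false
set_option linter.style.haveILetI false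

namespace Cfsg.Agent.ThreeTransM24ThirteenLocal61

open Subgroup Cfsg.Agent.ThreeTransRel Cfsg.Agent.ThreeTransDescent
open Cfsg.Agent.ThreeTransFixed58 (fixSet mem_fixSet)
open Cfsg.Agent.ThreeTransM24Thirteen61
open Cfsg.Agent.ThreeTransM24Order59 (Hyp)
open Cfsg.Agent.ThreeTransLocLift65 (bar)

theorem perm3_involutions :
    (Finset.univ.filter fun σ : Equiv.Perm (Fin 3) => σ * σ = 1 ∧ σ ≠ 1).card = 3 := by decide

theorem perm3_commute : ∀ σ τ : Equiv.Perm (Fin 3),
    σ * σ = 1 ∧ σ ≠ 1 ∧ τ * τ = 1 ∧ τ ≠ 1 ∧ σ * τ = τ * σ → σ = τ := by decide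

theorem perm3_center : ∀ σ : Equiv.Perm (Fin 3), (∀ τ, σ * τ = τ * σ) → σ = 1 := by decide

section quotient

variable {Y : Type*} [Group Y] [Finite Y] {E : Set Y}

/-- Type M(23): what is used about a subgroup of order 13. -/
theorem quot (hD : Cfsg.IsThreeTranspositionGroup E) (hv : E.ncard = 31671) {Z : Subgroup Y}
    (hZ : Nat.card ↥Z = 13) {F : Subgroup Y} (hF : Nat.card ↥F = 78)
    (hFC : F ⊓ centralizer (Z : Set Y) = Z)
    (hFE : F ⊓ closure (E ∩ (centralizer (Z : Set Y) : Set Y)) = ⊥)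
    (hcomm : ∀ x ∈ F, ∀ y ∈ closure (E ∩ (centralizer (Z : Set Y) : Set Y)), x * y = y * x)
    (hsup : F ⊔ closure (E ∩ (centralizer (Z : Set Y) : Set Y)) = normalizer (Z : Set Y))
    (hiso : Nonempty (↥(closure (E ∩ (centralizer (Z : Set Y) : Set Y))) ≃* Equiv.Perm (Fin 3))) :
    (fixSet E Z).ncard = 3 ∧ (∀ x ∈ fixSet E Z, ∀ y ∈ fixSet E Z, x ≠ y → ¬ Commute x y) ∧
      Nat.card ↥(normalizer (Z : Set Y)) = 468 ∧
      ∀ c : Y, (∀ x ∈ Z, Commute x c) → (∀ y ∈ fixSet E Z, Commute y c) → c ∈ Z := by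
  classical
  haveI : Fact (Nat.Prime 13) := ⟨by norm_num⟩
  obtain ⟨φ⟩ := hiso
  set A := closure (E ∩ (centralizer (Z : Set Y) : Set Y)) with hA
  have hsub : ∀ x : ↥(fixSet E Z), (x : Y) ∈ A := fun x => subset_closure x.2
  have hinv : ∀ x : ↥(fixSet E Z), φ ⟨x, hsub x⟩ * φ ⟨x, hsub x⟩ = 1 ∧ φ ⟨x, hsub x⟩ ≠ 1 := fun x => by
    refine ⟨?_, fun h => ?_⟩
    · rw [← map_mul, ← map_one φ]
      exact congrArg φ (Subtype.ext (ThreeTrans.mul_self hD.1 x.2.1))
    · exact ThreeTrans.ne_one hD.1 x.2.1 (congrArg Subtype.val ((map_eq_one_iff φ φ.injective).mp h))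
  let f : ↥(fixSet E Z) →
      ↥((Finset.univ.filter fun σ : Equiv.Perm (Fin 3) => σ * σ = 1 ∧ σ ≠ 1)) :=
    fun x => ⟨φ ⟨x, hsub x⟩, Finset.mem_filter.mpr ⟨Finset.mem_univ _, hinv x⟩⟩
  have hf : Function.Injective f := fun x y h =>
    Subtype.ext (congrArg (fun z : ↥A => (z : Y)) (φ.injective (congrArg Subtype.val h)) :)
  have hle : (fixSet E Z).ncard ≤ 3 := by
    have := Nat.card_le_card_of_injective f hf
    rwa [Nat.card_coe_set_eq, Nat.card_eq_fintype_card, Fintype.card_coe, perm3_involutions] at this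
  have hmod := ThreeTransM23Thirteen58.modEq_fixed (D := E) hZ hD.2.1
  rw [hv] at hmod
  have h3 : (fixSet E Z).ncard = 3 := by
    have h := hmod
    unfold Nat.ModEq at h
    omega
  refine ⟨h3, fun x hx y hy hne hc => hne ?_, ?_, fun c hc1 hc2 => ?_⟩
  · exact congrArg Subtype.val (hf (a₁ := ⟨x, hx⟩) (a₂ := ⟨y, hy⟩) (Subtype.ext
      (perm3_commute _ _ ⟨(hinv ⟨x, hx⟩).1, (hinv ⟨x, hx⟩).2, (hinv ⟨y, hy⟩).1, (hinv ⟨y, hy⟩).2,
        ((show Commute (⟨x, hsub ⟨x, hx⟩⟩ : ↥A) ⟨y, hsub ⟨y, hy⟩⟩ from Subtype.ext hc).map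
          φ.toMonoidHom).eq⟩)))
  · let ψ := MonoidHom.noncommCoprod F.subtype A.subtype fun u v => hcomm u u.2 v v.2
    have hψ : Function.Injective ψ := (injective_iff_map_eq_one ψ).mpr fun p hp => by
      have hp' : (p.1 : Y) * (p.2 : Y) = 1 := hp
      have hm : (p.1 : Y) ∈ F ⊓ A :=
        Subgroup.mem_inf.mpr ⟨p.1.2, (eq_inv_of_mul_eq_one_left hp').symm ▸ A.inv_mem p.2.2⟩
      rw [hFE, mem_bot] at hm
      rw [hm, one_mul] at hp'
      exact Prod.ext (Subtype.ext hm) (Subtype.ext hp')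
    rw [← hsup, show F ⊔ A = ψ.range from
        ((MonoidHom.noncommCoprod_range _ _ _).trans (by rw [range_subtype, range_subtype])).symm,
      ← Nat.card_congr (MonoidHom.ofInjective hψ).toEquiv, Nat.card_prod, hF,
      Nat.card_congr φ.toEquiv, Nat.card_perm, Nat.card_eq_fintype_card, Fintype.card_fin]
    rfl
  · have hcN : c ∈ normalizer (Z : Set Y) :=
      centralizer_le_normalizer (Z : Set Y) (mem_centralizer_iff.mpr hc1)
    rw [← hsup] at hcN
    have hnorm : A ≤ centralizer (F : Set Y) := fun y hy =>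
      mem_centralizer_iff.mpr fun x hx => hcomm x hx y hy
    obtain ⟨u, hu, v, hv', rfl⟩ : ∃ u ∈ F, ∃ v ∈ A, u * v = c := by
      rw [show F ⊔ A = (MonoidHom.noncommCoprod F.subtype A.subtype
          fun u v => hcomm u u.2 v v.2).range from
        ((MonoidHom.noncommCoprod_range _ _ _).trans (by rw [range_subtype, range_subtype])).symm] at hcN
      obtain ⟨⟨u, v⟩, h⟩ := hcN
      exact ⟨u, u.2, v, v.2, h⟩
    have hv1 : φ ⟨v, hv'⟩ = 1 := by
      refine perm3_center _ fun τ => ?_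
      obtain ⟨t, rfl⟩ := φ.surjective τ
      have hle' : A ≤ centralizer ({v} : Set Y) := (closure_le _).mpr fun y hy => by
        refine mem_centralizer_singleton_iff.mpr ?_
        have h1 : Commute y (u * v) := hc2 y hy
        have h2 : Commute y u := (hcomm u hu y (subset_closure hy)).symm
        have := h2.inv_right.mul_right h1
        rw [inv_mul_cancel_left] at this
        exact this.eq
      rw [← map_mul, ← map_mul]
      exact congrArg φ (Subtype.ext (mem_centralizer_singleton_iff.mp (hle' t.2)).symm)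
    have hv2 : v = 1 := congrArg Subtype.val ((map_eq_one_iff φ φ.injective).mp hv1)
    rw [hv2, mul_one] at hc1 ⊢
    exact hFC.le ⟨hu, mem_centralizer_iff.mpr hc1⟩

end quotient

variable {G : Type*} [Group G] [Finite G] {D : Set G}

/-- The presented group is every group of type M(22). -/
def Fi22Unique.{u} : Prop :=
  ∀ (Y : Type u) [Group Y] [Finite Y] (E : Set Y), Cfsg.IsThreeTranspositionGroup E →
    Cfsg.IsPrimitiveUnderConj E → Cfsg.IsOfTypeM22 Y E →
      Nonempty (CosetCertPres.Pres.Grp CosetCertFi22UData.pres ≃* Y)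

universe w

variable {G : Type w} [Group G] [Finite G] {D : Set G} (hiso : Fi22Unique.{w})
include hiso

/-- The local facts at a member. -/
theorem local13 {d : G} (H : Hyp D d) {B : Subgroup G} (hB : Nat.card ↥B = 13)
    (hd : d ∈ fixSet D B) : Local13 D d B := by
  classical
  have L := ThreeTransM24Glue65.loc_of_hyp H
  have O : ThreeTransLocLift65.Odd D d B 13 :=
    ⟨L, H.ts, H.mem, ThreeTrans.ne_one H.grp.1 H.mem, fun x hx => (mem_fixSet.mp hd).2 x hx,
      by norm_num, by norm_num, hB⟩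
  have hall := ThreeTransM23Cent59.ctx_all H.qgrp H.qprim H.q23
  obtain ⟨F, hF, -, hFC, hFE, hcomm, hsup, hS⟩ :=
    (ThreeTransM23Normal58.thirteen H.qgrp H.qprim H.q23
      fun s hs => hiso _ (imgSet (imgSet D d) s) (hall s hs).qgrp (hall s hs).qprim (hall s hs).q22).2
      (bar D d B) O.card_bar
  obtain ⟨s, hs⟩ := H.quot_ctx
  obtain ⟨q3, qind, qN, qc⟩ := quot H.qgrp
    (ThreeTransM23Order34.card_D hs (ThreeTransM23Cent59.centralizer_eq hs)) O.card_bar hF hFC hFE
    hcomm hsup hS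
  have hfix : ∀ p ∈ near D d, (p ∈ fixSet D B ↔ im D d p ∈ fixSet (imgSet D d) (bar D d B)) := by
    intro p hp
    constructor
    · exact fun h => ⟨H.im_mem hp, (O.near_comm_iff hp).mp h.2⟩
    · exact fun h => ⟨hp.1, (O.near_comm_iff hp).mpr h.2⟩
  have himg : im D d '' nf D B d = fixSet (imgSet D d) (bar D d B) := by
    ext y
    constructor
    · rintro ⟨p, hp, rfl⟩
      exact (hfix p hp.2).mp hp.1
    · intro hy
      obtain ⟨p, hp, rfl⟩ := H.surj_img hy.1
      exact ⟨p, ⟨(hfix p hp).mpr hy, hp⟩, rfl⟩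
  refine ⟨?_, fun x hx y hy hne hc => ?_, fun c hc hcd hcn => ?_, ?_⟩
  · rw [← q3, ← himg, Set.ncard_image_of_injOn fun p hp q hq e => H.inj hp.2 hq.2 e]
  · exact qind _ ((hfix x hx.2).mp hx.1) _ ((hfix y hy.2).mp hy.1)
      (fun e => hne (H.inj hx.2 hy.2 e)) ((H.comm_iff hx.2 hy.2).mpr hc)
  · have hcl : c ∈ loc D d := L.mem hcd
    have h1 : im D d c ∈ bar D d B := by
      refine qc _ (fun y hy => ?_) fun y hy => ?_
      · exact mem_centralizer_iff.mp (O.im_mem_centralizer hcl (mem_centralizer_iff.mpr hc)) y hy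
      · rw [← himg] at hy
        obtain ⟨p, hp, rfl⟩ := hy
        show _ = _
        rw [← ThreeTransLocLift65.im_mul (near_le_loc hp.2) hcl,
          ← ThreeTransLocLift65.im_mul hcl (near_le_loc hp.2), (hcn p hp).eq]
    obtain ⟨x, hx, e⟩ := (ThreeTransLocLift65.mem_bar O.le_loc).mp h1
    rcases L.im_eq_iff hcl (O.le_loc hx) e.symm with h | h
    · exact Or.inl (h ▸ hx)
    · exact Or.inr (by rw [h, mul_assoc, H.ts.sq d H.mem, mul_one]; exact hx)
  · rw [H.cent, inf_comm]
    have hN : (normalizer (B : Set G)).subgroupOf (loc D d) =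
        (normalizer (bar D d B : Set (↥(loc D d) ⧸ Subgroup.center ↥(loc D d)))).comap
          (QuotientGroup.mk' (Subgroup.center ↥(loc D d))) := by
      ext x
      rw [mem_subgroupOf, Subgroup.mem_comap, O.mem_normalizer_iff x.2, im_eq x.2]
      exact Iff.rfl
    rw [← Nat.card_congr (subgroupOfEquivOfLe
        (inf_le_left : loc D d ⊓ normalizer (B : Set G) ≤ loc D d)).toEquiv,
      Subgroup.inf_subgroupOf_left, hN]
    set M := normalizer (bar D d B : Set (↥(loc D d) ⧸ Subgroup.center ↥(loc D d))) with hM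
    have h1 := (M.comap (QuotientGroup.mk' (Subgroup.center ↥(loc D d)))).card_mul_index
    rw [Subgroup.index_comap_of_surjective M (QuotientGroup.mk'_surjective _),
      card_eq_card_quotient_mul_card_subgroup (Subgroup.center ↥(loc D d)), H.card_centre,
      ← M.card_mul_index, qN, mul_right_comm] at h1
    exact Nat.eq_of_mul_eq_mul_right (Nat.pos_of_ne_zero FiniteIndex.index_ne_zero) h1

/-- The conclusion in type M(24), given four members whose centralizer contains order 13. -/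
theorem thirteen (hyp : ∀ e ∈ D, Hyp D e) {a b c d : G} (Q : Quad D a b c d) {T K : Subgroup G}
    (hT : T = closure ({a, b, c, d} : Set G)) (hK : K = centralizer (T : Set G)) :
    (∀ X Y : Subgroup G, Nat.card X = 13 → Nat.card Y = 13 →
      ∃ g : G, X.map (MulAut.conj g).toMonoidHom = Y) ∧
    ∀ B : Subgroup G, B ≤ K → Nat.card B = 13 →
      normalizer (B : Set G) ≤ normalizer (K : Set G) ∧
        Nat.card ↥(K ⊓ normalizer (B : Set G)) = 78 ∧ K ⊓ centralizer (B : Set G) = B ∧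
        (((K ⊓ normalizer (B : Set G)) ⊔ T).subgroupOf (normalizer (B : Set G))).index = 2 := by
  have H := hyp a Q.ma
  have hG := ThreeTransM24Order59.card_G H
  have hsyl : ¬ 13 ^ 2 ∣ Nat.card G := by rw [hG]; norm_num
  have ht := H.ts
  refine ⟨fun X Y hX hY => ?_, fun B hBK hB => ?_⟩
  · haveI : Fact (Nat.Prime 13) := ⟨by norm_num⟩
    have hexp : (Nat.card G).factorization 13 = 1 := by
      have h0 : Nat.card G ≠ 0 := Nat.card_pos.ne'
      have hp : Nat.Prime 13 := by norm_num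
      have h1 := (hp.dvd_iff_one_le_factorization h0).mp (hX ▸ card_subgroup_dvd_card X)
      have h2 : ¬ 2 ≤ (Nat.card G).factorization 13 := fun h =>
        hsyl ((hp.pow_dvd_iff_le_factorization h0).mpr h)
      omega
    let P : Sylow 13 G := Sylow.ofCard X (by rw [hexp, pow_one, hX])
    let R : Sylow 13 G := Sylow.ofCard Y (by rw [hexp, pow_one, hY])
    obtain ⟨g, hg⟩ := MulAction.exists_smul_eq G P R
    exact ⟨g, congrArg (fun S : Sylow 13 G => (S : Subgroup G)) hg⟩
  · refine main ht Q hB (fun x hx => mem_centralizer_iff.mpr fun y hy => ?_)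
      (fun e he => local13 hiso (hyp e he.1) hB he) hsyl ?_ hT hK hBK
    · have h1 : y ∈ centralizer (T : Set G) := hK ▸ hBK hy
      exact (mem_centralizer_iff.mp h1 x (hT ▸ subset_closure hx)).symm
    -- two commuting members are exchanged
    obtain ⟨g₁, hg₁⟩ := H.prim.1 a Q.ma b Q.mb
    have Hb := hyp b Q.mb
    have hne : a ≠ b := fun e => Q.hbc (e ▸ Q.hac)
    have hb' : g₁ * b * g₁⁻¹ ∈ near D b := by
      refine ⟨ht.conj g₁ b Q.mb, fun e => hne (mul_left_cancel (mul_right_cancel (hg₁.trans e.symm))), ?_⟩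
      have := (Commute.conj_iff g₁).mpr Q.hab
      rwa [hg₁] at this
    have ha' : a ∈ near D b := ⟨Q.ma, hne, Q.hab.symm⟩
    obtain ⟨k, hk⟩ := Hb.qprim.1 _ (Hb.im_mem hb') _ (Hb.im_mem ha')
    obtain ⟨k, hkl, rfl⟩ := ThreeTransLocLift65.im_surj k
    have hkb : k * b * k⁻¹ = b := mul_inv_eq_iff_eq_mul.mpr (commute_d_of_mem_loc hkl).symm.eq
    rw [← ThreeTransLocLift65.im_conj hkl (near_le_loc hb')] at hk
    have hk' := Hb.inj (near_conj ht (commute_d_of_mem_loc hkl).symm hb') ha' hk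
    refine ⟨k * g₁, ?_, ?_⟩
    · rw [show k * g₁ * a * (k * g₁)⁻¹ = k * (g₁ * a * g₁⁻¹) * k⁻¹ by group, hg₁, hkb]
    · rw [show k * g₁ * b * (k * g₁)⁻¹ = k * (g₁ * b * g₁⁻¹) * k⁻¹ by group, hk']

end Cfsg.Agent.ThreeTransM24ThirteenLocal61
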