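import Cfsg.Agent.Lib.ThreeTransM24Inner39
import Cfsg.Agent.Lib.AutPSU52Api
import Cfsg.Agent.S5468

/-!
# The centralizer of a product of three commuting members in type M(24)
-/

set_option autoImplicit false
set_option linter.unusedSectionVars false

namespace Cfsg.Agent.ThreeTransM24Triple39

open Subgroup Cfsg.Agent.ThreeTransRel Cfsg.Agent.ThreeTransDescent
open Cfsg.Agent.ThreeTransM24Order59 (Hyp)
open Cfsg.Agent.ThreeTransM24Inner39

variable {G : Type*} [Group G] [Finite G] {D : Set G}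

variable {d₁ d₂ d₃ : G} (hyp : ∀ s ∈ D, Hyp D s) (hL : Even D)
  (h₁ : d₁ ∈ D) (h₂ : d₂ ∈ D) (h₃ : d₃ ∈ D) (h12 : d₁ ≠ d₂) (h13 : d₁ ≠ d₃) (h23 : d₂ ≠ d₃)
  (c12 : Commute d₁ d₂) (c13 : Commute d₁ d₃) (c23 : Commute d₂ d₃)

theorem mem_triple {a b c g : G} :
    g ∈ centralizer ({a, b, c} : Set G) ↔ Commute g a ∧ Commute g b ∧ Commute g c := by
  rw [mem_centralizer_iff]
  refine ⟨fun h => ⟨(h a (by simp)).symm, (h b (by simp)).symm, (h c (by simp)).symm⟩, ?_⟩
  rintro ⟨e1, e2, e3⟩ y (rfl | rfl | rfl)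
  exacts [e1.symm, e2.symm, e3.symm]

theorem mem_pair {a b g : G} :
    g ∈ centralizer ({a, b} : Set G) ↔ Commute g a ∧ Commute g b :=
  ThreeTransM23Pair34.mem_joint

include hyp hL h₁ h₂ h₃ h12 h13 h23 c12 c13 c23

/-- The joint centralizer in the derived group is the joint centralizer in the quotient. -/
theorem exists_iso :
    ∃ e : ↥(commutator G ⊓ centralizer ({d₁, d₂, d₃} : Set G)) ≃*
        ↥(centralizer ({im D d₁ d₂, im D d₁ d₃} : Set (↥(loc D d₁) ⧸ Subgroup.center ↥(loc D d₁)))),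
      ∀ x, (e x : ↥(loc D d₁) ⧸ Subgroup.center ↥(loc D d₁)) = im D d₁ (x : G) := by
  have H := hyp d₁ h₁
  have hb : d₂ ∈ near D d₁ := ⟨h₂, h12.symm, c12⟩
  have hc : d₃ ∈ near D d₁ := ⟨h₃, h13.symm, c13⟩
  have hle : commutator G ⊓ centralizer ({d₁, d₂, d₃} : Set G) ≤
      commutator G ⊓ centralizer ({d₁} : Set G) :=
    inf_le_inf_left _ (centralizer_le (by simp))
  let f := (θ H).comp (Subgroup.inclusion hle)
  have hf : ∀ x, f x = im D d₁ (x : G) := fun x => θ_apply H (Subgroup.inclusion hle x)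
  have hmem : ∀ x, f x ∈ centralizer ({im D d₁ d₂, im D d₁ d₃} : Set _) := fun x => by
    obtain ⟨e1, e2, e3⟩ := mem_triple.mp x.2.2
    rw [hf]
    exact mem_pair.mpr ⟨(commute_iff H e1 hb).mpr e2, (commute_iff H e1 hc).mpr e3⟩
  refine ⟨MulEquiv.ofBijective (f.codRestrict _ hmem) ⟨fun x y h => ?_, fun y => ?_⟩, hf⟩
  · exact Subgroup.inclusion_injective hle (θ_injective H hL (congrArg Subtype.val h))
  · obtain ⟨x, hx⟩ := lift H hL (y : ↥(loc D d₁) ⧸ Subgroup.center ↥(loc D d₁))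
    have e1 : Commute (x : G) d₁ := mem_centralizer_singleton_iff.mp x.2.2
    have hy := y.2
    rw [← hx, θ_apply H, mem_pair] at hy
    exact ⟨⟨x, x.2.1, mem_triple.mpr ⟨e1, (commute_iff H e1 hb).mp hy.1, (commute_iff H e1 hc).mp hy.2⟩⟩,
      Subtype.ext hx⟩

/-- The joint centralizer in the derived group is quasisimple over `PSU₆(2)` with centre the four-group. -/
theorem structure_K :
    Cfsg.IsQuasisimple ↥(commutator G ⊓ centralizer ({d₁, d₂, d₃} : Set G)) ∧
      (Subgroup.center ↥(commutator G ⊓ centralizer ({d₁, d₂, d₃} : Set G))).map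
        (commutator G ⊓ centralizer ({d₁, d₂, d₃} : Set G)).subtype =
          closure ({d₁ * d₂, d₁ * d₃} : Set G) ∧
      ∃ (F : Type) (_ : Field F) (_ : Fintype F), Fintype.card F = 4 ∧
        Nonempty (↥(commutator G ⊓ centralizer ({d₁, d₂, d₃} : Set G)) ⧸
          Subgroup.center ↥(commutator G ⊓ centralizer ({d₁, d₂, d₃} : Set G)) ≃* Cfsg.PSU 6 F 2) := by
  classical
  have H := hyp d₁ h₁
  set b := im D d₁ d₂
  set c := im D d₁ d₃
  have hb : d₂ ∈ near D d₁ := ⟨h₂, h12.symm, c12⟩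
  have hc : d₃ ∈ near D d₁ := ⟨h₃, h13.symm, c13⟩
  have hbI := H.im_mem hb
  have hcb : c ∈ near (imgSet D d₁) b :=
    ⟨H.im_mem hc, fun e => h23 (H.inj hc hb e).symm, (H.comm_iff hb hc).mpr c23⟩
  have hctx := ThreeTransM23Cent59.ctx_all H.qgrp H.qprim H.q23
  haveI hn : ((closure ({b, c} : Set _)).subgroupOf (centralizer ({b * c} : Set _))).Normal := by
    refine ⟨fun v hv g => ?_⟩
    have ht := tsys_img H.ts d₁
    set γ := (g : ↥(loc D d₁) ⧸ Subgroup.center ↥(loc D d₁))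
    have hg : γ * (b * c) * γ⁻¹ = b * c :=
      mul_inv_eq_iff_eq_mul.mpr (mem_centralizer_singleton_iff.mp g.2)
    have hl : CList (imgSet D d₁) [b, c] := ⟨fun x hx => by
        simp only [List.mem_cons, List.not_mem_nil, or_false] at hx
        rcases hx with rfl | rfl
        exacts [hbI, hcb.1], by simp [hcb.2.1.symm],
      by simp [hcb.2.2, hcb.2.2.symm]⟩
    have hl' : CList (imgSet D d₁) [γ * b * γ⁻¹, γ * c * γ⁻¹] :=
      ⟨fun x hx => by
        simp only [List.mem_cons, List.not_mem_nil, or_false] at hx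
        rcases hx with rfl | rfl
        exacts [ht.conj γ b hbI, ht.conj γ c hcb.1], by simp [hcb.2.1.symm],
        by simp [(Commute.conj_iff γ).mpr hcb.2.2, (Commute.conj_iff γ).mpr hcb.2.2.symm]⟩
    have hp : [b, c].prod = [γ * b * γ⁻¹, γ * c * γ⁻¹].prod := by
      simp only [List.prod_cons, List.prod_nil, mul_one]
      rw [show γ * b * γ⁻¹ * (γ * c * γ⁻¹) = γ * (b * c) * γ⁻¹ by group, hg]
    have h := ThreeTransPairs.pair_unique ht H.qprim hl rfl hl' rfl hp
    have hle : (closure ({b, c} : Set _)).map (MulAut.conj γ).toMonoidHom ≤ closure {b, c} := by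
      rw [MonoidHom.map_closure, closure_le]
      rintro _ ⟨y, hy, rfl⟩
      refine subset_closure ?_
      have h' : γ * y * γ⁻¹ ∈ ([γ * b * γ⁻¹, γ * c * γ⁻¹] : List _) := by
        rcases hy with rfl | rfl <;> simp
      simpa using (h _).mpr h'
    exact hle ⟨_, hv, rfl⟩
  obtain ⟨-, -, hcent, hq, ⟨F, _, _, hF, ⟨iso⟩⟩, -⟩ := S5468.main hctx hbI hcb
  set K := commutator G ⊓ centralizer ({d₁, d₂, d₃} : Set G)
  set KY := centralizer ({b, c} : Set _)
  obtain ⟨e, he⟩ : ∃ e : ↥K ≃* ↥KY, ∀ x, (e x : ↥(loc D d₁) ⧸ Subgroup.center ↥(loc D d₁)) =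
      im D d₁ (x : G) := exists_iso hyp hL h₁ h₂ h₃ h12 h13 h23 c12 c13 c23
  refine ⟨ComponentsBasic.isQuasisimple_of_mulEquiv e.symm hq, ?_, F, inferInstance, inferInstance,
    hF, ?_⟩
  · have hK12 : d₁ * d₂ ∈ K := ⟨mul_mem_derived hL h₁ h₂, mem_triple.mpr
      ⟨(Commute.refl d₁).mul_left c12.symm, c12.mul_left (Commute.refl d₂),
        c13.mul_left c23⟩⟩
    have hK13 : d₁ * d₃ ∈ K := ⟨mul_mem_derived hL h₁ h₃, mem_triple.mpr
      ⟨(Commute.refl d₁).mul_left c13.symm, c12.mul_left c23.symm,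
        c13.mul_left (Commute.refl d₃)⟩⟩
    let f : ↥K →* ↥(loc D d₁) ⧸ Subgroup.center ↥(loc D d₁) := KY.subtype.comp e.toMonoidHom
    have hfi : Function.Injective f := KY.subtype_injective.comp e.injective
    have hval : ∀ {y : G}, y ∈ near D d₁ → im D d₁ (d₁ * y) = im D d₁ y := fun hy => by
      rw [ThreeTransM24Inner39.im_mul H (ThreeTransM24Sign39.self_mem H) (near_le_loc hy),
        im_self H, one_mul]
    have hfb : f ⟨d₁ * d₂, hK12⟩ = b := by
      show ((e _ : ↥KY) : ↥(loc D d₁) ⧸ Subgroup.center ↥(loc D d₁)) = b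
      rw [he]; exact hval hb
    have hfc : f ⟨d₁ * d₃, hK13⟩ = c := by
      show ((e _ : ↥KY) : ↥(loc D d₁) ⧸ Subgroup.center ↥(loc D d₁)) = c
      rw [he]; exact hval hc
    have hcz : Subgroup.center ↥K = Subgroup.closure ({⟨d₁ * d₂, hK12⟩, ⟨d₁ * d₃, hK13⟩} : Set ↥K) := by
      refine map_injective (f := f) hfi ?_
      rw [MonoidHom.map_closure, Set.image_pair, hfb, hfc, ← hcent, ← Subgroup.map_map]
      congr 1
      ext y
      simp only [mem_map, mem_center_iff]
      constructor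
      · rintro ⟨x, hx, rfl⟩ z
        obtain ⟨w, rfl⟩ := e.surjective z
        show e w * e x = e x * e w
        rw [← map_mul, hx w, map_mul]
      · intro hy
        obtain ⟨x, rfl⟩ := e.surjective y
        exact ⟨x, fun w => e.injective (by rw [map_mul, map_mul, hy]), rfl⟩
    rw [hcz, MonoidHom.map_closure, Set.image_pair]
    rfl
  · refine ⟨(QuotientGroup.congr _ _ e ?_).trans iso⟩
    ext y
    simp only [mem_map, mem_center_iff]
    constructor
    · rintro ⟨x, hx, rfl⟩ z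
      obtain ⟨w, rfl⟩ := e.surjective z
      show e w * e x = e x * e w
      rw [← map_mul, hx w, map_mul]
    · intro hy
      obtain ⟨x, rfl⟩ := e.surjective y
      exact ⟨x, fun w => e.injective (by rw [map_mul, map_mul, hy]), rfl⟩

/-- Elements centralizing the four-group fix the three members. -/
theorem K_eq : commutator G ⊓ centralizer ({d₁, d₂, d₃} : Set G) =
    commutator G ⊓ centralizer (closure ({d₁ * d₂, d₁ * d₃} : Set G) : Set G) := by
  have H := hyp d₁ h₁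
  rw [centralizer_closure]
  ext g
  simp only [mem_inf, mem_triple, mem_pair]
  refine and_congr_right fun _ => ⟨fun ⟨e1, e2, e3⟩ => ⟨e1.mul_right e2, e1.mul_right e3⟩, ?_⟩
  rintro ⟨e2, e3⟩
  have key : ∀ {x y : G}, x ∈ D → y ∈ D → x ≠ y → Commute x y → Commute g (x * y) →
      g * x * g⁻¹ = x ∨ g * x * g⁻¹ = y := by
    intro x y hx hy hne hxy he
    have hl : CList D [x, y] := ⟨by simp [hx, hy], by simp [hne], by simp [hxy, hxy.symm]⟩
    have hl' : CList D [g * x * g⁻¹, g * y * g⁻¹] := ⟨by simp [H.ts.conj g x hx, H.ts.conj g y hy],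
      by simp [hne], by simp [(Commute.conj_iff g).mpr hxy, (Commute.conj_iff g).mpr hxy.symm]⟩
    have hp : [x, y].prod = [g * x * g⁻¹, g * y * g⁻¹].prod := by
      simp only [List.prod_cons, List.prod_nil, mul_one]
      rw [show g * x * g⁻¹ * (g * y * g⁻¹) = g * (x * y) * g⁻¹ by group,
        mul_inv_eq_iff_eq_mul.mpr he.eq]
    have h := (ThreeTransPairs.pair_unique H.ts H.prim hl rfl hl' rfl hp (g * x * g⁻¹)).mpr (by simp)
    simpa using h
  have e1 : Commute g d₁ := by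
    rcases key h₁ h₂ h12 c12 e2 with h | h
    · exact mul_inv_eq_iff_eq_mul.mp h
    rcases key h₁ h₃ h13 c13 e3 with h' | h'
    · exact mul_inv_eq_iff_eq_mul.mp h'
    · exact absurd (h.symm.trans h') h23
  have hrest : ∀ {y : G}, Commute g (d₁ * y) → Commute g y := fun {y} h => by
    have := e1.mul_right h
    rwa [← mul_assoc, H.ts.sq d₁ h₁, one_mul] at this
  exact ⟨e1, hrest e2, hrest e3⟩

/-- The quotient by the joint centralizer is the symmetric group on the three members. -/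
theorem quotient_sym
    (huniq : ∀ (j : G) (l l' : List G),
      (l.Nodup ∧ l.length = 3 ∧ (∀ a ∈ l, a ∈ D) ∧ (∀ a ∈ l, ∀ b ∈ l, Commute a b) ∧ l.prod = j) →
      (l'.Nodup ∧ l'.length = 3 ∧ (∀ a ∈ l', a ∈ D) ∧ (∀ a ∈ l', ∀ b ∈ l', Commute a b) ∧ l'.prod = j) →
        ∀ x : G, x ∈ l ↔ x ∈ l') :
    commutator G ⊓ centralizer ({d₁, d₂, d₃} : Set G) ≤
        commutator G ⊓ centralizer ({d₁ * d₂ * d₃} : Set G) ∧
      ∃ _ : ((commutator G ⊓ centralizer ({d₁, d₂, d₃} : Set G)).subgroupOf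
          (commutator G ⊓ centralizer ({d₁ * d₂ * d₃} : Set G))).Normal,
        Nonempty (↥(commutator G ⊓ centralizer ({d₁ * d₂ * d₃} : Set G)) ⧸
          (commutator G ⊓ centralizer ({d₁, d₂, d₃} : Set G)).subgroupOf
            (commutator G ⊓ centralizer ({d₁ * d₂ * d₃} : Set G)) ≃* Equiv.Perm (Fin 3)) := by
  classical
  have ht := (hyp d₁ h₁).ts
  set v : Fin 3 → G := ![d₁, d₂, d₃] with hv
  set K := commutator G ⊓ centralizer ({d₁, d₂, d₃} : Set G)
  set C := commutator G ⊓ centralizer ({d₁ * d₂ * d₃} : Set G)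
  have hinj : Function.Injective v := by
    intro i j
    fin_cases i <;> fin_cases j <;> simp [hv, h12, h12.symm, h13, h13.symm, h23, h23.symm]
  have hmemD : ∀ i, v i ∈ D := by intro i; fin_cases i <;> assumption
  have hcomm : ∀ i j, Commute (v i) (v j) := by
    intro i j
    fin_cases i <;> fin_cases j <;>
      first | exact Commute.refl _ | assumption | exact Commute.symm (by assumption)
  have hKC : K ≤ C := fun g hg => by
    obtain ⟨e1, e2, e3⟩ := mem_triple.mp hg.2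
    exact ⟨hg.1, mem_centralizer_singleton_iff.mpr ((e1.mul_right e2).mul_right e3).eq⟩
  have hKiff : ∀ g, g ∈ centralizer ({d₁, d₂, d₃} : Set G) ↔ ∀ i, g * v i * g⁻¹ = v i := fun g => by
    simp only [mem_triple, Fin.forall_fin_succ, hv, mul_inv_eq_iff_eq_mul]
    exact ⟨fun ⟨e1, e2, e3⟩ => ⟨e1.eq, e2.eq, e3.eq, fun i => i.elim0⟩,
      fun ⟨e1, e2, e3, _⟩ => ⟨e1, e2, e3⟩⟩
  refine ⟨hKC, ?_⟩
  have hex : ∀ g : ↥C, ∀ i, ∃ j, v j = (g : G) * v i * (g : G)⁻¹ := by
    intro g i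
    have hg : (g : G) * (d₁ * d₂ * d₃) * (g : G)⁻¹ = d₁ * d₂ * d₃ :=
      mul_inv_eq_iff_eq_mul.mpr (mem_centralizer_singleton_iff.mp g.2.2)
    have hset := huniq (d₁ * d₂ * d₃) (List.ofFn v)
      (List.ofFn fun i => (g : G) * v i * (g : G)⁻¹)
      ⟨List.nodup_ofFn.mpr hinj, List.length_ofFn,
        fun x hx => by obtain ⟨i, rfl⟩ := List.mem_ofFn.mp hx; exact hmemD i,
        fun x hx y hy => by
          obtain ⟨i, rfl⟩ := List.mem_ofFn.mp hx
          obtain ⟨j, rfl⟩ := List.mem_ofFn.mp hy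
          exact hcomm i j,
        by simp [List.ofFn_succ, hv, mul_assoc]⟩
      ⟨List.nodup_ofFn.mpr fun i j e => hinj (mul_left_cancel (mul_right_cancel e)),
        List.length_ofFn,
        fun x hx => by obtain ⟨i, rfl⟩ := List.mem_ofFn.mp hx; exact ht.conj g _ (hmemD i),
        fun x hx y hy => by
          obtain ⟨i, rfl⟩ := List.mem_ofFn.mp hx
          obtain ⟨j, rfl⟩ := List.mem_ofFn.mp hy
          exact (Commute.conj_iff (g : G)).mpr (hcomm i j),
        by simpa [List.ofFn_succ, hv, mul_assoc] using hg⟩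
      ((g : G) * v i * (g : G)⁻¹)
    exact List.mem_ofFn.mp (hset.mpr (List.mem_ofFn.mpr ⟨i, rfl⟩))
  choose σ hσ using hex
  have hσmul : ∀ g h : ↥C, ∀ i, σ (g * h) i = σ g (σ h i) := fun g h i => hinj (by
    rw [hσ, hσ, hσ, Subgroup.coe_mul]; group)
  have hσone : ∀ i, σ 1 i = i := fun i => hinj (by rw [hσ, Subgroup.coe_one]; group)
  let ψ : ↥C →* Equiv.Perm (Fin 3) :=
    { toFun := fun g => ⟨σ g, σ g⁻¹, fun i => by rw [← hσmul, inv_mul_cancel, hσone],
        fun i => by rw [← hσmul, mul_inv_cancel, hσone]⟩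
      map_one' := Equiv.ext hσone
      map_mul' := fun g h => Equiv.ext (hσmul g h) }
  have hker : K.subgroupOf C = ψ.ker := by
    ext g
    rw [Subgroup.mem_subgroupOf, mem_inf, hKiff, MonoidHom.mem_ker, Equiv.ext_iff,
      and_iff_right (show (g : G) ∈ commutator G from g.2.1)]
    refine forall_congr' fun i => ?_
    constructor
    · intro h; exact hinj ((hσ g i).trans h)
    · intro h
      have : σ g i = i := h
      rw [← hσ g i, this]
  have hswap : ∀ i j k : Fin 3, i ≠ j → i ≠ k → j ≠ k → Equiv.swap i j ∈ ψ.range := by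
    intro i j k hij hik hjk
    obtain ⟨g, hgL, g1, g2, g3⟩ := ThreeTransM24Inner39.exists_swap (hyp (v k) (hmemD k)) hL
      (b := v i) (c := v j) ⟨hmemD i, hinj.ne hik, hcomm k i⟩ ⟨hmemD j, hinj.ne hjk, hcomm k j⟩
      (hinj.ne hij) (hcomm i j)
    have hcov : ∀ m : Fin 3, m = i ∨ m = j ∨ m = k :=
      (show ∀ i j k : Fin 3, i ≠ j → i ≠ k → j ≠ k → ∀ m, m = i ∨ m = j ∨ m = k by decide) i j k hij hik hjk
    let τ := Equiv.swap i j
    have hτ : ∀ m, g * v m * g⁻¹ = v (τ m) := by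
      intro m
      rcases hcov m with rfl | rfl | rfl
      · rw [g1, Equiv.swap_apply_left]
      · rw [g2, Equiv.swap_apply_right]
      · rw [g3, Equiv.swap_apply_of_ne_of_ne hik.symm hjk.symm]
    have e : [v (τ 0), v (τ 1), v (τ 2)].prod = [v 0, v 1, v 2].prod := by
      have := (τ.map_finRange_perm).map v
      refine List.Perm.prod_eq' (by simpa [List.finRange_succ] using this) ?_
      exact List.pairwise_of_forall_mem_list fun x hx y hy => by
        simp only [List.mem_cons, List.not_mem_nil, or_false] at hx hy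
        rcases hx with rfl | rfl | rfl <;> rcases hy with rfl | rfl | rfl <;> exact hcomm _ _
    have hgC : g ∈ C := by
      refine ⟨hgL, mem_centralizer_singleton_iff.mpr (mul_inv_eq_iff_eq_mul.mp ?_)⟩
      rw [show g * (d₁ * d₂ * d₃) * g⁻¹ = (g * v 0 * g⁻¹) * (g * v 1 * g⁻¹) * (g * v 2 * g⁻¹) by
        show _ = (g * d₁ * g⁻¹) * (g * d₂ * g⁻¹) * (g * d₃ * g⁻¹); group, hτ, hτ, hτ]
      simpa [hv, mul_assoc] using e
    exact ⟨⟨g, hgC⟩, Equiv.ext fun m => hinj ((hσ _ m).trans (hτ m))⟩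
  have hsurj : Function.Surjective ψ := by
    rw [← MonoidHom.range_eq_top, eq_top_iff, ← Equiv.Perm.closure_isSwap, Subgroup.closure_le]
    rintro τ ⟨i, j, hij, rfl⟩
    obtain ⟨k, hik, hjk⟩ : ∃ k : Fin 3, i ≠ k ∧ j ≠ k := by
      revert i j; decide
    exact hswap i j k hij hik hjk
  haveI hn : (K.subgroupOf C).Normal := hker ▸ ψ.normal_ker
  exact ⟨hn, ⟨(QuotientGroup.quotientMulEquivOfEq hker).trans
    (QuotientGroup.quotientKerEquivOfSurjective ψ hsurj)⟩⟩

omit hyp hL h₁ h₂ h₃ h12 h13 h23 c12 c13 c23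

/-- A group with a normal quasisimple `PSU₆(2)`-cover of index six containing its centralizer. -/
theorem aut_of_index_six {C : Type*} [Group C] [Finite C] (K E : Subgroup C) [hKn : K.Normal]
    [hEn : E.Normal] (hEK : E ≤ K) (hq : Cfsg.IsQuasisimple ↥K)
    (hE : E = K ⊓ centralizer (K : Set C)) (hcK : centralizer (K : Set C) ≤ K)
    (hidx : K.index = 6) {F : Type} [Field F] [Fintype F] (hF : Fintype.card F = 4)
    (iso : ↥K ⧸ E.subgroupOf K ≃* Cfsg.PSU 6 F 2) :
    Nonempty (C ⧸ E ≃* MulAut (Cfsg.PSU 6 F 2)) := by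
  classical
  set π := QuotientGroup.mk' E with hπ
  set Kb := K.map π with hKb
  haveI : Kb.Normal := Normal.map hKn π (QuotientGroup.mk'_surjective E)
  let g : ↥K →* ↥Kb := (π.comp K.subtype).codRestrict Kb fun x => mem_map_of_mem π x.2
  have hgs : Function.Surjective g := by
    rintro ⟨_, x, hx, rfl⟩; exact ⟨⟨x, hx⟩, rfl⟩
  have hgk : g.ker = E.subgroupOf K := by
    ext x
    rw [MonoidHom.mem_ker, mem_subgroupOf, ← QuotientGroup.eq_one_iff (N := E)]
    exact Subtype.ext_iff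
  let eKb : ↥Kb ≃* Cfsg.PSU 6 F 2 :=
    ((QuotientGroup.quotientMulEquivOfEq hgk.symm).trans
      (QuotientGroup.quotientKerEquivOfSurjective g hgs)).symm.trans iso
  let Φ : C ⧸ E →* MulAut (Cfsg.PSU 6 F 2) :=
    (MulAut.congr eKb).toMonoidHom.comp (MulAut.conjNormal (H := Kb))
  have hinj : Function.Injective Φ := by
    rw [injective_iff_map_eq_one]
    intro y hy
    obtain ⟨x, rfl⟩ := QuotientGroup.mk'_surjective E y
    have h1 : MulAut.conjNormal (H := Kb) (π x) = 1 := (MulAut.congr eKb).injective (by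
      rw [map_one]; exact hy)
    have hxk : ∀ k ∈ K, x * k * x⁻¹ * k⁻¹ ∈ E := by
      intro k hk
      have h2 := congrArg (fun φ : MulAut ↥Kb => ((φ ⟨π k, mem_map_of_mem π hk⟩ : ↥Kb) : C ⧸ E)) h1
      simp only [MulAut.conjNormal_apply, MulAut.one_apply] at h2
      refine (QuotientGroup.eq_one_iff _).mp ?_
      show π (x * k * x⁻¹ * k⁻¹) = 1
      rw [map_mul, map_mul, map_mul, map_inv, map_inv, h2, mul_inv_cancel]
    have hEc : ∀ v ∈ E, v ∈ K ∧ ∀ k ∈ K, k * v = v * k := fun v hv => by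
      rw [hE] at hv
      exact ⟨hv.1, fun k hk => mem_centralizer_iff.mp hv.2 k hk⟩
    haveI := hq.1
    let f : ↥K →* ↥(Subgroup.center ↥K) := MonoidHom.mk'
      (fun k => ⟨⟨x * k * x⁻¹ * (k : C)⁻¹, hEK (hxk k k.2)⟩,
        mem_center_iff.mpr fun w => Subtype.ext ((hEc _ (hxk k k.2)).2 w w.2)⟩)
      (fun k k' => Subtype.ext (Subtype.ext (by
        show x * ((k : C) * k') * x⁻¹ * ((k : C) * k')⁻¹ =
          (x * k * x⁻¹ * (k : C)⁻¹) * (x * k' * x⁻¹ * (k' : C)⁻¹)
        calc x * ((k : C) * k') * x⁻¹ * ((k : C) * k')⁻¹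
            = (x * k * x⁻¹ * (k : C)⁻¹) * ((k : C) * (x * k' * x⁻¹ * (k' : C)⁻¹) * (k : C)⁻¹) := by group
          _ = _ := by rw [(hEc _ (hxk k' k'.2)).2 k k.2, mul_inv_cancel_right])))
    letI : CommGroup ↥(Subgroup.center ↥K) :=
      { (inferInstance : Group ↥(Subgroup.center ↥K)) with
        mul_comm := fun u w => Subtype.ext (mem_center_iff.mp w.2 u.1) }
    have hxc : x ∈ centralizer (K : Set C) := mem_centralizer_iff.mpr fun k hk => by
      have h2 : commutator ↥K ≤ f.ker := Abelianization.commutator_subset_ker f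
      have h3 := congrArg (fun u : ↥(Subgroup.center ↥K) => ((u : ↥K) : C))
        (MonoidHom.mem_ker.mp (h2 ((Group.IsPerfect.commutator_eq_top (G := ↥K)).ge
          (mem_top ⟨k, hk⟩))))
      change x * k * x⁻¹ * k⁻¹ = 1 at h3
      exact (mul_inv_eq_iff_eq_mul.mp (mul_inv_eq_one.mp h3)).symm
    refine (QuotientGroup.eq_one_iff x).mpr ?_
    rw [hE]
    exact ⟨hcK hxc, hxc⟩
  haveI : Fact (Nat.Prime 2) := ⟨Nat.prime_two⟩
  have hcard : Nat.card (MulAut (Cfsg.PSU 6 F 2)) = 6 * Nat.card (Cfsg.PSU 6 F 2) := by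
    rw [AutPSU52Api.card_mulAut (p := 2) (f := 1) (by norm_num) le_rfl (by rw [hF]; norm_num)
      (by norm_num) (by norm_num)]
    norm_num
  have h1 := card_eq_card_quotient_mul_card_subgroup E
  have h2 := K.card_mul_index
  have h3 : Nat.card ↥K = Nat.card (Cfsg.PSU 6 F 2) * Nat.card ↥E := by
    rw [card_eq_card_quotient_mul_card_subgroup (E.subgroupOf K), Nat.card_congr iso.toEquiv,
      Nat.card_congr (subgroupOfEquivOfLe hEK).toEquiv]
  have hq6 : Nat.card (C ⧸ E) = Nat.card (MulAut (Cfsg.PSU 6 F 2)) := by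
    rw [hidx, h3, h1] at h2
    rw [hcard]
    refine Nat.eq_of_mul_eq_mul_right (Nat.card_pos (α := ↥E)) (h2.symm.trans ?_)
    ring
  exact ⟨MulEquiv.ofBijective Φ ((Nat.bijective_iff_injective_and_card Φ).mpr ⟨hinj, hq6⟩)⟩

end Cfsg.Agent.ThreeTransM24Triple39
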