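import Cfsg.Agent.Lib.ThreeTransReflection

/-!
# Classes of 3-transpositions in the seven-dimensional reflection group over `ZMod 3`

An involution of the group generated by the reflections of one norm, any two conjugates of which
have product of order at most three modulo signs, is a reflection of that norm or its negative.
-/

set_option autoImplicit false
set_option linter.unusedSectionVars false

namespace Cfsg.Agent.ThreeTransReflSeven78

open QuadraticMap Cfsg.Agent.OrthUnitaryQuad Cfsg.Agent.OrthUnitaryRefl Cfsg.Agent.OrthUnitaryOmega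
  Cfsg.Agent.OrthUnitarySimple Cfsg.Agent.OrthUnitaryPrelude Cfsg.Agent.ThreeTransReflection

local notation "K" => ZMod 3

variable {V : Type*} [AddCommGroup V] [Module K V] [FiniteDimensional K V]
  {Q : QuadraticForm K V}

theorem three_cases : ∀ a : K, a = 0 ∨ a = 1 ∨ a = 2 := by decide

theorem sq_one : ∀ a : K, a ≠ 0 → a * a = 1 := by decide

theorem polar_ne {v : V} (hv : Q v ≠ 0) : polar Q v v ≠ 0 := by
  rw [polar_self_mul]; exact mul_ne_zero zmod3_two_ne_zero hv

/-- `Q` is non-degenerate on a subspace. -/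
def RegOn (Q : QuadraticForm K V) (S : Submodule K V) : Prop :=
  ∀ x ∈ S, (∀ y ∈ S, polar Q x y = 0) → x = 0

theorem regOn_top (hQ : IsReg Q) : RegOn Q ⊤ := fun x _ h => hQ x (fun y => h y trivial) (by
  have := h x trivial
  rw [polar_self_mul] at this
  exact (mul_eq_zero.1 this).resolve_left zmod3_two_ne_zero)

/-- The part of a subspace orthogonal to a vector. -/
def perp (Q : QuadraticForm K V) (S : Submodule K V) (u : V) : Submodule K V :=
  S ⊓ LinearMap.ker (polarBilin Q u)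

theorem mem_perp {S : Submodule K V} {u x : V} : x ∈ perp Q S u ↔ x ∈ S ∧ polar Q u x = 0 := by
  simp [perp]

theorem regOn_perp {S : Submodule K V} (hS : RegOn Q S) {u : V} (hu : u ∈ S) (hq : Q u ≠ 0) :
    RegOn Q (perp Q S u) := by
  intro x hx h
  obtain ⟨hxS, hux⟩ := mem_perp.1 hx
  refine hS x hxS fun y hy => ?_
  have hy' : y - (polar Q u y / polar Q u u) • u ∈ perp Q S u := by
    refine mem_perp.2 ⟨S.sub_mem hy (S.smul_mem _ hu), ?_⟩
    rw [polar_sub_right, polar_smul_right, smul_eq_mul, div_mul_cancel₀ _ (polar_ne hq), sub_self]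
  have h3 := h _ hy'
  rw [polar_sub_right, polar_smul_right, polar_comm (f := ⇑Q) x u, hux] at h3
  simpa using h3

theorem finrank_perp {S : Submodule K V} {u : V} (hu : u ∈ S) (hq : Q u ≠ 0) :
    Module.finrank K (perp Q S u) + 1 = Module.finrank K S := by
  have hr : LinearMap.range ((polarBilin Q u).comp S.subtype) = ⊤ := by
    refine LinearMap.range_eq_top.2 fun a => ⟨(a / polar Q u u) • (⟨u, hu⟩ : S), ?_⟩
    show polar Q u ((a / polar Q u u) • u) = a
    rw [polar_smul_right, smul_eq_mul, div_mul_cancel₀ _ (polar_ne hq)]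
  have h1 := LinearMap.finrank_range_add_finrank_ker ((polarBilin Q u).comp S.subtype)
  rw [hr, finrank_top, Module.finrank_self] at h1
  have hm : perp Q S u = (LinearMap.ker ((polarBilin Q u).comp S.subtype)).map S.subtype := by
    ext x; simp [mem_perp]; tauto
  rw [hm, Submodule.finrank_map_subtype_eq]
  omega

theorem exists_aniso {S : Submodule K V} (hS : RegOn Q S) (hn : 1 ≤ Module.finrank K S) :
    ∃ u ∈ S, Q u ≠ 0 := by
  by_contra hno
  push Not at hno
  have hb : S = ⊥ := by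
    rw [eq_bot_iff]
    intro x hx
    refine (Submodule.mem_bot K).2 (hS x hx fun y hy => ?_)
    have h1 := hno _ (S.add_mem hx hy)
    rw [QuadraticMap.map_add Q, hno x hx, hno y hy] at h1
    simpa using h1
  rw [hb, finrank_bot] at hn
  omega

/-- A two-dimensional non-degenerate subspace represents both non-zero values. -/
theorem exists_norm {S : Submodule K V} (hS : RegOn Q S) (hn : 2 ≤ Module.finrank K S) {c : K}
    (hc : c ≠ 0) : ∃ u ∈ S, Q u = c := by
  obtain ⟨u, hu, hqu⟩ := exists_aniso hS (by omega)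
  obtain ⟨v, hv, hqv⟩ := exists_aniso (regOn_perp hS hu hqu) (by
    have := finrank_perp (Q := Q) hu hqu; omega)
  obtain ⟨hvS, huv⟩ := mem_perp.1 hv
  by_cases h1 : Q u = c
  · exact ⟨u, hu, h1⟩
  by_cases h2 : Q v = c
  · exact ⟨v, hvS, h2⟩
  refine ⟨u + v, S.add_mem hu hvS, ?_⟩
  rw [QuadraticMap.map_add Q, huv]
  revert h1 h2 hqu hqv hc
  generalize Q u = a
  generalize Q v = b
  revert a b c
  decide

/-! ### Four orthogonal vectors -/

/-- The combination of four vectors with given coefficients. -/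
def comb (e : Fin 4 → V) (t : Fin 4 → K) : V :=
  t 0 • e 0 + t 1 • e 1 + t 2 • e 2 + t 3 • e 3

/-- The diagonal norm. -/
def qn (n t : Fin 4 → K) : K := n 0 * t 0 * t 0 + n 1 * t 1 * t 1 + n 2 * t 2 * t 2 + n 3 * t 3 * t 3

/-- The diagonal polar form. -/
def bn (n t s : Fin 4 → K) : K :=
  2 * (n 0 * t 0 * s 0 + n 1 * t 1 * s 1 + n 2 * t 2 * s 2 + n 3 * t 3 * s 3)

/-- The reflection in coordinates. -/
def rn (n v t : Fin 4 → K) : Fin 4 → K := fun i => t i - qn n v * bn n v t * v i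

/-- The sign change of the first two coordinates. -/
def sg (t : Fin 4 → K) : Fin 4 → K := ![-t 0, -t 1, t 2, t 3]

/-- The product of the involution and its conjugate, in coordinates. -/
def yn (n v w t : Fin 4 → K) : Fin 4 → K := sg (rn n v (rn n w (sg (rn n w (rn n v t)))))

/-- The witness for given norm and first two norms. -/
def wit (c a b : K) : (Fin 4 → K) × (Fin 4 → K) × (Fin 4 → K) :=
  if c = 1 then
    (if a = 1 then (if b = 1 then (![1, 1, 1, 2], ![0, 1, 1, 1], ![1, 0, 1, 2]) else (![1, 2, 1, 1], ![0, 1, 1, 1], ![1, 1, 0, 1]))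
    else (if b = 1 then (![2, 1, 1, 1], ![1, 0, 1, 1], ![1, 1, 0, 1]) else (![2, 2, 1, 2], ![0, 1, 0, 1], ![1, 1, 1, 1])))
  else
    (if a = 1 then (if b = 1 then (![1, 1, 1, 2], ![0, 1, 1, 0], ![1, 1, 1, 1]) else (![1, 2, 1, 1], ![1, 0, 0, 1], ![1, 1, 1, 1]))
    else (if b = 1 then (![2, 1, 1, 1], ![0, 1, 0, 1], ![1, 1, 1, 1]) else (![2, 2, 1, 2], ![0, 1, 1, 1], ![1, 0, 1, 2])))

set_option maxRecDepth 10000 in
theorem wit_spec : ∀ c a b : K, c ≠ 0 → a ≠ 0 → b ≠ 0 →
    let n := (wit c a b).1; let v := (wit c a b).2.1; let w := (wit c a b).2.2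
    (n 0 = a ∧ n 1 = b ∧ n 2 ≠ 0 ∧ n 3 ≠ 0) ∧ qn n v = c ∧ qn n w = c ∧
      yn n v w (yn n v w ![0, 0, 0, 1]) ≠ ![0, 0, 0, 1] ∧
      yn n v w (yn n v w ![0, 0, 0, 1]) ≠ -![0, 0, 0, 1] ∧
      yn n v w (yn n v w (yn n v w ![0, 0, 0, 1])) ≠ ![0, 0, 0, 1] ∧
      yn n v w (yn n v w (yn n v w ![0, 0, 0, 1])) ≠ -![0, 0, 0, 1] := by
  decide +kernel

section four

variable {e : Fin 4 → V} {n : Fin 4 → K}
  (hne : ∀ i, Q (e i) = n i) (hort : ∀ i j, i ≠ j → polar Q (e i) (e j) = 0)
include hne hort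

theorem polar_comb (t s : Fin 4 → K) : polar Q (comb e t) (comb e s) = bn n t s := by
  have hp : ∀ i j, polar Q (e i) (e j) = if i = j then 2 * n i else 0 := fun i j => by
    by_cases h : i = j
    · subst h; rw [if_pos rfl, polar_self_mul, hne]
    · rw [if_neg h, hort i j h]
  simp only [comb, bn, polar_add_left, polar_add_right, polar_smul_left, polar_smul_right,
    smul_eq_mul, hp, Fin.reduceEq, if_false, if_true, reduceIte]
  ring

theorem q_comb (t : Fin 4 → K) : Q (comb e t) = qn n t := by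
  have h := polar_comb hne hort t t
  rw [polar_self_mul] at h
  refine mul_left_cancel₀ zmod3_two_ne_zero (h.trans ?_)
  simp only [bn, qn]

theorem comb_inj (hn : ∀ i, n i ≠ 0) {t s : Fin 4 → K} (h : comb e t = comb e s) : t = s := by
  funext i
  have h1 := polar_comb hne hort t (Pi.single i 1)
  rw [h, polar_comb hne hort] at h1
  have key : ∀ a x y : K, a ≠ 0 → 2 * (a * x * 1) = 2 * (a * y * 1) → x = y := by decide
  refine key (n i) _ _ (hn i) ?_
  fin_cases i <;> simpa [bn, Pi.single_apply] using h1.symm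

theorem refl_comb (v t : Fin 4 → K) (hv : Q (comb e v) ≠ 0) :
    (refl Q (comb e v) hv).1 (comb e t) = comb e (rn n v t) := by
  rw [refl_apply, polar_comb hne hort, q_comb hne hort]
  have hq : (qn n v)⁻¹ = qn n v := inv_eq_of_mul_eq_one_left (sq_one _ (q_comb hne hort v ▸ hv))
  rw [hq]
  simp only [comb, rn, sub_smul, mul_smul, smul_add]
  abel

end four

/-! ### The classification -/

variable {c : K}

/-- An involution with a negated plane and four further fixed dimensions has a conjugate too far away. -/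
theorem false_of_plane (hc : c ≠ 0) {s : orth Q} {U W : Submodule K V}
    (hU : ∀ x ∈ U, s.1 x = -x) (hW : ∀ x ∈ W, s.1 x = x) (hUW : ∀ x ∈ U, ∀ y ∈ W, polar Q x y = 0)
    (hUr : RegOn Q U) (hWr : RegOn Q W) (hUn : 2 ≤ Module.finrank K U) (hWn : 3 ≤ Module.finrank K W)
    (h3 : ∀ v w (hv : Q v = c) (hw : Q w = c), ∀ g, g = refl Q v (hv ▸ hc) * refl Q w (hw ▸ hc) →
      (∀ x, ((s * (g * s * g⁻¹)) ^ 2).1 x = x) ∨ (∀ x, ((s * (g * s * g⁻¹)) ^ 2).1 x = -x) ∨
      (∀ x, ((s * (g * s * g⁻¹)) ^ 3).1 x = x) ∨ (∀ x, ((s * (g * s * g⁻¹)) ^ 3).1 x = -x)) :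
    False := by
  obtain ⟨u1, hu1, hq1⟩ := exists_aniso hUr (by omega)
  obtain ⟨u2, hu2, hq2⟩ := exists_aniso (regOn_perp hUr hu1 hq1) (by
    have := finrank_perp (Q := Q) hu1 hq1; omega)
  obtain ⟨hu2U, hu12⟩ := mem_perp.1 hu2
  obtain ⟨⟨hn0, hn1, hn2, hn3⟩, hv, hw, hy2, hy2', hy3, hy3'⟩ := wit_spec c (Q u1) (Q u2) hc hq1 hq2
  set n := (wit c (Q u1) (Q u2)).1 with hn
  obtain ⟨w1, hw1, hqw1⟩ := exists_norm hWr (by omega) hn2
  have hqw1' : Q w1 ≠ 0 := hqw1 ▸ hn2
  obtain ⟨w2, hw2, hqw2⟩ := exists_norm (regOn_perp hWr hw1 hqw1') (by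
    have := finrank_perp (Q := Q) hw1 hqw1'; omega) hn3
  obtain ⟨hw2W, hw12⟩ := mem_perp.1 hw2
  set e : Fin 4 → V := ![u1, u2, w1, w2] with he
  have hne : ∀ i, Q (e i) = n i := fun i => by fin_cases i <;> simp [e, hn0, hn1, hqw1, hqw2]
  have hort : ∀ i j, i ≠ j → polar Q (e i) (e j) = 0 := by
    intro i j hij
    fin_cases i <;> fin_cases j <;> first
      | exact absurd rfl hij
      | (simp [e, hu12, hw12, hUW u1 hu1 w1 hw1, hUW u1 hu1 w2 hw2W, hUW u2 hu2U w1 hw1,
          hUW u2 hu2U w2 hw2W, polar_comm (f := ⇑Q) u2 u1, polar_comm (f := ⇑Q) w1 u1,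
          polar_comm (f := ⇑Q) w1 u2, polar_comm (f := ⇑Q) w2 u1, polar_comm (f := ⇑Q) w2 u2,
          polar_comm (f := ⇑Q) w2 w1])
  have hnn : ∀ i, n i ≠ 0 := fun i => by fin_cases i <;> simp [hn0, hn1, hn2, hn3, hq1, hq2]
  have hs : ∀ t, s.1 (comb e t) = comb e (sg t) := fun t => by
    simp [comb, e, sg, hU u1 hu1, hU u2 hu2U, hW w1 hw1, hW w2 hw2W]
  set v := (wit c (Q u1) (Q u2)).2.1
  set w := (wit c (Q u1) (Q u2)).2.2
  have hqv : Q (comb e v) = c := (q_comb hne hort v).trans hv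
  have hqw : Q (comb e w) = c := (q_comb hne hort w).trans hw
  set g := refl Q (comb e v) (hqv ▸ hc) * refl Q (comb e w) (hqw ▸ hc) with hg
  have hy : ∀ t, (s * (g * s * g⁻¹)).1 (comb e t) = comb e (yn n v w t) := by
    intro t
    have hgi : g⁻¹ = refl Q (comb e w) (hqw ▸ hc) * refl Q (comb e v) (hqv ▸ hc) := by
      rw [hg, mul_inv_rev, inv_eq_of_mul_eq_one_right (refl_sq _ _),
        inv_eq_of_mul_eq_one_right (refl_sq _ _)]
    rw [hgi, hg]
    simp only [orth_mul_apply, hs, refl_comb hne hort]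
    rfl
  have hneg : ∀ t, -comb e t = comb e (-t) := fun t => by simp [comb, neg_smul]; abel
  rcases h3 _ _ hqv hqw g rfl with h | h | h | h
  · have h' := h (comb e ![0, 0, 0, 1])
    rw [pow_two, orth_mul_apply, hy, hy] at h'
    exact hy2 (comb_inj hne hort hnn h')
  · have h' := h (comb e ![0, 0, 0, 1])
    rw [pow_two, orth_mul_apply, hy, hy, hneg] at h'
    exact hy2' (comb_inj hne hort hnn h')
  · have h' := h (comb e ![0, 0, 0, 1])
    rw [pow_succ, pow_two, orth_mul_apply, hy, orth_mul_apply, hy, hy] at h'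
    exact hy3 (comb_inj hne hort hnn h')
  · have h' := h (comb e ![0, 0, 0, 1])
    rw [pow_succ, pow_two, orth_mul_apply, hy, orth_mul_apply, hy, hy, hneg] at h'
    exact hy3' (comb_inj hne hort hnn h')

/-- Minus the identity. -/
def negOne (Q : QuadraticForm K V) : orth Q :=
  ⟨LinearEquiv.neg K, fun x => QuadraticMap.map_neg Q x⟩

theorem negOne_apply (x : V) : (negOne Q).1 x = -x := rfl

theorem negOne_comm (g : orth Q) : negOne Q * g = g * negOne Q :=
  orth_ext fun x => by simp [orth_mul_apply, negOne_apply]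

theorem negOne_sq : negOne Q * negOne Q = 1 :=
  orth_ext fun x => by simp [orth_mul_apply, negOne_apply]

theorem one_apply' (x : V) : (1 : orth Q).1 x = x := rfl

/-- Fixed and negated vectors of an involution. -/
theorem eigen (hQ : IsReg Q) {s : orth Q} (hs : s * s = 1) :
    let U := LinearMap.eqLocus s.1.toLinearMap (-LinearMap.id)
    let W := LinearMap.eqLocus s.1.toLinearMap LinearMap.id
    RegOn Q U ∧ RegOn Q W ∧ (∀ x ∈ U, ∀ y ∈ W, polar Q x y = 0) ∧
      Module.finrank K U + Module.finrank K W = Module.finrank K V ∧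
      ∀ y, ∃ u ∈ U, ∃ w ∈ W, y = u + w := by
  intro U W
  have hss : ∀ y, s.1 (s.1 y) = y := fun y => by rw [← orth_mul_apply, hs, one_apply']
  have hU : ∀ {x}, x ∈ U ↔ s.1 x = -x := fun {x} => Iff.rfl
  have hW : ∀ {x}, x ∈ W ↔ s.1 x = x := fun {x} => Iff.rfl
  have horth : ∀ x ∈ U, ∀ y ∈ W, polar Q x y = 0 := fun x hx y hy => by
    have h := polar_orth s x y
    rw [hU.1 hx, hW.1 hy, polar_neg_left] at h
    revert h; generalize polar Q x y = t; revert t; decide
  have hsplit : ∀ y, ∃ u ∈ U, ∃ w ∈ W, y = u + w := fun y => by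
    refine ⟨(2 : K) • (y - s.1 y), hU.2 ?_, (2 : K) • (y + s.1 y), hW.2 ?_, ?_⟩
    · rw [map_smul, map_sub, hss, ← smul_neg, neg_sub]
    · rw [map_smul, map_add, hss, add_comm]
    · rw [← smul_add, show (y - s.1 y) + (y + s.1 y) = (2 : K) • y by rw [two_smul]; abel, smul_smul,
        show (2 : K) * 2 = 1 from by decide, one_smul]
  have htop := regOn_top hQ
  refine ⟨fun x hx h => htop x trivial fun y _ => ?_, fun x hx h => htop x trivial fun y _ => ?_,
    horth, Submodule.finrank_add_eq_of_isCompl ⟨?_, ?_⟩, hsplit⟩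
  · obtain ⟨u, hu, w, hw, rfl⟩ := hsplit y
    rw [polar_add_right, h u hu, horth x hx w hw, add_zero]
  · obtain ⟨u, hu, w, hw, rfl⟩ := hsplit y
    rw [polar_add_right, h w hw, polar_comm (f := ⇑Q) x u, horth u hu x hx, add_zero]
  · rw [Submodule.disjoint_def]
    intro x hx hx'
    have h : x = -x := (hW.1 hx').symm.trans (hU.1 hx)
    have h2 : (2 : K) • x = 0 := by rw [two_smul, ← sub_neg_eq_add x x, ← h, sub_self]
    exact (smul_eq_zero.1 h2).resolve_left zmod3_two_ne_zero
  · rw [codisjoint_iff, eq_top_iff]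
    intro y _
    obtain ⟨u, hu, w, hw, rfl⟩ := hsplit y
    exact Submodule.add_mem_sup hu hw

/-- An involution negating one line is a reflection. -/
theorem refl_of_line (hQ : IsReg Q) {s : orth Q} (hs : s * s = 1)
    (h1 : Module.finrank K (LinearMap.eqLocus s.1.toLinearMap (-LinearMap.id)) = 1) :
    ∃ u, ∃ hu : Q u ≠ 0, s = refl Q u hu := by
  obtain ⟨hUr, -, horth, -, hsplit⟩ := eigen hQ hs
  obtain ⟨u, hu, hq⟩ := exists_aniso hUr (le_of_eq h1.symm)
  refine ⟨u, hq, orth_ext fun y => ?_⟩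
  obtain ⟨v, hv, w, hw, rfl⟩ := hsplit y
  obtain ⟨a, ha⟩ := exists_smul_eq_of_finrank_eq_one h1
    (show (⟨u, hu⟩ : LinearMap.eqLocus s.1.toLinearMap (-LinearMap.id)) ≠ 0 from
      fun h => hq (by rw [show u = 0 from congrArg Subtype.val h, QuadraticMap.map_zero]))
    ⟨v, hv⟩
  have ha' : a • u = v := congrArg Subtype.val ha
  have hsv : s.1 v = -v := hv
  have hsw : s.1 w = w := hw
  rw [map_add, map_add, hsv, hsw, refl_apply, refl_apply, polar_comm (f := ⇑Q) u w,
    polar_comm (f := ⇑Q) w u, horth u hu w hw, mul_zero, zero_smul, sub_zero, ← ha', polar_smul_right,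
    polar_self_mul, smul_eq_mul, show (Q u)⁻¹ * (a * (2 * Q u)) = a * 2 by field_simp]
  have : a • u - (a * 2) • u = -(a • u) := by rw [← sub_smul, ← neg_smul]; congr 1; ring
  rw [this]

/-- The classification. -/
theorem classify (hQ : IsReg Q) (hfr : Module.finrank K V = 7) (hc : c ≠ 0) {x : orth Q}
    (hx : x * x = 1) (hx1 : x ≠ 1) (hx2 : x ≠ negOne Q)
    (h3 : ∀ v w (hv : Q v = c) (hw : Q w = c), ∀ g, g = refl Q v (hv ▸ hc) * refl Q w (hw ▸ hc) →
      ((x * (g * x * g⁻¹)) ^ 2 = 1 ∨ (x * (g * x * g⁻¹)) ^ 2 = negOne Q) ∨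
      ((x * (g * x * g⁻¹)) ^ 3 = 1 ∨ (x * (g * x * g⁻¹)) ^ 3 = negOne Q)) :
    ∃ u, ∃ hu : Q u ≠ 0, x = refl Q u hu ∨ x = negOne Q * refl Q u hu := by
  -- reduce to at most three negated dimensions
  suffices h : ∀ s : orth Q, s * s = 1 → s ≠ 1 →
      (∀ g, s * (g * s * g⁻¹) = x * (g * x * g⁻¹)) →
      Module.finrank K (LinearMap.eqLocus s.1.toLinearMap (-LinearMap.id)) ≤ 3 →
      ∃ u, ∃ hu : Q u ≠ 0, s = refl Q u hu by
    by_cases hU : Module.finrank K (LinearMap.eqLocus x.1.toLinearMap (-LinearMap.id)) ≤ 3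
    · obtain ⟨u, hu, e⟩ := h x hx hx1 (fun _ => rfl) hU
      exact ⟨u, hu, Or.inl e⟩
    · set s := negOne Q * x with hs
      have hss : s * s = 1 := by
        rw [hs, mul_assoc, ← mul_assoc x, ← negOne_comm, mul_assoc (negOne Q) x x, hx, mul_one, negOne_sq]
      obtain ⟨u, hu, e⟩ := h s hss (fun e => hx2 (by
          rw [← one_mul x, ← negOne_sq (Q := Q), mul_assoc, ← hs, e, mul_one])) (fun g => by
          apply orth_ext
          intro y
          simp [hs, orth_mul_apply, negOne_apply, mul_assoc]) (by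
        obtain ⟨-, -, -, hsum, -⟩ := eigen hQ hx
        rw [hfr] at hsum
        have heq : LinearMap.eqLocus s.1.toLinearMap (-LinearMap.id) =
            LinearMap.eqLocus x.1.toLinearMap LinearMap.id := by
          ext y
          simp [hs, orth_mul_apply, negOne_apply]
        rw [heq]
        omega)
      exact ⟨u, hu, Or.inr (by rw [← e, hs, ← mul_assoc, negOne_sq, one_mul])⟩
  intro s hs hs1 hsy hle
  obtain ⟨hUr, hWr, horth, hsum, hsplit⟩ := eigen hQ hs
  rw [hfr] at hsum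
  have h0 : Module.finrank K (LinearMap.eqLocus s.1.toLinearMap (-LinearMap.id)) ≠ 0 := fun h => by
    rw [Submodule.finrank_eq_zero] at h
    apply hs1
    refine orth_ext fun y => ?_
    obtain ⟨u, hu, w, hw, rfl⟩ := hsplit y
    rw [h, Submodule.mem_bot] at hu
    subst hu
    rw [zero_add, one_apply']
    exact hw
  by_cases h1 : Module.finrank K (LinearMap.eqLocus s.1.toLinearMap (-LinearMap.id)) = 1
  · exact refl_of_line hQ hs h1
  refine (false_of_plane hc (fun y hy => hy) (fun y hy => hy) horth hUr hWr (by omega) (by omega)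
    fun v w hv hw g hg => ?_).elim
  rw [hsy g]
  rcases h3 v w hv hw g hg with (h | h) | (h | h)
  · exact Or.inl fun y => by rw [h, one_apply']
  · exact Or.inr (Or.inl fun y => by rw [h, negOne_apply])
  · exact Or.inr (Or.inr (Or.inl fun y => by rw [h, one_apply']))
  · exact Or.inr (Or.inr (Or.inr fun y => by rw [h, negOne_apply]))

/-- An orthogonal basis of vectors of norm `c`. -/
theorem exists_frame {Q : QuadraticForm K (Fin 7 → K)} (hQ : (polarBilin Q).Nondegenerate) (hc : c ≠ 0)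
    (hdet : Cfsg.polarGramDet (⇑Q) = -c) :
    ∃ e : Fin 7 → Fin 7 → K, (∀ i, Q (e i) = c) ∧ ∀ i j, i ≠ j → polar Q (e i) (e j) = 0 := by
  have hr : RegOn Q ⊤ := regOn_top (isReg_of_nondegenerate hQ)
  have step : ∀ {S : Submodule K (Fin 7 → K)}, RegOn Q S → 2 ≤ Module.finrank K S →
      ∃ u ∈ S, Q u = c ∧ RegOn Q (perp Q S u) ∧ perp Q S u ≤ S ∧
        Module.finrank K (perp Q S u) + 1 = Module.finrank K S ∧ ∀ y ∈ perp Q S u, polar Q u y = 0 := by
    intro S hS hn
    obtain ⟨u, hu, hq⟩ := exists_norm hS hn hc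
    have hq' : Q u ≠ 0 := hq ▸ hc
    exact ⟨u, hu, hq, regOn_perp hS hu hq', inf_le_left, finrank_perp hu hq', fun y hy => (mem_perp.1 hy).2⟩
  have h7 : Module.finrank K (⊤ : Submodule K (Fin 7 → K)) = 7 := by simp
  obtain ⟨u0, -, q0, r0, l0, f0, o0⟩ := step hr (by omega)
  obtain ⟨u1, m1, q1, r1, l1, f1, o1⟩ := step r0 (by omega)
  obtain ⟨u2, m2, q2, r2, l2, f2, o2⟩ := step r1 (by omega)
  obtain ⟨u3, m3, q3, r3, l3, f3, o3⟩ := step r2 (by omega)
  obtain ⟨u4, m4, q4, r4, l4, f4, o4⟩ := step r3 (by omega)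
  obtain ⟨u5, m5, q5, r5, l5, f5, o5⟩ := step r4 (by omega)
  obtain ⟨u6, m6, q6⟩ := exists_aniso r5 (by omega)
  set e : Fin 7 → Fin 7 → K := ![u0, u1, u2, u3, u4, u5, u6] with he
  have hlt : ∀ i j, i < j → polar Q (e i) (e j) = 0 := by
    have a01 := o0 _ m1; have a02 := o0 _ (l1 m2); have a03 := o0 _ (l1 (l2 m3))
    have a04 := o0 _ (l1 (l2 (l3 m4))); have a05 := o0 _ (l1 (l2 (l3 (l4 m5))))
    have a06 := o0 _ (l1 (l2 (l3 (l4 (l5 m6)))))
    have a12 := o1 _ m2; have a13 := o1 _ (l2 m3); have a14 := o1 _ (l2 (l3 m4))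
    have a15 := o1 _ (l2 (l3 (l4 m5))); have a16 := o1 _ (l2 (l3 (l4 (l5 m6))))
    have a23 := o2 _ m3; have a24 := o2 _ (l3 m4); have a25 := o2 _ (l3 (l4 m5)); have a26 := o2 _ (l3 (l4 (l5 m6)))
    have a34 := o3 _ m4; have a35 := o3 _ (l4 m5); have a36 := o3 _ (l4 (l5 m6))
    have a45 := o4 _ m5; have a46 := o4 _ (l5 m6); have a56 := o5 _ m6
    simp [Fin.forall_fin_succ, e, a01, a02, a03, a04, a05, a06, a12, a13, a14, a15, a16, a23, a24, a25, a26,
      a34, a35, a36, a45, a46, a56]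
  have hort : ∀ i j, i ≠ j → polar Q (e i) (e j) = 0 := fun i j hij => by
    rcases lt_or_gt_of_ne hij with h | h
    · exact hlt i j h
    · rw [polar_comm]; exact hlt j i h
  refine ⟨e, fun i => ?_, hort⟩
  have h6 : Q u6 = c := by
    let B : Matrix (Fin 7) (Fin 7) K := Matrix.of fun i j => polar Q (Pi.single i 1) (Pi.single j 1)
    let P : Matrix (Fin 7) (Fin 7) K := Matrix.of e
    have hB : ∀ x y, polar Q x y = ∑ i, ∑ j, x i * B i j * y j := fun x y => by
      conv_lhs => rw [pi_eq_sum_univ' x, pi_eq_sum_univ' y]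
      simp only [← polarBilin_apply_apply, map_sum, LinearMap.coe_sum, Finset.sum_apply, map_smul,
        LinearMap.smul_apply, smul_eq_mul]
      simp only [polarBilin_apply_apply, B, Matrix.of_apply, Finset.mul_sum, Finset.sum_mul]
      rw [Finset.sum_comm]
      exact Finset.sum_congr rfl fun i _ => Finset.sum_congr rfl fun j _ => by ring
    have hdg : P * B * P.transpose = Matrix.diagonal fun i => 2 * Q (e i) := by
      ext i j
      have : (P * B * P.transpose) i j = polar Q (e i) (e j) := by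
        rw [hB, Finset.sum_comm]
        simp [Matrix.mul_apply, P, Finset.sum_mul]
      rw [this]
      by_cases h : i = j
      · subst h; rw [Matrix.diagonal_apply_eq, polar_self_mul]
      · rw [Matrix.diagonal_apply_ne _ h, hort i j h]
    have hd := congrArg Matrix.det hdg
    rw [Matrix.det_mul, Matrix.det_mul, Matrix.det_transpose, Matrix.det_diagonal,
      show B.det = -c from hdet, Fin.prod_univ_seven] at hd
    simp only [e, Matrix.cons_val, q0, q1, q2, q3, q4, q5] at hd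
    exact (show ∀ c t a : K, c ≠ 0 → a ≠ 0 →
        t * -c * t = 2 * c * (2 * c) * (2 * c) * (2 * c) * (2 * c) * (2 * c) * (2 * a) → a = c by decide)
      c P.det (Q u6) hc q6 hd
  fin_cases i <;> simp [e, q0, q1, q2, q3, q4, q5, h6]

end Cfsg.Agent.ThreeTransReflSeven78
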