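import Mathlib
import Cfsg.Prelude.Def_Local
import Cfsg.Prelude.Def_SporadicB
import Cfsg.Agent.Lib.ThreeTrans
import Cfsg.Agent.Lib.ComponentsFitting

/-!
Uniqueness of the class of 3-transpositions of a group whose self-centralizing largest normal
2-subgroup `V` is elementary abelian and whose centre is trivial. Elementary argument with the
subspaces `M x = [V, x]`: for non-commuting `x, y` in the class the norm of `x * y` kills `M x`,
commuting members fix `M x`, and two members whose subspaces meet lie in one coset of `V`.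
-/

set_option autoImplicit false
set_option linter.unusedSectionVars false

namespace Cfsg.Agent.ThreeTransUnique73

open Cfsg.Agent.ThreeTrans

variable {G : Type*} [Group G] {V : Subgroup G} [V.Normal]

/-- Conjugation on `V`, additively. -/
def ρ (g : G) (a : Additive ↥V) : Additive ↥V := Additive.ofMul (MulAut.conjNormal g a.toMul)

/-- The underlying element. -/
def cv (a : Additive ↥V) : G := (a.toMul : G)

theorem cv_inj {a b : Additive ↥V} (h : cv a = cv b) : a = b :=
  Additive.toMul.injective (Subtype.ext h)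

theorem cv_mem (a : Additive ↥V) : cv a ∈ V := a.toMul.2

@[simp] theorem cv_rho (g : G) (a : Additive ↥V) : cv (ρ g a) = g * cv a * g⁻¹ := by
  simp [cv, ρ]

theorem rho_mul (g h : G) (a : Additive ↥V) : ρ (g * h) a = ρ g (ρ h a) := by
  apply cv_inj; simp [mul_assoc]

@[simp] theorem rho_one (a : Additive ↥V) : ρ (1 : G) a = a := by apply cv_inj; simp

variable [IsMulCommutative ↥V]

open scoped IsMulCommutative

@[simp] theorem rho_add (g : G) (a b : Additive ↥V) : ρ g (a + b) = ρ g a + ρ g b := by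
  simp [ρ]

@[simp] theorem rho_zero (g : G) : ρ g (0 : Additive ↥V) = 0 := by simp [ρ]

@[simp] theorem cv_add (a b : Additive ↥V) : cv (a + b) = cv a * cv b := rfl

@[simp] theorem cv_zero : cv (0 : Additive ↥V) = 1 := rfl

theorem cv_comm (a b : Additive ↥V) : cv a * cv b = cv b * cv a := by
  rw [← cv_add, ← cv_add, add_comm]

/-- The set `[V, x]`. -/
def M (x : G) : Set (Additive ↥V) := {u | ∃ v, u = ρ x v + v}

/-- The norm of an element of order three. -/
def Nf (t : G) (a : Additive ↥V) : Additive ↥V := a + ρ t a + ρ (t * t) a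

theorem rho_coe (v : G) (hv : v ∈ V) (a : Additive ↥V) : ρ v a = a := by
  apply cv_inj
  have := cv_comm (Additive.ofMul (⟨v, hv⟩ : ↥V)) a
  rw [cv_rho]
  change v * cv a = cv a * v at this
  rw [this, mul_inv_cancel_right]

theorem rho_congr {g h : G} (hgh : g⁻¹ * h ∈ V) (a : Additive ↥V) : ρ h a = ρ g a := by
  conv_lhs => rw [show h = g * (g⁻¹ * h) by group]
  rw [rho_mul, rho_coe _ hgh]

/-- Data of the situation. -/
structure Ctx (V : Subgroup G) [V.Normal] : Prop where
  sq : ∀ a ∈ V, a * a = 1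
  cent : ∀ g : G, (∀ v ∈ V, g * v = v * g) → g ∈ V
  center : ∀ g : G, (∀ h : G, h * g = g * h) → g = 1
  core : ∀ g, g ∈ Cfsg.pCore 2 G → g ∈ V
  notTwo : ¬ IsPGroup 2 G

theorem add_self' (C : Ctx V) (a : Additive ↥V) : a + a = 0 := by
  apply cv_inj; simp only [cv_add, cv_zero]; exact C.sq _ (cv_mem a)

theorem eq_of_add (C : Ctx V) {a b : Additive ↥V} (h : a + b = 0) : a = b := by
  rw [← add_left_inj b, h, add_self' C]

theorem pow_four_of_sq (C : Ctx V) {g : G} (h : g * g ∈ V) : g ^ 2 ^ 2 = 1 := by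
  have := C.sq _ h
  simpa [pow_succ, mul_assoc] using this

/-- Conjugates of a transposition by `V` stay in the class. -/
theorem lift_mem (C : Ctx V) {D : Set G} (hD : IsThreeTranspositionClass D) {x : G} (hx : x ∈ D)
    {u : Additive ↥V} (hu : u ∈ M x) : x * cv u ∈ D := by
  obtain ⟨v, rfl⟩ := hu
  have h := conjInv hD (cv v) x hx
  convert h using 1
  have hv : (cv v)⁻¹ = cv v := inv_eq_of_mul_eq_one_right (C.sq _ (cv_mem v))
  rw [cv_add, cv_rho, inv_self hD.1 hx, hv, ← mul_assoc, ← mul_assoc, ← mul_assoc,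
    mul_self hD.1 hx, one_mul]

theorem M_add {x : G} {u w : Additive ↥V} (hu : u ∈ M x) (hw : w ∈ M x) : u + w ∈ M x := by
  obtain ⟨v, rfl⟩ := hu
  obtain ⟨v', rfl⟩ := hw
  exact ⟨v + v', by rw [rho_add]; abel⟩

theorem M_congr {g h : G} (hgh : g⁻¹ * h ∈ V) {u : Additive ↥V} (hu : u ∈ M g) : u ∈ M h := by
  obtain ⟨v, rfl⟩ := hu
  exact ⟨v, by rw [rho_congr hgh]⟩

theorem M_conj {g x : G} {u : Additive ↥V} (hu : u ∈ M x) : ρ g u ∈ M (g * x * g⁻¹) := by
  obtain ⟨v, rfl⟩ := hu
  refine ⟨ρ g v, ?_⟩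
  rw [rho_add, ← rho_mul, ← rho_mul]
  congr 2
  group

section OneClass

variable {D : Set G} (C : Ctx V) (hD : IsThreeTranspositionClass D)
include C hD

theorem rho_self {x : G} (hx : x ∈ D) (a : Additive ↥V) : ρ x (ρ x a) = a := by
  rw [← rho_mul, mul_self hD.1 hx, rho_one]

theorem fix_M {x : G} (hx : x ∈ D) {u : Additive ↥V} (hu : u ∈ M x) : ρ x u = u := by
  obtain ⟨v, rfl⟩ := hu
  rw [rho_add, rho_self C hD hx, add_comm]

theorem commute_of_mod {a b : G} (ha : a ∈ D) (hb : b ∈ D) (h : a * b * (a * b) ∈ V) :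
    Commute a b :=
  commute_of_two_pow hD.1 ha hb (pow_four_of_sq C h)

theorem fix_of_commute {x y : G} (hx : x ∈ D) (hy : y ∈ D) (hxy : Commute x y)
    {u : Additive ↥V} (hu : u ∈ M x) : ρ y u = u := by
  have hmem := lift_mem C hD hx hu
  have h2 : (y * x) * (y * x) = 1 := by
    rw [hxy.mul_mul_mul_comm, mul_self hD.1 hy, mul_self hD.1 hx, one_mul]
  have hc : Commute y (x * cv u) := by
    refine commute_of_mod C hD hy hmem ?_
    have e : y * (x * cv u) * (y * (x * cv u)) = (y * x) * cv u * (y * x)⁻¹ * cv u := by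
      rw [inv_eq_of_mul_eq_one_right h2]; group
    rw [e]
    exact mul_mem (Subgroup.Normal.conj_mem ‹_› _ (cv_mem u) _) (cv_mem u)
  apply cv_inj
  rw [cv_rho, mul_inv_eq_iff_eq_mul]
  have hc' := hc.eq
  rw [← mul_assoc, ← hxy.eq, mul_assoc, mul_assoc] at hc'
  exact mul_left_cancel hc'

theorem norm_eq {x y : G} (hx : x ∈ D) (hy : y ∈ D) (hxy : ¬ Commute x y)
    {u : Additive ↥V} (hu : u ∈ M x) : ρ x (ρ y u) = u + ρ y u := by
  have hmem := lift_mem C hD hx hu
  have hnc : ¬ Commute (x * cv u) y := by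
    intro hc
    refine hxy (commute_of_mod C hD hx hy ?_)
    have h1 : x * cv u * y * (x * cv u * y) = 1 := by
      rw [hc.symm.mul_mul_mul_comm, mul_self hD.1 hmem, mul_self hD.1 hy, one_mul]
    have e : x * cv u * y * (x * cv u * y) =
        (x * cv u * x⁻¹) * ((x * y * x) * cv u * (x * y * x)⁻¹) * (x * y * (x * y)) := by group
    rw [h1] at e
    rw [eq_inv_of_mul_eq_one_right e.symm]
    exact inv_mem (mul_mem (Subgroup.Normal.conj_mem ‹_› _ (cv_mem u) _)
      (Subgroup.Normal.conj_mem ‹_› _ (cv_mem u) _))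
  have h3 := cube_of_not_commute hD.1 hmem hy hnc
  have h3' := cube_of_not_commute hD.1 hx hy hxy
  simp only [pow_succ, pow_zero, one_mul] at h3 h3'
  have e : x * cv u * y * (x * cv u * y) * (x * cv u * y) =
      cv (ρ x u + ρ (x * y * x) u + ρ (x * y * x * y * x) u) * (x * y * (x * y) * (x * y)) := by
    simp only [cv_add, cv_rho]; group
  rw [h3, h3', mul_one] at e
  have hsum : ρ x u + ρ (x * y * x) u + ρ (x * y * x * y * x) u = 0 := cv_inj (by rw [← e, cv_zero])
  have hyx : x * y * x * y = y * x := by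
    have h : x * y * (x * y) = (x * y)⁻¹ := eq_inv_of_mul_eq_one_left h3'
    rw [mul_inv_rev, inv_self hD.1 hx, inv_self hD.1 hy] at h
    rw [← h, ← mul_assoc]
  rw [hyx] at hsum
  simp only [rho_mul, fix_M C hD hx hu] at hsum
  have := eq_of_add C (a := ρ x (ρ y u)) (b := u + ρ y u) (by rw [← hsum]; abel)
  exact this

theorem eq_zero_of_fix {x y : G} (hx : x ∈ D) (hy : y ∈ D) (hxy : ¬ Commute x y)
    {u : Additive ↥V} (hu : u ∈ M x) (hfix : ρ y u = u) : u = 0 := by
  have h := norm_eq C hD hx hy hxy hu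
  rw [hfix, fix_M C hD hx hu, add_self' C] at h
  exact h

theorem mul_mem_of_meet [Finite G] {x y : G} (hx : x ∈ D) (hy : y ∈ D) {u : Additive ↥V}
    (hux : u ∈ M x) (huy : u ∈ M y) (hu : u ≠ 0) : x * y ∈ V := by
  refine C.core _ (sameV_mul_mem_pCore hD.1 (conjInv hD) hx ⟨hy, fun e he => ⟨fun h => ?_, fun h => ?_⟩⟩)
  · by_contra hn
    exact hu (eq_zero_of_fix C hD hx he hn hux (fix_of_commute C hD hy he h huy))
  · by_contra hn
    exact hu (eq_zero_of_fix C hD hy he hn huy (fix_of_commute C hD hx he h hux))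

theorem not_mem {x : G} (hx : x ∈ D) : x ∉ V := by
  intro h
  apply C.notTwo
  obtain ⟨d0, -, hd0⟩ := hD.2.1
  have hle : ∀ d ∈ D, d ∈ V := by
    intro d hd
    have h1 : IsConj x d := by
      rw [hd0] at hx hd
      exact (show IsConj d0 x from hx).symm.trans (show IsConj d0 d from hd)
    obtain ⟨g, rfl⟩ := isConj_iff.mp h1
    exact Subgroup.Normal.conj_mem ‹_› _ h g
  intro g
  refine ⟨1, ?_⟩
  have hg : g ∈ V := (show Subgroup.closure D ≤ V from (Subgroup.closure_le _).mpr hle)
    (hD.2.2 ▸ Subgroup.mem_top g)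
  rw [pow_one, pow_two]
  exact C.sq _ hg

theorem exists_ne_zero {x : G} (hx : x ∈ D) : ∃ u ∈ M (V := V) x, u ≠ 0 := by
  by_contra h
  push Not at h
  refine not_mem C hD hx (C.cent x fun v hv => ?_)
  have h1 := eq_of_add C (h (ρ x (Additive.ofMul ⟨v, hv⟩) + Additive.ofMul ⟨v, hv⟩) ⟨_, rfl⟩)
  have h2 := congrArg cv h1
  rw [cv_rho, mul_inv_eq_iff_eq_mul] at h2
  exact h2

theorem eq_one_of_central {k : Additive ↥V} (h : ∀ y ∈ D, ρ y k = k) : k = 0 := by
  apply cv_inj
  refine C.center _ fun g => ?_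
  have hle : Subgroup.closure D ≤ Subgroup.centralizer {cv k} := by
    rw [Subgroup.closure_le]
    intro y hy
    have h2 := congrArg cv (h y hy)
    rw [cv_rho, mul_inv_eq_iff_eq_mul] at h2
    exact Subgroup.mem_centralizer_singleton_iff.mpr h2
  exact Subgroup.mem_centralizer_singleton_iff.mp (hle (hD.2.2 ▸ Subgroup.mem_top g))

/-- An element which commutes modulo `V` with the whole class and squares into `V` lies in `V`. -/
theorem mem_of_central_mod [Finite G] {z : G} (hz : ∀ f ∈ D, f * z * f⁻¹ * z⁻¹ ∈ V) (hzz : z * z ∈ V) :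
    z ∈ V := by
  set π := QuotientGroup.mk' V
  have hπ : ∀ {g : G}, π g = 1 ↔ g ∈ V := fun {g} => QuotientGroup.eq_one_iff g
  have hcen : ∀ g : G, π g * π z = π z * π g := by
    intro g
    have hle : Subgroup.closure D ≤ Subgroup.comap π (Subgroup.centralizer {π z}) := by
      rw [Subgroup.closure_le]
      intro f hf
      refine Subgroup.mem_centralizer_singleton_iff.mpr ?_
      have h1 := hπ.mpr (hz f hf)
      simp only [map_mul, map_inv] at h1
      rw [mul_inv_eq_one, mul_inv_eq_iff_eq_mul] at h1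
      exact h1
    exact Subgroup.mem_centralizer_singleton_iff.mp (hle (hD.2.2 ▸ Subgroup.mem_top g))
  refine C.core z ?_
  have hn : (Subgroup.zpowers (π z)).Normal := ⟨fun n hn g => by
    obtain ⟨g, rfl⟩ := QuotientGroup.mk'_surjective V g
    obtain ⟨i, rfl⟩ := Subgroup.mem_zpowers_iff.mp hn
    rw [((show Commute (π g) (π z) from hcen g).zpow_right i).eq, mul_inv_cancel_right]
    exact Subgroup.zpow_mem _ (Subgroup.mem_zpowers _) i⟩
  refine le_sSup (s := {N : Subgroup G | N.Normal ∧ IsPGroup 2 N})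
    (a := (Subgroup.zpowers (π z)).comap π) ⟨hn.comap π, fun g => ⟨2, Subtype.ext ?_⟩⟩
    (Subgroup.mem_zpowers _)
  obtain ⟨i, hi⟩ := Subgroup.mem_zpowers_iff.mp g.2
  have hgg : (g : G) * g ∈ V := hπ.mp (by
    rw [map_mul, ← hi, ← (Commute.refl (π z)).mul_zpow, ← map_mul, hπ.mpr hzz, one_zpow])
  simpa using pow_four_of_sq C hgg

end OneClass

section Coset

variable [Finite G] {D E : Set G} (C : Ctx V) (hD : IsThreeTranspositionClass D)
  (hE : IsThreeTranspositionClass E)
include C hD hE

theorem fix_c {x : G} (hx : x ∈ D) {c : Additive ↥V} (hc : x * cv c ∈ E) : ρ x c = c := by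
  have h := mul_self hE.1 hc
  have e : x * cv c * (x * cv c) = cv (ρ x c) * (x * x) * cv c := by rw [cv_rho]; group
  rw [h, mul_self hD.1 hx, mul_one, ← cv_add] at e
  exact eq_of_add C (cv_inj (by rw [← e, cv_zero]))

theorem coset_commute {x y : G} (hx : x ∈ D) (hy : y ∈ D) (hxy : Commute x y) {c c' : Additive ↥V}
    (hc : x * cv c ∈ E) (hc' : y * cv c' ∈ E) : ρ y c = c := by
  have h2 : (x * y) * (x * y) = 1 := by
    rw [hxy.symm.mul_mul_mul_comm, mul_self hD.1 hx, mul_self hD.1 hy, one_mul]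
  have hcom : Commute (x * cv c) (y * cv c') := by
    refine commute_of_mod C hE hc hc' ?_
    have e : x * cv c * (y * cv c') * (x * cv c * (y * cv c')) =
        cv (ρ x c + ρ (x * y) c' + ρ (x * y * x) c) * (x * y * (x * y)) * cv c' := by
      simp only [cv_add, cv_rho]; group
    rw [e, h2, mul_one]
    exact mul_mem (cv_mem _) (cv_mem _)
  have e1 : x * cv c * (y * cv c') = cv (ρ x c + ρ (x * y) c') * (x * y) := by
    simp only [cv_add, cv_rho]; group
  have e2 : y * cv c' * (x * cv c) = cv (ρ y c' + ρ (y * x) c) * (y * x) := by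
    simp only [cv_add, cv_rho]; group
  rw [hcom.eq, e2, ← hxy.eq] at e1
  have h := cv_inj (mul_right_cancel e1)
  rw [rho_mul, rho_mul, fix_c C hD hE hx hc, fix_c C hD hE hy hc'] at h
  have hsw : ρ x (ρ y c) = ρ y c := by
    rw [← rho_mul, hxy.eq, rho_mul, fix_c C hD hE hx hc]
  rw [hsw] at h
  have hm : ρ y c + c = ρ x c' + c' := by
    apply eq_of_add C
    calc ρ y c + c + (ρ x c' + c') = (c' + ρ y c) + (c + ρ x c') := by abel
      _ = 0 := by rw [h, add_self' C]
  by_contra hne
  have hne' : ρ y c + c ≠ 0 := fun h0 => hne (eq_of_add C h0)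
  have hV := mul_mem_of_meet C hD hx hy (u := ρ y c + c) ⟨c', hm⟩ ⟨c, rfl⟩ hne'
  rw [rho_congr (g := x) (by rwa [inv_self hD.1 hx]), fix_c C hD hE hx hc] at hne
  exact hne rfl

/-- The common representative for a non-commuting pair. -/
theorem coset_sym {x y : G} (hx : x ∈ D) (hy : y ∈ D) (hxy : ¬ Commute x y) {c c' : Additive ↥V}
    (hc : x * cv c ∈ E) (hc' : y * cv c' ∈ E) :
    c + ρ y c + ρ x (ρ y c) = c' + ρ x c' + ρ y (ρ x c') := by
  have h3' := cube_of_not_commute hD.1 hx hy hxy
  simp only [pow_succ, pow_zero, one_mul] at h3'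
  have hnc : ¬ Commute (x * cv c) (y * cv c') := by
    intro hcom
    refine hxy (commute_of_mod C hD hx hy ?_)
    have h1 : x * cv c * (y * cv c') * (x * cv c * (y * cv c')) = 1 := by
      rw [hcom.symm.mul_mul_mul_comm, mul_self hE.1 hc, mul_self hE.1 hc', one_mul]
    have e : x * cv c * (y * cv c') * (x * cv c * (y * cv c')) =
        cv (ρ x c + ρ (x * y) c' + ρ (x * y * x) c) * (x * y * (x * y)) * cv c' := by
      simp only [cv_add, cv_rho]; group
    rw [h1, eq_comm, mul_assoc, ← eq_inv_mul_iff_mul_eq, ← eq_mul_inv_iff_mul_eq, mul_one] at e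
    rw [e]
    exact mul_mem (inv_mem (cv_mem _)) (inv_mem (cv_mem _))
  have h3 := cube_of_not_commute hE.1 hc hc' hnc
  simp only [pow_succ, pow_zero, one_mul] at h3
  have e : x * cv c * (y * cv c') * (x * cv c * (y * cv c')) * (x * cv c * (y * cv c')) =
      cv (ρ x c + ρ (x * y) c' + ρ (x * y * x) c + ρ (x * y * x * y) c' + ρ (x * y * x * y * x) c)
        * (x * y * (x * y) * (x * y)) * cv c' := by
    simp only [cv_add, cv_rho]; group
  rw [h3, h3', mul_one, ← cv_add] at e
  have hsum := cv_inj (e.symm.trans cv_zero.symm)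
  have hyx : x * y * x * y = y * x := by
    have h : x * y * (x * y) = (x * y)⁻¹ := eq_inv_of_mul_eq_one_left h3'
    rw [mul_inv_rev, inv_self hD.1 hx, inv_self hD.1 hy] at h
    rw [← h, ← mul_assoc]
  rw [hyx] at hsum
  simp only [rho_mul, fix_c C hD hE hx hc, fix_c C hD hE hy hc'] at hsum
  exact eq_of_add C (by rw [← hsum]; abel)

theorem coset_fix_x {x : G} (hx : x ∈ D) {c : Additive ↥V} (hc : x * cv c ∈ E) (y : G) :
    ρ x (c + ρ y c + ρ x (ρ y c)) = c + ρ y c + ρ x (ρ y c) := by
  simp only [rho_add, rho_self C hD hx, fix_c C hD hE hx hc]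
  abel

theorem M_triangle {x y y' : G} (hx : x ∈ D) (hy : y ∈ D) (hy' : y' ∈ D) (hxy : ¬ Commute x y)
    (hxy' : ¬ Commute x y') (hw : y * y' * y ∈ D) (hxw : ¬ Commute x (y * y' * y))
    {m : Additive ↥V} (hm : m ∈ M x) (hN : m + ρ (y * y') m + ρ (y' * y) m = 0) : m = 0 := by
  have hS : ρ y m + ρ y' m + ρ (y * y' * y) m = 0 := by
    have h := congrArg (ρ y) hN
    simp only [rho_zero, rho_add, rho_mul, rho_self C hD hy] at h ⊢
    exact h
  have h := congrArg (ρ x) hS
  simp only [rho_zero, rho_add, norm_eq C hD hx hy hxy hm, norm_eq C hD hx hy' hxy' hm,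
    norm_eq C hD hx hw hxw hm] at h
  calc m = (m + m) + m + (ρ y m + ρ y' m + ρ (y * y' * y) m) := by
          rw [hS, add_self' C, zero_add, add_zero]
    _ = m + ρ y m + (m + ρ y' m) + (m + ρ (y * y' * y) m) := by abel
    _ = 0 := h

theorem mem_M_of_coset {x : G} (hx : x ∈ D) {c : Additive ↥V} (hc : x * cv c ∈ E) : c ∈ M x := by
  have hother : ∀ y ∈ D, ∃ c' : Additive ↥V, y * cv c' ∈ E := by
    intro y hy
    obtain ⟨d0, -, hd0⟩ := hD.2.1
    have h1 : IsConj x y := by
      rw [hd0] at hx hy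
      exact (show IsConj d0 x from hx).symm.trans (show IsConj d0 y from hy)
    obtain ⟨g, rfl⟩ := isConj_iff.mp h1
    refine ⟨ρ g c, ?_⟩
    convert conjInv hE g _ hc using 1
    rw [cv_rho]; group
  set k : G → Additive ↥V := fun y => c + ρ y c + ρ x (ρ y c) with hk
  have hkM : ∀ y, k y + c ∈ M x := fun y => ⟨ρ y c, by
    simp only [hk]; rw [show c + ρ y c + ρ x (ρ y c) + c = ρ x (ρ y c) + ρ y c + (c + c) by abel,
      add_self' C, add_zero]⟩
  have hdiff : ∀ y y', k y + k y' ∈ M x := by
    intro y y'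
    have := M_add (hkM y) (hkM y')
    rwa [show k y + c + (k y' + c) = k y + k y' + (c + c) by abel, add_self' C, add_zero] at this
  have hfixP : ∀ y ∈ D, ∀ y' ∈ D, Commute x y → ρ y (k y') = k y' := by
    intro y hy y' hy' hxy
    obtain ⟨c', hc'⟩ := hother y hy
    have h1 := fix_of_commute C hD hx hy hxy (hkM y')
    rw [rho_add, coset_commute C hD hE hx hy hxy hc hc'] at h1
    exact add_right_cancel h1
  have hfixy : ∀ y ∈ D, ¬ Commute x y → ρ y (k y) = k y := by
    intro y hy hxy
    obtain ⟨c', hc'⟩ := hother y hy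
    show ρ y (c + ρ y c + ρ x (ρ y c)) = c + ρ y c + ρ x (ρ y c)
    rw [coset_sym C hD hE hx hy hxy hc hc']
    exact coset_fix_x C hD hE hy hc' x
  have hkeq : ∀ y ∈ D, ¬ Commute x y → ∀ y' ∈ D, ¬ Commute x y' → k y = k y' := by
    intro y hy hxy y' hy' hxy'
    suffices h : ρ y' (k y) = k y ∨ k y + k y' = 0 by
      rcases h with h | h
      · refine eq_of_add C (eq_zero_of_fix C hD hx hy' hxy' (hdiff y y') ?_)
        rw [rho_add, h, hfixy y' hy' hxy']
      · exact eq_of_add C h
    obtain ⟨c', hc'⟩ := hother y hy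
    obtain ⟨c'', hc''⟩ := hother y' hy'
    have hky : ∃ a ∈ M y, k y = c' + a := ⟨ρ y (ρ x c') + ρ x c', ⟨_, rfl⟩, by
      show c + ρ y c + ρ x (ρ y c) = _
      rw [coset_sym C hD hE hx hy hxy hc hc']; abel⟩
    have hky' : ∃ a ∈ M y', k y' = c'' + a := ⟨ρ y' (ρ x c'') + ρ x c'', ⟨_, rfl⟩, by
      show c + ρ y' c + ρ x (ρ y' c) = _
      rw [coset_sym C hD hE hx hy' hxy' hc hc'']; abel⟩
    obtain ⟨a, ha, hka⟩ := hky
    obtain ⟨a', ha', hka'⟩ := hky'
    by_cases hyy' : Commute y y'
    · left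
      rw [hka, rho_add, coset_commute C hD hE hy hy' hyy' hc' hc'',
        fix_of_commute C hD hy hy' hyy' ha]
    have hwD := conj_mem hD.1 (conjInv hD) hy hy'
    by_cases hxw : Commute x (y * y' * y)
    · left
      have hy'eq : y' = y * y' * y * y * (y * y' * y) := by
        have hb := braid hD.1 hy hy' hyy'
        calc y' = y' * y * y' * y' * y := by
              rw [mul_assoc (y' * y) y' y', mul_self hD.1 hy', mul_one, mul_assoc, mul_self hD.1 hy,
                mul_one]
          _ = y * y' * y * (y' * y) := by rw [hb]; group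
          _ = y * y' * y * y * (y * y' * y) := by
              rw [mul_assoc (y * y' * y) y (y * y' * y), ← mul_assoc y (y * y') y, ← mul_assoc y y y',
                mul_self hD.1 hy, one_mul]
      have hwk := hfixP _ hwD y hy hxw
      rw [hy'eq, rho_mul, hwk, rho_mul, hfixy y hy hxy, hwk]
    · right
      refine M_triangle C hD hE hx hy hy' hxy hxy' hwD hxw (hdiff y y') ?_
      have hs := coset_sym C hD hE hy hy' hyy' hc' hc''
      have n1 : a + ρ y (ρ y' a) + ρ y' a = 0 := by
        rw [norm_eq C hD hy hy' hyy' ha, show a + (a + ρ y' a) + ρ y' a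
          = (a + a) + (ρ y' a + ρ y' a) by abel, add_self' C, add_self' C, add_zero]
      have n2 : a' + ρ y a' + ρ y' (ρ y a') = 0 := by
        rw [norm_eq C hD hy' hy (fun h => hyy' h.symm) ha', add_self' C]
      rw [hka, hka']
      simp only [rho_add, rho_mul, fix_M C hD hy ha, fix_M C hD hy' ha', fix_c C hD hE hy hc',
        fix_c C hD hE hy' hc'']
      calc _ = (a + ρ y (ρ y' a) + ρ y' a) + (a' + ρ y a' + ρ y' (ρ y a'))
            + (c' + ρ y' c' + ρ y (ρ y' c')) + (c'' + ρ y c'' + ρ y' (ρ y c'')) := by abel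
        _ = 0 := by rw [n1, n2, hs, zero_add, zero_add, add_self' C]
  by_cases hA : ∀ y ∈ D, Commute x y
  · exfalso
    apply not_mem C hD hx
    rw [C.center x fun g => ?_]
    · exact one_mem V
    have hle : Subgroup.closure D ≤ Subgroup.centralizer {x} := by
      rw [Subgroup.closure_le]
      exact fun y hy => Subgroup.mem_centralizer_singleton_iff.mpr (hA y hy).eq.symm
    exact Subgroup.mem_centralizer_singleton_iff.mp (hle (hD.2.2 ▸ Subgroup.mem_top g))
  push Not at hA
  obtain ⟨y, hy, hxy⟩ := hA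
  have hk0 : k y = 0 := by
    refine eq_one_of_central C hD fun f hf => ?_
    by_cases hxf : Commute x f
    · exact hfixP f hf y hy hxf
    · rw [hkeq y hy hxy f hf hxf]; exact hfixy f hf hxf
  have := hkM y
  rwa [hk0, zero_add] at this

/-- If some member of `E` lies in the coset of a member of `D`, the classes are equal. -/
theorem mem_of_coset {x e : G} (hx : x ∈ D) (he : e ∈ E) (hxe : x * e ∈ V) : e ∈ D := by
  have hc : x * cv (Additive.ofMul (⟨x * e, hxe⟩ : ↥V)) = e := by
    show x * (x * e) = e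
    rw [← mul_assoc, mul_self hD.1 hx, one_mul]
  have := lift_mem C hD hx (mem_M_of_coset C hD hE hx (hc.symm ▸ he))
  rwa [hc] at this

end Coset

section Separated

variable [Finite G] {D E : Set G} (C : Ctx V) (hD : IsThreeTranspositionClass D)
  (hE : IsThreeTranspositionClass E) (hsep : ∀ x ∈ D, ∀ e ∈ E, x * e ∉ V)
include C hD hE hsep

theorem rho_swap {f e : G} (hf : f ∈ D) (he : e ∈ E) (h : f * e * (f * e) ∈ V)
    (a : Additive ↥V) : ρ f (ρ e a) = ρ e (ρ f a) := by
  rw [← rho_mul, ← rho_mul]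
  refine rho_congr ?_ a
  rw [mul_inv_rev, inv_self hD.1 hf, inv_self hE.1 he]
  exact h

theorem third {e y : G} (he : e ∈ E) (hy : y ∈ D) (hns : ¬ (y * e * (y * e) ∈ V)) :
    y * e * y * e * y ∈ D ∧ Commute e (y * e * y * e * y) ∧ ¬ Commute e (y * e * y) ∧
      Commute (y * e * y * e * y * e) y ∧
      ∃ u, u ∈ M (V := V) (y * e * y * e * y) ∧ u ∈ M e ∧ u ≠ 0 := by
  have hye : e * y * e ∈ D := by
    have := conjInv hD e y hy
    rwa [inv_self hE.1 he] at this
  have he' : y * e * y ∈ E := by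
    have := conjInv hE y e he
    rwa [inv_self hD.1 hy] at this
  have hcomm : ¬ Commute e (y * e * y) := by
    intro hc
    have hyc : Commute y (e * y * e) := by
      refine commute_of_sq hD.1 hy hye ?_
      have h1 : e * (y * e * y) * (e * (y * e * y)) = 1 := by
        rw [hc.symm.mul_mul_mul_comm, mul_self hE.1 he, mul_self hE.1 he', one_mul]
      calc (y * (e * y * e)) ^ 2 = y * e * (y * e * (y * e) * (y * e)) := by rw [pow_two]; group
        _ = e⁻¹ * (e * y * e * y * (e * y * e * y)) * e := by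
            rw [inv_self hE.1 he]; simp only [← mul_assoc, mul_self hE.1 he, one_mul]
        _ = 1 := by
            rw [show e * y * e * y * (e * y * e * y) = e * (y * e * y) * (e * (y * e * y)) by group,
              h1, mul_one, inv_mul_cancel]
    obtain ⟨u, hu, hu0⟩ := exists_ne_zero C hD hy
    have heu : ρ e u ∈ M (e * y * e) := by
      have := M_conj (g := e) hu
      rwa [inv_self hE.1 he] at this
    have h1 : u + ρ e u ∈ M e := ⟨u, by abel⟩
    have h2 : u + ρ e u ∈ M (y * e * y) := by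
      refine ⟨u, ?_⟩
      rw [rho_mul, rho_mul, fix_M C hD hy hu, fix_of_commute C hD hye hy hyc.symm heu, add_comm]
    by_cases hz : u + ρ e u = 0
    · have hu' : u ∈ M (e * y * e) := by rwa [← eq_of_add C hz] at heu
      exact hns (by
        have := mul_mem_of_meet C hD hy hye hu hu' hu0
        simpa [mul_assoc] using this)
    · refine hns ?_
      have h := mul_mem_of_meet C hE he he' h1 h2 hz
      have e1 : y * e * (y * e) = e⁻¹ * (e * (y * e * y)) * e := by group
      rw [e1]
      exact Subgroup.Normal.conj_mem' ‹_› _ h e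
  have h3 := cube_of_not_commute hE.1 he he' hcomm
  simp only [pow_succ, pow_zero, one_mul] at h3
  have h6 : (y * e * y * e * y * e) * (y * e * y * e * y * e) = 1 := by
    calc _ = e⁻¹ * (e * (y * e * y) * (e * (y * e * y)) * (e * (y * e * y))) * e := by group
      _ = 1 := by rw [h3, mul_one, inv_mul_cancel]
  have hzinv : y * e * y * e * y * e = e * y * e * y * e * y := by
    have := inv_eq_of_mul_eq_one_right h6
    simpa [mul_inv_rev, inv_self hE.1 he, inv_self hD.1 hy, mul_assoc] using this.symm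
  set x := y * e * y * e * y with hxdef
  have hxD : x ∈ D := by
    have := conjInv hD (y * e) y hy
    rw [mul_inv_rev, inv_self hE.1 he, inv_self hD.1 hy] at this
    convert conjInv hD y (e * y * e) hye using 1
    rw [inv_self hD.1 hy, hxdef]; group
  have hex : Commute e x := by
    show e * x = x * e
    rw [hzinv, hxdef]; group
  have hzy : Commute (x * e) y := by
    show x * e * y = y * (x * e)
    conv_rhs => rw [hzinv]
    rw [hxdef]; group
  refine ⟨hxD, hex, hcomm, hzy, ?_⟩
  have hxy : ¬ Commute x y := by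
    intro hc
    refine hcomm (commute_of_sq hE.1 he he' ?_)
    have h1 : x * y * (x * y) = 1 := by
      rw [hc.symm.mul_mul_mul_comm, mul_self hD.1 hxD, mul_self hD.1 hy, one_mul]
    have e1 : x * y = y * e * y * e := by rw [hxdef, mul_assoc, mul_self hD.1 hy, mul_one]
    rw [e1] at h1
    calc (e * (y * e * y)) ^ 2 = e * (y * e * y * e * (y * e * y * e)) * e⁻¹ := by
          rw [pow_two]; group
      _ = 1 := by rw [h1, mul_one, mul_inv_cancel]
  obtain ⟨u, hu, hu0, hfix⟩ : ∃ u, u ∈ M (V := V) x ∧ u ≠ 0 ∧ ρ e u = u := by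
    obtain ⟨u, hu, hu0⟩ := exists_ne_zero C hD hxD
    by_cases h : ρ e u = u
    · exact ⟨u, hu, hu0, h⟩
    · refine ⟨u + ρ e u, M_add hu ?_, fun h0 => h (eq_of_add C h0).symm, ?_⟩
      · have := M_conj (g := e) hu
        rwa [show e * x * e⁻¹ = x by rw [hex.eq, mul_inv_cancel_right]] at this
      · rw [rho_add, rho_self C hE he, add_comm]
  refine ⟨u, hu, ⟨ρ y u, ?_⟩, hu0⟩
  have h := norm_eq C hD hxD hy hxy hu
  rw [← rho_mul, hxdef, mul_assoc _ y y, mul_self hD.1 hy, mul_one] at h
  simp only [rho_mul, hfix] at h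
  have h' := congrArg (ρ y) h
  rw [rho_self C hD hy, rho_add, rho_self C hD hy] at h'
  rw [h', show ρ y u + u + ρ y u = u + (ρ y u + ρ y u) by abel, add_self' C, add_zero]

theorem false_of_separated {e : G} (he : e ∈ E) : False := by
  have hsimF : ∀ f ∈ D, ∀ s ∈ D, ∀ u : Additive ↥V, u ≠ 0 → u ∈ M s → u ∈ M e →
      Commute s f → f * e * (f * e) ∈ V := by
    intro f hf s hs u hu0 hus hue hsf
    have h1 := M_conj (g := f) hue
    rw [fix_of_commute C hD hs hf hsf hus, inv_self hD.1 hf] at h1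
    have he' : f * e * f ∈ E := by
      have := conjInv hE f e he
      rwa [inv_self hD.1 hf] at this
    have h := mul_mem_of_meet C hE he he' hue h1 hu0
    have e1 : f * e * (f * e) = e⁻¹ * (e * (f * e * f)) * e := by group
    rw [e1]
    exact Subgroup.Normal.conj_mem' ‹_› _ h e
  -- every such `s` lies in the coset of the third element of any pair
  have hone : ∀ y ∈ D, ¬ (y * e * (y * e) ∈ V) → ∀ s ∈ D, s * e * (s * e) ∈ V →
      ∀ p : Additive ↥V, p ≠ 0 → p ∈ M s → p ∈ M e → y * e * y * e * y * s ∈ V := by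
    intro y hy hns s hs hss p hp0 hps hpe
    obtain ⟨hxD, hex, hnc, hzy, -⟩ := third C hD hE hsep he hy hns
    set x := y * e * y * e * y with hxdef
    have hee : ρ e p = p := fix_M C hE he hpe
    have he' : y * e * y ∈ E := by
      have := conjInv hE y e he
      rwa [inv_self hD.1 hy] at this
    have hn := norm_eq C hE he he' hnc hpe
    simp only [rho_mul] at hn
    have hxp : ρ x p = ρ y p + ρ e (ρ y p) := by
      have h' := congrArg (ρ y) hn
      rw [rho_add, rho_self C hD hy] at h'
      have hl : ρ x p = ρ y (ρ e (ρ y (ρ e (ρ y p)))) := by simp only [hxdef, rho_mul]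
      rw [hl, h']
    by_contra hne
    by_cases hxs : Commute x s
    · have hpx : ρ x p = p := fix_of_commute C hD hs hxD hxs.symm hps
      have hz : ρ x (ρ e p) = p := by rw [hee, hpx]
      have hzyp : ρ x (ρ e (ρ y p)) = ρ y p := by
        rw [← rho_mul, ← rho_mul, hzy.eq, rho_mul, rho_mul, hz]
      have hey : ρ e (ρ y p) = ρ x (ρ y p) := by
        conv_rhs => rw [← hzyp, rho_self C hD hxD]
      have hpM : p ∈ M x := ⟨ρ y p, by rw [← hey, add_comm, ← hxp, hpx]⟩
      exact hne (mul_mem_of_meet C hD hxD hs hpM hps hp0)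
    · have hsy : ¬ Commute s y := fun h => hns (hsimF y hy s hs p hp0 hps hpe h)
      have hps' : ρ s p = p := fix_M C hD hs hps
      have h1 : ρ s (ρ y p) = p + ρ y p := norm_eq C hD hs hy hsy hps
      have hk : ρ s (ρ x p) = ρ x p := by
        rw [hxp, rho_add, rho_swap C hD hE hsep hs he hss, h1, rho_add, hee,
          show p + ρ y p + (p + ρ e (ρ y p)) = (p + p) + (ρ y p + ρ e (ρ y p)) by abel,
          add_self' C, zero_add]
      have hkM := M_conj (g := x) hps
      rw [inv_self hD.1 hxD] at hkM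
      have hxsx := conj_mem hD.1 (conjInv hD) hxD hs
      have hnc' : ¬ Commute (x * s * x) s := by
        rw [braid hD.1 hxD hs hxs]
        intro h
        apply hxs
        have h2 := (Commute.conj_iff s).mpr h
        rw [inv_self hD.1 hs] at h2
        simpa only [← mul_assoc, mul_self hD.1 hs, one_mul, mul_assoc (s * s * x) s s, mul_one,
          mul_assoc x s s] using h2
      have h0 := eq_zero_of_fix C hD hxsx hs hnc' hkM hk
      have hp : ρ x (ρ x p) = ρ x 0 := congrArg (ρ x) h0
      rw [rho_self C hD hxD, rho_zero] at hp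
      exact hp0 hp
  by_cases hall : ∀ f ∈ D, f * e * (f * e) ∈ V
  · refine not_mem C hE he (mem_of_central_mod C hD (fun f hf => ?_) ?_)
    · rw [inv_self hE.1 he, inv_self hD.1 hf, mul_assoc (f * e) f e]
      exact hall f hf
    · rw [mul_self hE.1 he]; exact one_mem V
  push Not at hall
  obtain ⟨y, hy, hns⟩ := hall
  obtain ⟨hxD, hex, -, -, u, hux, hue, hu0⟩ := third C hD hE hsep he hy hns
  set x := y * e * y * e * y with hxdef
  have hxsim : x * e * (x * e) ∈ V := by
    rw [hex.mul_mul_mul_comm, mul_self hD.1 hxD, mul_self hE.1 he, one_mul]; exact one_mem V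
  apply hsep x hxD e he
  refine mem_of_central_mod C hD (fun f hf => ?_) hxsim
  set π := QuotientGroup.mk' V
  have hπ : ∀ {g : G}, π g = 1 ↔ g ∈ V := fun {g} => QuotientGroup.eq_one_iff g
  suffices h : π f * π (x * e) = π (x * e) * π f by
    apply hπ.mp
    simp only [map_mul, map_inv] at h ⊢
    rw [mul_inv_eq_one, mul_inv_eq_iff_eq_mul]
    exact h
  by_cases hfs : f * e * (f * e) ∈ V
  · have hxf : Commute x f := by
      by_contra hn
      have h1 := M_conj (g := f) hue
      have hco : e⁻¹ * (f * e * f⁻¹) ∈ V := by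
        have e1 : e⁻¹ * (f * e * f⁻¹) = e⁻¹ * (f * e * (f * e)) * e := by
          rw [inv_self hD.1 hf, inv_self hE.1 he]
          simp only [mul_assoc, mul_self hE.1 he, mul_one]
        rw [e1]
        exact Subgroup.Normal.conj_mem' ‹_› _ hfs e
      have hfu : ρ f u ∈ M e := M_congr (by simpa using inv_mem hco) h1
      have hne0 : u + ρ f u ≠ 0 := fun h0 =>
        hu0 (eq_zero_of_fix C hD hxD hf hn hux (eq_of_add C h0).symm)
      have hV := hone y hy hns f hf hfs (u + ρ f u) hne0 ⟨u, by abel⟩ (M_add hue hfu)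
      refine hn (commute_of_mod C hD hxD hf ?_)
      exact mul_mem hV hV
    have hcf : π f * π e = π e * π f := by
      have h1 := hπ.mpr hfs
      simp only [map_mul] at h1
      calc π f * π e = (π f * π e)⁻¹ := eq_inv_of_mul_eq_one_left h1
        _ = π e * π f := by rw [mul_inv_rev, ← map_inv, ← map_inv, inv_self hE.1 he, inv_self hD.1 hf]
    rw [map_mul, ← mul_assoc, ← map_mul π f x, ← hxf.eq, map_mul, mul_assoc, hcf, ← mul_assoc]
  · obtain ⟨hxD', hex', -, hzf, v, hvx, hve, hv0⟩ := third C hD hE hsep he hf hfs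
    have hxsim' : f * e * f * e * f * e * (f * e * f * e * f * e) ∈ V := by
      rw [hex'.mul_mul_mul_comm, mul_self hD.1 hxD', mul_self hE.1 he, one_mul]; exact one_mem V
    have hV := hone y hy hns _ hxD' hxsim' v hv0 hvx hve
    have hxx : π x = π (f * e * f * e * f) := by
      have h1 := hπ.mpr hV
      rw [map_mul] at h1
      rw [eq_inv_of_mul_eq_one_left h1, ← map_inv, inv_self hD.1 hxD']
    rw [map_mul π x e, hxx, ← map_mul, ← map_mul, ← map_mul, hzf.eq]

end Separated

/-- The class of 3-transpositions is unique. -/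
theorem eq_class [Finite G] (C : Ctx V) {D E : Set G} (hD : IsThreeTranspositionClass D)
    (hE : IsThreeTranspositionClass E) : E = D := by
  suffices h : ∃ e ∈ E, e ∈ D by
    obtain ⟨e, heE, heD⟩ := h
    obtain ⟨e0, -, he0⟩ := hE.2.1
    obtain ⟨d0, -, hd0⟩ := hD.2.1
    subst he0 hd0
    exact (show IsConj e0 e from heE).conjugatesOf_eq.trans
      (show IsConj d0 e from heD).conjugatesOf_eq.symm
  by_contra hno
  push Not at hno
  obtain ⟨e, he, -⟩ := hE.2.1
  exact false_of_separated C hD hE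
    (fun x hx e' he' h => hno e' he' (mem_of_coset C hD hE hx he' h)) he

end Cfsg.Agent.ThreeTransUnique73
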