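import Mathlib
import Cfsg.Prelude.Def_SporadicB
import Cfsg.Agent.Lib.ComponentsBasic
import Cfsg.Agent.Lib.WidthOne

/-!
Fischer's theory of 3-transposition groups, first part: elementary relations between the
transpositions, the kernel argument for invariant relations with the module property, and two
consequences for a group without solvable normal subgroups in its derived group: transpositions
with the same commuting sets are equal, and (if the derived group is perfect) any two
transpositions commute with a common transposition.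
-/

set_option autoImplicit false

namespace Cfsg.Agent.ThreeTransp

open scoped Pointwise commutatorElement

variable {G : Type*} [Group G] {D : Set G}

/-- Working form of a generating conjugacy class of 3-transpositions. -/
structure TC (D : Set G) : Prop where
  sq : ∀ a ∈ D, a * a = 1
  or3 : ∀ a ∈ D, ∀ b ∈ D, Commute a b ∨ (a * b) ^ 3 = 1
  conj : ∀ g : G, ∀ d ∈ D, g * d * g⁻¹ ∈ D
  gen : Subgroup.closure D = ⊤
  trans : ∀ a ∈ D, ∀ b ∈ D, ∃ g : G, g * a * g⁻¹ = b
  nonempty : D.Nonempty

theorem tc_of_class (hD : Cfsg.IsThreeTranspositionClass D) : TC D := by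
  obtain ⟨⟨ho, h3⟩, ⟨d, hd, hc⟩, hgen⟩ := hD
  have hsq : ∀ a ∈ D, a * a = 1 := fun a ha => by
    rw [← pow_two, ← ho a ha, pow_orderOf_eq_one]
  refine ⟨hsq, fun a ha b hb => ?_, fun g x hx => ?_, hgen, fun a ha b hb => ?_, d, hd⟩
  · rcases h3 a ha b hb with h | h
    · refine Or.inl ?_
      rw [pow_two] at h
      calc a * b = (a * b)⁻¹ := (inv_eq_of_mul_eq_one_right h).symm
        _ = b * a := by
          rw [mul_inv_rev, inv_eq_of_mul_eq_one_right (hsq a ha),
            inv_eq_of_mul_eq_one_right (hsq b hb)]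
    · exact Or.inr h
  · rw [hc] at hx ⊢
    exact isConj_iff.mpr ⟨g * (isConj_iff.mp hx).choose, by
      conv_rhs => rw [← (isConj_iff.mp hx).choose_spec]
      group⟩
  · rw [hc] at ha hb
    exact isConj_iff.mp ((IsConj.symm ha).trans hb)

/-- The transpositions other than `a` commuting with `a`. -/
def Dx (D : Set G) (a : G) : Set G := {y | y ∈ D ∧ y ≠ a ∧ Commute a y}

theorem commute_conj_iff {g a b : G} :
    Commute (g * a * g⁻¹) (g * b * g⁻¹) ↔ Commute a b := by
  constructor
  · intro h
    have h' := h.eq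
    refine mul_left_cancel (a := g) (mul_right_cancel (b := g⁻¹) ?_)
    calc g * (a * b) * g⁻¹ = g * a * g⁻¹ * (g * b * g⁻¹) := by group
      _ = g * b * g⁻¹ * (g * a * g⁻¹) := h'
      _ = g * (b * a) * g⁻¹ := by group
  · intro h
    show g * a * g⁻¹ * (g * b * g⁻¹) = g * b * g⁻¹ * (g * a * g⁻¹)
    calc g * a * g⁻¹ * (g * b * g⁻¹) = g * (a * b) * g⁻¹ := by group
      _ = g * (b * a) * g⁻¹ := by rw [h.eq]
      _ = _ := by group

theorem conj_inj {g a b : G} (h : g * a * g⁻¹ = g * b * g⁻¹) : a = b :=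
  mul_left_cancel (mul_right_cancel h)

namespace TC

variable (h : TC D)
include h

theorem inv_eq {a : G} (ha : a ∈ D) : a⁻¹ = a := inv_eq_of_mul_eq_one_right (h.sq a ha)

theorem refl_mem {a b : G} (ha : a ∈ D) (hb : b ∈ D) : a * b * a ∈ D := by
  have := h.conj a b hb
  rwa [h.inv_eq ha] at this

theorem fix {a b : G} (ha : a ∈ D) (hc : Commute a b) : a * b * a = b := by
  rw [hc.eq, mul_assoc, h.sq a ha, mul_one]

theorem refl_refl {a : G} (ha : a ∈ D) (x : G) : a * (a * x * a) * a = x := by
  calc a * (a * x * a) * a = (a * a) * x * (a * a) := by group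
    _ = x := by rw [h.sq a ha, one_mul, mul_one]

theorem braid {a b : G} (ha : a ∈ D) (hb : b ∈ D) (hn : ¬ Commute a b) :
    a * b * a = b * a * b := by
  have h3 := (h.or3 a ha b hb).resolve_left hn
  rw [pow_succ, pow_two] at h3
  calc a * b * a = a * b * (a * b) * (a * b) * (b⁻¹ * a⁻¹ * b⁻¹) := by group
    _ = b * a * b := by rw [h3, one_mul, h.inv_eq ha, h.inv_eq hb]

theorem not_commute_third {a b : G} (ha : a ∈ D) (hn : ¬ Commute a b) :
    ¬ Commute a (a * b * a) := by
  intro hc
  apply hn
  have := h.fix ha hc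
  rw [h.refl_refl ha] at this
  show a * b = b * a
  calc a * b = a * (a * b * a) := by rw [← this]
    _ = (a * a) * (b * a) := by group
    _ = b * a := by rw [h.sq a ha, one_mul]

theorem dx_conj (g a : G) : Dx D (g * a * g⁻¹) = (fun x => g * x * g⁻¹) '' Dx D a := by
  ext y
  constructor
  · rintro ⟨hy, hne, hc⟩
    have e : g * (g⁻¹ * y * g) * g⁻¹ = y := by group
    refine ⟨g⁻¹ * y * g, ⟨?_, fun e' => hne ?_, ?_⟩, e⟩
    · have := h.conj g⁻¹ y hy
      rwa [inv_inv] at this
    · rw [← e, e']
    · rw [← e] at hc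
      exact commute_conj_iff.mp hc
  · rintro ⟨z, ⟨hz, hne, hc⟩, rfl⟩
    exact ⟨h.conj g z hz, fun e => hne (conj_inj e), commute_conj_iff.mpr hc⟩

theorem ncard_dx {a b : G} (ha : a ∈ D) (hb : b ∈ D) : (Dx D a).ncard = (Dx D b).ncard := by
  obtain ⟨g, rfl⟩ := h.trans a ha b hb
  rw [h.dx_conj g a, Set.ncard_image_of_injective _ fun _ _ e => conj_inj e]

/-- Inside the symmetric group of degree four generated by two commuting transpositions and one
commuting with neither, some element fixes the middle one and carries one end to the other. -/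
theorem swap_ends {a b c : G} (ha : a ∈ D) (hb : b ∈ D) (hc : c ∈ D) (hab : Commute a b)
    (hac : ¬ Commute a c) (hbc : ¬ Commute b c) :
    ∃ g : G, g * c * g⁻¹ = c ∧ g * a * g⁻¹ = b := by
  have e1 : c * a * c = a * c * a := (h.braid ha hc hac).symm
  have e2 : c * b * c = b * c * b := (h.braid hb hc hbc).symm
  set u := a * (b * c * b) * a with hu
  have huD : u ∈ D := h.refl_mem ha (h.refl_mem hb hc)
  have huc : u * c = c * u := by
    have h1 : u * c * (u * c) = 1 := by
      calc u * c * (u * c) = a * (b * c * b) * a * c * a * (b * c * b) * a * c := by rw [hu]; group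
        _ = a * (c * b * c) * (a * c * a) * (c * b * c) * a * c := by rw [e2]; group
        _ = a * (c * b * c) * (c * a * c) * (c * b * c) * a * c := by rw [← e1]
        _ = a * c * b * (c * c) * a * (c * c) * b * c * a * c := by group
        _ = a * c * (b * a * b) * c * a * c := by rw [h.sq c hc]; group
        _ = a * c * a * c * a * c := by rw [h.fix hb hab.symm]
        _ = (a * c) ^ 3 := by rw [pow_succ, pow_two]; group
        _ = 1 := (h.or3 a ha c hc).resolve_left hac
    calc u * c = (u * c)⁻¹ := (inv_eq_of_mul_eq_one_right h1).symm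
      _ = c * u := by rw [mul_inv_rev, h.inv_eq huD, h.inv_eq hc]
  refine ⟨u * c, ?_, ?_⟩
  · calc u * c * c * (u * c)⁻¹ = c * u * (c * (u * c)⁻¹) := by rw [← huc]; group
      _ = c * u * (c * (c * u)⁻¹) := by rw [huc]
      _ = c := by
          rw [mul_inv_rev, h.inv_eq huD, h.inv_eq hc]
          calc c * u * (c * (u * c)) = c * (u * c * (u * c)) := by group
            _ = c * ((c * u) * (u * c)) := by rw [huc]
            _ = c * (c * (u * u) * c) := by group
            _ = c := by rw [h.sq u huD, mul_one, h.sq c hc, mul_one]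
  · calc u * c * a * (u * c)⁻¹ = u * (c * a * c) * u := by
          rw [mul_inv_rev, h.inv_eq huD, h.inv_eq hc]; group
      _ = a * (b * c * b) * a * (a * c * a) * (a * (b * c * b) * a) := by rw [e1, hu]
      _ = a * (b * c * b) * (a * a) * c * (a * a) * (b * c * b) * a := by group
      _ = a * (b * c * (b * c * b) * c * b) * a := by rw [h.sq a ha]; group
      _ = a * (b * c * (c * b * c) * c * b) * a := by rw [← e2]
      _ = a * (b * (c * c) * b * (c * c) * b) * a := by group
      _ = a * b * a := by rw [h.sq c hc, mul_one, mul_one, h.sq b hb, one_mul]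
      _ = b := h.fix ha hab

end TC

/-! ### Invariant relations with the module property -/

/-- An invariant equivalence relation on `D` for which two related transpositions commute with
the same unrelated transpositions. -/
structure Rel (D : Set G) (r : G → G → Prop) : Prop where
  refl : ∀ a ∈ D, r a a
  symm : ∀ a ∈ D, ∀ b ∈ D, r a b → r b a
  trans : ∀ a ∈ D, ∀ b ∈ D, ∀ c ∈ D, r a b → r b c → r a c
  equiv : ∀ g : G, ∀ a ∈ D, ∀ b ∈ D, r a b → r (g * a * g⁻¹) (g * b * g⁻¹)
  module : ∀ a ∈ D, ∀ b ∈ D, ∀ d ∈ D, r a b → Commute d a → ¬ r d a → Commute d b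

/-- The class of `a`. -/
def cls (D : Set G) (r : G → G → Prop) (a : G) : Set G := {u | u ∈ D ∧ r a u}

/-- The subgroup generated by the products within the class of `a`. -/
def evn (D : Set G) (r : G → G → Prop) (a : G) : Subgroup G :=
  Subgroup.closure {y | ∃ u ∈ cls D r a, ∃ v ∈ cls D r a, y = u * v}

namespace Rel

variable {r : G → G → Prop} (h : TC D) (hr : Rel D r)
include h hr

theorem refl_equiv {c a b : G} (hc : c ∈ D) (ha : a ∈ D) (hb : b ∈ D) (hab : r a b) :
    r (c * a * c) (c * b * c) := by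
  have := hr.equiv c a ha b hb hab
  rwa [h.inv_eq hc] at this

/-- A product of two related transpositions fixes every class. -/
theorem prod_fixes {a b c : G} (ha : a ∈ D) (hb : b ∈ D) (hc : c ∈ D) (hab : r a b) :
    r c ((a * b) * c * (a * b)⁻¹) := by
  have hval : (a * b) * c * (a * b)⁻¹ = a * (b * c * b) * a := by
    rw [mul_inv_rev, h.inv_eq ha, h.inv_eq hb]; group
  rw [hval]
  have hbcb := h.refl_mem hb hc
  -- it suffices that `a c a` is related to `b c b`
  suffices hs : r (a * c * a) (b * c * b) by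
    have := refl_equiv h hr ha (h.refl_mem ha hc) hbcb hs
    rwa [h.refl_refl ha] at this
  by_cases hrc : r a c
  · have h1 := refl_equiv h hr ha ha hc hrc
    have e1 : a * a * a = a := by rw [h.sq a ha, one_mul]
    have e2 : b * b * b = b := by rw [h.sq b hb, one_mul]
    have h2 := refl_equiv h hr hb hb hc (hr.trans b hb a ha c hc (hr.symm a ha b hb hab) hrc)
    rw [e1] at h1
    rw [e2] at h2
    exact hr.trans _ (h.refl_mem ha hc) a ha _ hbcb (hr.symm _ ha _ (h.refl_mem ha hc) h1)
      (hr.trans _ ha _ hb _ hbcb hab h2)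
  by_cases hcom : Commute a c
  · have hbc : Commute b c :=
      (hr.module a ha b hb c hc hab hcom.symm fun e => hrc (hr.symm c hc a ha e)).symm
    rw [h.fix ha hcom, h.fix hb hbc]
    exact hr.refl c hc
  · have hbc : ¬ Commute b c := fun e => hcom (hr.module b hb a ha c hc (hr.symm a ha b hb hab)
      e.symm (fun e' => hrc (hr.trans a ha b hb c hc hab (hr.symm c hc b hb e')))).symm
    rw [h.braid ha hc hcom, h.braid hb hc hbc]
    exact refl_equiv h hr hc ha hb hab

omit hr in
theorem cls_conj (hr : Rel D r) {g a : G} (ha : a ∈ D) :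
    cls D r (g * a * g⁻¹) = (fun x => g * x * g⁻¹) '' cls D r a := by
  ext y
  constructor
  · rintro ⟨hy, hry⟩
    refine ⟨g⁻¹ * y * g, ⟨by simpa using h.conj g⁻¹ y hy, ?_⟩, by group⟩
    have := hr.equiv g⁻¹ _ (h.conj g a ha) y hy hry
    rw [inv_inv] at this
    convert this using 1
    group
  · rintro ⟨z, ⟨hz, hrz⟩, rfl⟩
    exact ⟨h.conj g z hz, hr.equiv g a ha z hz hrz⟩

theorem cls_eq {a b : G} (ha : a ∈ D) (hb : b ∈ D) (hab : r a b) : cls D r a = cls D r b :=
  Set.ext fun y =>
    ⟨fun hy => ⟨hy.1, hr.trans b hb a ha y hy.1 (hr.symm a ha b hb hab) hy.2⟩,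
      fun hy => ⟨hy.1, hr.trans a ha b hb y hy.1 hab hy.2⟩⟩

theorem evn_conj {g a : G} (ha : a ∈ D) :
    evn D r (g * a * g⁻¹) = (evn D r a).map ((MulAut.conj g : G ≃* G) : G →* G) := by
  rw [evn, evn, MonoidHom.map_closure, cls_conj h hr ha]
  congr 1
  ext y
  constructor
  · rintro ⟨_, ⟨u, hu, rfl⟩, _, ⟨v, hv, rfl⟩, rfl⟩
    exact ⟨u * v, ⟨u, hu, v, hv, rfl⟩, by simp [MulAut.conj_apply, mul_assoc]⟩
  · rintro ⟨_, ⟨u, hu, v, hv, rfl⟩, rfl⟩
    exact ⟨_, ⟨u, hu, rfl⟩, _, ⟨v, hv, rfl⟩, by simp [MulAut.conj_apply, mul_assoc]⟩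

/-- Kernel argument: if every class generates a solvable group of even words then the classes are
trivial in a group without solvable normal subgroups inside the derived group. -/
theorem eq_of_solvable [Finite G]
    (hsol : ∀ N : Subgroup G, N.Normal → Group.IsSolvable ↥N → N ≤ commutator G → N = ⊥)
    (hcls : ∀ a ∈ D, Group.IsSolvable ↥(evn D r a)) {a b : G} (ha : a ∈ D) (hb : b ∈ D)
    (hab : r a b) : a = b := by
  classical
  set M := Subgroup.closure {y : G | ∃ u ∈ D, ∃ v ∈ D, r u v ∧ y = u * v} with hM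
  have hMn : M.Normal := ⟨fun m hm g => by
    have hle : M ≤ M.comap (MulAut.conj g).toMonoidHom := by
      rw [hM, Subgroup.closure_le]
      rintro _ ⟨u, hu, v, hv, huv, rfl⟩
      exact Subgroup.subset_closure ⟨g * u * g⁻¹, h.conj g u hu, g * v * g⁻¹, h.conj g v hv,
        hr.equiv g u hu v hv huv, by simp [MulAut.conj_apply, mul_assoc]⟩
    exact hle hm⟩
  have hNle : ∀ c ∈ D, evn D r c ≤ M := by
    intro c hc
    rw [evn, Subgroup.closure_le]
    rintro _ ⟨u, hu, v, hv, rfl⟩
    exact Subgroup.subset_closure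
      ⟨u, hu.1, v, hv.1, hr.trans u hu.1 c hc v hv.1 (hr.symm c hc u hu.1 hu.2) hv.2, rfl⟩
  have hNn : ∀ c ∈ D, M ≤ Subgroup.normalizer (evn D r c : Set G) := by
    intro c hc
    rw [hM, Subgroup.closure_le]
    rintro _ ⟨u, hu, v, hv, huv, rfl⟩
    rw [SetLike.mem_coe, Subgroup.mem_normalizer_iff_map_conj_eq, ← evn_conj h hr hc]
    have := cls_eq h hr hc (h.conj (u * v) c hc) (prod_fixes h hr hu hv hc huv)
    rw [evn, evn, this]
  -- a largest solvable subgroup normalised by `M` and generated by classes is all of `M`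
  have hmax : ∀ s : Finset G, (∀ c ∈ s, c ∈ D) → Group.IsSolvable ↥(s.sup (evn D r)) ∧
      M ≤ Subgroup.normalizer ((s.sup (evn D r) : Subgroup G) : Set G) := by
    intro s
    induction s using Finset.induction_on with
    | empty =>
      intro _
      rw [Finset.sup_empty]
      exact ⟨inferInstance, by rw [Subgroup.normalizer_eq_top_iff.mpr inferInstance]; exact le_top⟩
    | insert c s _ ih =>
      intro hs
      obtain ⟨hsolv, hnorm⟩ := ih fun x hx => hs x (Finset.mem_insert_of_mem hx)
      have hc := hs c (Finset.mem_insert_self c s)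
      rw [Finset.sup_insert]
      set A := evn D r c
      set B := s.sup (evn D r)
      refine ⟨?_, fun m hm => ?_⟩
      · have hAn : A ≤ Subgroup.normalizer (B : Set G) := (hNle c hc).trans hnorm
        have hsupn : A ⊔ B ≤ Subgroup.normalizer (B : Set G) := sup_le hAn Subgroup.le_normalizer
        haveI : (B.subgroupOf (A ⊔ B)).Normal :=
          (Subgroup.normal_subgroupOf_iff_le_normalizer le_sup_right).mpr hsupn
        haveI := hcls c hc
        haveI := hsolv
        haveI : Group.IsSolvable ↥(B.subgroupOf (A ⊔ B)) :=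
          Group.isSolvable_of_surjective
            (f := (Subgroup.subgroupOfEquivOfLe (le_sup_right : B ≤ A ⊔ B)).symm.toMonoidHom)
            (MulEquiv.surjective _)
        haveI : Group.IsSolvable (↥(A ⊔ B) ⧸ B.subgroupOf (A ⊔ B)) := by
          refine Group.isSolvable_of_surjective
            (f := (QuotientGroup.mk' (B.subgroupOf (A ⊔ B))).comp
              (Subgroup.inclusion (le_sup_left : A ≤ A ⊔ B))) fun q => ?_
          induction q using QuotientGroup.induction_on with
          | H x =>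
            have hx : (x : G) ∈ (↑A * ↑B : Set G) := by
              rw [← Subgroup.coe_mul_of_left_le_normalizer_right A B hAn]; exact x.2
            obtain ⟨y, hy, z, hz, hxyz⟩ := hx
            refine ⟨⟨y, hy⟩, ?_⟩
            rw [MonoidHom.comp_apply, QuotientGroup.mk'_apply, QuotientGroup.eq,
              Subgroup.mem_subgroupOf]
            simp only [Subgroup.coe_mul, Subgroup.coe_inv, Subgroup.coe_inclusion]
            rw [← hxyz]; simpa using hz
        exact (Group.isSolvable_iff_subgroup_quotient (B.subgroupOf (A ⊔ B))).mpr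
          ⟨inferInstance, inferInstance⟩
      · rw [Subgroup.mem_normalizer_iff_map_conj_eq, Subgroup.map_sup,
          Subgroup.mem_normalizer_iff_map_conj_eq.mp (hNn c hc hm),
          Subgroup.mem_normalizer_iff_map_conj_eq.mp (hnorm hm)]
  have hfin : D.Finite := Set.toFinite D
  obtain ⟨hsolM, -⟩ := hmax hfin.toFinset fun c hc => hfin.mem_toFinset.mp hc
  have hMeq : M = hfin.toFinset.sup (evn D r) := by
    refine le_antisymm ?_ (Finset.sup_le fun c hc => hNle c (hfin.mem_toFinset.mp hc))
    rw [hM, Subgroup.closure_le]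
    rintro _ ⟨u, hu, v, hv, huv, rfl⟩
    exact Finset.le_sup (f := evn D r) (hfin.mem_toFinset.mpr hu)
      (Subgroup.subset_closure ⟨u, ⟨hu, hr.refl u hu⟩, v, ⟨hv, huv⟩, rfl⟩)
  have hMc : M ≤ commutator G := by
    rw [hM, Subgroup.closure_le]
    rintro _ ⟨u, hu, v, hv, -, rfl⟩
    obtain ⟨g, rfl⟩ := h.trans u hu v hv
    have : u * (g * u * g⁻¹) = ⁅u, g⁆ := by
      rw [commutatorElement_def, h.inv_eq hu]; group
    rw [SetLike.mem_coe, this]
    exact Subgroup.commutator_mem_commutator (Subgroup.mem_top u) (Subgroup.mem_top g)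
  have hbot := hsol M hMn (hMeq ▸ hsolM) hMc
  have hmem : a * b ∈ M := Subgroup.subset_closure ⟨a, ha, b, hb, hab, rfl⟩
  rw [hbot, Subgroup.mem_bot] at hmem
  rw [← h.inv_eq ha]
  exact inv_eq_of_mul_eq_one_right hmem

/-- Classes of pairwise non-commuting transpositions generate solvable groups. -/
theorem evn_solvable_of_noncommuting [Finite G] {a : G} (ha : a ∈ D)
    (hn : ∀ u ∈ cls D r a, ∀ v ∈ cls D r a, u ≠ v → ¬ Commute u v) :
    Group.IsSolvable ↥(evn D r a) := by
  set H := Subgroup.closure (cls D r a) with hH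
  set S : Set ↥H := {s | (s : G) ∈ cls D r a} with hS
  have hrefl : ∀ u ∈ cls D r a, ∀ v ∈ cls D r a, u * v * u ∈ cls D r a := by
    intro u hu v hv
    refine ⟨h.refl_mem hu.1 hv.1, ?_⟩
    have huv : r u v := hr.trans u hu.1 a ha v hv.1 (hr.symm a ha u hu.1 hu.2) hv.2
    have := refl_equiv h hr hu.1 hu.1 hv.1 huv
    rw [h.sq u hu.1, one_mul] at this
    exact hr.trans a ha u hu.1 _ (h.refl_mem hu.1 hv.1) hu.2 this
  have hw : WidthOne.Hyp S := by
    refine ⟨fun s hs => Subtype.ext (h.sq _ hs.1), fun s hs t ht => Subtype.ext ?_, fun s hs t ht =>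
      hrefl _ hs _ ht⟩
    by_cases e : (s : G) = t
    · simp [e, h.sq _ ht.1]
    · simpa using (h.or3 _ hs.1 _ ht.1).resolve_left (hn _ hs _ ht e)
  have hnorm : ∀ g : ↥H, ∀ s ∈ S, g * s * g⁻¹ ∈ S := by
    have hgen : Subgroup.closure S = ⊤ := Subgroup.closure_closure_coe_preimage
    intro g
    have hg : g ∈ Subgroup.closure S := hgen ▸ Subgroup.mem_top g
    induction hg using Subgroup.closure_induction'' with
    | mem x hx =>
      intro s hs
      rw [inv_eq_of_mul_eq_one_right (hw.sq x hx)]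
      exact hw.conj x hx s hs
    | inv_mem x hx =>
      intro s hs
      rw [inv_inv, inv_eq_of_mul_eq_one_right (hw.sq x hx)]
      exact hw.conj x hx s hs
    | one => intro s hs; simpa using hs
    | mul x y _ _ hx hy =>
      intro s hs
      have e := hx _ (hy s hs)
      convert e using 1
      group
  haveI := WidthOne.even_solvable hw hnorm
  have hle : evn D r a = (Subgroup.closure {y : ↥H | ∃ s ∈ S, ∃ t ∈ S, y = s * t}).map H.subtype := by
    rw [evn, MonoidHom.map_closure]
    congr 1
    ext y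
    constructor
    · rintro ⟨u, hu, v, hv, rfl⟩
      exact ⟨⟨u, Subgroup.subset_closure hu⟩ * ⟨v, Subgroup.subset_closure hv⟩,
        ⟨_, hu, _, hv, rfl⟩, rfl⟩
    · rintro ⟨_, ⟨s, hs, t, ht, rfl⟩, rfl⟩
      exact ⟨s, hs, t, ht, rfl⟩
  rw [hle]
  exact Group.isSolvable_of_surjective (f := H.subtype.subgroupMap _)
    (MonoidHom.subgroupMap_surjective _ _)

end Rel

variable [Finite G] (h : TC D)
  (hsol : ∀ N : Subgroup G, N.Normal → Group.IsSolvable ↥N → N ≤ commutator G → N = ⊥)

include h hsol in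
/-- Transpositions with the same commuting sets are equal. -/
theorem eq_of_dx_eq {a b : G} (ha : a ∈ D) (hb : b ∈ D) (he : Dx D a = Dx D b) : a = b := by
  have hr : Rel D (fun u v => Dx D u = Dx D v) :=
    ⟨fun _ _ => rfl, fun _ _ _ _ e => e.symm, fun _ _ _ _ _ _ e e' => e.trans e',
      fun g u _ v _ e => by simp only [h.dx_conj, e],
      fun u hu v hv d hd e hc hn => by
        have : d ∈ Dx D u := ⟨hd, fun e' => hn (e' ▸ rfl), hc.symm⟩
        rw [e] at this
        exact this.2.2.symm⟩
  refine Rel.eq_of_solvable h hr hsol (fun c hc => ?_) ha hb he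
  refine Rel.evn_solvable_of_noncommuting h hr hc fun u hu v hv hne hcom => ?_
  have : v ∈ Dx D u := ⟨hv.1, hne.symm, hcom⟩
  rw [← hu.2, hv.2] at this
  exact this.2.1 rfl

/-- Related when some transposition commutes with both. -/
def Near (D : Set G) (u v : G) : Prop := ∃ d ∈ D, Commute d u ∧ Commute d v

omit [Finite G] in
include h in
theorem near_step {u d e w : G} (hu : u ∈ D) (hd : d ∈ D) (he : e ∈ D) (hw : w ∈ D)
    (h1 : Commute u d) (h2 : Commute d e) (h3 : Commute e w) : Near D u w := by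
  by_cases huw : Commute u w
  · exact ⟨u, hu, Commute.refl u, huw⟩
  by_cases hdw : Commute d w
  · exact ⟨d, hd, h1.symm, hdw⟩
  obtain ⟨g, hgw, hgd⟩ := h.swap_ends hd hu hw h1.symm hdw huw
  refine ⟨g * e * g⁻¹, h.conj g e he, ?_, ?_⟩
  · rw [← hgd]; exact commute_conj_iff.mpr h2.symm
  · rw [← hgw]; exact commute_conj_iff.mpr h3

include h in
/-- With a perfect derived group any two transpositions commute with a common one. -/
theorem near_all (hperf : ⁅commutator G, commutator G⁆ = commutator G) {a b : G} (ha : a ∈ D)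
    (hb : b ∈ D) : Near D a b := by
  have hr : Rel D (Near D) := by
    refine ⟨fun u hu => ⟨u, hu, Commute.refl u, Commute.refl u⟩,
      fun u _ v _ ⟨d, hd, h1, h2⟩ => ⟨d, hd, h2, h1⟩, fun u hu v hv w hw ⟨d, hd, h1, h2⟩ ⟨e, he, h3, h4⟩ => ?_,
      fun g u _ v _ ⟨d, hd, h1, h2⟩ =>
        ⟨g * d * g⁻¹, h.conj g d hd, commute_conj_iff.mpr h1, commute_conj_iff.mpr h2⟩,
      fun u hu v hv d hd _ hc hn => absurd ⟨d, hd, Commute.refl d, hc⟩ hn⟩
    obtain ⟨f, hf, h5, h6⟩ := near_step h hd hv he hw h2 h3.symm h4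
    exact near_step h hu hd hf hw h1.symm h5.symm h6
  -- the kernel of the action on the classes
  set K : Subgroup G :=
    { carrier := {g | ∀ d ∈ D, Near D d (g * d * g⁻¹)}
      one_mem' := fun d hd => by simpa using hr.refl d hd
      mul_mem' := fun {x y} hx hy d hd => by
        have h1 := hx _ (h.conj y d hd)
        have e : x * (y * d * y⁻¹) * x⁻¹ = x * y * d * (x * y)⁻¹ := by group
        rw [e] at h1
        exact hr.trans d hd _ (h.conj y d hd) _ (h.conj (x * y) d hd) (hy d hd) h1
      inv_mem' := fun {x} hx d hd => by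
        have h1 := hx _ (h.conj x⁻¹ d hd)
        have e : x * (x⁻¹ * d * x⁻¹⁻¹) * x⁻¹ = d := by group
        rw [e] at h1
        exact hr.symm _ (h.conj x⁻¹ d hd) d hd h1 } with hK
  haveI hKn : K.Normal := ⟨fun k hk g d hd => by
    have h1 := hr.equiv g _ (h.conj g⁻¹ d hd) _ (h.conj k _ (h.conj g⁻¹ d hd))
      (hk _ (h.conj g⁻¹ d hd))
    convert h1 using 1 <;> group⟩
  set S : Set (G ⧸ K) := (QuotientGroup.mk' K) '' D with hS
  have hw : WidthOne.Hyp S := by
    refine ⟨?_, ?_, ?_⟩
    · rintro _ ⟨s, hs, rfl⟩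
      rw [← map_mul, h.sq s hs, map_one]
    · rintro _ ⟨s, hs, rfl⟩ _ ⟨t, ht, rfl⟩
      rw [← map_mul, ← map_pow]
      rcases h.or3 s hs t ht with hc | h3
      · have hmem : s * t ∈ K := fun d hd =>
          Rel.prod_fixes h hr hs ht hd ⟨s, hs, Commute.refl s, hc⟩
        exact (QuotientGroup.eq_one_iff _).mpr (pow_mem hmem 3)
      · rw [h3, map_one]
    · rintro _ ⟨s, hs, rfl⟩ _ ⟨t, ht, rfl⟩
      exact ⟨s * t * s, h.refl_mem hs ht, by simp⟩
  have hn : ∀ g : G ⧸ K, ∀ s ∈ S, g * s * g⁻¹ ∈ S := by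
    rintro g _ ⟨s, hs, rfl⟩
    induction g using QuotientGroup.induction_on with
    | H g => exact ⟨g * s * g⁻¹, h.conj g s hs, by simp⟩
  set E := Subgroup.closure {y : G ⧸ K | ∃ s ∈ S, ∃ t ∈ S, y = s * t} with hE
  haveI : Group.IsSolvable ↥E := WidthOne.even_solvable hw hn
  obtain ⟨a₀, ha₀⟩ := h.nonempty
  -- the derived group lands in `E`
  have hcomm : (commutator G).map (QuotientGroup.mk' K) ≤ E := by
    rw [commutator_def, Subgroup.map_commutator, Subgroup.map_top_of_surjective _
      (QuotientGroup.mk'_surjective K)]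
    haveI hEn : E.Normal := ⟨fun e he g => by
      have hle : E ≤ E.comap (MulAut.conj g).toMonoidHom := by
        rw [hE, Subgroup.closure_le]
        rintro _ ⟨s, hs, t, ht, rfl⟩
        exact Subgroup.subset_closure ⟨_, hn g s hs, _, hn g t ht, by
          simp [MulAut.conj_apply, mul_assoc]⟩
      exact hle he⟩
    have htop : Subgroup.zpowers (QuotientGroup.mk' E (QuotientGroup.mk' K a₀)) = ⊤ := by
      refine top_le_iff.mp ?_
      rw [← Subgroup.map_top_of_surjective _ (QuotientGroup.mk'_surjective E),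
        ← Subgroup.map_top_of_surjective _ (QuotientGroup.mk'_surjective K), ← h.gen,
        MonoidHom.map_closure, MonoidHom.map_closure, Subgroup.closure_le]
      rintro _ ⟨_, ⟨d, hd, rfl⟩, rfl⟩
      refine Subgroup.mem_zpowers_iff.mpr ⟨1, ?_⟩
      rw [zpow_one]
      refine QuotientGroup.eq.mpr ?_
      show (QuotientGroup.mk' K a₀)⁻¹ * QuotientGroup.mk' K d ∈ E
      rw [inv_eq_of_mul_eq_one_right (hw.sq _ ⟨a₀, ha₀, rfl⟩)]
      exact Subgroup.subset_closure ⟨_, ⟨a₀, ha₀, rfl⟩, _, ⟨d, hd, rfl⟩, rfl⟩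
    rw [Subgroup.commutator_le]
    intro x _ y _
    rw [← QuotientGroup.eq_one_iff, ← QuotientGroup.mk'_apply, map_commutatorElement,
      commutatorElement_eq_one_iff_mul_comm]
    obtain ⟨i, hi⟩ := Subgroup.mem_zpowers_iff.mp (htop ▸ Subgroup.mem_top (QuotientGroup.mk' E x))
    obtain ⟨j, hj⟩ := Subgroup.mem_zpowers_iff.mp (htop ▸ Subgroup.mem_top (QuotientGroup.mk' E y))
    rw [← hi, ← hj]
    exact zpow_mul_comm _ i j
  have hGK : commutator G ≤ K := by
    have hp2 : ⁅(commutator G).map (QuotientGroup.mk' K), (commutator G).map (QuotientGroup.mk' K)⁆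
        = (commutator G).map (QuotientGroup.mk' K) := by rw [← Subgroup.map_commutator, hperf]
    have := ComponentsBasic.perfect_eq_bot_of_le_solvable hp2 hcomm
    rwa [Subgroup.map_eq_bot_iff, QuotientGroup.ker_mk'] at this
  by_cases hc : Commute a b
  · exact ⟨a, ha, Commute.refl a, hc⟩
  obtain ⟨g, hg⟩ := h.trans b hb a ha
  have hmem : b * a ∈ commutator G := by
    have : b * a = ⁅b, g⁆ := by rw [← hg, commutatorElement_def, h.inv_eq hb]; group
    rw [this]
    exact Subgroup.commutator_mem_commutator (Subgroup.mem_top b) (Subgroup.mem_top g)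
  have h1 := hGK hmem a ha
  have e' : b * a * a * (b * a)⁻¹ = b * a * b := by
    rw [mul_inv_rev, h.inv_eq ha, h.inv_eq hb]
    calc b * a * a * (a * b) = b * (a * a) * (a * b) := by group
      _ = b * a * b := by rw [h.sq a ha]; group
  rw [e', ← h.braid ha hb hc] at h1
  have h2 := Rel.refl_equiv h hr ha ha (h.refl_mem ha hb) h1
  rwa [h.sq a ha, one_mul, h.refl_refl ha] at h2

end Cfsg.Agent.ThreeTransp
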