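import Cfsg.Agent.Lib.ThreeTranspBasic
import Cfsg.Agent.Lib.AnisoQuadSolvable

/-!
Fischer's theory of 3-transposition groups, second part: if two commuting classes of an invariant
module relation both fail to commute with a third class, the even words in a class form a
solvable group (two commuting transitive actions are regular, and a finite group all of whose
elements square or cube to one is solvable).
-/

set_option autoImplicit false

namespace Cfsg.Agent.ThreeTransp

variable {G : Type*} [Group G] {D : Set G}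

namespace Rel

variable {r : G → G → Prop} (h : TC D) (hr : Rel D r)
include h hr

/-- `t` and `b` are unrelated and commute, and `y` commutes with neither. -/
def Triple (_h : TC D) (_hr : Rel D r) (t b y : G) : Prop :=
  t ∈ D ∧ b ∈ D ∧ y ∈ D ∧ ¬ r t b ∧ Commute t b ∧ ¬ Commute t y ∧ ¬ Commute b y

theorem triple_unrelated {t b y : G} (ht : t ∈ D) (hb : b ∈ D) (hy : y ∈ D) (hntb : ¬ r t b)
    (hc : Commute t b) (hby : ¬ Commute b y) : ¬ r t y := fun e =>
  hby (hr.module t ht y hy b hb e hc.symm fun e' => hntb (hr.symm b hb t ht e'))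

theorem commute_of_related {t t' b : G} (ht : t ∈ D) (hb : b ∈ D) (ht' : t' ∈ D)
    (hntb : ¬ r t b) (hc : Commute t b) (he : r t t') : Commute t' b :=
  (hr.module t ht t' ht' b hb he hc.symm fun e => hntb (hr.symm b hb t ht e)).symm

theorem not_commute_of_related {t t' y y' : G} (ht : t ∈ D) (ht' : t' ∈ D) (hy : y ∈ D)
    (hy' : y' ∈ D) (hnty : ¬ r t y) (hn : ¬ Commute t y) (he : r t t') (he' : r y y') :
    ¬ Commute t' y' := by
  intro hc
  have hn' : ¬ r t' y' := fun e => hnty (hr.trans t ht t' ht' y hy he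
    (hr.trans t' ht' y' hy' y hy e (hr.symm y hy y' hy' he')))
  have h1 : Commute t y' :=
    commute_of_related h hr ht' hy' ht hn' hc (hr.symm t ht t' ht' he)
  exact hn (commute_of_related h hr hy' ht hy (fun e => hnty
    (hr.trans t ht y' hy' y hy (hr.symm y' hy' t ht e) (hr.symm y hy y' hy' he')))
    h1.symm (hr.symm y hy y' hy' he')).symm

theorem ncard_cls {a b : G} (ha : a ∈ D) (hb : b ∈ D) :
    (cls D r a).ncard = (cls D r b).ncard := by
  obtain ⟨g, rfl⟩ := h.trans a ha b hb
  rw [cls_conj h hr ha, Set.ncard_image_of_injective _ fun _ _ e => conj_inj e]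

/-- The products `t * u` carry a point of the class of `y` to every other one. -/
theorem exists_mover [Finite G] {t y : G} (ht : t ∈ D) (hy : y ∈ D) (hnty : ¬ r t y)
    (hn : ¬ Commute t y) {y1 y2 : G} (h1 : y1 ∈ cls D r y) (h2 : y2 ∈ cls D r y) :
    ∃ u ∈ cls D r t, (t * u) * y1 * (t * u)⁻¹ = y2 := by
  set W := cls D r (t * y * t) with hW
  have hnc : ∀ u ∈ cls D r t, ¬ Commute u y1 := fun u hu =>
    not_commute_of_related h hr ht hu.1 hy h1.1 hnty hn hu.2 h1.2
  have hmaps : ∀ u ∈ cls D r t, u * y1 * u ∈ W := by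
    intro u hu
    refine ⟨h.refl_mem hu.1 h1.1, ?_⟩
    have e1 : r (t * y * t) (t * y1 * t) := refl_equiv h hr ht hy h1.1 h1.2
    have e2 : r (y1 * t * y1) (y1 * u * y1) := refl_equiv h hr h1.1 ht hu.1 hu.2
    rw [h.braid hu.1 h1.1 (hnc u hu)]
    refine hr.trans _ (h.refl_mem ht hy) _ (h.refl_mem ht h1.1) _ (h.refl_mem h1.1 hu.1) e1 ?_
    rwa [h.braid ht h1.1 (hnc t ⟨ht, hr.refl t ht⟩)]
  have hinj : Set.InjOn (fun u => u * y1 * u) (cls D r t) := by
    intro u hu v hv e
    have e' : y1 * u * y1 = y1 * v * y1 := by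
      rw [← h.braid hu.1 h1.1 (hnc u hu), ← h.braid hv.1 h1.1 (hnc v hv)]; exact e
    exact mul_left_cancel (mul_right_cancel e')
  have himg : (fun u => u * y1 * u) '' cls D r t = W := by
    refine Set.eq_of_subset_of_ncard_le (Set.image_subset_iff.mpr hmaps) ?_ (Set.toFinite _)
    rw [Set.ncard_image_of_injOn hinj, hW, ncard_cls h hr (h.refl_mem ht hy) ht]
  have hmem : t * y2 * t ∈ W := ⟨h.refl_mem ht h2.1, refl_equiv h hr ht hy h2.1 h2.2⟩
  rw [← himg] at hmem
  obtain ⟨u, hu, he⟩ := hmem
  refine ⟨u, hu, ?_⟩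
  calc (t * u) * y1 * (t * u)⁻¹ = t * (u * y1 * u⁻¹) * t⁻¹ := by group
    _ = y2 := by
        simp only at he
        rw [h.inv_eq hu.1, h.inv_eq ht, he, h.refl_refl ht]

theorem evn_fixes {t y : G} (ht : t ∈ D) (hy : y ∈ D) {g : G} (hg : g ∈ evn D r t) :
    ∀ y1 ∈ cls D r y, g * y1 * g⁻¹ ∈ cls D r y := by
  induction hg using Subgroup.closure_induction'' with
  | mem x hx =>
    obtain ⟨u, hu, v, hv, rfl⟩ := hx
    intro y1 h1
    exact ⟨h.conj _ y1 h1.1, hr.trans y hy y1 h1.1 _ (h.conj _ y1 h1.1) h1.2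
      (prod_fixes h hr hu.1 hv.1 h1.1
        (hr.trans u hu.1 t ht v hv.1 (hr.symm t ht u hu.1 hu.2) hv.2))⟩
  | inv_mem x hx =>
    obtain ⟨u, hu, v, hv, rfl⟩ := hx
    intro y1 h1
    rw [show (u * v)⁻¹ = v * u by rw [mul_inv_rev, h.inv_eq hu.1, h.inv_eq hv.1]]
    exact ⟨h.conj _ y1 h1.1, hr.trans y hy y1 h1.1 _ (h.conj _ y1 h1.1) h1.2
      (prod_fixes h hr hv.1 hu.1 h1.1
        (hr.trans v hv.1 t ht u hu.1 (hr.symm t ht v hv.1 hv.2) hu.2))⟩
  | one => intro y1 h1; simpa using h1
  | mul a b _ _ ha hb =>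
    intro y1 h1
    have := ha _ (hb y1 h1)
    convert this using 1
    group

theorem evn_commute {t b : G} (ht : t ∈ D) (hb : b ∈ D) (hntb : ¬ r t b) (hc : Commute t b)
    {g : G} (hg : g ∈ evn D r t) : ∀ v ∈ cls D r b, Commute g v := by
  induction hg using Subgroup.closure_induction with
  | mem x hx =>
    obtain ⟨u, hu, v, hv, rfl⟩ := hx
    intro w hw
    have hwc : ∀ z ∈ cls D r t, Commute z w := fun z hz => by
      have h1 := commute_of_related h hr ht hb hz.1 hntb hc hz.2
      exact (commute_of_related h hr hb hz.1 hw.1 (fun e => hntb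
        (hr.trans t ht z hz.1 b hb hz.2 (hr.symm b hb z hz.1 e))) h1.symm hw.2).symm
    exact (hwc u hu).mul_left (hwc v hv)
  | one => intro w _; exact Commute.one_left w
  | mul a c _ _ ha hc' => intro w hw; exact (ha w hw).mul_left (hc' w hw)
  | inv a _ ha => intro w hw; exact (ha w hw).inv_left

/-- The action of `evn t` on the class of `y` has solvable image. -/
theorem quotient_solvable [Finite G] {t b y : G} (hT : Triple h hr t b y)
    (F : Subgroup ↥(evn D r t)) [F.Normal]
    (hF : ∀ g : ↥(evn D r t), g ∈ F ↔ ∀ y1 ∈ cls D r y, (g : G) * y1 * (g : G)⁻¹ = y1) :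
    Group.IsSolvable (↥(evn D r t) ⧸ F) := by
  obtain ⟨ht, hb, hy, hntb, hc, hnt, hnb⟩ := hT
  have hnty := triple_unrelated h hr ht hb hy hntb hc hnb
  have hnby := triple_unrelated h hr hb ht hy (fun e => hntb (hr.symm b hb t ht e)) hc.symm hnt
  have hkey : ∀ q : ↥(evn D r t) ⧸ F, q ^ 2 = 1 ∨ q ^ 3 = 1 := by
    intro q
    induction q using QuotientGroup.induction_on with
    | H g =>
      have hyy : y ∈ cls D r y := ⟨hy, hr.refl y hy⟩
      obtain ⟨u, hu, he⟩ :=
        exists_mover h hr ht hy hnty hnt hyy (evn_fixes h hr ht hy g.2 y hyy)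
      have htu : t * u ∈ evn D r t :=
        Subgroup.subset_closure ⟨t, ⟨ht, hr.refl t ht⟩, u, hu, rfl⟩
      set k : ↥(evn D r t) := ⟨t * u, htu⟩ with hk
      -- `k⁻¹ g` fixes `y`, hence the whole class
      have hmem : k⁻¹ * g ∈ F := by
        rw [hF]
        intro y1 h1
        obtain ⟨v, hv, hv'⟩ := exists_mover h hr hb hy hnby hnb hyy h1
        have hbv : b * v ∈ evn D r b :=
          Subgroup.subset_closure ⟨b, ⟨hb, hr.refl b hb⟩, v, hv, rfl⟩
        have hfix : ((k⁻¹ * g : ↥(evn D r t)) : G) * y * ((k⁻¹ * g : ↥(evn D r t)) : G)⁻¹ = y := by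
          push_cast
          calc (t * u)⁻¹ * g * y * ((t * u)⁻¹ * g)⁻¹
              = (t * u)⁻¹ * (g * y * (g : G)⁻¹) * (t * u) := by group
            _ = (t * u)⁻¹ * ((t * u) * y * (t * u)⁻¹) * (t * u) := by rw [he]
            _ = y := by group
        have hcm : Commute ((k⁻¹ * g : ↥(evn D r t)) : G) (b * v) :=
          (evn_commute h hr ht hb hntb hc (k⁻¹ * g).2 b ⟨hb, hr.refl b hb⟩).mul_right
            (evn_commute h hr ht hb hntb hc (k⁻¹ * g).2 v hv)
        rw [← hv']
        generalize ((k⁻¹ * g : ↥(evn D r t)) : G) = z at hfix hcm ⊢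
        calc z * (b * v * y * (b * v)⁻¹) * z⁻¹ = (z * (b * v)) * y * (z * (b * v))⁻¹ := by group
          _ = (b * v) * (z * y * z⁻¹) * (b * v)⁻¹ := by rw [hcm.eq]; group
          _ = _ := by rw [hfix]
      have hgk : (QuotientGroup.mk g : ↥(evn D r t) ⧸ F) = QuotientGroup.mk k :=
        (QuotientGroup.eq.mpr hmem).symm
      rw [hgk]
      rcases h.or3 t ht u hu.1 with hcom | h3
      · left
        rw [← QuotientGroup.mk_pow, QuotientGroup.eq_one_iff]
        have : k ^ 2 = 1 := Subtype.ext (by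
          simp only [SubmonoidClass.coe_pow, OneMemClass.coe_one, hk]
          rw [hcom.mul_pow, pow_two, pow_two, h.sq t ht, h.sq u hu.1, one_mul])
        rw [this]; exact one_mem _
      · right
        rw [← QuotientGroup.mk_pow, QuotientGroup.eq_one_iff]
        have : k ^ 3 = 1 := Subtype.ext (by simpa [hk] using h3)
        rw [this]; exact one_mem _
  refine AnisoQuadSolvable.solvable_of_primes 2 3 Nat.prime_two Nat.prime_three fun p hp hdvd => ?_
  haveI := Fact.mk hp
  obtain ⟨q, hq⟩ := exists_prime_orderOf_dvd_card' p hdvd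
  rcases hkey q with e | e
  · exact Or.inl ((Nat.prime_dvd_prime_iff_eq hp Nat.prime_two).mp
      (hq ▸ orderOf_dvd_of_pow_eq_one e))
  · exact Or.inr ((Nat.prime_dvd_prime_iff_eq hp Nat.prime_three).mp
      (hq ▸ orderOf_dvd_of_pow_eq_one e))

/-- Regularity lemma: `evn t` is solvable. -/
theorem evn_solvable_of_triple [Finite G] {t b y : G} (hT : Triple h hr t b y) :
    Group.IsSolvable ↥(evn D r t) := by
  obtain ⟨ht, hb, hy, hntb, hc, hnt, hnb⟩ := id hT
  set w := t * y * t with hw
  have hwD : w ∈ D := h.refl_mem ht hy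
  have hT' : Triple h hr t b w := by
    refine ⟨ht, hb, hwD, hntb, hc, h.not_commute_third ht hnt, fun e => hnb ?_⟩
    have e' : b = t * b * t⁻¹ := by rw [h.inv_eq ht, h.fix ht hc]
    have e'' : w = t * y * t⁻¹ := by rw [h.inv_eq ht]
    rw [e', e''] at e
    exact commute_conj_iff.mp e
  set N := evn D r t
  let fixer : G → Subgroup ↥N := fun z =>
    (Subgroup.centralizer (cls D r z)).subgroupOf N
  have hfix : ∀ z, ∀ g : ↥N, g ∈ fixer z ↔ ∀ y1 ∈ cls D r z, (g : G) * y1 * (g : G)⁻¹ = y1 := by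
    intro z g
    simp only [fixer, Subgroup.mem_subgroupOf, Subgroup.mem_centralizer_iff,
      mul_inv_eq_iff_eq_mul]
    exact forall₂_congr fun _ _ => eq_comm
  have hnorm : ∀ z ∈ D, (fixer z).Normal := by
    intro z hz
    refine ⟨fun k hk g => ?_⟩
    rw [hfix] at hk ⊢
    intro y1 h1
    have h2 := evn_fixes h hr ht hz (inv_mem g.2) y1 h1
    rw [inv_inv] at h2
    have h3 := hk _ h2
    push_cast
    calc (g : G) * k * (g : G)⁻¹ * y1 * ((g : G) * k * (g : G)⁻¹)⁻¹
        = g * ((k : G) * ((g : G)⁻¹ * y1 * g) * (k : G)⁻¹) * (g : G)⁻¹ := by group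
      _ = y1 := by rw [h3]; group
  haveI := hnorm y hy
  haveI := hnorm w hwD
  haveI := quotient_solvable h hr hT (fixer y) (hfix y)
  haveI := quotient_solvable h hr hT' (fixer w) (hfix w)
  set φ := (QuotientGroup.mk' (fixer y)).prod (QuotientGroup.mk' (fixer w))
  have hker : ∀ g ∈ φ.ker, g ∈ Subgroup.center ↥N := by
    intro g hg
    rw [MonoidHom.mem_ker, MonoidHom.prod_apply, Prod.mk_eq_one] at hg
    simp only [QuotientGroup.mk'_apply, QuotientGroup.eq_one_iff, hfix] at hg
    have hpt : ∀ u ∈ cls D r t, Commute (g : G) u := by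
      intro u hu
      have hnty := triple_unrelated h hr ht hb hy hntb hc hnb
      have hnu := not_commute_of_related h hr ht hu.1 hy hy hnty hnt hu.2 (hr.refl y hy)
      have huw : u * y * u ∈ cls D r w := by
        refine ⟨h.refl_mem hu.1 hy, ?_⟩
        rw [hw, h.braid ht hy hnt, h.braid hu.1 hy hnu]
        exact refl_equiv h hr hy ht hu.1 hu.2
      have e1 : Commute (g : G) y := mul_inv_eq_iff_eq_mul.mp (hg.1 y ⟨hy, hr.refl y hy⟩)
      have e2 : Commute (g : G) (u * y * u) := mul_inv_eq_iff_eq_mul.mp (hg.2 _ huw)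
      have : u = y * (u * y * u) * y := by rw [h.braid hu.1 hy hnu, h.refl_refl hy]
      rw [this]
      exact (e1.mul_right e2).mul_right e1
    rw [Subgroup.mem_center_iff]
    intro x
    refine Subtype.ext (Commute.symm ?_).eq
    have hle : N ≤ Subgroup.centralizer {(g : G)} := by
      refine (Subgroup.closure_le _).mpr ?_
      rintro _ ⟨u, hu, v, hv, rfl⟩
      rw [SetLike.mem_coe, Subgroup.mem_centralizer_singleton_iff]
      exact ((hpt u hu).mul_right (hpt v hv)).symm.eq
    exact (Subgroup.mem_centralizer_singleton_iff.mp (hle x.2)).symm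
  haveI : Group.IsSolvable ↥(Subgroup.center ↥N) := by
    open scoped IsMulCommutative in infer_instance
  exact Group.isSolvable_of_ker_le_range (Subgroup.center ↥N).subtype φ
    (by rw [Subgroup.range_subtype]; exact hker)

/-- Some triple exists as soon as two unrelated transpositions commute. -/
theorem exists_triple {p c : G} (hp : p ∈ D) (hc : c ∈ D) (hn : ¬ r p c) (hcom : Commute p c) :
    ∃ t b y, Triple h hr t b y := by
  by_contra hno
  push Not at hno
  set R := fun u v : G => r u v ∨ ¬ Commute u v with hR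
  have htrans : ∀ u ∈ D, ∀ z ∈ D, ∀ v ∈ D, R u z → R z v → R u v := by
    intro u hu z hz v hv h1 h2
    by_cases huv : r u v
    · exact Or.inl huv
    refine Or.inr fun hcuv => ?_
    rcases h1 with h1 | h1 <;> rcases h2 with h2 | h2
    · exact huv (hr.trans u hu z hz v hv h1 h2)
    · exact h2 (commute_of_related h hr hu hv hz huv hcuv h1)
    · exact h1 (commute_of_related h hr hv hu hz (fun e => huv (hr.symm v hv u hu e)) hcuv.symm
        (hr.symm z hz v hv h2)).symm
    · exact hno u v z ⟨hu, hv, hz, huv, hcuv, h1, fun e => h2 e.symm⟩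
  have hinv : ∀ g : G, ∀ d ∈ D, R p d ↔ R p (g * d * g⁻¹) := by
    intro g
    have hg : g ∈ Subgroup.closure D := h.gen ▸ Subgroup.mem_top g
    have hone : ∀ w ∈ D, ∀ d ∈ D, R p d ↔ R p (w * d * w⁻¹) := by
      intro w hw d hd
      rw [h.inv_eq hw]
      by_cases hc' : Commute w d
      · rw [h.fix hw hc']
      · have hd' := h.refl_mem hw hd
        have hne : ¬ Commute d (w * d * w) := by
          rw [h.braid hw hd hc']
          exact h.not_commute_third hd fun e => hc' e.symm
        exact ⟨fun e => htrans p hp d hd _ hd' e (Or.inr hne),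
          fun e => htrans p hp _ hd' d hd e (Or.inr fun e' => hne e'.symm)⟩
    induction hg using Subgroup.closure_induction'' with
    | mem x hx => exact hone x hx
    | inv_mem x hx => rw [h.inv_eq hx]; exact hone x hx
    | one => intro d _; simp
    | mul x z _ _ hx hz =>
      intro d hd
      rw [hz d hd, hx _ (h.conj z d hd)]
      constructor <;> intro e <;> convert e using 1 <;> group
  obtain ⟨g, rfl⟩ := h.trans p hp c hc
  rcases (hinv g p hp).mp (Or.inl (hr.refl p hp)) with e | e
  · exact hn e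
  · exact e hcom

/-- Main consequence: if two unrelated transpositions commute, all classes are trivial. -/
theorem eq_of_commuting [Finite G]
    (hsol : ∀ N : Subgroup G, N.Normal → Group.IsSolvable ↥N → N ≤ commutator G → N = ⊥)
    {p c : G} (hp : p ∈ D) (hc : c ∈ D) (hn : ¬ r p c) (hcom : Commute p c)
    {a b : G} (ha : a ∈ D) (hb : b ∈ D) (hab : r a b) : a = b := by
  refine eq_of_solvable h hr hsol (fun x hx => ?_) ha hb hab
  obtain ⟨t, b', y, hT⟩ := exists_triple h hr hp hc hn hcom
  haveI := evn_solvable_of_triple h hr hT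
  obtain ⟨g, rfl⟩ := h.trans t hT.1 x hx
  rw [evn_conj h hr hT.1]
  exact Group.isSolvable_of_surjective (f := ((MulAut.conj g : G ≃* G) : G →* G).subgroupMap _)
    (MonoidHom.subgroupMap_surjective _ _)

end Rel

end Cfsg.Agent.ThreeTransp
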