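import Mathlib
import Cfsg.Agent.Lib.UnitaryF4Geo

/-!
3-transposition extensions of unitary transvection groups over the field with four elements:
if `Q` is a normal 2-subgroup with trivial centre and the transpositions map onto the transvections
of a space of dimension at least five, then `Q` is elementary abelian.
-/

set_option autoImplicit false
set_option maxHeartbeats 1000000

namespace Cfsg.Agent.ThreeTranspositionUnitary

open UnitaryF4Geo

variable {G : Type*} [Group G] [Finite G] {F : Type*} [Field F] [Fintype F] {n : ℕ}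

/-- A 3-transposition group acting on a unitary space with transpositions going onto transvections. -/
structure Cfg (G : Type*) [Group G] (F : Type*) [Field F] [Fintype F] (n : ℕ) where
  D : Set G
  Q : Subgroup G
  ρ : G →* ((Fin n → F) ≃ₗ[F] (Fin n → F))
  five : 5 ≤ n
  normal : Q.Normal
  pgroup : IsPGroup 2 Q
  isom : ∀ g v w, h (ρ g v) (ρ g w) = h v w
  ker : ∀ g, ρ g = 1 ↔ g ∈ Q
  tvImg : ∀ d ∈ D, ∃ u, u ≠ 0 ∧ h u u = 0 ∧ ∀ v, ρ d v = tv u v
  tvAll : ∀ u, u ≠ 0 → h u u = 0 → ∃ d ∈ D, ∀ v, ρ d v = tv u v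
  sq : ∀ d ∈ D, d * d = 1
  prod : ∀ d ∈ D, ∀ e ∈ D, (d * e) ^ 2 = 1 ∨ (d * e) ^ 3 = 1
  conjD : ∀ g : G, ∀ d ∈ D, g * d * g⁻¹ ∈ D
  gen : Subgroup.closure D = ⊤
  center : Subgroup.center G = ⊥

variable (C : Cfg G F n)

/-- `d` is a transposition over the centre `u`. -/
def Cfg.Lift (u : Fin n → F) (d : G) : Prop := d ∈ C.D ∧ ∀ v, C.ρ d v = tv u v

omit [Finite G] in
theorem Cfg.inv_eq {d : G} (hd : d ∈ C.D) : d⁻¹ = d := inv_eq_of_mul_eq_one_left (C.sq d hd)

omit [Finite G] in
theorem Cfg.ρ_mul (a b : G) (v : Fin n → F) : C.ρ (a * b) v = C.ρ a (C.ρ b v) := by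
  rw [map_mul]; rfl

omit [Finite G] in
theorem Cfg.ρ_inv_apply (g : G) (v : Fin n → F) : C.ρ g (C.ρ g⁻¹ v) = v := by
  rw [← C.ρ_mul, mul_inv_cancel, map_one]; rfl

omit [Finite G] in
theorem Cfg.ρ_Q {x : G} (hx : x ∈ C.Q) (v : Fin n → F) : C.ρ x v = v := by
  rw [(C.ker x).mpr hx]; rfl

omit [Finite G] in
theorem Cfg.mem_Q {x : G} (hx : ∀ v, C.ρ x v = v) : x ∈ C.Q :=
  (C.ker x).mp (LinearEquiv.ext hx)

omit [Finite G] in
theorem Cfg.lift_conj {u : Fin n → F} {d : G} (hd : C.Lift u d) (g : G) :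
    C.Lift (C.ρ g u) (g * d * g⁻¹) := by
  refine ⟨C.conjD g d hd.1, fun v => ?_⟩
  rw [C.ρ_mul, C.ρ_mul, hd.2]
  have := tv_apply (C.ρ g u) v
  rw [tv_apply, map_add, map_smul, C.ρ_inv_apply, this]
  congr 2
  have h2 := C.isom g (C.ρ g⁻¹ v) u
  rw [C.ρ_inv_apply] at h2
  exact h2.symm

variable [hF : FourField F]

omit [Finite G] in
theorem Cfg.lift_smul {u : Fin n → F} {d : G} (hd : C.Lift u d) {c : F} (hc : c ≠ 0) :
    C.Lift (c • u) d := ⟨hd.1, fun v => by rw [tv_smul hc]; exact hd.2 v⟩

omit [Finite G] in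
theorem Cfg.diff_mem {u : Fin n → F} (huu : h u u = 0) {d d' : G}
    (hd : C.Lift u d) (hd' : C.Lift u d') : d' * d ∈ C.Q := by
  refine C.mem_Q fun v => ?_
  rw [C.ρ_mul, hd.2, hd'.2, tv_tv huu]

omit [Finite G] in
theorem Cfg.lift_comm {u w : Fin n → F} (huu : h u u = 0) (hww : h w w = 0) (huw : h u w = 0)
    {d e : G} (hd : C.Lift u d) (he : C.Lift w e) : d * e = e * d := by
  have htwo : (d * e) ^ 2 = 1 := by
    rcases C.prod d hd.1 e he.1 with h2 | h3
    · exact h2
    · have h2 : (d * e) ^ 2 ∈ C.Q := by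
        refine C.mem_Q fun v => ?_
        rw [pow_two, C.ρ_mul, C.ρ_mul, C.ρ_mul, he.2, hd.2, he.2, hd.2]
        have key : ∀ x, tv u (tv w x) = tv w (tv u x) := fun x => by
          simp only [tv_apply, h_add_left, h_smul_left, huw, h_comm_zero huw, mul_zero, add_zero]
          abel
        rw [key v, tv_tv hww, tv_tv huu]
      obtain ⟨k, hk⟩ := C.pgroup ⟨_, h2⟩
      have hk' : ((d * e) ^ 2) ^ (2 ^ k) = 1 := congrArg Subtype.val hk
      have hcop : Nat.Coprime 3 (2 ^ (k + 1)) := (Nat.Coprime.pow_right _ (by decide))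
      have h1 : (d * e) ^ (2 ^ (k + 1)) = 1 := by rw [pow_succ', pow_mul]; exact hk'
      have := pow_gcd_eq_one.mpr ⟨h3, h1⟩
      rw [hcop.gcd_eq_one, pow_one] at this
      rw [this, one_pow]
  have := inv_eq_of_mul_eq_one_left (show (d * e) * (d * e) = 1 by rw [← pow_two, htwo])
  rw [mul_inv_rev, C.inv_eq hd.1, C.inv_eq he.1] at this
  exact this.symm

omit [Finite G] in
theorem Cfg.lift_braid {u w : Fin n → F} (huu : h u u = 0) (hww : h w w = 0) (huw : h u w ≠ 0)
    {d e : G} (hd : C.Lift u d) (he : C.Lift w e) : d * e * d = e * d * e := by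
  have h3 : (d * e) ^ 3 = 1 := by
    refine (C.prod d hd.1 e he.1).resolve_left fun h2 => huw ?_
    have hc : d * e = e * d := by
      have := inv_eq_of_mul_eq_one_left (show (d * e) * (d * e) = 1 by rw [← pow_two, h2])
      rw [mul_inv_rev, C.inv_eq hd.1, C.inv_eq he.1] at this
      exact this.symm
    have hu0 : u ≠ 0 := by rintro rfl; exact huw (h_zero_left _)
    have key := congrArg (fun g => C.ρ g u) hc
    simp only [C.ρ_mul, hd.2, he.2] at key
    simp only [tv_apply, h_add_left, h_smul_left, huu, zero_smul, add_zero, zero_add] at key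
    have hz : (h u w * h w u) • u = 0 := by
      have e' : u + h u w • w + (h u w * h w u) • u = u + h u w • w + 0 := by
        rw [add_zero]; exact key
      exact add_left_cancel e'
    rcases smul_eq_zero.mp hz with hh | hh
    · rcases mul_eq_zero.mp hh with h' | h'
      · exact h'
      · exact h_comm_zero h'
    · exact absurd hh hu0
  have : (d * e * d) * (e * d * e) = 1 := by rw [← h3]; simp only [pow_succ, pow_zero, one_mul, mul_assoc]
  rw [← mul_eq_one_iff_eq_inv.mp this |>.symm] at this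
  have hinv : (e * d * e)⁻¹ = e * d * e := by
    rw [mul_inv_rev, mul_inv_rev, C.inv_eq hd.1, C.inv_eq he.1, mul_assoc]
  rw [← hinv]
  exact mul_eq_one_iff_eq_inv.mp (by rw [← h3]; simp only [pow_succ, pow_zero, one_mul, mul_assoc])

/-- `a` is a product of two transpositions over the same centre. -/
def Cfg.IsDiff (u : Fin n → F) (a : G) : Prop :=
  u ≠ 0 ∧ h u u = 0 ∧ ∃ d d', C.Lift u d ∧ C.Lift u d' ∧ a = d' * d

omit [Finite G] in
theorem Cfg.diff_comm {u w : Fin n → F} {a b : G} (huw : h u w = 0) (ha : C.IsDiff u a)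
    (hb : C.IsDiff w b) : a * b = b * a := by
  obtain ⟨-, huu, d, d', hd, hd', rfl⟩ := ha
  obtain ⟨-, hww, e, e', he, he', rfl⟩ := hb
  have c1 : Commute d e := C.lift_comm huu hww huw hd he
  have c2 : Commute d e' := C.lift_comm huu hww huw hd he'
  have c3 : Commute d' e := C.lift_comm huu hww huw hd' he
  have c4 : Commute d' e' := C.lift_comm huu hww huw hd' he'
  exact ((c4.mul_right c3).mul_left (c2.mul_right c1))

omit [Finite G] in
theorem Cfg.diff_lift_comm {u w : Fin n → F} {a t : G} (huw : h u w = 0) (hww : h w w = 0)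
    (ha : C.IsDiff u a) (ht : C.Lift w t) : a * t = t * a := by
  obtain ⟨-, huu, d, d', hd, hd', rfl⟩ := ha
  exact Commute.mul_left (C.lift_comm huu hww huw hd' ht) (C.lift_comm huu hww huw hd ht)

omit [Finite G] in
theorem Cfg.diff_sq {u : Fin n → F} {a : G} (ha : C.IsDiff u a) : a * a = 1 := by
  obtain ⟨-, huu, d, d', hd, hd', rfl⟩ := ha
  have hc := C.lift_comm huu huu huu hd hd'
  rw [mul_assoc, ← mul_assoc d d' d, hc, mul_assoc d' d d, C.sq d hd.1, mul_one, C.sq d' hd'.1]

omit [Finite G] in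
/-- Conjugating a difference at `w` by a transposition at `r` not orthogonal to `w`. -/
theorem Cfg.diff_shift {w r : Fin n → F} (hrr : h r r = 0) (hwr : h w r ≠ 0) {b t : G}
    (hb : C.IsDiff w b) (ht : C.Lift r t) : ∃ c, C.IsDiff r c ∧ t * b * t = b * c := by
  obtain ⟨hw0, hww, e, e', he, he', rfl⟩ := hb
  have l1 : C.Lift (tv r w) (t * e' * t) := by
    have := C.lift_conj he' t
    rwa [C.inv_eq ht.1, ht.2] at this
  have hnw : h (tv r w) w ≠ 0 := by
    rw [tv_apply, h_add_left, h_smul_left, hww, zero_add]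
    exact mul_ne_zero hwr (fun h0 => hwr (h_comm_zero h0))
  have l2 : C.Lift r (e * (t * e' * t) * e) := by
    have := C.lift_conj l1 e
    rw [C.inv_eq he.1, he.2] at this
    have hne : h w r * h r w ≠ 0 := mul_ne_zero hwr (fun h0 => hwr (h_comm_zero h0))
    have e1 : tv w (tv r w) = h w r • r + (1 + h w r * h r w) • w := by
      simp only [tv_apply, h_add_left, h_smul_left, hww, zero_add, add_smul, one_smul]
      abel
    have hone : h w r * h r w = 1 := by
      rw [h_symm w r, ← pow_succ', cube hwr]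
    rw [e1, hone, add_self, zero_smul, add_zero] at this
    have := C.lift_smul this (inv_ne_zero hwr)
    rwa [inv_smul_smul₀ hwr] at this
  refine ⟨(e * (t * e' * t) * e) * t, ⟨?_, hrr, t, _, ht, l2, rfl⟩, ?_⟩
  · rintro rfl; exact hwr (h_zero_right _)
  · have bb : (e' * e) * (e' * e) = 1 := C.diff_sq ⟨hw0, hww, e, e', he, he', rfl⟩
    have hrw : h r w ≠ 0 := fun h0 => hwr (h_comm_zero h0)
    have br := C.lift_braid hrr hww hrw ht he'
    have hinv : e * e' = e' * e := C.lift_comm hww hww hww he he'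
    have hrew : e * (t * e' * t) * e * t = (e' * e) * (t * (e' * e) * t) := by
      rw [br]
      have br2 := C.lift_braid hrr hww hrw ht he
      calc e * (e' * t * e') * e * t = (e * e') * t * (e' * e) * t := by
            simp only [mul_assoc]
        _ = (e' * e) * (t * (e' * e) * t) := by rw [hinv]; simp only [mul_assoc]
    rw [hrew, ← mul_assoc (e' * e) (e' * e), bb, one_mul]

omit [Finite G] in
/-- Differences commute. -/
theorem Cfg.diff_comm_all {u w : Fin n → F} {a b : G} (ha : C.IsDiff u a) (hb : C.IsDiff w b) :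
    a * b = b * a := by
  by_cases huw : h u w = 0
  · exact C.diff_comm huw ha hb
  -- commutation with all transpositions orthogonal to one of the two centres
  have near : ∀ {u w : Fin n → F} {a b : G}, C.IsDiff u a → C.IsDiff w b → ∀ {r : Fin n → F}
      {t : G}, h r r = 0 → h u r = 0 → C.Lift r t →
      t * (a * b * a⁻¹ * b⁻¹) = (a * b * a⁻¹ * b⁻¹) * t := by
    intro u w a b ha hb r t hrr hur ht
    have ca : t * a * t = a := by
      rw [mul_assoc, C.diff_lift_comm hur hrr ha ht, ← mul_assoc, C.sq t ht.1, one_mul]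
    have key : t * (a * b * a⁻¹ * b⁻¹) * t = a * b * a⁻¹ * b⁻¹ := by
      have split : t * (a * b * a⁻¹ * b⁻¹) * t =
          (t * a * t) * (t * b * t) * (t * a * t)⁻¹ * (t * b * t)⁻¹ := by
        have ti := C.inv_eq ht.1
        simp only [mul_inv_rev, ti, mul_assoc]
        simp only [← mul_assoc t t, C.sq t ht.1, one_mul]
      rw [split, ca]
      by_cases hwr : h w r = 0
      · rw [show t * b * t = b by
          rw [mul_assoc, C.diff_lift_comm hwr hrr hb ht, ← mul_assoc, C.sq t ht.1, one_mul]]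
      · obtain ⟨c, hc, hbc⟩ := C.diff_shift hrr hwr hb ht
        rw [hbc, mul_inv_rev]
        have cc : Commute c a⁻¹ := (Commute.symm (C.diff_comm hur ha hc)).inv_right
        calc a * (b * c) * a⁻¹ * (c⁻¹ * b⁻¹) = a * b * (c * a⁻¹) * c⁻¹ * b⁻¹ := by
              simp only [mul_assoc]
          _ = a * b * a⁻¹ * b⁻¹ := by rw [cc.eq]; simp only [mul_assoc, mul_inv_cancel_left]
    calc t * (a * b * a⁻¹ * b⁻¹) = t * (a * b * a⁻¹ * b⁻¹) * t * t := by
          rw [mul_assoc (t * _), C.sq t ht.1, mul_one]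
      _ = (a * b * a⁻¹ * b⁻¹) * t := by rw [key]
  set z := a * b * a⁻¹ * b⁻¹ with hz
  have near' : ∀ {r : Fin n → F} {t : G}, h r r = 0 → h u r = 0 ∨ h w r = 0 → C.Lift r t →
      t * z = z * t := by
    intro r t hrr hor ht
    rcases hor with h1 | h1
    · exact near ha hb hrr h1 ht
    · have := (show Commute t (b * a * b⁻¹ * a⁻¹) from near hb ha hrr h1 ht).inv_right
      rw [show (b * a * b⁻¹ * a⁻¹)⁻¹ = z by rw [hz]; group] at this
      exact this.eq
  -- a hyperbolic pair on the two centres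
  obtain ⟨hu0, huu, -⟩ := ha
  obtain ⟨hw0, hww, -⟩ := hb
  set q := (h w u)⁻¹ • w with hq
  have hwu : h w u ≠ 0 := fun h0 => huw (h_comm_zero h0)
  have H : Hyp u q := by
    refine ⟨huu, ?_, h_comm_one ?_⟩
    · rw [hq, h_smul_left, h_smul_right, hww, mul_zero, mul_zero]
    · rw [hq, h_smul_left, inv_mul_cancel₀ hwu]
  clear_value q
  have hall : ∀ d ∈ C.D, d * z = z * d := by
    intro d hd
    obtain ⟨r, hr0, hrr, hdr⟩ := C.tvImg d hd
    have lr : C.Lift r d := ⟨hd, hdr⟩
    have hwq : ∀ x, h x q = 0 → h w x = 0 := by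
      intro x hx
      apply h_comm_zero
      rw [hq, h_smul_right] at hx
      exact (mul_eq_zero.mp hx).resolve_left (pow_ne_zero 2 (inv_ne_zero hwu))
    by_cases hru : h r u = 0
    · exact near' hrr (Or.inl (h_comm_zero hru)) lr
    by_cases hrq : h r q = 0
    · exact near' hrr (Or.inr (hwq r hrq)) lr
    -- move `r` by a transposition orthogonal to `u`
    suffices ∃ t₀, h t₀ t₀ = 0 ∧ h u t₀ = 0 ∧ t₀ ≠ 0 ∧ h (tv t₀ r) q = 0 by
      obtain ⟨t₀, htt, hut, ht0, hmove⟩ := this
      obtain ⟨t, htD, htv⟩ := C.tvAll t₀ ht0 htt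
      have lt : C.Lift t₀ t := ⟨htD, htv⟩
      have l' : C.Lift (tv t₀ r) (t * d * t) := by
        have := C.lift_conj lr t
        rwa [C.inv_eq htD, htv] at this
      have c1 : Commute t z := near' htt (Or.inl hut) lt
      have c2 : Commute (t * d * t) z :=
        near' (by rw [tv_isom htt, hrr]) (Or.inr (hwq _ hmove)) l'
      have := (c1.mul_left c2).mul_left c1
      rwa [show t * (t * d * t) * t = d by
        simp only [mul_assoc, C.sq t htD, mul_one]
        rw [← mul_assoc, C.sq t htD, one_mul]] at this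
    have hu1 : u ≠ 0 := hu0
    set r₀ := proj u q r with hr₀
    by_cases hγ : h r q = h r u
    · refine ⟨u, huu, huu, hu1, ?_⟩
      rw [tv_apply, h_add_left, h_smul_left, H.pq, mul_one, hγ, add_self]
    have hr₀0 : r₀ ≠ 0 := by
      intro h0
      apply hγ
      have hd' := proj_decomp u q r
      rw [← hr₀, h0, add_zero] at hd'
      have hN := congrArg (fun x => h x x) hd'
      simp only [h_add_left, h_add_right, h_smul_left, h_smul_right, hrr, H.pp, H.qq, H.pq, H.qp,
        mul_zero, zero_add, add_zero, mul_one] at hN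
      have hab : h r q * h r u ^ 2 = h r u * h r q ^ 2 :=
        eq_of_add_eq_zero (by linear_combination -hN)
      have hr2 := cube hrq
      have hu2 := cube hru
      apply mul_right_cancel₀ (mul_ne_zero hru hrq)
      linear_combination -hab
    obtain ⟨σ, hσu, hσq, hσσ, hrσ⟩ :
        ∃ σ, h σ u = 0 ∧ h σ q = 0 ∧ h σ σ = 0 ∧ h r₀ σ ≠ 0 := by
      by_contra hno
      push_neg at hno
      apply hr₀0
      refine eq_zero_of_h fun v => ?_
      have hP : h r₀ (proj u q v) = 0 :=
        H.induction (P := fun x => h r₀ x = 0) (by have := C.five; omega) hno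
          (fun x x' _ _ _ _ e1 e2 => by rw [h_add_right, e1, e2, add_zero])
          (H.proj_p v) (H.proj_q v)
      conv_lhs => rw [proj_decomp u q v]
      rw [h_add_right, h_add_right, h_smul_right, h_smul_right, hP, hr₀, H.proj_p, H.proj_q]
      simp
    set γ := h r q + h r u with hγd
    have hγ0 : γ ≠ 0 := fun h0 => hγ (eq_of_add_eq_zero h0)
    set k := (γ * (h r₀ σ)⁻¹) ^ 2 with hk
    refine ⟨u + k • σ, ?_, ?_, ?_, ?_⟩
    · simp only [h_add_left, h_add_right, h_smul_left, h_smul_right, huu, hσu, hσσ,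
        h_comm_zero hσu, mul_zero, add_zero]
    · simp only [h_add_right, h_smul_right, huu, h_comm_zero hσu, mul_zero, add_zero]
    · intro h0
      have h1 := congrArg (fun x => h x q) h0
      simp only [h_add_left, h_smul_left, H.pq, hσq, mul_zero, add_zero, h_zero_left] at h1
      exact one_ne_zero h1
    · have hrk : h r σ = h r₀ σ := by
        conv_lhs => rw [proj_decomp u q r]
        rw [← hr₀, h_add_left, h_add_left, h_smul_left, h_smul_left, h_comm_zero hσu,
          h_comm_zero hσq, mul_zero, mul_zero, zero_add, zero_add]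
      simp only [tv_apply, h_add_left, h_smul_left, h_add_right, h_smul_right, H.pq, hσq,
        mul_zero, add_zero, mul_one, hrk, hk, sq_sq]
      rw [inv_mul_cancel_right₀ hrσ, hγd]
      linear_combination (h r q + h r u) * (two_eq_zero (F := F))
  have hzc : z ∈ Subgroup.center G := by
    rw [Subgroup.mem_center_iff]
    intro g
    have hg : g ∈ Subgroup.closure C.D := by rw [C.gen]; trivial
    induction hg using Subgroup.closure_induction with
    | mem d hd => exact hall d hd
    | one => simp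
    | mul x y _ _ hx hy => exact (Commute.mul_left hx hy)
    | inv x _ hx => exact (Commute.inv_left hx)
  rw [C.center, Subgroup.mem_bot, hz] at hzc
  calc a * b = (a * b * a⁻¹ * b⁻¹) * (b * a) := by group
    _ = b * a := by rw [hzc, one_mul]

/-- The subgroup generated by all differences. -/
def Cfg.N : Subgroup G := Subgroup.closure {a | ∃ u, C.IsDiff u a}

omit [Finite G] in
theorem Cfg.N_comm {a b : G} (ha : a ∈ C.N) (hb : b ∈ C.N) : a * b = b * a := by
  have hc := (Subgroup.isMulCommutative_closure (k := {a | ∃ u, C.IsDiff u a})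
    (fun x ⟨u, hx⟩ y ⟨w, hy⟩ => C.diff_comm_all hx hy))
  exact congrArg Subtype.val (hc.is_comm.comm (⟨a, ha⟩ : C.N) ⟨b, hb⟩)

omit [Finite G] in
theorem Cfg.N_sq {a : G} (ha : a ∈ C.N) : a * a = 1 := by
  induction ha using Subgroup.closure_induction with
  | mem x hx => obtain ⟨u, hu⟩ := hx; exact C.diff_sq hu
  | one => simp
  | mul x y hx' hy' hx hy =>
    rw [mul_assoc, ← mul_assoc y x y, C.N_comm hy' hx', mul_assoc x y y, hy, mul_one, hx]
  | inv x _ hx => rw [← mul_inv_rev, hx, inv_one]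

omit [Finite G] hF in
theorem Cfg.diff_conj {u : Fin n → F} {a : G} (ha : C.IsDiff u a) (g : G) :
    C.IsDiff (C.ρ g u) (g * a * g⁻¹) := by
  obtain ⟨hu, huu, d, d', hd, hd', rfl⟩ := ha
  refine ⟨?_, by rw [C.isom, huu], _, _, C.lift_conj hd g, C.lift_conj hd' g, by group⟩
  simpa using hu

omit [Finite G] hF in
theorem Cfg.N_normal : C.N.Normal := by
  refine ⟨fun a ha g => ?_⟩
  induction ha using Subgroup.closure_induction with
  | mem x hx => obtain ⟨u, hu⟩ := hx; exact Subgroup.subset_closure ⟨_, C.diff_conj hu g⟩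
  | one => simp
  | mul x y _ _ hx hy =>
    rw [show g * (x * y) * g⁻¹ = (g * x * g⁻¹) * (g * y * g⁻¹) by group]
    exact C.N.mul_mem hx hy
  | inv x _ hx =>
    rw [show g * x⁻¹ * g⁻¹ = (g * x * g⁻¹)⁻¹ by group]
    exact C.N.inv_mem hx

omit [Finite G] in
theorem Cfg.N_le : C.N ≤ C.Q :=
  (Subgroup.closure_le _).mpr fun _ ⟨_, _, huu, _, _, hd, hd', e⟩ =>
    e ▸ C.diff_mem huu hd hd'

omit [Finite G] in
/-- The commutator of an element over the identity with a transposition is a difference. -/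
theorem Cfg.comm_diff {x d : G} (hx : x ∈ C.Q) {u : Fin n → F} (hu : u ≠ 0) (huu : h u u = 0)
    (hd : C.Lift u d) : C.IsDiff u (x * d * x⁻¹ * d) := by
  have := C.lift_conj hd x
  rw [C.ρ_Q hx] at this
  exact ⟨hu, huu, d, _, hd, this, rfl⟩

end Cfsg.Agent.ThreeTranspositionUnitary
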