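import Mathlib
import Cfsg.Agent.Lib.ThreeTranspositionUnitary

/-!
The action of a 3-transposition extension of a unitary transvection group on an abelian normal
subgroup generated over the differences: the compressed algebra at a point is the field with four
elements extended by a nilpotent semilinear element.
-/

set_option autoImplicit false
set_option maxHeartbeats 1000000

namespace Cfsg.Agent.ThreeTranspositionAct

open UnitaryF4Geo ThreeTranspositionUnitary

variable {G : Type*} [Group G] [Finite G] {F : Type*} [Field F] [Fintype F] [hF : FourField F]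
  {n : ℕ} {C : Cfg G F n}

/-- An action of the group on an elementary abelian 2-group, with a distinguished subgroup of
values at every point. -/
structure Act (C : Cfg G F n) (M : Type*) [AddCommGroup M] where
  act : G →* AddMonoid.End M
  two : ∀ a : M, a + a = 0
  pt : (Fin n → F) → AddSubgroup M
  same : ∀ (u : Fin n → F) (d d' : G), u ≠ 0 → h u u = 0 → C.Lift u d → C.Lift u d' →
    ∀ a, act d a = act d' a
  mem : ∀ (u : Fin n → F) (d : G) (a : M), u ≠ 0 → h u u = 0 → C.Lift u d → a + act d a ∈ pt u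
  fixed : ∀ (u w : Fin n → F) (d : G) (a : M), w ≠ 0 → h w w = 0 → h u w = 0 → C.Lift w d →
    a ∈ pt u → act d a = a
  norm : ∀ (u w : Fin n → F) (d e : G) (a : M), h u u = 0 → h w w = 0 → h u w ≠ 0 → C.Lift u d →
    C.Lift w e → a ∈ pt u → (a + act e a) + act d (a + act e a) = a

variable {M : Type*} [AddCommGroup M] (T : Act C M)
include T

theorem Act.neg (a : M) : -a = a := neg_eq_of_add_eq_zero_right (T.two a)

theorem Act.cancel (a b : M) : a + (a + b) = b := by rw [← add_assoc, T.two, zero_add]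

theorem Act.eq_of_add {a b : M} (e : a + b = 0) : a = b := by
  rw [← T.neg b]; exact eq_neg_of_add_eq_zero_left e

theorem Act.act_mul (g g' : G) (a : M) : T.act (g * g') a = T.act g (T.act g' a) := by
  rw [map_mul]; rfl

theorem Act.act_one (a : M) : T.act 1 a = a := by rw [map_one]; rfl

omit T in
open Classical in
/-- A chosen transposition over a point. -/
noncomputable def lift (C : Cfg G F n) (u : Fin n → F) : G :=
  if e : u ≠ 0 ∧ h u u = 0 then (C.tvAll u e.1 e.2).choose else 1

omit T in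
theorem lift_spec {u : Fin n → F} (hu : u ≠ 0) (huu : h u u = 0) : C.Lift u (lift C u) := by
  rw [lift, dif_pos ⟨hu, huu⟩]
  exact ⟨(C.tvAll u hu huu).choose_spec.1, (C.tvAll u hu huu).choose_spec.2⟩

open Classical in
/-- `a ↦ [a, d]` for a transposition `d` over `u`; zero when `u` is not a point. -/
noncomputable def Act.X (u : Fin n → F) : M →+ M :=
  if u ≠ 0 ∧ h u u = 0 then
    { toFun := fun a => a + T.act (lift C u) a
      map_zero' := by simp
      map_add' := fun a b => by rw [map_add]; abel }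
  else 0

theorem Act.X_eq {u : Fin n → F} {d : G} (hu : u ≠ 0) (huu : h u u = 0) (hd : C.Lift u d) (a : M) :
    T.X u a = a + T.act d a := by
  rw [Act.X, if_pos ⟨hu, huu⟩]
  show a + T.act (lift C u) a = a + T.act d a
  rw [T.same u _ d hu huu (lift_spec hu huu) hd]

theorem Act.act_eq {u : Fin n → F} {d : G} (hu : u ≠ 0) (huu : h u u = 0) (hd : C.Lift u d)
    (a : M) : T.act d a = a + T.X u a := by rw [T.X_eq hu huu hd, T.cancel]

theorem Act.X_mem (u : Fin n → F) (a : M) : T.X u a ∈ T.pt u := by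
  by_cases e : u ≠ 0 ∧ h u u = 0
  · rw [T.X_eq e.1 e.2 (lift_spec e.1 e.2)]
    exact T.mem u _ a e.1 e.2 (lift_spec e.1 e.2)
  · rw [Act.X, if_neg e, AddMonoidHom.zero_apply]
    exact zero_mem _

theorem Act.X_kill {u w : Fin n → F} (huw : h u w = 0) {a : M} (ha : a ∈ T.pt u) :
    T.X w a = 0 := by
  by_cases e : w ≠ 0 ∧ h w w = 0
  · rw [T.X_eq e.1 e.2 (lift_spec e.1 e.2), T.fixed u w _ a e.1 e.2 huw (lift_spec e.1 e.2) ha,
      T.two]
  · rw [Act.X, if_neg e]; rfl

theorem Act.X_norm {u w : Fin n → F} (huu : h u u = 0) (hww : h w w = 0) (huw : h u w ≠ 0) {a : M}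
    (ha : a ∈ T.pt u) : T.X u (T.X w a) = a := by
  have hu : u ≠ 0 := by rintro rfl; exact huw (h_zero_left _)
  have hw : w ≠ 0 := by rintro rfl; exact huw (h_zero_right _)
  rw [T.X_eq hu huu (lift_spec hu huu), T.X_eq hw hww (lift_spec hw hww)]
  exact T.norm u w _ _ a huu hww huw (lift_spec hu huu) (lift_spec hw hww) ha

theorem Act.X_smul {c : F} (hc : c ≠ 0) (u : Fin n → F) : T.X (c • u) = T.X u := by
  ext a
  by_cases e : u ≠ 0 ∧ h u u = 0
  · have e1 : c • u ≠ 0 := smul_ne_zero hc e.1
    have e2 : h (c • u) (c • u) = 0 := by rw [h_smul_left, h_smul_right, e.2]; ring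
    rw [T.X_eq e.1 e.2 (lift_spec e.1 e.2),
      T.X_eq e1 e2 (C.lift_smul (lift_spec e.1 e.2) hc)]
  · have e' : ¬ (c • u ≠ 0 ∧ h (c • u) (c • u) = 0) := by
      rintro ⟨a1, a2⟩
      refine e ⟨fun h0 => a1 (by rw [h0, smul_zero]), ?_⟩
      rw [h_smul_left, h_smul_right, ← mul_assoc, show c * c ^ 2 = c ^ 3 by ring, cube hc,
        one_mul] at a2
      exact a2
    simp only [Act.X, if_neg e, if_neg e']

/-- Equivariance. -/
theorem Act.act_X (g : G) (u : Fin n → F) (a : M) :
    T.act g (T.X u a) = T.X (C.ρ g u) (T.act g a) := by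
  have hiff : (C.ρ g u ≠ 0 ∧ h (C.ρ g u) (C.ρ g u) = 0) ↔ (u ≠ 0 ∧ h u u = 0) := by
    rw [C.isom]; simp
  by_cases e : u ≠ 0 ∧ h u u = 0
  · have e' := hiff.mpr e
    rw [T.X_eq e.1 e.2 (lift_spec e.1 e.2),
      T.X_eq e'.1 e'.2 (C.lift_conj (lift_spec e.1 e.2) g), map_add, T.act_mul, T.act_mul]
    congr 2
    simp only [← T.act_mul, inv_mul_cancel, inv_mul_cancel_right, T.act_one]
  · rw [Act.X, if_neg e, Act.X, if_neg (mt hiff.mp e)]
    simp

/-- The third point of a line. -/
theorem Act.X_third {a b : Fin n → F} (haa : h a a = 0) (hbb : h b b = 0) (hab : h a b ≠ 0)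
    (y : M) : T.X a (T.X b y) + T.X b (T.X a y) = T.X (tv b a) y + T.X a y + T.X b y := by
  have hb : b ≠ 0 := by rintro rfl; exact hab (h_zero_right _)
  have ld := lift_spec (C := C) hb hbb
  have key : T.act (lift C b) (T.X a y) = T.X (tv b a) (T.act (lift C b) y) := by
    rw [T.act_X, ld.2]
  rw [T.act_eq hb hbb ld, T.act_eq hb hbb ld, map_add] at key
  have k2 : T.X b y ∈ T.pt b := T.X_mem b y
  have hta : h (tv b a) (tv b a) = 0 := by rw [tv_isom hbb, haa]
  have htb : h b (tv b a) ≠ 0 := by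
    rw [tv_apply, h_add_right, h_smul_right, hbb, mul_zero, add_zero]
    exact fun h0 => hab (h_comm_zero h0)
  have hba : h b a ≠ 0 := fun h0 => hab (h_comm_zero h0)
  -- apply the same relation to `X b y`
  have key2 : T.act (lift C b) (T.X a (T.X b y)) = T.X (tv b a) (T.X b y) := by
    rw [T.act_X, ld.2, T.act_eq hb hbb ld (T.X b y), T.X_kill hbb k2, add_zero]
  rw [T.act_eq hb hbb ld, T.X_norm hbb haa hba k2] at key2
  rw [← key2] at key
  apply T.eq_of_add
  rw [show T.X a (T.X b y) + T.X b (T.X a y) + (T.X (tv b a) y + T.X a y + T.X b y) =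
    (T.X a y + T.X b (T.X a y)) + (T.X (tv b a) y + (T.X a (T.X b y) + T.X b y)) by abel, key]
  exact T.two _

theorem Act.X_orth {a b : Fin n → F} (hab : h a b = 0) (y : M) : T.X b (T.X a y) = 0 :=
  T.X_kill hab (T.X_mem a y)

/-- Moving a value along a transposition fixing the base point. -/
theorem Act.X_move {p a r : Fin n → F} (ha : a ≠ 0) (haa : h a a = 0) (hap : h p a = 0) {c : M}
    (hc : c ∈ T.pt p) : T.X a (T.X r c) = T.X (tv a r) c + T.X r c := by
  have key : T.act (lift C a) (T.X r c) = T.X (tv a r) c := by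
    rw [T.act_X, (lift_spec ha haa).2, T.fixed p a _ c ha haa hap (lift_spec ha haa) hc]
  rw [T.act_eq ha haa (lift_spec ha haa)] at key
  rw [← key, add_comm (T.X r c + _), T.cancel]

end Cfsg.Agent.ThreeTranspositionAct
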