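import Mathlib
import Cfsg.Agent.Lib.ThreeTranspositionAct

/-!
The compressed algebra at a point `p`: every `X p ∘ X s ∘ X r` restricted to the values at `p` lies in
the span of `1, J₀, E₀, E₀J₀` with `J₀² = J₀ + 1`, `E₀² = 0`, `J₀E₀ = E₀J₀²`; consequently an element
acting centrally as a 2-element fixes the values at `p`.
-/

set_option autoImplicit false
set_option maxHeartbeats 1000000

namespace Cfsg.Agent.ThreeTranspositionAlgebra

open UnitaryF4Geo ThreeTranspositionUnitary ThreeTranspositionAct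

variable {G : Type*} [Group G] [Finite G] {F : Type*} [Field F] [Fintype F] [hF : FourField F]
  {n : ℕ} {C : Cfg G F n} {M : Type*} [AddCommGroup M] (T : Act C M) {p q : Fin n → F}

/-- A point not orthogonal to `p`, normalised. -/
def N1 (p s : Fin n → F) : Prop := h s s = 0 ∧ h s p = 1

theorem N1.ne {p s : Fin n → F} (hs : N1 p s) : s ≠ 0 := by
  rintro rfl
  exact zero_ne_one ((h_zero_left p).symm.trans hs.2)

theorem N1.ne0 {p s : Fin n → F} (hs : N1 p s) : h s p ≠ 0 := by rw [hs.2]; exact one_ne_zero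

theorem N1.ps {p s : Fin n → F} (hs : N1 p s) : h p s ≠ 0 := by
  rw [h_comm_one hs.2]; exact one_ne_zero

/-- The compression `X p ∘ X s ∘ X r`. -/
noncomputable def J (p s r : Fin n → F) : M →+ M := (T.X p).comp ((T.X s).comp (T.X r))

theorem J_apply (s r : Fin n → F) (c : M) : J T p s r c = T.X p (T.X s (T.X r c)) := rfl

theorem J_mem (s r : Fin n → F) (c : M) : J T p s r c ∈ T.pt p := T.X_mem _ _

theorem J_zero {s r : Fin n → F} (hrs : h r s = 0) (c : M) : J T p s r c = 0 := by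
  rw [J_apply, T.X_orth hrs, map_zero]

theorem J_inv (hpp : h p p = 0) {s r : Fin n → F} (hs : N1 p s) (hr : N1 p r) (hsr : h s r ≠ 0)
    {c : M} (hc : c ∈ T.pt p) : J T p r s (J T p s r c) = c := by
  have h1 : T.X s (T.X p (T.X s (T.X r c))) = T.X s (T.X r c) :=
    T.X_norm hs.1 hpp hs.ne0 (T.X_mem s _)
  have h2 : T.X r (T.X s (T.X r c)) = T.X r c :=
    T.X_norm hr.1 hs.1 (fun h0 => hsr (h_comm_zero h0)) (T.X_mem r _)
  rw [J_apply, J_apply, h1, h2]
  exact T.X_norm hpp hr.1 hr.ps hc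

open Classical in
theorem J_sum (hpp : h p p = 0) {s r : Fin n → F} (hs : N1 p s) (hr : N1 p r) (hsr : h s r ≠ 0)
    {c : M} (hc : c ∈ T.pt p) :
    J T p s r c + J T p r s c = if h s r = 1 then 0 else c := by
  rw [J_apply, J_apply, ← map_add, T.X_third hs.1 hr.1 hsr, map_add, map_add,
    T.X_norm hpp hs.1 hs.ps hc, T.X_norm hpp hr.1 hr.ps hc]
  have e : h (tv r s) p = 1 + h s r := by
    rw [tv_apply, h_add_left, h_smul_left, hs.2, hr.2, mul_one]
  split_ifs with h1
  · have : T.X (tv r s) c = 0 := by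
      refine T.X_kill (h_comm_zero ?_) hc
      rw [e, h1]; exact UnitaryF4Geo.add_self 1
    rw [this, map_zero, zero_add, T.two]
  · have hne : h (tv r s) p ≠ 0 := by
      rw [e]; exact fun h0 => h1 (eq_of_add_eq_zero h0).symm
    rw [T.X_norm hpp (by rw [tv_isom hr.1, hs.1]) (fun h0 => hne (h_comm_zero h0)) hc, T.two,
      zero_add]

theorem J_key (hpp : h p p = 0) {s r u : Fin n → F} (hr : N1 p r) (hu : N1 p u) (hsu : h s u = 0)
    (hru : h r u ≠ 0) {c : M} (hc : c ∈ T.pt p) :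
    J T p s r (J T p r u c) = T.X p (T.X s (T.X (tv u r) c)) + J T p s r c := by
  have h1 : T.X r (J T p r u c) = T.X r (T.X u c) := T.X_norm hr.1 hpp hr.ne0 (T.X_mem r _)
  have h2 := congrArg (fun y => T.X p (T.X s y)) (T.X_third hr.1 hu.1 hru c)
  simp only [map_add] at h2
  rw [T.X_orth (h_comm_zero hsu) (T.X r c), map_zero, add_zero] at h2
  rw [T.X_orth (h_comm_zero hsu) c, map_zero, add_zero] at h2
  rw [J_apply, h1, h2]
  rfl

/-! ### Translations -/

theorem translate (H : Hyp p q) {w : Fin n → F} (hwp : h w p = 0) (hwq : h w q = 0) :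
    ∃ g : G, (∀ c ∈ T.pt p, T.act g c = c) ∧ C.ρ g p = p ∧ (∃ e : F, C.ρ g q = q + e • p + w) ∧
      ∀ v, h v p = 0 → h v q = 0 → ∃ m : F, C.ρ g v = v + m • p := by
  revert hwp hwq
  intro hwp hwq
  refine H.induction (P := fun w => ∃ g : G, (∀ c ∈ T.pt p, T.act g c = c) ∧ C.ρ g p = p ∧
    (∃ e : F, C.ρ g q = q + e • p + w) ∧
      ∀ v, h v p = 0 → h v q = 0 → ∃ m : F, C.ρ g v = v + m • p)
    (by have := C.five; omega) ?_ ?_ hwp hwq
  · intro u hup huq huu
    by_cases hu : u = 0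
    · refine ⟨1, fun c _ => T.act_one c, by simp, ⟨0, by simp [hu]⟩, fun v _ _ => ⟨0, by simp⟩⟩
    have ht : p + u ≠ 0 := by
      intro h0
      have := congrArg (fun x => h x q) h0
      simp only [h_add_left, H.pq, huq, add_zero, h_zero_left] at this
      exact one_ne_zero this
    have htt : h (p + u) (p + u) = 0 := by
      simp [h_add_left, h_add_right, H.pp, hup, huu, h_comm_zero hup]
    have la := lift_spec (C := C) ht htt
    have lb := lift_spec (C := C) hu huu
    have hρ : ∀ x, C.ρ (lift C (p + u) * lift C u) x = tv (p + u) (tv u x) := fun x => by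
      rw [C.ρ_mul, la.2, lb.2]
    have hpu : h p u = 0 := h_comm_zero hup
    refine ⟨lift C (p + u) * lift C u, fun c hc => ?_, ?_, ⟨1, ?_⟩, fun v hvp hvq => ⟨h v u, ?_⟩⟩
    · rw [T.act_mul, T.fixed p u _ c hu huu hpu lb hc,
        T.fixed p (p + u) _ c ht htt (by rw [h_add_right, H.pp, hpu, add_zero]) la hc]
    · rw [hρ, tv_fix hpu, tv_fix (by rw [h_add_right, H.pp, hpu, add_zero])]
    · rw [hρ, tv_fix (h_comm_zero huq), tv_apply, h_add_right, H.qp, h_comm_zero huq, add_zero,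
        one_smul, one_smul, add_assoc]
    · rw [hρ, tv_apply, tv_apply]
      simp only [h_add_left, h_add_right, h_smul_left, hvp, hup, huu, zero_add, mul_zero, add_zero]
      rw [smul_add, add_comm (h v u • p), ← add_assoc, add_assoc v, vec_add_self, add_zero]
  · rintro u u' - - hup' huq' ⟨g, hg, hgp, ⟨e, hgq⟩, hgv⟩ ⟨g', hg', hgp', ⟨e', hgq'⟩, hgv'⟩
    refine ⟨g * g', fun c hc => by rw [T.act_mul, hg' c hc, hg c hc], by rw [C.ρ_mul, hgp', hgp],
      ?_, fun v hvp hvq => ?_⟩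
    · obtain ⟨m, hm⟩ := hgv u' hup' huq'
      refine ⟨e + e' + m, ?_⟩
      rw [C.ρ_mul, hgq', map_add, map_add, map_smul, hgp, hgq, hm]
      module
    · obtain ⟨m', hm'⟩ := hgv' v hvp hvq
      obtain ⟨m, hm⟩ := hgv v hvp hvq
      exact ⟨m + m', by rw [C.ρ_mul, hm', map_add, map_smul, hgp, hm]; module⟩

/-- The standard pair attached to a scalar and a vector of the complement. -/
def vec (p q : Fin n → F) (b : F) (w : Fin n → F) : Fin n → F := q + b • p + w

/-- `Φ b w` is the compression at the pair `(q + b p + w, q)`. -/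
noncomputable def Phi (p q : Fin n → F) (b : F) (w : Fin n → F) : M →+ M :=
  J T p (vec p q b w) q

theorem vec_N1 (H : Hyp p q) {b : F} {w : Fin n → F} (hwp : h w p = 0) (hwq : h w q = 0)
    (hw : h w w = b + b ^ 2) : N1 p (vec p q b w) := by
  refine ⟨?_, ?_⟩
  · simp only [vec, h_add_left, h_add_right, h_smul_left, h_smul_right, H.pp, H.qq, H.pq, H.qp,
      hwp, hwq, h_comm_zero hwp, h_comm_zero hwq, hw]
    linear_combination (b + b ^ 2) * (two_eq_zero (F := F))
  · simp [vec, h_add_left, h_smul_left, H.qp, H.pp, hwp]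

theorem vec_q (H : Hyp p q) {b : F} {w : Fin n → F} (hwq : h w q = 0) : h (vec p q b w) q = b := by
  simp [vec, h_add_left, h_smul_left, H.qq, H.pq, hwq]

theorem proj_vec (H : Hyp p q) {b : F} {w : Fin n → F} (hwp : h w p = 0) (hwq : h w q = 0) :
    proj p q (vec p q b w) = w := by
  rw [proj, vec_q H hwq]
  simp only [vec, h_add_left, h_smul_left, H.qp, H.pp, hwp, mul_zero, add_zero, one_smul]
  calc q + b • p + w + b • p + q = w + ((q + q) + (b • p + b • p)) := by abel
    _ = w := by rw [vec_add_self, vec_add_self, add_zero, add_zero]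

theorem proj_q_self (H : Hyp p q) : proj p q q = 0 := by
  rw [proj, H.qq, H.qp, zero_smul, add_zero, one_smul, vec_add_self]

theorem N1_q (H : Hyp p q) : N1 p q := ⟨H.qq, H.qp⟩

theorem N1.decomp {s : Fin n → F} (hs : N1 p s) : s = q + h s q • p + proj p q s := by
  conv_lhs => rw [proj_decomp p q s, hs.2, one_smul]
  abel

theorem J_proj (H : Hyp p q) {s r : Fin n → F} (hs : N1 p s) (hr : N1 p r) {c : M}
    (hc : c ∈ T.pt p) :
    J T p s r c = Phi T p q (h s r) (proj p q s + proj p q r) c := by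
  have hsd := hs.decomp (q := q)
  have hrd := hr.decomp (q := q)
  have rp := H.proj_p r
  have rq := H.proj_q r
  obtain ⟨g₀, hg₀, hg₀p, ⟨e, hg₀q⟩, hg₀v⟩ := translate T H rp rq
  -- correct the translation so that `q` goes to `r`
  obtain ⟨g, hg, hgp, hgq, hgv⟩ : ∃ g : G, (∀ c ∈ T.pt p, T.act g c = c) ∧ C.ρ g p = p ∧
      C.ρ g q = r ∧ ∀ v, h v p = 0 → h v q = 0 → ∃ m : F, C.ρ g v = v + m • p := by
    have hN1 := hr.1
    have hN2 : h (C.ρ g₀ q) (C.ρ g₀ q) = 0 := by rw [C.isom, H.qq]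
    rw [hg₀q] at hN2
    rw [hrd] at hN1
    simp only [h_add_left, h_add_right, h_smul_left, h_smul_right, H.pp, H.qq, H.pq, H.qp, rp, rq,
      h_comm_zero rp, h_comm_zero rq, mul_zero, zero_add, add_zero, mul_one] at hN1 hN2
    have hfix : (e + h r q) ^ 2 = e + h r q := by
      rw [UnitaryF4Geo.sq_add]
      linear_combination hN1 + hN2 -
        (e + h r q + h (proj p q r) (proj p q r)) * (two_eq_zero (F := F))
    rcases fixed_cases hfix with h0 | h1
    · refine ⟨g₀, hg₀, hg₀p, ?_, hg₀v⟩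
      rw [hg₀q, eq_of_add_eq_zero h0, ← hrd]
    · have hp0 : p ≠ 0 := by
        rintro rfl
        exact zero_ne_one ((h_zero_left _).symm.trans H.pq)
      have lp := lift_spec (C := C) hp0 H.pp
      refine ⟨lift C p * g₀, fun c hc => ?_, ?_, ?_, fun v hvp hvq => ?_⟩
      · rw [T.act_mul, hg₀ c hc, T.fixed p p _ c hp0 H.pp H.pp lp hc]
      · rw [C.ρ_mul, hg₀p, lp.2, tv_fix H.pp]
      · rw [C.ρ_mul, hg₀q, lp.2]
        conv_rhs => rw [hrd]
        simp only [tv_apply, h_add_left, h_smul_left, H.qp, H.pp, rp, mul_zero, add_zero, one_smul]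
        have : h r q = e + 1 := by linear_combination h1 - e * (two_eq_zero (F := F))
        rw [this]
        module
      · obtain ⟨m, hm⟩ := hg₀v v hvp hvq
        refine ⟨m, ?_⟩
        rw [C.ρ_mul, hm, lp.2, tv_fix]
        rw [h_add_left, h_smul_left, hvp, H.pp, mul_zero, add_zero]
  set W := proj p q s + proj p q r with hW
  have Wp : h W p = 0 := by rw [hW, h_add_left, H.proj_p, H.proj_p, add_zero]
  have Wq : h W q = 0 := by rw [hW, h_add_left, H.proj_q, H.proj_q, add_zero]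
  set u := vec p q (h s r) W with hu
  have hgu : C.ρ g u = s := by
    obtain ⟨m, hm⟩ := hgv W Wp Wq
    have e1 : C.ρ g u = q + (h r q + h s r + m) • p + proj p q s := by
      rw [hu, vec, map_add, map_add, map_smul, hgq, hgp, hm]
      funext i
      have hri := congrFun hrd i
      have hWi := congrFun hW i
      simp only [Pi.add_apply, Pi.smul_apply, smul_eq_mul] at hri hWi ⊢
      linear_combination hri + hWi + (proj p q r i) * (two_eq_zero (F := F))
    have e2 : h (C.ρ g u) r = h s r := by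
      rw [← hgq, C.isom, hu, vec_q H Wq, hgq]
    have hpr : h p r = 1 := h_comm_one hr.2
    have key : h r q + h s r + m = h s q := by
      rw [e1] at e2
      have e3 : h (q + h s q • p + proj p q s) r = h s r := by rw [← hsd]
      simp only [h_add_left, h_smul_left, hpr, mul_one] at e2 e3
      exact mul_right_cancel₀ one_ne_zero (b := (1 : F)) (by linear_combination e2 - e3)
    rw [e1, key, ← hsd]
  have hval : T.act g (J T p u q c) = J T p u q c := hg _ (J_mem T _ _ _)
  rw [J_apply, T.act_X, T.act_X, T.act_X, hg c hc, hgp, hgu, hgq] at hval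
  rw [Phi, ← hu, J_apply, J_apply, hval]

theorem Phi_one (H : Hyp p q) {w : Fin n → F} (hwp : h w p = 0) (hwq : h w q = 0)
    (hw : h w w = 0) {c : M} (hc : c ∈ T.pt p) : Phi T p q 1 w c = c := by
  have hu : N1 p (vec p q 1 w) := vec_N1 H hwp hwq (by rw [hw, one_pow]; exact (UnitaryF4Geo.add_self 1).symm)
  have h0p : h (0 : Fin n → F) p = 0 := h_zero_left p
  have h0q : h (0 : Fin n → F) q = 0 := h_zero_left q
  have hs : N1 p (vec p q 1 0) := vec_N1 H h0p h0q (by
    rw [h_zero_left, one_pow]; exact (UnitaryF4Geo.add_self 1).symm)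
  have hqu : h q (vec p q 1 w) = 1 := h_comm_one (vec_q H hwq)
  have hsu : h (vec p q 1 0) (vec p q 1 w) = 0 := by
    simp [vec, h_add_left, h_add_right, H.pp, H.qq, H.pq, H.qp, h_comm_zero hwp, h_comm_zero hwq,
      UnitaryF4Geo.add_self]
  have hsq : h (vec p q 1 0) q = 1 := vec_q H h0q
  have key := J_key T H.pp (N1_q H) hu hsu (by rw [hqu]; exact one_ne_zero) hc
  have hkill : T.X (tv (vec p q 1 w) q) c = 0 := by
    refine T.X_kill (h_comm_zero ?_) hc
    rw [tv_apply, h_add_left, h_smul_left, hqu, H.qp, hu.2, one_mul]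
    exact UnitaryF4Geo.add_self 1
  rw [hkill, map_zero, map_zero, zero_add] at key
  have inv := congrArg (J T p q (vec p q 1 0)) key
  rw [J_inv T H.pp hs (N1_q H) (by rw [hsq]; exact one_ne_zero) (J_mem T _ _ c),
    J_inv T H.pp hs (N1_q H) (by rw [hsq]; exact one_ne_zero) hc] at inv
  have hsum := J_sum T H.pp hu (N1_q H) (by rw [vec_q H hwq]; exact one_ne_zero) hc
  rw [if_pos (vec_q H hwq), inv] at hsum
  exact T.eq_of_add hsum

theorem one_add_sq {α : F} (hα : α ^ 2 = α + 1) : (1 : F) + α ^ 2 = α := by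
  linear_combination hα + (two_eq_zero (F := F))

theorem trace_alpha {α : F} (hα : α ^ 2 = α + 1) : α + α ^ 2 = 1 := by
  linear_combination hα + α * (two_eq_zero (F := F))

/-- The composition rule. -/
theorem Phi_mul (H : Hyp p q) {α : F} (hα : α ^ 2 = α + 1) {w v : Fin n → F}
    (hwp : h w p = 0) (hwq : h w q = 0) (hw : h w w = 1) (hvp : h v p = 0) (hvq : h v q = 0)
    {b : F} (hb : b ≠ 0) (hv : h v v = b + b ^ 2) (hvw : h v w = α ^ 2 + b) {c : M}
    (hc : c ∈ T.pt p) :
    Phi T p q b v (Phi T p q α w c) = Phi T p q (α * b) (v + α • w) c := by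
  have hu : N1 p (vec p q α w) := vec_N1 H hwp hwq (by rw [hw, trace_alpha hα])
  have hs : N1 p (vec p q b v) := vec_N1 H hvp hvq hv
  have hqu : h q (vec p q α w) = α ^ 2 := by rw [h_symm, vec_q H hwq]
  have hsu : h (vec p q b v) (vec p q α w) = 0 := by
    simp only [vec, h_add_left, h_add_right, h_smul_left, h_smul_right, H.pp, H.qq, H.pq, H.qp,
      hvp, hvq, h_comm_zero hwp, h_comm_zero hwq, hvw]
    linear_combination (α ^ 2 + b) * (two_eq_zero (F := F))
  obtain ⟨hα0, hα1⟩ := omega_ne hα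
  have key := J_key T H.pp (N1_q H) hu hsu (by rw [hqu]; exact pow_ne_zero 2 hα0) hc
  have hsum := J_sum T H.pp hu (N1_q H) (by rw [vec_q H hwq]; exact hα0) hc
  rw [if_neg (by rw [vec_q H hwq]; exact hα1)] at hsum
  have hqu' : J T p q (vec p q α w) c = Phi T p q α w c + c := by
    exact (T.cancel _ _).symm.trans (congrArg (J T p (vec p q α w) q c + ·) hsum)
  rw [hqu', map_add] at key
  rw [Phi]
  rw [add_right_cancel key]
  have ht : tv (vec p q α w) q = α • vec p q (α ^ 2) (α • w) := by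
    rw [tv_apply, hqu]
    funext i
    simp only [vec, Pi.add_apply, Pi.smul_apply, smul_eq_mul]
    linear_combination q i * (one_add_sq hα)
  rw [ht, T.X_smul hα0, ← J_apply]
  have hN : N1 p (vec p q (α ^ 2) (α • w)) := by
    refine vec_N1 H (by rw [h_smul_left, hwp, mul_zero]) (by rw [h_smul_left, hwq, mul_zero]) ?_
    rw [h_smul_left, h_smul_right, hw, sq_sq, mul_one, show α * α ^ 2 = α ^ 3 by ring, cube hα0]
    linear_combination -(trace_alpha hα)
  rw [J_proj T H hs hN hc, proj_vec H hvp hvq,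
    proj_vec H (by rw [h_smul_left, hwp, mul_zero]) (by rw [h_smul_left, hwq, mul_zero])]
  congr 2
  simp only [vec, h_add_left, h_add_right, h_smul_left, h_smul_right, H.pp, H.qq, H.pq, H.qp,
    hvp, hvq, h_comm_zero hwp, h_comm_zero hwq, hvw, sq_sq]
  linear_combination b * (one_add_sq hα) + α * cube hα0 + α * (two_eq_zero (F := F))

/-- Orthogonal vectors of norm one give the same compression. -/
theorem Phi_orth (H : Hyp p q) {α : F} (hα : α ^ 2 = α + 1) {w w' : Fin n → F}
    (hwp : h w p = 0) (hwq : h w q = 0) (hw : h w w = 1) (hw'p : h w' p = 0) (hw'q : h w' q = 0)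
    (hw' : h w' w' = 1) (hww : h w' w = 0) {c : M} (hc : c ∈ T.pt p) :
    Phi T p q α w c = Phi T p q α w' c := by
  have hα3 := cube (omega_ne hα).1
  have hvp : h (w' + α • w) p = 0 := by rw [h_add_left, h_smul_left, hw'p, hwp, mul_zero, add_zero]
  have hvq : h (w' + α • w) q = 0 := by rw [h_add_left, h_smul_left, hw'q, hwq, mul_zero, add_zero]
  have hvv : h (w' + α • w) (w' + α • w) = 0 := by
    simp only [h_add_left, h_add_right, h_smul_left, h_smul_right, hw, hw', hww, h_comm_zero hww]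
    linear_combination hα3 + (two_eq_zero (F := F))
  have key := Phi_mul T H hα hwp hwq hw hvp hvq (b := 1) one_ne_zero
    (by rw [hvv, one_pow]; exact (UnitaryF4Geo.add_self 1).symm)
    (by rw [h_add_left, h_smul_left, hww, hw]; linear_combination -(one_add_sq hα)) hc
  rw [Phi_one T H hvp hvq hvv (c := Phi T p q α w c) (J_mem T _ _ c), mul_one, add_assoc,
    vec_add_self, add_zero] at key
  exact key

/-- Invariance under scalars. -/
theorem Phi_scal (H : Hyp p q) {α : F} (hα : α ^ 2 = α + 1) {w : Fin n → F}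
    (hwp : h w p = 0) (hwq : h w q = 0) (hw : h w w = 1) {a : F} (ha : a ≠ 0) {c : M}
    (hc : c ∈ T.pt p) : Phi T p q α (a • w) c = Phi T p q α w c := by
  obtain ⟨y, hy, hyp, hyq, hyw⟩ := H.exists_orth (by have := C.five; omega) hw hwp hwq
  rw [Phi_orth T H hα (by rw [h_smul_left, hwp, mul_zero]) (by rw [h_smul_left, hwq, mul_zero])
      (by rw [h_smul_left, h_smul_right, hw, mul_one, show a * a ^ 2 = a ^ 3 by ring, cube ha])
      hyp hyq hy (by rw [h_smul_right, hyw, mul_zero]) hc,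
    Phi_orth T H hα hwp hwq hw hyp hyq hy hyw hc]

/-- The conjugate class. -/
theorem Phi_conj (H : Hyp p q) {α : F} (hα : α ^ 2 = α + 1) {x : Fin n → F}
    (hxp : h x p = 0) (hxq : h x q = 0) (hx : h x x = 1) {c : M} (hc : c ∈ T.pt p) :
    Phi T p q (α ^ 2) x c = c + Phi T p q α x c := by
  obtain ⟨hα0, hα1⟩ := omega_ne hα
  have hs : N1 p (vec p q (α ^ 2) x) := vec_N1 H hxp hxq (by
    rw [hx, sq_sq, add_comm, trace_alpha hα])
  have hne : h (vec p q (α ^ 2) x) q ≠ 1 := by
    rw [vec_q H hxq]; intro h0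
    exact hα1 (by rw [← sq_sq α, h0, one_pow])
  have hsum := J_sum T H.pp hs (N1_q H) (by rw [vec_q H hxq]; exact pow_ne_zero 2 hα0) hc
  rw [if_neg hne, J_proj T H (N1_q H) hs hc, proj_q_self H, proj_vec H hxp hxq, zero_add,
    h_symm (vec p q (α ^ 2) x) q, vec_q H hxq, sq_sq] at hsum
  show J T p (vec p q (α ^ 2) x) q c = _
  conv_rhs => arg 1; rw [← hsum]
  rw [add_assoc, T.two, add_zero]

theorem Phi_sq (H : Hyp p q) {α : F} (hα : α ^ 2 = α + 1) {w : Fin n → F}
    (hwp : h w p = 0) (hwq : h w q = 0) (hw : h w w = 1) {c : M} (hc : c ∈ T.pt p) :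
    Phi T p q α w (Phi T p q α w c) = c + Phi T p q α w c := by
  obtain ⟨hα0, hα1⟩ := omega_ne hα
  have hs : N1 p (vec p q α w) := vec_N1 H hwp hwq (by rw [hw, trace_alpha hα])
  have hne : h (vec p q α w) q ≠ 0 := by rw [vec_q H hwq]; exact hα0
  have inv := J_inv T H.pp hs (N1_q H) hne hc
  have hsum := J_sum T H.pp hs (N1_q H) hne (J_mem T (vec p q α w) q c)
  rw [if_neg (by rw [vec_q H hwq]; exact hα1), inv] at hsum
  show J T p _ q (J T p _ q c) = c + J T p _ q c
  conv_rhs => arg 2; rw [← hsum]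
  rw [add_comm c, add_assoc, T.two, add_zero]

/-- `B` : composition inside one class. -/
theorem Phi_comp (H : Hyp p q) {α : F} (hα : α ^ 2 = α + 1) {w v : Fin n → F}
    (hwp : h w p = 0) (hwq : h w q = 0) (hw : h w w = 1) (hvp : h v p = 0) (hvq : h v q = 0)
    (hv : h v v = 1) (hvw : h v w = 1) {c : M} (hc : c ∈ T.pt p) :
    Phi T p q α v (Phi T p q α w c) = c + Phi T p q α (v + α • w) c := by
  obtain ⟨hα0, -⟩ := omega_ne hα
  rw [Phi_mul T H hα hwp hwq hw hvp hvq hα0 (by rw [hv, trace_alpha hα])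
    (by rw [hvw, add_comm, trace_alpha hα]) hc, ← pow_two]
  refine Phi_conj T H hα ?_ ?_ ?_ hc
  · rw [h_add_left, h_smul_left, hvp, hwp, mul_zero, add_zero]
  · rw [h_add_left, h_smul_left, hvq, hwq, mul_zero, add_zero]
  · simp only [h_add_left, h_add_right, h_smul_left, h_smul_right, hv, hw, hvw, h_comm_one hvw]
    linear_combination trace_alpha hα + cube hα0 + (two_eq_zero (F := F))

/-- The deviation from the base compression. -/
noncomputable def Dev (p q : Fin n → F) (α : F) (w₀ r : Fin n → F) : M →+ M :=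
  Phi T p q α (w₀ + r) + Phi T p q α w₀

theorem Dev_apply (α : F) (w₀ r : Fin n → F) (c : M) :
    Dev T p q α w₀ r c = Phi T p q α (w₀ + r) c + Phi T p q α w₀ c := rfl

/-- Vectors used for deviations. -/
def Good (p q w₀ r : Fin n → F) : Prop := h r p = 0 ∧ h r q = 0 ∧ h r w₀ = 0 ∧ h r r = 0

theorem Good.smul {w₀ r : Fin n → F} (hr : Good p q w₀ r) (a : F) : Good p q w₀ (a • r) := by
  obtain ⟨a1, a2, a3, a4⟩ := hr
  refine ⟨?_, ?_, ?_, ?_⟩ <;> simp [h_smul_left, h_smul_right, a1, a2, a3, a4]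

theorem Good.add_base {w₀ r : Fin n → F} (h0p : h w₀ p = 0) (h0q : h w₀ q = 0)
    (h0 : h w₀ w₀ = 1) (hr : Good p q w₀ r) :
    h (w₀ + r) p = 0 ∧ h (w₀ + r) q = 0 ∧ h (w₀ + r) (w₀ + r) = 1 := by
  obtain ⟨a1, a2, a3, a4⟩ := hr
  simp [h_add_left, h_add_right, h0p, h0q, h0, a1, a2, a3, a4, h_comm_zero a3]

theorem Dev_right (H : Hyp p q) {α : F} (hα : α ^ 2 = α + 1) {w₀ r : Fin n → F}
    (h0p : h w₀ p = 0) (h0q : h w₀ q = 0) (h0 : h w₀ w₀ = 1) (hr : Good p q w₀ r) {c : M}
    (hc : c ∈ T.pt p) :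
    Dev T p q α w₀ (α • r) c = Dev T p q α w₀ r (Phi T p q α w₀ c) := by
  obtain ⟨hvp, hvq, hv⟩ := hr.add_base h0p h0q h0
  have hvw : h (w₀ + r) w₀ = 1 := by rw [h_add_left, h0, hr.2.2.1, add_zero]
  obtain ⟨a1, a2, a3⟩ := (hr.smul α).add_base h0p h0q h0
  have key := Phi_comp T H hα h0p h0q h0 hvp hvq hv hvw hc
  have hvec : w₀ + r + α • w₀ = α ^ 2 • (w₀ + α • r) := by
    funext i
    simp only [Pi.add_apply, Pi.smul_apply, smul_eq_mul]
    linear_combination (-(w₀ i)) * hα - r i * cube (omega_ne hα).1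
  rw [hvec, Phi_scal T H hα a1 a2 a3 (pow_ne_zero 2 (omega_ne hα).1) hc] at key
  rw [Dev_apply, Dev_apply, key, Phi_sq T H hα h0p h0q h0 hc]
  calc _ = Phi T p q α (w₀ + α • r) c + Phi T p q α w₀ c + (c + c) := by rw [T.two, add_zero]
    _ = _ := by abel

theorem Dev_left (H : Hyp p q) {α : F} (hα : α ^ 2 = α + 1) {w₀ r : Fin n → F}
    (h0p : h w₀ p = 0) (h0q : h w₀ q = 0) (h0 : h w₀ w₀ = 1) (hr : Good p q w₀ r) {c : M}
    (hc : c ∈ T.pt p) :
    Phi T p q α w₀ (Dev T p q α w₀ r c) = Dev T p q α w₀ (α • α • r) c := by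
  obtain ⟨hvp, hvq, hv⟩ := hr.add_base h0p h0q h0
  have hvw : h w₀ (w₀ + r) = 1 := by rw [h_add_right, h0, h_comm_zero hr.2.2.1, add_zero]
  obtain ⟨a1, a2, a3⟩ := ((hr.smul α).smul α).add_base h0p h0q h0
  have key := Phi_comp T H hα hvp hvq hv h0p h0q h0 hvw hc
  have hvec : w₀ + α • (w₀ + r) = α ^ 2 • (w₀ + α • α • r) := by
    funext i
    simp only [Pi.add_apply, Pi.smul_apply, smul_eq_mul]
    linear_combination (-(w₀ i)) * hα - (α * r i) * cube (omega_ne hα).1
  rw [hvec, Phi_scal T H hα a1 a2 a3 (pow_ne_zero 2 (omega_ne hα).1) hc] at key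
  rw [Dev_apply, Dev_apply, map_add, key, Phi_sq T H hα h0p h0q h0 hc]
  calc _ = Phi T p q α (w₀ + α • α • r) c + Phi T p q α w₀ c + (c + c) := by abel
    _ = _ := by rw [T.two, add_zero]

theorem Dev_nil (H : Hyp p q) {α : F} (hα : α ^ 2 = α + 1) {w₀ r : Fin n → F}
    (h0p : h w₀ p = 0) (h0q : h w₀ q = 0) (h0 : h w₀ w₀ = 1) (hr : Good p q w₀ r) {c : M}
    (hc : c ∈ T.pt p) : Dev T p q α w₀ r (Dev T p q α w₀ r c) = 0 := by
  obtain ⟨hvp, hvq, hv⟩ := hr.add_base h0p h0q h0
  set J0 := Phi T p q α w₀ with hJ0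
  set e := Dev T p q α w₀ r with he
  have hm0 : ∀ x, J0 x ∈ T.pt p := fun x => J_mem T _ _ x
  have hes : ∀ x, Phi T p q α (w₀ + r) x = e x + J0 x := fun x => by
    rw [he, Dev_apply, ← hJ0, add_assoc, T.two, add_zero]
  have sq := Phi_sq T H hα hvp hvq hv hc
  have hJe : J0 (e c) = e (J0 (J0 c)) := by
    rw [hJ0, he, Dev_left T H hα h0p h0q h0 hr hc, Dev_right T H hα h0p h0q h0 (hr.smul α) hc,
      Dev_right T H hα h0p h0q h0 hr (hm0 c)]
  rw [hes, hes c, map_add e, map_add J0, hJe, hJ0, Phi_sq T H hα h0p h0q h0 hc, ← hJ0, map_add e]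
    at sq
  have e1 : e (e c) + (c + (e c + J0 c)) = c + (e c + J0 c) := by
    calc e (e c) + (c + (e c + J0 c))
        = e (e c) + e (J0 c) + (e c + e (J0 c) + (c + J0 c)) := by
          rw [show e (e c) + e (J0 c) + (e c + e (J0 c) + (c + J0 c)) =
            e (e c) + (c + (e c + J0 c)) + (e (J0 c) + e (J0 c)) by abel, T.two, add_zero]
      _ = _ := sq
  exact add_eq_right.mp e1

end Cfsg.Agent.ThreeTranspositionAlgebra
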