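import Mathlib
import Cfsg.Agent.Lib.ThreeTranspositionAlgebra

/-!
An element over the identity whose action is a 2-element acts trivially on the values at every point.
-/

set_option autoImplicit false
set_option maxHeartbeats 1000000

namespace Cfsg.Agent.ThreeTranspositionCentral

open UnitaryF4Geo ThreeTranspositionUnitary ThreeTranspositionAct ThreeTranspositionAlgebra

variable {G : Type*} [Group G] [Finite G] {F : Type*} [Field F] [Fintype F] [hF : FourField F]
  {n : ℕ} {C : Cfg G F n} {M : Type*} [AddCommGroup M] (T : Act C M) {p q : Fin n → F}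

theorem scalar_cases {α a : F} (hα : α ^ 2 = α + 1) (ha : a ≠ 0) : a = 1 ∨ a = α ∨ a = α ^ 2 := by
  by_cases h1 : a = 1
  · exact Or.inl h1
  have hr := UnitaryF4Geo.rel ha h1
  have : (a + α) * (a + α ^ 2) = 0 := by
    linear_combination (hr) + (a + α) * hα + hα +
      (a * α + a + α + 1) * (two_eq_zero (F := F))
  rcases mul_eq_zero.mp this with h | h
  · exact Or.inr (Or.inl (eq_of_add_eq_zero h))
  · exact Or.inr (Or.inr (eq_of_add_eq_zero h))

/-- Membership in the span of `1, J₀, E₀, E₀J₀` on the values at `p`. -/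
def InSpan (p : Fin n → F) (J0 E0 f : M →+ M) : Prop :=
  ∃ a b x y : ℕ, ∀ c ∈ T.pt p, f c = a • c + b • J0 c + x • E0 c + y • E0 (J0 c)

/-- The relations of the compressed algebra. -/
structure Rel (p : Fin n → F) (J0 E0 : M →+ M) : Prop where
  memJ : ∀ c, J0 c ∈ T.pt p
  memE : ∀ c, E0 c ∈ T.pt p
  jj : ∀ c ∈ T.pt p, J0 (J0 c) = c + J0 c
  ee : ∀ c ∈ T.pt p, E0 (E0 c) = 0
  je : ∀ c ∈ T.pt p, J0 (E0 c) = E0 c + E0 (J0 c)

variable {J0 E0 : M →+ M}

theorem Rel.jej (R : Rel T p J0 E0) {c : M} (hc : c ∈ T.pt p) : J0 (E0 (J0 c)) = E0 c := by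
  rw [R.je _ (R.memJ c), R.jj c hc, map_add, add_comm (E0 c), ← add_assoc, T.two, zero_add]

theorem Rel.ej_e (R : Rel T p J0 E0) {c : M} (hc : c ∈ T.pt p) : E0 (J0 (E0 c)) = 0 := by
  rw [R.je c hc, map_add, R.ee c hc, R.ee _ (R.memJ c), add_zero]

theorem Rel.ej_ej (R : Rel T p J0 E0) {c : M} (hc : c ∈ T.pt p) : E0 (J0 (E0 (J0 c))) = 0 := by
  rw [R.jej T hc, R.ee c hc]

theorem InSpan.add {f g : M →+ M} (hf : InSpan T p J0 E0 f) (hg : InSpan T p J0 E0 g) :
    InSpan T p J0 E0 (f + g) := by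
  obtain ⟨a, b, x, y, h1⟩ := hf
  obtain ⟨a', b', x', y', h2⟩ := hg
  refine ⟨a + a', b + b', x + x', y + y', fun c hc => ?_⟩
  rw [AddMonoidHom.add_apply, h1 c hc, h2 c hc]
  module

theorem InSpan.congr {f g : M →+ M} (hf : InSpan T p J0 E0 f) (e : ∀ c ∈ T.pt p, g c = f c) :
    InSpan T p J0 E0 g := by
  obtain ⟨a, b, x, y, h1⟩ := hf
  exact ⟨a, b, x, y, fun c hc => by rw [e c hc, h1 c hc]⟩

theorem InSpan.zero : InSpan T p J0 E0 (0 : M →+ M) := ⟨0, 0, 0, 0, fun c _ => by simp⟩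

theorem InSpan.id : InSpan T p J0 E0 (AddMonoidHom.id M) := ⟨1, 0, 0, 0, fun c _ => by simp⟩

theorem InSpan.baseJ : InSpan T p J0 E0 J0 := ⟨0, 1, 0, 0, fun c _ => by simp⟩

theorem InSpan.baseE : InSpan T p J0 E0 E0 := ⟨0, 0, 1, 0, fun c _ => by simp⟩

theorem InSpan.mem (R : Rel T p J0 E0) {f : M →+ M} (hf : InSpan T p J0 E0 f) {c : M}
    (hc : c ∈ T.pt p) : f c ∈ T.pt p := by
  obtain ⟨a, b, x, y, h1⟩ := hf
  rw [h1 c hc]
  exact add_mem (add_mem (add_mem (nsmul_mem hc _) (nsmul_mem (R.memJ _) _))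
    (nsmul_mem (R.memE _) _)) (nsmul_mem (R.memE _) _)

theorem InSpan.comp (R : Rel T p J0 E0) {f g : M →+ M} (hf : InSpan T p J0 E0 f)
    (hg : InSpan T p J0 E0 g) : InSpan T p J0 E0 (f.comp g) := by
  have hm : ∀ c ∈ T.pt p, g c ∈ T.pt p := fun c hc => InSpan.mem T R hg hc
  obtain ⟨a, b, x, y, h1⟩ := hf
  obtain ⟨a', b', x', y', h2⟩ := hg
  refine ⟨a * a' + b * b', a * b' + b * a' + b * b',
    a * x' + b * (x' + y') + x * a' + y * b', a * y' + b * x' + x * b' + y * a' + y * b',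
    fun c hc => ?_⟩
  rw [AddMonoidHom.comp_apply, h1 _ (hm c hc), h2 c hc]
  simp only [map_add, map_nsmul, R.jj c hc, R.ee c hc, R.je c hc, R.jej T hc,
    R.ee _ (R.memJ c), smul_add, smul_zero, add_zero]
  module

theorem exists_partner {α : F} (hα : α ^ 2 = α + 1) (H : Hyp p q) {w₀ σ : Fin n → F}
    (h0p : h w₀ p = 0) (h0q : h w₀ q = 0) (h0 : h w₀ w₀ = 1) (hσ : Good p q w₀ σ) (hσ0 : σ ≠ 0) :
    ∃ τ, Good p q w₀ τ ∧ h τ σ = 1 := by
  obtain ⟨v, hv, -⟩ := exists_h_eq_one hσ0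
  obtain ⟨s1, s2, s3, s4⟩ := hσ
  set v' := proj p q v + h (proj p q v) w₀ • w₀ with hv'
  have e1 : h v' p = 0 := by rw [hv', h_add_left, h_smul_left, H.proj_p, h0p, mul_zero, add_zero]
  have e2 : h v' q = 0 := by rw [hv', h_add_left, h_smul_left, H.proj_q, h0q, mul_zero, add_zero]
  have e3 : h v' w₀ = 0 := by
    rw [hv', h_add_left, h_smul_left, h0, mul_one]; exact UnitaryF4Geo.add_self _
  have e4 : h v' σ = 1 := by
    simp only [hv', proj, h_add_left, h_smul_left, hv, h_comm_zero s1, h_comm_zero s2,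
      h_comm_zero s3, mul_zero, add_zero]
  rcases h_self v' with e | e
  · exact ⟨v', ⟨e1, e2, e3, e⟩, e4⟩
  refine ⟨v' + α • σ, ⟨?_, ?_, ?_, ?_⟩, ?_⟩ <;>
    simp only [h_add_left, h_add_right, h_smul_left, h_smul_right, e, e1, e2, e3, e4, s1, s2, s3,
      s4, h_comm_one e4, mul_zero, add_zero]
  linear_combination hα + (α + 1) * (two_eq_zero (F := F))

theorem exists_rel (H : Hyp p q) {α : F} (hα : α ^ 2 = α + 1) {w₀ : Fin n → F}
    (h0p : h w₀ p = 0) (h0q : h w₀ q = 0) (h0 : h w₀ w₀ = 1) :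
    ∃ E0 : M →+ M, Rel T p (Phi T p q α w₀) E0 ∧
      ∀ r, Good p q w₀ r → InSpan T p (Phi T p q α w₀) E0 (Dev T p q α w₀ r) := by
  have devz : ∀ c, Dev T p q α w₀ (0 : Fin n → F) c = 0 := fun c => by
    rw [Dev_apply, add_zero, T.two]
  set J0 := Phi T p q α w₀ with hJ0
  have memJ : ∀ c, J0 c ∈ T.pt p := fun c => J_mem T _ _ c
  have jj : ∀ c ∈ T.pt p, J0 (J0 c) = c + J0 c := fun c hc => Phi_sq T H hα h0p h0q h0 hc
  by_cases hex : ∃ r₀, Good p q w₀ r₀ ∧ r₀ ≠ 0
  swap
  · push_neg at hex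
    refine ⟨0, ⟨memJ, fun c => zero_mem _, jj, fun c _ => rfl, fun c _ => by simp⟩, fun r hr => ?_⟩
    rw [hex r hr]
    exact InSpan.congr T (InSpan.zero T) fun c _ => devz c
  obtain ⟨r₀, hr₀, hr₀0⟩ := hex
  set E0 := Dev T p q α w₀ r₀ with hE0
  have R : Rel T p J0 E0 := by
    refine ⟨memJ, fun c => ?_, jj, fun c hc => Dev_nil T H hα h0p h0q h0 hr₀ hc, fun c hc => ?_⟩
    · rw [hE0, Dev_apply]; exact add_mem (J_mem T _ _ c) (J_mem T _ _ c)
    · rw [hJ0, hE0, Dev_left T H hα h0p h0q h0 hr₀ hc,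
        Dev_right T H hα h0p h0q h0 (hr₀.smul α) hc,
        Dev_right T H hα h0p h0q h0 hr₀ (memJ c), ← hJ0, jj c hc, map_add]
  refine ⟨E0, R, ?_⟩
  -- scalar multiples
  have scal : ∀ σ, Good p q w₀ σ → InSpan T p J0 E0 (Dev T p q α w₀ σ) → ∀ a : F,
      InSpan T p J0 E0 (Dev T p q α w₀ (a • σ)) := by
    intro σ hσ hs a
    by_cases ha : a = 0
    · subst ha
      rw [zero_smul]
      exact InSpan.congr T (InSpan.zero T) fun c _ => devz c
    rcases scalar_cases hα ha with e | e | e <;> subst e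
    · rw [one_smul]; exact hs
    · refine InSpan.congr T (InSpan.comp T R hs (InSpan.baseJ T)) fun c hc => ?_
      exact Dev_right T H hα h0p h0q h0 hσ hc
    · refine InSpan.congr T (InSpan.add T hs (InSpan.comp T R hs (InSpan.baseJ T))) fun c hc => ?_
      rw [pow_two, mul_smul, Dev_right T H hα h0p h0q h0 (hσ.smul α) hc,
        Dev_right T H hα h0p h0q h0 hσ (memJ c), ← hJ0, jj c hc, map_add]
      rfl
  -- non-orthogonal vectors
  have link : ∀ σ τ, Good p q w₀ σ → Good p q w₀ τ → h τ σ ≠ 0 →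
      InSpan T p J0 E0 (Dev T p q α w₀ σ) → InSpan T p J0 E0 (Dev T p q α w₀ τ) := by
    intro σ τ hσ hτ hne hs
    set τ' := (h τ σ)⁻¹ • τ with hτ'
    have g' : Good p q w₀ τ' := hτ.smul _
    have e1 : h τ' σ = 1 := by rw [hτ', h_smul_left, inv_mul_cancel₀ hne]
    have h1 : InSpan T p J0 E0 (Dev T p q α w₀ τ') := by
      refine InSpan.congr T hs fun c hc => ?_
      obtain ⟨a1, a2, a3⟩ := g'.add_base h0p h0q h0
      obtain ⟨b1, b2, b3⟩ := hσ.add_base h0p h0q h0
      rw [Dev_apply, Dev_apply, Phi_orth T H hα a1 a2 a3 b1 b2 b3 ?_ hc]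
      simp only [h_add_left, h_add_right, h0, hσ.2.2.1, h_comm_zero g'.2.2.1, h_comm_one e1]
      linear_combination (two_eq_zero (F := F))
    have := scal τ' g' h1 (h τ σ)
    rwa [hτ', smul_inv_smul₀ hne] at this
  intro σ hσ
  by_cases hσ0 : σ = 0
  · subst hσ0
    exact InSpan.congr T (InSpan.zero T) fun c _ => devz c
  have base : InSpan T p J0 E0 (Dev T p q α w₀ r₀) := InSpan.baseE T
  by_cases h1 : h σ r₀ = 0
  swap
  · exact link r₀ σ hr₀ hσ h1 base
  obtain ⟨τ₁, ht1, ht1r⟩ := exists_partner hα H h0p h0q h0 hr₀ hr₀0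
  obtain ⟨τ₂, ht2, ht2s⟩ := exists_partner hα H h0p h0q h0 hσ hσ0
  by_cases hb : h τ₁ σ = 0
  swap
  · exact link τ₁ σ ht1 hσ (fun h0' => hb (h_comm_zero h0'))
      (link r₀ τ₁ hr₀ ht1 (by rw [ht1r]; exact one_ne_zero) base)
  by_cases hb2 : h τ₂ r₀ = 0
  swap
  · exact link τ₂ σ ht2 hσ (by rw [h_comm_one ht2s]; exact one_ne_zero)
      (link r₀ τ₂ hr₀ ht2 hb2 base)
  set τ := τ₁ + τ₂ + h τ₁ τ₂ • r₀ with hτ
  obtain ⟨u1, u2, u3, u4⟩ := ht1
  obtain ⟨v1, v2, v3, v4⟩ := ht2
  obtain ⟨r1, r2, r3, r4⟩ := hr₀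
  have gτ : Good p q w₀ τ := by
    refine ⟨?_, ?_, ?_, ?_⟩ <;>
      simp only [hτ, h_add_left, h_add_right, h_smul_left, h_smul_right, u1, u2, u3, u4, v1, v2,
        v3, v4, r1, r2, r3, r4, ht1r, hb2, h_comm_one ht1r, h_comm_zero hb2, mul_zero, add_zero,
        mul_one, zero_add]
    rw [h_symm τ₁ τ₂]
    linear_combination (h τ₁ τ₂ + h τ₁ τ₂ ^ 2) * (two_eq_zero (F := F))
  have e1 : h τ r₀ = 1 := by
    simp only [hτ, h_add_left, h_smul_left, ht1r, hb2, r4, mul_zero, add_zero]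
  have e2 : h σ τ = 1 := by
    simp only [hτ, h_add_right, h_smul_right, h_comm_zero hb, h_comm_one ht2s, h1, mul_zero,
      add_zero, zero_add]
  exact link τ σ gτ hσ (by rw [e2]; exact one_ne_zero)
    (link r₀ τ ⟨r1, r2, r3, r4⟩ gτ (by rw [e1]; exact one_ne_zero) base)

theorem J_span (H : Hyp p q) {α : F} (hα : α ^ 2 = α + 1) {w₀ : Fin n → F}
    (h0p : h w₀ p = 0) (h0q : h w₀ q = 0) (h0 : h w₀ w₀ = 1) {E0 : M →+ M}
    (hdev : ∀ r, Good p q w₀ r → InSpan T p (Phi T p q α w₀) E0 (Dev T p q α w₀ r))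
    {s r : Fin n → F} (hs : N1 p s) (hr : N1 p r) :
    InSpan T p (Phi T p q α w₀) E0 (J T p s r) := by
  set J0 := Phi T p q α w₀ with hJ0
  by_cases hsr : h s r = 0
  · exact InSpan.congr T (InSpan.zero T) fun c _ => J_zero T (h_comm_zero hsr) c
  set W := proj p q s + proj p q r with hW
  have Wp : h W p = 0 := by rw [hW, h_add_left, H.proj_p, H.proj_p, add_zero]
  have Wq : h W q = 0 := by rw [hW, h_add_left, H.proj_q, H.proj_q, add_zero]
  have hWW : h W W = h s r + h s r ^ 2 := by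
    set ps := proj p q s with hps
    set pr := proj p q r with hpr
    have e1 : h ps p = 0 := H.proj_p s
    have e2 : h ps q = 0 := H.proj_q s
    have e3 : h pr p = 0 := H.proj_p r
    have e4 : h pr q = 0 := H.proj_q r
    have ds := hs.decomp (q := q)
    have dr := hr.decomp (q := q)
    rw [← hps] at ds
    rw [← hpr] at dr
    have n1 : h ps ps = h s q + h s q ^ 2 := by
      have := hs.1
      conv_lhs at this => rw [ds]
      simp only [h_add_left, h_add_right, h_smul_left, h_smul_right, H.pp, H.qq, H.pq, H.qp, e1,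
        e2, h_comm_zero e1, h_comm_zero e2, mul_zero, add_zero, zero_add, mul_one] at this
      linear_combination this - (h s q + h s q ^ 2) * (two_eq_zero (F := F))
    have n2 : h pr pr = h r q + h r q ^ 2 := by
      have := hr.1
      conv_lhs at this => rw [dr]
      simp only [h_add_left, h_add_right, h_smul_left, h_smul_right, H.pp, H.qq, H.pq, H.qp, e3,
        e4, h_comm_zero e3, h_comm_zero e4, mul_zero, add_zero, zero_add, mul_one] at this
      linear_combination this - (h r q + h r q ^ 2) * (two_eq_zero (F := F))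
    have n3 : h s r = h s q + h r q ^ 2 + h ps pr := by
      conv_lhs => rw [ds, dr]
      simp only [h_add_left, h_add_right, h_smul_left, h_smul_right, H.pp, H.qq, H.pq, H.qp, e1,
        e2, e3, e4, h_comm_zero e3, h_comm_zero e4, mul_zero, add_zero, zero_add, mul_one]
    simp only [hW, h_add_left, h_add_right, n1, n2, n3, h_symm ps pr, UnitaryF4Geo.sq_add, sq_sq]
    ring
  have key : ∀ c ∈ T.pt p, J T p s r c = Phi T p q (h s r) W c := fun c hc => J_proj T H hs hr hc
  refine InSpan.congr T ?_ key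
  clear key
  -- vectors of norm one
  have norm1 : h W W = 1 → InSpan T p J0 E0 (Phi T p q α W) := by
    intro hW1
    by_cases ha : h W w₀ = 0
    · exact InSpan.congr T (InSpan.baseJ T)
        fun c hc => (Phi_orth T H hα h0p h0q h0 Wp Wq hW1 ha hc).symm
    set a := h W w₀ with ha'
    set ρ := a⁻¹ • W + w₀ with hρ
    have hρg : Good p q w₀ ρ := by
      refine ⟨?_, ?_, ?_, ?_⟩
      · rw [hρ, h_add_left, h_smul_left, Wp, h0p, mul_zero, add_zero]
      · rw [hρ, h_add_left, h_smul_left, Wq, h0q, mul_zero, add_zero]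
      · rw [hρ, h_add_left, h_smul_left, h0, ← ha', inv_mul_cancel₀ ha]
        exact UnitaryF4Geo.add_self 1
      · have hsy : h w₀ W = a ^ 2 := h_symm W w₀
        simp only [hρ, h_add_left, h_add_right, h_smul_left, h_smul_right, hW1, h0, ← ha', hsy,
          mul_one]
        linear_combination cube (inv_ne_zero ha) + (a⁻¹ * a + 2) * inv_mul_cancel₀ ha +
          (2 : F) * (two_eq_zero (F := F))
    refine InSpan.congr T (InSpan.add T (hdev ρ hρg) (InSpan.baseJ T)) fun c hc => ?_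
    have hWρ : w₀ + ρ = a⁻¹ • W := by
      rw [hρ, add_comm w₀, add_assoc, vec_add_self, add_zero]
    rw [AddMonoidHom.add_apply, Dev_apply, hWρ, Phi_scal T H hα Wp Wq hW1 (inv_ne_zero ha) hc,
      ← hJ0, add_assoc, T.two, add_zero]
  rcases scalar_cases hα hsr with e | e | e <;> rw [e] at hWW ⊢
  · refine InSpan.congr T (InSpan.id T) fun c hc => Phi_one T H Wp Wq ?_ hc
    rw [hWW, one_pow]; exact UnitaryF4Geo.add_self 1
  · exact norm1 (by rw [hWW, trace_alpha hα])
  · have hW1 : h W W = 1 := by rw [hWW, sq_sq, add_comm, trace_alpha hα]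
    exact InSpan.congr T (InSpan.add T (InSpan.id T) (norm1 hW1))
      fun c hc => Phi_conj T H hα Wp Wq hW1 hc

/-- An element over the identity whose action is a 2-element fixes every value. -/
theorem central_fix {z : G} (hz : z ∈ C.Q) {k : ℕ} (hk : ∀ a, T.act (z ^ (2 ^ k)) a = a)
    (hp0 : p ≠ 0) (hpp : h p p = 0) {c : M} (hc : c ∈ T.pt p) : T.act z c = c := by
  obtain ⟨q, H⟩ := exists_hyp hp0 hpp
  obtain ⟨α, hα⟩ := exists_omega (F := F)
  obtain ⟨w₀, h0, h0p, h0q⟩ := H.exists_one (by have := C.five; omega)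
  obtain ⟨E0, R, hdev⟩ := exists_rel T H hα h0p h0q h0
  set J0 := Phi T p q α w₀ with hJ0
  have hJ : ∀ {s r}, N1 p s → N1 p r → InSpan T p J0 E0 (J T p s r) :=
    fun hs hr => J_span T H hα h0p h0q h0 hdev hs hr
  -- the invariant set of maps
  let L : AddSubgroup (↥(T.pt p) →+ M) := AddSubgroup.closure
    ({f | ∃ g, InSpan T p J0 E0 g ∧ f = g.comp (T.pt p).subtype} ∪
      {f | ∃ g r, InSpan T p J0 E0 g ∧ N1 p r ∧ f = ((T.X r).comp g).comp (T.pt p).subtype})
  have hX : ∀ a : Fin n → F, a ≠ 0 → h a a = 0 → ∀ f ∈ L, (T.X a).comp f ∈ L := by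
    intro a ha haa f hf
    induction hf using AddSubgroup.closure_induction with
    | zero => simp
    | add f g _ _ hf hg => rw [AddMonoidHom.comp_add]; exact add_mem hf hg
    | neg f _ hf => rw [AddMonoidHom.comp_neg]; exact neg_mem hf
    | mem f hf =>
      by_cases hap : h a p = 0
      · rcases hf with ⟨g, hg, rfl⟩ | ⟨g, r, hg, hr, rfl⟩
        · convert L.zero_mem using 1
          ext x
          exact T.X_kill (h_comm_zero hap) (InSpan.mem T R hg x.2)
        · have ht : N1 p (tv a r) := by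
            refine ⟨by rw [tv_isom haa, hr.1], ?_⟩
            rw [tv_apply, h_add_left, h_smul_left, hr.2, hap, mul_zero, add_zero]
          have e1 : ((T.X (tv a r)).comp g).comp (T.pt p).subtype ∈ L :=
            AddSubgroup.subset_closure (Or.inr ⟨g, _, hg, ht, rfl⟩)
          have e2 : ((T.X r).comp g).comp (T.pt p).subtype ∈ L :=
            AddSubgroup.subset_closure (Or.inr ⟨g, _, hg, hr, rfl⟩)
          convert add_mem e1 e2 using 1
          ext x
          exact T.X_move ha haa (h_comm_zero hap) (InSpan.mem T R hg x.2)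
      · set a' := (h a p)⁻¹ • a with ha'
        have hn : N1 p a' := by
          refine ⟨by rw [ha', h_smul_left, h_smul_right, haa, mul_zero, mul_zero], ?_⟩
          rw [ha', h_smul_left, inv_mul_cancel₀ hap]
        rw [show T.X a = T.X a' by rw [ha', T.X_smul (inv_ne_zero hap)]]
        rcases hf with ⟨g, hg, rfl⟩ | ⟨g, r, hg, hr, rfl⟩
        · exact AddSubgroup.subset_closure (Or.inr ⟨g, _, hg, hn, rfl⟩)
        · refine AddSubgroup.subset_closure (Or.inr ⟨(J T p a' r).comp g, _,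
            InSpan.comp T R (hJ hn hr) hg, hn, ?_⟩)
          ext x
          exact (T.X_norm hn.1 hpp hn.ne0 (T.X_mem a' _)).symm
  have hact : ∀ g : G, ∀ f ∈ L, (T.act g : M →+ M).comp f ∈ L := by
    intro g
    have hg : g ∈ Subgroup.closure C.D := by rw [C.gen]; trivial
    induction hg using Subgroup.closure_induction_left with
    | one =>
      intro f hf
      convert hf using 1
      ext x
      exact T.act_one _
    | mul_left d hd y _ ih =>
      intro f hf
      obtain ⟨a, ha, haa, had⟩ := C.tvImg d hd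
      convert add_mem (ih f hf) (hX a ha haa _ (ih f hf)) using 1
      ext x
      exact (T.act_mul d y _).trans (T.act_eq ha haa ⟨hd, had⟩ _)
    | inv_mul_cancel d hd y _ ih =>
      intro f hf
      obtain ⟨a, ha, haa, had⟩ := C.tvImg d hd
      rw [C.inv_eq hd]
      convert add_mem (ih f hf) (hX a ha haa _ (ih f hf)) using 1
      ext x
      exact (T.act_mul d y _).trans (T.act_eq ha haa ⟨hd, had⟩ _)
  have hXq : ((T.X q).comp (AddMonoidHom.id M)).comp (T.pt p).subtype ∈ L :=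
    AddSubgroup.subset_closure (Or.inr ⟨_, q, InSpan.id T, N1_q H, rfl⟩)
  have hproj : ∀ f ∈ L, ∃ g, InSpan T p J0 E0 g ∧ ∀ x : T.pt p, T.X p (f x) = g x := by
    intro f hf
    induction hf using AddSubgroup.closure_induction with
    | zero => exact ⟨0, InSpan.zero T, fun x => by simp⟩
    | add f g _ _ hf hg =>
      obtain ⟨f', hf', ef⟩ := hf
      obtain ⟨g', hg', eg⟩ := hg
      exact ⟨f' + g', InSpan.add T hf' hg', fun x => by simp [ef, eg]⟩
    | neg f _ hf =>
      obtain ⟨f', hf', ef⟩ := hf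
      exact ⟨f', hf', fun x => by rw [AddMonoidHom.neg_apply, T.neg]; exact ef x⟩
    | mem f hf =>
      rcases hf with ⟨g, hg, rfl⟩ | ⟨g, r, hg, hr, rfl⟩
      · exact ⟨0, InSpan.zero T, fun x => T.X_kill hpp (InSpan.mem T R hg x.2)⟩
      · exact ⟨g, hg, fun x => T.X_norm hpp hr.1 hr.ps (InSpan.mem T R hg x.2)⟩
  obtain ⟨f, hf, hfz⟩ := hproj _ (hact z _ hXq)
  have hzX : ∀ (u : Fin n → F) (a : M), T.act z (T.X u a) = T.X u (T.act z a) := fun u a => by
    rw [T.act_X, C.ρ_Q hz]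
  have hzf : ∀ c ∈ T.pt p, T.act z c = f c := by
    intro c hc
    rw [← hfz ⟨c, hc⟩]
    show T.act z c = T.X p (T.act z (T.X q c))
    rw [← hzX, T.X_norm hpp H.qq (by rw [H.pq]; exact one_ne_zero) hc]
  have hzJ : ∀ a, T.act z (J0 a) = J0 (T.act z a) := fun a => by
    show T.act z (T.X p (T.X _ (T.X q a))) = T.X p (T.X _ (T.X q (T.act z a)))
    rw [hzX, hzX, hzX]
  obtain ⟨a, b, x, y, hf'⟩ := hf
  have hpart : ∀ d ∈ T.pt p, x • E0 d + y • E0 (J0 d) = 0 := by
    intro d hd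
    have key := hzJ d
    rw [hzf _ (R.memJ d), hzf d hd, hf' _ (R.memJ d), hf' d hd] at key
    simp only [map_add, map_nsmul, R.jj d hd, R.je d hd, R.jej T hd, smul_add] at key
    rw [← T.cancel (a • J0 d + b • d + b • J0 d + x • E0 (J0 d) + y • E0 d)
      (x • E0 d + y • E0 (J0 d))]
    have t1 := T.two (y • E0 (J0 d))
    calc a • J0 d + b • d + b • J0 d + x • E0 (J0 d) + y • E0 d +
          (a • J0 d + b • d + b • J0 d + x • E0 (J0 d) + y • E0 d + (x • E0 d + y • E0 (J0 d)))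
        = (a • J0 d + (b • d + b • J0 d) + x • E0 (J0 d) + (y • E0 d + y • E0 (J0 d))) +
          (a • J0 d + (b • d + b • J0 d) + (x • E0 d + x • E0 (J0 d)) + y • E0 d) := by abel
      _ = 0 := by rw [key]; exact T.two _
  have hz' : ∀ d ∈ T.pt p, T.act z d = a • d + b • J0 d := fun d hd => by
    rw [hzf d hd, hf' d hd, add_assoc (a • d + b • J0 d), hpart d hd, add_zero]
  have par : ∀ (m : ℕ) (d : M), m • d = if Even m then 0 else d := by
    intro m d
    rcases Nat.even_or_odd m with h' | h'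
    · rw [if_pos h']
      obtain ⟨l, rfl⟩ := h'
      rw [add_nsmul, T.two]
    · rw [if_neg (Nat.not_even_iff_odd.mpr h')]
      obtain ⟨l, rfl⟩ := h'
      rw [add_nsmul, one_nsmul, two_mul, add_nsmul, T.two, zero_add]
  have iter : ∀ (m : ℕ) (d : M), T.act (z ^ m) d = (fun v => T.act z v)^[m] d := by
    intro m
    induction m with
    | zero => intro d; simp [T.act_one]
    | succ m ih =>
      intro d
      rw [pow_succ, T.act_mul, ih, Function.iterate_succ_apply]
  have fin3 : T.act z (T.act z (T.act z c)) = c → T.act z c = c := by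
    intro h3
    have p3 : Function.IsPeriodicPt (fun v => T.act z v) 3 c := h3
    have p2 : Function.IsPeriodicPt (fun v => T.act z v) (2 ^ k) c := (iter _ c).symm.trans (hk c)
    have p1 := p3.gcd p2
    rw [Nat.Coprime.gcd_eq_one (Nat.Coprime.pow_right k (by decide))] at p1
    exact p1
  have hJc := R.memJ c
  have simp' := hz'
  simp only [par] at simp'
  by_cases ha : Even a <;> by_cases hb : Even b <;>
    simp only [ha, hb, if_true, if_false, zero_add, add_zero] at simp'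
  · -- the action is zero
    have h0 : T.act z⁻¹ (T.act z c) = c := by rw [← T.act_mul, inv_mul_cancel, T.act_one]
    rw [simp' c hc, map_zero] at h0
    rw [simp' c hc, h0]
  · refine fin3 ?_
    rw [simp' c hc, simp' _ hJc, R.jj c hc, map_add, simp' c hc, simp' _ hJc, R.jj c hc]
    rw [add_comm (J0 c), add_assoc, T.two, add_zero]
  · exact simp' c hc
  · refine fin3 ?_
    rw [simp' c hc, map_add, simp' c hc, simp' _ hJc, R.jj c hc]
    rw [show c + J0 c + (J0 c + (c + J0 c)) = J0 c + (c + c) + (J0 c + J0 c) by abel, T.two, T.two,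
      add_zero, add_zero, simp' _ hJc, R.jj c hc]
    rw [← add_assoc, add_comm (J0 c) c, add_assoc, T.two, add_zero]

end Cfsg.Agent.ThreeTranspositionCentral
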