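import Mathlib
import Cfsg.Agent.Lib.ThreeTranspositionCentral

/-!
For a 3-transposition extension `G` of a unitary transvection group over the field with four
elements, in dimension at least five, by a 2-group `Q` with `Z(G) = 1`: `Q` is elementary abelian.
-/

set_option autoImplicit false
set_option maxHeartbeats 1000000

namespace Cfsg.Agent.ThreeTranspositionExt

open UnitaryF4Geo ThreeTranspositionUnitary ThreeTranspositionAct ThreeTranspositionCentral
open scoped IsMulCommutative

variable {G : Type*} [Group G] [Finite G] {F : Type*} [Field F] [Fintype F] [hF : FourField F]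
  {n : ℕ} (C : Cfg G F n)

/-- An abelian normal subgroup of exponent two inside `Q` containing all differences. -/
structure Good (A : Subgroup G) : Prop where
  normal : A.Normal
  le : A ≤ C.Q
  sq : ∀ a ∈ A, a * a = 1
  diff : ∀ u a, C.IsDiff u a → a ∈ A

variable {C}

section Module

variable {A : Subgroup G} [IsMulCommutative A]

/-- Conjugation, additively. -/
def conjAdd (hA : Good C A) : G →* AddMonoid.End (Additive A) where
  toFun g :=
    { toFun := fun a => Additive.ofMul ⟨g * (a.toMul : G) * g⁻¹, hA.normal.conj_mem _ a.toMul.2 g⟩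
      map_zero' := Additive.toMul.injective (Subtype.ext (by simp))
      map_add' := fun a b => Additive.toMul.injective (Subtype.ext (by simp [mul_assoc])) }
  map_one' := AddMonoidHom.ext fun a => Additive.toMul.injective (Subtype.ext
    (show 1 * (a.toMul : G) * 1⁻¹ = a.toMul by simp))
  map_mul' g g' := AddMonoidHom.ext fun a => Additive.toMul.injective (Subtype.ext
    (show g * g' * (a.toMul : G) * (g * g')⁻¹ = g * (g' * (a.toMul : G) * g'⁻¹) * g⁻¹ by
      simp [mul_assoc]))

theorem conjAdd_apply (hA : Good C A) (g : G) (a : Additive A) :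
    ((conjAdd hA g a).toMul : G) = g * (a.toMul : G) * g⁻¹ := rfl

theorem val_inj {a b : Additive A} (e : (a.toMul : G) = (b.toMul : G)) : a = b :=
  Additive.toMul.injective (Subtype.ext e)

theorem coe_comm (a b : Additive A) : (a.toMul : G) * (b.toMul : G) = b.toMul * a.toMul :=
  congrArg Subtype.val (mul_comm a.toMul b.toMul)

/-- The values at a point: products of differences. -/
def ptOf (C : Cfg G F n) (A : Subgroup G) [IsMulCommutative A] (u : Fin n → F) :
    AddSubgroup (Additive A) :=
  AddSubgroup.closure {a | C.IsDiff u (a.toMul : G)}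

theorem norm_group {u w : Fin n → F} (huu : h u u = 0) (hww : h w w = 0) (huw : h u w ≠ 0)
    {d e c : G} (hd : C.Lift u d) (he : C.Lift w e) (hc : C.IsDiff u c) :
    (e * c * e) * (d * (e * c * e) * d) * c = 1 := by
  obtain ⟨-, -, d₁, d₂, hd₁, hd₂, rfl⟩ := hc
  -- rewrite the difference over `d`
  have hc1 := C.lift_comm huu huu huu hd₂ hd₁
  have b1 := C.lift_braid huu hww huw hd he
  have b2 := C.lift_braid huu hww huw hd₁ he
  have b3 := C.lift_braid huu hww huw hd₂ he
  have cdd : ∀ {x y : G}, C.Lift u x → C.Lift u y → x * y = y * x :=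
    fun hx hy => C.lift_comm huu huu huu hx hy
  have sd := C.sq d hd.1
  have se := C.sq e he.1
  have s1 := C.sq d₁ hd₁.1
  -- express `c` as a product of two differences over `d`
  have key : ∀ x, C.Lift u x → e * (x * d) * e * (d * (e * (x * d) * e) * d) * (x * d) = 1 := by
    intro x hx
    have bx := C.lift_braid huu hww huw hx he
    have cx := cdd hd hx
    have sx := C.sq x hx.1
    calc e * (x * d) * e * (d * (e * (x * d) * e) * d) * (x * d)
        = e * x * (d * e * d) * e * x * d * e * (d * x * d) := by simp only [mul_assoc]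
      _ = e * x * e * d * (e * e) * x * d * e * (d * x * d) := by rw [b1]; simp only [mul_assoc]
      _ = e * x * e * (d * x * d) * e * (d * x * d) := by rw [se, mul_one]; simp only [mul_assoc]
      _ = e * x * e * x * e * x := by rw [cx, mul_assoc x d d, sd, mul_one]
      _ = e * (x * e * x) * e * x := by simp only [mul_assoc]
      _ = (e * e) * x * (e * e) * x := by rw [bx]; simp only [mul_assoc]
      _ = 1 := by rw [se, one_mul, mul_one, sx]
  -- `d₂ d₁ = (d₂ d)(d₁ d)` inside a commutative group
  have k2 := key d₂ hd₂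
  have k1 := key d₁ hd₁
  have D2 : C.IsDiff u (d₂ * d) := ⟨by rintro rfl; exact huw (h_zero_left _), huu, d, d₂, hd, hd₂, rfl⟩
  have D1 : C.IsDiff u (d₁ * d) := ⟨by rintro rfl; exact huw (h_zero_left _), huu, d, d₁, hd, hd₁, rfl⟩
  have mN : ∀ {v a}, C.IsDiff v a → a ∈ C.N := fun h => Subgroup.subset_closure ⟨_, h⟩
  set a := d₂ * d with ha
  set b := d₁ * d with hb
  have hab : d₂ * d₁ = a * b := by
    rw [ha, hb, mul_assoc, ← mul_assoc d d₁ d, cdd hd hd₁, mul_assoc d₁ d d, sd, mul_one]
  have ma := mN D2
  have mb := mN D1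
  have mea : e * a * e ∈ C.N := by
    have := C.N_normal.conj_mem a ma e; rwa [C.inv_eq he.1] at this
  have meb : e * b * e ∈ C.N := by
    have := C.N_normal.conj_mem b mb e; rwa [C.inv_eq he.1] at this
  have mdea : d * (e * a * e) * d ∈ C.N := by
    have := C.N_normal.conj_mem _ mea d; rwa [C.inv_eq hd.1] at this
  have mdeb : d * (e * b * e) * d ∈ C.N := by
    have := C.N_normal.conj_mem _ meb d; rwa [C.inv_eq hd.1] at this
  have e1 : e * (a * b) * e = (e * a * e) * (e * b * e) := by
    simp only [mul_assoc]; rw [← mul_assoc e e, se, one_mul]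
  have e2 : d * ((e * a * e) * (e * b * e)) * d =
      (d * (e * a * e) * d) * (d * (e * b * e) * d) := by
    simp only [mul_assoc]; rw [← mul_assoc d d, sd, one_mul]
  rw [hab, e1, e2]
  have c1 := C.N_comm meb mdea
  have c2 := C.N_comm (C.N.mul_mem meb mdeb) ma
  calc e * a * e * (e * b * e) * (d * (e * a * e) * d * (d * (e * b * e) * d)) * (a * b)
      = e * a * e * ((e * b * e) * (d * (e * a * e) * d)) * (d * (e * b * e) * d) * (a * b) := by
        simp only [mul_assoc]
    _ = (e * a * e * (d * (e * a * e) * d)) * (((e * b * e) * (d * (e * b * e) * d)) * a) * b := by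
        rw [c1]; simp only [mul_assoc]
    _ = (e * a * e * (d * (e * a * e) * d) * a) * ((e * b * e) * (d * (e * b * e) * d) * b) := by
        rw [c2]; simp only [mul_assoc]
    _ = 1 := by rw [k2, k1, one_mul]

/-- The action on an abelian normal subgroup. -/
noncomputable def moduleAct (hA : Good C A) : Act C (Additive A) where
  act := conjAdd hA
  two a := val_inj (by simpa using hA.sq _ a.toMul.2)
  pt := ptOf C A
  same u d d' hu huu hd hd' a := by
    refine val_inj ?_
    rw [conjAdd_apply, conjAdd_apply]
    have m : d' * d ∈ A := hA.diff u _ ⟨hu, huu, d, d', hd, hd', rfl⟩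
    have m' : d * (a.toMul : G) * d⁻¹ ∈ A := hA.normal.conj_mem _ a.toMul.2 d
    have hc : (d' * d) * (d * (a.toMul : G) * d⁻¹) = (d * (a.toMul : G) * d⁻¹) * (d' * d) :=
      coe_comm (Additive.ofMul ⟨_, m⟩) (Additive.ofMul ⟨_, m'⟩)
    have hd'eq : d' = d' * d * d := by rw [mul_assoc, C.sq d hd.1, mul_one]
    calc d * (a.toMul : G) * d⁻¹ = (d * (a.toMul : G) * d⁻¹) * (d' * d) * (d' * d)⁻¹ := by group
      _ = (d' * d) * (d * (a.toMul : G) * d⁻¹) * (d' * d)⁻¹ := by rw [hc]
      _ = (d' * d * d) * (a.toMul : G) * (d' * d * d)⁻¹ := by group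
      _ = d' * (a.toMul : G) * d'⁻¹ := by rw [← hd'eq]
  mem u d a hu huu hd := by
    refine AddSubgroup.subset_closure ?_
    show C.IsDiff u ((a + conjAdd hA d a).toMul : G)
    have ia : (a.toMul : G)⁻¹ = a.toMul := inv_eq_of_mul_eq_one_left (hA.sq _ a.toMul.2)
    have e : ((a + conjAdd hA d a).toMul : G) = (a.toMul : G) * d * (a.toMul : G)⁻¹ * d := by
      rw [toMul_add, Subgroup.coe_mul, conjAdd_apply, C.inv_eq hd.1, ia]
      simp only [mul_assoc]
    rw [e]
    exact C.comm_diff (hA.le a.toMul.2) hu huu hd
  fixed u w d a hw hww huw hd ha := by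
    induction ha using AddSubgroup.closure_induction with
    | mem x hx =>
      refine val_inj ?_
      rw [conjAdd_apply, ← C.diff_lift_comm huw hww hx hd, mul_assoc, mul_inv_cancel, mul_one]
    | zero => simp
    | add x y _ _ hx hy => rw [map_add, hx, hy]
    | neg x _ hx => rw [map_neg, hx]
  norm u w d e a huu hww huw hd he ha := by
    induction ha using AddSubgroup.closure_induction with
    | zero => simp
    | add x y _ _ hx hy =>
      conv_rhs => rw [← hx, ← hy]
      simp only [map_add]
      abel
    | neg x _ hx =>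
      conv_rhs => rw [← hx]
      simp only [map_neg, map_add]
      abel
    | mem x hx =>
      have two : ∀ a : Additive A, a + a = 0 := fun a => val_inj (by simpa using hA.sq _ a.toMul.2)
      have dfix : conjAdd hA d x = x := by
        refine val_inj ?_
        rw [conjAdd_apply, ← C.diff_lift_comm huu huu hx hd, mul_assoc, mul_inv_cancel, mul_one]
      rw [map_add, dfix]
      have key : conjAdd hA e x + conjAdd hA d (conjAdd hA e x) + x = 0 := by
        refine val_inj ?_
        rw [toMul_add, toMul_add, Subgroup.coe_mul, Subgroup.coe_mul, conjAdd_apply, conjAdd_apply,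
          conjAdd_apply, C.inv_eq he.1, C.inv_eq hd.1, toMul_zero, Subgroup.coe_one]
        exact norm_group huu hww huw hd he hx
      have := two x
      calc x + conjAdd hA e x + (x + conjAdd hA d (conjAdd hA e x))
          = (conjAdd hA e x + conjAdd hA d (conjAdd hA e x) + x) + x := by abel
        _ = x := by rw [key, zero_add]

end Module

section Elementary

/-- The differences generate a good subgroup. -/
theorem N_good : Good C C.N :=
  ⟨C.N_normal, C.N_le, fun _ => C.N_sq, fun u _ h => Subgroup.subset_closure ⟨u, h⟩⟩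

/-- `Q` centralises every difference. -/
theorem diff_central {z a : G} (hz : z ∈ C.Q) {u : Fin n → F} (ha : C.IsDiff u a) :
    z * a = a * z := by
  haveI : IsMulCommutative C.N := ⟨⟨fun x y => Subtype.ext (C.N_comm x.2 y.2)⟩⟩
  set T := moduleAct (A := C.N) N_good with hT
  obtain ⟨k, hk⟩ := C.pgroup ⟨z, hz⟩
  have hk' : z ^ (2 ^ k) = 1 := congrArg Subtype.val hk
  have hc : (Additive.ofMul (⟨a, N_good.diff u a ha⟩ : C.N)) ∈ T.pt u :=
    AddSubgroup.subset_closure (show C.IsDiff u a from ha)
  have key := congrArg (fun x : Additive C.N => (x.toMul : G))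
    (central_fix T hz (k := k) (fun x => by rw [hk', T.act_one]) ha.1 ha.2.1 hc)
  have key' : z * a * z⁻¹ = a := key
  calc z * a = z * a * z⁻¹ * z := by group
    _ = a * z := by rw [key']

theorem N_central {z a : G} (hz : z ∈ C.Q) (ha : a ∈ C.N) : Commute z a := by
  induction ha using Subgroup.closure_induction with
  | mem x hx => obtain ⟨u, hu⟩ := hx; exact diff_central hz hu
  | one => exact Commute.one_right z
  | mul x y _ _ hx hy => exact hx.mul_right hy
  | inv x _ hx => exact hx.inv_right

/-- `Q` has exponent two. -/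
theorem Q_sq {x : G} (hx : x ∈ C.Q) : x * x = 1 := by
  suffices x * x ∈ Subgroup.center G by rwa [C.center, Subgroup.mem_bot] at this
  rw [Subgroup.mem_center_iff]
  intro g
  have hg : g ∈ Subgroup.closure C.D := by rw [C.gen]; trivial
  suffices Commute g (x * x) from this
  induction hg using Subgroup.closure_induction with
  | mem d hd =>
    obtain ⟨u, hu, huu, hdu⟩ := C.tvImg d hd
    have hdiff := C.comm_diff hx hu huu ⟨hd, hdu⟩
    set m := x * d * x⁻¹ * d with hm
    have hmN : m ∈ C.N := Subgroup.subset_closure ⟨u, hdiff⟩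
    have hm2 : m * m = 1 := C.N_sq hmN
    have hd2 := C.sq d hd
    have hdd : d⁻¹ = d := C.inv_eq hd
    have e : d * x * d⁻¹ = m⁻¹ * x := by
      rw [hm, mul_inv_rev, mul_inv_rev, mul_inv_rev, inv_inv, hdd]
      simp only [mul_assoc, inv_mul_cancel, mul_one]
    have hc : Commute x m⁻¹ := (N_central hx hmN).inv_right
    clear_value m
    have e2 : d * (x * x) * d⁻¹ = x * x := by
      calc d * (x * x) * d⁻¹ = (d * x * d⁻¹) * (d * x * d⁻¹) := by group
        _ = m⁻¹ * (x * m⁻¹) * x := by rw [e]; simp only [mul_assoc]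
        _ = (m * m)⁻¹ * (x * x) := by rw [hc.eq]; group
        _ = x * x := by rw [hm2, inv_one, one_mul]
    calc d * (x * x) = d * (x * x) * d⁻¹ * d := by group
      _ = (x * x) * d := by rw [e2]
  | one => exact Commute.one_left _
  | mul y z _ _ hy hz => exact hy.mul_left hz
  | inv y _ hy => exact hy.inv_left

theorem Q_comm {x y : G} (hx : x ∈ C.Q) (hy : y ∈ C.Q) : x * y = y * x := by
  have ix := inv_eq_of_mul_eq_one_left (Q_sq hx)
  have iy := inv_eq_of_mul_eq_one_left (Q_sq hy)
  have ixy := inv_eq_of_mul_eq_one_left (Q_sq (C.Q.mul_mem hx hy))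
  rw [← ixy, mul_inv_rev, ix, iy]

theorem Q_good : Good C C.Q :=
  ⟨C.normal, le_rfl, fun _ => Q_sq, fun _ _ h => C.N_le (Subgroup.subset_closure ⟨_, h⟩)⟩

theorem Q_mulComm : IsMulCommutative C.Q :=
  ⟨⟨fun x y => Subtype.ext (Q_comm x.2 y.2)⟩⟩

end Elementary

end Cfsg.Agent.ThreeTranspositionExt
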