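import Mathlib
import Cfsg.Agent.Lib.ThreeTranspositionExt

/-!
In dimension five, an element over the pseudo-reflection with scalar `ω` on the hyperplane has no
nontrivial fixed point on `Q`.
-/

set_option autoImplicit false
set_option maxHeartbeats 1000000

namespace Cfsg.Agent.ThreeTranspositionFpf

open UnitaryF4Geo ThreeTranspositionUnitary ThreeTranspositionAct ThreeTranspositionAlgebra
  ThreeTranspositionExt
open scoped IsMulCommutative

variable {F : Type*} [Field F] [Fintype F] [hF : FourField F] {n : ℕ}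

/-- The determinant-one element acting as `ω` on the hyperplane orthogonal to `m`. -/
def mu (ω : F) (m : Fin n → F) : (Fin n → F) →ₗ[F] (Fin n → F) where
  toFun v := ω • v + h v m • m
  map_add' v w := by rw [h_add_left, smul_add, add_smul]; abel
  map_smul' c v := by rw [h_smul_left, RingHom.id_apply]; module

omit hF [Fintype F] in
theorem mu_apply (ω : F) (m v : Fin n → F) : mu ω m v = ω • v + h v m • m := rfl

theorem mu_word {ω : F} (hω : ω ^ 2 = ω + 1) {b : Fin 5 → Fin 5 → F} (hb : ON b) :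
    mu ω (b 2) = (tv (b 0 + ω • b 3)).comp ((tv (b 0 + b 3)).comp
      ((tv (ω • b 0 + ω ^ 2 • b 1)).comp ((tv (b 0 + b 1)).comp
        ((tv (b 2 + ω • b 4)).comp (tv (b 2 + b 4)))))) := by
  refine hb.ext fun i => ?_
  have h2 := two_eq_zero (F := F)
  fin_cases i <;>
    (simp [tv_apply, mu_apply, h_add_left, h_add_right, h_smul_left, h_smul_right, hb _ _];
     match_scalars <;> grobner)

section Main

variable {G : Type*} [Group G] [Finite G] {C : Cfg G F 5}

theorem mu_isom_h {ω : F} (hω : ω ^ 2 = ω + 1) {m : Fin n → F} (hm : h m m = 1) (v : Fin n → F) :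
    h (mu ω m v) m = (ω + 1) * h v m := by
  rw [mu_apply, h_add_left, h_smul_left, h_smul_left, hm]; ring

variable [IsMulCommutative C.Q]

/-- The action of the group on `Q`. -/
noncomputable def actQ (C : Cfg G F 5) [IsMulCommutative C.Q] : Act C (Additive C.Q) :=
  moduleAct (Q_good (C := C))

theorem act_trivial {z : G} (hz : z ∈ C.Q) (a : Additive C.Q) : (actQ C).act z a = a :=
  val_inj (show z * (a.toMul : G) * z⁻¹ = a.toMul by
    rw [Q_comm hz a.toMul.2, mul_assoc, mul_inv_cancel, mul_one])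

theorem act_congr {x y : G} (e : C.ρ x = C.ρ y) (a : Additive C.Q) :
    (actQ C).act x a = (actQ C).act y a := by
  have hq : x⁻¹ * y ∈ C.Q := (C.ker _).mp (by rw [map_mul, map_inv, e, inv_mul_cancel])
  conv_rhs => rw [show y = x * (x⁻¹ * y) by group, (actQ C).act_mul, act_trivial hq]

variable {ω : F}

/-- In a frame, the element over `mu` acts on the values at `b 0 + b 1` as a compression. -/
theorem act_word (hω : ω ^ 2 = ω + 1) {b : Fin 5 → Fin 5 → F} (hb : ON b) {x : G}
    (hx : ∀ v, C.ρ x v = mu ω (b 2) v) {c : Additive C.Q} (hc : c ∈ (actQ C).pt (b 0 + b 1)) :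
    (actQ C).act x c = Phi (actQ C) (b 0 + b 1) (ω • b 0 + ω ^ 2 • b 1) (ω ^ 2) (b 3) c := by
  have h2 := two_eq_zero (F := F)
  set T := actQ C with hT
  set p := b 0 + b 1 with hp
  set q := ω • b 0 + ω ^ 2 • b 1 with hq
  set s := b 0 + b 3 with hs
  set a := b 0 + ω • b 3 with ha
  have hα : (ω ^ 2) ^ 2 = ω ^ 2 + 1 := by grobner
  have hα2 : (ω ^ 2) ^ 2 = ω := sq_sq ω
  have ev : ∀ i j, h (b i) (b j) = if i = j then 1 else 0 := hb
  have H : Hyp p q := ⟨by simp [hp, h_add_left, h_add_right, ev, UnitaryF4Geo.add_self],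
    by simp [hq, h_add_left, h_add_right, h_smul_left, h_smul_right, ev]; grobner,
    by simp [hp, hq, h_add_left, h_add_right, h_smul_right, ev]; grobner⟩
  have w3p : h (b 3) p = 0 := by simp [hp, h_add_right, ev]
  have w3q : h (b 3) q = 0 := by simp [hq, h_add_right, h_smul_right, ev]
  have w3 : h (b 3) (b 3) = 1 := by simp [ev]
  have Ns : N1 p s := ⟨by simp [hs, h_add_left, h_add_right, ev, UnitaryF4Geo.add_self],
    by simp [hp, hs, h_add_left, h_add_right, ev]⟩
  have Na : N1 p a := ⟨by simp [ha, h_add_left, h_add_right, h_smul_left, h_smul_right, ev]; grobner,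
    by simp [hp, ha, h_add_left, h_add_right, h_smul_left, ev]⟩
  have Nq : N1 p q := N1_q H
  have ps : proj p q s = b 3 := by
    simp [proj, hp, hq, hs, h_add_left, h_add_right, h_smul_right, ev]
    match_scalars <;> grobner
  have pa : proj p q a = ω • b 3 := by
    simp [proj, hp, hq, ha, h_add_left, h_add_right, h_smul_left, h_smul_right, ev]
    match_scalars <;> grobner
  -- the values of the compressions
  set J0 := Phi T p q (ω ^ 2) (b 3) with hJ0
  have jsr : ∀ d ∈ T.pt p, J T p s q d = J0 d := fun d hd => by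
    rw [J_proj T H Ns Nq hd, ps, proj_q_self H, add_zero,
      show h s q = ω ^ 2 by simp [hs, hq, h_add_left, h_add_right, h_smul_right, ev]]
  have jrs : ∀ d ∈ T.pt p, J T p q s d = d + J0 d := fun d hd => by
    rw [J_proj T H Nq Ns hd, ps, proj_q_self H, zero_add,
      show h q s = (ω ^ 2) ^ 2 by simp [hs, hq, h_add_left, h_add_right, h_smul_left, ev, hα2],
      Phi_conj T H hα w3p w3q w3 hd]
  have jra : ∀ d ∈ T.pt p, J T p q a d = d + J0 d := fun d hd => by
    have hω0 := (omega_ne hω).1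
    rw [J_proj T H Nq Na hd, pa, proj_q_self H, zero_add,
      show h q a = (ω ^ 2) ^ 2 by
        simp [ha, hq, h_add_left, h_add_right, h_smul_left, h_smul_right, ev, hα2],
      Phi_conj T H hα (by rw [h_smul_left, w3p, mul_zero]) (by rw [h_smul_left, w3q, mul_zero])
        (by rw [h_smul_left, h_smul_right, w3]; grobner) hd,
      Phi_scal T H hα w3p w3q w3 hω0 hd]
  have jas : ∀ d ∈ T.pt p, J T p a s d = J0 d := fun d hd => by
    have hω0 := (omega_ne hω).1
    rw [J_proj T H Na Ns hd, ps, pa,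
      show h a s = ω ^ 2 by
        simp [ha, hs, h_add_left, h_add_right, h_smul_left, h_smul_right, ev]; grobner,
      show ω • b 3 + b 3 = (ω ^ 2) • b 3 by rw [hω, add_smul, one_smul],
      Phi_scal T H hα w3p w3q w3 (pow_ne_zero 2 hω0) hd]
  -- lifts of the six transvections
  have hcn : b 2 + ω • b 4 ≠ 0 := fun e => by
    have := congrArg (fun v => h v (b 2)) e
    simp [h_add_left, h_smul_left, h_zero_left, ev] at this
  have hdn : b 2 + b 4 ≠ 0 := fun e => by
    have := congrArg (fun v => h v (b 2)) e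
    simp [h_add_left, h_zero_left, ev] at this
  have hp0 : p ≠ 0 := fun e => by
    have := H.pq
    rw [e, h_zero_left] at this
    exact zero_ne_one this
  have hcc : h (b 2 + ω • b 4) (b 2 + ω • b 4) = 0 := by
    simp [h_add_left, h_add_right, h_smul_left, h_smul_right, ev]; grobner
  have hdd : h (b 2 + b 4) (b 2 + b 4) = 0 := by
    simp [h_add_left, h_add_right, ev, UnitaryF4Geo.add_self]
  have la := lift_spec (C := C) Na.ne Na.1
  have ls := lift_spec (C := C) Ns.ne Ns.1
  have lq := lift_spec (C := C) Nq.ne Nq.1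
  have lp := lift_spec (C := C) hp0 H.pp
  have lc := lift_spec (C := C) hcn hcc
  have ld := lift_spec (C := C) hdn hdd
  have hρ : C.ρ x = C.ρ (lift C a * (lift C s * (lift C q * (lift C p *
      (lift C (b 2 + ω • b 4) * lift C (b 2 + b 4)))))) := by
    refine LinearEquiv.ext fun v => ?_
    rw [hx, mu_word hω hb, C.ρ_mul, C.ρ_mul, C.ρ_mul, C.ρ_mul, C.ρ_mul, la.2, ls.2, lq.2, lp.2,
      lc.2, ld.2]
    rfl
  -- the eight terms
  have hy : T.act x c = c + T.X q c + T.X s (c + T.X q c) +
      T.X a (c + T.X q c + T.X s (c + T.X q c)) := by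
    rw [hT, act_congr hρ, ← hT]
    simp only [T.act_mul]
    rw [T.fixed p _ _ c hdn hdd (by simp [hp, h_add_left, h_add_right, ev]) ld hc,
      T.fixed p _ _ c hcn hcc (by simp [hp, h_add_left, h_add_right, h_smul_right, ev]) lc hc,
      T.fixed p _ _ c hp0 H.pp H.pp lp hc, T.act_eq Nq.ne Nq.1 lq, T.act_eq Ns.ne Ns.1 ls,
      T.act_eq Na.ne Na.1 la]
  have hmem : T.act x c ∈ T.pt p := by
    have hmp : C.ρ x p = ω • p := by
      rw [hx, mu_apply, show h p (b 2) = 0 by simp [hp, h_add_left, ev], zero_smul, add_zero]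
    rw [← T.X_norm H.pp H.qq (by rw [H.pq]; exact one_ne_zero) hc, T.act_X, hmp,
      T.X_smul (omega_ne hω).1]
    exact T.X_mem _ _
  have hpq : h p q ≠ 0 := by rw [H.pq]; exact one_ne_zero
  have hqs : h q s ≠ 0 := by
    simp [hs, hq, h_add_left, h_add_right, h_smul_left, ev, (omega_ne hω).1]
  have m1 : ∀ d, T.X a (T.X s d) = T.X a (T.X p (T.X a (T.X s d))) := fun d =>
    (T.X_norm Na.1 H.pp Na.ne0 (T.X_mem a _)).symm
  have t1 : T.X p (T.X q c) = c := T.X_norm H.pp H.qq hpq hc
  have t2 : T.X p (T.X q (T.X q c)) = 0 := by rw [T.X_orth H.qq c, map_zero]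
  have t3 : T.X p (T.X q (T.X s c)) = c + J0 c := jrs c hc
  have t4 : T.X p (T.X q (T.X s (T.X q c))) = c := by
    rw [T.X_norm H.qq Ns.1 hqs (T.X_mem q c), t1]
  have t5 : T.X p (T.X q (T.X a c)) = c + J0 c := jra c hc
  have hqa : h q a ≠ 0 := by
    simp [ha, hq, h_add_left, h_add_right, h_smul_left, h_smul_right, ev, (omega_ne hω).1]
  have t6 : T.X p (T.X q (T.X a (T.X q c))) = c := by
    rw [T.X_norm H.qq Na.1 hqa (T.X_mem q c), t1]
  have memJ : ∀ d, J0 d ∈ T.pt p := fun d => J_mem T _ _ d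
  have t7 : T.X p (T.X q (T.X a (T.X s c))) = J0 c + J0 (J0 c) := by
    rw [m1, show T.X p (T.X a (T.X s c)) = J T p a s c from rfl, jas c hc]
    exact jra _ (memJ c)
  have t8 : T.X p (T.X q (T.X a (T.X s (T.X q c)))) = J0 (J0 c) + J0 (J0 (J0 c)) := by
    have e : T.X s (T.X q c) = T.X s (J0 c) := by
      rw [← jsr c hc, J_apply, T.X_norm Ns.1 H.pp Ns.ne0 (T.X_mem s _)]
    rw [e, m1, show T.X p (T.X a (T.X s (J0 c))) = J T p a s (J0 c) from rfl, jas _ (memJ c)]
    exact jra _ (memJ _)
  have key := T.X_norm H.pp H.qq hpq hmem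
  rw [← key, hy]
  simp only [map_add]
  rw [t1, t2, t3, t4, t5, t6, t7, t8]
  have jj : ∀ d ∈ T.pt p, J0 (J0 d) = d + J0 d := fun d hd => Phi_sq T H hα w3p w3q w3 hd
  rw [jj _ (memJ c), jj c hc]
  have two := T.two c
  have two' := T.two (J0 c)
  abel_nf
  rw [show (8 : ℤ) • c = 4 • (c + c) by abel, two,
    show (7 : ℤ) • J0 c = 3 • (J0 c + J0 c) + J0 c by abel, two']
  simp

/-- A compression killing the fixed vector forces it to vanish. -/
theorem eq_zero_of_fix {p q : Fin 5 → F} (H : Hyp p q) {α : F} (hα : α ^ 2 = α + 1)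
    {w : Fin 5 → F} (hwp : h w p = 0) (hwq : h w q = 0) (hw : h w w = 1) {c : Additive C.Q}
    (hc : c ∈ (actQ C).pt p) (e : Phi (actQ C) p q α w c = c) : c = 0 := by
  have key := Phi_sq (actQ C) H hα hwp hwq hw hc
  rw [e, e, (actQ C).two] at key
  exact key

theorem fixed_zero (hω : ω ^ 2 = ω + 1) {n0 : Fin 5 → F} (h1 : h n0 n0 = 1) {x : G}
    (hx : ∀ v, C.ρ x v = mu ω n0 v) {Y : Additive C.Q} (hY : (actQ C).act x Y = Y)
    (u : Fin 5 → F) : (actQ C).X u Y = 0 := by
  have h2 := two_eq_zero (F := F)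
  obtain ⟨hω0, hω1⟩ := omega_ne hω
  have hα : (ω ^ 2) ^ 2 = ω ^ 2 + 1 := by grobner
  set T := actQ C with hT
  by_cases hu : u ≠ 0 ∧ h u u = 0
  swap
  · rw [Act.X, if_neg hu]; rfl
  obtain ⟨hu0, huu⟩ := hu
  by_cases hun : h u n0 = 0
  · -- the centre is orthogonal to `n0`
    obtain ⟨v, hv, hvn⟩ : ∃ v, h u v = 1 ∧ h v n0 = 0 := by
      obtain ⟨z, -, hz⟩ := exists_h_eq_one hu0
      refine ⟨z + h z n0 • n0, ?_, ?_⟩
      · rw [h_add_right, h_smul_right, hz, hun, mul_zero, add_zero]
      · rw [h_add_left, h_smul_left, h1, mul_one, UnitaryF4Geo.add_self]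
    obtain ⟨f0, hf, hfu, hfn⟩ : ∃ f0, h f0 f0 = 1 ∧ h u f0 = 1 ∧ h f0 n0 = 0 := by
      rcases h_self v with e | e
      · refine ⟨v + ω • u, ?_, ?_, ?_⟩
        · simp only [h_add_left, h_add_right, h_smul_left, h_smul_right, e, huu, hv, h_comm_one hv]
          grobner
        · rw [h_add_right, h_smul_right, hv, huu, mul_zero, add_zero]
        · rw [h_add_left, h_smul_left, hvn, hun, mul_zero, add_zero]
      · exact ⟨v, e, hv, hvn⟩
    have hON : ON ![f0, f0 + u, n0] := by
      refine ON_three hf ?_ h1 ?_ hfn ?_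
      · simp only [h_add_left, h_add_right, hf, huu, hfu, h_comm_one hfu]; grobner
      · simp only [h_add_right, hf, h_comm_one hfu]; grobner
      · rw [h_add_left, hfn, hun, add_zero]
    obtain ⟨b, hb, hbf⟩ := exists_frame 2 3 _ hON rfl
    have b0 : b 0 = f0 := hbf 0 (by norm_num)
    have b1 : b 1 = f0 + u := hbf 1 (by norm_num)
    have b2 : b 2 = n0 := hbf 2 (by norm_num)
    have bu : b 0 + b 1 = u := by rw [b0, b1, ← add_assoc, vec_add_self, zero_add]
    have hc : T.X u Y ∈ T.pt (b 0 + b 1) := by rw [bu]; exact T.X_mem u Y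
    have key := act_word hω hb (by rw [b2]; exact hx) hc
    rw [← hT, T.act_X, hx, mu_apply, hun, zero_smul, add_zero, T.X_smul hω0, hY] at key
    have ev : ∀ i j, h (b i) (b j) = if i = j then 1 else 0 := hb
    refine eq_zero_of_fix ?_ hα ?_ ?_ ?_ hc key.symm
    · exact ⟨by simp [h_add_left, h_add_right, ev, UnitaryF4Geo.add_self],
        by simp [h_add_left, h_add_right, h_smul_left, h_smul_right, ev]; grobner,
        by simp [h_add_left, h_add_right, h_smul_right, ev]; grobner⟩
    · simp [h_add_right, ev]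
    · simp [h_add_right, h_smul_right, ev]
    · simp [ev]
  · -- the centre is not orthogonal to `n0`
    set f0 := (h u n0)⁻¹ • u + n0 with hf0
    have e1 : h f0 n0 = 0 := by
      rw [hf0, h_add_left, h_smul_left, h1, inv_mul_cancel₀ hun, UnitaryF4Geo.add_self]
    have e2 : h f0 f0 = 1 := by
      simp only [hf0, h_add_left, h_add_right, h_smul_left, h_smul_right, huu, h1,
        h_symm u n0]
      field_simp
      grobner
    obtain ⟨b', hb', hbf⟩ := exists_frame 3 2 _ (ON_two e2 h1 e1) rfl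
    set b := fun i => b' (Equiv.swap 1 2 i) with hbd
    have hb : ON b := fun i j => by
      simp only [hbd, hb' (Equiv.swap 1 2 i) (Equiv.swap 1 2 j), EmbeddingLike.apply_eq_iff_eq]
    have b0 : b 0 = f0 := by
      rw [hbd]; exact hbf 0 (by norm_num)
    have b2 : b 2 = n0 := by
      rw [hbd]; simp only [Equiv.swap_apply_right]; exact hbf 1 (by norm_num)
    have ev : ∀ i j, h (b i) (b j) = if i = j then 1 else 0 := hb
    set p := b 0 + b 1 with hp
    set q := ω • b 0 + ω ^ 2 • b 1 with hq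
    set r := b 0 + b 2 with hr
    set r' := b 0 + ω • b 2 with hr'
    have H : Hyp p q := ⟨by simp [hp, h_add_left, h_add_right, ev, UnitaryF4Geo.add_self],
      by simp [hq, h_add_left, h_add_right, h_smul_left, h_smul_right, ev]; grobner,
      by simp [hp, hq, h_add_left, h_add_right, h_smul_right, ev]; grobner⟩
    have Nr : N1 p r := ⟨by simp [hr, h_add_left, h_add_right, ev, UnitaryF4Geo.add_self],
      by simp [hp, hr, h_add_left, h_add_right, ev]⟩
    have Nr' : N1 p r' :=
      ⟨by simp [hr', h_add_left, h_add_right, h_smul_left, h_smul_right, ev]; grobner,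
        by simp [hp, hr', h_add_left, h_add_right, h_smul_left, ev]⟩
    have pr : proj p q r = b 2 := by
      simp [proj, hp, hq, hr, h_add_left, h_add_right, h_smul_right, ev]
      match_scalars <;> grobner
    have pr' : proj p q r' = ω • b 2 := by
      simp [proj, hp, hq, hr', h_add_left, h_add_right, h_smul_left, h_smul_right, ev]
      match_scalars <;> grobner
    have hru : T.X u = T.X r := by
      rw [hr, b0, b2, hf0, add_assoc, vec_add_self, add_zero, T.X_smul (inv_ne_zero hun)]
    have w2p : h (b 2) p = 0 := by simp [hp, h_add_right, ev]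
    have w2q : h (b 2) q = 0 := by simp [hq, h_add_right, h_smul_right, ev]
    have w2 : h (b 2) (b 2) = 1 := by simp [ev]
    have w3p : h (b 3) p = 0 := by simp [hp, h_add_right, ev]
    have w3q : h (b 3) q = 0 := by simp [hq, h_add_right, h_smul_right, ev]
    have w3 : h (b 3) (b 3) = 1 := by simp [ev]
    set J0 := Phi T p q (ω ^ 2) (b 3) with hJ0
    have o23 : ∀ d ∈ T.pt p, Phi T p q (ω ^ 2) (b 2) d = J0 d := fun d hd =>
      Phi_orth T H hα w2p w2q w2 w3p w3q w3 (by simp [ev]) hd
    have hrr' : h r r' = ω := by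
      simp [hr, hr', h_add_left, h_add_right, h_smul_right, ev]; grobner
    have j1 : ∀ d ∈ T.pt p, J T p r' r d = J0 d := fun d hd => by
      rw [J_proj T H Nr' Nr hd, pr, pr', h_symm r r', hrr',
        show ω • b 2 + b 2 = (ω ^ 2) • b 2 by rw [hω, add_smul, one_smul],
        Phi_scal T H hα w2p w2q w2 (pow_ne_zero 2 hω0) hd, o23 d hd]
    have j2 : ∀ d ∈ T.pt p, J T p r r' d = d + J0 d := fun d hd => by
      rw [J_proj T H Nr Nr' hd, pr, pr', hrr',
        show b 2 + ω • b 2 = (ω ^ 2) • b 2 by rw [hω, add_smul, one_smul, add_comm],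
        show Phi T p q ω ((ω ^ 2) • b 2) d = Phi T p q ((ω ^ 2) ^ 2) ((ω ^ 2) • b 2) d by
          rw [sq_sq],
        Phi_conj T H hα (by rw [h_smul_left, w2p, mul_zero]) (by rw [h_smul_left, w2q, mul_zero])
          (by rw [h_smul_left, h_smul_right, w2]; grobner) hd,
        Phi_scal T H hα w2p w2q w2 (pow_ne_zero 2 hω0) hd, o23 d hd]
    -- the images of the point under the element
    have m1 : mu ω n0 r = ω • r' := by
      rw [mu_apply, ← b2]
      simp [hr, hr', h_add_left, ev]
      match_scalars <;> grobner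
    have m2 : mu ω n0 r' = (ω ^ 2) • tv r' r := by
      rw [mu_apply, tv_apply, hrr', ← b2]
      simp [hr, hr', h_add_left, h_smul_left, ev]
      match_scalars <;> grobner
    have mp : mu ω n0 p = ω • p := by
      rw [mu_apply, show h p n0 = 0 by rw [← b2]; simp [hp, h_add_left, ev], zero_smul, add_zero]
    have v1 : T.act x (T.X r Y) = T.X r' Y := by rw [T.act_X, hY, hx, m1, T.X_smul hω0]
    have v2 : T.act x (T.X r' Y) = T.X (tv r' r) Y := by
      rw [T.act_X, hY, hx, m2, T.X_smul (pow_ne_zero 2 hω0)]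
    have actp : ∀ z, T.act x (T.X p z) = T.X p (T.act x z) := fun z => by
      rw [T.act_X, hx, mp, T.X_smul hω0]
    set c := T.X p (T.X r Y) with hcd
    have hc : c ∈ T.pt p := T.X_mem _ _
    have hw : ∀ d ∈ T.pt p, T.act x d = J0 d := fun d hd =>
      act_word hω hb (by rw [b2]; exact hx) hd
    have c1 : T.X p (T.X r' Y) = J0 c := by rw [← v1, ← actp, hw c hc]
    have c2 : T.X p (T.X (tv r' r) Y) = J0 (J0 c) := by
      rw [← v2, ← actp, c1, hw _ (show J0 c ∈ T.pt p from J_mem T _ _ c)]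
    have key := congrArg (T.X p) (T.X_third Nr.1 Nr'.1 (by rw [hrr']; exact hω0) Y)
    rw [map_add, map_add, map_add, c1, c2, ← hcd] at key
    have l1 : T.X p (T.X r (T.X r' Y)) = J0 c + J0 (J0 c) := by
      rw [← j2 _ (show J0 c ∈ T.pt p from J_mem T _ _ c), ← c1, J_apply, T.X_norm Nr'.1 H.pp Nr'.ne0 (T.X_mem _ _)]
    have l2 : T.X p (T.X r' (T.X r Y)) = J0 c := by
      rw [← j1 c hc, J_apply, T.X_norm Nr.1 H.pp Nr.ne0 (T.X_mem _ _)]
    have jj : J0 (J0 c) = c + J0 c := Phi_sq T H hα w3p w3q w3 hc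
    rw [l1, l2, jj] at key
    have hc0 : c = 0 := by
      refine eq_zero_of_fix H hα w3p w3q w3 hc ?_
      apply T.eq_of_add
      rw [show J0 c + (c + J0 c) + J0 c = J0 c + c + (J0 c + J0 c) by abel,
        show c + J0 c + c + J0 c = (c + c) + (J0 c + J0 c) by abel, T.two, T.two, add_zero,
        add_zero] at key
      exact key
    rw [hru, ← T.X_norm Nr.1 H.pp Nr.ne0 (T.X_mem r Y), ← hcd, hc0, map_zero]

end Main

theorem fpf {G : Type*} [Group G] [Finite G] {C : Cfg G F 5} {ω : F} (hω : ω ^ 2 = ω + 1)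
    {n0 : Fin 5 → F} (h1 : h n0 n0 = 1) {x : G} (hx : ∀ v, C.ρ x v = mu ω n0 v) {y : G}
    (hy : y ∈ C.Q) (hc : x * y = y * x) : y = 1 := by
  haveI := Q_mulComm (C := C)
  set Y : Additive C.Q := Additive.ofMul ⟨y, hy⟩ with hYd
  have hY : (actQ C).act x Y = Y :=
    val_inj (show x * y * x⁻¹ = y by rw [hc, mul_assoc, mul_inv_cancel, mul_one])
  suffices y ∈ Subgroup.center G by rwa [C.center, Subgroup.mem_bot] at this
  rw [Subgroup.mem_center_iff]
  intro g
  have hg : g ∈ Subgroup.closure C.D := by rw [C.gen]; trivial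
  suffices Commute g y from this
  induction hg using Subgroup.closure_induction with
  | mem d hd =>
    obtain ⟨u, hu, huu, hdu⟩ := C.tvImg d hd
    have := (actQ C).act_eq hu huu ⟨hd, hdu⟩ Y
    rw [fixed_zero hω h1 hx hY u, add_zero] at this
    have e : d * y * d⁻¹ = y := congrArg (fun z : Additive C.Q => (z.toMul : G)) this
    calc d * y = d * y * d⁻¹ * d := by group
      _ = y * d := by rw [e]
  | one => exact Commute.one_left _
  | mul y z _ _ hy hz => exact hy.mul_left hz
  | inv y _ hy => exact hy.inv_left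

end Cfsg.Agent.ThreeTranspositionFpf
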