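import Mathlib
import Cfsg.Agent.Lib.ThreeTranspositionFpf

/-!
In dimension five the normal 2-subgroup has a complement: the stabiliser of a coherent family of
preimages of pseudo-reflections.
-/

set_option autoImplicit false
set_option maxHeartbeats 1000000

namespace Cfsg.Agent.ThreeTranspositionComplement

open UnitaryF4Geo ThreeTranspositionUnitary ThreeTranspositionExt ThreeTranspositionFpf

section Geometry

variable {F : Type*} [Field F] [Fintype F] [hF : FourField F] {n : ℕ}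

/-- A norm-one vector orthogonal to an orthonormal family and one more vector. -/
theorem exists_one_extra {k : ℕ} {f : Fin k → Fin n → F} (hf : ON f) (hk : k + 2 < n)
    (v : Fin n → F) : ∃ y, h y y = 1 ∧ (∀ i, h y (f i) = 0) ∧ h y v = 0 := by
  set v' := v + ∑ i, h v (f i) • f i with hv'
  have hvf : ∀ i, h v' (f i) = 0 := fun i => by rw [hv', h_add_left, hf.h_sum, UnitaryF4Geo.add_self]
  suffices ∃ y, h y y = 1 ∧ (∀ i, h y (f i) = 0) ∧ h y v' = 0 by
    obtain ⟨y, hy, hyf, hyv⟩ := this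
    refine ⟨y, hy, hyf, ?_⟩
    rw [hv', h_add_right] at hyv
    have e : h y (∑ i, h v (f i) • f i) = 0 := by
      refine h_comm_zero ?_
      rw [h_sum_left, Finset.sum_eq_zero fun i _ => by rw [h_comm_zero (hyf i), mul_zero]]
    rwa [e, add_zero] at hyv
  by_cases h0 : v' = 0
  · obtain ⟨y, hy, hyf⟩ := exists_one hf (by omega)
    exact ⟨y, hy, fun i => (hyf i).1, by rw [h0, h_zero_right]⟩
  rcases h_self v' with e | e
  swap
  · obtain ⟨y, hy, hyf⟩ := exists_one (hf.snoc e fun i => ⟨hvf i, h_comm_zero (hvf i)⟩) (by omega)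
    exact ⟨y, hy, fun i => by simpa using (hyf i.castSucc).1,
      by simpa using (hyf (Fin.last k)).1⟩
  obtain ⟨w, hw⟩ := exists_omega (F := F)
  obtain ⟨z, -, hz⟩ := exists_h_eq_one h0
  set z' := z + ∑ i, h z (f i) • f i with hz'
  have hzf : ∀ i, h z' (f i) = 0 := fun i => by rw [hz', h_add_left, hf.h_sum, UnitaryF4Geo.add_self]
  have hvz : h v' z' = 1 := by
    refine h_comm_one ?_
    rw [hz', h_add_left, h_comm_one hz, h_sum_left,
      Finset.sum_eq_zero (fun i _ => by rw [h_comm_zero (hvf i), mul_zero]), add_zero]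
  obtain ⟨g, hg, hgf, hgv⟩ : ∃ g, h g g = 1 ∧ (∀ i, h g (f i) = 0) ∧ h g v' = 1 := by
    rcases h_self z' with e' | e'
    swap
    · exact ⟨z', e', hzf, h_comm_one hvz⟩
    refine ⟨z' + w • v', ?_, fun i => ?_, ?_⟩
    · simp only [h_add_left, h_add_right, h_smul_left, h_smul_right, e, e', hvz, h_comm_one hvz]
      linear_combination hw + w * (two_eq_zero (F := F))
    · rw [h_add_left, h_smul_left, hzf, hvf, mul_zero, add_zero]
    · rw [h_add_left, h_smul_left, h_comm_one hvz, e, mul_zero, add_zero]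
  have hg2 : h (g + v') (g + v') = 1 := by
    simp only [h_add_left, h_add_right, e, hg, hgv, h_comm_one hgv]
    linear_combination (two_eq_zero (F := F))
  have hgg : h (g + v') g = 0 := by
    rw [h_add_left, hg, h_comm_one hgv, UnitaryF4Geo.add_self]
  have h1 := hf.snoc hg fun i => ⟨hgf i, h_comm_zero (hgf i)⟩
  have h2 := h1.snoc hg2 (fun i => by
    refine Fin.lastCases ?_ (fun j => ?_) i
    · simp [hgg, h_comm_zero hgg]
    · have : h (g + v') (f j) = 0 := by rw [h_add_left, hgf, hvf, add_zero]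
      simp [this, h_comm_zero this])
  obtain ⟨y, hy, hyf⟩ := exists_one h2 hk
  have a1 : h y g = 0 := by simpa using (hyf (Fin.last k).castSucc).1
  have a2 : h y (g + v') = 0 := by simpa using (hyf (Fin.last (k + 1))).1
  rw [h_add_right, a1, zero_add] at a2
  exact ⟨y, hy, fun i => by simpa using (hyf i.castSucc.castSucc).1, a2⟩

/-- Vectors orthogonal to a norm-one vector and an isotropic one in dimension five. -/
theorem exists_pair {e u : Fin 5 → F} (he : h e e = 1) (hu : u ≠ 0) (huu : h u u = 0)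
    (hue : h u e = 0) :
    ∃ y₁ y₂, h y₁ y₁ = 1 ∧ h y₂ y₂ = 1 ∧ h y₁ y₂ = 0 ∧ (h y₁ e = 0 ∧ h y₁ u = 0) ∧
      (h y₂ e = 0 ∧ h y₂ u = 0) ∧
      ∀ k, h k k = 1 → h k e = 0 → h k u = 0 → h k y₁ = 0 ∨ h k y₂ = 0 := by
  obtain ⟨w, hw⟩ := exists_omega (F := F)
  obtain ⟨z, -, hz⟩ := exists_h_eq_one hu
  set z' := z + h z e • e with hz'
  have hze : h z' e = 0 := by
    rw [hz', h_add_left, h_smul_left, he, mul_one, UnitaryF4Geo.add_self]
  have hzu : h z' u = 1 := by
    rw [hz', h_add_left, h_smul_left, h_comm_one hz, h_comm_zero hue, mul_zero, add_zero]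
  obtain ⟨g, hg, hge, hgu⟩ : ∃ g, h g g = 1 ∧ h g e = 0 ∧ h g u = 1 := by
    rcases h_self z' with e' | e'
    swap
    · exact ⟨z', e', hze, hzu⟩
    refine ⟨z' + w • u, ?_, ?_, ?_⟩
    · simp only [h_add_left, h_add_right, h_smul_left, h_smul_right, huu, e', hzu, h_comm_one hzu]
      linear_combination hw + w * (two_eq_zero (F := F))
    · rw [h_add_left, h_smul_left, hze, hue, mul_zero, add_zero]
    · rw [h_add_left, h_smul_left, hzu, huu, mul_zero, add_zero]
  have hg2 : h (g + u) (g + u) = 1 := by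
    simp only [h_add_left, h_add_right, huu, hg, hgu, h_comm_one hgu]
    linear_combination (two_eq_zero (F := F))
  have hgg : h g (g + u) = 0 := by rw [h_add_right, hg, hgu, UnitaryF4Geo.add_self]
  have hON : ON ![g, g + u, e] :=
    ON_three hg hg2 he hgg hge (by rw [h_add_left, hge, hue, add_zero])
  obtain ⟨b, hb, hbf⟩ := exists_frame 2 3 _ hON rfl
  have b0 : b 0 = g := hbf 0 (by norm_num)
  have b1 : b 1 = g + u := hbf 1 (by norm_num)
  have b2 : b 2 = e := hbf 2 (by norm_num)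
  have bu : u = b 0 + b 1 := by rw [b0, b1, ← add_assoc, vec_add_self, zero_add]
  have ev : ∀ i j, h (b i) (b j) = if i = j then 1 else 0 := hb
  refine ⟨b 3, b 4, by simp [ev], by simp [ev], by simp [ev], ⟨by simp [← b2, ev],
    by simp [bu, h_add_right, ev]⟩, ⟨by simp [← b2, ev], by simp [bu, h_add_right, ev]⟩,
    fun k hk hke hku => ?_⟩
  have hexp := congrArg (fun v => h v k) (hb.expand k)
  rw [h_sum_left, Fin.sum_univ_five] at hexp
  simp only [h_symm k (b _)] at hexp
  rw [hk] at hexp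
  have h01 : h k (b 1) = h k (b 0) := by
    rw [bu, h_add_right] at hku
    exact (eq_of_add_eq_zero hku).symm
  have h2' : h k (b 2) = 0 := by rw [b2, hke]
  rw [h01, h2'] at hexp
  by_contra hno
  push_neg at hno
  have c3 := cube hno.1
  have c4 := cube hno.2
  apply one_ne_zero (α := F)
  linear_combination hexp + c3 + c4 +
    (h k (b 0) * h k (b 0) ^ 2 + 1) * (two_eq_zero (F := F))

end Geometry

section Family

variable {G : Type*} [Group G] [Finite G] {F : Type*} [Field F] [Fintype F] [hF : FourField F]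
  {C : Cfg G F 5} {ω : F}

/-- `g` is a preimage of the pseudo-reflection at `m`. -/
def Lam (C : Cfg G F 5) (ω : F) (m : Fin 5 → F) (g : G) : Prop := ∀ v, C.ρ g v = mu ω m v

theorem Lam.conj {m : Fin 5 → F} {g : G} (hg : Lam C ω m g) (k : G) :
    Lam C ω (C.ρ k m) (k * g * k⁻¹) := fun v => by
  rw [C.ρ_mul, C.ρ_mul, hg, mu_apply, map_add, map_smul, map_smul, C.ρ_inv_apply, mu_apply]
  have h2 := C.isom k (C.ρ k⁻¹ v) m
  rw [C.ρ_inv_apply] at h2
  rw [h2]

theorem mu_smul {c : F} (hc : c ≠ 0) (m : Fin 5 → F) : mu ω (c • m) = mu ω m := by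
  refine LinearMap.ext fun v => ?_
  rw [mu_apply, mu_apply, h_smul_right, smul_smul,
    show c ^ 2 * h v m * c = c ^ 3 * h v m by ring, cube hc, one_mul]

theorem exists_lam (hω : ω ^ 2 = ω + 1) {m : Fin 5 → F} (hm : h m m = 1) :
    ∃ g, Lam C ω m g := by
  obtain ⟨b', hb', hbf⟩ := exists_frame 4 1 _ (ON_one hm) rfl
  set b := fun i => b' (Equiv.swap 0 2 i) with hbd
  have hb : ON b := fun i j => by
    simp only [hbd, hb' (Equiv.swap 0 2 i) (Equiv.swap 0 2 j), EmbeddingLike.apply_eq_iff_eq]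
  have b2 : b 2 = m := by
    rw [hbd]; simp only [Equiv.swap_apply_right]; exact hbf 0 (by norm_num)
  have ev : ∀ i j, h (b i) (b j) = if i = j then 1 else 0 := hb
  have h2 := two_eq_zero (F := F)
  have hω0 := (omega_ne hω).1
  have key : ∀ u, h u u = 0 → ∃ g, ∀ v, C.ρ g v = tv u v := by
    intro u hu
    by_cases h0 : u = 0
    · exact ⟨1, fun v => by simp [h0, tv_apply]⟩
    · obtain ⟨d, -, hd⟩ := C.tvAll u h0 hu
      exact ⟨d, hd⟩
  obtain ⟨g1, e1⟩ := key (b 0 + ω • b 3)
    (by simp [h_add_left, h_add_right, h_smul_left, h_smul_right, ev]; grobner)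
  obtain ⟨g2, e2⟩ := key (b 0 + b 3)
    (by simp [h_add_left, h_add_right, ev, UnitaryF4Geo.add_self])
  obtain ⟨g3, e3⟩ := key (ω • b 0 + ω ^ 2 • b 1)
    (by simp [h_add_left, h_add_right, h_smul_left, h_smul_right, ev]; grobner)
  obtain ⟨g4, e4⟩ := key (b 0 + b 1)
    (by simp [h_add_left, h_add_right, ev, UnitaryF4Geo.add_self])
  obtain ⟨g5, e5⟩ := key (b 2 + ω • b 4)
    (by simp [h_add_left, h_add_right, h_smul_left, h_smul_right, ev]; grobner)
  obtain ⟨g6, e6⟩ := key (b 2 + b 4)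
    (by simp [h_add_left, h_add_right, ev, UnitaryF4Geo.add_self])
  refine ⟨g1 * (g2 * (g3 * (g4 * (g5 * g6)))), fun v => ?_⟩
  rw [← b2, mu_word hω hb, C.ρ_mul, C.ρ_mul, C.ρ_mul, C.ρ_mul, C.ρ_mul, e1, e2, e3, e4, e5, e6]
  rfl

theorem shift_surj (hω : ω ^ 2 = ω + 1) {e : Fin 5 → F} (he : h e e = 1) {x : G}
    (hx : Lam C ω e x) {z : G} (hz : z ∈ C.Q) : ∃ q ∈ C.Q, q * (x * q * x⁻¹) = z := by
  let φ : C.Q → C.Q := fun q => ⟨q * (x * q * x⁻¹), C.Q.mul_mem q.2 (C.normal.conj_mem _ q.2 x)⟩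
  have hinj : Function.Injective φ := by
    intro a b hab
    have hab' : (a : G) * (x * a * x⁻¹) = b * (x * b * x⁻¹) := congrArg Subtype.val hab
    have ma := C.normal.conj_mem _ a.2 x
    have mb := C.normal.conj_mem _ b.2 x
    have ib : (b : G)⁻¹ = b := inv_eq_of_mul_eq_one_left (Q_sq b.2)
    have ixb : (x * (b : G) * x⁻¹)⁻¹ = x * b * x⁻¹ := inv_eq_of_mul_eq_one_left (Q_sq mb)
    have e1 : (a : G) * b = x * (a * b) * x⁻¹ := by
      calc (a : G) * b = a * (x * a * x⁻¹) * ((x * a * x⁻¹) * b) := by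
            rw [mul_assoc, ← mul_assoc (x * (a : G) * x⁻¹), Q_sq ma, one_mul]
        _ = b * (x * b * x⁻¹) * (b * (x * a * x⁻¹)) := by rw [hab', Q_comm ma b.2]
        _ = (b * b) * ((x * b * x⁻¹) * (x * a * x⁻¹)) := by
            rw [← mul_assoc _ (b : G), mul_assoc (b : G) _ (b : G), Q_comm mb b.2]
            simp only [mul_assoc]
        _ = x * (a * b) * x⁻¹ := by rw [Q_sq b.2, one_mul, Q_comm mb ma]; group
    have hcomm : x * ((a : G) * b) = (a * b) * x := by
      conv_rhs => rw [e1]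
      group
    have := fpf hω he hx (C.Q.mul_mem a.2 b.2) hcomm
    exact Subtype.ext ((mul_eq_one_iff_eq_inv.mp this).trans ib)
  obtain ⟨q, hq⟩ := Finite.injective_iff_surjective.mp hinj ⟨z, hz⟩
  exact ⟨q, q.2, congrArg Subtype.val hq⟩

theorem lift_unique (hω : ω ^ 2 = ω + 1) {e m : Fin 5 → F} (he : h e e = 1) {x g g' : G}
    (hx : Lam C ω e x) (hg : Lam C ω m g) (hg' : Lam C ω m g') (c : Commute x g)
    (c' : Commute x g') : g = g' := by
  have hq : g * g'⁻¹ ∈ C.Q := by
    refine (C.ker _).mp ?_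
    rw [map_mul, map_inv, show C.ρ g = C.ρ g' from LinearEquiv.ext fun v => by rw [hg, hg'],
      mul_inv_cancel]
  exact mul_inv_eq_one.mp (fpf hω he hx hq (c.mul_right c'.inv_right).eq)

theorem commute_of_commute (hω : ω ^ 2 = ω + 1) {e m n : Fin 5 → F} (he : h e e = 1)
    (hmn : h m n = 0) {x g g' : G}
    (hx : Lam C ω e x) (hg : Lam C ω m g) (hg' : Lam C ω n g') (c : Commute x g)
    (c' : Commute x g') : Commute g g' := by
  have hq : g * g' * g⁻¹ * g'⁻¹ ∈ C.Q := by
    refine (C.ker _).mp ?_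
    have : C.ρ g * C.ρ g' = C.ρ g' * C.ρ g := LinearEquiv.ext fun v => by
      show C.ρ g (C.ρ g' v) = C.ρ g' (C.ρ g v)
      simp only [hg _, hg' _, mu_apply, h_add_left, h_smul_left, hmn, h_comm_zero hmn, mul_zero,
        add_zero]
      module
    rw [map_mul, map_mul, map_mul, map_inv, map_inv, this]
    group
  have := fpf hω he hx hq (((c.mul_right c').mul_right c.inv_right).mul_right c'.inv_right).eq
  show g * g' = g' * g
  calc g * g' = g * g' * g⁻¹ * g'⁻¹ * (g' * g) := by group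
    _ = g' * g := by rw [this, one_mul]

theorem exists_adjusted (hω : ω ^ 2 = ω + 1) {e m : Fin 5 → F} (he : h e e = 1)
    (hm : h m m = 1) (hme : h m e = 0) {x : G} (hx : Lam C ω e x) :
    ∃ g, Lam C ω m g ∧ Commute x g := by
  obtain ⟨g0, hg0⟩ := exists_lam (C := C) hω hm
  have hz : x * g0 * x⁻¹ * g0⁻¹ ∈ C.Q := by
    refine (C.ker _).mp ?_
    have : C.ρ x * C.ρ g0 = C.ρ g0 * C.ρ x := LinearEquiv.ext fun v => by
      show C.ρ x (C.ρ g0 v) = C.ρ g0 (C.ρ x v)
      simp only [hx _, hg0 _, mu_apply, h_add_left, h_smul_left, hme, h_comm_zero hme, mul_zero,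
        add_zero]
      module
    rw [map_mul, map_mul, map_mul, map_inv, map_inv, this]
    group
  set z := x * g0 * x⁻¹ * g0⁻¹ with hzd
  obtain ⟨q, hq, hqz⟩ := shift_surj hω he hx hz
  refine ⟨q * g0, fun v => by rw [C.ρ_mul, C.ρ_Q hq, hg0], ?_⟩
  have mq := C.normal.conj_mem q hq x
  have e1 : x * (q * g0) * x⁻¹ = q * g0 := by
    calc x * (q * g0) * x⁻¹ = (x * q * x⁻¹) * z * g0 := by rw [hzd]; group
      _ = ((x * q * x⁻¹) * (x * q * x⁻¹)) * q * g0 := by
          rw [← hqz, Q_comm hq mq]; simp only [mul_assoc]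
      _ = q * g0 := by rw [Q_sq mq, one_mul]
  show x * (q * g0) = q * g0 * x
  conv_rhs => rw [← e1]
  group

/-- A coherent family of preimages. -/
def Coherent (C : Cfg G F 5) (ω : F) (x : (Fin 5 → F) → G) : Prop :=
  (∀ m, h m m = 1 → Lam C ω m (x m)) ∧
    ∀ m n, h m m = 1 → h n n = 1 → h m n = 0 → Commute (x m) (x n)

theorem coherent_ext (hω : ω ^ 2 = ω + 1) {e : Fin 5 → F} (he : h e e = 1)
    {x y : (Fin 5 → F) → G} (hx : Coherent C ω x) (hy : Coherent C ω y) (h0 : x e = y e)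
    {n : Fin 5 → F} (hn : h n n = 1) : x n = y n := by
  obtain ⟨k, hk, hke, hkn⟩ := exists_one_extra (ON_one he) (by norm_num) n
  have hke' : h k e = 0 := by simpa using hke 0
  have hk' : x k = y k := lift_unique hω he (hx.1 e he) (hx.1 k hk) (hy.1 k hk)
    (hx.2 e k he hk (h_comm_zero hke')) (h0 ▸ hy.2 e k he hk (h_comm_zero hke'))
  exact lift_unique hω hk (hx.1 k hk) (hx.1 n hn) (hy.1 n hn) (hx.2 k n hk hn hkn)
    (hk' ▸ hy.2 k n hk hn hkn)

theorem exists_fam (hω : ω ^ 2 = ω + 1) {e : Fin 5 → F} (he : h e e = 1) {xe : G}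
    (hxe : Lam C ω e xe) {n : Fin 5 → F} (hn : h n n = 1) :
    ∃ g, Lam C ω n g ∧ ∀ k a, h k k = 1 → h k e = 0 → h k n = 0 → Lam C ω k a → Commute xe a →
      Commute a g := by
  obtain ⟨k0, hk0, hk0e', hk0n⟩ := exists_one_extra (ON_one he) (by norm_num) n
  have hk0e : h k0 e = 0 := by simpa using hk0e' 0
  obtain ⟨a0, ha0, ca0⟩ := exists_adjusted hω he hk0 hk0e hxe
  obtain ⟨g, hg, cg⟩ := exists_adjusted hω hk0 hn (h_comm_zero hk0n) ha0
  refine ⟨g, hg, fun k a hk hke hkn ha ca => ?_⟩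
  by_cases hne : h n e = 0
  · obtain ⟨an, han, can⟩ := exists_adjusted hω he hn hne hxe
    have c0 : Commute a0 an := commute_of_commute hω he hk0n hxe ha0 han ca0 can
    rw [lift_unique hω hk0 ha0 hg han cg c0]
    exact commute_of_commute hω he hkn hxe ha han ca can
  by_cases hsm : n + h n e • e = 0
  · have hne' := vec_eq_of_add hsm
    have : Lam C ω n xe := fun v => by rw [hxe, hne', mu_smul hne]
    rw [lift_unique hω hk0 ha0 hg this cg ca0.symm]
    exact ca.symm
  set u := n + h n e • e with hu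
  have hue : h u e = 0 := by
    rw [hu, h_add_left, h_smul_left, he, mul_one, UnitaryF4Geo.add_self]
  have huu : h u u = 0 := by
    simp only [hu, h_add_left, h_add_right, h_smul_left, h_smul_right, hn, he, h_symm n e]
    linear_combination 3 * cube hne + (2 : F) * (two_eq_zero (F := F))
  obtain ⟨y₁, y₂, h1, h2, h12, ⟨h1e, h1u⟩, ⟨h2e, h2u⟩, hpair⟩ := exists_pair he hsm huu hue
  have toN : ∀ {y}, h y e = 0 → h y u = 0 → h y n = 0 := fun {y} e1 e2 => by
    rw [hu, h_add_right, h_smul_right, e1, mul_zero, add_zero] at e2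
    exact e2
  have fromN : ∀ {y}, h y e = 0 → h y n = 0 → h y u = 0 := fun {y} e1 e2 => by
    rw [hu, h_add_right, h_smul_right, e1, e2, mul_zero, add_zero]
  -- the property is inherited along orthogonal candidates
  have step : ∀ {y y' : Fin 5 → F} {b b' : G}, h y y = 1 → h y y' = 0 → h y' n = 0 →
      Lam C ω y b → Lam C ω y' b' → Commute xe b → Commute xe b' → Commute b g → Commute b' g := by
    intro y y' b b' hy hyy hy'n hb hb' cb cb' cg'
    have cbb : Commute b b' := commute_of_commute hω he hyy hxe hb hb' cb cb'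
    have hρ : C.ρ b' n = ω • n := by
      rw [hb', mu_apply, h_comm_zero hy'n, zero_smul, add_zero]
    have hl : Lam C ω n (b' * g * b'⁻¹) := fun v => by
      rw [hg.conj b' v, hρ, mu_smul (omega_ne hω).1]
    have eq1 := lift_unique hω hy hb hg hl cg' ((cbb.mul_right cg').mul_right cbb.inv_right)
    show b' * g = g * b'
    conv_rhs => rw [eq1]
    group
  obtain ⟨b1, hb1, cb1⟩ := exists_adjusted hω he h1 h1e hxe
  obtain ⟨b2, hb2, cb2⟩ := exists_adjusted hω he h2 h2e hxe
  have n1 := toN h1e h1u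
  have n2 := toN h2e h2u
  have g12 : Commute b1 g ∧ Commute b2 g := by
    rcases hpair k0 hk0 hk0e (fromN hk0e hk0n) with h' | h'
    · have c1 := step hk0 h' n1 ha0 hb1 ca0 cb1 cg
      exact ⟨c1, step h1 h12 n2 hb1 hb2 cb1 cb2 c1⟩
    · have c2 := step hk0 h' n2 ha0 hb2 ca0 cb2 cg
      exact ⟨step h2 (h_comm_zero h12) n1 hb2 hb1 cb2 cb1 c2, c2⟩
  rcases hpair k hk hke (fromN hke hkn) with h' | h'
  · exact step h1 (h_comm_zero h') hkn hb1 ha cb1 ca g12.1
  · exact step h2 (h_comm_zero h') hkn hb2 ha cb2 ca g12.2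

open Classical in
theorem exists_coherent (hω : ω ^ 2 = ω + 1) : ∃ x, Coherent C ω x := by
  obtain ⟨e, he, -⟩ := exists_one (F := F) (n := 5) (k := 0) (f := Fin.elim0)
    (fun i => i.elim0) (by norm_num)
  obtain ⟨xe, hxe⟩ := exists_lam (C := C) hω he
  have key := fun n (hn : h n n = 1) => exists_fam (C := C) hω he hxe hn
  refine ⟨fun n => if hn : h n n = 1 then (key n hn).choose else 1,
    fun m hm => by simpa [hm] using (key m hm).choose_spec.1, fun m n hm hn hmn => ?_⟩
  obtain ⟨km, pm⟩ := (key m hm).choose_spec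
  obtain ⟨kn, pn⟩ := (key n hn).choose_spec
  simp only [hm, hn, dif_pos]
  obtain ⟨k, hk, hkf, hke⟩ := exists_one_extra (ON_two hm hn hmn) (by norm_num) e
  have hkm : h k m = 0 := by simpa using hkf 0
  have hkn : h k n = 0 := by simpa using hkf 1
  obtain ⟨a, ha, ca⟩ := exists_adjusted hω he hk hke hxe
  exact commute_of_commute hω hk hmn ha km kn (pm k a hk hke hkm ha ca)
    (pn k a hk hke hkn ha ca)

theorem exists_complement : ∃ K : Subgroup G, C.Q.IsComplement' K := by
  obtain ⟨ω, hω⟩ := exists_omega (F := F)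
  obtain ⟨x, hx⟩ := exists_coherent (C := C) hω
  obtain ⟨e, he, -⟩ := exists_one (F := F) (n := 5) (k := 0) (f := Fin.elim0)
    (fun i => i.elim0) (by norm_num)
  let K : Subgroup G :=
    { carrier := {g | ∀ n, h n n = 1 → g * x n * g⁻¹ = x (C.ρ g n)}
      one_mem' := fun n _ => by simp
      mul_mem' := fun {a b} ha hb n hn => by
        rw [C.ρ_mul, show a * b * x n * (a * b)⁻¹ = a * (b * x n * b⁻¹) * a⁻¹ by group, hb n hn,
          ha _ (by rw [C.isom, hn])]
      inv_mem' := fun {a} ha n hn => by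
        have := ha (C.ρ a⁻¹ n) (by rw [C.isom, hn])
        rw [C.ρ_inv_apply] at this
        rw [← this]; group }
  refine ⟨K, Subgroup.isComplement'_of_disjoint_and_mul_eq_univ ?_ ?_⟩
  · rw [Subgroup.disjoint_def]
    intro g hg hgK
    have := hgK e he
    rw [C.ρ_Q hg] at this
    refine fpf hω he (hx.1 e he) hg ?_
    calc x e * g = g * x e * g⁻¹ * g := by rw [this]
      _ = g * x e := by group
  · refine Set.eq_univ_of_forall fun g => ?_
    set y := fun n => g * x (C.ρ g⁻¹ n) * g⁻¹ with hy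
    have hyc : Coherent C ω y := by
      refine ⟨fun m hm v => ?_, fun m n hm hn hmn => ?_⟩
      · rw [hy, (hx.1 (C.ρ g⁻¹ m) (by rw [C.isom, hm])).conj g v, C.ρ_inv_apply]
      · exact (hx.2 _ _ (by rw [C.isom, hm]) (by rw [C.isom, hn]) (by rw [C.isom, hmn])).map
          (MulAut.conj g : G →* G)
    have hzQ : y e * (x e)⁻¹ ∈ C.Q := by
      refine (C.ker _).mp ?_
      rw [map_mul, map_inv,
        show C.ρ (y e) = C.ρ (x e) from LinearEquiv.ext fun v => by rw [hyc.1 e he, hx.1 e he],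
        mul_inv_cancel]
    obtain ⟨q, hq, hqz⟩ := shift_surj hω he (hx.1 e he) hzQ
    have qi : q⁻¹ = q := inv_eq_of_mul_eq_one_left (Q_sq hq)
    set w := fun n => q * y n * q⁻¹ with hw
    have hwc : Coherent C ω w := by
      refine ⟨fun m hm v => ?_, fun m n hm hn hmn =>
        (hyc.2 m n hm hn hmn).map (MulAut.conj q : G →* G)⟩
      rw [hw, (hyc.1 m hm).conj q v, C.ρ_Q hq]
    have hwe : w e = x e := by
      have hz := Q_sq (C.normal.conj_mem q hq (x e))
      calc w e = q * (y e * (x e)⁻¹) * (x e * q * (x e)⁻¹) * x e := by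
            rw [hw]; simp only [qi]; group
        _ = x e := by
            rw [← hqz, ← mul_assoc q q, Q_sq hq, one_mul, hz, one_mul]
    refine ⟨q, hq, q * g, fun n hn => ?_, show q * (q * g) = g by rw [← mul_assoc, Q_sq hq, one_mul]⟩
    have := coherent_ext hω he hwc hx hwe (n := C.ρ g n) (by rw [C.isom, hn])
    rw [C.ρ_mul, C.ρ_Q hq, ← this, hw, hy]
    simp only
    rw [← C.ρ_mul, inv_mul_cancel, map_one]
    show q * g * x n * (q * g)⁻¹ = q * (g * x n * g⁻¹) * q⁻¹
    group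

end Family

end Cfsg.Agent.ThreeTranspositionComplement
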