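import Mathlib
import Cfsg.Prelude.Def_Classical
import Cfsg.Prelude.Def_SporadicB
import Cfsg.Agent.Lib.HallCore
import Cfsg.Agent.Lib.ThreeTranspositionUnitary

/-!
A class of 3-transpositions mapping onto a unitary group over the field with four elements in
dimension at least five maps onto the transvections.
-/

set_option autoImplicit false
set_option maxHeartbeats 1000000

namespace Cfsg.Agent.ThreeTranspositionRecognise

open UnitaryF4Geo ThreeTranspositionUnitary

variable {F : Type*} [Field F] [Fintype F] [hF : FourField F] {n : ℕ}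

/-- Composite of two transvections carrying one isotropic vector onto another. -/
theorem third {w z : Fin n → F} (hww : h w w = 0) (hzz : h z z = 0) (hwz : h w z ≠ 0) :
    tv w (tv z w) = (h z w)⁻¹ • z := by
  have hzw : h z w ≠ 0 := fun e => hwz (h_comm_zero e)
  have hw2 : h w z = h z w ^ 2 := h_symm z w
  have c3 := cube hzw
  simp only [tv_apply, h_add_left, h_smul_left, hww, hw2]
  match_scalars
  · linear_combination (h z w * 0 + 1) * c3 + (two_eq_zero (F := F))
  · rw [mul_one, mul_one]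
    exact eq_inv_of_mul_eq_one_left (by linear_combination c3)

/-- An isotropic vector not orthogonal to two given orthogonal ones. -/
theorem exists_mid {w z : Fin n → F} (hw : w ≠ 0) (hz : z ≠ 0) (hww : h w w = 0)
    (hwz : h w z = 0) : ∃ s, h s s = 0 ∧ h s w ≠ 0 ∧ h s z ≠ 0 := by
  obtain ⟨a, ha, -⟩ := exists_h_eq_one hw
  obtain ⟨b, hb, -⟩ := exists_h_eq_one hz
  obtain ⟨v, hv1, hv2⟩ : ∃ v, h v w ≠ 0 ∧ h v z ≠ 0 := by
    by_cases e1 : h a z = 0
    swap
    · exact ⟨a, by rw [ha]; exact one_ne_zero, e1⟩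
    by_cases e2 : h b w = 0
    swap
    · exact ⟨b, e2, by rw [hb]; exact one_ne_zero⟩
    exact ⟨a + b, by rw [h_add_left, ha, e2, add_zero]; exact one_ne_zero,
      by rw [h_add_left, e1, hb, zero_add]; exact one_ne_zero⟩
  rcases h_self v with e | e
  · exact ⟨v, e, hv1, hv2⟩
  obtain ⟨o, ho⟩ := exists_omega (F := F)
  have hne : h w v ≠ 0 := fun e' => hv1 (h_comm_zero e')
  refine ⟨v + (o * (h w v)⁻¹) • w, ?_, ?_, ?_⟩
  · simp only [h_add_left, h_add_right, h_smul_left, h_smul_right, hww, e, h_symm w v, mul_pow,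
      mul_zero, add_zero, inv_pow]
    rw [mul_assoc o, inv_mul_cancel₀ hne, mul_assoc (o ^ 2), inv_mul_cancel₀ (pow_ne_zero 2 hne)]
    linear_combination ho + (o + 1) * (two_eq_zero (F := F))
  · rw [h_add_left, h_smul_left, hww, mul_zero, add_zero]; exact hv1
  · rw [h_add_left, h_smul_left, hwz, mul_zero, add_zero]; exact hv2

theorem exists_beta {β : (Fin n → F) → (Fin n → F) → F}
    (addl : ∀ u u' v, β (u + u') v = β u v + β u' v)
    (addr : ∀ u v v', β u (v + v') = β u v + β u v')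
    (smull : ∀ (c : F) u v, β (c • u) v = c * β u v)
    (smulr : ∀ (c : F) u v, β u (c • v) = c ^ 2 * β u v)
    (herm : ∀ u v, β v u = β u v ^ 2) {u v : Fin n → F} (hne : β u v ≠ 0) :
    ∃ t, β t t = 1 := by
  by_contra hno
  push_neg at hno
  have z : ∀ t, β t t = 0 := fun t => (fixed_cases (herm t t).symm).resolve_right (hno t)
  obtain ⟨o, ho⟩ := exists_omega (F := F)
  have key := z (u + (o * (β u v)⁻¹) ^ 2 • v)
  simp only [addl, addr, smull, smulr, z, herm u v, sq_sq, mul_zero, zero_add, add_zero] at key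
  rw [mul_assoc, inv_mul_cancel₀ hne, mul_one, mul_pow, mul_assoc, inv_pow,
    inv_mul_cancel₀ (pow_ne_zero 2 hne), mul_one] at key
  exact one_ne_zero (α := F) (by
    linear_combination key - ho - o * (two_eq_zero (F := F)))

/-- The first splitting step: an isometric involution other than the identity. -/
theorem split_one {x : (Fin n → F) →ₗ[F] (Fin n → F)} (hiso : ∀ u v, h (x u) (x v) = h u v)
    (hinv : ∀ u, x (x u) = u) (hne : ∃ u, x u ≠ u) :
    ∃ v, h (x v + v) v = 1 := by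
  obtain ⟨u, hu⟩ := hne
  have hu' : x u + u ≠ 0 := fun e => hu (vec_eq_of_add e)
  obtain ⟨w, -, hw⟩ := exists_h_eq_one hu'
  refine exists_beta (β := fun a b => h (x a + a) b) ?_ ?_ ?_ ?_ ?_ (u := u) (v := w)
    (by rw [hw]; exact one_ne_zero)
  · intro a a' b; simp only [map_add, h_add_left]; ring
  · intro a b b'; exact h_add_right _ _ _
  · intro c a b; rw [map_smul, ← smul_add, h_smul_left]
  · intro c a b; exact h_smul_right _ _ _
  · intro a b
    have e : h (x b) a = h b (x a) := by rw [← hiso (x b) a, hinv]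
    rw [h_add_left, e, ← h_add_right, h_symm]

theorem is_tv {x : (Fin n → F) →ₗ[F] (Fin n → F)} (hiso : ∀ u v, h (x u) (x v) = h u v)
    (hinv : ∀ u, x (x u) = u) (hne : ∃ u, x u ≠ u)
    (h3t : ∀ t t', h t t = 0 → h t' t' = 0 →
      (∀ v, x (tv t (tv t' (x (tv t' (tv t (x (tv t (tv t' (x (tv t' (tv t v)))))))))))= v) ∨
      (∀ v, x (tv t (tv t' (x (tv t' (tv t (x (tv t (tv t' (x (tv t' (tv t
        (x (tv t (tv t' (x (tv t' (tv t v)))))))))))))))))= v)) :
    ∃ w, w ≠ 0 ∧ h w w = 0 ∧ ∀ u, x u = tv w u := by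
  obtain ⟨v, hv⟩ := split_one hiso hinv hne
  set w1 := x v + v with hw1
  have selfadj : ∀ a b, h (x a) b = h a (x b) := fun a b => by rw [← hiso (x a) b, hinv]
  have N0 : ∀ a, x (x a + a) = x a + a := fun a => by rw [map_add, hinv, add_comm]
  have N2 : ∀ a b, h (x a + a) (x b + b) = 0 := fun a b => by
    simp only [h_add_left, h_add_right, hiso, selfadj]
    linear_combination (h a b + h a (x b)) * (two_eq_zero (F := F))
  have hw10 : w1 ≠ 0 := fun e => by
    rw [e, h_zero_left] at hv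
    exact zero_ne_one hv
  have hw11 : h w1 w1 = 0 := N2 v v
  by_cases hx' : ∀ u, x u = tv w1 u
  · exact ⟨w1, hw10, hw11, hx'⟩
  exfalso
  -- the residual involution
  let x' : (Fin n → F) →ₗ[F] (Fin n → F) := (tv w1).comp x
  have xw1 : x w1 = w1 := N0 v
  have hcomm : ∀ u, x (tv w1 u) = tv w1 (x u) := fun u => by rw [tv_conj x hiso, xw1]
  have hiso' : ∀ a b, h (x' a) (x' b) = h a b := fun a b => by
    show h (tv w1 (x a)) (tv w1 (x b)) = _
    rw [tv_isom hw11, hiso]
  have hinv' : ∀ a, x' (x' a) = a := fun a => by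
    show tv w1 (x (tv w1 (x a))) = a
    rw [hcomm, hinv, tv_tv hw11]
  have hne' : ∃ u, x' u ≠ u := by
    by_contra hall
    push_neg at hall
    refine hx' fun u => ?_
    conv_rhs => rw [← hall u]
    exact (tv_tv hw11 _).symm
  obtain ⟨u₀, hu₀⟩ := split_one hiso' hinv' hne'
  have N'v : x' v + v = 0 := by
    show tv w1 (x v) + v = 0
    have e1 : h (x v) w1 = 1 := by rw [← xw1, hiso]; exact h_comm_one hv
    rw [tv_apply, e1, one_smul, add_right_comm, ← hw1, vec_add_self]
  set v2 := u₀ + h u₀ w1 • v with hv2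
  have v2w1 : h v2 w1 = 0 := by
    rw [hv2, h_add_left, h_smul_left, h_comm_one hv, mul_one, UnitaryF4Geo.add_self]
  set w2 := x v2 + v2 with hw2
  have ew2 : w2 = x' u₀ + u₀ := by
    have e1 : x' v2 + v2 = x' u₀ + u₀ := by
      rw [hv2, map_add, map_smul, add_add_add_comm, ← smul_add, N'v, smul_zero, add_zero]
    rw [← e1]
    show x v2 + v2 = tv w1 (x v2) + v2
    rw [tv_fix]
    rw [← xw1, hiso, v2w1]
  have w2v2 : h w2 v2 = 1 := by
    have sa : h (x' u₀ + u₀) v = h u₀ (x' v + v) := by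
      rw [h_add_left, h_add_right, ← hiso' (x' u₀) v, hinv']
    rw [ew2, hv2, h_add_right, h_smul_right, hu₀, sa, N'v, h_zero_right, mul_zero, add_zero]
  have w2v : h w2 v = 0 := by
    rw [hw2, h_add_left, selfadj, ← h_add_right, ← hw1, v2w1]
  have w1v2 : h w1 v2 = 0 := h_comm_zero v2w1
  have w12 : h w1 w2 = 0 := N2 v v2
  have w22 : h w2 w2 = 0 := N2 v2 v2
  have xw2 : x w2 = w2 := N0 v2
  obtain ⟨o, ho⟩ := exists_omega (F := F)
  have two := two_eq_zero (F := F)
  obtain ⟨c, hc⟩ : ∃ c : F, c + c ^ 2 = h v v := by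
    rcases h_self v with e | e <;> rw [e]
    · exact ⟨0, by ring⟩
    · exact ⟨o, trace_alpha' ho⟩
  obtain ⟨d, hd⟩ : ∃ d : F, d + d ^ 2 = h v2 v2 := by
    rcases h_self v2 with e | e <;> rw [e]
    · exact ⟨0, by ring⟩
    · exact ⟨o, trace_alpha' ho⟩
  set g : F := h v v2 with hg
  set z1 := v + c • w1 with hz1
  set z2 := v2 + d • w2 + g ^ 2 • w1 with hz2
  have hvw1 : h v w1 = 1 := h_comm_one hv
  have hvw2 : h v w2 = 0 := h_comm_zero w2v
  have hv2w2 : h v2 w2 = 1 := h_comm_one w2v2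
  have w21 : h w2 w1 = 0 := h_comm_zero w12
  have hv2v : h v2 v = g ^ 2 := h_symm v v2
  have e11 : h z1 z1 = 0 := by
    simp only [hz1, h_add_left, h_add_right, h_smul_left, h_smul_right, hw11, hv, hvw1, ← hc]
    linear_combination (c + c ^ 2) * two
  have e12 : h z1 z2 = 0 := by
    simp only [hz1, hz2, h_add_left, h_add_right, h_smul_left, h_smul_right, hw11, hv, hvw1,
      hvw2, w1v2, w12, sq_sq, ← hg]
    linear_combination g * two
  have e22 : h z2 z2 = 0 := by
    simp only [hz2, h_add_left, h_add_right, h_smul_left, h_smul_right, hw11, w22, w12, w21,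
      v2w1, w1v2, w2v2, hv2w2, ← hd]
    linear_combination (d + d ^ 2) * two
  have e21 := h_comm_zero e12
  have z1w1 : h z1 w1 = 1 := by simp [hz1, h_add_left, h_smul_left, hw11, hvw1]
  have z1w2 : h z1 w2 = 0 := by simp [hz1, h_add_left, h_smul_left, hvw2, w12]
  have z2w1 : h z2 w1 = 0 := by simp [hz2, h_add_left, h_smul_left, hw11, v2w1, w21]
  have z2w2 : h z2 w2 = 1 := by simp [hz2, h_add_left, h_smul_left, w22, hv2w2, w12]
  have w1z1 := h_comm_one z1w1
  have w2z1 := h_comm_zero z1w2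
  have w1z2 := h_comm_zero z2w1
  have w2z2 := h_comm_one z2w2
  have xv : x v = v + w1 := by rw [hw1, add_comm (x v), ← add_assoc, vec_add_self, zero_add]
  have xv2 : x v2 = v2 + w2 := by rw [hw2, add_comm (x v2), ← add_assoc, vec_add_self, zero_add]
  have xz1 : x z1 = z1 + w1 := by
    rw [hz1, map_add, map_smul, xv, xw1]; abel
  have xz2 : x z2 = z2 + w2 := by
    rw [hz2, map_add, map_add, map_smul, map_smul, xv2, xw1, xw2]; abel
  have e3 : h (z1 + z2) (z1 + z2) = 0 := by
    simp [h_add_left, h_add_right, e11, e12, e21, e22]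
  -- the product with a conjugate has order five
  set y := fun u => x (tv z2 (tv (z1 + z2) (x (tv (z1 + z2) (tv z2 u))))) with hy
  have yadd : ∀ a b, y (a + b) = y a + y b := fun a b => by simp [hy, map_add]
  have p1 : y w1 = z2 := by
    simp [hy, tv_apply, h_add_left, h_add_right, h_smul_left, map_add, map_smul, xw1, xw2, xz1,
      xz2, e11, e12, e21, e22, z1w1, z1w2, z2w1, z2w2, w1z1, w1z2, w2z1, w2z2, hw11, w22, w12, w21]
    match_scalars <;> grobner
  have p2 : y w2 = z1 + z2 := by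
    simp [hy, tv_apply, h_add_left, h_add_right, h_smul_left, map_add, map_smul, xw1, xw2, xz1,
      xz2, e11, e12, e21, e22, z1w1, z1w2, z2w1, z2w2, w1z1, w1z2, w2z1, w2z2, hw11, w22, w12, w21]
    match_scalars <;> grobner
  have p3 : y z1 = w1 + w2 + z2 := by
    simp [hy, tv_apply, h_add_left, h_add_right, h_smul_left, map_add, map_smul, xw1, xw2, xz1,
      xz2, e11, e12, e21, e22, z1w1, z1w2, z2w1, z2w2, w1z1, w1z2, w2z1, w2z2, hw11, w22, w12, w21]
    match_scalars <;> grobner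
  have p4 : y z2 = w1 + z1 + z2 := by
    simp [hy, tv_apply, h_add_left, h_add_right, h_smul_left, map_add, map_smul, xw1, xw2, xz1,
      xz2, e11, e12, e21, e22, z1w1, z1w2, z2w1, z2w2, w1z1, w1z2, w2z1, w2z2, hw11, w22, w12, w21]
    match_scalars <;> grobner
  rcases h3t z2 (z1 + z2) e22 e3 with h' | h'
  · have := congrArg (fun a => h a w1) (show y (y w1) = w1 from h' w1)
    simp [p1, p4, h_add_left, hw11, z1w1, z2w1] at this
  · have := congrArg (fun a => h a w1) (show y (y (y w1)) = w1 from h' w1)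
    simp only [p1, p4, yadd, p3] at this
    simp [h_add_left, hw11, z1w1, z2w1, w21] at this
where
  trace_alpha' {o : F} (ho : o ^ 2 = o + 1) : o + o ^ 2 = 1 := by
    linear_combination ho + o * (two_eq_zero (F := F))

section Group

variable {G : Type*} [Group G] [Finite G] {D : Set G}

omit [Fintype F] hF in
theorem toLin'_mem (g : ↥(Cfsg.SU n F 2)) (u v : Fin n → F) :
    h (Matrix.SpecialLinearGroup.toLin' g.1 u) (Matrix.SpecialLinearGroup.toLin' g.1 v) = h u v := by
  have := g.2 u v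
  rw [h_eq, h_eq, Matrix.SpecialLinearGroup.toLin'_apply, Matrix.SpecialLinearGroup.toLin'_apply,
    Matrix.toLin'_apply, Matrix.toLin'_apply]
  exact this

theorem exists_tv (u : Fin n → F) (hu : h u u = 0) :
    ∃ g : ↥(Cfsg.SU n F 2), ∀ v, Matrix.SpecialLinearGroup.toLin' g.1 v = tv u v := by
  classical
  set M := LinearMap.toMatrix' (tv u) with hM
  have hMM : M * M = 1 := by
    rw [hM, ← LinearMap.toMatrix'_comp, ← LinearMap.toMatrix'_id]
    exact congrArg _ (LinearMap.ext (tv_tv hu))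
  have hdet : M.det = 1 := by
    have e := congrArg Matrix.det hMM
    rw [Matrix.det_mul, Matrix.det_one] at e
    have : (M.det + 1) ^ 2 = 0 := by
      rw [UnitaryF4Geo.sq_add, one_pow, pow_two, e]; exact UnitaryF4Geo.add_self 1
    exact eq_of_add_eq_zero (pow_eq_zero_iff (two_ne_zero) |>.mp this)
  have hmul : ∀ v, M.mulVec v = tv u v := fun v => by
    rw [← Matrix.toLin'_apply, hM, Matrix.toLin'_toMatrix']
  refine ⟨⟨⟨M, hdet⟩, fun v w => ?_⟩, fun v => ?_⟩
  · show Cfsg.hermForm n F 2 (M.mulVec v) (M.mulVec w) = Cfsg.hermForm n F 2 v w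
    rw [hmul, hmul, ← h_eq, ← h_eq, tv_isom hu]
  · rw [Matrix.SpecialLinearGroup.toLin'_apply, Matrix.toLin'_apply]
    exact hmul v

theorem exists_cfg (hn : 5 ≤ n) (hD : Cfsg.IsThreeTranspositionClass D)
    (hZ : Subgroup.center G = ⊥)
    (φ : G ⧸ Cfsg.pCore 2 G ≃* ↥(Cfsg.SU n F 2)) :
    ∃ C : Cfg G F n, C.Q = Cfsg.pCore 2 G := by
  obtain ⟨⟨hord, hprod⟩, ⟨d₀, hd₀, hconj⟩, hgen⟩ := hD
  set Q := Cfsg.pCore 2 G with hQ
  let ρ : G →* ((Fin n → F) ≃ₗ[F] (Fin n → F)) :=
    ((Matrix.SpecialLinearGroup.toLin').comp (Cfsg.SU n F 2).subtype).comp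
      (φ.toMonoidHom.comp (QuotientGroup.mk' Q))
  have hρ : ∀ g, ρ g = Matrix.SpecialLinearGroup.toLin' (φ (QuotientGroup.mk' Q g)).1 := fun _ => rfl
  have isom : ∀ g v w, h (ρ g v) (ρ g w) = h v w := fun g v w => toLin'_mem _ v w
  have ker : ∀ g, ρ g = 1 ↔ g ∈ Q := fun g => by
    rw [hρ, map_eq_one_iff _ Matrix.SpecialLinearGroup.toLin'_injective, OneMemClass.coe_eq_one,
      map_eq_one_iff _ φ.injective, QuotientGroup.mk'_apply, QuotientGroup.eq_one_iff]
  have surj : ∀ u, h u u = 0 → ∃ g, ∀ v, ρ g v = tv u v := fun u hu => by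
    obtain ⟨s, hs⟩ := exists_tv u hu
    obtain ⟨g, hg⟩ := QuotientGroup.mk'_surjective Q (φ.symm s)
    exact ⟨g, fun v => by rw [hρ, hg, φ.apply_symm_apply]; exact hs v⟩
  have hsq : ∀ d ∈ D, d * d = 1 := fun d hd => by rw [← pow_two, ← hord d hd, pow_orderOf_eq_one]
  have hcj : ∀ g : G, ∀ d ∈ D, g * d * g⁻¹ ∈ D := fun g d hd => by
    rw [hconj] at hd ⊢
    exact IsConj.trans hd (isConj_iff.mpr ⟨g, rfl⟩)
  have ρmul : ∀ a b v, ρ (a * b) v = ρ a (ρ b v) := fun a b v => by rw [map_mul]; rfl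
  have ρinv : ∀ a v, ρ a (ρ a⁻¹ v) = v := fun a v => by rw [← ρmul, mul_inv_cancel, map_one]; rfl
  have htr : ∀ d ∈ D, ∃ w, w ≠ 0 ∧ h w w = 0 ∧ ∀ v, ρ d v = tv w v := by
    intro d hd
    refine is_tv (x := (ρ d).toLinearMap) (isom d) (fun u => ?_) ?_ fun t t' ht ht' => ?_
    · show ρ d (ρ d u) = u
      rw [← ρmul, hsq d hd, map_one]; rfl
    · by_contra hall
      push_neg at hall
      have hdQ : d ∈ Q := (ker d).mp (LinearEquiv.ext hall)
      have hDQ : D ⊆ Q := fun e he => by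
        rw [hconj] at hd he
        obtain ⟨g, rfl⟩ := isConj_iff.mp (IsConj.trans (IsConj.symm hd) he)
        exact (inferInstance : Q.Normal).conj_mem d hdQ g
      have htop : ∀ g, ρ g = 1 := fun g =>
        (ker g).mpr (((Subgroup.closure_le Q).mpr hDQ) (hgen ▸ Subgroup.mem_top g))
      obtain ⟨y, hy, hyf⟩ := exists_one (F := F) (n := n) (k := 0) (f := Fin.elim0)
        (fun i => i.elim0) (by omega)
      obtain ⟨y', hy', hyy⟩ := exists_one (ON_one hy) (by omega)
      have hyy' : h y' y = 0 := by simpa using (hyy 0).1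
      have h0 : h (y + y') (y + y') = 0 := by
        simp [h_add_left, h_add_right, hy, hy', hyy', h_comm_zero hyy', UnitaryF4Geo.add_self]
      obtain ⟨g, hg⟩ := surj _ h0
      have := congrArg (fun a => h a y) (hg y)
      simp [htop, tv_apply, h_add_left, h_smul_left, h_add_right, hy, hyy', h_comm_zero hyy',
        UnitaryF4Geo.add_self] at this
    · obtain ⟨g, hg⟩ := surj t ht
      obtain ⟨g', hg'⟩ := surj t' ht'
      have hinv : ∀ v, ρ (g * g')⁻¹ v = tv t' (tv t v) := fun v => by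
        have e := ρinv (g * g') v
        rw [ρmul, hg, hg'] at e
        conv_rhs => rw [← e, tv_tv ht, tv_tv ht']
      have hy : ∀ v, ρ (d * (g * g' * d * (g * g')⁻¹)) v =
          ρ d (tv t (tv t' (ρ d (tv t' (tv t v))))) := fun v => by
        simp only [ρmul, hg, hg', hinv]
      rcases hprod d hd _ (hcj (g * g') d hd) with h' | h'
      · left; intro v
        have := congrArg (fun a => ρ a v) h'
        simp only [pow_two, ρmul _ (d * _), hy, map_one] at this
        exact this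
      · right; intro v
        have := congrArg (fun a => ρ a v) h'
        simp only [pow_succ, pow_zero, one_mul, mul_assoc (d * (g * g' * d * (g * g')⁻¹)),
          ρmul _ (d * _ * (d * _)), ρmul _ (d * _), hy, map_one] at this
        exact this
  obtain ⟨w₀, hw₀, hw₀0, hd₀'⟩ := htr d₀ hd₀
  have step : ∀ {w z : Fin n → F} {d : G}, h w w = 0 → h z z = 0 → h w z ≠ 0 → d ∈ D →
      (∀ v, ρ d v = tv w v) → ∃ d' ∈ D, ∀ v, ρ d' v = tv z v := by
    intro w z d hw hz hwz hd hdv
    obtain ⟨g, hg⟩ := surj z hz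
    refine ⟨d * g * d * (d * g)⁻¹, hcj _ d hd, fun v => ?_⟩
    rw [ρmul, show ρ (d * g * d) (ρ (d * g)⁻¹ v) = ρ (d * g) (tv w (ρ (d * g)⁻¹ v)) by
        rw [ρmul (d * g) d, hdv]]
    have hl := tv_conj (ρ (d * g)).toLinearMap (isom _) w (ρ (d * g)⁻¹ v)
    simp only [LinearEquiv.coe_coe] at hl
    have hne : h z w ≠ 0 := fun e => hwz (h_comm_zero e)
    rw [hl, ρinv, ρmul, hg, hdv, third hw hz hwz, tv_smul (inv_ne_zero hne)]
  refine ⟨⟨D, Q, ρ, hn, inferInstance, HallCore.isPGroup_pCore 2 G, isom, ker, htr,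
    fun z hz hzz => ?_, hsq, hprod, hcj, hgen, hZ⟩, rfl⟩
  by_cases hwz : h w₀ z = 0
  · obtain ⟨s, hs, hsw, hsz⟩ := exists_mid hw₀ hz hw₀0 hwz
    obtain ⟨d₁, hd₁, hd₁'⟩ := step hw₀0 hs (fun e => hsw (h_comm_zero e)) hd₀ hd₀'
    exact step hs hzz hsz hd₁ hd₁'
  · exact step hw₀0 hzz hwz hd₀ hd₀'

end Group

end Cfsg.Agent.ThreeTranspositionRecognise
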