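import Mathlib

/-!
Rigid colourings of vector spaces over prime fields, used for bases of solvable linear groups.
-/

set_option autoImplicit false

namespace Cfsg.Agent.ThreeVec75

open scoped commutatorElement

/-- A set of elements each of which is a commutator of two of them is trivial in a solvable group. -/
theorem eq_one_of_comm {G : Type*} [Group G] [Group.IsSolvable G] (S : Set G)
    (h : ∀ s ∈ S, ∃ a ∈ S, ∃ b ∈ S, s = ⁅a, b⁆) : ∀ s ∈ S, s = 1 := by
  have hn : ∀ n, ∀ s ∈ S, s ∈ derivedSeries G n := by
    intro n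
    induction n with
    | zero => intro s _; rw [derivedSeries_zero]; trivial
    | succ n ih =>
      intro s hs
      obtain ⟨a, ha, b, hb, rfl⟩ := h s hs
      rw [derivedSeries_succ]
      exact Subgroup.commutator_mem_commutator (ih a ha) (ih b hb)
  obtain ⟨n, hbot⟩ := Group.IsSolvable.solvable (G := G)
  intro s hs
  have := hn n s hs
  rw [hbot] at this
  exact Subgroup.mem_bot.1 this

/-- Initial segments of length at least two, and the extra pair `{1, 3}`. -/
def fam (m : ℕ) : Set (Finset (Fin m)) :=
  {s | (∃ k, 2 ≤ k ∧ k ≤ m ∧ s = Finset.univ.filter (fun i : Fin m => (i : ℕ) < k)) ∨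
    s = Finset.univ.filter (fun i : Fin m => (i : ℕ) = 1 ∨ (i : ℕ) = 3)}

theorem card_init {m k : ℕ} (hk : k ≤ m) :
    (Finset.univ.filter (fun i : Fin m => (i : ℕ) < k)).card = k := by
  have : (Finset.univ.filter (fun i : Fin m => (i : ℕ) < k)) =
      (Finset.univ : Finset (Fin k)).map (Fin.castLEEmb hk) := by
    ext i
    simp only [Finset.mem_filter, Finset.mem_univ, true_and, Finset.mem_map]
    constructor
    · intro h; exact ⟨⟨i, h⟩, by ext; simp⟩
    · rintro ⟨j, rfl⟩; simp
  rw [this, Finset.card_map, Finset.card_univ, Fintype.card_fin]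

theorem fam_rigid {m : ℕ} (hm : 4 ≤ m) (π : Fin m → Fin m) (hπ : Function.Injective π)
    (h : ∀ s ∈ fam m, s.image π ∈ fam m) : ∀ i, π i = i := by
  classical
  let i1 : Fin m := ⟨1, by omega⟩
  let i3 : Fin m := ⟨3, by omega⟩
  have epair : (Finset.univ.filter (fun i : Fin m => (i : ℕ) = 1 ∨ (i : ℕ) = 3)) = {i1, i3} := by
    ext i; simp [Fin.ext_iff, i1, i3]
  have hseg3 : ∀ k, 3 ≤ k → k ≤ m → ∀ i : Fin m, (i : ℕ) < k → ((π i : Fin m) : ℕ) < k := by
    intro k hk3 hkm i hi
    have himg := h _ (Or.inl ⟨k, by omega, hkm, rfl⟩)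
    have hc : ((Finset.univ.filter (fun i : Fin m => (i : ℕ) < k)).image π).card = k := by
      rw [Finset.card_image_of_injective _ hπ, card_init hkm]
    have hmem : π i ∈ (Finset.univ.filter (fun i : Fin m => (i : ℕ) < k)).image π :=
      Finset.mem_image_of_mem _ (Finset.mem_filter.2 ⟨Finset.mem_univ _, hi⟩)
    rcases himg with ⟨k', _, hk'm, e⟩ | e
    · rw [e, card_init hk'm] at hc
      subst hc
      rw [e] at hmem
      simpa using hmem
    · rw [e, epair] at hc
      have := (Finset.card_le_two (a := i1) (b := i3))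
      omega
  have hlt2 : ∀ i : Fin m, (i : ℕ) < 2 → ((π i : Fin m) : ℕ) < 2 := by
    intro i hi
    have himg := h _ (Or.inl ⟨2, le_refl 2, by omega, rfl⟩)
    have hmem : π i ∈ (Finset.univ.filter (fun i : Fin m => (i : ℕ) < 2)).image π :=
      Finset.mem_image_of_mem _ (Finset.mem_filter.2 ⟨Finset.mem_univ _, hi⟩)
    rcases himg with ⟨k', _, hk'm, e⟩ | e
    · have hc : ((Finset.univ.filter (fun i : Fin m => (i : ℕ) < 2)).image π).card = 2 := by
        rw [Finset.card_image_of_injective _ hπ, card_init (by omega)]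
      rw [e, card_init hk'm] at hc
      subst hc
      rw [e] at hmem
      simpa using hmem
    · exfalso
      have h3 : i3 ∈ (Finset.univ.filter (fun i : Fin m => (i : ℕ) < 2)).image π := by
        rw [e, epair]; simp
      obtain ⟨j, hj, hj3⟩ := Finset.mem_image.1 h3
      have hj2 : (j : ℕ) < 2 := by simpa using hj
      have := hseg3 3 (le_refl 3) (by omega) j (by omega)
      rw [hj3] at this
      simp [i3] at this
  have hseg : ∀ k, 2 ≤ k → k ≤ m → ∀ i : Fin m, (i : ℕ) < k ↔ ((π i : Fin m) : ℕ) < k := by
    intro k hk hkm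
    have hk' : ∀ i : Fin m, (i : ℕ) < k → ((π i : Fin m) : ℕ) < k := by
      rcases eq_or_lt_of_le hk with rfl | hk3
      · exact hlt2
      · exact hseg3 k hk3 hkm
    intro i
    refine ⟨hk' i, fun hi => ?_⟩
    set s := Finset.univ.filter (fun i : Fin m => (i : ℕ) < k) with hs
    have himg : s.image π = s := by
      refine Finset.eq_of_subset_of_card_le ?_ ?_
      · intro x hx
        obtain ⟨j, hj, rfl⟩ := Finset.mem_image.1 hx
        simp only [hs, Finset.mem_filter, Finset.mem_univ, true_and] at hj ⊢
        exact hk' j hj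
      · rw [Finset.card_image_of_injective _ hπ]
    have : π i ∈ s.image π := by rw [himg]; simp [hs, hi]
    obtain ⟨j, hj, he⟩ := Finset.mem_image.1 this
    rw [hπ he] at hj
    simpa [hs] using hj
  have h2 : ∀ i : Fin m, 2 ≤ (i : ℕ) → π i = i := by
    intro i hi
    have a := hseg (i : ℕ) hi (le_of_lt i.isLt) i
    have b := hseg ((i : ℕ) + 1) (by omega) i.isLt i
    apply Fin.ext
    omega
  have hp : ({i1, i3} : Finset (Fin m)).image π ∈ fam m := by
    rw [← epair]; exact h _ (Or.inr rfl)
  have h1 : π i1 = i1 := by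
    have e3 : π i3 = i3 := h2 i3 (by simp [i3])
    rw [Finset.image_insert, Finset.image_singleton, e3] at hp
    rcases hp with ⟨k, hk, hkm, e⟩ | e
    · exfalso
      have hmem : i3 ∈ Finset.univ.filter (fun i : Fin m => (i : ℕ) < k) := by rw [← e]; simp
      have hk4 : 3 < k := by simpa [i3] using hmem
      have hc := congrArg Finset.card e
      rw [card_init hkm] at hc
      have := (Finset.card_le_two (a := π i1) (b := i3))
      omega
    · rw [epair] at e
      have : π i1 ∈ ({i1, i3} : Finset (Fin m)) := by rw [← e]; simp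
      rcases Finset.mem_insert.1 this with h | h
      · exact h
      · exfalso
        have h' : π i1 = π i3 := by rw [e3]; exact Finset.mem_singleton.1 h
        simpa [i1, i3, Fin.ext_iff] using hπ h'
  intro i
  by_cases hi : 2 ≤ (i : ℕ)
  · exact h2 i hi
  · rcases (show (i : ℕ) = 1 ∨ (i : ℕ) = 0 by omega) with e | e
    · rw [show i = i1 from Fin.ext e]; exact h1
    · have := (hseg 2 (le_refl 2) (by omega) i).1 (by omega)
      apply Fin.ext
      by_contra hne
      have : π i = π i1 := by rw [h1]; apply Fin.ext; simp only [i1]; omega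
      have := congrArg Fin.val (hπ this)
      simp [i1] at this
      omega

section linear

variable {r : ℕ} [Fact r.Prime] {X : Type*} [AddCommGroup X] [Module (ZMod r) X] {m : ℕ}
  (b : Module.Basis (Fin m) (ZMod r) X)

theorem sum_repr (s : Finset (Fin m)) (i : Fin m) :
    b.repr (∑ j ∈ s, b j) i = if i ∈ s then 1 else 0 := by
  classical
  simp [map_sum, Finsupp.finsetSum_apply, Finsupp.single_apply]

theorem sum_inj {s t : Finset (Fin m)} (h : ∑ j ∈ s, b j = ∑ j ∈ t, b j) : s = t := by
  classical
  ext i
  have e := sum_repr b s i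
  rw [h, sum_repr b t i] at e
  split_ifs at e with h1 h2 h2 <;> first | simp_all | exact absurd e (by simp)

theorem eq_id (g : X →+ X) (hg : ∀ i, g (b i) = b i) : ∀ x, g x = x := by
  intro x
  conv_lhs => rw [← b.sum_repr x]
  rw [map_sum]
  conv_rhs => rw [← b.sum_repr x]
  refine Finset.sum_congr rfl fun i _ => ?_
  rw [ZMod.map_smul, hg]

/-- Colour `1` on the basis and `2` on the sums along `fam`. -/
noncomputable def famLab : X → Fin 3 :=
  open Classical in
  fun x => if x ∈ Set.range b then 1 else if (∃ s ∈ fam m, x = ∑ j ∈ s, b j) then 2 else 0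

theorem famLab_rigid (hm : 4 ≤ m) (g : X →+ X) (hgi : Function.Injective g)
    (hc : ∀ x, famLab b (g x) = famLab b x) : ∀ x, g x = x := by
  classical
  have hb : ∀ i, g (b i) ∈ Set.range b := by
    intro i
    have e := hc (b i)
    unfold famLab at e
    rw [if_pos (Set.mem_range_self i)] at e
    split_ifs at e with h1 <;> first | exact h1 | simp at e
  choose π hπ using hb
  have hπi : Function.Injective π := fun i j h => b.injective (hgi (by rw [← hπ, ← hπ, h]))
  have hnot : ∀ s ∈ fam m, (∑ j ∈ s, b j) ∉ Set.range b := by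
    rintro s hs ⟨i, hi⟩
    have e : s = {i} := sum_inj b (by rw [← hi, Finset.sum_singleton])
    subst e
    have hone : ∀ u v : Fin m, u ∈ ({i} : Finset (Fin m)) → v ∈ ({i} : Finset (Fin m)) → (u : ℕ) = v := by
      intro u v hu hv
      rw [Finset.mem_singleton.1 hu, Finset.mem_singleton.1 hv]
    rcases hs with ⟨k, hk, hkm, e⟩ | e
    · rw [e] at hone
      exact absurd (hone ⟨0, by omega⟩ ⟨1, by omega⟩ (by simp; omega) (by simp; omega)) (by simp)
    · rw [e] at hone
      exact absurd (hone ⟨1, by omega⟩ ⟨3, by omega⟩ (by simp) (by simp)) (by simp)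
  have hfam : ∀ s ∈ fam m, s.image π ∈ fam m := by
    intro s hs
    have hg : g (∑ j ∈ s, b j) = ∑ j ∈ s.image π, b j := by
      rw [map_sum, Finset.sum_image (fun _ _ _ _ h => hπi h)]
      exact Finset.sum_congr rfl fun j _ => (hπ j).symm
    have e := hc (∑ j ∈ s, b j)
    unfold famLab at e
    rw [if_neg (hnot s hs), if_pos (show ∃ t ∈ fam m, (∑ j ∈ s, b j) = ∑ j ∈ t, b j from ⟨s, hs, rfl⟩)] at e
    split_ifs at e with h1 h2 <;> first | simp at e | skip
    obtain ⟨t, ht, htt⟩ := h2
    rw [hg] at htt
    rw [sum_inj b htt]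
    exact ht
  have hid := fam_rigid hm π hπi hfam
  exact eq_id b g fun i => by rw [← hπ i, hid]

include b in
/-- Colouring `1` and `2` on one or two basis vectors. -/
theorem small_rigid (hm : m ≤ 2) : ∃ c : X → Fin 3, c 0 = 0 ∧
    ((∃ x : X, x ≠ 0) → ∃ x, x ≠ 0 ∧ c x = 1) ∧
    ∀ g : X →+ X, (∀ x, c (g x) = c x) → ∀ x, g x = x := by
  classical
  refine ⟨fun x => if h : ∃ i, b i = x then ⟨(h.choose : ℕ) + 1, by have := h.choose.isLt; omega⟩
    else 0, ?_, ?_, ?_⟩
  · have : ¬ ∃ i, b i = (0 : X) := fun ⟨i, hi⟩ => b.ne_zero i hi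
    simp only [dif_neg this]
  · rintro ⟨x, hx⟩
    have hm0 : 0 < m := by
      rcases Nat.eq_zero_or_pos m with h | h
      · subst h
        exact absurd (by rw [← b.sum_repr x]; simp) hx
      · exact h
    refine ⟨b ⟨0, hm0⟩, b.ne_zero _, ?_⟩
    have h : ∃ i, b i = b ⟨0, hm0⟩ := ⟨_, rfl⟩
    simp only [dif_pos h]
    apply Fin.ext
    have := b.injective h.choose_spec
    simp [this]
  · intro g hc
    refine eq_id b g fun i => ?_
    have e := hc (b i)
    have h : ∃ j, b j = b i := ⟨i, rfl⟩
    simp only [dif_pos h] at e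
    by_cases h' : ∃ j, b j = g (b i)
    · simp only [dif_pos h'] at e
      have e' : h'.choose = i := by
        apply Fin.ext
        have := congrArg Fin.val e
        have := congrArg Fin.val (b.injective h.choose_spec)
        simp at *
        omega
      have hh := h'.choose_spec
      rw [e'] at hh
      exact hh.symm
    · simp only [dif_neg h'] at e
      exact absurd (congrArg Fin.val e) (by simp)

theorem three_rigid (b : Module.Basis (Fin 3) (ZMod r) X) (hr : r ≠ 2) : ∃ c : X → Fin 3, c 0 = 0 ∧
    (∃ x, x ≠ 0 ∧ c x = 1) ∧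
    ∀ g : X →+ X, Function.Injective g → (∀ x, c (g x) = c x) → ∀ x, g x = x := by
  classical
  let u := b 0 + (2 : ZMod r) • b 1
  let v := b 0 + b 1 + b 2
  have h2 : (2 : ZMod r) ≠ 0 := by
    intro h
    have : ((2 : ℕ) : ZMod r) = 0 := by exact_mod_cast h
    rw [ZMod.natCast_eq_zero_iff] at this
    exact hr ((Nat.prime_dvd_prime_iff_eq Fact.out Nat.prime_two).1 this)
  have h21 : (2 : ZMod r) ≠ 1 := by
    intro h
    exact one_ne_zero (show (1 : ZMod r) = 0 by linear_combination h)
  have hu : u ∉ Set.range b := by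
    rintro ⟨i, hi⟩
    have e0 := congrArg (fun x => b.repr x 0) hi
    have e1 := congrArg (fun x => b.repr x 1) hi
    fin_cases i <;> simp [u] at e0 e1 <;> first | exact h2 e1.symm | exact one_ne_zero e0.symm
  have hv : v ∉ Set.range b := by
    rintro ⟨i, hi⟩
    have e0 := congrArg (fun x => b.repr x 0) hi
    have e1 := congrArg (fun x => b.repr x 1) hi
    fin_cases i <;> simp [v] at e0 e1
  refine ⟨fun x => if x ∈ Set.range b then 1 else if x = u ∨ x = v then 2 else 0, ?_,
    ⟨b 0, b.ne_zero 0, by simp⟩, ?_⟩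
  · have h0 : (0 : X) ∉ Set.range b := fun ⟨i, hi⟩ => b.ne_zero i hi
    have h1 : ¬ ((0 : X) = u ∨ (0 : X) = v) := by
      rintro (h | h) <;> have := congrArg (fun x => b.repr x 0) h <;> simp [u, v] at this
    simp only [if_neg h0, if_neg h1]
  intro g hgi hc
  have hb : ∀ i, g (b i) ∈ Set.range b := by
    intro i
    have e := hc (b i)
    simp only at e
    rw [if_pos (Set.mem_range_self i)] at e
    split_ifs at e with h1 <;> first | exact h1 | simp at e
  choose π hπ using hb
  have hπi : Function.Injective π := fun i j h => b.injective (hgi (by rw [← hπ, ← hπ, h]))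
  have e := hc u
  simp only at e
  simp only [if_neg hu, true_or, if_true] at e
  split_ifs at e with h1 h2' <;> first | simp at e | skip
  have eg : g u = b (π 0) + (2 : ZMod r) • b (π 1) := by
    simp only [u, map_add, ZMod.map_smul, ← hπ]
  have hp : π 0 = 0 ∧ π 1 = 1 := by
    have key : ∀ a c : Fin 3, a ≠ c → (b a + (2 : ZMod r) • b c = u ∨ b a + (2 : ZMod r) • b c = v) →
        a = 0 ∧ c = 1 := by
      intro a c hac h
      rcases h with h | h <;>
      · have e0 := congrArg (fun x => b.repr x 0) h
        have e1 := congrArg (fun x => b.repr x 1) h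
        have e2 := congrArg (fun x => b.repr x 2) h
        fin_cases a <;> fin_cases c <;>
          first
          | exact absurd rfl hac
          | exact ⟨rfl, rfl⟩
          | (simp [u, v] at e0 e1 e2 <;>
              first
              | exact absurd e0 h21 | exact absurd e1 h21 | exact absurd e2 h21
              | exact absurd e0.symm h21 | exact absurd e1.symm h21 | exact absurd e2.symm h21
              | exact absurd e0 h2 | exact absurd e1 h2 | exact absurd e2 h2
              | exact absurd e0.symm h2 | exact absurd e1.symm h2 | exact absurd e2.symm h2)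
    refine key (π 0) (π 1) (fun h => absurd (hπi h) (by simp)) ?_
    rw [← eg]; exact h2'
  have hp2 : π 2 = 2 := by
    have n0 : π 2 ≠ 0 := fun h => absurd (hπi (h.trans hp.1.symm)) (by simp)
    have n1 : π 2 ≠ 1 := fun h => absurd (hπi (h.trans hp.2.symm)) (by simp)
    revert n0 n1
    generalize π 2 = t
    fin_cases t <;> simp
  refine eq_id b g fun i => ?_
  rw [← hπ i]
  fin_cases i
  · simp [hp.1]
  · simp [hp.2]
  · simp [hp2]

end linear

section fano

variable {X : Type*} [AddCommGroup X] [Module (ZMod 2) X] (b : Module.Basis (Fin 3) (ZMod 2) X)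

/-- The transvection adding `b i` to `b j`. -/
noncomputable def trans (i j : Fin 3) : X →ₗ[ZMod 2] X :=
  b.constr (ZMod 2) (fun l => if l = j then b i + b j else b l)

theorem trans_apply (i j l : Fin 3) :
    trans b i j (b l) = if l = j then b i + b j else b l := by
  rw [trans, Module.Basis.constr_basis]

/-- Colouring whose stabiliser is the transvection `trans b i j`. -/
noncomputable def fanoLab (i j k : Fin 3) : X → Fin 3 :=
  open Classical in
  fun x => if x = b i ∨ x = b k then 1 else if x = b j ∨ x = b i + b j then 2 else 0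

theorem fano_stab (i j k : Fin 3) (hij : i ≠ j) (hik : i ≠ k) (hjk : j ≠ k) (g : X →+ X)
    (hgi : Function.Injective g) (hc : ∀ x, fanoLab b i j k (g x) = fanoLab b i j k x) :
    (∀ x, g x = x) ∨ ∀ x, g x = trans b i j x := by
  classical
  have rep : ∀ s t : Finset (Fin 3), ∑ l ∈ s, b l = ∑ l ∈ t, b l → s = t := fun s t h => sum_inj b h
  have e2 : b i + b j = ∑ l ∈ ({i, j} : Finset (Fin 3)), b l := (Finset.sum_pair hij).symm
  have e1 : ∀ l, b l = ∑ l' ∈ ({l} : Finset (Fin 3)), b l' := fun l => (Finset.sum_singleton _ _).symm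
  have hij2 : ∀ l, b l ≠ b i + b j := by
    intro l h
    rw [e1 l, e2] at h
    have h := rep _ _ h
    have := congrArg Finset.card h
    rw [Finset.card_singleton, Finset.card_pair hij] at this
    omega
  have hA : ∀ l, (l = i ∨ l = k) → g (b l) = b i ∨ g (b l) = b k := by
    intro l hl
    have e := hc (b l)
    unfold fanoLab at e
    rw [if_pos (show b l = b i ∨ b l = b k by rcases hl with rfl | rfl <;> simp)] at e
    split_ifs at e with h <;> first | exact h | simp at e
  have hB : ∀ x, x = b j ∨ x = b i + b j → g x = b j ∨ g x = b i + b j := by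
    intro x hx
    have e := hc x
    unfold fanoLab at e
    have hnA : ¬ (x = b i ∨ x = b k) := by
      rcases hx with rfl | rfl
      · rintro (h | h)
        · exact hij (b.injective h).symm
        · exact hjk (b.injective h)
      · rintro (h | h)
        · exact hij2 i h.symm
        · exact hij2 k h.symm
    rw [if_neg hnA, if_pos hx] at e
    split_ifs at e with h1 h2 <;> first | exact h2 | simp at e
  have three : ∀ a c, a ≠ c → ∀ d, b a + b d = b i + b c → a ≠ d → i ≠ c → a = i ∨ a = c := by
    intro a c _ d h had hic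
    rw [← Finset.sum_pair had, ← Finset.sum_pair hic] at h
    have : a ∈ ({i, c} : Finset (Fin 3)) := by rw [← rep _ _ h]; simp
    simpa using this
  have hgj := hB (b j) (Or.inl rfl)
  have hgij := hB (b i + b j) (Or.inr rfl)
  rw [map_add] at hgij
  have hi : g (b i) = b i := by
    rcases hA i (Or.inl rfl) with h | h
    · exact h
    exfalso
    rw [h] at hgij
    rcases hgj with h' | h' <;> rw [h'] at hgij <;> rcases hgij with h'' | h''
    · exact b.ne_zero k (by simpa using h'')
    · exact hik (b.injective (by simpa using h'')).symm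
    · have e : b k + b i = 0 := by
        have := congrArg (· - b j) h''
        simpa [← add_assoc] using this
      rw [← Finset.sum_pair hik.symm] at e
      exact absurd (rep _ ∅ (by simpa using e)) (by simp)
    · exact b.ne_zero k (by simpa using h'')
  have hk : g (b k) = b k := by
    rcases hA k (Or.inr rfl) with h | h
    · exact absurd (b.injective (hgi (h.trans hi.symm))) hik.symm
    · exact h
  have all : ∀ l : Fin 3, l = i ∨ l = j ∨ l = k := by omega
  rcases hgj with h' | h'
  · left
    refine eq_id b g fun l => ?_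
    rcases all l with rfl | rfl | rfl <;> assumption
  · right
    intro x
    have := eq_id b ((g : X →+ X) - (trans b i j).toAddMonoidHom + AddMonoidHom.id X) (fun l => ?_) x
    · simpa [sub_eq_zero] using this
    · rcases all l with rfl | rfl | rfl
      · simp [trans_apply, hij, hi]
      · simp [trans_apply, h']
      · simp [trans_apply, hjk.symm, hk]

include b in
/-- For a solvable group acting on a three-dimensional space over two elements some colouring is
rigid. -/
theorem fano_rigid {K : Type*} [Group K] [Group.IsSolvable K] [DistribMulAction K X] :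
    ∃ c : X → Fin 3, c 0 = 0 ∧ (∃ x, x ≠ 0 ∧ c x = 1) ∧
      ∀ g : K, (∀ x, c (g • x) = c x) → ∀ x : X, g • x = x := by
  classical
  by_cases h : ∃ i j k : Fin 3, i ≠ j ∧ i ≠ k ∧ j ≠ k ∧
      ∀ g : K, (∀ x, fanoLab b i j k (g • x) = fanoLab b i j k x) → ∀ x : X, g • x = x
  · obtain ⟨i, j, k, hij, hik, hjk, hg⟩ := h
    refine ⟨fanoLab b i j k, ?_, ⟨b i, b.ne_zero i, by simp [fanoLab]⟩, hg⟩
    have h1 : ¬ ((0 : X) = b i ∨ (0 : X) = b k) := by
      rintro (h | h) <;> exact b.ne_zero _ h.symm
    have h2 : ¬ ((0 : X) = b j ∨ (0 : X) = b i + b j) := by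
      rintro (h | h)
      · exact b.ne_zero _ h.symm
      · rw [← Finset.sum_pair hij] at h
        exact absurd (sum_inj b (s := ∅) (by simpa using h)).symm (by simp)
    simp only [fanoLab, if_neg h1, if_neg h2]
  exfalso
  push Not at h
  have hmem : ∀ i j : Fin 3, i ≠ j → ∃ g : K, ∀ x : X, g • x = trans b i j x := by
    intro i j hij
    obtain ⟨k, hik, hjk⟩ : ∃ k, i ≠ k ∧ j ≠ k := by
      revert hij; revert i j; decide
    obtain ⟨g, hg, x, hx⟩ := h i j k hij hik hjk
    rcases fano_stab b i j k hij hik hjk (DistribSMul.toAddMonoidHom X g)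
      (MulAction.injective g) hg with h1 | h1
    · exact absurd (h1 x) hx
    · exact ⟨g, h1⟩
  choose t ht using hmem
  let φ : K →* Equiv.Perm X := MulAction.toPermHom K X
  haveI : Group.IsSolvable φ.range := Group.isSolvable_of_surjective φ.rangeRestrict_surjective
  let S : Set φ.range := {s | ∃ i j : Fin 3, i ≠ j ∧ ∀ x : X, (s : Equiv.Perm X) x = trans b i j x}
  have hS : ∀ s ∈ S, ∃ a ∈ S, ∃ c ∈ S, s = ⁅a, c⁆ := by
    rintro s ⟨i, j, hij, hs⟩
    obtain ⟨k, hik, hjk⟩ : ∃ k, i ≠ k ∧ j ≠ k := by
      revert hij; clear hs; revert i j; decide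
    refine ⟨φ.rangeRestrict (t i k hik), ⟨i, k, hik, fun x => ht i k hik x⟩,
      φ.rangeRestrict (t k j hjk.symm), ⟨k, j, hjk.symm, fun x => ht k j hjk.symm x⟩, ?_⟩
    have inv : ∀ u v (huv : u ≠ v) (x : X), (t u v huv)⁻¹ • x = trans b u v x := by
      intro u v huv x
      rw [inv_smul_eq_iff, ht]
      have := eq_id b ((trans b u v).toAddMonoidHom.comp (trans b u v).toAddMonoidHom) (fun l => ?_) x
      · exact this.symm
      · simp only [AddMonoidHom.coe_comp, LinearMap.toAddMonoidHom_coe, Function.comp_apply, trans_apply]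
        split_ifs with h1
        · subst h1
          rw [map_add, trans_apply, trans_apply, if_neg huv, if_pos rfl, ← add_assoc,
            ZModModule.add_self, zero_add]
        · rw [trans_apply, if_neg h1]
    apply Subtype.ext
    apply Equiv.ext
    intro x
    rw [hs x, commutatorElement_def]
    show _ = ((φ (t i k hik) * φ (t k j hjk.symm) * (φ (t i k hik))⁻¹ * (φ (t k j hjk.symm))⁻¹) : Equiv.Perm X) x
    rw [← map_inv, ← map_inv, ← map_mul, ← map_mul, ← map_mul]
    show _ = (t i k hik * t k j hjk.symm * (t i k hik)⁻¹ * (t k j hjk.symm)⁻¹) • x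
    simp only [mul_smul, inv, ht]
    have := eq_id b ((trans b i j).toAddMonoidHom.comp (((trans b i k).toAddMonoidHom.comp
      ((trans b k j).toAddMonoidHom.comp ((trans b i k).toAddMonoidHom.comp
        (trans b k j).toAddMonoidHom))))) (fun l => ?_) x
    · have inv2 := inv i j hij
      have e := congrArg (fun y => trans b i j y) this
      simp only [AddMonoidHom.coe_comp, LinearMap.toAddMonoidHom_coe, Function.comp_apply] at e
      rw [← inv2, ← ht i j hij, inv_smul_smul] at e
      rw [← e]
    · have all : ∀ l : Fin 3, l = i ∨ l = j ∨ l = k := by omega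
      have two : ∀ a c : X, a + (a + c) = c := fun a c => by
        rw [← add_assoc, ZModModule.add_self, zero_add]
      rcases all l with rfl | rfl | rfl <;>
        simp [trans_apply, map_add, hij, hij.symm, hik, hik.symm, hjk, hjk.symm, add_comm, add_left_comm,
          two]
  have h01 : (0 : Fin 3) ≠ 1 := by decide
  have h1 := eq_one_of_comm S hS (φ.rangeRestrict (t 0 1 h01))
    ⟨0, 1, h01, fun x => ht 0 1 h01 x⟩
  have h2 : (t 0 1 h01) • b 1 = b 1 :=
    Equiv.congr_fun (congrArg Subtype.val h1) (b 1)
  rw [ht, trans_apply, if_pos rfl] at h2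
  exact b.ne_zero 0 (by simpa using h2)

end fano

/-- The labelling for an elementary abelian group acted on by a solvable group. -/
theorem exists_lab {r : ℕ} [Fact r.Prime] {X : Type*} [AddCommGroup X] [Module (ZMod r) X] [Finite X]
    {K : Type*} [Group K] [Group.IsSolvable K] [DistribMulAction K X] :
    ∃ c : X → Fin 3, c 0 = 0 ∧ ((∃ x : X, x ≠ 0) → ∃ x, x ≠ 0 ∧ c x = 1) ∧
      ∀ g : K, (∀ x, c (g • x) = c x) → ∀ x : X, g • x = x := by
  classical
  let b := Module.finBasis (ZMod r) X
  by_cases h2 : Module.finrank (ZMod r) X ≤ 2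
  · obtain ⟨c, h0, h1, hc⟩ := small_rigid b h2
    exact ⟨c, h0, h1, fun g hg => hc (DistribSMul.toAddMonoidHom X g) hg⟩
  by_cases h3 : Module.finrank (ZMod r) X = 3
  · let b3 := Module.finBasisOfFinrankEq (ZMod r) X h3
    by_cases hr : r = 2
    · subst hr
      obtain ⟨c, h0, h1, hc⟩ := fano_rigid b3 (K := K)
      exact ⟨c, h0, fun _ => h1, hc⟩
    · obtain ⟨c, h0, h1, hc⟩ := three_rigid b3 hr
      exact ⟨c, h0, fun _ => h1,
        fun g hg => hc (DistribSMul.toAddMonoidHom X g) (MulAction.injective g) hg⟩
  have hm : 4 ≤ Module.finrank (ZMod r) X := by omega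
  refine ⟨famLab b, ?_, fun _ => ⟨b ⟨0, by omega⟩, b.ne_zero _, ?_⟩,
    fun g hg => famLab_rigid b hm (DistribSMul.toAddMonoidHom X g) (MulAction.injective g) hg⟩
  · have h1 : (0 : X) ∉ Set.range b := fun ⟨i, hi⟩ => b.ne_zero i hi
    have h2 : ¬ ∃ s ∈ fam (Module.finrank (ZMod r) X), (0 : X) = ∑ j ∈ s, b j := by
      rintro ⟨s, hs, he⟩
      have e : (∅ : Finset _) = s := sum_inj b (by simpa using he)
      subst e
      rcases hs with ⟨k, hk, hkm, e⟩ | e
      · exact Finset.notMem_empty (⟨0, by omega⟩ : Fin (Module.finrank (ZMod r) X))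
          (by rw [e]; simp; omega)
      · exact Finset.notMem_empty (⟨1, by omega⟩ : Fin (Module.finrank (ZMod r) X))
          (by rw [e]; simp)
    simp only [famLab, if_neg h1, if_neg h2]
  · simp [famLab]

/-- A colouring of a vector space with five colours fixed only by the identity. -/
theorem exists_five_lab {p : ℕ} [Fact p.Prime] {X : Type*} [AddCommGroup X] [Module (ZMod p) X]
    [Finite X] :
    ∃ c : X → Fin 5, (∀ x, c x = 3 ↔ x = 0) ∧ ((∀ x, c x ≠ 4) ∨ 5 < Nat.card X) ∧
      ∀ g : X →+ X, Function.Injective g → (∀ x, c (g x) = c x) → ∀ x, g x = x := by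
  classical
  let b := Module.finBasis (ZMod p) X
  by_cases h3 : Module.finrank (ZMod p) X = 3
  · let b3 := Module.finBasisOfFinrankEq (ZMod p) X h3
    let f : Fin 3 → Fin 5 := ![1, 2, 4]
    refine ⟨fun x => if x = 0 then 3 else if h : ∃ i, b3 i = x then f h.choose else 0, ?_, ?_, ?_⟩
    · intro x
      constructor
      · intro e
        simp only at e
        split_ifs at e with h1 h2
        · exact h1
        · have : ∀ i, f i ≠ 3 := by decide
          exact absurd e (this _)
        · simp at e
      · intro h; simp [h]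
    · right
      have : Nat.card X = p ^ 3 := by
        rw [Module.natCard_eq_pow_finrank (K := ZMod p), Nat.card_zmod, h3]
      rw [this]
      have := (Fact.out : p.Prime).two_le
      calc 5 < 2 ^ 3 := by norm_num
        _ ≤ p ^ 3 := Nat.pow_le_pow_left this 3
    · intro g hgi hc
      refine eq_id b3 g fun i => ?_
      have e := hc (b3 i)
      have hg0 : g (b3 i) ≠ 0 := fun h => b3.ne_zero i (hgi (h.trans (map_zero g).symm))
      have h : ∃ j, b3 j = b3 i := ⟨i, rfl⟩
      simp only [if_neg hg0, if_neg (b3.ne_zero i), dif_pos h] at e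
      have hf : f h.choose = f i := by rw [b3.injective h.choose_spec]
      by_cases h' : ∃ j, b3 j = g (b3 i)
      · simp only [dif_pos h'] at e
        have hfinj : Function.Injective f := by decide
        have hh := h'.choose_spec
        rw [hfinj (e.trans hf)] at hh
        exact hh.symm
      · simp only [dif_neg h'] at e
        have : ∀ j, f j ≠ 0 := by decide
        exact absurd (e.trans hf).symm (this i)
  obtain ⟨c, h0, hc⟩ : ∃ c : X → Fin 3, c 0 = 0 ∧
      ∀ g : X →+ X, Function.Injective g → (∀ x, c (g x) = c x) → ∀ x, g x = x := by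
    by_cases h2 : Module.finrank (ZMod p) X ≤ 2
    · obtain ⟨c, h0, _, hc⟩ := small_rigid b h2
      exact ⟨c, h0, fun g _ => hc g⟩
    · refine ⟨fun x => if x = 0 then 0 else famLab b x, if_pos rfl, fun g hgi h x => ?_⟩
      refine famLab_rigid b (by omega) g hgi (fun y => ?_) x
      by_cases hy : y = 0
      · subst hy; simp
      · have hgy : g y ≠ 0 := fun e => hy (hgi (e.trans (map_zero g).symm))
        simpa [hy, hgy] using h y
  refine ⟨fun x => if x = 0 then 3 else ⟨(c x : ℕ), by omega⟩, fun x => ?_, Or.inl fun x => ?_, ?_⟩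
  · by_cases h : x = 0
    · simp [h]
    · simp only [if_neg h, h, iff_false]
      intro e
      have := congrArg Fin.val e
      simp at this
      omega
  · by_cases h : x = 0
    · simp [h]
    · simp only [if_neg h]
      intro e
      have := congrArg Fin.val e
      simp at this
      omega
  · intro g hgi h
    refine hc g hgi fun x => ?_
    by_cases hx : x = 0
    · subst hx; simp
    · have hgx : g x ≠ 0 := fun e => hx (hgi (e.trans (map_zero g).symm))
      have e := h x
      simp only [if_neg hx, if_neg hgx] at e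
      have := congrArg Fin.val e
      exact Fin.ext this

end Cfsg.Agent.ThreeVec75
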