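import Mathlib

/-!
Interfaces for the primitive coprime base-two case: twisted colourings and small models.
-/

set_option autoImplicit false

namespace Cfsg.Agent.ThreeVec75

universe u v w

/-- A group of additive maps of `X` with quadratic phases in `U`. -/
structure Twist (r : ℕ) {U : Type u} (ε : U) (Γ : Type v) (X : Type w) [Group Γ] [AddCommGroup X]
    [CommGroup U] where
  σ : Γ → X →+ X
  σ_one : ∀ x, σ 1 x = x
  σ_mul : ∀ g h x, σ (g * h) x = σ g (σ h x)
  z : Γ → X → U
  z_mul : ∀ g h x, z (g * h) x = z g (σ h x) * z h x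
  z_zero : ∀ g, z g 0 = 1
  z_odd : r ≠ 2 → ∀ g x, z g x ^ r = 1
  z_two : r = 2 → ∀ g x, z g x ^ 2 = 1 ∨ z g x ^ 2 = ε
  quad : ∀ g a b c, z g (a + b + c) * z g a * z g b * z g c = z g (a + b) * z g (a + c) * z g (b + c)

/-- Some colouring by `0` and scalars is preserved only by trivial twisted maps. -/
def Twist.Separated {r : ℕ} {U : Type u} [CommGroup U] {ε : U} {Γ : Type v} {X : Type w} [Group Γ]
    [AddCommGroup X] (T : Twist r ε Γ X) : Prop :=
  ∃ C : X → Option U, ∀ g : Γ, (∀ x, C (T.σ g x) = (C x).map (T.z g x * ·)) →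
    ∀ x, T.σ g x = x ∧ T.z g x = 1

/-- The standing hypotheses on the scalar group of a field with `p ^ f` elements. -/
structure Scalars (p r : ℕ) (U : Type u) [CommGroup U] (ε : U) : Prop where
  prime : p.Prime
  rprime : r.Prime
  ne : r ≠ p
  cyclic : IsCyclic U
  card : ∃ f, Nat.card U + 1 = p ^ f
  dvd : r ∣ Nat.card U
  sq : ε * ε = 1
  ε_ne : p ≠ 2 → ε ≠ 1

/-- Diagonal generator `i` of the model on `2 ^ n` points. -/
def diagGen (p n : ℕ) (i : Fin n) : Matrix (Fin (2 ^ n)) (Fin (2 ^ n)) (ZMod p) :=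
  fun a b => if a = b then (if (a : ℕ).testBit i then -1 else 1) else 0

/-- Permuting generator `i` of the model on `2 ^ n` points. -/
def permGen (p n : ℕ) (i : Fin n) : Matrix (Fin (2 ^ n)) (Fin (2 ^ n)) (ZMod p) :=
  fun a b => if (a : ℕ) = (b : ℕ) ^^^ 2 ^ (i : ℕ) then 1 else 0

/-- Generators of the hyperbolic model: diagonal ones, then permuting ones. -/
def plusGens (p n : ℕ) : List (Matrix (Fin (2 ^ n)) (Fin (2 ^ n)) (ZMod p)) :=
  (List.finRange n).map (diagGen p n) ++ (List.finRange n).map (permGen p n)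

/-- The quaternion generator `i` on the last bit of eight points. -/
def quatI : Matrix (Fin 8) (Fin 8) (ZMod 3) :=
  fun a b => if (b : ℕ) < 4 then (if (a : ℕ) = (b : ℕ) + 4 then 1 else 0)
    else (if (a : ℕ) + 4 = (b : ℕ) then -1 else 0)

/-- The quaternion generator `j` on the last bit of eight points. -/
def quatJ : Matrix (Fin 8) (Fin 8) (ZMod 3) :=
  fun a b => if (a : ℕ) % 4 = (b : ℕ) % 4 then (if 4 ≤ (a : ℕ) ∧ 4 ≤ (b : ℕ) then -1 else 1) else 0

/-- Generators of the model with a quaternion residue: two pairs and `i`, `j`. -/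
def minusGens : List (Matrix (Fin 8) (Fin 8) (ZMod 3)) :=
  [diagGen 3 3 0, diagGen 3 3 1, permGen 3 3 0, permGen 3 3 1, quatI, quatJ]

/-- A group of matrices normalising the scalar multiples of the generated group has a pair of vectors
with trivial common stabiliser, if its order is prime to `p`. -/
def ModelTwo (p e : ℕ) (L : List (Matrix (Fin e) (Fin e) (ZMod p))) : Prop :=
  ∀ (A : Type u) [Group A] [Finite A], ¬ p ∣ Nat.card A →
    ∀ ρ : A →* Matrix (Fin e) (Fin e) (ZMod p), Function.Injective ρ →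
      (∀ a : A, ∀ g ∈ L, ∃ (c : ZMod p) (l : List Bool), l.length = L.length ∧
        ρ a * g * ρ a⁻¹ = c • ((L.zip l).map fun t => if t.2 then t.1 else 1).prod) →
      ∃ x y : Fin e → ZMod p, x ≠ 0 ∧ ∀ a : A, (ρ a).mulVec x = x → (ρ a).mulVec y = y → a = 1

end Cfsg.Agent.ThreeVec75
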