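import Mathlib
import Cfsg.Agent.Lib.ThreeVec75Colour

/-!
The normal subgroup `B` above a maximal abelian normal subgroup acting freely, and scaling.
-/

set_option autoImplicit false
set_option linter.style.haveILetI false

namespace Cfsg.Agent.ThreeVec75

universe u v

open scoped commutatorElement Pointwise

/-- A solvable linear group with a cyclic maximal abelian normal subgroup `U` acting freely. -/
structure Core (A : Type v) (V : Type u) [Group A] [AddCommGroup V] [DistribMulAction A V] where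
  U : Subgroup A
  normal : U.Normal
  comm : ∀ a ∈ U, ∀ b ∈ U, a * b = b * a
  maxab : ∀ N : Subgroup A, N.Normal → (∀ a ∈ N, ∀ b ∈ N, a * b = b * a) → U ≤ N → N = U
  free : ∀ a ∈ U, ∀ b ∈ U, ∀ x : V, x ≠ 0 → a • x = b • x → a = b
  ω : A
  ω_mem : ω ∈ U
  ω_gen : ∀ a ∈ U, ∃ k : ℕ, ω ^ k = a
  ε : A
  ε_mem : ε ∈ U
  ε_smul : ∀ x : V, ε • x = -x

attribute [instance] Core.normal

/-- A normal subgroup which is abelian of squarefree exponent over `U`, maximal as such. -/
structure Bd {A : Type v} {V : Type u} [Group A] [AddCommGroup V] [DistribMulAction A V]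
    (K : Core A V) where
  B : Subgroup A
  normal : B.Normal
  le : K.U ≤ B
  cent : ∀ b ∈ B, ∀ a ∈ K.U, Commute b a
  comm : ∀ a ∈ B, ∀ b ∈ B, ⁅a, b⁆ ∈ K.U
  sqf : ∀ b ∈ B, ∃ n : ℕ, Squarefree n ∧ b ^ n ∈ K.U
  self : ∀ c : A, (∀ a ∈ K.U, Commute c a) → (∀ b ∈ B, Commute c b) → c ∈ K.U

attribute [instance] Bd.normal

section

variable {A : Type v} {V : Type u} [Group A] [AddCommGroup V] [DistribMulAction A V] (K : Core A V)

theorem Core.fix_eq_one {a : A} (ha : a ∈ K.U) {x : V} (hx : x ≠ 0) (h : a • x = x) : a = 1 :=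
  K.free a ha 1 (one_mem _) x hx (by rw [one_smul, h])

theorem Core.sq_one [Nontrivial V] {z : A} (hz : z ∈ K.U) (h : z * z = 1) : z = 1 ∨ z = K.ε := by
  by_cases h1 : z = 1
  · exact Or.inl h1
  right
  obtain ⟨x, hx⟩ := exists_ne (0 : V)
  refine K.free z hz K.ε K.ε_mem x hx ?_
  rw [K.ε_smul, eq_neg_iff_add_eq_zero]
  by_contra hne
  refine h1 (K.fix_eq_one hz hne ?_)
  rw [smul_add, ← mul_smul, h, one_smul, add_comm]

theorem Core.ε_sq [FaithfulSMul A V] : K.ε * K.ε = 1 :=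
  eq_of_smul_eq_smul (α := V) fun x => by rw [mul_smul, K.ε_smul, K.ε_smul, neg_neg, one_smul]

theorem exists_prime_pow (W : Subgroup A) [Finite A] {d : A} (hd : d ∉ W) :
    ∃ r k : ℕ, r.Prime ∧ d ^ k ∉ W ∧ (d ^ k) ^ r ∈ W ∧ ∀ n, d ^ n ∈ W → r ∣ n := by
  classical
  have hex : ∃ m, 0 < m ∧ d ^ m ∈ W := ⟨orderOf d, orderOf_pos d, by rw [pow_orderOf_eq_one]; exact one_mem _⟩
  obtain ⟨hm0, hm⟩ := Nat.find_spec hex
  have hmin : ∀ n, d ^ n ∈ W → Nat.find hex ∣ n := by
    intro n hn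
    refine Nat.dvd_of_mod_eq_zero ?_
    by_contra hne
    have e : d ^ n = (d ^ Nat.find hex) ^ (n / Nat.find hex) * d ^ (n % Nat.find hex) := by
      rw [← pow_mul, ← pow_add, Nat.div_add_mod]
    have : d ^ (n % Nat.find hex) ∈ W := by
      have h' := mul_mem (inv_mem (pow_mem hm (n / Nat.find hex))) hn
      rwa [e, inv_mul_cancel_left] at h'
    exact Nat.find_min hex (Nat.mod_lt _ hm0) ⟨Nat.pos_of_ne_zero hne, this⟩
  have hne1 : Nat.find hex ≠ 1 := fun h => hd (by rw [h, pow_one] at hm; exact hm)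
  obtain ⟨r, hr, hrd⟩ := Nat.exists_prime_and_dvd hne1
  refine ⟨r, Nat.find hex / r, hr, ?_, ?_, fun n hn => hrd.trans (hmin n hn)⟩
  · intro h
    have := Nat.le_of_dvd (Nat.div_pos (Nat.le_of_dvd hm0 hrd) hr.pos) (hmin _ h)
    exact absurd this (not_le.2 (Nat.div_lt_self hm0 hr.one_lt))
  · rw [← pow_mul, Nat.div_mul_cancel hrd]
    exact hm

theorem exists_bd [Finite A] [Group.IsSolvable A] : Nonempty (Bd K) := by
  classical
  let π := QuotientGroup.mk' K.U
  have hπ : ∀ a, π a = 1 ↔ a ∈ K.U := fun a => QuotientGroup.eq_one_iff a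
  have hcomm : ∀ a b : A, ⁅a, b⁆ ∈ K.U ↔ Commute (π a) (π b) := fun a b => by
    rw [← hπ, map_commutatorElement, commutatorElement_eq_one_iff_commute]
  let Ok : Subgroup A → Prop := fun B => B.Normal ∧ K.U ≤ B ∧ (∀ b ∈ B, ∀ a ∈ K.U, Commute b a) ∧
    (∀ a ∈ B, ∀ b ∈ B, ⁅a, b⁆ ∈ K.U) ∧ ∀ b ∈ B, ∃ n : ℕ, Squarefree n ∧ b ^ n ∈ K.U
  have hU : Ok K.U := ⟨K.normal, le_rfl, fun b hb a ha => K.comm b hb a ha,
    fun a ha b hb => by
      rw [commutatorElement_def]
      exact mul_mem (mul_mem (mul_mem ha hb) (inv_mem ha)) (inv_mem hb),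
    fun b hb => ⟨1, squarefree_one, by rwa [pow_one]⟩⟩
  obtain ⟨B, hB, hmaxB⟩ := (Set.toFinite {B | Ok B}).exists_maximal ⟨K.U, hU⟩
  obtain ⟨hBn, hBU, hBc, hBk, hBs⟩ := hB
  refine ⟨⟨B, hBn, hBU, hBc, hBk, hBs, fun c hcU hcB => ?_⟩⟩
  by_contra hc
  let N : Subgroup A := Subgroup.centralizer (B : Set A)
  haveI : N.Normal := Subgroup.normal_centralizer
  have hcN : c ∈ N := Subgroup.mem_centralizer_iff.2 fun b hb => (hcB b hb).eq.symm
  let Ds : ℕ → Subgroup A := fun n => Nat.rec N (fun _ D => ⁅D, D⁆) n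
  have hDn : ∀ n, (Ds n).Normal := by
    intro n
    induction n with
    | zero => exact Subgroup.normal_centralizer
    | succ n ih => exact @Subgroup.commutator_normal _ _ (Ds n) (Ds n) ih ih
  have hDle : ∀ n, Ds n ≤ N ∧ Ds n ≤ derivedSeries A n := by
    intro n
    induction n with
    | zero => exact ⟨le_rfl, by rw [derivedSeries_zero]; exact le_top⟩
    | succ n ih =>
      haveI := hDn n
      refine ⟨Subgroup.commutator_le.2 fun x hx y hy => mul_mem (mul_mem (mul_mem (ih.1 hx) (ih.1 hy))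
        (inv_mem (ih.1 hx))) (inv_mem (ih.1 hy)), ?_⟩
      rw [derivedSeries_succ]
      exact Subgroup.commutator_mono ih.2 ih.2
  obtain ⟨n, hn1, hn2⟩ : ∃ n, ¬ Ds n ≤ K.U ∧ Ds (n + 1) ≤ K.U := by
    obtain ⟨m, hm⟩ := Group.IsSolvable.solvable (G := A)
    have hex : ∃ m, Ds m ≤ K.U := ⟨m, (hDle m).2.trans (hm ▸ bot_le)⟩
    have h0 : Nat.find hex ≠ 0 := fun h => hc (by
      have := Nat.find_spec hex; rw [h] at this; exact this hcN)
    refine ⟨Nat.find hex - 1, Nat.find_min hex (by omega), ?_⟩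
    rw [Nat.sub_add_cancel (Nat.pos_of_ne_zero h0)]
    exact Nat.find_spec hex
  obtain ⟨d, hdD, hdU⟩ := SetLike.not_le_iff_exists.1 hn1
  obtain ⟨r, k, hr, hk1, hk2, -⟩ := exists_prime_pow K.U hdU
  haveI : (Ds n).Normal := hDn n
  have hDcomm : ∀ a ∈ Ds n, ∀ b ∈ Ds n, Commute (π a) (π b) := fun a ha b hb =>
    (hcomm a b).1 (hn2 (Subgroup.commutator_mem_commutator ha hb))
  have hDU : (Ds n ⊔ K.U).Normal := @Subgroup.sup_normal _ _ _ _ (hDn n) K.normal
  let N' : Subgroup A :=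
    { carrier := {x | x ∈ Ds n ⊔ K.U ∧ π x ^ r = 1}
      one_mem' := ⟨one_mem _, by rw [map_one, one_pow]⟩
      mul_mem' := fun {a b} ha hb => ⟨mul_mem ha.1 hb.1, by
        have hab : Commute (π a) (π b) := by
          obtain ⟨a1, ha1, a2, ha2, rfl⟩ := Set.mem_mul.1
            (show a ∈ SetLike.coe (Ds n) * (K.U : Set A) by rw [← Subgroup.mul_normal]; exact ha.1)
          obtain ⟨b1, hb1, b2, hb2, rfl⟩ := Set.mem_mul.1
            (show b ∈ SetLike.coe (Ds n) * (K.U : Set A) by rw [← Subgroup.mul_normal]; exact hb.1)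
          rw [map_mul, map_mul, (hπ a2).2 ha2, (hπ b2).2 hb2, mul_one, mul_one]
          exact hDcomm a1 ha1 b1 hb1
        rw [map_mul, hab.mul_pow, ha.2, hb.2, one_mul]⟩
      inv_mem' := fun {a} ha => ⟨inv_mem ha.1, by rw [map_inv, inv_pow, ha.2, inv_one]⟩ }
  haveI hN'n : N'.Normal := ⟨fun x hx g => ⟨hDU.conj_mem x hx.1 g, by
    rw [map_mul, map_mul, map_inv, conj_pow, hx.2, mul_one, mul_inv_cancel]⟩⟩
  have heN' : d ^ k ∈ N' := ⟨Subgroup.mem_sup_left (pow_mem hdD k), by rw [← map_pow, hπ]; exact hk2⟩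
  have hUN : K.U ≤ N := fun a ha => Subgroup.mem_centralizer_iff.2 fun b hb => (hBc b hb a ha).eq
  have hN'B : ∀ x ∈ N', ∀ b ∈ B, Commute x b := fun x hx b hb =>
    (Subgroup.mem_centralizer_iff.1 (sup_le (hDle n).1 hUN hx.1) b hb).symm
  have hN'ab : ∀ a ∈ N', ∀ b ∈ N', Commute (π a) (π b) := by
    intro a ha b hb
    obtain ⟨a1, ha1, a2, ha2, rfl⟩ := Set.mem_mul.1
      (show a ∈ SetLike.coe (Ds n) * (K.U : Set A) by rw [← Subgroup.mul_normal]; exact ha.1)
    obtain ⟨b1, hb1, b2, hb2, rfl⟩ := Set.mem_mul.1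
      (show b ∈ SetLike.coe (Ds n) * (K.U : Set A) by rw [← Subgroup.mul_normal]; exact hb.1)
    rw [map_mul, map_mul, (hπ a2).2 ha2, (hπ b2).2 hb2, mul_one, mul_one]
    exact hDcomm a1 ha1 b1 hb1
  have hok : Ok (B ⊔ N') := by
    haveI := hBn
    have hdec : ∀ x ∈ B ⊔ N', ∃ b ∈ B, ∃ m ∈ N', x = b * m := fun x hx => by
      have : x ∈ ((B ⊔ N' : Subgroup A) : Set A) := hx
      rw [Subgroup.mul_normal] at this
      obtain ⟨b, hb, m, hm, rfl⟩ := Set.mem_mul.1 this
      exact ⟨b, hb, m, hm, rfl⟩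
    refine ⟨Subgroup.sup_normal B N', le_sup_of_le_left hBU, ?_, ?_, ?_⟩
    · intro x hx a ha
      obtain ⟨b, hb, m, hm, rfl⟩ := hdec x hx
      exact (hBc b hb a ha).mul_left (hN'B m hm a (hBU ha))
    · intro x hx y hy
      obtain ⟨b, hb, m, hm, rfl⟩ := hdec x hx
      obtain ⟨b', hb', m', hm', rfl⟩ := hdec y hy
      rw [hcomm, map_mul, map_mul]
      exact ((((hcomm b b').1 (hBk b hb b' hb')).mul_right ((hN'B m' hm' b hb).symm.map π)).mul_left
        (((hN'B m hm b' hb').map π).mul_right (hN'ab m hm m' hm')))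
    · intro x hx
      obtain ⟨b, hb, m, hm, rfl⟩ := hdec x hx
      obtain ⟨t, ht, hbt⟩ := hBs b hb
      have hbm : Commute (π b) (π m) := (hN'B m hm b hb).symm.map π
      have key : ∀ s, t ∣ s → r ∣ s → (b * m) ^ s ∈ K.U := by
        rintro s ⟨i, hi⟩ ⟨j, hj⟩
        rw [← hπ, map_pow, map_mul, hbm.mul_pow]
        have e1 : π b ^ s = 1 := by rw [hi, pow_mul, ← map_pow, (hπ _).2 hbt, one_pow]
        have e2 : π m ^ s = 1 := by rw [hj, pow_mul, hm.2, one_pow]
        rw [e1, e2, one_mul]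
      by_cases hrt : r ∣ t
      · exact ⟨t, ht, key t dvd_rfl hrt⟩
      · exact ⟨t * r, (Nat.squarefree_mul ((hr.coprime_iff_not_dvd.2 hrt).symm)).2
          ⟨ht, hr.prime.squarefree⟩, key _ (dvd_mul_right t r) (dvd_mul_left r t)⟩
  have heB : d ^ k ∈ B := hmaxB hok le_sup_left (Subgroup.mem_sup_right heN')
  haveI := hBn
  have hZ : B ⊓ N = K.U := K.maxab _ inferInstance
    (fun a ha b hb => (Subgroup.mem_centralizer_iff.1 hb.2 a ha.1))
    (le_inf hBU hUN)
  exact hk1 (hZ ▸ (⟨heB, (hDle n).1 (pow_mem hdD k)⟩ : d ^ k ∈ B ⊓ N))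

variable {K} (D : Bd K)

theorem Bd.comm_mul_left {a b c : A} (ha : a ∈ D.B) (hb : b ∈ D.B) (hc : c ∈ D.B) :
    ⁅a * b, c⁆ = ⁅a, c⁆ * ⁅b, c⁆ := by
  have h : Commute a ⁅b, c⁆ := D.cent a ha _ (D.comm b hb c hc)
  have h' : Commute ⁅a, c⁆ ⁅b, c⁆ := K.comm _ (D.comm a ha c hc) _ (D.comm b hb c hc)
  calc ⁅a * b, c⁆ = (a * ⁅b, c⁆ * a⁻¹) * ⁅a, c⁆ := by simp only [commutatorElement_def]; group
    _ = ⁅b, c⁆ * ⁅a, c⁆ := by rw [h.eq, mul_inv_cancel_right]
    _ = ⁅a, c⁆ * ⁅b, c⁆ := h'.eq.symm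

/-- Commutation with a fixed element of `B`. -/
def Bd.pair {c : A} (hc : c ∈ D.B) : D.B →* A :=
  MonoidHom.mk' (fun a => ⁅(a : A), c⁆) fun a b => D.comm_mul_left a.2 b.2 hc

theorem Bd.comm_pow_left {a c : A} (ha : a ∈ D.B) (hc : c ∈ D.B) (n : ℕ) :
    ⁅a ^ n, c⁆ = ⁅a, c⁆ ^ n := map_pow (D.pair hc) ⟨a, ha⟩ n

theorem Bd.comm_one_of_pow {a c : A} (ha : a ∈ D.B) (hc : c ∈ D.B) {n : ℕ} (h : a ^ n ∈ K.U) :
    ⁅a, c⁆ ^ n = 1 := by
  rw [← D.comm_pow_left ha hc n]
  exact commutatorElement_eq_one_iff_commute.2 (D.cent c hc _ h).symm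

theorem Bd.comm_right_one_of_pow {a c : A} (ha : a ∈ D.B) (hc : c ∈ D.B) {n : ℕ} (h : c ^ n ∈ K.U) :
    ⁅a, c⁆ ^ n = 1 := by
  rw [← commutatorElement_inv, inv_pow, D.comm_one_of_pow hc ha h, inv_one]

/-- `a` times some scalar has order dividing `r`. -/
def Scal (K : Core A V) (r : ℕ) (a : A) : Prop := ∃ z ∈ K.U, (a * z) ^ r = 1

/-- Powers of a product. -/
theorem Bd.mul_pow_eq {a b : A} (ha : a ∈ D.B) (hb : b ∈ D.B) (n : ℕ) :
    (a * b) ^ n = a ^ n * b ^ n * ⁅b, a⁆ ^ n.choose 2 := by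
  have hz := D.comm b hb a ha
  induction n with
  | zero => simp
  | succ n ih =>
    have e1 : b ^ n * a = a * b ^ n * ⁅b, a⁆ ^ n := by
      rw [← D.comm_pow_left hb ha n, ← (D.cent (a * b ^ n) (mul_mem ha (pow_mem hb n)) _
        (D.comm _ (pow_mem hb n) a ha)).eq.symm, commutatorElement_def]
      group
    have hc : Commute (⁅b, a⁆ ^ n.choose 2) (a * b) := (D.cent _ (mul_mem ha hb) _ (pow_mem hz _)).symm
    have hc' : Commute (⁅b, a⁆ ^ n) b := (D.cent _ hb _ (pow_mem hz _)).symm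
    calc (a * b) ^ (n + 1) = a ^ n * b ^ n * ⁅b, a⁆ ^ n.choose 2 * (a * b) := by rw [pow_succ, ih]
      _ = a ^ n * (b ^ n * a) * b * ⁅b, a⁆ ^ n.choose 2 := by
        rw [mul_assoc _ _ (a * b), hc.eq]; simp only [mul_assoc]
      _ = a ^ n * a * b ^ n * (⁅b, a⁆ ^ n * b) * ⁅b, a⁆ ^ n.choose 2 := by
        rw [e1]; simp only [mul_assoc]
      _ = a ^ (n + 1) * b ^ (n + 1) * ⁅b, a⁆ ^ (n + 1).choose 2 := by
        have e2 : (n + 1).choose 2 = n + n.choose 2 := by rw [Nat.choose_succ_succ', Nat.choose_one_right]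
        rw [hc'.eq, e2, pow_add ⁅b, a⁆, pow_succ a, pow_succ b]
        simp only [mul_assoc]

theorem torsion_zpowers [Finite A] {r : ℕ} (hr : r.Prime) {z : A} (hz : z ∈ K.U) (hzr : z ^ r = 1)
    (hz1 : z ≠ 1) {c : A} (hc : c ∈ K.U) (hcr : c ^ r = 1) : ∃ k : ℕ, z ^ k = c := by
  classical
  haveI := Fact.mk hr
  haveI : IsCyclic K.U := ⟨⟨⟨K.ω, K.ω_mem⟩, fun a => by
    obtain ⟨k, hk⟩ := K.ω_gen a a.2
    exact ⟨k, Subtype.ext (by simpa using hk)⟩⟩⟩
  letI : Fintype K.U := Fintype.ofFinite _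
  have hle := IsCyclic.card_pow_eq_one_le (α := K.U) hr.pos
  let z' : K.U := ⟨z, hz⟩
  have ho : orderOf z' = r := orderOf_eq_prime (Subtype.ext (by simpa [z'] using hzr))
    (fun h => hz1 (congrArg Subtype.val h))
  have hsub : (Finset.range r).image (fun i => z' ^ i) ⊆ Finset.univ.filter fun a => a ^ r = 1 := by
    intro a ha
    obtain ⟨i, -, rfl⟩ := Finset.mem_image.1 ha
    simp only [Finset.mem_filter, Finset.mem_univ, true_and]
    rw [← pow_mul, mul_comm, pow_mul, ← ho, pow_orderOf_eq_one, one_pow]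
  have hcard : ((Finset.range r).image (fun i => z' ^ i)).card = r := by
    rw [Finset.card_image_of_injOn ?_, Finset.card_range]
    intro i hi j hj h
    exact pow_injOn_Iio_orderOf (by simpa [ho] using hi) (by simpa [ho] using hj) h
  have heq := Finset.eq_of_subset_of_card_le hsub (by rw [hcard]; exact hle)
  have hm : (⟨c, hc⟩ : K.U) ∈ (Finset.range r).image (fun i => z' ^ i) := by
    rw [heq]; simp [Subtype.ext_iff, hcr]
  obtain ⟨i, -, hi⟩ := Finset.mem_image.1 hm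
  exact ⟨i, congrArg Subtype.val hi⟩

/-- Every element of prime order over `U` can be scaled, for a good prime. -/
theorem Bd.scal [Finite A] [Nontrivial V] {r : ℕ} (hr : r.Prime)
    (hgood : r ≠ 2 ∨ ∃ i ∈ K.U, i * i = K.ε) {a : A} (ha : a ∈ D.B) (har : a ^ r ∈ K.U) :
    Scal K r a := by
  classical
  haveI := Fact.mk hr
  have hcor : ∀ x ∈ D.B, ∀ y ∈ D.B, x ^ r ∈ K.U →
      ∃ z ∈ K.U, ⁅y, x⁆ ^ r.choose 2 * z ^ r = 1 := by
    intro x hx y hy hxr
    have hzr := D.comm_right_one_of_pow hy hx hxr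
    by_cases h2 : r = 2
    · subst h2
      obtain ⟨i, hi, hii⟩ := hgood.resolve_left (by simp)
      rcases K.sq_one (D.comm y hy x hx) (by rw [← pow_two]; exact hzr) with h | h
      · exact ⟨1, one_mem _, by simp [h]⟩
      · refine ⟨i⁻¹, inv_mem hi, ?_⟩
        rw [h, Nat.choose_self, pow_one, inv_pow, pow_two, hii, mul_inv_cancel]
    · refine ⟨1, one_mem _, ?_⟩
      obtain ⟨q, hq⟩ := hr.dvd_choose_self (k := 2) (by norm_num) (by have := hr.two_le; omega)
      rw [hq, pow_mul, hzr, one_pow, one_pow, one_mul]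
  let Br : Subgroup A :=
    { carrier := {b | b ∈ D.B ∧ b ^ r ∈ K.U}
      one_mem' := ⟨one_mem _, by rw [one_pow]; exact one_mem _⟩
      mul_mem' := fun {x y} hx hy => ⟨mul_mem hx.1 hy.1, by
        rw [D.mul_pow_eq hx.1 hy.1]
        exact mul_mem (mul_mem hx.2 hy.2) (pow_mem (D.comm _ hy.1 _ hx.1) _)⟩
      inv_mem' := fun {x} hx => ⟨inv_mem hx.1, by rw [inv_pow]; exact inv_mem hx.2⟩ }
  haveI hBrn : Br.Normal := ⟨fun b hb g => ⟨Subgroup.Normal.conj_mem inferInstance b hb.1 g, by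
    rw [conj_pow]; exact Subgroup.Normal.conj_mem inferInstance _ hb.2 g⟩⟩
  have hmulz : ∀ x ∈ D.B, ∀ z ∈ K.U, (x * z) ^ r = x ^ r * z ^ r := fun x hx z hz =>
    Commute.mul_pow (D.cent x hx z hz) r
  let K1 : Subgroup A :=
    { carrier := {b | b ∈ Br ∧ Scal K r b}
      one_mem' := ⟨one_mem _, 1, one_mem _, by simp⟩
      mul_mem' := fun {x y} hx hy => ⟨mul_mem hx.1 hy.1, by
        obtain ⟨z1, hz1, e1⟩ := hx.2
        obtain ⟨z2, hz2, e2⟩ := hy.2
        have hx' := mul_mem hx.1.1 (D.le hz1)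
        have hy' := mul_mem hy.1.1 (D.le hz2)
        have hxr' : (x * z1) ^ r ∈ K.U := by rw [e1]; exact one_mem _
        obtain ⟨z3, hz3, e3⟩ := hcor _ hx' _ hy' hxr'
        refine ⟨z1 * z2 * z3, mul_mem (mul_mem hz1 hz2) hz3, ?_⟩
        have e : x * y * (z1 * z2 * z3) = (x * z1) * (y * z2) * z3 := by
          simp only [mul_assoc]
          rw [← mul_assoc y z1, (D.cent y hy.1.1 z1 hz1).eq]
          simp only [mul_assoc]
        rw [e, hmulz _ (mul_mem hx' hy') _ hz3, D.mul_pow_eq hx' hy', e1, e2, one_mul, one_mul, e3]⟩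
      inv_mem' := fun {x} hx => ⟨inv_mem hx.1, by
        obtain ⟨z1, hz1, e1⟩ := hx.2
        refine ⟨z1⁻¹, inv_mem hz1, ?_⟩
        rw [← mul_inv_rev, ← (D.cent x hx.1.1 z1 hz1).eq, inv_pow, e1, inv_one]⟩ }
  haveI hK1n : K1.Normal := ⟨fun b hb g => ⟨hBrn.conj_mem b hb.1 g, by
    obtain ⟨z, hz, e⟩ := hb.2
    refine ⟨g * z * g⁻¹, Subgroup.Normal.conj_mem inferInstance z hz g, ?_⟩
    rw [show g * b * g⁻¹ * (g * z * g⁻¹) = g * (b * z) * g⁻¹ by group, conj_pow, e]; group⟩⟩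
  have hK1U : K.U ≤ K1 := fun z hz =>
    ⟨⟨D.le hz, pow_mem hz r⟩, z⁻¹, inv_mem hz, by rw [mul_inv_cancel, one_pow]⟩
  by_contra hns
  have haBr : a ∈ Br := ⟨ha, har⟩
  have haK1 : a ∉ K1 := fun h => hns h.2
  obtain ⟨i, hi⟩ := K.ω_gen _ har
  have hri : ¬ r ∣ i := by
    rintro ⟨q, rfl⟩
    refine hns ⟨(K.ω ^ q)⁻¹, inv_mem (pow_mem K.ω_mem q), ?_⟩
    rw [hmulz a ha _ (inv_mem (pow_mem K.ω_mem q)), inv_pow, ← pow_mul, mul_comm q r, hi,
      mul_inv_cancel]
  have hgen : ∀ b ∈ Br, ∃ k : ℕ, b * a ^ k ∈ K1 := by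
    intro b hb
    obtain ⟨j, hj⟩ := K.ω_gen _ hb.2
    obtain ⟨k, hk⟩ : ∃ k : ℕ, r ∣ j + i * k := by
      have hci : ((i : ZMod r)) ≠ 0 := by rwa [Ne, ZMod.natCast_eq_zero_iff]
      refine ⟨((-(j : ZMod r)) / (i : ZMod r)).val, ?_⟩
      rw [← ZMod.natCast_eq_zero_iff, Nat.cast_add, Nat.cast_mul, ZMod.natCast_zmod_val,
        mul_div_cancel₀ _ hci, add_neg_cancel]
    obtain ⟨q, hq⟩ := hk
    obtain ⟨z3, hz3, e3⟩ := hcor b hb.1 (a ^ k) (pow_mem ha k) hb.2
    refine ⟨k, mul_mem hb (pow_mem haBr k), z3 * (K.ω ^ q)⁻¹,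
      mul_mem hz3 (inv_mem (pow_mem K.ω_mem q)), ?_⟩
    have e4 : b ^ r * (a ^ k) ^ r = (K.ω ^ q) ^ r := by
      rw [← pow_mul a, mul_comm k r, pow_mul a, ← hj, ← hi, ← pow_mul, ← pow_mul, ← pow_add, hq,
        mul_comm r q]
    rw [← mul_assoc, hmulz _ (mul_mem (mul_mem hb.1 (pow_mem ha k)) (D.le hz3)) _
        (inv_mem (pow_mem K.ω_mem q)),
      hmulz _ (mul_mem hb.1 (pow_mem ha k)) _ hz3, D.mul_pow_eq hb.1 (pow_mem ha k), e4,
      mul_assoc (_ ^ r) _ (z3 ^ r), e3, mul_one, inv_pow, mul_inv_cancel]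
  -- the centraliser of `K1` is larger than `U`
  have hnd : ∀ x ∈ Br, (∀ y ∈ Br, Commute x y) → x ∈ K.U := by
    intro x hx h
    refine D.self x (fun z hz => D.cent x hx.1 z hz) fun b hb => ?_
    obtain ⟨n, hn, hbn⟩ := D.sqf b hb
    rw [← commutatorElement_eq_one_iff_commute]
    have h1 := D.comm_one_of_pow hx.1 hb hx.2
    have h2 := D.comm_right_one_of_pow hx.1 hb hbn
    by_cases hrn : r ∣ n
    · obtain ⟨m, rfl⟩ := hrn
      have hm : Nat.Coprime r m := Nat.coprime_of_squarefree_mul hn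
      have hbm : b ^ m ∈ Br := ⟨pow_mem hb m, by rw [← pow_mul, mul_comm]; exact hbn⟩
      have h3 : ⁅x, b⁆ ^ m = 1 := by
        rw [← commutatorElement_inv, inv_pow, ← D.comm_pow_left hb hx.1,
          commutatorElement_eq_one_iff_commute.2 (h _ hbm).symm, inv_one]
      have := pow_gcd_eq_one.2 ⟨h1, h3⟩
      rwa [hm.gcd_eq_one, pow_one] at this
    · have := pow_gcd_eq_one.2 ⟨h1, h2⟩
      rwa [(hr.coprime_iff_not_dvd.2 hrn).gcd_eq_one, pow_one] at this
  let Cn : Subgroup A → Subgroup A := fun H => Br ⊓ Subgroup.centralizer (H : Set A)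
  have hCU : ∀ H, H ≤ D.B → K.U ≤ Cn H := fun H hH z hz => ⟨(hK1U hz).1,
    Subgroup.mem_centralizer_iff.2 fun y hy => (D.cent y (hH hy) z hz).eq⟩
  have count : ∀ T : Finset A, (∀ t ∈ T, t ∈ Br) →
      (Cn (K.U ⊔ Subgroup.closure (T : Set A))).relIndex Br * Nat.card K.U ≤
        Nat.card (K.U ⊔ Subgroup.closure (T : Set A) : Subgroup A) := by
    intro T
    induction T using Finset.induction_on with
    | empty =>
      intro _
      have e : Cn (K.U ⊔ Subgroup.closure ((∅ : Finset A) : Set A)) = Br := by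
        simp only [Finset.coe_empty, Subgroup.closure_empty, sup_bot_eq, Cn, inf_eq_left]
        exact fun x hx => Subgroup.mem_centralizer_iff.2 fun y hy => (D.cent x hx.1 y hy).eq.symm
      rw [e, Subgroup.relIndex_self, one_mul]
      simp
    | insert t T htT ih =>
      intro hT
      have htB : t ∈ Br := hT t (Finset.mem_insert_self t T)
      have hTB : ∀ s ∈ T, s ∈ Br := fun s hs => hT s (Finset.mem_insert_of_mem hs)
      have ih' := ih hTB
      set H := K.U ⊔ Subgroup.closure (T : Set A) with hH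
      have hH' : K.U ⊔ Subgroup.closure ((insert t T : Finset A) : Set A) = H ⊔ Subgroup.zpowers t := by
        rw [Finset.coe_insert, Set.insert_eq, Subgroup.closure_union, ← Subgroup.zpowers_eq_closure, hH,
          sup_assoc, sup_comm (Subgroup.zpowers t)]
      rw [hH']
      by_cases htH : t ∈ H
      · rw [sup_eq_left.2 (Subgroup.zpowers_le.2 htH)]; exact ih'
      have hCn : Cn (H ⊔ Subgroup.zpowers t) =
          Cn H ⊓ Subgroup.centralizer ({t} : Set A) := by
        apply le_antisymm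
        · rintro x ⟨hx, hxc⟩
          exact ⟨⟨hx, Subgroup.centralizer_le (SetLike.coe_subset_coe.2 le_sup_left) hxc⟩,
            Subgroup.centralizer_le (Set.singleton_subset_iff.2
              (Subgroup.mem_sup_right (Subgroup.mem_zpowers t))) hxc⟩
        · rintro x ⟨⟨hx, hxc⟩, hxt⟩
          refine ⟨hx, ?_⟩
          have hle : H ⊔ Subgroup.zpowers t ≤ Subgroup.centralizer ({x} : Set A) := sup_le
            (fun y hy => Subgroup.mem_centralizer_singleton_iff.2
              (Subgroup.mem_centralizer_iff.1 hxc y hy))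
            (Subgroup.zpowers_le.2 (Subgroup.mem_centralizer_singleton_iff.2
              (Subgroup.mem_centralizer_singleton_iff.1 hxt).symm))
          exact Subgroup.mem_centralizer_iff.2 fun y hy => Subgroup.mem_centralizer_singleton_iff.1 (hle hy)
      have hidx : (Subgroup.centralizer ({t} : Set A)).relIndex Br ≤ r := by
        let ψ : Br →* A := (D.pair htB.1).comp (Subgroup.inclusion fun x hx => hx.1)
        have hker : (Subgroup.centralizer ({t} : Set A)).subgroupOf Br = ψ.ker := by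
          ext x
          simp only [Subgroup.mem_subgroupOf, Subgroup.mem_centralizer_singleton_iff, MonoidHom.mem_ker]
          exact (commutatorElement_eq_one_iff_mul_comm).symm
        rw [Subgroup.relIndex, hker, Subgroup.index_ker]
        by_cases hall : ∀ x : Br, ψ x = 1
        · have : ψ.range = ⊥ := by rw [eq_bot_iff]; rintro _ ⟨x, rfl⟩; exact hall x
          rw [this, Subgroup.card_bot]; exact hr.one_le
        push Not at hall
        obtain ⟨x, hx⟩ := hall
        have hxU : ψ x ∈ K.U := D.comm _ x.2.1 _ htB.1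
        have hxr : ψ x ^ r = 1 := D.comm_one_of_pow x.2.1 htB.1 x.2.2
        have hle : ψ.range ≤ Subgroup.zpowers (ψ x) := by
          rintro _ ⟨y, rfl⟩
          obtain ⟨k, hk⟩ := torsion_zpowers (K := K) hr hxU hxr hx (D.comm _ y.2.1 _ htB.1)
            (D.comm_one_of_pow y.2.1 htB.1 y.2.2)
          exact ⟨k, (zpow_natCast _ _).trans hk⟩
        refine (Subgroup.card_le_of_le hle).trans ?_
        rw [Nat.card_zpowers]
        exact Nat.le_of_dvd hr.pos (orderOf_dvd_of_pow_eq_one hxr)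
      have hmul : (Cn (H ⊔ Subgroup.zpowers t)).relIndex Br ≤ (Cn H).relIndex Br * r := by
        rw [hCn]
        exact Subgroup.relIndex_inf_le.trans (Nat.mul_le_mul_left _ hidx)
      have hcard : Nat.card H * r ≤ Nat.card (H ⊔ Subgroup.zpowers t : Subgroup A) := by
        rw [show Nat.card H * r = Nat.card (H × Fin r) by rw [Nat.card_prod, Nat.card_fin]]
        refine Nat.card_le_card_of_injective
          (fun q : H × Fin r => (⟨(q.1 : A) * t ^ (q.2 : ℕ), mul_mem (Subgroup.mem_sup_left q.1.2)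
            (pow_mem (Subgroup.mem_sup_right (Subgroup.mem_zpowers t)) _)⟩ :
              (H ⊔ Subgroup.zpowers t : Subgroup A))) ?_
        have htr : t ^ r ∈ H := Subgroup.mem_sup_left htB.2
        have hnot : ∀ n : ℕ, t ^ n ∈ H → r ∣ n := by
          intro n hn
          by_contra h
          obtain ⟨m, hm⟩ := Nat.exists_mul_mod_eq_one_of_coprime ((hr.coprime_iff_not_dvd.2 h).symm) hr.one_lt
          apply htH
          have e : t ^ (n * m) = (t ^ r) ^ (n * m / r) * t := by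
            rw [← pow_mul, ← pow_succ]
            congr 1
            have := Nat.div_add_mod (n * m) r
            omega
          have h' := pow_mem hn m
          rw [← pow_mul, e] at h'
          exact (mul_mem_cancel_left (pow_mem htr _)).1 h'
        rintro ⟨h1, i1⟩ ⟨h2, i2⟩ h
        have he : (h1 : A) * t ^ (i1 : ℕ) = (h2 : A) * t ^ (i2 : ℕ) := congrArg Subtype.val h
        suffices hi12 : i1 = i2 by
          subst hi12
          exact Prod.ext (Subtype.ext (mul_right_cancel he)) rfl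
        rcases le_total (i1 : ℕ) i2 with hle | hle
        · have hmem : t ^ ((i2 : ℕ) - i1) ∈ H := by
            have e : t ^ ((i2 : ℕ) - i1) = (h2 : A)⁻¹ * h1 := by
              rw [eq_inv_mul_iff_mul_eq, pow_sub _ hle, ← mul_assoc, ← he, mul_inv_cancel_right]
            rw [e]; exact mul_mem (inv_mem h2.2) h1.2
          have := hnot _ hmem
          apply Fin.ext
          by_contra hne
          have := Nat.le_of_dvd (by omega) this
          omega
        · have hmem : t ^ ((i1 : ℕ) - i2) ∈ H := by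
            have e : t ^ ((i1 : ℕ) - i2) = (h1 : A)⁻¹ * h2 := by
              rw [eq_inv_mul_iff_mul_eq, pow_sub _ hle, ← mul_assoc, he, mul_inv_cancel_right]
            rw [e]; exact mul_mem (inv_mem h1.2) h2.2
          have := hnot _ hmem
          apply Fin.ext
          by_contra hne
          have := Nat.le_of_dvd (by omega) this
          omega
      calc (Cn (H ⊔ Subgroup.zpowers t)).relIndex Br * Nat.card K.U
          ≤ (Cn H).relIndex Br * r * Nat.card K.U := Nat.mul_le_mul_right _ hmul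
        _ = (Cn H).relIndex Br * Nat.card K.U * r := by ring
        _ ≤ Nat.card H * r := Nat.mul_le_mul_right _ ih'
        _ ≤ _ := hcard
  have hK1Br : K1 ≤ Br := fun x hx => hx.1
  have hT : K.U ⊔ Subgroup.closure (((K1 : Set A).toFinite.toFinset : Finset A) : Set A) = K1 := by
    rw [Set.Finite.coe_toFinset, Subgroup.closure_eq, sup_eq_right.2 hK1U]
  have hcnt := count (Set.toFinite (K1 : Set A)).toFinset (fun t ht => hK1Br ((Set.Finite.mem_toFinset _).1 ht))
  rw [hT] at hcnt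
  haveI : (Cn K1).Normal := inferInstanceAs (Br ⊓ Subgroup.centralizer (K1 : Set A)).Normal
  have hmeet : Cn K1 ⊓ K1 = K.U := K.maxab _ inferInstance
    (fun x hx y hy => Subgroup.mem_centralizer_iff.1 hy.1.2 x hx.2)
    (le_inf (hCU K1 (fun x hx => hx.1.1)) hK1U)
  obtain ⟨l, hlC, hlU⟩ : ∃ l ∈ Cn K1, l ∉ K.U := by
    by_contra h
    push Not at h
    have e : Cn K1 = K.U := le_antisymm h (hCU K1 (fun x hx => hx.1.1))
    have hUBr : K.U ≤ Br := le_trans hK1U hK1Br
    have hm : K.U.relIndex Br * Nat.card K.U = Nat.card Br := by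
      rw [← Nat.card_congr (Subgroup.subgroupOfEquivOfLe hUBr).toEquiv]
      exact Subgroup.index_mul_card _
    rw [e, hm] at hcnt
    exact haK1 (Subgroup.eq_of_le_of_card_ge hK1Br hcnt ▸ haBr)
  have hlK : l ∉ K1 := fun h => hlU (hmeet ▸ (⟨hlC, h⟩ : l ∈ Cn K1 ⊓ K1))
  have hL : Cn K1 = K.U := by
    refine K.maxab _ inferInstance ?_ (hCU K1 (fun x hx => hx.1.1))
    have hle : Cn K1 ≤ Subgroup.zpowers l ⊔ K.U := by
      intro x hx
      obtain ⟨k, hk⟩ := hgen x hx.1
      obtain ⟨m, hm⟩ := hgen l hlC.1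
      have hrm : ¬ r ∣ m := by
        rintro ⟨q, rfl⟩
        apply hlK
        have : a ^ (r * q) ∈ K1 := hK1U (by rw [pow_mul]; exact pow_mem har q)
        exact (mul_mem_cancel_right this).1 hm
      obtain ⟨m', -, hm'⟩ := Nat.exists_mul_mod_eq_one_of_coprime ((hr.coprime_iff_not_dvd.2 hrm).symm) hr.one_lt
      obtain ⟨t, ht⟩ : ∃ t : ℕ, x * l ^ t ∈ K1 := by
        let π := QuotientGroup.mk' K1
        have hal : π a ^ m = (π l)⁻¹ := by
          refine eq_inv_of_mul_eq_one_right ?_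
          rw [← map_pow, ← map_mul]
          exact (QuotientGroup.eq_one_iff _).2 hm
        have har' : π a ^ r = 1 := by rw [← map_pow]; exact (QuotientGroup.eq_one_iff _).2 (hK1U har)
        have ea : π a = ((π l)⁻¹) ^ m' := by
          rw [← hal, ← pow_mul]
          conv_rhs => rw [← Nat.div_add_mod (m * m') r, hm', pow_add, pow_mul, har', one_pow, one_mul,
            pow_one]
        have hx0 : π x * π a ^ k = 1 := by rw [← map_pow, ← map_mul]; exact (QuotientGroup.eq_one_iff _).2 hk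
        obtain ⟨t, ht⟩ : ∃ t : ℕ, (π l) ^ t = π a ^ k := by
          have hmz : π a ^ k ∈ Subgroup.zpowers (π l) := by
            rw [ea]; exact pow_mem (pow_mem (inv_mem (Subgroup.mem_zpowers _)) _) _
          haveI : Finite (A ⧸ K1) := Finite.of_surjective π (QuotientGroup.mk'_surjective K1)
          exact (mem_powers_iff_mem_zpowers.2 hmz)
        refine ⟨t, (QuotientGroup.eq_one_iff _).1 ?_⟩
        show π (x * l ^ t) = 1
        rw [map_mul, map_pow, ht, hx0]
      have hxl : x * l ^ t ∈ K.U := hmeet ▸ (⟨mul_mem hx (pow_mem hlC t), ht⟩ : x * l ^ t ∈ Cn K1 ⊓ K1)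
      have : x = (x * l ^ t) * (l ^ t)⁻¹ := by group
      rw [this]
      exact mul_mem (Subgroup.mem_sup_right hxl)
        (inv_mem (pow_mem (Subgroup.mem_sup_left (Subgroup.mem_zpowers l)) t))
    have hc : Subgroup.zpowers l ⊔ K.U ≤ Subgroup.centralizer ((Subgroup.zpowers l ⊔ K.U : Subgroup A) : Set A) := by
      have key : ∀ S : Set A, l ∈ Subgroup.centralizer S → (∀ z ∈ K.U, z ∈ Subgroup.centralizer S) →
          Subgroup.zpowers l ⊔ K.U ≤ Subgroup.centralizer S := fun S h1 h2 =>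
        sup_le (Subgroup.zpowers_le.2 h1) h2
      have h0 : Subgroup.zpowers l ⊔ K.U ≤ Subgroup.centralizer ({l} : Set A) ⊓
          Subgroup.centralizer (K.U : Set A) := by
        refine le_inf (key _ (Subgroup.mem_centralizer_singleton_iff.2 rfl) fun z hz =>
          Subgroup.mem_centralizer_singleton_iff.2 (D.cent l hlC.1.1 z hz).eq.symm) (key _ ?_ ?_)
        · exact Subgroup.mem_centralizer_iff.2 fun z hz => (D.cent l hlC.1.1 z hz).eq.symm
        · exact fun z hz => Subgroup.mem_centralizer_iff.2 fun y hy => K.comm y hy z hz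
      refine key _ (Subgroup.mem_centralizer_iff.2 fun y hy => ?_)
        fun z hz => Subgroup.mem_centralizer_iff.2 fun y hy => ?_
      · exact Subgroup.mem_centralizer_singleton_iff.1 (h0 hy).1
      · exact (Subgroup.mem_centralizer_iff.1 (h0 hy).2 z hz).symm
    intro x hx y hy
    exact Subgroup.mem_centralizer_iff.1 (hc (hle hy)) x (hle hx)
  exact hlU (hL ▸ hlC)

end

end Cfsg.Agent.ThreeVec75
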