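import Mathlib
import Cfsg.Agent.Lib.ThreeVec75Colour

/-!
Inequivalent rigid triples and colourings for solvable groups, and imprimitive lifting.
-/

set_option autoImplicit false
set_option linter.style.haveILetI false

namespace Cfsg.Agent.ThreeVec75

universe u v w

open scoped commutatorElement

/-- Some triple of vectors is fixed only by elements acting trivially. -/
def Good (A : Type v) (V : Type u) [Group A] [AddCommGroup V] [DistribMulAction A V] : Prop :=
  ∃ t : Fin 3 → V, ∀ a : A, (∀ i, a • t i = t i) → ∀ x : V, a • x = x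

/-- Five pairwise inequivalent such triples. -/
def Five (A : Type v) (V : Type u) [Group A] [AddCommGroup V] [DistribMulAction A V] : Prop :=
  ∃ T : Fin 5 → Fin 3 → V, ∀ k l : Fin 5, ∀ a : A,
    (∀ i, a • T k i = T l i) → k = l ∧ ∀ x : V, a • x = x

section five

variable {A : Type v} {V : Type u} [Group A] [AddCommGroup V] [DistribMulAction A V]

theorem five_of_family {β : Type*} [Finite β] (F : β → Fin 3 → V) (hβ : 5 ≤ Nat.card β)
    (h : ∀ x y : β, ∀ a : A, (∀ i, a • F x i = F y i) → x = y ∧ ∀ v : V, a • v = v) : Five A V := by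
  obtain ⟨f⟩ : Nonempty (Fin 5 ↪ β) := by
    haveI := Fintype.ofFinite β
    refine Function.Embedding.nonempty_of_card_le ?_
    rw [Fintype.card_fin, ← Nat.card_eq_fintype_card]; exact hβ
  refine ⟨fun k => F (f k), fun k l a ha => ?_⟩
  obtain ⟨h1, h2⟩ := h _ _ a ha
  exact ⟨f.injective h1, h2⟩

theorem five_of_single [Finite V] [Nontrivial V] (a0 : V) (ha0 : a0 ≠ 0)
    (h : ∀ a : A, a • a0 = a0 → ∀ x : V, a • x = x) : Five A V := by
  refine five_of_family (fun o : Option (V × V) => Option.elim o ![0, a0, 0] (fun p => ![a0, p.1, p.2]))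
    ?_ ?_
  · rw [Finite.card_option, Nat.card_prod]
    have h2 : 2 ≤ Nat.card V := Finite.one_lt_card
    calc 5 = 2 * 2 + 1 := by norm_num
      _ ≤ Nat.card V * Nat.card V + 1 := Nat.add_le_add_right (Nat.mul_le_mul h2 h2) 1
  intro x y a ha
  rcases x with _ | ⟨x1, x2⟩ <;> rcases y with _ | ⟨y1, y2⟩
  · exact ⟨rfl, h a (by simpa using ha 1)⟩
  · exact absurd (show a0 = 0 by simpa using (ha 0).symm) ha0
  · exact absurd ((smul_eq_zero_iff_eq a).1 (show a • a0 = 0 by simpa using ha 0)) ha0
  · have ht := h a (by simpa using ha 0)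
    refine ⟨?_, ht⟩
    have e1 : x1 = y1 := by simpa [ht] using ha 1
    have e2 : x2 = y2 := by simpa [ht] using ha 2
    rw [e1, e2]

/-- The elementary matrix as a unit. -/
def elem {p : ℕ} [Fact p.Prime] (i j : Fin 3) (h : i ≠ j) (c : ZMod p) :
    (Matrix (Fin 3) (Fin 3) (ZMod p))ˣ where
  val := Matrix.transvection i j c
  inv := Matrix.transvection i j (-c)
  val_inv := by rw [Matrix.transvection_mul_transvection_same i j h, add_neg_cancel, Matrix.transvection_zero]
  inv_val := by rw [Matrix.transvection_mul_transvection_same i j h, neg_add_cancel, Matrix.transvection_zero]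

theorem gl_three_not_solvable {p : ℕ} [Fact p.Prime]
    (h : Group.IsSolvable ((Matrix (Fin 3) (Fin 3) (ZMod p))ˣ)) : False := by
  let S : Set ((Matrix (Fin 3) (Fin 3) (ZMod p))ˣ) := {s | ∃ i j, ∃ hij : i ≠ j, s = elem i j hij 1}
  have hS : ∀ s ∈ S, ∃ a ∈ S, ∃ b ∈ S, s = ⁅a, b⁆ := by
    rintro s ⟨i, j, hij, rfl⟩
    obtain ⟨k, hik, hjk⟩ : ∃ k, i ≠ k ∧ j ≠ k := by revert hij; revert i j; decide
    refine ⟨elem i k hik 1, ⟨i, k, hik, rfl⟩, elem k j hjk.symm 1, ⟨k, j, hjk.symm, rfl⟩, ?_⟩
    apply Units.ext
    ext a b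
    fin_cases i <;> fin_cases j <;> fin_cases k <;>
      first
      | exact absurd rfl hij
      | exact absurd rfl hik
      | exact absurd rfl hjk
      | (fin_cases a <;> fin_cases b <;>
          simp [elem, commutatorElement_def, Matrix.transvection, Matrix.mul_apply, Fin.sum_univ_three,
            Matrix.single, Matrix.one_apply])
  have := eq_one_of_comm S hS (elem 0 1 (by decide) 1) ⟨0, 1, by decide, rfl⟩
  have e := Matrix.ext_iff.2 (congrArg Units.val this) 0 1
  simp [elem, Matrix.transvection, Matrix.single, Matrix.one_apply] at e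

/-- Symmetric groups of degree at most 4 are solvable. -/
theorem isSolvable_perm_le_four {α : Type*} [Finite α] (h : Nat.card α ≤ 4) : Group.IsSolvable (Equiv.Perm α) := by
  classical
  cases nonempty_fintype α
  have h4 : Group.IsSolvable (Equiv.Perm (Fin 4)) := by
    have hα : Nat.card (Fin 4) = 4 := by simp
    haveI := alternatingGroup.normal_kleinFour hα
    haveI : Fact (Nat.Prime 2) := ⟨Nat.prime_two⟩
    haveI : Fact (Nat.Prime 3) := ⟨Nat.prime_three⟩
    have hV := alternatingGroup.kleinFour_card_of_card_eq_four hα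
    haveI : Group.IsNilpotent (alternatingGroup.kleinFour (Fin 4)) :=
      (IsPGroup.of_card (p := 2) (n := 2) (by rw [hV]; norm_num)).isNilpotent
    have hA : Nat.card (alternatingGroup (Fin 4)) = 12 := by
      rw [nat_card_alternatingGroup]; simp [Nat.factorial]
    have hq : Nat.card (alternatingGroup (Fin 4) ⧸ alternatingGroup.kleinFour (Fin 4)) = 3 := by
      have := Subgroup.card_eq_card_quotient_mul_card_subgroup (alternatingGroup.kleinFour (Fin 4))
      rw [hA, hV] at this
      omega
    haveI : Group.IsSolvable (alternatingGroup (Fin 4) ⧸ alternatingGroup.kleinFour (Fin 4)) := by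
      haveI := isCyclic_of_prime_card hq
      exact Group.isSolvable_of_comm IsCyclic.commGroup.mul_comm
    haveI : Group.IsSolvable (alternatingGroup (Fin 4)) :=
      (Group.isSolvable_iff_subgroup_quotient (alternatingGroup.kleinFour (Fin 4))).mpr ⟨inferInstance, inferInstance⟩
    haveI : Group.IsSolvable ℤˣ := Group.isSolvable_of_comm mul_comm
    exact Group.isSolvable_of_ker_le_range (alternatingGroup (Fin 4)).subtype (Equiv.Perm.sign (α := Fin 4))
      (by intro g hg; exact ⟨⟨g, Equiv.Perm.mem_alternatingGroup.mpr hg⟩, rfl⟩)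
  obtain ⟨f⟩ : Nonempty (α ↪ Fin 4) := Function.Embedding.nonempty_of_card_le (by simpa [Nat.card_eq_fintype_card] using h)
  exact Group.isSolvable_of_isSolvable_injective (f := Equiv.Perm.viaEmbeddingHom f) (Equiv.Perm.viaEmbeddingHom_injective f)

theorem solvable_of_index_le_four {G : Type*} [Group G] (S : Subgroup G) [Group.IsSolvable S]
    [Finite (G ⧸ S)] (h : Nat.card (G ⧸ S) ≤ 4) : Group.IsSolvable G := by
  let f := MulAction.toPermHom G (G ⧸ S)
  haveI := isSolvable_perm_le_four (α := G ⧸ S) h
  have hker : f.ker ≤ S := by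
    intro g hg
    have e : g • ((1 : G) : G ⧸ S) = ((1 : G) : G ⧸ S) :=
      Equiv.congr_fun (MonoidHom.mem_ker.1 hg) ((1 : G) : G ⧸ S)
    rw [MulAction.Quotient.smul_coe, smul_eq_mul, mul_one, QuotientGroup.eq, mul_one] at e
    simpa using S.inv_mem e
  exact Group.isSolvable_of_ker_le_range (Subgroup.subtype S) f (by rwa [Subgroup.range_subtype])

/-- A rigid triple gives five inequivalent ones. -/
theorem five_of_good {p : ℕ} [Fact p.Prime] [Module (ZMod p) V] [Finite V] [Nontrivial V]
    [Group.IsSolvable A] (hg : Good A V) : Five A V := by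
  classical
  by_cases hp : ∃ a b : V, ∀ g : A, g • a = a → g • b = b → ∀ x : V, g • x = x
  · obtain ⟨a, b, hab⟩ := hp
    by_cases ha : ∀ g : A, g • a = a → g • b = b
    · rcases eq_or_ne a 0 with h0 | h0
      · obtain ⟨c, hc⟩ := exists_ne (0 : V)
        have htriv : ∀ g : A, ∀ x : V, g • x = x := fun g =>
          hab g (by rw [h0, smul_zero]) (ha g (by rw [h0, smul_zero]))
        exact five_of_single c hc fun g _ => htriv g
      · exact five_of_single a h0 fun g hg => hab g hg (ha g hg)
    by_cases hb : ∀ g : A, g • b = b → g • a = a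
    · rcases eq_or_ne b 0 with h0 | h0
      · obtain ⟨c, hc⟩ := exists_ne (0 : V)
        have htriv : ∀ g : A, ∀ x : V, g • x = x := fun g =>
          hab g (hb g (by rw [h0, smul_zero])) (by rw [h0, smul_zero])
        exact five_of_single c hc fun g _ => htriv g
      · exact five_of_single b h0 fun g hg => hab g (hb g hg) hg
    have hb0 : b ≠ 0 := by
      rintro rfl
      exact ha fun g _ => smul_zero g
    have ha0 : a ≠ 0 := by
      rintro rfl
      exact hb fun g _ => smul_zero g
    have hV : 4 ≤ Nat.card V := by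
      by_contra hlt
      apply ha
      intro g hg
      have hprime : (Nat.card V).Prime := by
        have := Finite.one_lt_card (α := V)
        interval_cases h : Nat.card V <;> norm_num
      haveI := Fact.mk hprime
      have hz : AddSubgroup.zmultiples a = ⊤ := zmultiples_eq_top_of_prime_card rfl ha0
      have hbm : b ∈ AddSubgroup.zmultiples a := by rw [hz]; trivial
      obtain ⟨n, rfl⟩ := AddSubgroup.mem_zmultiples_iff.1 hbm
      rw [← DistribSMul.toAddMonoidHom_apply, map_zsmul, DistribSMul.toAddMonoidHom_apply, hg]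
    refine five_of_family (fun o : Option V => Option.elim o ![a, 0, b] (fun x => ![a, b, x])) ?_ ?_
    · rw [Finite.card_option]; omega
    intro x y g hg
    rcases x with _ | x <;> rcases y with _ | y
    · exact ⟨rfl, hab g (by simpa using hg 0) (by simpa using hg 2)⟩
    · exact absurd (show b = 0 by simpa using (hg 1).symm) hb0
    · exfalso
      have e : g • b = 0 := by simpa using hg 1
      exact hb0 ((smul_eq_zero_iff_eq g).1 e)
    · have ht := hab g (by simpa using hg 0) (by simpa using hg 1)
      refine ⟨?_, ht⟩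
      have e : x = y := by simpa [ht] using hg 2
      rw [e]
  obtain ⟨t, ht⟩ := hg
  push Not at hp
  have hlin : ∀ (g : A) (c : ZMod p) (x : V), g • (c • x) = c • (g • x) := fun g c x =>
    ZMod.map_smul (DistribSMul.toAddMonoidHom V g) c x
  have hfix : ∀ (g : A) (i : Fin 3) (c : Fin 3 → ZMod p), c i ≠ 0 → ∑ j, c j • t j = 0 →
      (∀ j, j ≠ i → g • t j = t j) → g • t i = t i := by
    intro g i c hci hsum hj
    have e : g • (∑ j, c j • t j) = 0 := by rw [hsum, smul_zero]
    rw [Finset.smul_sum] at e
    have e' : ∑ j, c j • (g • t j - t j) = 0 := by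
      simp only [smul_sub, Finset.sum_sub_distrib, hsum, sub_zero]
      simpa [hlin] using e
    rw [Finset.sum_eq_single i (fun j _ hji => by rw [hj j hji, sub_self, smul_zero]) (by simp)] at e'
    exact sub_eq_zero.1 ((smul_eq_zero.1 e').resolve_left hci)
  have hli : LinearIndependent (ZMod p) t := by
    rw [Fintype.linearIndependent_iff]
    intro c hsum i
    by_contra hci
    obtain ⟨j, k, hjk, hall⟩ : ∃ j k : Fin 3, j ≠ k ∧ ∀ l, l ≠ i → l = j ∨ l = k :=
      (by clear hci; revert i; decide)
    obtain ⟨g, h1, h2, x, hx⟩ := hp (t j) (t k)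
    have hothers : ∀ l, l ≠ i → g • t l = t l := fun l hl => by
      rcases hall l hl with rfl | rfl <;> assumption
    refine hx (ht g (fun l => ?_) x)
    by_cases hl : l = i
    · rw [hl]; exact hfix g i c hci hsum hothers
    · exact hothers l hl
  let comb : Matrix (Fin 3) (Fin 3) (ZMod p) → Fin 3 → V := fun M i => ∑ j, M i j • t j
  have comb_smul : ∀ (g : A) (M : Matrix (Fin 3) (Fin 3) (ZMod p)) i,
      g • comb M i = ∑ j, M i j • (g • t j) := fun g M i => by
    simp only [comb, Finset.smul_sum, hlin]
  have comb_comp : ∀ M N : Matrix (Fin 3) (Fin 3) (ZMod p), ∀ i,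
      ∑ j, M i j • comb N j = comb (M * N) i := by
    intro M N i
    simp only [comb, Finset.smul_sum, Matrix.mul_apply, Finset.sum_smul, smul_smul]
    rw [Finset.sum_comm]
  have comb_one : ∀ i, comb 1 i = t i := fun i => by simp [comb, Matrix.one_apply, ite_smul]
  have comb_inj : ∀ M N, comb M = comb N → M = N := by
    intro M N h
    ext i j
    have e : ∑ j, M i j • t j = ∑ j, N i j • t j := congrFun h i
    have := Fintype.linearIndependent_iff.1 hli (fun j => M i j - N i j)
      (by simp only [sub_smul, Finset.sum_sub_distrib, e, sub_self]) j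
    exact sub_eq_zero.1 this
  let G3 := (Matrix (Fin 3) (Fin 3) (ZMod p))ˣ
  have key : ∀ (M N : G3) (g h : A), (∀ i, g • t i = comb M.val i) → (∀ i, h • t i = comb N.val i) →
      ∀ i, (h * g) • t i = comb (M * N).val i := by
    intro M N g h hg hh i
    rw [mul_smul, hg, comb_smul, Units.val_mul, ← comb_comp]
    exact Finset.sum_congr rfl fun j _ => by rw [hh]
  let S : Subgroup G3 :=
    { carrier := {M | ∃ g : A, ∀ i, g • t i = comb M.val i}
      one_mem' := ⟨1, fun i => by rw [one_smul, Units.val_one, comb_one]⟩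
      mul_mem' := fun ⟨g, hg⟩ ⟨h, hh⟩ => ⟨h * g, key _ _ g h hg hh⟩
      inv_mem' := by
        rintro M ⟨g, hg⟩
        refine ⟨g⁻¹, fun i => ?_⟩
        rw [inv_smul_eq_iff, comb_smul]
        conv_rhs => enter [2, j]; rw [hg]
        rw [comb_comp, ← Units.val_mul, inv_mul_cancel, Units.val_one, comb_one] }
  choose rep hrep using fun M : S => M.2
  let P := (MulAction.toPermHom A V).range
  haveI : Group.IsSolvable P := Group.isSolvable_of_surjective (MulAction.toPermHom A V).rangeRestrict_surjective
  have same : ∀ g h : A, (∀ i, g • t i = h • t i) →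
      MulAction.toPermHom A V g = MulAction.toPermHom A V h := by
    intro g h e
    refine Equiv.ext fun x => ?_
    have := ht (h⁻¹ * g) (fun i => by rw [mul_smul, e, inv_smul_smul]) x
    rw [mul_smul, inv_smul_eq_iff] at this
    exact this
  let ψ : S →* P := MonoidHom.mk' (fun M => ((MulAction.toPermHom A V).rangeRestrict (rep M))⁻¹) (by
    intro M N
    rw [← mul_inv_rev, ← map_mul]
    congr 1
    apply Subtype.ext
    refine same _ _ fun i => ?_
    rw [key _ _ _ _ (hrep M) (hrep N), hrep (M * N)]
    rfl)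
  have ψinj : Function.Injective ψ := by
    intro M N h
    simp only [ψ, MonoidHom.mk'_apply, inv_inj] at h
    apply Subtype.ext
    apply Units.ext
    apply comb_inj
    funext i
    rw [← hrep M i, ← hrep N i]
    exact Equiv.congr_fun (congrArg Subtype.val h) (t i)
  haveI : Group.IsSolvable S := Group.isSolvable_of_isSolvable_injective ψinj
  have h5 : 5 ≤ Nat.card (G3 ⧸ S) := by
    by_contra hlt
    exact gl_three_not_solvable (solvable_of_index_le_four S (Nat.lt_succ_iff.1 (not_le.1 hlt)))
  refine five_of_family (fun q : G3 ⧸ S => comb q.out.val) h5 ?_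
  intro x y g hg
  have e : ∀ i, g • t i = comb (x.out⁻¹ * y.out).val i := by
    intro i
    have h1 : t i = ∑ j, (x.out⁻¹).val i j • comb x.out.val j := by
      rw [comb_comp, ← Units.val_mul, inv_mul_cancel, Units.val_one, comb_one]
    rw [h1, Finset.smul_sum]
    simp only [hlin, hg, comb_comp]
    rw [Units.val_mul]
  have hxy : x = y := by
    have hmem : x.out⁻¹ * y.out ∈ S := ⟨g, e⟩
    rw [← QuotientGroup.eq, QuotientGroup.out_eq', QuotientGroup.out_eq'] at hmem
    exact hmem
  refine ⟨hxy, ht g fun i => ?_⟩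
  rw [e i, hxy, inv_mul_cancel, Units.val_one, comb_one]

end five

end Cfsg.Agent.ThreeVec75
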