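import Mathlib
import Cfsg.Agent.Lib.ThreeVec75Core

/-!
Lagrangian frames inside the subgroup `B`.
-/

set_option autoImplicit false
set_option linter.style.haveILetI false

namespace Cfsg.Agent.ThreeVec75

universe u v

open scoped commutatorElement Pointwise

variable {A : Type v} {V : Type u} [Group A] [AddCommGroup V] [DistribMulAction A V]

/-- A splitting `S = M X Q` with `M`, `X` dual, an eigenvector of `M`, and `Q` scalar or quaternion. -/
structure Frame (K : Core A V) (S : Subgroup A) where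
  M : Subgroup A
  X : Subgroup A
  Q : Subgroup A
  M_le : M ≤ S
  X_le : X ≤ S
  Q_le : Q ≤ S
  U_M : K.U ≤ M
  U_Q : K.U ≤ Q
  cM : ∀ a ∈ M, ∀ b ∈ M, Commute a b
  cX : ∀ a ∈ X, ∀ b ∈ X, Commute a b
  cMQ : ∀ a ∈ M, ∀ b ∈ Q, Commute a b
  cXQ : ∀ a ∈ X, ∀ b ∈ Q, Commute a b
  gen : S ≤ M ⊔ X ⊔ Q
  hMX : ∀ m ∈ M, (∀ x ∈ X, Commute m x) → m ∈ K.U
  hXM : ∀ x ∈ X, (∀ m ∈ M, Commute x m) → x = 1
  w : V
  w_ne : w ≠ 0
  eig : ∀ m ∈ M, ∃ z ∈ K.U, m • w = z • w
  hQ : Q = K.U ∨ ∃ i ∈ Q, ∃ j ∈ Q, i * i = K.ε ∧ j * j = K.ε ∧ ¬ Commute i j ∧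
    (∀ z ∈ K.U, z * z ≠ K.ε) ∧ (∀ q ∈ Q, q ∉ K.U → ∃ z ∈ K.U, (q * z) * (q * z) = K.ε) ∧
    ∀ g : A, (∀ z ∈ K.U, Commute g z) → Commute g i → Commute g j → ∀ q ∈ Q, Commute g q

variable {K : Core A V} (D : Bd K)

theorem mem_sup_zpowers {H : Subgroup A} {x y : A} (hx : ∀ h ∈ H, Commute h x)
    (hy : y ∈ H ⊔ Subgroup.zpowers x) : ∃ h ∈ H, ∃ k : ℤ, y = h * x ^ k := by
  let T : Subgroup A :=
    { carrier := {y | ∃ h ∈ H, ∃ k : ℤ, y = h * x ^ k}
      one_mem' := ⟨1, one_mem _, 0, by simp⟩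
      mul_mem' := by
        rintro _ _ ⟨h1, hh1, k1, rfl⟩ ⟨h2, hh2, k2, rfl⟩
        refine ⟨h1 * h2, mul_mem hh1 hh2, k1 + k2, ?_⟩
        rw [zpow_add, mul_assoc h1, ← mul_assoc (x ^ k1), ← ((hx h2 hh2).zpow_right k1).eq]
        simp only [mul_assoc]
      inv_mem' := by
        rintro _ ⟨h1, hh1, k1, rfl⟩
        refine ⟨h1⁻¹, inv_mem hh1, -k1, ?_⟩
        rw [mul_inv_rev, ← zpow_neg]
        exact (((hx h1 hh1).zpow_right _).inv_left).eq.symm }
  have : H ⊔ Subgroup.zpowers x ≤ T := sup_le (fun h hh => ⟨h, hh, 0, by simp⟩)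
    (Subgroup.zpowers_le.2 ⟨1, one_mem _, 1, by simp⟩)
  exact this hy

theorem Bd.pair_zpow {a c : A} (ha : a ∈ D.B) (hc : c ∈ D.B) (n : ℤ) : ⁅a ^ n, c⁆ = ⁅a, c⁆ ^ n :=
  map_zpow (D.pair hc) ⟨a, ha⟩ n

theorem Bd.exists_commute [Finite A] [Nontrivial V] {r : ℕ} (hr : r.Prime) {x y : A} (hx : x ∈ D.B)
    (hy : y ∈ D.B) (hxr : x ^ r ∈ K.U) (hne : ⁅x, y⁆ ≠ 1) {s : A} (hs : s ∈ D.B) :
    ∃ b : ℕ, ⁅x, s * y ^ b⁆ = 1 := by
  have hz := D.comm x hx y hy
  have hzr := D.comm_one_of_pow hx hy hxr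
  obtain ⟨k, hk⟩ := torsion_zpowers (K := K) hr hz hzr hne (inv_mem (D.comm x hx s hs))
    (by rw [inv_pow, D.comm_one_of_pow hx hs hxr, inv_one])
  refine ⟨k, ?_⟩
  rw [← commutatorElement_inv, inv_eq_one, D.comm_mul_left hs (pow_mem hy k) hx,
    D.comm_pow_left hy hx, ← commutatorElement_inv x s, ← commutatorElement_inv x y, inv_pow, hk,
    inv_inv, inv_mul_cancel]

variable {p : ℕ}

/-- Frames exist. -/
theorem exists_frame [Finite A] [FaithfulSMul A V] [Finite V] [Nontrivial V] [Fact p.Prime]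
    (hp : ∀ v : V, p • v = 0) :
    ∀ n, ∀ S : Subgroup A, Nat.card S ≤ n → S ≤ D.B → K.U ≤ S →
      (∀ s ∈ S, (∀ t ∈ S, Commute s t) → s ∈ K.U) → Nonempty (Frame K S) := by
  intro n
  induction n with
  | zero => intro S h _ _ _; have := Nat.card_pos (α := S); omega
  | succ n ih =>
    intro S hcard hSB hUS hnd
    classical
    have prime_of : ∀ s ∈ S, ∀ r : ℕ, r.Prime → s ∉ K.U → s ^ r ∈ K.U → ∀ t ∈ S, ¬ Commute s t →
        ∃ y ∈ S, y ^ r ∈ K.U ∧ ¬ Commute s y := by
      intro s hs r hr hsU hsr t ht hne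
      obtain ⟨m, hm, htm⟩ := D.sqf t (hSB ht)
      rw [← commutatorElement_eq_one_iff_commute] at hne
      have h1 := D.comm_one_of_pow (hSB hs) (hSB ht) hsr
      have h2 := D.comm_right_one_of_pow (hSB hs) (hSB ht) htm
      have hrm : r ∣ m := by
        by_contra hrm
        have := pow_gcd_eq_one.2 ⟨h1, h2⟩
        rw [(hr.coprime_iff_not_dvd.2 hrm).gcd_eq_one, pow_one] at this
        exact hne this
      obtain ⟨q, rfl⟩ := hrm
      have hq : Nat.Coprime r q := Nat.coprime_of_squarefree_mul hm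
      refine ⟨t ^ q, pow_mem ht q, by rw [← pow_mul, mul_comm]; exact htm, ?_⟩
      rw [← commutatorElement_eq_one_iff_commute]
      intro h
      have h3 : ⁅s, t⁆ ^ q = 1 := by
        rw [← commutatorElement_inv, inv_pow, ← D.comm_pow_left (hSB ht) (hSB hs),
          ← commutatorElement_inv, h, inv_one, inv_one]
      have := pow_gcd_eq_one.2 ⟨h1, h3⟩
      rw [hq.gcd_eq_one, pow_one] at this
      exact hne this
    by_cases hsplit : ∃ r : ℕ, r.Prime ∧ ∃ x ∈ S, x ∉ K.U ∧ x ^ r ∈ K.U ∧ Scal K r x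
    · obtain ⟨r, hr, x₀, hx₀, hx₀U, hx₀r, z₀, hz₀, hz₀r⟩ := hsplit
      haveI := Fact.mk hr
      obtain ⟨x, hx, hxU, hxr⟩ : ∃ x ∈ S, x ∉ K.U ∧ x ^ r = 1 :=
        ⟨x₀ * z₀, mul_mem hx₀ (hUS hz₀), fun h => hx₀U ((mul_mem_cancel_right hz₀).1 h), hz₀r⟩
      have hxrU : x ^ r ∈ K.U := by rw [hxr]; exact one_mem _
      obtain ⟨t, ht, hxt⟩ : ∃ t ∈ S, ¬ Commute x t := by
        by_contra h; push Not at h; exact hxU (hnd x hx h)
      obtain ⟨y₀, hy₀, hy₀r, hxy₀⟩ := prime_of x hx r hr hxU hxrU t ht hxt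
      have hxy₀' : ⁅x, y₀⁆ ≠ 1 := fun h => hxy₀ (commutatorElement_eq_one_iff_commute.1 h)
      have hzr₀ := D.comm_one_of_pow (hSB hx) (hSB hy₀) hxrU
      -- scale the partner
      obtain ⟨y, hy, hyr, hxy⟩ : ∃ y ∈ S, y ^ r = 1 ∧ ⁅x, y⁆ ≠ 1 := by
        by_cases hg : r ≠ 2 ∨ ∃ i ∈ K.U, i * i = K.ε
        · obtain ⟨z, hz, hzr⟩ := D.scal hr hg (hSB hy₀) hy₀r
          refine ⟨y₀ * z, mul_mem hy₀ (hUS hz), hzr, fun h => ?_⟩
          have hc := commutatorElement_eq_one_iff_commute.1 h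
          have hxz : Commute x z := D.cent x (hSB hx) z hz
          exact hxy₀ (by simpa using hc.mul_right hxz.inv_right)
        · push Not at hg
          obtain ⟨hr2, hns⟩ := hg
          subst hr2
          -- `z₁` generates, and every scalar is a square or `ε` times a square
          obtain ⟨k, hk⟩ := K.ω_gen _ hy₀r
          obtain ⟨e, he⟩ := K.ω_gen _ K.ε_mem
          have heodd : e % 2 = 1 := by
            by_contra h
            refine hns _ (pow_mem K.ω_mem (e / 2)) ?_
            rw [← pow_add, show e / 2 + e / 2 = e by omega, he]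
          rcases Nat.mod_two_eq_zero_or_one k with hk2 | hk2
          · refine ⟨y₀ * (K.ω ^ (k / 2))⁻¹, mul_mem hy₀ (hUS (inv_mem (pow_mem K.ω_mem _))), ?_, ?_⟩
            · rw [(D.cent y₀ (hSB hy₀) _ (inv_mem (pow_mem K.ω_mem _))).mul_pow, inv_pow, ← pow_mul,
                show k / 2 * 2 = k by omega, hk, mul_inv_cancel]
            · intro h
              exact hxy₀ (by
                simpa using (commutatorElement_eq_one_iff_commute.1 h).mul_right
                  (D.cent x (hSB hx) _ (pow_mem K.ω_mem (k / 2))))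
          · -- `y₀ ^ 2` is `ε` times a square; replace `y₀` by `x y₀`
            obtain ⟨z, hz, hzz⟩ : ∃ z ∈ K.U, y₀ ^ 2 * z ^ 2 = K.ε := by
              obtain ⟨j, hj⟩ : ∃ j, k + 2 * j = e + 2 * k := ⟨(k + e) / 2, by omega⟩
              refine ⟨K.ω ^ j * (K.ω ^ k)⁻¹, mul_mem (pow_mem K.ω_mem _) (inv_mem (pow_mem K.ω_mem _)), ?_⟩
              have hc : Commute (K.ω ^ j) (K.ω ^ k)⁻¹ := ((Commute.refl K.ω).pow_pow j k).inv_right
              rw [hc.mul_pow, ← hk, ← pow_mul, inv_pow, ← pow_mul, ← mul_assoc, ← pow_add,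
                show k + j * 2 = e + k * 2 by omega, pow_add, mul_inv_cancel_right, he]
            refine ⟨x * (y₀ * z), mul_mem hx (mul_mem hy₀ (hUS hz)), ?_, ?_⟩
            · have hyz := mul_mem (hSB hy₀) (D.le hz)
              have hsq : (y₀ * z) ^ 2 = K.ε := by rw [(D.cent y₀ (hSB hy₀) z hz).mul_pow, hzz]
              rw [D.mul_pow_eq (hSB hx) hyz, hxr, one_mul, hsq, Nat.choose_self, pow_one]
              rcases K.sq_one (D.comm _ hyz x (hSB hx))
                (by rw [← pow_two]; exact D.comm_one_of_pow hyz (hSB hx) (by rw [hsq]; exact K.ε_mem)) with h | h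
              · exfalso
                have hc := (commutatorElement_eq_one_iff_commute.1 h).symm
                exact hxy₀ (by simpa using hc.mul_right (D.cent x (hSB hx) z hz).inv_right)
              · rw [h, K.ε_sq]
            · intro h
              have hc := commutatorElement_eq_one_iff_commute.1 h
              have hc' : Commute x (y₀ * z) := by
                have := (Commute.refl x).inv_right.mul_right hc
                rwa [inv_mul_cancel_left] at this
              exact hxy₀ (by simpa using hc'.mul_right (D.cent x (hSB hx) z hz).inv_right)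
      have hyrU : y ^ r ∈ K.U := by rw [hyr]; exact one_mem _
      have hyx : ⁅y, x⁆ ≠ 1 := fun h => hxy (by rw [← commutatorElement_inv, h, inv_one])
      let S' : Subgroup A := S ⊓ Subgroup.centralizer ({x} : Set A) ⊓ Subgroup.centralizer ({y} : Set A)
      have hS'x : ∀ s ∈ S', Commute s x := fun s hs => Subgroup.mem_centralizer_singleton_iff.1 hs.1.2
      have hS'y : ∀ s ∈ S', Commute s y := fun s hs => Subgroup.mem_centralizer_singleton_iff.1 hs.2
      have hS'S : S' ≤ S := fun s hs => hs.1.1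
      have hdec : ∀ s ∈ S, ∃ s' ∈ S', ∃ a b : ℕ, s' = s * y ^ b * x ^ a := by
        intro s hs
        obtain ⟨b, hb⟩ := D.exists_commute hr (hSB hx) (hSB hy) hxrU hxy (hSB hs)
        obtain ⟨a, ha⟩ := D.exists_commute hr (hSB hy) (hSB hx) hyrU hyx
          (mul_mem (hSB hs) (pow_mem (hSB hy) b))
        refine ⟨_, ⟨⟨mul_mem (mul_mem hs (pow_mem hy b)) (pow_mem hx a), ?_⟩, ?_⟩, a, b, rfl⟩
        · exact Subgroup.mem_centralizer_singleton_iff.2
            ((commutatorElement_eq_one_iff_commute.1 hb).symm.mul_left (Commute.pow_self x a)).eq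
        · exact Subgroup.mem_centralizer_singleton_iff.2
            (commutatorElement_eq_one_iff_commute.1 ha).symm.eq
      have hUS' : K.U ≤ S' := fun z hz => ⟨⟨hUS hz,
        Subgroup.mem_centralizer_singleton_iff.2 (D.cent x (hSB hx) z hz).eq.symm⟩,
        Subgroup.mem_centralizer_singleton_iff.2 (D.cent y (hSB hy) z hz).eq.symm⟩
      have hnd' : ∀ s ∈ S', (∀ t ∈ S', Commute s t) → s ∈ K.U := by
        intro s hs h
        refine hnd s (hS'S hs) fun t ht => ?_
        obtain ⟨t', ht', a, b, rfl⟩ := hdec t ht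
        have e : t = t * y ^ b * x ^ a * (x ^ a)⁻¹ * (y ^ b)⁻¹ := by group
        rw [e]
        exact ((h _ ht').mul_right ((hS'x s hs).pow_right a).inv_right).mul_right
          ((hS'y s hs).pow_right b).inv_right
      have hcard' : Nat.card S' ≤ n := by
        have hxS' : x ∉ S' := fun h => hxy (commutatorElement_eq_one_iff_commute.2 (hS'y x h))
        by_contra hlt
        exact hxS' ((Subgroup.eq_of_le_of_card_ge hS'S (by omega)).symm ▸ hx)
      obtain ⟨F⟩ := ih S' hcard' (hS'S.trans hSB) hUS' hnd'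
      -- eigenvector of `x`
      have hzU := D.comm x (hSB hx) y (hSB hy)
      have hzr := D.comm_one_of_pow (hSB hx) (hSB hy) hxrU
      have hζo : orderOf ⁅x, y⁆ = r := orderOf_eq_prime hzr hxy
      set ζ := ⁅x, y⁆ with hζ
      have hxζ : Commute x ζ := D.cent x (hSB hx) ζ hzU
      have hrp : ∀ v : V, r • v = 0 → v = 0 := by
        intro v hv
        by_cases hrp : r = p
        · exfalso
          subst hrp
          letI : MulAction (Subgroup.zpowers ζ) V := inferInstance
          have hP : IsPGroup r (Subgroup.zpowers ζ) :=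
            IsPGroup.of_card (n := 1) (by rw [Nat.card_zpowers, hζo, pow_one])
          have hdvd : r ∣ Nat.card V := by
            obtain ⟨v0, hv0⟩ := exists_ne (0 : V)
            rw [← addOrderOf_eq_prime (hp v0) hv0]
            exact addOrderOf_dvd_natCard v0
          obtain ⟨v1, hv1, hne⟩ := hP.exists_fixed_point_of_prime_dvd_card_of_fixed_point V hdvd
            (a := 0) (fun g => smul_zero g)
          exact hxy (K.fix_eq_one hzU (Ne.symm hne) (hv1 ⟨ζ, Subgroup.mem_zpowers ζ⟩))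
        · have := Nat.gcd_eq_gcd_ab r p
          rw [(Nat.coprime_primes hr Fact.out).2 hrp |>.gcd_eq_one] at this
          have e : ((1 : ℕ) : ℤ) • v = 0 := by
            rw [this, add_smul, mul_comm (r : ℤ), mul_comm (p : ℤ), mul_smul, mul_smul,
              natCast_zsmul, natCast_zsmul, hv, hp v, smul_zero, smul_zero, add_zero]
          simpa using e
      obtain ⟨i, hw⟩ : ∃ i : ℕ, (∑ k ∈ Finset.range r, (ζ ^ (i * k) * x ^ k) • F.w) ≠ 0 := by
        by_contra h
        push Not at h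
        apply F.w_ne
        apply hrp
        have h0 : ∑ i ∈ Finset.range r, ∑ k ∈ Finset.range r, (ζ ^ (i * k) * x ^ k) • F.w = 0 :=
          Finset.sum_eq_zero fun i _ => h i
        rw [Finset.sum_comm, Finset.sum_eq_single_of_mem 0 (Finset.mem_range.2 hr.pos)] at h0
        · simpa using h0
        intro k hk hk0
        have hζk : ζ ^ k ≠ 1 := fun h1 => by
          have hdvd := orderOf_dvd_of_pow_eq_one h1
          rw [hζo] at hdvd
          have := Nat.le_of_dvd (Nat.pos_of_ne_zero hk0) hdvd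
          have := Finset.mem_range.1 hk
          omega
        have hkr : (ζ ^ k) ^ r = 1 := by rw [← pow_mul, mul_comm, pow_mul, hzr, one_pow]
        by_contra hne
        refine hζk (K.fix_eq_one (pow_mem hzU k) hne ?_)
        rw [Finset.smul_sum]
        have e : ∀ i : ℕ, ζ ^ k • (ζ ^ (i * k) * x ^ k) • F.w = (ζ ^ ((i + 1) * k) * x ^ k) • F.w := fun i => by
          rw [← mul_smul, ← mul_assoc, ← pow_add, Nat.succ_mul, add_comm k]
        simp only [e]
        refine add_right_cancel (b := (ζ ^ (0 * k) * x ^ k) • F.w) ?_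
        rw [← Finset.sum_range_succ' (fun i => (ζ ^ (i * k) * x ^ k) • F.w) r, Finset.sum_range_succ]
        congr 1
        rw [pow_mul, hzr, one_pow, zero_mul, pow_zero]
      set w := ∑ k ∈ Finset.range r, (ζ ^ (i * k) * x ^ k) • F.w with hwdef
      have hxw : x • w = (ζ ^ i)⁻¹ • w := by
        rw [eq_inv_smul_iff, hwdef, Finset.smul_sum, Finset.smul_sum]
        have e : ∀ k : ℕ, ζ ^ i • x • (ζ ^ (i * k) * x ^ k) • F.w = (ζ ^ (i * (k + 1)) * x ^ (k + 1)) • F.w :=
          fun k => by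
            rw [← mul_smul, ← mul_smul]
            congr 1
            rw [Nat.mul_succ, pow_add, pow_succ', ← mul_assoc, ← mul_assoc,
              mul_assoc (ζ ^ i) x, (hxζ.pow_right (i * k)).eq, ← mul_assoc, ← pow_add,
              add_comm i, pow_add]
        simp only [e]
        refine add_right_cancel (b := (ζ ^ (i * 0) * x ^ 0) • F.w) ?_
        rw [← Finset.sum_range_succ' (fun k => (ζ ^ (i * k) * x ^ k) • F.w) r, Finset.sum_range_succ]
        congr 1
        rw [mul_comm i r, pow_mul, hzr, one_pow, hxr, mul_zero, pow_zero, pow_zero]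
      have hxM : ∀ m ∈ F.M, Commute m x := fun m hm => hS'x m (F.M_le hm)
      have hyX : ∀ a ∈ F.X, Commute a y := fun a ha => hS'y a (F.X_le ha)
      refine ⟨⟨F.M ⊔ Subgroup.zpowers x, F.X ⊔ Subgroup.zpowers y, F.Q,
        sup_le (F.M_le.trans hS'S) (Subgroup.zpowers_le.2 hx),
        sup_le (F.X_le.trans hS'S) (Subgroup.zpowers_le.2 hy), F.Q_le.trans hS'S,
        le_sup_of_le_left F.U_M, F.U_Q, ?_, ?_, ?_, ?_, ?_, ?_, ?_, w, hw, ?_, F.hQ⟩⟩
      · intro a ha b hb
        obtain ⟨a1, ha1, k1, rfl⟩ := mem_sup_zpowers hxM ha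
        obtain ⟨b1, hb1, k2, rfl⟩ := mem_sup_zpowers hxM hb
        exact ((F.cM a1 ha1 b1 hb1).mul_right ((hxM a1 ha1).zpow_right k2)).mul_left
          (((hxM b1 hb1).zpow_right k1).symm.mul_right ((Commute.refl x).zpow_zpow k1 k2))
      · intro a ha b hb
        obtain ⟨a1, ha1, k1, rfl⟩ := mem_sup_zpowers hyX ha
        obtain ⟨b1, hb1, k2, rfl⟩ := mem_sup_zpowers hyX hb
        exact ((F.cX a1 ha1 b1 hb1).mul_right ((hyX a1 ha1).zpow_right k2)).mul_left
          (((hyX b1 hb1).zpow_right k1).symm.mul_right ((Commute.refl y).zpow_zpow k1 k2))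
      · intro a ha b hb
        obtain ⟨a1, ha1, k1, rfl⟩ := mem_sup_zpowers hxM ha
        exact (F.cMQ a1 ha1 b hb).mul_left ((hS'x b (F.Q_le hb)).zpow_right k1).symm
      · intro a ha b hb
        obtain ⟨a1, ha1, k1, rfl⟩ := mem_sup_zpowers hyX ha
        exact (F.cXQ a1 ha1 b hb).mul_left ((hS'y b (F.Q_le hb)).zpow_right k1).symm
      · intro s hs
        obtain ⟨s', hs', a, b, rfl⟩ := hdec s hs
        have hle : S' ≤ (F.M ⊔ Subgroup.zpowers x) ⊔ (F.X ⊔ Subgroup.zpowers y) ⊔ F.Q :=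
          F.gen.trans (sup_le_sup (sup_le_sup le_sup_left le_sup_left) le_rfl)
        have e : s = s * y ^ b * x ^ a * (x ^ a)⁻¹ * (y ^ b)⁻¹ := by group
        rw [e]
        refine mul_mem (mul_mem (hle hs') (inv_mem (pow_mem ?_ a))) (inv_mem (pow_mem ?_ b))
        · exact Subgroup.mem_sup_left (Subgroup.mem_sup_left
            (Subgroup.mem_sup_right (Subgroup.mem_zpowers x)))
        · exact Subgroup.mem_sup_left (Subgroup.mem_sup_right
            (Subgroup.mem_sup_right (Subgroup.mem_zpowers y)))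
      · intro m hm hc
        obtain ⟨m1, hm1, k, rfl⟩ := mem_sup_zpowers hxM hm
        have hc1 : Commute (x ^ k) y := by
          have := ((hS'y m1 (F.M_le hm1)).inv_left).mul_left
            (hc y (Subgroup.mem_sup_right (Subgroup.mem_zpowers y)))
          rwa [inv_mul_cancel_left] at this
        have hζk : ζ ^ k = 1 := by
          rw [hζ, ← D.pair_zpow (hSB hx) (hSB hy)]
          exact commutatorElement_eq_one_iff_commute.2 hc1
        have hk : (r : ℤ) ∣ k := by rw [← hζo]; exact orderOf_dvd_iff_zpow_eq_one.2 hζk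
        have hxk : x ^ k = 1 := by
          obtain ⟨q, rfl⟩ := hk
          rw [zpow_mul, zpow_natCast, hxr, one_zpow]
        rw [hxk, mul_one] at hc ⊢
        exact F.hMX m1 hm1 fun a ha => hc a (Subgroup.mem_sup_left ha)
      · intro a ha hc
        obtain ⟨a1, ha1, k, rfl⟩ := mem_sup_zpowers hyX ha
        have hc1 : Commute (y ^ k) x := by
          have := ((hS'x a1 (F.X_le ha1)).inv_left).mul_left
            (hc x (Subgroup.mem_sup_right (Subgroup.mem_zpowers x)))
          rwa [inv_mul_cancel_left] at this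
        have hyo : orderOf ⁅y, x⁆ = r :=
          orderOf_eq_prime (D.comm_one_of_pow (hSB hy) (hSB hx) hyrU) hyx
        have hζk : ⁅y, x⁆ ^ k = 1 := by
          rw [← D.pair_zpow (hSB hy) (hSB hx)]
          exact commutatorElement_eq_one_iff_commute.2 hc1
        have hk : (r : ℤ) ∣ k := by rw [← hyo]; exact orderOf_dvd_iff_zpow_eq_one.2 hζk
        have hyk : y ^ k = 1 := by
          obtain ⟨q, rfl⟩ := hk
          rw [zpow_mul, zpow_natCast, hyr, one_zpow]
        rw [hyk, mul_one] at hc ⊢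
        exact F.hXM a1 ha1 fun m hm => hc m (Subgroup.mem_sup_left hm)
      · intro m hm
        let T : Subgroup A :=
          { carrier := {m | (∃ z ∈ K.U, m • w = z • w) ∧ ∀ z ∈ K.U, Commute m z}
            one_mem' := ⟨⟨1, one_mem _, rfl⟩, fun z _ => Commute.one_left z⟩
            mul_mem' := fun {a b} ha hb => ⟨by
              obtain ⟨z1, hz1, e1⟩ := ha.1
              obtain ⟨z2, hz2, e2⟩ := hb.1
              exact ⟨z2 * z1, mul_mem hz2 hz1, by
                rw [mul_smul, e2, ← mul_smul, (ha.2 z2 hz2).eq, mul_smul, e1, ← mul_smul]⟩,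
              fun z hz => (ha.2 z hz).mul_left (hb.2 z hz)⟩
            inv_mem' := fun {a} ha => ⟨by
              obtain ⟨z1, hz1, e1⟩ := ha.1
              refine ⟨z1⁻¹, inv_mem hz1, ?_⟩
              rw [inv_smul_eq_iff, ← mul_smul, (ha.2 _ (inv_mem hz1)).eq, mul_smul, e1, inv_smul_smul],
              fun z hz => (ha.2 z hz).inv_left⟩ }
        have hle : F.M ⊔ Subgroup.zpowers x ≤ T := by
          refine sup_le (fun m hm => ⟨?_, fun z hz => D.cent m (hSB (hS'S (F.M_le hm))) z hz⟩)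
            (Subgroup.zpowers_le.2 ⟨⟨_, inv_mem (pow_mem hzU i), hxw⟩, fun z hz => D.cent x (hSB hx) z hz⟩)
          obtain ⟨z, hz, e⟩ := F.eig m hm
          refine ⟨z, hz, ?_⟩
          rw [hwdef, Finset.smul_sum, Finset.smul_sum]
          refine Finset.sum_congr rfl fun k _ => ?_
          have c1 : Commute m (ζ ^ (i * k) * x ^ k) :=
            (D.cent m (hSB (hS'S (F.M_le hm))) _ (pow_mem hzU _)).mul_right ((hxM m hm).pow_right k)
          have c2 : Commute z (ζ ^ (i * k) * x ^ k) :=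
            (D.cent _ (mul_mem (D.le (pow_mem hzU _)) (pow_mem (hSB hx) k)) z hz).symm
          rw [← mul_smul, c1.eq, mul_smul, e, ← mul_smul, ← c2.eq, mul_smul]
        exact (hle hm).1
    push Not at hsplit
    -- no split element: scalars or a quaternion residue
    obtain ⟨w, hw⟩ := exists_ne (0 : V)
    by_cases hSU : S ≤ K.U
    · refine ⟨⟨K.U, ⊥, K.U, hUS, bot_le, hUS, le_rfl, le_rfl, ?_, ?_, ?_, ?_, ?_, ?_, ?_, w, hw, ?_,
        Or.inl rfl⟩⟩
      · exact fun a ha b hb => K.comm a ha b hb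
      · intro a ha b _; rw [Subgroup.mem_bot.1 ha]; exact Commute.one_left b
      · exact fun a ha b hb => K.comm a ha b hb
      · intro a ha b _; rw [Subgroup.mem_bot.1 ha]; exact Commute.one_left b
      · simpa using hSU
      · exact fun m hm _ => hm
      · exact fun x hx _ => Subgroup.mem_bot.1 hx
      · exact fun m hm => ⟨m, hm, rfl⟩
    have hbad : ∀ s ∈ S, s ∉ K.U → ∀ r : ℕ, r.Prime → s ^ r ∈ K.U →
        r = 2 ∧ (∀ z ∈ K.U, z * z ≠ K.ε) := by
      intro s hs hsU r hr hsr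
      by_contra h
      rw [not_and_or] at h
      refine hsplit r hr s hs hsU hsr (D.scal hr ?_ (hSB hs) hsr)
      rcases h with h | h
      · exact Or.inl h
      · push Not at h; exact Or.inr h
    have hsq : ∀ s ∈ S, s * s ∈ K.U := by
      intro s hs
      by_cases hsU : s ∈ K.U
      · exact mul_mem hsU hsU
      obtain ⟨n, hn, hsn⟩ := D.sqf s (hSB hs)
      have hn' : ∀ m, Squarefree m → s ^ m ∈ K.U → s ^ 2 ∈ K.U := by
        intro m
        induction m using Nat.strong_induction_on with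
        | _ m ihm =>
          intro hm hsm
          by_cases h2 : ∃ r, r.Prime ∧ r ∣ m ∧ r ≠ 2
          · obtain ⟨r, hr, hrd, hr2⟩ := h2
            have hlt : m / r < m := Nat.div_lt_self (Nat.pos_of_ne_zero hm.ne_zero) hr.one_lt
            refine ihm _ hlt (hm.squarefree_of_dvd (Nat.div_dvd_of_dvd hrd)) ?_
            by_contra h
            exact hr2 (hbad _ (pow_mem hs _) h r hr (by rw [← pow_mul, Nat.div_mul_cancel hrd]; exact hsm)).1
          · push Not at h2
            have hm2 : m ∣ 2 := by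
              rw [← Nat.prod_primeFactors_of_squarefree hm]
              have hsub : m.primeFactors ⊆ {2} := fun r hr => by
                rw [Nat.mem_primeFactors] at hr
                rw [Finset.mem_singleton]
                exact h2 r hr.1 hr.2.1
              refine (Finset.prod_dvd_prod_of_subset _ _ (fun r => r) hsub).trans ?_
              simp
            obtain ⟨q, hq⟩ := hm2
            rw [hq, pow_mul]; exact pow_mem hsm q
      rw [← pow_two]
      exact hn' n hn hsn
    obtain ⟨s₀, hs₀, hs₀U⟩ := SetLike.not_le_iff_exists.1 hSU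
    have hns : ∀ z ∈ K.U, z * z ≠ K.ε :=
      (hbad s₀ hs₀ hs₀U 2 Nat.prime_two (by rw [pow_two]; exact hsq s₀ hs₀)).2
    have hscale : ∀ q ∈ S, q ∉ K.U → ∃ z ∈ K.U, (q * z) * (q * z) = K.ε := by
      intro q hq hqU
      obtain ⟨k, hk⟩ := K.ω_gen _ (hsq q hq)
      obtain ⟨e, he⟩ := K.ω_gen _ K.ε_mem
      have hq2 : ∀ z ∈ K.U, (q * z) * (q * z) = q * q * (z * z) := fun z hz => by
        rw [mul_assoc q z, ← mul_assoc z q, (D.cent q (hSB hq) z hz).eq.symm]; simp only [mul_assoc]
      have hk2 : k % 2 = 1 := by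
        by_contra h
        refine hsplit 2 Nat.prime_two q hq hqU (by rw [pow_two]; exact hsq q hq)
          ⟨(K.ω ^ (k / 2))⁻¹, inv_mem (pow_mem K.ω_mem _), ?_⟩
        rw [pow_two, hq2 _ (inv_mem (pow_mem K.ω_mem _)), ← hk, ← mul_inv_rev, ← pow_add,
          show k / 2 + k / 2 = k by omega, mul_inv_cancel]
      have he2 : e % 2 = 1 := by
        by_contra h
        exact hns _ (pow_mem K.ω_mem (e / 2)) (by rw [← pow_add, show e / 2 + e / 2 = e by omega, he])
      obtain ⟨j, hj⟩ : ∃ j, k + 2 * j = e + 2 * k := ⟨(k + e) / 2, by omega⟩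
      refine ⟨K.ω ^ j * (K.ω ^ k)⁻¹, mul_mem (pow_mem K.ω_mem _) (inv_mem (pow_mem K.ω_mem _)), ?_⟩
      have hc : Commute (K.ω ^ j) (K.ω ^ k)⁻¹ := ((Commute.refl K.ω).pow_pow j k).inv_right
      rw [hq2 _ (mul_mem (pow_mem K.ω_mem _) (inv_mem (pow_mem K.ω_mem _))), ← pow_two (K.ω ^ j * _),
        hc.mul_pow, ← hk, ← pow_mul, inv_pow, ← pow_mul, ← mul_assoc, ← pow_add,
        show k + j * 2 = e + k * 2 by omega, pow_add, mul_inv_cancel_right, he]
    obtain ⟨z₀, hz₀, hi⟩ := hscale s₀ hs₀ hs₀U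
    set i := s₀ * z₀ with hidef
    have hiS : i ∈ S := mul_mem hs₀ (hUS hz₀)
    have hiU : i ∉ K.U := fun h => hs₀U ((mul_mem_cancel_right hz₀).1 h)
    obtain ⟨t, ht, hit⟩ : ∃ t ∈ S, ¬ Commute i t := by
      by_contra h; push Not at h; exact hiU (hnd i hiS h)
    have htU : t ∉ K.U := fun h => hit (D.cent i (hSB hiS) t h)
    obtain ⟨z₁, hz₁, hj⟩ := hscale t ht htU
    set j := t * z₁ with hjdef
    have hjS : j ∈ S := mul_mem ht (hUS hz₁)
    have hij : ¬ Commute i j := fun h =>
      hit (by simpa [hjdef] using h.mul_right (D.cent i (hSB hiS) z₁ hz₁).inv_right)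
    have hi2 : i ^ 2 ∈ K.U := by rw [pow_two, hi]; exact K.ε_mem
    have hj2 : j ^ 2 ∈ K.U := by rw [pow_two, hj]; exact K.ε_mem
    have hij' : ⁅i, j⁆ ≠ 1 := fun h => hij (commutatorElement_eq_one_iff_commute.1 h)
    have hji' : ⁅j, i⁆ ≠ 1 := fun h => hij (commutatorElement_eq_one_iff_commute.1 h).symm
    have hdec : ∀ s ∈ S, ∃ a b : ℕ, s * j ^ b * i ^ a ∈ K.U := by
      intro s hs
      obtain ⟨b, hb⟩ := D.exists_commute Nat.prime_two (hSB hiS) (hSB hjS) hi2 hij' (hSB hs)
      obtain ⟨a, ha⟩ := D.exists_commute Nat.prime_two (hSB hjS) (hSB hiS) hj2 hji'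
        (mul_mem (hSB hs) (pow_mem (hSB hjS) b))
      refine ⟨a, b, ?_⟩
      set t := s * j ^ b * i ^ a with htdef
      have htS : t ∈ S := mul_mem (mul_mem hs (pow_mem hjS b)) (pow_mem hiS a)
      have hti : Commute t i :=
        (commutatorElement_eq_one_iff_commute.1 hb).symm.mul_left (Commute.pow_self i a)
      have htj : Commute t j := (commutatorElement_eq_one_iff_commute.1 ha).symm
      by_contra htU'
      obtain ⟨z, hz, hzt⟩ := hscale t htS htU'
      have hzi : Commute z i := (D.cent i (hSB hiS) z hz).symm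
      have htz : Commute (t * z) i := hti.mul_left hzi
      have hp1 : (i * (t * z)) ^ 2 = 1 := by
        rw [htz.symm.mul_pow, pow_two, pow_two, hi, hzt, K.ε_sq]
      have hnU : i * (t * z) ∉ K.U := by
        intro h
        refine hij ?_
        have h1 : Commute j (i * (t * z)) := D.cent j (hSB hjS) _ h
        have h2 : Commute j (t * z) := htj.symm.mul_right (D.cent j (hSB hjS) z hz)
        have h3 := h1.mul_right h2.inv_right
        rw [mul_inv_cancel_right] at h3
        exact h3.symm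
      exact hsplit 2 Nat.prime_two _ (mul_mem hiS (mul_mem htS (hUS hz))) hnU
        (by rw [hp1]; exact one_mem _) ⟨1, one_mem _, by rw [mul_one]; exact hp1⟩
    refine ⟨⟨K.U, ⊥, S, hUS, bot_le, le_rfl, le_rfl, hUS, ?_, ?_, ?_, ?_, ?_, ?_, ?_, w, hw, ?_,
      Or.inr ⟨i, hiS, j, hjS, hi, hj, hij, hns, hscale, ?_⟩⟩⟩
    · exact fun a ha b hb => K.comm a ha b hb
    · intro a ha b _; rw [Subgroup.mem_bot.1 ha]; exact Commute.one_left b
    · exact fun a ha b hb => (D.cent b (hSB hb) a ha).symm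
    · intro a ha b _; rw [Subgroup.mem_bot.1 ha]; exact Commute.one_left b
    · exact le_sup_right
    · exact fun m hm _ => hm
    · exact fun x hx _ => Subgroup.mem_bot.1 hx
    · exact fun m hm => ⟨m, hm, rfl⟩
    · intro g hgU hgi hgj q hq
      obtain ⟨a, b, hab⟩ := hdec q hq
      have e : q = q * j ^ b * i ^ a * (i ^ a)⁻¹ * (j ^ b)⁻¹ := by group
      rw [e]
      exact ((hgU _ hab).mul_right (hgi.pow_right a).inv_right).mul_right (hgj.pow_right b).inv_right

end Cfsg.Agent.ThreeVec75
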