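import Mathlib
import Cfsg.Agent.Lib.ThreeVec75Five

/-!
Five inequivalent distinguishing colourings for solvable permutation groups.
-/

set_option autoImplicit false
set_option linter.style.haveILetI false

namespace Cfsg.Agent.ThreeVec75

open scoped commutatorElement

universe u v

/-- Five inequivalent distinguishing colourings. -/
def FiveCol (P : Type v) (Ω : Type u) [Group P] [MulAction P Ω] : Prop :=
  ∃ c : Fin 5 → Ω → Fin 5, ∀ k l : Fin 5, ∀ g : P, (∀ x, c k (g • x) = c l x) →
    k = l ∧ ∀ x : Ω, g • x = x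

section

variable {P : Type v} [Group P] {Ω : Type u} [MulAction P Ω]

theorem fiveCol_of_rigid [Finite Ω] (c : Ω → Fin 5) (hcount : (∀ x, c x ≠ 4) ∨ 5 < Nat.card Ω)
    (h3 : ∀ x y, c x = 3 → c y = 3 → x = y) (h3' : ∃ x, c x = 3)
    (hrig : ∀ g : P, (∀ x, c (g • x) = c x) → ∀ x : Ω, g • x = x) : FiveCol P Ω := by
  classical
  haveI := Fintype.ofFinite Ω
  refine ⟨fun k x => c x + k, fun k l g hg => ?_⟩
  by_cases hd : k = l
  · subst hd
    exact ⟨rfl, hrig g fun x => add_right_cancel (hg x)⟩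
  exfalso
  let d : Fin 5 := l - k
  have hd0 : d ≠ 0 := sub_ne_zero.2 fun h => hd h.symm
  have hshift : ∀ x, c (g • x) = c x + d := fun x => by
    show c (g • x) = c x + (l - k)
    have e := hg x
    simp only at e
    rw [← add_sub_assoc, ← e, add_sub_cancel_right]
  let N : Fin 5 → ℕ := fun a => (Finset.univ.filter fun x => c x = a).card
  have hN : ∀ a, N (a + d) = N a := by
    intro a
    symm
    refine Finset.card_bij (fun x _ => g • x) ?_ (fun x _ y _ h => MulAction.injective g h) ?_
    · intro x hx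
      simp only [Finset.mem_filter, Finset.mem_univ, true_and] at hx ⊢
      rw [hshift, hx]
    · intro y hy
      simp only [Finset.mem_filter, Finset.mem_univ, true_and] at hy
      refine ⟨g⁻¹ • y, ?_, smul_inv_smul g y⟩
      simp only [Finset.mem_filter, Finset.mem_univ, true_and]
      have := hshift (g⁻¹ • y)
      rw [smul_inv_smul, hy] at this
      exact (add_right_cancel this).symm
  have key : ∀ d : Fin 5, d ≠ 0 → ∀ a : Fin 5,
      a = 3 ∨ a = 3 + d ∨ a = 3 + d + d ∨ a = 3 + d + d + d ∨ a = 3 + d + d + d + d := by decide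
  have hall : ∀ a, N a = N 3 := by
    intro a
    rcases key d hd0 a with rfl | rfl | rfl | rfl | rfl <;> simp only [hN]
  have hone : N 3 = 1 := by
    obtain ⟨x, hx⟩ := h3'
    exact Finset.card_eq_one.2 ⟨x, Finset.eq_singleton_iff_unique_mem.2
      ⟨by simp [hx], fun y hy => h3 y x (by simpa using hy) hx⟩⟩
  rcases hcount with h | h
  · have e : N 4 = 0 := Finset.card_eq_zero.2 (Finset.filter_eq_empty_iff.2 fun x _ => h x)
    rw [hall, hone] at e
    exact one_ne_zero e
  · have e : Fintype.card Ω = ∑ a, N a := by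
      rw [← Finset.card_univ]
      exact Finset.card_eq_sum_card_fiberwise fun x _ => Finset.mem_univ _
    simp only [hall, hone, Finset.sum_const, Finset.card_univ, Fintype.card_fin, smul_eq_mul] at e
    rw [Nat.card_eq_fintype_card, e] at h
    omega

/-- The primitive case. -/
theorem fiveCol_primitive [Finite Ω] [Finite P] [Group.IsSolvable P] [MulAction.IsPretransitive P Ω]
    (x0 : Ω) (hco : IsCoatom (MulAction.stabilizer P x0)) : FiveCol P Ω := by
  classical
  let φ := MulAction.toPermHom P Ω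
  let Q := φ.range
  haveI : Group.IsSolvable Q := Group.isSolvable_of_surjective φ.rangeRestrict_surjective
  have hQ : (⊤ : Subgroup Q) ≠ ⊥ := by
    intro h
    apply hco.1
    rw [eq_top_iff]
    intro g _
    have hg : φ.rangeRestrict g ∈ (⊥ : Subgroup Q) := by rw [← h]; trivial
    exact Equiv.congr_fun (congrArg Subtype.val (Subgroup.mem_bot.1 hg)) x0
  obtain ⟨n, hn1, hn2⟩ : ∃ n, derivedSeries Q n ≠ ⊥ ∧ derivedSeries Q (n + 1) = ⊥ := by
    have hex := Group.IsSolvable.solvable (G := Q)
    have h0 : Nat.find hex ≠ 0 := by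
      intro h
      have := Nat.find_spec hex
      rw [h, derivedSeries_zero] at this
      exact hQ this
    refine ⟨Nat.find hex - 1, Nat.find_min hex (by omega), ?_⟩
    rw [Nat.sub_add_cancel (Nat.pos_of_ne_zero h0)]
    exact Nat.find_spec hex
  let D := derivedSeries Q n
  haveI : D.Normal := derivedSeries_normal Q n
  have hDc : ∀ a ∈ D, ∀ b ∈ D, a * b = b * a := by
    intro a ha b hb
    have : ⁅a, b⁆ ∈ (⊥ : Subgroup Q) := by
      rw [← hn2, derivedSeries_succ]; exact Subgroup.commutator_mem_commutator ha hb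
    exact commutatorElement_eq_one_iff_mul_comm.1 (Subgroup.mem_bot.1 this)
  obtain ⟨p, hp, hpd⟩ := Nat.exists_prime_and_dvd (n := Nat.card D)
    (fun h => hn1 (Subgroup.card_eq_one.1 h))
  haveI := Fact.mk hp
  let N : Subgroup Q :=
    { carrier := {d | d ∈ D ∧ d ^ p = 1}
      one_mem' := ⟨one_mem D, one_pow p⟩
      mul_mem' := fun {a b} ha hb => ⟨mul_mem ha.1 hb.1, by
        rw [Commute.mul_pow (hDc a ha.1 b hb.1), ha.2, hb.2, one_mul]⟩
      inv_mem' := fun {a} ha => ⟨inv_mem ha.1, by rw [inv_pow, ha.2, inv_one]⟩ }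
  haveI hNn : N.Normal := ⟨fun d hd g => ⟨Subgroup.Normal.conj_mem inferInstance d hd.1 g, by
    rw [conj_pow, hd.2, mul_one, mul_inv_cancel]⟩⟩
  obtain ⟨d0, hd0⟩ := exists_prime_orderOf_dvd_card' p hpd
  have hd0' : (d0 : Q) ∈ N ∧ (d0 : Q) ≠ 1 := by
    refine ⟨⟨d0.2, ?_⟩, ?_⟩
    · rw [← SubgroupClass.coe_pow, ← hd0, pow_orderOf_eq_one, OneMemClass.coe_one]
    · intro h
      rw [show d0 = 1 from Subtype.ext h, orderOf_one] at hd0
      exact hp.ne_one hd0.symm
  let N' := N.comap φ.rangeRestrict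
  have hcomm : ∀ a b : Q, a ∈ N → b ∈ N → a * b = b * a := fun a b ha hb => hDc a ha.1 b hb.1
  have htrans : ∀ x : Ω, ∃ d : N, ((d : Q) : Equiv.Perm Ω) x0 = x := by
    have hne : ¬ N' ≤ MulAction.stabilizer P x0 := by
      intro hle
      apply hd0'.2
      obtain ⟨g, hg⟩ := φ.rangeRestrict_surjective (d0 : Q)
      apply Subtype.ext
      refine Equiv.ext fun x => ?_
      obtain ⟨k, rfl⟩ := MulAction.exists_smul_eq P x0 x
      have hk : k⁻¹ * g * k ∈ N' := by
        show φ.rangeRestrict _ ∈ N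
        rw [map_mul, map_mul, map_inv, hg]
        simpa using hNn.conj_mem _ hd0'.1 (φ.rangeRestrict k)⁻¹
      have := MulAction.mem_stabilizer_iff.1 (hle hk)
      rw [mul_smul, mul_smul, inv_smul_eq_iff] at this
      rw [← hg]
      exact this
    have htop : MulAction.stabilizer P x0 ⊔ N' = ⊤ :=
      hco.2 _ (lt_of_le_of_ne le_sup_left fun h => hne (by rw [h]; exact le_sup_right))
    intro x
    obtain ⟨k, rfl⟩ := MulAction.exists_smul_eq P x0 x
    have hk : k ∈ ((N' ⊔ MulAction.stabilizer P x0 : Subgroup P) : Set P) := by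
      rw [sup_comm, htop]; trivial
    rw [Subgroup.normal_mul] at hk
    obtain ⟨a, ha, b, hb, rfl⟩ := Set.mem_mul.1 hk
    exact ⟨⟨φ.rangeRestrict a, ha⟩, by
      rw [mul_smul, MulAction.mem_stabilizer_iff.1 hb]; rfl⟩
  let e : Additive N → Ω := fun d => (((Additive.toMul d : N) : Q) : Equiv.Perm Ω) x0
  have hbij : Function.Bijective e := by
    refine ⟨?_, fun x => ?_⟩
    · intro a b hab
      apply Additive.toMul.injective
      apply Subtype.ext
      apply Subtype.ext
      refine Equiv.ext fun x => ?_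
      obtain ⟨d, rfl⟩ := htrans x
      have h1 := congrArg Subtype.val (hcomm _ _ (Additive.toMul a).2 d.2)
      have h2 := congrArg Subtype.val (hcomm _ _ (Additive.toMul b).2 d.2)
      have e1 := Equiv.congr_fun h1 x0
      have e2 := Equiv.congr_fun h2 x0
      simp only [Subgroup.coe_mul, Equiv.Perm.mul_apply] at e1 e2
      rw [e1, e2]
      exact congrArg _ hab
    · obtain ⟨d, hd⟩ := htrans x
      exact ⟨Additive.ofMul d, hd⟩
  letI : CommGroup N := { (inferInstance : Group N) with mul_comm := fun a b => Subtype.ext (hcomm _ _ a.2 b.2) }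
  letI : Module (ZMod p) (Additive N) := AddCommGroup.zmodModule (n := p) fun x => by
    apply Additive.toMul.injective
    rw [toMul_nsmul, toMul_zero]
    exact Subtype.ext (Additive.toMul x).2.2
  obtain ⟨c, h3, hcount, hrig⟩ := exists_five_lab (p := p) (X := Additive N)
  let E := Equiv.ofBijective e hbij
  refine fiveCol_of_rigid (fun x => c (E.symm x)) ?_ ?_ ⟨x0, ?_⟩ ?_
  · rcases hcount with h | h
    · exact Or.inl fun x => h _
    · exact Or.inr (by rwa [← Nat.card_congr E])
  · intro x y hx hy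
    exact E.symm.injective (((h3 _).1 hx).trans ((h3 _).1 hy).symm)
  · rw [h3]
    rw [Equiv.symm_apply_eq]
    rfl
  intro g hg
  have hgx0 : g • x0 = x0 := by
    have e0 : c (E.symm x0) = 3 := (h3 _).2 ((Equiv.symm_apply_eq E).2 rfl)
    have e1 : E.symm (g • x0) = E.symm x0 := by
      rw [(h3 _).1 e0]
      exact (h3 _).1 (by rw [hg]; exact e0)
    exact E.symm.injective e1
  let conj : Additive N →+ Additive N := MonoidHom.toAdditive
    (((MulAut.conj (φ.rangeRestrict g)).toMonoidHom.comp N.subtype).codRestrict N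
      fun d => hNn.conj_mem _ d.2 _)
  have hconj : ∀ d, E (conj d) = g • E d := by
    intro d
    show ((φ.rangeRestrict g * ((Additive.toMul d : N) : Q) * (φ.rangeRestrict g)⁻¹ : Q) : Equiv.Perm Ω) x0 = _
    simp only [Subgroup.coe_mul, Subgroup.coe_inv, Equiv.Perm.mul_apply]
    have : (φ.rangeRestrict g : Equiv.Perm Ω)⁻¹ x0 = x0 := by
      rw [Equiv.Perm.inv_eq_iff_eq]; exact hgx0.symm
    rw [this]
    rfl
  have hid := hrig conj (fun a b h => by
      apply E.injective
      apply MulAction.injective g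
      show g • E a = g • E b
      rw [← hconj, ← hconj, h]) (fun d => by
      have := hg (E d)
      rw [← hconj, Equiv.symm_apply_apply, Equiv.symm_apply_apply] at this
      exact this)
  intro x
  obtain ⟨d, rfl⟩ := E.surjective x
  rw [← hconj, hid]

end

theorem fiveCol {P : Type v} [Group P] [Finite P] [Group.IsSolvable P] :
    ∀ {Ω : Type u} [MulAction P Ω] [Finite Ω] [Nonempty Ω], FiveCol P Ω := by
  suffices H : ∀ n, ∀ (P : Type v) [Group P] [Finite P] [Group.IsSolvable P],
      ∀ (Ω : Type (max u v)) [MulAction P Ω] [Finite Ω] [Nonempty Ω], Nat.card Ω ≤ n → FiveCol P Ω by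
    intro Ω _ _ _
    letI : MulAction P (ULift.{v} Ω) := inferInstance
    obtain ⟨c, hc⟩ := H (Nat.card (ULift.{v} Ω)) P (ULift.{v} Ω) le_rfl
    refine ⟨fun k x => c k ⟨x⟩, fun k l g hg => ?_⟩
    obtain ⟨h1, h2⟩ := hc k l g fun x => hg x.down
    exact ⟨h1, fun x => congrArg ULift.down (h2 ⟨x⟩)⟩
  intro n
  induction n with
  | zero => intro P _ _ _ Ω _ _ _ h; have := Nat.card_pos (α := Ω); omega
  | succ n ih =>
    intro P _ _ _ Ω _ _ _ hcard
    classical
    obtain ⟨x0⟩ := ‹Nonempty Ω›
    by_cases hsplit : ∃ x : Ω, x ∉ MulAction.orbit P x0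
    · let S : SubMulAction P Ω :=
        { carrier := MulAction.orbit P x0
          smul_mem' := fun g x hx => (MulAction.mem_orbit_of_mem_orbit g hx) }
      let R : SubMulAction P Ω :=
        { carrier := (MulAction.orbit P x0)ᶜ
          smul_mem' := fun g x hx h => hx (by
            simpa using MulAction.mem_orbit_of_mem_orbit g⁻¹ h) }
      obtain ⟨x1, hx1⟩ := hsplit
      haveI : Nonempty S := ⟨⟨x0, MulAction.mem_orbit_self x0⟩⟩
      haveI : Nonempty R := ⟨⟨x1, hx1⟩⟩
      obtain ⟨c, hc⟩ := ih P S (by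
        have : Nat.card S < Nat.card Ω := Finite.card_subtype_lt (x := x1) hx1
        omega)
      obtain ⟨d, hd⟩ := ih P R (by
        have : Nat.card R < Nat.card Ω :=
          Finite.card_subtype_lt (x := x0) (fun h => h (MulAction.mem_orbit_self x0))
        omega)
      refine ⟨fun k x => if h : x ∈ MulAction.orbit P x0 then c k ⟨x, h⟩ else d k ⟨x, h⟩,
        fun k l g hg => ?_⟩
      obtain ⟨hkl, hgS⟩ := hc k l g fun x => by
        have := hg x.1
        simp only [dif_pos (show g • x.1 ∈ MulAction.orbit P x0 from (g • x).2),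
          dif_pos (show x.1 ∈ MulAction.orbit P x0 from x.2)] at this
        exact this
      obtain ⟨-, hgR⟩ := hd k l g fun x => by
        have := hg x.1
        simp only [dif_neg (show ¬ g • x.1 ∈ MulAction.orbit P x0 from (g • x).2),
          dif_neg (show ¬ x.1 ∈ MulAction.orbit P x0 from x.2)] at this
        exact this
      refine ⟨hkl, fun x => ?_⟩
      by_cases h : x ∈ MulAction.orbit P x0
      · exact congrArg Subtype.val (hgS ⟨x, h⟩)
      · exact congrArg Subtype.val (hgR ⟨x, h⟩)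
    push Not at hsplit
    haveI : MulAction.IsPretransitive P Ω := ⟨fun x y => by
      obtain ⟨g, hg⟩ := MulAction.mem_orbit_iff.1 (hsplit x)
      obtain ⟨h, hh⟩ := MulAction.mem_orbit_iff.1 (hsplit y)
      exact ⟨h * g⁻¹, by rw [mul_smul, ← hg, inv_smul_smul, hh]⟩⟩
    by_cases hH : MulAction.stabilizer P x0 = ⊤
    · have h1 : ∀ x : Ω, x = x0 := by
        intro x
        obtain ⟨g, rfl⟩ := MulAction.exists_smul_eq P x0 x
        exact MulAction.mem_stabilizer_iff.1 (by rw [hH]; trivial)
      exact ⟨fun k _ => k, fun k l g hg => ⟨hg x0, fun x => (h1 _).trans (h1 x).symm⟩⟩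
    by_cases hco : IsCoatom (MulAction.stabilizer P x0)
    · exact fiveCol_primitive x0 hco
    obtain ⟨K, hK1, hK2⟩ : ∃ K, MulAction.stabilizer P x0 < K ∧ K < ⊤ := by
      by_contra h
      push Not at h
      exact hco ⟨hH, fun K hK => not_lt_top_iff.1 (h K hK)⟩
    choose γ hγ using fun x : Ω => MulAction.exists_smul_eq P x0 x
    let f : Ω → P ⧸ K := fun x => (γ x : P ⧸ K)
    have hf : ∀ (g : P) x, f (g • x) = g • f x := by
      intro g x
      show ((γ (g • x) : P ⧸ K)) = ((g * γ x : P) : P ⧸ K)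
      rw [QuotientGroup.eq]
      refine hK1.le (MulAction.mem_stabilizer_iff.2 ?_)
      rw [mul_smul, mul_smul, hγ, inv_smul_eq_iff, hγ]
    have hcP : Nat.card (P ⧸ K) < Nat.card Ω := by
      rw [← Subgroup.index, ← MulAction.index_stabilizer_of_transitive P x0]
      exact Subgroup.index_strictAnti hK1
    obtain ⟨out, hout⟩ := ih P (ULift.{max u v} (P ⧸ K)) (by
      rw [Nat.card_congr Equiv.ulift]; omega)
    let σ0 : P ⧸ K := f x0
    let P0 := MulAction.stabilizer P σ0
    let F : SubMulAction P0 Ω :=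
      { carrier := {x | f x = σ0}
        smul_mem' := fun g x (hx : f x = σ0) => by
          show f ((g : P) • x) = σ0
          rw [hf, hx]; exact g.2 }
    haveI : Nonempty F := ⟨⟨x0, rfl⟩⟩
    obtain ⟨x1, hx1⟩ : ∃ x : Ω, f x ≠ σ0 := by
      by_contra h
      push Not at h
      apply hK2.ne
      rw [eq_top_iff]
      intro g _
      have e := h (g • x0)
      rw [hf] at e
      have e' : ((g * γ x0 : P) : P ⧸ K) = ((γ x0 : P) : P ⧸ K) := e
      rw [QuotientGroup.eq] at e'
      have hx : γ x0 ∈ K := hK1.le (MulAction.mem_stabilizer_iff.2 (hγ x0))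
      simpa using K.mul_mem (K.mul_mem hx (K.inv_mem e')) (K.inv_mem hx)
    obtain ⟨inn, hinn⟩ := ih P0 F (by
      have : Nat.card F < Nat.card Ω := Finite.card_subtype_lt (x := x1) hx1
      omega)
    choose τ hτ using fun σ : P ⧸ K => MulAction.exists_smul_eq P σ0 σ
    have hback : ∀ x : Ω, (τ (f x))⁻¹ • x ∈ F := fun x => by
      show f _ = σ0
      rw [hf, inv_smul_eq_iff, hτ]
    refine ⟨fun k x => inn (out k ⟨f x⟩) ⟨(τ (f x))⁻¹ • x, hback x⟩, fun k l g hg => ?_⟩
    have hmem : ∀ σ : P ⧸ K, (τ (g • σ))⁻¹ * g * τ σ ∈ P0 := fun σ => by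
      rw [MulAction.mem_stabilizer_iff, mul_smul, mul_smul, hτ, inv_smul_eq_iff, hτ]
    have hfy : ∀ (σ : P ⧸ K) (y : F), f (τ σ • (y : Ω)) = σ := fun σ y => by
      rw [hf, show f (y : Ω) = σ0 from y.2, hτ]
    have hblock : ∀ σ : P ⧸ K, out k ⟨g • σ⟩ = out l ⟨σ⟩ ∧ ∀ y : F, (⟨_, hmem σ⟩ : P0) • y = y := by
      intro σ
      refine hinn _ _ _ fun y => ?_
      have e := hg (τ σ • (y : Ω))
      simp only [hfy, hf] at e
      convert e using 2
      · apply Subtype.ext
        show ((τ (g • σ))⁻¹ * g * τ σ) • (y : Ω) = _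
        simp only [mul_smul, hf, hfy]
      · apply Subtype.ext
        simp only [hfy, inv_smul_smul]
    obtain ⟨hkl, hfix⟩ := hout k l g fun σ => (hblock σ.down).1
    refine ⟨hkl, fun x => ?_⟩
    have hσ : g • f x = f x := congrArg ULift.down (hfix ⟨f x⟩)
    have e := congrArg Subtype.val ((hblock (f x)).2 ⟨_, hback x⟩)
    change ((τ (g • f x))⁻¹ * g * τ (f x)) • ((τ (f x))⁻¹ • x) = (τ (f x))⁻¹ • x at e
    rw [hσ, mul_smul, mul_smul, smul_inv_smul] at e
    exact smul_left_cancel _ e

end Cfsg.Agent.ThreeVec75
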