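import Mathlib
import Cfsg.Agent.Lib.ThreeVec75Perm

/-!
Reducible and imprimitive lifting of rigid triples.
-/

set_option autoImplicit false
set_option linter.style.haveILetI false

namespace Cfsg.Agent.ThreeVec75

universe u v w

/-- Complete reducibility. -/
def CR (A : Type v) (V : Type u) [Group A] [AddCommGroup V] [DistribMulAction A V] : Prop :=
  ∀ U : AddSubgroup V, (∀ a : A, ∀ v ∈ U, a • v ∈ U) →
    ∃ W : AddSubgroup V, (∀ a : A, ∀ w ∈ W, a • w ∈ W) ∧ U ⊓ W = ⊥ ∧ U ⊔ W = ⊤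

/-- Irreducibility. -/
def Irr (A : Type v) (V : Type u) [Group A] [AddCommGroup V] [DistribMulAction A V] : Prop :=
  ∀ U : AddSubgroup V, (∀ a : A, ∀ v ∈ U, a • v ∈ U) → U = ⊥ ∨ U = ⊤

variable {A : Type v} {V : Type u} [Group A] [AddCommGroup V] [DistribMulAction A V]

/-- The action on an invariant subgroup. -/
@[reducible] def restrictAct (U : AddSubgroup V) (h : ∀ a : A, ∀ v ∈ U, a • v ∈ U) :
    DistribMulAction A U where
  smul a x := ⟨a • (x : V), h a x x.2⟩
  one_smul x := Subtype.ext (one_smul A (x : V))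
  mul_smul a b x := Subtype.ext (mul_smul a b (x : V))
  smul_zero a := Subtype.ext (smul_zero a)
  smul_add a x y := Subtype.ext (smul_add a (x : V) (y : V))

theorem Irr.cr (h : Irr A V) : CR A V := by
  intro U hU
  rcases h U hU with rfl | rfl
  · exact ⟨⊤, fun _ _ _ => trivial, bot_inf_eq _, bot_sup_eq _⟩
  · exact ⟨⊥, fun a w hw => by rw [AddSubgroup.mem_bot] at hw ⊢; rw [hw, smul_zero],
      inf_bot_eq _, sup_bot_eq _⟩

theorem cr_restrict (hcr : CR A V) (U : AddSubgroup V) (hU : ∀ a : A, ∀ v ∈ U, a • v ∈ U) :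
    letI := restrictAct U hU
    CR A U := by
  letI := restrictAct U hU
  intro U1 hU1
  obtain ⟨W, hW, hd, hs⟩ := hcr (U1.map U.subtype) (by
    rintro a v ⟨x, hx, rfl⟩
    exact ⟨a • x, hU1 a x hx, rfl⟩)
  refine ⟨W.comap U.subtype, fun a w hw => hW a _ hw, ?_, ?_⟩
  · rw [eq_bot_iff]
    intro x hx
    have h : (x : V) ∈ U1.map U.subtype ⊓ W := ⟨⟨x, hx.1, rfl⟩, hx.2⟩
    rw [hd, AddSubgroup.mem_bot] at h
    exact AddSubgroup.mem_bot.2 (Subtype.ext h)
  · rw [eq_top_iff]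
    intro x _
    have h : (x : V) ∈ U1.map U.subtype ⊔ W := by rw [hs]; trivial
    obtain ⟨y, ⟨y', hy', rfl⟩, z, hz, e⟩ := AddSubgroup.mem_sup.1 h
    refine AddSubgroup.mem_sup.2 ⟨y', hy', x - y', ?_, add_sub_cancel y' x⟩
    show ((x - y' : U) : V) ∈ W
    rw [AddSubgroup.coe_sub, ← e]
    simpa using hz

theorem good_split (U W : AddSubgroup V) (hU : ∀ a : A, ∀ v ∈ U, a • v ∈ U)
    (hW : ∀ a : A, ∀ v ∈ W, a • v ∈ W) (hd : U ⊓ W = ⊥) (hs : U ⊔ W = ⊤)
    (gU : letI := restrictAct U hU; Good A U) (gW : letI := restrictAct W hW; Good A W) : Good A V := by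
  obtain ⟨t, ht⟩ := gU
  obtain ⟨s, hs'⟩ := gW
  refine ⟨fun i => (t i : V) + (s i : V), fun a ha x => ?_⟩
  have hcomp : ∀ u ∈ U, ∀ w ∈ W, ∀ u' ∈ U, ∀ w' ∈ W, u + w = u' + w' → u = u' ∧ w = w' := by
    intro u hu w hw u' hu' w' hw' e
    have e' : u - u' = w' - w := by
      rw [sub_eq_sub_iff_add_eq_add, e, add_comm]
    have : u - u' ∈ U ⊓ W := ⟨U.sub_mem hu hu', by rw [e']; exact W.sub_mem hw' hw⟩
    rw [hd, AddSubgroup.mem_bot] at this
    exact ⟨sub_eq_zero.1 this, (sub_eq_zero.1 (e'.symm.trans this)).symm⟩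
  have hfix : ∀ i, a • (t i : V) = t i ∧ a • (s i : V) = s i := fun i =>
    hcomp _ (hU a _ (t i).2) _ (hW a _ (s i).2) _ (t i).2 _ (s i).2 (by rw [← smul_add]; exact ha i)
  have h1 := ht a (fun i => Subtype.ext (hfix i).1)
  have h2 := hs' a (fun i => Subtype.ext (hfix i).2)
  have hx : x ∈ U ⊔ W := by rw [hs]; trivial
  obtain ⟨u, hu, w, hw, rfl⟩ := AddSubgroup.mem_sup.1 hx
  have e1 : a • u = u := congrArg Subtype.val (h1 ⟨u, hu⟩)
  have e2 : a • w = w := congrArg Subtype.val (h2 ⟨w, hw⟩)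
  rw [smul_add, e1, e2]

section system

variable {ι : Type u} [Fintype ι] [MulAction A ι] (e : ι → V →+ V)

theorem range_invariant (equiv : ∀ (a : A) i v, a • e i v = e (a • i) (a • v)) (i0 : ι) :
    ∀ a : MulAction.stabilizer A i0, ∀ v ∈ (e i0).range, a • v ∈ (e i0).range := by
  rintro a v ⟨x, rfl⟩
  refine ⟨(a : A) • x, ?_⟩
  show e i0 ((a : A) • x) = (a : A) • e i0 x
  rw [equiv, MulAction.mem_stabilizer_iff.1 a.2]

theorem good_of_system [Finite A] [Group.IsSolvable A] [MulAction.IsPretransitive A ι]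
    (sum : ∀ v, ∑ i, e i v = v) (orth : ∀ i j v, i ≠ j → e i (e j v) = 0)
    (idem : ∀ i v, e i (e i v) = e i v)
    (equiv : ∀ (a : A) i v, a • e i v = e (a • i) (a • v)) (i0 : ι)
    (five : letI := restrictAct (e i0).range (range_invariant e equiv i0)
      Five (MulAction.stabilizer A i0) (e i0).range) : Good A V := by
  classical
  letI := restrictAct (e i0).range (range_invariant e equiv i0)
  obtain ⟨T, hT⟩ := five
  haveI : Nonempty ι := ⟨i0⟩
  obtain ⟨col, hcol⟩ := fiveCol (P := A) (Ω := ι)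
  choose γ hγ using fun i : ι => MulAction.exists_smul_eq A i0 i
  let c := col 0
  refine ⟨fun m => ∑ i, γ i • ((T (c i) m : (e i0).range) : V), fun a ha x => ?_⟩
  have hblock : ∀ i, ∀ y ∈ (e i0).range, e i (γ i • y) = γ i • y := by
    rintro i _ ⟨z, rfl⟩
    rw [equiv, hγ, idem]
  have hcomp : ∀ i m, e i (∑ j, γ j • ((T (c j) m : (e i0).range) : V)) = γ i • (T (c i) m : V) := by
    intro i m
    rw [map_sum, Finset.sum_eq_single i]
    · exact hblock i _ (T (c i) m).2
    · intro j _ hji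
      rw [← hblock j _ (T (c j) m).2]
      exact orth i j _ hji.symm
    · simp
  have hh : ∀ i, (γ (a • i))⁻¹ * a * γ i ∈ MulAction.stabilizer A i0 := fun i => by
    rw [MulAction.mem_stabilizer_iff, mul_smul, mul_smul, hγ, inv_smul_eq_iff, hγ]
  have hkey : ∀ i, c i = c (a • i) ∧
      ∀ y : (e i0).range, (⟨_, hh i⟩ : MulAction.stabilizer A i0) • y = y := by
    intro i
    refine hT (c i) (c (a • i)) _ fun m => Subtype.ext ?_
    show ((γ (a • i))⁻¹ * a * γ i) • (T (c i) m : V) = (T (c (a • i)) m : V)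
    rw [mul_smul, mul_smul, inv_smul_eq_iff, ← hcomp, equiv, ha m, hcomp]
  obtain ⟨-, hfix⟩ := hcol 0 0 a (fun i => (hkey i).1.symm)
  have hmain : ∀ i, a • e i x = e i x := by
    intro i
    obtain ⟨y, hy⟩ : ∃ y ∈ (e i0).range, γ i • y = e i x :=
      ⟨(γ i)⁻¹ • e i x, ⟨(γ i)⁻¹ • x, by
        rw [equiv, inv_smul_eq_iff.2 (hγ i).symm]⟩, smul_inv_smul _ _⟩
    have hfy := congrArg Subtype.val ((hkey i).2 ⟨y, hy.1⟩)
    change ((γ (a • i))⁻¹ * a * γ i) • y = y at hfy
    rw [hfix i, mul_smul, mul_smul, inv_smul_eq_iff] at hfy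
    rw [← hy.2]
    exact hfy
  conv_lhs => rw [← sum x]
  rw [Finset.smul_sum]
  simp only [hmain]
  exact sum x

theorem pretransitive_of_irr (hirr : Irr A V) (ne : ∀ i, ∃ v, e i v ≠ 0)
    (orth : ∀ i j v, i ≠ j → e i (e j v) = 0) (equiv : ∀ (a : A) i v, a • e i v = e (a • i) (a • v))
    (i0 : ι) : MulAction.IsPretransitive A ι := by
  have hall : ∀ i, i ∈ MulAction.orbit A i0 := by
    intro i
    by_contra hi
    let S : AddSubgroup V :=
      { carrier := {v | ∀ j, j ∉ MulAction.orbit A i0 → e j v = 0}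
        zero_mem' := fun j _ => map_zero _
        add_mem' := fun {x y} hx hy j hj => by rw [map_add, hx j hj, hy j hj, add_zero]
        neg_mem' := fun {x} hx j hj => by rw [map_neg, hx j hj, neg_zero] }
    have hS : ∀ a : A, ∀ v ∈ S, a • v ∈ S := by
      intro a v hv j hj
      have e1 := equiv a (a⁻¹ • j) v
      rw [smul_inv_smul] at e1
      rw [← e1, hv (a⁻¹ • j) (fun h => hj (by simpa using MulAction.mem_orbit_of_mem_orbit a h)), smul_zero]
    obtain ⟨v, hv⟩ := ne i0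
    have hmem : e i0 v ∈ S := fun j hj =>
      orth j i0 v fun h => hj (by rw [h]; exact MulAction.mem_orbit_self i0)
    rcases hirr S hS with h | h
    · rw [h, AddSubgroup.mem_bot] at hmem; exact hv hmem
    · obtain ⟨w, hw⟩ := ne i
      have : w ∈ S := by rw [h]; trivial
      exact hw (this i hi)
  refine ⟨fun x y => ?_⟩
  obtain ⟨g, hg⟩ := MulAction.mem_orbit_iff.1 (hall x)
  obtain ⟨h, hh⟩ := MulAction.mem_orbit_iff.1 (hall y)
  exact ⟨h * g⁻¹, by rw [mul_smul, ← hg, inv_smul_smul, hh]⟩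

theorem irr_block [MulAction.IsPretransitive A ι] (hirr : Irr A V)
    (orth : ∀ i j v, i ≠ j → e i (e j v) = 0) (idem : ∀ i v, e i (e i v) = e i v)
    (equiv : ∀ (a : A) i v, a • e i v = e (a • i) (a • v)) (i0 : ι) :
    letI := restrictAct (e i0).range (range_invariant e equiv i0)
    Irr (MulAction.stabilizer A i0) (e i0).range := by
  letI := restrictAct (e i0).range (range_invariant e equiv i0)
  intro U hU
  by_cases hUb : U = ⊥
  · exact Or.inl hUb
  right
  choose γ hγ using fun i : ι => MulAction.exists_smul_eq A i0 i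
  let S : AddSubgroup V :=
    { carrier := {v | ∀ i, (γ i)⁻¹ • e i v ∈ U.map (e i0).range.subtype}
      zero_mem' := fun i => by rw [map_zero, smul_zero]; exact zero_mem _
      add_mem' := fun {x y} hx hy i => by rw [map_add, smul_add]; exact add_mem (hx i) (hy i)
      neg_mem' := fun {x} hx i => by rw [map_neg, smul_neg]; exact neg_mem (hx i) }
  have hS : ∀ a : A, ∀ v ∈ S, a • v ∈ S := by
    intro a v hv i
    have e1 := equiv a (a⁻¹ • i) v
    rw [smul_inv_smul] at e1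
    rw [← e1]
    have hst : (γ i)⁻¹ * a * γ (a⁻¹ • i) ∈ MulAction.stabilizer A i0 := by
      rw [MulAction.mem_stabilizer_iff, mul_smul, mul_smul, hγ, smul_inv_smul, inv_smul_eq_iff, hγ]
    obtain ⟨x, hx, hxe⟩ := hv (a⁻¹ • i)
    refine ⟨(⟨_, hst⟩ : MulAction.stabilizer A i0) • x, hU _ x hx, ?_⟩
    show ((γ i)⁻¹ * a * γ (a⁻¹ • i)) • (x : V) = _
    rw [show (x : V) = (γ (a⁻¹ • i))⁻¹ • e (a⁻¹ • i) v from hxe, mul_smul, mul_smul, smul_inv_smul]
  obtain ⟨u, hu, hu0⟩ := (AddSubgroup.bot_or_exists_ne_zero U).resolve_left hUb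
  obtain ⟨z, hz⟩ := u.2
  have hst0 : (γ i0)⁻¹ ∈ MulAction.stabilizer A i0 := inv_mem (MulAction.mem_stabilizer_iff.2 (hγ i0))
  rcases hirr S hS with h | h
  · exfalso
    have hmem : (u : V) ∈ S := by
      intro i
      by_cases hi : i = i0
      · subst hi
        refine ⟨(⟨_, hst0⟩ : MulAction.stabilizer A i) • u, hU _ u hu, ?_⟩
        show (γ i)⁻¹ • (u : V) = _
        rw [← hz, idem]
      · rw [← hz, orth i i0 z hi, smul_zero]
        exact zero_mem _
    rw [h, AddSubgroup.mem_bot] at hmem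
    exact hu0 (Subtype.ext hmem)
  · rw [eq_top_iff]
    intro x _
    obtain ⟨y, hy⟩ := x.2
    have hx : (x : V) ∈ S := by rw [h]; trivial
    obtain ⟨w, hw, hwe⟩ := hx i0
    have hst : γ i0 ∈ MulAction.stabilizer A i0 := MulAction.mem_stabilizer_iff.2 (hγ i0)
    have : (⟨_, hst⟩ : MulAction.stabilizer A i0) • w = x := by
      apply Subtype.ext
      show γ i0 • (w : V) = x
      rw [show (w : V) = (γ i0)⁻¹ • e i0 x from hwe, smul_inv_smul, ← hy, idem]
    rw [← this]
    exact hU _ w hw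

end system

end Cfsg.Agent.ThreeVec75
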