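import Mathlib
import Cfsg.Agent.Lib.ThreeVec75Frame
import Cfsg.Agent.Lib.ThreeVec75Five

/-!
The primitive case: a rigid triple from a frame and a rigid colouring.
-/

set_option autoImplicit false
set_option linter.style.haveILetI false

namespace Cfsg.Agent.ThreeVec75

universe u v

open scoped commutatorElement Pointwise

variable {A : Type v} {V : Type u} [Group A] [AddCommGroup V] [DistribMulAction A V]

theorem commute_of_prime_parts {g x : A} [Finite A] {n : ℕ} (hn : Squarefree n) (hx : x ^ n = 1)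
    (h : ∀ r : ℕ, r.Prime → ∀ k : ℕ, (x ^ k) ^ r = 1 → Commute g (x ^ k)) : Commute g x := by
  induction n using Nat.strong_induction_on generalizing x with
  | _ n ih =>
    by_cases h1 : n = 1
    · rw [h1, pow_one] at hx; rw [hx]; exact Commute.one_right g
    obtain ⟨r, hr, hrd⟩ := Nat.exists_prime_and_dvd h1
    obtain ⟨m, rfl⟩ := hrd
    have hm0 : m ≠ 0 := fun e => hn.ne_zero (by rw [e, mul_zero])
    have h2 : Commute g (x ^ r) := ih m
      (lt_mul_of_one_lt_left (Nat.pos_of_ne_zero hm0) hr.one_lt) hn.of_mul_right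
      (by rw [← pow_mul]; exact hx)
      (fun s hs k hk => by
        have := h s hs (r * k)
        rw [pow_mul] at this
        exact this hk)
    have h3 : Commute g (x ^ m) := h r hr m (by rw [← pow_mul, mul_comm]; exact hx)
    have := Nat.gcd_eq_gcd_ab r m
    rw [(Nat.coprime_of_squarefree_mul hn).gcd_eq_one] at this
    have e : x = (x ^ r) ^ (Nat.gcdA r m) * (x ^ m) ^ (Nat.gcdB r m) := by
      rw [← zpow_natCast x r, ← zpow_natCast x m, ← zpow_mul, ← zpow_mul, ← zpow_add, ← this]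
      simp
    rw [e]
    exact (h2.zpow_right _).mul_right (h3.zpow_right _)

/-- The primitive case. -/
theorem good_of_core [Finite A] [Group.IsSolvable A] [FaithfulSMul A V] [Finite V] [Nontrivial V]
    {p : ℕ} [Fact p.Prime] (hp : ∀ v : V, p • v = 0) (K : Core A V) : Good A V := by
  classical
  obtain ⟨D⟩ := exists_bd K
  obtain ⟨v0, hv0⟩ := exists_ne (0 : V)
  by_cases hω : K.ω = 1
  · -- then `B` and the whole group are trivial
    have hUbot : ∀ z ∈ K.U, z = 1 := fun z hz => by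
      obtain ⟨k, hk⟩ := K.ω_gen z hz
      rw [← hk, hω, one_pow]
    have hBU : ∀ b ∈ D.B, b = 1 := fun b hb => hUbot b <| D.self b (fun z hz => D.cent b hb z hz)
      fun c hc => commutatorElement_eq_one_iff_commute.1 (hUbot _ (D.comm b hb c hc))
    have hA : ∀ g : A, g = 1 := fun g => hUbot g <| D.self g
      (fun z hz => by rw [hUbot z hz]; exact Commute.one_right g)
      (fun b hb => by rw [hBU b hb]; exact Commute.one_right g)
    exact ⟨fun _ => v0, fun a _ x => by rw [hA a, one_smul]⟩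
  obtain ⟨F⟩ := exists_frame D hp (Nat.card D.B) D.B le_rfl le_rfl D.le
    (fun s hs h => D.self s (fun z hz => D.cent s hs z hz) h)
  haveI : Fintype F.X := Fintype.ofFinite _
  have hsc : ∀ b ∈ D.B, ∀ z ∈ K.U, Commute b z := D.cent
  have hMd : ∀ m ∈ F.M, m ∈ D.B := F.M_le
  have hXd : ∀ x ∈ F.X, x ∈ D.B := F.X_le
  have hQd : ∀ q ∈ F.Q, q ∈ D.B := F.Q_le
  have hdec : ∀ b ∈ D.B, ∃ x ∈ F.X, ∃ m ∈ F.M, ∃ q ∈ F.Q, b = x * m * q := by
    let T : Subgroup A :=
      { carrier := {b | ∃ x ∈ F.X, ∃ m ∈ F.M, ∃ q ∈ F.Q, b = x * m * q}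
        one_mem' := ⟨1, one_mem _, 1, one_mem _, 1, one_mem _, by simp⟩
        mul_mem' := by
          rintro _ _ ⟨x, hx, m, hm, q, hq, rfl⟩ ⟨x', hx', m', hm', q', hq', rfl⟩
          have hz := D.comm m (hMd m hm) x' (hXd x' hx')
          refine ⟨x * x', mul_mem hx hx', ⁅m, x'⁆ * (m * m'), mul_mem (F.U_M hz) (mul_mem hm hm'),
            q * q', mul_mem hq hq', ?_⟩
          have e : m * x' = x' * (⁅m, x'⁆ * m) := by
            rw [← mul_assoc, (hsc x' (hXd x' hx') _ hz).eq, mul_assoc, commutatorElement_def]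
            group
          calc x * m * q * (x' * m' * q') = x * m * (q * x') * (m' * q') := by simp only [mul_assoc]
            _ = x * m * (x' * q) * (m' * q') := by rw [(F.cXQ x' hx' q hq).eq]
            _ = x * (m * x') * (q * m') * q' := by simp only [mul_assoc]
            _ = x * (x' * (⁅m, x'⁆ * m)) * (m' * q) * q' := by rw [e, (F.cMQ m' hm' q hq).eq]
            _ = _ := by simp only [mul_assoc]
        inv_mem' := by
          rintro _ ⟨x, hx, m, hm, q, hq, rfl⟩
          have hz := D.comm m⁻¹ (inv_mem (hMd m hm)) x⁻¹ (inv_mem (hXd x hx))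
          refine ⟨x⁻¹, inv_mem hx, ⁅m⁻¹, x⁻¹⁆ * m⁻¹, mul_mem (F.U_M hz) (inv_mem hm), q⁻¹, inv_mem hq, ?_⟩
          have e : m⁻¹ * x⁻¹ = x⁻¹ * (⁅m⁻¹, x⁻¹⁆ * m⁻¹) := by
            rw [← mul_assoc, (hsc _ (inv_mem (hXd x hx)) _ hz).eq, mul_assoc, commutatorElement_def]
            group
          have e2 : Commute q⁻¹ (m⁻¹ * x⁻¹) :=
            ((F.cMQ _ (inv_mem hm) _ (inv_mem hq)).symm).mul_right (F.cXQ _ (inv_mem hx) _ (inv_mem hq)).symm
          rw [mul_inv_rev, mul_inv_rev, e2.eq, e, mul_assoc x⁻¹] }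
    intro b hb
    have hle : F.M ⊔ F.X ⊔ F.Q ≤ T := sup_le (sup_le
      (fun m hm => ⟨1, one_mem _, m, hm, 1, one_mem _, by simp⟩)
      (fun x hx => ⟨x, hx, 1, one_mem _, 1, one_mem _, by simp⟩))
      (fun q hq => ⟨1, one_mem _, 1, one_mem _, q, hq, by simp⟩)
    exact hle (F.gen hb)
  -- the eigenspace
  let E : Set V := {v | ∀ m ∈ F.M, ∀ z ∈ K.U, m • F.w = z • F.w → m • v = z • v}
  have hwE : F.w ∈ E := fun m _ z _ h => h
  have hqE : ∀ q ∈ F.Q, ∀ v ∈ E, q • v ∈ E := fun q hq v hv m hm z hz h => by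
    rw [← mul_smul, (F.cMQ m hm q hq).eq, mul_smul, hv m hm z hz h, ← mul_smul,
      (hsc q (hQd q hq) z hz).eq, mul_smul]
  have hzE : ∀ v ∈ E, ∀ z ∈ K.U, ∀ z' ∈ K.U, z • v - z' • v ∈ E := by
    intro v hv z hz z' hz' m hm k hk h
    rw [smul_sub, smul_sub, hqE z (F.U_Q hz) v hv m hm k hk h, hqE z' (F.U_Q hz') v hv m hm k hk h]
  have indep : ∀ s : Finset F.X, ∀ d : F.X → V, (∀ x, d x ∈ E) →
      ∑ x ∈ s, (x : A) • d x = 0 → ∀ x ∈ s, d x = 0 := by
    intro s
    induction s using Finset.induction_on with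
    | empty => simp
    | insert a s has ih =>
      intro d hd hsum
      have hb : ∀ b ∈ s, d b = 0 := by
        intro b hbs
        have hba : (a : A)⁻¹ * b ≠ 1 := fun h => has (by rwa [show a = b from Subtype.ext (inv_mul_eq_one.1 h)])
        obtain ⟨m, hm, hmc⟩ : ∃ m ∈ F.M, ¬ Commute ((a : A)⁻¹ * b) m := by
          by_contra h; push Not at h
          exact hba (F.hXM _ (mul_mem (inv_mem a.2) b.2) h)
        obtain ⟨z, hz, hzw⟩ := F.eig m hm
        let k : F.X → A := fun x => ⁅m, (x : A)⁆ * z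
        have hkU : ∀ x : F.X, k x ∈ K.U := fun x => mul_mem (D.comm m (hMd m hm) x (hXd x x.2)) hz
        have hmx : ∀ x : F.X, ∀ v ∈ E, m • (x : A) • v = k x • (x : A) • v := by
          intro x v hv
          have e : m * (x : A) = ⁅m, (x : A)⁆ * x * m := by rw [commutatorElement_def]; group
          rw [← mul_smul, e, mul_smul, hv m hm z hz hzw, ← mul_smul, ← mul_smul]
          congr 1
          show ⁅m, (x : A)⁆ * x * z = ⁅m, (x : A)⁆ * z * x
          rw [mul_assoc, (hsc x (hXd x x.2) z hz).eq, ← mul_assoc]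
        let d' : F.X → V := fun x => k x • d x - k a • d x
        have hterm : ∀ x : F.X, (x : A) • d' x = m • (x : A) • d x - k a • (x : A) • d x := by
          intro x
          rw [hmx x _ (hd x)]
          simp only [d', smul_sub, ← mul_smul, (hsc x (hXd x x.2) _ (hkU x)).eq,
            (hsc x (hXd x x.2) _ (hkU a)).eq]
        have h0 : ∑ x ∈ s, (x : A) • d' x = 0 := by
          have e : ∑ x ∈ insert a s, (x : A) • d' x = 0 := by
            simp only [hterm, Finset.sum_sub_distrib, ← Finset.smul_sum, hsum, smul_zero, sub_self]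
          rw [Finset.sum_insert has] at e
          simpa [d'] using e
        have := ih d' (fun x => hzE _ (hd x) _ (hkU x) _ (hkU a)) h0 b hbs
        by_contra hne
        apply hmc
        have e2 : ⁅m, (b : A)⁆ = ⁅m, (a : A)⁆ :=
          mul_right_cancel (K.free _ (hkU b) _ (hkU a) _ hne (sub_eq_zero.1 this))
        have e3 : (b : A) * m⁻¹ * (b : A)⁻¹ = (a : A) * m⁻¹ * (a : A)⁻¹ := by
          simpa [commutatorElement_def, mul_assoc] using e2
        have e4 : ((a : A)⁻¹ * b) * m⁻¹ = m⁻¹ * ((a : A)⁻¹ * b) := by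
          calc ((a : A)⁻¹ * b) * m⁻¹ = (a : A)⁻¹ * ((b : A) * m⁻¹ * (b : A)⁻¹) * b := by group
            _ = (a : A)⁻¹ * ((a : A) * m⁻¹ * (a : A)⁻¹) * b := by rw [e3]
            _ = _ := by group
        simpa using Commute.inv_right (show Commute ((a : A)⁻¹ * b) m⁻¹ from e4)
      intro x hx
      rcases Finset.mem_insert.1 hx with rfl | hx
      · rw [Finset.sum_insert has, Finset.sum_eq_zero (fun b hbs => by rw [hb b hbs, smul_zero]), add_zero]
          at hsum
        exact (smul_eq_zero_iff_eq _).1 hsum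
      · exact hb x hx
  have indep_eq : ∀ d d' : F.X → V, (∀ x, d x ∈ E) → (∀ x, d' x ∈ E) →
      ∑ x : F.X, (x : A) • d x = ∑ x : F.X, (x : A) • d' x → ∀ x, d x = d' x := by
    intro d d' hd hd' h x
    have := indep Finset.univ (fun x => d x - d' x)
      (fun x m hm z hz he => by rw [smul_sub, smul_sub, hd x m hm z hz he, hd' x m hm z hz he])
      (by simp only [smul_sub, Finset.sum_sub_distrib, h, sub_self]) x (Finset.mem_univ x)
    exact sub_eq_zero.1 this
  have h0E : (0 : V) ∈ E := fun m _ z _ _ => by rw [smul_zero, smul_zero]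
  -- freeness of `Q`
  have hQfree : ∀ q ∈ F.Q, ∀ q' ∈ F.Q, q • F.w = q' • F.w → q = q' := by
    intro q hq q' hq' he
    have hfix : (q'⁻¹ * q) • F.w = F.w := by rw [mul_smul, he, inv_smul_smul]
    have hmem : q'⁻¹ * q ∈ F.Q := mul_mem (inv_mem hq') hq
    suffices q'⁻¹ * q = 1 from (inv_mul_eq_one.1 this).symm
    by_cases hU : q'⁻¹ * q ∈ K.U
    · exact K.fix_eq_one hU F.w_ne hfix
    exfalso
    rcases F.hQ with hQ | ⟨i, -, j, -, -, -, -, hns, hsq, -⟩
    · exact hU (hQ ▸ hmem)
    obtain ⟨z, hz, hzz⟩ := hsq _ hmem hU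
    refine hns z hz (K.free _ (mul_mem hz hz) _ K.ε_mem _ F.w_ne ?_)
    have hc : Commute (q'⁻¹ * q) z := hsc _ (hQd _ hmem) z hz
    calc (z * z) • F.w = (z * z) • (q'⁻¹ * q) • (q'⁻¹ * q) • F.w := by rw [hfix, hfix]
      _ = ((q'⁻¹ * q * z) * (q'⁻¹ * q * z)) • F.w := by
        rw [← mul_smul, ← mul_smul]
        congr 1
        generalize q'⁻¹ * q = u at hc ⊢
        rw [mul_assoc u z, ← mul_assoc z u, ← hc.eq, mul_assoc u z, ← mul_assoc u u]
        rw [mul_assoc (z * z) u u]
        exact ((hc.mul_left hc).mul_right (hc.mul_left hc)).eq.symm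
      _ = K.ε • F.w := by rw [hzz]
  -- stabiliser of `w` in `B`
  have L1 : ∀ b ∈ D.B, (∃ z ∈ K.U, b • F.w = z • F.w) → b ∈ F.M := by
    intro b hb hbw
    obtain ⟨z, hz, hzw⟩ := hbw
    obtain ⟨x, hx, m, hm, q, hq, rfl⟩ := hdec b hb
    obtain ⟨z', hz', hzw'⟩ := F.eig m hm
    have he : x • ((q * z') • F.w) = z • F.w := by
      rw [← hzw, mul_smul (x * m) q, mul_smul x m, ← mul_smul m q, (F.cMQ m hm q hq).eq, mul_smul q m,
        hzw', mul_smul]
    have hx1 : x = 1 := by
      by_contra hne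
      have := indep_eq (fun y => if (y : A) = x then (q * z') • F.w else 0)
        (fun y => if (y : A) = 1 then z • F.w else 0)
        (fun y => by split_ifs <;> first | exact hqE _ (mul_mem hq (F.U_Q hz')) _ hwE | exact h0E)
        (fun y => by split_ifs <;> first | exact hqE _ (F.U_Q hz) _ hwE | exact h0E)
        (by
          rw [Finset.sum_eq_single (⟨x, hx⟩ : F.X), Finset.sum_eq_single (1 : F.X)]
          · simpa using he
          · intro y _ hy; simp [show (y : A) ≠ 1 from fun h => hy (Subtype.ext h)]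
          · simp
          · intro y _ hy; simp [show (y : A) ≠ x from fun h => hy (Subtype.ext h)]
          · simp) ⟨x, hx⟩
      simp only [if_true, if_neg hne] at this
      exact F.w_ne ((smul_eq_zero_iff_eq _).1 this)
    subst hx1
    rw [one_smul] at he
    have hqz := hQfree _ (mul_mem hq (F.U_Q hz')) _ (F.U_Q hz) he
    have hqU : q ∈ K.U := by rw [eq_mul_inv_of_mul_eq hqz]; exact mul_mem hz (inv_mem hz')
    rw [one_mul]
    exact mul_mem hm (F.U_M hqU)
  let v2 : V := ∑ x : F.X, (x : A) • F.w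
  -- stabiliser of `v2` in `B`
  have L2 : ∀ b ∈ D.B, b • v2 = v2 → b ∈ F.X := by
    intro b hb hbv
    obtain ⟨x, hx, m, hm, q, hq, rfl⟩ := hdec b hb
    obtain ⟨z, hz, hzw⟩ := F.eig m hm
    have hk : ∀ y : F.X, ⁅m, (y : A)⁆ * (z * q) ∈ F.Q := fun y =>
      mul_mem (F.U_Q (D.comm m (hMd m hm) y (hXd y y.2))) (mul_mem (F.U_Q hz) hq)
    have heq : ∀ y : F.X, (⁅m, (y : A)⁆ * (z * q)) • F.w = F.w := by
      refine indep_eq (fun y => (⁅m, (y : A)⁆ * (z * q)) • F.w) (fun _ => F.w)
        (fun y => hqE _ (hk y) _ hwE) (fun _ => hwE) ?_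
      refine smul_left_cancel x ?_
      show x • ∑ y : F.X, (y : A) • (⁅m, (y : A)⁆ * (z * q)) • F.w = x • v2
      have hxm : ∀ y : F.X, (x * m * q) • ((y : A) • F.w) =
          x • ((y : A) • ((⁅m, (y : A)⁆ * (z * q)) • F.w)) := by
        intro y
        have e : m * (y : A) = (y : A) * ⁅m, (y : A)⁆ * m := by
          rw [(hsc _ (hXd y y.2) _ (D.comm m (hMd m hm) y (hXd y y.2))).eq, commutatorElement_def]; group
        have e2 : x * m * q * (y : A) = x * (y : A) * ⁅m, (y : A)⁆ * (q * m) := by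
          rw [mul_assoc _ q, ← (F.cXQ y y.2 q hq).eq, ← (F.cMQ m hm q hq).eq]
          calc x * m * ((y : A) * q) = x * (m * (y : A)) * q := by simp only [mul_assoc]
            _ = x * ((y : A) * ⁅m, (y : A)⁆ * m) * q := by rw [e]
            _ = _ := by simp only [mul_assoc]
        rw [← mul_smul, e2]
        simp only [mul_smul]
        rw [hzw, ← mul_smul q z, (hsc q (hQd q hq) z hz).eq, mul_smul]
      have hre : x • v2 = v2 := by
        simp only [v2, Finset.smul_sum, ← mul_smul]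
        exact Fintype.sum_equiv (Equiv.mulLeft (⟨x, hx⟩ : F.X)) _ _ (fun y => rfl)
      rw [hre]
      conv_rhs => rw [← hbv]
      simp only [v2, Finset.smul_sum, hxm]
    have h1 := heq 1
    rw [Subgroup.coe_one, commutatorElement_one_right, one_mul] at h1
    have hzq : z * q = 1 := hQfree _ (mul_mem (F.U_Q hz) hq) 1 (one_mem _) (by rw [h1, one_smul])
    have hmU : m ∈ K.U := F.hMX m hm fun y hy => by
      have h2 := heq ⟨y, hy⟩
      rw [hzq, mul_one] at h2
      exact commutatorElement_eq_one_iff_commute.1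
        (K.fix_eq_one (D.comm m (hMd m hm) y (hXd y hy)) F.w_ne h2)
    have hzm : z = m := (K.free z hz m hmU _ F.w_ne hzw.symm)
    subst hzm
    rw [mul_assoc, hzq, mul_one]
    exact hx
  have hv2x : ∀ x ∈ F.X, x • v2 = v2 := by
    intro x hx
    simp only [v2, Finset.smul_sum, ← mul_smul]
    exact Fintype.sum_equiv (Equiv.mulLeft (⟨x, hx⟩ : F.X)) _ _ (fun y => rfl)
  -- the two special scalars
  obtain ⟨a, haQ, b, hbQ, hb1, hab⟩ : ∃ a ∈ F.Q, ∃ b ∈ F.Q, b ≠ 1 ∧ ∀ g : A, g * a * g⁻¹ = a →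
      g * b * g⁻¹ = b → (∀ q ∈ F.Q, g * q * g⁻¹ ∈ F.Q) → ∀ q ∈ F.Q, Commute g q := by
    have cm : ∀ g c : A, g * c * g⁻¹ = c → Commute g c := fun g c h => mul_inv_eq_iff_eq_mul.1 h
    rcases F.hQ with hQ | ⟨i, hi, j, hj, hii, hjj, hij, hns, hsq, hgen⟩
    · refine ⟨K.ω, F.U_Q K.ω_mem, K.ω, F.U_Q K.ω_mem, hω, fun g ha _ _ q hq => ?_⟩
      rw [hQ] at hq
      obtain ⟨k, rfl⟩ := K.ω_gen q hq
      exact (cm g _ ha).pow_right k
    refine ⟨i * K.ω, mul_mem hi (F.U_Q K.ω_mem), j, hj, fun h => ?_, fun g ha hb hQg => ?_⟩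
    · exact hij (by rw [h]; exact Commute.one_right i)
    have hω' : g * K.ω * g⁻¹ ∈ K.U := K.normal.conj_mem _ K.ω_mem g
    set i' := g * i * g⁻¹ with hi'
    set ω' := g * K.ω * g⁻¹ with hωdef
    have e : i' * ω' = i * K.ω := by rw [← ha, hi', hωdef]; group
    let u := K.ω * ω'⁻¹
    have hu : u ∈ K.U := mul_mem K.ω_mem (inv_mem hω')
    have ei : i' = i * u := by rw [eq_mul_inv_of_mul_eq e, mul_assoc]
    have hgε : g * K.ε * g⁻¹ = K.ε := eq_of_smul_eq_smul (α := V) fun v => by
      rw [mul_smul, mul_smul, K.ε_smul, K.ε_smul, smul_neg, smul_inv_smul]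
    have hii' : i' * i' = K.ε := by rw [hi', ← hgε, ← hii]; group
    have hu2 : u * u = 1 := by
      have hc : Commute i u := hsc i (hQd i hi) u hu
      rw [ei, mul_assoc i u, ← mul_assoc u i, ← hc.eq, mul_assoc i u, ← mul_assoc i i, hii] at hii'
      exact mul_eq_left.1 hii'
    have hω1 : ω' = K.ω := by
      rcases K.sq_one hu hu2 with h | h
      · exact (mul_inv_eq_one.1 h).symm
      exfalso
      have hω'' : K.ω = K.ε * ω' := by rw [← h]; simp [u]
      obtain ⟨e', he'⟩ := K.ω_gen _ K.ε_mem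
      have hodd : e' % 2 = 1 := by
        by_contra hne
        exact hns _ (pow_mem K.ω_mem (e' / 2))
          (by rw [← pow_add, show e' / 2 + e' / 2 = e' by omega, he'])
      have hc : Commute K.ε ω' := K.comm _ K.ε_mem _ hω'
      have h1 : K.ω ^ e' = K.ε ^ e' * ω' ^ e' := by
        conv_lhs => rw [hω'']
        exact hc.mul_pow e'
      rw [show ω' ^ e' = K.ε by rw [hωdef, conj_pow, he', hgε], he'] at h1
      have h2 : K.ε ^ e' = K.ε := by
        rw [← Nat.div_add_mod e' 2, hodd, pow_add, pow_mul, pow_two, K.ε_sq, one_pow, one_mul, pow_one]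
      rw [h2, K.ε_sq] at h1
      exact hns 1 (one_mem _) (by rw [one_mul, h1])
    have hgω : Commute g K.ω := cm g _ hω1
    refine hgen g (fun z hz => ?_) (cm g i ?_) (cm g j hb)
    · obtain ⟨k, rfl⟩ := K.ω_gen z hz
      exact hgω.pow_right k
    · rw [← hi', ei]; simp only [u, hω1, mul_inv_cancel, mul_one]
  -- the pair stabiliser acts on `X`
  let Kp : Subgroup A := MulAction.stabilizer A F.w ⊓ MulAction.stabilizer A v2
  have hKX : ∀ g ∈ Kp, ∀ x ∈ F.X, g * x * g⁻¹ ∈ F.X := fun g hg x hx =>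
    L2 _ (D.normal.conj_mem x (hXd x hx) g) (by
      rw [mul_smul, mul_smul, inv_smul_eq_iff.2 (MulAction.mem_stabilizer_iff.1 hg.2).symm, hv2x x hx,
        MulAction.mem_stabilizer_iff.1 hg.2])
  have lab : ∀ r : ℕ, r.Prime → ∃ c : A → Fin 3, c 1 = 0 ∧
      ((∃ x ∈ F.X, x ^ r = 1 ∧ x ≠ 1) → ∃ x ∈ F.X, x ^ r = 1 ∧ x ≠ 1 ∧ c x = 1) ∧
      ∀ g ∈ Kp, (∀ x ∈ F.X, x ^ r = 1 → c (g * x * g⁻¹) = c x) →
        ∀ x ∈ F.X, x ^ r = 1 → Commute g x := by
    intro r hr
    haveI := Fact.mk hr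
    let Xr : Subgroup A :=
      { carrier := {x | x ∈ F.X ∧ x ^ r = 1}
        one_mem' := ⟨one_mem _, one_pow r⟩
        mul_mem' := fun {x y} hx hy => ⟨mul_mem hx.1 hy.1, by
          rw [(F.cX x hx.1 y hy.1).mul_pow, hx.2, hy.2, one_mul]⟩
        inv_mem' := fun {x} hx => ⟨inv_mem hx.1, by rw [inv_pow, hx.2, inv_one]⟩ }
    letI : CommGroup Xr := { (inferInstance : Group Xr) with
      mul_comm := fun x y => Subtype.ext (F.cX x x.2.1 y y.2.1).eq }
    letI : Module (ZMod r) (Additive Xr) := AddCommGroup.zmodModule (n := r) fun x => by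
      apply Additive.toMul.injective
      rw [toMul_nsmul, toMul_zero]
      exact Subtype.ext (Additive.toMul x).2.2
    letI : DistribMulAction Kp (Additive Xr) :=
      { smul := fun g x => Additive.ofMul (⟨(g : A) * (Additive.toMul x : Xr) * (g : A)⁻¹,
          ⟨hKX g g.2 _ (Additive.toMul x).2.1, by rw [conj_pow, (Additive.toMul x).2.2]; simp⟩⟩ : Xr)
        one_smul := fun x => Additive.toMul.injective (Subtype.ext (by
          show (1 : A) * _ * (1 : A)⁻¹ = _
          simp))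
        mul_smul := fun g h x => Additive.toMul.injective (Subtype.ext (by
          show ((g : A) * (h : A)) * _ * ((g : A) * (h : A))⁻¹ = (g : A) * ((h : A) * _ * (h : A)⁻¹) * (g : A)⁻¹
          group))
        smul_zero := fun g => Additive.toMul.injective (Subtype.ext (by
          show (g : A) * 1 * (g : A)⁻¹ = 1
          simp))
        smul_add := fun g x y => Additive.toMul.injective (Subtype.ext (by
          show (g : A) * ((Additive.toMul x : Xr) * (Additive.toMul y : Xr)) * (g : A)⁻¹ =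
            ((g : A) * (Additive.toMul x : Xr) * (g : A)⁻¹) * ((g : A) * (Additive.toMul y : Xr) * (g : A)⁻¹)
          group)) }
    obtain ⟨c, hc0, hc1, hc⟩ := exists_lab (r := r) (X := Additive Xr) (K := Kp)
    refine ⟨fun x => if h : x ∈ Xr then c (Additive.ofMul ⟨x, h⟩) else 0, ?_, ?_, ?_⟩
    · simp only [dif_pos (one_mem Xr)]
      exact hc0
    · rintro ⟨x, hx, hxr, hx1⟩
      obtain ⟨y, hy0, hy⟩ := hc1 ⟨Additive.ofMul ⟨x, hx, hxr⟩, fun h => hx1
        (congrArg Subtype.val (Additive.ofMul.injective (h.trans ofMul_one.symm)))⟩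
      refine ⟨((Additive.toMul y : Xr) : A), (Additive.toMul y).2.1, (Additive.toMul y).2.2,
        fun h => hy0 (Additive.toMul.injective (Subtype.ext h)), ?_⟩
      simp only [dif_pos (Additive.toMul y).2]
      exact hy
    · intro g hg hpres x hx hxr
      have := hc ⟨g, hg⟩ (fun y => by
        have := hpres _ (Additive.toMul y).2.1 (Additive.toMul y).2.2
        simp only [dif_pos (Additive.toMul y).2,
          dif_pos (show g * ((Additive.toMul y : Xr) : A) * g⁻¹ ∈ Xr from
            ⟨hKX g hg _ (Additive.toMul y).2.1, by rw [conj_pow, (Additive.toMul y).2.2]; simp⟩)] at this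
        exact this) (Additive.ofMul ⟨x, hx, hxr⟩)
      exact mul_inv_eq_iff_eq_mul.1 (congrArg Subtype.val (congrArg Additive.toMul this))
  choose col hcol0 hcol1 hcol using lab
  let label : A → Fin 3 := fun x => if h : ∃ r : ℕ, r.Prime ∧ x ^ r = 1 then col h.choose h.choose_spec.1 x else 0
  have hlabel : ∀ r (hr : r.Prime) x, x ^ r = 1 → x ≠ 1 → label x = col r hr x := by
    intro r hr x hxr hx1
    have h : ∃ r : ℕ, r.Prime ∧ x ^ r = 1 := ⟨r, hr, hxr⟩
    have e : h.choose = r := by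
      haveI := Fact.mk hr
      haveI := Fact.mk h.choose_spec.1
      rw [← orderOf_eq_prime h.choose_spec.2 hx1, orderOf_eq_prime hxr hx1]
    simp only [label, dif_pos h]
    congr 1
  let pal : Fin 3 → V := ![0, b • F.w, F.w]
  let val : F.X → V := fun x => if x = 1 then a • F.w else pal (label x)
  have hpalE : ∀ l, pal l ∈ E := by
    intro l; fin_cases l
    · exact h0E
    · exact hqE b hbQ _ hwE
    · exact hwE
  have hvalE : ∀ x, val x ∈ E := fun x => by
    simp only [val]; split_ifs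
    · exact hqE a haQ _ hwE
    · exact hpalE _
  let t2 : V := if F.X = ⊥ then b • F.w else v2
  let v3 : V := ∑ x : F.X, (x : A) • val x
  refine ⟨![F.w, t2, v3], fun g hg => ?_⟩
  have hgw : g • F.w = F.w := hg 0
  have hgv2 : g • v2 = v2 := by
    by_cases hX : F.X = ⊥
    · have e : v2 = F.w := by
        show ∑ x : F.X, (x : A) • F.w = F.w
        rw [Finset.sum_eq_single (1 : F.X)]
        · simp
        · intro x _ hx
          exact absurd (Subtype.ext ((Subgroup.eq_bot_iff_forall _).1 hX x x.2)) hx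
        · simp
      rw [e]; exact hgw
    · have := hg 1
      simp only [t2, if_neg hX] at this
      exact this
  have hgv3 : g • v3 = v3 := hg 2
  have hgKp : g ∈ Kp := ⟨hgw, hgv2⟩
  have hgi : g⁻¹ • F.w = F.w := inv_smul_eq_iff.2 hgw.symm
  have hM : ∀ h : A, h • F.w = F.w → ∀ m ∈ F.M, h * m * h⁻¹ ∈ F.M := by
    intro h hh m hm
    obtain ⟨z, hz, hzw⟩ := F.eig m hm
    refine L1 _ (D.normal.conj_mem m (hMd m hm) h) ⟨h * z * h⁻¹, K.normal.conj_mem z hz h, ?_⟩
    simp only [mul_smul, inv_smul_eq_iff.2 hh.symm, hzw]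
  have hX' : ∀ x ∈ F.X, g⁻¹ * x * g ∈ F.X := fun x hx => by
    simpa using hKX g⁻¹ (inv_mem hgKp) x hx
  have hM' : ∀ m ∈ F.M, g⁻¹ * m * g ∈ F.M := fun m hm => by simpa using hM g⁻¹ hgi m hm
  have hQ' : ∀ q ∈ F.Q, g * q * g⁻¹ ∈ F.Q := by
    intro q hq
    obtain ⟨x, hx, m, hm, q', hq', e⟩ := hdec _ (D.normal.conj_mem q (hQd q hq) g)
    have cX : ∀ y ∈ F.X, Commute (g * q * g⁻¹) y := fun y hy => by
      have := (F.cXQ _ (hX' y hy) q hq).symm.map (MulAut.conj g).toMonoidHom
      simpa [MulAut.conj_apply, mul_assoc] using this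
    have cM : ∀ y ∈ F.M, Commute (g * q * g⁻¹) y := fun y hy => by
      have := (F.cMQ _ (hM' y hy) q hq).symm.map (MulAut.conj g).toMonoidHom
      simpa [MulAut.conj_apply, mul_assoc] using this
    rw [e] at cX cM ⊢
    have hmU : m ∈ K.U := F.hMX m hm fun y hy => by
      have h1 : Commute (x * m * q') y := cX y hy
      have h2 : Commute x y := F.cX x hx y hy
      have h3 : Commute q' y := (F.cXQ y hy q' hq').symm
      have := (h2.inv_left.mul_left h1).mul_left h3.inv_left
      simpa [mul_assoc] using this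
    have hx1 : x = 1 := F.hXM x hx fun y hy => by
      have h1 : Commute (x * m * q') y := cM y hy
      have h2 : Commute m y := F.cM m hm y hy
      have h3 : Commute q' y := (F.cMQ y hy q' hq').symm
      have := (h1.mul_left h3.inv_left).mul_left h2.inv_left
      simpa [mul_assoc] using this
    rw [hx1, one_mul]
    exact mul_mem (F.U_Q hmU) hq'
  have hgq : ∀ q : A, g • q • F.w = (g * q * g⁻¹) • F.w := fun q => by
    simp only [mul_smul, hgi]
  have hgpal : ∀ l, g • pal l ∈ E := by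
    intro l; fin_cases l
    · show g • (0 : V) ∈ E; rw [smul_zero]; exact h0E
    · show g • b • F.w ∈ E; rw [hgq]; exact hqE _ (hQ' b hbQ) _ hwE
    · show g • F.w ∈ E; rw [hgw]; exact hwE
  let cx : F.X ≃ F.X :=
    { toFun := fun x => ⟨g * x * g⁻¹, hKX g hgKp x x.2⟩
      invFun := fun x => ⟨g⁻¹ * x * g, hX' x x.2⟩
      left_inv := fun x => Subtype.ext (by simp [mul_assoc])
      right_inv := fun x => Subtype.ext (by simp [mul_assoc]) }
  have hcomp : ∀ x : F.X, g • val x = val (cx x) := by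
    have key := indep_eq (fun y => g • val (cx.symm y)) val
      (fun y => by
        simp only [val]; split_ifs
        · rw [hgq]; exact hqE _ (hQ' a haQ) _ hwE
        · exact hgpal _) hvalE (by
        refine Eq.trans ?_ hgv3
        show _ = g • v3
        simp only [v3, Finset.smul_sum]
        refine (Fintype.sum_equiv cx (fun x => g • (x : A) • val x) _ fun x => ?_).symm
        rw [Equiv.symm_apply_apply, ← mul_smul, ← mul_smul]
        congr 1
        show g * (x : A) = g * x * g⁻¹ * g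
        group)
    intro x
    simpa using key (cx x)
  have hcx1 : cx 1 = 1 := Subtype.ext (by show g * (1 : A) * g⁻¹ = 1; simp)
  have hga : g * a * g⁻¹ = a := by
    have := hcomp 1
    rw [hcx1] at this
    simp only [val, if_true] at this
    rw [hgq] at this
    exact hQfree _ (hQ' a haQ) _ haQ this
  have hpres : ∀ x : F.X, x ≠ 1 → label (cx x : A) = label (x : A) ∧ (label (x : A) = 1 → g * b * g⁻¹ = b) := by
    intro x hx
    have hne : cx x ≠ 1 := fun h => hx (cx.injective (h.trans hcx1.symm))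
    have e := hcomp x
    simp only [val, if_neg hx, if_neg hne] at e
    generalize label (cx x : A) = l1 at e ⊢
    generalize label (x : A) = l0 at e ⊢
    have bne : b • F.w ≠ 0 := fun h => F.w_ne ((smul_eq_zero_iff_eq b).1 h)
    have gne : (g * b * g⁻¹) • F.w ≠ 0 := fun h => F.w_ne ((smul_eq_zero_iff_eq _).1 h)
    have bw : b • F.w ≠ F.w := fun h => hb1 (hQfree b hbQ 1 (one_mem _) (h.trans (one_smul A F.w).symm))
    have gbw : (g * b * g⁻¹) • F.w ≠ F.w := fun h => by
      have := hQfree _ (hQ' b hbQ) 1 (one_mem _) (h.trans (one_smul A F.w).symm)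
      exact hb1 (by simpa using this)
    have h3 : ∀ l : Fin 3, l = 0 ∨ l = 1 ∨ l = 2 := by decide
    obtain rfl | rfl | rfl := h3 l0 <;> obtain rfl | rfl | rfl := h3 l1 <;>
      simp only [pal, Matrix.cons_val_zero, Matrix.cons_val_one, Matrix.cons_val, smul_zero, hgw, hgq,
        Fin.isValue] at e <;>
      first
      | exact ⟨rfl, fun h => absurd h (by decide)⟩
      | exact ⟨rfl, fun _ => hQfree _ (hQ' b hbQ) _ hbQ e⟩
      | exact absurd e.symm bne
      | exact absurd e.symm F.w_ne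
      | exact absurd e gne
      | exact absurd e gbw
      | exact absurd e F.w_ne
      | exact absurd e.symm bw
  have hgX : ∀ x ∈ F.X, Commute g x := by
    intro x hx
    obtain ⟨n, hn, hxn⟩ := D.sqf x (hXd x hx)
    have hxn' : x ^ n = 1 := F.hXM _ (pow_mem hx n) fun m hm => (hsc m (hMd m hm) _ hxn).symm
    refine commute_of_prime_parts hn hxn' fun r hr k hk => ?_
    refine hcol r hr g hgKp (fun y hy hyr => ?_) _ (pow_mem hx k) hk
    by_cases hy1 : y = 1
    · subst hy1; simp
    have h1 : (g * y * g⁻¹) ^ r = 1 := by rw [conj_pow, hyr]; simp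
    have h2 : g * y * g⁻¹ ≠ 1 := fun h => hy1 (by simpa using h)
    rw [← hlabel r hr y hyr hy1, ← hlabel r hr _ h1 h2]
    exact (hpres ⟨y, hy⟩ (fun h => hy1 (congrArg Subtype.val h))).1
  have hgb : g * b * g⁻¹ = b := by
    by_cases hX : F.X = ⊥
    · have := hg 1
      simp only [Matrix.cons_val_one, Matrix.cons_val_zero, t2, if_pos hX] at this
      rw [hgq] at this
      exact hQfree _ (hQ' b hbQ) _ hbQ this
    obtain ⟨x, hx, hx1⟩ : ∃ x ∈ F.X, x ≠ 1 := by
      by_contra h; push Not at h; exact hX ((Subgroup.eq_bot_iff_forall _).2 h)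
    obtain ⟨r, hr, hrd⟩ := Nat.exists_prime_and_dvd (n := orderOf x) (mt orderOf_eq_one_iff.1 hx1)
    obtain ⟨y, hy, hyr, hy1, hyl⟩ := hcol1 r hr ⟨x ^ (orderOf x / r), pow_mem hx _,
      by rw [← pow_mul, Nat.div_mul_cancel hrd, pow_orderOf_eq_one], fun h => by
        have := Nat.le_of_dvd (Nat.div_pos (Nat.le_of_dvd (orderOf_pos x) hrd) hr.pos)
          (orderOf_dvd_of_pow_eq_one h)
        exact absurd this (not_le.2 (Nat.div_lt_self (orderOf_pos x) hr.one_lt))⟩
    exact (hpres ⟨y, hy⟩ (fun h => hy1 (congrArg Subtype.val h))).2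
      ((hlabel r hr y hyr hy1).trans hyl)
  have hgQ := hab g hga hgb hQ'
  have hgU : ∀ z ∈ K.U, Commute g z := fun z hz => hgQ z (F.U_Q hz)
  have hgM : ∀ m ∈ F.M, Commute g m := by
    intro m hm
    have hmem : g * m * g⁻¹ * m⁻¹ ∈ F.M := mul_mem (hM g hgw m hm) (inv_mem hm)
    have hzU : g * m * g⁻¹ * m⁻¹ ∈ K.U := F.hMX _ hmem fun x hx => by
      rw [← commutatorElement_eq_one_iff_commute]
      have hgx : g * x * g⁻¹ = x := by rw [(hgX x hx).eq, mul_inv_cancel_right]
      have hcU := D.comm m (hMd m hm) x (hXd x hx)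
      have e1 : ⁅g * m * g⁻¹, x⁆ = ⁅m, x⁆ := by
        conv_lhs => rw [← hgx]
        rw [show ⁅g * m * g⁻¹, g * x * g⁻¹⁆ = g * ⁅m, x⁆ * g⁻¹ by
          simp only [commutatorElement_def]; group, (hgU _ hcU).eq, mul_inv_cancel_right]
      rw [D.comm_mul_left (hMd _ (hM g hgw m hm)) (inv_mem (hMd m hm)) (hXd x hx), e1,
        ← D.comm_mul_left (hMd m hm) (inv_mem (hMd m hm)) (hXd x hx), mul_inv_cancel,
        commutatorElement_one_left]
    obtain ⟨z, hz, hzw⟩ := F.eig m hm
    have e : (g * m * g⁻¹ * m⁻¹) • F.w = F.w := by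
      have h1 : m⁻¹ • F.w = z⁻¹ • F.w := by
        rw [inv_smul_eq_iff, ← mul_smul, (hsc m (hMd m hm) _ (inv_mem hz)).eq, mul_smul, hzw, inv_smul_smul]
      rw [mul_smul, h1, ← mul_smul, (hsc _ (D.normal.conj_mem m (hMd m hm) g) _ (inv_mem hz)).eq,
        mul_smul, mul_smul, mul_smul, hgi, hzw, ← mul_smul g z, (hgU z hz).eq, mul_smul, hgw, inv_smul_smul]
    exact mul_inv_eq_iff_eq_mul.1 (mul_inv_eq_one.1 (K.fix_eq_one hzU F.w_ne e))
  have hgB : g ∈ K.U := D.self g hgU fun c hc => by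
    obtain ⟨x, hx, m, hm, q, hq, rfl⟩ := hdec c hc
    exact ((hgX x hx).mul_right (hgM m hm)).mul_right (hgQ q hq)
  intro v
  rw [K.fix_eq_one hgB F.w_ne hgw, one_smul]

end Cfsg.Agent.ThreeVec75
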