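import Mathlib
import Cfsg.Agent.Lib.ThreeVec75Lift
import Cfsg.Agent.Lib.ThreeVec75Prim

/-!
Solvable completely reducible groups have rigid triples.
-/

set_option autoImplicit false
set_option linter.style.haveILetI false

namespace Cfsg.Agent.ThreeVec75

universe u v

section image

variable {A : Type v} {V : Type u} [Group A] [AddCommGroup V] [DistribMulAction A V]

theorem exists_image [Group.IsSolvable A] :
    ∃ G : Subgroup (AddMonoid.End V)ˣ, Group.IsSolvable G ∧ (∀ g : G, ∃ a : A, ∀ v : V, g • v = a • v) ∧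
      ∀ a : A, ∃ g : G, ∀ v : V, a • v = g • v := by
  let f : A →* (AddMonoid.End V)ˣ := (DistribMulAction.toAddMonoidEnd A V).toHomUnits
  refine ⟨f.range, solvable_of_surjective f.rangeRestrict_surjective, ?_, fun a => ⟨f.rangeRestrict a, fun v => rfl⟩⟩
  rintro ⟨_, a, rfl⟩
  exact ⟨a, fun v => rfl⟩

end image

section irreducible

variable {V : Type u} [AddCommGroup V] [Finite V]

/-- The hypothesis of the induction. -/
def Below (V : Type u) [AddCommGroup V] : Prop :=
  ∀ (W : Type u) [AddCommGroup W] [Finite W], Nat.card W < Nat.card V →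
    ∀ (H : Type u) [Group H] [Finite H] [Group.IsSolvable H] [DistribMulAction H W],
      CR H W → Good H W

theorem exists_pow_idem {R : Type*} [Monoid R] [Finite R] (x : R) :
    ∃ k : ℕ, 0 < k ∧ x ^ k * x ^ k = x ^ k := by
  obtain ⟨i, j, hij, h⟩ := Finite.exists_ne_map_eq_of_infinite (fun n : ℕ => x ^ n)
  wlog hlt : i < j generalizing i j with H
  · exact H j i hij.symm h.symm (lt_of_le_of_ne (not_lt.1 hlt) hij.symm)
  obtain ⟨d, rfl⟩ := Nat.exists_eq_add_of_le hlt.le
  have hper : ∀ m n, i ≤ n → x ^ (n + d * m) = x ^ n := by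
    intro m
    induction m with
    | zero => intro n _; simp
    | succ m ih =>
      intro n hn
      obtain ⟨t, rfl⟩ := Nat.exists_eq_add_of_le hn
      rw [show i + t + d * (m + 1) = (i + d) + (t + d * m) by ring, pow_add, ← h, ← pow_add,
        ← add_assoc, ih _ (Nat.le_add_right i t)]
  have hd : 0 < d := by omega
  refine ⟨d * (i + 1), Nat.mul_pos hd (Nat.succ_pos i), ?_⟩
  rw [← pow_add]
  exact hper (i + 1) (d * (i + 1))
    ((Nat.le_succ i).trans (Nat.le_mul_of_pos_left (i + 1) hd))

theorem finite_end : Finite (AddMonoid.End V) :=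
  Finite.of_injective (fun f : AddMonoid.End V => (f : V → V)) DFunLike.coe_injective

theorem good_of_irr [Nontrivial V] (IH : Below V) (G₀ : Subgroup (AddMonoid.End V)ˣ)
    [hG₀ : Group.IsSolvable G₀] (hirr₀ : Irr G₀ V) : Good G₀ V := by
  classical
  haveI := finite_end (V := V)
  obtain ⟨A, ⟨hle, hsolA⟩, hmaxA⟩ :=
    (Set.toFinite {H : Subgroup (AddMonoid.End V)ˣ | G₀ ≤ H ∧ Group.IsSolvable H}).exists_maximal
      ⟨G₀, le_rfl, hG₀⟩
  haveI : Group.IsSolvable A := hsolA
  suffices hgoodA : Good A V by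
    obtain ⟨t, ht⟩ := hgoodA
    exact ⟨t, fun a ha x => ht ⟨(a : (AddMonoid.End V)ˣ), hle a.2⟩ ha x⟩
  have hirr : Irr A V := fun S hS => hirr₀ S fun a v hv => hS ⟨(a : (AddMonoid.End V)ˣ), hle a.2⟩ v hv
  -- exponent `p`
  obtain ⟨p, hp, hpd⟩ := Nat.exists_prime_and_dvd (n := Nat.card V) Finite.one_lt_card.ne'
  haveI := Fact.mk hp
  have hpV : ∀ v : V, p • v = 0 := by
    let S : AddSubgroup V :=
      { carrier := {v | p • v = 0}
        zero_mem' := smul_zero _
        add_mem' := fun {x y} hx hy => by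
          show p • (x + y) = 0; rw [smul_add, hx, hy, add_zero]
        neg_mem' := fun {x} hx => by show p • (-x) = 0; rw [smul_neg, hx, neg_zero] }
    rcases hirr S (fun a v (hv : p • v = 0) => by
      show p • (a • v) = 0
      rw [smul_comm, hv, smul_zero]) with h | h
    · exfalso
      obtain ⟨x, hx⟩ := exists_prime_addOrderOf_dvd_card' (G := V) p hpd
      have : x ∈ S := by show p • x = 0; rw [← hx]; exact addOrderOf_nsmul_eq_zero x
      rw [h, AddSubgroup.mem_bot] at this
      rw [this, addOrderOf_zero] at hx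
      exact hp.one_lt.ne hx
    · intro v
      have : v ∈ S := by rw [h]; trivial
      exact this
  -- a maximal abelian normal subgroup and its enveloping ring
  obtain ⟨U, ⟨hUn, hUc⟩, hmaxU⟩ :=
    (Set.toFinite {N : Subgroup A | N.Normal ∧ ∀ a ∈ N, ∀ b ∈ N, a * b = b * a}).exists_maximal
      ⟨⊥, Subgroup.normal_bot, fun a ha b hb => by
        rw [Subgroup.mem_bot] at ha hb; rw [ha, hb]⟩
  let val : A →* AddMonoid.End V := (Units.coeHom _).comp A.subtype
  have val_smul : ∀ (a : A) (v : V), a • v = val a v := fun a v => rfl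
  have val_inj : Function.Injective val := fun a b h => Subtype.ext (Units.ext h)
  let W : Subring (AddMonoid.End V) := Subring.closure (val '' (U : Set A))
  have hUW : ∀ a ∈ U, val a ∈ W := fun a ha => Subring.subset_closure ⟨a, ha, rfl⟩
  have hWc : ∀ x ∈ W, ∀ y ∈ W, x * y = y * x := by
    have h1 : W ≤ Subring.centralizer (val '' (U : Set A)) := by
      refine Subring.closure_le.2 ?_
      rintro _ ⟨a, ha, rfl⟩
      refine Subring.mem_centralizer_iff.2 ?_
      rintro _ ⟨b, hb, rfl⟩
      rw [← map_mul, ← map_mul, hUc b hb a ha]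
    have h2 : W ≤ Subring.centralizer (W : Set (AddMonoid.End V)) := by
      refine Subring.closure_le.2 ?_
      rintro _ ⟨a, ha, rfl⟩
      refine Subring.mem_centralizer_iff.2 fun y hy => ?_
      exact ((Subring.mem_centralizer_iff.1 (h1 hy)) _ ⟨a, ha, rfl⟩).symm
    intro x hx y hy
    exact (Subring.mem_centralizer_iff.1 (h2 hy)) x hx
  have hconj : ∀ (a : A), ∀ x ∈ W, val a * x * val a⁻¹ ∈ W := by
    intro a x hx
    have hinv : val a⁻¹ * val a = 1 := by rw [← map_mul, inv_mul_cancel, map_one]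
    have hinv' : val a * val a⁻¹ = 1 := by rw [← map_mul, mul_inv_cancel, map_one]
    induction hx using Subring.closure_induction with
    | mem x hx =>
      obtain ⟨b, hb, rfl⟩ := hx
      rw [← map_mul, ← map_mul]
      exact hUW _ (hUn.conj_mem b hb a)
    | zero => rw [mul_zero, zero_mul]; exact zero_mem _
    | one => rw [mul_one, hinv']; exact one_mem _
    | add x y _ _ ihx ihy => rw [mul_add, add_mul]; exact add_mem ihx ihy
    | neg x _ ih => rw [mul_neg, neg_mul]; exact neg_mem ih
    | mul x y _ _ ihx ihy =>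
      have : val a * (x * y) * val a⁻¹ = (val a * x * val a⁻¹) * (val a * y * val a⁻¹) := by
        calc val a * (x * y) * val a⁻¹ = val a * x * (val a⁻¹ * val a) * y * val a⁻¹ := by
              rw [hinv, mul_one, ← mul_assoc]
          _ = _ := by simp only [mul_assoc]
      rw [this]
      exact mul_mem ihx ihy
  have hcm : ∀ (a : A) (x : AddMonoid.End V) (v : V), a • x v = (val a * x * val a⁻¹) (a • v) := by
    intro a x v
    show val a (x v) = val a (x (val a⁻¹ (val a v)))
    congr 2
    show v = (val a⁻¹ * val a) v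
    rw [← map_mul, inv_mul_cancel, map_one]
    rfl
  -- no square-zero elements
  have hsq : ∀ x ∈ W, x * x = 0 → x = 0 := by
    haveI : Finite V := inferInstance
    let S : AddSubgroup V :=
      { carrier := {v | ∀ x ∈ W, x * x = 0 → x v = 0}
        zero_mem' := fun x _ _ => map_zero x
        add_mem' := fun {v w} hv hw x hx hx2 => by rw [map_add, hv x hx hx2, hw x hx hx2, add_zero]
        neg_mem' := fun {v} hv x hx hx2 => by rw [map_neg, hv x hx hx2, neg_zero] }
    have hS : ∀ a : A, ∀ v ∈ S, a • v ∈ S := by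
      intro a v hv x hx hx2
      have hy := hconj a⁻¹ x hx
      rw [inv_inv] at hy
      have hy2 : val a⁻¹ * x * val a * (val a⁻¹ * x * val a) = 0 := by
        calc val a⁻¹ * x * val a * (val a⁻¹ * x * val a)
            = val a⁻¹ * x * (val a * val a⁻¹) * x * val a := by simp only [mul_assoc]
          _ = val a⁻¹ * (x * x) * val a := by rw [← map_mul, mul_inv_cancel, map_one, mul_one, mul_assoc _ x x]
          _ = 0 := by rw [hx2, mul_zero, zero_mul]
      have h0 := hcm a (val a⁻¹ * x * val a) v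
      rw [hv _ hy hy2, smul_zero] at h0
      have e : val a * (val a⁻¹ * x * val a) * val a⁻¹ = x := by
        calc val a * (val a⁻¹ * x * val a) * val a⁻¹ = (val a * val a⁻¹) * x * (val a * val a⁻¹) := by
              simp only [mul_assoc]
          _ = x := by rw [← map_mul, mul_inv_cancel, map_one, one_mul, mul_one]
      rw [e] at h0
      exact h0.symm
    have hker : ∀ s : Finset (AddMonoid.End V), (∀ x ∈ s, x ∈ W ∧ x * x = 0) →
        ∃ v : V, v ≠ 0 ∧ ∀ x ∈ s, x v = 0 := by
      intro s
      induction s using Finset.induction_on with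
      | empty => intro _; obtain ⟨v, hv⟩ := exists_ne (0 : V); exact ⟨v, hv, by simp⟩
      | insert y s _ ih =>
        intro h
        obtain ⟨v, hv, hvs⟩ := ih fun x hx => h x (Finset.mem_insert_of_mem hx)
        obtain ⟨hyW, hy2⟩ := h y (Finset.mem_insert_self y s)
        by_cases hyv : y v = 0
        · exact ⟨v, hv, fun x hx => (Finset.mem_insert.1 hx).elim (fun e => e ▸ hyv) (hvs x)⟩
        refine ⟨y v, hyv, fun x hx => ?_⟩
        rcases Finset.mem_insert.1 hx with rfl | hxs
        · show (x * x) v = 0; rw [hy2]; rfl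
        · show (x * y) v = 0
          rw [hWc x (h x hx).1 y hyW]
          show y (x v) = 0
          rw [hvs x hxs, map_zero]
    haveI := Fintype.ofFinite (AddMonoid.End V)
    obtain ⟨v, hv, hvk⟩ := hker (Finset.univ.filter fun x => x ∈ W ∧ x * x = 0)
      (fun x hx => (Finset.mem_filter.1 hx).2)
    rcases hirr S hS with h | h
    · have : v ∈ S := fun x hx hx2 => hvk x (Finset.mem_filter.2 ⟨Finset.mem_univ x, hx, hx2⟩)
      rw [h, AddSubgroup.mem_bot] at this
      exact absurd this hv
    · intro x hx hx2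
      refine AddMonoidHom.ext fun w => ?_
      have : w ∈ S := by rw [h]; trivial
      exact this x hx hx2
  have hred : ∀ x ∈ W, ∀ k : ℕ, 0 < k → x ^ k = 0 → x = 0 := by
    intro x hx k
    induction k using Nat.strong_induction_on with
    | _ k ih =>
      intro hk h
      rcases k with _ | _ | k
      · exact absurd hk (lt_irrefl 0)
      · rwa [pow_one] at h
      refine ih (k + 1) (Nat.lt_succ_self _) (Nat.succ_pos k) (hsq _ (pow_mem hx _) ?_)
      rw [← pow_add, show k + 1 + (k + 1) = (k + 2) + k by ring, pow_add]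
      rw [show k + 1 + 1 = k + 2 by rfl] at h
      rw [h, zero_mul]
  by_cases hidem : ∃ g ∈ W, g * g = g ∧ g ≠ 0 ∧ g ≠ 1
  · -- imprimitive
    obtain ⟨g, hgW, hgg, hg0, hg1⟩ := hidem
    let P : AddMonoid.End V → Prop := fun e =>
      e ∈ W ∧ e * e = e ∧ e ≠ 0 ∧ ∀ f ∈ W, f * f = f → f * e = 0 ∨ f * e = e
    have hbelow : ∀ c ∈ W, c * c = c → c ≠ 0 → ∃ e, P e ∧ e * c = e := by
      intro c hc hcc hc0
      obtain ⟨e, ⟨heW, hee, he0, hec⟩, hmin⟩ := Set.exists_min_image
        {e | e ∈ W ∧ e * e = e ∧ e ≠ 0 ∧ e * c = e} (fun e => {x | x ∈ W ∧ x * e = x}.ncard)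
        (Set.toFinite _) ⟨c, hc, hcc, hc0, hcc⟩
      refine ⟨e, ⟨heW, hee, he0, fun f hf hff => ?_⟩, hec⟩
      by_contra h
      push Not at h
      obtain ⟨h0, h1⟩ := h
      have hc' := hWc f hf e heW
      have hfe : (f * e) * (f * e) = f * e := by
        rw [mul_assoc, ← mul_assoc e f e, ← hc', mul_assoc f e e, hee, ← mul_assoc, hff]
      have hle' : {x | x ∈ W ∧ x * (f * e) = x} ⊂ {x | x ∈ W ∧ x * e = x} := by
        refine Set.ssubset_iff_subset_ne.2 ⟨?_, fun heq => ?_⟩
        · rintro x ⟨hx, hxe⟩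
          refine ⟨hx, ?_⟩
          rw [← hxe, mul_assoc x, mul_assoc f, hee]
        · have : e ∈ {x | x ∈ W ∧ x * (f * e) = x} := by rw [heq]; exact ⟨heW, hee⟩
          refine h1 ?_
          calc f * e = (f * e) * e := by rw [mul_assoc, hee]
            _ = (e * f) * e := by rw [hc']
            _ = e * (f * e) := mul_assoc _ _ _
            _ = e := this.2
      exact absurd (hmin (f * e) ⟨mul_mem hf heW, hfe, h0, by rw [mul_assoc, hec]⟩)
        (not_le.2 (Set.ncard_lt_ncard hle' (Set.toFinite _)))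
    let ι : Type u := {e : AddMonoid.End V // P e}
    haveI : Fintype ι := Fintype.ofFinite _
    have horth : ∀ e f : ι, e ≠ f → (e : AddMonoid.End V) * f = 0 := by
      intro e f hne
      rcases f.2.2.2.2 e e.2.1 e.2.2.1 with h | h
      · exact h
      rcases e.2.2.2.2 f f.2.1 f.2.2.1 with h' | h'
      · rwa [hWc _ f.2.1 _ e.2.1] at h'
      · rw [hWc _ f.2.1 _ e.2.1, h] at h'
        exact absurd (Subtype.ext h'.symm) hne
    have hsum : ∑ e : ι, (e : AddMonoid.End V) = 1 := by
      set s : AddMonoid.End V := ∑ e : ι, (e : AddMonoid.End V) with hs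
      have hsW : s ∈ W := sum_mem fun e _ => e.2.1
      have hes : ∀ e : ι, (e : AddMonoid.End V) * s = e := fun e => by
        rw [hs, Finset.mul_sum, Finset.sum_eq_single e (fun f _ hf => horth e f hf.symm) (by simp)]
        exact e.2.2.1
      have hss : s * s = s := by
        conv_lhs => arg 1; rw [hs]
        rw [Finset.sum_mul]; simp only [hes]; exact hs.symm
      by_contra hne
      obtain ⟨e, he, hec⟩ := hbelow (1 - s) (sub_mem (one_mem _) hsW)
        (by rw [mul_sub, sub_mul, sub_mul, one_mul, one_mul, mul_one, hss, sub_self, sub_zero])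
        (fun h => hne (sub_eq_zero.1 h).symm)
      rw [mul_sub, mul_one, hes ⟨e, he⟩, sub_self] at hec
      exact he.2.2.1 hec.symm
    have hPconj : ∀ (a : A) (e : ι), P (val a * e * val a⁻¹) := by
      intro a e
      have hi : ∀ b : A, val b⁻¹ * val b = 1 := fun b => by rw [← map_mul, inv_mul_cancel, map_one]
      have hi' : ∀ b : A, val b * val b⁻¹ = 1 := fun b => by rw [← map_mul, mul_inv_cancel, map_one]
      have hm : ∀ x y : AddMonoid.End V,
          (val a * x * val a⁻¹) * (val a * y * val a⁻¹) = val a * (x * y) * val a⁻¹ := fun x y => by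
        calc (val a * x * val a⁻¹) * (val a * y * val a⁻¹)
            = val a * x * (val a⁻¹ * val a) * y * val a⁻¹ := by simp only [mul_assoc]
          _ = _ := by rw [hi, mul_one, mul_assoc (val a) x]
      have hu : ∀ x : AddMonoid.End V, val a * (val a⁻¹ * x * val a) * val a⁻¹ = x := fun x => by
        calc val a * (val a⁻¹ * x * val a) * val a⁻¹ = (val a * val a⁻¹) * x * (val a * val a⁻¹) := by
              simp only [mul_assoc]
          _ = x := by rw [hi', one_mul, mul_one]
      have hu' : ∀ x : AddMonoid.End V, val a⁻¹ * (val a * x * val a⁻¹) * val a = x := fun x => by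
        calc val a⁻¹ * (val a * x * val a⁻¹) * val a = (val a⁻¹ * val a) * x * (val a⁻¹ * val a) := by
              simp only [mul_assoc]
          _ = x := by rw [hi, one_mul, mul_one]
      refine ⟨hconj a _ e.2.1, by rw [hm, e.2.2.1], fun h => e.2.2.2.1 ?_, fun f hf hff => ?_⟩
      · rw [← hu' (e : AddMonoid.End V), h, mul_zero, zero_mul]
      have hf' : val a⁻¹ * f * val a ∈ W := by simpa using hconj a⁻¹ f hf
      have hff' : val a⁻¹ * f * val a * (val a⁻¹ * f * val a) = val a⁻¹ * f * val a := by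
        calc val a⁻¹ * f * val a * (val a⁻¹ * f * val a)
            = val a⁻¹ * f * (val a * val a⁻¹) * f * val a := by simp only [mul_assoc]
          _ = _ := by rw [hi', mul_one, mul_assoc _ f f, hff]
      have := hm (val a⁻¹ * f * val a) e
      rw [hu] at this
      rcases e.2.2.2.2 _ hf' hff' with h | h
      · left; rw [this, h, mul_zero, zero_mul]
      · right; rw [this, h]
    letI : MulAction A ι :=
      { smul := fun a e => ⟨val a * e * val a⁻¹, hPconj a e⟩
        one_smul := fun e => Subtype.ext (by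
          show val 1 * (e : AddMonoid.End V) * val 1⁻¹ = e
          rw [inv_one, map_one, one_mul, mul_one])
        mul_smul := fun a b e => Subtype.ext (by
          show val (a * b) * (e : AddMonoid.End V) * val (a * b)⁻¹ =
            val a * (val b * e * val b⁻¹) * val a⁻¹
          rw [mul_inv_rev, map_mul, map_mul]; simp only [mul_assoc]) }
    let ev : ι → V →+ V := fun e => (e : AddMonoid.End V)
    have equiv : ∀ (a : A) (i : ι) (v : V), a • ev i v = ev (a • i) (a • v) := fun a i v => hcm a i v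
    have orth : ∀ (i j : ι) (v : V), i ≠ j → ev i (ev j v) = 0 := fun i j v h => by
      show ((i : AddMonoid.End V) * j) v = 0
      rw [horth i j h]; rfl
    have idem : ∀ (i : ι) (v : V), ev i (ev i v) = ev i v := fun i v => by
      show ((i : AddMonoid.End V) * i) v = (i : AddMonoid.End V) v
      rw [i.2.2.1]
    have sum : ∀ v : V, ∑ i, ev i v = v := fun v => by
      have h := congrArg (fun f : AddMonoid.End V => f v) hsum
      exact (AddMonoidHom.finsetSum_apply ev Finset.univ v).symm.trans h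
    obtain ⟨e0, he0, he0g⟩ := hbelow g hgW hgg hg0
    obtain ⟨e1, he1, he1g⟩ := hbelow (1 - g) (sub_mem (one_mem _) hgW)
      (by rw [mul_sub, sub_mul, sub_mul, one_mul, one_mul, mul_one, hgg, sub_self, sub_zero])
      (fun h => hg1 (sub_eq_zero.1 h).symm)
    have hne01 : (⟨e0, he0⟩ : ι) ≠ ⟨e1, he1⟩ := fun h => by
      obtain rfl : e0 = e1 := congrArg Subtype.val h
      rw [mul_sub, mul_one, he0g, sub_self] at he1g
      exact he1.2.2.1 he1g.symm
    let i0 : ι := ⟨e0, he0⟩
    have ne : ∀ i : ι, ∃ v, ev i v ≠ 0 := fun i => by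
      by_contra h; push Not at h
      exact i.2.2.2.1 (AddMonoidHom.ext h)
    haveI := pretransitive_of_irr ev hirr ne orth equiv i0
    letI := restrictAct (ev i0).range (range_invariant ev equiv i0)
    have hblock := irr_block ev hirr orth idem equiv i0
    have hlt : Nat.card (ev i0).range < Nat.card V := by
      refine lt_of_le_of_ne (AddSubgroup.card_le_card_addGroup _) fun h => ?_
      have htop := AddSubgroup.eq_top_of_card_eq _ h
      obtain ⟨v, hv⟩ := ne ⟨e1, he1⟩
      obtain ⟨w, hw⟩ : ev ⟨e1, he1⟩ v ∈ (ev i0).range := by rw [htop]; trivial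
      exact hv (by rw [← hw, ← idem i0 w, hw, orth _ _ _ hne01])
    haveI : Nontrivial (ev i0).range := by
      obtain ⟨v, hv⟩ := ne i0
      exact ⟨⟨⟨_, v, rfl⟩, 0, fun h => hv (congrArg Subtype.val h)⟩⟩
    letI : Module (ZMod p) (ev i0).range := AddCommGroup.zmodModule (n := p) fun x =>
      Subtype.ext (by rw [AddSubmonoidClass.coe_nsmul, hpV]; rfl)
    refine good_of_system ev sum orth idem equiv i0 ?_
    exact five_of_good (p := p) (IH _ hlt _ hblock.cr)
  -- primitive: the ring is a field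
  have hunit : ∀ x ∈ W, x ≠ 0 → ∃ y ∈ W, x * y = 1 ∧ y * x = 1 := by
    intro x hx hx0
    obtain ⟨k, hk, hkk⟩ := exists_pow_idem x
    have : x ^ k = 1 := by
      by_contra h1
      exact hidem ⟨x ^ k, pow_mem hx k, hkk, fun h0 => hx0 (hred x hx k hk h0), h1⟩
    exact ⟨x ^ (k - 1), pow_mem hx _, by rw [← pow_succ', Nat.sub_add_cancel hk, this],
      by rw [← pow_succ, Nat.sub_add_cancel hk, this]⟩
  let Wu : Subgroup (AddMonoid.End V)ˣ :=
    { carrier := {x | (x : AddMonoid.End V) ∈ W ∧ ((x⁻¹ : (AddMonoid.End V)ˣ) : AddMonoid.End V) ∈ W}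
      one_mem' := by simp [one_mem]
      mul_mem' := fun {x y} hx hy =>
        ⟨by rw [Units.val_mul]; exact mul_mem hx.1 hy.1,
          by rw [mul_inv_rev, Units.val_mul]; exact mul_mem hy.2 hx.2⟩
      inv_mem' := fun {x} hx => ⟨hx.2, by rw [inv_inv]; exact hx.1⟩ }
  have hWu : ∀ (a : A), ∀ x ∈ Wu, (a : (AddMonoid.End V)ˣ) * x * (a : (AddMonoid.End V)ˣ)⁻¹ ∈ Wu := by
    intro a x hx
    refine ⟨?_, ?_⟩
    · rw [Units.val_mul, Units.val_mul]; exact hconj a _ hx.1
    · rw [mul_inv_rev, mul_inv_rev, inv_inv, Units.val_mul, Units.val_mul, ← mul_assoc]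
      exact hconj a _ hx.2
  let S' : Subgroup (AddMonoid.End V)ˣ :=
    { carrier := {s | ∃ a ∈ A, ∃ x ∈ Wu, s = a * x}
      one_mem' := ⟨1, one_mem _, 1, one_mem _, (one_mul 1).symm⟩
      mul_mem' := by
        rintro _ _ ⟨a, ha, x, hx, rfl⟩ ⟨b, hb, y, hy, rfl⟩
        refine ⟨a * b, mul_mem ha hb, b⁻¹ * x * b * y, mul_mem ?_ hy, by group⟩
        simpa using hWu ⟨b⁻¹, inv_mem hb⟩ x hx
      inv_mem' := by
        rintro _ ⟨a, ha, x, hx, rfl⟩
        exact ⟨a⁻¹, inv_mem ha, a * x⁻¹ * a⁻¹, hWu ⟨a, ha⟩ _ (inv_mem hx), by group⟩ }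
  have hWS : Wu ≤ S' := fun x hx => ⟨1, one_mem _, x, hx, (one_mul x).symm⟩
  have hAS : A ≤ S' := fun a ha => ⟨a, ha, 1, one_mem _, (mul_one a).symm⟩
  haveI : (Wu.subgroupOf S').Normal := ⟨by
    rintro ⟨x, _⟩ hx ⟨_, a, ha, y, hy, rfl⟩
    show a * y * x * (a * y)⁻¹ ∈ Wu
    rw [show a * y * x * (a * y)⁻¹ = a * (y * x * y⁻¹) * a⁻¹ by group]
    exact hWu ⟨a, ha⟩ _ (mul_mem (mul_mem hy hx) (inv_mem hy))⟩
  haveI hsolW : Group.IsSolvable Wu := Group.isSolvable_of_comm fun x y =>
    Subtype.ext (Units.ext (hWc _ x.2.1 _ y.2.1))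
  haveI hsolS : Group.IsSolvable S' := by
    haveI : Group.IsSolvable (S' ⧸ Wu.subgroupOf S') :=
      solvable_of_surjective (f := (QuotientGroup.mk' (Wu.subgroupOf S')).comp (Subgroup.inclusion hAS))
        fun q => by
          obtain ⟨⟨_, a, ha, x, hx, rfl⟩, rfl⟩ := QuotientGroup.mk'_surjective _ q
          refine ⟨⟨a, ha⟩, ?_⟩
          show QuotientGroup.mk' _ (Subgroup.inclusion hAS ⟨a, ha⟩) = _
          rw [QuotientGroup.mk'_eq_mk']
          exact ⟨⟨x, hWS hx⟩, hx, rfl⟩
    exact solvable_of_ker_le_range (Subgroup.inclusion hWS) (QuotientGroup.mk' (Wu.subgroupOf S'))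
      fun s hs => ⟨⟨s, by rwa [QuotientGroup.ker_mk'] at hs⟩, rfl⟩
  have hWA : Wu ≤ A := fun x hx => hmaxA (y := S') ⟨hle.trans hAS, hsolS⟩ hAS (hWS hx)
  have hUWu : ∀ a ∈ U, (a : (AddMonoid.End V)ˣ) ∈ Wu := fun a ha =>
    ⟨hUW a ha, hUW a⁻¹ (inv_mem ha)⟩
  have hWuU : ∀ a : A, (a : (AddMonoid.End V)ˣ) ∈ Wu → a ∈ U := fun a ha =>
    hmaxU (y := Wu.subgroupOf A)
      ⟨⟨fun n hn g => hWu g _ hn⟩, fun x hx y hy => val_inj (by
        rw [map_mul, map_mul]; exact hWc _ hx.1 _ hy.1)⟩
      (fun x hx => hUWu x hx) ha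
  have hfree : ∀ a ∈ U, ∀ b ∈ U, ∀ x : V, x ≠ 0 → a • x = b • x → a = b := by
    intro a ha b hb x hx h
    apply val_inj
    by_contra hne
    obtain ⟨y, -, -, hy⟩ := hunit (val a - val b) (sub_mem (hUW a ha) (hUW b hb)) (sub_ne_zero.2 hne)
    refine hx ?_
    have := congrArg (fun f : AddMonoid.End V => f x) hy
    simp only [AddMonoid.End.coe_mul, Function.comp_apply] at this
    have e : (val a - val b) x = 0 := by
      show val a x - val b x = 0
      rw [← val_smul, ← val_smul, h, sub_self]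
    rw [e, map_zero] at this
    exact this.symm
  haveI : IsCyclic U := by
    letI : CommRing W := { (inferInstance : Ring W) with
      mul_comm := fun x y => Subtype.ext (hWc _ x.2 _ y.2) }
    haveI : Nontrivial W := ⟨⟨0, 1, fun h => by
      obtain ⟨v, hv⟩ := exists_ne (0 : V)
      exact hv (congrArg (fun f : W => (f : AddMonoid.End V) v) h).symm⟩⟩
    haveI : NoZeroDivisors W := ⟨fun {x y} h => by
      by_cases hx : x = 0
      · exact Or.inl hx
      obtain ⟨z, -, -, hz⟩ := hunit x x.2 (fun h0 => hx (Subtype.ext h0))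
      refine Or.inr (Subtype.ext ?_)
      have h' : (x : AddMonoid.End V) * y = 0 := congrArg Subtype.val h
      rw [← one_mul (y : AddMonoid.End V), ← hz, mul_assoc, h', mul_zero]
      rfl⟩
    haveI : IsDomain W := NoZeroDivisors.to_isDomain W
    let f : U →* W :=
      { toFun := fun a => ⟨val (a : A), hUW _ a.2⟩
        map_one' := Subtype.ext (map_one val)
        map_mul' := fun a b => Subtype.ext (map_mul val (a : A) (b : A)) }
    exact isCyclic_of_subgroup_isDomain f fun a b h => Subtype.ext (val_inj (congrArg Subtype.val h))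
  obtain ⟨⟨ω, hω⟩, hgen⟩ := IsCyclic.exists_generator (α := U)
  have hneg : (-1 : (AddMonoid.End V)ˣ) ∈ Wu := by
    constructor
    · show (-1 : AddMonoid.End V) ∈ W
      exact neg_mem (one_mem W)
    · rw [inv_neg, inv_one]
      show (-1 : AddMonoid.End V) ∈ W
      exact neg_mem (one_mem W)
  let K : Core A V :=
    { U := U
      normal := hUn
      comm := hUc
      maxab := fun N hN hNc h => le_antisymm (hmaxU (y := N) ⟨hN, hNc⟩ h) h
      free := hfree
      ω := ω
      ω_mem := hω
      ω_gen := fun a ha => by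
        obtain ⟨k, hk⟩ := (mem_powers_iff_mem_zpowers).2 (hgen ⟨a, ha⟩)
        exact ⟨k, congrArg Subtype.val hk⟩
      ε := ⟨-1, hWA hneg⟩
      ε_mem := hWuU _ hneg
      ε_smul := fun x => rfl }
  exact good_of_core hpV K

end irreducible

theorem good_all : ∀ (n : ℕ) (V : Type u) [AddCommGroup V] [Finite V], Nat.card V = n →
    ∀ (A : Type u) [Group A] [Finite A] [Group.IsSolvable A] [DistribMulAction A V], CR A V → Good A V := by
  intro n
  induction n using Nat.strong_induction_on with
  | _ n IH =>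
    intro V _ _ hn A _ _ _ _ hcr
    subst hn
    rcases subsingleton_or_nontrivial V with hV | hV
    · exact ⟨fun _ => 0, fun a _ x => Subsingleton.elim _ _⟩
    by_cases hirr : Irr A V
    · obtain ⟨G, hG, hGA, hAG⟩ := exists_image (A := A) (V := V)
      haveI := hG
      obtain ⟨t, ht⟩ := good_of_irr (fun W _ _ hlt H _ _ _ _ hc => IH _ hlt W rfl H hc) G
        (fun S hS => hirr S fun a v hv => by
          obtain ⟨g, hg⟩ := hAG a; rw [hg]; exact hS g v hv)
      refine ⟨t, fun a ha x => ?_⟩
      obtain ⟨g, hg⟩ := hAG a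
      rw [hg]
      exact ht g (fun i => by rw [← hg]; exact ha i) x
    unfold Irr at hirr
    push Not at hirr
    obtain ⟨U, hU, hU0, hU1⟩ := hirr
    obtain ⟨W, hW, hd, hs⟩ := hcr U hU
    have hW1 : W ≠ ⊤ := fun h => hU0 (by rwa [h, inf_top_eq] at hd)
    have lt : ∀ S : AddSubgroup V, S ≠ ⊤ → Nat.card S < Nat.card V := fun S hS =>
      lt_of_le_of_ne (AddSubgroup.card_le_card_addGroup S) fun h => hS (AddSubgroup.eq_top_of_card_eq S h)
    refine good_split U W hU hW hd hs ?_ ?_
    · letI := restrictAct U hU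
      exact IH _ (lt U hU1) U rfl A (cr_restrict hcr U hU)
    · letI := restrictAct W hW
      exact IH _ (lt W hW1) W rfl A (cr_restrict hcr W hW)

theorem good_main {A : Type v} {V : Type u} [Group A] [AddCommGroup V] [Finite V] [DistribMulAction A V]
    [Group.IsSolvable A] (hcr : CR A V) : Good A V := by
  haveI := finite_end (V := V)
  obtain ⟨G, hG, hGA, hAG⟩ := exists_image (A := A) (V := V)
  haveI := hG
  have hcrG : CR G V := fun S hS => by
    obtain ⟨W, hW, hd, hs⟩ := hcr S fun a v hv => by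
      obtain ⟨g, hg⟩ := hAG a; rw [hg]; exact hS g v hv
    refine ⟨W, fun g w hw => ?_, hd, hs⟩
    obtain ⟨a, ha⟩ := hGA g; rw [ha]; exact hW a w hw
  obtain ⟨t, ht⟩ := good_all _ V rfl G hcrG
  refine ⟨t, fun a ha x => ?_⟩
  obtain ⟨g, hg⟩ := hAG a
  rw [hg]
  exact ht g (fun i => by rw [← hg]; exact ha i) x

end Cfsg.Agent.ThreeVec75
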