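import Mathlib
import Cfsg.Agent.Lib.ThreeVec75Core

/-!
Interfaces for the coprime base-two theorem.
-/

set_option autoImplicit false

namespace Cfsg.Agent.ThreeVec75

universe u v

/-- Two vectors whose common stabiliser acts trivially. -/
def Good2 (A : Type v) (V : Type u) [Group A] [AddCommGroup V] [DistribMulAction A V] : Prop :=
  ∃ x y : V, ∀ a : A, a • x = x → a • y = y → ∀ v : V, a • v = v

/-- A colouring by residues modulo `p` preserved only by permutations acting trivially. -/
def RigidCol (p : ℕ) (P : Type v) (Ω : Type u) [Group P] [MulAction P Ω] : Prop :=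
  ∃ c : Ω → ZMod p, ∀ g : P, (∀ x, c (g • x) = c x) → ∀ x : Ω, g • x = x

/-- The primitive coprime case. -/
def CoreTwo : Prop :=
  ∀ (A V : Type u) [Group A] [Finite A] [Group.IsSolvable A] [AddCommGroup V] [Finite V] [Nontrivial V]
    [DistribMulAction A V] [FaithfulSMul A V] (p : ℕ), p.Prime → (∀ v : V, p • v = 0) →
    ¬ p ∣ Nat.card A → ∀ K : Core A V,
    (∀ a ∈ K.U, ∀ b ∈ K.U, (∀ v : V, a • v + b • v = 0) ∨ ∃ c ∈ K.U, ∀ v : V, a • v + b • v = c • v) →
    Good2 A V

/-- The coprime colouring theorem. -/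
def ColourTwo : Prop :=
  ∀ (p : ℕ), p.Prime → ∀ (P Ω : Type u) [Group P] [Finite P] [Group.IsSolvable P] [MulAction P Ω]
    [Finite Ω], ¬ p ∣ Nat.card P → RigidCol p P Ω

/-- The coprime module theorem. -/
def ModuleTwo : Prop :=
  ∀ (A : Type v) (V : Type u) [Group A] [Finite A] [Group.IsSolvable A] [AddCommGroup V] [Finite V]
    [DistribMulAction A V], (Nat.card A).Coprime (Nat.card V) → Good2 A V

end Cfsg.Agent.ThreeVec75
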