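import Cfsg.Agent.Lib.TitsTwoIndex15
import Cfsg.Agent.Lib.TitsCover53Data

/-!
The Tits group: the representatives of the conjugacy classes in the Bruhat cells of minimal length, and the
check of a link between two representatives.
-/

set_option autoImplicit false
set_option maxRecDepth 100000

namespace Cfsg.Agent.TitsCover53

open Cfsg.Lie Cfsg.Agent.TitsTwo15

/-- the word of a binary code along a chain -/
def sw : List (List ℕ) → ℕ → List ℕ
  | [], _ => []
  | e :: es, n => sw es (n / 2) ++ bif n % 2 == 1 then e else []

/-- the word of an element of the Sylow subgroup -/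
def uW (n : ℕ) : List ℕ := sw chainWords n

/-- the word of a representative -/
def nodeW (k i : ℕ) : List ℕ := wW (cellIds.getD k 0) ++ uW (2 * i)

/-- the packed element of the Sylow subgroup -/
def uP (n : ℕ) : ℕ := mulP (auP.getD (n / 64) oneP) (buP.getD (n % 64) oneP)

/-- the packed representative -/
def nodeP (k i : ℕ) : ℕ := mulP ((acP.getD k []).getD (2 * i / 64) oneP) (buP.getD (2 * i % 64) oneP)

/-- the packed link of a representative -/
def entry (k i : ℕ) : ℕ := ((rows.getD k []).getD (i / 32) 0 >>> (48 * (i % 32))) % 2 ^ 48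

/-- the rank -/
def rk (e : ℕ) : ℕ := e % 2 ^ 8

/-- the kind: short link, long link, factorised, trivial -/
def knd (e : ℕ) : ℕ := (e >>> 8) % 4

/-- the direction -/
def dirn (e : ℕ) : ℕ := (e >>> 10) % 2

/-- the cell of the parent -/
def pk (e : ℕ) : ℕ := (e >>> 11) % 8

/-- the index of the parent -/
def pix (e : ℕ) : ℕ := (e >>> 14) % 2 ^ 11

/-- the conjugator -/
def six (e : ℕ) : ℕ := (e >>> 25) % 32

/-- the code of the unipotent conjugator or the factorisation -/
def bc (e : ℕ) : ℕ := (e >>> 30) % 2 ^ 12

/-- the word of the conjugator -/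
def hW (e : ℕ) : List ℕ := bif knd e == 0 then hWords.getD (six e) [] else uW (bc e) ++ hWords.getD (six e) []

/-- the packed conjugator -/
def hPk (e : ℕ) : ℕ := bif knd e == 0 then hP.getD (six e) oneP else mulP (uP (bc e)) (hP.getD (six e) oneP)

/-- the check of one link -/
def link (k i : ℕ) : Bool :=
  bif Nat.blt (knd (entry k i)) 2 then
    Nat.blt (pk (entry k i)) 7 &&
      (Nat.blt (rk (entry (pk (entry k i)) (pix (entry k i)))) (rk (entry k i)) &&
        bif dirn (entry k i) == 0 then
          Nat.beq (mulP (hPk (entry k i)) (nodeP k i)) (mulP (nodeP (pk (entry k i)) (pix (entry k i))) (hPk (entry k i)))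
        else
          Nat.beq (mulP (hPk (entry k i)) (nodeP (pk (entry k i)) (pix (entry k i)))) (mulP (nodeP k i) (hPk (entry k i))))
  else bif knd (entry k i) == 2 then
    Nat.blt (bc (entry k i)) witP.length &&
      Nat.beq (mulP (witP.getD (bc (entry k i)) (oneP, oneP)).1 (witP.getD (bc (entry k i)) (oneP, oneP)).2) (nodeP k i)
  else Nat.beq (nodeP k i) oneP

/-- the check of the links of a cell -/
def cellLinks (k : ℕ) : Bool := (List.range 2048).all fun i => link k i

/-- inverse cells -/
def invCell (a : ℕ) : ℕ := [0, 1, 2, 4, 3, 5, 6, 8, 7, 9, 10, 12, 11, 13, 14, 15].getD a 0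

/-- the packed conjugator of a factorisation at a root -/
def aPk (l : List ℕ) : ℕ := mulP (mulP (uP (l.getD 0 0)) (evP (wW (l.getD 1 0)))) (uP (l.getD 2 0))

/-- the packed inverse of the conjugator of a factorisation at a root -/
def aiPk (l : List ℕ) : ℕ := mulP (mulP (uP (l.getD 3 0)) (evP (wW (invCell (l.getD 1 0))))) (uP (l.getD 4 0))

/-- the check of one factor of a root -/
def factorChk (l : List ℕ) (P : ℕ) : Bool :=
  Nat.beq (mulP (aPk l) (aiPk l)) oneP && Nat.beq (mulP (mulP (aPk l) (evP fiveX)) (aiPk l)) P

/-- the check of the tables -/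
def tableChk : Bool :=
  ((List.range 64).all fun h => Nat.beq (evP (sw (chainWords.drop 6) h)) (auP.getD h oneP)) &&
  ((List.range 64).all fun l => Nat.beq (evP (sw (chainWords.take 6) l)) (buP.getD l oneP)) &&
  ((List.range 7).all fun k => (List.range 64).all fun h =>
    Nat.beq (mulP (evP (wW (cellIds.getD k 0))) (auP.getD h oneP)) ((acP.getD k []).getD h oneP)) &&
  ((List.range 32).all fun s => Nat.beq (evP (hWords.getD s [])) (hP.getD s oneP)) &&
  ((List.range witP.length).all fun r =>
    factorChk (witW.getD r ([], [])).1 (witP.getD r (oneP, oneP)).1 &&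
    factorChk (witW.getD r ([], [])).2 (witP.getD r (oneP, oneP)).2)

/-- the check of the reduction of a cell to smaller ones -/
def redChk (j : ℕ) : Bool :=
  let t := (weylWords.getD j []).headD 2
  let r := (weylWords.getD j []).tail
  let jr := weylWords.idxOf r.reverse
  decide (t < 2 ∧ jr < 16 ∧ weylWords.getD j [] = t :: r ∧ weylWords.getD jr [] = r.reverse) &&
    eqW (nSeq r ++ nSeq r.reverse) [] &&
    (List.range (repWords.getD t []).length).all fun x =>
      decide (invCell (((cellTab.getD t []).getD x []).getD jr ([], 0, [])).2.1 < j)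

end Cfsg.Agent.TitsCover53
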