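import Cfsg.Agent.Lib.TitsCover53Base

/-!
The Tits group: the checks of the links, part A.
-/

set_option autoImplicit false
set_option maxRecDepth 100000
set_option maxHeartbeats 0

namespace Cfsg.Agent.TitsCover53

theorem links0 : cellLinks 0 = true := by decide +kernel

theorem links1 : cellLinks 1 = true := by decide +kernel

end Cfsg.Agent.TitsCover53
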