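import Cfsg.Agent.Lib.TitsCover53Tables
import Cfsg.Agent.Lib.TitsCover53LinksA
import Cfsg.Agent.Lib.TitsCover53LinksB
import Cfsg.Agent.Lib.TitsCover53LinksC
import Cfsg.Agent.Lib.TitsCover53LinksD
import Cfsg.Agent.Lib.TitsTwoTransitive15

/-!
The Tits group: every nontrivial element is a product of two conjugates of an element of order five.
-/

set_option autoImplicit false
set_option maxRecDepth 100000
set_option maxHeartbeats 1000000

namespace Cfsg.Agent.TitsCover53

open Cfsg.Lie Cfsg.Agent.TitsTwo15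

attribute [local irreducible] nodeP entry uP hPk

theorem links_ok {k i : ℕ} (hk : k < 7) (hi : i < 2048) : link k i = true := by
  have h : cellLinks k = true := by
    interval_cases k
    exacts [links0, links1, links2, links3, links4, links5, links6]
  simp only [cellLinks, List.all_eq_true, List.mem_range] at h
  exact h i hi

theorem val_mul {a b : GF} {P Q : ℕ} (ha : Φ a = toM P) (hb : Φ b = toM Q) : Φ (a * b) = toM (mulP P Q) := by
  rw [map_mul, ha, hb, toM_mul]

theorem val_evP {w : List ℕ} {P : ℕ} (h : Nat.beq (evP w) P = true) : Φ (ev w) = toM P := by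
  rw [Φ_ev, Nat.eq_of_beq_eq_true h]

theorem val_eq {a b : GF} {P Q : ℕ} (ha : Φ a = toM P) (hb : Φ b = toM Q) (h : Nat.beq P Q = true) : a = b :=
  Φ_inj (by rw [ha, hb, Nat.eq_of_beq_eq_true h])

theorem tables :
    (∀ h < 64, Φ (ev (sw (chainWords.drop 6) h)) = toM (auP.getD h oneP)) ∧
    (∀ l < 64, Φ (ev (sw (chainWords.take 6) l)) = toM (buP.getD l oneP)) ∧
    (∀ k < 7, ∀ h < 64, Φ (ev (wW (cellIds.getD k 0)) * ev (sw (chainWords.drop 6) h)) =
      toM ((acP.getD k []).getD h oneP)) ∧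
    (∀ s < 32, Φ (ev (hWords.getD s [])) = toM (hP.getD s oneP)) ∧
    (∀ r < witP.length, factorChk (witW.getD r ([], [])).1 (witP.getD r (oneP, oneP)).1 = true ∧
      factorChk (witW.getD r ([], [])).2 (witP.getD r (oneP, oneP)).2 = true) := by
  have h := tableChk_ok
  simp only [tableChk, Bool.and_eq_true, List.all_eq_true, List.mem_range] at h
  obtain ⟨⟨⟨⟨h1, h2⟩, h3⟩, h4⟩, h5⟩ := h
  refine ⟨fun a ha => val_evP (h1 a ha), fun a ha => val_evP (h2 a ha), fun k hk a ha => ?_,
    fun s hs => val_evP (h4 s hs), h5⟩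
  rw [val_mul (Φ_ev _) (val_evP (h1 a ha)), Nat.eq_of_beq_eq_true (h3 k hk a ha)]

theorem uP_val {n : ℕ} (hn : n < 4096) : Φ (ev (uW n)) = toM (uP n) := by
  rw [uW, split_ok n, ev_append, uP]
  exact val_mul (tables.1 _ (by omega)) (tables.2.1 _ (by omega))

theorem nodeP_val {k i : ℕ} (hk : k < 7) (hi : i < 2048) : Φ (ev (nodeW k i)) = toM (nodeP k i) := by
  rw [nodeW, uW, split_ok _, ev_append, ev_append, ← mul_assoc, nodeP]
  exact val_mul (tables.2.2.1 k hk _ (by omega)) (tables.2.1 _ (by omega))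

theorem hPk_val (e : ℕ) : Φ (ev (hW e)) = toM (hPk e) := by
  have hs : six e < 32 := Nat.mod_lt _ (by norm_num)
  have hb : bc e < 4096 := Nat.mod_lt _ (by norm_num)
  unfold hW hPk
  cases knd e == 0
  · simp only [cond_false]
    rw [ev_append]
    exact val_mul (uP_val hb) (tables.2.2.2.1 _ hs)
  · simp only [cond_true]
    exact tables.2.2.2.1 _ hs

/-- a product of two conjugates of the element of order five -/
def InCC (g : GF) : Prop :=
  ∃ a ∈ twistedF4 (ZMod 2) 1, ∃ b ∈ twistedF4 (ZMod 2) 1,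
    g = a * ev fiveX * a⁻¹ * (b * ev fiveX * b⁻¹)

theorem InCC.conj {g h : GF} (hh : h ∈ twistedF4 (ZMod 2) 1) (hg : InCC g) : InCC (h * g * h⁻¹) := by
  obtain ⟨a, ha, b, hb, rfl⟩ := hg
  exact ⟨h * a, mul_mem hh ha, h * b, mul_mem hh hb, by simp [mul_assoc]⟩

theorem witW_lt : ∀ r < witP.length, ∀ i < 5, (witW.getD r ([], [])).1.getD i 0 < 4096 ∧
    (witW.getD r ([], [])).2.getD i 0 < 4096 := by
  decide +kernel

theorem factor {l : List ℕ} {P : ℕ} (hl : ∀ i < 5, l.getD i 0 < 4096) (h : factorChk l P = true) :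
    ∃ a ∈ twistedF4 (ZMod 2) 1, Φ (a * ev fiveX * a⁻¹) = toM P := by
  simp only [factorChk, Bool.and_eq_true] at h
  have ha : Φ (ev (uW (l.getD 0 0)) * ev (wW (l.getD 1 0)) * ev (uW (l.getD 2 0))) = toM (aPk l) :=
    val_mul (val_mul (uP_val (hl 0 (by norm_num))) (Φ_ev _)) (uP_val (hl 2 (by norm_num)))
  have hi : Φ (ev (uW (l.getD 3 0)) * ev (wW (invCell (l.getD 1 0))) * ev (uW (l.getD 4 0))) = toM (aiPk l) :=
    val_mul (val_mul (uP_val (hl 3 (by norm_num))) (Φ_ev _)) (uP_val (hl 4 (by norm_num)))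
  have h1 := val_eq (val_mul ha hi) (show Φ (1 : GF) = toM oneP by rw [map_one, toM_one]) h.1
  refine ⟨ev (uW (l.getD 0 0)) * ev (wW (l.getD 1 0)) * ev (uW (l.getD 2 0)),
    mul_mem (mul_mem (ev_mem _) (ev_mem _)) (ev_mem _), ?_⟩
  rw [← TitsTwo15.inv_unique h1, val_mul (val_mul ha (Φ_ev _)) hi, Nat.eq_of_beq_eq_true h.2]

/-- every representative is trivial or a product of two conjugates -/
theorem node_cover : ∀ r k i : ℕ, k < 7 → i < 2048 → rk (entry k i) = r →
    ev (nodeW k i) = 1 ∨ InCC (ev (nodeW k i)) := by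
  intro r
  induction r using Nat.strong_induction_on with
  | _ r ih =>
    intro k i hk hi hr
    have hv := nodeP_val hk hi
    have hlink := links_ok hk hi
    unfold link at hlink
    rcases hb : Nat.blt (knd (entry k i)) 2 with _ | _
    · rw [hb, cond_false] at hlink
      rcases hb2 : knd (entry k i) == 2 with _ | _
      · rw [hb2, cond_false] at hlink
        exact Or.inl (val_eq hv (show Φ (1 : GF) = toM oneP by rw [map_one, toM_one]) hlink)
      · rw [hb2, cond_true, Bool.and_eq_true, Nat.blt_eq] at hlink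
        obtain ⟨h1, h2⟩ := hlink
        obtain ⟨f1, f2⟩ := tables.2.2.2.2 _ h1
        obtain ⟨a, ha, hA⟩ := factor (fun j hj => (witW_lt _ h1 j hj).1) f1
        obtain ⟨b, hb', hB⟩ := factor (fun j hj => (witW_lt _ h1 j hj).2) f2
        exact Or.inr ⟨a, ha, b, hb', (val_eq (val_mul hA hB) hv h2).symm⟩
    · rw [hb, cond_true, Bool.and_eq_true, Bool.and_eq_true, Nat.blt_eq, Nat.blt_eq] at hlink
      obtain ⟨hp, hrk, heq⟩ := hlink
      have hpi : pix (entry k i) < 2048 := Nat.mod_lt _ (by norm_num)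
      have hpar := ih _ (hr ▸ hrk) _ _ hp hpi rfl
      have hh := hPk_val (entry k i)
      have hpv := nodeP_val hp hpi
      have hmem : ev (hW (entry k i)) ∈ twistedF4 (ZMod 2) 1 := ev_mem _
      rcases hd : dirn (entry k i) == 0 with _ | _
      · rw [hd, cond_false] at heq
        have e := val_eq (val_mul hh hpv) (val_mul hv hh) heq
        have e' : ev (nodeW k i) = ev (hW (entry k i)) * ev (nodeW (pk (entry k i)) (pix (entry k i))) *
            (ev (hW (entry k i)))⁻¹ := eq_mul_inv_iff_mul_eq.mpr e.symm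
        rw [e']
        rcases hpar with h | h
        · exact Or.inl (by rw [h]; simp)
        · exact Or.inr (h.conj hmem)
      · rw [hd, cond_true] at heq
        have e := val_eq (val_mul hh hv) (val_mul hpv hh) heq
        have e' : ev (nodeW k i) = (ev (hW (entry k i)))⁻¹ * ev (nodeW (pk (entry k i)) (pix (entry k i))) *
            ((ev (hW (entry k i)))⁻¹)⁻¹ := by
          rw [inv_inv, mul_assoc, ← e, inv_mul_cancel_left]
        rw [e']
        rcases hpar with h | h
        · exact Or.inl (by rw [h]; simp)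
        · exact Or.inr (h.conj (inv_mem hmem))

theorem exists_code : ∀ (es : List (List ℕ)), ∀ y ∈ S es, ∃ n < 2 ^ es.length, y = ev (sw es n) := by
  intro es
  induction es with
  | nil => intro y hy; exact ⟨0, by simp, by rw [Set.mem_singleton_iff.mp hy]; exact ev_nil.symm⟩
  | cons e es ih =>
    rintro y (hy | ⟨z, hz, rfl⟩)
    · obtain ⟨n, hn, rfl⟩ := ih y hy
      refine ⟨2 * n, by rw [List.length_cons, pow_succ]; omega, ?_⟩
      simp [sw]
    · obtain ⟨n, hn, rfl⟩ := ih z hz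
      refine ⟨2 * n + 1, by rw [List.length_cons, pow_succ]; omega, ?_⟩
      simp [sw, show (2 * n + 1) / 2 = n by omega, ev_append]

theorem exists_index {u : GF} (hu : u ∈ U0) : ∃ i < 2048, u = ev (uW (2 * i)) := by
  obtain ⟨n, hn, rfl⟩ := exists_code _ _ (U0_sub_S hu)
  refine ⟨n, ?_, ?_⟩
  · have : chainWords.tail.length = 11 := chain_tail_ok.2.2
    rw [this] at hn
    exact hn
  · rw [uW, chainWords_cons]
    simp [sw]

theorem conj_mem_M {h g : GF} (hh : h ∈ twistedF4 (ZMod 2) 1) (hg : g ∈ M) : h * g * h⁻¹ ∈ M := by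
  rw [M_eq_comm] at hg ⊢
  exact conj_comm_mem hh hg

theorem kept {k : ℕ} (hk : k < 7) {g : GF} (hg : g ∈ M) (hne : g ≠ 1) (hc : g ∈ Cl (cellIds.getD k 0)) :
    InCC g := by
  obtain ⟨u, hu, v, hv, rfl⟩ := hc
  set n := ev (wW (cellIds.getD k 0)) with hn
  have hnM : n ∈ M := Deg_nSeq _ (weyl_ok _ (by
    have hlt : cellIds.getD k 0 < 16 := by
      have : ∀ k < 7, cellIds.getD k 0 < 16 := by decide +kernel
      exact this k hk
    rw [List.getD_eq_getElem _ _ (by rw [weyl_shape.1]; exact hlt)]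
    exact List.getElem_mem _)).1
  have huT := U_le hu
  have hgM : n * (v * u) ∈ M := by
    have := conj_mem_M (inv_mem huT) hg
    simpa [mul_assoc] using this
  have hvu : v * u ∈ U0 := by
    obtain ⟨z, hz, i, hi, e⟩ := U_split (mul_mem hv hu)
    rw [e] at hgM ⊢
    interval_cases i
    · simpa using hz
    · exfalso
      refine top_notMem_comm ?_
      have h2 := mul_mem (inv_mem (mul_mem hnM (U0_le_M hz))) hgM
      simpa [mul_assoc] using h2
  obtain ⟨i, hi, e⟩ := exists_index hvu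
  have hnode : ev (nodeW k i) = n * (v * u) := by rw [nodeW, ev_append, ← e]
  have hg' : u * n * v = u * ev (nodeW k i) * u⁻¹ := by rw [hnode]; simp [mul_assoc]
  rcases node_cover _ k i hk hi rfl with h | h
  · exact absurd (by rw [hg', h]; simp) hne
  · rw [hg']; exact h.conj huT

theorem reduce {j : ℕ} (hj : j < 16) (hr : redChk j = true) {g : GF} (hc : g ∈ Cl j) :
    ∃ j' < j, ∃ h ∈ twistedF4 (ZMod 2) 1, h * g * h⁻¹ ∈ Cl j' := by
  obtain ⟨u, hu, v, hv, rfl⟩ := hc
  simp only [redChk, Bool.and_eq_true, List.all_eq_true, List.mem_range, decide_eq_true_eq] at hr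
  obtain ⟨⟨⟨ht, hjr, hl, hlr⟩, hinv⟩, hx⟩ := hr
  generalize htd : (weylWords.getD j []).headD 2 = t at *
  generalize hrd : (weylWords.getD j []).tail = r at *
  generalize hjd : weylWords.idxOf r.reverse = jr at *
  have hw : ev (wW j) = ev (nW t) * ev (nSeq r) := by
    rw [wW, hl, nSeq, List.flatMap_cons, ev_append]; rfl
  have hri : ev (wW jr) = (ev (nSeq r))⁻¹ := by
    have := eqW_sound hinv
    rw [ev_append, ev_nil] at this
    rw [wW, hlr]
    exact TitsTwo15.inv_unique this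
  obtain ⟨w, x, hxl, hxe⟩ := coset_step ht (inv_mem (mul_mem hv hu))
  obtain ⟨q, hq, hqe⟩ := ker_step ht w
  have hh := checks_ok t ht
  simp only [Bool.and_eq_true, cellChk, List.all_eq_true, List.mem_range, decide_eq_true_eq] at hh
  obtain ⟨h1, h2⟩ := hh.1.2 x hxl jr hjr
  have h3 := eqW_sound h2
  simp only [ev_append] at h3
  generalize hcd : ((cellTab.getD t []).getD x []).getD jr ([], 0, []) = c at *
  obtain ⟨c1, jj, c2⟩ := c
  have hx' := hx x hxl
  rw [hcd] at hx'
  have hi2 := (invCell_ok jj h1).2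
  have hiw : ev (wW (invCell jj)) = (ev (wW jj))⁻¹ := by
    have := eqW_sound hi2
    rw [ev_append, ev_nil] at this
    exact TitsTwo15.inv_unique this
  refine ⟨invCell jj, hx', (u * ev (nW t))⁻¹, inv_mem (mul_mem (U_le hu) (ev_mem _)),
    (ev (cw c2))⁻¹, inv_mem (cw_mem _), (q * ev (cw c1))⁻¹, inv_mem (mul_mem hq (cw_mem _)), ?_⟩
  have hg' : (u * ev (nW t))⁻¹ * (u * ev (wW j) * v) * ((u * ev (nW t))⁻¹)⁻¹ =
      ev (nSeq r) * (v * u) * ev (nW t) := by
    rw [hw]; simp [mul_assoc]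
  rw [hg', hiw]
  apply inv_injective
  have hn := nW_inv ht
  calc (ev (nSeq r) * (v * u) * ev (nW t))⁻¹ = ev (nW t) * (v * u)⁻¹ * ev (wW jr) := by
        rw [hri, _root_.mul_inv_rev, _root_.mul_inv_rev, hn, ← mul_assoc]
    _ = ev (nW t) * ev (ksW t w) * ev (rep t x) * ev (wW jr) := by rw [hxe]; simp [mul_assoc]
    _ = q * (ev (nW t) * ev (rep t x) * ev (wW jr)) := by rw [hqe]; simp [mul_assoc]
    _ = _ := by rw [h3]; simp [mul_assoc]

theorem cover : ∀ j < 16, ∀ g ∈ M, g ≠ 1 → g ∈ Cl j → InCC g := by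
  intro j
  induction j using Nat.strong_induction_on with
  | _ j ih =>
    intro hj g hg hne hc
    rcases red_ok j hj with ⟨k, hk, rfl⟩ | hr
    · exact kept hk hg hne hc
    · obtain ⟨j', hj', h, hh, hc'⟩ := reduce hj hr hc
      have := (ih j' hj' (by omega) _ (conj_mem_M hh hg) (fun e => hne (by simpa [mul_inv_eq_one] using e)) hc').conj (inv_mem hh)
      simpa [mul_assoc] using this

theorem cWord_ok : (∀ l ∈ cWord, l < 8) ∧ oddCount cWord % 2 = 1 ∧
    eqW (cWord ++ fiveX) (fiveX ++ cWord) = true := by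
  decide +kernel

/-- conjugation by the whole group is conjugation by the derived group -/
theorem conj_in_M {a : GF} (ha : a ∈ twistedF4 (ZMod 2) 1) :
    ∃ m ∈ M, m * ev fiveX * m⁻¹ = a * ev fiveX * a⁻¹ := by
  obtain ⟨k, hk, m, hm, rfl⟩ := exists_Deg ha
  interval_cases k
  · exact ⟨m, hm, by rw [pow_zero, mul_one]⟩
  · obtain ⟨hl, ho, he⟩ := cWord_ok
    have hcomm := eqW_sound he
    rw [ev_append, ev_append] at hcomm
    obtain ⟨m', hm', hme⟩ := Deg_ev cWord hl
    have hfac : gl 1 ^ oddCount cWord = (gl 1 ^ 2) ^ (oddCount cWord / 2) * gl 1 := by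
      rw [← pow_mul, ← pow_succ]
      congr 1
    set d := m' * (gl 1 ^ 2) ^ (oddCount cWord / 2) with hd
    have hdM : d ∈ M := mul_mem hm' (pow_mem gl_one_sq_mem _)
    have hc : ev cWord = d * gl 1 := by rw [hme, hfac, hd, mul_assoc]
    refine ⟨m * d⁻¹, mul_mem hm (inv_mem hdM), ?_⟩
    have : gl 1 * ev fiveX * (gl 1)⁻¹ = d⁻¹ * (ev cWord * ev fiveX * (ev cWord)⁻¹) * d := by
      rw [hc]; simp [mul_assoc]
    rw [hcomm, mul_inv_cancel_right] at this
    rw [pow_one]
    calc m * d⁻¹ * ev fiveX * (m * d⁻¹)⁻¹ = m * (d⁻¹ * ev fiveX * d) * m⁻¹ := by simp [mul_assoc]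
      _ = _ := by rw [← this]; simp [mul_assoc]

/-- the Tits group is covered by the square of a class of elements of order five -/
theorem tits_cover : ∃ x : TitsGroup, Odd (orderOf x) ∧
    ∀ g : TitsGroup, g ≠ 1 → ∃ u v : TitsGroup, g = (u * x * u⁻¹) * (v * x * v⁻¹) := by
  obtain ⟨x, hx⟩ := exists_lift (even_mem_M five_letters.1 five_even.1)
  refine ⟨x, ?_, fun g hg => ?_⟩
  · have h5 : x ^ 5 = 1 := ι_inj (by rw [map_pow, hx, map_one, five_rel.1])
    rcases (Nat.dvd_prime (by norm_num : Nat.Prime 5)).mp (orderOf_dvd_of_pow_eq_one h5) with h | h <;> rw [h]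
    · exact odd_one
    · exact ⟨2, by norm_num⟩
  · have hgM : ι g ∈ M := by rw [← ι_range]; exact ⟨g, rfl⟩
    obtain ⟨u, hu, j, hj, v, hv, e⟩ := mem_Cells (M_le hgM)
    obtain ⟨a, ha, b, hb, eab⟩ := cover j hj _ hgM (fun h => hg (ι_inj (by rw [h, map_one]))) ⟨u, hu, v, hv, e⟩
    obtain ⟨m, hm, hma⟩ := conj_in_M ha
    obtain ⟨n, hn, hnb⟩ := conj_in_M hb
    obtain ⟨m', rfl⟩ := exists_lift hm
    obtain ⟨n', rfl⟩ := exists_lift hn
    exact ⟨m', n', ι_inj (by simp only [map_mul, map_inv, hx]; rw [eab, hma, hnb])⟩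

end Cfsg.Agent.TitsCover53
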