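import Cfsg.Agent.Lib.TitsCover53Base

/-!
The Tits group: the checks of the tables and of the reduction of cells.
-/

set_option autoImplicit false
set_option maxRecDepth 100000
set_option maxHeartbeats 0

namespace Cfsg.Agent.TitsCover53

theorem tableChk_ok : tableChk = true := by decide +kernel

theorem invCell_ok : ∀ a < 16, invCell a < 16 ∧ TitsTwo15.eqW (TitsTwo15.wW a ++ TitsTwo15.wW (invCell a)) [] = true := by
  decide +kernel

theorem red_ok : ∀ j < 16, (∃ k < 7, cellIds.getD k 0 = j) ∨ redChk j = true := by decide +kernel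

theorem sw_append : ∀ (l₁ l₂ : List (List ℕ)) (n : ℕ),
    sw (l₁ ++ l₂) n = sw l₂ (n / 2 ^ l₁.length) ++ sw l₁ (n % 2 ^ l₁.length)
  | [], l₂, n => by simp [sw]
  | e :: l₁, l₂, n => by
    rw [List.cons_append, sw, sw_append l₁ l₂, List.length_cons, pow_succ', sw, Nat.div_div_eq_div_mul,
      Nat.mod_mul_right_div_self, Nat.mod_mod_of_dvd _ (Dvd.intro _ rfl), List.append_assoc]

theorem chain_len : (TitsTwo15.chainWords.take 6).length = 6 := by decide +kernel

theorem split_ok (n : ℕ) : sw TitsTwo15.chainWords n =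
    sw (TitsTwo15.chainWords.drop 6) (n / 64) ++ sw (TitsTwo15.chainWords.take 6) (n % 64) := by
  rw [show (64 : ℕ) = 2 ^ 6 by norm_num]
  conv_lhs => rw [← List.take_append_drop 6 TitsTwo15.chainWords, sw_append, chain_len]

end Cfsg.Agent.TitsCover53
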