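import Cfsg.Agent.Lib.TitsMultData50
import Cfsg.Agent.Lib.TitsTwoTransitive15
import Cfsg.Agent.Lib.StemBasic

/-!
The multiplier of the Tits group is trivial, given its order.
-/

set_option autoImplicit false
set_option maxRecDepth 100000
set_option maxHeartbeats 800000

namespace Cfsg.Agent.TitsMult50

open Subgroup Cfsg.Agent.TitsTwo15 Cfsg.Lie
open Cfsg.Agent.CenSplitStable50 (P P_cons P_nil censplit_of_cert)
open scoped commutatorElement

/-! ### two kernel-free subgroups -/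

section Generic

universe u v

variable {Γ : Type u} {G : Type v} [Group Γ] [Group G] {σ : Γ →* G}

theorem conj_iterate {x a γ : Γ} (hγ : ∀ g : Γ, Commute γ g) (h : x * a * x⁻¹ = γ * a) :
    ∀ n : ℕ, x ^ n * a * (x ^ n)⁻¹ = γ ^ n * a
  | 0 => by simp
  | n + 1 => by
    have hx : x * γ ^ n = γ ^ n * x := ((hγ x).pow_left n).symm.eq
    calc x ^ (n + 1) * a * (x ^ (n + 1))⁻¹ = x * (x ^ n * a * (x ^ n)⁻¹) * x⁻¹ := by
          rw [pow_succ']; group
      _ = x * γ ^ n * a * x⁻¹ := by rw [conj_iterate hγ h n]; group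
      _ = γ ^ n * (x * a * x⁻¹) := by rw [hx]; group
      _ = γ ^ (n + 1) * a := by rw [h, pow_succ]; group

/-- the commutator subgroup of the preimage of a subgroup on two generators whose commutator is
central in it -/
theorem mem_zpowers_comm (hc : σ.ker ≤ center Γ) {α β C : Γ}
    (hC : β * α * β⁻¹ * α⁻¹ = C) (hαC : Commute α C) (hβC : Commute β C) (H : Subgroup G)
    (hH : H = closure {σ α, σ β}) {w : Γ}
    (hw : w ∈ (commutator (H.comap σ)).map (H.comap σ).subtype) : w ∈ zpowers C := by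
  subst hH
  set K := (closure {σ α, σ β}).comap σ with hK
  have hαK : α ∈ K := subset_closure (Set.mem_insert _ _)
  have hβK : β ∈ K := subset_closure (Set.mem_insert_of_mem _ rfl)
  have hCK : C ∈ K := hC ▸ K.mul_mem (K.mul_mem (K.mul_mem hβK hαK) (K.inv_mem hβK)) (K.inv_mem hαK)
  have hgen : closure ({(⟨α, hαK⟩ : K), ⟨β, hβK⟩} ∪ (center K : Set K)) = ⊤ := by
    rw [eq_top_iff]
    rintro ⟨g, hg⟩ -
    set T := closure ({(⟨α, hαK⟩ : K), ⟨β, hβK⟩} ∪ (center K : Set K)) with hT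
    have : closure {σ α, σ β} ≤ (T.map K.subtype).map σ := by
      rw [closure_le]
      rintro x (rfl | rfl)
      · exact ⟨α, ⟨⟨α, hαK⟩, subset_closure (Or.inl (Set.mem_insert _ _)), rfl⟩, rfl⟩
      · exact ⟨β, ⟨⟨β, hβK⟩, subset_closure (Or.inl (Set.mem_insert_of_mem _ rfl)), rfl⟩, rfl⟩
    obtain ⟨_, ⟨⟨g', hg'⟩, hgT, rfl⟩, he⟩ := this hg
    obtain ⟨y, hy, hy'⟩ := StemBasic.exists_ker_mul (σ := σ) (a := g) (b := g') he.symm
    have hyK : y ∈ K := by
      show σ y ∈ closure {σ α, σ β}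
      rw [hy]; exact one_mem _
    have hyc : (⟨y, hyK⟩ : K) ∈ center K :=
      mem_center_iff.2 fun x => Subtype.ext (StemBasic.ker_comm hc hy x)
    have : (⟨g, hg⟩ : K) = ⟨g', hg'⟩ * ⟨y, hyK⟩ := Subtype.ext hy'
    rw [this]
    exact T.mul_mem hgT (subset_closure (Or.inr hyc))
  have hcz := StemBasic.commutator_le_zpowers (⟨α, hαK⟩ : K) ⟨β, hβK⟩ hgen ⟨C, hCK⟩
    (Subtype.ext hC)
    (mem_zpowers_iff.2 ⟨1, Subtype.ext (by simp [hαC.eq])⟩)
    (mem_zpowers_iff.2 ⟨1, Subtype.ext (by simp [hβC.eq])⟩)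
    (mem_zpowers_iff.2 ⟨1, Subtype.ext (by simp [mul_assoc, ← hαC.eq])⟩)
    (mem_zpowers_iff.2 ⟨1, Subtype.ext (by simp [mul_assoc, ← hβC.eq])⟩)
  obtain ⟨w', hw', rfl⟩ := hw
  obtain ⟨j, rfl⟩ := hcz hw'
  exact mem_zpowers_iff.2 ⟨j, by simp⟩

/-- central factors drop out of a commutator -/
theorem comm_central {a b z t : Γ} (hz : ∀ g, Commute z g) (ht : ∀ g, Commute t g) :
    a * z * (b * t) * (a * z)⁻¹ * (b * t)⁻¹ = a * b * a⁻¹ * b⁻¹ := by
  calc a * z * (b * t) * (a * z)⁻¹ * (b * t)⁻¹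
      = a * (z * b) * ((t * z⁻¹) * (a⁻¹ * t⁻¹)) * b⁻¹ := by group
    _ = a * (b * z) * ((z⁻¹ * t) * (t⁻¹ * a⁻¹)) * b⁻¹ := by
      rw [(hz b).eq, ((hz t).inv_left).eq, ((ht a⁻¹).inv_left).eq]
    _ = _ := by group

/-- an abelian subgroup `⟨a, b⟩` of exponent five on which a conjugation is the cube map -/
theorem kerFree_five (hs : Function.Surjective σ) (hc : σ.ker ≤ center Γ) (a b g : G)
    (hb : b ^ 5 = 1) (hab : b * a = a * b) (hga : g * a = a ^ 3 * g) (hgb : g * b = b ^ 3 * g) :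
    StemBasic.KerFree σ (closure {a, b}) := by
  intro w hw _
  obtain ⟨α, rfl⟩ := hs a
  obtain ⟨β, rfl⟩ := hs b
  obtain ⟨γ, rfl⟩ := hs g
  obtain ⟨C, hC⟩ : ∃ C, β * α * β⁻¹ * α⁻¹ = C := ⟨_, rfl⟩
  have hCc : ∀ x : Γ, Commute C x := fun x =>
    (StemBasic.ker_comm hc (show σ C = 1 by
      rw [← hC, map_mul, map_mul, map_mul, map_inv, map_inv, hab, mul_inv_cancel_right,
        mul_inv_cancel]) x).symm
  have h1 : β * α * β⁻¹ = C * α := by rw [← hC]; group
  have h5 : C ^ 5 = 1 := by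
    have h2 := conj_iterate hCc h1 5
    have h3 := StemBasic.ker_comm hc (show σ (β ^ 5) = 1 by rw [map_pow, hb]) α
    rw [← h3, mul_inv_cancel_right] at h2
    exact (mul_eq_right.1 h2.symm)
  obtain ⟨z₁, hz₁, e₁⟩ := StemBasic.exists_ker_mul (σ := σ) (a := γ * α * γ⁻¹) (b := α ^ 3)
    (by rw [map_mul, map_mul, map_inv, hga, map_pow, mul_inv_cancel_right])
  obtain ⟨z₂, hz₂, e₂⟩ := StemBasic.exists_ker_mul (σ := σ) (a := γ * β * γ⁻¹) (b := β ^ 3)
    (by rw [map_mul, map_mul, map_inv, hgb, map_pow, mul_inv_cancel_right])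
  have h9 : C ^ 9 = C := by
    have e : γ * C * γ⁻¹ = (γ * β * γ⁻¹) * (γ * α * γ⁻¹) * (γ * β * γ⁻¹)⁻¹ * (γ * α * γ⁻¹)⁻¹ := by
      rw [← hC]; group
    rw [e₁, e₂, ← (hCc γ).eq, mul_inv_cancel_right] at e
    have hpow : β ^ 3 * α ^ 3 * (β ^ 3)⁻¹ = C ^ 9 * α ^ 3 := by
      rw [← conj_pow, conj_iterate hCc h1 3, ((hCc α).pow_left 3).mul_pow, ← pow_mul]
    rw [comm_central (fun g => (StemBasic.ker_comm hc hz₂ g).symm)
      (fun g => (StemBasic.ker_comm hc hz₁ g).symm)] at e
    conv_rhs => rw [e, hpow, mul_inv_cancel_right]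
  have hC1 : C = 1 := by
    have : C ^ 8 = 1 := by
      rw [pow_succ] at h9
      exact mul_eq_right.1 h9
    have := pow_gcd_eq_one.2 ⟨h5, this⟩
    simpa using this
  have := mem_zpowers_comm hc hC ((hCc α).symm) ((hCc β).symm) _ rfl hw
  rw [hC1, zpowers_one_eq_bot, mem_bot] at this
  exact this

/-- a group of order 27 of exponent three inverted modulo its centre -/
theorem kerFree_three (hs : Function.Surjective σ) (hc : σ.ker ≤ center Γ) (a b c g : G)
    (hb : b ^ 3 = 1) (hc3 : orderOf c = 3) (hba : b * a * b⁻¹ * a⁻¹ = c) (hac : a * c = c * a)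
    (hbc : b * c = c * b) (hga : g * a = a ^ 2 * g) (hgb : g * b = b ^ 2 * g) (hgc : g * c = c * g) :
    StemBasic.KerFree σ (closure {a, b}) := by
  intro w hw hw1
  obtain ⟨α, rfl⟩ := hs a
  obtain ⟨β, rfl⟩ := hs b
  obtain ⟨γ, rfl⟩ := hs g
  obtain ⟨C, hC⟩ : ∃ C, β * α * β⁻¹ * α⁻¹ = C := ⟨_, rfl⟩
  have hσC : σ C = c := by
    rw [← hC, ← hba, map_mul, map_mul, map_mul, map_inv, map_inv]
  subst hσC
  have hcen : ∀ {z : Γ}, σ z = 1 → ∀ x : Γ, Commute z x := fun h x =>
    (StemBasic.ker_comm hc h x).symm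
  -- `C` commutes with both lifts
  have key : ∀ x : Γ, σ x * σ C = σ C * σ x → γ * x * γ⁻¹ * (x ^ 2)⁻¹ ∈ σ.ker →
      Commute x C := by
    intro x hx hg
    obtain ⟨u, hu⟩ : ∃ u, C * x * C⁻¹ * x⁻¹ = u := ⟨_, rfl⟩
    have hσu : σ u = 1 := by
      rw [← hu, map_mul, map_mul, map_mul, map_inv, map_inv, ← hx, mul_inv_cancel_right,
        mul_inv_cancel]
    have huc := hcen hσu
    have h1 : C * x * C⁻¹ = u * x := by rw [← hu]; group
    have h2 : C * x ^ 2 * C⁻¹ = u ^ 2 * x ^ 2 := by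
      rw [← conj_pow, h1, (huc x).mul_pow]
    obtain ⟨v, hv, ev⟩ := StemBasic.exists_ker_mul (σ := σ) (a := γ * C * γ⁻¹) (b := C)
      (by rw [map_mul, map_mul, map_inv, hgc, mul_inv_cancel_right])
    obtain ⟨t, ht, et⟩ := StemBasic.exists_ker_mul (σ := σ) (a := γ * x * γ⁻¹) (b := x ^ 2)
      (mul_inv_eq_one.1 (by simpa [map_mul, map_inv] using hg))
    have h3 : γ * u * γ⁻¹ = C * x ^ 2 * C⁻¹ * (x ^ 2)⁻¹ := by
      have e : γ * u * γ⁻¹ =
          (γ * C * γ⁻¹) * (γ * x * γ⁻¹) * (γ * C * γ⁻¹)⁻¹ * (γ * x * γ⁻¹)⁻¹ := by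
        rw [← hu]; group
      rw [e, ev, et, comm_central (hcen hv) (hcen ht)]
    rw [h2, mul_inv_cancel_right, ← (huc γ).eq, mul_inv_cancel_right, pow_two] at h3
    have hu1 : u = 1 := mul_eq_left.1 h3.symm
    rw [hu1] at hu
    have h4 : C * x = x * C := by
      calc C * x = C * x * C⁻¹ * x⁻¹ * (x * C) := by group
        _ = x * C := by rw [hu, one_mul]
    exact h4.symm
  have hαC : Commute α C := key α hac (by
    rw [MonoidHom.mem_ker, map_mul, map_mul, map_mul, map_inv, map_inv, map_pow, hga,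
      mul_inv_cancel_right, mul_inv_cancel])
  have hβC : Commute β C := key β hbc (by
    rw [MonoidHom.mem_ker, map_mul, map_mul, map_mul, map_inv, map_inv, map_pow, hgb,
      mul_inv_cancel_right, mul_inv_cancel])
  obtain ⟨j, rfl⟩ := mem_zpowers_iff.1 (mem_zpowers_comm hc hC hαC hβC _ rfl hw)
  have hC3 : C ^ 3 = 1 := by
    have h1 : β * α * β⁻¹ = C * α := by rw [← hC]; group
    have h2 : β ^ 3 * α * (β ^ 3)⁻¹ = C ^ 3 * α := by
      calc β ^ 3 * α * (β ^ 3)⁻¹ = β * (β * (β * α * β⁻¹) * β⁻¹) * β⁻¹ := by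
            simp only [pow_succ, pow_zero, one_mul]; group
        _ = C * (C * (β * α * β⁻¹)) := by
          rw [h1]
          rw [show β * (C * α) * β⁻¹ = C * (β * α * β⁻¹) by
            rw [← mul_assoc β, hβC.eq]; group, ← mul_assoc β C, hβC.eq, h1]
          rw [show C * β * (C * α) * β⁻¹ = C * (C * (β * α * β⁻¹)) by
            rw [← mul_assoc (C * β), mul_assoc C β C, hβC.eq]; group, h1]
        _ = _ := by rw [h1]; simp only [pow_succ, pow_zero, one_mul, mul_assoc]
    rw [← StemBasic.ker_comm hc (show σ (β ^ 3) = 1 by rw [map_pow, hb]) α,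
      mul_inv_cancel_right] at h2
    exact mul_eq_right.1 h2.symm
  rw [map_zpow, ← orderOf_dvd_iff_zpow_eq_one, hc3] at hw1
  obtain ⟨k, rfl⟩ := hw1
  rw [zpow_mul, show ((3 : ℕ) : ℤ) = 3 from rfl]
  simp [zpow_ofNat, hC3]

end Generic

/-! ### the elements -/

/-- a check for words in the derived group -/
def good (w : List ℕ) : Bool := w.all (fun l => decide (l < 8)) && (oddCount w % 2 == 0)

/-- a word as an element of the Tits group -/
noncomputable def tl (w : List ℕ) : TitsGroup := by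
  classical exact if h : ev w ∈ M then (exists_lift h).choose else 1

theorem ι_tl {w : List ℕ} (h : good w = true) : ι (tl w) = ev w := by
  simp only [good, Bool.and_eq_true, List.all_eq_true, decide_eq_true_eq, beq_iff_eq] at h
  have hm := even_mem_M h.1 h.2
  rw [tl, dif_pos hm]
  exact (exists_lift hm).choose_spec

/-- the chain -/
def yW (i : ℕ) : List ℕ := chainWords.tail.getD i []

/-- the chain in the group -/
noncomputable def y (i : ℕ) : TitsGroup := tl (yW i)

/-- the reflections in the group -/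
noncomputable def x (t : ℕ) : TitsGroup := tl (nW t)

theorem good_all : ((List.range 11).all fun i => good (yW i)) && good (nW 0) && good (nW 1) &&
    [fiveX, fiveY, fiveS, threeP, threeQ, threeZ, threeS].all good = true := by decide +kernel

theorem ι_y (i : ℕ) : ι (y i) = ev (yW i) := by
  refine ι_tl ?_
  by_cases hi : i < 11
  · have := good_all
    simp only [Bool.and_eq_true, List.all_eq_true, List.mem_range] at this
    exact this.1.1.1 i hi
  · have hl : chainWords.tail.length = 11 := by decide +kernel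
    rw [yW, List.getD_eq_default _ _ (by omega)]
    rfl

theorem ι_x {t : ℕ} (ht : t < 2) : ι (x t) = ev (nW t) := by
  refine ι_tl ?_
  have := good_all
  simp only [Bool.and_eq_true] at this
  interval_cases t
  · exact this.1.1.2
  · exact this.1.2

theorem ι_word {w : List ℕ} (h : w ∈ [fiveX, fiveY, fiveS, threeP, threeQ, threeZ, threeS]) :
    ι (tl w) = ev w := by
  have := good_all
  simp only [Bool.and_eq_true, List.all_eq_true, decide_eq_true_eq] at this
  exact ι_tl (this.2 w h)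

theorem ι_P : ∀ l : List ℕ, ι (P y l) = ev (l.flatMap yW)
  | [] => by rw [P_nil, map_one, List.flatMap_nil, ev_nil]
  | a :: l => by rw [P_cons, map_mul, ι_y, ι_P l, List.flatMap_cons, ev_append]

/-- the checks in the matrix group -/
def relsChk : Bool :=
  (relsD.all fun l => eqW (l.1.flatMap yW) (l.2.flatMap yW)) &&
    pairsD.all fun p => decide (p.1 < 2) &&
      eqW (nW p.1 ++ p.2.1.flatMap yW) (p.2.2.flatMap yW ++ nW p.1)

theorem relsChk_ok : relsChk = true := by decide +kernel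

theorem card_U0_ge : 2048 ≤ Nat.card ↥U0 := by
  have hs : (U : Set GF) ⊆
      Set.range fun p : Fin 2 × ↥U0 => (p.2 : GF) * gl 1 ^ (p.1 : ℕ) := by
    intro g hg
    obtain ⟨z, hz, i, hi, rfl⟩ := U_split hg
    exact ⟨(⟨i, hi⟩, ⟨z, hz⟩), rfl⟩
  have h := (Set.ncard_le_ncard hs (Set.toFinite _)).trans
    (le_of_eq_of_le (Nat.card_coe_set_eq _).symm (Finite.card_range_le _))
  rw [← Nat.card_coe_set_eq, Nat.card_prod, Nat.card_fin] at h
  have h' : Nat.card ↥U ≤ 2 * Nat.card ↥U0 := h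
  rw [card_U] at h'
  omega

/-- the chain subgroup -/
noncomputable def S : Subgroup TitsGroup := closure (y '' Set.Iio cert.n)

theorem map_S : S.map ι = U0 := by
  rw [S, MonoidHom.map_closure, U0]
  congr 1
  have hl : chainWords.tail.length = 11 := by decide +kernel
  ext g
  simp only [Set.mem_image, Set.mem_Iio, exists_exists_and_eq_and, ι_y, yW]
  constructor
  · rintro ⟨i, hi, rfl⟩
    have hi' : i < chainWords.tail.length := by rw [hl]; exact hi
    exact ⟨_, by rw [List.getD_eq_getElem (hn := hi')]; exact List.getElem_mem _, rfl⟩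
  · rintro ⟨e, he, rfl⟩
    obtain ⟨i, hi, rfl⟩ := List.getElem_of_mem he
    exact ⟨i, by show i < 11; omega, by rw [List.getD_eq_getElem (hn := hi)]⟩

variable (hT : Nat.card TitsGroup = 2 ^ 11 * 3 ^ 3 * 5 ^ 2 * 13)

theorem rels_y : ∀ r < cert.rels.length,
    P y (cert.rels.getD r ([], [])).1 = P y (cert.rels.getD r ([], [])).2 := by
  intro r hr
  have h := relsChk_ok
  simp only [relsChk, Bool.and_eq_true, List.all_eq_true] at h
  have := h.1 _ (List.getElem_mem hr)
  apply ι_inj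
  rw [ι_P, ι_P, List.getD_eq_getElem (hn := hr)]
  exact eqW_sound this

theorem pairs_y : ∀ k < cert.pairs.length,
    x (cert.pairs.getD k (0, [], [])).1 * P y (cert.pairs.getD k (0, [], [])).2.1 =
      P y (cert.pairs.getD k (0, [], [])).2.2 * x (cert.pairs.getD k (0, [], [])).1 := by
  intro k hk
  have h := relsChk_ok
  simp only [relsChk, Bool.and_eq_true, List.all_eq_true, decide_eq_true_eq] at h
  obtain ⟨h1, h2⟩ := h.2 _ (List.getElem_mem hk)
  apply ι_inj
  rw [List.getD_eq_getElem (hn := hk), map_mul, map_mul, ι_P, ι_P]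
  rw [ι_x h1, ← ev_append, ← ev_append]
  exact eqW_sound h2

theorem card_S_ge : 2 ^ 11 ≤ Nat.card ↥S := by
  rw [← card_map_inj ι ι_inj, map_S]
  exact card_U0_ge

include hT

theorem index_S_odd : Odd S.index := by
  have h1 := card_S_ge
  have h2 : Nat.card ↥S ≤ 2 ^ 11 := CenSplitStable50.card_chain cert shape_ok y rels_y
  have h3 := S.card_mul_index
  rw [hT, le_antisymm h2 h1] at h3
  have h4 : S.index = 8775 := by norm_num at h3; omega
  rw [h4]; decide

theorem censplit_two : SplitVoltage.CenSplit 2 TitsGroup :=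
  censplit_of_cert cert shape_ok comb_ok y x rels_y pairs_y card_S_ge (index_S_odd hT)

omit hT

/-! ### the primes three and five -/

/-- the words of the subgroup of order 27 -/
def tW (i : ℕ) : List ℕ :=
  (List.replicate (i / 9) threeP).flatten ++ (List.replicate (i / 3 % 3) threeQ).flatten ++
    (List.replicate (i % 3) threeZ).flatten

/-- the checks for the two small Sylow subgroups -/
def oddChk : Bool :=
  eqW (fiveS ++ fiveX) (fiveX ++ fiveX ++ fiveX ++ fiveS) &&
  eqW (fiveS ++ fiveY) (fiveY ++ fiveY ++ fiveY ++ fiveS) &&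
  eqW (threeP ++ threeP ++ threeP) [] && eqW (threeQ ++ threeQ ++ threeQ) [] &&
  eqW (threeZ ++ threeZ ++ threeZ) [] &&
  eqW (threeQ ++ threeP) (threeZ ++ threeP ++ threeQ) &&
  eqW (threeP ++ threeZ) (threeZ ++ threeP) && eqW (threeQ ++ threeZ) (threeZ ++ threeQ) &&
  eqW (threeS ++ threeP) (threeP ++ threeP ++ threeS) &&
  eqW (threeS ++ threeQ) (threeQ ++ threeQ ++ threeS) &&
  eqW (threeS ++ threeZ) (threeZ ++ threeS) &&
  ((List.range 27).all fun i =>
    eqW (tW i ++ threeP) (tW ((i / 9 + 1) % 3 * 9 + i / 3 % 3 * 3 + (i % 3 + i / 3 % 3) % 3)) &&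
    eqW (tW i ++ threeQ) (tW (i / 9 * 9 + (i / 3 % 3 + 1) % 3 * 3 + i % 3))) &&
  decide (sigs sepBits (evP threeZ) ≠ sigs sepBits oneP) &&
  decide (((List.range 27).map fun i => sigs sepBits (evP (tW i))).Nodup) &&
  sepBits.all fun q => decide (q / 64 < 52 ∧ q % 64 < 52)

theorem oddChk_ok : oddChk = true := by decide +kernel

theorem no_five {Γ : Type} [Group Γ] [Finite Γ] (σ : Γ →* TitsGroup) (hσ : Cfsg.IsStemExtension σ)
    (hT : Nat.card TitsGroup = 2 ^ 11 * 3 ^ 3 * 5 ^ 2 * 13) {z : Γ} (hz : σ z = 1)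
    (ho : orderOf z = 5) : False := by
  have h := oddChk_ok
  simp only [oddChk, Bool.and_eq_true] at h
  obtain ⟨⟨⟨⟨⟨⟨⟨⟨⟨⟨⟨⟨⟨⟨g1, g2⟩, -⟩, -⟩, -⟩, -⟩, -⟩, -⟩, -⟩, -⟩, -⟩, -⟩, -⟩, -⟩, -⟩ := h
  obtain ⟨hx5, hy5, hcomm⟩ := five_rel
  have iX := ι_word (w := fiveX) (by simp)
  have iY := ι_word (w := fiveY) (by simp)
  have iS := ι_word (w := fiveS) (by simp)
  have hk := kerFree_five hσ.1 hσ.2.1 (tl fiveX) (tl fiveY) (tl fiveS)
    (ι_inj (by rw [map_pow, iY, hy5, map_one]))
    (ι_inj (by rw [map_mul, map_mul, iX, iY]; exact hcomm.eq.symm))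
    (ι_inj (by
      rw [map_mul, map_mul, map_pow, iX, iS, ← ev_append, eqW_sound g1]
      simp only [ev_append, pow_succ, pow_zero, one_mul]))
    (ι_inj (by
      rw [map_mul, map_mul, map_pow, iY, iS, ← ev_append, eqW_sound g2]
      simp only [ev_append, pow_succ, pow_zero, one_mul]))
  have hcard : Nat.card ↥(Subgroup.closure ({tl fiveX, tl fiveY} : Set TitsGroup)) = 25 := by
    rw [← card_map_inj ι ι_inj, MonoidHom.map_closure, Set.image_pair, iX, iY]
    exact card_P25
  have hidx : (Subgroup.closure ({tl fiveX, tl fiveY} : Set TitsGroup)).index = 2 ^ 11 * 3 ^ 3 * 13 := by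
    have h3 := (Subgroup.closure ({tl fiveX, tl fiveY} : Set TitsGroup)).card_mul_index
    rw [hT, hcard] at h3
    norm_num at h3 ⊢
    omega
  have := StemBasic.eq_one_of_kerFree hσ hk hz (by rw [ho, hidx]; norm_num)
  rw [this, orderOf_one] at ho
  norm_num at ho

theorem no_three {Γ : Type} [Group Γ] [Finite Γ] (σ : Γ →* TitsGroup) (hσ : Cfsg.IsStemExtension σ)
    (hT : Nat.card TitsGroup = 2 ^ 11 * 3 ^ 3 * 5 ^ 2 * 13) {z : Γ} (hz : σ z = 1)
    (ho : orderOf z = 3) : False := by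
  have h := oddChk_ok
  simp only [oddChk, Bool.and_eq_true, decide_eq_true_eq, List.all_eq_true] at h
  obtain ⟨⟨⟨⟨⟨⟨⟨⟨⟨⟨⟨⟨⟨⟨-, -⟩, p3⟩, q3⟩, z3⟩, qp⟩, pz⟩, qz⟩, sp⟩, sq⟩, sz⟩, tab⟩, zne⟩, nd⟩, hbits⟩ := h
  have iP := ι_word (w := threeP) (by simp)
  have iQ := ι_word (w := threeQ) (by simp)
  have iZ := ι_word (w := threeZ) (by simp)
  have iS := ι_word (w := threeS) (by simp)
  have cube : ∀ w, eqW (w ++ w ++ w) [] = true → ι (tl w) = ev w → tl w ^ 3 = 1 := by
    intro w hw he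
    apply ι_inj
    rw [map_pow, he, map_one]
    have := eqW_sound hw
    rw [ev_nil, ev_append, ev_append] at this
    simpa [pow_succ] using this
  have hz1 : tl threeZ ≠ 1 := by
    intro e
    refine sigs_ne hbits zne ?_
    rw [← Φ_ev, ← iZ, e, map_one, map_one, toM_one]
  have : Fact (Nat.Prime 3) := ⟨by norm_num⟩
  have hord := orderOf_eq_prime (cube _ z3 iZ) hz1
  have hba : tl threeQ * tl threeP * (tl threeQ)⁻¹ * (tl threeP)⁻¹ = tl threeZ := by
    have : tl threeQ * tl threeP = tl threeZ * tl threeP * tl threeQ := ι_inj (by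
      simp only [map_mul, iP, iQ, iZ, ← ev_append]; exact eqW_sound qp)
    rw [this, mul_inv_cancel_right, mul_inv_cancel_right]
  have hk := kerFree_three hσ.1 hσ.2.1 (tl threeP) (tl threeQ) (tl threeZ) (tl threeS)
    (cube _ q3 iQ) hord hba
    (ι_inj (by simp only [map_mul, iP, iZ, ← ev_append]; exact eqW_sound pz))
    (ι_inj (by simp only [map_mul, iQ, iZ, ← ev_append]; exact eqW_sound qz))
    (ι_inj (by simp only [map_mul, pow_two, iP, iS, ← ev_append]; exact eqW_sound sp))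
    (ι_inj (by simp only [map_mul, pow_two, iQ, iS, ← ev_append]; exact eqW_sound sq))
    (ι_inj (by simp only [map_mul, iS, iZ, ← ev_append]; exact eqW_sound sz))
  have hcard : Nat.card ↥(Subgroup.closure ({tl threeP, tl threeQ} : Set TitsGroup)) = 27 := by
    rw [← card_map_inj ι ι_inj, MonoidHom.map_closure, Set.image_pair, iP, iQ]
    have hset : ((Subgroup.closure {ev threeP, ev threeQ} : Subgroup GF) : Set GF) =
        Set.range fun i : Fin 27 => ev (tW i) := by
      refine Set.Subset.antisymm (fun g hg => ?_) ?_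
      · refine closure_sub_right (T := Set.range fun i : Fin 27 => ev (tW i)) ⟨0, ?_⟩ ?_ hg
        · simp [tW, ev_nil]
        · rintro _ ⟨i, rfl⟩ _ (rfl | rfl)
          · exact ⟨⟨(i.val / 9 + 1) % 3 * 9 + i.val / 3 % 3 * 3 + (i.val % 3 + i.val / 3 % 3) % 3, by omega⟩, by rw [← ev_append]; exact (eqW_sound (tab i (List.mem_range.2 i.2)).1).symm⟩
          · exact ⟨⟨i.val / 9 * 9 + (i.val / 3 % 3 + 1) % 3 * 3 + i.val % 3, by omega⟩, by rw [← ev_append]; exact (eqW_sound (tab i (List.mem_range.2 i.2)).2).symm⟩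
      · rintro _ ⟨i, rfl⟩
        have hP : ev threeP ∈ Subgroup.closure {ev threeP, ev threeQ} :=
          Subgroup.subset_closure (Or.inl rfl)
        have hQ : ev threeQ ∈ Subgroup.closure {ev threeP, ev threeQ} :=
          Subgroup.subset_closure (Or.inr rfl)
        have hZ : ev threeZ ∈ Subgroup.closure {ev threeP, ev threeQ} := by
          rw [← iZ, ← hba]
          simp only [map_mul, map_inv, iP, iQ]
          exact mul_mem (mul_mem (mul_mem hQ hP) (inv_mem hQ)) (inv_mem hP)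
        show ev (tW i) ∈ Subgroup.closure {ev threeP, ev threeQ}
        rw [tW, ev_append, ev_append, ev_flatten_replicate, ev_flatten_replicate,
          ev_flatten_replicate]
        exact mul_mem (mul_mem (pow_mem hP _) (pow_mem hQ _)) (pow_mem hZ _)
    rw [← SetLike.coe_sort_coe, Nat.card_coe_set_eq, hset, ← Nat.card_coe_set_eq,
      Nat.card_range_of_injective (ev_inj_sigs hbits tW nd), Nat.card_fin]
  obtain ⟨H, hH⟩ : ∃ H, H = Subgroup.closure ({tl threeP, tl threeQ} : Set TitsGroup) := ⟨_, rfl⟩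
  rw [← hH] at hk hcard
  have hcop : Nat.Coprime 3 H.index := by
    have h3 := H.card_mul_index
    rw [hT, hcard] at h3
    have h4 : H.index = 2 ^ 11 * 5 ^ 2 * 13 := by norm_num at h3 ⊢; omega
    rw [h4]; norm_num
  have := StemBasic.eq_one_of_kerFree hσ hk hz (by rw [ho]; exact hcop)
  rw [this, orderOf_one] at ho
  norm_num at ho

include hT

theorem multiplier : Cfsg.HasCyclicSchurMultiplier TitsGroup 1 := by
  refine StemBasic.hasCyclic_one fun Γ _ _ σ hσ => StemBasic.ker_eq_bot_of_primes ?_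
  intro ℓ hl z hz ho
  have := Fact.mk hl
  have hdvd : ℓ ∣ Nat.card σ.ker := ho ▸ StemBasic.orderOf_dvd_card_ker hz
  by_cases h5 : ℓ = 5
  · exact no_five σ hσ hT hz (ho.trans h5)
  by_cases h3 : ℓ = 3
  · exact no_three σ hσ hT hz (ho.trans h3)
  by_cases h13 : ℓ = 13
  · subst h13
    obtain ⟨a, ha⟩ := exists_prime_orderOf_dvd_card' (G := TitsGroup) 13 (by rw [hT]; norm_num)
    have hidx : (zpowers a).index = 2 ^ 11 * 3 ^ 3 * 5 ^ 2 := by
      have h := (zpowers a).card_mul_index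
      rw [hT, Nat.card_zpowers, ha] at h
      norm_num at h ⊢
      omega
    have := StemBasic.eq_one_of_kerFree hσ (StemBasic.kerFree_zpowers σ hσ.2.1 a) hz
      (by rw [ho, hidx]; norm_num)
    rw [this, orderOf_one] at ho
    norm_num at ho
  · have hs : SplitVoltage.CenSplit ℓ TitsGroup := by
      by_cases h2 : ℓ = 2
      · subst h2; exact censplit_two hT
      · have : NeZero ℓ := ⟨hl.ne_zero⟩
        refine SplitVoltage.censplit_of_coprime (Nat.Coprime.symm ?_)
        rw [hl.coprime_iff_not_dvd, hT]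
        intro hd
        rcases (Nat.Prime.dvd_mul hl).1 hd with hd | hd
        · rcases (Nat.Prime.dvd_mul hl).1 hd with hd | hd
          · rcases (Nat.Prime.dvd_mul hl).1 hd with hd | hd
            · exact h2 ((Nat.prime_dvd_prime_iff_eq hl (by norm_num)).1 (hl.dvd_of_dvd_pow hd))
            · exact h3 ((Nat.prime_dvd_prime_iff_eq hl (by norm_num)).1 (hl.dvd_of_dvd_pow hd))
          · exact h5 ((Nat.prime_dvd_prime_iff_eq hl (by norm_num)).1 (hl.dvd_of_dvd_pow hd))
        · exact h13 ((Nat.prime_dvd_prime_iff_eq hl (by norm_num)).1 hd)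
    obtain ⟨N, hN⟩ := SplitVoltage.trivial_multiplier.exists_index_eq_prime (p := ℓ) hσ.2.1 hdvd
    have hNn : N.Normal := by
      constructor
      intro a ha g
      have : g * a = a * g := Subtype.ext (mem_center_iff.1 (hσ.2.1 a.2) g)
      rwa [this, mul_inv_cancel_right]
    have : IsCyclic (σ.ker ⧸ N) := isCyclic_of_prime_card (p := ℓ) hN
    let e : σ.ker ⧸ N ≃* Multiplicative (ZMod ℓ) :=
      mulEquivOfCyclicCardEq (by
        rw [show Nat.card (σ.ker ⧸ N) = ℓ from hN]; simp)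
    obtain ⟨ψ, hψ⟩ := hs Γ σ hσ.1 hσ.2.1 (e.toMonoidHom.comp (QuotientGroup.mk' N))
    have htop : N = ⊤ := by
      rw [Subgroup.eq_top_iff']
      intro w
      have := hψ w
      rw [SplitVoltage.eq_one_of_mem_commutator ψ (hσ.2.2 w.2)] at this
      exact (QuotientGroup.eq_one_iff w).1 (e.injective (by simpa using this.symm))
    rw [htop, Subgroup.index_top] at hN
    exact hl.one_lt.ne hN

end Cfsg.Agent.TitsMult50
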