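import Cfsg.Agent.Lib.TitsTwoBase15

/-!
The decidable checks of the certificate for ²F₄(2).
-/

set_option autoImplicit false
set_option maxRecDepth 100000
set_option maxHeartbeats 1000000

namespace Cfsg.Agent.TitsTwo15

/-- equality of words, decided on packed matrices -/
def eqW (v w : List ℕ) : Bool := Nat.beq (evP v) (evP w)

theorem eqW_sound {v w : List ℕ} (h : eqW v w = true) : ev v = ev w := ev_eq h

/-- the word of a list of positions -/
def pw (es : List (List ℕ)) (ps : List ℕ) : List ℕ := ps.flatMap fun p => es.getD p []

/-- the certificate check for a chain -/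
def chainChk : List (List ℕ) → List (List (List ℕ) × List ℕ) → Bool
  | [], _ => true
  | _ :: _, [] => false
  | e :: es, c :: cs =>
    ((List.range es.length).all fun j => eqW (e ++ es.getD j []) (pw es (c.1.getD j []) ++ e))
      && eqW (e ++ e) (pw es c.2) && chainChk es cs

theorem chain_ok : chainChk chainWords chainCert = true := by decide +kernel

/-- the word of a list of chain positions -/
def cw (ps : List ℕ) : List ℕ := pw chainWords ps

/-- all packed products of subsequences -/
def allP : List ℕ → List ℕ
  | [] => [oneP]
  | e :: es => (allP es).flatMap fun y => [y, mulP y e]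

/-- the two simple reflections as words -/
def nW (t : ℕ) : List ℕ := [[0, 4, 0], [1, 2, 5, 2]].getD t []

/-- a word in the simple reflections -/
def nSeq (l : List ℕ) : List ℕ := l.flatMap nW

/-- Weyl representatives -/
def wW (j : ℕ) : List ℕ := nSeq (weylWords.getD j [])

/-- a word in the generators of the part of `U` normalised by a simple reflection -/
def ksW (t : ℕ) (w : List ℕ) : List ℕ := w.flatMap fun g => cw ((kerGens.getD t []).getD g [])

/-- a coset representative -/
def rep (t x : ℕ) : List ℕ := (repWords.getD t []).getD x []

/-- check for the part of `U` normalised by a simple reflection -/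
def kerChk (t : ℕ) : Bool :=
  (List.range (kerGens.getD t []).length).all fun g =>
    eqW (nW t ++ cw ((kerGens.getD t []).getD g [])) (cw ((kerConj.getD t []).getD g []) ++ nW t)

/-- check for the coset table -/
def tabChk (t : ℕ) : Bool :=
  (List.range (repWords.getD t []).length).all fun x => (List.range 12).all fun p =>
    let e := ((cosetTab.getD t []).getD x []).getD p (0, [])
    decide (e.1 < (repWords.getD t []).length) &&
      eqW (rep t x ++ chainWords.getD p []) (ksW t e.2 ++ rep t e.1)

/-- check for the cells -/
def cellChk (t : ℕ) : Bool :=
  (List.range (repWords.getD t []).length).all fun x => (List.range 16).all fun j =>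
    let e := ((cellTab.getD t []).getD x []).getD j ([], 0, [])
    decide (e.2.1 < 16) && eqW (nW t ++ rep t x ++ wW j) (cw e.1 ++ wW e.2.1 ++ cw e.2.2)

theorem checks_ok : ∀ t < 2, kerChk t && tabChk t && cellChk t &&
    decide (rep t 0 = [] ∧ 0 < (repWords.getD t []).length) = true := by decide +kernel

/-- check for the generators -/
def genChk : Bool :=
  ((List.range 4).all fun i => eqW [i] (cw (lowWords.getD i []))) &&
    ((List.range 4).all fun i =>
      let e := negWords.getD i ([], [])
      (e.1.all fun t => decide (t < 2)) && eqW [4 + i] (nSeq e.1 ++ cw e.2 ++ nSeq e.1.reverse))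

theorem genChk_ok : genChk = true := by decide +kernel

/-- the bit positions of the witnesses vanish on `U` -/
def witVanish : Bool :=
  (allP (chainWords.map evP)).all fun v => weylWit.all fun q => !(v.testBit q.2)

/-- the witnesses -/
def witChk : Bool :=
  (List.range 15).all fun j =>
    let q := weylWit.getD j (0, 0)
    let l := weylWords.getD (j + 1) []
    decide (j < weylWit.length ∧ q.2 / 64 < 52 ∧ q.2 % 64 < 52) && eqW (wW (j + 1) ++ nSeq l.reverse) [] &&
      (evP (wW (j + 1) ++ chainWords.getD q.1 [] ++ nSeq l.reverse)).testBit q.2

theorem witVanish_ok : witVanish = true := by decide +kernel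
theorem witChk_ok : witChk = true := by decide +kernel

/-- inverse letters -/
def invL (i : ℕ) : ℕ := [0, 3, 2, 1, 4, 7, 6, 5].getD i i

/-- inverse words -/
def iW (w : List ℕ) : List ℕ := (w.map invL).reverse

/-- a product of commutators -/
def commW (l : List (List ℕ × List ℕ)) : List ℕ := l.flatMap fun c => c.1 ++ c.2 ++ iW c.1 ++ iW c.2

/-- the certificate that the lower part of the chain lies in the derived group -/
def commChk : Bool := (List.range 11).all fun p => eqW (chainWords.tail.getD p []) (commW (commData.getD p []))

theorem commChk_ok : commChk = true := by decide +kernel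

/-- no element outside the lower part squares to one -/
def sqChk : Bool :=
  let a := evP (chainWords.getD 0 [])
  (allP (chainWords.tail.map evP)).all fun v =>
    let u := mulP v a
    let s := mulP u u
    sqBits.any fun q => (s.testBit q != oneP.testBit q)

theorem sqChk_ok : sqChk = true := by decide +kernel

theorem sqBits_ok : ∀ q ∈ sqBits, q / 64 < 52 ∧ q % 64 < 52 := by decide +kernel

theorem chainWords_cons : chainWords = chainWords.getD 0 [] :: chainWords.tail := by decide +kernel

theorem wW_zero : wW 0 = [] := by decide +kernel

theorem invL_ok : ∀ i < 8, eqW [i, invL i] [] = true := by decide +kernel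

end Cfsg.Agent.TitsTwo15
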