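import Cfsg.Agent.Lib.TitsTwoChecks15

/-!
A Sylow 2-subgroup of ²F₄(2) from a polycyclic chain of length 12 and the sixteen Bruhat cells, with the facts
needed for the position of the involutions: the elements of the chain without its top lie in the derived group
and no element outside them is an involution.
-/

set_option autoImplicit false
set_option maxRecDepth 100000
set_option maxHeartbeats 1000000

namespace Cfsg.Agent.TitsTwo15

open Cfsg.Lie

theorem inv_unique {a b : GF} (h : a * b = 1) : b = a⁻¹ := by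
  rw [← mul_one a⁻¹, ← h, inv_mul_cancel_left]

/-! ### Closure in a finite group -/

theorem closure_sub_right {G : Type*} [Group G] [Finite G] {A : Set G} {T : Set G} (h1 : (1 : G) ∈ T)
    (h : ∀ y ∈ T, ∀ a ∈ A, y * a ∈ T) {x : G} (hx : x ∈ Subgroup.closure A) : x ∈ T := by
  rw [← Subgroup.mem_toSubmonoid, Subgroup.closure_toSubmonoid_of_finite] at hx
  induction hx using Submonoid.closure_induction_right with
  | one => exact h1
  | mul_right y _ a ha ih => exact h y ih a ha

theorem closure_sub_left {G : Type*} [Group G] [Finite G] {A : Set G} {T : Set G} (h1 : (1 : G) ∈ T)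
    (h : ∀ y ∈ T, ∀ a ∈ A, a * y ∈ T) {x : G} (hx : x ∈ Subgroup.closure A) : x ∈ T := by
  rw [← Subgroup.mem_toSubmonoid, Subgroup.closure_toSubmonoid_of_finite] at hx
  induction hx using Submonoid.closure_induction_left with
  | one => exact h1
  | mul_left a ha y _ ih => exact h y ih a ha

/-! ### Binary normal forms along a chain -/

/-- the products of subsequences -/
def S : List (List ℕ) → Set GF
  | [] => {1}
  | e :: es => {y | y ∈ S es ∨ ∃ z ∈ S es, y = z * ev e}

theorem one_mem_S : ∀ es : List (List ℕ), (1 : GF) ∈ S es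
  | [] => rfl
  | _ :: es => Or.inl (one_mem_S es)

theorem getD_mem_or (es : List (List ℕ)) (p : ℕ) : es.getD p [] ∈ es ∨ es.getD p [] = [] := by
  by_cases h : p < es.length
  · rw [List.getD_eq_getElem _ _ h]; exact Or.inl (List.getElem_mem h)
  · exact Or.inr (List.getD_eq_default _ _ (by omega))

theorem S_mul_pw {es : List (List ℕ)} (h : ∀ y ∈ S es, ∀ e ∈ es, y * ev e ∈ S es) :
    ∀ (ps : List ℕ), ∀ y ∈ S es, y * ev (pw es ps) ∈ S es := by
  intro ps
  induction ps with
  | nil => intro y hy; simpa [pw, ev_nil] using hy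
  | cons p ps ih =>
    intro y hy
    rw [pw, List.flatMap_cons, ev_append, ← mul_assoc]
    refine ih _ ?_
    rcases getD_mem_or es p with hm | hm
    · exact h y hy _ hm
    · rw [hm, ev_nil, mul_one]; exact hy

theorem chain_closed : ∀ (es : List (List ℕ)) (cs : List (List (List ℕ) × List ℕ)), chainChk es cs = true →
    (∀ y ∈ S es, ∀ e ∈ es, y * ev e ∈ S es) ∧ ∀ x ∈ S es, x ^ 2 ^ es.length = 1
  | [], _, _ => ⟨fun _ _ e he => (List.not_mem_nil he).elim, fun x hx => by
      rw [Set.mem_singleton_iff.mp hx, one_pow]⟩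
  | _ :: _, [], h => by simp [chainChk] at h
  | e :: es, c :: cs, h => by
    simp only [chainChk, Bool.and_eq_true, List.all_eq_true, List.mem_range] at h
    obtain ⟨⟨hc, hs⟩, hrec⟩ := h
    obtain ⟨ih, ihp⟩ := chain_closed es cs hrec
    have hswap : ∀ f ∈ es, ∃ p : List ℕ, ev e * ev f = ev (pw es p) * ev e := by
      intro f hf
      obtain ⟨j, hj, rfl⟩ := List.getElem_of_mem hf
      refine ⟨c.1.getD j [], ?_⟩
      have := eqW_sound (hc j hj)
      rwa [ev_append, ev_append, List.getD_eq_getElem _ _ hj] at this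
    have hsq : ev e * ev e = ev (pw es c.2) := by rw [← ev_append]; exact eqW_sound hs
    have hstep : ∀ z ∈ S es, ∀ z' ∈ S es, ∃ w ∈ S es, z * ev e * z' = w * ev e := by
      intro z hz z' hz'
      have key : ∀ (l : List (List ℕ)), (∀ f ∈ l, f ∈ es) → ∀ z' ∈ S l, ∀ z ∈ S es,
          ∃ w ∈ S es, z * ev e * z' = w * ev e := by
        intro l
        induction l with
        | nil =>
          intro _ z' hz' z hz
          rw [Set.mem_singleton_iff.mp hz', mul_one]
          exact ⟨z, hz, rfl⟩
        | cons f l il =>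
          intro hl z' hz' z hz
          have hl' : ∀ g ∈ l, g ∈ es := fun g hg => hl g (List.mem_cons_of_mem _ hg)
          rcases hz' with hz' | ⟨z'', hz'', rfl⟩
          · exact il hl' z' hz' z hz
          · obtain ⟨w, hw, he⟩ := il hl' z'' hz'' z hz
            obtain ⟨p, hp⟩ := hswap f (hl f List.mem_cons_self)
            exact ⟨w * ev (pw es p), S_mul_pw ih p w hw, by
              rw [← mul_assoc, he, mul_assoc, hp, mul_assoc]⟩
      exact key es (fun _ h => h) z' hz' z hz
    refine ⟨?_, ?_⟩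
    · rintro y hy f hf
      rcases hy with hy | ⟨z, hz, rfl⟩
      · rcases List.mem_cons.mp hf with rfl | hf
        · exact Or.inr ⟨y, hy, rfl⟩
        · exact Or.inl (ih y hy f hf)
      · rcases List.mem_cons.mp hf with rfl | hf
        · refine Or.inl ?_
          rw [mul_assoc, hsq]
          exact S_mul_pw ih _ z hz
        · obtain ⟨p, hp⟩ := hswap f hf
          exact Or.inr ⟨z * ev (pw es p), S_mul_pw ih p z hz, by rw [mul_assoc, hp, mul_assoc]⟩
    · intro x hx
      have h2 : x ^ 2 ∈ S es := by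
        rcases hx with hx | ⟨z, hz, rfl⟩
        · rw [pow_two]
          have : ∀ (l : List (List ℕ)), (∀ f ∈ l, f ∈ es) → ∀ a ∈ S l, ∀ y ∈ S es, y * a ∈ S es := by
            intro l
            induction l with
            | nil => intro _ a ha y hy; rw [Set.mem_singleton_iff.mp ha, mul_one]; exact hy
            | cons f l il =>
              intro hl a ha y hy
              have hl' : ∀ g ∈ l, g ∈ es := fun g hg => hl g (List.mem_cons_of_mem _ hg)
              rcases ha with ha | ⟨b, hb, rfl⟩
              · exact il hl' a ha y hy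
              · rw [← mul_assoc]; exact ih _ (il hl' b hb y hy) f (hl f List.mem_cons_self)
          exact this es (fun _ h => h) x hx x hx
        · obtain ⟨w, hw, hwe⟩ := hstep z hz z hz
          rw [pow_two, ← mul_assoc, hwe, mul_assoc, hsq]
          exact S_mul_pw ih _ w hw
      rw [List.length_cons, pow_succ', pow_mul]
      exact ihp _ h2

/-- the Sylow 2-subgroup -/
def U : Subgroup GF := Subgroup.closure {x | ∃ p : ℕ, x = ev (chainWords.getD p [])}

theorem cw_mem (ps : List ℕ) : ev (cw ps) ∈ U := by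
  induction ps with
  | nil =>
    rw [show cw [] = [] from rfl, ev_nil]
    exact one_mem _
  | cons p ps ih =>
    rw [cw, pw, List.flatMap_cons, ev_append]
    exact mul_mem (Subgroup.subset_closure ⟨p, rfl⟩) ih

theorem U_sub {x : GF} (hx : x ∈ U) : x ∈ S chainWords := by
  refine closure_sub_right (one_mem_S _) ?_ hx
  rintro y hy _ ⟨p, rfl⟩
  rcases getD_mem_or chainWords p with h | h
  · exact (chain_closed _ _ chain_ok).1 y hy _ h
  · rw [h, ev_nil, mul_one]; exact hy

theorem U_pow {x : GF} (hx : x ∈ U) : x ^ 2 ^ chainWords.length = 1 :=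
  (chain_closed _ _ chain_ok).2 x (U_sub hx)

theorem S_allP : ∀ es : List (List ℕ), ∀ y ∈ S es, ∃ P ∈ allP (es.map evP), Φ y = toM P
  | [], y, hy => ⟨oneP, List.mem_singleton_self _, by rw [Set.mem_singleton_iff.mp hy, map_one, toM_one]⟩
  | e :: es, y, hy => by
    rcases hy with hy | ⟨z, hz, rfl⟩
    · obtain ⟨P, hP, h⟩ := S_allP es y hy
      exact ⟨P, List.mem_flatMap.mpr ⟨P, hP, List.mem_cons_self⟩, h⟩
    · obtain ⟨P, hP, h⟩ := S_allP es z hz
      refine ⟨mulP P (evP e), List.mem_flatMap.mpr ⟨P, hP, List.mem_cons_of_mem _ List.mem_cons_self⟩, ?_⟩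
      rw [map_mul, h, Φ_ev, toM_mul]

theorem bit_eq_of_toM {P Q : ℕ} (h : toM P = toM Q) {q : ℕ} (h1 : q / 64 < 52) (h2 : q % 64 < 52) :
    P.testBit q = Q.testBit q := by
  have := congrFun (congrFun h ⟨q % 64, h2⟩) ⟨q / 64, h1⟩
  have e : 64 * (q / 64) + q % 64 = q := Nat.div_add_mod q 64
  have := bz_inj this
  simpa [e] using this

/-! ### Bruhat cells -/

theorem ker_step {t : ℕ} (ht : t < 2) (w : List ℕ) : ∃ q ∈ U, ev (nW t) * ev (ksW t w) = q * ev (nW t) := by
  induction w with
  | nil => exact ⟨1, one_mem _, by rw [ksW, List.flatMap_nil, ev_nil, mul_one, one_mul]⟩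
  | cons g w ih =>
    obtain ⟨q, hq, e⟩ := ih
    rw [ksW, List.flatMap_cons, ev_append]
    have hh := checks_ok t ht
    simp only [Bool.and_eq_true, kerChk, List.all_eq_true, List.mem_range] at hh
    by_cases hg : g < (kerGens.getD t []).length
    · have h1 := eqW_sound (hh.1.1.1 g hg)
      rw [ev_append, ev_append] at h1
      refine ⟨ev (cw ((kerConj.getD t []).getD g [])) * q, mul_mem (cw_mem _) hq, ?_⟩
      rw [← mul_assoc, h1, mul_assoc, show ev (nW t) * ev (List.flatMap _ w) = q * ev (nW t) from e, mul_assoc]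
    · rw [List.getD_eq_default (l := kerGens.getD t []) _ (by omega)]
      exact ⟨q, hq, by rw [show cw [] = [] from rfl, ev_nil, one_mul]; exact e⟩

theorem coset_step {t : ℕ} (ht : t < 2) {u : GF} (hu : u ∈ U) :
    ∃ (w : List ℕ), ∃ x < (repWords.getD t []).length, u = ev (ksW t w) * ev (rep t x) := by
  have hh := checks_ok t ht
  simp only [Bool.and_eq_true, tabChk, List.all_eq_true, List.mem_range, decide_eq_true_eq] at hh
  refine closure_sub_right
    (T := {u | ∃ (w : List ℕ), ∃ x < (repWords.getD t []).length, u = ev (ksW t w) * ev (rep t x)}) ?_ ?_ hu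
  · exact ⟨[], 0, hh.2.2, by rw [hh.2.1, ksW, List.flatMap_nil, ev_nil, one_mul]⟩
  · rintro y ⟨w, x, hx, rfl⟩ _ ⟨p, rfl⟩
    by_cases hp : p < 12
    · obtain ⟨h1, h2⟩ := hh.1.1.2 x hx p hp
      have h3 := eqW_sound h2
      rw [ev_append, ev_append] at h3
      refine ⟨w ++ (((cosetTab.getD t []).getD x []).getD p (0, [])).2,
        (((cosetTab.getD t []).getD x []).getD p (0, [])).1, h1, ?_⟩
      rw [mul_assoc, h3, ← mul_assoc, ksW, ksW, ksW, List.flatMap_append, ev_append]
    · have : chainWords.length = 12 := by decide +kernel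
      rw [List.getD_eq_default (l := chainWords) _ (by omega), ev_nil, mul_one]
      exact ⟨w, x, hx, rfl⟩

/-- the union of the sixteen cells -/
def Cells : Set GF := {g | ∃ u ∈ U, ∃ j < 16, ∃ v ∈ U, g = u * ev (wW j) * v}

theorem n_step {t : ℕ} (ht : t < 2) {g : GF} (hg : g ∈ Cells) : ev (nW t) * g ∈ Cells := by
  obtain ⟨u, hu, j, hj, v, hv, rfl⟩ := hg
  obtain ⟨w, x, hx, rfl⟩ := coset_step ht hu
  obtain ⟨q, hq, hqe⟩ := ker_step ht w
  have hh := checks_ok t ht
  simp only [Bool.and_eq_true, cellChk, List.all_eq_true, List.mem_range, decide_eq_true_eq] at hh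
  obtain ⟨h1, h2⟩ := hh.1.2 x hx j hj
  have h3 := eqW_sound h2
  simp only [ev_append] at h3
  refine ⟨q * ev (cw (((cellTab.getD t []).getD x []).getD j ([], 0, [])).1), mul_mem hq (cw_mem _),
    (((cellTab.getD t []).getD x []).getD j ([], 0, [])).2.1, h1,
    ev (cw (((cellTab.getD t []).getD x []).getD j ([], 0, [])).2.2) * v, mul_mem (cw_mem _) hv, ?_⟩
  calc ev (nW t) * (ev (ksW t w) * ev (rep t x) * ev (wW j) * v)
      = q * (ev (nW t) * ev (rep t x) * ev (wW j)) * v := by
        simp only [← mul_assoc]; rw [hqe]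
    _ = _ := by rw [h3]; simp only [mul_assoc]

theorem nSeq_step : ∀ (l : List ℕ), (∀ t ∈ l, t < 2) → ∀ g ∈ Cells, ev (nSeq l) * g ∈ Cells := by
  intro l
  induction l with
  | nil => intro _ g hg; rw [nSeq, List.flatMap_nil, ev_nil, one_mul]; exact hg
  | cons t l ih =>
    intro hl g hg
    rw [nSeq, List.flatMap_cons, ev_append, mul_assoc]
    exact n_step (hl t List.mem_cons_self) (ih (fun s hs => hl s (List.mem_cons_of_mem _ hs)) g hg)

theorem U_step {u g : GF} (hu : u ∈ U) (hg : g ∈ Cells) : u * g ∈ Cells := by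
  obtain ⟨a, ha, j, hj, v, hv, rfl⟩ := hg
  exact ⟨u * a, mul_mem hu ha, j, hj, v, hv, by simp only [mul_assoc]⟩

theorem mem_Cells {g : GF} (hg : g ∈ twistedF4 (ZMod 2) 1) : g ∈ Cells := by
  have h1 : (1 : GF) ∈ Cells := ⟨1, one_mem _, 0, by norm_num, 1, one_mem _, by
    rw [wW_zero, ev_nil]; simp⟩
  refine closure_sub_left h1 ?_ hg
  intro y hy a ha
  rcases wordMat_gen ha with rfl | ⟨i, hi, rfl⟩
  · rwa [one_mul]
  · have hh := genChk_ok
    simp only [genChk, Bool.and_eq_true, List.all_eq_true, List.mem_range, decide_eq_true_eq] at hh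
    rw [← ev_single]
    rcases Nat.lt_or_ge i 4 with hi4 | hi4
    · rw [eqW_sound (hh.1 i hi4)]
      exact U_step (cw_mem _) hy
    · obtain ⟨ht, he⟩ := hh.2 (i - 4) (by omega)
      rw [show 4 + (i - 4) = i by omega] at he
      rw [eqW_sound he, ev_append, ev_append, mul_assoc, mul_assoc]
      refine nSeq_step _ ht _ (U_step (cw_mem _) (nSeq_step _ ?_ y hy))
      exact fun t h => ht t (List.mem_reverse.mp h)

theorem ev_mem : ∀ w : List ℕ, ev w ∈ twistedF4 (ZMod 2) 1 := by
  intro w
  induction w with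
  | nil =>
    rw [ev_nil]
    exact one_mem _
  | cons i w ih =>
    rw [ev_cons]
    exact mul_mem (gl_mem i) ih

theorem U_le : U ≤ twistedF4 (ZMod 2) 1 := by
  rw [U, Subgroup.closure_le]
  rintro _ ⟨p, rfl⟩
  exact ev_mem _

/-! ### `U` is self-normalising -/

theorem U_selfNorm {g : GF} (hg : g ∈ twistedF4 (ZMod 2) 1) (hn : ∀ x ∈ U, g * x * g⁻¹ ∈ U) : g ∈ U := by
  obtain ⟨u, hu, j, hj, v, hv, rfl⟩ := mem_Cells hg
  rcases j with _ | j
  · rw [wW_zero, ev_nil, mul_one]; exact mul_mem hu hv
  · exfalso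
    have h1 := witChk_ok
    simp only [witChk, Bool.and_eq_true, List.all_eq_true, List.mem_range, decide_eq_true_eq] at h1
    obtain ⟨⟨⟨hl, hq1, hq2⟩, hinv⟩, hbit⟩ := h1 j (by omega)
    have hw := eqW_sound hinv
    rw [ev_append, ev_nil] at hw
    have hi : ev (nSeq (weylWords.getD (j + 1) []).reverse) = (ev (wW (j + 1)))⁻¹ :=
      inv_unique hw
    have he : ev (chainWords.getD (weylWit.getD j (0, 0)).1 []) ∈ U := Subgroup.subset_closure ⟨_, rfl⟩
    have hm := hn _ (mul_mem (mul_mem (inv_mem hv) he) hv)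
    have hm2 : ev (wW (j + 1) ++ chainWords.getD (weylWit.getD j (0, 0)).1 [] ++
        nSeq (weylWords.getD (j + 1) []).reverse) ∈ U := by
      rw [ev_append, ev_append, hi]
      have := mul_mem (mul_mem (inv_mem hu) hm) hu
      simpa [mul_assoc] using this
    obtain ⟨P, hP, hPe⟩ := S_allP _ _ (U_sub hm2)
    have h0 := witVanish_ok
    simp only [witVanish, List.all_eq_true, Bool.not_eq_true'] at h0
    have h0' := h0 P hP (weylWit.getD j (0, 0)) (by rw [List.getD_eq_getElem _ _ hl]; exact List.getElem_mem hl)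
    rw [Φ_ev] at hPe
    rw [bit_eq_of_toM hPe hq1 hq2, h0'] at hbit
    exact Bool.false_ne_true hbit

/-! ### The derived group and the squares outside it -/

theorem gl_invL (i : ℕ) : gl i * gl (invL i) = 1 := by
  have h := invL_ok
  by_cases hi : i < 8
  · have := eqW_sound (h i hi)
    rwa [ev_cons, ev_single, ev_nil] at this
  · have e : genRoots.getD i [] = [] := List.getD_eq_default _ _ (by
      have : genRoots.length = 8 := by decide +kernel
      omega)
    have hg : gl i = 1 := by unfold gl; rw [e]; rfl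
    have hv : invL i = i := List.getD_eq_default _ _ (show 8 ≤ i by omega)
    rw [hv, hg, one_mul]

theorem ev_iW : ∀ w : List ℕ, ev (iW w) = (ev w)⁻¹ := by
  intro w
  induction w with
  | nil => rw [show iW [] = [] from rfl, ev_nil, inv_one]
  | cons i w ih =>
    rw [iW, List.map_cons, List.reverse_cons, ev_append, ev_cons i w, ev_cons, ev_nil, mul_one,
      mul_inv_rev]
    rw [show ev ((w.map invL).reverse) = (ev w)⁻¹ from ih, inv_unique (gl_invL i)]

theorem commW_mem : ∀ l, ev (commW l) ∈ ⁅twistedF4 (ZMod 2) 1, twistedF4 (ZMod 2) 1⁆ := by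
  intro l
  induction l with
  | nil =>
    rw [show commW [] = [] from rfl, ev_nil]
    exact one_mem _
  | cons c l ih =>
    rw [commW, List.flatMap_cons, ev_append, ev_append, ev_append, ev_append, ev_iW, ev_iW]
    refine mul_mem ?_ ih
    have := Subgroup.commutator_mem_commutator (ev_mem c.1) (ev_mem c.2)
    rwa [commutatorElement_def] at this

theorem S_tail_comm {y : GF} (hy : y ∈ S chainWords.tail) :
    y ∈ ⁅twistedF4 (ZMod 2) 1, twistedF4 (ZMod 2) 1⁆ := by
  have hall : ∀ e ∈ chainWords.tail, ev e ∈ ⁅twistedF4 (ZMod 2) 1, twistedF4 (ZMod 2) 1⁆ := by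
    intro e he
    obtain ⟨p, hp, rfl⟩ := List.getElem_of_mem he
    have hl : chainWords.tail.length = 11 := by decide +kernel
    have hh := commChk_ok
    simp only [commChk, List.all_eq_true, List.mem_range] at hh
    have := eqW_sound (hh p (by omega))
    rw [List.getD_eq_getElem _ _ hp] at this
    rw [this]
    exact commW_mem _
  have : ∀ (l : List (List ℕ)), (∀ e ∈ l, ev e ∈ ⁅twistedF4 (ZMod 2) 1, twistedF4 (ZMod 2) 1⁆) →
      ∀ y ∈ S l, y ∈ ⁅twistedF4 (ZMod 2) 1, twistedF4 (ZMod 2) 1⁆ := by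
    intro l
    induction l with
    | nil => intro _ y hy; rw [Set.mem_singleton_iff.mp hy]; exact one_mem _
    | cons e l il =>
      intro hl y hy
      have hl' := fun f hf => hl f (List.mem_cons_of_mem _ hf)
      rcases hy with hy | ⟨z, hz, rfl⟩
      · exact il hl' y hy
      · exact mul_mem (il hl' z hz) (hl e List.mem_cons_self)
  exact this _ hall y hy

theorem invol_comm {x : GF} (hx : x ∈ U) (h2 : x * x = 1) :
    x ∈ ⁅twistedF4 (ZMod 2) 1, twistedF4 (ZMod 2) 1⁆ := by
  have hS := U_sub hx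
  rw [chainWords_cons] at hS
  rcases hS with h | ⟨z, hz, rfl⟩
  · exact S_tail_comm h
  · exfalso
    obtain ⟨P, hP, hPe⟩ := S_allP _ z hz
    have hh := sqChk_ok
    simp only [sqChk, List.all_eq_true, List.any_eq_true] at hh
    obtain ⟨q, hq, hne⟩ := hh P hP
    have e : toM (mulP (mulP P (evP (chainWords.getD 0 []))) (mulP P (evP (chainWords.getD 0 [])))) = toM oneP := by
      rw [toM_mul, toM_mul, ← hPe, ← Φ_ev, ← map_mul, ← map_mul, h2, map_one, toM_one]
    obtain ⟨a, b⟩ := sqBits_ok q hq
    rw [bit_eq_of_toM e a b] at hne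
    simp at hne

end Cfsg.Agent.TitsTwo15
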