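import Mathlib

/-!
When can `q ^ m ± 1` be the order of an element of `PSL(2m, q)` or `PSU(2m, q)`: the orbits of
`x ↦ x ^ e` (`e = ± q`) on the eigenvalues of a semisimple element.
-/

set_option autoImplicit false
set_option linter.unusedSectionVars false

namespace Cfsg.Agent.TorusOrderSplit29

/-- A common divisor of `e ^ m + 1` and `e ^ d - 1` divides `e ^ a + 1` for some `2 a ≤ d`. -/
theorem exists_half {e : ℤ} {m d D : ℕ} (hd : 0 < d) (h1 : (D : ℤ) ∣ e ^ m + 1)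
    (h2 : (D : ℤ) ∣ e ^ d - 1) : ∃ a : ℕ, 2 * a ≤ d ∧ (D : ℤ) ∣ e ^ a + 1 := by
  have hu : (e : ZMod D) ^ m = -1 := by
    have := (ZMod.intCast_zmod_eq_zero_iff_dvd _ D).2 h1
    push_cast at this
    exact eq_neg_of_add_eq_zero_left this
  have hv : (e : ZMod D) ^ d = 1 := by
    have := (ZMod.intCast_zmod_eq_zero_iff_dvd _ D).2 h2
    push_cast at this
    exact sub_eq_zero.1 this
  set g := Nat.gcd m d with hg
  have hgpos : 0 < g := Nat.gcd_pos_of_pos_right _ hd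
  obtain ⟨s, t, hcop, hs, ht⟩ := Nat.exists_coprime m d
  rw [← hg] at hs ht
  have hs' : ((e : ZMod D) ^ g) ^ s = -1 := by rw [← pow_mul, mul_comm g s, ← hs, hu]
  have ht' : ((e : ZMod D) ^ g) ^ t = 1 := by rw [← pow_mul, mul_comm g t, ← ht, hv]
  rcases Nat.even_or_odd t with hte | hto
  · have htp : 2 ≤ t := by
      obtain ⟨k, hk⟩ := hte
      have : 0 < t := Nat.pos_of_ne_zero fun e => by rw [e] at ht; omega
      omega
    have hso : Odd s := by
      rcases Nat.even_or_odd s with hse | hso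
      · exfalso
        have := Nat.dvd_gcd hse.two_dvd hte.two_dvd
        rw [hcop.gcd_eq_one] at this
        omega
      · exact hso
    obtain ⟨b, -, hb⟩ := Nat.exists_mul_mod_eq_one_of_coprime hcop (by omega)
    have hbo : Odd b := by
      rcases Nat.even_or_odd b with hbe | hbo
      · exfalso
        have h2 := Nat.mod_mod_of_dvd (s * b) hte.two_dvd
        rw [hb] at h2
        have h3 := Nat.even_iff.1 (hbe.mul_left s)
        omega
      · exact hbo
    refine ⟨g, ?_, (ZMod.intCast_zmod_eq_zero_iff_dvd _ D).1 ?_⟩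
    · rw [ht]; exact Nat.mul_le_mul_right g htp
    · push_cast
      have h : ((e : ZMod D) ^ g) ^ (s * b) = (e : ZMod D) ^ g := by
        conv_lhs => rw [← Nat.mod_add_div (s * b) t, hb]
        rw [pow_add, pow_one, pow_mul, ht', one_pow, mul_one]
      rw [pow_mul, hs', hbo.neg_one_pow] at h
      rw [← h, neg_add_cancel]
  · refine ⟨0, by omega, (ZMod.intCast_zmod_eq_zero_iff_dvd _ D).1 ?_⟩
    push_cast
    have h : (((e : ZMod D) ^ g) ^ s) ^ t = 1 := by rw [← pow_mul, mul_comm, pow_mul, ht', one_pow]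
    rw [hs', hto.neg_one_pow] at h
    rw [pow_zero]
    nth_rewrite 1 [← h]
    rw [neg_add_cancel]

/-- `Q = |e ^ m + 1|`. -/
def QQ (e : ℤ) (m : ℕ) : ℕ := (e ^ m + 1).natAbs

theorem two_dvd_QQ {e : ℤ} (he : Odd e) (m : ℕ) : 2 ∣ QQ e m := by
  rw [QQ, ← Int.natCast_dvd]
  exact (he.pow.add_odd odd_one).two_dvd

theorem QQ_ne_zero {e : ℤ} (he3 : 3 ≤ e.natAbs) (m : ℕ) : QQ e m ≠ 0 := by
  intro h
  rw [QQ, Int.natAbs_eq_zero] at h
  have h1 : e.natAbs ^ m = 1 := by rw [← Int.natAbs_pow, eq_neg_of_add_eq_zero_left h]; rfl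
  rcases Nat.eq_zero_or_pos m with rfl | hm
  · norm_num at h
  · have := Nat.le_self_pow hm.ne' e.natAbs
    omega

theorem natAbs_pow_add_one_le (e : ℤ) (a : ℕ) : (e ^ a + 1).natAbs ≤ e.natAbs ^ a + 1 :=
  (Int.natAbs_add_le _ _).trans (by rw [Int.natAbs_pow]; rfl)

section orbit

variable {K : Type*} [Field K]

theorem pow_natAbs {x : K} {z : ℤ} (h : x ^ z = 1) : x ^ z.natAbs = 1 := by
  rcases Int.natAbs_eq z with e | e <;> rw [e] at h
  · rwa [zpow_natCast] at h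
  · rwa [zpow_neg, zpow_natCast, inv_eq_one] at h

variable {e : ℤ} {m : ℕ} (he : Odd e) (he3 : 3 ≤ e.natAbs) (hinj : ∀ x y : K, x ^ e = y ^ e → x = y)

/-- A set of eigenvalues is closed under `x ↦ x ^ e`. -/
def Closed (e : ℤ) (R : Finset K) : Prop := (∀ x ∈ R, x ≠ 0) ∧ ∀ x ∈ R, x ^ e ∈ R

include hinj in
/-- Splitting off an orbit. -/
theorem split_orbit [DecidableEq K] {R : Finset K} (hR : Closed e R) {α : K} (hα : α ∈ R) :
    ∃ d : ℕ, 0 < d ∧ α ^ (e ^ d) = α ∧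
      ∃ O : Finset K, O = (Finset.range d).image (fun i => α ^ (e ^ i)) ∧ O.card = d ∧ O ⊆ R ∧
        Closed e (R \ O) := by
  let f : K → K := fun x => x ^ e
  have hit : ∀ i, f^[i] α = α ^ (e ^ i) := fun i => by
    induction i with
    | zero => simp
    | succ i ih => rw [Function.iterate_succ_apply', ih, pow_succ, zpow_mul]
  have hmem : ∀ i, α ^ (e ^ i) ∈ R := fun i => by
    rw [← hit]
    induction i with
    | zero => simpa using hα
    | succ i ih => rw [Function.iterate_succ_apply']; exact hR.2 _ ih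
  have finj : Function.Injective f := fun x y h => hinj x y h
  have hper : α ∈ Function.periodicPts f := by
    obtain ⟨i, j, hne, h⟩ := Finite.exists_ne_map_eq_of_infinite
      (fun i : ℕ => (⟨_, hmem i⟩ : {x // x ∈ R}))
    have h' : f^[i] α = f^[j] α := by rw [hit, hit]; exact congrArg Subtype.val h
    rcases lt_or_gt_of_ne hne with hl | hl
    · exact Function.mk_mem_periodicPts (n := j - i) (by omega)
        (show f^[j - i] α = α from Function.iterate_cancel_of_add finj (by rw [Nat.sub_add_cancel hl.le]; exact h'.symm))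
    · exact Function.mk_mem_periodicPts (n := i - j) (by omega)
        (show f^[i - j] α = α from Function.iterate_cancel_of_add finj (by rw [Nat.sub_add_cancel hl.le]; exact h'))
  set d := Function.minimalPeriod f α with hd
  have hd0 : 0 < d := Function.minimalPeriod_pos_of_mem_periodicPts hper
  have hdd : f^[d] α = α := Function.iterate_minimalPeriod
  refine ⟨d, hd0, by rw [← hit, hdd], _, rfl, ?_, ?_, ?_⟩
  · rw [Finset.card_image_of_injOn, Finset.card_range]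
    intro i hi j hj h
    simp only [Finset.coe_range, Set.mem_Iio] at hi hj
    exact Function.iterate_injOn_Iio_minimalPeriod hi hj (show f^[i] α = f^[j] α by rw [hit, hit]; exact h)
  · intro x hx
    obtain ⟨i, -, rfl⟩ := Finset.mem_image.1 hx
    exact hmem i
  · refine ⟨fun x hx => hR.1 x (Finset.mem_sdiff.1 hx).1, fun x hx => ?_⟩
    obtain ⟨hxR, hxO⟩ := Finset.mem_sdiff.1 hx
    refine Finset.mem_sdiff.2 ⟨hR.2 x hxR, fun h => hxO ?_⟩
    obtain ⟨i, hi, hix⟩ := Finset.mem_image.1 h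
    rw [Finset.mem_range] at hi
    rw [Finset.mem_image]
    rcases Nat.eq_zero_or_pos i with rfl | hi0
    · refine ⟨d - 1, Finset.mem_range.2 (by omega), finj ?_⟩
      show f (α ^ (e ^ (d - 1))) = x ^ e
      rw [← hix, ← hit, ← Function.iterate_succ_apply' f, Nat.succ_eq_add_one,
        Nat.sub_add_cancel hd0, hdd]
      simp
    · refine ⟨i - 1, Finset.mem_range.2 (by omega), finj ?_⟩
      show f (α ^ (e ^ (i - 1))) = x ^ e
      rw [← hix, ← hit, ← Function.iterate_succ_apply' f, Nat.succ_eq_add_one,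
        Nat.sub_add_cancel hi0, hit]

include he he3 in
theorem orbit_bound {α : K} (hα : α ≠ 0) {d : ℕ} (hd : 0 < d) (hαd : α ^ (e ^ d) = α) :
    ∃ L a : ℕ, 0 < L ∧ 2 ∣ L ∧ 2 * a ≤ d ∧ Nat.gcd (QQ e m) L ≤ e.natAbs ^ a + 1 ∧
      ∀ i, (α ^ (e ^ i)) ^ L = 1 := by
  set L := (e ^ d - 1).natAbs with hL
  obtain ⟨a, ha, hdvd⟩ := exists_half hd (m := m) (D := Nat.gcd (QQ e m) L)
    (Int.natCast_dvd.2 (Nat.gcd_dvd_left _ _)) (Int.natCast_dvd.2 (Nat.gcd_dvd_right _ _))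
  have hne : e ^ d - 1 ≠ 0 := fun h => by
    have h1 : e.natAbs ^ d = 1 := by rw [← Int.natAbs_pow, sub_eq_zero.1 h]; rfl
    have := Nat.le_self_pow hd.ne' e.natAbs
    omega
  refine ⟨L, a, Int.natAbs_pos.2 hne, Int.natCast_dvd.1 (he.pow.sub_odd odd_one).two_dvd, ha,
    ?_, fun i => pow_natAbs (z := e ^ d - 1) ?_⟩
  · refine le_trans (Nat.le_of_dvd ?_ (Int.natCast_dvd.1 hdvd)) (natAbs_pow_add_one_le e a)
    refine Int.natAbs_pos.2 fun h => ?_
    have hev := he.pow (n := a)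
    have h1 : e.natAbs ^ a = 1 := by rw [← Int.natAbs_pow, eq_neg_of_add_eq_zero_left h]; rfl
    rcases Nat.eq_zero_or_pos a with rfl | ha0
    · norm_num at h
    · have := Nat.le_self_pow ha0.ne' e.natAbs
      omega
  · rw [← zpow_mul, mul_comm, zpow_mul, zpow_sub₀ hα, zpow_one, hαd, div_self hα, one_zpow]

theorem lcm_mul_two_le {x y : ℕ} (hx : 2 ∣ x) (hy : 2 ∣ y) : 2 * Nat.lcm x y ≤ x * y := by
  rcases Nat.eq_zero_or_pos (x * y) with h | h
  · rcases Nat.mul_eq_zero.1 h with rfl | rfl <;> simp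
  rw [← Nat.gcd_mul_lcm x y]
  refine Nat.mul_le_mul_right _ (Nat.le_of_dvd ?_ (Nat.dvd_gcd hx hy))
  exact Nat.gcd_pos_of_pos_left _ (Nat.pos_of_mul_pos_right h)

theorem gcd_lcm_le {Q L₁ L₂ : ℕ} (hQ0 : Q ≠ 0) (h₁0 : L₁ ≠ 0) (h₂0 : L₂ ≠ 0) (hQ : 2 ∣ Q)
    (h₁ : 2 ∣ L₁) (h₂ : 2 ∣ L₂) :
    2 * Nat.gcd Q (Nat.lcm L₁ L₂) ≤ Nat.gcd Q L₁ * Nat.gcd Q L₂ := by
  have g1 : Nat.gcd Q L₁ ≠ 0 := Nat.gcd_ne_zero_left hQ0
  have g2 : Nat.gcd Q L₂ ≠ 0 := Nat.gcd_ne_zero_left hQ0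
  have hl : Nat.lcm L₁ L₂ ≠ 0 := Nat.lcm_ne_zero h₁0 h₂0
  have e : Nat.gcd Q (Nat.lcm L₁ L₂) = Nat.lcm (Nat.gcd Q L₁) (Nat.gcd Q L₂) := by
    refine Nat.eq_of_factorization_eq (Nat.gcd_ne_zero_left hQ0) (Nat.lcm_ne_zero g1 g2) fun p => ?_
    rw [Nat.factorization_lcm g1 g2, Nat.factorization_gcd hQ0 hl, Nat.factorization_gcd hQ0 h₁0,
      Nat.factorization_gcd hQ0 h₂0, Nat.factorization_lcm h₁0 h₂0]
    simp only [Finsupp.inf_apply, Finsupp.sup_apply]
    exact inf_sup_left _ _ _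
  rw [e]
  exact lcm_mul_two_le (Nat.dvd_gcd hQ h₁) (Nat.dvd_gcd hQ h₂)

include he he3 hinj in
theorem set_bound [DecidableEq K] (R : Finset K) (hR : Closed e R) :
    ∃ L a : ℕ, 0 < L ∧ 2 ∣ L ∧ 2 * a ≤ R.card ∧ Nat.gcd (QQ e m) L ≤ e.natAbs ^ a + 1 ∧
      ∀ x ∈ R, x ^ L = 1 := by
  induction R using Finset.strongInduction with
  | H R ih =>
    rcases R.eq_empty_or_nonempty with rfl | ⟨α, hα⟩
    · refine ⟨2, 0, two_pos, dvd_rfl, le_rfl, ?_, by simp⟩
      rw [pow_zero]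
      exact Nat.le_of_dvd two_pos (Nat.gcd_dvd_right _ _)
    obtain ⟨d, hd, hαd, O, hO, hOc, hOR, hcl⟩ := split_orbit hinj hR hα
    have hαO : α ∈ O := by rw [hO]; exact Finset.mem_image.2 ⟨0, Finset.mem_range.2 hd, by simp⟩
    obtain ⟨L₁, a, hL1, hL1e, ha, hD1, hα1⟩ := orbit_bound (m := m) he he3 (hR.1 α hα) hd hαd
    obtain ⟨L₂, b, hL2, hL2e, hb, hD2, hx2⟩ := ih (R \ O)
      (Finset.sdiff_ssubset hOR ⟨α, hαO⟩) hcl
    have hcard : (R \ O).card + d = R.card := by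
      rw [Finset.card_sdiff_of_subset hOR, hOc]
      have := Finset.card_le_card hOR
      omega
    refine ⟨Nat.lcm L₁ L₂, a + b, Nat.lcm_pos hL1 hL2, hL1e.trans (Nat.dvd_lcm_left _ _),
      by omega, ?_, fun x hx => ?_⟩
    · have h1 := gcd_lcm_le (QQ_ne_zero he3 m) hL1.ne' hL2.ne' (two_dvd_QQ he m) hL1e hL2e
      have h2 : Nat.gcd (QQ e m) L₁ * Nat.gcd (QQ e m) L₂ ≤ (e.natAbs ^ a + 1) * (e.natAbs ^ b + 1) :=
        Nat.mul_le_mul hD1 hD2
      rw [pow_add]
      have : 1 ≤ e.natAbs ^ a := Nat.one_le_pow _ _ (by omega)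
      have : 1 ≤ e.natAbs ^ b := Nat.one_le_pow _ _ (by omega)
      nlinarith
    · by_cases hxO : x ∈ O
      · obtain ⟨i, -, rfl⟩ := Finset.mem_image.1 (hO ▸ hxO)
        obtain ⟨c, hc⟩ := Nat.dvd_lcm_left L₁ L₂
        rw [hc, pow_mul, hα1, one_pow]
      · obtain ⟨c, hc⟩ := Nat.dvd_lcm_right L₁ L₂
        rw [hc, pow_mul, hx2 x (Finset.mem_sdiff.2 ⟨hx, hxO⟩), one_pow]

include he he3 hinj in
/-- Either one orbit of full size, or the exponent misses `Q`. -/
theorem full_or_small [DecidableEq K] {R : Finset K} (hR : Closed e R) (hne : R.Nonempty)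
    (hcard : R.card ≤ 2 * m) (hm : 2 ≤ m) :
    (∃ α, R = (Finset.range (2 * m)).image (fun i => α ^ (e ^ i)) ∧ R.card = 2 * m ∧ α ∈ R) ∨
      ∃ L, 0 < L ∧ (∀ x ∈ R, x ^ L = 1) ∧ ¬ QQ e m ∣ L := by
  obtain ⟨α, hα⟩ := hne
  obtain ⟨d, hd, hαd, O, hO, hOc, hOR, hcl⟩ := split_orbit hinj hR hα
  have hOle : d ≤ R.card := hOc ▸ Finset.card_le_card hOR
  by_cases hfull : d = 2 * m
  · left
    have : O = R := Finset.eq_of_subset_of_card_le hOR (by omega)
    exact ⟨α, by rw [← this, hO, hfull], by omega, hα⟩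
  right
  obtain ⟨L₁, a, hL1, hL1e, ha, hD1, hα1⟩ := orbit_bound (m := m) he he3 (hR.1 α hα) hd hαd
  obtain ⟨L₂, b, hL2, hL2e, hb, hD2, hx2⟩ := set_bound (m := m) he he3 hinj _ hcl
  have hcard' : (R \ O).card + d = R.card := by
    rw [Finset.card_sdiff_of_subset hOR, hOc]; omega
  refine ⟨Nat.lcm L₁ L₂, Nat.lcm_pos hL1 hL2, fun x hx => ?_, fun hdvd => ?_⟩
  · by_cases hxO : x ∈ O
    · obtain ⟨i, -, rfl⟩ := Finset.mem_image.1 (hO ▸ hxO)
      obtain ⟨c, hc⟩ := Nat.dvd_lcm_left L₁ L₂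
      rw [hc, pow_mul, hα1, one_pow]
    · obtain ⟨c, hc⟩ := Nat.dvd_lcm_right L₁ L₂
      rw [hc, pow_mul, hx2 x (Finset.mem_sdiff.2 ⟨hx, hxO⟩), one_pow]
  have h1 := gcd_lcm_le (QQ_ne_zero he3 m) hL1.ne' hL2.ne' (two_dvd_QQ he m) hL1e hL2e
  rw [Nat.gcd_eq_left hdvd] at h1
  replace h1 : 2 * QQ e m ≤ (e.natAbs ^ a + 1) * (e.natAbs ^ b + 1) := h1.trans (Nat.mul_le_mul hD1 hD2)
  set t := e.natAbs with ht
  -- lower bounds for `Q`
  have hQ1 : t ^ m ≤ QQ e m + 1 := by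
    rw [QQ, ht, ← Int.natAbs_pow]; omega
  have hQ2 : Even m → t ^ m + 1 = QQ e m := fun hev => by
    have : 0 ≤ e ^ m := hev.pow_nonneg e
    rw [QQ, ht, ← Int.natAbs_pow]; omega
  have htm : ∀ i j, i ≤ j → t ^ i ≤ t ^ j := fun i j h => Nat.pow_le_pow_right (by omega) h
  have hbig : 9 ≤ t ^ m := le_trans (le_trans (by norm_num : 9 ≤ 3 ^ 2) (Nat.pow_le_pow_left he3 2)) (htm 2 m hm)
  rcases Nat.eq_zero_or_pos a with rfl | ha0
  · have h' := htm _ _ (show b + 1 ≤ m by omega)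
    rw [pow_succ] at h'
    have h3 : 3 * t ^ b ≤ t ^ b * t := by rw [mul_comm]; exact Nat.mul_le_mul_left _ he3
    simp only [pow_zero] at h1
    omega
  rcases Nat.eq_zero_or_pos b with rfl | hb0
  · have h' := htm _ _ (show a + 1 ≤ m by omega)
    rw [pow_succ] at h'
    have h3 : 3 * t ^ a ≤ t ^ a * t := by rw [mul_comm]; exact Nat.mul_le_mul_left _ he3
    simp only [pow_zero] at h1
    omega
  have hA : 3 ≤ t ^ a := he3.trans (Nat.le_self_pow ha0.ne' t)
  have hB : 3 ≤ t ^ b := he3.trans (Nat.le_self_pow hb0.ne' t)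
  have hab : t ^ a * t ^ b ≤ t ^ m := pow_add t a b ▸ htm _ _ (by omega)
  rw [add_mul, mul_add, mul_one, one_mul] at h1
  have m1 : 3 * t ^ b ≤ t ^ a * t ^ b := Nat.mul_le_mul_right _ hA
  have m2 : 3 * t ^ a ≤ t ^ a * t ^ b := by rw [mul_comm]; exact Nat.mul_le_mul_left _ hB
  rcases Nat.even_or_odd m with hev | hod
  · have := hQ2 hev
    omega
  rcases lt_or_ge (a + b) m with hs | hs
  · have h' := htm (a + b + 1) m hs
    rw [pow_succ, pow_add] at h'
    have h3 : 3 * (t ^ a * t ^ b) ≤ t ^ a * t ^ b * t := by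
      rw [mul_comm]; exact Nat.mul_le_mul_left _ he3
    omega
  have h9' : 9 ≤ t ^ 2 := le_trans (by norm_num : 9 ≤ 3 ^ 2) (Nat.pow_le_pow_left he3 2)
  rcases (show 2 ≤ a ∨ 2 ≤ b by rcases hod with ⟨k, hk⟩; omega) with h | h
  · have : 9 * t ^ b ≤ t ^ a * t ^ b := Nat.mul_le_mul_right _ (h9'.trans (htm _ _ h))
    omega
  · have : 9 * t ^ a ≤ t ^ a * t ^ b := by
      rw [mul_comm]; exact Nat.mul_le_mul_left _ (h9'.trans (htm _ _ h))
    omega

end orbit

/-- `∑_{i<m} e ^ i`. -/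
def TT (e : ℤ) (m : ℕ) : ℤ := ∑ i ∈ Finset.range m, e ^ i

theorem TT_mul (e : ℤ) (m : ℕ) : TT e m * (e - 1) = e ^ m - 1 := geom_sum_mul e m

theorem TT_double (e : ℤ) (m : ℕ) : TT e (2 * m) = TT e m * (e ^ m + 1) := by
  rw [TT, two_mul, Finset.sum_range_add, TT, mul_add, mul_one, add_comm, Finset.sum_mul]
  congr 1
  exact Finset.sum_congr rfl fun i _ => by rw [pow_add, mul_comm]

theorem dvd_TT_iff {e : ℤ} {c : ℕ} (hc : (c : ℤ) ∣ e - 1) (m : ℕ) : (c : ℤ) ∣ TT e m ↔ c ∣ m := by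
  have : (c : ℤ) ∣ TT e m - m := by
    have : TT e m - m = ∑ i ∈ Finset.range m, (e ^ i - 1) := by
      rw [Finset.sum_sub_distrib, TT]; simp
    rw [this]
    exact Finset.dvd_sum fun i _ => hc.trans (sub_one_dvd_pow_sub_one e i)
  rw [dvd_iff_dvd_of_dvd_sub this, Int.natCast_dvd_natCast]

/-- `gcd (2m, t) ∣ m` in terms of 2-parts. -/
theorem gcd_dvd_iff {m t : ℕ} (hm : 0 < m) (ht : 0 < t) :
    Nat.gcd (2 * m) t ∣ m ↔ padicValNat 2 t < padicValNat 2 (2 * m) := by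
  haveI : Fact (Nat.Prime 2) := ⟨Nat.prime_two⟩
  have hv : padicValNat 2 (2 * m) = padicValNat 2 m + 1 := by
    rw [padicValNat.mul two_ne_zero hm.ne', padicValNat.self (by norm_num : 1 < 2), add_comm]
  rw [hv]
  constructor
  · intro h
    by_contra hlt
    have h1 : 2 ^ (padicValNat 2 m + 1) ∣ Nat.gcd (2 * m) t := Nat.dvd_gcd (hv ▸ pow_padicValNat_dvd)
      ((pow_dvd_pow 2 (by omega)).trans pow_padicValNat_dvd)
    exact pow_succ_padicValNat_not_dvd hm.ne' (h1.trans h)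
  · intro h
    set g := Nat.gcd (2 * m) t with hg
    have hg0 : g ≠ 0 := (Nat.gcd_pos_of_pos_right _ ht).ne'
    have hgt : padicValNat 2 g ≤ padicValNat 2 t :=
      (padicValNat_dvd_iff_le ht.ne').1 (pow_padicValNat_dvd.trans (Nat.gcd_dvd_right _ _))
    obtain ⟨u, hu⟩ := (pow_padicValNat_dvd : 2 ^ padicValNat 2 g ∣ g)
    have hodd : Nat.Coprime u 2 := by
      refine (Nat.prime_two.coprime_iff_not_dvd.2 fun h2 => ?_).symm
      refine pow_succ_padicValNat_not_dvd hg0 (p := 2) ?_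
      rw [pow_succ]
      conv_rhs => rw [hu]
      exact Nat.mul_dvd_mul_left _ h2
    rw [hu]
    refine Nat.Coprime.mul_dvd_of_dvd_of_dvd (Nat.Coprime.pow_left _ hodd.symm) ?_ ?_
    · exact (pow_dvd_pow 2 (show padicValNat 2 g ≤ padicValNat 2 m by omega)).trans pow_padicValNat_dvd
    · exact hodd.dvd_of_dvd_mul_left (((Dvd.intro_left _ hu.symm).trans (Nat.gcd_dvd_left _ _)))

section matrix

open Polynomial

variable {F : Type*} [Field F] {n m : ℕ}

/-- The semisimple element argument. -/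
theorem exists_bad_exponent {e : ℤ} (he : Odd e) (he3 : 3 ≤ e.natAbs) (hn : n = 2 * m) (hm : 2 ≤ m)
    (hinj : ∀ x y : AlgebraicClosure F, x ^ e = y ^ e → x = y) (G : Matrix (Fin n) (Fin n) F)
    (hdet : G.det = 1) {lam : F} (hlam : G ^ QQ e m = Matrix.scalar (Fin n) lam)
    (hp : ((QQ e m : ℕ) : F) ≠ 0)
    (hcl : ∀ x : AlgebraicClosure F,
      ((G.map (algebraMap F (AlgebraicClosure F))) - Matrix.scalar (Fin n) x).det = 0 →
      ((G.map (algebraMap F (AlgebraicClosure F))) - Matrix.scalar (Fin n) (x ^ e)).det = 0)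
    (hc : ¬ Nat.gcd n (e - 1).natAbs ∣ m) :
    ∃ k : ℕ, 0 < k ∧ (∃ a : F, G ^ k = Matrix.scalar (Fin n) a) ∧ ¬ QQ e m ∣ k := by
  classical
  haveI : Nonempty (Fin n) := ⟨⟨0, by omega⟩⟩
  let φ := algebraMap F (AlgebraicClosure F)
  set H := G.map φ with hH
  have hHdet : H.det = 1 := by
    rw [hH, ← φ.mapMatrix_apply, ← RingHom.map_det, hdet, map_one]
  have hHpow : ∀ k, H ^ k = (G ^ k).map φ := fun k => by
    rw [hH, ← φ.mapMatrix_apply, ← map_pow, φ.mapMatrix_apply]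
  have hroot : ∀ x, x ∈ H.charpoly.roots.toFinset ↔ (H - Matrix.scalar (Fin n) x).det = 0 := by
    intro x
    rw [Multiset.mem_toFinset, mem_roots (H.charpoly_monic.ne_zero), IsRoot.def,
      Matrix.eval_charpoly, show Matrix.scalar (Fin n) x - H = -(H - Matrix.scalar (Fin n) x) by abel,
      Matrix.det_neg, mul_eq_zero, or_iff_right (pow_ne_zero _ (neg_ne_zero.2 one_ne_zero))]
  set R := H.charpoly.roots.toFinset with hR
  have hclosed : Closed e R := by
    refine ⟨fun x hx h0 => ?_, fun x hx => (hroot _).2 (hcl x ((hroot x).1 hx))⟩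
    have h := (hroot x).1 hx
    rw [h0, map_zero, sub_zero, hHdet] at h
    exact one_ne_zero h
  have hsplit := IsAlgClosed.splits H.charpoly
  have hrootscard : H.charpoly.roots.card = n := by
    rw [← Polynomial.Splits.natDegree_eq_card_roots hsplit, Matrix.charpoly_natDegree_eq_dim, Fintype.card_fin]
  have hcard : R.card ≤ 2 * m :=
    hn ▸ hrootscard ▸ Multiset.toFinset_card_le _
  have hne : R.Nonempty := by
    rw [Finset.nonempty_iff_ne_empty, hR, Ne, Multiset.toFinset_eq_empty]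
    intro h
    rw [h, Multiset.card_zero] at hrootscard
    omega
  have hQF : ((QQ e m : ℕ) : AlgebraicClosure F) ≠ 0 := by
    rw [← map_natCast φ]; exact fun h => hp (φ.injective (h.trans (map_zero φ).symm))
  have hlam0 : φ lam ≠ 0 := fun h => by
    have := congrArg Matrix.det hlam
    rw [Matrix.det_pow, hdet, one_pow, Matrix.scalar_apply, Matrix.det_diagonal] at this
    rw [φ.injective (h.trans (map_zero φ).symm)] at this
    simp [zero_pow (show n ≠ 0 by omega)] at this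
  have hsc : ∀ a : F, (Matrix.scalar (Fin n) a).map φ = Matrix.scalar (Fin n) (φ a) := fun a => by
    rw [Matrix.scalar_apply, Matrix.scalar_apply, Matrix.diagonal_map (map_zero φ)]
  have hsep : (minpoly (AlgebraicClosure F) H).Separable := by
    refine (separable_X_pow_sub_C (φ lam) hQF hlam0).of_dvd (minpoly.dvd _ _ ?_)
    rw [map_sub, aeval_X_pow, aeval_C, hHpow, hlam, hsc, sub_eq_zero, Matrix.algebraMap_eq_diagonal]
    rfl
  -- exponents
  have hexp : ∀ (k : ℕ) (ω : AlgebraicClosure F), 0 < k → (∀ x ∈ R, x ^ k = ω) →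
      ∃ a : F, φ a = ω ∧ G ^ k = Matrix.scalar (Fin n) a := by
    intro k ω hk hx
    have hmsplit : (minpoly (AlgebraicClosure F) H).Splits := IsAlgClosed.splits _
    have hmon := minpoly.monic (Matrix.isIntegral H : IsIntegral (AlgebraicClosure F) H)
    have hdvd : minpoly (AlgebraicClosure F) H ∣ X ^ k - C ω := by
      rw [hmsplit.eq_prod_roots_of_monic hmon,
        Multiset.prod_X_sub_C_dvd_iff_le_roots (X_pow_sub_C_ne_zero hk ω),
        Multiset.le_iff_subset (nodup_roots hsep)]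
      intro x hxr
      rw [mem_roots (X_pow_sub_C_ne_zero hk ω), IsRoot.def, eval_sub, eval_pow, eval_X, eval_C, sub_eq_zero]
      refine hx x (Multiset.mem_toFinset.2 ((mem_roots H.charpoly_monic.ne_zero).2 ?_))
      exact ((mem_roots hmon.ne_zero).1 hxr).dvd (Matrix.minpoly_dvd_charpoly H)
    obtain ⟨c, hc'⟩ := hdvd
    have h0 : aeval H (X ^ k - C ω) = 0 := by rw [hc', map_mul, minpoly.aeval, zero_mul]
    rw [map_sub, aeval_X_pow, aeval_C, hHpow, sub_eq_zero, Matrix.algebraMap_eq_diagonal] at h0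
    let i₀ : Fin n := ⟨0, by omega⟩
    refine ⟨(G ^ k) i₀ i₀, ?_, ?_⟩
    · have := congrFun (congrFun h0 i₀) i₀
      simpa using this
    · ext i j
      have h1 := congrFun (congrFun h0 i) j
      have h2 := congrFun (congrFun h0 i₀) i₀
      rw [Matrix.scalar_apply, Matrix.diagonal_apply]
      simp only [Matrix.map_apply, Matrix.diagonal_apply, Pi.algebraMap_apply, Algebra.algebraMap_self,
        RingHom.id_apply, if_true] at h1 h2
      apply φ.injective
      split_ifs with hij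
      · rw [if_pos hij] at h1; exact h1.trans h2.symm
      · rw [if_neg hij] at h1; exact h1.trans (map_zero φ).symm
  have he1 : e - 1 ≠ 0 := fun h => by rw [show e = 1 by omega] at he3; simp at he3
  rcases full_or_small (m := m) he he3 hinj hclosed hne hcard hm with ⟨α, hRα, hRc, hαR⟩ | ⟨L, hL, hx, hnd⟩
  swap
  · obtain ⟨a, -, ha⟩ := hexp L 1 hL hx
    exact ⟨L, hL, ⟨a, ha⟩, hnd⟩
  set c := Nat.gcd n (e - 1).natAbs with hcdef
  have hce : (c : ℤ) ∣ e - 1 := Int.natCast_dvd.2 (Nat.gcd_dvd_right _ _)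
  have hα0 : α ≠ 0 := hclosed.1 α hαR
  -- the determinant is the product over the orbit
  have hnod : H.charpoly.roots.Nodup := by
    rw [← Multiset.dedup_eq_self]
    exact Multiset.eq_of_le_of_card_le (Multiset.dedup_le _)
      (le_of_eq (hrootscard.trans (hn.trans hRc.symm)))
  have hprod : ∀ N : ℕ, ∏ i ∈ Finset.range N, α ^ (e ^ i) = α ^ TT e N := by
    intro N
    induction N with
    | zero => simp [TT]
    | succ N ih => rw [Finset.prod_range_succ, ih, ← zpow_add₀ hα0, TT, TT, Finset.sum_range_succ]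
  have hinjR : Set.InjOn (fun i => α ^ (e ^ i)) (Finset.range (2 * m) : Set ℕ) :=
    Finset.card_image_iff.1 (by rw [← hRα, hRc, Finset.card_range])
  have hαT : α ^ TT e n = 1 := by
    have hp2 : ∏ x ∈ R, x = ∏ i ∈ Finset.range (2 * m), α ^ (e ^ i) := by
      rw [hRα]; exact Finset.prod_image hinjR
    rw [← hprod, hn, ← hp2, hR, Finset.prod_eq_multiset_prod,
      Multiset.toFinset_val, hnod.dedup, Multiset.map_id', ← Matrix.det_eq_prod_roots_charpoly_of_splits hsplit,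
      hHdet]
  have hTn : TT e n ≠ 0 := fun h => by
    have h1 := TT_mul e n
    rw [h, zero_mul] at h1
    have h2 : e.natAbs ^ n = 1 := by rw [← Int.natAbs_pow, sub_eq_zero.1 h1.symm]; rfl
    have := Nat.le_self_pow (show n ≠ 0 by omega) e.natAbs
    omega
  set k := (TT e n).natAbs / c with hk
  have hcn : c ∣ (TT e n).natAbs := Int.natCast_dvd.1 ((dvd_TT_iff hce n).2 (Nat.gcd_dvd_left _ _))
  have hkc : k * c = (TT e n).natAbs := Nat.div_mul_cancel hcn
  have hk0 : 0 < k := Nat.pos_of_ne_zero fun h => hTn (Int.natAbs_eq_zero.1 (by rw [← hkc, h, zero_mul]))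
  have hωc : (α ^ k) ^ c = 1 := by rw [← pow_mul, hkc]; exact pow_natAbs hαT
  obtain ⟨a, -, ha⟩ := hexp k (α ^ k) hk0 fun x hx => by
    rw [hRα] at hx
    obtain ⟨i, -, rfl⟩ := Finset.mem_image.1 hx
    rw [← zpow_natCast, ← zpow_mul, mul_comm, zpow_mul, zpow_natCast]
    obtain ⟨z, hz⟩ : (c : ℤ) ∣ e ^ i - 1 := hce.trans (sub_one_dvd_pow_sub_one e i)
    rw [show e ^ i = (c : ℤ) * z + 1 by omega, zpow_add₀ (pow_ne_zero _ hα0), zpow_mul, zpow_natCast,
      hωc, one_zpow, one_mul, zpow_one]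
  refine ⟨k, hk0, ⟨a, ha⟩, fun hdvd => hc ?_⟩
  have h2 := Nat.mul_dvd_mul_right hdvd c
  rw [hkc, hn, TT_double, Int.natAbs_mul, mul_comm (QQ e m)] at h2
  exact (dvd_TT_iff hce m).1 (Int.natCast_dvd.2
    (Nat.dvd_of_mul_dvd_mul_right (Nat.pos_of_ne_zero (QQ_ne_zero he3 m)) h2))

end matrix

end Cfsg.Agent.TorusOrderSplit29
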