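import Mathlib

namespace Cfsg.Agent.TransferAbelianNormal

open Subgroup
open scoped commutatorElement

variable {G : Type*} [Group G]

/-- The norm of an element of a normal abelian subgroup is central and congruent to the index-th
power modulo `[A, G]`. -/
theorem exists_central_congr [Finite G] (A : Subgroup G) [A.Normal] [IsMulCommutative A]
    (a : G) (ha : a ∈ A) :
    ∃ c ∈ A ⊓ center G, (a ^ A.index)⁻¹ * c ∈ ⁅A, (⊤ : Subgroup G)⁆ := by
  classical
  open scoped IsMulCommutative in
  have : Fintype (G ⧸ A) := Fintype.ofFinite _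
  let D : Subgroup A := ⁅A, (⊤ : Subgroup G)⁆.subgroupOf A
  let F : G → A := fun g => MulAut.conjNormal g ⟨a, ha⟩
  have hF : ∀ g h : G, (g : G ⧸ A) = h → F g = F h := by
    intro g h hgh
    rw [QuotientGroup.eq] at hgh
    have h1 : MulAut.conjNormal (g⁻¹ * h) (⟨a, ha⟩ : A) = ⟨a, ha⟩ := by
      apply Subtype.ext
      rw [MulAut.conjNormal_apply]
      have := congrArg Subtype.val (mul_comm (⟨_, hgh⟩ : A) ⟨a, ha⟩)
      simp only [coe_mul] at this
      rw [this, mul_inv_cancel_right]
    have h2 : F h = MulAut.conjNormal g (MulAut.conjNormal (g⁻¹ * h) (⟨a, ha⟩ : A)) := by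
      rw [← MulAut.mul_apply, ← map_mul, mul_inv_cancel_left]
    rw [h2, h1]
  let c : A := ∏ q : G ⧸ A, F q.out
  refine ⟨c, ⟨c.2, ?_⟩, ?_⟩
  · rw [SetLike.mem_coe, mem_toSubmonoid, mem_center_iff]
    intro g
    have h1 : MulAut.conjNormal g c = c := by
      simp only [c, map_prod]
      refine Fintype.prod_equiv (MulAction.toPerm g) _ _ fun q => ?_
      have h2 : MulAut.conjNormal g (F q.out) = F (g * q.out) := by
        simp only [F, map_mul, MulAut.mul_apply]
      rw [h2]
      apply hF
      rw [MulAction.toPerm_apply, QuotientGroup.out_eq']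
      exact congrArg (g • ·) (QuotientGroup.out_eq' q)
    have h3 := congrArg Subtype.val h1
    rw [MulAut.conjNormal_apply, mul_inv_eq_iff_eq_mul] at h3
    exact h3
  · have key : ∀ s : Finset (G ⧸ A),
        (⟨a, ha⟩ : A)⁻¹ ^ s.card * ∏ q ∈ s, F q.out ∈ D := by
      intro s
      induction s using Finset.induction_on with
      | empty => simp
      | insert q s hq ih =>
        rw [Finset.prod_insert hq, Finset.card_insert_of_notMem hq, pow_succ', mul_mul_mul_comm]
        refine mul_mem ?_ ih
        rw [mem_subgroupOf]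
        have : (((⟨a, ha⟩ : A)⁻¹ * F q.out : A) : G) = ⁅a⁻¹, q.out⁆ := by
          simp [F, MulAut.conjNormal_apply, commutatorElement_def, mul_assoc]
        rw [this]
        exact commutator_mem_commutator (inv_mem ha) (mem_top _)
    have h := key Finset.univ
    rw [Finset.card_univ, ← Nat.card_eq_fintype_card, mem_subgroupOf] at h
    simpa [Subgroup.index, c] using h

end Cfsg.Agent.TransferAbelianNormal
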