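import Mathlib

set_option autoImplicit false

/-!
Transfer from `G` to `M / H` for a maximal normal subgroup `H` of a subgroup `M`:
evaluation at an element of `M` all whose orbits on `G / M`, except the coset `M`,
contribute trivially.
-/

namespace Cfsg.Agent.TransferCoatom

open Subgroup

variable {G : Type*} [Group G]

theorem le_of_coatom {H M : Subgroup G} (hmax : IsCoatom (H.subgroupOf M)) {m : G} (hm : m ∈ M)
    (hmH : m ∉ H) {X : Subgroup G} (hHX : H ≤ X) (hmX : m ∈ X) : M ≤ X := by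
  have h1 : H.subgroupOf M < X.subgroupOf M := by
    refine lt_of_le_of_ne (fun y hy => hHX hy) fun h => hmH ?_
    have : (⟨m, hm⟩ : M) ∈ H.subgroupOf M := by rw [h]; exact hmX
    exact this
  have h2 := hmax.2 _ h1
  intro y hy
  have : (⟨y, hy⟩ : M) ∈ X.subgroupOf M := by rw [h2]; exact Subgroup.mem_top _
  exact this

theorem exists_mem_notMem {H M : Subgroup G} (hmax : IsCoatom (H.subgroupOf M)) :
    ∃ m ∈ M, m ∉ H := by
  by_contra h
  push Not at h
  exact hmax.1 (eq_top_iff.2 fun x _ => h _ x.2)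

theorem isMulCommutative_quotient {H M : Subgroup G} (hHM : H ≤ M) [(H.subgroupOf M).Normal]
    (hmax : IsCoatom (H.subgroupOf M)) : IsMulCommutative (↥M ⧸ H.subgroupOf M) := by
  obtain ⟨a, ha, haH⟩ := exists_mem_notMem hmax
  have : IsCyclic (↥M ⧸ H.subgroupOf M) := by
    refine ⟨⟨QuotientGroup.mk' _ ⟨a, ha⟩, fun q => ?_⟩⟩
    obtain ⟨y, rfl⟩ := QuotientGroup.mk'_surjective _ q
    have hle : M ≤ ((zpowers (QuotientGroup.mk' (H.subgroupOf M) ⟨a, ha⟩)).comap
        (QuotientGroup.mk' (H.subgroupOf M))).map M.subtype := by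
      refine le_of_coatom hmax ha haH (fun x hx => ?_) ?_
      · refine ⟨⟨x, hHM hx⟩, ?_, rfl⟩
        have h1 : QuotientGroup.mk' (H.subgroupOf M) ⟨x, hHM hx⟩ = 1 :=
          (QuotientGroup.eq_one_iff _).2 hx
        rw [SetLike.mem_coe, Subgroup.mem_comap, h1]
        exact one_mem _
      · exact ⟨⟨a, ha⟩, mem_zpowers _, rfl⟩
    obtain ⟨z, hz, hzy⟩ := hle y.2
    obtain rfl : z = y := Subtype.ext hzy
    exact hz
  infer_instance

/-- If every cycle of `m ∈ M` on `G / M` other than `{M}` contributes an element of `H`,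
then a homomorphism on `G` extends the projection `M → M / H` at `m`. -/
theorem transfer_apply {H M : Subgroup G} [Finite G] {A : Type*} [CommGroup A] (ϕ : ↥M →* A)
    (hϕ : ∀ y : ↥M, (y : G) ∈ H → ϕ y = 1) (m : ↥M)
    (h : ∀ g : G, g ∉ M → ∀ k : ℕ,
      Function.minimalPeriod ((m : G) • ·) (g : G ⧸ M) = k →
      g⁻¹ * (m : G) ^ k * g ∈ M → g⁻¹ * (m : G) ^ k * g ∈ H) :
    MonoidHom.transfer ϕ (m : G) = ϕ m := by
  classical
  have hfix : (m : G) • ((1 : G) : G ⧸ M) = ((1 : G) : G ⧸ M) := by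
    show (((m : G) * 1 : G) : G ⧸ M) = _
    rw [mul_one, QuotientGroup.eq]
    simp
  let R := MulAction.orbitRel (zpowers (m : G)) (G ⧸ M)
  have := Fintype.ofFinite (Quotient R)
  let q₀ : Quotient R := Quotient.mk R ((1 : G) : G ⧸ M)
  rw [MonoidHom.transfer_eq_prod_quotient_orbitRel_zpowers_quot ϕ (m : G)]
  have hout : q₀.out = ((1 : G) : G ⧸ M) := by
    obtain ⟨⟨z, hz⟩, hzq⟩ : q₀.out ∈ MulAction.orbit (zpowers (m : G)) ((1 : G) : G ⧸ M) :=
      Quotient.exact (Quotient.out_eq q₀)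
    obtain ⟨j, rfl⟩ := mem_zpowers_iff.1 hz
    rw [← hzq]
    show ((m : G) ^ j) • ((1 : G) : G ⧸ M) = _
    exact MulAction.mem_stabilizer_iff.1 (zpow_mem (MulAction.mem_stabilizer_iff.2 hfix) j)
  rw [Fintype.prod_eq_single q₀]
  · have hper : Function.minimalPeriod ((m : G) • ·) q₀.out = 1 := by
      rw [hout]
      exact Function.minimalPeriod_eq_one_iff_isFixedPt.2 hfix
    have hr : q₀.out.out ∈ M := by
      have := QuotientGroup.out_eq' q₀.out
      rw [hout, QuotientGroup.eq] at this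
      rw [← hout] at this
      simpa using this
    have heq : ∀ hh, ϕ ⟨q₀.out.out⁻¹ * (m : G) ^ Function.minimalPeriod ((m : G) • ·) q₀.out *
        q₀.out.out, hh⟩ = ϕ (⟨q₀.out.out, hr⟩⁻¹ * m * ⟨q₀.out.out, hr⟩) := fun hh => by
      congr 1
      apply Subtype.ext
      simp [hper]
    rw [heq]
    rw [map_mul, map_mul, map_inv, mul_comm, ← mul_assoc, mul_inv_cancel, one_mul]
  · intro q hq
    have hg : q.out.out ∉ M := fun hg => hq <| by
      have h1 : q.out = ((1 : G) : G ⧸ M) := by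
        rw [← QuotientGroup.out_eq' q.out, QuotientGroup.eq]
        simpa using hg
      exact (Quotient.out_eq q).symm.trans (congrArg (Quotient.mk R) h1)
    apply hϕ
    refine h _ hg _ ?_ (QuotientGroup.out_conj_pow_minimalPeriod_mem M (m : G) q.out)
    rw [QuotientGroup.out_eq']

end Cfsg.Agent.TransferCoatom
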