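import Mathlib
import Cfsg.Agent.Lib.TransferFixed
import Cfsg.Agent.Lib.LargeExtraspecial
import Cfsg.Agent.Lib.PGroupsBasic

/-!
Transfer into a cyclic group of order four from the centralizer of an involution `z`
with an extraspecial normal 2-subgroup containing its centralizer.
-/

set_option autoImplicit false

open scoped commutatorElement

namespace Cfsg.Agent.TransferFour71

open Subgroup MulAction Cfsg.Agent.TransferFixed Cfsg.Agent.LargeExtraspecial

variable {G : Type*} [Group G] [Finite G]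

theorem pow_even_lt {x : G} {e : ℕ} (he : orderOf x = 2 ^ e) (hx : x ≠ 1) {k : ℕ} (hk : 2 ∣ k) :
    orderOf (x ^ k) < orderOf x ∧ ∃ i, orderOf (x ^ k) = 2 ^ i := by
  obtain ⟨j, rfl⟩ := hk
  obtain ⟨e', rfl⟩ : ∃ e', e = e' + 1 :=
    Nat.exists_eq_succ_of_ne_zero fun h0 => hx (by rw [← orderOf_eq_one_iff, he, h0, pow_zero])
  have h1 : orderOf (x ^ (2 * j)) ∣ 2 ^ e' := orderOf_dvd_of_pow_eq_one (by
    rw [← pow_mul, show 2 * j * 2 ^ e' = 2 ^ (e' + 1) * j by ring, pow_mul, ← he, pow_orderOf_eq_one,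
      one_pow])
  obtain ⟨i, hi, hi'⟩ := (Nat.dvd_prime_pow Nat.prime_two).1 h1
  refine ⟨?_, i, hi'⟩
  rw [hi', he]
  exact Nat.pow_lt_pow_right (by norm_num) (by omega)

/-- The transfer commutes with a homomorphism of the abelian target. -/
theorem map_transfer {H : Subgroup G} {A B : Type*} [CommGroup A] [CommGroup B] (θ : H →* A)
    (π : A →* B) (g : G) : π (MonoidHom.transfer θ g) = MonoidHom.transfer (π.comp θ) g := by
  haveI : Fintype (Quotient (orbitRel (zpowers g) (G ⧸ H))) := Fintype.ofFinite _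
  rw [MonoidHom.transfer_eq_prod_quotient_orbitRel_zpowers_quot,
    MonoidHom.transfer_eq_prod_quotient_orbitRel_zpowers_quot, map_prod]
  rfl

open scoped Classical in
/-- On a single orbit of a subgroup `M` the product of the fixed values is a transfer. -/
theorem orbit_prod {H : Subgroup G} [Fintype (G ⧸ H)] {A B : Type*} [CommGroup A] [CommGroup B]
    (φ : H →* A) (π : A →* B) (M : Subgroup G) (q : G ⧸ H) :
    ∃ h : M →* A, ∀ y : M, (∃ e, orderOf (y : G) = 2 ^ e) →
      (∀ w : H, orderOf (w : G) < orderOf (y : G) → (∃ e, orderOf (w : G) = 2 ^ e) → π (φ w) = 1) →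
      ∏ r ∈ Finset.univ.filter (· ∈ orbit M q), fixedValue (π.comp φ) (y : G) r = π (h y) := by
  let K : Subgroup M := stabilizer M q
  haveI : Fintype (M ⧸ K) := Fintype.ofFinite _
  let θ : K →* A :=
    { toFun := fun k => φ ⟨q.out⁻¹ * ((k : M) : G) * q.out, mem_of_smul_eq k.2⟩
      map_one' := by
        rw [← map_one φ]; congr 1; ext; simp
      map_mul' := fun a b => by
        rw [← map_mul]; congr 1; ext; simp [mul_assoc] }
  refine ⟨MonoidHom.transfer θ, fun y ⟨e, he⟩ hmin => ?_⟩
  haveI : Fact (Nat.Prime 2) := ⟨Nat.prime_two⟩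
  have hy' : orderOf y = 2 ^ e := by rw [← he, orderOf_coe]
  rw [map_transfer, transfer_eq_prod_fixedValue (π.comp θ) hy' (fun g k hk hmem => by
    show π (φ ⟨_, _⟩) = 1
    rcases eq_or_ne (y : G) 1 with h1 | h1
    · have hy1 : y = 1 := Subtype.ext h1
      rw [show (⟨q.out⁻¹ * ((g⁻¹ * y ^ k * g : M) : G) * q.out, _⟩ : H) = 1 from
        Subtype.ext (by simp [hy1]), map_one, map_one]
    · have hc : orderOf (q.out⁻¹ * ((g⁻¹ * y ^ k * g : M) : G) * q.out) = orderOf ((y : G) ^ k) := by
        refine Eq.trans ?_ (orderOf_injective (MulAut.conj ((g : G) * q.out)⁻¹).toMonoidHom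
          (MulAut.conj ((g : G) * q.out)⁻¹).injective ((y : G) ^ k))
        congr 1
        simp [mul_assoc]
      obtain ⟨hlt, i, hi⟩ := pow_even_lt he h1 hk
      refine hmin _ ?_ ⟨i, hc.trans hi⟩
      show orderOf (q.out⁻¹ * ((g⁻¹ * y ^ k * g : M) : G) * q.out) < _
      rw [hc]
      exact hlt)]
  symm
  refine Finset.prod_bij' (fun r _ => (((orbitEquivQuotientStabilizer M q).symm r : orbit M q) : G ⧸ H))
    (fun r hr => orbitEquivQuotientStabilizer M q ⟨r, (Finset.mem_filter.1 hr).2⟩) ?_ ?_ ?_ ?_ ?_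
  · intro r _
    exact Finset.mem_filter.2 ⟨Finset.mem_univ _, ((orbitEquivQuotientStabilizer M q).symm r).2⟩
  · intro r _
    exact Finset.mem_univ _
  · intro r _
    exact (orbitEquivQuotientStabilizer M q).apply_symm_apply r
  · intro r hr
    exact congrArg Subtype.val ((orbitEquivQuotientStabilizer M q).symm_apply_apply ⟨r, _⟩)
  · intro r _
    induction r using QuotientGroup.induction_on with
    | _ m =>
    rw [orbitEquivQuotientStabilizer_symm_apply]
    have hq : (m : M) • q = (((m : G) * q.out : G) : G ⧸ H) := by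
      conv_lhs => rw [← QuotientGroup.out_eq' q]
      rfl
    by_cases hfix : (m⁻¹ * y * m : M) ∈ K
    · have h2 : ((m : G) * q.out)⁻¹ * y * ((m : G) * q.out) ∈ H := by
        have := mem_of_smul_eq (H := H) (x := ((m⁻¹ * y * m : M) : G)) (q := q) hfix
        simpa [mul_assoc] using this
      rw [fixedValue_mk (π.comp θ) hfix, hq, fixedValue_mk (π.comp φ) h2]
      show π (φ _) = π (φ _)
      congr 2
      ext
      simp [mul_assoc]
    · rw [fixedValue_of_ne, fixedValue_of_ne]
      · intro h3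
        apply hfix
        show (m⁻¹ * y * m : M) • q = q
        rw [mul_smul, mul_smul]
        have h4 : y • m • q = m • q := h3
        rw [h4, inv_smul_smul]
      · intro h3
        apply hfix
        have h4 := QuotientGroup.eq.1 (h3 : ((y * m : M) : M ⧸ K) = ((m : M) : M ⧸ K)).symm
        simpa [mul_assoc] using h4

open scoped Classical in
/-- The main case: the target kills everything as soon as the extraspecial group has no abelian
subgroup of index two. -/
theorem hom_mod_trivial {E : Subgroup G} {z : G} (h : Ext E z)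
    (hnorm : ∀ g, g * z = z * g → ∀ x ∈ E, g * x * g⁻¹ ∈ E)
    (hcent : centralizer (E : Set G) ≤ E)
    (hbig : ∀ M : Subgroup G, ∀ t ∈ E, (∀ x ∈ E, x ∈ M ∨ t⁻¹ * x ∈ M) →
      ∃ a ∈ E, a ∈ M ∧ ∃ b ∈ E, b ∈ M ∧ a * b ≠ b * a)
    {A B : Type*} [CommGroup A] [CommGroup B] (π : A →* B) (hB : ∀ b : B, b * b = 1)
    (hsq : ∀ a : A, a * a = 1 → π a = 1) (hG : ∀ f : G →* B, f = 1)
    {H : Subgroup G} (hH : H = centralizer ({z} : Set G)) (φ : H →* A) :
    ∀ n, ∀ y : H, orderOf (y : G) = n → (∃ e, n = 2 ^ e) → π (φ y) = 1 := by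
  intro n
  induction n using Nat.strong_induction_on with
  | _ n ih =>
  intro y hn ⟨e, he⟩
  haveI : Fintype (G ⧸ H) := Fintype.ofFinite _
  have hmin : ∀ y' : G, orderOf y' = orderOf (y : G) → ∀ w : H, orderOf (w : G) < orderOf y' →
      (∃ i, orderOf (w : G) = 2 ^ i) → π (φ w) = 1 := fun y' hy' w hw hi =>
    ih _ (lt_of_lt_of_eq hw (hy'.trans hn)) w rfl hi
  haveI : Fact (Nat.Prime 2) := ⟨Nat.prime_two⟩
  have hEH : E ≤ H := fun x hx => hH ▸ mem_centralizer_singleton_iff.mpr (h.comm x hx)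
  have hyz : (y : G) * z = z * y := mem_centralizer_singleton_iff.mp (hH ▸ y.2 : (y : G) ∈ centralizer ({z} : Set G))
  have hy2 : ∀ x ∈ E, (y : G) * x * (y : G)⁻¹ ∈ E := hnorm _ hyz
  have hy2' : ∀ x ∈ E, (y : G)⁻¹ * x * y ∈ E := fun x hx => by
    have := hnorm _ (Commute.inv_left (hyz : Commute (y : G) z)).eq x hx
    simpa using this
  set Y := E ⊔ zpowers (y : G) with hY
  have hYE : ∀ u ∈ Y, ∀ x ∈ E, u * x * u⁻¹ ∈ E := by
    have : Y ≤ normalizer (E : Set G) := sup_le le_normalizer (zpowers_le.2 (by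
      rw [mem_normalizer_iff]
      refine fun x => ⟨hy2 x, fun hx => ?_⟩
      have := hy2' _ hx
      simpa [mul_assoc] using this))
    exact fun u hu x hx => (mem_normalizer_iff.1 (this hu) x).1 hx
  have hYp : IsPGroup 2 Y := by
    refine (h.isPGroup).to_sup_of_normal_left'
      (IsPGroup.of_card (n := e) (by rw [Nat.card_zpowers, hn, he])) (zpowers_le.2 ?_)
    rw [mem_normalizer_iff]
    refine fun x => ⟨hy2 x, fun hx => ?_⟩
    have := hy2' _ hx
    simpa [mul_assoc] using this
  have hord : orderOf (y : G) = 2 ^ e := hn.trans he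
  have htr := transfer_eq_prod_fixedValue (π.comp φ) hord (fun g k hk hmem => by
    rcases eq_or_ne (y : G) 1 with h1 | h1
    · show π (φ _) = 1
      rw [show (⟨g⁻¹ * (y : G) ^ k * g, hmem⟩ : H) = 1 from Subtype.ext (by simp [h1]), map_one, map_one]
    · obtain ⟨hlt, i, hi⟩ := pow_even_lt hord h1 hk
      have hc : orderOf (g⁻¹ * (y : G) ^ k * g) = orderOf ((y : G) ^ k) := by
        rw [← orderOf_injective (MulAut.conj g⁻¹).toMonoidHom (MulAut.conj g⁻¹).injective ((y : G) ^ k)]
        simp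
      exact hmin _ rfl _ (lt_of_eq_of_lt hc hlt) ⟨i, hc.trans hi⟩)
  rw [hG (MonoidHom.transfer (π.comp φ)), MonoidHom.one_apply,
    prod_eq_prod_fixed (S := Y) (fixedValue (π.comp φ) (y : G)) (fun q hq => ?_)] at htr
  · have hfix : (Finset.univ.filter (· ∈ fixedPoints Y (G ⧸ H))) = {((1 : G) : G ⧸ H)} := by
      ext r
      simp only [Finset.mem_filter, Finset.mem_univ, true_and, Finset.mem_singleton]
      constructor
      · intro hr
        induction r using QuotientGroup.induction_on with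
        | _ g =>
        have hw : g * z * g⁻¹ ∈ centralizer (E : Set G) := by
          rw [mem_centralizer_iff]
          intro x hx
          have h2 : g⁻¹ * x * g ∈ H := by
            have h3 : g⁻¹ * (x * g) ∈ H :=
              QuotientGroup.eq.mp (hr ⟨x, (le_sup_left : E ≤ Y) hx⟩).symm
            rwa [← mul_assoc] at h3
          rw [hH] at h2
          have h4 := mem_centralizer_singleton_iff.mp h2
          calc x * (g * z * g⁻¹) = g * ((g⁻¹ * x * g) * z) * g⁻¹ := by group
            _ = g * (z * (g⁻¹ * x * g)) * g⁻¹ := by rw [h4]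
            _ = g * z * g⁻¹ * x := by group
        rcases h.central (hcent hw) (fun x hx => mem_centralizer_iff.mp hw x hx) with e1 | e1
        · exact absurd (conj_eq_one_iff.mp e1) h.ne_one
        · refine (QuotientGroup.eq.mpr ?_).symm
          rw [inv_one, one_mul, hH, mem_centralizer_singleton_iff]
          exact mul_inv_eq_iff_eq_mul.mp e1
      · rintro rfl ⟨u, hu⟩
        refine smul_eq_of_mem (x := u) ?_
        simpa using (sup_le hEH (zpowers_le.2 y.2) : Y ≤ H) hu
    rw [hfix, Finset.prod_singleton, fixedValue_mk (π.comp φ) (g := 1) (by simpa using y.2)] at htr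
    refine Eq.trans ?_ htr.symm
    show π (φ y) = π (φ _)
    congr 2
    ext
    simp
  · -- a moved orbit
    have hK : stabilizer Y q ≠ ⊤ := fun ht => hq fun u => ((eq_top_iff' _).1 ht u)
    obtain ⟨M₀, hM₀n, hM₀i, hM₀q⟩ := PGroupsBasic.exists_normal_index_eq hYp hK
    set M := M₀.map Y.subtype with hM
    have hMY : M ≤ Y := map_subtype_le _
    have hmemM : ∀ u (hu : u ∈ Y), u ∈ M ↔ (⟨u, hu⟩ : Y) ∈ M₀ := fun u hu =>
      ⟨fun ⟨v, hv, hv'⟩ => by rwa [show (⟨u, hu⟩ : Y) = v from Subtype.ext hv'.symm],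
        fun hu' => ⟨_, hu', rfl⟩⟩
    have hstab : ∀ u ∈ Y, ∀ r ∈ orbit Y q, u • r = r → u ∈ M := by
      rintro u hu _ ⟨v, rfl⟩ hr
      rw [hmemM u hu]
      have h2 : v⁻¹ * ⟨u, hu⟩ * v ∈ M₀ := hM₀q (show (v⁻¹ * ⟨u, hu⟩ * v) • q = q by
        rw [mul_smul, mul_smul]
        show v⁻¹ • (u • (v • q)) = q
        rw [hr, inv_smul_smul])
      have := hM₀n.conj_mem _ h2 v
      simpa [mul_assoc] using this
    have hyY : (y : G) ∈ Y := (le_sup_right : zpowers (y : G) ≤ Y) (mem_zpowers _)
    by_cases hyM : (y : G) ∈ M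
    swap
    · exact Finset.prod_eq_one fun r hr => fixedValue_of_ne _ fun hfix =>
        hyM (hstab _ hyY r (Finset.mem_filter.1 hr).2 hfix)
    obtain ⟨t, htE, htM⟩ : ∃ t ∈ E, t ∉ M := by
      by_contra hc
      push Not at hc
      have hYM : Y ≤ M := sup_le hc (zpowers_le.2 hyM)
      have : M₀ = ⊤ := (eq_top_iff' _).2 fun ⟨u, hu⟩ => (hmemM u hu).1 (hYM hu)
      rw [this, index_top] at hM₀i
      omega
    have htY : t ∈ Y := (le_sup_left : E ≤ Y) htE
    have hcover : ∀ u ∈ Y, u ∈ M ∨ t⁻¹ * u ∈ M := by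
      intro u hu
      rw [hmemM u hu, hmemM _ (Y.mul_mem (Y.inv_mem htY) hu)]
      have h2 := mul_mem_iff_of_index_two hM₀i (a := (⟨t, htY⟩ : Y)⁻¹) (b := ⟨u, hu⟩)
      have h3 : (⟨t, htY⟩ : Y)⁻¹ ∉ M₀ := fun h => htM ((hmemM t htY).2 (by simpa using M₀.inv_mem h))
      by_cases h4 : (⟨u, hu⟩ : Y) ∈ M₀
      · exact Or.inl h4
      · exact Or.inr (h2.2 (iff_of_false h3 h4))
    obtain ⟨hom, hhom⟩ := orbit_prod φ π M q
    have hsplit : Finset.univ.filter (· ∈ orbit Y q) = Finset.univ.filter (· ∈ orbit M q) ∪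
        (Finset.univ.filter (· ∈ orbit M q)).image (fun r => t • r) := by
      ext r
      simp only [Finset.mem_filter, Finset.mem_univ, true_and, Finset.mem_union, Finset.mem_image]
      constructor
      · rintro ⟨⟨u, hu⟩, rfl⟩
        rcases hcover u hu with h2 | h2
        · exact Or.inl ⟨⟨u, h2⟩, rfl⟩
        · refine Or.inr ⟨_, ⟨⟨_, h2⟩, rfl⟩, ?_⟩
          show t • ((t⁻¹ * u) • q) = u • q
          rw [mul_smul, smul_inv_smul]
      · rintro (⟨⟨u, hu⟩, rfl⟩ | ⟨_, ⟨⟨u, hu⟩, rfl⟩, rfl⟩)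
        · exact ⟨⟨u, hMY hu⟩, rfl⟩
        · refine ⟨⟨t * u, Y.mul_mem htY (hMY hu)⟩, ?_⟩
          show (t * u) • q = t • (u • q)
          rw [mul_smul]
    have hdisj : Disjoint (Finset.univ.filter (· ∈ orbit M q))
        ((Finset.univ.filter (· ∈ orbit M q)).image (fun r => t • r)) := by
      rw [Finset.disjoint_left]
      intro r hr hr'
      simp only [Finset.mem_filter, Finset.mem_univ, true_and, Finset.mem_image] at hr hr'
      obtain ⟨_, ⟨⟨v, hv⟩, rfl⟩, hr'⟩ := hr'
      obtain ⟨⟨u, hu⟩, rfl⟩ := hr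
      apply htM
      have h2 : u⁻¹ * t * v ∈ M := hstab _
        (Y.mul_mem (Y.mul_mem (Y.inv_mem (hMY hu)) htY) (hMY hv)) q (mem_orbit_self q) (by
          have hr2 : t • (v • q) = u • q := hr'
          rw [mul_smul, mul_smul, hr2, inv_smul_smul])
      have := M.mul_mem (M.mul_mem hu h2) (M.inv_mem hv)
      simpa [mul_assoc] using this
    rw [hsplit, Finset.prod_union hdisj, Finset.prod_image (fun a _ b _ hab => MulAction.injective t hab)]
    set y' := t⁻¹ * y * t with hy'
    have hy'M : y' ∈ M := by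
      rw [hmemM _ (Y.mul_mem (Y.mul_mem (Y.inv_mem htY) hyY) htY)]
      have := hM₀n.conj_mem _ ((hmemM _ hyY).1 hyM) (⟨t, htY⟩ : Y)⁻¹
      rw [inv_inv] at this
      exact this
    have hord' : orderOf y' = orderOf (y : G) := by
      rw [← orderOf_injective (MulAut.conj t⁻¹).toMonoidHom (MulAut.conj t⁻¹).injective (y : G)]
      simp [hy']
    have hval : ∀ r, fixedValue (π.comp φ) (y : G) (t • r) = fixedValue (π.comp φ) y' r := by
      intro r
      induction r using QuotientGroup.induction_on with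
      | _ g =>
      change fixedValue (π.comp φ) (y : G) ((t * g : G) : G ⧸ H) = _
      have e1 : (t * g)⁻¹ * (y : G) * (t * g) = g⁻¹ * y' * g := by rw [hy']; group
      by_cases hg : g⁻¹ * y' * g ∈ H
      · rw [fixedValue_mk _ hg, fixedValue_mk _ (e1.symm ▸ hg)]
        congr 1
        exact Subtype.ext e1
      · have aux : ∀ (x a : G), a⁻¹ * x * a ∉ H → fixedValue (π.comp φ) x ((a : G) : G ⧸ H) = 1 :=
          fun x a ha => fixedValue_of_ne _ fun hq' => ha (by
            have h2 := QuotientGroup.eq.mp (hq' : ((x * a : G) : G ⧸ H) = _).symm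
            simpa [mul_assoc] using h2)
        rw [aux _ _ hg, aux _ _ (e1.symm ▸ hg)]
    rw [Finset.prod_congr rfl fun r _ => hval r,
      hhom ⟨y, hyM⟩ ⟨e, hord⟩ (hmin _ rfl), hhom ⟨y', hy'M⟩ ⟨e, hord'.trans hord⟩ (hmin _ hord')]
    -- `y' = y c` with `c ∈ E ∩ M`
    set c := (y : G)⁻¹ * y' with hc
    have hcE : c ∈ E := by
      have : c = ((y : G)⁻¹ * t⁻¹ * y) * t := by rw [hc, hy']; group
      rw [this]
      exact E.mul_mem (hy2' _ (E.inv_mem htE)) htE
    have hcM : c ∈ M := M.mul_mem (M.inv_mem hyM) hy'M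
    obtain ⟨a, haE, haM, b, hbE, hbM, hab⟩ :=
      hbig M t htE (fun x hx => hcover x ((le_sup_left : E ≤ Y) hx))
    have hzab : z = a * b * a⁻¹ * b⁻¹ := by
      rcases h.conj a haE b hbE with e1 | e1
      · exact absurd (mul_inv_eq_iff_eq_mul.mp e1) hab
      · rw [e1, mul_inv_cancel_right]
    have hzM : z ∈ M := by
      rw [hzab]; exact M.mul_mem (M.mul_mem (M.mul_mem haM hbM) (M.inv_mem haM)) (M.inv_mem hbM)
    have hhz : hom ⟨z, hzM⟩ = 1 := by
      rw [show (⟨z, hzM⟩ : M) = ⟨a, haM⟩ * ⟨b, hbM⟩ * ⟨a, haM⟩⁻¹ * ⟨b, hbM⟩⁻¹ from Subtype.ext hzab,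
        map_mul, map_mul, map_mul, map_inv, map_inv, mul_inv_cancel_comm, mul_inv_cancel]
    have hhc : π (hom ⟨c, hcM⟩) = 1 := hsq _ (by
      rw [← map_mul]
      rcases h.sq c hcE with e1 | e1
      · rw [show (⟨c, hcM⟩ * ⟨c, hcM⟩ : M) = 1 from Subtype.ext e1, map_one]
      · rw [show (⟨c, hcM⟩ * ⟨c, hcM⟩ : M) = ⟨z, hzM⟩ from Subtype.ext e1, hhz])
    rw [show (⟨y', hy'M⟩ : M) = ⟨y, hyM⟩ * ⟨c, hcM⟩ from Subtype.ext (by simp [hc]), map_mul,
      map_mul, hhc, mul_one, hB]

/-- An extraspecial group with an abelian subgroup of index two has order at most eight. -/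
theorem card_le_eight {E : Subgroup G} {z : G} (h : Ext E z) (M : Subgroup G) {t : G} (ht : t ∈ E)
    (hcov : ∀ x ∈ E, x ∈ M ∨ t⁻¹ * x ∈ M)
    (hab : ∀ a ∈ E, a ∈ M → ∀ b ∈ E, b ∈ M → a * b = b * a) : Nat.card E ≤ 8 := by
  classical
  have hcentral : ∀ a ∈ E, a ∈ M → t * a = a * t → a = 1 ∨ a = z := fun a ha haM hta =>
    h.central ha fun x hx => by
      rcases hcov x hx with h1 | h1
      · exact hab x hx h1 a ha haM
      · have h2 := hab _ (E.mul_mem (E.inv_mem ht) hx) h1 a ha haM
        calc x * a = t * (t⁻¹ * x * a) := by group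
          _ = t * (a * (t⁻¹ * x)) := by rw [h2]
          _ = t * a * t⁻¹ * x := by group
          _ = a * x := by rw [hta, mul_inv_cancel_right]
  obtain ⟨a0, ha0⟩ : ∃ a0, ∀ a ∈ E, a ∈ M → a = 1 ∨ a = z ∨ a = a0 ∨ a = z * a0 := by
    by_cases hall : ∀ a ∈ E, a ∈ M → t * a = a * t
    · exact ⟨1, fun a ha haM => (hcentral a ha haM (hall a ha haM)).imp_right Or.inl⟩
    push Not at hall
    obtain ⟨a0, ha0, ha0M, ht0⟩ := hall
    refine ⟨a0, fun a ha haM => ?_⟩
    by_cases hta : t * a = a * t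
    · exact (hcentral a ha haM hta).imp_right Or.inl
    · have h1 : t * (a * a0) = a * a0 * t := by
        have e1 := (h.not_comm_iff ha ht).1 hta
        have e2 := (h.not_comm_iff ha0 ht).1 ht0
        refine mul_inv_eq_iff_eq_mul.1 ?_
        rw [show t * (a * a0) * t⁻¹ = (t * a * t⁻¹) * (t * a0 * t⁻¹) by group, e1, e2,
          ← mul_assoc, mul_assoc z a z, h.comm a ha, h.z_mul_z_mul]
      have hinv : a0⁻¹ = a0 ∨ a0⁻¹ = z * a0 := by
        rcases h.sq a0 ha0 with e | e
        · exact Or.inl (inv_eq_of_mul_eq_one_right e)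
        · exact Or.inr (inv_eq_of_mul_eq_one_right (by
            rw [← mul_assoc, h.comm a0 ha0, mul_assoc, e, h.zz]))
      rcases hcentral _ (E.mul_mem ha ha0) (M.mul_mem haM ha0M) h1 with e | e
      · rw [eq_inv_of_mul_eq_one_left e]
        rcases hinv with e2 | e2 <;> rw [e2] <;> simp
      · rw [eq_mul_inv_of_mul_eq e]
        rcases hinv with e2 | e2 <;> rw [e2] <;> simp [h.z_mul_z_mul]
  have hsub : (E : Set G) ⊆ ({1, z, a0, z * a0, t, t * z, t * a0, t * (z * a0)} : Finset G) := by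
    intro x hx
    simp only [Finset.coe_insert, Finset.coe_singleton, Set.mem_insert_iff, Set.mem_singleton_iff]
    rcases hcov x hx with h1 | h1
    · rcases ha0 x hx h1 with e | e | e | e <;> simp [e]
    · rcases ha0 _ (E.mul_mem (E.inv_mem ht) hx) h1 with e | e | e | e <;>
        rw [inv_mul_eq_iff_eq_mul] at e <;> simp [e]
  calc Nat.card E = (E : Set G).ncard := by rw [← SetLike.coe_sort_coe, Nat.card_coe_set_eq]
    _ ≤ (({1, z, a0, z * a0, t, t * z, t * a0, t * (z * a0)} : Finset G) : Set G).ncard :=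
      Set.ncard_le_ncard hsub (Finset.finite_toSet _)
    _ ≤ 8 := by rw [Set.ncard_coe_finset]; exact ((Finset.card_insert_le _ _).trans (Nat.add_le_add_right ((Finset.card_insert_le _ _).trans (Nat.add_le_add_right ((Finset.card_insert_le _ _).trans (Nat.add_le_add_right ((Finset.card_insert_le _ _).trans (Nat.add_le_add_right ((Finset.card_insert_le _ _).trans (Nat.add_le_add_right ((Finset.card_insert_le _ _).trans (Nat.add_le_add_right ((Finset.card_insert_le _ _).trans (Nat.add_le_add_right (Finset.card_singleton _).le 1)) 1)) 1)) 1)) 1)) 1)) 1))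

/-- The small case: squares of 2-elements lie in the derived subgroup. -/
theorem sq_mem_commutator {E H : Subgroup G} {z : G} (h : Ext E z) (hcard : Nat.card E ≤ 8)
    (hEH : E ≤ H) (hnorm : ∀ g ∈ H, ∀ x ∈ E, g * x * g⁻¹ ∈ E) (hzH : ∀ g ∈ H, g * z = z * g)
    (hcent : centralizer (E : Set G) ≤ E)
    (hcore : ∀ K : Subgroup H, K.Normal → IsPGroup 2 K → K.map H.subtype ≤ E)
    (x : H) (hx : ∃ k, (x : G) ^ 2 ^ k = 1) : x ^ 2 ∈ _root_.commutator H := by
  classical
  let Z0 : Subgroup E := (zpowers z).subgroupOf E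
  haveI : Z0.Normal := ⟨fun a ha b => by
    rw [mem_subgroupOf] at ha ⊢
    rcases h.eq_of_mem_zpowers ha with e | e
    · push_cast; rw [e]; simp
    · push_cast; rw [e, h.comm _ b.2, mul_inv_cancel_right]; exact mem_zpowers z⟩
  let S := E ⧸ Z0
  haveI : Fintype S := Fintype.ofFinite _
  let cj : H → E →* E := fun g =>
    { toFun := fun a => ⟨(g : G) * a * (g : G)⁻¹, hnorm g g.2 a a.2⟩
      map_one' := by ext; simp
      map_mul' := fun a b => by ext; simp }
  have hcjz : ∀ g, Z0 ≤ Z0.comap (cj g) := fun g a ha => by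
    rw [mem_comap, mem_subgroupOf]
    show (g : G) * a * (g : G)⁻¹ ∈ zpowers z
    have ha' : (a : G) ∈ zpowers z := ha
    rcases h.eq_of_mem_zpowers ha' with e | e
    · rw [e]; simp
    · rw [e, hzH g g.2, mul_inv_cancel_right]; exact mem_zpowers z
  let act : H → S →* S := fun g => QuotientGroup.map Z0 Z0 (cj g) (hcjz g)
  have hactmk : ∀ g (a : E), act g (a : S) = ((cj g a : E) : S) := fun g a => rfl
  have hact1 : ∀ s, act 1 s = s := fun s => by
    induction s using QuotientGroup.induction_on with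
    | _ a => rw [hactmk]; congr 1; ext; simp [cj]
  have hactmul : ∀ g g' s, act (g * g') s = act g (act g' s) := fun g g' s => by
    induction s using QuotientGroup.induction_on with
    | _ a => rw [hactmk, hactmk, hactmk]; congr 1; ext; simp [cj, mul_assoc]
  have hS : Fintype.card S ≤ 4 := by
    have h1 := Subgroup.card_eq_card_quotient_mul_card_subgroup Z0
    have h2 : Nat.card Z0 = 2 := by
      rw [Nat.card_congr (subgroupOfEquivOfLe (zpowers_le.2 h.mem)).toEquiv, Nat.card_zpowers,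
        h.orderOf_z]
    rw [h2, Nat.card_eq_fintype_card (α := S)] at h1
    omega
  have htriv : ∀ g : H, (∀ s, act g s = s) → (g : G) ∈ E := by
    let K : Subgroup H :=
      { carrier := {g | ∀ s, act g s = s}
        one_mem' := hact1
        mul_mem' := fun {a b} ha hb s => by rw [hactmul, hb, ha]
        inv_mem' := fun {a} ha s => by
          conv_lhs => rw [← ha s]
          rw [← hactmul, inv_mul_cancel, hact1] }
    have hK : K.Normal := ⟨fun a ha b s => by rw [hactmul, hactmul, ha, ← hactmul, mul_inv_cancel, hact1]⟩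
    have hsq : ∀ g : H, g ∈ K → (g : G) ^ 2 ∈ E := by
      intro g hg
      refine hcent (mem_centralizer_iff.2 fun a ha => ?_)
      have h1 := hg ((⟨a, ha⟩ : E) : S)
      rw [hactmk, QuotientGroup.eq, mem_subgroupOf] at h1
      have h2 : ((g : G) * a * (g : G)⁻¹)⁻¹ * a ∈ zpowers z := h1
      have h3 : (g : G) * a * (g : G)⁻¹ = a ∨ (g : G) * a * (g : G)⁻¹ = a * z := by
        rcases h.eq_of_mem_zpowers h2 with e | e
        · left; exact (eq_of_inv_mul_eq_one e)
        · right
          rw [inv_mul_eq_iff_eq_mul] at e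
          conv_rhs => rw [e, mul_assoc, h.zz, mul_one]
      rw [pow_two]
      rcases h3 with e | e
      · rw [mul_inv_eq_iff_eq_mul] at e
        rw [← mul_assoc, ← e, mul_assoc, ← e, mul_assoc]
      · rw [mul_inv_eq_iff_eq_mul] at e
        symm
        calc (g : G) * g * a = g * (a * z * g) := by rw [mul_assoc, e]
          _ = (g * a) * z * g := by simp only [mul_assoc]
          _ = a * z * (g * z) * g := by rw [e]; simp only [mul_assoc]
          _ = a * z * (z * g) * g := by rw [hzH g g.2]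
          _ = a * (z * z) * (g * g) := by simp only [mul_assoc]
          _ = a * (g * g) := by rw [h.zz, mul_one]
    have hKp : IsPGroup 2 K := fun g => by
      obtain ⟨j, hj⟩ := h.isPGroup ⟨_, hsq g g.2⟩
      refine ⟨j + 1, Subtype.ext (Subtype.ext ?_)⟩
      have hj' := congrArg Subtype.val hj
      push_cast at hj' ⊢
      rw [pow_succ', pow_mul]
      exact hj'
    exact fun g hg => hcore K hK hKp ⟨g, hg, rfl⟩
  obtain ⟨k, hk⟩ := hx
  let σ : Equiv.Perm {s : S // s ≠ 1} :=
    { toFun := fun s => ⟨act x s, fun e => s.2 (by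
        have : act x⁻¹ (act x s) = act x⁻¹ 1 := by rw [e]
        rwa [← hactmul, inv_mul_cancel, hact1, map_one] at this)⟩
      invFun := fun s => ⟨act x⁻¹ s, fun e => s.2 (by
        have : act x (act x⁻¹ s) = act x 1 := by rw [e]
        rwa [← hactmul, mul_inv_cancel, hact1, map_one] at this)⟩
      left_inv := fun s => Subtype.ext (by
        show act x⁻¹ (act x s) = s
        rw [← hactmul, inv_mul_cancel, hact1])
      right_inv := fun s => Subtype.ext (by
        show act x (act x⁻¹ s) = s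
        rw [← hactmul, mul_inv_cancel, hact1]) }
  have hσn : ∀ n, ∀ s, ((σ ^ n) s : S) = act (x ^ n) s := by
    intro n
    induction n with
    | zero => intro s; rw [pow_zero, pow_zero, hact1]; rfl
    | succ n ih => intro s; rw [pow_succ', pow_succ', Equiv.Perm.mul_apply, hactmul, ← ih]; rfl
  have hx2k : x ^ 2 ^ k = 1 := Subtype.ext (by simpa using hk)
  have hσ2 : σ ^ 2 = 1 := by
    have h1 : orderOf σ ∣ 2 ^ k := orderOf_dvd_of_pow_eq_one (Equiv.ext fun s =>
      Subtype.ext (by rw [hσn, hx2k, hact1]; rfl))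
    have h2 : orderOf σ ∣ 6 := by
      refine (orderOf_dvd_natCard σ).trans ?_
      have hcd : Fintype.card {s : S // s ≠ 1} ≤ 3 := by
        rw [Fintype.card_subtype_compl, Fintype.card_subtype_eq]
        omega
      rw [Nat.card_perm, Nat.card_eq_fintype_card]
      exact Nat.factorial_dvd_factorial hcd
    refine orderOf_dvd_iff_pow_eq_one.1 ?_
    obtain ⟨i, hi, hi'⟩ := (Nat.dvd_prime_pow Nat.prime_two).1 h1
    rw [hi'] at h2 ⊢
    rcases i with _ | _ | i
    · simp
    · simp
    · exfalso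
      have : (2 : ℕ) ^ 2 ∣ 6 := (pow_dvd_pow 2 (by omega)).trans h2
      omega
  have hx2 : ∀ s, act (x ^ 2) s = s := fun s => by
    by_cases hs : s = 1
    · rw [hs, map_one]
    · have := hσn 2 ⟨s, hs⟩
      rw [hσ2] at this
      exact this.symm
  have hxE : (x : G) ^ 2 ∈ E := by simpa using htriv _ hx2
  have hzcomm : (⟨z, hEH h.mem⟩ : H) ∈ _root_.commutator H ∨ ∀ a ∈ E, a = 1 ∨ a = z := by
    by_cases hab : ∀ a ∈ E, a = 1 ∨ a = z
    · exact Or.inr hab
    · push Not at hab
      obtain ⟨a, ha, h1, h2⟩ := hab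
      obtain ⟨b, hb, e⟩ := h.partner a ha h1 h2
      left
      have hmem : ⁅(⟨b, hEH hb⟩ : H), (⟨a, hEH ha⟩ : H)⁆ ∈ _root_.commutator H :=
        commutator_mem_commutator (mem_top _) (mem_top _)
      convert hmem using 1
      ext
      show z = b * a * b⁻¹ * a⁻¹
      rw [e, mul_inv_cancel_right]
  have hone_or_z : ∀ g : H, ((g : G) = 1 ∨ (g : G) = z) → g ∈ _root_.commutator H ∨
      ∀ a ∈ E, a = 1 ∨ a = z := by
    rintro g (e | e)
    · left; rw [show g = 1 from Subtype.ext e]; exact one_mem _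
    · exact hzcomm.imp_left fun hz => by rwa [show g = ⟨z, hEH h.mem⟩ from Subtype.ext e]
  have hgoal : ((x : G) ^ 2 = 1 ∨ (x : G) ^ 2 = z) → x ^ 2 ∈ _root_.commutator H := by
    intro e
    rcases hone_or_z (x ^ 2) (by simpa using e) with h1 | h1
    · exact h1
    · -- degenerate: `E = {1, z}`, so `x` centralises `E`
      have hxc : (x : G) ∈ E := hcent (mem_centralizer_iff.2 fun a ha => by
        rcases h1 a ha with e1 | e1 <;> rw [e1]
        · simp
        · exact (hzH x x.2).symm)
      rcases h1 _ hxc with e1 | e1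
      · rw [show x = 1 from Subtype.ext e1, one_pow]; exact one_mem _
      · rw [show x ^ 2 = 1 from Subtype.ext (by push_cast; rw [e1, pow_two, h.zz])]
        exact one_mem _
  by_cases hfix : ∀ s, act x s = s
  · refine hgoal ?_
    have := htriv x hfix
    rw [pow_two]; exact h.sq _ this
  push Not at hfix
  obtain ⟨s0, hs0⟩ := hfix
  induction s0 using QuotientGroup.induction_on with
  | _ b =>
  set c : E := cj x b * b⁻¹ with hc
  have hcH : (⟨(c : G), hEH c.2⟩ : H) ∈ _root_.commutator H := by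
    have hmem : ⁅x, (⟨(b : G), hEH b.2⟩ : H)⁆ ∈ _root_.commutator H :=
      commutator_mem_commutator (mem_top _) (mem_top _)
    convert hmem using 1
    ext
    simp [hc, cj, commutatorElement_def]
  set ε : S := ((⟨(x : G) ^ 2, hxE⟩ : E) : S) with hε
  set γ : S := (c : S) with hγ
  have hγeq : γ = act x (b : S) * (b : S)⁻¹ := by rw [hactmk]; rfl
  have hSsq : ∀ s : S, s * s = 1 := fun s => by
    induction s using QuotientGroup.induction_on with
    | _ a =>
    rw [← QuotientGroup.mk_mul, QuotientGroup.eq_one_iff, mem_subgroupOf]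
    show (a : G) * a ∈ zpowers z
    rcases h.sq a a.2 with e | e <;> rw [e]
    · exact one_mem _
    · exact mem_zpowers z
  have hγfix : act x γ = γ := by
    rw [hγeq, map_mul, map_inv, ← hactmul, ← pow_two, hx2]
    refine inv_eq_of_mul_eq_one_right (hSsq (act x (b : S) * (b : S)⁻¹)) |> fun e => ?_
    rw [mul_inv_rev, inv_inv] at e
    exact e
  have hεfix : act x ε = ε := by
    rw [hε, hactmk]
    congr 1
    ext
    show (x : G) * (x : G) ^ 2 * (x : G)⁻¹ = (x : G) ^ 2
    group
  have hγne : γ ≠ 1 := fun e => hs0 (by rw [hγeq] at e; exact eq_of_mul_inv_eq_one e)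
  by_cases hε1 : ε = 1
  · rw [hε, QuotientGroup.eq_one_iff, mem_subgroupOf] at hε1
    exact hgoal (h.eq_of_mem_zpowers hε1)
  by_cases hεγ : ε = γ
  · rw [hε, hγ, QuotientGroup.eq, mem_subgroupOf] at hεγ
    rcases h.eq_of_mem_zpowers hεγ with e | e
    · rw [show x ^ 2 = (⟨(c : G), hEH c.2⟩ : H) from Subtype.ext (by
        push_cast; exact eq_of_inv_mul_eq_one e)]
      exact hcH
    · rcases hzcomm with hz | hdeg
      · rw [show x ^ 2 = (⟨(c : G), hEH c.2⟩ : H) * ⟨z, hEH h.mem⟩ from Subtype.ext (by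
          push_cast
          have e' : ((x : G) ^ 2)⁻¹ * (c : G) = z := e
          rw [inv_mul_eq_iff_eq_mul] at e'
          rw [e', mul_assoc, h.zz, mul_one])]
        exact mul_mem hcH hz
      · exact hgoal (hdeg _ hxE)
  · exfalso
    have h4 : ({1, γ, ε, ε * γ} : Finset S).card = 4 := by
      have a1 : ε * γ ≠ 1 := fun e => hεγ (by
        rw [eq_inv_of_mul_eq_one_left e]; exact inv_eq_of_mul_eq_one_right (hSsq γ))
      have a2 : ε * γ ≠ γ := fun e => hε1 (mul_eq_right.1 e)
      have a3 : ε * γ ≠ ε := fun e => hγne (mul_eq_left.1 e)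
      simp [Finset.card_insert_of_notMem, Ne.symm hγne, Ne.symm hε1, Ne.symm a1, Ne.symm a2,
        Ne.symm a3, Ne.symm hεγ]
    have huniv : ({1, γ, ε, ε * γ} : Finset S) = Finset.univ :=
      Finset.eq_univ_of_card _ (le_antisymm (Finset.card_le_univ _) (h4 ▸ hS))
    have hb := Finset.mem_univ (b : S)
    rw [← huniv] at hb
    simp only [Finset.mem_insert, Finset.mem_singleton] at hb
    rcases hb with e | e | e | e <;> apply hs0 <;> rw [e]
    · rw [map_one]
    · exact hγfix
    · exact hεfix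
    · rw [map_mul, hεfix, hγfix]

end Cfsg.Agent.TransferFour71
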