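import Mathlib
import Cfsg.Agent.Lib.TransferFour71

/-!
If `z` has no conjugate in `E ∖ {z}` for the large extraspecial subgroup `E` of its centralizer,
then that centralizer has no subgroup of index two.
-/

set_option autoImplicit false

namespace Cfsg.Agent.TransferTwo71

open Subgroup MulAction Cfsg.Agent.TransferFixed Cfsg.Agent.LargeExtraspecial Cfsg.Agent.TransferFour71

variable {G : Type*} [Group G] [Finite G]

theorem fixedValue_smul {H : Subgroup G} {B : Type*} [CommGroup B] (ψ : H →* B) (c u : G) (r : G ⧸ H) :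
    fixedValue ψ c (u • r) = fixedValue ψ (u⁻¹ * c * u) r := by
  induction r using QuotientGroup.induction_on with
  | _ g =>
  change fixedValue ψ c ((u * g : G) : G ⧸ H) = _
  have e1 : (u * g)⁻¹ * c * (u * g) = g⁻¹ * (u⁻¹ * c * u) * g := by group
  by_cases hg : g⁻¹ * (u⁻¹ * c * u) * g ∈ H
  · rw [fixedValue_mk _ hg, fixedValue_mk _ (e1.symm ▸ hg)]
    congr 1
    exact Subtype.ext e1
  · have aux : ∀ (x a : G), a⁻¹ * x * a ∉ H → fixedValue ψ x ((a : G) : G ⧸ H) = 1 :=
      fun x a ha => fixedValue_of_ne _ fun hq' => ha (by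
        have h2 := QuotientGroup.eq.mp (hq' : ((x * a : G) : G ⧸ H) = _).symm
        simpa [mul_assoc] using h2)
    rw [aux _ _ hg, aux _ _ (e1.symm ▸ hg)]

/-- Commuting with one element cuts a subgroup of `E` by at most two. -/
theorem card_le_two_mul_centralizer {E : Subgroup G} {z : G} (h : Ext E z) (A : Subgroup G) (hA : A ≤ E)
    (x : G) (hx : x ∈ E) : Nat.card A ≤ 2 * Nat.card (A ⊓ centralizer ({x} : Set G) : Subgroup G) := by
  classical
  by_cases hall : ∀ a ∈ A, a * x = x * a
  · have : A ⊓ centralizer ({x} : Set G) = A :=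
      inf_eq_left.2 fun a ha => mem_centralizer_singleton_iff.2 (hall a ha)
    rw [this]; omega
  push Not at hall
  obtain ⟨v, hv, hvx⟩ := hall
  rw [← SetLike.coe_sort_coe, Nat.card_coe_set_eq, ← SetLike.coe_sort_coe, Nat.card_coe_set_eq]
  set C := A ⊓ centralizer ({x} : Set G)
  have hsub : (A : Set G) ⊆ (C : Set G) ∪ (fun u => v⁻¹ * u) '' (C : Set G) := by
    intro u hu
    by_cases hux : u * x = x * u
    · exact Or.inl ⟨hu, mem_centralizer_singleton_iff.2 hux⟩
    · refine Or.inr ⟨v * u, ⟨A.mul_mem hv hu, mem_centralizer_singleton_iff.2 ?_⟩, by simp⟩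
      exact mul_inv_eq_iff_eq_mul.mp (h.mul_fix (hA hv) ((h.not_comm_iff hx (hA hv)).1 hvx)
        ((h.not_comm_iff hx (hA hu)).1 hux))
  refine (Set.ncard_le_ncard hsub (Set.toFinite _)).trans ((Set.ncard_union_le _ _).trans ?_)
  have := Set.ncard_image_le (f := fun u => v⁻¹ * u) (s := (C : Set G)) (Set.toFinite _)
  omega

open scoped Classical in
/-- Either everything or exactly half of a subgroup of `E` commutes with an element. -/
theorem two_mul_card_comm [Fintype G] {E : Subgroup G} {z : G} (h : Ext E z) (S : Subgroup G) (hS : S ≤ E)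
    (x : G) (hx : x ∈ E) :
    2 * (Finset.univ.filter fun u => u ∈ S ∧ u * x = x * u).card =
      (Finset.univ.filter fun u => u ∈ S).card +
        (if ∀ u ∈ S, u * x = x * u then (Finset.univ.filter fun u => u ∈ S).card else 0) := by
  have hsplit := Finset.card_filter_add_card_filter_not
    (s := Finset.univ.filter fun u : G => u ∈ S) (fun u => u * x = x * u)
  rw [Finset.filter_filter, Finset.filter_filter] at hsplit
  split_ifs with hall
  · have : (Finset.univ.filter fun u => u ∈ S ∧ u * x = x * u) = (Finset.univ.filter fun u => u ∈ S) :=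
      Finset.filter_congr fun u _ => ⟨fun hu => hu.1, fun hu => ⟨hu, hall u hu⟩⟩
    rw [this]; omega
  · push Not at hall
    obtain ⟨v, hv, hvx⟩ := hall
    have key : (Finset.univ.filter fun u => u ∈ S ∧ u * x = x * u).card =
        (Finset.univ.filter fun u => u ∈ S ∧ ¬ u * x = x * u).card := by
      refine Finset.card_bij' (fun u _ => v * u) (fun u _ => v⁻¹ * u) ?_ ?_ ?_ ?_
      · intro u hu
        simp only [Finset.mem_filter, Finset.mem_univ, true_and] at hu ⊢
        refine ⟨S.mul_mem hv hu.1, fun e => hvx ?_⟩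
        rw [mul_assoc, hu.2, ← mul_assoc, ← mul_assoc] at e
        exact mul_right_cancel e
      · intro u hu
        simp only [Finset.mem_filter, Finset.mem_univ, true_and] at hu ⊢
        refine ⟨S.mul_mem (S.inv_mem hv) hu.1, ?_⟩
        have hv' : ¬ v⁻¹ * x = x * v⁻¹ := fun e => hvx (Commute.inv_left_iff.1 (e : Commute v⁻¹ x)).eq
        exact mul_inv_eq_iff_eq_mul.mp (h.mul_fix (hS (S.inv_mem hv))
          ((h.not_comm_iff hx (hS (S.inv_mem hv))).1 hv') ((h.not_comm_iff hx (hS hu.1)).1 hu.2))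
      · intro u _; simp
      · intro u _; simp
    omega

open scoped Classical in
/-- An abelian subgroup `A` of `E` satisfies `|A|² ≤ 4 |E|`. -/
theorem abelian_card {E : Subgroup G} {z : G} (h : Ext E z) (A : Subgroup G) (hA : A ≤ E)
    (hab : ∀ a ∈ A, ∀ b ∈ A, a * b = b * a) : Nat.card A * Nat.card A ≤ 4 * Nat.card E := by
  haveI : Fintype G := Fintype.ofFinite G
  set EF := Finset.univ.filter fun u : G => u ∈ E with hEF
  set AF := Finset.univ.filter fun u : G => u ∈ A with hAF
  have hcE : Nat.card E = EF.card := by rw [Nat.card_eq_fintype_card, Fintype.card_subtype]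
  have hcA : Nat.card A = AF.card := by rw [Nat.card_eq_fintype_card, Fintype.card_subtype]
  set K := AF.filter fun a => ∀ e ∈ E, e * a = a * e with hK
  set C := EF.filter fun e => ∀ a ∈ A, a * e = e * a with hC
  have hK2 : K.card ≤ 2 := by
    refine (Finset.card_le_card (t := {1, z}) fun a ha => ?_).trans ((Finset.card_insert_le _ _).trans (by simp))
    simp only [hK, hAF, Finset.mem_filter, Finset.mem_univ, true_and] at ha
    rcases h.central (hA ha.1) ha.2 with e | e <;> simp [e]
  have hAC : AF.card ≤ C.card := by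
    refine Finset.card_le_card fun a ha => ?_
    simp only [hC, hEF, hAF, Finset.mem_filter, Finset.mem_univ, true_and] at ha ⊢
    exact ⟨hA ha, fun b hb => hab b hb a ha⟩
  have h1 : 2 * (∑ a ∈ AF, (EF.filter fun e => e * a = a * e).card) = AF.card * EF.card + K.card * EF.card := by
    rw [Finset.mul_sum]
    have : ∀ a ∈ AF, 2 * (EF.filter fun e => e * a = a * e).card =
        EF.card + (if ∀ e ∈ E, e * a = a * e then EF.card else 0) := fun a ha => by
      rw [hEF, Finset.filter_filter]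
      exact two_mul_card_comm h E le_rfl a (hA (Finset.mem_filter.1 ha).2)
    rw [Finset.sum_congr rfl this, Finset.sum_add_distrib, Finset.sum_const, ← Finset.sum_filter,
      Finset.sum_const, smul_eq_mul, smul_eq_mul, hK]
  have h2 : 2 * (∑ e ∈ EF, (AF.filter fun a => a * e = e * a).card) = EF.card * AF.card + C.card * AF.card := by
    rw [Finset.mul_sum]
    have : ∀ e ∈ EF, 2 * (AF.filter fun a => a * e = e * a).card =
        AF.card + (if ∀ a ∈ A, a * e = e * a then AF.card else 0) := fun e he => by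
      rw [hAF, Finset.filter_filter]
      exact two_mul_card_comm h A hA e (Finset.mem_filter.1 he).2
    rw [Finset.sum_congr rfl this, Finset.sum_add_distrib, Finset.sum_const, ← Finset.sum_filter,
      Finset.sum_const, smul_eq_mul, smul_eq_mul, hC]
  have h3 : (∑ a ∈ AF, (EF.filter fun e => e * a = a * e).card) =
      ∑ e ∈ EF, (AF.filter fun a => a * e = e * a).card := by
    simp only [Finset.card_filter]
    rw [Finset.sum_comm]
    exact Finset.sum_congr rfl fun e _ => Finset.sum_congr rfl fun a _ => if_congr eq_comm rfl rfl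
  rw [h3] at h1
  rw [hcE, hcA]
  nlinarith [Nat.mul_le_mul_right AF.card hAC, Nat.mul_le_mul_right EF.card hK2]

/-- An element centralising a subgroup of index two of `E` and `z` acts as an element of `E`. -/
theorem inner_of_index_two {E : Subgroup G} {z : G} (h : Ext E z)
    (hnorm : ∀ g, g * z = z * g → ∀ x ∈ E, g * x * g⁻¹ ∈ E)
    (hcore : ∀ g, g * z = z * g → (∀ x ∈ E, g * x * g⁻¹ = x ∨ g * x * g⁻¹ = z * x) → g ∈ E)
    (M : Subgroup G) {t : G} (htE : t ∈ E) (hcov : ∀ x ∈ E, x ∈ M ∨ t⁻¹ * x ∈ M) (hzM : z ∈ M)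
    {w : G} (hwc : ∀ u ∈ E, u ∈ M → w * u = u * w) (hw2 : w * w = 1) : w ∈ E := by
  have hwz : w * z = z * w := hwc z h.mem hzM
  have hwfix : ∀ u ∈ E, u ∈ M → w * u * w⁻¹ = u := fun u hu huM =>
    mul_inv_eq_iff_eq_mul.2 (hwc u hu huM)
  set d := w * t * w⁻¹ * t⁻¹ with hd
  have hdE : d ∈ E := E.mul_mem (hnorm w hwz t htE) (E.inv_mem htE)
  have hdc : ∀ u ∈ E, u ∈ M → d * u = u * d := by
    intro u hu huM
    have hu' : t⁻¹ * u * t ∈ E ∧ t⁻¹ * u * t ∈ M := by
      rcases h.conj t⁻¹ (E.inv_mem htE) u hu with e | e <;> rw [inv_inv] at e <;> rw [e]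
      · exact ⟨hu, huM⟩
      · exact ⟨E.mul_mem h.mem hu, M.mul_mem hzM huM⟩
    have e2 := hwfix _ hu'.1 hu'.2
    calc d * u = w * t * w⁻¹ * (t⁻¹ * u * t) * t⁻¹ := by rw [hd]; group
      _ = w * t * w⁻¹ * (w * (t⁻¹ * u * t) * w⁻¹) * t⁻¹ := by rw [e2]
      _ = (w * u * w⁻¹) * d := by rw [hd]; group
      _ = u * d := by rw [hwfix u hu huM]
  have hdt : d * t = t * d := by
    by_contra hne
    have e1 : d * t * d⁻¹ = z * t := (h.not_comm_iff htE hdE).1 hne
    have hdM : d ∈ M := by
      rcases hcov d hdE with h1 | h1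
      · exact h1
      · exfalso
        have e2 := hdc _ (E.mul_mem (E.inv_mem htE) hdE) h1
        apply hne
        have e3 : d * t⁻¹ = t⁻¹ * d := by
          rw [← mul_assoc] at e2
          exact mul_right_cancel e2
        exact (Commute.inv_right_iff.1 e3).eq
    have hwt : w * t * w⁻¹ = d * t := by rw [hd, inv_mul_cancel_right]
    have hd2 : d * d = 1 := by
      have e2 : t = d * d * t := by
        calc t = (w * w) * t * (w * w)⁻¹ := by rw [hw2]; simp
          _ = w * (w * t * w⁻¹) * w⁻¹ := by group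
          _ = w * (d * t) * w⁻¹ := by rw [hwt]
          _ = (w * d * w⁻¹) * (w * t * w⁻¹) := by group
          _ = d * d * t := by rw [hwfix d hdE hdM, hwt]; exact (mul_assoc d d t).symm
      exact (mul_eq_right.1 e2.symm)
    have hsq : (d * t) * (d * t) = t * t := by
      rw [← hwt]
      rcases h.sq t htE with e2 | e2
      · rw [show w * t * w⁻¹ * (w * t * w⁻¹) = w * (t * t) * w⁻¹ by group, e2, mul_one, mul_inv_cancel]
      · rw [show w * t * w⁻¹ * (w * t * w⁻¹) = w * (t * t) * w⁻¹ by group, e2,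
          mul_inv_eq_iff_eq_mul, hwz]
    have hzt : d * t = z * t * d := mul_inv_eq_iff_eq_mul.1 e1
    have e4 : (d * t) * (d * t) = z * (t * t) := by
      calc (d * t) * (d * t) = z * t * d * (d * t) := by rw [← hzt]
        _ = z * t * (d * d) * t := by group
        _ = z * (t * t) := by rw [hd2]; group
    exact h.z_mul_ne (t * t) (e4.symm.trans hsq)
  have hdZ : d = 1 ∨ d = z := by
    refine h.central hdE fun x hx => ?_
    rcases hcov x hx with h1 | h1
    · exact (hdc x hx h1).symm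
    · have e2 := hdc _ (E.mul_mem (E.inv_mem htE) hx) h1
      calc x * d = t * ((t⁻¹ * x) * d) := by group
        _ = t * (d * (t⁻¹ * x)) := by rw [e2]
        _ = d * x := by rw [← mul_assoc, ← hdt, mul_assoc, mul_inv_cancel_left]
  have hwt : w * t * w⁻¹ = d * t := by rw [hd, inv_mul_cancel_right]
  refine hcore w hwz fun x hx => ?_
  rcases hcov x hx with h1 | h1
  · exact Or.inl (hwfix x hx h1)
  · have e : w * x * w⁻¹ = d * x := by
      calc w * x * w⁻¹ = (w * t * w⁻¹) * (w * (t⁻¹ * x) * w⁻¹) := by group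
        _ = d * x := by rw [hwt, hwfix _ (E.mul_mem (E.inv_mem htE) hx) h1, mul_assoc, mul_inv_cancel_left]
    rcases hdZ with e1 | e1 <;> rw [e, e1]
    · left; rw [one_mul]
    · right; rfl

/-- In a group of order at least 128 two index-two conditions leave a non-abelian group. -/
theorem exists_pair {E : Subgroup G} {z : G} (h : Ext E z) (hbig : 128 ≤ Nat.card E) (M : Subgroup G)
    {t : G} (htE : t ∈ E) (hcov : ∀ x ∈ E, x ∈ M ∨ t⁻¹ * x ∈ M) (x : G) (hx : x ∈ E) :
    ∃ a ∈ E, a ∈ M ∧ ∃ b ∈ E, b ∈ M ∧ a * b ≠ b * a ∧ a * x = x * a ∧ b * x = x * b := by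
  classical
  haveI : Fintype G := Fintype.ofFinite G
  let A : Subgroup G := (E ⊓ M) ⊓ centralizer ({x} : Set G)
  by_contra hno
  push Not at hno
  have hab : ∀ a ∈ A, ∀ b ∈ A, a * b = b * a := fun a ha b hb => by
    by_contra hne
    exact (hno a ha.1.1 ha.1.2 b hb.1.1 hb.1.2 hne (mem_centralizer_singleton_iff.1 ha.2))
      (mem_centralizer_singleton_iff.1 hb.2)
  -- an index four abelian subgroup
  have hidx : ∀ B : Subgroup G, ∀ v ∈ E, v * v ∈ B → (∀ u ∈ E, u ∈ B ∨ v⁻¹ * u ∈ B) →
      Nat.card E ≤ 2 * Nat.card (E ⊓ B : Subgroup G) := by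
    intro B v hv _ hB
    rw [← SetLike.coe_sort_coe, Nat.card_coe_set_eq, ← SetLike.coe_sort_coe, Nat.card_coe_set_eq]
    have hsub : (E : Set G) ⊆ ((E ⊓ B : Subgroup G) : Set G) ∪ (fun u => v * u) '' ((E ⊓ B : Subgroup G) : Set G) := by
      intro u hu
      rcases hB u hu with h1 | h1
      · exact Or.inl ⟨hu, h1⟩
      · exact Or.inr ⟨v⁻¹ * u, ⟨E.mul_mem (E.inv_mem hv) hu, h1⟩, by simp⟩
    refine (Set.ncard_le_ncard hsub (Set.toFinite _)).trans ((Set.ncard_union_le _ _).trans ?_)
    have := Set.ncard_image_le (f := fun u => v * u) (s := ((E ⊓ B : Subgroup G) : Set G)) (Set.toFinite _)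
    omega
  have h4 : Nat.card E ≤ 4 * Nat.card A := by
    have h1 : Nat.card E ≤ 2 * Nat.card (E ⊓ M : Subgroup G) := by
      rw [← SetLike.coe_sort_coe, Nat.card_coe_set_eq, ← SetLike.coe_sort_coe, Nat.card_coe_set_eq]
      have hsub : (E : Set G) ⊆ ((E ⊓ M : Subgroup G) : Set G) ∪ (fun u => t * u) '' ((E ⊓ M : Subgroup G) : Set G) := by
        intro u hu
        rcases hcov u hu with h1 | h1
        · exact Or.inl ⟨hu, h1⟩
        · exact Or.inr ⟨t⁻¹ * u, ⟨E.mul_mem (E.inv_mem htE) hu, h1⟩, by simp⟩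
      refine (Set.ncard_le_ncard hsub (Set.toFinite _)).trans ((Set.ncard_union_le _ _).trans ?_)
      have := Set.ncard_image_le (f := fun u => t * u) (s := ((E ⊓ M : Subgroup G) : Set G)) (Set.toFinite _)
      omega
    have h2 := card_le_two_mul_centralizer h (E ⊓ M) inf_le_left x hx
    have h3 : Nat.card ((E ⊓ M) ⊓ centralizer ({x} : Set G) : Subgroup G) = Nat.card A := rfl
    omega
  have h5 := abelian_card h A (inf_le_left.trans inf_le_left) hab
  -- `|A|² ≤ 4 |E|`
  nlinarith

open scoped Classical in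
/-- Homomorphisms given on involutions by fixed values kill `E ∩ M`. -/
theorem kill_inter {E : Subgroup G} {z : G} (h : Ext E z) (hnorm : ∀ g, g * z = z * g → ∀ x ∈ E, g * x * g⁻¹ ∈ E)
    (hbig : 128 ≤ Nat.card E)
    (hcore : ∀ g, g * z = z * g → (∀ x ∈ E, g * x * g⁻¹ = x ∨ g * x * g⁻¹ = z * x) → g ∈ E)
    (hno : ∀ g, g * z * g⁻¹ ∈ E → g * z * g⁻¹ = z)
    {B : Type*} [CommGroup B] (hB : ∀ b : B, b * b = 1)
    {H : Subgroup G} [Fintype (G ⧸ H)] (hH : H = centralizer ({z} : Set G)) (φ : H →* B)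
    (M : Subgroup G) (q : G ⧸ H) {t : G} (htE : t ∈ E) (htM : t ∉ M)
    (hcov : ∀ x ∈ E, x ∈ M ∨ t⁻¹ * x ∈ M)
    (hnb : ∀ g : G, ((g : G) : G ⧸ H) ∈ orbit M q → g * z * g⁻¹ ≠ z)
    (hom : M →* B) (hhom : ∀ c : M, (c : G) * c = 1 →
      ∏ r ∈ Finset.univ.filter (· ∈ orbit M q), fixedValue ((MonoidHom.id B).comp φ) (c : G) r = hom c) :
    ∀ c (_ : c ∈ E) (hcM : c ∈ M), hom ⟨c, hcM⟩ = 1 := by
  -- centralizers of two elements are not abelian inside `E ∩ M`
  have hpair : ∀ x ∈ E, x ∈ M → ∃ a ∈ E, a ∈ M ∧ ∃ b ∈ E, b ∈ M ∧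
      a * x = x * a ∧ b * x = x * b ∧ a * b * a⁻¹ = z * b := by
    intro x hx hxM
    obtain ⟨a, haE, haM, b, hbE, hbM, hab, hax, hbx⟩ := exists_pair h hbig M htE hcov x hx
    refine ⟨a, haE, haM, b, hbE, hbM, hax, hbx, (h.conj a haE b hbE).resolve_left fun e => ?_⟩
    exact hab (mul_inv_eq_iff_eq_mul.mp e)
  have hinvol : ∀ c (_ : c ∈ E) (hcM : c ∈ M), c * c = 1 → hom ⟨c, hcM⟩ = 1 := by
    intro c hcE hcM hcc
    rw [← hhom ⟨c, hcM⟩ hcc]
    obtain ⟨a, haE, haM, b, hbE, hbM, hac, hbc, hab⟩ := hpair c hcE hcM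
    have hzab : z = a * b * a⁻¹ * b⁻¹ := by rw [hab, mul_inv_cancel_right]
    have hzM : z ∈ M := by
      rw [hzab]; exact M.mul_mem (M.mul_mem (M.mul_mem haM hbM) (M.inv_mem haM)) (M.inv_mem hbM)
    set C : Subgroup G := (E ⊓ M) ⊓ centralizer ({c} : Set G) with hC
    have hCc : ∀ u ∈ C, u * c = c * u := fun u hu => mem_centralizer_singleton_iff.mp hu.2
    have hCp : IsPGroup 2 C := (Ext.isPGroup h).to_le (inf_le_left.trans inf_le_left)
    let ψ : H →* B := (MonoidHom.id B).comp φ
    let f : G ⧸ H → B := fun r => if r ∈ orbit M q then fixedValue ψ c r else 1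
    have hconj : ∀ u : G, ∀ r, fixedValue ψ c (u • r) = fixedValue ψ (u⁻¹ * c * u) r :=
      fun u r => fixedValue_smul ψ c u r
    have horb : ∀ u ∈ M, ∀ r, u • r ∈ orbit M q ↔ r ∈ orbit M q := by
      intro u hu r
      constructor
      · rintro ⟨⟨v, hv⟩, hv'⟩
        refine ⟨⟨u⁻¹ * v, M.mul_mem (M.inv_mem hu) hv⟩, ?_⟩
        show (u⁻¹ * v) • q = r
        rw [mul_smul, show v • q = u • r from hv', inv_smul_smul]
      · rintro ⟨⟨v, hv⟩, rfl⟩
        refine ⟨⟨u * v, M.mul_mem hu hv⟩, ?_⟩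
        show (u * v) • q = u • v • q
        rw [mul_smul]
    show ∏ r ∈ Finset.univ.filter (· ∈ orbit M q), fixedValue ψ c r = 1
    rw [Finset.prod_filter]
    rw [prod_eq_prod_fixed (S := C) f (fun r hr => ?_)]
    swap
    · have hconst : ∀ v ∈ Finset.univ.filter (· ∈ orbit C r), f v = f r := by
        intro v hv
        obtain ⟨⟨u, hu⟩, rfl⟩ := (Finset.mem_filter.1 hv).2
        show (if u • r ∈ orbit M q then _ else _) = (if r ∈ orbit M q then _ else _)
        refine if_congr (horb u hu.1.2 r) ?_ rfl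
        show fixedValue ψ c (u • r) = _
        rw [hconj u r, mul_assoc, ← hCc u hu, inv_mul_cancel_left]
      rw [Finset.prod_congr rfl hconst, Finset.prod_const]
      obtain ⟨k, hk⟩ := hCp.card_orbit r
      have hk2 : (Finset.univ.filter (· ∈ orbit C r)).card = 2 ^ k := by
        rw [← hk, Nat.card_eq_fintype_card, ← Set.toFinset_card]
        congr 1
        ext v
        simp
      rw [hk2]
      rcases k with _ | k
      · exfalso
        apply hr
        intro u
        have : (⟨u • r, mem_orbit r u⟩ : orbit C r) = ⟨r, mem_orbit_self r⟩ :=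
          (Nat.card_eq_one_iff_unique.mp hk).1.elim _ _
        exact congrArg Subtype.val this
      · rw [pow_succ', pow_mul, pow_two, hB, one_pow]
    set Φ := Finset.univ.filter (· ∈ fixedPoints C (G ⧸ H)) with hΦ
    have hmemΦ : ∀ r, r ∈ Φ ↔ ∀ u ∈ C, u • r = r := by
      intro r
      rw [hΦ, Finset.mem_filter]
      exact ⟨fun hr u hu => hr.2 ⟨u, hu⟩, fun hr => ⟨Finset.mem_univ _, fun u => hr u u.2⟩⟩
    -- `E ∩ M` fixes no point of the orbit
    have hfree : ∀ r, r ∈ orbit M q → ¬ ∀ u ∈ E, u ∈ M → u • r = r := by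
      intro r hr hall
      induction r using QuotientGroup.induction_on with
      | _ g =>
      set w := g * z * g⁻¹ with hw
      have hwc : ∀ u ∈ E, u ∈ M → w * u = u * w := by
        intro u hu huM
        have h2 : g⁻¹ * u * g ∈ H := by
          have h3 : g⁻¹ * (u * g) ∈ H := QuotientGroup.eq.mp (hall u hu huM).symm
          rwa [← mul_assoc] at h3
        rw [hH] at h2
        have h4 := mem_centralizer_singleton_iff.mp h2
        symm
        calc u * (g * z * g⁻¹) = g * ((g⁻¹ * u * g) * z) * g⁻¹ := by group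
          _ = g * (z * (g⁻¹ * u * g)) * g⁻¹ := by rw [h4]
          _ = g * z * g⁻¹ * u := by group
      exact hnb g hr (hno g (inner_of_index_two h hnorm hcore M htE hcov hzM hwc
        (by rw [show g * z * g⁻¹ * (g * z * g⁻¹) = g * (z * z) * g⁻¹ by group, h.zz,
          mul_one, mul_inv_cancel])))
    by_cases hs : ∃ s ∈ E, s ∈ M ∧ s * c * s⁻¹ = z * c
    · obtain ⟨s, hsE, hsM, hsc⟩ := hs
      refine Finset.prod_involution (fun r _ => s • r) ?_ ?_ ?_ ?_
      · intro r hr
        have hCr := (hmemΦ r).1 hr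
        show (if r ∈ orbit M q then fixedValue ψ c r else 1) *
          (if s • r ∈ orbit M q then fixedValue ψ c (s • r) else 1) = 1
        simp only [horb s hsM r]
        split_ifs with hr'
        swap
        · exact one_mul 1
        induction r using QuotientGroup.induction_on with
        | _ g =>
        have hmem : ∀ u ∈ C, g⁻¹ * u * g ∈ H := fun u hu => by
          have h3 : g⁻¹ * (u * g) ∈ H := QuotientGroup.eq.mp (hCr u hu).symm
          rwa [← mul_assoc] at h3
        have hcC : c ∈ C := ⟨⟨hcE, hcM⟩, mem_centralizer_singleton_iff.mpr rfl⟩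
        have hzC : z ∈ C := ⟨⟨h.mem, hzM⟩, mem_centralizer_singleton_iff.mpr (h.comm c hcE).symm⟩
        have haC : a ∈ C := ⟨⟨haE, haM⟩, mem_centralizer_singleton_iff.mpr hac⟩
        have hbC : b ∈ C := ⟨⟨hbE, hbM⟩, mem_centralizer_singleton_iff.mpr hbc⟩
        have e2 : s⁻¹ * c * s = z * c := by
          have e3 : s * (z * c) * s⁻¹ = c := by
            rw [show s * (z * c) * s⁻¹ = (s * z) * s⁻¹ * (s * c * s⁻¹) by group, h.comm s hsE,
              mul_inv_cancel_right, hsc, h.z_mul_z_mul]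
          calc s⁻¹ * c * s = s⁻¹ * (s * (z * c) * s⁻¹) * s := by rw [e3]
            _ = z * c := by group
        rw [hconj s, e2, fixedValue_mk ψ (hmem c hcC), fixedValue_mk ψ (hmem _ (C.mul_mem hzC hcC))]
        rw [show (⟨g⁻¹ * (z * c) * g, hmem _ (C.mul_mem hzC hcC)⟩ : H) =
          ⟨_, hmem z hzC⟩ * ⟨_, hmem c hcC⟩ from Subtype.ext (by push_cast; group), map_mul]
        have e4 : (⟨g⁻¹ * z * g, hmem z hzC⟩ : H) = ⟨_, hmem a haC⟩ * ⟨_, hmem b hbC⟩ *
            ⟨_, hmem a haC⟩⁻¹ * ⟨_, hmem b hbC⟩⁻¹ := by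
          apply Subtype.ext
          push_cast
          rw [hzab]
          group
        rw [e4, map_mul, map_mul, map_mul, map_inv, map_inv, mul_inv_cancel_comm, mul_inv_cancel,
          one_mul, hB]
      · intro r hr hne he
        have hr' : r ∈ orbit M q := by
          by_contra h'
          exact hne (if_neg h')
        refine hfree r hr' fun u hu huM => ?_
        rcases h.conj u hu c hcE with e1 | e1
        · exact (hmemΦ r).1 hr u ⟨⟨hu, huM⟩, mem_centralizer_singleton_iff.mpr (mul_inv_eq_iff_eq_mul.mp e1)⟩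
        · have h2 := (hmemΦ r).1 hr (s * u) ⟨⟨E.mul_mem hsE hu, M.mul_mem hsM huM⟩,
            mem_centralizer_singleton_iff.mpr (mul_inv_eq_iff_eq_mul.mp (h.mul_fix hsE hsc e1))⟩
          rw [mul_smul] at h2
          calc u • r = s⁻¹ • s • u • r := (inv_smul_smul _ _).symm
            _ = s⁻¹ • r := by rw [h2]
            _ = s⁻¹ • s • r := by rw [he]
            _ = r := inv_smul_smul _ _
      · intro r hr
        rw [hmemΦ]
        intro u hu
        have hu' : s⁻¹ * u * s ∈ C := by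
          rcases h.conj s⁻¹ (E.inv_mem hsE) u hu.1.1 with e | e <;> rw [inv_inv] at e <;> rw [e]
          · exact hu
          · exact C.mul_mem ⟨⟨h.mem, hzM⟩, mem_centralizer_singleton_iff.mpr (h.comm c hcE).symm⟩ hu
        rw [← mul_smul, show u * s = s * (s⁻¹ * u * s) by group, mul_smul, (hmemΦ r).1 hr _ hu']
      · intro r hr
        rw [← mul_smul]
        refine (hmemΦ r).1 hr _ ⟨⟨E.mul_mem hsE hsE, M.mul_mem hsM hsM⟩,
          mem_centralizer_singleton_iff.mpr ?_⟩
        rcases h.sq s hsE with e | e <;> rw [e]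
        · rw [one_mul, mul_one]
        · exact (h.comm c hcE).symm
    · refine Finset.prod_eq_one fun r hr => ?_
      show (if r ∈ orbit M q then _ else _) = 1
      split_ifs with hr'
      swap
      · rfl
      refine absurd (fun u hu huM => (hmemΦ r).1 hr u ⟨⟨hu, huM⟩, ?_⟩) (hfree r hr')
      refine mem_centralizer_singleton_iff.mpr ?_
      exact mul_inv_eq_iff_eq_mul.mp ((h.conj u hu c hcE).resolve_right fun e => hs ⟨u, hu, huM, e⟩)
  intro c hcE hcM
  rcases h.sq c hcE with hcc | hcc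
  · exact hinvol c hcE hcM hcc
  -- elements of order four commuting with `c` have the value of `c`
  have hsame : ∀ d (hd : d ∈ E) (hdM : d ∈ M), d * c = c * d → d * d = z →
      hom ⟨d, hdM⟩ = hom ⟨c, hcM⟩ := by
    intro d hd hdM hdc hdd
    have h1 := hinvol (d * c) (E.mul_mem hd hcE) (M.mul_mem hdM hcM) (by
      rw [show d * c * (d * c) = d * (c * d) * c by group, ← hdc,
        show d * (d * c) * c = (d * d) * (c * c) by group, hdd, hcc, h.zz])
    rw [show (⟨d * c, M.mul_mem hdM hcM⟩ : M) = ⟨d, hdM⟩ * ⟨c, hcM⟩ from rfl, map_mul] at h1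
    rw [eq_inv_of_mul_eq_one_left h1]
    exact inv_eq_of_mul_eq_one_right (hB _)
  obtain ⟨a, haE, haM, b, hbE, hbM, hac, hbc, hab⟩ := hpair c hcE hcM
  have habc : a * b * c = c * (a * b) := by rw [mul_assoc, hbc, ← mul_assoc, hac, mul_assoc]
  have habsq : a * b * (a * b) = z * (a * a * (b * b)) := by
    have e : b * a = z * (a * b) := by
      have e1 : a * b = z * b * a := mul_inv_eq_iff_eq_mul.mp hab
      rw [e1, mul_assoc z b a, h.z_mul_z_mul]
    rw [show a * b * (a * b) = a * (b * a) * b by group, e,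
      show a * (z * (a * b)) * b = (a * z) * (a * (b * b)) by group, h.comm a haE]
    group
  set X := hom ⟨c, hcM⟩ with hX
  have hmul : hom ⟨a * b, M.mul_mem haM hbM⟩ = hom ⟨a, haM⟩ * hom ⟨b, hbM⟩ := by
    rw [← map_mul]; rfl
  rcases h.sq a haE with ea | ea <;> rcases h.sq b hbE with eb | eb
  · have e := hsame _ (E.mul_mem haE hbE) (M.mul_mem haM hbM) habc (by rw [habsq, ea, eb, mul_one, mul_one])
    rw [hmul, hinvol a haE haM ea, hinvol b hbE hbM eb, one_mul] at e
    exact e.symm
  · have e := hinvol _ (E.mul_mem haE hbE) (M.mul_mem haM hbM) (by rw [habsq, ea, eb, one_mul, h.zz])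
    rw [hmul, hinvol a haE haM ea, one_mul, hsame b hbE hbM hbc eb] at e
    exact e
  · have e := hinvol _ (E.mul_mem haE hbE) (M.mul_mem haM hbM) (by rw [habsq, ea, eb, mul_one, h.zz])
    rw [hmul, hinvol b hbE hbM eb, mul_one, hsame a haE haM hac ea] at e
    exact e
  · have e := hsame _ (E.mul_mem haE hbE) (M.mul_mem haM hbM) habc (by rw [habsq, ea, eb, h.zz, mul_one])
    rw [hmul, hsame a haE haM hac ea, hsame b hbE hbM hbc eb, hB] at e
    exact e.symm

open scoped Classical in
/-- Without conjugates of `z` in `E ∖ {z}` the transfer kills every homomorphism of exponent two. -/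
theorem hom_mod_trivial {E : Subgroup G} {z : G} (h : Ext E z)
    (hnorm : ∀ g, g * z = z * g → ∀ x ∈ E, g * x * g⁻¹ ∈ E)
    (hcent : centralizer (E : Set G) ≤ E)
    (hbig : 128 ≤ Nat.card E)
    (hcore : ∀ g, g * z = z * g → (∀ x ∈ E, g * x * g⁻¹ = x ∨ g * x * g⁻¹ = z * x) → g ∈ E)
    (hno : ∀ g, g * z * g⁻¹ ∈ E → g * z * g⁻¹ = z)
    {B : Type*} [CommGroup B] (hB : ∀ b : B, b * b = 1) (hG : ∀ f : G →* B, f = 1)
    {H : Subgroup G} (hH : H = centralizer ({z} : Set G)) (φ : H →* B) :
    ∀ n, ∀ y : H, orderOf (y : G) = n → (∃ e, n = 2 ^ e) → φ y = 1 := by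
  let π : B →* B := MonoidHom.id B
  suffices hs : ∀ n, ∀ y : H, orderOf (y : G) = n → (∃ e, n = 2 ^ e) → π (φ y) = 1 from hs
  intro n
  induction n using Nat.strong_induction_on with
  | _ n ih =>
  intro y hn ⟨e, he⟩
  haveI : Fintype (G ⧸ H) := Fintype.ofFinite _
  have hmin : ∀ y' : G, orderOf y' = orderOf (y : G) → ∀ w : H, orderOf (w : G) < orderOf y' →
      (∃ i, orderOf (w : G) = 2 ^ i) → π (φ w) = 1 := fun y' hy' w hw hi =>
    ih _ (lt_of_lt_of_eq hw (hy'.trans hn)) w rfl hi
  haveI : Fact (Nat.Prime 2) := ⟨Nat.prime_two⟩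
  have hEH : E ≤ H := fun x hx => hH ▸ mem_centralizer_singleton_iff.mpr (h.comm x hx)
  have hyz : (y : G) * z = z * y := mem_centralizer_singleton_iff.mp (hH ▸ y.2 : (y : G) ∈ centralizer ({z} : Set G))
  have hy2 : ∀ x ∈ E, (y : G) * x * (y : G)⁻¹ ∈ E := hnorm _ hyz
  have hy2' : ∀ x ∈ E, (y : G)⁻¹ * x * y ∈ E := fun x hx => by
    have := hnorm _ (Commute.inv_left (hyz : Commute (y : G) z)).eq x hx
    simpa using this
  set Y := E ⊔ zpowers (y : G) with hY
  have hYE : ∀ u ∈ Y, ∀ x ∈ E, u * x * u⁻¹ ∈ E := by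
    have : Y ≤ normalizer (E : Set G) := sup_le le_normalizer (zpowers_le.2 (by
      rw [mem_normalizer_iff]
      refine fun x => ⟨hy2 x, fun hx => ?_⟩
      have := hy2' _ hx
      simpa [mul_assoc] using this))
    exact fun u hu x hx => (mem_normalizer_iff.1 (this hu) x).1 hx
  have hYp : IsPGroup 2 Y := by
    refine (h.isPGroup).to_sup_of_normal_left'
      (IsPGroup.of_card (n := e) (by rw [Nat.card_zpowers, hn, he])) (zpowers_le.2 ?_)
    rw [mem_normalizer_iff]
    refine fun x => ⟨hy2 x, fun hx => ?_⟩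
    have := hy2' _ hx
    simpa [mul_assoc] using this
  have hord : orderOf (y : G) = 2 ^ e := hn.trans he
  have htr := transfer_eq_prod_fixedValue (π.comp φ) hord (fun g k hk hmem => by
    rcases eq_or_ne (y : G) 1 with h1 | h1
    · show π (φ _) = 1
      rw [show (⟨g⁻¹ * (y : G) ^ k * g, hmem⟩ : H) = 1 from Subtype.ext (by simp [h1]), map_one, map_one]
    · obtain ⟨hlt, i, hi⟩ := pow_even_lt hord h1 hk
      have hc : orderOf (g⁻¹ * (y : G) ^ k * g) = orderOf ((y : G) ^ k) := by
        rw [← orderOf_injective (MulAut.conj g⁻¹).toMonoidHom (MulAut.conj g⁻¹).injective ((y : G) ^ k)]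
        simp
      exact hmin _ rfl _ (lt_of_eq_of_lt hc hlt) ⟨i, hc.trans hi⟩)
  rw [hG (MonoidHom.transfer (π.comp φ)), MonoidHom.one_apply,
    prod_eq_prod_fixed (S := Y) (fixedValue (π.comp φ) (y : G)) (fun q hq => ?_)] at htr
  · have hfix : (Finset.univ.filter (· ∈ fixedPoints Y (G ⧸ H))) = {((1 : G) : G ⧸ H)} := by
      ext r
      simp only [Finset.mem_filter, Finset.mem_univ, true_and, Finset.mem_singleton]
      constructor
      · intro hr
        induction r using QuotientGroup.induction_on with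
        | _ g =>
        have hw : g * z * g⁻¹ ∈ centralizer (E : Set G) := by
          rw [mem_centralizer_iff]
          intro x hx
          have h2 : g⁻¹ * x * g ∈ H := by
            have h3 : g⁻¹ * (x * g) ∈ H :=
              QuotientGroup.eq.mp (hr ⟨x, (le_sup_left : E ≤ Y) hx⟩).symm
            rwa [← mul_assoc] at h3
          rw [hH] at h2
          have h4 := mem_centralizer_singleton_iff.mp h2
          calc x * (g * z * g⁻¹) = g * ((g⁻¹ * x * g) * z) * g⁻¹ := by group
            _ = g * (z * (g⁻¹ * x * g)) * g⁻¹ := by rw [h4]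
            _ = g * z * g⁻¹ * x := by group
        rcases h.central (hcent hw) (fun x hx => mem_centralizer_iff.mp hw x hx) with e1 | e1
        · exact absurd (conj_eq_one_iff.mp e1) h.ne_one
        · refine (QuotientGroup.eq.mpr ?_).symm
          rw [inv_one, one_mul, hH, mem_centralizer_singleton_iff]
          exact mul_inv_eq_iff_eq_mul.mp e1
      · rintro rfl ⟨u, hu⟩
        refine smul_eq_of_mem (x := u) ?_
        simpa using (sup_le hEH (zpowers_le.2 y.2) : Y ≤ H) hu
    rw [hfix, Finset.prod_singleton, fixedValue_mk (π.comp φ) (g := 1) (by simpa using y.2)] at htr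
    refine Eq.trans ?_ htr.symm
    show π (φ y) = π (φ _)
    congr 2
    ext
    simp
  · -- a moved orbit
    have hK : stabilizer Y q ≠ ⊤ := fun ht => hq fun u => ((eq_top_iff' _).1 ht u)
    obtain ⟨M₀, hM₀n, hM₀i, hM₀q⟩ := PGroupsBasic.exists_normal_index_eq hYp hK
    set M := M₀.map Y.subtype with hM
    have hMY : M ≤ Y := map_subtype_le _
    have hmemM : ∀ u (hu : u ∈ Y), u ∈ M ↔ (⟨u, hu⟩ : Y) ∈ M₀ := fun u hu =>
      ⟨fun ⟨v, hv, hv'⟩ => by rwa [show (⟨u, hu⟩ : Y) = v from Subtype.ext hv'.symm],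
        fun hu' => ⟨_, hu', rfl⟩⟩
    have hstab : ∀ u ∈ Y, ∀ r ∈ orbit Y q, u • r = r → u ∈ M := by
      rintro u hu _ ⟨v, rfl⟩ hr
      rw [hmemM u hu]
      have h2 : v⁻¹ * ⟨u, hu⟩ * v ∈ M₀ := hM₀q (show (v⁻¹ * ⟨u, hu⟩ * v) • q = q by
        rw [mul_smul, mul_smul]
        show v⁻¹ • (u • (v • q)) = q
        rw [hr, inv_smul_smul])
      have := hM₀n.conj_mem _ h2 v
      simpa [mul_assoc] using this
    have hyY : (y : G) ∈ Y := (le_sup_right : zpowers (y : G) ≤ Y) (mem_zpowers _)
    by_cases hyM : (y : G) ∈ M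
    swap
    · exact Finset.prod_eq_one fun r hr => fixedValue_of_ne _ fun hfix =>
        hyM (hstab _ hyY r (Finset.mem_filter.1 hr).2 hfix)
    obtain ⟨t, htE, htM⟩ : ∃ t ∈ E, t ∉ M := by
      by_contra hc
      push Not at hc
      have hYM : Y ≤ M := sup_le hc (zpowers_le.2 hyM)
      have : M₀ = ⊤ := (eq_top_iff' _).2 fun ⟨u, hu⟩ => (hmemM u hu).1 (hYM hu)
      rw [this, index_top] at hM₀i
      omega
    have htY : t ∈ Y := (le_sup_left : E ≤ Y) htE
    have hcover : ∀ u ∈ Y, u ∈ M ∨ t⁻¹ * u ∈ M := by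
      intro u hu
      rw [hmemM u hu, hmemM _ (Y.mul_mem (Y.inv_mem htY) hu)]
      have h2 := mul_mem_iff_of_index_two hM₀i (a := (⟨t, htY⟩ : Y)⁻¹) (b := ⟨u, hu⟩)
      have h3 : (⟨t, htY⟩ : Y)⁻¹ ∉ M₀ := fun h => htM ((hmemM t htY).2 (by simpa using M₀.inv_mem h))
      by_cases h4 : (⟨u, hu⟩ : Y) ∈ M₀
      · exact Or.inl h4
      · exact Or.inr (h2.2 (iff_of_false h3 h4))
    obtain ⟨hom, hhom⟩ := orbit_prod φ π M q
    have hsplit : Finset.univ.filter (· ∈ orbit Y q) = Finset.univ.filter (· ∈ orbit M q) ∪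
        (Finset.univ.filter (· ∈ orbit M q)).image (fun r => t • r) := by
      ext r
      simp only [Finset.mem_filter, Finset.mem_univ, true_and, Finset.mem_union, Finset.mem_image]
      constructor
      · rintro ⟨⟨u, hu⟩, rfl⟩
        rcases hcover u hu with h2 | h2
        · exact Or.inl ⟨⟨u, h2⟩, rfl⟩
        · refine Or.inr ⟨_, ⟨⟨_, h2⟩, rfl⟩, ?_⟩
          show t • ((t⁻¹ * u) • q) = u • q
          rw [mul_smul, smul_inv_smul]
      · rintro (⟨⟨u, hu⟩, rfl⟩ | ⟨_, ⟨⟨u, hu⟩, rfl⟩, rfl⟩)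
        · exact ⟨⟨u, hMY hu⟩, rfl⟩
        · refine ⟨⟨t * u, Y.mul_mem htY (hMY hu)⟩, ?_⟩
          show (t * u) • q = t • (u • q)
          rw [mul_smul]
    have hdisj : Disjoint (Finset.univ.filter (· ∈ orbit M q))
        ((Finset.univ.filter (· ∈ orbit M q)).image (fun r => t • r)) := by
      rw [Finset.disjoint_left]
      intro r hr hr'
      simp only [Finset.mem_filter, Finset.mem_univ, true_and, Finset.mem_image] at hr hr'
      obtain ⟨_, ⟨⟨v, hv⟩, rfl⟩, hr'⟩ := hr'
      obtain ⟨⟨u, hu⟩, rfl⟩ := hr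
      apply htM
      have h2 : u⁻¹ * t * v ∈ M := hstab _
        (Y.mul_mem (Y.mul_mem (Y.inv_mem (hMY hu)) htY) (hMY hv)) q (mem_orbit_self q) (by
          have hr2 : t • (v • q) = u • q := hr'
          rw [mul_smul, mul_smul, hr2, inv_smul_smul])
      have := M.mul_mem (M.mul_mem hu h2) (M.inv_mem hv)
      simpa [mul_assoc] using this
    rw [hsplit, Finset.prod_union hdisj, Finset.prod_image (fun a _ b _ hab => MulAction.injective t hab)]
    set y' := t⁻¹ * y * t with hy'
    have hy'M : y' ∈ M := by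
      rw [hmemM _ (Y.mul_mem (Y.mul_mem (Y.inv_mem htY) hyY) htY)]
      have := hM₀n.conj_mem _ ((hmemM _ hyY).1 hyM) (⟨t, htY⟩ : Y)⁻¹
      rw [inv_inv] at this
      exact this
    have hord' : orderOf y' = orderOf (y : G) := by
      rw [← orderOf_injective (MulAut.conj t⁻¹).toMonoidHom (MulAut.conj t⁻¹).injective (y : G)]
      simp [hy']
    have hval : ∀ r, fixedValue (π.comp φ) (y : G) (t • r) = fixedValue (π.comp φ) y' r := by
      intro r
      induction r using QuotientGroup.induction_on with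
      | _ g =>
      change fixedValue (π.comp φ) (y : G) ((t * g : G) : G ⧸ H) = _
      have e1 : (t * g)⁻¹ * (y : G) * (t * g) = g⁻¹ * y' * g := by rw [hy']; group
      by_cases hg : g⁻¹ * y' * g ∈ H
      · rw [fixedValue_mk _ hg, fixedValue_mk _ (e1.symm ▸ hg)]
        congr 1
        exact Subtype.ext e1
      · have aux : ∀ (x a : G), a⁻¹ * x * a ∉ H → fixedValue (π.comp φ) x ((a : G) : G ⧸ H) = 1 :=
          fun x a ha => fixedValue_of_ne _ fun hq' => ha (by
            have h2 := QuotientGroup.eq.mp (hq' : ((x * a : G) : G ⧸ H) = _).symm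
            simpa [mul_assoc] using h2)
        rw [aux _ _ hg, aux _ _ (e1.symm ▸ hg)]
    rw [Finset.prod_congr rfl fun r _ => hval r,
      hhom ⟨y, hyM⟩ ⟨e, hord⟩ (hmin _ rfl), hhom ⟨y', hy'M⟩ ⟨e, hord'.trans hord⟩ (hmin _ hord')]
    -- `y' = y c` with `c ∈ E ∩ M`
    set c := (y : G)⁻¹ * y' with hc
    have hcE : c ∈ E := by
      have : c = ((y : G)⁻¹ * t⁻¹ * y) * t := by rw [hc, hy']; group
      rw [this]
      exact E.mul_mem (hy2' _ (E.inv_mem htE)) htE
    have hcM : c ∈ M := M.mul_mem (M.inv_mem hyM) hy'M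
    have hhc : π (hom ⟨c, hcM⟩) = 1 := by
      refine kill_inter h hnorm hbig hcore hno hB hH φ M q htE htM
        (fun x hx => hcover x ((le_sup_left : E ≤ Y) hx)) ?_ hom ?_ c hcE hcM
      · intro g hg e1
        apply hq
        intro u
        have hgH : g ∈ H := by
          rw [hH, mem_centralizer_singleton_iff]; exact mul_inv_eq_iff_eq_mul.mp e1
        obtain ⟨⟨v, hv⟩, hv'⟩ := hg
        have hb : ((g : G) : G ⧸ H) = ((1 : G) : G ⧸ H) := QuotientGroup.eq.mpr (by simpa using H.inv_mem hgH)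
        have hYH : Y ≤ H := sup_le hEH (zpowers_le.2 y.2)
        have hbase : ∀ s ∈ Y, s • ((1 : G) : G ⧸ H) = ((1 : G) : G ⧸ H) := fun s hs =>
          smul_eq_of_mem (by simpa using hYH hs)
        have h1 : q = ((1 : G) : G ⧸ H) := by
          have hv2 : v • q = ((1 : G) : G ⧸ H) := hv'.trans hb
          rw [← inv_smul_smul v q, hv2, hbase _ (Y.inv_mem (hMY hv))]
        show (u : G) • q = q
        rw [h1]; exact hbase u u.2
      · intro c' hc'
        rcases eq_or_ne (c' : G) 1 with e1 | e1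
        · refine hhom c' ⟨0, by rw [e1, orderOf_one, pow_zero]⟩ ?_
          intro w hw _
          rw [e1, orderOf_one] at hw
          exact absurd (orderOf_pos (w : G)) (by omega)
        · refine hhom c' ⟨1, by rw [pow_one]; exact orderOf_eq_prime (by rw [pow_two]; exact hc') e1⟩ ?_
          intro w hw _
          rw [orderOf_eq_prime (p := 2) (by rw [pow_two]; exact hc') e1] at hw
          have h1w : orderOf (w : G) = 1 := by have := orderOf_pos (w : G); omega
          rw [show w = 1 from Subtype.ext (orderOf_eq_one_iff.1 h1w), map_one, map_one]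
    rw [show (⟨y', hy'M⟩ : M) = ⟨y, hyM⟩ * ⟨c, hcM⟩ from Subtype.ext (by simp [hc]), map_mul,
      map_mul, hhc, mul_one, hB]


end Cfsg.Agent.TransferTwo71
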