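import Mathlib

/-!
Every endomorphism of a finite-dimensional vector space is self-adjoint for a nondegenerate
symmetric bilinear form; a matrix is similar to its transpose.
-/

set_option autoImplicit false

open Polynomial

namespace Cfsg.Agent.TransposeSimilar

universe u v

variable {K : Type u} [Field K]

/-- A functional on `K[X]/(f)` whose kernel contains no nonzero ideal. -/
theorem exists_functional (f : K[X]) (hf : f ≠ 0) :
    ∃ φ : (K[X] ⧸ Ideal.span {f}) →ₗ[K] K, ∀ a, (∀ b, φ (a * b) = 0) → a = 0 := by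
  let g : K[X] := f * C f.leadingCoeff⁻¹
  have hg : g.Monic := monic_mul_leadingCoeff_inv hf
  have hspan : Ideal.span {g} = Ideal.span {f} :=
    Ideal.span_singleton_mul_right_unit (isUnit_C.2 (inv_ne_zero (leadingCoeff_ne_zero.2 hf)).isUnit) f
  let ψ : K[X] →ₗ[K] K := (Polynomial.lcoeff K (g.natDegree - 1)).comp (Polynomial.modByMonicHom g)
  have hψ : ∀ x ∈ (Ideal.span {f}).restrictScalars K, ψ x = 0 := by
    intro x hx
    have : g ∣ x := Ideal.mem_span_singleton.1 (hspan ▸ hx)
    simp [ψ, (modByMonic_eq_zero_iff_dvd hg).2 this]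
  refine ⟨(Submodule.liftQ ((Ideal.span {f}).restrictScalars K) ψ hψ).comp
    (Submodule.Quotient.restrictScalarsEquiv K (Ideal.span {f})).symm.toLinearMap, ?_⟩
  intro a ha
  obtain ⟨r, rfl⟩ := Ideal.Quotient.mk_surjective a
  by_contra hne
  have hr : r %ₘ g ≠ 0 := by
    intro h
    apply hne
    rw [Ideal.Quotient.eq_zero_iff_mem, ← hspan, Ideal.mem_span_singleton]
    exact (modByMonic_eq_zero_iff_dvd hg).1 h
  have hd : (r %ₘ g).natDegree < g.natDegree := by
    refine natDegree_modByMonic_lt r hg fun h => hr ?_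
    simp [h]
  have hb := ha (Ideal.Quotient.mk _ (X ^ (g.natDegree - 1 - (r %ₘ g).natDegree)))
  have hb' : ψ (r * X ^ (g.natDegree - 1 - (r %ₘ g).natDegree)) = 0 := by
    rw [← map_mul] at hb
    exact hb
  have hred : (r * X ^ (g.natDegree - 1 - (r %ₘ g).natDegree)) %ₘ g
      = (r %ₘ g) * X ^ (g.natDegree - 1 - (r %ₘ g).natDegree) := by
    apply (div_modByMonic_unique ((r /ₘ g) * X ^ (g.natDegree - 1 - (r %ₘ g).natDegree)) _ hg ⟨?_, ?_⟩).2
    · have h := modByMonic_add_div r g
      linear_combination (X : K[X]) ^ (g.natDegree - 1 - (r %ₘ g).natDegree) * h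
    · rw [degree_eq_natDegree (mul_ne_zero hr (pow_ne_zero _ X_ne_zero)),
        degree_eq_natDegree hg.ne_zero, natDegree_mul hr (pow_ne_zero _ X_ne_zero), natDegree_X_pow,
        Nat.cast_lt]
      omega
  simp only [ψ, LinearMap.comp_apply, Polynomial.modByMonicHom_apply, hred, lcoeff_apply] at hb'
  have hk : g.natDegree - 1 = (r %ₘ g).natDegree + (g.natDegree - 1 - (r %ₘ g).natDegree) := by omega
  rw [hk, show (r %ₘ g).natDegree + (g.natDegree - 1 - (r %ₘ g).natDegree) - (r %ₘ g).natDegree
      = g.natDegree - 1 - (r %ₘ g).natDegree by omega, coeff_mul_X_pow] at hb'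
  exact leadingCoeff_ne_zero.2 hr hb'

/-- Every endomorphism is self-adjoint for a nondegenerate symmetric bilinear form. -/
theorem exists_symm_selfAdjoint {V : Type v} [AddCommGroup V] [Module K V] [FiniteDimensional K V]
    (T : Module.End K V) : ∃ B : V →ₗ[K] V →ₗ[K] K,
      (∀ x y, B x y = B y x) ∧ (∀ x y, B (T x) y = B x (T y)) ∧ ∀ x, (∀ y, B x y = 0) → x = 0 := by
  classical
  obtain ⟨ι, _, p, hp, e, ⟨E⟩⟩ := Module.equiv_directSum_of_isTorsion (R := K[X])
    (M := Module.AEval' T) (Module.AEval.isTorsion_of_finiteDimensional K V T)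
  have hne : ∀ i, p i ^ e i ≠ 0 := fun i => pow_ne_zero _ (hp i).ne_zero
  choose φ hφ using fun i => exists_functional (p i ^ e i) (hne i)
  let Q := fun i => K[X] ⧸ Ideal.span {p i ^ e i}
  let P : V → ∀ i, Q i := fun v i => E (Module.AEval'.of T v) i
  have hadd : ∀ v w i, P (v + w) i = P v i + P w i := by
    intro v w i; simp [P]
  have hsmul : ∀ (c : K) v i, P (c • v) i = c • P v i := by
    intro c v i
    simp only [P, map_smul]
    rw [← algebraMap_smul K[X] c (Module.AEval'.of T v), map_smul, DirectSum.smul_apply,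
      algebraMap_smul]
  have hX : ∀ v i, P (T v) i = Ideal.Quotient.mk _ X * P v i := by
    intro v i
    simp only [P]
    rw [← Module.AEval'.X_smul_of, map_smul, DirectSum.smul_apply]
    obtain ⟨r, hr⟩ := Ideal.Quotient.mk_surjective (E (Module.AEval'.of T v) i : Q i)
    show X • (E (Module.AEval'.of T v) i : Q i) = _
    rw [← hr]
    rfl
  let B : V →ₗ[K] V →ₗ[K] K := LinearMap.mk₂ K (fun v w => ∑ i, φ i (P v i * P w i))
    (fun a b w => by simp only [hadd, add_mul, map_add, Finset.sum_add_distrib])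
    (fun c a w => by simp only [hsmul, smul_mul_assoc, map_smul, Finset.smul_sum])
    (fun a b w => by simp only [hadd, mul_add, map_add, Finset.sum_add_distrib])
    (fun c a w => by simp only [hsmul, mul_smul_comm, map_smul, Finset.smul_sum])
  have hB : ∀ v w, B v w = ∑ i, φ i (P v i * P w i) := fun v w => rfl
  refine ⟨B, ?_, ?_, ?_⟩
  · intro x y
    rw [hB, hB]
    exact Finset.sum_congr rfl fun i _ => by rw [mul_comm]
  · intro x y
    rw [hB, hB]
    exact Finset.sum_congr rfl fun i _ => by rw [hX, hX, mul_left_comm, mul_assoc]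
  · intro x hx
    suffices h : ∀ i, P x i = 0 by
      apply (Module.AEval'.of T).injective
      apply E.injective
      rw [map_zero, map_zero]
      exact DFinsupp.ext fun i => h i
    intro i
    refine hφ i _ fun b => ?_
    let y : V := (Module.AEval'.of T).symm (E.symm (DirectSum.of (fun i => K[X] ⧸ K[X] ∙ p i ^ e i) i b))
    have hy : ∀ j, P y j = DirectSum.of (fun i => K[X] ⧸ K[X] ∙ p i ^ e i) i b j := by
      intro j
      simp only [P, y, LinearEquiv.apply_symm_apply]
    have h := hx y
    rw [hB, Finset.sum_eq_single i] at h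
    · rw [hy, DirectSum.of_eq_same] at h
      exact h
    · intro j _ hj
      rw [hy, DirectSum.of_eq_of_ne _ _ _ hj]
      rw [show P x j * (0 : Q j) = 0 from mul_zero _, map_zero]
    · simp

/-- A square matrix over a field is similar to its transpose. -/
theorem isConj_transpose {ι : Type*} [Fintype ι] [DecidableEq ι] (A : Matrix ι ι K) :
    IsConj A A.transpose := by
  obtain ⟨B, -, hadj, hnd⟩ := exists_symm_selfAdjoint (Matrix.toLin' A)
  let S : Matrix ι ι K := LinearMap.toMatrix₂' K B
  have hS : ∀ x y, B x y = dotProduct x (S.mulVec y) := by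
    intro x y
    rw [← Matrix.toLinearMap₂'_apply']
    simp [S]
  have hdet : S.det ≠ 0 := by
    intro h
    rw [← Matrix.det_transpose] at h
    obtain ⟨v, hv, hv0⟩ := Matrix.exists_mulVec_eq_zero_iff.2 h
    refine hv (hnd v fun y => ?_)
    rw [hS, Matrix.dotProduct_mulVec, ← Matrix.mulVec_transpose, hv0, zero_dotProduct]
  have hcomm : S * A = A.transpose * S := by
    ext i j
    have h := hadj (Pi.single i 1) (Pi.single j 1)
    rw [hS, hS, Matrix.toLin'_apply, Matrix.toLin'_apply, Matrix.mulVec_mulVec] at h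
    rw [← Matrix.vecMul_transpose, ← Matrix.dotProduct_mulVec, Matrix.mulVec_mulVec] at h
    simpa using h.symm
  exact ⟨Matrix.GeneralLinearGroup.mkOfDetNeZero S hdet, hcomm⟩

end Cfsg.Agent.TransposeSimilar
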