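import Mathlib

/-!
Normal form of a transvection and its centraliser.
-/

set_option autoImplicit false

open Matrix

namespace Cfsg.Agent.TransvectionForm

variable {F : Type*} [Field F]

/-- The matrix unit `E₀₁` on `Fin 2 ⊕ Fin k`. -/
def std (F : Type*) [Field F] (k : ℕ) : Matrix (Fin 2 ⊕ Fin k) (Fin 2 ⊕ Fin k) F :=
  Matrix.of fun i j => if i = Sum.inl 0 ∧ j = Sum.inl 1 then 1 else 0

theorem std_mulVec {k : ℕ} (v : Fin 2 ⊕ Fin k → F) :
    std F k *ᵥ v = Pi.single (Sum.inl 0) (v (Sum.inl 1)) := by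
  funext i
  by_cases hi : i = Sum.inl 0
  · subst hi
    simp [std, Matrix.mulVec, dotProduct]
  · simp [std, Matrix.mulVec, dotProduct, hi]

theorem exists_normal_form {k : ℕ} (M : Matrix (Fin (2 + k)) (Fin (2 + k)) F) (hr : M.rank = 1)
    (hM : M * M = 0) :
    ∃ P : Matrix (Fin (2 + k)) (Fin (2 + k)) F, IsUnit P ∧
      M * P = P * Matrix.reindex finSumFinEquiv finSumFinEquiv (std F k) := by
  classical
  obtain ⟨⟨a, ha⟩, ha0, hall⟩ := finrank_eq_one_iff'.1 (show Module.finrank F (LinearMap.range M.mulVecLin) = 1 from hr)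
  have ha' : a ≠ 0 := fun h => ha0 (Subtype.ext h)
  choose f hf using fun v : Fin (2 + k) → F => hall ⟨M *ᵥ v, ⟨v, rfl⟩⟩
  have hf' : ∀ v, M *ᵥ v = f v • a := fun v => (congrArg Subtype.val (hf v)).symm
  let fl : (Fin (2 + k) → F) →ₗ[F] F :=
    { toFun := f
      map_add' := fun u v => smul_left_injective F ha' (by
        show f (u + v) • a = (f u + f v) • a
        rw [add_smul, ← hf', ← hf', ← hf', Matrix.mulVec_add])
      map_smul' := fun c v => smul_left_injective F ha' (by
        show f (c • v) • a = (c • f v) • a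
        rw [smul_assoc, ← hf', ← hf', Matrix.mulVec_smul]) }
  have hfl : ∀ v, M *ᵥ v = fl v • a := hf'
  obtain ⟨x, hx⟩ : ∃ x, fl x ≠ 0 := by
    obtain ⟨x, hx⟩ := ha
    refine ⟨x, fun h => ha' ?_⟩
    rw [← hx, Matrix.mulVecLin_apply, hfl, h, zero_smul]
  have hfa : fl a = 0 := by
    obtain ⟨y, hy⟩ := ha
    have h : M *ᵥ a = 0 := by
      conv_lhs => rw [← hy, Matrix.mulVecLin_apply, Matrix.mulVec_mulVec, hM, Matrix.zero_mulVec]
    rw [hfl] at h
    exact (smul_eq_zero.1 h).resolve_right ha'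
  let w := (fl x)⁻¹ • x
  have hw : fl w = 1 := by rw [map_smul, smul_eq_mul, inv_mul_cancel₀ hx]
  have hind : LinearIndependent F ![a, w] := by
    rw [LinearIndependent.pair_iff]
    intro s t h
    have h' := congrArg fl h
    rw [map_add, map_smul, map_smul, hfa, hw, map_zero, smul_eq_mul, smul_eq_mul, mul_zero, zero_add, mul_one] at h'
    rw [h', zero_smul, add_zero] at h
    exact ⟨(smul_eq_zero.1 h).resolve_right ha', h'⟩
  let S : Submodule F (Fin (2 + k) → F) := Submodule.span F (Set.range ![a, w])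
  have hS : Module.finrank F S = 2 := by
    show Module.finrank F (Submodule.span F (Set.range ![a, w])) = 2
    rw [finrank_span_eq_card hind, Fintype.card_fin]
  obtain ⟨C, hC⟩ := S.exists_isCompl
  have hCk : Module.finrank F C = k := by
    have h := Submodule.finrank_add_eq_of_isCompl hC
    rw [hS, Module.finrank_fin_fun] at h
    omega
  let c := Module.finBasisOfFinrankEq F C hCk
  let col : Fin 2 ⊕ Fin k → (Fin (2 + k) → F) :=
    Sum.elim ![a, w] (fun i => (c i : Fin (2 + k) → F) - fl (c i) • w)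
  let P : Matrix (Fin (2 + k)) (Fin (2 + k)) F := Matrix.of fun r j => col (finSumFinEquiv.symm j) r
  have hP : ∀ v, P *ᵥ v = ∑ s : Fin 2 ⊕ Fin k, v (finSumFinEquiv s) • col s := by
    intro v
    funext r
    rw [Finset.sum_apply, Matrix.mulVec, dotProduct]
    refine (Fintype.sum_equiv finSumFinEquiv _ _ fun s => ?_).symm
    simp [P, mul_comm]
  refine ⟨P, ?_, ?_⟩
  · rw [← Matrix.mulVec_injective_iff_isUnit]
    suffices h : ∀ v, P *ᵥ v = 0 → v = 0 by
      intro u v huv
      have h' := h (u - v) (by rw [Matrix.mulVec_sub, sub_eq_zero]; exact huv)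
      exact sub_eq_zero.1 h'
    intro v hv
    rw [hP, Fintype.sum_sum_type, Fin.sum_univ_two] at hv
    simp only [col, Sum.elim_inl, Sum.elim_inr, Matrix.cons_val_zero, Matrix.cons_val_one] at hv
    have h1 : v (finSumFinEquiv (Sum.inl 1)) = 0 := by
      have h' := congrArg fl hv
      simp only [map_add, map_smul, map_sum, map_sub, map_zero, hfa, hw, smul_eq_mul, mul_zero, mul_one,
        sub_self, Finset.sum_const_zero, zero_add, add_zero] at h'
      exact h'
    rw [h1, zero_smul, add_zero] at hv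
    simp only [smul_sub, Finset.sum_sub_distrib] at hv
    have hcS : (∑ i, v (finSumFinEquiv (Sum.inr i)) • (c i : Fin (2 + k) → F)) ∈ S := by
      have : (∑ i, v (finSumFinEquiv (Sum.inr i)) • (c i : Fin (2 + k) → F))
          = (∑ i, v (finSumFinEquiv (Sum.inr i)) • fl (c i) • w) - v (finSumFinEquiv (Sum.inl 0)) • a := by
        rw [← sub_eq_zero, ← hv]; abel
      rw [this]
      refine S.sub_mem (S.sum_mem fun i _ => S.smul_mem _ (S.smul_mem _ ?_)) (S.smul_mem _ ?_)
      · exact Submodule.subset_span ⟨1, rfl⟩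
      · exact Submodule.subset_span ⟨0, rfl⟩
    have hsum : ∑ i, v (finSumFinEquiv (Sum.inr i)) • c i = 0 := by
      refine Subtype.ext ?_
      have := Submodule.disjoint_def.1 hC.disjoint _ hcS (C.sum_mem fun i _ => C.smul_mem _ (c i).2)
      simpa using this
    have hr' : ∀ i, v (finSumFinEquiv (Sum.inr i)) = 0 :=
      Fintype.linearIndependent_iff.1 c.linearIndependent _ hsum
    simp only [hr', zero_smul, Finset.sum_const_zero, sub_zero, add_zero] at hv
    have h0 := (smul_eq_zero.1 hv).resolve_right ha'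
    funext j
    obtain ⟨s, rfl⟩ := finSumFinEquiv.surjective j
    rcases s with s | s
    · fin_cases s
      · exact h0
      · exact h1
    · exact hr' s
  · refine Matrix.ext_of_mulVec_single fun j => ?_
    obtain ⟨s, rfl⟩ := finSumFinEquiv.surjective j
    rw [← Matrix.mulVec_mulVec, ← Matrix.mulVec_mulVec]
    have hsingle : P *ᵥ (Pi.single (finSumFinEquiv s) (1 : F)) = col s := by
      funext r; simp [P]
    have hre : Matrix.reindex finSumFinEquiv finSumFinEquiv (std F k) *ᵥ Pi.single (finSumFinEquiv s) (1 : F)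
        = if s = Sum.inl 1 then Pi.single (finSumFinEquiv (Sum.inl 0)) 1 else 0 := by
      funext r
      obtain ⟨t, rfl⟩ := finSumFinEquiv.surjective r
      by_cases hs : s = Sum.inl 1 <;> by_cases ht : t = Sum.inl 0 <;>
        simp [std, hs, ht, Pi.single_apply, finSumFinEquiv.injective.eq_iff, -finSumFinEquiv_apply_left]
    rw [hsingle, hfl, hre]
    rcases s with s | s
    · fin_cases s
      · show fl a • a = _
        rw [hfa, zero_smul, if_neg (by simp), Matrix.mulVec_zero]
      · show fl w • a = _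
        rw [hw, one_smul, if_pos (by rfl)]
        have : P *ᵥ Pi.single (finSumFinEquiv (Sum.inl (0 : Fin 2) : Fin 2 ⊕ Fin k)) (1 : F) = a := by
          funext r
          simp [P, col, -finSumFinEquiv_apply_left]
        exact this.symm
    · show fl ((c s : Fin (2 + k) → F) - fl (c s) • w) • a = _
      rw [map_sub, map_smul, hw, smul_eq_mul, mul_one, sub_self, zero_smul, if_neg (by simp), Matrix.mulVec_zero]

/-- The matrices commuting with `E₀₁`. -/
def centMat {k : ℕ} (p : (F × F) × ((Fin k → F) × (Fin k → F)) × Matrix (Fin k) (Fin k) F) :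
    Matrix (Fin 2 ⊕ Fin k) (Fin 2 ⊕ Fin k) F :=
  Matrix.fromBlocks !![p.1.1, p.1.2; 0, p.1.1] (Matrix.of ![p.2.1.1, 0])
    (Matrix.of fun i => ![0, p.2.1.2 i]) p.2.2

theorem centMat_mulVec {k : ℕ} (p : (F × F) × ((Fin k → F) × (Fin k → F)) × Matrix (Fin k) (Fin k) F)
    (v : Fin 2 ⊕ Fin k → F) :
    (centMat p *ᵥ v) (Sum.inl 0) = p.1.1 * v (Sum.inl 0) + p.1.2 * v (Sum.inl 1) + p.2.1.1 ⬝ᵥ (fun i => v (Sum.inr i)) ∧
    (centMat p *ᵥ v) (Sum.inl 1) = p.1.1 * v (Sum.inl 1) ∧
    ∀ i, (centMat p *ᵥ v) (Sum.inr i) = p.2.1.2 i * v (Sum.inl 1) + (p.2.2 *ᵥ fun i => v (Sum.inr i)) i := by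
  refine ⟨?_, ?_, fun i => ?_⟩ <;>
    simp [centMat, Matrix.fromBlocks, Matrix.mulVec, dotProduct, Fintype.sum_sum_type, Fin.sum_univ_two]

theorem isUnit_centMat_iff {k : ℕ} (p : (F × F) × ((Fin k → F) × (Fin k → F)) × Matrix (Fin k) (Fin k) F) :
    IsUnit (centMat p) ↔ p.1.1 ≠ 0 ∧ IsUnit p.2.2 := by
  have hiff : ∀ {ι : Type} [Fintype ι] [DecidableEq ι] (A : Matrix ι ι F),
      IsUnit A ↔ ∀ v, A *ᵥ v = 0 → v = 0 := by
    intro ι _ _ A
    rw [← Matrix.mulVec_injective_iff_isUnit]
    constructor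
    · intro h v hv
      exact h (hv.trans (Matrix.mulVec_zero A).symm)
    · intro h u v huv
      exact sub_eq_zero.1 (h (u - v) (by rw [Matrix.mulVec_sub, sub_eq_zero]; exact huv))
  rw [hiff, hiff]
  constructor
  · intro h
    have hl : p.1.1 ≠ 0 := by
      intro hl
      have := congrFun (h (Pi.single (Sum.inl 0) 1) (by
        funext i
        obtain ⟨h0, h1, h2⟩ := centMat_mulVec p (Pi.single (Sum.inl 0) 1)
        rcases i with i | i
        · fin_cases i
          · exact h0.trans (by simp [hl, dotProduct])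
          · exact h1.trans (by simp)
        · exact (h2 i).trans (by simp [Matrix.mulVec, dotProduct]))) (Sum.inl 0)
      simp at this
    refine ⟨hl, fun x hx => ?_⟩
    let v : Fin 2 ⊕ Fin k → F := Sum.elim ![-(p.2.1.1 ⬝ᵥ x) / p.1.1, 0] x
    obtain ⟨h0, h1, h2⟩ := centMat_mulVec p v
    have hv := h v (by
      funext i
      rcases i with i | i
      · fin_cases i
        · refine h0.trans ?_
          simp [v]
          field_simp
          ring
        · exact h1.trans (by simp [v])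
      · refine (h2 i).trans ?_
        simp [v, hx])
    funext i
    exact congrFun hv (Sum.inr i)
  · rintro ⟨hl, hD⟩ v hv
    obtain ⟨h0, h1, h2⟩ := centMat_mulVec p v
    rw [hv] at h0 h1 h2
    simp only [Pi.zero_apply] at h0 h1 h2
    have hv1 : v (Sum.inl 1) = 0 := (mul_eq_zero.1 h1.symm).resolve_left hl
    have hvr : (fun i => v (Sum.inr i)) = 0 := hD _ (funext fun i => by
      have := h2 i
      rw [hv1, mul_zero, zero_add] at this
      exact this.symm)
    have hv0 : v (Sum.inl 0) = 0 := by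
      rw [hv1, hvr, dotProduct_zero, mul_zero, add_zero, add_zero] at h0
      exact (mul_eq_zero.1 h0.symm).resolve_left hl
    funext i
    rcases i with i | i
    · fin_cases i
      · exact hv0
      · exact hv1
    · exact congrFun hvr i

theorem commute_centMat {k : ℕ} (p : (F × F) × ((Fin k → F) × (Fin k → F)) × Matrix (Fin k) (Fin k) F) :
    std F k * centMat p = centMat p * std F k := by
  refine Matrix.ext_of_mulVec_single fun j => ?_
  rw [← Matrix.mulVec_mulVec, ← Matrix.mulVec_mulVec, std_mulVec, std_mulVec]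
  funext i
  obtain ⟨h0, h1, h2⟩ := centMat_mulVec p (Pi.single (Sum.inl 0) ((Pi.single j (1 : F) : Fin 2 ⊕ Fin k → F) (Sum.inl 1)))
  obtain ⟨-, h1', -⟩ := centMat_mulVec p (Pi.single j (1 : F))
  rcases i with i | i
  · fin_cases i
    · refine Eq.trans ?_ h0.symm
      simp [h1', dotProduct]
    · refine Eq.trans ?_ h1.symm
      simp
  · refine Eq.trans ?_ (h2 i).symm
    simp [Matrix.mulVec, dotProduct]

theorem eq_centMat_of_commute {k : ℕ} (X : Matrix (Fin 2 ⊕ Fin k) (Fin 2 ⊕ Fin k) F)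
    (h : std F k * X = X * std F k) :
    X = centMat ((X (.inl 0) (.inl 0), X (.inl 0) (.inl 1)),
      (fun i => X (.inl 0) (.inr i), fun i => X (.inr i) (.inl 1)), Matrix.of fun i j => X (.inr i) (.inr j)) := by
  have hh : ∀ i j, (std F k *ᵥ (fun l => X l j)) i = (X *ᵥ (fun l => std F k l j)) i :=
    fun i j => congrFun (congrFun h i) j
  have h10 : X (.inl 1) (.inl 0) = 0 := by
    have := hh (.inl 0) (.inl 0)
    simpa [std, Matrix.mulVec, dotProduct] using this
  have h11 : X (.inl 1) (.inl 1) = X (.inl 0) (.inl 0) := by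
    have := hh (.inl 0) (.inl 1)
    simpa [std, Matrix.mulVec, dotProduct] using this
  have h1r : ∀ i, X (.inl 1) (.inr i) = 0 := fun i => by
    have := hh (.inl 0) (.inr i)
    simpa [std, Matrix.mulVec, dotProduct] using this
  have hr0 : ∀ i, X (.inr i) (.inl 0) = 0 := fun i => by
    have := hh (.inr i) (.inl 1)
    simpa [std, Matrix.mulVec, dotProduct] using this.symm
  ext i j
  rcases i with i | i <;> rcases j with j | j
  · fin_cases i <;> fin_cases j <;> simp [centMat, h10, h11]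
  · fin_cases i <;> simp [centMat, h1r]
  · fin_cases j <;> simp [centMat, hr0]
  · simp [centMat]

/-- Order of the centraliser of `E₀₁`. -/
theorem card_cent [Fintype F] (k : ℕ) :
    Nat.card {g : GL (Fin 2 ⊕ Fin k) F // std F k * (g : Matrix (Fin 2 ⊕ Fin k) (Fin 2 ⊕ Fin k) F) = (g : Matrix _ _ F) * std F k}
      = Fintype.card F ^ (2 * k + 1) * (Fintype.card F - 1) * ∏ i : Fin k, (Fintype.card F ^ k - Fintype.card F ^ (i : ℕ)) := by
  classical
  let T := ({x : F // x ≠ 0} × F) × ((Fin k → F) × (Fin k → F)) × GL (Fin k) F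
  let u : T → (F × F) × ((Fin k → F) × (Fin k → F)) × Matrix (Fin k) (Fin k) F := fun t =>
    ((t.1.1.1, t.1.2), t.2.1, t.2.2.1)
  let f : T → {g : GL (Fin 2 ⊕ Fin k) F // std F k * (g : Matrix (Fin 2 ⊕ Fin k) (Fin 2 ⊕ Fin k) F) = (g : Matrix _ _ F) * std F k} :=
    fun t => ⟨((isUnit_centMat_iff (u t)).2 ⟨t.1.1.2, t.2.2.isUnit⟩).unit, commute_centMat (u t)⟩
  have hf : Function.Bijective f := by
    constructor
    · rintro ⟨⟨⟨a, ha⟩, b⟩, ⟨r, c⟩, D⟩ ⟨⟨⟨a', ha'⟩, b'⟩, ⟨r', c'⟩, D'⟩ h
      have h' : centMat (u ⟨⟨⟨a, ha⟩, b⟩, ⟨r, c⟩, D⟩) = centMat (u ⟨⟨⟨a', ha'⟩, b'⟩, ⟨r', c'⟩, D'⟩) :=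
        congrArg (fun g : {g : GL (Fin 2 ⊕ Fin k) F // std F k * (g : Matrix (Fin 2 ⊕ Fin k) (Fin 2 ⊕ Fin k) F) = (g : Matrix _ _ F) * std F k} => (g.1.1)) h
      simp only [centMat, u, Matrix.fromBlocks_inj] at h'
      obtain ⟨h1, h2, h3, h4⟩ := h'
      have e1 := congrFun (congrFun h1 0) 0
      have e2 := congrFun (congrFun h1 0) 1
      simp at e1 e2
      have e3 : r = r' := funext fun i => congrFun (congrFun h2 0) i
      have e4 : c = c' := funext fun i => congrFun (congrFun h3 i) 1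
      subst e1 e2 e3 e4
      rw [Units.ext h4]
    · rintro ⟨g, hg⟩
      have hX := eq_centMat_of_commute _ hg
      have hu := (isUnit_centMat_iff _).1 (hX ▸ g.isUnit)
      exact ⟨⟨⟨⟨_, hu.1⟩, _⟩, ⟨_, _⟩, hu.2.unit⟩, Subtype.ext (Units.ext hX.symm)⟩
  rw [← Nat.card_congr (Equiv.ofBijective f hf)]
  simp only [T, Nat.card_prod, Nat.card_fun, Matrix.card_GL_field]
  simp only [Nat.card_eq_fintype_card, Fintype.card_fin, Fintype.card_subtype_compl, Fintype.card_subtype_eq]
  ring

end Cfsg.Agent.TransvectionForm
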