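import Mathlib
import Cfsg.Prelude.Def_RootSubgroups
import Cfsg.Agent.Lib.PSLSimple
import Cfsg.Agent.Lib.RankOne
import Cfsg.Agent.Lib.RootSub
import Cfsg.Agent.Lib.RootSubConn
import Cfsg.Agent.Lib.SymplecticRootGroups

/-!
The transvection groups of a point and hyperplane pair of SL as abstract root subgroups.
-/

set_option autoImplicit false

open Matrix

namespace Cfsg.Agent.TransvectionRootGroups10

open Cfsg

variable {k : Type*} [Field k] {ι : Type*} [DecidableEq ι] [Fintype ι]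

theorem sl_ext {a b : SpecialLinearGroup ι k} (h : (a : Matrix ι ι k) = b) : a = b := Subtype.ext h

theorem val_mul (a b : SpecialLinearGroup ι k) :
    ((a * b : SpecialLinearGroup ι k) : Matrix ι ι k) = (a : Matrix ι ι k) * (b : Matrix ι ι k) := rfl

theorem val_one : ((1 : SpecialLinearGroup ι k) : Matrix ι ι k) = 1 := rfl

/-- The transvection `x ↦ x + c (φ·x) v`. -/
def tv (v φ : ι → k) (h : φ ⬝ᵥ v = 0) (c : k) : SpecialLinearGroup ι k :=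
  ⟨1 + c • vecMulVec v φ, by
    rw [show c • vecMulVec v φ = replicateCol (Fin 1) (c • v) * replicateRow (Fin 1) φ from by
      ext i j; simp [vecMulVec, mul_apply]; ring]
    rw [det_one_add_mul_comm]; simp [replicateCol, replicateRow, mul_apply]
    simpa [dotProduct, Finset.mul_sum, mul_comm, mul_left_comm] using congrArg (c * ·) h⟩

theorem coe_tv (v φ : ι → k) (h : φ ⬝ᵥ v = 0) (c : k) :
    (tv v φ h c : Matrix ι ι k) = 1 + c • vecMulVec v φ := rfl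

theorem vv_mul (v φ w ψ : ι → k) :
    vecMulVec v φ * vecMulVec w ψ = (φ ⬝ᵥ w) • vecMulVec v ψ := by
  ext i j
  simp [vecMulVec, mul_apply, dotProduct, Finset.sum_mul]
  exact Finset.sum_congr rfl fun x _ => by ring

theorem tv_add (v φ : ι → k) (h : φ ⬝ᵥ v = 0) (c d : k) :
    tv v φ h c * tv v φ h d = tv v φ h (c + d) := by
  refine sl_ext ?_
  rw [val_mul, coe_tv, coe_tv, coe_tv]
  simp only [mul_add, add_mul, one_mul, mul_one, smul_mul_assoc, mul_smul_comm, vv_mul, h,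
    zero_smul, smul_zero]
  module

theorem tv_zero (v φ : ι → k) (h : φ ⬝ᵥ v = 0) : tv v φ h 0 = 1 :=
  sl_ext (by rw [coe_tv, zero_smul, add_zero, val_one])

theorem tv_neg (v φ : ι → k) (h : φ ⬝ᵥ v = 0) (c : k) : tv v φ h (-c) = (tv v φ h c)⁻¹ := by
  rw [eq_inv_iff_mul_eq_one, tv_add, neg_add_cancel, tv_zero]

/-- The transvection group of a point and hyperplane pair. -/
def tGrp (v φ : ι → k) (h : φ ⬝ᵥ v = 0) : Subgroup (SpecialLinearGroup ι k) where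
  carrier := Set.range (tv v φ h)
  one_mem' := ⟨0, tv_zero v φ h⟩
  mul_mem' := by rintro _ _ ⟨c, rfl⟩ ⟨d, rfl⟩; exact ⟨c + d, (tv_add v φ h c d).symm⟩
  inv_mem' := by rintro _ ⟨c, rfl⟩; exact ⟨-c, tv_neg v φ h c⟩

theorem mem_tGrp {v φ : ι → k} {h : φ ⬝ᵥ v = 0} {g : SpecialLinearGroup ι k} :
    g ∈ tGrp v φ h ↔ ∃ c, tv v φ h c = g := Iff.rfl

theorem vv_ne_zero {v φ : ι → k} (hv : v ≠ 0) (hφ : φ ≠ 0) : vecMulVec v φ ≠ 0 := by
  obtain ⟨i, hi⟩ := Function.ne_iff.1 hv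
  obtain ⟨j, hj⟩ := Function.ne_iff.1 hφ
  exact fun e => mul_ne_zero hi hj (congrFun (congrFun e i) j)

theorem tv_ne_one {v φ : ι → k} (hv : v ≠ 0) (hφ : φ ≠ 0) (h : φ ⬝ᵥ v = 0) {c : k} (hc : c ≠ 0) :
    tv v φ h c ≠ 1 := by
  intro e
  have := congrArg (fun x : SpecialLinearGroup ι k => (x : Matrix ι ι k)) e
  rw [coe_tv, val_one, add_eq_left, smul_eq_zero] at this
  exact this.elim hc (vv_ne_zero hv hφ)

theorem tGrp_ne_bot {v φ : ι → k} (hv : v ≠ 0) (hφ : φ ≠ 0) (h : φ ⬝ᵥ v = 0) :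
    tGrp v φ h ≠ ⊥ := fun e =>
  tv_ne_one hv hφ h one_ne_zero (Subgroup.mem_bot.1 (e ▸ mem_tGrp.2 ⟨1, rfl⟩))

theorem tGrp_comm (v φ : ι → k) (h : φ ⬝ᵥ v = 0) : IsMulCommutative (tGrp v φ h) := by
  refine ⟨⟨fun ⟨a, ha⟩ ⟨b, hb⟩ => Subtype.ext ?_⟩⟩
  obtain ⟨c, rfl⟩ := mem_tGrp.1 ha
  obtain ⟨d, rfl⟩ := mem_tGrp.1 hb
  show tv v φ h c * tv v φ h d = tv v φ h d * tv v φ h c
  rw [tv_add, tv_add, add_comm]

theorem tGrp_scale {v φ v' φ' : ι → k} (h : φ ⬝ᵥ v = 0) (h' : φ' ⬝ᵥ v' = 0) {a b : k}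
    (ha : a ≠ 0) (hb : b ≠ 0) (e1 : v' = a • v) (e2 : φ' = b • φ) :
    tGrp v' φ' h' = tGrp v φ h := by
  subst e1; subst e2
  have key : ∀ c, tv (a • v) (b • φ) h' c = tv v φ h (c * (a * b)) := by
    intro c
    refine sl_ext ?_
    simp only [coe_tv]
    ext i j; simp [vecMulVec]; ring
  ext g
  simp only [mem_tGrp]
  exact ⟨fun ⟨c, hc⟩ => ⟨_, by rw [← key, hc]⟩, fun ⟨c, hc⟩ => ⟨c / (a * b), by
    rw [key, div_mul_cancel₀ _ (mul_ne_zero ha hb), hc]⟩⟩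

theorem conj_perp (g : SpecialLinearGroup ι k) {v φ : ι → k} (h : φ ⬝ᵥ v = 0) :
    (φ ᵥ* ((g⁻¹ : SpecialLinearGroup ι k) : Matrix ι ι k)) ⬝ᵥ ((g : Matrix ι ι k) *ᵥ v) = 0 := by
  rw [← dotProduct_mulVec, mulVec_mulVec, ← val_mul, inv_mul_cancel,
    val_one, one_mulVec, h]

theorem conjBy_tGrp (g : SpecialLinearGroup ι k) {v φ : ι → k} (h : φ ⬝ᵥ v = 0) :
    conjBy (tGrp v φ h) g = tGrp ((g : Matrix ι ι k) *ᵥ v) (φ ᵥ* ((g⁻¹ : SpecialLinearGroup ι k) : Matrix ι ι k))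
      (conj_perp g h) := by
  have key : ∀ c, g * tv v φ h c * g⁻¹ =
      tv ((g : Matrix ι ι k) *ᵥ v) (φ ᵥ* ((g⁻¹ : SpecialLinearGroup ι k) : Matrix ι ι k)) (conj_perp g h) c := by
    intro c
    refine sl_ext ?_
    rw [val_mul, val_mul, coe_tv, coe_tv, mul_add, add_mul,
      mul_one, ← val_mul, mul_inv_cancel, val_one,
      mul_smul_comm, smul_mul_assoc, mul_vecMulVec, vecMulVec_mul]
  ext x
  simp only [Subgroup.mem_map, mem_tGrp]
  constructor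
  · rintro ⟨_, ⟨c, rfl⟩, rfl⟩; exact ⟨c, (key c).symm⟩
  · rintro ⟨c, rfl⟩; exact ⟨_, ⟨c, rfl⟩, key c⟩

theorem line_of_tGrp_eq {v φ v' φ' : ι → k} (hφ' : φ' ≠ 0) (h : φ ⬝ᵥ v = 0)
    (h' : φ' ⬝ᵥ v' = 0) (e : tGrp v φ h = tGrp v' φ' h') : ∃ c : k, v' = c • v := by
  obtain ⟨c, hc⟩ := mem_tGrp.1 (e ▸ mem_tGrp.2 ⟨1, rfl⟩ : tv v' φ' h' 1 ∈ tGrp v φ h)
  have := congrArg (fun x : SpecialLinearGroup ι k => (x : Matrix ι ι k)) hc
  rw [coe_tv, coe_tv, one_smul, add_right_inj] at this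
  obtain ⟨j, hj⟩ := Function.ne_iff.1 hφ'
  refine ⟨c * φ j / φ' j, funext fun i => ?_⟩
  have e2 := congrFun (congrFun this i) j
  simp [vecMulVec] at e2
  simp only [Pi.zero_apply] at hj
  rw [Pi.smul_apply, smul_eq_mul, div_mul_eq_mul_div, eq_div_iff hj]
  linear_combination -e2

theorem commute_case {v φ w ψ : ι → k} (h : φ ⬝ᵥ v = 0) (h' : ψ ⬝ᵥ w = 0) (hb : φ ⬝ᵥ w = 0)
    (ha : ψ ⬝ᵥ v = 0) (c d : k) : tv v φ h c * tv w ψ h' d = tv w ψ h' d * tv v φ h c := by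
  refine sl_ext ?_
  rw [val_mul, val_mul, coe_tv, coe_tv]
  simp only [mul_add, add_mul, one_mul, mul_one, smul_mul_assoc, mul_smul_comm, vv_mul, hb, ha,
    zero_smul, smul_zero]
  module

theorem commutator_bot {v φ w ψ : ι → k} (h : φ ⬝ᵥ v = 0) (h' : ψ ⬝ᵥ w = 0) (hb : φ ⬝ᵥ w = 0)
    (ha : ψ ⬝ᵥ v = 0) : ⁅tGrp v φ h, tGrp w ψ h'⁆ = ⊥ :=
  RankOne.commutator_eq_bot_of_comm (by
    rintro _ ⟨c, rfl⟩ _ ⟨d, rfl⟩; exact commute_case h h' hb ha c d)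

theorem comm_formula {v φ w ψ : ι → k} (h : φ ⬝ᵥ v = 0) (h' : ψ ⬝ᵥ w = 0)
    (ha : ψ ⬝ᵥ v = 0) (c d : k) :
    tv v φ h c * tv w ψ h' d * (tv v φ h c)⁻¹ * (tv w ψ h' d)⁻¹ =
      tv v ψ ha (c * d * (φ ⬝ᵥ w)) := by
  rw [mul_inv_eq_iff_eq_mul, mul_inv_eq_iff_eq_mul, mul_assoc]
  refine sl_ext ?_
  simp only [val_mul, coe_tv]
  simp only [mul_add, add_mul, one_mul, mul_one, smul_mul_assoc, mul_smul_comm, vv_mul, h, h', ha,
    zero_smul, smul_zero, mul_zero, zero_mul, add_zero, zero_add]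
  module

/-- The set of all these groups. -/
def tSet (k : Type*) [Field k] (ι : Type*) [DecidableEq ι] [Fintype ι] :
    Set (Subgroup (SpecialLinearGroup ι k)) :=
  {A | ∃ (v φ : ι → k) (h : φ ⬝ᵥ v = 0), v ≠ 0 ∧ φ ≠ 0 ∧ A = tGrp v φ h}

theorem rc_case {v φ w ψ : ι → k} (hv : v ≠ 0) (hψ : ψ ≠ 0) (h : φ ⬝ᵥ v = 0) (h' : ψ ⬝ᵥ w = 0)
    (ha : ψ ⬝ᵥ v = 0) (hb : φ ⬝ᵥ w ≠ 0) :
    RootCommutatorCase (tSet k ι) (tGrp v φ h) (tGrp w ψ h') := by
  have hfull : ∀ e : k, ∀ c : k, c ≠ 0 → ∃ d, tv v φ h c * tv w ψ h' d * (tv v φ h c)⁻¹ *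
      (tv w ψ h' d)⁻¹ = tv v ψ ha e := fun e c hc => ⟨e / (c * (φ ⬝ᵥ w)), by
    rw [comm_formula h h' ha]; congr 1; field_simp⟩
  have hC : ⁅tGrp v φ h, tGrp w ψ h'⁆ = tGrp v ψ ha := by
    refine le_antisymm (Subgroup.commutator_le.2 ?_) ?_
    · rintro _ ⟨c, rfl⟩ _ ⟨d, rfl⟩
      rw [commutatorElement_def, comm_formula h h' ha]; exact ⟨_, rfl⟩
    · rintro _ ⟨e, rfl⟩
      obtain ⟨d, hd⟩ := hfull e 1 one_ne_zero
      rw [← hd, ← commutatorElement_def]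
      exact Subgroup.commutator_mem_commutator ⟨_, rfl⟩ ⟨_, rfl⟩
  refine ⟨hC ▸ ⟨v, ψ, ha, hv, hψ, rfl⟩, ?_, ?_, ?_⟩
  · rw [hC]
    rintro _ ⟨e, rfl⟩
    have : tGrp v φ h ⊔ tGrp w ψ h' ≤ Subgroup.centralizer {tv v ψ ha e} := by
      refine sup_le ?_ ?_ <;> rintro _ ⟨c, rfl⟩ <;>
        rw [Subgroup.mem_centralizer_singleton_iff]
      · exact (commute_case ha h ha h e c).symm
      · exact (commute_case ha h' h' ha e c).symm
    intro x hx
    exact (Subgroup.mem_centralizer_singleton_iff.1 (this hx)).symm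
  · rintro _ ⟨c, rfl⟩ hc1
    have hc : c ≠ 0 := fun e => hc1 (by rw [e, tv_zero])
    rw [hC]
    refine le_antisymm ((Subgroup.closure_le _).2 ?_) ?_
    · rintro _ ⟨_, ⟨d, rfl⟩, rfl⟩
      show _ * _ * _ * _ ∈ tGrp v ψ ha
      rw [comm_formula h h' ha]; exact ⟨_, rfl⟩
    · rintro _ ⟨e, rfl⟩
      obtain ⟨d, hd⟩ := hfull e c hc
      exact Subgroup.subset_closure ⟨_, ⟨d, rfl⟩, hd⟩
  · rintro _ ⟨d, rfl⟩ hd1
    have hd : d ≠ 0 := fun e => hd1 (by rw [e, tv_zero])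
    rw [hC]
    refine le_antisymm ((Subgroup.closure_le _).2 ?_) ?_
    · rintro _ ⟨_, ⟨c, rfl⟩, rfl⟩
      show _ * _ * _ * _ ∈ tGrp v ψ ha
      rw [comm_formula h h' ha]; exact ⟨_, rfl⟩
    · rintro _ ⟨e, rfl⟩
      refine Subgroup.subset_closure ⟨_, ⟨e / (d * (φ ⬝ᵥ w)), rfl⟩, ?_⟩
      show _ * _ * _ * _ = _
      rw [comm_formula h h' ha]; congr 1; field_simp

/-- Normalised rank one pair: the condition. -/
theorem rankOne_cond {v φ w ψ : ι → k} (hv : v ≠ 0) (hφ : φ ≠ 0) (hw : w ≠ 0) (hψ : ψ ≠ 0)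
    (h : φ ⬝ᵥ v = 0) (h' : ψ ⬝ᵥ w = 0) (hb : φ ⬝ᵥ w ≠ 0) (ha : ψ ⬝ᵥ v ≠ 0) :
    RankOneCondition (tGrp v φ h) (tGrp w ψ h') := by
  rintro _ ⟨c, rfl⟩ hc1
  have hc : c ≠ 0 := fun e => hc1 (by rw [e, tv_zero])
  set a := ψ ⬝ᵥ v with hadef
  set b := φ ⬝ᵥ w with hbdef
  set d := (c * a * b)⁻¹ with hd
  have hd0 : d ≠ 0 := inv_ne_zero (mul_ne_zero (mul_ne_zero hc ha) hb)
  refine ⟨tv w ψ h' d, ⟨_, rfl⟩, tv_ne_one hw hψ h' hd0, ?_⟩
  rw [conjBy_tGrp, conjBy_tGrp]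
  have e1 : (↑(tv w ψ h' d)⁻¹ : Matrix ι ι k) *ᵥ v = (-(c * b)⁻¹) • ((↑(tv v φ h c)⁻¹ : Matrix ι ι k) *ᵥ w) := by
    rw [← tv_neg, ← tv_neg, coe_tv, coe_tv]
    simp only [add_mulVec, one_mulVec, smul_mulVec, vecMulVec_mulVec, ← hadef, ← hbdef,
      op_smul_eq_smul]
    rw [hd]
    match_scalars <;> field_simp
  have e2 : φ ᵥ* (↑((tv w ψ h' d)⁻¹)⁻¹ : Matrix ι ι k) = (c * a)⁻¹ • (ψ ᵥ* (↑((tv v φ h c)⁻¹)⁻¹ : Matrix ι ι k)) := by
    rw [inv_inv, inv_inv, coe_tv, coe_tv]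
    simp only [vecMul_add, vecMul_one, vecMul_smul, vecMul_vecMulVec, ← hadef, ← hbdef]
    rw [hd]
    match_scalars <;> field_simp
  exact tGrp_scale _ _ (neg_ne_zero.2 (inv_ne_zero (mul_ne_zero hc hb)))
    (inv_ne_zero (mul_ne_zero hc ha)) e1 e2

theorem nilp (v φ : ι → k) (h : φ ⬝ᵥ v = 0) : Group.IsNilpotent (tGrp v φ h) := by
  have := tGrp_comm v φ h
  letI : CommGroup (tGrp v φ h) :=
    { (inferInstance : Group (tGrp v φ h)) with mul_comm := this.is_comm.comm }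
  exact CommGroup.isNilpotent

theorem rankOnePair {v φ w ψ : ι → k} (hv : v ≠ 0) (hφ : φ ≠ 0) (hw : w ≠ 0) (hψ : ψ ≠ 0)
    (h : φ ⬝ᵥ v = 0) (h' : ψ ⬝ᵥ w = 0) (hb : φ ⬝ᵥ w ≠ 0) (ha : ψ ⬝ᵥ v ≠ 0) :
    IsRankOnePair (tGrp v φ h) (tGrp w ψ h') where
  ne := fun e => by
    obtain ⟨c, rfl⟩ := line_of_tGrp_eq hψ h h' e
    exact hb (by rw [dotProduct_smul, h, smul_zero])
  nilpotent_left := nilp v φ h
  nilpotent_right := nilp w ψ h'
  cond_left := rankOne_cond hv hφ hw hψ h h' hb ha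
  cond_right := rankOne_cond hw hψ hv hφ h' h ha hb

/-- The embedding of SL two on a pair of dual bases. -/
def planeHom (U : Matrix ι (Fin 2) k) (W : Matrix (Fin 2) ι k) (hWU : W * U = 1) :
    SpecialLinearGroup (Fin 2) k →* SpecialLinearGroup ι k where
  toFun M := ⟨1 + U * (M.1 - 1) * W, by
    rw [det_one_add_mul_comm, ← Matrix.mul_assoc, hWU, Matrix.one_mul, add_sub_cancel]; exact M.2⟩
  map_one' := sl_ext (by simp)
  map_mul' M N := sl_ext (by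
    show 1 + U * (M.1 * N.1 - 1) * W = (1 + U * (M.1 - 1) * W) * (1 + U * (N.1 - 1) * W)
    have e : U * (M.1 - 1) * W * (U * (N.1 - 1) * W) = U * ((M.1 - 1) * (N.1 - 1)) * W := by
      simp only [Matrix.mul_assoc]
      rw [← Matrix.mul_assoc W U, hWU, Matrix.one_mul]
    have e2 : M.1 * N.1 - 1 = (M.1 - 1) + (N.1 - 1) + (M.1 - 1) * (N.1 - 1) := by
      rw [Matrix.sub_mul, Matrix.mul_sub, Matrix.mul_sub]; simp
    rw [e2]
    simp only [Matrix.mul_add, Matrix.add_mul, Matrix.one_mul, Matrix.mul_one]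
    simp only [e]
    abel)

theorem planeHom_injective (U : Matrix ι (Fin 2) k) (W : Matrix (Fin 2) ι k) (hWU : W * U = 1) :
    Function.Injective (planeHom U W hWU) := by
  intro M N e
  have e1 : 1 + U * (M.1 - 1) * W = 1 + U * (N.1 - 1) * W := congrArg (fun x : SpecialLinearGroup ι k => (x : Matrix ι ι k)) e
  rw [add_right_inj] at e1
  have e2 := congrArg (fun X => W * X * U) e1
  have e3 : ∀ X : Matrix (Fin 2) (Fin 2) k, W * (U * X * W) * U = X := by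
    intro X
    simp only [Matrix.mul_assoc, hWU, Matrix.mul_one]
    rw [← Matrix.mul_assoc W U, hWU, Matrix.one_mul]
  simp only [e3, sub_left_inj] at e2
  exact Subtype.ext e2

theorem psl2Pair {v φ w ψ : ι → k} (h : φ ⬝ᵥ v = 0) (h' : ψ ⬝ᵥ w = 0) (hb : φ ⬝ᵥ w ≠ 0)
    (ha : ψ ⬝ᵥ v ≠ 0) : IsPSL2PairOver k (tGrp v φ h) (tGrp w ψ h') := by
  set b := φ ⬝ᵥ w with hbdef
  set a := ψ ⬝ᵥ v with hadef
  set w' := b⁻¹ • w with hwd
  set ψ' := a⁻¹ • ψ with hψd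
  have h1 : φ ⬝ᵥ w' = 1 := by rw [hwd, dotProduct_smul, ← hbdef, smul_eq_mul, inv_mul_cancel₀ hb]
  have h2 : ψ' ⬝ᵥ v = 1 := by rw [hψd, smul_dotProduct, ← hadef, smul_eq_mul, inv_mul_cancel₀ ha]
  have h3 : ψ' ⬝ᵥ w' = 0 := by simp [hwd, hψd, h']
  let U : Matrix ι (Fin 2) k := Matrix.of fun i j => ![v i, w' i] j
  let W : Matrix (Fin 2) ι k := Matrix.of fun j i => ![ψ' i, φ i] j
  have hWU : W * U = 1 := by
    ext i j
    fin_cases i <;> fin_cases j <;> simp [U, W, mul_apply] <;>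
      first | exact h2 | exact h3 | exact h | exact h1
  have key : ∀ X : Matrix (Fin 2) (Fin 2) k, U * X * W =
      X 0 0 • vecMulVec v ψ' + X 0 1 • vecMulVec v φ + X 1 0 • vecMulVec w' ψ' +
        X 1 1 • vecMulVec w' φ := by
    intro X
    ext i j
    simp [U, W, mul_apply, Fin.sum_univ_two, vecMulVec]
    ring
  have hA : (upperUnipotentSL2 k).map (planeHom U W hWU) = tGrp v φ h := by
    refine le_antisymm ?_ ?_
    · rw [upperUnipotentSL2, MonoidHom.map_closure, Subgroup.closure_le]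
      rintro _ ⟨M, ⟨e1, e2, e3⟩, rfl⟩
      refine ⟨M.1 0 1, sl_ext ?_⟩
      show _ = 1 + U * (M.1 - 1) * W
      rw [key, coe_tv]
      simp [e1, e2, e3]
    · rintro _ ⟨c, rfl⟩
      refine ⟨SymplecticRootGroups.slUpper c, Subgroup.subset_closure ⟨by
        simp [SymplecticRootGroups.slUpper], by simp [SymplecticRootGroups.slUpper],
        by simp [SymplecticRootGroups.slUpper]⟩, sl_ext ?_⟩
      show 1 + U * ((SymplecticRootGroups.slUpper c).1 - 1) * W = _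
      rw [key, coe_tv]
      simp [SymplecticRootGroups.slUpper]
  have hsc : tGrp w' ψ' h3 = tGrp w ψ h' :=
    tGrp_scale h' h3 (inv_ne_zero hb) (inv_ne_zero ha) hwd hψd
  have hB : (lowerUnipotentSL2 k).map (planeHom U W hWU) = tGrp w ψ h' := by
    rw [← hsc]
    refine le_antisymm ?_ ?_
    · rw [lowerUnipotentSL2, MonoidHom.map_closure, Subgroup.closure_le]
      rintro _ ⟨M, ⟨e1, e2, e3⟩, rfl⟩
      refine ⟨M.1 1 0, sl_ext ?_⟩
      show _ = 1 + U * (M.1 - 1) * W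
      rw [key, coe_tv]
      simp [e1, e2, e3]
    · rintro _ ⟨c, rfl⟩
      refine ⟨SymplecticRootGroups.slLower c, Subgroup.subset_closure ⟨by
        simp [SymplecticRootGroups.slLower], by simp [SymplecticRootGroups.slLower],
        by simp [SymplecticRootGroups.slLower]⟩, sl_ext ?_⟩
      show 1 + U * ((SymplecticRootGroups.slLower c).1 - 1) * W = _
      rw [key, coe_tv]
      simp [SymplecticRootGroups.slLower]
  refine ⟨planeHom U W hWU, ?_, ?_, hA, hB⟩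
  · rw [MonoidHom.range_eq_map, ← SymplecticRootGroups.sl2_generated, Subgroup.map_sup, hA, hB]
  · rw [(MonoidHom.ker_eq_bot_iff _).2 (planeHom_injective U W hWU)]; exact bot_le

theorem not_rankOne_of_half {v φ w ψ : ι → k} (hv : v ≠ 0) (hφ : φ ≠ 0) (h : φ ⬝ᵥ v = 0)
    (h' : ψ ⬝ᵥ w = 0) (hψ : ψ ≠ 0) (ha : ψ ⬝ᵥ v = 0) :
    ¬ IsRankOnePair (tGrp v φ h) (tGrp w ψ h') := by
  intro hp
  obtain ⟨_, ⟨d, rfl⟩, -, e⟩ := hp.cond_left _ ⟨1, rfl⟩ (tv_ne_one hv hφ h one_ne_zero)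
  rw [conjBy_tGrp, conjBy_tGrp] at e
  have e1 : (↑(tv w ψ h' d)⁻¹ : Matrix ι ι k) *ᵥ v = v := by
    rw [← tv_neg, coe_tv]
    simp [add_mulVec, neg_mulVec, smul_mulVec, vecMulVec_mulVec, ha]
  have hψ2 : ψ ᵥ* (↑((tv v φ h 1)⁻¹)⁻¹ : Matrix ι ι k) = ψ := by
    rw [inv_inv, coe_tv]
    simp [vecMul_add, vecMul_vecMulVec, ha]
  obtain ⟨r, hr⟩ := line_of_tGrp_eq (by rw [hψ2]; exact hψ) _ _ e
  rw [e1] at hr
  have e2 : (↑(tv v φ h 1)⁻¹ : Matrix ι ι k) *ᵥ w = w - (φ ⬝ᵥ w) • v := by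
    rw [← tv_neg, coe_tv]
    simp [add_mulVec, vecMulVec_mulVec, neg_mulVec, sub_eq_add_neg]
  rw [e2, sub_eq_iff_eq_add] at hr
  have hb0 : φ ⬝ᵥ w = 0 := by
    rw [hr]; simp [dotProduct_add, h]
  exact RankOne.commutator_ne_bot hp (commutator_bot h h' hb0 ha)

theorem trichotomy {A B : Subgroup (SpecialLinearGroup ι k)} (hA : A ∈ tSet k ι)
    (hB : B ∈ tSet k ι) : ⁅A, B⁆ = ⊥ ∨ IsRankOnePair A B ∨ RootCommutatorCase (tSet k ι) A B := by
  obtain ⟨v, φ, h, hv, hφ, rfl⟩ := hA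
  obtain ⟨w, ψ, h', hw, hψ, rfl⟩ := hB
  by_cases ha : ψ ⬝ᵥ v = 0 <;> by_cases hb : φ ⬝ᵥ w = 0
  · exact Or.inl (commutator_bot h h' hb ha)
  · exact Or.inr (Or.inr (rc_case hv hψ h h' ha hb))
  · exact Or.inr (Or.inr (RootSub.rc_symm (rc_case hw hφ h' h hb ha)))
  · exact Or.inr (Or.inl (rankOnePair hv hφ hw hψ h h' hb ha))

theorem exists_two_ne {u u' : ι → k} (hu : u ≠ 0) (hu' : u' ≠ 0) :
    ∃ x : ι → k, u ⬝ᵥ x ≠ 0 ∧ u' ⬝ᵥ x ≠ 0 := by
  obtain ⟨i, hi⟩ := Function.ne_iff.1 hu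
  obtain ⟨j, hj⟩ := Function.ne_iff.1 hu'
  simp only [Pi.zero_apply] at hi hj
  by_cases h1 : u' i ≠ 0
  · exact ⟨Pi.single i 1, by simpa using hi, by simpa using h1⟩
  by_cases h2 : u j ≠ 0
  · exact ⟨Pi.single j 1, by simpa using h2, by simpa using hj⟩
  push_neg at h1 h2
  exact ⟨Pi.single i 1 + Pi.single j 1, by simpa [dotProduct_add, h2] using hi,
    by simpa [dotProduct_add, h1] using hj⟩

theorem exists_dual {x v : ι → k} (hx : x ≠ 0) (hne : ∀ r : k, v ≠ r • x) :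
    ∃ χ : ι → k, χ ⬝ᵥ x = 0 ∧ χ ⬝ᵥ v ≠ 0 := by
  obtain ⟨j, hj⟩ := Function.ne_iff.1 hx
  simp only [Pi.zero_apply] at hj
  obtain ⟨i, hi⟩ := Function.ne_iff.1 (hne (v j / x j))
  refine ⟨x j • Pi.single i 1 - x i • Pi.single j 1, ?_, ?_⟩
  · simp [sub_dotProduct, mul_comm]
  · simp [sub_dotProduct]
    intro e
    refine hi ?_
    simp only [Pi.smul_apply, smul_eq_mul]
    field_simp
    linear_combination e

theorem conj_of_rankOne {G : Type*} [Group G] {A B : Subgroup G} (hp : IsRankOnePair A B) :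
    ∃ g : G, B = conjBy A g := by
  obtain ⟨a, ha, ha1⟩ := Subgroup.bot_or_exists_ne_one A |>.resolve_left (RankOne.left_ne_bot hp)
  obtain ⟨b, -, -, e⟩ := hp.cond_left a ha ha1
  refine ⟨a * b⁻¹, ?_⟩
  rw [← RankOne.conjBy_mul, e, RankOne.conjBy_conjBy_inv]

theorem transitive {A B : Subgroup (SpecialLinearGroup ι k)} (hA : A ∈ tSet k ι)
    (hB : B ∈ tSet k ι) : ∃ g, B = conjBy A g := by
  obtain ⟨v, φ, h, hv, hφ, rfl⟩ := hA
  obtain ⟨w, ψ, h', hw, hψ, rfl⟩ := hB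
  obtain ⟨x, hx1, hx2⟩ := exists_two_ne hφ hψ
  have hx : x ≠ 0 := fun e => hx1 (by rw [e, dotProduct_zero])
  have hvx : ∀ r : k, v ≠ r • x := fun r e => by
    rw [e, dotProduct_smul, smul_eq_zero] at h
    rcases h with h | h
    · exact hv (by rw [e, h, zero_smul])
    · exact hx1 h
  have hwx : ∀ r : k, w ≠ r • x := fun r e => by
    rw [e, dotProduct_smul, smul_eq_zero] at h'
    rcases h' with h' | h'
    · exact hw (by rw [e, h', zero_smul])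
    · exact hx2 h'
  obtain ⟨χ₁, hc1, hd1⟩ := exists_dual hx hvx
  obtain ⟨χ₂, hc2, hd2⟩ := exists_dual hx hwx
  obtain ⟨χ, hc, hdv, hdw⟩ : ∃ χ : ι → k, χ ⬝ᵥ x = 0 ∧ χ ⬝ᵥ v ≠ 0 ∧ χ ⬝ᵥ w ≠ 0 := by
    by_cases e1 : χ₁ ⬝ᵥ w ≠ 0
    · exact ⟨χ₁, hc1, hd1, e1⟩
    by_cases e2 : χ₂ ⬝ᵥ v ≠ 0
    · exact ⟨χ₂, hc2, e2, hd2⟩
    push_neg at e1 e2
    exact ⟨χ₁ + χ₂, by rw [add_dotProduct, hc1, hc2, add_zero],
      by rwa [add_dotProduct, e2, add_zero], by rwa [add_dotProduct, e1, zero_add]⟩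
  have hχ : χ ≠ 0 := fun e => hdv (by rw [e, zero_dotProduct])
  obtain ⟨g₁, e₁⟩ := conj_of_rankOne (rankOnePair hv hφ hx hχ h hc hx1 hdv)
  obtain ⟨g₂, e₂⟩ := conj_of_rankOne (rankOnePair hx hχ hw hψ hc h' hdw hx2)
  exact ⟨g₂ * g₁, by rw [← RankOne.conjBy_mul, ← e₁, e₂]⟩

theorem single_perp {i j : ι} (hij : i ≠ j) :
    (Pi.single j 1 : ι → k) ⬝ᵥ Pi.single i 1 = 0 := by simp [hij.symm]

theorem single_mem {i j : ι} (hij : i ≠ j) :
    tGrp (Pi.single i 1) (Pi.single j 1) (single_perp (k := k) hij) ∈ tSet k ι :=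
  ⟨_, _, _, by simp, by simp, rfl⟩

theorem tv_single {i j : ι} (hij : i ≠ j) (c : k) :
    tv (Pi.single i 1) (Pi.single j 1) (single_perp hij) c = SpecialLinearGroup.transvection hij c := by
  refine sl_ext ?_
  rw [coe_tv, SpecialLinearGroup.transvection_coe]
  ext a b
  simp [vecMulVec, Matrix.single, Pi.single_apply, eq_comm]
  split_ifs <;> simp_all

theorem closure_eq_tGrp {i j : ι} (hij : i ≠ j) :
    Subgroup.closure {t : SpecialLinearGroup ι k | ∃ c : k, (t : Matrix ι ι k) =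
      Matrix.transvection i j c} = tGrp (Pi.single i 1) (Pi.single j 1) (single_perp hij) := by
  refine le_antisymm ((Subgroup.closure_le _).2 ?_) ?_
  · rintro t ⟨c, hc⟩
    exact ⟨c, (tv_single hij c).trans (Subtype.ext
      ((SpecialLinearGroup.transvection_coe hij c).trans hc.symm))⟩
  · rintro _ ⟨c, rfl⟩
    exact Subgroup.subset_closure ⟨c, by rw [tv_single hij, SpecialLinearGroup.transvection_coe]; rfl⟩

theorem class_eq {i j : ι} (hij : i ≠ j) :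
    {A : Subgroup (SpecialLinearGroup ι k) | ∃ g : SpecialLinearGroup ι k,
      A = conjBy (Subgroup.closure {t : SpecialLinearGroup ι k | ∃ c : k, (t : Matrix ι ι k) =
        Matrix.transvection i j c}) g} = tSet k ι := by
  ext A
  rw [closure_eq_tGrp hij]
  constructor
  · rintro ⟨g, rfl⟩
    refine ⟨_, _, conj_perp g (single_perp hij), ?_, ?_, conjBy_tGrp g _⟩
    · intro e
      have := congrArg (((g⁻¹ : SpecialLinearGroup ι k) : Matrix ι ι k) *ᵥ ·) e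
      simp only [mulVec_mulVec, ← val_mul, inv_mul_cancel,
        val_one, one_mulVec, mulVec_zero] at this
      exact absurd this (by simp)
    · intro e
      have := congrArg (· ᵥ* (g : Matrix ι ι k)) e
      simp only [vecMul_vecMul, ← val_mul, inv_mul_cancel,
        val_one, vecMul_one, zero_vecMul] at this
      exact absurd this (by simp)
  · intro hA
    exact transitive (single_mem hij) hA

theorem rootSet [Nontrivial ι] : IsRootSubgroupSet (tSet k ι) where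
  commutative := by rintro _ ⟨v, φ, h, -, -, rfl⟩; exact tGrp_comm v φ h
  ne_bot := by rintro _ ⟨v, φ, h, hv, hφ, rfl⟩; exact tGrp_ne_bot hv hφ h
  generates := PSLSimple.eq_top_of_transvection_mem _ fun i j hij c =>
    Subgroup.mem_iSup_of_mem _ (Subgroup.mem_iSup_of_mem (single_mem hij) ⟨c, tv_single hij c⟩)
  conj_mem := by
    intro A hA g
    obtain ⟨i, j, hij⟩ := exists_pair_ne ι
    rw [← class_eq hij] at hA ⊢
    obtain ⟨g', rfl⟩ := hA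
    exact ⟨g * g', RankOne.conjBy_mul _ _ _⟩
  pair := fun A hA B hB => trichotomy hA hB

theorem rootClass [Nontrivial ι] : IsRootSubgroupClass (tSet k ι) := by
  obtain ⟨i, j, hij⟩ := exists_pair_ne ι
  exact ⟨rootSet, ⟨_, single_mem hij⟩, fun A hA B hB => transitive hA hB⟩

theorem kRootSet [Nontrivial ι] : IsKRootSubgroupSet k (tSet k ι) := by
  refine ⟨rootSet, ?_⟩
  rintro _ ⟨v, φ, h, hv, hφ, rfl⟩ _ ⟨w, ψ, h', hw, hψ, rfl⟩ hp
  refine psl2Pair h h' (fun hb => ?_) (fun ha => ?_)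
  · exact not_rankOne_of_half hw hψ h' h hφ hb (RankOnePair_symm hp)
  · exact not_rankOne_of_half hv hφ h h' hψ ha hp

theorem nondegenerate {i j l : ι} (hij : i ≠ j) (hjl : j ≠ l) (hil : i ≠ l) :
    IsNondegenerateRootSet (tSet k ι) := by
  refine ⟨⟨_, single_mem hij, _, single_mem hil, ?_, ?_⟩,
    ⟨_, single_mem hij, _, single_mem hij.symm, rankOnePair (by simp) (by simp) (by simp) (by simp)
      _ _ (by simp) (by simp)⟩,
    ⟨_, single_mem hij, _, single_mem hjl, rc_case (by simp) (by simp) _ _ (by simp [hil.symm])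
      (by simp)⟩⟩
  · intro e
    obtain ⟨c, hc⟩ := mem_tGrp.1 (e ▸ mem_tGrp.2 ⟨(1 : k), rfl⟩ :
      tv (Pi.single i 1) (Pi.single l 1) (single_perp hil) (1 : k) ∈
        tGrp (Pi.single i 1) (Pi.single j 1) (single_perp hij))
    have := congrFun (congrFun (congrArg (fun x : SpecialLinearGroup ι k => (x : Matrix ι ι k)) hc) i) l
    simp [coe_tv, vecMulVec, hjl.symm, hil] at this
  · exact commutator_bot _ _ (by simp [hij.symm]) (by simp [hil.symm])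

theorem connected [Nontrivial ι] {i j l : ι} (hij : i ≠ j) (hjl : j ≠ l) (hil : i ≠ l) :
    IsConnectedFamily (FAdj (tSet k ι)) (tSet k ι) :=
  RootSubConn.class_connected rootClass (nondegenerate hij hjl hil).2.1

end Cfsg.Agent.TransvectionRootGroups10
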