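import Mathlib
import Cfsg.Prelude.Def_RootSubgroups
import Cfsg.Agent.Lib.PSLSimple

/-!
Transvections of `SL n F` in characteristic 2 form a class of root involutions (helper56).
-/

set_option autoImplicit false

open Matrix Polynomial
open scoped MatrixGroups

namespace Cfsg.Agent.TransvectionRootInvol56

section Algebra

variable {F : Type*} [Field F] [CharP F 2] {R : Type*} [Ring R] [Algebra F R]

theorem cubic_identity {X Y : R} {t : F} (hXX : X * X = 0) (hYY : Y * Y = 0)
    (hXYX : X * Y * X = t • X) (hYXY : Y * X * Y = t • Y) :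
    let N := X + Y + X * Y
    (N * N + t • N + t • (1 : R)) * N = 0 := by
  intro N
  have a1 : ∀ z, X * (X * z) = 0 := fun z => by rw [← mul_assoc, hXX, zero_mul]
  have a2 : ∀ z, Y * (Y * z) = 0 := fun z => by rw [← mul_assoc, hYY, zero_mul]
  have a3 : ∀ z, X * (Y * (X * z)) = t • (X * z) := fun z => by
    rw [← mul_assoc, ← mul_assoc, hXYX, smul_mul_assoc]
  have a4 : ∀ z, Y * (X * (Y * z)) = t • (Y * z) := fun z => by
    rw [← mul_assoc, ← mul_assoc, hYXY, smul_mul_assoc]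
  have a5 : X * (Y * X) = t • X := by rw [← mul_assoc, hXYX]
  have a6 : Y * (X * Y) = t • Y := by rw [← mul_assoc, hYXY]
  have h : (N * N + t • N + t • (1 : R)) * N = (2 : F) • (t • (N * N) + t • N) := by
    simp only [N, mul_add, add_mul, mul_assoc, smul_mul_assoc, mul_smul_comm, one_mul, smul_add,
      a1, a2, a3, a4, a5, a6, hXX, hYY, smul_smul, mul_zero, smul_zero, zero_add, add_zero]
    module
  rw [h, CharTwo.two_eq_zero, zero_smul]

/-- An element killed by `(X² + tX + 1)(X - 1)` with `t ≠ 0` has odd order. -/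
theorem odd_orderOf_of_cubic [Finite R] {u : R} (hu : IsUnit u) {t : F} (ht : t ≠ 0)
    (h : (u * u + t • u + 1) * (u - 1) = 0) : Odd (orderOf u) := by
  set P : F[X] := (Polynomial.X ^ 2 + Polynomial.C t * Polynomial.X + 1) * (Polynomial.X - 1)
  have hP : aeval u P = 0 := by
    simp [P, Algebra.smul_def, sq] at h ⊢
    exact h
  have hsep : P.Separable := by
    refine Polynomial.Separable.mul ?_ (by simpa using separable_X_sub_C (x := (1 : F))) ?_
    · refine ⟨0, Polynomial.C t⁻¹, ?_⟩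
      simp [derivative_pow, CharTwo.two_eq_zero, ← Polynomial.C_mul, inv_mul_cancel₀ ht]
    · refine ⟨Polynomial.C t⁻¹, -Polynomial.C t⁻¹ * (Polynomial.X + 1 + Polynomial.C t), ?_⟩
      have hc : Polynomial.C t⁻¹ * Polynomial.C t = (1 : F[X]) := by
        rw [← Polynomial.C_mul, inv_mul_cancel₀ ht, Polynomial.C_1]
      have h2 : (2 : F[X]) = 0 := CharTwo.two_eq_zero
      linear_combination hc + Polynomial.C t⁻¹ * h2
  obtain ⟨m, hm⟩ := Nat.even_or_odd' (orderOf u)
  rcases hm with hm | hm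
  · exfalso
    have hfin : 0 < orderOf u := by
      obtain ⟨v, rfl⟩ := hu
      rw [orderOf_units]; exact orderOf_pos v
    set n : F[X] := Polynomial.X ^ m - 1
    have hn : aeval u n = u ^ m - 1 := by simp [n]
    have h2R : (2 : R) = 0 := by
      rw [← map_ofNat (algebraMap F R) 2, CharTwo.two_eq_zero, map_zero]
    have hsq : aeval u (n ^ 2) = 0 := by
      rw [map_pow, hn, sq]
      have : (u ^ m - 1) * (u ^ m - 1) = u ^ (2 * m) + 1 - 2 * u ^ m := by
        rw [two_mul, pow_add]; noncomm_ring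
      rw [this, ← hm, pow_orderOf_eq_one, h2R, zero_mul, sub_zero, one_add_one_eq_two, h2R]
    have hdvd : minpoly F u ∣ n := by
      have hsf : Squarefree (minpoly F u) :=
        hsep.squarefree.squarefree_of_dvd (minpoly.dvd F u hP)
      exact (hsf.dvd_pow_iff_dvd two_ne_zero).1 (minpoly.dvd F u hsq)
    obtain ⟨c, hc⟩ := hdvd
    have h0 : u ^ m - 1 = 0 := by rw [← hn, hc, map_mul, minpoly.aeval, zero_mul]
    have hd := orderOf_dvd_of_pow_eq_one (sub_eq_zero.1 h0)
    rw [hm] at hd hfin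
    have := Nat.le_of_dvd (by omega) hd
    omega
  · exact ⟨m, hm⟩

end Algebra

variable {F : Type*} [Field F] [CharP F 2] {k : ℕ}

local notation "G" => Matrix.SpecialLinearGroup (Fin (k + 3)) F
local notation "M" => Matrix (Fin (k + 3)) (Fin (k + 3)) F
local notation "V" => (Fin (k + 3) → F)

/-- The transvection class of the statement. -/
def tvSet (F : Type*) [Field F] (k : ℕ) : Set (Matrix.SpecialLinearGroup (Fin (k + 3)) F) :=
  {t | ∃ c : F, c ≠ 0 ∧ ∃ g : Matrix.SpecialLinearGroup (Fin (k + 3)) F,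
    ((g⁻¹ * t * g : Matrix.SpecialLinearGroup (Fin (k + 3)) F) :
      Matrix (Fin (k + 3)) (Fin (k + 3)) F) = Matrix.transvection 0 1 c}

/-- The basic transvection. -/
def T (c : F) : G := Matrix.SpecialLinearGroup.transvection (i := 0) (j := 1) (by simp) c

theorem T_coe (c : F) : ((T c : G) : M) = Matrix.transvection 0 1 c :=
  Matrix.SpecialLinearGroup.transvection_coe _ _

theorem mem_iff (t : G) : t ∈ tvSet F k ↔ ∃ c : F, c ≠ 0 ∧ ∃ g : G, t = g * T c * g⁻¹ := by
  refine exists_congr fun c => and_congr_right fun _ => exists_congr fun g => ?_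
  rw [← T_coe]
  constructor
  · intro h; rw [← (Subtype.ext h : g⁻¹ * t * g = T c)]; group
  · intro h
    exact congrArg Subtype.val (show g⁻¹ * t * g = T c by rw [h]; group)

theorem conj_mem {t : G} (ht : t ∈ tvSet F k) (g : G) : g * t * g⁻¹ ∈ tvSet F k := by
  obtain ⟨c, hc, h, rfl⟩ := (mem_iff t).1 ht
  exact (mem_iff _).2 ⟨c, hc, g * h, by group⟩

theorem T_conj (c d : F) (hc : c ≠ 0) (hd : d ≠ 0) : ∃ g : G, T d = g * T c * g⁻¹ := by
  have h2 : (2 : Fin (k + 3)) ≠ 0 := by simp [Fin.ext_iff, Nat.mod_eq_of_lt]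
  have h21 : (2 : Fin (k + 3)) ≠ 1 := by simp [Fin.ext_iff, Nat.mod_eq_of_lt]
  refine ⟨Matrix.SpecialLinearGroup.diag2n (i := 0) (j := 2) h2.symm (d / c) (div_ne_zero hd hc), ?_⟩
  rw [eq_mul_inv_iff_mul_eq]
  refine Subtype.ext <| Matrix.ext_iff_mulVec.2 fun w => ?_
  ext l
  simp only [T, PSLSimple.mulVec_mul, PSLSimple.transvection_mulVec,
    Matrix.SpecialLinearGroup.diag2n_coe, Matrix.mulVec_diagonal, Pi.add_apply]
  by_cases hl : l = 0
  · subst hl
    simp [h21.symm, h2.symm]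
    field_simp
  · simp [hl, h21.symm]

theorem conjugate {a b : G} (ha : a ∈ tvSet F k) (hb : b ∈ tvSet F k) :
    ∃ g : G, b = g * a * g⁻¹ := by
  obtain ⟨c, hc, g, rfl⟩ := (mem_iff a).1 ha
  obtain ⟨d, hd, h, rfl⟩ := (mem_iff b).1 hb
  obtain ⟨u, hu⟩ := T_conj (k := k) c d hc hd
  refine ⟨h * u * g⁻¹, ?_⟩
  rw [hu]; group

/-- Shape of a transvection. -/
theorem shape {t : G} (ht : t ∈ tvSet F k) : ∃ v φ : V, v ≠ 0 ∧ φ ≠ 0 ∧ φ ⬝ᵥ v = 0 ∧
    (t : M) = 1 + vecMulVec v φ := by
  obtain ⟨c, hc, g, rfl⟩ := (mem_iff t).1 ht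
  refine ⟨(g : M) *ᵥ Pi.single 0 c, Pi.single 1 (1 : F) ᵥ* ((g⁻¹ : G) : M), ?_, ?_, ?_, ?_⟩
  · intro h
    have h1 := congrArg (fun w => ((g⁻¹ : G) : M) *ᵥ w) h
    simp only [Matrix.mulVec_mulVec, ← Matrix.SpecialLinearGroup.coe_mul, inv_mul_cancel,
      Matrix.SpecialLinearGroup.coe_one, Matrix.one_mulVec, Matrix.mulVec_zero] at h1
    exact hc (by simpa using congr_fun h1 0)
  · intro h
    have h1 := congrArg (fun w => w ᵥ* (g : M)) h
    simp only [Matrix.vecMul_vecMul, ← Matrix.SpecialLinearGroup.coe_mul, inv_mul_cancel,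
      Matrix.SpecialLinearGroup.coe_one, Matrix.vecMul_one, Matrix.zero_vecMul] at h1
    exact one_ne_zero (α := F) (by simpa using congr_fun h1 1)
  · rw [← Matrix.dotProduct_mulVec, Matrix.mulVec_mulVec, ← Matrix.SpecialLinearGroup.coe_mul,
      inv_mul_cancel, Matrix.SpecialLinearGroup.coe_one, Matrix.one_mulVec]
    simp
  · have hs : Matrix.single (0 : Fin (k + 3)) (1 : Fin (k + 3)) c = vecMulVec (Pi.single 0 c) (Pi.single 1 1) := by
      ext i j
      simp only [Matrix.single, Matrix.of_apply, vecMulVec_apply, Pi.single_apply]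
      split_ifs <;> simp_all
    have key : ∀ A B : M, A * B = 1 → A * (1 + Matrix.single (0 : Fin (k + 3)) 1 c) * B =
        1 + vecMulVec (A *ᵥ Pi.single 0 c) (Pi.single 1 (1 : F) ᵥ* B) := by
      intro A B h
      rw [← Matrix.vecMulVec_mul, ← Matrix.mul_vecMulVec, hs, mul_add, mul_one, add_mul, h]
    rw [Matrix.SpecialLinearGroup.coe_mul, Matrix.SpecialLinearGroup.coe_mul, T_coe]
    exact key _ _ (by rw [← Matrix.SpecialLinearGroup.coe_mul, mul_inv_cancel,
      Matrix.SpecialLinearGroup.coe_one])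

theorem mulSelf {v φ : V} (h : φ ⬝ᵥ v = 0) : vecMulVec v φ * vecMulVec v φ = 0 := by
  rw [vecMulVec_mul_vecMulVec, h, zero_smul, vecMulVec_zero]

theorem triple (v φ w ψ : V) :
    vecMulVec v φ * vecMulVec w ψ * vecMulVec v φ = ((φ ⬝ᵥ w) * (ψ ⬝ᵥ v)) • vecMulVec v φ := by
  rw [vecMulVec_mul_vecMulVec, vecMulVec_mul_vecMulVec, smul_dotProduct, smul_eq_mul,
    vecMulVec_smul]

theorem orderOf_eq_two {t : G} (ht : t ∈ tvSet F k) : orderOf t = 2 := by
  obtain ⟨v, φ, hv, hφ, h0, he⟩ := shape ht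
  refine orderOf_eq_prime (Subtype.ext ?_) fun h1 => ?_
  · rw [Matrix.SpecialLinearGroup.coe_pow, he, sq, Matrix.SpecialLinearGroup.coe_one,
      add_mul, mul_add, one_mul, mul_add, one_mul, mul_one, mulSelf h0, add_zero, add_assoc,
      CharTwo.add_self_eq_zero (R := M), add_zero]
  · rw [h1, Matrix.SpecialLinearGroup.coe_one, left_eq_add, vecMulVec_eq_zero] at he
    exact he.elim hv hφ

theorem mul_self_eq_one {t : G} (ht : t ∈ tvSet F k) : t * t = 1 := by
  rw [← sq, ← orderOf_eq_two ht, pow_orderOf_eq_one]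

theorem generates : Subgroup.closure (tvSet F k) = ⊤ := by
  refine PSLSimple.eq_top_of_transvection_mem _ fun i j hij c => ?_
  by_cases hc : c = 0
  · subst hc
    have : Matrix.SpecialLinearGroup.transvection hij (0 : F) = (1 : G) := Subtype.ext (by
      rw [Matrix.SpecialLinearGroup.transvection_coe]; simp)
    rw [this]; exact one_mem _
  refine Subgroup.subset_closure ((mem_iff _).2 ⟨c, hc, ?_⟩)
  obtain ⟨σ, hσ0, hσ1⟩ : ∃ σ : Equiv.Perm (Fin (k + 3)), σ 0 = i ∧ σ 1 = j := by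
    refine ⟨Equiv.swap (Equiv.swap 0 i 1) j * Equiv.swap 0 i, ?_, by simp⟩
    rw [Equiv.Perm.mul_apply, Equiv.swap_apply_left]
    refine Equiv.swap_apply_of_ne_of_ne (fun h => ?_) hij
    have h1 : Equiv.swap 0 i 0 = Equiv.swap 0 i 1 := by rw [Equiv.swap_apply_left, ← h]
    simpa using (Equiv.swap (0 : Fin (k + 3)) i).injective h1
  let P : G := ⟨σ⁻¹.permMatrix F, by
    rw [Matrix.det_permutation]
    rcases Int.units_eq_one_or (Equiv.Perm.sign σ⁻¹) with h | h <;> rw [h] <;> simp [CharTwo.neg_eq]⟩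
  refine ⟨P, ?_⟩
  rw [eq_mul_inv_iff_mul_eq]
  refine Subtype.ext <| Matrix.ext_iff_mulVec.2 fun w => ?_
  ext l
  simp only [T, PSLSimple.mulVec_mul, PSLSimple.transvection_mulVec, Pi.add_apply]
  show (σ⁻¹.permMatrix F *ᵥ w) l + (Pi.single i (c * (σ⁻¹.permMatrix F *ᵥ w) j) : V) l =
    (σ⁻¹.permMatrix F *ᵥ (w + (Pi.single 0 (c * w 1) : V))) l
  simp only [Matrix.permMatrix_mulVec, Function.comp_apply, Pi.add_apply, Pi.single_apply]
  congr 1
  rw [← hσ1, Equiv.Perm.inv_def, Equiv.symm_apply_apply]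
  by_cases hl : l = i
  · subst hl; rw [← hσ0, Equiv.symm_apply_apply, if_pos rfl, if_pos rfl]
  · rw [if_neg hl, if_neg]
    rw [← hσ0] at hl
    exact fun h => hl (by rw [← h, Equiv.apply_symm_apply])

variable [Finite F]

/-- The pair of products, given shapes. -/
theorem cases_of_shape {a b : G} (ha : a ∈ tvSet F k) (hb : b ∈ tvSet F k) :
    a * b = b * a ∨ (orderOf (a * b) = 4 ∧ (a * b) ^ 2 ∈ tvSet F k) ∨
      (Odd (orderOf (a * b)) ∧ (Nat.card F = 2 → (a * b) ^ 3 = 1)) := by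
  obtain ⟨v, φ, hv, hφ, hvφ, hea⟩ := shape ha
  obtain ⟨w, ψ, hw, hψ, hwψ, heb⟩ := shape hb
  set α := φ ⬝ᵥ w with hα
  set β := ψ ⬝ᵥ v with hβ
  set X := vecMulVec v φ
  set Y := vecMulVec w ψ
  have hXX : X * X = 0 := mulSelf hvφ
  have hYY : Y * Y = 0 := mulSelf hwψ
  have hab : ((a * b : G) : M) = 1 + X + Y + X * Y := by
    rw [Matrix.SpecialLinearGroup.coe_mul, hea, heb]; noncomm_ring
  -- the order four case, up to symmetry
  have four : ∀ (v φ w ψ : V) (a b : G), a ∈ tvSet F k → v ≠ 0 → φ ≠ 0 → w ≠ 0 →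
      φ ⬝ᵥ v = 0 → ψ ⬝ᵥ w = 0 → φ ⬝ᵥ w = 0 → ψ ⬝ᵥ v ≠ 0 →
      (a : M) = 1 + vecMulVec v φ → (b : M) = 1 + vecMulVec w ψ →
      (a * b) ^ 2 ∈ tvSet F k ∧ orderOf (a * b) = 4 := by
    intro v φ w ψ a b ha hv hφ hw hvφ hwψ hα hβ hea heb
    have hXY : vecMulVec v φ * vecMulVec w ψ = 0 := by
      rw [vecMulVec_mul_vecMulVec, hα, zero_smul, vecMulVec_zero]
    have hsq : (((a * b) ^ 2 : G) : M) = 1 + (ψ ⬝ᵥ v) • vecMulVec w φ := by
      rw [Matrix.SpecialLinearGroup.coe_pow, Matrix.SpecialLinearGroup.coe_mul, hea, heb, sq]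
      have : (1 + vecMulVec v φ) * (1 + vecMulVec w ψ) = 1 + (vecMulVec v φ + vecMulVec w ψ) := by
        rw [add_mul, one_mul, mul_add, mul_one, hXY, add_zero]; abel
      rw [this, add_mul, one_mul, mul_add, mul_one, add_mul, mul_add, mul_add, mulSelf hvφ,
        mulSelf hwψ, hXY, zero_add, add_zero, zero_add, vecMulVec_mul_vecMulVec, vecMulVec_smul]
      rw [show ∀ Z W : M, 1 + Z + (Z + W) = 1 + (Z + Z) + W from fun Z W => by abel,
        CharTwo.add_self_eq_zero (R := M), add_zero]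
    obtain ⟨l, hl⟩ := Function.ne_iff.1 hw
    set ρ : V := Pi.single l (w l)⁻¹
    have hρ : ρ ⬝ᵥ w = 1 := by
      rw [single_dotProduct, inv_mul_cancel₀ hl]
    set χ : V := ρ + ((1 - ρ ⬝ᵥ v) / (ψ ⬝ᵥ v)) • ψ
    have hχv : χ ⬝ᵥ v = 1 := by
      simp only [χ, add_dotProduct, smul_dotProduct, smul_eq_mul, div_mul_cancel₀ _ hβ]
      ring
    have hχw : χ ⬝ᵥ w = 1 := by
      simp only [χ, add_dotProduct, smul_dotProduct, hwψ, smul_zero, add_zero, hρ]
    have hdet : (1 + vecMulVec (w - v) χ : M).det = 1 := by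
      rw [Matrix.vecMulVec_eq Unit, Matrix.det_one_add_replicateCol_mul_replicateRow,
        dotProduct_sub, hχw, hχv, sub_self, add_zero]
    let s : G := ⟨_, hdet⟩
    have hmem : (a * b) ^ 2 ∈ tvSet F k := by
      obtain ⟨c, hc, g, hg⟩ := (mem_iff a).1 ha
      refine (mem_iff _).2 ⟨(ψ ⬝ᵥ v) * c, mul_ne_zero hβ hc, s * g, ?_⟩
      rw [eq_mul_inv_iff_mul_eq]
      refine Subtype.ext ?_
      rw [Matrix.SpecialLinearGroup.coe_mul, hsq, Matrix.SpecialLinearGroup.coe_mul (s * g), T_coe]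
      have hag : (g : M) * Matrix.single 0 1 c = vecMulVec v φ * (g : M) := by
        have h1 : a * g = g * T c := by rw [hg]; group
        have h2 := congrArg (fun x : G => (x : M)) h1
        simp only [Matrix.SpecialLinearGroup.coe_mul, hea, T_coe, Matrix.transvection, add_mul,
          mul_add, one_mul, mul_one] at h2
        exact (add_left_cancel h2).symm
      have hs : (s : M) * vecMulVec v φ = vecMulVec w φ * (s : M) := by
        show (1 + vecMulVec (w - v) χ) * vecMulVec v φ = vecMulVec w φ * (1 + vecMulVec (w - v) χ)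
        rw [add_mul, one_mul, mul_add, mul_one, vecMulVec_mul_vecMulVec, vecMulVec_mul_vecMulVec,
          hχv, one_smul, dotProduct_sub, hα, hvφ, sub_zero, zero_smul, vecMulVec_zero, add_zero,
          ← add_vecMulVec, add_sub_cancel]
      have hsingle : Matrix.single (0 : Fin (k + 3)) (1 : Fin (k + 3)) ((ψ ⬝ᵥ v) * c) =
          (ψ ⬝ᵥ v) • Matrix.single 0 1 c := by rw [Matrix.smul_single, smul_eq_mul]
      have key : ∀ S' G' : M, G' * Matrix.single (0 : Fin (k + 3)) 1 c = vecMulVec v φ * G' →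
          S' * vecMulVec v φ = vecMulVec w φ * S' →
          (1 + (ψ ⬝ᵥ v) • vecMulVec w φ) * (S' * G') =
            (S' * G') * (1 + Matrix.single 0 1 ((ψ ⬝ᵥ v) * c)) := by
        intro S' G' h1 h2
        rw [hsingle, mul_add, mul_one, Matrix.mul_smul, add_mul, one_mul, Matrix.smul_mul,
          mul_assoc S' G', h1, ← mul_assoc S' (vecMulVec v φ), h2, mul_assoc]
      simp only [Matrix.SpecialLinearGroup.coe_mul]
      exact key _ _ hag hs
    refine ⟨hmem, ?_⟩
    have h2 := orderOf_eq_two hmem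
    have := orderOf_eq_prime_pow (x := a * b) (p := 2) (n := 1)
      (by rw [pow_one]; intro h; rw [h, orderOf_one] at h2; omega)
      (by rw [show 2 ^ (1 + 1) = 2 * 2 from rfl, pow_mul, sq ((a * b) ^ 2), mul_self_eq_one hmem])
    simpa using this
  by_cases hα0 : α = 0
  · by_cases hβ0 : β = 0
    · left
      refine Subtype.ext ?_
      rw [Matrix.SpecialLinearGroup.coe_mul, Matrix.SpecialLinearGroup.coe_mul, hea, heb]
      have h1 : X * Y = 0 := by rw [vecMulVec_mul_vecMulVec, ← hα, hα0, zero_smul, vecMulVec_zero]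
      have h2 : Y * X = 0 := by rw [vecMulVec_mul_vecMulVec, ← hβ, hβ0, zero_smul, vecMulVec_zero]
      rw [add_mul, one_mul, mul_add, mul_one, h1, add_mul, one_mul, mul_add, mul_one, h2]
      abel
    · exact Or.inr (Or.inl (four v φ w ψ a b ha hv hφ hw hvφ hwψ hα0 hβ0 hea heb).symm)
  by_cases hβ0 : β = 0
  · refine Or.inr (Or.inl ?_)
    obtain ⟨h1, h2⟩ := four w ψ v φ b a hb hw hψ hv hwψ hvφ hβ0 hα0 heb hea
    have hinv : (a * b) = (b * a)⁻¹ := by
      rw [_root_.mul_inv_rev, inv_eq_of_mul_eq_one_left (mul_self_eq_one ha),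
        inv_eq_of_mul_eq_one_left (mul_self_eq_one hb)]
    rw [hinv, orderOf_inv, inv_pow, inv_eq_of_mul_eq_one_left (mul_self_eq_one h1)]
    exact ⟨h2, h1⟩
  refine Or.inr (Or.inr ?_)
  set t := α * β
  have ht : t ≠ 0 := mul_ne_zero hα0 hβ0
  have h := cubic_identity hXX hYY (t := t) (triple v φ w ψ)
    ((triple w ψ v φ).trans (by rw [mul_comm]))
  set u : M := ((a * b : G) : M)
  have hN : u - 1 = X + Y + X * Y := by rw [hab]; abel
  have hcub : (u * u + t • u + 1) * (u - 1) = 0 := by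
    rw [← h, hN]
    congr 1
    have h2 : ∀ Z : M, Z + Z = 0 := CharTwo.add_self_eq_zero
    rw [← hN]
    simp only [sub_mul, mul_sub, one_mul, mul_one, smul_sub]
    rw [show u * u - u - (u - 1) + (t • u - t • (1 : M)) + t • (1 : M) =
      u * u + t • u + 1 - (u + u) from by abel, h2, sub_zero]
  have hord : orderOf (a * b) = orderOf u :=
    (orderOf_injective (Matrix.SpecialLinearGroup.toGL.comp (MonoidHom.id G))
      Matrix.SpecialLinearGroup.toGL_injective (a * b)).symm.trans (orderOf_units.symm)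
  have hu : IsUnit u := (Matrix.SpecialLinearGroup.toGL (a * b)).isUnit
  refine ⟨hord ▸ odd_orderOf_of_cubic hu ht hcub, fun hcard => Subtype.ext ?_⟩
  have ht1 : t = 1 := by
    obtain ⟨x, y, hxy, huniv⟩ := Nat.card_eq_two_iff.1 hcard
    have hmem : ∀ z : F, z = x ∨ z = y := fun z => by
      have : z ∈ ({x, y} : Set F) := huniv ▸ Set.mem_univ z
      simpa using this
    rcases hmem t with r | r <;> rcases hmem 1 with s | s <;> rcases hmem 0 with q | q <;>
      first
        | exact r.trans s.symm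
        | exact absurd (r.trans q.symm) ht
        | exact absurd (s.trans q.symm) one_ne_zero
  rw [ht1, one_smul] at hcub
  rw [Matrix.SpecialLinearGroup.coe_pow, Matrix.SpecialLinearGroup.coe_one]
  show u ^ 3 = 1
  refine sub_eq_zero.1 (Eq.trans ?_ hcub)
  noncomm_ring

theorem main [Fintype F] :
    Cfsg.IsRootInvolutionClass (tvSet F k) ∧
      (Fintype.card F = 2 → Cfsg.IsThreeFourPlusTranspositionSet (tvSet F k)) := by
  have hset : Cfsg.IsRootInvolutionSet (tvSet F k) :=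
    ⟨fun d => orderOf_eq_two, generates, fun d hd g => conj_mem hd g, fun a ha b hb => by
      rcases cases_of_shape ha hb with h | h | h
      · exact Or.inl h
      · exact Or.inr (Or.inr h)
      · exact Or.inr (Or.inl h.1)⟩
  refine ⟨⟨hset, ⟨T 1, (mem_iff _).2 ⟨1, one_ne_zero, 1, by simp⟩⟩, fun a ha b hb => conjugate ha hb⟩,
    fun hF => ⟨hset, fun a ha b hb hodd => ?_⟩⟩
  rcases cases_of_shape ha hb with h | h | h
  · left
    have h2 : (a * b) ^ 2 = 1 := by
      rw [sq, mul_assoc, h, ← mul_assoc b, mul_self_eq_one hb, one_mul, mul_self_eq_one ha]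
    rcases (Nat.dvd_prime Nat.prime_two).1 (orderOf_dvd_of_pow_eq_one h2) with r | r
    · exact r
    · rw [r] at hodd; exact absurd hodd (by decide)
  · rw [h.1] at hodd; exact absurd hodd (by decide)
  · exact (Nat.dvd_prime Nat.prime_three).1
      (orderOf_dvd_of_pow_eq_one (h.2 (by rw [Nat.card_eq_fintype_card, hF])))

end Cfsg.Agent.TransvectionRootInvol56
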