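import Mathlib.Data.Nat.Basic

/-!
Tables: images of the basis of the Lie algebra on eight dimensions, matrix units, words.
-/

set_option autoImplicit false

namespace Cfsg.Agent.TriD4Spec63

/-- Images of the basis vectors, as bit sets. -/
def tBits : List ℕ :=
  [9241386435364258305, 18049582881833472, 35253226045440, 35253226045440, 144396663052566528, 288231475663339520, 1152921504623624192, 576460756598390784, 2305843009213759488, 4611686018427388160, 1128098930098176, 4503599660924928, 2251808403619840, 9007199254872064, 17592253153280, 8813272891392, 537919488, 137439477760, 70368744178688, 1073745920, 274877908992, 4202496, 36028797018963970, 140737488355332, 2147483664, 549755813896, 8388640, 32832]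

/-- Matrix units as products. -/
def unitWords : List (List ℕ) :=
  [[0, 23, 8], [22, 1], [0, 23], [0, 25], [0, 24], [0, 26], [23, 21], [22, 27], [1, 9], [0, 18, 13], [0, 18], [0, 20], [0, 19], [0, 21], [9, 27], [1, 27], [1, 8], [3, 13], [1, 8, 23], [1, 17], [1, 16], [8, 26], [3, 21], [1, 26], [3, 6], [3, 11], [6, 23], [3, 6, 25], [6, 24], [6, 26], [3, 19], [3, 24], [3, 7], [3, 12], [7, 23], [7, 25], [3, 7, 24], [7, 26], [3, 20], [3, 25], [1, 5], [3, 10], [5, 23], [1, 15], [1, 14], [1, 5, 26], [3, 18], [1, 23], [1, 4], [4, 22], [0, 10], [0, 12], [0, 11], [0, 13], [0, 10, 21], [1, 22], [4, 9], [4, 1], [0, 5], [0, 7], [0, 6], [0, 8], [5, 21], [0, 5, 26]]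

/-- Generators of a Sylow 3-subgroup. -/
def threeWords : List (ℕ × List ℕ) :=
  [(1, [3, 1, 1, 0, 4, 1, 0, 3, 6, 2, 5, 6, 3, 5, 2, 6, 0, 7, 2, 4, 7, 0, 0, 4]), (7, [3, 3, 2, 3, 7, 6, 2, 3, 0, 0, 0, 1, 6, 0, 5, 7, 5, 7, 4, 4, 3, 0, 7, 4]), (6, [3, 6, 3, 5, 4, 2, 5, 2, 4, 0, 2, 4, 6, 0, 7, 3, 4, 2, 6, 3, 7, 7, 6, 4])]

/-- Generators of a Sylow 7-subgroup. -/
def sevenWords : List (ℕ × List ℕ) :=
  [(1, [0, 6, 1, 6, 5, 7, 7, 1, 5, 3, 2, 5, 2, 7, 0, 2, 7, 7, 1, 0, 1, 1, 6, 0]), (4, [4, 6, 5, 6, 4, 6, 6, 0, 5, 6, 6, 1, 2, 5, 3, 2, 6, 0, 0, 4, 7, 1, 1, 2])]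

/-- An element of order 8. -/
def eightWord : List ℕ :=
  [2, 2, 4, 4, 3, 1, 1, 5, 1, 3, 2, 0, 3, 2, 4, 1, 6, 2, 1, 6, 3, 2, 3, 2]

/-- An element of order 12. -/
def twelveWord : List ℕ :=
  [0, 3, 2, 5, 1, 0, 6, 5, 4, 7, 7, 5, 0, 3, 1, 3, 0, 2, 5, 2, 2, 5, 3, 6]

/-- An element of order 14. -/
def fourteenWord : List ℕ :=
  [7, 6, 7, 7, 2, 4, 4, 7, 0, 5, 6, 6, 2, 5, 5, 6, 1, 7, 7, 6, 3, 3, 4, 0]

/-- An element of order 13. -/
def thirteenWord : List ℕ :=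
  [4, 0, 6, 1, 3, 3, 3, 7, 1, 0, 0, 3, 7, 3, 7, 2, 1, 4, 5, 5, 6, 1, 7, 5]

/-- Generators of a Sylow 2-subgroup along a series. -/
def twoWords : List (List ℕ) :=
  [[0], [1], [2], [3, 0, 3, 0, 3, 0, 3], [3, 0, 3, 1, 3, 0, 3, 2, 3, 0, 3, 1, 3, 0, 3], [3, 0, 3, 1, 3, 0, 3], [3, 0, 3, 2, 3, 0, 3], [3, 0, 3], [3, 1, 3, 2, 3, 1, 3], [3, 1, 3], [3, 2, 3], [3]]

/-- Bits separating the Sylow 2-subgroup. -/
def keyBits : List (ℕ × ℕ) :=
  [(0, 1), (0, 2), (0, 3), (0, 5), (0, 6), (0, 10), (1, 1), (1, 2), (1, 3), (1, 4), (1, 11), (1, 19)]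

end Cfsg.Agent.TriD4Spec63
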