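import Cfsg.Agent.Lib.TriD4Spec63Field
import Cfsg.Agent.Lib.TriD4Spec63Data
import Cfsg.Agent.Lib.TriD4Spec63Factors
import Cfsg.Prelude.Def_LieTwisted

/-!
Kernel-checked tables for `³D₄(2)` on eight dimensions.
-/

set_option autoImplicit false
set_option maxRecDepth 100000

namespace Cfsg.Agent.TriD4Spec63

open Cfsg.Lie Matrix

noncomputable section

/-- A scalar. -/
def diagP (c : F8) : Mat64 :=
  (cond c.b0 9241421688590303745 0, cond c.b1 9241421688590303745 0, cond c.b2 9241421688590303745 0)

theorem toMat_diag (c : F8) : toMat (diagP c) = c • (1 : Matrix (Fin 8) (Fin 8) F8) := by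
  ext i j
  rw [toMat_apply, Matrix.smul_apply, Matrix.one_apply, smul_eq_mul, mul_ite, mul_one, mul_zero]
  revert c i j
  decide +kernel

theorem toMat_scal (c : F8) (A : Mat64) : toMat (mulP (diagP c) A) = c • toMat A := by
  rw [toMat_mul, toMat_diag, smul_mul_assoc, one_mul]

/-- Equality of planes. -/
def eqP (A B : Mat64) : Bool := Nat.beq A.1 B.1 && Nat.beq A.2.1 B.2.1 && Nat.beq A.2.2 B.2.2

theorem eq_of_eqP {A B : Mat64} (h : eqP A B = true) : A = B := by
  simp only [eqP, Bool.and_eq_true, Nat.beq_eq] at h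
  exact Prod.ext h.1.1 (Prod.ext h.1.2 h.2)

/-- All planes below `2 ^ 64`. -/
def bndP (A : Mat64) : Bool :=
  Nat.blt A.1 18446744073709551616 && Nat.blt A.2.1 18446744073709551616 && Nat.blt A.2.2 18446744073709551616

theorem eqP_of_toMat {A B : Mat64} (hA : bndP A = true) (hB : bndP B = true) (h : toMat A = toMat B) :
    eqP A B = true := by
  simp only [bndP, Bool.and_eq_true, Nat.blt_eq] at hA hB
  have key : ∀ (f : F8 → Bool) (a b : ℕ), a < 2 ^ 64 → b < 2 ^ 64 →
      (∀ i j : Fin 8, f (ent A i j) = a.testBit (8 * i + j)) → (∀ i j : Fin 8, f (ent B i j) = b.testBit (8 * i + j)) →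
      a = b := by
    intro f a b ha hb h1 h2
    refine Nat.eq_of_testBit_eq fun n => ?_
    by_cases hn : n < 64
    · have e : n = 8 * ((⟨n / 8, by omega⟩ : Fin 8) : ℕ) + ((⟨n % 8, by omega⟩ : Fin 8) : ℕ) :=
        (Nat.div_add_mod n 8).symm
      rw [e, ← h1, ← h2, ← toMat_apply, ← toMat_apply, h]
    · rw [Nat.testBit_lt_two_pow (lt_of_lt_of_le ha (Nat.pow_le_pow_right (by norm_num) (by omega))),
        Nat.testBit_lt_two_pow (lt_of_lt_of_le hb (Nat.pow_le_pow_right (by norm_num) (by omega)))]
  simp only [eqP, Bool.and_eq_true, Nat.beq_eq]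
  exact ⟨⟨key F8.b0 _ _ hA.1.1 hB.1.1 (fun _ _ => rfl) (fun _ _ => rfl),
    key F8.b1 _ _ hA.1.2 hB.1.2 (fun _ _ => rfl) (fun _ _ => rfl)⟩,
    key F8.b2 _ _ hA.2 hB.2 (fun _ _ => rfl) (fun _ _ => rfl)⟩

/-- A sum of powers. -/
def geomP (A : Mat64) : ℕ → Mat64
  | 0 => (0, 0, 0)
  | n + 1 => addP oneP (mulP A (geomP A n))

theorem toMat_geom (A : Mat64) : ∀ n, toMat (geomP A n) = ∑ i ∈ Finset.range n, toMat A ^ i
  | 0 => by
    rw [Finset.range_zero, Finset.sum_empty]
    exact toMat_eq_zero rfl
  | n + 1 => by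
    rw [geomP, toMat_add, toMat_one, toMat_mul, toMat_geom A n, Finset.sum_range_succ', Finset.mul_sum,
      pow_zero, add_comm]
    simp only [pow_succ']

/-- Right shift of the planes. -/
def shrP (A : Mat64) (k : ℕ) : Mat64 := (A.1 >>> k, A.2.1 >>> k, A.2.2 >>> k)

/-- An outer product of a column and a row. -/
def outP (A : Mat64) (i j : ℕ) : Mat64 := termP (shrP A j) (shrP A (8 * i)) 0

theorem ent_outP (A : Mat64) (i j k l : Fin 8) : ent (outP A i j) k l = ent A k j * ent A i l := by
  rw [outP]
  have h := ent_termP (shrP A j) (shrP A (8 * i)) k l 0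
  rw [Fin.val_zero] at h
  rw [h]
  congr 1
  · simp only [ent, shrP, Nat.testBit_shiftRight, Fin.val_zero, add_zero]
    rw [show (j : ℕ) + 8 * (k : ℕ) = 8 * (k : ℕ) + j by omega]
  · simp only [ent, shrP, Nat.testBit_shiftRight, Fin.val_zero, mul_zero, zero_add]

/-- A scalar multiple, plane by plane. -/
def smulP (c : F8) (A : Mat64) : Mat64 :=
  addP (addP (cond c.b0 A (0, 0, 0)) (cond c.b1 (A.2.2, A.1 ^^^ A.2.2, A.2.1) (0, 0, 0)))
    (cond c.b2 (A.2.1, A.2.1 ^^^ A.2.2, A.1 ^^^ A.2.2) (0, 0, 0))

theorem ent_smulP (c : F8) (A : Mat64) (i j : Fin 8) : ent (smulP c A) i j = c * ent A i j := by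
  obtain ⟨c0, c1, c2⟩ := c
  cases c0 <;> cases c1 <;> cases c2 <;>
    (simp only [smulP, addP, ent, cond, Nat.testBit_xor, Nat.zero_testBit]
     generalize A.1.testBit _ = a0
     generalize A.2.1.testBit _ = a1
     generalize A.2.2.testBit _ = a2
     revert a0 a1 a2
     decide)

/-- Some minor of size two does not vanish. -/
def notLineP (A : Mat64) : Bool :=
  (List.finRange 8).any fun i => ([7, 6, 5, 4, 3, 2, 1, 0] : List (Fin 8)).any fun j =>
    !eqP (outP A i j) (smulP (ent A i j) A)

/-! ### The tables -/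

/-- An image of a basis vector. -/
def tP (k : ℕ) : Mat64 := (tBits.getD k 0, 0, 0)

/-- A root element. -/
def xP (r : ℕ) (t : F8) : Mat64 := addP oneP (mulP (diagP t) (tP (4 + r)))

/-- A word in root elements. -/
def wordP (w : List (ℕ × F8)) : Mat64 := prodP (w.map fun p => xP p.1 p.2)

/-- The parameters. -/
def basisF : List F8 := [⟨true, false, false⟩, ⟨false, true, false⟩, ⟨false, false, true⟩]

/-- The generators. -/
def genWs : List (List (ℕ × F8)) :=
  basisF.map (fun t => [(18, t), (13, t ^ 2), (12, t ^ (2 ^ 2))]) ++ [[(14, 1)]] ++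
    basisF.map (fun t => [(5, t), (10, t ^ 2), (11, t ^ (2 ^ 2))]) ++ [[(9, 1)]]

/-- A generator. -/
def gP (k : ℕ) : Mat64 := wordP (genWs.getD k [])

/-- A word in the generators. -/
def evP (w : List ℕ) : Mat64 := prodP (w.map gP)

/-- All products along subsets. -/
def dblList : List Mat64 → List Mat64
  | [] => [oneP]
  | g :: l => dblList l ++ (dblList l).map (mulP g)

/-- Generators of the Sylow 2-subgroup. -/
def twoGens : List Mat64 := twoWords.map evP

/-- A coset piece of the Sylow 2-subgroup. -/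
def twoChunk (k : ℕ) : List Mat64 :=
  (dblList (twoGens.drop 4)).map (mulP ((dblList (twoGens.take 4)).getD k oneP))

/-- The Sylow 2-subgroup. -/
def twoList : List Mat64 := (List.range 16).flatMap twoChunk

/-- Separating key. -/
def keyP (A : Mat64) : ℕ :=
  keyBits.foldl (fun s p => 2 * s + ([(ent A (Fin.ofNat 8 (p.2 / 8)) (Fin.ofNat 8 p.2)).b0,
    (ent A (Fin.ofNat 8 (p.2 / 8)) (Fin.ofNat 8 p.2)).b1,
    (ent A (Fin.ofNat 8 (p.2 / 8)) (Fin.ofNat 8 p.2)).b2].getD p.1 false).toNat) 0

/-- Generators of the Sylow 3-subgroup. -/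
def threeGens : List Mat64 := threeWords.map fun p => powP (evP p.2) p.1

/-- Generators of the Sylow 7-subgroup. -/
def sevenGens : List Mat64 := sevenWords.map fun p => powP (evP p.2) p.1

/-- The Sylow 3-subgroup. -/
def threeList : List Mat64 :=
  (List.range 9).flatMap fun i => (List.range 3).flatMap fun j => (List.range 3).map fun l =>
    mulP (mulP (powP (threeGens.getD 0 oneP) i) (powP (threeGens.getD 1 oneP) j)) (powP (threeGens.getD 2 oneP) l)

/-- The Sylow 7-subgroup. -/
def sevenList : List Mat64 :=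
  (List.range 7).flatMap fun i => (List.range 7).map fun j =>
    mulP (powP (sevenGens.getD 0 oneP) i) (powP (sevenGens.getD 1 oneP) j)

/-- Closed under right multiplication, bounded, with distinct members and containing one. -/
def subgroupCheck (l gs : List Mat64) : Bool :=
  l.any (eqP oneP) && l.all bndP && (l.all fun x => gs.all fun g => l.any (eqP (mulP x g))) &&
    ((List.range l.length).all fun i => (List.range i).all fun j => !eqP (l.getD i oneP) (l.getD j oneP))

/-- Columns from `r` on vanish; `m` is the mask of these columns in a row. -/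
def colsP (m : ℕ) (A : Mat64) : Bool :=
  Nat.beq (A.1 &&& (72340172838076673 * m)) 0 && Nat.beq (A.2.1 &&& (72340172838076673 * m)) 0 &&
    Nat.beq (A.2.2 &&& (72340172838076673 * m)) 0

/-- The check at an element of the Sylow 3-subgroup. -/
def threeCheck (x : Mat64) (f : List (Mat64 × Mat64)) : Bool :=
  eqP x oneP || (if eqP (powP x 3) oneP then
    notLineP (addP x oneP) &&
      match f with
      | [(A, B)] => eqP (mulP A B) (geomP x 3) && colsP 252 A
      | [(A, B), (A', B')] => eqP (mulP A B) (geomP x 3) && colsP 240 A &&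
          eqP (mulP A' B') (addP (geomP x 3) oneP) && colsP 240 A'
      | _ => false
    else isZeroP (geomP x 9))

/-- The nonzero scalars. -/
def unitsF : List F8 :=
  [⟨true, false, false⟩, ⟨false, true, false⟩, ⟨true, true, false⟩, ⟨false, false, true⟩, ⟨true, false, true⟩,
    ⟨false, true, true⟩, ⟨true, true, true⟩]

/-- The check at an element of the Sylow 7-subgroup. -/
def sevenCheck (x : Mat64) (f : List (Mat64 × Mat64)) : Bool :=
  eqP (powP x 7) oneP && (eqP x oneP ||
    (if f.isEmpty then isZeroP (geomP x 7)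
    else (List.range 7).all fun k =>
      eqP (mulP (f.getD k (oneP, oneP)).1 (f.getD k (oneP, oneP)).2)
          (geomP (mulP (diagP (unitsF.getD k 0)) x) 7) &&
        colsP (if k = 0 then 252 else 254) (f.getD k (oneP, oneP)).1))

/-- The check at an element of the Sylow 2-subgroup. -/
def twoCheck (x : Mat64) : Bool :=
  let n := addP x oneP
  let n2 := mulP n n
  let n3 := mulP n2 n
  isZeroP (mulP (mulP n2 n2) n3) && (isZeroP n3 || notLineP n3) &&
    (isZeroP n || !isZeroP n2 || notLineP n)

/-- The antidiagonal. -/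
def antiP : Mat64 := (((List.range 8).map fun i => 2 ^ (7 * i + 7)).sum, 0, 0)

/-- The coordinates. -/
def idxList : List chevD4.Idx :=
  (List.finRange 4).map Sum.inl ++ (List.finRange 24).map Sum.inr

/-- The number of a coordinate. -/
def idxNum : chevD4.Idx → ℕ
  | Sum.inl i => i
  | Sum.inr r => 4 + r

/-- A combination of images of the basis. -/
def combP (f : chevD4.Idx → F8) : Mat64 :=
  idxList.foldr (fun c acc => if f c = 0 then acc else addP (mulP (diagP (f c)) (tP (idxNum c))) acc) (0, 0, 0)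

/-- The roots in the generating words. -/
def genRoots : List ℕ := [18, 13, 12, 5, 10, 11, 14, 9]

end

end Cfsg.Agent.TriD4Spec63
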