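import Cfsg.Agent.Lib.TriD4Spec63Cert

/-!
The small checks for `³D₄(2)`.
-/

set_option autoImplicit false
set_option maxRecDepth 100000

namespace Cfsg.Agent.TriD4Spec63

open Cfsg.Lie

theorem three_subgroup : subgroupCheck threeList threeGens = true := by decide +kernel

theorem seven_subgroup : subgroupCheck sevenList sevenGens = true := by decide +kernel

theorem three_checks : ∀ k : Fin 81, threeCheck (threeList.getD k oneP) (threeFactors.getD k []) = true := by
  decide +kernel

theorem seven_checks : ∀ k : Fin 49, sevenCheck (sevenList.getD k oneP) (sevenFactors.getD k []) = true := by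
  decide +kernel

theorem thirteen_checks :
    ∀ k : Fin 12, isZeroP (geomP (powP (evP thirteenWord) (k + 1)) 13) = true := by decide +kernel

theorem unit_checks :
    ∀ k : Fin 64, eqP (prodP ((unitWords.getD k []).map tP)) (2 ^ (k : ℕ), 0, 0) = true := by decide +kernel

theorem unit_range : ∀ w ∈ unitWords, ∀ k ∈ w, k < 28 := by decide +kernel

theorem anti_checks :
    ∀ r ∈ genRoots, ∀ t : F8, eqP (mulP (mulP (xP r t) antiP) (xP (23 - r) t)) antiP = true := by decide +kernel

theorem trans_checks : ∀ r ∈ genRoots, ∀ t : F8, ∀ i j : Fin 8, ent (xP (23 - r) t) i j = ent (xP r t) j i := by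
  decide +kernel

theorem invol_checks : ∀ r ∈ genRoots, ∀ t : F8, eqP (mulP (xP r t) (xP r t)) oneP = true := by decide +kernel

theorem inter_checks : ∀ r ∈ genRoots, ∀ t : F8, ∀ c : chevD4.Idx,
    eqP (mulP (xP r t) (tP (idxNum c))) (mulP (combP fun d => chevD4.x F8 r t d c) (xP r t)) = true := by
  decide +kernel

theorem order_checks :
    eqP (powP (evP eightWord) 8) oneP && !eqP (powP (evP eightWord) 4) oneP &&
      eqP (powP (evP twelveWord) 12) oneP && !eqP (powP (evP twelveWord) 6) oneP &&
      !eqP (powP (evP twelveWord) 4) oneP && eqP (powP (evP fourteenWord) 14) oneP &&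
      !eqP (powP (evP fourteenWord) 7) oneP && !eqP (powP (evP fourteenWord) 2) oneP &&
      eqP (powP (evP thirteenWord) 13) oneP && !eqP (evP thirteenWord) oneP = true := by decide +kernel

theorem bound_checks :
    ([oneP, evP thirteenWord, powP (evP thirteenWord) 13] ++
      [8, 4].map (powP (evP eightWord)) ++ [12, 6, 4].map (powP (evP twelveWord)) ++
      [14, 7, 2].map (powP (evP fourteenWord))).all bndP = true := by decide +kernel

theorem upper_checks : ∀ x ∈ twoGens, ∀ i j : Fin 8, (j < i → ent x i j = 0) ∧ (i = j → ent x i j = 1) := by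
  decide +kernel

theorem units_sum : ∀ i : Fin 7, (unitsF.map fun c => c ^ (i : ℕ)).sum = if (i : ℕ) = 0 then 1 else 0 := by
  decide +kernel

end Cfsg.Agent.TriD4Spec63
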