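import Cfsg.Agent.Lib.TriD4Spec63Sylow

/-!
Rank facts at elements of prime power order of `³D₄(2)` on eight dimensions.
-/

set_option autoImplicit false
set_option maxRecDepth 100000

namespace Cfsg.Agent.TriD4Spec63

open Matrix

noncomputable section

/-- Square matrices of size eight. -/
abbrev Mat8 : Type := Matrix (Fin 8) (Fin 8) F8

theorem two_zero_mat : (2 : Mat8) = 0 := by
  rw [← map_ofNat (Matrix.scalar (Fin 8) : F8 →+* Mat8) 2, F8.two_zero, map_zero]

theorem add_self_mat (M : Mat8) : M + M = 0 := by rw [← two_mul, two_zero_mat, zero_mul]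

theorem dbl_lt {s a : ℕ} (w : ℕ) (h : s < 2 ^ a) : dbl w s < 2 ^ (a + w) := by
  refine Nat.or_lt_two_pow (lt_of_lt_of_le h (Nat.pow_le_pow_right (by norm_num) (by omega))) ?_
  rw [Nat.shiftLeft_eq, pow_add]
  exact Nat.mul_lt_mul_of_pos_right h (Nat.two_pow_pos w)

theorem colB_lt (k A : ℕ) : colB k A < 2 ^ 64 :=
  lt_of_lt_of_le (dbl_lt 4 (dbl_lt 2 (dbl_lt 1 (a := 57) (lt_of_le_of_lt Nat.and_le_right (by norm_num)))))
    (by norm_num)

theorem rowB_lt (k B : ℕ) : rowB k B < 2 ^ 64 :=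
  lt_of_lt_of_le (dbl_lt 32 (dbl_lt 16 (dbl_lt 8 (a := 8) (lt_of_le_of_lt Nat.and_le_right (by norm_num)))))
    (by norm_num)

theorem bnd_iff {A : Mat64} : bndP A = true ↔ A.1 < 2 ^ 64 ∧ A.2.1 < 2 ^ 64 ∧ A.2.2 < 2 ^ 64 := by
  simp only [bndP, Bool.and_eq_true, Nat.blt_eq, and_assoc]
  norm_num

theorem bnd_addP {A B : Mat64} (hA : bndP A = true) (hB : bndP B = true) : bndP (addP A B) = true := by
  rw [bnd_iff] at hA hB ⊢
  exact ⟨Nat.xor_lt_two_pow hA.1 hB.1, Nat.xor_lt_two_pow hA.2.1 hB.2.1, Nat.xor_lt_two_pow hA.2.2 hB.2.2⟩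

theorem bnd_termP (A B : Mat64) (k : ℕ) : bndP (termP A B k) = true := by
  rw [bnd_iff]
  have h : ∀ a b, colB k a &&& rowB k b < 2 ^ 64 := fun a b => lt_of_le_of_lt Nat.and_le_left (colB_lt k a)
  refine ⟨?_, ?_, ?_⟩ <;> simp only [termP] <;>
    repeat' first
      | exact h _ _
      | apply Nat.xor_lt_two_pow

theorem bnd_mulP (A B : Mat64) : bndP (mulP A B) = true := by
  simp only [mulP]
  repeat' first
    | exact bnd_termP _ _ _
    | apply bnd_addP

theorem bnd_powP (A : Mat64) : ∀ n, bndP (powP A n) = true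
  | 0 => (by decide +kernel : bndP oneP = true)
  | n + 1 => bnd_mulP _ _

theorem bnd_smulP (c : F8) {A : Mat64} (hA : bndP A = true) : bndP (smulP c A) = true := by
  have hz : bndP (0, 0, 0) = true := by decide +kernel
  have h := bnd_iff.mp hA
  refine bnd_addP (bnd_addP ?_ ?_) ?_
  · cases c.b0 <;> assumption
  · cases c.b1
    · exact hz
    · exact bnd_iff.mpr ⟨h.2.2, Nat.xor_lt_two_pow h.1 h.2.2, h.2.1⟩
  · cases c.b2
    · exact hz
    · exact bnd_iff.mpr ⟨h.2.1, Nat.xor_lt_two_pow h.2.1 h.2.2, Nat.xor_lt_two_pow h.1 h.2.2⟩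

theorem isZeroP_of {A : Mat64} (hA : bndP A = true) (h : toMat A = 0) : isZeroP A = true := by
  have := eqP_of_toMat (B := (0, 0, 0)) hA (by decide +kernel) (h.trans (toMat_eq_zero rfl).symm)
  rw [eq_of_eqP this]
  rfl

theorem eqP_one_of {A : Mat64} (hA : bndP A = true) (h : toMat A = 1) : eqP A oneP = true :=
  eqP_of_toMat hA (by decide +kernel) (h.trans toMat_one.symm)

theorem bnd_outP (A : Mat64) (i j : ℕ) : bndP (outP A i j) = true := bnd_termP _ _ _

theorem one_lt_rank {A : Mat64} (hA : bndP A = true) (h : notLineP A = true) : 1 < (toMat A).rank := by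
  by_contra hle
  rw [not_lt] at hle
  have hr : Module.finrank F8 (LinearMap.range (toMat A).mulVecLin) ≤ 1 := hle
  obtain ⟨v, hv⟩ := finrank_le_one_iff.mp hr
  choose c hc using fun j : Fin 8 => hv ⟨_, LinearMap.mem_range_self (toMat A).mulVecLin (Pi.single j (1 : F8))⟩
  have he : ∀ k j : Fin 8, toMat A k j = c j * (v : Fin 8 → F8) k := fun k j => by
    have := congrArg (fun u : LinearMap.range (toMat A).mulVecLin => (u : Fin 8 → F8) k) (hc j)
    simpa using this.symm
  simp only [notLineP, List.any_eq_true, Bool.not_eq_true'] at h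
  obtain ⟨i, -, j, -, hij⟩ := h
  have := eqP_of_toMat (bnd_outP A i j) (bnd_smulP (ent A i j) hA) (by
    ext k l
    rw [toMat_apply, toMat_apply, ent_outP, ent_smulP, ← toMat_apply, ← toMat_apply, ← toMat_apply, ← toMat_apply]
    rw [he k j, he i l, he i j, he k l]
    ring)
  rw [this] at hij
  exact Bool.noConfusion hij

theorem rank_of_cols {m r : ℕ} (_hr : r ≤ 8)
    (hm : ∀ i j : Fin 8, r ≤ (j : ℕ) → (72340172838076673 * m).testBit (8 * i + j) = true) {A : Mat64}
    (h : colsP m A = true) (B : Mat8) : (toMat A * B).rank ≤ r := by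
  refine (Matrix.rank_mul_le_left _ _).trans ?_
  simp only [colsP, Bool.and_eq_true, Nat.beq_eq] at h
  have hz : ∀ i j : Fin 8, r ≤ (j : ℕ) → toMat A i j = 0 := by
    intro i j hj
    have hb : ∀ a : ℕ, a &&& 72340172838076673 * m = 0 → a.testBit (8 * i + j) = false := fun a ha => by
      have := congrArg (fun n => n.testBit (8 * (i : ℕ) + j)) ha
      simpa [Nat.testBit_and, hm i j hj] using this
    simp only [toMat_apply, ent, hb _ h.1.1, hb _ h.1.2, hb _ h.2]
    rfl
  have hd : toMat A = toMat A * Matrix.diagonal (fun j : Fin 8 => if (j : ℕ) < r then (1 : F8) else 0) := by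
    ext i j
    rw [Matrix.mul_diagonal]
    by_cases hj : (j : ℕ) < r
    · rw [if_pos hj, mul_one]
    · rw [if_neg hj, mul_zero, hz i j (by omega)]
  rw [hd]
  refine (Matrix.rank_mul_le_right _ _).trans ?_
  rw [Matrix.rank_diagonal]
  refine (Fintype.card_le_of_injective (fun x => (⟨(x.1 : ℕ), by
    by_contra hx
    exact x.2 (by simp [hx])⟩ : Fin r)) fun a b h => Subtype.ext (Fin.ext (congrArg Fin.val h :))).trans ?_
  rw [Fintype.card_fin]

theorem masks : (∀ i j : Fin 8, 1 ≤ (j : ℕ) → (72340172838076673 * 254).testBit (8 * i + j) = true) ∧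
    (∀ i j : Fin 8, 2 ≤ (j : ℕ) → (72340172838076673 * 252).testBit (8 * i + j) = true) ∧
    (∀ i j : Fin 8, 4 ≤ (j : ℕ) → (72340172838076673 * 240).testBit (8 * i + j) = true) := by
  decide +kernel

theorem rank_of_factor {m r : ℕ} (hr : r ≤ 8)
    (hm : ∀ i j : Fin 8, r ≤ (j : ℕ) → (72340172838076673 * m).testBit (8 * i + j) = true) {A B C : Mat64}
    (h : colsP m A = true) (he : eqP (mulP A B) C = true) : (toMat C).rank ≤ r := by
  rw [← eq_of_eqP he, toMat_mul]
  exact rank_of_cols hr hm h _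

/-- Conjugation. -/
def cj (c : GL8) : Mat8 ≃+* Mat8 where
  toFun M := mx c * M * mx c⁻¹
  invFun M := mx c⁻¹ * M * mx c
  left_inv M := by simp [mx, mul_assoc]
  right_inv M := by simp [mx, mul_assoc]
  map_mul' M N := by simp [mx, mul_assoc]
  map_add' M N := by simp [mul_add, add_mul]

theorem cj_mx (c g : GL8) : cj c (mx g) = mx (c * g * c⁻¹) := by simp [cj, mx]

theorem cj_smul (c : GL8) (a : F8) (M : Mat8) : cj c (a • M) = a • cj c M := by
  simp [cj]

theorem rank_cj (c : GL8) (M : Mat8) : (cj c M).rank = M.rank := by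
  refine le_antisymm ((Matrix.rank_mul_le_left _ _).trans (Matrix.rank_mul_le_right _ _)) ?_
  have : M = mx c⁻¹ * cj c M * mx c := ((cj c).symm_apply_apply M).symm
  calc M.rank = (mx c⁻¹ * cj c M * mx c).rank := congrArg Matrix.rank this
    _ ≤ _ := (Matrix.rank_mul_le_left _ _).trans (Matrix.rank_mul_le_right _ _)

instance : Fact (Nat.Prime 7) := ⟨by norm_num⟩
instance : Fact (Nat.Prime 13) := ⟨by norm_num⟩

theorem two_facts {g : GL8} (hg : g ∈ LG) {k : ℕ} (hk : g ^ 2 ^ k = 1) :
    (mx g + 1) ^ 7 = 0 ∧ ((mx g + 1) ^ 3 = 0 ∨ 1 < ((mx g + 1) ^ 3).rank) ∧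
      ((mx g + 1) ^ 2 = 0 → mx g + 1 = 0 ∨ 1 < (mx g + 1).rank) := by
  obtain ⟨c, x, hx, e⟩ := conj_into inL_two two_subgroup.1 factorization_vals.1 two_subgroup.2 hg hk
  have hn : cj c (mx g + 1) = toMat (addP x oneP) := by rw [map_add, map_one, cj_mx, e, toMat_add, toMat_one]
  have hb : bndP x = true := by
    simp only [twoList, twoChunk, List.mem_flatMap, List.mem_map] at hx
    obtain ⟨_, -, y, -, rfl⟩ := hx
    exact bnd_mulP _ _
  have hbn : bndP (addP x oneP) = true := bnd_addP hb (by decide +kernel)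
  have h := two_checks x hx
  simp only [twoCheck, Bool.and_eq_true, Bool.or_eq_true, Bool.not_eq_true'] at h
  generalize addP x oneP = n at hn hbn h
  obtain ⟨⟨h7, h3⟩, h1⟩ := h
  have h7' := toMat_eq_zero h7
  simp only [toMat_mul] at h7'
  have e3 : toMat (mulP (mulP n n) n) = cj c ((mx g + 1) ^ 3) := by
    rw [toMat_mul, toMat_mul, map_pow, hn, pow_succ, pow_succ, pow_one]
  refine ⟨?_, ?_, ?_⟩
  · apply (cj c).injective
    rw [map_pow, hn, map_zero, ← h7']
    simp only [pow_succ, pow_zero, one_mul, mul_assoc]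
  · rcases h3 with h3 | h3
    · left
      apply (cj c).injective
      rw [map_zero, ← e3]
      exact toMat_eq_zero h3
    · right
      rw [← rank_cj c, ← e3]
      exact one_lt_rank (bnd_mulP _ _) h3
  · intro hsq
    rcases h1 with (h1 | h1) | h1
    · left
      apply (cj c).injective
      rw [hn, map_zero]
      exact toMat_eq_zero h1
    · exfalso
      have := isZeroP_of (bnd_mulP n n) (by rw [toMat_mul, ← hn, ← map_mul, ← pow_two, hsq, map_zero])
      rw [this] at h1
      exact Bool.noConfusion h1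
    · right
      rw [← rank_cj c, hn]
      exact one_lt_rank hbn h1

theorem three_facts {g : GL8} (hg : g ∈ LG) {k : ℕ} (hk : g ^ 3 ^ k = 1) :
    (g ^ 3 ≠ 1 → ∑ i ∈ Finset.range 9, mx g ^ i = 0) ∧
      (g ^ 3 = 1 → g ≠ 1 → 1 < (mx g + 1).rank ∧
        ((∑ i ∈ Finset.range 3, mx g ^ i).rank ≤ 2 ∨
          ((∑ i ∈ Finset.range 3, mx g ^ i).rank ≤ 4 ∧ (∑ i ∈ Finset.range 3, mx g ^ i + 1).rank ≤ 4))) := by
  obtain ⟨hcard, hlist⟩ := check_subgroup threeList_mem three_subgroup
  have hlen : threeList.length = 81 := by decide +kernel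
  obtain ⟨c, x, hx, e⟩ := conj_into inL_three (by rw [hcard, hlen]; norm_num : _ = 3 ^ 4)
    factorization_vals.2.1 hlist hg hk
  obtain ⟨i, hi⟩ := List.get_of_mem hx
  have hget : threeList.getD i oneP = x := by rw [List.getD_eq_getElem _ _ i.isLt]; exact hi
  have h := three_checks ⟨i, hlen ▸ i.isLt⟩
  simp only [hget] at h
  generalize threeFactors.getD i [] = f at h
  have hb : bndP x = true := by
    simp only [threeList, List.mem_flatMap, List.mem_map] at hx
    obtain ⟨_, -, _, -, _, -, rfl⟩ := hx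
    exact bnd_mulP _ _
  have hgeom : ∀ n, cj c (∑ i ∈ Finset.range n, mx g ^ i) = toMat (geomP x n) := fun n => by
    simp only [map_sum, map_pow, cj_mx, e, toMat_geom]
  have hpow : ∀ n, (g ^ n = 1 ↔ toMat x ^ n = 1) := fun n => by
    rw [← e, ← cj_mx, ← map_pow, map_eq_one_iff (cj c) (cj c).injective, mx, ← Units.val_pow_eq_pow_val,
      Units.val_eq_one]
  simp only [threeCheck, Bool.or_eq_true] at h
  constructor
  · intro h3
    rcases h with h | h
    · exfalso
      refine h3 ((hpow 3).2 ?_)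
      rw [eq_of_eqP h, toMat_one, one_pow]
    · split_ifs at h with hq
      · exfalso
        refine h3 ((hpow 3).2 ?_)
        rw [← toMat_pow, eq_of_eqP hq, toMat_one]
      · apply (cj c).injective
        rw [hgeom, map_zero]
        exact toMat_eq_zero h
  · intro h3 h1
    rcases h with h | h
    · exfalso
      refine h1 (pow_one g ▸ (hpow 1).2 ?_)
      rw [eq_of_eqP h, toMat_one, one_pow]
    rw [if_pos (eqP_one_of (bnd_powP x 3) (by rw [toMat_pow]; exact (hpow 3).1 h3)), Bool.and_eq_true] at h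
    obtain ⟨hl, hf⟩ := h
    refine ⟨by rw [← rank_cj c, map_add, map_one, cj_mx, e, ← toMat_one, ← toMat_add]; exact one_lt_rank (bnd_addP hb (by decide +kernel)) hl, ?_⟩
    rw [← rank_cj c, ← rank_cj c (_ + 1), map_add, map_one, hgeom]
    match f with
    | [] => simp at hf
    | [(A, B)] =>
      simp only [Bool.and_eq_true] at hf
      exact Or.inl (rank_of_factor (by norm_num) masks.2.1 hf.2 hf.1)
    | [(A, B), (A', B')] =>
      simp only [Bool.and_eq_true] at hf
      obtain ⟨⟨⟨hA, hA'⟩, hB⟩, hB'⟩ := hf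
      refine Or.inr ⟨rank_of_factor (by norm_num) masks.2.2 hA' hA, ?_⟩
      rw [← toMat_one, ← toMat_add]
      exact rank_of_factor (by norm_num) masks.2.2 hB' hB
    | _ :: _ :: _ :: _ => simp at hf

theorem unitsF_index : ∀ a : F8, a ≠ 0 → ∃ k : Fin 7, unitsF.getD k 0 = a ∧ ((k : ℕ) = 0 → a = 1) := by
  decide +kernel

theorem seven_facts {g : GL8} (hg : g ∈ LG) {k : ℕ} (hk : g ^ 7 ^ k = 1) :
    g ^ 7 = 1 ∧ (g ≠ 1 → ∑ i ∈ Finset.range 7, mx g ^ i ≠ 0 →
      (∑ i ∈ Finset.range 7, mx g ^ i).rank ≤ 2 ∧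
        ∀ a : F8, a ≠ 0 → a ≠ 1 → (∑ i ∈ Finset.range 7, (a • mx g) ^ i).rank ≤ 1) := by
  obtain ⟨hcard, hlist⟩ := check_subgroup sevenList_mem seven_subgroup
  have hlen : sevenList.length = 49 := by decide +kernel
  obtain ⟨c, x, hx, e⟩ := conj_into inL_seven (by rw [hcard, hlen]; norm_num : _ = 7 ^ 2)
    factorization_vals.2.2.1 hlist hg hk
  obtain ⟨i, hi⟩ := List.get_of_mem hx
  have hget : sevenList.getD i oneP = x := by rw [List.getD_eq_getElem _ _ i.isLt]; exact hi
  have h := seven_checks ⟨i, hlen ▸ i.isLt⟩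
  simp only [hget] at h
  generalize sevenFactors.getD i [] = f at h
  simp only [sevenCheck, Bool.and_eq_true, Bool.or_eq_true] at h
  obtain ⟨h7, h⟩ := h
  have hpow : ∀ n, (g ^ n = 1 ↔ toMat x ^ n = 1) := fun n => by
    rw [← e, ← cj_mx, ← map_pow, map_eq_one_iff (cj c) (cj c).injective, mx, ← Units.val_pow_eq_pow_val,
      Units.val_eq_one]
  refine ⟨(hpow 7).2 (by rw [← toMat_pow, eq_of_eqP h7, toMat_one]), fun h1 hne => ?_⟩
  rcases h with h | h
  · exfalso
    refine h1 (pow_one g ▸ (hpow 1).2 ?_)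
    rw [eq_of_eqP h, toMat_one, one_pow]
  have hgeom : ∀ a : F8, cj c (∑ i ∈ Finset.range 7, (a • mx g) ^ i) = toMat (geomP (mulP (diagP a) x) 7) :=
    fun a => by simp only [map_sum, map_pow, cj_smul, cj_mx, e, toMat_geom, toMat_scal]
  split_ifs at h with hq
  · exfalso
    refine hne ((cj c).injective ?_)
    rw [map_zero, ← toMat_eq_zero h]
    simp only [map_sum, map_pow, cj_mx, e, toMat_geom]
  · simp only [List.all_eq_true, List.mem_range, Bool.and_eq_true] at h
    constructor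
    · obtain ⟨ha, hb⟩ := h 0 (by norm_num)
      rw [if_pos rfl] at hb
      have := rank_of_factor (by norm_num) masks.2.1 hb ha
      rw [show unitsF.getD 0 0 = 1 from rfl, ← hgeom, one_smul, rank_cj] at this
      exact this
    · intro a ha0 ha1
      obtain ⟨k, hk, hk0⟩ := unitsF_index a ha0
      obtain ⟨ha, hb⟩ := h k k.isLt
      rw [if_neg (fun h0 => ha1 (hk0 h0))] at hb
      have := rank_of_factor (by norm_num) masks.1 hb ha
      rwa [hk, ← hgeom, rank_cj] at this

theorem thirteen_facts {g : GL8} (hg : g ∈ LG) (h13 : g ^ 13 = 1) (h1 : g ≠ 1) :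
    ∑ i ∈ Finset.range 13, mx g ^ i = 0 := by
  obtain ⟨t, ht, et⟩ := inL_evP thirteenWord
  have hc := order_checks
  simp only [Bool.and_eq_true, Bool.not_eq_true'] at hc
  have ht13 : t ^ 13 = 1 := Units.ext (by
    rw [Units.val_pow_eq_pow_val, et, ← toMat_pow, eq_of_eqP hc.1.2,
      toMat_one, Units.val_one])
  have ht1 : t ≠ 1 := fun h => by
    rw [h, Units.val_one, ← toMat_one] at et
    have := eqP_of_toMat (A := evP thirteenWord) (B := oneP) (by decide +kernel) (by decide +kernel) et.symm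
    exact Bool.noConfusion (this.symm.trans hc.2)
  have hord : orderOf (⟨t, ht⟩ : ↥LG) = 13 :=
    orderOf_eq_prime (Subtype.ext (by simpa using ht13)) (fun h => ht1 (congrArg Subtype.val h))
  have hS : Nat.card ↥(Subgroup.zpowers (⟨t, ht⟩ : ↥LG)) = 13 ^ (Nat.card ↥LG).factorization 13 := by
    rw [Nat.card_zpowers, hord, card_LG, factorization_vals.2.2.2, pow_one]
  obtain ⟨c, hc'⟩ := exists_conj_mem (k := 1) hS (g := ⟨g, hg⟩) (Subtype.ext (by simpa using h13))
  rw [mem_zpowers_iff_mem_range_orderOf, hord] at hc'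
  simp only [Finset.mem_image, Finset.mem_range] at hc'
  obtain ⟨j, hj, ej⟩ := hc'
  have ej' : t ^ j = (c : GL8) * g * (c : GL8)⁻¹ := by simpa using congrArg Subtype.val ej
  cases j with
  | zero =>
    exfalso
    rw [pow_zero, eq_comm, mul_inv_eq_one] at ej'
    exact h1 (mul_left_cancel (ej'.trans (mul_one _).symm))
  | succ j =>
    apply (cj (c : GL8)).injective
    rw [map_zero, ← toMat_eq_zero (thirteen_checks ⟨j, by omega⟩)]
    rw [map_sum, toMat_geom]
    refine Finset.sum_congr rfl fun i _ => ?_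
    rw [map_pow, cj_mx, ← ej', toMat_pow, mx, Units.val_pow_eq_pow_val, et]

end

end Cfsg.Agent.TriD4Spec63
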