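import Mathlib

/-!
The field with eight elements on bit triples, and eight by eight matrices over it stored as three bit planes.
-/

set_option autoImplicit false

namespace Cfsg.Agent.TriD4Spec63

open Matrix

/-- A bit triple: b0 + b1 x + b2 x^2 with x^3 = x + 1. -/
structure F8 where
  b0 : Bool
  b1 : Bool
  b2 : Bool
  deriving DecidableEq, Fintype

namespace F8

/-- Sum. -/
def add' (a b : F8) : F8 := ⟨Bool.xor a.b0 b.b0, Bool.xor a.b1 b.b1, Bool.xor a.b2 b.b2⟩

/-- Product. -/
def mul' (a b : F8) : F8 :=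
  let c0 := a.b0 && b.b0
  let c1 := Bool.xor (a.b0 && b.b1) (a.b1 && b.b0)
  let c2 := Bool.xor (Bool.xor (a.b0 && b.b2) (a.b1 && b.b1)) (a.b2 && b.b0)
  let c3 := Bool.xor (a.b1 && b.b2) (a.b2 && b.b1)
  let c4 := a.b2 && b.b2
  ⟨Bool.xor c0 c3, Bool.xor (Bool.xor c1 c3) c4, Bool.xor c2 c4⟩

instance : Add F8 := ⟨add'⟩
instance : Mul F8 := ⟨mul'⟩
instance : Neg F8 := ⟨id⟩
instance : Zero F8 := ⟨⟨false, false, false⟩⟩
instance : One F8 := ⟨⟨true, false, false⟩⟩

instance instCommRing : CommRing F8 :=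
  CommRing.ofMinimalAxioms (by decide +kernel) (by decide +kernel) (by decide +kernel) (by decide +kernel)
    (by decide +kernel) (by decide +kernel) (by decide +kernel)

/-- Inverse: the sixth power. -/
def inv' (a : F8) : F8 := (a * a) * ((a * a) * (a * a))

theorem mul_inv' : ∀ a : F8, a ≠ 0 → a * inv' a = 1 := by decide +kernel

noncomputable instance instField : Field F8 :=
  { instCommRing with
    inv := inv'
    mul_inv_cancel := mul_inv'
    inv_zero := by decide +kernel
    exists_pair_ne := ⟨0, 1, by decide +kernel⟩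
    nnqsmul := _
    qsmul := _ }

theorem card_eq : Fintype.card F8 = 8 := by decide +kernel

theorem two_zero : (2 : F8) = 0 := by decide +kernel

instance : CharP F8 2 := CharTwo.of_one_ne_zero_of_two_eq_zero one_ne_zero two_zero

theorem pow_seven : ∀ a : F8, a ≠ 0 → a ^ 7 = 1 := by decide +kernel

theorem cube_one : ∀ a : F8, a ^ 3 = 1 → a = 1 := by decide +kernel

end F8

/-! ### Bit planes -/

/-- Three planes of sixty-four bits. -/
abbrev Mat64 : Type := ℕ × ℕ × ℕ

/-- Entry. -/
def ent (A : Mat64) (i j : Fin 8) : F8 :=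
  ⟨A.1.testBit (8 * i + j), A.2.1.testBit (8 * i + j), A.2.2.testBit (8 * i + j)⟩

/-- The matrix. -/
def toMat (A : Mat64) : Matrix (Fin 8) (Fin 8) F8 := Matrix.of (ent A)

theorem toMat_apply (A : Mat64) (i j : Fin 8) : toMat A i j = ent A i j := rfl

/-- Doubling a support. -/
def dbl (w s : ℕ) : ℕ := s ||| (s <<< w)

/-- A column repeated along the rows. -/
def colB (k A : ℕ) : ℕ := dbl 4 (dbl 2 (dbl 1 ((A >>> k) &&& 72340172838076673)))

/-- A row repeated along the columns. -/
def rowB (k B : ℕ) : ℕ := dbl 32 (dbl 16 (dbl 8 ((B >>> (8 * k)) &&& 255)))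

theorem dbl_col {s w : ℕ} {f : ℕ → Bool} (hw : 2 * w ≤ 8)
    (h : ∀ n < 64, s.testBit n = (decide (n % 8 < w) && f (n / 8))) :
    ∀ n < 64, (dbl w s).testBit n = (decide (n % 8 < 2 * w) && f (n / 8)) := by
  intro n hn
  rw [dbl, Nat.testBit_or, Nat.testBit_shiftLeft, h n hn]
  by_cases h1 : w ≤ n
  · rw [h (n - w) (by omega), decide_eq_true h1, Bool.true_and]
    by_cases h2 : n % 8 < w
    · rw [decide_eq_true h2, decide_eq_true (show n % 8 < 2 * w by omega)]
      by_cases h3 : (n - w) % 8 < w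
      · omega
      · rw [decide_eq_false h3]; simp
    · rw [decide_eq_false h2, Bool.false_and, Bool.false_or,
        show (n - w) % 8 = n % 8 - w by omega, show (n - w) / 8 = n / 8 by omega]
      congr 1
      exact decide_eq_decide.mpr ⟨fun _ => by omega, fun _ => by omega⟩
  · rw [decide_eq_false h1, Bool.false_and, Bool.or_false,
      decide_eq_true (show n % 8 < w by omega), decide_eq_true (show n % 8 < 2 * w by omega)]

theorem dbl_row {s w : ℕ} {f : ℕ → Bool} (hw : 8 ∣ w)
    (h : ∀ n < 64, s.testBit n = (decide (n < w) && f (n % 8))) :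
    ∀ n < 64, (dbl w s).testBit n = (decide (n < 2 * w) && f (n % 8)) := by
  intro n hn
  rw [dbl, Nat.testBit_or, Nat.testBit_shiftLeft, h n hn]
  by_cases h1 : w ≤ n
  · rw [h (n - w) (by omega), decide_eq_true h1, Bool.true_and, decide_eq_false (show ¬ n < w by omega),
      Bool.false_and, Bool.false_or, show (n - w) % 8 = n % 8 by omega]
    congr 1
    exact decide_eq_decide.mpr ⟨fun _ => by omega, fun _ => by omega⟩
  · rw [decide_eq_false h1, Bool.false_and, Bool.or_false,
      decide_eq_true (show n < w by omega), decide_eq_true (show n < 2 * w by omega)]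

theorem ones_bit : ∀ m : Fin 64, (72340172838076673 : ℕ).testBit m = decide ((m : ℕ) % 8 < 1) := by decide +kernel

theorem byte_bit : ∀ m : Fin 64, (255 : ℕ).testBit m = decide ((m : ℕ) < 8) := by decide +kernel

theorem testBit_colB (A : ℕ) (i j k : Fin 8) :
    (colB k A).testBit (8 * i + j) = A.testBit (8 * i + k) := by
  have h0 : ∀ n < 64, ((A >>> (k : ℕ)) &&& 72340172838076673).testBit n =
      (decide (n % 8 < 1) && (fun r => A.testBit (8 * r + k)) (n / 8)) := by
    intro n hn
    rw [Nat.testBit_and, Nat.testBit_shiftRight, ones_bit ⟨n, hn⟩, Bool.and_comm]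
    by_cases h1 : n % 8 < 1
    · rw [show (k : ℕ) + n = 8 * (n / 8) + k by omega]
    · simp only [decide_eq_false h1, Bool.false_and]
  have h1 := dbl_col (f := (fun r => A.testBit (8 * r + k))) (w := 1) (by norm_num) h0
  have h2 := dbl_col (f := (fun r => A.testBit (8 * r + k))) (w := 2) (by norm_num) h1
  have h3 := dbl_col (f := (fun r => A.testBit (8 * r + k))) (w := 4) (by norm_num) h2 (8 * i + j)
    (by have := i.isLt; have := j.isLt; omega)
  rw [colB]
  refine h3.trans ?_
  rw [decide_eq_true (show (8 * (i : ℕ) + j) % 8 < 2 * 4 by omega), Bool.true_and]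
  simp only [show (8 * (i : ℕ) + j) / 8 = i by have := j.isLt; omega]

theorem testBit_rowB (B : ℕ) (i j k : Fin 8) :
    (rowB k B).testBit (8 * i + j) = B.testBit (8 * k + j) := by
  have h0 : ∀ n < 64, ((B >>> (8 * (k : ℕ))) &&& 255).testBit n =
      (decide (n < 8) && (fun r => B.testBit (8 * k + r)) (n % 8)) := by
    intro n hn
    rw [Nat.testBit_and, Nat.testBit_shiftRight, byte_bit ⟨n, hn⟩, Bool.and_comm]
    by_cases h1 : n < 8
    · simp only [Nat.mod_eq_of_lt h1]
    · simp only [decide_eq_false h1, Bool.false_and]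
  have h1 := dbl_row (f := (fun r => B.testBit (8 * k + r))) (w := 8) (by norm_num) h0
  have h2 := dbl_row (f := (fun r => B.testBit (8 * k + r))) (w := 16) (by norm_num) h1
  have h3 := dbl_row (f := (fun r => B.testBit (8 * k + r))) (w := 32) (by norm_num) h2 (8 * i + j)
    (by have := i.isLt; have := j.isLt; omega)
  rw [rowB]
  refine h3.trans ?_
  rw [decide_eq_true (show 8 * (i : ℕ) + j < 2 * 32 by have := i.isLt; have := j.isLt; omega),
    Bool.true_and]
  simp only [show (8 * (i : ℕ) + j) % 8 = j by have := j.isLt; omega]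

/-- Sum. -/
def addP (A B : Mat64) : Mat64 := (A.1 ^^^ B.1, A.2.1 ^^^ B.2.1, A.2.2 ^^^ B.2.2)

theorem ent_addP (A B : Mat64) (i j : Fin 8) : ent (addP A B) i j = ent A i j + ent B i j := by
  simp only [ent, addP, Nat.testBit_xor]
  rfl

theorem toMat_add (A B : Mat64) : toMat (addP A B) = toMat A + toMat B := by
  ext i j
  exact ent_addP A B i j

/-- A summand of the product. -/
def termP (A B : Mat64) (k : ℕ) : Mat64 :=
  let a0 := colB k A.1
  let a1 := colB k A.2.1
  let a2 := colB k A.2.2
  let b0 := rowB k B.1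
  let b1 := rowB k B.2.1
  let b2 := rowB k B.2.2
  let c3 := (a1 &&& b2) ^^^ (a2 &&& b1)
  let c4 := a2 &&& b2
  ((a0 &&& b0) ^^^ c3, (((a0 &&& b1) ^^^ (a1 &&& b0)) ^^^ c3) ^^^ c4,
    (((a0 &&& b2) ^^^ (a1 &&& b1)) ^^^ (a2 &&& b0)) ^^^ c4)

theorem ent_termP (A B : Mat64) (i j k : Fin 8) : ent (termP A B k) i j = ent A i k * ent B k j := by
  simp only [ent, termP, Nat.testBit_xor, Nat.testBit_and, testBit_colB, testBit_rowB]
  rfl

/-- Product. -/
def mulP (A B : Mat64) : Mat64 :=
  addP (addP (addP (addP (addP (addP (addP (termP A B 0) (termP A B 1)) (termP A B 2)) (termP A B 3))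
    (termP A B 4)) (termP A B 5)) (termP A B 6)) (termP A B 7)

theorem toMat_mul (A B : Mat64) : toMat (mulP A B) = toMat A * toMat B := by
  ext i j
  rw [Matrix.mul_apply, Fin.sum_univ_eight]
  simp only [toMat_apply, mulP, ent_addP, ← ent_termP]
  rfl

/-- The identity. -/
def oneP : Mat64 := (9241421688590303745, 0, 0)

theorem toMat_one : toMat oneP = 1 := by
  ext i j
  rw [toMat_apply, Matrix.one_apply]
  revert i j
  decide +kernel

/-- Powers. -/
def powP (A : Mat64) : ℕ → Mat64
  | 0 => oneP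
  | n + 1 => mulP (powP A n) A

theorem toMat_pow (A : Mat64) : ∀ n, toMat (powP A n) = toMat A ^ n
  | 0 => by rw [powP, toMat_one, pow_zero]
  | n + 1 => by rw [powP, toMat_mul, toMat_pow A n, pow_succ]

/-- A product along a list. -/
def prodP (l : List Mat64) : Mat64 := l.foldr mulP oneP

theorem toMat_prod : ∀ l : List Mat64, toMat (prodP l) = (l.map toMat).prod
  | [] => by rw [prodP, List.foldr_nil, toMat_one]; rfl
  | a :: l => by
    rw [prodP, List.foldr_cons, toMat_mul, ← prodP, toMat_prod l, List.map_cons, List.prod_cons]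

theorem eq_of_bits {A : Mat64} (h : ∀ i j : Fin 8, ent A i j = 0) : toMat A = 0 := by
  ext i j
  exact h i j

/-- All entries vanish. -/
def isZeroP (A : Mat64) : Bool := Nat.beq A.1 0 && Nat.beq A.2.1 0 && Nat.beq A.2.2 0

theorem toMat_eq_zero {A : Mat64} (h : isZeroP A = true) : toMat A = 0 := by
  simp only [isZeroP, Bool.and_eq_true, Nat.beq_eq] at h
  obtain ⟨⟨h1, h2⟩, h3⟩ := h
  refine eq_of_bits fun i j => ?_
  simp only [ent, h1, h2, h3, Nat.zero_testBit]
  rfl

end Cfsg.Agent.TriD4Spec63
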