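import Cfsg.Agent.Lib.TriD4Spec63Checks
import Cfsg.Agent.Lib.TwistedD4Simple

/-!
`³D₄(2)` as a group on eight dimensions over the field with eight elements.
-/

set_option autoImplicit false
set_option maxRecDepth 100000

namespace Cfsg.Agent.TriD4Spec63

open Cfsg.Lie Matrix Cfsg.Agent.ChevalleyCore Cfsg.Agent.TwistedTools

noncomputable section

/-- The general linear group on eight dimensions. -/
abbrev GL8 : Type := GL (Fin 8) F8

/-- A root element as a unit. -/
def aG (r : ℕ) (t : F8) : GL8 :=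
  if h : eqP (mulP (xP r t) (xP r t)) oneP = true then
    ⟨toMat (xP r t), toMat (xP r t), by rw [← toMat_mul, eq_of_eqP h, toMat_one],
      by rw [← toMat_mul, eq_of_eqP h, toMat_one]⟩
  else 1

theorem coe_aG {r : ℕ} (hr : r ∈ genRoots) (t : F8) : (aG r t : Matrix (Fin 8) (Fin 8) F8) = toMat (xP r t) := by
  rw [aG, dif_pos (invol_checks r hr t)]

/-- A word in root elements as a unit. -/
def aW (w : List (ℕ × F8)) : GL8 := (w.map fun p => aG p.1 p.2).prod

theorem coe_aW : ∀ {w : List (ℕ × F8)}, (∀ p ∈ w, p.1 ∈ genRoots) →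
    (aW w : Matrix (Fin 8) (Fin 8) F8) = toMat (wordP w)
  | [], _ => by simp [aW, wordP, prodP, toMat_one]
  | p :: w, h => by
    have ih := coe_aW (w := w) fun q hq => h q (List.mem_cons_of_mem _ hq)
    simp only [aW, wordP, List.map_cons, List.prod_cons, prodP, List.foldr_cons, toMat_mul,
      Units.val_mul] at ih ⊢
    rw [ih, coe_aG (h p List.mem_cons_self)]

/-- The image of a basis vector. -/
def tM (c : chevD4.Idx) : Matrix (Fin 8) (Fin 8) F8 := toMat (tP (idxNum c))

theorem toMat_comb (f : chevD4.Idx → F8) : toMat (combP f) = ∑ c, f c • tM c := by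
  have h : ∀ l : List chevD4.Idx, toMat (l.foldr (fun c acc => if f c = 0 then acc
      else addP (mulP (diagP (f c)) (tP (idxNum c))) acc) (0, 0, 0)) = (l.map fun c => f c • tM c).sum := by
    intro l
    induction l with
    | nil => exact toMat_eq_zero rfl
    | cons c l ih =>
      rw [List.foldr_cons, List.map_cons, List.sum_cons]
      by_cases hc : f c = 0
      · rw [if_pos hc, ih, hc, zero_smul, zero_add]
      · rw [if_neg hc, toMat_add, toMat_scal, ih, tM]
  rw [combP, h, idxList, Fintype.sum_sum_type, Fin.sum_univ_def, Fin.sum_univ_def]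
  erw [List.map_append, List.sum_append, List.map_map, List.map_map]

/-- The pair respects the images of the basis and the form. -/
def Good (p : GL8 × GL chevD4.Idx F8) : Prop :=
  (∀ c, (p.1 : Matrix (Fin 8) (Fin 8) F8) * tM c =
      (∑ d, (p.2 : Matrix chevD4.Idx chevD4.Idx F8) d c • tM d) * (p.1 : Matrix (Fin 8) (Fin 8) F8)) ∧
    (p.1 : Matrix (Fin 8) (Fin 8) F8) * toMat antiP * (p.1 : Matrix (Fin 8) (Fin 8) F8).transpose = toMat antiP

theorem good_one : Good 1 := by
  refine ⟨fun c => ?_, by simp⟩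
  simp [Matrix.one_apply]

theorem good_mul {p q : GL8 × GL chevD4.Idx F8} (hp : Good p) (hq : Good q) : Good (p * q) := by
  constructor
  · intro c
    simp only [Prod.fst_mul, Prod.snd_mul, Units.val_mul]
    rw [mul_assoc, hq.1 c, ← mul_assoc, Finset.mul_sum]
    simp only [mul_smul_comm, hp.1, ← smul_mul_assoc]
    rw [← Finset.sum_mul, mul_assoc]
    congr 1
    simp only [Finset.smul_sum, smul_smul]
    rw [Finset.sum_comm]
    refine Finset.sum_congr rfl fun e _ => ?_
    rw [Matrix.mul_apply, Finset.sum_smul]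
    exact Finset.sum_congr rfl fun d _ => by rw [mul_comm]
  · simp only [Prod.fst_mul, Units.val_mul, Matrix.transpose_mul]
    calc _ = (p.1 : Matrix (Fin 8) (Fin 8) F8) * ((q.1 : Matrix (Fin 8) (Fin 8) F8) * toMat antiP *
          (q.1 : Matrix (Fin 8) (Fin 8) F8).transpose) * (p.1 : Matrix (Fin 8) (Fin 8) F8).transpose := by
            simp only [mul_assoc]
      _ = _ := by rw [hq.2, hp.2]

theorem good_root {r : ℕ} (hr : r ∈ genRoots) (t : F8) : Good (aG r t, xg TwistedD4.c4 r t) := by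
  constructor
  · intro c
    have h := congrArg toMat (eq_of_eqP (inter_checks r hr t c))
    rw [toMat_mul, toMat_mul, toMat_comb] at h
    simpa only [coe_aG hr, coe_xg, tM] using h
  · have h := congrArg toMat (eq_of_eqP (anti_checks r hr t))
    rw [toMat_mul, toMat_mul] at h
    have e : toMat (xP (23 - r) t) = (toMat (xP r t)).transpose := by
      ext i j
      exact trans_checks r hr t i j
    simpa only [coe_aG hr, e] using h

theorem good_word : ∀ {w : List (ℕ × F8)}, (∀ p ∈ w, p.1 ∈ genRoots) → Good (aW w, wg TwistedD4.c4 w)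
  | [], _ => by
    simp only [aW, List.map_nil, List.prod_nil, wg_nil]
    exact good_one
  | p :: w, h => by
    have ih := good_word (w := w) fun q hq => h q (List.mem_cons_of_mem _ hq)
    have := good_mul (good_root (h p List.mem_cons_self) p.2) ih
    simpa [aW, wg_cons] using this

theorem roots_of_words {w : List (ℕ × F8)} (hw : w ∈ d4Words F8 2) : ∀ p ∈ w, p.1 ∈ genRoots := by
  rcases hw with ⟨t, -, r, hr, rfl⟩ | ⟨t, rs, hrs, rfl⟩
  · simp only [List.mem_cons, List.not_mem_nil, or_false] at hr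
    rcases hr with rfl | rfl <;> simp [genRoots, d4p2, d4m2]
  · simp only [List.mem_cons, List.not_mem_nil, or_false] at hrs
    rcases hrs with rfl | rfl <;> simp [genRoots, d4p1, d4p3, d4p4, d4m1, d4m3, d4m4]

/-- The generated group of pairs. -/
def pairs : Subgroup (GL8 × GL chevD4.Idx F8) :=
  Subgroup.closure ((fun w => (aW w, wg TwistedD4.c4 w)) '' d4Words F8 2)

theorem good_of_mem {p : GL8 × GL chevD4.Idx F8} (hp : p ∈ pairs) : Good p := by
  rw [pairs, ← Subgroup.mem_toSubmonoid, Subgroup.closure_toSubmonoid_of_finite] at hp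
  induction hp using Submonoid.closure_induction with
  | mem x hx =>
    obtain ⟨w, hw, rfl⟩ := hx
    exact good_word (roots_of_words hw)
  | one => exact good_one
  | mul x y _ _ hx hy => exact good_mul hx hy

theorem map_snd : pairs.map (MonoidHom.snd GL8 (GL chevD4.Idx F8)) = twistedD4 F8 2 := by
  rw [pairs, MonoidHom.map_closure, twistedD4, ChevalleyDatum.genSubgroup]
  congr 1
  ext g
  constructor
  · rintro ⟨_, ⟨w, hw, rfl⟩, rfl⟩
    exact ⟨w, hw, coe_wg TwistedD4.c4 w⟩
  · rintro ⟨w, hw, hg⟩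
    exact ⟨_, ⟨w, hw, rfl⟩, (Units.ext (hg.trans (coe_wg TwistedD4.c4 w).symm)).symm⟩

theorem fst_eq_one {a : GL8} (h : (a, (1 : GL chevD4.Idx F8)) ∈ pairs) : a = 1 := by
  obtain ⟨hc, hJ⟩ := good_of_mem h
  have hcT : ∀ c, Commute (tM c) (a : Matrix (Fin 8) (Fin 8) F8) := by
    intro c
    have h1 := hc c
    simp only [Units.val_one, Matrix.one_apply, ite_smul, one_smul, zero_smul, Finset.sum_ite_eq',
      Finset.mem_univ, if_true] at h1
    exact h1.symm
  have hu : ∀ i j : Fin 8, Commute (Matrix.single i j (1 : F8)) (a : Matrix (Fin 8) (Fin 8) F8) := by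
    intro i j
    have hk : (8 * (i : ℕ) + j) < 64 := by omega
    have e : Matrix.single i j (1 : F8) = toMat (2 ^ (8 * (i : ℕ) + j), 0, 0) := by
      ext k l
      rw [toMat_apply, Matrix.single_apply]
      simp only [ent, Nat.zero_testBit, Nat.testBit_two_pow]
      by_cases hkl : i = k ∧ j = l
      · obtain ⟨rfl, rfl⟩ := hkl
        simp
        rfl
      · have : ¬ (8 * (i : ℕ) + j = 8 * (k : ℕ) + l) := fun h' => hkl
          ⟨Fin.ext (by omega), Fin.ext (by omega)⟩
        simp [hkl, this]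
        rfl
    rw [e, ← eq_of_eqP (unit_checks ⟨_, hk⟩), toMat_prod]
    refine Commute.list_prod_left _ _ fun M hM => ?_
    simp only [List.mem_map, exists_exists_and_eq_and] at hM
    obtain ⟨k, hk', rfl⟩ := hM
    have hk28 : k < 28 := by
      rw [List.getD_eq_getElem?_getD] at hk'
      cases hq : unitWords[8 * (i : ℕ) + j]? with
      | none => simp [hq] at hk'
      | some w =>
        simp [hq] at hk'
        exact unit_range w (List.mem_of_getElem? hq) k hk'
    by_cases h4 : k < 4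
    · exact hcT (Sum.inl ⟨k, h4⟩)
    · have := hcT (Sum.inr ⟨k - 4, by show k - 4 < 24; omega⟩)
      simpa [tM, idxNum, show 4 + (k - 4) = k by omega] using this
  obtain ⟨l, hl⟩ := Matrix.mem_range_scalar_iff_commute_single'.mpr hu
  have h07 := congrFun (congrFun hJ 0) 7
  rw [← hl] at h07
  simp only [Matrix.scalar_apply, Matrix.diagonal_transpose, Matrix.diagonal_mul, Matrix.mul_diagonal] at h07
  have hJ07 : toMat antiP 0 7 = 1 := by rw [toMat_apply]; decide +kernel
  rw [hJ07, mul_one] at h07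
  have hl1 : ∀ x : F8, x * x = 1 → x = 1 := by decide +kernel
  apply Units.ext
  rw [← hl, hl1 l h07, map_one, Units.val_one]

theorem frob_F8 : ∃ f : F8 →+* F8, ∀ t, f t = t ^ 2 :=
  TwistedField.exists_frob (q := 2) (n := 3) F8.card_eq (by norm_num)

theorem simple_F8 : IsSimpleGroup ↥(twistedD4 F8 2) := by
  obtain ⟨f, hf⟩ := frob_F8
  exact (TwistedD4.simple f hf (q := 2) F8.card_eq).1

theorem card_F8 : Nat.card ↥(twistedD4 F8 2) = 211341312 := by
  obtain ⟨f, hf⟩ := frob_F8
  rw [TwistedD4.card_group f hf (q := 2) F8.card_eq]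
  norm_num

/-- `³D₄(2)` on eight dimensions. -/
def LG : Subgroup GL8 := pairs.map (MonoidHom.fst GL8 (GL chevD4.Idx F8))

theorem aW_mem {w : List (ℕ × F8)} (hw : w ∈ d4Words F8 2) : aW w ∈ LG :=
  ⟨_, Subgroup.subset_closure ⟨w, hw, rfl⟩, rfl⟩

/-- Matrices of elements of the group. -/
def InL (A : Mat64) : Prop := ∃ g ∈ LG, (g : Matrix (Fin 8) (Fin 8) F8) = toMat A

theorem inL_one : InL oneP := ⟨1, one_mem _, by rw [toMat_one]; rfl⟩

theorem inL_mul {A B : Mat64} : InL A → InL B → InL (mulP A B) := by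
  rintro ⟨g, hg, eg⟩ ⟨h, hh, eh⟩
  exact ⟨g * h, mul_mem hg hh, by rw [Units.val_mul, toMat_mul, eg, eh]⟩

theorem inL_pow {A : Mat64} (h : InL A) : ∀ n, InL (powP A n)
  | 0 => inL_one
  | n + 1 => inL_mul (inL_pow h n) h

theorem inL_gP (k : ℕ) : InL (gP k) := by
  by_cases hk : k < genWs.length
  · have hw : genWs.getD k [] ∈ d4Words F8 2 := by
      rw [List.getD_eq_getElem _ _ hk]
      have hm := List.getElem_mem hk
      generalize genWs[k] = w at hm ⊢
      simp only [genWs, basisF, List.map_cons, List.map_nil, List.cons_append, List.nil_append,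
        List.mem_cons, List.not_mem_nil, or_false] at hm
      rcases hm with rfl | rfl | rfl | rfl | rfl | rfl | rfl | rfl
      · exact Or.inr ⟨_, (d4p1, d4p3, d4p4), by simp, rfl⟩
      · exact Or.inr ⟨_, (d4p1, d4p3, d4p4), by simp, rfl⟩
      · exact Or.inr ⟨_, (d4p1, d4p3, d4p4), by simp, rfl⟩
      · exact Or.inl ⟨1, one_pow 2, 14, by simp [d4p2], rfl⟩
      · exact Or.inr ⟨_, (d4m1, d4m3, d4m4), by simp, rfl⟩
      · exact Or.inr ⟨_, (d4m1, d4m3, d4m4), by simp, rfl⟩
      · exact Or.inr ⟨_, (d4m1, d4m3, d4m4), by simp, rfl⟩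
      · exact Or.inl ⟨1, one_pow 2, 9, by simp [d4m2], rfl⟩
    exact ⟨_, aW_mem hw, coe_aW (roots_of_words hw)⟩
  · rw [gP, List.getD_eq_default _ _ (by omega)]
    exact inL_one

theorem inL_evP : ∀ w : List ℕ, InL (evP w)
  | [] => inL_one
  | k :: w => inL_mul (inL_gP k) (inL_evP w)

theorem exists_ne_one : ∃ g ∈ LG, g ≠ 1 := by
  obtain ⟨g, hg, e⟩ := inL_evP thirteenWord
  refine ⟨g, hg, fun h1 => ?_⟩
  rw [h1, Units.val_one, ← toMat_one] at e
  have hb := bound_checks
  simp only [List.all_append, List.all_cons, List.all_nil, Bool.and_eq_true] at hb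
  have hc := order_checks
  simp only [Bool.and_eq_true, Bool.not_eq_true'] at hc
  have := eqP_of_toMat (A := evP thirteenWord) (B := oneP) (by tauto) (by tauto) e.symm
  rw [this] at hc
  simp at hc

theorem snd_eq_one {b : GL chevD4.Idx F8} (h : ((1 : GL8), b) ∈ pairs) : b = 1 := by
  haveI := simple_F8
  have hmem : ∀ {b : GL chevD4.Idx F8}, ((1 : GL8), b) ∈ pairs → b ∈ twistedD4 F8 2 :=
    fun h => map_snd ▸ ⟨_, h, rfl⟩
  let K1 : Subgroup ↥(twistedD4 F8 2) :=
    { carrier := {x | ((1 : GL8), (x : GL chevD4.Idx F8)) ∈ pairs}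
      one_mem' := one_mem pairs
      mul_mem' := fun hx hy => by simpa using Subgroup.mul_mem pairs hx hy
      inv_mem' := fun hx => by simpa using Subgroup.inv_mem pairs hx }
  have hn : K1.Normal := ⟨fun x hx g => by
    have hg' := g.2
    simp only [← map_snd] at hg'
    obtain ⟨⟨a, g'⟩, hg, eg⟩ := hg'
    obtain rfl : g' = g := eg
    simpa [K1] using Subgroup.mul_mem pairs (Subgroup.mul_mem pairs hg hx) (Subgroup.inv_mem pairs hg)⟩
  rcases IsSimpleGroup.eq_bot_or_eq_top_of_normal K1 hn with hb | ht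
  · have : (⟨b, hmem h⟩ : ↥(twistedD4 F8 2)) ∈ K1 := h
    rw [hb, Subgroup.mem_bot] at this
    exact congrArg Subtype.val this
  · exfalso
    obtain ⟨g, ⟨⟨a, c⟩, hp, rfl⟩, hne⟩ := exists_ne_one
    have hc : (⟨c, map_snd ▸ ⟨_, hp, rfl⟩⟩ : ↥(twistedD4 F8 2)) ∈ K1 := ht ▸ Subgroup.mem_top _
    refine hne (fst_eq_one (a := a) ?_)
    simpa using mul_mem hp (inv_mem (show ((1 : GL8), c) ∈ pairs from hc))

theorem lg_equiv : Nonempty (↥LG ≃* ↥(twistedD4 F8 2)) := by
  have h1 : Function.Injective ((MonoidHom.fst GL8 (GL chevD4.Idx F8)).domRestrict pairs) := by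
    rw [injective_iff_map_eq_one]
    rintro ⟨⟨a, b⟩, hp⟩ (h : a = 1)
    subst h
    exact Subtype.ext (Prod.ext rfl (snd_eq_one hp))
  have h2 : Function.Injective ((MonoidHom.snd GL8 (GL chevD4.Idx F8)).domRestrict pairs) := by
    rw [injective_iff_map_eq_one]
    rintro ⟨⟨a, b⟩, hp⟩ (h : b = 1)
    subst h
    exact Subtype.ext (Prod.ext (fst_eq_one hp) rfl)
  refine ⟨((MulEquiv.subgroupCongr ?_).trans (MonoidHom.ofInjective h1).symm).trans
    ((MonoidHom.ofInjective h2).trans (MulEquiv.subgroupCongr ?_))⟩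
  · rw [MonoidHom.domRestrict_range]; rfl
  · rw [MonoidHom.domRestrict_range, map_snd]

theorem card_LG : Nat.card ↥LG = 211341312 := by
  obtain ⟨e⟩ := lg_equiv
  rw [Nat.card_congr e.toEquiv, card_F8]

theorem lg_equiv_any {K : Type*} [Field K] [Fintype K] (hK : Fintype.card K = 8) :
    Nonempty (↥LG ≃* ↥(twistedD4 K 2)) := by
  obtain ⟨e0⟩ := lg_equiv
  have e : F8 ≃+* K := FiniteField.ringEquivOfCardEq (K := F8) (K' := K) (by rw [F8.card_eq, hK])
  have hinj : Function.Injective (Matrix.GeneralLinearGroup.map (n := chevD4.Idx) e.toRingHom) := fun g h hh =>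
    Units.ext <| Matrix.ext fun i j => e.injective
      (congrFun (congrFun (congrArg (fun u : GL chevD4.Idx K => (u : Matrix chevD4.Idx chevD4.Idx K)) hh) i) j)
  have hwg : ∀ w : List (ℕ × F8), Matrix.GeneralLinearGroup.map e.toRingHom (wg TwistedD4.c4 w) =
      wg TwistedD4.c4 (w.map fun p => (p.1, e p.2)) := by
    intro w
    induction w with
    | nil => rw [List.map_nil, wg_nil, wg_nil, map_one]
    | cons p w ih => rw [List.map_cons, wg_cons, wg_cons, map_mul, ih, xg_map]; rfl
  have hmap : (twistedD4 F8 2).map (Matrix.GeneralLinearGroup.map (n := chevD4.Idx) e.toRingHom) =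
      twistedD4 K 2 := by
    apply le_antisymm
    · rw [Subgroup.map_le_iff_le_comap]
      refine gen_le TwistedD4.c4 ?_
      intro w hw
      rw [Subgroup.mem_comap, hwg]
      refine mem_gen TwistedD4.c4 (A := d4Words K 2) ?_
      rcases hw with ⟨t, ht, r, hr, rfl⟩ | ⟨t, rs, hrs, rfl⟩
      · exact Or.inl ⟨e t, by rw [← map_pow, ht], r, hr, rfl⟩
      · exact Or.inr ⟨e t, rs, hrs, by simp [map_pow]⟩
    · refine gen_le TwistedD4.c4 ?_
      intro w hw
      refine ⟨wg TwistedD4.c4 (w.map fun p => (p.1, e.symm p.2)), ?_, ?_⟩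
      · refine mem_gen TwistedD4.c4 (A := d4Words F8 2) ?_
        rcases hw with ⟨t, ht, r, hr, rfl⟩ | ⟨t, rs, hrs, rfl⟩
        · exact Or.inl ⟨e.symm t, by rw [← map_pow, ht], r, hr, rfl⟩
        · exact Or.inr ⟨e.symm t, rs, hrs, by simp [map_pow]⟩
      · rw [hwg, List.map_map]
        congr 1
        simp [Function.comp_def]
  exact ⟨e0.trans ((Subgroup.equivMapOfInjective _ _ hinj).trans (MulEquiv.subgroupCongr hmap))⟩

end

end Cfsg.Agent.TriD4Spec63
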