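import Mathlib

/-!
Linear lemmas: chains of a nilpotent endomorphism, lines, geometric sums.
-/

set_option autoImplicit false

namespace Cfsg.Agent.TriD4Spec63

open Module

section Geom

variable {R : Type*} [Semiring R]

theorem geom_split (g : R) (d : ℕ) : ∀ k, ∑ i ∈ Finset.range (d * k), g ^ i =
    (∑ i ∈ Finset.range d, g ^ i) * ∑ j ∈ Finset.range k, (g ^ d) ^ j
  | 0 => by simp
  | k + 1 => by
    rw [Nat.mul_succ, Finset.sum_range_add, geom_split g d k, Finset.sum_range_succ _ k, mul_add, ← pow_mul,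
      Finset.sum_mul (Finset.range d) _ (g ^ (d * k))]
    congr 1
    refine Finset.sum_congr rfl fun i _ => ?_
    rw [← pow_add, add_comm]

theorem geom_eq_zero_of_power (g : R) (d k : ℕ) (h : ∑ j ∈ Finset.range k, (g ^ d) ^ j = 0) :
    ∑ i ∈ Finset.range (d * k), g ^ i = 0 := by
  rw [geom_split, h, mul_zero]

end Geom

section Ring

variable {R : Type*} [Ring R] (h2 : (2 : R) = 0)

include h2

theorem sq_add_one (a : R) : (a + 1) ^ 2 = a ^ 2 + 1 := by
  rw [(Commute.one_right a).add_sq, one_pow, mul_one, h2, zero_mul, add_zero]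

theorem geom_two (a : R) : ∑ i ∈ Finset.range 2, a ^ i = a + 1 := by
  simp [Finset.sum_range_succ, add_comm]

theorem geom_four (a : R) : ∑ i ∈ Finset.range 4, a ^ i = (a + 1) ^ 3 := by
  rw [show (4 : ℕ) = 2 * 2 from rfl, geom_split, geom_two h2, geom_two h2, ← sq_add_one h2, ← pow_succ']

theorem geom_eight (a : R) : ∑ i ∈ Finset.range 8, a ^ i = (a + 1) ^ 7 := by
  rw [show (8 : ℕ) = 2 * 4 from rfl, geom_split, geom_two h2, geom_four h2, ← sq_add_one h2, ← pow_mul,
    ← pow_succ']

end Ring

section End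

variable {K : Type*} [Field K] {V : Type*} [AddCommGroup V] [Module K V] [FiniteDimensional K V]

theorem chain_indep {n : End K V} (hn : n ^ 4 = 0) {w : V} (hw : (n ^ 3) w ≠ 0) :
    LinearIndependent K fun i : Fin 4 => (n ^ (i : ℕ)) w := by
  have hz : ∀ k, 4 ≤ k → (n ^ k) w = 0 := fun k hk => by
    rw [← Nat.add_sub_cancel' hk, pow_add, hn, zero_mul, LinearMap.zero_apply]
  rw [Fintype.linearIndependent_iff]
  intro a ha
  have hap : ∀ k, ∑ i : Fin 4, a i • (n ^ (k + (i : ℕ))) w = 0 := fun k => by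
    have := congrArg (n ^ k) ha
    rw [map_sum, map_zero] at this
    simpa only [map_smul, pow_add, Module.End.mul_apply] using this
  have e0 := hap 3
  have e1 := hap 2
  have e2 := hap 1
  have e3 := hap 0
  simp [Fin.sum_univ_four, hz, hw] at e0 e1 e2 e3
  have h1 : a 1 = 0 := by simpa [e0, hw] using e1
  have h2 : a 2 = 0 := by simpa [e0, h1, hw] using e2
  have h3 : a 3 = 0 := by simpa [e0, h1, h2, hw] using e3
  intro i
  fin_cases i <;> assumption

/-- A commuting nilpotent chain fills the image of a projection of rank at most four. -/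
theorem chain_line {n p : End K V} (hc : Commute n p) (hn : n ^ 4 = 0)
    (hr : finrank K (LinearMap.range p) ≤ 4) {u : V} (hu : (n ^ 3) (p u) ≠ 0) (x : V) :
    ∃ c : K, (n ^ 3) (p x) = c • (n ^ 3) (p u) := by
  have hli := chain_indep hn hu
  have hle : Submodule.span K (Set.range fun i : Fin 4 => (n ^ (i : ℕ)) (p u)) ≤ LinearMap.range p := by
    rw [Submodule.span_le]
    rintro _ ⟨i, rfl⟩
    refine ⟨(n ^ (i : ℕ)) u, ?_⟩
    rw [← Module.End.mul_apply, ← (hc.pow_left _).eq, Module.End.mul_apply]
  have heq := Submodule.eq_of_le_of_finrank_le hle (by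
    rw [finrank_span_eq_card hli, Fintype.card_fin]; exact hr)
  have hx : p x ∈ Submodule.span K (Set.range fun i : Fin 4 => (n ^ (i : ℕ)) (p u)) := heq ▸ LinearMap.mem_range_self p x
  obtain ⟨a, ha⟩ := (Submodule.mem_span_range_iff_exists_fun K).mp hx
  refine ⟨a 0, ?_⟩
  rw [← ha, map_sum]
  rw [Fin.sum_univ_four]
  have hz : ∀ k, 4 ≤ k → (n ^ k) (p u) = 0 := fun k hk => by
    rw [← Nat.add_sub_cancel' hk, pow_add, hn, zero_mul, LinearMap.zero_apply]
  simp only [map_smul, ← Module.End.mul_apply (n ^ 3) (n ^ _), ← pow_add]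
  simp [hz]

theorem four_le_rank {n p : End K V} (hc : Commute n p) (hn : n ^ 4 = 0) {u : V} (hu : (n ^ 3) (p u) ≠ 0) :
    4 ≤ finrank K (LinearMap.range p) := by
  have hle : Submodule.span K (Set.range fun i : Fin 4 => (n ^ (i : ℕ)) (p u)) ≤ LinearMap.range p := by
    rw [Submodule.span_le]
    rintro _ ⟨i, rfl⟩
    refine ⟨(n ^ (i : ℕ)) u, ?_⟩
    rw [← Module.End.mul_apply, ← (hc.pow_left _).eq, Module.End.mul_apply]
  have := Submodule.finrank_mono hle
  rwa [finrank_span_eq_card (chain_indep hn hu), Fintype.card_fin] at this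

/-- An operator commuting with a projection on a line acts there by a scalar. -/
theorem scalar_on_line {f p : End K V} (hc : Commute f p) (hr : finrank K (LinearMap.range p) ≤ 1) :
    ∃ c : K, f * p = c • p := by
  by_cases h0 : p = 0
  · exact ⟨0, by rw [h0, mul_zero, zero_smul]⟩
  obtain ⟨u, hu⟩ : ∃ u, p u ≠ 0 := by
    by_contra h
    push Not at h
    exact h0 (LinearMap.ext h)
  have hle : Submodule.span K {p u} ≤ LinearMap.range p :=
    (Submodule.span_singleton_le_iff_mem _ _).mpr (LinearMap.mem_range_self p u)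
  have heq := Submodule.eq_of_le_of_finrank_le hle (by rw [finrank_span_singleton hu]; exact hr)
  have hmem : ∀ x, ∃ a : K, a • p u = p x := fun x =>
    Submodule.mem_span_singleton.mp (heq ▸ LinearMap.mem_range_self p x)
  obtain ⟨c, hcu⟩ := hmem (f u)
  refine ⟨c, LinearMap.ext fun x => ?_⟩
  obtain ⟨a, ha⟩ := hmem x
  rw [Module.End.mul_apply, LinearMap.smul_apply, ← ha, map_smul, ← Module.End.mul_apply f p, hc.eq,
    Module.End.mul_apply, ← hcu, smul_comm]

/-- The image of a subspace meeting the kernel is smaller. -/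
theorem rank_mul_lt {f p : End K V} {v : V} (hv : v ≠ 0) (hp : p v = v) (hf : f v = 0) :
    finrank K (LinearMap.range (f * p)) + 1 ≤ finrank K (LinearMap.range p) := by
  have h := LinearMap.finrank_range_add_finrank_ker (f.domRestrict (LinearMap.range p))
  have hk : 1 ≤ finrank K (LinearMap.ker (f.domRestrict (LinearMap.range p))) := by
    refine Nat.one_le_iff_ne_zero.mpr fun h0 => ?_
    rw [Submodule.finrank_eq_zero] at h0
    have hm : (⟨v, ⟨v, hp⟩⟩ : LinearMap.range p) ∈ LinearMap.ker (f.domRestrict (LinearMap.range p)) := hf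
    rw [h0, Submodule.mem_bot] at hm
    exact hv (congrArg Subtype.val hm)
  have he : LinearMap.range (f.domRestrict (LinearMap.range p)) = LinearMap.range (f * p) := by
    rw [LinearMap.range_domRestrict, Module.End.mul_eq_comp, LinearMap.range_comp]
  rw [he] at h
  omega

end End

end Cfsg.Agent.TriD4Spec63
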