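import Cfsg.Agent.Lib.TriD4Spec63Facts
import Cfsg.Agent.Lib.TriD4Spec63Linear

/-!
`³D₄(2)` and its extensions by powers of the natural module have the same element orders.
-/

set_option autoImplicit false
set_option maxRecDepth 100000

namespace Cfsg.Agent.TriD4Spec63

open Matrix Cfsg.Lie

noncomputable section

/-- The norm of an element. -/
def normAt (g : GL8) (n : ℕ) : Mat8 := ∑ i ∈ Finset.range n, mx g ^ i

theorem mx_pow (g : GL8) (n : ℕ) : mx (g ^ n) = mx g ^ n := Units.val_pow_eq_pow_val g n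

theorem no_part {g : GL8} (hg : g ∈ LG) (hN : normAt g (orderOf g) ≠ 0) {k : ℕ} (hk : k ∣ orderOf g)
    (H : ∀ h : GL8, h ∈ LG → orderOf h = k → normAt h k = 0) : False := by
  obtain ⟨d, hd⟩ := hk
  have hpos := orderOf_pos g
  have hd0 : d ≠ 0 := fun h => by rw [h, mul_zero] at hd; omega
  have hk0 : 0 < k := Nat.pos_of_ne_zero fun h => by rw [h, zero_mul] at hd; omega
  have ho : orderOf (g ^ d) = k := by
    rw [orderOf_pow_of_dvd hd0 ⟨k, by rw [hd, mul_comm]⟩, hd, Nat.mul_div_left _ (Nat.pos_of_ne_zero hd0)]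
  refine hN ?_
  rw [normAt, hd, mul_comm k d]
  refine geom_eq_zero_of_power _ _ _ ?_
  have := H _ (pow_mem hg d) ho
  rwa [normAt, mx_pow] at this

theorem pow_four_add_one (M : Mat8) : (M + 1) ^ 4 = M ^ 4 + 1 := by
  rw [show (4 : ℕ) = 2 * 2 from rfl, pow_mul, sq_add_one two_zero_mat, sq_add_one two_zero_mat, ← pow_mul]

theorem norm_eight {g : GL8} (hg : g ∈ LG) (h : orderOf g = 8) : normAt g 8 = 0 := by
  rw [normAt, geom_eight two_zero_mat]
  exact (two_facts hg (k := 3) (orderOf_dvd_iff_pow_eq_one.mp (by rw [h]; norm_num))).1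

theorem norm_nine {g : GL8} (hg : g ∈ LG) (h : orderOf g = 9) : normAt g 9 = 0 :=
  (three_facts hg (k := 2) (by rw [show (3 : ℕ) ^ 2 = 9 from rfl, ← h, pow_orderOf_eq_one])).1
    (pow_ne_one_of_lt_orderOf (by norm_num) (by omega))

theorem norm_thirteen {g : GL8} (hg : g ∈ LG) (h : orderOf g = 13) : normAt g 13 = 0 :=
  thirteen_facts hg (by rw [← h, pow_orderOf_eq_one]) (fun h1 => by rw [h1, orderOf_one] at h; omega)

theorem no_fortynine {g : GL8} (hg : g ∈ LG) (h : orderOf g = 49) : False :=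
  pow_ne_one_of_lt_orderOf (by norm_num) (by omega)
    (seven_facts hg (k := 2) (by rw [show (7 : ℕ) ^ 2 = 49 from rfl, ← h, pow_orderOf_eq_one])).1

theorem norm_twelve {g : GL8} (hg : g ∈ LG) (h : orderOf g = 12) : normAt g 12 = 0 := by
  have hg12 : g ^ 12 = 1 := h ▸ pow_orderOf_eq_one g
  have hu : (g ^ 9) ^ 2 ^ 2 = 1 := by
    rw [← pow_mul, show 9 * 2 ^ 2 = 12 * 3 from rfl, pow_mul, hg12, one_pow]
  have hy : (g ^ 4) ^ 3 = 1 := by rw [← pow_mul]; exact hg12
  have hy1 : g ^ 4 ≠ 1 := pow_ne_one_of_lt_orderOf (by norm_num) (by omega)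
  obtain ⟨-, ht3, -⟩ := two_facts (pow_mem hg 9) hu
  obtain ⟨-, hy2⟩ := three_facts (pow_mem hg 4) (k := 1) (by rw [pow_one]; exact hy)
  obtain ⟨-, hyr⟩ := hy2 hy hy1
  rw [mx_pow] at ht3 hyr
  have hG12 : mx g ^ 12 = 1 := by rw [← mx_pow, hg12]; rfl
  set u := mx g ^ 9 with hu'
  set y := mx g ^ 4 with hy'
  set P := ∑ i ∈ Finset.range 3, y ^ i with hP
  have hyP : y * P = P := by
    have : (y - 1) * P = 0 := by
      rw [hP, mul_geom_sum, hy', ← pow_mul, hG12, sub_self]
    rwa [sub_mul, one_mul, sub_eq_zero] at this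
  have hguy : mx g = u * y := by
    rw [hu', hy', ← pow_add, show 9 + 4 = 12 + 1 from rfl, pow_add, hG12, one_mul, pow_one]
  have hcuP : Commute u P := by
    rw [hP]
    exact Commute.sum_right _ _ _ fun i _ => ((Commute.refl (mx g)).pow_pow 9 4).pow_right i
  have hcn : Commute (u + 1) P := hcuP.add_left (Commute.one_left P)
  have hab : (mx g + 1) * P = (u + 1) * P := by
    rw [add_mul, add_mul, hguy, mul_assoc, hyP]
  have hN : normAt g 12 = (u + 1) ^ 3 * P := by
    rw [normAt, show (12 : ℕ) = 4 * 3 from rfl, geom_split, geom_four two_zero_mat, ← hy', ← hP]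
    generalize mx g + 1 = a at hab ⊢
    generalize u + 1 = b at hab hcn ⊢
    calc a ^ 3 * P = a * (a * (a * P)) := by simp only [pow_succ, pow_zero, one_mul, mul_assoc]
      _ = a * (a * (P * b)) := by rw [hab, hcn.eq]
      _ = a * ((a * P) * b) := by rw [mul_assoc]
      _ = a * (P * b * b) := by rw [hab, hcn.eq]
      _ = (a * P) * b * b := by simp only [mul_assoc]
      _ = P * b * b * b := by rw [hab, hcn.eq]
      _ = P * b ^ 3 := by simp only [pow_succ, pow_zero, one_mul, mul_assoc]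
      _ = _ := ((hcn.pow_left 3).eq).symm
  by_contra hne
  rw [hN] at hne
  rcases ht3 with ht3 | ht3
  · exact hne (by rw [ht3, zero_mul])
  have hn4 : (u + 1) ^ 4 = 0 := by
    rw [pow_four_add_one, hu', ← pow_mul, show 9 * 4 = 12 * 3 from rfl, pow_mul, hG12, one_pow, add_self_mat]
  have hy3 : y ^ 3 = 1 := by rw [hy', ← pow_mul, hG12]
  have hP3 : P = 1 + y + y ^ 2 := by rw [hP]; simp [Finset.sum_range_succ]
  have hy2P : y ^ 2 * P = P := by rw [pow_two, mul_assoc, hyP, hyP]
  have hPP : P * P = P := by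
    conv_lhs => arg 1; rw [hP3]
    rw [add_mul, add_mul, one_mul, hyP, hy2P, add_self_mat, zero_add]
  set Q := P + 1 with hQ
  have hcnQ : Commute (u + 1) Q := hcn.add_right (Commute.one_right _)
  have hPQ : P * Q = 0 := by rw [hQ, mul_add, mul_one, hPP, add_self_mat]
  have hcyP : Commute y P := by
    rw [hP]
    exact Commute.sum_right _ _ _ fun i _ => (Commute.refl y).pow_right i
  set φ := (Matrix.toLinAlgEquiv' : Mat8 ≃ₐ[F8] Module.End F8 (Fin 8 → F8)) with hφ
  have hrank : ∀ A : Mat8, Module.finrank F8 (LinearMap.range (φ A)) = A.rank := fun A => rfl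
  obtain ⟨w, hw⟩ : ∃ w, (φ (u + 1) ^ 3) (φ P w) ≠ 0 := by
    by_contra hall
    push Not at hall
    refine hne (φ.injective (LinearMap.ext fun w => ?_))
    rw [map_mul, map_pow, map_zero, Module.End.mul_apply, hall, LinearMap.zero_apply]
  have hcφ : Commute (φ (u + 1)) (φ P) := hcn.map φ
  have hnφ : φ (u + 1) ^ 4 = 0 := by rw [← map_pow, hn4, map_zero]
  rcases hyr with hyr | ⟨hr1, hr2⟩
  · have := four_le_rank hcφ hnφ hw
    rw [hrank] at this
    omega
  obtain ⟨x, hx⟩ : ∃ x, (φ (u + 1) ^ 3) (φ Q x) ≠ 0 := by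
    by_contra hall
    push Not at hall
    have hall' : ∀ x, ∃ c : F8, (φ (u + 1) ^ 3) x = c • (φ (u + 1) ^ 3) (φ P w) := by
      intro x
      obtain ⟨c, hc⟩ := chain_line hcφ hnφ (by rw [hrank]; exact hr1) hw x
      refine ⟨c, ?_⟩
      have hx : x = φ P x + φ Q x := by
        rw [← LinearMap.add_apply, ← map_add, hQ, ← add_assoc, add_self_mat, zero_add, map_one, Module.End.one_apply]
      conv_lhs => rw [hx]
      rw [map_add, hall, add_zero, hc]
    have hle : LinearMap.range (φ ((u + 1) ^ 3)) ≤ Submodule.span F8 {(φ (u + 1) ^ 3) (φ P w)} := by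
      rintro _ ⟨x, rfl⟩
      obtain ⟨c, hc⟩ := hall' x
      rw [map_pow, hc]
      exact Submodule.smul_mem _ _ (Submodule.mem_span_singleton_self _)
    have h1 := (Submodule.finrank_mono hle).trans_eq (finrank_span_singleton hw)
    rw [hrank] at h1
    omega
  have hcQ : Commute (φ (u + 1)) (φ Q) := hcnQ.map φ
  obtain ⟨l, hl⟩ := chain_line hcQ hnφ (by rw [hrank]; exact hr2) hx (φ y x)
  set z := (φ (u + 1) ^ 3) (φ Q x) with hz
  have hcyu : Commute (φ y) (φ (u + 1) ^ 3) :=
    (((Commute.refl (mx g)).pow_pow 4 9).add_right (Commute.one_right _)).map φ |>.pow_right 3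
  have hcyQ : Commute (φ y) (φ Q) := (hcyP.add_right (Commute.one_right _)).map φ
  have hyz : φ y z = l • z := by
    rw [hz, ← Module.End.mul_apply, hcyu.eq, Module.End.mul_apply, ← Module.End.mul_apply (φ y) (φ Q), hcyQ.eq,
      Module.End.mul_apply, hl, hz]
  have hl3 : l ^ 3 = 1 := by
    have h3 : φ y (φ y (φ y z)) = z := by
      have : φ (y ^ 3) z = z := by rw [hy3, map_one, Module.End.one_apply]
      simpa [pow_succ, mul_assoc] using this
    simp only [hyz, map_smul, smul_smul] at h3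
    have h4 : (l ^ 3 - 1) • z = 0 := by rw [sub_smul, one_smul, pow_succ, pow_two, h3, sub_self]
    exact sub_eq_zero.mp ((smul_eq_zero.mp h4).resolve_right hx)
  obtain rfl := F8.cube_one l hl3
  rw [one_smul] at hyz
  refine hx ?_
  have hPz : φ P z = z := by
    rw [hP3, map_add, map_add, map_one, pow_two, map_mul, LinearMap.add_apply, LinearMap.add_apply,
      Module.End.one_apply, Module.End.mul_apply, hyz, hyz]
    rw [show z + z = (2 : F8) • z from (two_smul _ z).symm, F8.two_zero, zero_smul, zero_add]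
  rw [← hPz, hz, ← Module.End.mul_apply, ← (hcφ.pow_left 3).eq, Module.End.mul_apply,
    ← Module.End.mul_apply (φ P) (φ Q), ← map_mul, hPQ, map_zero, LinearMap.zero_apply, map_zero]

theorem norm_seven_mul {g : GL8} (hg : g ∈ LG) {p : ℕ} (hp : p = 2 ∨ p = 3) (h : orderOf g = p * 7) :
    normAt g (p * 7) = 0 := by
  have hgm : g ^ (p * 7) = 1 := h ▸ pow_orderOf_eq_one g
  have hx7 : (g ^ p) ^ 7 = 1 := by rw [← pow_mul, hgm]
  have hhp : (g ^ 7) ^ p = 1 := by rw [← pow_mul, mul_comm 7 p, hgm]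
  have hx1 : g ^ p ≠ 1 := pow_ne_one_of_lt_orderOf (by omega) (by omega)
  have hh1 : g ^ 7 ≠ 1 := pow_ne_one_of_lt_orderOf (by norm_num) (by omega)
  by_contra hne
  obtain ⟨-, hsev⟩ := seven_facts (pow_mem hg p) (k := 1) (by rw [pow_one]; exact hx7)
  have hNx : ∑ i ∈ Finset.range 7, mx (g ^ p) ^ i ≠ 0 := fun h0 => hne (by
    rw [normAt]
    exact geom_eq_zero_of_power _ _ _ (by rw [← mx_pow]; exact h0))
  obtain ⟨hP1, hPc⟩ := hsev hx1 hNx
  have hh : 1 < (mx (g ^ 7) + 1).rank := by
    rcases hp with rfl | rfl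
    · obtain ⟨-, -, h2⟩ := two_facts (pow_mem hg 7) (k := 1) (by rw [pow_one]; exact hhp)
      refine (h2 ?_).resolve_left fun h0 => hh1 (Units.ext ?_)
      · rw [sq_add_one two_zero_mat, ← mx_pow, hhp, show mx (1 : GL8) = 1 from rfl, add_self_mat]
      · exact add_right_cancel (h0.trans (add_self_mat 1).symm)
    · exact ((three_facts (pow_mem hg 7) (k := 1) (by rw [pow_one]; exact hhp)).2 hhp hh1).1
  set X := mx (g ^ p) with hX
  set H := mx (g ^ 7) with hH
  set φ := (Matrix.toLinAlgEquiv' : Mat8 ≃ₐ[F8] Module.End F8 (Fin 8 → F8)) with hφ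
  have hrank : ∀ A : Mat8, Module.finrank F8 (LinearMap.range (φ A)) = A.rank := fun A => rfl
  have hcHX : Commute H X := by
    rw [hH, hX, mx_pow, mx_pow]
    exact (Commute.refl (mx g)).pow_pow 7 p
  let Pc : F8 → Mat8 := fun a => ∑ i ∈ Finset.range 7, (a • X) ^ i
  have hcP : ∀ a, Commute H (Pc a) := fun a => Commute.sum_right _ _ _ fun i _ => (hcHX.smul_right a).pow_right i
  have hHp : H ^ p = 1 := by rw [hH, ← mx_pow, hhp]; rfl
  have hkill : ∀ a : F8, a ≠ 0 → a ≠ 1 → (H + 1) * Pc a = 0 := by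
    intro a ha0 ha1
    by_cases hP0 : Pc a = 0
    · rw [hP0, mul_zero]
    obtain ⟨l, hl⟩ := scalar_on_line (f := φ H) (p := φ (Pc a)) ((hcP a).map φ) (by rw [hrank]; exact hPc a ha0 ha1)
    have hl' : H * Pc a = l • Pc a := φ.injective (by rw [map_mul, map_smul, hl])
    have hlp : ∀ n, H ^ n * Pc a = l ^ n • Pc a := by
      intro n
      induction n with
      | zero => simp
      | succ n ih => rw [pow_succ', mul_assoc, ih, mul_smul_comm, hl', smul_smul, ← pow_succ]
    have hl1 : l ^ p = 1 := by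
      have := hlp p
      rw [hHp, one_mul] at this
      have h0 : (l ^ p - 1) • Pc a = 0 := by rw [sub_smul, one_smul, ← this, sub_self]
      exact sub_eq_zero.mp ((smul_eq_zero.mp h0).resolve_right hP0)
    have : l = 1 := by
      rcases hp with rfl | rfl
      · exact (by decide +kernel : ∀ x : F8, x ^ 2 = 1 → x = 1) l hl1
      · exact F8.cube_one l hl1
    rw [add_mul, one_mul, hl', this, one_smul, add_self_mat]
  have hsum : (unitsF.map Pc).sum = 1 := by
    have e : (unitsF.map Pc).sum = ∑ i ∈ Finset.range 7, (unitsF.map fun a => a ^ i).sum • X ^ i := by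
      induction unitsF with
      | nil => simp
      | cons a l ih =>
        rw [List.map_cons, List.sum_cons, ih]
        simp only [List.map_cons, List.sum_cons, Pc, add_smul, Finset.sum_add_distrib, smul_pow]
    rw [e, Finset.sum_eq_single 0]
    · rw [units_sum ⟨0, by norm_num⟩]; simp
    · intro i hi hi0
      have := units_sum ⟨i, Finset.mem_range.mp hi⟩
      rw [this, if_neg hi0, zero_smul]
    · simp
  have hH1 : H + 1 = (H + 1) * Pc 1 := by
    have h1 : H + 1 = (H + 1) * (unitsF.map Pc).sum := by rw [hsum, mul_one]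
    refine h1.trans ?_
    rw [show unitsF = 1 :: unitsF.tail from rfl, List.map_cons, List.sum_cons, mul_add]
    rw [← List.sum_map_mul_left, List.sum_eq_zero, add_zero]
    intro M hM
    simp only [List.mem_map] at hM
    obtain ⟨a, ha, rfl⟩ := hM
    obtain ⟨ha0, ha1⟩ := (by decide +kernel : ∀ a ∈ unitsF.tail, a ≠ 0 ∧ a ≠ 1) a ha
    exact hkill a ha0 ha1
  have hP1' : Pc 1 = ∑ i ∈ Finset.range 7, X ^ i := by simp only [Pc, one_smul]
  have hN1 : mx g * normAt g (p * 7) = normAt g (p * 7) := by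
    have : (mx g - 1) * normAt g (p * 7) = 0 := by
      rw [normAt, mul_geom_sum, ← mx_pow, hgm, show mx (1 : GL8) = 1 from rfl, sub_self]
    rwa [sub_mul, one_mul, sub_eq_zero] at this
  obtain ⟨w, hw⟩ : ∃ w, φ (normAt g (p * 7)) w ≠ 0 := by
    by_contra hall
    push Not at hall
    exact hne (φ.injective (LinearMap.ext fun w => by rw [hall, map_zero, LinearMap.zero_apply]))
  have hv : ∀ n, φ (mx g ^ n) (φ (normAt g (p * 7)) w) = φ (normAt g (p * 7)) w := by
    intro n
    rw [← Module.End.mul_apply, ← map_mul]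
    congr 2
    induction n with
    | zero => rw [pow_zero, one_mul]
    | succ n ih => rw [pow_succ, mul_assoc, hN1, ih]
  generalize φ (normAt g (p * 7)) w = v at hw hv
  have hPv : φ (Pc 1) v = v := by
    rw [hP1', map_sum, LinearMap.sum_apply, hX, mx_pow]
    simp only [← pow_mul, hv, Finset.sum_const, Finset.card_range]
    rw [← Nat.cast_smul_eq_nsmul F8, show ((7 : ℕ) : F8) = 1 by decide +kernel, one_smul]
  have hHv : φ (H + 1) v = 0 := by
    rw [map_add, map_one, LinearMap.add_apply, Module.End.one_apply, hH, mx_pow, hv]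
    rw [show v + v = (2 : F8) • v from (two_smul _ v).symm, F8.two_zero, zero_smul]
  have hlt := rank_mul_lt hw hPv hHv
  rw [← map_mul, ← hH1, hrank, hrank, hP1'] at hlt
  omega

theorem key {g : GL8} (hg : g ∈ LG) (hN : normAt g (orderOf g) ≠ 0) :
    orderOf g ∈ ({1, 2, 3, 4, 6, 7} : Finset ℕ) := by
  have hdvd : orderOf g ∣ 211341312 := by
    have := orderOf_dvd_natCard (⟨g, hg⟩ : ↥LG)
    rwa [Subgroup.orderOf_mk, card_LG] at this
  have h8 : ¬ 8 ∣ orderOf g := fun h => no_part hg hN h fun _ => norm_eight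
  have h9 : ¬ 9 ∣ orderOf g := fun h => no_part hg hN h fun _ => norm_nine
  have h13 : ¬ 13 ∣ orderOf g := fun h => no_part hg hN h fun _ => norm_thirteen
  have h49 : ¬ 49 ∣ orderOf g := fun h => no_part hg hN h fun _ hh he => (no_fortynine hh he).elim
  have h12 : ¬ 12 ∣ orderOf g := fun h => no_part hg hN h fun _ => norm_twelve
  have h14 : ¬ 14 ∣ orderOf g := fun h => no_part hg hN h fun _ hh he => norm_seven_mul hh (p := 2) (Or.inl rfl) he
  have h21 : ¬ 21 ∣ orderOf g := fun h => no_part hg hN h fun _ hh he => norm_seven_mul hh (p := 3) (Or.inr rfl) he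
  generalize orderOf g = m at hdvd h8 h9 h13 h49 h12 h14 h21
  rw [show (211341312 : ℕ) = 2 ^ 12 * (3 ^ 4 * (7 ^ 2 * 13)) from by norm_num] at hdvd
  obtain ⟨d2, k2, e2, hk2, rfl⟩ := exists_dvd_and_dvd_of_dvd_mul hdvd
  obtain ⟨d3, k3, e3, hk3, rfl⟩ := exists_dvd_and_dvd_of_dvd_mul hk2
  obtain ⟨d7, k13, e7, hk13, rfl⟩ := exists_dvd_and_dvd_of_dvd_mul hk3
  obtain ⟨a, -, rfl⟩ := (Nat.dvd_prime_pow Nat.prime_two).mp e2
  obtain ⟨b, -, rfl⟩ := (Nat.dvd_prime_pow Nat.prime_three).mp e3
  obtain ⟨c, -, rfl⟩ := (Nat.dvd_prime_pow (by norm_num : Nat.Prime 7)).mp e7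
  rcases (Nat.dvd_prime (by norm_num : Nat.Prime 13)).mp hk13 with rfl | rfl
  · rw [mul_one] at *
    have ha : a < 3 := by
      by_contra hx
      exact h8 (Dvd.dvd.mul_right (pow_dvd_pow 2 (not_lt.mp hx)) _)
    have hb : b < 2 := by
      by_contra hx
      exact h9 (Dvd.dvd.mul_left (Dvd.dvd.mul_right (pow_dvd_pow 3 (not_lt.mp hx)) _) _)
    have hc : c < 2 := by
      by_contra hx
      exact h49 (Dvd.dvd.mul_left (Dvd.dvd.mul_left (pow_dvd_pow 7 (not_lt.mp hx)) _) _)
    interval_cases a <;> interval_cases b <;> interval_cases c <;> (revert h12 h14 h21; norm_num)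
  · exact absurd (Dvd.dvd.mul_left (Dvd.dvd.mul_left (Dvd.dvd.mul_left dvd_rfl _) _) _) h13

theorem orderOf_eq_of_checks {A : Mat64} {g : GL8} (e : mx g = toMat A) {n : ℕ} (hn : 0 < n)
    (h1 : eqP (powP A n) oneP = true) (h2 : ∀ p, p.Prime → p ∣ n → eqP (powP A (n / p)) oneP = false) :
    orderOf g = n := by
  refine orderOf_eq_of_pow_and_pow_div_prime hn ?_ fun p hp hpn h => ?_
  · apply Units.ext
    rw [Units.val_pow_eq_pow_val, show (g : Mat8) = mx g from rfl, e, ← toMat_pow, eq_of_eqP h1, toMat_one]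
    rfl
  · have := eqP_one_of (bnd_powP A (n / p)) (by rw [toMat_pow, ← e, ← mx_pow, h]; rfl)
    rw [h2 p hp hpn] at this
    exact Bool.noConfusion this

theorem exists_double {m : ℕ} (hm : m ∈ ({1, 2, 3, 4, 6, 7} : Finset ℕ)) : ∃ h ∈ LG, orderOf h = 2 * m := by
  have hc := order_checks
  simp only [Bool.and_eq_true, Bool.not_eq_true'] at hc
  obtain ⟨⟨⟨⟨⟨⟨⟨⟨⟨c8, c4⟩, c12⟩, c6⟩, c124⟩, c14⟩, c7⟩, c2⟩, -⟩, -⟩ := hc
  have main : ∀ (w : List ℕ) (n : ℕ), 0 < n → eqP (powP (evP w) n) oneP = true →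
      (∀ p, p.Prime → p ∣ n → eqP (powP (evP w) (n / p)) oneP = false) →
      ∀ d, d ∣ n → ∃ h ∈ LG, orderOf h = d := by
    intro w n hn h1 h2 d hd
    obtain ⟨g, hg, e⟩ := inL_evP w
    have ho := orderOf_eq_of_checks e hn h1 h2
    refine ⟨g ^ (orderOf g / d), pow_mem hg _, ?_⟩
    rw [ho, orderOf_pow_of_dvd (Nat.div_ne_zero_iff.mpr ⟨fun h => by simp [h] at hd; omega, Nat.le_of_dvd hn hd⟩)
      (ho.symm ▸ Nat.div_dvd_of_dvd hd), ho, Nat.div_div_self hd hn.ne']
  have m8 := main eightWord 8 (by norm_num) c8 (fun p hp hpn => by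
    obtain rfl : p = 2 := (Nat.prime_dvd_prime_iff_eq hp Nat.prime_two).mp (hp.dvd_of_dvd_pow (n := 3) (by simpa using hpn))
    exact c4)
  have m12 := main twelveWord 12 (by norm_num) c12 (fun p hp hpn => by
    have := Nat.le_of_dvd (by norm_num) hpn
    interval_cases p <;> first | exact c6 | exact c124 | exact absurd hp (by norm_num))
  have m14 := main fourteenWord 14 (by norm_num) c14 (fun p hp hpn => by
    have := Nat.le_of_dvd (by norm_num) hpn
    interval_cases p <;> first | exact c7 | exact c2 | exact absurd hp (by norm_num))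
  simp only [Finset.mem_insert, Finset.mem_singleton] at hm
  rcases hm with rfl | rfl | rfl | rfl | rfl | rfl
  · exact m8 _ (by norm_num)
  · exact m8 _ (by norm_num)
  · exact m12 _ (by norm_num)
  · exact m8 _ (by norm_num)
  · exact m12 _ (by norm_num)
  · exact m14 _ (by norm_num)

/-- The action on a power of the natural module. -/
def actFun (k : ℕ) (g : GL8) (v : Fin k → Fin 8 → F8) : Fin k → Fin 8 → F8 := fun i => mx g *ᵥ v i

/-- The action by automorphisms. -/
def act (k : ℕ) : ↥LG →* MulAut (Multiplicative (Fin k → Fin 8 → F8)) where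
  toFun g :=
    { toFun := fun v => Multiplicative.ofAdd (actFun k g v.toAdd)
      invFun := fun v => Multiplicative.ofAdd (actFun k (g : GL8)⁻¹ v.toAdd)
      left_inv := fun v => by
        apply Multiplicative.toAdd.injective
        funext i
        simp [actFun, mx, Matrix.mulVec_mulVec]
      right_inv := fun v => by
        apply Multiplicative.toAdd.injective
        funext i
        simp [actFun, mx, Matrix.mulVec_mulVec]
      map_mul' := fun v w => by
        apply Multiplicative.toAdd.injective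
        funext i
        simp [actFun, Matrix.mulVec_add] }
  map_one' := by
    ext v : 1
    apply Multiplicative.toAdd.injective
    funext i
    simp [actFun, mx]
  map_mul' g h := by
    ext v : 1
    apply Multiplicative.toAdd.injective
    funext i
    simp [actFun, mx, Matrix.mulVec_mulVec]

/-- The extension. -/
abbrev Ext (k : ℕ) : Type := Multiplicative (Fin k → Fin 8 → F8) ⋊[act k] ↥LG

theorem ext_pow (k : ℕ) (x : Ext k) : ∀ n : ℕ,
    (x ^ n).left.toAdd = (fun i => normAt (x.right : GL8) n *ᵥ x.left.toAdd i) ∧ (x ^ n).right = x.right ^ n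
  | 0 => by
    refine ⟨?_, rfl⟩
    funext i
    simp [normAt]
  | n + 1 => by
    obtain ⟨h1, h2⟩ := ext_pow k x n
    refine ⟨?_, by rw [pow_succ', SemidirectProduct.mul_right, h2, pow_succ']⟩
    funext i
    rw [pow_succ', SemidirectProduct.mul_left, toAdd_mul, Pi.add_apply]
    show x.left.toAdd i + mx (x.right : GL8) *ᵥ (x ^ n).left.toAdd i = _
    rw [h1, Matrix.mulVec_mulVec, normAt, normAt, Finset.sum_range_succ', Finset.mul_sum, Matrix.add_mulVec,
      pow_zero, Matrix.one_mulVec, add_comm]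
    simp only [pow_succ']

theorem ext_order (k : ℕ) (x : Ext k) : ∃ h ∈ LG, orderOf h = orderOf x := by
  set m := orderOf (x.right : GL8) with hm
  have hr : x.right ^ m = 1 := Subtype.ext (by rw [hm]; simpa using pow_orderOf_eq_one (x.right : GL8))
  have hdvd : m ∣ orderOf x := by
    refine orderOf_dvd_of_pow_eq_one ?_
    have h := (ext_pow k x (orderOf x)).2
    rw [pow_orderOf_eq_one] at h
    simpa using congrArg Subtype.val h.symm
  by_cases hv : (x ^ m).left = 1
  · refine ⟨_, x.right.2, Nat.dvd_antisymm hdvd ?_⟩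
    exact orderOf_dvd_of_pow_eq_one (SemidirectProduct.ext hv ((ext_pow k x m).2.trans hr))
  · have hN : normAt (x.right : GL8) m ≠ 0 := fun h0 => hv (by
      apply Multiplicative.toAdd.injective
      rw [(ext_pow k x m).1, h0, toAdd_one]
      funext i
      exact Matrix.zero_mulVec _)
    have h2m : x ^ (2 * m) = 1 := by
      rw [mul_comm, pow_mul, pow_two]
      refine SemidirectProduct.ext ?_ ?_
      · rw [SemidirectProduct.mul_left, (ext_pow k x m).2, hr, map_one, MulAut.one_apply,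
          SemidirectProduct.one_left]
        apply Multiplicative.toAdd.injective
        rw [toAdd_mul, toAdd_one]
        funext i j
        exact CharTwo.add_self_eq_zero _
      · rw [SemidirectProduct.mul_right, (ext_pow k x m).2, hr, one_mul, SemidirectProduct.one_right]
    obtain ⟨h, hh, ho⟩ := exists_double (key x.right.2 hN)
    refine ⟨h, hh, ho.trans ?_⟩
    obtain ⟨j, hj⟩ := hdvd
    have hj2 : j ∣ 2 := by
      have := orderOf_dvd_of_pow_eq_one h2m
      rw [hj, mul_comm 2 m] at this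
      exact Nat.dvd_of_mul_dvd_mul_left (orderOf_pos (x.right : GL8)) this
    rcases (Nat.dvd_prime Nat.prime_two).mp hj2 with rfl | rfl
    · exfalso
      rw [mul_one] at hj
      exact hv (by rw [← hj, pow_orderOf_eq_one]; rfl)
    · rw [hj, mul_comm]

theorem ext_range (k : ℕ) : Set.range (orderOf : Ext k → ℕ) = Set.range (orderOf : ↥LG → ℕ) := by
  apply Set.eq_of_subset_of_subset
  · rintro _ ⟨x, rfl⟩
    obtain ⟨h, hh, e⟩ := ext_order k x
    exact ⟨⟨h, hh⟩, (Subgroup.orderOf_mk h hh).trans e⟩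
  · rintro _ ⟨g, rfl⟩
    exact ⟨SemidirectProduct.inr g, orderOf_injective _ SemidirectProduct.inr_injective g⟩

theorem many_isospectral {K : Type*} [Field K] [Fintype K] (hK : Fintype.card K = 8) (N : ℕ) :
    ∃ (H : Type) (_ : Group H) (_ : Fintype H), N < Fintype.card H ∧
      Set.range (orderOf : H → ℕ) = Set.range (orderOf : ↥(twistedD4 K 2) → ℕ) := by
  haveI : Finite (Ext N) := Finite.of_equiv _ SemidirectProduct.equivProd.symm
  letI : Fintype (Ext N) := Fintype.ofFinite _
  refine ⟨Ext N, inferInstance, inferInstance, ?_, ?_⟩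
  · rw [← Nat.card_eq_fintype_card, SemidirectProduct.card, card_LG, Nat.card_congr Multiplicative.toAdd,
      Nat.card_fun, Nat.card_fun, Nat.card_fin, Nat.card_fin, Nat.card_eq_fintype_card, F8.card_eq]
    calc N < 2 ^ N := Nat.lt_two_pow_self
      _ ≤ (8 ^ 8) ^ N := Nat.pow_le_pow_left (by norm_num) N
      _ ≤ _ := Nat.le_mul_of_pos_right _ (by norm_num)
  · rw [ext_range]
    obtain ⟨e⟩ := lg_equiv_any hK
    apply Set.eq_of_subset_of_subset
    · rintro _ ⟨g, rfl⟩; exact ⟨e g, MulEquiv.orderOf_eq e g⟩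
    · rintro _ ⟨g, rfl⟩; exact ⟨e.symm g, MulEquiv.orderOf_eq e.symm g⟩

end

end Cfsg.Agent.TriD4Spec63
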