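import Cfsg.Agent.Lib.TriD4Spec63Cert

/-!
The checks on the Sylow 2-subgroup.
-/

set_option autoImplicit false
set_option maxRecDepth 100000
set_option maxHeartbeats 4000000

namespace Cfsg.Agent.TriD4Spec63

theorem two_chunk_0 : (twoChunk 0).all twoCheck = true := by decide +kernel

theorem two_chunk_1 : (twoChunk 1).all twoCheck = true := by decide +kernel

theorem two_chunk_2 : (twoChunk 2).all twoCheck = true := by decide +kernel

theorem two_chunk_3 : (twoChunk 3).all twoCheck = true := by decide +kernel

theorem two_chunk_4 : (twoChunk 4).all twoCheck = true := by decide +kernel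

theorem two_chunk_5 : (twoChunk 5).all twoCheck = true := by decide +kernel

theorem two_chunk_6 : (twoChunk 6).all twoCheck = true := by decide +kernel

theorem two_chunk_7 : (twoChunk 7).all twoCheck = true := by decide +kernel

theorem two_chunk_8 : (twoChunk 8).all twoCheck = true := by decide +kernel

theorem two_chunk_9 : (twoChunk 9).all twoCheck = true := by decide +kernel

theorem two_chunk_10 : (twoChunk 10).all twoCheck = true := by decide +kernel

theorem two_chunk_11 : (twoChunk 11).all twoCheck = true := by decide +kernel

theorem two_chunk_12 : (twoChunk 12).all twoCheck = true := by decide +kernel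

theorem two_chunk_13 : (twoChunk 13).all twoCheck = true := by decide +kernel

theorem two_chunk_14 : (twoChunk 14).all twoCheck = true := by decide +kernel

theorem two_chunk_15 : (twoChunk 15).all twoCheck = true := by decide +kernel

theorem two_checks : ∀ x ∈ twoList, twoCheck x = true := by
  intro x hx
  simp only [twoList, List.mem_flatMap, List.mem_range] at hx
  obtain ⟨k, hk, hx⟩ := hx
  interval_cases k
  · exact List.all_eq_true.mp two_chunk_0 x hx
  · exact List.all_eq_true.mp two_chunk_1 x hx
  · exact List.all_eq_true.mp two_chunk_2 x hx
  · exact List.all_eq_true.mp two_chunk_3 x hx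
  · exact List.all_eq_true.mp two_chunk_4 x hx
  · exact List.all_eq_true.mp two_chunk_5 x hx
  · exact List.all_eq_true.mp two_chunk_6 x hx
  · exact List.all_eq_true.mp two_chunk_7 x hx
  · exact List.all_eq_true.mp two_chunk_8 x hx
  · exact List.all_eq_true.mp two_chunk_9 x hx
  · exact List.all_eq_true.mp two_chunk_10 x hx
  · exact List.all_eq_true.mp two_chunk_11 x hx
  · exact List.all_eq_true.mp two_chunk_12 x hx
  · exact List.all_eq_true.mp two_chunk_13 x hx
  · exact List.all_eq_true.mp two_chunk_14 x hx
  · exact List.all_eq_true.mp two_chunk_15 x hx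

theorem two_keys : Nat.beq (twoList.foldl (fun s x => s ||| 2 ^ keyP x) 0) (2 ^ 4096 - 1) = true := by
  decide +kernel

end Cfsg.Agent.TriD4Spec63
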