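import Cfsg.Agent.Lib.TriD4Spec63Group
import Cfsg.Agent.Lib.TriD4Spec63TwoChecks

/-!
The Sylow subgroups of `³D₄(2)` on eight dimensions.
-/

set_option autoImplicit false
set_option maxRecDepth 100000

namespace Cfsg.Agent.TriD4Spec63

open Matrix

noncomputable section

/-- The matrix of a unit. -/
abbrev mx (g : GL8) : Matrix (Fin 8) (Fin 8) F8 := (g : Matrix (Fin 8) (Fin 8) F8)

/-- The subgroup generated by some tabled matrices. -/
def genOf (gs : List Mat64) : Subgroup GL8 := Subgroup.closure {g | ∃ x ∈ gs, mx g = toMat x}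

theorem genOf_le {gs : List Mat64} (h : ∀ x ∈ gs, InL x) : genOf gs ≤ LG := by
  rw [genOf, Subgroup.closure_le]
  rintro g ⟨x, hx, e⟩
  obtain ⟨g', hg', e'⟩ := h x hx
  obtain rfl : g = g' := Units.ext (e.trans e'.symm)
  exact hg'

/-- Matrices of elements of a subgroup. -/
def InS (S : Subgroup GL8) (A : Mat64) : Prop := ∃ g ∈ S, mx g = toMat A

theorem inS_one (S : Subgroup GL8) : InS S oneP := ⟨1, one_mem _, by rw [toMat_one]; rfl⟩

theorem inS_mul {S : Subgroup GL8} {A B : Mat64} : InS S A → InS S B → InS S (mulP A B) := by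
  rintro ⟨g, hg, eg⟩ ⟨h, hh, eh⟩
  exact ⟨g * h, mul_mem hg hh, by rw [mx, Units.val_mul, toMat_mul, ← eg, ← eh]⟩

theorem inS_pow {S : Subgroup GL8} {A : Mat64} (h : InS S A) : ∀ n, InS S (powP A n)
  | 0 => inS_one S
  | n + 1 => inS_mul (inS_pow h n) h

theorem inS_gen {gs : List Mat64} (h : ∀ x ∈ gs, InL x) {x : Mat64} (hx : x ∈ gs) : InS (genOf gs) x := by
  obtain ⟨g, -, e⟩ := h x hx
  exact ⟨g, Subgroup.subset_closure ⟨x, hx, e⟩, e⟩

theorem inS_dbl {S : Subgroup GL8} : ∀ {l : List Mat64}, (∀ x ∈ l, InS S x) → ∀ x ∈ dblList l, InS S x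
  | [], _, x, hx => by
    obtain rfl : x = oneP := by simpa [dblList] using hx
    exact inS_one S
  | g :: l, h, x, hx => by
    have hl : ∀ y ∈ l, InS S y := fun y hy => h y (List.mem_cons_of_mem _ hy)
    simp only [dblList, List.mem_append, List.mem_map] at hx
    rcases hx with hx | ⟨y, hy, rfl⟩
    · exact inS_dbl hl x hx
    · exact inS_mul (h g List.mem_cons_self) (inS_dbl hl y hy)

theorem getD_mem {gs : List Mat64} {S : Subgroup GL8} (h : ∀ x ∈ gs, InS S x) (k : ℕ) :
    InS S (gs.getD k oneP) := by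
  by_cases hk : k < gs.length
  · rw [List.getD_eq_getElem _ _ hk]; exact h _ (List.getElem_mem hk)
  · rw [List.getD_eq_default _ _ (by omega)]; exact inS_one S

theorem inL_two : ∀ x ∈ twoGens, InL x := by
  simp only [twoGens, List.mem_map]
  rintro _ ⟨w, -, rfl⟩
  exact inL_evP w

theorem inL_three : ∀ x ∈ threeGens, InL x := by
  simp only [threeGens, List.mem_map]
  rintro _ ⟨w, -, rfl⟩
  exact inL_pow (inL_evP w.2) w.1

theorem inL_seven : ∀ x ∈ sevenGens, InL x := by
  simp only [sevenGens, List.mem_map]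
  rintro _ ⟨w, -, rfl⟩
  exact inL_pow (inL_evP w.2) w.1

theorem twoList_mem : ∀ x ∈ twoList, InS (genOf twoGens) x := by
  intro x hx
  simp only [twoList, twoChunk, List.mem_flatMap, List.mem_map] at hx
  obtain ⟨k, -, y, hy, rfl⟩ := hx
  have h := fun (z : Mat64) (hz : z ∈ twoGens) => inS_gen inL_two hz
  exact inS_mul (getD_mem (inS_dbl fun z hz => h z (List.mem_of_mem_take hz)) k)
    (inS_dbl (fun z hz => h z (List.mem_of_mem_drop hz)) y hy)

theorem threeList_mem : ∀ x ∈ threeList, InS (genOf threeGens) x := by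
  intro x hx
  simp only [threeList, List.mem_flatMap, List.mem_map] at hx
  obtain ⟨i, -, j, -, l, -, rfl⟩ := hx
  have h := getD_mem fun (z : Mat64) (hz : z ∈ threeGens) => inS_gen inL_three hz
  exact inS_mul (inS_mul (inS_pow (h 0) i) (inS_pow (h 1) j)) (inS_pow (h 2) l)

theorem sevenList_mem : ∀ x ∈ sevenList, InS (genOf sevenGens) x := by
  intro x hx
  simp only [sevenList, List.mem_flatMap, List.mem_map] at hx
  obtain ⟨i, -, j, -, rfl⟩ := hx
  have h := getD_mem fun (z : Mat64) (hz : z ∈ sevenGens) => inS_gen inL_seven hz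
  exact inS_mul (inS_pow (h 0) i) (inS_pow (h 1) j)

/-- An element of prime power order is conjugate into a subgroup of full prime power order. -/
theorem exists_conj_mem {G : Type*} [Group G] [Finite G] {p : ℕ} [Fact p.Prime] {S : Subgroup G}
    (hS : Nat.card S = p ^ (Nat.card G).factorization p) {g : G} {k : ℕ} (hg : g ^ p ^ k = 1) :
    ∃ c : G, c * g * c⁻¹ ∈ S := by
  obtain ⟨n, -, hn⟩ := (Nat.dvd_prime_pow (Fact.out : p.Prime)).mp (orderOf_dvd_of_pow_eq_one hg)
  obtain ⟨Q, hQ⟩ := (IsPGroup.of_card (show Nat.card (Subgroup.zpowers g) = p ^ n by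
    rw [Nat.card_zpowers, hn])).exists_le_sylow
  obtain ⟨c, hc⟩ := MulAction.exists_smul_eq G Q (Sylow.ofCard S hS)
  refine ⟨c, ?_⟩
  have h : MulAut.conj c • g ∈ ((c • Q : Sylow p G) : Subgroup G) :=
    Subgroup.smul_mem_pointwise_smul g (MulAut.conj c) _ (hQ (Subgroup.mem_zpowers g))
  rw [hc] at h
  exact h

/-- The transfer to the table of a full prime power subgroup. -/
theorem conj_into {p a : ℕ} [Fact p.Prime] {l gs : List Mat64} (hgs : ∀ x ∈ gs, InL x)
    (hcard : Nat.card ↥(genOf gs) = p ^ a) (ha : (211341312 : ℕ).factorization p = a)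
    (hlist : ∀ g ∈ genOf gs, ∃ x ∈ l, mx g = toMat x) {g : GL8} (hg : g ∈ LG) {k : ℕ} (hk : g ^ p ^ k = 1) :
    ∃ c : GL8, ∃ x ∈ l, mx (c * g * c⁻¹) = toMat x := by
  have hS : Nat.card ↥((genOf gs).subgroupOf LG) = p ^ (Nat.card ↥LG).factorization p := by
    rw [card_LG, ha, ← hcard]
    exact Nat.card_congr (Subgroup.subgroupOfEquivOfLe (genOf_le hgs)).toEquiv
  obtain ⟨c, hc⟩ := exists_conj_mem (k := k) hS (g := ⟨g, hg⟩) (Subtype.ext (by simpa using hk))
  obtain ⟨x, hx, e⟩ := hlist _ hc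
  exact ⟨c, x, hx, e⟩

theorem factorization_vals : (211341312 : ℕ).factorization 2 = 12 ∧ (211341312 : ℕ).factorization 3 = 4 ∧
    (211341312 : ℕ).factorization 7 = 2 ∧ (211341312 : ℕ).factorization 13 = 1 := by
  have key : ∀ p a m : ℕ, p.Prime → 211341312 = p ^ a * m → ¬ p ∣ m → (211341312 : ℕ).factorization p = a := by
    intro p a m hp e hm
    have hm0 : m ≠ 0 := fun h => hm (h ▸ dvd_zero p)
    rw [e, Nat.factorization_mul (pow_ne_zero _ hp.ne_zero) hm0, Finsupp.add_apply, hp.factorization_pow,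
      Finsupp.single_eq_same, Nat.factorization_eq_zero_of_not_dvd hm, add_zero]
  refine ⟨key 2 12 51597 (by norm_num) (by norm_num) (by norm_num),
    key 3 4 2609152 (by norm_num) (by norm_num) (by norm_num),
    key 7 2 4313088 (by norm_num) (by norm_num) (by norm_num),
    key 13 1 16257024 (by norm_num) (by norm_num) (by norm_num)⟩

theorem check_subgroup {l gs : List Mat64} (hl : ∀ x ∈ l, InS (genOf gs) x)
    (h : subgroupCheck l gs = true) :
    Nat.card ↥(genOf gs) = l.length ∧ ∀ g ∈ genOf gs, ∃ x ∈ l, mx g = toMat x := by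
  simp only [subgroupCheck, Bool.and_eq_true, List.any_eq_true, List.all_eq_true, List.mem_range,
    Bool.not_eq_true'] at h
  obtain ⟨⟨⟨⟨e, he, he1⟩, hb⟩, hclo⟩, hnd⟩ := h
  have hlist : ∀ g ∈ genOf gs, ∃ x ∈ l, mx g = toMat x := by
    intro g hg
    rw [genOf, ← Subgroup.mem_toSubmonoid, Subgroup.closure_toSubmonoid_of_finite] at hg
    induction hg using Submonoid.closure_induction_right with
    | one => exact ⟨e, he, by rw [← eq_of_eqP he1, toMat_one]; rfl⟩
    | mul_right a ha b hb ih =>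
      obtain ⟨x, hx, ex⟩ := ih
      obtain ⟨y, hy, ey⟩ := hb
      obtain ⟨z, hz, hz'⟩ := hclo x hx y hy
      exact ⟨z, hz, by rw [mx, Units.val_mul, ← eq_of_eqP hz', toMat_mul, ← ex, ← ey]⟩
  refine ⟨?_, hlist⟩
  have hpick : ∀ i : Fin l.length, ∃ g : ↥(genOf gs), mx g = toMat (l.get i) := fun i => by
    obtain ⟨g, hg, eg⟩ := hl _ (List.get_mem l i)
    exact ⟨⟨g, hg⟩, eg⟩
  choose f hf using hpick
  have hinj : Function.Injective f := by
    have lt : ∀ i j : Fin l.length, j < i → f i ≠ f j := by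
      intro i j hji hij
      have := hnd i i.isLt j hji
      rw [List.getD_eq_getElem _ _ i.isLt, List.getD_eq_getElem _ _ j.isLt] at this
      have h2 := eqP_of_toMat (hb _ (List.getElem_mem i.isLt)) (hb _ (List.getElem_mem j.isLt))
        ((hf i).symm.trans ((congrArg (fun u : ↥(genOf gs) => mx (u : GL8)) hij).trans (hf j)))
      rw [h2] at this
      exact Bool.noConfusion this
    intro i j hij
    rcases lt_trichotomy i j with h' | h' | h'
    · exact absurd hij.symm (lt j i h')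
    · exact h'
    · exact absurd hij (lt i j h')
  have hsurj : Function.Surjective f := by
    rintro ⟨g, hg⟩
    obtain ⟨x, hx, ex⟩ := hlist g hg
    obtain ⟨i, rfl⟩ := List.get_of_mem hx
    exact ⟨i, Subtype.ext (Units.ext ((hf i).trans ex.symm))⟩
  rw [← Nat.card_eq_of_bijective f ⟨hinj, hsurj⟩, Nat.card_fin]

/-- Unitriangular. -/
def Upper (M : Matrix (Fin 8) (Fin 8) F8) : Prop := ∀ i j : Fin 8, (j < i → M i j = 0) ∧ (i = j → M i j = 1)

theorem upper_pow_eight {M : Matrix (Fin 8) (Fin 8) F8} (h : Upper M) : M ^ 8 = 1 := by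
  have hbt : M.BlockTriangular id := fun i j hij => (h i j).1 hij
  have hz := Matrix.aeval_self_charpoly M
  rw [Matrix.charpoly_of_upperTriangular M hbt,
    Finset.prod_congr rfl (fun i _ => by rw [(h i i).2 rfl]), Finset.prod_const] at hz
  simp only [map_pow, map_sub, Polynomial.aeval_X, Polynomial.aeval_C, map_one,
    Finset.card_univ, Fintype.card_fin] at hz
  have hz' : (M - 1) ^ 2 ^ 3 = 0 := hz
  rw [sub_pow_char_pow_of_commute 2 _ (Commute.one_right M), one_pow, sub_eq_zero] at hz'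
  exact hz'

theorem upper_of_mem {g : GL8} (hg : g ∈ genOf twoGens) : Upper (mx g) := by
  rw [genOf, ← Subgroup.mem_toSubmonoid, Subgroup.closure_toSubmonoid_of_finite] at hg
  induction hg using Submonoid.closure_induction with
  | mem x hx =>
    obtain ⟨y, hy, e⟩ := hx
    intro i j
    rw [e]
    exact upper_checks y hy i j
  | one => exact fun i j => ⟨fun hij => Matrix.one_apply_ne hij.ne', fun hij => by subst hij; exact Matrix.one_apply_eq i⟩
  | mul a b _ _ ha hb =>
    intro i j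
    rw [show mx (a * b) = mx a * mx b from Units.val_mul a b]
    constructor
    · intro hij
      rw [Matrix.mul_apply]
      refine Finset.sum_eq_zero fun k _ => ?_
      by_cases hk : k < i
      · rw [(ha i k).1 hk, zero_mul]
      · rw [(hb k j).1 (lt_of_lt_of_le hij (not_lt.mp hk)), mul_zero]
    · rintro rfl
      rw [Matrix.mul_apply, Finset.sum_eq_single i]
      · rw [(ha i i).2 rfl, (hb i i).2 rfl, one_mul]
      · intro k _ hk
        rcases lt_or_gt_of_ne hk with h' | h'
        · rw [(ha i k).1 h', zero_mul]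
        · rw [(hb k i).1 h', mul_zero]
      · simp

/-- The key, read off a matrix. -/
def keyM (M : Matrix (Fin 8) (Fin 8) F8) : ℕ :=
  keyBits.foldl (fun s p => 2 * s + ([(M (Fin.ofNat 8 (p.2 / 8)) (Fin.ofNat 8 p.2)).b0,
    (M (Fin.ofNat 8 (p.2 / 8)) (Fin.ofNat 8 p.2)).b1,
    (M (Fin.ofNat 8 (p.2 / 8)) (Fin.ofNat 8 p.2)).b2].getD p.1 false).toNat) 0

theorem keyM_toMat (A : Mat64) : keyM (toMat A) = keyP A := rfl

theorem bits_fold {α : Type} (key : α → ℕ) : ∀ (l : List α) (s k : ℕ),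
    (l.foldl (fun s x => s ||| 2 ^ key x) s).testBit k = true → s.testBit k = true ∨ ∃ x ∈ l, key x = k
  | [], _, _, h => Or.inl h
  | a :: l, s, k, h => by
    rcases bits_fold key l _ k h with h' | ⟨x, hx, e⟩
    · rw [Nat.testBit_or, Bool.or_eq_true] at h'
      rcases h' with h' | h'
      · exact Or.inl h'
      · rw [Nat.testBit_two_pow, decide_eq_true_eq] at h'
        exact Or.inr ⟨a, List.mem_cons_self, h'⟩
    · exact Or.inr ⟨x, List.mem_cons_of_mem _ hx, e⟩

theorem two_subgroup : Nat.card ↥(genOf twoGens) = 2 ^ 12 ∧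
    ∀ g ∈ genOf twoGens, ∃ x ∈ twoList, mx g = toMat x := by
  have hx : ∀ k : Fin (2 ^ 12), ∃ x ∈ twoList, keyP x = k := by
    intro k
    have h := Nat.eq_of_beq_eq_true two_keys
    rcases bits_fold keyP twoList 0 k (by rw [h, Nat.testBit_two_pow_sub_one]; simp) with h' | h'
    · simp at h'
    · exact h'
  choose x hxl hxk using hx
  choose g hgS hge using fun k => twoList_mem (x k) (hxl k)
  let f : Fin (2 ^ 12) → ↥(genOf twoGens) := fun k => ⟨g k, hgS k⟩
  have hinj : Function.Injective f := fun i j hij => by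
    have := congrArg (fun u : ↥(genOf twoGens) => keyM (mx (u : GL8))) hij
    simp only [f, hge, keyM_toMat, hxk] at this
    exact Fin.ext this
  have hp : IsPGroup 2 ↥(genOf twoGens) := fun u => ⟨3, Subtype.ext (Units.ext (by
    simpa using upper_pow_eight (upper_of_mem u.2)))⟩
  obtain ⟨n, hn⟩ := hp.exists_card_eq
  have hge' : 2 ^ 12 ≤ Nat.card ↥(genOf twoGens) := by
    simpa using Nat.card_le_card_of_injective f hinj
  have hdvd : 2 ^ n ∣ 211341312 := by
    rw [← hn, ← card_LG]
    exact Subgroup.card_dvd_of_le (genOf_le inL_two)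
  have hn12 : n ≤ 12 := by
    rw [← factorization_vals.1]
    exact (Nat.Prime.pow_dvd_iff_le_factorization Nat.prime_two (by norm_num)).mp hdvd
  have hcard : Nat.card ↥(genOf twoGens) = 2 ^ 12 :=
    le_antisymm (hn ▸ Nat.pow_le_pow_right (by norm_num) hn12) hge'
  refine ⟨hcard, fun u hu => ?_⟩
  obtain ⟨k, hk⟩ := (hinj.bijective_of_nat_card_le (by rw [hcard, Nat.card_fin])).2 ⟨u, hu⟩
  refine ⟨x k, hxl k, ?_⟩
  rw [← hge k]
  exact congrArg (fun u : ↥(genOf twoGens) => mx (u : GL8)) hk.symm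

end

end Cfsg.Agent.TriD4Spec63
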