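import Cfsg.Agent.Lib.Triality95Defs
import Cfsg.Agent.Lib.FischerLocalConn6
import Cfsg.Agent.Lib.ThreeTranspRegular
import Cfsg.Agent.S5361

/-!
# Components of a disconnected commuting graph

With no solvable normal subgroup, each component of the commuting graph generates a group with simple
derived group, the same `L` for all components, and its edge products move every member of any other
component to a different commuting one.
-/

set_option autoImplicit false
set_option linter.unusedSectionVars false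
set_option linter.style.haveILetI false

namespace Cfsg.Agent.Triality95Base

open Subgroup Cfsg.Agent.ThreeTransp
open scoped commutatorElement

universe u

variable {G : Type u} [Group G]

/-- Without solvable normal subgroups there is none in a normal subgroup either. -/
theorem bot_of_normal [Finite G] (hG : ∀ N : Subgroup G, N.Normal → Group.IsSolvable ↥N → N = ⊥)
    (H : Subgroup G) [H.Normal] (N : Subgroup ↥H) (hN : N.Normal) (hs : Group.IsSolvable ↥N) :
    N = ⊥ := by
  by_contra hne
  obtain ⟨A, hAn, hA, hab⟩ := FischerGlue6.exists_abelian hs hne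
  obtain ⟨a, haA, ha1⟩ := A.bot_or_exists_ne_one.resolve_left hA
  obtain ⟨p, hp, hpd⟩ := Nat.exists_prime_and_dvd (n := orderOf a) (by rwa [ne_eq, orderOf_eq_one_iff])
  haveI := Fact.mk hp
  set P : Subgroup ↥H :=
    { carrier := {x | x ∈ A ∧ x ^ p = 1}
      one_mem' := ⟨one_mem _, one_pow p⟩
      mul_mem' := fun {x y} hx hy => ⟨mul_mem hx.1 hy.1, by
        rw [(hab x hx.1 y hy.1).mul_pow, hx.2, hy.2, one_mul]⟩
      inv_mem' := fun {x} hx => ⟨inv_mem hx.1, by rw [inv_pow, hx.2, inv_one]⟩ } with hP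
  haveI : P.Normal := ⟨fun x hx g => ⟨hAn.conj_mem x hx.1 g, by
    rw [conj_pow, hx.2, mul_one, mul_inv_cancel]⟩⟩
  have hPp : IsPGroup p P := fun x => ⟨1, Subtype.ext (by
    rw [pow_one, SubmonoidClass.coe_pow, OneMemClass.coe_one]; exact x.2.2)⟩
  have hmem : a ^ (orderOf a / p) ∈ Cfsg.pCore p ↥H := HallCore.le_pCore hPp
    ⟨pow_mem haA _, by rw [← pow_mul, Nat.div_mul_cancel hpd, pow_orderOf_eq_one]⟩
  haveI : (Cfsg.pCore p ↥H).Characteristic :=
    Subgroup.characteristic_iff_map_eq.mpr fun φ => HallCore.map_equiv_pCore φ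
  have hK : (Cfsg.pCore p ↥H).map H.subtype = ⊥ := by
    refine hG _ ConjAct.normal_of_characteristic_of_normal ?_
    haveI : Group.IsNilpotent ↥((Cfsg.pCore p ↥H).map H.subtype) :=
      ((HallCore.isPGroup_pCore p ↥H).map _).isNilpotent
    infer_instance
  rw [(Subgroup.map_eq_bot_iff_of_injective _ H.subtype_injective)] at hK
  rw [hK, mem_bot, ← orderOf_dvd_iff_pow_eq_one] at hmem
  have h0 : 0 < orderOf a / p := Nat.div_pos (Nat.le_of_dvd (orderOf_pos a) hpd) hp.pos
  have := Nat.le_of_dvd h0 hmem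
  have h2 := Nat.div_lt_self (orderOf_pos a) hp.one_lt
  omega

/-- A subgroup of a group without solvable normal subgroups, embedded. -/
theorem bot_of_equiv {H K : Type*} [Group H] [Group K] (e : H ≃* K)
    (hH : ∀ N : Subgroup H, N.Normal → Group.IsSolvable ↥N → N = ⊥)
    (N : Subgroup K) (hN : N.Normal) (hs : Group.IsSolvable ↥N) : N = ⊥ := by
  have hb := hH (N.map e.symm.toMonoidHom) (hN.map _ e.symm.surjective)
    (Group.isSolvable_of_surjective (f := (e.symm.subgroupMap N).toMonoidHom) (MulEquiv.surjective _))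
  exact (Subgroup.map_eq_bot_iff_of_injective _ e.symm.injective).mp hb

/-- Same component of the commuting graph. -/
def Same (D : Set G) (a b : G) : Prop :=
  Relation.ReflTransGen (fun x y => x ∈ D ∧ y ∈ D ∧ Commute x y) a b

/-- Same component of the non-commuting graph inside a component. -/
def Part (D : Set G) (a b : G) : Prop :=
  Relation.ReflTransGen (fun x y => x ∈ D ∧ y ∈ D ∧ Same D x y ∧ ¬ Commute x y) a b

/-- The products of commuting pairs in the component of `a`. -/
def Edges (D : Set G) (a : G) : Set G :=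
  {x | ∃ u ∈ cls D (Same D) a, ∃ v ∈ cls D (Same D) a, u ≠ v ∧ Commute u v ∧ x = u * v}

/-- The members of a component, inside the group they generate. -/
abbrev compSet (D : Set G) (a : G) : Set ↥(closure (cls D (Same D) a)) :=
  {x | (x : G) ∈ cls D (Same D) a}

variable {D : Set G}

theorem same_symm {a b : G} (h : Same D a b) : Same D b a := by
  induction h with
  | refl => exact .refl
  | tail _ h2 ih => exact .head ⟨h2.2.1, h2.1, h2.2.2.symm⟩ ih

theorem same_of_commute {a b : G} (ha : a ∈ D) (hb : b ∈ D) (h : Commute a b) : Same D a b :=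
  .single ⟨ha, hb, h⟩

theorem part_same {a b : G} (h : Part D a b) : Same D a b := by
  induction h with
  | refl => exact .refl
  | tail _ h2 ih => exact ih.trans h2.2.2.1

variable (h : TC D)
include h

theorem same_conj (g : G) {a b : G} (hab : Same D a b) : Same D (g * a * g⁻¹) (g * b * g⁻¹) := by
  induction hab with
  | refl => exact .refl
  | tail _ h2 ih =>
    exact .tail ih ⟨h.conj g _ h2.1, h.conj g _ h2.2.1, (Commute.conj_iff g).mpr h2.2.2⟩

theorem relSame : ThreeTransp.Rel D (Same D) :=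
  ⟨fun _ _ => .refl, fun _ _ _ _ e => same_symm e, fun _ _ _ _ _ _ e e' => e.trans e',
    fun g _ _ _ _ e => same_conj h g e,
    fun _ ha _ _ _ hd _ hc hn => absurd (same_of_commute hd ha hc) hn⟩

theorem relPart : ThreeTransp.Rel D (Part D) := by
  have hsymm : ∀ {a b : G}, Part D a b → Part D b a := by
    intro a b hab
    induction hab with
    | refl => exact .refl
    | tail _ h2 ih =>
      exact .head ⟨h2.2.1, h2.1, same_symm h2.2.2.1, fun e => h2.2.2.2 e.symm⟩ ih
  refine ⟨fun _ _ => .refl, fun _ _ _ _ e => hsymm e, fun _ _ _ _ _ _ e e' => e.trans e',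
    fun g a _ b hb' e => ?_, fun a ha b hb d hd hab hc hn => by_contra fun hnc => hn ?_⟩
  · clear hb'
    induction e with
    | refl => exact .refl
    | tail _ h2 ih =>
      exact .tail ih ⟨h.conj g _ h2.1, h.conj g _ h2.2.1, same_conj h g h2.2.2.1,
        fun e' => h2.2.2.2 ((Commute.conj_iff g).mp e')⟩
  · have hdb : Part D d b :=
      .single ⟨hd, hb, (same_of_commute hd ha hc).trans (part_same hab), hnc⟩
    exact hdb.trans (hsymm hab)

/-- The third member of two members in different components lies in a third one. -/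
theorem third {a b : G} (ha : a ∈ D) (hb : b ∈ D) (hab : ¬ Same D a b) :
    ¬ Same D a (a * b * a) ∧ ¬ Same D b (a * b * a) := by
  have hn : ¬ Commute a b := fun e => hab (same_of_commute ha hb e)
  constructor
  · intro e
    have := same_conj h a e
    rw [h.inv_eq ha, h.sq a ha, one_mul, h.refl_refl ha] at this
    exact hab this
  · intro e
    rw [h.braid ha hb hn] at e
    have := same_conj h b e
    rw [h.inv_eq hb, h.sq b hb, one_mul, h.refl_refl hb] at this
    exact hab (same_symm this)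

/-- An edge moves a member of another component to a different commuting one. -/
theorem edge_move {a a' b : G} (ha : a ∈ D) (ha' : a' ∈ D) (hne : a ≠ a') (hc : Commute a a')
    (hb : b ∈ D) (hab : ¬ Same D a b) :
    a * a' * b * (a * a')⁻¹ ≠ b ∧ Commute b (a * a' * b * (a * a')⁻¹) ∧
      b * (a * a' * b * (a * a')⁻¹) = a * b * (a * a') * (a * b)⁻¹ := by
  have hn : ¬ Commute a b := fun e => hab (same_of_commute ha hb e)
  have hn' : ¬ Commute a' b := fun e => hab ((same_of_commute ha ha' hc).trans (same_of_commute ha' hb e))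
  have e1 : a * a' * b * (a * a')⁻¹ = a * (b * a' * b) * a := by
    rw [← h.braid ha' hb hn', mul_inv_rev, h.inv_eq ha, h.inv_eq ha']; group
  have e2 : b = a * (b * a * b) * a := by
    rw [← h.braid ha hb hn, h.refl_refl ha]
  refine ⟨fun e => hne ?_, ?_, ?_⟩
  · rw [e1] at e
    have e3 : a * (b * a' * b) * a = a * (b * a * b) * a := e.trans e2
    exact (mul_left_cancel (mul_right_cancel (mul_left_cancel (mul_right_cancel e3)))).symm
  · rw [e1]
    have h1 : Commute (b * a * b) (b * a' * b) := by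
      have := (Commute.conj_iff b).mpr hc
      rwa [h.inv_eq hb] at this
    have h2 := (Commute.conj_iff a).mpr h1
    rw [h.inv_eq ha, ← e2] at h2
    exact h2
  · rw [e1, mul_inv_rev, h.inv_eq ha, h.inv_eq hb]
    conv_lhs => arg 1; rw [e2]
    calc a * (b * a * b) * a * (a * (b * a' * b) * a)
        = a * (b * a * b) * (a * a) * (b * a' * b) * a := by group
      _ = a * b * a * (b * b) * a' * b * a := by rw [h.sq a ha]; group
      _ = a * b * (a * a') * (b * a) := by rw [h.sq b hb]; group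

/-- Products in one component fix every component. -/
theorem evn_fix {a : G} {g : G} (hg : g ∈ evn D (Same D) a) :
    ∀ d ∈ D, Same D d (g * d * g⁻¹) := by
  induction hg using Subgroup.closure_induction with
  | mem x hx =>
    obtain ⟨u, hu, v, hv, rfl⟩ := hx
    intro d hd
    exact ThreeTransp.Rel.prod_fixes h (relSame h) hu.1 hv.1 hd ((same_symm hu.2).trans hv.2)
  | one => intro d _; rw [one_mul, inv_one, mul_one]; exact .refl
  | mul x y _ _ hx hy =>
    intro d hd
    rw [show x * y * d * (x * y)⁻¹ = x * (y * d * y⁻¹) * x⁻¹ by group]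
    exact (hy d hd).trans (hx _ (h.conj y d hd))
  | inv x _ hx =>
    intro d hd
    have := hx _ (h.conj x⁻¹ d hd)
    rw [show x * (x⁻¹ * d * x⁻¹⁻¹) * x⁻¹ = d by group] at this
    exact same_symm this

/-- The elements fixing every component. -/
def ker : Subgroup G where
  carrier := {g | ∀ d ∈ D, Same D d (g * d * g⁻¹)}
  one_mem' := fun d _ => by rw [one_mul, inv_one, mul_one]; exact .refl
  mul_mem' := fun {x y} hx hy d hd => by
    rw [show x * y * d * (x * y)⁻¹ = x * (y * d * y⁻¹) * x⁻¹ by group]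
    exact (hy d hd).trans (hx _ (h.conj y d hd))
  inv_mem' := fun {x} hx d hd => by
    have := hx _ (h.conj x⁻¹ d hd)
    rw [show x * (x⁻¹ * d * x⁻¹⁻¹) * x⁻¹ = d by group] at this
    exact same_symm this

theorem ker_normal : (ker h).Normal := ⟨fun k hk g d hd => by
  have := same_conj h g (hk _ (h.conj g⁻¹ d hd))
  rw [show g * (g⁻¹ * d * g⁻¹⁻¹) * g⁻¹ = d by group] at this
  rwa [show g * k * g⁻¹ * d * (g * k * g⁻¹)⁻¹ = g * (k * (g⁻¹ * d * g⁻¹⁻¹) * k⁻¹) * g⁻¹ by group]⟩

theorem evn_le_ker (a : G) : evn D (Same D) a ≤ ker h := fun _ hg => evn_fix h hg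

theorem evn_eq_of_same {a b : G} (ha : a ∈ D) (hb : b ∈ D) (hab : Same D a b) :
    evn D (Same D) a = evn D (Same D) b := by
  rw [evn, evn, ThreeTransp.Rel.cls_eq h (relSame h) ha hb hab]

theorem conj_evn {a : G} (ha : a ∈ D) {g : G} (hfix : Same D a (g * a * g⁻¹)) {x : G}
    (hx : x ∈ evn D (Same D) a) : g * x * g⁻¹ ∈ evn D (Same D) a := by
  rw [evn_eq_of_same h ha (h.conj g a ha) hfix, ThreeTransp.Rel.evn_conj h (relSame h) ha]
  exact ⟨x, hx, rfl⟩

variable [Finite G] (hsol : ∀ N : Subgroup G, N.Normal → Group.IsSolvable ↥N → N = ⊥)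
  (hnc : ∃ a ∈ D, ∃ b ∈ D, ¬ Commute a b)
include hsol hnc

/-- Each component is connected by non-commuting pairs. -/
theorem part_of_same {a b : G} (hab : Same D a b) : Part D a b := by
  by_contra hn
  have hstep : ∃ p c, p ∈ D ∧ c ∈ D ∧ ¬ Part D p c ∧ Commute p c := by
    induction hab with
    | refl => exact absurd .refl hn
    | tail _ h2 ih =>
      rename_i p c hp
      by_cases hap : Part D a p
      · exact ⟨p, c, h2.1, h2.2.1, fun e => hn (hap.trans e), h2.2.2⟩
      · exact ih hap
  obtain ⟨p, c, hp, hc, hpc, hcom⟩ := hstep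
  obtain ⟨x, hx, y, hy, z, hz, hxy, hyz, hxz⟩ := FischerLocalConn6.not_transitive h hsol hnc
  have hxz' : x = z := ThreeTransp.Rel.eq_of_commuting h (relPart h)
    (fun N hN hs _ => hsol N hN hs) hp hc hpc hcom hx hz
    (.single ⟨hx, hz, (same_of_commute hx hy hxy).trans (same_of_commute hy hz hyz), hxz⟩)
  exact hxz (hxz' ▸ Commute.refl x)

/-- Every member has a commuting partner. -/
theorem partner {a : G} (ha : a ∈ D) : ∃ v ∈ D, v ≠ a ∧ Commute a v := by
  obtain ⟨x, hx, y, hy, z, hz, hxy, hyz, hxz⟩ := FischerLocalConn6.not_transitive h hsol hnc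
  obtain ⟨g, rfl⟩ := h.trans x hx a ha
  exact ⟨g * y * g⁻¹, h.conj g y hy, fun e => hxz (conj_inj e ▸ hyz),
    (Commute.conj_iff g).mpr hxy⟩

theorem evn_sol {a : G} (ha : a ∈ D) (N : Subgroup ↥(evn D (Same D) a)) (hN : N.Normal)
    (hs : Group.IsSolvable ↥N) : N = ⊥ := by
  haveI := ker_normal h
  haveI : ((evn D (Same D) a).subgroupOf (ker h)).Normal := ⟨fun x hx k =>
    show (k : G) * x * (k : G)⁻¹ ∈ evn D (Same D) a from conj_evn h ha (k.2 a ha) hx⟩
  exact bot_of_equiv (Subgroup.subgroupOfEquivOfLe (evn_le_ker h a))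
    (bot_of_normal (bot_of_normal hsol (ker h)) _) N hN hs

/-- What is known about one component before the components are compared. -/
theorem comp_core {a : G} (ha : a ∈ D) :
    (IsSimpleGroup ↥(evn D (Same D) a) ∧ ¬ IsMulCommutative ↥(evn D (Same D) a)) ∧
      commutator ↥(closure (cls D (Same D) a)) =
        (evn D (Same D) a).subgroupOf (closure (cls D (Same D) a)) ∧
      (∀ m ∈ closure (cls D (Same D) a), m ∈ evn D (Same D) a ∨ a * m ∈ evn D (Same D) a) ∧
      Cfsg.IsThreeTranspositionClass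
        (QuotientGroup.mk' (center ↥(closure (cls D (Same D) a))) '' compSet D a) ∧
      center (↥(closure (cls D (Same D) a)) ⧸ center ↥(closure (cls D (Same D) a))) = ⊥ ∧
      (Cfsg.commutingGraph
        (QuotientGroup.mk' (center ↥(closure (cls D (Same D) a))) '' compSet D a)).Connected ∧
      IsSimpleGroup ↥(commutator (↥(closure (cls D (Same D) a)) ⧸
        center ↥(closure (cls D (Same D) a)))) := by
  classical
  set E := cls D (Same D) a with hE
  set M0 := evn D (Same D) a with hM0
  have hna : ¬ IsMulCommutative ↥M0 := by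
    intro hcomm
    haveI : Group.IsSolvable ↥(⊤ : Subgroup ↥M0) := by
      haveI : Group.IsSolvable ↥M0 := ComponentsBasic.isSolvable_of_commutative
      infer_instance
    have htop := evn_sol h hsol hnc ha ⊤ inferInstance inferInstance
    obtain ⟨v, hv, hne, hc⟩ := partner h hsol hnc ha
    have hmem : a * v ∈ M0 :=
      subset_closure ⟨a, ⟨ha, .refl⟩, v, ⟨hv, same_of_commute ha hv hc⟩, rfl⟩
    have h1 : (⟨a * v, hmem⟩ : ↥M0) ∈ (⊥ : Subgroup ↥M0) := htop ▸ mem_top _
    have h2 := congrArg Subtype.val (mem_bot.mp h1)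
    exact hne (by rw [← h.inv_eq ha]; exact eq_inv_of_mul_eq_one_right h2)
  set M := closure E with hM
  have hle : M0 ≤ M := (closure_le _).mpr fun _ ⟨u, hu, v, hv, e⟩ =>
    e ▸ mul_mem (subset_closure hu) (subset_closure hv)
  have hconjM : ∀ m ∈ M, ∀ x ∈ M0, m * x * m⁻¹ ∈ M0 := by
    intro m hm
    have hfix : Same D a (m * a * m⁻¹) := by
      have key : ∀ e ∈ E, Same D a (m * e * m⁻¹) := by
        induction hm using Subgroup.closure_induction'' with
        | mem u hu =>
          intro e he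
          have := same_conj h u (show Same D u e from (same_symm hu.2).trans he.2)
          rw [show u * u * u⁻¹ = u by group] at this
          exact hu.2.trans this
        | inv_mem u hu =>
          intro e he
          have := same_conj h u⁻¹ (show Same D u e from (same_symm hu.2).trans he.2)
          rw [show u⁻¹ * u * u⁻¹⁻¹ = u by group] at this
          exact hu.2.trans this
        | one => intro e he; rw [one_mul, inv_one, mul_one]; exact he.2
        | mul x y _ _ hx hy =>
          intro e he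
          rw [show x * y * e * (x * y)⁻¹ = x * (y * e * y⁻¹) * x⁻¹ by group]
          exact hx _ ⟨h.conj y e he.1, hy e he⟩
      exact key a ⟨ha, .refl⟩
    exact fun x hx => conj_evn h ha hfix hx
  have haM : a ∈ M := subset_closure ⟨ha, .refl⟩
  have hpar : ∀ m ∈ M, m ∈ M0 ∨ a * m ∈ M0 := by
    intro m hm
    induction hm using Subgroup.closure_induction'' with
    | mem u hu => exact Or.inr (subset_closure ⟨a, ⟨ha, .refl⟩, u, hu, rfl⟩)
    | inv_mem u hu =>
      rw [h.inv_eq hu.1]; exact Or.inr (subset_closure ⟨a, ⟨ha, .refl⟩, u, hu, rfl⟩)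
    | one => exact Or.inl (one_mem _)
    | mul x y _ _ hx hy =>
      have hswap : ∀ z ∈ M0, a * z * a ∈ M0 := fun z hz => by
        have := hconjM a haM z hz
        rwa [h.inv_eq ha] at this
      rcases hx with hx | hx <;> rcases hy with hy | hy
      · exact Or.inl (mul_mem hx hy)
      · refine Or.inr ?_
        rw [show a * (x * y) = a * x * a⁻¹ * (a * y) by group, h.inv_eq ha]
        exact mul_mem (hswap x hx) hy
      · exact Or.inr (by rw [← mul_assoc]; exact mul_mem hx hy)
      · refine Or.inl ?_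
        rw [show x * y = a⁻¹ * (a * x) * a⁻¹ * (a * y) by group, h.inv_eq ha]
        exact mul_mem (hswap _ hx) hy
  -- inside `M`
  set M' := M0.subgroupOf M with hM'
  haveI hM'n : M'.Normal := ⟨fun x hx m => hconjM m m.2 x hx⟩
  have eM : ↥M' ≃* ↥M0 := Subgroup.subgroupOfEquivOfLe hle
  have hsolM' : ∀ N : Subgroup ↥M', N.Normal → Group.IsSolvable ↥N → N = ⊥ :=
    bot_of_equiv eM.symm (evn_sol h hsol hnc ha)
  have hcl : ∀ u ∈ E, ∀ v, Part D u v → ∃ g : ↥M, (g : G) * u * (g : G)⁻¹ = v ∧ v ∈ E := by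
    intro u hu v hp
    induction hp with
    | refl => exact ⟨1, by simp, hu⟩
    | tail _ h2 ih =>
      rename_i p q hq
      obtain ⟨g, hg, hpE⟩ := ih
      have hqE : q ∈ E := ⟨h2.2.1, hpE.2.trans h2.2.2.1⟩
      refine ⟨⟨p * q, mul_mem (subset_closure hpE) (subset_closure hqE)⟩ * g, ?_, hqE⟩
      show p * q * (g : G) * u * (p * q * (g : G))⁻¹ = q
      calc p * q * (g : G) * u * (p * q * (g : G))⁻¹ = p * (q * ((g : G) * u * (g : G)⁻¹) * q⁻¹) * p⁻¹ := by group
        _ = p * (q * p * q) * p := by rw [hg, h.inv_eq h2.1, h.inv_eq h2.2.1]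
        _ = q := by rw [← h.braid h2.1 h2.2.1 h2.2.2.2, h.refl_refl h2.1]
  have hcomm : commutator ↥M = M' := by
    apply le_antisymm
    · have hel : ∀ m : ↥M, m ∈ M' ∨ (⟨a, haM⟩ : ↥M) * m ∈ M' := fun m => hpar m m.2
      rw [_root_.commutator_def, Subgroup.commutator_le]
      intro x _ y _
      rw [← QuotientGroup.eq_one_iff, ← QuotientGroup.mk'_apply, map_commutatorElement,
        commutatorElement_eq_one_iff_commute]
      have h2 : ∀ m : ↥M, QuotientGroup.mk' M' m = 1 ∨
          QuotientGroup.mk' M' m = (QuotientGroup.mk' M' ⟨a, haM⟩)⁻¹ := fun m => by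
        rcases hel m with hm | hm
        · exact Or.inl ((QuotientGroup.eq_one_iff _).mpr hm)
        · refine Or.inr (eq_inv_of_mul_eq_one_right ?_)
          rw [← map_mul]
          exact (QuotientGroup.eq_one_iff _).mpr hm
      rcases h2 x with e | e <;> rcases h2 y with e' | e' <;> rw [e, e'] <;>
        first | exact Commute.refl _ | exact Commute.one_left _ | exact Commute.one_right _
    · intro x hx
      have hgen : M0 ≤ (commutator ↥M).map M.subtype := by
        refine (closure_le _).mpr ?_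
        rintro _ ⟨u, hu, v, hv, rfl⟩
        obtain ⟨g, hg, -⟩ := hcl u hu v (part_of_same h hsol hnc ((same_symm hu.2).trans hv.2))
        refine ⟨⁅(⟨u, subset_closure hu⟩ : ↥M), g⁆,
          commutator_mem_commutator (mem_top _) (mem_top _), ?_⟩
        show u * (g : G) * u⁻¹ * (g : G)⁻¹ = u * v
        rw [← hg, h.inv_eq hu.1]; group
      obtain ⟨y, hy, e⟩ := hgen hx
      rwa [← Subtype.ext e]
  have haE : a ∈ E := ⟨ha, .refl⟩
  set Z := Subgroup.center ↥M
  have hinter : ∀ x : ↥M, x ∈ M' → (∀ y ∈ M', Commute x y) → x = 1 := by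
    intro x hx hall
    haveI : Group.IsSolvable ↥(center ↥M') := ComponentsBasic.isSolvable_of_commutative
    have h1 := hsolM' (center ↥M') inferInstance inferInstance
    have h2 : (⟨x, hx⟩ : ↥M') ∈ center ↥M' := mem_center_iff.mpr fun y => Subtype.ext (hall y y.2).symm.eq
    rw [h1, mem_bot] at h2
    exact congrArg Subtype.val h2
  have hcen : ∀ x : ↥M, x ∈ M' → x ∈ Z → x = 1 := fun x hx hz =>
    hinter x hx fun y _ => (mem_center_iff.mp hz y).symm
  set π := QuotientGroup.mk' Z
  set C : Set (↥M ⧸ Z) := π '' {x : ↥M | (x : G) ∈ E}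
  have hmemM' : ∀ x y : ↥M, (x : G) ∈ E → (y : G) ∈ E → x * y ∈ M' := fun x y hx hy =>
    subset_closure ⟨_, hx, _, hy, rfl⟩
  have hxinv : ∀ x : ↥M, (x : G) ∈ E → x⁻¹ = x := fun x hx => Subtype.ext (h.inv_eq hx.1)
  have hinj : ∀ x y : ↥M, (x : G) ∈ E → (y : G) ∈ E → π x = π y → x = y := fun x y hx hy e => by
    have h1 : x⁻¹ * y ∈ Z := QuotientGroup.eq.mp e
    rw [hxinv x hx] at h1
    have := hcen _ (hmemM' x y hx hy) h1
    exact (inv_mul_eq_one (a := x) (b := y)).mp (by rwa [hxinv x hx])
  have hgen : Subgroup.closure C = ⊤ := by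
    rw [← MonoidHom.map_closure]
    have : Subgroup.closure {x : ↥M | (x : G) ∈ E} = ⊤ := Subgroup.closure_closure_coe_preimage
    rw [this, Subgroup.map_top_of_surjective _ (QuotientGroup.mk'_surjective _)]
  have hclass : Cfsg.IsThreeTranspositionClass C := by
    refine ⟨⟨?_, ?_⟩, ⟨π ⟨a, haM⟩, ⟨⟨a, haM⟩, haE, rfl⟩, ?_⟩, hgen⟩
    · rintro _ ⟨x, hx, rfl⟩
      refine orderOf_eq_prime (by rw [← map_pow, pow_two, show x * x = 1 from Subtype.ext (h.sq _ hx.1), map_one]) ?_
      intro e
      obtain ⟨v, hv, hne, hc⟩ := partner h hsol hnc hx.1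
      obtain ⟨w, hw, hwn⟩ : ∃ w : ↥M, (w : G) ∈ E ∧ ¬ Commute x w := by
        by_contra hall
        push Not at hall
        have hp := part_of_same h hsol hnc (same_of_commute hx.1 hv hc)
        rcases Relation.ReflTransGen.cases_head hp with e' | ⟨w, hxw, -⟩
        · exact hne e'.symm
        · exact hxw.2.2.2 (congrArg Subtype.val
            (hall ⟨w, subset_closure ⟨hxw.2.1, hx.2.trans hxw.2.2.1⟩⟩ ⟨hxw.2.1, hx.2.trans hxw.2.2.1⟩).eq)
      exact hwn (mem_center_iff.mp ((QuotientGroup.eq_one_iff x).mp e) w).symm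
    · rintro _ ⟨x, hx, rfl⟩ _ ⟨y, hy, rfl⟩
      rcases h.or3 _ hx.1 _ hy.1 with hc | hc
      · left
        rw [← map_mul, ← map_pow, show (x * y) ^ 2 = 1 from Subtype.ext (by
          rw [SubmonoidClass.coe_pow, Subgroup.coe_mul, hc.mul_pow, pow_two, pow_two, h.sq _ hx.1,
            h.sq _ hy.1, one_mul, OneMemClass.coe_one]), map_one]
      · right
        rw [← map_mul, ← map_pow, show (x * y) ^ 3 = 1 from Subtype.ext hc, map_one]
    · ext y
      constructor
      · rintro ⟨x, hx, rfl⟩
        obtain ⟨g, hg, -⟩ := hcl a ⟨ha, .refl⟩ x (part_of_same h hsol hnc hx.2)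
        refine isConj_iff.mpr ⟨π g, ?_⟩
        rw [← map_inv, ← map_mul, ← map_mul]
        exact congrArg π (Subtype.ext hg)
      · intro hy
        obtain ⟨g, rfl⟩ := isConj_iff.mp hy
        obtain ⟨g, rfl⟩ := QuotientGroup.mk'_surjective Z g
        refine ⟨g * ⟨a, haM⟩ * g⁻¹, ?_, by rw [map_mul, map_mul, map_inv]⟩
        refine ⟨h.conj g a ha, ?_⟩
        rcases hpar g g.2 with hg | hg
        · exact evn_fix h hg a ha
        · have := evn_fix h hg a ha
          rw [show a * (g : G) * a * (a * (g : G))⁻¹ = a * ((g : G) * a * (g : G)⁻¹) * a⁻¹ by group] at this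
          have := same_conj h a⁻¹ this
          rwa [show a⁻¹ * a * a⁻¹⁻¹ = a by group,
            show a⁻¹ * (a * ((g : G) * a * (g : G)⁻¹) * a⁻¹) * a⁻¹⁻¹ = (g : G) * a * (g : G)⁻¹ by group] at this
  have hZ : center (↥M ⧸ Z) = ⊥ := by
    refine eq_bot_iff.mpr fun q hq => mem_bot.mpr ?_
    obtain ⟨x, rfl⟩ := QuotientGroup.mk'_surjective Z q
    refine (QuotientGroup.eq_one_iff x).mpr (mem_center_iff.mpr fun m => ?_)
    have h1 : ⁅x, m⁆ ∈ Z := by
      rw [← QuotientGroup.eq_one_iff, ← QuotientGroup.mk'_apply, map_commutatorElement,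
        commutatorElement_eq_one_iff_commute]
      exact (mem_center_iff.mp hq (QuotientGroup.mk' Z m)).symm
    exact (commutatorElement_eq_one_iff_commute.mp
      (hcen _ (hcomm ▸ commutator_mem_commutator (mem_top _) (mem_top _)) h1)).symm.eq
  have hcore : ∀ p : ℕ, p.Prime → Cfsg.pCore p (↥M ⧸ Z) = ⊥ := by
    intro p hp
    haveI := Fact.mk hp
    set P := (Cfsg.pCore p (↥M ⧸ Z)).comap π
    haveI : P.Normal := (HallCore.pCore_normal p _).comap _
    have hP0 : P.subgroupOf M' = ⊥ := by
      refine hsolM' _ inferInstance ?_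
      let f : ↥(P.subgroupOf M') →* ↥(Cfsg.pCore p (↥M ⧸ Z)) :=
        { toFun := fun x => ⟨π ((x : ↥M') : ↥M), x.2⟩
          map_one' := Subtype.ext (map_one π)
          map_mul' := fun x y => Subtype.ext (map_mul π _ _) }
      haveI : Group.IsNilpotent ↥(Cfsg.pCore p (↥M ⧸ Z)) := (HallCore.isPGroup_pCore p _).isNilpotent
      refine Group.isSolvable_of_isSolvable_injective (f := f) ((injective_iff_map_eq_one f).mpr fun x hx => ?_)
      exact Subtype.ext (Subtype.ext (hcen _ (x : ↥M').2 ((QuotientGroup.eq_one_iff _).mp (congrArg Subtype.val hx))))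
    refine eq_bot_iff.mpr fun q hq => mem_bot.mpr ?_
    obtain ⟨x, rfl⟩ := QuotientGroup.mk'_surjective Z q
    refine (QuotientGroup.eq_one_iff x).mpr (mem_center_iff.mpr fun m => ?_)
    have h1 : ⁅x, m⁆ ∈ M' := hcomm ▸ commutator_mem_commutator (mem_top _) (mem_top _)
    have h2 : ⁅x, m⁆ ∈ P := by
      rw [commutatorElement_def, mul_assoc, mul_assoc]
      exact mul_mem (show x ∈ P from hq) (by
        rw [← mul_assoc]; exact (inferInstance : P.Normal).conj_mem _ (inv_mem (show x ∈ P from hq)) m)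
    have h3 : (⟨_, h1⟩ : ↥M') ∈ P.subgroupOf M' := h2
    rw [hP0, mem_bot] at h3
    exact (commutatorElement_eq_one_iff_commute.mp (congrArg Subtype.val h3)).symm.eq
  obtain ⟨v, hv, hne, hc⟩ := partner h hsol hnc ha
  have hvE : v ∈ E := ⟨hv, same_of_commute ha hv hc⟩
  have hw : ∃ x ∈ C, ∃ y ∈ C, x ≠ y ∧ Commute x y :=
    ⟨_, ⟨⟨a, haM⟩, haE, rfl⟩, _, ⟨⟨v, subset_closure hvE⟩, hvE, rfl⟩,
      fun e => hne (congrArg Subtype.val (hinj ⟨a, haM⟩ ⟨v, subset_closure hvE⟩ haE hvE e)).symm,
      (show Commute (⟨a, haM⟩ : ↥M) ⟨v, subset_closure hvE⟩ from Subtype.ext hc).map π⟩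
  obtain ⟨h12, h23⟩ := S5361.result hclass hZ hw
  have hconn : (Cfsg.commutingGraph C).Connected := by
    haveI : Nonempty ↥C := ⟨⟨_, ⟨a, haM⟩, haE, rfl⟩⟩
    refine ⟨fun u v => ?_⟩
    have key : ∀ q : G, ∀ hq : Same D a q, ∀ hqD : q ∈ D,
        (Cfsg.commutingGraph C).Reachable ⟨π ⟨a, haM⟩, ⟨a, haM⟩, haE, rfl⟩
          ⟨π ⟨q, subset_closure ⟨hqD, hq⟩⟩, ⟨q, subset_closure ⟨hqD, hq⟩⟩, ⟨hqD, hq⟩, rfl⟩ := by
      intro q hq
      induction hq with
      | refl => intro _; exact .refl _
      | tail hp h2 ih =>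
        intro hqD
        refine (ih h2.1).trans ?_
        rename_i p q
        by_cases e : p = q
        · subst e; exact .refl _
        refine SimpleGraph.Adj.reachable ⟨fun e' => e ?_, Or.inl ?_⟩
        · exact congrArg Subtype.val (hinj ⟨p, subset_closure ⟨h2.1, hp⟩⟩ ⟨q, subset_closure ⟨hqD, hp.tail h2⟩⟩ ⟨h2.1, hp⟩ ⟨hqD, hp.tail h2⟩ (congrArg Subtype.val e'))
        · exact (show Commute (⟨p, subset_closure ⟨h2.1, hp⟩⟩ : ↥M) ⟨q, subset_closure ⟨hqD, hp.tail h2⟩⟩
            from Subtype.ext h2.2.2).map π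
    obtain ⟨_, ⟨x, hxM⟩, ⟨hxD, hxS⟩, rfl⟩ := u
    obtain ⟨_, ⟨y, hyM⟩, ⟨hyD, hyS⟩, rfl⟩ := v
    exact (key x hxS hxD).symm.trans (key y hyS hyD)
  have hsimple : IsSimpleGroup ↥(commutator (↥M ⧸ Z)) :=
    h12.mpr (h23.mpr ⟨hcore 2 Nat.prime_two, hcore 3 Nat.prime_three, hconn⟩)
  have hmap : M'.map π = commutator (↥M ⧸ Z) := by
    rw [← hcomm, _root_.commutator_def, _root_.commutator_def, Subgroup.map_commutator,
      Subgroup.map_top_of_surjective _ (QuotientGroup.mk'_surjective _)]
  have e2 : ↥M' ≃* ↥(M'.map π) := by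
    refine MulEquiv.ofBijective (π.subgroupMap M') ⟨(injective_iff_map_eq_one _).mpr fun x hx => ?_,
      MonoidHom.subgroupMap_surjective _ _⟩
    exact Subtype.ext (hcen _ x.2 ((QuotientGroup.eq_one_iff _).mp (congrArg Subtype.val hx)))
  exact ⟨⟨(eM.symm.trans (e2.trans (MulEquiv.subgroupCongr hmap))).isSimpleGroup, hna⟩, hcomm, hpar,
    hclass, hZ, hconn, hsimple⟩

end Cfsg.Agent.Triality95Base
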