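import Mathlib
import Cfsg.Prelude.Def_Classical
import Cfsg.Prelude.Def_FischerSpaces

/-!
# Elements moving every member of a class to a commuting one

The interface of the triality argument: in a group `M` generated by a class `C`, the elements that come from
commuting pairs of another component move every member to a different commuting member, are carried to each
other by the derived group, and their products have the orders of products of two commuting pairs.
-/

set_option autoImplicit false

namespace Cfsg.Agent.Triality95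

variable {M : Type*} [Group M]

/-- An involution of the derived group moving every member of `C` to another one commuting with it. -/
structure Fpf (C : Set M) (y : M) : Prop where
  mem : y ∈ commutator M
  sq : y * y = 1
  move : ∀ v ∈ C, y * v * y⁻¹ ≠ v
  comm : ∀ v ∈ C, Commute v (y * v * y⁻¹)

/-- What the other components leave in the group of one component. -/
structure Wit (C : Set M) (X : Set M) : Prop where
  ne : X.Nonempty
  fpf : ∀ y ∈ X, Fpf C y
  inv : ∀ h ∈ commutator M, ∀ y ∈ X, h * y * h⁻¹ ∈ X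
  ord : ∀ y ∈ X, ∀ y' ∈ X, ∃ u ∈ C, ∃ v ∈ C, ∃ u' ∈ C, ∃ v' ∈ C,
    u ≠ v ∧ u' ≠ v' ∧ Commute u v ∧ Commute u' v' ∧ orderOf (y * y') = orderOf (u * v * (u' * v'))

/-- The outcome for a component: one class of such elements, and the derived group is one of the two
orthogonal groups in dimension eight. -/
def Verdict (M : Type*) [Group M] (C : Set M) : Prop :=
  (∀ y y' : M, Fpf C y → Fpf C y' → ∃ g : M, g * y * g⁻¹ = y') ∧
    (Nonempty (↥(commutator M) ≃* ↥(Cfsg.Omega (ZMod 2) (Cfsg.quadFormPlus 4 (ZMod 2)))) ∨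
      Nonempty (↥(commutator M) ≃* Cfsg.POmega (ZMod 3) (Cfsg.quadFormPlus 4 (ZMod 3))))

variable {N : Type*} [Group N] (e : M ≃* N)

theorem map_commutator_equiv : (commutator M).map e.toMonoidHom = commutator N := by
  rw [commutator_def, commutator_def, Subgroup.map_commutator,
    Subgroup.map_top_of_surjective _ e.surjective]

theorem mem_commutator_equiv {h : M} (hh : h ∈ commutator M) : e h ∈ commutator N :=
  map_commutator_equiv e ▸ Subgroup.mem_map_of_mem _ hh

theorem Fpf.map {C : Set M} {y : M} (hy : Fpf C y) : Fpf (e '' C) (e y) := by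
  refine ⟨mem_commutator_equiv e hy.mem, by rw [← map_mul, hy.sq, map_one], ?_, ?_⟩
  · rintro _ ⟨v, hv, rfl⟩ h
    rw [← map_inv, ← map_mul, ← map_mul] at h
    exact hy.move v hv (e.injective h)
  · rintro _ ⟨v, hv, rfl⟩
    rw [← map_inv, ← map_mul, ← map_mul]
    exact (hy.comm v hv).map e.toMonoidHom

theorem Wit.map {C X : Set M} (W : Wit C X) : Wit (e '' C) (e '' X) := by
  refine ⟨W.ne.image e, ?_, ?_, ?_⟩
  · rintro _ ⟨y, hy, rfl⟩
    exact (W.fpf y hy).map e
  · rintro h hh _ ⟨y, hy, rfl⟩
    refine ⟨e.symm h * y * (e.symm h)⁻¹, W.inv _ (mem_commutator_equiv e.symm hh) y hy, ?_⟩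
    simp
  · rintro _ ⟨y, hy, rfl⟩ _ ⟨y', hy', rfl⟩
    obtain ⟨u, hu, v, hv, u', hu', v', hv', h1, h2, h3, h4, h5⟩ := W.ord y hy y' hy'
    refine ⟨e u, ⟨u, hu, rfl⟩, e v, ⟨v, hv, rfl⟩, e u', ⟨u', hu', rfl⟩, e v', ⟨v', hv', rfl⟩,
      e.injective.ne h1, e.injective.ne h2, h3.map e.toMonoidHom, h4.map e.toMonoidHom, ?_⟩
    rw [← map_mul, ← map_mul, ← map_mul, ← map_mul, MulEquiv.orderOf_eq, MulEquiv.orderOf_eq, h5]

theorem Verdict.of_equiv {C : Set M} (h : Verdict N (e '' C)) : Verdict M C := by
  refine ⟨fun y y' hy hy' => ?_, ?_⟩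
  · obtain ⟨g, hg⟩ := h.1 _ _ (hy.map e) (hy'.map e)
    exact ⟨e.symm g, e.injective (by simp [hg])⟩
  · have i : ↥(commutator M) ≃* ↥(commutator N) :=
      (e.subgroupMap (commutator M)).trans (MulEquiv.subgroupCongr (map_commutator_equiv e))
    exact h.2.imp (fun ⟨f⟩ => ⟨i.trans f⟩) fun ⟨f⟩ => ⟨i.trans f⟩

/-- An element of odd order lies in the derived group when that has index at most two. -/
theorem odd_mem_commutator [Finite M] (hidx : (commutator M).index ≤ 2) {h : M} {n : ℕ} (hn : Odd n)
    (hh : h ^ n = 1) : h ∈ commutator M := by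
  have h0 : (commutator M).index ≠ 0 := Subgroup.index_ne_zero_of_finite
  rcases (show (commutator M).index = 1 ∨ (commutator M).index = 2 by omega) with e1 | e1
  · rw [Subgroup.index_eq_one.mp e1]
    exact Subgroup.mem_top h
  · obtain ⟨m, rfl⟩ := hn
    by_contra hnot
    have h2 : h ^ 2 ∈ commutator M := by
      rw [← QuotientGroup.eq_one_iff, QuotientGroup.mk_pow]
      have : Nat.card (M ⧸ commutator M) = 2 := by rw [← Subgroup.index_eq_card]; exact e1
      exact this ▸ pow_card_eq_one'
    have h3 := pow_mem h2 m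
    rw [← pow_mul] at h3
    have h4 : h ^ (2 * m) * h ∈ commutator M := by rw [← pow_succ, hh]; exact one_mem _
    exact hnot ((mul_mem_cancel_left h3).mp h4)

end Cfsg.Agent.Triality95
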