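import Cfsg.Agent.Lib.QuadFormF2
import Cfsg.Agent.Lib.SymplecticAlt
import Cfsg.Agent.Lib.OrthUnitaryTranspositions

/-!
# Involutive isometries over the field of two elements moving every non-singular vector

If an involutive isometry of a non-degenerate quadratic space fixes no non-singular vector and
keeps each one orthogonal to its image, the space has dimension a multiple of four and has a
frame exchanged by the isometry, with standard pairing.
-/

set_option autoImplicit false

namespace Cfsg.Agent.Triality95Frame88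

open QuadraticMap

theorem zm (a : ZMod 2) : a = 0 ∨ a = 1 := by revert a; decide

variable {V : Type*} [AddCommGroup V] [Module (ZMod 2) V]
variable {P : QuadraticForm (ZMod 2) V}

theorem polar_self2 (x : V) : polar P x x = 0 := by
  rw [QuadraticMap.polar_self, two_nsmul, CharTwo.add_self_eq_zero]

theorem map_add2 (x y : V) : P (x + y) = P x + P y + polar P x y := QuadraticMap.map_add (⇑P) x y

/-- The hypotheses on the isometry. -/
structure Inv (P : QuadraticForm (ZMod 2) V) (T : V ≃ₗ[ZMod 2] V) : Prop where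
  isom : ∀ x, P (T x) = P x
  invol : ∀ x, T (T x) = x
  move : ∀ v, P v ≠ 0 → T v ≠ v
  perp : ∀ v, P v ≠ 0 → polar P v (T v) = 0

variable {T : V ≃ₗ[ZMod 2] V}

theorem Inv.polar_map (h : Inv P T) (x y : V) : polar P (T x) (T y) = polar P x y := by
  simp only [polar, ← map_add, h.isom]

theorem Inv.polar_swap (h : Inv P T) (x y : V) : polar P (T x) y = polar P x (T y) := by
  conv_lhs => rw [← h.invol y, h.polar_map]

/-- The fixed space. -/
def fixSpace (T : V ≃ₗ[ZMod 2] V) : Submodule (ZMod 2) V :=
  LinearMap.ker ((T : V →ₗ[ZMod 2] V) + LinearMap.id)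

theorem mem_fixSpace {x : V} : x ∈ fixSpace T ↔ T x = x := by
  rw [fixSpace, LinearMap.mem_ker]
  show T x + x = 0 ↔ _
  rw [← ZModModule.sub_eq_add, sub_eq_zero]

theorem Inv.singular (h : Inv P T) {x : V} (hx : x ∈ fixSpace T) : P x = 0 :=
  (zm _).resolve_right fun e => h.move x (by rw [e]; exact one_ne_zero) (mem_fixSpace.1 hx)

theorem Inv.isotropic (h : Inv P T) {x y : V} (hx : x ∈ fixSpace T) (hy : y ∈ fixSpace T) :
    polar P x y = 0 := by
  rw [polar, h.singular (add_mem hx hy), h.singular hx, h.singular hy]; rfl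

variable [Finite V]

/-- A totally isotropic subspace: its orthogonal space. -/
theorem finrank_orth (hP : (polarBilin P).Nondegenerate) (S : Submodule (ZMod 2) V) :
    Module.finrank (ZMod 2) S + Module.finrank (ZMod 2)
      (LinearMap.ker ((LinearMap.lcomp (ZMod 2) (ZMod 2) S.subtype).comp (polarBilin P))) =
      Module.finrank (ZMod 2) V := by
  have : FiniteDimensional (ZMod 2) V := Module.Finite.of_finite
  have hinj : Function.Injective (polarBilin P) := by
    intro a b e
    rw [← sub_eq_zero]
    refine hP.1 _ fun v => ?_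
    rw [map_sub, LinearMap.sub_apply, e, sub_self]
  have hB : Function.Surjective (polarBilin P) :=
    (LinearMap.injective_iff_surjective_of_finrank_eq_finrank (Subspace.dual_finrank_eq).symm).1 hinj
  have hsurj : Function.Surjective ((LinearMap.lcomp (ZMod 2) (ZMod 2) S.subtype).comp (polarBilin P)) := by
    intro g
    obtain ⟨g', hg'⟩ := LinearMap.exists_extend g
    obtain ⟨a, rfl⟩ := hB g'
    exact ⟨a, hg'⟩
  have h1 := ((LinearMap.lcomp (ZMod 2) (ZMod 2) S.subtype).comp (polarBilin P)).finrank_range_add_finrank_ker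
  rw [LinearMap.range_eq_top.2 hsurj, finrank_top] at h1
  rw [← h1]
  congr 1
  exact (Subspace.dual_finrank_eq (K := ZMod 2) (V := ↥S)).symm

theorem two_mul_le (hP : (polarBilin P).Nondegenerate) (S : Submodule (ZMod 2) V)
    (hS : ∀ x ∈ S, ∀ y ∈ S, polar P x y = 0) :
    2 * Module.finrank (ZMod 2) S ≤ Module.finrank (ZMod 2) V := by
  have : FiniteDimensional (ZMod 2) V := Module.Finite.of_finite
  have h1 := finrank_orth hP S
  have h2 := Submodule.finrank_mono (show S ≤ LinearMap.ker
    ((LinearMap.lcomp (ZMod 2) (ZMod 2) S.subtype).comp (polarBilin P)) from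
    fun x hx => LinearMap.mem_ker.2 (LinearMap.ext fun y => hS x hx y y.2))
  omega

/-- The fixed space is half of the space. -/
theorem Inv.fix_facts (h : Inv P T) (hP : (polarBilin P).Nondegenerate) :
    2 * Module.finrank (ZMod 2) (fixSpace T) = Module.finrank (ZMod 2) V ∧
      (∀ z, (∀ y ∈ fixSpace T, polar P z y = 0) → z ∈ fixSpace T) := by
  have : FiniteDimensional (ZMod 2) V := Module.Finite.of_finite
  have h1 := ((T : V →ₗ[ZMod 2] V) + LinearMap.id).finrank_range_add_finrank_ker
  have h2 : LinearMap.range ((T : V →ₗ[ZMod 2] V) + LinearMap.id) ≤ fixSpace T := by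
    rintro _ ⟨x, rfl⟩
    refine mem_fixSpace.2 ?_
    show T (T x + x) = T x + x
    rw [map_add, h.invol, add_comm]
  have h3 := Submodule.finrank_mono h2
  have h4 := two_mul_le hP (fixSpace T) fun x hx y hy => h.isotropic hx hy
  have h5 : Module.finrank (ZMod 2) (LinearMap.ker ((T : V →ₗ[ZMod 2] V) + LinearMap.id)) =
      Module.finrank (ZMod 2) (fixSpace T) := rfl
  refine ⟨by omega, fun z hz => ?_⟩
  have h6 := finrank_orth hP (fixSpace T)
  have hle : fixSpace T ≤ LinearMap.ker
      ((LinearMap.lcomp (ZMod 2) (ZMod 2) (fixSpace T).subtype).comp (polarBilin P)) :=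
    fun x hx => LinearMap.mem_ker.2 (LinearMap.ext fun y => h.isotropic hx y.2)
  have heq := Submodule.eq_of_le_of_finrank_eq hle (by omega)
  rw [heq]
  exact LinearMap.mem_ker.2 (LinearMap.ext fun y => hz y y.2)

/-- Every vector is orthogonal to its image. -/
theorem Inv.perp_all (h : Inv P T) (hP : (polarBilin P).Nondegenerate)
    (hdim : 3 ≤ Module.finrank (ZMod 2) V) (x : V) : polar P x (T x) = 0 := by
  have : FiniteDimensional (ZMod 2) V := Module.Finite.of_finite
  let a : V →+ ZMod 2 := AddMonoidHom.mk' (fun v => polar P v (T v)) fun u v => by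
    rw [map_add, polar_add_left, polar_add_right, polar_add_right, polar_comm P v (T u),
      h.polar_swap u v]
    generalize polar P u (T u) = p
    generalize polar P u (T v) = q
    generalize polar P v (T v) = r
    revert p q r; decide
  let al : V →ₗ[ZMod 2] ZMod 2 := a.toZModLinearMap 2
  show al x = 0
  by_contra hx
  have hx1 : al x = 1 := (zm _).resolve_left hx
  have hsing : ∀ v, P v ≠ 0 → al v = 0 := h.perp
  have hker : ∀ w ∈ LinearMap.ker al, P w = polar P x w := by
    intro w hw
    have h1 : P (x + w) = 0 := by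
      by_contra hc
      have := hsing _ hc
      rw [map_add, hx1, LinearMap.mem_ker.1 hw, add_zero] at this
      exact one_ne_zero this
    have h2 : P x = 0 := by
      by_contra hc
      exact hx (hsing _ hc)
    rw [map_add2, h2, zero_add] at h1
    revert h1
    generalize P w = p
    generalize polar P x w = q
    revert p q; decide
  have hiso : ∀ v ∈ LinearMap.ker al, ∀ w ∈ LinearMap.ker al, polar P v w = 0 := by
    intro v hv w hw
    rw [polar, hker _ (add_mem hv hw), hker _ hv, hker _ hw, polar_add_right]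
    abel
  have h1 := two_mul_le hP _ hiso
  have h2 := al.finrank_range_add_finrank_ker
  have h3 : Module.finrank (ZMod 2) (LinearMap.range al) ≤ 1 := by
    have := Submodule.finrank_le (LinearMap.range al)
    rwa [Module.finrank_self] at this
  omega

/-- A frame exchanged by the isometry. -/
theorem exists_frame (h : Inv P T) (hP : (polarBilin P).Nondegenerate)
    (hdim : 3 ≤ Module.finrank (ZMod 2) V) :
    ∃ k, Module.finrank (ZMod 2) V = 4 * k ∧
      ∃ Ψ : ((Fin k ⊕ Fin k → ZMod 2) × (Fin k ⊕ Fin k → ZMod 2)) ≃ₗ[ZMod 2] V,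
        (∀ a b, P (Ψ (a, b)) = Cfsg.sympForm k (ZMod 2) a b) ∧
        ∀ a b, T (Ψ (a, b)) = Ψ (b, a) := by
  classical
  have : FiniteDimensional (ZMod 2) V := Module.Finite.of_finite
  obtain ⟨hW, hWperp⟩ := h.fix_facts hP
  obtain ⟨U, hU⟩ := (fixSpace T).exists_isCompl
  have hUdim := Submodule.finrank_add_eq_of_isCompl hU
  let σ : V →ₗ[ZMod 2] V →ₗ[ZMod 2] ZMod 2 :=
    (polarBilin P).compl₂ ((T : V →ₗ[ZMod 2] V) + LinearMap.id)
  have hσ : ∀ x y, σ x y = polar P x (T y) + polar P x y := fun x y => polar_add_right P x (T y) y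
  have halt : ∀ x, σ x x = 0 := fun x => by
    rw [hσ, h.perp_all hP hdim, polar_self2, add_zero]
  have hdisj := Submodule.disjoint_def.1 hU.disjoint
  have hnd : ∀ u ∈ U, (∀ v ∈ U, σ u v = 0) → u = 0 := by
    intro u hu hv
    refine hdisj u (mem_fixSpace.2 ?_) hu
    have h1 : T u + u = 0 := by
      refine hP.1 _ fun v => ?_
      show polar P (T u + u) v = 0
      rw [polar_add_left, h.polar_swap, ← hσ]
      obtain ⟨w, hw, z, hz, rfl⟩ := Submodule.mem_sup.1
        (show v ∈ fixSpace T ⊔ U by rw [hU.sup_eq_top]; exact Submodule.mem_top)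
      rw [map_add, hv z hz, add_zero, hσ, mem_fixSpace.1 hw, CharTwo.add_self_eq_zero]
    rwa [← ZModModule.sub_eq_add, sub_eq_zero] at h1
  obtain ⟨k, hk, e, heU, he⟩ := SymplecticAlt.exists_symp_basis σ halt _ U rfl hnd
  refine ⟨k, by omega, ?_⟩
  let ι := Fin k ⊕ Fin k
  let L₀ := Fintype.linearCombination (ZMod 2) e
  have hσL : ∀ a b : ι → ZMod 2, σ (L₀ a) (L₀ b) = Cfsg.sympForm k (ZMod 2) a b := by
    intro a b
    simp only [L₀, Fintype.linearCombination_apply, map_sum, map_smul, LinearMap.sum_apply,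
      LinearMap.smul_apply, he, Cfsg.sympForm]
    simp only [smul_eq_mul, dotProduct, Matrix.mulVec, Finset.mul_sum]
    rw [Finset.sum_comm]
    exact Finset.sum_congr rfl fun _ _ => Finset.sum_congr rfl fun _ _ => by
      simp [Pi.single_apply]; ring
  have hL₀inj : Function.Injective L₀ := by
    intro a b eab
    rw [← sub_eq_zero]
    refine SymplecticBasic.form_nondeg fun v => ?_
    rw [SymplecticBasic.form_sub_left, ← hσL, ← hσL, eab, sub_self]
  have hL₀U : ∀ a, L₀ a ∈ U := fun a => by
    simp only [L₀, Fintype.linearCombination_apply]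
    exact sum_mem fun s _ => U.smul_mem _ (heU s)
  let Lu : (ι → ZMod 2) →ₗ[ZMod 2] U := L₀.codRestrict U hL₀U
  have hLu : Function.Bijective Lu := by
    have hinj : Function.Injective Lu := fun a b eab => hL₀inj (congrArg Subtype.val eab)
    refine ⟨hinj, (LinearMap.injective_iff_surjective_of_finrank_eq_finrank ?_).1 hinj⟩
    rw [Module.finrank_fintype_fun_eq_card, hk]
    simp [ι, two_mul]
  -- corrections in the fixed space
  let φ : fixSpace T →ₗ[ZMod 2] Module.Dual (ZMod 2) U :=
    ((LinearMap.lcomp (ZMod 2) (ZMod 2) U.subtype).comp (polarBilin P)).comp (fixSpace T).subtype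
  have hφ : Function.Surjective φ := by
    refine (LinearMap.injective_iff_surjective_of_finrank_eq_finrank ?_).1 ?_
    · show _ = Module.finrank (ZMod 2) (Module.Dual (ZMod 2) U)
      rw [Subspace.dual_finrank_eq]; omega
    · rw [injective_iff_map_eq_zero]
      intro w hw
      refine Subtype.ext (hP.1 _ fun v => ?_)
      show polar P (w : V) v = 0
      obtain ⟨w', hw', z, hz, rfl⟩ := Submodule.mem_sup.1
        (show v ∈ fixSpace T ⊔ U by rw [hU.sup_eq_top]; exact Submodule.mem_top)
      rw [polar_add_right, h.isotropic w.2 hw', zero_add]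
      exact LinearMap.congr_fun hw ⟨z, hz⟩
  let rk : ι → ℕ := fun s => (Fintype.equivFin ι s).val
  have hrk : ∀ s t, rk s = rk t → s = t := fun s t hst =>
    (Fintype.equivFin ι).injective (Fin.ext hst)
  let A : ι → ι → ZMod 2 := fun s t =>
    if rk s < rk t then polar P (e s) (e t) else if s = t then P (e s) else 0
  have hex : ∀ s, ∃ c : fixSpace T, ∀ t, polar P (c : V) (e t) = A s t := by
    intro s
    obtain ⟨c, hc⟩ := hφ ((Fintype.linearCombination (ZMod 2) (A s)).comp
      (LinearEquiv.ofBijective Lu hLu).symm.toLinearMap)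
    refine ⟨c, fun t => ?_⟩
    have h1 := LinearMap.congr_fun hc ⟨e t, heU t⟩
    have h2 : (LinearEquiv.ofBijective Lu hLu).symm ⟨e t, heU t⟩ = Pi.single t 1 := by
      rw [LinearEquiv.symm_apply_eq]
      exact Subtype.ext (by simp [Lu, L₀, Fintype.linearCombination_apply_single])
    simp only [LinearMap.comp_apply, LinearEquiv.coe_coe, h2,
      Fintype.linearCombination_apply_single, smul_eq_mul, one_mul] at h1
    exact h1
  choose c hc using hex
  let w : ι → V := fun s => e s + (c s : V)
  have hww : ∀ s, P (w s) = 0 := by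
    intro s
    rw [map_add2, h.singular (c s).2, add_zero, polar_comm P (e s), hc]
    simp [A, CharTwo.add_self_eq_zero]
  have hwB : ∀ s t, polar P (w s) (w t) = 0 := by
    intro s t
    rw [polar_add_left, polar_add_right, polar_add_right, h.isotropic (c s).2 (c t).2, add_zero,
      polar_comm P (e s) (c t : V), hc, hc]
    by_cases hst : s = t
    · subst hst
      rw [polar_self2, zero_add, CharTwo.add_self_eq_zero]
    · rcases lt_trichotomy (rk s) (rk t) with hl | hl | hl
      · simp [A, hl, hl.not_gt, Ne.symm hst, CharTwo.add_self_eq_zero]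
      · exact absurd (hrk s t hl) hst
      · simp [A, hl, hl.not_gt, hst, polar_comm P (e t) (e s), CharTwo.add_self_eq_zero]
  let L := Fintype.linearCombination (ZMod 2) w
  have hLB : ∀ a b, polar P (L a) (L b) = 0 := by
    intro a b
    rw [← polarBilin_apply_apply]
    simp only [L, Fintype.linearCombination_apply, map_sum, map_smul, LinearMap.sum_apply,
      LinearMap.smul_apply, polarBilin_apply_apply, hwB, smul_zero, Finset.sum_const_zero]
  have hLP : ∀ a, P (L a) = 0 := by
    intro a
    simp only [L, Fintype.linearCombination_apply]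
    refine (Finset.sum_induction _ (fun x => P x = 0 ∧ ∀ b, polar P x (L b) = 0 ∧ ∃ a', x = L a')
      ?_ ?_ ?_).1
    · rintro x y ⟨hx, hx'⟩ ⟨hy, hy'⟩
      obtain ⟨ay, rfl⟩ := (hy' 0).2
      obtain ⟨ax, rfl⟩ := (hx' 0).2
      refine ⟨by rw [map_add2, hx, hy, hLB]; rfl, fun b => ⟨?_, ax + ay, by rw [map_add]⟩⟩
      rw [← map_add, hLB]
    · exact ⟨QuadraticMap.map_zero P, fun b => ⟨by simp [polar], 0, by simp⟩⟩
    · intro s _
      have hs : a s • w s = L (Pi.single s (a s)) := by
        simp [L, Fintype.linearCombination_apply_single]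
      refine ⟨?_, fun b => ⟨by rw [hs, hLB], _, hs⟩⟩
      rw [QuadraticMap.map_smul, hww, smul_zero]
  have hLσ : ∀ a b, polar P (L a) (T (L b)) = Cfsg.sympForm k (ZMod 2) a b := by
    intro a b
    have h1 : ∀ a, ∃ z ∈ fixSpace T, L a = L₀ a + z := by
      intro a
      refine ⟨∑ s, a s • (c s : V), sum_mem fun s _ => Submodule.smul_mem _ _ (c s).2, ?_⟩
      simp only [L, L₀, w, Fintype.linearCombination_apply, smul_add, Finset.sum_add_distrib]
      rfl
    have h2 : polar P (L a) (T (L b)) = σ (L a) (L b) := by rw [hσ, hLB, add_zero]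
    obtain ⟨z, hz, ea⟩ := h1 a
    obtain ⟨z', hz', eb⟩ := h1 b
    have hz0 : ∀ x, σ z x = 0 := fun x => by
      rw [hσ, ← h.polar_swap, mem_fixSpace.1 hz, CharTwo.add_self_eq_zero]
    have hz0' : ∀ x, σ x z' = 0 := fun x => by
      rw [hσ, mem_fixSpace.1 hz', CharTwo.add_self_eq_zero]
    rw [h2, ea, eb, map_add σ, LinearMap.add_apply, map_add (σ (L₀ a)), hz0', hz0, add_zero,
      add_zero, hσL]
  let Ψ₀ : (ι → ZMod 2) × (ι → ZMod 2) →ₗ[ZMod 2] V :=
    LinearMap.coprod L ((T : V →ₗ[ZMod 2] V).comp L)
  have hΨ : ∀ a b, Ψ₀ (a, b) = L a + T (L b) := fun a b => rfl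
  have hinj : Function.Injective Ψ₀ := by
    rw [injective_iff_map_eq_zero]
    rintro ⟨a, b⟩ hab
    rw [hΨ] at hab
    have ha : a = 0 := SymplecticBasic.form_nondeg fun v => by
      have h0 : polar P (L a + T (L b)) (T (L v)) = 0 := by rw [hab]; simp [polar]
      rwa [polar_add_left, hLσ, h.polar_map, hLB, add_zero] at h0
    have hb : b = 0 := SymplecticBasic.form_nondeg fun v => by
      have h0 : polar P (L a + T (L b)) (L v) = 0 := by rw [hab]; simp [polar]
      rwa [polar_add_left, hLB, zero_add, h.polar_swap, hLσ] at h0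
    rw [ha, hb]; rfl
  have hdimeq : Module.finrank (ZMod 2) ((ι → ZMod 2) × (ι → ZMod 2)) = Module.finrank (ZMod 2) V := by
    rw [Module.finrank_prod, Module.finrank_fintype_fun_eq_card]
    simp [ι]
    omega
  refine ⟨LinearEquiv.ofBijective Ψ₀
    ⟨hinj, (LinearMap.injective_iff_surjective_of_finrank_eq_finrank hdimeq).1 hinj⟩, ?_, ?_⟩
  · intro a b
    show P (Ψ₀ (a, b)) = _
    rw [hΨ, map_add2, hLP, h.isom, hLP, hLσ, zero_add, zero_add]
  · intro a b
    show T (Ψ₀ (a, b)) = Ψ₀ (b, a)
    rw [hΨ, hΨ, map_add, h.invol, add_comm]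

end Cfsg.Agent.Triality95Frame88
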