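import Cfsg.Agent.Lib.Triality95Base

/-!
# The components share one simple derived group

All components have the same derived group `L`, it has trivial centralizer, and for two components the
edge products of one of them are fixed-point-free elements for the other.
-/

set_option autoImplicit false
set_option linter.unusedSectionVars false
set_option linter.style.haveILetI false

namespace Cfsg.Agent.Triality95Glue

open Subgroup Cfsg.Agent.ThreeTransp Cfsg.Agent.Triality95Base
open scoped commutatorElement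

universe u

variable {G : Type u} [Group G] {D : Set G} (h : TC D)
include h

theorem edge_conj {a x : G} (ha : a ∈ D) (hx : x ∈ Edges D a) (g : G) :
    g * x * g⁻¹ ∈ Edges D (g * a * g⁻¹) := by
  obtain ⟨u, hu, v, hv, hne, hc, rfl⟩ := hx
  refine ⟨g * u * g⁻¹, ?_, g * v * g⁻¹, ?_, fun e => hne (conj_inj e), (Commute.conj_iff g).mpr hc,
    by group⟩
  · exact ⟨h.conj g u hu.1, same_conj h g hu.2⟩
  · exact ⟨h.conj g v hv.1, same_conj h g hv.2⟩

theorem edges_of_same {a b : G} (ha : a ∈ D) (hb : b ∈ D) (hab : Same D a b) :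
    Edges D a = Edges D b := by
  simp only [Edges, ThreeTransp.Rel.cls_eq h (relSame h) ha hb hab]

theorem edge_spec {a x : G} (hx : x ∈ Edges D a) :
    x ∈ evn D (Same D) a ∧ x * x = 1 ∧
      ∀ b ∈ D, ¬ Same D a b → x * b * x⁻¹ ≠ b ∧ Commute b (x * b * x⁻¹) := by
  obtain ⟨u, hu, v, hv, hne, hc, rfl⟩ := hx
  refine ⟨subset_closure ⟨u, hu, v, hv, rfl⟩, ?_, fun b hb hab => ?_⟩
  · rw [hc.eq, show v * u * (v * u) = v * (u * v) * u by group, hc.eq,
      show v * (v * u) * u = v * v * (u * u) by group, h.sq v hv.1, h.sq u hu.1, one_mul]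
  · have hub : ¬ Same D u b := fun e => hab (hu.2.trans e)
    exact ⟨(edge_move h hu.1 hv.1 hne hc hb hub).1, (edge_move h hu.1 hv.1 hne hc hb hub).2.1⟩

/-- An element is an edge product of at most one component. -/
theorem edge_same {a b x : G} (hxa : x ∈ Edges D a) (hxb : x ∈ Edges D b) : Same D a b := by
  by_contra hab
  obtain ⟨u, hu, v, hv, -, hc, rfl⟩ := hxb
  refine ((edge_spec h hxa).2.2 u hu.1 fun e => hab (e.trans (same_symm hu.2))).1 ?_
  exact mul_inv_eq_iff_eq_mul.mpr ((Commute.refl u).mul_left hc.symm).eq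

variable [Finite G] (hsol : ∀ N : Subgroup G, N.Normal → Group.IsSolvable ↥N → N = ⊥)
  (hnc : ∃ a ∈ D, ∃ b ∈ D, ¬ Commute a b)
include hsol hnc

theorem edge_exists {a : G} (ha : a ∈ D) : (Edges D a).Nonempty := by
  obtain ⟨v, hv, hne, hc⟩ := partner h hsol hnc ha
  exact ⟨a * v, a, ⟨ha, .refl⟩, v, ⟨hv, same_of_commute ha hv hc⟩, hne.symm, hc, rfl⟩

/-- All components have the same derived group. -/
theorem evn_eq {a b : G} (ha : a ∈ D) (hb : b ∈ D) : evn D (Same D) a = evn D (Same D) b := by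
  by_cases hab : Same D a b
  · exact evn_eq_of_same h ha hb hab
  set A := evn D (Same D) a with hA
  set B := evn D (Same D) b with hB
  obtain ⟨hAs, hAna⟩ := (comp_core h hsol hnc ha).1
  obtain ⟨hBs, hBna⟩ := (comp_core h hsol hnc hb).1
  haveI := hAs
  haveI := hBs
  have hAB : ∀ x ∈ A, ∀ m ∈ B, x * m * x⁻¹ ∈ B := fun x hx m hm =>
    conj_evn h hb (evn_fix h hx b hb) hm
  have hBA : ∀ m ∈ B, ∀ x ∈ A, m * x * m⁻¹ ∈ A := fun m hm x hx =>
    conj_evn h ha (evn_fix h hm a ha) hx
  haveI : (B.subgroupOf A).Normal := ⟨fun x hx g => hAB g g.2 x hx⟩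
  rcases (inferInstance : (B.subgroupOf A).Normal).eq_bot_or_eq_top with e | e
  swap
  · have hle : A ≤ B := subgroupOf_eq_top.mp e
    haveI : (A.subgroupOf B).Normal := ⟨fun x hx g => hBA g g.2 x hx⟩
    rcases (inferInstance : (A.subgroupOf B).Normal).eq_bot_or_eq_top with e' | e'
    · refine absurd ⟨⟨fun x y => Subtype.ext ?_⟩⟩ hAna
      have : ∀ z : ↥A, (z : G) = 1 := fun z => by
        have hz : (⟨z, hle z.2⟩ : ↥B) ∈ A.subgroupOf B := z.2
        rw [e', mem_bot] at hz
        exact congrArg Subtype.val hz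
      simp [this]
    · exact le_antisymm hle (subgroupOf_eq_top.mp e')
  exfalso
  have hcomm : ∀ x ∈ A, ∀ m ∈ B, Commute x m := fun x hx m hm => by
    have h1 : ⁅x, m⁆ ∈ A := by
      rw [commutatorElement_def, show x * m * x⁻¹ * m⁻¹ = x * (m * x⁻¹ * m⁻¹) by group]
      exact mul_mem hx (hBA m hm _ (inv_mem hx))
    have h2 : ⁅x, m⁆ ∈ B := mul_mem (hAB x hx m hm) (inv_mem hm)
    have h3 : (⟨_, h1⟩ : ↥A) ∈ B.subgroupOf A := h2
    rw [e, mem_bot] at h3
    exact commutatorElement_eq_one_iff_commute.mp (congrArg Subtype.val h3)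
  obtain ⟨x, hx⟩ := edge_exists h hsol hnc ha
  obtain ⟨hxA, -, hxmove⟩ := edge_spec h hx
  obtain ⟨hne, hcb⟩ := hxmove b hb hab
  set b' := x * b * x⁻¹ with hb'
  have hbb : Same D b b' := same_of_commute hb (h.conj x b hb) hcb
  have hy : ∀ w ∈ cls D (Same D) b, Commute w (b * b') := by
    intro w hw
    have h1 : Commute x (b * w) := hcomm x hxA _ (subset_closure ⟨b, ⟨hb, .refl⟩, w, hw, rfl⟩)
    obtain ⟨hnw, hcw⟩ := hxmove w hw.1 fun e' => hab (e'.trans (same_symm hw.2))
    set w' := x * w * x⁻¹ with hw'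
    have h2 : b' * w' = b * w := by
      rw [hb', hw', show x * b * x⁻¹ * (x * w * x⁻¹) = x * (b * w) * x⁻¹ by group, h1.eq,
        mul_inv_cancel_right]
    have h3 : b * b' = w * w' := by
      have e3 := congrArg (fun t => b * t * w') h2
      rwa [show b * (b' * w') * w' = b * b' * (w' * w') by group, h.sq w' (h.conj x w hw.1), mul_one,
        show b * (b * w) * w' = b * b * (w * w') by group, h.sq b hb, one_mul] at e3
    rw [h3]
    exact (Commute.refl w).mul_right hcw
  have hyB : b * b' ∈ B := subset_closure ⟨b, ⟨hb, .refl⟩, b', ⟨h.conj x b hb, hbb⟩, rfl⟩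
  have hcen : (⟨b * b', hyB⟩ : ↥B) ∈ center ↥B := by
    refine mem_center_iff.mpr fun m => Subtype.ext ?_
    have hle : B ≤ centralizer ({b * b'} : Set G) := (closure_le _).mpr fun _ ⟨u, hu, v, hv, e'⟩ =>
      e' ▸ mem_centralizer_singleton_iff.mpr (((hy u hu).mul_left (hy v hv))).eq
    exact mem_centralizer_singleton_iff.mp (hle m.2)
  rcases (inferInstance : (center ↥B).Normal).eq_bot_or_eq_top with e' | e'
  · rw [e', mem_bot] at hcen
    exact hne ((eq_inv_of_mul_eq_one_right (congrArg Subtype.val hcen)).trans (h.inv_eq hb))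
  · exact hBna ⟨⟨fun p q => (mem_center_iff.mp (e' ▸ mem_top p : p ∈ center ↥B) q).symm⟩⟩

theorem evn_normal {a : G} (ha : a ∈ D) : (evn D (Same D) a).Normal := ⟨fun x hx g => by
  rw [evn_eq h hsol hnc ha (h.conj g a ha), ThreeTransp.Rel.evn_conj h (relSame h) ha]
  exact ⟨x, hx, rfl⟩⟩

variable (hZ : center G = ⊥)
include hZ

/-- The derived group of a component has trivial centralizer. -/
theorem cent_bot {a : G} (ha : a ∈ D) : centralizer (evn D (Same D) a : Set G) = ⊥ := by
  set L := evn D (Same D) a with hL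
  haveI := evn_normal h hsol hnc ha
  refine eq_bot_iff.mpr fun g hg => mem_bot.mpr ?_
  have hgc : g ∈ center G := by
    refine FischerGlue6.centralises_all h.gen fun d hd => ?_
    have hLd : evn D (Same D) d = L := evn_eq h hsol hnc hd ha
    have hfix : Same D d (g * d * g⁻¹) := by
      obtain ⟨x, hx⟩ := edge_exists h hsol hnc hd
      have hxL : x ∈ L := hLd ▸ (edge_spec h hx).1
      have := edge_conj h hd hx g
      rw [show g * x * g⁻¹ = x from mul_inv_eq_iff_eq_mul.mpr (mem_centralizer_iff.mp hg x hxL).symm]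
        at this
      exact edge_same h hx this
    have h1 : d * (g * d * g⁻¹) ∈ L := hLd ▸ subset_closure ⟨d, ⟨hd, .refl⟩, _, ⟨h.conj g d hd, hfix⟩, rfl⟩
    have h2 : d * (g * d * g⁻¹) ∈ centralizer (L : Set G) := by
      have h3 := (inferInstance : (centralizer (L : Set G)).Normal).conj_mem g hg d
      rw [h.inv_eq hd] at h3
      rw [show d * (g * d * g⁻¹) = d * g * d * g⁻¹ by group]
      exact mul_mem h3 (inv_mem hg)
    haveI := (comp_core h hsol hnc ha).1.1
    have h4 : (⟨_, h1⟩ : ↥L) ∈ center ↥L :=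
      mem_center_iff.mpr fun m => Subtype.ext (mem_centralizer_iff.mp h2 m m.2)
    rcases (inferInstance : (center ↥L).Normal).eq_bot_or_eq_top with e | e
    · rw [e, mem_bot] at h4
      have h5 := eq_inv_of_mul_eq_one_right (congrArg Subtype.val h4)
      rw [h.inv_eq hd] at h5
      exact mul_inv_eq_iff_eq_mul.mp h5
    · exact absurd ⟨⟨fun p q => (mem_center_iff.mp (e ▸ mem_top p : p ∈ center ↥L) q).symm⟩⟩
        (comp_core h hsol hnc ha).1.2
  rw [hZ, mem_bot] at hgc
  exact hgc

theorem evn_le_closure (a : G) : evn D (Same D) a ≤ closure (cls D (Same D) a) :=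
  (closure_le _).mpr fun _ ⟨_, hu, _, hv, e⟩ => e ▸ mul_mem (subset_closure hu) (subset_closure hv)

theorem comp_center {a : G} (ha : a ∈ D) : center ↥(closure (cls D (Same D) a)) = ⊥ := by
  refine eq_bot_iff.mpr fun z hz => mem_bot.mpr (Subtype.ext ?_)
  have : (z : G) ∈ centralizer (evn D (Same D) a : Set G) := mem_centralizer_iff.mpr fun x hx =>
    congrArg Subtype.val (mem_center_iff.mp hz ⟨x, evn_le_closure h hsol hnc hZ a hx⟩)
  rw [cent_bot h hsol hnc hZ ha, mem_bot] at this
  exact this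

/-- For two components the edge products of one are fixed-point-free on the other. -/
theorem wit {a b : G} (ha : a ∈ D) (hb : b ∈ D) (hab : ¬ Same D a b) :
    Triality95.Wit (compSet D a) {y | (y : G) ∈ Edges D b} := by
  obtain ⟨-, hcomm, -⟩ := comp_core h hsol hnc ha
  have hmem : ∀ {x : G}, x ∈ Edges D b → x ∈ evn D (Same D) a := fun hx =>
    (evn_eq h hsol hnc hb ha) ▸ (edge_spec h hx).1
  refine ⟨?_, fun y hy => ?_, fun k hk y hy => ?_, fun y hy y' hy' => ?_⟩
  · obtain ⟨x, hx⟩ := edge_exists h hsol hnc hb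
    exact ⟨⟨x, evn_le_closure h hsol hnc hZ a (hmem hx)⟩, hx⟩
  · obtain ⟨-, hsq, hmove⟩ := edge_spec h hy
    refine ⟨hcomm ▸ hmem hy, Subtype.ext hsq, fun v hv e => ?_, fun v hv => Subtype.ext ?_⟩
    · exact (hmove v hv.1 fun e' => hab (hv.2.trans (same_symm e'))).1 (congrArg Subtype.val e)
    · exact (hmove v hv.1 fun e' => hab (hv.2.trans (same_symm e'))).2.eq
  · rw [hcomm] at hk
    show (k : G) * y * (k : G)⁻¹ ∈ Edges D b
    have := edge_conj h hb hy k
    rwa [← edges_of_same h hb (h.conj (k : G) b hb) (evn_fix h (show (k : G) ∈ evn D (Same D) a from hk) b hb)] at this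
  · have hn : ¬ Commute a b := fun e => hab (same_of_commute ha hb e)
    set c := a * b * a with hc
    have hcD : c ∈ D := h.refl_mem ha hb
    have hcb : c * b * c⁻¹ = a := by
      rw [h.inv_eq hcD, hc, h.braid ha hb hn,
        show b * a * b * b * (b * a * b) = b * a * (b * b) * (b * a * b) by group, h.sq b hb, mul_one,
        show b * a * (b * a * b) = b * (a * b * a) * b by group, h.braid ha hb hn, h.refl_refl hb]
    have key : ∀ z : G, z ∈ Edges D b → ∃ u ∈ cls D (Same D) a, ∃ v ∈ cls D (Same D) a,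
        u ≠ v ∧ Commute u v ∧ c * z * c⁻¹ = u * v := fun z hz => by
      have := edge_conj h hb hz c
      rwa [hcb] at this
    obtain ⟨u, hu, v, hv, h1, h2, h3⟩ := key _ hy
    obtain ⟨u', hu', v', hv', h1', h2', h3'⟩ := key _ hy'
    refine ⟨⟨u, subset_closure hu⟩, hu, ⟨v, subset_closure hv⟩, hv, ⟨u', subset_closure hu'⟩, hu',
      ⟨v', subset_closure hv'⟩, hv', fun e => h1 (congrArg Subtype.val e),
      fun e => h1' (congrArg Subtype.val e), Subtype.ext h2.eq, Subtype.ext h2'.eq, ?_⟩
    rw [← Subgroup.orderOf_coe, ← Subgroup.orderOf_coe]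
    show orderOf ((y : G) * y') = orderOf (u * v * (u' * v'))
    rw [← h3, ← h3', show c * (y : G) * c⁻¹ * (c * y' * c⁻¹) = MulAut.conj c ((y : G) * y') by
      simp [MulAut.conj_apply, mul_assoc], MulEquiv.orderOf_eq]

end Cfsg.Agent.Triality95Glue
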