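import Cfsg.Agent.Lib.Triality95Defs
import Cfsg.Agent.Lib.ThreeTransM22Fix17
import Cfsg.Agent.Lib.ThreeTransM24Classes88
import Cfsg.Agent.Lib.ThreeTransM24Prim59
import Cfsg.Agent.Lib.ThreeTransLocLift65
import Cfsg.Agent.Lib.ThreeTransM23Cent59
import Cfsg.Agent.S5361

/-!
# The sporadic types have no fixed-point-free involutions, and the transfer of hypotheses

In types M(22), M(23), M(24) every involution centralizes a member. The hypotheses on a component are
carried along isomorphisms.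
-/

set_option autoImplicit false
set_option linter.unusedSectionVars false
set_option linter.style.haveILetI false

namespace Cfsg.Agent.Triality95Types

open Subgroup Cfsg.Agent.ThreeTransRel Cfsg.Agent.ThreeTransDescent

universe u

variable {M : Type u} [Group M] [Finite M] {C : Set M}

/-- The hypotheses on a component. -/
structure Hyps (C : Set M) : Prop where
  cls : Cfsg.IsThreeTranspositionClass C
  centre : center M = ⊥
  conn : (Cfsg.commutingGraph C).Connected
  simple : IsSimpleGroup ↥(commutator M)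
  nonab : ¬ IsMulCommutative ↥(commutator M)
  pair : ∃ a ∈ C, ∃ b ∈ C, a ≠ b ∧ Commute a b

theorem Hyps.grp (H : Hyps C) : Cfsg.IsThreeTranspositionGroup C :=
  ⟨H.cls.1, ThreeTrans.conjInv H.cls, H.cls.2.2⟩

theorem Hyps.prim (H : Hyps C) : Cfsg.IsPrimitiveUnderConj C :=
  (S5361.result H.cls H.centre H.pair).1.mp H.simple

theorem no_fixed {y v : M} (hy : Triality95.Fpf C y) (hv : v ∈ C) (hc : Commute y v) : False :=
  hy.move v hv (mul_inv_eq_iff_eq_mul.mpr hc.eq)

theorem false_m22 (H : Hyps C) (h22 : Cfsg.IsOfTypeM22 M C) {y : M} (hy : Triality95.Fpf C y) :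
    False := by
  obtain ⟨d, hd, e⟩ := ThreeTransM22Fix17.exists_fixed H.grp H.prim h22 (MulAut.conj y)
    (by rw [← map_mul, hy.sq, map_one])
  exact hy.move d hd e

theorem false_m23 (H : Hyps C) (h23 : Cfsg.IsOfTypeM23 M C) {y : M} (hy : Triality95.Fpf C y) :
    False := by
  obtain ⟨s, X⟩ := ThreeTransM23Order34.exists_ctx H.grp H.prim h23
  have hcard := ThreeTransM23Order34.card_D X (ThreeTransM23Cent59.centralizer_eq X)
  have hy1 : y ≠ 1 := fun e => by
    obtain ⟨a, ha, -⟩ := H.pair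
    exact hy.move a ha (by rw [e, one_mul, inv_one, mul_one])
  have ho : Nat.card ↥(zpowers y) = 2 := by
    rw [Nat.card_zpowers]
    exact orderOf_eq_prime (by rw [pow_two, hy.sq]) hy1
  obtain ⟨d, hd, hx⟩ := ThreeTransLocLift65.exists_fixed (tsys_of_group H.grp) Nat.prime_two
    (by rw [hcard]; norm_num) ho
  exact no_fixed hy hd (hx y (mem_zpowers y))

theorem false_m24 (H : Hyps C) (h24 : Cfsg.IsOfTypeM24 M C) {y : M} (hy : Triality95.Fpf C y) :
    False := by
  obtain ⟨d₀, hd₀, -, -, h3, h2⟩ := ThreeTransM24Prim59.m24_cores H.grp H.prim h24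
  obtain ⟨d, hd, hc⟩ := ThreeTransM24Classes88.exists_fixed
    (ThreeTransM24Local88.ctx_all H.grp H.prim hd₀ h3 h2 h24 d₀ hd₀) hy.sq
  exact no_fixed hy hd hc

variable {N : Type*} [Group N] [Finite N]

theorem Hyps.map (H : Hyps C) (e : M ≃* N) : Hyps (e '' C) := by
  obtain ⟨d, hd, hE⟩ := H.cls.2.1
  refine ⟨⟨⟨?_, ?_⟩, ⟨e d, ⟨d, hd, rfl⟩, ?_⟩, ?_⟩, ?_, ?_, ?_, ?_, ?_⟩
  · rintro _ ⟨x, hx, rfl⟩
    rw [MulEquiv.orderOf_eq, H.cls.1.1 x hx]
  · rintro _ ⟨x, hx, rfl⟩ _ ⟨y, hy, rfl⟩
    exact (H.cls.1.2 x hx y hy).imp (fun h => by rw [← map_mul, ← map_pow, h, map_one])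
      fun h => by rw [← map_mul, ← map_pow, h, map_one]
  · ext y
    obtain ⟨x, rfl⟩ := e.surjective y
    constructor
    · rintro ⟨z, hz, ez⟩
      obtain rfl := e.injective ez
      exact e.toMonoidHom.map_isConj (hE ▸ hz : z ∈ conjugatesOf d)
    · intro h
      have := e.symm.toMonoidHom.map_isConj h
      simp at this
      exact ⟨x, hE ▸ (isConj_iff.mpr this : x ∈ conjugatesOf d), rfl⟩
  · rw [show (e '' C) = e.toMonoidHom '' C from rfl, ← MonoidHom.map_closure, H.cls.2.2,
      Subgroup.map_top_of_surjective _ e.surjective]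
  · refine eq_bot_iff.mpr fun z hz => mem_bot.mpr ?_
    have h1 : e.symm z ∈ center M := mem_center_iff.mpr fun g => e.injective (by
      simpa using mem_center_iff.mp hz (e g))
    rw [H.centre, mem_bot] at h1
    simpa using congrArg e h1
  · let f : Cfsg.commutingGraph C →g Cfsg.commutingGraph (e '' C) :=
      { toFun := fun x => ⟨e x, x, x.2, rfl⟩
        map_rel' := fun {x y} hxy => ⟨fun h => hxy.1 (Subtype.ext (e.injective (congrArg Subtype.val h))),
          hxy.2.imp (fun h => h.map e.toMonoidHom) fun h => h.map e.toMonoidHom⟩ }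
    exact H.conn.map f fun ⟨_, x, hx, rfl⟩ => ⟨⟨x, hx⟩, rfl⟩
  · haveI := H.simple
    exact ((e.subgroupMap (commutator M)).trans
      (MulEquiv.subgroupCongr (Triality95.map_commutator_equiv e))).symm.isSimpleGroup
  · intro hcomm
    refine H.nonab ⟨⟨fun p q => ?_⟩⟩
    refine Subtype.ext (e.injective ?_)
    rw [Subgroup.coe_mul, Subgroup.coe_mul, map_mul, map_mul]
    exact congrArg Subtype.val (hcomm.is_comm.comm
      (⟨_, Triality95.mem_commutator_equiv e p.2⟩ : ↥(commutator N))
      ⟨_, Triality95.mem_commutator_equiv e q.2⟩)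
  · obtain ⟨a, ha, b, hb, hne, hc⟩ := H.pair
    exact ⟨e a, ⟨a, ha, rfl⟩, e b, ⟨b, hb, rfl⟩, e.injective.ne hne, hc.map e.toMonoidHom⟩

end Cfsg.Agent.Triality95Types
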