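import Cfsg.Agent.Lib.Triality95Glue
import Cfsg.Agent.Lib.Triality95Types

/-!
# Three components and the quotient of degree three

Given the outcome for a component, a disconnected commuting graph has exactly three components, the
generalized Fitting subgroup is their common derived group, and the quotient is symmetric of degree three.
-/

set_option autoImplicit false
set_option linter.unusedSectionVars false
set_option linter.style.haveILetI false

namespace Cfsg.Agent.Triality95Main

open Subgroup Cfsg.Agent.ThreeTransp Cfsg.Agent.Triality95Base Cfsg.Agent.Triality95Glue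
open scoped commutatorElement

universe u

variable {G : Type u} [Group G] [Finite G] {D : Set G}

/-- The generalized Fitting subgroup is a simple normal subgroup with trivial centralizer. -/
theorem gen_eq (L : Subgroup G) [L.Normal] (hs : IsSimpleGroup ↥L) (hna : ¬ IsMulCommutative ↥L)
    (hC : centralizer (L : Set G) = ⊥)
    (hsol : ∀ N : Subgroup G, N.Normal → Group.IsSolvable ↥N → N = ⊥) :
    Cfsg.generalizedFittingSubgroup G = L := by
  have hcomp : Cfsg.IsComponent L :=
    ⟨(inferInstance : L.Normal).isSubnormal, ComponentsBasic.isQuasisimple_of_simple hs hna⟩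
  refine le_antisymm (sup_le (sSup_le fun K hK => ?_) (sSup_le ?_))
    (le_sup_of_le_left (ComponentsBasic.component_le_layer hcomp))
  · by_cases e : K = L
    · exact e.le
    have h1 := commutator_eq_bot_iff_le_centralizer.mp (ComponentsBasic.components_commute hK hcomp e)
    exact absurd (le_bot_iff.mp (hC ▸ h1)) (ComponentsBasic.IsComponent.ne_bot hK)
  · rintro N ⟨hN, hnil⟩
    haveI := hnil
    rw [hsol N hN inferInstance]
    exact bot_le

theorem triality (hD : Cfsg.IsThreeTranspositionClass D) (hZ : center G = ⊥)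
    (h2 : Cfsg.pCore 2 G = ⊥) (h3 : Cfsg.pCore 3 G = ⊥)
    (hdisc : ¬ (Cfsg.commutingGraph D).Connected) (F : Subgroup G) [F.Normal]
    (hF : F = Cfsg.generalizedFittingSubgroup G)
    (hV : ∀ (M : Type u) [Group M] [Finite M] (C : Set M), Triality95Types.Hyps C →
      ∀ X : Set M, Triality95.Wit C X → Triality95.Verdict M C) :
    Nonempty (G ⧸ F ≃* Equiv.Perm (Fin 3)) ∧
      (Nonempty (F ≃* Cfsg.Omega (ZMod 2) (Cfsg.quadFormPlus 4 (ZMod 2))) ∨
        Nonempty (F ≃* Cfsg.POmega (ZMod 3) (Cfsg.quadFormPlus 4 (ZMod 3)))) := by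
  classical
  have h := ThreeTransp.tc_of_class hD
  have ht : ThreeTransRel.TSys D :=
    ThreeTransRel.tsys_of_group ⟨hD.1, ThreeTrans.conjInv hD, hD.2.2⟩
  have hsol := FischerGlue6.solvable_bot_of_cores ht hZ h2 h3
  obtain ⟨a, ha, b, hb, hab⟩ : ∃ a ∈ D, ∃ b ∈ D, ¬ Same D a b := by
    by_contra hall
    push Not at hall
    haveI : Nonempty ↥D := h.nonempty.to_subtype
    refine hdisc ⟨fun u v => ?_⟩
    have key : ∀ q : G, Same D u.1 q → ∀ hq : q ∈ D,
        (Cfsg.commutingGraph D).Reachable u ⟨q, hq⟩ := by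
      intro q hq
      induction hq with
      | refl => intro _; exact .refl _
      | tail _ h2 ih =>
        intro hqD
        refine (ih h2.1).trans ?_
        rename_i p q _
        by_cases e : p = q
        · subst e; exact .refl _
        exact SimpleGraph.Adj.reachable ⟨fun e' => e (congrArg Subtype.val e'), Or.inl h2.2.2⟩
    exact key v.1 (hall u.1 u.2 v.1 v.2) v.2
  have hnc : ∃ p ∈ D, ∃ q ∈ D, ¬ Commute p q :=
    ⟨a, ha, b, hb, fun e => hab (same_of_commute ha hb e)⟩
  set L := evn D (Same D) a with hL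
  haveI hLn : L.Normal := evn_normal h hsol hnc ha
  have hCL := cent_bot h hsol hnc hZ ha
  obtain ⟨⟨hLs, hLna⟩, hcomm, hpar, hcls, hZQ, hconn, hsimp⟩ := comp_core h hsol hnc ha
  -- the component group
  set M := closure (cls D (Same D) a) with hM
  have hZM : center ↥M = ⊥ := comp_center h hsol hnc hZ ha
  have hbij : Function.Bijective (QuotientGroup.mk' (center ↥M)) :=
    ⟨(MonoidHom.ker_eq_bot_iff _).mp (by rw [QuotientGroup.ker_mk', hZM]),
      QuotientGroup.mk'_surjective _⟩
  set e0 := MulEquiv.ofBijective (QuotientGroup.mk' (center ↥M)) hbij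
  have eL : ↥(commutator ↥M) ≃* ↥L := (MulEquiv.subgroupCongr hcomm).trans
    (Subgroup.subgroupOfEquivOfLe (evn_le_closure h hsol hnc hZ a))
  have hnaQ : ¬ IsMulCommutative ↥(commutator (↥M ⧸ center ↥M)) := by
    intro hc
    refine hLna ⟨⟨fun p q => eL.symm.injective (Subtype.ext (e0.injective ?_))⟩⟩
    rw [map_mul, map_mul, Subgroup.coe_mul, Subgroup.coe_mul, map_mul, map_mul]
    exact congrArg Subtype.val (hc.is_comm.comm
      (⟨_, Triality95.mem_commutator_equiv e0 (eL.symm p).2⟩ : ↥(commutator (↥M ⧸ center ↥M)))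
      ⟨_, Triality95.mem_commutator_equiv e0 (eL.symm q).2⟩)
  obtain ⟨v, hv, hne, hc⟩ := partner h hsol hnc ha
  have hvE : v ∈ cls D (Same D) a := ⟨hv, same_of_commute ha hv hc⟩
  have haE : a ∈ cls D (Same D) a := ⟨ha, .refl⟩
  have HQ : Triality95Types.Hyps (e0 '' compSet D a) :=
    ⟨hcls, hZQ, hconn, hsimp, hnaQ, e0 ⟨a, subset_closure haE⟩, ⟨_, haE, rfl⟩,
      e0 ⟨v, subset_closure hvE⟩, ⟨_, hvE, rfl⟩,
      fun e => hne (congrArg Subtype.val (e0.injective e)).symm,
      (show Commute (⟨a, subset_closure haE⟩ : ↥M) ⟨v, subset_closure hvE⟩ from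
        Subtype.ext hc).map e0.toMonoidHom⟩
  have HM : Triality95Types.Hyps (compSet D a) := by
    have := HQ.map e0.symm
    rwa [← Set.image_comp, show (⇑e0.symm ∘ ⇑e0) = id from funext e0.symm_apply_apply,
      Set.image_id] at this
  -- three components
  set c := a * b * a with hc'
  have hcD : c ∈ D := h.refl_mem ha hb
  obtain ⟨hac, hbc⟩ := third h ha hb hab
  have Wb := wit h hsol hnc hZ ha hb hab
  obtain ⟨hconj, hiso⟩ := hV ↥M (compSet D a) HM _ Wb
  have hthree : ∀ l ∈ D, Same D a l ∨ Same D b l ∨ Same D c l := by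
    intro l hl
    by_cases hal : Same D a l
    · exact Or.inl hal
    have Wl := wit h hsol hnc hZ ha hl hal
    obtain ⟨y₀, hy₀⟩ := Wb.ne
    obtain ⟨y, hy⟩ := Wl.ne
    obtain ⟨g, hg⟩ := hconj y₀ y (Wb.fpf _ hy₀) (Wl.fpf _ hy)
    have hgy : (g : G) * y₀ * (g : G)⁻¹ = y := congrArg Subtype.val hg
    have hE := edge_conj h hb hy₀ (g : G)
    rw [hgy] at hE
    have hs : Same D l ((g : G) * b * (g : G)⁻¹) := edge_same h hy hE
    rcases hpar g g.2 with hg' | hg'
    · exact Or.inr (Or.inl ((evn_fix h hg' b hb).trans (same_symm hs)))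
    · refine Or.inr (Or.inr ?_)
      have h1 := same_conj h a (evn_fix h hg' b hb)
      rw [h.inv_eq ha, show a * (a * (g : G) * b * (a * (g : G))⁻¹) * a =
        (a * a) * ((g : G) * b * (g : G)⁻¹) * (a⁻¹ * a) by group, h.sq a ha, inv_mul_cancel, one_mul,
        mul_one] at h1
      exact h1.trans (same_symm hs)
  -- the generalized Fitting subgroup
  have hFL : F = L := hF.trans (gen_eq L hLs hLna hCL hsol)
  subst hFL
  refine ⟨?_, hiso.imp (fun ⟨f⟩ => ⟨eL.symm.trans f⟩) fun ⟨f⟩ => ⟨eL.symm.trans f⟩⟩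
  -- the action on the three components
  set rep : Fin 3 → G := ![a, b, c] with hrep
  have hrepD : ∀ i, rep i ∈ D := by intro i; fin_cases i <;> assumption
  have huniq : ∀ i j, Same D (rep i) (rep j) → i = j := by
    intro i j hs
    fin_cases i <;> fin_cases j <;> first
      | rfl
      | exact absurd hs hab
      | exact absurd hs hac
      | exact absurd hs hbc
      | exact absurd (same_symm hs) hab
      | exact absurd (same_symm hs) hac
      | exact absurd (same_symm hs) hbc
  have hex : ∀ d : G, ∃ i, d ∈ D → Same D (rep i) d := by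
    intro d
    by_cases hd : d ∈ D
    · rcases hthree d hd with h' | h' | h'
      · exact ⟨0, fun _ => h'⟩
      · exact ⟨1, fun _ => h'⟩
      · exact ⟨2, fun _ => h'⟩
    · exact ⟨0, fun e => absurd e hd⟩
  choose idx hidx using hex
  have hidx_eq : ∀ {d : G} (_ : d ∈ D) {i}, Same D (rep i) d → idx d = i := fun hd _ hs =>
    huniq _ _ ((hidx _ hd).trans (same_symm hs))
  set act : G → Fin 3 → Fin 3 := fun g i => idx (g * rep i * g⁻¹) with hact
  have hact_mul : ∀ g g' i, act (g * g') i = act g (act g' i) := fun g g' i => by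
    refine hidx_eq (h.conj _ _ (hrepD i)) ?_
    refine (hidx _ (h.conj g _ (hrepD _))).trans ?_
    have := same_conj h g (hidx _ (h.conj g' _ (hrepD i)))
    rwa [show g * (g' * rep i * g'⁻¹) * g⁻¹ = g * g' * rep i * (g * g')⁻¹ by group] at this
  have hact_one : ∀ i, act 1 i = i := fun i =>
    hidx_eq (h.conj 1 _ (hrepD i)) (by rw [one_mul, inv_one, mul_one]; exact .refl)
  let ψ : G →* Equiv.Perm (Fin 3) :=
    { toFun := fun g =>
        { toFun := act g
          invFun := act g⁻¹
          left_inv := fun i => by rw [← hact_mul, inv_mul_cancel, hact_one]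
          right_inv := fun i => by rw [← hact_mul, mul_inv_cancel, hact_one] }
      map_one' := Equiv.ext fun i => hact_one i
      map_mul' := fun g g' => Equiv.ext fun i => hact_mul g g' i }
  have hLker : L ≤ ψ.ker := fun g hg => MonoidHom.mem_ker.mpr (Equiv.ext fun i =>
    hidx_eq (h.conj g _ (hrepD i)) (evn_fix h hg _ (hrepD i)))
  have hLall : ∀ d ∈ D, evn D (Same D) d = L := fun d hd => evn_eq h hsol hnc hd ha
  have hn : ¬ Commute a b := fun e => hab (same_of_commute ha hb e)
  have hψa : ψ a = Equiv.swap 1 2 := Equiv.ext fun i => by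
    show idx (a * rep i * a⁻¹) = _
    refine hidx_eq (h.conj a _ (hrepD i)) ?_
    rw [h.inv_eq ha]
    fin_cases i
    · show Same D a (a * a * a)
      rw [h.sq a ha, one_mul]; exact .refl
    · show Same D c (a * b * a)
      exact .refl
    · show Same D b (a * c * a)
      rw [hc', h.refl_refl ha]; exact .refl
  have hψb : ψ b = Equiv.swap 0 2 := Equiv.ext fun i => by
    show idx (b * rep i * b⁻¹) = _
    refine hidx_eq (h.conj b _ (hrepD i)) ?_
    rw [h.inv_eq hb]
    fin_cases i
    · show Same D c (b * a * b)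
      rw [hc', h.braid ha hb hn]; exact .refl
    · show Same D b (b * b * b)
      rw [h.sq b hb, one_mul]; exact .refl
    · show Same D a (b * c * b)
      rw [hc', h.braid ha hb hn, h.refl_refl hb]; exact .refl
  set π := QuotientGroup.mk' L
  have hπD : ∀ d ∈ D, ∀ e ∈ D, Same D d e → π d = π e := fun d hd e he hs =>
    QuotientGroup.eq.mpr (by
      rw [h.inv_eq hd, ← hLall d hd]
      exact subset_closure ⟨d, ⟨hd, .refl⟩, e, ⟨he, hs⟩, rfl⟩)
  set A := π a
  set B := π b
  have hAA : A * A = 1 := by rw [← map_mul, h.sq a ha, map_one]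
  have hBB : B * B = 1 := by rw [← map_mul, h.sq b hb, map_one]
  have hbr : A * B * A = B * A * B := by simp only [A, B, ← map_mul, h.braid ha hb hn]
  set S : Finset (G ⧸ L) := {1, A, B, A * B, B * A, A * B * A} with hS
  have hclosed : ∀ z ∈ S, A * z ∈ S ∧ B * z ∈ S := by
    intro z hz
    simp only [hS, Finset.mem_insert, Finset.mem_singleton] at hz ⊢
    rcases hz with rfl | rfl | rfl | rfl | rfl | rfl <;> constructor
    all_goals simp only [← mul_assoc, hAA, hBB, one_mul, mul_one, true_or, or_true]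
    · simp [hbr]
    · rw [show B * A * B * A = B * (A * B * A) by group, hbr, ← mul_assoc, ← mul_assoc, hBB, one_mul]; simp
  have hall : ∀ z : G ⧸ L, z ∈ S := by
    intro z
    obtain ⟨g, rfl⟩ := QuotientGroup.mk'_surjective L z
    suffices hs : ∀ w ∈ S, π g * w ∈ S by
      simpa [π] using hs 1 (by simp [hS])
    have hg : g ∈ closure D := h.gen ▸ mem_top g
    have hgen : ∀ d ∈ D, ∀ w ∈ S, π d * w ∈ S := by
      intro d hd w hw
      rcases hthree d hd with h' | h' | h'
      · rw [← hπD a ha d hd h']; exact (hclosed w hw).1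
      · rw [← hπD b hb d hd h']; exact (hclosed w hw).2
      · rw [← hπD c hcD d hd h', hc', map_mul, map_mul, mul_assoc, mul_assoc]
        exact (hclosed _ (hclosed _ (hclosed w hw).1).2).1
    induction hg using Subgroup.closure_induction'' with
    | mem d hd => exact hgen d hd
    | inv_mem d hd => rw [h.inv_eq hd]; exact hgen d hd
    | one => intro w hw; rwa [map_one, one_mul]
    | mul x y _ _ hx hy => intro w hw; rw [map_mul, mul_assoc]; exact hx _ (hy w hw)
  set ψ' := QuotientGroup.lift L ψ hLker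
  have hsurj : Function.Surjective ψ' := by
    intro σ
    have hA : ψ' A = Equiv.swap 1 2 := hψa
    have hB : ψ' B = Equiv.swap 0 2 := hψb
    have hσ : σ = 1 ∨ σ = Equiv.swap 1 2 ∨ σ = Equiv.swap 0 2 ∨
        σ = Equiv.swap 1 2 * Equiv.swap 0 2 ∨ σ = Equiv.swap 0 2 * Equiv.swap 1 2 ∨
        σ = Equiv.swap 1 2 * Equiv.swap 0 2 * Equiv.swap 1 2 := by revert σ; decide
    rcases hσ with rfl | rfl | rfl | rfl | rfl | rfl
    exacts [⟨1, map_one _⟩, ⟨A, hA⟩, ⟨B, hB⟩, ⟨A * B, by rw [map_mul, hA, hB]⟩,
      ⟨B * A, by rw [map_mul, hA, hB]⟩, ⟨A * B * A, by rw [map_mul, map_mul, hA, hB]⟩]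
  have hcard : Nat.card (G ⧸ L) ≤ Nat.card (Equiv.Perm (Fin 3)) := by
    rw [Nat.card_perm, Nat.card_fin]
    have h6 : S.card ≤ 6 := (Finset.card_insert_le _ _).trans (by
      have := Finset.card_le_five (a := A) (b := B) (c := A * B) (d := B * A) (e := A * B * A)
      omega)
    calc Nat.card (G ⧸ L) ≤ Nat.card ↥S :=
          Nat.card_le_card_of_injective (fun z => (⟨z, hall z⟩ : ↥S)) fun z w e => congrArg Subtype.val e
      _ = S.card := Nat.card_eq_finsetCard S
      _ ≤ Nat.factorial 3 := h6
  exact ⟨MulEquiv.ofBijective ψ' (hsurj.bijective_of_nat_card_le hcard)⟩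

end Cfsg.Agent.Triality95Main
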