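import Cfsg.Agent.Lib.SymplecticBasic

/-!
# Two computations over the field of two elements

An endomorphism of order seven, self-adjoint for the standard symplectic form of rank at least six,
and the period of a product of four transvections in two orthogonal pairs of vectors.
-/

set_option autoImplicit false

namespace Cfsg.Agent.Triality95Shift88

/-- The companion matrix of `x³ + x + 1` on the first three coordinates. -/
def cyc (l : ℕ) (a : Fin (l + 3) → ZMod 2) : Fin (l + 3) → ZMod 2 :=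
  Fin.cons (a (Fin.succ (Fin.succ 0))) (Fin.cons (a 0 + a (Fin.succ (Fin.succ 0)))
    (Fin.cons (a (Fin.succ 0)) fun i => a i.succ.succ.succ))

/-- Its transpose. -/
def cycT (l : ℕ) (a : Fin (l + 3) → ZMod 2) : Fin (l + 3) → ZMod 2 :=
  Fin.cons (a (Fin.succ 0)) (Fin.cons (a (Fin.succ (Fin.succ 0)))
    (Fin.cons (a 0 + a (Fin.succ 0)) fun i => a i.succ.succ.succ))

theorem cyc_pow (l : ℕ) (a : Fin (l + 3) → ZMod 2) : (cyc l)^[7] a = a := by
  funext i
  refine Fin.cases ?_ (fun i => Fin.cases ?_ (fun i => Fin.cases ?_ (fun i => ?_) i) i) i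
  all_goals simp only [Function.iterate_succ, Function.iterate_zero, Function.comp_apply, id_eq,
    cyc, Fin.cons_zero, Fin.cons_succ]
  all_goals
    generalize a 0 = p
    generalize a (Fin.succ 0) = q
    generalize a (Fin.succ (Fin.succ 0)) = r
    revert p q r; decide

theorem cycT_pow (l : ℕ) (a : Fin (l + 3) → ZMod 2) : (cycT l)^[7] a = a := by
  funext i
  refine Fin.cases ?_ (fun i => Fin.cases ?_ (fun i => Fin.cases ?_ (fun i => ?_) i) i) i
  all_goals simp only [Function.iterate_succ, Function.iterate_zero, Function.comp_apply, id_eq,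
    cycT, Fin.cons_zero, Fin.cons_succ]
  all_goals
    generalize a 0 = p
    generalize a (Fin.succ 0) = q
    generalize a (Fin.succ (Fin.succ 0)) = r
    revert p q r; decide

theorem cyc_sum (l : ℕ) (a b : Fin (l + 3) → ZMod 2) :
    ∑ i, cyc l a i * b i = ∑ i, a i * cycT l b i := by
  simp only [Fin.sum_univ_succ, cyc, cycT, Fin.cons_zero, Fin.cons_succ]
  ring

/-- The shift on both halves. -/
def shift (l : ℕ) : (Fin (l + 3) ⊕ Fin (l + 3) → ZMod 2) →ₗ[ZMod 2]
    (Fin (l + 3) ⊕ Fin (l + 3) → ZMod 2) where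
  toFun a := Sum.elim (cyc l fun i => a (.inl i)) (cycT l fun i => a (.inr i))
  map_add' a b := by
    funext s
    rcases s with i | i <;>
      refine Fin.cases ?_ (fun i => Fin.cases ?_ (fun i => Fin.cases ?_ (fun i => ?_) i) i) i <;>
        simp only [Sum.elim_inl, Sum.elim_inr, Pi.add_apply, Fin.cons_zero, Fin.cons_succ, cyc, cycT] <;>
          abel
  map_smul' c a := by
    funext s
    rcases s with i | i <;>
      refine Fin.cases ?_ (fun i => Fin.cases ?_ (fun i => Fin.cases ?_ (fun i => ?_) i) i) i <;>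
        simp only [Sum.elim_inl, Sum.elim_inr, Pi.smul_apply, smul_eq_mul, RingHom.id_apply,
          Fin.cons_zero, Fin.cons_succ, cyc, cycT, mul_add]

theorem shift_iterate (l : ℕ) : ∀ (n : ℕ) (a : Fin (l + 3) ⊕ Fin (l + 3) → ZMod 2),
    (shift l)^[n] a =
      Sum.elim ((cyc l)^[n] fun i => a (.inl i)) ((cycT l)^[n] fun i => a (.inr i))
  | 0, a => by funext s; rcases s with i | i <;> rfl
  | n + 1, a => by
    rw [Function.iterate_succ_apply, shift_iterate l n (shift l a)]
    rfl

theorem shift_pow (l : ℕ) (a : Fin (l + 3) ⊕ Fin (l + 3) → ZMod 2) :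
    (shift l)^[7] a = a := by
  rw [shift_iterate, cyc_pow, cycT_pow]
  funext s; rcases s with i | i <;> rfl

theorem shift_adjoint (l : ℕ) (a b : Fin (l + 3) ⊕ Fin (l + 3) → ZMod 2) :
    Cfsg.sympForm (l + 3) (ZMod 2) (shift l a) b =
      Cfsg.sympForm (l + 3) (ZMod 2) a (shift l b) := by
  rw [SymplecticBasic.form_eq_sum, SymplecticBasic.form_eq_sum, Finset.sum_sub_distrib,
    Finset.sum_sub_distrib]
  simp only [shift, LinearMap.coe_mk, AddHom.coe_mk, Sum.elim_inl, Sum.elim_inr]
  rw [cyc_sum l (fun i => a (.inl i)) (fun i => b (.inr i))]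
  congr 1
  calc ∑ i, cycT l (fun j => a (.inr j)) i * b (.inl i)
      = ∑ i, b (.inl i) * cycT l (fun j => a (.inr j)) i :=
        Finset.sum_congr rfl fun _ _ => mul_comm _ _
    _ = ∑ i, cyc l (fun j => b (.inl j)) i * a (.inr i) := (cyc_sum l _ _).symm
    _ = _ := Finset.sum_congr rfl fun _ _ => mul_comm _ _

theorem shift_ne (l : ℕ) : ∃ a, shift l a ≠ a := by
  refine ⟨Pi.single (.inl 0) 1, fun h => ?_⟩
  have h1 := congrFun h (.inl (Fin.succ (0 : Fin (l + 2))))
  simp only [shift, cyc, LinearMap.coe_mk, AddHom.coe_mk, Sum.elim_inl, Fin.cons_zero,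
    Fin.cons_succ, Pi.single_apply, Sum.inl.injEq, Fin.succ_ne_zero, if_false, if_true, add_zero] at h1
  exact one_ne_zero h1

/-- An automorphism of order seven, self-adjoint for the symplectic form. -/
theorem exists_shift (l : ℕ) :
    ∃ S : (Fin (l + 3) ⊕ Fin (l + 3) → ZMod 2) ≃ₗ[ZMod 2] (Fin (l + 3) ⊕ Fin (l + 3) → ZMod 2),
      (∀ a b, Cfsg.sympForm (l + 3) (ZMod 2) (S a) b = Cfsg.sympForm (l + 3) (ZMod 2) a (S b)) ∧
      S ^ 7 = 1 ∧ ∃ a, S a ≠ a := by
  have hbij : Function.Bijective (shift l) := by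
    refine ⟨Function.LeftInverse.injective (g := (shift l)^[6]) fun a => ?_,
      Function.RightInverse.surjective (g := (shift l)^[6]) fun a => ?_⟩
    · rw [← Function.iterate_succ_apply, shift_pow]
    · rw [← Function.iterate_succ_apply' (shift l), shift_pow]
  refine ⟨LinearEquiv.ofBijective (shift l) hbij, shift_adjoint l, LinearEquiv.ext fun a => ?_,
    shift_ne l⟩
  have hn : ∀ n : ℕ, ((LinearEquiv.ofBijective (shift l) hbij) ^ n) a = (shift l)^[n] a := by
    intro n
    induction n with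
    | zero => rfl
    | succ n ih =>
      rw [pow_succ', LinearEquiv.mul_apply, ih, Function.iterate_succ_apply']
      rfl
  rw [hn, shift_pow]
  rfl

/-- One transvection after another, on coefficients. -/
def step (p q r s : ZMod 2) (β α : ZMod 2 × ZMod 2 × ZMod 2 × ZMod 2) :
    ZMod 2 × ZMod 2 × ZMod 2 × ZMod 2 :=
  let d := α.2.2.2 + (β.2.2.2 + q * α.1 + s * α.2.1)
  let c := α.2.2.1 + (β.2.2.1 + p * α.1 + r * α.2.1)
  let b := α.2.1 + (β.2.1 + r * c + s * d)
  let a := α.1 + (β.1 + p * c + q * d)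
  (a, b, c, d)

theorem step_period : ∀ p q r s b₁ b₂ b₃ b₄ : ZMod 2,
    (step p q r s (b₁, b₂, b₃, b₄))^[60] (0, 0, 0, 0) = (0, 0, 0, 0) := by
  decide +kernel

end Cfsg.Agent.Triality95Shift88
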