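import Mathlib
import Cfsg.Prelude.Def_FischerSpaces
import Cfsg.Agent.Lib.Triality95Defs
import Cfsg.Agent.Lib.SymplecticTransv
import Cfsg.Agent.Lib.AutPSU52Basic

/-!
# Symmetric, symplectic and unitary components admit no fixed-point-free elements

In the symmetric group an element fixes the transposition of two points it swaps. In characteristic two an
involution `y` fixes a nonzero vector `x + y x`, which for a Hermitian form is isotropic, so it fixes the
transvection with that centre.
-/

set_option autoImplicit false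

namespace Cfsg.Agent.Triality95Sym10

open scoped Matrix

/-- A member fixed by an element moving every member: absurd. -/
theorem absurd_fixed {M : Type*} [Group M] {C : Set M} {y v : M} (hy : Triality95.Fpf C y) (hv : v ∈ C)
    (h : y * v * y⁻¹ = v) : False :=
  hy.move v hv h

/-- The trivial element moves nothing. -/
theorem ne_one {M : Type*} [Group M] {C : Set M} (hC : Cfsg.IsThreeTranspositionClass C) {y : M}
    (hy : Triality95.Fpf C y) : y ≠ 1 := by
  rintro rfl
  obtain ⟨d, hd, -⟩ := hC.2.1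
  exact absurd_fixed hy hd (by rw [one_mul, inv_one, mul_one])

theorem false_perm (n : ℕ)
    (hC : Cfsg.IsThreeTranspositionClass {σ : Equiv.Perm (Fin n) | σ.IsSwap})
    (_hconn : (Cfsg.commutingGraph {σ : Equiv.Perm (Fin n) | σ.IsSwap}).Connected)
    (_hs : IsSimpleGroup ↥(commutator (Equiv.Perm (Fin n)))) (_hna : ¬ IsMulCommutative ↥(commutator (Equiv.Perm (Fin n))))
    {X : Set (Equiv.Perm (Fin n))} (W : Triality95.Wit {σ : Equiv.Perm (Fin n) | σ.IsSwap} X) : False := by
  obtain ⟨y, hyX⟩ := W.ne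
  have hy := W.fpf y hyX
  obtain ⟨a, ha⟩ : ∃ a, y a ≠ a := not_forall.1 fun h => ne_one hC hy (Equiv.ext h)
  refine absurd_fixed hy (v := Equiv.swap a (y a)) ⟨a, y a, Ne.symm ha, rfl⟩ ?_
  have h2 : y (y a) = a := by
    have := Equiv.congr_fun hy.sq a
    simpa using this
  rw [← Equiv.swap_apply_apply, h2, Equiv.swap_comm]

theorem false_sp (m : ℕ)
    (hC : Cfsg.IsThreeTranspositionClass {g : Matrix.symplecticGroup (Fin m) (ZMod 2) |
      ((g : Matrix (Fin m ⊕ Fin m) (Fin m ⊕ Fin m) (ZMod 2)) - 1).rank = 1})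
    (_hconn : (Cfsg.commutingGraph {g : Matrix.symplecticGroup (Fin m) (ZMod 2) |
      ((g : Matrix (Fin m ⊕ Fin m) (Fin m ⊕ Fin m) (ZMod 2)) - 1).rank = 1}).Connected)
    (_hs : IsSimpleGroup ↥(commutator (Matrix.symplecticGroup (Fin m) (ZMod 2)))) (_hna : ¬ IsMulCommutative ↥(commutator (Matrix.symplecticGroup (Fin m) (ZMod 2))))
    {X : Set (Matrix.symplecticGroup (Fin m) (ZMod 2))}
    (W : Triality95.Wit {g : Matrix.symplecticGroup (Fin m) (ZMod 2) |
      ((g : Matrix (Fin m ⊕ Fin m) (Fin m ⊕ Fin m) (ZMod 2)) - 1).rank = 1} X) : False := by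
  obtain ⟨y, hyX⟩ := W.ne
  have hy := W.fpf y hyX
  obtain ⟨x, hx⟩ : ∃ x : Fin m ⊕ Fin m → ZMod 2, y • x ≠ x := not_forall.1 fun h =>
    ne_one hC hy (SymplecticBasic.ext_smul fun x => by rw [h x, one_smul])
  set v := x + y • x with hv
  have hyy : y • (y • x) = x := by rw [← mul_smul, hy.sq, one_smul]
  have hfix : y • v = v := by
    rw [hv, SymplecticBasic.smul_def, Matrix.mulVec_add, ← SymplecticBasic.smul_def,
      ← SymplecticBasic.smul_def, hyy, add_comm]
  have hv0 : v ≠ 0 := fun h => hx (by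
    rw [eq_neg_of_add_eq_zero_right (hv ▸ h : x + y • x = 0)]
    exact ZModModule.neg_eq_self x)
  refine absurd_fixed hy (v := SymplecticBasic.transv v 1)
    (SymplecticTransv.rank_transv_sub_one hv0 one_ne_zero) ?_
  rw [SymplecticBasic.transv_conj, hfix]

section Unitary

open Cfsg.Agent.OrthUnitaryHerm Cfsg.Agent.OrthUnitaryTransvection

theorem false_psu (n : ℕ) (F : Type) [Field F] [Fintype F] (hF : Fintype.card F = 4)
    (hC : Cfsg.IsThreeTranspositionClass ((QuotientGroup.mk : ↥(Cfsg.SU n F 2) → Cfsg.PSU n F 2) ''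
      {g : ↥(Cfsg.SU n F 2) | (((g : Matrix.SpecialLinearGroup (Fin n) F) : Matrix (Fin n) (Fin n) F) - 1).rank = 1}))
    (_hconn : (Cfsg.commutingGraph ((QuotientGroup.mk : ↥(Cfsg.SU n F 2) → Cfsg.PSU n F 2) ''
      {g : ↥(Cfsg.SU n F 2) | (((g : Matrix.SpecialLinearGroup (Fin n) F) : Matrix (Fin n) (Fin n) F) - 1).rank = 1})).Connected)
    (_hs : IsSimpleGroup ↥(commutator (Cfsg.PSU n F 2))) (_hna : ¬ IsMulCommutative ↥(commutator (Cfsg.PSU n F 2)))
    {X : Set (Cfsg.PSU n F 2)}
    (W : Triality95.Wit ((QuotientGroup.mk : ↥(Cfsg.SU n F 2) → Cfsg.PSU n F 2) ''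
      {g : ↥(Cfsg.SU n F 2) | (((g : Matrix.SpecialLinearGroup (Fin n) F) : Matrix (Fin n) (Fin n) F) - 1).rank = 1}) X) :
    False := by
  have hF' : Fintype.card F = 2 ^ 2 := by rw [hF]; norm_num
  obtain ⟨y, hyX⟩ := W.ne
  have hy := W.fpf y hyX
  have hn : 2 ≤ n := by
    by_contra hn
    obtain ⟨-, ⟨g, hg, rfl⟩, -⟩ := hC.2.1
    haveI : Subsingleton (Fin n) := Fin.subsingleton_iff_le_one.2 (by omega)
    have hdet : ((g : Matrix.SpecialLinearGroup (Fin n) F) : Matrix (Fin n) (Fin n) F) = 1 := by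
      ext i j
      obtain rfl : i = j := Subsingleton.elim _ _
      have h1 := (g : Matrix.SpecialLinearGroup (Fin n) F).2
      rw [Matrix.det_eq_elem_of_subsingleton _ i] at h1
      rw [h1, Matrix.one_apply_eq]
    rw [Set.mem_setOf_eq, hdet, sub_self, Matrix.rank_zero] at hg
    exact zero_ne_one hg
  have h2 : (2 : F) = 0 := by
    have h4 : ((Fintype.card F : ℕ) : F) = 0 := FiniteField.cast_card_eq_zero F
    rw [hF] at h4
    exact mul_self_eq_zero.1 (by linear_combination h4)
  have hadd : ∀ w : Fin n → F, w + w = 0 := fun w => by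
    rw [← two_smul F w, h2, zero_smul]
  -- an involution above `y`
  obtain ⟨s, rfl⟩ := QuotientGroup.mk_surjective y
  have hz : s * s ∈ Subgroup.center (SU n F 2) := by
    rw [← QuotientGroup.eq_one_iff, QuotientGroup.mk_mul, hy.sq]
  obtain ⟨a, -, ha⟩ := AutPSU52Basic.exists_scalar_of_mem_center hF' hn hz
  have ha3 : a * a ^ 2 = 1 := by
    have hu : (Pi.single (⟨0, by omega⟩ : Fin n) 1 : Fin n → F) ≠ 0 := by simp
    obtain ⟨z, hzv⟩ := exists_herm_eq hF' hu (1 : F)
    have h1 := herm_act (s * s) z (Pi.single (⟨0, by omega⟩ : Fin n) 1)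
    rw [ha, ha, herm_smul_left, herm_smul_right, hzv, mul_one] at h1
    exact h1
  set t := s * s * s with ht
  have htt : t * t = 1 := by
    rw [show t * t = (s * s) * (s * s) * (s * s) by rw [ht]; group]
    refine su_ext fun x => ?_
    rw [act_mul, act_mul, ha, ha, ha, act_one, smul_smul, smul_smul,
      show a * a * a = 1 by linear_combination ha3, one_smul]
  have hmk : (QuotientGroup.mk t : Cfsg.PSU n F 2) = QuotientGroup.mk s := by
    rw [ht, QuotientGroup.mk_mul, (QuotientGroup.eq_one_iff (s * s)).2 hz, one_mul]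
  clear_value t
  clear ht
  have ht2 : ∀ x, act t (act t x) = x := fun x => by rw [← act_mul, htt, act_one]
  obtain ⟨x, hx⟩ : ∃ x, act t x ≠ x := not_forall.1 fun h => ne_one hC hy (by
    rw [← hmk, su_ext (g := t) (k := 1) fun x => by rw [h x, act_one], QuotientGroup.mk_one])
  set u := x + act t x with hu
  have hfix : act t u = u := by rw [hu, act_add, ht2, add_comm]
  have hu0 : u ≠ 0 := fun h => hx (by
    have h1 : x + act t x = x + x := by rw [← hu, h, hadd]
    exact add_left_cancel h1)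
  have hiso : hermForm n F 2 u u = 0 := by
    conv_lhs => rw [hu, herm_add_left]
    have h1 := herm_act t x u
    rw [hfix] at h1
    rw [← hu, h1, ← two_mul, h2, zero_mul]
  have hskew : (1 : F) + (1 : F) ^ 2 = 0 := by rw [one_pow, ← two_mul, h2, zero_mul]
  set A : SU n F 2 := tv hF' u 1 hiso hskew with hA
  have hact : ∀ z, act A z = z + hermForm n F 2 z u • u := fun z => by rw [hA, tv_act, one_mul]
  have hr : (((A : Matrix.SpecialLinearGroup (Fin n) F) : Matrix (Fin n) (Fin n) F) - 1).rank = 1 := by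
    obtain ⟨z, hz1⟩ := exists_herm_eq hF' hu0 (1 : F)
    set M := ((A : Matrix.SpecialLinearGroup (Fin n) F) : Matrix (Fin n) (Fin n) F) - 1 with hM
    have hmul : ∀ w, M *ᵥ w = hermForm n F 2 w u • u := by
      intro w
      rw [hM, Matrix.sub_mulVec, Matrix.one_mulVec]
      show act A w - w = _
      rw [hact, add_sub_cancel_left]
    rw [Matrix.rank, show LinearMap.range M.mulVecLin = Submodule.span F {u} from le_antisymm
      (by
        rintro _ ⟨w, rfl⟩
        rw [Matrix.mulVecLin_apply, hmul]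
        exact Submodule.smul_mem _ _ (Submodule.mem_span_singleton_self u))
      ((Submodule.span_singleton_le_iff_mem _ _).2
        ⟨z, by rw [Matrix.mulVecLin_apply, hmul, hz1, one_smul]⟩), finrank_span_singleton hu0]
  have hcomm : t * A = A * t := su_ext fun z => by
    have h1 := herm_act t z u
    rw [hfix] at h1
    rw [act_mul, act_mul, hact, act_add, act_smul, hfix, hact, h1]
  refine absurd_fixed hy ⟨A, hr, rfl⟩ ?_
  rw [← hmk, ← QuotientGroup.mk_inv, ← QuotientGroup.mk_mul, ← QuotientGroup.mk_mul, hcomm,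
    mul_inv_cancel_right]

end Unitary

end Cfsg.Agent.Triality95Sym10
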