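import Cfsg.Agent.Lib.Triality95ThreeSmall44
import Cfsg.Agent.Lib.OrthUnitarySimpleStd
import Cfsg.Agent.Lib.OrthUnitaryPrelude

/-!
# The reflection groups over three elements in the triality argument

A reflection group over three elements has an element moving every point to another commuting one
only in dimension eight; then these elements form one class and the derived group is the simple
orthogonal group of plus type.
-/

set_option autoImplicit false
set_option linter.unusedSectionVars false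
set_option maxRecDepth 10000

namespace Cfsg.Agent.Triality95Three44

open QuadraticMap Cfsg.Agent
open OrthUnitaryQuad OrthUnitaryRefl ReflectionThreeGroup Triality95ThreeGeom44 Triality95ThreeFrame44
  Triality95ThreePR44

variable {n : ℕ} {Q : QuadraticForm K (Fin n → K)} {c : K}

/-! ### The change of coordinates in dimension four -/

theorem block_eqs : ∀ c a b d e : K, c ≠ 0 →
    c * ((a + b + c * e) * (a + b + c * e) + (a + 2 * b + c * d) * (a + 2 * b + c * d) +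
      (a + c * d + 2 * c * e) * (a + c * d + 2 * c * e) + (b + c * d + c * e) * (b + c * d + c * e)) =
      a * d + b * e ∧
    2 * (a + 2 * b + c * d) + 2 * (a + c * d + 2 * c * e) + 2 * (b + c * d + c * e) = a ∧
    2 * (a + b + c * e) + (a + c * d + 2 * c * e) + 2 * (b + c * d + c * e) = b ∧
    c * (2 * (a + b + c * e) + 2 * (a + 2 * b + c * d) + 2 * (a + c * d + 2 * c * e)) = d ∧
    c * (2 * (a + b + c * e) + (a + 2 * b + c * d) + 2 * (b + c * d + c * e)) = e := by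
  decide +kernel

/-- The standard form on eight coordinates is a scalar multiple of the hyperbolic one. -/
theorem exists_plus (hc : c ≠ 0) :
    ∃ ψ : (Fin 4 ⊕ Fin 4 → K) →ₗ[K] (Fin 4 ⊕ Fin 4 → K), Function.Bijective ψ ∧
      ∀ x, c * ∑ i, ψ x i * ψ x i = Cfsg.quadFormPlus 4 K x := by
  let f : (Fin 4 ⊕ Fin 4 → K) →ₗ[K] (Fin 4 ⊕ Fin 4 → K) :=
    { toFun := fun x => Sum.elim
        ![x (.inl 0) + x (.inl 1) + c * x (.inr 1), x (.inl 0) + 2 * x (.inl 1) + c * x (.inr 0),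
          x (.inl 0) + c * x (.inr 0) + 2 * c * x (.inr 1), x (.inl 1) + c * x (.inr 0) + c * x (.inr 1)]
        ![x (.inl 2) + x (.inl 3) + c * x (.inr 3), x (.inl 2) + 2 * x (.inl 3) + c * x (.inr 2),
          x (.inl 2) + c * x (.inr 2) + 2 * c * x (.inr 3), x (.inl 3) + c * x (.inr 2) + c * x (.inr 3)]
      map_add' := fun x y => by
        funext s
        rcases s with i | i <;> fin_cases i <;> simp <;> ring
      map_smul' := fun r x => by
        funext s
        rcases s with i | i <;> fin_cases i <;> simp <;> ring }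
  have hinj : Function.Injective f := by
    rw [← LinearMap.ker_eq_bot, LinearMap.ker_eq_bot']
    intro x hx
    have z : ∀ i, f x i = 0 := fun i => by rw [hx]; rfl
    obtain ⟨-, a1, a2, a3, a4⟩ :=
      block_eqs c (x (.inl 0)) (x (.inl 1)) (x (.inr 0)) (x (.inr 1)) hc
    obtain ⟨-, b1, b2, b3, b4⟩ :=
      block_eqs c (x (.inl 2)) (x (.inl 3)) (x (.inr 2)) (x (.inr 3)) hc
    have e0 : x (.inl 0) + x (.inl 1) + c * x (.inr 1) = 0 := z (.inl 0)
    have e1 : x (.inl 0) + 2 * x (.inl 1) + c * x (.inr 0) = 0 := z (.inl 1)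
    have e2 : x (.inl 0) + c * x (.inr 0) + 2 * c * x (.inr 1) = 0 := z (.inl 2)
    have e3 : x (.inl 1) + c * x (.inr 0) + c * x (.inr 1) = 0 := z (.inl 3)
    have e4 : x (.inl 2) + x (.inl 3) + c * x (.inr 3) = 0 := z (.inr 0)
    have e5 : x (.inl 2) + 2 * x (.inl 3) + c * x (.inr 2) = 0 := z (.inr 1)
    have e6 : x (.inl 2) + c * x (.inr 2) + 2 * c * x (.inr 3) = 0 := z (.inr 2)
    have e7 : x (.inl 3) + c * x (.inr 2) + c * x (.inr 3) = 0 := z (.inr 3)
    rw [e1, e2, e3] at a1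
    rw [e0, e2, e3] at a2
    rw [e0, e1, e2] at a3
    rw [e0, e1, e3] at a4
    rw [e5, e6, e7] at b1
    rw [e4, e6, e7] at b2
    rw [e4, e5, e6] at b3
    rw [e4, e5, e7] at b4
    simp only [mul_zero, add_zero] at a1 a2 a3 a4 b1 b2 b3 b4
    funext s
    rcases s with i | i <;> fin_cases i <;> simp_all
  refine ⟨f, ⟨hinj, (LinearMap.injective_iff_surjective).mp hinj⟩, fun x => ?_⟩
  obtain ⟨h1, -⟩ := block_eqs c (x (.inl 0)) (x (.inl 1)) (x (.inr 0)) (x (.inr 1)) hc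
  obtain ⟨h2, -⟩ := block_eqs c (x (.inl 2)) (x (.inl 3)) (x (.inr 2)) (x (.inr 3)) hc
  simp only [Cfsg.quadFormPlus, Fintype.sum_sum_type, Fin.sum_univ_four, f, LinearMap.coe_mk,
    AddHom.coe_mk, Sum.elim_inl, Sum.elim_inr, Matrix.cons_val]
  linear_combination h1 + h2

/-! ### The model -/

variable (hQ : (polarBilin Q).Nondegenerate) (hc : c ≠ 0)
include hQ hc

theorem skew_of_qf (hn : 4 ≤ n) {g : orth Q} (h : ∀ v, Q v = c → qf g v = 0) : Skew g :=
  ⟨skew g hQ hn hc h, sq_neg g hQ hn hc h⟩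

theorem center_sign (hn : 5 ≤ n) {t : ↥(tGroup Q c)} (ht : t ∈ Subgroup.center ↥(tGroup Q c)) :
    (t : orth Q) = 1 ∨ (t : orth Q) = OrthUnitaryCentre.negOne Q :=
  ReflectionThreeGroup.eq_one_or_neg hQ hn fun k hk =>
    (congrArg Subtype.val
      (Subgroup.mem_center_iff.mp ht ⟨k, sGroup_le_tGroup hQ hn hc hk⟩)).symm

theorem map_commutator_mk (hn : 5 ≤ n) {s : ↥(tGroup Q c)}
    (hs : (s : orth Q) ∈ OrthUnitarySimple.sGroup Q) :
    (QuotientGroup.mk s : PG Q c) ∈ commutator (PG Q c) := by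
  have h : s ∈ commutator ↥(tGroup Q c) := by
    rw [commutator_tGroup hQ hn hc]
    exact hs
  have h2 := Subgroup.mem_map_of_mem (QuotientGroup.mk' (Subgroup.center ↥(tGroup Q c))) h
  rw [commutator_def, Subgroup.map_commutator,
    Subgroup.map_top_of_surjective _ QuotientGroup.mk_surjective, ← commutator_def] at h2
  exact h2

/-- The derived group in dimension eight. -/
theorem equiv_eight (hn : 5 ≤ n) {g : orth Q} {e : Fin 4 → Fin n → K} (he : Frame g c e)
    (hk : n = 2 * 4) :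
    Nonempty (↥(commutator (PG Q c)) ≃* Cfsg.POmega (ZMod 3) (Cfsg.quadFormPlus 4 (ZMod 3))) := by
  obtain ⟨ψ, hψ, hψq⟩ := exists_plus hc
  set L : (Fin 4 ⊕ Fin 4 → K) ≃ₗ[K] (Fin n → K) :=
    (LinearEquiv.ofBijective ψ hψ).trans (he.equiv hc hk) with hL
  have hLq : ∀ v, Cfsg.quadFormPlus 4 (ZMod 3) (L.symm v) = Q v := fun v => by
    obtain ⟨v, rfl⟩ := L.surjective v
    rw [L.symm_apply_apply, ← hψq, hL, LinearEquiv.trans_apply, Frame.q_equiv hc he]
    rfl
  let τ : Cfsg.Omega (ZMod 3) (Cfsg.quadFormPlus 4 (ZMod 3)) ≃* ↥(OrthUnitarySimple.sGroup Q) :=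
    (OrthUnitaryStd.omegaEquiv Q _ L.symm hLq).trans
      (MulEquiv.subgroupCongr (OrthUnitarySimple.commutator_eq_sGroup hQ (finrank_le hn)))
  have hcen : (Subgroup.center (Cfsg.Omega (ZMod 3) (Cfsg.quadFormPlus 4 (ZMod 3)))).map
      τ.toMonoidHom = Subgroup.center ↥(OrthUnitarySimple.sGroup Q) := by
    ext x
    constructor
    · rintro ⟨y, hy, rfl⟩
      rw [Subgroup.mem_center_iff]
      intro z
      obtain ⟨z, rfl⟩ := τ.surjective z
      show τ z * τ y = τ y * τ z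
      rw [← map_mul, ← map_mul, Subgroup.mem_center_iff.1 hy z]
    · intro hx
      refine ⟨τ.symm x, Subgroup.mem_center_iff.2 fun z => τ.injective ?_, τ.apply_symm_apply x⟩
      rw [map_mul, map_mul, τ.apply_symm_apply, Subgroup.mem_center_iff.1 hx (τ z)]
  let f : ↥(OrthUnitarySimple.sGroup Q) →* PG Q c :=
    (QuotientGroup.mk' (Subgroup.center ↥(tGroup Q c))).comp
      (Subgroup.inclusion (sGroup_le_tGroup hQ hn hc))
  have hker : f.ker = Subgroup.center ↥(OrthUnitarySimple.sGroup Q) := by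
    ext x
    rw [MonoidHom.mem_ker]
    show (QuotientGroup.mk _ : PG Q c) = 1 ↔ _
    rw [QuotientGroup.eq_one_iff, Subgroup.mem_center_iff, Subgroup.mem_center_iff]
    constructor
    · intro h z
      exact Subtype.ext (congrArg Subtype.val
        (h (Subgroup.inclusion (sGroup_le_tGroup hQ hn hc) z)) :)
    · intro h z
      exact Subtype.ext (central_of_commute hQ hn
        (fun k hk => (congrArg Subtype.val (h ⟨k, hk⟩)).symm) z.1)
  have hrange : f.range = commutator (PG Q c) := by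
    refine le_antisymm ?_ fun x hx => ?_
    · rintro _ ⟨s, rfl⟩
      exact map_commutator_mk hQ hc hn s.2
    · have h : x ∈ (commutator ↥(tGroup Q c)).map
          (QuotientGroup.mk' (Subgroup.center ↥(tGroup Q c))) := by
        rw [commutator_def, Subgroup.map_commutator,
          Subgroup.map_top_of_surjective _ QuotientGroup.mk_surjective, ← commutator_def]
        exact hx
      obtain ⟨s, hs, rfl⟩ := h
      rw [commutator_tGroup hQ hn hc] at hs
      exact ⟨⟨s.1, hs⟩, rfl⟩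
  exact ⟨((QuotientGroup.congr _ _ τ hcen).trans
    ((QuotientGroup.quotientMulEquivOfEq hker.symm).trans
      ((QuotientGroup.quotientKerEquivRange f).trans (MulEquiv.subgroupCongr hrange)))).symm⟩

/-- More than four planes are impossible. -/
theorem planes_le (hn : 5 ≤ n) {X : Set (PG Q c)} (W : Triality95.Wit (cls Q c hc) X)
    {y : PG Q c} (hy : y ∈ X) {t : ↥(tGroup Q c)} (hty : QuotientGroup.mk t = y)
    (hsk : Skew (t : orth Q)) {j : ℕ} {e : Fin (6 + j) → Fin n → K} (he : Frame (t : orth Q) c e)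
    (hk : n = 2 * (6 + j)) : False := by
  obtain ⟨h, h7, hne, hinv⟩ := Triality95ThreeSeven44.exists_seven hc hsk he hk
  have h8 : (h * h) * (h * h) * ((h * h) * (h * h)) = h := by
    rw [show (h * h) * (h * h) * ((h * h) * (h * h)) = h ^ 7 * h by
      simp only [pow_succ, pow_zero, one_mul, mul_assoc], h7, one_mul]
  have hht : h * h ∈ tGroup Q c := by
    rcases Subgroup.mul_mem_iff_of_index_two (index_tGroup hQ hn hc) (a := h) (b := h) with hh
    exact hh.mpr Iff.rfl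
  have hhS : h ∈ OrthUnitarySimple.sGroup Q := by
    have hidx := relIndex_sGroup hQ hn hc
    have hmem : h ∈ tGroup Q c := h8 ▸ mul_mem (mul_mem hht hht) (mul_mem hht hht)
    have h2 := Subgroup.mul_mem_iff_of_index_two
      (H := (OrthUnitarySimple.sGroup Q).subgroupOf (tGroup Q c)) hidx
      (a := ⟨h, hmem⟩) (b := ⟨h, hmem⟩)
    have h3 : h * h ∈ OrthUnitarySimple.sGroup Q := Subgroup.mem_subgroupOf.mp (h2.mpr Iff.rfl)
    exact h8 ▸ mul_mem (mul_mem h3 h3) (mul_mem h3 h3)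
  set s : ↥(tGroup Q c) := ⟨h, sGroup_le_tGroup hQ hn hc hhS⟩ with hs
  set σ : PG Q c := QuotientGroup.mk s with hσ
  have hσ7 : σ ^ 7 = 1 := by
    rw [hσ, ← QuotientGroup.mk_pow, show s ^ 7 = 1 from Subtype.ext h7, QuotientGroup.mk_one]
  have hσne : σ ≠ 1 := by
    rw [hσ, Ne, QuotientGroup.eq_one_iff]
    intro hcen
    rcases center_sign hQ hc hn hcen with e1 | e1
    · exact hne e1
    · apply hne
      have e2 : h = OrthUnitaryCentre.negOne Q := e1
      have e3 : h * h = 1 := by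
        rw [e2]
        exact orth_ext fun x => by
          rw [orth_mul_apply, OrthUnitaryCentre.negOne_apply, OrthUnitaryCentre.negOne_apply, neg_neg]
          rfl
      calc h = (h * h) * (h * h) * ((h * h) * (h * h)) := h8.symm
        _ = 1 := by rw [e3, one_mul, one_mul]
  have hconj : y * σ * y⁻¹ = σ⁻¹ := by
    rw [← hty, hσ, ← QuotientGroup.mk_inv, ← QuotientGroup.mk_mul, ← QuotientGroup.mk_mul,
      ← QuotientGroup.mk_inv]
    exact congrArg QuotientGroup.mk (Subtype.ext hinv)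
  have hy2 : y * y = 1 := (W.fpf y hy).sq
  have hX := W.inv σ (map_commutator_mk hQ hc hn hhS) y hy
  obtain ⟨u, hu, v, hv, u', hu', v', hv', hne1, hne2, hc1, hc2, hord⟩ :=
    W.ord y hy _ hX
  obtain ⟨u, huq, rfl⟩ := hu
  obtain ⟨v, hvq, rfl⟩ := hv
  obtain ⟨u', hu'q, rfl⟩ := hu'
  obtain ⟨v', hv'q, rfl⟩ := hv'
  have hP := Triality95ThreeSeven44.four_pow hc huq hvq hu'q hv'q
    (orth_of_ne hc huq hvq hne1 hc1) (orth_of_ne hc hu'q hv'q hne2 hc2) _ rfl
  have h180 : (pt Q c hc u huq * pt Q c hc v hvq * (pt Q c hc u' hu'q * pt Q c hc v' hv'q)) ^ 180 =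
      1 := by
    simp only [pt, ← QuotientGroup.mk_mul, ← QuotientGroup.mk_pow]
    refine (congrArg QuotientGroup.mk (Subtype.ext ?_)).trans (QuotientGroup.mk_one _)
    simpa using hP
  have hprod : y * (σ * y * σ⁻¹) = σ⁻¹ * σ⁻¹ := by
    have hyi : y⁻¹ = y := inv_eq_of_mul_eq_one_right hy2
    rw [hyi] at hconj
    rw [← mul_assoc, ← mul_assoc, hconj]
  have hdvd : orderOf (σ⁻¹ * σ⁻¹) ∣ 180 := by
    rw [← hprod, hord]
    exact orderOf_dvd_of_pow_eq_one h180
  have h7dvd : orderOf σ = 7 := by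
    haveI : Fact (Nat.Prime 7) := ⟨by norm_num⟩
    exact orderOf_eq_prime hσ7 hσne
  have hcop : orderOf (σ⁻¹ * σ⁻¹) = 7 := by
    rw [← pow_two, inv_pow, orderOf_inv, Nat.Coprime.orderOf_pow]
    · exact h7dvd
    · rw [h7dvd]; norm_num
  rw [hcop] at hdvd
  norm_num at hdvd

/-- The verdict on the model. -/
theorem verdict_model (hna : ¬ IsMulCommutative ↥(commutator (PG Q c)))
    (hconn : ∀ p ∈ cls Q c hc, ∀ p' ∈ cls Q c hc, Relation.ReflTransGen
      (fun a b => a ∈ cls Q c hc ∧ b ∈ cls Q c hc ∧ a ≠ b ∧ Commute a b) p p')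
    {X : Set (PG Q c)} (W : Triality95.Wit (cls Q c hc) X) :
    Triality95.Verdict (PG Q c) (cls Q c hc) := by
  obtain ⟨y₀, hy₀⟩ := W.ne
  obtain ⟨t₀, ht₀, ht₀v⟩ := lift_of_fpf hc (W.fpf y₀ hy₀)
  have hn4 : 4 ≤ n := by
    by_contra hsmall
    exact false_of_all_commute hc hna
      (Triality95ThreeSmall44.all_commute hQ hc (by omega) _ fun v hv => (ht₀v v hv).1)
  have hsk₀ := skew_of_qf hQ hc hn4 fun v hv => (ht₀v v hv).1
  obtain ⟨k, e₀, hk, he₀⟩ := exists_frame hQ hc hsk₀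
  have hn5 : 5 ≤ n := by
    by_contra hsmall
    have hk2 : k = 2 := by omega
    subst hk2
    exact Triality95ThreeSmall44.false_four hc hsk₀ he₀ hk hconn
  have heven := even_planes hQ hc hn5 hsk₀ he₀ hk t₀.2
  have hk4 : k = 4 := by
    by_contra hne
    obtain ⟨j, rfl⟩ : ∃ j, k = 6 + j := by
      obtain ⟨m, hm⟩ := heven
      exact ⟨k - 6, by omega⟩
    exact planes_le hQ hc hn5 W hy₀ ht₀ hsk₀ he₀ hk
  subst hk4
  refine ⟨fun y y' hy hy' => ?_, Or.inr (equiv_eight hQ hc hn5 he₀ hk)⟩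
  obtain ⟨t, rfl, htv⟩ := lift_of_fpf hc hy
  obtain ⟨t', rfl, htv'⟩ := lift_of_fpf hc hy'
  have hsk := skew_of_qf hQ hc hn4 fun v hv => (htv v hv).1
  have hsk' := skew_of_qf hQ hc hn4 fun v hv => (htv' v hv).1
  obtain ⟨k, e, hk', he⟩ := exists_frame hQ hc hsk
  obtain ⟨k', e', hk'', he'⟩ := exists_frame hQ hc hsk'
  have e1 : k = 4 := by omega
  have e2 : k' = 4 := by omega
  subst e1 e2
  obtain ⟨h, hh⟩ := exists_map hc hsk hsk' he he' hk'
  obtain ⟨h', hmem, hh'⟩ : ∃ h' ∈ tGroup Q c, h' * (t : orth Q) * h'⁻¹ = (t' : orth Q) := by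
    by_cases hm : h ∈ tGroup Q c
    · exact ⟨h, hm, hh⟩
    refine ⟨h * rot hsk hc (e 0) (he.norm 0), ?_, ?_⟩
    · rw [Subgroup.mul_mem_iff_of_index_two (index_tGroup hQ hn5 hc)]
      simp [hm, rot_notMem hQ hc hn5 hsk (he.norm 0)]
    · rw [mul_assoc h, ← rot_comm hc hsk (he.norm 0), ← hh]
      group
  exact ⟨QuotientGroup.mk ⟨h', hmem⟩, by
    rw [← QuotientGroup.mk_inv, ← QuotientGroup.mk_mul, ← QuotientGroup.mk_mul]
    exact congrArg QuotientGroup.mk (Subtype.ext hh')⟩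

/-! ### The matrix group of the Fischer list -/

omit hQ hc in
/-- The verdict for the reflection groups over three elements. -/
theorem verdict_three_of_eq (n : ℕ) (Q : QuadraticForm (ZMod 3) (Fin n → ZMod 3))
    (hQ : (QuadraticMap.polarBilin Q).Nondegenerate) (c : ZMod 3) (hc : c ≠ 0)
    {C : Set (↥(Cfsg.reflectionSubgroup (⇑Q) c) ⧸ Subgroup.center ↥(Cfsg.reflectionSubgroup (⇑Q) c))}
    (hCdef : C = (QuotientGroup.mk : ↥(Cfsg.reflectionSubgroup (⇑Q) c) → _) ''
      {g : ↥(Cfsg.reflectionSubgroup (⇑Q) c) |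
        (g : ↥(Cfsg.isometryGroup (ZMod 3) (⇑Q))) ∈ Cfsg.reflectionsOfNorm (⇑Q) c})
    (_hC : Cfsg.IsThreeTranspositionClass C) (hconn : (Cfsg.commutingGraph C).Connected)
    (_hs : IsSimpleGroup ↥(commutator
      (↥(Cfsg.reflectionSubgroup (⇑Q) c) ⧸ Subgroup.center ↥(Cfsg.reflectionSubgroup (⇑Q) c))))
    (hna : ¬ IsMulCommutative ↥(commutator
      (↥(Cfsg.reflectionSubgroup (⇑Q) c) ⧸ Subgroup.center ↥(Cfsg.reflectionSubgroup (⇑Q) c))))
    {X : Set (↥(Cfsg.reflectionSubgroup (⇑Q) c) ⧸ Subgroup.center ↥(Cfsg.reflectionSubgroup (⇑Q) c))}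
    (W : Triality95.Wit C X) :
    Triality95.Verdict
      (↥(Cfsg.reflectionSubgroup (⇑Q) c) ⧸ Subgroup.center ↥(Cfsg.reflectionSubgroup (⇑Q) c)) C := by
  subst hCdef
  set E := ReflectionThreeGroup.equiv (Q := Q) (c := c) hc
  have hcen : (Subgroup.center ↥(Cfsg.reflectionSubgroup (⇑Q) c)).map E.toMonoidHom =
      Subgroup.center ↥(tGroup Q c) := by
    ext x
    simp only [Subgroup.mem_map, MulEquiv.coe_toMonoidHom, Subgroup.mem_center_iff]
    constructor
    · rintro ⟨y, hy, rfl⟩ z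
      obtain ⟨z, rfl⟩ := E.surjective z
      rw [← map_mul, ← map_mul, hy z]
    · intro hx
      exact ⟨E.symm x, fun z => E.injective (by simp [hx]), by simp⟩
  set F : _ ≃* PG Q c := QuotientGroup.congr _ _ E hcen
  have himg : F '' ((QuotientGroup.mk : ↥(Cfsg.reflectionSubgroup (⇑Q) c) → _) ''
      {g : ↥(Cfsg.reflectionSubgroup (⇑Q) c) |
        (g : ↥(Cfsg.isometryGroup (ZMod 3) (⇑Q))) ∈ Cfsg.reflectionsOfNorm (⇑Q) c}) =
      cls Q c hc := by
    ext p
    constructor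
    · rintro ⟨_, ⟨g, ⟨v, hv, hm⟩, rfl⟩, rfl⟩
      refine ⟨v, hv, ?_⟩
      show (QuotientGroup.mk (E g) : PG Q c) = _
      exact congrArg QuotientGroup.mk (Subtype.ext
        ((OrthUnitaryPrelude.mat_eq_reflectionMatrix_iff g.1 (hv ▸ hc)).mp hm))
    · rintro ⟨v, hv, rfl⟩
      refine ⟨QuotientGroup.mk (E.symm ⟨refl Q v (hv ▸ hc), refl_mem_tGroup _ hv⟩),
        ⟨_, ⟨v, hv, ?_⟩, rfl⟩, ?_⟩
      · refine (OrthUnitaryPrelude.mat_eq_reflectionMatrix_iff _ (hv ▸ hc)).mpr ?_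
        exact congrArg Subtype.val (E.apply_symm_apply ⟨refl Q v (hv ▸ hc), refl_mem_tGroup _ hv⟩)
      · show (QuotientGroup.mk (E (E.symm _)) : PG Q c) = _
        rw [E.apply_symm_apply]
        rfl
  refine Triality95.Verdict.of_equiv F ?_
  have hW := W.map F
  rw [himg] at hW ⊢
  refine verdict_model hQ hc ?_ ?_ hW
  · intro h
    apply hna
    refine ⟨⟨fun a b => Subtype.ext (F.injective ?_)⟩⟩
    have := congrArg Subtype.val (h.is_comm.comm
      ⟨F a, Triality95.mem_commutator_equiv F a.2⟩ ⟨F b, Triality95.mem_commutator_equiv F b.2⟩)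
    simp only [Subgroup.coe_mul, map_mul]
    exact this
  · intro p hp p' hp'
    rw [← himg] at hp hp'
    obtain ⟨a, ha, rfl⟩ := hp
    obtain ⟨b, hb, rfl⟩ := hp'
    obtain ⟨w⟩ := hconn.preconnected ⟨a, ha⟩ ⟨b, hb⟩
    clear * - w himg
    suffices h : ∀ (x y : _) (w : (Cfsg.commutingGraph _).Walk x y), Relation.ReflTransGen
        (fun a b => a ∈ cls Q c hc ∧ b ∈ cls Q c hc ∧ a ≠ b ∧ Commute a b) (F x.1) (F y.1) from
      h _ _ w
    intro x y w
    induction w with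
    | nil => exact Relation.ReflTransGen.refl
    | @cons x z y hxz _ ih =>
      refine Relation.ReflTransGen.head ⟨himg ▸ ⟨_, x.2, rfl⟩, himg ▸ ⟨_, z.2, rfl⟩, ?_, ?_⟩ ih
      · exact fun e => hxz.ne (Subtype.ext (F.injective e))
      · rcases ((SimpleGraph.fromRel_adj _ _ _).mp hxz).2 with h | h
        · exact h.map F.toMonoidHom
        · exact h.symm.map F.toMonoidHom

omit hQ hc in
/-- The verdict with the class of the list written out. -/
theorem verdict_three (n : ℕ) (Q : QuadraticForm (ZMod 3) (Fin n → ZMod 3))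
    (hQ : (QuadraticMap.polarBilin Q).Nondegenerate) (c : ZMod 3) (hc : c ≠ 0)
    (hC : Cfsg.IsThreeTranspositionClass ((QuotientGroup.mk : ↥(Cfsg.reflectionSubgroup (⇑Q) c) →
        ↥(Cfsg.reflectionSubgroup (⇑Q) c) ⧸ Subgroup.center ↥(Cfsg.reflectionSubgroup (⇑Q) c)) ''
        {g : ↥(Cfsg.reflectionSubgroup (⇑Q) c) |
          (g : ↥(Cfsg.isometryGroup (ZMod 3) (⇑Q))) ∈ Cfsg.reflectionsOfNorm (⇑Q) c}))
    (hconn : (Cfsg.commutingGraph ((QuotientGroup.mk : ↥(Cfsg.reflectionSubgroup (⇑Q) c) →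
        ↥(Cfsg.reflectionSubgroup (⇑Q) c) ⧸ Subgroup.center ↥(Cfsg.reflectionSubgroup (⇑Q) c)) ''
        {g : ↥(Cfsg.reflectionSubgroup (⇑Q) c) |
          (g : ↥(Cfsg.isometryGroup (ZMod 3) (⇑Q))) ∈ Cfsg.reflectionsOfNorm (⇑Q) c})).Connected)
    (hs : IsSimpleGroup ↥(commutator (↥(Cfsg.reflectionSubgroup (⇑Q) c) ⧸ Subgroup.center ↥(Cfsg.reflectionSubgroup (⇑Q) c))))
    (hna : ¬ IsMulCommutative ↥(commutator (↥(Cfsg.reflectionSubgroup (⇑Q) c) ⧸ Subgroup.center ↥(Cfsg.reflectionSubgroup (⇑Q) c))))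
    {X : Set (↥(Cfsg.reflectionSubgroup (⇑Q) c) ⧸ Subgroup.center ↥(Cfsg.reflectionSubgroup (⇑Q) c))}
    (W : Triality95.Wit ((QuotientGroup.mk : ↥(Cfsg.reflectionSubgroup (⇑Q) c) →
        ↥(Cfsg.reflectionSubgroup (⇑Q) c) ⧸ Subgroup.center ↥(Cfsg.reflectionSubgroup (⇑Q) c)) ''
        {g : ↥(Cfsg.reflectionSubgroup (⇑Q) c) |
          (g : ↥(Cfsg.isometryGroup (ZMod 3) (⇑Q))) ∈ Cfsg.reflectionsOfNorm (⇑Q) c}) X) :
    Triality95.Verdict (↥(Cfsg.reflectionSubgroup (⇑Q) c) ⧸ Subgroup.center ↥(Cfsg.reflectionSubgroup (⇑Q) c)) ((QuotientGroup.mk : ↥(Cfsg.reflectionSubgroup (⇑Q) c) →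
        ↥(Cfsg.reflectionSubgroup (⇑Q) c) ⧸ Subgroup.center ↥(Cfsg.reflectionSubgroup (⇑Q) c)) ''
        {g : ↥(Cfsg.reflectionSubgroup (⇑Q) c) |
          (g : ↥(Cfsg.isometryGroup (ZMod 3) (⇑Q))) ∈ Cfsg.reflectionsOfNorm (⇑Q) c}) :=
  verdict_three_of_eq n Q hQ c hc rfl hC hconn hs hna W

end Cfsg.Agent.Triality95Three44
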