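import Cfsg.Agent.Lib.Triality95ThreeGeom44

/-!
# Frames of skew isometries with square minus one over the field with three elements

Such an isometry has an orthogonal frame `e i, g (e i)` of one norm, is a product of that many
plane rotations, and lies in the reflection group only when that number is even.
-/

set_option autoImplicit false
set_option linter.unusedSectionVars false

namespace Cfsg.Agent.Triality95ThreeFrame44

open QuadraticMap Cfsg.Agent
open OrthUnitaryQuad OrthUnitaryRefl ReflectionThreeGroup Triality95ThreeGeom44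

variable {n : ℕ} {Q : QuadraticForm K (Fin n → K)} {c : K}

/-- A skew isometry with square minus one. -/
structure Skew (g : orth Q) : Prop where
  skew : ∀ x y, polar Q x (g.1 y) = -polar Q (g.1 x) y
  sq : ∀ x, g.1 (g.1 x) = -x

theorem Skew.self {g : orth Q} (h : Skew g) (x : Fin n → K) : polar Q x (g.1 x) = 0 := by
  have e := h.skew x x
  rw [polar_comm (⇑Q) (g.1 x) x] at e
  linear_combination (-1 : K) * e + polar Q x (g.1 x) * three_zero

/-- An orthogonal family of one norm whose images stay orthogonal to it. -/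
structure Frame (g : orth Q) (c : K) {j : ℕ} (e : Fin j → Fin n → K) : Prop where
  norm : ∀ i, Q (e i) = c
  orth : ∀ i i', i ≠ i' → polar Q (e i) (e i') = 0
  cross : ∀ i i', polar Q (e i) (g.1 (e i')) = 0

/-- The vectors of a frame. -/
noncomputable def all {j : ℕ} (g : orth Q) (e : Fin j → Fin n → K) : Fin j ⊕ Fin j → Fin n → K :=
  Sum.elim e fun i => g.1 (e i)

theorem Frame.all_norm {j : ℕ} {g : OrthUnitaryQuad.orth Q} {e : Fin j → Fin n → K}
    (h : Frame g c e) : ∀ a, Q (all g e a) = c := by
  rintro (i | i)
  · exact h.norm i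
  · exact (map_orth g _).trans (h.norm i)

theorem Frame.all_orth {j : ℕ} {g : OrthUnitaryQuad.orth Q} {e : Fin j → Fin n → K}
    (h : Frame g c e) : ∀ a b, a ≠ b → polar Q (all g e a) (all g e b) = 0 := by
  rintro (i | i) (i' | i') hne
  · exact h.orth i i' fun e' => hne (congrArg _ e')
  · exact h.cross i i'
  · exact (polar_comm (⇑Q) _ _).trans (h.cross i' i)
  · exact (polar_orth g _ _).trans (h.orth i i' fun e' => hne (congrArg _ e'))

/-- The coordinates along a family. -/
noncomputable def coords {ι : Type*} [Fintype ι] (b : ι → Fin n → K) :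
    (ι → K) →ₗ[K] (Fin n → K) :=
  Fintype.linearCombination K b

theorem coords_apply {ι : Type*} [Fintype ι] (b : ι → Fin n → K) (x : ι → K) :
    coords b x = ∑ i, x i • b i := Fintype.linearCombination_apply K b x

theorem polar_coords {ι : Type*} [Fintype ι] [DecidableEq ι] {b : ι → Fin n → K}
    (hb : ∀ i i', i ≠ i' → polar Q (b i) (b i') = 0) (x : ι → K) (a : ι) :
    polar Q (b a) (coords b x) = x a * polar Q (b a) (b a) := by
  rw [coords_apply, ← polarBilin_apply_apply, map_sum, Finset.sum_eq_single a]
  · rw [map_smul]; rfl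
  · intro i _ hi
    rw [map_smul]
    show _ • polar Q (b a) (b i) = 0
    rw [hb a i hi.symm, smul_zero]
  · simp

theorem coords_inj {ι : Type*} [Fintype ι] [DecidableEq ι] {b : ι → Fin n → K}
    (hc : c ≠ 0) (hn : ∀ i, Q (b i) = c) (hb : ∀ i i', i ≠ i' → polar Q (b i) (b i') = 0) :
    Function.Injective (coords b) := by
  rw [← LinearMap.ker_eq_bot, LinearMap.ker_eq_bot']
  intro x hx
  funext a
  have h := polar_coords hb x a
  rw [hx, polar_zero_right, polar_self', hn] at h
  exact (mul_eq_zero.mp h.symm).resolve_right (neg_ne_zero.mpr hc)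

theorem card_le {ι : Type*} [Fintype ι] [DecidableEq ι] {b : ι → Fin n → K}
    (hc : c ≠ 0) (hn : ∀ i, Q (b i) = c) (hb : ∀ i i', i ≠ i' → polar Q (b i) (b i') = 0) :
    Fintype.card ι ≤ n := by
  have := LinearMap.finrank_le_finrank_of_injective (coords_inj hc hn hb)
  rwa [Module.finrank_fintype_fun_eq_card, Module.finrank_fin_fun] at this

theorem q_coords {ι : Type*} [Fintype ι] [DecidableEq ι] {b : ι → Fin n → K}
    (hn : ∀ i, Q (b i) = c) (hb : ∀ i i', i ≠ i' → polar Q (b i) (b i') = 0) (x : ι → K) :
    Q (coords b x) = c * ∑ i, x i * x i := by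
  have h : polar Q (coords b x) (coords b x) = ∑ a, x a * (x a * polar Q (b a) (b a)) := by
    conv_lhs => arg 2; rw [coords_apply]
    rw [← polarBilin_apply_apply, map_sum, LinearMap.sum_apply]
    refine Finset.sum_congr rfl fun a _ => ?_
    rw [map_smul, LinearMap.smul_apply]
    show _ • polar Q (b a) (coords b x) = _
    rw [polar_coords hb, smul_eq_mul]
  simp only [polar_self', hn] at h
  rw [Finset.mul_sum]
  rw [neg_eq_iff_eq_neg] at h
  rw [h, ← Finset.sum_neg_distrib]
  exact Finset.sum_congr rfl fun a _ => by ring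

variable (hQ : (polarBilin Q).Nondegenerate) (hc : c ≠ 0)
include hQ hc

/-- A skew isometry has a full frame. -/
theorem exists_frame {g : orth Q} (hg : Skew g) :
    ∃ (k : ℕ) (e : Fin k → Fin n → K), n = 2 * k ∧ Frame g c e := by
  have key : ∀ j, 2 * j ≤ n → ∃ e : Fin j → Fin n → K, Frame g c e := by
    intro j
    induction j with
    | zero => exact fun _ => ⟨Fin.elim0, ⟨fun i => i.elim0, fun i => i.elim0, fun i => i.elim0⟩⟩
    | succ j ih =>
      intro hj
      obtain ⟨e, he⟩ := ih (by omega)
      obtain ⟨v, hv, hvp⟩ := ReflectionThree.exists_norm Q hQ (all g e ∘ finSumFinEquiv.symm)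
        (by omega) (fun i => by rw [Function.comp_apply, he.all_norm]; exact hc)
        (fun i i' hii => he.all_orth _ _ fun e' => hii (finSumFinEquiv.symm.injective e')) hc
      have h1 : ∀ i, polar Q (e i) v = 0 := fun i => by
        have := hvp (finSumFinEquiv (Sum.inl i))
        rwa [Function.comp_apply, Equiv.symm_apply_apply] at this
      have h2 : ∀ i, polar Q (g.1 (e i)) v = 0 := fun i => by
        have := hvp (finSumFinEquiv (Sum.inr i))
        rwa [Function.comp_apply, Equiv.symm_apply_apply] at this
      refine ⟨Fin.snoc e v, ⟨fun i => ?_, fun i i' hii => ?_, fun i i' => ?_⟩⟩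
      · induction i using Fin.lastCases <;> simp [hv, he.norm]
      · induction i using Fin.lastCases <;> induction i' using Fin.lastCases
        · exact absurd rfl hii
        · simp only [Fin.snoc_last, Fin.snoc_castSucc]
          exact (polar_comm (⇑Q) _ _).trans (h1 _)
        · simp only [Fin.snoc_last, Fin.snoc_castSucc]; exact h1 _
        · simp only [Fin.snoc_castSucc]
          exact he.orth _ _ fun e' => hii (by rw [e'])
      · induction i using Fin.lastCases <;> induction i' using Fin.lastCases
        · simp only [Fin.snoc_last]; exact hg.self v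
        · simp only [Fin.snoc_last, Fin.snoc_castSucc]
          exact (polar_comm (⇑Q) _ _).trans (h2 _)
        · simp only [Fin.snoc_last, Fin.snoc_castSucc]
          rw [hg.skew, h2, neg_zero]
        · simp only [Fin.snoc_castSucc]; exact he.cross _ _
  obtain ⟨e, he⟩ := key (n / 2) (by omega)
  refine ⟨n / 2, e, ?_, he⟩
  by_contra hne
  obtain ⟨a, ha, hap⟩ := ReflectionThree.exists_orth Q hQ (all g e ∘ finSumFinEquiv.symm)
    (by omega) (fun i => by rw [Function.comp_apply, he.all_norm]; exact hc)
    (fun i i' hii => he.all_orth _ _ fun e' => hii (finSumFinEquiv.symm.injective e'))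
  have hp : ∀ b, polar Q (all g e b) a = 0 := fun b => by
    have := hap (finSumFinEquiv b)
    rwa [Function.comp_apply, Equiv.symm_apply_apply] at this
  have hpg : ∀ b, polar Q (all g e b) (g.1 a) = 0 := by
    rintro (i | i)
    · rw [hg.skew]; exact neg_eq_zero.mpr (hp (Sum.inr i))
    · exact (polar_orth g _ _).trans (hp (Sum.inl i))
  let b : (Fin (n / 2) ⊕ Fin (n / 2)) ⊕ Fin 2 → Fin n → K := Sum.elim (all g e) ![a, g.1 a]
  have hbn : ∀ i, Q (b i) ≠ 0 := by
    rintro (i | i)
    · show Q (all g e i) ≠ 0
      rw [he.all_norm]; exact hc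
    · fin_cases i
      · exact ha
      · show Q (g.1 a) ≠ 0
        rwa [map_orth]
  have hbo : ∀ i i', i ≠ i' → polar Q (b i) (b i') = 0 := by
    rintro (i | i) (i' | i') hii
    · exact he.all_orth _ _ fun e' => hii (congrArg _ e')
    · fin_cases i'
      · exact hp i
      · exact hpg i
    · fin_cases i
      · exact (polar_comm (⇑Q) _ _).trans (hp i')
      · exact (polar_comm (⇑Q) _ _).trans (hpg i')
    · fin_cases i <;> fin_cases i'
      · exact absurd rfl hii
      · exact hg.self a
      · exact (polar_comm (⇑Q) _ _).trans (hg.self a)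
      · exact absurd rfl hii
  have hinj : Function.Injective (coords b) := by
    rw [← LinearMap.ker_eq_bot, LinearMap.ker_eq_bot']
    intro x hx
    funext i
    have h := polar_coords hbo x i
    rw [hx, polar_zero_right, polar_self'] at h
    exact (mul_eq_zero.mp h.symm).resolve_right (neg_ne_zero.mpr (hbn i))
  have := LinearMap.finrank_le_finrank_of_injective hinj
  rw [Module.finrank_fintype_fun_eq_card, Module.finrank_fin_fun] at this
  simp only [Fintype.card_sum, Fintype.card_fin] at this
  omega

omit hQ in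
/-- The coordinate map of a full frame. -/
noncomputable def Frame.equiv {g : OrthUnitaryQuad.orth Q} {k : ℕ} {e : Fin k → Fin n → K}
    (he : Frame g c e) (hc : c ≠ 0) (hk : n = 2 * k) :
    (Fin k ⊕ Fin k → K) ≃ₗ[K] (Fin n → K) :=
  LinearEquiv.ofBijective (coords (all g e))
    ⟨coords_inj hc he.all_norm he.all_orth,
      (LinearMap.injective_iff_surjective_of_finrank_eq_finrank (by
        rw [Module.finrank_fintype_fun_eq_card, Module.finrank_fin_fun, Fintype.card_sum,
          Fintype.card_fin]; omega)).mp (coords_inj hc he.all_norm he.all_orth)⟩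

omit hQ in
theorem Frame.q_equiv {g : OrthUnitaryQuad.orth Q} {k : ℕ} {e : Fin k → Fin n → K}
    (he : Frame g c e) (hk : n = 2 * k) (x : Fin k ⊕ Fin k → K) :
    Q (he.equiv hc hk x) = c * ∑ i, x i * x i :=
  q_coords he.all_norm he.all_orth x

omit hQ in
/-- The matrix of `g` in the coordinates. -/
theorem Frame.g_equiv {g : OrthUnitaryQuad.orth Q} (hg : Skew g) {k : ℕ}
    {e : Fin k → Fin n → K} (he : Frame g c e) (hk : n = 2 * k) (x : Fin k ⊕ Fin k → K) :
    g.1 (he.equiv hc hk x) =
      he.equiv hc hk (Sum.elim (fun i => -x (Sum.inr i)) fun i => x (Sum.inl i)) := by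
  show g.1 (coords (all g e) x) = coords (all g e) _
  simp only [coords_apply, Fintype.sum_sum_type, all, Sum.elim_inl, Sum.elim_inr]
  rw [map_add, map_sum, map_sum]
  simp only [map_smul, hg.sq, smul_neg, neg_smul]
  exact add_comm _ _

omit hQ in
/-- An isometry mapping one frame to another conjugates. -/
theorem exists_map {g g' : OrthUnitaryQuad.orth Q} (hg : Skew g) (hg' : Skew g') {k : ℕ}
    {e e' : Fin k → Fin n → K} (he : Frame g c e) (he' : Frame g' c e') (hk : n = 2 * k) :
    ∃ h : OrthUnitaryQuad.orth Q, h * g * h⁻¹ = g' := by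
  set L := (he.equiv hc hk).symm.trans (he'.equiv hc hk) with hL
  have hLm : L ∈ OrthUnitaryQuad.orth Q := fun x => by
    obtain ⟨x, rfl⟩ := (he.equiv hc hk).surjective x
    rw [hL, LinearEquiv.trans_apply, LinearEquiv.symm_apply_apply, Frame.q_equiv hc he',
      Frame.q_equiv hc he]
  refine ⟨⟨L, hLm⟩, ?_⟩
  rw [mul_inv_eq_iff_eq_mul]
  refine orth_ext fun x => ?_
  obtain ⟨x, rfl⟩ := (he.equiv hc hk).surjective x
  rw [orth_mul_apply, orth_mul_apply, Frame.g_equiv hc hg he]
  show L _ = g'.1 (L _)
  rw [hL, LinearEquiv.trans_apply, LinearEquiv.trans_apply, LinearEquiv.symm_apply_apply,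
    LinearEquiv.symm_apply_apply, Frame.g_equiv hc hg' he']

/-! ### Rotations -/

variable (hn : 5 ≤ n)

omit hc in
include hn in
/-- Reflections of the other norm lie outside the reflection group. -/
theorem refl_neg_notMem (hc : c ≠ 0) {w : Fin n → K} (hw : Q w ≠ 0) (h : Q w = -c) :
    refl Q w hw ∉ tGroup Q c := by
  intro hmem
  have htop : tGroup Q c = ⊤ := by
    rw [eq_top_iff, ← OrthUnitaryCentre.reflGroup_top_of_two_ne_zero two_ne
      (OrthUnitaryOmega.isReg_of_nondegenerate hQ)]
    refine (Subgroup.closure_le _).mpr ?_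
    rintro _ ⟨v, hv, rfl⟩
    rcases (show ∀ a b : K, a ≠ 0 → b ≠ 0 → a = b ∨ a = -b by decide) (Q v) c hv hc with e | e
    · exact refl_mem_tGroup hv e
    · obtain ⟨f, rfl⟩ := OrthUnitaryOmega.exists_orth_map hQ hw (h.trans e.symm)
      rw [← conj_refl f w hw]
      exact (inferInstance : (tGroup Q c).Normal).conj_mem _ hmem f
  have := index_tGroup hQ hn hc
  rw [htop, Subgroup.index_top] at this
  exact absurd this (by decide)

omit hQ in
theorem norm_add_map {g : orth Q} (hg : Skew g) {e : Fin n → K} (he : Q e = c) :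
    Q (e + g.1 e) = -c := by
  rw [QuadraticMap.map_add (⇑Q), map_orth, hg.self, he]
  linear_combination c * three_zero

/-- The rotation of the plane of `e` and `g e`. -/
noncomputable def rot {g : orth Q} (hg : Skew g) (hc : c ≠ 0) (e : Fin n → K) (he : Q e = c) :
    orth Q :=
  refl Q (g.1 e) (by rw [map_orth, he]; exact hc) *
    refl Q (e + g.1 e) (by rw [norm_add_map hc hg he]; exact neg_ne_zero.mpr hc)

omit hQ in
theorem rot_apply {g : orth Q} (hg : Skew g) {e : Fin n → K} (he : Q e = c) (x : Fin n → K) :
    (rot hg hc e he).1 x = x + (c * polar Q e x + c * polar Q (g.1 e) x) • e +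
      (c * polar Q (g.1 e) x - c * polar Q e x) • g.1 e := by
  rw [rot, orth_mul_apply, refl_apply, refl_apply, norm_add_map hc hg he, map_orth, he,
    ReflectionThree.inv_eq_self', ReflectionThree.inv_eq_self']
  simp only [polar_sub_right, QuadraticMap.polar_smul_right, smul_eq_mul, polar_add_left,
    polar_add_right, polar_self', polar_comm (⇑Q) (g.1 e) e, hg.self, map_orth, he, zero_add]
  have hcc : c * c = 1 := (show ∀ a : K, a ≠ 0 → a * a = 1 by decide) c hc
  generalize polar Q e x = α
  generalize polar Q (g.1 e) x = β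
  funext i
  simp only [Pi.sub_apply, Pi.smul_apply, Pi.add_apply, smul_eq_mul]
  generalize x i = a
  generalize e i = b
  generalize g.1 e i = d
  linear_combination ((α + β) * c * d) * hcc + (c * α * d) * three_zero

omit hQ in
theorem rot_comm {g : orth Q} (hg : Skew g) {e : Fin n → K} (he : Q e = c) :
    g * rot hg hc e he = rot hg hc e he * g := by
  refine orth_ext fun x => ?_
  have h1 : polar Q e (g.1 x) = -polar Q (g.1 e) x := hg.skew e x
  rw [orth_mul_apply, orth_mul_apply, rot_apply hc, rot_apply hc, h1, polar_orth]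
  simp only [map_add, map_smul, hg.sq]
  funext i
  simp only [Pi.add_apply, Pi.smul_apply, Pi.neg_apply, smul_eq_mul]
  ring

include hn in
theorem rot_notMem {g : orth Q} (hg : Skew g) {e : Fin n → K} (he : Q e = c) :
    rot hg hc e he ∉ tGroup Q c := fun h => by
  have h1 : refl Q (g.1 e) (by rw [map_orth, he]; exact hc) ∈ tGroup Q c :=
    refl_mem_tGroup _ (by rw [map_orth, he])
  rw [rot, Subgroup.mul_mem_cancel_left _ h1] at h
  exact refl_neg_notMem hQ hn hc _ (norm_add_map hc hg he) h

include hn in
/-- A skew isometry in the reflection group has an even number of planes. -/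
theorem even_planes {g : orth Q} (hg : Skew g) {k : ℕ} {e : Fin k → Fin n → K}
    (he : Frame g c e) (hk : n = 2 * k) (hmem : g ∈ tGroup Q c) : Even k := by
  classical
  have hidx := index_tGroup hQ hn hc
  have key : ∀ j, j ≤ k → ∃ h : OrthUnitaryQuad.orth Q, (h ∈ tGroup Q c ↔ Even j) ∧
      ∀ i : Fin k, (i.1 < j → h.1 (e i) = g.1 (e i) ∧ h.1 (g.1 (e i)) = -e i) ∧
        (j ≤ i.1 → h.1 (e i) = e i ∧ h.1 (g.1 (e i)) = g.1 (e i)) := by
    intro j
    induction j with
    | zero => exact fun _ => ⟨1, by simp, fun i => ⟨fun h => absurd h (by omega),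
        fun _ => ⟨rfl, rfl⟩⟩⟩
    | succ j ih =>
      intro hj
      obtain ⟨h, hpar, hh⟩ := ih (by omega)
      set a : Fin k := ⟨j, by omega⟩
      refine ⟨rot hg hc (e a) (he.norm a) * h, ?_, fun i => ?_⟩
      · rw [Subgroup.mul_mem_iff_of_index_two hidx, hpar, Nat.even_add_one]
        simp [rot_notMem hQ hc hn hg (he.norm a)]
      have hcc : c * c = 1 := (show ∀ a : K, a ≠ 0 → a * a = 1 by decide) c hc
      have hfix : ∀ b, b ≠ a → (rot hg hc (e a) (he.norm a)).1 (e b) = e b ∧
          (rot hg hc (e a) (he.norm a)).1 (g.1 (e b)) = g.1 (e b) := by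
        intro b hb
        constructor
        · rw [rot_apply hc, he.orth a b hb.symm, polar_comm (⇑Q) (g.1 (e a)), he.cross b a]
          simp
        · rw [rot_apply hc, he.cross a b, polar_orth, he.orth a b hb.symm]
          simp
      rcases lt_trichotomy i.1 j with hlt | heq | hgt
      · have hia : i ≠ a := fun e' => by simp [e', a] at hlt
        refine ⟨fun _ => ?_, fun h' => absurd h' (by omega)⟩
        obtain ⟨e1, e2⟩ := (hh i).1 hlt
        rw [orth_mul_apply, orth_mul_apply, e1, e2, map_neg, (hfix i hia).1, (hfix i hia).2]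
        exact ⟨rfl, rfl⟩
      · have hia : i = a := Fin.ext heq
        subst hia
        refine ⟨fun _ => ?_, fun h' => absurd h' (by omega)⟩
        obtain ⟨e1, e2⟩ := (hh a).2 (le_of_eq heq.symm)
        rw [orth_mul_apply, orth_mul_apply, e1, e2]
        have hself := he.cross a a
        constructor
        · rw [rot_apply hc, polar_self', polar_comm (⇑Q) (g.1 (e a)), hself, he.norm a]
          funext t
          simp only [Pi.add_apply, Pi.smul_apply, smul_eq_mul]
          linear_combination (g.1 (e a) t - e a t) * hcc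
        · rw [rot_apply hc, hself, polar_self', map_orth, he.norm a]
          funext t
          simp only [Pi.add_apply, Pi.smul_apply, Pi.neg_apply, smul_eq_mul]
          linear_combination (-(e a t) - g.1 (e a) t) * hcc + (e a t) * three_zero -
            (e a t) * three_zero
      · have hia : i ≠ a := fun e' => by simp [e', a] at hgt
        refine ⟨fun h' => absurd h' (by omega), fun _ => ?_⟩
        obtain ⟨e1, e2⟩ := (hh i).2 hgt.le
        rw [orth_mul_apply, orth_mul_apply, e1, e2, (hfix i hia).1, (hfix i hia).2]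
        exact ⟨rfl, rfl⟩
  obtain ⟨h, hpar, hh⟩ := key k le_rfl
  have hhg : h = g := by
    refine orth_ext fun x => ?_
    obtain ⟨x, rfl⟩ := (he.equiv hc hk).surjective x
    show h.1 (coords (all g e) x) = g.1 (coords (all g e) x)
    simp only [coords_apply, map_sum, map_smul]
    refine Finset.sum_congr rfl fun b _ => congrArg _ ?_
    rcases b with i | i
    · exact ((hh i).1 i.2).1
    · show h.1 (g.1 (e i)) = g.1 (g.1 (e i))
      rw [hg.sq, ((hh i).1 i.2).2]
  exact hpar.mp (hhg ▸ hmem)

end Cfsg.Agent.Triality95ThreeFrame44
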