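import Cfsg.Agent.Lib.ReflectionThreeGroup

/-!
# Isometries over the field with three elements moving each norm vector to an orthogonal one

If an isometry `g` in dimension at least four carries every vector of norm `c` to an orthogonal
vector then it is skew, squares to minus one and has an orthonormal frame of orbits.
-/

set_option autoImplicit false
set_option linter.unusedSectionVars false

namespace Cfsg.Agent.Triality95ThreeGeom44

open QuadraticMap Cfsg.Agent
open OrthUnitaryQuad OrthUnitaryRefl

/-- The field. -/
abbrev K : Type := ZMod 3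

variable {n : ℕ} {Q : QuadraticForm K (Fin n → K)} {c : K}

theorem three_zero : (3 : K) = 0 := by decide

theorem polar_add_r (x y z : Fin n → K) : polar Q x (y + z) = polar Q x y + polar Q x z :=
  QuadraticMap.polar_add_right Q x y z

theorem polar_self' (x : Fin n → K) : polar Q x x = -Q x := by
  rw [polar_self_mul]
  linear_combination Q x * three_zero

theorem ne_zero_of_norm (hc : c ≠ 0) {v : Fin n → K} (hv : Q v = c) : v ≠ 0 := fun e =>
  hc (by rw [← hv, e, QuadraticMap.map_zero])

variable (g : orth Q)

/-- The quadratic function `x ↦ B(x, g x)`. -/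
noncomputable def qf (x : Fin n → K) : K := polar Q x (g.1 x)

theorem qf_add (x y : Fin n → K) :
    qf g (x + y) = qf g x + qf g y + (polar Q x (g.1 y) + polar Q y (g.1 x)) := by
  simp only [qf, map_add, polar_add_left, polar_add_right]
  ring

theorem qf_sub (x y : Fin n → K) :
    qf g (x - y) = qf g x + qf g y - (polar Q x (g.1 y) + polar Q y (g.1 x)) := by
  simp only [qf, map_sub, polar_sub_left, polar_sub_right]
  ring

variable (hQ : (polarBilin Q).Nondegenerate) (hn : 4 ≤ n) (hc : c ≠ 0)
  (hq : ∀ v, Q v = c → qf g v = 0)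
include hQ hn hc hq

theorem qf_singular {s : Fin n → K} (hs : Q s = 0) : qf g s = 0 := by
  by_cases hs0 : s = 0
  · simp [hs0, qf]
  obtain ⟨z, hz⟩ := exists_polar_ne_zero (OrthUnitaryOmega.isReg_of_nondegenerate hQ) hs hs0
  obtain ⟨z, hz, hqz⟩ : ∃ z, polar Q s z ≠ 0 ∧ Q z ≠ 0 := by
    by_cases h : Q z = 0
    · refine ⟨s + z, ?_, ?_⟩
      · rwa [polar_add_r, polar_self', hs, neg_zero, zero_add]
      · rwa [QuadraticMap.map_add (⇑Q), hs, h, zero_add, zero_add]
    · exact ⟨z, hz, h⟩
  -- the plane of `s` and `z` has an orthogonal anisotropic basis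
  set a := s + (polar Q z s * Q z) • z with ha
  have hzs : polar Q z s ≠ 0 := by rwa [polar_comm]
  have hza : polar Q z a = 0 := by
    rw [ha, polar_add_r, QuadraticMap.polar_smul_right, smul_eq_mul, polar_self']
    generalize polar Q z s = p
    generalize Q z = t at hqz
    revert p t
    decide
  have hqa : Q a ≠ 0 := by
    rw [ha, QuadraticMap.map_add (⇑Q), hs, QuadraticMap.map_smul, QuadraticMap.polar_smul_right,
      polar_comm (⇑Q) s z]
    generalize polar Q z s = p at hzs
    generalize Q z = t at hqz
    simp only [smul_eq_mul]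
    revert p t
    decide
  obtain ⟨v, hv, hvp⟩ := ReflectionThree.exists_norm Q hQ ![z, a] (by omega)
    (fun i => by fin_cases i <;> assumption)
    (fun i j hij => by
      fin_cases i <;> fin_cases j
      · exact absurd rfl hij
      · exact hza
      · exact (polar_comm (⇑Q) a z).trans hza
      · exact absurd rfl hij) hc
  have h1 : polar Q z v = 0 := by simpa using hvp 0
  have h2 : polar Q a v = 0 := by simpa using hvp 1
  have hsv : polar Q v s = 0 := by
    rw [ha, polar_add_left, QuadraticMap.polar_smul_left, h1, smul_zero, add_zero] at h2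
    rwa [polar_comm]
  have e1 := hq (v + s) (by rw [QuadraticMap.map_add (⇑Q), hv, hs, hsv, add_zero, add_zero])
  have e2 := hq (v - s) (by
    rw [sub_eq_add_neg, QuadraticMap.map_add (⇑Q), hv, QuadraticMap.map_neg, hs,
      polar_neg_right, hsv, neg_zero, add_zero, add_zero])
  rw [qf_add, hq v hv] at e1
  rw [qf_sub, hq v hv] at e2
  linear_combination (-1 : K) * e1 + (-1 : K) * e2 + qf g s * three_zero

theorem qf_cross {u w : Fin n → K} (hu : Q u = c) (hw : Q w = c) (huw : polar Q u w = 0) :
    polar Q u (g.1 w) + polar Q w (g.1 u) = 0 := by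
  obtain ⟨z, hz, hzp⟩ := ReflectionThree.exists_norm Q hQ ![u, w] (by omega)
    (fun i => by fin_cases i <;> simp_all)
    (fun i j hij => by fin_cases i <;> fin_cases j <;> simp_all [polar_comm (⇑Q) w u]) hc
  have h1 : polar Q u z = 0 := by simpa using hzp 0
  have h2 : polar Q w z = 0 := by simpa using hzp 1
  have hp : polar Q (u + w) z = 0 := by rw [polar_add_left, h1, h2, add_zero]
  have s1 : Q (u + w + z) = 0 := by
    rw [QuadraticMap.map_add (⇑Q), QuadraticMap.map_add (⇑Q), hu, hw, hz, huw, hp]
    linear_combination c * three_zero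
  have s2 : Q (u + w - z) = 0 := by
    rw [sub_eq_add_neg, QuadraticMap.map_add (⇑Q), QuadraticMap.map_add (⇑Q), QuadraticMap.map_neg,
      polar_neg_right, hu, hw, hz, huw, hp]
    linear_combination c * three_zero
  have e1 := qf_singular g hQ hn hc hq s1
  have e2 := qf_singular g hQ hn hc hq s2
  rw [qf_add, qf_add, hq u hu, hq w hw, hq z hz] at e1
  rw [qf_sub, qf_add, hq u hu, hq w hw, hq z hz] at e2
  linear_combination (-1 : K) * e1 + (-1 : K) * e2 +
    (polar Q u (g.1 w) + polar Q w (g.1 u)) * three_zero

theorem qf_zero (x : Fin n → K) : qf g x = 0 := by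
  by_cases h0 : Q x = 0
  · exact qf_singular g hQ hn hc hq h0
  by_cases h1 : Q x = c
  · exact hq x h1
  have hx : Q x = -c := (show ∀ a b : K, b ≠ 0 → a ≠ 0 → a ≠ b → a = -b by decide) _ _ hc h0 h1
  obtain ⟨p, hp, hpx⟩ := ReflectionThree.exists_norm Q hQ ![x] (by omega) (fun _ => by simpa)
    (fun i j hij => absurd (Subsingleton.elim i j) hij) (c := -c) (neg_ne_zero.mpr hc)
  have hxp : polar Q x p = 0 := by simpa using hpx 0
  have hu : Q (p - x) = c := by
    rw [sub_eq_add_neg, QuadraticMap.map_add (⇑Q), QuadraticMap.map_neg, polar_neg_right,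
      polar_comm (⇑Q) p x, hp, hx, hxp]
    linear_combination (-c) * three_zero
  have hw : Q (-x - p) = c := by
    rw [sub_eq_add_neg, QuadraticMap.map_add (⇑Q), QuadraticMap.map_neg, QuadraticMap.map_neg,
      polar_neg_right, polar_neg_left, hp, hx, hxp]
    linear_combination (-c) * three_zero
  have huw : polar Q (p - x) (-x - p) = 0 := by
    simp only [polar_sub_left, polar_sub_right, polar_neg_right, polar_self', polar_comm (⇑Q) p x,
      hp, hx, hxp]
    ring
  have hsum : x = (p - x) + (-x - p) := by
    funext i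
    simp only [Pi.add_apply, Pi.sub_apply, Pi.neg_apply]
    linear_combination x i * three_zero
  rw [hsum, qf_add, hq _ hu, hq _ hw, qf_cross g hQ hn hc hq hu hw huw]
  ring

/-- `g` is skew. -/
theorem skew (x y : Fin n → K) : polar Q x (g.1 y) = -polar Q (g.1 x) y := by
  have h := qf_zero g hQ hn hc hq (x + y)
  rw [qf_add, qf_zero g hQ hn hc hq x, qf_zero g hQ hn hc hq y] at h
  rw [polar_comm (⇑Q) (g.1 x) y]
  linear_combination h

/-- `g` squares to minus one. -/
theorem sq_neg (x : Fin n → K) : g.1 (g.1 x) = -x := by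
  have h : g.1 (g.1 x) + x = 0 := by
    refine hQ.1 _ fun y => ?_
    show polar Q (g.1 (g.1 x) + x) y = 0
    have e := skew g hQ hn hc hq (g.1 x) y
    rw [polar_orth] at e
    rw [polar_add_left]
    linear_combination e
  exact eq_neg_of_add_eq_zero_left h

end Cfsg.Agent.Triality95ThreeGeom44
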