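import Cfsg.Agent.Lib.Triality95ThreeFrame44

/-!
# An inverted isometry of order seven, and products of four reflections

With at least six planes, a skew isometry inverts an isometry of order seven.  A product of four
reflections of one norm in two orthogonal pairs has order dividing 180.
-/

set_option autoImplicit false
set_option linter.unusedSectionVars false
set_option maxRecDepth 10000

namespace Cfsg.Agent.Triality95ThreeSeven44

open QuadraticMap Cfsg.Agent
open OrthUnitaryQuad OrthUnitaryRefl ReflectionThreeGroup Triality95ThreeGeom44 Triality95ThreeFrame44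
open scoped Matrix

/-! ### The matrix -/

/-- An orthogonal matrix of order seven. -/
def S : Matrix (Fin 6) (Fin 6) K :=
  Matrix.of ![![0, 0, 1, 0, 0, 0], ![0, 1, 0, 1, 2, 1], ![0, 2, 0, 2, 2, 1], ![0, 1, 0, 2, 1, 1],
    ![2, 0, 0, 0, 0, 0], ![0, 1, 0, 2, 2, 2]]

/-- Its square. -/
def S2 : Matrix (Fin 6) (Fin 6) K :=
  Matrix.of ![![0, 2, 0, 2, 2, 1], ![1, 0, 0, 2, 2, 1], ![1, 2, 0, 2, 2, 0], ![2, 1, 0, 1, 0, 2],
    ![0, 0, 2, 0, 0, 0], ![1, 2, 0, 0, 2, 1]]

/-- Its fourth power. -/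
def S4 : Matrix (Fin 6) (Fin 6) K :=
  Matrix.of ![![1, 1, 1, 0, 0, 1], ![2, 0, 1, 1, 1, 0], ![0, 1, 1, 2, 0, 1], ![2, 0, 0, 1, 1, 1],
    ![2, 1, 0, 1, 1, 0], ![0, 1, 1, 0, 2, 1]]

theorem S_mul : S * S = S2 := by decide +kernel
theorem S2_mul : S2 * S2 = S4 := by decide +kernel
theorem S4_mul : S4 * S2 = Sᵀ := by decide +kernel
theorem St_mul : Sᵀ * S = 1 := by decide +kernel
theorem S_St : S * Sᵀ = 1 := by decide +kernel
theorem S_ne : S ≠ 1 := by decide +kernel

theorem S_pow : S ^ 7 = 1 := by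
  rw [show 7 = 1 + 1 + (1 + 1) + (1 + 1) + 1 from rfl, pow_add, pow_add, pow_add, pow_add, pow_one,
    S_mul, S2_mul, S4_mul, St_mul]

/-- The map of the six coordinates. -/
noncomputable def six : (Fin 6 → K) ≃ₗ[K] (Fin 6 → K) :=
  LinearEquiv.ofLinear (Matrix.toLin' S) (Matrix.toLin' Sᵀ)
    (by rw [← Matrix.toLin'_mul, S_St, Matrix.toLin'_one])
    (by rw [← Matrix.toLin'_mul, St_mul, Matrix.toLin'_one])

theorem six_apply (x : Fin 6 → K) : six x = S *ᵥ x := Matrix.toLin'_apply S x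

theorem six_sq (x : Fin 6 → K) : ∑ i, six x i * six x i = ∑ i, x i * x i := by
  show six x ⬝ᵥ six x = x ⬝ᵥ x
  rw [six_apply, Matrix.dotProduct_mulVec, ← Matrix.mulVec_transpose, Matrix.mulVec_mulVec, St_mul,
    Matrix.one_mulVec]

theorem six_pow_apply (m : ℕ) (x : Fin 6 → K) : (six ^ m) x = (S ^ m) *ᵥ x := by
  induction m generalizing x with
  | zero => simp
  | succ m ih =>
    rw [pow_succ, pow_succ, LinearEquiv.mul_apply, ih, six_apply, Matrix.mulVec_mulVec]

theorem six_pow : six ^ 7 = 1 :=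
  LinearEquiv.ext fun x => by rw [six_pow_apply, S_pow, Matrix.one_mulVec]; rfl

theorem six_ne : six ≠ 1 := fun h => S_ne (Matrix.ext_iff_mulVec.2 fun x => by
  rw [← six_apply, h, Matrix.one_mulVec]; rfl)

/-! ### Lifting to the space -/

variable {j : ℕ}

/-- Split off the first six coordinates. -/
noncomputable def split (j : ℕ) : (Fin (6 + j) → K) ≃ₗ[K] (Fin 6 → K) × (Fin j → K) where
  toFun x := (fun l => x (Fin.castAdd j l), fun l => x (Fin.natAdd 6 l))
  invFun p := fun i => Fin.addCases p.1 p.2 i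
  map_add' _ _ := rfl
  map_smul' _ _ := rfl
  left_inv x := funext fun i => by induction i using Fin.addCases <;> simp
  right_inv p := by simp

/-- Act on the first six planes. -/
noncomputable def wide (j : ℕ) :
    ((Fin 6 → K) ≃ₗ[K] (Fin 6 → K)) →* ((Fin (6 + j) → K) ≃ₗ[K] (Fin (6 + j) → K)) where
  toFun A := (split j).trans ((A.prodCongr (LinearEquiv.refl K (Fin j → K))).trans (split j).symm)
  map_one' := LinearEquiv.ext fun x => (split j).symm_apply_apply x
  map_mul' A B := LinearEquiv.ext fun x => by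
    simp only [LinearEquiv.trans_apply, LinearEquiv.mul_apply, LinearEquiv.prodCongr_apply,
      LinearEquiv.apply_symm_apply, LinearEquiv.refl_apply]

theorem wide_castAdd (A : (Fin 6 → K) ≃ₗ[K] (Fin 6 → K)) (x : Fin (6 + j) → K) (i : Fin 6) :
    wide j A x (Fin.castAdd j i) = A (fun l => x (Fin.castAdd j l)) i := by
  simp [wide, split]

theorem wide_natAdd (A : (Fin 6 → K) ≃ₗ[K] (Fin 6 → K)) (x : Fin (6 + j) → K) (i : Fin j) :
    wide j A x (Fin.natAdd 6 i) = x (Fin.natAdd 6 i) := by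
  simp [wide, split]

theorem wide_sq (x : Fin (6 + j) → K) :
    ∑ i, wide j six x i * wide j six x i = ∑ i, x i * x i := by
  rw [Fin.sum_univ_add, Fin.sum_univ_add]
  simp only [wide_castAdd, wide_natAdd]
  rw [six_sq]

/-- Act by a map on the left coordinates and by its inverse on the right ones. -/
def both {ι : Type*} (H : (ι → K) ≃ₗ[K] (ι → K)) : (ι ⊕ ι → K) ≃ₗ[K] (ι ⊕ ι → K) :=
  (LinearEquiv.sumArrowLequivProdArrow ι ι K K).trans
    ((H.prodCongr H.symm).trans (LinearEquiv.sumArrowLequivProdArrow ι ι K K).symm)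

theorem both_apply {ι : Type*} (H : (ι → K) ≃ₗ[K] (ι → K)) (x : ι ⊕ ι → K) :
    both H x = Sum.elim (H fun i => x (Sum.inl i)) (H.symm fun i => x (Sum.inr i)) := by
  funext s
  rcases s with i | i <;>
    simp [both, LinearEquiv.sumArrowLequivProdArrow, Equiv.sumArrowEquivProdArrow, Function.comp_def]

theorem both_symm {ι : Type*} (H : (ι → K) ≃ₗ[K] (ι → K)) (x : ι ⊕ ι → K) :
    (both H).symm x = Sum.elim (H.symm fun i => x (Sum.inl i)) (H fun i => x (Sum.inr i)) := by
  rw [LinearEquiv.symm_apply_eq, both_apply]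
  funext s
  rcases s with i | i <;> simp

theorem both_iter {ι : Type*} (H : (ι → K) ≃ₗ[K] (ι → K)) (m : ℕ) (x : ι ⊕ ι → K) :
    (both H ^ m) x =
      Sum.elim ((H ^ m) fun i => x (Sum.inl i)) ((H.symm ^ m) fun i => x (Sum.inr i)) := by
  induction m generalizing x with
  | zero => funext s; rcases s with i | i <;> simp
  | succ m ih =>
    rw [pow_succ, pow_succ, pow_succ, LinearEquiv.mul_apply, ih, both_apply]
    simp [LinearEquiv.mul_apply]

variable {n : ℕ} {Q : QuadraticForm K (Fin n → K)} {c : K}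

/-- With at least six planes a skew isometry inverts an element of order seven. -/
theorem exists_seven (hc : c ≠ 0) {g : orth Q} (hg : Skew g) {j : ℕ}
    {e : Fin (6 + j) → Fin n → K} (he : Frame g c e) (hk : n = 2 * (6 + j)) :
    ∃ h : OrthUnitaryQuad.orth Q, h ^ 7 = 1 ∧ h ≠ 1 ∧ g * h * g⁻¹ = h⁻¹ := by
  set H := wide j six with hH
  have hHs : ∀ x, ∑ i, H.symm x i * H.symm x i = ∑ i, x i * x i := fun x => by
    rw [← wide_sq (H.symm x), ← hH, LinearEquiv.apply_symm_apply]
  set φ := he.equiv hc hk with hφ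
  set L := φ.symm.trans ((both H).trans φ) with hL
  have hLx : ∀ x, L (φ x) = φ (both H x) := fun x => by
    rw [hL, LinearEquiv.trans_apply, LinearEquiv.trans_apply, LinearEquiv.symm_apply_apply]
  have hLm : L ∈ OrthUnitaryQuad.orth Q := fun x => by
    obtain ⟨x, rfl⟩ := φ.surjective x
    rw [hLx, hφ, Frame.q_equiv hc he, Frame.q_equiv hc he, both_apply, Fintype.sum_sum_type,
      Fintype.sum_sum_type]
    simp only [Sum.elim_inl, Sum.elim_inr]
    rw [hHs, hH, wide_sq]
  have hpow : ∀ m x, (((⟨L, hLm⟩ : OrthUnitaryQuad.orth Q) ^ m).1) (φ x) = φ ((both H ^ m) x) := by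
    intro m
    induction m with
    | zero => intro x; simp
    | succ m ih =>
      intro x
      rw [pow_succ, pow_succ, orth_mul_apply, LinearEquiv.mul_apply]
      show ((⟨L, hLm⟩ : OrthUnitaryQuad.orth Q) ^ m).1 (L (φ x)) = _
      rw [hLx, ih]
  have hH7 : H ^ 7 = 1 := by rw [hH, ← map_pow, six_pow, map_one]
  have hH7' : H.symm ^ 7 = 1 := by
    rw [show H.symm = H⁻¹ from rfl, inv_pow, hH7, inv_one]
  refine ⟨⟨L, hLm⟩, orth_ext fun x => ?_, fun h => ?_, ?_⟩
  · obtain ⟨x, rfl⟩ := φ.surjective x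
    rw [hpow, both_iter, hH7, hH7']
    show φ _ = φ x
    congr 1
    funext s
    rcases s with i | i <;> rfl
  · apply six_ne
    refine LinearEquiv.ext fun y => funext fun i => ?_
    set x : Fin (6 + j) ⊕ Fin (6 + j) → K :=
      Sum.elim (fun l => Fin.addCases y (fun _ => 0) l) 0
    have h1 := congrArg (fun f : OrthUnitaryQuad.orth Q => f.1 (φ x)) h
    have h2 : L (φ x) = φ x := h1
    rw [hLx] at h2
    have h3 := congrFun (φ.injective h2) (Sum.inl (Fin.castAdd j i))
    rw [both_apply, Sum.elim_inl, hH, wide_castAdd] at h3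
    simpa [x] using h3
  · rw [mul_inv_eq_iff_eq_mul, eq_inv_mul_iff_mul_eq]
    refine orth_ext fun x => ?_
    obtain ⟨x, rfl⟩ := φ.surjective x
    simp only [orth_mul_apply]
    show L (g.1 (L (φ x))) = g.1 (φ x)
    rw [hLx, hφ, Frame.g_equiv hc hg he, Frame.g_equiv hc hg he, ← hφ, hLx, both_apply, both_apply]
    congr 1
    funext s
    rcases s with i | i
    · simp only [Sum.elim_inl, Sum.elim_inr]
      rw [show (fun l => -(H.symm (fun i => x (Sum.inr i))) l) =
        -(H.symm fun i => x (Sum.inr i)) from rfl, map_neg, LinearEquiv.apply_symm_apply]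
      rfl
    · simp only [Sum.elim_inl, Sum.elim_inr]
      rw [LinearEquiv.symm_apply_apply]

/-! ### Products of four reflections -/

/-- A formal step. -/
def stepF (G : Fin 4 → Fin 4 → K) (i : Fin 4) : (Fin 4 → K) →ₗ[K] (Fin 4 → K) :=
  LinearMap.id -
    ((∑ l, G i l • LinearMap.proj l) : (Fin 4 → K) →ₗ[K] K).smulRight (Pi.single i (1 : K))

theorem stepF_apply (G : Fin 4 → Fin 4 → K) (i : Fin 4) (x : Fin 4 → K) :
    stepF G i x = x - (∑ l, G i l * x l) • Pi.single i (1 : K) := by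
  simp [stepF]

/-- The formal four steps on quadruples. -/
def quad (a b d e : K) (x : K × K × K × K) : K × K × K × K :=
  let x3 := x.2.2.2 - (b * x.1 + e * x.2.1 + 2 * x.2.2.2)
  let x2 := x.2.2.1 - (a * x.1 + d * x.2.1 + 2 * x.2.2.1)
  let x1 := x.2.1 - (2 * x.2.1 + d * x2 + e * x3)
  let x0 := x.1 - (2 * x.1 + a * x2 + b * x3)
  (x0, x1, x2, x3)

theorem quad_pow (a b d e : K) :
    (quad a b d e)^[60] (1, 0, 0, 0) = (1, 0, 0, 0) ∧ (quad a b d e)^[60] (0, 1, 0, 0) = (0, 1, 0, 0) ∧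
      (quad a b d e)^[60] (0, 0, 1, 0) = (0, 0, 1, 0) ∧
      (quad a b d e)^[60] (0, 0, 0, 1) = (0, 0, 0, 1) := by
  revert a b d e
  decide +kernel

/-- The Gram matrix of two orthogonal pairs. -/
def gram4 (a b d e : K) : Fin 4 → Fin 4 → K :=
  ![![2, 0, a, b], ![0, 2, d, e], ![a, d, 2, 0], ![b, e, 0, 2]]

/-- The formal product. -/
def formal (a b d e : K) : (Fin 4 → K) →ₗ[K] (Fin 4 → K) :=
  stepF (gram4 a b d e) 0 ∘ₗ stepF (gram4 a b d e) 1 ∘ₗ stepF (gram4 a b d e) 2 ∘ₗ
    stepF (gram4 a b d e) 3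

/-- Quadruples as functions. -/
def vec (x : K × K × K × K) : Fin 4 → K := ![x.1, x.2.1, x.2.2.1, x.2.2.2]

theorem formal_vec (a b d e : K) (x : K × K × K × K) :
    formal a b d e (vec x) = vec (quad a b d e x) := by
  funext i
  fin_cases i <;>
    simp [formal, stepF_apply, vec, quad, gram4, Fin.sum_univ_four, Pi.single_apply, Matrix.vecHead,
      Matrix.vecTail]

theorem formal_pow (a b d e : K) : formal a b d e ^ 60 = 1 := by
  have hit : ∀ m x, (formal a b d e ^ m) (vec x) = vec ((quad a b d e)^[m] x) := by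
    intro m
    induction m with
    | zero => intro x; rfl
    | succ m ih =>
      intro x
      rw [pow_succ, Module.End.mul_apply, formal_vec, ih, Function.iterate_succ_apply]
  obtain ⟨h0, h1, h2, h3⟩ := quad_pow a b d e
  refine LinearMap.pi_ext' fun i => LinearMap.ext_ring ?_
  simp only [LinearMap.comp_apply, LinearMap.coe_single, Module.End.one_apply]
  have key : ∀ i : Fin 4, ∃ x, (Pi.single i (1 : K) : Fin 4 → K) = vec x ∧
      (quad a b d e)^[60] x = x := fun i =>
    match i with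
    | 0 => ⟨_, by decide, h0⟩
    | 1 => ⟨_, by decide, h1⟩
    | 2 => ⟨_, by decide, h2⟩
    | 3 => ⟨_, by decide, h3⟩
  obtain ⟨x, hx, hq⟩ := key i
  rw [hx, hit, hq]

/-- Four reflections in two orthogonal pairs. -/
theorem four_pow (hc : c ≠ 0) {u v u' v' : Fin n → K} (hu : Q u = c) (hv : Q v = c)
    (hu' : Q u' = c) (hv' : Q v' = c) (huv : polar Q u v = 0) (huv' : polar Q u' v' = 0)
    (P : OrthUnitaryQuad.orth Q)
    (hP : P = refl Q u (hu ▸ hc) * refl Q v (hv ▸ hc) * (refl Q u' (hu' ▸ hc) * refl Q v' (hv' ▸ hc))) :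
    P ^ 180 = 1 := by
  set b : Fin 4 → Fin n → K := ![u, v, u', v'] with hb
  set G := gram4 (c * polar Q u u') (c * polar Q u v') (c * polar Q v u') (c * polar Q v v')
  have hcc : c * c = 1 := (show ∀ a : K, a ≠ 0 → a * a = 1 by decide) c hc
  have hG : ∀ i l, G i l = c * polar Q (b i) (b l) := by
    intro i l
    fin_cases i <;> fin_cases l <;>
      simp [G, gram4, hb, polar_self_mul, hu, hv, hu', hv', huv, huv', polar_comm (⇑Q) v u,
        polar_comm (⇑Q) v' u', polar_comm (⇑Q) u' u, polar_comm (⇑Q) u' v, polar_comm (⇑Q) v' u,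
        polar_comm (⇑Q) v' v] <;> linear_combination (-2 : K) * hcc
  have hstep : ∀ (i : Fin 4) (h0 : Q (b i) ≠ 0), Q (b i) = c → ∀ x : Fin n → K,
      (∀ y, (refl Q (b i) h0).1 (coords b y) = coords b (stepF G i y)) ∧
        ∃ y, (refl Q (b i) h0).1 x = x + coords b y := by
    intro i h0 hi x
    refine ⟨fun y => ?_, ⟨-((c * polar Q (b i) x) • Pi.single i (1 : K)), ?_⟩⟩
    · rw [stepF_apply, map_sub, map_smul, refl_apply, hi, ReflectionThree.inv_eq_self']
      congr 1
      rw [coords_apply (b := b) (x := Pi.single i 1)]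
      simp only [Pi.single_apply, ite_smul, one_smul, zero_smul, Finset.sum_ite_eq',
        Finset.mem_univ, if_true]
      congr 1
      rw [coords_apply, ← polarBilin_apply_apply, map_sum, Finset.mul_sum]
      refine Finset.sum_congr rfl fun l _ => ?_
      rw [map_smul, hG, smul_eq_mul, polarBilin_apply_apply]
      ring
    · rw [map_neg, map_smul, refl_apply, hi, ReflectionThree.inv_eq_self', ← sub_eq_add_neg,
        coords_apply]
      simp [Pi.single_apply, ite_smul, Finset.sum_ite_eq']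
  set F := formal (c * polar Q u u') (c * polar Q u v') (c * polar Q v u') (c * polar Q v v') with hF
  have hPF : ∀ y, P.1 (coords b y) = coords b (F y) := by
    intro y
    rw [hP]
    simp only [orth_mul_apply]
    erw [(hstep 3 (show Q v' ≠ 0 from hv' ▸ hc) hv' 0).1 y,
      (hstep 2 (show Q u' ≠ 0 from hu' ▸ hc) hu' 0).1, (hstep 1 (show Q v ≠ 0 from hv ▸ hc) hv 0).1,
      (hstep 0 (show Q u ≠ 0 from hu ▸ hc) hu 0).1]
    rfl
  have hPx : ∀ x, ∃ y, P.1 x = x + coords b y := by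
    intro x
    rw [hP]
    simp only [orth_mul_apply]
    obtain ⟨y3, e3⟩ := (hstep 3 (hv' ▸ hc) hv' x).2
    obtain ⟨y2, e2⟩ := (hstep 2 (hu' ▸ hc) hu' ((refl Q v' (hv' ▸ hc)).1 x)).2
    obtain ⟨y1, e1⟩ := (hstep 1 (hv ▸ hc) hv ((refl Q u' (hu' ▸ hc)).1 ((refl Q v' (hv' ▸ hc)).1 x))).2
    obtain ⟨y0, e0⟩ := (hstep 0 (hu ▸ hc) hu
      ((refl Q v (hv ▸ hc)).1 ((refl Q u' (hu' ▸ hc)).1 ((refl Q v' (hv' ▸ hc)).1 x)))).2
    exact ⟨y3 + y2 + y1 + y0, e0.trans (by
      rw [show (refl Q v (hv ▸ hc)).1 _ = _ from e1, show (refl Q u' (hu' ▸ hc)).1 _ = _ from e2,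
        show (refl Q v' (hv' ▸ hc)).1 x = _ from e3]
      simp only [map_add, add_assoc])⟩
  have hiter : ∀ m : ℕ, (∀ y, (P ^ m).1 (coords b y) = coords b ((F ^ m) y)) ∧
      ∀ x, ∃ y, (P ^ m).1 x = x + coords b y := by
    intro m
    induction m with
    | zero => exact ⟨fun y => rfl, fun x => ⟨0, by simp⟩⟩
    | succ m ih =>
      refine ⟨fun y => ?_, fun x => ?_⟩
      · rw [pow_succ, pow_succ, orth_mul_apply, hPF, ih.1, Module.End.mul_apply]
      · obtain ⟨y, hy⟩ := hPx x
        obtain ⟨z, hz⟩ := ih.2 x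
        exact ⟨z + (F ^ m) y, by rw [pow_succ, orth_mul_apply, hy, map_add, hz, ih.1, map_add, add_assoc]⟩
  have hfix : ∀ y, (P ^ 60).1 (coords b y) = coords b y := fun y => by
    rw [(hiter 60).1, hF, formal_pow]; rfl
  refine orth_ext fun x => ?_
  obtain ⟨y, hy⟩ := (hiter 60).2 x
  have h2 : (P ^ 60).1 ((P ^ 60).1 ((P ^ 60).1 x)) = x := by
    rw [hy, map_add, hfix, hy, map_add, map_add, hfix, hy]
    funext i
    simp only [Pi.add_apply]
    linear_combination coords b y i * three_zero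
  rw [show P ^ 180 = P ^ 60 * (P ^ 60 * P ^ 60) by rw [← pow_add, ← pow_add], orth_mul_apply,
    orth_mul_apply]
  exact h2

end Cfsg.Agent.Triality95ThreeSeven44
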