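import Cfsg.Agent.Lib.Triality95Defs
import Cfsg.Agent.Lib.Triality95ThreeSeven44

/-!
# The projective reflection group over three elements and fixed point free elements

The projective form of the group generated by the reflections of one norm, its class of points, and
what an element moving every point to a commuting one looks like.
-/

set_option autoImplicit false
set_option linter.unusedSectionVars false

namespace Cfsg.Agent.Triality95ThreePR44

open QuadraticMap Cfsg.Agent
open OrthUnitaryQuad OrthUnitaryRefl ReflectionThreeGroup Triality95ThreeGeom44 Triality95ThreeFrame44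

variable {n : ℕ} (Q : QuadraticForm K (Fin n → K)) (c : K) (hc : c ≠ 0)

/-- The projective reflection group. -/
abbrev PG : Type := ↥(tGroup Q c) ⧸ Subgroup.center ↥(tGroup Q c)

/-- The point of a vector. -/
noncomputable def pt (v : Fin n → K) (hv : Q v = c) : PG Q c :=
  QuotientGroup.mk ⟨refl Q v (hv ▸ hc), refl_mem_tGroup _ hv⟩

/-- All points. -/
def cls : Set (PG Q c) := {p | ∃ v, ∃ hv : Q v = c, p = pt Q c hc v hv}

variable {Q c}
include hc

theorem pt_of_sign {v w : Fin n → K} (hv : Q v = c) (hw : Q w = c) (h : w = v ∨ w = -v) :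
    pt Q c hc v hv = pt Q c hc w hw := by
  rcases h with rfl | rfl
  · rfl
  · refine congrArg QuotientGroup.mk (Subtype.ext (orth_ext fun x => ?_))
    show (refl Q v (hv ▸ hc)).1 x = (refl Q (-v) (hw ▸ hc)).1 x
    simp [refl_apply]

theorem pt_conj (t : ↥(tGroup Q c)) {v : Fin n → K} (hv : Q v = c) :
    (QuotientGroup.mk t : PG Q c) * pt Q c hc v hv * (QuotientGroup.mk t : PG Q c)⁻¹ =
      pt Q c hc ((t : orth Q).1 v) (by rw [map_orth]; exact hv) := by
  rw [pt, pt, ← QuotientGroup.mk_inv, ← QuotientGroup.mk_mul, ← QuotientGroup.mk_mul]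
  exact congrArg QuotientGroup.mk (Subtype.ext (conj_refl (t : orth Q) v (hv ▸ hc)))

theorem refl_conj_refl {u v : Fin n → K} (hu : Q u = c) (hv : Q v = c) :
    refl Q u (hu ▸ hc) * refl Q v (hv ▸ hc) * refl Q u (hu ▸ hc) =
      refl Q (v - (c * polar Q u v) • u) (by
        have h := map_orth (refl Q u (hu ▸ hc)) v
        rw [refl_apply, hu, ReflectionThree.inv_eq_self'] at h
        rw [h, hv]; exact hc) := by
  calc _ = refl Q u (hu ▸ hc) * refl Q v (hv ▸ hc) * (refl Q u (hu ▸ hc))⁻¹ := by
        rw [inv_eq_of_mul_eq_one_right (refl_sq u (hu ▸ hc))]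
    _ = _ := conj_refl _ _ _
    _ = _ := ?_
  congr 1
  rw [refl_apply, hu, ReflectionThree.inv_eq_self']

/-- Commuting points are orthogonal or equal. -/
theorem orth_of_commute {u v : Fin n → K} (hu : Q u = c) (hv : Q v = c)
    (h : Commute (pt Q c hc u hu) (pt Q c hc v hv)) :
    polar Q u v = 0 ∨ v = u ∨ v = -u := by
  by_contra hno
  push Not at hno
  obtain ⟨hB, hne1, hne2⟩ := hno
  have hs : c * polar Q u v = 1 ∨ c * polar Q u v = -1 :=
    (show ∀ a : K, a ≠ 0 → a = 1 ∨ a = -1 by decide) _ (mul_ne_zero hc hB)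
  set a : ↥(tGroup Q c) := ⟨refl Q u (hu ▸ hc), refl_mem_tGroup _ hu⟩ with ha
  set b : ↥(tGroup Q c) := ⟨refl Q v (hv ▸ hc), refl_mem_tGroup _ hv⟩ with hb
  have ha2 : a * a = 1 := Subtype.ext (refl_sq u (hu ▸ hc))
  have hb2 : b * b = 1 := Subtype.ext (refl_sq v (hv ▸ hc))
  have hbraid : a * b * a = b * a * b := by
    refine Subtype.ext ?_
    show refl Q u (hu ▸ hc) * refl Q v (hv ▸ hc) * refl Q u (hu ▸ hc) =
      refl Q v (hv ▸ hc) * refl Q u (hu ▸ hc) * refl Q v (hv ▸ hc)
    rw [refl_conj_refl hc hu hv, refl_conj_refl hc hv hu]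
    refine orth_ext fun x => ?_
    simp only [refl_apply]
    rw [polar_comm (⇑Q) v u]
    rcases hs with e | e <;> rw [e]
    · rw [show v - (1 : K) • u = (-1 : K) • (u - (1 : K) • v) by
        simp only [one_smul, smul_sub, neg_smul, sub_neg_eq_add]; abel]
      simp only [one_smul, neg_smul, QuadraticMap.map_neg, polar_neg_left, smul_neg, mul_neg, neg_neg]
    · rw [show v - (-1 : K) • u = u - (-1 : K) • v by
        simp only [neg_smul, one_smul, sub_neg_eq_add]; abel]
  have hz : a⁻¹ * b⁻¹ * a * b ∈ Subgroup.center ↥(tGroup Q c) := by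
    rw [← QuotientGroup.eq_one_iff]
    have h' : (QuotientGroup.mk a : PG Q c) * QuotientGroup.mk b =
        QuotientGroup.mk b * QuotientGroup.mk a := h.eq
    simp only [QuotientGroup.mk_mul, QuotientGroup.mk_inv, mul_assoc, h', inv_mul_cancel_left,
      inv_mul_cancel]
  rw [inv_eq_of_mul_eq_one_right ha2, inv_eq_of_mul_eq_one_right hb2] at hz
  have hz' : a * b * a * b = b * a := by
    rw [hbraid, mul_assoc (b * a) b b, hb2, mul_one]
  rw [hz'] at hz
  have hcomm := Subgroup.mem_center_iff.mp hz a
  have hab : a * b = b * a := by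
    have h1 : b = a * b * a := by
      calc b = b * a * a := by rw [mul_assoc, ha2, mul_one]
        _ = a * (b * a) := hcomm.symm
        _ = a * b * a := (mul_assoc a b a).symm
    calc a * b = a * (a * b * a) := by rw [← h1]
      _ = b * a := by rw [← mul_assoc, ← mul_assoc, ha2, one_mul]
  have hbb : b = a := by
    have h1 : a * b * a = b := by rw [hab, mul_assoc, ha2, mul_one]
    have h2 : b * a * b = a := by rw [← hab, mul_assoc, hb2, mul_one]
    rw [← h1, hbraid, h2]
  have hv' := congrArg (fun t : ↥(tGroup Q c) => (t : orth Q).1 v) hbb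
  simp only [ha, hb] at hv'
  rw [refl_apply, refl_apply, hu, hv, ReflectionThree.inv_eq_self', polar_self', hv] at hv'
  have hcc : c * c = 1 := (show ∀ a : K, a ≠ 0 → a * a = 1 by decide) c hc
  have h3 : v = (-(c * polar Q u v)) • u := by
    funext i
    have hi := congrFun hv' i
    simp only [Pi.sub_apply, Pi.smul_apply, smul_eq_mul] at hi ⊢
    linear_combination hi - v i * hcc
  rcases hs with e | e <;> rw [e] at h3
  · exact hne2 (by rw [h3, neg_smul, one_smul])
  · exact hne1 (by rw [h3, neg_neg, one_smul])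

/-- When all points commute the derived group is trivial. -/
theorem false_of_all_commute (hna : ¬ IsMulCommutative ↥(commutator (PG Q c)))
    (h : ∀ u v, Q u = c → Q v = c → polar Q u v = 0 ∨ v = u ∨ v = -u) : False := by
  apply hna
  have hgen : ∀ x ∈ tGroup Q c, ∀ y ∈ tGroup Q c, x * y = y * x := by
    have hall : ∀ x y : ↥(tGroup Q c), (x : orth Q) * y = (y : orth Q) * x := by
      intro x y
      have hle : tGroup Q c ≤ Subgroup.centralizer ((tGroup Q c : Set (orth Q))) := by
        refine (Subgroup.closure_le _).mpr ?_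
        rintro _ ⟨u, hu0, hu, rfl⟩
        refine Subgroup.mem_centralizer_iff.mpr fun z hz => ?_
        induction hz using Subgroup.closure_induction with
        | mem z hz =>
          obtain ⟨v, hv0, hv, rfl⟩ := hz
          rcases h v u hv hu with e | rfl | rfl
          · have h1 := refl_conj_refl hc hv hu
            simp only [e, mul_zero, zero_smul, sub_zero] at h1
            calc refl Q v hv0 * refl Q u hu0
                = refl Q v hv0 * refl Q u hu0 * (refl Q v hv0 * refl Q v hv0) := by
                  rw [refl_sq, mul_one]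
              _ = refl Q v hv0 * refl Q u hu0 * refl Q v hv0 * refl Q v hv0 := by
                  simp only [mul_assoc]
              _ = refl Q u hu0 * refl Q v hv0 := congrArg (· * refl Q v hv0) h1
          · rfl
          · have h1 : refl Q (-v) hu0 = refl Q v hv0 := orth_ext fun x => by simp [refl_apply]
            rw [h1]
        | one => rw [one_mul, mul_one]
        | mul a b _ _ ha hb => rw [mul_assoc, hb, ← mul_assoc, ha, mul_assoc]
        | inv a _ ha => exact (Commute.inv_left (show Commute a _ from ha)).eq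
      exact (Subgroup.mem_centralizer_iff.mp (hle y.2) x x.2)
    exact fun x hx y hy => hall ⟨x, hx⟩ ⟨y, hy⟩
  refine ⟨⟨fun a b => Subtype.ext ?_⟩⟩
  obtain ⟨x, hx⟩ := QuotientGroup.mk_surjective (a : PG Q c)
  obtain ⟨y, hy⟩ := QuotientGroup.mk_surjective (b : PG Q c)
  show (a : PG Q c) * b = b * a
  rw [← hx, ← hy, ← QuotientGroup.mk_mul, ← QuotientGroup.mk_mul,
    Subtype.ext (hgen x x.2 y y.2) (a1 := x * y) (a2 := y * x)]

/-- The action of a lift of a fixed point free element. -/
theorem lift_of_fpf {y : PG Q c} (hy : Triality95.Fpf (cls Q c hc) y) :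
    ∃ t : ↥(tGroup Q c), QuotientGroup.mk t = y ∧
      ∀ v, Q v = c → qf (t : orth Q) v = 0 ∧ (t : orth Q).1 v ≠ v ∧ (t : orth Q).1 v ≠ -v := by
  obtain ⟨t, rfl⟩ := QuotientGroup.mk_surjective y
  refine ⟨t, rfl, fun v hv => ?_⟩
  have hq : Q ((t : orth Q).1 v) = c := by rw [map_orth]; exact hv
  have h1 := hy.move _ ⟨v, hv, rfl⟩
  have h2 := hy.comm _ ⟨v, hv, rfl⟩
  rw [pt_conj hc t hv] at h1 h2
  have hne : ¬ ((t : orth Q).1 v = v ∨ (t : orth Q).1 v = -v) := fun e =>
    h1 (pt_of_sign hc hv hq e).symm
  push Not at hne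
  refine ⟨?_, hne⟩
  rcases orth_of_commute hc hv hq h2 with e | e | e
  · exact e
  · exact absurd e hne.1
  · exact absurd e hne.2

/-- Two different commuting points have orthogonal vectors. -/
theorem orth_of_ne {u v : Fin n → K} (hu : Q u = c) (hv : Q v = c)
    (hne : pt Q c hc u hu ≠ pt Q c hc v hv) (h : Commute (pt Q c hc u hu) (pt Q c hc v hv)) :
    polar Q u v = 0 := by
  rcases orth_of_commute hc hu hv h with e | e | e
  · exact e
  · exact absurd (pt_of_sign hc hu hv (Or.inl e)) hne
  · exact absurd (pt_of_sign hc hu hv (Or.inr e)) hne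

end Cfsg.Agent.Triality95ThreePR44
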