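import Cfsg.Agent.Lib.Triality95ThreePR44

/-!
# Small dimensions over three elements

In dimension at most three there are no fixed point free elements in a nonabelian situation, and in
dimension four a skew isometry makes the commuting graph of the points disconnected.
-/

set_option autoImplicit false
set_option linter.unusedSectionVars false
set_option maxRecDepth 10000

namespace Cfsg.Agent.Triality95ThreeSmall44

open QuadraticMap Cfsg.Agent
open OrthUnitaryQuad OrthUnitaryRefl ReflectionThreeGroup Triality95ThreeGeom44 Triality95ThreeFrame44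
  Triality95ThreePR44

variable {n : ℕ} {Q : QuadraticForm K (Fin n → K)} {c : K}

theorem lines_two : ∀ a b a' b' : K, a * a + b * b = 1 → a' * a' + b' * b' = 1 →
    a * a' + b * b' = 0 ∨ (a' = a ∧ b' = b) ∨ (a' = -a ∧ b' = -b) := by decide +kernel

theorem lines_three : ∀ a b e a' b' e' : K, a * a + b * b + e * e = 1 →
    a' * a' + b' * b' + e' * e' = 1 →
    a * a' + b * b' + e * e' = 0 ∨ (a' = a ∧ b' = b ∧ e' = e) ∨
      (a' = -a ∧ b' = -b ∧ e' = -e) := by decide +kernel

/-- The five test vectors against a linear map sending the first basis vector to the second. -/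
theorem no_map : ∀ a b e p q r : K, q = 0 → p * p + q * q - r * r = -1 →
    a * p + b * q - e * r = 0 →
    ∃ z ∈ [((0 : K), (1 : K), (0 : K)), (1, 1, 1), (1, 1, -1), (1, -1, 1), (1, -1, -1)],
      z.1 * (z.2.1 * a + z.2.2 * p) + z.2.1 * (z.1 + z.2.1 * b + z.2.2 * q) -
        z.2.2 * (z.2.1 * e + z.2.2 * r) ≠ 0 := by decide +kernel

theorem polar_lin (x0 x1 x2 y0 y1 y2 : K) (v w x : Fin n → K) (hvw : polar Q v w = 0)
    (hvx : polar Q v x = 0) (hwx : polar Q w x = 0) :
    polar Q (x0 • v + x1 • w + x2 • x) (y0 • v + y1 • w + y2 • x) =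
      -(x0 * y0 * Q v + x1 * y1 * Q w + x2 * y2 * Q x) := by
  simp only [polar_add_left, polar_add_right, QuadraticMap.polar_smul_left,
    QuadraticMap.polar_smul_right, smul_eq_mul, polar_self', hvw, hvx, hwx, polar_comm (⇑Q) w v,
    polar_comm (⇑Q) x v, polar_comm (⇑Q) x w]
  ring

theorem q_lin (x0 x1 x2 : K) (v w x : Fin n → K) (hvw : polar Q v w = 0) (hvx : polar Q v x = 0)
    (hwx : polar Q w x = 0) :
    Q (x0 • v + x1 • w + x2 • x) = x0 * x0 * Q v + x1 * x1 * Q w + x2 * x2 * Q x := by
  have h := polar_lin x0 x1 x2 x0 x1 x2 v w x hvw hvx hwx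
  rw [polar_self'] at h
  linear_combination -h

/-- In dimension at most three all points commute or there is no fixed point free element. -/
theorem all_commute (hQ : (polarBilin Q).Nondegenerate) (hc : c ≠ 0) (hn : n ≤ 3)
    (g : orth Q) (hg : ∀ v, Q v = c → qf g v = 0) :
    ∀ u v, Q u = c → Q v = c → polar Q u v = 0 ∨ v = u ∨ v = -u := by
  intro u₁ u₂ hu₁ hu₂
  have hcc : c * c = 1 := (show ∀ a : K, a ≠ 0 → a * a = 1 by decide) c hc
  set v := u₁ with hv_def
  set w := g.1 v with hw_def
  have hv : Q v = c := hu₁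
  have hw : Q w = c := (map_orth g v).trans hv
  have hvw : polar Q v w = 0 := hg v hv
  have hn2 : 2 ≤ n := by
    have := card_le (Q := Q) (b := ![v, w]) hc (fun i => by fin_cases i <;> assumption)
      (fun i i' hii => by
        fin_cases i <;> fin_cases i'
        · exact absurd rfl hii
        · exact hvw
        · exact (polar_comm (⇑Q) w v).trans hvw
        · exact absurd rfl hii)
    simpa using this
  obtain ⟨x, hvx, hwx, hx, hspan⟩ : ∃ x, polar Q v x = 0 ∧ polar Q w x = 0 ∧
      (Q x ≠ 0 ∨ x = 0) ∧ ∀ z, ∃ z0 z1 z2 : K, z = z0 • v + z1 • w + z2 • x := by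
    by_cases h3 : n = 3
    · obtain ⟨x, hx, hxp⟩ := ReflectionThree.exists_orth Q hQ ![v, w] (by omega)
        (fun i => by fin_cases i <;> simp_all)
        (fun i i' hii => by
          fin_cases i <;> fin_cases i'
          · exact absurd rfl hii
          · exact hvw
          · exact (polar_comm (⇑Q) w v).trans hvw
          · exact absurd rfl hii)
      have h1 : polar Q v x = 0 := by simpa using hxp 0
      have h2 : polar Q w x = 0 := by simpa using hxp 1
      refine ⟨x, h1, h2, Or.inl hx, ?_⟩
      let b : Fin 3 → Fin n → K := ![v, w, x]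
      have hbo : ∀ i i', i ≠ i' → polar Q (b i) (b i') = 0 := by
        intro i i' hii
        fin_cases i <;> fin_cases i'
        · exact absurd rfl hii
        · exact hvw
        · exact h1
        · exact (polar_comm (⇑Q) w v).trans hvw
        · exact absurd rfl hii
        · exact h2
        · exact (polar_comm (⇑Q) x v).trans h1
        · exact (polar_comm (⇑Q) x w).trans h2
        · exact absurd rfl hii
      have hbn : ∀ i, Q (b i) ≠ 0 := by
        intro i
        fin_cases i <;> simp_all [b]
      have hinj : Function.Injective (coords b) := by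
        rw [← LinearMap.ker_eq_bot, LinearMap.ker_eq_bot']
        intro z hz
        funext i
        have h := polar_coords hbo z i
        rw [hz, polar_zero_right, polar_self'] at h
        exact (mul_eq_zero.mp h.symm).resolve_right (neg_ne_zero.mpr (hbn i))
      intro z
      obtain ⟨y, rfl⟩ := (LinearMap.injective_iff_surjective_of_finrank_eq_finrank (by
        rw [Module.finrank_fin_fun, Module.finrank_fin_fun, h3])).mp hinj z
      exact ⟨y 0, y 1, y 2, by simp [coords_apply, Fin.sum_univ_three, b]⟩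
    · refine ⟨0, by simp, by simp, Or.inr rfl, fun z => ?_⟩
      have hinj := coords_inj (Q := Q) (b := ![v, w]) hc (fun i => by fin_cases i <;> assumption)
        (fun i i' hii => by
          fin_cases i <;> fin_cases i'
          · exact absurd rfl hii
          · exact hvw
          · exact (polar_comm (⇑Q) w v).trans hvw
          · exact absurd rfl hii)
      obtain ⟨y, rfl⟩ := (LinearMap.injective_iff_surjective_of_finrank_eq_finrank (by
        rw [Module.finrank_fin_fun, Module.finrank_fin_fun]; omega)).mp hinj z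
      exact ⟨y 0, y 1, 0, by simp [coords_apply, Fin.sum_univ_two]⟩
  obtain ⟨b0, b1, b2, hb⟩ := hspan u₂
  have hqb := hu₂
  rw [hb, q_lin _ _ _ v w x hvw hvx hwx, hv, hw] at hqb
  rcases hx with hx | hx
  · rcases (show ∀ a b : K, a ≠ 0 → b ≠ 0 → a = b ∨ a = -b by decide) _ _ hx hc with hd | hd
    · rw [hd] at hqb
      rcases lines_three 1 0 0 b0 b1 b2 (by ring) (by
        linear_combination c * hqb + (1 - (b0 * b0 + b1 * b1 + b2 * b2)) * hcc) with e | e | e
      · refine Or.inl ?_
        rw [hb, show v = (1 : K) • v + (0 : K) • w + (0 : K) • x by simp,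
          show (1 : K) • v + (0 : K) • w + (0 : K) • x = v by simp]
        have := polar_lin 1 0 0 b0 b1 b2 v w x hvw hvx hwx
        rw [show (1 : K) • v + (0 : K) • w + (0 : K) • x = v by simp] at this
        rw [this, hv, hw, hd]
        linear_combination (-c) * e
      · exact Or.inr (Or.inl (by rw [hb, e.1, e.2.1, e.2.2]; simp))
      · exact Or.inr (Or.inr (by rw [hb, e.1, e.2.1, e.2.2]; simp))
    · exfalso
      obtain ⟨a, b, e, hgw⟩ := hspan (g.1 w)
      obtain ⟨p, q, r, hgx⟩ := hspan (g.1 x)
      have h1 : q = 0 := by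
        have h := polar_orth g x v
        rw [← hw_def, polar_comm (⇑Q) x v, hvx, hgx] at h
        have h0 := polar_lin p q r 0 1 0 v w x hvw hvx hwx
        simp only [zero_smul, one_smul, zero_add, add_zero] at h0
        rw [h0, hw] at h
        have h' : q * c = 0 := by linear_combination -h
        exact (mul_eq_zero.mp h').resolve_right hc
      have h2 : p * p + q * q - r * r = -1 := by
        have h := map_orth g x
        rw [hgx, q_lin _ _ _ v w x hvw hvx hwx, hv, hw, hd] at h
        linear_combination c * h + (-1 - p * p - q * q + r * r) * hcc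
      have h3 : a * p + b * q - e * r = 0 := by
        have h := polar_orth g w x
        rw [hwx, hgw, hgx, polar_lin _ _ _ _ _ _ v w x hvw hvx hwx, hv, hw, hd] at h
        linear_combination (-c) * h - (a * p + b * q - e * r) * hcc
      obtain ⟨z, hz, hzne⟩ := no_map a b e p q r h1 h2 h3
      apply hzne
      have hqz : Q (z.1 • v + z.2.1 • w + z.2.2 • x) = c := by
        rw [q_lin _ _ _ v w x hvw hvx hwx, hv, hw, hd]
        simp only [List.mem_cons, List.not_mem_nil, or_false] at hz
        rcases hz with rfl | rfl | rfl | rfl | rfl <;> simp <;> ring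
      have h := hg _ hqz
      have himg : g.1 (z.1 • v + z.2.1 • w + z.2.2 • x) =
          (z.2.1 * a + z.2.2 * p) • v + (z.1 + z.2.1 * b + z.2.2 * q) • w +
            (z.2.1 * e + z.2.2 * r) • x := by
        rw [map_add, map_add, map_smul, map_smul, map_smul, ← hw_def, hgw, hgx]
        module
      rw [qf, himg, polar_lin _ _ _ _ _ _ v w x hvw hvx hwx, hv, hw, hd] at h
      linear_combination (-c) * h - (z.1 * (z.2.1 * a + z.2.2 * p) +
        z.2.1 * (z.1 + z.2.1 * b + z.2.2 * q) - z.2.2 * (z.2.1 * e + z.2.2 * r)) * hcc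
  · subst hx
    simp only [QuadraticMap.map_zero, mul_zero, add_zero] at hqb
    rcases lines_two 1 0 b0 b1 (by ring) (by
      linear_combination c * hqb + (1 - (b0 * b0 + b1 * b1)) * hcc) with e | e | e
    · refine Or.inl ?_
      rw [hb]
      have := polar_lin 1 0 0 b0 b1 b2 v w 0 hvw hvx hwx
      rw [show (1 : K) • v + (0 : K) • w + (0 : K) • (0 : Fin n → K) = v by simp] at this
      rw [this, hv, hw, QuadraticMap.map_zero]
      linear_combination (-c) * e
    · exact Or.inr (Or.inl (by rw [hb, e.1, e.2]; simp))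
    · exact Or.inr (Or.inr (by rw [hb, e.1, e.2]; simp))

/-- Exactly one non-zero coordinate. -/
def Single (x : Fin 2 ⊕ Fin 2 → K) : Prop := ∃ i, ∀ j, j ≠ i → x j = 0

/-- At most one of four coordinates is non-zero. -/
def One4 (a b d e : K) : Prop :=
  (b = 0 ∧ d = 0 ∧ e = 0 ∨ a = 0 ∧ d = 0 ∧ e = 0 ∨ a = 0 ∧ b = 0 ∧ e = 0 ∨ a = 0 ∧ b = 0 ∧ d = 0)

instance (a b d e : K) : Decidable (One4 a b d e) := by unfold One4; infer_instance

theorem four_lines : ∀ a b d e : K, a * a + b * b + d * d + e * e = 1 → One4 a b d e →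
    ∀ p q r s : K, p * p + q * q + r * r + s * s = 1 → a * p + b * q + d * r + e * s = 0 →
      One4 p q r s := by decide +kernel

theorem single_iff (x : Fin 2 ⊕ Fin 2 → K) :
    Single x ↔ One4 (x (.inl 0)) (x (.inl 1)) (x (.inr 0)) (x (.inr 1)) := by
  simp [Single, One4, Fin.forall_fin_two, Fin.exists_fin_two, Sum.exists, Sum.forall]
  tauto

/-- In dimension four the points fall into at least two parts. -/
theorem false_four (hc : c ≠ 0) {g : orth Q} (hg : Skew g) {e : Fin 2 → Fin n → K}
    (he : Frame g c e) (hk : n = 2 * 2)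
    (hconn : ∀ p ∈ cls Q c hc, ∀ p' ∈ cls Q c hc, Relation.ReflTransGen
      (fun a b => a ∈ cls Q c hc ∧ b ∈ cls Q c hc ∧ a ≠ b ∧ Commute a b) p p') : False := by
  set φ := he.equiv hc hk with hφ
  have hcc : c * c = 1 := (show ∀ a : K, a ≠ 0 → a * a = 1 by decide) c hc
  have hq : ∀ x, Q (φ x) = c * ∑ i, x i * x i := Frame.q_equiv hc he hk
  have hsum : ∀ x : Fin 2 ⊕ Fin 2 → K, Q (φ x) = c → ∑ i, x i * x i = 1 := fun x hx => by
    rw [hq] at hx
    linear_combination c * hx + (1 - ∑ i, x i * x i) * hcc
  let P : PG Q c → Prop := fun p => ∀ u (hu : Q u = c), pt Q c hc u hu = p → Single (φ.symm u)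
  set x₀ : Fin 2 ⊕ Fin 2 → K := Pi.single (Sum.inl 0) 1 with hx₀
  have hx₀q : Q (φ x₀) = c := by
    rw [hq, hx₀]
    simp [Fintype.sum_sum_type, Fin.sum_univ_two, Pi.single_apply]
  set x₁ : Fin 2 ⊕ Fin 2 → K := fun _ => 1 with hx₁
  have hx₁q : Q (φ x₁) = c := by
    rw [hq, hx₁]
    simp only [Fintype.sum_sum_type, Fin.sum_univ_two]
    linear_combination c * three_zero
  have hstep : ∀ u (hu : Q u = c) v (hv : Q v = c), Single (φ.symm u) →
      (pt Q c hc u hu = pt Q c hc v hv ∨ polar Q u v = 0) → Single (φ.symm v) := by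
    intro u hu v hv hs h
    obtain ⟨x, rfl⟩ := φ.surjective u
    obtain ⟨y, rfl⟩ := φ.surjective v
    rw [φ.symm_apply_apply] at hs ⊢
    have hperp : polar Q (φ x) (φ y) = 0 ∨ φ y = φ x ∨ φ y = -φ x := by
      rcases h with h | h
      · exact orth_of_commute hc hu hv (h ▸ Commute.refl _)
      · exact Or.inl h
    rcases hperp with h | h | h
    · have hdot : ∑ i, x i * y i = 0 := by
        have h1 := hq (x + y)
        rw [map_add, QuadraticMap.map_add (⇑Q), h, hq, hq] at h1
        simp only [Fintype.sum_sum_type, Fin.sum_univ_two, Pi.add_apply] at h1 ⊢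
        linear_combination c * h1 + (x (.inl 0) * y (.inl 0) + x (.inl 1) * y (.inl 1) +
          (x (.inr 0) * y (.inr 0) + x (.inr 1) * y (.inr 1))) * (three_zero + (2 : K) * hcc) -
          (x (.inl 0) * y (.inl 0) + x (.inl 1) * y (.inl 1) +
          (x (.inr 0) * y (.inr 0) + x (.inr 1) * y (.inr 1))) * (0 : K) * hcc
      have h1 := hsum x hu
      have h2 := hsum y hv
      simp only [Fintype.sum_sum_type, Fin.sum_univ_two, ← add_assoc] at h1 h2 hdot
      rw [single_iff] at hs ⊢
      exact four_lines _ _ _ _ h1 hs _ _ _ _ h2 hdot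
    · rwa [φ.injective h]
    · rw [← map_neg] at h
      rw [φ.injective h]
      obtain ⟨i, hi⟩ := hs
      exact ⟨i, fun j hj => by rw [Pi.neg_apply, hi j hj, neg_zero]⟩
  have hbase : P (pt Q c hc _ hx₀q) := fun u hu h => hstep _ hx₀q u hu (by
    rw [φ.symm_apply_apply]
    exact ⟨Sum.inl 0, fun j hj => by simp [hx₀, hj]⟩) (Or.inl h.symm)
  have hall : ∀ p, Relation.ReflTransGen
      (fun a b => a ∈ cls Q c hc ∧ b ∈ cls Q c hc ∧ a ≠ b ∧ Commute a b) (pt Q c hc _ hx₀q) p →
      P p := by
    intro p hp
    induction hp with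
    | refl => exact hbase
    | tail _ hab ih =>
      obtain ⟨⟨u, hu, rfl⟩, ⟨v, hv, rfl⟩, hne, hcomm⟩ := hab
      intro w hw hwv
      exact hstep u hu w hw (ih u hu rfl)
        (Or.inr (orth_of_ne hc hu hw (hwv ▸ hne) (hwv ▸ hcomm)))
  have h1 := hall _ (hconn _ ⟨_, hx₀q, rfl⟩ _ ⟨_, hx₁q, rfl⟩) _ hx₁q rfl
  rw [φ.symm_apply_apply, single_iff] at h1
  simp [hx₁, One4] at h1

end Cfsg.Agent.Triality95ThreeSmall44
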