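import Cfsg.Agent.Lib.Triality95Defs
import Cfsg.Agent.Lib.Triality95Frame88
import Cfsg.Agent.Lib.Triality95Shift88
import Cfsg.Agent.Lib.OrthUnitaryTranspositions
import Cfsg.Agent.Lib.OrthUnitaryStd

/-!
# The orthogonal groups over the field of two elements in the triality argument

An involution moving every transvection of an orthogonal group over `F₂` to another commuting one
exists only for plus type in dimension a multiple of four; it gives a frame.  In dimension four the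
transvections fall into two parts, and from dimension twelve on two such involutions can have a
product of order seven, which no product of four transvections in two commuting pairs has.
-/

set_option autoImplicit false

namespace Cfsg.Agent.Triality95Two88

open QuadraticMap
open OrthUnitaryPrelude OrthUnitaryQuad OrthUnitaryRefl OrthUnitaryTranspositions
open Triality95Frame88 (zm Inv exists_frame polar_self2)

variable {ι : Type} [Fintype ι] [DecidableEq ι] {P : QuadraticForm (ZMod 2) (ι → ZMod 2)}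

/-- The transvections. -/
def trans (P : QuadraticForm (ZMod 2) (ι → ZMod 2)) : Set ↥(Cfsg.isometryGroup (ZMod 2) ⇑P) :=
  {g | (mat g - 1).rank = 1}

theorem refl_inj (hP : (polarBilin P).Nondegenerate) {u v : ι → ZMod 2} (hu : P u ≠ 0)
    (hv : P v ≠ 0) (e : refl P u hu = refl P v hv) : u = v := by
  have hu0 : u ≠ 0 := fun e0 => hu (by rw [e0, QuadraticMap.map_zero])
  obtain ⟨x, hx⟩ : ∃ x, polar P u x ≠ 0 := by
    by_contra hc
    push Not at hc
    exact hu0 (hP.1 u hc)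
  have h1 := congrArg (fun t : orth P => t.1 x) e
  simp only [refl_apply_two, add_right_inj, (zm _).resolve_left hx, one_smul] at h1
  rcases zm (polar P v x) with h2 | h2 <;> rw [h2] at h1
  · rw [zero_smul] at h1; exact absurd h1 hu0
  · rwa [one_smul] at h1

theorem polar_of_commute (hP : (polarBilin P).Nondegenerate) {u v : ι → ZMod 2} (hu : P u ≠ 0)
    (hv : P v ≠ 0) (h : Commute (refl P u hu) (refl P v hv)) : polar P u v = 0 := by
  have h1 := conj_refl (refl P u hu) v hv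
  rw [h.eq, mul_inv_cancel_right] at h1
  have h2 := refl_inj hP _ _ h1
  rw [refl_apply_two, left_eq_add, smul_eq_zero] at h2
  exact h2.resolve_right fun e0 => hu (by rw [e0, QuadraticMap.map_zero])

theorem exists_of_mem (hP : (polarBilin P).Nondegenerate) {g : ↥(Cfsg.isometryGroup (ZMod 2) ⇑P)}
    (hg : g ∈ trans P) : ∃ v hv, iso P g = refl P v hv :=
  (rank_one_iff hP g).1 hg

theorem refl_mem_trans (hP : (polarBilin P).Nondegenerate) (v : ι → ZMod 2) (hv : P v ≠ 0) :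
    (iso P).symm (refl P v hv) ∈ trans P :=
  (rank_one_iff hP _).2 ⟨v, hv, (iso P).apply_symm_apply _⟩

theorem fpf_inv (hP : (polarBilin P).Nondegenerate) {y : ↥(Cfsg.isometryGroup (ZMod 2) ⇑P)}
    (hy : Triality95.Fpf (trans P) y) : Inv P (iso P y).1 := by
  have hyy : iso P y * iso P y = 1 := by rw [← map_mul, hy.sq, map_one]
  refine ⟨fun x => map_orth (iso P y) x, fun x => ?_, fun v hv e => ?_, fun v hv => ?_⟩
  · rw [← orth_mul_apply, hyy]; rfl
  · refine hy.move _ (refl_mem_trans hP v hv) ((iso P).injective ?_)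
    rw [map_mul, map_mul, map_inv, MulEquiv.apply_symm_apply, conj_refl]
    exact refl_congr _ hv e
  · have h := (hy.comm _ (refl_mem_trans hP v hv)).map (iso P).toMonoidHom
    simp only [MulEquiv.coe_toMonoidHom, map_mul, map_inv, MulEquiv.apply_symm_apply,
      conj_refl] at h
    exact polar_of_commute hP _ _ h

/-- Elements of order prime to two are in the derived group. -/
theorem mem_commutator_of_seven {G : Type*} [Group G] {C : Set G}
    (hC : Cfsg.IsThreeTranspositionClass C) (hsq : ∀ c ∈ C, c * c = 1) {h : G} (h7 : h ^ 7 = 1) :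
    h ∈ commutator G := by
  let ψ : G →* Abelianization G := (powMonoidHom 2).comp Abelianization.of
  have h0 : ψ = 1 := MonoidHom.eq_of_eqOn_dense hC.2.2 fun c hc => by
    show (Abelianization.of c) ^ 2 = 1
    rw [pow_two, ← map_mul, hsq c hc, map_one]
  have h1 : (Abelianization.of h) ^ 2 = 1 := DFunLike.congr_fun h0 h
  have h2 : Abelianization.of h = 1 := by
    have := congrArg Abelianization.of h7
    rw [map_pow, map_one, show (7 : ℕ) = 2 * 3 + 1 from rfl, pow_succ, pow_mul, h1, one_pow,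
      one_mul] at this
    exact this
  rw [← Abelianization.ker_of]
  exact h2

theorem sq_of_mem (hP : (polarBilin P).Nondegenerate) {c : ↥(Cfsg.isometryGroup (ZMod 2) ⇑P)}
    (hc : c ∈ trans P) : c * c = 1 := by
  obtain ⟨v, hv, e⟩ := exists_of_mem hP hc
  refine (iso P).injective ?_
  rw [map_mul, map_one, e, OrthUnitaryTranspositions.refl_sq]

set_option maxRecDepth 4000 in
/-- A product of two commuting pairs of transvections has period sixty. -/
theorem pow_sixty (hP : (polarBilin P).Nondegenerate) {u v u' v' : ↥(Cfsg.isometryGroup (ZMod 2) ⇑P)}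
    (hu : u ∈ trans P) (hv : v ∈ trans P) (hu' : u' ∈ trans P) (hv' : v' ∈ trans P)
    (h : Commute u v) (h' : Commute u' v') : (u * v * (u' * v')) ^ 60 = 1 := by
  obtain ⟨a, ha, ea⟩ := exists_of_mem hP hu
  obtain ⟨b, hb, eb⟩ := exists_of_mem hP hv
  obtain ⟨c, hc, ec⟩ := exists_of_mem hP hu'
  obtain ⟨d, hd, ed⟩ := exists_of_mem hP hv'
  have hab : polar P a b = 0 := polar_of_commute hP ha hb (by
    have := h.map (iso P).toMonoidHom
    rwa [MulEquiv.coe_toMonoidHom, ea, eb] at this)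
  have hcd : polar P c d = 0 := polar_of_commute hP hc hd (by
    have := h'.map (iso P).toMonoidHom
    rwa [MulEquiv.coe_toMonoidHom, ec, ed] at this)
  refine (iso P).injective (orth_ext fun x => ?_)
  rw [map_pow, map_one, map_mul, map_mul, map_mul, ea, eb, ec, ed]
  obtain ⟨G, hG⟩ : ∃ G, G = refl P a ha * refl P b hb * (refl P c hc * refl P d hd) := ⟨_, rfl⟩
  rw [← hG]
  let val : ZMod 2 × ZMod 2 × ZMod 2 × ZMod 2 → (ι → ZMod 2) := fun α =>
    x + α.1 • a + α.2.1 • b + α.2.2.1 • c + α.2.2.2 • d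
  let st := Triality95Shift88.step (polar P a c) (polar P a d) (polar P b c) (polar P b d)
    (polar P a x, polar P b x, polar P c x, polar P d x)
  have hstep : ∀ α, G.1 (val α) = val (st α) := by
    rintro ⟨α₁, α₂, α₃, α₄⟩
    have hba : polar P b a = 0 := by rw [polar_comm, hab]
    have hdc : polar P d c = 0 := by rw [polar_comm, hcd]
    simp only [hG, orth_mul_apply, refl_apply_two, val, st, Triality95Shift88.step,
      QuadraticMap.polar_add_right, QuadraticMap.polar_smul_right, smul_eq_mul, polar_self2, hab,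
      hba, hcd, hdc, mul_zero, add_zero, zero_add, polar_comm P c a, polar_comm P c b,
      polar_comm P d a, polar_comm P d b]
    module
  have hiter : ∀ n, (G ^ n).1 x = val (st^[n] (0, 0, 0, 0)) := by
    intro n
    induction n with
    | zero => simp [val]
    | succ n ih => rw [pow_succ', orth_mul_apply, ih, hstep, Function.iterate_succ_apply']
  have hp := Triality95Shift88.step_period (polar P a c) (polar P a d) (polar P b c) (polar P b d)
    (polar P a x) (polar P b x) (polar P c x) (polar P d x)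
  rw [hiter, hp]
  simp [val]

/-- The frame of an element. -/
theorem exists_frame_of_fpf (hP : (polarBilin P).Nondegenerate) (hdim : 3 ≤ Fintype.card ι)
    {y : ↥(Cfsg.isometryGroup (ZMod 2) ⇑P)} (hy : Triality95.Fpf (trans P) y) :
    ∃ k, Fintype.card ι = 4 * k ∧
      ∃ Ψ : ((Fin k ⊕ Fin k → ZMod 2) × (Fin k ⊕ Fin k → ZMod 2)) ≃ₗ[ZMod 2] (ι → ZMod 2),
        (∀ a b, P (Ψ (a, b)) = Cfsg.sympForm k (ZMod 2) a b) ∧
        ∀ a b, (iso P y).1 (Ψ (a, b)) = Ψ (b, a) := by
  have h := exists_frame (fpf_inv hP hy) hP (by rwa [OrthUnitaryPrelude.finrank_pi])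
  rwa [OrthUnitaryPrelude.finrank_pi] at h

theorem exists_conj (hP : (polarBilin P).Nondegenerate) (hdim : 3 ≤ Fintype.card ι)
    {y y' : ↥(Cfsg.isometryGroup (ZMod 2) ⇑P)} (hy : Triality95.Fpf (trans P) y)
    (hy' : Triality95.Fpf (trans P) y') : ∃ g, g * y * g⁻¹ = y' := by
  obtain ⟨k, hk, Ψ, hΨ, hΨT⟩ := exists_frame_of_fpf hP hdim hy
  obtain ⟨k', hk', Φ, hΦ, hΦT⟩ := exists_frame_of_fpf hP hdim hy'
  obtain rfl : k' = k := by omega
  let g₀ : (ι → ZMod 2) ≃ₗ[ZMod 2] (ι → ZMod 2) := Ψ.symm.trans Φ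
  have hg₀ : ∀ x, P (g₀ x) = P x := by
    intro x
    obtain ⟨⟨a, b⟩, rfl⟩ := Ψ.surjective x
    simp [g₀, hΨ, hΦ]
  refine ⟨(iso P).symm ⟨g₀, hg₀⟩, ?_⟩
  rw [mul_inv_eq_iff_eq_mul]
  refine (iso P).injective (orth_ext fun x => ?_)
  rw [map_mul, map_mul, MulEquiv.apply_symm_apply, orth_mul_apply, orth_mul_apply]
  obtain ⟨⟨a, b⟩, rfl⟩ := Ψ.surjective x
  rw [hΨT]
  simp [g₀, hΦT]

/-- From dimension twelve on: impossible. -/
theorem false_of_large (hP : (polarBilin P).Nondegenerate)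
    (hC : Cfsg.IsThreeTranspositionClass (trans P)) {l : ℕ}
    (hdim : Fintype.card ι = 4 * (l + 3)) {X : Set ↥(Cfsg.isometryGroup (ZMod 2) ⇑P)}
    (W : Triality95.Wit (trans P) X) : False := by
  obtain ⟨y, hy⟩ := W.ne
  obtain ⟨k, hk, Ψ, hΨ, hΨT⟩ := exists_frame_of_fpf hP (by omega) (W.fpf y hy)
  obtain rfl : k = l + 3 := by omega
  obtain ⟨S, hS, hS7, a₀, ha₀⟩ := Triality95Shift88.exists_shift l
  obtain ⟨h₀, hh⟩ : ∃ h₀ : (ι → ZMod 2) ≃ₗ[ZMod 2] (ι → ZMod 2),
      ∀ a b, h₀ (Ψ (a, b)) = Ψ (S a, S⁻¹ b) :=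
    ⟨(Ψ.symm.trans (LinearEquiv.prodCongr S S⁻¹)).trans Ψ, fun a b => by
      simp only [LinearEquiv.trans_apply, LinearEquiv.symm_apply_apply,
        LinearEquiv.prodCongr_apply]⟩
  have hSS' : ∀ a, S (S⁻¹ a) = a := fun a => S.apply_symm_apply a
  have hS'S : ∀ a, S⁻¹ (S a) = a := fun a => S.symm_apply_apply a
  have hiso : ∀ x, P (h₀ x) = P x := by
    intro x
    obtain ⟨⟨a, b⟩, rfl⟩ := Ψ.surjective x
    rw [hh, hΨ, hΨ, hS, hSS']
  obtain ⟨h, hH⟩ : ∃ h, ∀ x, (iso P h).1 x = h₀ x :=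
    ⟨(iso P).symm ⟨h₀, hiso⟩, fun x => by rw [MulEquiv.apply_symm_apply]⟩
  have hne : h ≠ 1 := by
    intro e
    refine ha₀ ?_
    have h1 := hH (Ψ (a₀, 0))
    rw [e, map_one, hh] at h1
    exact congrArg Prod.fst (Ψ.injective h1).symm
  have hn : ∀ (n : ℕ) a b, (iso P h ^ n).1 (Ψ (a, b)) = Ψ ((S ^ n) a, (S⁻¹ ^ n) b) := by
    intro n
    induction n with
    | zero => intro a b; rw [pow_zero, pow_zero, pow_zero]; rfl
    | succ n ih =>
      intro a b
      rw [pow_succ', orth_mul_apply, ih, hH, hh, pow_succ' S, pow_succ' S⁻¹,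
        LinearEquiv.mul_apply, LinearEquiv.mul_apply]
  have h7 : h ^ 7 = 1 := by
    refine (iso P).injective (orth_ext fun x => ?_)
    rw [map_pow, map_one]
    obtain ⟨⟨a, b⟩, rfl⟩ := Ψ.surjective x
    rw [hn, inv_pow, hS7, inv_one]
    rfl
  have : Fact (Nat.Prime 7) := ⟨by norm_num⟩
  have hord : orderOf h = 7 := orderOf_eq_prime h7 hne
  have hhy : h * (y * h) = y := by
    refine (iso P).injective (orth_ext fun x => ?_)
    rw [map_mul, map_mul, orth_mul_apply, orth_mul_apply, hH, hH]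
    obtain ⟨⟨a, b⟩, rfl⟩ := Ψ.surjective x
    rw [hh, hΨT, hh, hSS', hS'S, hΨT]
  have hy' : h * y * h⁻¹ ∈ X :=
    W.inv h (mem_commutator_of_seven hC (fun c hc => sq_of_mem hP hc) h7) y hy
  have hprod : y * (h * y * h⁻¹) = (h ^ 2)⁻¹ := by
    have h1 : y * h = h⁻¹ * y := by rw [eq_inv_mul_iff_mul_eq, hhy]
    have h2 := (W.fpf y hy).sq
    rw [← mul_assoc, ← mul_assoc, h1, mul_assoc h⁻¹ y y, h2, mul_one]
    group
  have hord2 : orderOf (y * (h * y * h⁻¹)) = 7 := by
    rw [hprod, orderOf_inv, orderOf_pow, hord]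
    decide
  obtain ⟨u, hu, v, hv, u', hu', v', hv', -, -, h3, h4, h5⟩ := W.ord y hy _ hy'
  have h6 := orderOf_dvd_of_pow_eq_one (pow_sixty hP hu hv hu' hv' h3 h4)
  rw [← h5, hord2] at h6
  omega

/-- Dimension four: non-orthogonality links the transvections into parts that are never left. -/
theorem false_of_parts (hP : (polarBilin P).Nondegenerate)
    (hC : Cfsg.IsThreeTranspositionClass (trans P))
    (htr : ∀ u v w, P u ≠ 0 → P v ≠ 0 → P w ≠ 0 → (u = v ∨ polar P u v ≠ 0) →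
      (v = w ∨ polar P v w ≠ 0) → (u = w ∨ polar P u w ≠ 0))
    {y : ↥(Cfsg.isometryGroup (ZMod 2) ⇑P)} (hy : Triality95.Fpf (trans P) y) : False := by
  let R : (ι → ZMod 2) → (ι → ZMod 2) → Prop := fun u v => u = v ∨ polar P u v ≠ 0
  have hne : ∀ (g : ↥(Cfsg.isometryGroup (ZMod 2) ⇑P)) v, P v ≠ 0 → P ((iso P g).1 v) ≠ 0 :=
    fun g v hv => by rwa [map_orth]
  have hsymm : ∀ u v, R u v → R v u := fun u v h =>
    h.imp Eq.symm fun h' => by rwa [polar_comm]
  let K : Subgroup ↥(Cfsg.isometryGroup (ZMod 2) ⇑P) :=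
    { carrier := {g | ∀ v, P v ≠ 0 → R ((iso P g).1 v) v}
      one_mem' := fun v _ => Or.inl (by rw [map_one]; rfl)
      mul_mem' := fun {g h} hg hh v hv => by
        rw [map_mul, orth_mul_apply]
        exact htr _ _ _ (hne g _ (hne h v hv)) (hne h v hv) hv (hg _ (hne h v hv)) (hh v hv)
      inv_mem' := fun {g} hg v hv => by
        have h := hg _ (hne g⁻¹ v hv)
        rw [← orth_mul_apply, ← map_mul, mul_inv_cancel, map_one] at h
        exact hsymm _ _ h }
  have hle : Subgroup.closure (trans P) ≤ K := by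
    rw [Subgroup.closure_le]
    intro g hg v hv
    obtain ⟨w, hw, e⟩ := exists_of_mem hP hg
    show R ((iso P g).1 v) v
    rw [e, refl_apply_two]
    rcases zm (polar P w v) with h | h
    · exact Or.inl (by rw [h, zero_smul, add_zero])
    · refine Or.inr ?_
      rw [h, one_smul, polar_add_left, polar_self2, zero_add, h]
      exact one_ne_zero
  rw [hC.2.2] at hle
  obtain ⟨d, hd, -⟩ := hC.2.1
  obtain ⟨v, hv, -⟩ := exists_of_mem hP hd
  have hi := fpf_inv hP hy
  rcases hle (Subgroup.mem_top y) v hv with h | h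
  · exact hi.move v hv h
  · exact h (by rw [polar_comm]; exact hi.perp v hv)

theorem verdict_of_form (f : (ι → ZMod 2) → ZMod 2) (hf : ∀ v, f v = P v)
    (hP : (polarBilin P).Nondegenerate) {m : ℕ} (hm : Fintype.card ι = 2 * m)
    (hone : m = 1 → ∀ u v, f u ≠ 0 → f v ≠ 0 → u = v)
    (htwo : m = 2 → ∀ u v w, f u ≠ 0 → f v ≠ 0 → f w ≠ 0 → (u = v ∨ polar f u v ≠ 0) →
      (v = w ∨ polar f v w ≠ 0) → (u = w ∨ polar f u w ≠ 0))
    (hC : Cfsg.IsThreeTranspositionClass {g : ↥(Cfsg.isometryGroup (ZMod 2) f) |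
      (((g : GL ι (ZMod 2)) : Matrix ι ι (ZMod 2)) - 1).rank = 1})
    {X : Set ↥(Cfsg.isometryGroup (ZMod 2) f)}
    (W : Triality95.Wit {g : ↥(Cfsg.isometryGroup (ZMod 2) f) |
      (((g : GL ι (ZMod 2)) : Matrix ι ι (ZMod 2)) - 1).rank = 1} X) :
    m = 4 ∧ ∀ y y', Triality95.Fpf {g : ↥(Cfsg.isometryGroup (ZMod 2) f) |
      (((g : GL ι (ZMod 2)) : Matrix ι ι (ZMod 2)) - 1).rank = 1} y →
      Triality95.Fpf {g : ↥(Cfsg.isometryGroup (ZMod 2) f) |
      (((g : GL ι (ZMod 2)) : Matrix ι ι (ZMod 2)) - 1).rank = 1} y' → ∃ g, g * y * g⁻¹ = y' := by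
  obtain rfl : f = ⇑P := funext hf
  change Triality95.Wit (trans P) X at W
  change Cfsg.IsThreeTranspositionClass (trans P) at hC
  obtain ⟨y, hy⟩ := W.ne
  have hfy := W.fpf y hy
  obtain ⟨d, hd, -⟩ := hC.2.1
  obtain ⟨v, hv, -⟩ := exists_of_mem hP hd
  have h2 : 2 ≤ m := by
    by_contra hlt
    rcases (show m = 0 ∨ m = 1 by omega) with rfl | rfl
    · have : IsEmpty ι := Fintype.card_eq_zero_iff.1 (by omega)
      exact hv (by rw [Subsingleton.elim v 0, QuadraticMap.map_zero])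
    · exact (fpf_inv hP hfy).move v hv (hone rfl _ _ (by rw [map_orth]; exact hv) hv)
  obtain ⟨k, hk, -⟩ := exists_frame_of_fpf hP (by omega) hfy
  have hm4 : m = 4 := by
    rcases (show k = 1 ∨ k = 2 ∨ 3 ≤ k by omega) with rfl | rfl | hk3
    · exact (false_of_parts hP hC (htwo (by omega)) hfy).elim
    · omega
    · exact (false_of_large hP hC (l := k - 3) (by omega) W).elim
  exact ⟨hm4, fun y y' hy hy' => exists_conj hP (by omega) hy hy'⟩

theorem false_of_minus (f : (ι → ZMod 2) → ZMod 2) (hf : ∀ v, f v = P v)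
    (hP : (polarBilin P).Nondegenerate) {m : ℕ} (hm : Fintype.card ι = 2 * m)
    (hsing : ∀ U : Submodule (ZMod 2) (ι → ZMod 2), (∀ u ∈ U, f u = 0) →
      Module.finrank (ZMod 2) U ≠ m)
    {X : Set ↥(Cfsg.isometryGroup (ZMod 2) f)}
    (W : Triality95.Wit {g : ↥(Cfsg.isometryGroup (ZMod 2) f) |
      (((g : GL ι (ZMod 2)) : Matrix ι ι (ZMod 2)) - 1).rank = 1} X) : False := by
  obtain rfl : f = ⇑P := funext hf
  change Triality95.Wit (trans P) X at W
  obtain ⟨y, hy⟩ := W.ne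
  have hi := fpf_inv hP (W.fpf y hy)
  have h1 := (hi.fix_facts hP).1
  rw [OrthUnitaryPrelude.finrank_pi, hm] at h1
  exact hsing _ (fun u hu => hi.singular hu) (by omega)

/-- The plane of plus type has one non-singular vector. -/
theorem one_vec : ∀ u : Fin 1 ⊕ Fin 1 → ZMod 2, Cfsg.quadFormPlus 1 (ZMod 2) u ≠ 0 →
    ∀ v, Cfsg.quadFormPlus 1 (ZMod 2) v ≠ 0 → u = v := by decide +kernel

/-- In dimension four non-orthogonality is transitive on the non-singular vectors. -/
theorem two_parts : ∀ u : Fin 2 ⊕ Fin 2 → ZMod 2, Cfsg.quadFormPlus 2 (ZMod 2) u ≠ 0 →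
    ∀ v, Cfsg.quadFormPlus 2 (ZMod 2) v ≠ 0 →
    (u = v ∨ QuadraticMap.polar (Cfsg.quadFormPlus 2 (ZMod 2)) u v ≠ 0) →
    ∀ w, Cfsg.quadFormPlus 2 (ZMod 2) w ≠ 0 →
      (v = w ∨ QuadraticMap.polar (Cfsg.quadFormPlus 2 (ZMod 2)) v w ≠ 0) →
      (u = w ∨ QuadraticMap.polar (Cfsg.quadFormPlus 2 (ZMod 2)) u w ≠ 0) := by decide +kernel

theorem verdict_plus (m : ℕ)
    (hC : Cfsg.IsThreeTranspositionClass
      {g : ↥(Cfsg.isometryGroup (ZMod 2) (Cfsg.quadFormPlus m (ZMod 2))) |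
        (((g : GL (Fin m ⊕ Fin m) (ZMod 2)) : Matrix (Fin m ⊕ Fin m) (Fin m ⊕ Fin m) (ZMod 2)) - 1).rank = 1})
    {X : Set ↥(Cfsg.isometryGroup (ZMod 2) (Cfsg.quadFormPlus m (ZMod 2)))}
    (W : Triality95.Wit
      {g : ↥(Cfsg.isometryGroup (ZMod 2) (Cfsg.quadFormPlus m (ZMod 2))) |
        (((g : GL (Fin m ⊕ Fin m) (ZMod 2)) : Matrix (Fin m ⊕ Fin m) (Fin m ⊕ Fin m) (ZMod 2)) - 1).rank = 1} X) :
    Triality95.Verdict ↥(Cfsg.isometryGroup (ZMod 2) (Cfsg.quadFormPlus m (ZMod 2)))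
      {g : ↥(Cfsg.isometryGroup (ZMod 2) (Cfsg.quadFormPlus m (ZMod 2))) |
        (((g : GL (Fin m ⊕ Fin m) (ZMod 2)) : Matrix (Fin m ⊕ Fin m) (Fin m ⊕ Fin m) (ZMod 2)) - 1).rank = 1} := by
  obtain ⟨rfl, h⟩ := verdict_of_form (Cfsg.quadFormPlus m (ZMod 2))
    (OrthUnitaryStd.comp_symm_apply _ _ (OrthUnitaryForms.eqPlus m) (OrthUnitaryForms.eqPlus_isometry m))
    (OrthUnitaryStd.nondegenerate_congr (OrthUnitaryForms.eqPlus m) (fun x => by simp)
      (OrthUnitaryStd.nondegenerate_withBase OrthUnitaryStd.nondegenerate_qfNil m))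
    (m := m) (by simp [two_mul]) (by rintro rfl u v hu hv; exact one_vec u hu v hv)
    (by rintro rfl u v w hu hv hw h h'; exact two_parts u hu v hv h w hw h') hC W
  exact ⟨h, Or.inl ⟨MulEquiv.refl _⟩⟩

theorem verdict_minus (m : ℕ)
    {X : Set ↥(Cfsg.isometryGroup (ZMod 2) (Cfsg.quadFormMinus m (ZMod 2) 1 1))}
    (W : Triality95.Wit
      {g : ↥(Cfsg.isometryGroup (ZMod 2) (Cfsg.quadFormMinus m (ZMod 2) 1 1)) |
        (((g : GL ((Fin m ⊕ Fin m) ⊕ Fin 2) (ZMod 2)) : Matrix ((Fin m ⊕ Fin m) ⊕ Fin 2) ((Fin m ⊕ Fin m) ⊕ Fin 2) (ZMod 2)) - 1).rank = 1} X) :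
    False := by
  classical
  have hab : OrthUnitaryForms.IsAniso (1 : ZMod 2) 1 := by
    unfold OrthUnitaryForms.IsAniso; decide
  refine false_of_minus (Cfsg.quadFormMinus m (ZMod 2) (1 : ZMod 2) 1)
    (OrthUnitaryStd.comp_symm_apply _ (Cfsg.quadFormMinus m (ZMod 2) (1 : ZMod 2) 1)
      (OrthUnitaryForms.eqMinus m) (OrthUnitaryForms.eqMinus_isometry (F := ZMod 2) m 1 1))
    (OrthUnitaryStd.nondegenerate_congr (OrthUnitaryForms.eqMinus m) (fun x => by simp)
      (OrthUnitaryStd.nondegenerate_withBase (OrthUnitaryStd.nondegenerate_qfBin hab) m))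
    (m := m + 1) (by simp; omega) (fun U hU hd => ?_) W
  let w : QuadFormF2.V (m + 1) := Pi.single (.inl 0) 1 + Pi.single (.inr 0) 1
  have hw : QuadFormF2.Q w = 1 := by simp [QuadFormF2.Q, Cfsg.quadFormPlus, w, Pi.single_apply]
  obtain ⟨g, hg⟩ := QuadFormF2.exists_minus_equiv w hw
  have h0 := (QuadFormF2.singular_le w (U.comap g.toLinearMap) fun u hu => by
    rw [hg]; exact hU _ hu).2 (by rw [Submodule.comap_equiv_eq_map_symm, LinearEquiv.finrank_map_eq, hd])
  rw [hw] at h0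
  exact one_ne_zero h0

end Cfsg.Agent.Triality95Two88
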