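import Cfsg.Agent.Lib.Triality95Types

/-!
# The outcome for a component from Fischer's theorem

Each family in the conclusion of Fischer's theorem is carried to its model; the statements about the
models are taken as hypotheses.
-/

set_option autoImplicit false
set_option linter.unusedSectionVars false
set_option linter.style.haveILetI false

namespace Cfsg.Agent.Triality95Verdict

open Subgroup

universe u

/-- What is needed for one model. -/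
def Model (N : Type) [Group N] (E : Set N) : Prop :=
  Cfsg.IsThreeTranspositionClass E → (Cfsg.commutingGraph E).Connected →
    IsSimpleGroup ↥(commutator N) → ¬ IsMulCommutative ↥(commutator N) →
      ∀ {X : Set N}, Triality95.Wit E X → Triality95.Verdict N E

theorem via {M : Type u} [Group M] [Finite M] {C : Set M} (H : Triality95Types.Hyps C) {X : Set M}
    (W : Triality95.Wit C X) {N : Type} [Group N] {E : Set N} (e : M ≃* N) (hE : e '' C = E)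
    (hN : Model N E) : Triality95.Verdict M C := by
  haveI : Finite N := Finite.of_equiv M e.toEquiv
  subst hE
  have H' := H.map e
  exact (hN H'.cls H'.conn H'.simple H'.nonab (W.map e)).of_equiv

theorem verdict {M : Type u} [Group M] [Finite M] {C : Set M} (H : Triality95Types.Hyps C) {X : Set M}
    (W : Triality95.Wit C X)
    (h5368 : (∃ n : ℕ, ∃ e : M ≃* Equiv.Perm (Fin n), e '' C = {σ : Equiv.Perm (Fin n) | σ.IsSwap}) ∨ (∃ m : ℕ, ∃ e : M ≃* Matrix.symplecticGroup (Fin m) (ZMod 2), e '' C = {g : Matrix.symplecticGroup (Fin m) (ZMod 2) | ((g : Matrix (Fin m ⊕ Fin m) (Fin m ⊕ Fin m) (ZMod 2)) - 1).rank = 1}) ∨ (∃ (n : ℕ) (F : Type) (_ : Field F) (_ : Fintype F), Fintype.card F = 4 ∧ ∃ e : M ≃* Cfsg.PSU n F 2, e '' C = (QuotientGroup.mk : ↥(Cfsg.SU n F 2) → Cfsg.PSU n F 2) '' {g : ↥(Cfsg.SU n F 2) | (((g : Matrix.SpecialLinearGroup (Fin n) F) : Matrix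 (Fin n) (Fin n) F) - 1).rank = 1}) ∨ ((∃ m : ℕ, ∃ e : M ≃* ↥(Cfsg.isometryGroup (ZMod 2) (Cfsg.quadFormPlus m (ZMod 2))), e '' C = {g : ↥(Cfsg.isometryGroup (ZMod 2) (Cfsg.quadFormPlus m (ZMod 2))) | (((g : GL (Fin m ⊕ Fin m) (ZMod 2)) : Matrix (Fin m ⊕ Fin m) (Fin m ⊕ Fin m) (ZMod 2)) - 1).rank = 1}) ∨ (∃ m : ℕ, ∃ e : M ≃* ↥(Cfsg.isometryGroup (ZMod 2) (Cfsg.quadFormMinus m (ZMod 2) 1 1)), e '' C = {g : ↥(Cfsg.isometryGroup (ZMod 2) (Cfsg.quadFormMinus m (ZMod 2) 1 1)) | (((g : GL ((Fin m ⊕ Fin m) ⊕ Fin 2) (ZMod 2)) : Matrix ((Fin m ⊕ Fin m) ⊕ Fin 2) ((Fin m ⊕ Fin m) ⊕ Fin 2) (ZMod 2)) - 1).rank = 1})) ∨ (∃ n : ℕ, ∃ Q : QuadraticForm (ZMod 3) (Fin n → ZMod 3), (QuadraticMap.polarBilin Q).Nondegenerate ∧ ∃ c : ZMod 3, c ≠ 0 ∧ ∃ e : M ≃* ↥(Cfsg.reflectionSubgroup (⇑Q) c) ⧸ Subgroup.center ↥(Cfsg.reflectionSubgroup (⇑Q) c), e '' C = (QuotientGroup.mk : ↥(Cfsg.reflectionSubgroup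 (⇑Q) c) → _) '' {g : ↥(Cfsg.reflectionSubgroup (⇑Q) c) | (g : ↥(Cfsg.isometryGroup (ZMod 3) (⇑Q))) ∈ Cfsg.reflectionsOfNorm (⇑Q) c}) ∨ (Cfsg.IsOfTypeM22 M C ∨ Cfsg.IsOfTypeM23 M C ∨ Cfsg.IsOfTypeM24 M C))
    (mPerm : ∀ n : ℕ, Model (Equiv.Perm (Fin n)) {σ | σ.IsSwap})
    (mSp : ∀ m : ℕ, Model (Matrix.symplecticGroup (Fin m) (ZMod 2)) {g | ((g : Matrix (Fin m ⊕ Fin m) (Fin m ⊕ Fin m) (ZMod 2)) - 1).rank = 1})
    (mPSU : ∀ (n : ℕ) (F : Type) [Field F] [Fintype F], Fintype.card F = 4 → Model (Cfsg.PSU n F 2) ((QuotientGroup.mk : ↥(Cfsg.SU n F 2) → Cfsg.PSU n F 2) '' {g : ↥(Cfsg.SU n F 2) | (((g : Matrix.SpecialLinearGroup (Fin n) F) : Matrix (Fin n) (Fin n) F) - 1).rank = 1}))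
    (mPlus : ∀ m : ℕ, Model ↥(Cfsg.isometryGroup (ZMod 2) (Cfsg.quadFormPlus m (ZMod 2))) {g | (((g : GL (Fin m ⊕ Fin m) (ZMod 2)) : Matrix (Fin m ⊕ Fin m) (Fin m ⊕ Fin m) (ZMod 2)) - 1).rank = 1})
    (mMinus : ∀ m : ℕ, Model ↥(Cfsg.isometryGroup (ZMod 2) (Cfsg.quadFormMinus m (ZMod 2) 1 1)) {g | (((g : GL ((Fin m ⊕ Fin m) ⊕ Fin 2) (ZMod 2)) : Matrix ((Fin m ⊕ Fin m) ⊕ Fin 2) ((Fin m ⊕ Fin m) ⊕ Fin 2) (ZMod 2)) - 1).rank = 1})
    (mThree : ∀ (n : ℕ) (Q : QuadraticForm (ZMod 3) (Fin n → ZMod 3)), (QuadraticMap.polarBilin Q).Nondegenerate → ∀ c : ZMod 3, c ≠ 0 → Model (↥(Cfsg.reflectionSubgroup (⇑Q) c) ⧸ Subgroup.center ↥(Cfsg.reflectionSubgroup (⇑Q) c)) ((QuotientGroup.mk : ↥(Cfsg.reflectionSubgroup (⇑Q) c) → _) '' {g : ↥(Cfsg.reflectionSubgroup (⇑Q) c) | (g : ↥(Cfsg.isometryGroup (ZMod 3) (⇑Q))) ∈ Cfsg.reflectionsOfNorm (⇑Q) c})) :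
    Triality95.Verdict M C := by
  obtain ⟨y, hy⟩ := W.ne
  have hy' := W.fpf y hy
  rcases h5368 with ⟨n, e, he⟩ | ⟨m, e, he⟩ | ⟨n, F, iF, iFt, hF, e, he⟩ |
    (⟨m, e, he⟩ | ⟨m, e, he⟩) | ⟨n, Q, hQ, c, hc, e, he⟩ | h22 | h23 | h24
  · exact via H W e he (mPerm n)
  · exact via H W e he (mSp m)
  · exact via H W e he (mPSU n F hF)
  · exact via H W e he (mPlus m)
  · exact via H W e he (mMinus m)
  · exact via H W e he (mThree n Q hQ c hc)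
  · exact (Triality95Types.false_m22 H h22 hy').elim
  · exact (Triality95Types.false_m23 H h23 hy').elim
  · exact (Triality95Types.false_m24 H h24 hy').elim

end Cfsg.Agent.Triality95Verdict
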