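import Mathlib
import Cfsg.Agent.Lib.IsospectralPSp4

set_option autoImplicit false

/-!
`K^4 ⋊ ({±1} × PSL(2,q))` for `q = 3^a`, `a` odd, acting on the twisted tensor module: the maximal element
orders are `6`, `9`, `q - 1` and `(q + 1) / 2`.
-/

namespace Cfsg.Agent.TruncatedReeSpectrum

open Matrix hiding comp
open Finset
open scoped MatrixGroups
open LinearExtension TensorRep IsospectralPSp4 PSp4Orders

variable {K : Type} [Field K] [CharP K 3]

local notation "M4" => Matrix (Fin 2 × Fin 2) (Fin 2 × Fin 2) K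

variable (K) in
/-- The linear group. -/
def W : Subgroup (M4)ˣ where
  carrier := {M | ∃ A : SL(2, K), M.val = rep4 3 1 A ∨ M.val = -rep4 3 1 A}
  one_mem' := ⟨1, Or.inl (by rw [map_one]; rfl)⟩
  mul_mem' := by
    rintro M M' ⟨A, hA⟩ ⟨A', hA'⟩
    refine ⟨A * A', ?_⟩
    rcases hA with hA | hA <;> rcases hA' with hA' | hA' <;>
      simp only [Units.val_mul, hA, hA', map_mul, neg_mul, mul_neg, neg_neg, true_or, or_true]
  inv_mem' := by
    rintro M ⟨A, hA | hA⟩
    · exact ⟨A⁻¹, Or.inl (Units.inv_eq_of_mul_eq_one_right (by rw [hA, ← map_mul, mul_inv_cancel, map_one]))⟩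
    · exact ⟨A⁻¹, Or.inr (Units.inv_eq_of_mul_eq_one_right (by
        rw [hA, neg_mul_neg, ← map_mul, mul_inv_cancel, map_one]))⟩

/-- The arithmetic of the parameter. -/
lemma arith {a : ℕ} (ha : Odd a) (h3 : 3 ≤ a) :
    3 ^ a % 4 = 3 ∧ 3 ^ a % 8 = 3 ∧ 3 ^ a % 3 = 0 ∧ 27 ≤ 3 ^ a := by
  obtain ⟨b, rfl⟩ := ha
  refine ⟨?_, ?_, ?_, le_trans (by norm_num) (Nat.pow_le_pow_right (by norm_num) h3)⟩
  · rw [pow_succ, pow_mul, Nat.mul_mod, Nat.pow_mod]; simp
  · rw [pow_succ, pow_mul, Nat.mul_mod, Nat.pow_mod]; simp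
  · simp [pow_succ]

variable [Fintype K] {a : ℕ}

lemma sq_scalar_mul {M R : M4} (h : M = R ∨ M = -R) : M ^ 2 = R ^ 2 := by
  rcases h with rfl | rfl
  · rfl
  · rw [neg_sq]

lemma upper (ha : Odd a) (h3 : 3 ≤ a) (hK : Nat.card K = 3 ^ a) {k : ℕ} (x : Ext k (W K)) :
    ∃ m ∈ ({6, 9, 3 ^ a - 1, (3 ^ a + 1) / 2} : Finset ℕ), x ^ m = 1 := by
  obtain ⟨h4, h8, hm3, h27⟩ := arith ha h3
  have hker : ∀ A : SL(2, K), rep4 3 1 A = 1 ↔ A = 1 ∨ A = -1 := fun A => rep4_ker 1 A
  obtain ⟨A, hA⟩ := x.right.2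
  change mat x = rep4 3 1 A ∨ mat x = -rep4 3 1 A at hA
  rcases trichotomy' (p := 3) A with ⟨-, h⟩ | ⟨htr, h⟩
  · have h1 := rep_pow_char (p := 3) _ A hker h
    rcases hA with hA | hA
    · exact ⟨9, by simp, pow_mul_char 3 x (n := 3) (by rw [hA, h1])⟩
    · have h2 : mat x ^ 3 = -1 := by rw [hA, Odd.neg_pow (by decide), h1]
      refine ⟨6, by simp, pow_eq_one x (by rw [show 6 = 3 * 2 by rfl, pow_mul, h2, neg_one_sq]) ?_⟩
      rw [show (6 : ℕ) = 3 + 3 by rfl, Finset.sum_range_add]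
      simp_rw [pow_add (mat x) 3, h2, neg_one_mul]
      rw [Finset.sum_neg_distrib, add_neg_cancel]
  · rw [hK] at h
    by_cases hd : (mat x - 1).det = 0
    · have hd2 : (rep4 3 1 (A ^ 2) - 1).det = 0 := by
        rw [map_pow, ← sq_scalar_mul hA, show mat x ^ 2 - 1 = (mat x - 1) * (mat x + 1) by noncomm_ring,
          Matrix.det_mul, hd, zero_mul]
      have h24 : A ^ 24 = 1 := by
        rcases trichotomy' (p := 3) (A ^ 2) with ⟨-, e⟩ | ⟨htr2, -⟩
        · rcases e with e | e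
          · rw [show 24 = 2 * 3 * 4 by rfl, pow_mul, pow_mul, e, one_pow]
          · rw [Odd.neg_pow (by decide : Odd 3), neg_eq_iff_eq_neg, ← pow_mul] at e
            rw [show 24 = 2 * 3 * 4 by rfl, pow_mul, e, Even.neg_one_pow (by decide)]
        · let L := AlgebraicClosure K
          haveI : CharP L 3 := charP_of_injective_algebraMap (algebraMap K L).injective 3
          obtain ⟨l, hl0, -, hl, hw⟩ := weights (algebraMap K L) (tens (fr 3 1)) (tens (fr 3 1))
            (tens_map _ _ _ fun z => by rw [fr_apply, fr_apply, map_pow]) (tensW (fr 3 1))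
            (fun l _ => tens_diag _ l) (A ^ 2) htr2
          obtain ⟨⟨b, c⟩, hi⟩ := hw hd2
          have hl4 : l ^ 4 = 1 := by
            fin_cases b <;> fin_cases c <;> simp [tensW, fr_apply, frobenius_def, map_inv₀, inv_pow] at hi
            · linear_combination hi
            · have e : l ^ 3 = l := ((mul_inv_eq_one₀ (pow_ne_zero 3 hl0)).1 hi).symm
              have h2 : l ^ 2 = 1 := mul_left_cancel₀ hl0 (by linear_combination e)
              linear_combination (l ^ 2 + 1) * h2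
            · have e : l ^ 3 = l := ((inv_mul_eq_one₀ hl0).1 hi).symm
              have h2 : l ^ 2 = 1 := mul_left_cancel₀ hl0 (by linear_combination e)
              linear_combination (l ^ 2 + 1) * h2
            · rw [← mul_inv, inv_eq_one] at hi
              linear_combination hi
          rw [show 24 = 2 * 4 * 3 by rfl, pow_mul, pow_mul, (hl 4).2 hl4, one_pow]
      have hA4 : A ^ 4 = 1 := by
        rcases h with e | e
        · have hg : Nat.gcd 24 (3 ^ a - 1) ∣ 4 := by
            have h1 : Nat.gcd 24 (3 ^ a - 1) ∣ 24 := Nat.gcd_dvd_left _ _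
            have h2 : Nat.gcd 24 (3 ^ a - 1) ∣ 3 ^ a - 1 := Nat.gcd_dvd_right _ _
            obtain ⟨d, hd⟩ : ∃ d, Nat.gcd 24 (3 ^ a - 1) = d := ⟨_, rfl⟩
            rw [hd] at h1 h2 ⊢
            have : d ≤ 24 := Nat.le_of_dvd (by norm_num) h1
            interval_cases d <;> omega
          exact orderOf_dvd_iff_pow_eq_one.1 ((Nat.dvd_gcd (orderOf_dvd_of_pow_eq_one h24)
            (orderOf_dvd_of_pow_eq_one e)).trans hg)
        · have hg : Nat.gcd 24 (3 ^ a + 1) ∣ 4 := by
            have h1 : Nat.gcd 24 (3 ^ a + 1) ∣ 24 := Nat.gcd_dvd_left _ _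
            have h2 : Nat.gcd 24 (3 ^ a + 1) ∣ 3 ^ a + 1 := Nat.gcd_dvd_right _ _
            obtain ⟨d, hd⟩ : ∃ d, Nat.gcd 24 (3 ^ a + 1) = d := ⟨_, rfl⟩
            rw [hd] at h1 h2 ⊢
            have : d ≤ 24 := Nat.le_of_dvd (by norm_num) h1
            interval_cases d <;> omega
          exact orderOf_dvd_iff_pow_eq_one.1 ((Nat.dvd_gcd (orderOf_dvd_of_pow_eq_one h24)
            (orderOf_dvd_of_pow_eq_one e)).trans hg)
      have hr : rep4 3 1 A ^ 2 = 1 := by
        have := pow_half (p := 3) (rep4 3 1) A hker (N := 4) (by simp [gfac]) hA4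
        simpa [gfac] using this
      exact ⟨6, by simp, pow_mul_char 3 x (n := 2) (by rw [sq_scalar_mul hA, hr])⟩
    · rcases h with e | e
      · refine ⟨3 ^ a - 1, by simp, pow_eq_one_of_det x ?_ hd⟩
        obtain ⟨j, hj⟩ : 2 ∣ 3 ^ a - 1 := by omega
        have := pow_half (p := 3) (rep4 3 1) A hker (N := 3 ^ a - 1) (by simp [gfac]; omega) e
        simp [gfac, hj] at this
        rw [hj, pow_mul, sq_scalar_mul hA, ← pow_mul, mul_comm, pow_mul, this, one_pow]
      · refine ⟨(3 ^ a + 1) / 2, by simp, pow_eq_one_of_det x ?_ hd⟩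
        obtain ⟨j, hj⟩ : 4 ∣ 3 ^ a + 1 := by omega
        have := pow_half (p := 3) (rep4 3 1) A hker (N := 3 ^ a + 1) (by simp [gfac]; omega) e
        simp [gfac] at this
        rw [show (3 ^ a + 1) / 2 = 2 * j by omega, pow_mul, sq_scalar_mul hA, ← pow_mul,
          show 2 * j = (3 ^ a + 1) / 2 by omega, this]

/-- An element of `W`. -/
def plus (A : SL(2, K)) : W K := ⟨(rep4 3 1).toHomUnits A, A, Or.inl (MonoidHom.coe_toHomUnits _ A)⟩

lemma plus_val (A : SL(2, K)) : ((plus A : (M4)ˣ) : M4) = rep4 3 1 A := MonoidHom.coe_toHomUnits _ A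

/-- An element of the other sign. -/
def minus (A : SL(2, K)) : W K :=
  ⟨-(rep4 3 1).toHomUnits A, A, Or.inr (by rw [Units.val_neg, MonoidHom.coe_toHomUnits])⟩

lemma lower (ha : Odd a) (h3 : 3 ≤ a) (hK : Nat.card K = 3 ^ a) {k : ℕ} (hk : 0 < k) {m : ℕ}
    (hm : m ∈ ({6, 9, 3 ^ a - 1, (3 ^ a + 1) / 2} : Finset ℕ)) : ∃ x : Ext k (W K), orderOf x = m := by
  obtain ⟨h4, h8, hm3, h27⟩ := arith ha h3
  have hker : ∀ A : SL(2, K), rep4 3 1 A = 1 ↔ A = 1 ∨ A = -1 := fun A => rep4_ker 1 A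
  have h20 : (2 : K) ≠ 0 := two_ne_zero' (K := K) 3 (by norm_num)
  simp only [Finset.mem_insert, Finset.mem_singleton] at hm
  rcases hm with rfl | rfl | rfl | rfl
  · refine exists_orderOf_fixed 3 hk (plus PSL2Elements.w) two_pos ?_ (by exact_mod_cast h20)
      (Pi.single (0, 0) 1 + Pi.single (1, 1) 1) ?_ ?_
    · rw [plus_val]
      refine orderOf_rep (p := 3) _ _ hker ?_
      rw [show gfac 3 * 2 = 2 ^ (1 + 1) by simp [gfac]]
      refine orderOf_eq_prime_pow ?_ ?_
      · intro e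
        rw [pow_one, pow_two, PSL2Elements.w_sq] at e
        have e' := congrArg (fun B : SL(2, K) => B.1 0 0) e
        simp at e'
        exact h20 (by linear_combination -e')
      · rw [show 2 ^ (1 + 1) = 2 * 2 by rfl, pow_mul, pow_two (PSL2Elements.w : SL(2, K)), PSL2Elements.w_sq, neg_one_sq]
    · intro e
      simpa using congrFun e (0, 0)
    · funext i
      obtain ⟨i1, i2⟩ := i
      rw [plus_val, rep4_apply, Matrix.mulVec, dotProduct, Fintype.sum_prod_type]
      fin_cases i1 <;> fin_cases i2 <;>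
        simp [tens_apply, PSL2Elements.w, PSL2Elements.mk2, Fin.sum_univ_two, frobenius_def] <;> ring
  · refine exists_orderOf_mul 3 hk (plus (PSL2Elements.u (1 : K))) (by norm_num : 0 < 3) ?_
      (Pi.single (1, 1) 1) (fun e => ?_)
    · rw [plus_val]
      refine orderOf_eq_prime (by
        rw [← map_pow, PSL2Elements.pow_char 3 (PSL2Elements.tr_u 1), map_one]) fun e => ?_
      rcases (hker _).1 e with e | e <;> simpa [PSL2Elements.u, PSL2Elements.mk2] using
        congrArg (fun B : SL(2, K) => B.1 0 1) e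
    · have e' := congrFun e (0, 0)
      rw [plus_val] at e'
      simp [Finset.sum_range_succ, ← map_pow, pow_two, PSL2Elements.u_mul, Matrix.one_apply] at e'
      rw [rep4_apply, rep4_apply] at e'
      simp [tens_apply, frobenius_def, PSL2Elements.u] at e'
      have hc : (3 : K) = 0 := by exact_mod_cast CharP.cast_eq_zero K 3
      exact h20 (by linear_combination e' - 5 * hc)
  · obtain ⟨z, hz⟩ := exists_unit_order (K := K) (d := 3 ^ a - 1) (by rw [hK])
    obtain ⟨j, hj⟩ : 2 ∣ 3 ^ a - 1 := by omega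
    obtain ⟨x, hx⟩ := exists_orderOf_right (k := k) (minus (PSL2Elements.d z))
    refine ⟨x, ?_⟩
    rw [hx, orderOf_eq_mat]
    show orderOf (((-(rep4 3 1).toHomUnits (PSL2Elements.d z) : (M4)ˣ)) : M4) = _
    rw [Units.val_neg, MonoidHom.coe_toHomUnits, ← neg_one_mul]
    have ho : orderOf (rep4 3 1 (PSL2Elements.d z)) = j :=
      orderOf_rep (p := 3) _ _ hker (by rw [orderOf_d, hz, hj]; simp [gfac])
    have hn : orderOf (-1 : M4) = 2 := by
      refine orderOf_eq_prime (by rw [neg_one_sq]) fun e => ?_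
      have e' := congrFun (congrFun e (0, 0)) (0, 0)
      simp at e'
      exact h20 (by linear_combination -e')
    rw [(Commute.neg_one_left _).orderOf_mul_eq_mul_orderOf_of_coprime (by
      rw [hn, ho, Nat.coprime_two_left, Nat.odd_iff]; omega), hn, ho, hj]
  · obtain ⟨A, hA⟩ := (exists_sl_orders (K := K)).2
    obtain ⟨x, hx⟩ := exists_orderOf_right (k := k) (plus A)
    refine ⟨x, ?_⟩
    rw [hx, orderOf_eq_mat, plus_val]
    exact orderOf_rep (p := 3) _ _ hker (by rw [hA, hK]; simp [gfac]; omega)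

/-- The maximal orders. -/
theorem exists_group (ha : Odd a) (h3 : 3 ≤ a) :
    ∃ (H : Type) (_ : Group H) (_ : Fintype H), (∃ P : Subgroup H, P.Normal ∧ P ≠ ⊥ ∧ IsPGroup 3 ↥P) ∧
      {n : ℕ | n ∈ Set.range (orderOf : H → ℕ) ∧ ∀ m ∈ Set.range (orderOf : H → ℕ), n ∣ m → m = n} =
        ({6, 9, 3 ^ a - 1, (3 ^ a + 1) / 2} : Set ℕ) := by
  classical
  obtain ⟨h4, h8, hm3, h27⟩ := arith ha h3
  let K' := GaloisField 3 a
  haveI : Finite K' := inferInstance
  letI : Fintype K' := Fintype.ofFinite K'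
  have hK : Nat.card K' = 3 ^ a := GaloisField.card 3 a (by omega)
  let H := Ext 1 (W K')
  haveI : Finite H := Finite.of_equiv _ SemidirectProduct.equivProd.symm
  letI : Fintype H := Fintype.ofFinite H
  refine ⟨H, inferInstance, inferInstance, ⟨(SemidirectProduct.inl : _ →* H).range, ?_, ?_, ?_⟩, ?_⟩
  · rw [SemidirectProduct.range_inl_eq_ker_rightHom]; infer_instance
  · intro e
    have e' := (MonoidHom.range_eq_bot_iff.1 e)
    have := SemidirectProduct.inl_injective (φ := act 1 (W K'))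
      (a₁ := Multiplicative.ofAdd fun _ _ => (1 : K')) (a₂ := 1) (by rw [DFunLike.congr_fun e' _, map_one]; rfl)
    simpa using congrFun (congrFun (congrArg Multiplicative.toAdd this) 0) (0, 0)
  · rintro ⟨_, v, rfl⟩
    refine ⟨1, Subtype.ext ?_⟩
    show SemidirectProduct.inl v ^ (3 ^ 1) = (1 : H)
    rw [← map_pow, show v ^ (3 ^ 1) = 1 from ?_, map_one]
    apply Multiplicative.toAdd.injective
    funext i j
    simp only [pow_one, toAdd_pow, Pi.smul_apply, nsmul_eq_mul, CharP.cast_eq_zero, zero_mul, toAdd_one,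
      Pi.zero_apply]
  · set S : Finset ℕ := {6, 9, 3 ^ a - 1, (3 ^ a + 1) / 2} with hS
    have hlow : ∀ m ∈ S, m ∈ Set.range (orderOf : H → ℕ) := fun m hm => lower ha h3 hK one_pos hm
    have hup : ∀ m ∈ Set.range (orderOf : H → ℕ), ∃ m' ∈ S, m ∣ m' := by
      rintro _ ⟨x, rfl⟩
      obtain ⟨m, hm, e⟩ := upper ha h3 hK x
      exact ⟨m, hm, orderOf_dvd_of_pow_eq_one e⟩
    have hanti : ∀ m ∈ S, ∀ m' ∈ S, m ∣ m' → m' = m := by
      have e1 : ¬ (3 ^ a + 1) / 2 ∣ 3 ^ a - 1 := fun e => by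
        have h2 : (3 ^ a + 1) / 2 ∣ 2 := by
          have := Nat.dvd_sub (dvd_mul_left ((3 ^ a + 1) / 2) 2) e
          rwa [show 2 * ((3 ^ a + 1) / 2) - (3 ^ a - 1) = 2 by omega] at this
        have := Nat.le_of_dvd two_pos h2
        omega
      intro m hm m' hm' hdvd
      have hle : m ≤ m' := Nat.le_of_dvd (by
        simp only [hS, Finset.mem_insert, Finset.mem_singleton] at hm'; omega) hdvd
      simp only [hS, Finset.mem_insert, Finset.mem_singleton] at hm hm'
      rcases hm with rfl | rfl | rfl | rfl <;> rcases hm' with rfl | rfl | rfl | rfl <;>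
        first | rfl | omega | exact absurd hdvd e1
    ext n
    simp only [Set.mem_setOf_eq, Set.mem_insert_iff, Set.mem_singleton_iff]
    rw [show (n = 6 ∨ n = 9 ∨ n = 3 ^ a - 1 ∨ n = (3 ^ a + 1) / 2) ↔ n ∈ S by simp [hS]]
    constructor
    · rintro ⟨hn, hmax⟩
      obtain ⟨m, hm, hd⟩ := hup n hn
      exact hmax m (hlow m hm) hd ▸ hm
    · intro hn
      refine ⟨hlow n hn, fun m hm hd => ?_⟩
      obtain ⟨m', hm', hd'⟩ := hup m hm
      have := hanti n hn m' hm' (hd.trans hd')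
      subst this
      exact Nat.dvd_antisymm hd' hd

end Cfsg.Agent.TruncatedReeSpectrum
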