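import Cfsg.Agent.Lib.PermMultiTrans
import Cfsg.Agent.Lib.PermJordan
import Cfsg.Agent.Lib.Marggraf
import Mathlib

/-!
A five times transitive group of degree `m r + k` with `m ≤ 3`, `k ≤ 4`, `r > k` prime and
`m! < k!` contains the alternating group: the normaliser of a Sylow `r`-subgroup of the stabiliser
of `k` points induces the symmetric group on these points, and a suitable commutator in it has an
`r`-th power with support among them.
-/

set_option autoImplicit false
set_option maxHeartbeats 400000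

open MulAction

namespace Cfsg.Agent.TwinPrimeDegree39

variable {G Ω : Type*} [Group G] [Finite G] [MulAction G Ω] [FaithfulSMul G Ω]
  [Fintype Ω] [DecidableEq Ω]

/-- An element of an `r`-group whose moved points lie in one orbit of length `r` gives a small
Jordan set. -/
theorem alternating_of_orbit_support {r : ℕ} [hr : Fact r.Prime] (hprim : IsPreprimitive G Ω)
    (h2r : 2 * r < Fintype.card Ω) (h : G) (hh : IsPGroup r (Subgroup.zpowers h)) (h1 : h ≠ 1)
    (Γ : Finset Ω) (hΓ : Γ.card = r) (hstab : ∀ z, h • z ≠ z → z ∈ Γ) :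
    alternatingGroup Ω ≤ (MulAction.toPermHom G Ω).range := by
  haveI := hprim
  obtain ⟨z, hz⟩ : ∃ z : Ω, h • z ≠ z := by
    by_contra hc
    push Not at hc
    exact h1 (eq_of_smul_eq_smul (α := Ω) fun x => by rw [hc, one_smul])
  have hout : ∀ (i : ℤ) w, w ∉ Γ → (h ^ i) • w = w := by
    intro i w hw
    have hfix : h • w = w := not_not.mp fun hc => hw (hstab w hc)
    exact (Subgroup.zpow_mem (stabilizer G w) (mem_stabilizer_iff.mpr hfix) i)
  have hsub : orbit (Subgroup.zpowers h) z ⊆ (Γ : Set Ω) := by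
    rintro _ ⟨⟨g, hg⟩, rfl⟩
    obtain ⟨i, rfl⟩ := Subgroup.mem_zpowers_iff.mp hg
    change (h ^ i) • z ∈ Γ
    by_contra hc
    have h2 := hout (-i) _ hc
    rw [zpow_neg, inv_smul_smul] at h2
    exact hc (h2 ▸ hstab z hz)
  obtain ⟨n, hn⟩ := hh.card_orbit z
  have hle : Nat.card (orbit (Subgroup.zpowers h) z) ≤ r := by
    rw [Nat.card_coe_set_eq, ← hΓ, ← Set.ncard_coe_finset]
    exact Set.ncard_le_ncard hsub
  have hgt : 1 < Nat.card (orbit (Subgroup.zpowers h) z) := by
    rw [Nat.card_coe_set_eq]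
    exact (Set.one_lt_ncard).mpr ⟨z, mem_orbit_self z, h • z,
      ⟨⟨h, Subgroup.mem_zpowers h⟩, rfl⟩, hz.symm⟩
  have hn1 : n = 1 := by
    rcases n with _ | _ | n
    · rw [hn, pow_zero] at hgt; omega
    · rfl
    · exfalso
      have h2 : r ^ 2 ≤ r ^ (n + 1 + 1) := Nat.pow_le_pow_right hr.out.pos (by omega)
      have h3 : r * 2 ≤ r * r := Nat.mul_le_mul_left r hr.out.two_le
      rw [hn] at hle
      rw [sq] at h2
      have := hr.out.pos
      omega
  have heq : orbit (Subgroup.zpowers h) z = (Γ : Set Ω) := by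
    refine Set.eq_of_subset_of_ncard_le hsub ?_
    rw [Set.ncard_coe_finset, hΓ, ← Nat.card_coe_set_eq, hn, hn1, pow_one]
  have hJ : Marggraf.IsJordan G Γ := by
    intro a ha b hb
    obtain ⟨⟨g, hg⟩, hga⟩ : a ∈ orbit (Subgroup.zpowers h) z := by rw [heq]; exact ha
    obtain ⟨⟨g', hg'⟩, hgb⟩ : b ∈ orbit (Subgroup.zpowers h) z := by rw [heq]; exact hb
    refine ⟨g' * g⁻¹, fun w hw => ?_, ?_⟩
    · obtain ⟨i, rfl⟩ := Subgroup.mem_zpowers_iff.mp hg
      obtain ⟨j, rfl⟩ := Subgroup.mem_zpowers_iff.mp hg'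
      rw [← zpow_neg, ← zpow_add]
      exact hout _ w hw
    · change g • z = a at hga
      change g' • z = b at hgb
      rw [mul_smul, ← hga, inv_smul_smul, hgb]
  have hqp : ∀ N : Subgroup G, N.Normal → N ≠ ⊥ → MulAction.IsPretransitive ↥N Ω := by
    intro N hN hN1
    exact PermBasic.isPretransitive_of_normal N hN1
  intro σ hσ
  obtain ⟨x, hx⟩ := Marggraf.quasiprimitive_alternating hqp Γ hJ
    (by rw [hΓ]; exact hr.out.two_le) (by rw [hΓ]; exact h2r) σ
    (Equiv.Perm.mem_alternatingGroup.mp hσ)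
  exact ⟨x, hx⟩

/-- The action of a Sylow subgroup of the stabiliser of some points. -/
structure Shape {k : ℕ} (R : Subgroup G) (x0 : Fin k ↪ Ω) (r : ℕ) : Prop where
  pgroup : IsPGroup r R
  fix : ∀ g ∈ R, ∀ i, g • x0 i = x0 i
  card : ∀ y, y ∉ Set.range x0 → (orbit R y).ncard = r
  witt : ∀ σ : Equiv.Perm (Fin k), ∃ n ∈ Subgroup.normalizer (R : Set G), ∀ i, n • x0 i = x0 (σ i)

theorem exists_shape {k m r : ℕ} [hr : Fact r.Prime] (hm1 : 1 ≤ m) (hmr : m < r)
    [hk : IsMultiplyPretransitive G Ω k] [hk1 : IsMultiplyPretransitive G Ω (k + 1)]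
    (hcard : Fintype.card Ω = m * r + k) :
    ∃ (R : Subgroup G) (x0 : Fin k ↪ Ω), Shape R x0 r := by
  obtain ⟨x0⟩ := PermMultiTrans.nonempty_embedding (X := Ω) (k := k)
    (by rw [Nat.card_eq_fintype_card]; omega)
  set St := stabilizer G x0
  obtain ⟨P⟩ : Nonempty (Sylow r St) := inferInstance
  set R : Subgroup G := (P : Subgroup St).map St.subtype with hR
  have hRp : IsPGroup r R := P.2.map _
  have hRS : R ≤ St := Subgroup.map_subtype_le _
  refine ⟨R, x0, ⟨hRp, fun g hg i =>
    PermMultiTrans.mem_stabilizer_embedding.mp (hRS hg) i, ?_, ?_⟩⟩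
  · intro y hy
    obtain ⟨j, hj⟩ := hRp.card_orbit y
    rw [Nat.card_coe_set_eq] at hj
    have hout : orbit R y ⊆ (Set.range x0)ᶜ := by
      rintro _ ⟨⟨g, hg⟩, rfl⟩ ⟨i, hi⟩
      have h1 : g⁻¹ • x0 i = x0 i :=
        PermMultiTrans.mem_stabilizer_embedding.mp (hRS (R.inv_mem hg)) i
      rw [hi] at h1
      exact hy ⟨i, hi.trans (h1.symm.trans (inv_smul_smul g y))⟩
    have hle : (orbit R y).ncard ≤ m * r := by
      refine (Set.ncard_le_ncard hout).trans ?_
      rw [Set.ncard_compl, Set.ncard_range_of_injective x0.injective, Nat.card_eq_fintype_card,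
        Nat.card_eq_fintype_card, Fintype.card_fin, hcard]
      omega
    have hSt : (orbit St y).ncard = m * r := by
      have : orbit St y = (Set.range x0)ᶜ := by
        refine Set.Subset.antisymm ?_ ?_
        · rintro _ ⟨⟨g, hg⟩, rfl⟩ ⟨i, hi⟩
          refine hy ⟨i, MulAction.injective g ?_⟩
          change g • x0 i = g • y
          rw [PermMultiTrans.mem_stabilizer_embedding.mp hg i]
          exact hi
        · intro z hz
          have inj : ∀ w, w ∉ Set.range x0 →
              Function.Injective (Fin.snoc (⇑x0) w : Fin (k + 1) → Ω) :=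
            fun w hw => Fin.snoc_injective_iff.mpr ⟨x0.injective, hw⟩
          obtain ⟨g, hg⟩ := PermMultiTrans.isMultiplyPretransitive_iff_fun.1 hk1 _ _
            (inj y hy) (inj z hz)
          refine ⟨⟨g, PermMultiTrans.mem_stabilizer_embedding.mpr fun i => ?_⟩, ?_⟩
          · simpa using hg i.castSucc
          · simpa [Subgroup.smul_def] using hg (Fin.last k)
      rw [this, Set.ncard_compl, Set.ncard_range_of_injective x0.injective,
        Nat.card_eq_fintype_card, Nat.card_eq_fintype_card, Fintype.card_fin, hcard]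
      omega
    have hj0 : j ≠ 0 := by
      rintro rfl
      rw [pow_zero] at hj
      have h1 : r * Nat.card (stabilizer R y) ∣ Nat.card St := by
        have h2 := PermBasic.card_orbit_mul_card_stabilizer (G := St) y
        rw [Nat.card_coe_set_eq, hSt] at h2
        rw [← h2, mul_assoc]
        refine Dvd.dvd.trans ?_ (dvd_mul_left _ m)
        refine Nat.mul_dvd_mul_left r ?_
        refine Subgroup.card_dvd_of_injective
          (((Subgroup.inclusion hRS).comp (stabilizer R y).subtype).codRestrict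
            (stabilizer St y) (fun g => g.2)) ?_
        intro a b hab
        exact Subtype.ext (Subgroup.inclusion_injective hRS (congrArg Subtype.val hab))
      have h3 := PermBasic.card_orbit_mul_card_stabilizer (G := R) y
      rw [Nat.card_coe_set_eq, hj, one_mul] at h3
      rw [h3, hR, Subgroup.card_map_of_injective St.subtype_injective,
        P.card_eq_multiplicity, ← pow_succ'] at h1
      exact absurd ((hr.out.pow_dvd_iff_le_factorization Nat.card_pos.ne').mp h1) (by omega)
    have hj1 : j = 1 := by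
      rcases j with _ | _ | j
      · exact absurd rfl hj0
      · rfl
      · exfalso
        have h2 : r ^ 2 ≤ r ^ (j + 1 + 1) := Nat.pow_le_pow_right hr.out.pos (by omega)
        have h3 : m * r < r * r := Nat.mul_lt_mul_of_pos_right hmr hr.out.pos
        rw [hj] at hle
        rw [sq] at h2
        omega
    rw [hj, hj1, pow_one]
  · intro σ
    obtain ⟨n, hn, hn'⟩ := PermMultiTrans.exists_mem_normalizer_smul_eq (X := Fin k ↪ Ω) P
      (b := σ.toEmbedding.trans x0) (fun q _ => DFunLike.ext _ _ fun i =>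
        PermMultiTrans.mem_stabilizer_embedding.mp q.2 (σ i))
    exact ⟨n, hn, fun i => DFunLike.congr_fun hn' i⟩

/-- The conclusion from the shape of the Sylow subgroup. -/
theorem alternating_of_shape {k m r : ℕ} [hr : Fact r.Prime] (hk3 : 3 ≤ k) (hk4 : k ≤ 4)
    (hm : m ≤ 3) (hmk : m.factorial < k.factorial) (hrk : k < r)
    (hcard : Fintype.card Ω = m * r + k) (h2r : 2 * r < Fintype.card Ω)
    (h5 : IsMultiplyPretransitive G Ω 5) (R : Subgroup G) (x0 : Fin k ↪ Ω) (S : Shape R x0 r) :
    alternatingGroup Ω ≤ (MulAction.toPermHom G Ω).range := by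
  classical
  by_contra hA
  haveI h2 : IsMultiplyPretransitive G Ω 2 :=
    isMultiplyPretransitive_of_le (G := G) (α := Ω) (n := 5) (by omega)
      (by simp only [Nat.card_eq_fintype_card]; omega)
  have hprim : IsPreprimitive G Ω := isPreprimitive_of_is_two_pretransitive inferInstance
  let Mv : Finset Ω := Finset.univ.filter fun y => y ∉ Set.range x0
  have hMv : ∀ y, y ∈ Mv ↔ y ∉ Set.range x0 := fun y => by simp [Mv]
  let orb : Ω → Finset Ω := fun y => (orbit R y).toFinset
  have horb : ∀ y z, z ∈ orb y ↔ z ∈ orbit R y := fun y z => Set.mem_toFinset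
  have horbc : ∀ y, y ∈ Mv → (orb y).card = r := fun y hy => by
    rw [← Set.ncard_eq_toFinset_card']; exact S.card y ((hMv y).mp hy)
  have horbeq : ∀ y z, z ∈ orb y → orb z = orb y := fun y z hz => by
    ext w; rw [horb, horb, orbit_eq_iff.mpr ((horb y z).mp hz)]
  have hRfixM : ∀ g ∈ R, ∀ y, y ∈ Mv → g • y ∈ Mv := fun g hg y hy => by
    rw [hMv] at hy ⊢
    rintro ⟨i, hi⟩
    exact hy ⟨i, MulAction.injective g ((S.fix g hg i).trans hi)⟩
  -- at most `m` orbits
  let Qs : Finset (Finset Ω) := Mv.image orb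
  have hQs : Qs.card ≤ m := by
    have h1 : Mv.card = Qs.card * r := by
      rw [Finset.card_eq_sum_card_fiberwise (f := orb) (t := Qs)
        (fun y hy => Finset.mem_image_of_mem orb hy), Finset.sum_congr rfl fun O hO => ?_,
        Finset.sum_const, smul_eq_mul]
      obtain ⟨y, hy, rfl⟩ := Finset.mem_image.mp hO
      rw [← horbc y hy]
      congr 1
      ext z
      rw [Finset.mem_filter]
      constructor
      · rintro ⟨-, hz⟩
        rw [← hz, horb]; exact mem_orbit_self z
      · intro hz
        refine ⟨?_, horbeq y z hz⟩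
        obtain ⟨g, rfl⟩ := (horb y z).mp hz
        exact hRfixM g g.2 y hy
    have h2 : Mv.card = m * r := by
      have : Mv = (Finset.univ.map x0)ᶜ := by ext y; simp [hMv]
      rw [this, Finset.card_compl, Finset.card_map, Finset.card_univ, Fintype.card_fin, hcard]
      omega
    exact le_of_eq (Nat.eq_of_mul_eq_mul_right hr.out.pos (h1.symm.trans h2))
  -- an element of `R` fixing all moved points is trivial
  have htriv : ∀ g ∈ R, (∀ y, y ∈ Mv → g • y = y) → g = 1 := by
    intro g hg h
    refine eq_of_smul_eq_smul (α := Ω) fun x => ?_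
    rw [one_smul]
    by_cases hx : x ∈ Mv
    · exact h x hx
    · rw [hMv, not_not] at hx
      obtain ⟨i, rfl⟩ := hx
      exact S.fix g hg i
  -- no element of `R` moves points of a single orbit only
  have hsingle : ∀ g ∈ R, ∀ z ∈ Mv, (∀ y, y ∈ Mv → y ∉ orb z → g • y = y) → g = 1 := by
    intro g hg z hz h
    by_contra hg1
    refine hA (alternating_of_orbit_support hprim h2r g
      (S.pgroup.to_le (Subgroup.zpowers_le.mpr hg)) hg1 (orb z) (horbc z hz) fun w hw => ?_)
    by_contra hwz
    by_cases hwM : w ∈ Mv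
    · exact hw (h w hwM hwz)
    · rw [hMv, not_not] at hwM
      obtain ⟨i, rfl⟩ := hwM
      exact hw (S.fix g hg i)
  -- stabilisers in `R`
  have hidx : ∀ y ∈ Mv, (stabilizer R y).index = r := fun y hy => by
    rw [index_stabilizer]; exact S.card y ((hMv y).mp hy)
  have hnormal : ∀ y ∈ Mv, (stabilizer R y).Normal := fun y hy => by
    refine Subgroup.normal_of_index_eq_minFac_card ?_
    obtain ⟨a, ha⟩ := IsPGroup.iff_card.mp S.pgroup
    rw [hidx y hy, ha, hr.out.pow_minFac]
    rintro rfl
    have h1 := Subgroup.index_dvd_card (stabilizer R y)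
    rw [hidx y hy, ha, pow_zero, Nat.dvd_one] at h1
    exact hr.out.ne_one h1
  have hfixorb : ∀ y ∈ Mv, ∀ g : R, g • y = y → ∀ z ∈ orb y, g • z = z := by
    intro y hy g hg z hz
    obtain ⟨a, rfl⟩ := (horb y z).mp hz
    have h1 : a⁻¹ * g * a ∈ stabilizer R y := by
      simpa using (hnormal y hy).conj_mem g (mem_stabilizer_iff.mpr hg) a⁻¹
    rw [mem_stabilizer_iff, mul_smul, mul_smul, inv_smul_eq_iff] at h1
    exact h1
  have hpowr : ∀ g : R, ∀ y ∈ Mv, (g ^ r) • y = y := fun g y hy => by
    haveI := hnormal y hy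
    have := Subgroup.pow_index_mem (stabilizer R y) g
    rw [hidx y hy] at this
    exact this
  have hcomm : ∀ a b : R, a * b = b * a := by
    intro a b
    refine mul_inv_eq_one.mp (Subtype.ext (htriv _ (Subtype.prop _) fun y hy => ?_))
    haveI := hnormal y hy
    have hc : Nat.card (R ⧸ stabilizer R y) = r := hidx y hy
    haveI : IsCyclic (R ⧸ stabilizer R y) := isCyclic_of_prime_card hc
    letI := IsCyclic.commGroup (α := R ⧸ stabilizer R y)
    have h1 : (QuotientGroup.mk (a * b * (b * a)⁻¹) : R ⧸ stabilizer R y) = 1 := by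
      push_cast [QuotientGroup.mk_mul, QuotientGroup.mk_inv]
      rw [mul_comm (QuotientGroup.mk a : R ⧸ stabilizer R y), mul_inv_cancel]
    exact (QuotientGroup.eq_one_iff _).mp h1
  -- two inequivalent points
  have htwo : ∀ x ∈ Mv, ∀ y ∈ Mv, y ∉ orb x → ∀ g : R, g • x = x → g • y = y → g = 1 := by
    intro x hx y hy hxy g hgx hgy
    by_contra hg1
    obtain ⟨z, hz, hgz⟩ : ∃ z ∈ Mv, g • z ≠ z := by
      by_contra hc
      push Not at hc
      exact hg1 (Subtype.ext (htriv g g.2 fun y hy => hc y hy))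
    refine hg1 (Subtype.ext (hsingle g g.2 z hz fun w hw hwz => ?_))
    by_contra hgw
    have hne : ∀ u ∈ Mv, g • u = u → ∀ v, g • v ≠ v → orb v ≠ orb u := fun u hu hgu v hgv he =>
      hgv (hfixorb u hu g hgu v (by rw [← he, horb]; exact mem_orbit_self v))
    have hsub : ({orb x, orb y, orb z, orb w} : Finset (Finset Ω)) ⊆ Qs := by
      intro O hO
      simp only [Finset.mem_insert, Finset.mem_singleton] at hO
      rcases hO with rfl | rfl | rfl | rfl <;> exact Finset.mem_image_of_mem orb ‹_›
    have h4 : ({orb x, orb y, orb z, orb w} : Finset (Finset Ω)).card = 4 := by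
      have e1 : orb x ≠ orb y := fun he => hxy (by rw [he, horb]; exact mem_orbit_self y)
      have e2 : orb x ≠ orb z := (hne x hx hgx z hgz).symm
      have e3 : orb x ≠ orb w := (hne x hx hgx w hgw).symm
      have e4 : orb y ≠ orb z := (hne y hy hgy z hgz).symm
      have e5 : orb y ≠ orb w := (hne y hy hgy w hgw).symm
      have e6 : orb z ≠ orb w := fun he => hwz (by rw [he, horb]; exact mem_orbit_self w)
      simp [Finset.card_insert_of_notMem, e1, e2, e3, e4, e5, e6]
    have := Finset.card_le_card hsub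
    omega
  -- the normaliser
  set N := Subgroup.normalizer (R : Set G) with hN
  have hNorb : ∀ n ∈ N, ∀ y z, z ∈ orb y → n • z ∈ orb (n • y) := by
    intro n hn y z hz
    obtain ⟨a, rfl⟩ := (horb y z).mp hz
    rw [horb]
    refine ⟨⟨n * a * n⁻¹, (Subgroup.mem_normalizer_iff.mp hn a).mp a.2⟩, ?_⟩
    change (n * (a : G) * n⁻¹) • n • y = n • (a : G) • y
    rw [mul_smul, mul_smul, inv_smul_smul]
  have hNorbimg : ∀ n ∈ N, ∀ y, (orb y).image (n • ·) = orb (n • y) := by
    intro n hn y
    ext z
    rw [Finset.mem_image]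
    constructor
    · rintro ⟨w, hw, rfl⟩; exact hNorb n hn y w hw
    · intro hz
      refine ⟨n⁻¹ • z, ?_, smul_inv_smul n z⟩
      simpa using hNorb n⁻¹ (N.inv_mem hn) _ _ hz
  have hNM : ∀ n ∈ N, ∀ y ∈ Mv, n • y ∈ Mv := by
    intro n hn y hy
    rw [hMv]
    rintro ⟨i, hi⟩
    have h1 := horbc y hy
    have h2 : orb (n • y) ⊆ {n • y} := by
      intro w hw
      obtain ⟨a, rfl⟩ := (horb _ w).mp hw
      rw [Finset.mem_singleton]
      change (a : G) • n • y = n • y
      rw [← hi]; exact S.fix a a.2 i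
    have h3 := Finset.card_le_card h2
    rw [← hNorbimg n hn, Finset.card_image_of_injective _ (MulAction.injective n), h1,
      Finset.card_singleton] at h3
    have := hr.out.two_le
    omega
  let L : G → Prop := fun n => n ∈ N ∧ ∀ y ∈ Mv, n • y ∈ orb y
  -- elements fixing all orbits act on `R` as powers
  have hscalar : ∀ w, L w →
      ∃ e : ℤ, (∀ h' : R, w * (h' : G) * w⁻¹ = ((h' ^ e : R) : G)) := by
    rintro w ⟨hwN, hw⟩
    let c : R →* R :=
      { toFun := fun h => ⟨w * h * w⁻¹, (Subgroup.mem_normalizer_iff.mp hwN h).mp h.2⟩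
        map_one' := Subtype.ext (by simp)
        map_mul' := fun a b => Subtype.ext (by simp [mul_assoc]) }
    have hck : ∀ y ∈ Mv, ∀ g : R, g • y = y → c g • y = y := by
      intro y hy g hg
      have h1 : c g • (w • y) = w • y := by
        change (w * (g : G) * w⁻¹) • w • y = w • y
        rw [mul_smul, mul_smul, inv_smul_smul]
        exact congrArg (w • ·) hg
      exact hfixorb (w • y) (hNM w hwN y hy) (c g) h1 y
        (by rw [horbeq y _ (hw y hy), horb]; exact mem_orbit_self y)
    have hloc : ∀ y ∈ Mv, ∃ e : ℤ, ∀ g : R, ((g ^ e)⁻¹ * c g) • y = y := by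
      intro y hy
      haveI := hnormal y hy
      have hc : Nat.card (R ⧸ stabilizer R y) = r := hidx y hy
      haveI : IsCyclic (R ⧸ stabilizer R y) := isCyclic_of_prime_card hc
      obtain ⟨e, he⟩ := MonoidHom.map_cyclic
        (QuotientGroup.map (stabilizer R y) (stabilizer R y) c fun g hg => hck y hy g hg)
      refine ⟨e, fun g => ?_⟩
      have h1 := he (QuotientGroup.mk g)
      change (QuotientGroup.mk (c g) : R ⧸ stabilizer R y) = (QuotientGroup.mk g) ^ e at h1
      rw [← QuotientGroup.mk_zpow, eq_comm, QuotientGroup.eq] at h1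
      exact h1
    suffices h : ∃ e : ℤ, ∀ g : R, c g = g ^ e by
      obtain ⟨e, he⟩ := h
      exact ⟨e, fun g => congrArg Subtype.val (he g)⟩
    by_cases hbot : ∃ y ∈ Mv, ∀ g : R, g • y = y → g = 1
    · obtain ⟨y, hy, hb⟩ := hbot
      obtain ⟨e, he⟩ := hloc y hy
      exact ⟨e, fun g => (inv_mul_eq_one.mp (hb _ (he g))).symm⟩
    push Not at hbot
    obtain ⟨y0, hy0⟩ : Mv.Nonempty := by
      rw [Finset.nonempty_iff_ne_empty]
      intro h0
      have hcl : Fintype.card Ω ≤ k := by
        rw [← Fintype.card_fin k]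
        exact Fintype.card_le_of_surjective x0 fun y => by
          by_contra hc
          exact (Finset.notMem_empty y) (h0 ▸ (hMv y).mpr hc)
      have := hr.out.two_le
      omega
    obtain ⟨e0, he0⟩ := hloc y0 hy0
    refine ⟨e0, fun g => Eq.symm (inv_mul_eq_one.mp
      (Subtype.ext (htriv _ (Subtype.prop _) fun y hy => ?_)))⟩
    by_cases hyy : y ∈ orb y0
    · exact hfixorb y0 hy0 _ (he0 g) y hyy
    obtain ⟨z, hz, hz0, hzy⟩ : ∃ z ∈ Mv, z ∉ orb y0 ∧ z ∉ orb y := by
      by_contra hc
      push Not at hc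
      obtain ⟨h, hh, hh1⟩ := hbot y hy
      refine hh1 (Subtype.ext (hsingle h h.2 y0 hy0 fun v hv hv0 => ?_))
      exact hfixorb y hy h hh v (hc v hv hv0)
    obtain ⟨h, hh, hh1⟩ := hbot z hz
    obtain ⟨e, he⟩ := hloc y hy
    have hchz : c h • z = z := hck z hz h hh
    have hpz : ∀ n : ℤ, (h ^ n) • z = z := fun n =>
      Subgroup.zpow_mem (stabilizer R z) (mem_stabilizer_iff.mpr hh) n
    have hy' : y ∉ orb z := fun hmem => hzy (by
      rw [horbeq z y hmem, horb]; exact mem_orbit_self z)
    have hy0' : y0 ∉ orb z := fun hmem => hz0 (by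
      rw [horbeq z y0 hmem, horb]; exact mem_orbit_self z)
    have h1 : c h = h ^ e := by
      refine (inv_mul_eq_one.mp (htwo z hz y hy hy' _ ?_ (he h))).symm
      rw [mul_smul, hchz, inv_smul_eq_iff]; exact (hpz e).symm
    have h2 : c h = h ^ e0 := by
      refine (inv_mul_eq_one.mp (htwo z hz y0 hy0 hy0' _ ?_ (he0 h))).symm
      rw [mul_smul, hchz, inv_smul_eq_iff]; exact (hpz e0).symm
    have hhy : h • y ≠ y := fun hc => hh1 (htwo z hz y hy hy' h hh hc)
    haveI := hnormal y hy
    have hc : Nat.card (R ⧸ stabilizer R y) = r := hidx y hy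
    have hgen : (QuotientGroup.mk g : R ⧸ stabilizer R y) ∈
        Subgroup.zpowers (QuotientGroup.mk h : R ⧸ stabilizer R y) := by
      rw [zpowers_eq_top_of_prime_card hc]
      · exact Subgroup.mem_top _
      · intro h0; exact hhy ((QuotientGroup.eq_one_iff h).mp h0)
    obtain ⟨n, hn⟩ := Subgroup.mem_zpowers_iff.mp hgen
    have hhe : (QuotientGroup.mk h : R ⧸ stabilizer R y) ^ e0 =
        (QuotientGroup.mk h : R ⧸ stabilizer R y) ^ e := by
      rw [← QuotientGroup.mk_zpow, ← QuotientGroup.mk_zpow, ← h2, h1]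
    have hq : (QuotientGroup.mk (g ^ e0) : R ⧸ stabilizer R y) = QuotientGroup.mk (g ^ e) := by
      rw [QuotientGroup.mk_zpow, QuotientGroup.mk_zpow]
      calc _ = ((QuotientGroup.mk h : R ⧸ stabilizer R y) ^ n) ^ e0 := by rw [hn]
        _ = ((QuotientGroup.mk h : R ⧸ stabilizer R y) ^ e0) ^ n := by
          rw [← zpow_mul, mul_comm, zpow_mul]
        _ = ((QuotientGroup.mk h : R ⧸ stabilizer R y) ^ e) ^ n := by rw [hhe]
        _ = ((QuotientGroup.mk h : R ⧸ stabilizer R y) ^ n) ^ e := by
          rw [← zpow_mul, mul_comm, zpow_mul]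
        _ = _ := by rw [hn]
    have hq2 : (QuotientGroup.mk (c g) : R ⧸ stabilizer R y) = QuotientGroup.mk (g ^ e) :=
      (QuotientGroup.eq.mpr (he g)).symm
    exact (QuotientGroup.eq.mp (hq.trans hq2.symm) :)
  -- the commutators
  have hex : ∃ w u, L w ∧ u ∈ N ∧ ∃ i, (w * u * w⁻¹ * u⁻¹) • x0 i ≠ x0 i := by
    by_contra hc
    push Not at hc
    have hLF : ∀ w, L w → ∀ i, w • x0 i = x0 i := by
      intro w hw i
      obtain ⟨j, hj⟩ : w • x0 i ∈ Set.range x0 := by
        by_contra hout
        have h2 := hNM w⁻¹ (N.inv_mem hw.1) _ ((hMv _).mpr hout)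
        rw [inv_smul_smul, hMv] at h2
        exact h2 ⟨i, rfl⟩
      by_contra hne
      have hij : j ≠ i := fun e => hne (e ▸ hj.symm)
      obtain ⟨l, hli, hlj⟩ : ∃ l : Fin k, l ≠ i ∧ l ≠ j := by
        by_contra hcl
        push Not at hcl
        have : (Finset.univ : Finset (Fin k)) ⊆ {i, j} := fun l _ => by
          rw [Finset.mem_insert, Finset.mem_singleton]
          by_cases h : l = i
          · exact Or.inl h
          · exact Or.inr (hcl l h)
        have h2 := Finset.card_le_card this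
        rw [Finset.card_univ, Fintype.card_fin] at h2
        have := Finset.card_le_two (a := i) (b := j)
        omega
      obtain ⟨u, hu, hu'⟩ := S.witt (Equiv.swap j l)
      have hul : u⁻¹ • x0 l = x0 j := by
        rw [inv_smul_eq_iff, hu', Equiv.swap_apply_left]
      have hwj : w⁻¹ • x0 j = x0 i := by rw [inv_smul_eq_iff, hj]
      have h3 := hc w u hw hu l
      rw [mul_smul, mul_smul, mul_smul, hul, hwj, hu',
        Equiv.swap_apply_of_ne_of_ne hij.symm hli.symm, ← hj] at h3
      exact hlj (x0.injective h3).symm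
    choose n hn hn' using S.witt
    have hmaps : ∀ σ, ∀ O ∈ Qs, O.image (n σ • ·) ∈ Qs := by
      intro σ O hO
      obtain ⟨y, hy, rfl⟩ := Finset.mem_image.mp hO
      rw [hNorbimg _ (hn σ)]
      exact Finset.mem_image_of_mem orb (hNM _ (hn σ) y hy)
    let F : Equiv.Perm (Fin k) → (↥Qs ↪ ↥Qs) := fun σ =>
      ⟨fun O => ⟨_, hmaps σ O O.2⟩, fun O O' h => Subtype.ext
        (Finset.image_injective (MulAction.injective (n σ)) (congrArg Subtype.val h))⟩
    have hF : Function.Injective F := by
      intro σ τ hστ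
      have hLw : L ((n τ)⁻¹ * n σ) := by
        refine ⟨N.mul_mem (N.inv_mem (hn τ)) (hn σ), fun y hy => ?_⟩
        have h1 := congrArg Subtype.val (DFunLike.congr_fun hστ
          ⟨orb y, Finset.mem_image_of_mem orb hy⟩)
        change (orb y).image (n σ • ·) = (orb y).image (n τ • ·) at h1
        have h2 : n σ • y ∈ (orb y).image (n τ • ·) := by
          rw [← h1]; exact Finset.mem_image_of_mem _ ((horb y y).mpr (mem_orbit_self y))
        obtain ⟨z, hz, hzy⟩ := Finset.mem_image.mp h2
        rw [mul_smul, inv_smul_eq_iff.mpr hzy.symm]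
        exact hz
      refine Equiv.ext fun i => x0.injective ?_
      have := hLF _ hLw i
      rw [mul_smul, inv_smul_eq_iff, hn', hn'] at this
      exact this
    have h1 := Fintype.card_le_of_injective F hF
    rw [Fintype.card_perm, Fintype.card_fin, Fintype.card_embedding_eq, Fintype.card_coe,
      Nat.descFactorial_self] at h1
    have := Nat.factorial_le hQs
    omega
  obtain ⟨w, u, hw, hu, i, hi⟩ := hex
  set c := w * u * w⁻¹ * u⁻¹ with hcdef
  obtain ⟨e, he⟩ := hscalar w hw
  have hcN : c ∈ N := N.mul_mem (N.mul_mem (N.mul_mem hw.1 hu) (N.inv_mem hw.1)) (N.inv_mem hu)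
  have hcent : ∀ a : R, c * a * c⁻¹ = a := by
    intro a
    let d : R := ⟨u⁻¹ * a * u, by
      simpa using (Subgroup.mem_normalizer_iff.mp (N.inv_mem hu) a).mp a.2⟩
    let b : R := ⟨w⁻¹ * d * w, by
      simpa using (Subgroup.mem_normalizer_iff.mp (N.inv_mem hw.1) d).mp d.2⟩
    let b' : R := ⟨u * b * u⁻¹, (Subgroup.mem_normalizer_iff.mp hu b).mp b.2⟩
    have h1 : ((b ^ e : R) : G) = d := by rw [← he b]; simp [b, mul_assoc]
    calc c * a * c⁻¹ = w * (b' : G) * w⁻¹ := by simp [hcdef, b', b, d, mul_assoc]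
      _ = u * ((b ^ e : R) : G) * u⁻¹ := by
        rw [he b', SubgroupClass.coe_zpow, SubgroupClass.coe_zpow]
        exact conj_zpow
      _ = a := by rw [h1]; simp [d, mul_assoc]
  have hcorb : ∀ y ∈ Mv, c • y ∈ orb y := by
    intro y hy
    have hwi : ∀ v ∈ Mv, w⁻¹ • v ∈ orb v := fun v hv => by
      have h1 := hNorb w⁻¹ (N.inv_mem hw.1) v (w • v) (hw.2 v hv)
      rw [inv_smul_smul] at h1
      rw [horbeq _ _ h1, horb]
      exact mem_orbit_self _
    have hv := hNM u⁻¹ (N.inv_mem hu) y hy
    have h1 := hNorb u hu _ _ (hwi _ hv)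
    rw [smul_inv_smul] at h1
    have h2 : u • w⁻¹ • u⁻¹ • y ∈ Mv :=
      hNM u hu _ (hNM w⁻¹ (N.inv_mem hw.1) _ hv)
    have h3 := hw.2 _ h2
    rw [horbeq _ _ h1] at h3
    rw [hcdef, mul_smul, mul_smul, mul_smul]
    exact h3
  have hcr : ∀ y ∈ Mv, (c ^ r) • y = y := by
    intro y hy
    obtain ⟨a, ha⟩ := (horb y _).mp (hcorb y hy)
    change (a : G) • y = c • y at ha
    have hn : ∀ j : ℕ, (c ^ j) • y = ((a : G) ^ j) • y := by
      intro j
      induction j with
      | zero => simp
      | succ j ih =>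
        have hcm : c * (a : G) ^ j = (a : G) ^ j * c := by
          have := hcent (a ^ j)
          rw [SubmonoidClass.coe_pow, mul_inv_eq_iff_eq_mul] at this
          exact this
        rw [pow_succ', mul_smul, ih, ← mul_smul, hcm, mul_smul, ← ha, ← mul_smul, ← pow_succ]
    rw [hn]
    exact hpowr a y hy
  -- the induced permutation of the fixed points
  have hcF : ∀ j, ∃ l, c • x0 j = x0 l := by
    intro j
    by_contra hout
    have h1 : c • x0 j ∈ Mv := (hMv _).mpr fun ⟨l, hl⟩ => hout ⟨l, hl.symm⟩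
    have h2 := hNM c⁻¹ (N.inv_mem hcN) _ h1
    rw [inv_smul_smul, hMv] at h2
    exact h2 ⟨j, rfl⟩
  choose π hπ using hcF
  have hπinj : Function.Injective π := fun a b h => x0.injective
    (MulAction.injective c (show c • x0 a = c • x0 b by rw [hπ, hπ, h]))
  let πe : Equiv.Perm (Fin k) := Equiv.ofBijective π (Finite.injective_iff_bijective.mp hπinj)
  have hpow : ∀ (j : ℕ) l, (c ^ j) • x0 l = x0 ((πe ^ j) l) := by
    intro j
    induction j with
    | zero => simp
    | succ j ih =>
      intro l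
      rw [pow_succ', mul_smul, ih, hπ, pow_succ', Equiv.Perm.mul_apply]
      rfl
  have hne : toPermHom G Ω (c ^ r) ≠ 1 := by
    intro h1
    have h2 : πe ^ r = 1 := Equiv.ext fun l => x0.injective (by
      rw [← hpow, Equiv.Perm.one_apply]
      exact DFunLike.congr_fun h1 (x0 l))
    have h3 : orderOf πe ∣ Nat.gcd r (Nat.card (Equiv.Perm (Fin k))) :=
      Nat.dvd_gcd (orderOf_dvd_of_pow_eq_one h2) (orderOf_dvd_natCard _)
    rw [Nat.card_perm, Nat.card_eq_fintype_card, Fintype.card_fin,
      Nat.coprime_iff_gcd_eq_one.mp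
        ((hr.out.coprime_iff_not_dvd).mpr fun h => by
          have := hr.out.dvd_factorial.mp h; omega), Nat.dvd_one, orderOf_eq_one_iff] at h3
    refine hi ((hπ i).trans ?_)
    have : πe i = i := by rw [h3]; rfl
    exact congrArg x0 this
  have hsupp : (toPermHom G Ω (c ^ r)).support.card ≤ k := by
    calc _ ≤ (Finset.univ.map x0).card := Finset.card_le_card fun y hy => by
          rw [Equiv.Perm.mem_support] at hy
          by_contra hy'
          refine hy (hcr y ((hMv y).mpr fun ⟨l, hl⟩ => hy' ?_))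
          exact Finset.mem_map.mpr ⟨l, Finset.mem_univ _, hl⟩
      _ = k := by simp
  haveI := h5
  obtain ⟨h, hh, hh1, hh3⟩ := PermJordan.exists_support_le_three
    (MulAction.toPermHom G Ω).range (k := 5) (by omega)
    (PermMultiTrans.isMultiplyPretransitive_range) _ ⟨_, rfl⟩ hne (by omega)
  haveI := PermMultiTrans.isMultiplyPretransitive_range (G := G) (X := Ω) (n := 2)
  exact hA (PermJordan.alternating_le_of_support_le_three
    (isPreprimitive_of_is_two_pretransitive inferInstance) hh hh1 hh3)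

end Cfsg.Agent.TwinPrimeDegree39
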