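import Mathlib
import Cfsg.Agent.Lib.PermMultiTrans

/-!
Tools for the groups of twin prime degree: a primitive group with a rank three point stabiliser
whose two suborbit lengths add up to an odd prime is doubly transitive; lifting transitivity from
the stabiliser of two points; a group of prime degree with a small Sylow normaliser is not the
symmetric group.
-/

set_option autoImplicit false

open MulAction

namespace Cfsg.Agent.TwinPrimeDegree39

theorem coprime_of_add_prime {k l q : ℕ} (hq : q.Prime) (h : k + l = q) (hk : 0 < k) (hl : 0 < l) :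
    Nat.Coprime k l := by
  rw [Nat.coprime_iff_gcd_eq_one]
  have h1 : Nat.gcd k l ∣ q := h ▸ dvd_add (Nat.gcd_dvd_left k l) (Nat.gcd_dvd_right k l)
  rcases (Nat.dvd_prime hq).mp h1 with h2 | h2
  · exact h2
  · have := Nat.le_of_dvd hk (h2 ▸ Nat.gcd_dvd_left k l); omega

section Rank3

variable {H X : Type*} [Group H] [MulAction H X] [Finite X]

/-- The short suborbit together with its point is a block. -/
theorem short_suborbit_false [IsPreprimitive H X] (b u v : X) (hu : u ≠ b) (hvb : v ≠ b)
    (hvu : v ∉ orbit (stabilizer H b) u)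
    (hcover : ∀ z, z ≠ b → z ∈ orbit (stabilizer H b) u ∨ z ∈ orbit (stabilizer H b) v)
    (hco : Nat.Coprime (orbit (stabilizer H b) u).ncard (orbit (stabilizer H b) v).ncard)
    (hlt : (orbit (stabilizer H b) u).ncard < (orbit (stabilizer H b) v).ncard) : False := by
  classical
  have := Fintype.ofFinite X
  set K := stabilizer H b with hKdef
  let E : X → X → Prop := fun x y => ∃ g : H, g • b = x ∧ g⁻¹ • y ∈ orbit K u
  let N : X → Finset X := fun x => Finset.univ.filter fun y => E x y
  have hfix : ∀ k : K, (k : H) • b = b := fun k => k.2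
  have hE : ∀ (h : H) x y, E x y → E (h • x) (h • y) := by
    rintro h x y ⟨g, hg, hy⟩
    exact ⟨h * g, by rw [mul_smul, hg], by rw [mul_inv_rev, mul_smul, inv_smul_smul]; exact hy⟩
  have hE' : ∀ (h : H) x y, E (h • x) (h • y) ↔ E x y := fun h x y =>
    ⟨fun e => by simpa using hE h⁻¹ _ _ e, hE h x y⟩
  have hEb : ∀ y, E b y ↔ y ∈ orbit K u := by
    intro y
    constructor
    · rintro ⟨g, hg, hy⟩
      have h2 : (⟨g, hg⟩ : K) • (g⁻¹ • y) = y := by
        change g • g⁻¹ • y = y
        rw [smul_inv_smul]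
      rw [← h2, ← orbit_eq_iff.mpr hy]
      exact mem_orbit _ _
    · exact fun hy => ⟨1, one_smul _ _, by simpa using hy⟩
  have hNs : ∀ (h : H) x, N (h • x) = (N x).image (h • ·) := by
    intro h x
    ext y
    simp only [N, Finset.mem_filter, Finset.mem_univ, true_and, Finset.mem_image]
    constructor
    · intro e
      exact ⟨h⁻¹ • y, by rw [← hE' h, smul_inv_smul]; exact e, smul_inv_smul _ _⟩
    · rintro ⟨z, hz, rfl⟩; exact hE h x z hz
  set O : Finset X := (orbit K u).toFinset with hO
  set L : Finset X := (orbit K v).toFinset with hL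
  have hOc : O.card = (orbit K u).ncard := by rw [Set.ncard_eq_toFinset_card']
  have hLc : L.card = (orbit K v).ncard := by rw [Set.ncard_eq_toFinset_card']
  have hNb : N b = O := by
    ext y; simp [N, O, hEb]
  have hNc : ∀ x, (N x).card = O.card := by
    intro x
    obtain ⟨g, rfl⟩ := exists_smul_eq H b x
    rw [hNs, Finset.card_image_of_injective _ (MulAction.injective g), hNb]
  -- invariance of the two parts
  have hsm : ∀ (w : X) (k : K) z, (k : H) • z ∈ orbit K w ↔ z ∈ orbit K w := fun w k z => by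
    constructor
    · intro hz
      have := mem_orbit_of_mem_orbit (k⁻¹ : K) hz
      rwa [show (k⁻¹ : K) • (k : H) • z = z from inv_smul_smul (k : H) z] at this
    · exact fun hz => mem_orbit_of_mem_orbit k hz
  have hmemO : ∀ (k : K) z, (k : H) • z ∈ O ↔ z ∈ O := by
    intro k z; simp only [O, Set.mem_toFinset]; exact hsm u k z
  have hmemL : ∀ (k : K) z, (k : H) • z ∈ L ↔ z ∈ L := by
    intro k z; simp only [L, Set.mem_toFinset]; exact hsm v k z
  let c := (L.filter fun y => E u y).card
  let μ := (O.filter fun x => E x v).card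
  have hc : ∀ x ∈ O, (L.filter fun y => E x y).card = c := by
    intro x hx
    obtain ⟨k, rfl⟩ := Set.mem_toFinset.mp hx
    refine (Finset.card_bij (fun y _ => (k : H) • y) ?_ ?_ ?_).symm
    · intro y hy
      simp only [Finset.mem_filter] at hy ⊢
      exact ⟨(hmemL k y).mpr hy.1, (hE' k u y).mpr hy.2⟩
    · intro y _ z _ h; exact MulAction.injective _ h
    · intro y hy
      simp only [Finset.mem_filter] at hy
      refine ⟨(k : H)⁻¹ • y, ?_, smul_inv_smul _ _⟩
      simp only [Finset.mem_filter]
      refine ⟨(hmemL k _).mp (by rw [smul_inv_smul]; exact hy.1), (hE' k u _).mp ?_⟩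
      rw [smul_inv_smul]; exact hy.2
  have hμ : ∀ y ∈ L, (O.filter fun x => E x y).card = μ := by
    intro y hy
    obtain ⟨k, rfl⟩ := Set.mem_toFinset.mp hy
    refine (Finset.card_bij (fun x _ => (k : H) • x) ?_ ?_ ?_).symm
    · intro x hx
      simp only [Finset.mem_filter] at hx ⊢
      exact ⟨(hmemO k x).mpr hx.1, (hE' k x v).mpr hx.2⟩
    · intro x _ z _ h; exact MulAction.injective _ h
    · intro x hx
      simp only [Finset.mem_filter] at hx
      refine ⟨(k : H)⁻¹ • x, ?_, smul_inv_smul _ _⟩
      simp only [Finset.mem_filter]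
      refine ⟨(hmemO k _).mp (by rw [smul_inv_smul]; exact hx.1), (hE' k _ v).mp ?_⟩
      rw [smul_inv_smul]; exact hx.2
  have hdc := Finset.sum_card_bipartiteAbove_eq_sum_card_bipartiteBelow (r := E) (s := O) (t := L)
  simp only [Finset.bipartiteAbove, Finset.bipartiteBelow] at hdc
  rw [Finset.sum_congr rfl hc, Finset.sum_congr rfl hμ, Finset.sum_const, Finset.sum_const,
    smul_eq_mul, smul_eq_mul] at hdc
  have hcle : c ≤ O.card := by
    rw [← hNc u]
    exact Finset.card_le_card fun y hy => by
      simp only [Finset.mem_filter] at hy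
      simp [N, hy.2]
  have hdvd : L.card ∣ c := by
    have : Nat.Coprime L.card O.card := by rw [hOc, hLc]; exact hco.symm
    exact this.dvd_of_dvd_mul_left ⟨μ, by rw [hdc]⟩
  have hc0 : c = 0 := Nat.eq_zero_of_dvd_of_lt hdvd (by omega)
  set B := insert b O with hB
  have hbO : b ∉ O := by
    simp only [O, Set.mem_toFinset]
    rintro ⟨k, hk⟩
    exact hu (MulAction.injective (k : H) (hk.trans (hfix k).symm))
  have hBx : ∀ x ∈ B, insert x (N x) = B := by
    intro x hx
    rcases Finset.mem_insert.mp hx with rfl | hxO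
    · rw [hNb]
    · refine Finset.eq_of_subset_of_card_le ?_ ?_
      · intro y hy
        rcases Finset.mem_insert.mp hy with rfl | hy
        · exact hx
        · simp only [N, Finset.mem_filter, Finset.mem_univ, true_and] at hy
          by_cases hyb : y = b
          · exact hyb ▸ Finset.mem_insert_self _ _
          rcases hcover y hyb with h | h
          · exact Finset.mem_insert_of_mem (Set.mem_toFinset.mpr h)
          · have h0 := hc x hxO
            rw [hc0, Finset.card_eq_zero] at h0
            exact absurd (Finset.mem_filter.mpr ⟨Set.mem_toFinset.mpr h, hy⟩)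
              (by rw [h0]; simp)
      · rw [Finset.card_insert_of_notMem hbO, Finset.card_insert_of_notMem ?_, hNc]
        simp only [N, Finset.mem_filter, Finset.mem_univ, true_and]
        rintro ⟨g, rfl, hg⟩
        rw [inv_smul_smul] at hg
        exact hbO (Set.mem_toFinset.mpr hg)
  have hblock : IsBlock H (B : Set X) := by
    rw [isBlock_iff_smul_eq_of_nonempty]
    intro g hg
    obtain ⟨z, hz1, hz2⟩ := hg
    obtain ⟨y, hy, rfl⟩ := hz1
    have h1 : B = B.image (g • ·) := by
      conv_rhs => rw [← hBx y hy, Finset.image_insert, ← hNs]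
      exact (hBx _ hz2).symm
    conv_rhs => rw [h1, Finset.coe_image]
    rfl
  rcases IsPreprimitive.isTrivialBlock_of_isBlock hblock with h | h
  · exact hu (h (Finset.mem_insert_of_mem (Set.mem_toFinset.mpr (mem_orbit_self u)))
      (Finset.mem_insert_self _ _))
  · have hv : v ∈ (B : Set X) := h ▸ Set.mem_univ _
    rcases Finset.mem_insert.mp hv with h | h
    · exact hvb h
    · exact hvu (Set.mem_toFinset.mp h)

theorem stabilizer_transitive_of_prime [IsPreprimitive H X] (b : X) {q : ℕ} (hq : q.Prime)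
    (hq2 : q ≠ 2) (hcard : Nat.card X = q + 1)
    (h3 : ∀ w : Fin 3 → X, (∀ i, w i ≠ b) →
      ∃ i j, i ≠ j ∧ ∃ g : H, g • b = b ∧ g • w i = w j)
    (u v : X) (hu : u ≠ b) (hv : v ≠ b) : ∃ g : H, g • b = b ∧ g • u = v := by
  classical
  have := Fintype.ofFinite X
  by_contra hne
  have hvu : v ∉ orbit (stabilizer H b) u := by
    rintro ⟨k, hk⟩; exact hne ⟨k, k.2, hk⟩
  have huv : u ∉ orbit (stabilizer H b) v := fun h => hvu (by
    rw [orbit_eq_iff.mpr h]; exact mem_orbit_self v)
  have hcover : ∀ z, z ≠ b →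
      z ∈ orbit (stabilizer H b) u ∨ z ∈ orbit (stabilizer H b) v := by
    intro z hz
    obtain ⟨i, j, hij, g, hgb, hg⟩ := h3 ![u, v, z]
      (fun i => by fin_cases i <;> assumption)
    let k : stabilizer H b := ⟨g, hgb⟩
    fin_cases i <;> fin_cases j <;> simp at hij hg
    · exact absurd ⟨k, hg⟩ hvu
    · exact Or.inl ⟨k, hg⟩
    · exact absurd ⟨k, hg⟩ huv
    · exact Or.inr ⟨k, hg⟩
    · exact Or.inl ⟨k⁻¹, show g⁻¹ • u = z by rw [inv_smul_eq_iff, hg]⟩
    · exact Or.inr ⟨k⁻¹, show g⁻¹ • v = z by rw [inv_smul_eq_iff, hg]⟩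
  have hnb : ∀ w : X, w ≠ b → b ∉ orbit (stabilizer H b) w := by
    rintro w hw ⟨k, hk⟩
    exact hw (MulAction.injective (k : H) (hk.trans k.2.symm))
  have hdis : Disjoint (orbit (stabilizer H b) u) (orbit (stabilizer H b) v) := by
    rw [Set.disjoint_left]
    intro z h1 h2
    exact huv (by rw [← orbit_eq_iff.mpr h2, orbit_eq_iff.mpr h1]; exact mem_orbit_self u)
  have hsum : (orbit (stabilizer H b) u).ncard + (orbit (stabilizer H b) v).ncard = q := by
    rw [← Set.ncard_union_eq hdis,
      show orbit (stabilizer H b) u ∪ orbit (stabilizer H b) v = {b}ᶜ from ?_,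
      Set.ncard_compl, Set.ncard_singleton, hcard]
    · rfl
    · ext z
      constructor
      · rintro (h | h) (rfl : z = b)
        · exact hnb u hu h
        · exact hnb v hv h
      · exact fun hz => hcover z hz
  have hk : 0 < (orbit (stabilizer H b) u).ncard := (Set.ncard_pos).mpr ⟨u, mem_orbit_self u⟩
  have hl : 0 < (orbit (stabilizer H b) v).ncard := (Set.ncard_pos).mpr ⟨v, mem_orbit_self v⟩
  have hco := coprime_of_add_prime hq hsum hk hl
  have hodd := hq.odd_of_ne_two hq2
  rcases Nat.lt_trichotomy (orbit (stabilizer H b) u).ncard (orbit (stabilizer H b) v).ncard with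
    h | h | h
  · exact short_suborbit_false b u v hu hv hvu hcover hco h
  · rw [h] at hsum; exact Nat.not_odd_iff_even.mpr ⟨_, hsum.symm⟩ hodd
  · exact short_suborbit_false b v u hv hu huv (fun z hz => (hcover z hz).symm) hco.symm h

end Rank3

section Lift

variable {G Ω : Type*} [Group G] [MulAction G Ω]

/-- Transitivity of the stabiliser of two points on tuples lifts to the whole group. -/
theorem lift_two {n : ℕ} (h2 : ∀ a b c d : Ω, a ≠ b → c ≠ d → ∃ g : G, g • a = c ∧ g • b = d)
    {a b : Ω} (hab : a ≠ b)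
    (h : ∀ x y : Fin n → Ω, Function.Injective x → Function.Injective y →
      (∀ i, x i ≠ a ∧ x i ≠ b) → (∀ i, y i ≠ a ∧ y i ≠ b) →
      ∃ g : G, g • a = a ∧ g • b = b ∧ ∀ i, g • x i = y i) :
    IsMultiplyPretransitive G Ω (n + 2) := by
  rw [PermMultiTrans.isMultiplyPretransitive_iff_fun]
  intro x y hx hy
  have h01 : (0 : Fin (n + 2)) ≠ Fin.succ 0 := (Fin.succ_ne_zero _).symm
  obtain ⟨g₁, hx0, hx1⟩ := h2 (x 0) (x (Fin.succ 0)) a b (hx.ne h01) hab
  obtain ⟨g₂, hy0, hy1⟩ := h2 (y 0) (y (Fin.succ 0)) a b (hy.ne h01) hab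
  have hss : Function.Injective fun i : Fin n => Fin.succ (Fin.succ i) :=
    (Fin.succ_injective _).comp (Fin.succ_injective _)
  obtain ⟨g, hga, hgb, hg⟩ := h (fun i => g₁ • x i.succ.succ) (fun i => g₂ • y i.succ.succ)
    ((MulAction.injective g₁).comp (hx.comp hss)) ((MulAction.injective g₂).comp (hy.comp hss))
    (fun i => ⟨hx0 ▸ (MulAction.injective g₁).ne (hx.ne (Fin.succ_ne_zero _)),
      hx1 ▸ (MulAction.injective g₁).ne (hx.ne fun h => Fin.succ_ne_zero _ (Fin.succ_injective _ h))⟩)
    (fun i => ⟨hy0 ▸ (MulAction.injective g₂).ne (hy.ne (Fin.succ_ne_zero _)),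
      hy1 ▸ (MulAction.injective g₂).ne (hy.ne fun h => Fin.succ_ne_zero _ (Fin.succ_injective _ h))⟩)
  refine ⟨g₂⁻¹ * (g * g₁), fun i => ?_⟩
  refine Fin.cases ?_ (fun j => Fin.cases ?_ (fun k => ?_) j) i
  · rw [mul_smul, mul_smul, hx0, hga, ← hy0, inv_smul_smul]
  · rw [mul_smul, mul_smul, hx1, hgb, ← hy1, inv_smul_smul]
  · rw [mul_smul, mul_smul, hg k, inv_smul_smul]

end Lift

/-- A group with a Sylow normaliser of order `p (p-1)/2` is not the symmetric group. -/
theorem card_ne_factorial {p : ℕ} [hp : Fact p.Prime] {G : Type*} [Group G] [Finite G]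
    (P : Sylow p G)
    (hN : 2 * Nat.card ↥(Subgroup.normalizer ((P : Subgroup G) : Set G)) = p * (p - 1)) :
    Nat.card G ≠ p.factorial := by
  intro hG
  have hp1 := hp.out.two_le
  have h1 : Nat.card (Sylow p G) ≡ 1 [MOD p] := card_sylow_modEq_one p G
  have h2 : Nat.card G =
      Nat.card ↥(Subgroup.normalizer ((P : Subgroup G) : Set G)) * Nat.card (Sylow p G) := by
    rw [Sylow.card_eq_index_normalizer P]
    exact (Subgroup.card_mul_index _).symm
  have h3 : p * (p - 1) * Nat.card (Sylow p G) = p * (p - 1) * (2 * (p - 2).factorial) := by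
    rw [← hN, mul_assoc, ← h2, hG, hN]
    have e1 : p.factorial = p * ((p - 1) * (p - 2).factorial) := by
      rw [← Nat.mul_factorial_pred (by omega : p ≠ 0),
        ← Nat.mul_factorial_pred (by omega : p - 1 ≠ 0)]
      congr 3
    rw [e1]; ring
  have h4 := Nat.eq_of_mul_eq_mul_left (by have : 0 < p - 1 := (by omega); positivity) h3
  have hw : (((p - 2).factorial : ℕ) : ZMod p) = 1 := by
    have hw := ZMod.wilsons_lemma p
    rw [← Nat.mul_factorial_pred (by omega : p - 1 ≠ 0), Nat.cast_mul,
      Nat.cast_sub (by omega : 1 ≤ p), ZMod.natCast_self, Nat.cast_one, zero_sub, neg_one_mul,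
      neg_inj] at hw
    exact hw
  have h5 : ((Nat.card (Sylow p G) : ℕ) : ZMod p) = ((1 : ℕ) : ZMod p) :=
    (ZMod.natCast_eq_natCast_iff _ _ _).mpr h1
  rw [h4, Nat.cast_mul, hw, Nat.cast_one, mul_one, Nat.cast_ofNat] at h5
  have h6 : (1 : ZMod p) = 0 := by linear_combination h5
  exact one_ne_zero h6

end Cfsg.Agent.TwinPrimeDegree39
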