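import Cfsg.Agent.Lib.TwinPrimeDegree39Basic
import Cfsg.Agent.Lib.PrimeDegreeHalfAction28
import Cfsg.Agent.S0676
import Cfsg.Agent.S3612
import Cfsg.Agent.S3616

/-!
An insoluble group of twin prime degree `p = q + 2` with Sylow normaliser of order `p (p-1)/2`
is five times transitive.
-/

set_option autoImplicit false
set_option maxHeartbeats 400000

open MulAction

namespace Cfsg.Agent.TwinPrimeDegree39

variable {G Ω : Type*} [Group G] [Finite G] [MulAction G Ω] [Finite Ω] [FaithfulSMul G Ω]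

/-- The image in the symmetric group is proper. -/
theorem range_ne_top {p : ℕ} [hp : Fact p.Prime] (hΩ : Nat.card Ω = p) (P : Sylow p G)
    (hN : 2 * Nat.card ↥(Subgroup.normalizer ((P : Subgroup G) : Set G)) = p * (p - 1)) :
    (MulAction.toPermHom G Ω).range ≠ ⊤ := by
  intro h
  refine card_ne_factorial P hN ?_
  rw [Nat.card_congr (MonoidHom.ofInjective (f := MulAction.toPermHom G Ω)
      MulAction.toPerm_injective).toEquiv, h, Nat.card_congr Subgroup.topEquiv.toEquiv,
    Nat.card_perm, hΩ]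

omit [Finite G] in
/-- Three-transitivity of a group of degree `p` when `p - 2` is an odd prime. -/
theorem three_of_twin [Finite G] {p q : ℕ} [hp : Fact p.Prime] (hΩ : Nat.card Ω = p)
    (htrans : MulAction.IsPretransitive G Ω) (hins : ¬ Group.IsSolvable G) (P : Sylow p G)
    (hN : 2 * Nat.card ↥(Subgroup.normalizer ((P : Subgroup G) : Set G)) = p * (p - 1))
    (hq : q.Prime) (hq5 : 5 < q) (hpq : p = q + 2) {a b u v : Ω} (hab : a ≠ b) (hua : u ≠ a)
    (hub : u ≠ b) (hva : v ≠ a) (hvb : v ≠ b) :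
    ∃ g : G, g • a = a ∧ g • b = b ∧ g • u = v := by
  have hprim := S3612.result p hp.out hΩ htrans hins P hN (by omega) a
  have hcard : Nat.card ↥(SubMulAction.ofStabilizer G a) = q + 1 := by
    have h1 : Nat.card ↥(SubMulAction.ofStabilizer G a) = ({a}ᶜ : Set Ω).ncard := by
      rw [← Nat.card_coe_set_eq]
      rfl
    rw [h1, Set.ncard_compl, Set.ncard_singleton, hΩ]
    omega
  obtain ⟨g, hg1, hg2⟩ := stabilizer_transitive_of_prime (H := stabilizer G a)
    (⟨b, hab.symm⟩ : SubMulAction.ofStabilizer G a) hq (by omega) hcard (fun w hw => by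
      obtain ⟨i, j, hij, g, h1, h2, h3⟩ := PrimeDegreeHalfAction28.two_orbits_action hΩ htrans
        hins P (dvd_of_eq hN.symm) hab (fun i => ((w i : SubMulAction.ofStabilizer G a) : Ω))
        (fun i => (w i).2) (fun i h => hw i (Subtype.ext h))
      exact ⟨i, j, hij, ⟨g, h1⟩, Subtype.ext h2, Subtype.ext h3⟩)
    ⟨u, hua⟩ ⟨v, hva⟩ (fun h => hub (congrArg Subtype.val h))
    (fun h => hvb (congrArg Subtype.val h))
  exact ⟨g, g.2, congrArg Subtype.val hg1, congrArg Subtype.val hg2⟩

/-- A solvable transitive group of prime degree has order dividing `q (q-1)`. -/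
theorem card_dvd_of_solvable {α : Type*} [Finite α] {q : ℕ} [hq : Fact q.Prime]
    (hα : Nat.card α = q) (K : Subgroup (Equiv.Perm α)) [MulAction.IsPretransitive K α]
    (hs : Group.IsSolvable K) : Nat.card K ∣ q * (q - 1) := by
  obtain ⟨t, ht, -, e, he⟩ := PermPrimeDegree.exists_translation hα K
  let φ := e.symm.permCongrHom
  have hT : Equiv.addRight (1 : ZMod q) ∈ K.map φ.toMonoidHom := by
    refine ⟨t, ht, Equiv.ext fun x => ?_⟩
    change e.symm (t (e x)) = x + 1
    rw [← he, Equiv.symm_apply_apply]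
  have hs' : Group.IsSolvable (K.map φ.toMonoidHom) := by
    haveI := hs
    exact Group.isSolvable_of_surjective
      (f := ((Subgroup.equivMapOfInjective K φ.toMonoidHom φ.injective).toMonoidHom))
      (Subgroup.equivMapOfInjective K φ.toMonoidHom φ.injective).surjective
  refine PrimeDegreeCoord.card_dvd_of_affine K e fun g hg => ?_
  obtain ⟨a, b, ha, hab⟩ := S3616.affine_of_solvable _ hT hs' _
    (Subgroup.mem_map_of_mem φ.toMonoidHom hg)
  refine ⟨a, b, ha, fun x => ?_⟩
  have h1 : e.symm (g (e x)) = a * x + b := hab x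
  exact (Equiv.symm_apply_eq e).mp h1

theorem arith_false {p q e : ℕ} (hp : p.Prime) (hq : q.Prime) (hq5 : 5 < q) (hpq : p = q + 2)
    (he : e ∣ q - 1) (hmod : 2 * (q * e) ≡ 1 [MOD p]) : False := by
  haveI : Fact p.Prime := ⟨hp⟩
  have h1 : ((4 * e + 1 : ℕ) : ZMod p) = 0 := by
    have h2 : ((2 * (q * e) : ℕ) : ZMod p) = ((1 : ℕ) : ZMod p) :=
      (ZMod.natCast_eq_natCast_iff _ _ _).mpr hmod
    have hqz : ((q : ℕ) : ZMod p) + 2 = 0 := by
      have h3 : ((q + 2 : ℕ) : ZMod p) = 0 := by rw [← hpq, ZMod.natCast_self]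
      push_cast at h3
      exact h3
    push_cast at h2 ⊢
    linear_combination (2 * (e : ZMod p)) * hqz - h2
  rw [ZMod.natCast_eq_zero_iff] at h1
  obtain ⟨j, hj⟩ := h1
  have hele : e ≤ q - 1 := Nat.le_of_dvd (by omega) he
  obtain ⟨d, hd⟩ := he
  have hj4 : j < 4 := by
    by_contra hc
    have : p * 4 ≤ p * j := Nat.mul_le_mul_left p (Nat.le_of_not_lt hc)
    omega
  interval_cases j
  · omega
  · -- `p = 4 e + 1`
    have h2 : e ∣ 4 * e - 2 := ⟨d, by omega⟩
    have h3 : e ∣ 2 := by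
      rcases Nat.eq_zero_or_pos e with rfl | hpos
      · omega
      have h4 := Nat.dvd_sub (dvd_mul_left e 4) h2
      rwa [show 4 * e - (4 * e - 2) = 2 by omega] at h4
    have := Nat.le_of_dvd two_pos h3
    interval_cases e
    · omega
    · omega
    · exact absurd ((show p = 9 by omega) ▸ hp) (by norm_num)
  · omega
  · -- `3 p = 4 e + 1`
    rcases Nat.lt_or_ge d 2 with hd2 | hd2
    · interval_cases d
      · omega
      · exact absurd ((show q = 9 by omega) ▸ hq) (by norm_num)
    · have : e * 2 ≤ e * d := Nat.mul_le_mul_left e hd2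
      omega

/-- The setwise stabiliser of two points. -/
def pairStab (G : Type*) [Group G] {Ω : Type*} [MulAction G Ω] (a b : Ω) : Subgroup G where
  carrier := {g | (g • a = a ∧ g • b = b) ∨ (g • a = b ∧ g • b = a)}
  one_mem' := Or.inl ⟨one_smul _ _, one_smul _ _⟩
  mul_mem' := by
    rintro g h (⟨g1, g2⟩ | ⟨g1, g2⟩) (⟨h1, h2⟩ | ⟨h1, h2⟩) <;>
      simp [mul_smul, h1, h2, g1, g2]
  inv_mem' := by
    rintro g (⟨g1, g2⟩ | ⟨g1, g2⟩)
    · exact Or.inl ⟨inv_smul_eq_iff.mpr g1.symm, inv_smul_eq_iff.mpr g2.symm⟩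
    · exact Or.inr ⟨inv_smul_eq_iff.mpr g2.symm, inv_smul_eq_iff.mpr g1.symm⟩

theorem pairStab_other {a b : Ω} {g : G} (hg : g ∈ pairStab G a b) (x : Ω) :
    (g • x ≠ a ∧ g • x ≠ b) ↔ (x ≠ a ∧ x ≠ b) := by
  rcases hg with ⟨g1, g2⟩ | ⟨g1, g2⟩
  · constructor <;> rintro ⟨h1, h2⟩
    · exact ⟨fun e => h1 (by rw [e, g1]), fun e => h2 (by rw [e, g2])⟩
    · exact ⟨fun e => h1 (MulAction.injective g (e.trans g1.symm)),
        fun e => h2 (MulAction.injective g (e.trans g2.symm))⟩
  · constructor <;> rintro ⟨h1, h2⟩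
    · exact ⟨fun e => h2 (by rw [e, g1]), fun e => h1 (by rw [e, g2])⟩
    · exact ⟨fun e => h2 (MulAction.injective g (e.trans g2.symm)),
        fun e => h1 (MulAction.injective g (e.trans g1.symm))⟩

/-- An index two subgroup: some Sylow normaliser of the overgroup has even order. -/
theorem exists_even_normalizer {X : Type*} [Finite X] {q : ℕ} [Fact q.Prime]
    (hX : Nat.card X = q) (K L : Subgroup (Equiv.Perm X)) (hKL : K ≤ L)
    (hidx : (K.subgroupOf L).index = 2) [IsPretransitive K X] [IsPretransitive L X] :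
    ∃ Q1 : Sylow q L, Even (Nat.card (Subgroup.normalizer ((Q1 : Subgroup L) : Set L))) := by
  haveI hnorm : (K.subgroupOf L).Normal := Subgroup.normal_of_index_eq_two hidx
  obtain ⟨Q⟩ : Nonempty (Sylow q (K.subgroupOf L)) := inferInstance
  obtain ⟨Q'⟩ : Nonempty (Sylow q K) := inferInstance
  obtain ⟨Q1'⟩ : Nonempty (Sylow q L) := inferInstance
  have hQc : Nat.card (Q : Subgroup (K.subgroupOf L)) = q := by
    rw [Q.card_eq_multiplicity, Nat.card_congr (Subgroup.subgroupOfEquivOfLe hKL).toEquiv,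
      ← Q'.card_eq_multiplicity, PrimeDegreeCoord.card_sylow hX K Q']
  let Q1 : Sylow q L := Sylow.ofCard ((Q : Subgroup (K.subgroupOf L)).map (Subgroup.subtype _))
    (by rw [Subgroup.card_map_of_injective (Subgroup.subtype_injective _), hQc,
      ← Q1'.card_eq_multiplicity, PrimeDegreeCoord.card_sylow hX L Q1'])
  refine ⟨Q1, ?_⟩
  rw [← Nat.not_odd_iff_even]
  intro hodd
  have hle : Subgroup.normalizer ((Q1 : Subgroup L) : Set L) ≤ K.subgroupOf L := by
    intro n hn
    obtain ⟨k, hk⟩ := hodd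
    have h1 : n ^ (2 * k + 1) = 1 := by
      rw [← hk]
      exact congrArg Subtype.val
        (pow_card_eq_one' (x := (⟨n, hn⟩ : Subgroup.normalizer ((Q1 : Subgroup L) : Set L))))
    rw [pow_succ, pow_mul, mul_eq_one_iff_eq_inv] at h1
    have h2 : (n ^ 2) ^ k ∈ K.subgroupOf L :=
      (K.subgroupOf L).pow_mem (Subgroup.sq_mem_of_index_two hidx n) k
    rw [h1] at h2
    simpa using h2
  have htop := Sylow.normalizer_sup_eq_top Q
  rw [eq_top_iff] at htop
  have hc : (K.subgroupOf L).index = 1 :=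
    Subgroup.index_eq_one.mpr (eq_top_iff.mpr (htop.trans (sup_le hle le_rfl)))
  omega

/-- An index two subgroup of a triply transitive group of odd degree that is doubly transitive
is triply transitive. -/
theorem three_trans_of_index_two {X : Type*} [Finite X] {q : ℕ} (hq : Odd q) (hq3 : 3 ≤ q)
    (hX : Nat.card X = q) {K L : Type*} [Group K] [Group L] [Finite K] [Finite L] [MulAction K X]
    [MulAction L X] (ι : K →* L) (hι : Function.Injective ι)
    (hact : ∀ (g : K) (x : X), ι g • x = g • x)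
    (hcard : Nat.card L = 2 * Nat.card K) [IsMultiplyPretransitive K X 2]
    [IsMultiplyPretransitive L X 3] : IsMultiplyPretransitive K X 3 := by
  classical
  have := Fintype.ofFinite X
  obtain ⟨t⟩ := PermMultiTrans.nonempty_embedding (X := X) (k := 3) (by omega)
  let pr : Fin 2 ↪ X := Fin.castSuccEmb.trans t
  have hM := PermMultiTrans.card_eq_descFactorial_mul (G := L) t
  have hH := PermMultiTrans.card_eq_descFactorial_mul (G := K) pr
  have hO := PermBasic.card_orbit_mul_card_stabilizer (G := K) t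
  have hle : stabilizer K t ≤ stabilizer K pr := fun g hg => by
    rw [PermMultiTrans.mem_stabilizer_embedding] at hg ⊢
    exact fun i => hg _
  obtain ⟨f, hf⟩ := Subgroup.card_dvd_of_le hle
  have hdvdM : Nat.card (stabilizer K t) ∣ Nat.card (stabilizer L t) := by
    refine Subgroup.card_dvd_of_injective
      ((ι.comp (stabilizer K t).subtype).codRestrict (stabilizer L t) (fun g => by
        rw [PermMultiTrans.mem_stabilizer_embedding]
        intro i
        exact (hact _ _).trans (PermMultiTrans.mem_stabilizer_embedding.mp g.2 i))) ?_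
    intro g h hgh
    exact Subtype.ext (hι (congrArg Subtype.val hgh))
  obtain ⟨j, hj⟩ := hdvdM
  rw [hX] at hM hH
  have hd2 : q.descFactorial 2 = q * (q - 1) := by
    simp [Nat.descFactorial, Nat.mul_comm]
  have hd3 : q.descFactorial 3 = q * (q - 1) * (q - 2) := by
    simp [Nat.descFactorial]; ring
  rw [hd2] at hH
  rw [hd3] at hM
  have hS : 0 < Nat.card (stabilizer K t) := Nat.card_pos
  have hqq : 0 < q * (q - 1) := by
    have : 0 < q - 1 := by omega
    positivity
  have hOeq : Nat.card (orbit K t) = q * (q - 1) * f := by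
    refine Nat.eq_of_mul_eq_mul_right hS ?_
    rw [hO, ← hH, hf]; ring
  have hj2 : (q - 2) * j = 2 * f := by
    have h1 : q * (q - 1) * (Nat.card (stabilizer K t) * ((q - 2) * j)) =
        q * (q - 1) * (Nat.card (stabilizer K t) * (2 * f)) := by
      have h2 : q * (q - 1) * (q - 2) * Nat.card (stabilizer L t) = 2 * Nat.card K :=
        hM.trans hcard
      rw [hj, ← hH, hf] at h2
      linarith
    exact Nat.eq_of_mul_eq_mul_left hS (Nat.eq_of_mul_eq_mul_left hqq h1)
  have hqodd : Odd (q - 2) := by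
    obtain ⟨k, hk⟩ := hq
    exact ⟨k - 1, by omega⟩
  have hjeven : 2 ∣ j := by
    have : 2 ∣ (q - 2) * j := ⟨f, hj2⟩
    exact ((Nat.Prime.dvd_mul Nat.prime_two).mp this).resolve_left
      (fun h => Nat.not_even_iff_odd.mpr hqodd (even_iff_two_dvd.mpr h))
  have hj1 : 0 < j := by
    rcases Nat.eq_zero_or_pos j with rfl | h
    · exact absurd (hj.trans (by ring : _ = 0)) Nat.card_pos.ne'
    · exact h
  have hge : q - 2 ≤ f := by
    have : (q - 2) * 2 ≤ (q - 2) * j :=
      Nat.mul_le_mul_left _ (Nat.le_of_dvd hj1 hjeven)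
    omega
  have hfull : orbit K t = Set.univ := by
    refine Set.eq_of_subset_of_ncard_le (Set.subset_univ _) ?_
    rw [Set.ncard_univ, ← Nat.card_coe_set_eq, hOeq, Nat.card_eq_fintype_card,
      Fintype.card_embedding_eq, Fintype.card_fin, ← Nat.card_eq_fintype_card, hX, hd3]
    exact Nat.mul_le_mul_left _ hge
  refine ⟨fun x y => ?_⟩
  obtain ⟨g, hg⟩ : x ∈ orbit K t := hfull ▸ Set.mem_univ x
  obtain ⟨h, hh⟩ : y ∈ orbit K t := hfull ▸ Set.mem_univ y
  exact ⟨h * g⁻¹, by rw [← hg, ← hh]; simp [mul_smul]⟩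

theorem five_transitive {p q : ℕ} [hp : Fact p.Prime] (hΩ : Nat.card Ω = p)
    (htrans : MulAction.IsPretransitive G Ω) (hins : ¬ Group.IsSolvable G) (P : Sylow p G)
    (hN : 2 * Nat.card ↥(Subgroup.normalizer ((P : Subgroup G) : Set G)) = p * (p - 1))
    (hq : q.Prime) (hq5 : 5 < q) (hpq : p = q + 2) :
    MulAction.IsMultiplyPretransitive G Ω 5 := by
  classical
  have := Fintype.ofFinite Ω
  haveI : Fact q.Prime := ⟨hq⟩
  have h2 : ∀ a b c d : Ω, a ≠ b → c ≠ d → ∃ g : G, g • a = c ∧ g • b = d :=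
    fun a b c d hab hcd => PrimeDegreeHalfAction28.two_trans hΩ htrans hins P
      (dvd_of_eq hN.symm) hab hcd
  obtain ⟨a, b, hab⟩ : ∃ a b : Ω, a ≠ b := by
    have : 1 < Nat.card Ω := by omega
    rw [Finite.one_lt_card_iff_nontrivial] at this
    exact exists_pair_ne Ω
  haveI htwo : MulAction.IsMultiplyPretransitive G Ω 2 :=
    is_two_pretransitive_iff.mpr (fun {a b c d} hab hcd => h2 a b c d hab hcd)
  let X := {x : Ω // x ≠ a ∧ x ≠ b}
  have hX : Nat.card X = q := by
    have h1 : Nat.card X = ({a, b}ᶜ : Set Ω).ncard := by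
      rw [← Nat.card_coe_set_eq]
      exact Nat.card_congr (Equiv.subtypeEquivRight fun x => by simp)
    rw [h1, Set.ncard_compl, Set.ncard_pair hab, hΩ]; omega
  let M := pairStab G a b
  let ρ : M →* Equiv.Perm X :=
    { toFun := fun g => (MulAction.toPerm (g : G)).subtypePerm (fun x => pairStab_other g.2 x)
      map_one' := by ext x; simp [MulAction.toPerm_apply]
      map_mul' := fun g h => by
        ext x; exact mul_smul (g : G) (h : G) (x : Ω) }
  have hρ : ∀ (g : M) (x : X), ((ρ g x : X) : Ω) = (g : G) • (x : Ω) := fun _ _ => rfl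
  have hρinj : Function.Injective ρ := by
    rw [← MonoidHom.ker_eq_bot_iff, Subgroup.eq_bot_iff_forall]
    intro g hg
    have hfix : ∀ x : Ω, x ≠ a → x ≠ b → (g : G) • x = x := fun x hxa hxb => by
      have h1 := congrArg Subtype.val (DFunLike.congr_fun (MonoidHom.mem_ker.mp hg) ⟨x, hxa, hxb⟩)
      exact h1
    rcases g.2 with ⟨g1, g2⟩ | ⟨g1, g2⟩
    · refine Subtype.ext (eq_of_smul_eq_smul (α := Ω) fun x => ?_)
      rw [OneMemClass.coe_one, one_smul]
      by_cases hxa : x = a
      · rw [hxa, g1]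
      by_cases hxb : x = b
      · rw [hxb, g2]
      exact hfix x hxa hxb
    · exfalso
      haveI : IsPreprimitive (MulAction.toPermHom G Ω).range Ω := by
        haveI := PermMultiTrans.isMultiplyPretransitive_range (G := G) (X := Ω) (n := 2)
        exact isPreprimitive_of_is_two_pretransitive inferInstance
      refine range_ne_top hΩ P hN (Equiv.Perm.subgroup_eq_top_of_isPreprimitive_of_isSwap_mem
        inferInstance (MulAction.toPermHom G Ω g) ⟨a, b, hab, Equiv.ext fun x => ?_⟩ ⟨_, rfl⟩)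
      change (g : G) • x = _
      by_cases hxa : x = a
      · rw [hxa, g1, Equiv.swap_apply_left]
      by_cases hxb : x = b
      · rw [hxb, g2, Equiv.swap_apply_right]
      rw [hfix x hxa hxb, Equiv.swap_apply_of_ne_of_ne hxa hxb]
  let H : Subgroup G := stabilizer G a ⊓ stabilizer G b
  have hHM : H ≤ M := fun g hg => Or.inl ⟨hg.1, hg.2⟩
  obtain ⟨s, hsa, hsb⟩ := h2 a b b a hab hab.symm
  let H1 : Subgroup (Equiv.Perm X) := (H.subgroupOf M).map ρ
  let M1 : Subgroup (Equiv.Perm X) := ρ.range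
  have hHM1 : H1 ≤ M1 := Subgroup.map_le_range _ _
  have hidx : (H1.subgroupOf M1).index = 2 := by
    rw [Subgroup.index_eq_two_iff]
    refine ⟨⟨ρ ⟨s, Or.inr ⟨hsa, hsb⟩⟩, _, rfl⟩, fun y => ?_⟩
    obtain ⟨_, ⟨g, hgM⟩, rfl⟩ := y
    have hmem : ∀ k : M, ρ k ∈ H1 ↔ (k : G) • a = a := by
      intro k
      constructor
      · rintro ⟨h, hh, hhk⟩
        rw [← hρinj hhk]
        exact (Subgroup.mem_subgroupOf.mp hh).1
      · intro ha
        refine ⟨k, Subgroup.mem_subgroupOf.mpr ⟨ha, ?_⟩, rfl⟩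
        rcases k.2 with ⟨-, h⟩ | ⟨h, -⟩
        · exact h
        · exact absurd (ha.symm.trans h) hab
    rw [Subgroup.mem_subgroupOf, Subgroup.mem_subgroupOf]
    simp only [Subgroup.coe_mul, ← map_mul]
    rw [hmem, hmem]
    change Xor ((g * s : G) • a = a) ((g : G) • a = a)
    rw [mul_smul, hsa]
    rcases hgM with ⟨g1, g2⟩ | ⟨g1, g2⟩
    · exact Or.inr ⟨g1, by rw [g2]; exact hab.symm⟩
    · exact Or.inl ⟨g2, by rw [g1]; exact hab.symm⟩
  have hcardM1 : Nat.card M1 = 2 * Nat.card H1 := by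
    rw [← Subgroup.index_mul_card (H1.subgroupOf M1), hidx,
      Nat.card_congr (Subgroup.subgroupOfEquivOfLe hHM1).toEquiv]
  have hcardH : Nat.card H1 = Nat.card H := by
    rw [← Nat.card_congr ((H.subgroupOf M).equivMapOfInjective ρ hρinj).toEquiv,
      Nat.card_congr (Subgroup.subgroupOfEquivOfLe hHM).toEquiv]
  haveI hH1t : IsPretransitive H1 X := ⟨fun x y => by
    obtain ⟨g, g1, g2, g3⟩ := three_of_twin hΩ htrans hins P hN hq hq5 hpq hab x.2.1 x.2.2
      y.2.1 y.2.2
    refine ⟨⟨ρ ⟨g, Or.inl ⟨g1, g2⟩⟩, Subgroup.mem_map_of_mem ρ ?_⟩, Subtype.ext g3⟩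
    rw [Subgroup.mem_subgroupOf]
    exact ⟨g1, g2⟩⟩
  -- the two-point stabiliser is insoluble
  have hH1ns : ¬ Group.IsSolvable H1 := by
    intro hs
    have hdvd := card_dvd_of_solvable hX H1 hs
    have hqH : q ∣ Nat.card H1 := by
      haveI : Nonempty X := (Nat.card_pos_iff.1 (show 0 < Nat.card X by rw [hX]; exact hq.pos)).1
      have h1 : Nat.card X ∣ Nat.card H1 := PermBasic.card_dvd_of_transitive (G := H1) (X := X)
      rwa [hX] at h1
    obtain ⟨e, he⟩ := hqH
    rw [he] at hdvd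
    have he1 : e ∣ q - 1 := Nat.dvd_of_mul_dvd_mul_left hq.pos hdvd
    let x2 : Fin 2 ↪ Ω := ⟨![a, b], by
      intro i j hij
      fin_cases i <;> fin_cases j <;> first | rfl | exact absurd hij hab | exact absurd hij hab.symm⟩
    have hst : stabilizer G x2 = H := by
      ext g
      rw [PermMultiTrans.mem_stabilizer_embedding, Fin.forall_fin_two]
      rfl
    have hG : Nat.card G = p * (p - 1) * (q * e) := by
      rw [← PermMultiTrans.card_eq_descFactorial_mul x2, hst, ← hcardH, he, hΩ]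
      simp [Nat.descFactorial, Nat.mul_comm]
    have hSyl : Nat.card G =
        Nat.card ↥(Subgroup.normalizer ((P : Subgroup G) : Set G)) * Nat.card (Sylow p G) := by
      rw [Sylow.card_eq_index_normalizer P]
      exact (Subgroup.card_mul_index _).symm
    have h3 : p * (p - 1) * Nat.card (Sylow p G) = p * (p - 1) * (2 * (q * e)) := by
      rw [← hN, mul_assoc, ← hSyl, hG, hN]; ring
    have h4 := Nat.eq_of_mul_eq_mul_left
      (by have : 0 < p - 1 := (by omega); have := hp.out.pos; positivity) h3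
    have h5 := card_sylow_modEq_one p G
    rw [h4] at h5
    exact arith_false hp.out hq hq5 hpq he1 h5
  haveI hH12 : IsMultiplyPretransitive H1 X 2 :=
    (PermPrimeDegree.solvable_or_twoTransitive (hX.symm ▸ hq) H1).resolve_left hH1ns
  haveI hM1t : IsPretransitive M1 X := ⟨fun x y => by
    obtain ⟨g, hg⟩ := hH1t.exists_smul_eq x y
    exact ⟨⟨g, hHM1 g.2⟩, hg⟩⟩
  haveI hM12 : IsMultiplyPretransitive M1 X 2 :=
    PermMultiTrans.isMultiplyPretransitive_of_le hHM1
  have hM1ns : ¬ Group.IsSolvable M1 := fun hs => hH1ns (by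
    haveI := hs
    exact Group.isSolvable_of_isSolvable_injective (Subgroup.inclusion_injective hHM1))
  obtain ⟨Q1, heven⟩ := exists_even_normalizer hX H1 M1 hHM1 hidx
  haveI hM13 : IsMultiplyPretransitive M1 X 3 :=
    S0676.result (by rw [← Nat.card_eq_fintype_card, hX]) M1 hM1ns Q1 heven
  have hH13 : IsMultiplyPretransitive H1 X 3 :=
    three_trans_of_index_two (hq.odd_of_ne_two (by omega)) (by omega) hX
      (Subgroup.inclusion hHM1) (Subgroup.inclusion_injective hHM1) (fun _ _ => rfl) hcardM1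
  refine lift_two (n := 3) h2 hab fun x y hx hy hxn hyn => ?_
  obtain ⟨g, hg⟩ := PermMultiTrans.isMultiplyPretransitive_iff_fun.1 hH13
    (fun i => (⟨x i, hxn i⟩ : X)) (fun i => (⟨y i, hyn i⟩ : X))
    (fun i j h => hx (congrArg Subtype.val h)) (fun i j h => hy (congrArg Subtype.val h))
  obtain ⟨_, k, hk, rfl⟩ := g
  have hk' := Subgroup.mem_subgroupOf.mp hk
  exact ⟨k, hk'.1, hk'.2, fun i => congrArg Subtype.val (hg i)⟩

end Cfsg.Agent.TwinPrimeDegree39
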