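import Cfsg.Agent.Lib.ReeInstance17
import Cfsg.Agent.Lib.TwistAutRigid
import Cfsg.Agent.Lib.TwistAutSL2
import Cfsg.Agent.Lib.ChevAutGalois
import Cfsg.Prelude.Def_KGroupFacts
import Cfsg.Agent.Lib.RangeLoopEqn

/-!
Every automorphism of `²G₂(q)`, `q > 3`, is an inner automorphism times a field automorphism, provided the
torus of fixed points lies in the group.
-/

set_option autoImplicit false
set_option linter.unusedSectionVars false
set_option linter.unusedSimpArgs false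
set_option maxRecDepth 20000

namespace Cfsg.Agent.TwistAutG2

open Cfsg.Lie Cfsg.Agent Cfsg.Agent.ChevalleyCert Cfsg.Agent.ChevalleyCore Cfsg.Agent.ChevalleyTorus
  Cfsg.Agent.TwistedCore Cfsg.Agent.TwistedTools Cfsg.Agent.ChevBruhat
  Cfsg.Agent.ReeSL2 Cfsg.Agent.ReeTwist17 Cfsg.Agent.ReeInstance17
open scoped MatrixGroups

variable {K : Type*} [Field K] [Fintype K] [CharP K 3] (R : Ctx K)

theorem two_facts : (2 : K) ≠ 0 ∧ (4 : K) = 1 ∧ (-1 : K) ≠ 1 := by
  have h3 : (3 : K) = 0 := CharP.ofNat_eq_zero K 3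
  have h2 : (2 : K) ≠ 0 := fun h => one_ne_zero (by linear_combination h3 - h : (1 : K) = 0)
  exact ⟨h2, by linear_combination h3, fun h => h2 (by linear_combination -h)⟩

theorem eta_eq (c : K) : R.θ (R.θ c ^ 3) = c := by rw [map_pow, R.sq]

/-! ### the multiplication -/

theorem cross : (chevG2.commTerms 7 8 = [(9, -2, 1, 1), (10, -3, 2, 1), (11, 3, 1, 2)]) ∧
    chevG2.commTerms 6 10 = [(11, 1, 1, 1)] ∧ chevG2.commTerms 7 9 = [(10, 3, 1, 1)] ∧
    chevG2.commTerms 7 10 = [] ∧ chevG2.commTerms 7 11 = [] ∧ chevG2.commTerms 6 8 = [] ∧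
    chevG2.commTerms 6 9 = [] ∧ chevG2.commTerms 6 11 = [] := by
  decide +kernel

theorem rt_ok : ∀ r ∈ ([6, 7] : List ℕ), ∀ s ∈ ([8, 9, 10, 11] : List ℕ),
    r < chevG2.nroots ∧ s < chevG2.nroots ∧ s ≠ r ∧ s ≠ chevG2.neg r := by
  decide +kernel

theorem tail_push7 (a c d e g : K) :
    tail false c d e g * ReeTwist17.X false 7 a = ReeTwist17.X false 7 a * tail false c (d - a * c) e g := by
  have hf : ∀ s ∈ ([8, 9, 10, 11] : List ℕ), ∀ u : K, xg c2 s u * xg c2 7 a =
      xg c2 7 a * xg c2 s u * wg c2 (chevG2.commWord K 7 s a u) := fun s hs u => by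
    obtain ⟨h1, h2, h3, h4⟩ := rt_ok 7 (by simp) s hs
    exact comm_formula c2 h1 h2 h3 h4 a u
  obtain ⟨t78, -, t79, t710, t711, -⟩ := cross
  have h3 : (3 : K) = 0 := CharP.ofNat_eq_zero K 3
  have c11 : xg c2 11 g * xg c2 7 a = xg c2 7 a * xg c2 11 g := by
    rw [hf 11 (by simp), ChevalleyDatum.commWord, t711]; simp [wg]
  have c10 : xg c2 10 e * xg c2 7 a = xg c2 7 a * xg c2 10 e := by
    rw [hf 10 (by simp), ChevalleyDatum.commWord, t710]; simp [wg]
  have c9 : xg c2 9 d * xg c2 7 a = xg c2 7 a * xg c2 9 d := by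
    rw [hf 9 (by simp), ChevalleyDatum.commWord, t79]
    simp [wg, h3]
  have c8 : xg c2 8 c * xg c2 7 a = xg c2 7 a * xg c2 8 c * xg c2 9 (-(a * c)) := by
    rw [hf 8 (by simp), ChevalleyDatum.commWord, t78]
    simp [wg, h3]
    congr 1
    linear_combination (a * c) * h3
  simp only [tail, ReeTwist17.X, Bool.false_eq_true, ↓reduceIte]
  calc xg c2 8 c * xg c2 9 d * xg c2 10 e * xg c2 11 g * xg c2 7 a
      = xg c2 8 c * xg c2 9 d * xg c2 10 e * (xg c2 11 g * xg c2 7 a) := by group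
    _ = xg c2 8 c * xg c2 9 d * (xg c2 10 e * xg c2 7 a) * xg c2 11 g := by rw [c11]; group
    _ = xg c2 8 c * (xg c2 9 d * xg c2 7 a) * xg c2 10 e * xg c2 11 g := by rw [c10]; group
    _ = (xg c2 8 c * xg c2 7 a) * xg c2 9 d * xg c2 10 e * xg c2 11 g := by rw [c9]; group
    _ = xg c2 7 a * xg c2 8 c * (xg c2 9 (-(a * c)) * xg c2 9 d) * xg c2 10 e * xg c2 11 g := by rw [c8]; group
    _ = _ := by rw [xg_mul c2, add_comm (-(a * c)), ← sub_eq_add_neg]; group

theorem tail_push6 (b c d e g : K) :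
    tail false c d e g * ReeTwist17.X false 6 b = ReeTwist17.X false 6 b * tail false c d e (g - b * e) := by
  have hf : ∀ s ∈ ([8, 9, 10, 11] : List ℕ), ∀ u : K, xg c2 s u * xg c2 6 b =
      xg c2 6 b * xg c2 s u * wg c2 (chevG2.commWord K 6 s b u) := fun s hs u => by
    obtain ⟨h1, h2, h3, h4⟩ := rt_ok 6 (by simp) s hs
    exact comm_formula c2 h1 h2 h3 h4 b u
  obtain ⟨-, t610, -, -, -, t68, t69, t611⟩ := cross
  have c11 : xg c2 11 g * xg c2 6 b = xg c2 6 b * xg c2 11 g := by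
    rw [hf 11 (by simp), ChevalleyDatum.commWord, t611]; simp [wg]
  have c10 : xg c2 10 e * xg c2 6 b = xg c2 6 b * xg c2 10 e * xg c2 11 (-(b * e)) := by
    rw [hf 10 (by simp), ChevalleyDatum.commWord, t610]; simp [wg]
  have c9 : xg c2 9 d * xg c2 6 b = xg c2 6 b * xg c2 9 d := by
    rw [hf 9 (by simp), ChevalleyDatum.commWord, t69]; simp [wg]
  have c8 : xg c2 8 c * xg c2 6 b = xg c2 6 b * xg c2 8 c := by
    rw [hf 8 (by simp), ChevalleyDatum.commWord, t68]; simp [wg]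
  simp only [tail, ReeTwist17.X, Bool.false_eq_true, ↓reduceIte]
  calc xg c2 8 c * xg c2 9 d * xg c2 10 e * xg c2 11 g * xg c2 6 b
      = xg c2 8 c * xg c2 9 d * xg c2 10 e * (xg c2 11 g * xg c2 6 b) := by group
    _ = xg c2 8 c * xg c2 9 d * (xg c2 10 e * xg c2 6 b) * xg c2 11 g := by rw [c11]; group
    _ = xg c2 8 c * (xg c2 9 d * xg c2 6 b) * xg c2 10 e * (xg c2 11 (-(b * e)) * xg c2 11 g) := by rw [c10]; group
    _ = (xg c2 8 c * xg c2 6 b) * xg c2 9 d * xg c2 10 e * (xg c2 11 (-(b * e)) * xg c2 11 g) := by rw [c9]; group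
    _ = _ := by rw [c8, xg_mul c2, add_comm (-(b * e)), ← sub_eq_add_neg]; group

theorem Uf_mul (a b c d e g a' b' c' d' e' g' : K) :
    ∃ A C D, Uf false a b c d e g * Uf false a' b' c' d' e' g' = Uf false A (b + b') C D
      (e + e' - a' ^ 3 * b) (g + g' - a' ^ 3 * b ^ 2 - b' * (e - a' ^ 3 * b)) := by
  refine ⟨a + a', b * a' + c + c', a' ^ 2 * b + (d - a' * c) + d', ?_⟩
  unfold Uf
  calc ReeTwist17.X false 7 a * ReeTwist17.X false 6 b * tail false c d e g *
        (ReeTwist17.X false 7 a' * ReeTwist17.X false 6 b' * tail false c' d' e' g')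
      = ReeTwist17.X false 7 a * ReeTwist17.X false 6 b * (tail false c d e g * ReeTwist17.X false 7 a') *
          ReeTwist17.X false 6 b' * tail false c' d' e' g' := by group
    _ = ReeTwist17.X false 7 a * (ReeTwist17.X false 6 b * ReeTwist17.X false 7 a') *
          tail false c (d - a' * c) e g * ReeTwist17.X false 6 b' * tail false c' d' e' g' := by
        rw [tail_push7]; group
    _ = (ReeTwist17.X false 7 a * ReeTwist17.X false 7 a') * ReeTwist17.X false 6 b *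
          ((tail false (b * a') (a' ^ 2 * b) (-(a' ^ 3 * b)) (-(a' ^ 3 * b ^ 2)) * tail false c (d - a' * c) e g) *
            ReeTwist17.X false 6 b') * tail false c' d' e' g' := by rw [swap76]; group
    _ = (ReeTwist17.X false 7 a * ReeTwist17.X false 7 a') *
          (ReeTwist17.X false 6 b * ReeTwist17.X false 6 b') *
          (tail false (b * a' + c) (a' ^ 2 * b + (d - a' * c)) (-(a' ^ 3 * b) + e)
            (-(a' ^ 3 * b ^ 2) + g - b' * (-(a' ^ 3 * b) + e)) * tail false c' d' e' g') := by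
        rw [tail_mul, tail_push6]; group
    _ = _ := by
        rw [tail_mul, X_mul, X_mul]
        congr 2 <;> ring

/-- a fixed element of `U` -/
noncomputable def gu (t u v : K) : ↥(twistedG2 K R.e) := ⟨gen R.θ false t u v, R.gen_mem _ _ _ _⟩

theorem coe_gu (t u v : K) : (gu R t u v : GL chevG2.Idx K) = gen R.θ false t u v := rfl

theorem gu_inj {t u v t' u' v' : K} (h : gu R t u v = gu R t' u' v') : t = t' ∧ u = u' ∧ v = v' := by
  obtain ⟨-, h2, -, -, h5, h6⟩ := Uf_inj (congrArg Subtype.val h)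
  exact ⟨h2, h5, h6⟩

theorem gu_zero : gu R 0 0 0 = 1 := Subtype.ext (by simp [coe_gu, gen, Uf, tail, X_zero])

theorem mem_U1 {y : ↥(twistedG2 K R.e)} (hy : y ∈ TwistAutRigid.U1 (twistedG2 K R.e)) :
    ∃ t u v, y = gu R t u v := by
  obtain ⟨t, u, v, h⟩ := R.fixed_U_eq_gen hy (R.le_fixed y.2)
  exact ⟨t, u, v, Subtype.ext h⟩

theorem gu_mem_U1 (t u v : K) : gu R t u v ∈ TwistAutRigid.U1 (twistedG2 K R.e) := Uf_mem_U _ _ _ _ _ _

theorem gu_mul (t u v t' u' v' : K) : gu R t u v * gu R t' u' v' =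
    gu R (t + t') (u + u' - R.θ t' ^ 3 * t) (v + v' - R.θ t' ^ 3 * t ^ 2 - t' * (u - R.θ t' ^ 3 * t)) := by
  obtain ⟨A, B, C, h⟩ := mem_U1 R (mul_mem (gu_mem_U1 R t u v) (gu_mem_U1 R t' u' v'))
  rw [h]
  obtain ⟨a, c, d, e⟩ := Uf_mul (R.θ t) t (t * R.θ t + R.θ u) (t * R.θ t ^ 2 + R.θ v) u v
    (R.θ t') t' (t' * R.θ t' + R.θ u') (t' * R.θ t' ^ 2 + R.θ v') u' v'
  obtain ⟨-, h2, -, -, h5, h6⟩ := Uf_inj ((congrArg Subtype.val h).symm.trans e :)
  rw [h2, h5, h6]

theorem gu_psi (u : K) : (gu R 0 u 0 : GL chevG2.Idx K) = psi R.θ (ChevalleySL2.upper u) := by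
  rw [coe_gu, psi_upper]
  simp [gen, Uf, tail, ReeTwist17.X, xg_zero]

/-! ### the torus -/

/-- the character of the torus on the first parameter -/
noncomputable def chi : Kˣ →* Kˣ :=
  (powMonoidHom 2) / ((powMonoidHom 3).comp (Units.map R.θ.toMonoidHom))

/-- the character of the torus on the second parameter -/
noncomputable def nu : Kˣ →* Kˣ :=
  ((powMonoidHom 3).comp (Units.map R.θ.toMonoidHom)) / MonoidHom.id _

theorem chi_val (c : Kˣ) : (chi R c : K) = (c : K) ^ 2 / R.θ (c : K) ^ 3 := by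
  simp [chi, div_eq_mul_inv]

theorem nu_val (c : Kˣ) : (nu R c : K) = R.θ (c : K) ^ 3 / (c : K) := by
  simp [nu, div_eq_mul_inv]

theorem chi_bijective : Function.Bijective (chi R) := by
  refine Finite.injective_iff_bijective.mp ?_
  rw [injective_iff_map_eq_one]
  intro c hc
  have h1 : (c : K) ^ 2 = R.θ (c : K) ^ 3 := by
    have := congrArg Units.val hc
    rw [chi_val, Units.val_one, div_eq_one_iff_eq (pow_ne_zero 3 ((map_ne_zero R.θ).2 c.ne_zero))] at this
    exact this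
  have h2 : R.θ (c : K) ^ 2 = (c : K) := by rw [← map_pow, h1, eta_eq]
  have h3 : R.θ (c : K) = 1 := by
    have hne : R.θ (c : K) ^ 3 ≠ 0 := pow_ne_zero 3 ((map_ne_zero R.θ).2 c.ne_zero)
    apply mul_left_cancel₀ hne
    rw [← pow_succ, mul_one, ← h1]
    conv_rhs => rw [← h2]
    ring
  exact Units.ext (by rw [← h2, h3, one_pow, Units.val_one])

theorem weight_facts : (List.range 2).map (fun i => chevG2.cartan i 6) = [-3, 2] ∧
    (List.range 2).map (fun i => chevG2.cartan i 10) = [3, -1] ∧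
    (List.range 2).map (fun i => chevG2.cartan i 11) = [0, 1] ∧ 6 < chevG2.nroots ∧ 7 < chevG2.nroots ∧
    8 < chevG2.nroots ∧ 9 < chevG2.nroots ∧ 10 < chevG2.nroots ∧ 11 < chevG2.nroots := by
  decide +kernel

theorem tchar_par (c : Kˣ) : (tchar chevG2 (R.par c) 6 : K) = chi R c ∧
    (tchar chevG2 (R.par c) 10 : K) = nu R c ∧ (tchar chevG2 (R.par c) 11 : K) = (c : K) := by
  obtain ⟨h6, h10, h11, -⟩ := weight_facts
  simp only [List.range, List.range.loop, List.map_cons, List.map_nil, List.cons.injEq, and_true] at h6 h10 h11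
  have huniv : (Finset.univ : Finset (Fin chevG2.rank)) = {⟨0, by decide⟩, ⟨1, by decide⟩} := by
    decide +kernel
  refine ⟨?_, ?_, ?_⟩ <;> simp only [tchar, huniv] <;> rw [Finset.prod_pair (by decide)]
  · rw [chi_val]; simp [Ctx.par, h6, div_eq_mul_inv, mul_comm]
  · rw [nu_val]; simp [Ctx.par, h10, div_eq_mul_inv, zpow_ofNat]
  · simp [Ctx.par, h11]

variable (hT : ∀ c, R.tor c ∈ twistedG2 K R.e)

/-- a torus element of the group -/
noncomputable def tr : Kˣ →* ↥(twistedG2 K R.e) := R.tor.codRestrict _ hT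

theorem coe_tr (c : Kˣ) : (tr R hT c : GL chevG2.Idx K) = torus chevG2 (R.par c) := rfl

theorem tr_inj : Function.Injective (tr R hT) := by
  intro a b h
  have h1 : R.par a = R.par b := Ctx.torus_inj (congrArg Subtype.val h :)
  exact congrFun h1 ⟨1, by decide⟩

theorem tr_conj (c : Kˣ) (t u v : K) : tr R hT c * gu R t u v * (tr R hT c)⁻¹ =
    gu R (chi R c * t) (nu R c * u) ((c : K) * v) := by
  obtain ⟨-, -, -, l6, l7, l8, l9, l10, l11⟩ := weight_facts
  set h := torus chevG2 (R.par c) with hh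
  have e : h * gen R.θ false t u v * h⁻¹ = Uf false ((tchar chevG2 (R.par c) 7 : K) * R.θ t)
      ((tchar chevG2 (R.par c) 6 : K) * t) ((tchar chevG2 (R.par c) 8 : K) * (t * R.θ t + R.θ u))
      ((tchar chevG2 (R.par c) 9 : K) * (t * R.θ t ^ 2 + R.θ v)) ((tchar chevG2 (R.par c) 10 : K) * u)
      ((tchar chevG2 (R.par c) 11 : K) * v) := by
    simp only [Uf, tail, gen, ReeTwist17.X, Bool.false_eq_true, ↓reduceIte]
    rw [← torus_conj_xg c2 l7, ← torus_conj_xg c2 l6, ← torus_conj_xg c2 l8, ← torus_conj_xg c2 l9,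
      ← torus_conj_xg c2 l10, ← torus_conj_xg c2 l11, ← hh]
    group
  have hmem : tr R hT c * gu R t u v * (tr R hT c)⁻¹ ∈ TwistAutRigid.U1 (twistedG2 K R.e) := by
    show h * gen R.θ false t u v * h⁻¹ ∈ chevG2.posUnipotent K
    rw [e]
    exact Uf_mem_U _ _ _ _ _ _
  obtain ⟨A, B, C, hy⟩ := mem_U1 R hmem
  rw [hy]
  obtain ⟨-, h2, -, -, h5, h6⟩ := Uf_inj ((congrArg Subtype.val hy).symm.trans e :)
  obtain ⟨w6, w10, w11⟩ := tchar_par R c
  rw [h2, h5, h6, w6, w10, w11]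

/-- the representative of the class inside the group -/
noncomputable def m0 : ↥(twistedG2 K R.e) := ⟨Ctx.cn, R.cn_G1⟩

theorem long_cn : ∃ h : (Ctx.cn : GL chevG2.Idx K) ∈ chevG2.monomialSubgroup K,
    ChevAutRigid.IsLong R.tw.S (R.tw.S.toW ⟨_, h⟩) := by
  obtain ⟨h, e⟩ := R.cn_toW
  refine ⟨h, fun r hr => ?_⟩
  rw [e, R.tw.img_wd _ hr.1]
  exact Ctx.cl_neg r hr.1 hr

theorem conj_V1 {y : ↥(twistedG2 K R.e)} :
    m0 R * y * (m0 R)⁻¹ ∈ TwistAutRigid.V1 (twistedG2 K R.e) ↔ y ∈ TwistAutRigid.U1 (twistedG2 K R.e) := by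
  obtain ⟨h, hl⟩ := long_cn R
  exact TwistAutRigid.conj_mem_V1 (T := R.tw) (n := ⟨_, h⟩) R.cn_G1 hl

theorem conj_U1 {y : ↥(twistedG2 K R.e)} :
    m0 R * y * (m0 R)⁻¹ ∈ TwistAutRigid.U1 (twistedG2 K R.e) ↔ y ∈ TwistAutRigid.V1 (twistedG2 K R.e) := by
  obtain ⟨h, hl⟩ := long_cn R
  exact TwistAutRigid.conj_mem_U1 (T := R.tw) (n := ⟨_, h⟩) R.cn_G1 hl

theorem conj_H {x : ↥(twistedG2 K R.e)} (hx : (x : GL chevG2.Idx K) ∈ chevG2.diagonalSubgroup K) :
    ((m0 R * x * (m0 R)⁻¹ : ↥(twistedG2 K R.e)) : GL chevG2.Idx K) ∈ chevG2.diagonalSubgroup K := by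
  obtain ⟨h, -⟩ := long_cn R
  exact R.tw.S.conj_H (R.tw.S.acts_toW ⟨_, h⟩) hx

theorem mem_tor_iff {x : ↥(twistedG2 K R.e)} :
    (x ∈ TwistAutRigid.B1 (twistedG2 K R.e) ∧
      ∀ y, x * y * x⁻¹ ∈ TwistAutRigid.V1 (twistedG2 K R.e) ↔ y ∈ TwistAutRigid.V1 (twistedG2 K R.e)) ↔
    ∃ c, x = tr R hT c := by
  constructor
  · rintro ⟨hxU, hxV⟩
    have hxB' : m0 R * x * (m0 R)⁻¹ ∈ TwistAutRigid.B1 (twistedG2 K R.e) := by
      rw [← TwistAutRigid.normalizer_U1 R.classes, Subgroup.mem_normalizer_iff]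
      intro z
      have := hxV ((m0 R)⁻¹ * z * m0 R)
      rw [← conj_U1 R, ← conj_U1 R (y := (m0 R)⁻¹ * z * m0 R)] at this
      simpa [mul_assoc] using this.symm
    obtain ⟨h, hh, u, hu, e⟩ := R.tw.S.mem_B_iff.mp (show (x : GL chevG2.Idx K) ∈ _ from hxU)
    obtain ⟨hn, hl⟩ := long_cn R
    have hu1 : u = 1 := by
      have h1 : (Ctx.cn : GL chevG2.Idx K) * u * (Ctx.cn : GL chevG2.Idx K)⁻¹ ∈ chevG2.borelSubgroup K := by
        have hh' := Sys.H_le_B (R.tw.S.conj_H (R.tw.S.acts_toW ⟨_, hn⟩) hh)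
        have := mul_mem (inv_mem hh')
          (show ((m0 R * x * (m0 R)⁻¹ : ↥(twistedG2 K R.e)) : GL chevG2.Idx K) ∈ _ from hxB')
        simpa [m0, e, mul_assoc] using this
      exact conj_eq_one_iff.mp (Subgroup.mem_bot.mp (R.tw.S.B_inf_V.le ⟨h1, ChevAutRigid.long_U _ hl hu⟩))
    rw [hu1, mul_one] at e
    obtain ⟨c, hc⟩ := R.H1_le ⟨e ▸ hh, x.2⟩
    exact ⟨c, Subtype.ext hc.symm⟩
  · rintro ⟨c, rfl⟩
    have hH : (tr R hT c : GL chevG2.Idx K) ∈ chevG2.diagonalSubgroup K := torus_mem_H c2 _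
    refine ⟨Sys.H_le_B hH, fun y => ?_⟩
    have hn : m0 R * tr R hT c * (m0 R)⁻¹ ∈ Subgroup.normalizer
        (TwistAutRigid.U1 (twistedG2 K R.e) : Set ↥(twistedG2 K R.e)) := by
      rw [TwistAutRigid.normalizer_U1 R.classes]
      exact Sys.H_le_B (conj_H R hH)
    have h2 := Subgroup.mem_normalizer_iff.mp hn (m0 R * y * (m0 R)⁻¹)
    rw [← conj_U1 R, ← conj_U1 R (y := y)]
    simpa [mul_assoc] using h2.symm

theorem tr_neg_one (c : Kˣ) (h1 : tr R hT c * tr R hT c = 1) (h2 : tr R hT c ≠ 1) : c = -1 := by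
  rw [← map_mul] at h1
  have hc : c * c = 1 := tr_inj R hT (h1.trans (map_one _).symm)
  have hc' : (c : K) * (c : K) = 1 := congrArg Units.val hc
  rcases mul_self_eq_one_iff.mp hc' with h | h
  · exact absurd (by rw [show c = 1 from Units.ext h, map_one]) h2
  · exact Units.ext h

theorem neg_one_ne : (-1 : Kˣ) ≠ 1 := fun h =>
  (two_facts (K := K)).2.2 (by simpa using congrArg Units.val h)

theorem tr_neg_conj (t u v : K) :
    tr R hT (-1) * gu R t u v * (tr R hT (-1))⁻¹ = gu R (-t) u (-v) := by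
  rw [tr_conj, chi_val, nu_val]
  norm_num

theorem m0_tr_neg : (m0 R)⁻¹ * tr R hT (-1) * m0 R = tr R hT (-1) := by
  have hH : (tr R hT (-1) : GL chevG2.Idx K) ∈ chevG2.diagonalSubgroup K := torus_mem_H c2 _
  obtain ⟨hn, -⟩ := long_cn R
  have hH' : (((m0 R)⁻¹ * tr R hT (-1) * m0 R : ↥(twistedG2 K R.e)) : GL chevG2.Idx K) ∈
      chevG2.diagonalSubgroup K := by
    have := R.tw.S.conj_H ((R.tw.S.acts_toW ⟨_, hn⟩).inv R.tw.S) hH
    simpa [m0] using this
  obtain ⟨c, hc⟩ := R.H1_le ⟨hH', ((m0 R)⁻¹ * tr R hT (-1) * m0 R).2⟩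
  have e : (m0 R)⁻¹ * tr R hT (-1) * m0 R = tr R hT c := Subtype.ext hc.symm
  have hc1 : c = -1 := by
    refine tr_neg_one R hT c ?_ ?_
    · rw [← e, show (m0 R)⁻¹ * tr R hT (-1) * m0 R * ((m0 R)⁻¹ * tr R hT (-1) * m0 R) =
        (m0 R)⁻¹ * (tr R hT (-1) * tr R hT (-1)) * m0 R by group, ← map_mul, neg_mul_neg, one_mul, map_one,
        mul_one, inv_mul_cancel]
    · rw [← e]
      intro h
      have h' : tr R hT (-1) = 1 := by
        have := congrArg (fun z => m0 R * z * (m0 R)⁻¹) h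
        simpa [mul_assoc] using this
      exact neg_one_ne (tr_inj R hT (h'.trans (map_one _).symm))
  rw [e, hc1]

/-- the map induced by a field automorphism commutes with the endomorphism -/
theorem tau_theta (τ : K ≃+* K) (t : K) : τ (R.θ t) = R.θ (τ t) := by rw [R.spec, R.spec, map_pow]

variable (hq : ∃ t : K, R.θ t ^ 3 ≠ t)

theorem map_gen (τ : K ≃+* K) (s : Bool) (t u v : K) :
    Matrix.GeneralLinearGroup.map τ.toRingHom (gen R.θ s t u v) = gen R.θ s (τ t) (τ u) (τ v) := by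
  cases s <;>
    simp [gen, Uf, tail, ReeTwist17.X, xg_map, tau_theta, map_pow]

include hT hq in
/-- on `U¹` an automorphism fixing `U¹`, `V¹` and the first parameter of one element is a field automorphism -/
theorem field_on_U {θ : ↥(twistedG2 K R.e) ≃* ↥(twistedG2 K R.e)}
    (hθ : TwistAutRigid.Fix (twistedG2 K R.e) θ) (h1 : ∃ u v, θ (gu R 1 0 0) = gu R 1 u v) :
    ∃ τ : K ≃+* K, (∀ t u v, θ (gu R t u v) = gu R (τ t) (τ u) (τ v)) ∧
      θ (tr R hT (-1)) = tr R hT (-1) := by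
  obtain ⟨h2ne, h4, hn1⟩ := two_facts (K := K)
  -- the torus
  have hk : ∀ c, ∃ d, θ (tr R hT c) = tr R hT d := fun c => by
    obtain ⟨hB, hV⟩ := (mem_tor_iff R hT).2 ⟨c, rfl⟩
    refine (mem_tor_iff R hT).1 ⟨(TwistAutRigid.Fix.B R.classes hθ _).2 hB, fun y => ?_⟩
    obtain ⟨z, rfl⟩ := θ.surjective y
    rw [← map_inv, ← map_mul, ← map_mul, hθ.V, hθ.V]
    exact hV z
  choose k hk using hk
  have ha : θ (tr R hT (-1)) = tr R hT (-1) := by
    have e : k (-1) = -1 := by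
      refine tr_neg_one R hT _ ?_ ?_
      · rw [← hk, ← map_mul, ← map_mul, neg_mul_neg, one_mul, map_one, map_one]
      · rw [← hk]
        intro h
        exact neg_one_ne (tr_inj R hT ((θ.injective (h.trans (map_one θ).symm)).trans (map_one _).symm))
    rw [hk, e]
  have hU : ∀ t u v, ∃ t' u' v', θ (gu R t u v) = gu R t' u' v' := fun t u v =>
    mem_U1 R ((hθ.U _).2 (gu_mem_U1 R t u v))
  choose F G W hFGW using hU
  have hFu : ∀ u, θ (gu R 0 u 0) = gu R 0 (G 0 u 0) 0 := fun u => by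
    have e := congrArg θ (tr_neg_conj R hT 0 u 0)
    rw [map_mul, map_mul, map_inv, ha, neg_zero, hFGW, tr_neg_conj] at e
    obtain ⟨e1, -, e3⟩ := gu_inj R e
    rw [hFGW]
    have hz : ∀ x : K, -x = x → x = 0 := fun x hx =>
      (mul_eq_zero.mp (show (2 : K) * x = 0 by linear_combination -hx)).resolve_left h2ne
    rw [hz _ e1, hz _ e3]
  have hcomm : ∀ v (y : ↥(twistedG2 K R.e)), y ∈ TwistAutRigid.U1 (twistedG2 K R.e) →
      Commute (gu R 0 0 v) y := fun v y hy => by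
    obtain ⟨t, u, w, rfl⟩ := mem_U1 R hy
    show _ * _ = _ * _
    rw [gu_mul, gu_mul]
    congr 1 <;> simp [add_comm]
  have hFv : ∀ v, θ (gu R 0 0 v) = gu R 0 0 (W 0 0 v) := fun v => by
    have key : ∀ y, y ∈ TwistAutRigid.U1 (twistedG2 K R.e) → Commute (θ (gu R 0 0 v)) y := fun y hy => by
      obtain ⟨z, rfl⟩ := θ.surjective y
      exact (hcomm v z ((hθ.U z).1 hy)).map θ.toMonoidHom
    rw [hFGW] at key ⊢
    have e1 := (key _ (gu_mem_U1 R 0 1 0)).eq
    rw [gu_mul, gu_mul] at e1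
    obtain ⟨-, -, e13⟩ := gu_inj R e1
    have hF0 : F 0 0 v = 0 := by simp at e13; linear_combination e13
    rw [hF0] at key ⊢
    have e2 := (key _ (gu_mem_U1 R 1 0 0)).eq
    rw [gu_mul, gu_mul] at e2
    obtain ⟨-, -, e23⟩ := gu_inj R e2
    have hG0 : G 0 0 v = 0 := by simp at e23; linear_combination e23
    rw [hG0]
  have hsplit : ∀ t u v, θ (gu R t u v) =
      gu R (F t 0 0) (G t 0 0 + G 0 u 0) (W t 0 0 + W 0 0 v) := fun t u v => by
    rw [show gu R t u v = gu R t 0 0 * gu R 0 u 0 * gu R 0 0 v by rw [gu_mul, gu_mul]; simp,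
      map_mul, map_mul, hFu, hFv, hFGW, gu_mul, gu_mul]
    simp
  have h00 : F 0 0 0 = 0 ∧ G 0 0 0 = 0 ∧ W 0 0 0 = 0 := by
    have e := hFGW 0 0 0
    rw [gu_zero, map_one, ← gu_zero] at e
    obtain ⟨e1, e2, e3⟩ := gu_inj R e
    exact ⟨e1.symm, e2.symm, e3.symm⟩
  have heq : ∀ (c : Kˣ) (t u v : K),
      F (chi R c * t) 0 0 = chi R (k c) * F t 0 0 ∧
      G (chi R c * t) 0 0 + G 0 (nu R c * u) 0 = nu R (k c) * (G t 0 0 + G 0 u 0) ∧
      W (chi R c * t) 0 0 + W 0 0 ((c : K) * v) = (k c : K) * (W t 0 0 + W 0 0 v) := fun c t u v => by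
    have e := congrArg θ (tr_conj R hT c t u v)
    rw [map_mul, map_mul, map_inv, hk, hsplit, hsplit, tr_conj] at e
    obtain ⟨e1, e2, e3⟩ := gu_inj R e
    exact ⟨e1.symm, e2.symm, e3.symm⟩
  have hadd : ∀ t s, F (t + s) 0 0 = F t 0 0 + F s 0 0 ∧
      G t 0 0 + G s 0 0 - R.θ (F s 0 0) ^ 3 * F t 0 0 = G (t + s) 0 0 + G 0 (-(R.θ s ^ 3 * t)) 0 ∧
      W t 0 0 + W s 0 0 - R.θ (F s 0 0) ^ 3 * F t 0 0 ^ 2 - F s 0 0 * (G t 0 0 - R.θ (F s 0 0) ^ 3 * F t 0 0) =
        W (t + s) 0 0 + W 0 0 (-(R.θ s ^ 3 * t ^ 2) - s * -(R.θ s ^ 3 * t)) := fun t s => by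
    have e := congrArg θ (gu_mul R t 0 0 s 0 0)
    rw [map_mul, hFGW, hFGW, gu_mul, hsplit] at e
    simp only [add_zero, zero_sub, zero_add] at e
    obtain ⟨e1, e2, e3⟩ := gu_inj R e
    exact ⟨e1.symm, e2, e3⟩
  have hF1 : F 1 0 0 = 1 := by
    obtain ⟨u, v, e⟩ := h1
    exact (gu_inj R ((hFGW 1 0 0).symm.trans e)).1
  have hchi : ∀ x : K, x ≠ 0 → ∃ c : Kˣ, x = chi R c := fun x hx => by
    obtain ⟨c, hc⟩ := (chi_bijective R).2 (Units.mk0 x hx)
    exact ⟨c, by rw [hc]; rfl⟩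
  let f : K →+* K :=
    { toFun := fun t => F t 0 0
      map_one' := hF1
      map_mul' := fun x y => by
        rcases eq_or_ne x 0 with rfl | hx
        · simp [h00.1]
        obtain ⟨c, rfl⟩ := hchi x hx
        show F (_ * y) 0 0 = F _ 0 0 * F y 0 0
        rw [(heq c y 0 0).1]
        have := (heq c 1 0 0).1
        rw [mul_one, hF1, mul_one] at this
        rw [this]
      map_zero' := h00.1
      map_add' := fun x y => (hadd x y).1 }
  let τ : K ≃+* K := RingEquiv.ofBijective f ⟨f.injective, Finite.injective_iff_surjective.mp f.injective⟩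
  have hτ : ∀ t, F t 0 0 = τ t := fun t => rfl
  have hkc : ∀ c : Kˣ, k c = Units.map τ.toRingHom.toMonoidHom c := fun c => by
    refine (chi_bijective R).1 (Units.ext ?_)
    have e := (heq c 1 0 0).1
    rw [mul_one, hF1, mul_one, hτ, chi_val, map_div₀, map_pow, map_pow, tau_theta] at e
    rw [← e, chi_val]
    rfl
  have hG : ∀ u, G 0 u 0 = τ u := by
    set Δ : K → K := fun u => G 0 u 0 - τ u with hΔ
    have hΔadd : ∀ x y, Δ (x + y) = Δ x + Δ y := fun x y => by
      have e := congrArg θ (gu_mul R 0 x 0 0 y 0)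
      rw [map_mul, hFu, hFu, gu_mul] at e
      simp only [mul_zero, zero_mul, sub_zero, add_zero, map_zero, ne_eq, OfNat.ofNat_ne_zero, not_false_eq_true, zero_pow] at e
      rw [hFu] at e
      have := (gu_inj R e).2.1
      simp only [hΔ, map_add]
      linear_combination -this
    have hΔ0 : Δ 0 = 0 := by simpa using hΔadd 0 0
    have hΔneg : ∀ x, Δ (-x) = -Δ x := fun x => by
      have := hΔadd x (-x); rw [add_neg_cancel, hΔ0] at this; linear_combination -this
    obtain ⟨t0, ht0⟩ := hq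
    set b := R.θ (1 : K) ^ 3 * t0 - R.θ t0 ^ 3 * 1 with hb
    have hb0 : b ≠ 0 := by
      rw [hb, map_one, one_pow, one_mul, mul_one, sub_ne_zero]
      exact fun h => ht0 h.symm
    have hΔb : Δ b = 0 := by
      have e1 := (hadd t0 1).2.1
      have e2 := (hadd 1 t0).2.1
      rw [add_comm 1 t0] at e2
      have e3 : G 0 (-(R.θ (1 : K) ^ 3 * t0)) 0 - G 0 (-(R.θ t0 ^ 3 * 1)) 0 =
          -(R.θ (F 1 0 0) ^ 3 * F t0 0 0) + R.θ (F t0 0 0) ^ 3 * F 1 0 0 := by
        linear_combination e2 - e1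
      rw [hτ, hτ] at e3
      have e4 : ∀ x, G 0 x 0 = Δ x + τ x := fun x => by simp [hΔ]
      rw [e4, e4, hΔneg, hΔneg, map_neg, map_neg, map_mul, map_mul, map_pow, map_pow, tau_theta, tau_theta] at e3
      rw [hb, sub_eq_add_neg, hΔadd, hΔneg]
      linear_combination -e3
    have hsq : ∀ w : K, Δ (w ^ 2 * b) = 0 := fun w => by
      rcases eq_or_ne w 0 with rfl | hw
      · simpa using hΔ0
      set d : Kˣ := Units.mk0 (R.θ w ^ 3 * w) (mul_ne_zero (pow_ne_zero 3 ((map_ne_zero R.θ).2 hw)) hw)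
      have hnu : (nu R d : K) = w ^ 2 := by
        rw [nu_val, div_eq_iff d.ne_zero]
        simp only [d, Units.val_mk0, map_mul, eta_eq]
        ring
      have e := (heq d 0 b 0).2.1
      rw [mul_zero, h00.2.1, zero_add, zero_add, hnu] at e
      have hnu' : (nu R (k d) : K) = τ (nu R d : K) := by
        rw [hkc, nu_val, nu_val, map_div₀, map_pow, tau_theta]
        rfl
      rw [hnu', hnu] at e
      simp only [hΔ] at hΔb ⊢
      rw [e, map_mul, map_pow]
      linear_combination τ w ^ 2 * hΔb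
    intro u
    have hu : Δ u = 0 := by
      set x := u / b
      have e : u = (x + 1) ^ 2 * b + -((x - 1) ^ 2 * b) := by
        have hxb : x * b = u := div_mul_cancel₀ u hb0
        linear_combination -(4 : K) * hxb - u * h4
      rw [e, hΔadd, hΔneg, hsq, hsq]
      simp
    exact sub_eq_zero.mp hu
  have hδ : ∀ t, G t 0 0 = 0 := fun t => by
    have e1 := congrArg θ (tr_neg_conj R hT t 0 0)
    rw [map_mul, map_mul, map_inv, ha, neg_zero, hsplit, hsplit, tr_neg_conj] at e1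
    have e1' := (gu_inj R e1).2.1
    have e2 := (hadd t (-t)).2.1
    rw [add_neg_cancel, h00.2.1, zero_add, hG, hτ, hτ] at e2
    simp only [map_neg, map_mul, map_pow, tau_theta] at e2
    have : (2 : K) * G t 0 0 = 0 := by linear_combination e2 + e1'
    exact (mul_eq_zero.mp this).resolve_left h2ne
  have hW : ∀ v, W 0 0 v = τ v := fun v => by
    have e := congrArg θ (gu_mul R 0 (-v) 0 1 0 0)
    rw [map_mul, hFu, hFGW 1 0 0, gu_mul, hsplit] at e
    have := (gu_inj R e).2.2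
    rw [hF1, hG, map_neg] at this
    simp only [mul_zero, sub_zero, one_mul, zero_add, add_zero, ne_eq, OfNat.ofNat_ne_zero, not_false_eq_true,
      zero_pow, zero_sub, neg_neg] at this
    linear_combination -this
  have hη : ∀ t, W t 0 0 = 0 := by
    have hadd' : ∀ t s, W (t + s) 0 0 = W t 0 0 + W s 0 0 := fun t s => by
      have e := (hadd t s).2.2
      rw [hW, hδ, hτ, hτ] at e
      simp only [map_neg, map_sub, map_mul, map_pow, tau_theta] at e
      linear_combination -e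
    have hequ : ∀ c : Kˣ, W (chi R c : K) 0 0 = τ (c : K) * W 1 0 0 := fun c => by
      have e := (heq c 1 0 0).2.2
      rw [mul_zero, h00.2.2, add_zero, add_zero, mul_one, hkc] at e
      exact e
    have hη1 : W 1 0 0 = 0 := by
      by_contra hne
      obtain ⟨t0, ht0⟩ := hq
      have ht0' : t0 ≠ 0 := fun h => ht0 (by rw [h, map_zero, zero_pow three_ne_zero])
      set c : Kˣ := Units.mk0 t0 ht0'
      by_cases hc1 : (chi R c : K) + 1 = 0
      · have : c = -1 := by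
          refine (chi_bijective R).1 (Units.ext ?_)
          rw [chi_val (c := -1)]
          simp only [Units.val_neg, Units.val_one, map_neg, map_one, neg_sq, one_pow]
          rw [show ((-1 : K)) ^ 3 = -1 by ring, one_div, inv_neg, inv_one]
          linear_combination hc1
        have e := congrArg Units.val this
        simp only [c, Units.val_mk0, Units.val_neg, Units.val_one] at e
        exact ht0 (by rw [e, map_neg, map_one]; ring)
      · obtain ⟨d, hd⟩ := hchi _ hc1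
        have e := hadd' (chi R c : K) 1
        rw [hd, hequ, hequ] at e
        have e' : τ (d : K) = τ ((c : K) + 1) := by
          rw [map_add, map_one]
          exact mul_right_cancel₀ hne (by linear_combination e)
        have hdc : (d : K) = t0 + 1 := τ.injective e'
        rw [chi_val, chi_val, hdc, map_add, map_one] at hd
        simp only [c, Units.val_mk0] at hd
        set w := R.θ t0 ^ 3 with hw
        have hw0 : R.θ t0 ≠ 0 := (map_ne_zero R.θ).2 ht0'
        have hw1 : R.θ t0 + 1 ≠ 0 := by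
          rw [← map_one R.θ, ← map_add]
          exact (map_ne_zero R.θ).2 (fun h => d.ne_zero (hdc.trans h))
        have hcube : (R.θ t0 + 1) ^ 3 = w + 1 := by rw [add_pow_char, one_pow]
        rw [hcube, div_add_one (pow_ne_zero 3 hw0),
          div_eq_div_iff (pow_ne_zero 3 hw0) (hcube ▸ pow_ne_zero 3 hw1)] at hd
        have : (w - t0) ^ 2 = 0 := by linear_combination hd
        exact ht0 (sub_eq_zero.mp (eq_zero_of_pow_eq_zero this))
    intro t
    rcases eq_or_ne t 0 with rfl | ht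
    · exact h00.2.2
    · obtain ⟨c, rfl⟩ := hchi t ht
      rw [hequ, hη1, mul_zero]
  refine ⟨τ, fun t u v => ?_, ha⟩
  rw [hsplit, hδ, hη, hG, hW, zero_add, zero_add]
  rfl

theorem psi_pair : TwistAutSL2.Pair (psi R.θ) (chevG2.posUnipotent K) (chevG2.negUnipotent K) where
  memU := psi_upper_mem_U R.θ
  memV := psi_lower_mem_V R.θ
  disj g hu hv := Subgroup.mem_bot.mp ((ChevalleyTorus.B_inf_V c2 (F := K)).le ⟨Sys.U_le_B hu, hv⟩)
  upper_eq_one t h := psi_upper_eq_one R.θ h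

include hT hq in
/-- an automorphism is an inner automorphism times one acting as a field automorphism -/
theorem exists_field_form (θ : ↥(twistedG2 K R.e) ≃* ↥(twistedG2 K R.e)) :
    ∃ (x : ↥(twistedG2 K R.e)) (τ : K ≃+* K) (θ' : ↥(twistedG2 K R.e) ≃* ↥(twistedG2 K R.e)),
      (∀ y, θ y = x * θ' y * x⁻¹) ∧
      ∀ y : ↥(twistedG2 K R.e),
        ((θ' y : GL chevG2.Idx K)) = Matrix.GeneralLinearGroup.map τ.toRingHom (y : GL chevG2.Idx K) := by
  obtain ⟨x, θ₁, hfix, hx⟩ := TwistAutRigid.exists_fix R.classes θ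
  obtain ⟨a, b, d, hab⟩ := mem_U1 R ((hfix.U _).2 (gu_mem_U1 R 1 0 0))
  have hp0 : a ≠ 0 := by
    rintro rfl
    have hT0 : ∀ u v, ∃ u' v', θ₁.symm (gu R 0 u v) = gu R 0 u' v' := by
      -- the elements killed by the first parameter form the centraliser of the centre of the group
      intro u v
      obtain ⟨t', u', v', e⟩ := mem_U1 R ((hfix.symm.U _).2 (gu_mem_U1 R 0 u v))
      refine ⟨u', v', ?_⟩
      have hc : ∀ v, ∃ w, θ₁.symm (gu R 0 0 v) = gu R 0 0 w := by
        intro v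
        obtain ⟨p, q, w, hpq⟩ := mem_U1 R ((hfix.symm.U _).2 (gu_mem_U1 R 0 0 v))
        have key : ∀ y, y ∈ TwistAutRigid.U1 (twistedG2 K R.e) → Commute (gu R p q w) y := fun y hy => by
          rw [← hpq]
          have : Commute (gu R 0 0 v) (θ₁ y) := by
            obtain ⟨t, u, z, hz⟩ := mem_U1 R ((hfix.U _).2 hy)
            show _ * _ = _ * _
            rw [hz, gu_mul, gu_mul]
            congr 1 <;> simp [add_comm]
          simpa using this.map θ₁.symm.toMonoidHom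
        have e1 := (key _ (gu_mem_U1 R 0 1 0)).eq
        rw [gu_mul, gu_mul] at e1
        have hp : p = 0 := by have h' := (gu_inj R e1).2.2; simp at h'; linear_combination h'
        subst hp
        have e2 := (key _ (gu_mem_U1 R 1 0 0)).eq
        rw [gu_mul, gu_mul] at e2
        have hq : q = 0 := by have h' := (gu_inj R e2).2.2; simp at h'; linear_combination h'
        subst hq
        exact ⟨w, hpq⟩
      -- the commutator with the whole group is central
      by_contra hne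
      obtain ⟨t0, ht0⟩ := hq
      have ht' : t' ≠ 0 := fun h => hne (by rw [e, h])
      have key : ∀ y, y ∈ TwistAutRigid.U1 (twistedG2 K R.e) → ∃ w,
          gu R t' u' v' * y = y * gu R t' u' v' * gu R 0 0 w := fun y hy => by
        obtain ⟨p, q, r, hpq⟩ := mem_U1 R ((hfix.U _).2 hy)
        have e1 : gu R 0 u v * θ₁ y = θ₁ y * gu R 0 u v * gu R 0 0 (-(p * u)) := by
          rw [hpq, gu_mul, gu_mul, gu_mul]
          congr 1 <;> simp <;> ring
        obtain ⟨w, hw⟩ := hc (-(p * u))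
        refine ⟨w, ?_⟩
        have := congrArg θ₁.symm e1
        simpa [e, hw] using this
      obtain ⟨w, hw⟩ := key _ (gu_mem_U1 R (t' * t0) 0 0)
      rw [gu_mul, gu_mul, gu_mul] at hw
      have h5 := (gu_inj R hw).2.1
      simp only [mul_zero, sub_zero, add_zero, zero_add, zero_sub, map_zero, ne_eq, OfNat.ofNat_ne_zero,
        not_false_eq_true, zero_pow, zero_mul, map_mul] at h5
      have : R.θ t' ^ 3 * t' * (R.θ t0 ^ 3 - t0) = 0 := by linear_combination -h5
      rcases mul_eq_zero.mp this with h | h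
      · rcases mul_eq_zero.mp h with h' | h'
        · exact ht' ((map_eq_zero R.θ).mp (eq_zero_of_pow_eq_zero h'))
        · exact ht' h'
      · exact ht0 (sub_eq_zero.mp h)
    obtain ⟨u', v', e⟩ := hT0 b d
    rw [← hab, MulEquiv.symm_apply_apply] at e
    exact one_ne_zero (gu_inj R e).1
  obtain ⟨c, hc⟩ := (chi_bijective R).2 (Units.mk0 a hp0)⁻¹
  set h := tr R hT c with hh
  set θ₂ := θ₁.trans (MulAut.conj h) with hθ₂
  obtain ⟨hB, hV⟩ := (mem_tor_iff R hT).2 ⟨c, hh⟩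
  have hfix2 : TwistAutRigid.Fix (twistedG2 K R.e) θ₂ := by
    refine ⟨fun y => ?_, fun y => (hV _).trans (hfix.V y)⟩
    have hn : h ∈ Subgroup.normalizer (TwistAutRigid.U1 (twistedG2 K R.e) : Set ↥(twistedG2 K R.e)) := by
      rw [TwistAutRigid.normalizer_U1 R.classes]; exact hB
    exact (Subgroup.mem_normalizer_iff.mp hn _).symm.trans (hfix.U y)
  obtain ⟨τ, hτ, ha⟩ := field_on_U R hT hq hfix2 ⟨nu R c * b, (c : K) * d, by
    show h * θ₁ _ * h⁻¹ = _
    rw [hab, hh, tr_conj, hc]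
    simp [hp0]⟩
  -- the representative of the class is fixed
  set n := m0 R with hn
  obtain ⟨t', μ, v', hμ⟩ : ∃ t' μ v', θ₂ (n * gu R 0 1 0 * n⁻¹) = n * gu R t' μ v' * n⁻¹ := by
    have h1 := (hfix2.V _).2 ((conj_V1 R).2 (gu_mem_U1 R 0 1 0))
    set z := θ₂ (n * gu R 0 1 0 * n⁻¹)
    have h2 : n⁻¹ * z * n ∈ TwistAutRigid.U1 (twistedG2 K R.e) := by
      rw [← conj_V1 R]; simpa [hn, mul_assoc] using h1
    obtain ⟨t', μ, v', e⟩ := mem_U1 R h2
    exact ⟨t', μ, v', by rw [← e]; group⟩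
  have hna : n * tr R hT (-1) = tr R hT (-1) * n := by
    have := congrArg (fun z => n * z) (m0_tr_neg R hT)
    simpa [hn, mul_assoc] using this.symm
  have h2ne := (two_facts (K := K)).1
  obtain ⟨rfl, rfl⟩ : t' = 0 ∧ v' = 0 := by
    have hconj : ∀ y, tr R hT (-1) * (n * y * n⁻¹) * (tr R hT (-1))⁻¹ =
        n * (tr R hT (-1) * y * (tr R hT (-1))⁻¹) * n⁻¹ := fun y => by
      calc _ = (tr R hT (-1) * n) * y * (tr R hT (-1) * n)⁻¹ := by group
        _ = _ := by rw [← hna]; group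
    have e := congrArg θ₂ (show tr R hT (-1) * (n * gu R 0 1 0 * n⁻¹) * (tr R hT (-1))⁻¹ = n * gu R 0 1 0 * n⁻¹ by
      rw [hconj, tr_neg_conj, neg_zero])
    rw [map_mul θ₂ (_ * _), map_mul θ₂ (tr R hT (-1)), map_inv, ha, hμ, hconj, tr_neg_conj] at e
    obtain ⟨e1, -, e3⟩ := gu_inj R (mul_left_cancel (mul_right_cancel e))
    have hz : ∀ x : K, -x = x → x = 0 := fun x hx =>
      (mul_eq_zero.mp (show (2 : K) * x = 0 by linear_combination -hx)).resolve_left h2ne
    exact ⟨hz _ e1, hz _ e3⟩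
  have hnel : (TwistAutSL2.nel (1 : K)) = ChevalleySL2.wel := by
    ext i j
    fin_cases i <;> fin_cases j <;>
      simp [TwistAutSL2.nel, TwistAutSL2.upper_val, TwistAutSL2.lower_val, ChevalleySL2.wel,
        Matrix.SpecialLinearGroup.coe_mul, Matrix.mul_apply, Fin.sum_univ_two]
  have hcn : (n : GL chevG2.Idx K) = psi R.θ (TwistAutSL2.nel (1 : K)) := by
    rw [hnel]; exact R.cn_eq
  have hlow : ∀ u, ((n * gu R 0 u 0 * n⁻¹ : ↥(twistedG2 K R.e)) : GL chevG2.Idx K) =
      psi R.θ (ChevalleySL2.lower (-u)) := fun u => by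
    rw [Subgroup.coe_mul, Subgroup.coe_mul, Subgroup.coe_inv, hcn, gu_psi, ← map_inv, ← map_mul, ← map_mul,
      TwistAutSL2.nel_conj one_ne_zero]
    simp
  have hval : ∀ a b c : ↥(twistedG2 K R.e), ((a * b * c : ↥(twistedG2 K R.e)) : GL chevG2.Idx K) =
      (a : GL chevG2.Idx K) * b * c := fun _ _ _ => rfl
  have hne : n = gu R 0 1 0 * (n * gu R 0 1 0 * n⁻¹) * gu R 0 1 0 := by
    apply Subtype.ext
    rw [hval, hlow, gu_psi, ← map_mul, ← map_mul, hcn]
    simp [TwistAutSL2.nel]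
  have hp : θ₂ n = gu R 0 1 0 * (n * gu R 0 μ 0 * n⁻¹) * gu R 0 1 0 := by
    have key : ∀ a b, θ₂ (a * b * a) = θ₂ a * θ₂ b * θ₂ a := fun a b => by simp only [map_mul]
    conv_lhs => rw [hne]
    rw [key, hμ, hτ, map_zero, map_one]
  have hμ1 : μ = 1 := by
    have e := hμ
    rw [map_mul θ₂ (_ * _), map_mul θ₂ n, map_inv, hp, hτ, map_zero, map_one] at e
    have e' := congrArg Subtype.val e
    rw [hval, Subgroup.coe_inv, hval (gu R 0 1 0), hlow, gu_psi] at e'
    simp only [← map_mul, ← map_inv] at e'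
    have := TwistAutSL2.rank_one (psi_pair R) e'
    linear_combination -this
  have hnfix : θ₂ n = n := by rw [hp, hμ1, ← hne]
  have hmn : Matrix.GeneralLinearGroup.map τ.toRingHom (n : GL chevG2.Idx K) = (n : GL chevG2.Idx K) := by
    show Matrix.GeneralLinearGroup.map τ.toRingHom (Ctx.cn : GL chevG2.Idx K) = Ctx.cn
    simp [Ctx.cn, ng, xg_map]
  refine ⟨x * h⁻¹, τ, θ₂, fun y => ?_, fun y => ?_⟩
  · simp [hθ₂, hx, mul_assoc]
  suffices key : ∀ g ∈ twistedG2 K R.e, ∀ hg : g ∈ twistedG2 K R.e,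
      ((θ₂ ⟨g, hg⟩ : ↥(twistedG2 K R.e)) : GL chevG2.Idx K) = Matrix.GeneralLinearGroup.map τ.toRingHom g from
    key y y.2 y.2
  intro g hg
  unfold twistedG2 ChevalleyDatum.genSubgroup at hg
  induction hg using Subgroup.closure_induction with
  | mem g hgm =>
    intro hg
    obtain ⟨w, hw, e⟩ := hgm
    obtain rfl : g = wg c2 w := Units.ext (e.trans (coe_wg c2 w).symm)
    obtain ⟨t, u, v, hw⟩ := hw
    have hsb : ∃ s : Bool, wg c2 w = gen R.θ s t u v := by
      rcases hw with rfl | rfl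
      · exact ⟨false, (R.gen_eq false t u v).symm⟩
      · exact ⟨true, (R.gen_eq true t u v).symm⟩
    obtain ⟨s, hs⟩ := hsb
    rcases s with _ | _
    · rw [show (⟨_, hg⟩ : ↥(twistedG2 K R.e)) = gu R t u v from Subtype.ext hs, hτ, coe_gu, hs, map_gen]
    · have hV1 : (⟨_, hg⟩ : ↥(twistedG2 K R.e)) ∈ TwistAutRigid.V1 (twistedG2 K R.e) := by
        show wg c2 w ∈ chevG2.negUnipotent K
        rw [hs]
        have hm : ∀ r ∈ ([6, 7, 8, 9, 10, 11] : List ℕ), ∀ z : K,
            ReeTwist17.X true r z ∈ chevG2.negUnipotent K := fun r hr z => by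
          have hneg : ∀ r ∈ ([6, 7, 8, 9, 10, 11] : List ℕ), chevG2.IsNegRoot (chevG2.neg r) := by decide +kernel
          exact R.tw.S.xg_mem_V (hneg r hr) _
        exact mul_mem (mul_mem (hm _ (by simp) _) (hm _ (by simp) _))
          (mul_mem (mul_mem (mul_mem (hm _ (by simp) _) (hm _ (by simp) _)) (hm _ (by simp) _)) (hm _ (by simp) _))
      have h2 : n⁻¹ * (⟨_, hg⟩ : ↥(twistedG2 K R.e)) * n ∈ TwistAutRigid.U1 (twistedG2 K R.e) := by
        rw [← conj_V1 R]; simpa [hn, mul_assoc] using hV1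
      obtain ⟨t', u', v', e'⟩ := mem_U1 R h2
      have hy : (⟨_, hg⟩ : ↥(twistedG2 K R.e)) = n * gu R t' u' v' * n⁻¹ := by rw [← e']; group
      rw [hy, map_mul, map_mul, map_inv, hnfix, hτ,
        show wg c2 w = ((⟨_, hg⟩ : ↥(twistedG2 K R.e)) : GL chevG2.Idx K) from rfl, hy]
      simp only [Subgroup.coe_mul, Subgroup.coe_inv, map_mul, map_inv, hmn, coe_gu, map_gen]
  | one =>
    intro hg
    rw [map_one]
    exact (congrArg Subtype.val (map_one θ₂) :)
  | mul a b ha hb iha ihb =>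
    intro hg
    rw [map_mul, ← iha ha, ← ihb hb, ← Subgroup.coe_mul, ← map_mul]
    rfl
  | inv a ha iha =>
    intro hg
    rw [map_inv, ← iha ha, ← Subgroup.coe_inv, ← map_inv]
    rfl

theorem map_mem (τ : K ≃+* K) {g : GL chevG2.Idx K} (hg : g ∈ twistedG2 K R.e) :
    Matrix.GeneralLinearGroup.map τ.toRingHom g ∈ twistedG2 K R.e := by
  suffices h : (twistedG2 K R.e).map (Matrix.GeneralLinearGroup.map τ.toRingHom) ≤ twistedG2 K R.e from
    h ⟨g, hg, rfl⟩
  rw [Subgroup.map_le_iff_le_comap]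
  refine gen_le c2 ?_
  rintro w ⟨t, u, v, hw⟩
  rw [Subgroup.mem_comap]
  have hsb : ∃ s : Bool, wg c2 w = gen R.θ s t u v := by
    rcases hw with rfl | rfl
    · exact ⟨false, (R.gen_eq false t u v).symm⟩
    · exact ⟨true, (R.gen_eq true t u v).symm⟩
  obtain ⟨s, hs⟩ := hsb
  rw [hs, map_gen]
  exact R.gen_mem _ _ _ _

/-- the field automorphism of the group -/
noncomputable def fieldAut : (K ≃+* K) →* MulAut ↥(twistedG2 K R.e) where
  toFun τ :=
    { toFun := fun y => ⟨_, map_mem R τ y.2⟩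
      invFun := fun y => ⟨_, map_mem R τ.symm y.2⟩
      left_inv := fun y => Subtype.ext (Units.ext (by ext i j; simp))
      right_inv := fun y => Subtype.ext (Units.ext (by ext i j; simp))
      map_mul' := fun a b => Subtype.ext (map_mul _ _ _) }
  map_one' := MulEquiv.ext fun y => Subtype.ext (Units.ext (by ext i j; simp))
  map_mul' _ _ := MulEquiv.ext fun y => Subtype.ext (Units.ext (by ext i j; simp))

include hT in
theorem inner_field {τ : K ≃+* K} (h : fieldAut R τ ∈ Cfsg.Inn ↥(twistedG2 K R.e)) : τ = 1 := by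
  obtain ⟨x, hx⟩ := h
  have hxa : ∀ y : ↥(twistedG2 K R.e), (x : GL chevG2.Idx K) * y * (x : GL chevG2.Idx K)⁻¹ =
      Matrix.GeneralLinearGroup.map τ.toRingHom (y : GL chevG2.Idx K) := fun y =>
    congrArg Subtype.val (DFunLike.congr_fun hx y)
  have hmap : ∀ (D' : Subgroup (GL chevG2.Idx K)) (P : ℕ → Prop),
      D' = Subgroup.closure {g : GL chevG2.Idx K | ∃ (r : ℕ) (t : K), P r ∧
        (g : Matrix chevG2.Idx chevG2.Idx K) = chevG2.x K r t} →
      ∀ (σ : K ≃+* K) {g : GL chevG2.Idx K}, g ∈ D' → Matrix.GeneralLinearGroup.map σ.toRingHom g ∈ D' := by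
    intro D' P hD σ g hg
    subst hD
    induction hg using Subgroup.closure_induction with
    | mem g hg =>
      obtain ⟨r, t, hr, hg⟩ := hg
      obtain rfl : g = xg c2 r t := Units.ext hg
      rw [xg_map]
      exact Subgroup.subset_closure ⟨r, σ t, hr, rfl⟩
    | one => rw [map_one]; exact one_mem _
    | mul a b _ _ ha hb => rw [map_mul]; exact mul_mem ha hb
    | inv a _ ha => rw [map_inv]; exact inv_mem ha
  have hinv : ∀ (σ : K ≃+* K) (g : GL chevG2.Idx K),
      Matrix.GeneralLinearGroup.map σ.symm.toRingHom (Matrix.GeneralLinearGroup.map σ.toRingHom g) = g :=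
    fun σ g => Units.ext (by ext i j; simp)
  have hxU : x ∈ Subgroup.normalizer (TwistAutRigid.U1 (twistedG2 K R.e) : Set ↥(twistedG2 K R.e)) := by
    refine Subgroup.mem_normalizer_iff.mpr fun y => ?_
    show (y : GL chevG2.Idx K) ∈ chevG2.posUnipotent K ↔
      (x : GL chevG2.Idx K) * y * (x : GL chevG2.Idx K)⁻¹ ∈ chevG2.posUnipotent K
    rw [hxa]
    refine ⟨hmap _ _ rfl τ, fun h => ?_⟩
    have := hmap (chevG2.posUnipotent K) _ rfl τ.symm h
    rwa [hinv] at this
  have hxV : ∀ y : ↥(twistedG2 K R.e),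
      x * y * x⁻¹ ∈ TwistAutRigid.V1 (twistedG2 K R.e) ↔ y ∈ TwistAutRigid.V1 (twistedG2 K R.e) := fun y => by
    show (x : GL chevG2.Idx K) * y * (x : GL chevG2.Idx K)⁻¹ ∈ chevG2.negUnipotent K ↔
      (y : GL chevG2.Idx K) ∈ chevG2.negUnipotent K
    rw [hxa]
    refine ⟨fun h => ?_, hmap _ _ rfl τ⟩
    have := hmap (chevG2.negUnipotent K) _ rfl τ.symm h
    rwa [hinv] at this
  rw [TwistAutRigid.normalizer_U1 R.classes] at hxU
  obtain ⟨c, rfl⟩ := (mem_tor_iff R hT).1 ⟨hxU, hxV⟩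
  have hval : ∀ t : K, τ t = (chi R c : K) * t := fun t => by
    have h1 := hxa (gu R t 0 0)
    rw [coe_gu, map_gen, map_zero] at h1
    have h2 : tr R hT c * gu R t 0 0 * (tr R hT c)⁻¹ = gu R (τ t) 0 0 := Subtype.ext h1
    rw [tr_conj] at h2
    exact (gu_inj R h2).1.symm
  refine RingEquiv.ext fun t => ?_
  have h1 := hval 1
  rw [map_one, mul_one] at h1
  rw [hval, ← h1, one_mul]
  rfl

include hT hq in
theorem card_out {n : ℕ} (hK : Fintype.card K = 3 ^ n) : Nat.card (Cfsg.Out ↥(twistedG2 K R.e)) = n := by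
  have : Fact (Nat.Prime 3) := ⟨Nat.prime_three⟩
  rw [← ChevAutGalois.card_ringAut 3 n hK]
  refine (Nat.card_eq_of_bijective ((QuotientGroup.mk' (Cfsg.Inn ↥(twistedG2 K R.e))).comp (fieldAut R))
    ⟨?_, ?_⟩).symm
  · rw [injective_iff_map_eq_one]
    intro τ hτ
    exact inner_field R hT ((QuotientGroup.eq_one_iff _).mp hτ)
  · intro z
    obtain ⟨θ, rfl⟩ := QuotientGroup.mk'_surjective _ z
    obtain ⟨x, τ, θ', hθ, hθ'⟩ := exists_field_form R hT hq θ
    refine ⟨τ, ?_⟩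
    have he : θ = MulAut.conj x * fieldAut R τ := MulEquiv.ext fun y => by
      rw [hθ]
      have : θ' y = fieldAut R τ y := Subtype.ext (hθ' y)
      rw [this]; rfl
    rw [he, map_mul]
    show _ = (QuotientGroup.mk' _) (MulAut.conj x) * _
    rw [show (QuotientGroup.mk' (Cfsg.Inn ↥(twistedG2 K R.e))) (MulAut.conj x) = 1 from
      (QuotientGroup.eq_one_iff _).mpr ⟨x, rfl⟩, one_mul]
    rfl

end Cfsg.Agent.TwistAutG2
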