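import Mathlib

/-!
Tables for the unipotent subgroup of the twisted E6 group over the field with four elements: the
generators as products of root elements, the relations, the action of the fundamental classes and of the
torus, and two cocycles of order two with their corrections.
-/

set_option autoImplicit false

namespace Cfsg.Agent.TwistE6MultData14

/-- the generators: roots with coded parameters (2 the chosen element, 3 its square) -/
def gl : List (List (ℕ × ℕ)) := [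
  [(39, 1)],
  [(46, 1)],
  [(36, 2), (56, 3)],
  [(36, 3), (56, 2)],
  [(37, 2), (42, 3)],
  [(37, 3), (42, 2)],
  [(47, 1)],
  [(38, 2), (57, 3)],
  [(38, 3), (57, 2)],
  [(40, 2), (43, 3)],
  [(40, 3), (43, 2)],
  [(44, 1)],
  [(41, 2), (58, 3)],
  [(41, 3), (58, 2)],
  [(48, 2), (50, 3)],
  [(48, 3), (50, 2)],
  [(51, 1)],
  [(45, 2), (59, 3)],
  [(45, 3), (59, 2)],
  [(49, 2), (61, 3)],
  [(49, 3), (61, 2)],
  [(53, 1)],
  [(60, 1)],
  [(52, 2), (62, 3)],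
  [(52, 3), (62, 2)],
  [(63, 1)],
  [(54, 2), (64, 3)],
  [(54, 3), (64, 2)],
  [(65, 1)],
  [(55, 2), (67, 3)],
  [(55, 3), (67, 2)],
  [(66, 2), (68, 3)],
  [(66, 3), (68, 2)],
  [(69, 1)],
  [(70, 1)],
  [(71, 1)]]

/-- the relations, the one of `(t, i)` at place `t * (t + 1) / 2 + i` -/
def rels : List (List ℕ × List ℕ) := [
  ([0, 0], []),
  ([1, 0], [0, 1, 6]),
  ([1, 1], []),
  ([2, 0], [0, 2]),
  ([2, 1], [1, 2]),
  ([2, 2], []),
  ([3, 0], [0, 3]),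
  ([3, 1], [1, 3]),
  ([3, 2], [2, 3]),
  ([3, 3], []),
  ([4, 0], [0, 4, 9, 11]),
  ([4, 1], [1, 4]),
  ([4, 2], [2, 4, 8]),
  ([4, 3], [3, 4, 7, 8]),
  ([4, 4], []),
  ([5, 0], [0, 5, 10, 11]),
  ([5, 1], [1, 5]),
  ([5, 2], [2, 5, 7, 8]),
  ([5, 3], [3, 5, 7]),
  ([5, 4], [4, 5]),
  ([5, 5], []),
  ([6, 0], [0, 6]),
  ([6, 1], [1, 6]),
  ([6, 2], [2, 6]),
  ([6, 3], [3, 6]),
  ([6, 4], [4, 6, 14, 16]),
  ([6, 5], [5, 6, 15, 16]),
  ([6, 6], []),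
  ([7, 0], [0, 7, 12, 22]),
  ([7, 1], [1, 7]),
  ([7, 2], [2, 7]),
  ([7, 3], [3, 7]),
  ([7, 4], [4, 7]),
  ([7, 5], [5, 7]),
  ([7, 6], [6, 7, 19, 25]),
  ([7, 7], []),
  ([8, 0], [0, 8, 13, 22]),
  ([8, 1], [1, 8]),
  ([8, 2], [2, 8]),
  ([8, 3], [3, 8]),
  ([8, 4], [4, 8]),
  ([8, 5], [5, 8]),
  ([8, 6], [6, 8, 20, 25]),
  ([8, 7], [7, 8]),
  ([8, 8], []),
  ([9, 0], [0, 9]),
  ([9, 1], [1, 9, 14, 21]),
  ([9, 2], [2, 9, 13]),
  ([9, 3], [3, 9, 12, 13]),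
  ([9, 4], [4, 9]),
  ([9, 5], [5, 9, 11]),
  ([9, 6], [6, 9]),
  ([9, 7], [7, 9, 17, 18]),
  ([9, 8], [8, 9, 17]),
  ([9, 9], []),
  ([10, 0], [0, 10]),
  ([10, 1], [1, 10, 15, 21]),
  ([10, 2], [2, 10, 12, 13]),
  ([10, 3], [3, 10, 12]),
  ([10, 4], [4, 10, 11]),
  ([10, 5], [5, 10]),
  ([10, 6], [6, 10]),
  ([10, 7], [7, 10, 18]),
  ([10, 8], [8, 10, 17, 18]),
  ([10, 9], [9, 10]),
  ([10, 10], []),
  ([11, 0], [0, 11]),
  ([11, 1], [1, 11, 16]),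
  ([11, 2], [2, 11, 17, 22]),
  ([11, 3], [3, 11, 18, 22]),
  ([11, 4], [4, 11]),
  ([11, 5], [5, 11]),
  ([11, 6], [6, 11, 21]),
  ([11, 7], [7, 11]),
  ([11, 8], [8, 11]),
  ([11, 9], [9, 11]),
  ([11, 10], [10, 11]),
  ([11, 11], []),
  ([12, 0], [0, 12]),
  ([12, 1], [1, 12, 19, 28]),
  ([12, 2], [2, 12]),
  ([12, 3], [3, 12]),
  ([12, 4], [4, 12, 17, 18]),
  ([12, 5], [5, 12, 18]),
  ([12, 6], [6, 12]),
  ([12, 7], [7, 12]),
  ([12, 8], [8, 12, 22]),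
  ([12, 9], [9, 12]),
  ([12, 10], [10, 12]),
  ([12, 11], [11, 12]),
  ([12, 12], []),
  ([13, 0], [0, 13]),
  ([13, 1], [1, 13, 20, 28]),
  ([13, 2], [2, 13]),
  ([13, 3], [3, 13]),
  ([13, 4], [4, 13, 17]),
  ([13, 5], [5, 13, 17, 18]),
  ([13, 6], [6, 13]),
  ([13, 7], [7, 13, 22]),
  ([13, 8], [8, 13]),
  ([13, 9], [9, 13]),
  ([13, 10], [10, 13]),
  ([13, 11], [11, 13]),
  ([13, 12], [12, 13]),
  ([13, 13], []),
  ([14, 0], [0, 14]),
  ([14, 1], [1, 14]),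
  ([14, 2], [2, 14, 20]),
  ([14, 3], [3, 14, 19, 20]),
  ([14, 4], [4, 14]),
  ([14, 5], [5, 14, 16]),
  ([14, 6], [6, 14]),
  ([14, 7], [7, 14, 23, 24]),
  ([14, 8], [8, 14, 23]),
  ([14, 9], [9, 14]),
  ([14, 10], [10, 14, 21]),
  ([14, 11], [11, 14]),
  ([14, 12], [12, 14, 26, 27]),
  ([14, 13], [13, 14, 26]),
  ([14, 14], []),
  ([15, 0], [0, 15]),
  ([15, 1], [1, 15]),
  ([15, 2], [2, 15, 19, 20]),
  ([15, 3], [3, 15, 19]),
  ([15, 4], [4, 15, 16]),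
  ([15, 5], [5, 15]),
  ([15, 6], [6, 15]),
  ([15, 7], [7, 15, 24]),
  ([15, 8], [8, 15, 23, 24]),
  ([15, 9], [9, 15, 21]),
  ([15, 10], [10, 15]),
  ([15, 11], [11, 15]),
  ([15, 12], [12, 15, 27]),
  ([15, 13], [13, 15, 26, 27]),
  ([15, 14], [14, 15]),
  ([15, 15], []),
  ([16, 0], [0, 16, 21]),
  ([16, 1], [1, 16]),
  ([16, 2], [2, 16, 23, 25]),
  ([16, 3], [3, 16, 24, 25]),
  ([16, 4], [4, 16]),
  ([16, 5], [5, 16]),
  ([16, 6], [6, 16]),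
  ([16, 7], [7, 16]),
  ([16, 8], [8, 16]),
  ([16, 9], [9, 16]),
  ([16, 10], [10, 16]),
  ([16, 11], [11, 16]),
  ([16, 12], [12, 16, 29, 34]),
  ([16, 13], [13, 16, 30, 34]),
  ([16, 14], [14, 16]),
  ([16, 15], [15, 16]),
  ([16, 16], []),
  ([17, 0], [0, 17]),
  ([17, 1], [1, 17, 23, 33]),
  ([17, 2], [2, 17]),
  ([17, 3], [3, 17, 22]),
  ([17, 4], [4, 17]),
  ([17, 5], [5, 17]),
  ([17, 6], [6, 17, 26, 34]),
  ([17, 7], [7, 17]),
  ([17, 8], [8, 17]),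
  ([17, 9], [9, 17]),
  ([17, 10], [10, 17]),
  ([17, 11], [11, 17]),
  ([17, 12], [12, 17]),
  ([17, 13], [13, 17]),
  ([17, 14], [14, 17, 30]),
  ([17, 15], [15, 17, 29, 30]),
  ([17, 16], [16, 17]),
  ([17, 17], []),
  ([18, 0], [0, 18]),
  ([18, 1], [1, 18, 24, 33]),
  ([18, 2], [2, 18, 22]),
  ([18, 3], [3, 18]),
  ([18, 4], [4, 18]),
  ([18, 5], [5, 18]),
  ([18, 6], [6, 18, 27, 34]),
  ([18, 7], [7, 18]),
  ([18, 8], [8, 18]),
  ([18, 9], [9, 18]),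
  ([18, 10], [10, 18]),
  ([18, 11], [11, 18]),
  ([18, 12], [12, 18]),
  ([18, 13], [13, 18]),
  ([18, 14], [14, 18, 29, 30]),
  ([18, 15], [15, 18, 29]),
  ([18, 16], [16, 18]),
  ([18, 17], [17, 18]),
  ([18, 18], []),
  ([19, 0], [0, 19]),
  ([19, 1], [1, 19]),
  ([19, 2], [2, 19]),
  ([19, 3], [3, 19]),
  ([19, 4], [4, 19, 23, 24]),
  ([19, 5], [5, 19, 24]),
  ([19, 6], [6, 19]),
  ([19, 7], [7, 19]),
  ([19, 8], [8, 19, 25]),
  ([19, 9], [9, 19, 26, 27]),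
  ([19, 10], [10, 19, 27]),
  ([19, 11], [11, 19, 29, 35]),
  ([19, 12], [12, 19]),
  ([19, 13], [13, 19, 28]),
  ([19, 14], [14, 19]),
  ([19, 15], [15, 19]),
  ([19, 16], [16, 19]),
  ([19, 17], [17, 19, 31, 32]),
  ([19, 18], [18, 19, 32]),
  ([19, 19], []),
  ([20, 0], [0, 20]),
  ([20, 1], [1, 20]),
  ([20, 2], [2, 20]),
  ([20, 3], [3, 20]),
  ([20, 4], [4, 20, 23]),
  ([20, 5], [5, 20, 23, 24]),
  ([20, 6], [6, 20]),
  ([20, 7], [7, 20, 25]),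
  ([20, 8], [8, 20]),
  ([20, 9], [9, 20, 26]),
  ([20, 10], [10, 20, 26, 27]),
  ([20, 11], [11, 20, 30, 35]),
  ([20, 12], [12, 20, 28]),
  ([20, 13], [13, 20]),
  ([20, 14], [14, 20]),
  ([20, 15], [15, 20]),
  ([20, 16], [16, 20]),
  ([20, 17], [17, 20, 31]),
  ([20, 18], [18, 20, 31, 32]),
  ([20, 19], [19, 20]),
  ([20, 20], []),
  ([21, 0], [0, 21]),
  ([21, 1], [1, 21]),
  ([21, 2], [2, 21, 26, 28]),
  ([21, 3], [3, 21, 27, 28]),
  ([21, 4], [4, 21]),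
  ([21, 5], [5, 21]),
  ([21, 6], [6, 21]),
  ([21, 7], [7, 21, 29, 33]),
  ([21, 8], [8, 21, 30, 33]),
  ([21, 9], [9, 21]),
  ([21, 10], [10, 21]),
  ([21, 11], [11, 21]),
  ([21, 12], [12, 21]),
  ([21, 13], [13, 21]),
  ([21, 14], [14, 21]),
  ([21, 15], [15, 21]),
  ([21, 16], [16, 21]),
  ([21, 17], [17, 21]),
  ([21, 18], [18, 21]),
  ([21, 19], [19, 21]),
  ([21, 20], [20, 21]),
  ([21, 21], []),
  ([22, 0], [0, 22]),
  ([22, 1], [1, 22, 25]),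
  ([22, 2], [2, 22]),
  ([22, 3], [3, 22]),
  ([22, 4], [4, 22]),
  ([22, 5], [5, 22]),
  ([22, 6], [6, 22, 28]),
  ([22, 7], [7, 22]),
  ([22, 8], [8, 22]),
  ([22, 9], [9, 22]),
  ([22, 10], [10, 22]),
  ([22, 11], [11, 22]),
  ([22, 12], [12, 22]),
  ([22, 13], [13, 22]),
  ([22, 14], [14, 22, 31, 35]),
  ([22, 15], [15, 22, 32, 35]),
  ([22, 16], [16, 22, 33]),
  ([22, 17], [17, 22]),
  ([22, 18], [18, 22]),
  ([22, 19], [19, 22]),
  ([22, 20], [20, 22]),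
  ([22, 21], [21, 22, 34]),
  ([22, 22], []),
  ([23, 0], [0, 23, 26, 35]),
  ([23, 1], [1, 23]),
  ([23, 2], [2, 23]),
  ([23, 3], [3, 23, 25]),
  ([23, 4], [4, 23]),
  ([23, 5], [5, 23]),
  ([23, 6], [6, 23]),
  ([23, 7], [7, 23]),
  ([23, 8], [8, 23]),
  ([23, 9], [9, 23, 30]),
  ([23, 10], [10, 23, 29, 30]),
  ([23, 11], [11, 23]),
  ([23, 12], [12, 23, 31, 32]),
  ([23, 13], [13, 23, 31]),
  ([23, 14], [14, 23]),
  ([23, 15], [15, 23]),
  ([23, 16], [16, 23]),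
  ([23, 17], [17, 23]),
  ([23, 18], [18, 23, 33]),
  ([23, 19], [19, 23]),
  ([23, 20], [20, 23]),
  ([23, 21], [21, 23]),
  ([23, 22], [22, 23]),
  ([23, 23], []),
  ([24, 0], [0, 24, 27, 35]),
  ([24, 1], [1, 24]),
  ([24, 2], [2, 24, 25]),
  ([24, 3], [3, 24]),
  ([24, 4], [4, 24]),
  ([24, 5], [5, 24]),
  ([24, 6], [6, 24]),
  ([24, 7], [7, 24]),
  ([24, 8], [8, 24]),
  ([24, 9], [9, 24, 29, 30]),
  ([24, 10], [10, 24, 29]),
  ([24, 11], [11, 24]),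
  ([24, 12], [12, 24, 32]),
  ([24, 13], [13, 24, 31, 32]),
  ([24, 14], [14, 24]),
  ([24, 15], [15, 24]),
  ([24, 16], [16, 24]),
  ([24, 17], [17, 24, 33]),
  ([24, 18], [18, 24]),
  ([24, 19], [19, 24]),
  ([24, 20], [20, 24]),
  ([24, 21], [21, 24]),
  ([24, 22], [22, 24]),
  ([24, 23], [23, 24]),
  ([24, 24], []),
  ([25, 0], [0, 25, 28]),
  ([25, 1], [1, 25]),
  ([25, 2], [2, 25]),
  ([25, 3], [3, 25]),
  ([25, 4], [4, 25]),
  ([25, 5], [5, 25]),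
  ([25, 6], [6, 25]),
  ([25, 7], [7, 25]),
  ([25, 8], [8, 25]),
  ([25, 9], [9, 25, 31, 34]),
  ([25, 10], [10, 25, 32, 34]),
  ([25, 11], [11, 25, 33]),
  ([25, 12], [12, 25]),
  ([25, 13], [13, 25]),
  ([25, 14], [14, 25]),
  ([25, 15], [15, 25]),
  ([25, 16], [16, 25]),
  ([25, 17], [17, 25]),
  ([25, 18], [18, 25]),
  ([25, 19], [19, 25]),
  ([25, 20], [20, 25]),
  ([25, 21], [21, 25, 35]),
  ([25, 22], [22, 25]),
  ([25, 23], [23, 25]),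
  ([25, 24], [24, 25]),
  ([25, 25], []),
  ([26, 0], [0, 26]),
  ([26, 1], [1, 26]),
  ([26, 2], [2, 26]),
  ([26, 3], [3, 26, 28]),
  ([26, 4], [4, 26, 30]),
  ([26, 5], [5, 26, 29, 30]),
  ([26, 6], [6, 26]),
  ([26, 7], [7, 26, 31, 32]),
  ([26, 8], [8, 26, 31]),
  ([26, 9], [9, 26]),
  ([26, 10], [10, 26]),
  ([26, 11], [11, 26]),
  ([26, 12], [12, 26]),
  ([26, 13], [13, 26]),
  ([26, 14], [14, 26]),
  ([26, 15], [15, 26]),
  ([26, 16], [16, 26]),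
  ([26, 17], [17, 26]),
  ([26, 18], [18, 26, 34]),
  ([26, 19], [19, 26]),
  ([26, 20], [20, 26]),
  ([26, 21], [21, 26]),
  ([26, 22], [22, 26]),
  ([26, 23], [23, 26]),
  ([26, 24], [24, 26, 35]),
  ([26, 25], [25, 26]),
  ([26, 26], []),
  ([27, 0], [0, 27]),
  ([27, 1], [1, 27]),
  ([27, 2], [2, 27, 28]),
  ([27, 3], [3, 27]),
  ([27, 4], [4, 27, 29, 30]),
  ([27, 5], [5, 27, 29]),
  ([27, 6], [6, 27]),
  ([27, 7], [7, 27, 32]),
  ([27, 8], [8, 27, 31, 32]),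
  ([27, 9], [9, 27]),
  ([27, 10], [10, 27]),
  ([27, 11], [11, 27]),
  ([27, 12], [12, 27]),
  ([27, 13], [13, 27]),
  ([27, 14], [14, 27]),
  ([27, 15], [15, 27]),
  ([27, 16], [16, 27]),
  ([27, 17], [17, 27, 34]),
  ([27, 18], [18, 27]),
  ([27, 19], [19, 27]),
  ([27, 20], [20, 27]),
  ([27, 21], [21, 27]),
  ([27, 22], [22, 27]),
  ([27, 23], [23, 27, 35]),
  ([27, 24], [24, 27]),
  ([27, 25], [25, 27]),
  ([27, 26], [26, 27]),
  ([27, 27], []),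
  ([28, 0], [0, 28]),
  ([28, 1], [1, 28]),
  ([28, 2], [2, 28]),
  ([28, 3], [3, 28]),
  ([28, 4], [4, 28, 31, 33]),
  ([28, 5], [5, 28, 32, 33]),
  ([28, 6], [6, 28]),
  ([28, 7], [7, 28]),
  ([28, 8], [8, 28]),
  ([28, 9], [9, 28]),
  ([28, 10], [10, 28]),
  ([28, 11], [11, 28, 34]),
  ([28, 12], [12, 28]),
  ([28, 13], [13, 28]),
  ([28, 14], [14, 28]),
  ([28, 15], [15, 28]),
  ([28, 16], [16, 28, 35]),
  ([28, 17], [17, 28]),
  ([28, 18], [18, 28]),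
  ([28, 19], [19, 28]),
  ([28, 20], [20, 28]),
  ([28, 21], [21, 28]),
  ([28, 22], [22, 28]),
  ([28, 23], [23, 28]),
  ([28, 24], [24, 28]),
  ([28, 25], [25, 28]),
  ([28, 26], [26, 28]),
  ([28, 27], [27, 28]),
  ([28, 28], []),
  ([29, 0], [0, 29]),
  ([29, 1], [1, 29]),
  ([29, 2], [2, 29, 31, 32]),
  ([29, 3], [3, 29, 32]),
  ([29, 4], [4, 29]),
  ([29, 5], [5, 29]),
  ([29, 6], [6, 29]),
  ([29, 7], [7, 29]),
  ([29, 8], [8, 29, 33]),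
  ([29, 9], [9, 29]),
  ([29, 10], [10, 29]),
  ([29, 11], [11, 29]),
  ([29, 12], [12, 29]),
  ([29, 13], [13, 29, 34]),
  ([29, 14], [14, 29]),
  ([29, 15], [15, 29]),
  ([29, 16], [16, 29]),
  ([29, 17], [17, 29]),
  ([29, 18], [18, 29]),
  ([29, 19], [19, 29]),
  ([29, 20], [20, 29, 35]),
  ([29, 21], [21, 29]),
  ([29, 22], [22, 29]),
  ([29, 23], [23, 29]),
  ([29, 24], [24, 29]),
  ([29, 25], [25, 29]),
  ([29, 26], [26, 29]),
  ([29, 27], [27, 29]),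
  ([29, 28], [28, 29]),
  ([29, 29], []),
  ([30, 0], [0, 30]),
  ([30, 1], [1, 30]),
  ([30, 2], [2, 30, 31]),
  ([30, 3], [3, 30, 31, 32]),
  ([30, 4], [4, 30]),
  ([30, 5], [5, 30]),
  ([30, 6], [6, 30]),
  ([30, 7], [7, 30, 33]),
  ([30, 8], [8, 30]),
  ([30, 9], [9, 30]),
  ([30, 10], [10, 30]),
  ([30, 11], [11, 30]),
  ([30, 12], [12, 30, 34]),
  ([30, 13], [13, 30]),
  ([30, 14], [14, 30]),
  ([30, 15], [15, 30]),
  ([30, 16], [16, 30]),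
  ([30, 17], [17, 30]),
  ([30, 18], [18, 30]),
  ([30, 19], [19, 30, 35]),
  ([30, 20], [20, 30]),
  ([30, 21], [21, 30]),
  ([30, 22], [22, 30]),
  ([30, 23], [23, 30]),
  ([30, 24], [24, 30]),
  ([30, 25], [25, 30]),
  ([30, 26], [26, 30]),
  ([30, 27], [27, 30]),
  ([30, 28], [28, 30]),
  ([30, 29], [29, 30]),
  ([30, 30], []),
  ([31, 0], [0, 31]),
  ([31, 1], [1, 31]),
  ([31, 2], [2, 31]),
  ([31, 3], [3, 31]),
  ([31, 4], [4, 31]),
  ([31, 5], [5, 31, 33]),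
  ([31, 6], [6, 31]),
  ([31, 7], [7, 31]),
  ([31, 8], [8, 31]),
  ([31, 9], [9, 31]),
  ([31, 10], [10, 31, 34]),
  ([31, 11], [11, 31]),
  ([31, 12], [12, 31]),
  ([31, 13], [13, 31]),
  ([31, 14], [14, 31]),
  ([31, 15], [15, 31, 35]),
  ([31, 16], [16, 31]),
  ([31, 17], [17, 31]),
  ([31, 18], [18, 31]),
  ([31, 19], [19, 31]),
  ([31, 20], [20, 31]),
  ([31, 21], [21, 31]),
  ([31, 22], [22, 31]),
  ([31, 23], [23, 31]),
  ([31, 24], [24, 31]),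
  ([31, 25], [25, 31]),
  ([31, 26], [26, 31]),
  ([31, 27], [27, 31]),
  ([31, 28], [28, 31]),
  ([31, 29], [29, 31]),
  ([31, 30], [30, 31]),
  ([31, 31], []),
  ([32, 0], [0, 32]),
  ([32, 1], [1, 32]),
  ([32, 2], [2, 32]),
  ([32, 3], [3, 32]),
  ([32, 4], [4, 32, 33]),
  ([32, 5], [5, 32]),
  ([32, 6], [6, 32]),
  ([32, 7], [7, 32]),
  ([32, 8], [8, 32]),
  ([32, 9], [9, 32, 34]),
  ([32, 10], [10, 32]),
  ([32, 11], [11, 32]),
  ([32, 12], [12, 32]),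
  ([32, 13], [13, 32]),
  ([32, 14], [14, 32, 35]),
  ([32, 15], [15, 32]),
  ([32, 16], [16, 32]),
  ([32, 17], [17, 32]),
  ([32, 18], [18, 32]),
  ([32, 19], [19, 32]),
  ([32, 20], [20, 32]),
  ([32, 21], [21, 32]),
  ([32, 22], [22, 32]),
  ([32, 23], [23, 32]),
  ([32, 24], [24, 32]),
  ([32, 25], [25, 32]),
  ([32, 26], [26, 32]),
  ([32, 27], [27, 32]),
  ([32, 28], [28, 32]),
  ([32, 29], [29, 32]),
  ([32, 30], [30, 32]),
  ([32, 31], [31, 32]),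
  ([32, 32], []),
  ([33, 0], [0, 33, 34]),
  ([33, 1], [1, 33]),
  ([33, 2], [2, 33]),
  ([33, 3], [3, 33]),
  ([33, 4], [4, 33]),
  ([33, 5], [5, 33]),
  ([33, 6], [6, 33, 35]),
  ([33, 7], [7, 33]),
  ([33, 8], [8, 33]),
  ([33, 9], [9, 33]),
  ([33, 10], [10, 33]),
  ([33, 11], [11, 33]),
  ([33, 12], [12, 33]),
  ([33, 13], [13, 33]),
  ([33, 14], [14, 33]),
  ([33, 15], [15, 33]),
  ([33, 16], [16, 33]),
  ([33, 17], [17, 33]),
  ([33, 18], [18, 33]),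
  ([33, 19], [19, 33]),
  ([33, 20], [20, 33]),
  ([33, 21], [21, 33]),
  ([33, 22], [22, 33]),
  ([33, 23], [23, 33]),
  ([33, 24], [24, 33]),
  ([33, 25], [25, 33]),
  ([33, 26], [26, 33]),
  ([33, 27], [27, 33]),
  ([33, 28], [28, 33]),
  ([33, 29], [29, 33]),
  ([33, 30], [30, 33]),
  ([33, 31], [31, 33]),
  ([33, 32], [32, 33]),
  ([33, 33], []),
  ([34, 0], [0, 34]),
  ([34, 1], [1, 34, 35]),
  ([34, 2], [2, 34]),
  ([34, 3], [3, 34]),
  ([34, 4], [4, 34]),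
  ([34, 5], [5, 34]),
  ([34, 6], [6, 34]),
  ([34, 7], [7, 34]),
  ([34, 8], [8, 34]),
  ([34, 9], [9, 34]),
  ([34, 10], [10, 34]),
  ([34, 11], [11, 34]),
  ([34, 12], [12, 34]),
  ([34, 13], [13, 34]),
  ([34, 14], [14, 34]),
  ([34, 15], [15, 34]),
  ([34, 16], [16, 34]),
  ([34, 17], [17, 34]),
  ([34, 18], [18, 34]),
  ([34, 19], [19, 34]),
  ([34, 20], [20, 34]),
  ([34, 21], [21, 34]),
  ([34, 22], [22, 34]),
  ([34, 23], [23, 34]),
  ([34, 24], [24, 34]),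
  ([34, 25], [25, 34]),
  ([34, 26], [26, 34]),
  ([34, 27], [27, 34]),
  ([34, 28], [28, 34]),
  ([34, 29], [29, 34]),
  ([34, 30], [30, 34]),
  ([34, 31], [31, 34]),
  ([34, 32], [32, 34]),
  ([34, 33], [33, 34]),
  ([34, 34], []),
  ([35, 0], [0, 35]),
  ([35, 1], [1, 35]),
  ([35, 2], [2, 35]),
  ([35, 3], [3, 35]),
  ([35, 4], [4, 35]),
  ([35, 5], [5, 35]),
  ([35, 6], [6, 35]),
  ([35, 7], [7, 35]),
  ([35, 8], [8, 35]),
  ([35, 9], [9, 35]),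
  ([35, 10], [10, 35]),
  ([35, 11], [11, 35]),
  ([35, 12], [12, 35]),
  ([35, 13], [13, 35]),
  ([35, 14], [14, 35]),
  ([35, 15], [15, 35]),
  ([35, 16], [16, 35]),
  ([35, 17], [17, 35]),
  ([35, 18], [18, 35]),
  ([35, 19], [19, 35]),
  ([35, 20], [20, 35]),
  ([35, 21], [21, 35]),
  ([35, 22], [22, 35]),
  ([35, 23], [23, 35]),
  ([35, 24], [24, 35]),
  ([35, 25], [25, 35]),
  ([35, 26], [26, 35]),
  ([35, 27], [27, 35]),
  ([35, 28], [28, 35]),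
  ([35, 29], [29, 35]),
  ([35, 30], [30, 35]),
  ([35, 31], [31, 35]),
  ([35, 32], [32, 35]),
  ([35, 33], [33, 35]),
  ([35, 34], [34, 35]),
  ([35, 35], [])]

/-- the places of the roots of the classes -/
def roots : List (List ℕ) := [[1], [0], [2, 3], [4, 5], []]

/-- the images of the generators -/
def imgs : List (List (List ℕ)) := [
  [[6], [], [2], [3], [4], [5], [0], [7], [8], [14], [15], [16], [19], [20], [9], [10], [11], [23], [24], [12], [13], [21], [25], [17], [18], [22], [26], [27], [28], [29], [30], [31], [32], [33], [35], [34]],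
  [[], [6], [2], [3], [9], [10], [1], [12], [13], [4], [5], [11], [7], [8], [14], [15], [21], [17], [18], [19], [20], [16], [22], [26], [27], [28], [23], [24], [25], [29], [30], [31], [32], [34], [33], [35]],
  [[0], [1], [], [], [7], [8], [6], [4], [5], [12], [13], [22], [9], [10], [19], [20], [25], [18], [17], [14], [15], [28], [11], [24], [23], [16], [27], [26], [21], [31], [32], [29], [30], [33], [34], [35]],
  [[11], [1], [7], [8], [], [], [16], [2], [3], [10], [9], [0], [17], [18], [15], [14], [6], [12], [13], [23], [24], [21], [22], [19], [20], [25], [29], [30], [33], [26], [27], [32], [31], [28], [34], [35]],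
  [[0], [1], [3], [2, 3], [5], [4, 5], [6], [7, 8], [7], [10], [9, 10], [11], [12, 13], [12], [15], [14, 15], [16], [18], [17, 18], [19, 20], [19], [21], [22], [24], [23, 24], [25], [27], [26, 27], [28], [29, 30], [29], [32], [31, 32], [33], [34], [35]]]

/-- the two cocycles -/
def fb : List ℕ := [381072821083495148076547765601483387268720763206709012136846881139264929938630689107368089176408780223686829864828056169725342616908717887488, 259344723545677189994300501792543014881789783110700128134143120819731563532850444130360441198198196380200731797923011985021098930219873716759328758480030702477438628651653474033664]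

/-- the corrections for the classes and the torus -/
def cl : List (List ℕ) := [[0, 8448, 2911240192, 7668506624, 6518079872], [0, 0, 2994339328, 6442450944, 2836140160]]

end Cfsg.Agent.TwistE6MultData14
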