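import Cfsg.Agent.Lib.TwistE6Mult14Root
import Cfsg.Agent.Lib.TwistE6MultData14
import Cfsg.Agent.Lib.PcQuad14

/-!
Checks of the tables for the unipotent subgroup of the twisted E6 group over the field with four elements.
-/

set_option autoImplicit false
set_option maxRecDepth 100000

namespace Cfsg.Agent.TwistE6Mult14Check

open Cfsg.Lie Cfsg.Agent.TwistE6MultData14 Cfsg.Agent.TwistE6Mult14Root Cfsg.Agent.TwistedE6
open Cfsg.Agent.E6StemLevels67 (lv orb)

/-- the root letters of a word in the generators -/
def rflat (l : List ℕ) : List (ℕ × ℕ) := l.flatMap fun i => gl.getD i []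

/-- the place is kept by the class -/
def okk (k i : ℕ) : Bool := decide (i < 36) && !((roots.getD k []).contains i)

/-- the image of a place -/
def img (k i : ℕ) : List ℕ := (imgs.getD k []).getD i []

/-- the class of a place -/
def cJ : ℕ → Fin 2 ⊕ Fin 2
  | 0 => .inl 0
  | 1 => .inl 1
  | 2 => .inr 0
  | _ => .inr 1

/-- the image of a root letter -/
def act (k : ℕ) (p : ℕ × ℕ) : ℕ × ℕ :=
  if k < 4 then ((cl6 (cJ k)).foldr (fun i r => chevE6.reflectRoot i r) p.1, p.2)
  else (p.1, cmul (cpow 2 ((chevE6.cartan 0 p.1 + 2 * chevE6.cartan 5 p.1) % 3).toNat) p.2)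

theorem rels_len : rels.length = 666 := by decide +kernel

theorem rels_shape : (⟨36, 0, rels, [], [], [], [], []⟩ : CenSplitStable50.Cert).shapeOK = true := by
  decide +kernel

theorem rels_flat : ((List.range 666).all fun r =>
    rsame (rflat (rels.getD r ([], [])).1) (rflat (rels.getD r ([], [])).2)) = true := by decide +kernel

theorem act_flat : ((List.range 5).all fun k => (List.range 36).all fun i => !okk k i ||
    (rsame ((gl.getD i []).map (act k)) (rflat (img k i)) && (img k i).all (fun j => decide (j < 36)) &&
      (decide (4 ≤ k) || (img k i == [(img k i).headD 0] && okk k ((img k i).headD 0))))) = true := by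
  decide +kernel

/-- the checks on a generator -/
def genOK (i : ℕ) : Bool :=
  match gl.getD i [] with
  | [(r, c)] => decide (36 ≤ r) && decide (r < 72) && (c == 1) && (ChevalleyGraph.symE6.rho r == r)
  | [(r, c), (r', c')] => decide (36 ≤ r) && decide (r < 72) && decide (36 ≤ r') && decide (r' < 72) &&
      decide (c < 4) && decide (c' < 4) && (cmul c c == c') && (cmul c' c' == c) && decide (r ≠ r') &&
      (ChevalleyGraph.symE6.rho r == r') && (ChevalleyGraph.symE6.rho r' == r) && (lv r == lv r')
  | _ => false

theorem gen_data : ∀ i < 36, genOK i = true := by decide +kernel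

theorem eps_odd : ∀ r < 72, ChevalleyGraph.symE6.eps r % 2 ≠ 0 := by decide +kernel

/-- the level of a generator -/
def glev (i : ℕ) : ℕ := lv ((gl.getD i []).headD (0, 0)).1

/-- the first generator of a level -/
def gfirst (j : ℕ) : ℕ :=
  ([0, 1, 2, 4, 6, 7, 9, 11, 12, 14, 16, 17, 19, 21, 22, 23, 25, 26, 28, 29, 31, 33, 34, 35] : List ℕ).getD j 0

/-- the checks on a level -/
def levOK (j : ℕ) : Bool :=
  match orb j with
  | [r] => (gl.getD (gfirst j) [] == [(r, 1)]) && decide (gfirst j < 36) && (glev (gfirst j) == j)
  | [r, r'] => (gl.getD (gfirst j) [] == [(r, 2), (r', 3)]) && (gl.getD (gfirst j + 1) [] == [(r, 3), (r', 2)]) &&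
      decide (r ≠ r') && decide (gfirst j + 1 < 36) && (glev (gfirst j) == j) && (glev (gfirst j + 1) == j)
  | _ => false

theorem level_data : ∀ j < 24, levOK j = true := by decide +kernel

theorem root_data : ∀ k < 4, ∀ a ∈ roots.getD k [], a < 36 ∧
    ∀ p ∈ gl.getD a [], p.1 ∈ lst (cJ k) := by decide +kernel

theorem conj_data : ((List.range 5).all fun k => (roots.getD k []).all fun a => (List.range 36).all fun i =>
    !okk k i || match PcQuad14.coll rels 100 [a, i, a] with
      | some out => out.1.all (okk k)
      | none => false) = true := by decide +kernel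

theorem square_data : ∀ a < 36, rels.getD (a * (a + 1) / 2 + a) ([], []) = ([a, a], []) := by decide +kernel

end Cfsg.Agent.TwistE6Mult14Check
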