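import Cfsg.Agent.Lib.TwistE6Mult14Check
import Cfsg.Agent.Lib.TwistE6MultCert14

/-!
Checks of the certificate for the classes modulo four on the unipotent subgroup of the twisted E6 group over
the field with four elements.
-/

set_option autoImplicit false
set_option maxRecDepth 100000
-- one certificate after the other, so that the peak memory is that of one of them
set_option Elab.async false

namespace Cfsg.Agent.TwistE6Mult14Check2

open Cfsg.Agent.TwistE6MultData14 Cfsg.Agent.TwistE6Mult14Check Cfsg.Agent.PcQuad14

/-- the unknown of a class at a place -/
def cvar (k i : ℕ) : ℕ := 666 + 36 * k + i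

/-- the image letter of a place -/
def sgd (k i : ℕ) : ℕ := (img k i).headD 0

/-- the correction of a lift -/
def lamOf (i : ℕ) : PcFrm := lam.getD i (0, 0)

/-- the change of a relation by the corrections -/
def lamDiff (r : ℕ) : PcFrm :=
  fadd (fsum ((rels.getD r ([], [])).1.map lamOf)) (fneg (fsum ((rels.getD r ([], [])).2.map lamOf)))

/-- the class term of a relation -/
def clsTerm (j r : ℕ) : PcFrm := if (cs.getD j 0).testBit r then oms.getD j (0, 0) else (0, 0)

/-- an equation -/
def formOf (e : ℕ × ℕ × ℕ) : Option PcFrm :=
  if e.1 = 0 then formA rels 100 e.2.1 e.2.2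
  else if e.2.1 < 4 then formB rels 100 (sgd e.2.1) (cvar e.2.1) (okk e.2.1) e.2.2 else none

/-- the check of an equation -/
def eqOK (j : ℕ) : Bool :=
  decide ((eqs.getD j (0, 0, 0)).2.2 < 666) && (formOf (eqs.getD j (0, 0, 0)) == some (forms.getD j (0, 0)))

/-- the check of a combination -/
def combOK (r : ℕ) : Bool :=
  fadd (funit r) (fneg (fadd (lamDiff r) (fadd (clsTerm 0 r) (clsTerm 1 r)))) == lincomb (combos.getD r 0) forms

theorem len_check : eqs.length = 642 ∧ forms.length = 642 := by decide +kernel

theorem eqs_part0 : ((List.range 56).all fun j => eqOK j) = true := by decide +kernel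

theorem eqs_part1 : ((List.range 56).all fun j => eqOK (j + 56)) = true := by decide +kernel

theorem eqs_part2 : ((List.range 56).all fun j => eqOK (j + 112)) = true := by decide +kernel

theorem eqs_part3 : ((List.range 56).all fun j => eqOK (j + 168)) = true := by decide +kernel

theorem eqs_part4 : ((List.range 56).all fun j => eqOK (j + 224)) = true := by decide +kernel

theorem eqs_part5 : ((List.range 56).all fun j => eqOK (j + 280)) = true := by decide +kernel

theorem eqs_part6 : ((List.range 56).all fun j => eqOK (j + 336)) = true := by decide +kernel

theorem eqs_part7 : ((List.range 56).all fun j => eqOK (j + 392)) = true := by decide +kernel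

theorem eqs_part8 : ((List.range 56).all fun j => eqOK (j + 448)) = true := by decide +kernel

theorem eqs_part9 : ((List.range 56).all fun j => eqOK (j + 504)) = true := by decide +kernel

theorem eqs_part10 : ((List.range 56).all fun j => eqOK (j + 560)) = true := by decide +kernel

theorem eqs_part11 : ((List.range 26).all fun j => eqOK (j + 616)) = true := by decide +kernel

theorem eqs_check {j : ℕ} (hj : j < 642) : eqOK j = true := by
  by_cases a0 : j < 56
  · exact List.all_eq_true.1 eqs_part0 j (List.mem_range.2 a0)
  by_cases a1 : j < 112
  · have := List.all_eq_true.1 eqs_part1 (j - 56) (List.mem_range.2 (by omega))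
    rwa [show j - 56 + 56 = j by omega] at this
  by_cases a2 : j < 168
  · have := List.all_eq_true.1 eqs_part2 (j - 112) (List.mem_range.2 (by omega))
    rwa [show j - 112 + 112 = j by omega] at this
  by_cases a3 : j < 224
  · have := List.all_eq_true.1 eqs_part3 (j - 168) (List.mem_range.2 (by omega))
    rwa [show j - 168 + 168 = j by omega] at this
  by_cases a4 : j < 280
  · have := List.all_eq_true.1 eqs_part4 (j - 224) (List.mem_range.2 (by omega))
    rwa [show j - 224 + 224 = j by omega] at this
  by_cases a5 : j < 336
  · have := List.all_eq_true.1 eqs_part5 (j - 280) (List.mem_range.2 (by omega))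
    rwa [show j - 280 + 280 = j by omega] at this
  by_cases a6 : j < 392
  · have := List.all_eq_true.1 eqs_part6 (j - 336) (List.mem_range.2 (by omega))
    rwa [show j - 336 + 336 = j by omega] at this
  by_cases a7 : j < 448
  · have := List.all_eq_true.1 eqs_part7 (j - 392) (List.mem_range.2 (by omega))
    rwa [show j - 392 + 392 = j by omega] at this
  by_cases a8 : j < 504
  · have := List.all_eq_true.1 eqs_part8 (j - 448) (List.mem_range.2 (by omega))
    rwa [show j - 448 + 448 = j by omega] at this
  by_cases a9 : j < 560
  · have := List.all_eq_true.1 eqs_part9 (j - 504) (List.mem_range.2 (by omega))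
    rwa [show j - 504 + 504 = j by omega] at this
  by_cases a10 : j < 616
  · have := List.all_eq_true.1 eqs_part10 (j - 560) (List.mem_range.2 (by omega))
    rwa [show j - 560 + 560 = j by omega] at this
  · have := List.all_eq_true.1 eqs_part11 (j - 616) (List.mem_range.2 (by omega))
    rwa [show j - 616 + 616 = j by omega] at this

theorem comb_part0 : ((List.range 56).all fun r => combOK r) = true := by decide +kernel

theorem comb_part1 : ((List.range 56).all fun r => combOK (r + 56)) = true := by decide +kernel

theorem comb_part2 : ((List.range 56).all fun r => combOK (r + 112)) = true := by decide +kernel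

theorem comb_part3 : ((List.range 56).all fun r => combOK (r + 168)) = true := by decide +kernel

theorem comb_part4 : ((List.range 56).all fun r => combOK (r + 224)) = true := by decide +kernel

theorem comb_part5 : ((List.range 56).all fun r => combOK (r + 280)) = true := by decide +kernel

theorem comb_part6 : ((List.range 56).all fun r => combOK (r + 336)) = true := by decide +kernel

theorem comb_part7 : ((List.range 56).all fun r => combOK (r + 392)) = true := by decide +kernel

theorem comb_part8 : ((List.range 56).all fun r => combOK (r + 448)) = true := by decide +kernel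

theorem comb_part9 : ((List.range 56).all fun r => combOK (r + 504)) = true := by decide +kernel

theorem comb_part10 : ((List.range 56).all fun r => combOK (r + 560)) = true := by decide +kernel

theorem comb_part11 : ((List.range 50).all fun r => combOK (r + 616)) = true := by decide +kernel

theorem comb_check {r : ℕ} (hr : r < 666) : combOK r = true := by
  by_cases a0 : r < 56
  · exact List.all_eq_true.1 comb_part0 r (List.mem_range.2 a0)
  by_cases a1 : r < 112
  · have := List.all_eq_true.1 comb_part1 (r - 56) (List.mem_range.2 (by omega))
    rwa [show r - 56 + 56 = r by omega] at this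
  by_cases a2 : r < 168
  · have := List.all_eq_true.1 comb_part2 (r - 112) (List.mem_range.2 (by omega))
    rwa [show r - 112 + 112 = r by omega] at this
  by_cases a3 : r < 224
  · have := List.all_eq_true.1 comb_part3 (r - 168) (List.mem_range.2 (by omega))
    rwa [show r - 168 + 168 = r by omega] at this
  by_cases a4 : r < 280
  · have := List.all_eq_true.1 comb_part4 (r - 224) (List.mem_range.2 (by omega))
    rwa [show r - 224 + 224 = r by omega] at this
  by_cases a5 : r < 336
  · have := List.all_eq_true.1 comb_part5 (r - 280) (List.mem_range.2 (by omega))
    rwa [show r - 280 + 280 = r by omega] at this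
  by_cases a6 : r < 392
  · have := List.all_eq_true.1 comb_part6 (r - 336) (List.mem_range.2 (by omega))
    rwa [show r - 336 + 336 = r by omega] at this
  by_cases a7 : r < 448
  · have := List.all_eq_true.1 comb_part7 (r - 392) (List.mem_range.2 (by omega))
    rwa [show r - 392 + 392 = r by omega] at this
  by_cases a8 : r < 504
  · have := List.all_eq_true.1 comb_part8 (r - 448) (List.mem_range.2 (by omega))
    rwa [show r - 448 + 448 = r by omega] at this
  by_cases a9 : r < 560
  · have := List.all_eq_true.1 comb_part9 (r - 504) (List.mem_range.2 (by omega))
    rwa [show r - 504 + 504 = r by omega] at this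
  by_cases a10 : r < 616
  · have := List.all_eq_true.1 comb_part10 (r - 560) (List.mem_range.2 (by omega))
    rwa [show r - 560 + 560 = r by omega] at this
  · have := List.all_eq_true.1 comb_part11 (r - 616) (List.mem_range.2 (by omega))
    rwa [show r - 616 + 616 = r by omega] at this

theorem twice_check : ∀ j < 2,
    fadd (oms.getD j (0, 0)) (oms.getD j (0, 0)) = lincomb (combo2.getD j 0) forms := by decide +kernel

end Cfsg.Agent.TwistE6Mult14Check2
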