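import Cfsg.Agent.Lib.TwistE6MultRows14

/-!
The two double extensions of the unipotent subgroup of the twisted E6 group over the field with four
elements are consistent.
-/

set_option autoImplicit false
set_option maxRecDepth 100000

namespace Cfsg.Agent.TwistE6Mult14Consist

open Cfsg.Agent.PcConsist14 (PcTree stepOK shapeB)
open Cfsg.Agent.TwistE6MultData14

/-- the right sides for a class -/
noncomputable def rows37 (c : ℕ) : PcTree := bif Nat.beq c 0 then rowsZ0 else rowsZ1

theorem low0 : ∀ k < 12, stepOK rowsZ0 37 k = true := by decide +kernel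

theorem mid0 : ∀ k < 14, stepOK rowsZ0 37 (k + 12) = true := by decide +kernel

theorem high0 : ∀ k < 11, stepOK rowsZ0 37 (k + 26) = true := by decide +kernel

theorem low1 : ∀ k < 12, stepOK rowsZ1 37 k = true := by decide +kernel

theorem mid1 : ∀ k < 14, stepOK rowsZ1 37 (k + 12) = true := by decide +kernel

theorem high1 : ∀ k < 11, stepOK rowsZ1 37 (k + 26) = true := by decide +kernel

theorem consistent : ∀ c < 2, ∀ k < 37, stepOK (rows37 c) 37 k = true := by
  intro c hc k hk
  have key : ∀ rows : PcTree, (∀ k < 12, stepOK rows 37 k = true) → (∀ k < 14, stepOK rows 37 (k + 12) = true) →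
      (∀ k < 11, stepOK rows 37 (k + 26) = true) → stepOK rows 37 k = true := by
    intro rows h1 h2 h3
    by_cases a : k < 12
    · exact h1 k a
    by_cases b : k < 26
    · have := h2 (k - 12) (by omega); rwa [show k - 12 + 12 = k by omega] at this
    · have := h3 (k - 26) (by omega); rwa [show k - 26 + 26 = k by omega] at this
  interval_cases c
  · exact key rowsZ0 low0 mid0 high0
  · exact key rowsZ1 low1 mid1 high1

end Cfsg.Agent.TwistE6Mult14Consist
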