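import Cfsg.Agent.Lib.TwistE6Mult14Lower
import Cfsg.Agent.Lib.E6StemLower67
import Cfsg.Agent.Lib.StemBasic

/-!
A cover of the twisted E6 group over the field with four elements with kernel of type (3, 2, 2).
-/

set_option autoImplicit false
set_option linter.unusedSectionVars false

namespace Cfsg.Agent.TwistE6Mult14Cover

open Cfsg.Lie Cfsg.Agent Cfsg.Agent.TwistE6Mult14Geom Cfsg.Agent.TwistE6Mult14Lower
open Cfsg.Agent.CenSplitStable50 (P P_cons P_nil)
open Subgroup

universe u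

section Fibre

variable {G A B : Type u} [Group G] [Group A] [Group B] (σ : A →* G) (τ : B →* G)

/-- the fibre product -/
def Fib : Subgroup (A × B) := (σ.comp (MonoidHom.fst A B)).eqLocus (τ.comp (MonoidHom.snd A B))

/-- its projection -/
def fproj : Fib σ τ →* G := (σ.comp (MonoidHom.fst A B)).comp (Fib σ τ).subtype

theorem fproj_eq_one {x : Fib σ τ} : fproj σ τ x = 1 ↔ σ x.1.1 = 1 ∧ τ x.1.2 = 1 := by
  refine ⟨fun h => ⟨h, ?_⟩, fun h => h.1⟩
  have := x.2
  change σ x.1.1 = τ x.1.2 at this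
  rw [← this]; exact h

theorem fproj_surjective (hσ : Function.Surjective σ) (hτ : Function.Surjective τ) :
    Function.Surjective (fproj σ τ) := fun g => by
  obtain ⟨a, ha⟩ := hσ g
  obtain ⟨b, hb⟩ := hτ g
  exact ⟨⟨(a, b), ha.trans hb.symm⟩, ha⟩

theorem fproj_central (hσ : σ.ker ≤ center A) (hτ : τ.ker ≤ center B) :
    (fproj σ τ).ker ≤ center (Fib σ τ) := fun x hx => by
  obtain ⟨h1, h2⟩ := (fproj_eq_one σ τ).1 hx
  refine mem_center_iff.2 fun y => Subtype.ext (Prod.ext ?_ ?_)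
  · exact mem_center_iff.1 (hσ h1) _
  · exact mem_center_iff.1 (hτ h2) _

/-- the kernel is the product of the kernels -/
def kerEquiv : (fproj σ τ).ker ≃* σ.ker × τ.ker where
  toFun x := (⟨x.1.1.1, ((fproj_eq_one σ τ).1 x.2).1⟩, ⟨x.1.1.2, ((fproj_eq_one σ τ).1 x.2).2⟩)
  invFun p := ⟨⟨(p.1.1, p.2.1), p.1.2.trans p.2.2.symm⟩, p.1.2⟩
  left_inv x := rfl
  right_inv p := rfl
  map_mul' x y := rfl

/-- commutator elements of a central extension of a perfect group -/
theorem exists_commutator {Q : Type u} [Group Q] {π : Q →* G} (hπ : Function.Surjective π)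
    (hperf : commutator G = ⊤) (x : Q) : ∃ c ∈ commutator Q, π c = π x := by
  have h : π x ∈ (commutator Q).map π := by
    rw [_root_.commutator_def, Subgroup.map_commutator, Subgroup.map_top_of_surjective π hπ,
      ← _root_.commutator_def, hperf]
    exact mem_top _
  exact h

theorem perfect_of_stem {Q : Type u} [Group Q] {π : Q →* G} (hπ : Cfsg.IsStemExtension π)
    (hperf : commutator G = ⊤) : commutator Q = ⊤ := by
  rw [eq_top_iff]
  intro x _
  obtain ⟨c, hc, he⟩ := exists_commutator hπ.1 hperf x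
  have hz : c⁻¹ * x ∈ π.ker := by rw [MonoidHom.mem_ker, map_mul, map_inv, he, inv_mul_cancel]
  have := mul_mem hc (hπ.2.2 hz)
  rwa [mul_inv_cancel_left] at this

/-- kernels of coprime exponents -/
theorem stem_coprime (hσ : Cfsg.IsStemExtension σ) (hτ : Cfsg.IsStemExtension τ)
    (hperf : commutator G = ⊤) (ha : ∀ a : A, σ a = 1 → a ^ 2 = 1) (hb : ∀ b : B, τ b = 1 → b ^ 3 = 1) :
    Cfsg.IsStemExtension (fproj σ τ) := by
  have hs := fproj_surjective σ τ hσ.1 hτ.1
  refine ⟨hs, fproj_central σ τ hσ.2.1 hτ.2.1, ?_⟩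
  have proj : ∀ x : Fib σ τ, ∃ c ∈ commutator (Fib σ τ), c.1.1 = x.1.1 := by
    intro x
    have h : x.1.1 ∈ (commutator (Fib σ τ)).map ((MonoidHom.fst A B).comp (Fib σ τ).subtype) := by
      rw [_root_.commutator_def, Subgroup.map_commutator, Subgroup.map_top_of_surjective _ ?_,
        ← _root_.commutator_def, perfect_of_stem hσ hperf]
      · exact mem_top _
      · intro a
        obtain ⟨b, hb⟩ := hτ.1 (σ a)
        exact ⟨⟨(a, b), hb.symm⟩, rfl⟩
    exact h
  have proj' : ∀ x : Fib σ τ, ∃ c ∈ commutator (Fib σ τ), c.1.2 = x.1.2 := by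
    intro x
    have h : x.1.2 ∈ (commutator (Fib σ τ)).map ((MonoidHom.snd A B).comp (Fib σ τ).subtype) := by
      rw [_root_.commutator_def, Subgroup.map_commutator, Subgroup.map_top_of_surjective _ ?_,
        ← _root_.commutator_def, perfect_of_stem hτ hperf]
      · exact mem_top _
      · intro b
        obtain ⟨a, ha⟩ := hσ.1 (τ b)
        exact ⟨⟨(a, b), ha⟩, rfl⟩
    exact h
  intro x hx
  obtain ⟨h1, h2⟩ := (fproj_eq_one σ τ).1 hx
  obtain ⟨c, hc, hc1⟩ := proj x
  obtain ⟨d, hd, hd2⟩ := proj' x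
  have hcσ : σ c.1.1 = 1 := by rw [hc1]; exact h1
  have hcτ : τ c.1.2 = 1 := by have := c.2; change σ c.1.1 = τ c.1.2 at this; rw [← this, hcσ]
  have hdτ : τ d.1.2 = 1 := by rw [hd2]; exact h2
  have hdσ : σ d.1.1 = 1 := by have := d.2; change σ d.1.1 = τ d.1.2 at this; rw [this, hdτ]
  have e : x = c ^ 3 * d ^ 4 := by
    refine Subtype.ext (Prod.ext ?_ ?_)
    · show x.1.1 = c.1.1 ^ 3 * d.1.1 ^ 4
      rw [show (4 : ℕ) = 2 * 2 from rfl, pow_mul, ha _ hdσ, one_pow, mul_one, pow_succ, ha _ hcσ, one_mul, hc1]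
    · show x.1.2 = c.1.2 ^ 3 * d.1.2 ^ 4
      rw [hb _ hcτ, one_mul, pow_succ, hb _ hdτ, one_mul, hd2]
  rw [e]
  exact mul_mem (pow_mem hc 3) (pow_mem hd 4)

end Fibre

variable {K : Type u} [Field K] (w : K)
variable [Fintype K] (hK : Fintype.card K = 2 ^ 2) (hw : w ^ 2 = w + 1)
variable (f : K →+* K) (hf : ∀ t, f t = t ^ 2)

theorem zmod_two_mul {a b : Multiplicative (ZMod 2)} (h : a * b = a) : b = 1 := mul_eq_left.1 h

/-- every character of the second extension kills its central letter -/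
theorem nonsplit_one {W : Type u} [Group W] (D : Ext w 1 W) {Γ : Type u} [Group Γ] {Φ1 : W →* Γ}
    (ψ : Γ →* Multiplicative (ZMod 2)) : ψ (Φ1 (D.L 36)) = 1 := by
  obtain ⟨-, -, -, -, -, d6, d7, d8⟩ := three_data
  have a := congrArg (ψ.comp Φ1) (D.sat 4 (by norm_num) 3 (by norm_num) (Nat.zero_le _))
  have b := congrArg (ψ.comp Φ1) (D.sat 5 (by norm_num) 2 (by norm_num) (Nat.zero_le _))
  have c := congrArg (ψ.comp Φ1) (D.sat 5 (by norm_num) 3 (by norm_num) (Nat.zero_le _))
  rw [d6] at a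
  rw [d7] at b
  rw [d8] at c
  simp only [P, List.map_cons, List.map_nil, List.prod_cons, List.prod_nil, mul_one, map_mul] at a b c
  show (ψ.comp Φ1) (D.L 36) = 1
  revert a b c
  generalize (ψ.comp Φ1) (D.L 4) = p4, (ψ.comp Φ1) (D.L 2) = p2, (ψ.comp Φ1) (D.L 8) = p8,
    (ψ.comp Φ1) (D.L 5) = p5, (ψ.comp Φ1) (D.L 7) = p7, (ψ.comp Φ1) (D.L 3) = p3,
    (ψ.comp Φ1) (D.L 36) = z
  revert p4 p2 p8 p5 p7 p3 z
  decide

include hK hw hf in
theorem exists_four : ∃ (A : Type u) (_ : Group A) (_ : Finite A) (σ : A →* ↥(GG K)),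
    Cfsg.IsStemExtension σ ∧ Nonempty (σ.ker ≃* Multiplicative (ZMod 2 × ZMod 2)) ∧
      ∀ a : A, σ a = 1 → a ^ 2 = 1 := by
  classical
  obtain ⟨W0, _, _, ⟨D0⟩⟩ := exists_ext w hK hw f hf (c := 0) (by norm_num)
  obtain ⟨W1, _, _, ⟨D1⟩⟩ := exists_ext w hK hw f hf (c := 1) (by norm_num)
  obtain ⟨Γ0, _, _, σ0, Z0, Φ0, hs0, hc0, hk0, hz0, hΦ0, hp0⟩ :=
    exists_double w hK hw f hf (c := 0) (by norm_num) D0
  obtain ⟨Γ1, _, _, σ1, Z1, Φ1, hs1, hc1, hk1, hz1, hΦ1, hp1⟩ :=
    exists_double w hK hw f hf (c := 1) (by norm_num) D1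
  set A := Fib σ0 σ1
  set σ := fproj σ0 σ1
  have hperf : commutator ↥(GG K) = ⊤ := TwistedE6.perfect f hf hK
  have hs : Function.Surjective σ := fproj_surjective σ0 σ1 hs0 hs1
  have hc : σ.ker ≤ center A := fproj_central σ0 σ1 hc0 hc1
  have hsq : ∀ {Γ : Type u} [Group Γ] {τ : Γ →* ↥(GG K)} {Z : Γ}, (∀ a, τ a = 1 ↔ a = 1 ∨ a = Z) →
      Z ≠ 1 → Z * Z = 1 := by
    intro Γ _ τ Z hk hz
    have hτ : τ Z = 1 := (hk Z).2 (Or.inr rfl)
    exact ((hk (Z * Z)).1 (by rw [map_mul, hτ, one_mul])).resolve_right fun e => hz (mul_eq_left.1 e)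
  have hZ0 := hsq hk0 hz0
  have hZ1 := hsq hk1 hz1
  have m0 : σ0 Z0 = 1 := (hk0 _).2 (Or.inr rfl)
  have m1 : σ1 Z1 = 1 := (hk1 _).2 (Or.inr rfl)
  let za : A := ⟨(Z0, 1), by show σ0 Z0 = σ1 1; rw [m0, map_one]⟩
  let zb : A := ⟨(1, Z1), by show σ0 1 = σ1 Z1; rw [m1, map_one]⟩
  have hcases : ∀ x : A, σ x = 1 → x = 1 ∨ x = za ∨ x = zb ∨ x = za * zb := by
    intro x hx
    obtain ⟨h1, h2⟩ := (fproj_eq_one σ0 σ1).1 hx
    rcases (hk0 _).1 h1 with e1 | e1 <;> rcases (hk1 _).1 h2 with e2 | e2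
    · exact Or.inl (Subtype.ext (Prod.ext e1 e2))
    · exact Or.inr (Or.inr (Or.inl (Subtype.ext (Prod.ext e1 e2))))
    · exact Or.inr (Or.inl (Subtype.ext (Prod.ext e1 e2)))
    · exact Or.inr (Or.inr (Or.inr (Subtype.ext (Prod.ext (e1.trans (mul_one _).symm)
        (e2.trans (one_mul _).symm)))))
  -- every character kills the first generator
  let W := Fib D0.pr D1.pr
  let Φ : W →* A := ((Φ0.comp (MonoidHom.fst W0 W1)).comp W.subtype).prod
      ((Φ1.comp (MonoidHom.snd W0 W1)).comp W.subtype) |>.codRestrict A fun v => by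
    show σ0 (Φ0 v.1.1) = σ1 (Φ1 v.1.2)
    rw [hp0, hp1]; exact v.2
  have hns : ∀ ψ : A →* Multiplicative (ZMod 2), ψ za = 1 := by
    intro ψ
    let ll : ℕ → W0 × W1 := fun i => (D0.L i, D1.L i)
    have hll : ∀ i < 36, ll i ∈ W := fun i hi => by
      show D0.pr (D0.L i) = D1.pr (D1.L i)
      rw [D0.pr_L i hi, D1.pr_L i hi]
    let e : ℕ → W := fun i => if h : i < 36 then ⟨ll i, hll i h⟩ else 1
    let za' : W := ⟨(D0.L 36, 1), by show D0.pr (D0.L 36) = D1.pr 1; rw [D0.pr_z, map_one]⟩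
    have hval : ∀ l : List ℕ, (∀ a ∈ l, a < 36) → ((P e l : W) : W0 × W1) = (P D0.L l, P D1.L l) := by
      intro l
      induction l with
      | nil => intro _; rfl
      | cons a l ih =>
        intro h
        rw [P_cons, Subgroup.coe_mul, ih fun b hb => h b (List.mem_cons_of_mem _ hb)]
        simp only [e, dif_pos (h a List.mem_cons_self)]
        rfl
    obtain ⟨d1, d2, d3, d4, -, -, d7, d8⟩ := three_data
    have s0 := fun t i (h : i ≤ t) (h' : t < 37) => D0.sat t h' i h (Nat.zero_le _)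
    have s1 := fun t i (h : i ≤ t) (h' : t < 37) => D1.sat t h' i h (Nat.zero_le _)
    have a0 := s0 4 2 (by norm_num) (by norm_num)
    have a1 := s1 4 2 (by norm_num) (by norm_num)
    have b0 := s0 5 2 (by norm_num) (by norm_num)
    have b1 := s1 5 2 (by norm_num) (by norm_num)
    have c0 := s0 5 3 (by norm_num) (by norm_num)
    have c1 := s1 5 3 (by norm_num) (by norm_num)
    rw [d1] at a0; rw [d4] at a1; rw [d2] at b0; rw [d7] at b1; rw [d3] at c0; rw [d8] at c1
    have e1 : P e [4, 2] = P e [2, 4, 8] * za' := by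
      apply Subtype.ext
      rw [Subgroup.coe_mul, hval _ (by decide), hval _ (by decide)]
      refine Prod.ext ?_ ?_
      · show P D0.L [4, 2] = P D0.L [2, 4, 8] * D0.L 36
        rw [a0]; simp [P, mul_assoc]
      · show P D1.L [4, 2] = P D1.L [2, 4, 8] * 1
        rw [a1, mul_one]
    have e2 : P e [5, 2] = P e [2, 5, 7, 8] := by
      apply Subtype.ext
      rw [hval _ (by decide), hval _ (by decide), b0, b1]
    have e3 : P e [5, 3] = P e [3, 5, 7] := by
      apply Subtype.ext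
      rw [hval _ (by decide), hval _ (by decide), c0, c1]
    have hΦ : Φ za' = za := by
      apply Subtype.ext
      show (Φ0 (D0.L 36), Φ1 1) = (Z0, 1)
      rw [hΦ0, map_one]
    have f1 := congrArg (ψ.comp Φ) e1
    have f2 := congrArg (ψ.comp Φ) e2
    have f3 := congrArg (ψ.comp Φ) e3
    simp only [P, List.map_cons, List.map_nil, List.prod_cons, List.prod_nil, mul_one, map_mul] at f1 f2 f3
    rw [MonoidHom.comp_apply ψ Φ za', hΦ] at f1
    revert f1 f2 f3
    generalize (ψ.comp Φ) (e 4) = p4, (ψ.comp Φ) (e 2) = p2, (ψ.comp Φ) (e 8) = p8,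
      (ψ.comp Φ) (e 5) = p5, (ψ.comp Φ) (e 7) = p7, (ψ.comp Φ) (e 3) = p3, ψ za = z
    revert p4 p2 p8 p5 p7 p3 z
    decide
  have hsub : σ.ker ≤ commutator A := by
    suffices hab : za ∈ commutator A ∧ zb ∈ commutator A by
      intro x hx
      rcases hcases x hx with rfl | rfl | rfl | rfl
      exacts [one_mem _, hab.1, hab.2, mul_mem hab.1 hab.2]
    have pr0 : ∃ c ∈ commutator A, c.1.1 = Z0 := by
      have h : Z0 ∈ (commutator A).map ((MonoidHom.fst Γ0 Γ1).comp A.subtype) := by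
        rw [_root_.commutator_def, Subgroup.map_commutator, Subgroup.map_top_of_surjective _ ?_,
          ← _root_.commutator_def]
        · have hst : Cfsg.IsStemExtension σ0 := TransferExt14.stem_of_nonsplit hs0 hc0 hk0 (fun ψ => ?_) hperf
          · rw [perfect_of_stem hst hperf]; exact mem_top _
          · have := hns (ψ.comp ((MonoidHom.fst Γ0 Γ1).comp A.subtype))
            exact this
        · intro a
          obtain ⟨b, hb⟩ := hs1 (σ0 a)
          exact ⟨⟨(a, b), hb.symm⟩, rfl⟩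
      exact h
    obtain ⟨c, hc', hcz⟩ := pr0
    have hcσ : σ c = 1 := by show σ0 c.1.1 = 1; rw [hcz, m0]
    have hza : za ∈ commutator A := by
      by_contra hza
      have hcd : c = za * zb := by
        rcases hcases c hcσ with h | h | h | h
        · exact absurd (hcz.symm.trans (by rw [h]; rfl)) hz0
        · exact absurd (h ▸ hc') hza
        · exact absurd (hcz.symm.trans (by rw [h])) hz0
        · exact h
      have hzaz : za * za = 1 := Subtype.ext (Prod.ext hZ0 (mul_one _))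
      have hall : ∀ γ, γ ∈ commutator A ∨ γ * za ∈ commutator A := by
        intro γ
        obtain ⟨d, hd, he⟩ := exists_commutator hs hperf γ
        rcases hcases (d⁻¹ * γ) (by rw [map_mul, map_inv, he, inv_mul_cancel]) with h | h | h | h
        all_goals rw [inv_mul_eq_iff_eq_mul] at h
        · exact Or.inl (by rw [h, mul_one]; exact hd)
        · exact Or.inr (by rw [h, mul_assoc, hzaz, mul_one]; exact hd)
        · refine Or.inr ?_
          rw [h, mul_assoc, show zb * za = za * zb from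
            (mem_center_iff.1 (hc (show σ za = 1 from m0)) zb), ← hcd]
          exact mul_mem hd hc'
        · exact Or.inl (by rw [h, ← hcd]; exact mul_mem hd hc')
      have hidx : (commutator A).index = 2 := by
        refine Subgroup.index_eq_two_iff.2 ⟨za, fun γ => ?_⟩
        rcases hall γ with h | h
        · refine Or.inr ⟨h, fun h' => hza ?_⟩
          have := mul_mem (inv_mem h) h'
          rwa [inv_mul_cancel_left] at this
        · refine Or.inl ⟨h, fun h' => hza ?_⟩
          have := mul_mem (inv_mem h') h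
          rwa [inv_mul_cancel_left] at this
      let ψ : A →* Multiplicative (ZMod 2) :=
        MonoidHom.mk' (fun γ => if γ ∈ commutator A then 1 else Multiplicative.ofAdd 1) fun a b => by
          have h := Subgroup.mul_mem_iff_of_index_two hidx (a := a) (b := b)
          by_cases ha : a ∈ commutator A <;> by_cases hb : b ∈ commutator A <;>
            simp [ha, hb, h] <;> decide
      have := hns ψ
      simp [ψ, hza] at this
    refine ⟨hza, ?_⟩
    have pr1 : ∃ d ∈ commutator A, d.1.2 = Z1 := by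
      by_cases hst : ∀ ψ : Γ1 →* Multiplicative (ZMod 2), ψ Z1 = 1
      · have h : Z1 ∈ (commutator A).map ((MonoidHom.snd Γ0 Γ1).comp A.subtype) := by
          rw [_root_.commutator_def, Subgroup.map_commutator, Subgroup.map_top_of_surjective _ ?_,
            ← _root_.commutator_def]
          · rw [perfect_of_stem (TransferExt14.stem_of_nonsplit hs1 hc1 hk1 hst hperf) hperf]
            exact mem_top _
          · intro b
            obtain ⟨a, ha⟩ := hs0 (σ1 b)
            exact ⟨⟨(a, b), ha⟩, rfl⟩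
        exact h
      · exact absurd (fun ψ => by
          have := nonsplit_one w (Φ1 := Φ1) D1 ψ
          rwa [hΦ1] at this) hst
    obtain ⟨d, hd, hdz⟩ := pr1
    have hdσ : σ d = 1 := by
      show σ0 d.1.1 = 1
      have := d.2; change σ0 d.1.1 = σ1 d.1.2 at this
      rw [this, hdz, m1]
    rcases hcases d hdσ with h | h | h | h
    · exact absurd (hdz.symm.trans (by rw [h]; rfl)) hz1
    · exact absurd (hdz.symm.trans (by rw [h])) hz1
    · exact h ▸ hd
    · have := mul_mem hza hd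
      rwa [h, ← mul_assoc, show za * za = 1 from Subtype.ext (Prod.ext hZ0 (mul_one _)), one_mul] at this
  refine ⟨A, inferInstance, inferInstance, σ, ⟨hs, hc, hsub⟩, ⟨?_⟩, fun x hx => ?_⟩
  · have hcard : ∀ {Γ : Type u} [Group Γ] {τ : Γ →* ↥(GG K)} {Z : Γ}, (∀ a, τ a = 1 ↔ a = 1 ∨ a = Z) →
        Z ≠ 1 → Nat.card τ.ker = 2 := by
      intro Γ _ τ Z hk hz
      have e : τ.ker ≃ ({1, Z} : Set Γ) := Equiv.subtypeEquivRight fun a => by
        simp [MonoidHom.mem_ker, hk]
      rw [Nat.card_congr e, Nat.card_coe_set_eq, Set.ncard_pair (Ne.symm hz)]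
    haveI : Fact (Nat.Prime 2) := ⟨Nat.prime_two⟩
    haveI := isCyclic_of_prime_card (hcard hk0 hz0)
    haveI := isCyclic_of_prime_card (hcard hk1 hz1)
    have h2 : Nat.card (Multiplicative (ZMod 2)) = 2 := by simp
    exact ((kerEquiv σ0 σ1).trans ((mulEquivOfCyclicCardEq ((hcard hk0 hz0).trans h2.symm)).prodCongr
      (mulEquivOfCyclicCardEq ((hcard hk1 hz1).trans h2.symm)))).trans
        (MulEquiv.prodMultiplicative (ZMod 2) (ZMod 2)).symm
  · rcases hcases x hx with rfl | rfl | rfl | rfl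
    · exact one_pow _
    · rw [sq]; exact Subtype.ext (Prod.ext hZ0 (mul_one _))
    · rw [sq]; exact Subtype.ext (Prod.ext (mul_one _) hZ1)
    · rw [sq]
      refine Subtype.ext (Prod.ext ?_ ?_)
      · show Z0 * 1 * (Z0 * 1) = 1
        rw [mul_one, hZ0]
      · show 1 * Z1 * (1 * Z1) = 1
        rw [one_mul, hZ1]

include hK hw hf in
/-- a stem extension with kernel of type (3, 2, 2) -/
theorem exists_cover : ∃ (Γ : Type u) (_ : Group Γ) (_ : Finite Γ) (σ : Γ →* ↥(GG K)),
    Cfsg.IsStemExtension σ ∧ Nonempty (σ.ker ≃* Multiplicative (ZMod 3 × ZMod 2 × ZMod 2)) := by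
  obtain ⟨A, _, _, σ, hσ, ⟨eA⟩, hexp⟩ := exists_four w hK hw f hf
  have hperf : commutator ↥(GG K) = ⊤ := TwistedE6.perfect f hf hK
  have h3 := E6StemLower67.exists_cover f hf hK hperf
  rw [show Nat.gcd 3 (2 + 1) = 3 by norm_num] at h3
  obtain ⟨B, _, _, τ, hτ, ⟨eB⟩⟩ := h3
  have hb : ∀ b : B, τ b = 1 → b ^ 3 = 1 := by
    intro b hb
    have h1 : eB ⟨b, hb⟩ ^ 3 = 1 := by
      generalize eB ⟨b, hb⟩ = u
      revert u; decide
    rw [← map_pow, map_eq_one_iff _ eB.injective] at h1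
    simpa using congrArg Subtype.val h1
  refine ⟨Fib σ τ, inferInstance, inferInstance, fproj σ τ, stem_coprime σ τ hσ hτ hperf hexp hb, ⟨?_⟩⟩
  exact (((kerEquiv σ τ).trans (eA.prodCongr eB)).trans MulEquiv.prodComm).trans
    (MulEquiv.prodMultiplicative (ZMod 3) (ZMod 2 × ZMod 2)).symm

end Cfsg.Agent.TwistE6Mult14Cover
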