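import Cfsg.Agent.Lib.TwistE6Mult14Geom
import Cfsg.Agent.Lib.TwistE6Mult14Consist
import Cfsg.Agent.Lib.TransferExt14

/-!
The two double extensions of the unipotent subgroup of the twisted E6 group over the field with four
elements, their compatibility with conjugation, and the resulting cover with kernel of order four.
-/

set_option autoImplicit false
set_option linter.unusedSectionVars false
set_option maxRecDepth 100000

namespace Cfsg.Agent.TwistE6Mult14Lower

open Cfsg.Lie Cfsg.Agent Cfsg.Agent.TwistE6MultData14 Cfsg.Agent.TwistE6Mult14Check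
  Cfsg.Agent.TwistE6Mult14Geom
open Cfsg.Agent.CenSplitStable50 (P P_cons P_nil P_map P_append)
open Cfsg.Agent.PcConsist14 (PcTree rhs Sat qsame qsame_sound Shape shapeB shapeB_sound card_le_of_shape P_congr P_flatMap)
open Cfsg.Agent.TwistE6Mult14Consist (rows37 consistent)
open Subgroup

universe u

/-- the central letter, if the bit is set -/
def zb (b : Bool) : List ℕ := if b then [36] else []

/-- the tables agree at a place -/
noncomputable def rowOK (c t i : ℕ) : Bool :=
  let r := t * (t + 1) / 2 + i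
  let e := rels.getD r ([], [])
  (rhs (rows37 c) t i == e.2 ++ zb ((fb.getD c 0).testBit r)) && (rhs rowsU t i == e.2) &&
    (e.1 == [t, i]) && Nat.blt r 666 && e.2.all fun a => Nat.blt a 36

theorem row_check : ∀ c < 2, ((List.range 36).all fun t => (List.range (t + 1)).all fun i => rowOK c t i) = true := by
  decide +kernel

theorem rows_data (c : ℕ) (hc : c < 2) (t : ℕ) (ht : t < 36) (i : ℕ) (hi : i ≤ t) :
    rhs (rows37 c) t i = (rels.getD (t * (t + 1) / 2 + i) ([], [])).2 ++
      zb ((fb.getD c 0).testBit (t * (t + 1) / 2 + i)) ∧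
    rhs rowsU t i = (rels.getD (t * (t + 1) / 2 + i) ([], [])).2 ∧
    (rels.getD (t * (t + 1) / 2 + i) ([], [])).1 = [t, i] ∧ t * (t + 1) / 2 + i < 666 ∧
    ∀ a ∈ (rels.getD (t * (t + 1) / 2 + i) ([], [])).2, a < 36 := by
  have h := List.all_eq_true.1 (List.all_eq_true.1 (row_check c hc) t (List.mem_range.2 ht)) i
    (List.mem_range.2 (by omega))
  simp only [rowOK, Bool.and_eq_true, beq_iff_eq, Nat.blt_eq, List.all_eq_true] at h
  exact ⟨h.1.1.1.1, h.1.1.1.2, h.1.1.2, h.1.2, h.2⟩

theorem rows_top : ∀ c < 2, ∀ i ≤ 36, rhs (rows37 c) 36 i = if i = 36 then [] else [i, 36] := by decide +kernel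

theorem shape36 : shapeB rowsU 36 (fun _ => true) = true := by decide +kernel

theorem three_data : rhs (rows37 0) 4 2 = [2, 4, 8, 36] ∧ rhs (rows37 0) 5 2 = [2, 5, 7, 8] ∧
    rhs (rows37 0) 5 3 = [3, 5, 7] ∧
    rhs (rows37 1) 4 2 = [2, 4, 8] ∧ rhs (rows37 0) 4 3 = [3, 4, 7, 8] ∧ rhs (rows37 1) 4 3 = [3, 4, 7, 8, 36] ∧
    rhs (rows37 1) 5 2 = [2, 5, 7, 8] ∧ rhs (rows37 1) 5 3 = [3, 5, 7] := by decide +kernel

/-- the letters kept by a class, with the centre -/
def okz (k i : ℕ) : Bool := okk k i || Nat.beq i 36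

/-- the image word of a place -/
def imgW (c k i : ℕ) : List ℕ :=
  if i = 36 then [36] else img k i ++ zb (((cl.getD c []).getD k 0).testBit i)

/-- the check of a relation at the kept places -/
noncomputable def imgOK (c k t i : ℕ) : Bool :=
  !(okz k t && okz k i) ||
    qsame (rows37 c) 37 0 (imgW c k t ++ imgW c k i) ((rhs (rows37 c) t i).flatMap (imgW c k))

theorem shapeK : ∀ c < 2, ∀ k < 5, shapeB (rows37 c) 37 (okz k) = true := by decide +kernel

theorem img_data : ∀ c < 2, ∀ k < 5, ((List.range 37).all fun t =>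
    (List.range (t + 1)).all fun i => imgOK c k t i) = true := by decide +kernel

theorem count_data : ∀ k < 5,
    ((List.range 37).filter (okz k)).length = 36 - (roots.getD k []).length + 1 := by decide +kernel

variable {K : Type u} [Field K] (w : K)

/-- a double extension of the unipotent subgroup with the relations of a class -/
structure Ext (c : ℕ) (W : Type u) [Group W] where
  /-- the projection -/
  pr : W →* ↥(GG K)
  /-- the letters -/
  L : ℕ → W
  sat : Sat (rows37 c) 37 0 L
  top : closure (L '' Set.Iio 37) = ⊤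
  pr_L : ∀ i < 36, pr (L i) = X w i
  pr_z : pr (L 36) = 1
  z_ne : L 36 ≠ 1
  range : pr.range = UU w
  ker : ∀ v, pr v = 1 ↔ v = 1 ∨ v = L 36

variable [Fintype K] (hK : Fintype.card K = 2 ^ 2) (hw : w ^ 2 = w + 1)
variable (f : K →+* K) (hf : ∀ t, f t = t ^ 2)

include hK hw hf

theorem exists_ext {c : ℕ} (hc : c < 2) :
    ∃ (W : Type u) (_ : Group W) (_ : Finite W), Nonempty (Ext w c W) := by
  classical
  obtain ⟨H, _, _, Lh, hsat, htop, hcard⟩ := PcConsist14.exists_group (rows37 c) 37 (consistent c hc)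
  let y : ℕ → ↥(GG K) × H := fun i => (if i < 36 then X w i else 1, Lh i)
  set T := closure (y '' Set.Iio 37) with hT
  let L : ℕ → T := fun i => ⟨y (min i 36), subset_closure ⟨min i 36, by simp only [Set.mem_Iio]; omega, rfl⟩⟩
  have hL : ∀ i < 37, (L i : ↥(GG K) × H) = y i := fun i hi => by
    show y (min i 36) = y i
    rw [min_eq_left (by omega)]
  have hval : ∀ l : List ℕ, (∀ a ∈ l, a < 37) →
      ((P L l : T) : ↥(GG K) × H) = (P (fun i => if i < 36 then X w i else 1) l, P Lh l) := by
    intro l
    induction l with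
    | nil => intro _; rfl
    | cons a l ih =>
      intro h
      rw [P_cons, Subgroup.coe_mul, hL a (h a List.mem_cons_self), ih fun b hb => h b (List.mem_cons_of_mem _ hb)]
      rfl
  have hb : ∀ t < 37, ∀ i ≤ t, ∀ a ∈ rhs (rows37 c) t i, a < 37 := by
    intro t ht i hi a ha
    rcases Nat.lt_or_ge t 36 with h | h
    · obtain ⟨e, -, -, -, e4⟩ := rows_data c hc t h i hi
      rw [e, List.mem_append] at ha
      rcases ha with ha | ha
      · have := e4 a ha; omega
      · unfold zb at ha; split at ha <;> simp at ha; omega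
    · obtain rfl : t = 36 := by omega
      rw [rows_top c hc i hi] at ha
      split at ha <;> simp at ha; omega
  have hsatL : Sat (rows37 c) 37 0 L := by
    intro t ht i hi _
    apply Subtype.ext
    rw [hval _ (fun a ha => by simp only [List.mem_cons, List.not_mem_nil, or_false] at ha; omega),
      hval _ (hb t ht i hi)]
    refine Prod.ext ?_ (hsat t ht i hi (Nat.zero_le _))
    show P (fun i => if i < 36 then X w i else 1) [t, i] = P (fun i => if i < 36 then X w i else 1) _
    rcases Nat.lt_or_ge t 36 with h | h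
    · obtain ⟨e, -, e2, e3, e4⟩ := rows_data c hc t h i hi
      have hz : P (fun i => if i < 36 then X w i else 1)
          (zb ((fb.getD c 0).testBit (t * (t + 1) / 2 + i))) = 1 := by
        unfold zb; split <;> simp [P]
      have hr := relsX w hK hw f hf e3
      rw [e2] at hr
      rw [e, P_append, hz, mul_one,
        P_congr (L' := X w) fun a ha => if_pos (e4 a ha),
        P_congr (L' := X w) fun a ha => if_pos (by
          simp only [List.mem_cons, List.not_mem_nil, or_false] at ha; omega)]
      exact hr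
    · obtain rfl : t = 36 := by omega
      rw [rows_top c hc i hi]
      split <;> simp [P, *]
  let pr : T →* ↥(GG K) := (MonoidHom.fst _ _).comp T.subtype
  let sd : T →* H := (MonoidHom.snd _ _).comp T.subtype
  have htopL : closure (L '' Set.Iio 37) = ⊤ := by
    apply Subgroup.map_injective T.subtype_injective
    rw [MonoidHom.map_closure, Set.image_image, ← MonoidHom.range_eq_map, Subgroup.range_subtype]
    exact (congrArg Subgroup.closure (Set.image_congr (g := y) fun i hi => hL i hi)).trans hT.symm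
  have hpl : ∀ i < 36, pr (L i) = X w i := fun i hi => by
    show (L i : ↥(GG K) × H).1 = _
    rw [hL i (by omega)]; exact if_pos hi
  have hpz : pr (L 36) = 1 := by
    show (L 36 : ↥(GG K) × H).1 = _
    rw [hL 36 (by norm_num)]; simp [y]
  have hrange : pr.range = UU w := by
    rw [MonoidHom.range_eq_map, ← htopL, MonoidHom.map_closure, Set.image_image, UU]
    apply le_antisymm
    · rw [closure_le]
      rintro _ ⟨i, hi, rfl⟩
      simp only [Set.mem_Iio] at hi
      show pr (L i) ∈ closure (X w '' Set.Iio 36)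
      by_cases h : i < 36
      · rw [hpl i h]; exact subset_closure ⟨i, h, rfl⟩
      · rw [show i = 36 by omega, hpz]; exact one_mem _
    · refine closure_mono ?_
      rintro _ ⟨i, hi, rfl⟩
      simp only [Set.mem_Iio] at hi
      exact ⟨i, by simp only [Set.mem_Iio]; omega, hpl i hi⟩
  have hsurj : Function.Surjective sd := by
    rw [← MonoidHom.range_eq_top, eq_top_iff, ← htop, closure_le]
    rintro _ ⟨i, hi, rfl⟩
    exact ⟨L i, by show (L i : ↥(GG K) × H).2 = _; rw [hL i hi]⟩
  have hle : Nat.card T ≤ 2 ^ 37 := by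
    have h := card_le_of_shape (PcConsist14.shape_of (consistent c hc)) L
      fun t ht i hi _ _ => hsatL t ht i hi (Nat.zero_le _)
    rwa [show {i | i < 37 ∧ (fun _ : ℕ => true) i = true} = Set.Iio 37 by ext; simp, htopL, Subgroup.card_top,
      List.filter_true, List.length_range] at h
  have hcT : Nat.card T = 2 ^ 37 :=
    le_antisymm hle (hcard ▸ Nat.card_le_card_of_surjective _ hsurj)
  have hz : L 36 ≠ 1 := by
    intro he
    have hclo : closure (L '' Set.Iio 36) = ⊤ := by
      rw [eq_top_iff, ← htopL, closure_le]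
      rintro _ ⟨i, hi, rfl⟩
      simp only [Set.mem_Iio] at hi
      by_cases h : i < 36
      · exact subset_closure ⟨i, h, rfl⟩
      · rw [show i = 36 by omega, he]; exact one_mem _
    have h := card_le_of_shape (shapeB_sound shape36) L fun t ht i hi _ _ => by
      obtain ⟨e1, e2, -, -, -⟩ := rows_data c hc t ht i hi
      have hs := hsatL t (by omega) i hi (Nat.zero_le _)
      have h1 : P L (zb ((fb.getD c 0).testBit (t * (t + 1) / 2 + i))) = 1 := by
        unfold zb; split <;> simp [P, he]
      rw [e1, P_append, h1, mul_one] at hs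
      rw [e2]
      exact hs
    rw [show {i | i < 36 ∧ (fun _ : ℕ => true) i = true} = Set.Iio 36 by ext; simp, hclo, Subgroup.card_top,
      List.filter_true, List.length_range, hcT] at h
    norm_num at h
  refine ⟨T, inferInstance, inferInstance, ⟨⟨pr, L, hsatL, htopL, hpl, hpz, hz, hrange, fun v => ?_⟩⟩⟩
  constructor
  · intro hv
    have hk := pr.ker.card_mul_index
    rw [Subgroup.index_ker, hrange, card_UU w hK hw f hf, hcT] at hk
    have h2 : Nat.card pr.ker = 2 := by
      rw [show (2 : ℕ) ^ 37 = 2 * 2 ^ 36 by norm_num] at hk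
      exact Nat.eq_of_mul_eq_mul_right (by positivity) hk
    by_contra hcon
    push Not at hcon
    have hsub : ({1, L 36, v} : Set T) ⊆ pr.ker := by
      rintro x (rfl | rfl | rfl)
      · exact one_mem _
      · exact hpz
      · exact hv
    have h3 : ({1, L 36, v} : Set T).ncard = 3 :=
      Set.ncard_eq_three.2 ⟨1, L 36, v, hz.symm, Ne.symm hcon.1, Ne.symm hcon.2, rfl⟩
    have := Set.ncard_le_ncard hsub (Set.toFinite _)
    rw [h3, ← Nat.card_coe_set_eq] at this
    change 3 ≤ Nat.card pr.ker at this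
    omega
  · rintro (rfl | rfl)
    · exact map_one _
    · exact hpz

variable {c : ℕ} (hc : c < 2) {W : Type u} [Group W] [Finite W] (D : Ext w c W)

include hc

theorem stable_simple {k : ℕ} (hk : k < 5) :
    TransferExt14.Stable (UU w) D.pr (D.L 36) (Nr w k) := by
  classical
  set m := 36 - (roots.getD k []).length + 1 with hm
  let y : ℕ → W × W := fun j => (D.L j, P D.L (imgW c k j))
  set T := closure (y '' {i | i < 37 ∧ okz k i = true}) with hT
  have hy : ∀ l : List ℕ, P y l = (P D.L l, P D.L (l.flatMap (imgW c k))) := by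
    intro l
    induction l with
    | nil => rfl
    | cons a l ih => rw [P_cons, ih, List.flatMap_cons, P_cons, P_append]; rfl
  have hcardT : Nat.card T ≤ 2 ^ m := by
    have h := card_le_of_shape (shapeB_sound (shapeK c hc k hk)) y fun t ht i hi hokt hoki => by
      have h := List.all_eq_true.1 (List.all_eq_true.1 (img_data c hc k hk) t (List.mem_range.2 ht)) i
        (List.mem_range.2 (by omega))
      simp only [imgOK, hokt, hoki, Bool.and_self, Bool.not_true, Bool.false_or] at h
      rw [hy, hy]
      simp only [List.flatMap_cons, List.flatMap_nil, List.append_nil]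
      exact Prod.ext (D.sat t ht i hi (Nat.zero_le _)) (qsame_sound D.sat h)
    rwa [count_data k hk] at h
  set Wk := T.map (MonoidHom.fst W W) with hWk
  have hgenWk : ∀ i, i = 36 ∨ okk k i = true → D.L i ∈ Wk := by
    intro i hi
    refine ⟨y i, subset_closure ⟨i, ?_, rfl⟩, rfl⟩
    rcases hi with rfl | hi
    · exact ⟨by norm_num, by simp [okz]⟩
    · have hlt : i < 36 := by simp only [okk, Bool.and_eq_true, decide_eq_true_eq] at hi; exact hi.1
      exact ⟨by omega, by simp [okz, hi]⟩
  have hover : ∀ v : W, D.pr v ∈ Ui w k → v ∈ Wk := by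
    intro v hv
    have h1 : D.pr v ∈ Wk.map D.pr := by
      refine (closure_le (Wk.map D.pr)).2 ?_ hv
      rintro _ ⟨i, hi, rfl⟩
      have hlt : i < 36 := by
        simp only [okk, Set.mem_setOf_eq, Bool.and_eq_true, decide_eq_true_eq] at hi; exact hi.1
      exact ⟨D.L i, hgenWk i (Or.inr hi), D.pr_L i hlt⟩
    obtain ⟨v', hv', he⟩ := h1
    rcases (D.ker (v'⁻¹ * v)).1 (by rw [map_mul, map_inv, he, inv_mul_cancel]) with h | h
    · rwa [inv_mul_eq_one.1 h] at hv'
    · rw [inv_mul_eq_iff_eq_mul.1 h]
      exact mul_mem hv' (hgenWk 36 (Or.inl rfl))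
  have hUle : Ui w k ≤ UU w := closure_mono (Set.image_mono fun i hi => by
    simp only [okk, Set.mem_setOf_eq, Bool.and_eq_true, decide_eq_true_eq] at hi
    exact hi.1)
  have hcardWk : 2 ^ m ≤ Nat.card Wk := by
    let K' : Subgroup W := (Ui w k).comap D.pr
    have hK' : K' ≤ Wk := fun v hv => hover v hv
    refine le_trans ?_ (Subgroup.card_le_of_le hK')
    have h2 : Nat.card K' = Nat.card (D.pr.ker.subgroupOf K') * (D.pr.ker.subgroupOf K').index :=
      (Subgroup.card_mul_index _).symm
    have hkK : D.pr.ker ≤ K' := fun v hv => by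
      show D.pr v ∈ Ui w k
      rw [MonoidHom.mem_ker.1 hv]; exact one_mem _
    have hker2 : 2 ≤ Nat.card (D.pr.ker.subgroupOf K') := by
      rw [Nat.card_congr (Subgroup.subgroupOfEquivOfLe hkK).toEquiv]
      have : Nontrivial D.pr.ker :=
        ⟨⟨⟨D.L 36, D.pr_z⟩, 1, fun e => D.z_ne (congrArg Subtype.val e)⟩⟩
      exact Finite.one_lt_card
    have hidx' : Nat.card (Ui w k) ≤ (D.pr.ker.subgroupOf K').index := by
      have hr : (D.pr.comp K'.subtype).range = Ui w k := by
        rw [MonoidHom.range_comp, Subgroup.range_subtype]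
        exact Subgroup.map_comap_eq_self (D.range.symm ▸ hUle)
      rw [show D.pr.ker.subgroupOf K' = (D.pr.comp K'.subtype).ker from rfl, Subgroup.index_ker, hr]
    rw [hm, pow_succ']
    exact (Nat.mul_le_mul hker2 ((card_Ui w hK hw f hf hk).trans hidx')).trans h2.ge
  let fst' := (MonoidHom.fst W W).subgroupMap T
  have hfs : Function.Surjective fst' := (MonoidHom.fst W W).subgroupMap_surjective T
  have hfb : Function.Bijective fst' :=
    (Nat.bijective_iff_surjective_and_card _).2
      ⟨hfs, le_antisymm (hcardT.trans hcardWk) (Nat.card_le_card_of_surjective _ hfs)⟩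
  let e := MulEquiv.ofBijective fst' hfb
  have hdom : ∀ v, v ∈ TransferExt14.Dom (UU w) D.pr (Nr w k) → v ∈ Wk := fun v hv =>
    hover v (mem_Ui w hK hw f hf hk (D.range ▸ ⟨v, rfl⟩) hv)
  let θ : TransferExt14.Dom (UU w) D.pr (Nr w k) →* W :=
    ((MonoidHom.snd W W).comp (T.subtype.comp e.symm.toMonoidHom)).comp (Subgroup.inclusion hdom)
  have hzb : ∀ b, D.pr (P D.L (zb b)) = 1 := by intro b; unfold zb; split <;> simp [P, D.pr_z]
  have hcoord : ∀ x ∈ T, D.pr x.2 = Nr w k * D.pr x.1 * (Nr w k)⁻¹ := by
    intro x hx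
    let Q : Subgroup (W × W) :=
      MonoidHom.eqLocus (D.pr.comp (MonoidHom.snd _ _))
        (((MulAut.conj (Nr w k)).toMonoidHom.comp D.pr).comp (MonoidHom.fst _ _))
    refine ((closure_le Q).2 ?_ hx : x ∈ Q)
    rintro _ ⟨j, ⟨hj, hj'⟩, rfl⟩
    show D.pr (P D.L (imgW c k j)) = Nr w k * D.pr (D.L j) * (Nr w k)⁻¹
    by_cases h36 : j = 36
    · subst h36
      simp [imgW, P, D.pr_z]
    · have hok : okk k j = true := by
        simp only [okz, Bool.or_eq_true] at hj'
        exact hj'.resolve_right fun e => h36 (Nat.eq_of_beq_eq_true e)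
      rw [D.pr_L _ (by omega), Nr_conj w hK hw f hf hk hok, imgW, if_neg h36, P_append, map_mul, hzb, mul_one,
        P_map]
      exact P_congr fun a ha => D.pr_L a (img_lt hk hok a ha)
  refine ⟨θ, fun v => ?_, fun hmz => ?_⟩
  · set x := e.symm (Subgroup.inclusion hdom v)
    have h1 : (x : W × W).1 = (v : W) :=
      congrArg Subtype.val (e.apply_symm_apply (Subgroup.inclusion hdom v))
    show D.pr (x : W × W).2 = _
    rw [hcoord _ x.2, h1]
  · have hmem : y 36 ∈ T := subset_closure ⟨36, ⟨by norm_num, by simp [okz]⟩, rfl⟩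
    have h1 : e ⟨_, hmem⟩ = Subgroup.inclusion hdom ⟨D.L 36, hmz⟩ := Subtype.ext rfl
    show ((e.symm (Subgroup.inclusion hdom ⟨D.L 36, hmz⟩) : T) : W × W).2 = _
    rw [← h1, e.symm_apply_apply]
    show P D.L (imgW c k 36) = D.L 36
    simp [imgW, P]

theorem stable_all (g : ↥(GG K)) : TransferExt14.Stable (UU w) D.pr (D.L 36) g := by
  have hcomm : ∀ v : W, v * D.L 36 = D.L 36 * v := by
    intro v
    rcases (D.ker (v * D.L 36 * v⁻¹)).1 (by
      rw [map_mul, map_mul, D.pr_z, map_inv, mul_one, mul_inv_cancel]) with h | h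
    · exact absurd (conj_eq_one_iff.1 h) D.z_ne
    · exact mul_inv_eq_iff_eq_mul.1 h
  refine bruhat_induction w hK hw f hf _ (fun u hu => TransferExt14.stable_of_mem D.range hcomm hu)
    (fun k hk => stable_simple w hK hw f hf hc D hk) (fun a b ha hb hab => ?_) g
  refine TransferExt14.stable_comp D.pr_z ha hb fun v hv => ?_
  exact hab _ (D.range ▸ ⟨v, rfl⟩) hv

theorem exists_double : ∃ (Γ : Type u) (_ : Group Γ) (_ : Finite Γ) (σ : Γ →* ↥(GG K)) (Z : Γ) (Φ : W →* Γ),
    Function.Surjective σ ∧ σ.ker ≤ center Γ ∧ (∀ a, σ a = 1 ↔ a = 1 ∨ a = Z) ∧ Z ≠ 1 ∧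
      Φ (D.L 36) = Z ∧ ∀ v, σ (Φ v) = D.pr v :=
  TransferExt14.exists_double' D.range (D.L 36) D.z_ne D.ker
    (by rw [← Subgroup.index_eq_card]; exact index_UU w hK hw f hf) (stable_all w hK hw f hf hc D)

end Cfsg.Agent.TwistE6Mult14Lower
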