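import Cfsg.Agent.Lib.TwistedE6Simple
import Cfsg.Agent.Lib.E6StemLevels67

/-!
Collection of words in the positive root elements of E6 over the field with four elements: parameters
are coded by `0, 1, 2, 3`, the last two standing for an element `w` with `w ^ 2 = w + 1` and its square.
-/

set_option autoImplicit false
set_option maxRecDepth 20000

namespace Cfsg.Agent.TwistE6Mult14Root

open Cfsg.Lie Cfsg.Agent.ChevalleyCert Cfsg.Agent.ChevalleyCore Cfsg.Agent.ChevalleyRoots Cfsg.Agent.TwistedE6

universe u

/-- the product of two codes -/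
def cmul (a b : ℕ) : ℕ :=
  (([[0, 0, 0, 0], [0, 1, 2, 3], [0, 2, 3, 1], [0, 3, 1, 2]] : List (List ℕ)).getD a []).getD b 0

/-- a power of a code -/
def cpow (a : ℕ) : ℕ → ℕ
  | 0 => 1
  | n + 1 => cmul a (cpow a n)

/-- the place of a root in the collected form -/
def key (r : ℕ) : ℕ := E6StemLevels67.lv r * 72 + r

/-- the letters of a commutator -/
def terms (r t c d : ℕ) : List (ℕ × ℕ) :=
  (chevE6.commTerms r t).map fun e =>
    (e.1, if e.2.1 % 2 != 0 then cmul (cpow c e.2.2.1) (cpow d e.2.2.2) else 0)

/-- appending a letter to a collected word, written top first -/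
def rins : ℕ → List (ℕ × ℕ) → ℕ × ℕ → Option (List (ℕ × ℕ))
  | 0, _, _ => none
  | k + 1, s, p =>
    if p.2 == 0 then some s else
    match s with
    | [] => some [p]
    | q :: o =>
      if key q.1 < key p.1 then some (p :: q :: o)
      else if !(decide (p.2 < 4) && decide (q.2 < 4)) then none
      else if q.1 == p.1 then some (if q.2 ^^^ p.2 == 0 then o else (p.1, q.2 ^^^ p.2) :: o)
      else if decide (p.1 < 72) && decide (q.1 < 72) && (q.1 != chevE6.neg p.1) then
        ((p.1, p.2) :: (q.1, q.2) :: terms p.1 q.1 p.2 q.2).foldl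
          (fun acc x => acc.bind fun s' => rins k s' x) (some o)
      else none

/-- the collected form of a word -/
def rcoll (l : List (ℕ × ℕ)) : Option (List (ℕ × ℕ)) :=
  l.foldl (fun acc x => acc.bind fun s => rins 200 s x) (some [])

variable {K : Type u} [Field K] (w : K)

/-- the value of a code -/
def cv (c : ℕ) : K := ([0, 1, w, w + 1] : List K).getD c 0

/-- the product of a word -/
noncomputable def PR (l : List (ℕ × ℕ)) : GL chevE6.Idx K := wg c6 (l.map fun p => (p.1, cv w p.2))

theorem PR_nil : PR w [] = 1 := rfl

theorem PR_cons (p : ℕ × ℕ) (l : List (ℕ × ℕ)) : PR w (p :: l) = xg c6 p.1 (cv w p.2) * PR w l := rfl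

theorem PR_append (l m : List (ℕ × ℕ)) : PR w (l ++ m) = PR w l * PR w m := by
  simp [PR, wg]

variable (h2 : (2 : K) = 0) (hw : w ^ 2 = w + 1)

include h2 in
theorem neg_self (a : K) : -a = a := by linear_combination -a * h2

include h2 in
theorem cast_odd (c : ℤ) : (c : K) = if (c % 2 != 0) = true then 1 else 0 := by
  conv_lhs => rw [← Int.emod_add_mul_ediv c 2]
  push_cast
  rw [h2, zero_mul, add_zero]
  rcases Int.emod_two_eq_zero_or_one c with h | h <;> simp [h]

include h2 in
theorem cv_add : ∀ a < 4, ∀ b < 4, cv w a + cv w b = cv w (a ^^^ b) := by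
  intro a ha b hb
  interval_cases a <;> interval_cases b <;> simp [cv] <;>
    first
    | rfl
    | ring1
    | linear_combination h2
    | linear_combination w * h2
    | linear_combination (w + 1) * h2

include h2 hw in
theorem cv_mul : ∀ a < 4, ∀ b < 4, cv w a * cv w b = cv w (cmul a b) := by
  intro a ha b hb
  interval_cases a <;> interval_cases b <;> simp [cv, cmul] <;>
    first
    | linear_combination hw
    | linear_combination hw + w * h2
    | linear_combination hw + (w + 1) * h2

theorem cmul_lt : ∀ a < 4, ∀ b < 4, cmul a b < 4 := by decide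

theorem cpow_lt {a : ℕ} (ha : a < 4) : ∀ n, cpow a n < 4
  | 0 => by simp [cpow]
  | n + 1 => cmul_lt a ha _ (cpow_lt ha n)

include h2 hw in
theorem cv_pow {a : ℕ} (ha : a < 4) : ∀ n, cv w (cpow a n) = cv w a ^ n
  | 0 => by simp [cpow, cv]
  | n + 1 => by rw [cpow, ← cv_mul w h2 hw a ha _ (cpow_lt ha n), cv_pow ha n, pow_succ']

include h2 hw in
theorem rins_sound : ∀ (k : ℕ) (s : List (ℕ × ℕ)) (p : ℕ × ℕ) (s' : List (ℕ × ℕ)), rins k s p = some s' →
    PR w s.reverse * xg c6 p.1 (cv w p.2) = PR w s'.reverse := by
  intro k
  induction k with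
  | zero => intro s p s' h; simp [rins] at h
  | succ k ih =>
    rintro s ⟨r, c⟩ s' h
    simp only [rins] at h
    split_ifs at h with h0
    · simp only [Option.some.injEq] at h
      subst h
      simp only [beq_iff_eq] at h0
      subst h0
      simp [cv]
    cases s with
    | nil =>
      simp only [Option.some.injEq] at h
      subst h
      simp [PR, wg]
    | cons q o =>
      obtain ⟨t, d⟩ := q
      dsimp only at h
      split_ifs at h with h1 h3 h4 h4 h5
      all_goals try simp only [Bool.not_eq_true', Bool.and_eq_false_iff, decide_eq_false_iff_not, not_or, not_not] at h3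
      · simp only [Option.some.injEq] at h
        subst h
        simp [PR_append, PR_cons, PR_nil, mul_assoc]
      · -- the same root, cancelling
        simp only [Option.some.injEq] at h
        subst h
        rename_i hx
        simp only [beq_iff_eq] at hx h4
        subst hx
        simp only [List.reverse_cons, PR_append, PR_cons, PR_nil, mul_one, mul_assoc, xg_mul]
        rw [cv_add w h2 d h3.2 c h3.1, h4]
        simp [cv]
      · simp only [Option.some.injEq] at h
        subst h
        rename_i hx
        simp only [beq_iff_eq] at hx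
        subst hx
        simp only [List.reverse_cons, PR_append, PR_cons, PR_nil, mul_one, mul_assoc, xg_mul]
        rw [cv_add w h2 d h3.2 c h3.1]
      · simp only [Bool.and_eq_true, decide_eq_true_eq, bne_iff_ne] at h5
        obtain ⟨⟨hr, ht⟩, hne⟩ := h5
        rename_i hx
        have hx : t ≠ r := fun e => by simp_all
        have key : ∀ (l : List (ℕ × ℕ)) (acc : Option (List (ℕ × ℕ))) (out : List (ℕ × ℕ)),
            l.foldl (fun acc x => acc.bind fun s' => rins k s' x) acc = some out →
            ∃ s₀, acc = some s₀ ∧ PR w s₀.reverse * PR w l = PR w out.reverse := by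
          intro l
          induction l with
          | nil => intro acc out h; exact ⟨out, h, by rw [PR_nil, mul_one]⟩
          | cons x l ihl =>
            intro acc out h
            obtain ⟨s₁, hs₁, e⟩ := ihl _ _ h
            obtain ⟨s₀, rfl, hi⟩ := Option.bind_eq_some_iff.1 hs₁
            exact ⟨s₀, rfl, by rw [PR_cons, ← mul_assoc, ih _ _ _ hi, e]⟩
        obtain ⟨s₀, hs₀, e⟩ := key _ _ _ h
        simp only [Option.some.injEq] at hs₀
        subst hs₀
        rw [← e, List.reverse_cons, PR_append, PR_cons, PR_nil, mul_one, mul_assoc, PR_cons, PR_cons]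
        congr 1
        have hf := comm_formula c6 (r := r) (s := t) hr ht hx hne (cv w c) (cv w d)
        rw [hf, mul_assoc]
        congr 2
        simp only [PR, terms, ChevalleyDatum.commWord, List.map_map]
        congr 1
        refine List.map_congr_left fun x _ => Prod.ext rfl ?_
        show (x.2.1 : K) * (-cv w c) ^ x.2.2.1 * cv w d ^ x.2.2.2 =
          cv w (if x.2.1 % 2 != 0 then cmul (cpow c x.2.2.1) (cpow d x.2.2.2) else 0)
        rw [neg_self h2, cast_odd h2, ← cv_pow w h2 hw h3.1, ← cv_pow w h2 hw h3.2]
        split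
        · rw [one_mul, cv_mul w h2 hw _ (cpow_lt h3.1 _) _ (cpow_lt h3.2 _)]
        · simp [cv]

include h2 hw in
theorem rcoll_sound {l s : List (ℕ × ℕ)} (h : rcoll l = some s) : PR w l = PR w s.reverse := by
  have key : ∀ (l : List (ℕ × ℕ)) (acc : Option (List (ℕ × ℕ))) (out : List (ℕ × ℕ)),
      l.foldl (fun acc x => acc.bind fun s' => rins 200 s' x) acc = some out →
      ∃ s₀, acc = some s₀ ∧ PR w s₀.reverse * PR w l = PR w out.reverse := by
    intro l
    induction l with
    | nil => intro acc out h; exact ⟨out, h, by rw [PR_nil, mul_one]⟩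
    | cons x l ihl =>
      intro acc out h
      obtain ⟨s₁, hs₁, e⟩ := ihl _ _ h
      obtain ⟨s₀, rfl, hi⟩ := Option.bind_eq_some_iff.1 hs₁
      exact ⟨s₀, rfl, by rw [PR_cons, ← mul_assoc, rins_sound w h2 hw 200 _ _ _ hi, e]⟩
  obtain ⟨s₀, hs₀, e⟩ := key l _ _ h
  simp only [Option.some.injEq] at hs₀
  subst hs₀
  simpa [PR_nil] using e

/-- two words with the same collected form -/
def rsame (l m : List (ℕ × ℕ)) : Bool :=
  match rcoll l, rcoll m with
  | some a, some b => a == b
  | _, _ => false

include h2 hw in
theorem rsame_sound {l m : List (ℕ × ℕ)} (h : rsame l m = true) : PR w l = PR w m := by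
  simp only [rsame] at h
  split at h
  · rename_i a b ha hb
    simp only [beq_iff_eq] at h
    rw [rcoll_sound w h2 hw ha, rcoll_sound w h2 hw hb, h]
  · exact absurd h (by simp)

end Cfsg.Agent.TwistE6Mult14Root
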