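import Cfsg.Agent.Lib.TwistE6Mult14Geom
import Cfsg.Agent.Lib.TwistE6Mult14Check2
import Cfsg.Agent.Lib.CentralClass14
import Cfsg.Agent.Lib.StemSL2Kill9
import Cfsg.Agent.Lib.StemTwistNB67

/-!
Kernels of stem extensions of the twisted E6 group over the field with four elements: at two every class on
the unipotent subgroup compatible with the fundamental classes is a combination of two classes of order
two; the part prime to two lies in the lifted tori and has order at most three.
-/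

set_option autoImplicit false
set_option linter.unusedSectionVars false
set_option maxRecDepth 100000

namespace Cfsg.Agent.TwistE6Mult14Upper

open Cfsg.Lie Cfsg.Agent Cfsg.Agent.TwistE6MultData14 Cfsg.Agent.TwistE6Mult14Check
  Cfsg.Agent.TwistE6Mult14Check2 Cfsg.Agent.TwistE6Mult14Geom
open Cfsg.Agent.CenSplitStable50 (P P_cons P_nil P_map)
open Cfsg.Agent.PcQuad14 Subgroup

universe u v

variable {K : Type u} [Field K] (w : K)
variable [Fintype K] (hK : Fintype.card K = 2 ^ 2) (hw : w ^ 2 = w + 1)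
variable (f : K →+* K) (hf : ∀ t, f t = t ^ 2)
variable {Γ : Type v} [Group Γ] [Finite Γ] {σ : Γ →* ↥(GG K)} (hσ : Cfsg.IsStemExtension σ)

include hK hw hf hσ in
/-- two elements of the kernel determine the characters modulo four -/
theorem char_facts : ∃ a : ℕ → σ.ker, ∀ χ : σ.ker →* Multiplicative (ZMod 4),
    (∀ j < 2, χ (a j) * χ (a j) = 1) ∧ ((∀ j < 2, χ (a j) = 1) → χ = 1) := by
  classical
  choose L hL using fun i => hσ.1 (X w i)
  choose M hM using fun k => hσ.1 (Nr w k)
  have hσP : ∀ l, σ (P L l) = P (X w) l := fun l => by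
    rw [P_map]; exact congrArg (fun g => P g l) (funext hL)
  have hd : ∀ j, ∃ z : σ.ker,
      (j < 666 → P L (rels.getD j ([], [])).1 = P L (rels.getD j ([], [])).2 * (z : Γ)) ∧
      (666 ≤ j → (j - 666) / 36 < 4 → okk ((j - 666) / 36) ((j - 666) % 36) = true →
        M ((j - 666) / 36) * L ((j - 666) % 36) * (M ((j - 666) / 36))⁻¹ =
          L (sgd ((j - 666) / 36) ((j - 666) % 36)) * (z : Γ)) := by
    intro j
    by_cases h : j < 666
    · obtain ⟨z, hz, he⟩ := StemBasic.exists_ker_mul (σ := σ)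
        (show σ (P L (rels.getD j ([], [])).1) = σ (P L (rels.getD j ([], [])).2) by
          rw [hσP, hσP, relsX w hK hw f hf h])
      exact ⟨⟨z, hz⟩, fun _ => he, fun h' => absurd h (by omega)⟩
    · by_cases h' : (j - 666) / 36 < 4 ∧ okk ((j - 666) / 36) ((j - 666) % 36) = true
      · obtain ⟨z, hz, he⟩ := StemBasic.exists_ker_mul (σ := σ)
          (show σ (M ((j - 666) / 36) * L ((j - 666) % 36) * (M ((j - 666) / 36))⁻¹) =
              σ (L (sgd ((j - 666) / 36) ((j - 666) % 36))) by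
            rw [map_mul, map_mul, map_inv, hM, hL, hL, Nr_conj w hK hw f hf (by omega) h'.2,
              (img_single h'.1 h'.2).1, P_cons, P_nil, mul_one]
            rfl)
        exact ⟨⟨z, hz⟩, fun h'' => absurd h'' h, fun _ _ _ => he⟩
      · exact ⟨1, fun h'' => absurd h'' h, fun _ a b => absurd ⟨a, b⟩ h'⟩
  choose d hd1 hd2 using hd
  refine ⟨fun i => ((List.range 810).map fun j => d j ^ (dig (oms.getD i (0, 0)) j).val).prod, fun χ => ?_⟩
  let v : ℕ → ZMod 4 := fun j => Multiplicative.toAdd (χ (d j))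
  have ha : ∀ i, Multiplicative.toAdd
      (χ ((List.range 810).map fun j => d j ^ (dig (oms.getD i (0, 0)) j).val).prod) =
      ev 810 v (oms.getD i (0, 0)) := by
    intro i
    rw [ev]
    generalize oms.getD i (0, 0) = om
    have : ∀ n, Multiplicative.toAdd (χ ((List.range n).map fun j => d j ^ (dig om j).val).prod) =
        ∑ j ∈ Finset.range n, dig om j * v j := by
      intro n
      induction n with
      | zero => simp
      | succ n ih =>
        rw [List.range_succ, List.map_append, List.prod_append, map_mul, toAdd_mul, ih,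
          Finset.sum_range_succ]
        congr 1
        simp only [List.map_cons, List.map_nil, List.prod_cons, List.prod_nil, mul_one, map_pow,
          toAdd_pow, nsmul_eq_mul, ZMod.natCast_zmod_val]
        rfl
    exact this 810
  have hc := hσ.2.1
  have hrelE : ∀ r < rels.length,
      E χ (P L (rels.getD r ([], [])).1) (P L (rels.getD r ([], [])).2) (v r) := fun r hr =>
    ⟨d r, hd1 r (show r < 666 from rels_len ▸ hr), rfl⟩
  have hN : ∀ k < 4, ∀ i, okk k i = true →
      cvar k i < 810 ∧ E χ (M k * L i * (M k)⁻¹) (L (sgd k i)) (v (cvar k i)) := by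
    intro k hk i hi
    have hlt : i < 36 := by
      simp only [okk, Bool.and_eq_true, decide_eq_true_eq] at hi; exact hi.1
    have e1 : (cvar k i - 666) / 36 = k := by unfold cvar; omega
    have e2 : (cvar k i - 666) % 36 = i := by unfold cvar; omega
    refine ⟨by unfold cvar; omega, d (cvar k i), ?_, rfl⟩
    have := hd2 (cvar k i) (by unfold cvar; omega) (by rw [e1]; exact hk) (by rw [e1, e2]; exact hi)
    rwa [e1, e2] at this
  have hV : rels.length ≤ 810 := by rw [rels_len]; norm_num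
  have hforms : ∀ g ∈ forms, ev 810 v g = 0 := by
    intro g hg
    obtain ⟨j, hj, rfl⟩ := List.getElem_of_mem hg
    have h := eqs_check (show j < 642 from len_check.2 ▸ hj)
    simp only [eqOK, Bool.and_eq_true, decide_eq_true_eq, beq_iff_eq] at h
    obtain ⟨hr, he⟩ := h
    rw [List.getD_eq_getElem _ (0, 0) hj] at he
    generalize eqs.getD j (0, 0, 0) = e at hr he
    simp only [formOf] at he
    split_ifs at he with h0 hk
    · exact formA_zero L rels 810 v hc hV hrelE (rels_len ▸ hr) he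
    · exact formB_zero L rels 810 v hc hV hrelE (M e.2.1) (hN e.2.1 hk) (rels_len ▸ hr) he
  have hlin : ∀ c, ev 810 v (lincomb c forms) = 0 := ev_lincomb 810 v forms hforms
  constructor
  · intro j hj
    have h2 : ev 810 v (oms.getD j (0, 0)) + ev 810 v (oms.getD j (0, 0)) = 0 := by
      rw [← ev_add, twice_check j hj]; exact hlin _
    apply Multiplicative.toAdd.injective
    rw [toAdd_mul, toAdd_one, ha, h2]
  intro hone
  have hw' : ∀ j < 2, ev 810 v (oms.getD j (0, 0)) = 0 := fun j hj => by rw [← ha, hone j hj, toAdd_one]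
  have hrel0 : ∀ r < 666, E χ (P L (rels.getD r ([], [])).1) (P L (rels.getD r ([], [])).2)
      (((rels.getD r ([], [])).1.map fun i => ev 810 v (lamOf i)).sum -
        ((rels.getD r ([], [])).2.map fun i => ev 810 v (lamOf i)).sum) := by
    intro r hr
    have h := comb_check hr
    simp only [combOK, beq_iff_eq] at h
    have h3 := hlin (combos.getD r 0)
    rw [← h, ev_add, ev_neg, ev_add, ev_add, ev_unit v (show r < 810 by omega)] at h3
    have hcls : ∀ j < 2, ev 810 v (clsTerm j r) = 0 := by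
      intro j hj
      rw [clsTerm]; split
      · exact hw' j hj
      · exact ev_zero _ _
    rw [hcls 0 (by norm_num), hcls 1 (by norm_num), add_zero, add_zero, lamDiff, ev_add, ev_neg, ev_sum,
      ev_sum, List.map_map, List.map_map, ← sub_eq_add_neg, ← sub_eq_add_neg, sub_eq_zero] at h3
    have h4 := hrelE r (rels_len.symm ▸ hr)
    rw [h3] at h4
    exact h4
  obtain ⟨φ, hφ⟩ := CentralClass14.extend_of_relations (G := ↥(GG K)) hc χ
    ⟨36, 0, rels, [], [], [], [], []⟩ rels_shape (X w) (card_UU w hK hw f hf).ge L hL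
    (fun i => ev 810 v (lamOf i)) (fun r hr => hrel0 r (rels_len ▸ hr))
  exact CentralClass14.trivial_of_extend hσ _ (index_UU w hK hw f hf) χ φ hφ

/-- the elements of two-power order in the kernel -/
def P2 (σ : Γ →* ↥(GG K)) (hc : σ.ker ≤ center Γ) : Subgroup Γ where
  carrier := {x | σ x = 1 ∧ ∃ n : ℕ, x ^ 2 ^ n = 1}
  one_mem' := ⟨map_one σ, 0, by simp⟩
  mul_mem' := by
    rintro x y ⟨hx, n, hn⟩ ⟨hy, m, hm⟩
    refine ⟨by rw [map_mul, hx, hy, one_mul], n + m, ?_⟩
    rw [(show Commute x y from StemBasic.ker_comm hc hy x).mul_pow,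
      pow_add, pow_mul, hn, one_pow, one_mul, mul_comm, pow_mul, hm, one_pow]
  inv_mem' := by
    rintro x ⟨hx, n, hn⟩
    exact ⟨by rw [map_inv, hx, inv_one], n, by rw [inv_pow, hn, inv_one]⟩

include hK hw hf hσ in
/-- away from two the kernel has order at most three -/
theorem odd_part : (∀ z : σ.ker, ∃ n : ℕ, z ^ (3 * 2 ^ n) = 1) ∧
    ∀ z z' : σ.ker, z ^ 3 = 1 → z' ^ 3 = 1 → z ≠ 1 → z' ∈ zpowers z := by
  classical
  have hc := hσ.2.1
  set N := P2 σ hc
  have : N.Normal := ⟨fun x hx g => by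
    rw [mem_center_iff.1 (hc (MonoidHom.mem_ker.2 hx.1)) g, mul_inv_cancel_right]; exact hx⟩
  let τ : Γ ⧸ N →* ↥(GG K) := QuotientGroup.lift N σ fun x hx => hx.1
  have hker : ∀ q, τ q = 1 → ∃ x, σ x = 1 ∧ QuotientGroup.mk x = q := by
    intro q hq
    obtain ⟨x, rfl⟩ := QuotientGroup.mk_surjective q
    exact ⟨x, hq, rfl⟩
  have hs : Function.Surjective τ := fun g => by
    obtain ⟨x, hx⟩ := hσ.1 g
    exact ⟨QuotientGroup.mk x, hx⟩
  have hτc : τ.ker ≤ center (Γ ⧸ N) := fun q hq => by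
    obtain ⟨x, hx, rfl⟩ := hker q hq
    refine mem_center_iff.2 fun y => ?_
    obtain ⟨y, rfl⟩ := QuotientGroup.mk_surjective y
    rw [← QuotientGroup.mk_mul, ← QuotientGroup.mk_mul, StemBasic.ker_comm hc hx y]
  have hτ : Cfsg.IsStemExtension τ := ⟨hs, hτc, fun q hq => by
    obtain ⟨x, hx, rfl⟩ := hker q hq
    have h := Subgroup.mem_map_of_mem (QuotientGroup.mk' N) (hσ.2.2 (MonoidHom.mem_ker.2 hx))
    rw [_root_.commutator_def, Subgroup.map_commutator] at h
    exact Subgroup.commutator_mono le_top le_top h⟩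
  haveI : Fact (Nat.Prime 2) := ⟨Nat.prime_two⟩
  haveI : CharP K 2 := CharTwo.of_one_ne_zero_of_two_eq_zero one_ne_zero (two_zero hK)
  have hZ : Nat.Coprime (Nat.card τ.ker) 2 := by
    rw [Nat.coprime_comm, Nat.prime_two.coprime_iff_not_dvd]
    intro hd
    obtain ⟨⟨q, hq⟩, ho⟩ := exists_prime_orderOf_dvd_card' 2 hd
    obtain ⟨x, hx, rfl⟩ := hker q hq
    have h2 : (⟨QuotientGroup.mk x, hq⟩ : τ.ker) ^ 2 = 1 := ho ▸ pow_orderOf_eq_one _
    have h3 : ((x ^ 2 : Γ) : Γ ⧸ N) = 1 := by simpa using congrArg Subtype.val h2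
    obtain ⟨-, n, hn⟩ := (QuotientGroup.eq_one_iff _).1 h3
    have h4 : (QuotientGroup.mk x : Γ ⧸ N) = 1 :=
      (QuotientGroup.eq_one_iff _).2 ⟨hx, n + 1, by rw [pow_succ', pow_mul, hn]⟩
    rw [show (⟨QuotientGroup.mk x, hq⟩ : τ.ker) = 1 from Subtype.ext h4, orderOf_one] at ho
    omega
  haveI : CharP (TwistAutE6.L0 f) 2 :=
    RingHom.charP (TwistAutE6.L0 f).subtype Subtype.coe_injective 2
  letI : Fintype (TwistAutE6.L0 f) := Fintype.ofFinite _
  have kL : ∀ J, StemBasic.KerFree τ (E6StemClasses67.LG f hf J) := by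
    rintro (j | j)
    · exact StemSL2Kill9.kerFree_range 2 hs hτc hZ (E6StemClasses67.cls_s f hf hK j).injective
    · exact StemSL2Kill9.kerFree_range 2 hs hτc hZ (E6StemClasses67.cls_p f hf hK j).injective
  have h := StemTwistNB67.card_ker_dvd (E6StemClasses67.rankN f hf hK (p := 2)) hτ hZ kL
  rw [E6StemClasses67.card_prod f hf hK] at h
  have hH : Nat.card ↥(E6StemClasses67.H1 K 2) = Nat.card ↥(chevE6.diagonalSubgroup K ⊓ twistedE6 K 2) :=
    Nat.card_congr ⟨fun x => ⟨x.1.1, x.2, x.1.2⟩, fun x => ⟨⟨x.1, x.2.2⟩, x.2.1⟩, fun _ => rfl, fun _ => rfl⟩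
  have hc1 := TwistedE6.card_H1 f hf hK
  rw [hH] at h
  rw [show Nat.gcd 3 (2 + 1) = 3 from rfl, show (2 - 1) ^ 4 * (2 + 1) ^ 2 = 9 from rfl] at hc1
  have hH3 : Nat.card ↥(chevE6.diagonalSubgroup K ⊓ twistedE6 K 2) = 3 := by omega
  rw [hH3, show (2 - 1) ^ 2 * (2 ^ 2 - 1) ^ 2 = 3 * 3 from rfl] at h
  have hd3 : Nat.card τ.ker ∣ 3 := (Nat.mul_dvd_mul_iff_right (by norm_num : 0 < 3)).1 h
  let e : σ.ker →* τ.ker :=
    ((QuotientGroup.mk' N).comp σ.ker.subtype).codRestrict τ.ker fun z => z.2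
  have he : ∀ z, e z = 1 → ∃ n : ℕ, z ^ 2 ^ n = 1 := by
    intro z hz
    have h1 : ((z : Γ) : Γ ⧸ N) = 1 := congrArg Subtype.val hz
    obtain ⟨-, n, hn⟩ := (QuotientGroup.eq_one_iff _).1 h1
    exact ⟨n, Subtype.ext (by rw [Subgroup.coe_pow, hn, Subgroup.coe_one])⟩
  constructor
  · intro z
    obtain ⟨n, hn⟩ := he (z ^ 3) (by
      rw [map_pow]
      exact orderOf_dvd_iff_pow_eq_one.1 ((orderOf_dvd_natCard (e z)).trans hd3))
    exact ⟨n, by rw [pow_mul, hn]⟩
  · intro z z' hz hz' hne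
    have inj : ∀ a : σ.ker, a ^ 3 = 1 → e a = 1 → a = 1 := by
      intro a ha h1
      obtain ⟨n, hn⟩ := he a h1
      have h3 := orderOf_dvd_of_pow_eq_one ha
      have h2 := orderOf_dvd_of_pow_eq_one hn
      exact orderOf_eq_one_iff.1 (Nat.eq_one_of_dvd_coprimes
        (Nat.Coprime.pow_right n (by norm_num : Nat.Coprime 3 2)) h3 h2)
    have hne' : e z ≠ 1 := fun h1 => hne (inj z hz h1)
    haveI : Fact (Nat.Prime 3) := ⟨Nat.prime_three⟩
    have hcard : Nat.card τ.ker = 3 := ((Nat.dvd_prime Nat.prime_three).1 hd3).resolve_left fun h1 => by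
      haveI := (Nat.card_eq_one_iff_unique.1 h1).1
      exact hne' (Subsingleton.elim _ _)
    obtain ⟨i, hi⟩ := mem_zpowers_iff.1
      ((zpowers_eq_top_of_prime_card hcard hne') ▸ mem_top (e z'))
    have hcomm : ∀ a b : σ.ker, Commute a b := fun a b =>
      Subtype.ext (StemBasic.ker_comm hc (MonoidHom.mem_ker.1 b.2) a)
    refine mem_zpowers_iff.2 ⟨i, inv_mul_eq_one.1 (inj ((z ^ i)⁻¹ * z') ?_ ?_)⟩
    · rw [((hcomm _ _)).mul_pow, hz', mul_one, inv_pow, ← zpow_natCast, ← zpow_mul, mul_comm, zpow_mul,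
        zpow_natCast, hz, one_zpow, inv_one]
    · rw [map_mul, map_inv, map_zpow, hi, inv_mul_cancel]

include hK hw hf hσ in
/-- the kernel is an image of the group of type (3, 2, 2) -/
theorem exists_surj : ∃ π : Multiplicative (ZMod 3 × ZMod 2 × ZMod 2) →* σ.ker, Function.Surjective π := by
  classical
  letI : CommGroup σ.ker :=
    { (inferInstance : Group σ.ker) with
      mul_comm := fun a b => Subtype.ext (mem_center_iff.1 (hσ.2.1 b.2) a) }
  obtain ⟨a, ha⟩ := char_facts w hK hw f hf hσ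
  obtain ⟨htor, hthree⟩ := odd_part w hK hw f hf hσ
  -- exponent six
  have h6 : ∀ z : σ.ker, z ^ 6 = 1 := by
    obtain ⟨ι, _, n, hn, ⟨e⟩⟩ := CommGroup.equiv_prod_multiplicative_zmod_of_finite σ.ker
    suffices h : ∀ i, n i ∣ 6 by
      intro z
      apply e.injective
      rw [map_pow, map_one]
      funext i
      apply Multiplicative.toAdd.injective
      rw [Pi.pow_apply, toAdd_pow, Pi.one_apply, toAdd_one, nsmul_eq_mul]
      obtain ⟨c, hc⟩ := h i
      rw [show ((6 : ℕ) : ZMod (n i)) = 0 by rw [hc, Nat.cast_mul, ZMod.natCast_self, zero_mul], zero_mul]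
    intro i
    set g := e.symm (Pi.mulSingle i (Multiplicative.ofAdd 1)) with hg
    obtain ⟨k, hk⟩ := htor g
    have hdvd : n i ∣ 3 * 2 ^ k := by
      have h := congrArg (fun z => Multiplicative.toAdd (e z i)) hk
      simp only [map_pow, map_one, Pi.pow_apply, toAdd_pow, Pi.one_apply, toAdd_one, hg,
        MulEquiv.apply_symm_apply, Pi.mulSingle_eq_same, toAdd_ofAdd, nsmul_eq_mul, mul_one] at h
      exact (ZMod.natCast_eq_zero_iff ..).1 h
    by_cases h4 : 4 ∣ n i
    · exfalso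
      let pr : σ.ker →* Multiplicative (ZMod 4) :=
        (AddMonoidHom.toMultiplicative (ZMod.castHom h4 (ZMod 4)).toAddMonoidHom).comp
          ((Pi.evalMonoidHom _ i).comp e.toMonoidHom)
      obtain ⟨h1, -⟩ := ha pr
      have h2 := (ha (pr ^ 2)).2 fun j hj => by rw [MonoidHom.pow_apply, sq]; exact h1 j hj
      have h3 := DFunLike.congr_fun h2 g
      have h5 : pr g = Multiplicative.ofAdd 1 := by
        show Multiplicative.ofAdd (ZMod.castHom h4 (ZMod 4) (Multiplicative.toAdd (e g i))) = _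
        rw [hg, e.apply_symm_apply, Pi.mulSingle_eq_same, toAdd_ofAdd, map_one]
      rw [MonoidHom.pow_apply, h5, MonoidHom.one_apply] at h3
      exact absurd h3 (by decide)
    · obtain ⟨d₁, d₂, hd₁, hd₂, hd⟩ := exists_dvd_and_dvd_of_dvd_mul hdvd
      obtain ⟨j, -, rfl⟩ := (Nat.dvd_prime_pow Nat.prime_two).1 hd₂
      have hj : j ≤ 1 := by
        by_contra hj
        exact h4 (hd ▸ Dvd.dvd.mul_left (show 4 ∣ 2 ^ j from pow_dvd_pow 2 (show 2 ≤ j by omega)) d₁)
      rw [hd]
      exact mul_dvd_mul hd₁ (pow_dvd_pow 2 hj)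
  -- an element of order three
  obtain ⟨c, hc3, hcgen⟩ : ∃ c : σ.ker, c ^ 3 = 1 ∧ ∀ z : σ.ker, z ^ 3 = 1 → z ∈ zpowers c := by
    by_cases h : ∃ c : σ.ker, c ^ 3 = 1 ∧ c ≠ 1
    · obtain ⟨c, hc, hne⟩ := h
      exact ⟨c, hc, fun z hz => hthree c z hc hz hne⟩
    · push Not at h
      exact ⟨1, one_pow _, fun z hz => by rw [h z hz]; exact one_mem _⟩
  set H := closure {(a 0) ^ 3, (a 1) ^ 3, c}
  have htop : H = ⊤ := by
    by_contra hne
    obtain ⟨M, hM, hle⟩ := (eq_top_or_exists_le_coatom H).resolve_left hne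
    have h3M : ∀ z : σ.ker, z ^ 3 = 1 → z ∈ M := fun z hz =>
      (zpowers_le.2 (hle (subset_closure (by simp))) : zpowers c ≤ M) (hcgen z hz)
    have h2M : ∀ z : σ.ker, z ^ 2 ∈ M := fun z => h3M _ (by rw [← pow_mul]; exact h6 z)
    obtain ⟨y, hy⟩ : ∃ y, y ∉ M := by
      by_contra hy; push Not at hy
      exact hM.1 (eq_top_iff.2 fun z _ => hy z)
    have hall : ∀ q : σ.ker ⧸ M, q ∈ zpowers (y : σ.ker ⧸ M) := by
      intro q
      obtain ⟨z, rfl⟩ := QuotientGroup.mk_surjective q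
      have h := hM.2 (M ⊔ zpowers y) (lt_of_le_of_ne le_sup_left fun e =>
        hy (e ▸ mem_sup_right (mem_zpowers y)))
      have hz : z ∈ M ⊔ zpowers y := h ▸ mem_top z
      obtain ⟨m, hm, p, hp, rfl⟩ := mem_sup.1 hz
      obtain ⟨k, rfl⟩ := mem_zpowers_iff.1 hp
      exact mem_zpowers_iff.2 ⟨k, by
        rw [QuotientGroup.mk_mul, (QuotientGroup.eq_one_iff m).2 hm, one_mul]; rfl⟩
    have hy2 : orderOf (y : σ.ker ⧸ M) = 2 := by
      haveI : Fact (Nat.Prime 2) := ⟨Nat.prime_two⟩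
      exact orderOf_eq_prime (by rw [← QuotientGroup.mk_pow]; exact (QuotientGroup.eq_one_iff _).2 (h2M y))
        fun e => hy ((QuotientGroup.eq_one_iff y).1 e)
    let χ := (monoidHomOfForallMemZpowers hall (g' := Multiplicative.ofAdd (2 : ZMod 4))
      (by rw [hy2]; exact orderOf_dvd_of_pow_eq_one (by decide))).comp (QuotientGroup.mk' M)
    have haM : ∀ j < 2, a j ∈ M := by
      intro j hj
      have h3 : (a j) ^ 3 ∈ M := hle (subset_closure (by interval_cases j <;> simp))
      have h := mul_mem h3 (inv_mem (h2M (a j)))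
      rwa [show (a j) ^ 3 = a j * (a j) ^ 2 from pow_succ' _ 2, mul_inv_cancel_right] at h
    have h := (ha χ).2 fun j hj => by
      rw [MonoidHom.comp_apply, QuotientGroup.mk'_apply, (QuotientGroup.eq_one_iff _).2 (haM j hj), map_one]
    have := DFunLike.congr_fun h y
    rw [MonoidHom.comp_apply, QuotientGroup.mk'_apply, MonoidHom.one_apply,
      monoidHomOfForallMemZpowers_apply_gen] at this
    exact absurd this (by decide)
  have hh : ∀ (m : ℕ) (g : σ.ker), g ^ m = 1 →
      ∃ φ : Multiplicative (ZMod m) →* σ.ker, φ (Multiplicative.ofAdd 1) = g := by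
    intro m g hg
    refine ⟨AddMonoidHom.toMultiplicativeLeft (ZMod.lift m ⟨zmultiplesHom _ (Additive.ofMul g), ?_⟩), ?_⟩
    · rw [zmultiplesHom_apply, natCast_zsmul, ← ofMul_pow, hg, ofMul_one]
    · show Additive.toMul (ZMod.lift m _ (1 : ZMod m)) = g
      rw [← Int.cast_one, ZMod.lift_coe]
      simp
  obtain ⟨φc, hφc⟩ := hh 3 c hc3
  obtain ⟨φa, hφa⟩ := hh 2 ((a 0) ^ 3) (by rw [← pow_mul]; exact h6 _)
  obtain ⟨φb, hφb⟩ := hh 2 ((a 1) ^ 3) (by rw [← pow_mul]; exact h6 _)
  let pc : Multiplicative (ZMod 3 × ZMod 2 × ZMod 2) →* σ.ker :=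
    φc.comp (AddMonoidHom.toMultiplicative (AddMonoidHom.fst _ _)) *
      φa.comp (AddMonoidHom.toMultiplicative ((AddMonoidHom.fst _ _).comp (AddMonoidHom.snd _ _))) *
      φb.comp (AddMonoidHom.toMultiplicative ((AddMonoidHom.snd _ _).comp (AddMonoidHom.snd _ _)))
  refine ⟨pc, MonoidHom.range_eq_top.1 (eq_top_iff.2 ?_)⟩
  rw [← htop, closure_le]
  rintro z (rfl | rfl | rfl)
  · refine ⟨Multiplicative.ofAdd (0, 1, 0), ?_⟩
    show φc (Multiplicative.ofAdd 0) * φa (Multiplicative.ofAdd 1) * φb (Multiplicative.ofAdd 0) = _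
    simp only [ofAdd_zero, map_one, hφa, one_mul, mul_one]
  · refine ⟨Multiplicative.ofAdd (0, 0, 1), ?_⟩
    show φc (Multiplicative.ofAdd 0) * φa (Multiplicative.ofAdd 0) * φb (Multiplicative.ofAdd 1) = _
    simp only [ofAdd_zero, map_one, hφb, one_mul]
  · refine ⟨Multiplicative.ofAdd (1, 0, 0), ?_⟩
    show φc (Multiplicative.ofAdd 1) * φa (Multiplicative.ofAdd 0) * φb (Multiplicative.ofAdd 0) = _
    simp only [ofAdd_zero, map_one, hφc, mul_one]

end Cfsg.Agent.TwistE6Mult14Upper
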