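import Cfsg.Agent.Lib.PcConsist14

/-!
Tables for the two double extensions of the unipotent subgroup of the twisted E6 group over the field with
four elements: the right sides of the relations, row by row, the last letter being the central one.
-/

set_option autoImplicit false

namespace Cfsg.Agent.TwistE6MultData14

open Cfsg.Agent.PcConsist14 (PcTree)

/-- the right sides for a cocycle -/
def rowsZ0 : PcTree :=
  (.node 351
  (.node 175
  (.node 87
  (.node 43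
  (.node 21
  (.node 10
  (.node 5
  (.node 2 (.node 1 (.leaf []) (.leaf [0, 1, 6])) (.node 3 (.leaf []) (.node 4 (.leaf [0, 2]) (.leaf [1, 2]))))
  (.node 7 (.node 6 (.leaf []) (.leaf [0, 3])) (.node 8 (.leaf [1, 3]) (.node 9 (.leaf [2, 3]) (.leaf [])))))
  (.node 15
  (.node 12 (.node 11 (.leaf [0, 4, 9, 11]) (.leaf [1, 4])) (.node 13 (.leaf [2, 4, 8, 36]) (.node 14 (.leaf [3, 4, 7, 8]) (.leaf []))))
  (.node 18 (.node 16 (.leaf [0, 5, 10, 11]) (.node 17 (.leaf [1, 5]) (.leaf [2, 5, 7, 8]))) (.node 19 (.leaf [3, 5, 7]) (.node 20 (.leaf [4, 5]) (.leaf []))))))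
  (.node 32
  (.node 26
  (.node 23 (.node 22 (.leaf [0, 6]) (.leaf [1, 6])) (.node 24 (.leaf [2, 6]) (.node 25 (.leaf [3, 6]) (.leaf [4, 6, 14, 16]))))
  (.node 29 (.node 27 (.leaf [5, 6, 15, 16]) (.node 28 (.leaf []) (.leaf [0, 7, 12, 22]))) (.node 30 (.leaf [1, 7]) (.node 31 (.leaf [2, 7]) (.leaf [3, 7])))))
  (.node 37
  (.node 34 (.node 33 (.leaf [4, 7]) (.leaf [5, 7])) (.node 35 (.leaf [6, 7, 19, 25]) (.node 36 (.leaf []) (.leaf [0, 8, 13, 22]))))
  (.node 40 (.node 38 (.leaf [1, 8]) (.node 39 (.leaf [2, 8]) (.leaf [3, 8]))) (.node 41 (.leaf [4, 8]) (.node 42 (.leaf [5, 8]) (.leaf [6, 8, 20, 25])))))))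
  (.node 65
  (.node 54
  (.node 48
  (.node 45 (.node 44 (.leaf [7, 8]) (.leaf [])) (.node 46 (.leaf [0, 9]) (.node 47 (.leaf [1, 9, 14, 21]) (.leaf [2, 9, 13]))))
  (.node 51 (.node 49 (.leaf [3, 9, 12, 13, 36]) (.node 50 (.leaf [4, 9]) (.leaf [5, 9, 11]))) (.node 52 (.leaf [6, 9]) (.node 53 (.leaf [7, 9, 17, 18]) (.leaf [8, 9, 17])))))
  (.node 59
  (.node 56 (.node 55 (.leaf []) (.leaf [0, 10])) (.node 57 (.leaf [1, 10, 15, 21]) (.node 58 (.leaf [2, 10, 12, 13, 36]) (.leaf [3, 10, 12]))))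
  (.node 62 (.node 60 (.leaf [4, 10, 11]) (.node 61 (.leaf [5, 10]) (.leaf [6, 10]))) (.node 63 (.leaf [7, 10, 18, 36]) (.node 64 (.leaf [8, 10, 17, 18]) (.leaf [9, 10]))))))
  (.node 76
  (.node 70
  (.node 67 (.node 66 (.leaf []) (.leaf [0, 11])) (.node 68 (.leaf [1, 11, 16]) (.node 69 (.leaf [2, 11, 17, 22]) (.leaf [3, 11, 18, 22, 36]))))
  (.node 73 (.node 71 (.leaf [4, 11]) (.node 72 (.leaf [5, 11]) (.leaf [6, 11, 21]))) (.node 74 (.leaf [7, 11]) (.node 75 (.leaf [8, 11]) (.leaf [9, 11])))))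
  (.node 81
  (.node 78 (.node 77 (.leaf [10, 11]) (.leaf [])) (.node 79 (.leaf [0, 12]) (.node 80 (.leaf [1, 12, 19, 28]) (.leaf [2, 12]))))
  (.node 84 (.node 82 (.leaf [3, 12]) (.node 83 (.leaf [4, 12, 17, 18]) (.leaf [5, 12, 18, 36]))) (.node 85 (.leaf [6, 12]) (.node 86 (.leaf [7, 12]) (.leaf [8, 12, 22]))))))))
  (.node 131
  (.node 109
  (.node 98
  (.node 92
  (.node 89 (.node 88 (.leaf [9, 12]) (.leaf [10, 12])) (.node 90 (.leaf [11, 12]) (.node 91 (.leaf []) (.leaf [0, 13]))))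
  (.node 95 (.node 93 (.leaf [1, 13, 20, 28]) (.node 94 (.leaf [2, 13]) (.leaf [3, 13]))) (.node 96 (.leaf [4, 13, 17]) (.node 97 (.leaf [5, 13, 17, 18]) (.leaf [6, 13])))))
  (.node 103
  (.node 100 (.node 99 (.leaf [7, 13, 22]) (.leaf [8, 13])) (.node 101 (.leaf [9, 13]) (.node 102 (.leaf [10, 13]) (.leaf [11, 13]))))
  (.node 106 (.node 104 (.leaf [12, 13]) (.node 105 (.leaf []) (.leaf [0, 14]))) (.node 107 (.leaf [1, 14]) (.node 108 (.leaf [2, 14, 20]) (.leaf [3, 14, 19, 20, 36]))))))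
  (.node 120
  (.node 114
  (.node 111 (.node 110 (.leaf [4, 14]) (.leaf [5, 14, 16])) (.node 112 (.leaf [6, 14]) (.node 113 (.leaf [7, 14, 23, 24]) (.leaf [8, 14, 23]))))
  (.node 117 (.node 115 (.leaf [9, 14]) (.node 116 (.leaf [10, 14, 21]) (.leaf [11, 14]))) (.node 118 (.leaf [12, 14, 26, 27]) (.node 119 (.leaf [13, 14, 26]) (.leaf [])))))
  (.node 125
  (.node 122 (.node 121 (.leaf [0, 15]) (.leaf [1, 15])) (.node 123 (.leaf [2, 15, 19, 20, 36]) (.node 124 (.leaf [3, 15, 19]) (.leaf [4, 15, 16]))))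
  (.node 128 (.node 126 (.leaf [5, 15]) (.node 127 (.leaf [6, 15]) (.leaf [7, 15, 24, 36]))) (.node 129 (.leaf [8, 15, 23, 24]) (.node 130 (.leaf [9, 15, 21]) (.leaf [10, 15])))))))
  (.node 153
  (.node 142
  (.node 136
  (.node 133 (.node 132 (.leaf [11, 15]) (.leaf [12, 15, 27, 36])) (.node 134 (.leaf [13, 15, 26, 27]) (.node 135 (.leaf [14, 15]) (.leaf []))))
  (.node 139 (.node 137 (.leaf [0, 16, 21]) (.node 138 (.leaf [1, 16]) (.leaf [2, 16, 23, 25]))) (.node 140 (.leaf [3, 16, 24, 25, 36]) (.node 141 (.leaf [4, 16]) (.leaf [5, 16])))))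
  (.node 147
  (.node 144 (.node 143 (.leaf [6, 16]) (.leaf [7, 16])) (.node 145 (.leaf [8, 16]) (.node 146 (.leaf [9, 16]) (.leaf [10, 16]))))
  (.node 150 (.node 148 (.leaf [11, 16]) (.node 149 (.leaf [12, 16, 29, 34]) (.leaf [13, 16, 30, 34]))) (.node 151 (.leaf [14, 16]) (.node 152 (.leaf [15, 16]) (.leaf []))))))
  (.node 164
  (.node 158
  (.node 155 (.node 154 (.leaf [0, 17]) (.leaf [1, 17, 23, 33])) (.node 156 (.leaf [2, 17]) (.node 157 (.leaf [3, 17, 22]) (.leaf [4, 17]))))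
  (.node 161 (.node 159 (.leaf [5, 17]) (.node 160 (.leaf [6, 17, 26, 34]) (.leaf [7, 17]))) (.node 162 (.leaf [8, 17]) (.node 163 (.leaf [9, 17]) (.leaf [10, 17])))))
  (.node 169
  (.node 166 (.node 165 (.leaf [11, 17]) (.leaf [12, 17])) (.node 167 (.leaf [13, 17]) (.node 168 (.leaf [14, 17, 30]) (.leaf [15, 17, 29, 30, 36]))))
  (.node 172 (.node 170 (.leaf [16, 17]) (.node 171 (.leaf []) (.leaf [0, 18]))) (.node 173 (.leaf [1, 18, 24, 33, 36]) (.node 174 (.leaf [2, 18, 22]) (.leaf [3, 18])))))))))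
  (.node 263
  (.node 219
  (.node 197
  (.node 186
  (.node 180
  (.node 177 (.node 176 (.leaf [4, 18]) (.leaf [5, 18])) (.node 178 (.leaf [6, 18, 27, 34, 36]) (.node 179 (.leaf [7, 18]) (.leaf [8, 18]))))
  (.node 183 (.node 181 (.leaf [9, 18]) (.node 182 (.leaf [10, 18]) (.leaf [11, 18]))) (.node 184 (.leaf [12, 18]) (.node 185 (.leaf [13, 18]) (.leaf [14, 18, 29, 30, 36])))))
  (.node 191
  (.node 188 (.node 187 (.leaf [15, 18, 29]) (.leaf [16, 18])) (.node 189 (.leaf [17, 18]) (.node 190 (.leaf []) (.leaf [0, 19]))))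
  (.node 194 (.node 192 (.leaf [1, 19]) (.node 193 (.leaf [2, 19]) (.leaf [3, 19]))) (.node 195 (.leaf [4, 19, 23, 24]) (.node 196 (.leaf [5, 19, 24, 36]) (.leaf [6, 19]))))))
  (.node 208
  (.node 202
  (.node 199 (.node 198 (.leaf [7, 19]) (.leaf [8, 19, 25])) (.node 200 (.leaf [9, 19, 26, 27]) (.node 201 (.leaf [10, 19, 27, 36]) (.leaf [11, 19, 29, 35]))))
  (.node 205 (.node 203 (.leaf [12, 19]) (.node 204 (.leaf [13, 19, 28]) (.leaf [14, 19]))) (.node 206 (.leaf [15, 19]) (.node 207 (.leaf [16, 19]) (.leaf [17, 19, 31, 32])))))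
  (.node 213
  (.node 210 (.node 209 (.leaf [18, 19, 32]) (.leaf [])) (.node 211 (.leaf [0, 20]) (.node 212 (.leaf [1, 20]) (.leaf [2, 20]))))
  (.node 216 (.node 214 (.leaf [3, 20]) (.node 215 (.leaf [4, 20, 23]) (.leaf [5, 20, 23, 24]))) (.node 217 (.leaf [6, 20]) (.node 218 (.leaf [7, 20, 25]) (.leaf [8, 20])))))))
  (.node 241
  (.node 230
  (.node 224
  (.node 221 (.node 220 (.leaf [9, 20, 26]) (.leaf [10, 20, 26, 27])) (.node 222 (.leaf [11, 20, 30, 35]) (.node 223 (.leaf [12, 20, 28]) (.leaf [13, 20]))))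
  (.node 227 (.node 225 (.leaf [14, 20]) (.node 226 (.leaf [15, 20]) (.leaf [16, 20]))) (.node 228 (.leaf [17, 20, 31, 36]) (.node 229 (.leaf [18, 20, 31, 32]) (.leaf [19, 20])))))
  (.node 235
  (.node 232 (.node 231 (.leaf []) (.leaf [0, 21])) (.node 233 (.leaf [1, 21]) (.node 234 (.leaf [2, 21, 26, 28]) (.leaf [3, 21, 27, 28, 36]))))
  (.node 238 (.node 236 (.leaf [4, 21]) (.node 237 (.leaf [5, 21]) (.leaf [6, 21]))) (.node 239 (.leaf [7, 21, 29, 33]) (.node 240 (.leaf [8, 21, 30, 33]) (.leaf [9, 21]))))))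
  (.node 252
  (.node 246
  (.node 243 (.node 242 (.leaf [10, 21]) (.leaf [11, 21])) (.node 244 (.leaf [12, 21]) (.node 245 (.leaf [13, 21]) (.leaf [14, 21]))))
  (.node 249 (.node 247 (.leaf [15, 21]) (.node 248 (.leaf [16, 21]) (.leaf [17, 21]))) (.node 250 (.leaf [18, 21]) (.node 251 (.leaf [19, 21]) (.leaf [20, 21])))))
  (.node 257
  (.node 254 (.node 253 (.leaf []) (.leaf [0, 22])) (.node 255 (.leaf [1, 22, 25]) (.node 256 (.leaf [2, 22]) (.leaf [3, 22]))))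
  (.node 260 (.node 258 (.leaf [4, 22]) (.node 259 (.leaf [5, 22]) (.leaf [6, 22, 28]))) (.node 261 (.leaf [7, 22]) (.node 262 (.leaf [8, 22]) (.leaf [9, 22]))))))))
  (.node 307
  (.node 285
  (.node 274
  (.node 268
  (.node 265 (.node 264 (.leaf [10, 22]) (.leaf [11, 22])) (.node 266 (.leaf [12, 22]) (.node 267 (.leaf [13, 22]) (.leaf [14, 22, 31, 35, 36]))))
  (.node 271 (.node 269 (.leaf [15, 22, 32, 35]) (.node 270 (.leaf [16, 22, 33]) (.leaf [17, 22]))) (.node 272 (.leaf [18, 22]) (.node 273 (.leaf [19, 22]) (.leaf [20, 22])))))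
  (.node 279
  (.node 276 (.node 275 (.leaf [21, 22, 34]) (.leaf [])) (.node 277 (.leaf [0, 23, 26, 35]) (.node 278 (.leaf [1, 23]) (.leaf [2, 23]))))
  (.node 282 (.node 280 (.leaf [3, 23, 25]) (.node 281 (.leaf [4, 23]) (.leaf [5, 23]))) (.node 283 (.leaf [6, 23]) (.node 284 (.leaf [7, 23]) (.leaf [8, 23]))))))
  (.node 296
  (.node 290
  (.node 287 (.node 286 (.leaf [9, 23, 30]) (.leaf [10, 23, 29, 30, 36])) (.node 288 (.leaf [11, 23]) (.node 289 (.leaf [12, 23, 31, 32]) (.leaf [13, 23, 31, 36]))))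
  (.node 293 (.node 291 (.leaf [14, 23]) (.node 292 (.leaf [15, 23]) (.leaf [16, 23]))) (.node 294 (.leaf [17, 23]) (.node 295 (.leaf [18, 23, 33]) (.leaf [19, 23])))))
  (.node 301
  (.node 298 (.node 297 (.leaf [20, 23]) (.leaf [21, 23])) (.node 299 (.leaf [22, 23]) (.node 300 (.leaf []) (.leaf [0, 24, 27, 35, 36]))))
  (.node 304 (.node 302 (.leaf [1, 24]) (.node 303 (.leaf [2, 24, 25]) (.leaf [3, 24]))) (.node 305 (.leaf [4, 24]) (.node 306 (.leaf [5, 24]) (.leaf [6, 24])))))))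
  (.node 329
  (.node 318
  (.node 312
  (.node 309 (.node 308 (.leaf [7, 24]) (.leaf [8, 24])) (.node 310 (.leaf [9, 24, 29, 30, 36]) (.node 311 (.leaf [10, 24, 29]) (.leaf [11, 24]))))
  (.node 315 (.node 313 (.leaf [12, 24, 32]) (.node 314 (.leaf [13, 24, 31, 32]) (.leaf [14, 24]))) (.node 316 (.leaf [15, 24]) (.node 317 (.leaf [16, 24]) (.leaf [17, 24, 33])))))
  (.node 323
  (.node 320 (.node 319 (.leaf [18, 24]) (.leaf [19, 24])) (.node 321 (.leaf [20, 24]) (.node 322 (.leaf [21, 24]) (.leaf [22, 24]))))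
  (.node 326 (.node 324 (.leaf [23, 24]) (.node 325 (.leaf []) (.leaf [0, 25, 28]))) (.node 327 (.leaf [1, 25]) (.node 328 (.leaf [2, 25]) (.leaf [3, 25]))))))
  (.node 340
  (.node 334
  (.node 331 (.node 330 (.leaf [4, 25]) (.leaf [5, 25])) (.node 332 (.leaf [6, 25]) (.node 333 (.leaf [7, 25]) (.leaf [8, 25]))))
  (.node 337 (.node 335 (.leaf [9, 25, 31, 34, 36]) (.node 336 (.leaf [10, 25, 32, 34]) (.leaf [11, 25, 33]))) (.node 338 (.leaf [12, 25]) (.node 339 (.leaf [13, 25]) (.leaf [14, 25])))))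
  (.node 345
  (.node 342 (.node 341 (.leaf [15, 25]) (.leaf [16, 25])) (.node 343 (.leaf [17, 25]) (.node 344 (.leaf [18, 25]) (.leaf [19, 25]))))
  (.node 348 (.node 346 (.leaf [20, 25]) (.node 347 (.leaf [21, 25, 35]) (.leaf [22, 25]))) (.node 349 (.leaf [23, 25]) (.node 350 (.leaf [24, 25]) (.leaf []))))))))))
  (.node 527
  (.node 439
  (.node 395
  (.node 373
  (.node 362
  (.node 356
  (.node 353 (.node 352 (.leaf [0, 26]) (.leaf [1, 26])) (.node 354 (.leaf [2, 26]) (.node 355 (.leaf [3, 26, 28]) (.leaf [4, 26, 30]))))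
  (.node 359 (.node 357 (.leaf [5, 26, 29, 30, 36]) (.node 358 (.leaf [6, 26]) (.leaf [7, 26, 31, 32]))) (.node 360 (.leaf [8, 26, 31, 36]) (.node 361 (.leaf [9, 26]) (.leaf [10, 26])))))
  (.node 367
  (.node 364 (.node 363 (.leaf [11, 26]) (.leaf [12, 26])) (.node 365 (.leaf [13, 26]) (.node 366 (.leaf [14, 26]) (.leaf [15, 26]))))
  (.node 370 (.node 368 (.leaf [16, 26]) (.node 369 (.leaf [17, 26]) (.leaf [18, 26, 34]))) (.node 371 (.leaf [19, 26]) (.node 372 (.leaf [20, 26]) (.leaf [21, 26]))))))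
  (.node 384
  (.node 378
  (.node 375 (.node 374 (.leaf [22, 26]) (.leaf [23, 26])) (.node 376 (.leaf [24, 26, 35]) (.node 377 (.leaf [25, 26]) (.leaf []))))
  (.node 381 (.node 379 (.leaf [0, 27]) (.node 380 (.leaf [1, 27]) (.leaf [2, 27, 28]))) (.node 382 (.leaf [3, 27]) (.node 383 (.leaf [4, 27, 29, 30, 36]) (.leaf [5, 27, 29])))))
  (.node 389
  (.node 386 (.node 385 (.leaf [6, 27]) (.leaf [7, 27, 32])) (.node 387 (.leaf [8, 27, 31, 32]) (.node 388 (.leaf [9, 27]) (.leaf [10, 27]))))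
  (.node 392 (.node 390 (.leaf [11, 27]) (.node 391 (.leaf [12, 27]) (.leaf [13, 27]))) (.node 393 (.leaf [14, 27]) (.node 394 (.leaf [15, 27]) (.leaf [16, 27])))))))
  (.node 417
  (.node 406
  (.node 400
  (.node 397 (.node 396 (.leaf [17, 27, 34]) (.leaf [18, 27])) (.node 398 (.leaf [19, 27]) (.node 399 (.leaf [20, 27]) (.leaf [21, 27]))))
  (.node 403 (.node 401 (.leaf [22, 27]) (.node 402 (.leaf [23, 27, 35]) (.leaf [24, 27]))) (.node 404 (.leaf [25, 27]) (.node 405 (.leaf [26, 27]) (.leaf [])))))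
  (.node 411
  (.node 408 (.node 407 (.leaf [0, 28]) (.leaf [1, 28])) (.node 409 (.leaf [2, 28]) (.node 410 (.leaf [3, 28]) (.leaf [4, 28, 31, 33, 36]))))
  (.node 414 (.node 412 (.leaf [5, 28, 32, 33]) (.node 413 (.leaf [6, 28]) (.leaf [7, 28]))) (.node 415 (.leaf [8, 28]) (.node 416 (.leaf [9, 28]) (.leaf [10, 28]))))))
  (.node 428
  (.node 422
  (.node 419 (.node 418 (.leaf [11, 28, 34]) (.leaf [12, 28])) (.node 420 (.leaf [13, 28]) (.node 421 (.leaf [14, 28]) (.leaf [15, 28]))))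
  (.node 425 (.node 423 (.leaf [16, 28, 35]) (.node 424 (.leaf [17, 28]) (.leaf [18, 28]))) (.node 426 (.leaf [19, 28]) (.node 427 (.leaf [20, 28]) (.leaf [21, 28])))))
  (.node 433
  (.node 430 (.node 429 (.leaf [22, 28]) (.leaf [23, 28])) (.node 431 (.leaf [24, 28]) (.node 432 (.leaf [25, 28]) (.leaf [26, 28]))))
  (.node 436 (.node 434 (.leaf [27, 28]) (.node 435 (.leaf []) (.leaf [0, 29]))) (.node 437 (.leaf [1, 29]) (.node 438 (.leaf [2, 29, 31, 32]) (.leaf [3, 29, 32]))))))))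
  (.node 483
  (.node 461
  (.node 450
  (.node 444
  (.node 441 (.node 440 (.leaf [4, 29]) (.leaf [5, 29])) (.node 442 (.leaf [6, 29]) (.node 443 (.leaf [7, 29]) (.leaf [8, 29, 33]))))
  (.node 447 (.node 445 (.leaf [9, 29]) (.node 446 (.leaf [10, 29]) (.leaf [11, 29]))) (.node 448 (.leaf [12, 29]) (.node 449 (.leaf [13, 29, 34]) (.leaf [14, 29])))))
  (.node 455
  (.node 452 (.node 451 (.leaf [15, 29]) (.leaf [16, 29])) (.node 453 (.leaf [17, 29]) (.node 454 (.leaf [18, 29]) (.leaf [19, 29]))))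
  (.node 458 (.node 456 (.leaf [20, 29, 35]) (.node 457 (.leaf [21, 29]) (.leaf [22, 29]))) (.node 459 (.leaf [23, 29]) (.node 460 (.leaf [24, 29]) (.leaf [25, 29]))))))
  (.node 472
  (.node 466
  (.node 463 (.node 462 (.leaf [26, 29]) (.leaf [27, 29])) (.node 464 (.leaf [28, 29]) (.node 465 (.leaf []) (.leaf [0, 30]))))
  (.node 469 (.node 467 (.leaf [1, 30]) (.node 468 (.leaf [2, 30, 31, 36]) (.leaf [3, 30, 31, 32]))) (.node 470 (.leaf [4, 30]) (.node 471 (.leaf [5, 30]) (.leaf [6, 30])))))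
  (.node 477
  (.node 474 (.node 473 (.leaf [7, 30, 33]) (.leaf [8, 30])) (.node 475 (.leaf [9, 30]) (.node 476 (.leaf [10, 30]) (.leaf [11, 30]))))
  (.node 480 (.node 478 (.leaf [12, 30, 34]) (.node 479 (.leaf [13, 30]) (.leaf [14, 30]))) (.node 481 (.leaf [15, 30]) (.node 482 (.leaf [16, 30]) (.leaf [17, 30])))))))
  (.node 505
  (.node 494
  (.node 488
  (.node 485 (.node 484 (.leaf [18, 30]) (.leaf [19, 30, 35])) (.node 486 (.leaf [20, 30]) (.node 487 (.leaf [21, 30]) (.leaf [22, 30]))))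
  (.node 491 (.node 489 (.leaf [23, 30]) (.node 490 (.leaf [24, 30]) (.leaf [25, 30]))) (.node 492 (.leaf [26, 30]) (.node 493 (.leaf [27, 30]) (.leaf [28, 30])))))
  (.node 499
  (.node 496 (.node 495 (.leaf [29, 30]) (.leaf [])) (.node 497 (.leaf [0, 31]) (.node 498 (.leaf [1, 31]) (.leaf [2, 31]))))
  (.node 502 (.node 500 (.leaf [3, 31]) (.node 501 (.leaf [4, 31]) (.leaf [5, 31, 33]))) (.node 503 (.leaf [6, 31]) (.node 504 (.leaf [7, 31]) (.leaf [8, 31]))))))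
  (.node 516
  (.node 510
  (.node 507 (.node 506 (.leaf [9, 31]) (.leaf [10, 31, 34])) (.node 508 (.leaf [11, 31]) (.node 509 (.leaf [12, 31]) (.leaf [13, 31]))))
  (.node 513 (.node 511 (.leaf [14, 31]) (.node 512 (.leaf [15, 31, 35]) (.leaf [16, 31]))) (.node 514 (.leaf [17, 31]) (.node 515 (.leaf [18, 31]) (.leaf [19, 31])))))
  (.node 521
  (.node 518 (.node 517 (.leaf [20, 31]) (.leaf [21, 31])) (.node 519 (.leaf [22, 31]) (.node 520 (.leaf [23, 31]) (.leaf [24, 31]))))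
  (.node 524 (.node 522 (.leaf [25, 31]) (.node 523 (.leaf [26, 31]) (.leaf [27, 31]))) (.node 525 (.leaf [28, 31]) (.node 526 (.leaf [29, 31]) (.leaf [30, 31])))))))))
  (.node 615
  (.node 571
  (.node 549
  (.node 538
  (.node 532
  (.node 529 (.node 528 (.leaf []) (.leaf [0, 32])) (.node 530 (.leaf [1, 32]) (.node 531 (.leaf [2, 32]) (.leaf [3, 32]))))
  (.node 535 (.node 533 (.leaf [4, 32, 33]) (.node 534 (.leaf [5, 32]) (.leaf [6, 32]))) (.node 536 (.leaf [7, 32]) (.node 537 (.leaf [8, 32]) (.leaf [9, 32, 34])))))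
  (.node 543
  (.node 540 (.node 539 (.leaf [10, 32]) (.leaf [11, 32])) (.node 541 (.leaf [12, 32]) (.node 542 (.leaf [13, 32]) (.leaf [14, 32, 35]))))
  (.node 546 (.node 544 (.leaf [15, 32]) (.node 545 (.leaf [16, 32]) (.leaf [17, 32]))) (.node 547 (.leaf [18, 32]) (.node 548 (.leaf [19, 32]) (.leaf [20, 32]))))))
  (.node 560
  (.node 554
  (.node 551 (.node 550 (.leaf [21, 32]) (.leaf [22, 32])) (.node 552 (.leaf [23, 32]) (.node 553 (.leaf [24, 32]) (.leaf [25, 32]))))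
  (.node 557 (.node 555 (.leaf [26, 32]) (.node 556 (.leaf [27, 32]) (.leaf [28, 32]))) (.node 558 (.leaf [29, 32]) (.node 559 (.leaf [30, 32]) (.leaf [31, 32])))))
  (.node 565
  (.node 562 (.node 561 (.leaf []) (.leaf [0, 33, 34])) (.node 563 (.leaf [1, 33]) (.node 564 (.leaf [2, 33]) (.leaf [3, 33]))))
  (.node 568 (.node 566 (.leaf [4, 33]) (.node 567 (.leaf [5, 33]) (.leaf [6, 33, 35]))) (.node 569 (.leaf [7, 33]) (.node 570 (.leaf [8, 33]) (.leaf [9, 33])))))))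
  (.node 593
  (.node 582
  (.node 576
  (.node 573 (.node 572 (.leaf [10, 33]) (.leaf [11, 33])) (.node 574 (.leaf [12, 33]) (.node 575 (.leaf [13, 33]) (.leaf [14, 33]))))
  (.node 579 (.node 577 (.leaf [15, 33]) (.node 578 (.leaf [16, 33]) (.leaf [17, 33]))) (.node 580 (.leaf [18, 33]) (.node 581 (.leaf [19, 33]) (.leaf [20, 33])))))
  (.node 587
  (.node 584 (.node 583 (.leaf [21, 33]) (.leaf [22, 33])) (.node 585 (.leaf [23, 33]) (.node 586 (.leaf [24, 33]) (.leaf [25, 33]))))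
  (.node 590 (.node 588 (.leaf [26, 33]) (.node 589 (.leaf [27, 33]) (.leaf [28, 33]))) (.node 591 (.leaf [29, 33]) (.node 592 (.leaf [30, 33]) (.leaf [31, 33]))))))
  (.node 604
  (.node 598
  (.node 595 (.node 594 (.leaf [32, 33]) (.leaf [])) (.node 596 (.leaf [0, 34]) (.node 597 (.leaf [1, 34, 35]) (.leaf [2, 34]))))
  (.node 601 (.node 599 (.leaf [3, 34]) (.node 600 (.leaf [4, 34]) (.leaf [5, 34]))) (.node 602 (.leaf [6, 34]) (.node 603 (.leaf [7, 34]) (.leaf [8, 34])))))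
  (.node 609
  (.node 606 (.node 605 (.leaf [9, 34]) (.leaf [10, 34])) (.node 607 (.leaf [11, 34]) (.node 608 (.leaf [12, 34]) (.leaf [13, 34]))))
  (.node 612 (.node 610 (.leaf [14, 34]) (.node 611 (.leaf [15, 34]) (.leaf [16, 34]))) (.node 613 (.leaf [17, 34]) (.node 614 (.leaf [18, 34]) (.leaf [19, 34]))))))))
  (.node 659
  (.node 637
  (.node 626
  (.node 620
  (.node 617 (.node 616 (.leaf [20, 34]) (.leaf [21, 34])) (.node 618 (.leaf [22, 34]) (.node 619 (.leaf [23, 34]) (.leaf [24, 34]))))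
  (.node 623 (.node 621 (.leaf [25, 34]) (.node 622 (.leaf [26, 34]) (.leaf [27, 34]))) (.node 624 (.leaf [28, 34]) (.node 625 (.leaf [29, 34]) (.leaf [30, 34])))))
  (.node 631
  (.node 628 (.node 627 (.leaf [31, 34]) (.leaf [32, 34])) (.node 629 (.leaf [33, 34]) (.node 630 (.leaf []) (.leaf [0, 35]))))
  (.node 634 (.node 632 (.leaf [1, 35]) (.node 633 (.leaf [2, 35]) (.leaf [3, 35]))) (.node 635 (.leaf [4, 35]) (.node 636 (.leaf [5, 35]) (.leaf [6, 35]))))))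
  (.node 648
  (.node 642
  (.node 639 (.node 638 (.leaf [7, 35]) (.leaf [8, 35])) (.node 640 (.leaf [9, 35]) (.node 641 (.leaf [10, 35]) (.leaf [11, 35]))))
  (.node 645 (.node 643 (.leaf [12, 35]) (.node 644 (.leaf [13, 35]) (.leaf [14, 35]))) (.node 646 (.leaf [15, 35]) (.node 647 (.leaf [16, 35]) (.leaf [17, 35])))))
  (.node 653
  (.node 650 (.node 649 (.leaf [18, 35]) (.leaf [19, 35])) (.node 651 (.leaf [20, 35]) (.node 652 (.leaf [21, 35]) (.leaf [22, 35]))))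
  (.node 656 (.node 654 (.leaf [23, 35]) (.node 655 (.leaf [24, 35]) (.leaf [25, 35]))) (.node 657 (.leaf [26, 35]) (.node 658 (.leaf [27, 35]) (.leaf [28, 35])))))))
  (.node 681
  (.node 670
  (.node 664
  (.node 661 (.node 660 (.leaf [29, 35]) (.leaf [30, 35])) (.node 662 (.leaf [31, 35]) (.node 663 (.leaf [32, 35]) (.leaf [33, 35]))))
  (.node 667 (.node 665 (.leaf [34, 35]) (.node 666 (.leaf []) (.leaf [0, 36]))) (.node 668 (.leaf [1, 36]) (.node 669 (.leaf [2, 36]) (.leaf [3, 36])))))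
  (.node 675
  (.node 672 (.node 671 (.leaf [4, 36]) (.leaf [5, 36])) (.node 673 (.leaf [6, 36]) (.node 674 (.leaf [7, 36]) (.leaf [8, 36]))))
  (.node 678 (.node 676 (.leaf [9, 36]) (.node 677 (.leaf [10, 36]) (.leaf [11, 36]))) (.node 679 (.leaf [12, 36]) (.node 680 (.leaf [13, 36]) (.leaf [14, 36]))))))
  (.node 692
  (.node 686
  (.node 683 (.node 682 (.leaf [15, 36]) (.leaf [16, 36])) (.node 684 (.leaf [17, 36]) (.node 685 (.leaf [18, 36]) (.leaf [19, 36]))))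
  (.node 689 (.node 687 (.leaf [20, 36]) (.node 688 (.leaf [21, 36]) (.leaf [22, 36]))) (.node 690 (.leaf [23, 36]) (.node 691 (.leaf [24, 36]) (.leaf [25, 36])))))
  (.node 697
  (.node 694 (.node 693 (.leaf [26, 36]) (.leaf [27, 36])) (.node 695 (.leaf [28, 36]) (.node 696 (.leaf [29, 36]) (.leaf [30, 36]))))
  (.node 700 (.node 698 (.leaf [31, 36]) (.node 699 (.leaf [32, 36]) (.leaf [33, 36]))) (.node 701 (.leaf [34, 36]) (.node 702 (.leaf [35, 36]) (.leaf [])))))))))))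

/-- the right sides for a cocycle -/
def rowsZ1 : PcTree :=
  (.node 351
  (.node 175
  (.node 87
  (.node 43
  (.node 21
  (.node 10
  (.node 5
  (.node 2 (.node 1 (.leaf []) (.leaf [0, 1, 6])) (.node 3 (.leaf []) (.node 4 (.leaf [0, 2]) (.leaf [1, 2]))))
  (.node 7 (.node 6 (.leaf []) (.leaf [0, 3])) (.node 8 (.leaf [1, 3]) (.node 9 (.leaf [2, 3]) (.leaf [])))))
  (.node 15
  (.node 12 (.node 11 (.leaf [0, 4, 9, 11]) (.leaf [1, 4])) (.node 13 (.leaf [2, 4, 8]) (.node 14 (.leaf [3, 4, 7, 8, 36]) (.leaf []))))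
  (.node 18 (.node 16 (.leaf [0, 5, 10, 11]) (.node 17 (.leaf [1, 5]) (.leaf [2, 5, 7, 8]))) (.node 19 (.leaf [3, 5, 7]) (.node 20 (.leaf [4, 5]) (.leaf []))))))
  (.node 32
  (.node 26
  (.node 23 (.node 22 (.leaf [0, 6]) (.leaf [1, 6])) (.node 24 (.leaf [2, 6]) (.node 25 (.leaf [3, 6]) (.leaf [4, 6, 14, 16]))))
  (.node 29 (.node 27 (.leaf [5, 6, 15, 16]) (.node 28 (.leaf []) (.leaf [0, 7, 12, 22]))) (.node 30 (.leaf [1, 7]) (.node 31 (.leaf [2, 7]) (.leaf [3, 7])))))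
  (.node 37
  (.node 34 (.node 33 (.leaf [4, 7]) (.leaf [5, 7])) (.node 35 (.leaf [6, 7, 19, 25]) (.node 36 (.leaf []) (.leaf [0, 8, 13, 22]))))
  (.node 40 (.node 38 (.leaf [1, 8]) (.node 39 (.leaf [2, 8]) (.leaf [3, 8]))) (.node 41 (.leaf [4, 8]) (.node 42 (.leaf [5, 8]) (.leaf [6, 8, 20, 25])))))))
  (.node 65
  (.node 54
  (.node 48
  (.node 45 (.node 44 (.leaf [7, 8]) (.leaf [])) (.node 46 (.leaf [0, 9]) (.node 47 (.leaf [1, 9, 14, 21]) (.leaf [2, 9, 13]))))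
  (.node 51 (.node 49 (.leaf [3, 9, 12, 13, 36]) (.node 50 (.leaf [4, 9]) (.leaf [5, 9, 11]))) (.node 52 (.leaf [6, 9]) (.node 53 (.leaf [7, 9, 17, 18]) (.leaf [8, 9, 17])))))
  (.node 59
  (.node 56 (.node 55 (.leaf []) (.leaf [0, 10])) (.node 57 (.leaf [1, 10, 15, 21]) (.node 58 (.leaf [2, 10, 12, 13]) (.leaf [3, 10, 12]))))
  (.node 62 (.node 60 (.leaf [4, 10, 11]) (.node 61 (.leaf [5, 10]) (.leaf [6, 10]))) (.node 63 (.leaf [7, 10, 18]) (.node 64 (.leaf [8, 10, 17, 18, 36]) (.leaf [9, 10]))))))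
  (.node 76
  (.node 70
  (.node 67 (.node 66 (.leaf []) (.leaf [0, 11])) (.node 68 (.leaf [1, 11, 16]) (.node 69 (.leaf [2, 11, 17, 22]) (.leaf [3, 11, 18, 22]))))
  (.node 73 (.node 71 (.leaf [4, 11]) (.node 72 (.leaf [5, 11]) (.leaf [6, 11, 21]))) (.node 74 (.leaf [7, 11]) (.node 75 (.leaf [8, 11]) (.leaf [9, 11])))))
  (.node 81
  (.node 78 (.node 77 (.leaf [10, 11]) (.leaf [])) (.node 79 (.leaf [0, 12]) (.node 80 (.leaf [1, 12, 19, 28]) (.leaf [2, 12]))))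
  (.node 84 (.node 82 (.leaf [3, 12]) (.node 83 (.leaf [4, 12, 17, 18]) (.leaf [5, 12, 18]))) (.node 85 (.leaf [6, 12]) (.node 86 (.leaf [7, 12]) (.leaf [8, 12, 22, 36]))))))))
  (.node 131
  (.node 109
  (.node 98
  (.node 92
  (.node 89 (.node 88 (.leaf [9, 12]) (.leaf [10, 12])) (.node 90 (.leaf [11, 12]) (.node 91 (.leaf []) (.leaf [0, 13]))))
  (.node 95 (.node 93 (.leaf [1, 13, 20, 28]) (.node 94 (.leaf [2, 13]) (.leaf [3, 13]))) (.node 96 (.leaf [4, 13, 17]) (.node 97 (.leaf [5, 13, 17, 18, 36]) (.leaf [6, 13])))))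
  (.node 103
  (.node 100 (.node 99 (.leaf [7, 13, 22, 36]) (.leaf [8, 13])) (.node 101 (.leaf [9, 13]) (.node 102 (.leaf [10, 13]) (.leaf [11, 13]))))
  (.node 106 (.node 104 (.leaf [12, 13]) (.node 105 (.leaf []) (.leaf [0, 14]))) (.node 107 (.leaf [1, 14]) (.node 108 (.leaf [2, 14, 20]) (.leaf [3, 14, 19, 20, 36]))))))
  (.node 120
  (.node 114
  (.node 111 (.node 110 (.leaf [4, 14]) (.leaf [5, 14, 16])) (.node 112 (.leaf [6, 14]) (.node 113 (.leaf [7, 14, 23, 24]) (.leaf [8, 14, 23]))))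
  (.node 117 (.node 115 (.leaf [9, 14]) (.node 116 (.leaf [10, 14, 21]) (.leaf [11, 14]))) (.node 118 (.leaf [12, 14, 26, 27]) (.node 119 (.leaf [13, 14, 26]) (.leaf [])))))
  (.node 125
  (.node 122 (.node 121 (.leaf [0, 15]) (.leaf [1, 15])) (.node 123 (.leaf [2, 15, 19, 20]) (.node 124 (.leaf [3, 15, 19]) (.leaf [4, 15, 16]))))
  (.node 128 (.node 126 (.leaf [5, 15]) (.node 127 (.leaf [6, 15]) (.leaf [7, 15, 24]))) (.node 129 (.leaf [8, 15, 23, 24, 36]) (.node 130 (.leaf [9, 15, 21]) (.leaf [10, 15])))))))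
  (.node 153
  (.node 142
  (.node 136
  (.node 133 (.node 132 (.leaf [11, 15]) (.leaf [12, 15, 27])) (.node 134 (.leaf [13, 15, 26, 27, 36]) (.node 135 (.leaf [14, 15]) (.leaf []))))
  (.node 139 (.node 137 (.leaf [0, 16, 21]) (.node 138 (.leaf [1, 16]) (.leaf [2, 16, 23, 25]))) (.node 140 (.leaf [3, 16, 24, 25]) (.node 141 (.leaf [4, 16]) (.leaf [5, 16])))))
  (.node 147
  (.node 144 (.node 143 (.leaf [6, 16]) (.leaf [7, 16])) (.node 145 (.leaf [8, 16]) (.node 146 (.leaf [9, 16]) (.leaf [10, 16]))))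
  (.node 150 (.node 148 (.leaf [11, 16]) (.node 149 (.leaf [12, 16, 29, 34]) (.leaf [13, 16, 30, 34]))) (.node 151 (.leaf [14, 16]) (.node 152 (.leaf [15, 16]) (.leaf []))))))
  (.node 164
  (.node 158
  (.node 155 (.node 154 (.leaf [0, 17]) (.leaf [1, 17, 23, 33])) (.node 156 (.leaf [2, 17]) (.node 157 (.leaf [3, 17, 22, 36]) (.leaf [4, 17]))))
  (.node 161 (.node 159 (.leaf [5, 17]) (.node 160 (.leaf [6, 17, 26, 34]) (.leaf [7, 17]))) (.node 162 (.leaf [8, 17]) (.node 163 (.leaf [9, 17]) (.leaf [10, 17])))))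
  (.node 169
  (.node 166 (.node 165 (.leaf [11, 17]) (.leaf [12, 17])) (.node 167 (.leaf [13, 17]) (.node 168 (.leaf [14, 17, 30]) (.leaf [15, 17, 29, 30]))))
  (.node 172 (.node 170 (.leaf [16, 17]) (.node 171 (.leaf []) (.leaf [0, 18]))) (.node 173 (.leaf [1, 18, 24, 33]) (.node 174 (.leaf [2, 18, 22, 36]) (.leaf [3, 18])))))))))
  (.node 263
  (.node 219
  (.node 197
  (.node 186
  (.node 180
  (.node 177 (.node 176 (.leaf [4, 18]) (.leaf [5, 18])) (.node 178 (.leaf [6, 18, 27, 34]) (.node 179 (.leaf [7, 18]) (.leaf [8, 18]))))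
  (.node 183 (.node 181 (.leaf [9, 18]) (.node 182 (.leaf [10, 18]) (.leaf [11, 18]))) (.node 184 (.leaf [12, 18]) (.node 185 (.leaf [13, 18]) (.leaf [14, 18, 29, 30, 36])))))
  (.node 191
  (.node 188 (.node 187 (.leaf [15, 18, 29]) (.leaf [16, 18])) (.node 189 (.leaf [17, 18]) (.node 190 (.leaf []) (.leaf [0, 19]))))
  (.node 194 (.node 192 (.leaf [1, 19]) (.node 193 (.leaf [2, 19]) (.leaf [3, 19]))) (.node 195 (.leaf [4, 19, 23, 24]) (.node 196 (.leaf [5, 19, 24]) (.leaf [6, 19]))))))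
  (.node 208
  (.node 202
  (.node 199 (.node 198 (.leaf [7, 19]) (.leaf [8, 19, 25, 36])) (.node 200 (.leaf [9, 19, 26, 27]) (.node 201 (.leaf [10, 19, 27]) (.leaf [11, 19, 29, 35]))))
  (.node 205 (.node 203 (.leaf [12, 19]) (.node 204 (.leaf [13, 19, 28, 36]) (.leaf [14, 19]))) (.node 206 (.leaf [15, 19]) (.node 207 (.leaf [16, 19]) (.leaf [17, 19, 31, 32])))))
  (.node 213
  (.node 210 (.node 209 (.leaf [18, 19, 32]) (.leaf [])) (.node 211 (.leaf [0, 20]) (.node 212 (.leaf [1, 20]) (.leaf [2, 20]))))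
  (.node 216 (.node 214 (.leaf [3, 20]) (.node 215 (.leaf [4, 20, 23]) (.leaf [5, 20, 23, 24, 36]))) (.node 217 (.leaf [6, 20]) (.node 218 (.leaf [7, 20, 25, 36]) (.leaf [8, 20])))))))
  (.node 241
  (.node 230
  (.node 224
  (.node 221 (.node 220 (.leaf [9, 20, 26]) (.leaf [10, 20, 26, 27, 36])) (.node 222 (.leaf [11, 20, 30, 35]) (.node 223 (.leaf [12, 20, 28, 36]) (.leaf [13, 20]))))
  (.node 227 (.node 225 (.leaf [14, 20]) (.node 226 (.leaf [15, 20]) (.leaf [16, 20]))) (.node 228 (.leaf [17, 20, 31, 36]) (.node 229 (.leaf [18, 20, 31, 32, 36]) (.leaf [19, 20])))))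
  (.node 235
  (.node 232 (.node 231 (.leaf []) (.leaf [0, 21])) (.node 233 (.leaf [1, 21]) (.node 234 (.leaf [2, 21, 26, 28]) (.leaf [3, 21, 27, 28]))))
  (.node 238 (.node 236 (.leaf [4, 21]) (.node 237 (.leaf [5, 21]) (.leaf [6, 21]))) (.node 239 (.leaf [7, 21, 29, 33]) (.node 240 (.leaf [8, 21, 30, 33]) (.leaf [9, 21]))))))
  (.node 252
  (.node 246
  (.node 243 (.node 242 (.leaf [10, 21]) (.leaf [11, 21])) (.node 244 (.leaf [12, 21]) (.node 245 (.leaf [13, 21]) (.leaf [14, 21]))))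
  (.node 249 (.node 247 (.leaf [15, 21]) (.node 248 (.leaf [16, 21]) (.leaf [17, 21]))) (.node 250 (.leaf [18, 21]) (.node 251 (.leaf [19, 21]) (.leaf [20, 21])))))
  (.node 257
  (.node 254 (.node 253 (.leaf []) (.leaf [0, 22])) (.node 255 (.leaf [1, 22, 25, 36]) (.node 256 (.leaf [2, 22]) (.leaf [3, 22]))))
  (.node 260 (.node 258 (.leaf [4, 22]) (.node 259 (.leaf [5, 22]) (.leaf [6, 22, 28, 36]))) (.node 261 (.leaf [7, 22]) (.node 262 (.leaf [8, 22]) (.leaf [9, 22]))))))))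
  (.node 307
  (.node 285
  (.node 274
  (.node 268
  (.node 265 (.node 264 (.leaf [10, 22]) (.leaf [11, 22])) (.node 266 (.leaf [12, 22]) (.node 267 (.leaf [13, 22]) (.leaf [14, 22, 31, 35, 36]))))
  (.node 271 (.node 269 (.leaf [15, 22, 32, 35]) (.node 270 (.leaf [16, 22, 33, 36]) (.leaf [17, 22]))) (.node 272 (.leaf [18, 22]) (.node 273 (.leaf [19, 22]) (.leaf [20, 22])))))
  (.node 279
  (.node 276 (.node 275 (.leaf [21, 22, 34, 36]) (.leaf [])) (.node 277 (.leaf [0, 23, 26, 35]) (.node 278 (.leaf [1, 23]) (.leaf [2, 23]))))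
  (.node 282 (.node 280 (.leaf [3, 23, 25, 36]) (.node 281 (.leaf [4, 23]) (.leaf [5, 23]))) (.node 283 (.leaf [6, 23]) (.node 284 (.leaf [7, 23]) (.leaf [8, 23]))))))
  (.node 296
  (.node 290
  (.node 287 (.node 286 (.leaf [9, 23, 30]) (.leaf [10, 23, 29, 30])) (.node 288 (.leaf [11, 23]) (.node 289 (.leaf [12, 23, 31, 32]) (.leaf [13, 23, 31, 36]))))
  (.node 293 (.node 291 (.leaf [14, 23]) (.node 292 (.leaf [15, 23]) (.leaf [16, 23]))) (.node 294 (.leaf [17, 23]) (.node 295 (.leaf [18, 23, 33, 36]) (.leaf [19, 23])))))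
  (.node 301
  (.node 298 (.node 297 (.leaf [20, 23]) (.leaf [21, 23])) (.node 299 (.leaf [22, 23]) (.node 300 (.leaf []) (.leaf [0, 24, 27, 35]))))
  (.node 304 (.node 302 (.leaf [1, 24]) (.node 303 (.leaf [2, 24, 25, 36]) (.leaf [3, 24]))) (.node 305 (.leaf [4, 24]) (.node 306 (.leaf [5, 24]) (.leaf [6, 24])))))))
  (.node 329
  (.node 318
  (.node 312
  (.node 309 (.node 308 (.leaf [7, 24]) (.leaf [8, 24])) (.node 310 (.leaf [9, 24, 29, 30, 36]) (.node 311 (.leaf [10, 24, 29]) (.leaf [11, 24]))))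
  (.node 315 (.node 313 (.leaf [12, 24, 32]) (.node 314 (.leaf [13, 24, 31, 32, 36]) (.leaf [14, 24]))) (.node 316 (.leaf [15, 24]) (.node 317 (.leaf [16, 24]) (.leaf [17, 24, 33, 36])))))
  (.node 323
  (.node 320 (.node 319 (.leaf [18, 24]) (.leaf [19, 24])) (.node 321 (.leaf [20, 24]) (.node 322 (.leaf [21, 24]) (.leaf [22, 24]))))
  (.node 326 (.node 324 (.leaf [23, 24]) (.node 325 (.leaf []) (.leaf [0, 25, 28, 36]))) (.node 327 (.leaf [1, 25]) (.node 328 (.leaf [2, 25]) (.leaf [3, 25]))))))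
  (.node 340
  (.node 334
  (.node 331 (.node 330 (.leaf [4, 25]) (.leaf [5, 25])) (.node 332 (.leaf [6, 25]) (.node 333 (.leaf [7, 25]) (.leaf [8, 25]))))
  (.node 337 (.node 335 (.leaf [9, 25, 31, 34, 36]) (.node 336 (.leaf [10, 25, 32, 34]) (.leaf [11, 25, 33, 36]))) (.node 338 (.leaf [12, 25]) (.node 339 (.leaf [13, 25]) (.leaf [14, 25])))))
  (.node 345
  (.node 342 (.node 341 (.leaf [15, 25]) (.leaf [16, 25])) (.node 343 (.leaf [17, 25]) (.node 344 (.leaf [18, 25]) (.leaf [19, 25]))))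
  (.node 348 (.node 346 (.leaf [20, 25]) (.node 347 (.leaf [21, 25, 35, 36]) (.leaf [22, 25]))) (.node 349 (.leaf [23, 25]) (.node 350 (.leaf [24, 25]) (.leaf []))))))))))
  (.node 527
  (.node 439
  (.node 395
  (.node 373
  (.node 362
  (.node 356
  (.node 353 (.node 352 (.leaf [0, 26]) (.leaf [1, 26])) (.node 354 (.leaf [2, 26]) (.node 355 (.leaf [3, 26, 28, 36]) (.leaf [4, 26, 30]))))
  (.node 359 (.node 357 (.leaf [5, 26, 29, 30]) (.node 358 (.leaf [6, 26]) (.leaf [7, 26, 31, 32]))) (.node 360 (.leaf [8, 26, 31, 36]) (.node 361 (.leaf [9, 26]) (.leaf [10, 26])))))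
  (.node 367
  (.node 364 (.node 363 (.leaf [11, 26]) (.leaf [12, 26])) (.node 365 (.leaf [13, 26]) (.node 366 (.leaf [14, 26]) (.leaf [15, 26]))))
  (.node 370 (.node 368 (.leaf [16, 26]) (.node 369 (.leaf [17, 26]) (.leaf [18, 26, 34, 36]))) (.node 371 (.leaf [19, 26]) (.node 372 (.leaf [20, 26]) (.leaf [21, 26]))))))
  (.node 384
  (.node 378
  (.node 375 (.node 374 (.leaf [22, 26]) (.leaf [23, 26])) (.node 376 (.leaf [24, 26, 35, 36]) (.node 377 (.leaf [25, 26]) (.leaf []))))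
  (.node 381 (.node 379 (.leaf [0, 27]) (.node 380 (.leaf [1, 27]) (.leaf [2, 27, 28, 36]))) (.node 382 (.leaf [3, 27]) (.node 383 (.leaf [4, 27, 29, 30, 36]) (.leaf [5, 27, 29])))))
  (.node 389
  (.node 386 (.node 385 (.leaf [6, 27]) (.leaf [7, 27, 32])) (.node 387 (.leaf [8, 27, 31, 32, 36]) (.node 388 (.leaf [9, 27]) (.leaf [10, 27]))))
  (.node 392 (.node 390 (.leaf [11, 27]) (.node 391 (.leaf [12, 27]) (.leaf [13, 27]))) (.node 393 (.leaf [14, 27]) (.node 394 (.leaf [15, 27]) (.leaf [16, 27])))))))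
  (.node 417
  (.node 406
  (.node 400
  (.node 397 (.node 396 (.leaf [17, 27, 34, 36]) (.leaf [18, 27])) (.node 398 (.leaf [19, 27]) (.node 399 (.leaf [20, 27]) (.leaf [21, 27]))))
  (.node 403 (.node 401 (.leaf [22, 27]) (.node 402 (.leaf [23, 27, 35, 36]) (.leaf [24, 27]))) (.node 404 (.leaf [25, 27]) (.node 405 (.leaf [26, 27]) (.leaf [])))))
  (.node 411
  (.node 408 (.node 407 (.leaf [0, 28]) (.leaf [1, 28])) (.node 409 (.leaf [2, 28]) (.node 410 (.leaf [3, 28]) (.leaf [4, 28, 31, 33, 36]))))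
  (.node 414 (.node 412 (.leaf [5, 28, 32, 33]) (.node 413 (.leaf [6, 28]) (.leaf [7, 28]))) (.node 415 (.leaf [8, 28]) (.node 416 (.leaf [9, 28]) (.leaf [10, 28]))))))
  (.node 428
  (.node 422
  (.node 419 (.node 418 (.leaf [11, 28, 34, 36]) (.leaf [12, 28])) (.node 420 (.leaf [13, 28]) (.node 421 (.leaf [14, 28]) (.leaf [15, 28]))))
  (.node 425 (.node 423 (.leaf [16, 28, 35, 36]) (.node 424 (.leaf [17, 28]) (.leaf [18, 28]))) (.node 426 (.leaf [19, 28]) (.node 427 (.leaf [20, 28]) (.leaf [21, 28])))))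
  (.node 433
  (.node 430 (.node 429 (.leaf [22, 28]) (.leaf [23, 28])) (.node 431 (.leaf [24, 28]) (.node 432 (.leaf [25, 28]) (.leaf [26, 28]))))
  (.node 436 (.node 434 (.leaf [27, 28]) (.node 435 (.leaf []) (.leaf [0, 29]))) (.node 437 (.leaf [1, 29]) (.node 438 (.leaf [2, 29, 31, 32]) (.leaf [3, 29, 32]))))))))
  (.node 483
  (.node 461
  (.node 450
  (.node 444
  (.node 441 (.node 440 (.leaf [4, 29]) (.leaf [5, 29])) (.node 442 (.leaf [6, 29]) (.node 443 (.leaf [7, 29]) (.leaf [8, 29, 33, 36]))))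
  (.node 447 (.node 445 (.leaf [9, 29]) (.node 446 (.leaf [10, 29]) (.leaf [11, 29]))) (.node 448 (.leaf [12, 29]) (.node 449 (.leaf [13, 29, 34, 36]) (.leaf [14, 29])))))
  (.node 455
  (.node 452 (.node 451 (.leaf [15, 29]) (.leaf [16, 29])) (.node 453 (.leaf [17, 29]) (.node 454 (.leaf [18, 29]) (.leaf [19, 29]))))
  (.node 458 (.node 456 (.leaf [20, 29, 35, 36]) (.node 457 (.leaf [21, 29]) (.leaf [22, 29]))) (.node 459 (.leaf [23, 29]) (.node 460 (.leaf [24, 29]) (.leaf [25, 29]))))))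
  (.node 472
  (.node 466
  (.node 463 (.node 462 (.leaf [26, 29]) (.leaf [27, 29])) (.node 464 (.leaf [28, 29]) (.node 465 (.leaf []) (.leaf [0, 30]))))
  (.node 469 (.node 467 (.leaf [1, 30]) (.node 468 (.leaf [2, 30, 31, 36]) (.leaf [3, 30, 31, 32, 36]))) (.node 470 (.leaf [4, 30]) (.node 471 (.leaf [5, 30]) (.leaf [6, 30])))))
  (.node 477
  (.node 474 (.node 473 (.leaf [7, 30, 33, 36]) (.leaf [8, 30])) (.node 475 (.leaf [9, 30]) (.node 476 (.leaf [10, 30]) (.leaf [11, 30]))))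
  (.node 480 (.node 478 (.leaf [12, 30, 34, 36]) (.node 479 (.leaf [13, 30]) (.leaf [14, 30]))) (.node 481 (.leaf [15, 30]) (.node 482 (.leaf [16, 30]) (.leaf [17, 30])))))))
  (.node 505
  (.node 494
  (.node 488
  (.node 485 (.node 484 (.leaf [18, 30]) (.leaf [19, 30, 35, 36])) (.node 486 (.leaf [20, 30]) (.node 487 (.leaf [21, 30]) (.leaf [22, 30]))))
  (.node 491 (.node 489 (.leaf [23, 30]) (.node 490 (.leaf [24, 30]) (.leaf [25, 30]))) (.node 492 (.leaf [26, 30]) (.node 493 (.leaf [27, 30]) (.leaf [28, 30])))))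
  (.node 499
  (.node 496 (.node 495 (.leaf [29, 30]) (.leaf [])) (.node 497 (.leaf [0, 31]) (.node 498 (.leaf [1, 31]) (.leaf [2, 31]))))
  (.node 502 (.node 500 (.leaf [3, 31]) (.node 501 (.leaf [4, 31]) (.leaf [5, 31, 33, 36]))) (.node 503 (.leaf [6, 31]) (.node 504 (.leaf [7, 31]) (.leaf [8, 31]))))))
  (.node 516
  (.node 510
  (.node 507 (.node 506 (.leaf [9, 31]) (.leaf [10, 31, 34, 36])) (.node 508 (.leaf [11, 31]) (.node 509 (.leaf [12, 31]) (.leaf [13, 31]))))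
  (.node 513 (.node 511 (.leaf [14, 31]) (.node 512 (.leaf [15, 31, 35, 36]) (.leaf [16, 31]))) (.node 514 (.leaf [17, 31]) (.node 515 (.leaf [18, 31]) (.leaf [19, 31])))))
  (.node 521
  (.node 518 (.node 517 (.leaf [20, 31]) (.leaf [21, 31])) (.node 519 (.leaf [22, 31]) (.node 520 (.leaf [23, 31]) (.leaf [24, 31]))))
  (.node 524 (.node 522 (.leaf [25, 31]) (.node 523 (.leaf [26, 31]) (.leaf [27, 31]))) (.node 525 (.leaf [28, 31]) (.node 526 (.leaf [29, 31]) (.leaf [30, 31])))))))))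
  (.node 615
  (.node 571
  (.node 549
  (.node 538
  (.node 532
  (.node 529 (.node 528 (.leaf []) (.leaf [0, 32])) (.node 530 (.leaf [1, 32]) (.node 531 (.leaf [2, 32]) (.leaf [3, 32]))))
  (.node 535 (.node 533 (.leaf [4, 32, 33, 36]) (.node 534 (.leaf [5, 32]) (.leaf [6, 32]))) (.node 536 (.leaf [7, 32]) (.node 537 (.leaf [8, 32]) (.leaf [9, 32, 34, 36])))))
  (.node 543
  (.node 540 (.node 539 (.leaf [10, 32]) (.leaf [11, 32])) (.node 541 (.leaf [12, 32]) (.node 542 (.leaf [13, 32]) (.leaf [14, 32, 35, 36]))))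
  (.node 546 (.node 544 (.leaf [15, 32]) (.node 545 (.leaf [16, 32]) (.leaf [17, 32]))) (.node 547 (.leaf [18, 32]) (.node 548 (.leaf [19, 32]) (.leaf [20, 32]))))))
  (.node 560
  (.node 554
  (.node 551 (.node 550 (.leaf [21, 32]) (.leaf [22, 32])) (.node 552 (.leaf [23, 32]) (.node 553 (.leaf [24, 32]) (.leaf [25, 32]))))
  (.node 557 (.node 555 (.leaf [26, 32]) (.node 556 (.leaf [27, 32]) (.leaf [28, 32]))) (.node 558 (.leaf [29, 32]) (.node 559 (.leaf [30, 32]) (.leaf [31, 32])))))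
  (.node 565
  (.node 562 (.node 561 (.leaf []) (.leaf [0, 33, 34, 36])) (.node 563 (.leaf [1, 33]) (.node 564 (.leaf [2, 33]) (.leaf [3, 33]))))
  (.node 568 (.node 566 (.leaf [4, 33]) (.node 567 (.leaf [5, 33]) (.leaf [6, 33, 35, 36]))) (.node 569 (.leaf [7, 33]) (.node 570 (.leaf [8, 33]) (.leaf [9, 33])))))))
  (.node 593
  (.node 582
  (.node 576
  (.node 573 (.node 572 (.leaf [10, 33]) (.leaf [11, 33])) (.node 574 (.leaf [12, 33]) (.node 575 (.leaf [13, 33]) (.leaf [14, 33]))))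
  (.node 579 (.node 577 (.leaf [15, 33]) (.node 578 (.leaf [16, 33]) (.leaf [17, 33]))) (.node 580 (.leaf [18, 33]) (.node 581 (.leaf [19, 33]) (.leaf [20, 33])))))
  (.node 587
  (.node 584 (.node 583 (.leaf [21, 33]) (.leaf [22, 33])) (.node 585 (.leaf [23, 33]) (.node 586 (.leaf [24, 33]) (.leaf [25, 33]))))
  (.node 590 (.node 588 (.leaf [26, 33]) (.node 589 (.leaf [27, 33]) (.leaf [28, 33]))) (.node 591 (.leaf [29, 33]) (.node 592 (.leaf [30, 33]) (.leaf [31, 33]))))))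
  (.node 604
  (.node 598
  (.node 595 (.node 594 (.leaf [32, 33]) (.leaf [])) (.node 596 (.leaf [0, 34]) (.node 597 (.leaf [1, 34, 35, 36]) (.leaf [2, 34]))))
  (.node 601 (.node 599 (.leaf [3, 34]) (.node 600 (.leaf [4, 34]) (.leaf [5, 34]))) (.node 602 (.leaf [6, 34]) (.node 603 (.leaf [7, 34]) (.leaf [8, 34])))))
  (.node 609
  (.node 606 (.node 605 (.leaf [9, 34]) (.leaf [10, 34])) (.node 607 (.leaf [11, 34]) (.node 608 (.leaf [12, 34]) (.leaf [13, 34]))))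
  (.node 612 (.node 610 (.leaf [14, 34]) (.node 611 (.leaf [15, 34]) (.leaf [16, 34]))) (.node 613 (.leaf [17, 34]) (.node 614 (.leaf [18, 34]) (.leaf [19, 34]))))))))
  (.node 659
  (.node 637
  (.node 626
  (.node 620
  (.node 617 (.node 616 (.leaf [20, 34]) (.leaf [21, 34])) (.node 618 (.leaf [22, 34]) (.node 619 (.leaf [23, 34]) (.leaf [24, 34]))))
  (.node 623 (.node 621 (.leaf [25, 34]) (.node 622 (.leaf [26, 34]) (.leaf [27, 34]))) (.node 624 (.leaf [28, 34]) (.node 625 (.leaf [29, 34]) (.leaf [30, 34])))))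
  (.node 631
  (.node 628 (.node 627 (.leaf [31, 34]) (.leaf [32, 34])) (.node 629 (.leaf [33, 34]) (.node 630 (.leaf []) (.leaf [0, 35]))))
  (.node 634 (.node 632 (.leaf [1, 35]) (.node 633 (.leaf [2, 35]) (.leaf [3, 35]))) (.node 635 (.leaf [4, 35]) (.node 636 (.leaf [5, 35]) (.leaf [6, 35]))))))
  (.node 648
  (.node 642
  (.node 639 (.node 638 (.leaf [7, 35]) (.leaf [8, 35])) (.node 640 (.leaf [9, 35]) (.node 641 (.leaf [10, 35]) (.leaf [11, 35]))))
  (.node 645 (.node 643 (.leaf [12, 35]) (.node 644 (.leaf [13, 35]) (.leaf [14, 35]))) (.node 646 (.leaf [15, 35]) (.node 647 (.leaf [16, 35]) (.leaf [17, 35])))))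
  (.node 653
  (.node 650 (.node 649 (.leaf [18, 35]) (.leaf [19, 35])) (.node 651 (.leaf [20, 35]) (.node 652 (.leaf [21, 35]) (.leaf [22, 35]))))
  (.node 656 (.node 654 (.leaf [23, 35]) (.node 655 (.leaf [24, 35]) (.leaf [25, 35]))) (.node 657 (.leaf [26, 35]) (.node 658 (.leaf [27, 35]) (.leaf [28, 35])))))))
  (.node 681
  (.node 670
  (.node 664
  (.node 661 (.node 660 (.leaf [29, 35]) (.leaf [30, 35])) (.node 662 (.leaf [31, 35]) (.node 663 (.leaf [32, 35]) (.leaf [33, 35]))))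
  (.node 667 (.node 665 (.leaf [34, 35]) (.node 666 (.leaf []) (.leaf [0, 36]))) (.node 668 (.leaf [1, 36]) (.node 669 (.leaf [2, 36]) (.leaf [3, 36])))))
  (.node 675
  (.node 672 (.node 671 (.leaf [4, 36]) (.leaf [5, 36])) (.node 673 (.leaf [6, 36]) (.node 674 (.leaf [7, 36]) (.leaf [8, 36]))))
  (.node 678 (.node 676 (.leaf [9, 36]) (.node 677 (.leaf [10, 36]) (.leaf [11, 36]))) (.node 679 (.leaf [12, 36]) (.node 680 (.leaf [13, 36]) (.leaf [14, 36]))))))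
  (.node 692
  (.node 686
  (.node 683 (.node 682 (.leaf [15, 36]) (.leaf [16, 36])) (.node 684 (.leaf [17, 36]) (.node 685 (.leaf [18, 36]) (.leaf [19, 36]))))
  (.node 689 (.node 687 (.leaf [20, 36]) (.node 688 (.leaf [21, 36]) (.leaf [22, 36]))) (.node 690 (.leaf [23, 36]) (.node 691 (.leaf [24, 36]) (.leaf [25, 36])))))
  (.node 697
  (.node 694 (.node 693 (.leaf [26, 36]) (.leaf [27, 36])) (.node 695 (.leaf [28, 36]) (.node 696 (.leaf [29, 36]) (.leaf [30, 36]))))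
  (.node 700 (.node 698 (.leaf [31, 36]) (.node 699 (.leaf [32, 36]) (.leaf [33, 36]))) (.node 701 (.leaf [34, 36]) (.node 702 (.leaf [35, 36]) (.leaf [])))))))))))

/-- the right sides in the unipotent subgroup -/
def rowsU : PcTree :=
  (.node 333
  (.node 166
  (.node 83
  (.node 41
  (.node 20
  (.node 10
  (.node 5
  (.node 2 (.node 1 (.leaf []) (.leaf [0, 1, 6])) (.node 3 (.leaf []) (.node 4 (.leaf [0, 2]) (.leaf [1, 2]))))
  (.node 7 (.node 6 (.leaf []) (.leaf [0, 3])) (.node 8 (.leaf [1, 3]) (.node 9 (.leaf [2, 3]) (.leaf [])))))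
  (.node 15
  (.node 12 (.node 11 (.leaf [0, 4, 9, 11]) (.leaf [1, 4])) (.node 13 (.leaf [2, 4, 8]) (.node 14 (.leaf [3, 4, 7, 8]) (.leaf []))))
  (.node 17 (.node 16 (.leaf [0, 5, 10, 11]) (.leaf [1, 5])) (.node 18 (.leaf [2, 5, 7, 8]) (.node 19 (.leaf [3, 5, 7]) (.leaf [4, 5]))))))
  (.node 30
  (.node 25
  (.node 22 (.node 21 (.leaf []) (.leaf [0, 6])) (.node 23 (.leaf [1, 6]) (.node 24 (.leaf [2, 6]) (.leaf [3, 6]))))
  (.node 27 (.node 26 (.leaf [4, 6, 14, 16]) (.leaf [5, 6, 15, 16])) (.node 28 (.leaf []) (.node 29 (.leaf [0, 7, 12, 22]) (.leaf [1, 7])))))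
  (.node 35
  (.node 32 (.node 31 (.leaf [2, 7]) (.leaf [3, 7])) (.node 33 (.leaf [4, 7]) (.node 34 (.leaf [5, 7]) (.leaf [6, 7, 19, 25]))))
  (.node 38 (.node 36 (.leaf []) (.node 37 (.leaf [0, 8, 13, 22]) (.leaf [1, 8]))) (.node 39 (.leaf [2, 8]) (.node 40 (.leaf [3, 8]) (.leaf [4, 8])))))))
  (.node 62
  (.node 51
  (.node 46
  (.node 43 (.node 42 (.leaf [5, 8]) (.leaf [6, 8, 20, 25])) (.node 44 (.leaf [7, 8]) (.node 45 (.leaf []) (.leaf [0, 9]))))
  (.node 48 (.node 47 (.leaf [1, 9, 14, 21]) (.leaf [2, 9, 13])) (.node 49 (.leaf [3, 9, 12, 13]) (.node 50 (.leaf [4, 9]) (.leaf [5, 9, 11])))))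
  (.node 56
  (.node 53 (.node 52 (.leaf [6, 9]) (.leaf [7, 9, 17, 18])) (.node 54 (.leaf [8, 9, 17]) (.node 55 (.leaf []) (.leaf [0, 10]))))
  (.node 59 (.node 57 (.leaf [1, 10, 15, 21]) (.node 58 (.leaf [2, 10, 12, 13]) (.leaf [3, 10, 12]))) (.node 60 (.leaf [4, 10, 11]) (.node 61 (.leaf [5, 10]) (.leaf [6, 10]))))))
  (.node 72
  (.node 67
  (.node 64 (.node 63 (.leaf [7, 10, 18]) (.leaf [8, 10, 17, 18])) (.node 65 (.leaf [9, 10]) (.node 66 (.leaf []) (.leaf [0, 11]))))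
  (.node 69 (.node 68 (.leaf [1, 11, 16]) (.leaf [2, 11, 17, 22])) (.node 70 (.leaf [3, 11, 18, 22]) (.node 71 (.leaf [4, 11]) (.leaf [5, 11])))))
  (.node 77
  (.node 74 (.node 73 (.leaf [6, 11, 21]) (.leaf [7, 11])) (.node 75 (.leaf [8, 11]) (.node 76 (.leaf [9, 11]) (.leaf [10, 11]))))
  (.node 80 (.node 78 (.leaf []) (.node 79 (.leaf [0, 12]) (.leaf [1, 12, 19, 28]))) (.node 81 (.leaf [2, 12]) (.node 82 (.leaf [3, 12]) (.leaf [4, 12, 17, 18]))))))))
  (.node 124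
  (.node 103
  (.node 93
  (.node 88
  (.node 85 (.node 84 (.leaf [5, 12, 18]) (.leaf [6, 12])) (.node 86 (.leaf [7, 12]) (.node 87 (.leaf [8, 12, 22]) (.leaf [9, 12]))))
  (.node 90 (.node 89 (.leaf [10, 12]) (.leaf [11, 12])) (.node 91 (.leaf []) (.node 92 (.leaf [0, 13]) (.leaf [1, 13, 20, 28])))))
  (.node 98
  (.node 95 (.node 94 (.leaf [2, 13]) (.leaf [3, 13])) (.node 96 (.leaf [4, 13, 17]) (.node 97 (.leaf [5, 13, 17, 18]) (.leaf [6, 13]))))
  (.node 100 (.node 99 (.leaf [7, 13, 22]) (.leaf [8, 13])) (.node 101 (.leaf [9, 13]) (.node 102 (.leaf [10, 13]) (.leaf [11, 13]))))))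
  (.node 113
  (.node 108
  (.node 105 (.node 104 (.leaf [12, 13]) (.leaf [])) (.node 106 (.leaf [0, 14]) (.node 107 (.leaf [1, 14]) (.leaf [2, 14, 20]))))
  (.node 110 (.node 109 (.leaf [3, 14, 19, 20]) (.leaf [4, 14])) (.node 111 (.leaf [5, 14, 16]) (.node 112 (.leaf [6, 14]) (.leaf [7, 14, 23, 24])))))
  (.node 118
  (.node 115 (.node 114 (.leaf [8, 14, 23]) (.leaf [9, 14])) (.node 116 (.leaf [10, 14, 21]) (.node 117 (.leaf [11, 14]) (.leaf [12, 14, 26, 27]))))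
  (.node 121 (.node 119 (.leaf [13, 14, 26]) (.node 120 (.leaf []) (.leaf [0, 15]))) (.node 122 (.leaf [1, 15]) (.node 123 (.leaf [2, 15, 19, 20]) (.leaf [3, 15, 19])))))))
  (.node 145
  (.node 134
  (.node 129
  (.node 126 (.node 125 (.leaf [4, 15, 16]) (.leaf [5, 15])) (.node 127 (.leaf [6, 15]) (.node 128 (.leaf [7, 15, 24]) (.leaf [8, 15, 23, 24]))))
  (.node 131 (.node 130 (.leaf [9, 15, 21]) (.leaf [10, 15])) (.node 132 (.leaf [11, 15]) (.node 133 (.leaf [12, 15, 27]) (.leaf [13, 15, 26, 27])))))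
  (.node 139
  (.node 136 (.node 135 (.leaf [14, 15]) (.leaf [])) (.node 137 (.leaf [0, 16, 21]) (.node 138 (.leaf [1, 16]) (.leaf [2, 16, 23, 25]))))
  (.node 142 (.node 140 (.leaf [3, 16, 24, 25]) (.node 141 (.leaf [4, 16]) (.leaf [5, 16]))) (.node 143 (.leaf [6, 16]) (.node 144 (.leaf [7, 16]) (.leaf [8, 16]))))))
  (.node 155
  (.node 150
  (.node 147 (.node 146 (.leaf [9, 16]) (.leaf [10, 16])) (.node 148 (.leaf [11, 16]) (.node 149 (.leaf [12, 16, 29, 34]) (.leaf [13, 16, 30, 34]))))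
  (.node 152 (.node 151 (.leaf [14, 16]) (.leaf [15, 16])) (.node 153 (.leaf []) (.node 154 (.leaf [0, 17]) (.leaf [1, 17, 23, 33])))))
  (.node 160
  (.node 157 (.node 156 (.leaf [2, 17]) (.leaf [3, 17, 22])) (.node 158 (.leaf [4, 17]) (.node 159 (.leaf [5, 17]) (.leaf [6, 17, 26, 34]))))
  (.node 163 (.node 161 (.leaf [7, 17]) (.node 162 (.leaf [8, 17]) (.leaf [9, 17]))) (.node 164 (.leaf [10, 17]) (.node 165 (.leaf [11, 17]) (.leaf [12, 17])))))))))
  (.node 249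
  (.node 207
  (.node 186
  (.node 176
  (.node 171
  (.node 168 (.node 167 (.leaf [13, 17]) (.leaf [14, 17, 30])) (.node 169 (.leaf [15, 17, 29, 30]) (.node 170 (.leaf [16, 17]) (.leaf []))))
  (.node 173 (.node 172 (.leaf [0, 18]) (.leaf [1, 18, 24, 33])) (.node 174 (.leaf [2, 18, 22]) (.node 175 (.leaf [3, 18]) (.leaf [4, 18])))))
  (.node 181
  (.node 178 (.node 177 (.leaf [5, 18]) (.leaf [6, 18, 27, 34])) (.node 179 (.leaf [7, 18]) (.node 180 (.leaf [8, 18]) (.leaf [9, 18]))))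
  (.node 183 (.node 182 (.leaf [10, 18]) (.leaf [11, 18])) (.node 184 (.leaf [12, 18]) (.node 185 (.leaf [13, 18]) (.leaf [14, 18, 29, 30]))))))
  (.node 196
  (.node 191
  (.node 188 (.node 187 (.leaf [15, 18, 29]) (.leaf [16, 18])) (.node 189 (.leaf [17, 18]) (.node 190 (.leaf []) (.leaf [0, 19]))))
  (.node 193 (.node 192 (.leaf [1, 19]) (.leaf [2, 19])) (.node 194 (.leaf [3, 19]) (.node 195 (.leaf [4, 19, 23, 24]) (.leaf [5, 19, 24])))))
  (.node 201
  (.node 198 (.node 197 (.leaf [6, 19]) (.leaf [7, 19])) (.node 199 (.leaf [8, 19, 25]) (.node 200 (.leaf [9, 19, 26, 27]) (.leaf [10, 19, 27]))))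
  (.node 204 (.node 202 (.leaf [11, 19, 29, 35]) (.node 203 (.leaf [12, 19]) (.leaf [13, 19, 28]))) (.node 205 (.leaf [14, 19]) (.node 206 (.leaf [15, 19]) (.leaf [16, 19])))))))
  (.node 228
  (.node 217
  (.node 212
  (.node 209 (.node 208 (.leaf [17, 19, 31, 32]) (.leaf [18, 19, 32])) (.node 210 (.leaf []) (.node 211 (.leaf [0, 20]) (.leaf [1, 20]))))
  (.node 214 (.node 213 (.leaf [2, 20]) (.leaf [3, 20])) (.node 215 (.leaf [4, 20, 23]) (.node 216 (.leaf [5, 20, 23, 24]) (.leaf [6, 20])))))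
  (.node 222
  (.node 219 (.node 218 (.leaf [7, 20, 25]) (.leaf [8, 20])) (.node 220 (.leaf [9, 20, 26]) (.node 221 (.leaf [10, 20, 26, 27]) (.leaf [11, 20, 30, 35]))))
  (.node 225 (.node 223 (.leaf [12, 20, 28]) (.node 224 (.leaf [13, 20]) (.leaf [14, 20]))) (.node 226 (.leaf [15, 20]) (.node 227 (.leaf [16, 20]) (.leaf [17, 20, 31]))))))
  (.node 238
  (.node 233
  (.node 230 (.node 229 (.leaf [18, 20, 31, 32]) (.leaf [19, 20])) (.node 231 (.leaf []) (.node 232 (.leaf [0, 21]) (.leaf [1, 21]))))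
  (.node 235 (.node 234 (.leaf [2, 21, 26, 28]) (.leaf [3, 21, 27, 28])) (.node 236 (.leaf [4, 21]) (.node 237 (.leaf [5, 21]) (.leaf [6, 21])))))
  (.node 243
  (.node 240 (.node 239 (.leaf [7, 21, 29, 33]) (.leaf [8, 21, 30, 33])) (.node 241 (.leaf [9, 21]) (.node 242 (.leaf [10, 21]) (.leaf [11, 21]))))
  (.node 246 (.node 244 (.leaf [12, 21]) (.node 245 (.leaf [13, 21]) (.leaf [14, 21]))) (.node 247 (.leaf [15, 21]) (.node 248 (.leaf [16, 21]) (.leaf [17, 21]))))))))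
  (.node 291
  (.node 270
  (.node 259
  (.node 254
  (.node 251 (.node 250 (.leaf [18, 21]) (.leaf [19, 21])) (.node 252 (.leaf [20, 21]) (.node 253 (.leaf []) (.leaf [0, 22]))))
  (.node 256 (.node 255 (.leaf [1, 22, 25]) (.leaf [2, 22])) (.node 257 (.leaf [3, 22]) (.node 258 (.leaf [4, 22]) (.leaf [5, 22])))))
  (.node 264
  (.node 261 (.node 260 (.leaf [6, 22, 28]) (.leaf [7, 22])) (.node 262 (.leaf [8, 22]) (.node 263 (.leaf [9, 22]) (.leaf [10, 22]))))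
  (.node 267 (.node 265 (.leaf [11, 22]) (.node 266 (.leaf [12, 22]) (.leaf [13, 22]))) (.node 268 (.leaf [14, 22, 31, 35]) (.node 269 (.leaf [15, 22, 32, 35]) (.leaf [16, 22, 33]))))))
  (.node 280
  (.node 275
  (.node 272 (.node 271 (.leaf [17, 22]) (.leaf [18, 22])) (.node 273 (.leaf [19, 22]) (.node 274 (.leaf [20, 22]) (.leaf [21, 22, 34]))))
  (.node 277 (.node 276 (.leaf []) (.leaf [0, 23, 26, 35])) (.node 278 (.leaf [1, 23]) (.node 279 (.leaf [2, 23]) (.leaf [3, 23, 25])))))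
  (.node 285
  (.node 282 (.node 281 (.leaf [4, 23]) (.leaf [5, 23])) (.node 283 (.leaf [6, 23]) (.node 284 (.leaf [7, 23]) (.leaf [8, 23]))))
  (.node 288 (.node 286 (.leaf [9, 23, 30]) (.node 287 (.leaf [10, 23, 29, 30]) (.leaf [11, 23]))) (.node 289 (.leaf [12, 23, 31, 32]) (.node 290 (.leaf [13, 23, 31]) (.leaf [14, 23])))))))
  (.node 312
  (.node 301
  (.node 296
  (.node 293 (.node 292 (.leaf [15, 23]) (.leaf [16, 23])) (.node 294 (.leaf [17, 23]) (.node 295 (.leaf [18, 23, 33]) (.leaf [19, 23]))))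
  (.node 298 (.node 297 (.leaf [20, 23]) (.leaf [21, 23])) (.node 299 (.leaf [22, 23]) (.node 300 (.leaf []) (.leaf [0, 24, 27, 35])))))
  (.node 306
  (.node 303 (.node 302 (.leaf [1, 24]) (.leaf [2, 24, 25])) (.node 304 (.leaf [3, 24]) (.node 305 (.leaf [4, 24]) (.leaf [5, 24]))))
  (.node 309 (.node 307 (.leaf [6, 24]) (.node 308 (.leaf [7, 24]) (.leaf [8, 24]))) (.node 310 (.leaf [9, 24, 29, 30]) (.node 311 (.leaf [10, 24, 29]) (.leaf [11, 24]))))))
  (.node 322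
  (.node 317
  (.node 314 (.node 313 (.leaf [12, 24, 32]) (.leaf [13, 24, 31, 32])) (.node 315 (.leaf [14, 24]) (.node 316 (.leaf [15, 24]) (.leaf [16, 24]))))
  (.node 319 (.node 318 (.leaf [17, 24, 33]) (.leaf [18, 24])) (.node 320 (.leaf [19, 24]) (.node 321 (.leaf [20, 24]) (.leaf [21, 24])))))
  (.node 327
  (.node 324 (.node 323 (.leaf [22, 24]) (.leaf [23, 24])) (.node 325 (.leaf []) (.node 326 (.leaf [0, 25, 28]) (.leaf [1, 25]))))
  (.node 330 (.node 328 (.leaf [2, 25]) (.node 329 (.leaf [3, 25]) (.leaf [4, 25]))) (.node 331 (.leaf [5, 25]) (.node 332 (.leaf [6, 25]) (.leaf [7, 25]))))))))))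
  (.node 499
  (.node 416
  (.node 374
  (.node 353
  (.node 343
  (.node 338
  (.node 335 (.node 334 (.leaf [8, 25]) (.leaf [9, 25, 31, 34])) (.node 336 (.leaf [10, 25, 32, 34]) (.node 337 (.leaf [11, 25, 33]) (.leaf [12, 25]))))
  (.node 340 (.node 339 (.leaf [13, 25]) (.leaf [14, 25])) (.node 341 (.leaf [15, 25]) (.node 342 (.leaf [16, 25]) (.leaf [17, 25])))))
  (.node 348
  (.node 345 (.node 344 (.leaf [18, 25]) (.leaf [19, 25])) (.node 346 (.leaf [20, 25]) (.node 347 (.leaf [21, 25, 35]) (.leaf [22, 25]))))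
  (.node 350 (.node 349 (.leaf [23, 25]) (.leaf [24, 25])) (.node 351 (.leaf []) (.node 352 (.leaf [0, 26]) (.leaf [1, 26]))))))
  (.node 363
  (.node 358
  (.node 355 (.node 354 (.leaf [2, 26]) (.leaf [3, 26, 28])) (.node 356 (.leaf [4, 26, 30]) (.node 357 (.leaf [5, 26, 29, 30]) (.leaf [6, 26]))))
  (.node 360 (.node 359 (.leaf [7, 26, 31, 32]) (.leaf [8, 26, 31])) (.node 361 (.leaf [9, 26]) (.node 362 (.leaf [10, 26]) (.leaf [11, 26])))))
  (.node 368
  (.node 365 (.node 364 (.leaf [12, 26]) (.leaf [13, 26])) (.node 366 (.leaf [14, 26]) (.node 367 (.leaf [15, 26]) (.leaf [16, 26]))))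
  (.node 371 (.node 369 (.leaf [17, 26]) (.node 370 (.leaf [18, 26, 34]) (.leaf [19, 26]))) (.node 372 (.leaf [20, 26]) (.node 373 (.leaf [21, 26]) (.leaf [22, 26])))))))
  (.node 395
  (.node 384
  (.node 379
  (.node 376 (.node 375 (.leaf [23, 26]) (.leaf [24, 26, 35])) (.node 377 (.leaf [25, 26]) (.node 378 (.leaf []) (.leaf [0, 27]))))
  (.node 381 (.node 380 (.leaf [1, 27]) (.leaf [2, 27, 28])) (.node 382 (.leaf [3, 27]) (.node 383 (.leaf [4, 27, 29, 30]) (.leaf [5, 27, 29])))))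
  (.node 389
  (.node 386 (.node 385 (.leaf [6, 27]) (.leaf [7, 27, 32])) (.node 387 (.leaf [8, 27, 31, 32]) (.node 388 (.leaf [9, 27]) (.leaf [10, 27]))))
  (.node 392 (.node 390 (.leaf [11, 27]) (.node 391 (.leaf [12, 27]) (.leaf [13, 27]))) (.node 393 (.leaf [14, 27]) (.node 394 (.leaf [15, 27]) (.leaf [16, 27]))))))
  (.node 405
  (.node 400
  (.node 397 (.node 396 (.leaf [17, 27, 34]) (.leaf [18, 27])) (.node 398 (.leaf [19, 27]) (.node 399 (.leaf [20, 27]) (.leaf [21, 27]))))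
  (.node 402 (.node 401 (.leaf [22, 27]) (.leaf [23, 27, 35])) (.node 403 (.leaf [24, 27]) (.node 404 (.leaf [25, 27]) (.leaf [26, 27])))))
  (.node 410
  (.node 407 (.node 406 (.leaf []) (.leaf [0, 28])) (.node 408 (.leaf [1, 28]) (.node 409 (.leaf [2, 28]) (.leaf [3, 28]))))
  (.node 413 (.node 411 (.leaf [4, 28, 31, 33]) (.node 412 (.leaf [5, 28, 32, 33]) (.leaf [6, 28]))) (.node 414 (.leaf [7, 28]) (.node 415 (.leaf [8, 28]) (.leaf [9, 28]))))))))
  (.node 457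
  (.node 436
  (.node 426
  (.node 421
  (.node 418 (.node 417 (.leaf [10, 28]) (.leaf [11, 28, 34])) (.node 419 (.leaf [12, 28]) (.node 420 (.leaf [13, 28]) (.leaf [14, 28]))))
  (.node 423 (.node 422 (.leaf [15, 28]) (.leaf [16, 28, 35])) (.node 424 (.leaf [17, 28]) (.node 425 (.leaf [18, 28]) (.leaf [19, 28])))))
  (.node 431
  (.node 428 (.node 427 (.leaf [20, 28]) (.leaf [21, 28])) (.node 429 (.leaf [22, 28]) (.node 430 (.leaf [23, 28]) (.leaf [24, 28]))))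
  (.node 433 (.node 432 (.leaf [25, 28]) (.leaf [26, 28])) (.node 434 (.leaf [27, 28]) (.node 435 (.leaf []) (.leaf [0, 29]))))))
  (.node 446
  (.node 441
  (.node 438 (.node 437 (.leaf [1, 29]) (.leaf [2, 29, 31, 32])) (.node 439 (.leaf [3, 29, 32]) (.node 440 (.leaf [4, 29]) (.leaf [5, 29]))))
  (.node 443 (.node 442 (.leaf [6, 29]) (.leaf [7, 29])) (.node 444 (.leaf [8, 29, 33]) (.node 445 (.leaf [9, 29]) (.leaf [10, 29])))))
  (.node 451
  (.node 448 (.node 447 (.leaf [11, 29]) (.leaf [12, 29])) (.node 449 (.leaf [13, 29, 34]) (.node 450 (.leaf [14, 29]) (.leaf [15, 29]))))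
  (.node 454 (.node 452 (.leaf [16, 29]) (.node 453 (.leaf [17, 29]) (.leaf [18, 29]))) (.node 455 (.leaf [19, 29]) (.node 456 (.leaf [20, 29, 35]) (.leaf [21, 29])))))))
  (.node 478
  (.node 467
  (.node 462
  (.node 459 (.node 458 (.leaf [22, 29]) (.leaf [23, 29])) (.node 460 (.leaf [24, 29]) (.node 461 (.leaf [25, 29]) (.leaf [26, 29]))))
  (.node 464 (.node 463 (.leaf [27, 29]) (.leaf [28, 29])) (.node 465 (.leaf []) (.node 466 (.leaf [0, 30]) (.leaf [1, 30])))))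
  (.node 472
  (.node 469 (.node 468 (.leaf [2, 30, 31]) (.leaf [3, 30, 31, 32])) (.node 470 (.leaf [4, 30]) (.node 471 (.leaf [5, 30]) (.leaf [6, 30]))))
  (.node 475 (.node 473 (.leaf [7, 30, 33]) (.node 474 (.leaf [8, 30]) (.leaf [9, 30]))) (.node 476 (.leaf [10, 30]) (.node 477 (.leaf [11, 30]) (.leaf [12, 30, 34]))))))
  (.node 488
  (.node 483
  (.node 480 (.node 479 (.leaf [13, 30]) (.leaf [14, 30])) (.node 481 (.leaf [15, 30]) (.node 482 (.leaf [16, 30]) (.leaf [17, 30]))))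
  (.node 485 (.node 484 (.leaf [18, 30]) (.leaf [19, 30, 35])) (.node 486 (.leaf [20, 30]) (.node 487 (.leaf [21, 30]) (.leaf [22, 30])))))
  (.node 493
  (.node 490 (.node 489 (.leaf [23, 30]) (.leaf [24, 30])) (.node 491 (.leaf [25, 30]) (.node 492 (.leaf [26, 30]) (.leaf [27, 30]))))
  (.node 496 (.node 494 (.leaf [28, 30]) (.node 495 (.leaf [29, 30]) (.leaf []))) (.node 497 (.leaf [0, 31]) (.node 498 (.leaf [1, 31]) (.leaf [2, 31])))))))))
  (.node 582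
  (.node 540
  (.node 519
  (.node 509
  (.node 504
  (.node 501 (.node 500 (.leaf [3, 31]) (.leaf [4, 31])) (.node 502 (.leaf [5, 31, 33]) (.node 503 (.leaf [6, 31]) (.leaf [7, 31]))))
  (.node 506 (.node 505 (.leaf [8, 31]) (.leaf [9, 31])) (.node 507 (.leaf [10, 31, 34]) (.node 508 (.leaf [11, 31]) (.leaf [12, 31])))))
  (.node 514
  (.node 511 (.node 510 (.leaf [13, 31]) (.leaf [14, 31])) (.node 512 (.leaf [15, 31, 35]) (.node 513 (.leaf [16, 31]) (.leaf [17, 31]))))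
  (.node 516 (.node 515 (.leaf [18, 31]) (.leaf [19, 31])) (.node 517 (.leaf [20, 31]) (.node 518 (.leaf [21, 31]) (.leaf [22, 31]))))))
  (.node 529
  (.node 524
  (.node 521 (.node 520 (.leaf [23, 31]) (.leaf [24, 31])) (.node 522 (.leaf [25, 31]) (.node 523 (.leaf [26, 31]) (.leaf [27, 31]))))
  (.node 526 (.node 525 (.leaf [28, 31]) (.leaf [29, 31])) (.node 527 (.leaf [30, 31]) (.node 528 (.leaf []) (.leaf [0, 32])))))
  (.node 534
  (.node 531 (.node 530 (.leaf [1, 32]) (.leaf [2, 32])) (.node 532 (.leaf [3, 32]) (.node 533 (.leaf [4, 32, 33]) (.leaf [5, 32]))))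
  (.node 537 (.node 535 (.leaf [6, 32]) (.node 536 (.leaf [7, 32]) (.leaf [8, 32]))) (.node 538 (.leaf [9, 32, 34]) (.node 539 (.leaf [10, 32]) (.leaf [11, 32])))))))
  (.node 561
  (.node 550
  (.node 545
  (.node 542 (.node 541 (.leaf [12, 32]) (.leaf [13, 32])) (.node 543 (.leaf [14, 32, 35]) (.node 544 (.leaf [15, 32]) (.leaf [16, 32]))))
  (.node 547 (.node 546 (.leaf [17, 32]) (.leaf [18, 32])) (.node 548 (.leaf [19, 32]) (.node 549 (.leaf [20, 32]) (.leaf [21, 32])))))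
  (.node 555
  (.node 552 (.node 551 (.leaf [22, 32]) (.leaf [23, 32])) (.node 553 (.leaf [24, 32]) (.node 554 (.leaf [25, 32]) (.leaf [26, 32]))))
  (.node 558 (.node 556 (.leaf [27, 32]) (.node 557 (.leaf [28, 32]) (.leaf [29, 32]))) (.node 559 (.leaf [30, 32]) (.node 560 (.leaf [31, 32]) (.leaf []))))))
  (.node 571
  (.node 566
  (.node 563 (.node 562 (.leaf [0, 33, 34]) (.leaf [1, 33])) (.node 564 (.leaf [2, 33]) (.node 565 (.leaf [3, 33]) (.leaf [4, 33]))))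
  (.node 568 (.node 567 (.leaf [5, 33]) (.leaf [6, 33, 35])) (.node 569 (.leaf [7, 33]) (.node 570 (.leaf [8, 33]) (.leaf [9, 33])))))
  (.node 576
  (.node 573 (.node 572 (.leaf [10, 33]) (.leaf [11, 33])) (.node 574 (.leaf [12, 33]) (.node 575 (.leaf [13, 33]) (.leaf [14, 33]))))
  (.node 579 (.node 577 (.leaf [15, 33]) (.node 578 (.leaf [16, 33]) (.leaf [17, 33]))) (.node 580 (.leaf [18, 33]) (.node 581 (.leaf [19, 33]) (.leaf [20, 33]))))))))
  (.node 624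
  (.node 603
  (.node 592
  (.node 587
  (.node 584 (.node 583 (.leaf [21, 33]) (.leaf [22, 33])) (.node 585 (.leaf [23, 33]) (.node 586 (.leaf [24, 33]) (.leaf [25, 33]))))
  (.node 589 (.node 588 (.leaf [26, 33]) (.leaf [27, 33])) (.node 590 (.leaf [28, 33]) (.node 591 (.leaf [29, 33]) (.leaf [30, 33])))))
  (.node 597
  (.node 594 (.node 593 (.leaf [31, 33]) (.leaf [32, 33])) (.node 595 (.leaf []) (.node 596 (.leaf [0, 34]) (.leaf [1, 34, 35]))))
  (.node 600 (.node 598 (.leaf [2, 34]) (.node 599 (.leaf [3, 34]) (.leaf [4, 34]))) (.node 601 (.leaf [5, 34]) (.node 602 (.leaf [6, 34]) (.leaf [7, 34]))))))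
  (.node 613
  (.node 608
  (.node 605 (.node 604 (.leaf [8, 34]) (.leaf [9, 34])) (.node 606 (.leaf [10, 34]) (.node 607 (.leaf [11, 34]) (.leaf [12, 34]))))
  (.node 610 (.node 609 (.leaf [13, 34]) (.leaf [14, 34])) (.node 611 (.leaf [15, 34]) (.node 612 (.leaf [16, 34]) (.leaf [17, 34])))))
  (.node 618
  (.node 615 (.node 614 (.leaf [18, 34]) (.leaf [19, 34])) (.node 616 (.leaf [20, 34]) (.node 617 (.leaf [21, 34]) (.leaf [22, 34]))))
  (.node 621 (.node 619 (.leaf [23, 34]) (.node 620 (.leaf [24, 34]) (.leaf [25, 34]))) (.node 622 (.leaf [26, 34]) (.node 623 (.leaf [27, 34]) (.leaf [28, 34])))))))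
  (.node 645
  (.node 634
  (.node 629
  (.node 626 (.node 625 (.leaf [29, 34]) (.leaf [30, 34])) (.node 627 (.leaf [31, 34]) (.node 628 (.leaf [32, 34]) (.leaf [33, 34]))))
  (.node 631 (.node 630 (.leaf []) (.leaf [0, 35])) (.node 632 (.leaf [1, 35]) (.node 633 (.leaf [2, 35]) (.leaf [3, 35])))))
  (.node 639
  (.node 636 (.node 635 (.leaf [4, 35]) (.leaf [5, 35])) (.node 637 (.leaf [6, 35]) (.node 638 (.leaf [7, 35]) (.leaf [8, 35]))))
  (.node 642 (.node 640 (.leaf [9, 35]) (.node 641 (.leaf [10, 35]) (.leaf [11, 35]))) (.node 643 (.leaf [12, 35]) (.node 644 (.leaf [13, 35]) (.leaf [14, 35]))))))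
  (.node 655
  (.node 650
  (.node 647 (.node 646 (.leaf [15, 35]) (.leaf [16, 35])) (.node 648 (.leaf [17, 35]) (.node 649 (.leaf [18, 35]) (.leaf [19, 35]))))
  (.node 652 (.node 651 (.leaf [20, 35]) (.leaf [21, 35])) (.node 653 (.leaf [22, 35]) (.node 654 (.leaf [23, 35]) (.leaf [24, 35])))))
  (.node 660
  (.node 657 (.node 656 (.leaf [25, 35]) (.leaf [26, 35])) (.node 658 (.leaf [27, 35]) (.node 659 (.leaf [28, 35]) (.leaf [29, 35]))))
  (.node 663 (.node 661 (.leaf [30, 35]) (.node 662 (.leaf [31, 35]) (.leaf [32, 35]))) (.node 664 (.leaf [33, 35]) (.node 665 (.leaf [34, 35]) (.leaf [])))))))))))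

end Cfsg.Agent.TwistE6MultData14
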