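import Cfsg.Agent.Lib.TwistSubfieldLevi33
import Cfsg.Agent.Lib.TwistedD4Simple

/-!
The elements of `³D₄(q)` with entries in the field of order `q` form a maximal subgroup.
-/

set_option autoImplicit false
set_option linter.unusedSectionVars false
set_option linter.unusedSimpArgs false
set_option linter.unusedVariables false
set_option maxRecDepth 20000
set_option synthInstance.maxSize 2000
set_option synthInstance.maxHeartbeats 400000
set_option maxHeartbeats 1600000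

namespace Cfsg.Agent.TwistSubfieldD4_33

open Cfsg.Lie Cfsg.Agent.ChevalleyEngine Cfsg.Agent.ChevalleyCert Cfsg.Agent.ChevalleyRoots
  Cfsg.Agent.ChevalleyCore Cfsg.Agent.ChevalleyTorus Cfsg.Agent.ChevalleyUnipotent Cfsg.Agent.ChevSubfieldData
  Cfsg.Agent.ChevFrobeniusFixed Cfsg.Agent.TwistedCore Cfsg.Agent.TwistedTools Cfsg.Agent.TwistedD4
  Cfsg.Agent.TwoGenCert98 Cfsg.Agent.TwistSeed98 Cfsg.Agent.TwistSubfieldGrade33
  Cfsg.Agent.TwistSubfieldOrbit33 Cfsg.Agent.TwistSubfieldMain33 Cfsg.Agent.TwistSubfieldLevi33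

set_option quotPrecheck false

/-- the symmetry -/
local notation "ρ₄" => (Cfsg.Agent.ChevalleyGraph.symD4a).rho

/-- the signs -/
local notation "ε₄" => (Cfsg.Agent.ChevalleyGraph.symD4a).eps

/-- the classes of nodes -/
def al : List (List ℕ) := [[1], [0, 2, 3]]

/-- the word of the longest element -/
def w0 : List ℕ := [0, 1, 0, 1, 0, 1]

theorem graded4 : Graded chevD4 := by
  refine ⟨?_, ?_, ?_, ?_, ?_, ?_⟩ <;> decide +kernel

theorem radical4 : Radical chevD4 ρ₄ ε₄ 3 := by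
  refine ⟨?_, ?_, ?_, ?_, ?_, ?_, ?_⟩ <;> decide +kernel

theorem facts4 : Facts chevD4 ρ₄ 3 al w0 := by
  refine ⟨?_, ?_, ?_, ?_, ?_, ?_, ?_, ?_, ?_, ?_, ?_⟩ <;> decide +kernel

/-- the entry of a root element in the row of the highest root -/
def entry (s b : ℕ) : ℤ :=
  if h : top chevD4 < chevD4.nroots ∧ b < chevD4.nroots then
    xm chevD4 1 s (Sum.inr ⟨top chevD4, h.1⟩) (Sum.inr ⟨b, h.2⟩)
  else 0

theorem entries : entry 19 17 = -1 ∧ entry 16 17 = 0 ∧ entry 15 17 = 0 ∧ entry 19 19 = 0 ∧ entry 16 19 = 0 ∧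
    entry 15 19 = 0 ∧ entry 16 20 = -1 ∧ entry 15 21 = -1 ∧ entry 17 19 = 1 ∧ entry 20 19 = 0 ∧ entry 21 19 = 0 ∧
    entry 17 17 = 0 ∧ entry 20 17 = 0 ∧ entry 21 17 = 0 ∧ entry 14 22 = 1 ∧ entry 14 17 = 0 ∧ entry 14 19 = 0 ∧
    entry 14 20 = 0 ∧ entry 14 21 = 0 := by
  decide +kernel

theorem in_ql : ∀ b ∈ [14, 15, 16, 17, 19, 20, 21, 22], b ∈ ql chevD4 := by decide +kernel

theorem rho_ok : ρ₄ 17 = 20 ∧ ρ₄ 20 = 21 ∧ prt chevD4 17 = 19 ∧ prt chevD4 20 = 16 ∧ prt chevD4 21 = 15 ∧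
    ε₄ 19 = -1 ∧ ε₄ 16 = 1 ∧ ρ₄ 22 = 22 ∧ ρ₄ 14 = 14 := by
  decide +kernel

theorem chains : flat chevD4 18 = true ∧ flat chevD4 13 = true ∧ flat chevD4 12 = true ∧
    (chevD4.chainRoot 12 19 1 = some 20 ∧ chevD4.chainM 12 19 1 = 1) ∧
    (chevD4.chainRoot 12 21 1 = some 22 ∧ chevD4.chainM 12 21 1 = 1) ∧
    chevD4.chainRoot 12 17 1 = none ∧ chevD4.chainRoot 12 22 1 = none ∧
    (chevD4.chainRoot 13 19 1 = some 21 ∧ chevD4.chainM 13 19 1 = 1) ∧
    chevD4.chainRoot 13 17 1 = none ∧ chevD4.chainRoot 13 22 1 = none ∧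
    (chevD4.chainRoot 18 17 1 = some 22 ∧ chevD4.chainM 18 17 1 = -1) ∧
    chevD4.chainRoot 18 19 1 = none := by
  decide +kernel

theorem names : d4p1 = 18 ∧ d4p3 = 13 ∧ d4p4 = 12 := by decide

theorem reps : ∀ b ∈ ql chevD4, ρ₄ b = b ∨ ∃ r ∈ [17, 19], r ∈ ql chevD4 ∧ ∃ j < 3, ρ₄^[j] r = b := by
  decide +kernel

theorem moves : (wact (D := chevD4) [1] 18 = 19 ∧ wact (D := chevD4) [1] 13 = 16 ∧ wact (D := chevD4) [1] 12 = 15) ∧
    (wact (D := chevD4) [0, 2, 3, 1] 18 = 17 ∧ wact (D := chevD4) [0, 2, 3, 1] 13 = 20 ∧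
      wact (D := chevD4) [0, 2, 3, 1] 12 = 21) ∧
    (wact (D := chevD4) [0, 2, 3] 18 = d4m1 ∧ wact (D := chevD4) [0, 2, 3] 13 = d4m3 ∧
      wact (D := chevD4) [0, 2, 3] 12 = d4m4) := by
  decide +kernel

variable {K : Type*} [Field K]

theorem shift_some {α b u : ℕ} {M : ℤ} (h : chevD4.chainRoot α b 1 = some u ∧ chevD4.chainM α b 1 = M)
    (Y : ℕ → K) : shift chevD4 α b Y = (M : K) * Y u := by
  simp [shift, h.1, h.2]

theorem shift_none {α b : ℕ} (h : chevD4.chainRoot α b 1 = none) (Y : ℕ → K) : shift chevD4 α b Y = 0 := by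
  simp [shift, h]

theorem yx {s b : ℕ} (hs : s ∈ ql chevD4) (hb : b ∈ ql chevD4) (t : K) :
    y (xg c4 s t) b = (entry s b : K) * t := by
  obtain ⟨hs1, hs2⟩ := mem_ql.1 hs
  obtain ⟨hb1, hb2⟩ := mem_ql.1 hb
  rw [y_xg c4 graded4 hs1 (by rw [hs2]) t hb hb1, entry, dif_pos ⟨graded4.top_lt, hb1⟩]

/-- conjugation of the coordinates by an outer triple -/
theorem tri_y (a b c : K) {g : GL chevD4.Idx K} (hg : g ∈ Q c4 K) :
    tri a b c * g * (tri a b c)⁻¹ ∈ Q c4 K ∧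
      y (tri a b c * g * (tri a b c)⁻¹) 17 = y g 17 + a * y g 22 ∧
      y (tri a b c * g * (tri a b c)⁻¹) 19 = y g 19 - c * y g 20 - b * (y g 21 - c * y g 22) := by
  obtain ⟨n1, n3, n4⟩ := names
  obtain ⟨f1, f3, f4, c19, c21, c17, c22, d19, d17, d22, e17, e19⟩ := chains
  obtain ⟨a1, a2, -⟩ := flat_iff.1 f1
  obtain ⟨b1, b2, -⟩ := flat_iff.1 f3
  obtain ⟨g1, g2, -⟩ := flat_iff.1 f4
  have q := in_ql
  have h1 := conj_Q c4 graded4 g1 (le_of_eq g2.symm) c hg
  have h2 := conj_Q c4 graded4 b1 (le_of_eq b2.symm) b h1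
  have h3 := conj_Q c4 graded4 a1 (le_of_eq a2.symm) a h2
  have e : tri a b c * g * (tri a b c)⁻¹ =
      xg c4 18 a * (xg c4 13 b * (xg c4 12 c * g * (xg c4 12 c)⁻¹) * (xg c4 13 b)⁻¹) * (xg c4 18 a)⁻¹ := by
    simp only [tri, n1, n3, n4]; group
  rw [e]
  refine ⟨h3, ?_, ?_⟩
  · rw [conj_y c4 graded4 f1 _ _ (q 17 (by simp)), shift_some e17, conj_y c4 graded4 f3 _ _ (q 17 (by simp)),
      shift_none d17, conj_y c4 graded4 f4 _ _ (q 17 (by simp)), shift_none c17,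
      conj_y c4 graded4 f3 _ _ (q 22 (by simp)), shift_none d22, conj_y c4 graded4 f4 _ _ (q 22 (by simp)),
      shift_none c22]
    push_cast
    ring
  · rw [conj_y c4 graded4 f1 _ _ (q 19 (by simp)), shift_none e19, conj_y c4 graded4 f3 _ _ (q 19 (by simp)),
      shift_some d19, conj_y c4 graded4 f4 _ _ (q 19 (by simp)), shift_some c19,
      conj_y c4 graded4 f4 _ _ (q 21 (by simp)), shift_some c21]
    push_cast
    ring

variable {q : ℕ} (f : K →+* K) (hf : ∀ t, f t = t ^ q)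
variable [Fintype K] (hK : Fintype.card K = q ^ 3)

include hf hK

theorem sg_all {r : ℕ} (hr : r < chevD4.nroots) (t : K) :
    (tw f).sg (xg c4 r t) = xg c4 (ρ₄ r) ((ε₄ r : K) * f t) := by
  rw [(tw f).sg_eq (xg_mem_group c4 r t)]
  show (Units.mapEquiv (ChevalleyGraph.conjM (F := K) chevD4 ChevalleyGraph.symD4a))
    (Matrix.GeneralLinearGroup.map f (xg c4 r t)) = _
  rw [xg_map]
  apply Units.ext
  exact ChevalleyGraph.conjM_x ChevalleyGraph.symD4a c4 hr (f t)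

theorem shape : Shape (tw f) f ε₄ 3 :=
  ⟨fun r hr t => sg_all f hf hK hr t, fun t => f3 f hf hK t, graded4, radical4⟩

/-- the fixed outer triple -/
noncomputable def triF (f : K →+* K) (t : K) : GL chevD4.Idx K := tri t (f t) (f (f t))

theorem triF_mem (t : K) : triF f t ∈ twistedD4 K q := by
  have h := (tri_mem q t).1
  rwa [← hf, ← f_f f hf] at h

theorem nwd_al : ∀ l ∈ al, nwd c4 (F := K) l ∈ twistedD4 K q := by
  intro l hl
  obtain ⟨e1, e2, e3, e4, -⟩ := simples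
  simp only [al, List.mem_cons, List.not_mem_nil, or_false] at hl
  rcases hl with rfl | rfl
  · have h : nwd c4 (F := K) [1] = ng c4 (chevD4.simple 1) 1 := by simp [nwd]
    rw [h, e2]; exact ng2_mem f hf (one_pow q)
  · have h : nwd c4 (F := K) [0, 2, 3] =
        ng c4 (chevD4.simple 0) 1 * (ng c4 (chevD4.simple 2) 1 * ng c4 (chevD4.simple 3) 1) := by simp [nwd]
    have h2 := tn_mem f hf (1 : K)
    rw [one_pow, one_pow, tn, mul_assoc] at h2
    rw [h, e1, e3, e4]; exact h2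

/-- the coordinates along the orbit of `17` -/
theorem y_orbit {g : GL chevD4.Idx K} (hg : g ∈ Q c4 K) (hgF : g ∈ (tw f).Fixed) :
    y g 20 = -f (y g 17) ∧ y g 21 = -f (f (y g 17)) := by
  set P := shape f hf hK
  have qq := in_ql
  obtain ⟨r17, r20, p17, p20, p21, s19, s16, -, -⟩ := rho_ok
  obtain ⟨e1, -, -, -, -, -, e2, e3, -⟩ := entries
  have hρ : ∀ r, (tw f).ρ r = ρ₄ r := fun r => rfl
  obtain ⟨u, hu, -, -, -, hy⟩ := y_rho_val P (qq 17 (by simp))
  obtain ⟨v, hv, -, -, -, hy'⟩ := y_rho_val P (qq 20 (by simp))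
  have h20 := hy g hg hgF
  have h21 := hy' g hg hgF
  rw [hρ, r17] at h20 hu
  rw [hρ, r20] at h21 hv
  rw [p20, p17, s19, yx (qq 16 (by simp)) (qq 20 (by simp)), yx (qq 19 (by simp)) (qq 17 (by simp)), e1, e2] at hu
  rw [p21, p20, s16, yx (qq 15 (by simp)) (qq 21 (by simp)), yx (qq 16 (by simp)) (qq 20 (by simp)), e2, e3] at hv
  push_cast at hu hv
  subst hu hv
  constructor
  · rw [h20]; ring
  · rw [h21, h20, map_mul]
    simp

variable {H : Subgroup (GL chevD4.Idx K)} (hMH : ∀ g ∈ twistedD4 K q, fr f g = g → g ∈ H)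
  (hHG : H ≤ twistedD4 K q)

include hMH hHG

theorem W_add {a b : K} (ha : triF f a ∈ H) (hb : triF f b ∈ H) : triF f (a + b) ∈ H := by
  have h := mul_mem ha hb
  simp only [triF] at h ⊢
  rw [map_add, map_add]
  rwa [tri_mul] at h

theorem W_neg {a : K} (ha : triF f a ∈ H) : triF f (-a) ∈ H := by
  have h : (triF f a)⁻¹ = triF f (-a) := by
    refine inv_eq_of_mul_eq_one_right ?_
    simp only [triF, tri_mul, map_neg, add_neg_cancel]
    simp [tri]
  exact h ▸ inv_mem ha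

theorem W_sign {a : K} {s : ℤ} (hs : s = 1 ∨ s = -1) (ha : triF f a ∈ H) : triF f ((s : K) * a) ∈ H := by
  rcases hs with rfl | rfl
  · simpa using ha
  · simpa using W_neg f hf hK hMH hHG ha

theorem W_fixed {a : K} (ha : f a = a) : triF f a ∈ H := by
  refine hMH _ (triF_mem f hf hK a) ?_
  rw [triF, tri, map_mul, map_mul, fr_xg f c4, fr_xg f c4, fr_xg f c4, ha, ha, ha]

/-- the image of a triple in the radical -/
theorem image17 (a : K) : ∃ z ∈ Q c4 K, z ∈ twistedD4 K q ∧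
    z = nwd c4 [1] * triF f a * (nwd c4 [1])⁻¹ ∧ y z 17 = -((sgnw c4 [1] 18 : K) * a) ∧ y z 19 = 0 := by
  obtain ⟨⟨m1, m3, m4⟩, -, -⟩ := moves
  obtain ⟨n1, n3, n4⟩ := names
  obtain ⟨v1, v2, v3, v4, v5, v6, -⟩ := entries
  have qq := in_ql
  have hl : ∀ i ∈ [1], i < chevD4.rank := by decide
  have hr : ∀ r ∈ [18, 13, 12], r < chevD4.nroots := by decide +kernel
  have hG := mul_mem (mul_mem (nwd_al f hf hK [1] (by simp [al])) (triF_mem f hf hK a))
    (inv_mem (nwd_al f hf hK [1] (by simp [al])))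
  have e : nwd c4 [1] * triF f a * (nwd c4 [1])⁻¹ = xg c4 19 ((sgnw c4 [1] 18 : K) * a) *
      xg c4 16 ((sgnw c4 [1] 13 : K) * f a) * xg c4 15 ((sgnw c4 [1] 12 : K) * f (f a)) := by
    rw [triF, tri, n1, n3, n4, ← conj_mul, ← conj_mul, conj_xg c4 hl (hr 18 (by simp)),
      conj_xg c4 hl (hr 13 (by simp)), conj_xg c4 hl (hr 12 (by simp)), m1, m3, m4]
  have hQ : ∀ s ∈ [19, 16, 15], ∀ t : K, xg c4 s t ∈ Q c4 K := fun s hs t => by
    have hsq : s ∈ ql chevD4 := by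
      simp only [List.mem_cons, List.not_mem_nil, or_false] at hs
      rcases hs with rfl | rfl | rfl <;> exact qq _ (by simp)
    obtain ⟨h1, h2⟩ := mem_ql.1 hsq
    exact mem_grp c4 h1 h2.ge t
  refine ⟨_, ?_, hG, rfl, ?_, ?_⟩
  · rw [e]
    exact mul_mem (mul_mem (hQ _ (by simp) _) (hQ _ (by simp) _)) (hQ _ (by simp) _)
  all_goals
    rw [e, y_mul c4 graded4 (mul_mem (hQ _ (by simp) _) (hQ _ (by simp) _)) (hQ _ (by simp) _) (qq _ (by simp)),
      y_mul c4 graded4 (hQ _ (by simp) _) (hQ _ (by simp) _) (qq _ (by simp)),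
      yx (qq _ (by simp)) (qq _ (by simp)), yx (qq _ (by simp)) (qq _ (by simp)),
      yx (qq _ (by simp)) (qq _ (by simp))]
  · rw [v1, v2, v3]; push_cast; ring
  · rw [v4, v5, v6]; push_cast; ring

/-- the second image of a triple in the radical -/
theorem image19 (a : K) : ∃ z ∈ Q c4 K, z ∈ twistedD4 K q ∧
    z = nwd c4 [0, 2, 3, 1] * triF f a * (nwd c4 [0, 2, 3, 1])⁻¹ ∧
      y z 19 = (sgnw c4 [0, 2, 3, 1] 18 : K) * a ∧ y z 17 = 0 := by
  obtain ⟨-, ⟨m1, m3, m4⟩, -⟩ := moves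
  obtain ⟨n1, n3, n4⟩ := names
  obtain ⟨-, -, -, -, -, -, -, -, v1, v2, v3, v4, v5, v6, -⟩ := entries
  have qq := in_ql
  have hl : ∀ i ∈ [0, 2, 3, 1], i < chevD4.rank := by decide
  have hr : ∀ r ∈ [18, 13, 12], r < chevD4.nroots := by decide +kernel
  have hn : nwd c4 (F := K) [0, 2, 3, 1] ∈ twistedD4 K q := by
    rw [show ([0, 2, 3, 1] : List ℕ) = [0, 2, 3] ++ [1] from rfl, nwd_append]
    exact mul_mem (nwd_al f hf hK _ (by simp [al])) (nwd_al f hf hK _ (by simp [al]))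
  have hG := mul_mem (mul_mem hn (triF_mem f hf hK a)) (inv_mem hn)
  have e : nwd c4 [0, 2, 3, 1] * triF f a * (nwd c4 [0, 2, 3, 1])⁻¹ =
      xg c4 17 ((sgnw c4 [0, 2, 3, 1] 18 : K) * a) * xg c4 20 ((sgnw c4 [0, 2, 3, 1] 13 : K) * f a) *
        xg c4 21 ((sgnw c4 [0, 2, 3, 1] 12 : K) * f (f a)) := by
    rw [triF, tri, n1, n3, n4, ← conj_mul, ← conj_mul, conj_xg c4 hl (hr 18 (by simp)),
      conj_xg c4 hl (hr 13 (by simp)), conj_xg c4 hl (hr 12 (by simp)), m1, m3, m4]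
  have hQ : ∀ s ∈ [17, 20, 21], ∀ t : K, xg c4 s t ∈ Q c4 K := fun s hs t => by
    have hsq : s ∈ ql chevD4 := by
      simp only [List.mem_cons, List.not_mem_nil, or_false] at hs
      rcases hs with rfl | rfl | rfl <;> exact qq _ (by simp)
    obtain ⟨h1, h2⟩ := mem_ql.1 hsq
    exact mem_grp c4 h1 h2.ge t
  refine ⟨_, ?_, hG, rfl, ?_, ?_⟩
  · rw [e]
    exact mul_mem (mul_mem (hQ _ (by simp) _) (hQ _ (by simp) _)) (hQ _ (by simp) _)
  all_goals
    rw [e, y_mul c4 graded4 (mul_mem (hQ _ (by simp) _) (hQ _ (by simp) _)) (hQ _ (by simp) _) (qq _ (by simp)),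
      y_mul c4 graded4 (hQ _ (by simp) _) (hQ _ (by simp) _) (qq _ (by simp)),
      yx (qq _ (by simp)) (qq _ (by simp)), yx (qq _ (by simp)) (qq _ (by simp)),
      yx (qq _ (by simp)) (qq _ (by simp))]
  · rw [v1, v2, v3]; push_cast; ring
  · rw [v4, v5, v6]; push_cast; ring

omit hHG in
theorem word_H {l : List ℕ} (h : nwd c4 (F := K) l ∈ twistedD4 K q) : nwd c4 (F := K) l ∈ H :=
  hMH _ h (fr_nwd _)

/-- an element of `H` with only the coordinates of the orbit of `19` moved -/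
theorem W_of19 {g : GL chevD4.Idx K} (hg : g ∈ Q c4 K) (hgH : g ∈ H) (h17 : f (y g 17) = y g 17) {t : K}
    (h19 : f (t - y g 19) = t - y g 19) : triF f t ∈ H := by
  set s : ℤ := sgnw c4 [0, 2, 3, 1] 18
  have hs : (s : K) * (s : K) = 1 := by rw [← Int.cast_mul, sgnw_sq, Int.cast_one]
  obtain ⟨z, hz, hzG, hze, hz19, hz17⟩ := image19 f hf hK hMH hHG ((s : K) * t)
  have hzH : z ∈ H := by
    refine absorb_reps (shape f hf hK) (classes f hf hK) hMH hHG [17, 19] reps hz hzG hg hgH fun r hr => ?_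
    simp only [List.mem_cons, List.not_mem_nil, or_false] at hr
    rcases hr with rfl | rfl
    · rw [hz17, zero_sub, map_neg, h17]
    · rw [hz19, ← mul_assoc, hs, one_mul]; exact h19
  have hn : nwd c4 (F := K) [0, 2, 3, 1] ∈ H := by
    rw [show ([0, 2, 3, 1] : List ℕ) = [0, 2, 3] ++ [1] from rfl, nwd_append]
    exact mul_mem (word_H f hf hK hMH (nwd_al f hf hK _ (by simp [al])))
      (word_H f hf hK hMH (nwd_al f hf hK _ (by simp [al])))
  have h1 : triF f ((s : K) * t) ∈ H := by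
    have := mul_mem (mul_mem (inv_mem hn) hzH) hn
    rw [hze] at this
    simpa [mul_assoc] using this
  have h2 := W_sign f hf hK hMH hHG (sgnw_cases c4 [0, 2, 3, 1] 18) h1
  rwa [← mul_assoc, hs, one_mul] at h2

/-- the moved coordinate at `17` -/
theorem W_of17 {g : GL chevD4.Idx K} (hg : g ∈ Q c4 K) (hgH : g ∈ H) {l : K} (hl : f l = l) :
    triF f (l * y g 17) ∈ H := by
  have hgF := (classes f hf hK).G1_le (hHG hgH)
  obtain ⟨h20, h21⟩ := y_orbit f hf hK hg hgF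
  have hx := W_fixed f hf hK hMH hHG (a := -l) (by rw [map_neg, hl])
  have htr : triF f (-l) = tri (-l) (-l) (-l) := by rw [triF, map_neg, hl, map_neg, hl]
  rw [htr] at hx
  obtain ⟨hQ', e17, e19⟩ := tri_y (-l) (-l) (-l) hg
  have hg' : tri (-l) (-l) (-l) * g * (tri (-l) (-l) (-l))⁻¹ * g⁻¹ ∈ H :=
    mul_mem (mul_mem (mul_mem hx hgH) (inv_mem hx)) (inv_mem hgH)
  have qq := in_ql
  have h22 : f (y g 22) = y g 22 := fix_of_rho (shape f hf hK) (qq 22 (by simp)) rho_ok.2.2.2.2.2.2.2.1 hg hgF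
  refine W_of19 f hf hK hMH hHG (mul_mem hQ' (inv_mem hg)) hg' ?_ ?_
  · rw [y_mul c4 graded4 hQ' (inv_mem hg) (qq 17 (by simp)), y_inv c4 graded4 hg (qq 17 (by simp)), e17,
      show y g 17 + -l * y g 22 + -y g 17 = -l * y g 22 by ring, map_mul, map_neg, hl, h22]
  · rw [y_mul c4 graded4 hQ' (inv_mem hg) (qq 19 (by simp)), y_inv c4 graded4 hg (qq 19 (by simp)), e19,
      h20, h21]
    simp only [map_sub, map_add, map_mul, map_neg, hl, h22, f3 f hf hK]
    ring

theorem W_preimage {a : K} (ha : triF f a ∈ H) : ∃ z ∈ Q c4 K, z ∈ H ∧ y z 17 = a ∧ y z 19 = 0 := by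
  set s : ℤ := sgnw c4 [1] 18
  have hs : (s : K) * (s : K) = 1 := by rw [← Int.cast_mul, sgnw_sq, Int.cast_one]
  obtain ⟨z, hz, -, hze, h17, h19⟩ := image17 f hf hK hMH hHG (-((s : K) * a))
  have hn := word_H f hf hK hMH (nwd_al f hf hK [1] (by simp [al]))
  refine ⟨z, hz, ?_, ?_, h19⟩
  · rw [hze]
    exact mul_mem (mul_mem hn (W_neg f hf hK hMH hHG (W_sign f hf hK hMH hHG (sgnw_cases c4 [1] 18) ha))) (inv_mem hn)
  · rw [h17, mul_neg, neg_neg, ← mul_assoc, hs, one_mul]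

theorem W_smul {a l : K} (ha : triF f a ∈ H) (hl : f l = l) : triF f (l * a) ∈ H := by
  obtain ⟨z, hz, hzH, h17, -⟩ := W_preimage f hf hK hMH hHG ha
  exact h17 ▸ W_of17 f hf hK hMH hHG hz hzH hl

theorem W_conj {a : K} (ha : triF f a ∈ H) : triF f (f a * f (f a)) ∈ H := by
  have qq := in_ql
  have h14 := mem_ql.1 (qq 14 (by simp))
  have hx : xg c4 14 (1 : K) ∈ H :=
    hMH _ (long_mem (shape f hf hK) (classes f hf hK) facts4 (nwd_al f hf hK) h14.1 rho_ok.2.2.2.2.2.2.2.2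
      (map_one f)) (by rw [fr_xg f c4, map_one])
  have hxQ : xg c4 14 (1 : K) ∈ Q c4 K := mem_grp c4 h14.1 h14.2.ge _
  obtain ⟨hQ', e17, e19⟩ := tri_y a (f a) (f (f a)) hxQ
  obtain ⟨-, -, -, -, -, -, -, -, -, -, -, -, -, -, v22, v17, v19, v20, v21⟩ := entries
  rw [yx (qq 14 (by simp)) (qq 17 (by simp)), yx (qq 14 (by simp)) (qq 22 (by simp)), v17, v22] at e17
  rw [yx (qq 14 (by simp)) (qq 19 (by simp)), yx (qq 14 (by simp)) (qq 20 (by simp)),
    yx (qq 14 (by simp)) (qq 21 (by simp)), yx (qq 14 (by simp)) (qq 22 (by simp)), v19, v20, v21, v22] at e19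
  push_cast at e17 e19
  obtain ⟨z, hz, hzH, h17, h19⟩ := W_preimage f hf hK hMH hHG ha
  refine W_of19 f hf hK hMH hHG (mul_mem hQ' (inv_mem hz))
    (mul_mem (mul_mem (mul_mem ha hx) (inv_mem ha)) (inv_mem hzH)) ?_ ?_
  · rw [y_mul c4 graded4 hQ' (inv_mem hz) (qq 17 (by simp)), y_inv c4 graded4 hz (qq 17 (by simp)), e17, h17]
    simp
  · rw [y_mul c4 graded4 hQ' (inv_mem hz) (qq 19 (by simp)), y_inv c4 graded4 hz (qq 19 (by simp)), e19, h19]
    simp

/-- a moved parameter gives all of them -/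
theorem W_all {a : K} (hne : f a ≠ a) (ha : triF f a ∈ H) (t : K) : triF f t ∈ H := by
  classical
  have ha0 : a ≠ 0 := fun h => hne (by rw [h, map_zero])
  have hN : f (a * f a * f (f a)) = a * f a * f (f a) := by rw [map_mul, map_mul, f3 f hf hK]; ring
  have hfa : f a ≠ 0 := (map_ne_zero f).2 ha0
  have hffa : f (f a) ≠ 0 := (map_ne_zero f).2 hfa
  have hinv : triF f a⁻¹ ∈ H := by
    have := W_smul f hf hK hMH hHG (W_conj f hf hK hMH hHG ha) (l := (a * f a * f (f a))⁻¹)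
      (by rw [map_inv₀, hN])
    have e : (a * f a * f (f a))⁻¹ * (f a * f (f a)) = a⁻¹ := by field_simp
    rwa [e] at this
  let φ : {t : K // t ^ q = t} × {t : K // t ^ q = t} × {t : K // t ^ q = t} → K :=
    fun p => p.1.1 + p.2.1.1 * a + p.2.2.1 * a⁻¹
  have hfix : ∀ p : {t : K // t ^ q = t}, f p.1 = p.1 := fun p => by rw [hf, p.2]
  have hinj : Function.Injective φ := by
    rintro ⟨x, y, z⟩ ⟨x', y', z'⟩ h
    simp only [φ] at h
    set X := x.1 - x'.1 with hX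
    set Y := y.1 - y'.1 with hY
    set Z := z.1 - z'.1 with hZ
    have fX : f X = X := by rw [hX, map_sub, hfix, hfix]
    have fY : f Y = Y := by rw [hY, map_sub, hfix, hfix]
    have fZ : f Z = Z := by rw [hZ, map_sub, hfix, hfix]
    have h1 : Y * a ^ 2 + X * a + Z = 0 := by
      have : (X + Y * a + Z * a⁻¹) * a = 0 := by
        rw [show X + Y * a + Z * a⁻¹ = 0 by rw [hX, hY, hZ]; linear_combination h, zero_mul]
      rw [add_mul, inv_mul_cancel_right₀ ha0] at this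
      linear_combination this
    have h2 : Y * f a ^ 2 + X * f a + Z = 0 := by
      have := congrArg f h1
      rwa [map_add, map_add, map_mul, map_mul, map_pow, fX, fY, fZ, map_zero] at this
    have h3 : Y * (f a + a) + X = 0 := by
      have : (f a - a) * (Y * (f a + a) + X) = 0 := by linear_combination h2 - h1
      exact (mul_eq_zero.1 this).resolve_left (sub_ne_zero.2 hne)
    have h4 : Y * (f (f a) + f a) + X = 0 := by
      have := congrArg f h3
      rwa [map_add, map_mul, map_add, fX, fY, map_zero] at this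
    have hY0 : Y = 0 := by
      have : (f (f a) - a) * Y = 0 := by linear_combination h4 - h3
      refine (mul_eq_zero.1 this).resolve_left (sub_ne_zero.2 fun e => hne ?_)
      have := congrArg f e
      rw [f3 f hf hK] at this
      exact this.symm
    have hX0 : X = 0 := by rw [hY0, zero_mul, zero_add] at h3; exact h3
    have hZ0 : Z = 0 := by rw [hY0, hX0] at h1; simpa using h1
    simp only [Prod.mk.injEq]
    exact ⟨Subtype.ext (sub_eq_zero.1 hX0), Subtype.ext (sub_eq_zero.1 hY0), Subtype.ext (sub_eq_zero.1 hZ0)⟩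
  have hcard : Nat.card K ≤ Nat.card ({t : K // t ^ q = t} × {t : K // t ^ q = t} × {t : K // t ^ q = t}) := by
    rw [Nat.card_prod, Nat.card_prod, TwistedField.card_fix hK, Nat.card_eq_fintype_card, hK]
    ring_nf
    exact le_rfl
  obtain ⟨⟨x, y, z⟩, hp⟩ := (hinj.bijective_of_nat_card_le hcard).surjective t
  rw [← hp]
  exact W_add f hf hK hMH hHG (W_add f hf hK hMH hHG (W_fixed f hf hK hMH hHG (hfix x))
    (W_smul f hf hK hMH hHG ha (hfix y))) (W_smul f hf hK hMH hHG hinv (hfix z))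

/-- if some element of `H` in the radical is moved then `H` is everything -/
theorem top_of_moved {g : GL chevD4.Idx K} (hgH : g ∈ H) (hg : g ∈ Q c4 K) (hne : fr f g ≠ g) :
    twistedD4 K q ≤ H := by
  set P := shape f hf hK
  have hal := nwd_al f hf hK
  have hgF := (classes f hf hK).G1_le (hHG hgH)
  obtain ⟨a, hfa, ha⟩ : ∃ a, f a ≠ a ∧ triF f a ∈ H := by
    by_cases h17 : f (y g 17) = y g 17
    · refine ⟨y g 19, fun h19 => hne (fixed_of_y P hg hgF fun b hb => ?_),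
        W_of19 f hf hK hMH hHG hg hgH h17 (by rw [sub_self, map_zero])⟩
      rcases reps b hb with hρ | ⟨r, hr, hrq, j, -, rfl⟩
      · exact fix_of_rho P hb hρ hg hgF
      · refine fix_iter P hrq hg hgF ?_ j
        simp only [List.mem_cons, List.not_mem_nil, or_false] at hr
        rcases hr with rfl | rfl
        exacts [h17, h19]
    · exact ⟨y g 17, h17, by simpa using W_of17 f hf hK hMH hHG hg hgH (map_one f)⟩
  have hall := W_all f hf hK hMH hHG hfa ha
  have htri : ∀ t : K, tri t (t ^ q) (t ^ q ^ 2) ∈ H := fun t => by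
    have := hall t
    rwa [triF, f_f f hf, hf] at this
  have htrin : ∀ t : K, trin t (t ^ q) (t ^ q ^ 2) ∈ H := by
    intro t
    obtain ⟨-, -, m1, m3, m4⟩ := moves
    obtain ⟨n1, n3, n4⟩ := names
    have hl : ∀ i ∈ [0, 2, 3], i < chevD4.rank := by decide
    have hr : ∀ r ∈ [18, 13, 12], r < chevD4.nroots := by decide +kernel
    have hnG : nwd c4 (F := K) [0, 2, 3] ∈ twistedD4 K q := hal _ (by simp [al])
    set n := nwd c4 (F := K) [0, 2, 3]
    set α : K := (sgnw c4 [0, 2, 3] 18 : K) * t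
    set β : K := (sgnw c4 [0, 2, 3] 13 : K) * t ^ q
    set γ : K := (sgnw c4 [0, 2, 3] 12 : K) * t ^ q ^ 2
    have hsq : ∀ r, (sgnw c4 [0, 2, 3] r : K) * (sgnw c4 [0, 2, 3] r : K) = 1 := fun r => by
      rw [← Int.cast_mul, sgnw_sq, Int.cast_one]
    have e : n * tri α β γ * n⁻¹ = trin t (t ^ q) (t ^ q ^ 2) := by
      rw [tri, n1, n3, n4, ← conj_mul, ← conj_mul, conj_xg c4 hl (hr 18 (by simp)),
        conj_xg c4 hl (hr 13 (by simp)), conj_xg c4 hl (hr 12 (by simp)), m1, m3, m4, ← mul_assoc, hsq, one_mul,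
        ← mul_assoc, hsq, one_mul, ← mul_assoc, hsq, one_mul]
      rfl
    have hin : tri α β γ ∈ twistedD4 K q := by
      have := mul_mem (mul_mem (inv_mem hnG) (tri_mem q t).2) hnG
      rwa [← e, show n⁻¹ * (n * tri α β γ * n⁻¹) * n = tri α β γ by group] at this
    have h5 := ((classes f hf hK).G1_le hin).2
    rw [(sg_tri f hf hK _ _ _).1] at h5
    obtain ⟨-, hb, hc⟩ := tri_inj h5
    have hnH := word_H f hf hK hMH hnG
    rw [← e, ← hc, ← hb, ← pow_mul, ← pow_two]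
    exact mul_mem (mul_mem hnH (htri α)) (inv_mem hnH)
  refine gen_le c4 ?_
  rintro w (⟨t, ht, r, hr, rfl⟩ | ⟨t, rs, hrs, rfl⟩)
  · have hr' : r < chevD4.nroots ∧ ρ₄ r = r :=
      (by decide +kernel : ∀ r ∈ [d4p2, d4m2], r < chevD4.nroots ∧ ρ₄ r = r) r hr
    have hft : f t = t := by rw [hf, ht]
    rw [show wg c4 [(r, t)] = xg c4 r t by simp [wg]]
    exact hMH _ (long_mem P (classes f hf hK) facts4 hal hr'.1 hr'.2 hft) (by rw [fr_xg f c4, hft])
  · simp only [List.mem_cons, List.not_mem_nil, or_false] at hrs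
    rcases hrs with rfl | rfl
    · rw [show wg c4 [(d4p1, t), (d4p3, t ^ q), (d4p4, t ^ q ^ 2)] = tri t (t ^ q) (t ^ q ^ 2) by
        simp [wg, tri, mul_assoc]]
      exact htri t
    · rw [show wg c4 [(d4m1, t), (d4m3, t ^ q), (d4m4, t ^ q ^ 2)] = trin t (t ^ q) (t ^ q ^ 2) by
        simp [wg, trin, mul_assoc]]
      exact htrin t

omit hMH hHG in
/-- maximality -/
theorem maximal (M : Subgroup (GL chevD4.Idx K)) (hM : ∀ g, g ∈ M ↔ g ∈ twistedD4 K q ∧ fr f g = g) :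
    M ≠ twistedD4 K q ∧ ∀ H : Subgroup (GL chevD4.Idx K), M ≤ H → H ≤ twistedD4 K q →
      H = M ∨ H = twistedD4 K q := by
  have hq := TwistedField.one_lt_base hK
  refine ⟨fun h => ?_, fun H hMH hHG => ?_⟩
  · obtain ⟨t, ht⟩ : ∃ t : K, t ^ q ≠ t := by
      by_contra hc
      push Not at hc
      have h1 : Nat.card {t : K // t ^ q = t} = Nat.card K := Nat.card_congr (Equiv.subtypeUnivEquiv hc)
      rw [TwistedField.card_fix hK, Nat.card_eq_fintype_card, hK] at h1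
      have := lt_self_pow₀ hq (by norm_num : 1 < 3)
      omega
    have h1 : tri t (t ^ q) (t ^ q ^ 2) ∈ M := h ▸ (tri_mem q t).1
    have h2 := ((hM _).1 h1).2
    rw [tri, map_mul, map_mul, fr_xg f c4, fr_xg f c4, fr_xg f c4] at h2
    have h3 : tri (f t) (f (t ^ q)) (f (t ^ q ^ 2)) = tri t (t ^ q) (t ^ q ^ 2) := h2
    exact ht (by rw [← hf]; exact (tri_inj h3).1)
  · have hMH' : ∀ g ∈ twistedD4 K q, fr f g = g → g ∈ H := fun g h1 h2 => hMH ((hM g).2 ⟨h1, h2⟩)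
    by_cases hQ : ∀ g ∈ H, g ∈ Q c4 K → fr f g = g
    · left
      refine le_antisymm (fun h hh => (hM h).2 ⟨hHG hh, ?_⟩) hMH
      exact overgroup (shape f hf hK) (classes f hf hK) facts4 (nwd_al f hf hK) hMH' hHG hQ hh
    · right
      push Not at hQ
      obtain ⟨g, h1, h2, h3⟩ := hQ
      exact le_antisymm hHG (top_of_moved f hf hK hMH' hHG h1 h2 h3)

end Cfsg.Agent.TwistSubfieldD4_33
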