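import Cfsg.Agent.Lib.ChevSubfieldPairs
import Cfsg.Agent.Lib.TwistSeed98

/-!
The grading of a Chevalley group by the highest root, and coordinates on the radical of its parabolic subgroup.
-/

set_option autoImplicit false
set_option linter.unusedSectionVars false
set_option linter.unusedSimpArgs false

namespace Cfsg.Agent.TwistSubfieldGrade33

open Cfsg.Lie Cfsg.Agent.ChevalleyEngine Cfsg.Agent.ChevalleyCert Cfsg.Agent.ChevalleyRoots
  Cfsg.Agent.ChevalleyCore Cfsg.Agent.ChevalleyTorus Cfsg.Agent.ChevalleyUnipotent Cfsg.Agent.ChevalleyExp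
  Cfsg.Agent.ChevSubfieldData Cfsg.Agent.ChevBruhat Cfsg.Agent.TwoGenCert98 Cfsg.Agent.TwistSeed98

/-- the degree of a root -/
def L (D : ChevalleyDatum) (r : ℕ) : ℤ := D.pairing (top D) r

/-- the roots of degree one -/
def ql (D : ChevalleyDatum) : List ℕ := (List.range D.nroots).filter fun r => decide (L D r = 1)

/-- the partner of a root of degree one -/
def prt (D : ChevalleyDatum) (b : ℕ) : ℕ :=
  ((ql D).find? fun s => !(D.commTerms s b).isEmpty).getD 0

/-- finite facts -/
structure Graded (D : ChevalleyDatum) : Prop where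
  lev_simple : ∀ i < D.rank,
    D.pairing (top D) (D.simple i) = if D.cartan i (top D) = 0 then 0 else 1
  top_lt : top D < D.nroots
  half : D.nroots / 2 ≤ top D
  bound : ∀ r < D.nroots, L D r ≤ 2 ∧ (L D r = 2 → r = top D)
  pos : ∀ r < D.nroots, 1 ≤ L D r → D.nroots / 2 ≤ r
  partner : ∀ b ∈ ql D, prt D b ∈ ql D ∧ prt D (prt D b) = b ∧
    ∀ s ∈ ql D, (s ≠ prt D b → D.commTerms s b = []) ∧
      ∀ hb : b < D.nroots, ∀ ht : top D < D.nroots,
        (xm D 1 s (Sum.inr ⟨top D, ht⟩) (Sum.inr ⟨b, hb⟩)).natAbs = if s = prt D b then 1 else 0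

theorem mem_ql {D : ChevalleyDatum} {r : ℕ} : r ∈ ql D ↔ r < D.nroots ∧ L D r = 1 := by
  simp [ql]

theorem wact_append {D : ChevalleyDatum} (l l' : List ℕ) (r : ℕ) :
    wact (D := D) (l ++ l') r = wact (D := D) l (wact (D := D) l' r) := by
  simp [wact, List.foldr_append]

variable {D : ChevalleyDatum} (C : Cert D) (hD : Graded D) {F : Type*} [Field F]

include C

theorem wact_pairing {l : List ℕ} (hl : ∀ i ∈ l, i < D.rank) {r s : ℕ} (hr : r < D.nroots) (hs : s < D.nroots) :
    D.pairing (wact (D := D) l r) (wact (D := D) l s) = D.pairing r s := by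
  induction l with
  | nil => rfl
  | cons i l ih =>
    have hl' : ∀ j ∈ l, j < D.rank := fun j hj => hl j (List.mem_cons_of_mem _ hj)
    rw [wact_cons, wact_cons, pairing_w C (hl i (List.mem_cons_self ..)) (wact_lt C hl' hr) (wact_lt C hl' hs),
      ih hl']

theorem L_neg {r : ℕ} (hr : r < D.nroots) : L D (D.neg r) = - L D r :=
  ChevBruhatInstance.pairing_neg C hr

include hD

theorem L_eq_deg {r : ℕ} (hr : r < D.nroots) :
    ChevalleyParabolic.deg C {i | D.cartan i (top D) = 0} r = L D r := by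
  have e : L D r = ∑ j ∈ Finset.range D.rank, C.coef r j * D.pairing (top D) (D.simple j) := by
    simp only [L, ChevalleyRoots.pairing_eq C, Finset.mul_sum]
    rw [Finset.sum_comm]
    refine Finset.sum_congr rfl fun i hi => ?_
    rw [cartan_lin' C (Finset.mem_range.1 hi) hr, Finset.mul_sum]
    exact Finset.sum_congr rfl fun j _ => by ring
  rw [e, ChevalleyParabolic.deg]
  refine Finset.sum_congr rfl fun j hj => ?_
  rw [hD.lev_simple j (Finset.mem_range.1 hj)]
  simp only [Set.mem_ofPred_eq]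
  split <;> simp

theorem L_ge {r : ℕ} (hr : r < D.nroots) : -2 ≤ L D r := by
  have := (hD.bound _ (C.neg_lt r)).1
  rw [L_neg C hr] at this
  omega

theorem L_terms {r s : ℕ} (hr : r < D.nroots) (hs : s < D.nroots) {c : ℕ × ℤ × ℕ × ℕ}
    (hc : c ∈ D.commTerms r s) : c.1 < D.nroots ∧ L D c.1 = c.2.2.1 * L D r + c.2.2.2 * L D s ∧
      1 ≤ c.2.2.1 ∧ 1 ≤ c.2.2.2 := by
  obtain ⟨h1, h2, h3, h4⟩ := commTerms_mem C hr hs hc
  refine ⟨h1, ?_, h2, h3⟩
  rw [← L_eq_deg C hD h1, ← L_eq_deg C hD hr, ← L_eq_deg C hD hs]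
  simp only [ChevalleyParabolic.deg, Finset.mul_sum, ← Finset.sum_add_distrib]
  refine Finset.sum_congr rfl fun j hj => ?_
  split
  · simp
  · exact h4 j (Finset.mem_range.1 hj)

/-- elements of high degree commute -/
theorem commute_high {r s : ℕ} (hr : r < D.nroots) (hs : s < D.nroots) (h : 3 ≤ L D r + L D s) (t u : F) :
    Commute (xg C r t) (xg C s u) := by
  by_cases h1 : s = r
  · subst h1
    show _ * _ = _ * _
    rw [xg_mul, xg_mul, add_comm]
  refine ChevRootCentralizer.comm_of_terms C hr hs h1 (fun h2 => ?_) (fun c hc => ?_) t u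
  · rw [h2, L_neg C hr] at h
    omega
  · obtain ⟨e1, e2, e3, e4⟩ := L_terms C hD hr hs hc
    have := (hD.bound _ e1).1
    have := (hD.bound _ hr).1
    have := (hD.bound _ hs).1
    exfalso
    have h5 : (1 : ℤ) ≤ c.2.2.1 := by exact_mod_cast e3
    have h6 : (1 : ℤ) ≤ c.2.2.2 := by exact_mod_cast e4
    nlinarith

/-- elements of low degree commute -/
theorem commute_low {r s : ℕ} (hr : r < D.nroots) (hs : s < D.nroots) (h : L D r + L D s ≤ -3) (t u : F) :
    Commute (xg C r t) (xg C s u) := by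
  by_cases h1 : s = r
  · subst h1
    show _ * _ = _ * _
    rw [xg_mul, xg_mul, add_comm]
  refine ChevRootCentralizer.comm_of_terms C hr hs h1 (fun h2 => ?_) (fun c hc => ?_) t u
  · rw [h2, L_neg C hr] at h
    omega
  · obtain ⟨e1, e2, e3, e4⟩ := L_terms C hD hr hs hc
    have := L_ge C hD e1
    have := L_ge C hD hr
    have := L_ge C hD hs
    exfalso
    have h5 : (1 : ℤ) ≤ c.2.2.1 := by exact_mod_cast e3
    have h6 : (1 : ℤ) ≤ c.2.2.2 := by exact_mod_cast e4
    nlinarith

omit hD in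
theorem top_ge_half {r : ℕ} (h : r = top D) (hh : D.nroots / 2 ≤ top D) : D.nroots / 2 ≤ r := h ▸ hh

/-- the highest root element commutes with degrees `≥ 0` -/
theorem top_commute {s : ℕ} (hs : s < D.nroots) (h : 0 ≤ L D s) (t u : F) :
    Commute (xg C (top D) t) (xg C s u) := by
  have hT := hD.top_lt
  have e : L D (top D) = 2 := C.pair_self _ hT
  by_cases h1 : s = top D
  · subst h1
    show _ * _ = _ * _
    rw [xg_mul, xg_mul, add_comm]
  refine ChevRootCentralizer.comm_of_terms C hT hs h1 (fun h2 => ?_) (fun c hc => ?_) t u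
  · rw [h2, L_neg C hT, e] at h
    omega
  · obtain ⟨e1, e2, e3, e4⟩ := L_terms C hD hT hs hc
    rw [e] at e2
    have := (hD.bound _ e1)
    exfalso
    have h5 : (1 : ℤ) ≤ c.2.2.1 := by exact_mod_cast e3
    have h7 : L D c.1 = 2 := by
      have : (0 : ℤ) ≤ (c.2.2.2 : ℤ) * L D s := mul_nonneg (Int.natCast_nonneg _) h
      omega
    have h8 := this.2 h7
    have hc' := commTerms_mem C hT hs hc
    by_cases h0 : L D s = 0
    · refine key_ne_zero C hs ?_
      have h9 : ∀ j, j < D.rank → C.coef c.1 j = (c.2.2.1 : ℤ) * C.coef (top D) j + (c.2.2.2 : ℤ) * C.coef s j :=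
        hc'.2.2.2
      have h10 := key_lin C (r := top D) (s := s) (k := c.1) _ _ h9
      have h11 : (c.2.2.1 : ℤ) = 1 := by
        rw [h0] at e2
        omega
      rw [h8, h11, one_mul] at h10
      have h12 : (c.2.2.2 : ℤ) * key C s = 0 := by linarith
      exact (mul_eq_zero.1 h12).resolve_left (by exact_mod_cast Nat.one_le_iff_ne_zero.1 e4)
    · have h6 : (1 : ℤ) ≤ c.2.2.2 := by exact_mod_cast e4
      have h13 : (1 : ℤ) ≤ L D s := by omega
      nlinarith

/-- the lowest root element commutes with degrees `≤ 0` -/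
theorem bot_commute {s : ℕ} (hs : s < D.nroots) (h : L D s ≤ 0) (t u : F) :
    Commute (xg C (D.neg (top D)) t) (xg C s u) := by
  have hT := hD.top_lt
  have e : L D (D.neg (top D)) = -2 := by
    rw [L_neg C hT]
    show -D.pairing (top D) (top D) = -2
    rw [C.pair_self _ hT]
  by_cases h1 : s = D.neg (top D)
  · subst h1
    show _ * _ = _ * _
    rw [xg_mul, xg_mul, add_comm]
  refine ChevRootCentralizer.comm_of_terms C (C.neg_lt _) hs h1 (fun h2 => ?_) (fun c hc => ?_) t u
  · rw [neg_neg' C hT] at h2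
    have : L D (top D) = 2 := C.pair_self _ hT
    rw [h2, this] at h
    omega
  · obtain ⟨e1, e2, e3, e4⟩ := L_terms C hD (C.neg_lt _) hs hc
    rw [e] at e2
    have h14 := L_ge C hD e1
    exfalso
    have h5 : (1 : ℤ) ≤ c.2.2.1 := by exact_mod_cast e3
    have h6 : (1 : ℤ) ≤ c.2.2.2 := by exact_mod_cast e4
    have h7 : L D c.1 = -2 := by nlinarith
    have h8 : c.1 = D.neg (top D) := by
      have := (hD.bound _ (C.neg_lt c.1)).2 (by rw [L_neg C e1, h7]; norm_num)
      rw [← this, neg_neg' C e1]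
    have hc' := commTerms_mem C (C.neg_lt (top D)) hs hc
    by_cases h0 : L D s = 0
    · refine key_ne_zero C hs ?_
      have h10 := key_lin C (r := D.neg (top D)) (s := s) (k := c.1) _ _ hc'.2.2.2
      have h11 : (c.2.2.1 : ℤ) = 1 := by rw [h0, h7] at e2; omega
      rw [h8, h11, one_mul] at h10
      have h12 : (c.2.2.2 : ℤ) * key C s = 0 := by linarith
      exact (mul_eq_zero.1 h12).resolve_left (by exact_mod_cast Nat.one_le_iff_ne_zero.1 e4)
    · have h13 : L D s ≤ -1 := by omega
      nlinarith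

/-! ### subgroups -/

omit C hD in
/-- the root subgroups of a predicate -/
def grp (C : Cert D) (F : Type*) [Field F] (P : ℕ → Prop) : Subgroup (GL D.Idx F) :=
  Subgroup.closure {g | ∃ (r : ℕ) (t : F), r < D.nroots ∧ P r ∧ g = xg C r t}

omit hD in
theorem mem_grp {P : ℕ → Prop} {r : ℕ} (hr : r < D.nroots) (h : P r) (t : F) : xg C r t ∈ grp C F P :=
  Subgroup.subset_closure ⟨r, t, hr, h, rfl⟩

omit hD in
theorem grp_le_group (P : ℕ → Prop) : grp C F P ≤ D.group F := by
  refine (Subgroup.closure_le _).2 ?_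
  rintro g ⟨r, t, -, -, rfl⟩
  exact xg_mem_group C r t

omit hD in
theorem grp_mono {P P' : ℕ → Prop} (h : ∀ r, r < D.nroots → P r → P' r) : grp C F P ≤ grp C F P' := by
  refine (Subgroup.closure_le _).2 ?_
  rintro g ⟨r, t, h1, h2, rfl⟩
  exact mem_grp C h1 (h r h1 h2) t

/-- the radical -/
abbrev Q (C : Cert D) (F : Type*) [Field F] : Subgroup (GL D.Idx F) := grp C F fun r => 1 ≤ L D r

/-- the opposite radical -/
abbrev Qn (C : Cert D) (F : Type*) [Field F] : Subgroup (GL D.Idx F) := grp C F fun r => L D r ≤ -1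

theorem Q_le_U : Q C F ≤ D.posUnipotent F := by
  refine (Subgroup.closure_le _).2 ?_
  rintro g ⟨r, t, h1, h2, rfl⟩
  exact ChevalleyUnipotent.xg_mem_U C (hD.pos r h1 h2) h1 t

/-- root elements of degree `≥ 0` normalise the radical -/
theorem conj_Q {r : ℕ} (hr : r < D.nroots) (h : 0 ≤ L D r) (t : F) {z : GL D.Idx F} (hz : z ∈ Q C F) :
    xg C r t * z * (xg C r t)⁻¹ ∈ Q C F := by
  refine Sys.conj_closure_le (T := {g : GL D.Idx F | ∃ (s : ℕ) (u : F), s < D.nroots ∧ 1 ≤ L D s ∧ g = xg C s u})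
    _ ?_ hz
  rintro g ⟨s, u, hs, h2, rfl⟩
  by_cases h1 : s = r
  · subst h1
    rw [xg_inv, xg_mul, xg_mul, show t + u + -t = u by ring]
    exact mem_grp C hr h2 u
  have h3 : s ≠ D.neg r := fun e => by
    rw [e, L_neg C hr] at h2
    omega
  have hx : xg C r t * xg C s u * (xg C r t)⁻¹ = xg C s u * wg C (D.commWord F r s (-t) u) := by
    have h4 := comm_formula C hr hs h1 h3 (-t) u
    rw [xg_inv, mul_assoc, h4, ← mul_assoc, ← mul_assoc, xg_mul, add_neg_cancel, xg_zero, one_mul]
  rw [hx]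
  refine mul_mem (mem_grp C hs h2 u) (Subgroup.list_prod_mem _ fun g hg => ?_)
  obtain ⟨p, hp, rfl⟩ := List.mem_map.1 hg
  obtain ⟨c, hc, rfl⟩ := List.mem_map.1 hp
  obtain ⟨e1, e2, e3, e4⟩ := L_terms C hD hr hs hc
  refine mem_grp C e1 ?_ _
  show 1 ≤ L D c.1
  have h6 : (1 : ℤ) ≤ c.2.2.2 := by exact_mod_cast e4
  have : (0 : ℤ) ≤ (c.2.2.1 : ℤ) * L D r := mul_nonneg (Int.natCast_nonneg _) h
  nlinarith

/-- the weight -/
noncomputable def wt (C : Cert D) : D.Idx → ℤ := ChevalleyParabolic.wJ C {i | D.cartan i (top D) = 0}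

theorem wt_root {r : Fin D.nroots} : wt C (Sum.inr r) = L D r := by
  rw [← L_eq_deg C hD r.isLt]
  rfl

omit hD in
theorem wt_cartan (i : Fin D.rank) : wt C (Sum.inl i) = 0 := by
  simp [wt, ChevalleyParabolic.wJ, ChevalleyAdjoint.cf]

theorem xm_wt {k r : ℕ} (hk : 1 ≤ k) (hr : r < D.nroots) {a b : D.Idx} (h : xm D k r a b ≠ 0) :
    wt C a = wt C b + k * L D r := by
  rw [← L_eq_deg C hD hr]
  exact ChevalleyParabolic.xm_wJ C hk hr h

theorem Q_upper : Q C F ≤ upperAt (wt C) 1 := by
  refine (Subgroup.closure_le _).2 ?_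
  rintro g ⟨r, t, hr, h2, rfl⟩
  refine ChevalleyParabolic.xg_mem_weight C hr (fun k hk a b hab => ?_) t
  rw [xm_wt C hD hk hr hab]
  have hk1 : (1 : ℤ) ≤ k := by exact_mod_cast hk
  push_cast
  nlinarith

theorem Qn_upper : Qn C F ≤ upperAt (fun q => - wt C q) 1 := by
  refine (Subgroup.closure_le _).2 ?_
  rintro g ⟨r, t, hr, h2, rfl⟩
  refine ChevalleyParabolic.xg_mem_weight C hr (fun k hk a b hab => ?_) t
  rw [xm_wt C hD hk hr hab]
  have hk1 : (1 : ℤ) ≤ k := by exact_mod_cast hk
  push_cast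
  nlinarith

theorem parabolic_upper : D.parabolicSubgroup F {i | D.cartan i (top D) = 0} ≤ upperAt (wt C) 0 := by
  rw [← ChevalleyParabolic.radical_sup_levi C]
  refine sup_le (fun y hy => ?_) (sup_le (fun g hg => ChevalleyParabolic.H_mem_weight C hg) ?_)
  · have h1 := ChevalleyParabolic.radical_le C _ hy
    exact ⟨raise_mono _ (by norm_num) h1.1, raise_mono _ (by norm_num) h1.2⟩
  · refine (Subgroup.closure_le _).2 ?_
    rintro y ⟨r, t, hr, hy⟩
    obtain rfl := (xg_eq_iff C).1 hy
    refine ChevalleyParabolic.xg_mem_weight C hr.1 (fun k hk a b hab => ?_) t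
    rw [xm_wt C hD hk hr.1 hab, ← L_eq_deg C hD hr.1, ChevalleyParabolic.deg_in C hr]
    simp

/-- the opposite radical meets the parabolic subgroup trivially -/
theorem Qn_inf_parabolic {g : GL D.Idx F} (h : g ∈ Qn C F)
    (h' : g ∈ D.parabolicSubgroup F {i | D.cartan i (top D) = 0}) : g = 1 := by
  have h1 := Qn_upper C hD h
  refine eq_one_of_diag _ le_rfl h1 fun i j hij => ?_
  by_contra hne
  have a := (parabolic_upper C hD h').1 i j (by simpa [Matrix.one_apply_ne hij] using hne)
  have b := h1.1 i j (by simpa [Matrix.one_apply_ne hij] using hne)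
  simp only at b
  push_cast at a b
  omega

/-! ### coordinates on the radical -/

omit C hD in
/-- the coordinate at a root of degree one -/
def y (g : GL D.Idx F) (b : ℕ) : F :=
  if h : b < D.nroots ∧ top D < D.nroots then
    (g : Matrix D.Idx D.Idx F) (Sum.inr ⟨top D, h.2⟩) (Sum.inr ⟨b, h.1⟩)
  else 0

theorem y_mul {g g' : GL D.Idx F} (hg : g ∈ Q C F) (hg' : g' ∈ Q C F) {b : ℕ} (hb : b ∈ ql D) :
    y (g * g') b = y g b + y g' b := by
  obtain ⟨hb1, hb2⟩ := mem_ql.1 hb
  have hne : top D ≠ b := fun e => by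
    have : L D (top D) = 2 := C.pair_self _ hD.top_lt
    rw [e, hb2] at this
    omega
  simp only [y, dif_pos (And.intro hb1 hD.top_lt), Units.val_mul, Matrix.mul_apply]
  set T : D.Idx := Sum.inr ⟨top D, hD.top_lt⟩
  set B : D.Idx := Sum.inr ⟨b, hb1⟩
  have hTB : T ≠ B := fun e => hne (congrArg Fin.val (Sum.inr.inj e))
  have wT : wt C T = 2 := (wt_root C hD).trans (C.pair_self _ hD.top_lt)
  have wB : wt C B = 1 := (wt_root C hD).trans hb2
  rw [Finset.sum_eq_add T B hTB ?_ (by simp) (by simp)]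
  · have e1 : (g : Matrix D.Idx D.Idx F) T T = 1 := upperAt_diag _ le_rfl (Q_upper C hD hg) T
    have e2 : (g' : Matrix D.Idx D.Idx F) B B = 1 := upperAt_diag _ le_rfl (Q_upper C hD hg') B
    rw [e1, e2, one_mul, mul_one, add_comm]
  · rintro i - ⟨hiT, hiB⟩
    by_cases hw : wt C i ≤ 1
    · rw [upperAt_entry _ (Q_upper C hD hg') (i := i) (j := B) (by push_cast; omega), Matrix.one_apply_ne hiB,
        mul_zero]
    · exfalso
      rcases i with a | s
      · rw [wt_cartan C] at hw
        omega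
      · rw [wt_root C hD] at hw
        obtain ⟨h1, h2⟩ := hD.bound s s.isLt
        exact hiT (congrArg Sum.inr (Fin.ext (h2 (by omega))))

theorem y_one {b : ℕ} (hb : b ∈ ql D) : y (1 : GL D.Idx F) b = 0 := by
  have h := y_mul C hD (one_mem (Q C F)) (one_mem (Q C F)) hb
  rwa [mul_one, left_eq_add] at h

theorem y_inv {g : GL D.Idx F} (hg : g ∈ Q C F) {b : ℕ} (hb : b ∈ ql D) : y g⁻¹ b = - y g b := by
  have h := y_mul C hD hg (inv_mem hg) hb
  rw [mul_inv_cancel, y_one C hD hb] at h
  linear_combination -h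

theorem y_xg {s : ℕ} (hs : s < D.nroots) (h1 : 1 ≤ L D s) (t : F) {b : ℕ} (hb : b ∈ ql D)
    (hbn : b < D.nroots) :
    y (xg C s t) b = (xm D 1 s (Sum.inr ⟨top D, hD.top_lt⟩) (Sum.inr ⟨b, hbn⟩) : F) * t := by
  obtain ⟨hb1, hb2⟩ := mem_ql.1 hb
  have hne : top D ≠ b := fun e => by
    have : L D (top D) = 2 := C.pair_self _ hD.top_lt
    rw [e, hb2] at this
    omega
  simp only [y, dif_pos (And.intro hb1 hD.top_lt), coe_xg, x_eq_xR C hs, xR, Matrix.add_apply, Matrix.smul_apply,
    smul_eq_mul, castM, Matrix.map_apply, Int.coe_castRingHom]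
  have hz : ∀ k, 2 ≤ k → xm D k s (Sum.inr ⟨top D, hD.top_lt⟩) (Sum.inr ⟨b, hb1⟩) = 0 := fun k hk => by
    by_contra h0
    have := xm_wt C hD (k := k) (by omega) hs h0
    rw [wt_root C hD, wt_root C hD] at this
    simp only at this
    rw [hb2, show L D (top D) = 2 from C.pair_self _ hD.top_lt] at this
    have hk2 : (2 : ℤ) ≤ k := by exact_mod_cast hk
    nlinarith
  rw [Matrix.one_apply_ne fun e => hne (congrArg Fin.val (Sum.inr.inj e)), hz 2 le_rfl, hz 3 (by norm_num),
    Int.cast_zero, mul_zero, mul_zero, add_zero, add_zero, zero_add, mul_comm]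

theorem y_top (t : F) {b : ℕ} (hb : b ∈ ql D) : y (xg C (top D) t) b = 0 := by
  obtain ⟨hb1, hb2⟩ := mem_ql.1 hb
  have hT2 : L D (top D) = 2 := C.pair_self _ hD.top_lt
  rw [y_xg C hD hD.top_lt (by omega) t hb hb1]
  have : xm D 1 (top D) (Sum.inr ⟨top D, hD.top_lt⟩) (Sum.inr ⟨b, hb1⟩) = 0 := by
    by_contra h0
    have h := xm_wt C hD (k := 1) le_rfl hD.top_lt h0
    rw [wt_root C hD, wt_root C hD, hT2, hb2] at h
    omega
  rw [this, Int.cast_zero, zero_mul]

/-- the sign of the coordinate at `b` of its partner -/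
theorem y_partner {b : ℕ} (hb : b ∈ ql D) : ∃ e : F, e * e = 1 ∧
    ∀ s ∈ ql D, ∀ t : F, y (xg C s t) b = if s = prt D b then e * t else 0 := by
  obtain ⟨hb1, -⟩ := mem_ql.1 hb
  obtain ⟨hp, -, hP⟩ := hD.partner b hb
  set N : ℤ := xm D 1 (prt D b) (Sum.inr ⟨top D, hD.top_lt⟩) (Sum.inr ⟨b, hb1⟩)
  have hN : N.natAbs = 1 := by simpa using (hP _ hp).2 hb1 hD.top_lt
  refine ⟨(N : F), ?_, fun s hs t => ?_⟩
  · rcases Int.natAbs_eq N with e | e <;> rw [e, hN] <;> simp
  · obtain ⟨hs1, hs2⟩ := mem_ql.1 hs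
    rw [y_xg C hD hs1 (by omega) t hb hb1]
    split
    · rename_i e; subst e; rfl
    · rename_i e
      have := (hP s hs).2 hb1 hD.top_lt
      rw [if_neg e, Int.natAbs_eq_zero] at this
      rw [this, Int.cast_zero, zero_mul]

theorem ql_commute {s r : ℕ} (hs : s ∈ ql D) (hr : r ∈ ql D) (h : s ≠ prt D r) (hne : r ≠ s) (t u : F) :
    Commute (xg C s t) (xg C r u) := by
  obtain ⟨hs1, hs2⟩ := mem_ql.1 hs
  obtain ⟨hr1, hr2⟩ := mem_ql.1 hr
  refine ChevRootCentralizer.comm_of_terms C hs1 hr1 hne (fun e => ?_) (fun c hc => ?_) t u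
  · rw [e, L_neg C hs1] at hr2
    omega
  · rw [((hD.partner r hr).2.2 s hs).1 h] at hc
    simp at hc

omit hD in
/-- an ordered product over a list -/
noncomputable def Phi (C : Cert D) (l : List ℕ) (c : ℕ → F) : GL D.Idx F := (l.map fun s => xg C s (c s)).prod

theorem top_central {z : GL D.Idx F} (hz : z ∈ Q C F) (t : F) : Commute (xg C (top D) t) z := by
  induction hz using Subgroup.closure_induction with
  | mem g hg =>
    obtain ⟨s, u, hs, h1, rfl⟩ := hg
    exact top_commute C hD hs (le_trans (by norm_num) h1) t u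
  | one => exact Commute.one_right _
  | mul a b _ _ ha hb => exact ha.mul_right hb
  | inv a _ ha => exact ha.inv_right

theorem Phi_mem {l : List ℕ} (hl : ∀ s ∈ l, s ∈ ql D) (c : ℕ → F) : Phi C l c ∈ Q C F := by
  refine Subgroup.list_prod_mem _ fun g hg => ?_
  obtain ⟨s, hs, rfl⟩ := List.mem_map.1 hg
  obtain ⟨h1, h2⟩ := mem_ql.1 (hl s hs)
  exact mem_grp C h1 (by simp [h2]) _

/-- inserting a root element into an ordered product -/
theorem Phi_insert {l : List ℕ} (hnd : l.Nodup) (hl : ∀ r ∈ l, r ∈ ql D) {s : ℕ} (hs : s ∈ l) (t : F)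
    (c : ℕ → F) : ∃ e : F, xg C s t * Phi C l c = Phi C l (Function.update c s (t + c s)) * xg C (top D) e := by
  induction l with
  | nil => simp at hs
  | cons r l ih =>
    rw [List.nodup_cons] at hnd
    have hl' : ∀ q ∈ l, q ∈ ql D := fun q hq => hl q (List.mem_cons_of_mem _ hq)
    have e0 : ∀ d : ℕ → F, Phi C (r :: l) d = xg C r (d r) * Phi C l d := fun d => by simp [Phi]
    by_cases hsr : s = r
    · subst hsr
      refine ⟨0, ?_⟩
      have : Phi C l (Function.update c s (t + c s)) = Phi C l c := by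
        unfold Phi
        congr 1
        refine List.map_congr_left fun q hq => ?_
        rw [Function.update_of_ne (by rintro rfl; exact hnd.1 hq)]
      rw [e0, e0, this, xg_zero, mul_one, ← mul_assoc, xg_mul, Function.update_self]
    · have hs' : s ∈ l := (List.mem_cons.1 hs).resolve_left hsr
      obtain ⟨e, he⟩ := ih hnd.2 hl' hs'
      obtain ⟨hs1, hs2⟩ := mem_ql.1 (hl' s hs')
      obtain ⟨hr1, hr2⟩ := mem_ql.1 (hl r (List.mem_cons_self ..))
      obtain ⟨d, hd⟩ : ∃ d : F, xg C s t * xg C r (c r) = xg C r (c r) * xg C s t * xg C (top D) d := by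
        have hne : r ≠ D.neg s := fun e => by
          rw [e, L_neg C hs1] at hr2
          omega
        have hne' : s ≠ D.neg r := fun e => by
          rw [e, L_neg C hr1] at hs2
          omega
        rw [comm_formula C hr1 hs1 (fun e => hsr e) hne' (c r) t]
        have hall : ∀ p ∈ D.commWord F r s (c r) t, p.1 = top D := by
          intro p hp
          obtain ⟨q, hq, rfl⟩ := List.mem_map.1 hp
          obtain ⟨e1, e2, e3, e4⟩ := L_terms C hD hr1 hs1 hq
          obtain ⟨b1, b2⟩ := hD.bound _ e1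
          have h5 : (1 : ℤ) ≤ q.2.2.1 := by exact_mod_cast e3
          have h6 : (1 : ℤ) ≤ q.2.2.2 := by exact_mod_cast e4
          rw [hr2, hs2] at e2
          exact b2 (by omega)
        refine ⟨((D.commWord F r s (c r) t).map Prod.snd).sum, ?_⟩
        congr 1
        generalize D.commWord F r s (c r) t = w at hall ⊢
        induction w with
        | nil => simp [wg, xg_zero]
        | cons p w ihw =>
          have h0 := hall p (List.mem_cons_self ..)
          have h1 := ihw fun q hq => hall q (List.mem_cons_of_mem _ hq)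
          have : wg C (p :: w) = xg C p.1 p.2 * wg C w := by simp [wg]
          rw [this, h1, h0, xg_mul, List.map_cons, List.sum_cons]
      refine ⟨e + d, ?_⟩
      rw [e0, e0, Function.update_of_ne (fun h => hsr h.symm)]
      have hc : Commute (xg C (top D) d) (Phi C l (Function.update c s (t + c s)) * xg C (top D) e) :=
        top_central C hD (mul_mem (Phi_mem C hD hl' _)
          (mem_grp C hD.top_lt (by rw [show L D (top D) = 2 from C.pair_self _ hD.top_lt]; norm_num) e)) d
      calc xg C s t * (xg C r (c r) * Phi C l c) = xg C r (c r) * xg C s t * xg C (top D) d * Phi C l c := by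
            rw [← mul_assoc, hd]
        _ = xg C r (c r) * (xg C (top D) d * (xg C s t * Phi C l c)) := by
            have hc2 := top_central C hD (mem_grp C hs1 (show (1 : ℤ) ≤ L D s by omega) t) d
            rw [mul_assoc (xg C r (c r)), mul_assoc (xg C r (c r)), ← hc2.eq]
            group
        _ = _ := by
            rw [he, hc.eq, ← xg_mul]
            group

/-- the ordered form of an element of the radical -/
theorem Q_form {l : List ℕ} (hnd : l.Nodup) (hl : ∀ r, r ∈ l ↔ r ∈ ql D) {g : GL D.Idx F} (hg : g ∈ Q C F) :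
    ∃ (c : ℕ → F) (d : F), g = Phi C l c * xg C (top D) d := by
  have hl' : ∀ r ∈ l, r ∈ ql D := fun r hr => (hl r).1 hr
  have step : ∀ (s : ℕ) (t : F), s < D.nroots → 1 ≤ L D s → ∀ (c : ℕ → F) (d : F),
      ∃ (c' : ℕ → F) (d' : F), xg C s t * (Phi C l c * xg C (top D) d) = Phi C l c' * xg C (top D) d' := by
    intro s t hs h1 c d
    obtain ⟨b1, b2⟩ := hD.bound s hs
    by_cases h2 : L D s = 1
    · obtain ⟨e, he⟩ := Phi_insert C hD hnd hl' ((hl s).2 (mem_ql.2 ⟨hs, h2⟩)) t c
      refine ⟨Function.update c s (t + c s), e + d, ?_⟩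
      rw [← mul_assoc, he, mul_assoc, xg_mul]
    · obtain rfl := b2 (by omega)
      refine ⟨c, t + d, ?_⟩
      rw [← mul_assoc, (top_central C hD (Phi_mem C hD hl' c) _).eq, mul_assoc, xg_mul]
  refine Subgroup.closure_induction_left (p := fun x _ => ∃ (c : ℕ → F) (d : F), x = Phi C l c * xg C (top D) d)
    ⟨fun _ => 0, 0, ?_⟩ (fun x hx y _ ih => ?_) (fun x hx y _ ih => ?_) hg
  · have : Phi C l (fun _ => (0 : F)) = 1 := by
      unfold Phi
      refine List.prod_eq_one fun g hg => ?_
      obtain ⟨s, -, rfl⟩ := List.mem_map.1 hg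
      exact xg_zero C s
    rw [this, one_mul, xg_zero]
  all_goals
    obtain ⟨s, t, hs, h1, rfl⟩ := hx
    obtain ⟨c, d, rfl⟩ := ih
  · exact step s t hs h1 c d
  · rw [xg_inv]
    exact step s (-t) hs h1 c d

theorem y_Phi {l : List ℕ} (hnd : l.Nodup) (hl : ∀ r ∈ l, r ∈ ql D) (c : ℕ → F) {b : ℕ} (hb : b ∈ ql D)
    {e : F} (he : ∀ s ∈ ql D, ∀ t : F, y (xg C s t) b = if s = prt D b then e * t else 0) :
    y (Phi C l c) b = if prt D b ∈ l then e * c (prt D b) else 0 := by
  induction l with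
  | nil => simp [Phi, y_one C hD hb]
  | cons r l ih =>
    rw [List.nodup_cons] at hnd
    obtain ⟨hr1, hr2⟩ := mem_ql.1 (hl r (List.mem_cons_self ..))
    have hl' : ∀ q ∈ l, q ∈ ql D := fun q hq => hl q (List.mem_cons_of_mem _ hq)
    have e0 : Phi C (r :: l) c = xg C r (c r) * Phi C l c := by simp [Phi]
    rw [e0, y_mul C hD (mem_grp C hr1 (show (1 : ℤ) ≤ L D r by omega) _) (Phi_mem C hD hl' c) hb,
      he r (hl r (List.mem_cons_self ..)), ih hnd.2 hl']
    by_cases h : r = prt D b
    · subst h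
      rw [if_pos rfl, if_neg hnd.1, if_pos (List.mem_cons_self ..), add_zero]
    · rw [if_neg h, zero_add]
      have : prt D b ∈ r :: l ↔ prt D b ∈ l := by simp [Ne.symm h]
      simp only [this]

/-- only the highest root subgroup has no coordinates -/
theorem eq_top_of_y {g : GL D.Idx F} (hg : g ∈ Q C F) (h : ∀ b ∈ ql D, y g b = 0) :
    ∃ d : F, g = xg C (top D) d := by
  have hnd : (ql D).Nodup := List.nodup_range.filter _
  obtain ⟨c, d, rfl⟩ := Q_form C hD hnd (fun r => Iff.rfl) hg
  refine ⟨d, ?_⟩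
  suffices Phi C (ql D) c = 1 by rw [this, one_mul]
  refine List.prod_eq_one fun g hg => ?_
  obtain ⟨s, hs, rfl⟩ := List.mem_map.1 hg
  obtain ⟨hs1, hs2⟩ := mem_ql.1 hs
  obtain ⟨hb, hps, -⟩ := hD.partner s hs
  obtain ⟨e, hee, he⟩ := y_partner C hD (F := F) hb
  have h1 := h _ hb
  rw [y_mul C hD (Phi_mem C hD (fun r hr => hr) c)
      (mem_grp C hD.top_lt (by rw [show L D (top D) = 2 from C.pair_self _ hD.top_lt]; norm_num) d) hb,
    y_top C hD d hb, add_zero, y_Phi C hD hnd (fun r hr => hr) c hb he, hps, if_pos hs] at h1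
  have : c s = 0 := by
    have h2 := congrArg (e * ·) h1
    simpa [← mul_assoc, hee] using h2
  rw [this, xg_zero]

/-- `y = 0` at `a` makes the element commute with `x_a` -/
theorem commute_of_y {a : ℕ} (ha : a ∈ ql D) {g : GL D.Idx F} (hg : g ∈ Q C F) (h : y g a = 0) (u : F) :
    Commute (xg C a u) g := by
  have hnd : (ql D).Nodup := List.nodup_range.filter _
  obtain ⟨c, d, rfl⟩ := Q_form C hD hnd (fun r => Iff.rfl) hg
  obtain ⟨ha1, ha2⟩ := mem_ql.1 ha
  obtain ⟨hb, -, hP⟩ := hD.partner a ha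
  obtain ⟨e, hee, he⟩ := y_partner C hD (F := F) ha
  rw [y_mul C hD (Phi_mem C hD (fun r hr => hr) c)
      (mem_grp C hD.top_lt (by rw [show L D (top D) = 2 from C.pair_self _ hD.top_lt]; norm_num) d) ha,
    y_top C hD d ha, add_zero, y_Phi C hD hnd (fun r hr => hr) c ha he, if_pos hb] at h
  have hc : c (prt D a) = 0 := by
    have h2 := congrArg (e * ·) h
    simpa [← mul_assoc, hee] using h2
  refine (Commute.list_prod_right _ _ fun g hg => ?_).mul_right
    (top_central C hD (mem_grp C ha1 (show (1 : ℤ) ≤ L D a by omega) u) d).symm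
  obtain ⟨s, hs, rfl⟩ := List.mem_map.1 hg
  by_cases h1 : s = a
  · subst h1
    show _ * _ = _ * _
    rw [xg_mul, xg_mul, add_comm]
  by_cases h2 : s = prt D a
  · subst h2
    rw [hc, xg_zero]
    exact Commute.one_right _
  exact (ql_commute C hD hs ha h2 (Ne.symm h1) _ u).symm

/-! ### centralisers -/

variable (S : Sys D F)

include S in
/-- a word moving a positive predicate into the opposite radical -/
theorem word_conj_grp {l : List ℕ} (hl : ∀ i ∈ l, i < D.rank) {P P' : ℕ → Prop}
    (h : ∀ s < D.nroots, P s → P' (wact (D := D) l s)) {g : GL D.Idx F} (hg : g ∈ grp C F P) :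
    nwd C l * g * (nwd C l)⁻¹ ∈ grp C F P' := by
  refine Sys.conj_closure_le (T := {g : GL D.Idx F | ∃ (r : ℕ) (t : F), r < D.nroots ∧ P r ∧ g = xg C r t})
    _ ?_ hg
  rintro x ⟨r, t, hr, hP, rfl⟩
  rw [conj_xg C hl hr]
  exact mem_grp C (wact_lt C hl hr) (h r hr hP) _

include S in
/-- elements of the opposite radical commuting with the highest root element -/
theorem Qn_commute_top {g : GL D.Idx F} (hg : g ∈ Qn C F) {t : F} (ht : t ≠ 0)
    (h : Commute g (xg C (top D) t)) : g = 1 := by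
  refine Qn_inf_parabolic C hD hg ?_
  have hT := hD.top_lt
  obtain ⟨i, hi, hne⟩ : ∃ i, i < D.rank ∧ D.cartan i (top D) ≠ 0 := by
    by_contra hc
    push Not at hc
    have h2 : D.pairing (top D) (top D) = 0 := by
      rw [ChevalleyRoots.pairing_eq C]
      exact Finset.sum_eq_zero fun j hj => by rw [hc j (Finset.mem_range.1 hj), mul_zero]
    rw [C.pair_self _ hT] at h2
    omega
  obtain ⟨u, hu, m, u', hu', rfl⟩ := ChevRootCentralizer.decomp C S (grp_le_group C _ hg)
  have hU : ∀ v ∈ D.posUnipotent F, Commute (xg C (top D) t) v := fun v hv =>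
    ChevRootCentralizer.commute_U C (fun s h1 h2 c => ChevRootCentralizer.top_comm C h1 h2 t c) hv
  have hm : Commute (xg C (top D) t) (m : GL D.Idx F) := by
    have := ((hU u hu).inv_right.mul_right h.symm).mul_right (hU u' hu').inv_right
    simpa [mul_assoc] using this
  have hw : S.X.img (S.toW m) (top D) = top D := by
    obtain ⟨c, hc, h1, -⟩ := S.acts_toW m (top D) hT
    have e := h1 t
    rw [ChevRootCentralizer.sysXg C S] at e
    have e2 : (m : GL D.Idx F) * xg C (top D) t * (m : GL D.Idx F)⁻¹ = xg C (top D) t := by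
      rw [← hm.eq, mul_inv_cancel_right]
    rw [e2, ChevRootCentralizer.sysXg C S] at e
    exact ((ChevBruhatInstance.xg_injective C hT (S.X.img_lt _ hT) ht e).1).symm
  have hBP : D.borelSubgroup F ≤ D.parabolicSubgroup F {i | D.cartan i (top D) = 0} := le_sup_left
  obtain ⟨m', hm', hw'⟩ := ChevRootCentralizer.stab_lift C S [top D]
    (fun a ha => by
      obtain rfl := List.mem_singleton.1 ha
      exact ⟨hT, fun i hi => ChevSubfieldPairs.top_dominant C hi hT⟩)
    (D.parabolicSubgroup F {i | D.cartan i (top D) = 0})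
    (fun i h0 => ChevalleyParabolic.ns_mem_parabolic C (h0 _ (List.mem_singleton_self _)) i.isLt) (S.toW m)
    (fun a ha => by obtain rfl := List.mem_singleton.1 ha; exact hw)
  have hker : (m : GL D.Idx F) * (m' : GL D.Idx F)⁻¹ ∈ D.diagonalSubgroup F :=
    S.toW_ker.le (show m * m'⁻¹ ∈ S.toW.ker by simp [MonoidHom.mem_ker, hw'])
  have hmP : (m : GL D.Idx F) ∈ D.parabolicSubgroup F {i | D.cartan i (top D) = 0} := by
    have := mul_mem (hBP (Sys.H_le_B hker)) hm'
    rwa [inv_mul_cancel_right] at this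
  exact mul_mem (mul_mem (hBP (Sys.U_le_B hu)) hmP) (hBP (Sys.U_le_B hu'))

include S in
/-- the coordinates of an element of the radical commuting with a root element -/
theorem y_eq_zero_of_commute {r : ℕ} (hr : r < D.nroots) {l : List ℕ} (hl : ∀ i ∈ l, i < D.rank)
    (hlr : wact (D := D) l r = top D) {t : F} (ht : t ≠ 0) {g : GL D.Idx F} (hg : g ∈ Q C F)
    (h : Commute g (xg C r t)) : (∀ b ∈ ql D, D.pairing r (prt D b) < 0 → y g b = 0) ∧
      ((∀ s ∈ ql D, D.pairing r s < 0) → D.pairing r (top D) < 0 → g = 1) := by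
  classical
  set pB : ℕ → Bool := fun s => decide (D.pairing r s < 0)
  set lA := (ql D).filter fun s => !(pB s) with hlA
  set lB := (ql D).filter pB with hlB
  have hnd0 : (ql D).Nodup := List.nodup_range.filter _
  have hnd : (lA ++ lB).Nodup := by
    refine List.nodup_append.2 ⟨hnd0.filter _, hnd0.filter _, fun a ha b hb e => ?_⟩
    subst e
    simp [hlA, hlB] at ha hb
    simp [ha.2] at hb
  have hmem : ∀ s, s ∈ lA ++ lB ↔ s ∈ ql D := fun s => by
    simp only [hlA, hlB, List.mem_append, List.mem_filter]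
    cases pB s <;> simp
  obtain ⟨c, d, rfl⟩ := Q_form C hD hnd hmem hg
  have hA : ∀ s ∈ lA, s ∈ ql D ∧ 0 ≤ D.pairing r s := fun s hs => by
    simp [hlA, pB] at hs
    exact ⟨hs.1, by omega⟩
  have hB : ∀ s ∈ lB, s ∈ ql D ∧ D.pairing r s < 0 := fun s hs => by
    simpa [hlB, pB] using hs
  have hLw : ∀ s < D.nroots, L D (wact (D := D) l s) = D.pairing r s := fun s hs => by
    rw [L, ← hlr, wact_pairing C hl hr hs]
  have comm : ∀ s < D.nroots, 0 ≤ D.pairing r s → ∀ u : F, Commute (xg C s u) (xg C r t) := fun s hs h0 u => by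
    have h1 := top_commute C hD (wact_lt C hl hs) (by rw [hLw s hs]; exact h0) ((sgnw C l r : F) * t)
      ((sgnw C l s : F) * u)
    rw [← hlr, ← conj_xg C hl hr, ← conj_xg C hl hs] at h1
    have := h1.symm.map (MulAut.conj (nwd C l)⁻¹)
    simpa [mul_assoc] using this
  have hApart : Commute (Phi C lA c) (xg C r t) := by
    refine (Commute.list_prod_left _ _ fun g hg => ?_)
    obtain ⟨s, hs, rfl⟩ := List.mem_map.1 hg
    exact comm s (mem_ql.1 (hA s hs).1).1 (hA s hs).2 _
  have hsplit : Phi C (lA ++ lB) c = Phi C lA c * Phi C lB c := by simp [Phi]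
  have hT := hD.top_lt
  set B := Phi C lB c * (if D.pairing r (top D) < 0 then xg C (top D) d else 1) with hBdef
  have hBc : Commute B (xg C r t) := by
    have h1 : Commute (Phi C lB c * xg C (top D) d) (xg C r t) := by
      have := hApart.inv_left.mul_left h
      rwa [hsplit, mul_assoc, inv_mul_cancel_left] at this
    by_cases hrT : D.pairing r (top D) < 0
    · rw [hBdef, if_pos hrT]; exact h1
    · rw [hBdef, if_neg hrT, mul_one]
      have := h1.mul_left (comm _ hT (by omega) d).inv_left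
      rwa [mul_inv_cancel_right] at this
  have hBneg : B ∈ grp C F fun s => D.pairing r s < 0 := by
    refine mul_mem (Subgroup.list_prod_mem _ fun g hg => ?_) ?_
    · obtain ⟨s, hs, rfl⟩ := List.mem_map.1 hg
      exact mem_grp C (mem_ql.1 (hB s hs).1).1 (hB s hs).2 _
    · split
      · rename_i hrT; exact mem_grp C hT hrT d
      · exact one_mem _
  have hB1 : B = 1 := by
    have h2 : nwd C l * B * (nwd C l)⁻¹ = 1 := by
      refine Qn_commute_top C hD S (word_conj_grp C hD S hl (fun s hs hP => ?_) hBneg)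
        (t := (sgnw C l r : F) * t) (mul_ne_zero ?_ ht) ?_
      · show L D (wact (D := D) l s) ≤ -1
        rw [hLw s hs]
        omega
      · rcases sgnw_cases C l r with e | e <;> rw [e] <;> simp
      · rw [← hlr, ← conj_xg C hl hr]
        have := hBc.map (MulAut.conj (nwd C l))
        simpa using this
    exact conj_eq_one_iff.1 h2
  have hBQ : ∀ s ∈ lB, s ∈ ql D := fun s hs => (hB s hs).1
  refine ⟨fun b hb hneg => ?_, fun hall hTneg => ?_⟩
  · obtain ⟨e, hee, he⟩ := y_partner C hD (F := F) hb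
    have hp := (hD.partner b hb).1
    have hpB : prt D b ∈ lB := by simp [hlB, pB, hp, hneg]
    rw [y_mul C hD (Phi_mem C hD (fun s hs => (hmem s).1 hs) c)
        (mem_grp C hT (by rw [show L D (top D) = 2 from C.pair_self _ hT]; norm_num) d) hb,
      y_top C hD d hb, add_zero, y_Phi C hD hnd (fun s hs => (hmem s).1 hs) c hb he,
      if_pos (List.mem_append_right _ hpB)]
    have h3 : y B b = 0 := by rw [hB1, y_one C hD hb]
    rw [hBdef, y_mul C hD (Phi_mem C hD hBQ c) (by
        split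
        · exact mem_grp C hT (by rw [show L D (top D) = 2 from C.pair_self _ hT]; norm_num) d
        · exact one_mem _) hb,
      y_Phi C hD (hnd0.filter _) hBQ c hb he, if_pos hpB] at h3
    split at h3
    · rwa [y_top C hD d hb, add_zero] at h3
    · rwa [y_one C hD hb, add_zero] at h3
  · have : lA = [] := List.eq_nil_iff_forall_not_mem.2 fun s hs => by
      have := (hA s hs).2
      have := hall s (hA s hs).1
      omega
    rw [hBdef, if_pos hTneg] at hB1
    rw [hsplit, this]
    simpa [Phi] using hB1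

end Cfsg.Agent.TwistSubfieldGrade33
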