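import Cfsg.Agent.Lib.TwistSubfieldMain33

/-!
The action of root elements of degree zero on the coordinates of the radical, and absorption into an overgroup.
-/

set_option autoImplicit false
set_option linter.unusedSectionVars false
set_option linter.unusedSimpArgs false

namespace Cfsg.Agent.TwistSubfieldLevi33

open Cfsg.Lie Cfsg.Agent.ChevalleyEngine Cfsg.Agent.ChevalleyCert Cfsg.Agent.ChevalleyRoots
  Cfsg.Agent.ChevalleyCore Cfsg.Agent.ChevalleyTorus Cfsg.Agent.ChevalleyUnipotent Cfsg.Agent.ChevalleyExp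
  Cfsg.Agent.ChevSubfieldData Cfsg.Agent.ChevFrobeniusFixed Cfsg.Agent.TwistedCore
  Cfsg.Agent.TwoGenCert98 Cfsg.Agent.TwistSeed98 Cfsg.Agent.TwistSubfieldGrade33
  Cfsg.Agent.TwistSubfieldOrbit33 Cfsg.Agent.TwistSubfieldMain33

/-- a root of degree zero with chains of length one on the radical -/
def flat (D : ChevalleyDatum) (α : ℕ) : Bool :=
  decide (α < D.nroots) && decide (L D α = 0) &&
    (ql D).all fun b => (D.chainRoot α b 2).isNone && (D.chainRoot α b 3).isNone

theorem flat_iff {D : ChevalleyDatum} {α : ℕ} : flat D α = true ↔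
    α < D.nroots ∧ L D α = 0 ∧ ∀ b ∈ ql D, D.chainRoot α b 2 = none ∧ D.chainRoot α b 3 = none := by
  simp [flat, Option.isNone_iff_eq_none, and_assoc]

/-- the change of a coordinate -/
def shift {F : Type*} [Field F] (D : ChevalleyDatum) (α b : ℕ) (Y : ℕ → F) : F :=
  match D.chainRoot α b 1 with
  | some u => (D.chainM α b 1 : F) * Y u
  | none => 0

variable {D : ChevalleyDatum} (C : Cert D) (hD : Graded D) {F : Type*} [Field F]

include C hD

/-- root elements of degree zero act linearly on the coordinates -/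
theorem conj_y {α : ℕ} (hα : flat D α = true) (t : F) (g : GL D.Idx F) {b : ℕ} (hb : b ∈ ql D) :
    y (xg C α t * g * (xg C α t)⁻¹) b = y g b - t * shift D α b (y g) := by
  obtain ⟨hα1, hα0, hflat⟩ := flat_iff.1 hα
  obtain ⟨hb1, hb2⟩ := mem_ql.1 hb
  obtain ⟨h2, h3⟩ := hflat b hb
  have hT := hD.top_lt
  have hbα : b ≠ α := fun e => by rw [e, hα0] at hb2; omega
  have hbn : b ≠ D.neg α := fun e => by rw [e, L_neg C hα1, hα0] at hb2; omega
  set T : D.Idx := Sum.inr ⟨top D, hT⟩
  set B : D.Idx := Sum.inr ⟨b, hb1⟩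
  have wT : wt C T = 2 := (wt_root C hD).trans (C.pair_self _ hT)
  have hrow : ∀ i, (xg C α t : Matrix D.Idx D.Idx F) T i = if T = i then 1 else 0 := by
    intro i
    have hz : ∀ k, 1 ≤ k → xm D k α T i = 0 := fun k hk => by
      by_contra h0
      have e1 := xm_wt C hD hk hα1 h0
      rw [hα0, mul_zero, add_zero, wT] at e1
      have e2 := ChevalleyAdjoint.xm_kq C hk hα1 h0
      have hi : i = T := by
        rcases i with a | s
        · rw [wt_cartan C] at e1; omega
        · rw [wt_root C hD] at e1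
          exact congrArg Sum.inr (Fin.ext ((hD.bound s s.isLt).2 e1.symm))
      rw [hi] at e2
      have hk0 : (k : ℤ) * key C α = 0 := by omega
      rcases mul_eq_zero.1 hk0 with h | h
      · omega
      · exact key_ne_zero C hα1 h
    rw [coe_xg, x_eq_xR C hα1]
    simp [xR, castM, hz 1 le_rfl, hz 2 (by norm_num), hz 3 (by norm_num), Matrix.one_apply]
  have hcol : ∀ i, (((xg C α t)⁻¹ : GL D.Idx F) : Matrix D.Idx D.Idx F) i B =
      (if i = B then 1 else 0) +
        (match i with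
        | Sum.inl _ => 0
        | Sum.inr u => if D.chainRoot α b 1 = some u.val then -t * (D.chainM α b 1 : F) else 0) := by
    intro i
    rw [xg_inv, coe_xg, x_eq_xR C hα1]
    rcases i with a | u
    · simp [xR, castM, xm, B, hbα, hbn]
    · simp only [xR, castM, Matrix.add_apply, Matrix.smul_apply, Matrix.map_apply, smul_eq_mul,
        Int.coe_castRingHom, Matrix.one_apply, B, xm, Matrix.of_apply, if_neg hbα, if_neg hbn, h2, h3,
        reduceCtorEq, if_false, Int.cast_zero, mul_zero, add_zero]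
      split <;> simp
  simp only [y, dif_pos (And.intro hb1 hT), Units.val_mul]
  rw [Matrix.mul_assoc, Matrix.mul_apply]
  change ∑ j, (xg C α t : Matrix D.Idx D.Idx F) T j *
    ((g : Matrix D.Idx D.Idx F) * ((xg C α t)⁻¹ : GL D.Idx F).1) j B = _
  simp only [hrow, ite_mul, one_mul, zero_mul, Finset.sum_ite_eq, Finset.mem_univ, if_true]
  rw [Matrix.mul_apply]
  simp only [hcol, mul_add, mul_ite, mul_one, mul_zero, Finset.sum_add_distrib, Finset.sum_ite_eq',
    Finset.mem_univ, if_true]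
  show (g : Matrix D.Idx D.Idx F) T B + _ = (g : Matrix D.Idx D.Idx F) T B - _
  rw [sub_eq_add_neg]
  congr 1
  rw [Fintype.sum_sum_type]
  simp only [mul_zero, Finset.sum_const_zero, zero_add]
  unfold shift
  cases hc : D.chainRoot α b 1 with
  | none => simp
  | some v =>
    have hv : v < D.nroots ∧ top D < D.nroots := by
      refine ⟨?_, hT⟩
      rw [chainRoot_succ C, Option.map_eq_some_iff] at hc
      obtain ⟨q, hq, rfl⟩ := hc
      exact (entry_getElem C hα1 hq).2.2.2.2.1
    rw [Finset.sum_eq_single (⟨v, hv.1⟩ : Fin D.nroots)]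
    · simp only [y, hv, and_self, dite_true, if_true, B, T]
      ring
    · intro u _ hu
      rw [if_neg, mul_zero]
      exact fun h => hu (Fin.ext (Option.some.inj h).symm)
    · simp

omit hD

variable {C} {T : Twist C F} {f : F →+* F} {eps : ℕ → ℤ} {ord : ℕ}
variable (P : Shape T f eps ord) {G1 : Subgroup (GL D.Idx F)} [Fintype F] (K : Classes T G1)
variable {H : Subgroup (GL D.Idx F)} (hMH : ∀ g ∈ G1, fr f g = g → g ∈ H) (hHG : H ≤ G1)

include P K hMH hHG

/-- an element congruent to an element of `H` modulo the fixed ones lies in `H` -/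
theorem absorb {z q : GL D.Idx F} (hz : z ∈ Q C F) (hzG : z ∈ G1) (hq : q ∈ Q C F) (hqH : q ∈ H)
    (h : ∀ b ∈ ql D, f (y z b - y q b) = y z b - y q b) : z ∈ H := by
  have hw : z * q⁻¹ ∈ Q C F := mul_mem hz (inv_mem hq)
  have hwG : z * q⁻¹ ∈ G1 := mul_mem hzG (inv_mem (hHG hqH))
  have hfix : fr f (z * q⁻¹) = z * q⁻¹ := by
    refine fixed_of_y P hw (K.G1_le hwG) fun b hb => ?_
    rw [y_mul C P.graded hz (inv_mem hq) hb, y_inv C P.graded hq hb, ← sub_eq_add_neg]
    exact h b hb
  have := mul_mem (hMH _ hwG hfix) hqH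
  rwa [inv_mul_cancel_right] at this

omit K hMH hHG in
/-- fixed coordinates spread along orbits -/
theorem fix_iter {b : ℕ} (hb : b ∈ ql D) {w : GL D.Idx F} (hw : w ∈ Q C F) (hwf : w ∈ T.Fixed)
    (h : f (y w b) = y w b) (j : ℕ) : f (y w (T.ρ^[j] b)) = y w (T.ρ^[j] b) := by
  induction j with
  | zero => exact h
  | succ j ih =>
    obtain ⟨u, -, hfu, -, hy⟩ := y_rho P (iter_ql P hb j)
    rw [Function.iterate_succ_apply', hy w hw hwf, map_mul, hfu, ih, ih]

omit K hMH hHG in
/-- coordinates at fixed roots are fixed -/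
theorem fix_of_rho {b : ℕ} (hb : b ∈ ql D) (hρ : T.ρ b = b) {w : GL D.Idx F} (hw : w ∈ Q C F) (hwf : w ∈ T.Fixed) :
    f (y w b) = y w b := by
  obtain ⟨u, -, -, hu, hy⟩ := y_rho P hb
  have := hy w hw hwf
  rw [hρ, hu hρ, one_mul] at this
  exact this.symm

/-- `absorb` with the conditions on representatives only -/
theorem absorb_reps (R : List ℕ) (hR : ∀ b ∈ ql D, T.ρ b = b ∨ ∃ r ∈ R, r ∈ ql D ∧ ∃ j < ord, T.ρ^[j] r = b)
    {z q : GL D.Idx F} (hz : z ∈ Q C F) (hzG : z ∈ G1) (hq : q ∈ Q C F) (hqH : q ∈ H)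
    (h : ∀ r ∈ R, f (y z r - y q r) = y z r - y q r) : z ∈ H := by
  refine absorb P K hMH hHG hz hzG hq hqH fun b hb => ?_
  have hw : z * q⁻¹ ∈ Q C F := mul_mem hz (inv_mem hq)
  have hwF : z * q⁻¹ ∈ T.Fixed := K.G1_le (mul_mem hzG (inv_mem (hHG hqH)))
  have e : ∀ c ∈ ql D, y z c - y q c = y (z * q⁻¹) c := fun c hc => by
    rw [y_mul C P.graded hz (inv_mem hq) hc, y_inv C P.graded hq hc, sub_eq_add_neg]
  rw [e b hb]
  rcases hR b hb with hρ | ⟨r, hr, hrq, j, -, rfl⟩
  · exact fix_of_rho P hb hρ hw hwF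
  · exact fix_iter P hrq hw hwF (by rw [← e r hrq]; exact h r hr) j

omit K hHG in
/-- orbit elements with fixed parameters lie in the group -/
theorem E_H_fixed (hE : ∀ {g : GL D.Idx F}, g ∈ Q C F → g ∈ T.Fixed → g ∈ G1) {s : ℕ} (hs : s ∈ ql D) {t : F}
    (ht : f t = t) : E T f eps ord s t ∈ H := by
  refine hMH _ (hE (E_Q P hs t) (E_Fixed P hs fun _ => ht)) ?_
  unfold E
  rw [map_list_prod, List.map_map]
  congr 1
  refine List.map_congr_left fun j _ => ?_
  show fr f (mem T f eps s t j) = mem T f eps s t j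
  rw [TwistSubfieldOrbit33.mem, fr_xg f C, sc_eq, map_mul, map_intCast, Function.iterate_fixed ht, ht]

omit K hHG in
/-- commutators with a root element of degree zero -/
theorem delta_mem {α : ℕ} (hα : flat D α = true) {t : F} (hx : xg C α t ∈ H) {g : GL D.Idx F} (hg : g ∈ Q C F)
    (hgH : g ∈ H) : ∃ g' ∈ Q C F, g' ∈ H ∧ ∀ b ∈ ql D, y g' b = - (t * shift D α b (y g)) := by
  obtain ⟨hα1, hα0, -⟩ := flat_iff.1 hα
  have h1 := conj_Q C P.graded hα1 (le_of_eq hα0.symm) t hg
  refine ⟨_, mul_mem h1 (inv_mem hg), mul_mem (mul_mem (mul_mem hx hgH) (inv_mem hx)) (inv_mem hgH), fun b hb => ?_⟩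
  rw [y_mul C P.graded h1 (inv_mem hg) hb, y_inv C P.graded hg hb, conj_y C P.graded hα t g hb]
  ring

end Cfsg.Agent.TwistSubfieldLevi33
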