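import Cfsg.Agent.Lib.TwistSubfieldOrbit33
import Cfsg.Agent.Lib.ChevBorelCriterion

/-!
A group between the field-fixed elements of a twisted group and the twisted group consists of field-fixed elements,
as soon as its part in the radical of the parabolic subgroup of the highest root does.
-/

set_option autoImplicit false
set_option linter.unusedSectionVars false
set_option linter.unusedSimpArgs false
set_option maxHeartbeats 800000

namespace Cfsg.Agent.TwistSubfieldMain33

open Cfsg.Lie Cfsg.Agent.ChevalleyEngine Cfsg.Agent.ChevalleyCert Cfsg.Agent.ChevalleyRoots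
  Cfsg.Agent.ChevalleyCore Cfsg.Agent.ChevalleyTorus Cfsg.Agent.ChevalleyUnipotent
  Cfsg.Agent.ChevSubfieldData Cfsg.Agent.ChevBruhat Cfsg.Agent.ChevFrobeniusFixed Cfsg.Agent.TwistedCore
  Cfsg.Agent.TwoGenCert98 Cfsg.Agent.TwistSeed98 Cfsg.Agent.TwistSubfieldGrade33
  Cfsg.Agent.TwistSubfieldOrbit33 Cfsg.Agent.ChevWeyl

/-- the classes met on the way to the lowest root -/
def route (D : ChevalleyDatum) (al : List (List ℕ)) : ℕ → ℕ → List ℕ
  | 0, _ => []
  | n + 1, r =>
    match (List.range al.length).find? fun j => (al.getD j []).any fun i => decide (0 < D.cartan i r) with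
    | none => []
    | some j => route D al n (wact (D := D) (al.getD j []) r) ++ [j]

/-- the word taking a root to the lowest root -/
def bot (D : ChevalleyDatum) (al : List (List ℕ)) (r : ℕ) : List ℕ := spell al (route D al D.nroots r)

/-- the root reached from the lowest one by adding `a` -/
def r0 (D : ChevalleyDatum) (a : ℕ) : ℕ := ((D.commTerms a (D.neg (top D))).map Prod.fst).headI

/-- a single commutator term -/
def single (l : List (ℕ × ℤ × ℕ × ℕ)) (q : ℕ) : Bool :=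
  match l with
  | [(k, N, 1, 1)] => k == q && N.natAbs == 1
  | _ => false

theorem single_iff {l : List (ℕ × ℤ × ℕ × ℕ)} {q : ℕ} (h : single l q = true) :
    ∃ N : ℤ, N.natAbs = 1 ∧ l = [(q, N, 1, 1)] := by
  unfold single at h
  split at h
  · rename_i k N
    simp only [Bool.and_eq_true, beq_iff_eq] at h
    exact ⟨N, h.2, by rw [h.1]⟩
  · exact absurd h Bool.false_ne_true

/-- finite facts -/
structure Facts (D : ChevalleyDatum) (ρ : ℕ → ℕ) (ord : ℕ) (al : List (List ℕ)) (w0 : List ℕ) : Prop where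
  al_ok : ∀ l ∈ al, ∀ i ∈ l, i < D.rank
  to_bot : ∀ r < D.nroots, ρ r = r → wact (D := D) (bot D al r) r = D.neg (top D)
  w0_top : wact (D := D) (spell al w0) (top D) = D.neg (top D)
  w0_bot : wact (D := D) (spell al w0) (D.neg (top D)) = top D
  w0_neg : ∀ r < D.nroots, D.nroots / 2 ≤ r → wact (D := D) (spell al w0) r < D.nroots / 2
  w0_L : ∀ r < D.nroots, L D (wact (D := D) (spell al w0) r) = - L D r
  bot_neg : D.pairing (D.neg (top D)) (top D) < 0 ∧ ∀ s ∈ ql D, D.pairing (D.neg (top D)) s < 0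
  exists_a : ∃ a ∈ ql D, ρ a = a
  cover : ∀ b ∈ ql D, ρ b ≠ b → ∃ a ∈ ql D, ρ a = a ∧ D.pairing a (prt D b) ≤ 0
  fixed_a : ∀ a ∈ ql D, ρ a = a → ρ (prt D a) = prt D a ∧ D.pairing a (top D) = 1 ∧
    r0 D a < D.nroots ∧ ρ (r0 D a) = r0 D a ∧ D.pairing a (r0 D a) = 1 ∧
    D.neg (top D) ≠ a ∧ D.neg (top D) ≠ D.neg a ∧
    single (D.commTerms a (D.neg (top D))) (r0 D a) = true ∧
    ∀ s ∈ ql D, (s ≠ prt D a → 0 ≤ D.pairing a s) ∧ (D.pairing a s ≤ 0 → D.pairing (r0 D a) s < 0)
  node : ∀ i < D.rank, (L D (D.simple i) = 1 ∧ ρ (D.simple i) = D.simple i) ∨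
    (L D (D.simple i) = 0 ∧ ∃ s ∈ ql D, ∃ Lr ∈ List.range D.nroots, ρ Lr = Lr ∧ L D Lr = -1 ∧
      ∀ j < per ρ ord s, ρ^[j] s ≠ Lr ∧ ρ^[j] s ≠ D.neg Lr ∧
        single (D.commTerms Lr (ρ^[j] s)) (ρ^[j] (D.simple i)) = true ∧
        ρ^[j] (D.simple i) < D.nroots ∧ D.nroots / 2 ≤ ρ^[j] (D.simple i) ∧
        L D (ρ^[j] (D.simple i)) = 0 ∧ (0 < j → ρ^[j] (D.simple i) ≠ D.simple i))

variable {D : ChevalleyDatum} {C : Cert D} {F : Type*} [Field F] [Fintype F]
variable {T : Twist C F} {f : F →+* F} {eps : ℕ → ℤ} {ord : ℕ} {al : List (List ℕ)} {w0 : List ℕ}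
variable {G1 : Subgroup (GL D.Idx F)}

theorem sign_sq {N : ℤ} (h : N.natAbs = 1) {F : Type*} [Field F] : (N : F) * (N : F) = 1 := by
  rcases Int.natAbs_eq N with e | e <;> rw [e, h] <;> simp

theorem map_sign {z : F} (hz : z * z = 1) : f z = z := by
  rcases mul_self_eq_one_iff.1 hz with rfl | rfl <;> simp

theorem fr_nwd (l : List ℕ) : fr f (nwd C (F := F) l) = nwd C l := by
  induction l with
  | nil => simp [nwd]
  | cons i l ih => rw [nwd_cons, map_mul, ih, fr_fixedRoots f C (ChevSubfieldSpecial.ns_mem_fixedRoots C f i)]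

variable (P : Shape T f eps ord) (K : Classes T G1) (Fc : Facts D T.ρ ord al w0)
  (hal : ∀ l ∈ al, nwd C l ∈ G1)

include P in
/-- a fixed root element has a fixed parameter -/
theorem param_fixed {r : ℕ} (hr : r < D.nroots) (hρ : T.ρ r = r) {c : F} (h : xg C r c ∈ T.Fixed) : f c = c := by
  by_cases hc : c = 0
  · rw [hc, map_zero]
  have h2 := h.2
  rw [P.sg_x r hr, hρ, P.radical.eps_fix r hr hρ, Int.cast_one, one_mul] at h2
  exact ((ChevBruhatInstance.xg_injective C hr hr hc h2.symm).2).symm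

include P in
theorem xg_Fixed {r : ℕ} (hr : r < D.nroots) (hρ : T.ρ r = r) {c : F} (hc : f c = c) : xg C r c ∈ T.Fixed :=
  ⟨xg_mem_group C r c, by rw [P.sg_x r hr, hρ, P.radical.eps_fix r hr hρ, Int.cast_one, one_mul, hc]⟩

include Fc in
theorem spell_ok (js : List ℕ) : ∀ i ∈ spell al js, i < D.rank := by
  intro i hi
  obtain ⟨j, -, hj⟩ := List.mem_flatMap.1 hi
  by_cases h : j < al.length
  · rw [List.getD_eq_getElem _ _ h] at hj
    exact Fc.al_ok _ (List.getElem_mem h) i hj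
  · rw [List.getD_eq_default _ _ (Nat.le_of_not_lt h)] at hj
    simp at hj

include P K Fc hal in
/-- long root elements with fixed parameters lie in the group -/
theorem long_mem {r : ℕ} (hr : r < D.nroots) (hρ : T.ρ r = r) {c : F} (hc : f c = c) : xg C r c ∈ G1 := by
  have hT := P.graded.top_lt
  have htop : ∀ d, f d = d → xg C (top D) d ∈ G1 := fun d hd =>
    K.fixed_U_le (ChevalleyUnipotent.xg_mem_U C P.graded.half hT d) (xg_Fixed P hT P.radical.rho_top hd)
  set n1 := nwd C (F := F) (spell al w0)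
  have hn1 : n1 ∈ G1 := spell_mem C hal w0
  have hbot : ∀ d, f d = d → xg C (D.neg (top D)) d ∈ G1 := by
    intro d hd
    have hs : (sgnw C (spell al w0) (top D) : F) * (sgnw C (spell al w0) (top D) : F) = 1 := by
      rw [← Int.cast_mul, sgnw_sq, Int.cast_one]
    have h1 := mul_mem (mul_mem hn1 (htop ((sgnw C (spell al w0) (top D) : F) * d)
      (by rw [map_mul, map_intCast, hd]))) (inv_mem hn1)
    rwa [conj_xg C (spell_ok Fc w0) hT, ← mul_assoc, hs, one_mul, Fc.w0_top] at h1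
  set l := bot D al r
  have hl : nwd C (F := F) l ∈ G1 := spell_mem C hal _
  have h2 : nwd C l * xg C r c * (nwd C l)⁻¹ ∈ G1 := by
    rw [conj_xg C (show ∀ i ∈ l, i < D.rank from spell_ok Fc _) hr, Fc.to_bot r hr hρ]
    exact hbot _ (by rw [map_mul, map_intCast, hc])
  have := mul_mem (mul_mem (inv_mem hl) h2) hl
  simpa [mul_assoc] using this

/-- a word taking a fixed root to the highest one -/
def topWord (D : ChevalleyDatum) (al : List (List ℕ)) (w0 : List ℕ) (r : ℕ) : List ℕ :=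
  spell al w0 ++ bot D al r

include Fc in
theorem topWord_spec {r : ℕ} (hr : r < D.nroots) (hρ : T.ρ r = r) :
    (∀ i ∈ topWord D al w0 r, i < D.rank) ∧ wact (D := D) (topWord D al w0 r) r = top D := by
  refine ⟨fun i hi => ?_, ?_⟩
  · rcases List.mem_append.1 hi with h | h
    · exact spell_ok Fc _ i h
    · exact spell_ok Fc _ i h
  · rw [topWord, wact_append, Fc.to_bot r hr hρ, Fc.w0_bot]

include hal in
theorem topWord_mem (r : ℕ) : nwd C (F := F) (topWord D al w0 r) ∈ G1 := by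
  rw [topWord, nwd_append]
  exact mul_mem (spell_mem C hal _) (spell_mem C hal _)

/-- splitting `U` along a predicate -/
theorem U_split (p : ℕ → Prop) : ∀ d k, D.nroots - k = d → D.nroots / 2 ≤ k → ∀ u ∈ uGe C (F := F) k,
    ∃ a ∈ grp C F (fun r => k ≤ r ∧ D.nroots / 2 ≤ r ∧ p r),
      ∃ v ∈ grp C F (fun r => k ≤ r ∧ D.nroots / 2 ≤ r ∧ ¬ p r), u = a * v := by
  intro d
  induction d with
  | zero =>
    intro k hd hk u hu
    rw [uGe_top C (by omega), Subgroup.mem_bot] at hu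
    exact ⟨1, one_mem _, 1, one_mem _, by rw [hu, one_mul]⟩
  | succ d ih =>
    intro k hd hk u hu
    have hk' : k < D.nroots := by omega
    obtain ⟨t, u', hu', rfl⟩ := uGe_split C hk hk' hu
    have mono : ∀ q : ℕ → Prop, grp C F (fun r => k + 1 ≤ r ∧ D.nroots / 2 ≤ r ∧ q r) ≤
        grp C F (fun r => k ≤ r ∧ D.nroots / 2 ≤ r ∧ q r) := fun q =>
      grp_mono C fun r _ h => ⟨by omega, h.2⟩
    by_cases hp : p k
    · obtain ⟨a, ha, v, hv, rfl⟩ := ih (k + 1) (by omega) (by omega) u' hu'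
      exact ⟨xg C k t * a, mul_mem (mem_grp C hk' ⟨le_rfl, hk, hp⟩ t) (mono _ ha), v, mono _ hv,
        by rw [mul_assoc]⟩
    · obtain ⟨a, ha, v, hv, rfl⟩ := ih (k + 1) (by omega) (by omega) u' hu'
      have haU : a ∈ uGe C (F := F) (k + 1) := by
        refine (Subgroup.closure_le _).2 ?_ ha
        rintro g ⟨r, c, h1, h2, rfl⟩
        exact xg_mem_uGe C h2.1 h2.2.1 h1 c
      obtain ⟨a', ha', v', hv', e⟩ := ih (k + 1) (by omega) (by omega) _ (xg_conj_uGe C hk hk' t a haU)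
      refine ⟨a', mono _ ha', v' * xg C k t * v,
        mul_mem (mul_mem (mono _ hv') (mem_grp C hk' (show k ≤ k ∧ _ ∧ ¬ p k from ⟨le_rfl, hk, hp⟩) t))
          (mono _ hv), ?_⟩
      calc xg C k t * (a * v) = xg C k t * a * (xg C k t)⁻¹ * (xg C k t * v) := by group
        _ = _ := by rw [e]; group

include P in
theorem pos_L {r : ℕ} (hr : r < D.nroots) (h : D.nroots / 2 ≤ r) : 0 ≤ L D r := by
  by_contra hc
  have := P.graded.pos _ (C.neg_lt r) (by rw [L_neg C hr]; omega)
  rw [C.neg_eq r hr] at this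
  have := C.even
  omega

include P Fc in
/-- the shape `q⁻¹ x q` of a conjugate of a lowest root element determines `q` -/
theorem shape_fixed {q : GL D.Idx F} (hq : q ∈ Q C F) {c : F} (hc : c ≠ 0)
    (h : q⁻¹ * xg C (D.neg (top D)) c * q ∈ T.Fixed) (hcf : f c = c) : q ∈ T.Fixed := by
  refine ⟨grp_le_group C _ hq, ?_⟩
  have hT := P.graded.top_lt
  have hqG := grp_le_group C _ hq
  set X := xg C (D.neg (top D)) c
  have hXf : X ∈ T.Fixed :=
    xg_Fixed P (C.neg_lt _) (by rw [T.ρ_neg _ hT, P.radical.rho_top]) hcf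
  have hδ : Commute (T.sg q * q⁻¹) X := by
    have e : (T.sg q)⁻¹ * X * T.sg q = q⁻¹ * X * q := by
      have h1 := h.2
      rwa [T.sg_mul (mul_mem (inv_mem hqG) hXf.1) hqG, T.sg_mul (inv_mem hqG) hXf.1, T.sg_inv hqG, hXf.2] at h1
    show _ * _ = _ * _
    calc T.sg q * q⁻¹ * X = T.sg q * (q⁻¹ * X * q) * q⁻¹ := by group
      _ = _ := by rw [← e]; group
  have hl : ∀ i ∈ spell al w0, i < D.rank := spell_ok (T := T) Fc w0
  have h1 := (y_eq_zero_of_commute C P.graded T.S (C.neg_lt (top D)) hl Fc.w0_bot hc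
    (mul_mem (sg_Q P hq) (inv_mem hq)) hδ).2 Fc.bot_neg.2 Fc.bot_neg.1
  exact mul_inv_eq_one.1 h1

variable {H : Subgroup (GL D.Idx F)}
  (hMH : ∀ g ∈ G1, fr f g = g → g ∈ H) (hHG : H ≤ G1) (hQ : ∀ q ∈ H, q ∈ Q C F → fr f q = q)

include P in
theorem pge_Q {g z : GL D.Idx F} (hg : g ∈ grp C F fun r => 0 ≤ L D r) (hz : z ∈ Q C F) :
    g * z * g⁻¹ ∈ Q C F := by
  suffices key : ∀ w ∈ Q C F, g⁻¹ * w * g ∈ Q C F ∧ g * w * g⁻¹ ∈ Q C F from (key z hz).2
  clear hz
  induction hg using Subgroup.closure_induction with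
  | mem x hx =>
    obtain ⟨r, t, hr, h, rfl⟩ := hx
    intro w hw
    refine ⟨?_, conj_Q C P.graded hr h t hw⟩
    have := conj_Q C P.graded hr h (-t) hw
    rwa [← xg_inv, inv_inv] at this
  | one => intro w hw; simpa using hw
  | mul a b _ _ ha hb =>
    intro w hw
    have h1 := (hb _ (ha w hw).1).1
    have h2 := (ha _ (hb w hw).2).2
    exact ⟨by simpa [mul_assoc] using h1, by simpa [mul_assoc] using h2⟩
  | inv a _ ha =>
    intro w hw
    exact ⟨by simpa using (ha w hw).2, by simpa using (ha w hw).1⟩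

include P K Fc hal hMH hHG hQ in
/-- a conjugate of a lowest root element in `H` is fixed -/
theorem key_fixed {q : GL D.Idx F} (hq : q ∈ Q C F) (hqf : q ∈ T.Fixed) {c : F} (hc : c ≠ 0) (hcf : f c = c)
    (hz : q⁻¹ * xg C (D.neg (top D)) c * q ∈ H) : fr f q = q := by
  have hT := P.graded.top_lt
  have hD := P.graded
  refine fixed_of_y P hq hqf fun b hb => ?_
  obtain ⟨u, -, -, hu1, hyu⟩ := y_rho P hb
  by_cases hfix : T.ρ b = b
  · have := hyu q hq hqf
    rw [hfix, hu1 hfix, one_mul] at this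
    exact this.symm
  obtain ⟨a, ha, hρa, hab⟩ := Fc.cover b hb hfix
  obtain ⟨hpa, haT, hr0, hρr0, har0, hn1, hn2, hsing, hA⟩ := Fc.fixed_a a ha hρa
  obtain ⟨N, hN, hterms⟩ := single_iff hsing
  obtain ⟨ha1, ha2⟩ := mem_ql.1 ha
  obtain ⟨hpa', -, -⟩ := hD.partner a ha
  obtain ⟨hp1, hp2⟩ := mem_ql.1 hpa'
  obtain ⟨ua, -, -, hua, hyua⟩ := y_rho P ha
  have hβ : f (y q a) = y q a := by
    have := hyua q hq hqf
    rw [hρa, hua hρa, one_mul] at this
    exact this.symm
  obtain ⟨e, hee, he⟩ := y_partner C hD (F := F) ha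
  set x := xg C (prt D a) (e * y q a) with hx
  have hxc : f (e * y q a) = e * y q a := by rw [map_mul, map_sign hee, hβ]
  have hxG : x ∈ G1 := long_mem P K Fc hal hp1 hpa hxc
  have hxH : x ∈ H := hMH x hxG (by rw [hx, fr_xg f C, hxc])
  have hxQ : x ∈ Q C F := mem_grp C hp1 (show (1 : ℤ) ≤ L D _ by omega) _
  set q' := q * x⁻¹ with hq'
  have hq'Q : q' ∈ Q C F := mul_mem hq (inv_mem hxQ)
  have hy0 : y q' a = 0 := by
    rw [hq', y_mul C hD hq (inv_mem hxQ) ha, y_inv C hD hxQ ha, hx, he _ hpa', if_pos rfl, ← mul_assoc, hee,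
      one_mul, add_neg_cancel]
  set X := xg C (D.neg (top D)) c with hX
  have hz' : q'⁻¹ * X * q' ∈ H := by
    have := mul_mem (mul_mem hxH hz) (inv_mem hxH)
    simpa [hq', mul_assoc] using this
  set xa := xg C a (1 : F)
  have hxaH : xa ∈ H := hMH xa (long_mem P K Fc hal ha1 hρa (map_one f)) (by rw [fr_xg f C, map_one])
  set d := (N : F) * (-1) * c
  have hd : d ≠ 0 := mul_ne_zero (mul_ne_zero (fun h0 => by
    have := sign_sq hN (F := F); rw [h0, zero_mul] at this; exact zero_ne_one this) (by simp)) hc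
  have hdf : f d = d := by simp only [d, map_mul, map_intCast, map_neg, map_one, hcf]
  have hform : X * xa = xa * X * xg C (r0 D a) d := by
    rw [hX, comm_formula C ha1 (C.neg_lt _) hn1 hn2 1 c]
    congr 1
    simp [ChevalleyDatum.commWord, hterms, wg, d]
  have hcomm : Commute xa q' := commute_of_y C hD ha hq'Q hy0 1
  set ee := q'⁻¹ * xg C (r0 D a) d * q' with hee'
  have heH : ee ∈ H := by
    have e1 : ee = (xa * (q'⁻¹ * X * q'))⁻¹ * (q'⁻¹ * X * q' * xa) := by
      calc ee = q'⁻¹ * ((xa * X)⁻¹ * (X * xa)) * q' := by rw [hform, hee']; group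
        _ = (q'⁻¹ * X * q')⁻¹ * (q'⁻¹ * xa⁻¹ * q') * (q'⁻¹ * X * q') * (q'⁻¹ * xa * q') := by group
        _ = _ := by
            rw [show q'⁻¹ * xa * q' = xa by rw [mul_assoc, hcomm.eq, inv_mul_cancel_left],
              show q'⁻¹ * xa⁻¹ * q' = xa⁻¹ by rw [mul_assoc, hcomm.inv_left.eq, inv_mul_cancel_left]]
            group
    rw [e1]
    exact mul_mem (inv_mem (mul_mem hxaH hz')) (mul_mem hz' hxaH)
  -- move to the radical
  obtain ⟨hl, hla⟩ := topWord_spec Fc ha1 hρa
  set n := nwd C (F := F) (topWord D al w0 a) with hn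
  have hnG : n ∈ G1 := topWord_mem hal a
  have hnH : n ∈ H := hMH n hnG (fr_nwd _)
  have hLn : ∀ s < D.nroots, L D (wact (D := D) (topWord D al w0 a) s) = D.pairing a s := fun s hs => by
    rw [L, ← hla, wact_pairing C hl ha1 hs]
  have hge : n * q' * n⁻¹ ∈ grp C F fun r => 0 ≤ L D r := by
    refine word_conj_grp C hD T.S hl (fun s hs h => ?_) (P := fun s => 0 ≤ D.pairing a s) ?_
    · show 0 ≤ L D _
      rw [hLn s hs]; exact h
    have hnd : (ql D).Nodup := List.nodup_range.filter _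
    obtain ⟨k, t, hkt⟩ := Q_form C hD hnd (fun r => Iff.rfl) hq'Q
    have hk : k (prt D a) = 0 := by
      rw [hkt, y_mul C hD (Phi_mem C hD (fun r hr => hr) k)
        (mem_grp C hT (show (1 : ℤ) ≤ L D (top D) by rw [L, C.pair_self _ hT]; norm_num) t) ha,
        y_top C hD t ha, add_zero, y_Phi C hD hnd (fun r hr => hr) k ha he, if_pos hpa'] at hy0
      have h2 := congrArg (e * ·) hy0
      simpa [← mul_assoc, hee] using h2
    rw [hkt]
    refine mul_mem (Subgroup.list_prod_mem _ fun g hg => ?_) (mem_grp C hT (by rw [haT]; norm_num) t)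
    obtain ⟨s, hs, rfl⟩ := List.mem_map.1 hg
    by_cases hs' : s = prt D a
    · rw [hs', hk, xg_zero]; exact one_mem _
    · exact mem_grp C (mem_ql.1 hs).1 ((hA s hs).1 hs') _
  have hin : n * ee * n⁻¹ ∈ Q C F := by
    have e2 : n * ee * n⁻¹ = (n * q' * n⁻¹)⁻¹ * (n * xg C (r0 D a) d * n⁻¹) * ((n * q' * n⁻¹)⁻¹)⁻¹ := by
      simp only [hee']; group
    rw [e2]
    refine pge_Q P (inv_mem hge) ?_
    rw [hn, conj_xg C hl hr0]
    exact mem_grp C (wact_lt C hl hr0) (show (1 : ℤ) ≤ L D _ by rw [hLn _ hr0, har0]) _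
  have hfe : fr f ee = ee := by
    have h1 := hQ _ (mul_mem (mul_mem hnH heH) (inv_mem hnH)) hin
    rw [map_mul, map_mul, map_inv, hn, fr_nwd] at h1
    exact mul_left_cancel (mul_right_cancel h1)
  have hδ : Commute (fr f q' * q'⁻¹) (xg C (r0 D a) d) := by
    have h1 : (fr f q')⁻¹ * xg C (r0 D a) d * fr f q' = q'⁻¹ * xg C (r0 D a) d * q' := by
      have := hfe
      rwa [hee', map_mul, map_mul, map_inv, fr_xg f C, hdf] at this
    show _ * _ = _ * _
    calc fr f q' * q'⁻¹ * xg C (r0 D a) d = fr f q' * (q'⁻¹ * xg C (r0 D a) d * q') * q'⁻¹ := by group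
      _ = _ := by rw [← h1]; group
  obtain ⟨hl0, hlr0⟩ := topWord_spec Fc hr0 hρr0
  have hzero := (y_eq_zero_of_commute C hD T.S hr0 hl0 hlr0 hd
    (mul_mem (fr_Q hq'Q) (inv_mem hq'Q)) hδ).1 b hb ((hA _ (hD.partner b hb).1).2 hab)
  rw [y_mul C hD (fr_Q hq'Q) (inv_mem hq'Q) hb, y_inv C hD hq'Q hb, fr_y, ← sub_eq_add_neg, sub_eq_zero] at hzero
  have hyx : f (y x b) = y x b := by
    obtain ⟨eb, heb, heb'⟩ := y_partner C hD (F := F) hb
    rw [hx, heb' _ hpa']
    split
    · rw [map_mul, map_sign heb, hxc]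
    · exact map_zero f
  rw [show q = q' * x by simp [hq'], y_mul C hD hq'Q hxQ hb, map_add, hzero, hyx]

include P Fc in
/-- elements of `U` conjugate the lowest root element as elements of the radical do -/
theorem strip {u : GL D.Idx F} (hu : u ∈ D.posUnipotent F) (t : F) :
    ∃ v ∈ Q C F, u⁻¹ * xg C (D.neg (top D)) t * u = v⁻¹ * xg C (D.neg (top D)) t * v := by
  obtain ⟨a, ha, v, hv, rfl⟩ := U_split (C := C) (F := F) (fun r => L D r = 0) _ _ rfl le_rfl u
    (by rw [← posUnipotent_eq C]; exact hu)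
  refine ⟨v, ?_, ?_⟩
  · refine grp_mono C (fun r hr h => ?_) hv
    have := pos_L P hr h.2.1
    show (1 : ℤ) ≤ L D r
    omega
  · have hc : Commute (xg C (D.neg (top D)) t) a := by
      clear hu
      induction ha using Subgroup.closure_induction with
      | mem g hg =>
        obtain ⟨r, c, hr, h, rfl⟩ := hg
        exact bot_commute C P.graded hr h.2.2.le t c
      | one => exact Commute.one_right _
      | mul a b _ _ ha hb => exact ha.mul_right hb
      | inv a _ ha => exact ha.inv_right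
    calc (a * v)⁻¹ * xg C (D.neg (top D)) t * (a * v) = v⁻¹ * (a⁻¹ * (xg C (D.neg (top D)) t * a)) * v := by group
      _ = _ := by rw [hc.eq, inv_mul_cancel_left]

include P K Fc hal hMH hHG hQ in
/-- every conjugate in `H` of the highest root element is conjugate to it by a fixed element -/
theorem root_fixed {h : GL D.Idx F} (hh : h ∈ H) :
    ∃ m ∈ H, fr f m = m ∧ Commute (m⁻¹ * h) (xg C (top D) 1) := by
  have hD := P.graded
  have hT := hD.top_lt
  have hhG := hHG hh
  set x := xg C (top D) (1 : F)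
  have hxG : x ∈ G1 := long_mem P K Fc hal hT P.radical.rho_top (map_one f)
  have hxH : x ∈ H := hMH x hxG (by rw [fr_xg f C, map_one])
  obtain ⟨b, hb, n, hnG, u, hu, e⟩ := K.exists_form1 (inv_mem hhG)
  obtain ⟨t, ht, u1, hu1, rfl⟩ := K.mem_B1 hb
  have hUtop : ∀ v ∈ D.posUnipotent F, Commute x v := fun v hv =>
    ChevRootCentralizer.commute_U C (fun s h1 h2 c => ChevRootCentralizer.top_comm C h1 h2 1 c) hv
  obtain ⟨α, hα, hta⟩ := H_conj_xg C hT (inv_mem ht.1)
  obtain ⟨k, hk, hnk, -⟩ := (T.S.acts_toW n).inv T.S (top D) hT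
  simp only [ChevRootCentralizer.sysXg C T.S] at hnk
  set r := T.X.img (T.S.toW n)⁻¹ (top D)
  have hr : r < D.nroots := T.X.img_lt _ hT
  have hρr : T.ρ r = r := by
    have hw := T.fixW.inv_mem (K.toW_fix hnG)
    have := hw (top D) hT
    rw [P.radical.rho_top] at this
    exact this.symm
  have hz : h * x * h⁻¹ = u⁻¹ * xg C r (k * α) * u := by
    have hh' : h = u⁻¹ * (n : GL D.Idx F)⁻¹ * u1⁻¹ * t⁻¹ := by rw [← inv_inv h, e]; group
    have htx : t⁻¹ * x * t⁻¹⁻¹ = xg C (top D) α := by rw [hta, mul_one]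
    have hcu : u1⁻¹ * xg C (top D) α * u1 = xg C (top D) α := by
      have : Commute (xg C (top D) α) u1 :=
        ChevRootCentralizer.commute_U C (fun s h1 h2 c => ChevRootCentralizer.top_comm C h1 h2 α c) hu1.1
      rw [mul_assoc, this.eq, inv_mul_cancel_left]
    rw [hh']
    calc u⁻¹ * (n : GL D.Idx F)⁻¹ * u1⁻¹ * t⁻¹ * x * (u⁻¹ * (n : GL D.Idx F)⁻¹ * u1⁻¹ * t⁻¹)⁻¹
        = u⁻¹ * ((n : GL D.Idx F)⁻¹ * (u1⁻¹ * (t⁻¹ * x * t⁻¹⁻¹) * u1) * (n : GL D.Idx F)⁻¹⁻¹) * u := by group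
      _ = _ := by rw [htx, hcu, hnk]
  set cr := k * α
  have hcr : cr ≠ 0 := mul_ne_zero hk hα
  have hcrf : f cr = cr := by
    refine param_fixed P hr hρr ?_
    have h1 : u * (h * x * h⁻¹) * u⁻¹ ∈ T.Fixed :=
      mul_mem (mul_mem hu.2 (K.G1_le (mul_mem (mul_mem hhG hxG) (inv_mem hhG)))) (inv_mem hu.2)
    rwa [hz, show u * (u⁻¹ * xg C r cr * u) * u⁻¹ = xg C r cr by group] at h1
  -- move `r` to the lowest root
  set l := bot D al r
  have hl : ∀ i ∈ l, i < D.rank := spell_ok (T := T) Fc _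
  set n0 := nwd C (F := F) l with hn0
  have hn0G : n0 ∈ G1 := spell_mem C hal _
  have hn0H : n0 ∈ H := hMH n0 hn0G (fr_nwd _)
  set c := (sgnw C l r : F) * cr with hcdef
  have hsg : (sgnw C l r : F) * (sgnw C l r : F) = 1 := by rw [← Int.cast_mul, sgnw_sq, Int.cast_one]
  have hc0 : c ≠ 0 := mul_ne_zero (fun h0 => by rw [h0, zero_mul] at hsg; exact zero_ne_one hsg) hcr
  have hcf : f c = c := by rw [hcdef, map_mul, map_intCast, hcrf]
  obtain ⟨a, ha, v, hv, huav⟩ := U_split (C := C) (F := F) (fun s => L D (wact (D := D) l s) ≤ 0) _ _ rfl le_rfl u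
    (by rw [← posUnipotent_eq C]; exact T.S.Uw_le_U _ hu.1)
  set X := xg C (D.neg (top D)) c
  have hXa : Commute X (n0 * a * n0⁻¹) := by
    suffices key : ∀ g ∈ grp C F (fun s => L D s ≤ 0), Commute X g from
      key _ (word_conj_grp C hD T.S hl (fun s hs h => h.2.2) ha)
    intro g h1
    induction h1 using Subgroup.closure_induction with
    | mem g hg =>
      obtain ⟨s, w, hs, h, rfl⟩ := hg
      exact bot_commute C hD hs h c w
    | one => exact Commute.one_right _
    | mul a b _ _ ha hb => exact ha.mul_right hb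
    | inv a _ ha => exact ha.inv_right
  set q := n0 * v * n0⁻¹
  have hqQ : q ∈ Q C F := word_conj_grp C hD T.S hl (fun s hs h => by
    show (1 : ℤ) ≤ L D _
    have := h.2.2
    omega) hv
  have hform : n0 * (h * x * h⁻¹) * n0⁻¹ = q⁻¹ * X * q := by
    have hnr : n0 * xg C r cr * n0⁻¹ = X := by rw [hn0, conj_xg C hl hr, Fc.to_bot r hr hρr]
    rw [hz, huav]
    calc n0 * ((a * v)⁻¹ * xg C r cr * (a * v)) * n0⁻¹
        = q⁻¹ * ((n0 * a * n0⁻¹)⁻¹ * ((n0 * xg C r cr * n0⁻¹) * (n0 * a * n0⁻¹))) * q := by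
          simp only [q]; group
      _ = _ := by rw [hnr, hXa.eq, inv_mul_cancel_left]
  have hzH : q⁻¹ * X * q ∈ H := hform ▸ mul_mem (mul_mem hn0H (mul_mem (mul_mem hh hxH) (inv_mem hh))) (inv_mem hn0H)
  have hqf : q ∈ T.Fixed := shape_fixed P Fc hqQ hc0 (K.G1_le (hHG hzH)) hcf
  have hqφ := key_fixed P K Fc hal hMH hHG hQ hqQ hqf hc0 hcf hzH
  have hqG : q ∈ G1 := K.fixed_U_le (Q_le_U C hD hqQ) hqf
  have hqH : q ∈ H := hMH q hqG hqφ
  -- an element taking the highest root element to `X`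
  set n1 := nwd C (F := F) (spell al w0) with hn1
  have hn1G : n1 ∈ G1 := spell_mem C hal w0
  set s1 : F := (sgnw C (spell al w0) (top D) : F)
  have hs1 : s1 * s1 = 1 := by rw [← Int.cast_mul, sgnw_sq, Int.cast_one]
  obtain ⟨a0, ha0, hρa0⟩ := Fc.exists_a
  obtain ⟨-, haT, -⟩ := Fc.fixed_a a0 ha0 hρa0
  obtain ⟨ha01, -⟩ := mem_ql.1 ha0
  set lam := s1 * c with hlam
  have hlam0 : lam ≠ 0 := mul_ne_zero (fun h0 => by rw [h0, zero_mul] at hs1; exact zero_ne_one hs1) hc0
  have hlamf : f lam = lam := by rw [hlam, map_mul, map_sign hs1, hcf]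
  set τ := hg C a0 lam with hτ
  have hρn : T.ρ (D.neg a0) = D.neg a0 := by rw [T.ρ_neg _ ha01, hρa0]
  have hngG : ∀ w : F, f w = w → ng C a0 w ∈ G1 ∧ fr f (ng C a0 w) = ng C a0 w := fun w hw =>
    ⟨mul_mem (mul_mem (long_mem P K Fc hal ha01 hρa0 hw)
      (long_mem P K Fc hal (C.neg_lt _) hρn (by rw [map_neg, map_inv₀, hw]))) (long_mem P K Fc hal ha01 hρa0 hw),
      by unfold ng; rw [map_mul, map_mul, fr_xg f C, fr_xg f C, hw, map_neg, map_inv₀, hw]⟩
  have hm1 : f (-1 : F) = -1 := by simp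
  have hτG : τ ∈ G1 := mul_mem (hngG lam hlamf).1 (hngG (-1) hm1).1
  have hτφ : fr f τ = τ := by rw [hτ, hg, map_mul, (hngG lam hlamf).2, (hngG (-1) hm1).2]
  have hτx : τ * x * τ⁻¹ = xg C (top D) lam := by
    rw [hτ, hg_conj_xg C ha01 hT hlam0, haT, zpow_one, mul_inv_cancel_right, mul_one]
  set m := n0⁻¹ * q⁻¹ * n1 * τ
  have hmφ : fr f m = m := by
    simp only [m]
    rw [map_mul, map_mul, map_mul, map_inv, map_inv, hn0, fr_nwd, hqφ, hn1, fr_nwd, hτφ]
  have hmG : m ∈ G1 := mul_mem (mul_mem (mul_mem (inv_mem hn0G) (inv_mem hqG)) hn1G) hτG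
  refine ⟨m, hMH m hmG hmφ, hmφ, ?_⟩
  have hmx : m * x * m⁻¹ = h * x * h⁻¹ := by
    have h1 : n1 * xg C (top D) lam * n1⁻¹ = X := by
      rw [hn1, conj_xg C (spell_ok Fc w0) hT, Fc.w0_top]
      show xg C _ (s1 * lam) = _
      rw [hlam, ← mul_assoc, hs1, one_mul]
    have h2 : n0⁻¹ * (q⁻¹ * X * q) * n0 = h * x * h⁻¹ := by rw [← hform]; group
    rw [← h2, ← h1, ← hτx]
    simp only [m]
    group
  show _ * _ = _ * _
  calc m⁻¹ * h * x = m⁻¹ * (h * x * h⁻¹) * h := by group
    _ = _ := by rw [← hmx]; group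

include P in
/-- elements commuting with the highest root element normalise the radical -/
theorem normalise {g : GL D.Idx F} (hg : g ∈ D.group F) (h : Commute g (xg C (top D) 1))
    {z : GL D.Idx F} (hz : z ∈ Q C F) : g * z * g⁻¹ ∈ Q C F := by
  have hT := P.graded.top_lt
  have hP := ChevSubfieldPairs.commute_top_parabolic C T.S hT hg h
  rw [ChevalleyParabolic.parabolic_eq C] at hP
  have hH : D.diagonalSubgroup F ≤ Subgroup.normalizer (Q C F : Set (GL D.Idx F)) := by
    intro t ht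
    have key : ∀ t ∈ D.diagonalSubgroup F, ∀ w ∈ Q C F, t * w * t⁻¹ ∈ Q C F := fun t ht w hw => by
      refine Sys.conj_closure_le (T := {g : GL D.Idx F | ∃ (r : ℕ) (t : F), r < D.nroots ∧ 1 ≤ L D r ∧
        g = xg C r t}) _ ?_ hw
      rintro y ⟨r, w, hr, h1, rfl⟩
      obtain ⟨α, -, hta⟩ := H_conj_xg C hr ht
      rw [hta]
      exact mem_grp C hr h1 _
    refine Subgroup.mem_normalizer_iff.2 fun w => ⟨fun hw => key t ht w hw, fun hw => ?_⟩
    have := key t⁻¹ (inv_mem ht) _ hw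
    simpa [mul_assoc] using this
  have hsup : g ∈ Subgroup.normalizer (Q C F : Set (GL D.Idx F)) := by
    refine sup_le hH ((Subgroup.closure_le _).2 ?_) hP
    rintro y ⟨r, t, hr, hy⟩
    obtain rfl := (xg_eq_iff C).1 hy
    have hLr : r < D.nroots ∧ 0 ≤ L D r := by
      rcases hr with hr | hr
      · obtain ⟨h1, h2⟩ := (isPos C).1 hr
        exact ⟨h2, pos_L P h2 h1⟩
      · refine ⟨hr.1, le_of_eq ?_⟩
        rw [← L_eq_deg C P.graded hr.1, ChevalleyParabolic.deg_in C hr]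
    refine Subgroup.mem_normalizer_iff.2 fun w => ⟨fun hw => conj_Q C P.graded hLr.1 hLr.2 t hw, fun hw => ?_⟩
    have := conj_Q C P.graded hLr.1 hLr.2 (-t) hw
    rw [← xg_inv, inv_inv] at this
    simpa [mul_assoc] using this
  exact (Subgroup.mem_normalizer_iff.1 hsup z).1 hz

include P Fc in
/-- the word of the longest element exchanges the radicals -/
theorem swap_Q {z : GL D.Idx F} :
    (z ∈ Q C F → nwd C (spell al w0) * z * (nwd C (spell al w0))⁻¹ ∈ Qn C F) ∧
      (z ∈ Qn C F → nwd C (spell al w0) * z * (nwd C (spell al w0))⁻¹ ∈ Q C F) := by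
  refine ⟨fun h => word_conj_grp C P.graded T.S (spell_ok Fc w0) (fun s hs h1 => ?_) h,
    fun h => word_conj_grp C P.graded T.S (spell_ok Fc w0) (fun s hs h1 => ?_) h⟩
  · show L D _ ≤ -1
    rw [Fc.w0_L s hs]; omega
  · show (1 : ℤ) ≤ L D _
    rw [Fc.w0_L s hs]; omega

/-- the field-fixed elements in the two radicals -/
def Gens (G1 : Subgroup (GL D.Idx F)) (C : Cert D) (f : F →+* F) : Subgroup (GL D.Idx F) :=
  Subgroup.closure {g | g ∈ G1 ∧ fr f g = g ∧ (g ∈ Q C F ∨ g ∈ Qn C F)}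

include P K Fc hal in
/-- class elements of the fundamental roots -/
theorem node_elt (i : ℕ) (hi : i < D.rank) :
    ∃ v ∈ upSub D F i, ∃ a : F, a ≠ 0 ∧ v * xg C (D.simple i) a ∈ Gens G1 C f := by
  have hD := P.graded
  rcases Fc.node i hi with ⟨h1, h2⟩ | ⟨h0, s, hs, Lr, hLr, hρL, hLL, hj⟩
  · refine ⟨1, one_mem _, 1, one_ne_zero, ?_⟩
    rw [one_mul]
    exact Subgroup.subset_closure ⟨long_mem P K Fc hal (simple_lt C hi) h2 (map_one f),
      by rw [fr_xg f C, map_one], Or.inl (mem_grp C (simple_lt C hi) h1.ge 1)⟩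
  rw [List.mem_range] at hLr
  obtain ⟨hs1, hs2⟩ := mem_ql.1 hs
  set n := per T.ρ ord s with hn
  have hsc : ∀ j, f (sc T f eps s (1 : F) j) = sc T f eps s (1 : F) j ∧ sc T f eps s (1 : F) j ≠ 0 ∨
      n ≤ j := fun j => by
    by_cases hjn : n ≤ j
    · exact Or.inr hjn
    refine Or.inl ⟨?_, ?_⟩
    · rw [sc_eq, map_mul, map_intCast, Function.iterate_fixed (map_one f), map_one]
    · rw [sc_eq, Function.iterate_fixed (map_one f), mul_one]
      have hsq : ∀ k ≤ j, (ep T.ρ eps s k : F) * (ep T.ρ eps s k : F) = 1 := by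
        intro k hk
        induction k with
        | zero => simp [ep]
        | succ k ih =>
          rw [ep, Int.cast_mul, mul_mul_mul_comm, ih (by omega), mul_one, ← Int.cast_mul,
            P.radical.eps_sq _ (iter_lt P hs1 k).1, Int.cast_one]
      intro h0
      have := hsq j le_rfl
      rw [h0, zero_mul] at this
      exact zero_ne_one this
  -- the commutator of the orbit element with the long one
  set co : ℕ → F := fun j =>
    ((((D.commTerms Lr (T.ρ^[j] s)).map fun q => q.2.1).headI : ℤ) : F) * (-1) * sc T f eps s (1 : F) j with hco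
  have hco' : ∀ j < n, f (co j) = co j ∧ co j ≠ 0 ∧
      xg C (T.ρ^[j] s) (sc T f eps s (1 : F) j) * xg C Lr 1 =
        xg C Lr 1 * xg C (T.ρ^[j] s) (sc T f eps s (1 : F) j) * xg C (T.ρ^[j] (D.simple i)) (co j) := by
    intro j hjn
    obtain ⟨hne1, hne2, hsing, -⟩ := hj j hjn
    obtain ⟨N, hN, hterms⟩ := single_iff hsing
    obtain ⟨hσ, hσ0⟩ := (hsc j).resolve_right (not_le.2 hjn)
    have hcj : co j = (N : F) * (-1) * sc T f eps s (1 : F) j := by simp [co, hterms]
    refine ⟨by rw [hcj, map_mul, map_mul, map_intCast, map_neg, map_one, hσ], ?_, ?_⟩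
    · rw [hcj]
      exact mul_ne_zero (mul_ne_zero (fun h0 => by
        have := sign_sq hN (F := F); rw [h0, zero_mul] at this; exact zero_ne_one this) (by simp)) hσ0
    · rw [comm_formula C hLr (iter_lt P hs1 j).1 hne1 hne2 1 (sc T f eps s (1 : F) j), hcj]
      congr 1
      simp [ChevalleyDatum.commWord, hterms, wg]
  set R : List ℕ → GL D.Idx F := fun l => (l.map fun j => xg C (T.ρ^[j] (D.simple i)) (co j)).prod with hRdef
  have hR0 : ∀ l : List ℕ, (∀ j ∈ l, j < n) → R l ∈ grp C F fun r => L D r = 0 := fun l hl =>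
    Subgroup.list_prod_mem _ fun g hg => by
      obtain ⟨j, hjl, rfl⟩ := List.mem_map.1 hg
      obtain ⟨-, -, -, hr', -, hr0', -⟩ := hj j (hl j hjl)
      exact mem_grp C hr' hr0' _
  have h0le : grp C F (fun r => L D r = 0) ≤ grp C F fun r => 0 ≤ L D r := grp_mono C fun r _ h => h.ge
  have key : ∀ l : List ℕ, (∀ j ∈ l, j < n) → ∃ z ∈ Q C F,
      (l.map (mem T f eps s (1 : F))).prod * xg C Lr 1 * ((l.map (mem T f eps s (1 : F))).prod)⁻¹ =
        xg C Lr 1 * R l * z := by
    intro l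
    induction l with
    | nil => exact fun _ => ⟨1, one_mem _, by simp [R]⟩
    | cons a l ih =>
      intro hl
      obtain ⟨z, hz, e⟩ := ih fun j hj => hl j (List.mem_cons_of_mem _ hj)
      have hR := h0le (hR0 (a :: l) hl)
      set sa := mem T f eps s (1 : F) a with hsa
      have hxa : sa ∈ Q C F := mem_Q P hs1 hs2.ge _ a
      have hsplit : R (a :: l) = xg C (T.ρ^[a] (D.simple i)) (co a) * R l := by simp [R]
      refine ⟨((R (a :: l))⁻¹ * sa * R (a :: l)) * z * sa⁻¹, mul_mem (mul_mem ?_ hz) (inv_mem hxa), ?_⟩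
      · have := pge_Q P (inv_mem hR) hxa
        simpa using this
      · simp only [List.map_cons, List.prod_cons, ← hsa]
        calc sa * (l.map (mem T f eps s (1 : F))).prod * xg C Lr 1 *
              (sa * (l.map (mem T f eps s (1 : F))).prod)⁻¹
            = sa * ((l.map (mem T f eps s (1 : F))).prod * xg C Lr 1 *
                ((l.map (mem T f eps s (1 : F))).prod)⁻¹) * sa⁻¹ := by group
          _ = (sa * xg C Lr 1) * R l * z * sa⁻¹ := by rw [e]; group
          _ = _ := by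
            rw [hsa, mem, (hco' a (hl a (List.mem_cons_self ..))).2.2, hsplit]
            group
  obtain ⟨z, hz, e⟩ := key (List.range n) fun j hj => List.mem_range.1 hj
  have hrange : ∀ j ∈ List.range n, j < n := fun j hj => List.mem_range.1 hj
  set EE := E T f eps ord s (1 : F) with hEE
  have e' : EE * xg C Lr 1 * EE⁻¹ = xg C Lr 1 * R (List.range n) * z := e
  have hEQ : EE ∈ Q C F := E_Q P hs 1
  have hEG : EE ∈ G1 := K.fixed_U_le (Q_le_U C hD hEQ) (E_Fixed P hs fun _ => map_one f)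
  have hEφ : fr f EE = EE := by
    rw [hEE]
    unfold E
    rw [map_list_prod, List.map_map]
    congr 1
    refine List.map_congr_left fun j hj => ?_
    show fr f (mem T f eps s 1 j) = mem T f eps s 1 j
    rw [mem, fr_xg f C, ((hsc j).resolve_right (not_le.2 (List.mem_range.1 hj))).1]
  have hLG : xg C Lr (1 : F) ∈ G1 := long_mem P K Fc hal hLr hρL (map_one f)
  have hLφ : fr f (xg C Lr (1 : F)) = xg C Lr 1 := by rw [fr_xg f C, map_one]
  set g := R (List.range n) * z with hg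
  have hgeq : g = (xg C Lr 1)⁻¹ * (EE * xg C Lr 1 * EE⁻¹) := by rw [e', hg]; group
  have hgG : g ∈ G1 := hgeq ▸ mul_mem (inv_mem hLG) (mul_mem (mul_mem hEG hLG) (inv_mem hEG))
  have hRg := grp_le_group C _ (hR0 _ hrange)
  have hzg := grp_le_group C _ hz
  have hRσ : T.sg (R (List.range n)) ∈ grp C F fun r => L D r = 0 := by
    refine T.sg_closure_le (A := {g | ∃ (r : ℕ) (t : F), r < D.nroots ∧ L D r = 0 ∧ g = xg C r t}) ?_ ?_
      (hR0 _ hrange)
    · rintro x ⟨r, t, -, -, rfl⟩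
      exact xg_mem_group C r t
    · rintro x ⟨r, t, hr, h1, rfl⟩
      rw [P.sg_x r hr]
      obtain ⟨e1, e2⟩ := P.radical.L_rho r hr
      exact mem_grp C e1 (by rw [e2]; exact h1) _
  have hsgz : T.sg (R (List.range n)) * T.sg z = R (List.range n) * z := by
    rw [← T.sg_mul hRg hzg]; exact (K.G1_le hgG).2
  have hRfix : T.sg (R (List.range n)) = R (List.range n) := by
    have h1 : (R (List.range n))⁻¹ * T.sg (R (List.range n)) = z * (T.sg z)⁻¹ := by
      rw [eq_mul_inv_iff_mul_eq, mul_assoc, hsgz, inv_mul_cancel_left]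
    have h2 : (R (List.range n))⁻¹ * T.sg (R (List.range n)) = 1 := by
      have hup : grp C F (fun r => L D r = 0) ≤ upperAt (fun q => - wt C q) 0 := by
        refine (Subgroup.closure_le _).2 ?_
        rintro x ⟨r, t, hr, h1, rfl⟩
        refine ChevalleyParabolic.xg_mem_weight C hr (fun k hk a b hab => ?_) t
        rw [xm_wt C hD hk hr hab, h1]
        simp
      have ha := hup (mul_mem (inv_mem (hR0 _ hrange)) hRσ)
      have hb := Q_upper C hD (h1 ▸ mul_mem hz (inv_mem (sg_Q P hz)))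
      refine eq_one_of_diag _ le_rfl hb fun a b hab => ?_
      by_contra hne
      have h3 := hb.1 a b (by simpa [Matrix.one_apply_ne hab] using hne)
      have h4 := ha.1 a b (by simpa [Matrix.one_apply_ne hab] using hne)
      simp only at h4
      push_cast at h3 h4
      omega
    exact (inv_mul_eq_one.1 h2).symm
  have hRU : R (List.range n) ∈ D.posUnipotent F := Subgroup.list_prod_mem _ fun x hx => by
    obtain ⟨j, hjl, rfl⟩ := List.mem_map.1 hx
    obtain ⟨-, -, -, hr', hrp, -, -⟩ := hj j (hrange j hjl)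
    exact ChevalleyUnipotent.xg_mem_U C hrp hr' _
  have hRG : R (List.range n) ∈ G1 := K.fixed_U_le hRU ⟨hRg, hRfix⟩
  have hRφ : fr f (R (List.range n)) = R (List.range n) := by
    rw [hRdef, map_list_prod, List.map_map]
    congr 1
    refine List.map_congr_left fun j hjl => ?_
    show fr f (xg C _ (co j)) = _
    rw [fr_xg f C, (hco' j (hrange j hjl)).1]
  have hgφ : fr f g = g := by
    rw [hgeq, map_mul, map_mul, map_mul, map_inv, map_inv, hEφ, hLφ]
  have hzG : z ∈ G1 := by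
    have : z = (R (List.range n))⁻¹ * g := by rw [hg, inv_mul_cancel_left]
    exact this ▸ mul_mem (inv_mem hRG) hgG
  have hzφ : fr f z = z := by
    have : z = (R (List.range n))⁻¹ * g := by rw [hg, inv_mul_cancel_left]
    rw [this, map_mul, map_inv, hRφ, hgφ]
  have hRmem : R (List.range n) ∈ Gens G1 C f := by
    have hEgen : EE ∈ Gens G1 C f := Subgroup.subset_closure ⟨hEG, hEφ, Or.inl hEQ⟩
    have hLgen : xg C Lr (1 : F) ∈ Gens G1 C f :=
      Subgroup.subset_closure ⟨hLG, hLφ, Or.inr (mem_grp C hLr hLL.le 1)⟩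
    have hzgen : z ∈ Gens G1 C f := Subgroup.subset_closure ⟨hzG, hzφ, Or.inl hz⟩
    have : R (List.range n) = g * z⁻¹ := by rw [hg, mul_inv_cancel_right]
    rw [this, hgeq]
    exact mul_mem (mul_mem (inv_mem hLgen) (mul_mem (mul_mem hEgen hLgen) (inv_mem hEgen))) (inv_mem hzgen)
  -- split off the fundamental root
  obtain ⟨hp0, -, -, -⟩ := P.radical.orbit s hs
  obtain ⟨m, hm⟩ : ∃ m, n = m + 1 := ⟨n - 1, by omega⟩
  set rest := ((List.range m).map fun j => xg C (T.ρ^[j + 1] (D.simple i)) (co (j + 1))).prod with hrest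
  have hR' : R (List.range n) = xg C (D.simple i) (co 0) * rest := by
    rw [hRdef, hm, List.range_succ_eq_map]
    simp only [List.map_cons, List.prod_cons, List.map_map, Function.iterate_zero, id_eq]
    rfl
  have hrestU : rest ∈ upSub D F i := Subgroup.list_prod_mem _ fun x hx => by
    obtain ⟨j, hjl, rfl⟩ := List.mem_map.1 hx
    obtain ⟨-, -, -, hr', hrp, -, hne⟩ := hj (j + 1) (by have := List.mem_range.1 hjl; omega)
    exact Subgroup.subset_closure ⟨_, _, (isPos C).2 ⟨hrp, hr'⟩, hne (by omega), coe_xg C _ _⟩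
  refine ⟨xg C (D.simple i) (co 0) * rest * (xg C (D.simple i) (co 0))⁻¹, ?_, co 0,
    (hco' 0 (by omega)).2.1, ?_⟩
  · have := T.S.simple_mul_upSub hi hrestU (co 0)
    rwa [ChevRootCentralizer.sysXg C T.S] at this
  · rw [inv_mul_cancel_right, ← hR']
    exact hRmem

include P in
/-- an element commuting with elements over all fundamental roots lies in `B` -/
theorem mem_B_of_commute {k : GL D.Idx F} (hk : k ∈ D.group F)
    (h : ∀ i < D.rank, ∃ v ∈ upSub D F i, ∃ a : F, a ≠ 0 ∧ Commute k (v * xg C (D.simple i) a)) :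
    k ∈ D.borelSubgroup F := by
  obtain ⟨u, hu, m, u', hu', rfl⟩ := ChevRootCentralizer.decomp C T.S hk
  obtain ⟨w, hw⟩ := T.S.exists_w0
  have hpos : ∀ i : Fin D.rank, D.IsPosRoot (T.X.img (T.S.toW m) (D.simple i)) := by
    intro i
    refine (T.X.pos_or_neg (T.X.img_lt _ (T.X.simple_lt i.isLt))).resolve_right fun hneg => ?_
    obtain ⟨v, hv, a, ha, hc⟩ := h i i.isLt
    set E := v * xg C (D.simple i) a
    have hEU : E ∈ D.posUnipotent F := mul_mem (Sys.upSub_le_U _ hv)
      (ChevalleyUnipotent.xg_mem_U C (C.simple_mem i i.isLt).1 (C.simple_mem i i.isLt).2 a)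
    set yy := u' * E * u'⁻¹ with hyy
    have hyU : yy ∈ D.posUnipotent F := mul_mem (mul_mem hu' hEU) (inv_mem hu')
    have hmy : (m : GL D.Idx F) * yy * (m : GL D.Idx F)⁻¹ ∈ D.posUnipotent F := by
      have h1 : u * (m : GL D.Idx F) * u' * E * (u * (m : GL D.Idx F) * u')⁻¹ = E := by
        rw [hc.eq, mul_inv_cancel_right]
      have h2 : u * ((m : GL D.Idx F) * yy * (m : GL D.Idx F)⁻¹) * u⁻¹ = E := by
        conv_rhs => rw [← h1]
        simp only [hyy]; group
      have h3 := mul_mem (mul_mem (inv_mem hu) (h2 ▸ hEU : u * ((m : GL D.Idx F) * yy * (m : GL D.Idx F)⁻¹) * u⁻¹ ∈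
        D.posUnipotent F)) hu
      simpa [mul_assoc] using h3
    have hup : yy ∈ upSub D F i := by
      refine (Subgroup.closure_le _).2 ?_ (ChevBorelCriterion.mem_kept C T.S hw m hyU hmy)
      rintro x ⟨r, c, hr, rfl⟩
      rw [T.X.mem_invSet, T.X.img_mul] at hr
      refine T.S.xg_mem_upSub hr.1 (fun he => ?_) c
      rw [he] at hr
      have h2 := hw _ ((T.X.pos_neg_iff hneg.1).mpr hneg)
      rw [T.X.img_neg w hneg.1] at h2
      have h3 := (T.X.pos_neg_iff (T.X.root_facts (T.X.img_lt w hneg.1)).1).mpr h2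
      rw [(T.X.root_facts (T.X.img_lt w hneg.1)).2.1] at h3
      exact T.X.not_pos_and_neg h3 hr.2
    obtain ⟨v', hv', b, e⟩ := T.S.U_decomp i.isLt hu'
    rw [ChevRootCentralizer.sysXg C T.S] at e
    refine ha (ChevBorelCriterion.simple_notMem_upSub C T.S i ?_)
    set xb := xg C (D.simple i) b
    have h5 : xb * v * xb⁻¹ ∈ upSub D F i := by
      have := T.S.simple_mul_upSub i.isLt hv b
      rwa [ChevRootCentralizer.sysXg C T.S] at this
    have h6 : (xb * v * xb⁻¹)⁻¹ * (v'⁻¹ * yy * v') = xg C (D.simple i) a := by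
      have hxx : xb * xg C (D.simple i) a * xb⁻¹ = xg C (D.simple i) a := by
        rw [xg_inv, xg_mul, xg_mul, add_neg_cancel_comm]
      conv_rhs => rw [← hxx]
      rw [hyy, e]
      simp only [E]
      group
    rw [← h6]
    exact mul_mem (inv_mem h5) (mul_mem (mul_mem (inv_mem hv') hup) hv')
  have hw1 : T.S.toW m = 1 := by
    rw [← T.X.inv_eq_zero_iff, Weyl.inv, Finset.card_eq_zero, Finset.eq_empty_iff_forall_notMem]
    intro r hr
    rw [T.X.mem_invSet] at hr
    exact T.X.not_pos_and_neg (T.X.pos_img_of_simples _ hr.1 fun j hj _ => hpos ⟨j, hj⟩) hr.2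
  have hH : (m : GL D.Idx F) ∈ D.diagonalSubgroup F := T.S.toW_ker.le hw1
  exact mul_mem (mul_mem (Sys.U_le_B hu) (Sys.H_le_B hH)) (Sys.U_le_B hu')

include P K Fc hal in
/-- only the identity centralises the field-fixed elements of the two radicals -/
theorem centraliser_trivial {k : GL D.Idx F} (hk : k ∈ D.group F)
    (h : ∀ g ∈ Gens G1 C f, Commute k g) : k = 1 := by
  have hD := P.graded
  have hnode : ∀ {k' : GL D.Idx F}, (∀ g ∈ Gens G1 C f, Commute k' g) →
      ∀ i < D.rank, ∃ v ∈ upSub D F i, ∃ a : F, a ≠ 0 ∧ Commute k' (v * xg C (D.simple i) a) := by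
    intro k' hk' i hi
    obtain ⟨v, hv, a, ha, hm⟩ := node_elt P K Fc hal i hi
    exact ⟨v, hv, a, ha, hk' _ hm⟩
  have hB := mem_B_of_commute P hk (hnode h)
  set n1 := nwd C (F := F) (spell al w0) with hn1
  have hn1G : n1 ∈ G1 := spell_mem C hal w0
  have hswap : ∀ g ∈ Gens G1 C f, n1 * g * n1⁻¹ ∈ Gens G1 C f := by
    intro g hg
    refine Sys.conj_closure_le (T := {g | g ∈ G1 ∧ fr f g = g ∧ (g ∈ Q C F ∨ g ∈ Qn C F)}) _ ?_ hg
    rintro x ⟨h1, h2, h3⟩
    refine Subgroup.subset_closure ⟨mul_mem (mul_mem hn1G h1) (inv_mem hn1G),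
      by rw [map_mul, map_mul, map_inv, hn1, fr_nwd, h2], ?_⟩
    rcases h3 with h3 | h3
    · exact Or.inr ((swap_Q P Fc).1 h3)
    · exact Or.inl ((swap_Q P Fc).2 h3)
  have hB' : n1⁻¹ * k * n1 ∈ D.borelSubgroup F := by
    refine mem_B_of_commute P (mul_mem (mul_mem (inv_mem (nwd_mem_group C _)) hk) (nwd_mem_group C _))
      (hnode fun g hg => ?_)
    have h1 := (h _ (hswap g hg)).map (MulAut.conj n1⁻¹)
    simpa [mul_assoc] using h1
  obtain ⟨hh, hhH, u, hu, e⟩ := T.S.mem_B_iff.mp hB'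
  have hl := spell_ok Fc w0 (T := T)
  have hV : n1 * u * n1⁻¹ ∈ D.negUnipotent F := by
    refine Sys.conj_closure_le (T := {g : GL D.Idx F | ∃ (r : ℕ) (t : F), D.IsPosRoot r ∧
      (g : Matrix D.Idx D.Idx F) = D.x F r t}) _ ?_ hu
    rintro x ⟨r, t, hr, hx⟩
    obtain ⟨h1, h2⟩ := (isPos C).1 hr
    rw [(xg_eq_iff C).1 hx, hn1, conj_xg C hl h2]
    exact ChevalleyUnipotent.xg_mem_V C (Fc.w0_neg r h2 h1) _
  have hH1 : n1 * hh * n1⁻¹ ∈ D.borelSubgroup F := by
    have hm : n1 ∈ D.monomialSubgroup F := by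
      rw [hn1]
      exact Subgroup.list_prod_mem _ fun x hx => by
        obtain ⟨i, hi, rfl⟩ := List.mem_map.1 hx
        exact ns_mem_N C (hl i hi)
    exact Sys.H_le_B (T.S.conj_H (T.S.acts_toW ⟨n1, hm⟩) hhH)
  have hu1 : u = 1 := by
    have h1 : n1 * u * n1⁻¹ ∈ D.borelSubgroup F := by
      have : n1 * u * n1⁻¹ = (n1 * hh * n1⁻¹)⁻¹ * k := by
        have : k = n1 * (hh * u) * n1⁻¹ := by rw [← e]; group
        rw [this]; group
      exact this ▸ mul_mem (inv_mem hH1) hB
    have h2 := Subgroup.mem_inf.mpr ⟨h1, hV⟩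
    rw [T.S.B_inf_V, Subgroup.mem_bot] at h2
    exact conj_eq_one_iff.1 h2
  rw [hu1, mul_one] at e
  obtain ⟨χ, rfl⟩ := (ChevalleyTorus.mem_H_iff C).1 hhH
  have hcomm : ∀ g ∈ Gens G1 C f, Commute (torus D χ) g := fun g hg => by
    have h1 := (h _ (hswap g hg)).map (MulAut.conj n1⁻¹)
    rw [← e]
    simpa [mul_assoc] using h1
  have hchar : ∀ i : Fin D.rank, tchar D χ (D.simple i) = 1 := by
    intro i
    obtain ⟨v, hv, a, ha, hc⟩ := hnode hcomm i i.isLt
    have h1 : torus D χ * v * (torus D χ)⁻¹ ∈ upSub D F i := T.S.H_conj_upSub hhH hv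
    have h2 := torus_conj_xg C (simple_lt C i.isLt) χ a
    have h3 : (torus D χ * v * (torus D χ)⁻¹)⁻¹ * v =
        (torus D χ * xg C (D.simple i) a * (torus D χ)⁻¹) * (xg C (D.simple i) a)⁻¹ := by
      have h4 : torus D χ * (v * xg C (D.simple i) a) * (torus D χ)⁻¹ = v * xg C (D.simple i) a := by
        rw [hc.eq, mul_inv_cancel_right]
      rw [eq_mul_inv_iff_mul_eq, mul_assoc, ← h4]
      group
    rw [h2, xg_inv, xg_mul] at h3
    have h5 := ChevBorelCriterion.simple_notMem_upSub C T.S i (h3 ▸ mul_mem (inv_mem h1) hv)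
    refine Units.ext (mul_right_cancel₀ ha ?_)
    rw [Units.val_one, one_mul]
    linear_combination h5
  have ht1 : torus (F := F) D χ = 1 := by
    apply Units.ext
    rw [coe_torus, tmat, Units.val_one, ← Matrix.diagonal_one]
    congr 1
    funext q
    rcases q with a | s
    · rfl
    · simp [ChevBorelCriterion.tchar_eq_one C hchar s.val s.isLt]
  rw [ht1] at e
  exact conj_eq_one_iff.1 (show (n1⁻¹ : GL D.Idx F) * k * n1⁻¹⁻¹ = 1 by rw [inv_inv]; exact e)

include P K Fc hal hMH hHG hQ in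
/-- a group between the field-fixed elements and the twisted group that is fixed in the radical is fixed -/
theorem overgroup {h : GL D.Idx F} (hh : h ∈ H) : fr f h = h := by
  have hD := P.graded
  have hT := hD.top_lt
  obtain ⟨m, hm, hmφ, hcomm⟩ := root_fixed P K Fc hal hMH hHG hQ hh
  set h' := m⁻¹ * h with hh'
  have hh'H : h' ∈ H := mul_mem (inv_mem hm) hh
  suffices fr f h' = h' by
    rw [hh', map_mul, map_inv, hmφ] at this
    exact mul_left_cancel this
  have hh'G := hHG hh'H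
  obtain ⟨b, hb, n, hnG, u, hu, e⟩ := K.exists_form1 hh'G
  obtain ⟨t, ht, u1, hu1, rfl⟩ := K.mem_B1 hb
  have hUtop : ∀ v ∈ D.posUnipotent F, ∀ c : F, Commute (xg C (top D) c) v := fun v hv c =>
    ChevRootCentralizer.commute_U C (fun s h1 h2 d => ChevRootCentralizer.top_comm C h1 h2 c d) hv
  have hwT : T.X.img (T.S.toW n) (top D) = top D := by
    obtain ⟨k, hk, h1, -⟩ := T.S.acts_toW n (top D) hT
    have e1 : (n : GL D.Idx F) * xg C (top D) 1 * (n : GL D.Idx F)⁻¹ =
        xg C (T.X.img (T.S.toW n) (top D)) (k * 1) := by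
      have := h1 1
      rwa [ChevRootCentralizer.sysXg C T.S, ChevRootCentralizer.sysXg C T.S] at this
    obtain ⟨α, hα, hta⟩ := H_conj_xg C hT ht.1
    have hr : T.X.img (T.S.toW n) (top D) < D.nroots := T.X.img_lt _ hT
    obtain ⟨β, hβ, htb⟩ := H_conj_xg C hr ht.1
    have hu' : u * xg C (top D) 1 * u⁻¹ = xg C (top D) 1 := by
      rw [← (hUtop _ (T.S.Uw_le_U _ hu.1) 1).eq, mul_inv_cancel_right]
    have h2 : h' * xg C (top D) 1 * h'⁻¹ = xg C (top D) 1 := by rw [hcomm.eq, mul_inv_cancel_right]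
    have h3 : t * (u1 * xg C (T.X.img (T.S.toW n) (top D)) (k * 1) * u1⁻¹) * t⁻¹ = xg C (top D) 1 := by
      calc t * (u1 * xg C (T.X.img (T.S.toW n) (top D)) (k * 1) * u1⁻¹) * t⁻¹
          = t * (u1 * ((n : GL D.Idx F) * (u * xg C (top D) 1 * u⁻¹) * (n : GL D.Idx F)⁻¹) * u1⁻¹) * t⁻¹ := by
            rw [hu', e1]
        _ = h' * xg C (top D) 1 * h'⁻¹ := by rw [e]; group
        _ = _ := h2
    have h4 : xg C (T.X.img (T.S.toW n) (top D)) (k * 1) = xg C (top D) (α⁻¹ * 1) := by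
      have h5 : t * xg C (top D) (α⁻¹ * 1) * t⁻¹ = xg C (top D) 1 := by
        rw [hta, mul_one, mul_inv_cancel₀ hα]
      have h6 := h3.trans h5.symm
      have h7 := mul_left_cancel (mul_right_cancel h6)
      calc xg C (T.X.img (T.S.toW n) (top D)) (k * 1)
          = u1⁻¹ * (u1 * xg C (T.X.img (T.S.toW n) (top D)) (k * 1) * u1⁻¹) * u1 := by group
        _ = _ := by rw [h7, mul_assoc, (hUtop u1 hu1.1 _).eq, inv_mul_cancel_left]
    exact (ChevBruhatInstance.xg_injective C hr hT (mul_ne_zero hk one_ne_zero) h4).1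
  have hN := (C.neg_lt (top D))
  have hwN : T.X.img (T.S.toW n) (D.neg (top D)) = D.neg (top D) := by rw [T.X.img_neg _ hT, hwT]
  set X := xg C (D.neg (top D)) (1 : F) with hX
  have hρN : T.ρ (D.neg (top D)) = D.neg (top D) := by rw [T.ρ_neg _ hT, P.radical.rho_top]
  have hXG : X ∈ G1 := long_mem P K Fc hal hN hρN (map_one f)
  have hXH : X ∈ H := hMH X hXG (by rw [fr_xg f C, map_one])
  have huX : u * X * u⁻¹ = X := by
    have h1 : u ∈ grp C F fun s => L D s ≤ 0 := by
      refine (Subgroup.closure_le _).2 ?_ hu.1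
      rintro x ⟨s, c, hs, rfl⟩
      rw [ChevRootCentralizer.sysXg C T.S]
      obtain ⟨hp, hn⟩ := T.X.mem_invSet.mp hs
      refine mem_grp C hp.1 ?_ c
      have hlt := T.X.img_lt (T.S.toW n) hp.1
      have h2 : L D (T.X.img (T.S.toW n) s) = L D s := by
        rw [L, L]
        conv_lhs => rw [← hwT]
        exact ChevRootCentralizer.pairing_img C T.S _ hT hp.1
      have h3 : L D (T.X.img (T.S.toW n) s) ≤ 0 := by
        by_contra hc
        have := hD.pos _ hlt (by omega)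
        exact T.X.not_pos_and_neg ((isPos C).2 ⟨this, hlt⟩) hn
      omega
    have h2 : Commute X u := by
      suffices key : ∀ g ∈ grp C F (fun s => L D s ≤ 0), Commute X g from key _ h1
      intro g h1
      induction h1 using Subgroup.closure_induction with
      | mem g hg =>
        obtain ⟨s, w, hs, h, rfl⟩ := hg
        exact bot_commute C hD hs h 1 w
      | one => exact Commute.one_right _
      | mul a b _ _ ha hb => exact ha.mul_right hb
      | inv a _ ha => exact ha.inv_right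
    rw [← h2.eq, mul_inv_cancel_right]
  obtain ⟨k, hk, h1, -⟩ := T.S.acts_toW n (D.neg (top D)) hN
  have e1 : (n : GL D.Idx F) * X * (n : GL D.Idx F)⁻¹ = xg C (D.neg (top D)) k := by
    have := h1 1
    rwa [ChevRootCentralizer.sysXg C T.S, ChevRootCentralizer.sysXg C T.S, hwN, mul_one] at this
  obtain ⟨α, hα, hta⟩ := H_conj_xg C hN ht.1
  set u1' := t * u1 * t⁻¹ with hu1'
  have hu1'U : u1' ∈ D.posUnipotent F :=
    (Subgroup.mem_normalizer_iff.1 (H_le_normalizer_U C ht.1) u1).1 hu1.1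
  set c := α * k
  have hc : c ≠ 0 := mul_ne_zero hα hk
  have hz : h' * X * h'⁻¹ = u1' * xg C (D.neg (top D)) c * u1'⁻¹ := by
    rw [e]
    calc t * u1 * (n : GL D.Idx F) * u * X * (t * u1 * (n : GL D.Idx F) * u)⁻¹
        = t * (u1 * ((n : GL D.Idx F) * (u * X * u⁻¹) * (n : GL D.Idx F)⁻¹) * u1⁻¹) * t⁻¹ := by group
      _ = u1' * (t * xg C (D.neg (top D)) k * t⁻¹) * u1'⁻¹ := by rw [huX, e1, hu1']; group
      _ = _ := by rw [hta]
  obtain ⟨q, hq, hqz⟩ := strip P Fc (inv_mem hu1'U) c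
  rw [inv_inv, ← hz] at hqz
  have hzH : q⁻¹ * xg C (D.neg (top D)) c * q ∈ H := hqz ▸ mul_mem (mul_mem hh'H hXH) (inv_mem hh'H)
  have hcf : f c = c := by
    refine param_fixed P hN hρN ?_
    have h1 : u1'⁻¹ * (h' * X * h'⁻¹) * u1' ∈ T.Fixed := by
      have hu1'F : u1' ∈ T.Fixed := K.G1_le (mul_mem (mul_mem ht.2 hu1.2) (inv_mem ht.2))
      exact mul_mem (mul_mem (inv_mem hu1'F) (K.G1_le (mul_mem (mul_mem hh'G hXG) (inv_mem hh'G)))) hu1'F
    rwa [hz, show u1'⁻¹ * (u1' * xg C (D.neg (top D)) c * u1'⁻¹) * u1' = xg C (D.neg (top D)) c by group] at h1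
  have hqf : q ∈ T.Fixed := shape_fixed P Fc hq hc (K.G1_le (hHG hzH)) hcf
  have hqφ := key_fixed P K Fc hal hMH hHG hQ hq hqf hc hcf hzH
  have hqG : q ∈ G1 := K.fixed_U_le (Q_le_U C hD hq) hqf
  set l := q * h' with hl
  have hlH : l ∈ H := mul_mem (hMH q hqG hqφ) hh'H
  have hlg : l ∈ D.group F := K.G1_le_group (hHG hlH)
  have hlx : Commute l (xg C (top D) 1) := (top_central C hD hq 1).symm.mul_left hcomm
  have hlX : l * X * l⁻¹ = xg C (D.neg (top D)) c := by
    calc l * X * l⁻¹ = q * (h' * X * h'⁻¹) * q⁻¹ := by rw [hl]; group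
      _ = _ := by rw [hqz]; group
  suffices fr f l = l by
    rw [hl, map_mul, hqφ] at this
    exact mul_left_cancel this
  -- `l` normalises both radicals
  set n1 := nwd C (F := F) (spell al w0) with hn1
  have hn1G : n1 ∈ G1 := spell_mem C hal w0
  set s1 : F := (sgnw C (spell al w0) (top D) : F)
  have hs1 : s1 * s1 = 1 := by rw [← Int.cast_mul, sgnw_sq, Int.cast_one]
  obtain ⟨a0, ha0, hρa0⟩ := Fc.exists_a
  obtain ⟨-, haT, -⟩ := Fc.fixed_a a0 ha0 hρa0
  obtain ⟨ha01, -⟩ := mem_ql.1 ha0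
  have hn1x : n1 * xg C (top D) 1 * n1⁻¹ = xg C (D.neg (top D)) s1 := by
    rw [hn1, conj_xg C (spell_ok Fc w0) hT, Fc.w0_top, mul_one]
  set τ := hg C a0 c
  have hτX : τ * xg C (D.neg (top D)) c * τ⁻¹ = X := by
    rw [hg_conj_xg C ha01 hN hc, ChevBruhatInstance.pairing_neg C hT, haT, zpow_neg, zpow_one,
      inv_mul_cancel₀ hc, mul_inv_cancel_right]
  have hτH : τ ∈ D.diagonalSubgroup F := hg_mem_H C ha01 hc
  have hτQn : ∀ w ∈ Qn C F, τ⁻¹ * w * τ ∈ Qn C F := fun w hw => by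
    have : τ⁻¹ * w * τ⁻¹⁻¹ ∈ Qn C F := by
      refine Sys.conj_closure_le (T := {g : GL D.Idx F | ∃ (r : ℕ) (t : F), r < D.nroots ∧ L D r ≤ -1 ∧
        g = xg C r t}) _ ?_ hw
      rintro y ⟨r, w, hr, h1, rfl⟩
      obtain ⟨β, -, htb⟩ := H_conj_xg C hr (inv_mem hτH)
      rw [htb]
      exact mem_grp C hr h1 _
    rwa [inv_inv] at this
  have hτl : Commute (τ * l) X := by
    show _ * _ = _ * _
    calc τ * l * X = τ * (l * X * l⁻¹) * τ⁻¹ * (τ * l) := by group
      _ = _ := by rw [hlX, hτX]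
  have hlQn : ∀ w ∈ Qn C F, l * w * l⁻¹ ∈ Qn C F := by
    intro w hw
    have hg : n1⁻¹ * (τ * l) * n1 ∈ D.group F :=
      mul_mem (mul_mem (inv_mem (nwd_mem_group C _)) (mul_mem (T.S.H_le_group hτH) hlg)) (nwd_mem_group C _)
    have hg1 : Commute (n1⁻¹ * (τ * l) * n1) (xg C (top D) 1) := by
      have h1 : Commute (τ * l) (xg C (D.neg (top D)) s1) := by
        rcases mul_self_eq_one_iff.1 hs1 with h | h <;> rw [h]
        · exact hτl
        · rw [← xg_inv]; exact hτl.inv_right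
      rw [← hn1x] at h1
      have := h1.map (MulAut.conj n1⁻¹)
      simpa [mul_assoc] using this
    have hw2 : n1⁻¹ * w * n1 ∈ Q C F := by
      have hcl := spell_ok Fc w0 (T := T)
      suffices h0 : n1⁻¹ * w * n1⁻¹⁻¹ ∈ Q C F by rwa [inv_inv] at h0
      refine Sys.conj_closure_le (T := {g : GL D.Idx F | ∃ (r : ℕ) (t : F), r < D.nroots ∧ L D r ≤ -1 ∧
        g = xg C r t}) _ ?_ hw
      rintro y ⟨r, d, hr, h1, rfl⟩
      obtain ⟨r', hr', hrr'⟩ := wact_bij C hcl hr
      obtain ⟨e', he', he''⟩ : ∃ e' : F, e' * e' = 1 ∧ n1 * xg C r' (e' * d) * n1⁻¹ = xg C r d := by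
        have hsq : (sgnw C (spell al w0) r' : F) * (sgnw C (spell al w0) r' : F) = 1 := by
          rw [← Int.cast_mul, sgnw_sq, Int.cast_one]
        refine ⟨_, hsq, ?_⟩
        rw [hn1, conj_xg C hcl hr', hrr', ← mul_assoc, hsq, one_mul]
      rw [← he'']
      have : n1⁻¹ * (n1 * xg C r' (e' * d) * n1⁻¹) * n1⁻¹⁻¹ = xg C r' (e' * d) := by group
      rw [this]
      refine mem_grp C hr' ?_ _
      show (1 : ℤ) ≤ L D r'
      have := Fc.w0_L r' hr'
      rw [hrr'] at this
      omega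
    have h2 := normalise P hg hg1 hw2
    have h3 := (swap_Q P Fc).1 h2
    have h4 := hτQn _ h3
    simpa [mul_assoc, hn1] using h4
  set k := l⁻¹ * fr f l with hkdef
  have hk : k ∈ D.group F := mul_mem (inv_mem hlg) (fr_group f C hlg)
  have hkG : ∀ g ∈ Gens G1 C f, Commute k g := by
    intro g hg
    induction hg using Subgroup.closure_induction with
    | mem g hg =>
      obtain ⟨hgG, hgφ, hgQ⟩ := hg
      have hgH := hMH g hgG hgφ
      have hconj : l * g * l⁻¹ ∈ H := mul_mem (mul_mem hlH hgH) (inv_mem hlH)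
      have hfix : fr f (l * g * l⁻¹) = l * g * l⁻¹ := by
        rcases hgQ with hgQ | hgQ
        · exact hQ _ hconj (normalise P hlg hlx hgQ)
        · have hn1H : n1 ∈ H := hMH n1 hn1G (fr_nwd _)
          have h1 := hQ _ (mul_mem (mul_mem hn1H hconj) (inv_mem hn1H)) ((swap_Q P Fc).2 (hlQn g hgQ))
          rw [map_mul, map_mul, map_inv, hn1, fr_nwd] at h1
          exact mul_left_cancel (mul_right_cancel h1)
      rw [map_mul, map_mul, map_inv, hgφ] at hfix
      show _ * _ = _ * _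
      calc k * g = l⁻¹ * (fr f l * g * (fr f l)⁻¹) * fr f l := by rw [hkdef]; group
        _ = _ := by rw [hfix, hkdef]; group
    | one => exact Commute.one_right _
    | mul a b _ _ ha hb => exact ha.mul_right hb
    | inv a _ ha => exact ha.inv_right
  have h1 := centraliser_trivial P K Fc hal hk hkG
  exact (inv_mul_eq_one.1 h1).symm

end Cfsg.Agent.TwistSubfieldMain33
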