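import Cfsg.Agent.Lib.TwistSubfieldGrade33
import Cfsg.Agent.Lib.TwistedClasses

/-!
Orbit elements of a twist on the radical of the parabolic subgroup of the highest root.
-/

set_option autoImplicit false
set_option linter.unusedSectionVars false
set_option linter.unusedSimpArgs false

namespace Cfsg.Agent.TwistSubfieldOrbit33

open Cfsg.Lie Cfsg.Agent.ChevalleyEngine Cfsg.Agent.ChevalleyCert Cfsg.Agent.ChevalleyRoots
  Cfsg.Agent.ChevalleyCore Cfsg.Agent.ChevalleyTorus Cfsg.Agent.ChevalleyUnipotent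
  Cfsg.Agent.ChevSubfieldData Cfsg.Agent.ChevBruhat Cfsg.Agent.ChevFrobeniusFixed Cfsg.Agent.TwistedCore
  Cfsg.Agent.TwoGenCert98 Cfsg.Agent.TwistSeed98 Cfsg.Agent.TwistSubfieldGrade33

/-- the period of a root -/
def per (ρ : ℕ → ℕ) (ord s : ℕ) : ℕ := if ρ s = s then 1 else ord

/-- the sign along an orbit -/
def ep (ρ : ℕ → ℕ) (eps : ℕ → ℤ) (s : ℕ) : ℕ → ℤ
  | 0 => 1
  | j + 1 => eps (ρ^[j] s) * ep ρ eps s j

/-- finite facts about a twist of the radical -/
structure Radical (D : ChevalleyDatum) (ρ : ℕ → ℕ) (eps : ℕ → ℤ) (ord : ℕ) : Prop where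
  eps_sq : ∀ r < D.nroots, eps r * eps r = 1
  eps_fix : ∀ r < D.nroots, ρ r = r → eps r = 1
  L_rho : ∀ r < D.nroots, ρ r < D.nroots ∧ L D (ρ r) = L D r
  rho_top : ρ (top D) = top D
  prt_rho : ∀ b ∈ ql D, prt D (ρ b) = ρ (prt D b)
  orbit : ∀ s ∈ ql D, 0 < per ρ ord s ∧ ρ^[per ρ ord s] s = s ∧ ep ρ eps s (per ρ ord s) = 1 ∧
    ∀ j < per ρ ord s, 0 < j → ρ^[j] s ≠ s ∧ D.commTerms s (ρ^[j] s) = []
  fix_pos : 0 < ord

variable {D : ChevalleyDatum} {C : Cert D} {F : Type*} [Field F]

/-- a twist given by a symmetry of the roots, signs and a field endomorphism -/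
structure Shape (T : Twist C F) (f : F →+* F) (eps : ℕ → ℤ) (ord : ℕ) : Prop where
  sg_x : ∀ r < D.nroots, ∀ t, T.sg (xg C r t) = xg C (T.ρ r) ((eps r : F) * f t)
  f_ord : ∀ t, f^[ord] t = t
  graded : Graded D
  radical : Radical D T.ρ eps ord

variable {T : Twist C F} {f : F →+* F} {eps : ℕ → ℤ} {ord : ℕ} (P : Shape T f eps ord)

include P

theorem iter_lt {s : ℕ} (hs : s < D.nroots) (j : ℕ) :
    T.ρ^[j] s < D.nroots ∧ L D (T.ρ^[j] s) = L D s := by
  induction j with
  | zero => exact ⟨hs, rfl⟩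
  | succ j ih =>
    rw [Function.iterate_succ_apply']
    obtain ⟨h1, h2⟩ := P.radical.L_rho _ ih.1
    exact ⟨h1, h2.trans ih.2⟩

theorem iter_ql {s : ℕ} (hs : s ∈ ql D) (j : ℕ) : T.ρ^[j] s ∈ ql D := by
  obtain ⟨h1, h2⟩ := mem_ql.1 hs
  exact mem_ql.2 ⟨(iter_lt P h1 j).1, (iter_lt P h1 j).2.trans h2⟩

omit P in
/-- the coefficient along an orbit -/
noncomputable def sc (T : Twist C F) (f : F →+* F) (eps : ℕ → ℤ) (s : ℕ) (t : F) : ℕ → F
  | 0 => t
  | j + 1 => (eps (T.ρ^[j] s) : F) * f (sc T f eps s t j)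

omit P in
/-- the members of an orbit element -/
noncomputable def mem (T : Twist C F) (f : F →+* F) (eps : ℕ → ℤ) (s : ℕ) (t : F) (j : ℕ) : GL D.Idx F :=
  xg C (T.ρ^[j] s) (sc T f eps s t j)

omit P in
/-- the orbit element -/
noncomputable def E (T : Twist C F) (f : F →+* F) (eps : ℕ → ℤ) (ord s : ℕ) (t : F) : GL D.Idx F :=
  ((List.range (per T.ρ ord s)).map (mem T f eps s t)).prod

omit P in
theorem sc_eq (s : ℕ) (t : F) (j : ℕ) : sc T f eps s t j = (ep T.ρ eps s j : F) * f^[j] t := by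
  induction j with
  | zero => simp [sc, ep]
  | succ j ih => rw [sc, ih, ep, Function.iterate_succ_apply', map_mul, map_intCast, Int.cast_mul, mul_assoc]

theorem sg_mem {s : ℕ} (hs : s < D.nroots) (t : F) (j : ℕ) :
    T.sg (mem T f eps s t j) = mem T f eps s t (j + 1) := by
  rw [mem, P.sg_x _ (iter_lt P hs j).1, mem, Function.iterate_succ_apply', sc]

theorem mem_Q {s : ℕ} (hs : s < D.nroots) (h : 1 ≤ L D s) (t : F) (j : ℕ) : mem T f eps s t j ∈ Q C F :=
  mem_grp C (iter_lt P hs j).1 (by rw [(iter_lt P hs j).2]; exact h) _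

theorem E_Q {s : ℕ} (hs : s ∈ ql D) (t : F) : E T f eps ord s t ∈ Q C F := by
  obtain ⟨h1, h2⟩ := mem_ql.1 hs
  refine Subgroup.list_prod_mem _ fun g hg => ?_
  obtain ⟨j, -, rfl⟩ := List.mem_map.1 hg
  exact mem_Q P h1 h2.ge t j

/-- orbit elements are fixed -/
theorem E_Fixed {s : ℕ} (hs : s ∈ ql D) {t : F} (ht : T.ρ s = s → f t = t) : E T f eps ord s t ∈ T.Fixed := by
  obtain ⟨h1, h2⟩ := mem_ql.1 hs
  obtain ⟨hp0, hper, hep, hcom⟩ := P.radical.orbit s hs
  have hG : ∀ l : List ℕ, (l.map (mem T f eps s t)).prod ∈ D.group F := fun l =>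
    Subgroup.list_prod_mem _ fun g hg => by
      obtain ⟨j, -, rfl⟩ := List.mem_map.1 hg
      exact xg_mem_group C _ _
  refine ⟨hG _, ?_⟩
  have hsgl : ∀ l : List ℕ, T.sg (l.map (mem T f eps s t)).prod =
      ((l.map fun j => j + 1).map (mem T f eps s t)).prod := by
    intro l
    induction l with
    | nil => simp [T.sg_one]
    | cons a l ih =>
      have hm : mem T f eps s t a ∈ D.group F := xg_mem_group C _ _
      rw [List.map_cons, List.prod_cons, T.sg_mul hm (hG l), ih, sg_mem P h1]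
      simp
  have hlast : mem T f eps s t (per T.ρ ord s) = mem T f eps s t 0 := by
    have hft : f^[per T.ρ ord s] t = t := by
      unfold per
      split
      · rename_i h; exact ht h
      · exact P.f_ord t
    rw [mem, mem, hper, sc_eq, hep, Int.cast_one, one_mul, hft]
    rfl
  unfold E
  obtain ⟨m, hm⟩ : ∃ m, per T.ρ ord s = m + 1 := ⟨per T.ρ ord s - 1, by omega⟩
  rw [hm] at hlast hcom ⊢
  rw [hsgl]
  conv_rhs => rw [List.range_succ_eq_map, List.map_cons, List.prod_cons]
  rw [List.range_succ, List.map_append, List.map_append, List.prod_append, List.map_cons, List.map_nil,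
    List.map_cons, List.map_nil, List.prod_singleton, hlast]
  have hc : Commute (mem T f eps s t 0) (((List.range m).map fun j => j + 1).map (mem T f eps s t)).prod := by
    refine Commute.list_prod_right _ _ fun g hg => ?_
    rw [List.map_map] at hg
    obtain ⟨j, hj, rfl⟩ := List.mem_map.1 hg
    obtain ⟨hne, hterms⟩ := hcom (j + 1) (by have := List.mem_range.1 hj; omega) (by omega)
    refine ChevRootCentralizer.comm_of_terms C h1 (iter_lt P h1 _).1 hne (fun e => ?_) (fun c hc => ?_) _ _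
    · have := (iter_lt P h1 (j + 1)).2
      rw [e, L_neg C h1, h2] at this
      omega
    · rw [hterms] at hc
      simp at hc
  exact hc.eq.symm

/-- the twist preserves the radical -/
theorem sg_Q {g : GL D.Idx F} (hg : g ∈ Q C F) : T.sg g ∈ Q C F := by
  refine T.sg_closure_le (A := {g | ∃ (r : ℕ) (t : F), r < D.nroots ∧ 1 ≤ L D r ∧ g = xg C r t}) ?_ ?_ hg
  · rintro x ⟨r, t, -, -, rfl⟩
    exact xg_mem_group C r t
  · rintro x ⟨r, t, hr, h1, rfl⟩
    rw [P.sg_x r hr]
    obtain ⟨e1, e2⟩ := P.radical.L_rho r hr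
    exact mem_grp C e1 (by rw [e2]; exact h1) _

omit P in
theorem fr_y (g : GL D.Idx F) (b : ℕ) : y (fr f g) b = f (y g b) := by
  unfold y
  split
  · rw [coe_fr, Matrix.map_apply]
  · rw [map_zero]

omit P in
theorem fr_Q {g : GL D.Idx F} (hg : g ∈ Q C F) : fr f g ∈ Q C F := by
  suffices h : Q C F ≤ (Q C F).comap (fr f) from h hg
  refine (Subgroup.closure_le _).2 ?_
  rintro x ⟨r, t, hr, h1, rfl⟩
  rw [SetLike.mem_coe, Subgroup.mem_comap, fr_xg f C]
  exact mem_grp C hr h1 _

/-- coordinates of a fixed element along an orbit -/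
theorem y_rho_val {b : ℕ} (hb : b ∈ ql D) :
    ∃ u : F, u = y (xg C (prt D (T.ρ b)) (1 : F)) (T.ρ b) * (eps (prt D b) : F) *
        y (xg C (prt D b) (1 : F)) b ∧ u ≠ 0 ∧ f u = u ∧ (T.ρ b = b → u = 1) ∧
      ∀ q ∈ Q C F, q ∈ T.Fixed → y q (T.ρ b) = u * f (y q b) := by
  have hb' : T.ρ b ∈ ql D := iter_ql P hb 1
  obtain ⟨e, hee, he⟩ := y_partner C P.graded (F := F) hb
  obtain ⟨e', hee', he'⟩ := y_partner C P.graded (F := F) hb'
  obtain ⟨hp, -, -⟩ := P.graded.partner b hb
  obtain ⟨hp1, hp2⟩ := mem_ql.1 hp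
  have hf : ∀ {z : F}, z * z = 1 → f z = z := fun {z} hz => by
    rcases mul_self_eq_one_iff.1 hz with rfl | rfl <;> simp
  have hes : (eps (prt D b) : F) * (eps (prt D b) : F) = 1 := by
    rw [← Int.cast_mul, P.radical.eps_sq _ hp1, Int.cast_one]
  set u := e' * (eps (prt D b) : F) * e with hu
  have huu : u * u = 1 := by
    rw [hu]
    linear_combination (eps (prt D b) : F) * (eps (prt D b) : F) * e * e * hee' + e * e * hes + hee
  have hval : u = y (xg C (prt D (T.ρ b)) (1 : F)) (T.ρ b) * (eps (prt D b) : F) *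
      y (xg C (prt D b) (1 : F)) b := by
    rw [he _ hp, he' _ (P.graded.partner _ hb').1, if_pos rfl, if_pos rfl, mul_one, mul_one]
  refine ⟨u, hval, fun h0 => by rw [h0, zero_mul] at huu; exact zero_ne_one huu, hf huu, fun hfix => ?_, ?_⟩
  · have hp' : T.ρ (prt D b) = prt D b := by rw [← P.radical.prt_rho b hb, hfix]
    have e1 := he _ hp 1
    have e2 := he' _ hp 1
    rw [if_pos rfl, mul_one] at e1
    rw [hfix, if_pos rfl, mul_one, e1] at e2
    rw [hu, P.radical.eps_fix _ hp1 hp', Int.cast_one, mul_one, ← e2, hee]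
  intro q hq hqf
  suffices h : ∀ g ∈ Q C F, y (T.sg g) (T.ρ b) = u * f (y g b) by
    have := h q hq
    rwa [hqf.2] at this
  intro g hg
  induction hg using Subgroup.closure_induction with
  | mem x hx =>
    obtain ⟨r, t, hr, h1, rfl⟩ := hx
    rw [P.sg_x r hr]
    obtain ⟨r1, r2⟩ := P.radical.L_rho r hr
    obtain ⟨b1, b2⟩ := P.graded.bound r hr
    by_cases hr1 : L D r = 1
    · rw [he r (mem_ql.2 ⟨hr, hr1⟩), he' _ (mem_ql.2 ⟨r1, r2.trans hr1⟩), P.radical.prt_rho b hb]
      by_cases h : r = prt D b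
      · rw [if_pos (by rw [h]), if_pos h, map_mul, hf hee, hu, h]
        linear_combination (-(e' * (eps (prt D b) : F) * f t)) * hee
      · rw [if_neg fun e0 => h (T.ρ_inj r hr _ hp1 e0), if_neg h, map_zero, mul_zero]
    · obtain rfl := b2 (by omega)
      rw [P.radical.rho_top, y_top C P.graded _ hb, y_top C P.graded _ hb', map_zero, mul_zero]
  | one => rw [T.sg_one, y_one C P.graded hb, y_one C P.graded hb', map_zero, mul_zero]
  | mul a c ha hc iha ihc =>
    rw [T.sg_mul (grp_le_group C _ ha) (grp_le_group C _ hc), y_mul C P.graded (sg_Q P ha) (sg_Q P hc) hb',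
      y_mul C P.graded ha hc hb, iha, ihc, map_add, mul_add]
  | inv a ha iha =>
    rw [T.sg_inv (grp_le_group C _ ha), y_inv C P.graded (sg_Q P ha) hb', y_inv C P.graded ha hb, iha, map_neg,
      mul_neg]

/-- coordinates of a fixed element along an orbit, up to the sign -/
theorem y_rho {b : ℕ} (hb : b ∈ ql D) :
    ∃ u : F, u ≠ 0 ∧ f u = u ∧ (T.ρ b = b → u = 1) ∧
      ∀ q ∈ Q C F, q ∈ T.Fixed → y q (T.ρ b) = u * f (y q b) :=
  let ⟨u, _, h⟩ := y_rho_val P hb
  ⟨u, h⟩

theorem y_iter {b : ℕ} (hb : b ∈ ql D) {q : GL D.Idx F} (hq : q ∈ Q C F) (hqf : q ∈ T.Fixed) (h : y q b = 0)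
    (j : ℕ) : y q (T.ρ^[j] b) = 0 := by
  induction j with
  | zero => exact h
  | succ j ih =>
    obtain ⟨u, -, -, -, hy⟩ := y_rho P (iter_ql P hb j)
    rw [Function.iterate_succ_apply', hy q hq hqf, ih, map_zero, mul_zero]

theorem prt_iter {b : ℕ} (hb : b ∈ ql D) (j : ℕ) : prt D (T.ρ^[j] b) = T.ρ^[j] (prt D b) := by
  induction j with
  | zero => rfl
  | succ j ih => rw [Function.iterate_succ_apply', Function.iterate_succ_apply', P.radical.prt_rho _ (iter_ql P hb j), ih]

/-- the coordinates of an orbit element -/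
theorem y_E {s : ℕ} (hs : s ∈ ql D) (t : F) {b : ℕ} (hb : b ∈ ql D) {e : F}
    (he : ∀ r ∈ ql D, ∀ u : F, y (xg C r u) b = if r = prt D b then e * u else 0) :
    (prt D b = s → y (E T f eps ord s t) b = e * t) ∧
      ((∀ j < per T.ρ ord s, prt D b ≠ T.ρ^[j] s) → y (E T f eps ord s t) b = 0) := by
  obtain ⟨h1, h2⟩ := mem_ql.1 hs
  obtain ⟨hp0, -, -, hcom⟩ := P.radical.orbit s hs
  have key : ∀ n ≤ per T.ρ ord s, ((∀ j < n, prt D b ≠ T.ρ^[j] s) →
      y (((List.range n).map (mem T f eps s t)).prod) b = 0) ∧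
      (prt D b = s → 0 < n → y (((List.range n).map (mem T f eps s t)).prod) b = e * t) := by
    intro n hn
    induction n with
    | zero => exact ⟨fun _ => by simp [y_one C P.graded hb], fun _ h => absurd h (lt_irrefl 0)⟩
    | succ n ih =>
      have hP : ((List.range n).map (mem T f eps s t)).prod ∈ Q C F :=
        Subgroup.list_prod_mem _ fun g hg => by
          obtain ⟨j, -, rfl⟩ := List.mem_map.1 hg
          exact mem_Q P h1 h2.ge t j
      obtain ⟨i1, i2⟩ := ih (by omega)
      have hy : y (((List.range (n + 1)).map (mem T f eps s t)).prod) b =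
          y (((List.range n).map (mem T f eps s t)).prod) b +
            if T.ρ^[n] s = prt D b then e * sc T f eps s t n else 0 := by
        rw [List.range_succ, List.map_append, List.prod_append, List.map_cons, List.map_nil, List.prod_singleton,
          y_mul C P.graded hP (mem_Q P h1 h2.ge t n) hb, mem, he _ (iter_ql P hs n)]
      refine ⟨fun h => ?_, fun h _ => ?_⟩
      · rw [hy, i1 fun j hj => h j (by omega), if_neg fun e0 => h n (by omega) e0.symm, add_zero]
      · rw [hy]
        rcases Nat.eq_zero_or_pos n with rfl | hn0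
        · rw [i1 fun j hj => absurd hj (Nat.not_lt_zero j), if_pos (by rw [h]; rfl), zero_add]
          rfl
        · rw [i2 h hn0, if_neg, add_zero]
          rw [h]
          exact (hcom n (by omega) hn0).1
  exact ⟨fun h => (key _ le_rfl).2 h hp0, (key _ le_rfl).1⟩

/-- fixed elements of the radical with fixed coordinates are fixed by the field endomorphism -/
theorem fixed_of_y {q : GL D.Idx F} (hq : q ∈ Q C F) (hqf : q ∈ T.Fixed)
    (h : ∀ b ∈ ql D, f (y q b) = y q b) : fr f q = q := by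
  classical
  suffices key : ∀ n, ∀ q : GL D.Idx F, q ∈ Q C F → q ∈ T.Fixed → (∀ b ∈ ql D, f (y q b) = y q b) →
      ((ql D).toFinset.filter fun b => y q b ≠ 0).card ≤ n → fr f q = q from key _ q hq hqf h le_rfl
  intro n
  induction n with
  | zero =>
    intro q hq hqf _ hc
    rw [Nat.le_zero, Finset.card_eq_zero, Finset.filter_eq_empty_iff] at hc
    obtain ⟨d, rfl⟩ := eq_top_of_y C P.graded hq fun b hb => by simpa using hc (List.mem_toFinset.2 hb)
    have hT := P.graded.top_lt
    have hd := hqf.2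
    rw [P.sg_x _ hT, P.radical.rho_top, P.radical.eps_fix _ hT P.radical.rho_top, Int.cast_one, one_mul] at hd
    rw [fr_xg f C, hd]
  | succ n ih =>
    intro q hq hqf hy hc
    by_cases hz : ∀ b ∈ ql D, y q b = 0
    · refine ih q hq hqf hy ?_
      rw [Finset.card_eq_zero.2 (Finset.filter_eq_empty_iff.2 fun b hb => by
        simpa using hz b (List.mem_toFinset.1 hb))]
      exact Nat.zero_le _
    push Not at hz
    obtain ⟨b, hb, hne⟩ := hz
    obtain ⟨e, hee, he⟩ := y_partner C P.graded (F := F) hb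
    obtain ⟨hs, hsb, -⟩ := P.graded.partner b hb
    set s := prt D b
    set t := e * y q b with htdef
    have hft : f t = t := by
      rw [htdef, map_mul, hy b hb]
      rcases mul_self_eq_one_iff.1 hee with rfl | rfl <;> simp
    have hE := E_Q P hs t
    have hEf := E_Fixed P hs (t := t) fun _ => hft
    have hEphi : fr f (E T f eps ord s t) = E T f eps ord s t := by
      unfold E
      rw [map_list_prod, List.map_map]
      congr 1
      refine List.map_congr_left fun j _ => ?_
      show fr f (mem T f eps s t j) = mem T f eps s t j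
      rw [mem, fr_xg f C, sc_eq, map_mul, map_intCast, Function.iterate_fixed hft, hft]
    set q' := q * (E T f eps ord s t)⁻¹
    have hq' : q' ∈ Q C F := mul_mem hq (inv_mem hE)
    have hqf' : q' ∈ T.Fixed := mul_mem hqf (inv_mem hEf)
    have hyq : ∀ b' ∈ ql D, y q' b' = y q b' - y (E T f eps ord s t) b' := fun b' hb' => by
      rw [y_mul C P.graded hq (inv_mem hE) hb', y_inv C P.graded hE hb', sub_eq_add_neg]
    have hzero : y q' b = 0 := by
      rw [hyq b hb, (y_E P hs t hb he).1 rfl, htdef, ← mul_assoc, hee, one_mul, sub_self]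
    have hstep : ∀ b' ∈ ql D, y q' b' = 0 ∨ y q' b' = y q b' := by
      intro b' hb'
      by_cases horb : ∃ j, prt D b' = T.ρ^[j] s
      · obtain ⟨j, hj⟩ := horb
        left
        have : b' = T.ρ^[j] b := by
          rw [← prt_iter P hb] at hj
          obtain ⟨-, h1, -⟩ := P.graded.partner b' hb'
          obtain ⟨-, h2, -⟩ := P.graded.partner _ (iter_ql P hb j)
          rw [← h1, hj, h2]
        rw [this]
        exact y_iter P hb hq' hqf' hzero j
      · right
        obtain ⟨e', -, he'⟩ := y_partner C P.graded (F := F) hb'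
        rw [hyq b' hb', (y_E P hs t hb' he').2 fun j _ hj => horb ⟨j, hj⟩, sub_zero]
    have hfix' := ih q' hq' hqf' (fun b' hb' => by
      rcases hstep b' hb' with h | h <;> rw [h]
      · exact map_zero f
      · exact hy b' hb') (by
      have hlt : ((ql D).toFinset.filter fun b' => y q' b' ≠ 0).card <
          ((ql D).toFinset.filter fun b' => y q b' ≠ 0).card := by
        refine Finset.card_lt_card ((Finset.ssubset_iff_of_subset fun b' hb' => ?_).2 ⟨b, ?_, ?_⟩)
        · obtain ⟨h1, h2⟩ := Finset.mem_filter.1 hb'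
          refine Finset.mem_filter.2 ⟨h1, ?_⟩
          rcases hstep b' (List.mem_toFinset.1 h1) with h | h
          · exact absurd h h2
          · rwa [← h]
        · exact Finset.mem_filter.2 ⟨List.mem_toFinset.2 hb, hne⟩
        · intro hb'
          exact (Finset.mem_filter.1 hb').2 hzero
      omega)
    rw [show q = q' * E T f eps ord s t by simp [q'], map_mul, hfix', hEphi]

end Cfsg.Agent.TwistSubfieldOrbit33
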