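import Mathlib

/-! The twisted group algebra of `𝔽₂^m` over `𝔽₃` for a bilinear form with nondegenerate
symmetrisation: every isometry lifts to a unit, unique up to the signed monomials. -/

set_option autoImplicit false

namespace Cfsg.Agent.TwistedAlgebra

/-- `(-1)^a` in `𝔽₃`. -/
def sgn (a : ZMod 2) : ZMod 3 := if a = 0 then 1 else -1

theorem sgn_add : ∀ a b : ZMod 2, sgn (a + b) = sgn a * sgn b := by decide

theorem sgn_zero : sgn 0 = 1 := rfl

theorem sgn_mul_self : ∀ a : ZMod 2, sgn a * sgn a = 1 := by decide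

theorem sgn_eq_one : ∀ a : ZMod 2, sgn a = 1 ↔ a = 0 := by decide

theorem sgn_ne_zero : ∀ a : ZMod 2, sgn a ≠ 0 := by decide

theorem sgn_inj : ∀ a b : ZMod 2, sgn a = sgn b → a = b := by decide

theorem zmod_three_cases : ∀ c : ZMod 3, c ≠ 0 → c = 1 ∨ c = -1 := by decide

theorem zmod_two_sq : ∀ a : ZMod 2, a + a = 0 := by decide

variable {m : ℕ}

/-- Bilinear forms on `𝔽₂^m`. -/
abbrev Form (m : ℕ) := (Fin m → ZMod 2) →ₗ[ZMod 2] (Fin m → ZMod 2) →ₗ[ZMod 2] ZMod 2

theorem add_self (u : Fin m → ZMod 2) : u + u = 0 := funext fun _ => zmod_two_sq _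

theorem eq_add_iff {u v x : Fin m → ZMod 2} : u + v = x ↔ v = u + x := by
  constructor
  · rintro rfl; rw [← add_assoc, add_self, zero_add]
  · rintro rfl; rw [← add_assoc, add_self, zero_add]

/-- The twisted group algebra. -/
def Tw (_β : Form m) : Type := (Fin m → ZMod 2) → ZMod 3

variable {β : Form m}

instance instAddCommGroupTw : AddCommGroup (Tw β) :=
  inferInstanceAs (AddCommGroup ((Fin m → ZMod 2) → ZMod 3))

instance instFiniteTw : Finite (Tw β) :=
  inferInstanceAs (Finite ((Fin m → ZMod 2) → ZMod 3))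

/-- Monomials. -/
def mon (c : ZMod 3) (u : Fin m → ZMod 2) : Tw β := fun x => if x = u then c else 0

theorem mon_apply (c : ZMod 3) (u x : Fin m → ZMod 2) :
    (mon c u : Tw β) x = if x = u then c else 0 := rfl

instance instMulTw : Mul (Tw β) :=
  ⟨fun f g x => ∑ u, sgn (β u (u + x)) * f u * g (u + x)⟩

theorem mul_apply (f g : Tw β) (x : Fin m → ZMod 2) :
    (f * g) x = ∑ u, sgn (β u (u + x)) * f u * g (u + x) := rfl

instance instOneTw : One (Tw β) := ⟨mon 1 0⟩

theorem mon_mul_apply (c : ZMod 3) (u : Fin m → ZMod 2) (g : Tw β) (x : Fin m → ZMod 2) :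
    ((mon c u : Tw β) * g) x = sgn (β u (u + x)) * c * g (u + x) := by
  rw [mul_apply, Finset.sum_eq_single u]
  · rw [mon_apply, if_pos rfl]
  · intro v _ hv; rw [mon_apply, if_neg hv, mul_zero, zero_mul]
  · intro h; exact absurd (Finset.mem_univ u) h

theorem mul_mon_apply (c : ZMod 3) (u : Fin m → ZMod 2) (g : Tw β) (x : Fin m → ZMod 2) :
    (g * (mon c u : Tw β)) x = sgn (β (u + x) u) * g (u + x) * c := by
  have hz : (u + x) + x = u := by rw [add_assoc, add_self, add_zero]
  rw [mul_apply, Finset.sum_eq_single (u + x)]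
  · rw [mon_apply, hz, if_pos rfl]
  · intro v _ hv
    rw [mon_apply, if_neg, mul_zero]
    intro h
    apply hv
    rw [← h, add_assoc, add_self, add_zero]
  · intro h; exact absurd (Finset.mem_univ _) h

instance instRingTw : Ring (Tw β) :=
  { instAddCommGroupTw, instMulTw, instOneTw with
    one_mul := fun f => funext fun x => by
      show ((mon 1 0 : Tw β) * f) x = f x
      rw [mon_mul_apply, zero_add, map_zero, LinearMap.zero_apply, sgn_zero, one_mul, one_mul]
    mul_one := fun f => funext fun x => by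
      show (f * (mon 1 0 : Tw β)) x = f x
      rw [mul_mon_apply, zero_add, map_zero, sgn_zero, one_mul, mul_one]
    zero_mul := fun f => funext fun x => by
      rw [mul_apply]; exact Finset.sum_eq_zero fun u _ => by
        show sgn _ * (0 : ZMod 3) * _ = 0
        rw [mul_zero, zero_mul]
    mul_zero := fun f => funext fun x => by
      rw [mul_apply]; exact Finset.sum_eq_zero fun u _ => by
        show sgn _ * _ * (0 : ZMod 3) = 0
        rw [mul_zero]
    left_distrib := fun f g h => funext fun x => by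
      show (f * (g + h)) x = (f * g) x + (f * h) x
      simp only [mul_apply]
      rw [← Finset.sum_add_distrib]
      exact Finset.sum_congr rfl fun u _ => mul_add _ _ _
    right_distrib := fun f g h => funext fun x => by
      show ((f + g) * h) x = (f * h) x + (g * h) x
      simp only [mul_apply]
      rw [← Finset.sum_add_distrib]
      refine Finset.sum_congr rfl fun u _ => ?_
      show sgn _ * (f u + g u) * _ = _
      rw [mul_add, add_mul]
    mul_assoc := fun f g h => funext fun x => by
      simp only [mul_apply, Finset.mul_sum, Finset.sum_mul]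
      rw [Finset.sum_comm]
      refine Finset.sum_congr rfl fun u _ => ?_
      refine Fintype.sum_equiv (Equiv.addLeft u) _ _ fun v => ?_
      have hv : u + (u + v) = v := by rw [← add_assoc, add_self, zero_add]
      have hvx : u + v + (u + x) = v + x := by
        rw [add_add_add_comm, add_self, zero_add]
      simp only [Equiv.coe_addLeft, hvx]
      have key : sgn (β v (v + x)) * sgn (β u (u + v)) =
          sgn (β u (u + x)) * sgn (β (u + v) (v + x)) := by
        rw [← sgn_add, ← sgn_add]
        congr 1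
        simp only [map_add, LinearMap.add_apply]
        linear_combination -(zmod_two_sq (β u x))
      calc _ = sgn (β v (v + x)) * sgn (β u (u + v)) * f u * g (u + v) * h (v + x) := by ring
        _ = _ := by rw [key]; ring }

theorem mon_mul_mon (c d : ZMod 3) (u v : Fin m → ZMod 2) :
    (mon c u : Tw β) * mon d v = mon (sgn (β u v) * (c * d)) (u + v) := by
  funext x
  rw [mon_mul_apply, mon_apply, mon_apply]
  by_cases h : x = u + v
  · subst h
    have hv : u + (u + v) = v := by rw [← add_assoc, add_self, zero_add]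
    rw [if_pos hv, if_pos rfl, hv, mul_assoc]
  · rw [if_neg h, if_neg, mul_zero]
    exact fun h' => h (eq_add_iff.mp h' )

theorem one_def : (1 : Tw β) = mon 1 0 := rfl

theorem mon_inj {c d : ZMod 3} {u v : Fin m → ZMod 2} (hc : c ≠ 0)
    (h : (mon c u : Tw β) = mon d v) : u = v ∧ c = d := by
  have h1 := congrFun h u
  rw [mon_apply, mon_apply, if_pos rfl] at h1
  by_cases hu : u = v
  · rw [if_pos hu] at h1; exact ⟨hu, h1⟩
  · rw [if_neg hu] at h1; exact absurd h1 hc

theorem sgn_polar (u v : Fin m → ZMod 2) :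
    sgn (β v u) = sgn (β u v + β v u) * sgn (β u v) := by
  rw [← sgn_add, add_comm (β u v) (β v u), add_assoc, zmod_two_sq, add_zero]

/-- Monomials commute up to the symmetrised form. -/
theorem mon_swap (u v : Fin m → ZMod 2) :
    (mon 1 v : Tw β) * mon 1 u = mon (sgn (β u v + β v u)) 0 * (mon 1 u * mon 1 v) := by
  rw [mon_mul_mon, mon_mul_mon, mon_mul_mon, map_zero, LinearMap.zero_apply, sgn_zero, zero_add,
    add_comm v u]
  simp only [mul_one, one_mul, ← sgn_polar]

/-- The inverse of a monomial. -/
def minv (u : Fin m → ZMod 2) : Tw β := mon (sgn (β u u)) u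

theorem mon_mul_minv (u : Fin m → ZMod 2) : (mon 1 u : Tw β) * minv u = 1 := by
  rw [minv, mon_mul_mon, one_mul, sgn_mul_self, add_self, one_def]

theorem minv_mul_mon (u : Fin m → ZMod 2) : (minv u : Tw β) * mon 1 u = 1 := by
  rw [minv, mon_mul_mon, mul_one, sgn_mul_self, add_self, one_def]

theorem sum_apply {ι : Type*} (s : Finset ι) (f : ι → Tw β) (x : Fin m → ZMod 2) :
    (∑ i ∈ s, f i) x = ∑ i ∈ s, f i x := Finset.sum_apply x s f

/-- Nondegeneracy of the symmetrised form. -/
def Nd (β : Form m) : Prop := ∀ u, (∀ v, β u v + β v u = 0) → u = 0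

theorem conj_apply (w : Fin m → ZMod 2) (f : Tw β) (x : Fin m → ZMod 2) :
    ((mon 1 w : Tw β) * f * minv w : Tw β) x = sgn (β w x + β x w) * f x := by
  rw [minv, mul_mon_apply, mon_mul_apply, show w + (w + x) = x by rw [← add_assoc, add_self, zero_add],
    mul_one]
  have : sgn (β (w + x) w) * sgn (β w x) * sgn (β w w) = sgn (β w x + β x w) := by
    rw [← sgn_add, ← sgn_add]
    congr 1
    simp only [map_add, LinearMap.add_apply]
    linear_combination (zmod_two_sq (β w w) : _)
  rw [← this]; ring

theorem sum_sgn (hnd : Nd β) {x : Fin m → ZMod 2} (hx : x ≠ 0) :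
    ∑ w, sgn (β w x + β x w) = 0 := by
  obtain ⟨v, hv⟩ : ∃ v, β x v + β v x ≠ 0 := by
    by_contra h
    simp only [not_exists, not_not] at h
    exact hx (hnd x h)
  have h1 : ∑ w, sgn (β w x + β x w) = sgn (β v x + β x v) * ∑ w, sgn (β w x + β x w) := by
    rw [Finset.mul_sum]
    refine (Fintype.sum_equiv (Equiv.addLeft v) _ _ fun w => ?_).symm
    rw [Equiv.coe_addLeft, ← sgn_add]
    congr 1
    simp only [map_add, LinearMap.add_apply]
    abel
  have hne : sgn (β v x + β x v) = -1 := by
    have h2 : β v x + β x v ≠ 0 := by rwa [add_comm]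
    rw [sgn, if_neg h2]
  rw [hne] at h1
  have key : ∀ s : ZMod 3, s = -1 * s → s = 0 := by decide
  exact key _ h1

theorem card_univ_ne : (Fintype.card (Fin m → ZMod 2) : ZMod 3) ≠ 0 := by
  rw [Fintype.card_fun, Fintype.card_fin, ZMod.card]
  push_cast
  exact pow_ne_zero _ (by decide)

/-- Averaging projects onto the scalars. -/
theorem average (hnd : Nd β) (f : Tw β) :
    ∑ w, (mon 1 w : Tw β) * f * minv w =
      mon ((Fintype.card (Fin m → ZMod 2) : ZMod 3) * f 0) 0 := by
  funext x
  rw [sum_apply, mon_apply, Finset.sum_congr rfl fun w _ => conj_apply w f x, ← Finset.sum_mul]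
  by_cases hx : x = 0
  · subst hx
    simp [sgn_zero]
  · rw [if_neg hx, sum_sgn hnd hx, zero_mul]

/-- Every isometry is induced by a unit. -/
theorem exists_unit (hnd : Nd β) (g : (Fin m → ZMod 2) →ₗ[ZMod 2] (Fin m → ZMod 2))
    (c : (Fin m → ZMod 2) → ZMod 2)
    (hc : ∀ u v, c (u + v) = c u + c v + (β (g u) (g v) + β u v)) :
    ∃ r : (Tw β)ˣ, ∀ u, (r : Tw β) * mon 1 u = mon (sgn (c u)) (g u) * (r : Tw β) := by
  let T : Tw β → Tw β := fun f => ∑ u, mon (sgn (c u)) (g u) * f * minv u
  have hT : ∀ f v, mon (sgn (c v)) (g v) * T f = T f * mon 1 v := by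
    intro f v
    simp only [T, Finset.mul_sum, Finset.sum_mul]
    refine Fintype.sum_equiv (Equiv.addLeft v) _ _ fun u => ?_
    rw [Equiv.coe_addLeft, ← mul_assoc, ← mul_assoc, mon_mul_mon, map_add]
    have e1 : sgn (β (g v) (g u)) * (sgn (c v) * sgn (c u)) = sgn (β v u) * sgn (c (v + u)) := by
      rw [← sgn_add, ← sgn_add, ← sgn_add, hc]
      congr 1
      linear_combination -(zmod_two_sq (β v u))
    have e2 : (minv (v + u) : Tw β) * mon 1 v = mon (sgn (β v u)) 0 * minv u := by
      rw [minv, minv, mon_mul_mon, mon_mul_mon, map_zero, LinearMap.zero_apply, sgn_zero, zero_add,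
        add_comm v u, add_assoc, add_self, add_zero, mul_one, one_mul]
      congr 1
      rw [← sgn_add, ← sgn_add]
      congr 1
      simp only [map_add, LinearMap.add_apply]
      linear_combination zmod_two_sq (β v v) + zmod_two_sq (β u v)
    rw [e1, mul_assoc (_ * f), e2, ← mul_assoc, mul_assoc _ f (mon _ 0)]
    congr 1
    have hcomm : f * (mon (sgn (β v u)) 0 : Tw β) = mon (sgn (β v u)) 0 * f := by
      funext x
      rw [mul_mon_apply, mon_mul_apply, zero_add, map_zero, map_zero, LinearMap.zero_apply,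
        sgn_zero, one_mul, one_mul, mul_comm]
    rw [hcomm, ← mul_assoc, mon_mul_mon, map_zero, sgn_zero, one_mul, add_zero]
    congr 2
    ring
  obtain ⟨w, hw⟩ : ∃ w, T (mon 1 w) ≠ 0 := by
    by_contra hall
    simp only [not_exists, not_not] at hall
    have h2 : ∑ w, T (mon 1 w) * minv w = 0 :=
      Finset.sum_eq_zero fun w _ => by rw [hall, zero_mul]
    simp only [T, Finset.sum_mul] at h2
    rw [Finset.sum_comm] at h2
    have h3 : ∀ u, ∑ w, mon (sgn (c u)) (g u) * mon 1 w * minv u * minv w =
        (mon (sgn (c u)) (g u) : Tw β) * mon ((Fintype.card (Fin m → ZMod 2) : ZMod 3) *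
          (minv u : Tw β) 0) 0 := fun u => by
      rw [← average hnd, Finset.mul_sum]
      exact Finset.sum_congr rfl fun w _ => by simp only [mul_assoc]
    simp only [h3] at h2
    rw [Finset.sum_eq_single 0] at h2
    · have hc0 := hc 0 0
      simp only [add_zero, map_zero, LinearMap.zero_apply] at hc0
      have hc0' : c 0 = 0 := left_eq_add.mp hc0
      have h4 := congrFun h2 0
      simp [hc0', mon_mul_apply, mon_apply, minv, sgn_zero] at h4
      exact pow_ne_zero m (show (2 : ZMod 3) ≠ 0 by decide) h4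
    · intro u _ hu
      rw [minv, mon_apply, if_neg (Ne.symm hu), mul_zero]
      funext x
      rw [mul_mon_apply, mul_zero]
      rfl
    · intro h; exact absurd (Finset.mem_univ _) h
  set a := T (mon 1 w)
  have hann : ∀ y, a * y = 0 → y = 0 := by
    intro y hy
    by_contra hne
    obtain ⟨x, hx⟩ : ∃ x, y x ≠ 0 := by
      by_contra h
      simp only [not_exists, not_not] at h
      exact hne (funext h)
    have h1 : ∀ v, a * ((mon 1 v : Tw β) * (y * minv x) * minv v) = 0 := fun v => by
      rw [← mul_assoc, ← mul_assoc, ← hT, mul_assoc (mon _ _) a, ← mul_assoc a, hy, zero_mul,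
        mul_zero, zero_mul]
    have h2 : a * ∑ v, (mon 1 v : Tw β) * (y * minv x) * minv v = 0 := by
      rw [Finset.mul_sum]; exact Finset.sum_eq_zero fun v _ => h1 v
    rw [average hnd] at h2
    apply hw
    funext z
    have h3 := congrFun h2 z
    rw [mul_mon_apply, zero_add, map_zero, sgn_zero, one_mul] at h3
    have hy0 : (y * (minv x : Tw β)) 0 ≠ 0 := by
      rw [minv, mul_mon_apply, add_zero]
      exact mul_ne_zero (mul_ne_zero (sgn_ne_zero _) hx) (sgn_ne_zero _)
    exact (mul_eq_zero.mp h3).resolve_right (mul_ne_zero card_univ_ne hy0)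
  have hinj : Function.Injective (fun y => a * y) := fun y y' h => by
    rw [← sub_eq_zero]
    exact hann _ (by rw [mul_sub]; exact sub_eq_zero.mpr h)
  obtain ⟨b, hb⟩ := Finite.injective_iff_surjective.mp hinj 1
  have hb' : a * b = 1 := hb
  have hba : b * a = 1 := hinj (by simp only; rw [← mul_assoc, hb', one_mul, mul_one])
  exact ⟨⟨a, b, hb', hba⟩, fun u => (hT _ u).symm⟩

/-- A unit fixing all monomials up to sign is a signed monomial. -/
theorem eq_mon (hnd : Nd β) (r : (Tw β)ˣ)
    (h : ∀ u, ∃ s : ZMod 2, (r : Tw β) * mon 1 u = mon (sgn s) u * (r : Tw β)) :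
    ∃ (s : ZMod 2) (w : Fin m → ZMod 2), (r : Tw β) = mon (sgn s) w := by
  obtain ⟨w, hw⟩ : ∃ w, (r : Tw β) w ≠ 0 := by
    by_contra h0
    simp only [not_exists, not_not] at h0
    have h1 : (r : Tw β) * (r⁻¹ : (Tw β)ˣ) = 1 := r.mul_inv
    have h2 : (r : Tw β) = 0 := funext h0
    rw [h2, zero_mul] at h1
    have := congrFun h1 0
    rw [one_def, mon_apply, if_pos rfl] at this
    exact absurd this (show ¬ (0 : ZMod 3) = 1 by decide)
  choose s hs using h
  have hcoef : ∀ u x, sgn (β x u) * (r : Tw β) x = sgn (β u x) * sgn (s u) * (r : Tw β) x := by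
    intro u x
    have h1 := congrFun (hs u) (u + x)
    rw [mul_mon_apply, mon_mul_apply, show u + (u + x) = x by
      rw [← add_assoc, add_self, zero_add], mul_one] at h1
    exact h1
  have key : ∀ x, (r : Tw β) x ≠ 0 → x = w := by
    intro x hx
    have hxy : ∀ u, sgn (β x u + β u x) = sgn (β w u + β u w) := by
      intro u
      have e : ∀ y, (r : Tw β) y ≠ 0 → sgn (β y u + β u y) = sgn (s u) := fun y hy => by
        have := mul_right_cancel₀ hy (hcoef u y)
        rw [sgn_add, this, mul_comm (sgn (β u y)) (sgn (s u)), mul_assoc, sgn_mul_self, mul_one]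
      rw [e x hx, e w hw]
    have : x + w = 0 := by
      refine hnd _ fun u => ?_
      have := sgn_inj _ _ (hxy u)
      rw [map_add, map_add, LinearMap.add_apply, add_add_add_comm, this, zmod_two_sq]
    rw [eq_add_iff, add_zero] at this
    exact this.symm
  have hs : ∃ t, sgn t = (r : Tw β) w := by
    rcases zmod_three_cases _ hw with e | e
    · exact ⟨0, e.symm⟩
    · exact ⟨1, e.symm⟩
  obtain ⟨t, ht⟩ := hs
  refine ⟨t, w, funext fun x => ?_⟩
  rw [mon_apply, ht]
  by_cases hx : x = w
  · rw [if_pos hx, hx]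
  · rw [if_neg hx]
    by_contra hne
    exact hx (key x hne)

end Cfsg.Agent.TwistedAlgebra
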