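import Cfsg.Agent.Lib.ChevBruhatInstance

/-!
Fixed points of an endomorphism of a Chevalley group that permutes the root subgroups according to a symmetry of
the root system: compatibility with the Bruhat normal form.
-/

set_option autoImplicit false
set_option linter.unusedSectionVars false

namespace Cfsg.Agent.TwistedCore

open Cfsg.Lie Cfsg.Agent.ChevalleyCert Cfsg.Agent.ChevalleyCore Cfsg.Agent.ChevalleyRoots Cfsg.Agent.ChevalleyTorus
  Cfsg.Agent.ChevWeyl Cfsg.Agent.ChevBruhat Cfsg.Agent.ChevBruhatInstance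

variable {D : ChevalleyDatum}

/-- an endomorphism of the Chevalley group inducing a symmetry of the root system -/
structure Twist (C : Cert D) (F : Type*) [Field F] where
  /-- the Weyl group data -/
  wX : Weyl D
  supp : suppCheck D = true
  /-- the symmetry on root indices -/
  ρ : ℕ → ℕ
  /-- the symmetry on fundamental roots -/
  ρs : ℕ → ℕ
  /-- its inverse -/
  ρi : ℕ → ℕ
  /-- the field endomorphisms on the fundamental root subgroups -/
  fr : ℕ → F →+* F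
  /-- the endomorphism -/
  σ : ↥(D.group F) →* GL D.Idx F
  ρs_lt : ∀ i < D.rank, ρs i < D.rank ∧ ρi i < D.rank ∧ ρi (ρs i) = i ∧ ρs (ρi i) = i
  ρ_lt : ∀ r < D.nroots, ρ r < D.nroots
  ρ_inj : ∀ r < D.nroots, ∀ s < D.nroots, ρ r = ρ s → r = s
  ρ_simple : ∀ i < D.rank, ρ (D.simple i) = D.simple (ρs i)
  ρ_neg : ∀ r < D.nroots, ρ (D.neg r) = D.neg (ρ r)
  ρ_refl : ∀ i < D.rank, ∀ r < D.nroots, ρ (D.reflectRoot i r) = D.reflectRoot (ρs i) (ρ r)
  ρ_pos : ∀ r < D.nroots, D.nroots / 2 ≤ r → D.nroots / 2 ≤ ρ r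
  σ_pos : ∀ i < D.rank, ∀ (t : F) (h : xg C (D.simple i) t ∈ D.group F),
    σ ⟨_, h⟩ = xg C (D.simple (ρs i)) (fr i t)
  σ_neg : ∀ i < D.rank, ∀ (t : F) (h : xg C (D.neg (D.simple i)) t ∈ D.group F),
    σ ⟨_, h⟩ = xg C (D.neg (D.simple (ρs i))) (fr i t)

namespace Twist

variable {C : Cert D} {F : Type*} [Field F] (T : Twist C F)

/-- the Bruhat data -/
abbrev S : Sys D F := mkSys C T.wX T.supp

/-- the Weyl group data of the Bruhat data -/
abbrev X : Weyl D := T.S.X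

open Classical in
/-- the endomorphism, extended by `1` off the group -/
noncomputable def sg (g : GL D.Idx F) : GL D.Idx F := if h : g ∈ D.group F then T.σ ⟨g, h⟩ else 1

lemma sg_eq {g : GL D.Idx F} (h : g ∈ D.group F) : T.sg g = T.σ ⟨g, h⟩ := dif_pos h

lemma sg_one : T.sg 1 = 1 := by
  rw [T.sg_eq (one_mem _)]; exact map_one T.σ

lemma sg_mul {a b : GL D.Idx F} (ha : a ∈ D.group F) (hb : b ∈ D.group F) : T.sg (a * b) = T.sg a * T.sg b := by
  rw [T.sg_eq ha, T.sg_eq hb, T.sg_eq (mul_mem ha hb), ← map_mul]; rfl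

lemma sg_inv {a : GL D.Idx F} (ha : a ∈ D.group F) : T.sg a⁻¹ = (T.sg a)⁻¹ := by
  rw [T.sg_eq ha, T.sg_eq (inv_mem ha), ← map_inv]; rfl

lemma sg_conj {a b : GL D.Idx F} (ha : a ∈ D.group F) (hb : b ∈ D.group F) :
    T.sg (a * b * a⁻¹) = T.sg a * T.sg b * (T.sg a)⁻¹ := by
  rw [T.sg_mul (mul_mem ha hb) (inv_mem ha), T.sg_mul ha hb, T.sg_inv ha]

/-- the fixed points -/
def Fixed : Subgroup (GL D.Idx F) where
  carrier := {g | g ∈ D.group F ∧ T.sg g = g}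
  one_mem' := ⟨one_mem _, T.sg_one⟩
  mul_mem' {a b} ha hb := ⟨mul_mem ha.1 hb.1, by rw [T.sg_mul ha.1 hb.1, ha.2, hb.2]⟩
  inv_mem' {a} ha := ⟨inv_mem ha.1, by rw [T.sg_inv ha.1, ha.2]⟩

lemma mem_Fixed {g : GL D.Idx F} : g ∈ T.Fixed ↔ g ∈ D.group F ∧ T.sg g = g := Iff.rfl

lemma Fixed_le : T.Fixed ≤ D.group F := fun _ h => h.1

lemma sg_closure_le {A : Set (GL D.Idx F)} (hA : A ⊆ (D.group F : Set (GL D.Idx F))) {K : Subgroup (GL D.Idx F)}
    (h : ∀ a ∈ A, T.sg a ∈ K) {x : GL D.Idx F} (hx : x ∈ Subgroup.closure A) : T.sg x ∈ K := by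
  have key : x ∈ D.group F ∧ T.sg x ∈ K := by
    induction hx using Subgroup.closure_induction with
    | mem a ha => exact ⟨hA ha, h a ha⟩
    | one => exact ⟨one_mem _, by rw [T.sg_one]; exact one_mem _⟩
    | mul a b _ _ ha hb => exact ⟨mul_mem ha.1 hb.1, by rw [T.sg_mul ha.1 hb.1]; exact mul_mem ha.2 hb.2⟩
    | inv a _ ha => exact ⟨inv_mem ha.1, by rw [T.sg_inv ha.1]; exact inv_mem ha.2⟩
  exact key.2

lemma sg_simple {i : ℕ} (hi : i < D.rank) (t : F) :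
    T.sg (xg C (D.simple i) t) = xg C (D.simple (T.ρs i)) (T.fr i t) := by
  rw [T.sg_eq (xg_mem_group C _ _)]; exact T.σ_pos i hi t _

lemma sg_negSimple {i : ℕ} (hi : i < D.rank) (t : F) :
    T.sg (xg C (D.neg (D.simple i)) t) = xg C (D.neg (D.simple (T.ρs i))) (T.fr i t) := by
  rw [T.sg_eq (xg_mem_group C _ _)]; exact T.σ_neg i hi t _

lemma ng_mem_group (r : ℕ) (t : F) : ng C r t ∈ D.group F :=
  mul_mem (mul_mem (xg_mem_group C _ _) (xg_mem_group C _ _)) (xg_mem_group C _ _)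

lemma sg_ng_simple {i : ℕ} (hi : i < D.rank) (t : F) :
    T.sg (ng C (D.simple i) t) = ng C (D.simple (T.ρs i)) (T.fr i t) := by
  unfold ng
  rw [T.sg_mul (mul_mem (xg_mem_group C _ _) (xg_mem_group C _ _)) (xg_mem_group C _ _),
    T.sg_mul (xg_mem_group C _ _) (xg_mem_group C _ _), T.sg_simple hi, T.sg_negSimple hi, map_neg, map_inv₀]

lemma sg_hg_simple {i : ℕ} (hi : i < D.rank) (t : F) :
    T.sg (hg C (D.simple i) t) = hg C (D.simple (T.ρs i)) (T.fr i t) := by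
  unfold hg
  rw [T.sg_mul (ng_mem_group _ _) (ng_mem_group _ _), T.sg_ng_simple hi, T.sg_ng_simple hi, map_neg, map_one]

/-- the endomorphism on an arbitrary root subgroup -/
lemma exists_scalar {r : ℕ} (hr : r < D.nroots) :
    ∃ f : F → F, Function.Injective f ∧ f 0 = 0 ∧ ∀ t, T.sg (xg C r t) = xg C (T.ρ r) (f t) := by
  refine root_induction C (P := fun r => ∃ f : F → F, Function.Injective f ∧ f 0 = 0 ∧
    ∀ t, T.sg (xg C r t) = xg C (T.ρ r) (f t)) ?_ ?_ r hr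
  · intro i hi
    exact ⟨T.fr i, (T.fr i).injective, map_zero _, fun t => by rw [T.sg_simple hi, T.ρ_simple i hi]⟩
  · rintro i r hi hr ⟨f, hf, hf0, h⟩
    obtain ⟨hi', -, -, -⟩ := T.ρs_lt i hi
    refine ⟨fun t => (C.eta (T.ρs i) (T.ρ r) : F) * f ((C.eta i r : F) * t), ?_, by simp [hf0], fun t => ?_⟩
    · exact fun a b hab => mul_left_cancel₀ (eta_cast_ne C i r)
        (hf (mul_left_cancel₀ (eta_cast_ne C _ _) hab))
    · have h1 : xg C (wr D i r) t = ng C (D.simple i) 1 * xg C r ((C.eta i r : F) * t) *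
          (ng C (D.simple i) 1)⁻¹ := by
        rw [ng_simple_conj C hi hr, ← mul_assoc, eta_cast_sq C, one_mul]
      rw [h1, T.sg_conj (ng_mem_group _ _) (xg_mem_group C _ _), h, T.sg_ng_simple hi, map_one,
        ng_simple_conj C hi' (T.ρ_lt r hr), ← T.ρ_refl i hi r hr]

lemma sg_simple_mem_group (r : ℕ) (t : F) : xg C r t ∈ D.group F := xg_mem_group C r t

/-! ### the symmetry on roots -/

lemma ρ_isPos {r : ℕ} (hr : D.IsPosRoot r) : D.IsPosRoot (T.ρ r) :=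
  (T.X.pos_iff_le (T.ρ_lt r hr.1)).mpr (T.ρ_pos r hr.1 ((T.X.pos_iff_le hr.1).mp hr))

lemma ρ_isNeg {r : ℕ} (hr : D.IsNegRoot r) : D.IsNegRoot (T.ρ r) := by
  have h := T.ρ_isPos ((T.X.pos_neg_iff hr.1).mpr hr)
  rw [T.ρ_neg r hr.1] at h
  exact (T.X.pos_neg_iff (T.ρ_lt r hr.1)).mp h

lemma ρ_surj {s : ℕ} (hs : s < D.nroots) : ∃ r, r < D.nroots ∧ T.ρ r = s := by
  let g : Fin D.nroots → Fin D.nroots := fun r => ⟨T.ρ r, T.ρ_lt r r.isLt⟩
  have hg : Function.Injective g := fun a b h =>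
    Fin.ext (T.ρ_inj a a.isLt b b.isLt (congrArg Fin.val h))
  obtain ⟨r, hr⟩ := (Finite.injective_iff_surjective.mp hg) ⟨s, hs⟩
  exact ⟨r, r.isLt, congrArg Fin.val hr⟩

lemma pos_of_ρ_pos {r : ℕ} (hr : r < D.nroots) (h : D.IsPosRoot (T.ρ r)) : D.IsPosRoot r :=
  (T.X.pos_or_neg hr).resolve_right fun hn => T.X.not_pos_and_neg h (T.ρ_isNeg hn)

lemma ρ_iter_lt (k : ℕ) {r : ℕ} (hr : r < D.nroots) : T.ρ^[k] r < D.nroots := by
  induction k with
  | zero => exact hr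
  | succ k ih => rw [Function.iterate_succ_apply']; exact T.ρ_lt _ ih

/-! ### images of `U`, `H`, `N`, `B` -/

lemma sg_U {u : GL D.Idx F} (hu : u ∈ D.posUnipotent F) : T.sg u ∈ D.posUnipotent F := by
  refine T.sg_closure_le (A := {g | ∃ (r : ℕ) (t : F), D.IsPosRoot r ∧
    (g : Matrix D.Idx D.Idx F) = D.x F r t}) (fun g hg => ?_) (fun g hg => ?_) hu
  · obtain ⟨r, t, -, he⟩ := hg
    rw [(xg_eq_iff C).1 he]; exact xg_mem_group C r t
  · obtain ⟨r, t, hr, he⟩ := hg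
    obtain ⟨f, -, -, hf⟩ := T.exists_scalar hr.1
    rw [(xg_eq_iff C).1 he, hf]
    exact T.S.xg_mem_U (T.ρ_isPos hr) _

lemma sg_torus_single (i : Fin D.rank) (c : Fˣ) :
    T.sg (torus D (Pi.mulSingle i c)) ∈ D.diagonalSubgroup F := by
  rw [← hg_simple C, T.sg_hg_simple i.isLt]
  exact hg_mem_H C (simple_lt C (T.ρs_lt i i.isLt).1) ((map_ne_zero_iff _ (T.fr i).injective).mpr c.ne_zero)

lemma sg_H {h : GL D.Idx F} (hh : h ∈ D.diagonalSubgroup F) : T.sg h ∈ D.diagonalSubgroup F := by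
  obtain ⟨c, rfl⟩ := (mem_H_iff C).1 hh
  rw [← Finset.univ_prod_mulSingle c]
  induction (Finset.univ : Finset (Fin D.rank)) using Finset.induction_on with
  | empty => simp [T.sg_one]
  | insert a A ha ih =>
    rw [Finset.prod_insert ha, map_mul,
      T.sg_mul (T.S.H_le_group (torus_mem_H C _)) (T.S.H_le_group (torus_mem_H C _))]
    exact mul_mem (T.sg_torus_single a (c a)) ih

lemma sg_N {n : GL D.Idx F} (hn : n ∈ D.monomialSubgroup F) : T.sg n ∈ D.monomialSubgroup F := by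
  rw [N_eq C, ← Subgroup.closure_eq (D.diagonalSubgroup F), ← Subgroup.closure_union] at hn
  refine T.sg_closure_le (fun g hg => ?_) (fun g hg => ?_) hn
  · rcases hg with hg | ⟨i, rfl⟩
    · exact T.S.H_le_group hg
    · exact ng_mem_group _ _
  · rcases hg with hg | ⟨i, rfl⟩
    · exact Subgroup.mem_sup_left (T.sg_H hg)
    · show T.sg (ng C (D.simple i) 1) ∈ _
      rw [T.sg_ng_simple i.isLt, map_one]
      exact ns_mem_N C (T.ρs_lt i i.isLt).1

lemma sg_B {b : GL D.Idx F} (hb : b ∈ D.borelSubgroup F) : T.sg b ∈ D.borelSubgroup F := by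
  obtain ⟨h, hh, u, hu, rfl⟩ := T.S.mem_B_iff.mp hb
  rw [T.sg_mul (T.S.H_le_group hh) (T.S.U_le_group hu)]
  exact mul_mem (Sys.H_le_B (T.sg_H hh)) (Sys.U_le_B (T.sg_U hu))

/-- the image in `N` -/
noncomputable def sgN (n : ↥(D.monomialSubgroup F)) : ↥(D.monomialSubgroup F) := ⟨T.sg n, T.sg_N n.2⟩

lemma img_toW_sgN (n : ↥(D.monomialSubgroup F)) {r : ℕ} (hr : r < D.nroots) :
    T.X.img (T.S.toW (T.sgN n)) (T.ρ r) = T.ρ (T.X.img (T.S.toW n) r) := by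
  obtain ⟨c, hc, h1, -⟩ := T.S.acts_toW n r hr
  obtain ⟨c', hc', h1', -⟩ := T.S.acts_toW (T.sgN n) (T.ρ r) (T.ρ_lt r hr)
  obtain ⟨f, hf, hf0, hfx⟩ := T.exists_scalar hr
  have hw : T.X.img (T.S.toW n) r < D.nroots := T.X.img_lt _ hr
  obtain ⟨g, hg, hg0, hgx⟩ := T.exists_scalar hw
  have e : (n : GL D.Idx F) * xg C r 1 * (n : GL D.Idx F)⁻¹ = xg C (T.X.img (T.S.toW n) r) (c * 1) := h1 1
  have e2 := congrArg T.sg e
  rw [T.sg_conj (T.S.N_le_group n.2) (xg_mem_group C _ _), hfx, hgx] at e2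
  have e3 : (T.sgN n : GL D.Idx F) * xg C (T.ρ r) (f 1) * (T.sgN n : GL D.Idx F)⁻¹ = _ := h1' (f 1)
  have hne : c' * f 1 ≠ 0 := mul_ne_zero hc' fun h0 => one_ne_zero (hf (h0.trans hf0.symm))
  exact (xg_injective C (T.X.img_lt _ (T.ρ_lt r hr)) (T.ρ_lt _ hw) hne (e3.symm.trans e2)).1

/-- Weyl group elements commuting with the symmetry -/
def fixW : Subgroup T.X.W where
  carrier := {w | ∀ r < D.nroots, T.X.img w (T.ρ r) = T.ρ (T.X.img w r)}
  one_mem' := by simp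
  mul_mem' {v w} hv hw := by
    intro r hr
    rw [T.X.img_mul, T.X.img_mul, hw r hr, hv _ (T.X.img_lt w hr)]
  inv_mem' {w} hw := by
    intro r hr
    apply T.X.img_injective w
    rw [T.X.img_img_inv, hw _ (T.X.img_lt _ hr), T.X.img_img_inv]

lemma mem_fixW {w : T.X.W} : w ∈ T.fixW ↔ ∀ r < D.nroots, T.X.img w (T.ρ r) = T.ρ (T.X.img w r) := Iff.rfl

lemma eq_of_img {v w : T.X.W} (h : ∀ r < D.nroots, T.X.img v r = T.X.img w r) : v = w := by
  apply T.X.ρ_injective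
  apply Equiv.ext
  intro r
  apply Fin.ext
  simpa [Weyl.img, r.isLt] using h r r.isLt

lemma fix_iff (n : ↥(D.monomialSubgroup F)) : T.S.toW n ∈ T.fixW ↔ T.S.toW (T.sgN n) = T.S.toW n := by
  constructor
  · intro h
    refine T.eq_of_img fun s hs => ?_
    obtain ⟨r, hr, rfl⟩ := T.ρ_surj hs
    rw [h r hr]
    exact T.img_toW_sgN n hr
  · intro h r hr
    exact (congrArg (fun w => T.X.img w (T.ρ r)) h).symm.trans (T.img_toW_sgN n hr)

lemma toW_fix_of_fixed {n : ↥(D.monomialSubgroup F)} (h : T.sg n = n) : T.S.toW n ∈ T.fixW := by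
  rw [T.fix_iff]
  exact congrArg T.S.toW (Subtype.ext h)

lemma Uw_le_group (w : T.X.W) : T.S.Uw w ≤ D.group F :=
  (T.S.Uw_le_U w).trans T.S.U_le_group

lemma sg_Uw {w : T.X.W} (hw : w ∈ T.fixW) {u : GL D.Idx F} (hu : u ∈ T.S.Uw w) : T.sg u ∈ T.S.Uw w := by
  refine T.sg_closure_le (A := {g | ∃ r t, r ∈ T.X.invSet w ∧ g = T.S.xg r t}) ?_ ?_ hu
  · rintro g ⟨r, t, -, rfl⟩
    exact xg_mem_group C r t
  · rintro g ⟨r, t, hr, rfl⟩
    have hr' := T.X.mem_invSet.mp hr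
    obtain ⟨f, -, -, hf⟩ := T.exists_scalar hr'.1.1
    show T.sg (xg C r t) ∈ _
    rw [hf]
    refine Subgroup.subset_closure ⟨T.ρ r, f t, T.X.mem_invSet.mpr ⟨T.ρ_isPos hr'.1, ?_⟩, rfl⟩
    rw [hw r hr'.1.1]
    exact T.ρ_isNeg hr'.2

/-- the fixed part of `U_w` -/
def UF (w : T.X.W) : Subgroup (GL D.Idx F) := T.S.Uw w ⊓ T.Fixed

/-- the normal form of a fixed element -/
lemma fixed_form {g b u : GL D.Idx F} {n : ↥(D.monomialSubgroup F)} (hg : g ∈ T.Fixed)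
    (hb : b ∈ D.borelSubgroup F) (hu : u ∈ T.S.Uw (T.S.toW n)) (he : g = b * n * u) :
    T.S.toW n ∈ T.fixW ∧ u ∈ T.UF (T.S.toW n) := by
  have hbg := T.S.B_le_group hb
  have hug := T.Uw_le_group _ hu
  have huB : u ∈ D.borelSubgroup F := Sys.U_le_B (T.S.Uw_le_U _ hu)
  have e : T.sg b * (T.sgN n : GL D.Idx F) * T.sg u = b * n * u := by
    rw [← he]
    conv_rhs => rw [← hg.2, he, T.sg_mul (mul_mem hbg (T.S.N_le_group n.2)) hug,
      T.sg_mul hbg (T.S.N_le_group n.2)]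
    rfl
  have hw : T.S.toW (T.sgN n) = T.S.toW n :=
    T.S.toW_unique (T.sg_B hb) hb (T.sg_B huB) huB e
  have hfix := (T.fix_iff n).mpr hw
  refine ⟨hfix, hu, hug, ?_⟩
  have hH := T.S.toW_eq_iff.mp hw.symm
  have hb' : T.sg b * ((T.sgN n : GL D.Idx F) * (n : GL D.Idx F)⁻¹) ∈ D.borelSubgroup F := by
    refine mul_mem (T.sg_B hb) (Sys.H_le_B ?_)
    have := T.S.conj_H (T.S.acts_toW n) hH
    have e2 : (n : GL D.Idx F) * ((n : GL D.Idx F)⁻¹ * (T.sgN n : GL D.Idx F)) * (n : GL D.Idx F)⁻¹ =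
        (T.sgN n : GL D.Idx F) * (n : GL D.Idx F)⁻¹ := by group
    rwa [e2] at this
  refine (T.S.form_unique n hb' hb (T.sg_Uw hfix hu) hu ?_).2
  rw [← e]; group

lemma exists_fixed_form {g : GL D.Idx F} (hg : g ∈ T.Fixed) :
    ∃ b ∈ D.borelSubgroup F, ∃ n : ↥(D.monomialSubgroup F), ∃ u ∈ T.UF (T.S.toW n),
      T.S.toW n ∈ T.fixW ∧ g = b * n * u := by
  obtain ⟨b, hb, n, u, hu, he⟩ := T.S.exists_cell_form hg.1
  obtain ⟨h1, h2⟩ := T.fixed_form hg hb hu he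
  exact ⟨b, hb, n, u, h2, h1, he⟩

lemma HU_fixed {h u : GL D.Idx F} (hh : h ∈ D.diagonalSubgroup F) (hu : u ∈ D.posUnipotent F)
    (he : h * u ∈ T.Fixed) : h ∈ T.Fixed ∧ u ∈ T.Fixed := by
  have hhg := T.S.H_le_group hh
  have hug := T.S.U_le_group hu
  have e := he.2
  rw [T.sg_mul hhg hug] at e
  have h1 : h⁻¹ * T.sg h = u * (T.sg u)⁻¹ := by
    rw [eq_mul_inv_iff_mul_eq, mul_assoc, e, inv_mul_cancel_left]
  have h2 := Subgroup.mem_inf.mpr ⟨mul_mem hu (inv_mem (T.sg_U hu)), h1 ▸ mul_mem (inv_mem hh) (T.sg_H hh)⟩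
  rw [T.S.U_inf_H, Subgroup.mem_bot, ← h1, inv_mul_eq_one] at h2
  refine ⟨⟨hhg, h2.symm⟩, hug, ?_⟩
  rw [← h2] at e
  exact mul_left_cancel e

/-- the longest element commutes with the symmetry -/
lemma exists_w0_fix : ∃ w0 : T.X.W, w0 ∈ T.fixW ∧
    (∀ r, D.IsPosRoot r → D.IsNegRoot (T.X.img w0 r)) ∧ D.posUnipotent F = T.S.Uw w0 := by
  obtain ⟨w0, hw0⟩ := T.S.exists_w0
  obtain ⟨n, hn⟩ := T.S.toW_surjective w0
  have hw0' : ∀ r, D.IsPosRoot r → D.IsNegRoot (T.X.img w0 r) := hw0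
  have himg : ∀ r, D.IsPosRoot r → D.IsNegRoot (T.X.img (T.S.toW (T.sgN n)) r) := by
    intro r hr
    obtain ⟨s, hs, rfl⟩ := T.ρ_surj hr.1
    rw [T.img_toW_sgN n hs, hn]
    exact T.ρ_isNeg (hw0' s (T.pos_of_ρ_pos hs hr))
  refine ⟨w0, ?_, hw0', ?_⟩
  · rw [← hn, T.fix_iff, hn]
    have key : ∀ v : T.X.W, (∀ r, D.IsPosRoot r → D.IsNegRoot (T.X.img v r)) → v = w0 := by
      intro v hv
      rw [← inv_mul_eq_one]
      apply T.X.eq_one_of_inv_eq_zero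
      rw [Weyl.inv, Finset.card_eq_zero, Finset.eq_empty_iff_forall_notMem]
      intro r hr
      rw [T.X.mem_invSet, T.X.img_mul] at hr
      have hlt : T.X.img v⁻¹ (T.X.img w0 r) < D.nroots := hr.2.1
      have h3 := hv _ ((T.X.pos_neg_iff hlt).mpr hr.2)
      rw [T.X.img_neg v hlt, T.X.img_img_inv, ← T.X.pos_neg_iff (T.X.root_facts (hw0' r hr.1).1).1,
        (T.X.root_facts (hw0' r hr.1).1).2.1] at h3
      exact T.X.not_pos_and_neg h3 (hw0' r hr.1)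
    exact key _ himg
  · exact le_antisymm
      ((Subgroup.closure_le _).mpr fun g ⟨r, t, hr, hg⟩ => Subgroup.subset_closure
        ⟨r, t, T.X.mem_invSet.mpr ⟨hr, hw0' r hr⟩, T.S.eq_xg.mp hg⟩) (T.S.Uw_le_U w0)

end Twist

end Cfsg.Agent.TwistedCore
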