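import Cfsg.Agent.Lib.TwistedD4Form77
import Cfsg.Agent.Lib.ChevTorusCentralizer77

/-!
`³D₄(q)`, `q ≥ 3`: the product of a class of semisimple elements with itself contains the nontrivial elements.
Split torus for `q ≥ 4`; an element of order 8 of the short rank-one subgroup extended by the torus for `q = 3`.
-/

set_option autoImplicit false
set_option linter.unusedSectionVars false
set_option maxRecDepth 20000

namespace Cfsg.Agent.TwistedD4Cover77

open Cfsg.Lie Cfsg.Agent.ChevalleyCert Cfsg.Agent.ChevalleyCore Cfsg.Agent.ChevalleyRoots Cfsg.Agent.ChevalleyTorus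
  Cfsg.Agent.ChevalleyUnipotent Cfsg.Agent.TwistedCore Cfsg.Agent.TwistedTools Cfsg.Agent.TwistedD4
  Cfsg.Agent.GaussPrescribed77 Cfsg.Agent.TwistedD4Gauss77 Cfsg.Agent.TwistedD4Form77 Cfsg.Agent.ChevalleyParabolic
open Cfsg.Agent.ChevWeyl (cor)
open Cfsg.Agent.TwistedD4Levi77 (nrm tp_chars tp_mul tp_one nrm_pow prod_conj tchar_eq)
open scoped MatrixGroups

/-! ### classes -/

section generic

variable {M : Type*} [Group M]

/-- conjugate within a subgroup -/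
def ConjIn (G : Subgroup M) (x y : M) : Prop := ∃ k ∈ G, y = k * x * k⁻¹

/-- the product of two conjugates -/
def InCC (G : Subgroup M) (x g : M) : Prop := ∃ y z, ConjIn G x y ∧ ConjIn G x z ∧ g = y * z

theorem ConjIn.trans {G : Subgroup M} {x y z : M} (h1 : ConjIn G x y) (h2 : ConjIn G y z) : ConjIn G x z := by
  obtain ⟨k, hk, rfl⟩ := h1
  obtain ⟨l, hl, rfl⟩ := h2
  exact ⟨l * k, mul_mem hl hk, by group⟩

theorem InCC.of_conj {G : Subgroup M} {x g k : M} (hk : k ∈ G) (h : InCC G x (k * g * k⁻¹)) : InCC G x g := by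
  obtain ⟨y, z, hy, hz, e⟩ := h
  refine ⟨k⁻¹ * y * k, k⁻¹ * z * k, hy.trans ⟨k⁻¹, inv_mem hk, by group⟩, hz.trans ⟨k⁻¹, inv_mem hk, by group⟩, ?_⟩
  calc g = k⁻¹ * (k * g * k⁻¹) * k := by group
    _ = _ := by rw [e]; group

/-- a coset of a finite normalised subgroup without fixed points consists of conjugates -/
theorem coset_conj [Finite M] {S : Subgroup M} {y : M} (hn : ∀ w ∈ S, y * w * y⁻¹ ∈ S)
    (hc : ∀ w ∈ S, y * w = w * y → w = 1) {v : M} (hv : v ∈ S) : ∃ w ∈ S, v * y = w * y * w⁻¹ := by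
  let f : S → S := fun w => ⟨(w : M) * (y * (w : M)⁻¹ * y⁻¹), mul_mem w.2 (hn _ (inv_mem w.2))⟩
  have hf : Function.Injective f := by
    intro a b h
    have h' : (a : M) * (y * (a : M)⁻¹ * y⁻¹) = (b : M) * (y * (b : M)⁻¹ * y⁻¹) := congrArg Subtype.val h
    have h2 : y * ((b : M)⁻¹ * a) = ((b : M)⁻¹ * a) * y := by
      calc y * ((b : M)⁻¹ * a) = (b : M)⁻¹ * ((b : M) * (y * (b : M)⁻¹ * y⁻¹)) * y * a := by group
        _ = (b : M)⁻¹ * ((a : M) * (y * (a : M)⁻¹ * y⁻¹)) * y * a := by rw [h']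
        _ = _ := by group
    have h3 := hc _ (mul_mem (inv_mem b.2) a.2) h2
    exact Subtype.ext (inv_mul_eq_one.1 h3).symm
  obtain ⟨w, hw⟩ := (Finite.injective_iff_surjective.1 hf) ⟨v, hv⟩
  have hw' : (w : M) * (y * (w : M)⁻¹ * y⁻¹) = v := congrArg Subtype.val hw
  exact ⟨w, w.2, by rw [← hw']; group⟩

/-- the covering step -/
theorem cover_core [Finite M] {G : Subgroup M} {x y1 y2 v u : M} {S T : Subgroup M} (hS : S ≤ G) (hT : T ≤ G)
    (h1 : ConjIn G x y1) (h2 : ConjIn G x y2)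
    (n1 : ∀ w ∈ S, y1 * w * y1⁻¹ ∈ S) (c1 : ∀ w ∈ S, y1 * w = w * y1 → w = 1)
    (n2 : ∀ w ∈ T, y2 * w * y2⁻¹ ∈ T) (c2 : ∀ w ∈ T, y2 * w = w * y2 → w = 1)
    (hv : v ∈ S) (hu : u ∈ T) : InCC G x (v * (y1 * y2) * u) := by
  obtain ⟨w, hw, ew⟩ := coset_conj n1 c1 hv
  obtain ⟨z, hz, ez⟩ := coset_conj n2 c2 (n2 u hu)
  refine ⟨v * y1, y2 * u, h1.trans ⟨w, hS hw, ew⟩, h2.trans ⟨z, hT hz, ?_⟩, by group⟩
  rw [← ez]; group

end generic

variable {K : Type*} [Field K] [Fintype K] {q : ℕ} {f : K →+* K}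
variable (hf : ∀ t, f t = t ^ q) (hK : Fintype.card K = q ^ 3)

/-! ### conjugates of torus elements -/

theorem conj_torus {n : GL chevD4.Idx K} (hn : n ∈ chevD4.monomialSubgroup K) (c : Fin chevD4.rank → Kˣ) :
    ∃ c', n * torus chevD4 c * n⁻¹ = torus chevD4 c' ∧ ∀ r < chevD4.nroots, ∀ s < chevD4.nroots, ∀ e : K, e ≠ 0 →
      (∀ t : K, n * xg c4 r t * n⁻¹ = xg c4 s (e * t)) → tchar chevD4 c' s = tchar chevD4 c r := by
  have hH : n * torus chevD4 c * n⁻¹ ∈ chevD4.diagonalSubgroup K :=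
    (Subgroup.mem_normalizer_iff.1 (N_le_normalizer_H c4 hn) _).1 (torus_mem_H c4 c)
  obtain ⟨c', hc'⟩ := (mem_H_iff c4).1 hH
  refine ⟨c', hc'.symm, fun r hr s hs e he h => ?_⟩
  have e1 : torus chevD4 c' * xg c4 s e * (torus chevD4 c')⁻¹ = xg c4 s (e * (tchar chevD4 c r : K)) := by
    rw [hc', ← mul_one e, ← h 1, mul_one e, ← h, ← mul_one (tchar chevD4 c r : K), ← torus_conj_xg c4 hr c 1]
    group
  rw [torus_conj_xg c4 hs] at e1
  have h2 := (ChevBruhatInstance.xg_injective c4 hs hs (mul_ne_zero (Units.ne_zero _) he) e1).2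
  exact Units.ext (mul_right_cancel₀ he (by rw [h2, mul_comm]))

theorem torus_ext {c c' : Fin chevD4.rank → Kˣ}
    (h : ∀ i : Fin chevD4.rank, tchar chevD4 c (chevD4.simple i.val) = tchar chevD4 c' (chevD4.simple i.val)) :
    torus chevD4 c = torus chevD4 c' := by
  rw [← mul_inv_eq_one, ← map_inv, ← map_mul, torus_eq_one_iff c4]
  intro i
  have : tchar chevD4 (c * c'⁻¹) (chevD4.simple i.val) * tchar chevD4 c' (chevD4.simple i.val) =
      tchar chevD4 c (chevD4.simple i.val) := by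
    rw [← tchar_mul, inv_mul_cancel_right]
  rw [h i] at this
  exact mul_eq_right.1 this

theorem n0_mono : n0 K ∈ chevD4.monomialSubgroup K := nword_mem c4 TwistedD4Gauss77.w0_lt

theorem n0_torus (c : Fin chevD4.rank → Kˣ) :
    (n0 K)⁻¹ * torus chevD4 c * n0 K = torus chevD4 c⁻¹ := by
  obtain ⟨c', hc', h⟩ := conj_torus (n := (n0 K)⁻¹) (inv_mem n0_mono) c
  rw [inv_inv] at hc'
  rw [hc']
  refine torus_ext fun i => ?_
  have hs := simple_lt c4 i.isLt
  obtain ⟨e, he, hx⟩ := flips_inv (flips_n0 (K := K)) (chevD4.neg (chevD4.simple i.val)) (c4.neg_lt _)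
  rw [neg_neg' c4 hs] at hx
  rw [h _ (c4.neg_lt _) _ hs e (left_ne_zero_of_mul_eq_one he) hx, ChevGauss77.tchar_neg c4 c hs]
  exact (by rw [← mul_eq_one_iff_eq_inv, ← tchar_mul, inv_mul_cancel]; simp [tchar] :
    tchar chevD4 c⁻¹ (chevD4.simple i.val) = (tchar chevD4 c (chevD4.simple i.val))⁻¹).symm

/-! ### regular split elements -/

theorem pos_patterns : ∀ r : Fin 24, 12 ≤ r.val →
    [cor chevD4 r.val 0, cor chevD4 r.val 1, cor chevD4 r.val 2, cor chevD4 r.val 3] ∈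
      ([[0, 1, 0, 0], [1, 0, 0, 0], [0, 0, 1, 0], [0, 0, 0, 1], [1, 1, 0, 0], [0, 1, 1, 0], [0, 1, 0, 1],
        [1, 1, 1, 0], [1, 1, 0, 1], [0, 1, 1, 1], [1, 1, 1, 1], [1, 2, 1, 1]] : List (List ℤ)) := by
  decide +kernel

include hf in
theorem pow_q_inj {x y : Kˣ} (h : x ^ q = y ^ q) : x = y := by
  apply Units.ext
  apply f.injective
  rw [hf, hf, ← Units.val_pow_eq_pow_val, h, Units.val_pow_eq_pow_val]

include hf hK in
theorem regular {a b : Kˣ} (ha : a ^ q = a) (ha2 : a ^ 2 ≠ 1) (hN : nrm q b = 1) (hb : (b ^ 2) ^ q ≠ b ^ 2)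
    {r : ℕ} (hr : chevD4.IsPosRoot r) : tchar chevD4 (tp q a b) r ≠ 1 := by
  obtain ⟨h1, h2⟩ := (isPos c4).1 hr
  obtain ⟨t0, t1, t2, t3⟩ := tp_chars (q := q) a b
  rw [hN, inv_one, mul_one] at t1
  have hp := pos_patterns ⟨r, h2⟩ h1
  simp only [List.mem_cons, List.not_mem_nil, or_false, List.cons.injEq, and_true] at hp
  rw [tchar_eq _ h2, t0, t1, t2, t3]
  have ha1 : a ≠ 1 := fun h => ha2 (by rw [h, one_pow])
  have haq : ∀ y : Kˣ, y ^ q = y → y ^ q ^ 2 = y := fun y hy => by rw [pow_two, pow_mul, hy, hy]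
  have hb' : ∀ y : Kˣ, y = b ^ 2 ∨ y = (b ^ q) ^ 2 ∨ y = (b ^ q ^ 2) ^ 2 → y ^ q ≠ y := by
    rintro y (rfl | rfl | rfl) h
    · exact hb h
    · refine hb (pow_q_inj hf ?_)
      rw [← pow_mul, ← pow_mul, ← pow_mul] at h
      rw [← pow_mul, ← pow_mul, ← pow_mul]
      convert h using 2 <;> ring
    · refine hb (pow_q_inj hf (pow_q_inj hf ?_))
      rw [← pow_mul, ← pow_mul, ← pow_mul] at h
      simp only [← pow_mul]
      convert h using 2 <;> ring
  have key : ∀ y c : Kˣ, y = b ^ 2 ∨ y = (b ^ q) ^ 2 ∨ y = (b ^ q ^ 2) ^ 2 → c ^ q = c → y * c ≠ 1 :=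
    fun y c hy hc h => hb' y hy (by rw [mul_eq_one_iff_eq_inv.1 h, inv_pow, hc])
  have key' : ∀ y c : Kˣ, y = b ^ 2 ∨ y = (b ^ q) ^ 2 ∨ y = (b ^ q ^ 2) ^ 2 → c ^ q = c → y⁻¹ * c ≠ 1 :=
    fun y c hy hc h => hb' y hy (by rw [inv_mul_eq_one.1 h, hc])
  have hP : b ^ 2 * ((b ^ q) ^ 2 * (b ^ q ^ 2) ^ 2) = 1 := by
    rw [← mul_pow, ← mul_pow, ← mul_assoc, prod_conj, hN, one_pow]
  have ainv : (a⁻¹) ^ q = a⁻¹ := by rw [inv_pow, ha]
  have s1 : (1 : Kˣ) ^ q = 1 := one_pow q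
  rcases hp with h | h | h | h | h | h | h | h | h | h | h | h <;> obtain ⟨c0, c1, c2, c3⟩ := h <;>
    simp only [c0, c1, c2, c3, zpow_zero, zpow_one, one_mul, mul_one]
  · exact ha2
  · exact key _ _ (Or.inl rfl) ainv
  · exact key _ _ (Or.inr (Or.inl rfl)) ainv
  · exact key _ _ (Or.inr (Or.inr rfl)) ainv
  · rw [mul_assoc]; exact key _ _ (Or.inl rfl) (by rw [mul_pow, ainv, pow_right_comm, ha])
  · rw [mul_comm, mul_assoc]; exact key _ _ (Or.inr (Or.inl rfl)) (by rw [mul_pow, ainv, pow_right_comm, ha])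
  · rw [mul_comm, mul_assoc]; exact key _ _ (Or.inr (Or.inr rfl)) (by rw [mul_pow, ainv, pow_right_comm, ha])
  · have e : b ^ 2 * a⁻¹ * a ^ 2 * ((b ^ q) ^ 2 * a⁻¹) = ((b ^ q ^ 2) ^ 2)⁻¹ * 1 := by
      rw [mul_one, eq_inv_iff_mul_eq_one, ← hP]
      apply Units.ext; simp [Units.val_inv_eq_inv_val]; field_simp
    rw [e]; exact key' _ _ (Or.inr (Or.inr rfl)) s1
  · have e : b ^ 2 * a⁻¹ * a ^ 2 * ((b ^ q ^ 2) ^ 2 * a⁻¹) = ((b ^ q) ^ 2)⁻¹ * 1 := by
      rw [mul_one, eq_inv_iff_mul_eq_one, ← hP]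
      apply Units.ext; simp [Units.val_inv_eq_inv_val]; field_simp
    rw [e]; exact key' _ _ (Or.inr (Or.inl rfl)) s1
  · have e : a ^ 2 * ((b ^ q) ^ 2 * a⁻¹) * ((b ^ q ^ 2) ^ 2 * a⁻¹) = (b ^ 2)⁻¹ * 1 := by
      rw [mul_one, eq_inv_iff_mul_eq_one, ← hP]
      apply Units.ext; simp [Units.val_inv_eq_inv_val]; field_simp
    rw [e]; exact key' _ _ (Or.inl rfl) s1
  · have e : b ^ 2 * a⁻¹ * a ^ 2 * ((b ^ q) ^ 2 * a⁻¹) * ((b ^ q ^ 2) ^ 2 * a⁻¹) = a⁻¹ := by
      conv_rhs => rw [← one_mul a⁻¹, ← hP]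
      apply Units.ext; simp [Units.val_inv_eq_inv_val]; field_simp
    rw [e]; exact inv_ne_one.2 ha1
  · have e : b ^ 2 * a⁻¹ * (a ^ 2) ^ (2 : ℤ) * ((b ^ q) ^ 2 * a⁻¹) * ((b ^ q ^ 2) ^ 2 * a⁻¹) = a := by
      conv_rhs => rw [← one_mul a, ← hP]
      apply Units.ext; simp [Units.val_inv_eq_inv_val, zpow_two, sq]; field_simp
    rw [e]; exact ha1

include hf hK in
/-- the fixed elements of a regular torus element -/
theorem fix_UU {c : Fin chevD4.rank → Kˣ} (hc : ∀ r, chevD4.IsPosRoot r → tchar chevD4 c r ≠ 1)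
    {u : GL chevD4.Idx K} (hu : u ∈ chevD4.posUnipotent K) (h : torus chevD4 c * u = u * torus chevD4 c) :
    u = 1 := by
  obtain ⟨t, rfl⟩ := ChevTorusCentralizer77.fixed_U c4 c hu h
  have : ChevTorusCentralizer77.fixRoots chevD4 c = [] := by
    rw [ChevTorusCentralizer77.fixRoots, List.filter_eq_nil_iff]
    intro r hr
    rw [List.mem_range'_1] at hr
    simpa using hc r ((isPos c4).2 ⟨hr.1, by omega⟩)
  rw [this]; rfl

theorem norm_UU {h : GL chevD4.Idx K} (hh : h ∈ HH q) {w : GL chevD4.Idx K} (hw : w ∈ UU q) :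
    h * w * h⁻¹ ∈ UU q :=
  Subgroup.mem_inf.2 ⟨(Subgroup.mem_normalizer_iff.1 (H_le_normalizer_U c4 hh.1) w).1 hw.1,
    mul_mem (mul_mem hh.2 hw.2) (inv_mem hh.2)⟩

include hf hK in
theorem exists_form_any (h3 : 3 ≤ q) {g : GL chevD4.Idx K} (hg : g ∈ twistedD4 K q) (hne : g ≠ 1) {a' : Kˣ}
    (ha' : a' ^ q = a') (b' : Kˣ) : Form q g a' b' := by
  classical
  have hcard : Fintype.card Kˣ = q ^ 3 - 1 := by rw [Fintype.card_units, hK]
  have main : ∀ {a b : Kˣ}, a ^ q = a → FormS hf hK g a b → Form q g a' b' := by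
    intro a b ha h
    obtain ⟨b1, h1, h2⟩ : ∃ b1 : Kˣ, a ^ 2 ≠ nrm q b1 ∧ b1 ^ 2 ≠ a' := by
      by_contra hc
      push Not at hc
      have hroot : ∀ n, 0 < n → ∀ y : Kˣ, (Finset.univ.filter fun s : Kˣ => s ^ n = y).card ≤ n := by
        intro n hn y
        refine le_trans ?_ ((Polynomial.card_nthRoots n (y : K)))
        refine le_trans ?_ (Multiset.toFinset_card_le _)
        refine Finset.card_le_card_of_injOn (fun s : Kˣ => (s : K)) (fun s hs => ?_) (fun s _ t _ e => Units.ext e)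
        simp only [Finset.coe_filter, Set.mem_ofPred_eq, Finset.mem_univ, true_and] at hs
        simp [Polynomial.mem_nthRoots hn, ← hs]
      have h3' : (Finset.univ : Finset Kˣ) ⊆ (Finset.univ.filter fun s : Kˣ => s ^ (q ^ 2 + q + 1) = a ^ 2) ∪
          (Finset.univ.filter fun s : Kˣ => s ^ 2 = a') := by
        intro s _
        by_cases hs : a ^ 2 = nrm q s
        · simp [hs, nrm]
        · simp [hc s hs]
      have h4 := (Finset.card_le_card h3').trans (Finset.card_union_le _ _)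
      rw [Finset.card_univ, hcard] at h4
      have h5 := hroot (q ^ 2 + q + 1) (by omega) (a ^ 2)
      have h6 := hroot 2 (by norm_num) a'
      have h7 : 3 * q ^ 2 ≤ q ^ 3 := by rw [pow_succ' q 2]; exact Nat.mul_le_mul_right _ h3
      have h8 : 3 * q ≤ q ^ 2 := by rw [pow_two]; exact Nat.mul_le_mul_right _ h3
      omega
    have e1 := step_S hf hK ha h b1
    have e2 := step_L hf hK ha (e1.nondeg_L hf hK ha h1) a' ha'
    exact step_S hf hK ha' (e2.nondeg_S hf hK h2) b'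
  obtain ⟨a, b, ha, h | h⟩ := start hf hK hg hne
  · exact main ha h
  · obtain ⟨t, ht, hne2⟩ : ∃ t : Kˣ, t ^ q = t ∧ b ^ 2 ≠ t := by
      by_contra hc
      push Not at hc
      have hall : ∀ t : {t : Kˣ // t ^ q = t}, t.1 = b ^ 2 := fun t => (hc t.1 t.2).symm
      haveI : Subsingleton {t : Kˣ // t ^ q = t} := ⟨fun s t => Subtype.ext ((hall s).trans (hall t).symm)⟩
      have := TwistedField.card_units_fix hK
      rw [Nat.card_of_subsingleton (⟨1, one_pow q⟩ : {t : Kˣ // t ^ q = t})] at this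
      omega
    exact main ht ((step_L hf hK ha h t ht).nondeg_S hf hK hne2)

include hf hK in
theorem cover_split (h4 : 4 ≤ q) : ∃ x ∈ twistedD4 K q, x ^ (q ^ 3 - 1) = 1 ∧
    ∀ g ∈ twistedD4 K q, g ≠ 1 → InCC (twistedD4 K q) x g := by
  classical
  haveI : Finite (GL chevD4.Idx K) := inferInstance
  obtain ⟨α, hα⟩ := IsCyclic.exists_generator (α := (F0 f)ˣ)
  have hoα : orderOf α = q - 1 := by
    rw [orderOf_eq_card_of_forall_mem_zpowers hα, Nat.card_units]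
    congr 1
    rw [← TwistedField.card_fix hK]
    exact Nat.card_congr (Equiv.subtypeEquiv (Equiv.refl _) fun x => mem_F0 hf)
  let a : Kˣ := Units.map (F0 f).subtype.toMonoidHom α
  have ha : a ^ q = a := Units.ext (by
    rw [Units.val_pow_eq_pow_val]; exact (mem_F0 hf).1 (α : F0 f).2)
  have ha2 : a ^ 2 ≠ 1 := by
    intro h
    have h' : α ^ 2 = 1 := Units.map_injective (f := (F0 f).subtype.toMonoidHom) (F0 f).subtype_injective
      (by rw [map_pow, map_one]; exact h)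
    exact pow_ne_one_of_lt_orderOf (by norm_num) (by omega) h'
  obtain ⟨γ, hγ⟩ := IsCyclic.exists_generator (α := Kˣ)
  have hoγ : orderOf γ = q ^ 3 - 1 := by
    rw [orderOf_eq_card_of_forall_mem_zpowers hγ, Nat.card_units, Nat.card_eq_fintype_card, hK]
  let b : Kˣ := γ ^ (q - 1)
  obtain ⟨k, hk⟩ : ∃ k, q = k + 1 := ⟨q - 1, by omega⟩
  have hcube : q ^ 3 - 1 = k * (q ^ 2 + q + 1) := by
    have : q ^ 3 = k * (q ^ 2 + q + 1) + 1 := by rw [hk]; ring
    omega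
  have hN : nrm q b = 1 := by
    show (γ ^ (q - 1)) ^ (q ^ 2 + q + 1) = 1
    rw [← pow_mul, show q - 1 = k by omega, ← hcube, ← hoγ, pow_orderOf_eq_one]
  have hb : (b ^ 2) ^ q ≠ b ^ 2 := by
    intro h
    have h1 : γ ^ (k * (2 * k)) = 1 := by
      have e : (b ^ 2) ^ k * b ^ 2 = 1 * b ^ 2 := by rw [one_mul, ← pow_succ, ← hk, h]
      have := mul_right_cancel e
      rwa [show b = γ ^ k by show γ ^ (q - 1) = _; rw [show q - 1 = k by omega], ← pow_mul, ← pow_mul] at this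
    refine pow_ne_one_of_lt_orderOf ?_ ?_ h1
    · have : 0 < k := by omega
      positivity
    · rw [hoγ, hcube, hk]
      have : 0 < k := by omega
      nlinarith
  have hreg := fun r (hr : chevD4.IsPosRoot r) => regular hf hK ha ha2 hN hb hr
  have hmem := tor_mem hf ha b
  refine ⟨tor q a b, hmem.2, ?_, fun g hg hne => ?_⟩
  · rw [tor_pow]
    have u1 : ∀ z : Kˣ, z ^ (q ^ 3 - 1) = 1 := fun z => by
      rw [← hK, ← Fintype.card_units]; exact pow_card_eq_one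
    rw [u1, u1, tor_one]
  obtain ⟨k', hk', v, hv, u, hu, e⟩ := exists_form_any hf hK (by omega) hg hne
    (show (a * a) ^ q = a * a by rw [mul_pow, ha]) (b * b)
  refine InCC.of_conj hk' ?_
  rw [e, ← tor_mul]
  refine cover_core (VV_le hf) inf_le_right ⟨1, one_mem _, by group⟩ ⟨1, one_mem _, by group⟩
    (fun w hw => ?_) (fun w hw hcm => ?_)
    (fun w hw => norm_UU hmem hw) (fun w hw hcm => fix_UU hf hK hreg hw.1 hcm) hv hu
  · obtain ⟨z, hz, rfl⟩ := mem_VV.1 hw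
    refine mem_VV.2 ⟨_, norm_UU (h := (n0 K)⁻¹ * tor q a b * n0 K) ?_ hz, by group⟩
    rw [tor, n0_torus, map_inv]
    exact inv_mem hmem
  · obtain ⟨z, hz, rfl⟩ := mem_VV.1 hw
    have hcm' : torus chevD4 (tp q a b)⁻¹ * z = z * torus chevD4 (tp q a b)⁻¹ := by
      rw [← n0_torus]
      calc (n0 K)⁻¹ * torus chevD4 (tp q a b) * n0 K * z
          = (n0 K)⁻¹ * (tor q a b * (n0 K * z * (n0 K)⁻¹)) * n0 K := by rw [tor]; group
        _ = _ := by rw [hcm, tor]; group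
    have := fix_UU hf hK (c := (tp q a b)⁻¹) (fun r hr h => hreg r hr ?_) hz.1 hcm'
    · rw [this]; group
    · have e2 : tchar chevD4 ((tp q a b)⁻¹ * tp q a b) r = 1 := by rw [inv_mul_cancel]; simp [tchar]
      rwa [tchar_mul, h, one_mul] at e2

/-! ### `q = 3` -/

theorem top_data : chevD4.neg 23 = 0 ∧ chevD4.neg d4p2 = 9 ∧
    ChevalleyTorus.wact (D := chevD4) [1, 0, 2, 3] d4p2 = 23 ∧ ChevalleyTorus.wact (D := chevD4) [1, 0, 2, 3] 9 = 0 := by
  decide +kernel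

theorem top_orth : ∀ s ∈ [23, 0], ∀ i ∈ [0, 2, 3], ∀ r ∈ [chevD4.simple i, chevD4.neg (chevD4.simple i)],
    r < chevD4.nroots ∧ s < chevD4.nroots ∧ s ≠ r ∧ s ≠ chevD4.neg r ∧ chevD4.commTerms r s = [] := by
  decide +kernel

theorem phiS_comm_top (A : SL(2, K)) {s : ℕ} (hs : s = 23 ∨ s = 0) (u : K) :
    Commute (phiS f A) (xg c4 s u) := by
  have h : ∀ i : Fin chevD4.rank, i.val ∈ [0, 2, 3] → ∀ B : SL(2, K), Commute ((nodeD i).φ B) (xg c4 s u) := by
    intro i hi B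
    have hm : (nodeD i).φ B ∈ Subgroup.centralizer ({xg c4 s u} : Set (GL chevD4.Idx K)) := by
      refine sl2_mem _ _ (fun t => ?_) (fun t => ?_) B <;>
        rw [Subgroup.mem_centralizer_singleton_iff]
      · rw [nodeD_up]
        obtain ⟨a1, a2, a3, a4, a5⟩ := top_orth s (by rcases hs with rfl | rfl <;> simp) i.val hi
          (chevD4.simple i.val) (by simp)
        exact (commute_xg c4 a1 a2 a3 a4 a5 t u).eq
      · rw [nodeD_lo]
        obtain ⟨a1, a2, a3, a4, a5⟩ := top_orth s (by rcases hs with rfl | rfl <;> simp) i.val hi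
          (chevD4.neg (chevD4.simple i.val)) (by simp)
        exact (commute_xg c4 a1 a2 a3 a4 a5 t u).eq
    exact Subgroup.mem_centralizer_singleton_iff.1 hm
  exact ((h _ (by simp) _).mul_left (h _ (by simp) _)).mul_left (h _ (by simp) _)

theorem top_val (a b : Kˣ) : tchar chevD4 (tp q a b) 23 = a ∧ tchar chevD4 (tp q a b) 0 = a⁻¹ := by
  obtain ⟨t0, t1, t2, t3⟩ := tp_chars (q := q) a b
  have h : tchar chevD4 (tp q a b) 23 = a := by
    have hc : cor chevD4 23 0 = 1 ∧ cor chevD4 23 1 = 2 ∧ cor chevD4 23 2 = 1 ∧ cor chevD4 23 3 = 1 := by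
      decide +kernel
    rw [tchar_eq _ (by decide +kernel), hc.1, hc.2.1, hc.2.2.1, hc.2.2.2, t0, t1, t2, t3, ← prod_conj]
    apply Units.ext
    simp [Units.val_inv_eq_inv_val, zpow_two]
    field_simp
  refine ⟨h, ?_⟩
  rw [← top_data.1, ChevGauss77.tchar_neg c4 _ (by decide +kernel), h]

/-- the conjugating element -/
noncomputable def cw (K : Type*) [Field K] : GL chevD4.Idx K := nword c4 [1, 0, 2, 3]

include hf in
theorem cw_mem : cw K ∈ twistedD4 K q := by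
  obtain ⟨e1, e2, e3, e4, -⟩ := simples
  have h1 : ns c4 1 = ng c4 d4p2 (1 : K) := by rw [← e2]
  have h2 : ns c4 0 * ns c4 2 * ns c4 3 = tn (1 : K) 1 1 := by rw [tn, ← e1, ← e3, ← e4]
  have h3 := tn_mem f hf (1 : K)
  rw [one_pow, one_pow, ← h2] at h3
  have := mul_mem (ng2_mem f hf (one_pow q)) h3
  rw [← h1] at this
  simpa [cw, nword, mul_assoc] using this

/-- an element inverting the centre of the short Levi subgroup -/
noncomputable def nt (K : Type*) [Field K] : GL chevD4.Idx K := cw K * ng c4 d4p2 1 * (cw K)⁻¹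

include hf in
theorem nt_mem : nt K ∈ twistedD4 K q :=
  mul_mem (mul_mem (cw_mem hf) (ng2_mem f hf (one_pow q))) (inv_mem (cw_mem hf))

theorem nt_eq : ∃ e e' : K, ∀ s : K, cw K * ng c4 d4p2 s * (cw K)⁻¹ =
    xg c4 23 (e * s) * xg c4 0 (e' * -s⁻¹) * xg c4 23 (e * s) := by
  obtain ⟨e, -, h⟩ := nword_conj c4 (F := K) (l := [1, 0, 2, 3]) (by decide) (r := d4p2) (by decide +kernel)
  obtain ⟨e', -, h'⟩ := nword_conj c4 (F := K) (l := [1, 0, 2, 3]) (by decide) (r := 9) (by decide +kernel)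
  rw [top_data.2.2.1] at h
  rw [top_data.2.2.2] at h'
  refine ⟨e, e', fun s => ?_⟩
  rw [← h, ← h', ← top_data.2.1, ng, cw]
  group

theorem nt_comm (A : SL(2, K)) : Commute (phiS f A) (nt K) := by
  obtain ⟨e, e', h⟩ := nt_eq (K := K)
  rw [nt, h]
  exact ((phiS_comm_top A (Or.inl rfl) _).mul_right (phiS_comm_top A (Or.inr rfl) _)).mul_right
    (phiS_comm_top A (Or.inl rfl) _)

include hf in
theorem m1_pow : (-1 : Kˣ) ^ q = -1 := by
  apply Units.ext
  rw [Units.val_pow_eq_pow_val, Units.val_neg, Units.val_one, ← hf, map_neg, map_one]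

include hf in
theorem nrm_m1 : nrm q (-1 : Kˣ) = -1 := by
  rw [nrm, pow_succ, pow_add, pow_two q, pow_mul, m1_pow hf, m1_pow hf]
  simp

include hf in
theorem nt_h0 : nt K * tor q (-1) 1 * (nt K)⁻¹ = tor q 1 (-1) * tor q (-1) 1 := by
  obtain ⟨e, e', h⟩ := nt_eq (K := K)
  obtain ⟨v1, v2⟩ := top_val (q := q) (-1 : Kˣ) 1
  have hconj : tor q (-1) 1 * nt K * (tor q (-1) 1)⁻¹ = (nt K)⁻¹ := by
    have hi : (nt K)⁻¹ = cw K * ng c4 d4p2 (-1) * (cw K)⁻¹ := by
      have hn : (ng c4 d4p2 (1 : K))⁻¹ = ng c4 d4p2 (-1) :=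
        ChevalleySL2.nn_inv (ChevalleyRankOne.rels c4 TwistedD4Levi77.p2_lt) 1
      rw [nt, ← hn]; group
    rw [hi, nt, h, h]
    have a1 := fun t => torus_conj_xg c4 (show 23 < chevD4.nroots by decide +kernel) (tp q (-1) 1) (t : K)
    have a2 := fun t => torus_conj_xg c4 (show 0 < chevD4.nroots by decide +kernel) (tp q (-1) 1) (t : K)
    rw [v1] at a1
    rw [v2] at a2
    calc tor q (-1) 1 * (xg c4 23 (e * 1) * xg c4 0 (e' * -1⁻¹) * xg c4 23 (e * 1)) * (tor q (-1) 1)⁻¹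
        = (tor q (-1) 1 * xg c4 23 (e * 1) * (tor q (-1) 1)⁻¹) *
          (tor q (-1) 1 * xg c4 0 (e' * -1⁻¹) * (tor q (-1) 1)⁻¹) *
          (tor q (-1) 1 * xg c4 23 (e * 1) * (tor q (-1) 1)⁻¹) := by group
      _ = _ := by rw [tor, a1, a2]; simp
  have hsq : ng c4 d4p2 (1 : K) * ng c4 d4p2 1 = tor q (-1) 1 := by
    have hn : ng c4 d4p2 (1 : K) = phiL f (up 1 * lo (-1) * up 1) := by
      rw [map_mul, map_mul, phiL_up, phiL_lo, ng, ← show chevD4.neg d4p2 = d4m2 from simples.2.2.2.2.2.1]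
      simp
    rw [hn, ← map_mul, show (up 1 * lo (-1) * up 1) * (up 1 * lo (-1) * up 1) =
      (dia (-1) : SL(2, F0 f)) by
        ext i j; fin_cases i <;> fin_cases j <;> simp [Matrix.mul_apply, Fin.sum_univ_two], phiL_dia (q := q)]
    congr 1
  have hct : cw K * tor q (-1) 1 * (cw K)⁻¹ = tor q 1 (-1) := by
    obtain ⟨c', hc', hr⟩ := conj_torus (n := cw K) (nword_mem c4 (by decide)) (tp q (-1 : Kˣ) 1)
    rw [tor, tor, hc']
    refine torus_ext fun i => ?_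
    have data : ∀ i : Fin chevD4.rank, ∃ r : Fin 24,
        ChevalleyTorus.wact (D := chevD4) [1, 0, 2, 3] r.val = chevD4.simple i.val ∧
        (if i.val = 1 then Odd (cor chevD4 r.val 0 + cor chevD4 r.val 2 + cor chevD4 r.val 3)
          else Even (cor chevD4 r.val 0 + cor chevD4 r.val 2 + cor chevD4 r.val 3)) := by decide +kernel
    obtain ⟨r, hw, hpar⟩ := data i
    obtain ⟨ee, hee, hx⟩ := nword_conj c4 (F := K) (l := [1, 0, 2, 3]) (by decide) (r := r.val) r.isLt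
    rw [hw] at hx
    rw [hr r.val r.isLt _ (simple_lt c4 i.isLt) ee (left_ne_zero_of_mul_eq_one hee) hx, tchar_eq _ r.isLt]
    obtain ⟨t0, t1, t2, t3⟩ := tp_chars (q := q) (-1 : Kˣ) 1
    obtain ⟨s0, s1, s2, s3⟩ := tp_chars (q := q) (1 : Kˣ) (-1)
    have hN := nrm_m1 (K := K) hf
    rw [t0, t1, t2, t3]
    simp only [one_pow, one_mul, inv_neg, inv_one, neg_one_sq, nrm, mul_neg, mul_one, one_zpow]
    rw [← zpow_add, ← zpow_add]
    have hi : i = nd 0 ∨ i = nd 1 ∨ i = nd 2 ∨ i = nd 3 :=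
      (by decide : ∀ i : Fin chevD4.rank, i = nd 0 ∨ i = nd 1 ∨ i = nd 2 ∨ i = nd 3) i
    rcases hi with rfl | rfl | rfl | rfl <;> simp only [if_true, if_false, Nat.reduceEqDiff] at hpar
    · rw [s0, hpar.neg_one_zpow]; simp
    · rw [s1, hpar.neg_one_zpow, hN]; simp
    · rw [s2, hpar.neg_one_zpow, m1_pow hf]; simp
    · rw [s3, hpar.neg_one_zpow, pow_two q, pow_mul, m1_pow hf, m1_pow hf]; simp
  have hnt2 : nt K * nt K = tor q 1 (-1) := by
    rw [← hct, ← hsq, nt]; group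
  calc nt K * tor q (-1) 1 * (nt K)⁻¹
      = nt K * (tor q (-1) 1 * nt K * (tor q (-1) 1)⁻¹)⁻¹ * tor q (-1) 1 := by group
    _ = _ := by rw [hconj, inv_inv, hnt2]

variable (q f) in
/-- an element of the coset of the central involution in the short Levi subgroup -/
noncomputable def el (Y : SL(2, K)) : GL chevD4.Idx K := phiS f Y * tor q (-1) 1

include hf hK in
theorem h0_conj (Y : SL(2, K)) :
    tor q (-1) 1 * phiS f Y * (tor q (-1) 1)⁻¹ = phiS f (dconj (-1) Y) := by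
  obtain ⟨t0, -, -, -⟩ := tp_chars (q := q) (-1 : Kˣ) 1
  have h := (nodeS hf hK).H_conj _ (tor_mem hf (m1_pow hf) 1) Y
  refine h.trans ?_
  show phiS f (dconj (ChevGauss77.rootVal chevD4 (chevD4.simple 0) (tor q (-1) 1)) Y) = _
  rw [rootVal_tor _ _ 0 (by decide), t0]
  simp

include hf hK in
theorem el_mul (Y Z : SL(2, K)) : el q f Y * el q f Z = phiS f (Y * dconj (-1) Z) := by
  have h2 : tor q (-1 : Kˣ) (1 : Kˣ) * tor q (-1) 1 = 1 := by
    rw [tor_mul, mul_one, neg_one_mul, neg_neg, tor_one]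
  rw [el, el, map_mul, ← h0_conj hf hK]
  calc phiS f Y * tor q (-1) 1 * (phiS f Z * tor q (-1) 1)
      = phiS f Y * (tor q (-1) 1 * phiS f Z * (tor q (-1) 1)⁻¹) * (tor q (-1) 1 * tor q (-1) 1) := by group
    _ = _ := by rw [h2, mul_one]

include hf in
theorem el_mem (Y : SL(2, K)) : el q f Y ∈ twistedD4 K q :=
  mul_mem (phiS_mem hf Y) (tor_mem hf (m1_pow hf) 1).2

/-- the representative -/
def P0 (K : Type*) [Field K] : SL(2, K) := ⟨!![0, -1; 1, -1], by simp [Matrix.det_fin_two_of]⟩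

@[simp] theorem coe_P0 : ((P0 K : SL(2, K)) : Matrix (Fin 2) (Fin 2) K) = !![0, -1; 1, -1] := rfl

/-- the power condition -/
def Good (q : ℕ) (f : K →+* K) (y : GL chevD4.Idx K) : Prop :=
  ∃ Y : SL(2, K), y = el q f Y ∧ y ^ 4 = tor q 1 (-1)

include hf hK in
theorem el_pow_four (h3 : (3 : K) = 0) : el q f (P0 K) ^ 4 = tor q 1 (-1) := by
  have e : el q f (P0 K) ^ 4 = (el q f (P0 K) * el q f (P0 K)) * (el q f (P0 K) * el q f (P0 K)) := by
    rw [← pow_two, ← pow_two, ← pow_mul]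
  let S : SL(2, K) := ⟨!![1, 1; 1, -1], by rw [Matrix.det_fin_two_of]; linear_combination -h3⟩
  have hS : (S : Matrix (Fin 2) (Fin 2) K) = !![1, 1; 1, -1] := rfl
  have e1 : P0 K * dconj (-1) (P0 K) = S := by
    ext i j
    fin_cases i <;> fin_cases j <;> simp [hS, Matrix.mul_apply, Fin.sum_univ_two, Matrix.SpecialLinearGroup.coe_mul] <;>
      first | linear_combination h3 | linear_combination -h3 | ring1
  have e2 : S * S = dia (-1) := by
    ext i j
    fin_cases i <;> fin_cases j <;> simp [hS, Matrix.mul_apply, Fin.sum_univ_two, Matrix.SpecialLinearGroup.coe_mul] <;>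
      first | linear_combination h3 | linear_combination -h3 | ring1
  rw [e, el_mul hf hK, ← map_mul, e1, e2, phiS_dia hf]

include hf hK in
theorem Good.conj {y : GL chevD4.Idx K} (hy : Good q f y) (A : SL(2, K)) :
    Good q f (phiS f A * y * (phiS f A)⁻¹) := by
  obtain ⟨Y, rfl, h4⟩ := hy
  refine ⟨A * Y * dconj (-1) A⁻¹, ?_, ?_⟩
  · rw [el, el, map_mul, map_mul, ← h0_conj hf hK, map_inv]; group
  · rw [conj_pow, h4, ← phiS_dia hf, ← map_inv, ← map_mul, ← map_mul]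
    congr 1
    have : dia (-1 : Kˣ) = (-1 : SL(2, K)) := by
      ext i j; fin_cases i <;> fin_cases j <;> simp
    rw [this, mul_neg_one, neg_mul, mul_inv_cancel]

include hf hK in
theorem Good.nt {y : GL chevD4.Idx K} (hy : Good q f y) :
    Good q f (TwistedD4Cover77.nt K * y * (TwistedD4Cover77.nt K)⁻¹) := by
  obtain ⟨Y, rfl, h4⟩ := hy
  refine ⟨Y * dia (-1), ?_, ?_⟩
  · rw [el, el, map_mul, phiS_dia hf]
    calc TwistedD4Cover77.nt K * (phiS f Y * tor q (-1) 1) * (TwistedD4Cover77.nt K)⁻¹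
        = (TwistedD4Cover77.nt K * phiS f Y * (TwistedD4Cover77.nt K)⁻¹) *
          (TwistedD4Cover77.nt K * tor q (-1) 1 * (TwistedD4Cover77.nt K)⁻¹) := by group
      _ = _ := by rw [← (nt_comm Y).eq, mul_inv_cancel_right, nt_h0 hf, mul_assoc]
  · rw [conj_pow, h4, ← phiS_dia hf, ← (nt_comm _).eq, mul_inv_cancel_right]

include hf hK in
theorem Good.n0 {y : GL chevD4.Idx K} (hy : Good q f y) :
    Good q f ((TwistedD4Gauss77.n0 K)⁻¹ * y * TwistedD4Gauss77.n0 K) := by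
  obtain ⟨Y, rfl, h4⟩ := hy
  obtain ⟨B, hB⟩ := flip_phiS hf hK (flips_inv flips_n0) (inv_mem (n0_mem hf)) Y
  rw [inv_inv] at hB
  have hz : ∀ a b : Kˣ, a * a = 1 → b * b = 1 →
      (TwistedD4Gauss77.n0 K)⁻¹ * tor q a b * TwistedD4Gauss77.n0 K = tor q a b := by
    intro a b ha hb
    rw [tor, n0_torus, map_inv, inv_eq_iff_mul_eq_one, ← map_mul, ← tp_mul, ha, hb, tp_one, map_one]
  refine ⟨B, ?_, ?_⟩
  · rw [el, el, hB]
    conv_rhs => rw [← hz (-1) 1 (by simp) (by simp)]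
    group
  · have := conj_pow (a := (TwistedD4Gauss77.n0 K)⁻¹) (b := el q f Y) (i := 4)
    rw [inv_inv] at this
    rw [this, h4, hz 1 (-1) (by simp) (by simp)]

theorem even_roots : ∀ r : Fin 24, 12 ≤ r.val → Even (cor chevD4 r.val 1) →
    r.val = 12 ∨ r.val = 13 ∨ r.val = 18 ∨ r.val = 23 := by decide +kernel

include hf hK in
theorem Good.fix {y : GL chevD4.Idx K} (hy : Good q f y) (h2 : (2 : K) ≠ 0) {u : GL chevD4.Idx K}
    (hu : u ∈ UJ q JS) (h : y * u = u * y) : u = 1 := by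
  obtain ⟨Y, rfl, h4⟩ := hy
  have hcm : tor q 1 (-1) * u = u * tor q 1 (-1) := by
    rw [← h4]; exact ((show Commute (el q f Y) u from h).pow_left 4).eq
  obtain ⟨t, ht⟩ := ChevTorusCentralizer77.fixed_U c4 (tp q (1 : Kˣ) (-1)) (UJ_le JS hu).1 hcm
  have hne : (-1 : Kˣ) ≠ 1 := by
    intro h0
    apply h2
    have := congrArg Units.val h0
    simp only [Units.val_neg, Units.val_one] at this
    linear_combination -this
  have hmem : ∀ r ∈ ChevTorusCentralizer77.fixRoots chevD4 (tp q (1 : Kˣ) (-1)),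
      r = 12 ∨ r = 13 ∨ r = 18 ∨ r = 23 := by
    intro r hr
    simp only [ChevTorusCentralizer77.fixRoots, List.mem_filter, List.mem_range'_1, decide_eq_true_eq] at hr
    obtain ⟨⟨r1, r2⟩, hv⟩ := hr
    have hlt : r < chevD4.nroots := by omega
    refine even_roots ⟨r, hlt⟩ r1 ?_
    obtain ⟨t0, t1, t2, t3⟩ := tp_chars (q := q) (1 : Kˣ) (-1)
    have hN := nrm_m1 (K := K) hf
    rw [tchar_eq _ hlt, t0, t1, t2, t3, hN, m1_pow hf, pow_two q, pow_mul, m1_pow hf, m1_pow hf] at hv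
    simp only [one_pow, inv_one, mul_one, one_mul, inv_neg, neg_one_sq, one_zpow] at hv
    rcases Int.even_or_odd (cor chevD4 r 1) with he | ho
    · exact he
    · rw [ho.neg_one_zpow] at hv; exact absurd hv hne
  set L := ChevTorusCentralizer77.fixRoots chevD4 (tp q (1 : Kˣ) (-1)) with hL
  have hsplit : ∃ a b c s : K, u = tri a b c * xg c4 23 s := by
    rw [ht]
    clear ht hL hu h hcm
    clear_value L
    induction L with
    | nil => exact ⟨0, 0, 0, 0, by simp [tri, xg_zero]⟩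
    | cons r L ih =>
      obtain ⟨a, b, c, s, e⟩ := ih fun r' hr' => hmem r' (List.mem_cons_of_mem _ hr')
      rw [List.map_cons, List.prod_cons, e]
      rcases hmem r List.mem_cons_self with rfl | rfl | rfl | rfl
      · refine ⟨0 + a, 0 + b, t 12 + c, s, ?_⟩
        rw [← tri_mul, ← mul_assoc]; congr 2; simp [tri, xg_zero]; rfl
      · refine ⟨0 + a, t 13 + b, 0 + c, s, ?_⟩
        rw [← tri_mul, ← mul_assoc]; congr 2; simp [tri, xg_zero]; rfl
      · refine ⟨t 18 + a, 0 + b, 0 + c, s, ?_⟩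
        rw [← tri_mul, ← mul_assoc]; congr 2; simp [tri, xg_zero]; rfl
      · refine ⟨a, b, c, t 23 + s, ?_⟩
        have hc : ∀ r ∈ [d4p1, d4p3, d4p4], ∀ x : K, Commute (xg c4 23 (t 23)) (xg c4 r x) := by
          have hr : ∀ r ∈ [d4p1, d4p3, d4p4], ∃ i ∈ [0, 2, 3], r = chevD4.simple i := by decide +kernel
          intro r hr' x
          obtain ⟨i, hi, rfl⟩ := hr r hr'
          obtain ⟨a1, a2, a3, a4, a5⟩ := top_orth 23 (by simp) i hi (chevD4.simple i) (by simp)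
          exact (commute_xg c4 a1 a2 a3 a4 a5 x (t 23)).symm
        have hc' : Commute (xg c4 23 (t 23)) (tri a b c) :=
          ((hc _ (by simp) a).mul_right (hc _ (by simp) b)).mul_right (hc _ (by simp) c)
        rw [← mul_assoc, hc'.eq, mul_assoc, xg_mul]
  obtain ⟨a, b, c, s, e⟩ := hsplit
  have hs : xg c4 23 s ∈ chevD4.unipotentRadical K JS := by
    refine Subgroup.subset_closure ⟨23, s, (isPos c4).2 ⟨by decide +kernel, by decide +kernel⟩, fun hin => ?_, rfl⟩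
    exact absurd (inS.1 hin).2 (by decide +kernel)
  obtain ⟨e1, -⟩ := levi_radical_unique (tri_levi a b c) (one_mem _) hs hu.1 (by rw [one_mul]; exact e.symm)
  rw [e1, one_mul] at e
  subst e
  have h' : el q f Y * xg c4 23 s * (el q f Y)⁻¹ = xg c4 23 (-s) := by
    have a1 := torus_conj_xg c4 (show 23 < chevD4.nroots by decide +kernel) (tp q (-1 : Kˣ) 1) s
    rw [(top_val (-1) 1).1, Units.val_neg, Units.val_one, neg_one_mul] at a1
    calc el q f Y * xg c4 23 s * (el q f Y)⁻¹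
        = phiS f Y * (torus chevD4 (tp q (-1 : Kˣ) 1) * xg c4 23 s * (torus chevD4 (tp q (-1 : Kˣ) 1))⁻¹) *
          (phiS f Y)⁻¹ := by rw [el, tor]; group
      _ = _ := by rw [a1, (phiS_comm_top Y (Or.inl rfl) _).eq, mul_inv_cancel_right]
  rw [h, mul_inv_cancel_right] at h'
  by_cases hs0 : s = 0
  · rw [hs0, xg_zero]
  · have h3 := (ChevBruhatInstance.xg_injective c4 (by decide +kernel) (by decide +kernel) hs0 h').2
    exact absurd (mul_left_cancel₀ hs0 (show s * 2 = s * 0 by linear_combination h3)) h2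

include hf hK in
theorem Good.norm {y : GL chevD4.Idx K} (hy : Good q f y) {u : GL chevD4.Idx K} (hu : u ∈ UJ q JS) :
    y * u * y⁻¹ ∈ UJ q JS := by
  obtain ⟨Y, rfl, -⟩ := hy
  have hH := tor_mem hf (m1_pow hf) (1 : Kˣ)
  have h1 : tor q (-1) 1 * u * (tor q (-1) 1)⁻¹ ∈ UJ q JS :=
    Subgroup.mem_inf.2 ⟨levi_norm (Subgroup.mem_sup_left hH.1) hu.1, mul_mem (mul_mem hH.2 hu.2) (inv_mem hH.2)⟩
  have := normU_S hf Y h1
  rw [el]
  convert this using 1
  group

include hf hK in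
theorem cover_ell (h2 : (2 : K) ≠ 0) {x y1 y2 v u : GL chevD4.Idx K} (g1 : Good q f y1) (g2 : Good q f y2)
    (h1 : ConjIn (twistedD4 K q) x y1) (h2' : ConjIn (twistedD4 K q) x y2) (hv : v ∈ VJ q JS) (hu : u ∈ UJ q JS) :
    InCC (twistedD4 K q) x (v * (y1 * y2) * u) := by
  refine cover_core (le_trans (Subgroup.map_mono (UJ_le JS)) (VV_le hf)) inf_le_right h1 h2'
    (fun w hw => normV_of (fun z hz => (g1.n0 hf hK).norm hf hK hz) hw) (fun w hw hcm => ?_)
    (fun _ hw => g2.norm hf hK hw) (fun _ hw => g2.fix hf hK h2 hw) hv hu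
  obtain ⟨z, hz, rfl⟩ := mem_VJ.1 hw
  have : z = 1 := (g1.n0 hf hK).fix hf hK h2 hz (by
    calc (TwistedD4Gauss77.n0 K)⁻¹ * y1 * TwistedD4Gauss77.n0 K * z = (TwistedD4Gauss77.n0 K)⁻¹ *
          (y1 * (TwistedD4Gauss77.n0 K * z * (TwistedD4Gauss77.n0 K)⁻¹)) * TwistedD4Gauss77.n0 K := by group
      _ = _ := by rw [hcm]; group)
  rw [this]; group

theorem exists_sq {F : Type*} [Field F] [Fintype F] (hodd : Fintype.card F % 2 = 1) (a b c : F) (h : a ≠ 0 ∨ b ≠ 0) :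
    ∃ s u : F, s ^ 2 = a * u ^ 2 + b * u + c := by
  by_cases ha : a = 0
  · have hb := h.resolve_left (not_not_intro ha)
    exact ⟨0, -c / b, by rw [ha]; field_simp; ring⟩
  · obtain ⟨s, u, e⟩ := FiniteField.exists_root_sum_quadratic (f := (Polynomial.X ^ 2 : Polynomial F))
      (g := Polynomial.C (-a) * Polynomial.X ^ 2 + Polynomial.C (-b) * Polynomial.X + Polynomial.C (-c))
      (Polynomial.degree_X_pow 2) (Polynomial.degree_quadratic (neg_ne_zero.2 ha)) hodd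
    refine ⟨s, u, ?_⟩
    simp at e
    linear_combination e

theorem no_root (h3 : (3 : K) = 0) (hK : Fintype.card K = 27) (u : K) : u * u - u - 1 ≠ 0 := by
  intro h
  have h8 : u ^ 8 = 1 := by
    linear_combination (u ^ 6 + u ^ 5 + 2 * u ^ 4 + 3 * u ^ 3 + 5 * u ^ 2 + 8 * u + 13) * h + (7 * u + 4) * h3
  have hu : u ≠ 0 := fun e => by rw [e] at h8; simp at h8
  have h26 := FiniteField.pow_card_sub_one_eq_one u hu
  rw [hK] at h26
  have h2 : u ^ 2 = 1 := by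
    calc u ^ 2 = (u ^ 8) ^ 3 * u ^ 2 := by rw [h8, one_pow, one_mul]
      _ = 1 := by rw [← pow_mul, ← pow_add]; exact h26
  exact hu (by linear_combination h2 - h)

theorem exists_conj_rep (h3 : (3 : K) = 0) (hK : Fintype.card K = 27) (M : SL(2, K))
    (h : M 0 0 - M 1 1 = 1) : ∃ A : SL(2, K), A * P0 K * dconj (-1) A⁻¹ = M := by
  obtain ⟨u, hu⟩ : ∃ u, u = M 0 0 := ⟨_, rfl⟩
  have hd := M.2
  rw [Matrix.det_fin_two] at hd
  have h11 : M 1 1 = u - 1 := by rw [hu]; linear_combination -h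
  rw [h11, ← hu] at hd
  have hw : M 1 0 ≠ 0 := by
    intro hw
    rw [hw] at hd
    exact no_root h3 hK u (by linear_combination hd)
  obtain ⟨X, L, e⟩ := exists_sq (F := K) (by rw [hK]) (-1) 0 (M 1 0) (Or.inl (by simp))
  obtain ⟨k, hk⟩ : ∃ k : K, k = (X - (1 - 2 * u) * L) / (2 * M 1 0) := ⟨_, rfl⟩
  have h2 : (2 : K) ≠ 0 := fun h2 => one_ne_zero (α := K) (by linear_combination h3 - h2)
  have hX : X = 2 * M 1 0 * k + (1 - 2 * u) * L := by rw [hk]; field_simp; ring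
  -- the columns are `e` and its image under the matrix
  let A : SL(2, K) := ⟨!![k, u * k - M 0 1 * L; L, M 1 0 * k + (1 - u) * L], by
    rw [Matrix.det_fin_two_of]
    refine mul_left_cancel₀ (mul_ne_zero (mul_ne_zero h2 h2) hw) ?_
    rw [hX] at e
    linear_combination e + (-4 * L ^ 2) * hd + (-2 * L ^ 2 - M 1 0) * h3⟩
  refine ⟨A, ?_⟩
  have hA0 : (A : Matrix (Fin 2) (Fin 2) K) = !![k, u * k - M 0 1 * L; L, M 1 0 * k + (1 - u) * L] := rfl
  have hA : A * P0 K = M * dconj (-1) A := by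
    ext i j
    fin_cases i <;> fin_cases j <;> simp [hA0, Matrix.mul_apply, Fin.sum_univ_two, h11, ← hu] <;>
      first | ring1 | linear_combination (k * hd) | linear_combination (-k * hd) | linear_combination (L * hd) | linear_combination (-L * hd)
  rw [hA, mul_assoc, ← dconj_mul, mul_inv_cancel]
  have : dconj (-1) (1 : SL(2, K)) = 1 := by ext i j; fin_cases i <;> fin_cases j <;> simp
  rw [this, mul_one]

include hf hK in
theorem conj_el (h3 : (3 : K) = 0) (hq3 : q = 3) (Y : SL(2, K)) (h : (Y 0 0 - Y 1 1) ^ 2 = 1) :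
    ConjIn (twistedD4 K q) (el q f (P0 K)) (el q f Y) ∧ Good q f (el q f Y) := by
  have hK27 : Fintype.card K = 27 := by rw [hK, hq3]; norm_num
  have main : ∀ M : SL(2, K), M 0 0 - M 1 1 = 1 →
      ConjIn (twistedD4 K q) (el q f (P0 K)) (el q f M) ∧ Good q f (el q f M) := by
    intro M hM
    obtain ⟨A, rfl⟩ := exists_conj_rep h3 hK27 M hM
    have e : el q f (A * P0 K * dconj (-1) A⁻¹) = phiS f A * el q f (P0 K) * (phiS f A)⁻¹ := by
      rw [el, el, map_mul, map_mul, ← h0_conj hf hK, map_inv]; group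
    rw [e]
    exact ⟨⟨_, phiS_mem hf A, rfl⟩, Good.conj hf hK ⟨_, rfl, el_pow_four hf hK h3⟩ A⟩
  rcases sq_eq_one_iff.1 h with h | h
  · exact main Y h
  · have hd : (Y * dia (-1) : SL(2, K)) 0 0 - (Y * dia (-1) : SL(2, K)) 1 1 = 1 := by
      simp [Matrix.mul_apply, Fin.sum_univ_two]; linear_combination -h
    obtain ⟨⟨k, hk, e⟩, hg⟩ := main _ hd
    have e2 : el q f Y = TwistedD4Cover77.nt K * el q f (Y * dia (-1)) * (TwistedD4Cover77.nt K)⁻¹ := by
      rw [el, el]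
      calc phiS f Y * tor q (-1) 1
          = phiS f (Y * dia (-1)) * (tor q 1 (-1) * tor q (-1) 1) := by
            rw [← phiS_dia hf, ← mul_assoc, ← map_mul, mul_assoc Y]
            congr 2
            ext i j; fin_cases i <;> fin_cases j <;> simp [Matrix.mul_apply, Fin.sum_univ_two]
        _ = _ := by rw [← nt_h0 hf, ← mul_assoc, ← mul_assoc, (nt_comm _).eq]; group
    rw [e2]
    exact ⟨⟨TwistedD4Cover77.nt K * k, mul_mem (nt_mem hf) hk, by rw [e]; group⟩, Good.nt hf hK hg⟩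

theorem split_middle (h3 : (3 : K) = 0) (hK : Fintype.card K = 27) (Z : SL(2, K)) :
    ∃ Y1 Y2 : SL(2, K), (Y1 0 0 - Y1 1 1) ^ 2 = 1 ∧ (Y2 0 0 - Y2 1 1) ^ 2 = 1 ∧ Z = Y1 * dconj (-1) Y2 := by
  have hinv : dconj (-1) (1 : SL(2, K)) = 1 := by ext i j; fin_cases i <;> fin_cases j <;> simp
  have hdd : ∀ A : SL(2, K), dconj (-1) (dconj (-1) A) = A := fun A => by
    ext i j; fin_cases i <;> fin_cases j <;> simp
  have htr : ∀ A Y : SL(2, K), (A * Y * dconj (-1) A⁻¹) 0 0 - (A * Y * dconj (-1) A⁻¹) 1 1 = Y 0 0 - Y 1 1 := by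
    intro A Y
    have hd := A.2
    rw [Matrix.det_fin_two] at hd
    simp [Matrix.mul_apply, Fin.sum_univ_two, Matrix.adjugate_fin_two]
    linear_combination (Y 0 0 - Y 1 1) * hd
  have two : (2 : K) ≠ 0 := fun h2 => one_ne_zero (α := K) (by linear_combination h3 - h2)
  by_cases hns : Z 0 1 = 0 ∧ Z 1 0 = 0 ∧ Z 0 0 = Z 1 1
  · obtain ⟨h1, h2, h4⟩ := hns
    have hd := Z.2
    rw [Matrix.det_fin_two, h1, h2, ← h4] at hd
    refine ⟨Z * (dconj (-1) (P0 K))⁻¹, P0 K, ?_, ?_, by rw [inv_mul_cancel_right]⟩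
    · have hsq : Z 0 0 * Z 0 0 = 1 := by linear_combination hd
      simp [Matrix.mul_apply, Fin.sum_univ_two, Matrix.adjugate_fin_two, h1, h2, ← h4, -sq_eq_one_iff]
      linear_combination hsq
    · simp
  · obtain ⟨A, hA⟩ := exists_corner (Z : Matrix (Fin 2) (Fin 2) K) hns 0
    obtain ⟨N, hN⟩ : ∃ N, N = A * Z * A⁻¹ := ⟨_, rfl⟩
    have hN0 : N 0 0 = 0 := by rw [hN]; exact hA
    have hd := N.2
    rw [Matrix.det_fin_two, hN0, zero_mul, zero_sub] at hd
    obtain ⟨x, hx⟩ : ∃ x, x = N 0 1 := ⟨_, rfl⟩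
    obtain ⟨T, hT⟩ : ∃ T, T = N 1 1 := ⟨_, rfl⟩
    have hx0 : x ≠ 0 := fun h0 => by rw [← hx, h0] at hd; simp at hd
    have hy : N 1 0 = -x⁻¹ := by rw [← hx] at hd; field_simp; linear_combination -hd
    obtain ⟨τ, hτ, hgood⟩ : ∃ τ : K, τ ^ 2 = 1 ∧ (T ^ 2 - 4 ≠ 0 ∨ 2 * T * τ + 4 ≠ 0) := by
      by_cases hT2 : T ^ 2 - 4 = 0
      · refine ⟨T / 2, ?_, Or.inr ?_⟩
        · field_simp; linear_combination hT2
        · intro h0; field_simp at h0
          exact two (mul_right_cancel₀ two (mul_right_cancel₀ two (by linear_combination h0 - hT2)))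
      · exact ⟨1, one_pow 2, Or.inl hT2⟩
    obtain ⟨s, u, e⟩ := exists_sq (F := K) (by rw [hK]) (T ^ 2 - 4) (2 * T * τ + 4) (τ ^ 2 + 4) hgood
    obtain ⟨v, hv⟩ : ∃ v : K, v = (-(T * u + τ) + s) / 2 := ⟨_, rfl⟩
    have hv' : v * (v + T * u + τ) + u * u - u - 1 = 0 := by
      rw [hv]; field_simp; linear_combination e
    let Y2 : SL(2, K) := ⟨!![u, -(x * v); (v + T * u + τ) / x, -(1 - u)], by
      rw [Matrix.det_fin_two_of]; field_simp; linear_combination hv'⟩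
    have hY2c : (Y2 : Matrix (Fin 2) (Fin 2) K) = !![u, -(x * v); (v + T * u + τ) / x, -(1 - u)] := rfl
    have hY2 : Y2 0 0 - Y2 1 1 = 1 := by simp [hY2c]
    obtain ⟨Y1, hY1⟩ : ∃ Y1, Y1 = N * (dconj (-1) Y2)⁻¹ := ⟨_, rfl⟩
    have hY1' : (Y1 0 0 - Y1 1 1) ^ 2 = 1 := by
      have : Y1 0 0 - Y1 1 1 = τ := by
        rw [hY1]
        simp [hY2c, Matrix.mul_apply, Fin.sum_univ_two, Matrix.adjugate_fin_two, hN0, hy, ← hx, ← hT]
        field_simp
        ring
      rw [this]; exact hτ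
    refine ⟨A⁻¹ * Y1 * dconj (-1) (A⁻¹)⁻¹, A⁻¹ * Y2 * dconj (-1) (A⁻¹)⁻¹, ?_, ?_, ?_⟩
    · rw [htr]; exact hY1'
    · rw [htr, hY2, one_pow]
    · rw [show Z = A⁻¹ * N * A by rw [hN]; group, show N = Y1 * dconj (-1) Y2 by rw [hY1]; group, dconj_mul,
        dconj_mul, hdd]
      have hh : dconj (-1) (A⁻¹)⁻¹ * dconj (-1) A⁻¹ = (1 : SL(2, K)) := by
        rw [← dconj_mul, inv_mul_cancel, hinv]
      calc A⁻¹ * (Y1 * dconj (-1) Y2) * A = A⁻¹ * Y1 * 1 * dconj (-1) Y2 * (A⁻¹)⁻¹ := by group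
        _ = _ := by rw [← hh]; simp only [mul_assoc]

include hf hK in
theorem cover_three (hq3 : q = 3) (h3 : (3 : K) = 0) : ∃ x ∈ twistedD4 K q, x ^ 8 = 1 ∧
    ∀ g ∈ twistedD4 K q, g ≠ 1 → InCC (twistedD4 K q) x g := by
  have hK27 : Fintype.card K = 27 := by rw [hK, hq3]; norm_num
  have two : (2 : K) ≠ 0 := fun h2 => one_ne_zero (α := K) (by linear_combination h3 - h2)
  refine ⟨el q f (P0 K), el_mem hf _, ?_, fun g hg hne => ?_⟩
  · rw [show (8 : ℕ) = 4 * 2 by norm_num, pow_mul, el_pow_four hf hK h3, tor_pow]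
    simp [tor_one]
  obtain ⟨k, hk, v, hv, u, hu, e⟩ := exists_form_any hf hK (by omega) hg hne (one_pow q) 1
  obtain ⟨c, d, v', hv', u', hu', eq, -⟩ := (nodeS hf hK).middle hv (tor_mem hf (one_pow q) 1) hu
  obtain ⟨Y1, Y2, h1, h2, eZ⟩ := split_middle h3 hK27
    (lo c * dconj ((nodeS hf hK).α (tor q 1 1)) (up d))
  obtain ⟨c1, g1⟩ := conj_el hf hK h3 hq3 Y1 h1
  obtain ⟨c2, g2⟩ := conj_el hf hK h3 hq3 Y2 h2
  refine InCC.of_conj hk ?_
  rw [e, eq, eZ]
  have e3 : (nodeS hf hK).φ (Y1 * dconj (-1) Y2) * tor q 1 1 = el q f Y1 * el q f Y2 := by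
    rw [el_mul hf hK, tor_one, mul_one]; rfl
  rw [e3]
  exact cover_ell hf hK two g1 g2 c1 c2 hv' hu'

end Cfsg.Agent.TwistedD4Cover77
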