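import Cfsg.Agent.Lib.TwistedD4TwoLong77

/-!
`³D₄(2)`: an element of order 21 whose class squared contains the nontrivial elements.

Every element is conjugate to `v z u` with `z` in the short rank-one group and `v`, `u` in the opposite radicals.
Unless a further conjugate has central coefficients of equal parity and diagonal parameter in the allowed three
values, the coefficient functions on the projective line force `v`, `u` into the long root subgroups, where a
finite check over the prime field finishes.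
-/

set_option autoImplicit false
set_option linter.unusedSectionVars false
set_option maxRecDepth 100000

namespace Cfsg.Agent.TwistedD4CoverTwo77

open Cfsg.Lie Cfsg.Agent.ChevalleyCert Cfsg.Agent.ChevalleyCore Cfsg.Agent.ChevalleyRoots Cfsg.Agent.ChevalleyTorus
  Cfsg.Agent.ChevalleyUnipotent Cfsg.Agent.ChevalleyParabolic
  Cfsg.Agent.TwistedCore Cfsg.Agent.TwistedTools Cfsg.Agent.TwistedD4
  Cfsg.Agent.GaussPrescribed77 Cfsg.Agent.TwistedD4Gauss77 Cfsg.Agent.TwistedD4Form77 Cfsg.Agent.TwistedD4TwoEntry77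
  Cfsg.Agent.TwistedD4TwoLong77
open Cfsg.Agent.TwistedD4Cover77 (ConjIn InCC cover_core)
open Cfsg.Agent.TwistedD4Levi77 (nrm tp_chars tchar_eq)
open Cfsg.Agent.ChevWeyl (cor)
open scoped MatrixGroups

variable {K : Type*} [Field K] [Fintype K] {f : K →+* K} (hf : ∀ t, f t = t ^ 2) (hK : Fintype.card K = 2 ^ 3)

theorem hT_mul (a b : Kˣ) : hT a * hT b = hT (a * b) := by rw [hT, hT, hT, tor_mul, one_mul]

theorem hT_one : hT (1 : Kˣ) = 1 := tor_one

include hK in
theorem unit_seven (b : Kˣ) : b ^ 7 = 1 := by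
  classical
  rw [show (7 : ℕ) = Fintype.card Kˣ by rw [Fintype.card_units, hK]; norm_num]
  exact pow_card_eq_one

include hK in
theorem order_seven {b : Kˣ} (h : b ≠ 1) : orderOf b = 7 :=
  haveI : Fact (Nat.Prime 7) := ⟨by norm_num⟩
  orderOf_eq_prime (unit_seven hK b) h

variable (two : (2 : K) = 0)

/-- the representative of order 3 -/
def M : SL(2, ZMod 2) := lo 1 * up 1

theorem order_three : ∀ P : SL(2, ZMod 2), P * P * P = 1 → P ≠ 1 →
    P = M ∨ P = (up 1 * lo 1 * up 1) * M * (up 1 * lo 1 * up 1)⁻¹ := by decide +kernel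

theorem three_fix : ∀ P : SL(2, ZMod 2), P * P * P = 1 → P ≠ 1 →
    ∀ v : Fin 2 → ZMod 2, (P : Matrix (Fin 2) (Fin 2) (ZMod 2)).mulVec v = v → v = 0 := by decide +kernel

theorem three_split : M * M * M = 1 ∧ M ≠ 1 ∧ (M * M) * (M * M) * (M * M) = 1 ∧ M * M ≠ 1 ∧ Tm M * Tm M * Tm M = 1 ∧
    Tm M ≠ 1 ∧ M * (M * M) = 1 ∧ (M * M) * (M * M) = M := by decide +kernel

/-- an element of the cyclic torus of the long node -/
def Good (y : GL chevD4.Idx K) : Prop :=
  ∃ (P : SL(2, ZMod 2)) (b : Kˣ), y = phi2 two P * hT b ∧ P * P * P = 1 ∧ P ≠ 1 ∧ b ≠ 1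

include hf hK in
theorem hT_value {b : Kˣ} (hb : b ≠ 1) {r : ℕ} (hr : r < chevD4.nroots) :
    tchar chevD4 (tp 2 1 b) r = 1 ↔ (7 : ℤ) ∣ 2 * cor chevD4 r 0 + 4 * cor chevD4 r 2 + 8 * cor chevD4 r 3 := by
  obtain ⟨t0, t1, t2, t3⟩ := tp_chars (q := 2) (1 : Kˣ) b
  have hN : nrm 2 b = 1 := by rw [nrm]; exact unit_seven hK b
  rw [tchar_eq _ hr, t0, t1, t2, t3, hN]
  simp only [one_pow, inv_one, mul_one, one_zpow]
  rw [← pow_mul, ← pow_mul, ← zpow_natCast, ← zpow_natCast, ← zpow_natCast, ← zpow_mul, ← zpow_mul, ← zpow_mul,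
    ← zpow_add, ← zpow_add, ← orderOf_dvd_iff_zpow_eq_one, order_seven hK hb]
  norm_num

theorem long_roots : ∀ r : Fin 24, 12 ≤ r.val →
    ((7 : ℤ) ∣ 2 * cor chevD4 r.val 0 + 4 * cor chevD4 r.val 2 + 8 * cor chevD4 r.val 3 ↔
      r.val ∈ [14, 22, 23]) := by decide +kernel

include hf hK in
theorem L2_injective {v w : Fin 2 → ZMod 2} (h : L2 (K := K) two v = L2 two w) : v = w := by
  have h1 := congrArg (co 7) h
  rw [co_L2, co_L2, if_pos rfl, if_pos rfl] at h1
  have e1 := iota_inj two h1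
  rw [L2, L2, e1] at h
  have h2 := mul_left_cancel h
  have e0 : v 0 = w 0 := by
    have hv : v 0 = 0 ∨ v 0 = 1 := by generalize v 0 = x; revert x; decide
    have hw : w 0 = 0 ∨ w 0 = 1 := by generalize w 0 = x; revert x; decide
    by_cases hh : iota two (v 0) = 0
    · by_cases hh' : iota two (w 0) = 0
      · exact iota_inj two (hh.trans hh'.symm)
      · exact absurd ((ChevBruhatInstance.xg_injective c4 (by decide +kernel) (by decide +kernel) hh' h2.symm).2.trans hh) hh'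
    · exact iota_inj two (ChevBruhatInstance.xg_injective c4 (by decide +kernel) (by decide +kernel) hh h2).2
  funext i
  fin_cases i
  · exact e0
  · exact e1

include hf hK in
theorem Good.fix {y : GL chevD4.Idx K} (hy : Good two y) {u : GL chevD4.Idx K} (hu : u ∈ UJ 2 JL)
    (h : y * u = u * y) : u = 1 := by
  classical
  obtain ⟨P, b, rfl, hP3, hP1, hb⟩ := hy
  have hc : Commute (phi2 two P) (hT b) := (hT_comm hf hK two b P).symm
  have hcu : Commute (phi2 two P * hT b) u := h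
  have hP7 : P ^ 7 = P := by
    have : P ^ 3 = 1 := by rw [pow_three, ← mul_assoc]; exact hP3
    rw [show (7 : ℕ) = 3 * 2 + 1 by norm_num, pow_succ, pow_mul, this, one_pow, one_mul]
  have e7 : (phi2 two P * hT b) ^ 7 = phi2 two P := by
    rw [hc.mul_pow, ← map_pow, hP7, hT, tor_pow, unit_seven hK b, one_pow, tor_one, mul_one]
  have e3 : (phi2 two P * hT b) ^ 3 = hT (b ^ 3) := by
    rw [hc.mul_pow, ← map_pow, pow_three, ← mul_assoc, hP3, map_one, one_mul, hT, hT, tor_pow, one_pow]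
  have c7 : Commute (phi2 two P) u := e7 ▸ hcu.pow_left 7
  have c3 : torus chevD4 (tp 2 1 (b ^ 3)) * u = u * torus chevD4 (tp 2 1 (b ^ 3)) :=
    (e3 ▸ hcu.pow_left 3 : Commute (hT (b ^ 3)) u).eq
  have hb3 : b ^ 3 ≠ 1 := pow_ne_one_of_lt_orderOf (by norm_num) (by rw [order_seven hK hb]; norm_num)
  obtain ⟨t, ht⟩ := ChevTorusCentralizer77.fixed_U c4 _ (UJ_le JL hu).1 c3
  have hroots : ChevTorusCentralizer77.fixRoots chevD4 (tp 2 (1 : Kˣ) (b ^ 3)) = [14, 22, 23] := by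
    rw [ChevTorusCentralizer77.fixRoots]
    refine (List.filter_congr (q := fun r => decide (r ∈ [14, 22, 23])) fun r hr => ?_).trans (by decide +kernel)
    rw [List.mem_range'_1] at hr
    have hlt : r < chevD4.nroots := by omega
    exact decide_eq_decide.2 ((hT_value hf hK hb3 hlt).trans (long_roots ⟨r, hlt⟩ hr.1))
  rw [hroots] at ht
  simp only [List.map_cons, List.map_nil, List.prod_cons, List.prod_nil, mul_one] at ht
  have h22 : xg c4 22 (t 22) * xg c4 23 (t 23) ∈ chevD4.unipotentRadical K JL :=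
    mul_mem (xg_mem_radL (by decide +kernel) (by decide +kernel) (by decide +kernel) _)
      (xg_mem_radL (by decide +kernel) (by decide +kernel) (by decide +kernel) _)
  obtain ⟨h14, -⟩ := levi_radical_unique (show xg c4 14 (t 14) ∈ chevD4.leviSubgroup K JL from p2_levi (t 14))
    (one_mem _) h22 hu.1 (by rw [one_mul]; exact ht.symm)
  rw [h14, one_mul] at ht
  have hS22 : xg c4 22 (t 22) ∈ chevD4.unipotentRadical K JS :=
    xg_mem_rad (by decide +kernel) (by decide +kernel) (by decide +kernel) _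
  have hS23 : xg c4 23 (t 23) ∈ chevD4.unipotentRadical K JS :=
    xg_mem_rad (by decide +kernel) (by decide +kernel) (by decide +kernel) _
  have huS : u ∈ UJ 2 JS := Subgroup.mem_inf.2 ⟨ht ▸ mul_mem hS22 hS23, hu.2⟩
  obtain ⟨e, v, hev, -⟩ := rad_rational hf hK two huS (fun i h0 h7 => by
    rw [ht, co_mul i hS22 hS23, co_xg two (by decide +kernel) (by decide +kernel),
      co_xg two (by decide +kernel) (by decide +kernel)]
    revert h0 h7
    fin_cases i <;> simp [lvRoot])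
  obtain ⟨he, -⟩ := levi_radical_unique (phi2_levi two (up e)) (one_mem _) (L2_mem_radL two v) hu.1
    (by rw [one_mul]; exact hev.symm)
  rw [he, one_mul] at hev
  subst hev
  have h2 := phi2_L2 two P v
  rw [c7.eq, mul_inv_cancel_right] at h2
  rw [three_fix P hP3 hP1 v (L2_injective hf hK two h2.symm)]
  simp [L2, xg_zero]

include hf in
theorem Good.norm {y : GL chevD4.Idx K} (hy : Good two y) {u : GL chevD4.Idx K} (hu : u ∈ UJ 2 JL) :
    y * u * y⁻¹ ∈ UJ 2 JL := by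
  obtain ⟨P, b, rfl, -⟩ := hy
  have hH := tor_mem hf (one_pow 2) b
  have hl : phi2 two P * hT b ∈ chevD4.leviSubgroup K JL :=
    mul_mem (phi2_levi two P) (Subgroup.mem_sup_left hH.1)
  have hm : phi2 two P * hT b ∈ twistedD4 K 2 := mul_mem (phi2_mem hf two P) hH.2
  exact Subgroup.mem_inf.2 ⟨levi_norm hl hu.1, mul_mem (mul_mem hm hu.2) (inv_mem hm)⟩

include hf hK in
theorem Good.n0 {y : GL chevD4.Idx K} (hy : Good two y) :
    Good two ((TwistedD4Gauss77.n0 K)⁻¹ * y * TwistedD4Gauss77.n0 K) := by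
  obtain ⟨P, b, rfl, h3, h1, hb⟩ := hy
  refine ⟨Tm P, b⁻¹, ?_, by rw [← map_mul, ← map_mul, h3, map_one], fun h => h1 ?_, fun h => hb (inv_eq_one.1 h)⟩
  · rw [← n0_phi2 hf two, ← n0_hT hf hK]; group
  · rw [← Tm_Tm P, h, map_one]

include hf hK in
theorem cover_ell {x y1 y2 v u : GL chevD4.Idx K} (g1 : Good two y1) (g2 : Good two y2)
    (h1 : ConjIn (twistedD4 K 2) x y1) (h2 : ConjIn (twistedD4 K 2) x y2) (hv : v ∈ VJ 2 JL) (hu : u ∈ UJ 2 JL) :
    InCC (twistedD4 K 2) x (v * (y1 * y2) * u) := by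
  refine cover_core (le_trans (Subgroup.map_mono (UJ_le JL)) (VV_le hf)) inf_le_right h1 h2
    (fun w hw => normV_of (fun z hz => (g1.n0 hf hK two).norm hf two hz) hw) (fun w hw hcm => ?_)
    (fun _ hw => g2.norm hf two hw) (fun _ hw => g2.fix hf hK two hw) hv hu
  obtain ⟨z, hz, rfl⟩ := mem_VJ.1 hw
  have : z = 1 := (g1.n0 hf hK two).fix hf hK two hz (by
    calc (TwistedD4Gauss77.n0 K)⁻¹ * y1 * TwistedD4Gauss77.n0 K * z = (TwistedD4Gauss77.n0 K)⁻¹ *
          (y1 * (TwistedD4Gauss77.n0 K * z * (TwistedD4Gauss77.n0 K)⁻¹)) * TwistedD4Gauss77.n0 K := by group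
      _ = _ := by rw [hcm]; group)
  rw [this]; group

variable (γ : Kˣ)

/-- the allowed diagonal parameters -/
def Allowed (b : Kˣ) : Prop := b = 1 ∨ b = γ * γ ∨ b = (γ * γ)⁻¹

/-- the representative -/
noncomputable def x0 : GL chevD4.Idx K := phi2 two M * hT γ

include hf hK in
theorem conj_x0 (hγ : γ ≠ 1) (P : SL(2, ZMod 2)) (h3 : P * P * P = 1) (h1 : P ≠ 1) (b : Kˣ) (hb : b = γ ∨ b = γ⁻¹) :
    ConjIn (twistedD4 K 2) (x0 two γ) (phi2 two P * hT b) ∧ Good two (phi2 two P * hT b) := by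
  refine ⟨?_, P, b, rfl, h3, h1, ?_⟩
  swap
  · rcases hb with rfl | rfl
    · exact hγ
    · exact fun h => hγ (inv_eq_one.1 h)
  have base : ∀ (Q : SL(2, ZMod 2)) (c : Kˣ), ConjIn (twistedD4 K 2) (x0 two γ) (phi2 two M * hT c) →
      (Q = M ∨ Q = (up 1 * lo 1 * up 1) * M * (up 1 * lo 1 * up 1)⁻¹) →
      ConjIn (twistedD4 K 2) (x0 two γ) (phi2 two Q * hT c) := by
    intro Q c hc hQ
    rcases hQ with rfl | rfl
    · exact hc
    · refine hc.trans ⟨phi2 two (up 1 * lo 1 * up 1), phi2_mem hf two _, ?_⟩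
      generalize (up 1 * lo 1 * up 1 : SL(2, ZMod 2)) = W
      rw [map_mul, map_mul, map_inv]
      calc phi2 two W * phi2 two M * (phi2 two W)⁻¹ * hT c
          = phi2 two W * phi2 two M * ((phi2 two W)⁻¹ * hT c) := by group
        _ = phi2 two W * phi2 two M * (hT c * (phi2 two W)⁻¹) := by rw [((hT_comm hf hK two c W).inv_right).eq]
        _ = _ := by group
  rcases hb with rfl | rfl
  · exact base P _ ⟨1, one_mem _, by rw [x0]; group⟩ (order_three P h3 h1)
  · refine base P _ ?_ (order_three P h3 h1)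
    have hn : ConjIn (twistedD4 K 2) (x0 two γ) (phi2 two (Tm M) * hT γ⁻¹) :=
      ⟨(n0 K)⁻¹, inv_mem (n0_mem hf), by rw [x0, ← n0_phi2 hf two, ← n0_hT hf hK]; group⟩
    obtain ⟨-, -, -, -, hT3, hT1, -, -⟩ := three_split
    rcases order_three _ hT3 hT1 with e | e
    · rwa [e] at hn
    · rw [e] at hn
      refine hn.trans ⟨(phi2 two (up 1 * lo 1 * up 1))⁻¹, inv_mem (phi2_mem hf two _), ?_⟩
      generalize (up 1 * lo 1 * up 1 : SL(2, ZMod 2)) = W
      rw [map_mul, map_mul, map_inv]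
      calc phi2 two M * hT γ⁻¹ = phi2 two M * ((hT γ⁻¹ * (phi2 two W)⁻¹) * phi2 two W) := by group
        _ = phi2 two M * (((phi2 two W)⁻¹ * hT γ⁻¹) * phi2 two W) := by
          rw [((hT_comm hf hK two γ⁻¹ W).inv_right).eq]
        _ = _ := by group

/-- conjugate to an element that is visibly covered -/
def Ready (g : GL chevD4.Idx K) : Prop :=
  ∃ (Z : SL(2, ZMod 2)) (b : Kˣ), (Z = 1 ∨ Z = M) ∧ Allowed γ b ∧ ∃ k ∈ twistedD4 K 2, ∃ v ∈ VJ 2 JL,
    ∃ u ∈ UJ 2 JL, k * g * k⁻¹ = v * (phi2 two Z * hT b) * u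

theorem Ready.of_conj {g k : GL chevD4.Idx K} (hk : k ∈ twistedD4 K 2) (h : Ready two γ (k * g * k⁻¹)) :
    Ready two γ g := by
  obtain ⟨Z, b, hZ, hb, k', hk', v, hv, u, hu, e⟩ := h
  exact ⟨Z, b, hZ, hb, k' * k, mul_mem hk' hk, v, hv, u, hu, by rw [← e]; group⟩

include hf hK in
theorem Ready.covered (hγ : γ ≠ 1) {g : GL chevD4.Idx K} (h : Ready two γ g) :
    InCC (twistedD4 K 2) (x0 two γ) g := by
  obtain ⟨Z, b, hZ, hb, k, hk, v, hv, u, hu, e⟩ := h
  obtain ⟨m3, m1, n3, n1, -, -, e1, e2⟩ := three_split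
  obtain ⟨P1, P2, h13, h11, h23, h21, hZ'⟩ : ∃ P1 P2 : SL(2, ZMod 2),
      P1 * P1 * P1 = 1 ∧ P1 ≠ 1 ∧ P2 * P2 * P2 = 1 ∧ P2 ≠ 1 ∧ P1 * P2 = Z := by
    rcases hZ with rfl | rfl
    · exact ⟨M, M * M, m3, m1, n3, n1, e1⟩
    · exact ⟨M * M, M * M, n3, n1, n3, n1, e2⟩
  obtain ⟨b1, b2, hb1, hb2, hbb⟩ : ∃ b1 b2 : Kˣ, (b1 = γ ∨ b1 = γ⁻¹) ∧ (b2 = γ ∨ b2 = γ⁻¹) ∧ b1 * b2 = b := by
    rcases hb with rfl | rfl | rfl
    · exact ⟨γ, γ⁻¹, Or.inl rfl, Or.inr rfl, mul_inv_cancel γ⟩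
    · exact ⟨γ, γ, Or.inl rfl, Or.inl rfl, rfl⟩
    · exact ⟨γ⁻¹, γ⁻¹, Or.inr rfl, Or.inr rfl, (mul_inv γ γ).symm⟩
  obtain ⟨c1, g1⟩ := conj_x0 hf hK two γ hγ P1 h13 h11 b1 hb1
  obtain ⟨c2, g2⟩ := conj_x0 hf hK two γ hγ P2 h23 h21 b2 hb2
  have em : phi2 two Z * hT b = phi2 two P1 * hT b1 * (phi2 two P2 * hT b2) := by
    rw [← hZ', ← hbb, map_mul, ← hT_mul]
    calc phi2 two P1 * phi2 two P2 * (hT b1 * hT b2) = phi2 two P1 * (phi2 two P2 * hT b1) * hT b2 := by group
      _ = _ := by rw [← (hT_comm hf hK two b1 P2).eq]; group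
  refine TwistedD4Cover77.InCC.of_conj hk ?_
  rw [e, em]
  exact cover_ell hf hK two g1 g2 c1 c2 hv hu

include hf hK in
theorem split2 {u : GL chevD4.Idx K} (hu : u ∈ UU 2) :
    ∃ e : ZMod 2, ∃ w ∈ UJ 2 JL, u = phi2 two (up e) * w ∧ ent u = iota two e := by
  obtain ⟨e, w, hw, rfl⟩ := split_L hf hK hu
  obtain ⟨y, hy⟩ : ∃ y : ZMod 2, iota two y = (e : K) := by
    rcases sq_01 hf hK ((mem_F0 hf).1 e.2) with h | h
    · exact ⟨0, by rw [h, map_zero]⟩
    · exact ⟨1, by rw [h, map_one]⟩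
  have hx : phiL f (up e) = phi2 two (up y) := by rw [phiL_up, phi2_up, hy]; rfl
  refine ⟨y, w, hw, by rw [hx], ?_⟩
  have hp : phiL f (up e) ∈ chevD4.posUnipotent K := by
    rw [phiL_up]; exact xg_mem_U c4 (by decide +kernel) (by decide +kernel) _
  rw [ent_mul hp (rad_le JL hw.1), ent_rad two hw.1, add_zero, phiL_up,
    ent_xg two (by decide +kernel) (by decide +kernel), if_pos (show d4p2 = 14 from rfl), hy]

include hf hK in
theorem normV_phi2 (A : SL(2, ZMod 2)) {v : GL chevD4.Idx K} (hv : v ∈ VJ 2 JL) :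
    phi2 two A * v * (phi2 two A)⁻¹ ∈ VJ 2 JL := by
  refine normV_of (fun u hu => ?_) hv
  rw [n0_phi2 hf two]
  exact Subgroup.mem_inf.2 ⟨levi_norm (phi2_levi two _) hu.1,
    mul_mem (mul_mem (phi2_mem hf two _) hu.2) (inv_mem (phi2_mem hf two _))⟩

include hf hK in
theorem ready_of_form {g : GL chevD4.Idx K} {b : Kˣ} (hb : Allowed γ b) {k v u : GL chevD4.Idx K}
    (hk : k ∈ twistedD4 K 2) (hv : v ∈ VV 2) (hu : u ∈ UU 2) (e : k * g * k⁻¹ = v * hT b * u)
    (hpar : ent ((n0 K)⁻¹ * v * n0 K) = ent u) : Ready two γ g := by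
  obtain ⟨w, hw, rfl⟩ := mem_VV.1 hv
  rw [show (n0 K)⁻¹ * (n0 K * w * (n0 K)⁻¹) * n0 K = w by group] at hpar
  obtain ⟨c, w', hw', rfl, hc⟩ := split2 hf hK two hw
  obtain ⟨d, u', hu', rfl, hd⟩ := split2 hf hK two hu
  rw [hc, hd] at hpar
  obtain rfl := iota_inj two hpar
  have hlo : n0 K * phi2 two (up c) * (n0 K)⁻¹ = phi2 two (lo c) := by
    have h := n0_phi2 hf two (lo c)
    rw [Tm_lo] at h
    rw [← h]; group
  have hv' : phi2 two (lo c) * (n0 K * w' * (n0 K)⁻¹) * (phi2 two (lo c))⁻¹ ∈ VJ 2 JL :=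
    normV_phi2 hf hK two _ (mem_VJ.2 ⟨w', hw', rfl⟩)
  have hZ : (lo c * up c : SL(2, ZMod 2)) = 1 ∨ (lo c * up c : SL(2, ZMod 2)) = M :=
    (by decide +kernel : ∀ x : ZMod 2, (lo x * up x : SL(2, ZMod 2)) = 1 ∨ (lo x * up x : SL(2, ZMod 2)) = M) c
  refine ⟨lo c * up c, b, hZ, hb, k, hk, _, hv', u', hu', ?_⟩
  rw [e, map_mul, ← hlo]
  calc n0 K * (phi2 two (up c) * w') * (n0 K)⁻¹ * hT b * (phi2 two (up c) * u')
      = n0 K * (phi2 two (up c) * w') * (n0 K)⁻¹ * (hT b * phi2 two (up c)) * u' := by group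
    _ = _ := by rw [(hT_comm hf hK two b (up c)).eq]; group

include hf in
theorem ent_up (e : K) : ent (phiS f (up e)) = 0 := by
  have two := two_zero hf
  have hm : ∀ r, r ∈ [18, 13, 12] → ∀ t : K, xg c4 r t ∈ chevD4.posUnipotent K ∧ ent (xg c4 r t) = 0 := by
    intro r hr t
    simp only [List.mem_cons, List.not_mem_nil, or_false] at hr
    rcases hr with rfl | rfl | rfl <;>
      exact ⟨xg_mem_U c4 (by decide +kernel) (by decide +kernel) _,
        by rw [ent_xg two (by decide +kernel) (by decide +kernel), if_neg (by norm_num)]⟩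
  rw [phiS_up hf, tri, show d4p1 = 18 from rfl, show d4p3 = 13 from rfl, show d4p4 = 12 from rfl,
    ent_mul (mul_mem (hm _ (by simp) _).1 (hm _ (by simp) _).1) (hm _ (by simp) _).1,
    ent_mul (hm _ (by simp) _).1 (hm _ (by simp) _).1, (hm _ (by simp) _).2, (hm _ (by simp) _).2, (hm _ (by simp) _).2]
  ring

include hf hK in
/-- success at the short node -/
theorem success {g w u : GL chevD4.Idx K} {Z : SL(2, K)} (hw : w ∈ UJ 2 JS) (hu : u ∈ UJ 2 JS)
    (e : g = n0 K * w * (n0 K)⁻¹ * phiS f Z * u) (A : SL(2, K)) {b : Kˣ} (hb : Allowed γ b)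
    (h00 : (A * Z * A⁻¹ : SL(2, K)) 0 0 = (b : K)) (hpar : gfun f (Tm A) w = gfun f A u) : Ready two γ g := by
  obtain ⟨c, d, hcd⟩ := ldu (A * Z * A⁻¹) b h00
  have hnT : n0 K * phiS f (Tm A) * (n0 K)⁻¹ = phiS f A := by
    have h := n0_phiS hf (Tm A)
    rw [← n0_phiS hf A]; group
  have hnU : n0 K * phiS f (up c) * (n0 K)⁻¹ = phiS f (lo c) := by
    have h := n0_phiS hf (lo c)
    rw [Tm_lo] at h
    rw [← h]; group
  have hw' := normU_S hf (Tm A) hw
  have hu' := normU_S hf A hu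
  have hupU : ∀ x : K, phiS f (up x) ∈ UU 2 := fun x => (nodeS hf hK).up_mem x
  have ew : ent (phiS f (Tm A) * w * (phiS f (Tm A))⁻¹ * phiS f (up c)) = gfun f (Tm A) w := by
    rw [ent_mul (UJ_le JS hw').1 (hupU c).1, ent_up hf, add_zero, gfun]
  have eu : ent (phiS f (up d) * (phiS f A * u * (phiS f A)⁻¹)) = gfun f A u := by
    rw [ent_mul (hupU d).1 (UJ_le JS hu').1, ent_up hf, zero_add, gfun]
  refine ready_of_form hf hK two γ hb (phiS_mem hf A)
    (v := n0 K * (phiS f (Tm A) * w * (phiS f (Tm A))⁻¹ * phiS f (up c)) * (n0 K)⁻¹)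
    (mem_VV.2 ⟨_, mul_mem (UJ_le JS hw') (hupU c), rfl⟩) (u := phiS f (up d) * (phiS f A * u * (phiS f A)⁻¹))
    (mul_mem (hupU d) (UJ_le JS hu')) ?_ ?_
  · have hb' : hT b = phiS f (dia b) := (phiS_dia hf b).symm
    rw [e, hb', ← hnT]
    calc n0 K * phiS f (Tm A) * (n0 K)⁻¹ * (n0 K * w * (n0 K)⁻¹ * phiS f Z * u) *
          (n0 K * phiS f (Tm A) * (n0 K)⁻¹)⁻¹
        = n0 K * (phiS f (Tm A) * w * (phiS f (Tm A))⁻¹) * (n0 K)⁻¹ *
            ((n0 K * phiS f (Tm A) * (n0 K)⁻¹) * phiS f Z * (n0 K * phiS f (Tm A) * (n0 K)⁻¹)⁻¹) *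
            ((n0 K * phiS f (Tm A) * (n0 K)⁻¹) * u * (n0 K * phiS f (Tm A) * (n0 K)⁻¹)⁻¹) := by group
      _ = n0 K * (phiS f (Tm A) * w * (phiS f (Tm A))⁻¹) * (n0 K)⁻¹ *
            (phiS f A * phiS f Z * (phiS f A)⁻¹) * (phiS f A * u * (phiS f A)⁻¹) := by rw [hnT]
      _ = n0 K * (phiS f (Tm A) * w * (phiS f (Tm A))⁻¹) * (n0 K)⁻¹ *
            (phiS f (lo c) * phiS f (dia b) * phiS f (up d)) * (phiS f A * u * (phiS f A)⁻¹) := by
          simp only [← map_inv, ← map_mul, hcd]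
      _ = _ := by rw [← hnU, hnT]; group
  · rw [show (n0 K)⁻¹ * (n0 K * (phiS f (Tm A) * w * (phiS f (Tm A))⁻¹ * phiS f (up c)) * (n0 K)⁻¹) * n0 K =
      phiS f (Tm A) * w * (phiS f (Tm A))⁻¹ * phiS f (up c) by group, ew, eu, hpar]

include hf hK in
/-- moving the middle by conjugation -/
theorem normalise {g w u : GL chevD4.Idx K} {Z : SL(2, K)} (hw : w ∈ UJ 2 JS) (hu : u ∈ UJ 2 JS)
    (e : g = n0 K * w * (n0 K)⁻¹ * phiS f Z * u) (A : SL(2, K)) :
    ∃ w' ∈ UJ 2 JS, ∃ u' ∈ UJ 2 JS,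
      phiS f A * g * (phiS f A)⁻¹ = n0 K * w' * (n0 K)⁻¹ * phiS f (A * Z * A⁻¹) * u' := by
  refine ⟨_, normU_S hf (Tm A) hw, _, normU_S hf A hu, ?_⟩
  rw [map_mul, map_mul, map_inv, e]
  have hnT : n0 K * phiS f (Tm A) * (n0 K)⁻¹ = phiS f A := by
    rw [← n0_phiS hf A]; group
  rw [← hnT]; group

include hf hK in
theorem gfun_01 (A : SL(2, K)) {u : GL chevD4.Idx K} (hu : u ∈ UJ 2 JS) : gfun f A u = 0 ∨ gfun f A u = 1 :=
  ent_01 hf hK (UJ_le JS (normU_S hf A hu))

include hK two in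
theorem sum_pow (m : ℕ) (hm : m ≤ 13) : ∑ s : K, s ^ m = if m = 7 then 1 else 0 := by
  classical
  have h7 : ∑ s : K, s ^ 7 = 1 := by
    have e : ∀ s : K, s ^ 7 = if s = 0 then 0 else 1 := fun s => by
      split
      · simp [*]
      · have := FiniteField.pow_card_sub_one_eq_one s ‹_›
        rwa [hK] at this
    rw [← Finset.add_sum_erase _ _ (Finset.mem_univ (0 : K)), zero_pow (by norm_num : (7 : ℕ) ≠ 0), zero_add,
      Finset.sum_congr rfl (fun s hs => (e s).trans (if_neg (Finset.ne_of_mem_erase hs))), Finset.sum_const,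
      Finset.card_erase_of_mem (Finset.mem_univ _), Finset.card_univ, hK, nsmul_one]
    norm_num
    linear_combination 3 * two
  have hlt : ∀ i < 7, ∑ s : K, s ^ i = 0 := fun i hi => FiniteField.sum_pow_lt_card_sub_one K i (by rw [hK]; omega)
  by_cases h : m = 7
  · rw [if_pos h, h, h7]
  rw [if_neg h]
  rcases lt_or_ge m 7 with h' | h'
  · exact hlt m h'
  · rw [← hlt (m - 7) (by omega)]
    refine Finset.sum_congr rfl fun s _ => ?_
    have h8 : s ^ 8 = s := by
      have := FiniteField.pow_card s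
      rwa [hK] at this
    calc s ^ m = s ^ 8 * s ^ (m - 8) := by rw [← pow_add]; congr 1; omega
      _ = s ^ (m - 7) := by rw [h8, ← pow_succ']; congr 1; omega

include hK two in
theorem sum_G_pow (u : GL chevD4.Idx K) (j : ℕ) (hj : j ≤ 6) :
    ∑ s : K, s ^ j * G u s = (if j = 7 then 1 else 0) * co 0 u + (if j + 4 = 7 then 1 else 0) * co 1 u +
      (if j + 2 = 7 then 1 else 0) * co 2 u + (if j + 6 = 7 then 1 else 0) * co 3 u +
      (if j + 1 = 7 then 1 else 0) * co 4 u + (if j + 5 = 7 then 1 else 0) * co 5 u +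
      (if j + 3 = 7 then 1 else 0) * co 6 u + (if j + 7 = 7 then 1 else 0) * co 7 u := by
  have e : ∀ s : K, s ^ j * G u s = s ^ j * co 0 u + s ^ (j + 4) * co 1 u + s ^ (j + 2) * co 2 u +
      s ^ (j + 6) * co 3 u + s ^ (j + 1) * co 4 u + s ^ (j + 5) * co 5 u + s ^ (j + 3) * co 6 u +
      s ^ (j + 7) * co 7 u := fun s => by simp only [G, pow_add]; ring
  simp only [e, Finset.sum_add_distrib, ← Finset.sum_mul]
  rw [sum_pow hK two j (by omega), sum_pow hK two (j + 4) (by omega), sum_pow hK two (j + 2) (by omega),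
    sum_pow hK two (j + 6) (by omega), sum_pow hK two (j + 1) (by omega), sum_pow hK two (j + 5) (by omega),
    sum_pow hK two (j + 3) (by omega), sum_pow hK two (j + 7) (by omega)]

include hK two in
theorem sum_G (u : GL chevD4.Idx K) : ∑ s : K, G u s = co 7 u := by
  have := sum_G_pow hK two u 0 (by norm_num)
  simpa using this

include hK two in
theorem const_coeff (u : GL chevD4.Idx K) (c : K) (h : ∀ s : K, s ≠ 0 → G u s = c) :
    ∀ i : Fin 8, i ≠ 0 → i ≠ 7 → co i u = 0 := by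
  have key : ∀ j, 1 ≤ j → j ≤ 6 → ∑ s : K, s ^ j * G u s = 0 := by
    intro j h1 h2
    have e : ∀ s : K, s ^ j * G u s = s ^ j * c := fun s => by
      by_cases hs : s = 0
      · rw [hs, zero_pow (by omega), zero_mul, zero_mul]
      · rw [h s hs]
    simp only [e, ← Finset.sum_mul, sum_pow hK two j (by omega), if_neg (show j ≠ 7 by omega), zero_mul]
  intro i h0 h7
  fin_cases i
  · exact absurd rfl h0
  · have := key 3 (by norm_num) (by norm_num); rw [sum_G_pow hK two u 3 (by norm_num)] at this; simpa using this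
  · have := key 5 (by norm_num) (by norm_num); rw [sum_G_pow hK two u 5 (by norm_num)] at this; simpa using this
  · have := key 1 (by norm_num) (by norm_num); rw [sum_G_pow hK two u 1 (by norm_num)] at this; simpa using this
  · have := key 6 (by norm_num) (by norm_num); rw [sum_G_pow hK two u 6 (by norm_num)] at this; simpa using this
  · have := key 2 (by norm_num) (by norm_num); rw [sum_G_pow hK two u 2 (by norm_num)] at this; simpa using this
  · have := key 4 (by norm_num) (by norm_num); rw [sum_G_pow hK two u 4 (by norm_num)] at this; simpa using this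
  · exact absurd rfl h7

include two in
theorem add_of_ne {a b : K} (ha : a = 0 ∨ a = 1) (hb : b = 0 ∨ b = 1) (h : a ≠ b) : a + b = 1 := by
  rcases ha with rfl | rfl <;> rcases hb with rfl | rfl <;> simp_all

include hf hK in
theorem row_wel {u : GL chevD4.Idx K} (hu : u ∈ UJ 2 JS) {A : SL(2, K)} (h : A 1 1 = 0) : gfun f A u = co 7 u := by
  rw [gfun_eq hf hK A hu.1, if_pos h]

include hf hK in
theorem row_fin {u : GL chevD4.Idx K} (hu : u ∈ UJ 2 JS) {A : SL(2, K)} (h : A 1 1 ≠ 0) :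
    gfun f A u = G u (A 1 0 / A 1 1) := by
  rw [gfun_eq hf hK A hu.1, if_neg h]

/-- no further conjugate succeeds -/
def Fail (f : K →+* K) (w u : GL chevD4.Idx K) (Z : SL(2, K)) : Prop :=
  ∀ (A : SL(2, K)) (b : Kˣ), Allowed γ b → (A * Z * A⁻¹ : SL(2, K)) 0 0 = (b : K) →
    gfun f (Tm A) w + gfun f A u = 1

include hf hK in
theorem fail_of_not_ready {g w u : GL chevD4.Idx K} {Z : SL(2, K)} (hw : w ∈ UJ 2 JS) (hu : u ∈ UJ 2 JS)
    (e : g = n0 K * w * (n0 K)⁻¹ * phiS f Z * u) (hno : ¬ Ready two γ g) : Fail γ f w u Z :=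
  fun A _ hb h00 => add_of_ne two (gfun_01 hf hK _ hw) (gfun_01 hf hK _ hu)
    fun h => hno (success hf hK two γ hw hu e A hb h00 h)

theorem c00 (A Z : SL(2, K)) : (A * Z * A⁻¹ : SL(2, K)) 0 0 =
    (A 0 0 * Z 0 0 + A 0 1 * Z 1 0) * A 1 1 - (A 0 0 * Z 0 1 + A 0 1 * Z 1 1) * A 1 0 := by
  simp [Matrix.mul_apply, Fin.sum_univ_two, Matrix.adjugate_fin_two]; ring

theorem c01 (A Z : SL(2, K)) : (A * Z * A⁻¹ : SL(2, K)) 0 1 =
    (A 0 0 * Z 0 1 + A 0 1 * Z 1 1) * A 0 0 - (A 0 0 * Z 0 0 + A 0 1 * Z 1 0) * A 0 1 := by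
  simp [Matrix.mul_apply, Fin.sum_univ_two, Matrix.adjugate_fin_two]; ring

theorem c10 (A Z : SL(2, K)) : (A * Z * A⁻¹ : SL(2, K)) 1 0 =
    (A 1 0 * Z 0 0 + A 1 1 * Z 1 0) * A 1 1 - (A 1 0 * Z 0 1 + A 1 1 * Z 1 1) * A 1 0 := by
  simp [Matrix.mul_apply, Fin.sum_univ_two, Matrix.adjugate_fin_two]; ring

theorem c11 (A Z : SL(2, K)) : (A * Z * A⁻¹ : SL(2, K)) 1 1 =
    (A 1 0 * Z 0 1 + A 1 1 * Z 1 1) * A 0 0 - (A 1 0 * Z 0 0 + A 1 1 * Z 1 0) * A 0 1 := by
  simp [Matrix.mul_apply, Fin.sum_univ_two, Matrix.adjugate_fin_two]; ring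

theorem up_mul_inv (r : K) : (up r : SL(2, K))⁻¹ = up (-r) :=
  inv_eq_of_mul_eq_one_right (by rw [up_add, add_neg_cancel, up_zero])

include hf hK two in
theorem case_one {w u : GL chevD4.Idx K} (hw : w ∈ UJ 2 JS) (hu : u ∈ UJ 2 JS) : ¬ Fail γ f w u 1 := by
  intro hfail
  have h : ∀ A : SL(2, K), gfun f (Tm A) w + gfun f A u = 1 := fun A =>
    hfail A 1 (Or.inl rfl) (by simp)
  have h1 : ∀ r : K, G w r + G u 0 = 1 := fun r => by
    have := h (up r)
    rw [row_fin hf hK hu (by simp), Tm_up, row_fin hf hK hw (by simp)] at this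
    simpa using this
  have h2 : ∀ s : K, G w 0 + G u s = 1 := fun s => by
    have := h (lo s)
    rw [row_fin hf hK hu (by simp), Tm_lo, row_fin hf hK hw (by simp)] at this
    simpa using this
  have hc : ∀ (x : GL chevD4.Idx K) (c : K), (∀ r, G x r = c) → co 7 x = 0 := fun x c hx => by
    rw [← sum_G hK two x]
    simp only [hx, Finset.sum_const, Finset.card_univ, hK, nsmul_eq_mul]
    push_cast
    linear_combination (4 * c) * two
  have hw7 := hc w (1 - G u 0) fun r => eq_sub_of_add_eq (h1 r)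
  have hu7 := hc u (1 - G w 0) fun s => eq_sub_of_add_eq' (h2 s)
  obtain ⟨W, hW⟩ : ∃ W : SL(2, K), (W : Matrix (Fin 2) (Fin 2) K) = !![0, 1; 1, 0] :=
    ⟨⟨!![0, 1; 1, 0], by rw [Matrix.det_fin_two_of]; linear_combination -two⟩, rfl⟩
  have h3 := h W
  rw [row_wel hf hK hu (by simp [hW]), row_wel hf hK hw (by simp [coe_Tm, hW]), hw7, hu7, add_zero] at h3
  exact zero_ne_one h3

theorem allowed_inv {b : Kˣ} (h : Allowed γ b) : Allowed γ b⁻¹ := by
  rcases h with rfl | rfl | rfl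
  · exact Or.inl inv_one
  · exact Or.inr (Or.inr rfl)
  · exact Or.inr (Or.inl (inv_inv _))

include hK in
theorem allowed_other (hγ : γ ≠ 1) (b : Kˣ) : ∃ c, Allowed γ c ∧ c ≠ b := by
  by_cases h : b = 1
  · refine ⟨γ * γ, Or.inr (Or.inl rfl), fun e => ?_⟩
    rw [h, ← pow_two] at e
    exact pow_ne_one_of_lt_orderOf (by norm_num) (by rw [order_seven hK hγ]; norm_num) e
  · exact ⟨1, Or.inl rfl, fun e => h e.symm⟩

include hf hK two in
theorem case_eigen (hγ : γ ≠ 1) {w u : GL chevD4.Idx K} (hw : w ∈ UJ 2 JS) (hu : u ∈ UJ 2 JS) {Z : SL(2, K)}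
    {t : Kˣ} (ht : Allowed γ t) (h00 : Z 0 0 = (t : K)) (h10 : Z 1 0 = 0) (hx : Z 0 1 ≠ 0) :
    ¬ Fail γ f w u Z := by
  intro hfail
  have hd := Z.2
  rw [Matrix.det_fin_two, h00, h10, mul_zero, sub_zero] at hd
  have h11 : Z 1 1 = ((t⁻¹ : Kˣ) : K) := by
    rw [Units.val_inv_eq_inv_val]; exact eq_inv_of_mul_eq_one_right hd
  have h1 : ∀ r : K, G w r + G u 0 = 1 := fun r => by
    have := hfail (up r) t ht (by rw [c00]; simp [h00, h10])
    rw [row_fin hf hK hu (by simp), Tm_up, row_fin hf hK hw (by simp)] at this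
    simpa using this
  have hw7 : co 7 w = 0 := by
    rw [← sum_G hK two w]
    simp only [fun r => eq_sub_of_add_eq (h1 r), Finset.sum_const, Finset.card_univ, hK, nsmul_eq_mul]
    push_cast
    linear_combination (4 * (1 - G u 0)) * two
  obtain ⟨A0, hA0⟩ : ∃ A0 : K → SL(2, K), ∀ d : K, (A0 d : Matrix (Fin 2) (Fin 2) K) = !![0, 1; 1, d] :=
    ⟨fun d => ⟨!![0, 1; 1, d], by rw [Matrix.det_fin_two_of]; linear_combination -two⟩, fun _ => rfl⟩
  have hA00 : ∀ d : K, (A0 d * Z * (A0 d)⁻¹ : SL(2, K)) 0 0 = ((t⁻¹ : Kˣ) : K) := fun d => by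
    rw [c00]
    simp [hA0, h10, h11]
    linear_combination -(((t : K))⁻¹) * two
  have hu7 : co 7 u = 1 := by
    have := hfail (A0 0) t⁻¹ (allowed_inv γ ht) (hA00 0)
    rw [row_wel hf hK hu (by simp [hA0]), row_wel hf hK hw (by simp [coe_Tm, hA0]), hw7, zero_add] at this
    exact this
  have h2 : ∀ s : K, s ≠ 0 → G u s = 1 := fun s hs => by
    have := hfail (A0 s⁻¹) t⁻¹ (allowed_inv γ ht) (hA00 s⁻¹)
    rw [row_fin hf hK hu (by simp [hA0, hs]), row_wel hf hK hw (by simp [coe_Tm, hA0]), hw7, zero_add] at this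
    simpa [hA0] using this
  have hu0 : G u 0 = 0 := by
    classical
    have h := sum_G hK two u
    rw [← Finset.add_sum_erase _ _ (Finset.mem_univ (0 : K)), Finset.sum_congr rfl
      (fun s hs => h2 s (Finset.ne_of_mem_erase hs)), Finset.sum_const, Finset.card_erase_of_mem (Finset.mem_univ _),
      Finset.card_univ, hK, hu7, nsmul_one] at h
    norm_num at h
    linear_combination h - 3 * two
  obtain ⟨c, hc, hne⟩ := allowed_other hK γ hγ t
  have hs : ((c : K) - t) / Z 0 1 ≠ 0 := div_ne_zero (sub_ne_zero.2 fun e => hne (Units.ext e)) hx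
  have := hfail (lo (-(((c : K) - t) / Z 0 1))) c hc (by
    rw [c00]
    simp [h00, h10]
    field_simp
    ring)
  rw [row_fin hf hK hu (by simp), Tm_lo, row_fin hf hK hw (by simp)] at this
  simp only [coe_up, coe_lo] at this
  simp at this
  rw [h2 _ (neg_ne_zero.2 hs)] at this
  have h0 := h1 0
  rw [hu0, add_zero] at h0
  rw [h0] at this
  exact zero_ne_one (α := K) (by linear_combination this - two)

include hf hK two in
theorem case_diag (hγ : γ ≠ 1) {w u : GL chevD4.Idx K} (hw : w ∈ UJ 2 JS) (hu : u ∈ UJ 2 JS) {m : Kˣ}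
    (hm : ¬ Allowed γ m) (hfail : Fail γ f w u (dia m)) :
    (∀ i : Fin 8, i ≠ 0 → i ≠ 7 → co i w = 0) ∧ (∀ i : Fin 8, i ≠ 0 → i ≠ 7 → co i u = 0) := by
  classical
  have hm1 : m ≠ 1 := fun h => hm (Or.inl h)
  have hmm : (m : K) - (m : K)⁻¹ ≠ 0 := by
    intro h
    refine pow_ne_one_of_lt_orderOf (x := m) (n := 2) (by norm_num) (by rw [order_seven hK hm1]; norm_num) ?_
    apply Units.ext
    rw [Units.val_pow_eq_pow_val, Units.val_one, pow_two]
    field_simp at h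
    linear_combination h
  obtain ⟨κ, hκ⟩ : ∃ κ : Kˣ → K, ∀ c, κ c = ((c : K) - m) / ((c : K) - (m : K)⁻¹) := ⟨_, fun _ => rfl⟩
  have hne : ∀ c, Allowed γ c → (c : K) - m ≠ 0 ∧ (c : K) - (m : K)⁻¹ ≠ 0 := by
    intro c hc
    refine ⟨sub_ne_zero.2 fun e => hm (Units.ext e ▸ hc), sub_ne_zero.2 fun e => hm ?_⟩
    have : c = m⁻¹ := Units.ext (by rw [e, Units.val_inv_eq_inv_val])
    rw [this] at hc
    simpa using allowed_inv γ hc
  have heq : ∀ c, Allowed γ c → ∀ l : K, l ≠ 0 → G w l + G u (κ c / l) = 1 := by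
    intro c hc l hl
    obtain ⟨n1, n2⟩ := hne c hc
    obtain ⟨ρ, hρ⟩ : ∃ ρ : K, ρ = ((c : K) - m) / ((m : K) - (m : K)⁻¹) := ⟨_, rfl⟩
    have hρ1 : 1 + ρ = ((c : K) - (m : K)⁻¹) / ((m : K) - (m : K)⁻¹) := by
      rw [hρ, add_div' _ _ _ hmm]; congr 1; ring
    have hρne : 1 + ρ ≠ 0 := hρ1 ▸ div_ne_zero n2 hmm
    obtain ⟨r, hr⟩ : ∃ r : K, r = (1 + ρ) * l := ⟨_, rfl⟩
    obtain ⟨s, hs⟩ : ∃ s : K, s = ρ / r := ⟨_, rfl⟩
    have hr0 : r ≠ 0 := hr ▸ mul_ne_zero hρne hl
    have hrs : r * s = ρ := by rw [hs]; field_simp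
    have := hfail (up r * lo s) c hc (by
      have e : ((up r * lo s * dia m * (up r * lo s)⁻¹ : SL(2, K)) : Matrix (Fin 2) (Fin 2) K) 0 0 =
          (1 + r * s) * m - r * s * (m : K)⁻¹ := by
        rw [c00]
        simp [Matrix.mul_apply, Fin.sum_univ_two]
        ring
      rw [e, hrs]
      have h := div_mul_cancel₀ ((c : K) - m) hmm
      rw [← hρ] at h
      linear_combination h)
    rw [row_fin hf hK hu (by simp [Matrix.mul_apply, Fin.sum_univ_two]),
      row_fin hf hK hw (by simp [coe_Tm, Matrix.mul_apply, Fin.sum_univ_two, hrs]; simpa [add_comm] using hρne)] at this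
    simp [coe_Tm, Matrix.mul_apply, Fin.sum_univ_two, hrs] at this
    rw [add_comm ρ 1, hr, mul_div_cancel_left₀ l hρne, hs, hr, show ρ / ((1 + ρ) * l) = κ c / l by
      rw [← div_div, hκ, hρ1, hρ, div_div_div_cancel_right₀ hmm]] at this
    exact this
  have hg2 : γ * γ ≠ 1 := by
    rw [← pow_two]; exact pow_ne_one_of_lt_orderOf (by norm_num) (by rw [order_seven hK hγ]; norm_num)
  obtain ⟨n1, n2⟩ := hne 1 (Or.inl rfl)
  obtain ⟨n3, n4⟩ := hne (γ * γ) (Or.inr (Or.inl rfl))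
  have hk1 : κ 1 ≠ 0 := by rw [hκ]; exact div_ne_zero n1 n2
  have hk2 : κ (γ * γ) ≠ 0 := by rw [hκ]; exact div_ne_zero n3 n4
  let q : Kˣ := Units.mk0 (κ (γ * γ) / κ 1) (div_ne_zero hk2 hk1)
  have hq : q ≠ 1 := by
    intro h
    have h' : κ (γ * γ) = κ 1 := by
      have := congrArg Units.val h
      simp only [q, Units.val_mk0, Units.val_one] at this
      rwa [div_eq_one_iff_eq hk1] at this
    rw [hκ, hκ] at h'
    rw [Units.val_one] at h'
    rw [div_eq_div_iff n4 (by simpa using n2)] at h'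
    have h2 : (((γ * γ : Kˣ) : K) - 1) * ((m : K) - (m : K)⁻¹) = 0 := by linear_combination h'
    rcases mul_eq_zero.1 h2 with h3 | h3
    · exact hg2 (Units.ext (by simpa using sub_eq_zero.1 h3))
    · exact hmm h3
  have hper : ∀ l : Kˣ, G w ((l * q : Kˣ) : K) = G w (l : K) := by
    intro l
    have e1 := heq 1 (Or.inl rfl) (l : K) l.ne_zero
    have e2 := heq (γ * γ) (Or.inr (Or.inl rfl)) ((l * q : Kˣ) : K) (Units.ne_zero _)
    rw [show κ (γ * γ) / ((l * q : Kˣ) : K) = κ 1 / (l : K) by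
      simp [q]; field_simp] at e2
    linear_combination e2 - e1
  have hall : ∀ l : Kˣ, G w (l : K) = G w 1 := by
    intro l
    have hgen : ∀ n : ℕ, G w ((q ^ n : Kˣ) : K) = G w 1 := by
      intro n
      induction n with
      | zero => simp
      | succ n ih => rw [pow_succ, hper, ih]
    have : l ∈ Submonoid.powers q := by
      rw [← mem_powers_iff_mem_zpowers.symm]
      haveI : Fact (Nat.Prime 7) := ⟨by norm_num⟩
      exact mem_zpowers_of_prime_card (p := 7) (by rw [Nat.card_units, Nat.card_eq_fintype_card, hK]; norm_num) hq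
    obtain ⟨n, rfl⟩ := (Submonoid.mem_powers_iff _ _).1 this
    exact hgen n
  refine ⟨const_coeff hK two w (G w 1) (fun s hs => hall (Units.mk0 s hs)),
    const_coeff hK two u (1 - G w 1) (fun s hs => ?_)⟩
  have := heq 1 (Or.inl rfl) (κ 1 / s) (div_ne_zero hk1 hs)
  rw [div_div_cancel₀ hk1] at this
  have h2 := hall (Units.mk0 _ (div_ne_zero hk1 hs))
  rw [Units.val_mk0] at h2
  linear_combination this - h2

include hf hK two in
theorem case_elliptic {w u : GL chevD4.Idx K} (hw : w ∈ UJ 2 JS) (hu : u ∈ UJ 2 JS) {Z : SL(2, K)}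
    (h00 : Z 0 0 = 1) (hroot : ∀ m : K, m * m + (Z 0 0 + Z 1 1) * m + 1 ≠ 0) : ¬ Fail γ f w u Z := by
  classical
  intro hfail
  have hd := Z.2
  rw [Matrix.det_fin_two, h00, one_mul] at hd
  obtain ⟨x, hx⟩ : ∃ x, x = Z 0 1 := ⟨_, rfl⟩
  obtain ⟨y, hy⟩ : ∃ y, y = Z 1 0 := ⟨_, rfl⟩
  obtain ⟨d, hdd⟩ : ∃ d, d = Z 1 1 := ⟨_, rfl⟩
  rw [← hdd, h00] at hroot
  rw [← hx, ← hy, ← hdd] at hd
  have hT0 : d + 1 ≠ 0 := by
    intro h
    exact hroot 1 (by linear_combination h + two - h * 0)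
  have hy0 : y ≠ 0 := by
    intro h
    exact hroot 1 (by rw [h, mul_zero, sub_zero] at hd; linear_combination 2 * two + hd)
  have hx0 : x ≠ 0 := by
    intro h
    exact hroot 1 (by rw [h, zero_mul, sub_zero] at hd; linear_combination 2 * two + hd)
  have hquad : ∀ r : K, x + r * (d + 1) + r * r * y ≠ 0 := by
    intro r h
    apply hroot (1 + r * y)
    linear_combination y * h + hd + (2 + r * y) * two
  have key : ∀ (A : SL(2, K)), A 1 0 * 1 = A 1 0 → (A * Z * A⁻¹ : SL(2, K)) 0 0 = 1 →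
      gfun f (Tm A) w + gfun f A u = 1 := fun A _ h => hfail A 1 (Or.inl rfl) (by rw [h]; simp)
  -- the finite rows
  obtain ⟨σ, hσ⟩ : ∃ σ : K → K, ∀ r, σ r = if x + r * (d + 1) = 0 then y / (d + 1) else r * y / (x + r * (d + 1)) :=
    ⟨_, fun _ => rfl⟩
  have hfin : ∀ r : K, G w r + (if x + r * (d + 1) = 0 then co 7 u else G u (σ r)) = 1 := by
    intro r
    obtain ⟨L, hL⟩ : ∃ L : K, L = (x + r * (d + 1) + r * r * y)⁻¹ := ⟨_, rfl⟩
    have hLm : L * (x + r * (d + 1) + r * r * y) = 1 := by rw [hL]; exact inv_mul_cancel₀ (hquad r)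
    let A : SL(2, K) := ⟨!![1, r; L * (r * y), L * (x + r * (d + 1))], by
      rw [Matrix.det_fin_two_of]; linear_combination hLm - L * r * r * y * two⟩
    have hA : (A : Matrix (Fin 2) (Fin 2) K) = !![1, r; L * (r * y), L * (x + r * (d + 1))] := rfl
    have h := key A (mul_one _) (by
      rw [c00]
      simp [hA, h00, ← hx, ← hy, ← hdd]
      linear_combination hLm)
    have hL0 : L ≠ 0 := left_ne_zero_of_mul_eq_one hLm
    rw [row_fin hf hK hw (A := Tm A) (by simp [coe_Tm, hA])] at h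
    simp only [coe_Tm, hA] at h
    simp at h
    by_cases hp : x + r * (d + 1) = 0
    · rw [row_wel hf hK hu (by simp [hA, hp])] at h
      rw [if_pos hp]; exact h
    · rw [row_fin hf hK hu (by simp [hA, hp, hL0])] at h
      rw [if_neg hp, hσ, if_neg hp]
      simp [hA] at h
      rwa [mul_div_mul_left _ _ hL0] at h
  have hinf : co 7 w + G u (y / (d + 1)) = 1 := by
    let A : SL(2, K) := ⟨!![0, 1; 1, (d + 1) / y], by rw [Matrix.det_fin_two_of]; linear_combination -two⟩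
    have hA : (A : Matrix (Fin 2) (Fin 2) K) = !![0, 1; 1, (d + 1) / y] := rfl
    have h := key A (mul_one _) (by
      rw [c00]
      simp [hA, h00, ← hx, ← hy, ← hdd]
      field_simp
      ring)
    rw [row_wel hf hK hw (A := Tm A) (by simp [coe_Tm, hA]),
      row_fin hf hK hu (by simp [hA, hy0, hT0])] at h
    simp [hA] at h
    convert h using 2
  have hinj : Function.Injective σ := by
    intro a b h
    rw [hσ, hσ] at h
    by_cases ha : x + a * (d + 1) = 0 <;> by_cases hb : x + b * (d + 1) = 0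
    · exact mul_right_cancel₀ hT0 (by linear_combination ha - hb)
    · rw [if_pos ha, if_neg hb, div_eq_div_iff hT0 hb] at h
      exact absurd (mul_left_cancel₀ hy0 (show y * x = y * 0 by linear_combination h)) hx0
    · rw [if_neg ha, if_pos hb, div_eq_div_iff ha hT0] at h
      exact absurd (mul_left_cancel₀ hy0 (show y * x = y * 0 by linear_combination -h)) hx0
    · rw [if_neg ha, if_neg hb, div_eq_div_iff ha hb] at h
      exact mul_right_cancel₀ (mul_ne_zero hy0 hx0) (by linear_combination h)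
  have hsum : ∑ r : K, G u (σ r) = co 7 u := by
    rw [(Finite.injective_iff_bijective.1 hinj).sum_comp (G u), sum_G hK two]
  obtain ⟨r0, hr0⟩ : ∃ r0, r0 = -x / (d + 1) := ⟨_, rfl⟩
  have hp0 : x + r0 * (d + 1) = 0 := by rw [hr0]; field_simp; ring
  have hall : ∑ r : K, (G w r + G u (σ r)) = co 7 w + co 7 u := by
    rw [Finset.sum_add_distrib, hsum, sum_G hK two]
  rw [← Finset.add_sum_erase _ _ (Finset.mem_univ r0)] at hall
  have hrest : ∀ r ∈ Finset.univ.erase r0, G w r + G u (σ r) = 1 := by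
    intro r hr
    have h := hfin r
    rwa [if_neg fun hp => Finset.ne_of_mem_erase hr (mul_right_cancel₀ hT0 (by linear_combination hp - hp0))] at h
  rw [Finset.sum_congr rfl hrest, Finset.sum_const, Finset.card_erase_of_mem (Finset.mem_univ _), Finset.card_univ,
    hK, nsmul_one, show σ r0 = y / (d + 1) by rw [hσ, if_pos hp0]] at hall
  have h0 := hfin r0
  rw [if_pos hp0] at h0
  norm_num at hall
  exact one_ne_zero (α := K) (by linear_combination hall - h0 - hinf + (co 7 w + co 7 u - 4) * two)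

theorem long_check : ∀ (c e a1 a0 b1 b0 : ZMod 2),
    ((a1 = 0 ∧ a0 = 0 ∧ b1 = 0 ∧ b0 = 0) ∧ ∃ A : SL(2, ZMod 2), A * (lo c * up e) = up 1 * A) ∨
    ∃ (A : SL(2, ZMod 2)) (c' e' : ZMod 2), A * (lo c * up e) = lo c' * up e' * A ∧
      c' + ((Tm A : SL(2, ZMod 2)) : Matrix (Fin 2) (Fin 2) (ZMod 2)).mulVec ![a0, a1] 1 + e' +
        (A : Matrix (Fin 2) (Fin 2) (ZMod 2)).mulVec ![b0, b1] 1 = 0 := by decide +kernel

include hf hK in
theorem ready_top (b : Kˣ) (hm : b ≠ 1) {g : GL chevD4.Idx K}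
    (e : g = phi2 two (up 1) * hT b) : Ready two γ g := by
  obtain ⟨x, hx, hcw⟩ := nword_conj c4 (F := K) (l := [1, 0, 2, 3]) (by decide) (r := d4p2) (by decide +kernel)
  rw [TwistedD4Cover77.top_data.2.2.1, e_one hf hx] at hcw
  have hH : TwistedD4Cover77.cw K * hT b * (TwistedD4Cover77.cw K)⁻¹ ∈ HH 2 :=
    Subgroup.mem_inf.2 ⟨(Subgroup.mem_normalizer_iff.1
      (N_le_normalizer_H c4 (nword_mem c4 (by decide))) _).1 (torus_mem_H c4 _),
      mul_mem (mul_mem (TwistedD4Cover77.cw_mem hf) (tor_mem hf (one_pow 2) b).2)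
        (inv_mem (TwistedD4Cover77.cw_mem hf))⟩
  obtain ⟨a, b', ha, hb'⟩ := exists_ab hf hK hH
  have ha1 : a = 1 := by
    rw [pow_two] at ha; exact mul_eq_left.1 ha
  subst ha1
  refine Ready.of_conj two γ (k := TwistedD4Cover77.cw K) (TwistedD4Cover77.cw_mem hf) ?_
  have h23 : xg c4 23 (1 : K) ∈ UJ 2 JS := by
    refine Subgroup.mem_inf.2 ⟨xg_mem_rad (by decide +kernel) (by decide +kernel) (by decide +kernel) _, ?_⟩
    rw [← one_mul (1 : K), ← hcw]
    exact mul_mem (mul_mem (TwistedD4Cover77.cw_mem hf) (xg_mem_p2 2 (one_pow 2)).1)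
      (inv_mem (TwistedD4Cover77.cw_mem hf))
  have hg : TwistedD4Cover77.cw K * g * (TwistedD4Cover77.cw K)⁻¹ =
      n0 K * 1 * (n0 K)⁻¹ * phiS f (dia b') * xg c4 23 1 := by
    have ht := torus_conj_xg c4 (show 23 < chevD4.nroots by decide +kernel) (tp 2 (1 : Kˣ) b') (1 : K)
    rw [(TwistedD4Cover77.top_val (1 : Kˣ) b').1, Units.val_one, one_mul] at ht
    rw [phiS_dia hf, mul_one, mul_inv_cancel, one_mul, tor, mul_inv_eq_iff_eq_mul.1 ht, ← one_mul (1 : K), ← hcw,
      ← tor, hb', e, phi2_up, map_one]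
    simp only [TwistedD4Cover77.cw]
    rw [show d4p2 = 14 from rfl]
    group
  obtain ⟨A, hA⟩ : ∃ A : SL(2, K), (A * dia b' * A⁻¹ : SL(2, K)) 0 0 = ((1 : Kˣ) : K) := by
    by_cases h1 : b' = 1
    · exact ⟨1, by rw [h1]; simp⟩
    · obtain ⟨A, hA⟩ := exists_corner ((dia b' : SL(2, K)) : Matrix (Fin 2) (Fin 2) K) (by
        rintro ⟨-, -, h⟩
        simp at h
        refine pow_ne_one_of_lt_orderOf (x := b') (n := 2) (by norm_num) (by rw [order_seven hK h1]; norm_num) ?_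
        apply Units.ext
        rw [Units.val_pow_eq_pow_val, pow_two, Units.val_one]
        field_simp at h
        linear_combination h) (1 : K)
      exact ⟨A, by rw [Units.val_one]; exact hA⟩
  refine success hf hK two γ (one_mem _) h23 hg A (Or.inl rfl) hA ?_
  have hz : ∀ i : Fin 8, co i (xg c4 23 (1 : K)) = 0 := by
    intro i
    rw [co_xg two (by decide +kernel) (by decide +kernel), if_neg]
    fin_cases i <;> simp [lvRoot]
  rw [gfun_eq hf hK _ (one_mem _), gfun_eq hf hK _ h23.1]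
  simp [G, hz, co_one]

include hf hK in
theorem ready_long {g w u : GL chevD4.Idx K} {m : Kˣ} (hm : ¬ Allowed γ m) (hγ : γ ≠ 1) (hw : w ∈ UJ 2 JS)
    (hu : u ∈ UJ 2 JS) (hzw : ∀ i : Fin 8, i ≠ 0 → i ≠ 7 → co i w = 0)
    (hzu : ∀ i : Fin 8, i ≠ 0 → i ≠ 7 → co i u = 0)
    (e : g = n0 K * w * (n0 K)⁻¹ * phiS f (dia m) * u) : Ready two γ g := by
  obtain ⟨c, al, rfl, hal⟩ := rad_rational hf hK two hw hzw
  obtain ⟨d, be, rfl, hbe⟩ := rad_rational hf hK two hu hzu
  obtain ⟨V2, hV2⟩ : ∃ V2 : (Fin 2 → ZMod 2) → GL chevD4.Idx K, ∀ v, V2 v = n0 K * L2 two v * (n0 K)⁻¹ :=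
    ⟨_, fun _ => rfl⟩
  have hVA : ∀ (A : SL(2, ZMod 2)) v, phi2 two A * V2 v * (phi2 two A)⁻¹ =
      V2 (((Tm A : SL(2, ZMod 2)) : Matrix (Fin 2) (Fin 2) (ZMod 2)).mulVec v) := fun A v => by
    rw [hV2, hV2, ← phi2_L2, ← n0_phi2 hf two]; group
  have hlo : ∀ x : ZMod 2, n0 K * phi2 two (up x) * (n0 K)⁻¹ = phi2 two (lo x) := fun x => by
    have h := n0_phi2 hf two (lo x)
    rw [Tm_lo] at h
    rw [← h]; group
  rw [phiS_dia hf] at e
  -- in standard shape
  obtain ⟨al', hal'⟩ : ∃ al', al' = ((up c : SL(2, ZMod 2)) : Matrix (Fin 2) (Fin 2) (ZMod 2)).mulVec al := ⟨_, rfl⟩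
  have hs1 : al' 1 = al 1 := by rw [hal']; simp [Matrix.mulVec, dotProduct, Fin.sum_univ_two]
  have e' : g = V2 al' * (phi2 two (lo c * up d) * hT m) * L2 two be := by
    rw [e, hal', ← Tm_lo, ← hVA, hV2, map_mul, ← hlo, Tm_lo]
    simp only [hT]
    calc _ = n0 K * phi2 two (up c) * L2 two al * (n0 K)⁻¹ * (hT m * phi2 two (up d)) * L2 two be := by group
      _ = _ := by rw [(hT_comm hf hK two m (up d)).eq]; group
  rcases long_check c d (al' 1) (al' 0) (be 1) (be 0) with ⟨⟨z1, z2, z3, z4⟩, A, hA⟩ | ⟨A, c', d', hA, hpar⟩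
  · have ha : al' = 0 := by funext i; fin_cases i <;> assumption
    have hb : be = 0 := by funext i; fin_cases i <;> assumption
    refine Ready.of_conj two γ (phi2_mem hf two A) (ready_top hf hK two γ m (fun h => hm (Or.inl h)) ?_)
    rw [e', ha, hb, hV2]
    have h0 : L2 (K := K) two 0 = 1 := by simp [L2, xg_zero]
    rw [h0]
    calc phi2 two A * (n0 K * 1 * (n0 K)⁻¹ * (phi2 two (lo c * up d) * hT m) * 1) * (phi2 two A)⁻¹
        = phi2 two A * phi2 two (lo c * up d) * (hT m * (phi2 two A)⁻¹) := by group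
      _ = phi2 two A * phi2 two (lo c * up d) * ((phi2 two A)⁻¹ * hT m) := by
          rw [((hT_comm hf hK two m A).inv_right).eq]
      _ = _ := by rw [← map_mul, hA, map_mul]; group
  · have vb : ![be 0, be 1] = be := by funext i; fin_cases i <;> rfl
    have va : ![al' 0, al' 1] = al' := by funext i; fin_cases i <;> rfl
    rw [va, vb] at hpar
    obtain ⟨a2, ha2⟩ : ∃ a2, a2 = ((Tm A : SL(2, ZMod 2)) : Matrix (Fin 2) (Fin 2) (ZMod 2)).mulVec al' := ⟨_, rfl⟩
    obtain ⟨b2, hb2⟩ : ∃ b2, b2 = (A : Matrix (Fin 2) (Fin 2) (ZMod 2)).mulVec be := ⟨_, rfl⟩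
    rw [← ha2, ← hb2] at hpar
    obtain ⟨a3, ha3⟩ : ∃ a3, a3 = ((up c' : SL(2, ZMod 2)) : Matrix (Fin 2) (Fin 2) (ZMod 2)).mulVec a2 := ⟨_, rfl⟩
    have hs3 : a3 1 = a2 1 := by rw [ha3]; simp [Matrix.mulVec, dotProduct, Fin.sum_univ_two]
    have hmem : ∀ (x : ZMod 2) (v : Fin 2 → ZMod 2), L2 (K := K) two v ∈ twistedD4 K 2 →
        phi2 two (up x) * L2 two v ∈ UJ 2 JS := fun x v hv => Subgroup.mem_inf.2
      ⟨mul_mem (by rw [phi2_up]; exact xg_mem_rad (by decide +kernel) (by decide +kernel) (by decide +kernel) _)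
        (L2_mem_rad two v), mul_mem (phi2_mem hf two _) hv⟩
    have hco : ∀ (x : ZMod 2) (v : Fin 2 → ZMod 2) (i : Fin 8), co i (phi2 two (up x) * L2 (K := K) two v) =
        (if i = 0 then iota two x else 0) + (if i = 7 then iota two (v 1) else 0) := fun x v i => by
      rw [phi2_up, co_mul i (xg_mem_rad (by decide +kernel) (by decide +kernel) (by decide +kernel) _)
        (L2_mem_rad two v), co_L2, co_xg two (by decide +kernel) (by decide +kernel)]
      congr 1
      fin_cases i <;> simp [lvRoot]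
    have hconj : ∀ (B : SL(2, ZMod 2)) v, L2 (K := K) two v ∈ twistedD4 K 2 →
        L2 (K := K) two ((B : Matrix (Fin 2) (Fin 2) (ZMod 2)).mulVec v) ∈ twistedD4 K 2 := fun B v hv => by
      rw [← phi2_L2]; exact mul_mem (mul_mem (phi2_mem hf two B) hv) (inv_mem (phi2_mem hf two B))
    refine Ready.of_conj two γ (phi2_mem hf two A) ?_
    have eA : phi2 two A * g * (phi2 two A)⁻¹ =
        n0 K * (phi2 two (up c') * L2 two a3) * (n0 K)⁻¹ * phiS f (dia m) * (phi2 two (up d') * L2 two b2) := by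
      have hz : ∀ v, n0 K * (phi2 two (up c') * L2 two v) * (n0 K)⁻¹ = phi2 two (lo c') * V2 v := fun v => by
        rw [hV2, ← hlo]; group
      have hAi : A * (lo c * up d) * A⁻¹ = lo c' * up d' := by rw [hA]; group
      rw [phiS_dia hf, hz, ha3, ← Tm_lo, ← hVA]
      calc phi2 two A * g * (phi2 two A)⁻¹
          = (phi2 two A * V2 al' * (phi2 two A)⁻¹) * (phi2 two A * phi2 two (lo c * up d) *
              (hT m * (phi2 two A)⁻¹)) * (phi2 two A * L2 two be * (phi2 two A)⁻¹) := by rw [e']; group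
        _ = V2 a2 * (phi2 two (lo c') * phi2 two (up d') * hT m) * L2 two b2 := by
          have hAi2 : phi2 (K := K) two A * phi2 two (lo c * up d) * (phi2 two A)⁻¹ =
              phi2 two (lo c') * phi2 two (up d') := by rw [← map_inv, ← map_mul, ← map_mul, ← map_mul, hAi]
          rw [((hT_comm hf hK two m A).inv_right).eq, hVA, phi2_L2, ← ha2, ← hb2, ← hAi2]
          group
        _ = _ := by
          rw [mul_assoc (phi2 two (lo c')) _ (hT m), ← (hT_comm hf hK two m (up d')).eq]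
          have hsq : phi2 (K := K) two (lo c') * phi2 two (lo c') = 1 := by
            rw [← map_mul,
              (by decide +kernel : ∀ x : ZMod 2, (lo x * lo x : SL(2, ZMod 2)) = 1) c', map_one]
          have h3 : phi2 two (lo c') * (phi2 two (lo c') * V2 a2 * (phi2 two (lo c'))⁻¹) =
              V2 a2 * phi2 two (lo c') := by
            rw [← mul_assoc, ← mul_assoc, hsq, one_mul, inv_eq_of_mul_eq_one_right hsq]
          rw [h3]
          simp only [hT]
          group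
    obtain ⟨A', hA', hval⟩ : ∃ A' : SL(2, K), (A' * dia m * A'⁻¹ : SL(2, K)) 0 0 = ((1 : Kˣ) : K) ∧
        (Tm A' : SL(2, K)) 1 1 ≠ 0 ∧ A' 1 1 ≠ 0 ∧ (Tm A' : SL(2, K)) 1 0 ≠ 0 ∧ A' 1 0 ≠ 0 := by
      have hm1 : m ≠ 1 := fun h => hm (Or.inl h)
      have n1 : (1 : K) - m ≠ 0 := sub_ne_zero.2 fun e => hm1 (Units.ext e.symm)
      have n2 : (1 : K) - (m : K)⁻¹ ≠ 0 := sub_ne_zero.2 fun e => hm1 (by
        have := inv_eq_one.1 e.symm; exact Units.ext this)
      have hmm : (m : K) - (m : K)⁻¹ ≠ 0 := by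
        intro h
        refine pow_ne_one_of_lt_orderOf (x := m) (n := 2) (by norm_num) (by rw [order_seven hK hm1]; norm_num) ?_
        apply Units.ext
        rw [Units.val_pow_eq_pow_val, Units.val_one, pow_two]
        field_simp at h
        linear_combination h
      obtain ⟨ρ, hρ⟩ : ∃ ρ : K, ρ = (1 - (m : K)) / ((m : K) - (m : K)⁻¹) := ⟨_, rfl⟩
      have hρ0 : ρ ≠ 0 := hρ ▸ div_ne_zero n1 hmm
      have hρ1 : 1 + ρ ≠ 0 := by
        rw [show 1 + ρ = (1 - (m : K)⁻¹) / ((m : K) - (m : K)⁻¹) by rw [hρ, add_div' _ _ _ hmm]; congr 1; ring]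
        exact div_ne_zero n2 hmm
      refine ⟨up 1 * lo ρ, ?_, ?_, ?_, ?_, ?_⟩
      · have e : ((up 1 * lo ρ * dia m * (up 1 * lo ρ)⁻¹ : SL(2, K)) : Matrix (Fin 2) (Fin 2) K) 0 0 =
            (1 + ρ) * m - ρ * (m : K)⁻¹ := by
          rw [c00]
          simp [Matrix.mul_apply, Fin.sum_univ_two]
          ring
        rw [e, Units.val_one]
        have h := div_mul_cancel₀ (1 - (m : K)) hmm
        rw [← hρ] at h
        linear_combination h
      all_goals simp [coe_Tm, Matrix.mul_apply, Fin.sum_univ_two, hρ0]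
      all_goals rwa [add_comm]
    have ha3' : L2 (K := K) two a3 ∈ twistedD4 K 2 := by
      rw [ha3, ha2, hal']; exact hconj _ _ (hconj _ _ (hconj _ _ hal))
    have hb2' : L2 (K := K) two b2 ∈ twistedD4 K 2 := by rw [hb2]; exact hconj _ _ hbe
    refine success hf hK two γ (hmem c' a3 ha3') (hmem d' b2 hb2') eA A' (Or.inl rfl) hA' ?_
    rw [row_fin hf hK (hmem c' a3 ha3') hval.1, row_fin hf hK (hmem d' b2 hb2') hval.2.1]
    have hG : ∀ (x : ZMod 2) (v : Fin 2 → ZMod 2) (s : K), s ≠ 0 →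
        G (phi2 two (up x) * L2 (K := K) two v) s = iota two (x + v 1) := fun x v s hs => by
      have h7 : s ^ 7 = 1 := by
        have := FiniteField.pow_card_sub_one_eq_one s hs
        rwa [hK] at this
      simp [G, hco, h7, map_add]
    rw [hG _ _ _ (div_ne_zero hval.2.2.1 hval.1), hG _ _ _ (div_ne_zero hval.2.2.2 hval.2.1), hs3]
    congr 1
    calc c' + a2 1 = (c' + a2 1 + d' + b2 1) + -(d' + b2 1) := by ring
      _ = _ := by rw [hpar, zero_add, ZMod.neg_eq_self_mod_two]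

include hf hK in
theorem ready_all (hγ : γ ≠ 1) {g : GL chevD4.Idx K} (hg : g ∈ twistedD4 K 2) (hne : g ≠ 1) : Ready two γ g := by
  classical
  obtain ⟨a, b, ha, h⟩ := start hf hK hg hne
  obtain rfl : a = 1 := by rw [pow_two] at ha; exact mul_eq_left.1 ha
  obtain ⟨k, hk, v, hv, u, hu, e⟩ : Form 2 g 1 b := by
    rcases h with h | h
    · exact h.form hf hK
    · exact h.form hf hK
  refine Ready.of_conj two γ hk ?_
  obtain ⟨c, d, v', hv', u', hu', eq, -⟩ := (nodeS hf hK).middle hv (tor_mem hf (one_pow 2) b) hu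
  obtain ⟨w, hw, ew⟩ := mem_VJ.1 hv'
  rw [e, eq, ← ew, show tor 2 1 b = phiS f (dia b) from (phiS_dia hf b).symm]
  generalize (nodeS hf hK).α (phiS f (dia b)) = al
  rw [show ∀ X, (nodeS hf hK).φ X * phiS f (dia b) = phiS f (X * dia b) from fun X => (map_mul _ _ _).symm]
  generalize lo c * dconj al (up d) * dia b = Z
  obtain ⟨g', hg'⟩ : ∃ g', g' = n0 K * w * (n0 K)⁻¹ * phiS f Z * u' := ⟨_, rfl⟩
  have hw' : w ∈ UJ 2 JS := hw
  rw [← hg']
  by_contra hno
  have go : ∀ A : SL(2, K), ∃ w2 ∈ UJ 2 JS, ∃ u2 ∈ UJ 2 JS,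
      phiS f A * g' * (phiS f A)⁻¹ = n0 K * w2 * (n0 K)⁻¹ * phiS f (A * Z * A⁻¹) * u2 ∧
        Fail γ f w2 u2 (A * Z * A⁻¹) := by
    intro A
    obtain ⟨w2, hw2, u2, hu2, e2⟩ := normalise hf hK hw' hu' hg' A
    exact ⟨w2, hw2, u2, hu2, e2, fail_of_not_ready hf hK two γ hw2 hu2 e2
      fun h => hno (Ready.of_conj two γ (phiS_mem hf A) h)⟩
  have hd := Z.2
  rw [Matrix.det_fin_two] at hd
  by_cases hns : Z 0 1 = 0 ∧ Z 1 0 = 0 ∧ Z 0 0 = Z 1 1
  · obtain ⟨h1, h2, h3⟩ := hns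
    rw [h1, h2, ← h3, zero_mul, sub_zero] at hd
    have hZ : Z = 1 := by
      have h00 : Z 0 0 = 1 := by
        rcases mul_self_eq_one_iff.1 hd with h | h
        · exact h
        · rw [h]; linear_combination -two
      ext i j; fin_cases i <;> fin_cases j <;> simp [h1, h2, h00, ← h3]
    obtain ⟨w2, hw2, u2, hu2, -, hfail⟩ := go 1
    rw [hZ, one_mul, inv_one, one_mul] at hfail
    exact case_one hf hK two γ hw2 hu2 hfail
  by_cases hroot : ∃ m : K, m * m + (Z 0 0 + Z 1 1) * m + 1 = 0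
  · obtain ⟨m, hm⟩ := hroot
    have hm0 : m ≠ 0 := fun h => by rw [h] at hm; simp at hm
    obtain ⟨A, hA⟩ := exists_corner (Z : Matrix (Fin 2) (Fin 2) K) hns m
    obtain ⟨N, hN⟩ : ∃ N, N = A * Z * A⁻¹ := ⟨_, rfl⟩
    have hN00 : N 0 0 = m := by rw [hN]; exact hA
    have htr : N 0 0 + N 1 1 = Z 0 0 + Z 1 1 := by
      rw [hN]
      have hAd := A.2
      rw [Matrix.det_fin_two] at hAd
      rw [c00, c11]
      linear_combination (Z 0 0 + Z 1 1) * hAd
    have hN11 : N 1 1 = m⁻¹ := by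
      rw [hN00] at htr
      refine eq_inv_of_mul_eq_one_right ?_
      linear_combination m * htr + hm - (m * m + 1) * two
    have hNd := N.2
    rw [Matrix.det_fin_two, hN00, hN11, mul_inv_cancel₀ hm0] at hNd
    have hprod : N 0 1 * N 1 0 = 0 := by linear_combination -hNd
    obtain ⟨A2, N2, t, hN2, h00, h10, h01⟩ : ∃ (A2 : SL(2, K)) (N2 : SL(2, K)) (t : Kˣ), N2 = A2 * Z * A2⁻¹ ∧
        N2 0 0 = (t : K) ∧ N2 1 0 = 0 ∧ N2 0 1 ≠ 0 := by
      by_cases hy : N 1 0 = 0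
      · by_cases hx : N 0 1 = 0
        · refine ⟨up 1 * A, up 1 * N * (up 1)⁻¹, Units.mk0 m hm0, by rw [hN]; group, ?_, ?_, ?_⟩
          · rw [c00]; simp [hN00, hy]
          · rw [c10]; simp [hy]
          · rw [c01]; simp [hN00, hN11, hx, hy]
            intro h
            apply hns
            have hsc : m = m⁻¹ := by linear_combination -h
            have hNs : N = ⟨!![m, 0; 0, m], by rw [Matrix.det_fin_two_of, zero_mul, sub_zero]; nth_rw 2 [hsc]; exact mul_inv_cancel₀ hm0⟩ := by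
              ext i j; fin_cases i <;> fin_cases j <;> simp [hN00, hN11, hx, hy, ← hsc]
            have hZN : Z = A⁻¹ * N * A := by rw [hN]; group
            have hc : (Z : Matrix (Fin 2) (Fin 2) K) = m • 1 := by
              rw [hZN, Matrix.SpecialLinearGroup.coe_mul, Matrix.SpecialLinearGroup.coe_mul,
                show (N : Matrix (Fin 2) (Fin 2) K) = m • 1 by
                  rw [hNs]; ext i j; fin_cases i <;> fin_cases j <;> simp,
                mul_smul_comm, mul_one, smul_mul_assoc, ← Matrix.SpecialLinearGroup.coe_mul, inv_mul_cancel,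
                Matrix.SpecialLinearGroup.coe_one]
            simp [hc]
        · exact ⟨A, N, Units.mk0 m hm0, hN, hN00, hy, hx⟩
      · obtain ⟨W, hW⟩ : ∃ W : SL(2, K), (W : Matrix (Fin 2) (Fin 2) K) = !![0, 1; 1, 0] :=
          ⟨⟨!![0, 1; 1, 0], by rw [Matrix.det_fin_two_of]; linear_combination -two⟩, rfl⟩
        have hx : N 0 1 = 0 := (mul_eq_zero.1 hprod).resolve_right hy
        refine ⟨W * A, W * N * W⁻¹, (Units.mk0 m hm0)⁻¹, by rw [hN]; group, ?_, ?_, ?_⟩
        · rw [c00]; simp [hW, hN11]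
          linear_combination -m⁻¹ * two
        · rw [c10]; simp [hW, hx]
        · rw [c01]; simp [hW]
          exact hy
    by_cases ht : Allowed γ t
    · obtain ⟨w2, hw2, u2, hu2, -, hfail⟩ := go A2
      rw [← hN2] at hfail
      exact case_eigen hf hK two γ hγ hw2 hu2 ht h00 h10 h01 hfail
    · have hd2 := N2.2
      rw [Matrix.det_fin_two, h00, h10, mul_zero, sub_zero] at hd2
      have h11 : N2 1 1 = (t : K)⁻¹ := eq_inv_of_mul_eq_one_right hd2
      have ht1 : t ≠ 1 := fun h => ht (Or.inl h)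
      have htt : (t : K) - (t : K)⁻¹ ≠ 0 := by
        intro h
        refine pow_ne_one_of_lt_orderOf (x := t) (n := 2) (by norm_num) (by rw [order_seven hK ht1]; norm_num) ?_
        apply Units.ext
        rw [Units.val_pow_eq_pow_val, Units.val_one, pow_two]
        field_simp at h
        linear_combination h
      obtain ⟨r, hr⟩ : ∃ r : K, r = N2 0 1 / ((t : K) - (t : K)⁻¹) := ⟨_, rfl⟩
      have hdia : up r * N2 * (up r)⁻¹ = dia t := by
        apply Subtype.ext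
        rw [Matrix.eta_fin_two ((up r * N2 * (up r)⁻¹ : SL(2, K)) : Matrix (Fin 2) (Fin 2) K), c00, c01, c10, c11]
        have h := div_mul_cancel₀ (N2 0 1) htt
        rw [← hr] at h
        ext i j
        fin_cases i <;> fin_cases j <;> simp [h00, h10, h11, Units.val_inv_eq_inv_val]
        linear_combination -h
      obtain ⟨w2, hw2, u2, hu2, e2, hfail⟩ := go (up r * A2)
      rw [show up r * A2 * Z * (up r * A2)⁻¹ = dia t by rw [← hdia, hN2]; group] at e2 hfail
      obtain ⟨zw, zu⟩ := case_diag hf hK two γ hγ hw2 hu2 ht hfail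
      exact hno (Ready.of_conj two γ (phiS_mem hf _) (ready_long hf hK two γ ht hγ hw2 hu2 zw zu e2))
  · push Not at hroot
    obtain ⟨A, hA⟩ := exists_corner (Z : Matrix (Fin 2) (Fin 2) K) hns 1
    obtain ⟨w2, hw2, u2, hu2, -, hfail⟩ := go A
    have htr : (A * Z * A⁻¹ : SL(2, K)) 0 0 + (A * Z * A⁻¹ : SL(2, K)) 1 1 = Z 0 0 + Z 1 1 := by
      have hAd := A.2
      rw [Matrix.det_fin_two] at hAd
      rw [c00, c11]
      linear_combination (Z 0 0 + Z 1 1) * hAd
    exact case_elliptic hf hK two γ hw2 hu2 hA (fun m => by rw [htr]; exact hroot m) hfail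

include hf hK in
theorem cover_two : ∃ x ∈ twistedD4 K 2, x ^ 21 = 1 ∧
    ∀ g ∈ twistedD4 K 2, g ≠ 1 → InCC (twistedD4 K 2) x g := by
  classical
  have two := two_zero hf
  obtain ⟨γ, hγ⟩ : ∃ γ : Kˣ, γ ≠ 1 := by
    have : Nontrivial Kˣ := Fintype.one_lt_card_iff_nontrivial.1 (by rw [Fintype.card_units, hK]; norm_num)
    exact exists_ne 1
  refine ⟨x0 two γ, mul_mem (phi2_mem hf two M) (tor_mem hf (one_pow 2) γ).2, ?_, fun g hg hne =>
    Ready.covered hf hK two γ hγ (ready_all hf hK two γ hγ hg hne)⟩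
  have hc : Commute (phi2 two M) (hT γ) := (hT_comm hf hK two γ M).symm
  have hM : M ^ 21 = 1 := by
    rw [show (21 : ℕ) = 3 * 7 by norm_num, pow_mul, pow_three, ← mul_assoc, three_split.1, one_pow]
  rw [x0, hc.mul_pow, ← map_pow, hM, map_one, one_mul, hT, tor_pow, show (21 : ℕ) = 7 * 3 by norm_num,
    pow_mul γ, unit_seven hK, one_pow, one_pow, tor_one]

end Cfsg.Agent.TwistedD4CoverTwo77
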