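import Cfsg.Agent.Lib.TwistedD4LeviTwo77
import Mathlib.FieldTheory.Finite.Extension
import Mathlib.Data.ZMod.Units

/-!
A self-centralising cyclic subgroup of order `(q³ - 1)(q + 1)` in `³D₄(q)`.
-/

set_option autoImplicit false
set_option linter.unusedSectionVars false
set_option maxRecDepth 20000

namespace Cfsg.Agent.TwistedD4Levi77

open scoped Matrix
open Cfsg.Lie Cfsg.Agent.ChevalleyCert Cfsg.Agent.ChevalleyCore Cfsg.Agent.ChevalleyTorus
  Cfsg.Agent.TwistedCore Cfsg.Agent.TwistedTools Cfsg.Agent.TwistedD4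

variable {K : Type*} [Field K] [Fintype K] {q : ℕ} (f : K →+* K) (hf : ∀ t, f t = t ^ q)
variable (hK : Fintype.card K = q ^ 3)

include hf hK in
/-- a matrix over the fixed field generating the multiplicative group of the quadratic extension -/
theorem exists_singer : ∃ (M : GL (Fin 2) K) (δ : Kˣ), Matrix.GeneralLinearGroup.map f M = M ∧
    orderOf M = q ^ 2 - 1 ∧ Matrix.GeneralLinearGroup.det M = δ ∧ orderOf δ = q - 1 ∧
    ((M ^ (q + 1) : GL (Fin 2) K) : Matrix (Fin 2) (Fin 2) K) = (δ : K) • 1 ∧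
    ∀ g : GL (Fin 2) K, Matrix.GeneralLinearGroup.map f g = g → g * M = M * g → ∃ i : ℕ, g = M ^ i := by
  classical
  let F0 : Subfield K := RingHom.eqLocusField f (RingHom.id K)
  have hmem : ∀ x : K, x ∈ F0 ↔ x ^ q = x := fun x => by
    rw [← hf]; exact Iff.rfl
  have hc : Nat.card F0 = q := by
    rw [← TwistedField.card_fix hK]
    exact Nat.card_congr (Equiv.subtypeEquiv (Equiv.refl _) hmem)
  obtain ⟨p, hp⟩ := CharP.exists F0
  haveI : Fact p.Prime := ⟨CharP.char_is_prime F0 p⟩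
  let E := FiniteField.Extension F0 p 2
  haveI : Finite E := inferInstance
  have hE : Nat.card E = q ^ 2 := by rw [FiniteField.natCard_extension, hc]
  let b : Module.Basis (Fin 2) F0 E := Module.finBasisOfFinrankEq F0 E (FiniteField.finrank_extension F0 p 2)
  obtain ⟨ε, hε⟩ := IsCyclic.exists_ofOrder_eq_natCard (α := Eˣ)
  have hεgen : ∀ x : Eˣ, ∃ i : ℕ, ε ^ i = x := by
    intro x
    have : x ∈ Subgroup.zpowers ε := by
      rw [Subgroup.eq_top_of_card_eq (Subgroup.zpowers ε) (by rw [Nat.card_zpowers, hε])]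
      exact Subgroup.mem_top _
    exact (mem_powers_iff_mem_zpowers (x := ε) (y := x)).2 this |> fun h => (Submonoid.mem_powers_iff _ _).1 h
  set δ0 : F0ˣ := Units.map (Algebra.norm F0 (S := E)) ε with hδ0
  have hδgen : ∀ x : F0ˣ, ∃ i : ℕ, δ0 ^ i = x := by
    intro x
    obtain ⟨y, rfl⟩ := FiniteField.unitsMap_norm_surjective F0 E x
    obtain ⟨i, rfl⟩ := hεgen y
    exact ⟨i, (map_pow _ _ _).symm⟩
  have hδord : orderOf δ0 = q - 1 := by
    rw [← Nat.card_zpowers, show Subgroup.zpowers δ0 = ⊤ from eq_top_iff.2 fun x _ => by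
      obtain ⟨i, rfl⟩ := hδgen x
      exact Subgroup.pow_mem _ (Subgroup.mem_zpowers _) i, Subgroup.card_top, Nat.card_units, hc]
  let L : Eˣ →* GL (Fin 2) F0 := Units.map (Algebra.leftMulMatrix b).toRingHom.toMonoidHom
  let R : GL (Fin 2) F0 →* GL (Fin 2) K := Matrix.GeneralLinearGroup.map F0.subtype
  have hRinj : Function.Injective R := fun a a' h => by
    apply Units.ext
    ext i j
    exact congrArg (fun g : GL (Fin 2) K => (g : Matrix (Fin 2) (Fin 2) K) i j) h
  have hLinj : Function.Injective L := Units.map_injective (Algebra.leftMulMatrix_injective b)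
  have hRfix : ∀ a, Matrix.GeneralLinearGroup.map f (R a) = R a := fun a => by
    apply Units.ext
    ext i j
    exact ((a : Matrix (Fin 2) (Fin 2) F0) i j).2
  refine ⟨R (L ε), Units.map F0.subtype.toMonoidHom δ0, hRfix _, ?_, ?_, ?_, ?_, ?_⟩
  · rw [orderOf_injective R hRinj, orderOf_injective L hLinj, hε, Nat.card_units, hE]
  · apply Units.ext
    show Matrix.det ((Algebra.leftMulMatrix b (ε : E)).map F0.subtype) = F0.subtype (Algebra.norm F0 (ε : E))
    rw [Algebra.norm_eq_matrix_det b, RingHom.map_det]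
    rfl
  · rw [orderOf_injective _ (Units.map_injective (f := F0.subtype.toMonoidHom) F0.subtype_injective), hδord]
  · have h1 : ε ^ (q + 1) = Units.map (algebraMap F0 E).toMonoidHom δ0 := by
      apply Units.ext
      rw [Units.val_pow_eq_pow_val]
      refine Eq.trans ?_ (FiniteField.algebraMap_norm_eq_pow (K := F0) (K' := E) (x := (ε : E))).symm
      have hq := TwistedField.one_lt_base hK
      rw [hE, hc]
      congr 1
      obtain ⟨k, rfl⟩ : ∃ k, q = k + 1 := ⟨q - 1, by omega⟩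
      rw [show (k + 1) ^ 2 - 1 = k * (k + 2) by
        have : (k + 1) ^ 2 = k * (k + 2) + 1 := by ring
        omega]
      simp only [Nat.add_sub_cancel]
      rw [Nat.mul_div_cancel_left _ (by omega)]
    rw [← map_pow, ← map_pow, h1]
    show ((Algebra.leftMulMatrix b) (algebraMap F0 E (δ0 : F0))).map F0.subtype = _
    rw [AlgHom.commutes, Matrix.algebraMap_eq_diagonal]
    ext i j
    by_cases hij : i = j <;> simp [hij, Matrix.smul_apply]
  · intro g hg hcomm
    have hgmem : ∀ i j, (g : Matrix (Fin 2) (Fin 2) K) i j ∈ F0 := fun i j =>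
      congrArg (fun z : GL (Fin 2) K => (z : Matrix (Fin 2) (Fin 2) K) i j) hg
    let g0 : Matrix (Fin 2) (Fin 2) F0 := fun i j => ⟨_, hgmem i j⟩
    have hmap : g0.map F0.subtype = (g : Matrix (Fin 2) (Fin 2) K) := rfl
    have hc0 : g0 * Algebra.leftMulMatrix b (ε : E) = Algebra.leftMulMatrix b (ε : E) * g0 := by
      apply Matrix.map_injective F0.subtype_injective
      show (g0 * _).map F0.subtype = (_ * g0).map F0.subtype
      rw [Matrix.map_mul, Matrix.map_mul, hmap]
      exact congrArg Units.val hcomm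
    have hall : ∀ x : E, g0 * Algebra.leftMulMatrix b x = Algebra.leftMulMatrix b x * g0 := by
      intro x
      rcases eq_or_ne x 0 with rfl | hx
      · simp
      obtain ⟨i, hi⟩ := hεgen (Units.mk0 x hx)
      have : x = (ε : E) ^ i := by rw [← Units.val_pow_eq_pow_val, hi, Units.val_mk0]
      rw [this, map_pow]
      exact (Commute.pow_right hc0 i).eq
    let h0 : E →ₗ[F0] E := Matrix.toLinAlgEquiv b g0
    have hlin : g0 = Algebra.leftMulMatrix b (h0 1) := by
      apply (Matrix.toLinAlgEquiv b).injective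
      refine LinearMap.ext fun x => ?_
      have h1 := congrArg (fun A => Matrix.toLinAlgEquiv b A) (hall x)
      simp only [map_mul] at h1
      have hL : ∀ z : E, Matrix.toLinAlgEquiv b (Algebra.leftMulMatrix b z) = Algebra.lmul F0 E z := fun z => by
        rw [Algebra.leftMulMatrix_apply]; exact Matrix.toLin_toMatrix b b _
      rw [hL] at h1 ⊢
      have h2 := congrArg (fun T : Module.End F0 E => T 1) h1
      simp only [Module.End.mul_apply, Algebra.coe_lmul_eq_mul, LinearMap.mul_apply', mul_one] at h2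
      show h0 x = h0 1 * x
      rw [mul_comm]
      exact h2
    have hne : h0 1 ≠ 0 := by
      intro h
      rw [h, map_zero] at hlin
      have : (g : Matrix (Fin 2) (Fin 2) K) = 0 := by rw [← hmap, hlin, Matrix.map_zero _ (map_zero _)]
      exact g.ne_zero this
    obtain ⟨i, hi⟩ := hεgen (Units.mk0 _ hne)
    refine ⟨i, Units.ext ?_⟩
    rw [← map_pow, ← map_pow, hi, ← hmap, hlin]
    rfl

include hK in
theorem card_units_K : orderOf (Classical.choose (IsCyclic.exists_ofOrder_eq_natCard (α := Kˣ))) = q ^ 3 - 1 := by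
  rw [Classical.choose_spec (IsCyclic.exists_ofOrder_eq_natCard (α := Kˣ)), TwistedField.card_units_eq, hK]

theorem q_sub_dvd (q : ℕ) : q - 1 ∣ q ^ 3 - 1 := by simpa using Nat.sub_dvd_pow_sub_pow q 1 3

include hK in
/-- a generator of `K*` with prescribed norm -/
theorem exists_kappa {δ : Kˣ} (hδ : orderOf δ = q - 1) :
    ∃ κ : Kˣ, orderOf κ = q ^ 3 - 1 ∧ nrm q κ = δ := by
  classical
  have hq := TwistedField.one_lt_base hK
  obtain ⟨c, hc⟩ := IsCyclic.exists_ofOrder_eq_natCard (α := Kˣ)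
  rw [TwistedField.card_units_eq, hK] at hc
  have h3 : q ^ 3 - 1 = (q - 1) * (q ^ 2 + q + 1) := by
    obtain ⟨k, rfl⟩ : ∃ k, q = k + 1 := ⟨q - 1, by omega⟩
    have : (k + 1) ^ 3 = k * ((k + 1) ^ 2 + (k + 1) + 1) + 1 := by ring
    simp only [Nat.add_sub_cancel]
    omega
  have hN : orderOf (nrm q c) = q - 1 := by
    rw [nrm, orderOf_pow' _ (by omega), hc, h3, Nat.gcd_mul_left_left, Nat.mul_div_cancel _ (by omega)]
  have hmem : δ ∈ Subgroup.zpowers (nrm q c) := by
    have hall : Subgroup.zpowers c = ⊤ := Subgroup.eq_top_of_card_eq _ (by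
      rw [Nat.card_zpowers, hc, TwistedField.card_units_eq, hK])
    obtain ⟨j, rfl⟩ : δ ∈ Subgroup.zpowers c := hall ▸ Subgroup.mem_top _
    show c ^ j ∈ _
    have h1 : (c ^ j) ^ (q - 1) = 1 := hδ ▸ pow_orderOf_eq_one _
    rw [← zpow_natCast, ← zpow_mul, ← orderOf_dvd_iff_zpow_eq_one, hc, h3, Nat.cast_mul, mul_comm j] at h1
    obtain ⟨l, hl⟩ := (mul_dvd_mul_iff_left (by exact_mod_cast (by omega : q - 1 ≠ 0))).1 h1
    exact ⟨l, by show nrm q c ^ l = _; rw [hl, zpow_mul, nrm, zpow_natCast]⟩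
  obtain ⟨i, hi⟩ := (Submonoid.mem_powers_iff _ _).1 (mem_powers_iff_mem_zpowers.2 hmem)
  have hcop : Nat.Coprime i (q - 1) := by
    have h := hδ
    rw [← hi, (isOfFinOrder_of_finite (nrm q c)).orderOf_pow, hN] at h
    rw [Nat.Coprime, Nat.gcd_comm]
    have hpos : 0 < Nat.gcd (q - 1) i := Nat.gcd_pos_of_pos_left _ (by omega)
    have h5 : (q - 1) / Nat.gcd (q - 1) i * Nat.gcd (q - 1) i = q - 1 := Nat.div_mul_cancel (Nat.gcd_dvd_left _ _)
    rw [h] at h5
    exact (Nat.mul_eq_left (by omega)).1 h5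
  haveI : NeZero (q ^ 3 - 1) := ⟨by
    have : 1 < q ^ 3 := Nat.one_lt_pow (by norm_num) hq
    omega⟩
  haveI : NeZero (q - 1) := ⟨by omega⟩
  obtain ⟨u, hu⟩ := ZMod.unitsMap_surjective (q_sub_dvd q) (ZMod.unitOfCoprime i hcop)
  refine ⟨c ^ (u : ZMod (q ^ 3 - 1)).val, ?_, ?_⟩
  · rw [(isOfFinOrder_of_finite c).orderOf_pow, hc, Nat.Coprime.gcd_eq_one (Nat.Coprime.symm (ZMod.val_coe_unit_coprime u)),
      Nat.div_one]
  · rw [← hi]
    show (c ^ (u : ZMod (q ^ 3 - 1)).val) ^ (q ^ 2 + q + 1) = _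
    rw [← pow_mul, mul_comm, pow_mul]
    show nrm q c ^ _ = _
    rw [pow_eq_pow_iff_modEq, hN, ← ZMod.natCast_eq_natCast_iff]
    have h2 := congrArg Units.val hu
    rw [ZMod.unitsMap_def, Units.coe_map, ZMod.coe_unitOfCoprime] at h2
    rw [ZMod.natCast_val]
    exact h2

theorem lcm_arith (q : ℕ) (hq : 1 < q) : Nat.lcm (q ^ 2 - 1) (q ^ 3 - 1) = (q ^ 3 - 1) * (q + 1) := by
  obtain ⟨k, rfl⟩ : ∃ k, q = k + 1 := ⟨q - 1, by omega⟩
  have h2 : (k + 1) ^ 2 - 1 = k * (k + 2) := by
    have : (k + 1) ^ 2 = k * (k + 2) + 1 := by ring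
    omega
  have h3 : (k + 1) ^ 3 - 1 = k * (k * k + 3 * k + 3) := by
    have : (k + 1) ^ 3 = k * (k * k + 3 * k + 3) + 1 := by ring
    omega
  rw [h2, h3, Nat.lcm_mul_left]
  have hcop : Nat.Coprime (k + 2) (k * k + 3 * k + 3) := by
    rw [show k * k + 3 * k + 3 = 1 + (k + 2) * (k + 1) by ring]
    exact Nat.Coprime.symm ((Nat.coprime_add_mul_left_left 1 (k + 2) (k + 1)).2 (Nat.coprime_one_left _))
  rw [hcop.lcm_eq_mul]
  ring

include hf hK in
/-- the self-centralising cyclic subgroup -/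
theorem exists_torus : ∃ H : Subgroup ↥(twistedD4 K q), IsCyclic ↥H ∧ Nat.card ↥H = (q ^ 3 - 1) * (q + 1) ∧
    Subgroup.centralizer (H : Set ↥(twistedD4 K q)) = H := by
  classical
  have hq := TwistedField.one_lt_base hK
  obtain ⟨M, δ, hMf, hMo, hdet, hδo, hMpow, hMc⟩ := exists_singer f hf hK
  obtain ⟨κ, hκ, hNκ⟩ := exists_kappa hK hδo
  let p0 : ↥(model f q) := ⟨(M, κ), (mem_model f).2 ⟨hMf, hdet.trans hNκ.symm⟩⟩
  let Ψ : ↥(model f q) →* ↥(twistedD4 K q) := psi.codRestrict _ (psi_mem hf hK)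
  have hΨ : Function.Injective Ψ := fun a a' h => psi_injective hf hK (congrArg Subtype.val h)
  have hord : orderOf p0 = (q ^ 3 - 1) * (q + 1) := by
    rw [← Subgroup.orderOf_coe, Prod.orderOf, hMo, hκ, lcm_arith q hq]
  refine ⟨Subgroup.zpowers (Ψ p0), inferInstance, by rw [Nat.card_zpowers, orderOf_injective Ψ hΨ, hord], ?_⟩
  refine le_antisymm (fun y hy => ?_) (Subgroup.le_centralizer_iff_isMulCommutative.2 inferInstance)
  have hc : ∀ p : ↥(model f q), (∃ n : ℕ, p0 ^ n = p) → psi p * (y : GL chevD4.Idx K) = y * psi p := by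
    rintro p ⟨n, rfl⟩
    have := Subgroup.mem_centralizer_iff.1 hy (Ψ (p0 ^ n)) (by
      rw [map_pow]; exact Subgroup.pow_mem _ (Subgroup.mem_zpowers _) n)
    exact congrArg Subtype.val this
  have hpm : ∀ i j : ℕ, δ ^ i = δ ^ j → (M ^ i, κ ^ j) ∈ model f q := by
    intro i j h
    refine (mem_model f).2 ⟨by rw [map_pow, hMf], ?_⟩
    rw [map_pow, hdet, nrm, ← pow_mul, mul_comm, pow_mul, ← nrm, hNκ]
    exact h
  have hpow : ∀ (i j : ℕ) (h : δ ^ i = δ ^ j), ∃ n : ℕ, p0 ^ n = (⟨(M ^ i, κ ^ j), hpm i j h⟩ : ↥(model f q)) := by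
    intro i j h
    have hg : Nat.gcd (q ^ 2 - 1) (q ^ 3 - 1) ∣ q - 1 := by
      have hl := Nat.gcd_mul_lcm (q ^ 2 - 1) (q ^ 3 - 1)
      rw [lcm_arith q hq] at hl
      obtain ⟨k, rfl⟩ : ∃ k, q = k + 1 := ⟨q - 1, by omega⟩
      have h2 : (k + 1) ^ 2 - 1 = k * (k + 1 + 1) := by
        have : (k + 1) ^ 2 = k * (k + 1 + 1) + 1 := by ring
        omega
      have h3 : 0 < (k + 1) ^ 3 - 1 := by
        have : 1 < (k + 1) ^ 3 := Nat.one_lt_pow (by norm_num) hq
        omega
      have : Nat.gcd ((k + 1) ^ 2 - 1) ((k + 1) ^ 3 - 1) = k := by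
        rw [h2] at hl ⊢
        have h5 : Nat.gcd (k * (k + 1 + 1)) ((k + 1) ^ 3 - 1) * (((k + 1) ^ 3 - 1) * (k + 1 + 1)) =
            k * (((k + 1) ^ 3 - 1) * (k + 1 + 1)) := by rw [hl]; ring
        exact mul_right_cancel₀ (Nat.pos_iff_ne_zero.1 (Nat.mul_pos h3 (by omega))) h5
      simp [this]
    have hij : Nat.ModEq (Nat.gcd (q ^ 2 - 1) (q ^ 3 - 1)) i j :=
      (hδo ▸ pow_eq_pow_iff_modEq.1 h : Nat.ModEq (q - 1) i j).of_dvd hg
    obtain ⟨n, hn1, hn2⟩ := Nat.chineseRemainder' hij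
    refine ⟨n, Subtype.ext (Prod.ext ?_ ?_)⟩
    · show M ^ n = M ^ i
      rw [pow_eq_pow_iff_modEq, hMo]; exact hn1
    · show κ ^ n = κ ^ j
      rw [pow_eq_pow_iff_modEq, hκ]; exact hn2
  have hz : δ ^ (q + 1) = δ ^ 2 := by
    rw [pow_eq_pow_iff_modEq, hδo]
    obtain ⟨k, rfl⟩ : ∃ k, q = k + 1 := ⟨q - 1, by omega⟩
    show (k + 1 + 1) % (k + 1 - 1) = 2 % (k + 1 - 1)
    rw [Nat.add_sub_cancel, show k + 1 + 1 = 2 + k by ring, Nat.add_mod_right]
  have hz0 : torus chevD4 (z0 q κ) * (y : GL chevD4.Idx K) = y * torus chevD4 (z0 q κ) := by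
    have h := hc _ (hpow (q + 1) 2 hz)
    have hzt : z0 q κ = tp q δ (κ ^ 2) := by rw [z0, hNκ]
    have e : psi (⟨(M ^ (q + 1), κ ^ 2), hpm _ _ hz⟩ : ↥(model f q)) = torus chevD4 (z0 q κ) := by
      rw [hzt, psi_apply, ← phi_diag_hb]
      congr 2
      apply Matrix.SpecialLinearGroup.ext
      intro i j
      have hN2 : nrm q (κ ^ 2) = δ * δ := by rw [pow_two, nrm_mul, hNκ]
      fin_cases i <;> fin_cases j <;> simp [sl, diag2, hMpow, hN2, Units.val_inv_eq_inv_val]
    rwa [e] at h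
  obtain ⟨p, hp⟩ : ∃ p : ↥(model f q), psi p = (y : GL chevD4.Idx K) := by
    rcases Nat.lt_or_ge q 3 with h3 | h3
    · obtain rfl : q = 2 := by omega
      haveI : CharP K 2 := by
        obtain ⟨p, hp⟩ := CharP.exists K
        obtain ⟨e, hpp, hpe⟩ := FiniteField.card K p
        have : p = 2 := by
          have hd : p ∣ 2 ^ 3 := by
            rw [← hK, hpe]; exact dvd_pow_self p e.pos.ne'
          exact (Nat.prime_dvd_prime_iff_eq hpp Nat.prime_two).1 (hpp.dvd_of_dvd_pow hd)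
        subst this; exact hp
      refine range_of_commute_two f hf hK hκ y.2 hz0 ?_
      let S0 : GL (Fin 2) K := Matrix.GeneralLinearGroup.mkOfDetNeZero !![(1 : K), 1; 1, 0]
        (by simp [Matrix.det_fin_two_of])
      have hS0 : (S0, (1 : Kˣ)) ∈ model f 2 := by
        refine (mem_model f).2 ⟨?_, ?_⟩
        · apply Units.ext
          ext i j
          show f ((!![(1 : K), 1; 1, 0] : Matrix (Fin 2) (Fin 2) K) i j) = (!![(1 : K), 1; 1, 0] : Matrix (Fin 2) (Fin 2) K) i j
          fin_cases i <;> fin_cases j <;> simp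
        · apply Units.ext
          show Matrix.det (!![(1 : K), 1; 1, 0] : Matrix (Fin 2) (Fin 2) K) = ((1 : Kˣ) ^ (2 ^ 2 + 2 + 1) : Kˣ)
          simp [Matrix.det_fin_two_of, CharTwo.neg_eq]
      let e9 : ↥(model f 2) := ⟨(S0, 1), hS0⟩
      have he9 : psi e9 = gw K sw := by
        rw [psi_apply]
        show phi (sl e9) * hb 2 (1 : Kˣ) = _
        rw [hb_one, mul_one, show sl e9 = ChevalleySL2.lower 1 * ChevalleySL2.upper 1 by
          apply Matrix.SpecialLinearGroup.ext
          intro i j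
          rw [Matrix.SpecialLinearGroup.coe_mul]
          fin_cases i <;> fin_cases j <;>
            simp [sl, e9, S0, nrm, ChevalleySL2.lower, ChevalleySL2.upper, Matrix.mul_apply, Fin.sum_univ_two,
              CharTwo.add_self_eq_zero], map_mul, phi_lower, phi_upper,
          show d4p2 = 14 from simples.2.1.symm.trans refl_facts.2.2.1,
          show d4m2 = 9 by decide +kernel]
        simp [gw, sw]
      have hq2 : ∀ x : K, x ^ 2 = x → x = 0 ∨ x = 1 := fun x hx => by
        rw [pow_two] at hx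
        by_cases h0 : x = 0
        · exact Or.inl h0
        · exact Or.inr (mul_left_cancel₀ h0 (hx.trans (mul_one x).symm))
      -- the element of order three is a power of the generator
      have hM3 : M ^ 3 = 1 := by
        have := pow_orderOf_eq_one M
        rwa [hMo] at this
      have hδ1 : δ = 1 := orderOf_eq_one_iff.1 hδo
      have he9b : S0 * M = M * S0 := by
        have hne : M ≠ 1 := fun h => by
          rw [h, orderOf_one] at hMo
          norm_num at hMo
        have hfix : ∀ i j, (M : Matrix (Fin 2) (Fin 2) K) i j = 0 ∨ (M : Matrix (Fin 2) (Fin 2) K) i j = 1 := fun i j =>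
          hq2 _ (by
            rw [← hf]
            exact congrArg (fun z : GL (Fin 2) K => (z : Matrix (Fin 2) (Fin 2) K) i j) hMf)
        have hd := congrArg Units.val hdet
        rw [hδ1, Units.val_one, Matrix.GeneralLinearGroup.val_det_apply, Matrix.det_fin_two] at hd
        have h3 := congrArg Units.val hM3
        rw [Units.val_pow_eq_pow_val, Units.val_one] at h3
        have hne' : (M : Matrix (Fin 2) (Fin 2) K) ≠ 1 := fun h => hne (Units.ext h)
        apply Units.ext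
        show (!![(1 : K), 1; 1, 0] : Matrix (Fin 2) (Fin 2) K) * M = M * !![(1 : K), 1; 1, 0]
        rw [Matrix.eta_fin_two (M : Matrix (Fin 2) (Fin 2) K)] at h3 hne' ⊢
        rcases hfix 0 0 with a | a <;> rcases hfix 0 1 with b | b <;> rcases hfix 1 0 with c | c <;>
          rcases hfix 1 1 with d | d <;> rw [a, b, c, d] at h3 hne' hd ⊢ <;>
          simp [pow_succ, Matrix.one_fin_two, CharTwo.add_self_eq_zero] at h3 hne' hd ⊢ <;>
          (funext i; fin_cases i; rfl)
      obtain ⟨i, hi⟩ := hMc _ ((mem_model f).1 hS0).1 he9b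
      have := hc e9 (by
        obtain ⟨n, hn⟩ := hpow i 0 (by rw [hδ1, one_pow, one_pow])
        exact ⟨n, hn.trans (Subtype.ext (Prod.ext hi.symm (pow_zero _)))⟩)
      rwa [he9] at this
    · exact range_of_commute_big f hf hK hκ h3 y.2 hz0
  have hcomm : p0 * p = p * p0 := psi_injective hf hK (by
    rw [map_mul, map_mul, hp]; exact hc p0 ⟨1, pow_one _⟩)
  obtain ⟨i, hi⟩ := hMc p.1.1 ((mem_model f).1 p.2).1 (congrArg (fun z : ↥(model f q) => z.1.1) hcomm).symm
  obtain ⟨j, hj⟩ : ∃ j : ℕ, κ ^ j = p.1.2 := by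
    have h := Subgroup.eq_top_of_card_eq (Subgroup.zpowers κ) (by
      rw [Nat.card_zpowers, hκ, TwistedField.card_units_eq, hK])
    exact (Submonoid.mem_powers_iff _ _).1 (mem_powers_iff_mem_zpowers.2 (h ▸ Subgroup.mem_top _))
  obtain ⟨n, hn⟩ := hpow i j (by
    have h := ((mem_model f).1 p.2).2
    rw [hi, map_pow, hdet, ← hj, nrm, ← pow_mul, mul_comm, pow_mul, ← nrm, hNκ] at h
    exact h)
  have hpn : p0 ^ n = p := hn.trans (Subtype.ext (Prod.ext hi.symm hj))
  have : Ψ (p0 ^ n) = y := Subtype.ext (by rw [hpn]; exact hp)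
  rw [← this, map_pow]
  exact Subgroup.pow_mem _ (Subgroup.mem_zpowers _) n

end Cfsg.Agent.TwistedD4Levi77
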