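import Cfsg.Agent.Lib.TwistedD4Gauss77

/-!
`³D₄(q)`: the nodes and the prescription of the diagonal part.
-/

set_option autoImplicit false
set_option linter.unusedSectionVars false
set_option maxRecDepth 20000

namespace Cfsg.Agent.TwistedD4Form77

open Cfsg.Lie Cfsg.Agent.ChevalleyUnipotent Cfsg.Agent.ChevalleyCert Cfsg.Agent.ChevalleyCore Cfsg.Agent.ChevalleyRoots Cfsg.Agent.ChevalleyTorus
  Cfsg.Agent.TwistedCore Cfsg.Agent.TwistedTools Cfsg.Agent.TwistedD4 Cfsg.Agent.GaussPrescribed77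
  Cfsg.Agent.TwistedD4Gauss77
open Cfsg.Agent.TwistedD4Levi77 (nrm tp_chars tp_mul tp_one nrm_pow H_exists)
open scoped MatrixGroups

variable {K : Type*} [Field K]

/-- conjugation by the long word -/
noncomputable abbrev cN (K : Type*) [Field K] : GL chevD4.Idx K ≃* GL chevD4.Idx K := MulAut.conj (n0 K)

variable [Fintype K] (q : ℕ) (f : K →+* K)

/-- the negative unipotent elements -/
noncomputable def VV : Subgroup (GL chevD4.Idx K) := (UU q).map (cN K).toMonoidHom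

/-- the negative radical of a node -/
noncomputable def VJ (J : Set ℕ) : Subgroup (GL chevD4.Idx K) := (UJ q J).map (cN K).toMonoidHom

variable {q f}

theorem mem_VV {v : GL chevD4.Idx K} : v ∈ VV q ↔ ∃ u ∈ UU q, n0 K * u * (n0 K)⁻¹ = v := by
  simp [VV, Subgroup.mem_map]

theorem mem_VJ {J : Set ℕ} {v : GL chevD4.Idx K} : v ∈ VJ q J ↔ ∃ u ∈ UJ q J, n0 K * u * (n0 K)⁻¹ = v := by
  simp [VJ, Subgroup.mem_map]

variable (hf : ∀ t, f t = t ^ q) (hK : Fintype.card K = q ^ 3)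

theorem flip_U {n : GL chevD4.Idx K} (hn : Flips n) {u : GL chevD4.Idx K} (hu : u ∈ chevD4.posUnipotent K) :
    n * u * n⁻¹ ∈ chevD4.negUnipotent K := by
  induction hu using Subgroup.closure_induction with
  | mem x hx =>
    obtain ⟨r, t, hr, hx⟩ := hx
    obtain rfl := (xg_eq_iff c4).1 hx
    obtain ⟨e, -, h⟩ := hn r hr.1
    rw [h]
    refine Subgroup.subset_closure ⟨chevD4.neg r, e * t, (isNeg c4).2 ?_, rfl⟩
    obtain ⟨h1, h2⟩ := (isPos c4).1 hr
    by_contra hc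
    have h3 := (neg_pos c4 (c4.neg_lt r)).2
    have h4 := (neg_pos c4 h2).1
    omega
  | one => simp
  | mul a b _ _ ha hb => have := mul_mem ha hb; simpa [mul_assoc] using this
  | inv a _ ha => have := inv_mem ha; simpa [mul_assoc] using this

include hf in
theorem VV_le : VV (K := K) q ≤ twistedD4 K q := by
  intro v hv
  obtain ⟨u, hu, rfl⟩ := mem_VV.1 hv
  exact mul_mem (mul_mem (n0_mem hf) hu.2) (inv_mem (n0_mem hf))

theorem UU_inf_VV : UU (K := K) q ⊓ VV q = ⊥ := by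
  rw [eq_bot_iff]
  rintro g ⟨h1, h2⟩
  obtain ⟨u, hu, rfl⟩ := mem_VV.1 h2
  have h : n0 K * u * (n0 K)⁻¹ ∈ chevD4.borelSubgroup K ⊓ chevD4.negUnipotent K :=
    Subgroup.mem_inf.2 ⟨Subgroup.mem_sup_left h1.1, flip_U flips_n0 hu.1⟩
  rwa [B_inf_V c4] at h

/-- the conjugate of an element of `VJ` -/
theorem normV_of {J : Set ℕ} {g : GL chevD4.Idx K}
    (h : ∀ u ∈ UJ q J, ((n0 K)⁻¹ * g * n0 K) * u * ((n0 K)⁻¹ * g * n0 K)⁻¹ ∈ UJ q J) {v : GL chevD4.Idx K}
    (hv : v ∈ VJ q J) : g * v * g⁻¹ ∈ VJ q J := by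
  obtain ⟨u, hu, rfl⟩ := mem_VJ.1 hv
  exact mem_VJ.2 ⟨_, h u hu, by group⟩

include hf in
theorem normU_S (A : SL(2, K)) {u : GL chevD4.Idx K} (hu : u ∈ UJ q JS) :
    phiS f A * u * (phiS f A)⁻¹ ∈ UJ q JS :=
  Subgroup.mem_inf.2 ⟨levi_norm (phiS_levi A) hu.1, mul_mem (mul_mem (phiS_mem hf A) hu.2) (inv_mem (phiS_mem hf A))⟩

include hf in
theorem normU_L (A : SL(2, F0 f)) {u : GL chevD4.Idx K} (hu : u ∈ UJ q JL) :
    phiL f A * u * (phiL f A)⁻¹ ∈ UJ q JL :=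
  Subgroup.mem_inf.2 ⟨levi_norm (phiL_levi A) hu.1, mul_mem (mul_mem (phiL_mem hf A) hu.2) (inv_mem (phiL_mem hf A))⟩

include hf hK in
theorem normV_S (A : SL(2, K)) {v : GL chevD4.Idx K} (hv : v ∈ VJ q JS) :
    phiS f A * v * (phiS f A)⁻¹ ∈ VJ q JS := by
  refine normV_of (fun u hu => ?_) hv
  obtain ⟨B, hB⟩ := flip_phiS hf hK (flips_inv flips_n0) (inv_mem (n0_mem hf)) A
  rw [inv_inv] at hB
  rw [← hB]
  exact normU_S hf B hu

include hf in
theorem normV_L (A : SL(2, F0 f)) {v : GL chevD4.Idx K} (hv : v ∈ VJ q JL) :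
    phiL f A * v * (phiL f A)⁻¹ ∈ VJ q JL := by
  refine normV_of (fun u hu => ?_) hv
  obtain ⟨B, hB⟩ := flip_phiL hf (flips_inv flips_n0) A
  rw [inv_inv] at hB
  rw [← hB]
  exact normU_L hf B hu

include hf hK in
theorem exists_ab {h : GL chevD4.Idx K} (hh : h ∈ HH q) : ∃ a b : Kˣ, a ^ q = a ∧ tor q a b = h :=
  H_exists hf hK hh.1 hh.2

include hf in
theorem tor_mem {a : Kˣ} (ha : a ^ q = a) (b : Kˣ) : tor q a b ∈ HH q :=
  ⟨torus_mem_H c4 _, torus_tp_mem f hf ha b⟩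

theorem rootVal_tor (a b : Kˣ) (i : ℕ) (hi : i < chevD4.rank) :
    ChevGauss77.rootVal chevD4 (chevD4.simple i) (tor q a b) = tchar chevD4 (tp q a b) (chevD4.simple i) :=
  ChevGauss77.rootVal_torus (simple_lt c4 hi) _

open Classical in
/-- the value at the long fundamental root -/
noncomputable def alphaL (h : GL chevD4.Idx K) : (F0 f)ˣ :=
  if hm : ((ChevGauss77.rootVal chevD4 (chevD4.simple 1) h : Kˣ) : K) ∈ F0 f then
    Units.mk0 ⟨_, hm⟩ (fun e => Units.ne_zero (ChevGauss77.rootVal chevD4 (chevD4.simple 1) h) (congrArg Subtype.val e))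
  else 1

include hf hK in
theorem alphaL_tor {a : Kˣ} (ha : a ^ q = a) (b : Kˣ) :
    Units.map (F0 f).subtype.toMonoidHom (alphaL (f := f) (tor q a b)) = a ^ 2 * (nrm q b)⁻¹ := by
  have e : ChevGauss77.rootVal chevD4 (chevD4.simple 1) (tor q a b) = a ^ 2 * (nrm q b)⁻¹ := by
    rw [rootVal_tor a b 1 (by decide), (tp_chars a b).2.1]
  have hm : (((a ^ 2 * (nrm q b)⁻¹ : Kˣ)) : K) ∈ F0 f := by
    rw [mem_F0 hf, ← Units.val_pow_eq_pow_val, mul_pow, ← pow_mul, mul_comm 2 q, pow_mul, ha, inv_pow,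
      nrm_pow hK]
  apply Units.ext
  rw [alphaL, dif_pos (by rw [e]; exact hm)]
  show ((ChevGauss77.rootVal chevD4 (chevD4.simple 1) (tor q a b) : Kˣ) : K) = _
  rw [e]

include hf hK in
/-- the short node -/
noncomputable def nodeS : Node (UU (K := K) q) (VV q) (HH q) K where
  φ := phiS f
  Ui := UJ q JS
  Vi := VJ q JS
  α := ChevGauss77.rootVal chevD4 (chevD4.simple 0)
  Ui_le := UJ_le JS
  Vi_le := Subgroup.map_mono (UJ_le JS)
  up_mem e := by
    refine ⟨?_, phiS_mem hf _⟩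
    rw [phiS_up hf]
    exact mul_mem (mul_mem (xg_mem_U c4 (by decide +kernel) (by decide +kernel) _)
      (xg_mem_U c4 (by decide +kernel) (by decide +kernel) _)) (xg_mem_U c4 (by decide +kernel) (by decide +kernel) _)
  lo_mem c := by
    obtain ⟨B, hB⟩ := flip_phiS hf hK (flips_inv flips_n0) (inv_mem (n0_mem hf)) (lo c)
    rw [inv_inv] at hB
    refine mem_VV.2 ⟨phiS f B, ⟨?_, phiS_mem hf _⟩, by rw [hB]; group⟩
    obtain ⟨-, -, -, -, g1, -, g3, g4⟩ := simples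
    obtain ⟨x, -, h1⟩ := flips_inv (flips_n0 (K := K)) d4m1 (by decide +kernel)
    obtain ⟨y, -, h3⟩ := flips_inv (flips_n0 (K := K)) d4m3 (by decide +kernel)
    obtain ⟨z, -, h4⟩ := flips_inv (flips_n0 (K := K)) d4m4 (by decide +kernel)
    rw [inv_inv, ← g1, neg_neg' c4 (by decide +kernel)] at h1
    rw [inv_inv, ← g3, neg_neg' c4 (by decide +kernel)] at h3
    rw [inv_inv, ← g4, neg_neg' c4 (by decide +kernel)] at h4
    have e : phiS f B = tri (x * c) (y * c ^ q) (z * c ^ q ^ 2) := by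
      rw [hB, phiS_lo hf, trin, tri, ← g1, ← g3, ← g4, ← h1, ← h3, ← h4]; group
    rw [e]
    exact mul_mem (mul_mem (xg_mem_U c4 (by decide +kernel) (by decide +kernel) _)
      (xg_mem_U c4 (by decide +kernel) (by decide +kernel) _)) (xg_mem_U c4 (by decide +kernel) (by decide +kernel) _)
  dia_mem t := by rw [phiS_dia hf]; exact tor_mem hf (one_pow q) t
  U_split u hu := split_S hf hK hu
  V_split v hv := by
    obtain ⟨u, hu, rfl⟩ := mem_VV.1 hv
    obtain ⟨e, w, hw, rfl⟩ := split_S hf hK hu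
    obtain ⟨-, -, -, -, g1, -, g3, g4⟩ := simples
    obtain ⟨B, hB⟩ := flip_phiS hf hK flips_n0 (n0_mem hf) (up e)
    obtain ⟨x, -, h1⟩ := flips_n0 (K := K) d4p1 (by decide +kernel)
    obtain ⟨y, -, h3⟩ := flips_n0 (K := K) d4p3 (by decide +kernel)
    obtain ⟨z, -, h4⟩ := flips_n0 (K := K) d4p4 (by decide +kernel)
    have hfx := le_fixed f hf hK (hB ▸ phiS_mem hf B)
    have e0 : n0 K * phiS f (up e) * (n0 K)⁻¹ = trin (x * e) (y * e ^ q) (z * e ^ q ^ 2) := by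
      rw [phiS_up hf, trin, tri, ← g1, ← g3, ← g4, ← h1, ← h3, ← h4]; group
    rw [e0] at hfx
    have e1 := hfx.2
    rw [(sg_tri f hf hK _ _ _).2] at e1
    obtain ⟨-, e2, e3⟩ := trin_inj e1
    have e4 : n0 K * phiS f (up e) * (n0 K)⁻¹ = phiS f (lo (x * e)) := by
      rw [e0, phiS_lo hf, ← e3, ← e2, ← pow_mul, pow_two]
    have hw' : n0 K * w * (n0 K)⁻¹ ∈ VJ q JS := mem_VJ.2 ⟨w, hw, rfl⟩
    exact ⟨x * e, _, normV_S hf hK (lo (x * e)) hw', by rw [inv_mul_cancel_right, ← e4]; group⟩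
  normU A u hu := normU_S hf A hu
  normV A v hv := normV_S hf hK A hv
  H_conj h hh A := by
    obtain ⟨a, b, ha, rfl⟩ := exists_ab hf hK hh
    obtain ⟨t0, -, t2, t3⟩ := tp_chars (q := q) a b
    have hH : tor q a b ∈ chevD4.diagonalSubgroup K := torus_mem_H c4 _
    have h0 := (nodeD (nd 0)).H_conj _ hH A
    have h2 := (nodeD (nd 2)).H_conj _ hH (smap f A)
    have h3 := (nodeD (nd 3)).H_conj _ hH (smap f (smap f A))
    have a0 : (nodeD (nd 0)).α (tor q a b) = b ^ 2 * a⁻¹ := (rootVal_tor a b 0 (by decide)).trans t0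
    have a2 : (nodeD (nd 2)).α (tor q a b) = (b ^ q) ^ 2 * a⁻¹ := (rootVal_tor a b 2 (by decide)).trans t2
    have a3 : (nodeD (nd 3)).α (tor q a b) = (b ^ q ^ 2) ^ 2 * a⁻¹ := (rootVal_tor a b 3 (by decide)).trans t3
    rw [a0] at h0
    rw [a2] at h2
    rw [a3] at h3
    have r2 : (b ^ q) ^ 2 * a⁻¹ = Units.map f.toMonoidHom (b ^ 2 * a⁻¹) := by
      rw [f_units f hf, mul_pow, inv_pow, ha, ← pow_mul, ← pow_mul, mul_comm q 2]
    have r3 : (b ^ q ^ 2) ^ 2 * a⁻¹ = Units.map f.toMonoidHom (Units.map f.toMonoidHom (b ^ 2 * a⁻¹)) := by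
      rw [← r2, f_units f hf, mul_pow, inv_pow, ha]
      simp only [← pow_mul]
      congr 2
      ring
    rw [rootVal_tor a b 0 (by decide), t0]
    show tor q a b * ((nodeD (nd 0)).φ A * (nodeD (nd 2)).φ (smap f A) * (nodeD (nd 3)).φ (smap f (smap f A))) *
      (tor q a b)⁻¹ = (nodeD (nd 0)).φ (dconj (b ^ 2 * a⁻¹) A) * (nodeD (nd 2)).φ (smap f (dconj (b ^ 2 * a⁻¹) A)) *
        (nodeD (nd 3)).φ (smap f (smap f (dconj (b ^ 2 * a⁻¹) A)))
    rw [smap_dconj, smap_dconj, ← r3, ← r2, ← h0, ← h2, ← h3]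
    group

include hf hK in
/-- the long node -/
noncomputable def nodeL : Node (UU (K := K) q) (VV q) (HH q) (F0 f) where
  φ := phiL f
  Ui := UJ q JL
  Vi := VJ q JL
  α := alphaL
  Ui_le := UJ_le JL
  Vi_le := Subgroup.map_mono (UJ_le JL)
  up_mem e := by
    refine ⟨?_, phiL_mem hf _⟩
    rw [phiL_up]
    exact xg_mem_U c4 (by decide +kernel) (by decide +kernel) _
  lo_mem c := by
    obtain ⟨B, hB⟩ := flip_phiL hf (flips_inv flips_n0) (lo c)
    rw [inv_inv] at hB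
    refine mem_VV.2 ⟨phiL f B, ⟨?_, phiL_mem hf _⟩, by rw [hB]; group⟩
    obtain ⟨-, -, -, -, -, g2, -, -⟩ := simples
    obtain ⟨x, -, h⟩ := flips_inv (flips_n0 (K := K)) d4m2 (by decide +kernel)
    rw [inv_inv, ← g2, neg_neg' c4 (by decide +kernel), g2] at h
    rw [hB, phiL_lo, h]
    exact xg_mem_U c4 (by decide +kernel) (by decide +kernel) _
  dia_mem t := by
    rw [phiL_dia (q := q)]
    refine tor_mem hf ?_ 1
    apply Units.ext
    rw [Units.val_pow_eq_pow_val]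
    exact (mem_F0 hf).1 (t : F0 f).2
  U_split u hu := split_L hf hK hu
  V_split v hv := by
    obtain ⟨u, hu, rfl⟩ := mem_VV.1 hv
    obtain ⟨e, w, hw, rfl⟩ := split_L hf hK hu
    obtain ⟨-, -, -, -, -, g2, -, -⟩ := simples
    obtain ⟨x, hx, h⟩ := flips_n0 (K := K) d4p2 (by decide +kernel)
    rw [g2] at h
    let c : F0 f := ⟨x * e, mul_mem ((mem_F0 hf).2 (unit_pow_eq hx hf)) e.2⟩
    have e4 : n0 K * phiL f (up e) * (n0 K)⁻¹ = phiL f (lo c) := by rw [phiL_up, h, phiL_lo]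
    have hw' : n0 K * w * (n0 K)⁻¹ ∈ VJ q JL := mem_VJ.2 ⟨w, hw, rfl⟩
    exact ⟨c, _, normV_L hf (lo c) hw', by rw [inv_mul_cancel_right, ← e4]; group⟩
  normU A u hu := normU_L hf A hu
  normV A v hv := normV_L hf A hv
  H_conj h hh A := by
    obtain ⟨a, b, ha, rfl⟩ := exists_ab hf hK hh
    have hH : tor q a b ∈ chevD4.diagonalSubgroup K := torus_mem_H c4 _
    have h1 := (nodeD (nd 1)).H_conj _ hH (Matrix.SpecialLinearGroup.map (F0 f).subtype A)
    have a1 : (nodeD (nd 1)).α (tor q a b) = a ^ 2 * (nrm q b)⁻¹ :=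
      (rootVal_tor a b 1 (by decide)).trans (tp_chars a b).2.1
    rw [a1, ← alphaL_tor hf hK ha b] at h1
    refine h1.trans ?_
    show (nodeD (nd 1)).φ _ = (nodeD (nd 1)).φ _
    congr 1
    ext i j
    fin_cases i <;> fin_cases j <;> simp

include hf hK in
/-- the field of a node -/
theorem gen_words : twistedD4 K q ≤ (nodeS hf hK).φ.range ⊔ (nodeL hf hK).φ.range := by
  refine gen_le c4 ?_
  rintro w (⟨t, ht, r, hr, rfl⟩ | ⟨t, rs, hrs, rfl⟩)
  · refine Subgroup.mem_sup_right ?_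
    simp only [List.mem_cons, List.not_mem_nil, or_false] at hr
    rcases hr with rfl | rfl
    · exact ⟨up ⟨t, (mem_F0 hf).2 ht⟩, by simp [nodeL, wg, phiL_up]⟩
    · exact ⟨lo ⟨t, (mem_F0 hf).2 ht⟩, by simp [nodeL, wg, phiL_lo]⟩
  · refine Subgroup.mem_sup_left ?_
    simp only [List.mem_cons, List.not_mem_nil, or_false] at hrs
    rcases hrs with rfl | rfl
    · exact ⟨up t, by simp [nodeS, wg, phiS_up hf, tri, mul_assoc]⟩
    · exact ⟨lo t, by simp [nodeS, wg, phiS_lo hf, trin, mul_assoc]⟩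

/-- `g` is conjugate to a form with the given diagonal part -/
def Form (q : ℕ) (g : GL chevD4.Idx K) (a b : Kˣ) : Prop :=
  ∃ k ∈ twistedD4 K q, ∃ v ∈ VV q, ∃ u ∈ UU q, k * g * k⁻¹ = v * tor q a b * u

/-- nondegenerate at the short node -/
def FormS (g : GL chevD4.Idx K) (a b : Kˣ) : Prop :=
  ∃ k ∈ twistedD4 K q, ∃ v ∈ VV q, ∃ u ∈ UU q,
    k * g * k⁻¹ = v * tor q a b * u ∧ (nodeS hf hK).Nondeg v (tor q a b) u

/-- nondegenerate at the long node -/
def FormL (g : GL chevD4.Idx K) (a b : Kˣ) : Prop :=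
  ∃ k ∈ twistedD4 K q, ∃ v ∈ VV q, ∃ u ∈ UU q,
    k * g * k⁻¹ = v * tor q a b * u ∧ (nodeL hf hK).Nondeg v (tor q a b) u

theorem FormS.form {g : GL chevD4.Idx K} {a b : Kˣ} (h : FormS hf hK g a b) : Form q g a b := by
  obtain ⟨k, hk, v, hv, u, hu, e, -⟩ := h
  exact ⟨k, hk, v, hv, u, hu, e⟩

theorem FormL.form {g : GL chevD4.Idx K} {a b : Kˣ} (h : FormL hf hK g a b) : Form q g a b := by
  obtain ⟨k, hk, v, hv, u, hu, e, -⟩ := h
  exact ⟨k, hk, v, hv, u, hu, e⟩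

theorem Form.nondeg_S {g : GL chevD4.Idx K} {a b : Kˣ} (h : Form q g a b) (hne : b ^ 2 ≠ a) :
    FormS hf hK g a b := by
  obtain ⟨k, hk, v, hv, u, hu, e⟩ := h
  refine ⟨k, hk, v, hv, u, hu, e, Or.inl ?_⟩
  show ChevGauss77.rootVal chevD4 (chevD4.simple 0) (tor q a b) ≠ 1
  rw [rootVal_tor a b 0 (by decide), (tp_chars a b).1, Ne, mul_inv_eq_one]
  exact hne

theorem Form.nondeg_L {g : GL chevD4.Idx K} {a b : Kˣ} (h : Form q g a b) (ha : a ^ q = a)
    (hne : a ^ 2 ≠ nrm q b) : FormL hf hK g a b := by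
  obtain ⟨k, hk, v, hv, u, hu, e⟩ := h
  refine ⟨k, hk, v, hv, u, hu, e, Or.inl fun h1 => hne ?_⟩
  have h2 := alphaL_tor hf hK ha b
  change alphaL (tor q a b) = 1 at h1
  rw [h1, map_one, eq_comm, mul_inv_eq_one] at h2
  exact h2

theorem step_S {g : GL chevD4.Idx K} {a b : Kˣ} (ha : a ^ q = a) (h : FormS hf hK g a b) (b' : Kˣ) :
    Form q g a b' := by
  obtain ⟨k, hk, v, hv, u, hu, e, hn⟩ := h
  obtain ⟨k', hk', v', hv', u', hu', e'⟩ := (nodeS hf hK).step hv (tor_mem hf ha b) hu hn (b' * b⁻¹)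
  obtain ⟨A, rfl⟩ := hk'
  refine ⟨_, mul_mem (phiS_mem hf A) hk, v', hv', u', hu', ?_⟩
  have e2 : (nodeS hf hK).φ (dia (b' * b⁻¹)) * tor q a b = tor q a b' := by
    show phiS f _ * _ = _
    rw [phiS_dia hf, tor_mul, one_mul, inv_mul_cancel_right]
  rw [e2] at e'
  show phiS f A * k * g * (phiS f A * k)⁻¹ = _
  rw [← e', ← e]
  show _ = phiS f A * _ * (phiS f A)⁻¹
  group

theorem step_L {g : GL chevD4.Idx K} {a b : Kˣ} (ha : a ^ q = a) (h : FormL hf hK g a b) (a' : Kˣ)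
    (ha' : a' ^ q = a') : Form q g a' b := by
  obtain ⟨k, hk, v, hv, u, hu, e, hn⟩ := h
  have hm : ((a' * a⁻¹ : Kˣ) : K) ∈ F0 f := by
    rw [mem_F0 hf, ← Units.val_pow_eq_pow_val, mul_pow, inv_pow, ha, ha']
  let t : (F0 f)ˣ := Units.mk0 ⟨_, hm⟩ fun e => Units.ne_zero (a' * a⁻¹) (congrArg Subtype.val e)
  obtain ⟨k', hk', v', hv', u', hu', e'⟩ := (nodeL hf hK).step hv (tor_mem hf ha b) hu hn t
  obtain ⟨A, rfl⟩ := hk'
  refine ⟨_, mul_mem (phiL_mem hf A) hk, v', hv', u', hu', ?_⟩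
  have e2 : (nodeL hf hK).φ (dia t) * tor q a b = tor q a' b := by
    show phiL f _ * _ = _
    rw [phiL_dia (q := q), tor_mul, one_mul]
    congr 1
    apply Units.ext
    show ((a' * a⁻¹ : Kˣ) : K) * (a : K) = _
    rw [← Units.val_mul, inv_mul_cancel_right]
  rw [e2] at e'
  show phiL f A * k * g * (phiL f A * k)⁻¹ = _
  rw [← e', ← e]
  show _ = phiL f A * _ * (phiL f A)⁻¹
  group

include hf hK in
/-- the nodes as one family -/
theorem start {g : GL chevD4.Idx K} (hg : g ∈ twistedD4 K q) (hne : g ≠ 1) :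
    ∃ a b : Kˣ, a ^ q = a ∧ (FormS hf hK g a b ∨ FormL hf hK g a b) := by
  by_contra hno
  push Not at hno
  let G1 := (nodeS hf hK).φ.range ⊔ (nodeL hf hK).φ.range
  have hG : G1 = twistedD4 K q := le_antisymm (sup_le (by rintro _ ⟨A, rfl⟩; exact phiS_mem hf A)
    (by rintro _ ⟨A, rfl⟩; exact phiL_mem hf A)) (gen_words hf hK)
  have key : ∃ u ∈ UU q, ∃ v ∈ VV q, ∃ h ∈ HH q, ∃ u' ∈ UU q, g = u * v * h * u' := by
    clear hno hne
    rw [← hG] at hg
    simp only [G1, Subgroup.sup_eq_closure] at hg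
    induction hg using Subgroup.closure_induction_left with
    | one => exact ⟨1, one_mem _, 1, one_mem _, 1, one_mem _, 1, one_mem _, by group⟩
    | mul_left x hx y _ ih =>
      rcases hx with ⟨A, rfl⟩ | ⟨A, rfl⟩
      · exact (nodeS hf hK).mul_big A ih
      · exact (nodeL hf hK).mul_big A ih
    | inv_mul_cancel x hx y _ ih =>
      rcases hx with ⟨A, rfl⟩ | ⟨A, rfl⟩
      · rw [← map_inv]; exact (nodeS hf hK).mul_big A⁻¹ ih
      · rw [← map_inv]; exact (nodeL hf hK).mul_big A⁻¹ ih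
  obtain ⟨u0, hu0, v, hv, h, hh, u1, hu1, rfl⟩ := key
  set g := u0 * v * h * u1 with hgd
  have deg : ∀ {k v h u : GL chevD4.Idx K}, k ∈ twistedD4 K q → v ∈ VV q → h ∈ HH q → u ∈ UU q →
      k * g * k⁻¹ = v * h * u → h = 1 ∧ (v ∈ VJ q JS ∧ u ∈ UJ q JS) ∧ (v ∈ VJ q JL ∧ u ∈ UJ q JL) := by
    intro k v h u hk hv hh hu e
    obtain ⟨a, b, ha, rfl⟩ := exists_ab hf hK hh
    obtain ⟨nS, nL⟩ := hno a b ha
    have dS : ¬ (nodeS hf hK).Nondeg v (tor q a b) u := fun hn => nS ⟨k, hk, v, hv, u, hu, e, hn⟩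
    have dL : ¬ (nodeL hf hK).Nondeg v (tor q a b) u := fun hn => nL ⟨k, hk, v, hv, u, hu, e, hn⟩
    simp only [Node.Nondeg, not_or, not_not] at dS dL
    refine ⟨?_, ⟨dS.2.1, dS.2.2⟩, ⟨dL.2.1, dL.2.2⟩⟩
    have e0 : b ^ 2 = a := by
      have := dS.1
      change ChevGauss77.rootVal chevD4 (chevD4.simple 0) (tor q a b) = 1 at this
      rwa [rootVal_tor a b 0 (by decide), (tp_chars a b).1, mul_inv_eq_one] at this
    have e1 : a ^ 2 = nrm q b := by
      have h2 := alphaL_tor hf hK ha b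
      have := dL.1
      change alphaL (tor q a b) = 1 at this
      rw [this, map_one, eq_comm, mul_inv_eq_one] at h2
      exact h2
    rw [tor, torus_eq_one_iff c4]
    intro j
    obtain ⟨t0, t1, t2, t3⟩ := tp_chars (q := q) a b
    have hj : j = nd 0 ∨ j = nd 1 ∨ j = nd 2 ∨ j = nd 3 := by revert j; decide
    have hq2 : a ^ q ^ 2 = a := by rw [pow_two, pow_mul, ha, ha]
    rcases hj with rfl | rfl | rfl | rfl
    · rw [t0, e0, mul_inv_cancel]
    · rw [t1, e1, mul_inv_cancel]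
    · rw [t2, pow_right_comm, e0, ha, mul_inv_cancel]
    · rw [t3, pow_right_comm, e0, hq2, mul_inv_cancel]
  have e0 : u0⁻¹ * g * u0⁻¹⁻¹ = v * h * (u1 * u0) := by rw [hgd]; group
  obtain ⟨rfl, -, -⟩ := deg (inv_mem hu0.2) hv hh (mul_mem hu1 hu0) e0
  rw [mul_one] at e0
  set k0 := u0⁻¹
  set u := u1 * u0
  have stable : ∀ k ∈ G1, k ∈ twistedD4 K q ∧ k * v * k⁻¹ ∈ VV q ∧ k * u * k⁻¹ ∈ UU q := by
    intro k hk
    refine ⟨hG ▸ hk, ?_⟩
    simp only [G1, Subgroup.sup_eq_closure] at hk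
    induction hk using Subgroup.closure_induction_left with
    | one => simpa using ⟨hv, mul_mem hu1 hu0⟩
    | mul_left x hx y hy ih =>
      have hy' : y ∈ twistedD4 K q := by rw [← hG]; simpa only [G1, Subgroup.sup_eq_closure] using hy
      obtain ⟨-, hS, hL⟩ := deg (k := y * k0) (mul_mem hy' (inv_mem hu0.2)) ih.1 (one_mem _) ih.2 (by
        calc y * k0 * g * (y * k0)⁻¹ = y * (k0 * g * k0⁻¹) * y⁻¹ := by group
          _ = _ := by rw [e0]; group)
      rcases hx with ⟨A, rfl⟩ | ⟨A, rfl⟩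
      · exact ⟨by simpa [mul_assoc] using (nodeS hf hK).Vi_le ((nodeS hf hK).normV A _ hS.1),
          by simpa [mul_assoc] using (nodeS hf hK).Ui_le ((nodeS hf hK).normU A _ hS.2)⟩
      · exact ⟨by simpa [mul_assoc] using (nodeL hf hK).Vi_le ((nodeL hf hK).normV A _ hL.1),
          by simpa [mul_assoc] using (nodeL hf hK).Ui_le ((nodeL hf hK).normU A _ hL.2)⟩
    | inv_mul_cancel x hx y hy ih =>
      have hy' : y ∈ twistedD4 K q := by rw [← hG]; simpa only [G1, Subgroup.sup_eq_closure] using hy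
      obtain ⟨-, hS, hL⟩ := deg (k := y * k0) (mul_mem hy' (inv_mem hu0.2)) ih.1 (one_mem _) ih.2 (by
        calc y * k0 * g * (y * k0)⁻¹ = y * (k0 * g * k0⁻¹) * y⁻¹ := by group
          _ = _ := by rw [e0]; group)
      rcases hx with ⟨A, rfl⟩ | ⟨A, rfl⟩
      · exact ⟨by simpa [mul_assoc] using (nodeS hf hK).Vi_le ((nodeS hf hK).normV A⁻¹ _ hS.1),
          by simpa [mul_assoc] using (nodeS hf hK).Ui_le ((nodeS hf hK).normU A⁻¹ _ hS.2)⟩
      · exact ⟨by simpa [mul_assoc] using (nodeL hf hK).Vi_le ((nodeL hf hK).normV A⁻¹ _ hL.1),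
          by simpa [mul_assoc] using (nodeL hf hK).Ui_le ((nodeL hf hK).normU A⁻¹ _ hL.2)⟩
  have hn : n0 K ∈ G1 := hG ▸ n0_mem hf
  have hu2 : u = 1 := by
    have h1 : n0 K * u * (n0 K)⁻¹ ∈ UU q ⊓ VV q :=
      ⟨(stable _ hn).2.2, mem_VV.2 ⟨u, mul_mem hu1 hu0, rfl⟩⟩
    rw [UU_inf_VV, Subgroup.mem_bot, mul_inv_eq_one, mul_eq_left] at h1
    exact h1
  have hv2 : v = 1 := by
    obtain ⟨w, hw, ew⟩ := mem_VV.1 hv
    have h2 : (n0 K)⁻¹ * v * n0 K = w := by rw [← ew]; group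
    have h1 : (n0 K)⁻¹ * v * n0 K ∈ UU q ⊓ VV q :=
      ⟨h2 ▸ hw, by simpa using (stable _ (inv_mem hn)).2.1⟩
    rw [UU_inf_VV, Subgroup.mem_bot] at h1
    calc v = n0 K * ((n0 K)⁻¹ * v * n0 K) * (n0 K)⁻¹ := by group
      _ = 1 := by rw [h1]; group
  rw [hu2, hv2, mul_one, mul_inv_eq_one, mul_eq_left] at e0
  exact hne e0

end Cfsg.Agent.TwistedD4Form77
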