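import Cfsg.Agent.Lib.ChevGauss77
import Cfsg.Agent.Lib.ChevalleyParabolic
import Cfsg.Agent.Lib.TwistedD4Levi77

/-!
`³D₄(q)`: the two nodes of the twisted Gauss decomposition and prescribed diagonal parts.
-/

set_option autoImplicit false
set_option linter.unusedSectionVars false
set_option maxRecDepth 20000

namespace Cfsg.Agent.TwistedD4Gauss77

open Cfsg.Lie Cfsg.Agent.ChevalleyCert Cfsg.Agent.ChevalleyCore Cfsg.Agent.ChevalleyRoots Cfsg.Agent.ChevalleyTorus
  Cfsg.Agent.TwistedCore Cfsg.Agent.TwistedTools Cfsg.Agent.TwistedD4 Cfsg.Agent.ChevBruhat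
  Cfsg.Agent.GaussPrescribed77 Cfsg.Agent.ChevalleyParabolic
open Cfsg.Agent.TwistedD4Levi77 (nrm tp_chars tp_mul tp_one nrm_pow H_exists)
open scoped MatrixGroups

variable {K : Type*} [Field K]

theorem closure_commute {M : Type*} [Group M] {A B : Set M} (h : ∀ a ∈ A, ∀ b ∈ B, Commute a b) {x y : M}
    (hx : x ∈ Subgroup.closure A) (hy : y ∈ Subgroup.closure B) : Commute x y := by
  have h1 : Subgroup.closure A ≤ Subgroup.centralizer B := (Subgroup.closure_le _).2 fun a ha => by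
    rw [SetLike.mem_coe, Subgroup.mem_centralizer_iff]
    exact fun b hb => (h a ha b hb).symm.eq
  have h2 : Subgroup.closure B ≤ Subgroup.centralizer ({x} : Set M) := (Subgroup.closure_le _).2 fun b hb => by
    rw [SetLike.mem_coe, Subgroup.mem_centralizer_singleton_iff]
    exact Subgroup.mem_centralizer_iff.1 (h1 hx) b hb
  exact (Subgroup.mem_centralizer_singleton_iff.1 (h2 hy)).symm

/-- the node of a fundamental root of `D₄` -/
noncomputable abbrev nodeD (i : Fin chevD4.rank) :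
    Node (chevD4.posUnipotent K) (chevD4.negUnipotent K) (chevD4.diagonalSubgroup K) K :=
  ChevGauss77.node c4 i

theorem nodeD_up (i : Fin chevD4.rank) (t : K) : (nodeD i).φ (up t) = xg c4 (chevD4.simple i.val) t :=
  ChevGauss77.phi_up c4 (simple_lt c4 i.isLt) t

theorem nodeD_lo (i : Fin chevD4.rank) (t : K) :
    (nodeD i).φ (lo t) = xg c4 (chevD4.neg (chevD4.simple i.val)) t :=
  ChevGauss77.phi_lo c4 (simple_lt c4 i.isLt) t

theorem nodeD_dia (i : Fin chevD4.rank) (t : Kˣ) : (nodeD i).φ (dia t) = torus chevD4 (Pi.mulSingle i t) :=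
  (ChevGauss77.phi_dia c4 (simple_lt c4 i.isLt) t).trans (hg_simple c4 t)

theorem outer_pairs : ∀ i j : Fin chevD4.rank, i.val ≠ 1 → j.val ≠ 1 → i ≠ j →
    ∀ r ∈ [chevD4.simple i.val, chevD4.neg (chevD4.simple i.val)],
    ∀ s ∈ [chevD4.simple j.val, chevD4.neg (chevD4.simple j.val)], (r, s) ∈ orth ∨ (s, r) ∈ orth := by
  decide +kernel

theorem nodeD_comm {i j : Fin chevD4.rank} (hi : i.val ≠ 1) (hj : j.val ≠ 1) (hij : i ≠ j) (A B : SL(2, K)) :
    Commute ((nodeD i).φ A) ((nodeD j).φ B) := by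
  have hr : ∀ k : Fin chevD4.rank, ∀ C : SL(2, K), (nodeD k).φ C ∈
      Subgroup.closure (Set.range (fun t : K => xg c4 (chevD4.simple k.val) t) ∪
        Set.range fun t : K => xg c4 (chevD4.neg (chevD4.simple k.val)) t) := fun k C => by
    rw [← ChevalleySL2.range_phi (ChevalleyRankOne.rels c4 (simple_lt c4 k.isLt))]
    exact ⟨C, rfl⟩
  refine closure_commute ?_ (hr i A) (hr j B)
  rintro a (⟨t, rfl⟩ | ⟨t, rfl⟩) b (⟨s, rfl⟩ | ⟨s, rfl⟩) <;>
    exact comm (outer_pairs i j hi hj hij _ (by simp) _ (by simp)) t s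

section twisted

variable (q : ℕ) [Fintype K] (f : K →+* K)

/-- the fixed field -/
abbrev F0 : Subfield K := RingHom.eqLocusField f (RingHom.id K)

/-- entrywise application of the field map -/
abbrev smap : SL(2, K) →* SL(2, K) := Matrix.SpecialLinearGroup.map f

theorem smap_up (t : K) : smap f (up t) = up (f t) := by
  ext i j; fin_cases i <;> fin_cases j <;> simp [smap]

theorem smap_lo (t : K) : smap f (lo t) = lo (f t) := by
  ext i j; fin_cases i <;> fin_cases j <;> simp [smap]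

theorem smap_dia (t : Kˣ) : smap f (dia t) = dia (Units.map f.toMonoidHom t) := by
  ext i j; fin_cases i <;> fin_cases j <;> simp [smap]

theorem smap_dconj (a : Kˣ) (A : SL(2, K)) :
    smap f (dconj a A) = dconj (Units.map f.toMonoidHom a) (smap f A) := by
  ext i j; fin_cases i <;> fin_cases j <;> simp [smap]

/-- the rank-one map of the short node -/
noncomputable def phiS : SL(2, K) →* GL chevD4.Idx K :=
  MonoidHom.mk' (fun A => (nodeD (nd 0)).φ A * (nodeD (nd 2)).φ (smap f A) * (nodeD (nd 3)).φ (smap f (smap f A)))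
    fun A B => by
      simp only [map_mul]
      have h1 := nodeD_comm (K := K) (i := nd 0) (j := nd 2) (by decide) (by decide) (by decide) B (smap f A)
      have h2 := nodeD_comm (K := K) (i := nd 0) (j := nd 3) (by decide) (by decide) (by decide) B (smap f (smap f A))
      have h3 := nodeD_comm (K := K) (i := nd 2) (j := nd 3) (by decide) (by decide) (by decide) (smap f B)
        (smap f (smap f A))
      generalize (nodeD (nd 0)).φ A = a0, (nodeD (nd 0)).φ B = b0 at *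
      generalize (nodeD (nd 2)).φ (smap f A) = a2, (nodeD (nd 2)).φ (smap f B) = b2 at *
      generalize (nodeD (nd 3)).φ (smap f (smap f A)) = a3, (nodeD (nd 3)).φ (smap f (smap f B)) = b3 at *
      calc a0 * b0 * (a2 * b2) * (a3 * b3) = a0 * (b0 * a2) * (b2 * a3) * b3 := by group
        _ = a0 * a2 * (b0 * a3) * b2 * b3 := by rw [h1.eq, h3.eq]; group
        _ = _ := by rw [h2.eq]; group

/-- the rank-one map of the long node -/
noncomputable def phiL : SL(2, F0 f) →* GL chevD4.Idx K :=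
  (nodeD (nd 1)).φ.comp (Matrix.SpecialLinearGroup.map (F0 f).subtype)

variable {q f} (hf : ∀ t, f t = t ^ q)

include hf in
theorem mem_F0 {x : K} : x ∈ F0 f ↔ x ^ q = x := by
  rw [← hf]; exact Iff.rfl

include hf in
theorem phiS_up (t : K) : phiS f (up t) = tri t (t ^ q) (t ^ q ^ 2) := by
  obtain ⟨e1, -, e3, e4, -⟩ := simples
  simp only [phiS, MonoidHom.mk'_apply, smap_up, nodeD_up, f_f f hf, e1, e3, e4, tri]
  rw [hf]

include hf in
theorem phiS_lo (t : K) : phiS f (lo t) = trin t (t ^ q) (t ^ q ^ 2) := by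
  obtain ⟨e1, -, e3, e4, g1, -, g3, g4⟩ := simples
  simp only [phiS, MonoidHom.mk'_apply, smap_lo, nodeD_lo, f_f f hf, e1, e3, e4, g1, g3, g4, trin]
  rw [hf]

theorem phiL_up (t : F0 f) : phiL f (up t) = xg c4 d4p2 (t : K) := by
  have h : Matrix.SpecialLinearGroup.map (F0 f).subtype (up t) = up (t : K) := by
    ext i j; fin_cases i <;> fin_cases j <;> simp
  show (nodeD (nd 1)).φ _ = _
  rw [h, nodeD_up, show chevD4.simple (nd 1).val = d4p2 from simples.2.1]

theorem phiL_lo (t : F0 f) : phiL f (lo t) = xg c4 d4m2 (t : K) := by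
  have h : Matrix.SpecialLinearGroup.map (F0 f).subtype (lo t) = lo (t : K) := by
    ext i j; fin_cases i <;> fin_cases j <;> simp
  show (nodeD (nd 1)).φ _ = _
  rw [h, nodeD_lo, show chevD4.simple (nd 1).val = d4p2 from simples.2.1,
    show chevD4.neg d4p2 = d4m2 from simples.2.2.2.2.2.1]

/-- the torus element of parameters `(a, b)` -/
noncomputable def tor (q : ℕ) (a b : Kˣ) : GL chevD4.Idx K := torus chevD4 (tp q a b)

theorem tor_mul (a b a' b' : Kˣ) : tor q a b * tor q a' b' = tor q (a * a') (b * b') := by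
  rw [tor, tor, tor, ← map_mul, tp_mul]

theorem tor_one : tor q (1 : Kˣ) 1 = 1 := by rw [tor, tp_one, map_one]

theorem tor_pow (a b : Kˣ) (n : ℕ) : tor q a b ^ n = tor q (a ^ n) (b ^ n) := by
  induction n with
  | zero => simp [tor_one]
  | succ n ih => rw [pow_succ, ih, tor_mul, pow_succ, pow_succ]

include hf in
theorem phiS_dia (t : Kˣ) : phiS f (dia t) = tor q 1 t := by
  simp only [phiS, MonoidHom.mk'_apply, smap_dia, nodeD_dia, f_units f hf, ← map_mul, tor]
  congr 1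
  funext i
  have hi : i = nd 0 ∨ i = nd 1 ∨ i = nd 2 ∨ i = nd 3 := by revert i; decide
  rcases hi with rfl | rfl | rfl | rfl <;> simp [tp, ← pow_mul, pow_two]

theorem phiL_dia (t : (F0 f)ˣ) : phiL f (dia t) = tor q (Units.map (F0 f).subtype.toMonoidHom t) 1 := by
  have h : Matrix.SpecialLinearGroup.map (F0 f).subtype (dia t) =
      dia (Units.map (F0 f).subtype.toMonoidHom t) := by
    ext i j; fin_cases i <;> fin_cases j <;> simp
  show (nodeD (nd 1)).φ _ = _
  rw [h, nodeD_dia, tor]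
  congr 1
  funext i
  have hi : i = nd 0 ∨ i = nd 1 ∨ i = nd 2 ∨ i = nd 3 := by revert i; decide
  rcases hi with rfl | rfl | rfl | rfl <;> simp [tp, Pi.mulSingle_apply]

variable (hK : Fintype.card K = q ^ 3)

theorem unit_pow_eq {t : K} (ht : t * t = 1) (hf' : ∀ t, f t = t ^ q) : t ^ q = t := by
  rcases mul_self_eq_one_iff.1 ht with rfl | rfl
  · exact one_pow q
  · rw [← hf', map_neg, map_one]

/-- elements of the rank-one group -/
theorem sl2_mem {F : Type*} [Field F] {M : Type*} [Group M] (φ : SL(2, F) →* M) (S : Subgroup M)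
    (hu : ∀ t, φ (up t) ∈ S) (hl : ∀ t, φ (lo t) ∈ S) (A : SL(2, F)) : φ A ∈ S := by
  have hA : A ∈ Submonoid.closure (Set.range (ChevalleySL2.upper : F → SL(2, F)) ∪ {ChevalleySL2.wel}) := by
    rw [ChevalleySL2.gen_top]; exact Submonoid.mem_top _
  induction hA using Submonoid.closure_induction with
  | mem x hx =>
    rcases hx with ⟨t, rfl⟩ | rfl
    · exact hu t
    · have e : (ChevalleySL2.wel : SL(2, F)) = up 1 * lo (-1) * up 1 := by
        ext i j; fin_cases i <;> fin_cases j <;> simp [ChevalleySL2.wel, Matrix.mul_apply, Fin.sum_univ_two]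
      rw [e, map_mul, map_mul]
      exact mul_mem (mul_mem (hu _) (hl _)) (hu _)
  | one => rw [map_one]; exact one_mem _
  | mul a b _ _ ha hb => rw [map_mul]; exact mul_mem ha hb

include hf in
theorem phiS_mem (A : SL(2, K)) : phiS f A ∈ twistedD4 K q :=
  sl2_mem _ _ (fun t => by rw [phiS_up hf]; exact (tri_mem q t).1)
    (fun t => by rw [phiS_lo hf]; exact (tri_mem q t).2) A

include hf in
theorem phiL_mem (A : SL(2, F0 f)) : phiL f A ∈ twistedD4 K q :=
  sl2_mem _ _ (fun t => by rw [phiL_up]; exact (xg_mem_p2 q ((mem_F0 hf).1 t.2)).1)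
    (fun t => by rw [phiL_lo]; exact (xg_mem_p2 q ((mem_F0 hf).1 t.2)).2) A

/-! ### the unipotent radicals -/

/-- the outer nodes -/
def JS : Set ℕ := {0, 2, 3}

/-- the central node -/
def JL : Set ℕ := {1}

theorem inS {r : ℕ} : chevD4.InRootSub JS r ↔ r < chevD4.nroots ∧ (chevD4.coroot.getD r #[]).getD 1 0 = 0 := by
  refine and_congr_right fun _ => ⟨fun h => h 1 (by decide) (by simp [JS]), fun h i hi hn => ?_⟩
  rw [show chevD4.rank = 4 from rfl] at hi
  interval_cases i <;> first | exact h | simp [JS] at hn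

theorem inL {r : ℕ} : chevD4.InRootSub JL r ↔ r < chevD4.nroots ∧ (chevD4.coroot.getD r #[]).getD 0 0 = 0 ∧
    (chevD4.coroot.getD r #[]).getD 2 0 = 0 ∧ (chevD4.coroot.getD r #[]).getD 3 0 = 0 := by
  refine and_congr_right fun _ => ⟨fun h => ⟨h 0 (by decide) (by simp [JL]), h 2 (by decide) (by simp [JL]),
    h 3 (by decide) (by simp [JL])⟩, fun h i hi hn => ?_⟩
  rw [show chevD4.rank = 4 from rfl] at hi
  interval_cases i <;> first | exact h.1 | exact h.2.1 | exact h.2.2 | simp [JL] at hn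

theorem pos_roots' : ∀ r : Fin 24, 12 ≤ r.val →
    ((chevD4.coroot.getD r.val #[]).getD 1 0 ≠ 0 ∨ r.val = 18 ∨ r.val = 13 ∨ r.val = 12) ∧
    ((chevD4.coroot.getD r.val #[]).getD 0 0 ≠ 0 ∨ (chevD4.coroot.getD r.val #[]).getD 2 0 ≠ 0 ∨
      (chevD4.coroot.getD r.val #[]).getD 3 0 ≠ 0 ∨ r.val = 14) := by
  decide +kernel

theorem pos_roots (r : ℕ) (hr : r < chevD4.nroots) (h : chevD4.nroots / 2 ≤ r) :
    ((chevD4.coroot.getD r #[]).getD 1 0 = 0 → r ∈ [d4p1, d4p3, d4p4]) ∧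
    ((chevD4.coroot.getD r #[]).getD 0 0 = 0 → (chevD4.coroot.getD r #[]).getD 2 0 = 0 →
      (chevD4.coroot.getD r #[]).getD 3 0 = 0 → r = d4p2) := by
  obtain ⟨a, b⟩ := pos_roots' ⟨r, hr⟩ h
  refine ⟨fun h1 => ?_, fun h0 h2 h3 => ((b.resolve_left (not_not_intro h0)).resolve_left
    (not_not_intro h2)).resolve_left (not_not_intro h3)⟩
  simpa [d4p1, d4p3, d4p4] using a.resolve_left (not_not_intro h1)

theorem rho_cor : ∀ r < chevD4.nroots, ∀ i < chevD4.rank,
    (chevD4.coroot.getD (ChevalleyGraph.symD4a.rho r) #[]).getD (ChevalleyGraph.symD4a.pi i) 0 =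
      (chevD4.coroot.getD r #[]).getD i 0 := by
  decide +kernel

theorem sg_radical {J : Set ℕ} (hJ : J = JS ∨ J = JL) {u : GL chevD4.Idx K}
    (hu : u ∈ chevD4.unipotentRadical K J) : (tw f).sg u ∈ chevD4.unipotentRadical K J := by
  refine (tw f).sg_closure_le (A := {g | ∃ (r : ℕ) (t : K), chevD4.IsPosRoot r ∧ ¬ chevD4.InRootSub J r ∧
    (g : Matrix chevD4.Idx chevD4.Idx K) = chevD4.x K r t}) (fun g hg => ?_) (fun g hg => ?_) hu
  · obtain ⟨r, t, -, -, he⟩ := hg
    rw [(xg_eq_iff c4).1 he]; exact xg_mem_group c4 r t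
  · obtain ⟨r, t, hr, hJr, he⟩ := hg
    obtain ⟨g', -, -, hg'⟩ := (tw f).exists_scalar hr.1
    rw [(xg_eq_iff c4).1 he, hg']
    refine Subgroup.subset_closure ⟨_, _, (tw f).ρ_isPos hr, fun hin => hJr ?_, rfl⟩
    have hρ : (tw f).ρ r = ChevalleyGraph.symD4a.rho r := rfl
    rw [hρ] at hin
    obtain ⟨p1, p0, p2, p3⟩ : _ ∧ _ ∧ _ ∧ _ := ⟨rho_cor r hr.1 1 (by decide), rho_cor r hr.1 0 (by decide),
      rho_cor r hr.1 2 (by decide), rho_cor r hr.1 3 (by decide)⟩
    rw [show ChevalleyGraph.symD4a.pi 1 = 1 by decide +kernel] at p1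
    rw [show ChevalleyGraph.symD4a.pi 0 = 2 by decide +kernel] at p0
    rw [show ChevalleyGraph.symD4a.pi 2 = 3 by decide +kernel] at p2
    rw [show ChevalleyGraph.symD4a.pi 3 = 0 by decide +kernel] at p3
    rcases hJ with rfl | rfl
    · rw [inS] at hin ⊢; exact ⟨hr.1, by rw [← p1]; exact hin.2⟩
    · rw [inL] at hin ⊢
      exact ⟨hr.1, by rw [← p0]; exact hin.2.2.1, by rw [← p2]; exact hin.2.2.2, by rw [← p3]; exact hin.2.1⟩

theorem simple_levi (i : Fin chevD4.rank) {J : Set ℕ} (hi : i.val ∈ J) (t : K) :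
    xg c4 (chevD4.simple i.val) t ∈ chevD4.leviSubgroup K J ∧
    xg c4 (chevD4.neg (chevD4.simple i.val)) t ∈ chevD4.leviSubgroup K J := by
  have h := inRootSub_simple c4 hi i.isLt
  exact ⟨Subgroup.mem_sup_right (Subgroup.subset_closure ⟨_, t, h, rfl⟩),
    Subgroup.mem_sup_right (Subgroup.subset_closure ⟨_, t, inRootSub_neg c4 h.1 h, rfl⟩)⟩

theorem nodeD_levi (i : Fin chevD4.rank) {J : Set ℕ} (hi : i.val ∈ J) (A : SL(2, K)) :
    (nodeD i).φ A ∈ chevD4.leviSubgroup K J :=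
  sl2_mem _ _ (fun t => by rw [nodeD_up]; exact (simple_levi i hi t).1)
    (fun t => by rw [nodeD_lo]; exact (simple_levi i hi t).2) A

theorem phiS_levi (A : SL(2, K)) : phiS f A ∈ chevD4.leviSubgroup K JS :=
  mul_mem (mul_mem (nodeD_levi _ (by simp [JS]) _) (nodeD_levi _ (by simp [JS]) _)) (nodeD_levi _ (by simp [JS]) _)

theorem phiL_levi (A : SL(2, F0 f)) : phiL f A ∈ chevD4.leviSubgroup K JL :=
  nodeD_levi _ (by simp [JL]) _

theorem levi_norm {J : Set ℕ} {g u : GL chevD4.Idx K} (hg : g ∈ chevD4.leviSubgroup K J)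
    (hu : u ∈ chevD4.unipotentRadical K J) : g * u * g⁻¹ ∈ chevD4.unipotentRadical K J := by
  have h : g ∈ chevD4.parabolicSubgroup K J := by
    rw [← radical_sup_levi c4]; exact Subgroup.mem_sup_right hg
  exact (Subgroup.mem_normalizer_iff.1 (parabolic_le_normalizer c4 J h) u).1 hu

theorem tri_levi (a b c : K) : tri a b c ∈ chevD4.leviSubgroup K JS := by
  obtain ⟨e1, -, e3, e4, -⟩ := simples
  have h1 := (simple_levi (K := K) (nd 0) (J := JS) (by simp [JS]) a).1
  have h2 := (simple_levi (K := K) (nd 2) (J := JS) (by simp [JS]) b).1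
  have h3 := (simple_levi (K := K) (nd 3) (J := JS) (by simp [JS]) c).1
  simp only [e1, e3, e4] at h1 h2 h3
  exact mul_mem (mul_mem h1 h2) h3

theorem p2_levi (t : K) : xg c4 d4p2 t ∈ chevD4.leviSubgroup K JL := by
  have h := (simple_levi (K := K) (nd 1) (J := JL) (by simp [JL]) t).1
  simpa only [simples.2.1] using h

theorem split_pos {J : Set ℕ} {L : Subgroup (GL chevD4.Idx K)} (hL : L ≤ chevD4.leviSubgroup K J)
    (hpos : ∀ r, chevD4.IsPosRoot r → chevD4.InRootSub J r → ∀ t : K, xg c4 r t ∈ L)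
    {u : GL chevD4.Idx K} (hu : u ∈ chevD4.posUnipotent K) :
    ∃ l ∈ L, ∃ w ∈ chevD4.unipotentRadical K J, u = l * w := by
  induction hu using Subgroup.closure_induction with
  | mem x hx =>
    obtain ⟨r, t, hr, he⟩ := hx
    obtain rfl := (xg_eq_iff c4).1 he
    by_cases hJ : chevD4.InRootSub J r
    · exact ⟨_, hpos r hr hJ t, 1, one_mem _, by rw [mul_one]⟩
    · exact ⟨1, one_mem _, _, Subgroup.subset_closure ⟨r, t, hr, hJ, rfl⟩, by rw [one_mul]⟩
  | one => exact ⟨1, one_mem _, 1, one_mem _, by rw [one_mul]⟩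
  | mul a b _ _ ha hb =>
    obtain ⟨l1, hl1, w1, hw1, rfl⟩ := ha
    obtain ⟨l2, hl2, w2, hw2, rfl⟩ := hb
    exact ⟨l1 * l2, mul_mem hl1 hl2, l2⁻¹ * w1 * l2 * w2,
      mul_mem (by simpa using levi_norm (inv_mem (hL hl2)) hw1) hw2, by group⟩
  | inv a _ ha =>
    obtain ⟨l, hl, w, hw, rfl⟩ := ha
    exact ⟨l⁻¹, inv_mem hl, l * w⁻¹ * l⁻¹, levi_norm (hL hl) (inv_mem hw), by group⟩

theorem levi_radical_unique {J : Set ℕ} {l l' w w' : GL chevD4.Idx K} (hl : l ∈ chevD4.leviSubgroup K J)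
    (hl' : l' ∈ chevD4.leviSubgroup K J) (hw : w ∈ chevD4.unipotentRadical K J)
    (hw' : w' ∈ chevD4.unipotentRadical K J) (h : l * w = l' * w') : l = l' ∧ w = w' := by
  have h1 : l'⁻¹ * l = w' * w⁻¹ := by
    calc l'⁻¹ * l = l'⁻¹ * (l * w) * w⁻¹ := by group
      _ = _ := by rw [h]; group
  have h2 := Subgroup.mem_inf.2 ⟨h1 ▸ mul_mem hw' (inv_mem hw), mul_mem (inv_mem hl') hl⟩
  rw [radical_inf_levi c4, Subgroup.mem_bot, inv_mul_eq_one] at h2
  subst h2
  exact ⟨rfl, mul_left_cancel h⟩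

variable (q)

/-- the positive unipotent elements -/
noncomputable def UU : Subgroup (GL chevD4.Idx K) := chevD4.posUnipotent K ⊓ twistedD4 K q

/-- the unipotent radical of a node -/
noncomputable def UJ (J : Set ℕ) : Subgroup (GL chevD4.Idx K) := chevD4.unipotentRadical K J ⊓ twistedD4 K q

/-- the diagonal elements -/
noncomputable def HH : Subgroup (GL chevD4.Idx K) := chevD4.diagonalSubgroup K ⊓ twistedD4 K q

variable {q}

theorem UJ_le (J : Set ℕ) : UJ (K := K) q J ≤ UU q :=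
  inf_le_inf_right _ (Subgroup.closure_mono fun _ ⟨r, t, hr, _, h⟩ => ⟨r, t, hr, h⟩)

include hf hK in
theorem split_S {u : GL chevD4.Idx K} (hu : u ∈ UU q) :
    ∃ e : K, ∃ w ∈ UJ q JS, u = phiS f (up e) * w := by
  have hle : (triHom (K := K)).range ≤ chevD4.leviSubgroup K JS := by
    rintro _ ⟨p, rfl⟩; exact tri_levi _ _ _
  obtain ⟨l, ⟨p, rfl⟩, w, hw, rfl⟩ := split_pos (L := (triHom (K := K)).range) hle (fun r hr hJ t => by
    have := (pos_roots r hr.1 ((isPos c4).1 hr).1).1 (inS.1 hJ).2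
    simp only [List.mem_cons, List.not_mem_nil, or_false] at this
    rcases this with rfl | rfl | rfl
    · exact ⟨Multiplicative.ofAdd (t, 0, 0), by simp [triHom, tri]⟩
    · exact ⟨Multiplicative.ofAdd (0, t, 0), by simp [triHom, tri]⟩
    · exact ⟨Multiplicative.ofAdd (0, 0, t), by simp [triHom, tri]⟩) hu.1
  obtain ⟨a, b, c⟩ := p
  change tri a b c * w ∈ UU q at hu
  have hfx := le_fixed f hf hK hu.2
  have hg1 : tri a b c ∈ chevD4.group K :=
    mul_mem (mul_mem (xg_mem_group c4 _ _) (xg_mem_group c4 _ _)) (xg_mem_group c4 _ _)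
  have hg2 : w ∈ chevD4.group K := (Subgroup.mul_mem_cancel_left _ hg1).1 hfx.1
  have e := hfx.2
  rw [(tw f).sg_mul hg1 hg2, (sg_tri f hf hK a b c).1] at e
  obtain ⟨h1, -⟩ := levi_radical_unique (tri_levi _ _ _) (tri_levi a b c) (sg_radical (Or.inl rfl) hw) hw e
  obtain ⟨-, h2, h3⟩ := tri_inj h1
  have ha : phiS f (up a) = tri a b c := by rw [phiS_up hf, ← h3, ← h2, ← pow_mul, pow_two]
  refine ⟨a, w, ⟨hw, (Subgroup.mul_mem_cancel_left _ (ha ▸ phiS_mem hf (up a))).1 hu.2⟩, ?_⟩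
  show tri a b c * w = _
  rw [ha]

include hf hK in
theorem split_L {u : GL chevD4.Idx K} (hu : u ∈ UU q) :
    ∃ e : F0 f, ∃ w ∈ UJ q JL, u = phiL f (up e) * w := by
  have hle : Subgroup.closure (Set.range fun t : K => xg c4 d4p2 t) ≤ chevD4.leviSubgroup K JL := by
    rw [Subgroup.closure_le]; rintro _ ⟨t, rfl⟩; exact p2_levi t
  obtain ⟨l, hl, w, hw, rfl⟩ := split_pos hle (fun r hr hJ t => by
    obtain ⟨-, h0, h2, h3⟩ := inL.1 hJ
    obtain rfl := (pos_roots r hr.1 ((isPos c4).1 hr).1).2 h0 h2 h3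
    exact Subgroup.subset_closure ⟨t, rfl⟩) hu.1
  obtain ⟨t, rfl⟩ := closure_p2 hl
  have hfx := le_fixed f hf hK hu.2
  have hg2 : w ∈ chevD4.group K := (Subgroup.mul_mem_cancel_left _ (xg_mem_group c4 _ _)).1 hfx.1
  have e := hfx.2
  rw [(tw f).sg_mul (xg_mem_group c4 _ _) hg2, (sg_p2 f hf t).1] at e
  obtain ⟨h1, -⟩ := levi_radical_unique (p2_levi _) (p2_levi t) (sg_radical (Or.inr rfl) hw) hw e
  have ht : t ∈ F0 f := (mem_F0 hf).2 (p2_inj h1)
  refine ⟨⟨t, ht⟩, w, ⟨hw, (Subgroup.mul_mem_cancel_left _ (xg_mem_p2 q ((mem_F0 hf).1 ht)).1).1 hu.2⟩, ?_⟩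
  rw [phiL_up]

/-! ### the long word -/

/-- the long word -/
def w0 : List ℕ := [1, 0, 2, 3, 1, 0, 2, 3, 1, 0, 2, 3]

theorem w0_lt : ∀ i ∈ w0, i < chevD4.rank := by decide

theorem wact_w0 : ∀ r : Fin 24, ChevalleyTorus.wact (D := chevD4) w0 r.val = chevD4.neg r.val := by decide +kernel

/-- the element of the long word -/
noncomputable def n0 (K : Type*) [Field K] : GL chevD4.Idx K := nword c4 w0

include hf in
theorem n0_mem : n0 K ∈ twistedD4 K q := by
  obtain ⟨e1, e2, e3, e4, -⟩ := simples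
  have h : ns c4 1 * ns c4 0 * ns c4 2 * ns c4 3 ∈ twistedD4 K q := by
    have h1 : ns c4 1 = ng c4 d4p2 (1 : K) := by rw [← e2]
    have h2 : ns c4 0 * ns c4 2 * ns c4 3 = tn (1 : K) 1 1 := by rw [tn, ← e1, ← e3, ← e4]
    have h3 := tn_mem f hf (1 : K)
    rw [one_pow, one_pow, ← h2] at h3
    have := mul_mem (ng2_mem f hf (one_pow q)) h3
    rw [← h1] at this
    simpa [mul_assoc] using this
  have := mul_mem (mul_mem h h) h
  simpa [n0, nword, w0, mul_assoc] using this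

theorem n0_conj {r : ℕ} (hr : r < chevD4.nroots) :
    ∃ e : K, e * e = 1 ∧ ∀ t : K, n0 K * xg c4 r t * (n0 K)⁻¹ = xg c4 (chevD4.neg r) (e * t) := by
  obtain ⟨e, he, h⟩ := nword_conj c4 (F := K) w0_lt hr
  refine ⟨e, he, fun t => ?_⟩
  have := h t
  rwa [show ChevalleyTorus.wact (D := chevD4) w0 r = chevD4.neg r from wact_w0 ⟨r, hr⟩] at this

/-- both conjugations by the long word send each root group to the opposite one -/
def Flips (n : GL chevD4.Idx K) : Prop :=
  ∀ r < chevD4.nroots, ∃ e : K, e * e = 1 ∧ ∀ t : K, n * xg c4 r t * n⁻¹ = xg c4 (chevD4.neg r) (e * t)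

theorem flips_n0 : Flips (n0 K) := fun _ hr => n0_conj hr

theorem flips_inv {n : GL chevD4.Idx K} (hn : Flips n) : Flips n⁻¹ := by
  intro r hr
  obtain ⟨e, he, h⟩ := hn _ (c4.neg_lt r)
  refine ⟨e, he, fun t => ?_⟩
  have h1 := h (e * t)
  rw [neg_neg' c4 hr, ← mul_assoc, he, one_mul] at h1
  rw [inv_inv, ← h1]
  group

theorem trin_inj {a b c a' b' c' : K} (h : trin a b c = trin a' b' c') : a = a' ∧ b = b' ∧ c = c' := by
  obtain ⟨-, -, -, -, g1, -, g3, g4⟩ := simples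
  obtain ⟨x, hx, h1⟩ := n0_conj (K := K) (r := d4m1) (by decide +kernel)
  obtain ⟨y, hy, h3⟩ := n0_conj (K := K) (r := d4m3) (by decide +kernel)
  obtain ⟨z, hz, h4⟩ := n0_conj (K := K) (r := d4m4) (by decide +kernel)
  rw [← g1, neg_neg' c4 (by decide +kernel)] at h1
  rw [← g3, neg_neg' c4 (by decide +kernel)] at h3
  rw [← g4, neg_neg' c4 (by decide +kernel)] at h4
  have key : ∀ a b c : K, n0 K * trin a b c * (n0 K)⁻¹ = tri (x * a) (y * b) (z * c) := fun a b c => by
    rw [trin, tri, ← g1, ← g3, ← g4, ← h1, ← h3, ← h4]; group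
  have h' := key a b c
  rw [h, key] at h'
  obtain ⟨p, p', p''⟩ := tri_inj h'
  exact ⟨(mul_left_cancel₀ (left_ne_zero_of_mul_eq_one hx) p).symm,
    (mul_left_cancel₀ (left_ne_zero_of_mul_eq_one hy) p').symm,
    (mul_left_cancel₀ (left_ne_zero_of_mul_eq_one hz) p'').symm⟩

include hf hK in
theorem flip_phiS {n : GL chevD4.Idx K} (hn : Flips n) (hmem : n ∈ twistedD4 K q) (A : SL(2, K)) :
    n * phiS f A * n⁻¹ ∈ (phiS f).range := by
  obtain ⟨-, -, -, -, g1, -, g3, g4⟩ := simples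
  obtain ⟨x, -, h1⟩ := hn d4p1 (by decide +kernel)
  obtain ⟨y, -, h3⟩ := hn d4p3 (by decide +kernel)
  obtain ⟨z, -, h4⟩ := hn d4p4 (by decide +kernel)
  obtain ⟨x', -, h1'⟩ := hn d4m1 (by decide +kernel)
  obtain ⟨y', -, h3'⟩ := hn d4m3 (by decide +kernel)
  obtain ⟨z', -, h4'⟩ := hn d4m4 (by decide +kernel)
  rw [← g1, neg_neg' c4 (by decide +kernel)] at h1'
  rw [← g3, neg_neg' c4 (by decide +kernel)] at h3'
  rw [← g4, neg_neg' c4 (by decide +kernel)] at h4'
  have k1 : ∀ a b c : K, n * tri a b c * n⁻¹ = trin (x * a) (y * b) (z * c) := fun a b c => by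
    rw [trin, tri, ← g1, ← g3, ← g4, ← h1, ← h3, ← h4]; group
  have k2 : ∀ a b c : K, n * trin a b c * n⁻¹ = tri (x' * a) (y' * b) (z' * c) := fun a b c => by
    rw [trin, tri, ← g1, ← g3, ← g4, ← h1', ← h3', ← h4']; group
  have main : phiS f A ∈ (phiS f).range.comap (MulAut.conj n).toMonoidHom := by
    refine sl2_mem _ _ (fun t => ?_) (fun t => ?_) A
    · show n * phiS f (up t) * n⁻¹ ∈ (phiS f).range
      have hfx := le_fixed f hf hK (mul_mem (mul_mem hmem (phiS_mem hf (up t))) (inv_mem hmem))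
      rw [phiS_up hf, k1] at hfx ⊢
      generalize x * t = a, y * t ^ q = b, z * t ^ q ^ 2 = c at hfx ⊢
      have e := hfx.2
      rw [(sg_tri f hf hK a b c).2] at e
      obtain ⟨-, e2, e3⟩ := trin_inj e
      exact ⟨lo a, by rw [phiS_lo hf, ← e3, ← e2, ← pow_mul, pow_two]⟩
    · show n * phiS f (lo t) * n⁻¹ ∈ (phiS f).range
      have hfx := le_fixed f hf hK (mul_mem (mul_mem hmem (phiS_mem hf (lo t))) (inv_mem hmem))
      rw [phiS_lo hf, k2] at hfx ⊢
      generalize x' * t = a, y' * t ^ q = b, z' * t ^ q ^ 2 = c at hfx ⊢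
      have e := hfx.2
      rw [(sg_tri f hf hK a b c).1] at e
      obtain ⟨-, e2, e3⟩ := tri_inj e
      exact ⟨up a, by rw [phiS_up hf, ← e3, ← e2, ← pow_mul, pow_two]⟩
  exact main

include hf in
theorem flip_phiL {n : GL chevD4.Idx K} (hn : Flips n) (A : SL(2, F0 f)) :
    n * phiL f A * n⁻¹ ∈ (phiL f).range := by
  obtain ⟨-, -, -, -, -, g2, -, -⟩ := simples
  obtain ⟨x, hx, h⟩ := hn d4p2 (by decide +kernel)
  obtain ⟨x', hx', h'⟩ := hn d4m2 (by decide +kernel)
  rw [g2] at h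
  rw [← g2, neg_neg' c4 (by decide +kernel), g2] at h'
  have main : phiL f A ∈ (phiL f).range.comap (MulAut.conj n).toMonoidHom := by
    refine sl2_mem _ _ (fun t => ?_) (fun t => ?_) A
    · show n * phiL f (up t) * n⁻¹ ∈ (phiL f).range
      rw [phiL_up, h]
      exact ⟨lo ⟨x * t, mul_mem ((mem_F0 hf).2 (unit_pow_eq hx hf)) t.2⟩, phiL_lo _⟩
    · show n * phiL f (lo t) * n⁻¹ ∈ (phiL f).range
      rw [phiL_lo, h']
      exact ⟨up ⟨x' * t, mul_mem ((mem_F0 hf).2 (unit_pow_eq hx' hf)) t.2⟩, phiL_up _⟩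
  exact main

end twisted

end Cfsg.Agent.TwistedD4Gauss77
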