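import Cfsg.Agent.Lib.TwistedD4Invol71

/-!
Involutions of `³D₄(q)`, `q` even, are conjugate to `x_b(1)` or to the short root element.
-/

set_option autoImplicit false
set_option linter.unusedSectionVars false
set_option linter.unusedSimpArgs false
set_option maxRecDepth 20000
set_option maxHeartbeats 1000000

namespace Cfsg.Agent.TwistedD4InvolMain71

open Cfsg.Lie Cfsg.Agent.ChevalleyCert Cfsg.Agent.ChevalleyCore Cfsg.Agent.ChevalleyRoots Cfsg.Agent.ChevalleyTorus
  Cfsg.Agent.TwistedCore Cfsg.Agent.TwistedTools Cfsg.Agent.TwistedD4 Cfsg.Agent.D4CharTwoNf71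
  Cfsg.Agent.TwistedD4Invol71

variable {K : Type*} [Field K] [CharP K 2] {q : ℕ} (φ : K →+* K) (hf : ∀ t, φ t = t ^ q)
variable [Fintype K] (hK : Fintype.card K = q ^ 3)

theorem cj_mem {g h x : GL chevD4.Idx K} (hx : x ∈ twistedD4 K q) (hg : g ∈ twistedD4 K q) (e : x * g * x⁻¹ = h) :
    h ∈ twistedD4 K q := e ▸ (twistedD4 K q).mul_mem ((twistedD4 K q).mul_mem hx hg) ((twistedD4 K q).inv_mem hx)

theorem four2 : (4 : K) = 0 := by linear_combination 2 * (CharTwo.two_eq_zero : (2 : K) = 0)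

/-- the long representative -/
noncomputable def longRep : GL chevD4.Idx K := X 14 1

/-- the short representative -/
noncomputable def shortRep : GL chevD4.Idx K := nf ![0, 0, 0, 0, 1, 1, 1, 0, 0, 0, 0, 0]

theorem cart : (List.range 4).map (fun i => chevD4.cartan i 19) = [1, 1, -1, -1] ∧
    (List.range 4).map (fun i => chevD4.cartan i 16) = [-1, 1, 1, -1] ∧
    (List.range 4).map (fun i => chevD4.cartan i 15) = [-1, 1, -1, 1] ∧
    (List.range 4).map (fun i => chevD4.cartan i 14) = [-1, 2, -1, -1] := by decide +kernel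

theorem tchar_tp (a b : Kˣ) {r : ℕ} {e0 e1 e2 e3 : ℤ}
    (h : (List.range 4).map (fun i => chevD4.cartan i r) = [e0, e1, e2, e3]) :
    (tchar chevD4 (tp q a b) r : K) =
      (b : K) ^ e0 * (a : K) ^ e1 * ((b : K) ^ q) ^ e2 * ((b : K) ^ q ^ 2) ^ e3 := by
  simp [List.range_succ] at h
  obtain ⟨h0, h1, h2, h3⟩ := h
  rw [tchar]
  show ((∏ i : Fin 4, tp q a b i ^ chevD4.cartan (i : ℕ) r : Kˣ) : K) = _
  rw [Fin.prod_univ_four]
  simp [tp, h0, h1, h2, h3]

include hf hK in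
theorem sqrt_exists (x : Kˣ) (hx : φ (x : K) = x) : ∃ a : Kˣ, a ^ q = a ∧ a ^ 2 = x := by
  obtain ⟨y, hy⟩ := isSquare_of_charTwo' (x : K)
  have hy0 : y ≠ 0 := by rintro rfl; simp at hy
  have h2 : φ y * φ y = y * y := by rw [← map_mul, ← hy, hx]
  have h3 : φ y = y := CharTwo.sq_injective (by simpa only [pow_two] using h2)
  exact ⟨Units.mk0 y hy0, Units.ext (by simpa [← hf] using h3), Units.ext (by simp [pow_two, ← hy])⟩

include hf hK in
theorem scale_long {s : K} (hs : φ s = s) (h0 : s ≠ 0) : Cj q (X 14 s) (longRep : GL chevD4.Idx K) := by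
  obtain ⟨a, ha, ha2⟩ := sqrt_exists φ hf hK (Units.mk0 s⁻¹ (inv_ne_zero h0)) (by simp [hs])
  refine ⟨torus chevD4 (tp q a 1), torus_tp_mem φ hf ha 1, ?_⟩
  rw [X, torus_conj_xg c4 (by decide +kernel), tchar_tp a 1 cart.2.2.2, longRep]
  congr 1
  have h' : (a : K) ^ 2 = s⁻¹ := by
    have := congrArg Units.val ha2
    simpa using this
  simp only [Units.val_one, one_pow, one_zpow, one_mul, mul_one]
  rw [show (2 : ℤ) = ((2 : ℕ) : ℤ) from rfl, zpow_natCast, h', inv_mul_cancel₀ h0]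

include hf hK in
theorem scale_short {c : K} (h0 : c ≠ 0) :
    Cj q (nf ![0, 0, 0, 0, c, φ c, φ (φ c), 0, 0, 0, 0, 0]) (shortRep : GL chevD4.Idx K) := by
  obtain ⟨y, hy⟩ := isSquare_of_charTwo' (c⁻¹ : K)
  have hy0 : y ≠ 0 := by rintro rfl; simp at hy; exact h0 hy
  set b : Kˣ := Units.mk0 y hy0
  set a : Kˣ := b * b ^ q * b ^ q ^ 2 with ha
  have haq : a ^ q = a := by
    apply Units.ext
    simp only [ha, Units.val_pow_eq_pow_val, Units.val_mul]
    rw [mul_pow, mul_pow, ← pow_mul, ← pow_mul, ← pow_two, ← pow_succ, pow_q3 hK]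
    ring
  refine ⟨torus chevD4 (tp q a b), torus_tp_mem φ hf haq b, ?_⟩
  have hb : (b : K) = y := rfl
  have hbq : (b : K) ^ q ≠ 0 := pow_ne_zero _ b.ne_zero
  have hbq2 : (b : K) ^ q ^ 2 ≠ 0 := pow_ne_zero _ b.ne_zero
  have hav : (a : K) = b * (b : K) ^ q * (b : K) ^ q ^ 2 := by simp [ha]
  simp only [shortRep, nf, Matrix.cons_val, xg_zero, mul_one, one_mul]
  show torus chevD4 (tp q a b) * (X 19 c * X 16 (φ c) * X 15 (φ (φ c))) * (torus chevD4 (tp q a b))⁻¹ = _
  rw [← MulAut.conj_apply, map_mul, map_mul, MulAut.conj_apply, MulAut.conj_apply, MulAut.conj_apply,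
    torus_conj_xg c4 (by decide +kernel), torus_conj_xg c4 (by decide +kernel), torus_conj_xg c4 (by decide +kernel),
    tchar_tp a b cart.1, tchar_tp a b cart.2.1, tchar_tp a b cart.2.2.1]
  have e : (b : K) * b * c = 1 := by rw [hb, ← hy, inv_mul_cancel₀ h0]
  have e' : (b : K) ^ q * (b : K) ^ q * φ c = 1 := by
    rw [← hf, ← map_mul, ← map_mul, e, map_one]
  have e'' : (b : K) ^ q ^ 2 * (b : K) ^ q ^ 2 * φ (φ c) = 1 := by
    rw [← f_f φ hf, ← map_mul, ← map_mul, ← map_mul, ← map_mul, e, map_one, map_one]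
  have hb0 : (b : K) ≠ 0 := b.ne_zero
  rw [hav]
  congr 3 <;> simp only [zpow_one, zpow_neg_one] <;> field_simp
  · linear_combination e
  · linear_combination e'
  · linear_combination e''

include hf hK in
theorem short_case {c d e z : K} (he : φ e = e) (hz : φ z = z) (hc : c ≠ 0)
    (hu : nft φ 0 0 c d e z * nft φ 0 0 c d e z = 1) : Cj q (nft φ 0 0 c d e z) (shortRep : GL chevD4.Idx K) := by
  have h0 : φ (0 : K) = 0 := map_zero φ
  have hT : T φ c d = 0 := by
    obtain ⟨a, ha, h11⟩ := sq_0 c (φ c) (φ (φ c)) d (φ d) (φ (φ d)) e z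
    simp only [nft, h0] at hu
    rw [nf_one (ha.symm.trans hu), Pi.zero_apply] at h11
    exact h11.symm
  have hA : ∀ r : K, AA r (φ r) (φ (φ r)) ∈ twistedD4 K q := fun r => by
    have := (tri_mem (K := K) q r).1
    rwa [← f_f φ hf r, ← hf r] at this
  -- first conjugation: clear `d`
  obtain ⟨r, hr⟩ := B2_surj φ hf hK hc hT
  obtain ⟨z1, h1⟩ := conj_A r (φ r) (φ (φ r)) 0 c (φ c) (φ (φ c)) d (φ d) (φ (φ d)) e z
  set e1 := e + (c * φ r * φ (φ r) + φ c * r * φ (φ r) + φ (φ c) * r * φ r) +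
    (d * r + φ d * φ r + φ (φ d) * φ (φ r)) with he1
  have hd1 : d + (φ c * φ (φ r) + φ (φ c) * φ r) = 0 := by
    rw [show φ c * φ (φ r) + φ (φ c) * φ r = d from hr]; exact char2 d
  have hfe1 : φ e1 = e1 := by
    simp only [he1, map_add, map_mul, he, φ3 φ hf hK]; ring
  have hd1' : φ d + (c * φ (φ r) + φ (φ c) * r) = 0 := by
    have := congrArg φ hd1
    simp only [map_add, map_mul, φ3 φ hf hK, map_zero] at this
    linear_combination this
  have hd1'' : φ (φ d) + (c * φ r + φ c * r) = 0 := by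
    have := congrArg φ (congrArg φ hd1)
    simp only [map_add, map_mul, φ3 φ hf hK, map_zero] at this
    linear_combination this
  simp only [mul_zero, add_zero, hd1, hd1', hd1''] at h1
  -- second conjugation: clear `e`
  have hN : c * φ c * φ (φ c) ≠ 0 := by simp [hc]
  obtain ⟨l, hl, hl2⟩ : ∃ l : K, φ l = l ∧ l * l * (c * φ c * φ (φ c)) = e1 := by
    obtain ⟨l, hl⟩ := isSquare_of_charTwo' (e1 / (c * φ c * φ (φ c)))
    refine ⟨l, CharTwo.sq_injective ?_, by rw [← hl, div_mul_cancel₀ _ hN]⟩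
    simp only [pow_two]
    rw [← map_mul, ← hl, map_div₀, hfe1, map_mul, map_mul, φ3 φ hf hK]
    congr 1; ring
  obtain ⟨z2, h2⟩ := conj_A (l * c) (l * φ c) (l * φ (φ c)) 0 c (φ c) (φ (φ c)) 0 0 0 e1 z1
  have hd2 : ∀ x y : K, (0 : K) + (x * (l * y) + y * (l * x)) + 0 = 0 := fun x y => by
    ring_nf; simp [CharTwo.two_eq_zero]
  have he2 : e1 + (c * (l * φ c) * (l * φ (φ c)) + φ c * (l * c) * (l * φ (φ c)) + φ (φ c) * (l * c) * (l * φ c)) +
      (0 * (l * c) + 0 * (l * φ c) + 0 * (l * φ (φ c))) + 0 = 0 := by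
    rw [← hl2]; ring_nf; simp [CharTwo.two_eq_zero, four2]
  simp only [mul_zero, hd2, he2, add_zero] at h2
  have hm1 := hA r
  have hm2 : AA (l * c) (l * φ c) (l * φ (φ c)) ∈ twistedD4 K q := by
    have := hA (l * c)
    simpa [map_mul, hl] using this
  have hmem2 : nf ![0, 0, 0, 0, c, φ c, φ (φ c), 0, 0, 0, 0, z2] ∈ chevD4.posUnipotent K ⊓ twistedD4 K q :=
    ⟨nf_mem _, cj_mem hm2 (cj_mem hm1 (nft_mem φ hf hK (t := 0) (c := c) (d := d) h0 he hz).2
      (by simpa only [nft, h0] using h1)) h2⟩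
  obtain ⟨t', s', c', d', e', z', -, -, hz', heq⟩ := exists_nft φ hf hK hmem2
  have hz2 : φ z2 = z2 := by
    have := congrFun (nf_injective heq) 11
    simp at this
    rwa [this]
  -- third: clear the last coordinate
  obtain ⟨r', hr'⟩ := T_surj φ hf hK hc (y := z2) hz2
  have h3 := conj_AAB r' (φ r') (φ (φ r')) c (φ c) (φ (φ c)) z2
  rw [show c * r' + φ c * φ r' + φ (φ c) * φ (φ r') = z2 from hr', char2] at h3
  have hm3 : X 17 r' * X 20 (φ r') * X 21 (φ (φ r')) ∈ twistedD4 K q := by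
    have hU : ∀ r : ℕ, 12 ≤ r → r < 24 → ∀ t : K, X r t ∈ chevD4.posUnipotent K := fun r a b t =>
      Subgroup.subset_closure ⟨r, t, (isPos c4).2 ⟨a, b⟩, (xg_eq_iff c4).2 rfl⟩
    exact fixed_mem φ hf hK (mul_mem (mul_mem (hU _ (by norm_num) (by norm_num) _) (hU _ (by norm_num) (by norm_num) _))
      (hU _ (by norm_num) (by norm_num) _)) (triple_fixed φ hf hK (by decide) r')
  have c1 : Cj q (nft φ 0 0 c d e z) (nf ![0, 0, 0, 0, c, φ c, φ (φ c), 0, 0, 0, e1, z1]) :=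
    ⟨_, hm1, by simpa only [nft, h0] using h1⟩
  exact (c1.trans' ⟨_, hm2, h2⟩).trans' (Cj.trans' ⟨_, hm3, h3⟩ (scale_short φ hf hK hc))

include hf hK in
theorem long_e {e : K} (he : φ e = e) (h : e ≠ 0) : Cj q (X 22 e) (longRep : GL chevD4.Idx K) :=
  Cj.trans' ⟨_, nA_mem φ hf hK, nA_E e⟩ (scale_long φ hf hK he h)

include hf hK in
theorem zero_t {s c d e z : K} (hs : φ s = s) (he : φ e = e) (hz : φ z = z)
    (hne : nft φ 0 s c d e z ≠ 1) (hu : nft φ 0 s c d e z * nft φ 0 s c d e z = 1) :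
    Cj q (nft φ 0 s c d e z) (longRep : GL chevD4.Idx K) ∨ Cj q (nft φ 0 s c d e z) (shortRep : GL chevD4.Idx K) := by
  have h0 : φ (0 : K) = 0 := map_zero φ
  have hA : ∀ r : K, AA r (φ r) (φ (φ r)) ∈ twistedD4 K q := fun r => by
    have := (tri_mem (K := K) q r).1
    rwa [← f_f φ hf r, ← hf r] at this
  have hXf : ∀ r ∈ [14, 22, 23], ∀ x : K, φ x = x → X r x ∈ twistedD4 K q := fun r hr x hx => by
    have hb : ∀ r ∈ [14, 22, 23], 12 ≤ r ∧ r < 24 := by decide
    exact fixed_mem φ hf hK (Subgroup.subset_closure ⟨r, x, (isPos c4).2 (hb r hr), (xg_eq_iff c4).2 rfl⟩)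
      (single_fixed φ hf hK hr hx)
  have hU : ∀ r : ℕ, 12 ≤ r → r < 24 → ∀ t : K, X r t ∈ chevD4.posUnipotent K := fun r a b t =>
    Subgroup.subset_closure ⟨r, t, (isPos c4).2 ⟨a, b⟩, (xg_eq_iff c4).2 rfl⟩
  by_cases hs0 : s = 0
  · subst hs0
    by_cases hc0 : c = 0
    · subst hc0
      by_cases hd0 : d = 0
      · subst hd0
        by_cases he0 : e = 0
        · subst he0
          have hz0 : z ≠ 0 := fun e => hne (by subst e; simp [nft, h0, nf])
          left
          have h1 := swap_AAB (0 : K) 0 0 0 0 0 0 z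
          have e1 : Cj q (nft φ 0 0 0 0 0 z) (X 22 z) := ⟨nB, nB_mem φ hf, by
            simpa [nft, h0, nf] using h1⟩
          exact e1.trans' (long_e φ hf hK hz hz0)
        · left
          have hr : φ (z / e) = z / e := by rw [map_div₀, hz, he]
          have h1 := conj_Br (z / e) e z
          rw [mul_div_cancel₀ _ he0, char2] at h1
          have e1 : Cj q (nft φ 0 0 0 0 e z) (X 22 e) := ⟨_, hXf 14 (by decide) _ hr, by
            simp only [nft, h0]; rw [h1]; simp [nf]⟩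
          exact e1.trans' (long_e φ hf hK he he0)
      · right
        obtain ⟨r, hr⟩ := T_surj φ hf hK hd0 (y := e) he
        obtain ⟨z1, h1⟩ := conj_A r (φ r) (φ (φ r)) 0 0 0 0 d (φ d) (φ (φ d)) e z
        have he1 : e + (d * r + φ d * φ r + φ (φ d) * φ (φ r)) = 0 := by
          rw [show d * r + φ d * φ r + φ (φ d) * φ (φ r) = e from hr, char2]
        simp only [mul_zero, zero_mul, add_zero, he1] at h1
        have e1 : Cj q (nft φ 0 0 0 d e z) (nf ![0, 0, 0, 0, 0, 0, 0, d, φ d, φ (φ d), 0, z1]) :=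
          ⟨_, hA r, by simpa only [nft, h0] using h1⟩
        have hz1 : φ z1 = z1 := by
          have hm : nf ![0, 0, 0, 0, 0, 0, 0, d, φ d, φ (φ d), 0, z1] ∈ chevD4.posUnipotent K ⊓ twistedD4 K q := by
            refine ⟨nf_mem _, ?_⟩
            obtain ⟨x, hx, hxe⟩ := e1
            exact cj_mem hx (nft_mem φ hf hK h0 he hz).2 hxe
          obtain ⟨_, _, _, _, _, z', -, -, hz', heq⟩ := exists_nft φ hf hK hm
          have := congrFun (nf_injective heq) 11
          simp at this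
          rwa [this]
        obtain ⟨r', hr'⟩ := T_surj φ hf hK hd0 (y := z1) hz1
        have h2 := conj_AB r' (φ r') (φ (φ r')) d (φ d) (φ (φ d)) z1
        rw [show d * r' + φ d * φ r' + φ (φ d) * φ (φ r') = z1 from hr', char2] at h2
        have e2 := e1.trans' ⟨_, fixed_mem φ hf hK (mul_mem (mul_mem (hU _ (by norm_num) (by norm_num) _)
          (hU _ (by norm_num) (by norm_num) _)) (hU _ (by norm_num) (by norm_num) _))
          (triple_fixed φ hf hK (by decide) r'), h2⟩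
        have e3 := e2.trans' ⟨_, nA_mem φ hf hK, nA_BD 0 d (φ d) (φ (φ d))⟩
        exact e3.trans' (scale_short φ hf hK hd0)
    · exact Or.inr (short_case φ hf hK he hz hc0 hu)
  · obtain ⟨z1, h1⟩ := conj_A (c / s) (φ (c / s)) (φ (φ (c / s))) s c (φ c) (φ (φ c)) d (φ d) (φ (φ d)) e z
    have e1' : ∀ x : K, φ (x / s) = φ x / s := fun x => by rw [map_div₀, hs]
    simp only [e1', div_mul_cancel₀ _ hs0, char2] at h1
    obtain ⟨x, hx, hxe⟩ : ∃ x ∈ twistedD4 K q, ∃ v : Fin 12 → K, x * nft φ 0 s c d e z * x⁻¹ = nf v ∧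
        v 0 = 0 ∧ v 3 = s ∧ v 4 = 0 := by
      exact ⟨_, hA (c / s), _, (by simp only [nft, h0, e1']; exact h1), by simp⟩
    obtain ⟨v, hv, v0, v3, v4⟩ := hxe
    have hm : nf v ∈ chevD4.posUnipotent K ⊓ twistedD4 K q :=
      ⟨nf_mem _, cj_mem hx (nft_mem φ hf hK hs he hz).2 hv⟩
    obtain ⟨t', s', c', d', e', z', hs', he', hz', heq⟩ := exists_nft φ hf hK hm
    have hv' := nf_injective heq
    have q0 := congrFun hv' 0
    have q3 := congrFun hv' 3
    have q4 := congrFun hv' 4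
    simp [v0, v3, v4] at q0 q3 q4
    subst q0 q3 q4
    have hcj : Cj q (nft φ 0 s c d e z) (nft φ 0 s 0 d' e' z') := ⟨x, hx, by rw [hv, heq]⟩
    have hu' := hcj.sq hu
    simp only [nft, h0] at hu'
    obtain ⟨a, ha, ha11⟩ := sq_B s d' (φ d') (φ (φ d')) e' z'
    rw [nf_one (ha.symm.trans hu'), Pi.zero_apply, eq_comm, mul_eq_zero] at ha11
    obtain rfl := ha11.resolve_left hs0
    have hr : φ (z' / s) = z' / s := by rw [map_div₀, hz', hs]
    have h2 := conj_E (z' / s) s d' (φ d') (φ (φ d')) z'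
    rw [div_mul_cancel₀ _ hs0, char2] at h2
    have e2 : Cj q (nft φ 0 s c d e z) (nf ![0, 0, 0, s, 0, 0, 0, d', φ d', φ (φ d'), 0, 0]) :=
      hcj.trans' ⟨_, hXf 22 (by decide) _ hr, by simpa only [nft, h0] using h2⟩
    by_cases hd0 : d' = 0
    · subst hd0
      left
      refine e2.trans' ?_
      have : nf ![0, 0, 0, s, 0, 0, 0, (0 : K), φ 0, φ (φ 0), 0, 0] = X 14 s := by simp [nf]
      rw [this]
      exact scale_long φ hf hK hs hs0
    · right
      have e3 := e2.trans' ⟨_, nA_mem φ hf hK, nA_BD s d' (φ d') (φ (φ d'))⟩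
      have e3' : Cj q (nft φ 0 s c d e z) (nft φ 0 0 d' 0 s 0) := by simpa only [nft, h0] using e3
      exact e3'.trans' (short_case φ hf hK hs h0 hd0 (e3'.sq hu))

include hf hK in
theorem in_U1 {g : GL chevD4.Idx K} (hg : g ∈ chevD4.posUnipotent K ⊓ twistedD4 K q) (hne : g ≠ 1) (hu : g * g = 1) :
    Cj q g (longRep : GL chevD4.Idx K) ∨ Cj q g (shortRep : GL chevD4.Idx K) := by
  have h0 : φ (0 : K) = 0 := map_zero φ
  obtain ⟨t, s, c, d, e, z, hs, he, hz, rfl⟩ := exists_nft φ hf hK hg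
  rcases eq_or_ne t 0 with rfl | ht
  · exact zero_t φ hf hK hs he hz hne hu
  obtain rfl := (sq_general φ hf hK hu).resolve_left ht
  obtain ⟨a, ha, ha7⟩ := sq_A t (φ t) (φ (φ t)) c (φ c) (φ (φ c)) d (φ d) (φ (φ d)) e z
  have hu' : nf ![t, φ t, φ (φ t), 0, c, φ c, φ (φ c), d, φ d, φ (φ d), e, z] *
      nf ![t, φ t, φ (φ t), 0, c, φ c, φ (φ c), d, φ d, φ (φ d), e, z] = 1 := hu
  rw [nf_one (ha.symm.trans hu'), Pi.zero_apply] at ha7
  have hl : φ (c / t) = c / t := by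
    refine B2_zero φ hf hK (c := t) (r := c) ht ?_
    simp only [B2]; linear_combination -ha7
  have h1 := conj_B (c / t) t (φ t) (φ (φ t)) c (φ c) (φ (φ c)) d (φ d) (φ (φ d)) e z
  have k1 : c / t * φ t = φ c := by rw [← hl, ← map_mul, div_mul_cancel₀ _ ht]
  have k2 : c / t * φ (φ t) = φ (φ c) := by
    rw [show c / t = φ (φ (c / t)) from by rw [hl, hl], ← map_mul, ← map_mul, div_mul_cancel₀ _ ht]
  simp only [div_mul_cancel₀ _ ht, k1, k2, char2] at h1
  have hXm : X 14 (c / t) ∈ twistedD4 K q :=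
    fixed_mem φ hf hK (Subgroup.subset_closure ⟨14, _, (isPos c4).2 (show 12 ≤ 14 ∧ 14 < 24 by norm_num), (xg_eq_iff c4).2 rfl⟩)
      (single_fixed φ hf hK (by decide) hl)
  obtain ⟨v, hv, vv⟩ : ∃ v : Fin 12 → K, X 14 (c / t) * nft φ t 0 c d e z * (X 14 (c / t))⁻¹ = nf v ∧
      v 0 = t ∧ v 3 = 0 ∧ v 4 = 0 := ⟨_, h1, by simp⟩
  obtain ⟨t', s', c', d', e', z', hs', he', hz', heq⟩ := exists_nft φ hf hK
    (show nf v ∈ chevD4.posUnipotent K ⊓ twistedD4 K q from
      ⟨nf_mem _, cj_mem hXm hg.2 hv⟩)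
  have hv' := nf_injective heq
  have q0 := congrFun hv' 0
  have q3 := congrFun hv' 3
  have q4 := congrFun hv' 4
  simp [vv.1, vv.2.1, vv.2.2] at q0 q3 q4
  subst q0 q3 q4
  have hcj : Cj q (nft φ t 0 c d e z) (nft φ t 0 0 d' e' z') := ⟨_, hXm, by rw [hv, heq]⟩
  have h2 : Cj q (nft φ t 0 c d e z) (nft φ 0 0 t d' z' e') :=
    hcj.trans' ⟨_, nB_mem φ hf, by
      simp only [nft, h0]; exact swap_AAB t (φ t) (φ (φ t)) d' (φ d') (φ (φ d')) e' z'⟩
  exact Or.inr (h2.trans' (short_case φ hf hK hz' he' ht (h2.sq hu)))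

include hf hK in
theorem all_involutions {g : GL chevD4.Idx K} (hg : g ∈ twistedD4 K q) (hne : g ≠ 1) (hu : g * g = 1) :
    Cj q g (longRep : GL chevD4.Idx K) ∨ Cj q g (shortRep : GL chevD4.Idx K) := by
  classical
  set s : ↥(twistedD4 K q) := ⟨g, hg⟩ with hsdef
  set H := (chevD4.posUnipotent K ⊓ twistedD4 K q).subgroupOf (twistedD4 K q)
  have hq := TwistedField.one_lt_base hK
  have hqe : q % 2 = 0 := by
    obtain ⟨n, -, hn⟩ := FiniteField.card K 2
    rw [hK] at hn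
    have : 2 ∣ q ^ 3 := hn ▸ dvd_pow_self 2 n.ne_zero
    have := Nat.Prime.dvd_of_dvd_pow Nat.prime_two this
    omega
  have hodd : ¬ 2 ∣ H.index := by
    have h := Subgroup.card_mul_index H
    rw [Nat.card_congr (Subgroup.subgroupOfEquivOfLe inf_le_right).toEquiv, card_U1 φ hf hK, card_group φ hf hK,
      mul_assoc, mul_assoc] at h
    rw [Nat.eq_of_mul_eq_mul_left (pow_pos (by omega) 12) h]
    have k : ∀ n, n ≠ 0 → q ^ n % 2 = 0 := fun n hn => by
      rw [Nat.pow_mod, hqe, zero_pow hn, Nat.zero_mod]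
    have p1 : ∀ n, 1 ≤ q ^ n := fun n => Nat.one_le_pow _ _ (by omega)
    intro hd
    rcases (Nat.Prime.dvd_mul Nat.prime_two).1 hd with h2 | h2
    · have := k 2 (by norm_num); have := p1 2; omega
    · rcases (Nat.Prime.dvd_mul Nat.prime_two).1 h2 with h3 | h3
      · have := k 6 (by norm_num); have := p1 6; omega
      · have := k 4 (by norm_num); have := k 8 (by norm_num); omega
  have hs2 : s * s = 1 := Subtype.ext hu
  have : Fintype (↥(twistedD4 K q) ⧸ H) := Fintype.ofFinite _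
  set σ : Equiv.Perm (↥(twistedD4 K q) ⧸ H) := MulAction.toPerm s
  have hσ : σ ^ (2 : ℕ) ^ 1 = 1 := by
    rw [pow_one, pow_two]
    ext x
    show s • s • x = x
    rw [smul_smul, hs2, one_smul]
  obtain ⟨x, hx⟩ := Equiv.Perm.exists_fixed_point_of_prime (p := 2) (n := 1)
    (by rw [← Nat.card_eq_fintype_card]; exact hodd) hσ
  obtain ⟨y, rfl⟩ := QuotientGroup.mk_surjective x
  have hy : y⁻¹ * (s * y) ∈ H := QuotientGroup.eq.1 (Eq.symm hx)
  set u : GL chevD4.Idx K := (y : GL chevD4.Idx K)⁻¹ * (g * y) with hudef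
  have hc : Cj q g u := ⟨(y : GL chevD4.Idx K)⁻¹, inv_mem y.2, by rw [hudef]; group⟩
  have hune : u ≠ 1 := fun e => hne (by
    rw [show g = (y : GL chevD4.Idx K) * u * (y : GL chevD4.Idx K)⁻¹ by rw [hudef]; group, e]; group)
  exact (in_U1 φ hf hK hy hune (hc.sq hu)).imp hc.trans' hc.trans'

end Cfsg.Agent.TwistedD4InvolMain71
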