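import Cfsg.Agent.Lib.TwistedD4InvolMain71

/-!
The long and short representatives are not conjugate: the ranks of `g - 1` differ.
-/

set_option autoImplicit false
set_option linter.unusedSectionVars false
set_option maxRecDepth 20000

namespace Cfsg.Agent.TwistedD4InvolRank71

open Cfsg.Lie Cfsg.Agent.ChevalleyCert Cfsg.Agent.ChevalleyCore Cfsg.Agent.ChevalleyExp
  Cfsg.Agent.TwistedD4 Cfsg.Agent.D4CharTwoNf71 Cfsg.Agent.TwistedD4Invol71 Cfsg.Agent.TwistedD4InvolMain71

/-- the number of an index -/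
def num : chevD4.Idx → ℕ
  | Sum.inl i => i.val
  | Sum.inr s => s.val + 4

/-- a bit of a list of rows -/
def bit (l : List ℕ) (i j : ℕ) : ZMod 2 := if (l.getD i 0).testBit j then 1 else 0

/-- factor of the long element -/
def AL : Matrix chevD4.Idx (Fin 10) (ZMod 2) := fun i j => bit [0, 32, 0, 0, 0, 2, 0, 0, 0, 4, 0, 0, 0, 0, 8, 16, 0, 0, 33, 64, 128, 0, 0, 256, 0, 0, 0, 512] (num i) j

/-- factor of the long element -/
def BL : Matrix (Fin 10) chevD4.Idx (ZMod 2) := fun i j => bit [13, 16, 256, 2048, 4096, 8192, 65536, 131072, 4194304, 67108864] i (num j)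

/-- selection for the short element -/
def PS : Matrix (Fin 11) chevD4.Idx (ZMod 2) := fun i j => bit [524295, 64, 16448, 16896, 1, 262656, 4, 7, 65536, 16842752, 18874368] i (num j)

/-- selection for the short element -/
def RS : Matrix chevD4.Idx (Fin 11) (ZMod 2) := fun i j => bit [1, 0, 0, 0, 2, 0, 4, 8, 16, 32, 0, 64, 128, 256, 0, 0, 512, 1024, 0, 0, 0, 0, 0, 0, 0, 0, 0, 0] (num i) j

theorem long_cert : xR chevD4 (ZMod 2) 14 1 + 1 = AL * BL := by decide +kernel

theorem short_cert :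
    PS * ((xR chevD4 (ZMod 2) 19 1 * xR chevD4 (ZMod 2) 16 1 * xR chevD4 (ZMod 2) 15 1 + 1) * RS) = 1 := by
  decide +kernel

variable {K : Type*} [Field K] [CharP K 2]

theorem not_conj (x : GL chevD4.Idx K) : x * longRep * x⁻¹ ≠ shortRep := by
  intro h
  set c : ZMod 2 →+* K := ZMod.castHom (dvd_refl 2) K
  have hx : ∀ r < chevD4.nroots, (xR chevD4 (ZMod 2) r 1).map c = ((X r (1 : K) : GL chevD4.Idx K) : Matrix chevD4.Idx chevD4.Idx K) := by
    intro r hr
    rw [xR_map, map_one, coe_xg, x_eq_xR c4 hr]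
  have hL := congrArg (fun M => M.map c) long_cert
  simp only [Matrix.map_mul, Matrix.map_add _ (map_add c), Matrix.map_one _ (map_zero c) (map_one c),
    hx 14 (by decide +kernel)] at hL
  have hS := congrArg (fun M => M.map c) short_cert
  simp only [Matrix.map_mul, Matrix.map_add _ (map_add c), Matrix.map_one _ (map_zero c) (map_one c),
    hx 19 (by decide +kernel), hx 16 (by decide +kernel), hx 15 (by decide +kernel)] at hS
  have hs : ((shortRep : GL chevD4.Idx K) : Matrix chevD4.Idx chevD4.Idx K) =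
      ((X 19 1 : GL chevD4.Idx K) : Matrix chevD4.Idx chevD4.Idx K) * ((X 16 1 : GL chevD4.Idx K) : Matrix chevD4.Idx chevD4.Idx K) * ((X 15 1 : GL chevD4.Idx K) : Matrix chevD4.Idx chevD4.Idx K) := by
    simp [shortRep, nf]
  rw [← hs] at hS
  have e : ((shortRep : GL chevD4.Idx K) : Matrix chevD4.Idx chevD4.Idx K) + 1 =
      ((x : Matrix chevD4.Idx chevD4.Idx K) * AL.map c) * (BL.map c * ((x⁻¹ : GL chevD4.Idx K) : Matrix chevD4.Idx chevD4.Idx K)) := by
    rw [← h, Units.val_mul, Units.val_mul, Matrix.mul_assoc _ (AL.map c), ← Matrix.mul_assoc (AL.map c), ← hL,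
      Matrix.add_mul, Matrix.one_mul, Matrix.mul_add, Units.mul_inv, ← Matrix.mul_assoc]
    rfl
  rw [e, Matrix.mul_assoc ((x : Matrix chevD4.Idx chevD4.Idx K) * AL.map c), ← Matrix.mul_assoc (PS.map c)] at hS
  have h1 := Matrix.rank_mul_le_left (PS.map c * ((x : Matrix chevD4.Idx chevD4.Idx K) * AL.map c))
    (BL.map c * ((x⁻¹ : GL chevD4.Idx K) : Matrix chevD4.Idx chevD4.Idx K) * RS.map c)
  rw [hS, Matrix.rank_one, Fintype.card_fin] at h1
  have h2 := Matrix.rank_le_width (PS.map c * ((x : Matrix chevD4.Idx chevD4.Idx K) * AL.map c))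
  omega

end Cfsg.Agent.TwistedD4InvolRank71
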