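import Cfsg.Agent.Lib.TwistedD4Simple
import Cfsg.Agent.Lib.MinDegreeAverage32
import Cfsg.Agent.Lib.CubicNormZero32

/-!
The configuration inside the special radical of `³D₄(q)` giving the minimal degree bound.
-/

set_option autoImplicit false
set_option linter.unusedSectionVars false
set_option maxRecDepth 20000

namespace Cfsg.Agent.TwistedD4MinDegree32

open Cfsg.Lie Cfsg.Agent.ChevalleyCert Cfsg.Agent.ChevalleyCore Cfsg.Agent.ChevalleyTorus
  Cfsg.Agent.TwistedCore Cfsg.Agent.TwistedTools Cfsg.Agent.TwistedD4 Cfsg.Agent.CubicNormZero32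

variable {K : Type*} [Field K]

/-- root element -/
noncomputable abbrev e (r : ℕ) (t : K) : GL chevD4.Idx K := xg c4 r t

/-- commutation test -/
def okc (r s : ℕ) : Bool :=
  decide (r < chevD4.nroots ∧ s < chevD4.nroots ∧ s ≠ r ∧ s ≠ chevD4.neg r ∧ chevD4.commTerms r s = [])

theorem cm {r s : ℕ} (h : okc r s = true) (t u : K) : Commute (e r t) (e s u) := by
  obtain ⟨h1, h2, h3, h4, h5⟩ := of_decide_eq_true h
  exact commute_xg c4 h1 h2 h3 h4 h5 t u

/-- one term commutation test -/
def one1 (r s k : ℕ) (c : ℤ) : Bool :=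
  decide (r < chevD4.nroots ∧ s < chevD4.nroots ∧ s ≠ r ∧ s ≠ chevD4.neg r ∧ chevD4.commTerms r s = [(k, c, 1, 1)])

theorem swap1 {r s k : ℕ} {c : ℤ} (h : one1 r s k c = true) (t u : K) :
    e s u * e r t = e r t * e s u * e k ((c : K) * (-t) * u) := by
  obtain ⟨h1, h2, h3, h4, h5⟩ := of_decide_eq_true h
  rw [comm_formula c4 h1 h2 h3 h4]
  simp [ChevalleyDatum.commWord, h5, wg, e]

/-- conjugation of a root element -/
theorem conj1 {r s k : ℕ} {c : ℤ} (h : one1 r s k c = true) (h' : okc s k = true) (t u : K) :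
    e s u * e r t * (e s u)⁻¹ = e r t * e k ((c : K) * (-t) * u) := by
  rw [swap1 h, mul_assoc (e r t), (cm h' u _).eq, ← mul_assoc, mul_inv_cancel_right]

theorem conj0 {r s : ℕ} (h : okc r s = true) (t u : K) : e s u * e r t * (e s u)⁻¹ = e r t :=
  mul_inv_eq_of_eq_mul (cm h t u).eq.symm

variable (f : K →+* K)

/-- the four parts -/
noncomputable def A (a : Fx f) : GL chevD4.Idx K := e 14 (a : K)

noncomputable def B (b : K) : GL chevD4.Idx K := e 19 b * e 16 (-(f b)) * e 15 (-(f (f b)))

noncomputable def C (c : K) : GL chevD4.Idx K := e 21 c * e 17 (-(f c)) * e 20 (f (f c))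

noncomputable def D (d : Fx f) : GL chevD4.Idx K := e 22 (d : K)

noncomputable def Z (z : Fx f) : GL chevD4.Idx K := e 23 (z : K)

theorem A_add (a a' : Fx f) : A f (a + a') = A f a * A f a' := by
  simp only [A, e]; rw [Subfield.coe_add, xg_mul c4]

theorem D_add (a a' : Fx f) : D f (a + a') = D f a * D f a' := by
  simp only [D, e]; rw [Subfield.coe_add, xg_mul c4]

theorem Z_add (a a' : Fx f) : Z f (a + a') = Z f a * Z f a' := by
  simp only [Z, e]; rw [Subfield.coe_add, xg_mul c4]

theorem triple_add {r s k : ℕ} (h1 : okc s r = true) (h2 : okc k r = true) (h3 : okc k s = true)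
    (a b c a' b' c' : K) : e r a * e s b * e k c * (e r a' * e s b' * e k c') = e r (a + a') * e s (b + b') * e k (c + c') := by
  simp only [e]
  rw [← xg_mul c4, ← xg_mul c4, ← xg_mul c4]
  have e1 : Commute (e k c) (e r a' * e s b') := (cm h2 _ _).mul_right (cm h3 _ _)
  have e2 : Commute (e s b) (e r a') := cm h1 _ _
  calc e r a * e s b * e k c * (e r a' * e s b' * e k c')
      = e r a * e s b * (e k c * (e r a' * e s b')) * e k c' := by simp only [mul_assoc]
    _ = e r a * (e s b * e r a') * e s b' * e k c * e k c' := by rw [e1.eq]; simp only [mul_assoc]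
    _ = _ := by rw [e2.eq]; simp only [mul_assoc]

theorem B_add (b b' : K) : B f (b + b') = B f b * B f b' := by
  simp only [B]
  rw [triple_add (by decide +kernel) (by decide +kernel) (by decide +kernel)]
  simp only [map_add, neg_add]

theorem C_add (b b' : K) : C f (b + b') = C f b * C f b' := by
  simp only [C]
  rw [triple_add (by decide +kernel) (by decide +kernel) (by decide +kernel)]
  simp only [map_add, neg_add]

theorem cmB {r : ℕ} (h1 : okc r 19 = true) (h2 : okc r 16 = true) (h3 : okc r 15 = true) (t b : K) :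
    Commute (e r t) (B f b) := ((cm h1 _ _).mul_right (cm h2 _ _)).mul_right (cm h3 _ _)

theorem cmC {r : ℕ} (h1 : okc r 21 = true) (h2 : okc r 17 = true) (h3 : okc r 20 = true) (t b : K) :
    Commute (e r t) (C f b) := ((cm h1 _ _).mul_right (cm h2 _ _)).mul_right (cm h3 _ _)

theorem AB (a : Fx f) (b : K) : Commute (A f a) (B f b) :=
  cmB f (by decide +kernel) (by decide +kernel) (by decide +kernel) _ _

theorem AC (a : Fx f) (b : K) : Commute (A f a) (C f b) :=
  cmC f (by decide +kernel) (by decide +kernel) (by decide +kernel) _ _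

theorem DB (a : Fx f) (b : K) : Commute (D f a) (B f b) :=
  cmB f (by decide +kernel) (by decide +kernel) (by decide +kernel) _ _

theorem DC (a : Fx f) (b : K) : Commute (D f a) (C f b) :=
  cmC f (by decide +kernel) (by decide +kernel) (by decide +kernel) _ _

theorem ZA (z a : Fx f) : Commute (Z f z) (A f a) := cm (by decide +kernel) _ _

theorem ZB (z : Fx f) (b : K) : Commute (Z f z) (B f b) :=
  cmB f (by decide +kernel) (by decide +kernel) (by decide +kernel) _ _

theorem ZC (z : Fx f) (b : K) : Commute (Z f z) (C f b) :=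
  cmC f (by decide +kernel) (by decide +kernel) (by decide +kernel) _ _

theorem ZD (z a : Fx f) : Commute (Z f z) (D f a) := cm (by decide +kernel) _ _

theorem ZZ (z z' : Fx f) : Commute (Z f z) (Z f z') := by
  show _ = _
  rw [← Z_add, ← Z_add, add_comm]

theorem DA (d a : Fx f) : D f d * A f a = A f a * D f d * Z f (-(a * d)) := by
  simp only [D, A, Z]
  rw [swap1 (k := 23) (c := 1) (by decide +kernel)]
  simp

variable (f3 : ∀ t, f (f (f t)) = t)

/-- the trace -/
def tr3 : K →+ Fx f where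
  toFun x := ⟨x + f x + f (f x), by show f (x + f x + f (f x)) = x + f x + f (f x); rw [map_add, map_add, f3]; abel⟩
  map_zero' := Subtype.ext (by simp)
  map_add' x y := Subtype.ext (by simp only [Subfield.coe_add, map_add]; abel)

/-- the pairing -/
def pz (b c : K) : Fx f := -tr3 f f3 (b * f c)

theorem CB (b c : K) : C f c * B f b = B f b * C f c * Z f (pz f f3 b c) := by
  set z1 : K := -(f (f b) * c) with hz1
  set z2 : K := -(b * f c) with hz2
  set z3 : K := -(f b * f (f c)) with hz3
  have h1 : e 21 c * e 15 (-(f (f b))) = e 15 (-(f (f b))) * e 21 c * e 23 z1 := by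
    rw [swap1 (k := 23) (c := -1) (by decide +kernel)]; congr 2; rw [hz1]; push_cast; ring
  have h2 : e 17 (-(f c)) * e 19 b = e 19 b * e 17 (-(f c)) * e 23 z2 := by
    rw [swap1 (k := 23) (c := -1) (by decide +kernel)]; congr 2; rw [hz2]; push_cast; ring
  have h3 : e 20 (f (f c)) * e 16 (-(f b)) = e 16 (-(f b)) * e 20 (f (f c)) * e 23 z3 := by
    rw [swap1 (k := 23) (c := -1) (by decide +kernel)]; congr 2; rw [hz3]; push_cast; ring
  have g21 : e 21 c * B f b = B f b * e 21 c * e 23 z1 := by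
    simp only [B, mul_assoc]
    rw [← mul_assoc (e 21 c) (e 19 b), (cm (r := 21) (s := 19) (by decide +kernel) _ _).eq, mul_assoc,
      ← mul_assoc (e 21 c) (e 16 _), (cm (r := 21) (s := 16) (by decide +kernel) _ _).eq, mul_assoc, h1]
    simp only [mul_assoc]
  have g17 : e 17 (-(f c)) * B f b = B f b * e 17 (-(f c)) * e 23 z2 := by
    have hz : Commute (e 23 z2) (e 16 (-(f b)) * e 15 (-(f (f b)))) :=
      (cm (by decide +kernel) _ _).mul_right (cm (by decide +kernel) _ _)
    have hc : Commute (e 17 (-(f c))) (e 16 (-(f b)) * e 15 (-(f (f b)))) :=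
      (cm (by decide +kernel) _ _).mul_right (cm (by decide +kernel) _ _)
    rw [show B f b = e 19 b * (e 16 (-(f b)) * e 15 (-(f (f b)))) from mul_assoc _ _ _, ← mul_assoc, h2,
      mul_assoc, hz.eq, ← mul_assoc, mul_assoc (e 19 b), hc.eq, ← mul_assoc]
  have g20 : e 20 (f (f c)) * B f b = B f b * e 20 (f (f c)) * e 23 z3 := by
    simp only [B, mul_assoc]
    rw [← mul_assoc (e 20 _) (e 19 b), (cm (r := 20) (s := 19) (by decide +kernel) _ _).eq, mul_assoc,
      ← mul_assoc (e 20 _) (e 16 _), h3]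
    have hz : Commute (e 23 z3) (e 15 (-(f (f b)))) := cm (by decide +kernel) _ _
    have hc : Commute (e 20 (f (f c))) (e 15 (-(f (f b)))) := cm (by decide +kernel) _ _
    simp only [mul_assoc]
    rw [hz.eq, ← mul_assoc (e 20 _) (e 15 _), hc.eq, mul_assoc]
  have z17 : Commute (e 23 z1) (e 17 (-(f c))) := cm (by decide +kernel) _ _
  have z20 : Commute (e 23 z1 * e 23 z2) (e 20 (f (f c))) :=
    (cm (by decide +kernel) _ _).mul_left (cm (by decide +kernel) _ _)
  have hz : Z f (pz f f3 b c) = e 23 z1 * e 23 z2 * e 23 z3 := by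
    simp only [Z, e]
    rw [xg_mul c4, xg_mul c4]
    congr 1
    show -(b * f c + f (b * f c) + f (f (b * f c))) = _
    rw [hz1, hz2, hz3, map_mul, map_mul, f3]
    ring
  rw [hz]
  calc C f c * B f b = e 21 c * e 17 (-(f c)) * (e 20 (f (f c)) * B f b) := by simp only [C, mul_assoc]
    _ = e 21 c * (e 17 (-(f c)) * B f b) * e 20 (f (f c)) * e 23 z3 := by rw [g20]; simp only [mul_assoc]
    _ = (e 21 c * B f b) * e 17 (-(f c)) * e 23 z2 * e 20 (f (f c)) * e 23 z3 := by rw [g17]; simp only [mul_assoc]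
    _ = B f b * e 21 c * (e 23 z1 * e 17 (-(f c))) * e 23 z2 * e 20 (f (f c)) * e 23 z3 := by
        rw [g21]; simp only [mul_assoc]
    _ = B f b * e 21 c * e 17 (-(f c)) * ((e 23 z1 * e 23 z2) * e 20 (f (f c))) * e 23 z3 := by
        rw [z17.eq]; simp only [mul_assoc]
    _ = _ := by rw [z20.eq]; simp only [C, mul_assoc]

/-- the section -/
noncomputable def U (w : Fx f × K × K × Fx f) : GL chevD4.Idx K :=
  A f w.1 * B f w.2.1 * C f w.2.2.1 * D f w.2.2.2

theorem ZU (z : Fx f) (w : Fx f × K × K × Fx f) : Commute (Z f z) (U f w) :=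
  (((ZA f _ _).mul_right (ZB f _ _)).mul_right (ZC f _ _)).mul_right (ZD f _ _)

include f3 in
theorem U_mul (w w' : Fx f × K × K × Fx f) :
    U f w * U f w' = U f (w + w') * Z f (-(w'.1 * w.2.2.2) + pz f f3 w'.2.1 w.2.2.1) := by
  obtain ⟨a, b, c, d⟩ := w
  obtain ⟨a', b', c', d'⟩ := w'
  simp only [U, Prod.mk_add_mk]
  rw [A_add, B_add, C_add, D_add, Z_add]
  set z := Z f (-(a' * d))
  set z' := Z f (pz f f3 b' c)
  have h1 : D f d * A f a' = A f a' * D f d * z := DA f d a'
  have h2 : C f c * B f b' = B f b' * C f c * z' := CB f f3 b' c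
  have zB : Commute z (B f b') := ZB f _ _
  have zC : Commute (z * z') (C f c') := (ZC f _ _).mul_left (ZC f _ _)
  have zD : Commute (z * z') (D f d') := (ZD f _ _).mul_left (ZD f _ _)
  have zD0 : Commute z' (D f d) := ZD f _ _
  calc A f a * B f b * C f c * D f d * (A f a' * B f b' * C f c' * D f d')
      = A f a * B f b * C f c * (D f d * A f a') * B f b' * C f c' * D f d' := by simp only [mul_assoc]
    _ = A f a * B f b * (C f c * A f a') * D f d * (z * B f b') * C f c' * D f d' := by rw [h1]; simp only [mul_assoc]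
    _ = A f a * (B f b * A f a') * C f c * (D f d * B f b') * z * C f c' * D f d' := by
        rw [(AC f a' c).symm.eq, zB.eq]; simp only [mul_assoc]
    _ = A f a * A f a' * B f b * (C f c * B f b') * D f d * z * C f c' * D f d' := by
        rw [(AB f a' b).symm.eq, (DB f d b').eq]; simp only [mul_assoc]
    _ = A f a * A f a' * B f b * B f b' * C f c * (z' * D f d) * z * C f c' * D f d' := by
        rw [h2]; simp only [mul_assoc]
    _ = A f a * A f a' * B f b * B f b' * C f c * D f d * (z * z' * C f c') * D f d' := by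
        rw [zD0.eq, (ZZ f (-(a' * d)) (pz f f3 b' c)).eq]; simp only [z, z', mul_assoc]
    _ = A f a * A f a' * B f b * B f b' * C f c * (D f d * C f c') * (z * z' * D f d') := by
        rw [zC.eq]; simp only [mul_assoc]
    _ = _ := by rw [(DC f d c').eq, zD.eq]; simp only [mul_assoc]

include f3 in
theorem conj14 (c : Fx f) (t : K) :
    tri t (f t) (f (f t)) * A f c * (tri t (f t) (f (f t)))⁻¹ =
      U f (c • pt f f3 1 t) * Z f (-(c * c * nm f f3 t)) := by
  set t' := f t with ht'
  set t'' := f (f t) with ht''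
  set k : K := (c : K) with hk
  have s12 : e 12 t'' * e 14 k * (e 12 t'')⁻¹ = e 14 k * e 15 (k * t'') := by
    rw [conj1 (k := 15) (c := -1) (by decide +kernel) (by decide +kernel)]; congr 2; push_cast; ring
  have a13 : e 13 t' * e 14 k * (e 13 t')⁻¹ = e 14 k * e 16 (k * t') := by
    rw [conj1 (k := 16) (c := -1) (by decide +kernel) (by decide +kernel)]; congr 2; push_cast; ring
  have b13 : e 13 t' * e 15 (k * t'') * (e 13 t')⁻¹ = e 15 (k * t'') * e 17 (k * t'' * t') := by
    rw [conj1 (k := 17) (c := -1) (by decide +kernel) (by decide +kernel)]; congr 2; push_cast; ring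
  have a18 : e 18 t * e 14 k * (e 18 t)⁻¹ = e 14 k * e 19 (-(k * t)) := by
    rw [conj1 (k := 19) (c := 1) (by decide +kernel) (by decide +kernel)]; congr 2; push_cast; ring
  have b18 : e 18 t * e 16 (k * t') * (e 18 t)⁻¹ = e 16 (k * t') * e 21 (-(k * t' * t)) := by
    rw [conj1 (k := 21) (c := 1) (by decide +kernel) (by decide +kernel)]; congr 2; push_cast; ring
  have c18 : e 18 t * e 15 (k * t'') * (e 18 t)⁻¹ = e 15 (k * t'') * e 20 (-(k * t'' * t)) := by
    rw [conj1 (k := 20) (c := 1) (by decide +kernel) (by decide +kernel)]; congr 2; push_cast; ring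
  have d18 : e 18 t * e 17 (k * t'' * t') * (e 18 t)⁻¹ = e 17 (k * t'' * t') * e 22 (-(k * t'' * t' * t)) := by
    rw [conj1 (k := 22) (c := 1) (by decide +kernel) (by decide +kernel)]; congr 2; push_cast; ring
  have hA : A f c = e 14 k := rfl
  have hconj : ∀ g x y : GL chevD4.Idx K, g * (x * y) * g⁻¹ = g * x * g⁻¹ * (g * y * g⁻¹) := fun g x y => by group
  rw [hA]
  calc tri t t' t'' * e 14 k * (tri t t' t'')⁻¹
      = e 18 t * (e 13 t' * (e 12 t'' * e 14 k * (e 12 t'')⁻¹) * (e 13 t')⁻¹) * (e 18 t)⁻¹ := by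
        simp only [tri, d4p1, d4p3, d4p4, e]; group
    _ = e 14 k * e 19 (-(k * t)) * (e 16 (k * t') * e 21 (-(k * t' * t))) *
          (e 15 (k * t'') * e 20 (-(k * t'' * t)) * (e 17 (k * t'' * t') * e 22 (-(k * t'' * t' * t)))) := by
        rw [s12, hconj (e 13 t'), a13, b13, hconj (e 18 t), hconj (e 18 t), hconj (e 18 t), a18, b18, c18, d18]
    _ = e 14 k * e 19 (-(k * t)) * e 16 (k * t') * (e 21 (-(k * t' * t)) * e 15 (k * t'')) *
          (e 20 (-(k * t'' * t)) * e 17 (k * t'' * t')) * e 22 (-(k * t'' * t' * t)) := by simp only [mul_assoc]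
    _ = e 14 k * e 19 (-(k * t)) * e 16 (k * t') * (e 15 (k * t'') * e 21 (-(k * t' * t)) * e 23 (-(k * k * (t * t' * t'')))) *
          (e 17 (k * t'' * t') * e 20 (-(k * t'' * t))) * e 22 (-(k * t'' * t' * t)) := by
        rw [(cm (r := 20) (s := 17) (by decide +kernel) _ _).eq, swap1 (r := 15) (s := 21) (k := 23) (c := -1) (by decide +kernel)]
        congr 4; push_cast; ring
    _ = e 14 k * (e 19 (-(k * t)) * e 16 (k * t') * e 15 (k * t'')) *
          (e 21 (-(k * t' * t)) * e 17 (k * t'' * t') * e 20 (-(k * t'' * t))) * e 22 (-(k * t'' * t' * t)) *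
          e 23 (-(k * k * (t * t' * t''))) := by
        have hz : Commute (e 23 (-(k * k * (t * t' * t''))))
            (e 17 (k * t'' * t') * e 20 (-(k * t'' * t)) * e 22 (-(k * t'' * t' * t))) :=
          ((cm (by decide +kernel) _ _).mul_right (cm (by decide +kernel) _ _)).mul_right (cm (by decide +kernel) _ _)
        simp only [mul_assoc] at hz ⊢
        rw [hz.eq]
        simp only [mul_assoc]
    _ = _ := by
        have h23 : Z f (-(c * c * nm f f3 t)) = e 23 (-(k * k * (t * t' * t''))) := rfl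
        rw [h23]
        simp only [U, A, B, C, D, pt, Prod.smul_mk, Subfield.smul_def, smul_eq_mul]
        congr 1
        simp [nm, hk, ht', ht'', map_mul, fx_eq, f3]
        ring_nf

/-! ### inside the group -/

variable [Fintype K] {q : ℕ} (hf : ∀ t, f t = t ^ q) (hK : Fintype.card K = q ^ 3)

include hf hK in
theorem f3' (t : K) : f (f (f t)) = t := TwistedD4.f3 f hf hK t

/-- fixed element test -/
theorem sg_e {r r' : ℕ} (hr : r < chevD4.nroots) (h : ChevalleyGraph.symD4a.rho r = r') {ε : ℤ}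
    (h' : ChevalleyGraph.symD4a.eps r = ε) (t : K) : (tw f).sg (e r t) = e r' ((ε : K) * f t) := by
  rw [sg_all f hr, h, h']

include hf hK in
theorem mem_of_fixed {g : GL chevD4.Idx K} (h1 : g ∈ chevD4.posUnipotent K)
    (h2 : (tw f).sg g = g) (h3 : g ∈ chevD4.group K) : g ∈ twistedD4 K q :=
  (classes f hf hK).fixed_U_le h1 ⟨h3, h2⟩

theorem pos_ok : ∀ r ∈ ([14, 15, 16, 17, 19, 20, 21, 22, 23] : List ℕ), chevD4.IsPosRoot r := by decide +kernel

theorem memU {r : ℕ} (h : r ∈ ([14, 15, 16, 17, 19, 20, 21, 22, 23] : List ℕ)) (t : K) :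
    e r t ∈ chevD4.posUnipotent K := (tw (RingHom.id K)).S.xg_mem_U (pos_ok r h) t

include hf hK in
theorem A_mem (a : Fx f) : A f a ∈ twistedD4 K q := by
  refine mem_of_fixed f hf hK (memU (by simp) _) ?_ (xg_mem_group c4 _ _)
  rw [A, sg_e f (by decide +kernel) (r' := 14) (by decide +kernel) (ε := 1) (by decide +kernel), fx_eq]
  simp

include hf hK in
theorem D_mem (a : Fx f) : D f a ∈ twistedD4 K q := by
  refine mem_of_fixed f hf hK (memU (by simp) _) ?_ (xg_mem_group c4 _ _)
  rw [D, sg_e f (by decide +kernel) (r' := 22) (by decide +kernel) (ε := 1) (by decide +kernel), fx_eq]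
  simp

include hf hK in
theorem Z_mem (a : Fx f) : Z f a ∈ twistedD4 K q := by
  refine mem_of_fixed f hf hK (memU (by simp) _) ?_ (xg_mem_group c4 _ _)
  rw [Z, sg_e f (by decide +kernel) (r' := 23) (by decide +kernel) (ε := 1) (by decide +kernel), fx_eq]
  simp

include hf hK in
theorem B_mem (b : K) : B f b ∈ twistedD4 K q := by
  have hm := fun r t => xg_mem_group (F := K) c4 r t
  refine mem_of_fixed f hf hK (mul_mem (mul_mem (memU (by simp) _) (memU (by simp) _)) (memU (by simp) _)) ?_
    (mul_mem (mul_mem (hm _ _) (hm _ _)) (hm _ _))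
  rw [B, (tw f).sg_mul (mul_mem (hm _ _) (hm _ _)) (hm _ _), (tw f).sg_mul (hm _ _) (hm _ _),
    sg_e f (by decide +kernel) (r' := 16) (by decide +kernel) (ε := -1) (by decide +kernel),
    sg_e f (by decide +kernel) (r' := 15) (by decide +kernel) (ε := 1) (by decide +kernel),
    sg_e f (by decide +kernel) (r' := 19) (by decide +kernel) (ε := -1) (by decide +kernel), map_neg, map_neg,
    f3' f hf hK]
  simp only [Int.cast_neg, Int.cast_one, neg_mul, one_mul, neg_neg]
  exact ((cm (r := 19) (s := 16) (by decide +kernel) _ _).mul_right (cm (r := 19) (s := 15) (by decide +kernel) _ _)).eq.symm.trans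
    (mul_assoc _ _ _).symm

include hf hK in
theorem C_mem (b : K) : C f b ∈ twistedD4 K q := by
  have hm := fun r t => xg_mem_group (F := K) c4 r t
  refine mem_of_fixed f hf hK (mul_mem (mul_mem (memU (by simp) _) (memU (by simp) _)) (memU (by simp) _)) ?_
    (mul_mem (mul_mem (hm _ _) (hm _ _)) (hm _ _))
  rw [C, (tw f).sg_mul (mul_mem (hm _ _) (hm _ _)) (hm _ _), (tw f).sg_mul (hm _ _) (hm _ _),
    sg_e f (by decide +kernel) (r' := 17) (by decide +kernel) (ε := -1) (by decide +kernel),
    sg_e f (by decide +kernel) (r' := 20) (by decide +kernel) (ε := -1) (by decide +kernel),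
    sg_e f (by decide +kernel) (r' := 21) (by decide +kernel) (ε := 1) (by decide +kernel), map_neg,
    f3' f hf hK]
  simp only [Int.cast_neg, Int.cast_one, neg_mul, one_mul, neg_neg]
  exact ((cm (r := 21) (s := 17) (by decide +kernel) _ _).mul_right (cm (r := 21) (s := 20) (by decide +kernel) _ _)).eq.symm.trans
    (mul_assoc _ _ _).symm

/-- the group -/
abbrev G (K : Type*) [Field K] (q : ℕ) := ↥(twistedD4 K q)

/-- `A` in the group -/
noncomputable def gA (a : Fx f) : G K q := ⟨A f a, A_mem f hf hK a⟩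
/-- `B` in the group -/
noncomputable def gB (a : K) : G K q := ⟨B f a, B_mem f hf hK a⟩
/-- `C` in the group -/
noncomputable def gC (a : K) : G K q := ⟨C f a, C_mem f hf hK a⟩
/-- `D` in the group -/
noncomputable def gD (a : Fx f) : G K q := ⟨D f a, D_mem f hf hK a⟩
/-- `Z` in the group -/
noncomputable def gZ (a : Fx f) : G K q := ⟨Z f a, Z_mem f hf hK a⟩
/-- `U` in the group -/
noncomputable def gU (w : Fx f × K × K × Fx f) : G K q :=
  gA f hf hK w.1 * gB f hf hK w.2.1 * gC f hf hK w.2.2.1 * gD f hf hK w.2.2.2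

theorem chain : chevD4.reflectRoot 3 14 = 15 ∧ chevD4.reflectRoot 2 15 = 17 ∧ chevD4.reflectRoot 0 17 = 22 ∧
    chevD4.reflectRoot 1 22 = 23 ∧ tchar chevD4 (fun _ => (1 : ℚˣ)) 0 = 1 ∧
    [chevD4.cartan 0 23, chevD4.cartan 1 23, chevD4.cartan 2 23, chevD4.cartan 3 23] = [0, 1, 0, 0] := by
  refine ⟨by decide +kernel, by decide +kernel, by decide +kernel, by decide +kernel, tchar_one _, by decide +kernel⟩

variable {V : Type*} [AddCommGroup V] [Module ℂ V] (ρ : Representation ℂ (G K q) V)

include hf hK in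
theorem char_Z {z : Fx f} (hz : z ≠ 0) : ρ.character (gZ f hf hK z) = ρ.character (gZ f hf hK 1) := by
  have hz' : (z : K) ≠ 0 := fun h => hz (Subtype.ext h)
  set a : Kˣ := Units.mk0 (z : K) hz'
  have ha : a ^ q = a := Units.ext (by rw [Units.val_pow_eq_pow_val, Units.val_mk0, ← hf]; exact fx_eq f z)
  set h : G K q := ⟨torus chevD4 (tp q a 1), torus_tp_mem f hf ha 1⟩
  have e1 : h * gZ f hf hK 1 * h⁻¹ = gZ f hf hK z := by
    refine Subtype.ext ?_
    show torus chevD4 (tp q a 1) * Z f 1 * (torus chevD4 (tp q a 1))⁻¹ = Z f z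
    simp only [Z, e]
    rw [torus_conj_xg c4 (by decide +kernel)]
    congr 1
    obtain ⟨-, -, -, -, -, hc⟩ := chain
    simp only [List.cons.injEq, and_true] at hc
    obtain ⟨c0, c1, c2, c3⟩ := hc
    have : tchar chevD4 (tp q a 1) 23 = a := by
      show ∏ i : Fin 4, tp q a 1 i ^ chevD4.cartan i.val 23 = a
      rw [Fin.prod_univ_four]
      show tp q a 1 (nd 0) ^ chevD4.cartan 0 23 * tp q a 1 (nd 1) ^ chevD4.cartan 1 23 *
        tp q a 1 (nd 2) ^ chevD4.cartan 2 23 * tp q a 1 (nd 3) ^ chevD4.cartan 3 23 = a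
      rw [c0, c1, c2, c3]
      simp [tp]
    rw [this, Subfield.coe_one, mul_one, Units.val_mk0]
  rw [← e1, Representation.char_conj]

include hf hK in
theorem char_D {d : Fx f} (hd : d ≠ 0) : ρ.character (gD f hf hK d) = ρ.character (gZ f hf hK 1) := by
  set n : G K q := ⟨ng c4 d4p2 1, ng2_mem f hf (one_pow q)⟩
  set k : Fx f := ((c4.eta 1 22 : ℤ) : Fx f) * d with hk
  have e1 : n * gD f hf hK d * n⁻¹ = gZ f hf hK k := by
    refine Subtype.ext ?_
    show ng c4 d4p2 1 * e 22 (d : K) * (ng c4 d4p2 1)⁻¹ = e 23 (k : K)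
    rw [show d4p2 = chevD4.simple 1 from simples.2.1.symm, ng_simple_conj c4 (by decide +kernel) (by decide +kernel),
      chain.2.2.2.1, hk]
    simp
  have hk0 : k ≠ 0 := fun h => hd (by
    have h' : ((c4.eta 1 22 : ℤ) : K) * (d : K) = 0 := by
      have := congrArg Subtype.val h
      simpa [hk] using this
    exact Subtype.ext ((mul_eq_zero.1 h').resolve_left (eta_cast_ne c4 _ _)))
  rw [← char_Z f hf hK ρ hk0, ← e1, Representation.char_conj]

include hf hK in
theorem char_A {d : Fx f} (hd : d ≠ 0) : ρ.character (gA f hf hK d) = ρ.character (gZ f hf hK 1) := by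
  have hm : tn (1 : K) 1 1 ∈ twistedD4 K q := by simpa using tn_mem f hf (1 : K)
  set n : G K q := ⟨tn 1 1 1, hm⟩
  set k : Fx f := ((c4.eta 0 17 : ℤ) : Fx f) * (((c4.eta 2 15 : ℤ) : Fx f) * (((c4.eta 3 14 : ℤ) : Fx f) * d)) with hk
  have e1 : n * gA f hf hK d * n⁻¹ = gD f hf hK k := by
    refine Subtype.ext ?_
    show tn 1 1 1 * e 14 (d : K) * (tn 1 1 1)⁻¹ = e 22 (k : K)
    obtain ⟨q1, -, q3, q4, -⟩ := simples
    have : ∀ a b c x : GL chevD4.Idx K, a * b * c * x * (a * b * c)⁻¹ = a * (b * (c * x * c⁻¹) * b⁻¹) * a⁻¹ :=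
      fun a b c x => by group
    rw [tn, this, ← q4, ng_simple_conj c4 (by decide +kernel) (by decide +kernel), chain.1, ← q3,
      ng_simple_conj c4 (by decide +kernel) (by decide +kernel), chain.2.1, ← q1,
      ng_simple_conj c4 (by decide +kernel) (by decide +kernel), chain.2.2.1, hk]
    simp
  have hk0 : k ≠ 0 := fun h => hd (by
    have h' : ((c4.eta 0 17 : ℤ) : K) * (((c4.eta 2 15 : ℤ) : K) * (((c4.eta 3 14 : ℤ) : K) * (d : K))) = 0 := by
      have := congrArg Subtype.val h
      simpa [hk] using this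
    exact Subtype.ext ((mul_eq_zero.1 (((mul_eq_zero.1 ((mul_eq_zero.1 h').resolve_left
      (eta_cast_ne c4 _ _))).resolve_left (eta_cast_ne c4 _ _)))).resolve_left (eta_cast_ne c4 _ _)))
  rw [← char_D f hf hK ρ hk0, ← e1, Representation.char_conj]

include hf hK in
theorem exists_tr3 : ∃ x : K, tr3 f (f3' f hf hK) x ≠ 0 := by
  classical
  by_contra! hc
  open Polynomial in
  let P : K[X] := X ^ q ^ 2 + X ^ q + X
  have hq := TwistedField.one_lt_base hK
  have hq2 : q < q ^ 2 := by rw [pow_two]; exact lt_mul_of_one_lt_left (by omega) hq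
  have hd : P.natDegree = q ^ 2 := by
    simp only [P]
    rw [Polynomial.natDegree_add_eq_left_of_natDegree_lt, Polynomial.natDegree_add_eq_left_of_natDegree_lt] <;>
      simp [Polynomial.natDegree_X_pow, hq2]
    · rw [Polynomial.natDegree_add_eq_left_of_natDegree_lt (by simp [hq2])]
      simp; omega
  have h0 : P = 0 := by
    refine Polynomial.eq_zero_of_natDegree_lt_card_of_eval_eq_zero' P Finset.univ (fun x _ => ?_) ?_
    · have h := congrArg Subtype.val (hc x)
      simp only [tr3, AddMonoidHom.coe_mk, ZeroHom.coe_mk, ZeroMemClass.coe_zero] at h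
      rw [f_f f hf, hf] at h
      simp only [P, Polynomial.eval_add, Polynomial.eval_pow, Polynomial.eval_X]
      rw [← h]; ring
    · rw [Finset.card_univ, hd, hK]
      exact Nat.pow_lt_pow_right hq (by norm_num)
  rw [h0, Polynomial.natDegree_zero] at hd
  omega

/-- the pairing as a homomorphism -/
noncomputable def bt (y : Fx f × K) : Fx f × K →+ Fx f where
  toFun x := -(x.1 * y.1) + pz f (f3' f hf hK) x.2 y.2
  map_zero' := by simp [pz]
  map_add' x x' := by
    simp only [Prod.fst_add, Prod.snd_add, pz, add_mul, map_add, neg_add_rev]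
    abel

include hf hK in
theorem bt_inj (ψ : AddChar (Fx f) ℂ) (hψ : ψ ≠ 0) (y y' : Fx f × K)
    (h : ∀ x, ψ (bt f hf hK y x) = ψ (bt f hf hK y' x)) : y = y' := by
  have hzero : ∀ x, ψ (bt f hf hK y x - bt f hf hK y' x) = 1 := fun x => by
    rw [AddChar.map_sub_eq_div, h, div_self (AddChar.val_isUnit ψ _).ne_zero]
  obtain ⟨z, hz⟩ : ∃ z, ψ z ≠ 1 := by
    by_contra! hc
    exact hψ (DFunLike.ext _ _ fun z => by rw [hc, AddChar.zero_apply])
  refine Prod.ext ?_ ?_
  · by_contra hne
    refine hz ?_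
    have := hzero (-(z * (y.1 - y'.1)⁻¹), 0)
    simp only [bt, AddMonoidHom.coe_mk, ZeroHom.coe_mk] at this
    have e : ∀ w, pz f (f3' f hf hK) 0 w = 0 := fun w => by simp [pz]
    rw [e, e, add_zero, add_zero] at this
    convert this using 2
    have h0 : y.1 - y'.1 ≠ 0 := sub_ne_zero.2 hne
    field_simp
  · by_contra hne
    refine hz ?_
    obtain ⟨x0, hx0⟩ := exists_tr3 f hf hK
    set n := tr3 f (f3' f hf hK) x0
    have hw : f y.2 - f y'.2 ≠ 0 := sub_ne_zero.2 (f.injective.ne hne)
    have := hzero (0, -(x0 * ((n⁻¹ * z : Fx f) : K) / (f y.2 - f y'.2)))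
    convert this using 2
    simp only [bt, AddMonoidHom.coe_mk, ZeroHom.coe_mk, pz, zero_mul, neg_zero, zero_add]
    rw [sub_neg_eq_add, neg_add_eq_sub, ← map_sub]
    have hlin : ∀ (c : Fx f) (x : K), tr3 f (f3' f hf hK) ((c : K) * x) = c * tr3 f (f3' f hf hK) x := fun c x =>
      Subtype.ext (by simp only [tr3, AddMonoidHom.coe_mk, ZeroHom.coe_mk, Subfield.coe_mul, map_mul, fx_eq]; ring)
    have e : -(x0 * ((n⁻¹ * z : Fx f) : K) / (f y.2 - f y'.2)) * f y'.2 -
        -(x0 * ((n⁻¹ * z : Fx f) : K) / (f y.2 - f y'.2)) * f y.2 = ((n⁻¹ * z : Fx f) : K) * x0 := by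
      field_simp
      ring
    rw [e, hlin, mul_comm n⁻¹ z, mul_assoc, inv_mul_cancel₀ hx0, mul_one]

include hf hK in
theorem gZ_ne : gZ f hf hK 1 ≠ 1 := by
  intro h
  have h' : e 23 ((1 : Fx f) : K) = xg c4 23 0 := by rw [xg_zero]; exact congrArg Subtype.val h
  exact one_ne_zero (α := K) (ChevBruhatInstance.xg_injective c4 (by decide +kernel) (by decide +kernel)
    (by rw [Subfield.coe_one]; exact one_ne_zero) h').2

variable [FiniteDimensional ℂ V] [Fintype (Fx f)] [Fintype {c : Fx f // c ≠ 0}]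

/-- the configuration -/
noncomputable def config (hfaith : ρ (gZ f hf hK 1) ≠ 1) :
    MinDegreeAverage32.Config ρ (Fx f) (Fx f × K × K × Fx f) ({c : Fx f // c ≠ 0} × Option K) (Fx f × K) (Fx f × K) where
  zeta := gZ f hf hK
  zeta_add a b := Subtype.ext (Z_add f a b)
  u := gU f hf hK
  comm w z := Subtype.ext (ZU f z w).eq.symm
  u_mul w w' := ⟨_, Subtype.ext (U_mul f (f3' f hf hK) w w')⟩
  v := vv f (f3' f hf hK)
  z1 := 1
  z1_ne := one_ne_zero
  const z hz := char_Z f hf hK ρ hz
  conj := by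
    rintro ⟨⟨c, hc⟩, (_ | t)⟩
    · refine ⟨0, ?_⟩
      have : gU f hf hK (vv f (f3' f hf hK) (⟨c, hc⟩, none)) * gZ f hf hK 0 = gD f hf hK (-c) := by
        refine Subtype.ext ?_
        show U f (c • pt f (f3' f hf hK) 0 1) * Z f 0 = D f (-c)
        simp [U, A, B, C, D, Z, e, pt, nm, Subfield.smul_def]
      rw [this]
      exact char_D f hf hK ρ (neg_ne_zero.2 hc)
    · refine ⟨-(c * c * nm f (f3' f hf hK) t), ?_⟩
      set g : G K q := ⟨tri t (t ^ q) (t ^ q ^ 2), (tri_mem q t).1⟩
      have : g * gA f hf hK c * g⁻¹ = gU f hf hK (vv f (f3' f hf hK) (⟨c, hc⟩, some t)) *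
          gZ f hf hK (-(c * c * nm f (f3' f hf hK) t)) := by
        refine Subtype.ext ?_
        show tri t (t ^ q) (t ^ q ^ 2) * A f c * (tri t (t ^ q) (t ^ q ^ 2))⁻¹ = _
        rw [← f_f f hf, ← hf]
        exact conj14 f (f3' f hf hK) c t
      rw [← this, Representation.char_conj, char_A f hf hK ρ hc]
  shift := by
    intro i ψ hψ
    obtain ⟨z, hz⟩ : ∃ z, ψ z ≠ 1 := by
      by_contra! hc
      exact hψ (DFunLike.ext _ _ fun z => by rw [hc, AddChar.zero_apply])
    obtain ⟨⟨c, hc⟩, (_ | t)⟩ := i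
    · refine ⟨gA f hf hK (-(z / c)), z, fun w => Subtype.ext (ZA f w _).eq.symm, Subtype.ext ?_, hz⟩
      set a : Fx f := -(z / c)
      show A f a * U f (c • pt f (f3' f hf hK) 0 1) * (A f a)⁻¹ = U f (c • pt f (f3' f hf hK) 0 1) * Z f z
      have e : U f (c • pt f (f3' f hf hK) 0 1) = D f (-c) := by
        simp [U, A, B, C, D, e, pt, nm, Subfield.smul_def]
      rw [e, mul_inv_eq_iff_eq_mul, mul_assoc (D f (-c)), (ZA f _ _).eq, ← mul_assoc, DA, mul_assoc (A f a * D f (-c)),
        ← Z_add]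
      have : -(a * -c) + z = 0 := by simp only [a]; field_simp; ring
      rw [this]
      simp [Z, e]
    · refine ⟨gD f hf hK (-(z / c)), z, fun w => Subtype.ext (ZD f w _).eq.symm, Subtype.ext ?_, hz⟩
      set d : Fx f := -(z / c)
      set w := c • pt f (f3' f hf hK) 1 t with hw
      show D f d * U f w * (D f d)⁻¹ = U f w * Z f z
      have hw1 : w.1 = c := Subtype.ext (by simp [hw, pt, nm])
      have hr : Commute (D f d) (B f w.2.1 * C f w.2.2.1 * D f w.2.2.2) :=
        ((DB f d _).mul_right (DC f d _)).mul_right (show D f d * D f _ = D f _ * D f d by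
          rw [← D_add, ← D_add, add_comm])
      have hz' : Commute (Z f z) (B f w.2.1 * C f w.2.2.1 * D f w.2.2.2) :=
        ((ZB f _ _).mul_right (ZC f _ _)).mul_right (ZD f _ _)
      have e : U f w = A f c * (B f w.2.1 * C f w.2.2.1 * D f w.2.2.2) := by
        simp only [U, hw1, mul_assoc]
      rw [e]
      set R := B f w.2.1 * C f w.2.2.1 * D f w.2.2.2
      rw [mul_inv_eq_iff_eq_mul, ← mul_assoc, DA, show -(c * d) = z by simp only [d]; field_simp,
        mul_assoc _ (Z f z), hz'.eq, mul_assoc _ (D f d), ← mul_assoc (D f d) R, hr.eq]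
      simp only [mul_assoc]
      rw [(ZD f z d).eq]
  x p := gA f hf hK p.1 * gB f hf hK p.2
  x_add p p' := Subtype.ext (by
    show A f (p.1 + p'.1) * B f (p.2 + p'.2) = A f p.1 * B f p.2 * (A f p'.1 * B f p'.2)
    rw [A_add, B_add, (AB f p'.1 p.2).symm.mul_mul_mul_comm])
  x_comm p z := Subtype.ext (((ZA f z _).mul_right (ZB f z _)).eq.symm)
  y p := gC f hf hK p.2 * gD f hf hK p.1
  y_comm p z := Subtype.ext (((ZC f z _).mul_right (ZD f z _)).eq.symm)
  beta := bt f hf hK
  y_conj := by
    rintro ⟨d, c⟩ ⟨a, b⟩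
    refine Subtype.ext ?_
    show C f c * D f d * (A f a * B f b) * (C f c * D f d)⁻¹ =
      A f a * B f b * Z f (-(a * d) + pz f (f3' f hf hK) b c)
    rw [Z_add, mul_inv_eq_iff_eq_mul]
    set z := Z f (-(a * d))
    set z' := Z f (pz f (f3' f hf hK) b c)
    have zB : Commute z (B f b) := ZB f _ _
    have zC : Commute (z * z') (C f c) := (ZC f _ _).mul_left (ZC f _ _)
    have zD : Commute (z * z') (D f d) := (ZD f _ _).mul_left (ZD f _ _)
    calc C f c * D f d * (A f a * B f b) = C f c * (D f d * A f a) * B f b := by simp only [mul_assoc]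
      _ = (C f c * A f a) * D f d * (z * B f b) := by rw [DA]; simp only [z, mul_assoc]
      _ = A f a * C f c * (D f d * B f b) * z := by rw [(AC f a c).symm.eq, zB.eq]; simp only [mul_assoc]
      _ = A f a * (C f c * B f b) * D f d * z := by rw [(DB f d b).eq]; simp only [mul_assoc]
      _ = A f a * B f b * C f c * (z' * D f d) * z := by rw [CB f (f3' f hf hK)]; simp only [z', mul_assoc]
      _ = A f a * B f b * C f c * (z * z' * D f d) := by
          rw [show z' * D f d = D f d * z' from (ZD f _ _).eq, zD.eq, (ZZ f (-(a * d)) (pz f (f3' f hf hK) b c)).eq]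
          simp only [z, z', mul_assoc]
      _ = A f a * B f b * (z * z' * C f c) * D f d := by
          rw [zD.eq, zC.eq]; simp only [mul_assoc]; rw [← mul_assoc z z', zD.eq]
      _ = _ := by simp only [mul_assoc]
  beta_inj := bt_inj f hf hK
  faithful := hfaith

end Cfsg.Agent.TwistedD4MinDegree32
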