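import Cfsg.Agent.Lib.TwistedD4
import Cfsg.Agent.Lib.TwistedOrders
import Cfsg.Agent.Lib.RangeLoopEqn

/-!
The torus and the Weyl group of `³D₄(q)`.
-/

set_option autoImplicit false
set_option linter.unusedSectionVars false
set_option maxRecDepth 20000

namespace Cfsg.Agent.TwistedD4

open Cfsg.Lie Cfsg.Agent.ChevalleyCert Cfsg.Agent.ChevalleyCore Cfsg.Agent.ChevalleyRoots Cfsg.Agent.ChevalleyTorus
  Cfsg.Agent.TwistedCore Cfsg.Agent.TwistedTools Cfsg.Agent.ChevWeyl Cfsg.Agent.ChevBruhat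

variable {K : Type*} [Field K] {q : ℕ} (f : K →+* K) (hf : ∀ t, f t = t ^ q)
variable [Fintype K] (hK : Fintype.card K = q ^ 3)

/-! ### the torus -/

/-- the index of a node -/
abbrev nd (i : ℕ) (h : i < chevD4.rank := by decide) : Fin chevD4.rank := ⟨i, h⟩

theorem tchar_simples (z : Fin chevD4.rank → Kˣ) :
    tchar chevD4 z (chevD4.simple 0) = z (nd 0) ^ 2 * (z (nd 1))⁻¹ ∧
    tchar chevD4 z (chevD4.simple 1) = z (nd 1) ^ 2 * (z (nd 0) * z (nd 2) * z (nd 3))⁻¹ ∧
    tchar chevD4 z (chevD4.simple 2) = z (nd 2) ^ 2 * (z (nd 1))⁻¹ ∧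
    tchar chevD4 z (chevD4.simple 3) = z (nd 3) ^ 2 * (z (nd 1))⁻¹ := by
  have hA : (List.range 4).map (fun j => (List.range 4).map fun i => chevD4.cartan i (chevD4.simple j)) =
      [[2, -1, 0, 0], [-1, 2, -1, -1], [0, -1, 2, 0], [0, -1, 0, 2]] := by decide +kernel
  simp only [List.range, List.range.loop, List.map_cons, List.map_nil, List.cons.injEq, and_true] at hA
  obtain ⟨⟨a0, a1, a2, a3⟩, ⟨b0, b1, b2, b3⟩, ⟨c0, c1, c2, c3⟩, d0, d1, d2, d3⟩ := hA
  have aux : ∀ (w : Fin 4 → Kˣ) (e0 e1 e2 e3 : ℤ) (A : Fin 4 → ℤ), A 0 = e0 → A 1 = e1 → A 2 = e2 → A 3 = e3 →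
      ∏ i : Fin 4, w i ^ A i = w 0 ^ e0 * w 1 ^ e1 * w 2 ^ e2 * w 3 ^ e3 := by
    intro w e0 e1 e2 e3 A h0 h1 h2 h3
    rw [Fin.prod_univ_four, h0, h1, h2, h3]
  refine ⟨(aux z 2 (-1) 0 0 (fun i => chevD4.cartan i.val _) a0 a1 a2 a3).trans ?_,
    (aux z (-1) 2 (-1) (-1) (fun i => chevD4.cartan i.val _) b0 b1 b2 b3).trans ?_,
    (aux z 0 (-1) 2 0 (fun i => chevD4.cartan i.val _) c0 c1 c2 c3).trans ?_,
    (aux z 0 (-1) 0 2 (fun i => chevD4.cartan i.val _) d0 d1 d2 d3).trans ?_⟩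
  · simp only [zpow_neg_one, zpow_zero, mul_one, zpow_two, pow_two]; rfl
  · simp only [zpow_neg_one, zpow_two, pow_two, mul_inv]
    show (z (nd 0))⁻¹ * (z (nd 1) * z (nd 1)) * (z (nd 2))⁻¹ * (z (nd 3))⁻¹ = _
    ac_rfl
  · simp only [zpow_neg_one, zpow_zero, one_mul, mul_one, zpow_two, pow_two]; rw [mul_comm]; rfl
  · simp only [zpow_neg_one, zpow_zero, one_mul, mul_one, zpow_two, pow_two]; rw [mul_comm]; rfl

theorem ker_eqs {z : Fin chevD4.rank → Kˣ} (h : torus chevD4 z = 1) :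
    z (nd 1) = 1 ∧ z (nd 0) ^ 2 = 1 ∧ z (nd 2) ^ 2 = 1 ∧ z (nd 3) ^ 2 = 1 ∧ z (nd 0) * z (nd 2) * z (nd 3) = 1 := by
  have h' := (torus_eq_one_iff c4 z).mp h
  obtain ⟨t0, t1, t2, t3⟩ := tchar_simples z
  have a := h' (nd 0); have b := h' (nd 1); have c := h' (nd 2); have d := h' (nd 3)
  simp only [t0, t1, t2, t3, mul_inv_eq_one] at a b c d
  have hm : z (nd 1) ^ 3 * z (nd 1) = z (nd 1) ^ 3 := by
    calc z (nd 1) ^ 3 * z (nd 1) = (z (nd 1) ^ 2) ^ 2 := by group
      _ = (z (nd 0) * z (nd 2) * z (nd 3)) ^ 2 := by rw [b]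
      _ = z (nd 0) ^ 2 * z (nd 2) ^ 2 * z (nd 3) ^ 2 := by rw [mul_pow, mul_pow]
      _ = z (nd 1) * z (nd 1) * z (nd 1) := by rw [a, c, d]
      _ = _ := (pow_three' _).symm
  have h1 : z (nd 1) = 1 := mul_eq_left.mp hm
  rw [h1] at a b c d
  exact ⟨h1, a, c, d, by rw [← b]; simp⟩

theorem torus_ker {w : Fin chevD4.rank → Kˣ} (h1 : w (nd 1) = 1) (h0 : w (nd 0) ^ 2 = 1) (h2 : w (nd 2) ^ 2 = 1)
    (h3 : w (nd 3) ^ 2 = 1) (hp : w (nd 0) * w (nd 2) * w (nd 3) = 1) : torus chevD4 w = 1 := by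
  rw [torus_eq_one_iff c4]
  obtain ⟨t0, t1, t2, t3⟩ := tchar_simples w
  intro j
  have hj : j = nd 0 ∨ j = nd 1 ∨ j = nd 2 ∨ j = nd 3 := by revert j; decide
  rcases hj with rfl | rfl | rfl | rfl
  · rw [t0, h0, h1]; simp
  · rw [t1, hp, h1]; simp
  · rw [t2, h2, h1]; simp
  · rw [t3, h3, h1]; simp

variable (q) in
/-- parameters of the fixed torus -/
def tp (a b : Kˣ) : Fin chevD4.rank → Kˣ := fun i => ([b, a, b ^ q, b ^ q ^ 2] : List Kˣ).getD i.val 1

include hf in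
theorem f_units (t : Kˣ) : Units.map f.toMonoidHom t = t ^ q := Units.ext (by simp [hf])

include hf in
theorem tσ_vals (c : Fin chevD4.rank → Kˣ) :
    (tw f).tσ c (nd 0) = c (nd 3) ^ q ∧ (tw f).tσ c (nd 1) = c (nd 1) ^ q ∧
      (tw f).tσ c (nd 2) = c (nd 0) ^ q ∧ (tw f).tσ c (nd 3) = c (nd 2) ^ q :=
  ⟨f_units f hf _, f_units f hf _, f_units f hf _, f_units f hf _⟩

include hf in
theorem torus_tp_mem {a : Kˣ} (ha : a ^ q = a) (b : Kˣ) : torus chevD4 (tp q a b) ∈ twistedD4 K q := by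
  obtain ⟨e1, e2, e3, e4, g1, -, g3, g4⟩ := simples
  have hsplit : tp q a b = Pi.mulSingle (nd 1) a *
      (Pi.mulSingle (nd 0) b * Pi.mulSingle (nd 2) (b ^ q) * Pi.mulSingle (nd 3) (b ^ q ^ 2)) := by
    funext i
    have hi : i = nd 0 ∨ i = nd 1 ∨ i = nd 2 ∨ i = nd 3 := by revert i; decide
    rcases hi with rfl | rfl | rfl | rfl <;> simp [tp, Pi.mulSingle_apply]
  rw [hsplit, map_mul, map_mul, map_mul, ← hg_simple c4, ← hg_simple c4, ← hg_simple c4, ← hg_simple c4]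
  refine mul_mem ?_ ?_
  · show hg c4 (chevD4.simple 1) (a : K) ∈ _
    rw [e2]
    have h1 : ((-1 : K)) ^ q = -1 := by rw [← hf, map_neg, map_one]
    exact mul_mem (ng2_mem f hf (by rw [← Units.val_pow_eq_pow_val, ha])) (ng2_mem f hf h1)
  · have c13 : ∀ s u : K, Commute (ng c4 d4p1 s) (ng c4 d4p3 u) := fun s u => by
      unfold ng; rw [g1, g3]
      exact (((comm (by decide) _ _).mul_right (comm (by decide) _ _)).mul_right (comm (by decide) _ _) |>.mul_left
        (((comm (by decide) _ _).mul_right (comm (by decide) _ _)).mul_right (comm (by decide) _ _))).mul_left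
        (((comm (by decide) _ _).mul_right (comm (by decide) _ _)).mul_right (comm (by decide) _ _))
    have c14 : ∀ s u : K, Commute (ng c4 d4p1 s) (ng c4 d4p4 u) := fun s u => by
      unfold ng; rw [g1, g4]
      exact (((comm (by decide) _ _).mul_right (comm (by decide) _ _)).mul_right (comm (by decide) _ _) |>.mul_left
        (((comm (by decide) _ _).mul_right (comm (by decide) _ _)).mul_right (comm (by decide) _ _))).mul_left
        (((comm (by decide) _ _).mul_right (comm (by decide) _ _)).mul_right (comm (by decide) _ _))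
    have c34 : ∀ s u : K, Commute (ng c4 d4p3 s) (ng c4 d4p4 u) := fun s u => by
      unfold ng; rw [g3, g4]
      exact (((comm (by decide) _ _).mul_right (comm (by decide) _ _)).mul_right (comm (by decide) _ _) |>.mul_left
        (((comm (by decide) _ _).mul_right (comm (by decide) _ _)).mul_right (comm (by decide) _ _))).mul_left
        (((comm (by decide) _ _).mul_right (comm (by decide) _ _)).mul_right (comm (by decide) _ _))
    show hg c4 (chevD4.simple 0) (b : K) * hg c4 (chevD4.simple 2) ((b ^ q : Kˣ) : K) *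
      hg c4 (chevD4.simple 3) ((b ^ q ^ 2 : Kˣ) : K) ∈ _
    rw [e1, e3, e4, Units.val_pow_eq_pow_val, Units.val_pow_eq_pow_val]
    have key : hg c4 d4p1 (b : K) * hg c4 d4p3 ((b : K) ^ q) * hg c4 d4p4 ((b : K) ^ q ^ 2) =
        tn (b : K) ((b : K) ^ q) ((b : K) ^ q ^ 2) * tn (-1) (-1) (-1) := by
      unfold hg tn
      set A := ng c4 d4p1 (b : K)
      set B := ng c4 d4p3 ((b : K) ^ q)
      set E := ng c4 d4p4 ((b : K) ^ q ^ 2)
      calc A * ng c4 d4p1 (-1) * (B * ng c4 d4p3 (-1)) * (E * ng c4 d4p4 (-1))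
          = A * (ng c4 d4p1 (-1) * B) * (ng c4 d4p3 (-1) * E) * ng c4 d4p4 (-1) := by group
        _ = A * B * (ng c4 d4p1 (-1) * E) * ng c4 d4p3 (-1) * ng c4 d4p4 (-1) := by
            rw [(c13 (-1) _).eq, (c34 (-1) _).eq]; simp only [B, E, mul_assoc]
        _ = _ := by rw [(c14 (-1) _).eq]; simp only [B, E, mul_assoc]
    rw [key]
    refine mul_mem (tn_mem f hf _) ?_
    have := tn_mem f hf (-1 : K)
    rwa [← f_f f hf, ← hf, map_neg, map_one, map_neg, map_one] at this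

include hf hK in
/-- the diagonal part -/
theorem card_H1 :
    Nat.card ↥(chevD4.diagonalSubgroup K ⊓ twistedD4 K q) = (q - 1) ^ 2 * (q ^ 2 + q + 1) := by
  have hu3 : ∀ t : Kˣ, t ^ q ^ 3 = t := fun t => Units.ext (by rw [Units.val_pow_eq_pow_val, pow_q3 hK])
  have hpm : ∀ t : Kˣ, t ^ 2 = 1 → t ^ q = t := by
    intro t ht
    apply Units.ext
    have h2 : (t : K) ^ 2 = 1 := by rw [← Units.val_pow_eq_pow_val, ht, Units.val_one]
    rw [Units.val_pow_eq_pow_val]
    rcases sq_eq_one_iff.mp h2 with h | h <;> rw [h]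
    · exact one_pow q
    · rw [← hf, map_neg, map_one]
  let g : {a : Kˣ // a ^ q = a} × Kˣ → ↥(chevD4.diagonalSubgroup K ⊓ twistedD4 K q) := fun p =>
    ⟨torus chevD4 (tp q p.1.1 p.2), torus_mem_H c4 _, torus_tp_mem f hf p.1.2 p.2⟩
  have hg : Function.Bijective g := by
    constructor
    · rintro ⟨⟨a, ha⟩, b⟩ ⟨⟨a', ha'⟩, b'⟩ h
      have h' : torus chevD4 (tp q a b * (tp q a' b')⁻¹) = 1 := by
        rw [map_mul, map_inv, mul_inv_eq_one]; exact congrArg Subtype.val h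
      obtain ⟨h1, h0, -, -, hp⟩ := ker_eqs h'
      simp only [tp, Pi.mul_apply, Pi.inv_apply, List.getD_cons_succ, List.getD_cons_zero] at h1 h0 hp
      obtain rfl := mul_inv_eq_one.mp h1
      have hz := hpm _ h0
      set z := b * b'⁻¹ with hzdef
      have hz2 : z ^ q ^ 2 = z := by rw [pow_two, pow_mul, hz, hz]
      have hz3 : z * z * z = 1 := by
        have : z * z ^ q * z ^ q ^ 2 = 1 := by
          rw [hzdef, mul_pow, mul_pow, inv_pow, inv_pow]
          exact hp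
        rwa [hz2, hz] at this
      have hz1 : z = 1 := by
        rw [← pow_two, h0, one_mul] at hz3
        exact hz3
      obtain rfl := mul_inv_eq_one.mp hz1
      rfl
    · rintro ⟨x, hxH, hxG⟩
      obtain ⟨c, rfl⟩ := (mem_H_iff c4).1 hxH
      have hfix := (le_fixed f hf hK hxG).2
      rw [(tw f).sg_torus] at hfix
      have hz : torus chevD4 ((tw f).tσ c * c⁻¹) = 1 := by rw [map_mul, map_inv, hfix, mul_inv_cancel]
      obtain ⟨v0, v1, v2, v3⟩ := tσ_vals f hf c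
      obtain ⟨z1, z0, z2, z3, zp⟩ := ker_eqs hz
      simp only [Pi.mul_apply, Pi.inv_apply, v0, v1, v2, v3] at z1 z0 z2 z3 zp
      set x0 := c (nd 3) ^ q * (c (nd 0))⁻¹ with hx0
      set x2 := c (nd 0) ^ q * (c (nd 2))⁻¹ with hx2
      set x3 := c (nd 2) ^ q * (c (nd 3))⁻¹ with hx3
      let w : Fin chevD4.rank → Kˣ := fun i => ([x3, 1, x0, x2] : List Kˣ).getD i.val 1
      have hw : torus chevD4 w = 1 :=
        torus_ker (by simp [w]) (by simpa [w] using z3) (by simpa [w] using z0) (by simpa [w] using z2)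
          (by simp only [w, List.getD_cons_succ, List.getD_cons_zero]
              rw [mul_comm x3 x0, mul_right_comm]; exact zp)
      have ha : c (nd 1) ^ q = c (nd 1) := mul_inv_eq_one.mp z1
      refine ⟨(⟨c (nd 1), ha⟩, c (nd 0) * x3), Subtype.ext ?_⟩
      show torus chevD4 (tp q (c (nd 1)) (c (nd 0) * x3)) = torus chevD4 c
      have e0 : x2 * x3 = x0 := by
        rw [← mul_right_inj x0, ← mul_assoc, zp, ← pow_two, z0]
      have e2 : x3 * x0 = x2 := by
        rw [← mul_right_inj x2, ← pow_two, z2, ← zp, ← mul_assoc, mul_comm, ← mul_assoc]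
      have hb : (c (nd 0) * x3) ^ q = c (nd 2) * x0 := by
        have h1 : c (nd 0) ^ q = c (nd 2) * x2 := by rw [hx2, mul_comm, inv_mul_cancel_right]
        rw [mul_pow, hpm x3 z3, h1, mul_assoc, e0]
      have hb2 : (c (nd 0) * x3) ^ q ^ 2 = c (nd 3) * x2 := by
        have h1 : c (nd 2) ^ q = c (nd 3) * x3 := by rw [hx3, mul_comm, inv_mul_cancel_right]
        rw [pow_two, pow_mul, hb, mul_pow, hpm x0 z0, h1, mul_assoc, e2]
      have he : tp q (c (nd 1)) (c (nd 0) * x3) = c * w := by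
        funext i
        have hi : i = nd 0 ∨ i = nd 1 ∨ i = nd 2 ∨ i = nd 3 := by revert i; decide
        rcases hi with rfl | rfl | rfl | rfl <;> simp [tp, w, hb, hb2]
      rw [he, map_mul, hw, mul_one]
  rw [← Nat.card_eq_of_bijective g hg, Nat.card_prod, TwistedField.card_units_fix hK, TwistedField.card_units_eq, hK,
    pow_two, mul_assoc]
  congr 1
  have hq := TwistedField.one_lt_base hK
  obtain ⟨k, rfl⟩ : ∃ k, q = k + 1 := ⟨q - 1, by omega⟩
  have : (k + 1) ^ 3 = k * ((k + 1) ^ 2 + (k + 1) + 1) + 1 := by ring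
  simp [this]

/-- the words of the twelve elements of the fixed Weyl group -/
def words : List (List (Fin 2)) :=
  [[1, 0, 1, 0, 1], [0, 1], [1, 0, 1, 0, 1, 0], [1], [0, 1, 0, 1], [1, 0, 1], [0, 1, 0], [1, 0], [0, 1, 0, 1, 0], [],
    [1, 0, 1, 0], [0]]

/-- the word in fundamental reflections of a word in classes -/
def expand (v : List (Fin 2)) : List (Fin chevD4.rank) := v.flatMap fun a => cl4 (decide (a = 0))

theorem words_sorted : (words.map fun v => wcode chevD4 ChevWeylData.d4.P (expand v)).Pairwise (· < ·) := by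
  decide +kernel

theorem words_inv : words.map (fun v => winv chevD4 ChevWeylData.d4.P (expand v)) =
    [11, 4, 12, 3, 8, 7, 5, 4, 9, 0, 8, 1] := by decide +kernel

theorem words_rel : ∀ a b : Fin 2, ∀ r < chevD4.nroots, pact ChevWeylData.d4.P
    (List.replicate (CoxeterMatrix.G₂ a b) (cl4 (decide (a = 0)) ++ cl4 (decide (b = 0)))).flatten r = r := by
  decide +kernel

theorem finite_G2 : Finite CoxeterMatrix.G₂.Group := ChevWeylData.g2.instFiniteW

theorem card_G2 : Nat.card CoxeterMatrix.G₂.Group ≤ 12 := by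
  have hfin : Finite ChevWeylData.g2.W := inferInstance
  letI := Fintype.ofFinite ChevWeylData.g2.W
  have h := ChevWeylData.g2.poincare 1
  simp only [one_pow, Finset.sum_const, Finset.card_univ, smul_eq_mul, mul_one] at h
  show Nat.card ChevWeylData.g2.W ≤ 12
  rw [Nat.card_eq_fintype_card, h]
  decide +kernel

theorem tw_P : (tw f).X.P = ChevWeylData.d4.P := rfl

theorem classes_cl : (classes f hf hK).cl = cl4 := rfl

include hf hK in
theorem fixW_eq : ∃ _φ : CoxeterMatrix.G₂.Group ≃* ↥(tw f).fixW,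
    ∀ [Fintype ↥(tw f).fixW] (g : ℕ → ℕ), ∑ w : ↥(tw f).fixW, g ((tw f).X.inv (w : (tw f).X.W)) =
      (([11, 4, 12, 3, 8, 7, 5, 4, 9, 0, 8, 1] : List ℕ).map g).sum := by
  haveI := finite_G2
  let e : Fin 2 → (classes f hf hK).κ := fun a => decide (a = 0)
  have he : Function.Surjective e := by
    intro J
    cases J
    · exact ⟨1, rfl⟩
    · exact ⟨0, rfl⟩
  obtain ⟨φ, -, hφ⟩ := (classes f hf hK).fixW_model CoxeterMatrix.G₂ e he
    (by rw [classes_cl, tw_P]; exact words_rel) words card_G2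
    (by rw [tw_P]; exact words_sorted)
  refine ⟨φ, fun g => (hφ g).trans ?_⟩
  rw [tw_P, ← words_inv]
  rfl

include hf hK in
theorem card_U1 : Nat.card ↥(chevD4.posUnipotent K ⊓ twistedD4 K q) = q ^ 12 := by
  have h := (classes f hf hK).card_U1
  rw [show (classes f hf hK).e = 1 from rfl, pow_one] at h
  rw [h]
  rfl

theorem order_arith (q : ℕ) (hq : 1 ≤ q) :
    (q - 1) ^ 2 * (q ^ 2 + q + 1) * q ^ 12 *
        (([11, 4, 12, 3, 8, 7, 5, 4, 9, 0, 8, 1] : List ℕ).map fun i => q ^ i).sum =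
      q ^ 12 * (q ^ 2 - 1) * (q ^ 6 - 1) * (q ^ 8 + q ^ 4 + 1) := by
  obtain ⟨k, rfl⟩ : ∃ k, q = k + 1 := ⟨q - 1, by omega⟩
  have h2 : (k + 1) ^ 2 - 1 = k * ((k + 1) + 1) := by
    have : (k + 1) ^ 2 = k * ((k + 1) + 1) + 1 := by ring
    omega
  have h6 : (k + 1) ^ 6 - 1 = k * ((k + 1) ^ 2 + (k + 1) + 1) * ((k + 1) ^ 3 + 1) := by
    have : (k + 1) ^ 6 = k * ((k + 1) ^ 2 + (k + 1) + 1) * ((k + 1) ^ 3 + 1) + 1 := by ring
    omega
  rw [h2, h6, Nat.add_sub_cancel]
  simp only [List.map_cons, List.map_nil, List.sum_cons, List.sum_nil]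
  ring

include hf hK in
theorem card_group : Nat.card ↥(twistedD4 K q) = q ^ 12 * (q ^ 2 - 1) * (q ^ 6 - 1) * (q ^ 8 + q ^ 4 + 1) := by
  haveI : Fintype ↥(tw f).fixW := Fintype.ofFinite _
  obtain ⟨_, hsum⟩ := fixW_eq f hf hK
  rw [(classes f hf hK).card_G1, (classes f hf hK).card_B1, card_H1 f hf hK, card_U1 f hf hK,
    ← order_arith q (TwistedField.one_lt_base hK).le, ← hsum fun i => q ^ i]
  congr 1
  refine Finset.sum_congr rfl fun w _ => ?_
  have h := ((classes f hf hK).main w.2).2.1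
  rw [show (classes f hf hK).e = 1 from rfl, pow_one] at h
  exact h

include hf hK in
theorem exists_N1 :
    ∃ φ : ↥(chevD4.monomialSubgroup K ⊓ twistedD4 K q) →* CoxeterMatrix.G₂.Group, Function.Surjective φ ∧
      φ.ker = (chevD4.diagonalSubgroup K ⊓ twistedD4 K q).subgroupOf (chevD4.monomialSubgroup K ⊓ twistedD4 K q) := by
  obtain ⟨e, -⟩ := fixW_eq f hf hK
  obtain ⟨φ, hs, hk⟩ := (classes f hf hK).exists_N1_hom
  refine ⟨e.symm.toMonoidHom.comp φ, e.symm.surjective.comp hs, ?_⟩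
  rw [← hk]
  ext x
  simp

end Cfsg.Agent.TwistedD4
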