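import Cfsg.Agent.Lib.TwistedD4Form77

/-!
`³D₄(2)`: coefficient functions on the two unipotent radicals.
-/

set_option autoImplicit false
set_option linter.unusedSectionVars false
set_option maxRecDepth 100000

namespace Cfsg.Agent.TwistedD4TwoEntry77

open Cfsg.Lie Cfsg.Agent.ChevalleyEngine Cfsg.Agent.ChevalleyExp Cfsg.Agent.ChevalleyCert Cfsg.Agent.ChevalleyCore
  Cfsg.Agent.ChevalleyRoots Cfsg.Agent.ChevalleyTorus Cfsg.Agent.ChevalleyUnipotent Cfsg.Agent.ChevalleyParabolic
  Cfsg.Agent.TwistedCore Cfsg.Agent.TwistedTools Cfsg.Agent.TwistedD4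
  Cfsg.Agent.GaussPrescribed77 Cfsg.Agent.TwistedD4Gauss77 Cfsg.Agent.TwistedD4Form77
open Cfsg.Agent.TwistedD4Levi77 (nrm tp_chars)
open scoped MatrixGroups

/-- the height of a basis vector -/
def ht (x : chevD4.Idx) : ℤ :=
  Sum.elim (fun _ => 0) (fun s : Fin chevD4.nroots =>
    ((List.range 4).map fun i => ChevWeyl.cor chevD4 s.val i).sum) x

/-- the central coefficient of a basis vector -/
def lv (x : chevD4.Idx) : ℤ :=
  Sum.elim (fun _ => 0) (fun s : Fin chevD4.nroots => ChevWeyl.cor chevD4 s.val 1) x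

/-- the basis vector of a root -/
def ix (r : ℕ) (h : r < chevD4.nroots := by decide +kernel) : chevD4.Idx := Sum.inr ⟨r, h⟩

theorem raise_ht' : ∀ k : Fin 3, ∀ r : Fin 12, ∀ p : chevD4.Idx × chevD4.Idx,
    xm chevD4 (k.val + 1) (r.val + 12) p.1 p.2 = 0 ∨ ht p.2 + 1 ≤ ht p.1 := by decide +kernel

theorem raise_lv' : ∀ k : Fin 3, ∀ r : Fin 12, r.val ∈ [0, 1, 6] ∨ ∀ p : chevD4.Idx × chevD4.Idx,
    xm chevD4 (k.val + 1) (r.val + 12) p.1 p.2 = 0 ∨ lv p.2 + 1 ≤ lv p.1 := by decide +kernel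

theorem raise_ht (k : Fin 4) (hk : 1 ≤ k.val) (r : Fin 24) (hr : 12 ≤ r.val) (a b : chevD4.Idx)
    (h : xm chevD4 k.val r.val a b ≠ 0) : ht b + 1 ≤ ht a := by
  have := raise_ht' ⟨k.val - 1, by omega⟩ ⟨r.val - 12, by omega⟩ (a, b)
  simp only [Nat.sub_add_cancel hk, Nat.sub_add_cancel hr] at this
  exact this.resolve_left h

theorem raise_lv (k : Fin 4) (hk : 1 ≤ k.val) (r : Fin 24) (hr : 12 ≤ r.val) (h1 : r.val ≠ 12) (h2 : r.val ≠ 13)
    (h3 : r.val ≠ 18) (a b : chevD4.Idx) (h : xm chevD4 k.val r.val a b ≠ 0) : lv b + 1 ≤ lv a := by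
  rcases raise_lv' ⟨k.val - 1, by omega⟩ ⟨r.val - 12, by omega⟩ with hh | hh
  · simp at hh; omega
  · have := hh (a, b)
    simp only [Nat.sub_add_cancel hk, Nat.sub_add_cancel hr] at this
    exact this.resolve_left h

variable {K : Type*} [Field K]

theorem xg_apply {r : ℕ} (hr : r < chevD4.nroots) (t : K) (a b : chevD4.Idx) :
    (xg c4 r t : Matrix chevD4.Idx chevD4.Idx K) a b = (if a = b then 1 else 0) + t * (xm chevD4 1 r a b : K) +
      t ^ 2 * (xm chevD4 2 r a b : K) + t ^ 3 * (xm chevD4 3 r a b : K) := by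
  rw [coe_xg, x_eq_xR c4 hr, xR]
  simp [Matrix.one_apply]

theorem xg_upperAt {w : chevD4.Idx → ℤ} {r : ℕ} (hr : r < chevD4.nroots)
    (hk : ∀ k : Fin 4, 1 ≤ k.val → ∀ a b, xm chevD4 k.val r a b ≠ 0 → w b + 1 ≤ w a) (t : K) :
    xg c4 r t ∈ upperAt w 1 := by
  have h : ∀ u : K, Raise w ((1 : ℕ) : ℤ) ((xg c4 r u : Matrix chevD4.Idx chevD4.Idx K) - 1) := by
    intro u a b hab
    rw [Matrix.sub_apply, xg_apply hr, Matrix.one_apply] at hab
    by_contra hw
    have z : ∀ k : Fin 4, 1 ≤ k.val → xm chevD4 k.val r a b = 0 := fun k hk' => by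
      by_contra hne; exact hw (by exact_mod_cast hk k hk' a b hne)
    apply hab
    have z1 := z 1 (by decide); have z2 := z 2 (by decide); have z3 := z 3 (by decide)
    simp only [Fin.val_one, Fin.val_two] at z1 z2
    rw [z1, z2, show xm chevD4 3 r a b = 0 from z3]
    simp
  exact ⟨h t, by rw [xg_inv]; exact h (-t)⟩

theorem entry_mul {w : chevD4.Idx → ℤ} {A B : GL chevD4.Idx K} (hA : A ∈ upperAt w 1) (hB : B ∈ upperAt w 1)
    {a b : chevD4.Idx} (hab : w a = w b + 1) :
    ((A * B : GL chevD4.Idx K) : Matrix chevD4.Idx chevD4.Idx K) a b =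
      (A : Matrix chevD4.Idx chevD4.Idx K) a b + (B : Matrix chevD4.Idx chevD4.Idx K) a b := by
  have hne : a ≠ b := fun e => by subst e; omega
  have h2 : (((A : Matrix chevD4.Idx chevD4.Idx K) - 1) * ((B : Matrix chevD4.Idx chevD4.Idx K) - 1)) a b = 0 := by
    by_contra h
    have := raise_mul w hA.1 hB.1 a b h
    push_cast at this
    omega
  have e : ((A * B : GL chevD4.Idx K) : Matrix chevD4.Idx chevD4.Idx K) =
      ((A : Matrix chevD4.Idx chevD4.Idx K) - 1) * ((B : Matrix chevD4.Idx chevD4.Idx K) - 1) +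
        (A : Matrix chevD4.Idx chevD4.Idx K) + (B : Matrix chevD4.Idx chevD4.Idx K) - 1 := by
    rw [Units.val_mul]; noncomm_ring
  rw [e, Matrix.sub_apply, Matrix.add_apply, Matrix.add_apply, h2, Matrix.one_apply_ne hne]
  ring

theorem posU_upper : chevD4.posUnipotent K ≤ upperAt ht 1 := by
  refine (Subgroup.closure_le _).2 ?_
  rintro g ⟨r, t, hr, hg⟩
  obtain rfl := (xg_eq_iff c4).1 hg
  exact xg_upperAt hr.1 (fun k hk a b => raise_ht k hk ⟨r, hr.1⟩ ((isPos c4).1 hr).1 a b) t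

theorem rad_roots : ∀ r : Fin 24, 12 ≤ r.val → (chevD4.coroot.getD r.val #[]).getD 1 0 ≠ 0 →
    r.val ≠ 12 ∧ r.val ≠ 13 ∧ r.val ≠ 18 := by decide +kernel

theorem not_inS {r : ℕ} (hr : chevD4.IsPosRoot r) (hJ : ¬ chevD4.InRootSub JS r) :
    r ≠ 12 ∧ r ≠ 13 ∧ r ≠ 18 :=
  rad_roots ⟨r, hr.1⟩ ((isPos c4).1 hr).1 fun h => hJ (inS.2 ⟨hr.1, h⟩)

theorem rad_upper : chevD4.unipotentRadical K JS ≤ upperAt lv 1 := by
  refine (Subgroup.closure_le _).2 ?_
  rintro g ⟨r, t, hr, hJ, hg⟩
  obtain rfl := (xg_eq_iff c4).1 hg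
  obtain ⟨h1, h2, h3⟩ := not_inS hr hJ
  exact xg_upperAt hr.1 (fun k hk a b => raise_lv k hk ⟨r, hr.1⟩ ((isPos c4).1 hr).1 h1 h2 h3 a b) t

/-- the roots of the first level -/
def lvRoot : Fin 8 → ℕ := ![14, 15, 16, 17, 19, 20, 21, 22]

/-- the rows reading off their coefficients -/
def lvRow : Fin 8 → Fin chevD4.nroots :=
  ![⟨1, by decide +kernel⟩, ⟨2, by decide +kernel⟩, ⟨3, by decide +kernel⟩, ⟨4, by decide +kernel⟩,
    ⟨6, by decide +kernel⟩, ⟨7, by decide +kernel⟩, ⟨8, by decide +kernel⟩, ⟨9, by decide +kernel⟩]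

/-- the coefficient at a root of the first level -/
def co (i : Fin 8) (u : GL chevD4.Idx K) : K :=
  (u : Matrix chevD4.Idx chevD4.Idx K) (Sum.inr (lvRow i)) (Sum.inr ⟨0, by decide +kernel⟩)

/-- the coefficient at the central root -/
def ent (u : GL chevD4.Idx K) : K := co 0 u

theorem lv_row : ∀ i : Fin 8, lv (Sum.inr (lvRow i)) = lv (Sum.inr ⟨0, by decide +kernel⟩) + 1 := by decide +kernel

theorem ht_row : ht (Sum.inr (lvRow 0)) = ht (Sum.inr ⟨0, by decide +kernel⟩) + 1 := by decide +kernel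

theorem co_xm : ∀ r : Fin 24, 12 ≤ r.val → ∀ i : Fin 8,
    let m1 := xm chevD4 1 r.val (Sum.inr (lvRow i)) (Sum.inr ⟨0, by decide +kernel⟩)
    (if r.val = lvRoot i then m1 = 1 ∨ m1 = -1 else m1 = 0) ∧
    xm chevD4 2 r.val (Sum.inr (lvRow i)) (Sum.inr ⟨0, by decide +kernel⟩) = 0 ∧
    xm chevD4 3 r.val (Sum.inr (lvRow i)) (Sum.inr ⟨0, by decide +kernel⟩) = 0 := by decide +kernel

theorem row_ne : ∀ i : Fin 8, (lvRow i).val ≠ 0 := by decide +kernel

theorem co_xg (two : (2 : K) = 0) {r : ℕ} (h12 : chevD4.nroots / 2 ≤ r) (hr : r < chevD4.nroots) (t : K)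
    (i : Fin 8) : co i (xg c4 r t) = if r = lvRoot i then t else 0 := by
  obtain ⟨h1, h2, h3⟩ := co_xm ⟨r, hr⟩ h12 i
  rw [co, xg_apply hr, h2, h3, if_neg (fun e => row_ne i (by simpa using congrArg Fin.val (Sum.inr_injective e)))]
  simp only at h1
  by_cases h : r = lvRoot i
  · rw [if_pos h] at h1 ⊢
    rcases h1 with h1 | h1
    · rw [h1]; simp
    · rw [h1]; simp only [Int.cast_neg, Int.cast_one, Int.cast_zero]; linear_combination (-t) * two
  · rw [if_neg h] at h1 ⊢
    rw [h1]; simp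

theorem co_one (i : Fin 8) : co i (1 : GL chevD4.Idx K) = 0 := by
  rw [co, Units.val_one, Matrix.one_apply_ne]
  exact fun e => row_ne i (by simpa using congrArg Fin.val (Sum.inr_injective e))

theorem co_mul (i : Fin 8) {A B : GL chevD4.Idx K} (hA : A ∈ chevD4.unipotentRadical K JS)
    (hB : B ∈ chevD4.unipotentRadical K JS) : co i (A * B) = co i A + co i B :=
  entry_mul (rad_upper hA) (rad_upper hB) (lv_row i)

theorem ent_mul {A B : GL chevD4.Idx K} (hA : A ∈ chevD4.posUnipotent K) (hB : B ∈ chevD4.posUnipotent K) :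
    ent (A * B) = ent A + ent B :=
  entry_mul (posU_upper hA) (posU_upper hB) ht_row

theorem ent_xg (two : (2 : K) = 0) {r : ℕ} (h12 : chevD4.nroots / 2 ≤ r) (hr : r < chevD4.nroots) (t : K) :
    ent (xg c4 r t) = if r = 14 then t else 0 :=
  co_xg two h12 hr t 0

theorem ent_inv {A : GL chevD4.Idx K} (hA : A ∈ chevD4.posUnipotent K) : ent A⁻¹ = - ent A := by
  have h := ent_mul hA (inv_mem hA)
  rw [mul_inv_cancel, show ent (1 : GL chevD4.Idx K) = 0 from co_one 0] at h
  linear_combination -h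

theorem ent_conj {A u : GL chevD4.Idx K} (hA : A ∈ chevD4.posUnipotent K) (hu : u ∈ chevD4.posUnipotent K) :
    ent (A * u * A⁻¹) = ent u := by
  rw [ent_mul (mul_mem hA hu) (inv_mem hA), ent_mul hA hu, ent_inv hA]; ring

theorem ent_torus (two : (2 : K) = 0) (c : Fin chevD4.rank → Kˣ) (hc : tchar chevD4 c 14 = 1)
    {u : GL chevD4.Idx K} (hu : u ∈ chevD4.posUnipotent K) : ent (torus chevD4 c * u * (torus chevD4 c)⁻¹) = ent u := by
  have hn : ∀ w ∈ chevD4.posUnipotent K, torus chevD4 c * w * (torus chevD4 c)⁻¹ ∈ chevD4.posUnipotent K :=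
    fun w hw => (Subgroup.mem_normalizer_iff.1 (H_le_normalizer_U c4 (torus_mem_H c4 c)) w).1 hw
  induction hu using Subgroup.closure_induction with
  | mem x hx =>
    obtain ⟨r, t, hr, hx⟩ := hx
    obtain rfl := (xg_eq_iff c4).1 hx
    obtain ⟨h1, h2⟩ := (isPos c4).1 hr
    rw [torus_conj_xg c4 h2, ent_xg two h1 h2, ent_xg two h1 h2]
    split
    · rename_i h; subst h; rw [hc]; simp
    · rfl
  | one => simp
  | mul a b ha hb iha ihb =>
    rw [show torus chevD4 c * (a * b) * (torus chevD4 c)⁻¹ =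
      (torus chevD4 c * a * (torus chevD4 c)⁻¹) * (torus chevD4 c * b * (torus chevD4 c)⁻¹) by group,
      ent_mul (hn a ha) (hn b hb), ent_mul ha hb, iha, ihb]
  | inv a ha iha =>
    rw [show torus chevD4 c * a⁻¹ * (torus chevD4 c)⁻¹ = (torus chevD4 c * a * (torus chevD4 c)⁻¹)⁻¹ by group,
      ent_inv (hn a ha), ent_inv ha, iha]

theorem ent_rad (two : (2 : K) = 0) {u : GL chevD4.Idx K} (hu : u ∈ chevD4.unipotentRadical K JL) : ent u = 0 := by
  have hle : chevD4.unipotentRadical K JL ≤ chevD4.posUnipotent K :=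
    Subgroup.closure_mono fun g ⟨r, t, hr, _, h⟩ => ⟨r, t, hr, h⟩
  induction hu using Subgroup.closure_induction with
  | mem x hx =>
    obtain ⟨r, t, hr, hJ, hx⟩ := hx
    obtain rfl := (xg_eq_iff c4).1 hx
    obtain ⟨h1, h2⟩ := (isPos c4).1 hr
    rw [ent_xg two h1 h2, if_neg]
    rintro rfl
    exact hJ (inL.2 ⟨hr.1, by decide +kernel, by decide +kernel, by decide +kernel⟩)
  | one => exact co_one 0
  | mul a b ha hb iha ihb => rw [ent_mul (hle ha) (hle hb), iha, ihb, add_zero]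
  | inv a ha iha => rw [ent_inv (hle ha), iha, neg_zero]

/-! ### the short rank-one group acting on the first level -/

/-- the action on the coefficient at the central root -/
noncomputable def gfun (f : K →+* K) [Fintype K] (A : SL(2, K)) (u : GL chevD4.Idx K) : K :=
  ent (phiS f A * u * (phiS f A)⁻¹)

/-- the coefficient polynomial -/
def G (u : GL chevD4.Idx K) (s : K) : K :=
  co 0 u + s ^ 4 * co 1 u + s ^ 2 * co 2 u + s ^ 6 * co 3 u + s * co 4 u + s ^ 5 * co 5 u + s ^ 3 * co 6 u +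
    s ^ 7 * co 7 u

/-- the row reached from a row by an outer negative root -/
def nr (m : ℕ) (i : Fin 8) : Option (Fin 8) :=
  if m = 5 then (if h : i.val < 4 then some ⟨i.val + 4, by omega⟩ else none)
  else if m = 10 then (if h : i.val % 4 < 2 then some ⟨i.val + 2, by omega⟩ else none)
  else (if h : i.val % 2 < 1 then some ⟨i.val + 1, by omega⟩ else none)

theorem neg_rows : ∀ m ∈ [5, 10, 11], ∀ i : Fin 8, ∀ b : chevD4.Idx,
    xm chevD4 2 m (Sum.inr (lvRow i)) b = 0 ∧ xm chevD4 3 m (Sum.inr (lvRow i)) b = 0 ∧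
    xm chevD4 1 m (Sum.inr (lvRow i)) b =
      (match nr m i with
      | none => 0
      | some j => if b = Sum.inr (lvRow j) then (if m = 5 then 1 else -1) else 0) := by
  decide +kernel

theorem neg_col : ∀ m ∈ [5, 10, 11], ∀ k : Fin 4, 1 ≤ k.val → ∀ a : chevD4.Idx,
    xm chevD4 k.val m a (Sum.inr ⟨0, by decide +kernel⟩) = 0 := by decide +kernel

/-- the row vector of a coefficient -/
def er (K : Type*) [Field K] (i : Fin 8) : chevD4.Idx → K := Pi.single (Sum.inr (lvRow i)) 1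

theorem er_mul (two : (2 : K) = 0) {m : ℕ} (hm : m ∈ [5, 10, 11]) (t : K) (i : Fin 8) :
    Matrix.vecMul (er K i) (xg c4 m t : Matrix chevD4.Idx chevD4.Idx K) = er K i +
      (match nr m i with
      | none => 0
      | some j => t • er K j) := by
  have hml : m < chevD4.nroots := (by decide +kernel : ∀ m ∈ [5, 10, 11], m < chevD4.nroots) m hm
  have hneg : (-1 : K) = 1 := by linear_combination -two
  funext b
  obtain ⟨h2, h3, h1⟩ := neg_rows m hm i b
  rw [er, Matrix.single_one_vecMul, Matrix.row_apply, xg_apply hml, h1, h2, h3]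
  cases nr m i with
  | none => simp [Pi.single_apply, eq_comm]
  | some j =>
    simp only [Pi.add_apply, Pi.smul_apply, er, Pi.single_apply, smul_eq_mul, Int.cast_zero, mul_zero, add_zero]
    congr 1
    · simp [eq_comm]
    · split_ifs <;> simp [hneg]

theorem trin_mulVec (a b c : K) :
    Matrix.mulVec (trin a b c : Matrix chevD4.Idx chevD4.Idx K) (Pi.single (Sum.inr ⟨0, by decide +kernel⟩) 1) =
      Pi.single (Sum.inr ⟨0, by decide +kernel⟩) 1 := by
  have h : ∀ m ∈ [5, 10, 11], ∀ t : K,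
      Matrix.mulVec (xg c4 m t : Matrix chevD4.Idx chevD4.Idx K) (Pi.single (Sum.inr ⟨0, by decide +kernel⟩) 1) =
        Pi.single (Sum.inr ⟨0, by decide +kernel⟩) 1 := by
    intro m hm t
    have hml : m < chevD4.nroots := (by decide +kernel : ∀ m ∈ [5, 10, 11], m < chevD4.nroots) m hm
    funext x
    rw [Matrix.mulVec_single_one, Matrix.col_apply, xg_apply hml]
    have z1 := neg_col m hm 1 (by decide) x
    have z2 := neg_col m hm 2 (by decide) x
    have z3 := neg_col m hm 3 (by decide) x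
    simp only [Fin.val_one, Fin.val_two] at z1 z2
    rw [z1, z2, show xm chevD4 3 m x (Sum.inr ⟨0, by decide +kernel⟩) = 0 from z3]
    simp [Pi.single_apply]
  rw [trin, Units.val_mul, Units.val_mul, ← Matrix.mulVec_mulVec, ← Matrix.mulVec_mulVec,
    h _ (by simp [d4m4]) c, h _ (by simp [d4m3]) b, h _ (by simp [d4m1]) a]

theorem trin_row (two : (2 : K) = 0) (a b c : K) :
    Matrix.vecMul (er K 0) (trin a b c : Matrix chevD4.Idx chevD4.Idx K) =
      er K 0 + c • er K 1 + b • er K 2 + (b * c) • er K 3 + a • er K 4 + (a * c) • er K 5 + (a * b) • er K 6 +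
        (a * b * c) • er K 7 := by
  rw [trin, Units.val_mul, Units.val_mul, ← Matrix.vecMul_vecMul, ← Matrix.vecMul_vecMul,
    show d4m1 = 5 from rfl, show d4m3 = 10 from rfl, show d4m4 = 11 from rfl]
  simp only [er_mul two (show 5 ∈ [5, 10, 11] by simp), er_mul two (show 10 ∈ [5, 10, 11] by simp),
    er_mul two (show 11 ∈ [5, 10, 11] by simp), Matrix.add_vecMul, Matrix.smul_vecMul]
  simp only [show nr 5 0 = some 4 from rfl, show nr 10 0 = some 2 from rfl, show nr 10 4 = some 6 from rfl,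
    show nr 11 0 = some 1 from rfl, show nr 11 2 = some 3 from rfl, show nr 11 4 = some 5 from rfl,
    show nr 11 6 = some 7 from rfl, er_mul two (show 10 ∈ [5, 10, 11] by simp),
    er_mul two (show 11 ∈ [5, 10, 11] by simp), Matrix.add_vecMul, Matrix.smul_vecMul, smul_add, smul_smul]
  abel

variable [Fintype K] {f : K →+* K} (hf : ∀ t, f t = t ^ 2)

include hf in
theorem two_zero : (2 : K) = 0 := by
  have h : f 2 = 2 := by rw [← one_add_one_eq_two, map_add, map_one]
  rw [hf] at h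
  linear_combination h

include hf in
theorem gfun_lo (u : GL chevD4.Idx K) (s : K) : gfun f (lo s) u = G u s := by
  have two := two_zero hf
  rw [gfun, ← map_inv, show (lo s : SL(2, K))⁻¹ = lo (-s) by
    refine inv_eq_of_mul_eq_one_right ?_
    ext i j; fin_cases i <;> fin_cases j <;> simp [Matrix.mul_apply, Fin.sum_univ_two],
    phiS_lo hf, phiS_lo hf, ent, co, Units.val_mul, Units.val_mul]
  have hcol := trin_mulVec (-s) ((-s) ^ 2) ((-s) ^ 2 ^ 2)
  have hrow := trin_row two s (s ^ 2) (s ^ 2 ^ 2)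
  generalize (trin (-s) ((-s) ^ 2) ((-s) ^ 2 ^ 2) : Matrix chevD4.Idx chevD4.Idx K) = R at hcol ⊢
  generalize (trin s (s ^ 2) (s ^ 2 ^ 2) : Matrix chevD4.Idx chevD4.Idx K) = L at hrow ⊢
  have e : (L * (u : Matrix chevD4.Idx chevD4.Idx K) * R) (Sum.inr (lvRow 0)) (Sum.inr ⟨0, by decide +kernel⟩) =
      dotProduct (Matrix.vecMul (er K 0) L) (Matrix.mulVec (u : Matrix chevD4.Idx chevD4.Idx K)
        (Matrix.mulVec R (Pi.single (Sum.inr ⟨0, by decide +kernel⟩) 1))) := by
    rw [Matrix.mulVec_mulVec, ← Matrix.dotProduct_mulVec, Matrix.mulVec_mulVec, er, single_one_dotProduct,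
      Matrix.mulVec_single_one, Matrix.col_apply, Matrix.mul_assoc]
  rw [e, hcol, hrow, Matrix.mulVec_single_one]
  simp only [add_dotProduct, smul_dotProduct, er, single_one_dotProduct, Matrix.col_apply, smul_eq_mul, G, co]
  ring

/-- the word of the short node -/
theorem wact_S : ∀ r : Fin 24, 12 ≤ r.val → r.val ≠ 12 → r.val ≠ 13 → r.val ≠ 18 →
    12 ≤ wact (D := chevD4) [0, 2, 3] r.val ∧ wact (D := chevD4) [0, 2, 3] r.val < 24 ∧
      (wact (D := chevD4) [0, 2, 3] r.val = 14 ↔ r.val = 22) := by decide +kernel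

include hf in
theorem gfun_wel {u : GL chevD4.Idx K} (hu : u ∈ chevD4.unipotentRadical K JS) :
    gfun f (up 1 * lo (-1) * up 1) u = co 7 u := by
  have two := two_zero hf
  have hn : phiS f (up 1 * lo (-1) * up 1) = nword c4 (F := K) [0, 2, 3] := by
    obtain ⟨e1, -, e3, e4, -⟩ := simples
    rw [map_mul, map_mul, phiS_up hf, phiS_lo hf]
    have h := tn_eq (1 : K) 1 1
    simp only [inv_one] at h
    have hm : (-1 : K) ^ 2 = -1 := by rw [← hf, map_neg, map_one]
    simp only [one_pow, hm, pow_two (2 : ℕ), pow_mul]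
    rw [← h, tn, ← e1, ← e3, ← e4]
    simp [nword, mul_assoc]

  have hle : chevD4.unipotentRadical K JS ≤ chevD4.posUnipotent K :=
    Subgroup.closure_mono fun g ⟨r, t, hr, _, h⟩ => ⟨r, t, hr, h⟩
  have hin : ∀ w ∈ chevD4.unipotentRadical K JS,
      phiS f (up 1 * lo (-1) * up 1) * w * (phiS f (up 1 * lo (-1) * up 1))⁻¹ ∈ chevD4.posUnipotent K :=
    fun w hw => hle (levi_norm (phiS_levi _) hw)
  rw [gfun]
  induction hu using Subgroup.closure_induction with
  | mem x hx =>
    obtain ⟨r, t, hr, hJ, hx⟩ := hx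
    obtain rfl := (xg_eq_iff c4).1 hx
    obtain ⟨h1, h2⟩ := (isPos c4).1 hr
    obtain ⟨a, b, c⟩ := not_inS hr hJ
    obtain ⟨e, he, h⟩ := nword_conj c4 (F := K) (l := [0, 2, 3]) (by decide) h2
    obtain ⟨w1, w2, w3⟩ := wact_S ⟨r, h2⟩ h1 a b c
    have he1 : e = 1 := by
      rcases mul_self_eq_one_iff.1 he with rfl | rfl
      · rfl
      · linear_combination -two
    rw [hn, h, he1, one_mul, ent_xg two w1 w2, co_xg two h1 h2]
    simp only at w3
    simp only [w3, show lvRoot 7 = 22 from rfl]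

  | one => simp [ent, co_one]
  | mul a b ha hb iha ihb =>
    rw [show ∀ n : GL chevD4.Idx K, n * (a * b) * n⁻¹ = (n * a * n⁻¹) * (n * b * n⁻¹) from fun n => by group,
      ent_mul (hin a ha) (hin b hb), co_mul 7 ha hb, iha, ihb]
  | inv a ha iha =>
    rw [show ∀ n : GL chevD4.Idx K, n * a⁻¹ * n⁻¹ = (n * a * n⁻¹)⁻¹ from fun n => by group, ent_inv (hin a ha), iha]
    have := co_mul 7 ha (inv_mem ha)
    rw [mul_inv_cancel, co_one] at this
    linear_combination this

variable (hK : Fintype.card K = 2 ^ 3)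

open Classical in
include hf hK in
theorem gfun_eq (A : SL(2, K)) {u : GL chevD4.Idx K} (hu : u ∈ chevD4.unipotentRadical K JS) :
    gfun f A u = if A 1 1 = 0 then co 7 u else G u (A 1 0 / A 1 1) := by
  have two := two_zero hf
  have hle : chevD4.unipotentRadical K JS ≤ chevD4.posUnipotent K :=
    Subgroup.closure_mono fun g ⟨r, t, hr, _, h⟩ => ⟨r, t, hr, h⟩
  have hn : ∀ B : SL(2, K), phiS f B * u * (phiS f B)⁻¹ ∈ chevD4.posUnipotent K := fun B =>
    hle (levi_norm (phiS_levi B) hu)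
  have hup : ∀ (r : K) (B : SL(2, K)), gfun f (up r * B) u = gfun f B u := fun r B => by
    rw [gfun, gfun, map_mul, ← ent_conj ((nodeS hf hK).up_mem r).1 (hn B)]
    congr 1
    show _ = phiS f (up r) * _ * (phiS f (up r))⁻¹
    group
  have hdia : ∀ (t : Kˣ) (B : SL(2, K)), gfun f (dia t * B) u = gfun f B u := fun t B => by
    have h14 : tchar chevD4 (tp 2 1 t) 14 = 1 := by
      rw [show (14 : ℕ) = chevD4.simple 1 from simples.2.1.symm, (tp_chars (1 : Kˣ) t).2.1, one_pow, one_mul,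
        inv_eq_one, nrm, show (2 ^ 2 + 2 + 1 : ℕ) = Fintype.card K - 1 by rw [hK]; norm_num, ← Fintype.card_units]
      exact pow_card_eq_one
    rw [gfun, gfun, map_mul, phiS_dia hf, ← ent_torus two _ h14 (hn B), tor]
    congr 1
    group
  have hd := A.2
  rw [Matrix.det_fin_two] at hd
  by_cases h11 : A 1 1 = 0
  · rw [if_pos h11]
    rw [h11, mul_zero, zero_sub] at hd
    have h10 : A 1 0 ≠ 0 := fun h => by rw [h, mul_zero, neg_zero] at hd; exact zero_ne_one hd
    have h01 : A 0 1 = (A 1 0)⁻¹ := by field_simp; linear_combination hd + A 0 1 * A 1 0 * two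
    have e : A = up (A 0 0 / A 1 0) * (dia (Units.mk0 _ h10)⁻¹ * (up 1 * lo (-1) * up 1)) := by
      ext i j
      fin_cases i <;> fin_cases j <;>
        simp [Matrix.mul_apply, Fin.sum_univ_two, h11, h01, Units.val_inv_eq_inv_val] <;> field_simp <;>
        first | done | ring1 | linear_combination A 0 0 * two | linear_combination (-(A 0 0)) * two | linear_combination two | linear_combination -two | linear_combination (-(A 0 0 + A 1 0)) * two | linear_combination (1 + A 1 0) * two | linear_combination (-(1 + A 1 0)) * two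
    rw [e, hup, hdia, gfun_wel hf hu]
  · rw [if_neg h11]
    have e : A = up (A 0 1 / A 1 1) * (dia (Units.mk0 _ h11)⁻¹ * lo (A 1 0 / A 1 1)) := by
      ext i j
      fin_cases i <;> fin_cases j <;>
        simp [Matrix.mul_apply, Fin.sum_univ_two, Units.val_inv_eq_inv_val] <;> field_simp <;>
        first | done | ring1 | linear_combination hd | linear_combination -hd
    conv_lhs => rw [e]
    rw [hup, hdia, gfun_lo hf]

end Cfsg.Agent.TwistedD4TwoEntry77
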