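import Cfsg.Agent.Lib.TwistedD4TwoEntry77
import Cfsg.Agent.Lib.TwistedD4Cover77

/-!
`³D₄(2)`: elements of the radicals with few coefficients, and the long rank-one group over the prime field.
-/

set_option autoImplicit false
set_option linter.unusedSectionVars false
set_option maxRecDepth 100000

namespace Cfsg.Agent.TwistedD4TwoLong77

open Cfsg.Lie Cfsg.Agent.ChevalleyCert Cfsg.Agent.ChevalleyCore Cfsg.Agent.ChevalleyRoots Cfsg.Agent.ChevalleyTorus
  Cfsg.Agent.ChevalleyUnipotent Cfsg.Agent.ChevalleyParabolic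
  Cfsg.Agent.TwistedCore Cfsg.Agent.TwistedTools Cfsg.Agent.TwistedD4
  Cfsg.Agent.GaussPrescribed77 Cfsg.Agent.TwistedD4Gauss77 Cfsg.Agent.TwistedD4Form77 Cfsg.Agent.TwistedD4TwoEntry77
open Cfsg.Agent.TwistedD4Levi77 (nrm tp_chars tchar_eq)
open Cfsg.Agent.ChevWeyl (cor)
open scoped MatrixGroups

variable {K : Type*} [Field K] [Fintype K]

/-- the radical elements are contained in the unipotent group -/
theorem rad_le (J : Set ℕ) : chevD4.unipotentRadical K J ≤ chevD4.posUnipotent K :=
  Subgroup.closure_mono fun _ ⟨r, t, hr, _, h⟩ => ⟨r, t, hr, h⟩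

theorem xg_mem_rad {r : ℕ} (h12 : chevD4.nroots / 2 ≤ r) (hr : r < chevD4.nroots)
    (h : (chevD4.coroot.getD r #[]).getD 1 0 ≠ 0) (t : K) : xg c4 r t ∈ chevD4.unipotentRadical K JS :=
  Subgroup.subset_closure ⟨r, t, (isPos c4).2 ⟨h12, hr⟩, fun hin => h (inS.1 hin).2, rfl⟩

theorem xg_mem_radL {r : ℕ} (h12 : chevD4.nroots / 2 ≤ r) (hr : r < chevD4.nroots)
    (h : (chevD4.coroot.getD r #[]).getD 0 0 ≠ 0) (t : K) : xg c4 r t ∈ chevD4.unipotentRadical K JL :=
  Subgroup.subset_closure ⟨r, t, (isPos c4).2 ⟨h12, hr⟩, fun hin => h (inL.1 hin).2.1, rfl⟩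

/-- an element of the radical of the short node with vanishing short coefficients -/
theorem rad_form (two : (2 : K) = 0) {u : GL chevD4.Idx K} (hu : u ∈ chevD4.unipotentRadical K JS)
    (hz : ∀ i : Fin 8, i ≠ 0 → i ≠ 7 → co i u = 0) :
    ∃ z : K, u = xg c4 14 (co 0 u) * (xg c4 22 (co 7 u) * xg c4 23 z) := by
  obtain ⟨t, ⟨-, ht⟩, -⟩ := U_normal_form c4 (rad_le JS hu)
  rw [uProd, show List.range' (chevD4.nroots / 2) (chevD4.nroots - chevD4.nroots / 2) =
    [12, 13, 14, 15, 16, 17, 18, 19, 20, 21, 22, 23] by decide +kernel] at ht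
  simp only [List.map_cons, List.map_nil, List.prod_cons, List.prod_nil, mul_one] at ht
  obtain ⟨e1, -, e3, e4, -⟩ := simples
  have hl : xg c4 12 (t 12) * xg c4 13 (t 13) * xg c4 18 (t 18) = tri (t 18) (t 13) (t 12) := by
    have h1 : Commute (xg c4 18 (t 18)) (xg c4 13 (t 13)) := comm (by decide) _ _
    have h2 : Commute (xg c4 18 (t 18)) (xg c4 12 (t 12)) := comm (by decide) _ _
    have h3 : Commute (xg c4 13 (t 13)) (xg c4 12 (t 12)) := comm (by decide) _ _
    rw [tri, show d4p1 = 18 from rfl, show d4p3 = 13 from rfl, show d4p4 = 12 from rfl, mul_assoc (xg c4 18 (t 18)),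
      h3.eq, (h2.mul_right h1).eq]
  obtain ⟨A, hA⟩ : ∃ A, A = xg c4 14 (t 14) * (xg c4 15 (t 15) * (xg c4 16 (t 16) * xg c4 17 (t 17))) := ⟨_, rfl⟩
  obtain ⟨B, hB⟩ : ∃ B, B = xg c4 19 (t 19) * (xg c4 20 (t 20) * (xg c4 21 (t 21) * (xg c4 22 (t 22) * xg c4 23 (t 23)))) :=
    ⟨_, rfl⟩
  have m : ∀ r : Fin 24, 12 ≤ r.val → r.val ≠ 12 → r.val ≠ 13 → r.val ≠ 18 →
      (chevD4.coroot.getD r.val #[]).getD 1 0 ≠ 0 := by decide +kernel
  have mr : ∀ r, chevD4.nroots / 2 ≤ r → ∀ (hr : r < chevD4.nroots), r ≠ 12 → r ≠ 13 → r ≠ 18 → ∀ s : K,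
      xg c4 r s ∈ chevD4.unipotentRadical K JS := fun r h12 hr a b c s => xg_mem_rad h12 hr (m ⟨r, hr⟩ h12 a b c) s
  have hAm : A ∈ chevD4.unipotentRadical K JS := by
    rw [hA]
    refine mul_mem ?_ (mul_mem ?_ (mul_mem ?_ ?_)) <;>
      exact mr _ (by decide +kernel) (by decide +kernel) (by norm_num) (by norm_num) (by norm_num) _
  have hBm : B ∈ chevD4.unipotentRadical K JS := by
    rw [hB]
    refine mul_mem ?_ (mul_mem ?_ (mul_mem ?_ (mul_mem ?_ ?_))) <;>
      exact mr _ (by decide +kernel) (by decide +kernel) (by norm_num) (by norm_num) (by norm_num) _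
  have h18 : xg c4 18 (t 18) ∈ chevD4.leviSubgroup K JS := by
    have := (simple_levi (K := K) (nd 0) (J := JS) (by simp [JS]) (t 18)).1
    rwa [show chevD4.simple (nd 0).val = 18 from e1] at this
  have he : tri (t 18) (t 13) (t 12) * ((xg c4 18 (t 18))⁻¹ * A * xg c4 18 (t 18) * B) = u := by
    rw [← hl, ht, hA, hB]
    group
  obtain ⟨h0, h1⟩ := levi_radical_unique (tri_levi _ _ _) (one_mem _)
    (mul_mem (by simpa using levi_norm (inv_mem h18) hAm) hBm) hu (by rw [one_mul]; exact he)
  obtain ⟨t18, -, -⟩ := tri_inj (h0.trans (by simp [tri] : (1 : GL chevD4.Idx K) = tri 0 0 0))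
  rw [t18, xg_zero, inv_one, one_mul, mul_one] at h1
  have hco : ∀ i : Fin 8, co i u = t (lvRoot i) := by
    intro i
    rw [← h1, co_mul i hAm hBm, hA, hB]
    have M := fun r (h12 : chevD4.nroots / 2 ≤ r) (hr : r < chevD4.nroots) a b c s => mr r h12 hr a b c s
    rw [co_mul i (mr 14 (by decide +kernel) (by decide +kernel) (by norm_num) (by norm_num) (by norm_num) _)
        (mul_mem (mr 15 (by decide +kernel) (by decide +kernel) (by norm_num) (by norm_num) (by norm_num) _)
          (mul_mem (mr 16 (by decide +kernel) (by decide +kernel) (by norm_num) (by norm_num) (by norm_num) _)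
            (mr 17 (by decide +kernel) (by decide +kernel) (by norm_num) (by norm_num) (by norm_num) _))),
      co_mul i (mr 15 (by decide +kernel) (by decide +kernel) (by norm_num) (by norm_num) (by norm_num) _)
        (mul_mem (mr 16 (by decide +kernel) (by decide +kernel) (by norm_num) (by norm_num) (by norm_num) _)
          (mr 17 (by decide +kernel) (by decide +kernel) (by norm_num) (by norm_num) (by norm_num) _)),
      co_mul i (mr 16 (by decide +kernel) (by decide +kernel) (by norm_num) (by norm_num) (by norm_num) _)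
        (mr 17 (by decide +kernel) (by decide +kernel) (by norm_num) (by norm_num) (by norm_num) _),
      co_mul i (mr 19 (by decide +kernel) (by decide +kernel) (by norm_num) (by norm_num) (by norm_num) _)
        (mul_mem (mr 20 (by decide +kernel) (by decide +kernel) (by norm_num) (by norm_num) (by norm_num) _)
          (mul_mem (mr 21 (by decide +kernel) (by decide +kernel) (by norm_num) (by norm_num) (by norm_num) _)
            (mul_mem (mr 22 (by decide +kernel) (by decide +kernel) (by norm_num) (by norm_num) (by norm_num) _)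
              (mr 23 (by decide +kernel) (by decide +kernel) (by norm_num) (by norm_num) (by norm_num) _)))),
      co_mul i (mr 20 (by decide +kernel) (by decide +kernel) (by norm_num) (by norm_num) (by norm_num) _)
        (mul_mem (mr 21 (by decide +kernel) (by decide +kernel) (by norm_num) (by norm_num) (by norm_num) _)
          (mul_mem (mr 22 (by decide +kernel) (by decide +kernel) (by norm_num) (by norm_num) (by norm_num) _)
            (mr 23 (by decide +kernel) (by decide +kernel) (by norm_num) (by norm_num) (by norm_num) _))),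
      co_mul i (mr 21 (by decide +kernel) (by decide +kernel) (by norm_num) (by norm_num) (by norm_num) _)
        (mul_mem (mr 22 (by decide +kernel) (by decide +kernel) (by norm_num) (by norm_num) (by norm_num) _)
          (mr 23 (by decide +kernel) (by decide +kernel) (by norm_num) (by norm_num) (by norm_num) _)),
      co_mul i (mr 22 (by decide +kernel) (by decide +kernel) (by norm_num) (by norm_num) (by norm_num) _)
        (mr 23 (by decide +kernel) (by decide +kernel) (by norm_num) (by norm_num) (by norm_num) _)]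
    simp only [co_xg two (show chevD4.nroots / 2 ≤ 14 by decide +kernel) (show 14 < chevD4.nroots by decide +kernel),
      co_xg two (show chevD4.nroots / 2 ≤ 15 by decide +kernel) (show 15 < chevD4.nroots by decide +kernel),
      co_xg two (show chevD4.nroots / 2 ≤ 16 by decide +kernel) (show 16 < chevD4.nroots by decide +kernel),
      co_xg two (show chevD4.nroots / 2 ≤ 17 by decide +kernel) (show 17 < chevD4.nroots by decide +kernel),
      co_xg two (show chevD4.nroots / 2 ≤ 19 by decide +kernel) (show 19 < chevD4.nroots by decide +kernel),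
      co_xg two (show chevD4.nroots / 2 ≤ 20 by decide +kernel) (show 20 < chevD4.nroots by decide +kernel),
      co_xg two (show chevD4.nroots / 2 ≤ 21 by decide +kernel) (show 21 < chevD4.nroots by decide +kernel),
      co_xg two (show chevD4.nroots / 2 ≤ 22 by decide +kernel) (show 22 < chevD4.nroots by decide +kernel),
      co_xg two (show chevD4.nroots / 2 ≤ 23 by decide +kernel) (show 23 < chevD4.nroots by decide +kernel)]
    fin_cases i <;> simp [lvRoot]
  refine ⟨t 23, ?_⟩
  have z : ∀ i : Fin 8, i ≠ 0 → i ≠ 7 → xg c4 (lvRoot i) (t (lvRoot i)) = (1 : GL chevD4.Idx K) :=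
    fun i a b => by rw [← hco, hz i a b, xg_zero]
  rw [hco 0, hco 7, show lvRoot 0 = 14 from rfl, show lvRoot 7 = 22 from rfl]
  have z1 := z 1 (by decide) (by decide); have z2 := z 2 (by decide) (by decide); have z3 := z 3 (by decide) (by decide)
  have z4 := z 4 (by decide) (by decide); have z5 := z 5 (by decide) (by decide); have z6 := z 6 (by decide) (by decide)
  rw [show lvRoot 1 = 15 from rfl] at z1
  rw [show lvRoot 2 = 16 from rfl] at z2
  rw [show lvRoot 3 = 17 from rfl] at z3
  rw [show lvRoot 4 = 19 from rfl] at z4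
  rw [show lvRoot 5 = 20 from rfl] at z5
  rw [show lvRoot 6 = 21 from rfl] at z6
  rw [← h1, hA, hB, z1, z2, z3, z4, z5, z6]
  simp only [one_mul, mul_one]

variable {f : K →+* K} (hf : ∀ t, f t = t ^ 2) (hK : Fintype.card K = 2 ^ 3)

include hf in
theorem e_one {e : K} (he : e * e = 1) : e = 1 := by
  rcases mul_self_eq_one_iff.1 he with rfl | rfl
  · rfl
  · linear_combination -(two_zero hf)

include hf hK in
theorem sq_01 {x : K} (hx : x ^ 2 = x) : x = 0 ∨ x = 1 := by
  by_cases h : x = 0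
  · exact Or.inl h
  · exact Or.inr (mul_left_cancel₀ h (by linear_combination hx))

include hf hK in
theorem ent_01 {u : GL chevD4.Idx K} (hu : u ∈ UU 2) : ent u = 0 ∨ ent u = 1 := by
  have two := two_zero hf
  obtain ⟨e, w, hw, rfl⟩ := split_L hf hK hu
  have hp : phiL f (up e) ∈ chevD4.posUnipotent K := by
    rw [phiL_up]; exact xg_mem_U c4 (by decide +kernel) (by decide +kernel) _
  rw [ent_mul hp (rad_le JL hw.1), ent_rad two hw.1, add_zero, phiL_up,
    ent_xg two (by decide +kernel) (by decide +kernel), if_pos (show d4p2 = 14 from rfl)]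
  exact sq_01 hf hK ((mem_F0 hf).1 e.2)

/-- the torus element of the parameter `b` -/
noncomputable abbrev hT (b : Kˣ) : GL chevD4.Idx K := tor 2 1 b

/-- the dual of a matrix of determinant one -/
def tmF {R : Type*} [CommRing R] (A : SL(2, R)) : SL(2, R) :=
  ⟨!![A 1 1, A 1 0; A 0 1, A 0 0], by
    have h := A.2; rw [Matrix.det_fin_two] at h; rw [Matrix.det_fin_two_of]; linear_combination h⟩

theorem coe_tmF {R : Type*} [CommRing R] (A : SL(2, R)) :
    ((tmF A : SL(2, R)) : Matrix (Fin 2) (Fin 2) R) = !![A 1 1, A 1 0; A 0 1, A 0 0] := rfl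

/-- the dual automorphism of `SL₂` -/
def Tm {R : Type*} [CommRing R] : SL(2, R) →* SL(2, R) :=
  MonoidHom.mk' tmF fun A B => by
    ext i j
    fin_cases i <;> fin_cases j <;> simp [coe_tmF, Matrix.mul_apply, Fin.sum_univ_two, add_comm]

theorem coe_Tm {R : Type*} [CommRing R] (A : SL(2, R)) :
    ((Tm A : SL(2, R)) : Matrix (Fin 2) (Fin 2) R) = !![A 1 1, A 1 0; A 0 1, A 0 0] := rfl

theorem Tm_up {R : Type*} [Field R] (t : R) : Tm (up t) = lo t := by
  ext i j; fin_cases i <;> fin_cases j <;> simp [coe_Tm]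

theorem Tm_lo {R : Type*} [Field R] (t : R) : Tm (lo t) = up t := by
  ext i j; fin_cases i <;> fin_cases j <;> simp [coe_Tm]

theorem Tm_Tm {R : Type*} [CommRing R] (A : SL(2, R)) : Tm (Tm A) = A := by
  ext i j; fin_cases i <;> fin_cases j <;> simp [coe_Tm]

include hf in
theorem n0_xg {r : ℕ} (hr : r < chevD4.nroots) (t : K) :
    (n0 K)⁻¹ * xg c4 r t * n0 K = xg c4 (chevD4.neg r) t := by
  obtain ⟨e, he, h⟩ := flips_inv (flips_n0 (K := K)) r hr
  rw [inv_inv] at h
  rw [h, e_one hf he, one_mul]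

include hf in
theorem n0_phiS (A : SL(2, K)) : (n0 K)⁻¹ * phiS f A * n0 K = phiS f (Tm A) := by
  obtain ⟨e1, -, e3, e4, g1, -, g3, g4⟩ := simples
  have n1 : chevD4.neg d4m1 = d4p1 := by rw [← g1]; exact neg_neg' c4 (by decide +kernel)
  have n3 : chevD4.neg d4m3 = d4p3 := by rw [← g3]; exact neg_neg' c4 (by decide +kernel)
  have n4 : chevD4.neg d4m4 = d4p4 := by rw [← g4]; exact neg_neg' c4 (by decide +kernel)
  have h : A ∈ MonoidHom.eqLocus ((MulAut.conj (n0 K)⁻¹).toMonoidHom.comp (phiS f)) ((phiS f).comp Tm) := by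
    refine sl2_mem (MonoidHom.id _) _ (fun t => ?_) (fun t => ?_) A
    · show (n0 K)⁻¹ * phiS f (up t) * (n0 K)⁻¹⁻¹ = phiS f (Tm (up t))
      rw [inv_inv, Tm_up, phiS_up hf, phiS_lo hf, tri, trin, ← g1, ← g3, ← g4, ← n0_xg hf (by decide +kernel),
        ← n0_xg hf (by decide +kernel), ← n0_xg hf (by decide +kernel)]
      group
    · show (n0 K)⁻¹ * phiS f (lo t) * (n0 K)⁻¹⁻¹ = phiS f (Tm (lo t))
      rw [inv_inv, Tm_lo, phiS_up hf, phiS_lo hf, tri, trin, ← n1, ← n3, ← n4, ← n0_xg hf (by decide +kernel),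
        ← n0_xg hf (by decide +kernel), ← n0_xg hf (by decide +kernel)]
      group
  have h' : (n0 K)⁻¹ * phiS f A * (n0 K)⁻¹⁻¹ = phiS f (Tm A) := h
  rwa [inv_inv] at h'

include hf hK in
theorem n0_hT (b : Kˣ) : (n0 K)⁻¹ * hT b * n0 K = hT b⁻¹ := by
  rw [hT, hT, tor, TwistedD4Cover77.n0_torus]
  congr 1
  funext i
  have hi : i = nd 0 ∨ i = nd 1 ∨ i = nd 2 ∨ i = nd 3 := by revert i; decide
  rcases hi with rfl | rfl | rfl | rfl <;> simp [tp, inv_pow]

open Classical in
/-- the prime field inside -/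
noncomputable def iota (two : (2 : K) = 0) : ZMod 2 →+* K where
  toFun x := if x = 0 then 0 else 1
  map_one' := by simp
  map_zero' := by simp
  map_mul' a b := by
    have ha : a = 0 ∨ a = 1 := by revert a; decide
    have hb : b = 0 ∨ b = 1 := by revert b; decide
    rcases ha with rfl | rfl <;> rcases hb with rfl | rfl <;> simp
  map_add' a b := by
    have ha : a = 0 ∨ a = 1 := by revert a; decide
    have hb : b = 0 ∨ b = 1 := by revert b; decide
    have h11 : (1 : ZMod 2) + 1 = 0 := by decide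
    rcases ha with rfl | rfl <;> rcases hb with rfl | rfl <;> simp [h11]
    linear_combination -two

theorem iota_sq (two : (2 : K) = 0) (x : ZMod 2) : iota two x ^ 2 = iota two x := by
  have hx : x = 0 ∨ x = 1 := by revert x; decide
  rcases hx with rfl | rfl <;> simp

theorem iota_inj (two : (2 : K) = 0) : Function.Injective (iota two) := (iota two).injective

variable (two : (2 : K) = 0)

/-- the long rank-one group over the prime field -/
noncomputable def phi2 : SL(2, ZMod 2) →* GL chevD4.Idx K :=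
  (nodeD (nd 1)).φ.comp (Matrix.SpecialLinearGroup.map (iota two))

theorem phi2_up (t : ZMod 2) : phi2 two (up t) = xg c4 14 (iota two t) := by
  have h : Matrix.SpecialLinearGroup.map (iota two) (up t) = up (iota two t) := by
    ext i j; fin_cases i <;> fin_cases j <;> simp
  show (nodeD (nd 1)).φ _ = _
  rw [h, nodeD_up, show chevD4.simple (nd 1).val = 14 from simples.2.1]

theorem phi2_lo (t : ZMod 2) : phi2 two (lo t) = xg c4 9 (iota two t) := by
  have h : Matrix.SpecialLinearGroup.map (iota two) (lo t) = lo (iota two t) := by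
    ext i j; fin_cases i <;> fin_cases j <;> simp
  show (nodeD (nd 1)).φ _ = _
  rw [h, nodeD_lo, show chevD4.simple (nd 1).val = d4p2 from simples.2.1,
    show chevD4.neg d4p2 = d4m2 from simples.2.2.2.2.2.1]
  rfl

include hf in
theorem phi2_mem (A : SL(2, ZMod 2)) : phi2 two A ∈ twistedD4 K 2 :=
  sl2_mem _ _ (fun t => by rw [phi2_up]; exact (xg_mem_p2 2 (iota_sq two t)).1)
    (fun t => by rw [phi2_lo]; exact (xg_mem_p2 2 (iota_sq two t)).2) A

theorem phi2_levi (A : SL(2, ZMod 2)) : phi2 two A ∈ chevD4.leviSubgroup K JL :=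
  nodeD_levi _ (by simp [JL]) _

include hf in
theorem n0_phi2 (A : SL(2, ZMod 2)) : (n0 K)⁻¹ * phi2 two A * n0 K = phi2 two (Tm A) := by
  have h : A ∈ MonoidHom.eqLocus ((MulAut.conj (n0 K)⁻¹).toMonoidHom.comp (phi2 two)) ((phi2 two).comp Tm) := by
    refine sl2_mem (MonoidHom.id _) _ (fun t => ?_) (fun t => ?_) A
    · show (n0 K)⁻¹ * phi2 two (up t) * (n0 K)⁻¹⁻¹ = phi2 two (Tm (up t))
      rw [inv_inv, Tm_up, phi2_up, phi2_lo, n0_xg hf (by decide +kernel), show chevD4.neg 14 = 9 by decide +kernel]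
    · show (n0 K)⁻¹ * phi2 two (lo t) * (n0 K)⁻¹⁻¹ = phi2 two (Tm (lo t))
      rw [inv_inv, Tm_lo, phi2_up, phi2_lo, n0_xg hf (by decide +kernel), show chevD4.neg 9 = 14 by decide +kernel]
  have h' : (n0 K)⁻¹ * phi2 two A * (n0 K)⁻¹⁻¹ = phi2 two (Tm A) := h
  rwa [inv_inv] at h'

include hf hK in
theorem hT_comm (b : Kˣ) (A : SL(2, ZMod 2)) : Commute (hT b) (phi2 two A) := by
  classical
  have hN : nrm 2 b = 1 := by
    rw [nrm, show (2 ^ 2 + 2 + 1 : ℕ) = Fintype.card K - 1 by rw [hK]; norm_num, ← Fintype.card_units]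
    exact pow_card_eq_one
  have h := (nodeD (nd 1)).H_conj (hT b) (torus_mem_H c4 _) (Matrix.SpecialLinearGroup.map (iota two) A)
  have hα : (nodeD (nd 1)).α (hT b) = 1 := by
    refine ((rootVal_tor (1 : Kˣ) b 1 (by decide)).trans (tp_chars (1 : Kˣ) b).2.1).trans ?_
    rw [one_pow, hN, inv_one, mul_one]
  rw [hα, show dconj (1 : Kˣ) (Matrix.SpecialLinearGroup.map (iota two) A) =
    Matrix.SpecialLinearGroup.map (iota two) A by
      ext i j; fin_cases i <;> fin_cases j <;> simp] at h
  exact mul_inv_eq_iff_eq_mul.1 h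

/-- the natural module inside the radical -/
noncomputable def L2 (v : Fin 2 → ZMod 2) : GL chevD4.Idx K :=
  xg c4 22 (iota two (v 1)) * xg c4 23 (iota two (v 0))

theorem L2_roots : chevD4.commTerms 14 23 = [] ∧ chevD4.commTerms 9 22 = [] ∧ chevD4.commTerms 22 23 = [] ∧
    chevD4.commTerms 14 22 = [(23, 1, 1, 1)] ∧ chevD4.commTerms 9 23 = [(22, 1, 1, 1)] := by decide +kernel

theorem conj_comm {r s c : ℕ} (hr : r < chevD4.nroots) (hs : s < chevD4.nroots) (h1 : s ≠ r)
    (h2 : s ≠ chevD4.neg r) (hc : chevD4.commTerms r s = [(c, 1, 1, 1)]) (t u : K) :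
    xg c4 r t * xg c4 s u * (xg c4 r t)⁻¹ = xg c4 s u * xg c4 c (t * u) := by
  have h := comm_formula c4 hr hs h1 h2 (-t) u
  have e : xg c4 r t * xg c4 s u * (xg c4 r t)⁻¹ = xg c4 s u * wg c4 (chevD4.commWord K r s (-t) u) := by
    rw [xg_inv, mul_assoc, h, ← mul_assoc, ← mul_assoc, xg_mul, add_neg_cancel, xg_zero, one_mul]
  rw [e]
  simp [ChevalleyDatum.commWord, hc, wg]

theorem L2_up (t : ZMod 2) (v : Fin 2 → ZMod 2) : phi2 two (up t) * L2 two v * (phi2 two (up t))⁻¹ =
    L2 two (((up t : SL(2, ZMod 2)) : Matrix (Fin 2) (Fin 2) (ZMod 2)).mulVec v) := by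
  obtain ⟨h23, -, -, h22, -⟩ := L2_roots
  have c1 := conj_comm (K := K) (r := 14) (s := 22) (c := 23) (by decide +kernel) (by decide +kernel) (by decide)
    (by decide +kernel) h22 (iota two t) (iota two (v 1))
  have c2 : Commute (xg c4 14 (iota two t)) (xg c4 23 (iota two (v 0))) :=
    commute_xg c4 (by decide +kernel) (by decide +kernel) (by decide) (by decide +kernel) h23 _ _
  rw [phi2_up, L2, L2]
  calc xg c4 14 (iota two t) * (xg c4 22 (iota two (v 1)) * xg c4 23 (iota two (v 0))) * (xg c4 14 (iota two t))⁻¹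
      = (xg c4 14 (iota two t) * xg c4 22 (iota two (v 1)) * (xg c4 14 (iota two t))⁻¹) *
        (xg c4 14 (iota two t) * xg c4 23 (iota two (v 0)) * (xg c4 14 (iota two t))⁻¹) := by group
    _ = _ := by
      rw [c1, c2.eq, mul_inv_cancel_right, mul_assoc, xg_mul, ← map_mul, ← map_add]
      congr 3 <;> simp [Matrix.mulVec, dotProduct, Fin.sum_univ_two, add_comm]

theorem L2_lo (t : ZMod 2) (v : Fin 2 → ZMod 2) : phi2 two (lo t) * L2 two v * (phi2 two (lo t))⁻¹ =
    L2 two (((lo t : SL(2, ZMod 2)) : Matrix (Fin 2) (Fin 2) (ZMod 2)).mulVec v) := by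
  obtain ⟨-, h22, h, -, h23⟩ := L2_roots
  have c1 := conj_comm (K := K) (r := 9) (s := 23) (c := 22) (by decide +kernel) (by decide +kernel) (by decide)
    (by decide +kernel) h23 (iota two t) (iota two (v 0))
  have c2 : Commute (xg c4 9 (iota two t)) (xg c4 22 (iota two (v 1))) :=
    commute_xg c4 (by decide +kernel) (by decide +kernel) (by decide) (by decide +kernel) h22 _ _
  have c3 : ∀ x y : K, Commute (xg c4 22 x) (xg c4 23 y) := fun x y =>
    commute_xg c4 (by decide +kernel) (by decide +kernel) (by decide) (by decide +kernel) h x y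
  rw [phi2_lo, L2, L2]
  calc xg c4 9 (iota two t) * (xg c4 22 (iota two (v 1)) * xg c4 23 (iota two (v 0))) * (xg c4 9 (iota two t))⁻¹
      = (xg c4 9 (iota two t) * xg c4 22 (iota two (v 1)) * (xg c4 9 (iota two t))⁻¹) *
        (xg c4 9 (iota two t) * xg c4 23 (iota two (v 0)) * (xg c4 9 (iota two t))⁻¹) := by group
    _ = _ := by
      rw [c1, c2.eq, mul_inv_cancel_right, ← (c3 _ _).eq, ← mul_assoc, xg_mul, ← map_mul, ← map_add]
      congr 3 <;> simp [Matrix.mulVec, dotProduct, Fin.sum_univ_two, add_comm]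

theorem phi2_L2 (A : SL(2, ZMod 2)) : ∀ v : Fin 2 → ZMod 2,
    phi2 two A * L2 two v * (phi2 two A)⁻¹ = L2 two ((A : Matrix (Fin 2) (Fin 2) (ZMod 2)).mulVec v) := by
  have hA : A ∈ Submonoid.closure (Set.range (ChevalleySL2.upper : ZMod 2 → SL(2, ZMod 2)) ∪ {ChevalleySL2.wel}) := by
    rw [ChevalleySL2.gen_top]; exact Submonoid.mem_top _
  have hm : ∀ a b : SL(2, ZMod 2),
      (∀ v, phi2 two a * L2 two v * (phi2 two a)⁻¹ = L2 two ((a : Matrix (Fin 2) (Fin 2) (ZMod 2)).mulVec v)) →
      (∀ v, phi2 two b * L2 two v * (phi2 two b)⁻¹ = L2 two ((b : Matrix (Fin 2) (Fin 2) (ZMod 2)).mulVec v)) →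
      ∀ v, phi2 two (a * b) * L2 two v * (phi2 two (a * b))⁻¹ =
        L2 two (((a * b : SL(2, ZMod 2)) : Matrix (Fin 2) (Fin 2) (ZMod 2)).mulVec v) := by
    intro a b ha hb v
    rw [Matrix.SpecialLinearGroup.coe_mul, ← Matrix.mulVec_mulVec, ← ha, ← hb, map_mul]
    group
  induction hA using Submonoid.closure_induction with
  | mem x hx =>
    rcases hx with ⟨t, rfl⟩ | rfl
    · exact L2_up two t
    · rw [show (ChevalleySL2.wel : SL(2, ZMod 2)) = up 1 * lo (-1) * up 1 by decide]
      exact hm _ _ (hm _ _ (L2_up two _) (L2_lo two _)) (L2_up two _)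
  | one => intro v; simp
  | mul a b _ _ ha hb => exact hm a b ha hb

theorem L2_mem_rad (v : Fin 2 → ZMod 2) : L2 two v ∈ chevD4.unipotentRadical K JS :=
  mul_mem (xg_mem_rad (by decide +kernel) (by decide +kernel) (by decide +kernel) _)
    (xg_mem_rad (by decide +kernel) (by decide +kernel) (by decide +kernel) _)

theorem L2_mem_radL (v : Fin 2 → ZMod 2) : L2 two v ∈ chevD4.unipotentRadical K JL :=
  mul_mem (xg_mem_radL (by decide +kernel) (by decide +kernel) (by decide +kernel) _)
    (xg_mem_radL (by decide +kernel) (by decide +kernel) (by decide +kernel) _)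

theorem co_L2 (v : Fin 2 → ZMod 2) (i : Fin 8) : co i (L2 two v) = if i = 7 then iota two (v 1) else 0 := by
  rw [L2, co_mul i (xg_mem_rad (by decide +kernel) (by decide +kernel) (by decide +kernel) _)
    (xg_mem_rad (by decide +kernel) (by decide +kernel) (by decide +kernel) _),
    co_xg two (by decide +kernel) (by decide +kernel), co_xg two (by decide +kernel) (by decide +kernel)]
  fin_cases i <;> simp [lvRoot]

include hf hK in
/-- a rational element of the radical with vanishing short coefficients -/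
theorem rad_rational {u : GL chevD4.Idx K} (hu : u ∈ UJ 2 JS) (hz : ∀ i : Fin 8, i ≠ 0 → i ≠ 7 → co i u = 0) :
    ∃ e : ZMod 2, ∃ v : Fin 2 → ZMod 2, u = phi2 two (up e) * L2 two v ∧ L2 two v ∈ twistedD4 K 2 := by
  obtain ⟨z, hu'⟩ := rad_form two hu.1 hz
  have lift : ∀ x : K, x = 0 ∨ x = 1 → ∃ y : ZMod 2, iota two y = x := by
    rintro x (rfl | rfl)
    · exact ⟨0, map_zero _⟩
    · exact ⟨1, map_one _⟩
  have hUU : u ∈ UU 2 := UJ_le JS hu
  obtain ⟨e, he⟩ := lift _ (ent_01 hf hK hUU)
  have h7 : co 7 u = 0 ∨ co 7 u = 1 := by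
    rw [← gfun_wel hf hu.1]
    exact ent_01 hf hK (UJ_le JS (normU_S hf _ hu))
  obtain ⟨a, ha⟩ := lift _ h7
  have hx : xg c4 14 (co 0 u) = phi2 two (up e) := by rw [phi2_up, he]; rfl
  rw [hx, ← ha] at hu'
  have hrest : xg c4 22 (iota two a) * xg c4 23 z ∈ twistedD4 K 2 := by
    have := mul_mem (inv_mem (phi2_mem hf two (up e))) hu.2
    rw [hu'] at this
    simpa using this
  obtain ⟨b, hb⟩ : ∃ b, iota two b = z := by
    refine lift z (sq_01 hf hK ?_)
    obtain ⟨x, hx1, h⟩ := nword_conj c4 (F := K) (l := [1, 0, 2, 3]) (by decide) (r := d4p2) (by decide +kernel)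
    rw [TwistedD4Cover77.top_data.2.2.1, e_one hf hx1] at h
    have h22 : xg c4 22 (iota two a) ∈ twistedD4 K 2 := by
      obtain ⟨y, hy, h'⟩ := nword_conj c4 (F := K) (l := [0, 2, 3]) (by decide) (r := 14) (by decide +kernel)
      rw [show wact (D := chevD4) [0, 2, 3] 14 = 22 by decide +kernel, e_one hf hy] at h'
      rw [← one_mul (iota two a), ← h']
      have hn : nword c4 (F := K) [0, 2, 3] ∈ twistedD4 K 2 := by
        obtain ⟨e1, -, e3, e4, -⟩ := simples
        have h3 := tn_mem f hf (1 : K)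
        rw [one_pow, one_pow, tn, ← e1, ← e3, ← e4] at h3
        simpa [nword, mul_assoc] using h3
      exact mul_mem (mul_mem hn (xg_mem_p2 2 (iota_sq two a)).1) (inv_mem hn)
    have h23 := (Subgroup.mul_mem_cancel_left _ h22).1 hrest
    have h14 := mul_mem (mul_mem (inv_mem (TwistedD4Cover77.cw_mem (K := K) hf)) h23) (TwistedD4Cover77.cw_mem hf)
    rw [← one_mul z, ← h, TwistedD4Cover77.cw] at h14
    simp only [mul_assoc, inv_mul_cancel_left, inv_mul_cancel, mul_one] at h14
    have := (le_fixed f hf hK h14).2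
    rw [(sg_p2 f hf z).1] at this
    exact p2_inj this
  refine ⟨e, ![b, a], ?_, ?_⟩
  · rw [hu', ← hb]; simp [L2]
  · rw [← hb] at hrest; simpa [L2] using hrest

end Cfsg.Agent.TwistedD4TwoLong77
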