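import Cfsg.Agent.Lib.ChevE6ToF4_77
import Cfsg.Agent.Lib.TwistAutE6Out
import Cfsg.Agent.Lib.ChevalleyParabolic
import Cfsg.Agent.Lib.ChevalleyDataE6
import Cfsg.Agent.Lib.ChevMonomialRow77

/-!
`²E₆(2)` contains three classes of subgroups `F₄(2)`: the centralizer of the subfield copy of `F₄(2)` in the group
extended by the diagonal automorphisms meets no outer diagonal coset.
-/

set_option autoImplicit false
set_option linter.unusedSectionVars false
set_option linter.unusedSimpArgs false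
set_option maxRecDepth 20000

namespace Cfsg.Agent.TwistedE6F4Sub15

open Cfsg.Lie Cfsg.Agent Cfsg.Agent.ChevalleyCert Cfsg.Agent.ChevalleyCore Cfsg.Agent.ChevalleyRoots
  Cfsg.Agent.ChevalleyTorus Cfsg.Agent.TwistedCore Cfsg.Agent.TwistedTools Cfsg.Agent.ChevWeyl
  Cfsg.Agent.ChevBruhat Cfsg.Agent.TwistedE6 Cfsg.Agent.ChevalleyUnipotent Cfsg.Agent.ChevalleyParabolic
  Cfsg.Agent.ChevalleyEngine

variable {K : Type*} [Field K]

/-- the certificate used for weights -/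
noncomputable abbrev cd : Cert chevE6 := ChevalleyDataE6.cert

/-- height of a basis vector -/
noncomputable abbrev ht6 : chevE6.Idx → ℤ := wJ cd (∅ : Set ℕ)

theorem ht6_inl (i : Fin chevE6.rank) : ht6 (Sum.inl i) = 0 := by
  simp [ht6, wJ, ChevalleyAdjoint.cf]

theorem ht6_inr (s : Fin chevE6.nroots) :
    ht6 (Sum.inr s) = ∑ j ∈ Finset.range chevE6.rank, cd.coef s.val j := by
  simp [ht6, wJ, ChevalleyAdjoint.cf]

theorem coef_sum : ∀ r < 72, (36 ≤ r → (1 : ℤ) ≤ ∑ j ∈ Finset.range 6, ChevalleyDataE6.cert.coef r j) ∧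
    (r < 36 → ∑ j ∈ Finset.range 6, ChevalleyDataE6.cert.coef r j < (0 : ℤ)) := by decide +kernel

theorem coef_sum_simple : ∀ i < 6, ∑ j ∈ Finset.range 6, ChevalleyDataE6.cert.coef (chevE6.simple i) j = (1 : ℤ) := by
  decide +kernel

theorem odd_cartan : ∀ i < 6, ∃ h < 6, chevE6.cartan h (chevE6.simple i) % 2 = 1 := by decide +kernel

theorem node_facts : ∀ i < 6, (∃ j : Fin 2, i = (sn j).val) ∨
    ∃ j : Fin 2, (i = (pn j).val ∧ chevE6.simple i ≠ rb j) ∨ (i = (pm j).val ∧ chevE6.simple i ≠ ra j) := by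
  decide +kernel

theorem ht6_pos {r : ℕ} (hr : chevE6.IsPosRoot r) (hl : r < chevE6.nroots) :
    1 ≤ ht6 (Sum.inr ⟨r, hl⟩) := by
  rw [ht6_inr]; exact (coef_sum r hl).1 ((isPos cd).1 hr).1

theorem ht6_neg {r : ℕ} (hr : chevE6.IsNegRoot r) (hl : r < chevE6.nroots) :
    ht6 (Sum.inr ⟨r, hl⟩) < 0 := by
  rw [ht6_inr]; exact (coef_sum r hl).2 ((isNeg cd).1 hr)

theorem ht6_simple {i : ℕ} (hi : i < chevE6.rank) (hl : chevE6.simple i < chevE6.nroots) :
    ht6 (Sum.inr ⟨chevE6.simple i, hl⟩) = 1 := by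
  rw [ht6_inr]; exact coef_sum_simple i hi

theorem U_le_upper : chevE6.posUnipotent K ≤ upperAt ht6 1 := by
  refine (Subgroup.closure_le _).2 ?_
  rintro g ⟨r, t, hr, hg⟩
  obtain rfl : g = xg cd r t := Units.ext (hg.trans (coe_xg cd r t).symm)
  refine xg_mem_weight cd hr.1 (fun k hk a b hab => ?_) t
  have h1 : ht6 a = ht6 b + k * deg cd (∅ : Set ℕ) r := xm_wJ cd (J := (∅ : Set ℕ)) hk hr.1 hab
  have h2 : (1 : ℤ) ≤ deg cd (∅ : Set ℕ) r := by
    have := (coef_sum r hr.1).1 ((isPos cd).1 hr).1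
    simp only [deg, Set.mem_empty_iff_false, if_false]
    exact this
  have : (1 : ℤ) ≤ k * deg cd (∅ : Set ℕ) r := by nlinarith [show (1 : ℤ) ≤ k by exact_mod_cast hk]
  push_cast
  omega

/-- the entry at a simple root and a Cartan coordinate -/
def ent (g : GL chevE6.Idx K) (i : Fin chevE6.rank) (hl : chevE6.simple i.val < chevE6.nroots)
    (h : Fin chevE6.rank) : K :=
  (g : Matrix chevE6.Idx chevE6.Idx K) (Sum.inr ⟨chevE6.simple i.val, hl⟩) (Sum.inl h)

theorem ent_mul {u v : GL chevE6.Idx K} (hu : u ∈ chevE6.posUnipotent K) (hv : v ∈ chevE6.posUnipotent K)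
    (i : Fin chevE6.rank) (hl : chevE6.simple i.val < chevE6.nroots) (h : Fin chevE6.rank) :
    ent (u * v) i hl h = ent u i hl h + ent v i hl h := by
  have hA := (U_le_upper hu).1
  have hB := (U_le_upper hv).1
  have e : ((u * v : GL chevE6.Idx K) : Matrix chevE6.Idx chevE6.Idx K) - 1 =
      ((u : Matrix chevE6.Idx chevE6.Idx K) - 1) + ((v : Matrix chevE6.Idx chevE6.Idx K) - 1) +
      ((u : Matrix chevE6.Idx chevE6.Idx K) - 1) * ((v : Matrix chevE6.Idx chevE6.Idx K) - 1) := by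
    rw [Units.val_mul]; noncomm_ring
  have h0 : (((u : Matrix chevE6.Idx chevE6.Idx K) - 1) * ((v : Matrix chevE6.Idx chevE6.Idx K) - 1))
      (Sum.inr ⟨chevE6.simple i.val, hl⟩) (Sum.inl h) = 0 := by
    by_contra hne
    have := raise_mul _ hA hB _ _ hne
    rw [ht6_inl, ht6_simple i.isLt] at this
    omega
  have e2 := congrFun (congrFun e (Sum.inr ⟨chevE6.simple i.val, hl⟩)) (Sum.inl h)
  simp only [Matrix.add_apply, Matrix.sub_apply, h0, Matrix.one_apply, reduceCtorEq, if_false, sub_zero,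
    add_zero] at e2
  exact e2

theorem ent_conj {u y : GL chevE6.Idx K} (hu : u ∈ chevE6.posUnipotent K) (hy : y ∈ chevE6.posUnipotent K)
    (i : Fin chevE6.rank) (hl : chevE6.simple i.val < chevE6.nroots) (h : Fin chevE6.rank) :
    ent (u * y * u⁻¹) i hl h = ent y i hl h := by
  have h1 := ent_mul (mul_mem (mul_mem hu hy) (inv_mem hu)) hu i hl h
  rw [inv_mul_cancel_right, ent_mul hu hy] at h1
  exact add_right_cancel (h1.symm.trans (add_comm _ _))

theorem ent_xg (C : Cert chevE6) {r : ℕ} (hr : r < chevE6.nroots) (t : K) (i : Fin chevE6.rank)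
    (hl : chevE6.simple i.val < chevE6.nroots) (h : Fin chevE6.rank) :
    ent (xg C r t) i hl h = if chevE6.simple i.val = r then -(t * (chevE6.cartan h.val r : K)) else 0 := by
  rw [ent, coe_xg, x_eq_xR C hr]
  by_cases e : chevE6.simple i.val = r <;>
    simp [ChevalleyExp.xR, ChevalleyExp.castM, xm, Matrix.one_apply, e]

theorem borel_entry (T : Twist (c6 : Cert chevE6) K) {b : GL chevE6.Idx K} (hb : b ∈ chevE6.borelSubgroup K)
    {r : ℕ} (hr : chevE6.IsNegRoot r) (hl : r < chevE6.nroots) (h : Fin chevE6.rank) :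
    (b : Matrix chevE6.Idx chevE6.Idx K) (Sum.inr ⟨r, hl⟩) (Sum.inl h) = 0 := by
  obtain ⟨d, hd, u, hu, rfl⟩ := T.S.mem_B_iff.mp hb
  obtain ⟨c, rfl⟩ := (mem_H_iff c6).1 hd
  rw [Units.val_mul, coe_torus, tmat, Matrix.diagonal_mul, upperAt_entry _ (U_le_upper hu)]
  · simp
  · have := ht6_neg hr hl
    rw [ht6_inl]
    push_cast
    omega

theorem mon_pos (T : Twist (c6 : Cert chevE6) K) {v : GL chevE6.Idx K}
    (n : ↥(chevE6.monomialSubgroup K)) (hB : (n : GL chevE6.Idx K) * v * (n : GL chevE6.Idx K)⁻¹ ∈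
      chevE6.borelSubgroup K) (i : Fin chevE6.rank) (hl : chevE6.simple i.val < chevE6.nroots) (h : Fin chevE6.rank)
    (hv : ent v i hl h ≠ 0) : chevE6.IsPosRoot (T.X.img (T.S.toW n) (chevE6.simple i.val)) := by
  refine (T.X.pos_or_neg (T.X.img_lt _ hl)).resolve_right fun hneg => hv ?_
  obtain ⟨c, hc, hrow⟩ := ChevMonomialRow77.monomial_row (C := c6) T.wX T.supp n hl
  set w := T.S.toW n with hw
  have hzero : ∀ h' : Fin chevE6.rank, ((v * (n : GL chevE6.Idx K)⁻¹ : GL chevE6.Idx K) :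
      Matrix chevE6.Idx chevE6.Idx K) (Sum.inr ⟨chevE6.simple i.val, hl⟩) (Sum.inl h') = 0 := by
    intro h'
    have h0 := borel_entry T hB hneg (T.X.img_lt _ hl) h'
    rw [mul_assoc, Units.val_mul, Matrix.mul_apply] at h0
    rw [Finset.sum_eq_single (Sum.inr ⟨chevE6.simple i.val, hl⟩)] at h0
    · rw [hrow, if_pos rfl] at h0
      exact (mul_eq_zero.1 h0).resolve_left hc
    · intro q _ hq
      rw [hrow, if_neg hq, zero_mul]
    · simp
  have e : v = v * (n : GL chevE6.Idx K)⁻¹ * (n : GL chevE6.Idx K) := by group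
  rw [ent, e, Units.val_mul, Matrix.mul_apply]
  refine Finset.sum_eq_zero fun z _ => ?_
  rcases z with h' | s
  · rw [hzero, zero_mul]
  · obtain ⟨c', -, hrow'⟩ := ChevMonomialRow77.monomial_row (C := c6) T.wX T.supp n
      (T.X.img_lt (T.S.toW n)⁻¹ s.isLt)
    have := hrow' (Sum.inl h)
    simp only [T.X.img_img_inv, reduceCtorEq, if_false] at this
    rw [this, mul_zero]

variable [CharP K 2] (ι : ZMod 2 →+* K)

/-- the subfield copy of `F₄(2)` -/
noncomputable def imG : Subgroup (GL chevE6.Idx K) :=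
  (ChevE6Graph77.G1 (ZMod 2)).map (Matrix.GeneralLinearGroup.map ι)

theorem map_gen (b : Bool) (J : Fin 4) (t : ZMod 2) :
    Matrix.GeneralLinearGroup.map ι (ChevE6Fold77.gen ChevE6Graph77.C6 b J t) =
      ((ChevE6Fold77.cls J).map fun i => xg c6 (ChevE6Fold77.sroot chevE6 b i) (ι t)).prod := by
  simp only [ChevE6Fold77.gen, map_list_prod, List.map_map, Function.comp_def, xg_map]
  rfl

theorem mem_imG (j : Fin 2) (t : ZMod 2) :
    xg c6 (sr j) (ι t) ∈ imG ι ∧ xg c6 (chevE6.neg (sr j)) (ι t) ∈ imG ι ∧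
      pr j (ι t) (ι t) ∈ imG ι ∧ prn j (ι t) (ι t) ∈ imG ι := by
  have key : ∀ b J, ((ChevE6Fold77.cls J).map fun i => xg c6 (ChevE6Fold77.sroot chevE6 b i) (ι t)).prod ∈ imG ι :=
    fun b J => ⟨_, ChevE6Graph77.gen_mem _ b J t, map_gen ι b J t⟩
  have k1 := key false
  have k2 := key true
  fin_cases j
  · refine ⟨?_, ?_, ?_, ?_⟩
    · simpa [ChevE6Fold77.cls, ChevE6Fold77.sroot, sr, sn] using k1 3
    · simpa [ChevE6Fold77.cls, ChevE6Fold77.sroot, sr, sn] using k2 3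
    · simpa [ChevE6Fold77.cls, ChevE6Fold77.sroot, pr, ra, rb, pn, pm] using k1 0
    · simpa [ChevE6Fold77.cls, ChevE6Fold77.sroot, prn, ra, rb, pn, pm] using k2 0
  · refine ⟨?_, ?_, ?_, ?_⟩
    · simpa [ChevE6Fold77.cls, ChevE6Fold77.sroot, sr, sn] using k1 2
    · simpa [ChevE6Fold77.cls, ChevE6Fold77.sroot, sr, sn] using k2 2
    · simpa [ChevE6Fold77.cls, ChevE6Fold77.sroot, pr, ra, rb, pn, pm] using k1 1
    · simpa [ChevE6Fold77.cls, ChevE6Fold77.sroot, prn, ra, rb, pn, pm] using k2 1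

theorem cls_nodes : ∀ J : Fin 4, (∃ j : Fin 2, ChevE6Fold77.cls J = [(sn j).val]) ∨
    ∃ j : Fin 2, ChevE6Fold77.cls J = [(pn j).val, (pm j).val] := by decide +kernel

theorem sq_ι (t : ZMod 2) : ι t ^ 2 = ι t := by
  rw [← map_pow, (by decide : ∀ t : ZMod 2, t ^ 2 = t) t]

theorem imG_le : imG ι ≤ twistedE6 K 2 := by
  rw [imG, Subgroup.map_le_iff_le_comap, ChevE6Graph77.G1, Subgroup.closure_le]
  rintro _ ⟨b, J, t, rfl⟩
  rw [SetLike.mem_coe, Subgroup.mem_comap, map_gen]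
  rcases cls_nodes J with ⟨j, e⟩ | ⟨j, e⟩ <;> rw [e]
  · simp only [List.map_cons, List.map_nil, List.prod_cons, List.prod_nil, mul_one]
    cases b
    · exact (xg_mem_sr 2 j (sq_ι ι t)).1
    · exact (xg_mem_sr 2 j (sq_ι ι t)).2
  · simp only [List.map_cons, List.map_nil, List.prod_cons, List.prod_nil, mul_one]
    have h := pr_mem 2 j (ι t)
    rw [sq_ι] at h
    cases b
    · exact h.1
    · exact h.2

theorem imG_equiv (hι : Function.Injective ι) :
    Nonempty (↥(imG ι) ≃* ↥(chevF4.group (ZMod 2))) := by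
  have h := ChevE6ToF4_77.fixed_equiv (ZMod 2)
  rw [ChevE6Graph77.fixed_eq] at h
  obtain ⟨e⟩ := h
  have hinj : Function.Injective (Matrix.GeneralLinearGroup.map (n := chevE6.Idx) ι) := by
    intro a b hab
    refine Units.ext (Matrix.ext fun i j => hι ?_)
    exact congrArg (fun g : GL chevE6.Idx K => (g : Matrix chevE6.Idx chevE6.Idx K) i j) hab
  exact ⟨(((ChevE6Graph77.G1 (ZMod 2)).equivMapOfInjective _ hinj).symm).trans e⟩

variable (f : K →+* K) (hf : ∀ t, f t = t ^ 2)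

theorem dd_ng (e : TwistAutE6.Dg K 2) (i : Fin chevE6.rank) :
    ∃ a : Kˣ, TwistAutE6.dd e * ng c6 (chevE6.simple i.val) (1 : K) * (TwistAutE6.dd e)⁻¹ =
      ng c6 (chevE6.simple i.val) (a : K) := by
  refine ⟨ChevAutStd.chr c6 (TwistAutE6.tv e) (chevE6.simple i.val), ?_⟩
  have hl := simple_lt c6 i.isLt
  simp only [ng, TwistAutE6.mul_pr, TwistAutE6.dd_conj e hl, TwistAutE6.dd_conj e (c6.neg_lt _),
    ChevAutStd.chr_neg c6 _ hl]
  simp [CharTwo.neg_eq]

/-- the monomial elements whose conjugate by the diagonal matrix is monomial over the same Weyl element -/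
noncomputable def stable (e : TwistAutE6.Dg K 2) : Subgroup (GL chevE6.Idx K) where
  carrier := {m | ∃ (h : m ∈ chevE6.monomialSubgroup K)
    (h' : TwistAutE6.dd e * m * (TwistAutE6.dd e)⁻¹ ∈ chevE6.monomialSubgroup K),
      (tw f).S.toW ⟨_, h'⟩ = (tw f).S.toW ⟨m, h⟩}
  one_mem' := ⟨one_mem _, by simp, congrArg _ (Subtype.ext (by simp))⟩
  mul_mem' := by
    rintro a b ⟨ha, ha', ea⟩ ⟨hb, hb', eb⟩
    have e3 := TwistAutE6.mul_pr (TwistAutE6.dd e) a b
    refine ⟨mul_mem ha hb, e3 ▸ mul_mem ha' hb', ?_⟩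
    rw [show (⟨a * b, mul_mem ha hb⟩ : ↥(chevE6.monomialSubgroup K)) = ⟨a, ha⟩ * ⟨b, hb⟩ from rfl, map_mul, ← ea,
      ← eb, ← map_mul]
    exact congrArg _ (Subtype.ext e3)
  inv_mem' := by
    rintro a ⟨ha, ha', ea⟩
    have e3 : TwistAutE6.dd e * a⁻¹ * (TwistAutE6.dd e)⁻¹ = (TwistAutE6.dd e * a * (TwistAutE6.dd e)⁻¹)⁻¹ := by group
    refine ⟨inv_mem ha, e3 ▸ inv_mem ha', ?_⟩
    have h4 : (tw f).S.toW (⟨_, ha'⟩⁻¹) = (tw f).S.toW (⟨a, ha⟩⁻¹) := by
      simp only [map_inv ((tw f).S.toW), ea]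
    exact (congrArg _ (Subtype.ext e3)).trans h4

theorem ng_stable (e : TwistAutE6.Dg K 2) (i : Fin chevE6.rank) :
    ng c6 (chevE6.simple i.val) (1 : K) ∈ stable f e := by
  obtain ⟨a, ha⟩ := dd_ng e i
  obtain ⟨h1, e1⟩ := (tw f).toW_prod_ng [(i, (1 : Kˣ))]
  obtain ⟨h2, e2⟩ := (tw f).toW_prod_ng [(i, a)]
  simp only [List.map_cons, List.map_nil, List.prod_cons, List.prod_nil, mul_one, Units.val_one] at h1 e1 h2 e2
  exact ⟨h1, ha ▸ h2, (congrArg _ (Subtype.ext ha)).trans (e2.trans e1.symm)⟩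

variable [Fintype K] (hK : Fintype.card K = 2 ^ 2)

include hf hK in
theorem cn6_mem (J : Fin 2 ⊕ Fin 2) (e : TwistAutE6.Dg K 2) :
    cn6 (K := K) J ∈ imG ι ⊓ stable f e := by
  have h1 : (ι 1 : K) = 1 := map_one ι
  have hm : (-1 : K) = 1 := by simp [CharTwo.neg_eq]
  rcases J with j | j
  · refine ⟨?_, ng_stable f e (sn j)⟩
    obtain ⟨a, b, -, -⟩ := mem_imG ι j 1
    rw [h1] at a b
    show ng c6 (sr j) (1 : K) ∈ imG ι
    rw [ng, inv_one, hm]
    exact mul_mem (mul_mem a b) a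
  · refine ⟨?_, mul_mem (ng_stable f e (pn j)) (ng_stable f e (pm j))⟩
    obtain ⟨-, -, a, b⟩ := mem_imG ι j 1
    rw [h1] at a b
    show pnn j (1 : K) 1 ∈ imG ι
    rw [pnn_eq, inv_one, hm]
    exact mul_mem (mul_mem a b) a

include hf hK in
/-- the copy of `F₄(2)` is centralized by no element inducing an outer diagonal automorphism -/
theorem centralize {x : GL chevE6.Idx K} (hx : x ∈ twistedE6 K 2) (e : TwistAutE6.Dg K 2)
    (hc : ∀ y ∈ imG ι, x * TwistAutE6.dd e * y = y * (x * TwistAutE6.dd e)) :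
    e ∈ (TwistAutE6.mu hK (q := 2)).range := by
  set T := tw (K := K) f with hT
  set D := TwistAutE6.dd e with hD
  have hfix : ∀ y ∈ imG ι, x * (D * y * D⁻¹) * x⁻¹ = y := by
    intro y hy
    calc x * (D * y * D⁻¹) * x⁻¹ = x * D * y * (x * D)⁻¹ := by group
      _ = y * (x * D) * (x * D)⁻¹ := by rw [hc y hy]
      _ = y := by group
  have hi1 : (ι 1 : K) = 1 := map_one ι
  -- the element lies in `B`
  obtain ⟨b, hb, n, -, u, hu, hxe⟩ := (classes f hf hK).exists_form1 hx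
  have huU : u ∈ chevE6.posUnipotent K := T.S.Uw_le_U _ hu.1
  set w := T.S.toW n with hw
  have key : ∀ (i : Fin chevE6.rank) (y : GL chevE6.Idx K), y ∈ imG ι → y ∈ chevE6.posUnipotent K →
      D * y * D⁻¹ ∈ chevE6.posUnipotent K →
      (∃ h, ent (D * y * D⁻¹) i (simple_lt c6 i.isLt) h ≠ 0) →
      chevE6.IsPosRoot (T.X.img w (chevE6.simple i.val)) := by
    rintro i y hy hyU hyU' ⟨h, hne⟩
    refine mon_pos T n (v := u * (D * y * D⁻¹) * u⁻¹) ?_ i (simple_lt c6 i.isLt) h ?_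
    · have h1 := hfix y hy
      rw [hxe] at h1
      have h2 : (n : GL chevE6.Idx K) * (u * (D * y * D⁻¹) * u⁻¹) * (n : GL chevE6.Idx K)⁻¹ = b⁻¹ * y * b := by
        rw [show b⁻¹ * y * b = b⁻¹ * (b * ↑n * u * (D * y * D⁻¹) * (b * ↑n * u)⁻¹) * b by rw [h1]]
        group
      rw [h2]
      exact mul_mem (mul_mem (inv_mem hb.1) (Sys.U_le_B hyU)) hb.1
    · rw [ent_conj huU hyU']
      exact hne
  have hcast : ∀ z : ℤ, z % 2 = 1 → (z : K) ≠ 0 := by
    intro z hz h0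
    have := (CharP.intCast_eq_zero_iff K 2 z).1 h0
    omega
  have hpos : ∀ i : Fin chevE6.rank, chevE6.IsPosRoot (T.X.img w (chevE6.simple i.val)) := by
    intro i
    obtain ⟨h, hh, hodd⟩ := odd_cartan i.val i.isLt
    have hchi := ChevAutStd.chr c6 (TwistAutE6.tv e)
    rcases node_facts i.val i.isLt with ⟨j, hij⟩ | ⟨j, hij⟩
    · have hs : chevE6.simple i.val = sr j := by rw [hij]
      have hm := (mem_imG ι j 1).1
      rw [hi1] at hm
      refine key i _ hm (T.S.xg_mem_U (TwistAutE6.signs j).1 _) ?_ ⟨⟨h, hh⟩, ?_⟩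
      · rw [hD, TwistAutE6.dd_conj e (TwistAutE6.lts j).1]
        exact T.S.xg_mem_U (TwistAutE6.signs j).1 _
      · rw [hD, TwistAutE6.dd_conj e (TwistAutE6.lts j).1, ent_xg c6 (TwistAutE6.lts j).1, if_pos hs, neg_ne_zero]
        refine mul_ne_zero (by simp) (hcast _ ?_)
        rw [← hs]; exact hodd
    · have hm := (mem_imG ι j 1).2.2.1
      rw [hi1] at hm
      obtain ⟨-, hpa, hpb, -⟩ := TwistAutE6.signs j
      obtain ⟨-, la, lb⟩ := TwistAutE6.lts j
      have hD' : D * pr j (1 : K) 1 * D⁻¹ = xg c6 (ra j) ((ChevAutStd.chr c6 (TwistAutE6.tv e) (ra j) : K) * 1) *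
          xg c6 (rb j) ((ChevAutStd.chr c6 (TwistAutE6.tv e) (rb j) : K) * 1) := by
        rw [pr, TwistAutE6.mul_pr, hD, TwistAutE6.dd_conj e la, TwistAutE6.dd_conj e lb]
      refine key i _ hm (mul_mem (T.S.xg_mem_U hpa _) (T.S.xg_mem_U hpb _)) ?_ ⟨⟨h, hh⟩, ?_⟩
      · rw [hD']
        exact mul_mem (T.S.xg_mem_U hpa _) (T.S.xg_mem_U hpb _)
      · rw [hD', ent_mul (u := xg c6 (ra j) _) (v := xg c6 (rb j) _) (T.S.xg_mem_U hpa _) (T.S.xg_mem_U hpb _),
          ent_xg c6 la, ent_xg c6 lb]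
        rcases hij with ⟨hn, hne⟩ | ⟨hn, hne⟩
        · have hs : chevE6.simple i.val = ra j := by rw [hn]
          rw [if_pos hs, if_neg hne, add_zero, neg_ne_zero]
          refine mul_ne_zero (by simp) (hcast _ ?_)
          rw [← hs]; exact hodd
        · have hs : chevE6.simple i.val = rb j := by rw [hn]
          rw [if_pos hs, if_neg hne, zero_add, neg_ne_zero]
          refine mul_ne_zero (by simp) (hcast _ ?_)
          rw [← hs]; exact hodd
  have hw1 : w = 1 := by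
    by_contra hne
    obtain ⟨i, hi⟩ := T.X.exists_descent (w := w⁻¹) (by simpa using hne)
    rw [inv_inv] at hi
    exact T.X.not_pos_and_neg (hpos i) hi
  have hxB : x ∈ chevE6.borelSubgroup K := by
    have hnH : (n : GL chevE6.Idx K) ∈ chevE6.diagonalSubgroup K := T.S.toW_ker.le hw1
    rw [hxe]
    exact mul_mem (mul_mem hb.1 (Sys.H_le_B hnH)) (Sys.U_le_B huU)
  -- the unipotent part is trivial
  obtain ⟨h, hh, v, hv, hxv⟩ := T.S.mem_B_iff.mp hxB
  obtain ⟨w0, hw0, hlong, -⟩ := T.exists_w0_fix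
  obtain ⟨-, -, n0, hn0c, hn0w⟩ := (classes f hf hK).main hw0
  have hn0 : (n0 : GL chevE6.Idx K) ∈ imG ι ⊓ stable f e :=
    (Subgroup.closure_le _).2 (Set.range_subset_iff.2 fun J => cn6_mem ι f hf hK J e) hn0c
  obtain ⟨hn0N, hn1N, hWeq⟩ := hn0.2
  have hH1 : (n0 : GL chevE6.Idx K)⁻¹ * (D * n0 * D⁻¹) ∈ chevE6.diagonalSubgroup K :=
    T.S.toW_eq_iff.1 hWeq.symm
  have hH2 : (n0 : GL chevE6.Idx K)⁻¹ * h * (n0 : GL chevE6.Idx K) ∈ chevE6.diagonalSubgroup K := by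
    simpa using T.S.conj_H ((T.S.acts_toW n0).inv T.S) hh
  have hconj : (n0 : GL chevE6.Idx K)⁻¹ * v * (n0 : GL chevE6.Idx K) ∈ chevE6.borelSubgroup K := by
    have h1 := hfix n0 hn0.1
    rw [hxv] at h1
    have h2 : (n0 : GL chevE6.Idx K)⁻¹ * v * (n0 : GL chevE6.Idx K) =
        ((n0 : GL chevE6.Idx K)⁻¹ * h * (n0 : GL chevE6.Idx K))⁻¹ * h * v *
          ((n0 : GL chevE6.Idx K)⁻¹ * (D * n0 * D⁻¹))⁻¹ := by
      calc (n0 : GL chevE6.Idx K)⁻¹ * v * n0
          = (n0 : GL chevE6.Idx K)⁻¹ * h⁻¹ * (h * v * (D * n0 * D⁻¹) * (h * v)⁻¹) * (h * v) *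
              ((n0 : GL chevE6.Idx K)⁻¹ * (D * n0 * D⁻¹))⁻¹ := by group
        _ = _ := by rw [h1]; group
    rw [h2]
    exact mul_mem (mul_mem (mul_mem (inv_mem (Sys.H_le_B hH2)) (Sys.H_le_B hh)) (Sys.U_le_B hv))
      (inv_mem (Sys.H_le_B hH1))
  have hl : ChevAutRigid.IsLong T.S (T.S.toW n0⁻¹) := by
    rw [map_inv, hn0w]
    exact ChevAutRigid.IsLong.inv T.S hlong
  have hv1 : v = 1 := by
    have h2 := ChevAutRigid.long_U T.S hl hv
    rw [InvMemClass.coe_inv, inv_inv] at h2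
    have h3 := Subgroup.mem_bot.mp (T.S.B_inf_V.le ⟨hconj, h2⟩)
    have h4 := congrArg (fun z => (n0 : GL chevE6.Idx K) * z * (n0 : GL chevE6.Idx K)⁻¹) h3
    simpa [mul_assoc] using h4
  rw [hv1, mul_one] at hxv
  obtain ⟨p', hp'⟩ : x ∈ (psi (K := K) (q := 2)).range := by
    rw [psi_range f hf hK]
    exact ⟨hxv ▸ hh, hx⟩
  have hdiag : ∀ y : ↥(twistedE6 K 2), (y : GL chevE6.Idx K) ∈ imG ι →
      TwistAutE6.diagAut f hf (TwistAutE6.mu hK p' * e) y = y := by
    intro y hy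
    rw [map_mul, MulAut.mul_apply, ← TwistAutE6.conj_tor f hf hK]
    apply Subtype.ext
    show psi p' * (D * (y : GL chevE6.Idx K) * D⁻¹) * (psi p')⁻¹ = y
    rw [hp']
    exact hfix _ hy
  set P := TwistAutE6.mu hK p' * e with hP
  have hb : ∀ j, TwistAutE6.bv P j = 1 := fun j => Units.ext (by
    have hy : (TwistAutE6.pu f hf j 1 : GL chevE6.Idx K) ∈ imG ι := by
      have hm := (mem_imG ι j 1).2.2.1
      rw [hi1] at hm
      rw [TwistAutE6.coe_pu, one_pow]
      exact hm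
    have := hdiag _ hy
    rw [(TwistAutE6.diag_act f hf P j).2.2.1] at this
    simpa using TwistAutSL2.upper_inj (TwistAutE6.pPair f hf hK j) this)
  have ha : ∀ j, TwistAutE6.av P j = 1 := fun j => Subtype.ext (Units.ext (by
    have hy : (TwistAutE6.su f hf j 1 : GL chevE6.Idx K) ∈ imG ι := by
      have hm := (mem_imG ι j 1).1
      rw [hi1] at hm
      rw [TwistAutE6.coe_su]
      exact hm
    have := hdiag _ hy
    rw [(TwistAutE6.diag_act f hf P j).1] at this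
    simpa [TwistAutE6.lu] using congrArg Subtype.val (TwistAutSL2.upper_inj (TwistAutE6.sPair f hf hK j) this)))
  have hP1 : P = 1 := Prod.ext (Prod.ext (ha 0) (ha 1)) (Prod.ext (hb 0) (hb 1))
  exact ⟨p'⁻¹, by rw [map_inv]; exact (eq_inv_of_mul_eq_one_right hP1).symm⟩

include hf hK in
/-- two copies twisted by distinct outer diagonal classes are not conjugate -/
theorem not_conj (d : TwistAutE6.Dg K 2) (hd : d ∉ (TwistAutE6.mu hK (q := 2)).range) (g : ↥(twistedE6 K 2))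
    (hg : ∀ y : ↥(twistedE6 K 2), (y : GL chevE6.Idx K) ∈ imG ι →
      ((g * TwistAutE6.diagAut f hf d y * g⁻¹ : ↥(twistedE6 K 2)) : GL chevE6.Idx K) ∈ imG ι) : False := by
  obtain ⟨τ, hτ⟩ : ∃ τ : K ≃+* K, ∀ t, τ t = t ^ 2 :=
    ⟨RingEquiv.ofBijective f (Finite.injective_iff_bijective.1 f.injective), fun t => hf t⟩
  set M : GL chevE6.Idx K →* GL chevE6.Idx K := Matrix.GeneralLinearGroup.map τ.toRingHom with hM
  have hMfix : ∀ y ∈ imG ι, M y = y := by
    rintro _ ⟨z, -, rfl⟩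
    refine Units.ext (Matrix.ext fun i j => ?_)
    show τ (ι _) = ι _
    rw [hτ, sq_ι]
  have hMdd : M (TwistAutE6.dd d) = TwistAutE6.dd d * TwistAutE6.dd d := by
    refine Units.ext ?_
    show (chevE6.charDiag K _).map τ = chevE6.charDiag K _ * chevE6.charDiag K _
    rw [ChevalleyDatum.charDiag, Matrix.diagonal_map (map_zero τ), Matrix.diagonal_mul_diagonal]
    congr 1
    funext a
    simp [hτ, pow_two]
  set D := TwistAutE6.dd d with hD
  set A := (g : GL chevE6.Idx K) * D with hA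
  set g' : GL chevE6.Idx K := (g : GL chevE6.Idx K)⁻¹ * M g with hg'
  have hg'T : g' ∈ twistedE6 K 2 := mul_mem (inv_mem g.2) (TwistAutE6.map_mem f hf τ g.2)
  have hx : D⁻¹ * g' * D ∈ twistedE6 K 2 := by
    have := (TwistAutE6.scales_dd d⁻¹).mem f hf hg'T
    rwa [map_inv, inv_inv] at this
  refine hd (centralize ι f hf hK hx d fun y hy => ?_)
  have hAy : A * y * A⁻¹ ∈ imG ι := by
    have := hg ⟨y, imG_le ι hy⟩ hy
    have e : A * y * A⁻¹ = (g : GL chevE6.Idx K) * (D * y * D⁻¹) * (g : GL chevE6.Idx K)⁻¹ := by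
      rw [hA]; group
    rw [e]
    exact this
  have hMA : M A * y * (M A)⁻¹ = A * y * A⁻¹ := by
    have := hMfix _ hAy
    rwa [map_mul, map_mul, map_inv, hMfix y hy] at this
  have hc : D⁻¹ * g' * D * D = A⁻¹ * M A := by
    rw [hA, map_mul, hMdd, hg']; group
  show D⁻¹ * g' * D * D * y = y * (D⁻¹ * g' * D * D)
  rw [hc]
  calc A⁻¹ * M A * y = A⁻¹ * (M A * y * (M A)⁻¹) * M A := by group
    _ = A⁻¹ * (A * y * A⁻¹) * M A := by rw [hMA]
    _ = _ := by group

end Cfsg.Agent.TwistedE6F4Sub15
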