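import Cfsg.Agent.Lib.TwistedE6Fi22Data15
import Cfsg.Agent.Lib.TwistedE6
import Cfsg.Prelude.Def_Spor_Fi22

/-! Evaluation of the certificates for a copy of Fi22 inside the twisted group of type E6. -/

set_option autoImplicit false
set_option maxRecDepth 100000
set_option Elab.async false

namespace Cfsg.Agent.TwistedE6Fi22Check15

open Cfsg.Lie Cfsg.Agent Cfsg.Agent.PackedF4Mat15 Cfsg.Agent.TwistedE6Fi22Data15

/-- a scalar code -/
def sc (t : Fin 3) : S := ([(true, false), (false, true), (true, true)] : List S).getD t.val (true, false)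

/-- the square of a scalar code -/
def sc2 (t : Fin 3) : S := ([(true, false), (true, true), (false, true)] : List S).getD t.val (true, false)

/-- the one -/
def one : S := (true, false)

/-- a root of a single node -/
def rootS (j : Fin 2) (neg : Bool) : ℕ := if neg then chevE6.neg (TwistedE6.sr j) else TwistedE6.sr j

/-- the first root of a pair -/
def rootA (j : Fin 2) (neg : Bool) : ℕ := if neg then chevE6.neg (TwistedE6.ra j) else TwistedE6.ra j

/-- the second root of a pair -/
def rootB (j : Fin 2) (neg : Bool) : ℕ := if neg then chevE6.neg (TwistedE6.rb j) else TwistedE6.rb j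

/-- a node -/
def node (k : ℕ) : List V := tbl.getD k idM

/-- the check of a derivation -/
noncomputable def specOk (k : ℕ) : Bool :=
  match specs.getD k (.prod []) with
  | .fix j n => eqM (node k) (matX (rootS j n) one one one)
  | .pair j n t => eqM (node k) (mulM (matX (rootA j n) (sc t) (sc2 t) one) (matX (rootB j n) (sc2 t) (sc t) one))
  | .prod l => l.all (fun i => decide (i < k)) && eqM (node k) (l.foldr (fun i acc => mulM (node i) acc) idM)

theorem tbl_len : ∀ k < tbl.length, (node k).length = 78 := by decide +kernel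

theorem specs_ok : ∀ k < tbl.length, specOk k = true := by decide +kernel

/-- generator number `x` -/
def gm (x : ℕ) : List V := node (gidx.getD x 0)

theorem gidx_lt : ∀ x < 9, gidx.getD x 0 < tbl.length := by decide +kernel

/-- the number of a generator -/
def gnum : Cfsg.Spor.Fi22.Gen → ℕ
  | .a => 0 | .b => 1 | .c => 2 | .d => 3 | .e => 4 | .f => 5 | .g => 6 | .h => 7 | .i => 8

/-- the generators -/
def glist : List Cfsg.Spor.Fi22.Gen := [.a, .b, .c, .d, .e, .f, .g, .h, .i]

/-- the check of a Coxeter relation -/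
noncomputable def coxOk (x y : Cfsg.Spor.Fi22.Gen) : Bool :=
  match Cfsg.Spor.coxLabel Cfsg.Spor.Fi22.edges x y with
  | 1 => decide (x = y) && eqM (mulM (gm (gnum x)) (gm (gnum y))) idM
  | 2 => eqM (mulM (gm (gnum x)) (gm (gnum y))) (mulM (gm (gnum y)) (gm (gnum x)))
  | 3 => eqM (mulM (gm (gnum x)) (mulM (gm (gnum y)) (gm (gnum x))))
      (mulM (gm (gnum y)) (mulM (gm (gnum x)) (gm (gnum y))))
  | _ => false

theorem cox_ok : (glist.all fun x => glist.all fun y => coxOk x y) = true := by decide +kernel

/-- the check of a power relation from the squaring chain -/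
noncomputable def powOk (ch : List ℕ) (w : List ℕ) (last : Fin 2) : Bool :=
  eqM (node (ch.getD 0 0)) (w.foldr (fun i acc => mulM (gm i) acc) idM) &&
  eqM (node (ch.getD 1 0)) (mulM (node (ch.getD 0 0)) (node (ch.getD 0 0))) &&
  eqM (node (ch.getD 2 0)) (mulM (node (ch.getD 1 0)) (node (ch.getD 1 0))) &&
  eqM (node (ch.getD 3 0)) (mulM (node (ch.getD 2 0)) (node (ch.getD 2 0))) &&
  eqM (mulM (node (ch.getD 3 0)) (node (ch.getD last.val 0))) idM && ch.all (fun i => decide (i < tbl.length))

theorem spider_ok : powOk spider [3, 2, 1, 3, 4, 5, 3, 7, 8] 1 = true := by decide +kernel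

theorem sevenA_ok : powOk sevenA [0, 1, 2, 3, 4, 5, 7] 0 = true := by decide +kernel

theorem sevenB_ok : powOk sevenB [1, 2, 3, 4, 5, 6, 7] 0 = true := by decide +kernel

/-- the identity without position 77 -/
def proj77 : List V := (List.range 78).map fun p => if p = 77 then (0, 0) else (2 ^ p, 0)

/-- the generators fixing the chosen vector -/
def fixers : List ℕ := [2, 3, 4, 5, 7, 8]

theorem kernel_ok :
    eqM ((List.range 6).foldr (fun k acc => addM (mulM (lefts.getD k idM) (addM (gm (fixers.getD k 0)) idM)) acc)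
      ((List.range 78).map fun _ => ((0, 0) : V))) proj77 = true := by decide +kernel

theorem lefts_len : ∀ k < 6, (lefts.getD k idM).length = 78 ∧ fixers.getD k 0 < 9 ∧ fixers.getD k 0 ∈ [1, 2, 3, 4, 5, 6, 7, 8] ∧
    applyM (gm (fixers.getD k 0)) (2 ^ 77, 0) = (2 ^ 77, 0) := by decide +kernel

theorem span_ok : span.length = 78 ∧ spanInv.length = 78 ∧ span.getD 0 (0, 0) = (2 ^ 77, 0) ∧
    eqM (mulM span spanInv) idM = true := by decide +kernel

theorem parents_ok : ∀ j < 77, 1 ≤ (parents.getD j (0, 0)).1 ∧ (parents.getD j (0, 0)).1 < 9 ∧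
    (parents.getD j (0, 0)).2 ≤ j ∧
    applyM (gm (parents.getD j (0, 0)).1) (span.getD (parents.getD j (0, 0)).2 (0, 0)) = span.getD (j + 1) (0, 0) := by
  decide +kernel

end Cfsg.Agent.TwistedE6Fi22Check15
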