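import Cfsg.Agent.Lib.TwistedE6Fi22Check15
import Cfsg.Agent.Lib.TwistAutE6Out
import Cfsg.Agent.Lib.CosetCertFi22Simple

/-!
The copy of Fi22 in the twisted group of type E6 over the field with four elements, and the scalar commutant of its
subgroup on eight generators.
-/

set_option autoImplicit false
set_option linter.unusedSectionVars false
set_option linter.unusedSimpArgs false
set_option maxRecDepth 100000

namespace Cfsg.Agent.TwistedE6Fi22Sub15

open Cfsg.Lie Cfsg.Agent Cfsg.Agent.PackedF4Mat15 Cfsg.Agent.TwistedE6Fi22Data15 Cfsg.Agent.TwistedE6Fi22Check15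
  Cfsg.Agent.ChevalleyCert Cfsg.Agent.ChevalleyCore Cfsg.Agent.ChevalleyEngine
open Cfsg.Spor.Fi22 (Gen)

variable {K : Type*} [Field K]

theorem exists_omega [Fintype K] [CharP K 2] (hK : Fintype.card K = 4) : ∃ ω : K, ω * ω = ω + 1 := by
  classical
  obtain ⟨x, -, hx⟩ : ∃ x ∈ (Finset.univ : Finset K), x ∉ ({0, 1} : Finset K) := by
    apply Finset.exists_mem_notMem_of_card_lt_card
    rw [Finset.card_univ, hK]
    exact lt_of_le_of_lt (Finset.card_insert_le ..) (by simp)
  simp only [Finset.mem_insert, Finset.mem_singleton, not_or] at hx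
  refine ⟨x, ?_⟩
  have h := FiniteField.pow_card_sub_one_eq_one x hx.1
  rw [hK, show (4 - 1 : ℕ) = 3 from rfl] at h
  have h2 : (2 : K) = 0 := CharTwo.two_eq_zero
  have h3 : (x - 1) * (x * x + x + 1) = 0 := by linear_combination h
  rcases mul_eq_zero.1 h3 with h4 | h4
  · exact absurd (sub_eq_zero.1 h4) hx.2
  · linear_combination h4 - (x + 1) * h2

variable [CharP K 2] {ω : K} (hω : ω * ω = ω + 1)

include hω in
theorem sc_facts : ∀ t : Fin 3, phi ω (sc2 t) = phi ω (sc t) ^ 2 ∧ phi ω (sc t) = phi ω (sc2 t) ^ 2 ∧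
    phi ω one = phi ω (sc t) ^ 3 ∧ phi ω one = phi ω (sc2 t) ^ 3 := by
  intro t
  fin_cases t <;>
    simp [sc, sc2, one, phi, pow_succ, mul_add, add_mul, hω, CharTwo.add_self_eq_zero, add_comm, add_left_comm,
      add_assoc, CharTwo.add_cancel_left]

theorem phi_one : phi ω one = 1 := by simp [phi, one]

theorem length_idM : idM.length = 78 := by simp [idM]

theorem length_matX (r : ℕ) (a b c : S) : (matX r a b c).length = 78 := by simp [matX]

/-- a matrix that is realised in the group -/
def Real (ω : K) (M : List V) : Prop :=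
  M.length = 78 ∧ ∃ g ∈ twistedE6 K 2, (g : Matrix chevE6.Idx chevE6.Idx K) = toM ω M

include hω in
theorem real_fold (l : List ℕ) (h : ∀ i ∈ l, Real ω (node i)) :
    Real ω (l.foldr (fun i acc => mulM (node i) acc) idM) := by
  induction l with
  | nil => exact ⟨length_idM, 1, one_mem _, by rw [List.foldr_nil, toM_id]; rfl⟩
  | cons a l ih =>
    obtain ⟨ha, g, hg, eg⟩ := h a (List.mem_cons_self ..)
    obtain ⟨hl, g', hg', eg'⟩ := ih fun i hi => h i (List.mem_cons_of_mem _ hi)
    refine ⟨(length_mulM _ _).trans hl, g * g', mul_mem hg hg', ?_⟩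
    rw [List.foldr_cons, toM_mul hω ha hl, Units.val_mul, eg, eg']

include hω in
theorem real_node : ∀ k < tbl.length, Real ω (node k) := by
  intro k
  induction k using Nat.strong_induction_on with
  | _ k ih =>
    intro hk
    have h := specs_ok k hk
    unfold specOk at h
    have hlen := tbl_len k hk
    have h3 : phi ω one = phi ω one ^ 2 ∧ phi ω one = phi ω one ^ 3 := by simp [phi_one]
    split at h
    · rename_i j n _
      refine ⟨hlen, xg TwistedE6.c6 (rootS j n) (phi ω one), ?_, ?_⟩
      · have := TwistedE6.xg_mem_sr (K := K) 2 j (t := phi ω one) h3.1.symm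
        cases n
        · exact this.1
        · exact this.2
      · rw [eq_of_eqM h, toM_matX hω TwistedE6.c6 ?_ h3.1 h3.2]
        cases n
        · exact (TwistAutE6.lts j).1
        · exact TwistedE6.c6.neg_lt _
    · rename_i j n t _
      obtain ⟨f1, f2, f3, f4⟩ := sc_facts hω t
      refine ⟨hlen, xg TwistedE6.c6 (rootA j n) (phi ω (sc t)) * xg TwistedE6.c6 (rootB j n) (phi ω (sc2 t)), ?_, ?_⟩
      · have := TwistedE6.pr_mem (K := K) 2 j (phi ω (sc t))
        rw [← f1] at this
        cases n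
        · exact this.1
        · exact this.2
      · have la : rootA j n < chevE6.nroots := by
          cases n
          · exact (TwistAutE6.lts j).2.1
          · exact TwistedE6.c6.neg_lt _
        have lb : rootB j n < chevE6.nroots := by
          cases n
          · exact (TwistAutE6.lts j).2.2
          · exact TwistedE6.c6.neg_lt _
        rw [eq_of_eqM h, toM_mul hω (length_matX ..) (length_matX ..), toM_matX hω TwistedE6.c6 la f1 f3,
          toM_matX hω TwistedE6.c6 lb f2 f4, Units.val_mul]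
    · rename_i l _
      rw [Bool.and_eq_true, List.all_eq_true] at h
      have hr := real_fold hω l fun i hi =>
        ih i (of_decide_eq_true (h.1 i hi)) (lt_trans (of_decide_eq_true (h.1 i hi)) hk)
      rw [eq_of_eqM h.2]
      exact hr

theorem gnum_lt : ∀ x, gnum x < 9 := by intro x; cases x <;> decide

theorem mem_glist : ∀ x, x ∈ glist := by intro x; cases x <;> simp [glist]

/-- the image of a generator -/
noncomputable def gen (x : Gen) : ↥(twistedE6 K 2) :=
  ⟨(real_node hω _ (gidx_lt _ (gnum_lt x))).2.choose, (real_node hω _ (gidx_lt _ (gnum_lt x))).2.choose_spec.1⟩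

/-- the matrix of an element -/
noncomputable def mat : ↥(twistedE6 K 2) →* Matrix chevE6.Idx chevE6.Idx K :=
  (Units.coeHom _).comp (twistedE6 K 2).subtype

theorem mat_inj {a b : ↥(twistedE6 K 2)} (h : mat a = mat b) : a = b := Subtype.ext (Units.ext h)

theorem mat_gen (x : Gen) : mat (gen hω x) = toM ω (gm (gnum x)) :=
  (real_node hω _ (gidx_lt _ (gnum_lt x))).2.choose_spec.2

theorem gm_len (x : Gen) : (gm (gnum x)).length = 78 := tbl_len _ (gidx_lt _ (gnum_lt x))

theorem mat_word (l : List Gen) : mat (l.map (gen hω)).prod =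
    toM ω ((l.map gnum).foldr (fun i acc => mulM (gm i) acc) idM) ∧
    ((l.map gnum).foldr (fun i acc => mulM (gm i) acc) idM).length = 78 := by
  induction l with
  | nil => exact ⟨by simp [toM_id], length_idM⟩
  | cons a l ih =>
    refine ⟨?_, (length_mulM _ _).trans ih.2⟩
    rw [List.map_cons, List.prod_cons, map_mul, mat_gen, ih.1, List.map_cons, List.foldr_cons,
      toM_mul hω (gm_len a) ih.2]

theorem cox_rel (x y : Gen) :
    (gen hω x * gen hω y) ^ Cfsg.Spor.coxLabel Cfsg.Spor.Fi22.edges x y = 1 := by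
  have sq : ∀ z : Gen, gen hω z * gen hω z = 1 := by
    intro z
    have h := List.all_eq_true.1 (List.all_eq_true.1 cox_ok z (mem_glist z)) z (mem_glist z)
    have e : Cfsg.Spor.coxLabel Cfsg.Spor.Fi22.edges z z = 1 := by simp [Cfsg.Spor.coxLabel]
    simp only [coxOk, e, Bool.and_eq_true] at h
    apply mat_inj
    rw [map_mul, map_one, mat_gen, ← toM_mul hω (gm_len z) (gm_len z), eq_of_eqM h.2, toM_id]
  have h := List.all_eq_true.1 (List.all_eq_true.1 cox_ok x (mem_glist x)) y (mem_glist y)
  unfold coxOk at h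
  split at h
  · rename_i e
    simp only [Bool.and_eq_true, decide_eq_true_eq] at h
    rw [e, pow_one, h.1]; exact sq y
  · rename_i e
    have hc : gen hω x * gen hω y = gen hω y * gen hω x := mat_inj (by
      rw [map_mul, map_mul, mat_gen, mat_gen, ← toM_mul hω (gm_len x) (gm_len y),
        ← toM_mul hω (gm_len y) (gm_len x), eq_of_eqM h])
    rw [e, pow_two]
    calc gen hω x * gen hω y * (gen hω x * gen hω y) = gen hω x * gen hω y * (gen hω y * gen hω x) := by rw [hc]
      _ = gen hω x * (gen hω y * gen hω y) * gen hω x := by simp only [mul_assoc]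
      _ = 1 := by rw [sq, mul_one, sq]
  · rename_i e
    have hb : gen hω x * (gen hω y * gen hω x) = gen hω y * (gen hω x * gen hω y) := mat_inj (by
      rw [map_mul, map_mul, map_mul, map_mul, mat_gen, mat_gen, ← toM_mul hω (gm_len y) (gm_len x),
        ← toM_mul hω (gm_len x) ((length_mulM _ _).trans (gm_len x)), ← toM_mul hω (gm_len x) (gm_len y),
        ← toM_mul hω (gm_len y) ((length_mulM _ _).trans (gm_len y)), eq_of_eqM h])
    rw [e, pow_succ, pow_two]
    calc gen hω x * gen hω y * (gen hω x * gen hω y) * (gen hω x * gen hω y)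
        = gen hω x * (gen hω y * gen hω x) * (gen hω y * (gen hω x * gen hω y)) := by simp only [mul_assoc]
      _ = gen hω x * (gen hω y * gen hω x) * (gen hω x * (gen hω y * gen hω x)) := by rw [hb]
      _ = gen hω x * gen hω y * (gen hω x * gen hω x) * gen hω y * gen hω x := by simp only [mul_assoc]
      _ = gen hω x * (gen hω y * gen hω y) * gen hω x := by rw [sq, mul_one]; simp only [mul_assoc]
      _ = 1 := by rw [sq, mul_one, sq]
  · simp at h

theorem pow_rel (ch : List ℕ) (l : List Gen) (last : Fin 2) (n : ℕ) (hn : n = 8 + 2 ^ last.val)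
    (h : powOk ch (l.map gnum) last = true) (hlen : ch.length = 4) : (l.map (gen hω)).prod ^ n = 1 := by
  unfold powOk at h
  simp only [Bool.and_eq_true, List.all_eq_true] at h
  obtain ⟨⟨⟨⟨⟨h0, h1⟩, h2⟩, h3⟩, h4⟩, hlt⟩ := h
  have hN : ∀ k, k < 4 → (node (ch.getD k 0)).length = 78 := fun k hk =>
    tbl_len _ (of_decide_eq_true (hlt _ (by rw [List.getD_eq_getElem _ _ (hlen ▸ hk)]; exact List.getElem_mem _)))
  set w := (l.map (gen hω)).prod
  have e0 : mat w = toM ω (node (ch.getD 0 0)) := by rw [eq_of_eqM h0]; exact (mat_word hω l).1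
  have e1 : mat (w ^ 2) = toM ω (node (ch.getD 1 0)) := by
    rw [pow_two, map_mul, e0, ← toM_mul hω (hN 0 (by omega)) (hN 0 (by omega)), eq_of_eqM h1]
  have e2 : mat (w ^ 4) = toM ω (node (ch.getD 2 0)) := by
    rw [show w ^ 4 = w ^ 2 * w ^ 2 by rw [← pow_add], map_mul, e1,
      ← toM_mul hω (hN 1 (by omega)) (hN 1 (by omega)), eq_of_eqM h2]
  have e3 : mat (w ^ 8) = toM ω (node (ch.getD 3 0)) := by
    rw [show w ^ 8 = w ^ 4 * w ^ 4 by rw [← pow_add], map_mul, e2,
      ← toM_mul hω (hN 2 (by omega)) (hN 2 (by omega)), eq_of_eqM h3]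
  apply mat_inj
  subst hn
  rw [pow_add, map_mul, map_one, e3]
  fin_cases last
  · rw [show w ^ 2 ^ (0 : ℕ) = w by norm_num, e0, ← toM_mul hω (hN 3 (by omega)) (hN 0 (by omega))]
    rw [show mulM (node (ch.getD 3 0)) (node (ch.getD 0 0)) = idM from eq_of_eqM h4, toM_id]
  · rw [show w ^ 2 ^ (1 : ℕ) = w ^ 2 by norm_num, e1, ← toM_mul hω (hN 3 (by omega)) (hN 1 (by omega))]
    rw [show mulM (node (ch.getD 3 0)) (node (ch.getD 1 0)) = idM from eq_of_eqM h4, toM_id]

theorem rels : ∀ r ∈ Cfsg.Spor.coxRelators Cfsg.Spor.Fi22.edges ∪ {r | r ∈ Cfsg.Spor.Fi22.extra},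
    FreeGroup.lift (gen hω) r = 1 := by
  rintro r (⟨x, -, y, -, rfl⟩ | hr)
  · rw [map_pow, map_mul, FreeGroup.lift_apply_of, FreeGroup.lift_apply_of]; exact cox_rel hω x y
  · have h1 := pow_rel hω spider [.d, .c, .b, .d, .e, .f, .d, .h, .i] 1 10 rfl spider_ok rfl
    have h2 := pow_rel hω sevenA [.a, .b, .c, .d, .e, .f, .h] 0 9 rfl sevenA_ok rfl
    have h3 := pow_rel hω sevenB [.b, .c, .d, .e, .f, .g, .h] 0 9 rfl sevenB_ok rfl
    simp only [List.map_cons, List.map_nil, List.prod_cons, List.prod_nil, mul_one, ← mul_assoc] at h1 h2 h3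
    simp only [Cfsg.Spor.Fi22.extra, Set.mem_setOf_eq, List.mem_cons, List.not_mem_nil, or_false] at hr
    rcases hr with rfl | rfl | rfl <;>
      simp only [map_pow, map_mul, FreeGroup.lift_apply_of, Cfsg.Spor.Fi22.a, Cfsg.Spor.Fi22.b, Cfsg.Spor.Fi22.c,
        Cfsg.Spor.Fi22.d, Cfsg.Spor.Fi22.e, Cfsg.Spor.Fi22.f, Cfsg.Spor.Fi22.g, Cfsg.Spor.Fi22.h, Cfsg.Spor.Fi22.i]
    exacts [h1, h2, h3]

/-- the homomorphism of Fi22 into the group -/
noncomputable def emb : Cfsg.Spor.Fi22 →* ↥(twistedE6 K 2) := PresentedGroup.toGroup (rels hω)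

theorem emb_of (x : Gen) : emb hω (PresentedGroup.of x) = gen hω x := PresentedGroup.toGroup.of _

theorem gen_a_bit : ((gm 0).getD 6 (0, 0)).1.testBit 77 = true ∧ ((gm 0).getD 6 (0, 0)).2.testBit 77 = false := by
  decide +kernel

theorem emb_injective : Function.Injective (emb hω) := by
  haveI : IsSimpleGroup Cfsg.Spor.Fi22 := CosetCertFi22Simple.simple
  rw [← MonoidHom.ker_eq_bot_iff]
  refine (Subgroup.Normal.eq_bot_or_eq_top inferInstance).resolve_right fun htop => ?_
  have h1 : emb hω (PresentedGroup.of Gen.a) = 1 := by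
    rw [← MonoidHom.mem_ker, htop]; exact Subgroup.mem_top _
  rw [emb_of] at h1
  have h2 := congrArg mat h1
  rw [mat_gen, map_one] at h2
  have h3 := congrFun (congrFun h2 (Sum.inr ⟨71, by decide⟩)) (Sum.inr ⟨0, by decide⟩)
  rw [Matrix.one_apply_ne (by decide)] at h3
  have h4 : phi ω ((((gm 0).getD 6 (0, 0)).1.testBit 77), (((gm 0).getD 6 (0, 0)).2.testBit 77)) = 0 := h3
  rw [gen_a_bit.1, gen_a_bit.2] at h4
  simp [phi] at h4

theorem bit_proj : ∀ p < 78, (proj77.getD p (0, 0)) = if p = 77 then (0, 0) else (2 ^ p, 0) := by decide +kernel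

include hω in
/-- a matrix commuting with the eight generators is a scalar -/
theorem commutant (X : Matrix chevE6.Idx chevE6.Idx K)
    (hX : ∀ x : Gen, x ≠ .a → X * toM ω (gm (gnum x)) = toM ω (gm (gnum x)) * X) :
    ∃ l : K, X = l • (1 : Matrix chevE6.Idx chevE6.Idx K) := by
  classical
  have hXn : ∀ k, 1 ≤ k → k < 9 → X * toM ω (gm k) = toM ω (gm k) * X ∧ (gm k).length = 78 := by
    intro k h1 h2
    have hs : ∀ k < 9, k = 0 ∨ ∃ x ∈ glist, x ≠ .a ∧ gnum x = k := by decide +kernel
    rcases hs k h2 with rfl | ⟨x, -, hx, rfl⟩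
    · omega
    · exact ⟨hX x hx, gm_len x⟩
  set e : chevE6.Idx → K := toV ω (2 ^ 77, 0)
  set z := Matrix.mulVec X e with hz
  have hfix : ∀ k < 6, Matrix.mulVec (toM ω (gm (fixers.getD k 0))) z = z := by
    intro k hk
    obtain ⟨-, h9, hmem, happ⟩ := lefts_len k hk
    have h1 : 1 ≤ fixers.getD k 0 := by
      simp only [List.mem_cons, List.not_mem_nil, or_false] at hmem
      omega
    obtain ⟨hc, hlen⟩ := hXn _ h1 h9
    rw [hz, Matrix.mulVec_mulVec, ← hc, ← Matrix.mulVec_mulVec, mulVec_toV hω hlen, happ]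
  have hfold : ∀ l : List ℕ, (∀ k ∈ l, k < 6) →
      (l.foldr (fun k acc => addM (mulM (lefts.getD k idM) (addM (gm (fixers.getD k 0)) idM)) acc)
        ((List.range 78).map fun _ => ((0, 0) : V))).length = 78 ∧
      Matrix.mulVec (toM ω (l.foldr (fun k acc => addM (mulM (lefts.getD k idM) (addM (gm (fixers.getD k 0)) idM)) acc)
        ((List.range 78).map fun _ => ((0, 0) : V)))) z = 0 := by
    intro l hl
    induction l with
    | nil =>
      refine ⟨by simp, ?_⟩
      have : toM ω ((List.range 78).map fun _ => ((0, 0) : V)) = 0 := by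
        ext q p
        have hp : enc chevE6 p < 78 := enc_lt chevE6 p
        show val ω (((List.range 78).map fun _ => ((0, 0) : V)).getD (enc chevE6 p) (0, 0)) (enc chevE6 q) = 0
        rw [List.getD_eq_getElem _ _ (by simpa using hp), List.getElem_map, val_zero]
      rw [List.foldr_nil, this, Matrix.zero_mulVec]
    | cons k l ih =>
      obtain ⟨hl1, hl2⟩ := ih fun i hi => hl i (List.mem_cons_of_mem _ hi)
      have hk := hl k (List.mem_cons_self ..)
      obtain ⟨hL, h9, hmem, -⟩ := lefts_len k hk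
      have hg : (gm (fixers.getD k 0)).length = 78 := tbl_len _ (gidx_lt _ h9)
      have hA : (addM (gm (fixers.getD k 0)) idM).length = 78 := by
        show (List.zipWith vxor _ _).length = 78
        rw [List.length_zipWith, hg, length_idM]; rfl
      have hM : (mulM (lefts.getD k idM) (addM (gm (fixers.getD k 0)) idM)).length = 78 :=
        (length_mulM _ _).trans hA
      refine ⟨?_, ?_⟩
      · rw [List.foldr_cons]
        show (List.zipWith vxor _ _).length = 78
        rw [List.length_zipWith, hM, hl1]; rfl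
      rw [List.foldr_cons, toM_add hω hM hl1, Matrix.add_mulVec, hl2, add_zero, toM_mul hω hL hA,
        ← Matrix.mulVec_mulVec, toM_add hω hg length_idM, Matrix.add_mulVec, toM_id, Matrix.one_mulVec, hfix k hk]
      rw [show z + z = 0 from funext fun q => CharTwo.add_self_eq_zero _, Matrix.mulVec_zero]
  have hproj : Matrix.mulVec (toM ω proj77) z = 0 := by
    rw [← eq_of_eqM kernel_ok]
    exact (hfold _ fun k hk => List.mem_range.1 hk).2
  obtain ⟨q77, hq77⟩ := exists_enc chevE6 (show 77 < chevE6.rank + chevE6.nroots by decide)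
  have hzq : ∀ q, q ≠ q77 → z q = 0 := by
    intro q hq
    have h := congrFun hproj q
    have he : toM ω proj77 q = Pi.single q 1 := by
      funext p
      have hp : enc chevE6 p < 78 := enc_lt chevE6 p
      show val ω (proj77.getD (enc chevE6 p) (0, 0)) (enc chevE6 q) = _
      rw [bit_proj _ hp]
      by_cases hp7 : enc chevE6 p = 77
      · have hpq : p ≠ q := fun e => hq (enc_injective chevE6 (by rw [← e, hp7, hq77]))
        rw [if_pos hp7, val_zero, Pi.single_eq_of_ne hpq]
      · rw [if_neg hp7, val_two_pow]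
        by_cases hpq : p = q
        · subst hpq; simp
        · rw [if_neg fun e => hpq (enc_injective chevE6 e.symm), Pi.single_eq_of_ne hpq]
    simp only [Matrix.mulVec, Pi.zero_apply, he, dotProduct, Pi.single_apply, ite_mul, one_mul, zero_mul,
      Finset.sum_ite_eq', Finset.mem_univ, if_true] at h
    exact h
  refine ⟨z q77, ?_⟩
  set l := z q77 with hl
  have hbase : z = l • e := by
    funext q
    show z q = l * val ω (2 ^ 77, 0) (enc chevE6 q)
    rw [val_two_pow]
    by_cases h : q = q77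
    · subst h; rw [if_pos hq77.symm, mul_one, hl]
    · rw [if_neg fun e' => h (enc_injective chevE6 (e'.trans hq77)), mul_zero, hzq q h]
  obtain ⟨hs, hsi, hs0, hinv⟩ := span_ok
  have hspan : ∀ j, j < 78 → Matrix.mulVec X (toV ω (span.getD j (0, 0))) = l • toV ω (span.getD j (0, 0)) := by
    intro j
    induction j using Nat.strong_induction_on with
    | _ j ih =>
      intro hj
      rcases j with _ | j
      · rw [hs0]; exact hbase
      · obtain ⟨h1, h9, hpar, happ⟩ := parents_ok j (by omega)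
        obtain ⟨hc, hlen⟩ := hXn _ h1 h9
        rw [← happ, ← mulVec_toV hω hlen, Matrix.mulVec_mulVec, hc, ← Matrix.mulVec_mulVec,
          ih _ (by omega) (by omega), Matrix.mulVec_smul]
  have hB : X * toM ω span = l • toM ω span := by
    ext q p
    exact congrFun (hspan (enc chevE6 p) (enc_lt chevE6 p)) q
  have hI : toM ω span * toM ω spanInv = 1 := by rw [← toM_mul hω hs hsi, eq_of_eqM hinv, toM_id]
  calc X = X * (toM ω span * toM ω spanInv) := by rw [hI, mul_one]
    _ = l • (1 : Matrix chevE6.Idx chevE6.Idx K) := by rw [← mul_assoc, hB, Matrix.smul_mul, hI]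

variable [Fintype K] (f : K →+* K) (hf : ∀ t, f t = t ^ 2) (hK : Fintype.card K = 2 ^ 2)

include hω hf hK in
/-- an element inducing a diagonal automorphism and centralizing the eight generators induces an inner one -/
theorem centralize (c : ↥(twistedE6 K 2)) (e : TwistAutE6.Dg K 2)
    (hc : ∀ x : Gen, x ≠ .a → c * TwistAutE6.diagAut f hf e (gen hω x) * c⁻¹ = gen hω x) :
    e ∈ (TwistAutE6.mu hK (q := 2)).range := by
  set A : GL chevE6.Idx K := (c : GL chevE6.Idx K) * TwistAutE6.dd e with hA
  have hcomm : ∀ x : Gen, x ≠ .a → A * (gen hω x : GL chevE6.Idx K) = (gen hω x : GL chevE6.Idx K) * A := by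
    intro x hx
    have h : (c : GL chevE6.Idx K) * (TwistAutE6.dd e * (gen hω x : GL chevE6.Idx K) * (TwistAutE6.dd e)⁻¹) *
        (c : GL chevE6.Idx K)⁻¹ = (gen hω x : GL chevE6.Idx K) := congrArg Subtype.val (hc x hx)
    calc A * (gen hω x : GL chevE6.Idx K) = (c : GL chevE6.Idx K) *
          (TwistAutE6.dd e * (gen hω x : GL chevE6.Idx K) * (TwistAutE6.dd e)⁻¹) * (c : GL chevE6.Idx K)⁻¹ * A := by
          rw [hA]; group
      _ = _ := by rw [h]
  obtain ⟨l, hl⟩ := commutant hω (A : Matrix chevE6.Idx chevE6.Idx K) fun x hx => by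
    rw [← mat_gen hω x]
    exact congrArg Units.val (hcomm x hx)
  have hcen : ∀ y : GL chevE6.Idx K, A * y = y * A := fun y => Units.ext (by
    show (A : Matrix chevE6.Idx chevE6.Idx K) * (y : Matrix chevE6.Idx chevE6.Idx K) =
      (y : Matrix chevE6.Idx chevE6.Idx K) * (A : Matrix chevE6.Idx chevE6.Idx K)
    rw [hl]
    simp)
  refine (TwistAutE6.inner_cases f hf hK e 1 ⟨c⁻¹, ?_⟩).2
  rw [map_one, mul_one]
  refine MulEquiv.ext fun y => Subtype.ext ?_
  show (c : GL chevE6.Idx K)⁻¹ * (y : GL chevE6.Idx K) * ((c : GL chevE6.Idx K)⁻¹)⁻¹ =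
    TwistAutE6.dd e * (y : GL chevE6.Idx K) * (TwistAutE6.dd e)⁻¹
  calc (c : GL chevE6.Idx K)⁻¹ * (y : GL chevE6.Idx K) * ((c : GL chevE6.Idx K)⁻¹)⁻¹
      = (c : GL chevE6.Idx K)⁻¹ * ((y : GL chevE6.Idx K) * A) * (TwistAutE6.dd e)⁻¹ := by rw [hA]; group
    _ = (c : GL chevE6.Idx K)⁻¹ * (A * (y : GL chevE6.Idx K)) * (TwistAutE6.dd e)⁻¹ := by rw [hcen]
    _ = _ := by rw [hA]; group

end Cfsg.Agent.TwistedE6Fi22Sub15
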