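import Cfsg.Agent.Lib.TwistedE6Torus

/-!
The two values below the minimal degree of `²E₆(q)` do not divide the order.
-/

set_option autoImplicit false
set_option maxRecDepth 20000
set_option maxHeartbeats 1000000

namespace Cfsg.Agent.TwistedE6MinDeg8

/-- the order polynomial -/
def ordPoly (q : ℕ) : ℕ :=
  q ^ 36 * (q ^ 2 - 1) * (q ^ 5 + 1) * (q ^ 6 - 1) * (q ^ 8 - 1) * (q ^ 9 + 1) * (q ^ 12 - 1)

/-- the bound -/
def TT (q : ℕ) : ℕ := q * (q ^ 6 - q ^ 3 + 1) * (q ^ 4 + 1)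

theorem peel {f a b K : ℤ} (m : ℕ) (D s t : ℤ) (e : s * f + t * b = D) (h : f ∣ a * b ^ m * K) :
    f ∣ a * (D ^ m * K) := by
  induction m generalizing K with
  | zero => simpa using h
  | succ m ih =>
    have h1 : f ∣ a * (D ^ m * (b * K)) := ih (by convert h using 1; ring)
    have h2 : a * (D ^ (m + 1) * K) = f * (s * (a * D ^ m * K)) + t * (a * (D ^ m * (b * K))) := by
      rw [← e]; ring
    rw [h2]
    exact dvd_add (dvd_mul_right _ _) (dvd_mul_of_dvd_right h1 t)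

theorem peel' {f b K : ℤ} (m : ℕ) (D s t : ℤ) (e : s * f + t * b = D) (h : f ∣ b ^ m * K) :
    f ∣ D ^ m * K := by
  simpa using peel (a := 1) m D s t e (by simpa using h)

/-- the cofactor -/
def f1 (q : ℤ) : ℤ := (-1) + (1) * q + (-1) * q ^ 2 + (1) * q ^ 3 + (-1) * q ^ 4 + (1) * q ^ 5 + (1) * q ^ 7

theorem small1 {q : ℤ} (h : f1 q ∣ ((1) * q) ^ 36 * ((-1) + (1) * q) ^ 4 * ((1) + (1) * q) ^ 6 * ((1) + (1) * q + (1) * q ^ 2) ^ 2 * ((1) + (1) * q ^ 2) ^ 2 * ((1) + (-1) * q + (1) * q ^ 2) ^ 3 * ((1) + (1) * q ^ 4) ^ 1 * ((1) + (-1) * q + (1) * q ^ 2 + (-1) * q ^ 3 + (1) * q ^ 4) ^ 1 * ((1) + (-1) * q ^ 2 + (1) * q ^ 4) ^ 1 * ((1) + (-1) * q ^ 3 + (1) * q ^ 6) ^ 1) : f1 q ∣ 4353013 := by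
  replace h := dvd_mul_of_dvd_left h 1
  replace h := peel 1 (1) ((-1) + (1) * q ^ 2 + (-1) * q ^ 4) ((1) * q + (1) * q ^ 5) (by simp only [f1]; ring) h
  replace h := peel 1 (37) ((-14) + (-11) * q + (8) * q ^ 2 + (1) * q ^ 3) ((23) + (3) * q + (28) * q ^ 2 + (-1) * q ^ 3 + (9) * q ^ 4 + (-8) * q ^ 5 + (-1) * q ^ 6) (by simp only [f1]; ring) h
  replace h := peel 1 (1) ((-1) * q + (1) * q ^ 2) ((1) + (1) * q ^ 2 + (-1) * q ^ 5) (by simp only [f1]; ring) h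
  replace h := peel 1 (1) ((1) * q ^ 2) ((1) + (1) * q ^ 2 + (-1) * q ^ 3 + (-1) * q ^ 5) (by simp only [f1]; ring) h
  replace h := peel 3 (1) ((1) + (-1) * q) ((2) + (-2) * q ^ 3 + (1) * q ^ 6) (by simp only [f1]; ring) h
  replace h := peel 2 (1) ((-1)) ((1) * q + (-1) * q ^ 2 + (1) * q ^ 5) (by simp only [f1]; ring) h
  replace h := peel 2 (1) ((-1) + (-1) * q) ((1) * q ^ 6) (by simp only [f1]; ring) h
  replace h := peel 6 (7) ((-1)) ((6) + (-5) * q + (4) * q ^ 2 + (-3) * q ^ 3 + (2) * q ^ 4 + (-1) * q ^ 5 + (1) * q ^ 6) (by simp only [f1]; ring) h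
  replace h := peel 4 (1) ((1)) ((-2) + (-1) * q + (-2) * q ^ 2 + (-1) * q ^ 3 + (-2) * q ^ 4 + (-1) * q ^ 5 + (-1) * q ^ 6) (by simp only [f1]; ring) h
  replace h := peel' 36 (1) ((-1)) ((1) + (-1) * q + (1) * q ^ 2 + (-1) * q ^ 3 + (1) * q ^ 4 + (1) * q ^ 6) (by simp only [f1]; ring) h
  norm_num at h ⊢
  exact h

/-- the cofactor -/
def f2 (q : ℤ) : ℤ := (2) + (1) * q + (1) * q ^ 2 + (1) * q ^ 3 + (2) * q ^ 4 + (1) * q ^ 5 + (1) * q ^ 6 + (1) * q ^ 8 + (1) * q ^ 9 + (1) * q ^ 10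

theorem small2 {q : ℤ} (h : f2 q ∣ ((1) * q) ^ 36 * ((-1) + (1) * q) ^ 4 * ((1) + (1) * q) ^ 6 * ((1) + (1) * q + (1) * q ^ 2) ^ 2 * ((1) + (1) * q ^ 2) ^ 2 * ((1) + (-1) * q + (1) * q ^ 2) ^ 3 * ((1) + (1) * q ^ 4) ^ 1 * ((1) + (-1) * q + (1) * q ^ 2 + (-1) * q ^ 3 + (1) * q ^ 4) ^ 1 * ((1) + (-1) * q ^ 2 + (1) * q ^ 4) ^ 1 * ((1) + (-1) * q ^ 3 + (1) * q ^ 6) ^ 1) : f2 q ∣ 36981110181769223602176 := by
  replace h := dvd_mul_of_dvd_left h 1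
  replace h := peel 1 (2) ((1) + (-1) * q) ((1) * q + (1) * q ^ 5) (by simp only [f2]; ring) h
  replace h := peel 1 (1) ((1) + (-1) * q) ((-1) + (1) * q + (-1) * q ^ 2 + (1) * q ^ 3 + (-1) * q ^ 4 + (1) * q ^ 5 + (1) * q ^ 7) (by simp only [f2]; ring) h
  replace h := peel 1 (11) ((6) + (-3) * q + (-1) * q ^ 2 + (-1) * q ^ 3) ((-1) + (-1) * q + (-1) * q ^ 2 + (-1) * q ^ 3 + (-7) * q ^ 4 + (-4) * q ^ 5 + (3) * q ^ 6 + (7) * q ^ 7 + (3) * q ^ 8 + (1) * q ^ 9) (by simp only [f2]; ring) h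
  replace h := peel 1 (2) ((1) + (-1) * q) ((1) * q + (-1) * q ^ 4 + (1) * q ^ 7) (by simp only [f2]; ring) h
  replace h := peel 3 (1) ((-1) + (1) * q) ((3) + (2) * q + (-1) * q ^ 2 + (-3) * q ^ 3 + (-1) * q ^ 4 + (1) * q ^ 5 + (2) * q ^ 6 + (-1) * q ^ 8 + (-1) * q ^ 9) (by simp only [f2]; ring) h
  replace h := peel 2 (4) ((1) + (-1) * q) ((2) + (1) * q + (-2) * q ^ 2 + (-1) * q ^ 3 + (1) * q ^ 4 + (2) * q ^ 5 + (-1) * q ^ 6 + (-1) * q ^ 7 + (1) * q ^ 9) (by simp only [f2]; ring) h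
  replace h := peel 2 (3) ((1) + (-1) * q) ((1) + (-1) * q ^ 2 + (1) * q ^ 3 + (-1) * q ^ 4 + (1) * q ^ 5 + (-1) * q ^ 8 + (1) * q ^ 9) (by simp only [f2]; ring) h
  replace h := peel 6 (4) ((1)) ((2) + (-3) * q + (2) * q ^ 2 + (-3) * q ^ 3 + (1) * q ^ 4 + (-2) * q ^ 5 + (1) * q ^ 6 + (-1) * q ^ 7 + (-1) * q ^ 9) (by simp only [f2]; ring) h
  replace h := peel 4 (12) ((1)) ((-10) + (-9) * q + (-8) * q ^ 2 + (-7) * q ^ 3 + (-5) * q ^ 4 + (-4) * q ^ 5 + (-3) * q ^ 6 + (-3) * q ^ 7 + (-2) * q ^ 8 + (-1) * q ^ 9) (by simp only [f2]; ring) h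
  replace h := peel' 36 (2) ((1)) ((-1) + (-1) * q + (-1) * q ^ 2 + (-2) * q ^ 3 + (-1) * q ^ 4 + (-1) * q ^ 5 + (-1) * q ^ 7 + (-1) * q ^ 8 + (-1) * q ^ 9) (by simp only [f2]; ring) h
  norm_num at h ⊢
  exact h

theorem small_q1 : ((List.range 9).all fun q => decide (q < 2) ||
    decide (ordPoly q % (TT q - 1) ≠ 0)) = true := by decide +kernel

theorem small_q2 : ((List.range 181).all fun q => decide (q < 2) ||
    decide (ordPoly q % (TT q - 2) ≠ 0)) = true := by decide +kernel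

theorem ord_cast {q : ℕ} (hq : 1 ≤ q) : ((ordPoly q : ℕ) : ℤ) = ((1) * (q : ℤ)) ^ 36 * ((-1) + (1) * (q : ℤ)) ^ 4 * ((1) + (1) * (q : ℤ)) ^ 6 * ((1) + (1) * (q : ℤ) + (1) * (q : ℤ) ^ 2) ^ 2 * ((1) + (1) * (q : ℤ) ^ 2) ^ 2 * ((1) + (-1) * (q : ℤ) + (1) * (q : ℤ) ^ 2) ^ 3 * ((1) + (1) * (q : ℤ) ^ 4) ^ 1 * ((1) + (-1) * (q : ℤ) + (1) * (q : ℤ) ^ 2 + (-1) * (q : ℤ) ^ 3 + (1) * (q : ℤ) ^ 4) ^ 1 * ((1) + (-1) * (q : ℤ) ^ 2 + (1) * (q : ℤ) ^ 4) ^ 1 * ((1) + (-1) * (q : ℤ) ^ 3 + (1) * (q : ℤ) ^ 6) ^ 1 := by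
  have e : ∀ n, 1 ≤ q ^ n := fun n => Nat.one_le_pow _ _ hq
  rw [ordPoly]
  push_cast [Nat.cast_sub (e 2), Nat.cast_sub (e 6), Nat.cast_sub (e 8), Nat.cast_sub (e 12)]
  ring

theorem TT_cast {q : ℕ} (hq : 1 ≤ q) :
    ((TT q : ℕ) : ℤ) = (q : ℤ) * ((q : ℤ) ^ 6 - (q : ℤ) ^ 3 + 1) * ((q : ℤ) ^ 4 + 1) := by
  have e : q ^ 3 ≤ q ^ 6 := Nat.pow_le_pow_right hq (by norm_num)
  rw [TT]
  push_cast [Nat.cast_sub e]
  ring

theorem excluded {q k : ℕ} (hq : 2 ≤ q) (hk : k ∣ ordPoly q) : k + 1 ≠ TT q ∧ k + 2 ≠ TT q := by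
  have hZ : (k : ℤ) ∣ ((ordPoly q : ℕ) : ℤ) := Int.natCast_dvd_natCast.2 hk
  rw [ord_cast (by omega)] at hZ
  constructor
  · intro h
    by_cases hs : q < 9
    · have h0 := List.all_eq_true.1 small_q1 q (List.mem_range.2 hs)
      simp only [Bool.or_eq_true, decide_eq_true_eq] at h0
      rcases h0 with h0 | h0
      · omega
      · exact h0 (Nat.mod_eq_zero_of_dvd (by rwa [show TT q - 1 = k by omega]))
    · have hkf : (k : ℤ) = ((1) + (-1) * (q : ℤ) ^ 2 + (1) * (q : ℤ) ^ 4) * f1 q := by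
        have h' : ((k + 1 : ℕ) : ℤ) = _ := (congrArg (Nat.cast : ℕ → ℤ) h).trans (TT_cast (by omega))
        push_cast at h'
        simp only [f1]
        linear_combination h'
      rw [hkf] at hZ
      have hle := Int.le_of_dvd (by norm_num) (small1 ((dvd_mul_left _ _).trans hZ))
      have h9 : (9 : ℤ) ≤ q := by exact_mod_cast (show 9 ≤ q by omega)
      have h7 : (9 : ℤ) ^ 7 ≤ (q : ℤ) ^ 7 := pow_le_pow_left₀ (by norm_num) h9 7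
      have m : ∀ i j : ℕ, i ≤ j → (q : ℤ) ^ i ≤ (q : ℤ) ^ j := fun i j hij => pow_le_pow_right₀ (by linarith) hij
      have := m 4 5 (by norm_num); have := m 2 3 (by norm_num)
      simp only [f1] at hle
      norm_num at h7
      linarith
  · intro h
    by_cases hs : q < 181
    · have h0 := List.all_eq_true.1 small_q2 q (List.mem_range.2 hs)
      simp only [Bool.or_eq_true, decide_eq_true_eq] at h0
      rcases h0 with h0 | h0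
      · omega
      · exact h0 (Nat.mod_eq_zero_of_dvd (by rwa [show TT q - 2 = k by omega]))
    · have hkf : (k : ℤ) = ((-1) + (1) * (q : ℤ)) * f2 q := by
        have h' : ((k + 2 : ℕ) : ℤ) = _ := (congrArg (Nat.cast : ℕ → ℤ) h).trans (TT_cast (by omega))
        push_cast at h'
        simp only [f2]
        linear_combination h'
      rw [hkf] at hZ
      have hle := Int.le_of_dvd (by norm_num) (small2 ((dvd_mul_left _ _).trans hZ))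
      have h9 : (181 : ℤ) ≤ q := by exact_mod_cast (show 181 ≤ q by omega)
      have h7 : (181 : ℤ) ^ 10 ≤ (q : ℤ) ^ 10 := pow_le_pow_left₀ (by norm_num) h9 10
      have : (0 : ℤ) ≤ (q : ℤ) + (q : ℤ) ^ 2 + (q : ℤ) ^ 3 + 2 * (q : ℤ) ^ 4 + (q : ℤ) ^ 5 + (q : ℤ) ^ 6 +
          (q : ℤ) ^ 8 + (q : ℤ) ^ 9 := by positivity
      simp only [f2] at hle
      norm_num at h7
      linarith

end Cfsg.Agent.TwistedE6MinDeg8
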