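import Cfsg.Agent.Lib.TwistedE6MinDeg8Tables
import Cfsg.Agent.Lib.TwistedE6MinDeg8Arith

/-!
The three levels of the minimal degree bound of `²E₆(q)`.
-/

set_option autoImplicit false
set_option linter.unusedSectionVars false
set_option linter.unusedVariables false
set_option maxRecDepth 20000

namespace Cfsg.Agent.TwistedE6MinDeg8

open Cfsg.Lie Cfsg.Agent.SUMinDegree32Eigen Module

variable {K : Type*} [Field K] [Fintype K] {q : ℕ} [Sq K q]
variable {V : Type} [AddCommGroup V] [Module ℂ V] [FiniteDimensional ℂ V] {σ : Representation ℂ (GG K) V}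
variable {n : ℕ} {R : Rad n} {U U' : Submodule ℂ V}

theorem inv_top (g : ℕ) : Inv σ (⊤ : Submodule ℂ V) g := fun _ _ _ => Submodule.mem_top

theorem inv_inf {g : ℕ} (h : Inv σ U g) (h' : Inv σ U' g) : Inv σ (U ⊓ U') g := fun t v hv =>
  ⟨h t v hv.1, h' t v hv.2⟩

theorem m1_zero (g : ℕ) (t : K) : m1 R g t (0 : Fin n → K) = 0 := by
  funext k
  unfold m1
  cases tgt R g k with
  | none => rfl
  | some p => simp

theorem mv_zero (g : ℕ) (t : K) : mv R g t (0 : Fin n → K) = 0 := by rw [mv, m1_zero, m1_zero]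

theorem inv_Esp0 {g : ℕ} (h : okMv R g = true) : Inv σ (Esp R σ 0) g := fun t v hv => by
  have := mv_mem h t hv
  rwa [mv_zero] at this

theorem mem_E0 {v : V} : v ∈ Esp R σ 0 ↔ ∀ i a, σ (W (R.S i) a) v = v := by
  simp [mem_E]

theorem Du_inv (h : ∀ i, Inv σ U (R.S i)) (a : Fin n → K) : ∀ v ∈ U, Du R σ a v ∈ U := by
  classical
  rw [← Finset.univ_sum_single a]
  induction (Finset.univ : Finset (Fin n)) using Finset.induction_on with
  | empty => intro v hv; rw [Finset.sum_empty, Du_zero]; exact hv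
  | insert i s hi ih =>
    intro v hv
    rw [Finset.sum_insert hi, Du_add, Module.End.mul_apply, Du, U_single]
    exact h i _ _ (ih v hv)

theorem proj_compat {c : Fin n → K} {v : V} (h : proj (Du R σ) (chi c) v ≠ 0) {i : Fin n} {y : K}
    (hy : ∀ a, σ (W (R.S i) a) v = phi K (y * a) • v) : c i = y := by
  refine phi_inj fun a => ?_
  have h1 : σ (W (R.S i) a) (proj (Du R σ) (chi c) v) = phi K (c i * a) • proj (Du R σ) (chi c) v :=
    (mem_E R σ).1 (proj_mem_eig (Du_add R σ) _ v) i a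
  have h2 : σ (W (R.S i) a) (proj (Du R σ) (chi c) v) = phi K (y * a) • proj (Du R σ) (chi c) v := by
    unfold proj
    rw [map_sum, Finset.smul_sum]
    refine Finset.sum_congr rfl fun b _ => ?_
    rw [map_smul, ← U_single (R := R) i a]
    show chi c (-b) • (Du R σ (Pi.single i a) * Du R σ b) v = _
    rw [← Du_add, add_comm, Du_add, Module.End.mul_apply,
      show Du R σ (Pi.single i a) v = phi K (y * a) • v by rw [Du, U_single]; exact hy a, map_smul, smul_comm]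
  exact smul_left_injective ℂ h (h1.symm.trans h2)

theorem component (hU : ∀ i, Inv σ U (R.S i)) {v : V} (hv : v ∈ U) (hv0 : v ≠ 0) :
    ∃ c, Good R σ U 1 c ∧ ∀ i y, (∀ a, σ (W (R.S i) a) v = phi K (y * a) • v) → c i = y := by
  classical
  obtain ⟨ψ, hψ⟩ : ∃ ψ, proj (Du R σ) ψ v ≠ 0 := by
    by_contra! h
    have := sum_proj (Du_zero R σ) v
    simp only [h, Finset.sum_const_zero] at this
    exact (smul_ne_zero (Nat.cast_ne_zero.2 Fintype.card_ne_zero) hv0) this.symm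
  obtain ⟨c, rfl⟩ := chi_bijective.2 ψ
  exact ⟨c, good_of_mem (proj_mem_of_inv U (Du_inv hU) _ hv) (proj_mem_eig (Du_add R σ) _ v) hψ,
    fun i y hy => proj_compat hψ hy⟩

/-- the sum of the cells of the first level -/
def S1 (q : ℕ) : ℕ := q ^ 4 * ((q - 1) * (q ^ 6 + q ^ 5 + q ^ 4 + q ^ 2 + q + 1))

section TopLevel

variable {T : Top} (hT : T.ok = true)
include hT

theorem all_pure {m : ℕ} (hm : 1 ≤ m) {t : K} (ht : t ≠ 0) (hc : Good T.R σ ⊤ m (Pi.single 0 t)) :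
    ∀ c ∈ T.cells, ∀ u : K, u ≠ 0 → fr K u = u → Good T.R σ ⊤ m (Pi.single c.1 u) := by
  simp only [Top.ok, Bool.and_eq_true, decide_eq_true_eq] at hT
  obtain ⟨⟨⟨⟨⟨⟨⟨⟨⟨⟨⟨⟨⟨⟨⟨⟨⟨⟨⟨-, -⟩, -⟩, -⟩, -⟩, -⟩, -⟩, -⟩, h01⟩, h10⟩, h02⟩, h05⟩, h06⟩, h17⟩, -⟩, -⟩, -⟩, -⟩,
    -⟩, -⟩ := hT
  have g1 : ∀ u : K, u ≠ 0 → fr K u = u → Good T.R σ ⊤ m (Pi.single 1 u) := fun u hu huf =>
    link hm h01 (inv_top _) (inv_top _) ht hu huf hc
  have g0 : ∀ u : K, u ≠ 0 → fr K u = u → Good T.R σ ⊤ m (Pi.single 0 u) := fun u hu huf =>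
    link hm h10 (inv_top _) (inv_top _) one_ne_zero hu huf (g1 1 one_ne_zero (map_one _))
  intro c hc' u hu huf
  simp only [Top.cells, List.mem_cons, List.not_mem_nil, or_false] at hc'
  rcases hc' with rfl | rfl | rfl | rfl | rfl | rfl
  · exact g0 u hu huf
  · exact g1 u hu huf
  · exact link hm h02 (inv_top _) (inv_top _) ht hu huf hc
  · exact link hm h05 (inv_top _) (inv_top _) ht hu huf hc
  · exact link hm h06 (inv_top _) (inv_top _) ht hu huf hc
  · exact link hm h17 (inv_top _) (inv_top _) one_ne_zero hu huf (g1 1 one_ne_zero (map_one _))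

theorem top_count {k : ℕ} (hk : 1 ≤ k)
    (h : ∀ c ∈ T.cells, ∀ u : K, u ≠ 0 → fr K u = u → Good T.R σ ⊤ (k * q ^ 4) (Pi.single c.1 u)) :
    finrank ℂ ↥(Esp T.R σ (0 : Fin 8 → K)) + k * S1 q ≤ finrank ℂ V := by
  simp only [Top.ok, Bool.and_eq_true, decide_eq_true_eq] at hT
  obtain ⟨⟨⟨⟨⟨⟨⟨⟨⟨⟨⟨⟨⟨⟨⟨⟨⟨⟨⟨hcells, -⟩, -⟩, w0⟩, w1⟩, w2⟩, w5⟩, w6⟩, -⟩, -⟩, -⟩, -⟩, -⟩, -⟩, -⟩, -⟩, -⟩, -⟩,
    -⟩, -⟩ := hT
  have hq := TwistedField.one_lt_base (Sq.card (K := K))
  have hm : 1 ≤ k * q ^ 4 := Nat.one_le_iff_ne_zero.2 (Nat.mul_ne_zero (by omega) (pow_ne_zero _ (by omega)))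
  have hc := count (U := (⊤ : Submodule ℂ V)) hm hcells (fun _ _ _ _ => inv_top _)
    (fun c hc u hu huf => h c hc u hu huf)
  rw [top_inf_eq, finrank_top] at hc
  refine le_trans (le_of_eq ?_) hc
  simp only [Top.cells, List.map_cons, List.map_nil, List.sum_cons, List.sum_nil, w0, w1, w2, w5, w6,
    show wsum T.R ([] : List (ℕ × Fin 8)) = 0 from rfl, S1]
  ring

theorem block_good {N : List (Fin 8)} {ps : List (ℕ × ℕ × Fin 8)} {c : Fin 8 → K}
    (hps : psOK T.R N ps = true) (hN : ∀ k ∈ N, c k = 0) (hne : ∀ p ∈ ps, c p.2.2 ≠ 0)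
    (hc : Good T.R σ ⊤ 1 c) :
    Good T.R σ ⊤ (q ^ (2 * ps.length)) c ∧
      q ^ (2 * ps.length) * finrank ℂ ↥(Esp T.R σ c ⊓ fixS σ (ps.map Prod.fst)) ≤ finrank ℂ ↥(Esp T.R σ c) ∧
      Esp T.R σ c ⊓ fixS σ (ps.map Prod.fst) ≠ ⊥ := by
  have hcen : ∀ (l : List (ℕ × ℕ × Fin 8)), psOK T.R N l = true →
      ∀ p ∈ l, cenOK T.R p.1 = true ∧ cenOK T.R p.2.1 = true := by
    intro l
    induction l with
    | nil => simp
    | cons a l ih =>
      intro h p hp
      simp only [psOK, Bool.and_eq_true] at h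
      rcases List.mem_cons.1 hp with rfl | hp
      · exact ⟨h.1.1.1.1, h.1.1.1.2⟩
      · exact ih h.2 p hp
  obtain ⟨h1, h2⟩ := block (σ := σ) hN ps hps hne (Esp T.R σ c) le_rfl fun p hp =>
    ⟨fun t v hv => cen_mem (hcen ps hps p hp).1 t hv, fun t v hv => cen_mem (hcen ps hps p hp).2 t hv⟩
  obtain ⟨v, -, hv, hv0⟩ := good_vec le_rfl hc
  have h3 := h2 ((Submodule.ne_bot_iff _).2 ⟨v, hv, hv0⟩)
  refine ⟨?_, h1, h3⟩
  have h4 : 1 ≤ finrank ℂ ↥(Esp T.R σ c ⊓ fixS σ (ps.map Prod.fst)) :=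
    Nat.one_le_iff_ne_zero.2 fun e => h3 (Submodule.finrank_eq_zero.1 e)
  show _ ≤ finrank ℂ ↥((⊤ : Submodule ℂ V) ⊓ Esp T.R σ c)
  rw [top_inf_eq]
  exact le_trans (Nat.le_mul_of_pos_right _ h4) h1

theorem top_main (hV : finrank ℂ V < q ^ 12) {a : K} {v : V} (hv : σ (W (T.R.S 0) a) v ≠ v) :
    ∀ c ∈ T.cells, ∀ u : K, u ≠ 0 → fr K u = u → Good T.R σ ⊤ (q ^ 4) (Pi.single c.1 u) := by
  classical
  have hT' := hT
  simp only [Top.ok, Bool.and_eq_true, decide_eq_true_eq, List.all_eq_true, List.any_eq_true,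
    Bool.or_eq_true] at hT'
  obtain ⟨⟨⟨⟨⟨⟨⟨⟨⟨⟨⟨⟨⟨⟨⟨⟨⟨⟨⟨-, hch⟩, hcov⟩, w0⟩, -⟩, -⟩, -⟩, -⟩, -⟩, -⟩, -⟩, -⟩, -⟩, -⟩, hP1⟩, len1⟩, i1⟩, hP2⟩,
    len2⟩, i2⟩ := hT'
  have hq := TwistedField.one_lt_base (Sq.card (K := K))
  obtain ⟨c, hc, hc0⟩ := exists_char_at (R := T.R) (σ := σ) (i := 0) (fun _ w _ => Submodule.mem_top (x := _))
    (Submodule.mem_top : v ∈ (⊤ : Submodule ℂ V)) hv
  obtain ⟨c', hc', -, hjs, h0'⟩ := kill le_rfl T.l0 [] hch (fun p _ => inv_top _) c hc hc0 (by simp)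
  have hval := good_valid le_rfl hc'
  have hmid : ∀ k ∈ mid, c' k = 0 := by
    intro k hk
    obtain ⟨p, hp, e | e⟩ := hcov k hk
    · rw [← e]; exact hjs p hp
    · rw [← e]; exact hval.zero_p (hjs p hp)
  have h00 : c' 0 ≠ 0 := h0' ▸ hc0
  by_cases h7 : c' 7 = 0
  · have hsingle : c' = Pi.single 0 (c' 0) := by
      funext k
      by_cases hk : k = 0
      · subst hk; simp
      · rw [Pi.single_eq_of_ne hk]
        have : k ∈ mid ∨ k = 7 := by revert k; decide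
        rcases this with h | rfl
        · exact hmid k h
        · exact h7
    rw [hsingle] at hc'
    obtain ⟨hg, -⟩ := block_good hT (ps := T.P1) hP1 (c := Pi.single 0 (c' 0))
      (fun k hk => by
        simp only [co1, List.mem_filter, decide_eq_true_eq] at hk
        exact Pi.single_eq_of_ne hk.2 _)
      (fun p hp => by rw [i1 p hp, Pi.single_eq_same]; exact h00) hc'
    rw [len1] at hg
    exact all_pure hT (Nat.one_le_pow _ _ (by omega)) h00 hg
  · exfalso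
    obtain ⟨hg, -⟩ := block_good hT (ps := T.P2) hP2 hmid
      (fun p hp => by rcases i2 p hp with e | e <;> rw [e] <;> assumption) hc'
    rw [len2] at hg
    obtain ⟨B, hB, hcard⟩ := spread (Nat.one_le_pow (2 * 3) q (by omega)) h00 T.l0 [] hch (fun p _ => inv_top _) {c'}
      (fun d hd => by
        obtain rfl := Finset.mem_singleton.1 hd
        exact ⟨hg, by simp, hjs, rfl⟩)
    have hle := le_dim B (fun d hd => (hB d hd).1) (fun hd => h00 ((hB 0 hd).2.2.symm.trans rfl))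
    rw [Finset.card_singleton, mul_one, w0] at hcard
    rw [finrank_top] at hle
    have : q ^ 12 ≤ q ^ (2 * 3) * B.card := by
      rw [show q ^ 12 = q ^ (2 * 3) * q ^ 6 by ring]
      exact Nat.mul_le_mul_left _ hcard
    exact absurd (le_trans (le_trans this (Nat.le_add_left _ _)) hle) (not_le.2 hV)

end TopLevel

theorem aux_vec {A : Aux} (hA : A.ok = true) (hV : finrank ℂ V < q ^ 12) (hV2 : finrank ℂ V < 2 * S1 q)
    {a : K} {v : V} (hv : σ (W (A.T.R.S 0) a) v ≠ v) {t : K} (ht : t ≠ 0) (htf : fr K t = t) :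
    ∃ w : V, w ≠ 0 ∧ (∀ u, σ (W (A.T.R.S 0) u) w = phi K (t * u) • w) ∧
      ∀ r ∈ A.goal, ∀ z : K, σ (W r z) w = w := by
  simp only [Aux.ok, Bool.and_eq_true] at hA
  obtain ⟨hT, hders⟩ := hA
  have hT' := hT
  simp only [Top.ok, Bool.and_eq_true, decide_eq_true_eq, List.all_eq_true] at hT'
  obtain ⟨⟨⟨⟨⟨⟨-, hP1⟩, len1⟩, i1⟩, -⟩, -⟩, -⟩ := hT'
  have hq := TwistedField.one_lt_base (Sq.card (K := K))
  have hg : Good A.T.R σ ⊤ (q ^ 4) (Pi.single 0 t) :=
    top_main hT hV hv (0, A.T.l0) (List.mem_cons_self ..) t ht htf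
  have hzero : ∀ k ∈ co1 (0 : Fin 8), (Pi.single 0 t : Fin 8 → K) k = 0 := fun k hk => by
    simp only [co1, List.mem_filter, decide_eq_true_eq] at hk
    exact Pi.single_eq_of_ne hk.2 _
  obtain ⟨-, hle, hne⟩ := block_good (σ := σ) hT (ps := A.T.P1) hP1 hzero
    (fun p hp => by rw [i1 p hp, Pi.single_eq_same]; exact ht)
    (le_trans (Nat.one_le_pow _ _ (by omega)) hg)
  rw [len1] at hle
  have hlt : finrank ℂ ↥(Esp A.T.R σ (Pi.single 0 t)) < 2 * q ^ 4 := by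
    by_contra! hge
    have h2 : Good A.T.R σ ⊤ (2 * q ^ 4) (Pi.single 0 t) := by
      show _ ≤ finrank ℂ ↥((⊤ : Submodule ℂ V) ⊓ Esp A.T.R σ (Pi.single 0 t))
      rw [top_inf_eq]
      exact hge
    have := top_count hT (k := 2) (by norm_num) (all_pure hT (m := 2 * q ^ 4)
      (Nat.one_le_iff_ne_zero.2 (Nat.mul_ne_zero (by norm_num) (pow_ne_zero _ (by omega)))) ht h2)
    omega
  set L := Esp A.T.R σ (Pi.single 0 t) ⊓ fixS σ (A.T.P1.map Prod.fst)
  have hdim : finrank ℂ ↥L ≤ 1 := by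
    by_contra! h2
    have : q ^ (2 * 2) * 2 ≤ q ^ (2 * 2) * finrank ℂ ↥L := Nat.mul_le_mul_left _ h2
    rw [show 2 * 2 = 4 from rfl] at *
    omega
  obtain ⟨w, hw, hw0⟩ := (Submodule.ne_bot_iff _).1 hne
  refine ⟨w, hw0, fun u => ?_, fun r hr z => ?_⟩
  · rw [(mem_E A.T.R σ).1 hw.1, Pi.single_eq_same]
  · refine derive hdim hw.1 hw.2 hw0 A.ders _ A.goal hders (fun f hf s => ?_) r hr z
    rcases List.mem_append.1 hf with hf | hf
    · obtain ⟨k, hk, rfl⟩ := List.mem_map.1 hf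
      rw [(mem_E A.T.R σ).1 hw.1, hzero k hk, zero_mul, AddChar.map_zero_eq_one, one_smul]
    · exact hw.2 f hf s

theorem Top.head_fix : rh (t8.S 0) = t8.S 0 ∧ rh (A2.T.R.S 0) = A2.T.R.S 0 ∧ rh (A3.T.R.S 0) = A3.T.R.S 0 ∧
    rh (A3b.T.R.S 0) = A3b.T.R.S 0 := by decide +kernel

theorem W_ne_one {r : ℕ} (hr : r < 72) (hfix : rh r = r) : (W r (z1 K) : GG K) ≠ 1 := by
  intro h
  have h1 : wv r (z1 K) = 1 := by rw [← W_coe hr, h]; rfl
  unfold wv at h1
  rw [hfix, (sym_facts r hr).2.2.2.2.1 hfix, Int.cast_one, one_mul, Cfsg.Agent.ChevalleyCore.xg_mul, z1_spec] at h1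
  exact one_ne_zero ((ChevBruhatInstance.xg_injective TwistedE6.c6 (show r < chevE6.nroots from hr)
    (show r < chevE6.nroots from hr) one_ne_zero
    (h1.trans (Cfsg.Agent.ChevalleyCore.xg_zero TwistedE6.c6 r).symm)).2)

/-- the bound up to two -/
theorem bound (hfaith : ∀ g : GG K, g ≠ 1 → ∃ v, σ g v ≠ v) : TT q ≤ finrank ℂ V + 2 := by
  classical
  have hq := TwistedField.one_lt_base (Sq.card (K := K))
  obtain ⟨p, hp⟩ : ∃ p, q = p + 2 := ⟨q - 2, by omega⟩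
  set L2 := (q - 1) * (q ^ 4 + q ^ 3 + q + 1) with hL2
  set L3 := (q - 1) * (q ^ 2 + 1) with hL3
  have hsum : TT q = S1 q + L2 + L3 + 2 := by
    have e6 : q ^ 3 ≤ q ^ 6 := Nat.pow_le_pow_right (by omega) (by norm_num)
    rw [hL2, hL3, S1, TT]
    zify [e6, show 1 ≤ q by omega]
    ring
  have hL23 : L3 + 2 ≤ L2 := by
    have h1 : q ^ 2 + 1 + 2 ≤ q ^ 4 + q ^ 3 + q + 1 := by
      have := Nat.pow_le_pow_right (show 1 ≤ q by omega) (show 2 ≤ 4 by norm_num)
      omega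
    have h2 : (q - 1) * (q ^ 2 + 1 + 2) ≤ L2 := Nat.mul_le_mul_left _ h1
    have h3 : 2 ≤ (q - 1) * 2 := Nat.le_mul_of_pos_left _ (by omega)
    rw [Nat.mul_add] at h2
    omega
  have h12 : TT q ≤ q ^ 12 := by
    have e6 : q ^ 6 - q ^ 3 + 1 ≤ q ^ 6 := by
      have h3 : 1 ≤ q ^ 3 := Nat.one_le_pow _ _ (by omega)
      have h4 : q ^ 3 ≤ q ^ 6 := Nat.pow_le_pow_right (by omega) (by norm_num)
      omega
    have e4 : q ^ 4 + 1 ≤ q ^ 5 := by
      have : 2 * q ^ 4 ≤ q ^ 5 := by rw [pow_succ' q 4]; exact Nat.mul_le_mul_right _ hq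
      have : 1 ≤ q ^ 4 := Nat.one_le_pow _ _ (by omega)
      omega
    calc TT q ≤ q * q ^ 6 * q ^ 5 := Nat.mul_le_mul (Nat.mul_le_mul_left _ e6) e4
      _ = q ^ 12 := by ring
  have hS1 : TT q ≤ 2 * S1 q := by
    have hS : L2 + L3 + 2 ≤ S1 q := by
      have h1 : 4 * (q ^ 4 + q ^ 3 + q + 1) ≤ q ^ 4 * (q ^ 6 + q ^ 5 + q ^ 4 + q ^ 2 + q + 1) := by
        refine Nat.mul_le_mul ?_ ?_
        · exact le_trans (by norm_num) (Nat.pow_le_pow_left hq 4)
        · have : q ^ 3 ≤ q ^ 5 := Nat.pow_le_pow_right (by omega) (by norm_num)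
          omega
      have h2 : (q - 1) * (4 * (q ^ 4 + q ^ 3 + q + 1)) ≤ S1 q := by
        rw [S1, mul_left_comm (q ^ 4)]
        exact Nat.mul_le_mul_left _ h1
      have h3 : 4 * L2 ≤ S1 q := le_trans (le_of_eq (by rw [hL2]; ring)) h2
      omega
    omega
  by_contra! hcon
  have hV : finrank ℂ V < q ^ 12 := by omega
  have hV2 : finrank ℂ V < 2 * S1 q := by omega
  have hmove : ∀ r, r < 72 → rh r = r → ∃ a v, σ (W r a) v ≠ v := fun r hr hfx =>
    ⟨z1 K, hfaith _ (W_ne_one hr hfx)⟩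
  obtain ⟨f8, f2, f3, f3b⟩ := Top.head_fix
  have low := low_ok
  simp only [lowOK, Bool.and_eq_true, List.all_eq_true] at low
  obtain ⟨⟨⟨⟨⟨⟨⟨⟨⟨⟨⟨⟨⟨⟨⟨hc6, hc4⟩, k01⟩, k10⟩, k04⟩, k15⟩, hkill⟩, hin8⟩, h642⟩, hst⟩, h644⟩, h639⟩, hS6⟩, k51⟩,
    hcomm3⟩, hcomm3b⟩ := low
  -- the first level
  obtain ⟨a, v, hv⟩ := hmove _ (T8.R.spec 0).1 f8
  have hW : finrank ℂ ↥(Esp t8 σ (0 : Fin 8 → K)) + 1 * S1 q ≤ finrank ℂ V :=
    top_count T8_ok (k := 1) le_rfl (by simpa using top_main T8_ok hV hv)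
  set W1 := Esp t8 σ (0 : Fin 8 → K) with hW1
  have i8 : ∀ g, okMv t8 g = true → Inv σ W1 g := fun g hg => inv_Esp0 hg
  have iS6 : ∀ i, Inv σ W1 (t6.S i) := fun i => i8 _ (hS6 _ (by revert i; decide))
  have i8' : ∀ g ∈ [39, 32, 43, 44, 27, 42, 40, 29, 34, 37], Inv σ W1 g := fun g hg => i8 g (hin8 g hg)
  -- the second level
  have pure6 : ∀ m : ℕ, 1 ≤ m → ∀ t : K, t ≠ 0 → Good t6 σ W1 m (Pi.single 0 t) →
      ∀ c ∈ cells6, ∀ u : K, u ≠ 0 → fr K u = u → Good t6 σ W1 m (Pi.single c.1 u) := by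
    intro m hm t ht hc
    have g1 : ∀ u : K, u ≠ 0 → fr K u = u → Good t6 σ W1 m (Pi.single 1 u) := fun u hu huf =>
      link hm k01 (i8' _ (by simp)) (i8' _ (by simp)) ht hu huf hc
    intro c hc' u hu huf
    simp only [cells6, List.mem_cons, List.not_mem_nil, or_false] at hc'
    rcases hc' with rfl | rfl | rfl | rfl
    · exact link hm k10 (i8' _ (by simp)) (i8' _ (by simp)) one_ne_zero hu huf (g1 1 one_ne_zero (map_one _))
    · exact g1 u hu huf
    · exact link hm k04 (i8' _ (by simp)) (i8' _ (by simp)) ht hu huf hc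
    · exact link hm k15 (i8' _ (by simp)) (i8' _ (by simp)) one_ne_zero hu huf (g1 1 one_ne_zero (map_one _))
  have hinv6 : ∀ c ∈ cells6, ∀ p ∈ c.2, Inv σ W1 p.1 := by
    intro c hc p hp
    simp only [cells6, List.mem_cons, List.not_mem_nil, or_false] at hc
    apply i8'
    rcases hc with rfl | rfl | rfl | rfl <;> simp at hp <;> (try rcases hp with rfl | rfl | rfl) <;>
      simp_all
  have count6 : ∀ m : ℕ, 1 ≤ m → ∀ t : K, t ≠ 0 → Good t6 σ W1 m (Pi.single 0 t) →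
      finrank ℂ ↥(W1 ⊓ Esp t6 σ 0) + m * L2 ≤ finrank ℂ W1 := by
    intro m hm t ht hc
    refine le_trans (le_of_eq ?_) (count hm hc6 hinv6 (pure6 m hm t ht hc))
    rw [hL2]
    simp only [cells6, List.map_cons, List.map_nil, List.sum_cons, List.sum_nil,
      show wsum t6 [(39, 1), (43, 2), (44, 4)] = 4 from rfl, show wsum t6 [(42, 2), (44, 5)] = 3 from rfl,
      show wsum t6 [(39, 5)] = 1 from rfl, show wsum t6 ([] : List (ℕ × Fin 6)) = 0 from rfl]
    ring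
  obtain ⟨a2, v2, hv2⟩ := hmove _ (A2.T.R.spec 0).1 f2
  obtain ⟨w, hw0, hwb, hwfix⟩ := aux_vec A2_ok hV hV2 hv2 (t := (1 : K)) one_ne_zero (map_one _)
  have hwW1 : w ∈ W1 := mem_E0.2 fun i z => hwfix _ (by revert i; decide) z
  obtain ⟨c, hc, hcomp⟩ := component (R := t6) iS6 hwW1 hw0
  have hc0 : c 0 = 1 := hcomp 0 1 hwb
  have hcz : ∀ i : Fin 6, i ≠ 0 → i ≠ 4 → c i = 0 := fun i h0 h4 => hcomp i 0 fun z => by
    rw [zero_mul, AddChar.map_zero_eq_one, one_smul]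
    exact hwfix _ (by revert i; decide) z
  have hp6 : Good t6 σ W1 1 (Pi.single 0 (1 : K)) := by
    obtain ⟨o, hj, hP⟩ := step (y := (0 : K)) hkill (good_valid le_rfl hc) (by rw [hc0]; exact one_ne_zero)
      (fun l hl hne => by
        simp only [co2, List.mem_filter, decide_eq_true_eq] at hl
        exact hcz l hl.2.1 hl.2.2) (fun _ => map_zero _)
    convert good_mv o (i8' _ (by simp)) (stepT t6 44 0 4 c 0) hc using 1
    funext k
    by_cases h4 : k = 4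
    · subst h4
      rw [hj, Pi.single_eq_of_ne (by decide)]
    · rw [hP k (Or.inl (by simp [co1, h4]))]
      by_cases h0 : k = 0
      · subst h0; rw [hc0, Pi.single_eq_same]
      · rw [hcz k h0 h4, Pi.single_eq_of_ne h0]
  have hW6 := count6 1 le_rfl 1 one_ne_zero hp6
  -- the lines at the bottom of the second level
  have hline : ∀ d : K, d ≠ 0 → finrank ℂ ↥(W1 ⊓ Esp t6 σ (Pi.single 5 d)) ≤ 1 := by
    intro d hd
    by_contra! h2
    have g2 : Good t6 σ W1 2 (Pi.single 5 d) := h2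
    have g21 : Good t6 σ W1 2 (Pi.single 1 (1 : K)) :=
      link (by norm_num) k51 (i8' _ (by simp)) (i8' _ (by simp)) hd one_ne_zero (map_one _) g2
    have := count6 2 (by norm_num) 1 one_ne_zero
      (link (by norm_num) k10 (i8' _ (by simp)) (i8' _ (by simp)) one_ne_zero one_ne_zero (map_one _) g21)
    omega
  set W2 := W1 ⊓ Esp t6 σ (0 : Fin 6 → K) with hW2
  -- the vectors of the third level
  have third : ∀ (b g h : ℕ) (A : Aux) (j : Fin 4), A.ok = true → A.T.R.S 0 = b → rh b = b → t4.S j = b →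
      okMv t6 b = true → Inv σ W1 b → Inv σ W1 g → Inv σ W1 h →
      (g ∈ [37, 43, 29] ∧ h ∈ [37, 43, 29]) → termOK g h b = true →
      (∀ i : Fin 8, t8.S i ∈ A.goal) → (∀ i : Fin 6, i ≠ 5 → t6.S i ∈ A.goal) →
      (∀ i : Fin 4, i ≠ j → t4.S i ∈ A.goal) →
      ∀ t : K, t ≠ 0 → fr K t = t → Good t4 σ W2 1 (Pi.single j t) := by
    intro b g h A j hA hb hfb hj h6b hib hig hih hgh hterm G8 G6 G4 t ht htf
    obtain ⟨a, v, hv⟩ := hmove b (hb ▸ (A.T.R.spec 0).1) hfb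
    obtain ⟨x, hx0, hxb, hxfix⟩ := aux_vec hA hV hV2 (a := a) (v := v) (by rw [hb]; exact hv) ht htf
    rw [hb] at hxb
    have hxW1 : x ∈ W1 := mem_E0.2 fun i z => hxfix _ (G8 i) z
    obtain ⟨s, hs⟩ := phi_ne (K := K)
    set u := s / t with hu
    have hphi : phi K (t * u) ≠ 1 := by rwa [hu, mul_div_cancel₀ _ ht]
    have key : ∀ ψ : AddChar (Fin 6 → K) ℂ,
        σ (W b u) (proj (Du t6 σ) ψ x) - proj (Du t6 σ) ψ x ∈ W2 := by
      intro ψ
      obtain ⟨c, rfl⟩ := chi_bijective.2 ψ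
      set pr := proj (Du t6 σ) (chi c) x
      by_cases hp0 : pr = 0
      · rw [hp0, map_zero, sub_zero]; exact W2.zero_mem
      have hp1 : pr ∈ W1 := proj_mem_of_inv W1 (Du_inv iS6) _ hxW1
      have hpE : pr ∈ Esp t6 σ c := proj_mem_eig (Du_add t6 σ) _ x
      have hcs : c = Pi.single 5 (c 5) := by
        funext i
        by_cases h5 : i = 5
        · subst h5; simp
        · rw [Pi.single_eq_of_ne h5]
          exact proj_compat hp0 fun z => by
            rw [zero_mul, AddChar.map_zero_eq_one, one_smul]; exact hxfix _ (G6 i h5) z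
      by_cases h5 : c 5 = 0
      · rw [h5, Pi.single_zero] at hcs
        have hp2 : pr ∈ W2 := ⟨hp1, hcs ▸ hpE⟩
        exact W2.sub_mem (inv_inf hib (inv_Esp0 h6b) u pr hp2) hp2
      · rw [hcs] at hpE
        have hne : (⟨pr, hp1, hpE⟩ : ↥(W1 ⊓ Esp t6 σ (Pi.single 5 (c 5)))) ≠ 0 :=
          fun e => hp0 (congrArg Subtype.val e)
        haveI : Nontrivial ↥(W1 ⊓ Esp t6 σ (Pi.single 5 (c 5))) := ⟨⟨_, _, hne⟩⟩
        have h1 := le_antisymm (hline (c 5) h5) Module.finrank_pos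
        have hscal : ∀ g' ∈ [37, 43, 29], Inv σ W1 g' → ∀ z : K, ∃ l : ℂ, σ (W g' z) pr = l • pr := by
          intro g' hg' hi' z
          obtain ⟨hok, hfree⟩ := hst g' hg'
          have hz : ∀ l ∈ co1 (5 : Fin 6), (Pi.single 5 (c 5) : Fin 6 → K) l = 0 := fun l hl => by
            simp only [co1, List.mem_filter, decide_eq_true_eq] at hl
            exact Pi.single_eq_of_ne hl.2 _
          have hm := mv_mem hok z hpE
          have efirst : m1 t6 g' (-z) (Pi.single 5 (c 5)) = Pi.single 5 (c 5) :=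
            funext fun k => m1_free (hfree k (List.mem_finRange k)).1 hz _
          have efix : mv t6 g' z (Pi.single 5 (c 5)) = Pi.single 5 (c 5) := by
            rw [mv, efirst]
            exact funext fun k => m1_free (hfree k (List.mem_finRange k)).2 hz _
          rw [efix] at hm
          obtain ⟨l, hl⟩ := (finrank_eq_one_iff_of_nonzero' _ hne).1 h1 ⟨_, hi' z pr hp1, hm⟩
          exact ⟨l, (congrArg Subtype.val hl).symm⟩
        rw [comm_fix hterm (hscal g hgh.1 hig) (hscal h hgh.2 hih) u, sub_self]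
        exact W2.zero_mem
    have hx2 : x ∈ W2 := by
      have hs := sum_proj (Du_zero t6 σ) x
      have h1 : σ (W b u) ((Fintype.card (Fin 6 → K) : ℂ) • x) - (Fintype.card (Fin 6 → K) : ℂ) • x ∈ W2 := by
        rw [← hs, map_sum, ← Finset.sum_sub_distrib]
        exact W2.sum_mem fun ψ _ => key ψ
      rw [map_smul, hxb, ← smul_sub, show phi K (t * u) • x - x = (phi K (t * u) - 1) • x by
        rw [sub_smul, one_smul], smul_smul] at h1
      exact (W2.smul_mem_iff (mul_ne_zero (Nat.cast_ne_zero.2 Fintype.card_ne_zero) (sub_ne_zero.2 hphi))).1 h1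
    refine good_of_mem hx2 ((mem_E t4 σ).2 fun i z => ?_) hx0
    by_cases hi : i = j
    · subst hi; rw [hj, hxb, Pi.single_eq_same]
    · rw [Pi.single_eq_of_ne hi, zero_mul, AddChar.map_zero_eq_one, one_smul]
      exact hxfix _ (G4 i hi) z
  have hW4 : L3 ≤ finrank ℂ ↥W2 := by
    have hc := count (U := W2) le_rfl hc4 (m := 1) (R := t4) (σ := σ)
      (fun c hc p hp => by
        simp only [cells4, List.mem_cons, List.not_mem_nil, or_false] at hc
        rcases hc with rfl | rfl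
        · simp only [List.mem_singleton] at hp
          subst hp
          exact inv_inf (i8' _ (by simp)) (inv_Esp0 h642)
        · simp at hp)
      (fun c hc u hu huf => by
        simp only [cells4, List.mem_cons, List.not_mem_nil, or_false] at hc
        rcases hc with rfl | rfl
        · exact third 44 37 43 A3 0 A3_ok rfl (by decide +kernel) rfl h644 (i8' _ (by simp)) (i8' _ (by simp))
            (i8' _ (by simp)) (by simp) hcomm3 (by decide) (by decide) (by decide) u hu huf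
        · exact third 39 29 43 A3b 3 A3b_ok rfl (by decide +kernel) rfl h639 (i8' _ (by simp)) (i8' _ (by simp))
            (i8' _ (by simp)) (by simp) hcomm3b (by decide) (by decide) (by decide) u hu huf)
    refine le_trans ?_ (le_trans (Nat.le_add_left _ _) hc)
    rw [hL3]
    simp [cells4, wsum, wt, t4]
  omega

end Cfsg.Agent.TwistedE6MinDeg8
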