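import Cfsg.Agent.Lib.TwistedE6MinDeg8Root
import Cfsg.Agent.Lib.SUMinDegree32Eigen

/-!
Characters of abelian families of root elements of `²E₆(q)` in complex representations: moves, counting, blocks of
paired root elements, stabilisers of a line.
-/

set_option autoImplicit false
set_option linter.unusedSectionVars false
set_option linter.unusedVariables false
set_option linter.unusedSimpArgs false
set_option maxRecDepth 20000

namespace Cfsg.Agent.TwistedE6MinDeg8

open Cfsg.Lie Cfsg.Agent.SUMinDegree32Eigen Module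

variable {K : Type*} [Field K] [Fintype K] {q : ℕ} [Sq K q]

/-! ### the field -/

theorem card_fr_fix : Nat.card {t : K // fr K t = t} = q := by
  simpa [fr_def] using TwistedField.card_fix (Sq.card (K := K))

variable (K) in
theorem exists_trace : ∃ z : K, z + fr K z = 1 := by
  obtain ⟨w, hw⟩ : ∃ w : K, w + fr K w ≠ 0 := by
    by_contra! h
    have h1 : (1 : K) + 1 = 0 := by simpa using h 1
    have hall : ∀ z : K, fr K z = z := fun z => by linear_combination h z - z * h1
    have hc := card_fr_fix (K := K)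
    rw [Nat.card_congr (Equiv.subtypeUnivEquiv hall), Nat.card_eq_fintype_card, Sq.card (K := K), pow_two] at hc
    have hq := TwistedField.one_lt_base (Sq.card (K := K))
    nlinarith
  refine ⟨w / (w + fr K w), ?_⟩
  rw [map_div₀, map_add, fr_fr, add_comm (fr K w) w, ← add_div, div_self hw]

variable (K) in
/-- an element of trace one -/
noncomputable def z1 : K := (exists_trace K).choose

theorem z1_spec : z1 K + fr K (z1 K) = 1 := (exists_trace K).choose_spec

variable (K) in
theorem exists_phi : ∃ ψ : AddChar K ℂ, (∀ a, ψ (fr K a) = ψ a) ∧ ∃ a, ψ a ≠ 1 := by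
  obtain ⟨l, hl⟩ := AddChar.exists_apply_ne_zero.2 (one_ne_zero : (1 : K) ≠ 0)
  refine ⟨⟨fun a => l (a + fr K a), by simp, fun a b => ?_⟩, fun a => ?_, z1 K, ?_⟩
  · show l (a + b + fr K (a + b)) = l (a + fr K a) * l (b + fr K b)
    rw [← AddChar.map_add_eq_mul, map_add (fr K) a b]
    congr 1
    abel
  · show l (fr K a + fr K (fr K a)) = l (a + fr K a)
    rw [fr_fr, add_comm]
  · show l (z1 K + fr K (z1 K)) ≠ 1
    rw [z1_spec]
    exact hl

variable (K) in
/-- a character invariant under the field automorphism -/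
noncomputable def phi : AddChar K ℂ := (exists_phi K).choose

theorem phi_fr (a : K) : phi K (fr K a) = phi K a := (exists_phi K).choose_spec.1 a

theorem phi_ne : ∃ a, phi K a ≠ 1 := (exists_phi K).choose_spec.2

theorem phi_mul_fr (x a : K) : phi K (x * fr K a) = phi K (fr K x * a) := by
  rw [← phi_fr (x * fr K a), map_mul, fr_fr]

theorem phi_inj {c d : K} (h : ∀ a, phi K (c * a) = phi K (d * a)) : c = d := by
  by_contra hne
  obtain ⟨s, hs⟩ := phi_ne (K := K)
  have h1 := h (s / (c - d))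
  rw [show c * (s / (c - d)) = d * (s / (c - d)) + s by field_simp [sub_ne_zero.2 hne]; ring,
    AddChar.map_add_eq_mul] at h1
  exact hs ((mul_eq_left₀ (AddChar.val_isUnit _ _).ne_zero).1 h1)

variable {n : ℕ}

/-- the character of a covector -/
noncomputable def chi (c : Fin n → K) : AddChar (Fin n → K) ℂ where
  toFun v := phi K (c ⬝ᵥ v)
  map_zero_eq_one' := by rw [dotProduct_zero, AddChar.map_zero_eq_one]
  map_add_eq_mul' v w := by rw [dotProduct_add, AddChar.map_add_eq_mul]

theorem chi_apply (c v : Fin n → K) : chi c v = phi K (c ⬝ᵥ v) := rfl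

theorem chi_bijective : Function.Bijective (chi : (Fin n → K) → AddChar (Fin n → K) ℂ) := by
  classical
  rw [Fintype.bijective_iff_injective_and_card]
  refine ⟨fun c c' h => funext fun j => phi_inj fun a => ?_, AddChar.card_eq.symm⟩
  have h1 := DFunLike.congr_fun h (Pi.single j a)
  rwa [chi_apply, chi_apply, dotProduct_single, dotProduct_single] at h1

theorem chi_zero : chi (0 : Fin n → K) = 0 := by
  ext v; simp [chi_apply]

/-- the character of a scalar -/
noncomputable def chi1 (d : K) : AddChar K ℂ where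
  toFun v := phi K (d * v)
  map_zero_eq_one' := by rw [mul_zero, AddChar.map_zero_eq_one]
  map_add_eq_mul' v w := by rw [mul_add, AddChar.map_add_eq_mul]

theorem chi1_bijective : Function.Bijective (chi1 : K → AddChar K ℂ) := by
  classical
  rw [Fintype.bijective_iff_injective_and_card]
  exact ⟨fun c c' h => phi_inj fun a => DFunLike.congr_fun h a, AddChar.card_eq.symm⟩

/-! ### the character spaces -/

variable {V : Type} [AddCommGroup V] [Module ℂ V]
variable (R : Rad n) (σ : Representation ℂ (GG K) V)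

theorem sig_inj (g : GG K) : Function.Injective (σ g) := fun x y h => by
  have h' := congrArg (σ g⁻¹) h
  rwa [← Module.End.mul_apply, ← Module.End.mul_apply, ← map_mul, inv_mul_cancel, map_one] at h'

theorem sig_mul (a b : GG K) (v : V) : σ (a * b) v = σ a (σ b v) := by rw [map_mul]; rfl

/-- the operators -/
noncomputable def Du (a : Fin n → K) : Module.End ℂ V := σ (R.U a)

theorem Du_add (a b : Fin n → K) : Du R σ (a + b) = Du R σ a * Du R σ b := by
  rw [Du, Du, Du, ← map_mul, U_add]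

theorem U_zero : (R.U (0 : Fin n → K) : GG K) = 1 :=
  mul_eq_left.1 ((U_add R 0 0).symm.trans (congrArg R.U (add_zero 0)))

theorem Du_zero : Du R σ 0 = 1 := by rw [Du, U_zero, map_one]

/-- the character space -/
noncomputable def Esp (c : Fin n → K) : Submodule ℂ V := eig (Du R σ) (chi c)

theorem mem_E {c : Fin n → K} {v : V} :
    v ∈ Esp R σ c ↔ ∀ i a, σ (W (R.S i) a) v = phi K (c i * a) • v := by
  classical
  constructor
  · intro h i a
    have h1 := h (Pi.single i a)
    rwa [Du, U_single, chi_apply, dotProduct_single] at h1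
  · intro h a
    rw [← Finset.univ_sum_single a]
    induction (Finset.univ : Finset (Fin n)) using Finset.induction_on with
    | empty => rw [Finset.sum_empty, Du_zero, AddChar.map_zero_eq_one, one_smul]; rfl
    | insert i s hi ih =>
      rw [Finset.sum_insert hi, Du_add, Module.End.mul_apply, ih, map_smul, Du, U_single, h,
        AddChar.map_add_eq_mul, smul_smul]
      congr 1
      rw [chi_apply c (Pi.single i (a i)), dotProduct_single, mul_comm]

/-- characters compatible with the symmetry -/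
def Valid (c : Fin n → K) : Prop := ∀ i, c i = (ep (R.S i) : K) * fr K (c (R.p i))

/-- the values at a coordinate -/
def OKVal (j : Fin n) (y : K) : Prop := R.p j = j → fr K y = y

theorem ep_fixed {i : Fin n} (h : R.p i = i) : ep (R.S i) = 1 :=
  (sym_facts _ (R.spec i).1).2.2.2.2.1 (by rw [← (R.spec i).2.1, h])

variable {R σ}

theorem Valid.fixed {c : Fin n → K} (hc : Valid R c) {i : Fin n} (h : R.p i = i) : fr K (c i) = c i := by
  have := hc i
  rw [ep_fixed R h, h, Int.cast_one, one_mul] at this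
  exact this.symm

theorem Valid.okVal {c : Fin n → K} (hc : Valid R c) (j : Fin n) : OKVal R j (c j) := hc.fixed

theorem Valid.zero_p {c : Fin n → K} (hc : Valid R c) {i : Fin n} (h : c i = 0) : c (R.p i) = 0 := by
  rw [hc (R.p i), (R.spec i).2.2.1, h, map_zero, mul_zero]

theorem valid_of_mem {c : Fin n → K} {v : V} (hv : v ∈ Esp R σ c) (hv0 : v ≠ 0) : Valid R c := by
  intro i
  refine phi_inj fun a => ?_
  obtain ⟨h1, h2, -⟩ := R.spec i
  have hrr := (sym_facts _ h1).2.1
  have hep := (sym_facts _ h1).2.2.1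
  have e1 := (mem_E R σ).1 hv i a
  have e2 := (mem_E R σ).1 hv (R.p i) ((ep (R.S i) : K) * fr K a)
  have hW : (W (R.S (R.p i)) ((ep (R.S i) : K) * fr K a) : GG K) = W (R.S i) a := by
    rw [h2, W_rh h1, map_mul, map_intCast, fr_fr, ← mul_assoc, ep_sq h1, one_mul]
  rw [hW, e1] at e2
  have := smul_left_injective ℂ hv0 e2
  rw [this, ← mul_assoc, phi_mul_fr, map_mul (fr K), map_intCast (fr K), mul_comm (fr K _) (ep (R.S i) : K)]

/-! ### moves -/

variable (R) in
/-- a single move -/
noncomputable def m1 (g : ℕ) (t : K) (c : Fin n → K) : Fin n → K := fun k =>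
  match tgt R g k with
  | none => c k
  | some (l, e) => c k + (e : K) * t * c l

theorem dot_M1 (g : ℕ) (t : K) (c a : Fin n → K) : c ⬝ᵥ M1 R g t a = m1 R g t c ⬝ᵥ a := by
  rw [M1, dotProduct_add, dotProduct_sum]
  simp only [dotProduct, ← Finset.sum_add_distrib]
  refine Finset.sum_congr rfl fun k _ => ?_
  unfold m1 dd
  cases tgt R g k with
  | none => simp
  | some p =>
    obtain ⟨l, e⟩ := p
    show c k * a k + c ⬝ᵥ (Pi.single l ((e : K) * t * a k) : Fin n → K) = _
    rw [dotProduct_single]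
    ring

variable (R) in
/-- the move by `W g t` -/
noncomputable def mv (g : ℕ) (t : K) (c : Fin n → K) : Fin n → K :=
  m1 R (rh g) ((ep g : K) * fr K (-t)) (m1 R g (-t) c)

theorem mv_mem {g : ℕ} (h : okMv R g = true) (t : K) {c : Fin n → K} {v : V} (hv : v ∈ Esp R σ c) :
    σ (W g t) v ∈ Esp R σ (mv R g t c) := by
  intro a
  have e : (R.U a : GG K) * W g t = W g t * R.U (Ms R g (-t) a) := by
    have h1 := W_U h (-t) a
    rw [← W_inv, inv_mul_eq_iff_eq_mul] at h1
    rw [h1]; group
  show σ (R.U a) (σ (W g t) v) = _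
  rw [← sig_mul, e, sig_mul, show σ (R.U (Ms R g (-t) a)) v = _ from hv _, map_smul]
  congr 1
  rw [chi_apply, chi_apply, Ms, dot_M1, dot_M1]
  rfl

variable (σ) in
/-- invariance of a subspace -/
def Inv (U : Submodule ℂ V) (g : ℕ) : Prop := ∀ (t : K), ∀ v ∈ U, σ (W g t) v ∈ U

variable [FiniteDimensional ℂ V]

variable (R σ) in
/-- multiplicity at least `m` in a subspace -/
def Good (U : Submodule ℂ V) (m : ℕ) (c : Fin n → K) : Prop := m ≤ finrank ℂ ↥(U ⊓ Esp R σ c)

variable {U : Submodule ℂ V} {m : ℕ}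

theorem good_mv {g : ℕ} (h : okMv R g = true) (hU : Inv σ U g) (t : K) {c : Fin n → K}
    (hc : Good R σ U m c) : Good R σ U m (mv R g t c) :=
  hc.trans (LinearMap.finrank_le_finrank_of_injective
    (f := (σ (W g t)).restrict (fun v (hv : v ∈ U ⊓ Esp R σ c) =>
      (⟨hU t v hv.1, mv_mem h t hv.2⟩ : σ (W g t) v ∈ U ⊓ Esp R σ (mv R g t c))))
    fun a b e => Subtype.ext (sig_inj σ _ (congrArg Subtype.val e)))

theorem good_vec (hm : 1 ≤ m) {c : Fin n → K} (hc : Good R σ U m c) :
    ∃ v ∈ U, v ∈ Esp R σ c ∧ v ≠ 0 := by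
  haveI : Nontrivial ↥(U ⊓ Esp R σ c) := Module.nontrivial_of_finrank_pos (R := ℂ) (hm.trans hc)
  obtain ⟨⟨v, hv⟩, hne⟩ := exists_ne (0 : ↥(U ⊓ Esp R σ c))
  exact ⟨v, hv.1, hv.2, fun e => hne (Subtype.ext e)⟩

theorem good_valid (hm : 1 ≤ m) {c : Fin n → K} (hc : Good R σ U m c) : Valid R c := by
  obtain ⟨v, -, h1, h2⟩ := good_vec hm hc
  exact valid_of_mem h1 h2

theorem good_of_mem {c : Fin n → K} {v : V} (h1 : v ∈ U) (h2 : v ∈ Esp R σ c) (h3 : v ≠ 0) :
    Good R σ U 1 c := by
  haveI : Nontrivial ↥(U ⊓ Esp R σ c) :=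
    ⟨⟨⟨v, h1, h2⟩, 0, fun e => h3 (congrArg Subtype.val e)⟩⟩
  exact Module.finrank_pos

theorem mv_mv (hm : 1 ≤ m) {g : ℕ} (h : okMv R g = true) (t : K) {c : Fin n → K} (hc : Good R σ U m c) :
    mv R g (-t) (mv R g t c) = c := by
  obtain ⟨v, -, h1, h2⟩ := good_vec hm hc
  have h3 := mv_mem h (-t) (mv_mem h t h1)
  rw [← sig_mul, W_mul, neg_add_cancel, W_zero, map_one, Module.End.one_apply] at h3
  apply chi_bijective.1
  ext a
  exact (smul_left_injective ℂ h2 ((h1 a).symm.trans (h3 a))).symm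

variable (R) in
/-- the source is among the given coordinates -/
def free (g : ℕ) (k : Fin n) (Z : List (Fin n)) : Bool :=
  match tgt R g k with
  | none => true
  | some p => Z.contains p.1

variable (R) in
/-- the root `g` carries the coordinate `i` into `j`, fixing the coordinates in `P` -/
def stepOK (g : ℕ) (i j : Fin n) (Z P : List (Fin n)) : Bool :=
  okMv R g &&
    (match tgt R g j with
    | none => false
    | some a => decide (a.1 = i)) &&
    ((P ++ i :: Z.filter (fun z => decide (z ≠ j))).all fun k =>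
      free R g k (Z.filter fun z => decide (z ≠ j)) && free R (rh g) k (Z.filter fun z => decide (z ≠ j))) &&
    (free R (rh g) j (Z.filter fun z => decide (z ≠ j)) ||
      (decide (rh g = g) && decide (R.p i = i) && decide (R.p j = j)))

variable (R) in
/-- the parameter of a step -/
noncomputable def stepT (g : ℕ) (i j : Fin n) (c : Fin n → K) (y : K) : K :=
  let e : ℤ := ((tgt R g j).map Prod.snd).getD 0
  if rh g = g then z1 K * ((c j - y) / ((e : K) * c i)) else (c j - y) / ((e : K) * c i)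

theorem coef_pm {g : ℕ} (h : okMv R g = true) {k l : Fin n} {e : ℤ} (hk : tgt R g k = some (l, e)) :
    (e : K) ≠ 0 := by
  obtain ⟨h1, -⟩ := okMv_spec h (Or.inl rfl) k
  obtain ⟨-, -, -, ⟨-, h5⟩ | ⟨l', c, -, -, h5, hc⟩⟩ := okPair_cases h1
  · rw [tgt_some R hk] at h5; exact absurd h5 (by simp)
  · rw [tgt_some R hk] at h5
    obtain ⟨-, rfl⟩ := Prod.mk.inj (Option.some.inj h5)
    rcases hc with rfl | rfl <;> simp

theorem m1_free {g : ℕ} {k : Fin n} {Z : List (Fin n)} (h : free R g k Z = true) {c : Fin n → K}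
    (hZ : ∀ l ∈ Z, c l = 0) (t : K) : m1 R g t c k = c k := by
  unfold free at h
  unfold m1
  cases e : tgt R g k with
  | none => rfl
  | some p =>
    obtain ⟨l, e'⟩ := p
    simp only [e, List.contains_iff_mem] at h
    simp [hZ l h]

theorem step {g : ℕ} {i j : Fin n} {Z P : List (Fin n)} (h : stepOK R g i j Z P = true) {c : Fin n → K}
    (hc : Valid R c) (hi : c i ≠ 0) (hZ : ∀ l ∈ Z, l ≠ j → c l = 0) {y : K} (hy : OKVal R j y) :
    okMv R g = true ∧ mv R g (stepT R g i j c y) c j = y ∧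
      ∀ k, (k ∈ P ∨ k = i ∨ (k ∈ Z ∧ k ≠ j)) → mv R g (stepT R g i j c y) c k = c k := by
  simp only [stepOK, Bool.and_eq_true, Bool.or_eq_true, decide_eq_true_eq, List.all_eq_true] at h
  obtain ⟨⟨⟨h1, h2⟩, h3⟩, h4⟩ := h
  refine ⟨h1, ?_⟩
  set Z' := Z.filter fun z => decide (z ≠ j) with hZ'
  have hz : ∀ l ∈ Z', c l = 0 := fun l hl => by
    simp only [hZ', List.mem_filter, decide_eq_true_eq] at hl
    exact hZ l hl.1 hl.2
  obtain ⟨e, he⟩ : ∃ e, tgt R g j = some (i, e) := by
    cases ht : tgt R g j with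
    | none => simp [ht] at h2
    | some a =>
      obtain ⟨l, e⟩ := a
      simp only [ht, decide_eq_true_eq] at h2
      exact ⟨e, by rw [h2]⟩
  have he0 : (e : K) ≠ 0 := coef_pm h1 he
  set t := stepT R g i j c y with ht
  have hfree : ∀ k, (k ∈ P ∨ k = i ∨ k ∈ Z') → free R g k Z' = true ∧ free R (rh g) k Z' = true := fun k hk =>
    h3 k (by simpa using hk)
  have hfirst : ∀ k, (k ∈ P ∨ k = i ∨ k ∈ Z') → ∀ s, m1 R g s c k = c k := fun k hk s =>
    m1_free (hfree k hk).1 hz s
  have hz2 : ∀ l ∈ Z', m1 R g (-t) c l = 0 := fun l hl => by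
    rw [hfirst l (Or.inr (Or.inr hl)), hz l hl]
  refine ⟨?_, fun k hk => ?_⟩
  · have hj : m1 R g (-t) c j = c j + (e : K) * -t * c i := by simp [m1, he]
    show m1 R (rh g) _ (m1 R g (-t) c) j = y
    rcases h4 with h4 | ⟨⟨hg, hpi⟩, hpj⟩
    · have hne : rh g ≠ g := fun hg => hi (by
        rw [hg] at h4
        simp only [free, he, List.contains_iff_mem] at h4
        exact hz i h4)
      rw [m1_free h4 hz2, hj, ht, stepT, he, if_neg hne, Option.map_some, Option.getD_some]
      field_simp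
      ring
    · have hep : ep g = 1 := (sym_facts g (okMv_spec h1 (Or.inl rfl) j).2.2.2.2).2.2.2.2.1 hg
      have hgi := hc.fixed hpi
      have hD : fr K ((c j - y) / ((e : K) * c i)) = (c j - y) / ((e : K) * c i) := by
        rw [map_div₀, map_sub, map_mul, map_intCast, hgi, hc.fixed hpj, hy hpj]
      rw [hg, hep, Int.cast_one, one_mul]
      show (match tgt R g j with
        | none => m1 R g (-t) c j
        | some (l, e) => m1 R g (-t) c j + (e : K) * fr K (-t) * m1 R g (-t) c l) = y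
      simp only [he]
      rw [hj, hfirst i (Or.inr (Or.inl rfl)), ht, stepT, he, if_pos hg, Option.map_some, Option.getD_some,
        map_neg, map_mul, hD]
      set D := (c j - y) / ((e : K) * c i) with hD'
      have hDe : (e : K) * c i * D = c j - y := by rw [hD']; field_simp
      linear_combination (-((e : K) * c i * D)) * z1_spec (K := K) - hDe
  · have hk' : k ∈ P ∨ k = i ∨ k ∈ Z' := by
      rcases hk with hk | hk | ⟨hk, hne⟩
      · exact Or.inl hk
      · exact Or.inr (Or.inl hk)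
      · exact Or.inr (Or.inr (by simp [hZ', hk, hne]))
    show m1 R (rh g) _ (m1 R g (-t) c) k = c k
    rw [m1_free (hfree k hk').2 hz2, hfirst k hk']

variable (R) in
/-- a list of coordinates to be processed from the coordinate `i` -/
def chainOK (i : Fin n) : List (Fin n) → List (ℕ × Fin n) → Bool
  | _, [] => true
  | Z, p :: r => !Z.contains p.2 && decide (p.2 ≠ i) && stepOK R p.1 i p.2 Z Z &&
      chainOK i (p.2 :: R.p p.2 :: Z) r

theorem chainOK_ne {i : Fin n} : ∀ (js : List (ℕ × Fin n)) (Z : List (Fin n)), chainOK R i Z js = true →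
    ∀ p ∈ js, p.2 ≠ i
  | [], _, _ => by simp
  | p :: r, Z, h => by
    simp only [chainOK, Bool.and_eq_true, decide_eq_true_eq] at h
    intro p' hp'
    rcases List.mem_cons.1 hp' with rfl | hp'
    · exact h.1.1.2
    · exact chainOK_ne r _ h.2 p' hp'

theorem kill (hm : 1 ≤ m) {i : Fin n} : ∀ (js : List (ℕ × Fin n)) (Z : List (Fin n)),
    chainOK R i Z js = true → (∀ p ∈ js, Inv σ U p.1) → ∀ c : Fin n → K, Good R σ U m c → c i ≠ 0 →
    (∀ l ∈ Z, c l = 0) →
    ∃ c', Good R σ U m c' ∧ (∀ l ∈ Z, c' l = 0) ∧ (∀ p ∈ js, c' p.2 = 0) ∧ c' i = c i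
  | [], Z, _, _, c, hc, _, hZ => ⟨c, hc, hZ, by simp, rfl⟩
  | p :: r, Z, h, hI, c, hc, hi, hZ => by
    simp only [chainOK, Bool.and_eq_true, Bool.not_eq_true', decide_eq_true_eq] at h
    obtain ⟨⟨⟨h1, -⟩, h2⟩, h3⟩ := h
    have hnot : ∀ l ∈ Z, l ≠ p.2 := fun l hl e => by
      rw [e] at hl; rw [List.contains_iff_mem.2 hl] at h1; exact Bool.false_ne_true h1.symm
    obtain ⟨hok, hj, hP⟩ := step (y := (0 : K)) h2 (good_valid hm hc) hi (fun l hl _ => hZ l hl)
      (fun _ => map_zero _)
    set c1 := mv R p.1 (stepT R p.1 i p.2 c 0) c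
    have hc1 : Good R σ U m c1 := good_mv hok (hI p (List.mem_cons_self ..)) _ hc
    have hi1 : c1 i = c i := hP i (Or.inr (Or.inl rfl))
    obtain ⟨c2, hc2, hZ2, hr, hi2⟩ := kill hm r _ h3 (fun p' hp' => hI p' (List.mem_cons_of_mem _ hp'))
      c1 hc1 (hi1 ▸ hi) fun l hl => by
      rcases List.mem_cons.1 hl with rfl | hl
      · exact hj
      rcases List.mem_cons.1 hl with rfl | hl
      · exact (good_valid hm hc1).zero_p hj
      · rw [hP l (Or.inl hl), hZ l hl]
    refine ⟨c2, hc2, fun l hl => hZ2 l (List.mem_cons_of_mem _ (List.mem_cons_of_mem _ hl)), fun p' hp' => ?_,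
      hi2.trans hi1⟩
    rcases List.mem_cons.1 hp' with rfl | hp'
    · exact hZ2 _ (List.mem_cons_self ..)
    · exact hr p' hp'

variable (R) in
/-- the weight of a coordinate -/
def wt (j : Fin n) : ℕ := if R.p j = j then 1 else 2

variable (R) in
/-- the weight of a chain -/
def wsum (js : List (ℕ × Fin n)) : ℕ := (js.map fun p => wt R p.2).sum

variable (R) in
theorem card_okVal (j : Fin n) : Nat.card {y : K // OKVal R j y} = q ^ wt R j := by
  unfold wt
  by_cases h : R.p j = j
  · rw [if_pos h, pow_one]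
    have := card_fr_fix (K := K)
    simpa [OKVal, h] using this
  · rw [if_neg h, Nat.card_congr (Equiv.subtypeUnivEquiv (p := OKVal R j) fun _ e => absurd e h),
      Nat.card_eq_fintype_card, Sq.card (K := K)]

theorem spread (hm : 1 ≤ m) {i : Fin n} {t : K} (ht : t ≠ 0) :
    ∀ (js : List (ℕ × Fin n)) (Z : List (Fin n)), chainOK R i Z js = true → (∀ p ∈ js, Inv σ U p.1) →
    ∀ A : Finset (Fin n → K),
    (∀ c ∈ A, Good R σ U m c ∧ (∀ l ∈ Z, c l = 0) ∧ (∀ p ∈ js, c p.2 = 0) ∧ c i = t) →
    ∃ B : Finset (Fin n → K), (∀ c ∈ B, Good R σ U m c ∧ (∀ l ∈ Z, c l = 0) ∧ c i = t) ∧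
      q ^ wsum R js * A.card ≤ B.card
  | [], Z, _, _, A, hA => ⟨A, fun c hc => ⟨(hA c hc).1, (hA c hc).2.1, (hA c hc).2.2.2⟩, by simp [wsum]⟩
  | p :: r, Z, h, hI, A, hA => by
    classical
    simp only [chainOK, Bool.and_eq_true, Bool.not_eq_true', decide_eq_true_eq] at h
    obtain ⟨⟨⟨h1, -⟩, h2⟩, h3⟩ := h
    have hnot : ∀ l ∈ Z, l ≠ p.2 := fun l hl e => by
      rw [e] at hl; rw [List.contains_iff_mem.2 hl] at h1; exact Bool.false_ne_true h1.symm
    obtain ⟨B', hB', hcard⟩ := spread hm ht r _ h3 (fun p' hp' => hI p' (List.mem_cons_of_mem _ hp')) A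
      fun c hc => by
      obtain ⟨a1, a2, a3, a4⟩ := hA c hc
      have hj0 := a3 p (List.mem_cons_self ..)
      refine ⟨a1, fun l hl => ?_, fun p' hp' => a3 p' (List.mem_cons_of_mem _ hp'), a4⟩
      rcases List.mem_cons.1 hl with rfl | hl
      · exact hj0
      rcases List.mem_cons.1 hl with rfl | hl
      · exact (good_valid hm a1).zero_p hj0
      · exact a2 l hl
    have hst : ∀ c ∈ B', ∀ y, OKVal R p.2 y → okMv R p.1 = true ∧
        mv R p.1 (stepT R p.1 i p.2 c y) c p.2 = y ∧
        ∀ k, (k ∈ Z ∨ k = i) → mv R p.1 (stepT R p.1 i p.2 c y) c k = c k := fun c hc y hy => by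
      obtain ⟨b1, b2, b3⟩ := hB' c hc
      obtain ⟨u1, u2, u3⟩ := step h2 (good_valid hm b1) (b3 ▸ ht)
        (fun l hl _ => b2 l (List.mem_cons_of_mem _ (List.mem_cons_of_mem _ hl))) hy
      exact ⟨u1, u2, fun k hk => u3 k (by tauto)⟩
    refine ⟨((Finset.univ : Finset {y : K // OKVal R p.2 y}) ×ˢ B').image
      fun yc => mv R p.1 (stepT R p.1 i p.2 yc.2 yc.1.1) yc.2, fun c hc => ?_, ?_⟩
    · obtain ⟨⟨y, c0⟩, hyc, rfl⟩ := Finset.mem_image.1 hc
      have hc0 := (Finset.mem_product.1 hyc).2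
      obtain ⟨b1, b2, b3⟩ := hB' c0 hc0
      obtain ⟨u1, u2, u3⟩ := hst c0 hc0 y.1 y.2
      refine ⟨good_mv u1 (hI p (List.mem_cons_self ..)) _ b1, fun l hl => ?_, ?_⟩
      · rw [u3 l (Or.inl hl), b2 l (List.mem_cons_of_mem _ (List.mem_cons_of_mem _ hl))]
      · rw [u3 i (Or.inr rfl), b3]
    · rw [Finset.card_image_of_injOn, Finset.card_product, Finset.card_univ, ← Nat.card_eq_fintype_card,
        card_okVal R p.2]
      · rw [wsum, List.map_cons, List.sum_cons, pow_add, mul_assoc]
        exact Nat.mul_le_mul_left _ hcard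
      · rintro ⟨y, c⟩ hyc ⟨y', c'⟩ hyc' he
        have hc := (Finset.mem_product.1 (Finset.mem_coe.1 hyc)).2
        have hc' := (Finset.mem_product.1 (Finset.mem_coe.1 hyc')).2
        simp only at he
        have hyy : y = y' := Subtype.ext (by
          rw [← (hst c hc y.1 y.2).2.1, ← (hst c' hc' y'.1 y'.2).2.1, he])
        subst hyy
        have hT : stepT R p.1 i p.2 c y.1 = stepT R p.1 i p.2 c' y.1 := by
          simp only [stepT, (hB' c hc).2.2, (hB' c' hc').2.2, (hB' c hc).2.1 p.2 (List.mem_cons_self ..),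
            (hB' c' hc').2.1 p.2 (List.mem_cons_self ..)]
        rw [← hT] at he
        obtain ⟨u1, -⟩ := hst c hc y.1 y.2
        refine Prod.ext rfl ?_
        show c = c'
        rw [← mv_mv hm u1 (stepT R p.1 i p.2 c y.1) (hB' c hc).1, he, mv_mv hm u1 _ (hB' c' hc').1]

theorem le_dim (s : Finset (Fin n → K)) (hs : ∀ c ∈ s, Good R σ U m c) (h0 : (0 : Fin n → K) ∉ s) :
    finrank ℂ ↥(U ⊓ Esp R σ 0) + m * s.card ≤ finrank ℂ U := by
  classical
  have h0' : chi (0 : Fin n → K) ∉ s.image chi := by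
    simp only [Finset.mem_image, not_exists, not_and]
    exact fun c hc e => h0 (chi_bijective.1 e ▸ hc)
  have h := sum_finrank_le (Du R σ) U (insert (chi 0) (s.image chi))
  rw [Finset.sum_insert h0', Finset.sum_image fun a _ b _ e => chi_bijective.1 e] at h
  refine le_trans (Nat.add_le_add_left ?_ _) h
  calc m * s.card = ∑ c ∈ s, m := by rw [Finset.sum_const, smul_eq_mul, mul_comm]
    _ ≤ ∑ c ∈ s, finrank ℂ ↥(U ⊓ eig (Du R σ) (chi c)) := Finset.sum_le_sum fun c hc => hs c hc

variable (R) in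
/-- the earlier coordinates -/
def below (i : Fin n) : List (Fin n) := (List.finRange n).filter fun u => decide (u < i)

variable (R) in
/-- cells of characters -/
def cellsOK (cells : List (Fin n × List (ℕ × Fin n))) : Bool :=
  decide (cells.map Prod.fst).Nodup && cells.all fun c => decide (R.p c.1 = c.1) && chainOK R c.1 (below c.1) c.2

theorem count (hm : 1 ≤ m) {cells : List (Fin n × List (ℕ × Fin n))} (h : cellsOK R cells = true)
    (hI : ∀ c ∈ cells, ∀ p ∈ c.2, Inv σ U p.1)
    (hg : ∀ c ∈ cells, ∀ t : K, t ≠ 0 → fr K t = t → Good R σ U m (Pi.single c.1 t)) :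
    finrank ℂ ↥(U ⊓ Esp R σ 0) + m * ((q - 1) * (cells.map fun c => q ^ wsum R c.2).sum) ≤ finrank ℂ U := by
  classical
  simp only [cellsOK, Bool.and_eq_true, List.all_eq_true, decide_eq_true_eq] at h
  obtain ⟨hnd, hall⟩ := h
  have hex : ∀ x : {c // c ∈ cells.toFinset} × {t : K // fr K t = t ∧ t ≠ 0}, ∃ B : Finset (Fin n → K),
      (∀ c ∈ B, Good R σ U m c ∧ (∀ l, l < x.1.1.1 → c l = 0) ∧ c x.1.1.1 = x.2.1) ∧
      q ^ wsum R x.1.1.2 ≤ B.card := by
    rintro ⟨⟨⟨i, js⟩, hc⟩, t, htf, ht⟩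
    have hc' := List.mem_toFinset.1 hc
    obtain ⟨-, hch⟩ := hall _ hc'
    obtain ⟨B, hB, hcard⟩ := spread (R := R) (σ := σ) (U := U) hm ht js (below i) hch (hI _ hc')
      {Pi.single i t} fun c hc'' => by
      obtain rfl := Finset.mem_singleton.1 hc''
      refine ⟨hg _ hc' t ht htf, fun l hl => ?_, fun p hp => ?_, by simp⟩
      · simp only [below, List.mem_filter, decide_eq_true_eq] at hl
        exact Pi.single_eq_of_ne hl.2.ne _
      · exact Pi.single_eq_of_ne (chainOK_ne js _ hch p hp) _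
    refine ⟨B, fun c hcB => ⟨(hB c hcB).1, fun l hl => (hB c hcB).2.1 l (by simp [below, hl]), (hB c hcB).2.2⟩, ?_⟩
    simpa using hcard
  choose B hB hcard using hex
  have hdisj : (↑(Finset.univ : Finset ({c // c ∈ cells.toFinset} × {t : K // fr K t = t ∧ t ≠ 0})) :
      Set _).PairwiseDisjoint B := by
    intro x _ x' _ hne
    refine Finset.disjoint_left.2 fun c hc hc' => hne ?_
    obtain ⟨-, hz, hv⟩ := hB x c hc
    obtain ⟨-, hz', hv'⟩ := hB x' c hc'
    have hi : x.1.1.1 = x'.1.1.1 := by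
      rcases lt_trichotomy x.1.1.1 x'.1.1.1 with hlt | he | hlt
      · exact absurd (hv.symm.trans (hz' _ hlt)) x.2.2.2
      · exact he
      · exact absurd (hv'.symm.trans (hz _ hlt)) x'.2.2.2
    refine Prod.ext (Subtype.ext ?_) (Subtype.ext (by rw [← hv, ← hv', hi]))
    exact List.inj_on_of_nodup_map hnd (List.mem_toFinset.1 x.1.2) (List.mem_toFinset.1 x'.1.2) hi
  have hle := le_dim (R := R) (σ := σ) (U := U) (Finset.univ.biUnion B) (m := m) (fun c hc => by
      obtain ⟨x, -, hx⟩ := Finset.mem_biUnion.1 hc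
      exact (hB x c hx).1) (fun hc => by
      obtain ⟨x, -, hx⟩ := Finset.mem_biUnion.1 hc
      exact x.2.2.2 ((hB x 0 hx).2.2.symm))
  refine le_trans (Nat.add_le_add_left (Nat.mul_le_mul_left _ ?_) _) hle
  rw [Finset.card_biUnion hdisj]
  refine le_trans (le_of_eq ?_) (Finset.sum_le_sum fun x _ => hcard x)
  have hcardT : Fintype.card {t : K // fr K t = t ∧ t ≠ 0} = q - 1 := by
    have h1 := card_fr_fix (K := K)
    rw [Nat.card_eq_fintype_card, Fintype.card_subtype] at h1
    have h2 := Finset.card_erase_of_mem (s := Finset.univ.filter fun t : K => fr K t = t) (a := (0 : K)) (by simp)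
    rw [Fintype.card_subtype]
    refine Eq.trans ?_ (h2.trans (congrArg (· - 1) h1))
    congr 1
    ext t
    simp [and_comm]
  rw [Fintype.sum_prod_type]
  simp only [Finset.sum_const, Finset.card_univ, hcardT, smul_eq_mul]
  rw [← Finset.mul_sum, Finset.univ_eq_attach,
    Finset.sum_attach cells.toFinset (fun c => q ^ wsum R c.2), List.sum_toFinset _ (List.Nodup.of_map _ hnd)]

variable (R) in
/-- everything but `a` -/
def co1 (a : Fin n) : List (Fin n) := (List.finRange n).filter fun u => decide (u ≠ a)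

variable (R) in
/-- everything but `a`, `b` -/
def co2 (a b : Fin n) : List (Fin n) := (List.finRange n).filter fun u => decide (u ≠ a ∧ u ≠ b)

variable (R) in
/-- transfer of root characters -/
def linkOK (g g' : ℕ) (a b : Fin n) : Bool :=
  decide (a ≠ b) && decide (R.p a = a) && decide (R.p b = b) && stepOK R g a b (co1 a) (co1 b) &&
    stepOK R g' b a (co2 a b) (co1 a)

theorem link (hm : 1 ≤ m) {g g' : ℕ} {a b : Fin n} (h : linkOK R g g' a b = true) (hI : Inv σ U g)
    (hI' : Inv σ U g') {t u : K} (ht : t ≠ 0) (hu : u ≠ 0) (huf : fr K u = u)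
    (hc : Good R σ U m (Pi.single a t)) : Good R σ U m (Pi.single b u) := by
  simp only [linkOK, Bool.and_eq_true, decide_eq_true_eq] at h
  obtain ⟨⟨⟨⟨hab, hpa⟩, hpb⟩, h1⟩, h2⟩ := h
  obtain ⟨o1, hb, hP1⟩ := step (y := u) h1 (good_valid hm hc) (by simpa using ht)
    (fun l hl _ => by
      simp only [co1, List.mem_filter, decide_eq_true_eq] at hl
      exact Pi.single_eq_of_ne hl.2 _) (fun _ => huf)
  set c1 := mv R g (stepT R g a b (Pi.single a t) u) (Pi.single a t)
  have hc1 : Good R σ U m c1 := good_mv o1 hI _ hc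
  have hk1 : ∀ k, k ≠ b → c1 k = (Pi.single a t : Fin n → K) k := fun k hk => hP1 k (Or.inl (by simp [co1, hk]))
  obtain ⟨o2, ha, hP2⟩ := step (y := (0 : K)) h2 (good_valid hm hc1) (hb ▸ hu)
    (fun l hl hla => by
      simp only [co2, List.mem_filter, decide_eq_true_eq] at hl
      rw [hk1 l hl.2.2]
      exact Pi.single_eq_of_ne hla _) (fun _ => map_zero _)
  have hc2 := good_mv o2 hI' (stepT R g' b a c1 0) hc1
  convert hc2 using 1
  funext k
  by_cases hka : k = a
  · subst hka
    rw [ha, Pi.single_eq_of_ne hab]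
  · rw [hP2 k (Or.inl (by simp [co1, hka]))]
    by_cases hkb : k = b
    · subst hkb; rw [hb, Pi.single_eq_same]
    · rw [hk1 k hkb, Pi.single_eq_of_ne hka, Pi.single_eq_of_ne hkb]

theorem exists_char_at {i : Fin n} {a : K} {v : V} (hU : ∀ x, ∀ w ∈ U, Du R σ x w ∈ U) (hv : v ∈ U)
    (h : σ (W (R.S i) a) v ≠ v) : ∃ c, Good R σ U 1 c ∧ c i ≠ 0 := by
  classical
  by_contra! hc
  have hfix : ∀ ψ : AddChar (Fin n → K) ℂ, σ (W (R.S i) a) (proj (Du R σ) ψ v) = proj (Du R σ) ψ v := by
    intro ψ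
    obtain ⟨c, rfl⟩ := chi_bijective.2 ψ
    have hm : proj (Du R σ) (chi c) v ∈ Esp R σ c := proj_mem_eig (Du_add R σ) _ v
    by_cases h0 : proj (Du R σ) (chi c) v = 0
    · rw [h0, map_zero]
    · have hci := hc c (good_of_mem (proj_mem_of_inv U hU _ hv) hm h0)
      rw [(mem_E R σ).1 hm i a, hci, zero_mul, AddChar.map_zero_eq_one, one_smul]
  have hs := congrArg (σ (W (R.S i) a)) (sum_proj (Du_zero R σ) v)
  rw [map_sum, Finset.sum_congr rfl (fun ψ _ => hfix ψ), map_smul, sum_proj (Du_zero R σ) v] at hs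
  exact h (smul_right_injective V (Nat.cast_ne_zero.2 Fintype.card_ne_zero) hs).symm

/-! ### paired root elements -/

variable (R) in
/-- the term lies in the given coordinates -/
def zterm (o : Option (ℕ × ℤ)) (N : List (Fin n)) : Bool :=
  match o with
  | none => true
  | some p => N.any fun k => R.S k == p.1

variable (R) in
/-- commuting modulo the given coordinates -/
def trivOK (g h : ℕ) (N : List (Fin n)) : Bool :=
  comm2OK g h && zterm R (tm g h) N && zterm R (tm g (rh h)) N

variable (R) in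
/-- centralising the family -/
def cenOK (g : ℕ) : Bool :=
  okMv R g && (List.finRange n).all fun k => (tgt R g k).isNone && (tgt R (rh g) k).isNone

/-- the term is the given root with a unit coefficient -/
def isTerm (o : Option (ℕ × ℤ)) (r : ℕ) : Bool :=
  decide (o = some (r, 1)) || decide (o = some (r, -1))

variable (R) in
/-- paired at the coordinate `i` -/
def pairOK (x y : ℕ) (i : Fin n) (N : List (Fin n)) : Bool :=
  comm2OK x y && ((isTerm (tm x y) (R.S i) && zterm R (tm x (rh y)) N) ||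
    (isTerm (tm x (rh y)) (R.S i) && zterm R (tm x y) N))

theorem cen_mem {g : ℕ} (h : cenOK R g = true) (t : K) {c : Fin n → K} {v : V} (hv : v ∈ Esp R σ c) :
    σ (W g t) v ∈ Esp R σ c := by
  simp only [cenOK, Bool.and_eq_true, List.all_eq_true, Option.isNone_iff_eq_none] at h
  have hm := mv_mem h.1 t hv
  have e : mv R g t c = c := funext fun k => by
    simp [mv, m1, (h.2 k (List.mem_finRange k)).1, (h.2 k (List.mem_finRange k)).2]
  rwa [e] at hm

section Pairs

variable {c : Fin n → K} {N : List (Fin n)} (hN : ∀ k ∈ N, c k = 0)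
include hN

theorem zterm1 {g h : ℕ} (hz : zterm R (tm g h) N = true) (t u : K) {w : V} (hw : w ∈ Esp R σ c) :
    σ (T1 g h t u) w = w := by
  unfold T1
  cases e : tm g h with
  | none => simp
  | some p =>
    simp only [zterm, e, List.any_eq_true, beq_iff_eq] at hz
    obtain ⟨k, hk, hk'⟩ := hz
    obtain ⟨l, c'⟩ := p
    simp only at hk' ⊢
    rw [← hk', (mem_E R σ).1 hw, hN k hk, zero_mul, AddChar.map_zero_eq_one, one_smul]

theorem zterm2 {g h : ℕ} (hz : zterm R (tm g (rh h)) N = true) (t u : K) {w : V} (hw : w ∈ Esp R σ c) :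
    σ (T2 g h t u) w = w := by
  unfold T2
  cases e : tm g (rh h) with
  | none => simp
  | some p =>
    simp only [zterm, e, List.any_eq_true, beq_iff_eq] at hz
    obtain ⟨k, hk, hk'⟩ := hz
    obtain ⟨l, c'⟩ := p
    simp only at hk' ⊢
    rw [← hk', (mem_E R σ).1 hw, hN k hk, zero_mul, AddChar.map_zero_eq_one, one_smul]

theorem triv_rel {g h : ℕ} (hp : trivOK R g h N = true) (t u : K) {w : V} (hw : w ∈ Esp R σ c) :
    σ (W g t) (σ (W h u) w) = σ (W h u) (σ (W g t) w) := by
  simp only [trivOK, Bool.and_eq_true] at hp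
  rw [← sig_mul, (comm2 hp.1.1 t u).1, sig_mul, sig_mul σ (T1 g h t u), zterm2 hN hp.2 t u hw,
    zterm1 hN hp.1.2 t u hw, sig_mul]

theorem pair_rel {x y : ℕ} {i : Fin n} (hp : pairOK R x y i N = true) (hi : c i ≠ 0) :
    ∃ d : K → K, Function.Bijective d ∧ ∀ s t, ∀ w ∈ Esp R σ c,
      σ (W x t) (σ (W y s) w) = phi K (d s * t) • σ (W y s) (σ (W x t) w) := by
  simp only [pairOK, Bool.and_eq_true, Bool.or_eq_true, isTerm, decide_eq_true_eq] at hp
  obtain ⟨hc2, hp⟩ := hp
  rcases hp with ⟨he, hz⟩ | ⟨he, hz⟩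
  · obtain ⟨e, he', he0⟩ : ∃ e : ℤ, tm x y = some (R.S i, e) ∧ (e : K) ≠ 0 := by
      rcases he with he | he <;> exact ⟨_, he, by simp⟩
    refine ⟨fun s => c i * (e : K) * s,
      mulLeft_bijective₀ _ (mul_ne_zero hi he0), fun s t w hw => ?_⟩
    have h1 : σ (T1 x y t s) w = phi K (c i * (e : K) * s * t) • w := by
      unfold T1
      simp only [he']
      rw [(mem_E R σ).1 hw]
      congr 2
      ring
    rw [← sig_mul, (comm2 hc2 t s).1, sig_mul, sig_mul σ (T1 x y t s), zterm2 hN hz t s hw, h1, map_smul,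
      sig_mul]
  · obtain ⟨e, he', he0⟩ : ∃ e : ℤ, tm x (rh y) = some (R.S i, e) ∧ (e : K) ≠ 0 := by
      rcases he with he | he <;> exact ⟨_, he, by simp⟩
    have hy : y < 72 := by
      simp only [comm2OK, okPair, Bool.and_eq_true, decide_eq_true_eq] at hc2
      exact hc2.1.1.1.1.1.1.1.1.2
    have hep : (ep y : K) ≠ 0 := fun h0 => by simpa [h0] using ep_sq (R := K) hy
    refine ⟨fun s => c i * (e : K) * (ep y : K) * fr K s,
      (mulLeft_bijective₀ _ (mul_ne_zero (mul_ne_zero hi he0) hep)).comp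
        (Function.Involutive.bijective fr_fr), fun s t w hw => ?_⟩
    have h1 : σ (T2 x y t s) w = phi K (c i * (e : K) * (ep y : K) * fr K s * t) • w := by
      unfold T2
      simp only [he']
      rw [(mem_E R σ).1 hw]
      congr 2
      ring
    rw [← sig_mul, (comm2 hc2 t s).1, sig_mul, sig_mul σ (T1 x y t s), h1, map_smul, zterm1 hN hz t s hw,
      map_smul, sig_mul]

omit hN in
variable (R) in
/-- a list of paired root elements -/
def psOK (N : List (Fin n)) : List (ℕ × ℕ × Fin n) → Bool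
  | [] => true
  | p :: r => cenOK R p.1 && cenOK R p.2.1 && pairOK R p.1 p.2.1 p.2.2 N &&
      (r.all fun p' => trivOK R p.1 p'.1 N && trivOK R p.1 p'.2.1 N) && psOK N r

omit hN in
variable (σ) in
/-- the vectors fixed by the given root elements -/
noncomputable def fixS (xs : List ℕ) : Submodule ℂ V where
  carrier := {v | ∀ x ∈ xs, ∀ t : K, σ (W x t) v = v}
  add_mem' := fun ha hb x hx t => by rw [map_add, ha x hx t, hb x hx t]
  zero_mem' := fun x hx t => by rw [map_zero]
  smul_mem' := fun k v hv x hx t => by rw [map_smul, hv x hx t]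

theorem block : ∀ ps : List (ℕ × ℕ × Fin n), psOK R N ps = true → (∀ p ∈ ps, c p.2.2 ≠ 0) →
    ∀ E : Submodule ℂ V, E ≤ Esp R σ c → (∀ p ∈ ps, Inv σ E p.1 ∧ Inv σ E p.2.1) →
    q ^ (2 * ps.length) * finrank ℂ ↥(E ⊓ fixS σ (ps.map Prod.fst)) ≤ finrank ℂ E ∧
      (E ≠ ⊥ → E ⊓ fixS σ (ps.map Prod.fst) ≠ ⊥)
  | [], _, _, E, _, _ => by
    have e : E ⊓ fixS σ (([] : List (ℕ × ℕ × Fin n)).map Prod.fst) = E :=
      inf_eq_left.2 fun v _ x hx => absurd hx (by simp)
    rw [e]
    simp
  | p :: r, h, hne, E, hE, hinv => by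
    classical
    simp only [psOK, Bool.and_eq_true, List.all_eq_true] at h
    obtain ⟨⟨⟨⟨-, -⟩, hpair⟩, htriv⟩, hr⟩ := h
    obtain ⟨x, y, i⟩ := p
    obtain ⟨ix, iy⟩ := hinv _ (List.mem_cons_self ..)
    obtain ⟨d, hd, hrel⟩ := pair_rel (σ := σ) hN hpair (hne _ (List.mem_cons_self ..))
    let D : K → Module.End ℂ V := fun t => σ (W x t)
    have Dadd : ∀ a b, D (a + b) = D a * D b := fun a b => by simp only [D]; rw [← map_mul, W_mul]
    have D0 : D 0 = 1 := by simp only [D]; rw [W_zero, map_one]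
    have he0 : eig D 0 = fixS σ [x] := by
      ext v
      simp [mem_eig_zero, fixS, D]
    set E0 := E ⊓ eig D 0 with hE0
    have hinv' : ∀ p' ∈ r, Inv σ E0 p'.1 ∧ Inv σ E0 p'.2.1 := by
      intro p' hp'
      obtain ⟨i1, i2⟩ := hinv p' (List.mem_cons_of_mem _ hp')
      obtain ⟨t1, t2⟩ := htriv p' hp'
      constructor
      · intro u v hv
        refine ⟨i1 u v hv.1, mem_eig_zero.2 fun a => ?_⟩
        show σ (W x a) (σ (W p'.1 u) v) = _
        rw [triv_rel hN t1 a u (hE hv.1)]
        exact congrArg _ (mem_eig_zero.1 hv.2 a)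
      · intro u v hv
        refine ⟨i2 u v hv.1, mem_eig_zero.2 fun a => ?_⟩
        show σ (W x a) (σ (W p'.2.1 u) v) = _
        rw [triv_rel hN t2 a u (hE hv.1)]
        exact congrArg _ (mem_eig_zero.1 hv.2 a)
    obtain ⟨ih1, ih2⟩ := block r hr (fun p' hp' => hne p' (List.mem_cons_of_mem _ hp')) E0
      (inf_le_left.trans hE) hinv'
    have heq : E ⊓ fixS σ (((x, y, i) :: r).map Prod.fst) = E0 ⊓ fixS σ (r.map Prod.fst) := by
      rw [hE0, he0, inf_assoc]
      congr 1
      ext v
      simp [fixS, List.forall_mem_cons]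
    have hshift : ∀ s : K, ∀ d0 : K, ∀ v ∈ E, v ∈ eig D (chi1 d0) →
        σ (W y s) v ∈ E ⊓ eig D (chi1 (d s + d0)) := fun s d0 v hvE hv => by
      refine ⟨iy s v hvE, fun t => ?_⟩
      show σ (W x t) (σ (W y s) v) = _
      rw [hrel s t v (hE hvE), show σ (W x t) v = _ from hv t, map_smul, smul_smul]
      congr 1
      show _ = phi K ((d s + d0) * t)
      rw [add_mul, AddChar.map_add_eq_mul]
      rfl
    have hz : chi1 (0 : K) = 0 := by ext v; simp [chi1]
    have hstep : q ^ 2 * finrank ℂ ↥E0 ≤ finrank ℂ E := by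
      have hsum := sum_finrank_le D E ((Finset.univ : Finset K).image fun s => chi1 (d s))
      rw [Finset.sum_image (fun a _ b _ e => hd.1 (chi1_bijective.1 e))] at hsum
      refine le_trans ?_ hsum
      calc q ^ 2 * finrank ℂ ↥E0 = ∑ _s : K, finrank ℂ ↥E0 := by
            rw [Finset.sum_const, Finset.card_univ, smul_eq_mul, Sq.card (K := K)]
        _ ≤ _ := Finset.sum_le_sum fun s _ => by
          have key : ∀ v ∈ E0, σ (W y s) v ∈ E ⊓ eig D (chi1 (d s)) := fun v hv => by
            have := hshift s 0 v hv.1 (by rw [hz]; exact hv.2)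
            rwa [add_zero] at this
          exact LinearMap.finrank_le_finrank_of_injective (f := (σ (W y s)).restrict key)
            fun a b e => Subtype.ext (sig_inj σ _ (congrArg Subtype.val e))
    refine ⟨?_, fun hEne => ?_⟩
    · rw [heq, List.length_cons, show 2 * (r.length + 1) = 2 + 2 * r.length by ring, pow_add, mul_assoc]
      exact le_trans (Nat.mul_le_mul_left _ ih1) hstep
    · rw [heq]
      apply ih2
      obtain ⟨v, hv, hv0⟩ := Submodule.exists_mem_ne_zero_of_ne_bot hEne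
      obtain ⟨ψ, w, hwE, hw0, hwψ⟩ := exists_eigen Dadd D0 E (fun a u hu => ix a u hu) hv hv0
      obtain ⟨d0, rfl⟩ := chi1_bijective.2 ψ
      obtain ⟨s, hs⟩ := hd.2 (-d0)
      have h0 := hshift s d0 w hwE hwψ
      rw [hs, neg_add_cancel, hz] at h0
      exact (Submodule.ne_bot_iff _).2 ⟨_, h0, fun e => hw0 (sig_inj σ _ (e.trans (map_zero _).symm))⟩

end Pairs

/-! ### the stabiliser of a line -/

/-- membership in a set of root subgroups -/
def memF (F : List ℕ) (r : ℕ) : Bool := decide (r < 72) && (F.contains r || F.contains (rh r))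

/-- the term lies in a set of root subgroups -/
def fterm (o : Option (ℕ × ℤ)) (F : List ℕ) : Bool :=
  match o with
  | none => true
  | some p => memF F p.1

/-- a commutator which gives all elements of a root subgroup -/
def termOK (g h r : ℕ) : Bool :=
  comm2OK g h && isTerm (tm g h) r && (decide (tm g (rh h) = none) || decide (rh h = h))

theorem comm_fix {g h r : ℕ} (hok : termOK g h r = true) {v : V}
    (hg : ∀ s : K, ∃ l : ℂ, σ (W g s) v = l • v) (hh : ∀ s : K, ∃ l : ℂ, σ (W h s) v = l • v) (w : K) :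
    σ (W r w) v = v := by
  simp only [termOK, Bool.and_eq_true] at hok
  obtain ⟨⟨hc2, hterm⟩, hsec⟩ := hok
  have hfix : ∀ t u : K, σ (T1 g h t u * T2 g h t u) v = v := by
    intro t u
    obtain ⟨l1, e1⟩ := hg t
    obtain ⟨l2, e2⟩ := hh u
    refine sig_inj σ (W g t) (sig_inj σ (W h u) ?_)
    rw [← sig_mul σ (W g t), ← sig_mul σ (W h u), ← mul_assoc, ← (comm2 hc2 t u).1, sig_mul, e2, map_smul,
      e1, smul_smul, map_smul, e2, smul_smul, mul_comm]
  simp only [isTerm, Bool.or_eq_true, decide_eq_true_eq] at hterm hsec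
  obtain ⟨e, he, he0⟩ : ∃ e : ℤ, tm g h = some (r, e) ∧ (e : K) ≠ 0 := by
    rcases hterm with he | he <;> exact ⟨_, he, by simp⟩
  rcases hsec with hnone | hfx
  · have h1 := hfix (w / (e : K)) 1
    have e1 : (T1 g h (w / (e : K)) (1 : K) * T2 g h (w / (e : K)) 1 : GG K) = W r w := by
      simp only [T1, T2, he, hnone, mul_one]
      congr 1
      field_simp
    rwa [e1] at h1
  · have hh72 : h < 72 := by
      simp only [comm2OK, okPair, Bool.and_eq_true, decide_eq_true_eq] at hc2
      exact hc2.1.1.1.1.1.1.1.1.2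
    have h1 := hfix (w / (e : K)) (z1 K)
    have e1 : (T1 g h (w / (e : K)) (z1 K) * T2 g h (w / (e : K)) (z1 K) : GG K) = W r w := by
      simp only [T1, T2, hfx, he, (sym_facts h hh72).2.2.2.2.1 hfx, Int.cast_one, one_mul]
      rw [W_mul, ← mul_add, z1_spec]
      congr 1
      field_simp
    rwa [e1] at h1

variable (R) in
/-- preserving the line -/
def presOK (b : Fin n) (xs F : List ℕ) (g : ℕ) : Bool :=
  okMv R g && ((List.finRange n).all fun k => free R g k (co1 b) && free R (rh g) k (co1 b)) &&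
    xs.all fun x => comm2OK x g && fterm (tm x g) F && fterm (tm x (rh g)) F

variable (R) in
/-- a root derived as a commutator of two stabilisers -/
def derOK (b : Fin n) (xs F : List ℕ) (r g h : ℕ) : Bool :=
  presOK R b xs F g && presOK R b xs F h && comm2OK g h && isTerm (tm g h) r &&
    (decide (tm g (rh h) = none) || decide (rh h = h))

variable (R) in
/-- a list of derivations -/
def dersOK (b : Fin n) (xs : List ℕ) : List ℕ → List (ℕ × ℕ × ℕ) → List ℕ → Bool
  | F, [], goal => goal.all fun r => memF F r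
  | F, (r, g, h) :: rest, goal => derOK R b xs F r g h && dersOK b xs (r :: F) rest goal

theorem memF_fix {F : List ℕ} {r : ℕ} (h : memF F r = true) {v : V}
    (hF : ∀ f ∈ F, ∀ z : K, σ (W f z) v = v) (z : K) : σ (W r z) v = v := by
  simp only [memF, Bool.and_eq_true, Bool.or_eq_true, decide_eq_true_eq, List.contains_iff_mem] at h
  obtain ⟨hr, h | h⟩ := h
  · exact hF r h z
  · obtain ⟨h1, h2, h3, -⟩ := sym_facts r hr
    have := W_rh h1 z
    rw [h2] at this
    rw [this]
    exact hF _ h _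

theorem fterm1 {g h : ℕ} {F : List ℕ} (hz : fterm (tm g h) F = true) {v : V}
    (hF : ∀ f ∈ F, ∀ z : K, σ (W f z) v = v) (t u : K) : σ (T1 g h t u) v = v := by
  unfold T1
  cases e : tm g h with
  | none => simp
  | some p => simp only [fterm, e] at hz; exact memF_fix hz hF _

theorem fterm2 {g h : ℕ} {F : List ℕ} (hz : fterm (tm g (rh h)) F = true) {v : V}
    (hF : ∀ f ∈ F, ∀ z : K, σ (W f z) v = v) (t u : K) : σ (T2 g h t u) v = v := by
  unfold T2
  cases e : tm g (rh h) with
  | none => simp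
  | some p => simp only [fterm, e] at hz; exact memF_fix hz hF _

theorem derive {b : Fin n} {xs : List ℕ} {y : K} {v : V}
    (hdim : finrank ℂ ↥(Esp R σ (Pi.single b y) ⊓ fixS σ xs) ≤ 1)
    (hv : v ∈ Esp R σ (Pi.single b y)) (hx : v ∈ fixS σ xs) (hv0 : v ≠ 0) :
    ∀ (l : List (ℕ × ℕ × ℕ)) (F goal : List ℕ), dersOK R b xs F l goal = true →
      (∀ f ∈ F, ∀ z : K, σ (W f z) v = v) → ∀ r ∈ goal, ∀ z : K, σ (W r z) v = v
  | [], F, goal, h, hF, r, hr, z => by
    simp only [dersOK, List.all_eq_true] at h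
    exact memF_fix (h r hr) hF z
  | (r0, g, h0) :: rest, F, goal, h, hF, r, hr, z => by
    simp only [dersOK, derOK, Bool.and_eq_true] at h
    obtain ⟨⟨⟨⟨⟨hg, hh⟩, hc2⟩, hterm⟩, hsec⟩, hrest⟩ := h
    refine derive hdim hv hx hv0 rest _ goal hrest (fun f hf w => ?_) r hr z
    rcases List.mem_cons.1 hf with hfe | hf
    swap
    · exact hF f hf w
    rw [hfe]
    have hscal : ∀ g', presOK R b xs F g' = true → ∀ s, ∃ l : ℂ, σ (W g' s) v = l • v := by
      intro g' hp s
      simp only [presOK, Bool.and_eq_true, List.all_eq_true] at hp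
      obtain ⟨⟨p1, p2⟩, p3⟩ := hp
      have hm := mv_mem (σ := σ) p1 s hv
      have hz : ∀ l ∈ co1 b, (Pi.single b y : Fin n → K) l = 0 := fun l hl => by
        simp only [co1, List.mem_filter, decide_eq_true_eq] at hl
        exact Pi.single_eq_of_ne hl.2 _
      have efirst : m1 R g' (-s) (Pi.single b y) = Pi.single b y :=
        funext fun k => m1_free (p2 k (List.mem_finRange k)).1 hz _
      have efix : mv R g' s (Pi.single b y) = Pi.single b y := by
        rw [mv, efirst]
        exact funext fun k => m1_free (p2 k (List.mem_finRange k)).2 hz _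
      rw [efix] at hm
      have hm2 : σ (W g' s) v ∈ fixS σ xs := by
        intro x hxm u
        obtain ⟨⟨q1, q2⟩, q3⟩ := p3 x hxm
        rw [← sig_mul, (comm2 q1 u s).1, sig_mul, sig_mul σ (T1 x g' u s), fterm2 q3 hF, fterm1 q2 hF, sig_mul,
          hx x hxm u]
      have hne : (⟨v, hv, hx⟩ : ↥(Esp R σ (Pi.single b y) ⊓ fixS σ xs)) ≠ 0 :=
        fun e => hv0 (congrArg Subtype.val e)
      haveI : Nontrivial ↥(Esp R σ (Pi.single b y) ⊓ fixS σ xs) := ⟨⟨_, _, hne⟩⟩
      have h1 : finrank ℂ ↥(Esp R σ (Pi.single b y) ⊓ fixS σ xs) = 1 :=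
        le_antisymm hdim Module.finrank_pos
      obtain ⟨l, hl⟩ := (finrank_eq_one_iff_of_nonzero' _ hne).1 h1 ⟨_, hm, hm2⟩
      exact ⟨l, (congrArg Subtype.val hl).symm⟩
    exact comm_fix (by simp only [termOK, Bool.and_eq_true]; exact ⟨⟨hc2, hterm⟩, hsec⟩)
      (hscal g hg) (hscal h0 hh) w

end Cfsg.Agent.TwistedE6MinDeg8
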