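import Cfsg.Agent.Lib.TwistedE6Simple

/-!
Root elements of `²E₆(q)` indexed by the roots of `E₆`: `W r t = x_r(t) x_{ρ r}(ε_r t^q)`; commutation and the
conjugation of abelian families of them, checked on the tables.
-/

set_option autoImplicit false
set_option linter.unusedSectionVars false
set_option maxRecDepth 20000

namespace Cfsg.Agent.TwistedE6MinDeg8

open Cfsg.Lie Cfsg.Agent.ChevalleyCert Cfsg.Agent.ChevalleyCore Cfsg.Agent.ChevalleyRoots
  Cfsg.Agent.TwistedCore Cfsg.Agent.TwistedTools Cfsg.Agent.TwistedE6 Cfsg.Agent.ChevWeyl Cfsg.Agent.ChevBruhat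

/-- the symmetry on roots -/
abbrev rh (r : ℕ) : ℕ := ChevalleyGraph.symE6.rho r

/-- its signs -/
abbrev ep (r : ℕ) : ℤ := ChevalleyGraph.symE6.eps r

/-- the only term of the commutator formula -/
def tm (r s : ℕ) : Option (ℕ × ℤ) :=
  match chevE6.commTerms r s with
  | [(l, c, 1, 1)] => some (l, c)
  | _ => none

/-- commuting root elements -/
def zero (r s : ℕ) : Bool :=
  decide (r < 72) && decide (s < 72) && (decide (r = s) ||
    (decide (s ≠ chevE6.neg r) && decide (chevE6.commTerms r s = [])))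

/-- at most one term in the commutator formula -/
def okPair (r s : ℕ) : Bool :=
  decide (r < 72) && decide (s < 72) && decide (s ≠ chevE6.neg r) &&
    (decide (chevE6.commTerms r s = []) || (decide (r ≠ s) &&
      match chevE6.commTerms r s with
      | [(_, c, 1, 1)] => decide (c = 1) || decide (c = -1)
      | _ => false))

theorem sym_facts : ∀ r < 72, rh r < 72 ∧ rh (rh r) = r ∧ ep (rh r) = ep r ∧ (ep r = 1 ∨ ep r = -1) ∧
    (rh r = r → ep r = 1) ∧ zero r (rh r) = true ∧ (36 ≤ r → 36 ≤ rh r) ∧ (r < 36 → rh r < 36) := by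
  decide +kernel

theorem ep_sq {R : Type*} [Ring R] {r : ℕ} (hr : r < 72) : (ep r : R) * (ep r : R) = 1 := by
  rcases (sym_facts r hr).2.2.2.1 with e | e <;> simp [e]

section Plain

variable {K : Type*} [Field K]

/-- the commutator of two root elements -/
noncomputable def PP (r s : ℕ) (t u : K) : GL chevE6.Idx K :=
  match tm r s with
  | none => 1
  | some (l, c) => xg c6 l ((c : K) * t * u)

theorem zero_comm {r s : ℕ} (h : zero r s = true) (t u : K) : Commute (xg c6 r t) (xg c6 s u) := by
  simp only [zero, Bool.and_eq_true, Bool.or_eq_true, decide_eq_true_eq] at h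
  obtain ⟨⟨h1, h2⟩, h3⟩ := h
  by_cases e : r = s
  · subst e
    show _ = _
    rw [xg_mul, xg_mul, add_comm]
  · obtain ⟨h4, h5⟩ := h3.resolve_left e
    exact commute_xg c6 h1 h2 (Ne.symm e) h4 h5 t u

theorem okPair_cases {r s : ℕ} (h : okPair r s = true) : r < 72 ∧ s < 72 ∧ s ≠ chevE6.neg r ∧
    ((chevE6.commTerms r s = [] ∧ tm r s = none) ∨
      ∃ l c, r ≠ s ∧ chevE6.commTerms r s = [(l, c, 1, 1)] ∧ tm r s = some (l, c) ∧ (c = 1 ∨ c = -1)) := by
  simp only [okPair, Bool.and_eq_true, Bool.or_eq_true, decide_eq_true_eq] at h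
  obtain ⟨⟨⟨h1, h2⟩, h3⟩, h4⟩ := h
  refine ⟨h1, h2, h3, ?_⟩
  rcases h4 with h4 | ⟨hne, h4⟩
  · exact Or.inl ⟨h4, by simp [tm, h4]⟩
  · right
    split at h4
    · rename_i l c he
      simp only [Bool.or_eq_true, decide_eq_true_eq] at h4
      exact ⟨l, c, hne, he, by simp [tm, he], h4⟩
    · exact absurd h4 Bool.false_ne_true

theorem swap {r s : ℕ} (h : okPair r s = true) (t u : K) :
    xg c6 r t * xg c6 s u = xg c6 s u * xg c6 r t * PP r s t u := by
  obtain ⟨h1, h2, h3, ⟨h4, h5⟩ | ⟨l, c, hne, h4, h5, -⟩⟩ := okPair_cases h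
  · have hz : zero r s = true := by simp [zero, h1, h2, h3, h4]
    simp [PP, h5, (zero_comm hz t u).eq]
  · have hf := comm_formula c6 (show r < chevE6.nroots from h1) h2 (Ne.symm hne) h3 t u
    simp only [ChevalleyDatum.commWord, h4, List.map_cons, List.map_nil, wg, List.prod_cons, List.prod_nil,
      mul_one, pow_one] at hf
    simp only [PP, h5]
    rw [hf, mul_assoc (xg c6 r t * xg c6 s u), xg_mul]
    rw [show (c : K) * -t * u + (c : K) * t * u = 0 by ring, xg_zero, mul_one]

theorem PP_comm {r s m : ℕ} (h : ∀ l c, tm r s = some (l, c) → zero l m = true) (t u z : K) :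
    Commute (PP r s t u) (xg c6 m z) := by
  unfold PP
  cases e : tm r s with
  | none => exact Commute.one_left _
  | some p =>
    obtain ⟨l, c⟩ := p
    exact zero_comm (h l c e) _ _

theorem PP_comm_PP {r s r' s' : ℕ}
    (h : ∀ l c l' c', tm r s = some (l, c) → tm r' s' = some (l', c') → zero l l' = true) (t u t' u' : K) :
    Commute (PP r s t u) (PP r' s' t' u') := by
  cases e : tm r' s' with
  | none => simp [PP, e]
  | some p =>
    obtain ⟨l', c'⟩ := p
    have := PP_comm (m := l') (fun l c hl => h l c l' c' hl e) t u ((c' : K) * t' * u')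
    simpa [PP, e] using this

end Plain

/-- the field with `q²` elements -/
class Sq (K : Type*) [Field K] [Fintype K] (q : outParam ℕ) : Prop where
  card : Fintype.card K = q ^ 2

variable {K : Type*} [Field K] [Fintype K] {q : ℕ} [Sq K q]

variable (K) in
/-- the field automorphism `t ↦ t^q` -/
noncomputable def fr : K →+* K := (TwistedField.exists_frob (Sq.card (K := K)) two_ne_zero).choose

theorem fr_def (t : K) : fr K t = t ^ q :=
  (TwistedField.exists_frob (Sq.card (K := K)) two_ne_zero).choose_spec t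

theorem fr_fr (t : K) : fr K (fr K t) = t := by
  rw [fr_def, fr_def, ← pow_mul, ← pow_two, ← Sq.card (K := K), FiniteField.pow_card]

/-- the element of a root -/
noncomputable def wv (r : ℕ) (t : K) : GL chevE6.Idx K :=
  xg c6 r t * xg c6 (rh r) ((ep r : K) * fr K t)

theorem wv_fixed {r : ℕ} (hr : r < 72) (t : K) : wv r t ∈ (tw (fr K)).Fixed := by
  obtain ⟨h1, h2, h3, -, -, h6, -⟩ := sym_facts r hr
  refine ⟨mul_mem (xg_mem_group c6 _ _) (xg_mem_group c6 _ _), ?_⟩
  unfold wv
  rw [(tw (fr K)).sg_mul (xg_mem_group c6 _ _) (xg_mem_group c6 _ _), sg_all (fr K) (show r < chevE6.nroots from hr),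
    sg_all (fr K) (show rh r < chevE6.nroots from h1)]
  show xg c6 (rh r) _ * xg c6 (rh (rh r)) ((ep (rh r) : K) * fr K ((ep r : K) * fr K t)) = _
  rw [h2, h3, map_mul, map_intCast, fr_fr, ← mul_assoc, ep_sq hr, one_mul]
  exact (zero_comm h6 _ _).eq.symm

theorem wv_mem {r : ℕ} (hr : r < 72) (t : K) : wv r t ∈ twistedE6 K q := by
  have hfx := wv_fixed hr t
  obtain ⟨h1, -, -, -, -, -, h7, h8⟩ := sym_facts r hr
  have hlt : rh r < chevE6.nroots := h1
  by_cases hp : 36 ≤ r
  · exact (classes (fr K) fr_def Sq.card).fixed_U_le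
      (mul_mem ((tw (fr K)).S.xg_mem_U (((tw (fr K)).X.pos_iff_le hr).2 hp) _)
        ((tw (fr K)).S.xg_mem_U (((tw (fr K)).X.pos_iff_le hlt).2 (h7 hp)) _)) hfx
  · exact (classes (fr K) fr_def Sq.card).fixed_V_le
      (mul_mem ((tw (fr K)).S.xg_mem_V (((tw (fr K)).X.neg_iff_lt hr).2 (not_le.1 hp)) _)
        ((tw (fr K)).S.xg_mem_V (((tw (fr K)).X.neg_iff_lt hlt).2 (h8 (not_le.1 hp))) _)) hfx

/-- the group -/
abbrev GG (K : Type*) [Field K] [Fintype K] {q : ℕ} [Sq K q] : Subgroup (GL chevE6.Idx K) := twistedE6 K q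

/-- the root element in the group -/
noncomputable def W (r : ℕ) (t : K) : GG K := if h : r < 72 then ⟨wv r t, wv_mem h t⟩ else 1

theorem W_coe {r : ℕ} (hr : r < 72) (t : K) : ((W r t : GG K) : GL chevE6.Idx K) = wv r t := by
  rw [W, dif_pos hr]

theorem wv_mul {r : ℕ} (hr : r < 72) (t u : K) : wv r t * wv r u = wv r (t + u) := by
  unfold wv
  rw [map_add, mul_add, ← xg_mul c6, ← xg_mul c6, mul_assoc, ← mul_assoc (xg c6 (rh r) _),
    ← (zero_comm (sym_facts r hr).2.2.2.2.2.1 u _).eq]
  group

theorem W_mul (r : ℕ) (t u : K) : (W r t : GG K) * W r u = W r (t + u) := by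
  by_cases hr : r < 72
  · exact Subtype.ext (by rw [Subgroup.coe_mul, W_coe hr, W_coe hr, W_coe hr, wv_mul hr])
  · simp [W, hr]

theorem W_zero (r : ℕ) : (W r (0 : K) : GG K) = 1 := by
  have h := W_mul r (0 : K) 0
  rw [add_zero] at h
  exact mul_eq_left.1 h

theorem W_inv (r : ℕ) (t : K) : (W r t : GG K)⁻¹ = W r (-t) :=
  inv_eq_of_mul_eq_one_right (by rw [W_mul, add_neg_cancel, W_zero])

theorem W_rh {r : ℕ} (hr : r < 72) (t : K) : (W (rh r) t : GG K) = W r ((ep r : K) * fr K t) := by
  obtain ⟨h1, h2, h3, -, -, h6, -⟩ := sym_facts r hr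
  apply Subtype.ext
  rw [W_coe h1, W_coe hr]
  unfold wv
  rw [h2, h3, map_mul, map_intCast, fr_fr, ← mul_assoc, ep_sq hr, one_mul]
  exact (zero_comm h6 _ _).eq.symm

/-! ### commutators -/

/-- first part of the commutator -/
noncomputable def T1 (g k : ℕ) (t u : K) : GG K :=
  match tm g k with
  | none => 1
  | some (l, c) => W l ((c : K) * t * u)

/-- second part of the commutator -/
noncomputable def T2 (g k : ℕ) (t u : K) : GG K :=
  match tm g (rh k) with
  | none => 1
  | some (l, c) => W l ((c : K) * t * ((ep k : K) * fr K u))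

/-- compatibility of a commutator with the symmetry -/
def symOK (a b : ℕ) : Bool :=
  decide (tm (rh a) (rh b) = (tm a b).map fun p => (rh p.1, ep a * ep b * ep p.1 * p.2)) &&
    (match tm a b with
    | none => true
    | some p => decide (p.1 < 72))

/-- the roots of the four commutators -/
def tms (g k : ℕ) : List ℕ :=
  ([tm g k, tm g (rh k), tm (rh g) k, tm (rh g) (rh k)].filterMap id).map Prod.fst

/-- the hypothesis of the commutator formula of two classes -/
def comm2OK (g k : ℕ) : Bool :=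
  okPair g k && okPair g (rh k) && okPair (rh g) k && okPair (rh g) (rh k) &&
    symOK g k && symOK g (rh k) &&
    (tms g k).all fun l => ([g, rh g, k, rh k] ++ tms g k).all fun m => zero l m

theorem tms_mem {g k a b l : ℕ} {c : ℤ} (hab : (a = g ∨ a = rh g) ∧ (b = k ∨ b = rh k))
    (h : tm a b = some (l, c)) : l ∈ tms g k := by
  simp only [tms, List.mem_map, List.mem_filterMap, id]
  refine ⟨(l, c), ⟨some (l, c), ?_, rfl⟩, rfl⟩
  obtain ⟨rfl | rfl, rfl | rfl⟩ := hab <;> simp [h]

theorem T_coe {g k : ℕ} (hg : g < 72) (hk : k < 72) (h1 : symOK g k = true) (h2 : symOK g (rh k) = true)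
    (t u : K) :
    ((T1 g k t u : GG K) : GL chevE6.Idx K) =
        PP g k t u * PP (rh g) (rh k) ((ep g : K) * fr K t) ((ep k : K) * fr K u) ∧
      ((T2 g k t u : GG K) : GL chevE6.Idx K) =
        PP g (rh k) t ((ep k : K) * fr K u) * PP (rh g) k ((ep g : K) * fr K t) u := by
  obtain ⟨-, e2, e3, -⟩ := sym_facts k hk
  simp only [symOK, Bool.and_eq_true, decide_eq_true_eq, e2, e3] at h1 h2
  have sg : (ep g : K) * (ep g : K) = 1 := ep_sq hg
  have sk : (ep k : K) * (ep k : K) = 1 := ep_sq hk
  constructor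
  · cases e : tm g k with
    | none => simp [T1, PP, e, h1.1]
    | some p =>
      obtain ⟨l, c⟩ := p
      obtain ⟨ha, hl⟩ := h1
      rw [e] at ha hl
      simp only [decide_eq_true_eq] at hl
      simp only [T1, PP, e, ha, Option.map_some, W_coe hl, wv, map_mul, map_intCast]
      congr 2
      push_cast
      linear_combination (-(ep l : K) * c * fr K t * fr K u * (ep k : K) * (ep k : K)) * sg +
        (-(ep l : K) * c * fr K t * fr K u) * sk
  · cases e : tm g (rh k) with
    | none => simp [T2, PP, e, h2.1]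
    | some p =>
      obtain ⟨l, c⟩ := p
      obtain ⟨ha, hl⟩ := h2
      rw [e] at ha hl
      simp only [decide_eq_true_eq] at hl
      simp only [T2, PP, e, ha, Option.map_some, W_coe hl, wv, map_mul, map_intCast, fr_fr]
      congr 2
      push_cast
      linear_combination (-(ep l : K) * c * fr K t * u * (ep k : K)) * sg

theorem comm2 {g k : ℕ} (h : comm2OK g k = true) (t u : K) :
    (W g t : GG K) * W k u = W k u * W g t * (T1 g k t u * T2 g k t u) ∧
      (∀ z, Commute (T1 g k t u) (W g z : GG K)) ∧ (∀ z, Commute (T2 g k t u) (W g z : GG K)) ∧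
      (∀ z, Commute (T1 g k t u) (W k z : GG K)) ∧ (∀ z, Commute (T2 g k t u) (W k z : GG K)) := by
  simp only [comm2OK, Bool.and_eq_true, List.all_eq_true] at h
  obtain ⟨⟨⟨⟨⟨⟨o1, o2⟩, o3⟩, o4⟩, s1⟩, s2⟩, hz⟩ := h
  obtain ⟨hg, hk, -⟩ := okPair_cases o1
  have hP : ∀ {a b}, (a = g ∨ a = rh g) ∧ (b = k ∨ b = rh k) → ∀ m ∈ [g, rh g, k, rh k] ++ tms g k,
      ∀ (x y z : K), Commute (PP a b x y) (xg c6 m z) := fun hab m hm x y z =>
    PP_comm (fun l c e => hz l (tms_mem hab e) m hm) x y z
  have hPP : ∀ {a b a' b'}, (a = g ∨ a = rh g) ∧ (b = k ∨ b = rh k) → (a' = g ∨ a' = rh g) ∧ (b' = k ∨ b' = rh k) →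
      ∀ (x y x' y' : K), Commute (PP a b x y) (PP a' b' x' y') := fun hab hab' x y x' y' =>
    PP_comm_PP (fun l c l' c' e e' => hz l (tms_mem hab e) l' (List.mem_append_right _ (tms_mem hab' e'))) x y x' y'
  obtain ⟨c1, c2⟩ := T_coe hg hk s1 s2 t u
  have hT : ∀ m, (m = g ∨ m = k) → ∀ z,
      Commute ((T1 g k t u : GG K) : GL chevE6.Idx K) (wv m z) ∧
      Commute ((T2 g k t u : GG K) : GL chevE6.Idx K) (wv m z) := by
    intro m hm z
    have hm1 : m ∈ [g, rh g, k, rh k] ++ tms g k := by rcases hm with rfl | rfl <;> simp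
    have hm2 : rh m ∈ [g, rh g, k, rh k] ++ tms g k := by rcases hm with rfl | rfl <;> simp
    rw [c1, c2]
    constructor
    · exact ((hP (by simp) m hm1 _ _ _).mul_right (hP (by simp) _ hm2 _ _ _)).mul_left
        ((hP (by simp) m hm1 _ _ _).mul_right (hP (by simp) _ hm2 _ _ _))
    · exact ((hP (by simp) m hm1 _ _ _).mul_right (hP (by simp) _ hm2 _ _ _)).mul_left
        ((hP (by simp) m hm1 _ _ _).mul_right (hP (by simp) _ hm2 _ _ _))
  refine ⟨?_, fun z => ?_, fun z => ?_, fun z => ?_, fun z => ?_⟩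
  rotate_left
  · exact Subtype.ext (by simpa [W_coe hg] using (hT g (Or.inl rfl) z).1.eq)
  · exact Subtype.ext (by simpa [W_coe hg] using (hT g (Or.inl rfl) z).2.eq)
  · exact Subtype.ext (by simpa [W_coe hk] using (hT k (Or.inr rfl) z).1.eq)
  · exact Subtype.ext (by simpa [W_coe hk] using (hT k (Or.inr rfl) z).2.eq)
  apply Subtype.ext
  simp only [Subgroup.coe_mul, W_coe hg, W_coe hk, c1, c2, wv]
  set t' : K := (ep g : K) * fr K t
  set u' : K := (ep k : K) * fr K u
  set A := xg c6 g t
  set B := xg c6 (rh g) t'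
  set C := xg c6 k u
  set D := xg c6 (rh k) u'
  set P1 := PP g k t u
  set P2 := PP g (rh k) t u'
  set P3 := PP (rh g) k t' u
  set P4 := PP (rh g) (rh k) t' u'
  have e3 : B * C = C * B * P3 := swap o3 t' u
  have e4 : B * D = D * B * P4 := swap o4 t' u'
  have e1 : A * C = C * A * P1 := swap o1 t u
  have e2 : A * D = D * A * P2 := swap o2 t u'
  have z3D : Commute P3 D := hP (by simp) _ (by simp) _ _ _
  have z1D : Commute P1 D := hP (by simp) _ (by simp) _ _ _
  have z1B : Commute P1 B := hP (by simp) _ (by simp) _ _ _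
  have z2B : Commute P2 B := hP (by simp) _ (by simp) _ _ _
  have z21 : Commute P2 P1 := hPP (by simp) (by simp) _ _ _ _
  have z43 : Commute P4 P3 := hPP (by simp) (by simp) _ _ _ _
  have z24 : Commute P2 P4 := hPP (by simp) (by simp) _ _ _ _
  calc A * B * (C * D) = A * (B * C) * D := by group
    _ = A * (C * B * P3) * D := by rw [e3]
    _ = A * C * B * (P3 * D) := by group
    _ = A * C * (B * D) * P3 := by rw [z3D.eq]; group
    _ = A * C * D * B * P4 * P3 := by rw [e4]; group
    _ = C * A * (P1 * D) * B * P4 * P3 := by rw [e1]; group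
    _ = C * (A * D) * (P1 * B) * P4 * P3 := by rw [z1D.eq]; group
    _ = C * D * A * (P2 * B) * P1 * P4 * P3 := by rw [e2, z1B.eq]; group
    _ = C * D * (A * B) * ((P2 * P1) * P4 * P3) := by rw [z2B.eq]; group
    _ = C * D * (A * B) * (P1 * P4 * (P2 * P3)) := by
      rw [z21.eq, mul_assoc P1 P2 P4, z24.eq]; group

/-! ### abelian families -/

/-- an abelian family of root elements, stable under the symmetry -/
def radOK {n : ℕ} (S : Fin n → ℕ) (p : Fin n → Fin n) : Bool :=
  (List.finRange n).all fun i => decide (S i < 72) && decide (S (p i) = rh (S i)) && decide (p (p i) = i) &&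
    (List.finRange n).all fun j => zero (S i) (S j)

/-- an abelian family of root elements, stable under the symmetry -/
structure Rad (n : ℕ) where
  /-- the roots -/
  S : Fin n → ℕ
  /-- the symmetry on the indices -/
  p : Fin n → Fin n
  ok : radOK S p = true

variable {n : ℕ} (R : Rad n)

theorem Rad.spec (i : Fin n) : R.S i < 72 ∧ R.S (R.p i) = rh (R.S i) ∧ R.p (R.p i) = i ∧
    ∀ j, zero (R.S i) (R.S j) = true := by
  have h := R.ok
  simp only [radOK, List.all_eq_true, Bool.and_eq_true, decide_eq_true_eq] at h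
  obtain ⟨⟨⟨h1, h2⟩, h3⟩, h4⟩ := h i (List.mem_finRange i)
  exact ⟨h1, h2, h3, fun j => h4 j (List.mem_finRange j)⟩

theorem Rad.W_comm (i j : Fin n) (t u : K) : Commute (W (R.S i) t : GG K) (W (R.S j) u) := by
  apply Subtype.ext
  simp only [Subgroup.coe_mul, W_coe (R.spec i).1, W_coe (R.spec j).1, wv]
  rw [← (R.spec i).2.1, ← (R.spec j).2.1]
  exact (((zero_comm ((R.spec _).2.2.2 _) _ _).mul_right (zero_comm ((R.spec _).2.2.2 _) _ _)).mul_left
    ((zero_comm ((R.spec _).2.2.2 _) _ _).mul_right (zero_comm ((R.spec _).2.2.2 _) _ _))).eq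

/-- one parameter -/
noncomputable def wh (r : ℕ) : Multiplicative K →* GG K where
  toFun t := W r t.toAdd
  map_one' := W_zero r
  map_mul' a b := (W_mul r a.toAdd b.toAdd).symm

/-- one parameter -/
noncomputable def xh (r : ℕ) : Multiplicative K →* GL chevE6.Idx K where
  toFun t := xg c6 r t.toAdd
  map_one' := xg_zero c6 r
  map_mul' a b := (xg_mul c6 r a.toAdd b.toAdd).symm

/-- the twisted family -/
noncomputable def Rad.U (a : Fin n → K) : GG K :=
  MonoidHom.noncommPiCoprod (fun i => wh (R.S i)) (fun i j _ x y => R.W_comm i j _ _)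
    fun i => Multiplicative.ofAdd (a i)

/-- the untwisted family -/
noncomputable def Rad.U8 (a : Fin n → K) : GL chevE6.Idx K :=
  MonoidHom.noncommPiCoprod (fun i => xh (R.S i)) (fun i j _ x y => zero_comm ((R.spec i).2.2.2 j) _ _)
    fun i => Multiplicative.ofAdd (a i)

theorem U_add (a b : Fin n → K) : (R.U (a + b) : GG K) = R.U a * R.U b := by
  rw [Rad.U, Rad.U, Rad.U, ← map_mul]
  rfl

theorem U8_add (a b : Fin n → K) : R.U8 (a + b) = R.U8 a * R.U8 b := by
  rw [Rad.U8, Rad.U8, Rad.U8, ← map_mul]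
  rfl

theorem ofAdd_single (i : Fin n) (a : K) : (fun j => Multiplicative.ofAdd ((Pi.single i a : Fin n → K) j)) =
    Pi.mulSingle i (Multiplicative.ofAdd a) := by
  funext j
  by_cases h : j = i
  · subst h; simp
  · simp [h]

theorem U_single (i : Fin n) (a : K) : (R.U (Pi.single i a) : GG K) = W (R.S i) a := by
  rw [Rad.U, ofAdd_single]
  exact MonoidHom.noncommPiCoprod_mulSingle _ _ _

theorem U8_single (i : Fin n) (a : K) : R.U8 (Pi.single i a) = xg c6 (R.S i) a := by
  rw [Rad.U8, ofAdd_single]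
  exact MonoidHom.noncommPiCoprod_mulSingle _ _ _

theorem mul_ext {G : Type*} [Group G] {f g : (Fin n → K) → G} (hf : ∀ a b, f (a + b) = f a * f b)
    (hg : ∀ a b, g (a + b) = g a * g b) (h : ∀ i a, f (Pi.single i a) = g (Pi.single i a)) (a : Fin n → K) :
    f a = g a := by
  have f0 : f 0 = 1 := mul_eq_left.1 ((hf 0 0).symm.trans (congrArg f (add_zero 0)))
  have g0 : g 0 = 1 := mul_eq_left.1 ((hg 0 0).symm.trans (congrArg g (add_zero 0)))
  rw [← Finset.univ_sum_single a]
  induction (Finset.univ : Finset (Fin n)) using Finset.induction_on with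
  | empty => rw [Finset.sum_empty, f0, g0]
  | insert i s hi ih => rw [Finset.sum_insert hi, hf, hg, h, ih]

theorem add_ext {A : Type*} [AddCommGroup A] {f g : (Fin n → K) → A} (hf : ∀ a b, f (a + b) = f a + f b)
    (hg : ∀ a b, g (a + b) = g a + g b) (h : ∀ i a, f (Pi.single i a) = g (Pi.single i a)) (a : Fin n → K) :
    f a = g a :=
  Multiplicative.ofAdd.injective (mul_ext (G := Multiplicative A) (f := fun a => Multiplicative.ofAdd (f a))
    (g := fun a => Multiplicative.ofAdd (g a)) (fun a b => by simp [hf]) (fun a b => by simp [hg])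
    (fun i a => by simp [h]) a)

/-- the action of the symmetry on parameters -/
noncomputable def tau (u : Fin n → K) : Fin n → K := fun i => (ep (R.S i) : K) * fr K (u (R.p i))

theorem tau_add (u v : Fin n → K) : tau R (u + v) = tau R u + tau R v := by
  funext i; simp [tau, mul_add]

theorem tau_single (i : Fin n) (a : K) :
    tau R (Pi.single i a) = Pi.single (R.p i) ((ep (R.S i) : K) * fr K a) := by
  obtain ⟨h1, h2, h3, -⟩ := R.spec i
  funext j
  by_cases hj : j = R.p i
  · subst hj
    simp [tau, h3, h2, (sym_facts _ h1).2.2.1]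
  · have : R.p j ≠ i := fun e => hj (by rw [← e, (R.spec j).2.2.1])
    simp [tau, hj, this]

theorem U_coe (u : Fin n → K) : ((R.U u : GG K) : GL chevE6.Idx K) = R.U8 (u + tau R u) := by
  refine mul_ext (f := fun u => ((R.U u : GG K) : GL chevE6.Idx K)) (g := fun u => R.U8 (u + tau R u))
    (fun a b => by rw [U_add, Subgroup.coe_mul]) (fun a b => by rw [← U8_add, tau_add]; congr 1; abel)
    (fun i a => ?_) u
  rw [tau_single, U_single, U8_add, U8_single, U8_single, W_coe (R.spec i).1, (R.spec i).2.1]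
  rfl

/-- the coordinate hit by the commutator with a root -/
def tgt (g : ℕ) (k : Fin n) : Option (Fin n × ℤ) :=
  (tm g (R.S k)).bind fun p => ((List.finRange n).find? fun l => R.S l == p.1).map fun l => (l, p.2)

theorem tgt_some {g : ℕ} {k l : Fin n} {e : ℤ} (h : tgt R g k = some (l, e)) :
    tm g (R.S k) = some (R.S l, e) := by
  simp only [tgt, Option.bind_eq_some_iff, Option.map_eq_some_iff, Prod.mk.injEq] at h
  obtain ⟨⟨r, c⟩, hrc, l', hl', rfl, rfl⟩ := h
  have := List.find?_some hl'
  simp only [beq_iff_eq] at this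
  rw [hrc, this]

/-- a root element normalising the family -/
def okMv (g : ℕ) : Bool :=
  decide (g < 72) && [g, rh g].all fun h => (List.finRange n).all fun k =>
    okPair h (R.S k) &&
    (match tm h (R.S k) with
    | none => true
    | some p => zero h p.1 && zero (R.S k) p.1 && (tgt R h k).isSome) &&
    decide (tgt R (rh h) (R.p k) =
      (tgt R h k).map fun p => (R.p p.1, ep h * ep (R.S k) * ep (R.S p.1) * p.2)) &&
    decide (((tgt R h k).bind fun a => (tgt R (rh h) a.1).map fun b => (b.1, a.2 * b.2)) =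
      ((tgt R (rh h) k).bind fun a => (tgt R h a.1).map fun b => (b.1, a.2 * b.2)))

/-- the increment of a coordinate -/
noncomputable def dd (g : ℕ) (t : K) (k : Fin n) (a : K) : Fin n → K :=
  match tgt R g k with
  | none => 0
  | some (l, e) => Pi.single l ((e : K) * t * a)

theorem dd_add (g : ℕ) (t : K) (k : Fin n) (a b : K) : dd R g t k (a + b) = dd R g t k a + dd R g t k b := by
  unfold dd
  cases tgt R g k with
  | none => simp
  | some p => simp [mul_add, Pi.single_add]

/-- the conjugation by a root element on parameters -/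
noncomputable def M1 (g : ℕ) (t : K) (a : Fin n → K) : Fin n → K := a + ∑ k, dd R g t k (a k)

theorem M1_add (g : ℕ) (t : K) (a b : Fin n → K) : M1 R g t (a + b) = M1 R g t a + M1 R g t b := by
  simp only [M1, Pi.add_apply, dd_add, Finset.sum_add_distrib]
  abel

theorem M1_single (g : ℕ) (t : K) (k : Fin n) (a : K) :
    M1 R g t (Pi.single k a) = Pi.single k a + dd R g t k a := by
  rw [M1, Finset.sum_eq_single k]
  · rw [Pi.single_eq_same]
  · intro j _ hj
    rw [Pi.single_eq_of_ne hj]
    unfold dd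
    cases tgt R g j with
    | none => rfl
    | some p => simp
  · simp

variable {R} {g : ℕ} (hg : okMv R g = true)
include hg

theorem okMv_spec {h : ℕ} (hh : h = g ∨ h = rh g) (k : Fin n) :
    okPair h (R.S k) = true ∧
    (∀ l e, tm h (R.S k) = some (l, e) →
      zero h l = true ∧ zero (R.S k) l = true ∧ (tgt R h k).isSome = true) ∧
    tgt R (rh h) (R.p k) = (tgt R h k).map (fun p => (R.p p.1, ep h * ep (R.S k) * ep (R.S p.1) * p.2)) ∧
    ((tgt R h k).bind fun a => (tgt R (rh h) a.1).map fun b => (b.1, a.2 * b.2)) =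
      ((tgt R (rh h) k).bind fun a => (tgt R h a.1).map fun b => (b.1, a.2 * b.2)) ∧ g < 72 := by
  simp only [okMv, Bool.and_eq_true, List.all_eq_true, decide_eq_true_eq] at hg
  obtain ⟨h72, hall⟩ := hg
  obtain ⟨⟨⟨h1, h2⟩, h3⟩, h4⟩ := hall h (by rcases hh with rfl | rfl <;> simp) k (List.mem_finRange k)
  refine ⟨h1, fun l e he => ?_, h3, h4, h72⟩
  rw [he] at h2
  simp only [Bool.and_eq_true] at h2
  exact ⟨h2.1.1, h2.1.2, h2.2⟩

theorem xg_U8 {h : ℕ} (hh : h = g ∨ h = rh g) (t : K) (a : Fin n → K) :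
    xg c6 h t * R.U8 a = R.U8 (M1 R h t a) * xg c6 h t := by
  have key : xg c6 h t * R.U8 a * (xg c6 h t)⁻¹ = R.U8 (M1 R h t a) := by
    refine mul_ext (f := fun a => xg c6 h t * R.U8 a * (xg c6 h t)⁻¹) (g := fun a => R.U8 (M1 R h t a))
      (fun a b => by rw [U8_add]; group) (fun a b => by rw [M1_add, U8_add]) (fun k x => ?_) a
    obtain ⟨h1, h2, -⟩ := okMv_spec hg hh k
    rw [U8_single, M1_single, U8_add, U8_single, swap h1]
    cases e : tm h (R.S k) with
    | none =>
      have : tgt R h k = none := by simp [tgt, e]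
      have h0 : R.U8 (0 : Fin n → K) = 1 :=
        mul_eq_left.1 ((U8_add R 0 0).symm.trans (congrArg R.U8 (add_zero 0)))
      simp [PP, e, dd, this, h0]
    | some p =>
      obtain ⟨l, c⟩ := p
      obtain ⟨z1, -, hs⟩ := h2 l c e
      obtain ⟨⟨l', c'⟩, hl'⟩ := Option.isSome_iff_exists.1 hs
      obtain ⟨rfl, rfl⟩ := Prod.mk.inj (Option.some.inj (e.symm.trans (tgt_some R hl')))
      simp only [PP, e, dd, hl', U8_single]
      rw [mul_assoc (xg c6 (R.S k) x) (xg c6 h t), (zero_comm z1 t _).eq]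
      group
  rw [← key]; group

theorem tau_M1 {h : ℕ} (hh : h = g ∨ h = rh g) (s : K) (v : Fin n → K) :
    tau R (M1 R h s v) = M1 R (rh h) ((ep h : K) * fr K s) (tau R v) := by
  refine add_ext (f := fun v => tau R (M1 R h s v)) (g := fun v => M1 R (rh h) ((ep h : K) * fr K s) (tau R v))
    (fun a b => by rw [M1_add, tau_add]) (fun a b => by rw [tau_add, M1_add]) (fun k a => ?_) v
  obtain ⟨-, -, h3, -, h72⟩ := okMv_spec hg hh k
  have hh72 : h < 72 := by
    rcases hh with rfl | rfl
    · exact h72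
    · exact (sym_facts g h72).1
  rw [M1_single, tau_add, tau_single, M1_single]
  congr 1
  unfold dd
  rw [h3]
  cases tgt R h k with
  | none => funext i; simp [tau]
  | some p =>
    obtain ⟨l, e⟩ := p
    simp only [Option.map_some, tau_single, map_mul, map_intCast]
    congr 1
    push_cast
    linear_combination (-(ep (R.S l) : K) * e * fr K s * fr K a * (ep (R.S k) : K) * (ep (R.S k) : K)) *
        ep_sq (R := K) hh72 + (-(ep (R.S l) : K) * e * fr K s * fr K a) * ep_sq (R := K) (R.spec k).1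

theorem M1_comm (s s' : K) (v : Fin n → K) :
    M1 R g s (M1 R (rh g) s' v) = M1 R (rh g) s' (M1 R g s v) := by
  refine add_ext (f := fun v => M1 R g s (M1 R (rh g) s' v)) (g := fun v => M1 R (rh g) s' (M1 R g s v))
    (fun a b => by simp only [M1_add]) (fun a b => by simp only [M1_add]) (fun k a => ?_) v
  obtain ⟨-, -, -, h4, -⟩ := okMv_spec hg (Or.inl rfl) k
  simp only [M1_single, M1_add]
  have e0 : ∀ h t, M1 R h t (0 : Fin n → K) = 0 := fun h t => by
    have := M1_add R h t 0 0; rw [add_zero] at this; exact left_eq_add.1 this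
  have key : ∀ (h h' : ℕ) (t t' : K), M1 R h t (dd R h' t' k a) = dd R h' t' k a +
      (match ((tgt R h' k).bind fun x => (tgt R h x.1).map fun y => (y.1, x.2 * y.2)) with
      | none => 0
      | some (m, e) => Pi.single m ((e : K) * (t * t') * a)) := by
    intro h h' t t'
    unfold dd
    cases tgt R h' k with
    | none => simp [e0]
    | some p =>
      obtain ⟨l, e⟩ := p
      rw [M1_single]
      unfold dd
      simp only [Option.bind_some]
      cases tgt R h l with
      | none => simp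
      | some b => simp only [Option.map_some, Int.cast_mul]; congr 2; ring
  rw [key, key, h4, mul_comm s' s]
  abel

omit hg in
/-- the conjugation by `W g s` on parameters -/
noncomputable def Ms (R : Rad n) (g : ℕ) (s : K) (a : Fin n → K) : Fin n → K :=
  M1 R g s (M1 R (rh g) ((ep g : K) * fr K s) a)

theorem W_U (s : K) (u : Fin n → K) : (W g s : GG K) * R.U u = R.U (Ms R g s u) * W g s := by
  rcases Nat.eq_zero_or_pos n with rfl | hn
  · have h1 : ∀ v : Fin 0 → K, (R.U v : GG K) = 1 := fun v => by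
      rw [Subsingleton.elim v 0]
      exact mul_eq_left.1 ((U_add R 0 0).symm.trans (congrArg R.U (add_zero 0)))
    simp [h1]
  obtain ⟨-, -, -, -, h72⟩ := okMv_spec hg (Or.inl rfl) ⟨0, hn⟩
  have hemb : Ms R g s u + tau R (Ms R g s u) = Ms R g s (u + tau R u) := by
    unfold Ms
    rw [M1_add, M1_add]
    congr 1
    rw [tau_M1 hg (Or.inl rfl), tau_M1 hg (Or.inr rfl), (sym_facts g h72).2.1, (sym_facts g h72).2.2.1,
      map_mul, map_intCast, fr_fr, ← mul_assoc, ep_sq h72, one_mul, M1_comm hg]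
  apply Subtype.ext
  simp only [Subgroup.coe_mul, W_coe h72, U_coe, hemb, wv]
  rw [mul_assoc, xg_U8 hg (Or.inr rfl), ← mul_assoc, xg_U8 hg (Or.inl rfl), mul_assoc]
  rfl

end Cfsg.Agent.TwistedE6MinDeg8
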