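import Cfsg.Agent.Lib.TwistedE6MinDeg8Radical

/-!
The tables for the minimal degree of `²E₆(q)`: four eight-dimensional families with their cells, links and pairs,
two smaller families for the second and third level.
-/

set_option autoImplicit false
set_option maxRecDepth 20000

namespace Cfsg.Agent.TwistedE6MinDeg8

/-- an eight-dimensional family with its cells, links and pairs -/
structure Top where
  /-- the family -/
  R : Rad 8
  /-- the moves of the cells -/
  l0 : List (ℕ × Fin 8)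
  /-- the moves of the cells -/
  l1 : List (ℕ × Fin 8)
  /-- the moves of the cells -/
  l2 : List (ℕ × Fin 8)
  /-- the moves of the cells -/
  l5 : List (ℕ × Fin 8)
  /-- the moves of the cells -/
  l6 : List (ℕ × Fin 8)
  /-- the links -/
  k01 : ℕ × ℕ
  /-- the links -/
  k10 : ℕ × ℕ
  /-- the links -/
  k02 : ℕ × ℕ
  /-- the links -/
  k05 : ℕ × ℕ
  /-- the links -/
  k06 : ℕ × ℕ
  /-- the links -/
  k17 : ℕ × ℕ
  /-- two pairs at the first coordinate -/
  P1 : List (ℕ × ℕ × Fin 8)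
  /-- three pairs at the first and last coordinates -/
  P2 : List (ℕ × ℕ × Fin 8)

/-- the cells -/
def Top.cells (T : Top) : List (Fin 8 × List (ℕ × Fin 8)) :=
  [(0, T.l0), (1, T.l1), (2, T.l2), (5, T.l5), (6, T.l6), (7, [])]

/-- the middle coordinates -/
def mid : List (Fin 8) := [1, 2, 3, 4, 5, 6]

/-- the check of the family -/
def Top.ok (T : Top) : Bool :=
  cellsOK T.R T.cells && chainOK T.R 0 [] T.l0 &&
    (mid.all fun k => T.l0.any fun p => decide (p.2 = k) || decide (T.R.p p.2 = k)) &&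
    decide (wsum T.R T.l0 = 6) && decide (wsum T.R T.l1 = 5) && decide (wsum T.R T.l2 = 4) &&
    decide (wsum T.R T.l5 = 2) && decide (wsum T.R T.l6 = 1) &&
    linkOK T.R T.k01.1 T.k01.2 0 1 && linkOK T.R T.k10.1 T.k10.2 1 0 && linkOK T.R T.k02.1 T.k02.2 0 2 &&
    linkOK T.R T.k05.1 T.k05.2 0 5 && linkOK T.R T.k06.1 T.k06.2 0 6 && linkOK T.R T.k17.1 T.k17.2 1 7 &&
    psOK T.R (co1 0) T.P1 && decide (T.P1.length = 2) && (T.P1.all fun p => decide (p.2.2 = 0)) &&
    psOK T.R mid T.P2 && decide (T.P2.length = 3) &&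
    (T.P2.all fun p => decide (p.2.2 = 0) || decide (p.2.2 = 7))

/-- an auxiliary family with derivations -/
structure Aux where
  /-- the family -/
  T : Top
  /-- derivations of roots fixing the line -/
  ders : List (ℕ × ℕ × ℕ)
  /-- roots fixing the vector -/
  goal : List ℕ

/-- the check of the auxiliary family -/
def Aux.ok (A : Aux) : Bool :=
  A.T.ok && dersOK A.T.R 0 (A.T.P1.map Prod.fst)
    ((co1 (0 : Fin 8)).map A.T.R.S ++ A.T.P1.map Prod.fst) A.ders A.goal

/-- the family of the first level -/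
def t8 : Rad 8 := ⟨![71, 63, 65, 66, 68, 69, 70, 60], ![0, 1, 2, 4, 3, 5, 6, 7], by decide +kernel⟩

/-- the family of the second level -/
def t6 : Rad 6 := ⟨![53, 51, 48, 50, 47, 46], ![0, 1, 3, 2, 4, 5], by decide +kernel⟩

/-- the family of the third level -/
def t4 : Rad 4 := ⟨![44, 40, 43, 39], ![0, 2, 1, 3], by decide +kernel⟩

/-- the top family -/
def T8 : Top where
  R := t8
  l0 := [(53, 1), (51, 2), (50, 3), (47, 5), (46, 6)]
  l1 := [(32, 2), (31, 3), (27, 5), (46, 7)]
  l2 := [(34, 3), (27, 6), (47, 7)]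
  l5 := [(32, 6), (51, 7)]
  l6 := [(53, 7)]
  k01 := (53, 18)
  k10 := (18, 53)
  k02 := (51, 20)
  k05 := (47, 24)
  k06 := (46, 25)
  k17 := (46, 25)
  P1 := [(49, 55, 0), (52, 54, 0)]
  P2 := [(36, 45, 7), (38, 41, 7), (49, 55, 0)]

/-- the auxiliary family of the second level -/
def A2 : Aux where
  T :=
    { R := ⟨![53, 44, 51, 55, 67, 70, 71, 69], ![0, 1, 2, 4, 3, 5, 6, 7], by decide +kernel⟩
      l0 := [(47, 1), (39, 2), (33, 3), (11, 5), (8, 6)]
      l1 := [(25, 2), (22, 3), (6, 5), (8, 7)]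
      l2 := [(30, 3), (6, 6), (11, 7)]
      l5 := [(25, 6), (39, 7)]
      l6 := [(47, 7)]
      k01 := (47, 24)
      k10 := (24, 47)
      k02 := (39, 32)
      k05 := (11, 60)
      k06 := (8, 63)
      k17 := (8, 63)
      P1 := [(48, 40, 0), (54, 15, 0)]
      P2 := [(15, 54, 0), (37, 66, 7), (40, 48, 0)] }
  ders := [(37, 13, 59), (46, 13, 61), (52, 13, 68), (59, 37, 58), (65, 41, 61), (66, 41, 62), (32, 13, 57),
    (60, 38, 58), (63, 38, 61)]
  goal := [71, 63, 65, 66, 68, 69, 70, 60, 51, 48, 50, 46]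

/-- the auxiliary family of the top of the third level -/
def A3 : Aux where
  T :=
    { R := ⟨![44, 51, 53, 55, 67, 69, 70, 71], ![0, 1, 2, 4, 3, 5, 6, 7], by decide +kernel⟩
      l0 := [(25, 1), (24, 2), (22, 3), (8, 5), (6, 6)]
      l1 := [(32, 2), (30, 3), (11, 5), (6, 7)]
      l2 := [(33, 3), (11, 6), (8, 7)]
      l5 := [(32, 6), (24, 7)]
      l6 := [(25, 7)]
      k01 := (25, 46)
      k10 := (46, 25)
      k02 := (24, 47)
      k05 := (8, 63)
      k06 := (6, 65)
      k17 := (6, 65)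
      P1 := [(40, 37, 0), (45, 15, 0)]
      P2 := [(15, 45, 0), (37, 40, 0), (48, 66, 7)] }
  ders := [(39, 14, 58), (48, 14, 62), (54, 14, 68), (52, 38, 50), (60, 38, 58), (66, 38, 64), (47, 14, 61),
    (63, 38, 61), (65, 41, 61)]
  goal := [71, 63, 65, 66, 68, 69, 70, 60, 53, 51, 48, 50, 47, 40, 43, 39]

/-- the auxiliary family of the bottom of the third level -/
def A3b : Aux where
  T :=
    { R := ⟨![39, 47, 53, 54, 64, 65, 70, 71], ![0, 1, 2, 4, 3, 5, 6, 7], by decide +kernel⟩
      l0 := [(25, 1), (20, 2), (19, 3), (8, 5), (2, 6)]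
      l1 := [(27, 2), (26, 3), (11, 5), (2, 7)]
      l2 := [(35, 3), (11, 6), (8, 7)]
      l5 := [(27, 6), (20, 7)]
      l6 := [(25, 7)]
      k01 := (25, 46)
      k10 := (46, 25)
      k02 := (20, 51)
      k05 := (8, 63)
      k06 := (2, 69)
      k17 := (2, 69)
      P1 := [(40, 29, 0), (41, 14, 0)]
      P2 := [(14, 41, 0), (29, 40, 0), (48, 66, 7)] }
  ders := [(44, 15, 59), (50, 15, 61), (55, 15, 66), (49, 36, 48), (60, 36, 59), (68, 36, 67), (51, 15, 62),
    (63, 36, 62), (69, 45, 62)]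
  goal := [71, 63, 65, 66, 68, 69, 70, 60, 53, 51, 48, 50, 47, 44, 40, 43]

/-- the cells of the second level -/
def cells6 : List (Fin 6 × List (ℕ × Fin 6)) :=
  [(0, [(39, 1), (43, 2), (44, 4)]), (1, [(42, 2), (44, 5)]), (4, [(39, 5)]), (5, [])]

/-- the cells of the third level -/
def cells4 : List (Fin 4 × List (ℕ × Fin 4)) := [(0, [(42, 1)]), (3, [])]

/-- the check of the second and third level -/
def lowOK : Bool :=
  cellsOK t6 cells6 && cellsOK t4 cells4 &&
    linkOK t6 39 32 0 1 && linkOK t6 32 39 1 0 && linkOK t6 44 27 0 4 && linkOK t6 44 27 1 5 &&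
    stepOK t6 44 0 4 (co2 0 4) (co1 4) &&
    ([39, 32, 43, 44, 27, 42, 40, 29, 34, 37].all fun g => okMv t8 g) && okMv t6 42 &&
    ([37, 43, 29].all fun g => okMv t6 g &&
      (List.finRange 6).all fun k => free t6 g k (co1 5) && free t6 (rh g) k (co1 5)) &&
    okMv t6 44 && okMv t6 39 && ([53, 51, 48, 50, 47, 46].all fun g => okMv t8 g) &&
    linkOK t6 27 44 5 1 &&
    termOK 37 43 44 && termOK 29 43 39

theorem T8_ok : T8.ok = true := by decide +kernel

theorem A2_ok : A2.ok = true := by decide +kernel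

theorem A3_ok : A3.ok = true := by decide +kernel

theorem A3b_ok : A3b.ok = true := by decide +kernel

theorem low_ok : lowOK = true := by decide +kernel

end Cfsg.Agent.TwistedE6MinDeg8
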