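import Cfsg.Agent.Lib.TwistedF4Node53
import Cfsg.Agent.Lib.TwistedD4Cover77

/-!
`²F₄(q)`, `q ≥ 8`: every nontrivial element is a product of two conjugates of an element of odd order of the
fixed Levi subgroup of type B₂ (a generator of the central torus times an element of order five).
-/

set_option autoImplicit false
set_option linter.unusedSectionVars false
set_option maxRecDepth 20000

namespace Cfsg.Agent.TwistedF4Cover53

open Cfsg.Lie Cfsg.Agent.ChevalleyCert Cfsg.Agent.ChevalleyCore Cfsg.Agent.ChevalleyRoots Cfsg.Agent.ChevalleyTorus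
  Cfsg.Agent.ChevalleyUnipotent Cfsg.Agent.TwistedCore Cfsg.Agent.TwistedTools Cfsg.Agent.TwistedF4Classes
  Cfsg.Agent.GaussPrescribed77 Cfsg.Agent.ChevalleyParabolic
open Cfsg.Agent.SuzukiGroupBasic (Param sg tg)
open Cfsg.Agent.SuzukiGroupStructure (Ts Hs Ws)
open Cfsg.Agent.TwistedD4Cover77 (ConjIn InCC cover_core)

variable {K : Type*} [Field K] [Fintype K] [CharP K 2] (m : ℕ) (hK : Fintype.card K = 2 ^ (2 * m + 1))

local notation "ε" => (2 ^ m : ℕ)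
local notation "GG" => twistedF4 K (2 ^ m)

/-! ### the central torus is fixed-point-free on the radical -/

/-- the coefficients of the positive roots -/
def rootTab : List (List ℤ) :=
  [[0, 0, 0, 1], [0, 0, 1, 0], [0, 0, 1, 1], [0, 1, 0, 0], [0, 1, 1, 0], [0, 1, 1, 1], [0, 2, 1, 0], [0, 2, 1, 1],
   [0, 2, 2, 1], [1, 0, 0, 0], [1, 1, 0, 0], [1, 1, 1, 0], [1, 1, 1, 1], [1, 2, 1, 0], [1, 2, 1, 1], [1, 2, 2, 1],
   [1, 3, 2, 1], [2, 2, 1, 0], [2, 2, 1, 1], [2, 2, 2, 1], [2, 3, 2, 1], [2, 4, 2, 1], [2, 4, 3, 1], [2, 4, 3, 2]]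

theorem rootTab_ok : ∀ j : Fin 24,
    (∀ i < 4, chevF4.cartan i (j.val + 24) =
      (rootTab.getD j.val []).getD 0 0 * chevF4.cartan i (chevF4.simple 0) +
      (rootTab.getD j.val []).getD 1 0 * chevF4.cartan i (chevF4.simple 1) +
      (rootTab.getD j.val []).getD 2 0 * chevF4.cartan i (chevF4.simple 2) +
      (rootTab.getD j.val []).getD 3 0 * chevF4.cartan i (chevF4.simple 3)) ∧
    (0 ≤ (rootTab.getD j.val []).getD 0 0 ∧ (rootTab.getD j.val []).getD 0 0 ≤ 2) ∧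
    (0 ≤ (rootTab.getD j.val []).getD 3 0 ∧ (rootTab.getD j.val []).getD 3 0 ≤ 2) ∧
    ((0 < (rootTab.getD j.val []).getD 0 0 ∨ 0 < (rootTab.getD j.val []).getD 3 0) ∨
      ((chevF4.coroot.getD (j.val + 24) #[]).getD 0 0 = 0 ∧ (chevF4.coroot.getD (j.val + 24) #[]).getD 3 0 = 0)) := by
  decide +kernel

variable [hP : Param K m]

include hK in
theorem fix_zeta {d : Kˣ} (hd : orderOf d = 2 ^ (2 * m + 1) - 1) {w : GL chevF4.Idx K} (hw : w ∈ UJ m JB)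
    (h : emb m hK (d, 1) * w = w * emb m hK (d, 1)) : w = 1 := by
  obtain ⟨t, ht, hc, h1, e⟩ := exists_H m hK d 1
  rw [SuzukiGroupStructure.Hs_one] at e
  rw [e] at h
  obtain ⟨r0, r2⟩ := X_rel m hK ht
  rw [h1, one_pow] at r2
  rw [cOf, h1, one_pow, mul_one, mul_one] at hc
  obtain ⟨s, u, hsu⟩ := (mem_HH m hK).1 ht
  obtain ⟨f, hf⟩ := ChevTorusCentralizer77.fixed_U cf (tp m s u) (UJ_le m JB hw).1 (by
    rw [show torus chevF4 (tp m s u) = t from hsu]; exact h)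
  have hlevi : w ∈ chevF4.leviSubgroup K JB := by
    rw [hf]
    refine Subgroup.list_prod_mem _ fun g hg => ?_
    obtain ⟨r, hr, rfl⟩ := List.mem_map.1 hg
    simp only [ChevTorusCentralizer77.fixRoots, List.mem_filter, List.mem_range'_1, decide_eq_true_eq] at hr
    obtain ⟨⟨hr1, hr2⟩, hv⟩ := hr
    have hn : chevF4.nroots = 48 := by decide +kernel
    rw [hn] at hr1 hr2
    obtain ⟨j, rfl⟩ : ∃ j : Fin 24, r = j.val + 24 := ⟨⟨r - 24, by omega⟩, by simp only; omega⟩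
    obtain ⟨hlin, ⟨a0, a0'⟩, ⟨a3, a3'⟩, hcase⟩ := rootTab_ok j
    generalize ha : (rootTab.getD j.val []).getD 0 0 = a at hlin a0 a0' hcase
    generalize hb : (rootTab.getD j.val []).getD 3 0 = b at hlin a3 a3' hcase
    refine xg_levi (inB.2 ⟨by rw [hn]; omega, ?_⟩) _
    refine hcase.resolve_left fun hpos => ?_
    have x : ∀ i, i < chevF4.rank → tchar chevF4 (tp m s u) (chevF4.simple i) = X i t := fun i hi => by
      rw [← hsu, X_torus hi]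
    rw [tchar_lin (tp m s u) hlin, x 0 (by decide), x 1 (by decide), x 2 (by decide), x 3 (by decide), h1, r2,
      one_zpow, one_zpow, mul_one, mul_one, r0] at hv
    obtain ⟨a', rfl⟩ := Int.eq_ofNat_of_zero_le a0
    obtain ⟨b', rfl⟩ := Int.eq_ofNat_of_zero_le a3
    rw [zpow_natCast, zpow_natCast, ← pow_mul, ← pow_add] at hv
    have hd' : d ^ (ε * a' + b') = 1 := by
      rw [← hc, r0, ← pow_mul, mul_comm, pow_mul, hv, one_pow]
    have h0 : ε * a' + b' ≠ 0 := by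
      have : 1 ≤ ε := Nat.one_le_two_pow
      rcases hpos with hp | hp
      · have : 1 ≤ ε * a' := Nat.one_le_iff_ne_zero.2 (Nat.mul_ne_zero (by omega) (by omega))
        omega
      · omega
    refine pow_ne_one_of_lt_orderOf h0 ?_ hd'
    rw [hd]
    have h1' : 2 ^ (2 * m + 1) = ε * ε * 2 := by rw [pow_succ, two_mul, pow_add]
    have h2' : 2 ≤ ε := le_self_pow₀ (by norm_num) (by have := SuzukiGroupBasic.one_le (F := K) (m := m); omega)
    have h3' : ε * a' ≤ ε * 2 := Nat.mul_le_mul_left _ (by omega)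
    have h4' : 2 * ε ≤ ε * ε := Nat.mul_le_mul_right _ h2'
    omega
  have := Subgroup.mem_inf.2 ⟨hw.1, hlevi⟩
  rwa [radical_inf_levi cf, Subgroup.mem_bot] at this

include hK in
theorem fix_emb {d : Kˣ} {T : ↥(Cfsg.Sz K m)} (hT : T ^ 5 = 1) (hd : orderOf (d ^ 5) = 2 ^ (2 * m + 1) - 1)
    {w : GL chevF4.Idx K} (hw : w ∈ UJ m JB) (h : emb m hK (d, T) * w = w * emb m hK (d, T)) : w = 1 := by
  refine fix_zeta m hK hd hw ?_
  have := ((show Commute (emb m hK (d, T)) w from h).pow_left 5).eq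
  rwa [← map_pow, Prod.pow_mk, hT] at this

/-! ### the Suzuki group -/

theorem sz_corner {c : Kˣ} (hc : c ≠ 1) (S : ↥(Cfsg.Sz K m)) (hK : Fintype.card K = 2 ^ (2 * m + 1)) :
    ∃ (P : ↥(Cfsg.Sz K m)) (a b : K) (k : Kˣ) (e f : K),
      P * S * P⁻¹ = Ws * Ts a b * Ws⁻¹ * Hs k * Ts e f ∧ k * k ^ (2 ^ m) ≠ c := by
  by_cases hS : S = 1
  · refine ⟨1, 0, 0, 1, 0, 0, ?_, by simpa using Ne.symm hc⟩
    rw [hS, SuzukiGroupStructure.Ts_zero, SuzukiGroupStructure.Hs_one]; group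
  obtain ⟨t, ht1, htc⟩ : ∃ t : Kˣ, t ≠ 1 ∧ (t * t) * (t * t) ^ (2 ^ m) ≠ c := by
    obtain ⟨x, hx0, hx1⟩ := SuzukiGroupBasic.exists_ne_zero_one (F := K) (m := m)
    set y := Units.mk0 x hx0 with hy
    have hy1 : y ≠ 1 := fun h => hx1 (by simpa [hy] using congrArg Units.val h)
    have hy2 : y * y ≠ 1 := fun h => hy1 (Units.ext (sq_one (by simpa using congrArg Units.val h)))
    by_contra hcon
    push Not at hcon
    have hcop : (Nat.card Kˣ).Coprime (2 ^ m * 2 + 2) := by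
      rw [TwistedField.card_units_eq, hK]
      exact (coprime_exp m).symm
    have e : powCoprime hcop y = powCoprime hcop (y * y) := by
      have k : ∀ z : Kˣ, z * z * (z * z) ^ (2 ^ m) = z ^ (2 ^ m * 2 + 2) := fun z => by
        rw [← pow_two, ← pow_mul, ← pow_add]; ring_nf
      show y ^ (2 ^ m * 2 + 2) = (y * y) ^ (2 ^ m * 2 + 2)
      rw [← k, ← k, hcon y hy1, hcon (y * y) hy2]
    exact hy1 (mul_left_cancel (a := y) (by rw [mul_one]; exact ((powCoprime hcop).injective e).symm))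
  have hx : (Hs t : ↥(Cfsg.Sz K m)) ^ 2 ≠ 1 := by
    rw [pow_two, SuzukiGroupStructure.Hs_mul]
    intro h
    have h' := congrArg Units.val (SuzukiGroupStructure.Hs_injective (h.trans SuzukiGroupStructure.Hs_one.symm))
    exact ht1 (Units.ext (sq_one (by simpa using h')))
  obtain ⟨u, v, hS⟩ := SuzukiGroupCover.exists_conj_mul hx hS
  have hinv : ∀ k : Kˣ, (Hs k : ↥(Cfsg.Sz K m))⁻¹ = Hs k⁻¹ := fun k => inv_eq_of_mul_eq_one_right (by
    rw [SuzukiGroupStructure.Hs_mul, mul_inv_cancel, SuzukiGroupStructure.Hs_one])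
  have push : ∀ (k : Kˣ) (a b : K), ∃ a' b', (Hs k : ↥(Cfsg.Sz K m))⁻¹ * Ts a b * Hs k = Ts a' b' := fun k a b =>
    ⟨_, _, by
      have := SuzukiGroupStructure.Hs_Ts (m := m) k⁻¹ a b
      rwa [← hinv, inv_inv] at this⟩
  obtain ⟨w, hw⟩ : ∃ w, w = u⁻¹ * v := ⟨_, rfl⟩
  have hS' : u⁻¹ * S * u = Hs t * (w * Hs t * w⁻¹) := by rw [hS, hw]; group
  rcases SuzukiGroupStructure.bruhat w with hb | ⟨a, b, s, hs, hwe⟩
  · obtain ⟨a, b, k, rfl⟩ := SuzukiGroupStructure.fix_inf_iff.1 hb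
    obtain ⟨a', b', h1⟩ := push t a b
    refine ⟨u⁻¹, 0, 0, t * t, a' + a, b' + (b + sg m a * a) + sg m a' * a, ?_, htc⟩
    have hcomm : (Hs k : ↥(Cfsg.Sz K m)) * Hs t * (Hs k)⁻¹ = Hs t := by
      rw [hinv, SuzukiGroupStructure.Hs_mul, SuzukiGroupStructure.Hs_mul]; congr 1; rw [mul_comm k t, mul_inv_cancel_right]
    rw [SuzukiGroupStructure.Ts_zero, ← SuzukiGroupStructure.Hs_mul, ← SuzukiGroupStructure.Ts_mul, ← h1,
      ← SuzukiGroupStructure.Ts_inv, inv_inv, hS']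
    calc Hs t * (Ts a b * Hs k * Hs t * (Ts a b * Hs k)⁻¹)
        = Hs t * (Ts a b * (Hs k * Hs t * (Hs k)⁻¹) * (Ts a b)⁻¹) := by group
      _ = _ := by rw [hcomm]; group
  · obtain ⟨x, y, k, rfl⟩ := SuzukiGroupStructure.fix_inf_iff.1 hs
    have hcomm : (Hs k : ↥(Cfsg.Sz K m)) * Hs t * (Hs k)⁻¹ = Hs t := by
      rw [hinv, SuzukiGroupStructure.Hs_mul, SuzukiGroupStructure.Hs_mul]; congr 1; rw [mul_comm k t, mul_inv_cancel_right]
    obtain ⟨x', y', h1⟩ := push t⁻¹ x (y + sg m x * x)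
    obtain ⟨a', b', h2⟩ := push t a (b + sg m a * a)
    rw [← SuzukiGroupStructure.Ts_inv] at h1 h2
    set X := (Ws : ↥(Cfsg.Sz K m)) * Ts x y * Hs t * (Ts x y)⁻¹ * Ws⁻¹ with hX
    refine ⟨X * ((Ts a b)⁻¹ * u⁻¹), x + x', y + y' + sg m x * x', 1, a' + a, b' + b + sg m a' * a, ?_,
      by simpa using Ne.symm hc⟩
    rw [SuzukiGroupStructure.Hs_one, mul_one, ← SuzukiGroupStructure.Ts_mul, ← SuzukiGroupStructure.Ts_mul, ← h1,
      ← h2, hinv, inv_inv]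
    have hWH : (Ws : ↥(Cfsg.Sz K m)) * Hs t * Ws⁻¹ = Hs t⁻¹ := SuzukiGroupStructure.Ws_Hs t
    have hw' : w * Hs t * w⁻¹ = Ts a b * X * (Ts a b)⁻¹ := by
      rw [hwe, hX]
      calc Ts a b * Ws * (Ts x y * Hs k) * Hs t * (Ts a b * Ws * (Ts x y * Hs k))⁻¹
          = Ts a b * Ws * Ts x y * (Hs k * Hs t * (Hs k)⁻¹) * (Ts x y)⁻¹ * Ws⁻¹ * (Ts a b)⁻¹ := by group
        _ = _ := by rw [hcomm]; group
    have e2 : X * ((Ts a b)⁻¹ * u⁻¹) * S * (X * ((Ts a b)⁻¹ * u⁻¹))⁻¹ = X * ((Ts a b)⁻¹ * Hs t * Ts a b) := by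
      calc X * ((Ts a b)⁻¹ * u⁻¹) * S * (X * ((Ts a b)⁻¹ * u⁻¹))⁻¹
          = X * (Ts a b)⁻¹ * (u⁻¹ * S * u) * Ts a b * X⁻¹ := by group
        _ = _ := by rw [hS', hw']; group
    have e3 : X = Ws * (Ts x y * ((Hs t : ↥(Cfsg.Sz K m)) * (Ts x y)⁻¹ * (Hs t)⁻¹)) * Ws⁻¹ * (Ws * Hs t * Ws⁻¹) := by
      rw [hX]; group
    rw [e2, e3, hWH, ← hinv t]; group

variable [Finite (GL chevF4.Idx K)]

include hK in
theorem cOf_step (t : Kˣ) : cOf m (tor m t 1) = t ^ (ε * 2) * ((t ^ ε)⁻¹ * ((t ^ ε)⁻¹) ^ ε) := by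
  obtain ⟨t0, t1, -, -⟩ := tp_chars (K := K) m t 1
  rw [cOf, t0, t1, one_pow, one_pow, inv_one, mul_one, mul_one, one_mul, ← pow_mul]

include hK in
theorem step_surj (c : Kˣ) : ∃ t : Kˣ, cOf m (tor m t 1) = c := by
  let f : Kˣ →* Kˣ := MonoidHom.mk' (fun t => cOf m (tor m t 1)) fun a b => by
    show cOf m (tor m (a * b) 1) = _
    rw [← cOf_mul m hK (tor_mem m hK a 1) (tor_mem m hK b 1), tor, tor, tor, ← map_mul, ← tp_mul, one_mul]
  have hinj : Function.Injective f := by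
    rw [injective_iff_map_eq_one]
    intro t ht
    change cOf m (tor m t 1) = 1 at ht
    rw [cOf_step m hK] at ht
    obtain ⟨s, hs⟩ : ∃ s, s = t ^ ε := ⟨_, rfl⟩
    rw [pow_mul, ← hs, inv_pow, ← mul_inv, mul_inv_eq_one, pow_two] at ht
    have h1 : s ^ ε = s := (mul_left_cancel ht).symm
    have h2 : s ^ 2 = s := by
      have := (units_twist m hK s).1
      rwa [h1, pow_mul, h1] at this
    have h3 : s = 1 := by rw [pow_two] at h2; exact mul_eq_left.1 h2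
    exact eps_inj m hK (by rw [← hs, h3, one_pow])
  exact (Finite.injective_iff_surjective.1 hinj) c

include hK in
/-- the middle of a form -/
theorem middle {v h u : GL chevF4.Idx K} (hv : v ∈ VV m) (hh : h ∈ HH m) (hu : u ∈ UU m) :
    ∃ v0 ∈ VJ m JB, ∃ u0 ∈ UJ m JB, ∃ S, v * h * u = v0 * emb m hK (cOf m h, S) * u0 := by
  obtain ⟨a, b, w, hw, rfl⟩ := V_split_B m hK hv
  obtain ⟨a', b', w', hw', rfl⟩ := U_split_B m hK hu
  refine ⟨w, hw, w', hw', Ws * Ts a b * Ws⁻¹ * Hs (X 1 h) * Ts a' b', ?_⟩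
  conv_lhs => rw [← emb_H m hK hh]
  rw [show (cOf m h, Ws * Ts a b * Ws⁻¹ * Hs (X 1 h) * Ts a' b') =
    ((1, Ws * Ts a b * Ws⁻¹) : Kˣ × ↥(Cfsg.Sz K m)) * (cOf m h, Hs (X 1 h)) * (1, Ts a' b') by simp, map_mul,
    map_mul]
  group

include hK in
theorem cover (hm : 1 ≤ m) : ∃ x ∈ GG, Odd (orderOf x) ∧ ∀ g ∈ GG, g ≠ 1 → InCC GG x g := by
  obtain ⟨γ, hγ⟩ := IsCyclic.exists_generator (α := Kˣ)
  have hoγ : orderOf γ = 2 ^ (2 * m + 1) - 1 := by
    rw [orderOf_eq_card_of_forall_mem_zpowers hγ, TwistedField.card_units_eq, hK]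
  have h5dvd : 5 ∣ Nat.card ↥(Cfsg.Sz K m) := by
    rw [SuzukiGroupStructure.natCard_Sz]
    refine Dvd.dvd.mul_right (Dvd.dvd.mul_left ?_ _) _
    rw [← pow_mul, show (2 * m + 1) * 2 = 4 * m + 2 by ring, pow_add, pow_mul]
    simp [Nat.dvd_iff_mod_eq_zero, Nat.add_mod, Nat.mul_mod, Nat.pow_mod]
  have h5 : ¬ 5 ∣ 2 ^ (2 * m + 1) - 1 := by
    intro h
    obtain ⟨j, hj⟩ := h
    have h1 : 2 ^ (2 * m + 1) = 5 * j + 1 := by have := Nat.one_le_two_pow (n := 2 * m + 1); omega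
    have h2 : 2 ^ (2 * m + 1) * 2 ^ (2 * m + 1) % 5 = 4 := by
      rw [← pow_add, show 2 * m + 1 + (2 * m + 1) = 4 * m + 2 by ring, pow_add, pow_mul]
      simp [Nat.mul_mod, Nat.pow_mod]
    rw [h1] at h2
    simp [Nat.mul_mod, Nat.add_mod] at h2
  haveI : Fact (Nat.Prime 5) := ⟨by norm_num⟩
  obtain ⟨S₀, hS₀⟩ := exists_prime_orderOf_dvd_card' 5 h5dvd
  have hsemi : SuzukiGroupGow.Semi S₀ := fun h => by rw [hS₀] at h; norm_num at h
  have hsq : S₀ ^ 2 ≠ 1 := fun h => by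
    have := orderOf_dvd_of_pow_eq_one h
    rw [hS₀] at this; norm_num at this
  have hpow : S₀ ^ 5 = 1 := hS₀ ▸ pow_orderOf_eq_one S₀
  have hord : orderOf (γ ^ 5) = 2 ^ (2 * m + 1) - 1 := by
    rw [Nat.Coprime.orderOf_pow ?_, hoγ]
    rw [hoγ, Nat.coprime_comm, Nat.Prime.coprime_iff_not_dvd (by norm_num)]
    exact h5
  have hord' : orderOf ((γ⁻¹) ^ 5) = 2 ^ (2 * m + 1) - 1 := by rw [inv_pow, orderOf_inv, hord]
  set x := emb m hK (γ, S₀) with hx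
  have hGe : ∀ p, emb m hK p ∈ GG := fun p => (emb_mem m hK p).2
  refine ⟨x, hGe _, ?_, fun g hg hne => ?_⟩
  · have h1 : x ^ ((2 ^ (2 * m + 1) - 1) * 5) = 1 := by
      rw [hx, ← map_pow, Prod.pow_mk]
      conv_lhs => rw [show γ ^ ((2 ^ (2 * m + 1) - 1) * 5) = 1 by rw [← hoγ, pow_mul, pow_orderOf_eq_one, one_pow],
        show S₀ ^ ((2 ^ (2 * m + 1) - 1) * 5) = 1 by rw [mul_comm, pow_mul, hpow, one_pow]]
      exact map_one _
    refine Odd.of_dvd_nat ?_ (orderOf_dvd_of_pow_eq_one h1)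
    refine Odd.mul ?_ ⟨2, by norm_num⟩
    exact Nat.Even.sub_odd Nat.one_le_two_pow ((Nat.even_pow' (by omega)).2 even_two) odd_one
  -- the middle with trivial scalar
  obtain ⟨k, hk, v, hv, u, hu, hform⟩ : ∃ k ∈ GG, ∃ v ∈ VJ m JB, ∃ u ∈ UJ m JB, ∃ S,
      k * g * k⁻¹ = v * emb m hK (1, S) * u := by
    obtain ⟨k, hk, v, hv, h, hh, u, hu, e⟩ := exists_form m hK hg
    obtain ⟨v0, hv0, u0, hu0, S, e0⟩ := middle m hK hv hh hu
    rw [e0] at e
    by_cases hc : cOf m h = 1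
    · exact ⟨k, hk, v0, hv0, u0, hu0, S, by rw [e, hc]⟩
    obtain ⟨P, a, b, k', a', b', hP, hne'⟩ := sz_corner m hc S hK
    obtain ⟨h', hh', hc', hk', eh⟩ := exists_H m hK (cOf m h) k'
    obtain ⟨hPL, hPG⟩ := emb_mem m hK (1, P)
    set E := emb m hK (1, P) with hE
    have hα : X 3 h' ≠ 1 := by
      intro h3
      apply hne'
      obtain ⟨r0, -⟩ := X_rel m hK hh'
      rw [h3, one_pow] at r0
      rw [← hc', cOf, r0, hk', one_mul]
    have e1 : E * emb m hK (cOf m h, S) * E⁻¹ =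
        emb m hK (1, Ws * Ts a b * Ws⁻¹) * h' * emb m hK (1, Ts a' b') := by
      rw [hE, ← eh, ← map_inv, ← map_mul, ← map_mul, ← map_mul, ← map_mul]
      congr 1
      ext1
      · simp
      · simp only [Prod.snd_mul, Prod.snd_inv]; rw [hP]
    have k1 := normV m hPL hPG hv0
    have k2 := normU m hPL hPG hu0
    obtain ⟨t, ht⟩ := step_surj m hK (cOf m h')⁻¹
    obtain ⟨_, ⟨A, rfl⟩, v', hv', u', hu', e2⟩ := (nodeP m hK).step (v := E * v0 * E⁻¹ * emb m hK (1, Ws * Ts a b * Ws⁻¹))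
      (h := h') (u := emb m hK (1, Ts a' b') * (E * u0 * E⁻¹))
      (mul_mem (VJ_le m _ k1) (loT_mem m hK a b)) hh' (mul_mem (upT_mem m hK a' b') (UJ_le m _ k2)) (Or.inl hα) t
    have hdia : (nodeP m hK).φ (dia t) = tor m t 1 := phiP_dia m t
    rw [hdia] at e2
    have hh2 : tor m t 1 * h' ∈ HH m := mul_mem (tor_mem m hK t 1) hh'
    obtain ⟨v1, hv1, u1, hu1, S1, e4⟩ := middle m hK hv' hh2 hu'
    rw [cOf_mul m hK (tor_mem m hK t 1) hh', ht, inv_mul_cancel, ← e2] at e4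
    refine ⟨(nodeP m hK).φ A * (E * k), mul_mem (phiP_mem m A) (mul_mem hPG hk), v1, hv1, u1, hu1, S1, ?_⟩
    rw [← e4]
    calc (nodeP m hK).φ A * (E * k) * g * ((nodeP m hK).φ A * (E * k))⁻¹
        = (nodeP m hK).φ A * (E * (k * g * k⁻¹) * E⁻¹) * ((nodeP m hK).φ A)⁻¹ := by group
      _ = _ := by
        rw [e, show E * (v0 * emb m hK (cOf m h, S) * u0) * E⁻¹ =
          (E * v0 * E⁻¹) * (E * emb m hK (cOf m h, S) * E⁻¹) * (E * u0 * E⁻¹) by group, e1]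
        group
  obtain ⟨S, hform⟩ := hform
  -- the two factors of the middle
  obtain ⟨P, Q, hPQ⟩ : ∃ P Q : ↥(Cfsg.Sz K m), S = (P * S₀ * P⁻¹) * (Q * S₀ * Q⁻¹) := by
    by_cases hS : S = 1
    · obtain ⟨Q, hQ⟩ := isConj_iff.1 (SuzukiGroupTrace.isConj_of_trM hsemi (SuzukiGroupTrace.trM_inv hsemi))
      exact ⟨1, Q, by rw [hQ, hS]; group⟩
    · exact SuzukiGroupCover.exists_conj_mul hsq hS
  refine InCC.of_conj hk ?_
  rw [hform, show emb m hK (1, S) = emb m hK (γ, P * S₀ * P⁻¹) * emb m hK (γ⁻¹, Q * S₀ * Q⁻¹) by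
    rw [← map_mul, hPQ]; simp]
  have hn0 : n0 K ∈ GG := n0_mem m
  refine cover_core (le_trans (VJ_le m JB) (VV_le m)) inf_le_right
    ⟨emb m hK (1, P), hGe _, by rw [hx, ← map_inv, ← map_mul, ← map_mul]; simp⟩ ?_
    (fun w hw => normV m (emb_mem m hK _).1 (hGe _) hw) (fun w hw hcm => ?_)
    (fun w hw => normU m (emb_mem m hK _).1 (hGe _) hw) (fun w hw hcm => ?_) hv hu
  · refine ⟨emb m hK (1, Q * Ws) * n0 K, mul_mem (hGe _) hn0, ?_⟩
    rw [hx, show emb m hK (1, Q * Ws) * n0 K * emb m hK (γ, S₀) * (emb m hK (1, Q * Ws) * n0 K)⁻¹ =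
      emb m hK (1, Q * Ws) * (n0 K * emb m hK (γ, S₀) * (n0 K)⁻¹) * (emb m hK (1, Q * Ws))⁻¹ by group,
      n0_emb m hK, ← map_inv, ← map_mul, ← map_mul]
    congr 1
    ext1
    · simp
    · simp only [Prod.snd_mul, Prod.snd_inv]
      calc Q * S₀ * Q⁻¹ = Q * (Ws * Ws) * S₀ * (Ws * Ws)⁻¹ * Q⁻¹ := by
            rw [SuzukiGroupStructure.Ws_mul_Ws]; group
        _ = _ := by group
  · obtain ⟨z, hz, rfl⟩ := (mem_VJ m).1 hw
    have h1 : n0 K * emb m hK (γ⁻¹, Ws * (P * S₀ * P⁻¹) * Ws⁻¹) * (n0 K)⁻¹ = emb m hK (γ, P * S₀ * P⁻¹) := by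
      rw [n0_emb m hK, inv_inv]
      congr 2
      calc Ws * (Ws * (P * S₀ * P⁻¹) * Ws⁻¹) * Ws⁻¹ = (Ws * Ws) * (P * S₀ * P⁻¹) * (Ws * Ws)⁻¹ := by group
        _ = _ := by rw [SuzukiGroupStructure.Ws_mul_Ws]; group
    have hz1 : z = 1 := by
      refine fix_emb m hK (d := γ⁻¹) (T := Ws * (P * S₀ * P⁻¹) * Ws⁻¹) ?_ hord' hz ?_
      · rw [conj_pow, conj_pow, hpow]; group
      · rw [← h1] at hcm
        exact mul_left_cancel (a := n0 K) (mul_right_cancel (b := (n0 K)⁻¹) (by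
          calc n0 K * (emb m hK (γ⁻¹, Ws * (P * S₀ * P⁻¹) * Ws⁻¹) * z) * (n0 K)⁻¹ =
              n0 K * emb m hK (γ⁻¹, Ws * (P * S₀ * P⁻¹) * Ws⁻¹) * (n0 K)⁻¹ * (n0 K * z * (n0 K)⁻¹) := by group
            _ = _ := by rw [hcm]; group))
    rw [hz1]; group
  · exact fix_emb m hK (d := γ⁻¹) (by rw [conj_pow, hpow]; group) hord' hw hcm

end Cfsg.Agent.TwistedF4Cover53
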