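import Cfsg.Agent.Lib.TwistedF4Simple
import Cfsg.Agent.Lib.ChevGauss77
import Cfsg.Agent.Lib.ChevalleyParabolic
import Cfsg.Agent.Lib.ChevTorusCentralizer77

/-!
`²F₄(q)`: the fixed torus by two fundamental characters, the element of the long word, the unipotent parts and
the two kinds of radicals.
-/

set_option autoImplicit false
set_option linter.unusedSectionVars false
set_option maxRecDepth 20000

namespace Cfsg.Agent.TwistedF4Cover53

open Cfsg.Lie Cfsg.Agent.ChevalleyCert Cfsg.Agent.ChevalleyCore Cfsg.Agent.ChevalleyRoots Cfsg.Agent.ChevalleyTorus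
  Cfsg.Agent.ChevalleyUnipotent Cfsg.Agent.TwistedCore Cfsg.Agent.TwistedTools Cfsg.Agent.TwistedF4Classes
  Cfsg.Agent.ChevalleyParabolic
open Cfsg.Agent.ChevWeyl (cor)

variable {K : Type*} [Field K] [Fintype K] [CharP K 2] (m : ℕ)

local notation "ε" => (2 ^ m : ℕ)
local notation "GG" => twistedF4 K (2 ^ m)

theorem sq_one {e : K} (h : e * e = 1) : e = 1 := CharTwo.sq_inj.mp (by rw [pow_two, h, one_pow])

/-! ### the torus -/

/-- the torus element of parameters `(s, u)` -/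
noncomputable abbrev tor (s u : Kˣ) : GL chevF4.Idx K := torus chevF4 (tp m s u)

/-- the diagonal elements -/
noncomputable def HH : Subgroup (GL chevF4.Idx K) := chevF4.diagonalSubgroup K ⊓ GG

/-- the value at a fundamental root -/
noncomputable def X (i : ℕ) (h : GL chevF4.Idx K) : Kˣ := ChevGauss77.rootVal chevF4 (chevF4.simple i) h

theorem X_torus {i : ℕ} (hi : i < chevF4.rank) (c : Fin chevF4.rank → Kˣ) :
    X i (torus chevF4 c) = tchar chevF4 c (chevF4.simple i) :=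
  ChevGauss77.rootVal_torus (simple_lt cf hi) c

theorem X_mul {i : ℕ} (hi : i < chevF4.rank) {g h : GL chevF4.Idx K} (hg : g ∈ HH m) (hh : h ∈ HH m) :
    X i (g * h) = X i g * X i h :=
  ChevGauss77.rootVal_mul cf (simple_lt cf hi) hg.1 hh.1

theorem X_one {i : ℕ} (hi : i < chevF4.rank) : X i (1 : GL chevF4.Idx K) = 1 := by
  rw [← map_one (torus chevF4 (F := K)), X_torus hi]
  simp [tchar]

theorem X_inv {i : ℕ} (hi : i < chevF4.rank) {g : GL chevF4.Idx K} (hg : g ∈ HH m) :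
    X i g⁻¹ = (X i g)⁻¹ := by
  have := X_mul m hi (inv_mem hg) hg
  rw [inv_mul_cancel, X_one hi] at this
  exact eq_inv_of_mul_eq_one_left this.symm

variable (hK : Fintype.card K = 2 ^ (2 * m + 1))

include hK in
theorem tor_mem (s u : Kˣ) : tor m s u ∈ HH m := ⟨torus_mem_H cf _, torus_tp_mem m hK s u⟩

include hK in
theorem mem_HH {h : GL chevF4.Idx K} : h ∈ HH m ↔ ∃ s u : Kˣ, tor m s u = h := H1_iff m hK

theorem tp_chars (s u : Kˣ) :
    X 0 (tor m s u) = (s ^ ε) ^ 2 * (u ^ ε)⁻¹ ∧ X 1 (tor m s u) = (u ^ ε) ^ 2 * (s ^ ε * u)⁻¹ ∧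
    X 2 (tor m s u) = u ^ 2 * ((u ^ ε) ^ 2 * s)⁻¹ ∧ X 3 (tor m s u) = s ^ 2 * u⁻¹ := by
  obtain ⟨t0, t1, t2, t3⟩ := tchar_simples (tp m s u)
  refine ⟨?_, ?_, ?_, ?_⟩ <;> rw [X_torus (by decide)]
  · rw [t0]; simp [tp]
  · rw [t1]; simp [tp]
  · rw [t2]; simp [tp]
  · rw [t3]; simp [tp]

include hK in
theorem eps_inj {a b : Kˣ} (h : a ^ ε = b ^ ε) : a = b := by
  rw [← (units_twist m hK a).1, ← (units_twist m hK b).1, h]

include hK in
theorem X_rel {h : GL chevF4.Idx K} (hh : h ∈ HH m) : X 0 h = X 3 h ^ ε ∧ X 2 h = X 1 h ^ (ε * 2) := by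
  obtain ⟨s, u, rfl⟩ := (mem_HH m hK).1 hh
  obtain ⟨t0, t1, t2, t3⟩ := tp_chars (K := K) m s u
  rw [t0, t1, t2, t3]
  constructor
  · rw [mul_pow, inv_pow, pow_right_comm]
  · have e : ((u ^ ε) ^ 2) ^ (ε * 2) = u ^ 2 := by rw [pow_right_comm, (units_twist m hK u).1]
    rw [mul_pow, inv_pow, mul_pow, e, (units_twist m hK s).1, pow_mul u, mul_comm s]

include hK in
theorem H_ext {g h : GL chevF4.Idx K} (hg : g ∈ HH m) (hh : h ∈ HH m) (h0 : X 0 g = X 0 h) (h1 : X 1 g = X 1 h) :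
    g = h := by
  have hd := mul_mem hg (inv_mem hh)
  have x0 : X 0 (g * h⁻¹) = 1 := by
    rw [X_mul m (by decide) hg (inv_mem hh), X_inv m (by decide) hh, h0, mul_inv_cancel]
  have x1 : X 1 (g * h⁻¹) = 1 := by
    rw [X_mul m (by decide) hg (inv_mem hh), X_inv m (by decide) hh, h1, mul_inv_cancel]
  obtain ⟨r0, r2⟩ := X_rel m hK hd
  rw [x1, one_pow] at r2
  rw [x0] at r0
  have x3 : X 3 (g * h⁻¹) = 1 := eps_inj m hK (by rw [← r0, one_pow])
  obtain ⟨s, u, e⟩ := (mem_HH m hK).1 hd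
  rw [← e] at x0 x1 r2 x3
  rw [← mul_inv_eq_one, ← e, tor, torus_eq_one_iff cf]
  intro i
  have hi : i = nd 0 ∨ i = nd 1 ∨ i = nd 2 ∨ i = nd 3 := by revert i; decide
  rcases hi with rfl | rfl | rfl | rfl <;> rw [← X_torus (Fin.isLt _)]
  · exact x0
  · exact x1
  · exact r2
  · exact x3

include hK in
theorem H_exists (a b : Kˣ) : ∃ h ∈ HH m, X 0 h = a ∧ X 1 h = b := by
  let f : Kˣ × Kˣ → Kˣ × Kˣ := fun p => (X 0 (tor m p.1 p.2), X 1 (tor m p.1 p.2))
  have hinj : Function.Injective f := by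
    intro p p' h
    have e := H_ext m hK (tor_mem m hK p.1 p.2) (tor_mem m hK p'.1 p'.2) (congrArg Prod.fst h)
      (congrArg Prod.snd h)
    have e' : torus chevF4 (tp m p.1 p.2 * (tp m p'.1 p'.2)⁻¹) = 1 := by
      rw [map_mul, map_inv, mul_inv_eq_one]; exact e
    have h2 := torus_inj e'
    have a := congrFun h2 (nd 3)
    have b := congrFun h2 (nd 2)
    simp only [tp, Pi.mul_apply, Pi.inv_apply, Pi.one_apply, List.getD_cons_succ, List.getD_cons_zero,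
      mul_inv_eq_one] at a b
    exact Prod.ext a b
  obtain ⟨⟨s, u⟩, hp⟩ := (Finite.injective_iff_surjective.1 hinj) (a, b)
  exact ⟨tor m s u, tor_mem m hK s u, congrArg Prod.fst hp, congrArg Prod.snd hp⟩

/-- the scalar of a diagonal element on the layer -/
noncomputable def cOf (h : GL chevF4.Idx K) : Kˣ := X 0 h * (X 1 h * X 1 h ^ ε)

include hK in
theorem cOf_mul {g h : GL chevF4.Idx K} (hg : g ∈ HH m) (hh : h ∈ HH m) :
    cOf m (g * h) = cOf m g * cOf m h := by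
  rw [cOf, cOf, cOf, X_mul m (by decide) hg hh, X_mul m (by decide) hg hh, mul_pow]
  ac_rfl

/-- a value of the characters as a product of the fundamental values -/
theorem tchar_lin (c : Fin chevF4.rank → Kˣ) {r : ℕ} {a b d e : ℤ}
    (h : ∀ i < 4, chevF4.cartan i r = a * chevF4.cartan i (chevF4.simple 0) + b * chevF4.cartan i (chevF4.simple 1) +
      d * chevF4.cartan i (chevF4.simple 2) + e * chevF4.cartan i (chevF4.simple 3)) :
    tchar chevF4 c r = tchar chevF4 c (chevF4.simple 0) ^ a * tchar chevF4 c (chevF4.simple 1) ^ b *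
      tchar chevF4 c (chevF4.simple 2) ^ d * tchar chevF4 c (chevF4.simple 3) ^ e := by
  simp only [tchar, ← Finset.prod_zpow, ← Finset.prod_mul_distrib, ← zpow_mul, ← zpow_add]
  refine Finset.prod_congr rfl fun i _ => ?_
  rw [h i.val i.isLt]
  congr 1
  ring

/-! ### the long word -/

/-- the long word -/
def w0 : List ℕ := (List.replicate 4 [0, 3, 1, 2, 1, 2]).flatten

theorem w0_lt : ∀ i ∈ w0, i < chevF4.rank := by decide

theorem wact_w0 : ∀ r < chevF4.nroots, ChevalleyTorus.wact (D := chevF4) w0 r = chevF4.neg r := by decide +kernel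

/-- the element of the long word -/
noncomputable def n0 (K : Type*) [Field K] : GL chevF4.Idx K := nword cf w0

theorem n0_mem : n0 K ∈ GG := by
  obtain ⟨e0, e1, e2, e3, -⟩ := roots_eq
  have h : ns cf 0 * ns cf 3 * (ns cf 1 * ns cf 2 * ns cf 1 * ns cf 2) ∈ GG := by
    have h1 : ns cf 0 * ns cf 3 = (cnF false : GL chevF4.Idx K) := by
      show ng cf (chevF4.simple 0) 1 * ng cf (chevF4.simple 3) 1 = _
      rw [e0, e3]; rfl
    have h2 : ns cf 1 * ns cf 2 * ns cf 1 * ns cf 2 = (cnF true : GL chevF4.Idx K) := by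
      show ng cf (chevF4.simple 1) 1 * ng cf (chevF4.simple 2) 1 * ng cf (chevF4.simple 1) 1 *
        ng cf (chevF4.simple 2) 1 = _
      rw [e1, e2]; rfl
    rw [h1, h2]
    exact mul_mem (cnF_mem m false) (cnF_mem m true)
  have := mul_mem (mul_mem (mul_mem h h) h) h
  simpa [n0, nword, w0, List.replicate_succ, mul_assoc] using this

theorem n0_conj {r : ℕ} (hr : r < chevF4.nroots) (t : K) :
    n0 K * xg cf r t * (n0 K)⁻¹ = xg cf (chevF4.neg r) t := by
  obtain ⟨e, he, h⟩ := nword_conj cf (F := K) w0_lt hr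
  have := h t
  rwa [wact_w0 r hr, sq_one he, one_mul] at this

theorem n0_conj' {r : ℕ} (hr : r < chevF4.nroots) (t : K) :
    (n0 K)⁻¹ * xg cf r t * n0 K = xg cf (chevF4.neg r) t := by
  have h := n0_conj (K := K) (cf.neg_lt r) t
  rw [neg_neg' cf hr] at h
  rw [← h]
  group

theorem n0_mono : n0 K ∈ chevF4.monomialSubgroup K := nword_mem cf w0_lt

theorem torus_ext {c c' : Fin chevF4.rank → Kˣ}
    (h : ∀ i : Fin chevF4.rank, tchar chevF4 c (chevF4.simple i.val) = tchar chevF4 c' (chevF4.simple i.val)) :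
    torus chevF4 c = torus chevF4 c' := by
  rw [← mul_inv_eq_one, ← map_inv, ← map_mul, torus_eq_one_iff cf]
  intro i
  have : tchar chevF4 (c * c'⁻¹) (chevF4.simple i.val) * tchar chevF4 c' (chevF4.simple i.val) =
      tchar chevF4 c (chevF4.simple i.val) := by
    rw [← tchar_mul, inv_mul_cancel_right]
  rw [h i] at this
  exact mul_eq_right.1 this

theorem n0_torus (c : Fin chevF4.rank → Kˣ) :
    n0 K * torus chevF4 c * (n0 K)⁻¹ = (torus chevF4 c)⁻¹ := by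
  have hH : n0 K * torus chevF4 c * (n0 K)⁻¹ ∈ chevF4.diagonalSubgroup K :=
    (Subgroup.mem_normalizer_iff.1 (N_le_normalizer_H cf n0_mono) _).1 (torus_mem_H cf c)
  obtain ⟨c', hc'⟩ := (mem_H_iff cf).1 hH
  rw [← hc', ← map_inv]
  refine torus_ext fun i => ?_
  have hs := simple_lt cf i.isLt
  have h0 := n0_conj (K := K) (cf.neg_lt (chevF4.simple i.val))
  simp only [neg_neg' cf hs] at h0
  have e1 : torus chevF4 c' * xg cf (chevF4.simple i.val) (1 : K) * (torus chevF4 c')⁻¹ =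
      xg cf (chevF4.simple i.val) (tchar chevF4 c (chevF4.neg (chevF4.simple i.val)) : K) := by
    rw [hc', ← mul_one (tchar chevF4 c (chevF4.neg (chevF4.simple i.val)) : K), ← h0 (_ * 1),
      ← torus_conj_xg cf (cf.neg_lt _) c 1, ← h0 1]
    group
  rw [torus_conj_xg cf hs, mul_one] at e1
  have h2 := Units.ext (ChevBruhatInstance.xg_injective cf hs hs (Units.ne_zero _) e1).2
  rw [h2, ChevGauss77.tchar_neg cf c hs]
  symm
  rw [← mul_eq_one_iff_eq_inv, ← tchar_mul, inv_mul_cancel]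
  simp [tchar]

include hK in
theorem n0_HH {h : GL chevF4.Idx K} (hh : h ∈ HH m) : n0 K * h * (n0 K)⁻¹ = h⁻¹ := by
  obtain ⟨s, u, rfl⟩ := (mem_HH m hK).1 hh
  exact n0_torus _

/-! ### unipotent parts -/

/-- the positive unipotent elements -/
noncomputable def UU : Subgroup (GL chevF4.Idx K) := chevF4.posUnipotent K ⊓ GG

/-- the negative unipotent elements -/
noncomputable def VV : Subgroup (GL chevF4.Idx K) := (UU m).map (MulAut.conj (n0 K)).toMonoidHom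

/-- the unipotent radical of a class -/
noncomputable def UJ (J : Set ℕ) : Subgroup (GL chevF4.Idx K) := chevF4.unipotentRadical K J ⊓ GG

/-- the negative radical of a class -/
noncomputable def VJ (J : Set ℕ) : Subgroup (GL chevF4.Idx K) := (UJ m J).map (MulAut.conj (n0 K)).toMonoidHom

theorem mem_VV {v : GL chevF4.Idx K} : v ∈ VV m ↔ ∃ u ∈ UU m, n0 K * u * (n0 K)⁻¹ = v := by
  simp [VV, Subgroup.mem_map]

theorem mem_VJ {J : Set ℕ} {v : GL chevF4.Idx K} : v ∈ VJ m J ↔ ∃ u ∈ UJ m J, n0 K * u * (n0 K)⁻¹ = v := by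
  simp [VJ, Subgroup.mem_map]

theorem UJ_le (J : Set ℕ) : UJ (K := K) m J ≤ UU m :=
  inf_le_inf_right _ (Subgroup.closure_mono fun _ ⟨r, t, hr, _, h⟩ => ⟨r, t, hr, h⟩)

theorem VJ_le (J : Set ℕ) : VJ (K := K) m J ≤ VV m := Subgroup.map_mono (UJ_le m J)

theorem VV_le : VV (K := K) m ≤ GG := by
  intro v hv
  obtain ⟨u, hu, rfl⟩ := (mem_VV m).1 hv
  exact mul_mem (mul_mem (n0_mem m) hu.2) (inv_mem (n0_mem m))

theorem UU_conj {h : GL chevF4.Idx K} (hh : h ∈ HH m) {w : GL chevF4.Idx K} (hw : w ∈ UU m) :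
    h * w * h⁻¹ ∈ UU m :=
  Subgroup.mem_inf.2 ⟨(Subgroup.mem_normalizer_iff.1 (H_le_normalizer_U cf hh.1) w).1 hw.1,
    mul_mem (mul_mem hh.2 hw.2) (inv_mem hh.2)⟩

/-- the nodes of the pair class -/
def JP : Set ℕ := {0, 3}

/-- the nodes of the class of type B₂ -/
def JB : Set ℕ := {1, 2}

theorem inP {r : ℕ} : chevF4.InRootSub JP r ↔ r < chevF4.nroots ∧ (chevF4.coroot.getD r #[]).getD 1 0 = 0 ∧
    (chevF4.coroot.getD r #[]).getD 2 0 = 0 := by
  refine and_congr_right fun _ => ⟨fun h => ⟨h 1 (by decide) (by simp [JP]), h 2 (by decide) (by simp [JP])⟩,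
    fun h i hi hn => ?_⟩
  rw [show chevF4.rank = 4 from rfl] at hi
  interval_cases i <;> first | exact h.1 | exact h.2 | simp [JP] at hn

theorem inB {r : ℕ} : chevF4.InRootSub JB r ↔ r < chevF4.nroots ∧ (chevF4.coroot.getD r #[]).getD 0 0 = 0 ∧
    (chevF4.coroot.getD r #[]).getD 3 0 = 0 := by
  refine and_congr_right fun _ => ⟨fun h => ⟨h 0 (by decide) (by simp [JB]), h 3 (by decide) (by simp [JB])⟩,
    fun h i hi hn => ?_⟩
  rw [show chevF4.rank = 4 from rfl] at hi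
  interval_cases i <;> first | exact h.1 | exact h.2 | simp [JB] at hn

theorem pos_levi' : ∀ r : Fin 48, 24 ≤ r.val →
    ((chevF4.coroot.getD r.val #[]).getD 1 0 ≠ 0 ∨ (chevF4.coroot.getD r.val #[]).getD 2 0 ≠ 0 ∨ r.val = 33 ∨
      r.val = 24) ∧
    ((chevF4.coroot.getD r.val #[]).getD 0 0 ≠ 0 ∨ (chevF4.coroot.getD r.val #[]).getD 3 0 ≠ 0 ∨ r.val = 27 ∨
      r.val = 25 ∨ r.val = 28 ∨ r.val = 30) := by
  decide +kernel

theorem pos_levi (r : ℕ) (hr : r < chevF4.nroots) (h : chevF4.nroots / 2 ≤ r) :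
    ((chevF4.coroot.getD r #[]).getD 1 0 = 0 → (chevF4.coroot.getD r #[]).getD 2 0 = 0 → r = f4p1 ∨ r = f4p4) ∧
    ((chevF4.coroot.getD r #[]).getD 0 0 = 0 → (chevF4.coroot.getD r #[]).getD 3 0 = 0 → r ∈ bl) := by
  obtain ⟨a, b⟩ := pos_levi' ⟨r, hr⟩ h
  have hv : f4p1 = 33 ∧ f4p4 = 24 ∧ bl = [27, 25, 28, 30] := by decide +kernel
  obtain ⟨v1, v2, v3⟩ := hv
  rw [v1, v2, v3]
  refine ⟨fun h1 h2 => (a.resolve_left (not_not_intro h1)).resolve_left (not_not_intro h2), fun h0 h3 => ?_⟩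
  simpa using (b.resolve_left (not_not_intro h0)).resolve_left (not_not_intro h3)

theorem rho_zero : ∀ r < chevF4.nroots,
    (((chevF4.coroot.getD (ChevExcGraphData.excF4.rho r) #[]).getD 1 0 = 0 ∧
        (chevF4.coroot.getD (ChevExcGraphData.excF4.rho r) #[]).getD 2 0 = 0) →
      ((chevF4.coroot.getD r #[]).getD 1 0 = 0 ∧ (chevF4.coroot.getD r #[]).getD 2 0 = 0)) ∧
    (((chevF4.coroot.getD (ChevExcGraphData.excF4.rho r) #[]).getD 0 0 = 0 ∧
        (chevF4.coroot.getD (ChevExcGraphData.excF4.rho r) #[]).getD 3 0 = 0) →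
      ((chevF4.coroot.getD r #[]).getD 0 0 = 0 ∧ (chevF4.coroot.getD r #[]).getD 3 0 = 0)) := by
  decide +kernel

theorem sg_radical {J : Set ℕ} (hJ : J = JP ∨ J = JB) {u : GL chevF4.Idx K}
    (hu : u ∈ chevF4.unipotentRadical K J) : (tw m).sg u ∈ chevF4.unipotentRadical K J := by
  refine (tw (K := K) m).sg_closure_le (A := {g | ∃ (r : ℕ) (t : K), chevF4.IsPosRoot r ∧ ¬ chevF4.InRootSub J r ∧
    (g : Matrix chevF4.Idx chevF4.Idx K) = chevF4.x K r t}) (fun g hg => ?_) (fun g hg => ?_) hu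
  · obtain ⟨r, t, -, -, he⟩ := hg
    rw [(xg_eq_iff cf).1 he]; exact xg_mem_group cf r t
  · obtain ⟨r, t, hr, hJr, he⟩ := hg
    rw [(xg_eq_iff cf).1 he, sg_x m hr.1]
    refine Subgroup.subset_closure ⟨_, _, (tw (K := K) m).ρ_isPos hr, fun hin => hJr ?_, coe_xg cf _ _⟩
    rcases hJ with rfl | rfl
    · rw [inP] at hin ⊢; exact ⟨hr.1, (rho_zero r hr.1).1 hin.2⟩
    · rw [inB] at hin ⊢; exact ⟨hr.1, (rho_zero r hr.1).2 hin.2⟩

theorem levi_norm {J : Set ℕ} {g u : GL chevF4.Idx K} (hg : g ∈ chevF4.leviSubgroup K J)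
    (hu : u ∈ chevF4.unipotentRadical K J) : g * u * g⁻¹ ∈ chevF4.unipotentRadical K J := by
  have h : g ∈ chevF4.parabolicSubgroup K J := by
    rw [← radical_sup_levi cf]; exact Subgroup.mem_sup_right hg
  exact (Subgroup.mem_normalizer_iff.1 (parabolic_le_normalizer cf J h) u).1 hu

theorem split_pos {J : Set ℕ} {L : Subgroup (GL chevF4.Idx K)} (hL : L ≤ chevF4.leviSubgroup K J)
    (hpos : ∀ r, chevF4.IsPosRoot r → chevF4.InRootSub J r → ∀ t : K, xg cf r t ∈ L)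
    {u : GL chevF4.Idx K} (hu : u ∈ chevF4.posUnipotent K) :
    ∃ l ∈ L, ∃ w ∈ chevF4.unipotentRadical K J, u = l * w := by
  induction hu using Subgroup.closure_induction with
  | mem x hx =>
    obtain ⟨r, t, hr, he⟩ := hx
    obtain rfl := (xg_eq_iff cf).1 he
    by_cases hJ : chevF4.InRootSub J r
    · exact ⟨_, hpos r hr hJ t, 1, one_mem _, by rw [mul_one]⟩
    · exact ⟨1, one_mem _, _, Subgroup.subset_closure ⟨r, t, hr, hJ, rfl⟩, by rw [one_mul]⟩
  | one => exact ⟨1, one_mem _, 1, one_mem _, by rw [one_mul]⟩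
  | mul a b _ _ ha hb =>
    obtain ⟨l1, hl1, w1, hw1, rfl⟩ := ha
    obtain ⟨l2, hl2, w2, hw2, rfl⟩ := hb
    exact ⟨l1 * l2, mul_mem hl1 hl2, l2⁻¹ * w1 * l2 * w2,
      mul_mem (by simpa using levi_norm (inv_mem (hL hl2)) hw1) hw2, by group⟩
  | inv a _ ha =>
    obtain ⟨l, hl, w, hw, rfl⟩ := ha
    exact ⟨l⁻¹, inv_mem hl, l * w⁻¹ * l⁻¹, levi_norm (hL hl) (inv_mem hw), by group⟩

theorem levi_radical_unique {J : Set ℕ} {l l' w w' : GL chevF4.Idx K} (hl : l ∈ chevF4.leviSubgroup K J)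
    (hl' : l' ∈ chevF4.leviSubgroup K J) (hw : w ∈ chevF4.unipotentRadical K J)
    (hw' : w' ∈ chevF4.unipotentRadical K J) (h : l * w = l' * w') : l = l' ∧ w = w' := by
  have h1 : l'⁻¹ * l = w' * w⁻¹ := by
    calc l'⁻¹ * l = l'⁻¹ * (l * w) * w⁻¹ := by group
      _ = _ := by rw [h]; group
  have h2 := Subgroup.mem_inf.2 ⟨h1 ▸ mul_mem hw' (inv_mem hw), mul_mem (inv_mem hl') hl⟩
  rw [radical_inf_levi cf, Subgroup.mem_bot, inv_mul_eq_one] at h2
  subst h2
  exact ⟨rfl, mul_left_cancel h⟩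

theorem xg_levi {J : Set ℕ} {r : ℕ} (h : chevF4.InRootSub J r) (t : K) :
    xg cf r t ∈ chevF4.leviSubgroup K J :=
  Subgroup.mem_sup_right (Subgroup.subset_closure ⟨r, t, h, rfl⟩)

theorem n0_levi {J : Set ℕ} {g : GL chevF4.Idx K} (hg : g ∈ chevF4.leviSubgroup K J) :
    (n0 K)⁻¹ * g * n0 K ∈ chevF4.leviSubgroup K J := by
  suffices h : chevF4.leviSubgroup K J ≤ (chevF4.leviSubgroup K J).comap (MulAut.conj (n0 K)⁻¹).toMonoidHom by
    simpa using h hg
  refine sup_le (fun x hx => ?_) ((Subgroup.closure_le _).2 ?_)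
  · refine Subgroup.mem_sup_left ?_
    have := (Subgroup.mem_normalizer_iff.1 (N_le_normalizer_H cf (inv_mem n0_mono)) x).1 hx
    simpa using this
  · rintro y ⟨r, t, hr, hy⟩
    obtain rfl := (xg_eq_iff cf).1 hy
    simp only [SetLike.mem_coe, Subgroup.mem_comap, MulEquiv.coe_toMonoidHom, MulAut.conj_apply, inv_inv]
    rw [n0_conj' hr.1]
    exact xg_levi (inRootSub_neg cf hr.1 hr) t

theorem normU {J : Set ℕ} {g : GL chevF4.Idx K} (hg : g ∈ chevF4.leviSubgroup K J) (hgG : g ∈ GG)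
    {u : GL chevF4.Idx K} (hu : u ∈ UJ m J) : g * u * g⁻¹ ∈ UJ m J :=
  Subgroup.mem_inf.2 ⟨levi_norm hg hu.1, mul_mem (mul_mem hgG hu.2) (inv_mem hgG)⟩

theorem normV {J : Set ℕ} {g : GL chevF4.Idx K} (hg : g ∈ chevF4.leviSubgroup K J) (hgG : g ∈ GG)
    {v : GL chevF4.Idx K} (hv : v ∈ VJ m J) : g * v * g⁻¹ ∈ VJ m J := by
  obtain ⟨u, hu, rfl⟩ := (mem_VJ m).1 hv
  exact (mem_VJ m).2 ⟨_, normU m (n0_levi hg) (mul_mem (mul_mem (inv_mem (n0_mem m)) hgG) (n0_mem m)) hu, by group⟩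

include hK in
theorem split_fixed {J : Set ℕ} (hJ : J = JP ∨ J = JB) {L : Subgroup (GL chevF4.Idx K)}
    (hL : L ≤ chevF4.leviSubgroup K J) (hpos : ∀ r, chevF4.IsPosRoot r → chevF4.InRootSub J r → ∀ t : K, xg cf r t ∈ L)
    (hLg : L ≤ chevF4.group K) (hLs : ∀ l ∈ L, (tw m).sg l ∈ L) {u : GL chevF4.Idx K} (hu : u ∈ UU m) :
    ∃ l ∈ L, l ∈ (tw (K := K) m).Fixed ∧ ∃ w ∈ chevF4.unipotentRadical K J, u = l * w := by
  obtain ⟨l, hl, w, hw, rfl⟩ := split_pos hL hpos hu.1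
  have hfx := le_fixed m hK hu.2
  have hg2 : w ∈ chevF4.group K := (Subgroup.mul_mem_cancel_left _ (hLg hl)).1 hfx.1
  have e := hfx.2
  rw [(tw (K := K) m).sg_mul (hLg hl) hg2] at e
  obtain ⟨h1, -⟩ := levi_radical_unique (hL (hLs l hl)) (hL hl) (sg_radical m hJ hw) hw e
  exact ⟨l, hl, ⟨hLg hl, h1⟩, w, hw, rfl⟩

include hK in
theorem split_P {u : GL chevF4.Idx K} (hu : u ∈ UU m) :
    ∃ e : K, ∃ w ∈ UJ m JP, u = pr (e ^ ε) e * w := by
  have hle : (prHom (K := K)).range ≤ chevF4.leviSubgroup K JP := by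
    rintro _ ⟨p, rfl⟩
    exact mul_mem (xg_levi (inP.2 (by decide +kernel)) _) (xg_levi (inP.2 (by decide +kernel)) _)
  obtain ⟨_, ⟨p, rfl⟩, hfix, w, hw, rfl⟩ := split_fixed m hK (L := (prHom (K := K)).range) (Or.inl rfl) hle
    (fun r hr hJ t => by
      obtain ⟨-, h1, h2⟩ := inP.1 hJ
      rcases (pos_levi r hr.1 ((isPos cf).1 hr).1).1 h1 h2 with rfl | rfl
      · exact ⟨Multiplicative.ofAdd (t, 0), by simp [prHom, pr]⟩
      · exact ⟨Multiplicative.ofAdd (0, t), by simp [prHom, pr]⟩)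
    (by rintro _ ⟨p, rfl⟩; exact mul_mem (xg_mem_group cf _ _) (xg_mem_group cf _ _))
    (by rintro _ ⟨p, rfl⟩; exact ⟨Multiplicative.ofAdd (_, _), ((sg_pr m _ _).1).symm⟩) hu
  obtain ⟨e, he⟩ := UF_pair m (u := prHom (K := K) p) ⟨pr_mem_Uw m _ _, hfix⟩
  rw [he] at hu ⊢
  exact ⟨e, w, ⟨hw, (Subgroup.mul_mem_cancel_left _ (gens_mem m e e).1).1 hu.2⟩, rfl⟩

theorem four_levi (a b c d : K) : four bl a b c d ∈ chevF4.leviSubgroup K JB :=
  mul_mem (mul_mem (mul_mem (xg_levi (inB.2 (by decide +kernel)) _) (xg_levi (inB.2 (by decide +kernel)) _))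
    (xg_levi (inB.2 (by decide +kernel)) _)) (xg_levi (inB.2 (by decide +kernel)) _)

include hK in
theorem split_B {u : GL chevF4.Idx K} (hu : u ∈ UU m) :
    ∃ t v : K, ∃ w ∈ UJ m JB, u = bw m bl t v * w := by
  have hle : fourSub (K := K) ≤ chevF4.leviSubgroup K JB := by
    rintro _ ⟨p, rfl⟩; exact four_levi _ _ _ _
  obtain ⟨l, hl, hfix, w, hw, rfl⟩ := split_fixed m hK (L := fourSub (K := K)) (Or.inr rfl) hle
    (fun r hr hJ t => by
      obtain ⟨-, h0, h3⟩ := inB.1 hJ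
      have := (pos_levi r hr.1 ((isPos cf).1 hr).1).2 h0 h3
      simp only [List.mem_cons, List.not_mem_nil, or_false] at this
      rcases this with rfl | rfl | rfl | rfl
      · exact ⟨((t, 0), (0, 0)), ((four_single bl t).1).symm⟩
      · exact ⟨((0, t), (0, 0)), ((four_single bl t).2.1).symm⟩
      · exact ⟨((0, 0), (t, 0)), ((four_single bl t).2.2.1).symm⟩
      · exact ⟨((0, 0), (0, t)), ((four_single bl t).2.2.2).symm⟩)
    (by rintro _ ⟨p, rfl⟩; exact four_group _ _ _ _ _)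
    (by rintro _ ⟨p, rfl⟩; exact ⟨((_, _), (_, _)), sg_four m (by simp) _ _ _ _⟩) hu
  have hU : l ∈ (tw (K := K) m).UF ((tw m).wd (clF true)) := by
    obtain ⟨p, rfl⟩ := hl
    exact ⟨four_mem_Uw m _ _ _ _, hfix⟩
  obtain ⟨t, v, rfl⟩ := UF_four m hK hU
  exact ⟨t, v, w, ⟨hw, (Subgroup.mul_mem_cancel_left _ (gens_mem m t v).2.2.1).1 hu.2⟩, rfl⟩

theorem pr_flip (a b : K) : n0 K * pr a b * (n0 K)⁻¹ = prn a b ∧ n0 K * prn a b * (n0 K)⁻¹ = pr a b := by
  obtain ⟨-, -, -, -, g1, g4, -⟩ := roots_eq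
  have h1 := n0_conj (K := K) (r := f4p1) (by decide +kernel) a
  have h4 := n0_conj (K := K) (r := f4p4) (by decide +kernel) b
  have h1' := n0_conj (K := K) (r := f4m1) (by decide +kernel) a
  have h4' := n0_conj (K := K) (r := f4m4) (by decide +kernel) b
  rw [g1] at h1
  rw [g4] at h4
  rw [← g1, neg_neg' cf (by decide +kernel), g1] at h1'
  rw [← g4, neg_neg' cf (by decide +kernel), g4] at h4'
  constructor
  · rw [prn, pr, ← h1, ← h4]; group
  · rw [prn, pr, ← h1', ← h4']; group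

theorem neg_bl : ∀ i < 4, bl.getD i 0 < chevF4.nroots ∧ bln.getD i 0 < chevF4.nroots ∧
    chevF4.neg (bl.getD i 0) = bln.getD i 0 ∧ chevF4.neg (bln.getD i 0) = bl.getD i 0 := by
  decide +kernel

theorem bw_flip (t v : K) : n0 K * bw m bl t v * (n0 K)⁻¹ = bw m bln t v ∧
    n0 K * bw m bln t v * (n0 K)⁻¹ = bw m bl t v := by
  have key : ∀ (l l' : List ℕ), (∀ i < 4, l.getD i 0 < chevF4.nroots ∧ chevF4.neg (l.getD i 0) = l'.getD i 0) →
      ∀ a b c d : K, n0 K * four l a b c d * (n0 K)⁻¹ = four l' a b c d := by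
    intro l l' h a b c d
    obtain ⟨x0, y0⟩ := h 0 (by norm_num)
    obtain ⟨x1, y1⟩ := h 1 (by norm_num)
    obtain ⟨x2, y2⟩ := h 2 (by norm_num)
    obtain ⟨x3, y3⟩ := h 3 (by norm_num)
    unfold four
    rw [← y0, ← y1, ← y2, ← y3, ← n0_conj x0 a, ← n0_conj x1 b, ← n0_conj x2 c, ← n0_conj x3 d]
    group
  exact ⟨key _ _ (fun i hi => ⟨(neg_bl i hi).1, (neg_bl i hi).2.2.1⟩) _ _ _ _,
    key _ _ (fun i hi => ⟨(neg_bl i hi).2.1, (neg_bl i hi).2.2.2⟩) _ _ _ _⟩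

end Cfsg.Agent.TwistedF4Cover53
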