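import Cfsg.Agent.Lib.F4CharTwoNf71

/-!
Conjugation and squaring formulas in the twisted positive unipotent group of `²F₄`.
-/

set_option autoImplicit false
set_option linter.unusedSectionVars false
set_option linter.unusedSimpArgs false
set_option linter.unreachableTactic false
set_option linter.unusedTactic false
set_option maxRecDepth 20000
set_option maxHeartbeats 8000000

namespace Cfsg.Agent.TwistedF4Formula71

open Cfsg.Lie Cfsg.Agent.ChevalleyCert Cfsg.Agent.ChevalleyCore Cfsg.Agent.F4CharTwoNf71 Cfsg.Agent.TwistedF4Classes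

variable {K : Type*} [Field K] [CharP K 2] (ψ : K →+* K) (hψ : ∀ x, ψ (ψ x) = x ^ 2)

/-- the twisted normal form -/
noncomputable def nft (p1 t2 u2 p3 t4 u4 p5 t6 u6 p7 t8 u8 : K) : GL chevF4.Idx K :=
  nf ![p1, ψ p1, t2, ψ t2, t2 * ψ t2 + u2, ψ u2, p3, ψ p3, t4, ψ t4, t4 * ψ t4 + u4, ψ u4, p5, ψ p5,
    t6, ψ t6, t6 * ψ t6 + u6, ψ u6, p7, ψ p7, t8, ψ t8, t8 * ψ t8 + u8, ψ u8]

theorem ofNat2 (n : ℕ) [n.AtLeastTwo] : (OfNat.ofNat n : K) = ((n % 2 : ℕ) : K) := by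
  rw [← Nat.cast_ofNat (R := K) (n := n)]
  exact CharP.natCast_eq_natCast_mod K 2 n

theorem of_vec {g : GL chevF4.Idx K} {v : Fin 24 → K} (h : ∃ a, g = nf a ∧ a = v) : g = nf v := by
  obtain ⟨a, ha, rfl⟩ := h
  exact ha

/-- an element of the twisted root group of the ray 1 -/
noncomputable def Pe1 (v : K) : GL chevF4.Idx K := X 33 (v) * X 24 (ψ v)

/-- an element of the twisted root group of the ray 2 -/
noncomputable def Te2 (v : K) : GL chevF4.Idx K := X 34 (v) * X 26 (ψ v) * X 36 (v * ψ v)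

/-- an element of the twisted root group of the ray 2 -/
noncomputable def Ue2 (v : K) : GL chevF4.Idx K := X 36 (v) * X 42 (ψ v)

/-- an element of the twisted root group of the ray 3 -/
noncomputable def Pe3 (v : K) : GL chevF4.Idx K := X 38 (v) * X 43 (ψ v)

/-- an element of the twisted root group of the ray 4 -/
noncomputable def Te4 (v : K) : GL chevF4.Idx K := X 29 (v) * X 41 (ψ v) * X 44 (v * ψ v)

/-- an element of the twisted root group of the ray 4 -/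
noncomputable def Ue4 (v : K) : GL chevF4.Idx K := X 44 (v) * X 47 (ψ v)

/-- an element of the twisted root group of the ray 5 -/
noncomputable def Pe5 (v : K) : GL chevF4.Idx K := X 39 (v) * X 45 (ψ v)

/-- an element of the twisted root group of the ray 6 -/
noncomputable def Te6 (v : K) : GL chevF4.Idx K := X 35 (v) * X 31 (ψ v) * X 40 (v * ψ v)

/-- an element of the twisted root group of the ray 6 -/
noncomputable def Ue6 (v : K) : GL chevF4.Idx K := X 40 (v) * X 46 (ψ v)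

/-- an element of the twisted root group of the ray 7 -/
noncomputable def Pe7 (v : K) : GL chevF4.Idx K := X 37 (v) * X 32 (ψ v)

/-- an element of the twisted root group of the ray 8 -/
noncomputable def Te8 (v : K) : GL chevF4.Idx K := X 27 (v) * X 25 (ψ v) * X 28 (v * ψ v)

/-- an element of the twisted root group of the ray 8 -/
noncomputable def Ue8 (v : K) : GL chevF4.Idx K := X 28 (v) * X 30 (ψ v)

/-- comparing coordinates -/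
macro "coefF71" : tactic => `(tactic| (funext i; fin_cases i <;>
  ((try simp [map_add, map_mul, map_zero, map_pow, *]) <;> (try ring_nf) <;> (try simp [ofNat2]))))

include hψ in
theorem sq_all (p1 t2 u2 p3 t4 u4 p5 t6 u6 p7 t8 u8 : K) :
    ∃ a, nft ψ p1 t2 u2 p3 t4 u4 p5 t6 u6 p7 t8 u8 * (nft ψ p1 t2 u2 p3 t4 u4 p5 t6 u6 p7 t8 u8) = nf a ∧ a 22 + a 20 * ψ (a 20) = (t8 * ψ t8) := by
  simp only [nft, nf]
  collectF71
  refine ⟨![_, _, _, _, _, _, _, _, _, _, _, _, _, _, _, _, _, _, _, _, _, _, _, _], by simp only [Matrix.cons_val, mul_assoc]; rfl, ?_⟩ <;>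
    ((try simp only [Matrix.cons_val]); (try simp only [map_add, map_mul, map_zero, map_pow, hψ]); (try ring_nf); (try simp [ofNat2]))

include hψ in
theorem sq_noT8 (p1 t2 u2 p3 t4 u4 p5 t6 u6 p7 u8 : K) :
    ∃ a, nft ψ p1 t2 u2 p3 t4 u4 p5 t6 u6 p7 0 u8 * (nft ψ p1 t2 u2 p3 t4 u4 p5 t6 u6 p7 0 u8) = nf a ∧ a 8 = (ψ p1 * u8) := by
  simp only [nft, nf]
  collectF71
  refine ⟨![_, _, _, _, _, _, _, _, _, _, _, _, _, _, _, _, _, _, _, _, _, _, _, _], by simp only [Matrix.cons_val, mul_assoc]; rfl, ?_⟩ <;>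
    ((try simp only [Matrix.cons_val]); (try simp only [map_add, map_mul, map_zero, map_pow, hψ]); (try ring_nf); (try simp [ofNat2]))

include hψ in
theorem sq_A (p1 u2 p3 u4 p5 t6 u6 p7 : K) :
    ∃ a, nft ψ p1 0 u2 p3 0 u4 p5 t6 u6 p7 0 0 * (nft ψ p1 0 u2 p3 0 u4 p5 t6 u6 p7 0 0) = nf a ∧ a 4 + a 2 * ψ (a 2) = (ψ p1 * t6) ∧ a 6 = (p1 * ψ t6 + ψ p1 * p7) := by
  simp only [nft, nf]
  collectF71
  refine ⟨![_, _, _, _, _, _, _, _, _, _, _, _, _, _, _, _, _, _, _, _, _, _, _, _], by simp only [Matrix.cons_val, mul_assoc]; rfl, ?_, ?_⟩ <;>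
    ((try simp only [Matrix.cons_val]); (try simp only [map_add, map_mul, map_zero, map_pow, hψ]); (try ring_nf); (try simp [ofNat2]))

include hψ in
theorem sq_A6 (p1 u6 : K) :
    ∃ a, nft ψ p1 0 0 0 0 0 0 0 u6 0 0 0 * (nft ψ p1 0 0 0 0 0 0 0 u6 0 0 0) = nf a ∧ a 10 + a 8 * ψ (a 8) = (p1 * u6) := by
  simp only [nft, nf]
  collectF71
  refine ⟨![_, _, _, _, _, _, _, _, _, _, _, _, _, _, _, _, _, _, _, _, _, _, _, _], by simp only [Matrix.cons_val, mul_assoc]; rfl, ?_⟩ <;>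
    ((try simp only [Matrix.cons_val]); (try simp only [map_add, map_mul, map_zero, map_pow, hψ]); (try ring_nf); (try simp [ofNat2]))

include hψ in
theorem sq_p1 (t2 u2 p3 t4 u4 p5 t6 u6 p7 u8 : K) :
    ∃ a, nft ψ 0 t2 u2 p3 t4 u4 p5 t6 u6 p7 0 u8 * (nft ψ 0 t2 u2 p3 t4 u4 p5 t6 u6 p7 0 u8) = nf a ∧ a 4 + a 2 * ψ (a 2) = (t2 * ψ t2) := by
  simp only [nft, nf]
  collectF71
  refine ⟨![_, _, _, _, _, _, _, _, _, _, _, _, _, _, _, _, _, _, _, _, _, _, _, _], by simp only [Matrix.cons_val, mul_assoc]; rfl, ?_⟩ <;>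
    ((try simp only [Matrix.cons_val]); (try simp only [map_add, map_mul, map_zero, map_pow, hψ]); (try ring_nf); (try simp [ofNat2]))

include hψ in
theorem sq_B (u2 p3 t4 u4 p5 t6 u6 p7 u8 : K) :
    ∃ a, nft ψ 0 0 u2 p3 t4 u4 p5 t6 u6 p7 0 u8 * (nft ψ 0 0 u2 p3 t4 u4 p5 t6 u6 p7 0 u8) = nf a ∧ a 10 + a 8 * ψ (a 8) = (p3 * t6 + p7 * u2 + t4 * ψ t4 + ψ u2 * u8) ∧ a 12 = (t4 * t6 + u2 * u8) ∧ a 16 + a 14 * ψ (a 14) = (p3 * u8 + p7 * t4 + t6 * ψ t6 + u2 * ψ u8) := by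
  simp only [nft, nf]
  collectF71
  refine ⟨![_, _, _, _, _, _, _, _, _, _, _, _, _, _, _, _, _, _, _, _, _, _, _, _], by simp only [Matrix.cons_val, mul_assoc]; rfl, ?_, ?_, ?_⟩ <;>
    ((try simp only [Matrix.cons_val]); (try simp only [map_add, map_mul, map_zero, map_pow, hψ]); (try ring_nf); (try simp [ofNat2]))

include hψ in
theorem cA_T8 (p1 t2 u2 p3 t4 u4 p5 t6 u6 p7 c : K) :
    (Te8 ψ c) * nft ψ p1 t2 u2 p3 t4 u4 p5 t6 u6 p7 0 0 * (Te8 ψ c)⁻¹ =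
      nft ψ (p1) (c * p1 + t2) (c * p1 * ψ t2 + u2) (c * t2 * ψ t2 + c * u2 + c ^ 2 * ψ c * p1 * ψ p1 + p3) (c * ψ t2 + t4) (c * ψ c * p1 * p3 + c * ψ c * t2 * u2 + c * ψ c * t2 ^ 2 * ψ t2 + c * ψ p3 + c * ψ t2 * ψ t4 + c ^ 2 * (ψ c) ^ 2 * p1 * ψ p1 * t2 + c ^ 3 * (ψ c) ^ 2 * p1 ^ 2 * ψ p1 + u4 + ψ c * p3 * t2) (c * ψ c * p1 * t4 + c * ψ c * u2 + c ^ 2 * (ψ c) ^ 2 * p1 * ψ p1 + p5 + ψ c * p3 + ψ c * t2 * t4) (c * ψ c * p1 + t6 + ψ c * t2) (c * p5 + c * ψ c * p1 * ψ t6 + c ^ 2 * (ψ c) ^ 2 * ψ p1 * t2 + c ^ 2 * ψ c * p1 * t4 + c ^ 2 * ψ c * u2 + c ^ 3 * (ψ c) ^ 2 * p1 * ψ p1 + u6 + ψ c * t2 * ψ t6) (c * t6 + c ^ 2 * ψ c * p1 + p7) 0 0 := by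
  apply of_vec
  simp only [nft, nf, Te8, mul_inv_rev, xg_inv cf, neg2]
  collectF71
  refine ⟨![_, _, _, _, _, _, _, _, _, _, _, _, _, _, _, _, _, _, _, _, _, _, _, _], by simp only [Matrix.cons_val, mul_assoc]; rfl, ?_⟩
  coefF71

include hψ in
theorem cA_U8 (p1 t2 u2 p3 t4 u4 p5 t6 u6 p7 d : K) :
    (Ue8 ψ d) * nft ψ p1 t2 u2 p3 t4 u4 p5 t6 u6 p7 0 0 * (Ue8 ψ d)⁻¹ =
      nft ψ (p1) (t2) (d * p1 * ψ p1 + u2) (d * ψ p1 * t2 + p3 + ψ d * p1 * ψ p1) (d * ψ p1 + t4) (d * p1 * p3 + d * t2 * u2 + d * t2 ^ 2 * ψ t2 + d * ψ d * p1 ^ 2 * ψ p1 + d * ψ p1 * ψ t4 + d * ψ u2 + d ^ 2 * p1 * ψ p1 * t2 + u4 + ψ d * p1 * t2 * ψ t2 + ψ d * p1 * u2) (d * p1 * t4 + d * u2 + d ^ 2 * p1 * ψ p1 + p5 + ψ d * p1 * ψ t2) (d * p1 + t6) (d * p1 * ψ t6 + d * p3 + d * t2 * t4 + d ^ 2 * ψ p1 * t2 + u6 + ψ d * p1 * t4 + ψ d * t2 * ψ t2 + ψ d * u2) (d * t2 + p7 + ψ d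 * p1) 0 0 := by
  apply of_vec
  simp only [nft, nf, Ue8, mul_inv_rev, xg_inv cf, neg2]
  collectF71
  refine ⟨![_, _, _, _, _, _, _, _, _, _, _, _, _, _, _, _, _, _, _, _, _, _, _, _], by simp only [Matrix.cons_val, mul_assoc]; rfl, ?_⟩
  coefF71

include hψ in
theorem cA_P7 (p1 u2 p3 u4 p5 u6 c : K) :
    (Pe7 ψ c) * nft ψ p1 0 u2 p3 0 u4 p5 0 u6 0 0 0 * (Pe7 ψ c)⁻¹ =
      nft ψ (p1) 0 (u2) (c * ψ p1 + p3) 0 (c * u2 + u4) (p5 + ψ c * p1) 0 (u6) 0 0 0 := by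
  apply of_vec
  simp only [nft, nf, Pe7, mul_inv_rev, xg_inv cf, neg2]
  collectF71
  refine ⟨![_, _, _, _, _, _, _, _, _, _, _, _, _, _, _, _, _, _, _, _, _, _, _, _], by simp only [Matrix.cons_val, mul_assoc]; rfl, ?_⟩
  coefF71

include hψ in
theorem cA_T6 (p1 u2 p3 u4 p5 u6 c : K) :
    (Te6 ψ c) * nft ψ p1 0 u2 p3 0 u4 p5 0 u6 0 0 0 * (Te6 ψ c)⁻¹ =
      nft ψ (p1) 0 (c * ψ p1 + u2) (p3 + ψ c * p1) 0 (c * p3 + u4) (p5) 0 (u6) 0 0 0 := by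
  apply of_vec
  simp only [nft, nf, Te6, mul_inv_rev, xg_inv cf, neg2]
  collectF71
  refine ⟨![_, _, _, _, _, _, _, _, _, _, _, _, _, _, _, _, _, _, _, _, _, _, _, _], by simp only [Matrix.cons_val, mul_assoc]; rfl, ?_⟩
  coefF71

include hψ in
theorem cA_T4 (p1 u2 p3 u4 p5 u6 c : K) :
    (Te4 ψ c) * nft ψ p1 0 u2 p3 0 u4 p5 0 u6 0 0 0 * (Te4 ψ c)⁻¹ =
      nft ψ (p1) 0 (c * p1 + u2) (p3) 0 (u4) (p5) 0 (u6) 0 0 0 := by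
  apply of_vec
  simp only [nft, nf, Te4, mul_inv_rev, xg_inv cf, neg2]
  collectF71
  refine ⟨![_, _, _, _, _, _, _, _, _, _, _, _, _, _, _, _, _, _, _, _, _, _, _, _], by simp only [Matrix.cons_val, mul_assoc]; rfl, ?_⟩
  coefF71

include hψ in
theorem cA_U6 (p1 u2 p3 u4 p5 u6 c : K) :
    (Ue6 ψ c) * nft ψ p1 0 u2 p3 0 u4 p5 0 u6 0 0 0 * (Ue6 ψ c)⁻¹ =
      nft ψ (p1) 0 (u2) (p3) 0 (c * p1 + u4) (p5) 0 (u6) 0 0 0 := by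
  apply of_vec
  simp only [nft, nf, Ue6, mul_inv_rev, xg_inv cf, neg2]
  collectF71
  refine ⟨![_, _, _, _, _, _, _, _, _, _, _, _, _, _, _, _, _, _, _, _, _, _, _, _], by simp only [Matrix.cons_val, mul_assoc]; rfl, ?_⟩
  coefF71

include hψ in
theorem cB_P1 (u2 p3 t4 u4 p5 t6 u6 p7 u8 c : K) :
    (Pe1 ψ c) * nft ψ 0 0 u2 p3 t4 u4 p5 t6 u6 p7 0 u8 * (Pe1 ψ c)⁻¹ =
      nft ψ 0 0 (c * t4 + c * ψ c * u8 + u2 + ψ c * t6) (c * ψ c * ψ u8 + c * ψ t6 + p3 + ψ c * p7) (t4 + ψ c * u8) (c * u6 + c * ψ c * p7 * u8 + c * ψ c * t6 * ψ u8 + c ^ 2 * t4 * ψ u8 + c ^ 2 * ψ c * u8 * ψ u8 + u4 + ψ c * p7 * t6) (c * ψ c * u8 ^ 2 + c * ψ p7 + p5 + ψ c * t6 * u8) (c * u8 + t6) (u6 + ψ c * p7 * u8 + ψ c * t6 * ψ u8) (c * ψ u8 + p7) 0 (u8) := by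
  apply of_vec
  simp only [nft, nf, Pe1, mul_inv_rev, xg_inv cf, neg2]
  collectF71
  refine ⟨![_, _, _, _, _, _, _, _, _, _, _, _, _, _, _, _, _, _, _, _, _, _, _, _], by simp only [Matrix.cons_val, mul_assoc]; rfl, ?_⟩
  coefF71

include hψ in
theorem cB_T2 (u2 p3 t4 u4 p5 t6 u6 p7 u8 c : K) :
    (Te2 ψ c) * nft ψ 0 0 u2 p3 t4 u4 p5 t6 u6 p7 0 u8 * (Te2 ψ c)⁻¹ =
      nft ψ 0 0 (u2) (c * t4 + p3) (t4) (c * p5 + c ^ 2 * ψ c * u8 + u4) (c * ψ c * u8 + p5 + ψ c * p7) (t6) (c * ψ p7 + u6) (c * u8 + p7) 0 (u8) := by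
  apply of_vec
  simp only [nft, nf, Te2, mul_inv_rev, xg_inv cf, neg2]
  collectF71
  refine ⟨![_, _, _, _, _, _, _, _, _, _, _, _, _, _, _, _, _, _, _, _, _, _, _, _], by simp only [Matrix.cons_val, mul_assoc]; rfl, ?_⟩
  coefF71

include hψ in
theorem cB_U2 (u2 p3 t4 u4 p5 t6 u6 p7 u8 c : K) :
    (Ue2 ψ c) * nft ψ 0 0 u2 p3 t4 u4 p5 t6 u6 p7 0 u8 * (Ue2 ψ c)⁻¹ =
      nft ψ 0 0 (u2) (p3) (t4) (c * p7 + u4 + ψ c * u8) (c * u8 + p5) (t6) (c * ψ u8 + u6) (p7) 0 (u8) := by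
  apply of_vec
  simp only [nft, nf, Ue2, mul_inv_rev, xg_inv cf, neg2]
  collectF71
  refine ⟨![_, _, _, _, _, _, _, _, _, _, _, _, _, _, _, _, _, _, _, _, _, _, _, _], by simp only [Matrix.cons_val, mul_assoc]; rfl, ?_⟩
  coefF71

include hψ in
theorem cB_P3 (u2 p3 t4 u4 p5 t6 u6 p7 u8 c : K) :
    (Pe3 ψ c) * nft ψ 0 0 u2 p3 t4 u4 p5 t6 u6 p7 0 u8 * (Pe3 ψ c)⁻¹ =
      nft ψ 0 0 (u2) (p3) (t4) (c * t6 + u4) (p5) (t6) (c * u8 + u6) (p7) 0 (u8) := by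
  apply of_vec
  simp only [nft, nf, Pe3, mul_inv_rev, xg_inv cf, neg2]
  collectF71
  refine ⟨![_, _, _, _, _, _, _, _, _, _, _, _, _, _, _, _, _, _, _, _, _, _, _, _], by simp only [Matrix.cons_val, mul_assoc]; rfl, ?_⟩
  coefF71

include hψ in
theorem cE_T8 (u2 p3 t4 u4 p5 t6 u6 p7 c : K) :
    (Te8 ψ c) * nft ψ 0 0 u2 p3 t4 u4 p5 t6 u6 p7 0 0 * (Te8 ψ c)⁻¹ =
      nft ψ 0 0 (u2) (c * u2 + p3) (t4) (c * ψ p3 + u4) (c * ψ c * u2 + p5 + ψ c * p3) (t6) (c * p5 + c ^ 2 * ψ c * u2 + u6) (c * t6 + p7) 0 0 := by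
  apply of_vec
  simp only [nft, nf, Te8, mul_inv_rev, xg_inv cf, neg2]
  collectF71
  refine ⟨![_, _, _, _, _, _, _, _, _, _, _, _, _, _, _, _, _, _, _, _, _, _, _, _], by simp only [Matrix.cons_val, mul_assoc]; rfl, ?_⟩
  coefF71

include hψ in
theorem cE_U8 (u2 p3 t4 u4 p5 t6 u6 p7 c : K) :
    (Ue8 ψ c) * nft ψ 0 0 u2 p3 t4 u4 p5 t6 u6 p7 0 0 * (Ue8 ψ c)⁻¹ =
      nft ψ 0 0 (u2) (p3) (t4) (c * ψ u2 + u4) (c * u2 + p5) (t6) (c * p3 + u6 + ψ c * u2) (p7) 0 0 := by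
  apply of_vec
  simp only [nft, nf, Ue8, mul_inv_rev, xg_inv cf, neg2]
  collectF71
  refine ⟨![_, _, _, _, _, _, _, _, _, _, _, _, _, _, _, _, _, _, _, _, _, _, _, _], by simp only [Matrix.cons_val, mul_assoc]; rfl, ?_⟩
  coefF71

include hψ in
theorem cE_P7 (u2 p3 t4 u4 p5 t6 u6 p7 c : K) :
    (Pe7 ψ c) * nft ψ 0 0 u2 p3 t4 u4 p5 t6 u6 p7 0 0 * (Pe7 ψ c)⁻¹ =
      nft ψ 0 0 (u2) (p3) (t4) (c * u2 + u4) (p5) (t6) (c * t4 + u6) (p7) 0 0 := by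
  apply of_vec
  simp only [nft, nf, Pe7, mul_inv_rev, xg_inv cf, neg2]
  collectF71
  refine ⟨![_, _, _, _, _, _, _, _, _, _, _, _, _, _, _, _, _, _, _, _, _, _, _, _], by simp only [Matrix.cons_val, mul_assoc]; rfl, ?_⟩
  coefF71

include hψ in
theorem cC_T8 (u2 u6 c d : K) :
    (Ue8 ψ d * Te8 ψ c) * nft ψ 0 0 u2 0 0 0 0 0 u6 0 0 0 * (Ue8 ψ d * Te8 ψ c)⁻¹ =
      nft ψ 0 0 (u2) (c * u2) 0 (d * ψ u2) (c * ψ c * u2 + d * u2) 0 (c * d * u2 + c ^ 2 * ψ c * u2 + u6 + ψ d * u2) 0 0 0 := by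
  apply of_vec
  simp only [nft, nf, Te8, Ue8, mul_inv_rev, xg_inv cf, neg2]
  collectF71
  refine ⟨![_, _, _, _, _, _, _, _, _, _, _, _, _, _, _, _, _, _, _, _, _, _, _, _], by simp only [Matrix.cons_val, mul_assoc]; rfl, ?_⟩
  coefF71

include hψ in
theorem cF_P1 (u4 p5 u6 c : K) :
    (Pe1 ψ c) * nft ψ 0 0 0 0 0 u4 p5 0 u6 0 0 0 * (Pe1 ψ c)⁻¹ =
      nft ψ 0 0 0 0 0 (c * u6 + u4) (p5) 0 (u6) 0 0 0 := by
  apply of_vec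
  simp only [nft, nf, Pe1, mul_inv_rev, xg_inv cf, neg2]
  collectF71
  refine ⟨![_, _, _, _, _, _, _, _, _, _, _, _, _, _, _, _, _, _, _, _, _, _, _, _], by simp only [Matrix.cons_val, mul_assoc]; rfl, ?_⟩
  coefF71

include hψ in
theorem cD_T8 (p3 u4 p5 u6 p7 c : K) :
    (Te8 ψ c) * nft ψ 0 0 0 p3 0 u4 p5 0 u6 p7 0 0 * (Te8 ψ c)⁻¹ =
      nft ψ 0 0 0 (p3) 0 (c * ψ p3 + u4) (p5 + ψ c * p3) 0 (c * p5 + u6) (p7) 0 0 := by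
  apply of_vec
  simp only [nft, nf, Te8, mul_inv_rev, xg_inv cf, neg2]
  collectF71
  refine ⟨![_, _, _, _, _, _, _, _, _, _, _, _, _, _, _, _, _, _, _, _, _, _, _, _], by simp only [Matrix.cons_val, mul_assoc]; rfl, ?_⟩
  coefF71

include hψ in
theorem cD_T6 (p3 u4 p5 u6 p7 c : K) :
    (Te6 ψ c) * nft ψ 0 0 0 p3 0 u4 p5 0 u6 p7 0 0 * (Te6 ψ c)⁻¹ =
      nft ψ 0 0 0 (p3) 0 (c * p3 + u4) (p5) 0 (u6) (p7) 0 0 := by
  apply of_vec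
  simp only [nft, nf, Te6, mul_inv_rev, xg_inv cf, neg2]
  collectF71
  refine ⟨![_, _, _, _, _, _, _, _, _, _, _, _, _, _, _, _, _, _, _, _, _, _, _, _], by simp only [Matrix.cons_val, mul_assoc]; rfl, ?_⟩
  coefF71

include hψ in
theorem cD_U8 (p3 u4 p5 u6 p7 c : K) :
    (Ue8 ψ c) * nft ψ 0 0 0 p3 0 u4 p5 0 u6 p7 0 0 * (Ue8 ψ c)⁻¹ =
      nft ψ 0 0 0 (p3) 0 (u4) (p5) 0 (c * p3 + u6) (p7) 0 0 := by
  apply of_vec
  simp only [nft, nf, Ue8, mul_inv_rev, xg_inv cf, neg2]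
  collectF71
  refine ⟨![_, _, _, _, _, _, _, _, _, _, _, _, _, _, _, _, _, _, _, _, _, _, _, _], by simp only [Matrix.cons_val, mul_assoc]; rfl, ?_⟩
  coefF71

include hψ in
theorem cD_T2 (p3 u4 p5 u6 p7 c : K) :
    (Te2 ψ c) * nft ψ 0 0 0 p3 0 u4 p5 0 u6 p7 0 0 * (Te2 ψ c)⁻¹ =
      nft ψ 0 0 0 (p3) 0 (c * p5 + u4) (p5 + ψ c * p7) 0 (c * ψ p7 + u6) (p7) 0 0 := by
  apply of_vec
  simp only [nft, nf, Te2, mul_inv_rev, xg_inv cf, neg2]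
  collectF71
  refine ⟨![_, _, _, _, _, _, _, _, _, _, _, _, _, _, _, _, _, _, _, _, _, _, _, _], by simp only [Matrix.cons_val, mul_assoc]; rfl, ?_⟩
  coefF71

include hψ in
theorem cD_U2 (p3 u4 p5 u6 p7 c : K) :
    (Ue2 ψ c) * nft ψ 0 0 0 p3 0 u4 p5 0 u6 p7 0 0 * (Ue2 ψ c)⁻¹ =
      nft ψ 0 0 0 (p3) 0 (c * p7 + u4) (p5) 0 (u6) (p7) 0 0 := by
  apply of_vec
  simp only [nft, nf, Ue2, mul_inv_rev, xg_inv cf, neg2]
  collectF71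
  refine ⟨![_, _, _, _, _, _, _, _, _, _, _, _, _, _, _, _, _, _, _, _, _, _, _, _], by simp only [Matrix.cons_val, mul_assoc]; rfl, ?_⟩
  coefF71

include hψ in
theorem cD_T4 (p3 u4 p5 u6 p7 c : K) :
    (Te4 ψ c) * nft ψ 0 0 0 p3 0 u4 p5 0 u6 p7 0 0 * (Te4 ψ c)⁻¹ =
      nft ψ 0 0 0 (p3) 0 (u4) (p5) 0 (c * p7 + u6) (p7) 0 0 := by
  apply of_vec
  simp only [nft, nf, Te4, mul_inv_rev, xg_inv cf, neg2]
  collectF71
  refine ⟨![_, _, _, _, _, _, _, _, _, _, _, _, _, _, _, _, _, _, _, _, _, _, _, _], by simp only [Matrix.cons_val, mul_assoc]; rfl, ?_⟩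
  coefF71
end Cfsg.Agent.TwistedF4Formula71
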