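import Cfsg.Agent.Lib.TwistedF4Formula71
import Cfsg.Agent.Lib.F4CharTwoInj71

/-!
The twisted unipotent group of `²F₄(q)`: membership, parametrisation, Weyl elements, reduction to it.
-/

set_option autoImplicit false
set_option linter.unusedSectionVars false
set_option linter.unusedSimpArgs false
set_option maxRecDepth 20000
set_option maxHeartbeats 1000000

namespace Cfsg.Agent.TwistedF4InvolBase71

open Cfsg.Lie Cfsg.Agent.ChevalleyCert Cfsg.Agent.ChevalleyCore Cfsg.Agent.ChevalleyRoots Cfsg.Agent.ChevalleyTorus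
  Cfsg.Agent.TwistedF4Classes Cfsg.Agent.F4CharTwoNf71 Cfsg.Agent.F4CharTwoInj71 Cfsg.Agent.TwistedF4Formula71

variable {K : Type*} [Field K] [Fintype K] [CharP K 2] (m : ℕ)

local notation "ε" => (2 ^ m : ℕ)

variable (K) in
/-- the square root of squaring -/
noncomputable def psi : K →+* K := iterateFrobenius K 2 (m + 1)

theorem psi_apply (x : K) : psi K m x = x ^ (ε * 2) := by
  rw [psi, iterateFrobenius_def, pow_succ]

variable (hK : Fintype.card K = 2 ^ (2 * m + 1))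

include hK in
theorem psi_psi (x : K) : psi K m (psi K m x) = x ^ 2 := by
  rw [psi_apply, psi_apply, ← pow_mul]
  conv_rhs => rw [← FiniteField.pow_card x]
  rw [hK, ← pow_mul]
  congr 1
  rw [two_mul, pow_succ, pow_add]; ring

include hK in
theorem psi_eps (x : K) : (psi K m x) ^ ε = x := by
  rw [psi_apply]; exact (pow_twist m hK x).2

/-- images of the root numbers under the two Weyl elements -/
def wimg : Bool → ℕ → ℕ
  | false, r => chevF4.reflectRoot 0 (chevF4.reflectRoot 3 r)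
  | true, r => chevF4.reflectRoot 1 (chevF4.reflectRoot 2 (chevF4.reflectRoot 1 (chevF4.reflectRoot 2 r)))

theorem wimg_ok : ∀ r < 48, chevF4.reflectRoot 2 r < 48 ∧ chevF4.reflectRoot 3 r < 48 ∧
    chevF4.reflectRoot 1 r < 48 ∧ chevF4.reflectRoot 0 r < 48 := by decide +kernel

theorem n_X (J : Bool) {r : ℕ} (hr : r < 48) (t : K) :
    cnF J * X r t * (cnF J)⁻¹ = X (wimg J r) t := by
  obtain ⟨e0, e1, e2, e3, -⟩ := roots_eq
  have hn : ∀ i < chevF4.rank, ∀ s < 48, ∀ t : K, ng cf (chevF4.simple i) 1 * X s t * (ng cf (chevF4.simple i) 1)⁻¹ =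
      X (chevF4.reflectRoot i s) t := by
    intro i hi s hs t
    rw [X, ng_simple_conj cf hi (by rw [nr]; exact hs), eta_one, one_mul]
  have h0 := hn 0 (by decide); have h1 := hn 1 (by decide); have h2 := hn 2 (by decide); have h3 := hn 3 (by decide)
  rw [e0] at h0; rw [e1] at h1; rw [e2] at h2; rw [e3] at h3
  rcases J with _ | _
  · show ng cf f4p1 1 * ng cf f4p4 1 * X r t * (ng cf f4p1 1 * ng cf f4p4 1)⁻¹ = _
    rw [show ng cf f4p1 (1 : K) * ng cf f4p4 1 * X r t * (ng cf f4p1 1 * ng cf f4p4 1)⁻¹ =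
      ng cf f4p1 1 * (ng cf f4p4 1 * X r t * (ng cf f4p4 1)⁻¹) * (ng cf f4p1 1)⁻¹ by group,
      h3 r hr, h0 _ (wimg_ok r hr).2.1]
    rfl
  · show ng cf f4a 1 * ng cf f4b 1 * ng cf f4a 1 * ng cf f4b 1 * X r t *
      (ng cf f4a 1 * ng cf f4b 1 * ng cf f4a 1 * ng cf f4b 1)⁻¹ = _
    rw [show ng cf f4a (1 : K) * ng cf f4b 1 * ng cf f4a 1 * ng cf f4b 1 * X r t *
        (ng cf f4a 1 * ng cf f4b 1 * ng cf f4a 1 * ng cf f4b 1)⁻¹ =
      ng cf f4a 1 * (ng cf f4b 1 * (ng cf f4a 1 * (ng cf f4b 1 * X r t * (ng cf f4b 1)⁻¹) * (ng cf f4a 1)⁻¹) *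
        (ng cf f4b 1)⁻¹) * (ng cf f4a 1)⁻¹ by group,
      h2 r hr, h1 _ (wimg_ok r hr).1, h2 _ (wimg_ok _ (wimg_ok r hr).1).2.2.1,
      h1 _ (wimg_ok _ (wimg_ok _ (wimg_ok r hr).1).2.2.1).1]
    rfl

theorem n_X' (J : Bool) {r r' : ℕ} (h : r < 48 ∧ wimg J r = r') (t : K) :
    cnF J * X r t * (cnF J)⁻¹ = X r' t := h.2 ▸ n_X J h.1 t

theorem conj_mul (x a b : GL chevF4.Idx K) : x * (a * b) * x⁻¹ = x * a * x⁻¹ * (x * b * x⁻¹) := by group

/-- the Weyl images of root elements of the rays -/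
theorem n_elems (ψ : K →+* K) (v : K) :
    (cnF false * Te8 ψ v * (cnF false)⁻¹ = Te2 ψ v ∧ cnF false * Ue8 ψ v * (cnF false)⁻¹ = Ue2 ψ v) ∧
    (cnF true * Te2 ψ v * (cnF true)⁻¹ = Te6 ψ v ∧ cnF true * Ue2 ψ v * (cnF true)⁻¹ = Ue6 ψ v) ∧
    (cnF false * Te6 ψ v * (cnF false)⁻¹ = Te4 ψ v ∧ cnF false * Ue6 ψ v * (cnF false)⁻¹ = Ue4 ψ v) ∧
    cnF true * Pe1 ψ v * (cnF true)⁻¹ = Pe7 ψ v ∧ cnF false * Pe7 ψ v * (cnF false)⁻¹ = Pe3 ψ v ∧
    cnF true * Pe3 ψ v * (cnF true)⁻¹ = Pe5 ψ v := by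
  simp only [Te8, Ue8, Te2, Ue2, Te6, Ue6, Te4, Ue4, Pe1, Pe7, Pe3, Pe5, conj_mul]
  refine ⟨⟨?_, ?_⟩, ⟨?_, ?_⟩, ⟨?_, ?_⟩, ?_, ?_, ?_⟩
  · rw [n_X' _ (r' := 34) (by decide +kernel), n_X' _ (r' := 26) (by decide +kernel), n_X' _ (r' := 36) (by decide +kernel)]
  · rw [n_X' _ (r' := 36) (by decide +kernel), n_X' _ (r' := 42) (by decide +kernel)]
  · rw [n_X' _ (r' := 35) (by decide +kernel), n_X' _ (r' := 31) (by decide +kernel), n_X' _ (r' := 40) (by decide +kernel)]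
  · rw [n_X' _ (r' := 40) (by decide +kernel), n_X' _ (r' := 46) (by decide +kernel)]
  · rw [n_X' _ (r' := 29) (by decide +kernel), n_X' _ (r' := 41) (by decide +kernel), n_X' _ (r' := 44) (by decide +kernel)]
  · rw [n_X' _ (r' := 44) (by decide +kernel), n_X' _ (r' := 47) (by decide +kernel)]
  · rw [n_X' _ (r' := 37) (by decide +kernel), n_X' _ (r' := 32) (by decide +kernel)]
  · rw [n_X' _ (r' := 38) (by decide +kernel), n_X' _ (r' := 43) (by decide +kernel)]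
  · rw [n_X' _ (r' := 39) (by decide +kernel), n_X' _ (r' := 45) (by decide +kernel)]

local notation "Ψ" => psi K m

theorem cj_mem {g h x : GL chevF4.Idx K} (hx : x ∈ twistedF4 K ε) (hg : g ∈ twistedF4 K ε) (e : x * g * x⁻¹ = h) :
    h ∈ twistedF4 K ε := e ▸ (twistedF4 K ε).mul_mem ((twistedF4 K ε).mul_mem hx hg) ((twistedF4 K ε).inv_mem hx)

include hK in
theorem elem_mem (v : K) :
    (Pe1 Ψ v ∈ twistedF4 K ε ∧ Pe3 Ψ v ∈ twistedF4 K ε ∧ Pe5 Ψ v ∈ twistedF4 K ε ∧ Pe7 Ψ v ∈ twistedF4 K ε) ∧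
    (Te2 Ψ v ∈ twistedF4 K ε ∧ Te4 Ψ v ∈ twistedF4 K ε ∧ Te6 Ψ v ∈ twistedF4 K ε ∧ Te8 Ψ v ∈ twistedF4 K ε) ∧
    (Ue2 Ψ v ∈ twistedF4 K ε ∧ Ue4 Ψ v ∈ twistedF4 K ε ∧ Ue6 Ψ v ∈ twistedF4 K ε ∧ Ue8 Ψ v ∈ twistedF4 K ε) := by
  obtain ⟨⟨a2, b2⟩, ⟨a6, b6⟩, ⟨a4, b4⟩, c7, c3, c5⟩ := n_elems (Ψ) v
  have h1 : Pe1 Ψ v ∈ twistedF4 K ε := by
    have := (gens_mem (K := K) m (Ψ v) 0).1
    rwa [psi_eps m hK] at this
  have h8 : Te8 Ψ v ∈ twistedF4 K ε := by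
    have := (gens_mem (K := K) m (Ψ v) 0).2.2.1
    simpa [bw, four, Te8, f4a, f4b, f4ab, f4aab, psi_eps m hK, pow_succ] using this
  have k8 : Ue8 Ψ v ∈ twistedF4 K ε := by
    have := (gens_mem (K := K) m 0 v).2.2.1
    simpa [bw, four, Ue8, f4a, f4b, f4ab, f4aab, psi_apply] using this
  have hn := cnF_mem (K := K) m
  have h7 := cj_mem m (hn true) h1 c7
  have h3 := cj_mem m (hn false) h7 c3
  have h2 := cj_mem m (hn false) h8 a2
  have h6 := cj_mem m (hn true) h2 a6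
  have k2 := cj_mem m (hn false) k8 b2
  have k6 := cj_mem m (hn true) k2 b6
  exact ⟨⟨h1, h3, cj_mem m (hn true) h3 c5, h7⟩, ⟨h2, cj_mem m (hn false) h6 a4, h6, h8⟩,
    ⟨k2, cj_mem m (hn false) k6 b4, k6, k8⟩⟩

theorem nft_eq (ψ : K →+* K) (p1 t2 u2 p3 t4 u4 p5 t6 u6 p7 t8 u8 : K) :
    nft ψ p1 t2 u2 p3 t4 u4 p5 t6 u6 p7 t8 u8 =
      Pe1 ψ p1 * (Te2 ψ t2 * Ue2 ψ u2) * Pe3 ψ p3 * (Te4 ψ t4 * Ue4 ψ u4) * Pe5 ψ p5 * (Te6 ψ t6 * Ue6 ψ u6) *
        Pe7 ψ p7 * (Te8 ψ t8 * Ue8 ψ u8) := by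
  simp only [nft, nf, Te8, Ue8, Te2, Ue2, Te6, Ue6, Te4, Ue4, Pe1, Pe7, Pe3, Pe5, Matrix.cons_val, mul_assoc,
    merge, merge']

include hK in
theorem nft_mem (p1 t2 u2 p3 t4 u4 p5 t6 u6 p7 t8 u8 : K) :
    nft Ψ p1 t2 u2 p3 t4 u4 p5 t6 u6 p7 t8 u8 ∈ chevF4.posUnipotent K ⊓ twistedF4 K ε := by
  refine ⟨nf_mem _, ?_⟩
  rw [nft_eq]
  have e := fun v => elem_mem (K := K) m hK v
  exact mul_mem (mul_mem (mul_mem (mul_mem (mul_mem (mul_mem (mul_mem (e p1).1.1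
    (mul_mem (e t2).2.1.1 (e u2).2.2.1)) (e p3).1.2.1) (mul_mem (e t4).2.1.2.1 (e u4).2.2.2.1)) (e p5).1.2.2.1)
    (mul_mem (e t6).2.1.2.2.1 (e u6).2.2.2.2.1)) (e p7).1.2.2.2) (mul_mem (e t8).2.1.2.2.2 (e u8).2.2.2.2.2)

include hK in
theorem exists_nft {g : GL chevF4.Idx K} (hg : g ∈ chevF4.posUnipotent K ⊓ twistedF4 K ε) :
    ∃ p1 t2 u2 p3 t4 u4 p5 t6 u6 p7 t8 u8, g = nft Ψ p1 t2 u2 p3 t4 u4 p5 t6 u6 p7 t8 u8 := by
  let g' : (Fin 12 → K) → ↥(chevF4.posUnipotent K ⊓ twistedF4 K ε) := fun p =>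
    ⟨_, nft_mem m hK (p 0) (p 1) (p 2) (p 3) (p 4) (p 5) (p 6) (p 7) (p 8) (p 9) (p 10) (p 11)⟩
  have hb : Function.Bijective g' := by
    refine Function.Injective.bijective_of_nat_card_le ?_ ?_
    · intro p p' h
      have h' := nf_injective (congrArg Subtype.val h)
      have c0 := congrFun h' 0
      have c1 := congrFun h' 2
      have c2 := congrFun h' 4
      have c3 := congrFun h' 6
      have c4 := congrFun h' 8
      have c5 := congrFun h' 10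
      have c6 := congrFun h' 12
      have c7 := congrFun h' 14
      have c8 := congrFun h' 16
      have c9 := congrFun h' 18
      have c10 := congrFun h' 20
      have c11 := congrFun h' 22
      simp only [Matrix.cons_val] at c0 c1 c2 c3 c4 c5 c6 c7 c8 c9 c10 c11
      rw [c1] at c2; rw [c4] at c5; rw [c7] at c8; rw [c10] at c11
      funext i; fin_cases i
      exacts [c0, c1, add_left_cancel c2, c3, c4, add_left_cancel c5, c6, c7, add_left_cancel c8, c9, c10,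
        add_left_cancel c11]
    · rw [card_U1 m hK]; simp [Nat.card_eq_fintype_card, hK]
  obtain ⟨p, h⟩ := hb.2 ⟨g, hg⟩
  exact ⟨_, _, _, _, _, _, _, _, _, _, _, _, (congrArg Subtype.val h).symm⟩

/-- conjugacy inside the twisted group -/
def Cj (g h : GL chevF4.Idx K) : Prop := ∃ x ∈ twistedF4 K ε, x * g * x⁻¹ = h

theorem Cj.trans' {g h k : GL chevF4.Idx K} (h1 : Cj m g h) (h2 : Cj m h k) : Cj m g k := by
  obtain ⟨x, hx, rfl⟩ := h1
  obtain ⟨y, hy, rfl⟩ := h2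
  exact ⟨y * x, mul_mem hy hx, by group⟩

theorem Cj.symm' {g h : GL chevF4.Idx K} (h1 : Cj m g h) : Cj m h g := by
  obtain ⟨x, hx, rfl⟩ := h1
  exact ⟨x⁻¹, inv_mem hx, by group⟩

theorem Cj.sq {g h : GL chevF4.Idx K} (h1 : Cj m g h) (hg : g * g = 1) : h * h = 1 := by
  obtain ⟨x, -, rfl⟩ := h1
  rw [show x * g * x⁻¹ * (x * g * x⁻¹) = x * (g * g) * x⁻¹ by group, hg]; group

include hK in
theorem odd_index :
    ¬ 2 ∣ ((chevF4.posUnipotent K ⊓ twistedF4 K ε).subgroupOf (twistedF4 K ε)).index := by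
  have h := Subgroup.card_mul_index ((chevF4.posUnipotent K ⊓ twistedF4 K ε).subgroupOf (twistedF4 K ε))
  rw [Nat.card_congr (Subgroup.subgroupOfEquivOfLe inf_le_right).toEquiv, card_U1 m hK, card_group m hK,
    mul_assoc, mul_assoc, mul_assoc] at h
  rw [Nat.eq_of_mul_eq_mul_left (pow_pos (Nat.two_pow_pos _) 12) h]
  set q := 2 ^ (2 * m + 1) with hq
  have hqe : q % 2 = 0 := by rw [hq, pow_succ]; omega
  have hq1 : 1 ≤ q := Nat.one_le_two_pow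
  have k : ∀ n, n ≠ 0 → q ^ n % 2 = 0 := fun n hn => by rw [Nat.pow_mod, hqe, zero_pow hn, Nat.zero_mod]
  have p1 : ∀ n, 1 ≤ q ^ n := fun n => Nat.one_le_pow _ _ hq1
  intro hd
  rcases (Nat.Prime.dvd_mul Nat.prime_two).1 hd with h2 | h2
  · omega
  · rcases (Nat.Prime.dvd_mul Nat.prime_two).1 h2 with h3 | h3
    · have := k 3 (by norm_num); omega
    · rcases (Nat.Prime.dvd_mul Nat.prime_two).1 h3 with h4 | h4
      · have := k 4 (by norm_num); have := p1 4; omega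
      · have := k 6 (by norm_num); omega

include hK in
/-- every involution is conjugate into the twisted unipotent group -/
theorem to_U1 {g : GL chevF4.Idx K} (hg : g ∈ twistedF4 K ε) (hu : g * g = 1) :
    ∃ u ∈ chevF4.posUnipotent K ⊓ twistedF4 K ε, Cj m g u := by
  classical
  set s : ↥(twistedF4 K ε) := ⟨g, hg⟩ with hsdef
  set H := (chevF4.posUnipotent K ⊓ twistedF4 K ε).subgroupOf (twistedF4 K ε) with hH
  have hodd : ¬ 2 ∣ H.index := odd_index m hK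
  have hs2 : s * s = 1 := Subtype.ext hu
  have : Fintype (↥(twistedF4 K ε) ⧸ H) := Fintype.ofFinite _
  set σ : Equiv.Perm (↥(twistedF4 K ε) ⧸ H) := MulAction.toPerm s
  have hσ : σ ^ (2 : ℕ) ^ 1 = 1 := by
    rw [pow_one, pow_two]
    ext x
    show s • s • x = x
    rw [smul_smul, hs2, one_smul]
  obtain ⟨x, hx⟩ := Equiv.Perm.exists_fixed_point_of_prime (p := 2) (n := 1)
    (by rw [← Nat.card_eq_fintype_card]; exact hodd) hσ
  obtain ⟨y, rfl⟩ := QuotientGroup.mk_surjective x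
  have hy : y⁻¹ * (s * y) ∈ H := QuotientGroup.eq.1 (Eq.symm hx)
  refine ⟨(y : GL chevF4.Idx K)⁻¹ * (g * y), hy, (y : GL chevF4.Idx K)⁻¹, inv_mem y.2, by group⟩

end Cfsg.Agent.TwistedF4InvolBase71
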