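import Cfsg.Agent.Lib.TwistedF4InvolBase71

/-!
Involutions of `²F₄(q)`: each is conjugate to one of two elements.
-/

set_option autoImplicit false
set_option linter.unusedSectionVars false
set_option linter.unusedSimpArgs false
set_option maxRecDepth 20000
set_option maxHeartbeats 1000000

namespace Cfsg.Agent.TwistedF4InvolMain71

open Cfsg.Lie Cfsg.Agent.ChevalleyCert Cfsg.Agent.ChevalleyCore Cfsg.Agent.ChevalleyRoots Cfsg.Agent.ChevalleyTorus
  Cfsg.Agent.TwistedF4Classes Cfsg.Agent.F4CharTwoNf71 Cfsg.Agent.F4CharTwoInj71 Cfsg.Agent.TwistedF4Formula71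
  Cfsg.Agent.TwistedF4InvolBase71

variable {K : Type*} [Field K] [Fintype K] [CharP K 2] (m : ℕ) (hK : Fintype.card K = 2 ^ (2 * m + 1))

local notation "ε" => (2 ^ m : ℕ)
local notation "Ψ" => psi K m
local notation "char2" => CharTwo.add_self_eq_zero (R := K)

variable (K) in
/-- the first representative -/
noncomputable def rep5 : GL chevF4.Idx K := X 39 1 * X 45 1

variable (K) in
/-- the second representative -/
noncomputable def rep4 : GL chevF4.Idx K := X 44 1 * X 47 1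

/-- the conclusion for one element -/
def Good (g : GL chevF4.Idx K) : Prop := g * g = 1 → Cj m g (rep5 K) ∨ Cj m g (rep4 K)

theorem Good.step {g h x : GL chevF4.Idx K} (hx : x ∈ twistedF4 K ε) (e : x * g * x⁻¹ = h) (H : Good m h) :
    Good m g := fun hu =>
  (H (Cj.sq m ⟨x, hx, e⟩ hu)).imp (Cj.trans' m ⟨x, hx, e⟩) (Cj.trans' m ⟨x, hx, e⟩)

theorem psi_surj : Function.Surjective (psi K m) := Finite.injective_iff_surjective.1 (psi K m).injective

theorem kill {a b : K} (hb : b ≠ 0) : a / b * b + a = 0 := by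
  rw [div_mul_cancel₀ _ hb, CharTwo.add_self_eq_zero]

theorem self_psi {t : K} (h : t * Ψ t = 0) : t = 0 := by
  rcases mul_eq_zero.1 h with h' | h'
  exacts [h', (map_eq_zero _).1 h']

theorem tchar_tp (s u : Kˣ) {r : ℕ} {e0 e1 e2 e3 : ℤ}
    (h : (List.range 4).map (fun i => chevF4.cartan i r) = [e0, e1, e2, e3]) :
    (tchar chevF4 (tp m s u) r : K) = ((s : K) ^ ε) ^ e0 * ((u : K) ^ ε) ^ e1 * (u : K) ^ e2 * (s : K) ^ e3 := by
  simp [List.range_succ] at h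
  obtain ⟨h0, h1, h2, h3⟩ := h
  rw [tchar]
  show ((∏ i : Fin 4, tp m s u i ^ chevF4.cartan (i : ℕ) r : Kˣ) : K) = _
  rw [Fin.prod_univ_four]
  simp [tp, h0, h1, h2, h3]

theorem cart : (List.range 4).map (fun i => chevF4.cartan i 39) = [0, -1, 1, 0] ∧
    (List.range 4).map (fun i => chevF4.cartan i 45) = [0, 2, -1, 0] ∧
    (List.range 4).map (fun i => chevF4.cartan i 44) = [1, 0, 0, 0] ∧
    (List.range 4).map (fun i => chevF4.cartan i 47) = [0, 0, 0, 1] := by decide +kernel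

include hK in
theorem coprime_eps : (Nat.card Kˣ).Coprime (ε - 1) := by
  rw [TwistedField.card_units_eq, hK]
  have h1 : 1 ≤ ε := Nat.one_le_two_pow
  obtain ⟨k, hk⟩ : ∃ k, ε = k + 1 := ⟨ε - 1, by omega⟩
  have e : 2 ^ (2 * m + 1) - 1 = (2 * k + 4) * k + 1 := by
    have : 2 ^ (2 * m + 1) = 2 * (ε * ε) := by rw [pow_succ, two_mul, pow_add]; ring
    rw [this, hk]
    have : 2 * ((k + 1) * (k + 1)) = (2 * k + 4) * k + 2 := by ring
    omega
  rw [e, hk, Nat.add_sub_cancel]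
  simp [Nat.coprime_comm, Nat.coprime_mul_left_add_right]

include hK in
theorem good_P5 {v : K} (hv : v ≠ 0) : Good m (Pe5 Ψ v) := by
  obtain ⟨u, hu⟩ := (powCoprime (coprime_eps m hK)).surjective (Units.mk0 v hv)
  have hu' : u ^ (ε - 1) = Units.mk0 v hv := hu
  have hue : (u : K) ^ ε = v * u := by
    have := congrArg (fun x : Kˣ => ((x * u : Kˣ) : K)) hu'
    simpa [← pow_succ, Nat.sub_add_cancel (Nat.one_le_two_pow : 1 ≤ ε)] using this
  have hu2 : (u : K) = Ψ v * Ψ u := by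
    rw [← map_mul, ← hue, map_pow, psi_eps m hK]
  have hu2' : ((u : K) ^ ε) ^ 2 = Ψ (u : K) := by rw [← pow_mul, psi_apply]
  refine fun _ => Or.inl ⟨torus chevF4 (tp m 1 u), torus_tp_mem m hK 1 u, ?_⟩
  simp only [Pe5, rep5]
  rw [TwistedF4InvolBase71.conj_mul, torus_conj_xg cf (by decide +kernel), torus_conj_xg cf (by decide +kernel),
    tchar_tp m 1 u cart.1, tchar_tp m 1 u cart.2.1]
  have hu0 : (u : K) ≠ 0 := u.ne_zero
  congr 2 <;> simp only [Units.val_one, one_pow, one_zpow, one_mul, mul_one, zpow_zero, zpow_one, zpow_neg_one]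
  · rw [hue]; field_simp
  · rw [show (2 : ℤ) = ((2 : ℕ) : ℤ) from rfl, zpow_natCast, hu2']
    field_simp
    linear_combination -hu2

include hK in
theorem good_U4 {v : K} (hv : v ≠ 0) : Good m (Ue4 Ψ v) := by
  have h0 : Ψ v ≠ 0 := by simpa using hv
  set s : Kˣ := Units.mk0 (Ψ v)⁻¹ (inv_ne_zero h0) with hs
  refine fun _ => Or.inr ⟨torus chevF4 (tp m s 1), torus_tp_mem m hK s 1, ?_⟩
  simp only [Ue4, rep4]
  rw [TwistedF4InvolBase71.conj_mul, torus_conj_xg cf (by decide +kernel), torus_conj_xg cf (by decide +kernel),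
    tchar_tp m s 1 cart.2.2.1, tchar_tp m s 1 cart.2.2.2]
  congr 2 <;> simp [hs, psi_eps m hK, hv, h0]

theorem nft_P1 (ψ : K →+* K) (v : K) : nft ψ v 0 0 0 0 0 0 0 0 0 0 0 = Pe1 ψ v := by simp [nft, nf, Pe1]
theorem nft_U2 (ψ : K →+* K) (v : K) : nft ψ 0 0 v 0 0 0 0 0 0 0 0 0 = Ue2 ψ v := by simp [nft, nf, Ue2]
theorem nft_P3 (ψ : K →+* K) (v : K) : nft ψ 0 0 0 v 0 0 0 0 0 0 0 0 = Pe3 ψ v := by simp [nft, nf, Pe3]
theorem nft_U4 (ψ : K →+* K) (v : K) : nft ψ 0 0 0 0 0 v 0 0 0 0 0 0 = Ue4 ψ v := by simp [nft, nf, Ue4]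
theorem nft_P5 (ψ : K →+* K) (v : K) : nft ψ 0 0 0 0 0 0 v 0 0 0 0 0 = Pe5 ψ v := by simp [nft, nf, Pe5]
theorem nft_U6 (ψ : K →+* K) (v : K) : nft ψ 0 0 0 0 0 0 0 0 v 0 0 0 = Ue6 ψ v := by simp [nft, nf, Ue6]
theorem nft_P7 (ψ : K →+* K) (v : K) : nft ψ 0 0 0 0 0 0 0 0 0 v 0 0 = Pe7 ψ v := by simp [nft, nf, Pe7]

include hK in
theorem good_P3 {v : K} (hv : v ≠ 0) : Good m (Pe3 Ψ v) :=
  Good.step m (cnF_mem m true) (n_elems Ψ v).2.2.2.2.2 (good_P5 m hK hv)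

include hK in
theorem good_P7 {v : K} (hv : v ≠ 0) : Good m (Pe7 Ψ v) :=
  Good.step m (cnF_mem m false) (n_elems Ψ v).2.2.2.2.1 (good_P3 m hK hv)

include hK in
theorem good_U6 {v : K} (hv : v ≠ 0) : Good m (Ue6 Ψ v) :=
  Good.step m (cnF_mem m false) (n_elems Ψ v).2.2.1.2 (good_U4 m hK hv)

include hK in
theorem good_U2 {v : K} (hv : v ≠ 0) : Good m (Ue2 Ψ v) :=
  Good.step m (cnF_mem m true) (n_elems Ψ v).2.1.2 (good_U6 m hK hv)

/-! ### first case -/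

include hK in
theorem caseA7 {p1 u6 : K} (h : p1 ≠ 0) : Good m (nft Ψ p1 0 0 0 0 0 0 0 u6 0 0 0) := by
  intro hu
  obtain ⟨a, ha, e⟩ := sq_A6 Ψ (psi_psi m hK) p1 u6
  rw [nf_one (ha.symm.trans hu)] at e
  simp only [Pi.zero_apply, map_zero, mul_zero, add_zero] at e
  obtain rfl := (mul_eq_zero.1 e.symm).resolve_left h
  rw [nft_P1] at hu ⊢
  exact Good.step m (cnF_mem m true) (n_elems Ψ p1).2.2.2.1 (good_P7 m hK h) hu

include hK in
theorem caseA3 {p1 u2 p3 u4 p5 u6 : K} (h : p1 ≠ 0) : Good m (nft Ψ p1 0 u2 p3 0 u4 p5 0 u6 0 0 0) := by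
  have hψ := psi_psi (K := K) m hK
  obtain ⟨c1, hc1⟩ := psi_surj m (p5 / p1)
  have h1 := cA_P7 Ψ hψ p1 u2 p3 u4 p5 u6 c1
  have e1 : p5 + Ψ c1 * p1 = 0 := by rw [add_comm, hc1, kill h]
  rw [e1] at h1
  refine Good.step m (elem_mem m hK c1).1.2.2.2 h1 ?_
  set p3' := c1 * Ψ p1 + p3
  set u4' := c1 * u2 + u4
  obtain ⟨c2, hc2⟩ := psi_surj m (p3' / p1)
  have h2 := cA_T6 Ψ hψ p1 u2 p3' u4' 0 u6 c2
  have e2 : p3' + Ψ c2 * p1 = 0 := by rw [add_comm, hc2, kill h]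
  rw [e2] at h2
  refine Good.step m (elem_mem m hK c2).2.1.2.2.1 h2 ?_
  set u2'' := c2 * Ψ p1 + u2
  set u4'' := c2 * p3' + u4'
  have h3 := cA_T4 Ψ hψ p1 u2'' 0 u4'' 0 u6 (u2'' / p1)
  rw [kill h] at h3
  refine Good.step m (elem_mem m hK _).2.1.2.1 h3 ?_
  have h4 := cA_U6 Ψ hψ p1 0 0 u4'' 0 u6 (u4'' / p1)
  rw [kill h] at h4
  exact Good.step m (elem_mem m hK _).2.2.2.2.1 h4 (caseA7 m hK h)

include hK in
theorem caseA2 {p1 u2 p3 u4 p5 t6 u6 p7 : K} (h : p1 ≠ 0) : Good m (nft Ψ p1 0 u2 p3 0 u4 p5 t6 u6 p7 0 0) := by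
  intro hu
  obtain ⟨a, ha, e, e'⟩ := sq_A Ψ (psi_psi m hK) p1 u2 p3 u4 p5 t6 u6 p7
  rw [nf_one (ha.symm.trans hu)] at e e'
  simp only [Pi.zero_apply, map_zero, mul_zero, add_zero] at e e'
  have hp : Ψ p1 ≠ 0 := by simpa using h
  obtain rfl := (mul_eq_zero.1 e.symm).resolve_left hp
  simp only [map_zero, mul_zero, zero_add] at e'
  obtain rfl := (mul_eq_zero.1 e'.symm).resolve_left hp
  exact caseA3 m hK h hu

include hK in
theorem caseA {p1 t2 u2 p3 t4 u4 p5 t6 u6 p7 : K} (h : p1 ≠ 0) :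
    Good m (nft Ψ p1 t2 u2 p3 t4 u4 p5 t6 u6 p7 0 0) := by
  have hψ := psi_psi (K := K) m hK
  have h1 := cA_T8 Ψ hψ p1 t2 u2 p3 t4 u4 p5 t6 u6 p7 (t2 / p1)
  rw [kill h] at h1
  refine Good.step m (elem_mem m hK _).2.1.2.2.2 h1 ?_
  have hp : Ψ p1 ≠ 0 := by simpa using h
  generalize t2 / p1 * Ψ t2 + t4 = t4'
  have h2 := fun u2 p3 u4 p5 t6 u6 p7 => cA_U8 Ψ hψ p1 0 u2 p3 t4' u4 p5 t6 u6 p7 (t4' / Ψ p1)
  simp only [kill hp] at h2
  exact Good.step m (elem_mem m hK _).2.2.2.2.2 (h2 _ _ _ _ _ _ _) (caseA2 m hK h)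

/-! ### the case of a two-element normal form -/

theorem swap_B (ψ : K →+* K) (u4 u8 : K) :
    cnF false * nft ψ 0 0 0 0 0 u4 0 0 0 0 0 u8 * (cnF false)⁻¹ = nft ψ 0 0 u8 0 0 0 0 0 u4 0 0 0 := by
  simp only [nft, nf, Matrix.cons_val, map_zero, mul_zero, zero_add, xg_zero, one_mul, mul_one, TwistedF4InvolBase71.conj_mul]
  rw [n_X' _ (r' := 40) (by decide +kernel), n_X' _ (r' := 46) (by decide +kernel),
    n_X' _ (r' := 36) (by decide +kernel), n_X' _ (r' := 42) (by decide +kernel)]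
  collectF71

theorem swap_C (ψ : K →+* K) (u2 p3 : K) :
    cnF true * nft ψ 0 0 u2 p3 0 0 0 0 0 0 0 0 * (cnF true)⁻¹ = nft ψ 0 0 0 0 0 0 p3 0 u2 0 0 0 := by
  simp only [nft, nf, Matrix.cons_val, map_zero, mul_zero, zero_add, xg_zero, one_mul, mul_one, TwistedF4InvolBase71.conj_mul]
  rw [n_X' _ (r' := 40) (by decide +kernel), n_X' _ (r' := 46) (by decide +kernel),
    n_X' _ (r' := 39) (by decide +kernel), n_X' _ (r' := 45) (by decide +kernel)]
  collectF71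

theorem swap_D (ψ : K →+* K) (p3 p7 : K) :
    cnF true * nft ψ 0 0 0 p3 0 0 0 0 0 p7 0 0 * (cnF true)⁻¹ = nft ψ p7 0 0 0 0 0 p3 0 0 0 0 0 := by
  simp only [nft, nf, Matrix.cons_val, map_zero, mul_zero, zero_add, xg_zero, one_mul, mul_one, TwistedF4InvolBase71.conj_mul]
  rw [n_X' _ (r' := 39) (by decide +kernel), n_X' _ (r' := 45) (by decide +kernel),
    n_X' _ (r' := 33) (by decide +kernel), n_X' _ (r' := 24) (by decide +kernel)]
  collectF71

include hK in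
theorem caseC {y x : K} (hy : y ≠ 0) : Good m (nft Ψ 0 0 y 0 0 0 0 0 x 0 0 0) := by
  have hψ := psi_psi (K := K) m hK
  rcases eq_or_ne x 0 with rfl | hx
  · rw [nft_U2]; exact good_U2 m hK hy
  have hcop : (Nat.card Kˣ).Coprime (ε * 2 + 2) := by
    rw [TwistedField.card_units_eq, hK]; exact (coprime_exp m).symm
  obtain ⟨cu, hcu⟩ := (powCoprime hcop).surjective (Units.mk0 (x / y) (div_ne_zero hx hy))
  have hcu' : cu ^ (ε * 2 + 2) = Units.mk0 (x / y) (div_ne_zero hx hy) := hcu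
  set c : K := (cu : K) with hc
  have hc0 : c ≠ 0 := cu.ne_zero
  have hcx : c ^ 2 * Ψ c * y = x := by
    have := congrArg (fun z : Kˣ => (z : K)) hcu'
    simp only [Units.val_pow_eq_pow_val, Units.val_mk0] at this
    rw [psi_apply, ← pow_add, add_comm, hc, this, div_mul_cancel₀ _ hy]
  have h1 := cC_T8 Ψ hψ y x c (c * Ψ c)
  have e1 : c * Ψ c * y + c * Ψ c * y = 0 := char2 _
  have e2 : c * (c * Ψ c) * y + c ^ 2 * Ψ c * y + x + Ψ (c * Ψ c) * y = 0 := by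
    rw [map_mul, hψ, show c * (c * Ψ c) * y = c ^ 2 * Ψ c * y by ring, char2, zero_add,
      show Ψ c * c ^ 2 * y = c ^ 2 * Ψ c * y by ring, hcx, char2]
  rw [e1, e2] at h1
  refine Good.step m (mul_mem (elem_mem m hK _).2.2.2.2.2 (elem_mem m hK c).2.1.2.2.2) h1 ?_
  generalize c * Ψ c * Ψ y = u4
  have h2 := cE_P7 Ψ hψ y (c * y) 0 u4 0 0 0 0 (u4 / y)
  simp only [kill hy, mul_zero, add_zero] at h2
  refine Good.step m (elem_mem m hK _).1.2.2.2 h2 ?_
  refine Good.step m (cnF_mem m true) (swap_C Ψ y (c * y)) ?_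
  have hp : c * y ≠ 0 := mul_ne_zero hc0 hy
  have h3 := cD_T8 Ψ hψ 0 0 (c * y) y 0 (y / (c * y))
  simp only [kill hp, map_zero, mul_zero, add_zero, zero_add] at h3
  refine Good.step m (elem_mem m hK _).2.1.2.2.2 h3 ?_
  rw [nft_P5]; exact good_P5 m hK hp

/-! ### second case -/

include hK in
theorem caseB4 {u2 p3 t4 u4 u8 : K} (h : u8 ≠ 0) : Good m (nft Ψ 0 0 u2 p3 t4 u4 0 0 0 0 0 u8) := by
  intro hu
  obtain ⟨a, ha, e, e', e''⟩ := sq_B Ψ (psi_psi m hK) u2 p3 t4 u4 0 0 0 0 u8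
  rw [nf_one (ha.symm.trans hu)] at e e' e''
  simp only [Pi.zero_apply, map_zero, mul_zero, zero_mul, add_zero, zero_add] at e e' e''
  obtain rfl := (mul_eq_zero.1 e'.symm).resolve_right h
  simp only [map_zero, zero_mul, add_zero] at e e''
  obtain rfl := self_psi m e.symm
  obtain rfl := (mul_eq_zero.1 e''.symm).resolve_right h
  exact Good.step m (cnF_mem m false) (swap_B Ψ u4 u8) (caseC m hK h) hu

include hK in
theorem caseB3 {u2 p3 t4 u4 u6 u8 : K} (h : u8 ≠ 0) : Good m (nft Ψ 0 0 u2 p3 t4 u4 0 0 u6 0 0 u8) := by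
  have h1 := cB_P3 Ψ (psi_psi m hK) u2 p3 t4 u4 0 0 u6 0 u8 (u6 / u8)
  rw [kill h] at h1
  exact Good.step m (elem_mem m hK _).1.2.1 h1 (caseB4 m hK h)

include hK in
theorem caseB2 {u2 p3 t4 u4 p5 u6 u8 : K} (h : u8 ≠ 0) : Good m (nft Ψ 0 0 u2 p3 t4 u4 p5 0 u6 0 0 u8) := by
  have h1 := cB_U2 Ψ (psi_psi m hK) u2 p3 t4 u4 p5 0 u6 0 u8 (p5 / u8)
  rw [kill h] at h1
  exact Good.step m (elem_mem m hK _).2.2.1 h1 (caseB3 m hK h)

include hK in
theorem caseB1 {u2 p3 t4 u4 p5 u6 p7 u8 : K} (h : u8 ≠ 0) : Good m (nft Ψ 0 0 u2 p3 t4 u4 p5 0 u6 p7 0 u8) := by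
  have h1 := cB_T2 Ψ (psi_psi m hK) u2 p3 t4 u4 p5 0 u6 p7 u8 (p7 / u8)
  rw [kill h] at h1
  exact Good.step m (elem_mem m hK _).2.1.1 h1 (caseB2 m hK h)

include hK in
theorem caseB {u2 p3 t4 u4 p5 t6 u6 p7 u8 : K} (h : u8 ≠ 0) :
    Good m (nft Ψ 0 0 u2 p3 t4 u4 p5 t6 u6 p7 0 u8) := by
  have h1 := cB_P1 Ψ (psi_psi m hK) u2 p3 t4 u4 p5 t6 u6 p7 u8 (t6 / u8)
  rw [kill h] at h1
  exact Good.step m (elem_mem m hK _).1.1 h1 (caseB1 m hK h)

include hK in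
theorem caseE3 {u2 t4 t6 u6 p7 : K} (h : u2 ≠ 0) : Good m (nft Ψ 0 0 u2 0 t4 0 0 t6 u6 p7 0 0) := by
  intro hu
  obtain ⟨a, ha, e, e', e''⟩ := sq_B Ψ (psi_psi m hK) u2 0 t4 0 0 t6 u6 p7 0
  rw [nf_one (ha.symm.trans hu)] at e e' e''
  simp only [Pi.zero_apply, map_zero, mul_zero, zero_mul, add_zero, zero_add] at e e' e''
  rcases mul_eq_zero.1 e'.symm with rfl | rfl
  · simp only [map_zero, mul_zero, zero_mul, add_zero, zero_add] at e e''
    obtain rfl := (mul_eq_zero.1 e.symm).resolve_right h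
    obtain rfl := self_psi m e''.symm
    exact caseC m hK h hu
  · simp only [map_zero, mul_zero, zero_mul, add_zero, zero_add] at e e''
    rcases mul_eq_zero.1 e''.symm with rfl | rfl
    · simp only [zero_mul, zero_add] at e
      obtain rfl := self_psi m e.symm
      exact caseC m hK h hu
    · simp only [map_zero, mul_zero, add_zero] at e
      obtain rfl := (mul_eq_zero.1 e.symm).resolve_right h
      exact caseC m hK h hu

include hK in
theorem caseE2 {u2 t4 u4 t6 u6 p7 : K} (h : u2 ≠ 0) : Good m (nft Ψ 0 0 u2 0 t4 u4 0 t6 u6 p7 0 0) := by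
  have h1 := cE_P7 Ψ (psi_psi m hK) u2 0 t4 u4 0 t6 u6 p7 (u4 / u2)
  rw [kill h] at h1
  exact Good.step m (elem_mem m hK _).1.2.2.2 h1 (caseE3 m hK h)

include hK in
theorem caseE1 {u2 t4 u4 p5 t6 u6 p7 : K} (h : u2 ≠ 0) : Good m (nft Ψ 0 0 u2 0 t4 u4 p5 t6 u6 p7 0 0) := by
  have h1 := cE_U8 Ψ (psi_psi m hK) u2 0 t4 u4 p5 t6 u6 p7 (p5 / u2)
  rw [kill h] at h1
  exact Good.step m (elem_mem m hK _).2.2.2.2.2 h1 (caseE2 m hK h)

include hK in
theorem caseE {u2 p3 t4 u4 p5 t6 u6 p7 : K} (h : u2 ≠ 0) :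
    Good m (nft Ψ 0 0 u2 p3 t4 u4 p5 t6 u6 p7 0 0) := by
  have h1 := cE_T8 Ψ (psi_psi m hK) u2 p3 t4 u4 p5 t6 u6 p7 (p3 / u2)
  rw [kill h] at h1
  exact Good.step m (elem_mem m hK _).2.1.2.2.2 h1 (caseE1 m hK h)

/-! ### third case -/

include hK in
theorem caseD {p3 u4 p5 u6 p7 : K} (hne : nft Ψ 0 0 0 p3 0 u4 p5 0 u6 p7 0 0 ≠ 1) :
    Good m (nft Ψ 0 0 0 p3 0 u4 p5 0 u6 p7 0 0) := by
  have hψ := psi_psi (K := K) m hK
  have z : Ψ (0 : K) = 0 := map_zero _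
  by_cases h3 : p3 = 0
  · subst h3
    by_cases h7 : p7 = 0
    · subst h7
      by_cases h5 : p5 = 0
      · subst h5
        by_cases h6 : u6 = 0
        · subst h6
          have h4 : u4 ≠ 0 := fun e => hne (by subst e; simp [nft, nf])
          rw [nft_U4]; exact good_U4 m hK h4
        · have h1 := cF_P1 Ψ hψ u4 0 u6 (u4 / u6)
          rw [kill h6] at h1
          refine Good.step m (elem_mem m hK _).1.1 h1 ?_
          rw [nft_U6]; exact good_U6 m hK h6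
      · have h1 := cD_T2 Ψ hψ 0 u4 p5 u6 0 (u4 / p5)
        simp only [kill h5, z, mul_zero, add_zero, zero_add] at h1
        refine Good.step m (elem_mem m hK _).2.1.1 h1 ?_
        have h2 := cD_T8 Ψ hψ 0 0 p5 u6 0 (u6 / p5)
        simp only [kill h5, z, mul_zero, add_zero, zero_add] at h2
        refine Good.step m (elem_mem m hK _).2.1.2.2.2 h2 ?_
        rw [nft_P5]; exact good_P5 m hK h5
    · obtain ⟨c, hc⟩ := psi_surj m (p5 / p7)
      have h1 := cD_T2 Ψ hψ 0 u4 p5 u6 p7 c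
      rw [show p5 + Ψ c * p7 = 0 by rw [add_comm, hc, kill h7]] at h1
      refine Good.step m (elem_mem m hK _).2.1.1 h1 ?_
      generalize c * p5 + u4 = u4'
      generalize c * Ψ p7 + u6 = u6'
      have h2 := cD_U2 Ψ hψ 0 u4' 0 u6' p7 (u4' / p7)
      rw [kill h7] at h2
      refine Good.step m (elem_mem m hK _).2.2.1 h2 ?_
      have h4 := cD_T4 Ψ hψ 0 0 0 u6' p7 (u6' / p7)
      rw [kill h7] at h4
      refine Good.step m (elem_mem m hK _).2.1.2.1 h4 ?_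
      rw [nft_P7]; exact good_P7 m hK h7
  · obtain ⟨c, hc⟩ := psi_surj m (p5 / p3)
    have h1 := cD_T8 Ψ hψ p3 u4 p5 u6 p7 c
    rw [show p5 + Ψ c * p3 = 0 by rw [add_comm, hc, kill h3]] at h1
    refine Good.step m (elem_mem m hK _).2.1.2.2.2 h1 ?_
    generalize c * Ψ p3 + u4 = u4'
    generalize c * p5 + u6 = u6'
    have h2 := cD_T6 Ψ hψ p3 u4' 0 u6' p7 (u4' / p3)
    rw [kill h3] at h2
    refine Good.step m (elem_mem m hK _).2.1.2.2.1 h2 ?_
    have h4 := cD_U8 Ψ hψ p3 0 0 u6' p7 (u6' / p3)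
    rw [kill h3] at h4
    refine Good.step m (elem_mem m hK _).2.2.2.2.2 h4 ?_
    by_cases h7 : p7 = 0
    · subst h7
      rw [nft_P3]; exact good_P3 m hK h3
    · exact Good.step m (cnF_mem m true) (swap_D Ψ p3 p7) (caseA m hK h7)

include hK in
theorem in_U1 {g : GL chevF4.Idx K} (hg : g ∈ chevF4.posUnipotent K ⊓ twistedF4 K ε) (hne : g ≠ 1) : Good m g := by
  have hψ := psi_psi (K := K) m hK
  obtain ⟨p1, t2, u2, p3, t4, u4, p5, t6, u6, p7, t8, u8, rfl⟩ := exists_nft m hK hg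
  intro hu
  obtain ⟨a, ha, e⟩ := sq_all Ψ hψ p1 t2 u2 p3 t4 u4 p5 t6 u6 p7 t8 u8
  rw [nf_one (ha.symm.trans hu)] at e
  simp only [Pi.zero_apply, map_zero, mul_zero, add_zero] at e
  obtain rfl := self_psi m e.symm
  obtain ⟨a, ha, e⟩ := sq_noT8 Ψ hψ p1 t2 u2 p3 t4 u4 p5 t6 u6 p7 u8
  rw [nf_one (ha.symm.trans hu)] at e
  simp only [Pi.zero_apply] at e
  by_cases h1 : p1 = 0
  · subst h1
    obtain ⟨a, ha, e⟩ := sq_p1 Ψ hψ t2 u2 p3 t4 u4 p5 t6 u6 p7 u8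
    rw [nf_one (ha.symm.trans hu)] at e
    simp only [Pi.zero_apply, map_zero, mul_zero, add_zero] at e
    obtain rfl := self_psi m e.symm
    by_cases h8 : u8 = 0
    · subst h8
      by_cases h2 : u2 = 0
      · subst h2
        obtain ⟨a, ha, e, e', e''⟩ := sq_B Ψ hψ 0 p3 t4 u4 p5 t6 u6 p7 0
        rw [nf_one (ha.symm.trans hu)] at e e' e''
        simp only [Pi.zero_apply, map_zero, mul_zero, zero_mul, add_zero, zero_add] at e e' e''
        rcases mul_eq_zero.1 e'.symm with rfl | rfl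
        · simp only [map_zero, mul_zero, zero_mul, add_zero, zero_add] at e''
          obtain rfl := self_psi m e''.symm
          exact caseD m hK hne hu
        · simp only [map_zero, mul_zero, zero_mul, add_zero, zero_add] at e
          obtain rfl := self_psi m e.symm
          exact caseD m hK hne hu
      · exact caseE m hK h2 hu
    · exact caseB m hK h8 hu
  · obtain rfl := (mul_eq_zero.1 e.symm).resolve_left (by simpa using h1)
    exact caseA m hK h1 hu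

include hK in
theorem all_involutions {g : GL chevF4.Idx K} (hg : g ∈ twistedF4 K ε) (hne : g ≠ 1) (hu : g * g = 1) :
    Cj m g (rep5 K) ∨ Cj m g (rep4 K) := by
  obtain ⟨u, hu1, hc⟩ := to_U1 m hK hg hu
  have hune : u ≠ 1 := fun e => hne (by
    obtain ⟨x, -, hx⟩ := hc
    rw [show g = x⁻¹ * u * x by rw [← hx]; group, e]; group)
  exact (in_U1 m hK hu1 hune (Cj.sq m hc hu)).imp (Cj.trans' m hc) (Cj.trans' m hc)

end Cfsg.Agent.TwistedF4InvolMain71
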