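import Cfsg.Agent.Lib.TwistedF4InvolRankDefs71

/-!
Certificate for the larger rank.
-/

set_option autoImplicit false
set_option linter.unusedSectionVars false
set_option linter.unusedSimpArgs false
set_option maxRecDepth 20000
set_option maxHeartbeats 1000000

namespace Cfsg.Agent.TwistedF4InvolRank71

open Cfsg.Lie Cfsg.Agent.ChevalleyCert Cfsg.Agent.ChevalleyCore Cfsg.Agent.ChevalleyExp
  Cfsg.Agent.TwistedF4Classes Cfsg.Agent.F4CharTwoNf71 Cfsg.Agent.F4CharTwoInj71 Cfsg.Agent.TwistedF4InvolMain71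

theorem high_cert :
    PS * ((xR chevF4 (ZMod 2) 39 1 * xR chevF4 (ZMod 2) 45 1 + 1) * RS) = 1 := by
  decide +kernel

end Cfsg.Agent.TwistedF4InvolRank71
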