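import Cfsg.Agent.Lib.TwistedF4InvolRankLow71
import Cfsg.Agent.Lib.TwistedF4InvolRankHigh71

/-!
The two representatives are not conjugate: the ranks of `g - 1` differ.
-/

set_option autoImplicit false
set_option linter.unusedSectionVars false
set_option linter.unusedSimpArgs false
set_option maxRecDepth 20000
set_option maxHeartbeats 1000000

namespace Cfsg.Agent.TwistedF4InvolRank71

open Cfsg.Lie Cfsg.Agent.ChevalleyCert Cfsg.Agent.ChevalleyCore Cfsg.Agent.ChevalleyExp
  Cfsg.Agent.TwistedF4Classes Cfsg.Agent.F4CharTwoNf71 Cfsg.Agent.F4CharTwoInj71 Cfsg.Agent.TwistedF4InvolMain71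

variable {K : Type*} [Field K] [CharP K 2]

local notation "Mat" => Matrix chevF4.Idx chevF4.Idx K

theorem not_conj (x : GL chevF4.Idx K) : x * rep4 K * x⁻¹ ≠ rep5 K := by
  intro h
  set c : ZMod 2 →+* K := ZMod.castHom (dvd_refl 2) K
  have hx : ∀ r < chevF4.nroots, (xR chevF4 (ZMod 2) r 1).map c =
      ((X r (1 : K) : GL chevF4.Idx K) : Matrix chevF4.Idx chevF4.Idx K) := by
    intro r hr
    rw [xR_map, map_one, coe_xg, x_eq_xR cf hr]
  have hL := congrArg (fun M => M.map c) low_cert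
  simp only [Matrix.map_mul, Matrix.map_add _ (map_add c), Matrix.map_one _ (map_zero c) (map_one c),
    hx 44 (by decide +kernel), hx 47 (by decide +kernel)] at hL
  have hS := congrArg (fun M => M.map c) high_cert
  simp only [Matrix.map_mul, Matrix.map_add _ (map_add c), Matrix.map_one _ (map_zero c) (map_one c),
    hx 39 (by decide +kernel), hx 45 (by decide +kernel)] at hS
  rw [← Units.val_mul, show (X 39 1 * X 45 1 : GL chevF4.Idx K) = rep5 K from rfl] at hS
  rw [← Units.val_mul, show (X 44 1 * X 47 1 : GL chevF4.Idx K) = rep4 K from rfl] at hL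
  have e : ((rep5 K : GL chevF4.Idx K) : Matrix chevF4.Idx chevF4.Idx K) + 1 =
      ((x : Matrix chevF4.Idx chevF4.Idx K) * AL.map c) *
        (BL.map c * ((x⁻¹ : GL chevF4.Idx K) : Matrix chevF4.Idx chevF4.Idx K)) := by
    rw [← h, Units.val_mul, Units.val_mul, Matrix.mul_assoc _ (AL.map c), ← Matrix.mul_assoc (AL.map c), ← hL,
      Matrix.add_mul, Matrix.one_mul, Matrix.mul_add, Units.mul_inv, ← Matrix.mul_assoc]
  rw [e, Matrix.mul_assoc ((x : Matrix chevF4.Idx chevF4.Idx K) * AL.map c), ← Matrix.mul_assoc (PS.map c)] at hS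
  have h1 := Matrix.rank_mul_le_left (PS.map c * ((x : Matrix chevF4.Idx chevF4.Idx K) * AL.map c))
    (BL.map c * ((x⁻¹ : GL chevF4.Idx K) : Matrix chevF4.Idx chevF4.Idx K) * RS.map c)
  rw [hS, Matrix.rank_one, Fintype.card_fin] at h1
  have h2 := Matrix.rank_le_width (PS.map c * ((x : Matrix chevF4.Idx chevF4.Idx K) * AL.map c))
  omega

theorem rep_sq : rep4 K * rep4 K = 1 ∧ rep5 K * rep5 K = 1 := by
  constructor <;>
  · simp only [rep4, rep5]
    collectF71
    simp [CharTwo.add_self_eq_zero]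

theorem rep_ne [Fintype K] : rep4 K ≠ 1 ∧ rep5 K ≠ 1 := by
  constructor <;> intro e
  · have h' : nf ![(0 : K), 0, 0, 0, 0, 0, 0, 0, 0, 0, 1, 1, 0, 0, 0, 0, 0, 0, 0, 0, 0, 0, 0, 0] = 1 := by
      simpa [nf, rep4] using e
    simpa using congrFun (nf_one h') 10
  · have h' : nf ![(0 : K), 0, 0, 0, 0, 0, 0, 0, 0, 0, 0, 0, 1, 1, 0, 0, 0, 0, 0, 0, 0, 0, 0, 0] = 1 := by
      simpa [nf, rep5] using e
    simpa using congrFun (nf_one h') 12

end Cfsg.Agent.TwistedF4InvolRank71
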