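import Cfsg.Agent.Lib.TwistedF4InvolMain71

/-!
Factors of the certificates for the ranks of `g - 1` of the two representatives.
-/

set_option autoImplicit false
set_option linter.unusedSectionVars false
set_option linter.unusedSimpArgs false
set_option maxRecDepth 20000
set_option maxHeartbeats 1000000

namespace Cfsg.Agent.TwistedF4InvolRank71

open Cfsg.Lie Cfsg.Agent.ChevalleyCert Cfsg.Agent.ChevalleyCore Cfsg.Agent.ChevalleyExp
  Cfsg.Agent.TwistedF4Classes Cfsg.Agent.F4CharTwoNf71 Cfsg.Agent.F4CharTwoInj71 Cfsg.Agent.TwistedF4InvolMain71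

/-- the number of an index -/
def num : chevF4.Idx → ℕ
  | Sum.inl i => i.val
  | Sum.inr s => s.val + 4

/-- a bit of a list of rows -/
def bit (l : List ℕ) (i j : ℕ) : ZMod 2 := if (l.getD i 0).testBit j then 1 else 0

/-- factor of the element of smaller rank -/
def AL : Matrix chevF4.Idx (Fin 21) (ZMod 2) := fun i j => bit [4, 32, 4, 0, 0, 0, 0, 0, 0, 0, 0, 0, 0, 0, 0, 0, 0, 0, 0, 0, 0, 0, 4, 8, 16, 0, 0, 0, 8, 0, 16, 64, 128, 288, 0, 64, 128, 512, 1024, 2048, 4608, 8192, 17408, 34816, 73728, 4, 131080, 262160, 37, 524352, 1048704, 262] (num i) j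

/-- factor of the element of smaller rank -/
def BL : Matrix (Fin 21) chevF4.Idx (ZMod 2) := fun i j => bit [4194305, 8, 16, 32, 64, 128, 256, 512, 1024, 2048, 4096, 8192, 16384, 32768, 65536, 131072, 262144, 524288, 1048576, 33554432, 134217728] i (num j)

/-- selection for the element of larger rank -/
def PS : Matrix (Fin 22) chevF4.Idx (ZMod 2) := fun i j => bit [571746046443521, 562949953421320, 8192, 16384, 8, 131072, 262144, 17179869184, 34359738368, 16777216, 9, 2199023263744, 4398046527488, 4294967296, 8589934592, 17592186175488, 137438953472, 35184372088832, 70368744177664, 549755813888, 1099511627776, 281474993487872] i (num j)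

/-- selection for the element of larger rank -/
def RS : Matrix chevF4.Idx (Fin 22) (ZMod 2) := fun i j => bit [0, 1, 2, 0, 4, 8, 16, 32, 64, 128, 256, 512, 1024, 2048, 4096, 8192, 16384, 32768, 0, 65536, 131072, 262144, 524288, 1048576, 2097152, 0, 0, 0, 0, 0, 0, 0, 0, 0, 0, 0, 0, 0, 0, 0, 0, 0, 0, 0, 0, 0, 0, 0, 0, 0, 0, 0] (num i) j

end Cfsg.Agent.TwistedF4InvolRank71
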