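import Cfsg.Agent.Lib.TwistedF4InvolRank71
import Cfsg.Agent.Lib.TitsTwoSimple15

/-!
The two involution classes of `²F₄(q)` and of the Tits group.
-/

set_option autoImplicit false
set_option linter.unusedSectionVars false
set_option linter.unusedSimpArgs false
set_option maxRecDepth 20000
set_option maxHeartbeats 2000000

namespace Cfsg.Agent.TwistedF4InvolTits71

open Cfsg.Lie Cfsg.Agent.ChevalleyCert Cfsg.Agent.ChevalleyCore Cfsg.Agent.TwistedF4Classes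
  Cfsg.Agent.F4CharTwoNf71 Cfsg.Agent.TwistedF4Formula71 Cfsg.Agent.TwistedF4InvolBase71
  Cfsg.Agent.TwistedF4InvolMain71 Cfsg.Agent.TwistedF4InvolRank71
open scoped commutatorElement

section general

variable {K : Type*} [Field K] [Fintype K] [CharP K 2] (m : ℕ) (hK : Fintype.card K = 2 ^ (2 * m + 1))

theorem rep_eq : Ue4 (psi K m) 1 = rep4 K ∧ Pe5 (psi K m) 1 = rep5 K := by
  simp [Ue4, Pe5, rep4, rep5]

include hK in
theorem rep_mem : rep4 K ∈ twistedF4 K (2 ^ m) ∧ rep5 K ∈ twistedF4 K (2 ^ m) := by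
  obtain ⟨e4, e5⟩ := rep_eq (K := K) m
  exact ⟨e4 ▸ (elem_mem m hK 1).2.2.2.1, e5 ▸ (elem_mem m hK 1).1.2.2.1⟩

/-- two classes, given a subgroup having the same fusion of involutions -/
theorem count {H : Type*} [Group H] (f : H →* GL chevF4.Idx K) (hf : Function.Injective f)
    (h4 : ∃ a, f a = rep4 K) (h5 : ∃ a, f a = rep5 K)
    (hconj : ∀ g : H, g ≠ 1 → g * g = 1 → ∃ x : H, f x * f g * (f x)⁻¹ = rep5 K ∨ f x * f g * (f x)⁻¹ = rep4 K) :
    (ConjClasses.mk '' {g : H | orderOf g = 2}).ncard = 2 := by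
  obtain ⟨A, hA⟩ := h5
  obtain ⟨B, hB⟩ := h4
  have hne : ∀ g : H, f g * f g = 1 → f g ≠ 1 → orderOf g = 2 := fun g h2 h1 =>
    orderOf_eq_prime (by rw [pow_two]; exact hf (by rw [map_mul, map_one, h2])) fun e => h1 (by rw [e, map_one])
  have himg : ConjClasses.mk '' {g : H | orderOf g = 2} = {ConjClasses.mk A, ConjClasses.mk B} := by
    ext C
    simp only [Set.mem_image, Set.mem_setOf_eq, Set.mem_insert_iff, Set.mem_singleton_iff]
    constructor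
    · rintro ⟨g, hg, rfl⟩
      have hg2 : g * g = 1 := by
        have := pow_orderOf_eq_one g
        rwa [hg, pow_two] at this
      have hg1 : g ≠ 1 := fun e => by rw [e, orderOf_one] at hg; omega
      obtain ⟨x, e | e⟩ := hconj g hg1 hg2
      · exact Or.inl (ConjClasses.mk_eq_mk_iff_isConj.2 (isConj_iff.2 ⟨x, hf (by
          rw [map_mul, map_mul, map_inv, e, hA])⟩))
      · exact Or.inr (ConjClasses.mk_eq_mk_iff_isConj.2 (isConj_iff.2 ⟨x, hf (by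
          rw [map_mul, map_mul, map_inv, e, hB])⟩))
    · rintro (rfl | rfl)
      · exact ⟨A, hne A (by rw [hA]; exact rep_sq.2) (by rw [hA]; exact rep_ne.2), rfl⟩
      · exact ⟨B, hne B (by rw [hB]; exact rep_sq.1) (by rw [hB]; exact rep_ne.1), rfl⟩
  rw [himg]
  refine Set.ncard_pair fun e => ?_
  obtain ⟨x, hx⟩ := isConj_iff.1 (ConjClasses.mk_eq_mk_iff_isConj.1 e)
  have h := congrArg f hx
  rw [map_mul, map_mul, map_inv, hA, hB] at h
  exact not_conj (f x)⁻¹ (by rw [← h]; group)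

include hK in
theorem count_twisted :
    (ConjClasses.mk '' {g : ↥(twistedF4 K (2 ^ m)) | orderOf g = 2}).ncard = 2 := by
  refine count (twistedF4 K (2 ^ m)).subtype Subtype.val_injective ⟨⟨_, (rep_mem m hK).1⟩, rfl⟩
    ⟨⟨_, (rep_mem m hK).2⟩, rfl⟩ fun g h1 h2 => ?_
  rcases all_involutions m hK g.2 (fun e => h1 (Subtype.ext e)) (congrArg Subtype.val h2) with ⟨x, hx, e⟩ | ⟨x, hx, e⟩
  exacts [⟨⟨x, hx⟩, Or.inl e⟩, ⟨⟨x, hx⟩, Or.inr e⟩]

theorem te4_comm (ψ : K →+* K) :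
    Te4 ψ 1 * rep4 K = rep4 K * Te4 ψ 1 ∧ Te4 ψ 1 * rep5 K = rep5 K * Te4 ψ 1 ∧ Te4 ψ 1 * Te4 ψ 1 = rep4 K ∧
      (cnF true * (Te2 ψ 1 * Te4 ψ 1 * (Te2 ψ 1)⁻¹ * (Te4 ψ 1)⁻¹) * (cnF true)⁻¹) = rep5 K := by
  have hc : Te2 ψ 1 * Te4 ψ 1 * (Te2 ψ 1)⁻¹ * (Te4 ψ 1)⁻¹ = Pe3 ψ 1 := by
    simp only [Te2, Te4, Pe3, map_one, mul_one, mul_inv_rev, xg_inv cf, neg2]
    collectF71
    simp [CharTwo.add_self_eq_zero]
  refine ⟨?_, ?_, ?_, ?_⟩
  · simp only [Te4, rep4, map_one, mul_one]; collectF71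
  · simp only [Te4, rep5, map_one, mul_one]; collectF71
  · simp only [Te4, rep4, map_one, mul_one]; collectF71; simp [CharTwo.add_self_eq_zero]
  · rw [hc, (n_elems ψ 1).2.2.2.2.2]; simp [Pe5, rep5]

end general

open TitsTwo15

theorem hK2 : Fintype.card (ZMod 2) = 2 ^ (2 * 0 + 1) := by simp

theorem Te4_notMem : Te4 (psi (ZMod 2) 0) (1 : ZMod 2) ∉ M := by
  intro h
  set ψ := psi (ZMod 2) 0
  have hn : ∀ J, cnF J ∈ twistedF4 (ZMod 2) 1 := fun J => by simpa using cnF_mem (K := ZMod 2) 0 J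
  have hc : ∀ {J : Bool} {a b : GF}, cnF J * a * (cnF J)⁻¹ = b → b ∈ M → a ∈ M := by
    intro J a b e hb
    rw [M_eq_comm] at hb ⊢
    have := conj_comm_mem (inv_mem (hn J)) hb
    rwa [← e, inv_inv, mul_assoc (cnF J), ← mul_assoc, ← mul_assoc, inv_mul_cancel, one_mul, mul_assoc,
      inv_mul_cancel, mul_one] at this
  obtain ⟨⟨a2, -⟩, ⟨a6, -⟩, ⟨a4, -⟩, -⟩ := n_elems ψ (1 : ZMod 2)
  have h8 := hc a2 (hc a6 (hc a4 h))
  have : Te8 ψ (1 : ZMod 2) = gl 1 := by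
    apply Units.ext
    rw [gl_coe 1 (by norm_num)]
    simp [Te8, genRoots, rootIds, ChevalleyDatum.wordMat, mul_assoc]
  exact top_notMem_comm (this ▸ h8)

theorem count_tits : (ConjClasses.mk '' {g : TitsGroup | orderOf g = 2}).ncard = 2 := by
  set ψ := psi (ZMod 2) 0
  obtain ⟨c4, c5, s4, s5⟩ := te4_comm (K := ZMod 2) ψ
  have hT : Te4 ψ (1 : ZMod 2) ∈ twistedF4 (ZMod 2) 1 := by simpa using (elem_mem 0 hK2 1).2.1.2.1
  have hT2 : Te2 ψ (1 : ZMod 2) ∈ twistedF4 (ZMod 2) 1 := by simpa using (elem_mem 0 hK2 1).2.1.1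
  obtain ⟨k, hk, hdeg⟩ := exists_Deg hT
  obtain rfl : k = 1 := by
    rcases Nat.lt_succ_iff.1 hk |> Nat.le_one_iff_eq_zero_or_eq_one.1 with rfl | rfl
    · obtain ⟨m', hm', e⟩ := hdeg
      exact absurd (by rw [e, pow_zero, mul_one]; exact hm') Te4_notMem
    · rfl
  have hrep4 : rep4 (ZMod 2) ∈ M := by
    obtain ⟨m', hm', e⟩ := Deg_mul hdeg hdeg
    rw [← s4, e]
    exact mul_mem hm' gl_one_sq_mem
  have hrep5 : rep5 (ZMod 2) ∈ M := by
    rw [M_eq_comm, ← s5]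
    refine conj_comm_mem (by simpa using cnF_mem (K := ZMod 2) 0 true) ?_
    rw [← commutatorElement_def]
    exact Subgroup.commutator_mem_commutator hT2 hT
  refine count ι ι_inj (exists_lift hrep4) (exists_lift hrep5) fun g h1 h2 => ?_
  have hg : ι g ∈ twistedF4 (ZMod 2) (2 ^ 0) := by
    rw [pow_zero]; exact M_le (ι_range ▸ ⟨g, rfl⟩)
  have fix : ∀ {r : GF}, Te4 ψ 1 * r = r * Te4 ψ 1 → Cj 0 (ι g) r → ∃ x : TitsGroup, ι x * ι g * (ι x)⁻¹ = r := by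
    rintro r hr ⟨x, hx, e⟩
    rw [pow_zero] at hx
    obtain ⟨j, hj, hx'⟩ := exists_Deg hx
    rcases Nat.le_one_iff_eq_zero_or_eq_one.1 (Nat.lt_succ_iff.1 hj) with rfl | rfl
    · obtain ⟨m', hm', rfl⟩ := hx'
      obtain ⟨t, ht⟩ := exists_lift (show m' * gl 1 ^ 0 ∈ M by rwa [pow_zero, mul_one])
      exact ⟨t, by rw [ht, e]⟩
    · obtain ⟨m', hm', e'⟩ := Deg_mul hdeg hx'
      obtain ⟨t, ht⟩ := exists_lift (show Te4 ψ (1 : ZMod 2) * x ∈ M by
        rw [e']; exact mul_mem hm' gl_one_sq_mem)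
      refine ⟨t, ?_⟩
      rw [ht, show Te4 ψ (1 : ZMod 2) * x * ι g * (Te4 ψ (1 : ZMod 2) * x)⁻¹ =
        Te4 ψ (1 : ZMod 2) * (x * ι g * x⁻¹) * (Te4 ψ (1 : ZMod 2))⁻¹ by group, e, hr, mul_inv_cancel_right]
  rcases all_involutions 0 hK2 hg (fun e => h1 (ι_inj (by rw [e, map_one]))) (by rw [← map_mul, h2, map_one]) with
    e | e
  · obtain ⟨x, hx⟩ := fix c5 e; exact ⟨x, Or.inl hx⟩
  · obtain ⟨x, hx⟩ := fix c4 e; exact ⟨x, Or.inr hx⟩

end Cfsg.Agent.TwistedF4InvolTits71
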