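import Cfsg.Agent.Lib.TwistedF4Flip53
import Cfsg.Agent.Lib.SuzukiGroupStructure

/-!
`²F₄(q)`: the fixed points of the Levi subgroup of type B₂ are the product of a one dimensional torus and a
Suzuki group, read off the action on a four dimensional layer of roots.
-/

set_option autoImplicit false
set_option linter.unusedSectionVars false
set_option maxRecDepth 20000

namespace Cfsg.Agent.TwistedF4Cover53

open Cfsg.Lie Cfsg.Agent.ChevalleyCert Cfsg.Agent.ChevalleyEngine Cfsg.Agent.ChevalleyExp Cfsg.Agent.ChevalleyCore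
  Cfsg.Agent.ChevalleyRoots Cfsg.Agent.ChevalleyTorus Cfsg.Agent.ChevalleyUnipotent
  Cfsg.Agent.TwistedCore Cfsg.Agent.TwistedTools Cfsg.Agent.TwistedF4Classes Cfsg.Agent.ChevBruhat
open Cfsg.Agent.SuzukiGroupBasic (Param sg tg ff Tm Hm)
open Cfsg.Agent.SuzukiGroupStructure (Ts Hs Ws)

variable {K : Type*} [Field K] [Fintype K] [CharP K 2] (m : ℕ)

local notation "ε" => (2 ^ m : ℕ)
local notation "GG" => twistedF4 K (2 ^ m)

/-! ### the layer -/

/-- the roots of the layer -/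
def lr : List ℕ := [37, 35, 34, 33]

theorem lr_lt : ∀ a : Fin 4, lr.getD a.val 0 < chevF4.nroots := by decide +kernel

/-- the basis vectors of the layer -/
def lv (a : Fin 4) : chevF4.Idx := Sum.inr ⟨lr.getD a.val 0, lr_lt a⟩

theorem lv_inj : Function.Injective lv := by
  have h : ∀ a b : Fin 4, lr.getD a.val 0 = lr.getD b.val 0 → a = b := by decide
  exact fun a b e => h a b (congrArg Fin.val (Sum.inr_injective e))

/-- the matrix on the layer -/
def rho (g : GL chevF4.Idx K) : Matrix (Fin 4) (Fin 4) K :=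
  (g : Matrix chevF4.Idx chevF4.Idx K).submatrix lv lv

/-- the layer is mapped into itself -/
def Keeps (g : GL chevF4.Idx K) : Prop :=
  ∀ i, (∀ a, i ≠ lv a) → ∀ b, (g : Matrix chevF4.Idx chevF4.Idx K) i (lv b) = 0

theorem rho_mul (g : GL chevF4.Idx K) {h : GL chevF4.Idx K} (hh : Keeps h) : rho (g * h) = rho g * rho h := by
  ext a b
  simp only [rho, Matrix.submatrix_apply, Units.val_mul, Matrix.mul_apply]
  refine (Fintype.sum_of_injective lv lv_inj _ _ (fun i hi => ?_) fun _ => rfl).symm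
  rw [hh i (fun a e => hi ⟨a, e.symm⟩) b, mul_zero]

theorem rho_one : rho (1 : GL chevF4.Idx K) = 1 := by
  ext a b
  simp [rho, Matrix.one_apply, lv_inj.eq_iff]

theorem keeps_mul {g h : GL chevF4.Idx K} (hg : Keeps g) (hh : Keeps h) : Keeps (g * h) := by
  intro i hi b
  rw [Units.val_mul, Matrix.mul_apply]
  refine Finset.sum_eq_zero fun j _ => ?_
  by_cases hj : ∃ a, j = lv a
  · obtain ⟨a, rfl⟩ := hj
    rw [hg i hi a, zero_mul]
  · push Not at hj
    rw [hh j hj b, mul_zero]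

/-- the stabiliser of the layer -/
def stab : Subgroup (GL chevF4.Idx K) where
  carrier := {g | Keeps g ∧ Keeps g⁻¹}
  one_mem' := by
    have h : Keeps (1 : GL chevF4.Idx K) := fun i hi b => by
      rw [Units.val_one, Matrix.one_apply_ne (hi b)]
    exact ⟨h, by rwa [inv_one]⟩
  mul_mem' := by
    rintro g h ⟨g1, g2⟩ ⟨h1, h2⟩
    exact ⟨keeps_mul g1 h1, by rw [mul_inv_rev]; exact keeps_mul h2 g2⟩
  inv_mem' := by
    rintro g ⟨g1, g2⟩
    exact ⟨g2, by rwa [inv_inv]⟩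

/-- the eight roots of the class of type B₂ -/
abbrev br : List ℕ := bl ++ bln

/-- the matrix of a root on the layer -/
def Mr (r : ℕ) : Matrix (Fin 4) (Fin 4) ℤ := (xm chevF4 1 r).submatrix lv lv

theorem xm_facts : ∀ r ∈ br, r < chevF4.nroots ∧ ∀ b : Fin 4, ∀ i : chevF4.Idx,
    xm chevF4 2 r i (lv b) = 0 ∧ xm chevF4 3 r i (lv b) = 0 ∧
      ((∀ a, i ≠ lv a) → xm chevF4 1 r i (lv b) = 0) := by
  decide +kernel

theorem Mr_vals : Mr f4a = !![0, 1, 0, 0; 0, 0, 0, 0; 0, 0, 0, 1; 0, 0, 0, 0] ∧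
    Mr f4b = !![0, 0, 0, 0; 0, 0, 1, 0; 0, 0, 0, 0; 0, 0, 0, 0] ∧
    Mr f4ab = !![0, 0, -1, 0; 0, 0, 0, 1; 0, 0, 0, 0; 0, 0, 0, 0] ∧
    Mr f4aab = !![0, 0, 0, 1; 0, 0, 0, 0; 0, 0, 0, 0; 0, 0, 0, 0] ∧
    Mr f4ma = !![0, 0, 0, 0; 1, 0, 0, 0; 0, 0, 0, 0; 0, 0, 1, 0] ∧
    Mr f4mb = !![0, 0, 0, 0; 0, 0, 0, 0; 0, 1, 0, 0; 0, 0, 0, 0] := by
  decide +kernel

theorem xg_entry {r : ℕ} (hr : r ∈ br) (t : K) (i : chevF4.Idx) (b : Fin 4) :
    (xg cf r t : Matrix chevF4.Idx chevF4.Idx K) i (lv b) =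
      (1 : Matrix chevF4.Idx chevF4.Idx K) i (lv b) + t * (xm chevF4 1 r i (lv b) : K) := by
  obtain ⟨h1, h⟩ := xm_facts r hr
  obtain ⟨z2, z3, -⟩ := h b i
  rw [coe_xg, x_eq_xR cf h1, xR]
  simp [castM, z2, z3]

theorem xg_keeps {r : ℕ} (hr : r ∈ br) (t : K) : Keeps (xg cf r t) := by
  intro i hi b
  rw [xg_entry hr, Matrix.one_apply_ne (hi b), ((xm_facts r hr).2 b i).2.2 hi]
  simp

theorem xg_stab {r : ℕ} (hr : r ∈ br) (t : K) : xg cf r t ∈ stab (K := K) :=
  ⟨xg_keeps hr t, by rw [xg_inv]; exact xg_keeps hr _⟩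

theorem rho_xg {r : ℕ} (hr : r ∈ br) (t : K) :
    rho (xg cf r t) = 1 + t • (Mr r).map (Int.cast : ℤ → K) := by
  ext a b
  rw [rho, Matrix.submatrix_apply, xg_entry hr]
  simp [Mr, Matrix.one_apply, lv_inj.eq_iff]

theorem rho_four (a b c d : K) : rho (four bl a b c d) =
    !![1, a, a * b + c, d + a * c; 0, 1, b, c; 0, 0, 1, a; 0, 0, 0, 1] := by
  obtain ⟨ma, mb, mab, maab, -, -⟩ := Mr_vals
  have k : ∀ r ∈ br, ∀ t : K, Keeps (xg cf r t) := fun r hr t => xg_keeps hr t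
  show rho (xg cf f4a a * xg cf f4b b * xg cf f4ab c * xg cf f4aab d) = _
  rw [rho_mul _ (k f4aab (by simp) d), rho_mul _ (k f4ab (by simp) c), rho_mul _ (k f4b (by simp) b),
    rho_xg (r := f4a) (by simp), rho_xg (r := f4b) (by simp), rho_xg (r := f4ab) (by simp),
    rho_xg (r := f4aab) (by simp), ma, mb, mab, maab]
  ext i j
  fin_cases i <;> fin_cases j <;>
    simp [Matrix.mul_apply, Fin.sum_univ_four, CharTwo.neg_eq] <;> ring

theorem four_stab (a b c d : K) : four bl a b c d ∈ stab (K := K) :=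
  mul_mem (mul_mem (mul_mem (xg_stab (by simp) _) (xg_stab (by simp) _)) (xg_stab (by simp) _))
    (xg_stab (by simp) _)

theorem ng_eq {r : ℕ} : ng cf r (1 : K) = xg cf r 1 * xg cf (chevF4.neg r) 1 * xg cf r 1 := by
  unfold ng
  rw [inv_one, CharTwo.neg_eq]

theorem n_stab : (cnF true : GL chevF4.Idx K) ∈ stab (K := K) := by
  obtain ⟨-, -, -, -, -, -, ga, gb⟩ := roots_eq
  show ng cf f4a 1 * ng cf f4b 1 * ng cf f4a 1 * ng cf f4b 1 ∈ _
  rw [ng_eq, ng_eq, ga, gb]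
  have ha := xg_stab (K := K) (r := f4a) (by simp) 1
  have hb := xg_stab (K := K) (r := f4b) (by simp) 1
  have hma := xg_stab (K := K) (r := f4ma) (by simp) 1
  have hmb := xg_stab (K := K) (r := f4mb) (by simp) 1
  exact mul_mem (mul_mem (mul_mem (mul_mem (mul_mem ha hma) ha) (mul_mem (mul_mem hb hmb) hb))
    (mul_mem (mul_mem ha hma) ha)) (mul_mem (mul_mem hb hmb) hb)

theorem rho_n : rho (cnF true : GL chevF4.Idx K) = suzukiForm K := by
  obtain ⟨-, -, -, -, -, -, ga, gb⟩ := roots_eq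
  obtain ⟨ma, mb, -, -, mma, mmb⟩ := Mr_vals
  have k : ∀ r ∈ br, Keeps (xg cf r (1 : K)) := fun r hr => xg_keeps hr 1
  have hA : rho (ng cf f4a (1 : K)) = !![0, 1, 0, 0; 1, 0, 0, 0; 0, 0, 0, 1; 0, 0, 1, 0] := by
    rw [ng_eq, ga, rho_mul _ (k f4a (by simp)), rho_mul _ (k f4ma (by simp)), rho_xg (r := f4a) (by simp),
      rho_xg (r := f4ma) (by simp), ma, mma]
    ext i j
    fin_cases i <;> fin_cases j <;> simp [Matrix.mul_apply, Fin.sum_univ_four, CharTwo.add_self_eq_zero]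
  have hB : rho (ng cf f4b (1 : K)) = !![1, 0, 0, 0; 0, 0, 1, 0; 0, 1, 0, 0; 0, 0, 0, 1] := by
    rw [ng_eq, gb, rho_mul _ (k f4b (by simp)), rho_mul _ (k f4mb (by simp)), rho_xg (r := f4b) (by simp),
      rho_xg (r := f4mb) (by simp), mb, mmb]
    ext i j
    fin_cases i <;> fin_cases j <;> simp [Matrix.mul_apply, Fin.sum_univ_four, CharTwo.add_self_eq_zero]
  have hkA : Keeps (ng cf f4a (1 : K)) := by
    rw [ng_eq, ga]; exact keeps_mul (keeps_mul (k f4a (by simp)) (k f4ma (by simp))) (k f4a (by simp))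
  have hkB : Keeps (ng cf f4b (1 : K)) := by
    rw [ng_eq, gb]; exact keeps_mul (keeps_mul (k f4b (by simp)) (k f4mb (by simp))) (k f4b (by simp))
  show rho (ng cf f4a 1 * ng cf f4b 1 * ng cf f4a 1 * ng cf f4b 1) = _
  rw [rho_mul _ hkB, rho_mul _ hkA, rho_mul _ hkB, hA, hB]
  ext i j
  fin_cases i <;> fin_cases j <;> simp [suzukiForm, Matrix.mul_apply, Fin.sum_univ_four]

theorem torus_stab (c : Fin chevF4.rank → Kˣ) : torus chevF4 c ∈ stab (K := K) := by
  have h : ∀ c : Fin chevF4.rank → Kˣ, Keeps (torus chevF4 c : GL chevF4.Idx K) := fun c i hi b => by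
    rw [coe_torus, tmat, Matrix.diagonal_apply_ne _ (hi b)]
  exact ⟨h c, by rw [← map_inv]; exact h _⟩

theorem layer_weights : ∀ i < 4,
    chevF4.cartan i 37 = 1 * chevF4.cartan i (chevF4.simple 0) + 2 * chevF4.cartan i (chevF4.simple 1) +
      1 * chevF4.cartan i (chevF4.simple 2) + 0 * chevF4.cartan i (chevF4.simple 3) ∧
    chevF4.cartan i 35 = 1 * chevF4.cartan i (chevF4.simple 0) + 1 * chevF4.cartan i (chevF4.simple 1) +
      1 * chevF4.cartan i (chevF4.simple 2) + 0 * chevF4.cartan i (chevF4.simple 3) ∧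
    chevF4.cartan i 34 = 1 * chevF4.cartan i (chevF4.simple 0) + 1 * chevF4.cartan i (chevF4.simple 1) +
      0 * chevF4.cartan i (chevF4.simple 2) + 0 * chevF4.cartan i (chevF4.simple 3) ∧
    chevF4.cartan i 33 = 1 * chevF4.cartan i (chevF4.simple 0) + 0 * chevF4.cartan i (chevF4.simple 1) +
      0 * chevF4.cartan i (chevF4.simple 2) + 0 * chevF4.cartan i (chevF4.simple 3) := by
  decide +kernel

variable (hK : Fintype.card K = 2 ^ (2 * m + 1))

include hK in
theorem rho_HH {h : GL chevF4.Idx K} (hh : h ∈ HH m) :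
    rho h = (cOf m h : K) • Hm m (X 1 h : K) := by
  obtain ⟨r0, r2⟩ := X_rel m hK hh
  obtain ⟨s, u, rfl⟩ := (mem_HH m hK).1 hh
  generalize hc : tp m s u = c
  have x0 : tchar chevF4 c (chevF4.simple 0) = X 0 (tor m s u) := by rw [← hc, X_torus (by decide)]
  have x1 : tchar chevF4 c (chevF4.simple 1) = X 1 (tor m s u) := by rw [← hc, X_torus (by decide)]
  have x2 : tchar chevF4 c (chevF4.simple 2) = X 1 (tor m s u) ^ (ε * 2) := by rw [← hc, ← r2, X_torus (by decide)]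
  have t37 := tchar_lin c fun i hi => (layer_weights i hi).1
  have t35 := tchar_lin c fun i hi => (layer_weights i hi).2.1
  have t34 := tchar_lin c fun i hi => (layer_weights i hi).2.2.1
  have t33 := tchar_lin c fun i hi => (layer_weights i hi).2.2.2
  rw [x0, x1, x2] at t37 t35 t34 t33
  have hh' : (torus chevF4 c : GL chevF4.Idx K) = tor m s u := by rw [← hc]
  conv_lhs => rw [← hh']
  ext a b
  rw [rho, Matrix.submatrix_apply, coe_torus, tmat, Matrix.smul_apply, Hm]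
  by_cases hab : a = b
  · subst hab
    rw [Matrix.diagonal_apply_eq, Matrix.diagonal_apply_eq]
    fin_cases a <;> simp [lv, lr, t37, t35, t34, t33, cOf, tg] <;> field_simp <;> ring
  · rw [Matrix.diagonal_apply_ne _ (lv_inj.ne hab), Matrix.diagonal_apply_ne _ hab, smul_zero]

/-! ### the fixed Levi subgroup -/

/-- the unipotent element of Suzuki parameters `(a, b)` -/
noncomputable def uB (a b : K) : GL chevF4.Idx K := bw m bl (sg m a) (b + a * sg m a)

theorem uB_mem (a b : K) : uB m a b ∈ GG := (gens_mem m _ _).2.2.1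

theorem uB_levi (a b : K) : uB m a b ∈ chevF4.leviSubgroup K JB := four_levi _ _ _ _

theorem uB_UU (a b : K) : uB m a b ∈ UU m := by
  refine ⟨?_, uB_mem m a b⟩
  exact mul_mem (mul_mem (mul_mem (xg_mem_U cf (by decide +kernel) (by decide +kernel) _)
    (xg_mem_U cf (by decide +kernel) (by decide +kernel) _)) (xg_mem_U cf (by decide +kernel) (by decide +kernel) _))
    (xg_mem_U cf (by decide +kernel) (by decide +kernel) _)

theorem uB_stab (a b : K) : uB m a b ∈ stab (K := K) := four_stab _ _ _ _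

include hK in
theorem bw_uB (t v : K) : bw m bl t v = uB m (t ^ ε) (v + t ^ ε * t) := by
  have e : sg m (t ^ ε) = t := by rw [sg, pow_succ]; exact (pow_twist m hK t).1
  rw [uB, e, add_assoc, CharTwo.add_self_eq_zero, add_zero]

include hK in
theorem rho_uB (a b : K) : rho (uB m a b) = Tm m a b := by
  have e : sg m a ^ ε = a := by rw [sg, pow_succ]; exact (pow_twist m hK a).2
  have e2 : sg m a ^ (ε + 1) = a * sg m a := by rw [pow_succ, e]
  show rho (four bl (sg m a ^ ε) (sg m a) (sg m a ^ (ε + 1) + (b + a * sg m a))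
    ((b + a * sg m a) ^ (ε * 2))) = _
  have hc : a * sg m a + (b + a * sg m a) = b := by
    rw [add_left_comm, CharTwo.add_self_eq_zero, add_zero]
  have hd : (b + a * sg m a) ^ (ε * 2) = sg m b + sg m a * a ^ 2 := by
    rw [← pow_succ, add_pow_char_pow, mul_pow]
    show sg m b + sg m a * sg m (sg m a) = _
    congr 2
    rw [sg, sg, ← pow_mul, show 2 ^ (m + 1) * 2 ^ (m + 1) = 2 ^ (2 * m + 1) * 2 by ring, pow_mul, ← hK,
      FiniteField.pow_card]
  rw [rho_four, e, e2, hc, hd, Tm]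
  ext i j
  fin_cases i <;> fin_cases j <;> simp [ff] <;> ring

/-- the fixed Levi subgroup -/
noncomputable def LL : Subgroup (GL chevF4.Idx K) :=
  Subgroup.closure (((HH m : Subgroup (GL chevF4.Idx K)) : Set (GL chevF4.Idx K)) ∪ Set.range (fun p : K × K => uB m p.1 p.2) ∪ {cnF true})

theorem n_levi : (cnF true : GL chevF4.Idx K) ∈ chevF4.leviSubgroup K JB := by
  have h : ∀ r ∈ [f4a, f4b], ng cf r (1 : K) ∈ chevF4.leviSubgroup K JB := by
    intro r hr
    have hin : chevF4.InRootSub JB r := by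
      simp only [List.mem_cons, List.not_mem_nil, or_false] at hr
      rcases hr with rfl | rfl <;> exact inB.2 (by decide +kernel)
    rw [ng_eq]
    exact mul_mem (mul_mem (xg_levi hin _) (xg_levi (ChevalleyParabolic.inRootSub_neg cf hin.1 hin) _)) (xg_levi hin _)
  exact mul_mem (mul_mem (mul_mem (h _ (by simp)) (h _ (by simp))) (h _ (by simp))) (h _ (by simp))

theorem HH_levi {h : GL chevF4.Idx K} (hh : h ∈ HH m) {J : Set ℕ} : h ∈ chevF4.leviSubgroup K J :=
  Subgroup.mem_sup_left hh.1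

include hK in
theorem gens_all : ∀ x ∈ LL (K := K) m, x ∈ chevF4.leviSubgroup K JB ∧ x ∈ GG ∧ x ∈ stab (K := K) := by
  suffices h : LL (K := K) m ≤ chevF4.leviSubgroup K JB ⊓ GG ⊓ stab (K := K) from
    fun x hx => ⟨(h hx).1.1, (h hx).1.2, (h hx).2⟩
  rw [LL, Subgroup.closure_le]
  rintro x ((hx | ⟨p, rfl⟩) | rfl)
  · obtain ⟨s, u, rfl⟩ := (mem_HH m hK).1 hx
    exact ⟨⟨HH_levi m hx, hx.2⟩, torus_stab _⟩
  · exact ⟨⟨uB_levi m _ _, uB_mem m _ _⟩, uB_stab m _ _⟩
  · exact ⟨⟨n_levi, cnF_mem m true⟩, n_stab⟩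

include hK in
theorem uB_of {g : GL chevF4.Idx K} (hU : g ∈ UU m) (hL : g ∈ chevF4.leviSubgroup K JB) :
    ∃ a b, g = uB m a b := by
  obtain ⟨t, v, w, hw, e⟩ := split_B m hK hU
  refine ⟨t ^ ε, v + t ^ ε * t, ?_⟩
  rw [← bw_uB m hK]
  exact (levi_radical_unique (w := 1) hL (four_levi _ _ _ _) (one_mem _) hw.1 (by rw [mul_one]; exact e)).1

include hK in
theorem uB_conj {h : GL chevF4.Idx K} (hh : h ∈ HH m) (a b : K) : ∃ a' b', h * uB m a b * h⁻¹ = uB m a' b' :=
  uB_of m hK (UU_conj m hh (uB_UU m a b)) (mul_mem (mul_mem (HH_levi m hh) (uB_levi m a b)) (inv_mem (HH_levi m hh)))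

include hK in
theorem uB_mul (a b c d : K) : ∃ a' b', uB m a b * uB m c d = uB m a' b' :=
  uB_of m hK (mul_mem (uB_UU m a b) (uB_UU m c d)) (mul_mem (uB_levi m a b) (uB_levi m c d))

theorem uB_zero : uB m (0 : K) 0 = 1 := by
  simp [uB, bw, four, sg]

include hK in
theorem B_decomp {b : GL chevF4.Idx K} (hb : b ∈ chevF4.borelSubgroup K ⊓ GG) :
    ∃ h ∈ HH m, ∃ u ∈ UU m, b = h * u := by
  obtain ⟨h, hh, u, hu, rfl⟩ := (tw (K := K) m).S.mem_B_iff.1 hb.1
  obtain ⟨-, hf⟩ := (tw (K := K) m).HU_fixed hh hu (le_fixed m hK hb.2)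
  have huG := (classes (K := K) m hK).fixed_U_le hu hf
  exact ⟨h, ⟨hh, (Subgroup.mul_mem_cancel_right _ huG).1 hb.2⟩, u, ⟨hu, huG⟩, rfl⟩

theorem HH_conj {h : GL chevF4.Idx K} (hh : h ∈ HH m) :
    (cnF true : GL chevF4.Idx K) * h * (cnF (K := K) true)⁻¹ ∈ HH m :=
  Subgroup.mem_inf.2 ⟨(Subgroup.mem_normalizer_iff.1 (N_le_normalizer_H cf ((cnF_toW (K := K) m true).1)) _).1 hh.1,
    mul_mem (mul_mem (cnF_mem m true) hh.2) (inv_mem (cnF_mem m true))⟩

include hK in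
theorem n_sq : (cnF true : GL chevF4.Idx K) * cnF true ∈ HH m := by
  refine ⟨?_, mul_mem (cnF_mem m true) (cnF_mem m true)⟩
  obtain ⟨h, hw⟩ := cnF_toW (K := K) m true
  have : (⟨_, h⟩ * ⟨_, h⟩ : ↥(chevF4.monomialSubgroup K)) ∈ (tw (K := K) m).S.toW.ker := by
    rw [MonoidHom.mem_ker, map_mul, hw]; exact (classes (K := K) m hK).cl_sq true
  rw [(tw (K := K) m).S.toW_ker] at this
  exact this

/-- the two shapes of an element of the fixed Levi subgroup -/
def Shape (g : GL chevF4.Idx K) : Prop :=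
  (∃ h ∈ HH m, ∃ a b : K, g = h * uB m a b) ∨
    ∃ h ∈ HH m, ∃ a b c d : K, g = h * uB m a b * cnF true * uB m c d

include hK in
theorem Shape.mul_H {h g : GL chevF4.Idx K} (hh : h ∈ HH m) (hg : Shape m g) : Shape m (h * g) := by
  rcases hg with ⟨h', hh', a, b, rfl⟩ | ⟨h', hh', a, b, c, d, rfl⟩
  · exact Or.inl ⟨h * h', mul_mem hh hh', a, b, by group⟩
  · exact Or.inr ⟨h * h', mul_mem hh hh', a, b, c, d, by group⟩

include hK in
theorem Shape.mul_U {g : GL chevF4.Idx K} (a b : K) (hg : Shape m g) : Shape m (uB m a b * g) := by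
  have key : ∀ h ∈ HH m, ∀ c d : K, ∃ a' b', uB m a b * h * uB m c d = h * uB m a' b' := fun h hh c d => by
    obtain ⟨a1, b1, e⟩ := uB_conj m hK (inv_mem hh) a b
    obtain ⟨a2, b2, e2⟩ := uB_mul m hK a1 b1 c d
    exact ⟨a2, b2, by rw [← e2, ← e]; group⟩
  rcases hg with ⟨h, hh, c, d, rfl⟩ | ⟨h, hh, c, d, c', d', rfl⟩
  · obtain ⟨a', b', e⟩ := key h hh c d
    exact Or.inl ⟨h, hh, a', b', by rw [← e]; group⟩
  · obtain ⟨a', b', e⟩ := key h hh c d
    exact Or.inr ⟨h, hh, a', b', c', d', by rw [← e]; group⟩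

include hK in
theorem Shape.mul_n {g : GL chevF4.Idx K} (hg : Shape m g) : Shape m (cnF true * g) := by
  set n : GL chevF4.Idx K := cnF true with hn
  rcases hg with ⟨h, hh, a, b, rfl⟩ | ⟨h, hh, a, b, c, d, rfl⟩
  · refine Or.inr ⟨_, HH_conj m hh, 0, 0, a, b, ?_⟩
    rw [uB_zero, mul_one, hn]; group
  rw [← hn]
  obtain ⟨hN, -⟩ := cnF_toW (K := K) m true
  have hb : uB m a b ∈ chevF4.borelSubgroup K ⊓ GG := ⟨Sys.U_le_B (uB_UU m a b).1, uB_mem m a b⟩
  have hx : n * uB m a b * n ∈ chevF4.leviSubgroup K JB := mul_mem (mul_mem n_levi (uB_levi m a b)) n_levi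
  have hs : ∀ b' ∈ chevF4.borelSubgroup K ⊓ GG, ∃ h ∈ HH m, ∃ x y : K, ∃ w ∈ UJ m JB, b' = h * uB m x y * w := by
    intro b' hb'
    obtain ⟨h', hh', u, hu, rfl⟩ := B_decomp m hK hb'
    obtain ⟨t, v, w, hw, rfl⟩ := split_B m hK hu
    exact ⟨h', hh', _, _, w, hw, by rw [bw_uB m hK, mul_assoc]⟩
  suffices h' : Shape m (n * uB m a b * n * uB m c d) by
    have := h'.mul_H m hK (HH_conj m hh)
    have e : n * h * n⁻¹ * (n * uB m a b * n * uB m c d) = n * (h * uB m a b * n * uB m c d) := by group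
    rwa [← hn, e] at this
  rcases (classes (K := K) m hK).cell_rule true (n := ⟨n, hN⟩) (cnF_mem m true) hb with
    ⟨b1, hb1, b2, hb2, e⟩ | ⟨b1, hb1, b2, hb2, e⟩
  · change n * uB m a b * n = b1 * (n * n) * b2 at e
    obtain ⟨h1, hh1, x1, y1, w1, hw1, rfl⟩ := hs b1 hb1
    obtain ⟨h2, hh2, x2, y2, w2, hw2, rfl⟩ := hs b2 hb2
    set l := n * n * (h2 * uB m x2 y2) with hl
    have hlL : l ∈ chevF4.leviSubgroup K JB :=
      mul_mem (mul_mem n_levi n_levi) (mul_mem (HH_levi m hh2) (uB_levi m _ _))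
    have e' : n * uB m a b * n * 1 = (h1 * uB m x1 y1 * l) * (l⁻¹ * w1 * l * w2) := by
      rw [mul_one, e, hl]; group
    obtain ⟨e1, -⟩ := levi_radical_unique hx (mul_mem (mul_mem (HH_levi m hh1) (uB_levi m _ _)) hlL) (one_mem _)
      (mul_mem (by simpa using levi_norm (inv_mem hlL) hw1.1) hw2.1) e'
    rw [e1, hl]
    have h3 : Shape m (uB m c d) := Or.inl ⟨1, one_mem _, c, d, by rw [one_mul]⟩
    have := ((((h3.mul_U m hK x2 y2).mul_H m hK hh2).mul_H m hK (n_sq m hK)).mul_U m hK x1 y1).mul_H m hK hh1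
    simpa [mul_assoc, ← hn] using this
  · change n * uB m a b * n = b1 * n * b2 at e
    obtain ⟨h1, hh1, x1, y1, w1, hw1, rfl⟩ := hs b1 hb1
    obtain ⟨h2, hh2, x2, y2, w2, hw2, rfl⟩ := hs b2 hb2
    set l := n * (h2 * uB m x2 y2) with hl
    have hlL : l ∈ chevF4.leviSubgroup K JB := mul_mem n_levi (mul_mem (HH_levi m hh2) (uB_levi m _ _))
    have e' : n * uB m a b * n * 1 = (h1 * uB m x1 y1 * l) * (l⁻¹ * w1 * l * w2) := by
      rw [mul_one, e, hl]; group
    obtain ⟨e1, -⟩ := levi_radical_unique hx (mul_mem (mul_mem (HH_levi m hh1) (uB_levi m _ _)) hlL) (one_mem _)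
      (mul_mem (by simpa using levi_norm (inv_mem hlL) hw1.1) hw2.1) e'
    rw [e1, hl]
    obtain ⟨x3, y3, e3⟩ := uB_mul m hK x2 y2 c d
    have h3 : Shape m (n * h2 * n⁻¹ * uB m 0 0 * n * uB m x3 y3) := Or.inr ⟨_, HH_conj m hh2, 0, 0, x3, y3, rfl⟩
    have := (h3.mul_U m hK x1 y1).mul_H m hK hh1
    rw [uB_zero, ← e3] at this
    simpa [mul_assoc, ← hn] using this

include hK in
theorem shape_of {g : GL chevF4.Idx K} (hg : g ∈ LL m) : Shape m g := by
  induction hg using Subgroup.closure_induction_left with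
  | one => exact Or.inl ⟨1, one_mem _, 0, 0, by rw [uB_zero, mul_one]⟩
  | mul_left x hx y _ ih =>
    rcases hx with (hx | ⟨p, rfl⟩) | rfl
    · exact ih.mul_H m hK hx
    · exact ih.mul_U m hK _ _
    · exact ih.mul_n m hK
  | inv_mul_cancel x hx y _ ih =>
    rcases hx with (hx | ⟨p, rfl⟩) | rfl
    · exact ih.mul_H m hK (inv_mem hx)
    · obtain ⟨a', b', e⟩ := uB_of m hK (inv_mem (uB_UU m p.1 p.2)) (inv_mem (uB_levi m p.1 p.2))
      rw [e]; exact ih.mul_U m hK _ _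
    · have := (ih.mul_H m hK (inv_mem (n_sq m hK))).mul_n m hK
      have e : (cnF true : GL chevF4.Idx K) * ((cnF (K := K) true * cnF true)⁻¹ * y) = (cnF (K := K) true)⁻¹ * y := by
        group
      rwa [e] at this

/-! ### the isomorphism -/

section emb

variable [hP : Param K m]

/-- `g` acts on the layer as `c` times an element of the Suzuki group -/
def Rep (g : GL chevF4.Idx K) (c : Kˣ) (S : ↥(Cfsg.Sz K m)) : Prop :=
  rho g = (c : K) • ((S : Matrix.SpecialLinearGroup (Fin 4) K) : Matrix (Fin 4) (Fin 4) K)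

theorem Rep.mul {g h : GL chevF4.Idx K} {c d : Kˣ} {S T : ↥(Cfsg.Sz K m)} (hg : Rep m g c S) (hh : Rep m h d T)
    (hk : h ∈ stab (K := K)) : Rep m (g * h) (c * d) (S * T) := by
  unfold Rep at hg hh ⊢
  rw [rho_mul _ hk.1, hg, hh, Matrix.smul_mul, Matrix.mul_smul, smul_smul, Units.val_mul]
  rfl

include hK in
theorem rep_H {h : GL chevF4.Idx K} (hh : h ∈ HH m) : Rep m h (cOf m h) (Hs (X 1 h)) := rho_HH m hK hh

include hK in
theorem rep_U (a b : K) : Rep m (uB m a b) 1 (Ts a b) := by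
  rw [Rep, rho_uB m hK, Units.val_one, one_smul]; rfl

theorem rep_n : Rep m (cnF true : GL chevF4.Idx K) 1 Ws := by
  rw [Rep, rho_n, Units.val_one, one_smul]; rfl

theorem smul_eq_one {c : Kˣ} {S : ↥(Cfsg.Sz K m)}
    (h : (c : K) • ((S : Matrix.SpecialLinearGroup (Fin 4) K) : Matrix (Fin 4) (Fin 4) K) = 1) : c = 1 ∧ S = 1 := by
  have hd := congrArg Matrix.det h
  rw [Matrix.det_smul, Matrix.SpecialLinearGroup.det_coe, Matrix.det_one, mul_one, Fintype.card_fin] at hd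
  have hc : (c : K) = 1 := by
    have h2 : (c : K) ^ 2 = 1 := CharTwo.sq_inj.mp (by rw [← pow_mul, one_pow]; exact hd)
    exact CharTwo.sq_inj.mp (by rw [one_pow]; exact h2)
  rw [hc, one_smul] at h
  exact ⟨Units.ext hc, Subtype.ext (Subtype.ext h)⟩

theorem Hs_Ts_eq_one {k : Kˣ} {a b : K} (e : (Hs k : ↥(Cfsg.Sz K m)) * Ts a b = 1) : a = 0 ∧ b = 0 ∧ k = 1 := by
  have e' := congrArg (fun S : ↥(Cfsg.Sz K m) => S • suzukiPointZero K) e
  simp only [mul_smul, one_smul, SuzukiGroupStructure.Ts_smul_zero, SuzukiGroupStructure.Hs_smul_pt] at e'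
  rw [SuzukiGroupBasic.zero_eq_pt (m := m)] at e'
  obtain ⟨ha, hb⟩ := SuzukiGroupBasic.pt_injective e'
  have ha' : a = 0 := (mul_eq_zero.1 ha).resolve_left k.ne_zero
  have hb' : b = 0 :=
    (mul_eq_zero.1 hb).resolve_left (mul_ne_zero k.ne_zero (SuzukiGroupBasic.sg_ne_zero k.ne_zero))
  rw [ha', hb', SuzukiGroupStructure.Ts_zero, mul_one] at e
  exact ⟨ha', hb', SuzukiGroupStructure.Hs_injective (e.trans SuzukiGroupStructure.Hs_one.symm)⟩

include hK in
theorem rep_one_eq {g : GL chevF4.Idx K} (hg : g ∈ LL m) (h : rho g = 1) : g = 1 := by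
  rcases shape_of m hK hg with ⟨h', hh', a, b, rfl⟩ | ⟨h', hh', a, b, c, d, rfl⟩
  · have hr := (rep_H m hK hh').mul m (rep_U m hK a b) (uB_stab m a b)
    rw [Rep, h] at hr
    obtain ⟨hc, hS⟩ := smul_eq_one m hr.symm
    rw [mul_one] at hc
    obtain ⟨ha, hb, hk⟩ := Hs_Ts_eq_one m hS
    subst ha hb
    rw [uB_zero, mul_one]
    refine H_ext m hK hh' (one_mem _) ?_ (by rw [hk, X_one (by decide)])
    rw [cOf, hk, one_pow, mul_one, mul_one] at hc
    rw [hc, X_one (by decide)]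
  · have hr := (((rep_H m hK hh').mul m (rep_U m hK a b) (uB_stab m a b)).mul m (rep_n m) n_stab).mul m
      (rep_U m hK c d) (uB_stab m c d)
    rw [Rep, h] at hr
    obtain ⟨-, hS⟩ := smul_eq_one m hr.symm
    have := congrArg (fun S : ↥(Cfsg.Sz K m) => S • suzukiPointInfinity K) hS
    simp only [mul_smul, one_smul, SuzukiGroupStructure.Ts_smul_inf, SuzukiGroupStructure.Ws_smul_inf,
      SuzukiGroupStructure.Ts_smul_zero, SuzukiGroupStructure.Hs_smul_pt] at this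
    exact absurd this (SuzukiGroupBasic.pt_ne_inf _ _)

include hK in
theorem exists_rep (c : Kˣ) (S : ↥(Cfsg.Sz K m)) : ∃ g ∈ LL m, Rep m g c S := by
  have hHH : ∀ c k : Kˣ, ∃ h ∈ HH m, Rep m h c (Hs k) := fun c k => by
    obtain ⟨h, hh, h0, h1⟩ := H_exists m hK (c * (k * k ^ ε)⁻¹) k
    refine ⟨h, hh, ?_⟩
    have := rep_H m hK hh
    rwa [cOf, h0, h1, inv_mul_cancel_right] at this
  have mU : ∀ a b : K, uB m a b ∈ LL m := fun a b => Subgroup.subset_closure (Or.inl (Or.inr ⟨(a, b), rfl⟩))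
  have mn : (cnF true : GL chevF4.Idx K) ∈ LL m := Subgroup.subset_closure (Or.inr rfl)
  have mH : ∀ h ∈ HH (K := K) m, h ∈ LL m := fun h hh => Subgroup.subset_closure (Or.inl (Or.inl hh))
  have sH : ∀ h ∈ HH (K := K) m, h ∈ stab (K := K) := fun h hh => (gens_all m hK h (mH h hh)).2.2
  rcases SuzukiGroupStructure.bruhat S with hS | ⟨a, b, s, hs, rfl⟩
  · obtain ⟨a, b, k, rfl⟩ := SuzukiGroupStructure.fix_inf_iff.1 hS
    obtain ⟨h, hh, hr⟩ := hHH c k
    refine ⟨uB m a b * h, mul_mem (mU a b) (mH h hh), ?_⟩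
    have := (rep_U m hK a b).mul m hr (sH h hh)
    rwa [one_mul] at this
  · obtain ⟨x, y, k, rfl⟩ := SuzukiGroupStructure.fix_inf_iff.1 hs
    obtain ⟨h, hh, hr⟩ := hHH c k
    refine ⟨uB m a b * cnF true * (uB m x y * h), mul_mem (mul_mem (mU a b) mn) (mul_mem (mU x y) (mH h hh)), ?_⟩
    have := ((rep_U m hK a b).mul m (rep_n m) n_stab).mul m ((rep_U m hK x y).mul m hr (sH h hh))
      (mul_mem (uB_stab m x y) (sH h hh))
    rwa [one_mul, one_mul, one_mul] at this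

include hK in
theorem rep_unique {g g' : GL chevF4.Idx K} (hg : g ∈ LL m) (hg' : g' ∈ LL m) {c : Kˣ} {S : ↥(Cfsg.Sz K m)}
    (h : Rep m g c S) (h' : Rep m g' c S) : g = g' := by
  have s := (gens_all m hK g hg).2.2
  have s' := (gens_all m hK g' hg').2.2
  have : g'⁻¹ * g = 1 := rep_one_eq m hK (mul_mem (inv_mem hg') hg) (by
    rw [rho_mul _ s.1, show rho g = rho g' from h.trans h'.symm, ← rho_mul _ s'.1, inv_mul_cancel, rho_one])
  exact (inv_mul_eq_one.1 this).symm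

/-- the fixed Levi subgroup as a product -/
noncomputable def emb : Kˣ × ↥(Cfsg.Sz K m) →* GL chevF4.Idx K :=
  MonoidHom.mk' (fun p => Classical.choose (exists_rep m hK p.1 p.2)) fun p p' => by
    obtain ⟨h1, r1⟩ := Classical.choose_spec (exists_rep m hK p.1 p.2)
    obtain ⟨h2, r2⟩ := Classical.choose_spec (exists_rep m hK p'.1 p'.2)
    obtain ⟨h3, r3⟩ := Classical.choose_spec (exists_rep m hK (p * p').1 (p * p').2)
    exact rep_unique m hK h3 (mul_mem h1 h2) r3 (r1.mul m r2 (gens_all m hK _ h2).2.2)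

include hK in
theorem emb_eq {g : GL chevF4.Idx K} (hg : g ∈ LL m) {c : Kˣ} {S : ↥(Cfsg.Sz K m)} (h : Rep m g c S) :
    emb m hK (c, S) = g := by
  obtain ⟨h1, r1⟩ := Classical.choose_spec (exists_rep m hK c S)
  exact rep_unique m hK h1 hg r1 h

include hK in
theorem emb_mem (p : Kˣ × ↥(Cfsg.Sz K m)) :
    emb m hK p ∈ chevF4.leviSubgroup K JB ∧ emb m hK p ∈ GG := by
  obtain ⟨h1, -⟩ := Classical.choose_spec (exists_rep m hK p.1 p.2)
  exact ⟨(gens_all m hK _ h1).1, (gens_all m hK _ h1).2.1⟩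

include hK in
theorem emb_Ts (a b : K) : emb m hK (1, Ts a b) = uB m a b :=
  emb_eq m hK (Subgroup.subset_closure (Or.inl (Or.inr ⟨(a, b), rfl⟩))) (rep_U m hK a b)

include hK in
theorem emb_Ws : emb m hK (1, Ws) = cnF true := emb_eq m hK (Subgroup.subset_closure (Or.inr rfl)) (rep_n m)

include hK in
theorem emb_H {h : GL chevF4.Idx K} (hh : h ∈ HH m) : emb m hK (cOf m h, Hs (X 1 h)) = h :=
  emb_eq m hK (Subgroup.subset_closure (Or.inl (Or.inl hh))) (rep_H m hK hh)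

end emb

end Cfsg.Agent.TwistedF4Cover53
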