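import Cfsg.Agent.Lib.TwistedF4Levi53
import Cfsg.Agent.Lib.SuzukiGroupCover
import Cfsg.Agent.Lib.TwistedD4Gauss77

/-!
`²F₄(q)`: the node of the pair class, the element of the long word on the fixed Levi subgroup, and the normal
form `v h u` of a conjugate of every element.
-/

set_option autoImplicit false
set_option linter.unusedSectionVars false
set_option maxRecDepth 20000

namespace Cfsg.Agent.TwistedF4Cover53

open Cfsg.Lie Cfsg.Agent.ChevalleyCert Cfsg.Agent.ChevalleyCore Cfsg.Agent.ChevalleyRoots Cfsg.Agent.ChevalleyTorus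
  Cfsg.Agent.ChevalleyUnipotent Cfsg.Agent.TwistedCore Cfsg.Agent.TwistedTools Cfsg.Agent.TwistedF4Classes
  Cfsg.Agent.GaussPrescribed77
open Cfsg.Agent.SuzukiGroupBasic (Param sg tg)
open Cfsg.Agent.SuzukiGroupStructure (Ts Hs Ws)
open scoped MatrixGroups

variable {K : Type*} [Field K] [Fintype K] [CharP K 2] (m : ℕ)

local notation "ε" => (2 ^ m : ℕ)
local notation "GG" => twistedF4 K (2 ^ m)

/-! ### the node of the pair class -/

/-- the node of a fundamental root -/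
noncomputable abbrev nodeF (i : Fin chevF4.rank) :
    Node (chevF4.posUnipotent K) (chevF4.negUnipotent K) (chevF4.diagonalSubgroup K) K :=
  ChevGauss77.node cf i

/-- entrywise application of the field map -/
noncomputable abbrev frm : SL(2, K) →* SL(2, K) := Matrix.SpecialLinearGroup.map (iterateFrobenius K 2 m)

theorem frm_up (t : K) : frm m (up t) = up (t ^ ε) := by
  ext i j; fin_cases i <;> fin_cases j <;> simp [frm, iterateFrobenius_def]

theorem frm_lo (t : K) : frm m (lo t) = lo (t ^ ε) := by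
  ext i j; fin_cases i <;> fin_cases j <;> simp [frm, iterateFrobenius_def]

theorem frm_dia (t : Kˣ) : frm m (dia t) = dia (t ^ ε) := by
  ext i j; fin_cases i <;> fin_cases j <;> simp [frm, iterateFrobenius_def]

theorem frm_dconj (a : Kˣ) (A : SL(2, K)) : frm m (dconj a A) = dconj (a ^ ε) (frm m A) := by
  ext i j; fin_cases i <;> fin_cases j <;> simp [frm, iterateFrobenius_def, mul_pow]

theorem nodeF_up (i : Fin chevF4.rank) (t : K) : (nodeF i).φ (up t) = xg cf (chevF4.simple i.val) t :=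
  ChevGauss77.phi_up cf (simple_lt cf i.isLt) t

theorem nodeF_lo (i : Fin chevF4.rank) (t : K) :
    (nodeF i).φ (lo t) = xg cf (chevF4.neg (chevF4.simple i.val)) t :=
  ChevGauss77.phi_lo cf (simple_lt cf i.isLt) t

theorem nodeF_dia (i : Fin chevF4.rank) (t : Kˣ) : (nodeF i).φ (dia t) = torus chevF4 (Pi.mulSingle i t) :=
  (ChevGauss77.phi_dia cf (simple_lt cf i.isLt) t).trans (hg_simple cf t)

theorem node_comm (A B : SL(2, K)) : Commute ((nodeF (nd 0)).φ A) ((nodeF (nd 3)).φ B) := by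
  obtain ⟨e0, -, -, e3, g1, g4, -⟩ := roots_eq
  have hr : ∀ i : Fin chevF4.rank, ∀ C : SL(2, K), (nodeF i).φ C ∈
      Subgroup.closure (Set.range (fun t : K => xg cf (chevF4.simple i.val) t) ∪
        Set.range fun t : K => xg cf (chevF4.neg (chevF4.simple i.val)) t) := fun i C => by
    rw [← ChevalleySL2.range_phi (ChevalleyRankOne.rels cf (simple_lt cf i.isLt))]
    exact ⟨C, rfl⟩
  refine TwistedD4Gauss77.closure_commute ?_ (hr _ A) (hr _ B)
  rintro a (⟨t, rfl⟩ | ⟨t, rfl⟩) b (⟨s, rfl⟩ | ⟨s, rfl⟩) <;> simp only [e0, e3, g1, g4] <;>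
    exact comm_pair (by simp) (by simp) _ _

/-- the rank-one map of the pair class -/
noncomputable def phiP : SL(2, K) →* GL chevF4.Idx K :=
  MonoidHom.mk' (fun A => (nodeF (nd 0)).φ (frm m A) * (nodeF (nd 3)).φ A) fun A B => by
    simp only [map_mul]
    have h := node_comm (K := K) (frm m B) A
    calc (nodeF (nd 0)).φ (frm m A) * (nodeF (nd 0)).φ (frm m B) * ((nodeF (nd 3)).φ A * (nodeF (nd 3)).φ B)
        = (nodeF (nd 0)).φ (frm m A) * ((nodeF (nd 0)).φ (frm m B) * (nodeF (nd 3)).φ A) * (nodeF (nd 3)).φ B := by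
          group
      _ = _ := by rw [h.eq]; group

theorem phiP_up (t : K) : phiP m (up t) = pr (t ^ ε) t := by
  obtain ⟨e0, -, -, e3, -⟩ := roots_eq
  simp only [phiP, MonoidHom.mk'_apply, frm_up, nodeF_up, e0, e3, pr]

theorem phiP_lo (t : K) : phiP m (lo t) = prn (t ^ ε) t := by
  obtain ⟨e0, -, -, e3, g1, g4, -⟩ := roots_eq
  simp only [phiP, MonoidHom.mk'_apply, frm_lo, nodeF_lo, e0, e3, g1, g4, prn]

theorem phiP_dia (t : Kˣ) : phiP m (dia t) = tor m t 1 := by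
  simp only [phiP, MonoidHom.mk'_apply, frm_dia, nodeF_dia, ← map_mul, tor]
  congr 1
  funext i
  have hi : i = nd 0 ∨ i = nd 1 ∨ i = nd 2 ∨ i = nd 3 := by revert i; decide
  rcases hi with rfl | rfl | rfl | rfl <;> simp [tp]

theorem phiP_mem (A : SL(2, K)) : phiP m A ∈ GG :=
  TwistedD4Gauss77.sl2_mem _ _ (fun t => by rw [phiP_up]; exact (gens_mem m t t).1)
    (fun t => by rw [phiP_lo]; exact (gens_mem m t t).2.1) A

theorem phiP_levi (A : SL(2, K)) : phiP m A ∈ chevF4.leviSubgroup K JP := by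
  refine TwistedD4Gauss77.sl2_mem _ _ (fun t => ?_) (fun t => ?_) A
  · rw [phiP_up]
    exact mul_mem (xg_levi (inP.2 (by decide +kernel)) _) (xg_levi (inP.2 (by decide +kernel)) _)
  · rw [phiP_lo]
    exact mul_mem (xg_levi (inP.2 (by decide +kernel)) _) (xg_levi (inP.2 (by decide +kernel)) _)

theorem pr_UU (t : K) : pr (t ^ ε) t ∈ UU m :=
  Subgroup.mem_inf.2 ⟨mul_mem (xg_mem_U cf (by decide +kernel) (by decide +kernel) _)
    (xg_mem_U cf (by decide +kernel) (by decide +kernel) _), (gens_mem m t t).1⟩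

variable (hK : Fintype.card K = 2 ^ (2 * m + 1))

include hK in
/-- the node of the pair class -/
noncomputable def nodeP : Node (UU (K := K) m) (VV m) (HH m) K where
  φ := phiP m
  Ui := UJ m JP
  Vi := VJ m JP
  α := X 3
  Ui_le := UJ_le m JP
  Vi_le := VJ_le m JP
  up_mem e := by rw [phiP_up]; exact pr_UU m e
  lo_mem c := (mem_VV m).2 ⟨pr (c ^ ε) c, pr_UU m c, by rw [(pr_flip _ _).1, phiP_lo]⟩
  dia_mem t := by rw [phiP_dia]; exact tor_mem m hK t 1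
  U_split u hu := by
    obtain ⟨e, w, hw, rfl⟩ := split_P m hK hu
    exact ⟨e, w, hw, by rw [phiP_up]⟩
  V_split v hv := by
    obtain ⟨u, hu, rfl⟩ := (mem_VV m).1 hv
    obtain ⟨e, w, hw, rfl⟩ := split_P m hK hu
    have hw' : n0 K * w * (n0 K)⁻¹ ∈ VJ m JP := (mem_VJ m).2 ⟨w, hw, rfl⟩
    refine ⟨e, _, normV m (phiP_levi m (lo e)) (phiP_mem m (lo e)) hw', ?_⟩
    rw [inv_mul_cancel_right, phiP_lo, ← (pr_flip (K := K) _ _).1]; group
  normU A u hu := normU m (phiP_levi m A) (phiP_mem m A) hu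
  normV A v hv := normV m (phiP_levi m A) (phiP_mem m A) hv
  H_conj h hh A := by
    obtain ⟨r0, -⟩ := X_rel m hK hh
    have h0 := (nodeF (nd 0)).H_conj h hh.1 (frm m A)
    have h3 := (nodeF (nd 3)).H_conj h hh.1 A
    change _ = (nodeF (nd 0)).φ (dconj (X 0 h) _) at h0
    change _ = (nodeF (nd 3)).φ (dconj (X 3 h) _) at h3
    show h * ((nodeF (nd 0)).φ (frm m A) * (nodeF (nd 3)).φ A) * h⁻¹ =
      (nodeF (nd 0)).φ (frm m (dconj (X 3 h) A)) * (nodeF (nd 3)).φ (dconj (X 3 h) A)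
    rw [frm_dconj, ← r0, ← h0, ← h3]
    group

/-! ### the element of the long word on the fixed Levi subgroup -/

theorem n_word : (cnF true : GL chevF4.Idx K) = nword cf [1, 2, 1, 2] := by
  obtain ⟨-, e1, e2, -⟩ := roots_eq
  show ng cf f4a 1 * ng cf f4b 1 * ng cf f4a 1 * ng cf f4b 1 = _
  simp only [nword, List.map_cons, List.map_nil, List.prod_cons, List.prod_nil, mul_one, ← mul_assoc]
  show _ = ng cf (chevF4.simple 1) 1 * ng cf (chevF4.simple 2) 1 * ng cf (chevF4.simple 1) 1 *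
    ng cf (chevF4.simple 2) 1
  rw [e1, e2]

theorem n_wact : ∀ r ∈ bl, r < chevF4.nroots ∧
    ChevalleyTorus.wact (D := chevF4) [1, 2, 1, 2] r = chevF4.neg r := by
  decide +kernel

theorem n_flip {r : ℕ} (hr : r ∈ bl) (t : K) :
    (cnF true : GL chevF4.Idx K) * xg cf r t * (cnF (K := K) true)⁻¹ = n0 K * xg cf r t * (n0 K)⁻¹ := by
  obtain ⟨h1, h2⟩ := n_wact r hr
  obtain ⟨e, he, h⟩ := nword_conj cf (F := K) (l := [1, 2, 1, 2]) (by decide) h1
  rw [n0_conj h1, n_word, h t, h2, sq_one he, one_mul]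

theorem n_bw (a b : K) :
    (cnF true : GL chevF4.Idx K) * uB m a b * (cnF (K := K) true)⁻¹ = n0 K * uB m a b * (n0 K)⁻¹ := by
  simp only [uB, bw, four]
  generalize sg m a ^ ε = p, sg m a = p', sg m a ^ (ε + 1) + (b + a * sg m a) = p'' at *
  generalize (b + a * p') ^ (ε * 2) = p''' at *
  have k : ∀ (g : GL chevF4.Idx K) (x y z w : GL chevF4.Idx K),
      g * (x * y * z * w) * g⁻¹ = (g * x * g⁻¹) * (g * y * g⁻¹) * (g * z * g⁻¹) * (g * w * g⁻¹) := by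
    intro g x y z w; group
  rw [k, k, n_flip (r := bl.getD 0 0) (by simp), n_flip (r := bl.getD 1 0) (by simp),
    n_flip (r := bl.getD 2 0) (by simp), n_flip (r := bl.getD 3 0) (by simp)]

theorem n0_ng {r : ℕ} (hr : r < chevF4.nroots) : n0 K * ng cf r (1 : K) * (n0 K)⁻¹ = ng cf r 1 := by
  have e : n0 K * ng cf r (1 : K) * (n0 K)⁻¹ = xg cf (chevF4.neg r) 1 * xg cf r 1 * xg cf (chevF4.neg r) 1 := by
    have h := n0_conj (K := K) (cf.neg_lt r) 1
    rw [neg_neg' cf hr] at h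
    rw [ng_eq]
    generalize hx : xg cf r (1 : K) = x
    rw [show n0 K * (x * xg cf (chevF4.neg r) 1 * x) * (n0 K)⁻¹ = (n0 K * x * (n0 K)⁻¹) *
      (n0 K * xg cf (chevF4.neg r) 1 * (n0 K)⁻¹) * (n0 K * x * (n0 K)⁻¹) by group, h, ← hx, n0_conj hr]
  rw [e, ng_eq, ← ChevGauss77.phi_up cf hr, ← ChevGauss77.phi_lo cf hr, ← map_mul, ← map_mul, ← map_mul, ← map_mul]
  congr 1
  ext i j
  fin_cases i <;> fin_cases j <;> simp [Matrix.mul_apply, Fin.sum_univ_two, CharTwo.add_self_eq_zero]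

theorem n0_n : n0 K * (cnF true : GL chevF4.Idx K) * (n0 K)⁻¹ = cnF true := by
  show n0 K * (ng cf f4a 1 * ng cf f4b 1 * ng cf f4a 1 * ng cf f4b 1) * (n0 K)⁻¹ = _
  rw [show n0 K * (ng cf f4a 1 * ng cf f4b 1 * ng cf f4a 1 * ng cf f4b (1 : K)) * (n0 K)⁻¹ =
    (n0 K * ng cf f4a 1 * (n0 K)⁻¹) * (n0 K * ng cf f4b 1 * (n0 K)⁻¹) * (n0 K * ng cf f4a 1 * (n0 K)⁻¹) *
      (n0 K * ng cf f4b 1 * (n0 K)⁻¹) by group, n0_ng (by decide +kernel), n0_ng (by decide +kernel)]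
  rfl

variable [hP : Param K m]

include hK in
theorem emb_split (c : Kˣ) (S : ↥(Cfsg.Sz K m)) : emb m hK (c, S) = emb m hK (c, 1) * emb m hK (1, S) := by
  rw [← map_mul]; simp

include hK in
theorem exists_H (c k : Kˣ) : ∃ h ∈ HH m, cOf m h = c ∧ X 1 h = k ∧ emb m hK (c, Hs k) = h := by
  obtain ⟨h, hh, h0, h1⟩ := H_exists m hK (c * (k * k ^ ε)⁻¹) k
  have hc : cOf m h = c := by rw [cOf, h0, h1, inv_mul_cancel_right]
  exact ⟨h, hh, hc, h1, by rw [← hc, ← h1]; exact emb_H m hK hh⟩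

include hK in
theorem n0_emb_one (S : ↥(Cfsg.Sz K m)) :
    n0 K * emb m hK (1, S) * (n0 K)⁻¹ = emb m hK (1, Ws * S * Ws⁻¹) := by
  let f₁ : ↥(Cfsg.Sz K m) →* GL chevF4.Idx K :=
    (MulAut.conj (n0 K)).toMonoidHom.comp ((emb m hK).comp (MonoidHom.inr Kˣ ↥(Cfsg.Sz K m)))
  let f₂ : ↥(Cfsg.Sz K m) →* GL chevF4.Idx K :=
    ((emb m hK).comp (MonoidHom.inr Kˣ ↥(Cfsg.Sz K m))).comp (MulAut.conj (Ws : ↥(Cfsg.Sz K m))).toMonoidHom
  suffices h : ∀ S, S ∈ f₁.eqLocus f₂ from h S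
  have hT : ∀ a b : K, (Ts a b : ↥(Cfsg.Sz K m)) ∈ f₁.eqLocus f₂ := fun a b => by
    show n0 K * emb m hK (1, Ts a b) * (n0 K)⁻¹ = emb m hK (1, Ws * Ts a b * Ws⁻¹)
    rw [emb_Ts, ← n_bw, ← emb_Ws m hK, ← emb_Ts m hK, ← map_inv, ← map_mul, ← map_mul]
    simp
  have hW : (Ws : ↥(Cfsg.Sz K m)) ∈ f₁.eqLocus f₂ := by
    show n0 K * emb m hK (1, Ws) * (n0 K)⁻¹ = emb m hK (1, Ws * Ws * Ws⁻¹)
    rw [mul_inv_cancel_right, emb_Ws, n0_n]
  have hH : ∀ k : Kˣ, (Hs k : ↥(Cfsg.Sz K m)) ∈ f₁.eqLocus f₂ := fun k => by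
    show n0 K * emb m hK (1, Hs k) * (n0 K)⁻¹ = emb m hK (1, Ws * Hs k * Ws⁻¹)
    obtain ⟨h, hh, -, -, e⟩ := exists_H m hK 1 k
    rw [e, n0_HH m hK hh, SuzukiGroupStructure.Ws_Hs, ← e, ← map_inv]
    congr 1
    rw [Prod.inv_mk, inv_one]
    congr 1
    refine inv_eq_of_mul_eq_one_right ?_
    rw [SuzukiGroupStructure.Hs_mul, mul_inv_cancel, SuzukiGroupStructure.Hs_one]
  intro S
  rcases SuzukiGroupStructure.bruhat S with hS | ⟨a, b, s, hs, rfl⟩
  · obtain ⟨a, b, k, rfl⟩ := SuzukiGroupStructure.fix_inf_iff.1 hS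
    exact mul_mem (hT a b) (hH k)
  · obtain ⟨x, y, k, rfl⟩ := SuzukiGroupStructure.fix_inf_iff.1 hs
    exact mul_mem (mul_mem (hT a b) hW) (mul_mem (hT x y) (hH k))

include hK in
theorem n0_emb (c : Kˣ) (S : ↥(Cfsg.Sz K m)) :
    n0 K * emb m hK (c, S) * (n0 K)⁻¹ = emb m hK (c⁻¹, Ws * S * Ws⁻¹) := by
  obtain ⟨h, hh, -, -, e⟩ := exists_H m hK c 1
  rw [SuzukiGroupStructure.Hs_one] at e
  rw [emb_split m hK c S, emb_split m hK c⁻¹, ← n0_emb_one m hK S,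
    show emb m hK (c⁻¹, 1) = (emb m hK (c, 1))⁻¹ by rw [← map_inv]; simp, e, ← n0_HH m hK hh]
  group

/-! ### the form `v h u` -/

include hK in
theorem U_split_B {u : GL chevF4.Idx K} (hu : u ∈ UU m) :
    ∃ a b, ∃ w ∈ UJ m JB, u = emb m hK (1, Ts a b) * w := by
  obtain ⟨t, v, w, hw, rfl⟩ := split_B m hK hu
  exact ⟨_, _, w, hw, by rw [emb_Ts, bw_uB m hK]⟩

include hK in
theorem V_split_B {v : GL chevF4.Idx K} (hv : v ∈ VV m) :
    ∃ a b, ∃ w ∈ VJ m JB, v = w * emb m hK (1, Ws * Ts a b * Ws⁻¹) := by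
  obtain ⟨u, hu, rfl⟩ := (mem_VV m).1 hv
  obtain ⟨a, b, w, hw, rfl⟩ := U_split_B m hK hu
  refine ⟨a, b, _, normV m (emb_mem m hK (1, Ws * Ts a b * Ws⁻¹)).1 (emb_mem m hK _).2
    ((mem_VJ m).2 ⟨w, hw, rfl⟩), ?_⟩
  rw [inv_mul_cancel_right, ← n0_emb_one m hK]; group

theorem sz_ldu {Z : ↥(Cfsg.Sz K m)} (hZ : Z • suzukiPointInfinity K ≠ suzukiPointZero K) :
    ∃ a b k e f, Z = Ws * Ts a b * Ws⁻¹ * Hs k * Ts e f := by
  have hne : ((Ws : ↥(Cfsg.Sz K m)) * Z) • suzukiPointInfinity K ≠ suzukiPointInfinity K := by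
    intro h
    rw [mul_smul] at h
    exact hZ (MulAction.injective (Ws : ↥(Cfsg.Sz K m)) (h.trans SuzukiGroupStructure.Ws_smul_zero.symm))
  obtain ⟨a, b, s, hs, e⟩ := (SuzukiGroupStructure.bruhat ((Ws : ↥(Cfsg.Sz K m)) * Z)).resolve_left hne
  obtain ⟨x, y, k, rfl⟩ := SuzukiGroupStructure.fix_inf_iff.1 hs
  have h1 := SuzukiGroupStructure.Hs_Ts (m := m) k⁻¹ x y
  refine ⟨a, b, k, ((k⁻¹ : Kˣ) : K) * x, ((k⁻¹ : Kˣ) : K) * sg m ((k⁻¹ : Kˣ) : K) * y, ?_⟩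
  rw [← h1, show (Hs k⁻¹ : ↥(Cfsg.Sz K m)) = (Hs k)⁻¹ from (inv_eq_of_mul_eq_one_right (by
    rw [SuzukiGroupStructure.Hs_mul, mul_inv_cancel, SuzukiGroupStructure.Hs_one])).symm]
  rw [SuzukiGroupStructure.Ws_inv]
  calc Z = Ws * (Ws * Z) := by rw [← mul_assoc, SuzukiGroupStructure.Ws_mul_Ws, one_mul]
    _ = _ := by rw [e]; group

theorem sz_uldu (Z : ↥(Cfsg.Sz K m)) : ∃ p p' a b k e f, Z = Ts p p' * (Ws * Ts a b * Ws⁻¹ * Hs k * Ts e f) := by
  by_cases hZ : Z • suzukiPointInfinity K = suzukiPointZero K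
  · have hne : ((Ts 1 0 : ↥(Cfsg.Sz K m))⁻¹ * Z) • suzukiPointInfinity K ≠ suzukiPointZero K := by
      rw [mul_smul, hZ, Ne, inv_smul_eq_iff, SuzukiGroupStructure.Ts_smul_zero, SuzukiGroupBasic.zero_eq_pt (m := m)]
      exact fun h => zero_ne_one (SuzukiGroupBasic.pt_injective h).1
    obtain ⟨a, b, k, e, f, h⟩ := sz_ldu m hne
    exact ⟨1, 0, a, b, k, e, f, by rw [← h, mul_inv_cancel_left]⟩
  · obtain ⟨a, b, k, e, f, h⟩ := sz_ldu m hZ
    exact ⟨0, 0, a, b, k, e, f, by rw [SuzukiGroupStructure.Ts_zero, one_mul]; exact h⟩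

include hK in
theorem loT_mem (a b : K) : emb m hK (1, Ws * Ts a b * Ws⁻¹) ∈ VV m :=
  (mem_VV m).2 ⟨uB m a b, uB_UU m a b, by rw [← n0_emb_one m hK, emb_Ts]⟩

include hK in
theorem upT_mem (a b : K) : emb m hK (1, Ts a b) ∈ UU m := by rw [emb_Ts]; exact uB_UU m a b

/-- the big set -/
def Big (g : GL chevF4.Idx K) : Prop :=
  ∃ u ∈ UU m, ∃ v ∈ VV m, ∃ h ∈ HH m, ∃ u' ∈ UU m, g = u * v * h * u'

include hK in
theorem big_emb (p : Kˣ × ↥(Cfsg.Sz K m)) {g : GL chevF4.Idx K} (hg : Big m g) : Big m (emb m hK p * g) := by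
  obtain ⟨u, hu, v, hv, h, hh, u', hu', rfl⟩ := hg
  obtain ⟨a, b, w, hw, rfl⟩ := U_split_B m hK hu
  obtain ⟨c, d, w', hw', rfl⟩ := V_split_B m hK hv
  obtain ⟨x, x', y, y', k, e, f, hZ⟩ := sz_uldu m (p.2 * Ts a b * (Ws * Ts c d * Ws⁻¹))
  obtain ⟨h', hh', -, -, eh⟩ := exists_H m hK p.1 k
  set B := emb m hK (p * (1, Ts a b)) with hB
  obtain ⟨hBL, hBG⟩ := emb_mem m hK (p * (1, Ts a b))
  obtain ⟨hXL, hXG⟩ := emb_mem m hK (1, Ts x x')
  set X₁ := emb m hK (1, Ts x x') with hX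
  have key : B * emb m hK (1, Ws * Ts c d * Ws⁻¹) =
      X₁ * emb m hK (1, Ws * Ts y y' * Ws⁻¹) * h' * emb m hK (1, Ts e f) := by
    rw [hB, hX, ← eh, ← map_mul, ← map_mul, ← map_mul, ← map_mul]
    congr 1
    simp only [Prod.ext_iff, Prod.fst_mul, Prod.snd_mul, mul_one, one_mul, true_and]
    rw [hZ]; group
  have k1 := normU m hBL hBG hw
  have k2 := normV m hBL hBG hw'
  have k3 := normV m (inv_mem hXL) (inv_mem hXG) k2
  have k4 := UU_conj m (inv_mem hh) (upT_mem m hK e f)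
  refine ⟨B * w * B⁻¹ * X₁, mul_mem (UJ_le m _ k1) (upT_mem m hK x x'),
    X₁⁻¹ * (B * w' * B⁻¹) * X₁⁻¹⁻¹ * emb m hK (1, Ws * Ts y y' * Ws⁻¹), mul_mem (VJ_le m _ k3) (loT_mem m hK y y'),
    h' * h, mul_mem hh' hh, h⁻¹ * emb m hK (1, Ts e f) * h⁻¹⁻¹ * u', mul_mem k4 hu', ?_⟩
  calc emb m hK p * (emb m hK (1, Ts a b) * w * (w' * emb m hK (1, Ws * Ts c d * Ws⁻¹)) * h * u')
      = (B * w * B⁻¹) * (B * w' * B⁻¹) * (B * emb m hK (1, Ws * Ts c d * Ws⁻¹)) * h * u' := by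
        rw [hB, map_mul]; group
    _ = _ := by rw [key]; group

include hK in
/-- every element is conjugate to a form `v h u` -/
theorem exists_form {g : GL chevF4.Idx K} (hg : g ∈ GG) :
    ∃ k ∈ GG, ∃ v ∈ VV m, ∃ h ∈ HH m, ∃ u ∈ UU m, k * g * k⁻¹ = v * h * u := by
  have hG : GG ≤ (nodeP m hK).φ.range ⊔ (emb m hK).range := by
    refine gen_le cf ?_
    have hbl : ∀ t u : K, bw m bl t u ∈ (emb m hK).range := fun t u => ⟨_, by rw [bw_uB m hK, emb_Ts]⟩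
    rintro w (⟨t, rfl | rfl⟩ | ⟨t, u, rfl | rfl⟩)
    · exact Subgroup.mem_sup_left ⟨up t, by rw [(gens m t t).1]; exact phiP_up m t⟩
    · exact Subgroup.mem_sup_left ⟨lo t, by rw [(gens m t t).2.1]; exact phiP_lo m t⟩
    · rw [(gens m t u).2.2.1]; exact Subgroup.mem_sup_right (hbl t u)
    · refine Subgroup.mem_sup_right ?_
      rw [(gens m t u).2.2.2, ← (bw_flip m t u).1, bw_uB m hK, ← n_bw, ← emb_Ws m hK, ← emb_Ts m hK]
      exact mul_mem (mul_mem ⟨_, rfl⟩ ⟨_, rfl⟩) (inv_mem ⟨_, rfl⟩)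
  have hg' := hG hg
  rw [Subgroup.sup_eq_closure] at hg'
  have key : Big m g := by
    clear hg
    induction hg' using Subgroup.closure_induction_left with
    | one => exact ⟨1, one_mem _, 1, one_mem _, 1, one_mem _, 1, one_mem _, by group⟩
    | mul_left x hx y _ ih =>
      rcases hx with ⟨A, rfl⟩ | ⟨A, rfl⟩
      · exact (nodeP m hK).mul_big A ih
      · exact big_emb m hK A ih
    | inv_mul_cancel x hx y _ ih =>
      rcases hx with ⟨A, rfl⟩ | ⟨A, rfl⟩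
      · rw [← map_inv]; exact (nodeP m hK).mul_big A⁻¹ ih
      · rw [← map_inv]; exact big_emb m hK A⁻¹ ih
  obtain ⟨u, hu, v, hv, h, hh, u', hu', rfl⟩ := key
  exact ⟨u⁻¹, inv_mem hu.2, v, hv, h, hh, u' * u, mul_mem hu' hu, by group⟩

end Cfsg.Agent.TwistedF4Cover53
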