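import Mathlib

set_option autoImplicit false

/-! A 2-closed transitive group of degree `2p^2` contains a derangement of order `p`. -/

namespace Cfsg.Agent.TwoClosedTwiceSquare

open MulAction

variable {G Ω : Type*} [Group G] [MulAction G Ω]

/-- A central element fixing a point fixes its orbit. -/
lemma fixes_orbit {P : Subgroup G} (z : P) (hz : ∀ x : P, x * z = z * x) {a c : Ω} (ha : z • a = a)
    (hc : c ∈ orbit P a) : z • c = c := by
  obtain ⟨x, rfl⟩ := hc
  show z • x • a = x • a
  rw [smul_smul, ← hz, mul_smul, ha]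

/-- The Sylow orbits are divisible by the `p`-part of the degree. -/
lemma dvd_index [Finite G] [Finite Ω] [IsPretransitive G Ω] {p k : ℕ} [hp : Fact p.Prime] (P : Sylow p G)
    (hd : p ^ k ∣ Nat.card Ω) (a : Ω) : p ^ k ∣ (stabilizer (P : Subgroup G) a).index := by
  have h1 : ((stabilizer (P : Subgroup G) a).map (P : Subgroup G).subtype).index =
      (stabilizer (P : Subgroup G) a).index * (P : Subgroup G).index :=
    Subgroup.index_map_subtype _
  have h2 : (stabilizer (P : Subgroup G) a).map (P : Subgroup G).subtype ≤ stabilizer G a := by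
    rintro _ ⟨x, hx, rfl⟩; exact hx
  have h3 : p ^ k ∣ (stabilizer (P : Subgroup G) a).index * (P : Subgroup G).index := by
    rw [← h1]
    refine (hd.trans ?_).trans (Subgroup.index_dvd_of_le h2)
    rw [index_stabilizer_of_transitive]
  exact (Nat.Coprime.pow_left k (hp.out.coprime_iff_not_dvd.mpr P.not_dvd_index)).dvd_of_dvd_mul_right h3

theorem aux [Finite G] [FaithfulSMul G Ω] {p : ℕ} [hp : Fact p.Prime] (P : Subgroup G) (hP : IsPGroup p P)
    (hcl : ∀ σ : Equiv.Perm Ω, (∀ a b : Ω, ∃ g : G, σ a = g • a ∧ σ b = g • b) → ∃ g : G, ∀ a : Ω, σ a = g • a)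
    (a b : Ω) (ha : (stabilizer P a).index = p ^ 2) (hb : (stabilizer P b).index = p ^ 2)
    (hcov : ∀ c : Ω, c ∈ orbit P a ∨ c ∈ orbit P b) (hba : b ∉ orbit P a)
    (z : P) (hzc : ∀ x : P, x * z = z * x) (hzp : z ^ p = 1) (hza : z • a ≠ a) (hzb : z • b = b) :
    ∃ g : G, (orderOf g).Prime ∧ ∀ ω : Ω, g • ω ≠ ω := by
  classical
  have hdisj : ∀ c, c ∈ orbit P a → c ∉ orbit P b := fun c h1 h2 => hba (by
    have e1 : orbit P c = orbit P a := orbit_eq_iff.mpr h1
    have e2 : orbit P c = orbit P b := orbit_eq_iff.mpr h2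
    rw [← e1, e2]; exact mem_orbit_self b)
  -- the kernel on the second orbit
  let K : Subgroup P :=
    { carrier := {x | ∀ c ∈ orbit P b, x • c = c}
      one_mem' := fun c _ => one_smul _ c
      mul_mem' := fun {x y} hx hy c hc => by rw [mul_smul, hy c hc, hx c hc]
      inv_mem' := fun {x} hx c hc => inv_smul_eq_iff.mpr (hx c hc).symm }
  haveI hKn : K.Normal := ⟨fun x hx g c hc => by
    rw [mul_smul, mul_smul, hx _ (mem_orbit_of_mem_orbit g⁻¹ hc), smul_inv_smul]⟩
  have hzK : z ∈ K := fun c hc => fixes_orbit z hzc hzb hc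
  set H : Subgroup P := stabilizer P a ⊔ K with hHdef
  have hHn : H.Normal := by
    have hlt : stabilizer P a < H := lt_of_le_of_ne le_sup_left fun h => hza (by
      have : z ∈ stabilizer P a := h ▸ Subgroup.mem_sup_right hzK
      exact this)
    have hdvd : H.index ∣ p ^ 2 := ha ▸ Subgroup.index_dvd_of_le hlt.le
    have hne : H.index ≠ p ^ 2 := by
      rw [← ha]; exact (Subgroup.index_strictAnti hlt).ne
    obtain ⟨k, hk, hkeq⟩ := (Nat.dvd_prime_pow hp.out).mp hdvd
    interval_cases k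
    · rw [pow_zero] at hkeq
      rw [Subgroup.index_eq_one.mp hkeq]; infer_instance
    · rw [pow_one] at hkeq
      refine Subgroup.normal_of_index_eq_minFac_card ?_
      obtain ⟨n, hn⟩ := IsPGroup.iff_card.mp hP
      have hn0 : n ≠ 0 := by
        rintro rfl
        have h1 := Subgroup.index_dvd_card H
        rw [hkeq, hn, pow_zero] at h1
        exact hp.out.not_dvd_one h1
      rw [hkeq, hn, Nat.pow_minFac hn0, hp.out.minFac_eq]
    · exact absurd hkeq hne
  -- `H` does not act trivially on the second orbit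
  have hHK : ¬ H ≤ K := fun h => by
    have h1 : stabilizer P a ≤ K := le_sup_left.trans h
    have h2 : K ≤ stabilizer P b := fun x hx => hx b (mem_orbit_self b)
    have h3 : K.index ≤ p ^ 2 := ha ▸ Nat.le_of_dvd (Nat.pos_of_ne_zero Subgroup.index_ne_zero_of_finite)
      (Subgroup.index_dvd_of_le h1)
    have h4 : p ^ 2 ≤ K.index := hb ▸ Nat.le_of_dvd (Nat.pos_of_ne_zero Subgroup.index_ne_zero_of_finite)
      (Subgroup.index_dvd_of_le h2)
    rcases eq_or_lt_of_le h1 with e | e
    · exact hza (show z ∈ stabilizer P a from e ▸ hzK)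
    · have := Subgroup.index_strictAnti e
      omega
  -- a central element of `P/K` of order `p` in the image of `H`
  obtain ⟨h, hhH, hhK, hhp, hhc⟩ : ∃ h ∈ H, h ∉ K ∧ h ^ p ∈ K ∧ ∀ x : P, (h * x)⁻¹ * (x * h) ∈ K := by
    set π := QuotientGroup.mk' K with hπ
    haveI : (H.map π).Normal := hHn.map π (QuotientGroup.mk'_surjective K)
    haveI : Nontrivial (H.map π) := by
      rw [Subgroup.nontrivial_iff_ne_bot, ne_eq, Subgroup.map_eq_bot_iff, QuotientGroup.ker_mk']
      exact hHK
    have hQ : IsPGroup p (P ⧸ K) := hP.to_quotient K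
    have hne : Nontrivial ↑(H.map π ⊓ Subgroup.center (P ⧸ K)) := by
      rw [Subgroup.nontrivial_iff_ne_bot]
      intro hbot
      -- conjugation on the normal subgroup has a second fixed point
      have hA : IsPGroup p (ConjAct (P ⧸ K)) := hQ
      obtain ⟨n, hn, hncard⟩ := (hQ.to_subgroup (H.map π)).nontrivial_iff_card.mp inferInstance
      have hdiv : p ∣ Nat.card (H.map π) := hncard ▸ dvd_pow_self p hn.ne'
      obtain ⟨w, hw, hw1⟩ := hA.exists_fixed_point_of_prime_dvd_card_of_fixed_point (H.map π)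
        hdiv (a := 1) (fun g => smul_one g)
      have hwmem : (w : P ⧸ K) ∈ H.map π ⊓ Subgroup.center (P ⧸ K) := ⟨w.2, Subgroup.mem_center_iff.mpr fun g => by
        have := congrArg (Subtype.val) (hw (ConjAct.toConjAct g))
        rw [ConjAct.Subgroup.val_conj_smul, ConjAct.toConjAct_smul] at this
        exact mul_inv_eq_iff_eq_mul.mp this⟩
      rw [hbot, Subgroup.mem_bot] at hwmem
      exact hw1 (Subtype.ext hwmem.symm)
    obtain ⟨n, hn, hncard⟩ :=
      (hQ.to_subgroup (H.map π ⊓ Subgroup.center (P ⧸ K))).nontrivial_iff_card.mp hne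
    obtain ⟨w, hw⟩ := exists_prime_orderOf_dvd_card' (G := ↑(H.map π ⊓ Subgroup.center (P ⧸ K))) p
      (hncard ▸ dvd_pow_self p hn.ne')
    obtain ⟨h, hh, hhw⟩ := w.2.1
    refine ⟨h, hh, fun hc => ?_, ?_, fun x => ?_⟩
    · have : w = 1 := Subtype.ext (by rw [← hhw]; exact (QuotientGroup.eq_one_iff h).mpr hc)
      rw [this, orderOf_one] at hw
      exact hp.out.one_lt.ne hw
    · refine (QuotientGroup.eq_one_iff _).mp ?_
      have : (w : P ⧸ K) ^ p = 1 := by
        rw [← SubgroupClass.coe_pow, ← hw, pow_orderOf_eq_one]; rfl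
      rw [← hhw] at this
      exact (map_pow π h p).trans this
    · refine QuotientGroup.eq.mp ?_
      show π (h * x) = π (x * h)
      rw [map_mul, map_mul, hhw]
      exact (Subgroup.mem_center_iff.mp w.2.2 (π x)).symm
  have hfree : ∀ c ∈ orbit P b, h • c ≠ c := by
    intro c hc hfix
    refine hhK fun d hd => ?_
    obtain ⟨x, rfl⟩ : d ∈ orbit P c := by rwa [orbit_eq_iff.mpr hc]
    show h • x • c = x • c
    have h1 : x * h = h * x * ((h * x)⁻¹ * (x * h)) := by group
    calc h • x • c = (h * x) • c := (mul_smul h x c).symm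
      _ = (h * x) • ((h * x)⁻¹ * (x * h)) • c := by rw [hhc x c hc]
      _ = (x * h) • c := by rw [← mul_smul, ← h1]
      _ = x • c := by rw [mul_smul, hfix]
  have hHcross : ∀ a' ∈ orbit P a, ∀ b' ∈ orbit P b, ∃ q : P, q • a' = a' ∧ q • b' = h • b' := by
    intro a' ha' b' hb'
    obtain ⟨x, rfl⟩ := ha'
    have hm : x⁻¹ * h * x ∈ H := by simpa using hHn.conj_mem h hhH x⁻¹
    rw [← SetLike.mem_coe, hHdef, Subgroup.mul_normal] at hm
    obtain ⟨q, hq, k, hk, hqk⟩ := hm
    refine ⟨x * q * x⁻¹, ?_, ?_⟩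
    · show (x * q * x⁻¹) • x • a = x • a
      rw [smul_smul, inv_mul_cancel_right, mul_smul, show q • a = a from hq]
    · have hkc : k • x⁻¹ • b' = x⁻¹ • b' := hk _ (mem_orbit_of_mem_orbit x⁻¹ hb')
      calc (x * q * x⁻¹) • b' = (x * q) • x⁻¹ • b' := by rw [← mul_smul]
        _ = (x * q) • k • x⁻¹ • b' := by rw [hkc]
        _ = (x * (q * k) * x⁻¹) • b' := by simp only [← mul_smul, mul_assoc]
        _ = h • b' := by rw [show q * k = x⁻¹ * h * x from hqk]; congr 1; group
  let σ : Equiv.Perm Ω :=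
    { toFun := fun c => if c ∈ orbit P b then h • c else c
      invFun := fun c => if c ∈ orbit P b then h⁻¹ • c else c
      left_inv := fun c => by
        by_cases hc : c ∈ orbit P b
        · simp [hc, mem_orbit_of_mem_orbit h hc]
        · simp [hc]
      right_inv := fun c => by
        by_cases hc : c ∈ orbit P b
        · simp [hc, mem_orbit_of_mem_orbit h⁻¹ hc]
        · simp [hc] }
  have hσb : ∀ c ∈ orbit P b, σ c = h • c := fun c hc => if_pos hc
  have hσa : ∀ c ∈ orbit P a, σ c = c := fun c hc => if_neg (hdisj c hc)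
  obtain ⟨g, hg⟩ := hcl σ fun c d => by
    rcases hcov c with hc | hc <;> rcases hcov d with hd | hd
    · exact ⟨1, by rw [hσa c hc, one_smul], by rw [hσa d hd, one_smul]⟩
    · obtain ⟨q, hq1, hq2⟩ := hHcross c hc d hd
      exact ⟨q, by rw [hσa c hc]; exact hq1.symm, by rw [hσb d hd]; exact hq2.symm⟩
    · obtain ⟨q, hq1, hq2⟩ := hHcross d hd c hc
      exact ⟨q, by rw [hσb c hc]; exact hq2.symm, by rw [hσa d hd]; exact hq1.symm⟩
    · exact ⟨h, hσb c hc, hσb d hd⟩
  have hga : ∀ c ∈ orbit P a, g • c = c := fun c hc => (hg c).symm.trans (hσa c hc)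
  have hgb : ∀ c ∈ orbit P b, g • c = h • c := fun c hc => (hg c).symm.trans (hσb c hc)
  have hzb' : ∀ c ∈ orbit P b, z • c = c := fun c hc => fixes_orbit z hzc hzb hc
  have hiterA : ∀ c ∈ orbit P a, ∀ n : ℕ, ((z : G) * g) ^ n • c = z ^ n • c := by
    intro c hc n
    induction n with
    | zero => simp
    | succ n ih =>
      rw [pow_succ', mul_smul, ih, mul_smul, hga _ (mem_orbit_of_mem_orbit (z ^ n) hc), pow_succ', mul_smul]
      rfl
  have hiterB : ∀ c ∈ orbit P b, ∀ n : ℕ, ((z : G) * g) ^ n • c = h ^ n • c := by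
    intro c hc n
    induction n with
    | zero => simp
    | succ n ih =>
      rw [pow_succ', mul_smul, ih, mul_smul, hgb _ (mem_orbit_of_mem_orbit (h ^ n) hc), pow_succ', mul_smul]
      exact hzb' _ (mem_orbit_of_mem_orbit h (mem_orbit_of_mem_orbit (h ^ n) hc))
  have hfix : ∀ ω : Ω, ((z : G) * g) • ω ≠ ω := by
    intro ω
    rcases hcov ω with hω | hω
    · intro e
      have h1 := hiterA ω hω 1
      rw [pow_one, pow_one, e] at h1
      obtain ⟨x, rfl⟩ := hω
      refine hza ?_
      have h2 := fixes_orbit z hzc (a := x • a) (c := a) h1.symm ⟨x⁻¹, inv_smul_smul x a⟩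
      exact h2
    · intro e
      have h1 := hiterB ω hω 1
      rw [pow_one, pow_one, e] at h1
      exact hfree ω hω h1.symm
  refine ⟨(z : G) * g, ?_, hfix⟩
  have hord : orderOf ((z : G) * g) = p := by
    refine orderOf_eq_prime (FaithfulSMul.eq_of_smul_eq_smul (α := Ω) fun ω => ?_) ?_
    · rw [one_smul]
      rcases hcov ω with hω | hω
      · rw [hiterA ω hω p, hzp, one_smul]
      · rw [hiterB ω hω p]; exact hhp ω hω
    · intro h1
      exact hfix a (by rw [h1, one_smul])
  rw [hord]; exact hp.out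

theorem main [Finite G] [FaithfulSMul G Ω] [Finite Ω] [IsPretransitive G Ω] (p : ℕ) (hp : p.Prime)
    (hcard : Nat.card Ω = 2 * p ^ 2)
    (hcl : ∀ σ : Equiv.Perm Ω, (∀ a b : Ω, ∃ g : G, σ a = g • a ∧ σ b = g • b) → ∃ g : G, ∀ a : Ω, σ a = g • a) :
    ∃ g : G, (orderOf g).Prime ∧ ∀ ω : Ω, g • ω ≠ ω := by
  classical
  haveI := Fact.mk hp
  have hpos : 0 < p ^ 2 := pow_pos hp.pos 2
  haveI : Nonempty Ω := Nat.card_pos_iff.mp (by rw [hcard]; omega) |>.1
  obtain ⟨P⟩ := Sylow.nonempty (p := p) (G := G)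
  have hd : ∀ c : Ω, p ^ 2 ≤ (orbit (P : Subgroup G) c).ncard := fun c => by
    rw [← index_stabilizer]
    exact Nat.le_of_dvd (Nat.pos_of_ne_zero Subgroup.index_ne_zero_of_finite)
      (dvd_index P (hcard ▸ dvd_mul_left _ 2) c)
  set a : Ω := Classical.arbitrary Ω
  have hPnt : Nontrivial (P : Subgroup G) := by
    rw [Subgroup.nontrivial_iff_ne_bot]
    intro hbot
    have h1 := hd a
    have hle : (orbit (P : Subgroup G) a).ncard ≤ 1 := by
      refine (Set.ncard_le_one (Set.toFinite _)).mpr ?_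
      rintro _ ⟨x, rfl⟩ _ ⟨y, rfl⟩
      have : x = y := Subtype.ext (((Subgroup.eq_bot_iff_forall _).mp hbot x x.2).trans
        ((Subgroup.eq_bot_iff_forall _).mp hbot y y.2).symm)
      rw [this]
    have := hp.two_le
    nlinarith
  haveI : Nontrivial (Subgroup.center (P : Subgroup G)) := P.isPGroup'.center_nontrivial
  obtain ⟨n, hn, hncard⟩ := (P.isPGroup'.to_subgroup (Subgroup.center (P : Subgroup G))).nontrivial_iff_card.mp inferInstance
  obtain ⟨⟨z, hzc⟩, hz⟩ := exists_prime_orderOf_dvd_card' (G := Subgroup.center (P : Subgroup G)) p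
    (hncard ▸ dvd_pow_self p hn.ne')
  replace hz : orderOf z = p := (Subgroup.orderOf_coe (⟨z, hzc⟩ : Subgroup.center (P : Subgroup G))).trans hz
  replace hzc : ∀ x : (P : Subgroup G), x * z = z * x := Subgroup.mem_center_iff.mp hzc
  have hzp : z ^ p = 1 := (congrArg (fun n => z ^ n) hz).symm.trans (pow_orderOf_eq_one z)
  have hz1 : z ≠ 1 := fun h => by
    rw [show z = 1 from h, orderOf_one] at hz; exact hp.one_lt.ne hz
  have hord : orderOf (z : G) = p := by rw [Subgroup.orderOf_coe]; exact hz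
  have hall : (∀ c : Ω, z • c ≠ c) → ∃ g : G, (orderOf g).Prime ∧ ∀ ω : Ω, g • ω ≠ ω :=
    fun h => ⟨z, hord.symm ▸ hp, h⟩
  have hnotfix : ¬ ∀ c : Ω, z • c = c := fun h =>
    hz1 (Subtype.ext (FaithfulSMul.eq_of_smul_eq_smul (α := Ω) fun c => (h c).trans (one_smul G c).symm))
  by_cases huniv : ∀ c : Ω, c ∈ orbit (P : Subgroup G) a
  · refine hall fun c hc => hnotfix fun d => fixes_orbit z hzc hc ?_
    rw [orbit_eq_iff.mpr (huniv c)]; exact huniv d
  obtain ⟨b, hb⟩ := not_forall.mp huniv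
  have hdisj : Disjoint (orbit (P : Subgroup G) a) (orbit (P : Subgroup G) b) := by
    rw [Set.disjoint_left]
    intro c h1 h2
    apply hb
    rw [← orbit_eq_iff.mpr h1, orbit_eq_iff.mpr h2]
    exact mem_orbit_self b
  have hunion := Set.ncard_union_eq hdisj (Set.toFinite _) (Set.toFinite _)
  have hle : (orbit (P : Subgroup G) a ∪ orbit (P : Subgroup G) b).ncard ≤ 2 * p ^ 2 :=
    hcard ▸ Set.ncard_le_card _
  have hA := hd a
  have hB := hd b
  have hcov : ∀ c : Ω, c ∈ orbit (P : Subgroup G) a ∨ c ∈ orbit (P : Subgroup G) b := by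
    intro c
    have h1 : orbit (P : Subgroup G) a ∪ orbit (P : Subgroup G) b = Set.univ := by
      refine Set.eq_of_subset_of_ncard_le (Set.subset_univ _) ?_ (Set.toFinite _)
      rw [Set.ncard_univ, hcard, hunion]; omega
    exact (Set.ext_iff.mp h1 c).mpr (Set.mem_univ c)
  have ha2 : (stabilizer (P : Subgroup G) a).index = p ^ 2 := by rw [index_stabilizer]; omega
  have hb2 : (stabilizer (P : Subgroup G) b).index = p ^ 2 := by rw [index_stabilizer]; omega
  by_cases hza : z • a = a
  · by_cases hzb : z • b = b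
    · exact absurd (fun c => (hcov c).elim (fixes_orbit z hzc hza) (fixes_orbit z hzc hzb)) hnotfix
    · refine aux (P : Subgroup G) P.isPGroup' hcl b a hb2 ha2 (fun c => (hcov c).symm) ?_ z hzc hzp hzb hza
      intro h
      exact hb (by rw [orbit_eq_iff.mpr h]; exact mem_orbit_self b)
  · by_cases hzb : z • b = b
    · exact aux (P : Subgroup G) P.isPGroup' hcl a b ha2 hb2 hcov hb z hzc hzp hza hzb
    · refine hall fun c hc => ?_
      rcases hcov c with h | h
      · exact hza (fixes_orbit z hzc hc (by rw [orbit_eq_iff.mpr h]; exact mem_orbit_self a))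
      · exact hzb (fixes_orbit z hzc hc (by rw [orbit_eq_iff.mpr h]; exact mem_orbit_self b))

end Cfsg.Agent.TwoClosedTwiceSquare
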