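import Cfsg.Agent.S5318

/-!
Sylow `2`-subgroups of subgroups `U` of `GL₂` containing enough of the torus normaliser, and their
normalisers.
-/

set_option autoImplicit false

namespace Cfsg.Agent.TwoFusionGL2

open Matrix Cfsg.Agent.S5318
open scoped MatrixGroups

variable {F : Type*} [Field F] [Finite F]

local notation "G2" => GL (Fin 2) F

/-- `U` contains `diag(1,-1)` and a torus element of `2`-power order with nonscalar square. -/
def Big (U : Subgroup (GL (Fin 2) F)) : Prop :=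
  sM ∈ U ∧ ∃ c : GL (Fin 2) F, c ∈ D F ∧ c ∈ U ∧ c.1 0 1 ≠ 0 ∧ (c * c).1 0 1 ≠ 0

/-- The normaliser of `P` lies in the normaliser of the torus. -/
theorem rot_of_normalizes (h2 : (2 : F) ≠ 0) {U : Subgroup G2} (hU : Big U) {y : G2}
    (hy : ∀ x ∈ P F ⊓ U, y * x * y⁻¹ ∈ P F) :
    Rot y ∨ Rot (sM * y) := by
  obtain ⟨c, hcD, hcU, hb, hne⟩ := hU.2
  have hc := hcD.1
  set x := y * c * y⁻¹ with hx
  have hxP : x ∈ P F := hy c ⟨Or.inl hcD, hcU⟩
  have hxy : x * y = y * c := by rw [hx, inv_mul_cancel_right]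
  have hxr : Rot x := by
    rcases hxP with h | h
    · exact h.1
    · exfalso
      obtain ⟨h1, h2'⟩ := h.1
      simp [sM] at h1 h2'
      have hyy : x * x * y = y * (c * c) := by
        rw [mul_assoc, hxy, ← mul_assoc, hxy, mul_assoc]
      have e0 := congrArg (fun X : G2 => X.1 0 0) hyy
      have e1 := congrArg (fun X : G2 => X.1 0 1) hyy
      have e2 := congrArg (fun X : G2 => X.1 1 0) hyy
      have e3 := congrArg (fun X : G2 => X.1 1 1) hyy
      simp only [mul00, mul01, mul10, mul11, hc.1, hc.2, h1, h2'] at e0 e1 e2 e3 hne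
      apply hne
      have hdet := det_ne y
      refine (mul_eq_zero.1 ?_).resolve_left hdet
      linear_combination y.1 0 1 * e3 - y.1 1 1 * e1
  -- same trace and determinant
  have e0 := congrArg (fun X : G2 => X.1 0 0) hxy
  have e1 := congrArg (fun X : G2 => X.1 0 1) hxy
  have e2 := congrArg (fun X : G2 => X.1 1 0) hxy
  have e3 := congrArg (fun X : G2 => X.1 1 1) hxy
  obtain ⟨x1, x2⟩ := hxr
  simp only [mul00, mul01, mul10, mul11, hc.1, hc.2, x1, x2] at e0 e1 e2 e3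
  have hdet := det_ne y
  have htr : x.1 1 1 = c.1 1 1 := by
    refine mul_left_cancel₀ h2 (mul_left_cancel₀ hdet ?_)
    linear_combination y.1 1 1 * e0 - y.1 1 0 * e1 - y.1 0 1 * e2 + y.1 0 0 * e3
  have hsq : x.1 0 1 ^ 2 = c.1 0 1 ^ 2 := by
    have := congrArg (fun X : G2 => X.1.det) hxy
    simp only [Units.val_mul, Matrix.det_mul] at this
    have hd : x.1.det = c.1.det :=
      mul_right_cancel₀ (GeneralLinearGroup.det_ne_zero y) (this.trans (mul_comm _ _))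
    rw [Matrix.det_fin_two, Matrix.det_fin_two, x1, x2, hc.1, hc.2, htr] at hd
    linear_combination hd
  rcases sq_eq_sq_iff_eq_or_eq_neg.1 hsq with h | h
  · refine Or.inl (rot_of_comm hc hb ?_)
    rw [← hxy]
    congr 1
    exact ext2 (by rw [x1, htr, hc.1]) h (by rw [x2, h, hc.2]) htr
  · refine Or.inr (rot_of_comm hc hb ?_)
    obtain ⟨s0, s1, s2, s3⟩ := conj_sM_entries (A := c)
    have hxs : x = sM * c * sM :=
      ext2 (by rw [x1, htr, s0, hc.1]) (by rw [h, s1]) (by rw [x2, h, s2, hc.2]) (by rw [htr, s3])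
    rw [mul_assoc, ← hxy, hxs]
    simp only [mul_assoc]
    rw [← mul_assoc sM sM, sM_sq, one_mul]

theorem conj_quot_mem (h2 : (2 : F) ≠ 0) {U : Subgroup G2} (hU : Big U) {t : G2} (ht : Rot t)
    (hy : ∀ x ∈ P F ⊓ U, t * x * t⁻¹ ∈ P F) : sM * t * sM * t⁻¹ ∈ D F := by
  rcases hy sM ⟨sM_mem_P, hU.1⟩ with h | h
  · exfalso
    refine not_rot_sM h2 ?_
    have h1 := h.1
    have : t * sM * t⁻¹ * t = t * sM := by group
    rw [h1.comm ht] at this
    rwa [← mul_left_cancel this]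
  · simpa [mul_assoc] using h

/-- `P` is a Sylow `2`-subgroup of `GL₂`. -/
theorem maximal_P (h2 : (2 : F) ≠ 0) {U : Subgroup G2} (hU : Big U) {Q : Subgroup G2}
    (hQ : IsPGroup 2 Q) (hQU : Q ≤ U) (hle : P F ⊓ U ≤ Q) : Q = P F ⊓ U := by
  by_contra hne
  have : Fact (Nat.Prime 2) := ⟨Nat.prime_two⟩
  have hnil := hQ.isNilpotent
  have hlt : (P F ⊓ U).subgroupOf Q < ⊤ := by
    rw [lt_top_iff_ne_top, Ne, Subgroup.subgroupOf_eq_top]
    exact fun h => hne (le_antisymm h hle)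
  obtain ⟨y, hyn, hyP⟩ := SetLike.exists_of_lt (Group.normalizerCondition_of_isNilpotent _ hlt)
  have hy : ∀ x ∈ P F ⊓ U, y.1 * x * y.1⁻¹ ∈ P F := fun x hx =>
    ((Subgroup.mem_normalizer_iff.1 hyn ⟨x, hle hx⟩).1 hx).1
  obtain ⟨e, he⟩ := hQ y
  have he' : y.1 ^ 2 ^ e = 1 := congrArg Subtype.val he
  apply hyP
  rw [Subgroup.mem_subgroupOf]
  refine ⟨?_, hQU y.2⟩
  rcases rot_of_normalizes h2 hU hy with hr | hr
  · exact Or.inl ⟨hr, e, he'⟩
  · set t := sM * y.1 with ht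
    have hyt : y.1 = sM * t := by rw [ht, ← mul_assoc, sM_sq, one_mul]
    have hyn' : ∀ x ∈ P F ⊓ U, t * x * t⁻¹ ∈ P F := fun x hx => by
      rw [ht, _root_.mul_inv_rev, mul_assoc sM, mul_assoc sM, ← mul_assoc (y.1 * x)]
      exact mul_mem sM_mem_P (mul_mem (hy x hx) ((P F).inv_mem sM_mem_P))
    obtain ⟨hur, f, hf⟩ := conj_quot_mem h2 hU hr hyn'
    set u := sM * t * sM * t⁻¹ with hu
    have hyy : y.1 * y.1 = u * (t * t) := by
      rw [hyt, hu]
      simp only [mul_assoc, inv_mul_cancel_left]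
    refine Or.inr ?_
    rw [← ht]
    refine ⟨hr, e + f + 1, ?_⟩
    have h1 : (y.1 * y.1) ^ 2 ^ (e + f) = 1 := by
      rw [← pow_two, pow_add, ← pow_mul, ← mul_assoc, mul_comm 2, mul_assoc, pow_mul, he', one_pow]
    rw [hyy, Commute.mul_pow (hur.comm (hr.mul hr)), pow_add, mul_comm (2 ^ e), pow_mul u, hf,
      one_pow, one_mul] at h1
    rw [pow_succ', pow_mul, pow_two, pow_add, mul_comm]
    exact h1

/-- The normaliser of `P` is `P` times its centraliser. -/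
theorem normalizer_P (h2 : (2 : F) ≠ 0) {U : Subgroup G2} (hU : Big U) {y : G2} (hyU : y ∈ U)
    (hy : ∀ x ∈ P F ⊓ U, y * x * y⁻¹ ∈ P F) {H : Subgroup G2} (hPH : P F ⊓ U ≤ H)
    (hCH : ∀ t ∈ U, (∀ x ∈ P F ⊓ U, x * t = t * x) → t ∈ H) : y ∈ H := by
  suffices ∀ t : G2, t ∈ U → Rot t → (∀ x ∈ P F ⊓ U, t * x * t⁻¹ ∈ P F) → t ∈ H by
    rcases rot_of_normalizes h2 hU hy with hr | hr
    · exact this y hyU hr hy
    · have h := this _ (mul_mem hU.1 hyU) hr fun x hx => by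
        rw [_root_.mul_inv_rev, mul_assoc sM, mul_assoc sM, ← mul_assoc (y * x)]
        exact mul_mem sM_mem_P (mul_mem (hy x hx) ((P F).inv_mem sM_mem_P))
      rw [show y = sM * (sM * y) by rw [← mul_assoc, sM_sq, one_mul]]
      exact mul_mem (hPH ⟨sM_mem_P, hU.1⟩) h
  intro t htU ht htn
  obtain ⟨hur, f, hf⟩ := conj_quot_mem h2 hU ht htn
  set u := sM * t * sM * t⁻¹ with hu
  have hc : t ^ 2 ^ f ∈ H := by
    refine hCH _ (pow_mem htU _) fun x hx => ?_
    have hs : sM * t ^ 2 ^ f * sM⁻¹ = t ^ 2 ^ f := by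
      rw [← conj_pow, inv_eq_of_mul_eq_one_right sM_sq,
        show sM * t * sM = u * t by rw [hu, inv_mul_cancel_right],
        Commute.mul_pow (hur.comm ht), hf, one_mul]
    rcases hx.1 with hx | hx
    · exact hx.1.comm (ht.pow _)
    · rw [show x = sM * (sM * x) by rw [← mul_assoc, sM_sq, one_mul], mul_assoc,
        hx.1.comm (ht.pow _), ← mul_assoc, ← mul_assoc (t ^ 2 ^ f)]
      congr 1
      exact mul_inv_eq_iff_eq_mul.1 hs
  obtain ⟨k, m, hm, he⟩ := Nat.exists_eq_two_pow_mul_odd (orderOf_pos t).ne'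
  have hd : t ^ m ∈ H := hPH ⟨Or.inl ⟨ht.pow m, k, by
    rw [← pow_mul, mul_comm, ← he, pow_orderOf_eq_one]⟩, pow_mem htU _⟩
  have hg : Nat.gcd (2 ^ f) m = 1 :=
    (Nat.coprime_two_left.2 hm).pow_left f
  have hbz := Nat.gcd_eq_gcd_ab (2 ^ f) m
  rw [hg] at hbz
  rw [show t = (t ^ 2 ^ f) ^ Nat.gcdA (2 ^ f) m * (t ^ m) ^ Nat.gcdB (2 ^ f) m by
    rw [← zpow_natCast t (2 ^ f), ← zpow_natCast t m, ← _root_.zpow_mul, ← _root_.zpow_mul,
      ← _root_.zpow_add, ← hbz]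
    simp]
  exact mul_mem (H.zpow_mem hc _) (H.zpow_mem hd _)

/-- The only central involution of `P ⊓ U` is `-1`. -/
theorem central_invol (h2 : (2 : F) ≠ 0) {U : Subgroup G2} (hU : Big U) {B : G2}
    (hc : ∀ x ∈ P F ⊓ U, x * B = B * x) (hB : B * B = 1) : B = 1 ∨ B = nM := by
  obtain ⟨c, hcD, hcU, hb, -⟩ := hU.2
  obtain ⟨r1, r2⟩ := rot_of_comm hcD.1 hb (hc c ⟨Or.inl hcD, hcU⟩).symm
  have e := congrArg (fun X : G2 => X.1 0 1) (hc sM ⟨sM_mem_P, hU.1⟩)
  simp [sM] at e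
  have hb0 : B.1 0 1 = 0 :=
    (mul_eq_zero.1 (show (2 : F) * B.1 0 1 = 0 by linear_combination e)).resolve_left h2
  have e' := congrArg (fun X : G2 => X.1 0 0) hB
  simp [r1, r2, hb0] at e'
  rcases mul_self_eq_one_iff.1 e' with h | h
  · exact Or.inl (ext2 (by simp [r1, h]) (by simp [hb0]) (by simp [r2, hb0]) (by simp [h]))
  · exact Or.inr (ext2 (by simp [nM, r1, h]) (by simp [nM, hb0]) (by simp [nM, r2, hb0])
      (by simp [nM, h]))

end Cfsg.Agent.TwoFusionGL2
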