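import Mathlib
import Cfsg.Agent.S3815
import Cfsg.Agent.Lib.BGFittingUnique
import Cfsg.Agent.Lib.HallSolvable
import Cfsg.Agent.Lib.LocalBasics

/-!
Minimal simple groups without a generating pair: `O_{p'}(C(x)) = 1` for every `p`-element `x ≠ 1`,
so every `p`-local subgroup has trivial `p'`-core.
-/

set_option autoImplicit false
set_option linter.style.haveILetI false

namespace Cfsg.Agent.TwoGen45

open Subgroup

universe u

/-- A non-solvable simple group with solvable proper subgroups and without a generating pair. -/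
structure Hyp (G : Type u) [Group G] : Prop where
  simple : IsSimpleGroup G
  notSolvable : ¬ Group.IsSolvable G
  proper : ∀ H : Subgroup G, H ≠ ⊤ → Group.IsSolvable H
  pair : ∀ a b : G, closure ({a, b} : Set G) ≠ ⊤

variable {G : Type u} [Group G]

theorem Hyp.not_normal (h : Hyp G) {H : Subgroup G} (hH : H ≠ ⊥) (hH' : H ≠ ⊤) : ¬ H.Normal :=
  fun hn => by
    rcases h.simple.eq_bot_or_eq_top_of_normal H hn with e | e
    · exact hH e
    · exact hH' e

theorem Hyp.normalizer_ne_top (h : Hyp G) {H : Subgroup G} (hH : H ≠ ⊥) (hH' : H ≠ ⊤) :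
    normalizer (H : Set G) ≠ ⊤ := fun e => h.not_normal hH hH' (normalizer_eq_top_iff.mp e)

theorem Hyp.ne_top_of_isPGroup (h : Hyp G) [Finite G] {p : ℕ} [Fact p.Prime] {R : Subgroup G}
    (hR : IsPGroup p R) : R ≠ ⊤ := fun e => h.notSolvable (by
  subst e
  haveI : Group.IsSolvable (⊤ : Subgroup G) := CoprimeAction.isSolvable_of_isPGroup hR
  exact Group.isSolvable_of_surjective (f := (Subgroup.topEquiv : (⊤ : Subgroup G) ≃* G).toMonoidHom)
    Subgroup.topEquiv.surjective)

theorem Hyp.centralizer_ne_top (h : Hyp G) [Finite G] {x : G} (hx : x ≠ 1) :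
    centralizer ({x} : Set G) ≠ ⊤ := fun e => by
  have hle : zpowers x ≤ center G := zpowers_le.mpr (mem_center_iff.mpr fun g => by
    have hg : g ∈ centralizer ({x} : Set G) := e ▸ mem_top g
    exact (mem_centralizer_iff.mp hg x rfl).symm)
  rcases h.simple.eq_bot_or_eq_top_of_normal (center G) inferInstance with e1 | e1
  · exact hx (mem_bot.mp (e1 ▸ hle (mem_zpowers x)))
  · exact h.notSolvable (Group.isSolvable_of_comm fun a b =>
      (mem_center_iff.mp (e1 ▸ mem_top b) a))

theorem Hyp.pair_solvable (h : Hyp G) (a b : G) :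
    Group.IsSolvable (closure ({a, b} : Set G)) := h.proper _ (h.pair a b)

/-- `O_{p'}(C(x)) = 1` for a `p`-element `x ≠ 1`. -/
theorem Hyp.core_centralizer (h : Hyp G) [Finite G] {p : ℕ} [hp : Fact p.Prime] {x : G}
    (hx1 : x ≠ 1) {k : ℕ} (hxk : orderOf x = p ^ k) :
    Cfsg.pPrimeCore p (centralizer ({x} : Set G)) = ⊥ := by
  rw [Subgroup.eq_bot_iff_forall]
  rintro ⟨a, haC⟩ ha
  set C := centralizer ({x} : Set G) with hC
  set O := (Cfsg.pPrimeCore p C).map C.subtype with hO
  have haO : a ∈ O := mem_map.mpr ⟨⟨a, haC⟩, ha, rfl⟩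
  have hOcop : (Nat.card O).Coprime p := by
    rw [hO, card_map_of_injective C.subtype_injective]
    exact HallCore.coprime_card_pPrimeCore p C
  haveI := HallCore.pPrimeCore_normal p C
  have hCO : C ≤ normalizer (O : Set G) := LocalBasics.le_normalizer_map_normal C _
  have hcomm : Commute x a := mem_centralizer_iff.mp haC x rfl
  have hao : (orderOf a).Coprime p := hOcop.coprime_dvd_left (orderOf_dvd_natCard O haO)
  have hcop : (orderOf x).Coprime (orderOf a) := hxk ▸ (hao.symm.pow_left k)
  suffices hmemG : a ∈ Cfsg.pPrimeCore p G by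
    haveI hnG := HallCore.pPrimeCore_normal p G
    rcases h.simple.eq_bot_or_eq_top_of_normal (Cfsg.pPrimeCore p G) inferInstance with e | e
    · exact Subtype.ext (mem_bot.mp (e ▸ hmemG))
    · exfalso
      have hd : ¬ p ∣ Nat.card G := by
        rw [← card_top (G := G), ← e]
        exact HallCore.not_dvd_card_pPrimeCore p G
      refine hd (dvd_trans ?_ (orderOf_dvd_natCard x))
      rw [hxk]
      refine dvd_pow_self p ?_
      rintro rfl
      exact hx1 (orderOf_eq_one_iff.mp (by simpa using hxk))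
  refine S3815.result a hao fun g hg => ?_
  set L := closure ({x * a, g} : Set G) with hL
  have hxa : x * a ∈ L := subset_closure (by simp)
  have hgL : g ∈ L := subset_closure (by simp)
  have hxL : x ∈ L := by
    obtain ⟨i, hi⟩ := exists_pow_eq_self_of_coprime hcop.symm
    have : (x * a) ^ (orderOf a * i) ∈ L := pow_mem hxa _
    rwa [hcomm.mul_pow, pow_mul, pow_mul a, pow_orderOf_eq_one, one_pow, mul_one, hi] at this
  have haL : a ∈ L := by
    have := mul_mem (inv_mem hxL) hxa
    rwa [inv_mul_cancel_left] at this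
  haveI : Group.IsSolvable L := h.pair_solvable _ _
  set R : Subgroup L := (zpowers x).subgroupOf L with hR
  set Y : Subgroup L := O.subgroupOf L with hY
  have hRp : IsPGroup p R := by
    refine IsPGroup.comap_subtype (K := L) ?_
    exact IsPGroup.of_card (n := k) (by rw [Nat.card_zpowers, hxk])
  have hYc : (Nat.card Y).Coprime p := hOcop.coprime_dvd_left (HallCore.card_subgroupOf_dvd O L)
  have hsub : ∀ y : L, (y : G) ∈ O → (y : G) ∈ C := fun y hy => map_subtype_le _ hy
  have hYR : Y ≤ normalizer (R : Set L) := by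
    refine fun y hy => centralizer_le_normalizer _ (mem_centralizer_iff.mpr fun r hr => ?_)
    obtain ⟨i, hi⟩ := mem_zpowers_iff.mp (show (r : G) ∈ zpowers x from hr)
    refine Subtype.ext ?_
    rw [coe_mul, coe_mul, ← hi]
    exact ((show Commute x (y : G) from mem_centralizer_iff.mp (hsub y hy) x rfl).zpow_left i).eq
  have hRY : R ≤ normalizer (Y : Set L) := by
    refine LocalBasics.le_normalizer_of_conj fun r hr y hy => ?_
    obtain ⟨i, hi⟩ := mem_zpowers_iff.mp (show (r : G) ∈ zpowers x from hr)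
    show ((r * y * r⁻¹ : L) : G) ∈ O
    have hc : Commute x (y : G) := mem_centralizer_iff.mp (hsub y hy) x rfl
    rw [coe_mul, coe_mul, coe_inv, ← hi, (hc.zpow_left i).eq, mul_inv_cancel_right]
    exact hy
  have hCY : centralizer (R : Set L) ≤ normalizer (Y : Set L) := by
    refine LocalBasics.le_normalizer_of_conj fun r hr y hy => ?_
    have hrC : (r : G) ∈ C := mem_centralizer_iff.mpr fun z hz => by
      rw [Set.mem_singleton_iff] at hz
      subst hz
      exact congrArg Subtype.val (mem_centralizer_iff.mp hr ⟨z, hxL⟩ (mem_zpowers z))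
    show ((r * y * r⁻¹ : L) : G) ∈ O
    rw [coe_mul, coe_mul, coe_inv]
    exact (mem_normalizer_iff.mp (hCO hrC) _).mp hy
  have haY : (⟨a, haL⟩ : L) ∈ Cfsg.pPrimeCore p L :=
    BGFittingUnique.le_pPrimeCore_of_local hRp hYc hYR hRY hCY (show a ∈ O from haO)
  haveI := HallCore.pPrimeCore_normal p L
  set gl : L := ⟨g, hgL⟩
  have hq : (((⟨a, haL⟩ : L) * gl) ^ orderOf g) ∈ Cfsg.pPrimeCore p L := by
    rw [← QuotientGroup.eq_one_iff, QuotientGroup.mk_pow, QuotientGroup.mk_mul,
      (QuotientGroup.eq_one_iff _).mpr haY, one_mul, ← QuotientGroup.mk_pow, QuotientGroup.eq_one_iff]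
    have : gl ^ orderOf g = 1 := Subtype.ext (by rw [coe_pow, pow_orderOf_eq_one]; rfl)
    rw [this]
    exact one_mem _
  have h3 : orderOf ((⟨a, haL⟩ : L) * gl) ∣ orderOf g * Nat.card (Cfsg.pPrimeCore p L) := by
    rw [orderOf_dvd_iff_pow_eq_one, pow_mul]
    exact orderOf_dvd_iff_pow_eq_one.mp (orderOf_dvd_natCard _ hq)
  rw [← orderOf_coe] at h3
  exact ((hg.mul_left (HallCore.coprime_card_pPrimeCore p L)).coprime_dvd_left h3)

/-- A `p'`-group normalised by a `p`-group `R ≠ 1` and by `C(R)`, and normalising `R`, is trivial. -/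
theorem Hyp.eq_bot_of_local (h : Hyp G) [Finite G] {p : ℕ} [hp : Fact p.Prime] {R Y : Subgroup G}
    (hR : IsPGroup p R) (hR1 : R ≠ ⊥) (hY : (Nat.card Y).Coprime p)
    (hYR : Y ≤ normalizer (R : Set G)) (hRY : R ≤ normalizer (Y : Set G))
    (hCY : centralizer (R : Set G) ≤ normalizer (Y : Set G)) : Y = ⊥ := by
  have hYcR : ∀ y ∈ Y, ∀ r ∈ R, r * y = y * r := by
    intro y hy r hr
    have h1 : r * y * r⁻¹ * y⁻¹ ∈ R ⊓ Y := by
      refine mem_inf.mpr ⟨?_, mul_mem ((mem_normalizer_iff.mp (hRY hr) y).mp hy) (inv_mem hy)⟩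
      rw [mul_assoc, mul_assoc, ← mul_assoc y]
      exact mul_mem hr ((mem_normalizer_iff.mp (hYR hy) _).mp (inv_mem hr))
    obtain ⟨n, hn⟩ := IsPGroup.iff_card.mp hR
    rw [HallCore.disjoint_of_coprime_card (by rw [hn]; exact (hY.symm.pow_left n)), mem_bot,
      mul_inv_eq_one, mul_inv_eq_iff_eq_mul] at h1
    exact h1
  haveI : Nontrivial R := (nontrivial_iff_ne_bot R).mpr hR1
  haveI := hR.center_nontrivial
  obtain ⟨⟨z, hz⟩, hz1⟩ := exists_ne (1 : Subgroup.center R)
  set x : G := (z : G) with hx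
  have hx1 : x ≠ 1 := fun e => hz1 (Subtype.ext (Subtype.ext e))
  obtain ⟨k, hk⟩ := IsPGroup.iff_orderOf.mp hR z
  rw [← orderOf_coe] at hk
  set L := centralizer ({x} : Set G) with hL
  haveI : Group.IsSolvable L := h.proper _ (h.centralizer_ne_top hx1)
  have hYL : Y ≤ L := fun y hy => mem_centralizer_iff.mpr fun w hw => by
    rw [Set.mem_singleton_iff] at hw
    subst hw
    exact hYcR y hy z z.2
  have hRL : R ≤ L := fun r hr => mem_centralizer_iff.mpr fun w hw => by
    rw [Set.mem_singleton_iff] at hw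
    subst hw
    exact (congrArg Subtype.val (mem_center_iff.mp hz ⟨r, hr⟩)).symm
  have key : Y.subgroupOf L ≤ Cfsg.pPrimeCore p L := by
    refine BGFittingUnique.le_pPrimeCore_of_local (R := R.subgroupOf L) hR.comap_subtype
      (hY.coprime_dvd_left (HallCore.card_subgroupOf_dvd Y L)) ?_ ?_ ?_
    · refine LocalBasics.le_normalizer_of_conj fun y hy r hr => ?_
      exact (mem_normalizer_iff.mp (hYR hy) _).mp hr
    · refine LocalBasics.le_normalizer_of_conj fun r hr y hy => ?_
      exact (mem_normalizer_iff.mp (hRY hr) _).mp hy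
    · refine LocalBasics.le_normalizer_of_conj fun c hc y hy => ?_
      refine (mem_normalizer_iff.mp (hCY (mem_centralizer_iff.mpr fun r hr => ?_)) _).mp hy
      exact congrArg Subtype.val (mem_centralizer_iff.mp hc ⟨r, hRL hr⟩ hr)
  rw [h.core_centralizer hx1 hk, le_bot_iff, subgroupOf_eq_bot, disjoint_iff, inf_eq_left.mpr hYL]
    at key
  exact key

/-- A `p`-local subgroup has trivial `p'`-core. -/
theorem Hyp.core_local (h : Hyp G) [Finite G] {p : ℕ} [hp : Fact p.Prime] {R H : Subgroup G}
    (hR : IsPGroup p R) (hR1 : R ≠ ⊥) (hRH : R ≤ H) (hH : H ≤ normalizer (R : Set G))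
    (hC : centralizer (R : Set G) ≤ H) : Cfsg.pPrimeCore p H = ⊥ := by
  haveI := HallCore.pPrimeCore_normal p H
  have hn : H ≤ normalizer ((Cfsg.pPrimeCore p H).map H.subtype : Set G) :=
    LocalBasics.le_normalizer_map_normal H _
  have := h.eq_bot_of_local hR hR1 (Y := (Cfsg.pPrimeCore p H).map H.subtype)
    (by rw [card_map_of_injective H.subtype_injective]; exact HallCore.coprime_card_pPrimeCore p H)
    ((map_subtype_le _).trans hH) (hRH.trans hn) (hC.trans hn)
  exact (Subgroup.map_eq_bot_iff_of_injective _ H.subtype_injective).mp this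

/-- `N(R)` for a `p`-group `R ≠ 1`. -/
theorem Hyp.core_normalizer (h : Hyp G) [Finite G] {p : ℕ} [hp : Fact p.Prime] {R : Subgroup G}
    (hR : IsPGroup p R) (hR1 : R ≠ ⊥) :
    Cfsg.pPrimeCore p (normalizer (R : Set G)) = ⊥ :=
  h.core_local hR hR1 le_normalizer le_rfl (centralizer_le_normalizer _)

/-- A maximal subgroup with a normal `p`-subgroup is the normalizer of that subgroup. -/
theorem Hyp.coatom_eq_normalizer (h : Hyp G) [Finite G] {p : ℕ} [hp : Fact p.Prime]
    {R H : Subgroup G} (hH : IsCoatom H) (hR : IsPGroup p R) (hR1 : R ≠ ⊥)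
    (hRH : H ≤ normalizer (R : Set G)) : H = normalizer (R : Set G) := by
  rcases eq_or_lt_of_le hRH with e | e
  · exact e
  · exact absurd (hH.2 _ e) (h.normalizer_ne_top hR1 (h.ne_top_of_isPGroup hR))

end Cfsg.Agent.TwoGen45
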