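import Mathlib
import Cfsg.Agent.Lib.TwoGenCore45
import Cfsg.Agent.Lib.QuadraticFree
import Cfsg.Agent.Lib.FixHalfGroup57
import Cfsg.Agent.Lib.GlaubermanZJ

/-!
For `p ≥ 5` the normalizer of `Z(J(S))` of a minimal simple group without generating pair is
strongly `p`-embedded.
-/

set_option autoImplicit false
set_option linter.style.haveILetI false

namespace Cfsg.Agent.TwoGen45

open Subgroup GlaubermanZJ

universe u

variable {G : Type u} [Group G]

/-- Glauberman's theorem in a solvable subgroup with trivial `p'`-core. -/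
theorem le_normalizer_thomY [Finite G] {p : ℕ} [hp : Fact p.Prime] (hp5 : 5 ≤ p) {H : Subgroup G}
    [Group.IsSolvable H] (hO : Cfsg.pPrimeCore p H = ⊥) (T : Sylow p H) :
    H ≤ normalizer (thomY 0 ((T : Subgroup H).map H.subtype) : Set G) := by
  have hc : centralizer (Cfsg.pCore p H : Set H) ≤ Cfsg.pCore p H :=
    HallSolvable.centralizer_pCore_le (HallSolvable.isPSolvable_of_solvable p) hO
  have hn := thomY_normal (n := 0) (G := H) (by omega : p ≠ 2) (Or.inl rfl)
    (fun B _ hB => QuadraticFree.isPStableOn_all_of_sl2_free (by omega : p ≠ 2)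
      (FixHalfGroup57.sl2_free hp5) B hB)
    hc T (T : Subgroup H) ⟨le_rfl, fun _ _ _ h => h⟩
  haveI := hn
  rw [thomY_map H.subtype_injective]
  exact LocalBasics.le_normalizer_map_normal H _

/-- The strongly embedded property. -/
def Embedded (p : ℕ) (M : Subgroup G) : Prop :=
  M ≠ ⊤ ∧ ∀ T : Subgroup G, T ≤ M → IsPGroup p T → T ≠ ⊥ → normalizer (T : Set G) ≤ M

theorem Hyp.exists_embedded (h : Hyp G) [Finite G] {p : ℕ} [hp : Fact p.Prime] (hp5 : 5 ≤ p)
    (hpG : p ∣ Nat.card G) :
    ∃ M : Subgroup G, Embedded p M ∧ ∃ S : Sylow p G, (S : Subgroup G) ≤ M := by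
  classical
  obtain ⟨S⟩ : Nonempty (Sylow p G) := inferInstance
  have hS1 : (S : Subgroup G) ≠ ⊥ := S.ne_bot_of_dvd_card hpG
  have hYne : ∀ (D : Subgroup G), IsPGroup p D → D ≠ ⊥ → thomY 0 D ≠ ⊥ :=
    fun D hD hD1 => thomY_ne_bot (Or.inl rfl) hD hD1
  set M : Subgroup G := normalizer (thomY 0 (S : Subgroup G) : Set G) with hMdef
  have hSM : (S : Subgroup G) ≤ M := le_normalizer.trans (normalizer_le_thomY _)
  have hMtop : M ≠ ⊤ := h.normalizer_ne_top (hYne _ S.isPGroup' hS1)
    (h.ne_top_of_isPGroup (S.isPGroup'.to_le (thomY_le _)))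
  -- every Sylow subgroup inside `M` defines the same `M`
  have hMsyl : ∀ S2 : Sylow p G, (S2 : Subgroup G) ≤ M →
      normalizer (thomY 0 (S2 : Subgroup G) : Set G) = M := by
    intro S2 hS2
    obtain ⟨m, hm⟩ := MulAction.exists_smul_eq M (S.subtype hSM) (S2.subtype hS2)
    have h2 : (S2 : Subgroup G) = (S : Subgroup G).map (MulAut.conj (m : G)).toMonoidHom := by
      have h4 : ((S2.subtype hS2 : Sylow p M) : Subgroup M) =
          (((m • S.subtype hSM : Sylow p M)) : Subgroup M) := by rw [hm]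
      rw [Sylow.coe_subgroup_smul, Sylow.coe_subtype, Sylow.coe_subtype] at h4
      have h5 := congrArg (Subgroup.map M.subtype) h4
      rw [map_subgroupOf_eq_of_le hS2] at h5
      rw [h5]
      ext g
      simp only [mem_map, Subgroup.mem_pointwise_smul_iff_inv_smul_mem, MulEquiv.coe_toMonoidHom,
        MulAut.conj_apply]
      constructor
      · rintro ⟨w, hw, rfl⟩
        refine ⟨_, mem_subgroupOf.mp hw, ?_⟩
        simp [MulAut.smul_def, mul_assoc]
      · rintro ⟨w, hw, rfl⟩
        refine ⟨⟨(m : G) * w * (m : G)⁻¹, mul_mem (mul_mem m.2 (hSM hw)) (inv_mem m.2)⟩, ?_, rfl⟩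
        rw [mem_subgroupOf]
        simpa [MulAut.smul_def, mul_assoc] using hw
    have h3 : thomY 0 (S2 : Subgroup G) =
        (thomY 0 (S : Subgroup G)).map (MulAut.conj (m : G)).toMonoidHom := by
      rw [h2]; exact thomY_map (MulAut.conj (m : G)).injective _
    have h6 : (thomY 0 (S : Subgroup G)).map (MulAut.conj (m : G)).toMonoidHom =
        thomY 0 (S : Subgroup G) := TransferAlperin.cj_eq_self (hMdef ▸ m.2)
    rw [h3, h6]
  refine ⟨M, ⟨hMtop, ?_⟩, S, hSM⟩
  -- downward induction on a largest `p`-subgroup of `M ⊓ N(T)`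
  have key : ∀ (k : ℕ) (T U : Subgroup G), T ≤ M → IsPGroup p T → T ≠ ⊥ → IsPGroup p U →
      U ≤ M → U ≤ normalizer (T : Set G) → k = Nat.card G - Nat.card U →
      normalizer (T : Set G) ≤ M := by
    intro k
    induction k using Nat.strong_induction_on with
    | _ k ih =>
    intro T U hTM hT hT1 hU hUM hUN hk
    haveI : Group.IsSolvable (normalizer (T : Set G)) :=
      h.proper _ (h.normalizer_ne_top hT1 (h.ne_top_of_isPGroup hT))
    set K := normalizer (T : Set G) with hK
    -- a Sylow subgroup of `M ⊓ K` containing `U`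
    obtain ⟨W, hW⟩ := IsPGroup.exists_le_sylow (G := (M ⊓ K : Subgroup G))
      (hU.comap_subtype (K := M ⊓ K))
    set V := (W : Subgroup (M ⊓ K : Subgroup G)).map (M ⊓ K : Subgroup G).subtype with hV
    have hVMK : V ≤ M ⊓ K := map_subtype_le _
    have hUV : U ≤ V := fun u hu =>
      mem_map.mpr ⟨⟨u, mem_inf.mpr ⟨hUM hu, hUN hu⟩⟩, hW (mem_subgroupOf.mpr hu), rfl⟩
    have hVp : IsPGroup p V := W.isPGroup'.map _
    rcases lt_or_eq_of_le (card_le_of_le hUV) with hlt | heq
    · refine ih (Nat.card G - Nat.card V) ?_ T V hTM hT hT1 hVp (hVMK.trans inf_le_left)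
        (hVMK.trans inf_le_right) rfl
      have := Subgroup.card_le_card_group V
      omega
    -- `T ≤ U`, so `U ≠ ⊥`
    have hV1 : V ≠ ⊥ := by
      intro hbot
      have hTTK : T ≤ M ⊓ K := le_inf hTM le_normalizer
      haveI hTn : (T.subgroupOf (M ⊓ K)).Normal :=
        LocalBasics.normal_subgroupOf_of_le (inf_le_right)
      have hle : T.subgroupOf (M ⊓ K) ≤ (W : Subgroup (M ⊓ K : Subgroup G)) :=
        (HallCore.le_pCore (N := T.subgroupOf (M ⊓ K)) (hN := hTn) hT.comap_subtype).trans (HallCore.pCore_le_sylow W)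
      refine hT1 (le_bot_iff.mp (hbot ▸ fun t ht => ?_))
      exact mem_map.mpr ⟨⟨t, hTTK ht⟩, hle (mem_subgroupOf.mpr ht), rfl⟩
    have hUeq : U = V := Subgroup.eq_of_le_of_card_ge hUV heq.ge
    subst hUeq
    -- a Sylow subgroup of `G` inside `M` containing `V`
    obtain ⟨W2, hW2⟩ := IsPGroup.exists_le_sylow (G := M) (hVp.comap_subtype (K := M))
    obtain ⟨S2, hS2⟩ := IsPGroup.exists_le_sylow (W2.isPGroup'.map M.subtype)
    obtain ⟨S3, hS3M, hS3V⟩ : ∃ S3 : Sylow p G, (S3 : Subgroup G) ≤ M ∧ V ≤ (S3 : Subgroup G) := by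
      obtain ⟨m, hm⟩ := MulAction.exists_smul_eq M (S.subtype hSM) W2
      refine ⟨(m : G) • S, ?_, ?_⟩
      · rw [Sylow.coe_subgroup_smul]
        rintro _ ⟨w, hw, rfl⟩
        simpa [MulAut.smul_def] using mul_mem (mul_mem m.2 (hSM hw)) (inv_mem m.2)
      · intro v hv
        have hv2 : (⟨v, hVMK.trans inf_le_left hv⟩ : M) ∈ (W2 : Subgroup M) := hW2 (mem_subgroupOf.mpr hv)
        rw [← hm, Sylow.coe_subgroup_smul, Subgroup.mem_pointwise_smul_iff_inv_smul_mem] at hv2
        rw [Sylow.coe_subgroup_smul, Subgroup.mem_pointwise_smul_iff_inv_smul_mem]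
        simpa [MulAut.smul_def, mem_subgroupOf] using hv2
    by_cases hfull : V = (S3 : Subgroup G)
    · -- a full Sylow subgroup
      have hVK : ∀ X : Sylow p K, V.subgroupOf K ≤ (X : Subgroup K) →
          (X : Subgroup K).map K.subtype = V := by
        intro X hX
        refine (Subgroup.eq_of_le_of_card_ge ?_ ?_).symm
        · intro v hv
          exact mem_map.mpr ⟨⟨v, hVMK.trans inf_le_right hv⟩, hX (mem_subgroupOf.mpr hv), rfl⟩
        · rw [hfull]
          obtain ⟨X', hX'⟩ := IsPGroup.exists_le_sylow (X.isPGroup'.map K.subtype)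
          calc Nat.card ((X : Subgroup K).map K.subtype) ≤ Nat.card (X' : Subgroup G) :=
                card_le_of_le hX'
            _ = Nat.card (S3 : Subgroup G) := by
                rw [Sylow.card_eq_multiplicity, Sylow.card_eq_multiplicity]
      obtain ⟨X, hX⟩ := IsPGroup.exists_le_sylow (G := K) (hVp.comap_subtype (K := K))
      have := le_normalizer_thomY hp5 (h.core_normalizer hT hT1) X
      rw [hVK X hX, hfull, hMsyl S3 hS3M] at this
      exact this
    -- otherwise `V` is a Sylow subgroup of `K` and `N(Z(J(V))) ≤ M`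
    have hlt3 : Nat.card V < Nat.card ((S3 : Subgroup G) ⊓ normalizer (V : Set G) : Subgroup G) := by
      exact BGTransitivity.card_lt_normalizer_inf S3.isPGroup' (lt_of_le_of_ne hS3V hfull)
    have hrec : ∀ R : Subgroup G, R ≤ M → IsPGroup p R → R ≠ ⊥ →
        ((S3 : Subgroup G) ⊓ normalizer (V : Set G)) ≤ normalizer (R : Set G) → normalizer (R : Set G) ≤ M := by
      intro R hR hRp hR1 hle
      refine ih _ ?_ R ((S3 : Subgroup G) ⊓ normalizer (V : Set G) : Subgroup G) hR hRp hR1
        (S3.isPGroup'.to_le inf_le_left) (inf_le_left.trans hS3M) hle rfl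
      have := Subgroup.card_le_card_group ((S3 : Subgroup G) ⊓ normalizer (V : Set G) : Subgroup G)
      omega
    have hNV : normalizer (V : Set G) ≤ M :=
      hrec V (hVMK.trans inf_le_left) hVp hV1 inf_le_right
    obtain ⟨X, hX⟩ := IsPGroup.exists_le_sylow (G := K) (hVp.comap_subtype (K := K))
    have hXV : (X : Subgroup K).map K.subtype = V := by
      have hVX : V ≤ (X : Subgroup K).map K.subtype := fun v hv =>
        mem_map.mpr ⟨⟨v, hVMK.trans inf_le_right hv⟩, hX (mem_subgroupOf.mpr hv), rfl⟩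
      by_contra hne
      have hlt4 := BGTransitivity.card_lt_normalizer_inf (X.isPGroup'.map K.subtype)
        (lt_of_le_of_ne hVX (Ne.symm hne))
      set Y := (X : Subgroup K).map K.subtype ⊓ normalizer (V : Set G) with hY
      have hYMK : Y ≤ M ⊓ K := le_inf (inf_le_right.trans hNV) (inf_le_left.trans (map_subtype_le _))
      have hYp : IsPGroup p Y := (X.isPGroup'.map K.subtype).to_le inf_le_left
      obtain ⟨W', hW'⟩ := IsPGroup.exists_le_sylow (G := (M ⊓ K : Subgroup G))
        (hYp.comap_subtype (K := M ⊓ K))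
      have h1 : Nat.card Y ≤ Nat.card (W' : Subgroup (M ⊓ K : Subgroup G)) := by
        rw [← Nat.card_congr (Subgroup.subgroupOfEquivOfLe hYMK).toEquiv]
        exact card_le_of_le hW'
      have h2 : Nat.card (W' : Subgroup (M ⊓ K : Subgroup G)) = Nat.card V := by
        rw [hV, card_map_of_injective (M ⊓ K : Subgroup G).subtype_injective,
          Sylow.card_eq_multiplicity, Sylow.card_eq_multiplicity]
      omega
    have h7 := le_normalizer_thomY hp5 (h.core_normalizer hT hT1) X
    rw [hXV] at h7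
    refine h7.trans (hrec _ ((thomY_le V).trans (hVMK.trans inf_le_left))
      (hVp.to_le (thomY_le V)) (hYne V hVp hV1) (inf_le_right.trans (normalizer_le_thomY V)))
  intro T hTM hT hT1
  exact key _ T T hTM hT hT1 hT hTM le_normalizer rfl

end Cfsg.Agent.TwoGen45
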