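import Mathlib
import Cfsg.Agent.Lib.TwoGenEmbedded45
import Cfsg.Agent.Lib.CoprimeGen
import Cfsg.Agent.Lib.PGroupsCyclic

/-!
A strongly `p`-embedded subgroup excludes `p × p` when no pair generates: on a coset `x E` every
line meets the `p'`-elements in no point, one point or all points, and for `x` of order `p` this
forces `x` itself to have order prime to `p`.
-/

set_option autoImplicit false
set_option linter.style.haveILetI false

namespace Cfsg.Agent.TwoGen45

open Subgroup

universe u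

variable {G : Type u} [Group G] {p : ℕ} [hp : Fact p.Prime] {M : Subgroup G}

theorem Embedded.centralizer_le (hM : Embedded p M) [Finite G] {z : G} (hz : z ∈ M) (hz1 : z ≠ 1)
    {k : ℕ} (hzk : orderOf z = p ^ k) : centralizer ({z} : Set G) ≤ M := by
  refine le_trans ?_ (hM.2 (zpowers z) (zpowers_le.mpr hz) ?_ ?_)
  · refine le_trans (fun c hc => ?_) (centralizer_le_normalizer (zpowers z : Set G))
    refine mem_centralizer_iff.mpr fun w hw => ?_
    obtain ⟨i, rfl⟩ := mem_zpowers_iff.mp hw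
    exact ((show Commute z c from mem_centralizer_iff.mp hc z rfl).zpow_left i).eq
  · exact IsPGroup.of_card (n := k) (by rw [Nat.card_zpowers, hzk])
  · exact fun e => hz1 (zpowers_eq_bot.mp e)

/-- A `p`-group containing a nontrivial `p`-element of `M` lies in `M`. -/
theorem Embedded.le_of_mem (hM : Embedded p M) [Finite G] {T : Subgroup G} (hT : IsPGroup p T)
    {e : G} (heT : e ∈ T) (heM : e ∈ M) (he1 : e ≠ 1) : T ≤ M := by
  haveI : Nontrivial T := (nontrivial_iff_ne_bot T).mpr fun h => he1 (mem_bot.mp (h ▸ heT))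
  haveI := hT.center_nontrivial
  obtain ⟨⟨z, hz⟩, hz1⟩ := exists_ne (1 : Subgroup.center T)
  obtain ⟨ke, hke⟩ := IsPGroup.iff_orderOf.mp hT ⟨e, heT⟩
  rw [← orderOf_coe] at hke
  obtain ⟨kz, hkz⟩ := IsPGroup.iff_orderOf.mp hT z
  rw [← orderOf_coe] at hkz
  have hzM : (z : G) ∈ M := hM.centralizer_le heM he1 hke (mem_centralizer_iff.mpr fun w hw => by
    rw [Set.mem_singleton_iff] at hw; subst hw
    exact congrArg Subtype.val (mem_center_iff.mp hz ⟨w, heT⟩))
  intro t ht
  refine hM.centralizer_le hzM (fun e' => hz1 (Subtype.ext (Subtype.ext e'))) hkz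
    (mem_centralizer_iff.mpr fun w hw => ?_)
  rw [Set.mem_singleton_iff] at hw
  subst hw
  exact (congrArg Subtype.val (mem_center_iff.mp hz ⟨t, ht⟩)).symm

/-- The structure of a solvable subgroup meeting `M` in a nontrivial `p`-element and not inside `M`:
modulo a `p'`-group it has a cyclic normal Sylow subgroup on which `p'`-elements act without
fixed points. -/
theorem Embedded.structure (hM : Embedded p M) [Finite G] (hp2 : p ≠ 2) (L : Subgroup G)
    [Group.IsSolvable L] {e : G} (heL : e ∈ L) (heM : e ∈ M) (he : orderOf e = p)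
    (hLM : ¬ L ≤ M) :
    ∃ (B : Subgroup (L ⧸ Cfsg.pPrimeCore p L)),
      haveI := HallCore.pPrimeCore_normal p L
      B.Normal ∧ IsPGroup p B ∧ IsCyclic B ∧ ¬ p ∣ B.index ∧ centralizer (B : Set (L ⧸ Cfsg.pPrimeCore p L)) ≤ B ∧
        (QuotientGroup.mk (⟨e, heL⟩ : L) : L ⧸ Cfsg.pPrimeCore p L) ∈ B := by
  classical
  haveI := HallCore.pPrimeCore_normal p L
  set O := Cfsg.pPrimeCore p L with hOdef
  set π := QuotientGroup.mk' O with hπ
  have hOcop := HallCore.coprime_card_pPrimeCore p L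
  obtain ⟨T, hT⟩ := IsPGroup.exists_le_sylow (G := L) (p := p)
    (P := zpowers (⟨e, heL⟩ : L))
    (IsPGroup.of_card (n := 1) (by rw [Nat.card_zpowers, pow_one, ← orderOf_coe]; exact he))
  set TG := (T : Subgroup L).map L.subtype with hTG
  have heT : e ∈ TG := mem_map.mpr ⟨⟨e, heL⟩, hT (mem_zpowers _), rfl⟩
  have he1 : e ≠ 1 := fun h => hp.out.one_lt.ne (by rw [← he, h, orderOf_one])
  have hTGM : TG ≤ M := hM.le_of_mem (T.isPGroup'.map _) heT heM he1
  set B := Cfsg.pCore p (L ⧸ O) with hB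
  haveI hBn : B.Normal := HallCore.pCore_normal p _
  have hO1 : Cfsg.pPrimeCore p (L ⧸ O) = ⊥ := HallCore.pPrimeCore_quotient_self p L
  have hcB : centralizer (B : Set (L ⧸ O)) ≤ B :=
    HallSolvable.centralizer_pCore_le (HallSolvable.isPSolvable_of_solvable p) hO1
  have hBT : B ≤ (T : Subgroup L).map π := by
    have := HallCore.pCore_le_sylow (T.mapSurjective (QuotientGroup.mk'_surjective O))
    rwa [Sylow.coe_mapSurjective] at this
  have hek : (⟨e, heL⟩ : L) ∉ O := fun h => by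
    have h1 := hOcop.coprime_dvd_left (orderOf_dvd_natCard _ h)
    rw [← orderOf_coe] at h1
    simp only [he, Nat.coprime_self] at h1
    exact hp.out.one_lt.ne h1.symm
  have hB1 : B ≠ ⊥ := by
    intro hbot
    have h1 : (⊤ : Subgroup (L ⧸ O)) ≤ B := le_trans (by
      intro x _
      rw [hbot, mem_centralizer_iff]
      intro y hy
      rw [SetLike.mem_coe, mem_bot] at hy
      rw [hy, one_mul, mul_one]) hcB
    have h2 : π ⟨e, heL⟩ ∈ B := h1 (mem_top _)
    rw [hbot, mem_bot] at h2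
    exact hek ((QuotientGroup.eq_one_iff _).mp h2)
  -- no `p × p` in `T`
  have huniq : ∀ A C : Subgroup T, Nat.card A = p → Nat.card C = p → A = C := by
    intro A C hA hC
    by_contra hne
    refine hLM ?_
    haveI : Nontrivial T := by
      refine (nontrivial_iff_ne_bot (T : Subgroup L)).mpr fun h => ?_
      have := hT (mem_zpowers (⟨e, heL⟩ : L))
      rw [h, mem_bot] at this
      exact he1 (congrArg Subtype.val this)
    haveI := T.isPGroup'.center_nontrivial
    obtain ⟨z, hz⟩ : ∃ z : Subgroup.center T, orderOf z = p := by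
      obtain ⟨k, hk⟩ := IsPGroup.iff_card.mp (T.isPGroup'.to_subgroup (Subgroup.center T))
      refine exists_prime_orderOf_dvd_card' p ?_
      have h1 : 1 < Nat.card (Subgroup.center T) := Finite.one_lt_card
      rw [hk] at h1 ⊢
      exact dvd_pow_self p (by rintro rfl; simp at h1)
    have hzT : orderOf (z : T) = p := by rw [orderOf_coe]; exact hz
    obtain ⟨a, hao, haz⟩ : ∃ a : T, a ^ p = 1 ∧ a ∉ zpowers (z : T) := by
      by_contra! hall
      apply hne
      have : ∀ D : Subgroup T, Nat.card D = p → D = zpowers (z : T) := by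
        intro D hD
        refine Subgroup.eq_of_le_of_card_ge (fun d hd => hall d ?_)
          (by rw [hD, Nat.card_zpowers, hzT])
        have : (⟨d, hd⟩ : D) ^ Nat.card D = 1 := pow_card_eq_one'
        rw [hD] at this
        exact congrArg Subtype.val this
      rw [this A hA, this C hC]
    set a' : L := (a : L)
    set b' : L := ((z : T) : L)
    have hab : Commute a' b' := congrArg Subtype.val (mem_center_iff.mp z.2 a)
    have hb'1 : b' ≠ 1 := fun h => hp.out.one_lt.ne (by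
      rw [← hzT, ← orderOf_coe, show ((z : T) : L) = 1 from h, orderOf_one])
    have hpair : CoprimeGen.IsPairAction p a' b' O := by
      refine ⟨hab, ?_, ?_, hb'1, fun h => haz ?_, ?_, ?_⟩
      · exact congrArg Subtype.val hao
      · have h1 : (z : T) ^ p = 1 := orderOf_dvd_iff_pow_eq_one.mp (dvd_of_eq hzT)
        exact congrArg Subtype.val h1
      · obtain ⟨i, hi⟩ := mem_zpowers_iff.mp h
        exact mem_zpowers_iff.mpr ⟨i, Subtype.ext (by rw [Subgroup.coe_zpow]; exact hi)⟩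
      · rw [normalizer_eq_top_iff.mpr inferInstance]; exact mem_top _
      · rw [normalizer_eq_top_iff.mpr inferInstance]; exact mem_top _
    have hOM : O ≤ M.subgroupOf L := by
      refine CoprimeGen.le_of_pair_centralizers hpair
        (fun hd => HallCore.not_dvd_card_pPrimeCore p L hd) fun w hw hw1 c hc => ?_
      have hwT : w ∈ (T : Subgroup L) := CoprimeGen.pairSubgroup_le a.2 (z : T).2 hw
      obtain ⟨k, hk⟩ := IsPGroup.iff_orderOf.mp T.isPGroup' ⟨w, hwT⟩
      rw [← orderOf_coe, ← orderOf_coe] at hk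
      refine mem_subgroupOf.mpr (hM.centralizer_le (hTGM (mem_map.mpr ⟨w, hwT, rfl⟩))
        (fun h => hw1 (Subtype.ext h)) hk (mem_centralizer_iff.mpr fun v hv => ?_))
      rw [Set.mem_singleton_iff] at hv
      subst hv
      exact congrArg Subtype.val (mem_centralizer_iff.mp hc.2 w rfl)
    -- `L = O N(R)` for `R = T ⊓ π⁻¹ B`
    set W := B.comap π with hW
    haveI hWn : W.Normal := Normal.comap hBn π
    set R := (T : Subgroup L) ⊓ W with hR
    have hWeq : W = O ⊔ R := by
      refine le_antisymm (fun w hw => ?_) (sup_le ?_ inf_le_right)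
      · obtain ⟨t, ht, htw⟩ := hBT hw
        have ho : w * t⁻¹ ∈ O := by
          rw [← QuotientGroup.eq_one_iff, ← QuotientGroup.mk'_apply, map_mul, map_inv, htw,
            mul_inv_cancel]
        have htW : t ∈ W := by
          rw [hW, mem_comap, htw]; exact hw
        have := mul_mem_sup (S := O) (T := R) ho (mem_inf.mpr ⟨ht, htW⟩)
        rwa [inv_mul_cancel_right] at this
      · intro o ho
        rw [hW, mem_comap, show π o = 1 from (QuotientGroup.eq_one_iff o).mpr ho]
        exact one_mem _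
    obtain ⟨Q, hQ⟩ := LocalBasics.exists_sylow_inf T W
    have hQR : (Q : Subgroup W).map W.subtype = R := by rw [hQ, hR, subgroupOf_map_subtype]
    have hfrat : normalizer (R : Set L) ⊔ W = ⊤ := hQR ▸ Sylow.normalizer_sup_eq_top Q
    have hR1 : R ≠ ⊥ := by
      intro h
      rw [h, sup_bot_eq] at hWeq
      apply hB1
      rw [← Subgroup.map_comap_eq_self_of_surjective (QuotientGroup.mk'_surjective O) B, ← hW,
        hWeq, QuotientGroup.map_mk'_self]
    have hRM : R.map L.subtype ≤ M := (map_mono inf_le_left).trans hTGM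
    have hNR : normalizer (R : Set L) ≤ M.subgroupOf L := by
      intro n hn
      refine mem_subgroupOf.mpr (hM.2 (R.map L.subtype) hRM
        ((T.isPGroup'.to_le inf_le_left).map _) (fun h => hR1
          ((Subgroup.map_eq_bot_iff_of_injective _ L.subtype_injective).mp h)) ?_)
      exact le_normalizer_map L.subtype ⟨n, hn, rfl⟩
    have htop : (⊤ : Subgroup L) ≤ M.subgroupOf L := hfrat ▸ sup_le hNR
      (hWeq ▸ sup_le hOM (inf_le_left.trans fun t ht => mem_subgroupOf.mpr
        (hTGM (mem_map.mpr ⟨t, ht, rfl⟩))))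
    exact fun l hl => mem_subgroupOf.mp (htop (mem_top (⟨l, hl⟩ : L)))
  haveI hTcyc : IsCyclic T := by
    rcases PGroupsCyclic.isCyclic_or_quaternion T.isPGroup' huniq with h | ⟨h, -⟩
    · exact h
    · exact absurd h hp2
  haveI hTbc : IsCyclic ((T : Subgroup L).map π) :=
    isCyclic_of_surjective (π.subgroupMap (T : Subgroup L)) (π.subgroupMap_surjective _)
  have hBeq : (T : Subgroup L).map π ≤ B := by
    refine le_trans (fun y hy => ?_) hcB
    refine mem_centralizer_iff.mpr fun b hb => ?_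
    letI := IsCyclic.commGroup (α := (T : Subgroup L).map π)
    exact congrArg Subtype.val (mul_comm (⟨b, hBT hb⟩ : (T : Subgroup L).map π) ⟨y, hy⟩)
  refine ⟨B, hBn, HallCore.isPGroup_pCore p _, ?_, ?_, hcB, hBeq ⟨_, hT (mem_zpowers _), rfl⟩⟩
  · exact le_antisymm hBT hBeq ▸ hTbc
  · rw [← le_antisymm hBeq hBT, ← Sylow.coe_mapSurjective (QuotientGroup.mk'_surjective O) T]
    exact (T.mapSurjective (QuotientGroup.mk'_surjective O)).not_dvd_index

/-- An element of order prime to `p` fixing an element of order `p` of a cyclic `p`-group it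
normalises centralises that group. -/
theorem commute_of_fixed {Q : Type*} [Group Q] [Finite Q] {g c u : Q}
    (hn : ∃ r : ℤ, c * g * c⁻¹ = g ^ r) {n : ℕ} (hg : orderOf g = p ^ n) (hu : u ∈ zpowers g)
    (huo : orderOf u = p) (hcu : Commute c u) (hc : (orderOf c).Coprime p) : Commute c g := by
  obtain ⟨r, hr⟩ := hn
  obtain ⟨a, rfl⟩ := mem_zpowers_iff.mp hu
  have h1 : (g ^ a) ^ r = (g ^ a) ^ (1 : ℤ) := by
    rw [zpow_one, ← zpow_mul, mul_comm, zpow_mul, ← hr, conj_zpow, hcu.eq, mul_inv_cancel_right]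
  have h2 : (p : ℤ) ∣ r - 1 := by
    rw [PGroupsCyclic.zpow_eq_iff_dvd, huo] at h1
    exact h1
  have h3 : (p : ℤ) ^ (n + 1) ∣ r ^ p ^ n - (1 : ℤ) ^ p ^ n := dvd_sub_pow_of_dvd_sub h2 n
  rw [one_pow] at h3
  have h4 : Commute (c ^ p ^ n) g := by
    have h5 : g ^ (r ^ p ^ n) = g ^ (1 : ℤ) := by
      rw [PGroupsCyclic.zpow_eq_iff_dvd, hg, Nat.cast_pow]
      exact dvd_trans (pow_dvd_pow _ (Nat.le_succ n)) h3
    have h6 := PGroupsCyclic.conj_iterate hr (p ^ n)
    rw [h5, zpow_one, mul_inv_eq_iff_eq_mul] at h6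
    exact h6
  obtain ⟨i, hi⟩ := exists_pow_eq_self_of_coprime (hc.pow_right n).symm
  exact hi ▸ h4.pow_left i

/-- In a group with a cyclic self-centralising normal Sylow `p`-subgroup an element outside it has
order prime to `p`. -/
theorem coprime_of_not_mem {Q : Type*} [Group Q] [Finite Q] {B : Subgroup Q} [B.Normal]
    (hB : IsPGroup p B) [IsCyclic B] (hidx : ¬ p ∣ B.index)
    (hc : centralizer (B : Set Q) ≤ B) {y : Q} (hy : y ∉ B) :
    (orderOf y).Coprime p := by
  classical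
  have hpel : ∀ v : Q, (∃ i, orderOf v = p ^ i) → v ∈ B := by
    rintro v ⟨i, hi⟩
    have h1 : orderOf (QuotientGroup.mk v : Q ⧸ B) ∣ p ^ i :=
      hi ▸ orderOf_map_dvd (QuotientGroup.mk' B) v
    have h2 : orderOf (QuotientGroup.mk v : Q ⧸ B) ∣ B.index := by
      rw [Subgroup.index]; exact orderOf_dvd_natCard _
    rw [← QuotientGroup.eq_one_iff, ← orderOf_eq_one_iff]
    exact Nat.eq_one_of_dvd_coprimes
      (Nat.Coprime.pow_left i (hp.out.coprime_iff_not_dvd.mpr hidx)) h1 h2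
  obtain ⟨k, m, hm, hkm⟩ := Nat.exists_eq_pow_mul_and_not_dvd (orderOf_pos y).ne' p hp.out.ne_one
  rw [Nat.coprime_comm, hp.out.coprime_iff_not_dvd]
  intro hd
  obtain ⟨j, rfl⟩ : ∃ j, k = j + 1 := Nat.exists_eq_succ_of_ne_zero (by
    rintro rfl; rw [hkm, pow_zero, one_mul] at hd; exact hm hd)
  have hm0 : 0 < m := Nat.pos_of_ne_zero fun h => hm (h ▸ dvd_zero p)
  set u := y ^ (p ^ j * m) with hu
  have huo : orderOf u = p := by
    rw [hu, orderOf_pow, hkm, show p ^ (j + 1) * m = (p ^ j * m) * p by ring, Nat.gcd_mul_right_left,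
      Nat.mul_div_cancel_left _ (Nat.mul_pos (pow_pos hp.out.pos _) hm0)]
  set c := y ^ p ^ (j + 1) with hcd
  have hco : orderOf c = m := by
    rw [hcd, orderOf_pow, hkm, Nat.gcd_mul_right_left, Nat.mul_div_cancel_left _ (pow_pos hp.out.pos _)]
  have hccop : (orderOf c).Coprime p := by
    rw [hco]; exact (hp.out.coprime_iff_not_dvd.mpr hm).symm
  obtain ⟨g, hg⟩ := IsCyclic.exists_generator (α := B)
  obtain ⟨n, hn⟩ := IsPGroup.iff_orderOf.mp hB g
  rw [← orderOf_coe] at hn
  have hBg : ∀ b ∈ B, b ∈ zpowers (g : Q) := fun b hb => by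
    obtain ⟨i, hi⟩ := mem_zpowers_iff.mp (hg ⟨b, hb⟩)
    exact mem_zpowers_iff.mpr ⟨i, by rw [← Subgroup.coe_zpow, hi]⟩
  have hcg : Commute c g := by
    refine commute_of_fixed ?_ hn (hBg u (hpel u ⟨1, by rw [huo, pow_one]⟩)) huo
      (Commute.pow_pow_self y _ _) hccop
    obtain ⟨i, hi⟩ := mem_zpowers_iff.mp (hBg _ ((inferInstance : B.Normal).conj_mem _ g.2 c))
    exact ⟨i, hi.symm⟩
  have hcB : c ∈ B := hc (mem_centralizer_iff.mpr fun b hb => by
    obtain ⟨i, rfl⟩ := mem_zpowers_iff.mp (hBg b hb)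
    exact (hcg.symm.zpow_left i).eq)
  obtain ⟨i, hi⟩ := IsPGroup.iff_orderOf.mp hB ⟨c, hcB⟩
  rw [← orderOf_coe, hco] at hi
  have hm1 : m = 1 := by
    rcases i with _ | i
    · simpa using hi
    · exact absurd (hi ▸ dvd_pow_self p i.succ_ne_zero) hm
  exact hy (hpel y ⟨j + 1, by rw [hkm, hm1, mul_one]⟩)

/-- Two points of order prime to `p` on a line of the coset force the whole line. -/
theorem Embedded.line_full (hM : Embedded p M) (h : Hyp G) [Finite G] (hp2 : p ≠ 2) {y e : G}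
    (hy : y ∉ M) (heM : e ∈ M) (he : orderOf e = p) {i j : ℤ} (hij : ¬ (p : ℤ) ∣ i - j)
    (hi : (orderOf (y * e ^ i)).Coprime p) (hj : (orderOf (y * e ^ j)).Coprime p) (k : ℤ) :
    (orderOf (y * e ^ k)).Coprime p := by
  set L := closure ({e, y} : Set G) with hL
  haveI : Group.IsSolvable L := h.pair_solvable _ _
  have heL : e ∈ L := subset_closure (by simp)
  have hyL : y ∈ L := subset_closure (by simp)
  haveI := HallCore.pPrimeCore_normal p L
  obtain ⟨B, hBn, hBp, hBc, hidx, hcB, heB⟩ :=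
    hM.structure hp2 L heL heM he (fun hle => hy (hle hyL))
  set π := QuotientGroup.mk' (Cfsg.pPrimeCore p L) with hπ
  set ye : L := ⟨y, hyL⟩
  set ee : L := ⟨e, heL⟩
  have hee : π ee ≠ 1 := fun h1 => by
    have h2 := (HallCore.coprime_card_pPrimeCore p L).coprime_dvd_left
      (orderOf_dvd_natCard _ ((QuotientGroup.eq_one_iff ee).mp h1))
    rw [← orderOf_coe] at h2
    simp only [ee, he, Nat.coprime_self] at h2
    exact hp.out.one_lt.ne h2.symm
  have heo : orderOf (π ee) = p := by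
    refine (Nat.Prime.eq_one_or_self_of_dvd hp.out _ ?_).resolve_left
      (fun h1 => hee (orderOf_eq_one_iff.mp h1))
    have h2 : orderOf ee = p := by rw [← orderOf_coe]; exact he
    exact (orderOf_map_dvd π ee).trans (dvd_of_eq h2)
  have hval : ∀ l : ℤ, ((ye * ee ^ l : L) : G) = y * e ^ l := fun l => by
    rw [coe_mul, Subgroup.coe_zpow]
  have hyB : π ye ∉ B := by
    intro hyB
    have hzero : ∀ l : ℤ, (orderOf (y * e ^ l)).Coprime p → π (ye * ee ^ l) = 1 := by
      intro l hl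
      have hm : π (ye * ee ^ l) ∈ B := by
        rw [map_mul, map_zpow]; exact mul_mem hyB (zpow_mem heB l)
      obtain ⟨n, hn⟩ := IsPGroup.iff_orderOf.mp hBp ⟨_, hm⟩
      rw [← orderOf_coe] at hn
      rw [← hval, orderOf_coe] at hl
      rw [← orderOf_eq_one_iff]
      have h1 := hl.coprime_dvd_left (orderOf_map_dvd π (ye * ee ^ l))
      exact Nat.eq_one_of_dvd_coprimes (h1.pow_right n) dvd_rfl (dvd_of_eq hn)
    have h1 := hzero i hi
    rw [← hzero j hj, map_mul, map_mul, mul_left_cancel_iff, map_zpow, map_zpow,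
      PGroupsCyclic.zpow_eq_iff_dvd, heo] at h1
    exact hij h1
  have hyk : π (ye * ee ^ k) ∉ B := fun hm => hyB (by
    rw [map_mul, map_zpow] at hm
    have h1 : π ee ^ k ∈ B := zpow_mem heB k
    have := mul_mem hm (inv_mem h1)
    rwa [mul_inv_cancel_right] at this)
  have hcop := coprime_of_not_mem hBp hidx hcB hyk
  rw [← hval, orderOf_coe]
  have hdvd : orderOf (ye * ee ^ k) ∣
      orderOf (π (ye * ee ^ k)) * Nat.card (Cfsg.pPrimeCore p L) := by
    rw [orderOf_dvd_iff_pow_eq_one, pow_mul]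
    refine orderOf_dvd_iff_pow_eq_one.mp (orderOf_dvd_natCard _ ?_)
    rw [← QuotientGroup.eq_one_iff, QuotientGroup.mk_pow]
    exact pow_orderOf_eq_one _
  exact (hcop.mul_left (HallCore.coprime_card_pPrimeCore p L)).coprime_dvd_left hdvd

/-- A line through an element of order `p` outside `M` has a point of order prime to `p`. -/
theorem Embedded.line_exists (hM : Embedded p M) (h : Hyp G) [Finite G] (hp2 : p ≠ 2) {x e : G}
    (hxM : x ∉ M) (hxo : orderOf x = p) (heM : e ∈ M) (he : orderOf e = p) :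
    ∃ k : ℤ, (orderOf (x * e ^ k)).Coprime p := by
  set L := closure ({e, x} : Set G) with hL
  haveI : Group.IsSolvable L := h.pair_solvable _ _
  have heL : e ∈ L := subset_closure (by simp)
  have hxL : x ∈ L := subset_closure (by simp)
  haveI := HallCore.pPrimeCore_normal p L
  obtain ⟨B, hBn, hBp, hBc, hidx, hcB, heB⟩ :=
    hM.structure hp2 L heL heM he (fun hle => hxM (hle hxL))
  set π := QuotientGroup.mk' (Cfsg.pPrimeCore p L) with hπ
  set xe : L := ⟨x, hxL⟩
  set ee : L := ⟨e, heL⟩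
  have hne : ∀ z : L, orderOf z = p → π z ≠ 1 := fun z hz h1 => by
    have h2 := (HallCore.coprime_card_pPrimeCore p L).coprime_dvd_left
      (orderOf_dvd_natCard _ ((QuotientGroup.eq_one_iff z).mp h1))
    rw [hz, Nat.coprime_self] at h2
    exact hp.out.one_lt.ne h2.symm
  have hord : ∀ z : L, orderOf z = p → orderOf (π z) = p := fun z hz =>
    ((Nat.Prime.eq_one_or_self_of_dvd hp.out _ (hz ▸ orderOf_map_dvd π z)).resolve_left
      fun h1 => hne z hz (orderOf_eq_one_iff.mp h1))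
  have hxp : orderOf xe = p := by rw [← orderOf_coe]; exact hxo
  have hep : orderOf ee = p := by rw [← orderOf_coe]; exact he
  have hxB : π xe ∈ B := by
    by_contra hnot
    have := coprime_of_not_mem hBp hidx hcB hnot
    rw [hord xe hxp, Nat.coprime_self] at this
    exact hp.out.one_lt.ne this.symm
  have hsame : zpowers (π xe) = zpowers (π ee) :=
    PGroupsCyclic.eq_of_card_eq_of_isCyclic hBc (zpowers_le.mpr hxB) (zpowers_le.mpr heB)
      (by rw [Nat.card_zpowers, Nat.card_zpowers, hord xe hxp, hord ee hep])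
  obtain ⟨k, hk⟩ := mem_zpowers_iff.mp (hsame ▸ mem_zpowers (π xe))
  refine ⟨-k, ?_⟩
  have h1 : xe * ee ^ (-k) ∈ Cfsg.pPrimeCore p L := by
    rw [← QuotientGroup.eq_one_iff, ← QuotientGroup.mk'_apply, map_mul, map_zpow, ← hπ, ← hk,
      ← zpow_add, add_neg_cancel, zpow_zero]
  have h2 := (HallCore.coprime_card_pPrimeCore p L).coprime_dvd_left (orderOf_dvd_natCard _ h1)
  rwa [← orderOf_coe, coe_mul, Subgroup.coe_zpow] at h2

/-- A strongly embedded subgroup has no `p × p`. -/
theorem Embedded.no_pair (hM : Embedded p M) (h : Hyp G) [Finite G] (hp2 : p ≠ 2) {a b : G}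
    (haM : a ∈ M) (hbM : b ∈ M) (hab : Commute a b) (ha : a ^ p = 1) (hb : orderOf b = p)
    (hout : a ∉ zpowers b) : False := by
  have hao : orderOf a = p := orderOf_eq_prime ha fun h1 => hout (h1 ▸ one_mem _)
  -- an element of order `p` outside `M`
  obtain ⟨x, hxo, hxM⟩ : ∃ x : G, orderOf x = p ∧ x ∉ M := by
    by_contra! hall
    set N := closure {x : G | orderOf x = p}
    have hNM : N ≤ M := (closure_le _).mpr fun x hx => hall x hx
    have hNn : N.Normal := normalizer_eq_top_iff.mp (eq_top_iff.mpr fun g _ => by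
      refine mem_normalizer_iff.mpr fun n => ?_
      have key : ∀ g : G, ∀ n ∈ N, g * n * g⁻¹ ∈ N := by
        intro g n hn
        induction hn using Subgroup.closure_induction with
        | mem x hx => exact subset_closure (by
            show orderOf (g * x * g⁻¹) = p
            rw [← MulAut.conj_apply, MulEquiv.orderOf_eq]; exact hx)
        | one => simp
        | mul x y _ _ hx hy => simpa [mul_assoc] using mul_mem hx hy
        | inv x _ hx => simpa [mul_assoc] using inv_mem hx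
      refine ⟨key g n, fun hn => ?_⟩
      simpa [mul_assoc] using key g⁻¹ _ hn)
    rcases h.simple.eq_bot_or_eq_top_of_normal N hNn with e | e
    · have : b ∈ N := subset_closure hb
      rw [e, mem_bot] at this
      exact hp.out.one_lt.ne (by rw [← hb, this, orderOf_one])
    · exact hM.1 (top_le_iff.mp (e ▸ hNM))
  -- the two axes
  obtain ⟨α, hα⟩ := hM.line_exists h hp2 hxM hxo haM hao
  obtain ⟨β, hβ⟩ := hM.line_exists h hp2 hxM hxo hbM hb
  let S : ℤ → ℤ → Prop := fun i j => (orderOf (x * (a ^ α) ^ i * (b ^ β) ^ j)).Coprime p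
  have hx0 : ¬ (orderOf x).Coprime p := by
    rw [hxo, Nat.coprime_self]; exact hp.out.one_lt.ne'
  have hA : ¬ (p : ℤ) ∣ α := fun hd => hx0 (by
    rw [← hao, orderOf_dvd_iff_zpow_eq_one] at hd
    rwa [hd, mul_one] at hα)
  have hB : ¬ (p : ℤ) ∣ β := fun hd => hx0 (by
    rw [← hb, orderOf_dvd_iff_zpow_eq_one] at hd
    rwa [hd, mul_one] at hβ)
  have h10 : S 1 0 := by simpa [S] using hα
  have h01 : S 0 1 := by simpa [S] using hβ
  have hS00 : ¬ S 0 0 := by simpa [S] using hx0
  have hAB : Commute (a ^ α) (b ^ β) := (hab.zpow_left α).zpow_right β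
  have hZ : Commute a (b ^ β) := hab.zpow_right β
  have hord : ∀ d₁ d₂ : ℤ, ¬ ((p : ℤ) ∣ d₁ ∧ (p : ℤ) ∣ d₂) →
      orderOf ((a ^ α) ^ d₁ * (b ^ β) ^ d₂) = p := by
    intro d₁ d₂ hd
    refine orderOf_eq_prime ?_ fun h1 => hd ?_
    · rw [(hAB.zpow_zpow d₁ d₂).mul_pow]
      have e1 : ∀ (z : G) (n : ℤ), z ^ p = 1 → (z ^ n) ^ p = 1 := fun z n hz => by
        rw [← zpow_natCast, ← zpow_mul, mul_comm, zpow_mul, zpow_natCast, hz, one_zpow]
      rw [e1 _ _ (e1 _ _ ha), e1 _ _ (e1 _ _ (hb ▸ pow_orderOf_eq_one b)), one_mul]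
    · have h2 : a ^ (α * d₁) ∈ zpowers b := by
        rw [zpow_mul, eq_inv_of_mul_eq_one_left h1, ← zpow_mul]
        exact inv_mem (mem_zpowers_iff.mpr ⟨_, rfl⟩)
      have hd1 : (p : ℤ) ∣ α * d₁ := by
        by_contra hnd
        refine hout ?_
        have hcop : Int.gcd (α * d₁) p = 1 := by
          rw [Int.gcd_comm]
          exact Int.isCoprime_iff_gcd_eq_one.mp
            ((Nat.prime_iff_prime_int.mp hp.out).coprime_iff_not_dvd.mpr hnd)
        obtain ⟨u, v, huv⟩ : ∃ u v : ℤ, u * (α * d₁) + v * p = 1 :=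
          Int.isCoprime_iff_gcd_eq_one.mpr hcop
        have e2 : a = (a ^ (α * d₁)) ^ u := by
          conv_lhs => rw [← zpow_one a, ← huv, zpow_add, mul_comm v, zpow_mul a (p : ℤ),
            zpow_natCast, ha, one_zpow, mul_one, mul_comm u, zpow_mul]
        rw [e2]
        exact zpow_mem h2 u
      have hd1' : (p : ℤ) ∣ d₁ :=
        ((Nat.prime_iff_prime_int.mp hp.out).dvd_or_dvd hd1).resolve_left hA
      refine ⟨hd1', ((Nat.prime_iff_prime_int.mp hp.out).dvd_or_dvd (a := β) ?_).resolve_left hB⟩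
      have e3 : (a ^ α) ^ d₁ = 1 := by
        rw [← zpow_mul, ← orderOf_dvd_iff_zpow_eq_one, hao]; exact dvd_mul_of_dvd_right hd1' α
      rw [e3, one_mul, ← zpow_mul, ← orderOf_dvd_iff_zpow_eq_one, hb] at h1
      exact h1
  -- lines with two points
  have line : ∀ i₀ j₀ d₁ d₂ : ℤ, ¬ ((p : ℤ) ∣ d₁ ∧ (p : ℤ) ∣ d₂) → ∀ s t : ℤ, ¬ (p : ℤ) ∣ s - t →
      S (i₀ + s * d₁) (j₀ + s * d₂) → S (i₀ + t * d₁) (j₀ + t * d₂) →
      ∀ u : ℤ, S (i₀ + u * d₁) (j₀ + u * d₂) := by
    intro i₀ j₀ d₁ d₂ hd s t hst hs ht u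
    have hA' : a ^ α ∈ M := zpow_mem haM α
    have hB' : b ^ β ∈ M := zpow_mem hbM β
    have hv : ∀ w : ℤ, x * (a ^ α) ^ (i₀ + w * d₁) * (b ^ β) ^ (j₀ + w * d₂) =
        (x * (a ^ α) ^ i₀ * (b ^ β) ^ j₀) * ((a ^ α) ^ d₁ * (b ^ β) ^ d₂) ^ w := by
      intro w
      rw [(hAB.zpow_zpow d₁ d₂).mul_zpow, zpow_add, zpow_add, mul_comm w, mul_comm w,
        zpow_mul, zpow_mul]
      simp only [mul_assoc]
      congr 2
      rw [← mul_assoc, ← mul_assoc ((b ^ β) ^ j₀), ((((hAB.symm).zpow_zpow j₀ d₁)).zpow_right w).eq]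
    have hy : x * (a ^ α) ^ i₀ * (b ^ β) ^ j₀ ∉ M := fun hm => hxM (by
      have := mul_mem hm (inv_mem (mul_mem (zpow_mem hA' i₀) (zpow_mem hB' j₀)))
      rwa [mul_assoc x, mul_inv_cancel_right] at this)
    show (orderOf _).Coprime p
    rw [hv]
    refine hM.line_full h hp2 hy (mul_mem (zpow_mem hA' _) (zpow_mem hB' _)) (hord d₁ d₂ hd) hst
      ?_ ?_ u
    · rw [← hv]; exact hs
    · rw [← hv]; exact ht
  have hmod : ∀ i j i' j' : ℤ, (p : ℤ) ∣ i - i' → (p : ℤ) ∣ j - j' → S i j → S i' j' := by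
    intro i j i' j' hi hj hS
    have e : ∀ (z : G) (m m' : ℤ), z ^ p = 1 → (p : ℤ) ∣ m - m' → z ^ m = z ^ m' := by
      intro z m m' hz hd
      rw [PGroupsCyclic.zpow_eq_iff_dvd]
      exact dvd_trans (Int.natCast_dvd_natCast.mpr (orderOf_dvd_of_pow_eq_one hz)) hd
    have ea : (a ^ α) ^ p = 1 := by
      rw [← zpow_natCast, ← zpow_mul, mul_comm, zpow_mul, zpow_natCast, ha, one_zpow]
    have eb : (b ^ β) ^ p = 1 := by
      rw [← zpow_natCast, ← zpow_mul, mul_comm, zpow_mul, zpow_natCast,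
        orderOf_dvd_iff_pow_eq_one.mp (dvd_of_eq hb), one_zpow]
    show (orderOf _).Coprime p
    rw [← e _ i i' ea hi, ← e _ j j' eb hj]
    exact hS
  have hp1 : ¬ (p : ℤ) ∣ 1 := fun hd => hp.out.one_lt.ne' (by
    exact_mod_cast Int.eq_one_of_dvd_one (by positivity) hd)
  have hp2' : ¬ (p : ℤ) ∣ 2 := fun hd =>
    hp2 ((Nat.prime_dvd_prime_iff_eq hp.out Nat.prime_two).mp (by exact_mod_cast hd))
  -- the line through `(1,0)` and `(0,1)`
  have hl : ∀ u : ℤ, S (1 + u * (-1)) (0 + u * 1) :=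
    line 1 0 (-1) 1 (fun hd => hp1 hd.2) 0 1 (by simpa using hp1) (by simpa using h10)
      (by simpa using h01)
  -- a point on the direction `(1,-1)` through the origin
  obtain ⟨t, ht⟩ : ∃ t : ℤ, S (0 + t * 1) (0 + t * (-1)) := by
    have hdo : orderOf ((a ^ α) ^ (1 : ℤ) * (b ^ β) ^ (-1 : ℤ)) = p :=
      hord 1 (-1) fun hd => hp1 hd.1
    obtain ⟨t, ht⟩ := hM.line_exists h hp2 hxM hxo
      (mul_mem (zpow_mem (zpow_mem haM α) _) (zpow_mem (zpow_mem hbM β) _)) hdo
    refine ⟨t, ?_⟩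
    rw [((hAB.zpow_zpow 1 (-1))).mul_zpow, ← zpow_mul, ← zpow_mul (b ^ β)] at ht
    show (orderOf _).Coprime p
    rw [zero_add, zero_add, mul_comm t, mul_comm t, mul_assoc]
    exact ht
  have ht0 : ¬ (p : ℤ) ∣ t := fun hd => hS00 (hmod _ _ 0 0
    (by simpa using hd) (by simpa using hd) ht)
  by_cases ht1 : (p : ℤ) ∣ t - 1
  · -- the vertical line through `(1,0)`
    have h1m : S 1 (-1) := hmod _ _ 1 (-1) (by simpa using ht1)
      (by obtain ⟨w, hw⟩ := ht1; exact ⟨-w, by linear_combination -hw⟩) ht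
    have hv : ∀ u : ℤ, S (1 + u * 0) (-1 + u * 1) :=
      line 1 (-1) 0 1 (fun hd => hp1 hd.2) 0 1 (by simpa using hp1) (by simpa using h1m)
        (by simpa using h10)
    have h11 : S 1 1 := hmod _ _ 1 1 (by simp) (by simp) (hv 2)
    -- the diagonal
    obtain ⟨u, hu⟩ : ∃ u : ℤ, (p : ℤ) ∣ 2 * u - 1 := by
      obtain ⟨u, v, huv⟩ := (Nat.prime_iff_prime_int.mp hp.out).coprime_iff_not_dvd.mpr hp2'
      exact ⟨v, -u, by linear_combination huv⟩
    have hmid : S (0 + u * 1) (0 + u * 1) := hmod _ _ _ _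
      (by obtain ⟨w, hw⟩ := hu; exact ⟨-w, by linear_combination -hw⟩) (by simp) (hl u)
    have hu1 : ¬ (p : ℤ) ∣ u - 1 := fun hd => hp1 (by
      obtain ⟨w, hw⟩ := hu; obtain ⟨w', hw'⟩ := hd
      exact ⟨w - 2 * w', by linear_combination hw - 2 * hw'⟩)
    have h00 := line 0 0 1 1 (fun hd => hp1 hd.1) u 1 hu1 hmid (by simpa using h11) 0
    exact hS00 (by simpa using h00)
  · -- the line through `(1,0)` and `(t,-t)` meets the axis
    have hd : ¬ ((p : ℤ) ∣ t - 1 ∧ (p : ℤ) ∣ -t) := fun hd => ht1 hd.1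
    have hl2 : ∀ u : ℤ, S (1 + u * (t - 1)) (0 + u * (-t)) :=
      line 1 0 (t - 1) (-t) hd 0 1 (by simpa using hp1) (by simpa using h10)
        (by simpa [add_sub_cancel] using ht)
    obtain ⟨u, hu⟩ : ∃ u : ℤ, (p : ℤ) ∣ 1 + u * (t - 1) := by
      obtain ⟨v, w, hvw⟩ := (Nat.prime_iff_prime_int.mp hp.out).coprime_iff_not_dvd.mpr ht1
      exact ⟨-w, v, by linear_combination -hvw⟩
    have h0u : S (0 + (u * (-t)) * 0) (0 + (u * (-t)) * 1) := hmod _ _ _ _
      (by simpa using hu) (by simp) (hl2 u)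
    have hne1 : ¬ (p : ℤ) ∣ u * (-t) - 1 := fun hd => by
      obtain ⟨w, hw⟩ := hu; obtain ⟨w', hw'⟩ := hd
      -- `u(t-1) = -1` and `-ut = 1` give `u = 0`
      have hu0 : (p : ℤ) ∣ u := ⟨-w - w', by linear_combination -hw - hw'⟩
      obtain ⟨w'', hw''⟩ := hu0
      exact hp1 ⟨w - w'' * (t - 1), by linear_combination hw - (t - 1) * hw''⟩
    have h00 := line 0 0 0 1 (fun hd => hp1 hd.2) (u * (-t)) 1 hne1 h0u (by simpa using h01) 0
    exact hS00 (by simpa using h00)

end Cfsg.Agent.TwoGen45
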