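import Mathlib

/-!
Elementary facts used for two-element generating sets of classical groups: separating commuting elements of coprime
orders, a companion matrix in `SL₂` of order prime to the characteristic, and additive generation of a finite field
by a Lucas sequence.
-/

set_option autoImplicit false

namespace Cfsg.Agent.TwoGenBasic

/-- If commuting `s` and `x` have orders prime to each other, both lie in every subgroup containing `s * x`. -/
theorem split_mem {G : Type*} [Group G] {M : Subgroup G} {s x : G} {p : ℕ} (hp : p.Prime) (hc : Commute s x)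
    (hs : ¬ p ∣ orderOf s) (hx : x ^ p = 1) (h : s * x ∈ M) : s ∈ M ∧ x ∈ M := by
  have hcop : Nat.Coprime (orderOf s) p := ((Nat.Prime.coprime_iff_not_dvd hp).2 hs).symm
  have hN : x ^ orderOf s ∈ M := by
    have := pow_mem h (orderOf s)
    rwa [hc.mul_pow, pow_orderOf_eq_one, one_mul] at this
  obtain ⟨k, hk⟩ : ∃ k : ℕ, (x ^ orderOf s) ^ k = x := by
    refine exists_pow_eq_self_of_coprime ?_
    exact hcop.coprime_dvd_right (orderOf_dvd_of_pow_eq_one hx)
  have hxM : x ∈ M := hk ▸ pow_mem hN k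
  refine ⟨?_, hxM⟩
  have := mul_mem h (inv_mem hxM)
  rwa [mul_inv_cancel_right] at this

section Companion

variable {F : Type*} [Field F]

/-- The companion matrix of `X² - τ X + 1`. -/
def comp2 (τ : F) : Matrix.SpecialLinearGroup (Fin 2) F :=
  ⟨!![0, -1; 1, τ], by simp [Matrix.det_fin_two]⟩

theorem coe_comp2 (τ : F) : (comp2 τ).1 = !![0, -1; 1, τ] := rfl

theorem comp2_pow_lin (τ : F) (j : ℕ) :
    ∃ a b : F, ((comp2 τ) ^ j).1 = a • (1 : Matrix (Fin 2) (Fin 2) F) + b • (comp2 τ).1 := by
  induction j with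
  | zero => exact ⟨1, 0, by simp⟩
  | succ j ih =>
    obtain ⟨a, b, h⟩ := ih
    refine ⟨-b, a + b * τ, ?_⟩
    rw [pow_succ, Matrix.SpecialLinearGroup.coe_mul, h, coe_comp2]
    ext i j
    fin_cases i <;> fin_cases j <;> simp [Matrix.mul_apply, Fin.sum_univ_two] <;> ring

/-- The companion matrix has order prime to the characteristic unless `τ = ±2`. -/
theorem not_dvd_orderOf_comp2 [Fintype F] {p : ℕ} [hp : Fact p.Prime] [CharP F p] {τ : F} (hτ : τ ^ 2 ≠ 4) :
    ¬ p ∣ orderOf (comp2 τ) := by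
  intro hd
  set s := comp2 τ with hs
  have h0 : 0 < orderOf s := orderOf_pos s
  set u := s ^ (orderOf s / p) with hu
  have hup : u ^ p = 1 := by rw [hu, ← pow_mul, Nat.div_mul_cancel hd, pow_orderOf_eq_one]
  have hu1 : u ≠ 1 := pow_ne_one_of_lt_orderOf
    (Nat.div_pos (Nat.le_of_dvd h0 hd) hp.out.pos).ne' (Nat.div_lt_self h0 hp.out.one_lt)
  obtain ⟨a, b, hab⟩ := comp2_pow_lin τ (orderOf s / p)
  rw [← hs, ← hu] at hab
  set z : Matrix (Fin 2) (Fin 2) F := (a - 1) • 1 + b • s.1 with hz
  have hzu : z = u.1 - 1 := by rw [hab, hz, sub_smul, one_smul]; abel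
  have hnil : IsNilpotent z := ⟨p, by
    rw [hzu, sub_pow_char_of_commute _ (Commute.one_right _), one_pow, ← Matrix.SpecialLinearGroup.coe_pow, hup,
      Matrix.SpecialLinearGroup.coe_one, sub_self]⟩
  have htr : z.trace = 0 := (Matrix.isNilpotent_trace_of_isNilpotent hnil).eq_zero
  have hdet : z.det = 0 := by
    obtain ⟨k, hk⟩ := hnil
    exact (pow_eq_zero_iff').1 (show z.det ^ k = 0 by
      rw [← Matrix.det_pow, hk, Matrix.det_zero]) |>.1
  rw [hz, hs, coe_comp2, Matrix.trace_fin_two] at htr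
  rw [hz, hs, coe_comp2, Matrix.det_fin_two] at hdet
  simp at htr hdet
  have hb : b ^ 2 * (4 - τ ^ 2) = 0 := by
    linear_combination 4 * hdet - (a - 1 + (a - 1 + b * τ)) * htr
  have hb0 : b = 0 := by
    rcases mul_eq_zero.1 hb with h | h
    · exact pow_eq_zero_iff two_ne_zero |>.1 h
    · exact absurd (sub_eq_zero.1 h).symm hτ
  subst hb0
  have ha : a = 1 := by
    have : (a - 1) * (a - 1) = 0 := by linear_combination hdet
    exact sub_eq_zero.1 (mul_self_eq_zero.1 this)
  refine hu1 (Subtype.ext ?_)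
  rw [hab, ha]
  simp

/-- The Lucas sequence of `τ`. -/
def luc (τ : F) : ℕ → F
  | 0 => 0
  | 1 => 1
  | n + 2 => τ * luc τ (n + 1) - luc τ n

/-- A field element generating the ring, different from `±2`. -/
theorem exists_tau [Fintype F] :
    ∃ τ : F, τ ^ 2 ≠ 4 ∧ ∀ A : AddSubgroup F, (∀ k, luc τ k ∈ A) → A = ⊤ := by
  obtain ⟨g, hg⟩ := IsCyclic.exists_generator (α := Fˣ)
  have key : ∀ τ : F, ∀ A : AddSubgroup F, (∀ k, luc τ k ∈ A) → ∀ k : ℕ, τ ^ k ∈ A := by
    intro τ A hA
    set B := AddSubgroup.closure (Set.range (luc τ)) with hB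
    have hmul : ∀ x ∈ B, τ * x ∈ B := by
      intro x hx
      induction hx using AddSubgroup.closure_induction with
      | mem x hx =>
        obtain ⟨k, rfl⟩ := hx
        rcases k with _ | k
        · simp [luc]
        · have : τ * luc τ (k + 1) = luc τ (k + 2) + luc τ k := by simp [luc]
          rw [this]
          exact add_mem (AddSubgroup.subset_closure ⟨_, rfl⟩) (AddSubgroup.subset_closure ⟨_, rfl⟩)
      | zero => simp
      | add x y _ _ hx hy => rw [mul_add]; exact add_mem hx hy
      | neg x _ hx => rw [mul_neg]; exact neg_mem hx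
    have hpow : ∀ k : ℕ, τ ^ k ∈ B := by
      intro k
      induction k with
      | zero => rw [pow_zero]; exact AddSubgroup.subset_closure ⟨1, rfl⟩
      | succ k ih => rw [pow_succ']; exact hmul _ ih
    exact fun k => (AddSubgroup.closure_le A).2 (by rintro _ ⟨k, rfl⟩; exact hA k) (hpow k)
  have hall : ∀ x : F, x ≠ 0 → ∃ k : ℕ, (g : F) ^ k = x := by
    intro x hx
    obtain ⟨k, hk⟩ := (IsOfFinOrder.mem_powers_iff_mem_zpowers (isOfFinOrder_of_finite g)).2 (hg (Units.mk0 x hx))
    exact ⟨k, by simpa using congrArg Units.val hk⟩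
  by_cases h4 : (g : F) ^ 2 = 4
  · refine ⟨0, fun h => ?_, fun A hA => ?_⟩
    · rw [zero_pow two_ne_zero] at h
      exact g.ne_zero (pow_eq_zero_iff two_ne_zero |>.1 (h4.trans h.symm))
    · have h1 : (1 : F) ∈ A := hA 1
      have hint : ∀ n : ℤ, (n : F) ∈ A := fun n => by simpa using A.zsmul_mem h1 n
      refine eq_top_iff.2 fun x _ => ?_
      rcases eq_or_ne x 0 with rfl | hx
      · exact zero_mem A
      obtain ⟨k, rfl⟩ := hall x hx
      have hg2 : (g : F) = ((2 : ℤ) : F) ∨ (g : F) = ((-2 : ℤ) : F) := by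
        push_cast
        exact sq_eq_sq_iff_eq_or_eq_neg.1 (by rw [h4]; norm_num)
      rcases hg2 with h | h <;> rw [h, ← Int.cast_pow] <;> exact hint _
  · refine ⟨g, h4, fun A hA => eq_top_iff.2 fun x _ => ?_⟩
    rcases eq_or_ne x 0 with rfl | hx
    · exact zero_mem A
    obtain ⟨k, rfl⟩ := hall x hx
    exact key _ A hA k

end Companion

end Cfsg.Agent.TwoGenBasic
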