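import Mathlib
import Cfsg.Agent.Lib.TwoGenAffine45

/-!
In a minimal simple group without generating pair a Sylow `p`-subgroup, `p ≥ 5`, is cyclic and is
the centraliser of each of its non-identity elements.
-/

set_option autoImplicit false
set_option linter.style.haveILetI false

namespace Cfsg.Agent.TwoGen45

open Subgroup

universe u

variable {G : Type u} [Group G] {p : ℕ} [hp : Fact p.Prime]

theorem Hyp.sylow_cyclic (h : Hyp G) [Finite G] (hp5 : 5 ≤ p) (S : Sylow p G) : IsCyclic S := by
  classical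
  by_cases hpG : p ∣ Nat.card G
  swap
  · have h1 : (S : Subgroup G) = ⊥ := by
      obtain ⟨n, hn⟩ := IsPGroup.iff_card.mp S.isPGroup'
      rcases n with _ | n
      · exact card_eq_one.mp (by simpa using hn)
      · exact absurd ((dvd_pow_self p n.succ_ne_zero).trans (hn ▸ card_subgroup_dvd_card _)) hpG
    show IsCyclic (S : Subgroup G)
    rw [h1]
    infer_instance
  obtain ⟨M, hM, T, hTM⟩ := h.exists_embedded hp5 hpG
  have hp2 : p ≠ 2 := by omega
  suffices IsCyclic T from isCyclic_of_surjective (T.equiv S).toMonoidHom (T.equiv S).surjective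
  have huniq : ∀ A C : Subgroup T, Nat.card A = p → Nat.card C = p → A = C := by
    intro A C hA hC
    by_contra hne
    haveI : Nontrivial T := (nontrivial_iff_ne_bot (T : Subgroup G)).mpr (T.ne_bot_of_dvd_card hpG)
    haveI := T.isPGroup'.center_nontrivial
    obtain ⟨z, hz⟩ : ∃ z : Subgroup.center T, orderOf z = p := by
      obtain ⟨k, hk⟩ := IsPGroup.iff_card.mp (T.isPGroup'.to_subgroup (Subgroup.center T))
      refine exists_prime_orderOf_dvd_card' p ?_
      have h1 : 1 < Nat.card (Subgroup.center T) := Finite.one_lt_card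
      rw [hk] at h1 ⊢
      exact dvd_pow_self p (by rintro rfl; simp at h1)
    have hzT : orderOf (z : T) = p := by rw [orderOf_coe]; exact hz
    obtain ⟨a, hao, haz⟩ : ∃ a : T, a ^ p = 1 ∧ a ∉ zpowers (z : T) := by
      by_contra! hall
      apply hne
      have : ∀ D : Subgroup T, Nat.card D = p → D = zpowers (z : T) := by
        intro D hD
        refine Subgroup.eq_of_le_of_card_ge (fun d hd => hall d ?_)
          (by rw [hD, Nat.card_zpowers, hzT])
        have : (⟨d, hd⟩ : D) ^ Nat.card D = 1 := pow_card_eq_one'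
        rw [hD] at this
        exact congrArg Subtype.val this
      rw [this A hA, this C hC]
    refine hM.no_pair h hp2 (a := (a : G)) (b := ((z : T) : G)) (hTM a.2) (hTM (z : T).2)
      (congrArg Subtype.val (mem_center_iff.mp z.2 a)) (congrArg Subtype.val hao)
      (by rw [orderOf_coe]; exact hzT) fun hmem => haz ?_
    obtain ⟨i, hi⟩ := mem_zpowers_iff.mp hmem
    exact mem_zpowers_iff.mpr ⟨i, Subtype.ext (by rw [Subgroup.coe_zpow]; exact hi)⟩
  rcases PGroupsCyclic.isCyclic_or_quaternion T.isPGroup' huniq with h' | ⟨h', -⟩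
  · exact h'
  · exact absurd h' hp2

theorem Hyp.commute_sylow (h : Hyp G) [Finite G] (hp5 : 5 ≤ p) (S : Sylow p G) {a b : G}
    (ha : a ∈ (S : Subgroup G)) (hb : b ∈ (S : Subgroup G)) : Commute a b := by
  haveI := h.sylow_cyclic hp5 S
  letI := IsCyclic.commGroup (α := S)
  exact congrArg Subtype.val (mul_comm (⟨a, ha⟩ : S) ⟨b, hb⟩)

/-- The centraliser of an element of order `p`. -/
theorem Hyp.centralizer_eq (h : Hyp G) [Finite G] (hp5 : 5 ≤ p) (S : Sylow p G) {x : G}
    (hx : x ∈ (S : Subgroup G)) (hxo : orderOf x = p) :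
    centralizer ({x} : Set G) = (S : Subgroup G) := by
  have hx1 : x ≠ 1 := fun e => hp.out.one_lt.ne (by rw [← hxo, e, orderOf_one])
  set C := centralizer ({x} : Set G) with hC
  have hSC : (S : Subgroup G) ≤ C := fun s hs => mem_centralizer_iff.mpr fun w hw => by
    rw [Set.mem_singleton_iff] at hw
    subst hw
    exact (h.commute_sylow hp5 S hx hs).eq
  haveI : Group.IsSolvable C := h.proper _ (h.centralizer_ne_top hx1)
  set T : Sylow p C := S.subtype hSC
  haveI : IsCyclic T := by
    haveI := h.sylow_cyclic hp5 S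
    exact isCyclic_of_surjective (subgroupOfEquivOfLe hSC).symm.toMonoidHom
      (subgroupOfEquivOfLe hSC).symm.surjective
  have hO : Cfsg.pPrimeCore p C = ⊥ := h.core_centralizer hx1 (k := 1) (by rw [hxo, pow_one])
  set B := Cfsg.pCore p C with hB
  haveI hBn : B.Normal := HallCore.pCore_normal p C
  have hcB : centralizer (B : Set C) ≤ B :=
    HallSolvable.centralizer_pCore_le (HallSolvable.isPSolvable_of_solvable p) hO
  have hBT : B ≤ (T : Subgroup C) := HallCore.pCore_le_sylow T
  have hTB : (T : Subgroup C) ≤ B := by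
    refine le_trans (fun y hy => mem_centralizer_iff.mpr fun b hb => ?_) hcB
    letI := IsCyclic.commGroup (α := T)
    exact congrArg Subtype.val (mul_comm (⟨b, hBT hb⟩ : T) ⟨y, hy⟩)
  have hBeq : B = (T : Subgroup C) := le_antisymm hBT hTB
  haveI : IsCyclic B := hBeq ▸ (inferInstance : IsCyclic T)
  have hidx : ¬ p ∣ B.index := hBeq ▸ T.not_dvd_index
  refine le_antisymm (fun c hc => ?_) hSC
  by_contra hcS
  set cc : C := ⟨c, hc⟩
  set xx : C := ⟨x, hSC hx⟩
  have hxB : xx ∈ B := hTB (show xx ∈ (T : Subgroup C) from mem_subgroupOf.mpr hx)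
  have hcB' : cc ∉ B := fun hm => hcS (mem_subgroupOf.mp (show cc ∈ (T : Subgroup C) from hBT hm))
  have hBp : IsPGroup p B := HallCore.isPGroup_pCore p C
  have hccop := coprime_of_not_mem hBp hidx hcB hcB'
  have hcx : cc * xx ∉ B := fun hm => hcB' (by
    have := mul_mem hm (inv_mem hxB)
    rwa [mul_inv_cancel_right] at this)
  have h2 := coprime_of_not_mem hBp hidx hcB hcx
  have hxxo : orderOf xx = p := by rw [← orderOf_coe]; exact hxo
  have hcomm : Commute cc xx := Subtype.ext (mem_centralizer_iff.mp hc x rfl).symm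
  rw [hcomm.orderOf_mul_eq_mul_orderOf_of_coprime (by rw [hxxo]; exact hccop), hxxo] at h2
  exact hp.out.one_lt.ne' (Nat.eq_one_of_dvd_coprimes h2 (dvd_mul_left p _) dvd_rfl)

/-- The centraliser of a non-identity element. -/
theorem Hyp.centralizer_le (h : Hyp G) [Finite G] (hp5 : 5 ≤ p) (S : Sylow p G) {s : G}
    (hs : s ∈ (S : Subgroup G)) (hs1 : s ≠ 1) : centralizer ({s} : Set G) ≤ (S : Subgroup G) := by
  obtain ⟨k, hk⟩ := IsPGroup.iff_orderOf.mp S.isPGroup' ⟨s, hs⟩
  rw [← orderOf_coe] at hk
  rcases k with _ | k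
  · exact absurd (orderOf_eq_one_iff.mp (by simpa using hk)) hs1
  have hxo : orderOf (s ^ p ^ k) = p := by
    rw [orderOf_pow, hk, Nat.gcd_eq_right (pow_dvd_pow p k.le_succ),
      Nat.pow_div k.le_succ hp.out.pos, Nat.sub_eq_of_eq_add (Nat.add_comm k 1), pow_one]
  rw [← h.centralizer_eq hp5 S (pow_mem hs (p ^ k)) hxo]
  intro c hc
  refine mem_centralizer_iff.mpr fun w hw => ?_
  rw [Set.mem_singleton_iff] at hw
  subst hw
  exact ((show Commute s c from mem_centralizer_iff.mp hc s rfl).pow_left _).eq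

/-- The index of `S` in its normalizer is at most `p - 1`. -/
theorem Hyp.card_normalizer_le (h : Hyp G) [Finite G] (hp5 : 5 ≤ p) (S : Sylow p G)
    (hS : (S : Subgroup G) ≠ ⊥) :
    Nat.card (normalizer (S : Set G)) ≤ (p - 1) * Nat.card S := by
  classical
  haveI := h.sylow_cyclic hp5 S
  obtain ⟨x, hxS, hxo⟩ : ∃ x ∈ (S : Subgroup G), orderOf x = p := by
    obtain ⟨n, hn⟩ := IsPGroup.iff_card.mp S.isPGroup'
    obtain ⟨y, hy⟩ := exists_prime_orderOf_dvd_card' p (show p ∣ Nat.card S by
      rw [hn]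
      exact dvd_pow_self p (by rintro rfl; exact hS (card_eq_one.mp (by simpa using hn))))
    exact ⟨y, y.2, by rw [orderOf_coe]; exact hy⟩
  have hx1 : x ≠ 1 := fun e => hp.out.one_lt.ne (by rw [← hxo, e, orderOf_one])
  set N := normalizer (S : Set G) with hN
  set K : Subgroup N := (S : Subgroup G).subgroupOf N
  have hmem : ∀ g : N, (g : G) * x * (g : G)⁻¹ ∈ zpowers x := by
    intro g
    have h1 : (g : G) * x * (g : G)⁻¹ ∈ (S : Subgroup G) :=
      (mem_normalizer_iff.mp g.2 x).mp hxS
    rw [← PGroupsCyclic.eq_of_card_eq_of_isCyclic (A := (S : Subgroup G)) inferInstance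
      (zpowers_le.mpr h1) (zpowers_le.mpr hxS)
      (by rw [Nat.card_zpowers, Nat.card_zpowers, ← MulAut.conj_apply, MulEquiv.orderOf_eq])]
    exact mem_zpowers _
  let f : N ⧸ K → {y : zpowers x // y ≠ 1} := fun q =>
    ⟨⟨(q.out : G) * x * (q.out : G)⁻¹, hmem q.out⟩, fun e => hx1 (by
      have e1 : (q.out : G) * x * (q.out : G)⁻¹ = 1 := congrArg Subtype.val e
      simpa [mul_inv_eq_one] using e1)⟩
  have hf : Function.Injective f := by
    intro q r e
    have e1 : (q.out : G) * x * (q.out : G)⁻¹ = (r.out : G) * x * (r.out : G)⁻¹ :=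
      congrArg (fun y : {y : zpowers x // y ≠ 1} => ((y.1 : zpowers x) : G)) e
    have h3 : (q.out : N)⁻¹ * r.out ∈ K := by
      refine mem_subgroupOf.mpr ?_
      rw [← h.centralizer_eq hp5 S hxS hxo]
      refine mem_centralizer_iff.mpr fun w hw => ?_
      rw [Set.mem_singleton_iff] at hw
      subst hw
      rw [coe_mul, coe_inv]
      calc w * ((q.out : G)⁻¹ * r.out) = (q.out : G)⁻¹ * ((q.out : G) * w * (q.out : G)⁻¹) * r.out :=
            by group
        _ = (q.out : G)⁻¹ * ((r.out : G) * w * (r.out : G)⁻¹) * r.out := by rw [e1]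
        _ = (q.out : G)⁻¹ * r.out * w := by group
    rw [← QuotientGroup.out_eq' q, ← QuotientGroup.out_eq' r]
    exact QuotientGroup.eq.mpr h3
  have hc : Nat.card {y : zpowers x // y ≠ 1} = p - 1 := by
    haveI := Fintype.ofFinite (zpowers x)
    rw [Nat.card_eq_fintype_card, Fintype.card_subtype_compl, Fintype.card_subtype_eq,
      ← Nat.card_eq_fintype_card, Nat.card_zpowers, hxo]
  rw [card_eq_card_quotient_mul_card_subgroup K,
    show Nat.card K = Nat.card S from
      Nat.card_congr (subgroupOfEquivOfLe (le_normalizer (H := (S : Subgroup G)))).toEquiv]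
  exact Nat.mul_le_mul_right _ (hc ▸ Nat.card_le_card_of_injective f hf)

end Cfsg.Agent.TwoGen45
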