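import Mathlib
import Cfsg.Agent.Lib.TwoGenCyclic45
import Cfsg.Agent.Lib.FrobeniusFPF
import Cfsg.Agent.Lib.FrobeniusNilpotent

/-!
The maximal subgroups over a Sylow subgroup `S` for the largest prime `p`: they are
`O (N(S) ⊓ H)` with `O` an `r`-group, `r ∈ {2, 3}`, and two different ones meet `S`-invariantly
only in `N(S)`.
-/

set_option autoImplicit false
set_option linter.style.haveILetI false

namespace Cfsg.Agent.TwoGen45

open Subgroup

universe u

variable {G : Type u} [Group G] {p : ℕ} [hp : Fact p.Prime]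

/-- The standing assumptions: `p` is the largest prime divisor, at least `5`, `S` a Sylow subgroup
and `x` an element of order `p` of it. -/
structure Setup (S : Sylow p G) (x : G) : Prop where
  hyp : Hyp G
  five : 5 ≤ p
  largest : ∀ r : ℕ, r.Prime → r ∣ Nat.card G → r ≤ p
  mem : x ∈ (S : Subgroup G)
  order : orderOf x = p

/-- A maximal subgroup over `S` other than `N(S)`. -/
def IsBlk (S : Sylow p G) (H : Subgroup G) : Prop :=
  IsCoatom H ∧ (S : Subgroup G) ≤ H ∧ ¬ H ≤ normalizer (S : Set G)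

/-- The radical of a block. -/
def rad (p : ℕ) (H : Subgroup G) : Subgroup G := (Cfsg.pPrimeCore p H).map H.subtype

variable [Finite G] {S : Sylow p G} {x : G} {H : Subgroup G}

omit hp in
theorem coprime_rad (p : ℕ) (H : Subgroup G) : (Nat.card (rad p H)).Coprime p := by
  rw [rad, card_map_of_injective H.subtype_injective]
  exact HallCore.coprime_card_pPrimeCore p H

omit hp in
theorem le_normalizer_rad (p : ℕ) (H : Subgroup G) : H ≤ normalizer (rad p H : Set G) := by
  haveI := HallCore.pPrimeCore_normal p H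
  exact LocalBasics.le_normalizer_map_normal H _

theorem Setup.x_ne_one (hs : Setup S x) : x ≠ 1 := fun e =>
  hp.out.one_lt.ne (by rw [← hs.order, e, orderOf_one])

theorem Setup.sylow_ne_bot (hs : Setup S x) : (S : Subgroup G) ≠ ⊥ := fun e =>
  hs.x_ne_one (mem_bot.mp (e ▸ hs.mem))

theorem Setup.cent (hs : Setup S x) : centralizer ({x} : Set G) = (S : Subgroup G) :=
  hs.hyp.centralizer_eq hs.five S hs.mem hs.order

/-- `S` meets a `p'`-group trivially. -/
theorem inf_eq_bot_of_coprime' {W : Subgroup G} (hW : (Nat.card W).Coprime p) :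
    (S : Subgroup G) ⊓ W = ⊥ := by
  obtain ⟨n, hn⟩ := IsPGroup.iff_card.mp S.isPGroup'
  exact HallCore.disjoint_of_coprime_card (by rw [hn]; exact hW.symm.pow_left n)

theorem Setup.fixed_eq_one (hs : Setup S x) {W : Subgroup G} (hW : (Nat.card W).Coprime p)
    {w : G} (hw : w ∈ W) (hc : x * w = w * x) : w = 1 := by
  have h1 : w ∈ (S : Subgroup G) ⊓ W := mem_inf.mpr ⟨hs.cent ▸ mem_centralizer_iff.mpr (fun z hz => by
    rw [Set.mem_singleton_iff] at hz; subst hz; exact hc), hw⟩
  rw [inf_eq_bot_of_coprime' hW, mem_bot] at h1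
  exact h1

/-- An `S`-invariant `p'`-subgroup is nilpotent. -/
theorem Setup.nilpotent (hs : Setup S x) {W : Subgroup G} (hW : (Nat.card W).Coprime p)
    (hSW : (S : Subgroup G) ≤ normalizer (W : Set G)) : Group.IsNilpotent W := by
  letI := FrobeniusFPF.conjAction (S : Subgroup G) W hSW
  refine FrobeniusNilpotent.isNilpotent_of_fpf
    (MulDistribMulAction.toMulAut (S : Subgroup G) W ⟨x, hs.mem⟩) (fun w hw => ?_) p hp.out ?_
  · refine Subtype.ext (hs.fixed_eq_one hW w.2 ?_)
    have e : x * (w : G) * x⁻¹ = w := congrArg Subtype.val hw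
    exact mul_inv_eq_iff_eq_mul.mp e
  · rw [← map_pow]
    have : (⟨x, hs.mem⟩ : (S : Subgroup G)) ^ p = 1 := Subtype.ext (by
      rw [coe_pow]; exact orderOf_dvd_iff_pow_eq_one.mp (dvd_of_eq hs.order))
    rw [this, map_one]

/-- The order of an `S`-invariant `p'`-subgroup is `1` modulo `p`. -/
theorem Setup.card_modEq (hs : Setup S x) {W : Subgroup G} (hW : (Nat.card W).Coprime p)
    (hxW : x ∈ normalizer (W : Set G)) : Nat.card W ≡ 1 [MOD p] := by
  letI := FrobeniusFPF.conjAction (zpowers x) W (zpowers_le.mpr hxW)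
  have hP : IsPGroup p (zpowers x) :=
    IsPGroup.of_card (n := 1) (by rw [Nat.card_zpowers, pow_one, hs.order])
  refine (hP.card_modEq_card_fixedPoints W).trans ?_
  rw [show MulAction.fixedPoints (zpowers x) W = {1} from Set.ext fun w => ?_]
  · simp
    rfl
  · simp only [MulAction.mem_fixedPoints, Set.mem_singleton_iff]
    refine ⟨fun hw => Subtype.ext (hs.fixed_eq_one hW w.2 ?_), fun hw b => hw ▸ smul_one b⟩
    have e : x * (w : G) * x⁻¹ = w := congrArg Subtype.val (hw ⟨x, mem_zpowers x⟩)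
    exact mul_inv_eq_iff_eq_mul.mp e

theorem Setup.blk_solvable (hs : Setup S x) (hH : IsBlk S H) : Group.IsSolvable H :=
  hs.hyp.proper H hH.1.1

/-- The radical of a block is an `r`-group, `r ∈ {2, 3}`, and `H` is its normalizer. -/
theorem Setup.exists_prime (hs : Setup S x) (hH : IsBlk S H) :
    ∃ r : ℕ, r.Prime ∧ (r = 2 ∨ r = 3) ∧ IsPGroup r (rad p H) ∧ rad p H ≠ ⊥ ∧
      H = normalizer (rad p H : Set G) ∧ centralizer (rad p H : Set G) ≤ rad p H := by
  classical
  haveI := hs.blk_solvable hH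
  haveI : Nontrivial H := by
    refine (nontrivial_iff_ne_bot H).mpr fun e => hs.sylow_ne_bot ?_
    exact le_bot_iff.mp (e ▸ hH.2.1)
  obtain ⟨V, hV⟩ := HallSolvable.exists_minNormal (G := H)
  haveI := hV.normal
  obtain ⟨r, hr, -, hVr⟩ := hV.exists_prime
  haveI := Fact.mk hr
  set R := Cfsg.pCoreOf r H with hR
  have hRp : IsPGroup r R := LocalBasics.isPGroup_pCoreOf r H
  have hR1 : R ≠ ⊥ := by
    intro e
    have h1 : Cfsg.pCore r H = ⊥ :=
      (Subgroup.map_eq_bot_iff_of_injective _ H.subtype_injective).mp e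
    exact hV.ne_bot (le_bot_iff.mp (h1 ▸ HallCore.le_pCore hVr))
  have hRH : R ≤ H := LocalBasics.pCoreOf_le r H
  have hHR : H ≤ normalizer (R : Set G) := LocalBasics.le_normalizer_pCoreOf r H
  have hHeq : H = normalizer (R : Set G) := hs.hyp.coatom_eq_normalizer hH.1 hRp hR1 hHR
  have hCR : centralizer (R : Set G) ≤ H := hHeq ▸ centralizer_le_normalizer (R : Set G)
  have hO : Cfsg.pPrimeCore r H = ⊥ := hs.hyp.core_local hRp hR1 hRH hHR hCR
  have hCC : centralizer (R : Set G) ≤ R := by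
    have h1 := HallSolvable.centralizer_pCore_le (HallSolvable.isPSolvable_of_solvable r) hO
    intro c hc
    refine mem_map.mpr ⟨⟨c, hCR hc⟩, h1 (mem_centralizer_iff.mpr fun y hy => Subtype.ext ?_), rfl⟩
    exact mem_centralizer_iff.mp hc y (mem_map.mpr ⟨y, hy, rfl⟩)
  have hrp : r ≠ p := by
    intro e
    subst e
    refine hH.2.2 ?_
    have hRS : R ≤ (S : Subgroup G) := by
      intro y hy
      obtain ⟨z, hz, rfl⟩ := mem_map.mp hy
      exact mem_subgroupOf.mp (show z ∈ (S.subtype hH.2.1 : Subgroup H) from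
        HallCore.pCore_le_sylow _ hz)
    have hSR : (S : Subgroup G) ≤ R := le_trans (fun s hs' => mem_centralizer_iff.mpr fun y hy =>
      (hs.hyp.commute_sylow hs.five S (hRS hy) hs').eq) hCC
    have heq : R = (S : Subgroup G) := le_antisymm hRS hSR
    have h5 : H ≤ normalizer ((S : Subgroup G) : Set G) := heq ▸ hHR
    exact h5
  have hRcop : (Nat.card R).Coprime p := by
    obtain ⟨n, hn⟩ := IsPGroup.iff_card.mp hRp
    rw [hn]
    exact ((Nat.coprime_primes hr hp.out).mpr hrp).pow_left n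
  -- `r < 5`
  have hr5 : r < 5 := by
    by_contra hge
    push Not at hge
    obtain ⟨Q, hQ⟩ := hRp.exists_le_sylow
    haveI := hs.hyp.sylow_cyclic hge Q
    obtain ⟨z, hzR, hzo⟩ : ∃ z ∈ R, orderOf z = r := by
      obtain ⟨n, hn⟩ := IsPGroup.iff_card.mp hRp
      obtain ⟨y, hy⟩ := exists_prime_orderOf_dvd_card' r (show r ∣ Nat.card R by
        rw [hn]
        exact dvd_pow_self r (by rintro rfl; exact hR1 (card_eq_one.mp (by simpa using hn))))
      exact ⟨y, y.2, by rw [orderOf_coe]; exact hy⟩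
    have hrlt : r < p := lt_of_le_of_ne
      (hs.largest r hr (hzo ▸ orderOf_dvd_natCard z)) hrp
    have hmem : ∀ i : ℕ, x ^ i * z * (x ^ i)⁻¹ ∈ zpowers z := by
      intro i
      have h1 : x ^ i * z * (x ^ i)⁻¹ ∈ R :=
        (mem_normalizer_iff.mp (hHR (hH.2.1 (pow_mem hs.mem i))) z).mp hzR
      rw [← PGroupsCyclic.eq_of_card_eq_of_isCyclic (A := (Q : Subgroup G)) inferInstance
        (zpowers_le.mpr (hQ h1)) (zpowers_le.mpr (hQ hzR))
        (by rw [Nat.card_zpowers, Nat.card_zpowers, ← MulAut.conj_apply, MulEquiv.orderOf_eq])]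
      exact mem_zpowers _
    let f : Fin p → zpowers z := fun i => ⟨_, hmem i⟩
    have hcard : Nat.card (zpowers z) < Nat.card (Fin p) := by
      rw [Nat.card_zpowers, hzo, Nat.card_eq_fintype_card, Fintype.card_fin]; exact hrlt
    obtain ⟨i, j, hij, hfij⟩ : ∃ i j : Fin p, i < j ∧ f i = f j := by
      by_contra! hall
      refine absurd (Nat.card_le_card_of_injective f fun i j e => ?_) (not_le.mpr hcard)
      rcases lt_trichotomy i j with h' | h' | h'
      · exact absurd e (hall i j h')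
      · exact h'
      · exact absurd e.symm (hall j i h')
    have e1 : x ^ (i : ℕ) * z * (x ^ (i : ℕ))⁻¹ = x ^ (j : ℕ) * z * (x ^ (j : ℕ))⁻¹ :=
      congrArg Subtype.val hfij
    obtain ⟨d, hd⟩ := Nat.exists_eq_add_of_le (show (i : ℕ) ≤ j from le_of_lt hij)
    have e2 : x ^ d * z * (x ^ d)⁻¹ = z := by
      rw [hd, pow_add, mul_inv_rev] at e1
      calc x ^ d * z * (x ^ d)⁻¹
          = (x ^ (i : ℕ))⁻¹ * (x ^ (i : ℕ) * x ^ d * z * ((x ^ d)⁻¹ * (x ^ (i : ℕ))⁻¹)) *
              x ^ (i : ℕ) := by group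
        _ = (x ^ (i : ℕ))⁻¹ * (x ^ (i : ℕ) * z * (x ^ (i : ℕ))⁻¹) * x ^ (i : ℕ) := by rw [e1]
        _ = z := by group
    have hdlt : d < p := by
      have := j.2
      omega
    have hd0 : 0 < d := by
      have : (i : ℕ) < j := hij
      omega
    obtain ⟨u, hu⟩ := exists_pow_eq_self_of_coprime (x := x) (n := d) (by
      rw [hs.order, Nat.coprime_comm, hp.out.coprime_iff_not_dvd]
      exact fun hdv => absurd (Nat.le_of_dvd hd0 hdv) (not_le.mpr hdlt))
    have hxz : x * z = z * x := by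
      have h2 : Commute (x ^ d) z := mul_inv_eq_iff_eq_mul.mp e2
      have h3 := h2.pow_left u
      rw [hu] at h3
      exact h3.eq
    exact hp.out.one_lt.ne' (by
      have h4 := hs.fixed_eq_one hRcop hzR hxz
      rw [h4, orderOf_one] at hzo
      exact absurd hzo hr.one_lt.ne)
  have hr23 : r = 2 ∨ r = 3 := by
    have := hr.two_le
    interval_cases r
    · exact Or.inl rfl
    · exact Or.inr rfl
    · exact absurd hr (by norm_num)
  -- the `p'`-core is `R`
  haveI hYn := HallCore.pPrimeCore_normal p H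
  have hnil := hs.nilpotent (coprime_rad p H) (hH.2.1.trans (le_normalizer_rad p H))
  set Y := Cfsg.pPrimeCore p H with hY
  haveI : Group.IsNilpotent Y :=
    Group.isNilpotent_congr (Y.equivMapOfInjective H.subtype H.subtype_injective) |>.mpr hnil
  have hYr : IsPGroup r Y := by
    have hall : ∀ s : ℕ, s.Prime → s ∣ Nat.card Y → s = r := by
      intro s hs' hd
      by_contra hne
      haveI := Fact.mk hs'
      obtain ⟨P⟩ : Nonempty (Sylow s Y) := inferInstance
      haveI hPn : (P : Subgroup Y).Normal :=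
        P.normal_of_normalizerCondition Group.normalizerCondition_of_isNilpotent
      haveI : (P : Subgroup Y).Characteristic := P.characteristic_of_normal hPn
      have hle : (P : Subgroup Y).map Y.subtype ≤ Cfsg.pPrimeCore r H := by
        refine HallCore.le_pPrimeCore ?_
        rw [card_map_of_injective Y.subtype_injective]
        obtain ⟨n, hn⟩ := IsPGroup.iff_card.mp P.isPGroup'
        rw [hn]
        exact ((Nat.coprime_primes hs' hr).mpr hne).pow_left n
      rw [hO, le_bot_iff, Subgroup.map_eq_bot_iff_of_injective _ Y.subtype_injective] at hle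
      exact P.ne_bot_of_dvd_card hd hle
    rcases eq_or_ne (Nat.card Y) 1 with h1 | h1
    · exact IsPGroup.of_card (n := 0) (by simpa using h1)
    · exact IsPGroup.of_card (n := (Nat.card Y).primeFactorsList.length)
        (Nat.eq_prime_pow_of_unique_prime_dvd Nat.card_pos.ne' fun {d} hd hdd => hall d hd hdd)
  have hYR : rad p H = R := by
    refine le_antisymm (map_mono (HallCore.le_pCore hYr)) (map_mono ?_)
    haveI := HallCore.pCore_normal r H
    refine HallCore.le_pPrimeCore ?_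
    rw [← card_map_of_injective H.subtype_injective]
    exact hRcop
  exact ⟨r, hr, hr23, hYR ▸ hRp, hYR ▸ hR1, hYR ▸ hHeq, hYR ▸ hCC⟩

/-- The quotient by the radical: the image of `S` is normal, self-centralising and cyclic. -/
theorem Setup.quotient (hs : Setup S x) (hH : IsBlk S H) :
    ∃ (B : Subgroup (H ⧸ Cfsg.pPrimeCore p H)),
      haveI := HallCore.pPrimeCore_normal p H
      B.Normal ∧ IsPGroup p B ∧ IsCyclic B ∧ ¬ p ∣ B.index ∧
        centralizer (B : Set (H ⧸ Cfsg.pPrimeCore p H)) ≤ B ∧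
        ((S.subtype hH.2.1 : Sylow p H) : Subgroup H).map (QuotientGroup.mk' _) = B := by
  haveI := hs.blk_solvable hH
  haveI := HallCore.pPrimeCore_normal p H
  haveI := hs.hyp.sylow_cyclic hs.five S
  set T : Sylow p H := S.subtype hH.2.1
  haveI : IsCyclic T :=
    isCyclic_of_surjective (subgroupOfEquivOfLe hH.2.1).symm.toMonoidHom
      (subgroupOfEquivOfLe hH.2.1).symm.surjective
  set π := QuotientGroup.mk' (Cfsg.pPrimeCore p H)
  set B := Cfsg.pCore p (H ⧸ Cfsg.pPrimeCore p H) with hB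
  haveI hBn : B.Normal := HallCore.pCore_normal p _
  have hc : centralizer (B : Set (H ⧸ Cfsg.pPrimeCore p H)) ≤ B :=
    HallSolvable.centralizer_pCore_le (HallSolvable.isPSolvable_of_solvable p)
      (HallCore.pPrimeCore_quotient_self p H)
  have hBT : B ≤ (T : Subgroup H).map π := by
    have := HallCore.pCore_le_sylow (T.mapSurjective (QuotientGroup.mk'_surjective (Cfsg.pPrimeCore p H)))
    rwa [Sylow.coe_mapSurjective] at this
  haveI : IsCyclic ((T : Subgroup H).map π) :=
    isCyclic_of_surjective (π.subgroupMap (T : Subgroup H)) (π.subgroupMap_surjective _)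
  have hTB : (T : Subgroup H).map π ≤ B := le_trans (fun y hy => mem_centralizer_iff.mpr fun b hb => by
    letI := IsCyclic.commGroup (α := (T : Subgroup H).map π)
    exact congrArg Subtype.val (mul_comm (⟨b, hBT hb⟩ : (T : Subgroup H).map π) ⟨y, hy⟩)) hc
  have heq : B = (T : Subgroup H).map π := le_antisymm hBT hTB
  refine ⟨B, hBn, HallCore.isPGroup_pCore p _, heq ▸ inferInstance, ?_, hc, heq.symm⟩
  rw [heq, ← Sylow.coe_mapSurjective (QuotientGroup.mk'_surjective _) T]
  exact (T.mapSurjective (QuotientGroup.mk'_surjective _)).not_dvd_index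

/-- An `S`-invariant `p'`-subgroup of a block lies in the radical. -/
theorem Setup.le_rad (hs : Setup S x) (hH : IsBlk S H) {W : Subgroup G} (hWH : W ≤ H)
    (hW : (Nat.card W).Coprime p) (hSW : (S : Subgroup G) ≤ normalizer (W : Set G)) :
    W ≤ rad p H := by
  haveI := HallCore.pPrimeCore_normal p H
  obtain ⟨B, hBn, hBp, -, -, -, hBT⟩ := hs.quotient hH
  let φ : W → W := fun w => ⟨(w : G) * (x * (w : G)⁻¹ * x⁻¹),
    mul_mem w.2 ((mem_normalizer_iff.mp (hSW hs.mem) _).mp (inv_mem w.2))⟩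
  have hφ : Function.Injective φ := by
    intro v w e
    have e1 : (v : G) * (x * (v : G)⁻¹ * x⁻¹) = (w : G) * (x * (w : G)⁻¹ * x⁻¹) :=
      congrArg Subtype.val e
    have h1 : (w : G)⁻¹ * v = 1 := by
      refine hs.fixed_eq_one hW (mul_mem (inv_mem w.2) v.2) ?_
      calc x * ((w : G)⁻¹ * v) = (w : G)⁻¹ * ((w : G) * (x * (w : G)⁻¹ * x⁻¹)) * x * v := by group
        _ = (w : G)⁻¹ * ((v : G) * (x * (v : G)⁻¹ * x⁻¹)) * x * v := by rw [e1]
        _ = (w : G)⁻¹ * v * x := by group
    exact Subtype.ext (inv_mul_eq_one.mp h1).symm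
  intro y hy
  obtain ⟨w, hw⟩ := Finite.surjective_of_injective hφ ⟨y, hy⟩
  have e : (w : G) * (x * (w : G)⁻¹ * x⁻¹) = y := congrArg Subtype.val hw
  set xh : H := ⟨x, hH.2.1 hs.mem⟩
  set wh : H := ⟨w, hWH w.2⟩
  set yh : H := ⟨y, hWH hy⟩
  set π := QuotientGroup.mk' (Cfsg.pPrimeCore p H)
  have hxB : π xh ∈ B := hBT ▸ mem_map_of_mem π (mem_subgroupOf.mpr hs.mem)
  have hyh : yh = wh * xh * wh⁻¹ * xh⁻¹ := Subtype.ext (by
    rw [show (yh : G) = y from rfl, ← e]
    simp [wh, xh, mul_assoc])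
  have hyB : π yh ∈ B := by
    rw [hyh]
    simp only [map_mul, map_inv]
    exact mul_mem (hBn.conj_mem _ hxB _) (inv_mem hxB)
  obtain ⟨n, hn⟩ := IsPGroup.iff_orderOf.mp hBp ⟨_, hyB⟩
  rw [← orderOf_coe] at hn
  have hyo : (orderOf (π yh)).Coprime p :=
    (hW.coprime_dvd_left (orderOf_dvd_natCard W hy)).coprime_dvd_left
      ((orderOf_map_dvd π yh).trans (dvd_of_eq (orderOf_coe yh).symm))
  have h1 : π yh = 1 := orderOf_eq_one_iff.mp
    (Nat.eq_one_of_dvd_coprimes (hyo.pow_right n) dvd_rfl (dvd_of_eq hn))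
  exact mem_map.mpr ⟨yh, (QuotientGroup.eq_one_iff _).mp h1, rfl⟩

/-- A `p'`-subgroup normalised by `S` meets `N(S)` trivially. -/
theorem Setup.inf_normalizer (hs : Setup S x) {W : Subgroup G} (hW : (Nat.card W).Coprime p)
    (hSW : (S : Subgroup G) ≤ normalizer (W : Set G)) {w : G} (hw : w ∈ W)
    (hwN : w ∈ normalizer (S : Set G)) : w = 1 := by
  refine hs.fixed_eq_one hW hw ?_
  have h1 : w * x * w⁻¹ * x⁻¹ ∈ (S : Subgroup G) ⊓ W := by
    refine mem_inf.mpr ⟨mul_mem ((mem_normalizer_iff.mp hwN x).mp hs.mem) (inv_mem hs.mem), ?_⟩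
    rw [mul_assoc, mul_assoc, ← mul_assoc x]
    exact mul_mem hw ((mem_normalizer_iff.mp (hSW hs.mem) _).mp (inv_mem hw))
  rw [inf_eq_bot_of_coprime' hW, mem_bot, mul_inv_eq_one, mul_inv_eq_iff_eq_mul] at h1
  exact h1.symm

/-- A subgroup with a nontrivial `S`-invariant `p'`-subgroup is not inside `N(S)`. -/
theorem Setup.not_le_normalizer (hs : Setup S x) {W K : Subgroup G} (hWK : W ≤ K)
    (hW : (Nat.card W).Coprime p) (hSW : (S : Subgroup G) ≤ normalizer (W : Set G))
    (hW1 : W ≠ ⊥) : ¬ K ≤ normalizer (S : Set G) := fun hK =>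
  hW1 ((eq_bot_iff_forall _).mpr fun _ hw => hs.inf_normalizer hW hSW hw (hK (hWK hw)))

/-- A nontrivial `S`-invariant `p'`-subgroup lies in only one block. -/
theorem Setup.blk_unique (hs : Setup S x) : ∀ (W H H' : Subgroup G), IsBlk S H → IsBlk S H' →
    W ≠ ⊥ → (Nat.card W).Coprime p → (S : Subgroup G) ≤ normalizer (W : Set G) → W ≤ H → W ≤ H' →
    H = H' := by
  suffices key : ∀ (k : ℕ) (W : Subgroup G), k = Nat.card G - Nat.card W → ∀ H H' : Subgroup G,
      IsBlk S H → IsBlk S H' → W ≠ ⊥ → (Nat.card W).Coprime p →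
      (S : Subgroup G) ≤ normalizer (W : Set G) → W ≤ H → W ≤ H' → H = H' from
    fun W => key _ W rfl
  intro k
  induction k using Nat.strong_induction_on with
  | _ k ih =>
  intro W hk H H' hH hH' hW1 hWc hSW hWH hWH'
  have hWtop : W ≠ ⊤ := fun e => hH.1.1 (top_le_iff.mp (e ▸ hWH))
  obtain ⟨H'', hH''c, hNH''⟩ := (eq_top_or_exists_le_coatom (normalizer (W : Set G))).resolve_left
    (hs.hyp.normalizer_ne_top hW1 hWtop)
  have hWH'' : W ≤ H'' := le_normalizer.trans hNH''
  have hH'' : IsBlk S H'' :=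
    ⟨hH''c, hSW.trans hNH'', hs.not_le_normalizer hWH'' hWc hSW hW1⟩
  have step : ∀ K : Subgroup G, IsBlk S K → W ≤ K → K = H'' := by
    intro K hK hWK
    obtain ⟨r, hr, -, hRp, -, hKeq, -⟩ := hs.exists_prime hK
    haveI := Fact.mk hr
    have hWR := hs.le_rad hK hWK hWc hSW
    rcases eq_or_lt_of_le hWR with e | e
    · rcases eq_or_lt_of_le (show K ≤ H'' from (hKeq.le).trans (e ▸ hNH'')) with e' | e'
      · exact e'
      · exact absurd (hK.1.2 _ e') hH''.1.1
    set W1 := rad p K ⊓ normalizer (W : Set G) with hW1def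
    have hlt := BGTransitivity.card_lt_normalizer_inf hRp e
    have hW1c : (Nat.card W1).Coprime p :=
      (coprime_rad p K).coprime_dvd_left (card_dvd_of_le inf_le_left)
    have hSW1 : (S : Subgroup G) ≤ normalizer (W1 : Set G) :=
      LocalBasics.le_normalizer_inf (hK.2.1.trans (le_normalizer_rad p K))
        (hSW.trans le_normalizer)
    refine ih (Nat.card G - Nat.card W1) ?_ W1 rfl K H'' hK hH'' (fun h => ?_) hW1c hSW1
      (inf_le_left.trans (map_subtype_le _)) (inf_le_right.trans hNH'')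
    · have h5 := card_le_card_group W1
      change Nat.card W < Nat.card W1 at hlt
      omega
    · exact hW1 (le_bot_iff.mp (h ▸ le_inf e.le le_normalizer))
  exact (step H hH hWH).trans (step H' hH' hWH').symm

/-- Every Sylow subgroup inside a block is conjugate to `S` by the radical. -/
theorem Setup.conj_rad (hs : Setup S x) (hH : IsBlk S H) {g : G}
    (hg : (S : Subgroup G).map (MulAut.conj g).toMonoidHom ≤ H) :
    ∃ o ∈ rad p H, o⁻¹ * g ∈ normalizer (S : Set G) := by
  classical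
  haveI := HallCore.pPrimeCore_normal p H
  obtain ⟨B, hBn, -, -, -, -, hBT⟩ := hs.quotient hH
  set π := QuotientGroup.mk' (Cfsg.pPrimeCore p H)
  set T : Sylow p H := S.subtype hH.2.1
  have hgS : ((g • S : Sylow p G) : Subgroup G) ≤ H := by
    rw [Sylow.coe_subgroup_smul]
    rintro _ ⟨w, hw, rfl⟩
    exact hg (mem_map.mpr ⟨w, hw, rfl⟩)
  obtain ⟨k, hk⟩ := MulAction.exists_smul_eq H T ((g • S).subtype hgS)
  -- `k = o n` by the Frattini argument
  set W := B.comap π
  haveI : W.Normal := Normal.comap hBn π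
  have hTW : (T : Subgroup H) ≤ W := map_le_iff_le_comap.mp hBT.le
  set TW : Sylow p W := T.subtype hTW
  have hfr := Sylow.normalizer_sup_eq_top TW
  rw [Sylow.coe_subtype, map_subgroupOf_eq_of_le hTW, sup_comm] at hfr
  have hk' : k ∈ W ⊔ normalizer (T : Set H) := hfr ▸ mem_top k
  obtain ⟨w, hw, n, hn, rfl⟩ := mem_sup_of_normal_left.mp hk'
  obtain ⟨t, ht, htw⟩ := mem_map.mp (hBT ▸ mem_comap.mp hw : π w ∈ (T : Subgroup H).map π)
  refine ⟨((w * t⁻¹ : H) : G), mem_map.mpr ⟨w * t⁻¹, ?_, rfl⟩, ?_⟩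
  · rw [← QuotientGroup.eq_one_iff, ← QuotientGroup.mk'_apply, map_mul, map_inv, htw, mul_inv_cancel]
  have hktn : (t * n) • T = T := by
    rw [mul_smul, Sylow.smul_eq_iff_mem_normalizer.mpr hn,
      Sylow.smul_eq_iff_mem_normalizer.mpr (le_normalizer ht)]
  set o : H := w * t⁻¹
  have hoT : o • T = (g • S).subtype hgS := by
    rw [← hk, show w * n = o * (t * n) by simp [o, mul_assoc], mul_smul o (t * n), hktn]
  refine Sylow.smul_eq_iff_mem_normalizer.mp ?_
  rw [mul_smul, inv_smul_eq_iff]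
  refine Sylow.ext ?_
  have h4 := congrArg (fun P : Sylow p H => (P : Subgroup H).map H.subtype) hoT
  simp only [Sylow.coe_subtype] at h4
  rw [map_subgroupOf_eq_of_le hgS] at h4
  rw [← h4, Sylow.coe_subgroup_smul, Sylow.coe_subgroup_smul, Sylow.coe_subtype]
  ext z
  simp only [mem_map, Subgroup.mem_pointwise_smul_iff_inv_smul_mem]
  constructor
  · rintro ⟨v, hv, rfl⟩
    simpa [MulAut.smul_def, mem_subgroupOf] using hv
  · intro hz
    refine ⟨⟨z, ?_⟩, ?_, rfl⟩
    · have h1 : (o : G)⁻¹ * z * (o : G) ∈ (S : Subgroup G) := by simpa [MulAut.smul_def] using hz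
      have h2 := mul_mem (mul_mem o.2 (hH.2.1 h1)) (inv_mem o.2)
      simpa [mul_assoc] using h2
    · simpa [MulAut.smul_def, mem_subgroupOf] using hz

/-- Two blocks with a common second conjugate of `S` are equal. -/
theorem Setup.blk_eq_of_pair (hs : Setup S x) {H' : Subgroup G} (hH : IsBlk S H)
    (hH' : IsBlk S H') {g : G} (hgN : g ∉ normalizer (S : Set G))
    (hg : (S : Subgroup G).map (MulAut.conj g).toMonoidHom ≤ H)
    (hg' : (S : Subgroup G).map (MulAut.conj g).toMonoidHom ≤ H') : H = H' := by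
  obtain ⟨o, ho, hn⟩ := hs.conj_rad hH hg
  set K := H ⊓ H' with hK
  set W := rad p H ⊓ K with hW
  have hS : (S : Subgroup G) ≤ K := le_inf hH.2.1 hH'.2.1
  have hWc : (Nat.card W).Coprime p := (coprime_rad p H).coprime_dvd_left (card_dvd_of_le inf_le_left)
  have hSW : (S : Subgroup G) ≤ normalizer (W : Set G) :=
    LocalBasics.le_normalizer_inf (hH.2.1.trans (le_normalizer_rad p H)) (hS.trans le_normalizer)
  have ho1 : o ≠ 1 := fun e => hgN (by simpa [e] using hn)
  refine hs.blk_unique W H H' hH hH' (fun e => ho1 ?_) hWc hSW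
    (inf_le_right.trans inf_le_left) (inf_le_right.trans inf_le_right)
  refine hs.fixed_eq_one (coprime_rad p H) ho ?_
  -- `[o, x]` lies in `W`
  have h1 : o * x * o⁻¹ ∈ (S : Subgroup G).map (MulAut.conj g).toMonoidHom := by
    refine mem_map.mpr ⟨(o⁻¹ * g)⁻¹ * x * (o⁻¹ * g), ?_, by simp [mul_assoc]⟩
    exact ((mem_normalizer_iff'.mp hn) _).mpr (by simpa [mul_assoc] using hs.mem)
  have h2 : o * x * o⁻¹ * x⁻¹ ∈ W := by
    refine mem_inf.mpr ⟨?_, mul_mem (le_inf hg hg' h1) (inv_mem (hS hs.mem))⟩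
    rw [mul_assoc, mul_assoc, ← mul_assoc x]
    exact mul_mem ho ((mem_normalizer_iff.mp (le_normalizer_rad p H (hH.2.1 hs.mem)) _).mp (inv_mem ho))
  rw [e, mem_bot, mul_inv_eq_one, mul_inv_eq_iff_eq_mul] at h2
  exact h2.symm

end Cfsg.Agent.TwoGen45
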