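import Mathlib
import Cfsg.Agent.Lib.TwoGenBlocks45
import Cfsg.Agent.Lib.CharInducedBurnside
import Cfsg.Agent.Lib.GlaubermanZJ

/-!
Thompson's two-generator theorem: a non-solvable simple group with solvable proper subgroups is
generated by two elements.
-/

set_option autoImplicit false
set_option linter.style.haveILetI false

namespace Cfsg.Agent.TwoGen45

open Subgroup GlaubermanZJ

universe u

variable {G : Type u} [Group G] [Finite G] {p : ℕ} [hp : Fact p.Prime] {S : Sylow p G} {x : G}
  {H : Subgroup G}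

/-- The elements of exponent `r` of the centre of the radical. -/
def centreExp (r p : ℕ) (H : Subgroup G) : Subgroup G where
  carrier := {z | z ∈ rad p H ∧ z ∈ centralizer (rad p H : Set G) ∧ z ^ r = 1}
  one_mem' := ⟨one_mem _, one_mem _, one_pow _⟩
  mul_mem' := by
    rintro a b ⟨ha, hac, har⟩ ⟨hb, hbc, hbr⟩
    refine ⟨mul_mem ha hb, mul_mem hac hbc, ?_⟩
    rw [(show Commute a b from mem_centralizer_iff.mp hbc a ha).mul_pow, har, hbr, one_mul]
  inv_mem' := by
    rintro a ⟨ha, hac, har⟩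
    exact ⟨inv_mem ha, inv_mem hac, by rw [inv_pow, har, inv_one]⟩

theorem centreExp_ne_bot {r : ℕ} [Fact r.Prime] (hR : IsPGroup r (rad p H)) (h1 : rad p H ≠ ⊥) :
    centreExp r p H ≠ ⊥ := by
  haveI : Nontrivial (rad p H) := (nontrivial_iff_ne_bot _).mpr h1
  haveI := hR.center_nontrivial
  obtain ⟨k, hk⟩ := IsPGroup.iff_card.mp (hR.to_subgroup (Subgroup.center (rad p H)))
  obtain ⟨z, hz⟩ := exists_prime_orderOf_dvd_card' r (show r ∣ Nat.card (Subgroup.center (rad p H)) by
    have h2 : 1 < Nat.card (Subgroup.center (rad p H)) := Finite.one_lt_card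
    rw [hk] at h2 ⊢
    exact dvd_pow_self r (by rintro rfl; simp at h2))
  intro e
  have hmem : ((z : rad p H) : G) ∈ centreExp r p H := by
    refine ⟨(z : rad p H).2, mem_centralizer_iff.mpr fun c hc => ?_, ?_⟩
    · exact congrArg Subtype.val (mem_center_iff.mp z.2 ⟨c, hc⟩)
    · rw [← SubgroupClass.coe_pow, ← SubgroupClass.coe_pow,
        orderOf_dvd_iff_pow_eq_one.mp (dvd_of_eq hz)]
      rfl
  rw [e, mem_bot] at hmem
  have : z = 1 := Subtype.ext (Subtype.ext hmem)
  rw [this, orderOf_one] at hz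
  exact (Fact.out : r.Prime).one_lt.ne hz

theorem le_normalizer_centreExp (r : ℕ) (p : ℕ) (H : Subgroup G) :
    H ≤ normalizer (centreExp r p H : Set G) := by
  refine LocalBasics.le_normalizer_of_conj ?_
  rintro h hh z ⟨hz, hzc, hzr⟩
  refine ⟨LocalBasics.conj_mem_of_le_normalizer (le_normalizer_rad p H) hh hz,
    LocalBasics.conj_mem_of_le_normalizer
      (LocalBasics.le_normalizer_centralizer (le_normalizer_rad p H)) hh hzc, ?_⟩
  rw [conj_pow, hzr, mul_one, mul_inv_cancel]

/-- Every largest exponent-`r` abelian subgroup of an `r`-subgroup of a block containing the radical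
lies in the radical. -/
theorem Setup.maxFam_le (hs : Setup S x) (hH : IsBlk S H) {r : ℕ} (hr : r.Prime)
    (hr23 : r = 2 ∨ r = 3) (hR : IsPGroup r (rad p H)) (hR1 : rad p H ≠ ⊥) {T : Subgroup G}
    (hTH : T ≤ H) (hRT : rad p H ≤ T) {A : Subgroup G} (hA : A ∈ maxFam r T) : A ≤ rad p H := by
  classical
  haveI := Fact.mk hr
  haveI := HallCore.pPrimeCore_normal p H
  obtain ⟨B, hBn, hBp, hBc, hidx, hcB, hBT⟩ := hs.quotient hH
  set π := QuotientGroup.mk' (Cfsg.pPrimeCore p H) with hπ
  have hAH : A ≤ H := hA.1.le.trans hTH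
  set xh : H := ⟨x, hH.2.1 hs.mem⟩
  set X := π xh with hX
  have hXB : X ∈ B := hBT ▸ mem_map_of_mem π (mem_subgroupOf.mpr hs.mem)
  have hfive := hs.five
  have hrp : r ≠ p := fun e => by omega
  have hXo : orderOf X = p := by
    have h1 : orderOf xh = p := by rw [← orderOf_coe]; exact hs.order
    refine ((Nat.Prime.eq_one_or_self_of_dvd hp.out _ ((orderOf_map_dvd π xh).trans (dvd_of_eq h1))).resolve_left
      fun e => hs.x_ne_one ?_)
    have h3 : x ∈ (S : Subgroup G) ⊓ rad p H :=
      mem_inf.mpr ⟨hs.mem, mem_map.mpr ⟨xh, (QuotientGroup.eq_one_iff xh).mp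
        (orderOf_eq_one_iff.mp e), rfl⟩⟩
    rwa [inf_eq_bot_of_coprime' (coprime_rad p H), mem_bot] at h3
  set Z := zpowers X
  have hZn : Z.Normal := ⟨fun z hz g => by
    obtain ⟨i, rfl⟩ := mem_zpowers_iff.mp hz
    rw [← conj_zpow]
    refine zpow_mem ?_ i
    show g * X * g⁻¹ ∈ zpowers X
    rw [← PGroupsCyclic.eq_of_card_eq_of_isCyclic hBc
      (zpowers_le.mpr (hBn.conj_mem X hXB g)) (zpowers_le.mpr hXB)
      (by rw [Nat.card_zpowers, Nat.card_zpowers, ← MulAut.conj_apply, MulEquiv.orderOf_eq])]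
    exact mem_zpowers _⟩
  haveI := hZn
  -- the action of `A` on the socle
  let θ : A →* MulAut Z := (MulAut.conjNormal.comp π).comp (Subgroup.inclusion hAH)
  have hθker : ∀ a : A, θ a = 1 → (a : G) ∈ rad p H := by
    intro a ha
    set y := π (Subgroup.inclusion hAH a)
    have hcomm : Commute y X := by
      have h1 := congrArg (fun φ : MulAut Z => (φ ⟨X, mem_zpowers X⟩ : H ⧸ Cfsg.pPrimeCore p H)) ha
      simp only [θ, MonoidHom.comp_apply, MulAut.conjNormal_apply, MulAut.one_apply] at h1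
      exact mul_inv_eq_iff_eq_mul.mp h1
    refine mem_map.mpr ⟨Subgroup.inclusion hAH a, (QuotientGroup.eq_one_iff _).mp ?_, rfl⟩
    show y = 1
    by_contra hy1
    have hyr : y ^ r = 1 := by
      rw [← map_pow, show (Subgroup.inclusion hAH a) ^ r = 1 from Subtype.ext (hA.1.pow _ a.2),
        map_one]
    have hyo : orderOf y = r := orderOf_eq_prime hyr hy1
    have hyB : y ∉ B := fun hm => by
      obtain ⟨n, hn⟩ := IsPGroup.iff_orderOf.mp hBp ⟨y, hm⟩
      rw [← orderOf_coe, hyo] at hn
      rcases n with _ | n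
      · exact hr.one_lt.ne' (by simpa using hn)
      · exact hrp ((Nat.prime_dvd_prime_iff_eq hp.out hr).mp (hn ▸ dvd_pow_self p n.succ_ne_zero)).symm
    have hyX : y * X ∉ B := fun hm => hyB (by
      have := mul_mem hm (inv_mem hXB)
      rwa [mul_inv_cancel_right] at this)
    have h2 := coprime_of_not_mem hBp hidx hcB hyX
    rw [hcomm.orderOf_mul_eq_mul_orderOf_of_coprime (by
      rw [hXo, hyo]; exact (Nat.coprime_primes hr hp.out).mpr hrp), hXo] at h2
    exact hp.out.one_lt.ne' (Nat.eq_one_of_dvd_coprimes h2 (dvd_mul_left p _) dvd_rfl)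
  haveI : IsCyclic (MulAut Z) := by
    have e := IsCyclic.mulAutMulEquiv Z
    have hcZ : Nat.card Z = p := by rw [Nat.card_zpowers, hXo]
    rw [hcZ] at e
    exact isCyclic_of_surjective e.symm.toMonoidHom e.symm.surjective
  have hindex : (rad p H).relIndex A ≤ r := by
    have h1 : (rad p H).relIndex A ≤ Nat.card θ.range := by
      rw [← Subgroup.index_ker, Subgroup.relIndex]
      exact Nat.le_of_dvd (Nat.pos_of_ne_zero index_ne_zero_of_finite)
        (index_dvd_of_le fun a ha => mem_subgroupOf.mpr (hθker a ha))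
    refine h1.trans ?_
    haveI := Fintype.ofFinite θ.range
    have h2 := IsCyclic.card_pow_eq_one_le (α := θ.range) hr.pos
    refine le_trans (le_of_eq ?_) h2
    rw [Nat.card_eq_fintype_card, ← Finset.card_univ]
    refine congrArg Finset.card (Finset.filter_true_of_mem ?_).symm
    rintro ⟨_, a, rfl⟩ -
    refine Subtype.ext ?_
    rw [SubgroupClass.coe_pow, ← map_pow, show a ^ r = 1 from Subtype.ext (hA.1.pow _ a.2), map_one]
    rfl
  -- suppose an element outside
  by_contra hne
  obtain ⟨a, haA, haR⟩ := SetLike.not_le_iff_exists.mp hne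
  set V := centreExp r p H
  set D := A ⊓ rad p H with hD
  have hDA : Nat.card A ≤ r * Nat.card D := by
    rw [← inf_relIndex_left A (rad p H)] at hindex
    rw [← HallCore.card_mul_relIndex (inf_le_left : A ⊓ rad p H ≤ A), mul_comm r]
    exact Nat.mul_le_mul_left _ hindex
  -- `D ⊔ V` competes with `A`
  have hcomm : ∀ u ∈ D ⊔ V, ∀ v ∈ D ⊔ V, u * v = v * u := by
    have hDV : ∀ d ∈ (D : Set G) ∪ V, ∀ e ∈ (D : Set G) ∪ V, d * e = e * d := by
      rintro d (hd | hd) e (he | he)
      · exact hA.1.comm d hd.1 e he.1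
      · exact mem_centralizer_iff.mp he.2.1 d hd.2
      · exact (mem_centralizer_iff.mp hd.2.1 e he.2).symm
      · exact mem_centralizer_iff.mp he.2.1 d hd.1
    intro u hu v hv
    rw [← closure_eq D, ← closure_eq V, ← Subgroup.closure_union] at hu hv
    exact (Subgroup.isMulCommutative_closure hDV).1.comm ⟨u, hu⟩ ⟨v, hv⟩ |> congrArg Subtype.val
  have hfam : IsFam r T (D ⊔ V) := by
    refine ⟨sup_le (inf_le_left.trans hA.1.le) (fun z hz => hRT hz.1), hcomm, fun z hz => ?_⟩
    rw [← closure_eq D, ← closure_eq V, ← Subgroup.closure_union] at hz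
    induction hz using closure_induction with
    | mem y hy =>
      rcases hy with hy | hy
      · exact hA.1.pow y hy.1
      · exact hy.2.2
    | one => exact one_pow _
    | mul y z hy hz ihy ihz =>
      rw [Subgroup.closure_union, closure_eq, closure_eq] at hy hz
      rw [Commute.mul_pow (hcomm y hy z hz), ihy, ihz, one_mul]
    | inv y _ ihy => rw [inv_pow, ihy, inv_one]
  have hle := hA.2 _ hfam
  -- so `|V : C_V(a)| ≤ r`
  set C := V ⊓ centralizer ({a} : Set G) with hC
  have hVC : Nat.card V ≤ r * Nat.card C := by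
    have hDn : (D.subgroupOf (D ⊔ V)).Normal :=
      LocalBasics.normal_subgroupOf_of_le (LocalBasics.le_normalizer_of_conj fun u hu d hd => by
        rw [hcomm u hu d (mem_sup_left hd), mul_inv_cancel_right]; exact hd)
    have h1 : D.relIndex (D ⊔ V) = D.relIndex V := by
      have h2 := relIndex_sup_left (G := (D ⊔ V : Subgroup G)) (H := V.subgroupOf (D ⊔ V))
        (K := D.subgroupOf (D ⊔ V))
      rw [← subgroupOf_sup le_sup_left le_sup_right, subgroupOf_self, relIndex_top_right] at h2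
      rw [show D.relIndex (D ⊔ V) = (D.subgroupOf (D ⊔ V)).index from rfl, h2,
        relIndex_subgroupOf le_sup_right]
    have h3 : Nat.card (D ⊔ V : Subgroup G) = D.relIndex V * Nat.card D := by
      rw [← h1, mul_comm, HallCore.card_mul_relIndex le_sup_left]
    have h4 : D.relIndex V ≤ r := by
      refine Nat.le_of_mul_le_mul_right ?_ (Nat.card_pos (α := D))
      rw [← h3]
      exact hle.trans hDA
    have h5 : Nat.card V = D.relIndex V * Nat.card (D ⊓ V : Subgroup G) := by
      rw [← inf_relIndex_right D V, mul_comm, HallCore.card_mul_relIndex inf_le_right]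
    rw [h5]
    refine Nat.mul_le_mul h4 (card_le_of_le ?_)
    intro d hd
    refine mem_inf.mpr ⟨hd.2, mem_centralizer_iff.mpr fun z hz => ?_⟩
    rw [Set.mem_singleton_iff] at hz
    subst hz
    exact hA.1.comm z haA d hd.1.1
  -- two conjugates of `C` meet trivially
  set C' := C.map (MulAut.conj x).toMonoidHom with hC'
  have hxV : x ∈ normalizer (V : Set G) := le_normalizer_centreExp r p H (hH.2.1 hs.mem)
  have hC'V : C' ≤ V := by
    rintro _ ⟨c, hc, rfl⟩
    exact (mem_normalizer_iff.mp hxV c).mp hc.1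
  have hint : C ⊓ C' = ⊥ := by
    rw [eq_bot_iff_forall]
    rintro v ⟨hv, c, hc, rfl⟩
    simp only [MulEquiv.coe_toMonoidHom, MulAut.conj_apply] at hv ⊢
    set v := x * c * x⁻¹ with hv'
    have h1 : Commute a v := mem_centralizer_iff.mp hv.2 a rfl
    have h2 : Commute (x * a * x⁻¹) v := by
      have h3 : Commute a c := mem_centralizer_iff.mp hc.2 a rfl
      exact (h3.map (MulAut.conj x).toMonoidHom)
    set ah : H := ⟨a, hAH haA⟩
    set u : H := ah⁻¹ * (xh * ah * xh⁻¹) with hu
    have huv : Commute (u : G) v := by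
      simp only [hu, coe_mul, coe_inv]
      exact h1.inv_left.mul_left h2
    have huZ : π u ∈ Z := by
      simp only [hu, map_mul, map_inv, ← hX]
      rw [← mul_assoc, ← mul_assoc]
      refine mul_mem ?_ (inv_mem (mem_zpowers X))
      simpa using hZn.conj_mem X (mem_zpowers X) (π ah)⁻¹
    have hu1 : π u ≠ 1 := by
      intro e
      simp only [hu, map_mul, map_inv, ← hX, inv_mul_eq_one] at e
      have hcomm : Commute (π ah) X := mul_inv_eq_iff_eq_mul.mp e.symm |>.symm
      refine haR (hθker ⟨a, haA⟩ ?_)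
      refine MulEquiv.ext fun z => Subtype.ext ?_
      obtain ⟨i, hi⟩ := mem_zpowers_iff.mp z.2
      simp only [θ, MonoidHom.comp_apply, MulAut.conjNormal_apply, MulAut.one_apply]
      rw [← hi]
      show π ah * X ^ i * (π ah)⁻¹ = X ^ i
      rw [(hcomm.zpow_right i).eq, mul_inv_cancel_right]
    have hgen : X ∈ zpowers (π u) := by
      rw [PGroupsCyclic.eq_of_card_eq_of_isCyclic (A := Z) inferInstance (zpowers_le.mpr huZ) le_rfl
        (by
          rw [Nat.card_zpowers, Nat.card_zpowers, hXo]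
          refine ((Nat.Prime.eq_one_or_self_of_dvd hp.out _ ?_).resolve_left
            fun e => hu1 (orderOf_eq_one_iff.mp e))
          have h4 := orderOf_dvd_natCard Z huZ
          rwa [Nat.card_zpowers, hXo] at h4)]
      exact mem_zpowers X
    obtain ⟨i, hi⟩ := mem_zpowers_iff.mp hgen
    have hxu : (u ^ i)⁻¹ * xh ∈ Cfsg.pPrimeCore p H := by
      rw [← QuotientGroup.eq_one_iff, ← QuotientGroup.mk'_apply, map_mul, map_inv, map_zpow, ← hπ, hi,
        inv_mul_cancel]
    have h5 : Commute ((u : G) ^ i) v := huv.zpow_left i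
    have h6 : Commute (((u ^ i)⁻¹ * xh : H) : G) v :=
      mem_centralizer_iff.mp hv.1.2.1 _ (mem_map.mpr ⟨_, hxu, rfl⟩)
    have h7 : Commute x v := by
      have h8 := h5.mul_left h6
      simp only [coe_mul, coe_inv, Subgroup.coe_zpow, mul_inv_cancel_left] at h8
      exact h8
    exact hs.fixed_eq_one (coprime_rad p H) hv.1.1 h7.eq
  -- so `|V| ≤ r ^ 2`
  have hcount : Nat.card C * Nat.card C ≤ Nat.card V := by
    have e : Nat.card C' = Nat.card C := card_map_of_injective (MulAut.conj x).injective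
    conv_lhs => arg 2; rw [← e]
    rw [← Nat.card_prod]
    refine Nat.card_le_card_of_injective
      (fun q : C × C' => (⟨(q.1 : G) * q.2, mul_mem q.1.2.1 (hC'V q.2.2)⟩ : V)) ?_
    intro q q' e'
    have e1 : (q.1 : G) * q.2 = (q'.1 : G) * q'.2 := congrArg Subtype.val e'
    have e2 : ((q'.1 : G))⁻¹ * q.1 ∈ C ⊓ C' := by
      refine mem_inf.mpr ⟨mul_mem (inv_mem q'.1.2) q.1.2, ?_⟩
      rw [show ((q'.1 : G))⁻¹ * q.1 = (q'.2 : G) * (q.2 : G)⁻¹ by
        rw [eq_mul_inv_iff_mul_eq, mul_assoc, e1, inv_mul_cancel_left]]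
      exact mul_mem q'.2.2 (inv_mem q.2.2)
    rw [hint, mem_bot, inv_mul_eq_one] at e2
    rw [e2] at e1
    exact Prod.ext (Subtype.ext e2.symm) (Subtype.ext (mul_left_cancel e1))
  have hVle : Nat.card V ≤ r * r := by
    have hCle : Nat.card C ≤ r :=
      Nat.le_of_mul_le_mul_right (hcount.trans hVC) Nat.card_pos
    exact hVC.trans (Nat.mul_le_mul_left r hCle)
  have hVp : IsPGroup r V := hR.to_le fun z hz => hz.1
  have hmod : Nat.card V ≡ 1 [MOD p] :=
    hs.card_modEq ((coprime_rad p H).coprime_dvd_left (card_dvd_of_le fun z hz => hz.1)) hxV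
  have hV2 : 1 < Nat.card V := (Subgroup.one_lt_card_iff_ne_bot V).mpr (centreExp_ne_bot hR hR1)
  obtain ⟨n, hn⟩ := IsPGroup.iff_card.mp hVp
  have hdvd : p ∣ Nat.card V - 1 := (Nat.modEq_iff_dvd' hV2.le).mp hmod.symm
  have h9 : p ≤ Nat.card V - 1 := Nat.le_of_dvd (by omega) hdvd
  have := hs.five
  have hn2 : n ≤ 2 := by
    by_contra hgt
    push Not at hgt
    have : r ^ 3 ≤ Nat.card V := hn ▸ Nat.pow_le_pow_right hr.pos hgt
    have h10 : r * r < r ^ 3 := by rcases hr23 with e | e <;> subst e <;> norm_num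
    omega
  rcases hr23 with e | e <;> subst e <;> interval_cases n <;> rw [hn] at h9 hdvd hV2
  all_goals first
    | omega
    | (have h11 : p ∣ 2 ^ 3 := hdvd
       have := (Nat.prime_dvd_prime_iff_eq hp.out Nat.prime_two).mp (hp.out.dvd_of_dvd_pow h11)
       omega)

/-- The Thompson subgroup data of a block. -/
theorem Setup.thomJ_data (hs : Setup S x) (hH : IsBlk S H) {r : ℕ} [hr : Fact r.Prime]
    (hr23 : r = 2 ∨ r = 3) (hR : IsPGroup r (rad p H)) (hR1 : rad p H ≠ ⊥) :
    ∃ T : Sylow r G, (T : Subgroup G) ≤ H ∧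
      H = normalizer (thomJ r (T : Subgroup G) : Set G) := by
  classical
  obtain ⟨U, hU⟩ := (hR.comap_subtype (K := H)).exists_le_sylow
  set T := (U : Subgroup H).map H.subtype with hT
  have hTH : T ≤ H := map_subtype_le _
  have hTp : IsPGroup r T := U.isPGroup'.map _
  have hRT : rad p H ≤ T := fun z hz =>
    mem_map.mpr ⟨⟨z, map_subtype_le _ hz⟩, hU (mem_subgroupOf.mpr hz), rfl⟩
  have hfam : ∀ A, IsFam r (rad p H) A → IsFam r T A := fun A hA => ⟨hA.le.trans hRT, hA.comm, hA.pow⟩
  have hmem : ∀ A ∈ maxFam r T, A ∈ maxFam r (rad p H) := fun A hA =>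
    ⟨⟨hs.maxFam_le hH hr.out hr23 hR hR1 hTH hRT hA, hA.1.comm, hA.1.pow⟩,
      fun B hB => hA.2 B (hfam B hB)⟩
  have heq : thomJ r T = thomJ r (rad p H) := by
    refine congrArg sSup (Set.ext fun A => ⟨hmem A, fun hA => ⟨hfam A hA.1, fun B hB => ?_⟩⟩)
    obtain ⟨A0, hA0⟩ := exists_maxFam r T
    exact (hA0.2 B hB).trans (hA.2 A0 (hmem A0 hA0).1)
  have hJ1 : thomJ r T ≠ ⊥ := by
    intro e
    rw [heq] at e
    refine centreExp_ne_bot hR hR1 (le_bot_iff.mp fun z hz => e ▸ ?_)
    obtain ⟨A0, hA0⟩ := exists_maxFam r (rad p H)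
    exact le_thomJ hA0 (mem_of_commute hA0 hz.1 hz.2.2
      fun a ha => mem_centralizer_iff.mp hz.2.1 a (hA0.1.le ha))
  have hHJ : H = normalizer (thomJ r T : Set G) := by
    refine hs.hyp.coatom_eq_normalizer hH.1 (hTp.to_le (thomJ_le T)) hJ1 ?_
    rw [heq]
    exact (le_normalizer_rad p H).trans (normalizer_le_thomJ _)
  -- `T` is a Sylow subgroup
  obtain ⟨T', hT'⟩ := hTp.exists_le_sylow
  have hTT' : (T' : Subgroup G) = T := by
    by_contra hne
    have hlt := BGTransitivity.card_lt_normalizer_inf T'.isPGroup' (lt_of_le_of_ne hT' (Ne.symm hne))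
    set Y := (T' : Subgroup G) ⊓ normalizer (T : Set G) with hY
    have hYH : Y ≤ H := inf_le_right.trans ((normalizer_le_thomJ T).trans hHJ.ge)
    obtain ⟨U', hU'⟩ := ((T'.isPGroup'.to_le inf_le_left).comap_subtype (K := H) :
      IsPGroup r (Y.subgroupOf H)).exists_le_sylow
    have h1 : Nat.card Y ≤ Nat.card (U' : Subgroup H) := by
      rw [← Nat.card_congr (Subgroup.subgroupOfEquivOfLe hYH).toEquiv]
      exact card_le_of_le hU'
    have h2 : Nat.card (U' : Subgroup H) = Nat.card T := by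
      rw [hT, card_map_of_injective H.subtype_injective, Sylow.card_eq_multiplicity,
        Sylow.card_eq_multiplicity]
    change Nat.card T < Nat.card Y at hlt
    omega
  exact ⟨T', hTT' ▸ hTH, hTT' ▸ hHJ⟩

/-- Blocks with radicals of the same prime are conjugate under `N(S)`. -/
theorem Setup.blk_conj (hs : Setup S x) {H' : Subgroup G} (hH : IsBlk S H) (hH' : IsBlk S H')
    {r : ℕ} [hr : Fact r.Prime] (hr23 : r = 2 ∨ r = 3)
    (hR : IsPGroup r (rad p H)) (hR1 : rad p H ≠ ⊥)
    (hR' : IsPGroup r (rad p H')) (hR1' : rad p H' ≠ ⊥) :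
    ∃ n ∈ normalizer (S : Set G), H' = H.map (MulAut.conj n).toMonoidHom := by
  obtain ⟨T, hT, hHT⟩ := hs.thomJ_data hH hr23 hR hR1
  obtain ⟨T', hT', hHT'⟩ := hs.thomJ_data hH' hr23 hR' hR1'
  obtain ⟨g, hg⟩ := MulAction.exists_smul_eq G T T'
  have hTg : (T' : Subgroup G) = (T : Subgroup G).map (MulAut.conj g).toMonoidHom := by
    rw [← hg, Sylow.coe_subgroup_smul]
    rfl
  have hH'g : H' = H.map (MulAut.conj g).toMonoidHom := by
    rw [hHT', hHT, hTg, thomJ_map (MulAut.conj g).injective]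
    exact (Subgroup.map_equiv_normalizer_eq _ (MulAut.conj g)).symm
  obtain ⟨o, ho, hn⟩ := hs.conj_rad hH' (g := g) (hH'g ▸ map_mono hH.2.1)
  refine ⟨o⁻¹ * g, hn, ?_⟩
  rw [map_mul, show ((MulAut.conj o⁻¹ * MulAut.conj g : MulAut G)).toMonoidHom =
    (MulAut.conj o⁻¹).toMonoidHom.comp (MulAut.conj g).toMonoidHom from rfl, ← map_map, ← hH'g]
  exact (TransferAlperin.cj_eq_self (le_normalizer (inv_mem (map_subtype_le _ ho)))).symm

/-- Blocks exist over any element outside `N(S)`. -/
theorem Setup.exists_blk (hs : Setup S x) {g : G} (hg : g ∉ normalizer (S : Set G)) :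
    ∃ H : Subgroup G, IsBlk S H ∧ g ∈ H := by
  haveI := hs.hyp.sylow_cyclic hs.five S
  obtain ⟨s, hsgen⟩ := IsCyclic.exists_generator (α := S)
  obtain ⟨H, hH, hle⟩ := (eq_top_or_exists_le_coatom _).resolve_left (hs.hyp.pair (s : G) g)
  have hgH : g ∈ H := hle (subset_closure (by simp))
  refine ⟨H, ⟨hH, fun y hy => ?_, fun hN => hg (hN hgH)⟩, hgH⟩
  obtain ⟨i, hi⟩ := mem_zpowers_iff.mp (hsgen ⟨y, hy⟩)
  rw [show y = (s : G) ^ i by rw [← Subgroup.coe_zpow, hi]]
  exact zpow_mem (hle (subset_closure (by simp))) i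

/-- A conjugate of `S` inside `N(S)` is `S`. -/
theorem Setup.mem_normalizer_of_le (hs : Setup S x) {g : G}
    (hg : (S : Subgroup G).map (MulAut.conj g).toMonoidHom ≤ normalizer (S : Set G)) :
    g ∈ normalizer (S : Set G) := by
  set N := normalizer (S : Set G)
  set P := (S : Subgroup G).map (MulAut.conj g).toMonoidHom
  haveI : ((S : Subgroup G).subgroupOf N).Normal := Subgroup.normal_in_normalizer
  obtain ⟨W, hW⟩ := ((S.isPGroup'.map _).comap_subtype (K := N) :
    IsPGroup p (P.subgroupOf N)).exists_le_sylow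
  obtain ⟨k, hk⟩ := MulAction.exists_smul_eq N (S.subtype le_normalizer) W
  have hWS : (W : Subgroup N) = (S : Subgroup G).subgroupOf N := by
    rw [← hk, Sylow.coe_subgroup_smul, Sylow.coe_subtype]
    exact Subgroup.Normal.conjAct inferInstance _
  have hle : P ≤ (S : Subgroup G) := fun y hy =>
    mem_subgroupOf.mp (show (⟨y, hg hy⟩ : N) ∈ (S : Subgroup G).subgroupOf N from
      hWS ▸ hW (mem_subgroupOf.mpr hy))
  have heq : P = (S : Subgroup G) :=
    Subgroup.eq_of_le_of_card_ge hle (card_map_of_injective (MulAut.conj g).injective).ge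
  exact TransferAlperin.mem_normalizer_of_cj_eq heq

omit [Finite G] in
theorem map_conj_map (a b : G) (K : Subgroup G) :
    (K.map (MulAut.conj b).toMonoidHom).map (MulAut.conj a).toMonoidHom =
      K.map (MulAut.conj (a * b)).toMonoidHom := by
  rw [map_map]
  congr 1
  ext y
  simp [mul_assoc]

omit [Finite G] in
theorem map_conj_one (K : Subgroup G) : K.map (MulAut.conj (1 : G)).toMonoidHom = K := by
  ext y; simp

theorem Hyp.false_main (h : Hyp G) : False := by
  classical
  have hne : Nat.card G ≠ 0 := Nat.card_pos.ne'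
  have hnonempty : (Nat.card G).primeFactors.Nonempty := by
    rw [Nat.nonempty_primeFactors]
    by_contra hle
    exact h.notSolvable (CharInduced.solvable_of_card_two_primes 2 3 0 0 Nat.prime_two Nat.prime_three
      (by push Not at hle; omega))
  set q := (Nat.card G).primeFactors.max' hnonempty with hqdef
  have hqmem := Finset.max'_mem _ hnonempty
  rw [← hqdef, Nat.mem_primeFactors] at hqmem
  haveI := Fact.mk hqmem.1
  have hlarge : ∀ r : ℕ, r.Prime → r ∣ Nat.card G → r ≤ q := fun r hr hd =>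
    Finset.le_max' _ r (Nat.mem_primeFactors.mpr ⟨hr, hd, hne⟩)
  have hq5 : 5 ≤ q := by
    by_contra hlt
    push Not at hlt
    have hcard : Nat.card G = 2 ^ (Nat.card G).factorization 2 * 3 ^ (Nat.card G).factorization 3 := by
      refine Nat.eq_of_factorization_eq hne (by positivity) fun r => ?_
      rw [Nat.factorization_mul (by positivity) (by positivity), Nat.factorization_pow,
        Nat.factorization_pow, Nat.Prime.factorization Nat.prime_two,
        Nat.Prime.factorization Nat.prime_three]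
      simp only [Finsupp.coe_add, Pi.add_apply, Finsupp.coe_smul, Pi.smul_apply,
        Finsupp.single_apply, smul_eq_mul, mul_ite, mul_one, mul_zero]
      by_cases hr : r.Prime ∧ r ∣ Nat.card G
      · have h2 := hlarge r hr.1 hr.2
        have h3 := hr.1.two_le
        have : r = 2 ∨ r = 3 := by
          rcases (by omega : r = 2 ∨ r = 3 ∨ r = 4) with e | e | e
          · exact Or.inl e
          · exact Or.inr e
          · exact absurd (e ▸ hr.1) (by norm_num)
        rcases this with rfl | rfl <;> simp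
      · have h0 : (Nat.card G).factorization r = 0 := by
          by_cases hp' : r.Prime
          · exact Nat.factorization_eq_zero_of_not_dvd fun hd => hr ⟨hp', hd⟩
          · exact Nat.factorization_eq_zero_of_not_prime _ hp'
        rcases eq_or_ne 2 r with rfl | e2
        · simp [h0]
        · rcases eq_or_ne 3 r with rfl | e3
          · simp [h0]
          · simp [h0, e2, e3]
    exact h.notSolvable
      (CharInduced.solvable_of_card_two_primes 2 3 _ _ Nat.prime_two Nat.prime_three hcard)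
  obtain ⟨S⟩ : Nonempty (Sylow q G) := inferInstance
  obtain ⟨x, hxS, hxo⟩ : ∃ x ∈ (S : Subgroup G), orderOf x = q := by
    obtain ⟨n, hn⟩ := IsPGroup.iff_card.mp S.isPGroup'
    obtain ⟨y, hy⟩ := exists_prime_orderOf_dvd_card' q (show q ∣ Nat.card S by
      rw [hn]
      exact dvd_pow_self q (by
        rintro rfl
        exact S.ne_bot_of_dvd_card hqmem.2.1 (card_eq_one.mp (by simpa using hn))))
    exact ⟨y, y.2, by rw [orderOf_coe]; exact hy⟩
  have hs : Setup S x := ⟨h, hq5, hlarge, hxS, hxo⟩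
  set N := normalizer (S : Set G) with hN
  have hNtop : N ≠ ⊤ := h.normalizer_ne_top hs.sylow_ne_bot (h.ne_top_of_isPGroup S.isPGroup')
  -- blocks of one prime are few
  have hN' := h.card_normalizer_le hq5 S hs.sylow_ne_bot
  have hfew : ∀ r : ℕ, (r = 2 ∨ r = 3) → Nat.card {H : Subgroup G //
      IsBlk S H ∧ IsPGroup r (rad q H)} ≤ q - 1 := by
    intro r hr23
    haveI : Fact r.Prime := ⟨by rcases hr23 with e | e <;> subst e <;> norm_num⟩
    rcases isEmpty_or_nonempty {H : Subgroup G // IsBlk S H ∧ IsPGroup r (rad q H)} with he | ⟨⟨H0, hH0, hR0⟩⟩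
    · simp
    obtain ⟨_, _, _, _, hR01, -, -⟩ := hs.exists_prime hH0
    set K := (S : Subgroup G).subgroupOf N
    let f : {H : Subgroup G // IsBlk S H ∧ IsPGroup r (rad q H)} → N ⧸ K := fun H =>
      QuotientGroup.mk (s := K)
        ⟨(hs.blk_conj hH0 H.2.1 hr23 hR0 hR01 H.2.2
          (hs.exists_prime H.2.1).choose_spec.2.2.2.1).choose,
          (hs.blk_conj hH0 H.2.1 hr23 hR0 hR01 H.2.2
          (hs.exists_prime H.2.1).choose_spec.2.2.2.1).choose_spec.1⟩
    have hf : Function.Injective f := by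
      intro H1 H2 e
      have hd1 := (hs.blk_conj hH0 H1.2.1 hr23 hR0 hR01 H1.2.2
          (hs.exists_prime H1.2.1).choose_spec.2.2.2.1).choose_spec.2
      have hd2 := (hs.blk_conj hH0 H2.2.1 hr23 hR0 hR01 H2.2.2
          (hs.exists_prime H2.2.1).choose_spec.2.2.2.1).choose_spec.2
      set n1 := (hs.blk_conj hH0 H1.2.1 hr23 hR0 hR01 H1.2.2
          (hs.exists_prime H1.2.1).choose_spec.2.2.2.1).choose
      set n2 := (hs.blk_conj hH0 H2.2.1 hr23 hR0 hR01 H2.2.2
          (hs.exists_prime H2.2.1).choose_spec.2.2.2.1).choose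
      have hmem : n1⁻¹ * n2 ∈ (S : Subgroup G) := mem_subgroupOf.mp (QuotientGroup.eq.mp e)
      refine Subtype.ext ?_
      rw [hd1, hd2]
      have h8 : H0.map (MulAut.conj (n1⁻¹ * n2)).toMonoidHom = H0 :=
        TransferAlperin.cj_eq_self (le_normalizer (hH0.2.1 hmem))
      conv_rhs => rw [← mul_inv_cancel_left n1 n2, ← map_conj_map, h8]
    refine (Nat.card_le_card_of_injective f hf).trans ?_
    refine Nat.le_of_mul_le_mul_right ?_ (Nat.card_pos (α := S))
    rw [show Nat.card (N ⧸ K) * Nat.card S = Nat.card N by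
      rw [card_eq_card_quotient_mul_card_subgroup K,
        show Nat.card K = Nat.card S from
          Nat.card_congr (subgroupOfEquivOfLe (le_normalizer (H := (S : Subgroup G)))).toEquiv]]
    exact hN'
  -- a translate of a block not containing `S`
  obtain ⟨g0, hg0⟩ : ∃ g : G, g ∉ N := by
    by_contra! hall
    exact hNtop (eq_top_iff.mpr fun g _ => hall g)
  obtain ⟨H1, hH1, -⟩ := hs.exists_blk hg0
  -- counting
  have count : ∀ H0 : Subgroup G, IsBlk S H0 →
      Nat.card (rad q H0) ≤ Nat.card {H : Subgroup G // IsBlk S H} := by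
    intro H0 hH0
    obtain ⟨g, hg⟩ : ∃ g : G, ¬ (S : Subgroup G) ≤ H0.map (MulAut.conj g).toMonoidHom := by
      by_contra! hall
      have hle : (S : Subgroup G) ≤ H0.normalCore := by
        intro y hy c
        obtain ⟨w, hw, e⟩ := mem_map.mp (hall c⁻¹ hy)
        simp only [MulEquiv.coe_toMonoidHom, MulAut.conj_apply, inv_inv] at e
        rw [← e]
        simpa [mul_assoc] using hw
      rcases h.simple.eq_bot_or_eq_top_of_normal H0.normalCore inferInstance with e | e
      · exact hs.sylow_ne_bot (le_bot_iff.mp (e ▸ hle))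
      · exact hH0.1.1 (top_le_iff.mp (e ▸ normalCore_le H0))
    set c : rad q H0 → G := fun o => g * o
    have hP : ∀ o : rad q H0, (S : Subgroup G).map (MulAut.conj (c o)).toMonoidHom ≤
        H0.map (MulAut.conj g).toMonoidHom := fun o => by
      rw [← map_conj_map]
      refine map_mono ?_
      rintro _ ⟨y, hy, rfl⟩
      exact mul_mem (mul_mem (map_subtype_le _ o.2) (hH0.2.1 hy)) (inv_mem (map_subtype_le _ o.2))
    have hcN : ∀ o, c o ∉ N := fun o hcm => hg (by
      have h1 : (S : Subgroup G).map (MulAut.conj (c o)).toMonoidHom = (S : Subgroup G) :=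
        TransferAlperin.cj_eq_self hcm
      exact h1 ▸ hP o)
    have hex : ∀ o : rad q H0, ∃ H : Subgroup G, IsBlk S H ∧
        (S : Subgroup G).map (MulAut.conj (c o)).toMonoidHom ≤ H := by
      intro o
      haveI := h.sylow_cyclic hq5 S
      obtain ⟨s, hsgen⟩ := IsCyclic.exists_generator (α := S)
      have hsN : c o * (s : G) * (c o)⁻¹ ∉ N := fun hm => hcN o (hs.mem_normalizer_of_le (by
        rintro _ ⟨y, hy, rfl⟩
        obtain ⟨i, hi⟩ := mem_zpowers_iff.mp (hsgen ⟨y, hy⟩)
        show c o * y * (c o)⁻¹ ∈ N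
        rw [show y = (s : G) ^ i by rw [← Subgroup.coe_zpow, hi], ← conj_zpow]
        exact zpow_mem hm i))
      obtain ⟨H, hH, hmem⟩ := hs.exists_blk hsN
      refine ⟨H, hH, ?_⟩
      rintro _ ⟨y, hy, rfl⟩
      obtain ⟨i, hi⟩ := mem_zpowers_iff.mp (hsgen ⟨y, hy⟩)
      show c o * y * (c o)⁻¹ ∈ H
      rw [show y = (s : G) ^ i by rw [← Subgroup.coe_zpow, hi], ← conj_zpow]
      exact zpow_mem hmem i
    choose F hF hFle using hex
    refine Nat.card_le_card_of_injective (fun o => (⟨F o, hF o⟩ : {H : Subgroup G // IsBlk S H})) ?_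
    intro o o' e
    by_contra hne'
    have hFe : F o = F o' := congrArg Subtype.val e
    -- pull back by `c o`
    set H2 := (F o).map (MulAut.conj (c o)⁻¹).toMonoidHom with hH2
    set d := (c o)⁻¹ * c o' with hd
    have hdval : d = (o : G)⁻¹ * o' := by simp [hd, c, mul_assoc]
    have hdR : d ∈ rad q H0 := hdval ▸ mul_mem (inv_mem o.2) o'.2
    have hdN : d ∉ N := fun hm => hne' (Subtype.ext (inv_mul_eq_one.mp (hdval ▸
      hs.inf_normalizer (coprime_rad q H0) (hH0.2.1.trans (le_normalizer_rad q H0)) hdR hm)))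
    have hdH0 : (S : Subgroup G).map (MulAut.conj d).toMonoidHom ≤ H0 := by
      rintro _ ⟨y, hy, rfl⟩
      exact mul_mem (mul_mem (map_subtype_le _ hdR) (hH0.2.1 hy)) (inv_mem (map_subtype_le _ hdR))
    have hSH2 : (S : Subgroup G) ≤ H2 := by
      have := map_mono (f := (MulAut.conj (c o)⁻¹).toMonoidHom) (hFle o)
      rwa [map_conj_map, inv_mul_cancel, map_conj_one] at this
    have hdH2 : (S : Subgroup G).map (MulAut.conj d).toMonoidHom ≤ H2 := by
      have := map_mono (f := (MulAut.conj (c o)⁻¹).toMonoidHom) (hFle o')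
      rwa [map_conj_map, ← hFe] at this
    have hH2blk : IsBlk S H2 := by
      refine ⟨?_, hSH2, fun hle => hdN (hs.mem_normalizer_of_le (hdH2.trans hle))⟩
      exact ((MulAut.conj (c o)⁻¹).mapSubgroup.isCoatom_iff (F o)).mpr (hF o).1
    have h9 := hs.blk_eq_of_pair hH0 hH2blk hdN hdH0 hdH2
    apply hg
    have h10 : F o = H0.map (MulAut.conj (c o)).toMonoidHom := by
      rw [h9, hH2, map_conj_map, mul_inv_cancel, map_conj_one]
    have h11 : H0.map (MulAut.conj (c o)).toMonoidHom = H0.map (MulAut.conj g).toMonoidHom := by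
      rw [← map_conj_map, show H0.map (MulAut.conj (o : G)).toMonoidHom = H0 from
        TransferAlperin.cj_eq_self (le_normalizer (map_subtype_le _ o.2))]
    exact h11 ▸ h10 ▸ (hF o).2.1
  -- sizes
  have hsize : ∀ (H : Subgroup G), IsBlk S H → ∀ r, r.Prime → IsPGroup r (rad q H) →
      q + 1 ≤ Nat.card (rad q H) ∧ (r = 3 → 2 * q + 1 ≤ Nat.card (rad q H)) := by
    intro H hH r hr hRr
    haveI := Fact.mk hr
    obtain ⟨_, _, _, _, h1, -, -⟩ := hs.exists_prime hH
    have hgt : 1 < Nat.card (rad q H) := (Subgroup.one_lt_card_iff_ne_bot _).mpr h1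
    obtain ⟨m, hm⟩ := (Nat.modEq_iff_dvd' hgt.le).mp
      (hs.card_modEq (coprime_rad q H) (le_normalizer_rad q H (hH.2.1 hxS))).symm
    have hm0 : m ≠ 0 := by rintro rfl; omega
    refine ⟨?_, fun e3 => ?_⟩
    · have : q * 1 ≤ q * m := Nat.mul_le_mul_left q (Nat.pos_of_ne_zero hm0)
      omega
    · subst e3
      have hm1 : m ≠ 1 := by
        rintro rfl
        obtain ⟨n, hn⟩ := IsPGroup.iff_card.mp hRr
        have hodd : Odd (Nat.card (rad q H)) := hn ▸ Odd.pow (by decide)
        have hqodd : Odd q := hqmem.1.odd_of_ne_two (by omega)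
        obtain ⟨a, ha⟩ := hodd
        obtain ⟨b, hb⟩ := hqodd
        omega
      have : q * 2 ≤ q * m := Nat.mul_le_mul_left q (by omega)
      omega
  -- split the blocks by prime
  have hsum : Nat.card {H : Subgroup G // IsBlk S H} ≤
      Nat.card {H : Subgroup G // IsBlk S H ∧ IsPGroup 2 (rad q H)} +
      Nat.card {H : Subgroup G // IsBlk S H ∧ IsPGroup 3 (rad q H)} := by
    rw [← Nat.card_sum]
    refine Nat.card_le_card_of_surjective (Sum.elim (fun H => ⟨H.1, H.2.1⟩) (fun H => ⟨H.1, H.2.1⟩)) ?_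
    rintro ⟨H, hH⟩
    obtain ⟨r, -, hr23, hRr, -⟩ := hs.exists_prime hH
    rcases hr23 with rfl | rfl
    · exact ⟨Sum.inl ⟨H, hH, hRr⟩, rfl⟩
    · exact ⟨Sum.inr ⟨H, hH, hRr⟩, rfl⟩
  have h2 := hfew 2 (Or.inl rfl)
  have h3 := hfew 3 (Or.inr rfl)
  have hno3 : ∀ H, IsBlk S H → ¬ IsPGroup 3 (rad q H) := by
    intro H hH hR3
    have := (hsize H hH 3 Nat.prime_three hR3).2 rfl
    have := count H hH
    omega
  have hzero : Nat.card {H : Subgroup G // IsBlk S H ∧ IsPGroup 3 (rad q H)} = 0 := by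
    rw [Nat.card_eq_zero]
    exact Or.inl ⟨fun H => hno3 H.1 H.2.1 H.2.2⟩
  obtain ⟨r, hr, -, hRr, -⟩ := hs.exists_prime hH1
  have := (hsize H1 hH1 r hr hRr).1
  have := count H1 hH1
  omega

/-- **Thompson**: a non-solvable simple group with solvable proper subgroups has two generators. -/
theorem exists_pair_generators {G : Type u} [Group G] [Finite G] (hsimple : IsSimpleGroup G)
    (hns : ¬ Group.IsSolvable G) (hproper : ∀ H : Subgroup G, H ≠ ⊤ → Group.IsSolvable H) :
    ∃ a b : G, closure ({a, b} : Set G) = ⊤ := by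
  by_contra! hall
  exact Hyp.false_main ⟨hsimple, hns, hproper, hall⟩

end Cfsg.Agent.TwoGen45
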