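import Mathlib
import Cfsg.Agent.Lib.TwoGenMain45

/-!
Consequences of the two-generator theorem: reduction from an arbitrary finite group to a minimal
simple group for properties inherited by subgroups and quotients by solvable subgroups.
-/

set_option autoImplicit false
set_option linter.style.haveILetI false

namespace Cfsg.Agent.TwoGen45

open Subgroup

universe u

/-- A property that passes to subgroups and to quotients by solvable normal subgroups and excludes
minimal simple groups implies solvability. -/
theorem isSolvable_of_hereditary (P : ∀ (G : Type u) [Group G], Prop)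
    (hsub : ∀ (G : Type u) [Group G] [Finite G] (H : Subgroup G), P G → P H)
    (hquot : ∀ (G : Type u) [Group G] [Finite G] (N : Subgroup G) [N.Normal],
      Group.IsSolvable N → P G → P (G ⧸ N))
    (hmin : ∀ (G : Type u) [Group G] [Finite G], P G → IsSimpleGroup G →
      ¬ Group.IsSolvable G → (∀ H : Subgroup G, H ≠ ⊤ → Group.IsSolvable H) → False) :
    ∀ (G : Type u) [Group G] [Finite G], P G → Group.IsSolvable G := by
  suffices key : ∀ (n : ℕ) (G : Type u) [Group G] [Finite G], Nat.card G = n → P G →
      Group.IsSolvable G from fun G _ _ hG => key _ G rfl hG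
  intro n
  induction n using Nat.strong_induction_on with
  | _ n ih =>
  intro G _ _ hn hP
  by_contra hns
  have hproper : ∀ H : Subgroup G, H ≠ ⊤ → Group.IsSolvable H := by
    intro H hH
    refine ih _ ?_ H rfl (hsub G H hP)
    rw [← hn]
    exact lt_of_le_of_ne (card_le_card_group H) fun e => hH (eq_top_of_card_eq H e)
  have hnt : Nontrivial G := by
    by_contra h
    rw [not_nontrivial_iff_subsingleton] at h
    exact hns (Group.isSolvable_of_comm fun a b => Subsingleton.elim _ _)
  refine hmin G hP ⟨fun N hN => ?_⟩ hns hproper
  by_contra hcon
  push Not at hcon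
  have hNs := hproper N hcon.2
  haveI := hNs
  have hQ : Group.IsSolvable (G ⧸ N) := by
    refine ih _ ?_ (G ⧸ N) rfl (hquot G N hNs hP)
    rw [← hn, card_eq_card_quotient_mul_card_subgroup N]
    exact lt_mul_of_one_lt_right Nat.card_pos ((one_lt_card_iff_ne_bot N).mpr hcon.1)
  haveI := hQ
  exact hns (Group.isSolvable_of_ker_le_range N.subtype (QuotientGroup.mk' N) (by simp))

/-- A finite group in which every pair generates a solvable subgroup is solvable. -/
theorem isSolvable_of_pairs {G : Type u} [Group G] [Finite G]
    (h : ∀ a b : G, Group.IsSolvable (closure ({a, b} : Set G))) : Group.IsSolvable G := by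
  refine isSolvable_of_hereditary
    (fun X _ => ∀ a b : X, Group.IsSolvable (closure ({a, b} : Set X))) ?_ ?_ ?_ G h
  · intro X _ _ H hX a b
    haveI := hX (a : X) (b : X)
    have e : (closure ({a, b} : Set H)).map H.subtype = closure ({(a : X), (b : X)} : Set X) := by
      rw [MonoidHom.map_closure, Set.image_pair]; rfl
    haveI : Group.IsSolvable ((closure ({a, b} : Set H)).map H.subtype) := by rw [e]; infer_instance
    exact Group.isSolvable_of_surjective
      (f := ((closure ({a, b} : Set H)).equivMapOfInjective H.subtype H.subtype_injective).symm.toMonoidHom)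
      (MulEquiv.surjective _)
  · intro X _ _ N _ _ hX a b
    obtain ⟨a, rfl⟩ := QuotientGroup.mk'_surjective N a
    obtain ⟨b, rfl⟩ := QuotientGroup.mk'_surjective N b
    haveI := hX a b
    have e : (closure ({a, b} : Set X)).map (QuotientGroup.mk' N) =
        closure ({QuotientGroup.mk' N a, QuotientGroup.mk' N b} : Set (X ⧸ N)) := by
      rw [MonoidHom.map_closure, Set.image_pair]
    rw [← e]
    exact Group.isSolvable_of_surjective (f := (QuotientGroup.mk' N).subgroupMap _)
      (MonoidHom.subgroupMap_surjective _ _)
  · intro X _ _ hX hsimple hns hproper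
    obtain ⟨a, b, hab⟩ := exists_pair_generators hsimple hns hproper
    haveI := hX a b
    apply hns
    haveI : Group.IsSolvable (⊤ : Subgroup X) := by rw [← hab]; infer_instance
    exact Group.isSolvable_of_surjective (f := (Subgroup.topEquiv : (⊤ : Subgroup X) ≃* X).toMonoidHom)
      Subgroup.topEquiv.surjective

end Cfsg.Agent.TwoGen45
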