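import Mathlib
import Cfsg.Agent.Lib.OrthUnitaryTransvection

/-!
Bookkeeping for the Eichler transformations inside a subgroup of a special unitary group, and the criterion that a
subgroup containing the Eichler transformations of both vectors of one hyperbolic pair is everything.
-/

set_option autoImplicit false
set_option linter.unusedSectionVars false

namespace Cfsg.Agent.TwoGenEichler

open Cfsg.Agent.OrthUnitaryHerm Cfsg.Agent.OrthUnitaryTransvection

variable {F : Type*} [Field F] [Fintype F] {q n : ℕ} (hF : Fintype.card F = q ^ 2)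
  {M : Subgroup (SU n F q)}

/-- Some Eichler transformation of `v` and `w` lies in `M`. -/
def Rt (M : Subgroup (SU n F q)) (v w : Fin n → F) : Prop :=
  ∃ (μ : F) (he : hermForm n F q v v = 0) (hw : hermForm n F q w v = 0)
    (hμ : μ + μ ^ q + hermForm n F q w w = 0), eich hF v w μ he hw hμ ∈ M

/-- All transvections centred at `v` lie in `M`. -/
def Tfull (M : Subgroup (SU n F q)) (v : Fin n → F) : Prop :=
  ∀ (c : F) (hv : hermForm n F q v v = 0) (hc : c + c ^ q = 0), tv hF v c hv hc ∈ M

/-- All Eichler transformations of `v` lie in `M`. -/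
def Full (M : Subgroup (SU n F q)) (v : Fin n → F) : Prop :=
  ∀ (w : Fin n → F) (μ : F) (he : hermForm n F q v v = 0) (hw : hermForm n F q w v = 0)
    (hμ : μ + μ ^ q + hermForm n F q w w = 0), eich hF v w μ he hw hμ ∈ M

theorem tv_congr {v v' : Fin n → F} {c c' : F} {hv : hermForm n F q v v = 0} {hc : c + c ^ q = 0}
    (hv' : hermForm n F q v' v' = 0) (hc' : c' + c' ^ q = 0) (h1 : v = v') (h2 : c = c') :
    tv hF v c hv hc = tv hF v' c' hv' hc' := by
  subst h1 h2; rfl

theorem tv_zero {v : Fin n → F} (hv : hermForm n F q v v = 0) (hc : (0 : F) + 0 ^ q = 0) :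
    tv hF v 0 hv hc = 1 := by
  refine su_ext fun x => ?_
  rw [tv_act, act_one, zero_mul, zero_smul, add_zero]

theorem tv_conj (g : SU n F q) {v : Fin n → F} {c : F} (hv : hermForm n F q v v = 0)
    (hc : c + c ^ q = 0) :
    g * tv hF v c hv hc * g⁻¹ = tv hF (act g v) c (by rw [herm_act, hv]) hc := by
  refine su_ext fun x => ?_
  obtain ⟨y, rfl⟩ : ∃ y, x = act g y := ⟨act g⁻¹ x, (act_act_inv g x).symm⟩
  rw [act_mul, act_mul, act_inv_act, tv_act, tv_act, act_add, act_smul, herm_act]

theorem tv_scale {v : Fin n → F} {c a : F} (hav : hermForm n F q (a • v) (a • v) = 0)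
    (hc : c + c ^ q = 0) (hv : hermForm n F q v v = 0) (hc' : c * a ^ (q + 1) + (c * a ^ (q + 1)) ^ q = 0) :
    tv hF (a • v) c hav hc = tv hF v (c * a ^ (q + 1)) hv hc' := by
  refine su_ext fun x => ?_
  rw [tv_act, tv_act, herm_smul_right, smul_smul, pow_succ]
  congr 2
  ring

include hF in
theorem norm_fix (a : F) : (a ^ (q + 1)) ^ q = a ^ (q + 1) := by
  rw [pow_succ, mul_pow, pow_q_q hF, mul_comm]

/-- The parameters of two Eichler transformations with the same vectors differ by a transvection. -/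
theorem eich_shift {v w : Fin n → F} {μ μ' : F} (he : hermForm n F q v v = 0)
    (hw : hermForm n F q w v = 0) (hμ : μ + μ ^ q + hermForm n F q w w = 0)
    (hμ' : μ' + μ' ^ q + hermForm n F q w w = 0) :
    ∃ hd : (μ' - μ) + (μ' - μ) ^ q = 0,
      eich hF v w μ' he hw hμ' = tv hF v (μ' - μ) he hd * eich hF v w μ he hw hμ := by
  refine ⟨by rw [sub_pow_q hF]; linear_combination hμ' - hμ, su_ext fun x => ?_⟩
  rw [act_mul, tv_act, eich_act, eich_act, herm_add_left, herm_add_left, herm_smul_left,
    herm_smul_left, hw, he]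
  module

variable {hF}

theorem Rt.iso {v w : Fin n → F} (h : Rt hF M v w) : hermForm n F q v v = 0 := by
  obtain ⟨_, he, _⟩ := h
  exact he

theorem Rt.perp {v w : Fin n → F} (h : Rt hF M v w) : hermForm n F q w v = 0 := by
  obtain ⟨_, _, hw, _⟩ := h
  exact hw

theorem rt_zero {v : Fin n → F} (hv : hermForm n F q v v = 0) : Rt hF M v 0 := by
  refine ⟨0, hv, herm_zero_left _, by rw [herm_zero_left, zero_pow_q hF]; ring, ?_⟩
  rw [eich_eq_tv, tv_zero]
  exact one_mem _

theorem Rt.add {v w w' : Fin n → F} (h : Rt hF M v w) (h' : Rt hF M v w') :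
    Rt hF M v (w + w') := by
  obtain ⟨μ, he, hw, hμ, hm⟩ := h
  obtain ⟨μ', _, hw', hμ', hm'⟩ := h'
  exact ⟨_, he, _, _, eich_mul hF he hw hw' hμ hμ' ▸ mul_mem hm hm'⟩

theorem Rt.neg {v w : Fin n → F} (h : Rt hF M v w) : Rt hF M v (-w) := by
  obtain ⟨μ, he, hw, hμ, hm⟩ := h
  have hw' : hermForm n F q (-w) v = 0 := by
    rw [← neg_one_smul F w, herm_smul_left, hw, mul_zero]
  have hμ' : μ ^ q + (μ ^ q) ^ q + hermForm n F q (-w) (-w) = 0 := by
    rw [pow_q_q hF, ← neg_one_smul F w, herm_smul_left, herm_smul_right, neg_pow_q hF, one_pow]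
    linear_combination hμ
  refine ⟨μ ^ q, he, hw', hμ', ?_⟩
  have e : eich hF v w μ he hw hμ * eich hF v (-w) (μ ^ q) he hw' hμ' = 1 := by
    refine su_ext fun x => ?_
    rw [eich_mul, act_one, eich_act, ← neg_one_smul F w, herm_smul_left]
    rw [show w + (-1 : F) • w = 0 by module, herm_zero_right hF, smul_zero]
    have : μ + μ ^ q - -1 * hermForm n F q w w = 0 := by linear_combination hμ
    rw [this]
    module
  rw [eq_inv_of_mul_eq_one_right e]
  exact inv_mem hm

theorem Rt.sub {v w w' : Fin n → F} (h : Rt hF M v w) (h' : Rt hF M v w') :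
    Rt hF M v (w - w') := by
  rw [sub_eq_add_neg]; exact h.add h'.neg

theorem Rt.conj {v w : Fin n → F} (h : Rt hF M v w) {g : SU n F q} (hg : g ∈ M) :
    Rt hF M (act g v) (act g w) := by
  obtain ⟨μ, he, hw, hμ, hm⟩ := h
  exact ⟨μ, _, _, _, eich_conj hF g he hw hμ ▸ mul_mem (mul_mem hg hm) (inv_mem hg)⟩

theorem eich_scale {v w : Fin n → F} {μ c : F} (he : hermForm n F q (c • v) (c • v) = 0)
    (hw : hermForm n F q w (c • v) = 0) (hμ : μ + μ ^ q + hermForm n F q w w = 0)
    (he' : hermForm n F q v v = 0) (hw' : hermForm n F q (c ^ q • w) v = 0)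
    (hμ' : μ * c ^ (q + 1) + (μ * c ^ (q + 1)) ^ q + hermForm n F q (c ^ q • w) (c ^ q • w) = 0) :
    eich hF (c • v) w μ he hw hμ = eich hF v (c ^ q • w) (μ * c ^ (q + 1)) he' hw' hμ' := by
  refine su_ext fun x => ?_
  rw [eich_act, eich_act, herm_smul_right, herm_smul_right, pow_q_q hF, pow_succ]
  module

theorem Rt.scale {v w : Fin n → F} {c : F} (hc : c ≠ 0) (h : Rt hF M (c • v) w) :
    Rt hF M v (c ^ q • w) := by
  obtain ⟨μ, he, hw, hμ, hm⟩ := h
  have he' : hermForm n F q v v = 0 := by
    rw [herm_smul_left, herm_smul_right] at he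
    simpa [hc] using he
  have hw' : hermForm n F q (c ^ q • w) v = 0 := by
    rw [herm_smul_right] at hw
    rwa [herm_smul_left]
  have hμ' : μ * c ^ (q + 1) + (μ * c ^ (q + 1)) ^ q +
      hermForm n F q (c ^ q • w) (c ^ q • w) = 0 := by
    rw [mul_pow, norm_fix hF, herm_smul_left, herm_smul_right, pow_q_q hF, pow_succ]
    linear_combination (c ^ q * c) * hμ
  exact ⟨_, he', hw', hμ', eich_scale he hw hμ he' hw' hμ' ▸ hm⟩

/-- Commutator of two Eichler transformations with the same centre. -/
theorem Rt.comm {v w w' : Fin n → F} (h : Rt hF M v w) (h' : Rt hF M v w') :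
    ∃ (hv : hermForm n F q v v = 0)
      (hc : (hermForm n F q w w' - hermForm n F q w' w) +
        (hermForm n F q w w' - hermForm n F q w' w) ^ q = 0),
      tv hF v (hermForm n F q w w' - hermForm n F q w' w) hv hc ∈ M := by
  obtain ⟨μ, he, hw, hμ, hm⟩ := h
  obtain ⟨μ', _, hw', hμ', hm'⟩ := h'
  have hc : (hermForm n F q w w' - hermForm n F q w' w) +
      (hermForm n F q w w' - hermForm n F q w' w) ^ q = 0 := by
    rw [sub_pow_q hF, ← herm_conj hF, ← herm_conj hF]; ring
  refine ⟨he, hc, ?_⟩
  have e : eich hF v w μ he hw hμ * eich hF v w' μ' he hw' hμ' =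
      tv hF v (hermForm n F q w w' - hermForm n F q w' w) he hc *
        (eich hF v w' μ' he hw' hμ' * eich hF v w μ he hw hμ) := by
    refine su_ext fun x => ?_
    rw [eich_mul, eich_mul, act_mul, tv_act, eich_act, eich_act]
    simp only [herm_add_left, herm_smul_left, herm_add_right hF, he, hw, hw', herm_skew_zero hF hw,
      herm_skew_zero hF hw']
    module
  have hx := mul_mem (mul_mem hm hm') (inv_mem (mul_mem hm' hm))
  rwa [e, mul_inv_cancel_right] at hx

theorem Tfull.conj {v : Fin n → F} (h : Tfull hF M v) {g : SU n F q} (hg : g ∈ M) :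
    Tfull hF M (act g v) := fun c hv hc => by
  have hv' : hermForm n F q v v = 0 := by rwa [herm_act] at hv
  exact tv_conj hF g hv' hc ▸ mul_mem (mul_mem hg (h c hv' hc)) (inv_mem hg)

theorem Tfull.smul {v : Fin n → F} (h : Tfull hF M v) {a : F} (ha : a ≠ 0) :
    Tfull hF M (a • v) := fun c hv hc => by
  have hv' : hermForm n F q v v = 0 := by
    rw [herm_smul_left, herm_smul_right] at hv
    simpa [ha] using hv
  have hc' : c * a ^ (q + 1) + (c * a ^ (q + 1)) ^ q = 0 := by
    rw [mul_pow, norm_fix hF]; linear_combination a ^ (q + 1) * hc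
  exact tv_scale hF hv hc hv' hc' ▸ h _ hv' hc'

theorem full_of_rt {v : Fin n → F} (hT : Tfull hF M v)
    (h : ∀ w, hermForm n F q w v = 0 → Rt hF M v w) : Full hF M v := by
  intro w μ he hw hμ
  obtain ⟨μ₀, he', hw', hμ₀, hm⟩ := h w hw
  obtain ⟨hd, e⟩ := eich_shift hF he hw hμ₀ hμ
  rw [e]
  exact mul_mem (hT _ _ _) hm

theorem full_conj {v : Fin n → F} (h : Full hF M v) {g : SU n F q} (hg : g ∈ M) :
    Full hF M (act g v) := by
  intro w μ he hw hμ
  obtain ⟨y, rfl⟩ : ∃ y, w = act g y := ⟨act g⁻¹ w, (act_act_inv g w).symm⟩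
  have he' : hermForm n F q v v = 0 := by rwa [herm_act] at he
  have hw' : hermForm n F q y v = 0 := by rwa [herm_act] at hw
  have hμ' : μ + μ ^ q + hermForm n F q y y = 0 := by rwa [herm_act] at hμ
  exact eich_conj hF g he' hw' hμ' ▸ mul_mem (mul_mem hg (h y μ he' hw' hμ')) (inv_mem hg)

theorem full_of_conj {v : Fin n → F} {g : SU n F q} (hg : g ∈ M) (h : Full hF M (act g v)) :
    Full hF M v := by
  simpa [act_inv_act] using full_conj h (inv_mem hg)

theorem full_smul {v : Fin n → F} (h : Full hF M v) {c : F} (hc : c ≠ 0) :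
    Full hF M (c • v) := by
  intro w μ he hw hμ
  have he' : hermForm n F q v v = 0 := by
    rw [herm_smul_left, herm_smul_right] at he
    simpa [hc] using he
  have hw' : hermForm n F q (c ^ q • w) v = 0 := by
    rw [herm_smul_right] at hw
    rwa [herm_smul_left]
  have hμ' : μ * c ^ (q + 1) + (μ * c ^ (q + 1)) ^ q +
      hermForm n F q (c ^ q • w) (c ^ q • w) = 0 := by
    rw [mul_pow, norm_fix hF, herm_smul_left, herm_smul_right, pow_q_q hF, pow_succ]
    linear_combination (c ^ q * c) * hμ
  exact eich_scale he hw hμ he' hw' hμ' ▸ h _ _ he' hw' hμ'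

/-- The Eichler transformations of one hyperbolic pair generate the group. -/
theorem top_of_pair (hn : 3 ≤ n) (h32 : ¬(n = 3 ∧ q = 2)) {e f : Fin n → F}
    (hee : hermForm n F q e e = 0) (hff : hermForm n F q f f = 0) (hef : hermForm n F q e f = 1)
    (Fe : Full hF M e) (Ff : Full hF M f) : M = ⊤ := by
  have hfe : hermForm n F q f e = 1 := by rw [herm_conj hF, hef, one_pow]
  have side : ∀ e f : Fin n → F, hermForm n F q e e = 0 → hermForm n F q f f = 0 →
      hermForm n F q e f = 1 → Full hF M e → Full hF M f →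
      ∀ v, hermForm n F q v v = 0 → hermForm n F q v e ≠ 0 → Full hF M v := by
    intro e f hee hff hef Fe Ff v hv hβ
    have hfe : hermForm n F q f e = 1 := by rw [herm_conj hF, hef, one_pow]
    set α := hermForm n F q v f with hα
    set β := hermForm n F q v e with hβdef
    set y := v - α • e - β • f with hy
    have hye : hermForm n F q y e = 0 := by
      rw [hy, herm_sub_left, herm_sub_left, herm_smul_left, herm_smul_left, hee, hfe, ← hβdef]
      ring
    have hyf : hermForm n F q y f = 0 := by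
      rw [hy, herm_sub_left, herm_sub_left, herm_smul_left, herm_smul_left, hff, hef, ← hα]
      ring
    have hv' : v = α • e + β • f + y := by rw [hy]; abel
    have hyy : α * β ^ q + β * α ^ q + hermForm n F q y y = 0 := by
      have := hv
      rw [hv'] at this
      simp only [herm_add_left, herm_add_right hF, herm_smul_left, herm_smul_right, hee, hff, hef,
        hfe, hye, hyf, herm_skew_zero hF hye, herm_skew_zero hF hyf] at this
      linear_combination this
    have hw : hermForm n F q (β⁻¹ • y) e = 0 := by rw [herm_smul_left, hye, mul_zero]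
    have hμ : α / β + (α / β) ^ q + hermForm n F q (β⁻¹ • y) (β⁻¹ • y) = 0 := by
      rw [herm_smul_left, herm_smul_right, div_pow, inv_pow]
      field_simp
      linear_combination hyy
    have himg : act (eich hF e (β⁻¹ • y) (α / β) hee hw hμ) (β • f) = v := by
      have hfy : hermForm n F q f (β⁻¹ • y) = 0 := by
        rw [herm_smul_right, herm_skew_zero hF hyf, mul_zero]
      rw [eich_act, herm_smul_left, herm_smul_left, hfe, hfy, hv']
      match_scalars <;> field_simp <;> ring
    exact himg ▸ full_conj (full_smul Ff hβ) (Fe _ _ _ _ _)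
  have all : ∀ v, hermForm n F q v v = 0 → v ≠ 0 → Full hF M v := by
    intro v hv hv0
    by_cases h1 : hermForm n F q v e = 0
    swap
    · exact side e f hee hff hef Fe Ff v hv h1
    by_cases h2 : hermForm n F q v f = 0
    swap
    · exact side f e hff hee hfe Ff Fe v hv h2
    obtain ⟨z, hz⟩ := exists_herm_ne hF hv0
    have hvz : hermForm n F q v z ≠ 0 := herm_skew_ne hF hz
    set z' := z - hermForm n F q z f • e - hermForm n F q z e • f with hz'
    have hzf : hermForm n F q z' f = 0 := by
      rw [hz', herm_sub_left, herm_sub_left, herm_smul_left, herm_smul_left, hef, hff]; ring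
    have hvz' : hermForm n F q v z' = hermForm n F q v z := by
      rw [hz', herm_sub_right hF, herm_sub_right hF, herm_smul_right, herm_smul_right, h1, h2]; ring
    obtain ⟨μ, hμ⟩ := exists_mu hF z'
    refine full_of_conj (Ff z' μ hff hzf hμ) (side e f hee hff hef Fe Ff _ (by rw [herm_act, hv]) ?_)
    rw [eich_act, h2, herm_add_left, herm_add_left, herm_smul_left, herm_smul_left, h1, hfe, hvz']
    simpa using hvz
  rw [eq_top_iff, ← tGroup_eq_top hF (by omega) h32, tGroup, Subgroup.closure_le]
  rintro A ⟨v, c, hv, hA⟩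
  rcases eq_tv_or_one hF hv hA with rfl | ⟨hc, rfl, hv0⟩
  · exact one_mem M
  · have hc' : c + c ^ q + hermForm n F q (0 : Fin n → F) 0 = 0 := by
      rw [herm_zero_left, add_zero, hc]
    have := all v hv hv0 0 c hv (herm_zero_left _) hc'
    rwa [eich_eq_tv] at this

end Cfsg.Agent.TwoGenEichler
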