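import Mathlib
import Cfsg.Agent.Lib.TwoGenSiegel
import Cfsg.Agent.Lib.TwoGenBasic
import Cfsg.Agent.Lib.OrthUnitaryStd

/-!
Two generators of the commutator subgroup of the orthogonal group of at least three hyperbolic planes over a
non-degenerate base form.

The first generator is the product of an element of order prime to the characteristic acting on the first two planes
as a companion matrix and its contragredient, and a Siegel transformation at the third plane along a vector of the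
base. The second permutes the planes cyclically with one exchange of the two vectors of a plane, and acts on the base
as a reflection.
-/

set_option autoImplicit false
set_option linter.unusedSectionVars false
set_option linter.unusedSimpArgs false

namespace Cfsg.Agent.TwoGenOrthogonal

open QuadraticMap
open Cfsg.Agent.OrthUnitaryQuad Cfsg.Agent.OrthUnitaryRefl Cfsg.Agent.OrthUnitarySimple
open Cfsg.Agent.TwoGenSiegel

section Moves

variable {F V : Type*} [Field F] [AddCommGroup V] [Module F V] {Q : QuadraticForm F V}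

theorem siegel_fix {u w x : V} (hu : Q u = 0) (hw : polar Q u w = 0) (h1 : polar Q u x = 0)
    (h2 : polar Q w x = 0) : (siegel Q u w hu hw).1 x = x := by
  rw [siegel_apply, h1, h2]
  simp

theorem pow_fix {g : orth Q} {x : V} (h : g.1 x = x) : ∀ n : ℕ, (g ^ n).1 x = x := by
  intro n
  induction n with
  | zero => rfl
  | succ n ih => rw [pow_succ, orth_mul_apply, h, ih]

theorem inv_fix {g : orth Q} {x : V} (h : g.1 x = x) : (g⁻¹ : orth Q).1 x = x := by
  calc (g⁻¹ : orth Q).1 x = (g⁻¹ : orth Q).1 (g.1 x) := by rw [h]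
    _ = x := by rw [← orth_mul_apply, inv_mul_cancel]; rfl

theorem inv_apply_cancel (g : orth Q) (x : V) : (g⁻¹ : orth Q).1 (g.1 x) = x := by
  rw [← orth_mul_apply, inv_mul_cancel]; rfl

/-- Powers of an element rotating a pair by the companion matrix. -/
theorem pow_comp_pair {g : orth Q} {τ : F} {a b : V} (ha : g.1 a = b)
    (hb : g.1 b = -a + τ • b) (n : ℕ) :
    (g ^ n).1 a =
      ((TwoGenBasic.comp2 τ) ^ n).1 0 0 • a + ((TwoGenBasic.comp2 τ) ^ n).1 1 0 • b := by
  induction n with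
  | zero => simp
  | succ n ih =>
    rw [pow_succ', orth_mul_apply, ih, map_add, map_smul, map_smul, ha, hb, pow_succ',
      Matrix.SpecialLinearGroup.coe_mul, TwoGenBasic.coe_comp2]
    simp [Matrix.mul_apply, Fin.sum_univ_two]
    module

theorem pow_comp_luc {g : orth Q} {τ : F} {a b : V} (ha : g.1 a = b)
    (hb : g.1 b = -a + τ • b) (n : ℕ) :
    (g ^ (n + 1)).1 a = (-TwoGenBasic.luc τ n) • a + TwoGenBasic.luc τ (n + 1) • b := by
  induction n with
  | zero => simp [TwoGenBasic.luc, ha]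
  | succ n ih =>
    rw [pow_succ', orth_mul_apply, ih, map_add, map_smul, map_smul, ha, hb]
    simp only [TwoGenBasic.luc]
    module

end Moves

variable {F W : Type*} [Field F] [AddCommGroup W] [Module F W] {k : ℕ} {Q₀ : QuadraticForm F W}

local notation "V" => (Fin k ⊕ Fin k → F) × W
local notation "Qk" => withBase k Q₀

/-- A coordinate vector of the planes. -/
def bas (a : Fin k ⊕ Fin k) : V := (Pi.single a 1, 0)

/-- A vector of the base. -/
def emb (w : W) : V := (0, w)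

theorem polar_withBase (p r : V) :
    polar Qk p r = (∑ i, (p.1 (Sum.inl i) * r.1 (Sum.inr i) + r.1 (Sum.inl i) * p.1 (Sum.inr i)))
      + polar Q₀ p.2 r.2 := by
  obtain ⟨v, x⟩ := p
  obtain ⟨v', x'⟩ := r
  simp only [polar, Prod.mk_add_mk, withBase_apply, quadFormPlus, Pi.add_apply]
  have : ∀ i : Fin k, (v (Sum.inl i) + v' (Sum.inl i)) * (v (Sum.inr i) + v' (Sum.inr i)) =
      v (Sum.inl i) * v (Sum.inr i) + v' (Sum.inl i) * v' (Sum.inr i) +
        (v (Sum.inl i) * v' (Sum.inr i) + v' (Sum.inl i) * v (Sum.inr i)) := fun i => by ring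
  simp only [this, Finset.sum_add_distrib]
  ring

theorem polar_bas_right (p : V) (a : Fin k ⊕ Fin k) : polar Qk (bas a) p = p.1 a.swap := by
  rw [polar_withBase]
  rcases a with i | i <;> simp [bas, Pi.single_apply]

theorem polar_bas (a c : Fin k ⊕ Fin k) :
    polar Qk (bas a : V) (bas c) = if c = a.swap then 1 else 0 := by
  rw [polar_bas_right]
  simp [bas, Pi.single_apply, eq_comm]

theorem polar_bas_emb (a : Fin k ⊕ Fin k) (w : W) : polar Qk (bas a : V) (emb w) = 0 := by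
  rw [polar_bas_right]; rfl

theorem polar_emb (w w' : W) : polar Qk (emb w : V) (emb w') = polar Q₀ w w' := by
  rw [polar_withBase]; simp [emb]

theorem Q_bas (a : Fin k ⊕ Fin k) : Qk (bas a : V) = 0 := by
  rcases a with i | i <;> simp [bas, withBase_apply, quadFormPlus, Pi.single_apply]

theorem Q_emb (w : W) : Qk (emb w : V) = Q₀ w := by
  simp [emb, withBase_apply, quadFormPlus]

theorem decomp (p : V) : p = (∑ a, p.1 a • (bas a : V)) + emb p.2 := by
  refine Prod.ext ?_ ?_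
  · funext c
    rcases c with i | i <;> simp [bas, emb, Prod.fst_sum, Finset.sum_apply, Pi.single_apply]
  · simp [bas, emb, Prod.snd_sum]

theorem emb_add (w w' : W) : (emb (w + w') : V) = emb w + emb w' := by simp [emb]

theorem emb_smul (c : F) (w : W) : (emb (c • w) : V) = c • emb w := by simp [emb]

theorem bas_ne (a : Fin k ⊕ Fin k) : (bas a : V) ≠ 0 := fun h => by
  have := congrFun (congrArg Prod.fst h) a
  simp [bas] at this

/-- The first vector of plane `i`, or zero. -/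
def ev (i : ℕ) : V := if h : i < k then bas (Sum.inl ⟨i, h⟩) else 0

/-- The second vector of plane `i`, or zero. -/
def fv (i : ℕ) : V := if h : i < k then bas (Sum.inr ⟨i, h⟩) else 0

theorem ev_coe (i : Fin k) : (ev (i : ℕ) : V) = bas (Sum.inl i) := by simp [ev, i.isLt]

theorem fv_coe (i : Fin k) : (fv (i : ℕ) : V) = bas (Sum.inr i) := by simp [fv, i.isLt]

theorem pol_ee (i j : ℕ) : polar Qk (ev i : V) (ev j) = 0 := by
  unfold ev
  split_ifs <;> simp [polar_bas, polar_zero_left, polar_zero_right]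

theorem pol_ff (i j : ℕ) : polar Qk (fv i : V) (fv j) = 0 := by
  unfold fv
  split_ifs <;> simp [polar_bas, polar_zero_left, polar_zero_right]

theorem pol_ef {i j : ℕ} (h : i ≠ j) : polar Qk (ev i : V) (fv j) = 0 := by
  unfold ev fv
  split_ifs <;> simp [polar_bas, polar_zero_left, polar_zero_right, Fin.ext_iff, Ne.symm h]

theorem pol_fe {i j : ℕ} (h : i ≠ j) : polar Qk (fv i : V) (ev j) = 0 := by
  rw [polar_comm]; exact pol_ef (Ne.symm h)

theorem pol_ef_self {i : ℕ} (h : i < k) : polar Qk (ev i : V) (fv i) = 1 := by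
  simp [ev, fv, h, polar_bas]

theorem pol_fe_self {i : ℕ} (h : i < k) : polar Qk (fv i : V) (ev i) = 1 := by
  rw [polar_comm]; exact pol_ef_self h

theorem pol_eW (i : ℕ) (w : W) : polar Qk (ev i : V) (emb w) = 0 := by
  unfold ev
  split_ifs <;> simp [polar_bas_emb, polar_zero_left]

theorem pol_fW (i : ℕ) (w : W) : polar Qk (fv i : V) (emb w) = 0 := by
  unfold fv
  split_ifs <;> simp [polar_bas_emb, polar_zero_left]

theorem pol_We (i : ℕ) (w : W) : polar Qk (emb w : V) (ev i) = 0 := by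
  rw [polar_comm]; exact pol_eW i w

theorem pol_Wf (i : ℕ) (w : W) : polar Qk (emb w : V) (fv i) = 0 := by
  rw [polar_comm]; exact pol_fW i w

theorem Q_ev (i : ℕ) : Qk (ev i : V) = 0 := by
  unfold ev; split_ifs <;> simp [Q_bas]

theorem Q_fv (i : ℕ) : Qk (fv i : V) = 0 := by
  unfold fv; split_ifs <;> simp [Q_bas]

theorem orth_ext_bas {g h : orth Qk} (he : ∀ i < k, g.1 (ev i : V) = h.1 (ev i))
    (hf : ∀ i < k, g.1 (fv i : V) = h.1 (fv i)) (hw : ∀ w, g.1 (emb w : V) = h.1 (emb w)) :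
    g = h := by
  refine orth_ext fun p => ?_
  rw [decomp p, map_add, map_add, map_sum, map_sum, hw]
  congr 1
  refine Finset.sum_congr rfl fun a _ => ?_
  rw [map_smul, map_smul]
  rcases a with i | i
  · rw [← ev_coe, he i i.isLt]
  · rw [← fv_coe, hf i i.isLt]

/-- The Levi transvection `e_j ↦ e_j + c e_i`. -/
noncomputable def lev (i j : ℕ) (h : i ≠ j) (c : F) : orth (withBase k Q₀) :=
  siegel _ (ev i) ((-c) • fv j) (Q_ev i) (by rw [polar_smul_right, pol_ef h, smul_zero])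

theorem lev_apply (i j : ℕ) (h : i ≠ j) (c : F) (x : V) :
    (lev (Q₀ := Q₀) i j h c).1 x
      = x + (-c * polar Qk (ev i) x) • fv j + (c * polar Qk (fv j) x) • ev i := by
  rw [lev, siegel_apply, QuadraticMap.map_smul, Q_fv, polar_smul_left]
  simp only [smul_eq_mul]
  module

/-- The rotation `e_i ↦ e_{i+1} ↦ -e_i` of two neighbouring planes. -/
noncomputable def swp (i : ℕ) : orth (withBase k Q₀) :=
  lev i (i + 1) (by omega) (-1) * lev (i + 1) i (by omega) 1 * lev i (i + 1) (by omega) (-1)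

theorem swp_mem (hQ : (polarBilin Qk).Nondegenerate) (hn : 5 ≤ Module.finrank F V) [Fintype F]
    [FiniteDimensional F W] (i : ℕ) : swp (Q₀ := Q₀) (k := k) i ∈ sGroup Qk :=
  mul_mem (mul_mem (siegel_mem hQ hn _ _) (siegel_mem hQ hn _ _)) (siegel_mem hQ hn _ _)

theorem swp_ev (i : ℕ) (h : i + 1 < k) : (swp (Q₀ := Q₀) i).1 (ev i : V) = ev (i + 1) := by
  have h0 : i < k := by omega
  simp only [swp, orth_mul_apply, lev_apply, polar_add_right, polar_smul_right, pol_ee, pol_ff,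
    pol_fe (show i + 1 ≠ i by omega), pol_ef (show i ≠ i + 1 by omega),
    pol_fe (show i ≠ i + 1 by omega), pol_ef (show i + 1 ≠ i by omega), pol_fe_self h,
    pol_ef_self h, pol_fe_self h0, pol_ef_self h0, smul_eq_mul]
  module

theorem swp_ev' (i : ℕ) (h : i + 1 < k) : (swp (Q₀ := Q₀) i).1 (ev (i + 1) : V) = -ev i := by
  have h0 : i < k := by omega
  simp only [swp, orth_mul_apply, lev_apply, polar_add_right, polar_smul_right, pol_ee, pol_ff,
    pol_fe (show i + 1 ≠ i by omega), pol_ef (show i ≠ i + 1 by omega),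
    pol_fe (show i ≠ i + 1 by omega), pol_ef (show i + 1 ≠ i by omega), pol_fe_self h,
    pol_ef_self h, pol_fe_self h0, pol_ef_self h0, smul_eq_mul]
  module

theorem swp_fv (i : ℕ) (h : i + 1 < k) : (swp (Q₀ := Q₀) i).1 (fv i : V) = fv (i + 1) := by
  have h0 : i < k := by omega
  simp only [swp, orth_mul_apply, lev_apply, polar_add_right, polar_smul_right, pol_ee, pol_ff,
    pol_fe (show i + 1 ≠ i by omega), pol_ef (show i ≠ i + 1 by omega),
    pol_fe (show i ≠ i + 1 by omega), pol_ef (show i + 1 ≠ i by omega), pol_fe_self h,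
    pol_ef_self h, pol_fe_self h0, pol_ef_self h0, smul_eq_mul]
  module

theorem swp_fv' (i : ℕ) (h : i + 1 < k) : (swp (Q₀ := Q₀) i).1 (fv (i + 1) : V) = -fv i := by
  have h0 : i < k := by omega
  simp only [swp, orth_mul_apply, lev_apply, polar_add_right, polar_smul_right, pol_ee, pol_ff,
    pol_fe (show i + 1 ≠ i by omega), pol_ef (show i ≠ i + 1 by omega),
    pol_fe (show i ≠ i + 1 by omega), pol_ef (show i + 1 ≠ i by omega), pol_fe_self h,
    pol_ef_self h, pol_fe_self h0, pol_ef_self h0, smul_eq_mul]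
  module

theorem swp_fix_ev (i j : ℕ) (h1 : j ≠ i) (h2 : j ≠ i + 1) :
    (swp (Q₀ := Q₀) i).1 (ev j : V) = ev j := by
  simp [swp, orth_mul_apply, lev_apply, pol_ee, pol_fe (Ne.symm h1), pol_fe (Ne.symm h2)]

theorem swp_fix_fv (i j : ℕ) (h1 : j ≠ i) (h2 : j ≠ i + 1) :
    (swp (Q₀ := Q₀) i).1 (fv j : V) = fv j := by
  simp [swp, orth_mul_apply, lev_apply, pol_ff, pol_ef (Ne.symm h1), pol_ef (Ne.symm h2)]

theorem swp_emb (i : ℕ) (w : W) : (swp (Q₀ := Q₀) i).1 (emb w : V) = emb w := by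
  simp [swp, orth_mul_apply, lev_apply, pol_eW, pol_fW]

/-- The cycle through the planes `0, …, j`. -/
noncomputable def cyc : ℕ → orth (withBase k Q₀)
  | 0 => 1
  | j + 1 => cyc j * swp j

theorem cyc_mem (hQ : (polarBilin Qk).Nondegenerate) (hn : 5 ≤ Module.finrank F V) [Fintype F]
    [FiniteDimensional F W] : ∀ j, cyc (Q₀ := Q₀) (k := k) j ∈ sGroup Qk
  | 0 => one_mem _
  | j + 1 => mul_mem (cyc_mem hQ hn j) (swp_mem hQ hn j)

theorem cyc_emb : ∀ (j : ℕ) (w : W), (cyc (Q₀ := Q₀) j).1 (emb w : V) = emb w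
  | 0, w => rfl
  | j + 1, w => by rw [cyc, orth_mul_apply, swp_emb, cyc_emb j w]

theorem cyc_above : ∀ (j i : ℕ), j < i →
    (cyc (Q₀ := Q₀) j).1 (ev i : V) = ev i ∧ (cyc (Q₀ := Q₀) j).1 (fv i : V) = fv i
  | 0, i, _ => ⟨rfl, rfl⟩
  | j + 1, i, h => by
    obtain ⟨he, hf⟩ := cyc_above j i (by omega)
    rw [cyc, orth_mul_apply, orth_mul_apply, swp_fix_ev j i (by omega) (by omega),
      swp_fix_fv j i (by omega) (by omega)]
    exact ⟨he, hf⟩

theorem cyc_lt : ∀ (j i : ℕ), i < j → j < k →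
    (cyc (Q₀ := Q₀) j).1 (ev i : V) = ev (i + 1) ∧
      (cyc (Q₀ := Q₀) j).1 (fv i : V) = fv (i + 1)
  | 0, i, h, _ => absurd h (Nat.not_lt_zero i)
  | j + 1, i, h, hk => by
    rw [cyc, orth_mul_apply, orth_mul_apply]
    rcases (Nat.lt_succ_iff.1 h).eq_or_lt with rfl | h'
    · rw [swp_ev i hk, swp_fv i hk]
      exact cyc_above i (i + 1) (by omega)
    · rw [swp_fix_ev j i (by omega) (by omega), swp_fix_fv j i (by omega) (by omega)]
      exact cyc_lt j i h' (by omega)

theorem cyc_top : ∀ j : ℕ, j < k →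
    (cyc (Q₀ := Q₀) j).1 (ev j : V) = ((-1 : F) ^ j) • ev 0 ∧
      (cyc (Q₀ := Q₀) j).1 (fv j : V) = ((-1 : F) ^ j) • fv 0
  | 0, _ => by simp [cyc]
  | j + 1, hk => by
    obtain ⟨he, hf⟩ := cyc_top j (by omega)
    rw [cyc, orth_mul_apply, orth_mul_apply, swp_ev' j hk, swp_fv' j hk, map_neg, map_neg, he, hf,
      pow_succ]
    constructor <;> module

variable (hk : 3 ≤ k)

/-- The element exchanging the vectors of the first plane, reflecting the base. -/
noncomputable def flip0 (v : W) : orth (withBase k Q₀) :=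
  siegel (withBase k Q₀) (ev 0) (emb v) (Q_ev 0) (pol_eW 0 v) *
      siegel (withBase k Q₀) (fv 0) ((Q₀ v)⁻¹ • emb v) (Q_fv 0)
        (by rw [polar_smul_right, pol_fW, smul_zero]) *
    siegel (withBase k Q₀) (ev 0) (emb v) (Q_ev 0) (pol_eW 0 v)

theorem flip0_mem (hQ : (polarBilin Qk).Nondegenerate) (hn : 5 ≤ Module.finrank F V) [Fintype F]
    [FiniteDimensional F W] (v : W) : flip0 (Q₀ := Q₀) (k := k) v ∈ sGroup Qk :=
  mul_mem (mul_mem (siegel_mem hQ hn _ _) (siegel_mem hQ hn _ _)) (siegel_mem hQ hn _ _)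

theorem flip0_ev (h0 : 0 < k) {v : W} (hv : Q₀ v ≠ 0) :
    (flip0 (Q₀ := Q₀) v).1 (ev 0 : V) = (-(Q₀ v)⁻¹) • fv 0 := by
  simp only [flip0, orth_mul_apply, siegel_apply, polar_add_right, polar_sub_right,
    polar_smul_right, polar_smul_left, QuadraticMap.map_smul, Q_emb, pol_ee, pol_ff, pol_eW,
    pol_fW, pol_We, pol_Wf, polar_self_mul, Q_ev, Q_fv, pol_fe_self h0, pol_ef_self h0,
    smul_eq_mul]
  match_scalars <;> field_simp <;> ring

theorem flip0_fv (h0 : 0 < k) {v : W} (hv : Q₀ v ≠ 0) :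
    (flip0 (Q₀ := Q₀) v).1 (fv 0 : V) = (-Q₀ v) • ev 0 := by
  simp only [flip0, orth_mul_apply, siegel_apply, polar_add_right, polar_sub_right,
    polar_smul_right, polar_smul_left, QuadraticMap.map_smul, Q_emb, pol_ee, pol_ff, pol_eW,
    pol_fW, pol_We, pol_Wf, polar_self_mul, Q_ev, Q_fv, pol_fe_self h0, pol_ef_self h0,
    smul_eq_mul]
  match_scalars <;> field_simp <;> ring

theorem flip0_emb (h0 : 0 < k) {v : W} (hv : Q₀ v ≠ 0) (y : W) :
    (flip0 (Q₀ := Q₀) v).1 (emb y : V) = emb ((refl Q₀ v hv).1 y) := by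
  rw [refl_apply, sub_eq_add_neg, ← neg_smul, emb_add, emb_smul]
  simp only [flip0, orth_mul_apply, siegel_apply, polar_add_right, polar_sub_right,
    polar_smul_right, polar_smul_left, QuadraticMap.map_smul, Q_emb, pol_ee, pol_ff, pol_eW,
    pol_fW, pol_We, pol_Wf, polar_emb, polar_self_mul, Q_ev, Q_fv, pol_fe_self h0, pol_ef_self h0,
    smul_eq_mul]
  match_scalars <;> field_simp <;> ring

theorem flip0_fix (i : ℕ) (hi : i ≠ 0) (v : W) :
    (flip0 (Q₀ := Q₀) v).1 (ev i : V) = ev i ∧ (flip0 (Q₀ := Q₀) v).1 (fv i : V) = fv i := by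
  constructor <;>
    simp [flip0, orth_mul_apply, siegel_apply, polar_smul_left, pol_ee, pol_ff,
      pol_fe (Ne.symm hi), pol_ef (Ne.symm hi), pol_We, pol_Wf]

/-- The first factor: the companion matrix on the first two planes. -/
noncomputable def sing (τ : F) : orth (withBase k Q₀) := swp 0 * lev 0 1 (by omega) τ

theorem sing_mem (hQ : (polarBilin Qk).Nondegenerate) (hn : 5 ≤ Module.finrank F V) [Fintype F]
    [FiniteDimensional F W] (τ : F) : sing (Q₀ := Q₀) (k := k) τ ∈ sGroup Qk :=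
  mul_mem (swp_mem hQ hn 0) (siegel_mem hQ hn _ _)

theorem sing_ev0 (h : 1 < k) (τ : F) : (sing (Q₀ := Q₀) τ).1 (ev 0 : V) = ev 1 := by
  rw [sing, orth_mul_apply, lev_apply, pol_ee, pol_fe (by omega : (1 : ℕ) ≠ 0)]
  simpa using swp_ev (Q₀ := Q₀) 0 (by omega)

theorem sing_ev1 (h : 1 < k) (τ : F) :
    (sing (Q₀ := Q₀) τ).1 (ev 1 : V) = -ev 0 + τ • ev 1 := by
  rw [sing, orth_mul_apply, lev_apply, pol_ee, pol_fe_self h]
  simp only [mul_zero, neg_zero, zero_smul, add_zero, mul_one, map_add, map_smul]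
  rw [swp_ev (Q₀ := Q₀) 0 (by omega), swp_ev' (Q₀ := Q₀) 0 (by omega)]

theorem sing_fv1 (h : 1 < k) (τ : F) : (sing (Q₀ := Q₀) τ).1 (fv 1 : V) = -fv 0 := by
  rw [sing, orth_mul_apply, lev_apply, pol_ff, pol_ef (by omega : (0 : ℕ) ≠ 1)]
  simpa using swp_fv' (Q₀ := Q₀) 0 (by omega)

theorem sing_fv0 (h : 1 < k) (τ : F) :
    (sing (Q₀ := Q₀) τ).1 (fv 0 : V) = fv 1 + τ • fv 0 := by
  rw [sing, orth_mul_apply, lev_apply, pol_ff, pol_ef_self (by omega : 0 < k)]
  simp only [mul_zero, neg_zero, zero_smul, add_zero, mul_one, map_add, map_smul]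
  rw [swp_fv (Q₀ := Q₀) 0 (by omega), swp_fv' (Q₀ := Q₀) 0 (by omega)]
  module

theorem sing_fix (i : ℕ) (h0 : i ≠ 0) (h1 : i ≠ 1) (τ : F) :
    (sing (Q₀ := Q₀) τ).1 (ev i : V) = ev i ∧ (sing (Q₀ := Q₀) τ).1 (fv i : V) = fv i := by
  rw [sing, orth_mul_apply, orth_mul_apply, lev_apply, lev_apply, pol_ee, pol_ff,
    pol_fe (Ne.symm h1), pol_ef (Ne.symm h0)]
  simp [swp_fix_ev (Q₀ := Q₀) 0 i h0 h1, swp_fix_fv (Q₀ := Q₀) 0 i h0 h1]

theorem sing_emb (τ : F) (w : W) : (sing (Q₀ := Q₀) (k := k) τ).1 (emb w) = emb w := by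
  rw [sing, orth_mul_apply, lev_apply, pol_eW, pol_fW]
  simp [swp_emb]

theorem not_dvd_orderOf_sing [Fintype F] (h : 1 < k) {p : ℕ} [Fact p.Prime] [CharP F p] {τ : F}
    (hτ : τ ^ 2 ≠ 4) : ¬ p ∣ orderOf (sing (Q₀ := Q₀) (k := k) τ) := fun hd => by
  refine TwoGenBasic.not_dvd_orderOf_comp2 (p := p) hτ (hd.trans (orderOf_dvd_of_pow_eq_one ?_))
  set n := orderOf (TwoGenBasic.comp2 τ)
  set s := sing (Q₀ := Q₀) (k := k) τ with hs
  have pair : ∀ a b : V, s.1 a = b → s.1 b = -a + τ • b → (s ^ n).1 a = a ∧ (s ^ n).1 b = b := by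
    intro a b ha hb
    have h1 : (s ^ n).1 a = a := by
      rw [pow_comp_pair ha hb, pow_orderOf_eq_one]
      simp
    refine ⟨h1, ?_⟩
    rw [← ha, ← orth_mul_apply, ← pow_succ, pow_succ', orth_mul_apply, h1]
  obtain ⟨e0, e1⟩ := pair _ _ (sing_ev0 h τ) (sing_ev1 h τ)
  obtain ⟨f1, f0⟩ := pair (fv 1) (-fv 0) (sing_fv1 h τ)
    (by rw [map_neg, sing_fv0 h τ]; module)
  rw [map_neg, neg_inj] at f0
  refine orth_ext_bas (fun i hi => ?_) (fun i hi => ?_) fun w => ?_
  · show (s ^ n).1 _ = ev i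
    rcases i with _ | _ | i
    · exact e0
    · exact e1
    · exact pow_fix (sing_fix _ (by omega) (by omega) τ).1 n
  · show (s ^ n).1 _ = fv i
    rcases i with _ | _ | i
    · exact f0
    · exact f1
    · exact pow_fix (sing_fix _ (by omega) (by omega) τ).2 n
  · exact pow_fix (sing_emb τ w) n

/-- The second generator. -/
noncomputable def cox (v : W) : orth (withBase k Q₀) := flip0 v * cyc (k - 1)

include hk

theorem cox_step {v : W} (hv : Q₀ v ≠ 0) :
    (∀ i, i + 1 < k → (cox (Q₀ := Q₀) v).1 (ev i : V) = ev (i + 1) ∧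
      (cox (Q₀ := Q₀) v).1 (fv i : V) = fv (i + 1)) ∧
    (∃ c : F, c ≠ 0 ∧ (cox (Q₀ := Q₀) v).1 (ev (k - 1) : V) = c • fv 0) ∧
    (∃ c : F, c ≠ 0 ∧ (cox (Q₀ := Q₀) v).1 (fv (k - 1) : V) = c • ev 0) ∧
    ∀ y, (cox (Q₀ := Q₀) v).1 (emb y : V) = emb ((refl Q₀ v hv).1 y) := by
  have hne : ((-1 : F) ^ (k - 1)) ≠ 0 := pow_ne_zero _ (neg_ne_zero.2 one_ne_zero)
  obtain ⟨te, tf⟩ := cyc_top (Q₀ := Q₀) (k := k) (k - 1) (by omega)
  refine ⟨fun i hi => ?_, ⟨_, mul_ne_zero hne (neg_ne_zero.2 (inv_ne_zero hv)), ?_⟩,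
    ⟨_, mul_ne_zero hne (neg_ne_zero.2 hv), ?_⟩, fun y => ?_⟩
  · obtain ⟨he, hf⟩ := cyc_lt (Q₀ := Q₀) (k := k) (k - 1) i (by omega) (by omega)
    rw [cox, orth_mul_apply, orth_mul_apply, he, hf]
    exact flip0_fix (i + 1) (by omega) v
  · rw [cox, orth_mul_apply, te, map_smul, flip0_ev (by omega) hv, smul_smul]
  · rw [cox, orth_mul_apply, tf, map_smul, flip0_fv (by omega) hv, smul_smul]
  · rw [cox, orth_mul_apply, cyc_emb, flip0_emb (by omega) hv]

/-- Two generators of `Ω`. -/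
theorem two_gen [Fintype F] [FiniteDimensional F W] (hQ₀ : (polarBilin Q₀).Nondegenerate)
    {w₀ v : W} (hw₀ : w₀ ≠ 0) (hv : Q₀ v ≠ 0)
    (hspan : Submodule.span F {w₀, (refl Q₀ v hv).1 w₀} = ⊤) :
    ∃ a b : orth (withBase k Q₀),
      Subgroup.closure ({a, b} : Set (orth (withBase k Q₀))) = commutator (orth (withBase k Q₀)) := by
  classical
  obtain ⟨p, hcp⟩ := CharP.exists F
  haveI := hcp
  haveI : Fact p.Prime := ⟨CharP.char_is_prime F p⟩
  obtain ⟨τ, hτ, hgen⟩ := TwoGenBasic.exists_tau (F := F)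
  have hQ := OrthUnitaryStd.nondegenerate_withBase hQ₀ k
  have hn : 5 ≤ Module.finrank F V := by
    rw [Module.finrank_prod, Module.finrank_fintype_fun_eq_card]
    simp
    omega
  set s := sing (Q₀ := Q₀) (k := k) τ with hs
  set x := siegel Qk (ev 2) (emb w₀) (Q_ev 2) (pol_eW 2 w₀) with hx
  set b := cox (Q₀ := Q₀) (k := k) v with hb
  refine ⟨s * x, b, ?_⟩
  set M := Subgroup.closure ({s * x, b} : Set (orth (withBase k Q₀))) with hM
  have hcomm : Commute s x := by
    have e := conj_siegel (sing (Q₀ := Q₀) (k := k) τ) (ev 2) (emb w₀) (Q_ev 2) (pol_eW 2 w₀)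
    simp only [(sing_fix (Q₀ := Q₀) (k := k) 2 (by omega) (by omega) τ).1, sing_emb] at e
    exact mul_inv_eq_iff_eq_mul.1 e
  have hxp : x ^ p = 1 := by
    have : ∀ n : ℕ, ∀ y, (x ^ n).1 y = (siegel Qk (ev 2) ((n : F) • emb w₀) (Q_ev 2)
        (by rw [polar_smul_right, pol_eW, smul_zero])).1 y := by
      intro n
      induction n with
      | zero => intro y; simp [siegel_apply]
      | succ n ih =>
        intro y
        rw [pow_succ, orth_mul_apply, ih, ← orth_mul_apply, hx, siegel_mul]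
        refine congrArg (fun g : orth Qk => g.1 y) (siegel_congr _ _ ?_)
        push_cast
        module
    refine orth_ext fun y => ?_
    rw [this, siegel_apply, CharP.cast_eq_zero]
    simp
  have hle : M ≤ sGroup Qk := by
    rw [hM, Subgroup.closure_le]
    rintro g (rfl | rfl)
    · exact mul_mem (sing_mem hQ hn τ) (siegel_mem hQ hn _ _)
    · exact mul_mem (flip0_mem hQ hn v) (cyc_mem hQ hn _)
  obtain ⟨hsM, hxM⟩ := TwoGenBasic.split_mem (M := M) (Fact.out : p.Prime) hcomm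
    (not_dvd_orderOf_sing (by omega) hτ) hxp (Subgroup.subset_closure (Set.mem_insert _ _))
  have hbM : b ∈ M := Subgroup.subset_closure (Set.mem_insert_of_mem _ rfl)
  obtain ⟨hstep, ⟨c₁, hc₁, hwrap₁⟩, ⟨c₂, hc₂, hwrap₂⟩, hbemb⟩ := cox_step hk hv
  rw [← hb] at hstep hwrap₁ hwrap₂ hbemb
  set r := (refl Q₀ v hv).1 with hr
  have hrr : ∀ y, r (r y) = y := fun y => by
    rw [hr]; exact reflMap_involutive hv y
  -- positions
  set P : ℕ → V := fun j => (b ^ j).1 (ev 0) with hP
  have hPadd : ∀ i j, (b ^ i).1 (P j) = P (i + j) := fun i j => by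
    simp only [hP]; rw [← orth_mul_apply, ← pow_add]
  have hPe : ∀ i, i < k → P i = ev i := by
    intro i
    induction i with
    | zero => intro _; rfl
    | succ i ih =>
      intro hi
      simp only [hP] at ih ⊢
      rw [pow_succ', orth_mul_apply, ih (by omega), (hstep i hi).1]
  have hPk : P k = c₁ • fv 0 := by
    have := hPadd 1 (k - 1)
    rw [pow_one, hPe _ (by omega), hwrap₁] at this
    rw [this]
    congr 1
    omega
  have hPf : ∀ i, i < k → P (k + i) = c₁ • fv i := by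
    intro i
    induction i with
    | zero => intro _; simpa using hPk
    | succ i ih =>
      intro hi
      have := hPadd 1 (k + i)
      rw [pow_one, ih (by omega), map_smul, (hstep i hi).2] at this
      rw [this]
      congr 1
      omega
  have hP2k : P (2 * k) = (c₁ * c₂) • ev 0 := by
    have := hPadd 1 (k + (k - 1))
    rw [pow_one, hPf _ (by omega), map_smul, hwrap₂, smul_smul] at this
    rw [this]
    congr 1
    omega
  have hPper : ∀ j, P (j + 2 * k) = (c₁ * c₂) • P j := fun j => by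
    rw [← hPadd j, hP2k, map_smul]
  have hbW : ∀ i : ℕ, ∀ y, (b ^ (2 * i)).1 (emb y : V) = emb y ∧
      (b ^ (2 * i + 1)).1 (emb y : V) = emb (r y) := by
    intro i
    induction i with
    | zero => intro y; exact ⟨rfl, by rw [mul_zero, zero_add, pow_one, hbemb]⟩
    | succ i ih =>
      intro y
      have e1 : (b ^ (2 * (i + 1))).1 (emb y : V) = emb y := by
        rw [show 2 * (i + 1) = 2 * i + 1 + 1 by ring, pow_succ', orth_mul_apply, (ih y).2, hbemb,
          hrr]
      exact ⟨e1, by rw [pow_succ', orth_mul_apply, e1, hbemb]⟩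
  have hbWex : ∀ (j : ℕ) (y : W), ∃ y', (b ^ j).1 (emb y' : V) = emb y := by
    intro j y
    rcases Nat.even_or_odd' j with ⟨i, rfl | rfl⟩
    · exact ⟨y, (hbW i y).1⟩
    · exact ⟨r y, by rw [(hbW i (r y)).2, hrr]⟩
  -- the conjugates of the first factor
  set R : ℕ → V := fun j => (b ^ j).1 (emb w₀) with hR
  have hsfix : ∀ j i : ℕ, ∃ g ∈ M, g.1 (P j) = P (j + 1) ∧ g.1 (R i) = R i := by
    intro j i
    refine ⟨b ^ j * s * (b ^ j)⁻¹, mul_mem (mul_mem (pow_mem hbM j) hsM)
      (inv_mem (pow_mem hbM j)), ?_, ?_⟩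
    · simp only [hP, orth_mul_apply, inv_apply_cancel]
      rw [sing_ev0 (by omega) τ, ← hPe 1 (by omega)]
      exact hPadd j 1
    · obtain ⟨y, hy⟩ : ∃ y, R i = (b ^ j).1 (emb y) := by
        obtain ⟨t, ht⟩ : ∃ t, R i = emb t := by
          rcases Nat.even_or_odd' i with ⟨l, rfl | rfl⟩
          · exact ⟨_, (hbW l w₀).1⟩
          · exact ⟨_, (hbW l w₀).2⟩
        obtain ⟨y, hy⟩ := hbWex j t
        exact ⟨y, by rw [ht, hy]⟩
      rw [hy, orth_mul_apply, orth_mul_apply, inv_apply_cancel, sing_emb]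
  have hA : ∀ j, Rt M (P (2 + j)) (R j) := fun j => by
    have h0 : Rt M (ev 2 : V) (emb w₀) := ⟨_, _, hxM⟩
    have := h0.conj (pow_mem hbM j)
    rwa [← hPe 2 (by omega), hPadd, add_comm] at this
  have hB : ∀ j, Rt M (P (3 + j)) (R j) := fun j => by
    obtain ⟨g, hg, hgP, hgR⟩ := hsfix (2 + j) j
    have := (hA j).conj hg
    rwa [hgP, hgR, show 2 + j + 1 = 3 + j by omega] at this
  have hA' : ∀ j, Rt M (P (3 + j)) (R (j + 1)) := fun j => by
    have := hA (j + 1)
    rwa [show 2 + (j + 1) = 3 + j by omega] at this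
  -- short root elements at every coordinate vector
  have hS : ∀ a : Fin k ⊕ Fin k, ∀ y, y = w₀ ∨ y = r w₀ →
      ∃ c : F, c ≠ 0 ∧ Rt M (bas a : V) (c • emb y) := by
    intro a y hy
    obtain ⟨j, c, hc, hj3, hja⟩ : ∃ (j : ℕ) (c : F), c ≠ 0 ∧ 3 ≤ j ∧ P j = c • (bas a : V) := by
      rcases a with i | i
      · refine ⟨i + 2 * k, c₁ * c₂, mul_ne_zero hc₁ hc₂, by omega, ?_⟩
        rw [hPper, hPe _ i.isLt, ev_coe]
      · refine ⟨k + i + 2 * k, c₁ * c₂ * c₁, mul_ne_zero (mul_ne_zero hc₁ hc₂) hc₁, by omega, ?_⟩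
        rw [hPper, hPf _ i.isLt, fv_coe, smul_smul]
    obtain ⟨i, rfl⟩ : ∃ i, j = 3 + i := ⟨j - 3, by omega⟩
    refine ⟨c, hc, Rt.scale hc ?_⟩
    rw [← hja]
    rcases Nat.even_or_odd' i with ⟨l, rfl | rfl⟩ <;> rcases hy with hy | hy <;> rw [hy]
    · simpa only [hR, (hbW l w₀).1] using hB (2 * l)
    · simpa only [hR, (hbW l w₀).2] using hA' (2 * l)
    · have := hA' (2 * l + 1)
      rw [show 2 * l + 1 + 1 = 2 * (l + 1) by ring] at this
      simpa only [hR, (hbW (l + 1) _).1] using this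
    · simpa only [hR, (hbW l w₀).2] using hB (2 * l + 1)
  have hSW : ∀ a : Fin k ⊕ Fin k, ∀ y y' : W, Rt M (bas a : V) (emb y) →
      Rt M (bas a : V) (emb y') → Rt M (bas a : V) (emb (y + y')) := fun a y y' h h' => by
    rw [emb_add]; exact h.add h'
  obtain ⟨y₁, hy₁, hκ⟩ : ∃ y₁, (y₁ = w₀ ∨ y₁ = r w₀) ∧ polar Q₀ w₀ y₁ ≠ 0 := by
    by_contra hc
    push Not at hc
    refine hw₀ (hQ₀.1 w₀ fun y => ?_)
    have : y ∈ Submodule.span F {w₀, r w₀} := hspan ▸ Submodule.mem_top
    obtain ⟨α, β, rfl⟩ := Submodule.mem_span_pair.1 this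
    simp [polar_add_right, polar_smul_right, hc w₀ (Or.inl rfl), hc (r w₀) (Or.inr rfl)]
  -- unit long root elements
  have hunit : ∀ a a' : Fin k ⊕ Fin k, a' ≠ a → a' ≠ a.swap →
      ∃ c : F, c ≠ 0 ∧ Rt M (bas a : V) (c • bas a') := by
    intro a a' hne hne'
    obtain ⟨c, hc, h⟩ := hS a w₀ (Or.inl rfl)
    obtain ⟨c', hc', h'⟩ := hS a' y₁ hy₁
    refine ⟨polar Qk (c' • emb y₁ : V) (c • emb w₀), ?_, Rt.comm h h' ?_ ?_ ?_⟩
    · rw [polar_smul_left, polar_smul_right, polar_emb, polar_comm]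
      simp [hc, hc', hκ]
    · rw [polar_bas, if_neg]
      intro e; exact hne' (by rw [e, Sum.swap_swap])
    · rw [polar_smul_left, polar_comm, polar_bas_emb, smul_zero]
    · rw [polar_smul_right, polar_bas_emb, smul_zero]
  -- scalars on the first long root group
  obtain ⟨c, hc, hE0⟩ := hS (Sum.inl ⟨0, by omega⟩) w₀ (Or.inl rfl)
  obtain ⟨c', hc', hE0'⟩ := hS (Sum.inl ⟨0, by omega⟩) y₁ hy₁
  rw [← ev_coe] at hE0 hE0'
  set κ := polar Qk (c • emb w₀ : V) (c' • emb y₁) with hκdef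
  have hκ0 : κ ≠ 0 := by
    rw [hκdef, polar_smul_left, polar_smul_right, polar_emb]
    simp [hc, hc', hκ]
  have hfull01 : ∀ t : F, Rt M (ev 0 : V) (t • ev 1) := by
    intro t
    let A : AddSubgroup F :=
      { carrier := {t | Rt M (ev 0 : V) ((κ * t) • ev 1)}
        zero_mem' := by simpa using rt_zero (Q_ev 0)
        add_mem' := fun {a a'} ha ha' => by
          simp only [Set.mem_ofPred_eq, mul_add, add_smul] at ha ha' ⊢
          exact ha.add ha'
        neg_mem' := fun {a} ha => by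
          simp only [Set.mem_ofPred_eq, mul_neg, neg_smul] at ha ⊢
          exact ha.neg }
    have hA : A = ⊤ := hgen A fun n => by
      show Rt M (ev 0 : V) ((κ * TwoGenBasic.luc τ n) • ev 1)
      rcases n with _ | n
      · simpa [TwoGenBasic.luc] using rt_zero (Q_ev 0)
      have hu := hE0.conj (pow_mem hsM (n + 1))
      rw [map_smul, pow_fix (sing_emb τ w₀), pow_comp_luc (sing_ev0 (by omega) τ)
        (sing_ev1 (by omega) τ)] at hu
      have h := Rt.comm hE0' hu ?_ ?_ ?_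
      · have := h.sub (rt_self (Q_ev 0) (κ * -TwoGenBasic.luc τ n))
        rw [smul_add, smul_smul, smul_smul, add_sub_cancel_left] at this
        exact this
      · simp [polar_add_left, polar_smul_left, pol_ee, Q_ev]
      · simp [polar_smul_left, pol_We]
      · simp [polar_add_left, polar_smul_left, polar_smul_right, pol_eW]
    have ht : κ⁻¹ * t ∈ A := hA ▸ AddSubgroup.mem_top _
    simpa [A, ← mul_assoc, hκ0] using ht
  -- transport along the cycle
  have hadj : ∀ (j : ℕ) (t : F), Rt M (P j) (t • P (j + 1)) := fun j t => by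
    have := (hfull01 t).conj (pow_mem hbM j)
    rwa [map_smul, ← hPe 1 (by omega), hPadd, show (ev 0 : V) = P 0 from rfl, hPadd,
      add_zero] at this
  have hPQ : ∀ j, Qk (P j) = 0 := fun j => by
    simp only [hP]; rw [map_orth, Q_ev]
  have hadj' : ∀ (j : ℕ) (t : F), Rt M (P (j + 1)) (t • P j) := fun j t => by
    rcases eq_or_ne t 0 with rfl | ht
    · simpa using rt_zero (hPQ (j + 1))
    have := (Rt.unscale (hadj j t) ht).symm (hPQ (j + 1))
    rw [← neg_smul] at this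
    simpa using this.neg
  have hprop : ∀ a a' x : Fin k ⊕ Fin k, a' ≠ a → (∀ t : F, Rt M (bas a : V) (t • bas a')) →
      x ≠ a → x ≠ a.swap → x ≠ a' → x ≠ a'.swap → ∀ t : F, Rt M (bas a : V) (t • bas x) := by
    intro a a' x haa hfull hxa hxa' hxb hxb' t
    obtain ⟨c, hc, hu⟩ := hunit x a'.swap hxb'.symm (fun e => hxb (by
      have := congrArg Sum.swap e; simpa using this.symm))
    have h := Rt.comm (hfull (c⁻¹ * t)) hu ?_ ?_ ?_
    · convert h using 2
      rw [polar_smul_left, polar_smul_right, polar_bas, if_pos (Sum.swap_swap a').symm, smul_eq_mul,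
        smul_eq_mul, mul_one, ← mul_assoc, mul_inv_cancel₀ hc, one_mul]
    · rw [polar_bas, if_neg]
      intro e; exact hxa' (by rw [e, Sum.swap_swap])
    · rw [polar_smul_left, polar_bas, if_neg, smul_zero]
      rw [Sum.swap_swap]
      exact Ne.symm haa
    · rw [polar_smul_right, polar_bas, if_neg, smul_zero]
      intro e; exact hxb' (by rw [e, Sum.swap_swap])
  have hnorm : ∀ (u u' : V) (d d' : F), d ≠ 0 → d' ≠ 0 → (∀ t : F, Rt M (d • u) (t • d' • u')) →
      ∀ t : F, Rt M u (t • u') := fun u u' d d' hd hd' h t => by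
    have h1 := Rt.scale hd (h (d⁻¹ * (t * d'⁻¹)))
    rw [smul_smul, smul_smul] at h1
    convert h1 using 2
    field_simp
  let i0 : Fin k := ⟨0, by omega⟩
  let i1 : Fin k := ⟨1, by omega⟩
  let il : Fin k := ⟨k - 1, by omega⟩
  have hE1 : ∀ t : F, Rt M (bas (Sum.inl i0) : V) (t • bas (Sum.inl i1)) := fun t => by
    simpa only [← ev_coe] using hfull01 t
  have hEl : ∀ t : F, Rt M (bas (Sum.inl i0) : V) (t • bas (Sum.inr il)) :=
    hnorm _ _ (c₁ * c₂) c₁ (mul_ne_zero hc₁ hc₂) hc₁ fun t => by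
      have h := hadj' (k + (k - 1)) t
      rw [show k + (k - 1) + 1 = 2 * k by omega, hP2k, hPf _ (by omega)] at h
      simpa only [← ev_coe, ← fv_coe] using h
  have hF1 : ∀ t : F, Rt M (bas (Sum.inr i0) : V) (t • bas (Sum.inr i1)) :=
    hnorm _ _ c₁ c₁ hc₁ hc₁ fun t => by
      have h := hadj k t
      rw [hPk, hPf 1 (by omega)] at h
      simpa only [← fv_coe] using h
  have hFl : ∀ t : F, Rt M (bas (Sum.inr i0) : V) (t • bas (Sum.inl il)) :=
    hnorm _ _ c₁ 1 hc₁ one_ne_zero fun t => by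
      have h := hadj' (k - 1) t
      rw [show k - 1 + 1 = k by omega, hPk, hPe _ (by omega)] at h
      simpa only [← ev_coe, ← fv_coe, one_smul] using h
  have fin01 : i1 ≠ i0 := by simp [i0, i1, Fin.ext_iff]
  have fin0l : il ≠ i0 := by simp [i0, il, Fin.ext_iff]; omega
  have fin1l : il ≠ i1 := by simp [i1, il, Fin.ext_iff]; omega
  have hside : ∀ a n₁ n₂ : Fin k ⊕ Fin k,
      (a = Sum.inl i0 ∨ a = Sum.inr i0) → (n₁ = Sum.inl i1 ∨ n₁ = Sum.inr i1) →
      (n₂ = Sum.inl il ∨ n₂ = Sum.inr il) →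
      (∀ t : F, Rt M (bas a : V) (t • bas n₁)) → (∀ t : F, Rt M (bas a : V) (t • bas n₂)) →
      ∀ y, polar Qk (bas a : V) y = 0 → polar Qk (bas a.swap : V) y = 0 → Rt M (bas a : V) y := by
    intro a n₁ n₂ ha hn₁ hn₂ h₁ h₂
    have ne₁ : n₁ ≠ a ∧ n₁ ≠ a.swap := by
      rcases ha with rfl | rfl <;> rcases hn₁ with rfl | rfl <;> simp [fin01]
    have ne₂ : n₂ ≠ a ∧ n₂ ≠ a.swap := by
      rcases ha with rfl | rfl <;> rcases hn₂ with rfl | rfl <;> simp [fin0l]
    have ne₁₂ : n₁ ≠ n₂ ∧ n₁ ≠ n₂.swap ∧ n₁.swap ≠ n₂ ∧ n₁.swap ≠ n₂.swap := by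
      rcases hn₁ with rfl | rfl <;> rcases hn₂ with rfl | rfl <;> simp [Ne.symm fin1l]
    have hlong : ∀ x, x ≠ a → x ≠ a.swap → ∀ t : F, Rt M (bas a : V) (t • bas x) := by
      intro x hxa hxa'
      by_cases hx : x = n₁ ∨ x = n₁.swap
      · refine hprop a n₂ x ne₂.1 h₂ hxa hxa' ?_ ?_ <;> rcases hx with rfl | rfl
        · exact ne₁₂.1
        · exact ne₁₂.2.2.1
        · exact ne₁₂.2.1
        · exact ne₁₂.2.2.2
      · push Not at hx
        exact hprop a n₁ x ne₁.1 h₁ hxa hxa' hx.1 hx.2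
    have hswap₁ : n₁.swap ≠ a ∧ n₁.swap ≠ a.swap := by
      rcases ha with rfl | rfl <;> rcases hn₁ with rfl | rfl <;> simp [fin01]
    have hshort : ∀ y, (y = w₀ ∨ y = r w₀) → ∀ t : F, Rt M (bas a : V) (t • emb y) := by
      intro y hy t
      obtain ⟨c, hc, hu⟩ := hS n₁.swap y hy
      have h := Rt.comm' (h₁ (c⁻¹ * t)) hu ?_ ?_ ?_
      · have h' := h.add (hlong n₁.swap hswap₁.1 hswap₁.2
          (Qk (c • emb y : V) * polar Qk (bas n₁.swap : V) ((c⁻¹ * t) • bas n₁)))
        rw [sub_add_cancel] at h'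
        rw [polar_smul_right, polar_bas, if_pos (Sum.swap_swap n₁).symm, smul_eq_mul, mul_one,
          smul_smul] at h'
        convert h' using 2
        field_simp
      · rw [polar_bas, if_neg]
        rw [Sum.swap_swap]
        exact Ne.symm ne₁.1
      · rw [polar_smul_left, polar_comm, polar_bas_emb, smul_zero]
      · rw [polar_smul_left, polar_smul_right, polar_comm, polar_bas_emb, smul_zero, smul_zero]
    have hemb : ∀ y, Rt M (bas a : V) (emb y) := fun y => by
      have : y ∈ Submodule.span F {w₀, r w₀} := hspan ▸ Submodule.mem_top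
      obtain ⟨α, β, rfl⟩ := Submodule.mem_span_pair.1 this
      exact hSW a _ _ (by rw [emb_smul]; exact hshort _ (Or.inl rfl) α)
        (by rw [emb_smul]; exact hshort _ (Or.inr rfl) β)
    intro y hy hy'
    rw [decomp y]
    refine (rt_sum (Q_bas a) _ _ fun x _ => ?_).add (hemb _)
    by_cases hxa : x = a
    · subst hxa
      exact rt_self (Q_bas _) _
    by_cases hxa' : x = a.swap
    · subst hxa'
      rw [polar_bas_right] at hy
      rw [hy, zero_smul]
      exact rt_zero (Q_bas _)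
    exact hlong x hxa hxa' _
  refine le_antisymm ((hle).trans (commutator_eq_sGroup hQ hn).ge) ?_
  rw [commutator_eq_sGroup hQ hn]
  refine sGroup_le_of_pair hQ (Q_bas (Sum.inl i0)) (Q_bas (Sum.inr i0)) (by simp [polar_bas]) ?_ ?_
  · exact fun y h h' => hside _ (Sum.inl i1) (Sum.inr il) (Or.inl rfl) (Or.inl rfl) (Or.inr rfl)
      hE1 hEl y h h'
  · exact fun y h h' => hside _ (Sum.inr i1) (Sum.inl il) (Or.inr rfl) (Or.inr rfl) (Or.inl rfl)
      hF1 hFl y h' h

end Cfsg.Agent.TwoGenOrthogonal
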