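import Mathlib
import Cfsg.Agent.Lib.TwoGenOrthogonal

/-!
Two generators of the Prelude's projective commutator orthogonal groups.
-/

set_option autoImplicit false

namespace Cfsg.Agent.TwoGenOrthogonalStd

open QuadraticMap
open Cfsg.Agent.OrthUnitaryQuad Cfsg.Agent.OrthUnitaryRefl Cfsg.Agent.OrthUnitaryStd
open Cfsg.Agent.OrthUnitaryForms

/-- Two generators of the commutator subgroup give two generators of its central quotient. -/
theorem pomega_two_gen {F U : Type*} [Field F] [AddCommGroup U] [Module F U] {ι : Type} [Fintype ι]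
    [DecidableEq ι] (Q : QuadraticForm F U) (f : (ι → F) → F) (e : U ≃ₗ[F] (ι → F))
    (h : ∀ x, f (e x) = Q x)
    (hab : ∃ a b : orth Q, Subgroup.closure ({a, b} : Set (orth Q)) = commutator (orth Q)) :
    ∃ a b : POmega F f, Subgroup.closure ({a, b} : Set (POmega F f)) = ⊤ := by
  obtain ⟨a, b, hab⟩ := hab
  set a' : commutator (orth Q) := ⟨a, hab ▸ Subgroup.subset_closure (Set.mem_insert _ _)⟩
  set b' : commutator (orth Q) := ⟨b, hab ▸ Subgroup.subset_closure (Set.mem_insert_of_mem _ rfl)⟩
  have htop : Subgroup.closure ({a', b'} : Set (commutator (orth Q))) = ⊤ := by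
    refine Subgroup.map_injective (Subgroup.subtype_injective _) ?_
    rw [MonoidHom.map_closure, Set.image_pair, ← MonoidHom.range_eq_map, Subgroup.range_subtype]
    exact hab
  set φ : commutator (orth Q) →* POmega F f :=
    (QuotientGroup.mk' _).comp (omegaEquiv Q f e h).symm.toMonoidHom
  refine ⟨φ a', φ b', ?_⟩
  rw [← Set.image_pair, ← MonoidHom.map_closure, htop]
  exact Subgroup.map_top_of_surjective _
    ((QuotientGroup.mk'_surjective _).comp (omegaEquiv Q f e h).symm.surjective)

variable {F : Type*} [Field F]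

theorem hypPlane_apply (p : F × F) : hypPlane F p = p.1 * p.2 := by simp [hypPlane]

theorem nondegenerate_hypPlane : (polarBilin (hypPlane F)).Nondegenerate := by
  refine nondegenerate_iff_left _ fun x hx => ?_
  obtain ⟨a, b⟩ := x
  have h1 := hx (0, 1)
  have h2 := hx (1, 0)
  simp only [polar, hypPlane_apply, Prod.mk_add_mk] at h1 h2
  exact Prod.ext (show a = 0 by linear_combination h1) (show b = 0 by linear_combination h2)

/-- The plus type as hyperbolic planes over a hyperbolic plane. -/
def eqPlusPlane (n : ℕ) : ((Fin n ⊕ Fin n → F) × (F × F)) ≃ₗ[F] (Fin (n + 1) ⊕ Fin (n + 1) → F) where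
  toFun p := Sum.elim (Fin.cons p.2.1 (p.1 ∘ Sum.inl)) (Fin.cons p.2.2 (p.1 ∘ Sum.inr))
  invFun q := (Sum.elim (fun i => q (Sum.inl i.succ)) (fun i => q (Sum.inr i.succ)),
    (q (Sum.inl 0), q (Sum.inr 0)))
  map_add' p p' := by
    funext i
    rcases i with i | i <;> cases i using Fin.cases <;> simp
  map_smul' c p := by
    funext i
    rcases i with i | i <;> cases i using Fin.cases <;> simp
  left_inv p := by
    refine Prod.ext ?_ (by simp)
    funext i
    rcases i with i | i <;> simp
  right_inv q := by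
    funext i
    rcases i with i | i <;> cases i using Fin.cases <;> simp

theorem eqPlusPlane_isometry (n : ℕ) (p : (Fin n ⊕ Fin n → F) × (F × F)) :
    quadFormPlus (n + 1) F (eqPlusPlane n p) = withBase n (hypPlane F) p := by
  obtain ⟨v, x⟩ := p
  simp [eqPlusPlane, withBase_apply, hypPlane_apply, quadFormPlus, Fin.sum_univ_succ, add_comm]

variable [Fintype F]

theorem plus {n : ℕ} (hn : 3 ≤ n) :
    ∃ a b : POmega F (quadFormPlus (n + 1) F),
      Subgroup.closure ({a, b} : Set (POmega F (quadFormPlus (n + 1) F))) = ⊤ := by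
  refine pomega_two_gen _ _ (eqPlusPlane n) (eqPlusPlane_isometry n) ?_
  have hv : hypPlane F ((1 : F), (1 : F)) ≠ 0 := by simp [hypPlane_apply]
  refine TwoGenOrthogonal.two_gen hn nondegenerate_hypPlane (w₀ := ((1 : F), (0 : F))) (by simp) hv ?_
  have hr : (refl (hypPlane F) _ hv).1 ((1 : F), (0 : F)) = ((0 : F), (-1 : F)) := by
    rw [refl_apply]
    simp [polar, hypPlane_apply]
  rw [hr, eq_top_iff]
  rintro ⟨x, y⟩ -
  exact Submodule.mem_span_pair.2 ⟨x, -y, by simp⟩

theorem minus {n : ℕ} (hn : 3 ≤ n) {a b : F} (hab : IsAniso a b) :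
    ∃ g h : POmega F (quadFormMinus n F a b),
      Subgroup.closure ({g, h} : Set (POmega F (quadFormMinus n F a b))) = ⊤ := by
  classical
  refine pomega_two_gen _ _ (eqMinus n) (eqMinus_isometry n a b) ?_
  obtain ⟨c, hc⟩ : ∃ c : F, 2 * c + a ≠ 0 := by
    by_cases ha : a = 0
    · refine ⟨1, fun h => ?_⟩
      have h2 : (2 : F) = 0 := by linear_combination h - ha
      exact a_ne_zero_of_two_eq_zero hab h2 ha
    · exact ⟨0, by simpa using ha⟩
  have hv : qfBin a b ![1, 0] ≠ 0 := by simp [qfBin_apply]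
  refine TwoGenOrthogonal.two_gen hn (nondegenerate_qfBin hab) (w₀ := ![c, 1])
    (fun h => by simpa using congrFun h 1) hv ?_
  rw [eq_top_iff]
  intro y _
  have hr : (refl (qfBin a b) _ hv).1 ![c, 1] = ![c, 1] - (2 * c + a) • ![1, 0] := by
    rw [refl_apply]
    congr 2
    simp [polar, qfBin_apply]
    ring
  rw [hr]
  refine Submodule.mem_span_pair.2
    ⟨y 1 + (y 0 - c * y 1) / (2 * c + a), -((y 0 - c * y 1) / (2 * c + a)), ?_⟩
  funext i
  fin_cases i
  · have hd : a + 2 * c ≠ 0 := by rwa [add_comm]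
    set d := 2 * c + a with hd'
    simp
    field_simp
    rw [hd']
    ring
  · simp

theorem odd {n : ℕ} (hn : 3 ≤ n) (h2 : (2 : F) ≠ 0) :
    ∃ g h : POmega F (quadFormOdd n F),
      Subgroup.closure ({g, h} : Set (POmega F (quadFormOdd n F))) = ⊤ := by
  refine pomega_two_gen _ _ (eqOdd n) (eqOdd_isometry n) ?_
  have hv : qfSq F (fun _ => 1) ≠ 0 := by simp [qfSq_apply]
  refine TwoGenOrthogonal.two_gen hn (nondegenerate_qfSq h2) (w₀ := fun _ => (1 : F))
    (fun h => by simpa using congrFun h ()) hv ?_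
  rw [eq_top_iff]
  intro y _
  refine Submodule.mem_span_pair.2 ⟨y (), 0, ?_⟩
  funext i
  simp

end Cfsg.Agent.TwoGenOrthogonalStd
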