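import Cfsg.Agent.Lib.SymplecticBasic
import Cfsg.Agent.Lib.SymplecticRootGroups
import Cfsg.Agent.Lib.TwoGenBasic

/-!
Two-element generating sets of symplectic groups over finite fields.

Short root elements `sg u v` (for `f(u,v) = 0`) are products of three transvections. The criterion `top_of_chain`
says that a subgroup containing all transvections with centres in the coordinate planes and one short root element
for each pair of adjacent planes is everything.
-/

set_option autoImplicit false
set_option linter.unusedSectionVars false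
set_option linter.unusedVariables false
set_option linter.unusedSimpArgs false
set_option linter.unreachableTactic false
set_option linter.unusedTactic false
set_option linter.unnecessarySeqFocus false

open Matrix

namespace Cfsg.Agent.TwoGenSymplectic

open Cfsg.Agent.SymplecticBasic

variable {F : Type*} [Field F] {m : ℕ}

local notation "V" => (Fin m ⊕ Fin m → F)
local notation "Sp" => Matrix.symplecticGroup (Fin m) F
local notation "⟪" u ", " v "⟫" => sympForm m F u v

/-- The short root element of two orthogonal vectors. -/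
def sg (u v : V) : Sp := transv (u + v) 1 * transv u (-1) * transv v (-1)

theorem sg_smul {u v : V} (h : ⟪u, v⟫ = 0) (y : V) :
    sg u v • y = y + ⟪y, v⟫ • u + ⟪y, u⟫ • v := by
  have h' : ⟪v, u⟫ = 0 := form_eq_zero_comm.1 h
  simp only [sg, mul_smul, transv_smul, form_add_left, form_add_right, form_smul_left, form_self, h, h']
  module

theorem act_add (g : Sp) (a b : V) : g • (a + b) = g • a + g • b := by
  simp only [smul_def, Matrix.mulVec_add]

theorem act_smul (g : Sp) (c : F) (a : V) : g • (c • a) = c • (g • a) := by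
  simp only [smul_def, Matrix.mulVec_smul]

theorem sg_conj (g : Sp) (u v : V) : g * sg u v * g⁻¹ = sg (g • u) (g • v) := by
  have hadd : g • (u + v) = g • u + g • v := by simp only [smul_def, Matrix.mulVec_add]
  simp only [sg, ← hadd, ← transv_conj]
  group

theorem sg_mul {u w v : V} (hu : ⟪u, v⟫ = 0) (hw : ⟪w, v⟫ = 0) :
    sg u v * sg w v = sg (u + w) v * transv v ⟪w, u⟫ := by
  have huw : ⟪u + w, v⟫ = 0 := by rw [form_add_left, hu, hw, add_zero]
  refine ext_smul fun y => ?_
  simp only [mul_smul, sg_smul hu, sg_smul hw, sg_smul huw, transv_smul, form_add_left, form_add_right,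
    form_smul_left, form_smul_right, form_self, hu, hw, form_eq_zero_comm.1 hu, form_eq_zero_comm.1 hw]
  module

theorem sg_scale {u v : V} (h : ⟪u, v⟫ = 0) (a : F) : sg (a • u) v = sg u (a • v) := by
  have h1 : ⟪a • u, v⟫ = 0 := by rw [form_smul_left, h, mul_zero]
  have h2 : ⟪u, a • v⟫ = 0 := by rw [form_smul_right, h, mul_zero]
  refine ext_smul fun y => ?_
  simp only [sg_smul h1, sg_smul h2, form_smul_right]
  module

theorem sg_comm {u v : V} (h : ⟪u, v⟫ = 0) : sg u v = sg v u := by
  refine ext_smul fun y => ?_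
  simp only [sg_smul h, sg_smul (form_eq_zero_comm.1 h)]
  module

theorem sg_zero (v : V) : sg 0 v = 1 := by
  simp [sg, transv_vec_zero, transv_add, transv_zero]

theorem transv_pow (v : V) (c : F) (n : ℕ) : transv v c ^ n = transv v ((n : F) * c) := by
  induction n with
  | zero => simp [transv_zero]
  | succ n ih => rw [pow_succ, ih, transv_add]; push_cast; ring_nf

theorem sg_pow_char {p : ℕ} [CharP F p] {u v : V} (h : ⟪u, v⟫ = 0) : sg u v ^ p = 1 := by
  have hpow : ∀ n : ℕ, ∀ y : V, sg u v ^ n • y = y + (n : F) • (⟪y, v⟫ • u + ⟪y, u⟫ • v) := by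
    intro n
    induction n with
    | zero => intro y; simp
    | succ n ih =>
      intro y
      rw [pow_succ', mul_smul, ih, sg_smul h]
      simp only [form_add_left, form_smul_left, form_self, h, form_eq_zero_comm.1 h]
      push_cast
      module
  refine ext_smul fun y => ?_
  rw [hpow, CharP.cast_eq_zero, zero_smul, add_zero, one_smul]

/-- The centres whose transvections all lie in `M`. -/
def Cen (M : Subgroup (Matrix.symplecticGroup (Fin m) F)) (v : Fin m ⊕ Fin m → F) : Prop := ∀ c : F, transv v c ∈ M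

variable {M : Subgroup (Matrix.symplecticGroup (Fin m) F)}

theorem cen_move {g : Sp} (hg : g ∈ M) {v : V} (hv : Cen M v) : Cen M (g • v) := fun c => by
  rw [← transv_conj]; exact mul_mem (mul_mem hg (hv c)) (inv_mem hg)

theorem cen_of_move {g : Sp} (hg : g ∈ M) {v : V} (hv : Cen M (g • v)) : Cen M v := by
  simpa using cen_move (inv_mem hg) hv

theorem cen_smul {v : V} (hv : Cen M v) (a : F) : Cen M (a • v) := fun c => by
  rw [transv_scale]; exact hv _

/-- The first basis vector of plane `i`. -/
def E (i : Fin m) : V := Pi.single (Sum.inr i) 1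

/-- The second basis vector of plane `i`. -/
def W (i : Fin m) : V := Pi.single (Sum.inl i) 1

theorem form_EW (i : Fin m) : ⟪(E i : V), W i⟫ = 1 := by
  rw [W, form_single_inl_right, E, Pi.single_eq_same]

theorem form_WE (i : Fin m) : ⟪(W i : V), E i⟫ = -1 := by rw [form_swap, form_EW]

/-- Supported in plane `i`. -/
def InPlane (i : Fin m) (v : V) : Prop := ∃ a b : F, v = a • E i + b • W i

theorem inPlane_E (i : Fin m) : InPlane i (E i : V) := ⟨1, 0, by simp⟩

theorem inPlane_W (i : Fin m) : InPlane i (W i : V) := ⟨0, 1, by simp⟩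

theorem form_planes {i j : Fin m} (h : i ≠ j) {u v : V} (hu : InPlane i u) (hv : InPlane j v) : ⟪u, v⟫ = 0 := by
  obtain ⟨a, b, rfl⟩ := hu
  obtain ⟨c, d, rfl⟩ := hv
  simp only [form_add_right, form_smul_right, W, E, form_single_inl_right, form_single_inr_right]
  simp [Ne.symm h]

/-- The component in plane `i`. -/
def part (y : V) (i : Fin m) : V := y (Sum.inr i) • E i + y (Sum.inl i) • W i

theorem inPlane_part (y : V) (i : Fin m) : InPlane i (part y i) := ⟨_, _, rfl⟩

theorem sum_part (y : V) : ∑ i, part y i = y := by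
  funext k
  rcases k with k | k <;> simp [part, E, W, Finset.sum_apply, Pi.single_apply]

theorem part_part_ne {y : V} {i j : Fin m} (h : i ≠ j) : part (part y i) j = 0 := by
  simp [part, E, W, h]

theorem part_self {i : Fin m} {v : V} (hv : InPlane i v) : part v i = v := by
  obtain ⟨a, b, rfl⟩ := hv
  simp [part, E, W]

theorem part_other {i j : Fin m} (h : i ≠ j) {v : V} (hv : InPlane i v) : part v j = 0 := by
  obtain ⟨a, b, rfl⟩ := hv
  simp [part, E, W, h]

theorem part_add (x y : V) (i : Fin m) : part (x + y) i = part x i + part y i := by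
  simp only [part, Pi.add_apply]; module

theorem part_smul (a : F) (y : V) (i : Fin m) : part (a • y) i = a • part y i := by
  simp only [part, Pi.smul_apply, smul_eq_mul]; module

theorem form_part (y : V) {i : Fin m} {u : V} (hu : InPlane i u) : ⟪y, u⟫ = ⟪part y i, u⟫ := by
  obtain ⟨a, b, rfl⟩ := hu
  simp [part, form_add_right, form_smul_right, W, E, form_single_inl_right, form_single_inr_right]

theorem exists_partner {i : Fin m} {u : V} (hu : InPlane i u) (h0 : u ≠ 0) :
    ∃ w : V, InPlane i w ∧ ⟪u, w⟫ = 1 := by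
  obtain ⟨a, b, rfl⟩ := hu
  by_cases ha : a = 0
  · have hb : b ≠ 0 := by rintro rfl; exact h0 (by simp [ha])
    refine ⟨(-b⁻¹) • E i, ⟨-b⁻¹, 0, by simp⟩, ?_⟩
    simp only [form_add_left, form_smul_left, form_smul_right, form_WE, form_self, ha]
    field_simp
    ring
  · refine ⟨a⁻¹ • W i, ⟨0, a⁻¹, by simp⟩, ?_⟩
    simp only [form_add_left, form_smul_left, form_smul_right, form_EW, form_self]
    field_simp
    ring

/-- With every transvection centred in plane `i`, `M` moves any nonzero vector of the plane to any other, fixing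
the orthogonal of the plane. -/
theorem exists_move {i : Fin m} (hC : ∀ v, InPlane i v → Cen M v) {u w : V} (hu : InPlane i u)
    (hw : InPlane i w) (hu0 : u ≠ 0) (hw0 : w ≠ 0) :
    ∃ g ∈ M, g • u = w ∧ ∀ y : V, (∀ x, InPlane i x → ⟪y, x⟫ = 0) → g • y = y := by
  have hsub : ∀ {x z : V}, InPlane i x → InPlane i z → InPlane i (x - z) := by
    rintro x z ⟨a, b, rfl⟩ ⟨c, d, rfl⟩
    exact ⟨a - c, b - d, by module⟩
  have one : ∀ x z : V, InPlane i x → InPlane i z → ⟪x, z⟫ ≠ 0 →
      ∃ g ∈ M, g • x = z ∧ ∀ y : V, (∀ x, InPlane i x → ⟪y, x⟫ = 0) → g • y = y := by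
    intro x z hx hz h
    refine ⟨transv (z - x) ⟪x, z⟫⁻¹, hC _ (hsub hz hx) _, ?_, fun y hy => ?_⟩
    · rw [transv_smul, form_sub_right, form_self, sub_zero, inv_mul_cancel₀ h, one_smul]
      abel
    · rw [transv_smul, hy _ (hsub hz hx), mul_zero, zero_smul, add_zero]
  by_cases h : ⟪u, w⟫ = 0
  · obtain ⟨u', hu', hu1⟩ := exists_partner hu hu0
    obtain ⟨w', hw', hw1⟩ := exists_partner hw hw0
    obtain ⟨z, hz, hz1, hz2⟩ : ∃ z : V, InPlane i z ∧ ⟪u, z⟫ ≠ 0 ∧ ⟪z, w⟫ ≠ 0 := by
      by_cases h1 : ⟪u, w'⟫ = 0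
      · by_cases h2 : ⟪u', w⟫ = 0
        · refine ⟨u' + w', ?_, ?_, ?_⟩
          · obtain ⟨a, b, rfl⟩ := hu'
            obtain ⟨c, d, rfl⟩ := hw'
            exact ⟨a + c, b + d, by module⟩
          · rw [form_add_right, hu1, h1]; simp
          · rw [form_add_left, h2, form_swap w w', hw1]; simp
        · exact ⟨u', hu', by simp [hu1], h2⟩
      · exact ⟨w', hw', h1, by rw [form_swap w w', hw1]; simp⟩
    obtain ⟨g, hg, hgu, hgf⟩ := one u z hu hz hz1
    obtain ⟨g', hg', hgz, hgf'⟩ := one z w hz hw hz2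
    exact ⟨g' * g, mul_mem hg' hg, by rw [mul_smul, hgu, hgz],
      fun y hy => by rw [mul_smul, hgf y hy, hgf' y hy]⟩
  · exact one u w hu hw h

/-- The short root element of two planes can be spread to all vectors of the planes. -/
theorem sg_mem_of_planes {i j : Fin m} (hij : i ≠ j) (hCi : ∀ v, InPlane i v → Cen M v)
    (hCj : ∀ v, InPlane j v → Cen M v) {u₀ v₀ : V} (hu₀ : InPlane i u₀) (hv₀ : InPlane j v₀)
    (hu0 : u₀ ≠ 0) (hv0 : v₀ ≠ 0) (h : sg u₀ v₀ ∈ M) {u v : V} (hu : InPlane i u) (hv : InPlane j v) :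
    sg u v ∈ M := by
  rcases eq_or_ne u 0 with rfl | hu'
  · rw [sg_zero]; exact one_mem _
  rcases eq_or_ne v 0 with rfl | hv'
  · rw [sg_comm (form_zero_right u), sg_zero]; exact one_mem _
  obtain ⟨g, hg, hgu, hgf⟩ := exists_move hCi hu₀ hu hu0 hu'
  obtain ⟨g', hg', hgv, hgf'⟩ := exists_move hCj hv₀ hv hv0 hv'
  have h1 : sg u v₀ ∈ M := by
    have := mul_mem (mul_mem hg h) (inv_mem hg)
    rwa [sg_conj, hgu, hgf v₀ fun x hx => form_planes hij.symm hv₀ hx] at this
  have := mul_mem (mul_mem hg' h1) (inv_mem hg')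
  rwa [sg_conj, hgv, hgf' u fun x hx => form_planes hij hu hx] at this

/-- Transvections centred in the planes and one short root element between adjacent planes generate. -/
theorem top_of_chain (hC : ∀ i v, InPlane i v → Cen M v)
    (hadj : ∀ i j : Fin m, (j : ℕ) = (i : ℕ) + 1 →
      ∃ u v : V, InPlane i u ∧ InPlane j v ∧ u ≠ 0 ∧ v ≠ 0 ∧ sg u v ∈ M) : M = ⊤ := by
  have key : ∀ k : ℕ, ∀ y : V, (∀ i : Fin m, k ≤ (i : ℕ) → part y i = 0) → Cen M y := by
    intro k
    induction k with
    | zero =>
      intro y hy c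
      have : y = 0 := by rw [← sum_part y]; exact Finset.sum_eq_zero fun i _ => hy i (Nat.zero_le _)
      rw [this, transv_vec_zero]; exact one_mem _
    | succ k ih =>
      intro y hy
      by_cases hk : k < m
      swap
      · exact ih y fun i hi => absurd i.isLt (by omega)
      by_cases h0 : part y ⟨k, hk⟩ = 0
      · refine ih y fun i hi => ?_
        rcases hi.eq_or_lt with e | e
        · rwa [show i = ⟨k, hk⟩ from Fin.ext e.symm]
        · exact hy i e
      rcases k with _ | k
      · have : y = part y ⟨0, hk⟩ := by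
          conv_lhs => rw [← sum_part y]
          exact Finset.sum_eq_single _ (fun i _ hi => hy i (by
            rcases Nat.eq_zero_or_pos (i : ℕ) with e | e
            · exact absurd (Fin.ext e) hi
            · omega)) (by simp)
        rw [this]
        exact hC _ _ (inPlane_part y _)
      let i₀ : Fin m := ⟨k, by omega⟩
      let j₀ : Fin m := ⟨k + 1, hk⟩
      obtain ⟨u₀, v₀, hu₀, hv₀, hu0, hv0, hs⟩ := hadj i₀ j₀ rfl
      have hne : i₀ ≠ j₀ := by simp [i₀, j₀, Fin.ext_iff]
      have hsg := fun (u v : V) (hu : InPlane i₀ u) (hv : InPlane j₀ v) =>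
        sg_mem_of_planes hne (hC i₀) (hC j₀) hu₀ hv₀ hu0 hv0 hs hu hv
      -- kill the component in plane `j₀` when the component in plane `i₀` is nonzero
      have kill : ∀ z : V, (∀ i : Fin m, k + 2 ≤ (i : ℕ) → part z i = 0) → part z i₀ ≠ 0 → Cen M z := by
        intro z hz hzi
        obtain ⟨w, hw, hw1⟩ := exists_partner (inPlane_part z i₀) hzi
        have hu : InPlane i₀ ((-1 : F) • w) := by
          obtain ⟨a, b, rfl⟩ := hw
          exact ⟨-a, -b, by module⟩
        have hv := inPlane_part z j₀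
        have horth := form_planes hne hu hv
        refine cen_of_move (hsg _ _ hu hv) (ih _ fun i hi => ?_)
        simp only [sg_smul horth, part_add, part_smul,
          part_other (show i₀ ≠ i from Fin.ne_of_val_ne (by simp only [i₀]; omega)) hw, smul_zero, add_zero,
          form_smul_right, form_part z hw, hw1]
        rcases hi.eq_or_lt with e | e
        · rw [show i = j₀ from Fin.ext e.symm, part_self hv]
          module
        · rw [hz i e, part_other (Fin.ne_of_val_ne (by simp [j₀]; omega)) hv, smul_zero, add_zero]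
      by_cases hi0 : part y i₀ = 0
      swap
      · exact kill y hy hi0
      obtain ⟨w, hw, hw1⟩ := exists_partner (inPlane_part y j₀) h0
      have hE := inPlane_E (F := F) i₀
      have horth := form_planes hne hE hw
      refine cen_of_move (hsg _ _ hE hw) (kill _ (fun i hi => ?_) ?_)
      · rw [sg_smul horth, part_add, part_add, part_smul, part_smul, hy i hi,
          part_other (Fin.ne_of_val_ne (by simp [i₀]; omega)) hE,
          part_other (Fin.ne_of_val_ne (by simp [j₀]; omega)) hw]
        simp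
      · rw [sg_smul horth, part_add, part_add, part_smul, part_smul, hi0, part_self hE,
          part_other hne.symm hw, smul_zero, add_zero, zero_add, form_part y hw, hw1, one_smul]
        intro h
        have := congrFun h (Sum.inr i₀)
        simp [E] at this
  exact eq_top_of_transv fun v c => key m v (fun i hi => absurd i.isLt (by omega)) c

/-- Both basis vectors of a plane give the whole plane. -/
theorem cen_plane {i : Fin m} (hE : Cen M (E i : V)) (hW : Cen M (W i : V)) {v : V} (hv : InPlane i v) :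
    Cen M v := by
  obtain ⟨a, b, rfl⟩ := hv
  by_cases ha : a = 0
  · subst ha; simpa using cen_smul hW b
  have : a • E i + b • W i = a • (transv (W i) (a⁻¹ * b) • (E i : V)) := by
    rw [transv_smul, form_EW, mul_one, smul_add, smul_smul, mul_inv_cancel_left₀ ha]
  rw [this]
  exact cen_smul (cen_move (hW _) hE) a

section Perm

/-- The element permuting the planes. -/
def permSp (ρ : Equiv.Perm (Fin m)) : Sp :=
  ⟨(Equiv.sumCongr ρ.symm ρ.symm).toPEquiv.toMatrix, mem_sp_iff_form.2 fun u v => by
    rw [PEquiv.toMatrix_toPEquiv_mulVec, PEquiv.toMatrix_toPEquiv_mulVec, form_eq_sum, form_eq_sum]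
    exact Equiv.sum_comp ρ.symm fun i => u (Sum.inr i) * v (Sum.inl i) - u (Sum.inl i) * v (Sum.inr i)⟩

theorem permSp_smul (ρ : Equiv.Perm (Fin m)) (y : V) :
    (permSp ρ : Sp) • y = y ∘ (Equiv.sumCongr ρ.symm ρ.symm) := PEquiv.toMatrix_toPEquiv_mulVec _ _

theorem permSp_E (ρ : Equiv.Perm (Fin m)) (i : Fin m) : (permSp ρ : Sp) • (E i : V) = E (ρ i) := by
  rw [permSp_smul]
  funext k
  rcases k with k | k <;> simp [E, Pi.single_apply, Equiv.symm_apply_eq]

theorem permSp_W (ρ : Equiv.Perm (Fin m)) (i : Fin m) : (permSp ρ : Sp) • (W i : V) = W (ρ i) := by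
  rw [permSp_smul]
  funext k
  rcases k with k | k <;> simp [W, Pi.single_apply, Equiv.symm_apply_eq]

theorem permSp_one : permSp (1 : Equiv.Perm (Fin m)) = (1 : Sp) :=
  ext_smul fun y => by rw [permSp_smul, one_smul]; funext k; rcases k with k | k <;> rfl

theorem permSp_mul (ρ σ : Equiv.Perm (Fin m)) : (permSp (ρ * σ) : Sp) = permSp ρ * permSp σ :=
  ext_smul fun y => by
    rw [mul_smul, permSp_smul, permSp_smul, permSp_smul]
    funext k
    rcases k with k | k <;> rfl

theorem permSp_pow (ρ : Equiv.Perm (Fin m)) (n : ℕ) : (permSp ρ : Sp) ^ n = permSp (ρ ^ n) := by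
  induction n with
  | zero => rw [pow_zero, pow_zero, permSp_one]
  | succ n ih => rw [pow_succ, pow_succ, permSp_mul, ih]

end Perm

open Cfsg.Agent.SymplecticRootGroups (planeHom planeHom_smul)
open Cfsg.Agent.TwoGenBasic

/-- The Singer-type element of plane `i`. -/
noncomputable def sing (τ : F) (i : Fin m) : Sp := planeHom (form_EW (F := F) i) (comp2 τ)

theorem sing_E (τ : F) (i : Fin m) : sing τ i • (E i : V) = W i := by
  rw [sing, planeHom_smul, coe_comp2, form_EW, form_self]
  simp

theorem sing_W (τ : F) (i : Fin m) : sing τ i • (W i : V) = (-1 : F) • E i + τ • W i := by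
  rw [sing, planeHom_smul, coe_comp2, form_EW, form_self]
  simp
  module

theorem sing_fix (τ : F) {i j : Fin m} (h : i ≠ j) {v : V} (hv : InPlane j v) : sing τ i • v = v := by
  rw [sing, planeHom_smul, form_planes h.symm hv (inPlane_W i), form_planes h (inPlane_E i) hv]
  simp

theorem sing_lin (τ : F) (i : Fin m) (a b : F) :
    sing τ i • (a • E i + b • W i : V) = (-b) • E i + (a + τ * b) • W i := by
  rw [smul_def, Matrix.mulVec_add, Matrix.mulVec_smul, Matrix.mulVec_smul, ← smul_def, ← smul_def, sing_E, sing_W]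
  module

theorem sing_orbit (τ : F) (i : Fin m) (j : ℕ) :
    (sing τ i) ^ j • (E i : V) = (luc τ (j + 1) - τ * luc τ j) • E i + luc τ j • W i := by
  induction j with
  | zero => simp [luc]
  | succ j ih =>
    rw [pow_succ', mul_smul, ih, sing_lin, show luc τ (j + 1 + 1) = τ * luc τ (j + 1) - luc τ j from rfl]
    match_scalars <;> ring

variable [Fintype F]

/-- Two generators of `Sp_{2m}`, `m ≥ 3`. -/
theorem two_gen_three (hm : 3 ≤ m) : ∃ a b : Sp, Subgroup.closure ({a, b} : Set Sp) = ⊤ := by
  classical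
  obtain ⟨p, hcp⟩ := CharP.exists F
  haveI := hcp
  haveI : Fact p.Prime := ⟨CharP.char_is_prime F p⟩
  obtain ⟨τ, hτ, hgen⟩ := exists_tau (F := F)
  haveI : NeZero m := ⟨by omega⟩
  set ρ : Equiv.Perm (Fin m) := finRotate m with hρ
  have hρ1 : ∀ i : Fin m, ρ i = i + 1 := fun i => finRotate_apply i
  set x : Sp := sg (E 1) (E 2) with hx
  have h12 : (1 : Fin m) ≠ 2 ∧ (0 : Fin m) ≠ 1 ∧ (0 : Fin m) ≠ 2 := by
    have h1 : ((1 : Fin m) : ℕ) = 1 := by rw [Fin.val_one', Nat.mod_eq_of_lt (by omega)]
    have h2 : ((2 : Fin m) : ℕ) = 2 := by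
      show 2 % m = 2
      exact Nat.mod_eq_of_lt (by omega)
    have h0 : ((0 : Fin m) : ℕ) = 0 := rfl
    exact ⟨fun h => by rw [h] at h1; omega, fun h => by rw [← h] at h1; omega, fun h => by rw [← h] at h2; omega⟩
  have h11 : (1 : Fin m) + 1 = 2 := by
    apply Fin.ext
    rw [Fin.val_add, Fin.val_one', Nat.mod_eq_of_lt (show 1 < m by omega)]
    rfl
  refine ⟨sing τ 0 * x, permSp ρ, ?_⟩
  set M := Subgroup.closure ({sing τ 0 * x, permSp ρ} : Set Sp)
  have hb : permSp ρ ∈ M := Subgroup.subset_closure (Set.mem_insert_of_mem _ rfl)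
  have hcomm : Commute (sing τ 0) x := by
    have := sg_conj (sing τ 0) (E 1 : V) (E 2)
    rw [sing_fix τ h12.2.1 (inPlane_E 1), sing_fix τ h12.2.2 (inPlane_E 2), mul_inv_eq_iff_eq_mul] at this
    exact this
  obtain ⟨hs0, hx0⟩ := split_mem (Fact.out : p.Prime) hcomm (fun h => not_dvd_orderOf_comp2 (p := p) hτ
      (h.trans (orderOf_map_dvd (planeHom (form_EW (F := F) (0 : Fin m))) (comp2 τ))))
    (sg_pow_char (form_planes h12.1 (inPlane_E 1) (inPlane_E 2)))
    (Subgroup.subset_closure (Set.mem_insert _ _))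
  have hperm : ∀ j : Fin m, ∃ g ∈ M, ∀ i : Fin m, g • (E i : V) = E (i + j) ∧ g • (W i : V) = W (i + j) := by
    intro j
    have hk : ∀ k : ℕ, ∀ i : Fin m, (((ρ ^ k) i : Fin m) : ℕ) = ((i : ℕ) + k) % m := by
      intro k
      induction k with
      | zero => intro i; simp [Nat.mod_eq_of_lt i.isLt]
      | succ k ih =>
        intro i
        rw [pow_succ', Equiv.Perm.mul_apply, hρ1, Fin.val_add, ih, Fin.val_one', ← Nat.add_mod]
        rfl
    refine ⟨permSp (ρ ^ (j : ℕ)), permSp_pow (F := F) ρ j ▸ pow_mem hb _, fun i => ?_⟩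
    rw [permSp_E, permSp_W, show (ρ ^ (j : ℕ)) i = i + j from Fin.ext (by rw [hk, Fin.val_add])]
    exact ⟨rfl, rfl⟩
  have hsing : ∀ i : Fin m, sing τ i ∈ M := by
    intro i
    obtain ⟨g, hg, hge⟩ := hperm i
    have e : g * sing τ 0 * g⁻¹ = sing τ i := by
      refine ext_smul fun y => ?_
      have hE := (hge 0).1
      have hW := (hge 0).2
      rw [zero_add] at hE hW
      have hform : ∀ u : V, ⟪g⁻¹ • y, u⟫ = ⟪y, g • u⟫ := fun u => by
        rw [← form_map g (g⁻¹ • y) u, smul_inv_smul]
      have hform' : ∀ u : V, ⟪u, g⁻¹ • y⟫ = ⟪g • u, y⟫ := fun u => by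
        rw [← form_map g u (g⁻¹ • y), smul_inv_smul]
      rw [mul_smul, mul_smul, sing, sing, planeHom_smul, planeHom_smul, hform, hform', hE, hW]
      simp only [act_add, act_smul, hE, hW, smul_inv_smul]
    exact e ▸ mul_mem (mul_mem hg hs0) (inv_mem hg)
  have hadjE : ∀ i : Fin m, sg (E i : V) (E (i + 1)) ∈ M := by
    intro i
    obtain ⟨g, hg, hge⟩ := hperm (i - 1)
    have e := sg_conj g (E 1 : V) (E 2)
    rw [(hge 1).1, (hge 2).1, add_sub_cancel, show (2 : Fin m) + (i - 1) = i + 1 by
      rw [← h11]; abel] at e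
    exact e ▸ mul_mem (mul_mem hg hx0) (inv_mem hg)
  have hne1 : ∀ i : Fin m, i ≠ i + 1 := fun i h => h12.2.1 (left_eq_add.1 h).symm
  have hne2 : ∀ i : Fin m, i - 1 ≠ i + 1 := fun i h => h12.2.2 (by
    rw [sub_eq_iff_eq_add, add_assoc, h11] at h
    exact (left_eq_add.1 h).symm)
  -- the orbit of `E i` under the Singer element of plane `i`
  have horb : ∀ (i j : Fin m) (_ : i ≠ j) (z : V) (_ : InPlane j z) (_ : sg (E i) z ∈ M) (k : ℕ),
      sg ((sing τ i) ^ k • (E i : V)) z ∈ M := by
    intro i j hij z hz h k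
    induction k with
    | zero => simpa using h
    | succ k ih =>
      have := mul_mem (mul_mem (hsing i) ih) (inv_mem (hsing i))
      rwa [sg_conj, sing_fix τ hij hz, ← mul_smul, ← pow_succ'] at this
  have hplane : ∀ (i : Fin m) (k : ℕ), InPlane i ((sing τ i) ^ k • (E i : V)) := by
    intro i k
    exact ⟨_, _, sing_orbit τ i k⟩
  -- full short root subgroups between planes at distance two
  have hfull : ∀ (i : Fin m) (c : F), sg (c • E (i - 1) : V) (E (i + 1)) ∈ M := by
    intro i
    let A : AddSubgroup F :=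
      { carrier := {c | sg (c • E (i - 1) : V) (E (i + 1)) ∈ M}
        zero_mem' := by simp [sg_zero, one_mem]
        add_mem' := by
          intro a b ha hb
          have h0 : ∀ c : F, ⟪c • E (i - 1), (E (i + 1) : V)⟫ = 0 := fun c => by
            rw [form_smul_left, form_planes (hne2 i) (inPlane_E _) (inPlane_E _), mul_zero]
          simp only [Set.mem_ofPred_eq] at ha hb ⊢
          have := mul_mem ha hb
          rwa [sg_mul (h0 a) (h0 b), ← add_smul, form_smul_left, form_smul_right, form_self, mul_zero, mul_zero,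
            transv_zero, mul_one] at this
        neg_mem' := by
          intro a ha
          have h0 : ∀ c : F, ⟪c • E (i - 1), (E (i + 1) : V)⟫ = 0 := fun c => by
            rw [form_smul_left, form_planes (hne2 i) (inPlane_E _) (inPlane_E _), mul_zero]
          have e : sg ((-a) • E (i - 1) : V) (E (i + 1)) = (sg (a • E (i - 1) : V) (E (i + 1)))⁻¹ := by
            refine (inv_eq_of_mul_eq_one_right ?_).symm
            rw [sg_mul (h0 a) (h0 (-a)), ← add_smul, add_neg_cancel, zero_smul, sg_zero, form_smul_left,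
              form_smul_right, form_self, mul_zero, mul_zero, transv_zero, mul_one]
          simp only [Set.mem_ofPred_eq] at ha ⊢
          exact e ▸ inv_mem ha }
    suffices A = ⊤ from fun c => (this ▸ AddSubgroup.mem_top c : c ∈ A)
    refine hgen A fun k => ?_
    set u : V := (sing τ i) ^ k • (E i : V) with hu
    have hu' : InPlane i u := hplane i k
    have hpi : i - 1 ≠ i := by
      intro h; exact hne1 (i - 1) (by rw [sub_add_cancel]; exact h)
    have hg : sg u (E (i - 1) : V) ∈ M := horb i (i - 1) hpi.symm _ (inPlane_E _) (by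
      rw [sg_comm (form_planes hpi.symm (inPlane_E _) (inPlane_E _))]
      simpa using hadjE (i - 1)) k
    have hw : sg (E i : V) (E (i + 1)) ∈ M := hadjE i
    have e : sg u (E (i - 1) : V) * sg (E i) (E (i + 1)) * (sg u (E (i - 1)))⁻¹ =
        sg (E i) (E (i + 1)) * sg (⟪(E i : V), u⟫ • E (i - 1)) (E (i + 1)) := by
      have hperp := form_planes hpi.symm hu' (inPlane_E (F := F) (i - 1))
      have h1 : ⟪⟪(E i : V), u⟫ • E (i - 1), E (i + 1)⟫ = 0 := by
        rw [form_smul_left, form_planes (hne2 i) (inPlane_E _) (inPlane_E _), mul_zero]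
      rw [sg_conj, sg_smul hperp, sg_smul hperp, form_planes hpi.symm (inPlane_E (F := F) i) (inPlane_E (i - 1)),
        form_planes (hne2 i).symm (inPlane_E (F := F) (i + 1)) (inPlane_E (i - 1)),
        form_planes (hne1 i).symm (inPlane_E (F := F) (i + 1)) hu', sg_mul
          (form_planes (hne1 i) (inPlane_E _) (inPlane_E _)) h1, form_smul_left,
        form_planes hpi (inPlane_E (F := F) (i - 1)) (inPlane_E i), mul_zero, transv_zero, mul_one]
      simp
    have hmem : sg (⟪(E i : V), u⟫ • E (i - 1)) (E (i + 1)) ∈ M := by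
      have := mul_mem (inv_mem hw) (e ▸ mul_mem (mul_mem hg hw) (inv_mem hg))
      rwa [inv_mul_cancel_left] at this
    have hval : ⟪(E i : V), u⟫ = luc τ k := by
      simp [hu, sing_orbit, form_add_right, form_smul_right, form_EW, form_self]
    exact hval ▸ hmem
  have hCen : ∀ i : Fin m, Cen M (E (i - 1) : V) := by
    intro i
    set v : V := E (i - 1) with hv
    set j := i + 1 with hj
    have hij : j ≠ i - 1 := (hne2 i).symm
    have hmv : ∀ (k : ℕ) (c : F), sg (c • ((sing τ j) ^ k • (E j : V))) v ∈ M := by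
      intro k c
      have hc : InPlane (i - 1) (c • v) := ⟨c, 0, by simp [hv]⟩
      have h0 : sg (E j : V) (c • v) ∈ M := by
        rw [sg_comm (form_planes hij (inPlane_E _) hc)]; exact hfull i c
      have h1 := horb j (i - 1) hij _ hc h0 k
      rwa [← sg_scale (form_planes hij (hplane j k) (inPlane_E _))] at h1
    have hperp : ∀ a b : F, ⟪a • E j + b • W j, v⟫ = 0 := fun a b =>
      form_planes hij ⟨a, b, rfl⟩ (inPlane_E _)
    intro c
    have hu1 : ∀ l : F, sg (l • W j : V) v ∈ M := fun l => by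
      simpa [sing_E] using hmv 1 l
    have hu0 : ∀ l : F, sg (l • E j : V) v ∈ M := fun l => by simpa using hmv 0 l
    have hp0 : ∀ l : F, ⟪l • E j, v⟫ = 0 := fun l => by simpa using hperp l 0
    have hp1 : ∀ l : F, ⟪l • W j, v⟫ = 0 := fun l => by simpa using hperp 0 l
    by_cases h2 : (2 : F) = 0
    · -- characteristic two: compare with the orbit point `τ W - E`
      have hτ0 : τ ≠ 0 := by
        rintro rfl
        exact hτ (by rw [show (4 : F) = 2 * 2 by norm_num, h2]; simp)
      haveI : CharP F 2 := by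
        have : p = 2 := (Nat.prime_dvd_prime_iff_eq (Fact.out : p.Prime) Nat.prime_two).1
          ((CharP.cast_eq_zero_iff F p 2).1 (by exact_mod_cast h2))
        exact this ▸ hcp
      have hPerf : ∃ l : F, l * l * τ = c := by
        obtain ⟨l, hl⟩ := FiniteField.isSquare_of_char_two (ringChar.eq F 2) (c / τ)
        exact ⟨l, by rw [← hl, div_mul_cancel₀ c hτ0]⟩
      obtain ⟨l, rfl⟩ := hPerf
      have e := sg_mul (hp0 (-l)) (hp1 (l * τ))
      have hsum : (-l) • E j + (l * τ) • W j = l • ((sing τ j) ^ 2 • (E j : V)) := by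
        rw [sq, mul_smul (sing τ j) (sing τ j), sing_E, sing_W]; module
      rw [hsum, form_smul_left, form_smul_right, form_WE] at e
      have hA := mul_mem (hu0 (-l)) (hu1 (l * τ))
      rw [e] at hA
      have := mul_mem (inv_mem (hmv 2 l)) hA
      rw [inv_mul_cancel_left] at this
      convert this using 2
      ring
    · have e1 := sg_mul (hp0 1) (hp1 (c / 2))
      have e2 := sg_mul (hp1 (c / 2)) (hp0 1)
      rw [form_smul_left, form_smul_right, form_WE] at e1
      rw [add_comm ((c / 2) • W j : V), form_smul_left, form_smul_right, form_EW] at e2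
      have hA := mul_mem (hu0 1) (hu1 (c / 2))
      have hB := mul_mem (hu1 (c / 2)) (hu0 1)
      rw [e1] at hA
      rw [e2] at hB
      have := mul_mem (inv_mem hA) hB
      rw [_root_.mul_inv_rev, mul_assoc, inv_mul_cancel_left, transv_inv, transv_add] at this
      convert this using 2
      field_simp
      ring
  refine top_of_chain (fun i v hv => ?_) fun i j hij => ⟨E i, E j, inPlane_E i, inPlane_E j,
    fun h => by simpa [E] using congrFun h (Sum.inr i), fun h => by simpa [E] using congrFun h (Sum.inr j), ?_⟩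
  · have hE : Cen M (E i : V) := by simpa using hCen (i + 1)
    exact cen_plane hE (sing_E τ i ▸ cen_move (hsing i) hE) hv
  · have : j = i + 1 := by
      apply Fin.ext
      rw [Fin.val_add, Fin.val_one', Nat.mod_eq_of_lt (show 1 < m by omega),
        Nat.mod_eq_of_lt (hij ▸ j.isLt)]
      exact hij
    exact this ▸ hadjE i

/-- The element of order four rotating a plane. -/
noncomputable def rot (i : Fin m) : Sp := sing 0 i

/-- Two generators of `Sp_4(q)`, `q ≥ 3`. -/
theorem two_gen_two (hq : 2 < Fintype.card F) :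
    ∃ a b : Matrix.symplecticGroup (Fin 2) F,
      Subgroup.closure ({a, b} : Set (Matrix.symplecticGroup (Fin 2) F)) = ⊤ := by
  classical
  obtain ⟨p, hcp⟩ := CharP.exists F
  haveI := hcp
  haveI : Fact p.Prime := ⟨CharP.char_is_prime F p⟩
  obtain ⟨g, hg⟩ := IsCyclic.exists_generator (α := Fˣ)
  set h : Matrix.SpecialLinearGroup (Fin 2) F :=
    ⟨!![(g : F), 0; 0, ((g⁻¹ : Fˣ) : F)], by simp [Matrix.det_fin_two]⟩ with hh
  set H := planeHom (form_EW (F := F) (0 : Fin 2)) h with hH
  have hHfix : ∀ v, InPlane (1 : Fin 2) v → H • v = v := fun v hv => by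
    rw [hH, planeHom_smul, form_planes (by decide) hv (inPlane_W 0), form_planes (by decide) (inPlane_E 0) hv]
    simp
  have hHE : ∀ v, H • v = v + sympForm 2 F v (W 0) • (((g : F) - 1) • E 0) +
      sympForm 2 F (E 0) v • ((((g⁻¹ : Fˣ) : F) - 1) • W 0) := fun v => by
    rw [hH, planeHom_smul, hh]; simp
  set x : Matrix.symplecticGroup (Fin 2) F := sg (E 0) (W 1) with hx
  set n : Matrix.symplecticGroup (Fin 2) F := permSp (Equiv.swap 0 1) with hn
  refine ⟨H * transv (E 1) 1, n * x * rot 0, ?_⟩
  set M := Subgroup.closure ({H * transv (E 1) 1, n * x * rot 0} : Set (Matrix.symplecticGroup (Fin 2) F))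
  have hb : n * x * rot 0 ∈ M := Subgroup.subset_closure (Set.mem_insert_of_mem _ rfl)
  have hcomm : Commute H (transv (E 1) 1) := by
    have := transv_conj H (E 1) (1 : F)
    rw [hHfix _ (inPlane_E 1), mul_inv_eq_iff_eq_mul] at this
    exact this
  have hord : ¬ p ∣ orderOf H := by
    intro hd
    have hpow : ∀ k : ℕ, (h ^ k).1 = !![(g : F) ^ k, 0; 0, ((g⁻¹ : Fˣ) : F) ^ k] := by
      intro k
      induction k with
      | zero => simp [Matrix.one_fin_two]
      | succ k ih =>
        rw [pow_succ, Matrix.SpecialLinearGroup.coe_mul, ih, hh]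
        ext i j
        fin_cases i <;> fin_cases j <;> simp [Matrix.mul_apply, Fin.sum_univ_two, pow_succ]
    have h1 : h ^ Fintype.card Fˣ = 1 := Subtype.ext (by
      rw [hpow, ← Units.val_pow_eq_pow_val, ← Units.val_pow_eq_pow_val, pow_card_eq_one, pow_card_eq_one,
        Units.val_one, Matrix.SpecialLinearGroup.coe_one, Matrix.one_fin_two])
    have h2 : p ∣ Fintype.card Fˣ :=
      (hd.trans (orderOf_map_dvd _ h)).trans (orderOf_dvd_of_pow_eq_one h1)
    rw [Fintype.card_units] at h2
    obtain ⟨e, -, he⟩ := FiniteField.card F p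
    have h3 : p ∣ Fintype.card F := he ▸ dvd_pow_self p e.ne_zero
    have h4 := Nat.dvd_sub h3 h2
    rw [Nat.sub_sub_self (by omega : 1 ≤ Fintype.card F)] at h4
    exact (Fact.out : p.Prime).not_dvd_one h4
  obtain ⟨hHM, hT⟩ := TwoGenBasic.split_mem (Fact.out : p.Prime) hcomm hord
    (by rw [transv_pow, CharP.cast_eq_zero, zero_mul, transv_zero])
    (Subgroup.subset_closure (Set.mem_insert _ _))
  set b := n * x * rot 0 with hbdef
  -- values
  have hp01 : sympForm 2 F (E 0) (W 1) = 0 := form_planes (by decide) (inPlane_E 0) (inPlane_W 1)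
  have hxE1 : x • (E 1 : Fin 2 ⊕ Fin 2 → F) = E 1 + E 0 := by
    rw [hx, sg_smul hp01, form_EW, form_planes (by decide) (inPlane_E (F := F) 1) (inPlane_E 0)]
    simp
  have hbE1 : b • (E 1 : Fin 2 ⊕ Fin 2 → F) = E 0 + E 1 := by
    rw [hbdef, mul_smul, mul_smul, rot, sing_fix 0 (by decide) (inPlane_E 1), hxE1, smul_def, Matrix.mulVec_add,
      ← smul_def, ← smul_def, hn, permSp_E, permSp_E]
    simp
  have hbW0 : b • (W 0 : Fin 2 ⊕ Fin 2 → F) = (-1 : F) • E 1 := by
    rw [hbdef, mul_smul, mul_smul, rot, sing_W, zero_smul, add_zero]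
    have : x • ((-1 : F) • E 0 : Fin 2 ⊕ Fin 2 → F) = (-1 : F) • E 0 := by
      rw [hx, sg_smul hp01, form_smul_left, form_smul_left, hp01, form_self]
      simp
    rw [this, smul_def, Matrix.mulVec_smul, ← smul_def, hn, permSp_E]
    simp
  have hbE0 : b • (E 0 : Fin 2 ⊕ Fin 2 → F) = W 1 + (-1 : F) • W 0 := by
    rw [hbdef, mul_smul, mul_smul, rot, sing_E]
    have : x • (W 0 : Fin 2 ⊕ Fin 2 → F) = W 0 + (-1 : F) • W 1 := by
      rw [hx, sg_smul hp01, form_WE, form_planes (by decide) (inPlane_W (F := F) 0) (inPlane_W 1)]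
      simp
    rw [this, smul_def, Matrix.mulVec_add, Matrix.mulVec_smul, ← smul_def, ← smul_def, hn, permSp_W, permSp_W]
    simp
  -- squares span
  have hsq : ∀ A : AddSubgroup F, (∀ μ : Fˣ, ((μ : F) * μ) ∈ A) → A = ⊤ := by
    intro A hA
    have hA' : ∀ z : F, z * z ∈ A := fun z => by
      rcases eq_or_ne z 0 with rfl | hz
      · simp
      · exact hA (Units.mk0 z hz)
    refine eq_top_iff.2 fun c _ => ?_
    by_cases h2 : (2 : F) = 0
    · haveI : CharP F 2 := by
        have : p = 2 := (Nat.prime_dvd_prime_iff_eq (Fact.out : p.Prime) Nat.prime_two).1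
          ((CharP.cast_eq_zero_iff F p 2).1 (by exact_mod_cast h2))
        exact this ▸ hcp
      obtain ⟨l, hl⟩ := FiniteField.isSquare_of_char_two (ringChar.eq F 2) c
      exact hl ▸ hA' l
    · have := sub_mem (sub_mem (hA' (c / 2 + 1)) (hA' (c / 2))) (hA' 1)
      have e : (c / 2 + 1) * (c / 2 + 1) - c / 2 * (c / 2) - 1 * 1 = c := by field_simp; ring
      exact e ▸ this
  let A : (Fin 2 ⊕ Fin 2 → F) → AddSubgroup F := fun v =>
    { carrier := {c | transv v c ∈ M}
      zero_mem' := by simp [transv_zero, one_mem]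
      add_mem' := fun {a b} ha hb => by
        simp only [Set.mem_ofPred_eq] at ha hb ⊢
        have := mul_mem ha hb
        rwa [transv_add] at this
      neg_mem' := fun {a} ha => by
        simp only [Set.mem_ofPred_eq] at ha ⊢
        have := inv_mem ha
        rwa [transv_inv] at this }
  have hHW : H • (W 0 : Fin 2 ⊕ Fin 2 → F) = ((g⁻¹ : Fˣ) : F) • W 0 := by
    rw [hHE, form_self, form_EW]; simp; module
  have hHE0 : H • (E 0 : Fin 2 ⊕ Fin 2 → F) = (g : F) • E 0 := by
    rw [hHE, form_self, form_EW]; simp; module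
  have hpowW : ∀ k : ℕ, H ^ k • (W 0 : Fin 2 ⊕ Fin 2 → F) = ((g⁻¹ : Fˣ) : F) ^ k • W 0 := by
    intro k
    induction k with
    | zero => simp
    | succ k ih => rw [pow_succ', mul_smul, ih, smul_def, Matrix.mulVec_smul, ← smul_def, hHW, smul_smul, pow_succ]
  have hpowE : ∀ k : ℕ, H ^ k • (E 0 : Fin 2 ⊕ Fin 2 → F) = (g : F) ^ k • E 0 := by
    intro k
    induction k with
    | zero => simp
    | succ k ih => rw [pow_succ', mul_smul, ih, smul_def, Matrix.mulVec_smul, ← smul_def, hHE0, smul_smul, pow_succ]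
  have hunit : ∀ μ : Fˣ, ∃ k : ℕ, g ^ k = μ := fun μ =>
    (IsOfFinOrder.mem_powers_iff_mem_zpowers (isOfFinOrder_of_finite g)).2 (hg μ)
  have hW0one : transv (W 0 : Fin 2 ⊕ Fin 2 → F) 1 ∈ M := by
    have := mul_mem (mul_mem (inv_mem hb) hT) hb
    rw [show b⁻¹ * transv (E 1) 1 * b = b⁻¹ * transv (E 1) 1 * b⁻¹⁻¹ by rw [inv_inv], transv_conj] at this
    have e : b⁻¹ • (E 1 : Fin 2 ⊕ Fin 2 → F) = (-1 : F) • W 0 := by
      rw [inv_smul_eq_iff, smul_def, Matrix.mulVec_smul, ← smul_def, hbW0, smul_smul]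
      simp
    rwa [e, transv_scale, neg_one_sq, one_mul] at this
  have cenW0 : Cen M (W 0 : Fin 2 ⊕ Fin 2 → F) := by
    intro c
    have : A (W 0) = ⊤ := hsq _ fun μ => by
      obtain ⟨k, hk⟩ := hunit μ⁻¹
      have := mul_mem (mul_mem (pow_mem hHM k) hW0one) (inv_mem (pow_mem hHM k))
      rw [transv_conj, hpowW, transv_scale, mul_one, ← Units.val_pow_eq_pow_val, inv_pow, hk, inv_inv, sq] at this
      exact this
    exact (this ▸ AddSubgroup.mem_top c : c ∈ A (W 0))
  have cenE1 : Cen M (E 1 : Fin 2 ⊕ Fin 2 → F) := by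
    have := cen_smul (cen_move hb cenW0) (-1 : F)
    rwa [hbW0, smul_smul, neg_one_mul, neg_neg, one_smul] at this
  have cenMix : ∀ μ : Fˣ, Cen M ((μ : F) • E 0 + E 1 : Fin 2 ⊕ Fin 2 → F) := by
    intro μ
    obtain ⟨k, hk⟩ := hunit μ
    have := cen_move (pow_mem hHM k) (hbE1 ▸ cen_move hb cenE1)
    have e : H ^ k • (E 0 + E 1 : Fin 2 ⊕ Fin 2 → F) = (μ : F) • E 0 + E 1 := by
      rw [smul_def, Matrix.mulVec_add, ← smul_def, ← smul_def, hpowE]
      have : H ^ k • (E 1 : Fin 2 ⊕ Fin 2 → F) = E 1 :=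
        MulAction.mem_stabilizer_iff.1 (pow_mem (MulAction.mem_stabilizer_iff.2 (hHfix _ (inPlane_E 1))) k)
      rw [this, ← Units.val_pow_eq_pow_val, hk]
    rwa [e] at this
  have hperp : sympForm 2 F (E 0) (E 1) = 0 := form_planes (by decide) (inPlane_E 0) (inPlane_E 1)
  have hprod : ∀ μ : Fˣ, transv (E 0 : Fin 2 ⊕ Fin 2 → F) (μ : F) * sg (E 0) (E 1) ∈ M := by
    intro μ
    have e : transv (E 0 : Fin 2 ⊕ Fin 2 → F) (μ : F) * sg (E 0) (E 1) =
        transv ((μ : F) • E 0 + E 1) ((μ⁻¹ : Fˣ) : F) * transv (E 1) (-((μ⁻¹ : Fˣ) : F)) := by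
      refine ext_smul fun y => ?_
      simp only [mul_smul, transv_smul, sg_smul hperp, form_add_left, form_add_right, form_smul_left,
        form_smul_right, form_self, hperp, form_eq_zero_comm.1 hperp, Units.val_inv_eq_inv_val]
      have hμ : (μ : F) ≠ 0 := μ.ne_zero
      match_scalars <;> field_simp <;> ring
    exact e ▸ mul_mem (cenMix μ _) (cenE1 _)
  have cenE0 : Cen M (E 0 : Fin 2 ⊕ Fin 2 → F) := by
    have hdiff : ∀ μ ν : Fˣ, transv (E 0 : Fin 2 ⊕ Fin 2 → F) ((μ : F) - ν) ∈ M := by
      intro μ ν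
      have := mul_mem (hprod μ) (inv_mem (hprod ν))
      rwa [_root_.mul_inv_rev, mul_assoc, mul_inv_cancel_left, transv_inv, transv_add, ← sub_eq_add_neg] at this
    intro c
    obtain ⟨z, hz0, hzc⟩ : ∃ z : F, z ≠ 0 ∧ z ≠ -c := by
      by_contra hcon
      push Not at hcon
      have : (Finset.univ : Finset F) ⊆ {0, -c} := fun z _ => by
        rcases eq_or_ne z 0 with h | h
        · simp [h]
        · simp [hcon z h]
      have := (Finset.card_le_card this).trans Finset.card_le_two
      rw [Finset.card_univ] at this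
      omega
    have := hdiff (Units.mk0 (z + c) fun h => hzc (by linear_combination h)) (Units.mk0 z hz0)
    simpa using this
  have hsg : sg (E 0) (E 1) ∈ M := by
    simpa using mul_mem (inv_mem (cenE0 ((1 : Fˣ) : F))) (hprod 1)
  have cenP0 : ∀ v, InPlane (0 : Fin 2) v → Cen M v := fun v hv => cen_plane cenE0 cenW0 hv
  have cenW1 : Cen M (W 1 : Fin 2 ⊕ Fin 2 → F) := by
    obtain ⟨k, hk, hkE, hkfix⟩ := exists_move cenP0 (inPlane_E (F := F) 0) (inPlane_W 0)
      (fun h => by simpa [E] using congrFun h (Sum.inr 0)) (fun h => by simpa [W] using congrFun h (Sum.inl 0))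
    have hmem : sg (W 0 : Fin 2 ⊕ Fin 2 → F) (E 1) ∈ M := by
      have := mul_mem (mul_mem hk hsg) (inv_mem hk)
      rwa [sg_conj, hkE, hkfix _ fun x hx => form_planes (by decide) (inPlane_E 1) hx] at this
    have hbase := hbE0 ▸ cen_move hb cenE0
    have := cen_move (inv_mem hmem) hbase
    convert this using 1
    rw [eq_inv_smul_iff, sg_smul (form_planes (by decide) (inPlane_W 0) (inPlane_E 1)), form_WE,
      form_planes (by decide) (inPlane_W (F := F) 1) (inPlane_W 0)]
    module
  refine top_of_chain (fun i v hv => ?_) fun i j hij => ?_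
  · fin_cases i
    · exact cenP0 v hv
    · exact cen_plane cenE1 cenW1 hv
  · have hi : i = 0 := by apply Fin.ext; have := j.isLt; simp; omega
    have hj : j = 1 := by apply Fin.ext; rw [hij, hi]; simp
    subst hi; subst hj
    exact ⟨E 0, E 1, inPlane_E 0, inPlane_E 1, fun h => by simpa [E] using congrFun h (Sum.inr 0),
      fun h => by simpa [E] using congrFun h (Sum.inr 1), hsg⟩

theorem two_gen (hm : 2 ≤ m) (hF : m = 2 → 2 < Fintype.card F) :
    ∃ a b : Sp, Subgroup.closure ({a, b} : Set Sp) = ⊤ := by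
  rcases hm.eq_or_lt with h | h
  · subst h; exact two_gen_two (hF rfl)
  · exact two_gen_three h

end Cfsg.Agent.TwoGenSymplectic
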