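import Mathlib

/-!
Additive generation of a finite field, and of the square of a field, by powers.
-/

set_option autoImplicit false

namespace Cfsg.Agent.TwoGenUnitaryField

variable {F : Type*} [Field F] [Fintype F]

/-- In a field of `q²` elements, the powers of an element of multiplicative order at least `q` generate additively. -/
theorem addSubgroup_eq_top {q : ℕ} (hF : Fintype.card F = q ^ 2) {ω : F} (hω : ω ≠ 0)
    (hord : ∀ k, 0 < k → k < q → ω ^ k ≠ 1) {A : AddSubgroup F} (hA : ∀ i, ω ^ i ∈ A) : A = ⊤ := by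
  classical
  set R := Subring.closure ({ω} : Set F) with hR
  have hRA : ∀ x ∈ R, x ∈ A := by
    intro x hx
    rw [hR, Subring.mem_closure_iff] at hx
    induction hx using AddSubgroup.closure_induction with
    | mem y hy =>
      obtain ⟨i, rfl⟩ := Submonoid.mem_closure_singleton.1 hy
      exact hA i
    | zero => exact zero_mem A
    | add y z _ _ hy hz => exact add_mem hy hz
    | neg y _ hy => exact neg_mem hy
  obtain ⟨K, hK⟩ : ∃ K : Subfield F, (K : Set F) = R := by
    refine ⟨{ toSubring := R, inv_mem' := fun x hx => ?_ }, rfl⟩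
    by_cases h0 : x = 0
    · simp [h0]
    have h1 : 1 < Fintype.card F := Fintype.one_lt_card
    have e : x⁻¹ = x ^ (Fintype.card F - 2) := by
      refine inv_eq_of_mul_eq_one_right ?_
      rw [← pow_succ', show Fintype.card F - 2 + 1 = Fintype.card F - 1 by omega]
      exact FiniteField.pow_card_sub_one_eq_one x h0
    show x⁻¹ ∈ R
    exact e ▸ pow_mem (show x ∈ R from hx) _
  have hωK : ω ∈ K := by
    rw [← SetLike.mem_coe, hK]
    exact Subring.subset_closure rfl
  by_contra hne
  have hKne : K ≠ ⊤ := fun h => hne (eq_top_iff.2 fun x _ => hRA x (by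
    rw [← SetLike.mem_coe, ← hK, h]
    trivial))
  obtain ⟨x, hx⟩ : ∃ x, x ∉ K := by
    by_contra hc
    push Not at hc
    exact hKne (eq_top_iff.2 fun x _ => hc x)
  have hcard := Module.card_eq_pow_finrank (K := K) (V := F)
  have h2 : 2 ≤ Module.finrank K F := by
    by_contra hlt
    have hpos : 0 < Module.finrank K F := Module.finrank_pos
    have he : Module.finrank K F = 1 := by omega
    rw [he, pow_one] at hcard
    have hbij : Function.Bijective (Subtype.val : K → F) :=
      (Fintype.bijective_iff_injective_and_card _).2 ⟨Subtype.val_injective, hcard.symm⟩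
    obtain ⟨y, rfl⟩ := hbij.2 x
    exact hx y.2
  have hKq : Fintype.card K ≤ q := by
    have hle : Fintype.card K ^ 2 ≤ q ^ 2 := by
      rw [← hF, hcard]
      exact Nat.pow_le_pow_right Fintype.card_pos h2
    exact (Nat.pow_le_pow_iff_left two_ne_zero).1 hle
  have h1 : 1 < Fintype.card K := Fintype.one_lt_card
  refine hord (Fintype.card K - 1) (by omega) (by omega) ?_
  have := FiniteField.pow_card_sub_one_eq_one (⟨ω, hωK⟩ : K)
    (fun h => hω (congrArg Subtype.val h))
  simpa using congrArg Subtype.val this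

/-- Powers of a pair of non-conjugate elements, the second a generator of the multiplicative group, generate the
square of the field additively. -/
theorem prod_eq_top {p : ℕ} [Fact p.Prime] [CharP F p] {a b : F}
    (hgen : ∀ x : F, x ≠ 0 → ∃ i : ℕ, b ^ i = x) (ha : ∀ A : AddSubgroup F, (∀ i, a ^ i ∈ A) → A = ⊤)
    (hconj : ∀ r : ℕ, a ≠ b ^ p ^ r) {A : AddSubgroup (F × F)} (h1 : ((1 : F), (1 : F)) ∈ A)
    (hmul : ∀ x ∈ A, (a * x.1, b * x.2) ∈ A) : A = ⊤ := by
  classical
  have hmul' : ∀ (i : ℕ), ∀ x ∈ A, (a ^ i * x.1, b ^ i * x.2) ∈ A := by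
    intro i
    induction i with
    | zero => intro x hx; simpa using hx
    | succ i ih =>
      intro x hx
      simpa [pow_succ', mul_assoc] using hmul _ (ih x hx)
  have hpow : ∀ i : ℕ, (a ^ i, b ^ i) ∈ A := fun i => by simpa using hmul' i _ h1
  by_cases hz : ∃ x : F, x ≠ 0 ∧ (x, (0 : F)) ∈ A
  · obtain ⟨x, hx0, hx⟩ := hz
    have h3 : ∀ t : F, (t, (0 : F)) ∈ A := by
      let A1 : AddSubgroup F :=
        A.comap ((AddMonoidHom.inl F F).comp (AddMonoidHom.mulRight x))
      have : A1 = ⊤ := ha A1 fun i => by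
        show (a ^ i * x, (0 : F)) ∈ A
        simpa using hmul' i _ hx
      intro t
      have ht : t / x ∈ A1 := this ▸ AddSubgroup.mem_top _
      change (t / x * x, (0 : F)) ∈ A at ht
      rwa [div_mul_cancel₀ t hx0] at ht
    refine eq_top_iff.2 fun y _ => ?_
    rcases eq_or_ne y.2 0 with h2 | h2
    · rw [← Prod.mk.eta (p := y), h2]
      exact h3 _
    · obtain ⟨i, hi⟩ := hgen y.2 h2
      simpa [hi] using add_mem (h3 (y.1 - a ^ i)) (hpow i)
  · exfalso
    push Not at hz
    have huniq : ∀ t t' y : F, (t, y) ∈ A → (t', y) ∈ A → t = t' := fun t t' y h h' =>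
      sub_eq_zero.1 (by
        by_contra hne
        exact hz _ hne (by simpa using sub_mem h h'))
    have hex : ∀ y : F, ∃ t, (t, y) ∈ A := fun y => by
      rcases eq_or_ne y 0 with rfl | hy
      · exact ⟨0, zero_mem A⟩
      obtain ⟨i, hi⟩ := hgen y hy
      exact ⟨a ^ i, hi ▸ hpow i⟩
    choose φ hφ using hex
    have hφb : ∀ i, φ (b ^ i) = a ^ i := fun i => huniq _ _ _ (hφ _) (hpow i)
    have hφ0 : φ 0 = 0 := huniq _ _ _ (hφ _) (zero_mem A)
    let ψ : F →+* F :=
      { toFun := φ
        map_one' := huniq _ _ _ (hφ 1) h1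
        map_mul' := fun x y => by
          rcases eq_or_ne y 0 with rfl | hy
          · rw [mul_zero, hφ0, mul_zero]
          obtain ⟨i, rfl⟩ := hgen y hy
          rw [hφb]
          refine huniq _ _ _ (hφ _) ?_
          have := hmul' i _ (hφ x)
          rwa [mul_comm (a ^ i), mul_comm (b ^ i)] at this
        map_zero' := hφ0
        map_add' := fun x y => huniq _ _ _ (hφ _) (add_mem (hφ x) (hφ y)) }
    let : Algebra (ZMod p) F := ZMod.algebra F p
    let χ : F →ₐ[ZMod p] F :=
      { toRingHom := ψ
        commutes' := fun r => by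
          show ψ (algebraMap (ZMod p) F r) = algebraMap (ZMod p) F r
          exact RingHom.congr_fun (Subsingleton.elim (ψ.comp (algebraMap (ZMod p) F)) (algebraMap (ZMod p) F)) r }
    obtain ⟨r, hr⟩ := (FiniteField.bijective_frobeniusAlgHom_pow (ZMod p) F).2 χ
    refine hconj r ?_
    have h := hφb 1
    rw [pow_one, pow_one] at h
    have h' : χ b = b ^ (Fintype.card (ZMod p)) ^ (r : ℕ) := by
      rw [← hr]
      simp [AlgHom.coe_pow, FiniteField.coe_frobeniusAlgHom, pow_iterate]
    rw [ZMod.card] at h'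
    rw [← h', ← h]
    rfl

end Cfsg.Agent.TwoGenUnitaryField
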