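import Mathlib
import Cfsg.Agent.Lib.TwoGenEichler
import Cfsg.Agent.Lib.TwoGenUnitaryField
import Cfsg.Agent.Lib.TwoGenBasic
import Cfsg.Agent.Lib.OrthUnitaryIsotropic

/-!
Two generators of the special unitary groups.

The first generator is a torus element acting on a hyperbolic pair `e, f` and by scalars on one or two blocks of an
orthonormal basis of the complement (times a transvection in one small case). The second is a monomial element
exchanging the lines of `e` and `f`, times one Eichler transformation at `e`.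
-/

set_option autoImplicit false
set_option linter.unusedSectionVars false
set_option linter.unusedSimpArgs false

namespace Cfsg.Agent.TwoGenUnitary

open Cfsg.Agent.OrthUnitaryHerm Cfsg.Agent.OrthUnitaryTransvection Cfsg.Agent.OrthUnitaryIsotropic
open Cfsg.Agent.TwoGenEichler

variable {F : Type*} [Field F] [Fintype F] {q n : ℕ} {hF : Fintype.card F = q ^ 2}

theorem rt_shift {M : Subgroup (SU n F q)} {v w : Fin n → F} (h : Rt hF M v w) (c : F) :
    Rt hF M v (w + c • v) := by
  obtain ⟨μ, he, hw, hμ, hm⟩ := h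
  have hw' : hermForm n F q (w + c • v) v = 0 := by
    rw [herm_add_left, herm_smul_left, hw, he]; ring
  have hww : hermForm n F q (w + c • v) (w + c • v) = hermForm n F q w w := by
    simp only [herm_add_left, herm_add_right hF, herm_smul_left, herm_smul_right, he, hw,
      herm_skew_zero hF hw]
    ring
  have hμ' : (μ - c + c ^ q) + (μ - c + c ^ q) ^ q
      + hermForm n F q (w + c • v) (w + c • v) = 0 := by
    rw [hww, add_pow_q hF, sub_pow_q hF, pow_q_q hF]; linear_combination hμ
  refine ⟨_, he, hw', hμ', ?_⟩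
  have e : eich hF v (w + c • v) (μ - c + c ^ q) he hw' hμ' = eich hF v w μ he hw hμ := by
    refine su_ext fun x => ?_
    rw [eich_act, eich_act, herm_add_right hF, herm_smul_right]
    module
  exact e ▸ hm

/-- The orthogonal complement vectors whose Eichler transformations at `e` meet `M`. -/
def lset (hF : Fintype.card F = q ^ 2) (M : Subgroup (SU n F q)) (e f : Fin n → F)
    (he : hermForm n F q e e = 0) : AddSubgroup (Fin n → F) where
  carrier := {w | hermForm n F q w f = 0 ∧ Rt hF M e w}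
  zero_mem' := ⟨herm_zero_left _, rt_zero he⟩
  add_mem' := fun ha hb => ⟨by rw [herm_add_left, ha.1, hb.1, add_zero], ha.2.add hb.2⟩
  neg_mem' := fun {a} ha => ⟨by rw [← neg_one_smul F a, herm_smul_left, ha.1, mul_zero], ha.2.neg⟩

/-- The criterion for two generators. -/
theorem top_of_data (hn : 3 ≤ n) (h32 : ¬(n = 3 ∧ q = 2)) {e f : Fin n → F}
    (hee : hermForm n F q e e = 0) (hff : hermForm n F q f f = 0) (hef : hermForm n F q e f = 1)
    {a b : SU n F q} {g l m : F} (hae : act a e = g • e) (haf : act a f = (g ^ q)⁻¹ • f) (hg : g ≠ 0)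
    (hbe : act b e = l • f) (hl : l ≠ 0) (hbf : act b f = m • e) (hm : m ≠ 0)
    (hrel : b * a * b⁻¹ = (a ^ q)⁻¹)
    {w₀ : Fin n → F} {μ₀ : F} (hw₀e : hermForm n F q w₀ e = 0) (hw₀f : hermForm n F q w₀ f = 0)
    (hμ₀ : μ₀ + μ₀ ^ q + hermForm n F q w₀ w₀ = 0)
    {M : Subgroup (SU n F q)} (ha : a ∈ M) (hbu : b * eich hF e w₀ μ₀ hee hw₀e hμ₀ ∈ M)
    (hgen : ∀ L : AddSubgroup (Fin n → F), w₀ - g ^ q • act a w₀ ∈ L →
      (∀ w ∈ L, g ^ q • act a w ∈ L) →
      (∀ x ∈ M, act x e = e → act x f = f → ∀ w ∈ L, act x w ∈ L) →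
      ∃ v w, (∀ t : F, t • v ∈ L) ∧ w ∈ L ∧ hermForm n F q w v ≠ 0)
    (hspan : ∀ L : AddSubgroup (Fin n → F), w₀ - g ^ q • act a w₀ ∈ L →
      (∀ w ∈ L, g ^ q • act a w ∈ L) →
      (∀ x ∈ M, act x e = e → act x f = f → ∀ w ∈ L, act x w ∈ L) →
      (∃ κ : F, κ ≠ 0 ∧ ∀ w ∈ L, κ • act b w ∈ L) →
      ∀ y, hermForm n F q y e = 0 → hermForm n F q y f = 0 → y ∈ L) :
    M = ⊤ := by
  have hfe : hermForm n F q f e = 1 := by rw [herm_conj hF, hef, one_pow]
  set u := eich hF e w₀ μ₀ hee hw₀e hμ₀ with hu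
  set L := lset hF M e f hee with hL
  have hmemL : ∀ {w}, w ∈ L ↔ hermForm n F q w f = 0 ∧ Rt hF M e w := Iff.rfl
  set D : (Fin n → F) → (Fin n → F) := fun w => g ^ q • act a w with hD
  have hDperp : ∀ w, hermForm n F q w f = 0 → hermForm n F q (D w) f = 0 := fun w hw => by
    have h := herm_act a w f
    rw [haf, herm_smul_right, hw] at h
    have h0 : ((g ^ q)⁻¹) ^ q ≠ 0 := pow_ne_zero _ (inv_ne_zero (pow_ne_zero _ hg))
    show hermForm n F q (g ^ q • act a w) f = 0
    rw [herm_smul_left, (mul_eq_zero.1 h).resolve_left h0, mul_zero]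
  have hbperp : ∀ w, hermForm n F q w e = 0 → hermForm n F q (act b w) f = 0 := fun w hw => by
    have h := herm_act b w e
    rw [hbe, herm_smul_right, hw] at h
    exact (mul_eq_zero.1 h).resolve_left (pow_ne_zero _ hl)
  have hbperp' : ∀ w, hermForm n F q w f = 0 → hermForm n F q (act b w) e = 0 := fun w hw => by
    have h := herm_act b w f
    rw [hbf, herm_smul_right, hw] at h
    exact (mul_eq_zero.1 h).resolve_left (pow_ne_zero _ hm)
  -- the first element of the unipotent group at `e`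
  have hw1 : w₀ - D w₀ ∈ L := by
    have hDe : hermForm n F q (D w₀) e = 0 := by
      have h := herm_act a w₀ e
      rw [hae, herm_smul_right, hw₀e] at h
      show hermForm n F q (g ^ q • act a w₀) e = 0
      rw [herm_smul_left, (mul_eq_zero.1 h).resolve_left (pow_ne_zero _ hg), mul_zero]
    have hw1e : hermForm n F q (w₀ - D w₀) e = 0 := by rw [herm_sub_left, hw₀e, hDe, sub_zero]
    have hμ₂ : μ₀ * g ^ (q + 1) + (μ₀ * g ^ (q + 1)) ^ q + hermForm n F q (D w₀) (D w₀) = 0 := by
      show _ + _ + hermForm n F q (g ^ q • act a w₀) (g ^ q • act a w₀) = 0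
      rw [mul_pow, norm_fix hF, herm_smul_left, herm_smul_right, herm_act, pow_q_q hF, pow_succ]
      linear_combination (g ^ q * g) * hμ₀
    have e2 : a * u * a⁻¹ = eich hF e (D w₀) (μ₀ * g ^ (q + 1)) hee hDe hμ₂ := by
      refine su_ext fun x => ?_
      rw [hu, eich_conj hF, eich_act, eich_act, hae]
      simp only [hD, herm_smul_right, pow_q_q hF]
      rw [pow_succ]
      module
    set μ₃ := μ₀ - μ₀ * g ^ (q + 1) + hermForm n F q (D w₀) (w₀ - D w₀) with hμ₃def
    have hμ₃ : μ₃ + μ₃ ^ q + hermForm n F q (w₀ - D w₀) (w₀ - D w₀) = 0 := by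
      simp only [hμ₃def, add_pow_q hF, sub_pow_q hF, herm_sub_left, herm_sub_right hF,
        ← herm_conj hF]
      linear_combination hμ₀ - hμ₂
    have eX : u * (a * u * a⁻¹)⁻¹ = eich hF e (w₀ - D w₀) μ₃ hee hw1e hμ₃ := by
      rw [mul_inv_eq_iff_eq_mul, e2, eich_mul, hu]
      refine eich_congr hF _ _ _ _ _ (by abel) ?_
      rw [hμ₃def]; ring
    have hm1 : b * (u * (a * u * a⁻¹)⁻¹) * b⁻¹ ∈ M := by
      have e : b * (u * (a * u * a⁻¹)⁻¹) * b⁻¹ = b * u * a * (b * u)⁻¹ * (b * a * b⁻¹)⁻¹ := by group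
      rw [e, hrel, inv_inv]
      exact mul_mem (mul_mem (mul_mem hbu ha) (inv_mem hbu)) (pow_mem ha q)
    have hX : u⁻¹ * (u * (a * u * a⁻¹)⁻¹) * u ∈ M := by
      have := mul_mem (mul_mem (inv_mem hbu) hm1) hbu
      convert this using 1
      group
    have hcomm : ∃ c : F, act u⁻¹ (w₀ - D w₀) = (w₀ - D w₀) + c • e := by
      refine ⟨hermForm n F q (w₀ - D w₀) w₀, ?_⟩
      calc act u⁻¹ (w₀ - D w₀)
          = act u⁻¹ (act u ((w₀ - D w₀) + hermForm n F q (w₀ - D w₀) w₀ • e)) := by
            rw [act_add, act_smul, hu, eich_self, eich_act, hw1e]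
            congr 1
            module
        _ = _ := act_inv_act _ _
    obtain ⟨c, hc⟩ := hcomm
    have hue : act u⁻¹ e = e := by
      conv_lhs => rw [← eich_self hF e w₀ μ₀ hee hw₀e hμ₀, ← hu]
      exact act_inv_act _ _
    rw [eX, show u⁻¹ * eich hF e (w₀ - D w₀) μ₃ hee hw1e hμ₃ * u =
      u⁻¹ * eich hF e (w₀ - D w₀) μ₃ hee hw1e hμ₃ * u⁻¹⁻¹ by rw [inv_inv], eich_conj hF] at hX
    have hrt : Rt hF M (act u⁻¹ e) (act u⁻¹ (w₀ - D w₀)) := ⟨_, _, _, _, hX⟩
    rw [hue, hc] at hrt
    refine ⟨by rw [herm_sub_left, hw₀f, hDperp _ hw₀f, sub_zero], ?_⟩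
    have := rt_shift hrt (-c)
    rwa [neg_smul, add_neg_cancel_right] at this
  have hDL : ∀ w ∈ L, D w ∈ L := fun w hw => by
    refine ⟨hDperp w hw.1, ?_⟩
    have h := hw.2.conj ha
    rw [hae] at h
    exact h.scale hg
  have hXL : ∀ x ∈ M, act x e = e → act x f = f → ∀ w ∈ L, act x w ∈ L := by
    intro x hx hxe hxf w hw
    refine ⟨by rw [← hxf, herm_act, hw.1], ?_⟩
    simpa [hxe] using hw.2.conj hx
  -- transvections
  have hTe : Tfull hF M e := by
    obtain ⟨v, w, hv, hw, hne⟩ := hgen L hw1 hDL hXL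
    intro c he' hc
    obtain ⟨s, hs⟩ := exists_trace hF (a := (1 : F)) (one_pow q)
    have hne' := herm_skew_ne hF hne
    set t := -c * s ^ q / hermForm n F q v w with ht
    obtain ⟨_, _, hm'⟩ := Rt.comm hw.2 (hv t).2
    have hval : hermForm n F q w (t • v) - hermForm n F q (t • v) w = c := by
      rw [herm_conj hF (t • v) w, herm_smul_left, ht, div_mul_cancel₀ _ hne', mul_pow,
        pow_q_q hF, neg_pow_q hF]
      linear_combination (-s) * hc + c * hs
    exact tv_congr hF he' hc rfl hval ▸ hm'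
  set B := b * u with hB
  have hBe : act B e = l • f := by rw [hB, act_mul, hu, eich_self, hbe]
  have hTf : Tfull hF M f := by
    have h := (hTe.conj hbu).smul (a := l⁻¹) (inv_ne_zero hl)
    rwa [hBe, smul_smul, inv_mul_cancel₀ hl, one_smul] at h
  -- the element exchanging `e` and `f`
  obtain ⟨c, hc0, hc⟩ := exists_skew hF
  have hcq : c ^ q = -c := by linear_combination hc
  have hc' : -c⁻¹ + (-c⁻¹) ^ q = 0 := by rw [neg_pow_q hF, inv_pow, hcq, inv_neg]; ring
  set N := tv hF e c hee hc * tv hF f (-c⁻¹) hff hc' * tv hF e c hee hc with hN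
  have hNM : N ∈ M := mul_mem (mul_mem (hTe c hee hc) (hTf _ hff hc')) (hTe c hee hc)
  have hNe : act N e = (-c⁻¹) • f := by
    simp only [hN, act_mul, tv_act, herm_add_left, herm_smul_left, hee, hff, hef, hfe, mul_zero, zero_smul, add_zero,
      zero_add, mul_one]
    match_scalars <;> field_simp <;> ring
  have hNf : act N f = c • e := by
    simp only [hN, act_mul, tv_act, herm_add_left, herm_smul_left, hee, hff, hef, hfe, mul_zero, zero_smul, add_zero,
      zero_add, mul_one]
    match_scalars <;> field_simp <;> ring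
  have hNfix : ∀ w, hermForm n F q w e = 0 → hermForm n F q w f = 0 → act N w = w := by
    intro w h1 h2
    simp only [hN, act_mul, tv_act, h1, h2, mul_zero, zero_smul, add_zero]
  have hbL : ∃ κ : F, κ ≠ 0 ∧ ∀ w ∈ L, κ • act b w ∈ L := by
    refine ⟨c ^ q * l ^ q, mul_ne_zero (pow_ne_zero _ hc0) (pow_ne_zero _ hl), fun w hw => ?_⟩
    have hwe := hw.2.perp
    have h := hw.2.conj hbu
    rw [hBe] at h
    have h := h.scale hl
    have hBw : act B w = act b w + (-hermForm n F q w w₀ * l) • f := by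
      rw [hB, act_mul, hu, eich_act, hwe, zero_smul, add_zero, mul_zero, zero_sub, act_add,
        act_smul, hbe, smul_smul]
    rw [hBw, smul_add, smul_smul] at h
    have h2 := rt_shift h (-(l ^ q * (-hermForm n F q w w₀ * l)))
    rw [neg_smul, add_neg_cancel_right] at h2
    have h3 := h2.conj hNM
    rw [hNf, act_smul, hNfix _ (hbperp' w hw.1) (hbperp w hwe)] at h3
    have h4 := h3.scale hc0
    rw [smul_smul] at h4
    exact ⟨by rw [herm_smul_left, hbperp w hwe, mul_zero], h4⟩
  have hall := hspan L hw1 hDL hXL hbL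
  have hRe : ∀ w, hermForm n F q w e = 0 → Rt hF M e w := by
    intro w hw
    set β := hermForm n F q w f
    have h1 := (hall (w - β • e) (by rw [herm_sub_left, herm_smul_left, hw, hee]; ring)
      (by rw [herm_sub_left, herm_smul_left, hef]; ring)).2
    have h2 := rt_shift h1 β
    rwa [sub_add_cancel] at h2
  have hRf : ∀ w, hermForm n F q w f = 0 → Rt hF M f w := by
    intro w hw
    set β := hermForm n F q w e
    have hw' : hermForm n F q (w - β • f) f = 0 := by
      rw [herm_sub_left, herm_smul_left, hw, hff]; ring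
    have hw'' : hermForm n F q (w - β • f) e = 0 := by
      rw [herm_sub_left, herm_smul_left, hfe]; ring
    set d := ((-c⁻¹) ^ q)⁻¹ with hd
    have h0 := hall (d • (w - β • f)) (by rw [herm_smul_left, hw'', mul_zero])
      (by rw [herm_smul_left, hw', mul_zero])
    have h1 := h0.2.conj hNM
    rw [hNe, act_smul, hNfix _ hw'' hw'] at h1
    have h2 := h1.scale (neg_ne_zero.2 (inv_ne_zero hc0))
    rw [smul_smul, hd, mul_inv_cancel₀ (pow_ne_zero _ (neg_ne_zero.2 (inv_ne_zero hc0))),
      one_smul] at h2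
    have h3 := rt_shift h2 β
    rwa [sub_add_cancel] at h3
  exact top_of_pair hn h32 hee hff hef (full_of_rt hTe hRe) (full_of_rt hTf hRf)

end Cfsg.Agent.TwoGenUnitary
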