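import Mathlib
import Cfsg.Agent.Lib.TwoGenUnitary

/-!
The two generators of the special unitary groups, written in a frame made of one hyperbolic pair and two blocks of
orthonormal vectors.
-/

set_option autoImplicit false
set_option linter.unusedSectionVars false
set_option linter.unusedSimpArgs false

namespace Cfsg.Agent.TwoGenUnitaryFrame

open Cfsg.Agent.OrthUnitaryHerm Cfsg.Agent.OrthUnitaryTransvection Cfsg.Agent.OrthUnitaryIsotropic
open Cfsg.Agent.TwoGenEichler Cfsg.Agent.TwoGenUnitary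
open scoped Matrix

variable {F : Type*} [Field F] [Fintype F] {q n d k : ℕ}

/-- The index type: the pair, the first block, the second block. -/
abbrev Ix (d k : ℕ) := Fin 2 ⊕ (Fin d ⊕ Fin k)

/-- The pairing of the frame. -/
def pr : Ix d k → Ix d k := Sum.map (Equiv.swap 0 1) id

theorem pr_invol : Function.Involutive (pr (d := d) (k := k)) := by
  rintro (i | i)
  · simp [pr]
  · rfl

/-- The permutation of the monomial generator. -/
def perm : Equiv.Perm (Ix d k) :=
  Equiv.sumCongr (Equiv.swap 0 1) (Equiv.sumCongr (finRotate d) (finRotate k))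

theorem perm_pr (i : Ix d k) : perm (pr i) = pr (perm i) := by
  rcases i with i | i <;> simp [perm, pr]

theorem exists_frame (hF : Fintype.card F = q ^ 2) (hn : n = 2 + (d + k)) :
    ∃ w : Ix d k → Fin n → F, IsGram q pr w := by
  classical
  let η : Ix d k ≃ Fin n := Fintype.equivOfCardEq (by simp; omega)
  let E : Ix d k → Fin n → F := fun i => Pi.single (η i) 1
  have hE : ∀ i j, hermForm n F q (E i) (E j) = if i = j then 1 else 0 := fun i j => by
    simp only [E, herm_single_left]
    simp [Pi.single_apply, zero_pow_q hF]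
  obtain ⟨t, ht⟩ := exists_norm_eq hF (a := (-1 : F)) (by rw [neg_pow_q hF, one_pow])
  set e : Fin n → F := E (.inl 0) + t • E (.inl 1) with he
  have hee : hermForm n F q e e = 0 := by
    simp only [he, herm_add_left, herm_add_right hF, herm_smul_left, herm_smul_right, hE,
      reduceCtorEq, Sum.inl.injEq, if_true, if_false, Fin.reduceEq]
    linear_combination ht
  have hz : hermForm n F q (E (.inl 0)) e = 1 := by
    simp only [he, herm_add_right hF, herm_smul_right, hE, Sum.inl.injEq, if_true, if_false,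
      Fin.reduceEq]
    ring
  obtain ⟨c, hc⟩ := exists_iso_add hF hee (hz ▸ one_ne_zero)
  set f : Fin n → F := E (.inl 0) + c • e with hf
  have hfe : hermForm n F q f e = 1 := by
    rw [hf, herm_add_left, herm_smul_left, hz, hee]; ring
  have hef : hermForm n F q e f = 1 := by rw [herm_conj hF, hfe, one_pow]
  refine ⟨Sum.elim ![e, f] (fun j => E (.inr j)), ?_⟩
  have hperp : ∀ j, hermForm n F q e (E (.inr j)) = 0 ∧ hermForm n F q (E (.inr j)) e = 0 ∧
      hermForm n F q f (E (.inr j)) = 0 ∧ hermForm n F q (E (.inr j)) f = 0 := by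
    intro j
    have h1 : hermForm n F q e (E (.inr j)) = 0 := by
      simp [he, herm_add_left, herm_smul_left, hE]
    have h2 : hermForm n F q f (E (.inr j)) = 0 := by
      simp [hf, herm_add_left, herm_smul_left, hE, h1]
    exact ⟨h1, herm_skew_zero hF h1, h2, herm_skew_zero hF h2⟩
  rintro (i | i) (j | j)
  · fin_cases i <;> fin_cases j <;> simp [pr, hee, hc, hfe, hef]
  · fin_cases i <;> simp [pr, (hperp j).1, (hperp j).2.2.1]
  · fin_cases j <;> simp [pr, (hperp i).2.1, (hperp i).2.2.2]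
  · simp [pr, hE]

/-- A monomial unitary matrix in a frame. -/
theorem exists_mono (hF : Fintype.card F = q ^ 2) (hn : n = 2 + (d + k)) {w : Ix d k → Fin n → F}
    (hw : IsGram q pr w) (π : Equiv.Perm (Ix d k)) (hπ : ∀ i, π (pr i) = pr (π i))
    {c : Ix d k → F} (hc : ∀ i, c (pr i) * c i ^ q = 1) :
    ∃ M : Matrix (Fin n) (Fin n) F, IsU q M ∧ ∀ i, M *ᵥ w i = c i • w (π i) := by
  have h : IsGram q pr (fun i => w (π i)) := fun a b => by
    rw [hw]
    by_cases h : a = pr b
    · subst h; rw [if_pos (hπ b), if_pos rfl]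
    · rw [if_neg h, if_neg]
      rw [← hπ]
      exact fun e => h (π.injective e)
  exact exists_witt hF pr_invol hw (gram_smul h hc) (by simp; omega)

theorem su_ext_frame (hF : Fintype.card F = q ^ 2) (hn : n = 2 + (d + k))
    {w : Ix d k → Fin n → F} (hw : IsGram q pr w) {x y : SU n F q}
    (h : ∀ i, act x (w i) = act y (w i)) : x = y :=
  Subtype.ext (Subtype.ext (mat_ext hF pr_invol hw (by simp; omega) h))

/-- The monomial generator: some weights on the pair, given weights on the blocks. -/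
theorem exists_mono_su (hF : Fintype.card F = q ^ 2) (hn : n = 2 + (d + k))
    {w : Ix d k → Fin n → F} (hw : IsGram q pr w) (β : Fin d ⊕ Fin k → F)
    (hβ : ∀ j, β j ^ (q + 1) = 1) :
    ∃ (b : SU n F q) (l m : F), l ≠ 0 ∧ m ≠ 0 ∧ act b (w (.inl 0)) = l • w (.inl 1) ∧
      act b (w (.inl 1)) = m • w (.inl 0) ∧
      ∀ j, act b (w (.inr j)) = β j • w (perm (.inr j)) := by
  obtain ⟨B, hB, hBw⟩ := exists_mono hF hn hw perm perm_pr
    (c := Sum.elim (fun _ => (1 : F)) β) (by
      rintro (i | j)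
      · simp [pr]
      · simp [pr, ← pow_succ', hβ j])
  set δ := B.det with hδ
  have hδ1 : δ ^ (q + 1) = 1 := hB.det_pow hF
  have hδ0 : δ ≠ 0 := fun h => by simp [h] at hδ1
  obtain ⟨γ, hγ⟩ := IsCyclic.exists_generator (α := Fˣ)
  obtain ⟨j, hj⟩ := (IsOfFinOrder.mem_powers_iff_mem_zpowers (isOfFinOrder_of_finite γ)).2
    (hγ (Units.mk0 δ hδ0))
  have hord : orderOf γ = (q + 1) * (q - 1) := by
    rw [orderOf_eq_card_of_forall_mem_zpowers hγ, card_units_eq hF]
  have hdvd : (q - 1) ∣ j := by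
    have h1 : γ ^ (j * (q + 1)) = 1 := by
      have hj' : γ ^ j = Units.mk0 δ hδ0 := hj
      rw [pow_mul, hj']
      exact Units.ext (by simpa using hδ1)
    have h2 := orderOf_dvd_of_pow_eq_one h1
    rw [hord, mul_comm j] at h2
    exact Nat.dvd_of_mul_dvd_mul_left (by omega) h2
  obtain ⟨i, rfl⟩ := hdvd
  set μ : F := ((γ ^ i : Fˣ) : F) with hμ
  have hμ0 : μ ≠ 0 := Units.ne_zero _
  have hμq : μ ^ q = δ * μ := by
    have hj' : γ ^ ((q - 1) * i) = Units.mk0 δ hδ0 := hj
    have hδμ : δ = μ ^ (q - 1) := by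
      rw [show δ = ((Units.mk0 δ hδ0 : Fˣ) : F) from rfl, ← hj', hμ, ← Units.val_pow_eq_pow_val,
        ← pow_mul, mul_comm i]
    have hq := two_le_q hF
    rw [hδμ, ← pow_succ, Nat.sub_add_cancel (by omega)]
  set c : Ix d k → F := Sum.elim ![μ, (μ ^ q)⁻¹] (fun _ => 1) with hcdef
  obtain ⟨D, hD, hDw⟩ := exists_mono hF hn hw 1 (fun i => rfl) (c := c) (by
    rintro (i | j)
    · fin_cases i <;> simp [hcdef, pr, hμ0]
      · rw [pow_q_q hF, mul_inv_cancel₀ hμ0]
    · simp [hcdef, pr])
  have hdet : (B * D).det = 1 := by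
    rw [Matrix.det_mul, det_scale pr_invol hw (by simp; omega) hDw, Fintype.prod_sum_type,
      Fin.prod_univ_two, hcdef]
    simp [← hδ, hμq]
    field_simp
  refine ⟨mkSU (B * D) hdet (hB.mul hD), μ, (μ ^ q)⁻¹, hμ0, inv_ne_zero (pow_ne_zero _ hμ0),
    ?_, ?_, fun j => ?_⟩ <;>
  · show (B * D) *ᵥ _ = _
    rw [← Matrix.mulVec_mulVec, hDw, Matrix.mulVec_smul, Equiv.Perm.one_apply, hBw]
    simp [hcdef, perm]

/-- The torus generator. -/
theorem exists_diag_su (hF : Fintype.card F = q ^ 2) (hn : n = 2 + (d + k))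
    {w : Ix d k → Fin n → F} (hw : IsGram q pr w) {g ν : F} (hg : g ≠ 0) (hν : ν ^ (q + 1) = 1)
    (hgν : ν ^ d * g = g ^ q) :
    ∃ a : SU n F q, act a (w (.inl 0)) = g • w (.inl 0) ∧
      act a (w (.inl 1)) = (g ^ q)⁻¹ • w (.inl 1) ∧
      (∀ j, act a (w (.inr (.inl j))) = ν • w (.inr (.inl j))) ∧
      ∀ j, act a (w (.inr (.inr j))) = w (.inr (.inr j)) := by
  set c : Ix d k → F := Sum.elim ![g, (g ^ q)⁻¹] (Sum.elim (fun _ => ν) (fun _ => 1)) with hcdef
  obtain ⟨D, hD, hDw⟩ := exists_mono hF hn hw 1 (fun i => rfl) (c := c) (by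
    rintro (i | (j | j))
    · fin_cases i <;> simp [hcdef, pr, hg]
      · rw [pow_q_q hF, mul_inv_cancel₀ hg]
    · simp [hcdef, pr, ← pow_succ', hν]
    · simp [hcdef, pr])
  have hdet : D.det = 1 := by
    rw [det_scale pr_invol hw (by simp; omega) hDw, Fintype.prod_sum_type, Fin.prod_univ_two,
      Fintype.prod_sum_type, hcdef]
    simp
    have hν0 : ν ≠ 0 := fun h => by simp [h] at hν
    rw [← hgν]
    field_simp
  refine ⟨mkSU D hdet hD, ?_, ?_, fun j => ?_, fun j => ?_⟩ <;>
  · show D *ᵥ _ = _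
    rw [hDw]
    simp [hcdef]

theorem rel_of_frame (hF : Fintype.card F = q ^ 2) (hn : n = 2 + (d + k))
    {w : Ix d k → Fin n → F} (hw : IsGram q pr w) {a b : SU n F q} {g l m ν : F} (hg : g ≠ 0)
    (hν : ν ^ (q + 1) = 1) {β : Fin d ⊕ Fin k → F}
    (a0 : act a (w (.inl 0)) = g • w (.inl 0))
    (a1 : act a (w (.inl 1)) = (g ^ q)⁻¹ • w (.inl 1))
    (aa : ∀ j, act a (w (.inr (.inl j))) = ν • w (.inr (.inl j)))
    (ab : ∀ j, act a (w (.inr (.inr j))) = w (.inr (.inr j)))
    (b0 : act b (w (.inl 0)) = l • w (.inl 1)) (b1 : act b (w (.inl 1)) = m • w (.inl 0))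
    (bb : ∀ j, act b (w (.inr j)) = β j • w (perm (.inr j))) :
    b * a * b⁻¹ = (a ^ q)⁻¹ := by
  have key : ∀ (j : ℕ) (x : Fin n → F) (c : F), act a x = c • x → act (a ^ j) x = c ^ j • x := by
    intro j x c hx
    induction j with
    | zero => rw [pow_zero, pow_zero, act_one, one_smul]
    | succ j ih => rw [pow_succ, act_mul, hx, act_smul, ih, smul_smul, pow_succ']
  suffices h : a ^ q * b * a = b by
    refine eq_inv_of_mul_eq_one_right ?_
    rw [← mul_assoc, ← mul_assoc, h, mul_inv_cancel]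
  refine su_ext_frame hF hn hw ?_
  rintro (i | (j | j))
  · fin_cases i
    · simp only [act_mul, Fin.zero_eta, a0, act_smul, b0, key q _ _ a1, smul_smul, inv_pow,
        pow_q_q hF]
      congr 1
      field_simp
    · simp only [act_mul, Fin.mk_one, a1, act_smul, b1, key q _ _ a0, smul_smul]
      congr 1
      field_simp
  · have h := key q _ _ (aa (finRotate d j))
    simp only [act_mul, aa, act_smul, bb, perm, Equiv.sumCongr_apply, Sum.map_inr, Sum.map_inl, h,
      smul_smul]
    congr 1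
    rw [show ν * (β (Sum.inl j) * ν ^ q) = ν ^ (q + 1) * β (Sum.inl j) by ring, hν, one_mul]
  · have h := key q _ 1 (by rw [ab, one_smul] : act a (w (.inr (.inr (finRotate k j)))) = _)
    simp only [act_mul, ab, bb, perm, Equiv.sumCongr_apply, Sum.map_inr, act_smul, h, one_pow,
      one_smul]

theorem finRotate_induction {d : ℕ} {P : Fin (d + 1) → Prop} (h0 : P 0)
    (hs : ∀ i, P i → P (finRotate (d + 1) i)) : ∀ i, P i := by
  intro i
  induction i using Fin.induction with
  | zero => exact h0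
  | succ i ih => simpa [finRotate_succ_apply, Fin.coeSucc_eq_succ] using hs _ ih

theorem mem_of_frame (hF : Fintype.card F = q ^ 2) (hn : n = 2 + (d + k))
    {w : Ix d k → Fin n → F} (hw : IsGram q pr w) {L : AddSubgroup (Fin n → F)}
    (h : ∀ (j : Fin d ⊕ Fin k) (t : F), t • w (.inr j) ∈ L) (y : Fin n → F)
    (h0 : hermForm n F q y (w (.inl 0)) = 0) (h1 : hermForm n F q y (w (.inl 1)) = 0) : y ∈ L := by
  rw [gram_expand hF pr_invol hw (by simp; omega) y, Fintype.sum_sum_type, Fin.sum_univ_two]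
  simp only [pr, Sum.map_inl, Equiv.swap_apply_left, Equiv.swap_apply_right, h0, h1, zero_smul,
    zero_add]
  exact sum_mem fun j _ => h j _

end Cfsg.Agent.TwoGenUnitaryFrame
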