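import Mathlib
import Cfsg.Agent.Lib.TwoGenUnitaryFrame

/-!
The three cases for two generators of the special unitary groups: `q ≥ 3`; `q = 2` with three not dividing `n`;
`q = 2` with three dividing `n`.
-/

set_option autoImplicit false
set_option linter.unusedSectionVars false
set_option linter.unusedSimpArgs false

namespace Cfsg.Agent.TwoGenUnitaryCases

open Cfsg.Agent.OrthUnitaryHerm Cfsg.Agent.OrthUnitaryTransvection Cfsg.Agent.OrthUnitaryIsotropic
open Cfsg.Agent.TwoGenEichler Cfsg.Agent.TwoGenUnitary Cfsg.Agent.TwoGenUnitaryFrame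
open Cfsg.Agent.TwoGenUnitaryField

variable {F : Type*} [Field F] [Fintype F] {q n d k : ℕ}

/-- The preimage of an additive subgroup along `t ↦ (c * t) • v`. -/
def lineSub (L : AddSubgroup (Fin n → F)) (c : F) (v : Fin n → F) : AddSubgroup F where
  carrier := {t | (c * t) • v ∈ L}
  zero_mem' := by simp
  add_mem' := fun {x y} hx hy => by
    simp only [Set.mem_ofPred_eq, mul_add, add_smul] at hx hy ⊢
    exact add_mem hx hy
  neg_mem' := fun {x} hx => by
    simp only [Set.mem_ofPred_eq, mul_neg, neg_smul] at hx ⊢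
    exact neg_mem hx

theorem line_of_powers {L : AddSubgroup (Fin n → F)} {c ω : F} {v : Fin n → F} (hc : c ≠ 0)
    (hgen : ∀ A : AddSubgroup F, (∀ i, ω ^ i ∈ A) → A = ⊤) (h : ∀ i : ℕ, (c * ω ^ i) • v ∈ L)
    (t : F) : t • v ∈ L := by
  have ht : c⁻¹ * t ∈ lineSub L c v := (hgen (lineSub L c v) h) ▸ AddSubgroup.mem_top _
  change (c * (c⁻¹ * t)) • v ∈ L at ht
  rwa [← mul_assoc, mul_inv_cancel₀ hc, one_mul] at ht

theorem line_step {L : AddSubgroup (Fin n → F)} {b : SU n F q} {κ β : F} {v v' : Fin n → F}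
    (hκ : κ ≠ 0) (hb : ∀ w ∈ L, κ • act b w ∈ L) (hbv : act b v = β • v') (hβ : β ≠ 0)
    (h : ∀ t : F, t • v ∈ L) (t : F) : t • v' ∈ L := by
  have := hb _ (h ((κ * β)⁻¹ * t))
  rw [act_smul, hbv, smul_smul, smul_smul] at this
  convert this using 2
  field_simp

/-- `q ≥ 3`. -/
theorem two_gen_big (hF : Fintype.card F = q ^ 2) (hq : 3 ≤ q) (hn : 3 ≤ n) :
    ∃ a b : SU n F q, Subgroup.closure ({a, b} : Set (SU n F q)) = ⊤ := by
  classical
  obtain ⟨p, e, hp, hep, he0, hqp⟩ : ∃ (p e : ℕ), p.Prime ∧ CharP F p ∧ 0 < e ∧ q = p ^ e := by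
    obtain ⟨p, hcp⟩ := CharP.exists F
    obtain ⟨r, hpr, hr⟩ := @FiniteField.card F _ _ p hcp
    have h2 : q ∣ p ^ (r : ℕ) := by rw [← hr, hF]; exact dvd_pow_self q two_ne_zero
    obtain ⟨e, -, he⟩ := (Nat.dvd_prime_pow hpr).1 h2
    refine ⟨p, e, hpr, hcp, Nat.pos_of_ne_zero fun h => ?_, he⟩
    rw [he, h, pow_zero] at hq
    omega
  have : Fact p.Prime := ⟨hp⟩
  obtain ⟨k, hk⟩ : ∃ k, n = 2 + (1 + k) := ⟨n - 3, by omega⟩
  obtain ⟨w, hw⟩ := exists_frame (d := 1) (k := k) hF hk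
  obtain ⟨γ, hγ⟩ := IsCyclic.exists_generator (α := Fˣ)
  have hord : orderOf γ = (q + 1) * (q - 1) := by
    rw [orderOf_eq_card_of_forall_mem_zpowers hγ, card_units_eq hF]
  obtain ⟨q', rfl⟩ : ∃ q', q = q' + 1 := ⟨q - 1, by omega⟩
  simp only [Nat.add_sub_cancel] at hord
  set g : F := ((γ : Fˣ) : F) with hgdef
  have hg : g ≠ 0 := Units.ne_zero _
  set ν : F := g ^ q' with hνdef
  have hν : ν ^ (q' + 1 + 1) = 1 := by
    rw [hνdef, ← pow_mul, mul_comm, ← hord, hgdef, ← Units.val_pow_eq_pow_val, pow_orderOf_eq_one,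
      Units.val_one]
  obtain ⟨a, a0, a1, aa, ab⟩ := exists_diag_su hF hk hw hg hν (by rw [pow_one, hνdef, ← pow_succ])
  obtain ⟨b, l, m, hl, hm, b0, b1, bb⟩ := exists_mono_su hF hk hw (fun _ => 1) (fun _ => one_pow _)
  set ya := w (.inr (.inl 0)) with hya
  set yb : Fin n → F := if h : 0 < k then w (.inr (.inr ⟨0, h⟩)) else 0 with hyb
  have hee : hermForm n F (q' + 1) (w (.inl 0)) (w (.inl 0)) = 0 := by simpa [pr] using hw (.inl 0) (.inl 0)
  have hff : hermForm n F (q' + 1) (w (.inl 1)) (w (.inl 1)) = 0 := by simpa [pr] using hw (.inl 1) (.inl 1)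
  have hef : hermForm n F (q' + 1) (w (.inl 0)) (w (.inl 1)) = 1 := by simpa [pr] using hw (.inl 0) (.inl 1)
  have hperp : ∀ j i, hermForm n F (q' + 1) (w (.inr j)) (w (.inl i)) = 0 := fun j i => by
    simpa [pr] using hw (.inr j) (.inl i)
  have hybi : ∀ i, hermForm n F (q' + 1) yb (w (.inl i)) = 0 := fun i => by
    rw [hyb]; split_ifs <;> simp [hperp, herm_zero_left]
  have hyba : hermForm n F (q' + 1) yb ya = 0 := by
    rw [hyb]; split_ifs
    · simpa [pr, hya] using hw (.inr (.inr ⟨0, by omega⟩)) (.inr (.inl 0))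
    · exact herm_zero_left _
  have hayb : act a yb = yb := by
    rw [hyb]; split_ifs
    · exact ab _
    · rw [← zero_smul F (0 : Fin n → F), act_smul, zero_smul, zero_smul]
  set w₀ := ya + yb with hw₀
  have hw₀e : hermForm n F (q' + 1) w₀ (w (.inl 0)) = 0 := by
    rw [hw₀, herm_add_left, hya, hperp, hybi, add_zero]
  have hw₀f : hermForm n F (q' + 1) w₀ (w (.inl 1)) = 0 := by
    rw [hw₀, herm_add_left, hya, hperp, hybi, add_zero]
  obtain ⟨μ₀, hμ₀⟩ := exists_mu hF w₀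
  refine ⟨a, b * eich hF _ w₀ μ₀ hee hw₀e hμ₀, ?_⟩
  set ωb := g ^ (q' + 1) with hωb
  set ωa := ωb * ν with hωa
  have hωaγ : ωa = g ^ (2 * q' + 1) := by rw [hωa, hωb, hνdef, ← pow_add]; ring_nf
  have hgord : ∀ j : ℕ, g ^ j = 1 → (q' + 1 + 1) * q' ∣ j := fun j h => by
    rw [← hord]
    refine orderOf_dvd_of_pow_eq_one (Units.ext ?_)
    rw [Units.val_pow_eq_pow_val, Units.val_one]
    exact h
  have hgena : ∀ A : AddSubgroup F, (∀ i, ωa ^ i ∈ A) → A = ⊤ := fun A hA => by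
    refine addSubgroup_eq_top hF (by rw [hωaγ]; exact pow_ne_zero _ hg) (fun j hj hjq h1 => ?_) hA
    rw [hωaγ, ← pow_mul] at h1
    obtain ⟨r, hr⟩ := hgord _ h1
    have hr1 : r = 1 := by
      have h0 : 0 < (2 * q' + 1) * j := by positivity
      have h2 : (2 * q' + 1) * j ≤ (2 * q' + 1) * q' := Nat.mul_le_mul_left _ (by omega)
      rcases r with _ | _ | r
      · rw [mul_zero] at hr; omega
      · rfl
      · exfalso
        have : (q' + 1 + 1) * q' * 2 ≤ (q' + 1 + 1) * q' * (r + 1 + 1) := Nat.mul_le_mul_left _ (by omega)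
        nlinarith
    subst hr1
    have : 4 * ((q' + 1 + 1) * q') + 3 = (2 * q' + 1) * (2 * q' + 3) := by ring
    have h3 : (2 * q' + 1) ∣ 3 := by
      have h4 : (2 * q' + 1) ∣ 4 * ((q' + 1 + 1) * q') + 3 := ⟨_, this⟩
      have h5 : (2 * q' + 1) ∣ 4 * ((q' + 1 + 1) * q') := ⟨4 * j, by rw [← mul_one ((q' + 1 + 1) * q'), ← hr]; ring⟩
      exact (Nat.dvd_add_right h5).1 h4
    have := Nat.le_of_dvd (by norm_num) h3
    omega
  have hgenb : ∀ x : F, x ≠ 0 → ∃ i : ℕ, ωb ^ i = x := by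
    intro x hx
    obtain ⟨j, hj⟩ := (IsOfFinOrder.mem_powers_iff_mem_zpowers (isOfFinOrder_of_finite γ)).2
      (hγ (Units.mk0 x hx))
    refine ⟨j * (q' + 1), ?_⟩
    have hj' : g ^ j = x := by simpa [hgdef] using congrArg Units.val hj
    rw [hωb, ← pow_mul, show (q' + 1) * (j * (q' + 1)) = j * (q' + 1) * (q' + 1) by ring, pow_mul,
      pow_mul, hj', pow_q_q hF]
  have hconj : ∀ r : ℕ, ωa ≠ ωb ^ p ^ r := by
    intro r heq
    rw [hωaγ, hωb, ← pow_mul, hqp, ← pow_add] at heq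
    -- reduce the exponent modulo `2 e`
    have hper : ∀ (t : ℕ) (x : F), x ^ p ^ (t + 2 * e) = x ^ p ^ t := fun t x => by
      rw [pow_add, pow_mul, show p ^ (2 * e) = (p ^ e) ^ 2 by rw [← pow_mul, mul_comm], ← hqp, ← hF,
        FiniteField.pow_card]
    obtain ⟨s, hs, hseq⟩ : ∃ s, s < 2 * e ∧ g ^ p ^ (e + r) = g ^ p ^ s := by
      refine ⟨(e + r) % (2 * e), Nat.mod_lt _ (by omega), ?_⟩
      conv_lhs => rw [← Nat.mod_add_div (e + r) (2 * e)]
      induction (e + r) / (2 * e) with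
      | zero => simp
      | succ i ih => rw [Nat.mul_succ, ← add_assoc, hper, ih]
    rw [hseq] at heq
    have hlt : ∀ j, j < (q' + 1) ^ 2 - 1 → j ∈ Set.Iio (orderOf γ) := fun j hj => by
      simp only [Set.mem_Iio, hord]
      have : (q' + 1) ^ 2 - 1 = (q' + 1 + 1) * q' := by
        rw [show (q' + 1) ^ 2 = (q' + 1 + 1) * q' + 1 by ring, Nat.add_sub_cancel]
      omega
    have hps : p ^ s < (q' + 1) ^ 2 - 1 := by
      have h1 : p ^ s * p ≤ (q' + 1) ^ 2 := by
        rw [hqp, ← pow_succ, ← pow_mul]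
        exact Nat.pow_le_pow_right hp.pos (by omega)
      have h2 : p ^ s * 2 ≤ p ^ s * p := Nat.mul_le_mul_left _ hp.two_le
      have h3 : 3 * 3 ≤ (q' + 1) ^ 2 := by rw [sq]; exact Nat.mul_le_mul hq hq
      omega
    have h2q : 2 * q' + 1 < (q' + 1) ^ 2 - 1 := by
      have h3 : 3 * (q' + 1) ≤ (q' + 1) ^ 2 := by rw [sq]; exact Nat.mul_le_mul_right _ hq
      omega
    have := pow_injOn_Iio_orderOf (hlt _ h2q) (hlt _ hps) (Units.ext (by simpa [hgdef] using heq))
    rcases s with _ | s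
    · rw [pow_zero] at this; omega
    · have h1 : p ∣ 2 * q' + 1 := this ▸ dvd_pow_self p (Nat.succ_ne_zero s)
      have h2 : p ∣ q' + 1 := hqp ▸ dvd_pow_self p he0.ne'
      have h3 : p ∣ 1 := by
        have := Nat.dvd_sub (h2.mul_left 2) h1
        rwa [show 2 * (q' + 1) - (2 * q' + 1) = 1 by omega] at this
      exact hp.not_dvd_one h3
  -- the additive closure of the orbit contains both components
  have hsep : ∀ L : AddSubgroup (Fin n → F), w₀ - g ^ (q' + 1) • act a w₀ ∈ L →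
      (∀ x ∈ L, g ^ (q' + 1) • act a x ∈ L) →
      (∀ t : F, t • ya ∈ L) ∧ ∀ t : F, t • yb ∈ L := by
    intro L h1 hD
    set ca : F := 1 - ωa with hca
    set cb : F := 1 - ωb with hcb
    let A : AddSubgroup (F × F) :=
      { carrier := {z | (ca * z.1) • ya + (cb * z.2) • yb ∈ L}
        zero_mem' := by simp
        add_mem' := fun {x y} hx hy => by
          simp only [Set.mem_ofPred_eq, Prod.fst_add, Prod.snd_add, mul_add, add_smul] at hx hy ⊢
          convert add_mem hx hy using 1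
          abel
        neg_mem' := fun {x} hx => by
          simp only [Set.mem_ofPred_eq, Prod.fst_neg, Prod.snd_neg, mul_neg, neg_smul] at hx ⊢
          rw [← neg_add]
          exact neg_mem hx }
    have hA : A = ⊤ := prod_eq_top (p := p) hgenb hgena hconj (by
      show (ca * 1) • ya + (cb * 1) • yb ∈ L
      convert h1 using 1
      rw [hw₀, act_add, hayb, hya, aa, ← hya, hca, hcb, hωa, hωb]
      module) (by
      intro z hz
      show (ca * (ωa * z.1)) • ya + (cb * (ωb * z.2)) • yb ∈ L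
      have := hD _ hz
      convert this using 1
      rw [act_add, act_smul, act_smul, hayb, hya, aa, ← hya, hωa, hωb]
      module)
    have hca0 : ca ≠ 0 := by
      intro h
      have h1 : ωa = 1 := (sub_eq_zero.1 h).symm
      have := hgord _ (hωaγ ▸ h1)
      have h2 := Nat.le_of_dvd (by omega) this
      have : 4 * q' ≤ (q' + 1 + 1) * q' := Nat.mul_le_mul_right _ (by omega)
      omega
    have hcb0 : cb ≠ 0 := by
      intro h
      have := hgord _ (show g ^ (q' + 1) = 1 from (sub_eq_zero.1 h).symm)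
      have h2 := Nat.le_of_dvd (by omega) this
      have : 4 * q' ≤ (q' + 1 + 1) * q' := Nat.mul_le_mul_right _ (by omega)
      omega
    constructor
    · intro t
      have : (ca⁻¹ * t, (0 : F)) ∈ A := hA ▸ AddSubgroup.mem_top _
      change (ca * (ca⁻¹ * t)) • ya + (cb * (0 : F)) • yb ∈ L at this
      simpa [← mul_assoc, hca0] using this
    · intro t
      have : ((0 : F), cb⁻¹ * t) ∈ A := hA ▸ AddSubgroup.mem_top _
      change (ca * (0 : F)) • ya + (cb * (cb⁻¹ * t)) • yb ∈ L at this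
      simpa [← mul_assoc, hcb0] using this
  refine top_of_data hn (by omega) hee hff hef (g := g) (l := l) (m := m) a0 a1 hg b0 hl b1 hm
    (rel_of_frame hF hk hw hg hν a0 a1 aa ab b0 b1 bb) hw₀e hw₀f hμ₀
    (Subgroup.subset_closure (Set.mem_insert _ _))
    (Subgroup.subset_closure (Set.mem_insert_of_mem _ rfl)) ?_ ?_
  · intro L h1 hD _
    obtain ⟨ha, hb⟩ := hsep L h1 hD
    refine ⟨ya, ya + yb, ha, ?_, ?_⟩
    · simpa using add_mem (ha 1) (hb 1)
    · rw [herm_add_left, hyba, add_zero, hya, hw]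
      simp [pr]
  · intro L h1 hD _ hκ y hy0 hy1
    obtain ⟨ha, hb⟩ := hsep L h1 hD
    obtain ⟨κ, hκ0, hκb⟩ := hκ
    refine mem_of_frame hF hk hw (fun j t => ?_) y hy0 hy1
    rcases j with j | j
    · rw [Subsingleton.elim j 0]; exact ha t
    · obtain ⟨k, rfl⟩ : ∃ k', k = k' + 1 := ⟨k - 1, by have := j.isLt; omega⟩
      revert t
      induction j using finRotate_induction with
      | h0 => simpa [hyb] using hb
      | hs i ih => exact line_step hκ0 hκb (by simpa [perm] using bb (.inr i)) one_ne_zero ih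

/-- The additive generation by the powers of a cube root of unity in the field of four elements. -/
theorem four_gen (hF : Fintype.card F = 2 ^ 2) {ω : F} (h0 : ω ≠ 0) (h1 : ω ≠ 1)
    {A : AddSubgroup F} (hA : ∀ i, ω ^ i ∈ A) : A = ⊤ :=
  addSubgroup_eq_top hF h0 (fun k hk hk' h => h1 (by
    obtain rfl : k = 1 := by omega
    simpa using h)) hA

theorem exists_cube (hF : Fintype.card F = 2 ^ 2) :
    ∃ γ : F, γ ^ 3 = 1 ∧ γ ≠ 0 ∧ γ ≠ 1 ∧ γ ^ 2 ≠ 1 := by
  obtain ⟨γ, hγ⟩ := IsCyclic.exists_generator (α := Fˣ)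
  have hord : orderOf γ = 3 := by
    rw [orderOf_eq_card_of_forall_mem_zpowers hγ, card_units_eq (q := 2) hF]
  have h : ∀ j, 0 < j → j < 3 → (γ : F) ^ j ≠ 1 := fun j hj hj' h =>
    pow_ne_one_of_lt_orderOf hj.ne' (hord ▸ hj') (Units.ext (by simpa using h))
  refine ⟨γ, ?_, Units.ne_zero _, by simpa using h 1 one_pos (by norm_num), h 2 two_pos (by norm_num)⟩
  rw [← Units.val_pow_eq_pow_val, ← hord, pow_orderOf_eq_one, Units.val_one]

theorem pow_three_mod {γ : F} (h : γ ^ 3 = 1) (j : ℕ) : γ ^ j = γ ^ (j % 3) := by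
  conv_lhs => rw [← Nat.mod_add_div j 3, pow_add, pow_mul, h, one_pow, mul_one]

/-- `q = 2`, three not dividing `n`. -/
theorem two_gen_coprime (hF : Fintype.card F = 2 ^ 2) (hn : 4 ≤ n) (h3 : ¬ 3 ∣ n) :
    ∃ a b : SU n F 2, Subgroup.closure ({a, b} : Set (SU n F 2)) = ⊤ := by
  classical
  obtain ⟨d, hd⟩ : ∃ d, n = 2 + (d + 1 + 0) := ⟨n - 3, by omega⟩
  obtain ⟨w, hw⟩ := exists_frame (d := d + 1) (k := 0) hF hd
  obtain ⟨γ, hγ3, hγ0, hγ1, hγ2⟩ := exists_cube hF
  set g : F := γ ^ (d + 1) with hgdef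
  have hg : g ≠ 0 := pow_ne_zero _ hγ0
  obtain ⟨a, a0, a1, aa, ab⟩ := exists_diag_su hF hd hw hg hγ3 (by rw [← hgdef, sq])
  obtain ⟨b, l, m, hl, hm, b0, b1, bb⟩ := exists_mono_su hF hd hw (fun _ => 1) (fun _ => one_pow _)
  set ya := w (.inr (.inl 0)) with hya
  have hee : hermForm n F 2 (w (.inl 0)) (w (.inl 0)) = 0 := by simpa [pr] using hw (.inl 0) (.inl 0)
  have hff : hermForm n F 2 (w (.inl 1)) (w (.inl 1)) = 0 := by simpa [pr] using hw (.inl 1) (.inl 1)
  have hef : hermForm n F 2 (w (.inl 0)) (w (.inl 1)) = 1 := by simpa [pr] using hw (.inl 0) (.inl 1)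
  have hperp : ∀ i, hermForm n F 2 ya (w (.inl i)) = 0 := fun i => by
    simpa [pr, hya] using hw (.inr (.inl 0)) (.inl i)
  obtain ⟨μ₀, hμ₀⟩ := exists_mu hF ya
  refine ⟨a, b * eich hF _ ya μ₀ hee (hperp 0) hμ₀, ?_⟩
  set ω := g ^ 2 * γ with hω
  have hω1 : ω ≠ 1 := by
    rw [hω, hgdef, ← pow_mul, ← pow_succ, pow_three_mod hγ3]
    have : ((d + 1) * 2 + 1) % 3 ≠ 0 := by omega
    rcases (show ((d + 1) * 2 + 1) % 3 = 1 ∨ ((d + 1) * 2 + 1) % 3 = 2 by omega) with e | e <;>
      rw [e]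
    · rwa [pow_one]
    · exact hγ2
  have hsep : ∀ L : AddSubgroup (Fin n → F), ya - g ^ 2 • act a ya ∈ L →
      (∀ x ∈ L, g ^ 2 • act a x ∈ L) → ∀ t : F, t • ya ∈ L := by
    intro L h1 hD
    refine line_of_powers (c := 1 - ω) (sub_ne_zero.2 (Ne.symm hω1))
      (fun A hA => four_gen hF (mul_ne_zero (pow_ne_zero _ hg) hγ0) hω1 hA) fun i => ?_
    induction i with
    | zero =>
      convert h1 using 1
      rw [hya, aa, pow_zero, hω]
      module
    | succ i ih =>
      convert hD _ ih using 1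
      rw [act_smul, hya, aa, pow_succ, hω]
      module
  refine top_of_data (by omega) (by omega) hee hff hef (g := g) (l := l) (m := m) a0 a1 hg b0 hl b1
    hm (rel_of_frame hF hd hw hg hγ3 a0 a1 aa ab b0 b1 bb) (hperp 0) (hperp 1) hμ₀
    (Subgroup.subset_closure (Set.mem_insert _ _))
    (Subgroup.subset_closure (Set.mem_insert_of_mem _ rfl)) ?_ ?_
  · intro L h1 hD _
    exact ⟨ya, ya, hsep L h1 hD, by simpa using hsep L h1 hD 1, by rw [hya, hw]; simp [pr]⟩
  · intro L h1 hD _ hκ y hy0 hy1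
    obtain ⟨κ, hκ0, hκb⟩ := hκ
    refine mem_of_frame hF hd hw (fun j t => ?_) y hy0 hy1
    rcases j with j | j
    · revert t
      induction j using finRotate_induction with
      | h0 => exact hsep L h1 hD
      | hs i ih => exact line_step hκ0 hκb (by simpa [perm] using bb (.inl i)) one_ne_zero ih
    · exact j.elim0

/-- `q = 2`, three dividing `n`. -/
theorem two_gen_triple (hF : Fintype.card F = 2 ^ 2) (hn : 6 ≤ n) (h3 : 3 ∣ n) :
    ∃ a b : SU n F 2, Subgroup.closure ({a, b} : Set (SU n F 2)) = ⊤ := by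
  classical
  have h2 : (2 : F) = 0 := by
    have h := Nat.cast_card_eq_zero F
    rw [hF] at h
    push_cast at h
    exact pow_eq_zero_iff two_ne_zero |>.1 (show (2 : F) ^ 2 = 0 by linear_combination h)
  obtain ⟨k, hk⟩ : ∃ k, n = 2 + (2 + (k + 1)) := ⟨n - 5, by omega⟩
  obtain ⟨w, hw⟩ := exists_frame (d := 2) (k := k + 1) hF hk
  obtain ⟨γ, hγ3, hγ0, hγ1, hγ2⟩ := exists_cube hF
  obtain ⟨g, hgdef⟩ : ∃ g : F, g = γ ^ 2 := ⟨_, rfl⟩
  have hg : g ≠ 0 := hgdef ▸ pow_ne_zero _ hγ0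
  obtain ⟨h, a0, a1, aa, ab⟩ := exists_diag_su hF hk hw hg hγ3 (by rw [← hgdef, sq])
  set β : Fin 2 ⊕ Fin (k + 1) → F :=
    Sum.elim ![1, γ] (fun _ => 1) with hβdef
  have hβ : ∀ j, β j ^ (2 + 1) = 1 := by
    rintro (j | j)
    · fin_cases j <;> simp [hβdef, hγ3]
    · simp [hβdef]
  obtain ⟨b, l, m, hl, hm, b0, b1, bb⟩ := exists_mono_su hF hk hw β hβ
  set y0 := w (.inr (.inl 0)) with hy0def
  set y1 := w (.inr (.inl 1)) with hy1def
  set yb := w (.inr (.inr 0)) with hybdef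
  have hgram : ∀ i j, hermForm n F 2 (w i) (w j) = if i = pr j then 1 else 0 := hw
  set v := y0 + y1 with hv
  have hvv : hermForm n F 2 v v = 0 := by
    simp only [hv, hy0def, hy1def, herm_add_left, herm_add_right hF, hgram, pr, Sum.map_inr,
      id_eq, Sum.inr.injEq, Sum.inl.injEq, Fin.reduceEq, if_true, if_false, add_zero, zero_add]
    linear_combination h2
  have h1c : (1 : F) + 1 ^ 2 = 0 := by linear_combination h2
  set x := tv hF v 1 hvv h1c with hx
  have hhv : act h v = γ • v := by rw [hv, act_add, hy0def, hy1def, aa, aa, smul_add]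
  have hcomm : Commute h x := by
    have e := tv_conj hF h hvv h1c
    have hc' : (1 : F) * γ ^ (2 + 1) + ((1 : F) * γ ^ (2 + 1)) ^ 2 = 0 := by
      rw [hγ3, one_mul]; exact h1c
    rw [tv_congr hF (v' := γ • v) (c' := (1 : F))
      (by rw [herm_smul_left, herm_smul_right, hvv]; ring) h1c hhv rfl,
      tv_scale hF _ h1c hvv hc'] at e
    have e1 : tv hF v ((1 : F) * γ ^ (2 + 1)) hvv hc' = x :=
      tv_congr hF hvv h1c rfl (by rw [hγ3, one_mul])
    rw [e1] at e
    exact mul_inv_eq_iff_eq_mul.1 e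
  have hkey : ∀ (y : Fin n → F) (c : F), act h y = c • y → ∀ j : ℕ, act (h ^ j) y = c ^ j • y := by
    intro y c hy j
    induction j with
    | zero => rw [pow_zero, pow_zero, act_one, one_smul]
    | succ j ih => rw [pow_succ, act_mul, hy, act_smul, ih, smul_smul, pow_succ']
  have hh3 : h ^ 3 = 1 := by
    refine su_ext_frame hF hk hw ?_
    have hg3 : g ^ 3 = 1 := by rw [hgdef, ← pow_mul, mul_comm, pow_mul, hγ3, one_pow]
    rintro (i | (j | j)) <;> rw [act_one]
    · fin_cases i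
      · simp [hkey _ _ a0 3, hg3]
      · have h6 : ((g ^ 2)⁻¹) ^ 3 = 1 := by
          rw [inv_pow, ← pow_mul, mul_comm, pow_mul, hg3, one_pow, inv_one]
        simpa [h6] using hkey _ _ a1 3
    · simp [hkey _ _ (aa j) 3, hγ3]
    · simpa using hkey _ 1 (by rw [ab, one_smul]) 3
  have hx2 : x ^ 2 = 1 := by
    refine su_ext fun y => ?_
    rw [sq, act_mul, hx, tv_act, tv_act, act_one, herm_add_left, herm_smul_left, hvv]
    simp only [one_mul, mul_zero, add_zero]
    rw [add_assoc, ← two_smul F (hermForm n F 2 y v • v), h2, zero_smul, add_zero]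
  set w₀ := y0 + yb with hw₀
  have hee : hermForm n F 2 (w (.inl 0)) (w (.inl 0)) = 0 := by simpa [pr] using hw (.inl 0) (.inl 0)
  have hff : hermForm n F 2 (w (.inl 1)) (w (.inl 1)) = 0 := by simpa [pr] using hw (.inl 1) (.inl 1)
  have hef : hermForm n F 2 (w (.inl 0)) (w (.inl 1)) = 1 := by simpa [pr] using hw (.inl 0) (.inl 1)
  have hperp : ∀ i, hermForm n F 2 w₀ (w (.inl i)) = 0 := fun i => by
    simp [hw₀, hy0def, hybdef, herm_add_left, hgram, pr]
  obtain ⟨μ₀, hμ₀⟩ := exists_mu hF w₀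
  refine ⟨h * x, b * eich hF _ w₀ μ₀ hee (hperp 0) hμ₀, ?_⟩
  set M := Subgroup.closure ({h * x, b * eich hF _ w₀ μ₀ hee (hperp 0) hμ₀} : Set (SU n F 2))
  obtain ⟨hhM, hxM⟩ := TwoGenBasic.split_mem (M := M) Nat.prime_two hcomm (fun hd => by
    have := hd.trans (orderOf_dvd_of_pow_eq_one hh3)
    norm_num at this) hx2 (Subgroup.subset_closure (Set.mem_insert _ _))
  have hωa : g ^ 2 * γ = γ ^ 2 := by
    rw [hgdef, ← pow_mul, ← pow_succ, pow_three_mod hγ3]
  have hωb : g ^ 2 = γ := by rw [hgdef, ← pow_mul, pow_three_mod hγ3]; simp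
  have hve : ∀ i, hermForm n F 2 v (w (.inl i)) = 0 := fun i => by
    simp [hv, hy0def, hy1def, herm_add_left, hgram, pr]
  have hxf : ∀ i, act x (w (.inl i)) = w (.inl i) := fun i => by
    rw [hx, tv_act, herm_skew_zero hF (hve i)]; simp
  have hy0v : hermForm n F 2 y0 v = 1 := by
    simp [hv, hy0def, hy1def, herm_add_right hF, hgram, pr]
  have hybv : hermForm n F 2 yb v = 0 := by
    simp [hv, hybdef, hy0def, hy1def, herm_add_right hF, hgram, pr]
  have hsep : ∀ L : AddSubgroup (Fin n → F), w₀ - g ^ 2 • act h w₀ ∈ L →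
      (∀ z ∈ L, g ^ 2 • act h z ∈ L) → (∀ z ∈ L, act x z ∈ L) →
      (∀ t : F, t • v ∈ L) ∧
        ∀ i : ℕ, ((1 - γ ^ 2) * (γ ^ 2) ^ i) • y0 + ((1 - γ) * γ ^ i) • yb ∈ L := by
    intro L h1 hD hX
    have horb : ∀ i : ℕ, ((1 - γ ^ 2) * (γ ^ 2) ^ i) • y0 + ((1 - γ) * γ ^ i) • yb ∈ L := by
      intro i
      induction i with
      | zero =>
        convert h1 using 1
        rw [hw₀, act_add, hy0def, hybdef, aa, ab, smul_add, smul_smul, hωa, hωb, pow_zero, pow_zero]
        module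
      | succ i ih =>
        convert hD _ ih using 1
        rw [act_add, act_smul, act_smul, hy0def, hybdef, aa, ab, smul_add, smul_smul, smul_smul,
          smul_smul, pow_succ, pow_succ]
        congr 2
        · linear_combination ((1 - γ ^ 2) * (γ ^ 2) ^ i) * hωa.symm
        · linear_combination ((1 - γ) * γ ^ i) * hωb.symm
    refine ⟨line_of_powers (c := 1 - γ ^ 2) (sub_ne_zero.2 (Ne.symm hγ2))
      (fun A hA => four_gen hF (pow_ne_zero _ hγ0) hγ2 hA) fun i => ?_, horb⟩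
    have := sub_mem (hX _ (horb i)) (horb i)
    convert this using 1
    rw [hx, tv_act, herm_add_left, herm_smul_left, herm_smul_left, hy0v, hybv]
    module
  refine top_of_data (by omega) (by omega) hee hff hef (g := g) (l := l) (m := m) a0 a1 hg b0 hl b1
    hm (rel_of_frame hF hk hw hg hγ3 a0 a1 aa ab b0 b1 bb) (hperp 0) (hperp 1) hμ₀ hhM
    (Subgroup.subset_closure (Set.mem_insert_of_mem _ rfl)) ?_ ?_
  · intro L h1 hD hX
    obtain ⟨hvL, horb⟩ := hsep L h1 hD fun z hz => hX x hxM (hxf 0) (hxf 1) z hz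
    refine ⟨v, _, hvL, horb 0, ?_⟩
    rw [herm_add_left, herm_smul_left, herm_smul_left, hy0v, hybv]
    simpa using sub_ne_zero.2 (Ne.symm hγ2)
  · intro L h1 hD hX hκ y hy0 hy1
    obtain ⟨hvL, horb⟩ := hsep L h1 hD fun z hz => hX x hxM (hxf 0) (hxf 1) z hz
    obtain ⟨κ, hκ0, hκb⟩ := hκ
    have hbv : act b v = (1 : F) • (y1 + γ • y0) := by
      rw [hv, act_add, hy0def, hy1def, bb, bb]
      simp [hβdef, perm]
    have hL0 : ∀ t : F, t • y0 ∈ L := by
      intro t
      have h1' := line_step hκ0 hκb hbv one_ne_zero hvL (t / (γ - 1))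
      have := sub_mem h1' (hvL (t / (γ - 1)))
      convert this using 1
      have : γ - 1 ≠ 0 := sub_ne_zero.2 hγ1
      rw [hv]
      match_scalars <;> field_simp <;> ring
    have hL1 : ∀ t : F, t • y1 ∈ L := fun t => by
      have := sub_mem (hvL t) (hL0 t)
      rwa [hv, smul_add, add_sub_cancel_left] at this
    have hLb : ∀ t : F, t • yb ∈ L := by
      refine line_of_powers (c := 1 - γ) (sub_ne_zero.2 (Ne.symm hγ1))
        (fun A hA => four_gen hF hγ0 hγ1 hA) fun i => ?_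
      have := sub_mem (horb i) (hL0 ((1 - γ ^ 2) * (γ ^ 2) ^ i))
      rwa [add_sub_cancel_left] at this
    refine mem_of_frame hF hk hw (fun j t => ?_) y hy0 hy1
    rcases j with j | j
    · fin_cases j
      · exact hL0 t
      · exact hL1 t
    · revert t
      induction j using finRotate_induction with
      | h0 => exact hLb
      | hs i ih =>
        exact line_step hκ0 hκb (by simpa [perm, hβdef] using bb (.inr i)) one_ne_zero ih

/-- Two generators of `SU_n(q)`. -/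
theorem two_gen (hF : Fintype.card F = q ^ 2) (hn : 3 ≤ n) (h32 : n = 3 → q ≠ 2) :
    ∃ a b : SU n F q, Subgroup.closure ({a, b} : Set (SU n F q)) = ⊤ := by
  have hq := two_le_q hF
  rcases hq.eq_or_lt with h | h
  · subst h
    have hn3 : n ≠ 3 := fun e => h32 e rfl
    by_cases h3 : 3 ∣ n
    · exact two_gen_triple hF (by omega) h3
    · exact two_gen_coprime hF (by omega) h3
  · exact two_gen_big hF h hn

end Cfsg.Agent.TwoGenUnitaryCases
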