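import Mathlib
import Cfsg.Prelude.Def_Perm
import Cfsg.Agent.Lib.TransitiveLinearMain75
import Cfsg.Agent.Lib.PermMinimalNormal

/-!
Two-homogeneous groups that are not two-transitive: odd order, and, once solvable, semilinear affine.
-/

set_option autoImplicit false
set_option linter.style.haveILetI false

namespace Cfsg.Agent.TwoHomogeneousOdd64

open MulAction
open scoped Pointwise IsMulCommutative

universe u

variable {α : Type u} [Fintype α] [DecidableEq α]

/-- Moving one pair to another. -/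
theorem exists_pair {G : Subgroup (Equiv.Perm α)}
    (h2 : IsPretransitive G (Set.powersetCard α 2)) {a b c d : α} (hab : a ≠ b) (hcd : c ≠ d) :
    ∃ g : G, (g • a = c ∧ g • b = d) ∨ (g • a = d ∧ g • b = c) := by
  let s : Set.powersetCard α 2 := ⟨{a, b}, Finset.card_pair hab⟩
  let t : Set.powersetCard α 2 := ⟨{c, d}, Finset.card_pair hcd⟩
  obtain ⟨g, hg⟩ := exists_smul_eq G s t
  have hg' : g • ({a, b} : Finset α) = {c, d} := by
    have := congrArg (fun x : Set.powersetCard α 2 => (x : Finset α)) hg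
    exact (Set.powersetCard.coe_smul (g := g) (s := s)).symm.trans this
  have ha : g • a ∈ ({c, d} : Finset α) := hg' ▸ Finset.smul_mem_smul_finset (Finset.mem_insert_self _ _)
  have hb : g • b ∈ ({c, d} : Finset α) :=
    hg' ▸ Finset.smul_mem_smul_finset (Finset.mem_insert_of_mem (Finset.mem_singleton_self _))
  have hne : g • a ≠ g • b := fun h => hab (MulAction.injective g h)
  simp only [Finset.mem_insert, Finset.mem_singleton] at ha hb
  rcases ha with ha | ha <;> rcases hb with hb | hb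
  · exact absurd (ha.trans hb.symm) hne
  · exact ⟨g, Or.inl ⟨ha, hb⟩⟩
  · exact ⟨g, Or.inr ⟨ha, hb⟩⟩
  · exact absurd (ha.trans hb.symm) hne

theorem odd_card {G : Subgroup (Equiv.Perm α)} (h2 : IsPretransitive G (Set.powersetCard α 2))
    (hn2 : ¬ IsMultiplyPretransitive G α 2) : Odd (Nat.card G) := by
  by_contra hodd
  haveI : Fact (Nat.Prime 2) := ⟨Nat.prime_two⟩
  obtain ⟨t, ht⟩ := exists_prime_orderOf_dvd_card' (G := G) 2 (even_iff_two_dvd.1 (Nat.not_odd_iff_even.1 hodd))
  have ht2 : t * t = 1 := by rw [← sq, ← ht, pow_orderOf_eq_one]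
  obtain ⟨a, ha⟩ : ∃ a : α, t • a ≠ a := by
    by_contra hc
    push Not at hc
    have : t = 1 := Subtype.ext (Equiv.Perm.ext fun x => hc x)
    rw [this, orderOf_one] at ht
    omega
  have hswap : t • (t • a) = a := by rw [smul_smul, ht2, one_smul]
  apply hn2
  rw [is_two_pretransitive_iff]
  have key : ∀ {c d : α}, c ≠ d → ∃ g : G, g • a = c ∧ g • (t • a) = d := by
    intro c d hcd
    obtain ⟨g, hg | hg⟩ := exists_pair h2 (Ne.symm ha) hcd
    · exact ⟨g, hg⟩
    · refine ⟨g * t, ?_, ?_⟩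
      · rw [mul_smul]; exact hg.2
      · rw [mul_smul, hswap]; exact hg.1
  intro c d x y hcd hxy
  obtain ⟨g, hg1, hg2⟩ := key hcd
  obtain ⟨k, hk1, hk2⟩ := key hxy
  refine ⟨k * g⁻¹, ?_, ?_⟩
  · rw [mul_smul, ← hg1, inv_smul_smul, hk1]
  · rw [mul_smul, ← hg2, inv_smul_smul, hk2]

/-- A non-trivial normal subgroup is transitive. -/
theorem normal_transitive {G : Subgroup (Equiv.Perm α)} (h2 : IsPretransitive G (Set.powersetCard α 2))
    (N : Subgroup G) [N.Normal] (hN : N ≠ ⊥) : ∀ x y : α, ∃ n ∈ N, n • x = y := by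
  obtain ⟨n₀, hn₀, hn₁⟩ := N.ne_bot_iff_exists_ne_one.1 hN |> fun ⟨n, hn⟩ => (⟨n, n.2, fun h => hn (Subtype.ext h)⟩ : ∃ n, n ∈ N ∧ n ≠ 1)
  obtain ⟨a, ha⟩ : ∃ a : α, n₀ • a ≠ a := by
    by_contra hc
    push Not at hc
    exact hn₁ (Subtype.ext (Equiv.Perm.ext fun x => hc x))
  have key : ∀ c : α, ∃ n ∈ N, n • a = c := by
    intro c
    by_cases hca : c = a
    · exact ⟨1, N.one_mem, by rw [one_smul, hca]⟩
    obtain ⟨g, hg⟩ := exists_pair h2 (Ne.symm ha) (Ne.symm hca)
    have hm : g * n₀ * g⁻¹ ∈ N := Subgroup.Normal.conj_mem ‹N.Normal› n₀ hn₀ g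
    rcases hg with ⟨hga, hgb⟩ | ⟨hga, hgb⟩
    · refine ⟨_, hm, ?_⟩
      calc (g * n₀ * g⁻¹) • a = g • n₀ • g⁻¹ • (g • a) := by rw [mul_smul, mul_smul, hga]
        _ = c := by rw [inv_smul_smul, hgb]
    · refine ⟨_, N.inv_mem hm, ?_⟩
      rw [inv_smul_eq_iff]
      symm
      calc (g * n₀ * g⁻¹) • c = g • n₀ • g⁻¹ • (g • a) := by rw [mul_smul, mul_smul, hga]
        _ = a := by rw [inv_smul_smul, hgb]
  intro x y
  obtain ⟨n, hn, rfl⟩ := key x
  obtain ⟨m, hm, rfl⟩ := key y
  exact ⟨m * n⁻¹, N.mul_mem hm (N.inv_mem hn), by rw [mul_smul, inv_smul_smul]⟩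

theorem degree_mod_four {n : ℕ} (h1 : Odd n) (h2 : Odd (n.choose 2)) : n % 4 = 3 := by
  have hodd : n % 2 = 1 := Nat.odd_iff.1 h1
  by_contra h
  obtain ⟨k, rfl⟩ : ∃ k, n = 4 * k + 1 := ⟨n / 4, by omega⟩
  rw [Nat.choose_two_right, Nat.add_sub_cancel, show (4 * k + 1) * (4 * k) = (k * (4 * k + 1) * 2) * 2 by ring,
    Nat.mul_div_cancel _ (by norm_num)] at h2
  exact absurd h2 (by simp [parity_simps])

/-- A solvable two-homogeneous group which is not two-transitive is semilinear affine of degree 3 mod 4. -/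
theorem semiaffine {G : Subgroup (Equiv.Perm α)} (hne : G ≠ ⊥)
    (h2 : IsPretransitive G (Set.powersetCard α 2)) (hodd : Odd (Nat.card G)) (hsol : Group.IsSolvable G) :
    ∃ (p f : ℕ) (_ : Fact p.Prime), p ≠ 2 ∧ Fintype.card α = p ^ f ∧ p ^ f % 4 = 3 ∧
      ∃ e : α ≃ GaloisField p f,
        (∀ g : G, e.symm.trans (((g : Equiv.Perm α)).trans e) ∈ Cfsg.semiaffineGroup (GaloisField p f)) ∧
        ∀ b : GaloisField p f, ∃ g : G, ∀ x : α, e ((g : Equiv.Perm α) x) = e x + b := by
  classical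
  haveI := hsol
  haveI : Nontrivial G := (Subgroup.nontrivial_iff_ne_bot G).2 hne
  -- an abelian minimal normal subgroup
  obtain ⟨A, hAn, hA1, hAab⟩ : ∃ A : Subgroup G, A.Normal ∧ A ≠ ⊥ ∧ IsMulCommutative A := by
    obtain ⟨m, hm⟩ := hsol.solvable
    have hex : ∃ m, derivedSeries G m = ⊥ := ⟨m, hm⟩
    have h0 : Nat.find hex ≠ 0 := by
      intro h0
      have := Nat.find_spec hex
      rw [h0, derivedSeries_zero] at this
      exact top_ne_bot this
    obtain ⟨k, hk⟩ := Nat.exists_eq_succ_of_ne_zero h0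
    refine ⟨derivedSeries G k, derivedSeries_normal G k, Nat.find_min hex (by omega), ?_⟩
    have hb : ⁅derivedSeries G k, derivedSeries G k⁆ = ⊥ := by
      rw [← derivedSeries_succ]
      have := Nat.find_spec hex
      rwa [hk] at this
    exact ⟨⟨fun x y => Subtype.ext (Subgroup.commutator_eq_bot_iff_le_centralizer.1 hb y.2 x x.2)⟩⟩
  obtain ⟨N, hNA, hNmin⟩ := PermMinimalNormal.exists_isMinNormal_le A hA1
  haveI := hNmin.1
  have hNab : IsMulCommutative N :=
    ⟨⟨fun x y => Subtype.ext (by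
      have h := congrArg Subtype.val (hAab.is_comm.comm (⟨x, hNA x.2⟩ : A) ⟨y, hNA y.2⟩)
      exact h)⟩⟩
  obtain ⟨p, hp, hpow⟩ := hNmin.exists_prime_pow_eq_one hNab
  haveI : Fact p.Prime := ⟨hp⟩
  obtain ⟨n₀, hn₀⟩ := N.ne_bot_iff_exists_ne_one.1 hNmin.2.1
  obtain ⟨a, -⟩ : ∃ a : α, (n₀ : G) • a ≠ a := by
    by_contra hc
    push Not at hc
    exact hn₀ (Subtype.ext (Subtype.ext (Equiv.Perm.ext fun x => hc x)))
  have htr := normal_transitive h2 N hNmin.2.1
  have hfree : ∀ n m : N, (n : G) • a = (m : G) • a → n = m := by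
    intro n m h
    refine Subtype.ext (Subtype.ext (Equiv.Perm.ext fun x => ?_))
    obtain ⟨k, hk, rfl⟩ := htr a x
    have hc : ∀ u : N, (u : G) * k = k * (u : G) := fun u =>
      congrArg Subtype.val (hNab.is_comm.comm u ⟨k, hk⟩)
    show (n : G) • k • a = (m : G) • k • a
    rw [smul_smul, smul_smul, hc n, hc m, mul_smul, mul_smul, h]
  haveI := hNab
  let ι : Additive N ≃ α := Equiv.ofBijective (fun v => ((Additive.toMul v : N) : G) • a)
    ⟨fun v w h => congrArg Additive.ofMul (hfree _ _ h),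
      fun x => by obtain ⟨k, hk, hkx⟩ := htr a x; exact ⟨Additive.ofMul ⟨k, hk⟩, hkx⟩⟩
  have hι : ∀ v, ι v = ((Additive.toMul v : N) : G) • a := fun v => rfl
  have hcard : Fintype.card α = Nat.card N := by
    rw [← Nat.card_eq_fintype_card, ← Nat.card_congr ι]; rfl
  have hNp : IsPGroup p N := fun x => ⟨1, by rw [pow_one]; exact Subtype.ext (hpow x x.2)⟩
  obtain ⟨f, hf⟩ := IsPGroup.iff_card.1 hNp
  have hp2 : p ≠ 2 := by
    intro hp2
    have hx : orderOf (n₀ : G) = p :=
      orderOf_eq_prime (hpow _ n₀.2) (fun h => hn₀ (Subtype.ext h))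
    have := (hp2 ▸ hx ▸ orderOf_dvd_natCard (n₀ : G) : 2 ∣ Nat.card G)
    exact absurd (even_iff_two_dvd.2 this) (Nat.not_even_iff_odd.2 hodd)
  have hchoose : Odd ((Fintype.card α).choose 2) := by
    rw [← Nat.card_eq_fintype_card, ← Set.powersetCard.card]
    have hnt : Nonempty (Set.powersetCard α 2) := by
      obtain ⟨n₁, hn₁⟩ : ∃ x : α, x ≠ a := by
        refine ⟨(n₀ : G) • a, fun h => hn₀ ?_⟩
        exact hfree n₀ 1 (by rw [h, Subgroup.coe_one, one_smul])
      exact ⟨⟨{n₁, a}, Finset.card_pair hn₁⟩⟩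
    obtain ⟨s⟩ := hnt
    refine Odd.of_dvd_nat hodd ?_
    rw [← index_stabilizer_of_transitive G s]
    exact Subgroup.index_dvd_card _
  have hmod : p ^ f % 4 = 3 := by
    rw [← hf, ← hcard]
    refine degree_mod_four ?_ hchoose
    rw [hcard, hf]
    exact (hp.odd_of_ne_two hp2).pow
  -- the linear group
  haveI : Module (ZMod p) (Additive N) := AddCommGroup.zmodModule (fun v => by
    apply Additive.toMul.injective
    rw [toMul_nsmul, toMul_zero]
    exact Subtype.ext (hpow _ (Additive.toMul v).2))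
  haveI : Nontrivial (Additive N) := ⟨⟨Additive.ofMul n₀, 0, fun h => hn₀ (congrArg Additive.toMul h)⟩⟩
  let G₀ : Subgroup G := stabilizer G a
  let c : G₀ → Additive N ≃+ Additive N := fun g => MulEquiv.toAdditive
    { toFun := fun n => ⟨(g : G) * n * (g : G)⁻¹, hNmin.1.conj_mem n n.2 g⟩
      invFun := fun n => ⟨(g : G)⁻¹ * n * g, by simpa using hNmin.1.conj_mem n n.2 (g : G)⁻¹⟩
      left_inv := fun n => Subtype.ext (by simp [mul_assoc])
      right_inv := fun n => Subtype.ext (by simp [mul_assoc])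
      map_mul' := fun n m => Subtype.ext (by simp [mul_assoc]) }
  have hc : ∀ (g : G₀) (v : Additive N),
      ((Additive.toMul (c g v) : N) : G) = (g : G) * (Additive.toMul v : N) * (g : G)⁻¹ := fun g v => rfl
  have hc1 : ∀ v, c 1 v = v := fun v => Additive.toMul.injective (Subtype.ext (by rw [hc]; simp))
  have hcm : ∀ g h v, c (g * h) v = c g (c h v) := fun g h v => Additive.toMul.injective
    (Subtype.ext (by rw [hc, hc, hc]; simp [mul_assoc]))
  let act : G₀ × ℤˣ → Additive N ≃+ Additive N := fun x => (c x.1).trans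
    { toFun := fun v => (x.2 : ℤ) • v
      invFun := fun v => (x.2 : ℤ) • v
      left_inv := fun v => by simp only [smul_smul, ← Units.val_mul, Int.units_mul_self, Units.val_one, one_smul]
      right_inv := fun v => by simp only [smul_smul, ← Units.val_mul, Int.units_mul_self, Units.val_one, one_smul]
      map_add' := fun v w => smul_add _ _ _ }
  have hact : ∀ (x : G₀ × ℤˣ) (v : Additive N), act x v = (x.2 : ℤ) • c x.1 v := fun x v => rfl
  let ρ : G₀ × ℤˣ →* (Additive N ≃ₗ[ZMod p] Additive N) :=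
    { toFun := fun x => (act x).toLinearEquiv (fun r v => ZMod.map_smul (act x).toAddMonoidHom r v)
      map_one' := LinearEquiv.ext fun v => by
        show act 1 v = v
        rw [hact, Prod.fst_one, Prod.snd_one, Units.val_one, one_smul, hc1]
      map_mul' := fun x y => LinearEquiv.ext fun v => by
        show act (x * y) v = act x (act y v)
        rw [hact, hact, hact, Prod.fst_mul, Prod.snd_mul, hcm, map_zsmul, smul_smul, ← Units.val_mul] }
  have hρ : ∀ (x : G₀ × ℤˣ) (v : Additive N), ρ x v = (x.2 : ℤ) • c x.1 v := hact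
  have hsm : ∀ (g : G₀) (v : Additive N), (g : G) • ι v = ι (c g v) := fun g v => by
    have hga : (g : G) • a = a := g.2
    rw [hι, hι, hc]
    conv_rhs => rw [mul_smul, mul_smul, inv_smul_eq_iff.2 hga.symm]
  have hinj : Function.Injective ρ := by
    rw [injective_iff_map_eq_one]
    rintro ⟨g, ε⟩ hg
    have hv : ∀ v, (ε : ℤ) • c g v = v := fun v => by rw [← hρ (g, ε), hg]; rfl
    rcases Int.units_eq_one_or ε with rfl | rfl
    · refine Prod.ext (Subtype.ext (Subtype.ext (Equiv.Perm.ext fun x => ?_))) rfl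
      obtain ⟨v, rfl⟩ := ι.surjective x
      show (g : G) • ι v = ι v
      rw [hsm]
      congr 1
      simpa using hv v
    · exfalso
      obtain ⟨k, hk⟩ := Odd.of_dvd_nat hodd ((Subgroup.card_subgroup_dvd_card G₀))
      have hneg : ∀ v, c g v = -v := fun v => by
        have := hv v
        rw [Units.val_neg, Units.val_one, neg_smul, one_smul, neg_eq_iff_eq_neg] at this
        exact this
      have hsq : ∀ (j : ℕ) v, c (g ^ (2 * j)) v = v := by
        intro j
        induction j with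
        | zero => intro v; rw [mul_zero, pow_zero, hc1]
        | succ j ih => intro v; rw [Nat.mul_succ, pow_add, hcm, ih, pow_two, hcm, hneg, hneg, neg_neg]
      have hcg : ∀ v, c g v = v := fun v => by
        have h := hsq (k + 1) v
        rwa [show 2 * (k + 1) = Nat.card G₀ + 1 by omega, pow_succ, pow_card_eq_one', one_mul] at h
      have h2v : ∀ v : Additive N, (2 : ℕ) • v = 0 := fun v => by
        rw [two_nsmul]; nth_rewrite 1 [← hcg v]; rw [hneg, neg_add_cancel]
      have h2n : (n₀ : G) ^ 2 = 1 := by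
        have := congrArg (fun w => ((Additive.toMul w : N) : G)) (h2v (Additive.ofMul n₀))
        simpa using this
      have hx : orderOf (n₀ : G) = p := orderOf_eq_prime (hpow _ n₀.2) (fun h => hn₀ (Subtype.ext h))
      exact hp2 ((Nat.prime_dvd_prime_iff_eq hp Nat.prime_two).1 (hx ▸ orderOf_dvd_of_pow_eq_one h2n))
  have htrans : ∀ v w : Additive N, v ≠ 0 → w ≠ 0 → ∃ x : G₀ × ℤˣ, ρ x v = w := by
    intro v w hv hw
    have h0 : ι 0 = a := by rw [hι, toMul_zero, Subgroup.coe_one, one_smul]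
    have hv' : a ≠ ι v := fun h => hv (ι.injective (h0.trans h).symm)
    have hw' : a ≠ ι w := fun h => hw (ι.injective (h0.trans h).symm)
    obtain ⟨g, ⟨hga, hgb⟩ | ⟨hga, hgb⟩⟩ := exists_pair h2 hv' hw'
    · refine ⟨(⟨g, hga⟩, 1), ?_⟩
      rw [hρ, Units.val_one, one_smul]
      apply ι.injective
      rw [← hsm]
      exact hgb
    · let h : G₀ := ⟨((Additive.toMul w : N) : G)⁻¹ * g, by
        rw [mem_stabilizer_iff, mul_smul, hga, hι, inv_smul_smul]⟩
      refine ⟨(h, -1), ?_⟩
      rw [hρ, Units.val_neg, Units.val_one, neg_smul, one_smul]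
      have : c h v = -w := by
        apply ι.injective
        rw [← hsm]
        show (((Additive.toMul w : N) : G)⁻¹ * g) • ι v = _
        rw [mul_smul, hgb, hι, toMul_neg, Subgroup.coe_inv]
      rw [this, neg_neg]
  have hsolH : Group.IsSolvable (G₀ × ℤˣ) := inferInstance
  obtain ⟨F, _, _, e, he⟩ | hexc := TransitiveLinearMain75.main ⟨hinj, htrans⟩ hsolH
  swap
  · exfalso
    have : Nat.card (Additive N) = p ^ f := hf
    rw [this] at hexc
    simp only [Set.mem_insert_iff, Set.mem_singleton_iff] at hexc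
    rcases hexc with h | h | h | h | h | h <;> rw [h] at hmod <;> omega
  have hf0 : f ≠ 0 := by
    rintro rfl
    rw [pow_zero] at hmod
    omega
  haveI : Fintype (GaloisField p f) := Fintype.ofFinite _
  have hFcard : Fintype.card F = Fintype.card (GaloisField p f) := by
    rw [← Nat.card_eq_fintype_card, ← Nat.card_eq_fintype_card, GaloisField.card p f hf0, ← hf,
      ← Nat.card_congr e.toEquiv]
    rfl
  let φ : F ≃+* GaloisField p f := FiniteField.ringEquivOfCardEq hFcard
  let E : α ≃ GaloisField p f := ι.symm.trans (e.toEquiv.trans φ.toEquiv)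
  have hE : ∀ v, E (ι v) = φ (e v) := fun v => by simp [E]
  refine ⟨p, f, ⟨hp⟩, hp2, hcard.trans hf, hmod, E, fun g => ?_, fun b => ?_⟩
  · obtain ⟨w, hw⟩ := ι.surjective (g • a)
    let h : G₀ := ⟨((Additive.toMul w : N) : G)⁻¹ * g, by
      rw [mem_stabilizer_iff, mul_smul, ← hw, hι, inv_smul_smul]⟩
    obtain ⟨a₀, σ, hσ⟩ := he (h, 1)
    have hσ' : ∀ v, e (c h v) = a₀ * σ (e v) := fun v => by
      rw [← hσ v, hρ, Units.val_one, one_smul]
    have ha0 : a₀ ≠ 0 := by
      intro h0
      obtain ⟨v, hv⟩ := exists_ne (0 : Additive N)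
      have h3 := hσ' v
      rw [h0, zero_mul, e.map_eq_zero_iff, (c h).map_eq_zero_iff] at h3
      exact hv h3
    refine ⟨Units.mk0 (φ a₀) (by simpa using ha0), φ (e w), φ.symm.trans (σ.trans φ), fun x => ?_⟩
    obtain ⟨y, rfl⟩ := E.surjective x
    obtain ⟨v, rfl⟩ := ι.surjective y
    show E ((g : Equiv.Perm α) (E.symm (E (ι v)))) = _
    rw [E.symm_apply_apply]
    have hgv : (g : Equiv.Perm α) (ι v) = ι (w + c h v) := by
      show g • ι v = _
      rw [hι (w + c h v), toMul_add, Subgroup.coe_mul, mul_smul, ← hι, ← hsm h v]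
      show _ = ((Additive.toMul w : N) : G) • (((Additive.toMul w : N) : G)⁻¹ * g) • ι v
      rw [smul_smul, mul_inv_cancel_left]
    rw [hgv, hE, hE, map_add, map_add, hσ', map_mul, add_comm]
    simp
  · obtain ⟨w, hw⟩ := (e.toEquiv.trans φ.toEquiv).surjective b
    refine ⟨((Additive.toMul w : N) : G), fun x => ?_⟩
    obtain ⟨v, rfl⟩ := ι.surjective x
    have hgv : (((Additive.toMul w : N) : G) : Equiv.Perm α) (ι v) = ι (w + v) := by
      show ((Additive.toMul w : N) : G) • ι v = _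
      rw [hι, hι, toMul_add, Subgroup.coe_mul, mul_smul]
    rw [hgv, hE, hE, map_add, map_add, ← hw]
    simp [add_comm]

theorem core {G : Subgroup (Equiv.Perm α)} (hne : G ≠ ⊥)
    (h2 : IsPretransitive G (Set.powersetCard α 2)) (hn2 : ¬ IsMultiplyPretransitive G α 2)
    (hFT : Odd (Nat.card G) → Group.IsSolvable G) :
    Odd (Nat.card G) ∧ ∃ (p f : ℕ) (_ : Fact p.Prime), p ≠ 2 ∧ Fintype.card α = p ^ f ∧ p ^ f % 4 = 3 ∧
      ∃ e : α ≃ GaloisField p f,
        (∀ g : G, e.symm.trans (((g : Equiv.Perm α)).trans e) ∈ Cfsg.semiaffineGroup (GaloisField p f)) ∧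
        ∀ b : GaloisField p f, ∃ g : G, ∀ x : α, e ((g : Equiv.Perm α) x) = e x + b :=
  ⟨odd_card h2 hn2, semiaffine hne h2 (odd_card h2 hn2) (hFT (odd_card h2 hn2))⟩

end Cfsg.Agent.TwoHomogeneousOdd64
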