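import Mathlib

/-!
# Involutions inverting two-dimensional subgroups of a symplectic space

`E` has odd prime exponent `q` and carries a nondegenerate alternating pairing. A *top* is an
isometric involution inverting at most `q ^ 2` elements, a *root* a square root of a top which
fixes the fixed points of the top. The tops with roots in a common 2-group commute; in a 2-group
generated by tops, each normalised by a root, the squares are central.
-/

set_option autoImplicit false

namespace Cfsg.Agent.TwoPlanes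

variable {E : Type*} [CommGroup E]

/-- The elements inverted by `g`. -/
def inverted (g : MulAut E) : Subgroup E where
  carrier := {v | g v = v⁻¹}
  one_mem' := by simp
  mul_mem' := fun {a b} ha hb => by
    show g (a * b) = (a * b)⁻¹
    rw [map_mul, ha, hb, mul_inv]
  inv_mem' := fun {a} ha => by
    show g a⁻¹ = a⁻¹⁻¹
    rw [map_inv, ha]

theorem mem_inverted {g : MulAut E} {v : E} : v ∈ inverted g ↔ g v = v⁻¹ := Iff.rfl

theorem mem_inverted_conj {g y : MulAut E} {v : E} :
    g v ∈ inverted (g * y * g⁻¹) ↔ v ∈ inverted y := by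
  simp only [mem_inverted, MulAut.mul_apply, MulAut.inv_apply, MulEquiv.symm_apply_apply]
  rw [← map_inv, g.injective.eq_iff]

/-- A nondegenerate alternating pairing on a group of odd prime exponent. -/
structure Space (q : ℕ) (E : Type*) [CommGroup E] (M : Type*) [CommGroup M] where
  β : E →* E →* M
  prime : q.Prime
  two_ne : q ≠ 2
  pow : ∀ v : E, v ^ q = 1
  alt : ∀ v, β v v = 1
  nondeg : ∀ v, (∀ w, β v w = 1) → v = 1

namespace Space

variable {q : ℕ} {M : Type*} [CommGroup M] (S : Space q E M)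

/-- Isometries. -/
def Iso (g : MulAut E) : Prop := ∀ u v, S.β (g u) (g v) = S.β u v

theorem iso_mul {g h : MulAut E} (hg : S.Iso g) (hh : S.Iso h) : S.Iso (g * h) := fun u v => by
  rw [MulAut.mul_apply, MulAut.mul_apply, hg, hh]

theorem iso_inv {g : MulAut E} (hg : S.Iso g) : S.Iso g⁻¹ := fun u v => by
  rw [← hg, MulAut.apply_inv_self, MulAut.apply_inv_self]

/-- An isometric involution inverting at most `q ^ 2` elements. -/
structure Top (y : MulAut E) : Prop where
  iso : S.Iso y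
  sq : y * y = 1
  ne : y ≠ 1
  card : Nat.card (inverted y) ≤ q ^ 2

/-- A square root of a top fixing its fixed points. -/
structure Root (w : MulAut E) : Prop where
  iso : S.Iso w
  top : S.Top (w * w)
  fix : ∀ v, (w * w) v = v → w v = v

theorem Top.apply_apply {y : MulAut E} (hy : S.Top y) (v : E) : y (y v) = v := by
  rw [← MulAut.mul_apply, hy.sq, MulAut.one_apply]

theorem Top.conj {g y : MulAut E} (hy : S.Top y) (hg : S.Iso g) : S.Top (g * y * g⁻¹) := by
  refine ⟨S.iso_mul (S.iso_mul hg hy.iso) (S.iso_inv hg), ?_, ?_, ?_⟩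
  · rw [show g * y * g⁻¹ * (g * y * g⁻¹) = g * (y * y) * g⁻¹ by group, hy.sq, mul_one,
      mul_inv_cancel]
  · intro h
    exact hy.ne (by rw [show y = g⁻¹ * (g * y * g⁻¹) * g by group, h]; group)
  · refine le_of_eq_of_le (Nat.card_congr ?_).symm hy.card
    exact g.toEquiv.subtypeEquiv fun v => (mem_inverted_conj (g := g) (y := y)).symm

theorem Root.conj {g w : MulAut E} (hw : S.Root w) (hg : S.Iso g) : S.Root (g * w * g⁻¹) := by
  have e : g * w * g⁻¹ * (g * w * g⁻¹) = g * (w * w) * g⁻¹ := by group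
  refine ⟨S.iso_mul (S.iso_mul hg hw.iso) (S.iso_inv hg), by rw [e]; exact hw.top.conj S hg,
    fun v hv => ?_⟩
  rw [e, MulAut.mul_apply, MulAut.mul_apply] at hv
  have h1 : (w * w) (g⁻¹ v) = g⁻¹ v := g.injective (by rw [hv, MulAut.apply_inv_self])
  rw [MulAut.mul_apply, MulAut.mul_apply, hw.fix _ h1, MulAut.apply_inv_self]

include S in
theorem eq_one_of_sq {v : E} (h : v * v = 1) : v = 1 := by
  have hodd : Nat.gcd 2 q = 1 :=
    (Nat.coprime_primes Nat.prime_two S.prime).mpr (Ne.symm S.two_ne)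
  have := pow_gcd_eq_one.mpr ⟨(show v ^ 2 = 1 by rw [sq]; exact h), S.pow v⟩
  rwa [hodd, pow_one] at this

include S in
theorem exists_half (v : E) : ∃ k : ℕ, v ^ k * v ^ k = v := by
  obtain ⟨j, hj⟩ := S.prime.odd_of_ne_two S.two_ne
  refine ⟨j + 1, ?_⟩
  rw [← pow_add, show j + 1 + (j + 1) = q + 1 by omega, pow_succ, S.pow, one_mul]

include S in
theorem inv_eq_self {v : E} (h : v⁻¹ = v) : v = 1 :=
  S.eq_one_of_sq (by nth_rewrite 1 [← h]; exact inv_mul_cancel v)

theorem skew (u v : E) : S.β u v = (S.β v u)⁻¹ := by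
  refine eq_inv_of_mul_eq_one_left ?_
  have h := S.alt (u * v)
  rw [mul_comm]
  simpa [map_mul, S.alt] using h

/-- Fixed and inverted elements are orthogonal. -/
theorem orth {g : MulAut E} (hg : S.Iso g) {a b : E} (ha : g a = a) (hb : g b = b⁻¹) :
    S.β a b = 1 := by
  have h1 : (S.β a b)⁻¹ = S.β a b := by
    conv_rhs => rw [← hg a b, ha, hb, map_inv]
  have h2 : S.β a b ^ 2 = 1 := by
    rw [sq]; nth_rewrite 1 [← h1]; exact inv_mul_cancel _
  have h3 : S.β a b ^ q = 1 := by rw [← map_pow, S.pow, map_one]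
  have hodd : Nat.gcd 2 q = 1 :=
    (Nat.coprime_primes Nat.prime_two S.prime).mpr (Ne.symm S.two_ne)
  have := pow_gcd_eq_one.mpr ⟨h2, h3⟩
  rwa [hodd, pow_one] at this

include S in
/-- An element decomposes into a fixed and an inverted part. -/
theorem decompose (g : MulAut E) {D : Subgroup E} (hD : ∀ v ∈ D, g v ∈ D)
    (hg2 : ∀ v ∈ D, g (g v) = v) {v : E} (hv : v ∈ D) :
    ∃ a ∈ D, ∃ b ∈ D, g a = a ∧ g b = b⁻¹ ∧ v = a * b := by
  obtain ⟨k, hk⟩ := S.exists_half v
  have hu : v ^ k ∈ D := D.pow_mem hv k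
  refine ⟨v ^ k * g (v ^ k), D.mul_mem hu (hD _ hu), v ^ k * (g (v ^ k))⁻¹,
    D.mul_mem hu (D.inv_mem (hD _ hu)), ?_, ?_, ?_⟩
  · rw [map_mul, hg2 _ hu, mul_comm]
  · rw [map_mul, map_inv, hg2 _ hu, mul_inv, inv_inv, mul_comm]
  · rw [mul_mul_mul_comm, mul_inv_cancel, mul_one, hk]

/-- A nondegenerate subgroup with at most `q ^ 2` elements is trivial or has `q ^ 2` elements. -/
theorem card_cases [Finite E] {D : Subgroup E}
    (hnd : ∀ v ∈ D, (∀ w ∈ D, S.β v w = 1) → v = 1) (hcard : Nat.card D ≤ q ^ 2) :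
    D = ⊥ ∨ Nat.card D = q ^ 2 := by
  have := Fact.mk S.prime
  have hp : IsPGroup q D := fun v => ⟨1, Subtype.ext (by simp [S.pow])⟩
  obtain ⟨j, hj⟩ := IsPGroup.iff_card.mp hp
  have hj2 : j ≤ 2 := (Nat.pow_le_pow_iff_right S.prime.one_lt).mp (hj ▸ hcard)
  interval_cases j
  · left
    exact Subgroup.card_eq_one.mp (by simpa using hj)
  · exfalso
    rw [pow_one] at hj
    have : IsCyclic D := isCyclic_of_prime_card hj
    obtain ⟨⟨a, ha⟩, hgen⟩ := IsCyclic.exists_generator (α := D)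
    have haa : a = 1 := hnd a ha fun w hw => by
      obtain ⟨i, hi⟩ := hgen ⟨w, hw⟩
      have hi' : a ^ i = w := by simpa using congrArg Subtype.val hi
      rw [← hi', map_zpow, S.alt, one_zpow]
    have hall : ∀ x : D, x = 1 := fun x => by
      obtain ⟨i, hi⟩ := hgen x
      rw [← hi]
      exact Subtype.ext (by simp [haa])
    have : Subsingleton D := ⟨fun x y => by rw [hall x, hall y]⟩
    rw [Nat.card_of_subsingleton (1 : D)] at hj
    exact S.prime.ne_one hj.symm
  · exact Or.inr hj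

/-- The inverted elements of an isometry form a nondegenerate subgroup inside an invariant
nondegenerate one on which it is an involution. -/
theorem nondeg_part {g : MulAut E} (hg : S.Iso g) {D : Subgroup E}
    (hnd : ∀ v ∈ D, (∀ w ∈ D, S.β v w = 1) → v = 1) (hD : ∀ v ∈ D, g v ∈ D)
    (hg2 : ∀ v ∈ D, g (g v) = v) :
    ∀ v ∈ D ⊓ inverted g, (∀ w ∈ D ⊓ inverted g, S.β v w = 1) → v = 1 := by
  intro v hv h
  refine hnd v hv.1 fun w hw => ?_
  obtain ⟨a, ha, b, hb, hga, hgb, rfl⟩ := S.decompose g hD hg2 hw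
  rw [map_mul, h b ⟨hb, hgb⟩, mul_one, S.skew, S.orth hg hga hv.2, inv_one]

theorem Top.nondeg {y : MulAut E} (hy : S.Top y) :
    ∀ v ∈ inverted y, (∀ w ∈ inverted y, S.β v w = 1) → v = 1 := fun v hv h =>
  S.nondeg_part hy.iso (D := ⊤) (fun v _ hall => S.nondeg v fun w => hall w trivial)
    (fun _ _ => trivial) (fun v _ => hy.apply_apply S v) v ⟨trivial, hv⟩ fun w hw => h w hw.2

include S in
theorem exists_decomp {y : MulAut E} (hy : y * y = 1) (v : E) :
    ∃ a b, y a = a ∧ y b = b⁻¹ ∧ v = a * b := by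
  obtain ⟨a, -, b, -, h⟩ := S.decompose y (D := ⊤) (fun _ _ => trivial)
    (fun v _ => by rw [← MulAut.mul_apply, hy, MulAut.one_apply]) (v := v) trivial
  exact ⟨a, b, h⟩

theorem Top.card_eq [Finite E] {y : MulAut E} (hy : S.Top y) :
    Nat.card (inverted y) = q ^ 2 := by
  refine (S.card_cases (hy.nondeg S) hy.card).resolve_left fun h => hy.ne (MulEquiv.ext fun v => ?_)
  obtain ⟨a, b, ha, hb, rfl⟩ := S.exists_decomp hy.sq v
  have hb1 : b = 1 := Subgroup.mem_bot.mp (h ▸ (mem_inverted.mpr hb))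
  rw [hb1, mul_one, ha, MulAut.one_apply]

theorem Top.exists_ne [Finite E] {y : MulAut E} (hy : S.Top y) :
    ∃ v ∈ inverted y, v ≠ 1 := by
  by_contra h
  push Not at h
  have h1 : inverted y = ⊥ := (Subgroup.eq_bot_iff_forall _).mpr h
  have h2 := hy.card_eq S
  rw [h1, Subgroup.card_bot] at h2
  exact (Nat.one_lt_pow two_ne_zero S.prime.one_lt).ne h2

/-- An isometric involution with at most `q ^ 2` inverted elements, inverting those of a top,
is that top. -/
theorem eq_of_le [Finite E] {y y' : MulAut E} (hy : S.Top y) (hy'1 : S.Iso y')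
    (hy'2 : y' * y' = 1) (hy'c : Nat.card (inverted y') ≤ q ^ 2)
    (h : inverted y ≤ inverted y') : y' = y := by
  have heq : inverted y = inverted y' :=
    Subgroup.eq_of_le_of_card_ge h (hy'c.trans (hy.card_eq S).ge)
  refine MulEquiv.ext fun v => ?_
  obtain ⟨a, b, ha, hb, rfl⟩ := S.exists_decomp hy.sq v
  obtain ⟨a', b', ha', hb', rfl⟩ := S.exists_decomp hy'2 a
  have hb'1 : b' = 1 := by
    refine hy.nondeg S b' (heq ▸ (mem_inverted.mpr hb')) fun w hw => ?_
    have h1 : S.β (a' * b') w = 1 := S.orth hy.iso ha hw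
    rwa [map_mul, MonoidHom.mul_apply, S.orth hy'1 ha' (mem_inverted.mp (h hw)), one_mul] at h1
  subst hb'1
  rw [mul_one] at ha ⊢
  rw [map_mul, map_mul, ha, ha', hb, mem_inverted.mp (h (mem_inverted.mpr hb))]

theorem Top.eq_of_le' [Finite E] {y y' : MulAut E} (hy : S.Top y) (hy' : S.Top y')
    (h : inverted y ≤ inverted y') : y' = y :=
  S.eq_of_le hy hy'.iso hy'.sq hy'.card h

/-- An isometry fixing the inverted elements of a top commutes with it. -/
theorem commute_of_fix [Finite E] {y g : MulAut E} (hy : S.Top y) (hg : S.Iso g)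
    (h : ∀ v ∈ inverted y, g v = v) : g * y = y * g := by
  have h1 := hy.eq_of_le' S (hy.conj S hg) fun v hv => by
    rw [← h v hv]; exact mem_inverted_conj.mpr hv
  exact mul_inv_eq_iff_eq_mul.mp h1

/-- Two commuting distinct tops fix each other's inverted elements. -/
theorem Top.fix_of_commute [Finite E] {y y' : MulAut E} (hy : S.Top y) (hy' : S.Top y')
    (hc : y * y' = y' * y) (hne : y' ≠ y) {v : E} (hv : v ∈ inverted y) : y' v = v := by
  have hD : ∀ v ∈ inverted y, y' v ∈ inverted y := fun v hv => by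
    rw [mem_inverted, ← MulAut.mul_apply, hc, MulAut.mul_apply, mem_inverted.mp hv, map_inv]
  have h2 : ∀ v ∈ inverted y, y' (y' v) = v := fun v _ => hy'.apply_apply S v
  obtain ⟨a, ha, b, hb, hya, hyb, rfl⟩ := S.decompose y' hD h2 hv
  have hle : inverted y ⊓ inverted y' ≤ inverted y := inf_le_left
  rcases S.card_cases (S.nondeg_part hy'.iso (hy.nondeg S) hD h2)
    ((Nat.le_of_dvd Nat.card_pos (Subgroup.card_dvd_of_le hle)).trans hy.card) with h | h
  · have hb1 : b = 1 := Subgroup.mem_bot.mp (h ▸ (Subgroup.mem_inf.mpr ⟨hb, hyb⟩))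
    rw [hb1, mul_one, hya]
  · exact absurd (hy.eq_of_le' S hy' (inf_eq_left.mp (Subgroup.eq_of_le_of_card_ge hle
      ((hy.card_eq S).le.trans h.ge)))) hne

/-- On the inverted elements of a top, an isometry of order two commuting with it is a sign. -/
theorem Top.sign [Finite E] {y g : MulAut E} (hy : S.Top y) (hg : S.Iso g)
    (hc : y * g = g * y) (h2 : ∀ v ∈ inverted y, g (g v) = v) :
    (∀ v ∈ inverted y, g v = v) ∨ ∀ v ∈ inverted y, g v = v⁻¹ := by
  have hD : ∀ v ∈ inverted y, g v ∈ inverted y := fun v hv => by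
    rw [mem_inverted, ← MulAut.mul_apply, hc, MulAut.mul_apply, mem_inverted.mp hv, map_inv]
  have hle : inverted y ⊓ inverted g ≤ inverted y := inf_le_left
  rcases S.card_cases (S.nondeg_part hg (hy.nondeg S) hD h2)
    ((Nat.le_of_dvd Nat.card_pos (Subgroup.card_dvd_of_le hle)).trans hy.card) with h | h
  · left
    intro v hv
    obtain ⟨a, ha, b, hb, hya, hyb, rfl⟩ := S.decompose g hD h2 hv
    have hb1 : b = 1 := Subgroup.mem_bot.mp (h ▸ (Subgroup.mem_inf.mpr ⟨hb, hyb⟩))
    rw [hb1, mul_one, hya]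
  · right
    intro v hv
    have := inf_eq_left.mp (Subgroup.eq_of_le_of_card_ge hle ((hy.card_eq S).le.trans h.ge))
    exact mem_inverted.mp (this hv)

/-- If `g` moves the inverted elements of `y` to those of a commuting top, the quotients
`g v / v` fill any subgroup of order `q ^ 2` containing them. -/
theorem exists_diff [Finite E] {y g : MulAut E} (hy : S.Top y) (hy'' : S.Top (g * y * g⁻¹))
    (hc : y * (g * y * g⁻¹) = g * y * g⁻¹ * y) (hne : g * y * g⁻¹ ≠ y) {D : Subgroup E}
    (hDcard : Nat.card D ≤ q ^ 2) (hD : ∀ v : E, g v * v⁻¹ ∈ D) {d : E} (hd : d ∈ D) :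
    ∃ v ∈ inverted y, g v * v⁻¹ = d := by
  have hinj : Function.Injective fun v : inverted y => (⟨g v * (v : E)⁻¹, hD v⟩ : D) := by
    intro v w hvw
    have h1 : g (v : E) * (v : E)⁻¹ = g (w : E) * (w : E)⁻¹ := congrArg Subtype.val hvw
    set u := (v : E) * (w : E)⁻¹ with hu
    have hu1 : g u = u := by
      rw [hu, map_mul, map_inv, mul_inv_eq_iff_eq_mul.mp h1, mul_assoc (g (w : E)),
        mul_comm (g (w : E)), mul_inv_cancel_right, mul_comm]
    have hum : u ∈ inverted y := mul_mem v.2 (inv_mem w.2)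
    have hfix : y u = u := by
      refine hy''.fix_of_commute S hy hc.symm (Ne.symm hne) ?_
      rw [← hu1]; exact mem_inverted_conj.mpr hum
    exact Subtype.ext (mul_inv_eq_one.mp
      (S.inv_eq_self ((mem_inverted.mp hum).symm.trans hfix)))
  have hbij := hinj.bijective_of_nat_card_le (by rw [hy.card_eq S]; exact hDcard)
  obtain ⟨⟨v, hv⟩, hvd⟩ := hbij.2 ⟨d, hd⟩
  exact ⟨v, hv, congrArg Subtype.val hvd⟩

/-- Tops with roots in a common 2-group commute. -/
theorem commute_of_roots [Finite E] (Q : Subgroup (MulAut E)) (hQ : IsPGroup 2 Q)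
    (hiso : ∀ g ∈ Q, S.Iso g) {w w2 : MulAut E} (hw : w ∈ Q) (hw2 : w2 ∈ Q) (hr : S.Root w)
    (hr2 : S.Root w2) : w * w * (w2 * w2) = w2 * w2 * (w * w) := by
  have : Finite (MulAut E) := Finite.of_injective (fun f : MulAut E => (f : E → E))
    fun f g h => MulEquiv.ext fun v => congrFun h v
  induction hn : Nat.card Q using Nat.strong_induction_on generalizing Q w w2 with
  | _ n ih =>
  subst hn
  by_cases hcyc : w2 ∈ Subgroup.zpowers w
  · obtain ⟨i, rfl⟩ := hcyc
    group
  have : Fact (Nat.Prime 2) := ⟨Nat.prime_two⟩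
  have : Group.IsNilpotent Q := hQ.isNilpotent
  obtain ⟨N, hN, hwN⟩ : ∃ N : Subgroup Q, IsCoatom N ∧ (⟨w, hw⟩ : Q) ∈ N := by
    rcases eq_top_or_exists_le_coatom (Subgroup.zpowers (⟨w, hw⟩ : Q)) with h | ⟨N, hN, hle⟩
    · refine absurd ?_ hcyc
      obtain ⟨i, hi⟩ : (⟨w2, hw2⟩ : Q) ∈ Subgroup.zpowers (⟨w, hw⟩ : Q) :=
        h ▸ Subgroup.mem_top _
      exact ⟨i, by simpa using congrArg Subtype.val hi⟩
    · exact ⟨N, hN, hle (Subgroup.mem_zpowers _)⟩
  have hNn : N.Normal := Subgroup.NormalizerCondition.normal_of_coatom N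
    Group.normalizerCondition_of_isNilpotent hN
  set M := N.map Q.subtype with hM
  have hMQ : M ≤ Q := Subgroup.map_subtype_le _
  have hMcard : Nat.card M < Nat.card Q := by
    rw [hM, Subgroup.card_subtype]
    refine lt_of_le_of_ne N.card_le_card_group fun h => hN.1 ?_
    exact N.eq_top_of_card_eq h
  have hwM : w ∈ M := ⟨_, hwN, rfl⟩
  have hconjM : ∀ a ∈ M, w2 * a * w2⁻¹ ∈ M := by
    rintro _ ⟨a, ha, rfl⟩
    exact ⟨_, hNn.conj_mem a ha ⟨w2, hw2⟩, rfl⟩
  have hMiso := fun g hg => hiso g (hMQ hg)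
  have hMp := hQ.to_le hMQ
  have hiw2 := hiso w2 hw2
  set w' := w2 * w * w2⁻¹
  set w'' := w2 * w' * w2⁻¹
  have hr' : S.Root w' := hr.conj S hiw2
  have hr'' : S.Root w'' := hr'.conj S hiw2
  have c1 := ih _ hMcard M hMp hMiso hwM (hconjM w hwM) hr hr' rfl
  have c2 := ih _ hMcard M hMp hMiso hwM (hconjM _ (hconjM w hwM)) hr hr'' rfl
  have c3 := ih _ hMcard M hMp hMiso (hconjM w hwM) (hconjM _ (hconjM w hwM)) hr' hr'' rfl
  set y := w * w with hy
  set y2 := w2 * w2 with hy2
  have e' : w' * w' = w2 * y * w2⁻¹ := by simp only [w', hy]; group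
  have e'' : w'' * w'' = w2 * (w2 * y * w2⁻¹) * w2⁻¹ := by simp only [w'', w', hy]; group
  rw [e'] at c1 c3
  rw [e''] at c2 c3
  set y1 := w2 * y * w2⁻¹ with hy1
  have hty : S.Top y := hr.top
  have hty1 : S.Top y1 := hty.conj S hiw2
  have hty3 : S.Top (w2 * y1 * w2⁻¹) := hty1.conj S hiw2
  by_cases hne : y1 = y
  · have h1 : w2 * y = y * w2 := mul_inv_eq_iff_eq_mul.mp hne
    rw [hy2, ← mul_assoc, ← h1, mul_assoc, ← h1, ← mul_assoc]
  -- `w2` exchanges the two planes
  suffices hsuf : ∀ v ∈ inverted y, y2 v = v from (S.commute_of_fix hty hr2.top.iso hsuf).symm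
  have hD : ∀ v : E, w2 v * v⁻¹ ∈ inverted y2 := by
    intro v
    obtain ⟨a, b, ha, hb, rfl⟩ := S.exists_decomp hr2.top.sq v
    have h1 : w2 a = a := hr2.fix a ha
    have h2 : y2 (w2 b) = (w2 b)⁻¹ := by
      rw [← MulAut.mul_apply, hy2, show w2 * w2 * w2 = w2 * (w2 * w2) by group, ← hy2,
        MulAut.mul_apply, hb, map_inv]
    rw [map_mul, h1, mul_inv, mul_mul_mul_comm, mul_inv_cancel, one_mul]
    exact mul_mem h2 (inv_mem (mem_inverted.mpr hb))
  have hfix1 : ∀ u ∈ inverted y, y1 u = u := fun u hu => hty.fix_of_commute S hty1 c1 hne hu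
  have hfix : ∀ u ∈ inverted y1, y u = u := fun u hu =>
    hty1.fix_of_commute S hty c1.symm (Ne.symm hne) hu
  have key : ∀ v ∈ inverted y, ∃ v' ∈ inverted y, w2 (w2 v) = w2 v * w2 v' * v'⁻¹ := by
    intro v hv
    obtain ⟨v', hv', hd⟩ := S.exists_diff hty hty1 c1 hne (hr2.top.card) hD (hD (w2 v))
    refine ⟨v', hv', ?_⟩
    rw [mul_assoc, hd, mul_comm (w2 v), inv_mul_cancel_right]
  have hw2P : ∀ v ∈ inverted y, w2 v ∈ inverted y1 := fun v hv => mem_inverted_conj.mpr hv
  have heq : w2 * y1 * w2⁻¹ = y := by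
    by_contra h3
    obtain ⟨v, hv, hv1⟩ := hty.exists_ne S
    obtain ⟨v', hv', hd⟩ := key v hv
    have h1 : y (w2 (w2 v)) = w2 (w2 v) :=
      hty3.fix_of_commute S hty c2.symm (Ne.symm h3) (mem_inverted_conj.mpr (hw2P v hv))
    rw [hd, map_mul, map_mul, hfix _ (hw2P v hv), hfix _ (hw2P v' hv'), map_inv,
      mem_inverted.mp hv', inv_inv] at h1
    have hv'1 : v' = 1 := S.inv_eq_self (mul_left_cancel h1).symm
    rw [hv'1, map_one, mul_one, inv_one, mul_one] at hd
    have h4 : w2 v = v := w2.injective hd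
    exact hv1 (S.inv_eq_self ((mem_inverted.mp hv).symm.trans
      (hfix v (h4 ▸ hw2P v hv))))
  intro v hv
  obtain ⟨v', hv', hd⟩ := key v hv
  have hin : w2 (w2 v) ∈ inverted y := by
    have := mem_inverted_conj (g := w2) (y := y1) |>.mpr (hw2P v hv)
    rwa [heq] at this
  have h1 : y1 (w2 (w2 v)) = w2 (w2 v) := hfix1 _ hin
  rw [hd, map_mul, map_mul, mem_inverted.mp (hw2P v hv), mem_inverted.mp (hw2P v' hv'), map_inv,
    hfix1 _ hv', ← mul_inv, mul_left_inj] at h1
  have h2 : w2 (v * v') = 1 := by rw [map_mul]; exact S.inv_eq_self h1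
  have h3 : v * v' = 1 := w2.injective (h2.trans (map_one w2).symm)
  rw [hy2, MulAut.mul_apply, hd, ← map_mul, h2, one_mul,
    inv_eq_of_mul_eq_one_left h3]

/-! ### A 2-group generated by tops -/

/-- The standing hypotheses on a group generated by tops. -/
structure Conf (T : Set (MulAut E)) (A : Subgroup (MulAut E)) : Prop where
  gen : Subgroup.closure T = A
  iso : ∀ a ∈ A, S.Iso a
  two : IsPGroup 2 A
  top : ∀ t ∈ T, S.Top t
  conj : ∀ a ∈ A, ∀ t ∈ T, a * t * a⁻¹ ∈ T
  root : ∀ t ∈ T, ∃ w, S.Root w ∧ w * w = t ∧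
    ∃ Q : Subgroup (MulAut E), IsPGroup 2 Q ∧ (∀ g ∈ Q, S.Iso g) ∧ w ∈ Q ∧ A ≤ Q

variable {S}
variable {T : Set (MulAut E)} {A : Subgroup (MulAut E)}

theorem Conf.mem (hc : S.Conf T A) {t : MulAut E} (ht : t ∈ T) : t ∈ A :=
  hc.gen ▸ Subgroup.subset_closure ht

/-- Conjugates under `A` of a top commute. -/
theorem Conf.commute_conj [Finite E] (hc : S.Conf T A) {s : MulAut E} (hs : s ∈ T) {a : MulAut E}
    (ha : a ∈ A) : s * (a * s * a⁻¹) = a * s * a⁻¹ * s := by
  obtain ⟨w, hw, rfl, Q, hQ, hQi, hwQ, hAQ⟩ := hc.root s hs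
  have h := S.commute_of_roots Q hQ hQi hwQ (w2 := a * w * a⁻¹)
    (Q.mul_mem (Q.mul_mem (hAQ ha) hwQ) (Q.inv_mem (hAQ ha))) hw (hw.conj S (hc.iso a ha))
  rwa [show a * w * a⁻¹ * (a * w * a⁻¹) = a * (w * w) * a⁻¹ by group] at h

/-- Two generators moving a top move it to the same place. -/
theorem Conf.eq_of_move [Finite E] (hc : S.Conf T A) {s t r : MulAut E} (hs : s ∈ T) (ht : t ∈ T)
    (hr : r ∈ T) (hts : t * s * t⁻¹ ≠ s) (hrs : r * s * r⁻¹ ≠ s) :
    t * s * t⁻¹ = r * s * r⁻¹ := by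
  have key : ∀ t r : MulAut E, t ∈ T → r ∈ T → t * s * t⁻¹ ≠ s → r * s * r⁻¹ ≠ s →
      t * s * t⁻¹ ≠ r * s * r⁻¹ → t * (r * s * r⁻¹) * t⁻¹ = r * s * r⁻¹ := by
    intro t r ht hr hts hrs hne
    have hS := hc.top s hs
    have hS2 : S.Top (t * s * t⁻¹) := hS.conj S (hc.top t ht).iso
    have hS3 : S.Top (r * s * r⁻¹) := hS.conj S (hc.top r hr).iso
    set s4 := t * (r * s * r⁻¹) * t⁻¹ with hs4
    have htinv : t⁻¹ = t := inv_eq_of_mul_eq_one_right (hc.top t ht).sq
    have hne4 : s4 ≠ s := fun h => hne (by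
      rw [htinv]
      nth_rewrite 1 [← h]
      rw [hs4, htinv, show t * (t * (r * s * r⁻¹) * t) * t =
        t * t * (r * s * r⁻¹) * (t * t) by group, (hc.top t ht).sq, one_mul, mul_one])
    have hS4 : S.Top s4 := hS3.conj S (hc.top t ht).iso
    have hc4 : s * s4 = s4 * s := by
      have := hc.commute_conj hs (A.mul_mem (hc.mem ht) (hc.mem hr))
      rwa [show t * r * s * (t * r)⁻¹ = s4 by rw [hs4]; group] at this
    refine mul_inv_eq_iff_eq_mul.mpr (S.commute_of_fix hS3 (hc.top t ht).iso fun u hu => ?_)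
    have hD : ∀ v : E, t v * v⁻¹ ∈ inverted t := fun v => by
      rw [mem_inverted, map_mul, map_inv, (hc.top t ht).apply_apply S, mul_inv, inv_inv, mul_comm]
    obtain ⟨v, hv, hd⟩ := S.exists_diff hS hS2 (hc.commute_conj hs (hc.mem ht)) hts
      (hc.top t ht).card hD (hD u)
    have h1 : s (t u * u⁻¹) = t u * u⁻¹ := by
      rw [map_mul, map_inv,
        hS4.fix_of_commute S hS hc4.symm (Ne.symm hne4) (mem_inverted_conj.mpr hu),
        hS3.fix_of_commute S hS (hc.commute_conj hs (hc.mem hr)).symm (Ne.symm hrs) hu]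
    rw [← hd, map_mul, map_inv, mem_inverted.mp hv, inv_inv,
      hS2.fix_of_commute S hS (hc.commute_conj hs (hc.mem ht)).symm (Ne.symm hts)
        (mem_inverted_conj.mpr hv)] at h1
    have hv1 : v = 1 := S.inv_eq_self (mul_left_cancel h1).symm
    rw [hv1, map_one, inv_one, mul_one] at hd
    exact (mul_inv_eq_one.mp hd.symm)
  by_contra hne
  have e1 := key t r ht hr hts hrs hne
  have e2 := key r t hr ht hrs hts (Ne.symm hne)
  have htinv : t⁻¹ = t := inv_eq_of_mul_eq_one_right (hc.top t ht).sq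
  have hrinv : r⁻¹ = r := inv_eq_of_mul_eq_one_right (hc.top r hr).sq
  set g := t * r
  have g3 : g ^ 3 * s * (g ^ 3)⁻¹ = s := by
    have a1 : g * s * g⁻¹ = r * s * r⁻¹ := by
      rw [← e1]; simp only [g]; group
    have a2 : g * (r * s * r⁻¹) * g⁻¹ = t * s * t⁻¹ := by
      simp only [g]
      rw [mul_inv_rev, hrinv, htinv, show t * r * (r * s * r) * (r * t) =
        t * (r * r) * s * (r * r) * t by group, (hc.top r hr).sq, mul_one, mul_one]
    have a3 : g * (t * s * t⁻¹) * g⁻¹ = s := by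
      simp only [g]
      rw [show t * r * (t * s * t⁻¹) * (t * r)⁻¹ = t * (r * (t * s * t⁻¹) * r⁻¹) * t⁻¹ by group,
        e2, htinv, show t * (t * s * t) * t = t * t * s * (t * t) by group, (hc.top t ht).sq,
        one_mul, mul_one]
    rw [pow_three, show g * (g * g) * s * (g * (g * g))⁻¹ =
      g * (g * (g * s * g⁻¹) * g⁻¹) * g⁻¹ by group, a1, a2, a3]
  have hgA : g ∈ A := A.mul_mem (hc.mem ht) (hc.mem hr)
  obtain ⟨j, hj⟩ := hc.two ⟨g, hgA⟩
  have hj' : g ^ 2 ^ j = 1 := congrArg Subtype.val hj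
  have hcomm3 : Commute (g ^ 3) s := mul_inv_eq_iff_eq_mul.mp g3
  have hcomm : Commute g s := by
    have h3 : Nat.Coprime 3 (2 ^ (j + 1)) := Nat.Coprime.pow_right _ (by norm_num)
    obtain ⟨i, -, hi⟩ := Nat.exists_mul_mod_eq_gcd (n := 3) (k := 2 ^ (j + 1))
      (by rw [h3]; exact Nat.one_lt_pow (by omega) (by norm_num))
    rw [h3] at hi
    have hg : (g ^ 3) ^ i = g := by
      rw [← pow_mul]
      conv_lhs => rw [← Nat.mod_add_div (3 * i) (2 ^ (j + 1)), hi, pow_add, pow_one, pow_mul,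
        pow_succ 2 j, pow_mul, hj', one_pow, one_pow, mul_one]
    exact hg ▸ hcomm3.pow_left i
  apply hrs
  have a1 : g * s * g⁻¹ = r * s * r⁻¹ := by rw [← e1]; simp only [g]; group
  rw [← a1, hcomm.eq, mul_inv_cancel_right]

/-- A top has at most two conjugates under `A`. -/
theorem Conf.conj_two [Finite E] (hc : S.Conf T A) {s : MulAut E} (hs : s ∈ T) {a b : MulAut E}
    (ha : a ∈ A) (hb : b ∈ A) (has : a * s * a⁻¹ ≠ s) (hbs : b * s * b⁻¹ ≠ s) :
    a * s * a⁻¹ = b * s * b⁻¹ := by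
  have : Finite (MulAut E) := Finite.of_injective (fun f : MulAut E => (f : E → E))
    fun f g h => MulEquiv.ext fun v => congrFun h v
  by_cases hex : ∃ t ∈ T, t * s * t⁻¹ ≠ s
  · obtain ⟨t, ht, hts⟩ := hex
    set s2 := t * s * t⁻¹
    have hgen : ∀ u ∈ T, (u * s * u⁻¹ = s ∨ u * s * u⁻¹ = s2) ∧
        (u * s2 * u⁻¹ = s ∨ u * s2 * u⁻¹ = s2) := by
      intro u hu
      by_cases h : u * s * u⁻¹ = s
      · refine ⟨Or.inl h, ?_⟩
        have hut : u * t * u⁻¹ ∈ T := hc.conj u (hc.mem hu) t ht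
        have e2 : u * s2 * u⁻¹ = (u * t * u⁻¹) * s * (u * t * u⁻¹)⁻¹ := by
          conv_rhs => rw [← h]
          simp only [s2]; group
        by_cases h2 : (u * t * u⁻¹) * s * (u * t * u⁻¹)⁻¹ = s
        · exact Or.inl (e2.trans h2)
        · exact Or.inr (e2.trans (hc.eq_of_move hs hut ht h2 hts))
      · have h1 := hc.eq_of_move hs hu ht h hts
        refine ⟨Or.inr h1, Or.inl ?_⟩
        rw [show s2 = u * s * u⁻¹ from h1.symm, inv_eq_of_mul_eq_one_right (hc.top u hu).sq,
          show u * (u * s * u) * u = u * u * s * (u * u) by group, (hc.top u hu).sq,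
          one_mul, mul_one]
    have hmain : ∀ a ∈ A, (a * s * a⁻¹ = s ∨ a * s * a⁻¹ = s2) ∧
        (a * s2 * a⁻¹ = s ∨ a * s2 * a⁻¹ = s2) := by
      intro a ha
      rw [← hc.gen] at ha
      induction ha using Subgroup.closure_induction_left with
      | one => simp
      | mul_left u hu v _ hv =>
        have e : ∀ x : MulAut E, u * v * x * (u * v)⁻¹ = u * (v * x * v⁻¹) * u⁻¹ :=
          fun x => by group
        simp only [e]
        refine ⟨?_, ?_⟩
        · rcases hv.1 with h | h <;> rw [h]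
          exacts [(hgen u hu).1, (hgen u hu).2]
        · rcases hv.2 with h | h <;> rw [h]
          exacts [(hgen u hu).1, (hgen u hu).2]
      | inv_mul_cancel u hu v _ hv =>
        have e : ∀ x : MulAut E, u * v * x * (u * v)⁻¹ = u * (v * x * v⁻¹) * u⁻¹ :=
          fun x => by group
        rw [inv_eq_of_mul_eq_one_right (hc.top u hu).sq]
        simp only [e]
        refine ⟨?_, ?_⟩
        · rcases hv.1 with h | h <;> rw [h]
          exacts [(hgen u hu).1, (hgen u hu).2]
        · rcases hv.2 with h | h <;> rw [h]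
          exacts [(hgen u hu).1, (hgen u hu).2]
    rw [(hmain a ha).1.resolve_left has, (hmain b hb).1.resolve_left hbs]
  · push Not at hex
    refine absurd ?_ has
    have h1 : A ≤ Subgroup.centralizer {s} := by
      rw [← hc.gen, Subgroup.closure_le]
      intro t ht
      exact Subgroup.mem_centralizer_singleton_iff.mpr (mul_inv_eq_iff_eq_mul.mp (hex t ht))
    rw [Subgroup.mem_centralizer_singleton_iff.mp (h1 ha), mul_inv_cancel_right]

/-- Squares commute with the generators. -/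
theorem Conf.sq_commute [Finite E] (hc : S.Conf T A) {s : MulAut E} (hs : s ∈ T) {a : MulAut E}
    (ha : a ∈ A) : a * a * s = s * (a * a) := by
  refine mul_inv_eq_iff_eq_mul.mp ?_
  by_contra hne
  by_cases h1 : a * s * a⁻¹ = s
  · refine hne ?_
    rw [show a * a * s * (a * a)⁻¹ = a * (a * s * a⁻¹) * a⁻¹ by group, h1, h1]
  · have h2 := hc.conj_two hs (A.mul_mem ha ha) ha hne h1
    have h3 : a * (a * s * a⁻¹) * a⁻¹ = a * s * a⁻¹ :=
      Eq.trans (by simp [mul_assoc]) h2
    exact h1 (mul_left_cancel (mul_right_cancel h3))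

theorem Conf.sq_central [Finite E] (hc : S.Conf T A) {a b : MulAut E} (ha : a ∈ A) (hb : b ∈ A) :
    a * a * b = b * (a * a) := by
  rw [← hc.gen] at hb
  induction hb using Subgroup.closure_induction with
  | mem s hs => exact hc.sq_commute hs ha
  | one => simp
  | mul u v _ _ hu hv => exact (Commute.mul_right (show Commute (a * a) u from hu) hv)
  | inv u _ hu => exact (Commute.inv_right (show Commute (a * a) u from hu))

theorem Conf.commutator_central [Finite E] (hc : S.Conf T A) {a b c : MulAut E} (ha : a ∈ A)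
    (hb : b ∈ A) (hcA : c ∈ A) : b * a * b⁻¹ * a⁻¹ * c = c * (b * a * b⁻¹ * a⁻¹) := by
  have e : b * a * b⁻¹ * a⁻¹ = b * a * (b * a) * ((a⁻¹ * b⁻¹ * a) * (a⁻¹ * b⁻¹ * a)) *
      (a⁻¹ * a⁻¹) := by group
  rw [e]
  exact ((Commute.mul_left (hc.sq_central (A.mul_mem hb ha) hcA)
    (hc.sq_central (A.mul_mem (A.mul_mem (A.inv_mem ha) (A.inv_mem hb)) ha) hcA)).mul_left
    (hc.sq_central (A.inv_mem ha) hcA)).eq

theorem Conf.commutator_sq [Finite E] (hc : S.Conf T A) {a b : MulAut E} (ha : a ∈ A)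
    (hb : b ∈ A) : b * a * b⁻¹ * a⁻¹ * (b * a * b⁻¹ * a⁻¹) = 1 := by
  set e := b * a * b⁻¹ * a⁻¹ with he
  have h1 : b * a * b⁻¹ = e * a := by rw [he]; group
  have h2 : b * e * b⁻¹ = e := by
    rw [← hc.commutator_central ha hb hb, mul_inv_cancel_right]
  have h3 : b * b * a * (b * b)⁻¹ = e * e * a := by
    calc b * b * a * (b * b)⁻¹ = b * (b * a * b⁻¹) * b⁻¹ := by group
      _ = b * (e * a) * b⁻¹ := by rw [h1]
      _ = b * e * b⁻¹ * (b * a * b⁻¹) := by group
      _ = e * e * a := by rw [h2, h1, ← mul_assoc]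
  rw [hc.sq_central hb ha, mul_inv_cancel_right] at h3
  exact mul_right_cancel (h3.symm.trans (one_mul a).symm)

theorem Conf.pow_four [Finite E] (hc : S.Conf T A) {a : MulAut E} (ha : a ∈ A) :
    a * a * (a * a) = 1 := by
  have hmem : ∀ {x}, x ∈ Subgroup.closure T → x ∈ A := fun {x} hx => hc.gen ▸ hx
  rw [← hc.gen] at ha
  induction ha using Subgroup.closure_induction with
  | mem s hs => rw [(hc.top s hs).sq, one_mul]
  | one => simp
  | mul u v hu' hv' hu hv =>
    have hu'' := hmem hu'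
    have hv'' := hmem hv'
    set e := v * u * v⁻¹ * u⁻¹ with he
    have h1 : u * v * (u * v) = e * (u * u) * (v * v) := by
      have : u * v * (u * v) = u * (e * u) * (v * v) := by rw [he]; group
      rw [this, ← mul_assoc u e, ← hc.commutator_central hu'' hv'' hu'', mul_assoc e]
    have hce : ∀ x ∈ A, e * x = x * e := fun x hx => hc.commutator_central hu'' hv'' hx
    have huv : Commute (u * u) (v * v) := hc.sq_central hu'' (A.mul_mem hv'' hv'')
    have hee : Commute e (u * u * (v * v)) :=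
      hce _ (A.mul_mem (A.mul_mem hu'' hu'') (A.mul_mem hv'' hv''))
    calc u * v * (u * v) * (u * v * (u * v))
        = e * (u * u * (v * v)) * (e * (u * u * (v * v))) := by rw [h1, mul_assoc e]
      _ = e * e * ((u * u * (v * v)) * (u * u * (v * v))) := hee.symm.mul_mul_mul_comm e _
      _ = (u * u) * (u * u) * ((v * v) * (v * v)) := by
        rw [hc.commutator_sq hu'' hv'', one_mul, huv.symm.mul_mul_mul_comm (u * u) (v * v)]
      _ = 1 := by rw [hu, hv, one_mul]
  | inv u _ hu => rw [← mul_inv_rev, ← mul_inv_rev, hu, inv_one]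

/-! ### The top of a perturbed element -/

/-- Powers of a map which squares to a fixed multiple of the square of another on an invariant
subgroup. -/
theorem pow_two_mul_apply {P : Subgroup E} {Z X : MulAut E} (hX : ∀ v ∈ P, X v ∈ P) {ε : ℤ}
    (h : ∀ v ∈ P, (Z * Z) v = ((X * X) v) ^ ε) (j : ℕ) :
    ∀ v ∈ P, (Z ^ (2 * j)) v = ((X ^ (2 * j)) v) ^ (ε ^ j) := by
  induction j with
  | zero => intro v _; simp
  | succ j ih =>
    intro v hv
    have hmem : ∀ i : ℕ, ∀ v ∈ P, (X ^ i) v ∈ P := by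
      intro i
      induction i with
      | zero => intro v hv; simpa using hv
      | succ i ihi => intro v hv; rw [pow_succ, MulAut.mul_apply]; exact ihi _ (hX v hv)
    rw [show 2 * (j + 1) = 2 + 2 * j by ring, pow_add, pow_add, MulAut.mul_apply, MulAut.mul_apply,
      ih v hv, map_zpow, sq, sq, h _ (hmem _ v hv), ← zpow_mul, ← pow_succ']

/-- Multiplying by a central involution does not change the top. -/
theorem Conf.top_eq_of_central_involution [Finite E] (hc : S.Conf T A) {y X c : MulAut E}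
    (hy : y ∈ T) (hX : S.Iso X) {k : ℕ} (hk : 2 ≤ k) (hXy : X ^ 2 ^ (k - 1) = y) (hcA : c ∈ A)
    (hcy : y * c = c * y) (hc2 : c * c = 1) (hxn : (c * X) ^ 2 ^ k = 1)
    (hcard : Nat.card (inverted ((c * X) ^ 2 ^ (k - 1))) ≤ q ^ 2) :
    (c * X) ^ 2 ^ (k - 1) = y := by
  have hXcy : y * X = X * y := by rw [← hXy, ← pow_succ, ← pow_succ']
  have hP : ∀ v ∈ inverted y, X v ∈ inverted y := fun v hv => by
    rw [mem_inverted, ← MulAut.mul_apply, hXcy, MulAut.mul_apply, mem_inverted.mp hv, map_inv]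
  have hsign := (hc.top y hy).sign S (hc.iso c hcA) hcy fun v _ => by
    rw [← MulAut.mul_apply, hc2, MulAut.one_apply]
  have hiso : ∀ i : ℕ, S.Iso ((c * X) ^ i) := by
    intro i
    induction i with
    | zero => intro u v; simp
    | succ i ih => rw [pow_succ]; exact S.iso_mul ih (S.iso_mul (hc.iso c hcA) hX)
  refine S.eq_of_le (hc.top y hy) (hiso _) ?_ hcard fun v hv => ?_
  · rw [← pow_add, ← two_mul, ← pow_succ', Nat.sub_add_cancel (by omega), hxn]
  have h2 : ∀ v ∈ inverted y, (c * X * (c * X)) v = ((X * X) v) ^ (1 : ℤ) := by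
    intro v hv
    rw [zpow_one]
    simp only [MulAut.mul_apply]
    rcases hsign with h | h
    · rw [h _ (hP v hv), h _ (hP _ (hP v hv))]
    · rw [h _ (hP v hv), map_inv, map_inv, h _ (hP _ (hP v hv)), inv_inv]
  have := pow_two_mul_apply hP h2 (2 ^ (k - 2)) v hv
  rw [show 2 * 2 ^ (k - 2) = 2 ^ (k - 1) by rw [← pow_succ']; congr 1; omega, hXy, one_pow,
    zpow_one, mem_inverted.mp hv] at this
  exact mem_inverted.mpr this

/-- The top of a perturbed element is moved by the same generators. -/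
theorem Conf.top_move [Finite E] (hc : S.Conf T A) {y X c t : MulAut E} (hy : y ∈ T)
    (hX : S.Iso X) (hXA : X * c * X⁻¹ ∈ A) {k : ℕ} (hk : 2 ≤ k) (hXy : X ^ 2 ^ (k - 1) = y)
    (hfix : ∀ v, y v = v → X v = v) (hcA : c ∈ A) (ht : t ∈ T) (hts : t * y * t⁻¹ ≠ y)
    (hxn : (c * X) ^ 2 ^ k = 1)
    (hcard : Nat.card (inverted ((c * X) ^ 2 ^ (k - 1))) ≤ q ^ 2) :
    (c * X) ^ 2 ^ (k - 1) = y ∨ (c * X) ^ 2 ^ (k - 1) = t * y * t⁻¹ := by
  set y2 := t * y * t⁻¹ with hy2
  have hY := hc.top y hy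
  have hY2 : S.Top y2 := hY.conj S (hc.top t ht).iso
  have htA := hc.mem ht
  have hyA := hc.mem hy
  have hcom : y * y2 = y2 * y := hc.commute_conj hy htA
  have hXcy : y * X = X * y := by rw [← hXy, ← pow_succ, ← pow_succ']
  have hP : ∀ v ∈ inverted y, X v ∈ inverted y := fun v hv => by
    rw [mem_inverted, ← MulAut.mul_apply, hXcy, MulAut.mul_apply, mem_inverted.mp hv, map_inv]
  have hX2 : ∀ v ∈ inverted y2, X v = v := fun v hv =>
    hfix v (hY2.fix_of_commute S hY hcom.symm (Ne.symm hts) hv)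
  have hXne : ∀ v ∈ inverted y, (X ^ 2 ^ (k - 1)) v = v⁻¹ := fun v hv => by
    rw [hXy, mem_inverted.mp hv]
  have hk2 : 2 * 2 ^ (k - 2) = 2 ^ (k - 1) := by rw [← pow_succ']; congr 1; omega
  -- signs
  have hsignA : ∀ g ∈ A, g * g = 1 → (∀ z ∈ A, g * z = z * g) →
      ∃ ε : ℤ, (ε = 1 ∨ ε = -1) ∧ ∀ v ∈ inverted y, g v = v ^ ε := by
    intro g hg hg2 hgc
    rcases hY.sign S (hc.iso g hg) (hgc y hyA).symm (fun v _ => by
      rw [← MulAut.mul_apply, hg2, MulAut.one_apply]) with h | h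
    · exact ⟨1, Or.inl rfl, fun v hv => by rw [h v hv, zpow_one]⟩
    · exact ⟨-1, Or.inr rfl, fun v hv => by rw [h v hv, zpow_neg_one]⟩
  obtain ⟨δ, hδ, hcc⟩ := hsignA (c * c) (A.mul_mem hcA hcA) (hc.pow_four hcA)
    fun z hz => hc.sq_central hcA hz
  have hcyA : c * y * c⁻¹ = y ∨ c * y * c⁻¹ = y2 := by
    by_cases h : c * y * c⁻¹ = y
    · exact Or.inl h
    · exact Or.inr (hc.conj_two hy hcA htA h hts)
  rcases hcyA with hcfix | hcsw
  swap
  · -- `c` exchanges the planes: the order of `c * X` is too large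
    exfalso
    have hcmap : ∀ v ∈ inverted y, c v ∈ inverted y2 := fun v hv => by
      rw [← hcsw]; exact mem_inverted_conj.mpr hv
    obtain ⟨v, hv, hv1⟩ := hY.exists_ne S
    have h2 : ∀ v ∈ inverted y, (c * X * (c * X)) v = (X v) ^ δ := fun v hv => by
      simp only [MulAut.mul_apply]
      rw [hX2 _ (hcmap _ (hP v hv)), ← MulAut.mul_apply, hcc _ (hP v hv)]
    have hpow : ∀ j : ℕ, ∀ v ∈ inverted y, ((c * X) ^ (2 * j)) v = ((X ^ j) v) ^ (δ ^ j) := by
      intro j
      induction j with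
      | zero => intro v _; simp
      | succ j ih =>
        intro v hv
        have hmem : ∀ i : ℕ, ∀ v ∈ inverted y, (X ^ i) v ∈ inverted y := by
          intro i
          induction i with
          | zero => intro v hv; simpa using hv
          | succ i ihi => intro v hv; rw [pow_succ, MulAut.mul_apply]; exact ihi _ (hP v hv)
        rw [show 2 * (j + 1) = 2 + 2 * j by ring, pow_add, MulAut.mul_apply, ih v hv, map_zpow,
          sq, h2 _ (hmem _ v hv), ← zpow_mul, ← MulAut.mul_apply, ← pow_succ', ← pow_succ']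
    have h := hpow (2 ^ (k - 1)) v hv
    rw [← pow_succ', Nat.sub_add_cancel (by omega), hxn, hXne v hv, MulAut.one_apply] at h
    have hev : δ ^ 2 ^ (k - 1) = 1 := by
      rw [← hk2, pow_mul]
      rcases hδ with rfl | rfl <;> simp
    rw [hev, zpow_one] at h
    exact hv1 (S.inv_eq_self h.symm)
  -- `c` fixes both planes
  have hcy : y * c = c * y := (mul_inv_eq_iff_eq_mul.mp hcfix).symm
  have hcP : ∀ v ∈ inverted y, c v ∈ inverted y := fun v hv => by
    rw [← hcfix]; exact mem_inverted_conj.mpr hv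
  have hctop : ((c * X) ^ 2 ^ (k - 1)) * ((c * X) ^ 2 ^ (k - 1)) = 1 := by
    rw [← pow_add, ← two_mul, ← pow_succ', Nat.sub_add_cancel (by omega), hxn]
  have hiso : ∀ i : ℕ, S.Iso ((c * X) ^ i) := by
    intro i
    induction i with
    | zero => intro u v; simp
    | succ i ih => rw [pow_succ]; exact S.iso_mul ih (S.iso_mul (hc.iso c hcA) hX)
  suffices hsuf : inverted y ≤ inverted ((c * X) ^ 2 ^ (k - 1)) ∨
      inverted y2 ≤ inverted ((c * X) ^ 2 ^ (k - 1)) from
    hsuf.imp (fun h => S.eq_of_le hY (hiso _) hctop hcard h)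
      (fun h => S.eq_of_le hY2 (hiso _) hctop hcard h)
  -- a sign relating `c` and its conjugate under `t`, and under `X`
  obtain ⟨ζ, hζ, hζc⟩ := hsignA (t * c * t⁻¹ * c⁻¹)
    (A.mul_mem (A.mul_mem (A.mul_mem htA hcA) (A.inv_mem htA)) (A.inv_mem hcA))
    (hc.commutator_sq hcA htA) fun z hz => hc.commutator_central hcA htA hz
  have hζc' : ∀ v ∈ inverted y, (t * c * t⁻¹) v = (c v) ^ ζ := fun v hv => by
    rw [← hζc _ (hcP v hv), ← MulAut.mul_apply, inv_mul_cancel_right]
  have ht2 : ∀ v ∈ inverted y, t v ∈ inverted y2 := fun v hv => mem_inverted_conj.mpr hv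
  have htinv : t⁻¹ = t := inv_eq_of_mul_eq_one_right (hc.top t ht).sq
  by_cases hk3 : 3 ≤ k
  · left
    set c' := X * c * X⁻¹ with hc'
    obtain ⟨η, hη, hηc⟩ := hsignA (t * c' * t⁻¹ * c'⁻¹)
      (A.mul_mem (A.mul_mem (A.mul_mem htA hXA) (A.inv_mem htA)) (A.inv_mem hXA))
      (hc.commutator_sq hXA htA) fun z hz => hc.commutator_central hXA htA hz
    have hXinvP : ∀ v ∈ inverted y, X⁻¹ v ∈ inverted y := fun v hv => by
      rw [mem_inverted, ← MulAut.mul_apply,
        show y * X⁻¹ = X⁻¹ * (X * y) * X⁻¹ by group, ← hXcy,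
        show X⁻¹ * (y * X) * X⁻¹ = X⁻¹ * y by group, MulAut.mul_apply, mem_inverted.mp hv, map_inv]
    have hηc' : ∀ v ∈ inverted y, (t * c' * t⁻¹) v = (c' v) ^ η := fun v hv => by
      rw [← hηc (c' v) ?_, ← MulAut.mul_apply, inv_mul_cancel_right]
      rw [hc', MulAut.mul_apply, MulAut.mul_apply]
      exact hP _ (hcP _ (hXinvP v hv))
    have hsame : ∀ v ∈ inverted y, (t * c' * t⁻¹) v = (t * c * t⁻¹) v := fun v hv => by
      rw [htinv]
      simp only [hc', MulAut.mul_apply]
      have h1 : X⁻¹ (t v) = t v := by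
        nth_rewrite 1 [← hX2 _ (ht2 v hv)]
        exact MulAut.inv_apply_self E X _
      have h3 : c (t v) ∈ inverted y2 := by
        have hc2' : c * y2 * c⁻¹ = y2 := by
          by_contra h
          have hy2T : y2 ∈ T := hc.conj t htA y hy
          have h5 := hc.conj_two hy2T hcA (A.inv_mem htA) h (by
            intro h6
            apply hts
            rw [hy2, inv_inv] at h6
            have : t⁻¹ * (t * y * t⁻¹) * t = y := by group
            rw [this] at h6
            exact h6.symm)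
          rw [hy2, inv_inv, show t⁻¹ * (t * y * t⁻¹) * t = y by group] at h5
          apply hts
          have h7 : c * (t * y * t⁻¹) * c⁻¹ = c * y * c⁻¹ := h5.trans hcfix.symm
          exact mul_left_cancel (mul_right_cancel h7)
        rw [← hc2']; exact mem_inverted_conj.mpr (ht2 v hv)
      rw [h1, hX2 _ h3]
    set ε := ζ * η with hε'
    have hε : ∀ v ∈ inverted y, X (c v) = (c (X v)) ^ ε := by
      intro v hv
      have h1 : (c' (X v)) ^ η = (c (X v)) ^ ζ := by
        rw [← hηc' _ (hP v hv), hsame _ (hP v hv), hζc' _ (hP v hv)]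
      have h2 : c' (X v) = X (c v) := by simp [hc']
      rw [h2] at h1
      have h3 : η * η = 1 := by rcases hη with rfl | rfl <;> norm_num
      rw [hε', zpow_mul, ← h1, ← zpow_mul, h3, zpow_one]
    intro v hv
    have h2 : ∀ v ∈ inverted y, (c * X * (c * X)) v = ((X * X) v) ^ (δ * ε) := fun v hv => by
      simp only [MulAut.mul_apply]
      rw [hε _ (hP v hv), map_zpow, ← MulAut.mul_apply, hcc _ (hP _ (hP v hv)), ← zpow_mul]
    have := pow_two_mul_apply hP h2 (2 ^ (k - 2)) v hv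
    have hev : (δ * ε) ^ 2 ^ (k - 2) = 1 := by
      rw [show 2 ^ (k - 2) = 2 * 2 ^ (k - 3) by rw [← pow_succ']; congr 1; omega, pow_mul]
      rcases hδ with rfl | rfl <;> rcases hζ with rfl | rfl <;> rcases hη with rfl | rfl <;>
        norm_num [hε']
    rw [hk2, hev, zpow_one, hXne v hv] at this
    exact mem_inverted.mpr this
  · obtain rfl : k = 2 := by omega
    rcases hδ with rfl | rfl
    · left
      intro v hv
      have hs := hY.sign S (hc.iso c hcA) hcy fun v hv => by
        rw [← MulAut.mul_apply, hcc v hv, zpow_one]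
      show ((c * X) ^ 2 ^ (2 - 1)) v = v⁻¹
      rw [show 2 ^ (2 - 1) = 2 from rfl, sq]
      simp only [MulAut.mul_apply]
      have hXX : X (X v) = v⁻¹ := by rw [← MulAut.mul_apply, ← sq]; exact hXne v hv
      rcases hs with h | h
      · rw [h _ (hP v hv), h _ (hP _ (hP v hv)), hXX]
      · rw [h _ (hP v hv), map_inv, map_inv, h _ (hP _ (hP v hv)), inv_inv, hXX]
    · right
      intro u hu
      obtain ⟨v, hv, rfl⟩ : ∃ v ∈ inverted y, t v = u := by
        refine ⟨t⁻¹ u, ?_, MulAut.apply_inv_self E t u⟩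
        rw [← mem_inverted_conj (g := t), MulAut.apply_inv_self]
        exact hu
      show ((c * X) ^ 2 ^ (2 - 1)) (t v) = (t v)⁻¹
      rw [show 2 ^ (2 - 1) = 2 from rfl, sq]
      have hcy2 : c * y2 * c⁻¹ = y2 := by
        by_contra h
        have hy2T : y2 ∈ T := hc.conj t htA y hy
        have h5 := hc.conj_two hy2T hcA htA h (by
          rw [hy2, htinv, show t * (t * y * t) * t = t * t * y * (t * t) by group,
            (hc.top t ht).sq, one_mul, mul_one]
          exact fun h6 => hts (by rw [hy2, htinv]; exact h6.symm))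
        have h8 : t * y2 * t⁻¹ = y := by
          rw [hy2, htinv, show t * (t * y * t) * t = t * t * y * (t * t) by group,
            (hc.top t ht).sq, one_mul, mul_one]
        exact hts (mul_left_cancel (mul_right_cancel ((h5.trans h8).trans hcfix.symm)))
      have hcP2 : c (t v) ∈ inverted y2 := by
        rw [← hcy2]; exact mem_inverted_conj.mpr (ht2 v hv)
      simp only [MulAut.mul_apply]
      rw [hX2 _ (ht2 v hv), hX2 _ hcP2, ← MulAut.mul_apply, ← MulAut.mul_apply,
        hc.sq_central hcA htA, MulAut.mul_apply, hcc v hv, zpow_neg_one, map_inv]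

end Space

end Cfsg.Agent.TwoPlanes
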