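import Mathlib
import Cfsg.Agent.Lib.TwoPlanes
import Cfsg.Agent.Lib.GrossTopPower

/-!
# The components of a class two subgroup

For a normal `q`-subgroup `C` of class two and a character `l` of `C ∩ C(C)`, the stabilizer of
`l` acts by isometries on `C / rad l`, and a moved top power becomes a top there.
-/

set_option autoImplicit false

namespace Cfsg.Agent.TwoPlanesLocal

open Module Cfsg.Agent.TwoPlanes
open scoped commutatorElement
open Cfsg.Agent.GrossExceptional (InRad)

variable {H : Type*} [Group H]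

/-- A subgroup whose commutators are central in it, of exponent `q` modulo the centre. -/
structure ClassTwo (q : ℕ) (C : Subgroup H) : Prop where
  prime : q.Prime
  two_ne : q ≠ 2
  isP : IsPGroup q C
  normal : C.Normal
  comm : ∀ a ∈ C, ∀ b ∈ C, ⁅a, b⁆ ∈ C ⊓ Subgroup.centralizer (C : Set H)
  pow : ∀ a ∈ C, a ^ q ∈ C ⊓ Subgroup.centralizer (C : Set H)

/-- The centre. -/
def ctr (C : Subgroup H) : Subgroup H := C ⊓ Subgroup.centralizer (C : Set H)

variable {K : Type*} [Field K]
variable {q : ℕ} {C : Subgroup H} (hC : ClassTwo q C) (l : ↥(C ⊓ Subgroup.centralizer (C : Set H)) →* K)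

/-- The pairing on `C`. -/
def pair : C →* (C →* Kˣ) where
  toFun a :=
    { toFun := fun v => MonoidHom.toHomUnits l ⟨⁅(a : H), (v : H)⁆, hC.comm a a.2 v v.2⟩
      map_one' := by
        rw [show (⟨⁅(a : H), ((1 : C) : H)⁆, hC.comm a a.2 (1 : C) (1 : C).2⟩ :
          ↥(C ⊓ Subgroup.centralizer (C : Set H))) = 1 from Subtype.ext (by simp), map_one]
      map_mul' := fun v w => by
        rw [← map_mul]
        congr 1
        refine Subtype.ext ?_
        show ⁅(a : H), (v : H) * w⁆ = ⁅(a : H), (v : H)⁆ * ⁅(a : H), (w : H)⁆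
        have h := Subgroup.mem_centralizer_iff.mp (hC.comm a a.2 w w.2).2 v v.2
        calc ⁅(a : H), (v : H) * w⁆ = ⁅(a : H), (v : H)⁆ * ((v : H) * ⁅(a : H), (w : H)⁆ * (v : H)⁻¹) := by
              simp only [commutatorElement_def]; group
          _ = _ := by rw [h, mul_inv_cancel_right] }
  map_one' := by
    refine MonoidHom.ext fun v => ?_
    show MonoidHom.toHomUnits l _ = (1 : Kˣ)
    rw [show (⟨⁅((1 : C) : H), (v : H)⁆, hC.comm (1 : C) (1 : C).2 v v.2⟩ :
      ↥(C ⊓ Subgroup.centralizer (C : Set H))) = 1 from Subtype.ext (by simp), map_one]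
  map_mul' a b := by
    refine MonoidHom.ext fun v => ?_
    show MonoidHom.toHomUnits l _ = MonoidHom.toHomUnits l _ * MonoidHom.toHomUnits l _
    rw [← map_mul]
    congr 1
    refine Subtype.ext ?_
    show ⁅(a : H) * b, (v : H)⁆ = ⁅(a : H), (v : H)⁆ * ⁅(b : H), (v : H)⁆
    have h := Subgroup.mem_centralizer_iff.mp (hC.comm b b.2 v v.2).2 a a.2
    have h' := Subgroup.mem_centralizer_iff.mp (hC.comm a a.2 v v.2).2 _
      (hC.comm b b.2 v v.2).1
    calc ⁅(a : H) * b, (v : H)⁆ = (a : H) * ⁅(b : H), (v : H)⁆ * (a : H)⁻¹ * ⁅(a : H), (v : H)⁆ := by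
          simp only [commutatorElement_def]; group
      _ = ⁅(b : H), (v : H)⁆ * ⁅(a : H), (v : H)⁆ := by rw [h, mul_inv_cancel_right]
      _ = _ := h'

theorem pair_apply (a v : C) :
    (pair hC l a v : K) = l ⟨⁅(a : H), (v : H)⁆, hC.comm a a.2 v v.2⟩ := rfl

theorem mem_ker_pair {a : C} : a ∈ (pair hC l).ker ↔ InRad l (a : H) := by
  rw [MonoidHom.mem_ker, MonoidHom.ext_iff]
  constructor
  · intro h v hv hm
    have := congrArg Units.val (h ⟨v, hv⟩)
    rwa [pair_apply] at this
  · intro h v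
    exact Units.ext (by rw [pair_apply]; exact h v v.2 _)

/-- `C` modulo the radical. -/
abbrev Quot := C ⧸ (pair hC l).ker

instance commQuot : CommGroup (Quot hC l) :=
  { (inferInstance : Group (Quot hC l)) with
    mul_comm := fun a b => by
      obtain ⟨a, rfl⟩ := QuotientGroup.mk_surjective a
      obtain ⟨b, rfl⟩ := QuotientGroup.mk_surjective b
      rw [← QuotientGroup.mk_mul, ← QuotientGroup.mk_mul, QuotientGroup.eq, MonoidHom.mem_ker,
        map_mul, map_inv, map_mul, map_mul, mul_comm (pair hC l a), inv_mul_cancel] }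

instance finiteQuot [Finite H] : Finite (Quot hC l) := inferInstance

/-- The induced pairing. -/
def form : Quot hC l →* (Quot hC l →* Kˣ) :=
  (QuotientGroup.lift (pair hC l).ker
    (MonoidHom.flip (QuotientGroup.lift (pair hC l).ker (pair hC l) fun _ h => h)) fun v hv => by
      rw [MonoidHom.mem_ker]
      refine MonoidHom.ext fun a => ?_
      obtain ⟨a, rfl⟩ := QuotientGroup.mk_surjective a
      show pair hC l a v = 1
      refine Units.ext ?_
      rw [pair_apply]
      have h1 := (mem_ker_pair hC l).mp hv (a : H) a.2 (hC.comm v v.2 a a.2)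
      have e : (⟨⁅(a : H), (v : H)⁆, hC.comm a a.2 v v.2⟩ :
          ↥(C ⊓ Subgroup.centralizer (C : Set H))) * ⟨⁅(v : H), (a : H)⁆, hC.comm v v.2 a a.2⟩ = 1 :=
        Subtype.ext (by
          show ⁅(a : H), (v : H)⁆ * ⁅(v : H), (a : H)⁆ = 1
          simp only [commutatorElement_def]; group)
      have h2 := congrArg l e
      rw [map_mul, h1, mul_one, map_one] at h2
      exact h2).flip

theorem form_mk (a v : C) : form hC l (a : Quot hC l) (v : Quot hC l) = pair hC l a v := rfl

/-- The space of a component. -/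
def space : Space q (Quot hC l) Kˣ where
  β := form hC l
  prime := hC.prime
  two_ne := hC.two_ne
  pow v := by
    obtain ⟨v, rfl⟩ := QuotientGroup.mk_surjective v
    rw [← QuotientGroup.mk_pow, QuotientGroup.eq_one_iff, mem_ker_pair]
    intro w hw hm
    rw [show (⟨⁅((v ^ q : C) : H), w⁆, hm⟩ : ↥(C ⊓ Subgroup.centralizer (C : Set H))) = 1 from
      Subtype.ext (commutatorElement_eq_one_iff_mul_comm.mpr
        (Subgroup.mem_centralizer_iff.mp (hC.pow v v.2).2 w hw).symm), map_one]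
  alt v := by
    obtain ⟨v, rfl⟩ := QuotientGroup.mk_surjective v
    rw [form_mk]
    refine Units.ext ?_
    rw [pair_apply, show (⟨⁅(v : H), (v : H)⁆, hC.comm v v.2 v v.2⟩ :
      ↥(C ⊓ Subgroup.centralizer (C : Set H))) = 1 from Subtype.ext (by simp), map_one]
    rfl
  nondeg v hv := by
    obtain ⟨v, rfl⟩ := QuotientGroup.mk_surjective v
    rw [QuotientGroup.eq_one_iff, MonoidHom.mem_ker]
    refine MonoidHom.ext fun w => ?_
    rw [← form_mk]
    exact hv _

/-- The stabilizer of `l`. -/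
def stab : Subgroup H where
  carrier := {g | ∀ a b : ↥(C ⊓ Subgroup.centralizer (C : Set H)),
    (b : H) = g * a * g⁻¹ → l b = l a}
  one_mem' := fun a b h => by rw [show b = a from Subtype.ext (by simpa using h)]
  mul_mem' := fun {g h} hg hh a b hb => by
    have := hC.normal
    have hZn : (C ⊓ Subgroup.centralizer (C : Set H)).Normal := inferInstance
    rw [hg ⟨_, hZn.conj_mem a a.2 h⟩ b (by rw [hb]; group)]
    exact hh a _ rfl
  inv_mem' := fun {g} hg a b hb => (hg b a (by rw [hb]; group)).symm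

theorem mem_stab_of_centralizer {g : H}
    (hg : g ∈ Subgroup.centralizer ((C ⊓ Subgroup.centralizer (C : Set H) : Subgroup H) : Set H)) :
    g ∈ stab hC l := fun a b hb => by
  rw [show b = a from Subtype.ext (hb.trans (mul_inv_eq_iff_eq_mul.mpr
    (Subgroup.mem_centralizer_iff.mp hg a a.2).symm))]

theorem inRad_conj {g : H} (hg : g ∈ stab hC l) {a : H} (ha : a ∈ C) (h : InRad l a) :
    InRad l (g * a * g⁻¹) := by
  intro v hv hm
  have hv' : g⁻¹ * v * g ∈ C := by simpa using hC.normal.conj_mem v hv g⁻¹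
  rw [hg ⟨_, hC.comm a ha _ hv'⟩ ⟨_, hm⟩ (by
    show ⁅g * a * g⁻¹, v⁆ = g * ⁅a, g⁻¹ * v * g⁆ * g⁻¹
    simp only [commutatorElement_def]; group)]
  exact h _ hv' _

/-- Conjugation by an element of the stabilizer on `C`. -/
def conjC (g : stab hC l) : MulAut C :=
  haveI := hC.normal
  MulAut.conjNormal (g : H)

theorem coe_conjC (g : stab hC l) (a : C) : (conjC hC l g a : H) = g * a * (g : H)⁻¹ := rfl

theorem map_conjC (g : stab hC l) :
    (pair hC l).ker.map (conjC hC l g).toMonoidHom = (pair hC l).ker := by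
  refine le_antisymm ?_ fun a ha => ⟨conjC hC l g⁻¹ a, ?_, ?_⟩
  · rintro _ ⟨a, ha, rfl⟩
    rw [mem_ker_pair]
    exact inRad_conj hC l g.2 a.2 ((mem_ker_pair hC l).mp ha)
  · rw [SetLike.mem_coe, mem_ker_pair, coe_conjC]
    exact inRad_conj hC l (g⁻¹).2 a.2 ((mem_ker_pair hC l).mp ha)
  · refine Subtype.ext ?_
    show (g : H) * ((conjC hC l g⁻¹ a : C) : H) * (g : H)⁻¹ = a
    rw [coe_conjC, InvMemClass.coe_inv]; group

/-- The action on a component. -/
def act : stab hC l →* MulAut (Quot hC l) where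
  toFun g := QuotientGroup.congr _ _ (conjC hC l g) (map_conjC hC l g)
  map_one' := MulEquiv.ext fun a => by
    obtain ⟨a, rfl⟩ := QuotientGroup.mk_surjective a
    show (((conjC hC l 1) a : C) : Quot hC l) = _
    rw [show conjC hC l 1 a = a from Subtype.ext (by rw [coe_conjC]; simp)]
    rfl
  map_mul' g h := MulEquiv.ext fun a => by
    obtain ⟨a, rfl⟩ := QuotientGroup.mk_surjective a
    show (((conjC hC l (g * h)) a : C) : Quot hC l) = (((conjC hC l g) (conjC hC l h a) : C) : Quot hC l)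
    rw [show conjC hC l (g * h) a = conjC hC l g (conjC hC l h a) from Subtype.ext (by
      simp only [coe_conjC, Subgroup.coe_mul]; group)]

theorem act_apply (g : stab hC l) (a : C) :
    act hC l g (a : Quot hC l) = ((conjC hC l g a : C) : Quot hC l) := rfl

theorem act_fix_iff (g : stab hC l) (a : C) :
    act hC l g (a : Quot hC l) = (a : Quot hC l) ↔ InRad l ⁅(g : H), (a : H)⁆ := by
  rw [act_apply, ← div_eq_one, ← QuotientGroup.mk_div, QuotientGroup.eq_one_iff, mem_ker_pair]
  simp [div_eq_mul_inv, commutatorElement_def, coe_conjC]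

theorem act_iso (g : stab hC l) : (space hC l).Iso (act hC l g) := by
  intro u v
  obtain ⟨u, rfl⟩ := QuotientGroup.mk_surjective u
  obtain ⟨v, rfl⟩ := QuotientGroup.mk_surjective v
  show form hC l _ _ = form hC l _ _
  rw [act_apply, act_apply, form_mk, form_mk]
  refine Units.ext ?_
  rw [pair_apply, pair_apply]
  refine g.2 _ _ ?_
  show ⁅((conjC hC l g u : C) : H), ((conjC hC l g v : C) : H)⁆ =
    (g : H) * ⁅(u : H), (v : H)⁆ * (g : H)⁻¹
  simp only [coe_conjC, commutatorElement_def]; group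

variable [Finite H] [IsAlgClosed K] [CharP K 2]
variable {W : Type*} [AddCommGroup W] [Module K W] [FiniteDimensional K W]

/-- A moved top power is a top, with a power of the element as an iterated root. -/
theorem exists_root (ρ : Representation K H W)
    (hl0 : ∃ w : W, w ≠ 0 ∧ ∀ z : ↥(C ⊓ Subgroup.centralizer (C : Set H)), ρ (z : H) w = l z • w)
    {x : H} {n : ℕ} (hn : 1 ≤ n) (hxn : x ^ 2 ^ n = 1)
    (hN : ∑ k ∈ Finset.range (2 ^ n), ρ x ^ k = 0)
    (hyZ : x ^ 2 ^ (n - 1) ∈
      Subgroup.centralizer ((C ⊓ Subgroup.centralizer (C : Set H) : Subgroup H) : Set H))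
    (hne : act hC l ⟨x ^ 2 ^ (n - 1), mem_stab_of_centralizer hC l hyZ⟩ ≠ 1) :
    (space hC l).Top (act hC l ⟨x ^ 2 ^ (n - 1), mem_stab_of_centralizer hC l hyZ⟩) ∧
      ∃ f, f + 2 ≤ n ∧ ∃ hf : x ^ 2 ^ f ∈ stab hC l,
        act hC l ⟨x ^ 2 ^ f, hf⟩ ^ 2 ^ (n - f - 1) =
          act hC l ⟨x ^ 2 ^ (n - 1), mem_stab_of_centralizer hC l hyZ⟩ ∧
        act hC l ⟨x ^ 2 ^ f, hf⟩ ^ 2 ^ (n - f) = 1 ∧
        ∀ v, act hC l ⟨x ^ 2 ^ (n - 1), mem_stab_of_centralizer hC l hyZ⟩ v = v →
          act hC l ⟨x ^ 2 ^ f, hf⟩ v = v := by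
  classical
  have hqf := Fact.mk hC.prime
  have hmove : ∃ u ∈ C, ¬ InRad l ⁅x ^ 2 ^ (n - 1), u⁆ := by
    by_contra hall
    push Not at hall
    refine hne (MulEquiv.ext fun a => ?_)
    obtain ⟨a, rfl⟩ := QuotientGroup.mk_surjective a
    exact (act_fix_iff hC l _ a).mpr (hall a a.2)
  obtain ⟨f, hfn, hf, hfix, hcard⟩ := Cfsg.Agent.GrossExceptional.component ρ hC.prime hC.two_ne
    hn hxn hN hC.isP
    (Subgroup.mem_normalizer_iff.mpr fun g => ⟨fun hg => hC.normal.conj_mem g hg x,
      fun hg => by simpa [mul_assoc] using hC.normal.conj_mem _ hg x⁻¹⟩)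
    hC.comm (fun a ha => (Subgroup.mem_centralizer_iff.mp hyZ a ha).symm) l hl0 hmove
  have hfL : x ^ 2 ^ f ∈ stab hC l := hf
  set hy := mem_stab_of_centralizer hC l hyZ
  set y' := act hC l ⟨x ^ 2 ^ (n - 1), hy⟩ with hy'
  have hsq : y' * y' = 1 := by
    rw [hy', ← map_mul, ← map_one (act hC l)]
    congr 1
    refine Subtype.ext ?_
    show x ^ 2 ^ (n - 1) * x ^ 2 ^ (n - 1) = 1
    rw [← pow_add, ← two_mul, ← pow_succ', Nat.sub_add_cancel hn, hxn]
  refine ⟨⟨act_iso hC l _, hsq, hne, ?_⟩, f, hfn, hfL, ?_, ?_, ?_⟩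
  · -- at most `q ^ 2` inverted elements
    set C1 := ⁅Subgroup.zpowers (x ^ 2 ^ (n - 1)), C⁆
    have hC1C : C1 ≤ C := by
      have := hC.normal
      exact Subgroup.commutator_le_right _ _
    let R0 : Subgroup H := (pair hC l).ker.map C.subtype
    have hR0 : ∀ u ∈ C, u ∈ R0 ↔ InRad l u := fun u hu => by
      refine ⟨?_, fun h => ⟨⟨u, hu⟩, (mem_ker_pair hC l).mpr h, rfl⟩⟩
      rintro ⟨a, ha, rfl⟩
      exact (mem_ker_pair hC l).mp ha
    have hq2 := hcard R0 hR0
    have hsub : R0.subgroupOf C = (pair hC l).ker := Subgroup.comap_map_eq_self_of_injective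
      C.subtype_injective _
    let B : Subgroup (Quot hC l) := (C1.subgroupOf C).map (QuotientGroup.mk' (pair hC l).ker)
    have hB : Nat.card B ∣ q ^ 2 := by
      have h : (R0.subgroupOf C).relIndex (C1.subgroupOf C) ∣ q ^ 2 := by
        rwa [Subgroup.relIndex_subgroupOf hC1C]
      rw [hsub] at h
      have e := Subgroup.relIndex_ker (f := QuotientGroup.mk' (pair hC l).ker)
        (K := C1.subgroupOf C)
      rw [QuotientGroup.ker_mk'] at e
      rwa [e] at h
    refine le_trans (Nat.le_of_dvd Nat.card_pos (Subgroup.card_dvd_of_le ?_)) (Nat.le_of_dvd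
      (pow_pos hC.prime.pos 2) hB)
    intro v hv
    obtain ⟨k, hk⟩ := (space hC l).exists_half v
    have h1 : y' (v ^ k) * (v ^ k)⁻¹ ∈ B := by
      obtain ⟨a, ha⟩ := QuotientGroup.mk_surjective (v ^ k)
      refine ⟨⟨⁅x ^ 2 ^ (n - 1), (a : H)⁆, hC1C (Subgroup.commutator_mem_commutator
        (Subgroup.mem_zpowers _) a.2)⟩, Subgroup.commutator_mem_commutator
        (Subgroup.mem_zpowers _) a.2, ?_⟩
      rw [← ha, hy', act_apply, QuotientGroup.mk'_apply, ← QuotientGroup.mk_inv,
        ← QuotientGroup.mk_mul]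
      refine congrArg _ (Subtype.ext ?_)
      simp [commutatorElement_def, coe_conjC]
    have h2 : y' (v ^ k) * (v ^ k)⁻¹ = v⁻¹ := by
      rw [map_pow, mem_inverted.mp hv, inv_pow, ← mul_inv, hk]
    rw [h2] at h1
    simpa using inv_mem h1
  · rw [hy', ← map_pow]
    congr 1
    refine Subtype.ext ?_
    show (x ^ 2 ^ f) ^ 2 ^ (n - f - 1) = x ^ 2 ^ (n - 1)
    rw [← pow_mul, ← pow_add, show f + (n - f - 1) = n - 1 by omega]
  · rw [← map_pow, ← map_one (act hC l)]
    congr 1
    refine Subtype.ext ?_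
    show (x ^ 2 ^ f) ^ 2 ^ (n - f) = 1
    rw [← pow_mul, ← pow_add, show f + (n - f) = n by omega, hxn]
  · intro v hv
    obtain ⟨v, rfl⟩ := QuotientGroup.mk_surjective v
    exact (act_fix_iff hC l _ v).mpr (hfix v v.2 ((act_fix_iff hC l _ v).mp hv))

end Cfsg.Agent.TwoPlanesLocal
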