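import Mathlib
import Cfsg.Agent.Lib.TwoPlanes
import Cfsg.Agent.Lib.GrossExceptional
import Cfsg.Agent.Lib.HallHigmanTopsCommute

/-!
# A 2-group of isometries with operators on a module in characteristic two

`Pi` is a 2-group of isometries of the space `E`; `U` carries operators for `Pi` and for a
`q`-group `Γ` over `E`, whose commutators act by the pairing. If `Pi` acts quadratically enough,
the inverted subgroups of the involutions are planes.
-/

set_option autoImplicit false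

namespace Cfsg.Agent.TwoPlanesLoc

open Module Cfsg.Agent.TwoPlanes
open scoped commutatorElement

variable {E : Type*} [CommGroup E]

/-- The fixed points of an automorphism. -/
def fixed (g : MulAut E) : Subgroup E where
  carrier := {v | g v = v}
  one_mem' := map_one g
  mul_mem' := fun {a b} ha hb => by
    show g (a * b) = a * b
    rw [map_mul, ha, hb]
  inv_mem' := fun {a} ha => by
    show g a⁻¹ = a⁻¹
    rw [map_inv, ha]

theorem mem_fixed {g : MulAut E} {v : E} : v ∈ fixed g ↔ g v = v := Iff.rfl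

variable {q : ℕ} {K : Type*} [Field K]

/-- Operators over the space `E`. -/
structure Loc (S : Space q E Kˣ) (Pi : Subgroup (MulAut E)) (Γ : Type*) [Group Γ] (U : Type*)
    [AddCommGroup U] [Module K U] where
  two : IsPGroup 2 Pi
  iso : ∀ g ∈ Pi, S.Iso g
  ρ : Pi →* Module.End K U
  π : Γ →* E
  r : Γ →* Module.End K U
  σ : Pi →* MulAut Γ
  inter : ∀ g u, ρ g * r u = r (σ g u) * ρ g
  σ_π : ∀ g u, π (σ g u) = (g : MulAut E) (π u)
  comm : ∀ u v, r ⁅u, v⁆ = (S.β (π u) (π v) : K) • (1 : Module.End K U)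
  lift : ∀ (A0 : Subgroup Pi) (e : E), (∀ a ∈ A0, (a : MulAut E) e = e) →
    ∃ u, π u = e ∧ ∀ a ∈ A0, σ a u = u
  isP : IsPGroup q Γ

namespace Loc

variable {S : Space q E Kˣ} {Pi : Subgroup (MulAut E)} {Γ : Type*} [Group Γ] {U : Type*}
  [AddCommGroup U] [Module K U]

theorem one_add_one [CharP K 2] (T : Module.End K U) : T + T = 0 := by
  rw [← two_smul K T, CharTwo.two_eq_zero, zero_smul]

theorem sub_eq_add' [CharP K 2] (A B : Module.End K U) : A - B = A + B :=
  sub_eq_iff_eq_add.mpr (by rw [add_assoc, one_add_one, add_zero])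

theorem beta_eq_one [Nontrivial U] {c : K} {T : Module.End K U} (hT : T ≠ 0) (h : c • T = T) :
    c = 1 := by
  by_contra hc
  refine hT ((smul_eq_zero.mp (show (c - 1) • T = 0 by rw [sub_smul, h, one_smul, sub_self])).resolve_left
    (sub_ne_zero.mpr hc))

variable (L : Loc S Pi Γ U)

theorem rho_mul_inv (g : Pi) : L.ρ g * L.ρ g⁻¹ = 1 := by rw [← map_mul, mul_inv_cancel, map_one]

theorem rho_inv_mul (g : Pi) : L.ρ g⁻¹ * L.ρ g = 1 := by rw [← map_mul, inv_mul_cancel, map_one]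

theorem r_mul_inv (u : Γ) : L.r u * L.r u⁻¹ = 1 := by rw [← map_mul, mul_inv_cancel, map_one]

theorem r_inv_mul (u : Γ) : L.r u⁻¹ * L.r u = 1 := by rw [← map_mul, inv_mul_cancel, map_one]

theorem exists_lift_one {g : Pi} {e : E} (h : (g : MulAut E) e = e) :
    ∃ u, L.π u = e ∧ L.σ g u = u := by
  obtain ⟨u, hu, hfix⟩ := L.lift
    { carrier := {a | (a : MulAut E) e = e}
      one_mem' := rfl
      mul_mem' := fun {a b} ha hb => by
        show ((a : MulAut E) * (b : MulAut E)) e = e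
        rw [MulAut.mul_apply, hb, ha]
      inv_mem' := fun {a} ha => by
        show (a : MulAut E)⁻¹ e = e
        nth_rewrite 1 [← (ha : (a : MulAut E) e = e)]
        exact MulAut.inv_apply_self E _ e } e (fun a ha => ha)
  exact ⟨u, hu, hfix g h⟩

theorem π_surjective : Function.Surjective L.π := fun e => by
  obtain ⟨u, hu, -⟩ := L.lift ⊥ e (fun a ha => by
    rw [Subgroup.mem_bot.mp ha]; rfl)
  exact ⟨u, hu⟩

theorem commute_of_fixed {g : Pi} {u : Γ} (h : L.σ g u = u) : L.ρ g * L.r u = L.r u * L.ρ g := by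
  rw [L.inter, h]

variable [Nontrivial U]

theorem eq_one_of_rho {g : Pi} (h : L.ρ g = 1) : g = 1 := by
  refine Subtype.ext (MulEquiv.ext fun e => ?_)
  obtain ⟨u, rfl⟩ := L.π_surjective e
  have hr : L.r (L.σ g u) = L.r u := by
    have := L.inter g u
    rw [h, one_mul, mul_one] at this
    exact this.symm
  have hβ : ∀ w, S.β ((g : MulAut E) (L.π u) * (L.π u)⁻¹) w = 1 := by
    intro w
    obtain ⟨v, rfl⟩ := L.π_surjective w
    have h1 : L.r ⁅L.σ g u, v⁆ = L.r ⁅u, v⁆ := by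
      simp only [commutatorElement_def, map_mul]
      rw [hr]
      congr 1
      have hinv : L.r (L.σ g u)⁻¹ = L.r u⁻¹ := by
        calc L.r (L.σ g u)⁻¹ = L.r (L.σ g u)⁻¹ * (L.r (L.σ g u) * L.r u⁻¹) := by
              rw [hr, L.r_mul_inv, mul_one]
          _ = L.r u⁻¹ := by rw [← mul_assoc, L.r_inv_mul, one_mul]
      rw [hinv]
    rw [L.comm, L.comm, L.σ_π] at h1
    have h2 := Units.ext (smul_left_injective K (one_ne_zero (α := Module.End K U)) h1)
    rw [map_mul, map_inv, MonoidHom.mul_apply, MonoidHom.inv_apply, h2, mul_inv_cancel]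
  have := S.nondeg _ hβ
  rw [mul_inv_eq_one] at this
  rw [this]; rfl

theorem sub_ne_zero_of_ne {g : Pi} (h : g ≠ 1) : L.ρ g - 1 ≠ 0 := fun h0 =>
  h (L.eq_one_of_rho (sub_eq_zero.mp h0))

variable [CharP K 2]

theorem sq_eq_one {g : Pi} (h : (L.ρ g - 1) * (L.ρ g - 1) = 0) : g * g = 1 := by
  refine L.eq_one_of_rho ?_
  rw [map_mul]
  simp only [sub_eq_add'] at h
  rw [mul_add, add_mul, one_mul, mul_one, add_assoc, ← add_assoc (L.ρ g), one_add_one,
    zero_add] at h
  calc L.ρ g * L.ρ g = L.ρ g * L.ρ g + 1 + 1 := by rw [add_assoc, one_add_one, add_zero]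
    _ = 1 := by rw [h, zero_add]

omit [CharP K 2] in
/-- If `(ρ b - 1) (ρ g - 1) = 0`, then `g` fixes the fixed points of the involution `b`. -/
theorem fix_fixed {b g : Pi} (hb : b * b = 1) (hb1 : b ≠ 1) (hc : b * g = g * b)
    (h : (L.ρ b - 1) * (L.ρ g - 1) = 0) {e : E} (he : (b : MulAut E) e = e) :
    (g : MulAut E) e = e := by
  set X := L.ρ b - 1 with hX
  have hXg : X * L.ρ g = X := by rwa [mul_sub, mul_one, sub_eq_zero] at h
  obtain ⟨u, hu, hbu⟩ := L.exists_lift_one he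
  have hXu : ∀ {w : Γ}, L.σ b w = w → X * L.r w = L.r w * X := fun {w} hw => by
    rw [hX, sub_mul, mul_sub, L.commute_of_fixed hw, one_mul, mul_one]
  set s := u * (L.σ g u)⁻¹ with hs
  have hXs : X * L.r s = X := by
    have h1 : L.ρ g * L.r u⁻¹ = L.r (L.σ g u)⁻¹ * L.ρ g := by rw [L.inter, map_inv]
    have h2 : X * L.r s * L.ρ g = X * L.ρ g := by
      calc X * L.r s * L.ρ g = X * L.r u * (L.r (L.σ g u)⁻¹ * L.ρ g) := by
            rw [hs, map_mul]; simp only [mul_assoc]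
        _ = L.r u * (X * L.ρ g) * L.r u⁻¹ := by rw [← h1, hXu hbu]; simp only [mul_assoc]
        _ = X * L.ρ g := by rw [hXg, ← hXu hbu, mul_assoc, L.r_mul_inv, mul_one]
    calc X * L.r s = X * L.r s * L.ρ g * L.ρ g⁻¹ := by
          rw [mul_assoc _ (L.ρ g), L.rho_mul_inv, mul_one]
      _ = X := by rw [h2, mul_assoc, L.rho_mul_inv, mul_one]
  have hsπ : L.π s = e * ((g : MulAut E) e)⁻¹ := by rw [hs, map_mul, map_inv, L.σ_π, hu]
  have hsfix : (b : MulAut E) (L.π s) = L.π s := by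
    have hcoe : (b : MulAut E) * (g : MulAut E) = (g : MulAut E) * (b : MulAut E) :=
      congrArg Subtype.val hc
    rw [hsπ, map_mul, map_inv, ← MulAut.mul_apply, hcoe, MulAut.mul_apply, he]
  have hperp : ∀ f, (b : MulAut E) f = f → S.β f (L.π s) = 1 := by
    intro f hf
    obtain ⟨t, ht, hbt⟩ := L.exists_lift_one hf
    have h1 : X * L.r (t * s * t⁻¹) = X := by
      rw [map_mul, map_mul, ← mul_assoc, ← mul_assoc, hXu hbt, mul_assoc (L.r t), hXs, ← hXu hbt,
        mul_assoc, L.r_mul_inv, mul_one]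
    have h2 : X * L.r s⁻¹ = X := by
      nth_rewrite 1 [← hXs]
      rw [mul_assoc, L.r_mul_inv, mul_one]
    have h3 : X * L.r ⁅t, s⁆ = X := by
      rw [commutatorElement_def, map_mul, ← mul_assoc, h1, h2]
    rw [L.comm, mul_smul_comm, mul_one, ht] at h3
    exact Units.ext (beta_eq_one (L.sub_ne_zero_of_ne hb1) h3)
  have hb' : (b : MulAut E) * (b : MulAut E) = 1 := congrArg Subtype.val hb
  have hs1 : L.π s = 1 := by
    refine S.nondeg _ fun w => ?_
    obtain ⟨f, i, hf, hi, rfl⟩ := S.exists_decomp hb' w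
    rw [map_mul, S.skew, hperp f hf, inv_one, one_mul, S.orth (L.iso b b.2) hsfix hi]
  rw [hsπ, mul_inv_eq_one] at hs1
  exact hs1.symm

omit [CharP K 2] in
/-- If `(ρ b - 1) (ρ y - 1) = 0` and `y ≠ 1`, nothing fixed by `y` is inverted by `b`. -/
theorem eq_one_of_inverted_fixed {b y : Pi} (hb : b * b = 1) (hy : y * y = 1) (hy1 : y ≠ 1)
    (hc : b * y = y * b) (h : (L.ρ b - 1) * (L.ρ y - 1) = 0) {e : E}
    (hbe : (b : MulAut E) e = e⁻¹) (hye : (y : MulAut E) e = e) : e = 1 := by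
  set X := L.ρ y - 1 with hX
  have hbX : L.ρ b * X = X := by rwa [sub_mul, one_mul, sub_eq_zero] at h
  have hstep : ∀ v : E, (b : MulAut E) v = v⁻¹ → (y : MulAut E) v = v →
      ∃ s, L.π s = v * v ∧ L.r s * X = X := by
    intro v hbv hyv
    obtain ⟨u, hu, hyu⟩ := L.exists_lift_one hyv
    have hXu : X * L.r u = L.r u * X := by
      rw [hX, sub_mul, mul_sub, L.commute_of_fixed hyu, one_mul, mul_one]
    refine ⟨u * (L.σ b u)⁻¹, by rw [map_mul, map_inv, L.σ_π, hu, hbv, inv_inv], ?_⟩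
    have h1 : L.ρ b * L.r u⁻¹ = L.r (L.σ b u)⁻¹ * L.ρ b := by rw [L.inter, map_inv]
    have hXu' : L.r u⁻¹ * X = X * L.r u⁻¹ := by
      calc L.r u⁻¹ * X = L.r u⁻¹ * (X * L.r u) * L.r u⁻¹ := by
            rw [mul_assoc, mul_assoc, L.r_mul_inv, mul_one]
        _ = X * L.r u⁻¹ := by rw [hXu, ← mul_assoc, L.r_inv_mul, one_mul]
    calc L.r (u * (L.σ b u)⁻¹) * X = L.r u * (L.r (L.σ b u)⁻¹ * (L.ρ b * X)) := by
          rw [hbX, map_mul, mul_assoc]
      _ = L.r u * (L.ρ b * (L.r u⁻¹ * X)) := by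
          rw [← mul_assoc (L.r (L.σ b u)⁻¹), ← h1, mul_assoc]
      _ = L.r u * (L.ρ b * X) * L.r u⁻¹ := by rw [hXu']; simp only [mul_assoc]
      _ = X := by rw [hbX, ← hXu, mul_assoc, L.r_mul_inv, mul_one]
  have hb' : (b : MulAut E) * (b : MulAut E) = 1 := congrArg Subtype.val hb
  have hy' : (y : MulAut E) * (y : MulAut E) = 1 := congrArg Subtype.val hy
  have hX0 := L.sub_ne_zero_of_ne hy1
  have hperp : ∀ v, (b : MulAut E) v = v⁻¹ → (y : MulAut E) v = v →
      S.β (e * e) (v * v) = 1 := by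
    intro v hbv hyv
    obtain ⟨s, hs, hsX⟩ := hstep e hbe hye
    obtain ⟨t, ht, htX⟩ := hstep v hbv hyv
    have hinv : ∀ {s}, L.r s * X = X → L.r s⁻¹ * X = X := fun {s} hsX => by
      nth_rewrite 1 [← hsX]
      rw [← mul_assoc, L.r_inv_mul, one_mul]
    have h3 : L.r ⁅s, t⁆ * X = X := by
      rw [commutatorElement_def, map_mul, map_mul, map_mul, mul_assoc, hinv htX, mul_assoc,
        hinv hsX, mul_assoc, htX, hsX]
    rw [L.comm, smul_one_mul, hs, ht] at h3
    exact Units.ext (beta_eq_one hX0 h3)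
  refine S.eq_one_of_sq (S.nondeg (e * e) fun w => ?_)
  obtain ⟨f, i, hf, hi, rfl⟩ := S.exists_decomp hy' w
  obtain ⟨f1, f2, hf1, hf2, rfl⟩ := S.exists_decomp hb' f
  have hee : (b : MulAut E) (e * e) = (e * e)⁻¹ := by rw [map_mul, hbe, mul_inv]
  have hye2 : (y : MulAut E) (e * e) = e * e := by rw [map_mul, hye]
  obtain ⟨k, hk⟩ := S.exists_half f2
  have hyf2 : (y : MulAut E) f2 = f2 := by
    have hcoe : (b : MulAut E) * (y : MulAut E) = (y : MulAut E) * (b : MulAut E) :=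
      congrArg Subtype.val hc
    have hyf1 : (b : MulAut E) ((y : MulAut E) f1) = (y : MulAut E) f1 := by
      rw [← MulAut.mul_apply, hcoe, MulAut.mul_apply, hf1]
    have hyb2 : (b : MulAut E) ((y : MulAut E) f2) = ((y : MulAut E) f2)⁻¹ := by
      rw [← MulAut.mul_apply, hcoe, MulAut.mul_apply, hf2, map_inv]
    rw [map_mul] at hf
    set a := (y : MulAut E) f2 * f2⁻¹ with ha
    have ha1 : (b : MulAut E) a = a⁻¹ := by rw [ha, map_mul, map_inv, hyb2, hf2, mul_inv, inv_inv]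
    have ha2 : (b : MulAut E) a = a := by
      have e1 : (y : MulAut E) f2 * f2⁻¹ = f1 * ((y : MulAut E) f1)⁻¹ := by
        rw [eq_mul_inv_iff_mul_eq, mul_right_comm, mul_inv_eq_iff_eq_mul, mul_comm, hf]
      rw [ha, e1, map_mul, map_inv, hyf1, hf1]
    exact mul_inv_eq_one.mp (S.inv_eq_self (ha1.symm.trans ha2))
  have hk2 : S.β (e * e) f2 = 1 := by
    have := hperp (f2 ^ k) (by rw [map_pow, hf2, inv_pow]) (by rw [map_pow, hyf2])
    rwa [hk] at this
  rw [map_mul, map_mul, S.skew (e * e) f1, S.orth (L.iso b b.2) hf1 hee, inv_one, one_mul, hk2,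
    one_mul, S.orth (L.iso y y.2) hye2 hi]

omit [CharP K 2] in
/-- Two commuting involutions acting quadratically are equal. -/
theorem eq_of_quadratic {b y : Pi} (hb : b * b = 1) (hb1 : b ≠ 1) (hy : y * y = 1) (hy1 : y ≠ 1)
    (hc : b * y = y * b) (h : (L.ρ b - 1) * (L.ρ y - 1) = 0) : y = b := by
  have hb' : (b : MulAut E) * (b : MulAut E) = 1 := congrArg Subtype.val hb
  have hy' : (y : MulAut E) * (y : MulAut E) = 1 := congrArg Subtype.val hy
  refine Subtype.ext (MulEquiv.ext fun w => ?_)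
  obtain ⟨f, i, hf, hi, rfl⟩ := S.exists_decomp hb' w
  obtain ⟨i1, i2, hi1, hi2, rfl⟩ := S.exists_decomp hy' i
  have hcoe : (b : MulAut E) * (y : MulAut E) = (y : MulAut E) * (b : MulAut E) :=
    congrArg Subtype.val hc
  -- the part fixed by `y` is fixed by `b`
  have h1 : (b : MulAut E) i1 = i1⁻¹ := by
    have hbi1 : (y : MulAut E) ((b : MulAut E) i1) = (b : MulAut E) i1 := by
      rw [← MulAut.mul_apply, ← hcoe, MulAut.mul_apply, hi1]
    have hbi2 : (y : MulAut E) ((b : MulAut E) i2) = ((b : MulAut E) i2)⁻¹ := by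
      rw [← MulAut.mul_apply, ← hcoe, MulAut.mul_apply, hi2, map_inv]
    rw [map_mul, mul_inv] at hi
    set a := (b : MulAut E) i1 * i1 with ha
    have e1 : a = ((b : MulAut E) i2)⁻¹ * i2⁻¹ := by
      rw [ha, eq_mul_inv_iff_mul_eq, eq_inv_iff_mul_eq_one]
      calc (b : MulAut E) i1 * i1 * i2 * (b : MulAut E) i2
          = (b : MulAut E) i1 * (b : MulAut E) i2 * (i1 * i2) := by ac_rfl
        _ = 1 := by rw [hi, ← mul_inv, inv_mul_cancel]
    have a1 : (y : MulAut E) a = a := by rw [ha, map_mul, hbi1, hi1]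
    have a2 : (y : MulAut E) a = a⁻¹ := by rw [e1, map_mul, map_inv, map_inv, hbi2, hi2, mul_inv]
    have := S.inv_eq_self (a2.symm.trans a1)
    exact eq_inv_of_mul_eq_one_left this
  have hi1' : i1 = 1 := L.eq_one_of_inverted_fixed hb hy hy1 hc h h1 hi1
  subst hi1'
  rw [one_mul] at hi ⊢
  rw [map_mul, map_mul, hf, hi, hi2, L.fix_fixed hb hb1 hc h hf]

variable [IsAlgClosed K] [FiniteDimensional K U] [Finite E] [Finite Γ]

/-- Vanishing norms bound the inverted part. -/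
theorem norm_bound {e : ℕ} (he : 1 ≤ e) {x : Pi} (hxe : x ^ 2 ^ e = 1) (U0 : Submodule K U)
    (hU0 : U0 ≠ ⊥) (hxU : ∀ w ∈ U0, L.ρ x w ∈ U0)
    (hN : ∀ w ∈ U0, (∑ k ∈ Finset.range (2 ^ e), L.ρ x ^ k) w = 0) {D : Subgroup E}
    (hnd : ∀ v ∈ D, (∀ w ∈ D, S.β v w = 1) → v = 1) (hxD : ∀ v ∈ D, (x : MulAut E) v ∈ D)
    (hinv : ∀ v ∈ D, ((x : MulAut E) ^ 2 ^ (e - 1)) v = v⁻¹)
    (hlift : ∀ v ∈ D, ∃ u, L.π u = v ∧ ∀ w ∈ U0, L.r u w ∈ U0) :
    Nat.card D ∣ q ^ 2 ∧ (e = 2 → D ≠ ⊥ → q = 3) := by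
  classical
  by_cases hD : D = ⊥
  · exact ⟨by rw [hD, Subgroup.card_bot]; exact one_dvd _, fun _ h => absurd hD h⟩
  have hqf := Fact.mk S.prime
  have hqK : (q : K) ≠ 0 := by
    rw [Ne, CharP.cast_eq_zero_iff K 2, Nat.prime_dvd_prime_iff_eq Nat.prime_two S.prime]
    exact Ne.symm S.two_ne
  have hntU0 : Nontrivial U0 := Submodule.nontrivial_iff_ne_bot.mpr hU0
  -- a finite group of operators on `U0`
  let ρu : Pi →* (Module.End K U)ˣ := L.ρ.toHomUnits
  let ru : Γ →* (Module.End K U)ˣ := L.r.toHomUnits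
  let big : Γ ⋊[L.σ] Pi →* (Module.End K U)ˣ := SemidirectProduct.lift ru ρu fun g =>
    MonoidHom.ext fun u => Units.ext (by
      show L.r (L.σ g u) = L.ρ g * L.r u * L.ρ g⁻¹
      rw [L.inter, mul_assoc, L.rho_mul_inv, mul_one])
  have : Finite (MulAut E) := Finite.of_injective (fun f : MulAut E => (f : E → E))
    fun f g h => MulEquiv.ext fun v => congrFun h v
  have : Finite (Γ ⋊[L.σ] Pi) := Finite.of_equiv _ SemidirectProduct.equivProd.symm
  let St : Submonoid (Γ ⋊[L.σ] Pi) :=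
    { carrier := {s | ∀ w ∈ U0, (big s : Module.End K U) w ∈ U0}
      one_mem' := by intro w hw; rw [map_one]; exact hw
      mul_mem' := fun {a b} ha hb w hw => by
        rw [map_mul, Units.val_mul, Module.End.mul_apply]; exact ha _ (hb _ hw) }
  let L0 : Subgroup (Γ ⋊[L.σ] Pi) :=
    { St with
      inv_mem' := fun {a} ha => by
        have h : a⁻¹ = a ^ (orderOf a - 1) := by
          rw [inv_eq_iff_mul_eq_one, ← pow_succ', Nat.sub_add_cancel (orderOf_pos a),
            pow_orderOf_eq_one]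
        rw [h]
        exact St.pow_mem ha _ }
  let r0 : L0 →* Module.End K U0 :=
    { toFun := fun s => (big (s : Γ ⋊[L.σ] Pi) : Module.End K U).restrict s.2
      map_one' := LinearMap.ext fun w => Subtype.ext (by
        show (big 1 : Module.End K U) (w : U) = w
        rw [map_one]; rfl)
      map_mul' := fun a b => LinearMap.ext fun w => Subtype.ext (by
        show (big ((a : Γ ⋊[L.σ] Pi) * b) : Module.End K U) (w : U) = _
        rw [map_mul]; rfl) }
  let f0 : L0 →* (Module.End K U0)ˣ := r0.toHomUnits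
  let G0 := f0.range
  have : Finite G0 := Finite.of_surjective f0.rangeRestrict f0.rangeRestrict_surjective
  let ρ0 : Representation K G0 U0 := (Units.coeHom (Module.End K U0)).comp G0.subtype
  have hρ0 : Function.Injective ρ0 := fun a b h => Subtype.ext (Units.ext h)
  let f : L0 →* G0 := f0.rangeRestrict
  have hf : ∀ s : L0, ρ0 (f s) = r0 s := fun s => rfl
  -- the group `C1` over `D`
  let Cpre : Subgroup Γ :=
    { carrier := {u | L.π u ∈ D ∧ (SemidirectProduct.inl u : Γ ⋊[L.σ] Pi) ∈ L0}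
      one_mem' := ⟨by rw [map_one]; exact D.one_mem, by rw [map_one]; exact L0.one_mem⟩
      mul_mem' := fun {a b} ha hb => ⟨by rw [map_mul]; exact D.mul_mem ha.1 hb.1,
        by rw [map_mul]; exact L0.mul_mem ha.2 hb.2⟩
      inv_mem' := fun {a} ha => ⟨by rw [map_inv]; exact D.inv_mem ha.1,
        by rw [map_inv]; exact L0.inv_mem ha.2⟩ }
  let inC : Cpre →* L0 := (SemidirectProduct.inl.comp Cpre.subtype).codRestrict L0 fun u => u.2.2
  have hπD : ∀ v ∈ D, ∃ u : Cpre, L.π u = v := fun v hv => by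
    obtain ⟨u, hu, hu0⟩ := hlift v hv
    exact ⟨⟨u, by rw [hu]; exact hv, fun w hw => by
      show ((big (SemidirectProduct.inl u)) : Module.End K U) w ∈ U0
      rw [SemidirectProduct.lift_inl]; exact hu0 w hw⟩, hu⟩
  have hr0 : ∀ (u : Cpre) (w : U0), ((r0 (inC u) w : U0) : U) = L.r u (w : U) := fun u w => by
    show (big (SemidirectProduct.inl (u : Γ)) : Module.End K U) (w : U) = _
    rw [SemidirectProduct.lift_inl]; rfl
  have hcomm0 : ∀ u v : Cpre, r0 (inC ⁅u, v⁆) = (S.β (L.π u) (L.π v) : K) • 1 := fun u v =>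
    LinearMap.ext fun w => Subtype.ext (by
      rw [hr0]
      show L.r ⁅(u : Γ), (v : Γ)⁆ (w : U) = _
      rw [L.comm]; rfl)
  let x0 : L0 := ⟨SemidirectProduct.inr x, fun w hw => by
    show ((big (SemidirectProduct.inr x)) : Module.End K U) w ∈ U0
    rw [SemidirectProduct.lift_inr]; exact hxU w hw⟩
  set C1 : Subgroup G0 := (f.comp inC).range with hC1
  set xg : G0 := f x0
  have hconjC : ∀ u : Cpre, ∃ u' : Cpre,
      x0 * inC u * x0⁻¹ = inC u' ∧ L.π u' = (x : MulAut E) (L.π u) := by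
    intro u
    have hval : (x0 : Γ ⋊[L.σ] Pi) * ((inC u : L0) : Γ ⋊[L.σ] Pi) * (x0 : Γ ⋊[L.σ] Pi)⁻¹ =
        SemidirectProduct.inl (L.σ x u) := by
      show SemidirectProduct.inr x * SemidirectProduct.inl (u : Γ) * (SemidirectProduct.inr x)⁻¹ = _
      rw [← map_inv, ← SemidirectProduct.inl_aut]
    refine ⟨⟨L.σ x u, by rw [L.σ_π]; exact hxD _ u.2.1, ?_⟩, Subtype.ext hval, L.σ_π x u⟩
    rw [← hval]
    exact L0.mul_mem (L0.mul_mem x0.2 (inC u).2) (L0.inv_mem x0.2)
  have hxC : xg ∈ Subgroup.normalizer (C1 : Set G0) := by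
    rw [Subgroup.mem_normalizer_iff_map_conj_eq]
    refine Subgroup.eq_of_le_of_card_ge ?_ (le_of_eq (Subgroup.card_map_of_injective
      (f := (MulAut.conj xg).toMonoidHom) (MulAut.conj xg).injective).symm)
    rintro _ ⟨_, ⟨u, rfl⟩, rfl⟩
    obtain ⟨u', hu', -⟩ := hconjC u
    refine ⟨u', ?_⟩
    show f (inC u') = xg * f (inC u) * xg⁻¹
    rw [← hu', map_mul, map_mul, map_inv]
  have hC1p : IsPGroup q C1 := by
    rw [hC1, MonoidHom.range_eq_map]
    exact ((L.isP.to_subgroup Cpre).to_subgroup ⊤).map _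
  have hscal : ∀ u v : Cpre, ρ0 ⁅f (inC u), f (inC v)⁆ = (S.β (L.π u) (L.π v) : K) • 1 := by
    intro u v
    rw [← map_commutatorElement, hf, ← map_commutatorElement, hcomm0]
  have hcl : ∀ a ∈ C1, ∀ b ∈ C1, ⁅a, b⁆ ∈ C1 ⊓ Subgroup.centralizer (C1 : Set G0) := by
    rintro _ ⟨u, rfl⟩ _ ⟨v, rfl⟩
    refine ⟨⟨⁅u, v⁆, map_commutatorElement _ _ _⟩, Subgroup.mem_centralizer_iff.mpr fun c _ => ?_⟩
    apply hρ0
    show ρ0 (c * ⁅f (inC u), f (inC v)⁆) = ρ0 (⁅f (inC u), f (inC v)⁆ * c)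
    rw [map_mul, map_mul, hscal, mul_smul_comm, mul_one, smul_one_mul]
  have hxe0 : xg ^ 2 ^ e = 1 := by
    apply hρ0
    rw [← map_pow, hf, map_one]
    refine LinearMap.ext fun w => Subtype.ext ?_
    show ((big ((SemidirectProduct.inr x : Γ ⋊[L.σ] Pi) ^ 2 ^ e)) : Module.End K U) (w : U) = w
    rw [← map_pow, hxe, map_one, map_one]; rfl
  have hN0 : ∑ k ∈ Finset.range (2 ^ e), ρ0 xg ^ k = 0 := by
    refine LinearMap.ext fun w => Subtype.ext ?_
    have hp : ∀ k : ℕ, (((ρ0 xg ^ k) w : U0) : U) = (L.ρ x ^ k) (w : U) := by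
      intro k
      induction k with
      | zero => rfl
      | succ k ih =>
        rw [pow_succ', pow_succ', Module.End.mul_apply, Module.End.mul_apply, ← ih]
        show (big (SemidirectProduct.inr x) : Module.End K U) _ = _
        rw [SemidirectProduct.lift_inr]; rfl
    rw [LinearMap.sum_apply, Submodule.coe_sum, Finset.sum_congr rfl fun k _ => hp k,
      ← LinearMap.sum_apply]
    exact hN w w.2
  -- the top acts on `C1` as `z` does on `D`
  set zg := xg ^ 2 ^ (e - 1) with hzg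
  have hzconj : ∀ u : Cpre, ∃ u' : Cpre, zg * f (inC u) * zg⁻¹ = f (inC u') ∧
      L.π u' = (L.π u)⁻¹ := by
    have hk : ∀ (k : ℕ) (u : Cpre), ∃ u' : Cpre,
        x0 ^ k * inC u * (x0 ^ k)⁻¹ = inC u' ∧ L.π u' = ((x : MulAut E) ^ k) (L.π u) := by
      intro k
      induction k with
      | zero => exact fun u => ⟨u, by simp, by simp⟩
      | succ k ih =>
        intro u
        obtain ⟨u1, h1, h1'⟩ := hconjC u
        obtain ⟨u2, h2, h2'⟩ := ih u1
        exact ⟨u2, by rw [← h2, ← h1, pow_succ]; group, by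
          rw [h2', h1', pow_succ, MulAut.mul_apply]⟩
    intro u
    obtain ⟨u', h1, h2⟩ := hk (2 ^ (e - 1)) u
    refine ⟨u', ?_, by rw [h2, hinv _ u.2.1]⟩
    rw [← h1, map_mul, map_mul, map_inv, map_pow]
  have hyZ : ∀ s ∈ C1 ⊓ Subgroup.centralizer (C1 : Set G0), zg * s = s * zg := by
    refine Cfsg.Agent.HallHigman.commute_top_of_comm Nat.prime_two S.prime (Ne.symm S.two_ne) hqK
      hρ0 he hxe0 hN0 (hC1p.to_le inf_le_left) ?_ fun a ha b hb => ?_
    · exact Cfsg.Agent.CoprimeAction.le_normalizer_inf (A := Subgroup.zpowers xg)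
        (Subgroup.zpowers_le.mpr hxC) (Subgroup.zpowers_le.mpr
          (Cfsg.Agent.HallHigman.mem_normalizer_centralizer hxC)) (Subgroup.mem_zpowers xg)
    · exact Subgroup.mem_centralizer_iff.mp hb.2 a ha.1
  -- an eigencharacter and its radical
  obtain ⟨l, w0, hw0, hl⟩ := Cfsg.Agent.HallHigman.exists_eigencharacter
    (K := K) (ρ0.comp (C1 ⊓ Subgroup.centralizer (C1 : Set G0)).subtype) (fun a b => by
      rw [← map_mul, ← map_mul]
      congr 1
      exact Subtype.ext (Subgroup.mem_centralizer_iff.mp b.2.2 (a : G0) a.2.1))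
  have hlv : ∀ (u v : Cpre) (hm), l ⟨⁅f (inC u), f (inC v)⁆, hm⟩ =
      (S.β (L.π u) (L.π v) : K) := fun u v hm => by
    have := hl ⟨_, hm⟩
    change ρ0 ⁅f (inC u), f (inC v)⁆ w0 = _ at this
    rw [hscal, LinearMap.smul_apply, Module.End.one_apply] at this
    exact (smul_left_injective K hw0 this).symm
  have hrad : ∀ u : Cpre, Cfsg.Agent.GrossExceptional.InRad l (f (inC u)) ↔ L.π u = 1 := by
    intro u
    refine ⟨fun h => hnd _ u.2.1 fun w hw => ?_, fun h v hv hm => ?_⟩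
    · obtain ⟨v, rfl⟩ := hπD w hw
      have := h (f (inC v)) ⟨v, rfl⟩ (hcl _ ⟨u, rfl⟩ _ ⟨v, rfl⟩)
      rw [hlv] at this
      exact Units.ext this
    · obtain ⟨v, rfl⟩ := hv
      refine (hlv u v hm).trans ?_
      rw [h, map_one]; rfl
  obtain ⟨v1, hv1, hv1'⟩ : ∃ v ∈ D, v ≠ 1 := by
    by_contra hno
    push Not at hno
    exact hD ((Subgroup.eq_bot_iff_forall _).mpr hno)
  have hcm : ∀ u : Cpre, ∃ u' : Cpre, ⁅zg, f (inC u)⁆ = f (inC u') ∧
      L.π u' = (L.π u * L.π u)⁻¹ := by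
    intro u
    obtain ⟨u', h1, h2⟩ := hzconj u
    refine ⟨u' * u⁻¹, ?_, by rw [Subgroup.coe_mul, InvMemClass.coe_inv, map_mul, map_inv, h2, mul_inv]⟩
    rw [commutatorElement_def, h1, map_mul, map_mul, map_inv, map_inv]
  have hmove : ∃ c ∈ C1, ¬ Cfsg.Agent.GrossExceptional.InRad l ⁅xg ^ 2 ^ (e - 1), c⁆ := by
    obtain ⟨u, rfl⟩ := hπD v1 hv1
    obtain ⟨u', h1, h2⟩ := hcm u
    refine ⟨f (inC u), ⟨u, rfl⟩, fun h => hv1' (S.eq_one_of_sq ?_)⟩
    rw [← hzg, h1, hrad, h2, inv_eq_one] at h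
    exact h
  obtain ⟨-, -, -, -, hcard⟩ := Cfsg.Agent.GrossExceptional.component ρ0 S.prime S.two_ne he hxe0
    hN0 hC1p hxC hcl hyZ l ⟨w0, hw0, fun z => hl z⟩ hmove
  set Cm := ⁅Subgroup.zpowers zg, C1⁆ with hCm
  have hCmC : Cm ≤ C1 := by
    rw [hCm, Subgroup.commutator_comm]
    exact Cfsg.Agent.CoprimeAction.commutator_le_self_of_le_normalizer
      (Subgroup.zpowers_le.mpr (pow_mem hxC _))
  refine ⟨?_, fun he2 _ => ?_⟩
  · let R0 : Subgroup G0 := (L.π.comp Cpre.subtype).ker.map (f.comp inC)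
    have hR0 : ∀ u ∈ C1, u ∈ R0 ↔ Cfsg.Agent.GrossExceptional.InRad l u := by
      rintro _ ⟨u, rfl⟩
      refine ⟨?_, fun h => ⟨u, (hrad u).mp h, rfl⟩⟩
      rintro ⟨u', hu', heq⟩
      show Cfsg.Agent.GrossExceptional.InRad l ((f.comp inC) u)
      rw [← heq]
      exact (hrad u').mpr hu'
    have hq2 := hcard R0 hR0
    let B' : Subgroup Cpre := Cm.comap (f.comp inC)
    have hB : (R0.comap (f.comp inC)).relIndex B' ∣ q ^ 2 := by
      rw [Subgroup.relIndex_comap, Subgroup.map_comap_eq_self hCmC]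
      exact hq2
    have hker : R0.comap (f.comp inC) = (L.π.comp Cpre.subtype).ker := by
      refine le_antisymm ?_ (Subgroup.le_comap_map _ _)
      intro u hu
      exact (hrad u).mp ((hR0 _ ⟨u, rfl⟩).mp hu)
    rw [hker, Subgroup.relIndex_ker] at hB
    refine (Subgroup.card_dvd_of_le ?_).trans hB
    intro v hv
    obtain ⟨k, hk⟩ := S.exists_half v
    obtain ⟨u, hu⟩ := hπD (v ^ k) (D.pow_mem hv k)
    obtain ⟨u', h1, h2⟩ := hcm u
    refine ⟨u'⁻¹, ?_, ?_⟩
    · show (f.comp inC) u'⁻¹ ∈ Cm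
      rw [map_inv]
      refine Cm.inv_mem ?_
      show f (inC u') ∈ Cm
      rw [← h1]
      exact Subgroup.commutator_mem_commutator (Subgroup.mem_zpowers zg) ⟨u, rfl⟩
    · show L.π ((u'⁻¹ : Cpre) : Γ) = v
      rw [InvMemClass.coe_inv, map_inv, h2, hu, inv_inv, hk]
  · subst he2
    have hzC : Subgroup.zpowers zg ≤ Subgroup.normalizer (C1 : Set G0) :=
      Subgroup.zpowers_le.mpr (pow_mem hxC _)
    have hcop : (Nat.card (Subgroup.zpowers zg)).Coprime (Nat.card C1) := by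
      obtain ⟨j, hj⟩ := IsPGroup.iff_card.mp hC1p
      rw [Nat.card_zpowers, hj]
      refine (((Nat.coprime_primes Nat.prime_two S.prime).mpr
        (Ne.symm S.two_ne)).coprime_dvd_left (orderOf_dvd_of_pow_eq_one ?_)).pow_right j
      rw [hzg, ← pow_mul]
      exact hxe0
    have hd : Cfsg.Agent.HallHigman.HHData 2 q 2 ρ0 xg ⁅C1, Subgroup.zpowers zg⁆ := by
      refine ⟨Nat.prime_two, S.prime, Ne.symm S.two_ne, hqK, he, hxe0, ?_,
        hC1p.to_le (Cfsg.Agent.CoprimeAction.commutator_le_self_of_le_normalizer hzC), ?_, ?_, hN0,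
        ?_⟩
      · rw [Subgroup.mem_normalizer_iff_map_conj_eq, Subgroup.map_commutator,
          Subgroup.mem_normalizer_iff_map_conj_eq.mp hxC, MonoidHom.map_zpowers]
        congr 2
        show xg * zg * xg⁻¹ = zg
        rw [hzg, ← pow_succ', pow_succ, mul_inv_cancel_right]
      · refine eq_bot_iff.mpr ((Subgroup.commutator_mono (Subgroup.commutator_mono
          (Cfsg.Agent.CoprimeAction.commutator_le_self_of_le_normalizer hzC)
          (Cfsg.Agent.CoprimeAction.commutator_le_self_of_le_normalizer hzC))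
          (Cfsg.Agent.CoprimeAction.commutator_le_self_of_le_normalizer hzC)).trans ?_)
        rw [le_bot_iff, Subgroup.commutator_eq_bot_iff_le_centralizer, Subgroup.commutator_le]
        exact fun a ha b hb => (hcl a ha b hb).2
      · exact Cfsg.Agent.CoprimeAction.commutator_commutator_eq hzC hcop
          (Or.inl (Cfsg.Agent.CoprimeAction.isSolvable_zpowers zg))
      · obtain ⟨c, hc, hcm'⟩ := hmove
        refine ⟨⁅xg ^ 2 ^ (2 - 1), c⁆⁻¹, ?_, fun h => hcm' ?_⟩
        · rw [commutatorElement_inv]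
          exact Subgroup.commutator_mem_commutator hc (Subgroup.mem_zpowers _)
        · have h1 : ⁅xg ^ 2 ^ (2 - 1), c⁆ = 1 := inv_eq_one.mp (hρ0 (h.trans (map_one ρ0).symm))
          rw [h1]
          intro v hv hm
          rw [show (⟨⁅(1 : G0), v⁆, hm⟩ : ↥(C1 ⊓ Subgroup.centralizer (C1 : Set G0))) = 1 from
            Subtype.ext (commutatorElement_one_left v), map_one]
    obtain ⟨a, j, -, ha2, hj, hlt, -⟩ := hd.degree_bound.1
    have h4 : q ^ j < 4 := lt_of_lt_of_le hlt (Nat.pow_le_pow_right (by norm_num) ha2)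
    have hqle : q ≤ q ^ j := Nat.le_self_pow (by omega) q
    have := S.prime.two_le
    have := S.two_ne
    omega

end Loc

end Cfsg.Agent.TwoPlanesLoc
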