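import Mathlib
import Cfsg.Agent.Lib.TwoPlanesLoc
import Cfsg.Agent.Lib.PGroupsBasic

/-!
# Derived subgroups acting quadratically

If the derived subgroup `B` of `C` and `C` itself act quadratically, the involutions of `B` are
tops with roots in `C`. If moreover `C` is a derived subgroup of `D` and the chain of operators is
short, `B` is trivial: two planes would have to be exchanged by an element of order eight.
-/

set_option autoImplicit false

namespace Cfsg.Agent.TwoPlanesQuad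

open Module Cfsg.Agent.TwoPlanes Cfsg.Agent.TwoPlanesLoc
open scoped commutatorElement

variable {E : Type*} [CommGroup E]

/-- A finite `2`-group acting linearly in characteristic two fixes a nonzero vector. -/
theorem exists_fixed_vector {R : Type*} [Group R] [Finite R] (hR : IsPGroup 2 R) {K W : Type*}
    [Field K] [CharP K 2] [AddCommGroup W] [Module K W] [Nontrivial W]
    (ρ : R →* Module.End K W) : ∃ w : W, w ≠ 0 ∧ ∀ r, ρ r w = w := by
  have : Fact (Nat.Prime 2) := ⟨Nat.prime_two⟩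
  obtain ⟨v, hv0⟩ := exists_ne (0 : W)
  have htor : ∀ x : W, 2 • x = 0 := fun x => by
    rw [← Nat.cast_smul_eq_nsmul K, CharP.cast_eq_zero, zero_smul]
  obtain ⟨S, hS⟩ : ∃ S : AddSubgroup W, S = AddSubgroup.closure (Set.range fun r => ρ r v) :=
    ⟨_, rfl⟩
  have hfg : AddGroup.FG S := (AddGroup.fg_iff_addSubgroup_fg S).mpr
    ((AddSubgroup.fg_iff S).mpr ⟨_, hS.symm, Set.finite_range _⟩)
  have hSf : Finite S := AddCommGroup.finite_of_fg_torsion S fun x =>
    isOfFinAddOrder_iff_nsmul_eq_zero.mpr ⟨2, two_pos, Subtype.ext (htor (x : W))⟩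
  have hinv : ∀ r, ∀ w ∈ S, ρ r w ∈ S := fun r w hw => by
    rw [hS] at hw ⊢
    refine (AddSubgroup.closure_le
      ((AddSubgroup.closure (Set.range fun r => ρ r v)).comap (ρ r).toAddMonoidHom)).mpr ?_ hw
    rintro _ ⟨s, rfl⟩
    exact AddSubgroup.subset_closure ⟨r * s, by simp [map_mul]⟩
  let _ : MulAction R S :=
    { smul := fun r w => ⟨ρ r w.1, hinv r w.1 w.2⟩
      one_smul := fun w => Subtype.ext (by show ρ 1 w.1 = w.1; simp)
      mul_smul := fun r s w => Subtype.ext (by show ρ (r * s) w.1 = ρ r (ρ s w.1); simp) }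
  have hvS : v ∈ S := hS ▸ AddSubgroup.subset_closure ⟨1, by simp⟩
  have hp : 2 ∣ Nat.card S := by
    have hord : addOrderOf (⟨v, hvS⟩ : S) = 2 :=
      addOrderOf_eq_prime (Subtype.ext (htor v)) fun h => hv0 (congrArg Subtype.val h)
    exact hord ▸ addOrderOf_dvd_natCard _
  have h0 : (0 : S) ∈ MulAction.fixedPoints R S := fun r => Subtype.ext (by
    show ρ r 0 = 0; simp)
  obtain ⟨w, hw, hne⟩ := hR.exists_fixed_point_of_prime_dvd_card_of_fixed_point S hp h0
  exact ⟨w.1, fun h => hne (Subtype.ext h).symm, fun r => congrArg Subtype.val (hw r)⟩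

/-! ### Nine-element planes -/

/-- `g` is a sign on `D`. -/
def IsSign (g : MulAut E) (D : Subgroup E) : Prop :=
  (∀ v ∈ D, g v = v) ∨ ∀ v ∈ D, g v = v⁻¹

theorem IsSign.mul {g h : MulAut E} {D : Subgroup E} (hg : IsSign g D) (hh : IsSign h D) :
    IsSign (g * h) D := by
  rcases hg with hg | hg <;> rcases hh with hh | hh
  · exact Or.inl fun v hv => by rw [MulAut.mul_apply, hh v hv, hg v hv]
  · exact Or.inr fun v hv => by rw [MulAut.mul_apply, hh v hv, map_inv, hg v hv]
  · exact Or.inr fun v hv => by rw [MulAut.mul_apply, hh v hv, hg v hv]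
  · exact Or.inl fun v hv => by rw [MulAut.mul_apply, hh v hv, map_inv, hg v hv, inv_inv]

theorem IsSign.inv {g : MulAut E} {D : Subgroup E} (hg : IsSign g D) : IsSign g⁻¹ D := by
  rcases hg with hg | hg
  · exact Or.inl fun v hv => g.injective (by rw [MulAut.apply_inv_self, hg v hv])
  · exact Or.inr fun v hv =>
      g.injective (by rw [MulAut.apply_inv_self, map_inv, hg v hv, inv_inv])

theorem IsSign.comm {g h : MulAut E} {D : Subgroup E} (hg : IsSign g D) (hh : ∀ v ∈ D, h v ∈ D)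
    {v : E} (hv : v ∈ D) : g (h v) = h (g v) := by
  rcases hg with hg | hg
  · rw [hg v hv, hg _ (hh v hv)]
  · rw [hg v hv, hg _ (hh v hv), map_inv]

theorem IsSign.conj {g s : MulAut E} {D D' : Subgroup E} (hs : IsSign s D')
    (hg : ∀ v ∈ D, g⁻¹ v ∈ D') : IsSign (g * s * g⁻¹) D := by
  rcases hs with hs | hs
  · exact Or.inl fun v hv => by
      rw [MulAut.mul_apply, MulAut.mul_apply, hs _ (hg v hv), MulAut.apply_inv_self]
  · exact Or.inr fun v hv => by
      rw [MulAut.mul_apply, MulAut.mul_apply, hs _ (hg v hv), map_inv, MulAut.apply_inv_self]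

/-- Commutators of a group `M ∪ M a`, `M` of exponent two, commute with `a`. -/
theorem commutator_commute {Q : Type*} [Group Q] (M : Subgroup Q) (a : Q)
    (hcomm : ∀ m ∈ M, ∀ n ∈ M, m * n = n * m) (hsq : ∀ m ∈ M, m * m = 1)
    (hconj : ∀ m ∈ M, a * m * a⁻¹ ∈ M) (ha : a * a ∈ M) {g h : Q}
    (hg : g ∈ M ∨ g * a⁻¹ ∈ M) (hh : h ∈ M ∨ h * a⁻¹ ∈ M) :
    a * ⁅g, h⁆ = ⁅g, h⁆ * a := by
  have hinv : ∀ m ∈ M, m⁻¹ = m := fun m hm => inv_eq_of_mul_eq_one_right (hsq m hm)
  -- `m φ(m)` commutes with `a`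
  have hfix : ∀ m ∈ M, a * (m * (a * m * a⁻¹)) = m * (a * m * a⁻¹) * a := by
    intro m hm
    calc a * (m * (a * m * a⁻¹)) = a * m * a⁻¹ * ((a * a) * m) * a⁻¹ := by group
      _ = a * m * a⁻¹ * (m * (a * a)) * a⁻¹ := by rw [hcomm _ ha m hm]
      _ = a * m * a⁻¹ * m * a := by group
      _ = m * (a * m * a⁻¹) * a := by rw [hcomm _ (hconj m hm) m hm]
  rcases hg with hg | hg <;> rcases hh with hh | hh
  · rw [show ⁅g, h⁆ = 1 from commutatorElement_eq_one_iff_mul_comm.mpr (hcomm g hg h hh)]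
    rw [mul_one, one_mul]
  · have e : ⁅g, h⁆ = g * (a * g * a⁻¹) := by
      set n := h * a⁻¹ with hn
      have hh' : h = n * a := by rw [hn, inv_mul_cancel_right]
      rw [hh', commutatorElement_def, hinv g hg, mul_inv_rev]
      calc g * (n * a) * g * (a⁻¹ * n⁻¹) = g * (n * (a * g * a⁻¹)) * n⁻¹ := by group
        _ = g * ((a * g * a⁻¹) * n) * n⁻¹ := by rw [hcomm n hh _ (hconj g hg)]
        _ = g * (a * g * a⁻¹) := by group
    rw [e, hfix g hg]
  · have e : ⁅g, h⁆ = h * (a * h * a⁻¹) := by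
      set m := g * a⁻¹ with hm
      have hg' : g = m * a := by rw [hm, inv_mul_cancel_right]
      rw [hg', commutatorElement_def, hinv h hh, mul_inv_rev]
      calc m * a * h * (a⁻¹ * m⁻¹) * h = (m * (a * h * a⁻¹)) * m⁻¹ * h := by group
        _ = ((a * h * a⁻¹) * m) * m⁻¹ * h := by rw [hcomm m hg _ (hconj h hh)]
        _ = (a * h * a⁻¹) * h := by group
        _ = h * (a * h * a⁻¹) := hcomm _ (hconj h hh) h hh
    rw [e, hfix h hh]
  · set m := g * a⁻¹ with hm
    set n := h * a⁻¹ with hn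
    have hg' : g = m * a := by rw [hm, inv_mul_cancel_right]
    have hh' : h = n * a := by rw [hn, inv_mul_cancel_right]
    have e : ⁅g, h⁆ = m * (a * m * a⁻¹) * (n * (a * n * a⁻¹)) := by
      have ham := hconj m hg
      have han := hconj n hh
      rw [hg', hh', commutatorElement_def]
      calc m * a * (n * a) * (m * a)⁻¹ * (n * a)⁻¹
          = m * (a * n * a⁻¹) * (a * m⁻¹ * a⁻¹) * n⁻¹ := by group
        _ = m * ((a * n * a⁻¹) * (a * m * a⁻¹)) * n := by
            rw [hinv m hg, hinv n hh]; group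
        _ = m * ((a * m * a⁻¹) * (a * n * a⁻¹)) * n := by rw [hcomm _ han _ ham]
        _ = m * (a * m * a⁻¹) * ((a * n * a⁻¹) * n) := by group
        _ = m * (a * m * a⁻¹) * (n * (a * n * a⁻¹)) := by rw [hcomm _ han n hh]
    rw [e, ← mul_assoc a, hfix m hg, mul_assoc, hfix n hh, ← mul_assoc]

variable {q : ℕ} {M : Type*} [CommGroup M] (S : Space q E M)

theorem sign_of_sq [Finite E] {D : Subgroup E} (hnd : ∀ v ∈ D, (∀ w ∈ D, S.β v w = 1) → v = 1)
    (hcard : Nat.card D ≤ q ^ 2) {g : MulAut E} (hg : S.Iso g) (hgD : ∀ v ∈ D, g v ∈ D)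
    (h2 : ∀ v ∈ D, g (g v) = v) : IsSign g D := by
  have hle : D ⊓ inverted g ≤ D := inf_le_left
  rcases S.card_cases (S.nondeg_part hg hnd hgD h2)
    ((Nat.le_of_dvd Nat.card_pos (Subgroup.card_dvd_of_le hle)).trans hcard) with h | h
  · refine Or.inl fun v hv => ?_
    obtain ⟨a, -, b, hb, hga, hgb, rfl⟩ := S.decompose g hgD h2 hv
    have hb1 : b = 1 := Subgroup.mem_bot.mp (h ▸ (Subgroup.mem_inf.mpr ⟨hb, hgb⟩))
    rw [hb1, mul_one, hga]
  · refine Or.inr fun v hv => ?_
    have := inf_eq_left.mp (Subgroup.eq_of_le_of_card_ge hle (hcard.trans h.ge))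
    exact mem_inverted.mp (this hv)

/-- On a nine-element plane the square of a 2-element is a sign. -/
theorem sq_sign [Finite E] (hq : q = 3) {D : Subgroup E}
    (hnd : ∀ v ∈ D, (∀ w ∈ D, S.β v w = 1) → v = 1) (hcard : Nat.card D = 9) {g : MulAut E}
    (hg : S.Iso g) (hgD : ∀ v ∈ D, g v ∈ D) {j : ℕ} (hgj : g ^ 2 ^ j = 1) :
    IsSign (g * g) D := by
  subst hq
  by_cases hall : ∀ v ∈ D, g v = v ∨ g v = v⁻¹
  · refine Or.inl fun v hv => ?_
    rw [MulAut.mul_apply]
    rcases hall v hv with h | h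
    · rw [h, h]
    · rw [h, map_inv, h, inv_inv]
  push Not at hall
  obtain ⟨v, hv, hne1, hne2⟩ := hall
  set w := g v with hw
  have hw' : w ∈ D := hgD v hv
  have hv1 : v ≠ 1 := fun h => hne1 (by rw [hw, h, map_one])
  have hv3 : orderOf v = 3 := orderOf_eq_prime (S.pow v) hv1
  -- `D` is generated by `v` and `g v`
  have hwv : w ∉ Subgroup.zpowers v := by
    rintro ⟨i, hi⟩
    have h3 : i % 3 = 0 ∨ i % 3 = 1 ∨ i % 3 = 2 := by omega
    have hmod : v ^ i = v ^ (i % 3) := by
      conv_lhs => rw [← zpow_mod_orderOf, hv3]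
      norm_num
    simp only at hi
    rw [hmod] at hi
    rcases h3 with h | h | h <;> rw [h] at hi
    · rw [zpow_zero] at hi
      exact hv1 (g.injective (by rw [← hw, ← hi, map_one]))
    · rw [zpow_one] at hi
      exact hne1 hi.symm
    · refine hne2 ?_
      rw [← hi, eq_inv_iff_mul_eq_one]
      rw [show v ^ (2 : ℤ) * v = v ^ 3 by group, S.pow]
  have hgen : Subgroup.zpowers v ⊔ Subgroup.zpowers w = D := by
    refine Subgroup.eq_of_le_of_card_ge
      (sup_le (Subgroup.zpowers_le.mpr hv) (Subgroup.zpowers_le.mpr hw')) ?_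
    have hlt : Nat.card (Subgroup.zpowers v) <
        Nat.card (Subgroup.zpowers v ⊔ Subgroup.zpowers w : Subgroup E) := by
      refine lt_of_le_of_ne (Subgroup.card_le_of_le le_sup_left) fun h => hwv ?_
      rw [Subgroup.eq_of_le_of_card_ge le_sup_left h.ge]
      exact Subgroup.mem_sup_right (Subgroup.mem_zpowers w)
    have hdvd := Subgroup.card_dvd_of_le
      (sup_le (Subgroup.zpowers_le.mpr hv) (Subgroup.zpowers_le.mpr hw') :
        Subgroup.zpowers v ⊔ Subgroup.zpowers w ≤ D)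
    rw [Nat.card_zpowers, hv3] at hlt
    rw [hcard] at hdvd ⊢
    have h9 := Nat.le_of_dvd (by norm_num) hdvd
    generalize Nat.card (Subgroup.zpowers v ⊔ Subgroup.zpowers w : Subgroup E) = N at hlt hdvd h9 ⊢
    interval_cases N <;> omega
  have hexp : ∀ u ∈ D, ∃ i k : ℤ, u = v ^ i * w ^ k := by
    intro u hu
    rw [← hgen] at hu
    obtain ⟨_, ⟨i, rfl⟩, _, ⟨k, rfl⟩, rfl⟩ := Subgroup.mem_sup.mp hu
    exact ⟨i, k, rfl⟩
  obtain ⟨i, k, hik⟩ := hexp _ (hgD w hw')
  have hvw : S.β v w ≠ 1 := by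
    intro h
    refine hv1 (hnd v hv fun u hu => ?_)
    obtain ⟨i, k, rfl⟩ := hexp u hu
    rw [map_mul, map_zpow, map_zpow, S.alt, h, one_zpow, one_zpow, mul_one]
  have hi : v ^ i = v⁻¹ := by
    have h1 : S.β v w = (S.β w v) ^ i := by
      conv_lhs => rw [← hg v w, ← hw, hik, map_mul, map_zpow, map_zpow, S.alt, one_zpow, mul_one]
    have h2 : S.β v w ^ (1 + i) = 1 := by
      rw [S.skew w v, inv_zpow] at h1
      rw [zpow_add, zpow_one]
      nth_rewrite 1 [h1]
      rw [inv_mul_cancel]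
    have h3 : S.β v w ^ 3 = 1 := by rw [← MonoidHom.pow_apply, ← map_pow, S.pow, map_one]; rfl
    have ho : orderOf (S.β v w) = 3 := orderOf_eq_prime h3 hvw
    obtain ⟨t, ht⟩ := orderOf_dvd_iff_zpow_eq_one.mpr h2
    rw [ho] at ht
    rw [eq_inv_iff_mul_eq_one, ← zpow_add_one, show i + 1 = ((3 : ℕ) : ℤ) * t by omega, zpow_mul,
      zpow_natCast, S.pow, one_zpow]
  rw [hi] at hik
  have hw3 : w ^ (3 : ℕ) = 1 := S.pow w
  have hk : w ^ k = 1 ∨ w ^ k = w ∨ w ^ k = w⁻¹ := by
    have hw1 : w ≠ 1 := fun h => hv1 (g.injective (by rw [← hw, h, map_one]))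
    have ho : orderOf w = 3 := orderOf_eq_prime hw3 hw1
    have hmod : w ^ k = w ^ (k % 3) := by
      conv_lhs => rw [← zpow_mod_orderOf, ho]
      norm_num
    have h3 : k % 3 = 0 ∨ k % 3 = 1 ∨ k % 3 = 2 := by omega
    rcases h3 with h | h | h <;> rw [hmod, h]
    · exact Or.inl (zpow_zero w)
    · exact Or.inr (Or.inl (zpow_one w))
    · refine Or.inr (Or.inr ?_)
      rw [eq_inv_iff_mul_eq_one, show w ^ (2 : ℤ) * w = w ^ 3 by group, hw3]
  rcases hk with hk | hk
  · rw [hk, mul_one] at hik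
    refine Or.inr fun u hu => ?_
    obtain ⟨i, k, rfl⟩ := hexp u hu
    rw [MulAut.mul_apply, map_mul, map_mul, map_zpow, map_zpow, map_zpow, map_zpow, ← hw, hik,
      map_inv, ← hw, mul_inv, inv_zpow, inv_zpow]
  · exfalso
    -- `g` would have order three on `D`
    have h6 : ((g * g) ^ 3) v = v := by
      simp only [pow_succ, pow_zero, one_mul, MulAut.mul_apply, ← hw]
      rcases hk with hk | hk <;> rw [hk] at hik
      · have e1 : g (g w) = v⁻¹ := by
          rw [hik, map_mul, map_inv, ← hw, hik, mul_comm, mul_assoc, mul_inv_cancel, mul_one]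
        rw [e1, map_inv, map_inv, map_inv, ← hw, e1, inv_inv]
      · have e1 : g (g w) = v := by
          rw [hik, map_mul, map_inv, map_inv, ← hw, hik, mul_inv, inv_inv, inv_inv,
            mul_left_comm, inv_mul_cancel, mul_one]
        rw [e1, ← hw, e1]
    have h2j : ((g * g) ^ 2 ^ j) v = v := by
      rw [← sq, ← pow_mul, mul_comm, pow_mul, hgj, one_pow, MulAut.one_apply]
    let St : Subgroup (MulAut E) :=
      { carrier := {f | f v = v}
        one_mem' := rfl
        mul_mem' := fun {a b} (ha : a v = v) (hb : b v = v) => by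
          show (a * b) v = v
          rw [MulAut.mul_apply, hb, ha]
        inv_mem' := fun {a} (ha : a v = v) => by
          show a⁻¹ v = v
          nth_rewrite 1 [← ha]
          exact MulAut.inv_apply_self E a v }
    have hg2 : g * g ∈ St := by
      have h1 : ((g * g) ^ (3 : ℤ)) ∈ St := by
        rw [show (3 : ℤ) = ((3 : ℕ) : ℤ) from rfl, zpow_natCast]; exact h6
      have h2 : ((g * g) ^ ((2 ^ j : ℕ) : ℤ)) ∈ St := by rw [zpow_natCast]; exact h2j
      have hcop : Nat.Coprime 3 (2 ^ j) := Nat.Coprime.pow_right _ (by norm_num)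
      have hbez : ((3 : ℕ) : ℤ) * Nat.gcdA 3 (2 ^ j) + ((2 ^ j : ℕ) : ℤ) * Nat.gcdB 3 (2 ^ j) = 1 := by
        rw [← Nat.gcd_eq_gcd_ab, hcop]; rfl
      have := St.mul_mem (St.zpow_mem h1 (Nat.gcdA 3 (2 ^ j)))
        (St.zpow_mem h2 (Nat.gcdB 3 (2 ^ j)))
      rw [← zpow_mul, ← zpow_mul, ← zpow_add] at this
      rwa [show (3 : ℤ) = ((3 : ℕ) : ℤ) from rfl, hbez, zpow_one] at this
    have hg2' : g w = v := hg2
    rw [hik] at hg2'
    rcases hk with hk | hk <;> rw [hk] at hg2'
    · exact hwv ⟨2, by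
        show v ^ (2 : ℤ) = w
        rw [zpow_two]; nth_rewrite 2 [← hg2']; rw [mul_inv_cancel_left]⟩
    · refine hwv ⟨-2, ?_⟩
      show v ^ (-2 : ℤ) = w
      rw [zpow_neg, zpow_two, inv_eq_iff_eq_inv]
      nth_rewrite 2 [← hg2']
      rw [mul_inv_cancel_left]

/-- Commutators of 2-elements are signs on a nine-element plane. -/
theorem commutator_sign [Finite E] (hq : q = 3) {D : Subgroup E}
    (hnd : ∀ v ∈ D, (∀ w ∈ D, S.β v w = 1) → v = 1) (hcard : Nat.card D = 9)
    {Q : Subgroup (MulAut E)} (hQ : IsPGroup 2 Q) (hiso : ∀ g ∈ Q, S.Iso g)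
    (hQD : ∀ g ∈ Q, ∀ v ∈ D, g v ∈ D) {g h : MulAut E} (hg : g ∈ Q) (hh : h ∈ Q) :
    IsSign ⁅g, h⁆ D := by
  have hsq : ∀ f ∈ Q, IsSign (f * f) D := fun f hf => by
    obtain ⟨j, hj⟩ := hQ ⟨f, hf⟩
    exact sq_sign S hq hnd hcard (hiso f hf) (hQD f hf) (congrArg Subtype.val hj)
  rw [show ⁅g, h⁆ = g * h * (g * h) * (h⁻¹ * g⁻¹ * h * (h⁻¹ * g⁻¹ * h)) * (h⁻¹ * h⁻¹) by
    simp only [commutatorElement_def]; group]
  exact ((hsq _ (Q.mul_mem hg hh)).mul
    (hsq _ (Q.mul_mem (Q.mul_mem (Q.inv_mem hh) (Q.inv_mem hg)) hh))).mul (hsq _ (Q.inv_mem hh))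

/-! ### The quadratic configurations -/

variable {K : Type*} [Field K] [CharP K 2]
variable {S' : Space q E Kˣ} {Pi : Subgroup (MulAut E)} {Γ : Type*} [Group Γ] {U : Type*}
  [AddCommGroup U] [Module K U] [Nontrivial U]

theorem mul_sub_one_pow {X : Module.End K U} {g : Pi} (ρ : Pi →* Module.End K U)
    (h : X * ρ g = X) : ∀ j : ℕ, X * ρ (g ^ j) = X := by
  intro j
  induction j with
  | zero => rw [pow_zero, map_one, mul_one]
  | succ j ih => rw [pow_succ, map_mul, ← mul_assoc, ih, h]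

theorem exists_top_involution (hP : IsPGroup 2 Pi) {c : Pi} (hc : c ≠ 1) :
    ∃ j : ℕ, c ^ 2 ^ j ≠ 1 ∧ c ^ 2 ^ j * c ^ 2 ^ j = 1 := by
  obtain ⟨k, hk⟩ := hP c
  induction k with
  | zero => exact absurd (by simpa using hk) hc
  | succ k ih =>
    by_cases h : c ^ 2 ^ k = 1
    · exact ih h
    · exact ⟨k, h, by rw [← pow_add, ← two_mul, ← pow_succ', hk]⟩

variable [IsAlgClosed K] [FiniteDimensional K U] [Finite E] [Finite Γ]
variable (L : Loc S' Pi Γ U)

omit [IsAlgClosed K] [FiniteDimensional K U] [Finite E] [Finite Γ] in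
theorem quad_two {B : Subgroup Pi}
    (hBB : ∀ b ∈ B, ∀ b' ∈ B, (L.ρ b - 1) * (L.ρ b' - 1) = 0)
    (hBcomm : ∀ b ∈ B, ∀ b' ∈ B, b * b' = b' * b) {b b' : Pi} (hb : b ∈ B) (hb1 : b ≠ 1)
    (hb' : b' ∈ B) : b' = 1 ∨ b' = b := by
  by_cases h : b' = 1
  · exact Or.inl h
  · exact Or.inr (L.eq_of_quadratic (L.sq_eq_one (hBB b hb b hb)) hb1
      (L.sq_eq_one (hBB b' hb' b' hb')) h (hBcomm b hb b' hb') (hBB b hb b' hb'))

/-- Quadratic action: the involutions of the derived subgroup are tops with roots. -/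
theorem exists_top_root (C : Subgroup Pi)
    (hBB : ∀ b ∈ ⁅C, C⁆, ∀ b' ∈ ⁅C, C⁆, (L.ρ b - 1) * (L.ρ b' - 1) = 0)
    (hBcomm : ∀ b ∈ ⁅C, C⁆, ∀ b' ∈ ⁅C, C⁆, b * b' = b' * b)
    (hBC : ∀ b ∈ ⁅C, C⁆, ∀ c ∈ C, (L.ρ b - 1) * (L.ρ c - 1) = 0)
    {b : Pi} (hb : b ∈ ⁅C, C⁆) (hb1 : b ≠ 1) :
    S'.Top (b : MulAut E) ∧ (∀ b' ∈ ⁅C, C⁆, b' = 1 ∨ b' = b) ∧
      (∀ c ∈ C, ∀ v, (b : MulAut E) v = v → (c : MulAut E) v = v) ∧
      ∃ w ∈ C, S'.Root (w : MulAut E) ∧ w * w = b := by
  have hbC : b ∈ C := C.commutator_le_self hb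
  have hb2 := L.sq_eq_one (hBB b hb b hb)
  have htwo := fun b' hb' => quad_two L hBB hBcomm hb hb1 (b' := b') hb'
  have hcent : ∀ c ∈ C, b * c = c * b := by
    intro c hc
    have hconj : c * b * c⁻¹ ∈ ⁅C, C⁆ := by
      rw [show c * b * c⁻¹ = ⁅c, b⁆ * b by rw [commutatorElement_def]; group]
      exact mul_mem (Subgroup.commutator_mem_commutator hc hbC) hb
    rcases htwo _ hconj with h | h
    · rw [mul_inv_eq_one] at h
      exact absurd (mul_eq_left.mp h) hb1
    · exact (mul_inv_eq_iff_eq_mul.mp h).symm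
  obtain ⟨c, hc, hcc⟩ : ∃ c ∈ C, c * c ≠ 1 := by
    by_contra hall
    push Not at hall
    refine hb1 (Subgroup.mem_bot.mp ?_)
    rw [← Subgroup.commutator_eq_bot_iff_le_centralizer.mpr (fun u hu =>
      Subgroup.mem_centralizer_iff.mpr fun v hv => ?_ : C ≤ Subgroup.centralizer (C : Set Pi))]
    · exact hb
    calc v * u = (v * u)⁻¹ := (inv_eq_of_mul_eq_one_right (hall _ (C.mul_mem hv hu))).symm
      _ = u * v := by
        rw [mul_inv_rev, inv_eq_of_mul_eq_one_right (hall u hu),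
          inv_eq_of_mul_eq_one_right (hall v hv)]
  obtain ⟨j, hj, hj2⟩ := exists_top_involution L.two hcc
  set w := c ^ 2 ^ j
  have hwC : w ∈ C := C.pow_mem hc _
  have hzeq : (c * c) ^ 2 ^ j = w * w := (Commute.refl c).mul_pow _
  rw [hzeq] at hj hj2
  have hwb : w * w = b := L.eq_of_quadratic hb2 hb1 hj2 hj (hcent _ (C.mul_mem hwC hwC))
    (hBC b hb _ (C.mul_mem hwC hwC))
  have hw4 : w ^ 2 ^ 2 = 1 := by
    rw [show (2 : ℕ) ^ 2 = 2 * 2 from rfl, pow_mul, sq, sq, hwb, hb2]
  have hN : ∑ k ∈ Finset.range (2 ^ 2), L.ρ w ^ k = 0 := by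
    have h := hBC b hb w hwC
    rw [← hwb, map_mul] at h
    simp only [Loc.sub_eq_add'] at h
    rw [← h]
    simp only [show (2 : ℕ) ^ 2 = 4 from rfl, Finset.sum_range_succ, Finset.sum_range_zero,
      zero_add, pow_succ, pow_zero, one_mul]
    noncomm_ring
  have hbS : S'.Iso (b : MulAut E) := L.iso b b.2
  have hb2' : (b : MulAut E) * (b : MulAut E) = 1 := congrArg Subtype.val hb2
  have hnd : ∀ v ∈ inverted (b : MulAut E), (∀ u ∈ inverted (b : MulAut E), S'.β v u = 1) →
      v = 1 := fun v hv h =>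
    S'.nondeg_part hbS (D := ⊤) (fun v _ hall => S'.nondeg v fun u => hall u trivial)
      (fun _ _ => trivial) (fun v _ => by rw [← MulAut.mul_apply, hb2', MulAut.one_apply]) v
      ⟨trivial, hv⟩ fun u hu => h u hu.2
  obtain ⟨hdvd, -⟩ := L.norm_bound (e := 2) (by norm_num) hw4 ⊤ top_ne_bot
    (fun _ _ => trivial) (fun u _ => by rw [hN, LinearMap.zero_apply])
    (D := inverted (b : MulAut E)) hnd (fun v hv => by
      have hcoe : (b : MulAut E) * (w : MulAut E) = (w : MulAut E) * (b : MulAut E) :=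
        congrArg Subtype.val (hcent w hwC)
      rw [mem_inverted, ← MulAut.mul_apply, hcoe, MulAut.mul_apply, mem_inverted.mp hv, map_inv])
    (fun v hv => by
      rw [show (2 : ℕ) ^ (2 - 1) = 2 from rfl, sq]
      have : ((w * w : Pi) : MulAut E) v = v⁻¹ := by rw [hwb]; exact hv
      exact this)
    (fun v hv => by
      obtain ⟨u, hu⟩ := L.π_surjective v
      exact ⟨u, hu, fun _ _ => trivial⟩)
  have htop : S'.Top (b : MulAut E) := ⟨hbS, hb2', fun h => hb1 (Subtype.ext h),
    Nat.le_of_dvd (pow_pos S'.prime.pos 2) hdvd⟩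
  have hfix : ∀ c ∈ C, ∀ v, (b : MulAut E) v = v → (c : MulAut E) v = v := fun c hc v hv =>
    L.fix_fixed hb2 hb1 (hcent c hc) (hBC b hb c hc) hv
  have hwb' : (w : MulAut E) * (w : MulAut E) = (b : MulAut E) := congrArg Subtype.val hwb
  exact ⟨htop, htwo, hfix, w, hwC, ⟨L.iso w w.2, by rw [hwb']; exact htop,
    fun v hv => hfix w hwC v (by rwa [hwb'] at hv)⟩, hwb⟩

omit [Nontrivial U] [IsAlgClosed K] [FiniteDimensional K U] [Finite E] [Finite Γ] [CharP K 2] in
theorem inverts_central {b : MulAut E} (hinv : ∀ v, b v = v⁻¹) (g : MulAut E) : b * g = g * b :=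
  MulEquiv.ext fun v => by rw [MulAut.mul_apply, MulAut.mul_apply, hinv, hinv, map_inv]

/-- If everything is inverted by `b`, the chain through `D` is impossible. -/
theorem absurd_inverted (C D : Subgroup Pi) (hC : C = ⁅D, D⁆)
    (hBB : ∀ b ∈ ⁅C, C⁆, ∀ b' ∈ ⁅C, C⁆, (L.ρ b - 1) * (L.ρ b' - 1) = 0)
    (hBcomm : ∀ b ∈ ⁅C, C⁆, ∀ b' ∈ ⁅C, C⁆, b * b' = b' * b)
    (hBCC : ∀ b ∈ ⁅C, C⁆, ∀ c ∈ C, ∀ c' ∈ C, (L.ρ b - 1) * (L.ρ c - 1) * (L.ρ c' - 1) = 0)
    (hcase : (∀ b ∈ ⁅C, C⁆, ∀ c ∈ C, ∀ g ∈ D, (L.ρ b - 1) * (L.ρ c - 1) * (L.ρ g - 1) = 0) ∨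
      ∃ F : Subgroup Pi, D = ⁅F, F⁆)
    {b : Pi} (hb : b ∈ ⁅C, C⁆) (hb1 : b ≠ 1) (hinv : ∀ v, (b : MulAut E) v = v⁻¹) : False := by
  classical
  have : Finite (MulAut E) := Finite.of_injective (fun f : MulAut E => (f : E → E))
    fun f g h => MulEquiv.ext fun v => congrFun h v
  have : Fact (Nat.Prime 2) := ⟨Nat.prime_two⟩
  have hbC : b ∈ C := C.commutator_le_self hb
  have hb2 := L.sq_eq_one (hBB b hb b hb)
  have hcentb : ∀ g : Pi, b * g = g * b := fun g => Subtype.ext (inverts_central hinv g)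
  have htwo := fun b' hb' => quad_two L hBB hBcomm hb hb1 (b' := b') hb'
  have hCD : C ≤ D := hC ▸ D.commutator_le_self
  -- squares
  have hX : ∀ c ∈ C, (L.ρ b - 1) * L.ρ (c * c) = L.ρ b - 1 := by
    intro c hc
    have h := hBCC b hb c hc c hc
    have e : (L.ρ b - 1) * (L.ρ c - 1) * (L.ρ c - 1) = (L.ρ b - 1) * (L.ρ (c * c) - 1) := by
      rw [map_mul, mul_assoc]
      simp only [Loc.sub_eq_add']
      rw [show (L.ρ c + 1) * (L.ρ c + 1) = L.ρ c * L.ρ c + 1 + (L.ρ c + L.ρ c) by noncomm_ring,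
        Loc.one_add_one, add_zero]
    rw [e, mul_sub, mul_one, sub_eq_zero] at h
    exact h
  have hexp : ∀ c ∈ C, c * c = 1 ∨ c * c = b := by
    intro c hc
    by_cases h1 : c * c = 1
    · exact Or.inl h1
    obtain ⟨j, hj, hj2⟩ := exists_top_involution L.two h1
    have hzb : (c * c) ^ 2 ^ j = b := L.eq_of_quadratic hb2 hb1 hj2 hj (hcentb _) (by
      rw [mul_sub, mul_sub_one_pow L.ρ (hX c hc), mul_one, sub_self])
    rcases Nat.eq_zero_or_pos j with rfl | hj0
    · right; simpa using hzb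
    exfalso
    set w := (c * c) ^ 2 ^ (j - 1) with hw
    have hwb : w * w = b := by
      rw [hw, ← pow_add, ← two_mul, ← pow_succ', Nat.sub_add_cancel hj0, hzb]
    have hw4 : w ^ 2 ^ 2 = 1 := by
      rw [show (2 : ℕ) ^ 2 = 2 * 2 from rfl, pow_mul, sq, sq, hwb, hb2]
    have hN : ∑ k ∈ Finset.range (2 ^ 2), L.ρ w ^ k = 0 := by
      have h : (L.ρ b - 1) * (L.ρ w - 1) = 0 := by
        rw [mul_sub, mul_sub_one_pow L.ρ (hX c hc), mul_one, sub_self]
      rw [← hwb, map_mul] at h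
      simp only [Loc.sub_eq_add'] at h
      rw [← h]
      simp only [show (2 : ℕ) ^ 2 = 4 from rfl, Finset.sum_range_succ, Finset.sum_range_zero,
        zero_add, pow_succ, pow_zero, one_mul]
      noncomm_ring
    have hnd : ∀ v ∈ (⊤ : Subgroup E), (∀ u ∈ (⊤ : Subgroup E), S'.β v u = 1) → v = 1 :=
      fun v _ h => S'.nondeg v fun u => h u trivial
    obtain ⟨hdvd, hq3⟩ := L.norm_bound (e := 2) (by norm_num) hw4 ⊤ top_ne_bot
      (fun _ _ => trivial) (fun u _ => by rw [hN, LinearMap.zero_apply])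
      (D := ⊤) hnd (fun _ _ => trivial) (fun v _ => by
        rw [show (2 : ℕ) ^ (2 - 1) = 2 from rfl, sq]
        have : ((w * w : Pi) : MulAut E) v = v⁻¹ := by rw [hwb]; exact hinv v
        exact this)
      (fun v _ => by
        obtain ⟨u, hu⟩ := L.π_surjective v
        exact ⟨u, hu, fun _ _ => trivial⟩)
    have hne : (⊤ : Subgroup E) ≠ ⊥ := by
      intro h
      refine hb1 (Subtype.ext (MulEquiv.ext fun v => ?_))
      have hv : v = 1 := Subgroup.mem_bot.mp (h ▸ Subgroup.mem_top v)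
      rw [hv, map_one, map_one]
    have hq := hq3 rfl hne
    have hc9 : Nat.card (⊤ : Subgroup E) = 9 := by
      rcases S'.card_cases hnd (Nat.le_of_dvd (pow_pos S'.prime.pos 2) hdvd) with h | h
      · exact absurd h hne
      · rw [h, hq]; rfl
    obtain ⟨i, hi⟩ := L.two c
    have hs := sq_sign S' hq hnd hc9 (L.iso c c.2) (fun _ _ => trivial) (g := (c : MulAut E))
      (j := i) (congrArg Subtype.val hi)
    have h4 : (c * c) * (c * c) = 1 := by
      refine Subtype.ext (MulEquiv.ext fun v => ?_)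
      show ((c : MulAut E) * c * ((c : MulAut E) * c)) v = v
      rcases hs with h | h
      · rw [MulAut.mul_apply, h v trivial, h v trivial]
      · rw [MulAut.mul_apply, h v trivial, map_inv, h v trivial, inv_inv]
    refine hb1 ?_
    rw [← hzb, show 2 ^ j = 2 * 2 ^ (j - 1) by rw [← pow_succ', Nat.sub_add_cancel hj0], pow_mul,
      sq, h4, one_pow]
  -- a central involution of `C` other than `b`
  obtain ⟨y, hyC, hy2, hyZ, hy1, hyb⟩ : ∃ y ∈ C, y * y = 1 ∧ (∀ c ∈ C, y * c = c * y) ∧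
      y ≠ 1 ∧ y ≠ b := by
    by_contra hno
    push Not at hno
    set C' : Subgroup D := C.subgroupOf D
    set Zc' : Subgroup D := (C ⊓ Subgroup.centralizer (C : Set Pi)).subgroupOf D
    have hDC : ∀ g ∈ D, ∀ c ∈ C, g * c * g⁻¹ ∈ C := by
      intro g hg c hc
      rw [show g * c * g⁻¹ = ⁅g, c⁆ * c by rw [commutatorElement_def]; group]
      refine C.mul_mem ?_ hc
      rw [hC]
      exact Subgroup.commutator_mem_commutator hg (hCD hc)
    have hC'n : C'.Normal := ⟨fun u hu g => hDC g g.2 u hu⟩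
    have hZn : Zc'.Normal := ⟨fun u hu g => ⟨hDC g g.2 u hu.1,
      Subgroup.mem_centralizer_iff.mpr fun c hc => by
        have hc' : (g : Pi)⁻¹ * c * g ∈ C := by
          simpa using hDC (g : Pi)⁻¹ (D.inv_mem g.2) c hc
        calc c * ((g : Pi) * u * (g : Pi)⁻¹) = (g : Pi) * (((g : Pi)⁻¹ * c * g) * u) * (g : Pi)⁻¹ := by
              group
          _ = (g : Pi) * ((u : Pi) * ((g : Pi)⁻¹ * c * g)) * (g : Pi)⁻¹ := by
              have h1 : (g : Pi)⁻¹ * c * g * (u : Pi) = (u : Pi) * ((g : Pi)⁻¹ * c * g) :=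
                Subgroup.mem_centralizer_iff.mp hu.2 _ hc'
              rw [h1]
          _ = (g : Pi) * u * (g : Pi)⁻¹ * c := by group⟩⟩
    have hne : C'.map (QuotientGroup.mk' Zc') ≠ ⊥ := fun h => by
      rw [Subgroup.map_eq_bot_iff, QuotientGroup.ker_mk'] at h
      refine hb1 (Subgroup.mem_bot.mp ?_)
      rw [← Subgroup.commutator_eq_bot_iff_le_centralizer.mpr
        (fun u hu => (h (show (⟨u, hCD hu⟩ : D) ∈ C' from hu)).2 :
          C ≤ Subgroup.centralizer (C : Set Pi))]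
      exact hb
    have : (C'.map (QuotientGroup.mk' Zc')).Normal :=
      hC'n.map _ (QuotientGroup.mk'_surjective _)
    obtain ⟨⟨v, hv⟩, hv1⟩ : ∃ v : ↥(C'.map (QuotientGroup.mk' Zc') ⊓ Subgroup.center (D ⧸ Zc')),
        v ≠ 1 := by
      have := (Subgroup.nontrivial_iff_ne_bot _).mpr (Cfsg.Agent.PGroupsBasic.inf_center_ne_bot
        ((L.two.to_subgroup D).to_quotient Zc') hne)
      exact exists_ne 1
    obtain ⟨⟨u, hu, huv⟩, hvc⟩ := hv
    have huZ : (u : Pi) ∉ C ⊓ Subgroup.centralizer (C : Set Pi) := fun h => hv1 (Subtype.ext (by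
      show v = 1
      rw [← huv]; exact (QuotientGroup.eq_one_iff u).mpr h))
    have hζ : ∀ g ∈ D, ⁅g, (u : Pi)⁆ = 1 ∨ ⁅g, (u : Pi)⁆ = b := by
      intro g hg
      have hmem : ⁅(⟨g, hg⟩ : D), u⁆ ∈ Zc' := by
        rw [← QuotientGroup.eq_one_iff]
        show QuotientGroup.mk' Zc' ⁅(⟨g, hg⟩ : D), u⁆ = 1
        rw [map_commutatorElement, huv, commutatorElement_eq_one_iff_mul_comm]
        exact Subgroup.mem_center_iff.mp hvc _
      set ζ := ⁅g, (u : Pi)⁆ with hζ
      have hζm : ζ ∈ C ⊓ Subgroup.centralizer (C : Set Pi) := hmem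
      have hζc : ∀ c ∈ C, ζ * c = c * ζ := fun c hc =>
        (Subgroup.mem_centralizer_iff.mp hζm.2 c hc).symm
      have hζ2 : ζ * ζ = 1 := by
        have e1 : g * (u : Pi) * g⁻¹ = ζ * u := by rw [hζ, commutatorElement_def]; group
        have e2 : g * ((u : Pi) * u) * g⁻¹ = ζ * ζ * ((u : Pi) * u) := by
          calc g * ((u : Pi) * u) * g⁻¹ = g * (u : Pi) * g⁻¹ * (g * (u : Pi) * g⁻¹) := by group
            _ = ζ * ((u : Pi) * ζ) * u := by rw [e1]; group
            _ = ζ * ζ * ((u : Pi) * u) := by rw [← hζc u hu]; group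
        have e3 : g * ((u : Pi) * u) * g⁻¹ = (u : Pi) * u := by
          rcases hexp u hu with h | h <;> rw [h]
          · group
          · rw [← hcentb g, mul_inv_cancel_right]
        rw [e3] at e2
        exact mul_eq_right.mp e2.symm
      by_cases h : ζ = 1
      · exact Or.inl h
      · exact Or.inr (hno ζ hζm.1 hζ2 hζc h)
    -- the squares of `D` centralise `u`
    have hsq : ∀ g ∈ D, g * g * (u : Pi) = u * (g * g) := by
      intro g hg
      have e1 : g * (u : Pi) * g⁻¹ = ⁅g, (u : Pi)⁆ * u := by rw [commutatorElement_def]; group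
      refine mul_inv_eq_iff_eq_mul.mp ?_
      rw [mul_inv_rev, show g * g * (u : Pi) * (g⁻¹ * g⁻¹) = g * (g * (u : Pi) * g⁻¹) * g⁻¹ by group,
        e1]
      rcases hζ g hg with h | h <;> rw [h]
      · rw [one_mul, e1, h, one_mul]
      · rw [show g * (b * (u : Pi)) * g⁻¹ = g * b * g⁻¹ * (g * (u : Pi) * g⁻¹) by group,
          ← hcentb g, mul_inv_cancel_right, e1, h, ← mul_assoc, hb2, one_mul]
    refine huZ ⟨hu, ?_⟩
    have hle : C ≤ Subgroup.centralizer {(u : Pi)} := by
      rw [hC, Subgroup.commutator_le]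
      intro g hg h hh
      rw [Subgroup.mem_centralizer_singleton_iff]
      have e : ⁅g, h⁆ = g * h * (g * h) * (h⁻¹ * g⁻¹ * h * (h⁻¹ * g⁻¹ * h)) * (h⁻¹ * h⁻¹) := by
        simp only [commutatorElement_def]; group
      rw [e]
      exact ((Commute.mul_left (hsq _ (D.mul_mem hg hh))
        (hsq _ (D.mul_mem (D.mul_mem (D.inv_mem hh) (D.inv_mem hg)) hh))).mul_left
        (hsq _ (D.inv_mem hh))).eq
    exact Subgroup.mem_centralizer_iff.mpr fun c hc =>
      Subgroup.mem_centralizer_singleton_iff.mp (hle hc)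
  -- the two planes
  have hb2' : (b : MulAut E) * (b : MulAut E) = 1 := congrArg Subtype.val hb2
  have plane : ∀ y : Pi, y ∈ C → y * y = 1 → (∀ c ∈ C, y * c = c * y) → y ≠ 1 → y ≠ b →
      q = 3 ∧ Nat.card (fixed (y : MulAut E)) = 9 ∧
      (∀ v ∈ fixed (y : MulAut E), (∀ w ∈ fixed (y : MulAut E), S'.β v w = 1) → v = 1) := by
    intro y hyC hy2 hyZ hy1 hyb
    have hy2' : (y : MulAut E) * (y : MulAut E) = 1 := congrArg Subtype.val hy2
    set D2 := fixed (y : MulAut E) with hD2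
    have hnd : ∀ v ∈ D2, (∀ w ∈ D2, S'.β v w = 1) → v = 1 := by
      intro v hv h
      refine S'.nondeg v fun w => ?_
      obtain ⟨a, i, ha, hi, rfl⟩ := S'.exists_decomp hy2' w
      rw [map_mul, h a ha, one_mul]
      exact S'.orth (L.iso y y.2) hv hi
    have hne : D2 ≠ ⊥ := by
      intro h
      refine hyb (Subtype.ext (MulEquiv.ext fun v => ?_))
      obtain ⟨a, i, ha, hi, rfl⟩ := S'.exists_decomp hy2' v
      have ha1 : a = 1 := Subgroup.mem_bot.mp (h ▸ (ha : a ∈ D2))
      rw [ha1, one_mul, hi, hinv]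
    have hpres : ∀ c ∈ C, ∀ v ∈ D2, (c : MulAut E) v ∈ D2 := by
      intro c hc v hv
      show (y : MulAut E) ((c : MulAut E) v) = (c : MulAut E) v
      rw [← MulAut.mul_apply, show (y : MulAut E) * c = c * y from congrArg Subtype.val (hyZ c hc),
        MulAut.mul_apply, hv]
    obtain ⟨c, hc, hcb⟩ : ∃ c ∈ C, c * c = b := by
      by_contra hall
      push Not at hall
      have h1 : ∀ c ∈ C, c * c = 1 := fun c hc => (hexp c hc).resolve_right (hall c hc)
      refine hb1 (Subgroup.mem_bot.mp ?_)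
      rw [← Subgroup.commutator_eq_bot_iff_le_centralizer.mpr (fun u hu =>
        Subgroup.mem_centralizer_iff.mpr fun v hv => ?_ : C ≤ Subgroup.centralizer (C : Set Pi))]
      · exact hb
      calc v * u = (v * u)⁻¹ := (inv_eq_of_mul_eq_one_right (h1 _ (C.mul_mem hv hu))).symm
        _ = u * v := by
          rw [mul_inv_rev, inv_eq_of_mul_eq_one_right (h1 u hu),
            inv_eq_of_mul_eq_one_right (h1 v hv)]
    set U0 : Submodule K U := LinearMap.range (L.ρ y - 1)
    have hU0 : U0 ≠ ⊥ := fun h => L.sub_ne_zero_of_ne hy1 (LinearMap.range_eq_bot.mp h)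
    have hcU : ∀ w ∈ U0, L.ρ c w ∈ U0 := by
      rintro _ ⟨w, rfl⟩
      refine ⟨L.ρ c w, ?_⟩
      rw [← Module.End.mul_apply, ← Module.End.mul_apply, sub_mul, mul_sub, one_mul, mul_one,
        ← map_mul, ← map_mul, hyZ c hc]
    have hc4 : c ^ 2 ^ 2 = 1 := by
      rw [show (2 : ℕ) ^ 2 = 2 * 2 from rfl, pow_mul, sq, sq, hcb, hb2]
    have hN : ∀ w ∈ U0, (∑ k ∈ Finset.range (2 ^ 2), L.ρ c ^ k) w = 0 := by
      rintro _ ⟨w, rfl⟩
      have h := hBCC b hb c hc y hyC
      rw [← hcb, map_mul] at h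
      have e : (∑ k ∈ Finset.range (2 ^ 2), L.ρ c ^ k) * (L.ρ y - 1) =
          (L.ρ c * L.ρ c - 1) * (L.ρ c - 1) * (L.ρ y - 1) := by
        simp only [Loc.sub_eq_add', show (2 : ℕ) ^ 2 = 4 from rfl, Finset.sum_range_succ,
          Finset.sum_range_zero, zero_add, pow_succ, pow_zero, one_mul]
        noncomm_ring
      rw [← Module.End.mul_apply, e, h, LinearMap.zero_apply]
    obtain ⟨hdvd, hq3⟩ := L.norm_bound (e := 2) (by norm_num) hc4 U0 hU0 hcU hN hnd
      (hpres c hc) (fun v _ => by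
        rw [show (2 : ℕ) ^ (2 - 1) = 2 from rfl, sq]
        have : ((c * c : Pi) : MulAut E) v = v⁻¹ := by rw [hcb]; exact hinv v
        exact this)
      (fun v hv => by
        obtain ⟨u, hu, hyu⟩ := L.exists_lift_one (g := y) hv
        refine ⟨u, hu, ?_⟩
        rintro _ ⟨w, rfl⟩
        refine ⟨L.r u w, ?_⟩
        rw [← Module.End.mul_apply, ← Module.End.mul_apply, sub_mul, mul_sub, one_mul, mul_one,
          L.commute_of_fixed hyu])
    have hq := hq3 rfl hne
    refine ⟨hq, ?_, hnd⟩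
    rcases S'.card_cases hnd (Nat.le_of_dvd (pow_pos S'.prime.pos 2) hdvd) with h | h
    · exact absurd h hne
    · rw [h, hq]; rfl
  set y' := b * y with hy'
  have hy'2 : y' * y' = 1 := by
    rw [hy', mul_assoc, ← mul_assoc y, ← hcentb y, mul_assoc b y y, hy2, mul_one, hb2]
  have hy'Z : ∀ c ∈ C, y' * c = c * y' := fun c hc => by
    rw [hy', mul_assoc, hyZ c hc, ← mul_assoc, hcentb c, mul_assoc]
  have hy'1 : y' ≠ 1 := fun h => hyb (by
    rw [hy', mul_eq_one_iff_inv_eq] at h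
    rw [← h]; exact inv_eq_of_mul_eq_one_right hb2)
  have hy'b : y' ≠ b := fun h => hy1 (mul_eq_left.mp h)
  obtain ⟨hq, h2card, h2nd⟩ := plane y hyC hy2 hyZ hy1 hyb
  obtain ⟨-, h1card, h1nd⟩ := plane y' (C.mul_mem hbC hyC) hy'2 hy'Z hy'1 hy'b
  set D2 := fixed (y : MulAut E)
  set D1 := fixed (y' : MulAut E)
  have hy2' : (y : MulAut E) * (y : MulAut E) = 1 := congrArg Subtype.val hy2
  have hD1 : ∀ v, v ∈ D1 ↔ (y : MulAut E) v = v⁻¹ := fun v => by
    show (y' : MulAut E) v = v ↔ _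
    rw [hy', Subgroup.coe_mul, MulAut.mul_apply, hinv, inv_eq_iff_eq_inv]
  have hdec : ∀ {g : MulAut E}, (∀ v ∈ D1, g v = v) → (∀ v ∈ D2, g v = v) → g = 1 := by
    intro g h1 h2
    refine MulEquiv.ext fun v => ?_
    obtain ⟨a, i, ha, hi, rfl⟩ := S'.exists_decomp hy2' v
    rw [map_mul, h2 a ha, h1 i ((hD1 i).mpr hi), MulAut.one_apply]
  -- stabilizers of the planes
  have hstab : ∀ g : Pi, g * y = y * g → (∀ v ∈ D2, (g : MulAut E) v ∈ D2) ∧
      ∀ v ∈ D1, (g : MulAut E) v ∈ D1 := by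
    intro g hg
    have hcoe : (g : MulAut E) * y = y * g := congrArg Subtype.val hg
    refine ⟨fun v hv => ?_, fun v hv => ?_⟩
    · show (y : MulAut E) ((g : MulAut E) v) = (g : MulAut E) v
      rw [← MulAut.mul_apply, ← hcoe, MulAut.mul_apply, (hv : (y : MulAut E) v = v)]
    · rw [hD1, ← MulAut.mul_apply, ← hcoe, MulAut.mul_apply, (hD1 v).mp hv, map_inv]
  let St : Subgroup (MulAut E) :=
    (Subgroup.centralizer {(y : MulAut E)}) ⊓ Pi
  have hStmem : ∀ g : Pi, g * y = y * g → (g : MulAut E) ∈ St := fun g hg =>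
    ⟨Subgroup.mem_centralizer_singleton_iff.mpr (congrArg Subtype.val hg), g.2⟩
  have hStp : IsPGroup 2 St := L.two.to_le inf_le_right
  have hSt2 : ∀ g ∈ St, ∀ v ∈ D2, g v ∈ D2 := fun g hg =>
    (hstab ⟨g, hg.2⟩ (Subtype.ext (Subgroup.mem_centralizer_singleton_iff.mp hg.1))).1
  have hSt1 : ∀ g ∈ St, ∀ v ∈ D1, g v ∈ D1 := fun g hg =>
    (hstab ⟨g, hg.2⟩ (Subtype.ext (Subgroup.mem_centralizer_singleton_iff.mp hg.1))).2
  have hsign : ∀ g h : Pi, g * y = y * g → h * y = y * h →
      IsSign (⁅g, h⁆ : Pi).1 D1 ∧ IsSign (⁅g, h⁆ : Pi).1 D2 := fun g h hg hh =>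
    ⟨commutator_sign S' hq h1nd h1card hStp (fun f hf => L.iso f hf.2) hSt1 (hStmem g hg)
        (hStmem h hh),
      commutator_sign S' hq h2nd h2card hStp (fun f hf => L.iso f hf.2) hSt2 (hStmem g hg)
        (hStmem h hh)⟩
  have hsqsign : ∀ g : Pi, g * y = y * g →
      IsSign (g * g : Pi).1 D1 ∧ IsSign (g * g : Pi).1 D2 := fun g hg => by
    obtain ⟨j, hj⟩ := L.two g
    exact ⟨sq_sign S' hq h1nd h1card (L.iso g g.2) (hstab g hg).2 (congrArg Subtype.val hj),
      sq_sign S' hq h2nd h2card (L.iso g g.2) (hstab g hg).1 (congrArg Subtype.val hj)⟩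
  -- the signs
  let Sg : Subgroup Pi :=
    { carrier := {g | IsSign (g : MulAut E) D1 ∧ IsSign (g : MulAut E) D2}
      one_mem' := ⟨Or.inl fun _ _ => rfl, Or.inl fun _ _ => rfl⟩
      mul_mem' := fun {u v} hu hv => ⟨hu.1.mul hv.1, hu.2.mul hv.2⟩
      inv_mem' := fun {u} hu => ⟨hu.1.inv, hu.2.inv⟩ }
  have hSgC : Sg ≤ C := by
    rintro s ⟨h1, h2⟩
    have key : ∀ t : Pi, (∀ v ∈ D1, (s : MulAut E) v = (t : MulAut E) v) →
        (∀ v ∈ D2, (s : MulAut E) v = (t : MulAut E) v) → s = t := by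
      intro t e1 e2
      have h : ((t : MulAut E))⁻¹ * (s : MulAut E) = 1 := hdec
        (fun v hv => by rw [MulAut.mul_apply, e1 v hv, MulAut.inv_apply_self])
        (fun v hv => by rw [MulAut.mul_apply, e2 v hv, MulAut.inv_apply_self])
      exact Subtype.ext (inv_mul_eq_one.mp h).symm
    rcases h1 with h1 | h1 <;> rcases h2 with h2 | h2
    · rw [key 1 (fun v hv => h1 v hv) (fun v hv => h2 v hv)]; exact C.one_mem
    · rw [key y' (fun v hv => by rw [h1 v hv]; exact (hv : (y' : MulAut E) v = v).symm)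
        (fun v hv => by
          rw [h2 v hv, hy', Subgroup.coe_mul, MulAut.mul_apply, (hv : (y : MulAut E) v = v), hinv])]
      exact C.mul_mem hbC hyC
    · rw [key y (fun v hv => by rw [h1 v hv, (hD1 v).mp hv])
        (fun v hv => by rw [h2 v hv]; exact (hv : (y : MulAut E) v = v).symm)]
      exact hyC
    · rw [key b (fun v hv => by rw [h1 v hv, hinv]) (fun v hv => by rw [h2 v hv, hinv])]
      exact hbC
  have hSgcomm : ∀ s ∈ Sg, ∀ g : Pi, g * y = y * g → s * g = g * s := by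
    intro s hs g hg
    refine Subtype.ext (MulEquiv.ext fun v => ?_)
    obtain ⟨a, i, ha, hi, rfl⟩ := S'.exists_decomp hy2' v
    show (s : MulAut E) ((g : MulAut E) (a * i)) = (g : MulAut E) ((s : MulAut E) (a * i))
    rw [map_mul, map_mul, map_mul, map_mul, hs.2.comm (hstab g hg).1 ha,
      hs.1.comm (hstab g hg).2 ((hD1 i).mpr hi)]
  -- conjugates of `y`
  have hconj : ∀ g : Pi, (∀ c ∈ C, g * c * g⁻¹ ∈ C ∧ g⁻¹ * c * g ∈ C) →
      g * y * g⁻¹ = y ∨ g * y * g⁻¹ = y' := by
    intro g hg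
    set y'' := g * y * g⁻¹ with hy''
    have hy''C : y'' ∈ C := (hg y hyC).1
    have hy''2 : y'' * y'' = 1 := by
      rw [hy'', show g * y * g⁻¹ * (g * y * g⁻¹) = g * (y * y) * g⁻¹ by group, hy2, mul_one,
        mul_inv_cancel]
    have hy''y : y'' * y = y * y'' := (hyZ y'' hy''C).symm
    obtain ⟨hp2, hp1⟩ := hstab y'' hy''y
    have hy''e : (y'' : MulAut E) * y'' = 1 := congrArg Subtype.val hy''2
    have hsq'' : ∀ v, (y'' : MulAut E) ((y'' : MulAut E) v) = v := fun v => by
      rw [← MulAut.mul_apply, hy''e, MulAut.one_apply]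
    have s1 := sign_of_sq S' h1nd (by rw [h1card, hq]; norm_num) (L.iso y'' y''.2) hp1
      fun v _ => hsq'' v
    have s2 := sign_of_sq S' h2nd (by rw [h2card, hq]; norm_num) (L.iso y'' y''.2) hp2
      fun v _ => hsq'' v
    have key : ∀ t : Pi, (∀ v ∈ D1, (y'' : MulAut E) v = (t : MulAut E) v) →
        (∀ v ∈ D2, (y'' : MulAut E) v = (t : MulAut E) v) → y'' = t := by
      intro t e1 e2
      have h : ((t : MulAut E))⁻¹ * (y'' : MulAut E) = 1 := hdec
        (fun v hv => by rw [MulAut.mul_apply, e1 v hv, MulAut.inv_apply_self])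
        (fun v hv => by rw [MulAut.mul_apply, e2 v hv, MulAut.inv_apply_self])
      exact Subtype.ext (inv_mul_eq_one.mp h).symm
    rcases s1 with h1 | h1 <;> rcases s2 with h2 | h2
    · exfalso
      have h := key 1 (fun v hv => h1 v hv) (fun v hv => h2 v hv)
      rw [hy'', mul_inv_eq_one, mul_eq_left] at h
      exact hy1 h
    · exact Or.inr (key y' (fun v hv => by rw [h1 v hv]; exact (hv : (y' : MulAut E) v = v).symm)
        fun v hv => by
          rw [h2 v hv, hy', Subgroup.coe_mul, MulAut.mul_apply, (hv : (y : MulAut E) v = v), hinv])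
    · exact Or.inl (key y (fun v hv => by rw [h1 v hv, (hD1 v).mp hv])
        fun v hv => by rw [h2 v hv]; exact (hv : (y : MulAut E) v = v).symm)
    · exfalso
      have h := key b (fun v hv => by rw [h1 v hv, hinv]) (fun v hv => by rw [h2 v hv, hinv])
      rw [hy'', mul_inv_eq_iff_eq_mul, hcentb g, mul_right_inj] at h
      exact hyb h
  have hDn : ∀ g ∈ D, ∀ c ∈ C, g * c * g⁻¹ ∈ C ∧ g⁻¹ * c * g ∈ C := by
    intro g hg c hc
    rw [show g * c * g⁻¹ = ⁅g, c⁆ * c by rw [commutatorElement_def]; group,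
      show g⁻¹ * c * g = ⁅g⁻¹, c⁆ * c by rw [commutatorElement_def]; group]
    constructor <;> refine C.mul_mem ?_ hc <;> rw [hC]
    · exact Subgroup.commutator_mem_commutator hg (hCD hc)
    · exact Subgroup.commutator_mem_commutator (D.inv_mem hg) (hCD hc)
  -- some element of `D` has its square outside the signs; it exchanges the planes
  obtain ⟨g0, hg0, hg0sq⟩ : ∃ g ∈ D, g * g ∉ Sg := by
    by_contra hall
    push Not at hall
    have hCsign : C ≤ Sg := by
      rw [hC, Subgroup.commutator_le]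
      intro g hg h hh
      rw [show ⁅g, h⁆ = g * h * (g * h) * (h⁻¹ * g⁻¹ * h * (h⁻¹ * g⁻¹ * h)) * (h⁻¹ * h⁻¹) by
        simp only [commutatorElement_def]; group]
      exact Sg.mul_mem (Sg.mul_mem (hall _ (D.mul_mem hg hh))
        (hall _ (D.mul_mem (D.mul_mem (D.inv_mem hh) (D.inv_mem hg)) hh))) (hall _ (D.inv_mem hh))
    refine hb1 (Subgroup.mem_bot.mp ?_)
    rw [← Subgroup.commutator_eq_bot_iff_le_centralizer.mpr (fun u hu =>
      Subgroup.mem_centralizer_iff.mpr fun v hv =>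
        hSgcomm v (hCsign hv) u (hyZ u hu).symm : C ≤ Subgroup.centralizer (C : Set Pi))]
    exact hb
  have hg0y : g0 * y ≠ y * g0 := fun h => hg0sq (hsqsign g0 h)
  have hg0' : g0 * y * g0⁻¹ = y' := (hconj g0 (hDn g0 hg0)).resolve_left
    fun h => hg0y (mul_inv_eq_iff_eq_mul.mp h)
  rcases hcase with hq3 | ⟨F, hF⟩
  swap
  · -- the planes are permuted by `F`, whose derived subgroup fixes them
    apply hg0y
    have hFC : ∀ f ∈ F, ∀ c ∈ C, f * c * f⁻¹ ∈ C := by
      intro f hf c hc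
      have hfD : f ∈ Subgroup.normalizer (D : Set Pi) := by
        rw [hF]
        exact Subgroup.normalizer_commutator_ge_left F F hf
      have hfC : f ∈ Subgroup.normalizer (C : Set Pi) := by
        rw [hC, Subgroup.mem_normalizer_iff_map_conj_eq, Subgroup.map_commutator,
          Subgroup.mem_normalizer_iff_map_conj_eq.mp hfD]
      exact (Subgroup.mem_normalizer_iff.mp hfC c).mp hc
    have hperm : ∀ f ∈ F, f * y * f⁻¹ = y ∨ f * y * f⁻¹ = y' := fun f hf =>
      hconj f fun c hc => ⟨hFC f hf c hc, by simpa using hFC f⁻¹ (F.inv_mem hf) c hc⟩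
    have hy'conj : ∀ f : Pi, f * y' * f⁻¹ = b * (f * y * f⁻¹) := fun f => by
      rw [hy', show f * (b * y) * f⁻¹ = f * b * f⁻¹ * (f * y * f⁻¹) by group, ← hcentb f,
        mul_inv_cancel_right]
    have hby' : b * y' = y := by rw [hy', ← mul_assoc, hb2, one_mul]
    have hle : D ≤ Subgroup.centralizer {y} := by
      rw [hF, Subgroup.commutator_le]
      intro f hf h hh
      rw [Subgroup.mem_centralizer_singleton_iff]
      refine mul_inv_eq_iff_eq_mul.mp ?_
      rw [show ⁅f, h⁆ * y * ⁅f, h⁆⁻¹ = f * (h * (f⁻¹ * (h⁻¹ * y * h) * f) * h⁻¹) * f⁻¹ by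
        simp only [commutatorElement_def]; group]
      have e : ∀ f ∈ F, f⁻¹ * y * f = f * y * f⁻¹ := by
        intro f hf
        rcases hperm f hf with h1 | h1
        · rw [h1]; nth_rewrite 1 [← h1]; group
        · have h2 : f * y' * f⁻¹ = y := by rw [hy'conj, h1, hby']
          rw [h1]; nth_rewrite 1 [← h2]; group
      have e' : ∀ f ∈ F, f⁻¹ * y' * f = f * y' * f⁻¹ := by
        intro f hf
        rw [hy'conj f, show f⁻¹ * y' * f = f⁻¹ * y' * f⁻¹⁻¹ by rw [inv_inv], hy'conj, inv_inv,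
          e f hf]
      rw [e h hh]
      rcases hperm f hf with hf1 | hf1 <;> rcases hperm h hh with hh1 | hh1
      · rw [hh1, e f hf, hf1, hh1, hf1]
      · rw [hh1, e' f hf, hy'conj f, hf1, ← hy', hy'conj h, hh1, hby', hf1]
      · rw [hh1, e f hf, hf1, hy'conj h, hh1, ← hy', hy'conj f, hf1, hby']
      · rw [hh1, e' f hf, hy'conj f, hf1, hby', hh1, hy'conj f, hf1, hby']
    exact Subgroup.mem_centralizer_singleton_iff.mp (hle hg0)
  · -- an element of order eight
    have hD2sq : ∀ g ∈ D, g * g * y = y * (g * g) := by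
      intro g hg
      refine mul_inv_eq_iff_eq_mul.mp ?_
      rw [mul_inv_rev, show g * g * y * (g⁻¹ * g⁻¹) = g * (g * y * g⁻¹) * g⁻¹ by group]
      rcases hconj g (hDn g hg) with h1 | h1 <;> rw [h1]
      · exact h1
      · rw [hy', show g * (b * y) * g⁻¹ = g * b * g⁻¹ * (g * y * g⁻¹) by group, ← hcentb g,
          mul_inv_cancel_right, h1, hy', ← mul_assoc, hb2, one_mul]
    have hCy : ∀ c ∈ C, c * y = y * c := fun c hc => (hyZ c hc).symm
    have hby' : b * y' = y := by
      exact (mul_assoc b b y).symm.trans (by rw [hb2, one_mul])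
    have hswap' : ∀ g : Pi, g * y * g⁻¹ = y' → g * y' * g⁻¹ = y := fun g hg => by
      rw [hy', show g * (b * y) * g⁻¹ = g * b * g⁻¹ * (g * y * g⁻¹) by group, ← hcentb g,
        mul_inv_cancel_right, hg, hby']
    have hmaps : ∀ g : Pi, g * y * g⁻¹ = y' →
        (∀ v ∈ D2, (g : MulAut E) v ∈ D1) ∧ ∀ v ∈ D1, (g : MulAut E) v ∈ D2 := by
      intro g hg
      refine ⟨fun v hv => ?_, fun v hv => ?_⟩
      · show (y' : MulAut E) ((g : MulAut E) v) = (g : MulAut E) v
        rw [← hg, Subgroup.coe_mul, Subgroup.coe_mul, InvMemClass.coe_inv, MulAut.mul_apply,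
          MulAut.mul_apply, MulAut.inv_apply_self, (hv : (y : MulAut E) v = v)]
      · show (y : MulAut E) ((g : MulAut E) v) = (g : MulAut E) v
        rw [← hswap' g hg, Subgroup.coe_mul, Subgroup.coe_mul, InvMemClass.coe_inv,
          MulAut.mul_apply, MulAut.mul_apply, MulAut.inv_apply_self,
          (hv : (y' : MulAut E) v = v)]
    have hg0i : g0⁻¹ * y * g0⁻¹⁻¹ = y' := by
      nth_rewrite 1 [← hswap' g0 hg0']
      group
    have hconjSg : ∀ g : Pi, g⁻¹ * y * g⁻¹⁻¹ = y' → ∀ s ∈ Sg, g * s * g⁻¹ ∈ Sg := by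
      rintro g hg s ⟨h1, h2⟩
      refine ⟨?_, ?_⟩ <;> rw [Subgroup.coe_mul, Subgroup.coe_mul, InvMemClass.coe_inv]
      · exact h2.conj fun v hv => by
          have := (hmaps g⁻¹ hg).2 v hv
          rwa [InvMemClass.coe_inv] at this
      · exact h1.conj fun v hv => by
          have := (hmaps g⁻¹ hg).1 v hv
          rwa [InvMemClass.coe_inv] at this
    have hconj0 : ∀ s ∈ Sg, g0 * s * g0⁻¹ ∈ Sg := hconjSg g0 hg0i
    have hconj0' : ∀ s ∈ Sg, g0⁻¹ * s * g0 ∈ Sg := fun s hs => by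
      have := hconjSg g0⁻¹ (by rw [inv_inv]; exact hg0') s hs
      rwa [inv_inv] at this
    set N := Subgroup.normalizer (Sg : Set Pi)
    have hg0N : g0 ∈ N := Subgroup.mem_normalizer_iff.mpr fun s => ⟨hconj0 s, fun h => by
      have := hconj0' _ h
      rwa [show g0⁻¹ * (g0 * s * g0⁻¹) * g0 = s by group] at this⟩
    have hMN : ∀ g : Pi, g * y = y * g → g ∈ N := by
      intro g hg
      refine Subgroup.mem_normalizer_iff.mpr fun s => ⟨fun hs => ?_, fun hs => ?_⟩
      · rwa [← hSgcomm s hs g hg, mul_inv_cancel_right]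
      · have e := hSgcomm _ hs g hg
        rw [inv_mul_cancel_right] at e
        rw [mul_left_cancel e]
        exact hs
    have hDsplit : ∀ g ∈ D, g * y = y * g ∨ g * g0⁻¹ * y = y * (g * g0⁻¹) := by
      intro g hg
      rcases hconj g (hDn g hg) with h1 | h1
      · exact Or.inl (mul_inv_eq_iff_eq_mul.mp h1)
      · refine Or.inr (mul_inv_eq_iff_eq_mul.mp ?_)
        rw [show g * g0⁻¹ * y * (g * g0⁻¹)⁻¹ = g * (g0⁻¹ * y * g0⁻¹⁻¹) * g⁻¹ by group, hg0i,
          hswap' g h1]
    have hDN : ∀ g ∈ D, g ∈ N := fun g hg => (hDsplit g hg).elim (hMN g) fun h => by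
      have := N.mul_mem (hMN _ h) hg0N
      rwa [inv_mul_cancel_right] at this
    have hCK2 : ∀ c ∈ C, g0 * c * g0⁻¹ * c⁻¹ ∈ Sg := by
      let mk := QuotientGroup.mk' (Sg.subgroupOf N)
      set Mb := ((Subgroup.centralizer {y}).subgroupOf N).map mk
      set a := mk ⟨g0, hg0N⟩
      have hle : C ≤ ((Subgroup.centralizer {a}).comap mk).map N.subtype := by
        rw [hC, Subgroup.commutator_le]
        intro g hg h hh
        refine ⟨⁅(⟨g, hDN g hg⟩ : N), ⟨h, hDN h hh⟩⁆, ?_, rfl⟩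
        rw [SetLike.mem_coe, Subgroup.mem_comap, Subgroup.mem_centralizer_singleton_iff,
          map_commutatorElement]
        refine (commutator_commute Mb a ?_ ?_ ?_ ?_ ?_ ?_).symm
        · rintro _ ⟨m, hm, rfl⟩ _ ⟨n, hn, rfl⟩
          rw [← commutatorElement_eq_one_iff_mul_comm, ← map_commutatorElement]
          exact (QuotientGroup.eq_one_iff _).mpr (hsign m n
            (Subgroup.mem_centralizer_singleton_iff.mp hm)
            (Subgroup.mem_centralizer_singleton_iff.mp hn))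
        · rintro _ ⟨m, hm, rfl⟩
          rw [← map_mul]
          exact (QuotientGroup.eq_one_iff _).mpr
            (hsqsign m (Subgroup.mem_centralizer_singleton_iff.mp hm))
        · rintro _ ⟨m, hm, rfl⟩
          refine ⟨⟨g0, hg0N⟩ * m * ⟨g0, hg0N⟩⁻¹, ?_, by rw [map_mul, map_mul, map_inv]⟩
          show g0 * (m : Pi) * g0⁻¹ ∈ Subgroup.centralizer {y}
          have hm' : (m : Pi) * y = y * m := Subgroup.mem_centralizer_singleton_iff.mp hm
          have hm'' : (m : Pi) * y' = y' * m := by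
            rw [hy', ← mul_assoc, ← hcentb, mul_assoc b, hm', ← mul_assoc]
          rw [Subgroup.mem_centralizer_singleton_iff]
          rw [← hswap' g0 hg0']
          calc g0 * (m : Pi) * g0⁻¹ * (g0 * y' * g0⁻¹) = g0 * ((m : Pi) * y') * g0⁻¹ := by group
            _ = g0 * (y' * (m : Pi)) * g0⁻¹ := by rw [hm'']
            _ = g0 * y' * g0⁻¹ * (g0 * (m : Pi) * g0⁻¹) := by group
        · exact ⟨⟨g0, hg0N⟩ * ⟨g0, hg0N⟩,
            Subgroup.mem_centralizer_singleton_iff.mpr (hD2sq g0 hg0), map_mul _ _ _⟩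
        all_goals
          first
          | exact (hDsplit g hg).imp (fun h => ⟨_, Subgroup.mem_centralizer_singleton_iff.mpr h, rfl⟩)
              fun h => ⟨⟨g, hDN g hg⟩ * ⟨g0, hg0N⟩⁻¹, Subgroup.mem_centralizer_singleton_iff.mpr h,
                by rw [map_mul, map_inv]⟩
          | exact (hDsplit h hh).imp (fun h => ⟨_, Subgroup.mem_centralizer_singleton_iff.mpr h, rfl⟩)
              fun h' => ⟨⟨h, hDN h hh⟩ * ⟨g0, hg0N⟩⁻¹, Subgroup.mem_centralizer_singleton_iff.mpr h',
                by rw [map_mul, map_inv]⟩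
      intro c hc
      obtain ⟨c', hc', rfl⟩ := hle hc
      have hc'' : mk ⁅(⟨g0, hg0N⟩ : N), c'⁆ = 1 := by
        rw [map_commutatorElement, commutatorElement_eq_one_iff_mul_comm]
        exact (Subgroup.mem_centralizer_singleton_iff.mp hc').symm
      exact (QuotientGroup.eq_one_iff (⁅(⟨g0, hg0N⟩ : N), c'⁆)).mp hc''
    -- elements of the stabilizer normalised up to signs by `g0` lie in `C`
    have hK2 : ∀ k : Pi, k * y = y * k → g0 * k * g0⁻¹ * k⁻¹ ∈ Sg → k ∈ C := by
      intro k hk hks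
      let res : St →* MulAut D2 :=
        { toFun := fun g =>
            { toFun := fun v => ⟨(g : MulAut E) v, hSt2 g g.2 v v.2⟩
              invFun := fun v => ⟨(g⁻¹ : St).1 v, hSt2 _ (g⁻¹).2 v v.2⟩
              left_inv := fun v => Subtype.ext (MulAut.inv_apply_self E (g : MulAut E) v)
              right_inv := fun v => Subtype.ext (MulAut.apply_inv_self E (g : MulAut E) v)
              map_mul' := fun u v => Subtype.ext (map_mul (g : MulAut E) (u : E) (v : E)) }
          map_one' := rfl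
          map_mul' := fun _ _ => rfl }
      have hinj : Nat.card res.range ≤ 8 := by
        obtain ⟨v0, hv0⟩ : ∃ v0 : D2, v0 ≠ 1 := by
          have : Nontrivial D2 := Finite.one_lt_card_iff_nontrivial.mp (by rw [h2card]; norm_num)
          exact exists_ne 1
        have hmem : ∀ g : res.range, (g : MulAut D2) v0 ≠ 1 := fun g h =>
          hv0 ((g : MulAut D2).injective (h.trans (map_one _).symm))
        let ev : res.range → {v : D2 // v ≠ 1} := fun g => ⟨(g : MulAut D2) v0, hmem g⟩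
        have hev : Function.Injective ev := by
          rintro ⟨_, g, rfl⟩ ⟨_, h, rfl⟩ hgh
          refine Subtype.ext ?_
          show res g = res h
          have hv : res (h⁻¹ * g) v0 = v0 := by
            rw [map_mul, map_inv, MulAut.mul_apply,
              show res g v0 = res h v0 from congrArg Subtype.val hgh, MulAut.inv_apply_self]
          set f : St := h⁻¹ * g with hf
          obtain ⟨j, hj⟩ := hStp f
          have h2s := sq_sign S' hq h2nd h2card (L.iso _ f.2.2) (hSt2 f f.2)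
            (congrArg Subtype.val hj)
          have hv' : (f : MulAut E) (v0 : E) = v0 := congrArg Subtype.val hv
          have hv0' : (v0 : E) ≠ 1 := fun h => hv0 (Subtype.ext h)
          have hid2 : ∀ v ∈ D2, (f : MulAut E) ((f : MulAut E) v) = v := by
            rcases h2s with h' | h'
            · exact fun v hv => h' v hv
            · exfalso
              refine hv0' (S'.inv_eq_self ?_)
              rw [← h' (v0 : E) v0.2, MulAut.mul_apply, hv', hv']
          rcases sign_of_sq S' h2nd (by rw [h2card, hq]; norm_num) (L.iso _ f.2.2) (hSt2 f f.2)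
            hid2 with h' | h'
          · have h1 : res f = 1 := MulEquiv.ext fun v => Subtype.ext (h' v v.2)
            rw [hf, map_mul, map_inv, inv_mul_eq_one] at h1
            exact h1.symm
          · exfalso
            exact hv0' (S'.inv_eq_self ((h' (v0 : E) v0.2).symm.trans hv'))
        have : Fintype D2 := Fintype.ofFinite _
        refine (Nat.card_le_card_of_injective ev hev).trans ?_
        rw [Nat.card_eq_fintype_card, Fintype.card_subtype_compl, Fintype.card_subtype_eq,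
          ← Nat.card_eq_fintype_card, h2card]
      let inC : C →* St := ((Pi.subtype).comp C.subtype).codRestrict St fun c =>
        hStmem c (hCy c c.2)
      have hbig : 8 ≤ Nat.card (res.comp inC).range := by
        have hp : IsPGroup 2 (res.comp inC).range := (L.two.to_subgroup C).of_surjective
          (res.comp inC).rangeRestrict (res.comp inC).rangeRestrict_surjective
        by_contra hlt
        push Not at hlt
        have hcomm : ∀ u v : (res.comp inC).range, u * v = v * u := by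
          obtain ⟨i, hi⟩ := IsPGroup.iff_card.mp hp
          have hi3 : i < 3 := (Nat.pow_lt_pow_iff_right (by norm_num)).mp
            (lt_of_eq_of_lt hi.symm (show _ < 2 ^ 3 from hlt))
          interval_cases i
          · have : Subsingleton (res.comp inC).range :=
              (Nat.card_eq_one_iff_unique.mp hi).1
            exact fun u v => Subsingleton.elim _ _
          · have : IsCyclic (res.comp inC).range := isCyclic_of_prime_card (p := 2) (by simpa using hi)
            exact fun u v => (IsCyclic.commGroup (α := (res.comp inC).range)).mul_comm u v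
          · exact fun u v => (IsPGroup.commGroupOfCardEqPrimeSq (p := 2) hi).mul_comm u v
        obtain ⟨v0, hv0⟩ : ∃ v0 : D2, v0 ≠ 1 := by
          have : Nontrivial D2 := Finite.one_lt_card_iff_nontrivial.mp (by rw [h2card]; norm_num)
          exact exists_ne 1
        have hker : ⁅C, C⁆ ≤ (res.comp inC).ker.map C.subtype := by
          rw [Subgroup.commutator_le]
          intro u hu v hv
          refine ⟨⁅(⟨u, hu⟩ : C), ⟨v, hv⟩⁆, ?_, rfl⟩
          rw [SetLike.mem_coe, MonoidHom.mem_ker, map_commutatorElement,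
            commutatorElement_eq_one_iff_mul_comm]
          exact congrArg Subtype.val (hcomm ⟨_, ⟨u, hu⟩, rfl⟩ ⟨_, ⟨v, hv⟩, rfl⟩)
        obtain ⟨b0, hb0, hb0b⟩ := hker hb
        apply hv0
        refine Subtype.ext (S'.inv_eq_self ?_)
        rw [← hinv (v0 : E)]
        have := congrArg (fun f : MulAut D2 => ((f v0 : D2) : E)) (MonoidHom.mem_ker.mp hb0)
        change ((b0 : Pi) : MulAut E) (v0 : E) = (v0 : E) at this
        rw [show ((b0 : C) : Pi) = b from hb0b] at this
        exact this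
      have heq : (res.comp inC).range = res.range := by
        refine Subgroup.eq_of_le_of_card_ge ?_ (hinj.trans hbig)
        rintro _ ⟨c, rfl⟩
        exact ⟨inC c, rfl⟩
      obtain ⟨c, hc⟩ : res ⟨k, hStmem k hk⟩ ∈ (res.comp inC).range := by
        rw [heq]; exact ⟨_, rfl⟩
      set s := g0 * k * g0⁻¹ * k⁻¹ with hs
      have hkc : ∀ v ∈ D2, (k : MulAut E) v = ((c : Pi) : MulAut E) v := fun v hv =>
        (congrArg (fun f : MulAut D2 => ((f ⟨v, hv⟩ : D2) : E)) hc).symm
      set k' := k * (c : Pi)⁻¹ with hk'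
      have hk'2 : ∀ v ∈ D2, (k' : MulAut E) v = v := by
        intro v hv
        have hv' : ((c : Pi) : MulAut E)⁻¹ v ∈ D2 :=
          (hstab (c : Pi)⁻¹ (hCy _ (C.inv_mem c.2))).1 v hv
        rw [hk', Subgroup.coe_mul, InvMemClass.coe_inv, MulAut.mul_apply, hkc _ hv',
          MulAut.apply_inv_self]
      have hmap : ∀ v ∈ D1, (g0 : MulAut E) v ∈ D2 := (hmaps g0 hg0').2
      have hk'C : k' ∈ Sg := by
        refine ⟨?_, Or.inl hk'2⟩
        -- compare through `k`
        have hsg := hks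
        have key : ∀ v ∈ D1, (k : MulAut E) v =
            (g0 : MulAut E)⁻¹ ((s : MulAut E) ((k : MulAut E) ((g0 : MulAut E) v))) := by
          intro v _
          have e : g0 * k = s * (k * g0) := by rw [hs]; group
          have e' : (g0 : MulAut E) * (k : MulAut E) =
              (s : MulAut E) * ((k : MulAut E) * (g0 : MulAut E)) := congrArg Subtype.val e
          calc (k : MulAut E) v = (g0 : MulAut E)⁻¹ (((g0 : MulAut E) * (k : MulAut E)) v) :=
                (MulAut.inv_apply_self E _ _).symm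
            _ = _ := by rw [e']; rfl
        set t := g0 * (c : Pi) * g0⁻¹ with ht
        have hkt : ∀ v ∈ D1, (k : MulAut E) v =
            ((g0⁻¹ * (s * (c : Pi)) * g0 : Pi) : MulAut E) v := by
          intro v hv
          rw [key v hv, hkc _ (hmap v hv)]
          rfl
        set k1 := (g0⁻¹ * (s * (c : Pi)) * g0) * (c : Pi)⁻¹ with hk1
        have hsame : ∀ v ∈ D1, (k' : MulAut E) v = (k1 : MulAut E) v := by
          intro v hv
          have hv' : ((c : Pi) : MulAut E)⁻¹ v ∈ D1 :=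
            (hstab (c : Pi)⁻¹ (hCy _ (C.inv_mem c.2))).2 v hv
          show ((k * (c : Pi)⁻¹ : Pi) : MulAut E) v = _
          rw [hk1, Subgroup.coe_mul, Subgroup.coe_mul, MulAut.mul_apply, MulAut.mul_apply,
            InvMemClass.coe_inv, hkt _ hv']
        have hk1sign : IsSign (k1 : MulAut E) D1 := by
          have e : k1 = g0⁻¹ * (s * (g0 * (c : Pi) * g0⁻¹ * (c : Pi)⁻¹)⁻¹) * g0 := by
            rw [hk1]; group
          have hmem : k1 ∈ Sg := e ▸ hconj0' _ (Sg.mul_mem hsg (Sg.inv_mem (hCK2 c c.2)))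
          exact hmem.1
        rcases hk1sign with h | h
        · exact Or.inl fun v hv => (hsame v hv).trans (h v hv)
        · exact Or.inr fun v hv => (hsame v hv).trans (h v hv)
      have : k = k' * c := by rw [hk', inv_mul_cancel_right]
      rw [this]
      exact C.mul_mem (hSgC hk'C) c.2
    -- the order of `g0` is eight
    have hx2y := hD2sq g0 hg0
    have hx2C : g0 * g0 ∈ C := hK2 _ hx2y (by
      rw [show g0 * (g0 * g0) * g0⁻¹ * (g0 * g0)⁻¹ = 1 by group]
      exact Sg.one_mem)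
    have hx4 : g0 * g0 * (g0 * g0) = b := (hexp _ hx2C).resolve_left fun h => hg0sq (by
      have h' : ((g0 * g0 : Pi) : MulAut E) * ((g0 * g0 : Pi) : MulAut E) = 1 :=
        congrArg Subtype.val h
      have hfix : ∀ v, ((g0 * g0 : Pi) : MulAut E) (((g0 * g0 : Pi) : MulAut E) v) = v := fun v => by
        rw [← MulAut.mul_apply, h', MulAut.one_apply]
      exact ⟨sign_of_sq S' h1nd (by rw [h1card, hq]; norm_num) (L.iso _ (g0 * g0).2)
          (hstab _ hx2y).2 fun v _ => hfix v,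
        sign_of_sq S' h2nd (by rw [h2card, hq]; norm_num) (L.iso _ (g0 * g0).2)
          (hstab _ hx2y).1 fun v _ => hfix v⟩)
    have hx4' : g0 ^ 2 ^ (3 - 1) = b := by
      rw [show (2 : ℕ) ^ (3 - 1) = 4 from rfl, ← hx4]; simp only [pow_succ, pow_zero, one_mul, mul_assoc]
    have hx8 : g0 ^ 2 ^ 3 = 1 := by
      rw [show (2 : ℕ) ^ 3 = 2 ^ (3 - 1) * 2 from rfl, pow_mul, hx4', sq, hb2]
    have hN : ∑ k ∈ Finset.range (2 ^ 3), L.ρ g0 ^ k = 0 := by
      have h := hq3 b hb _ hx2C g0 hg0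
      rw [← hx4, map_mul, map_mul] at h
      simp only [Loc.sub_eq_add'] at h
      rw [← h]
      simp only [show (2 : ℕ) ^ 3 = 8 from rfl, Finset.sum_range_succ, Finset.sum_range_zero,
        zero_add, pow_succ, pow_zero, one_mul]
      noncomm_ring
    obtain ⟨hdvd, -⟩ := L.norm_bound (e := 3) (by norm_num) hx8 ⊤ top_ne_bot
      (fun _ _ => trivial) (fun u _ => by rw [hN, LinearMap.zero_apply])
      (D := ⊤) (fun v _ h => S'.nondeg v fun u => h u trivial) (fun _ _ => trivial) (fun v _ => by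
        have : ((g0 ^ 2 ^ (3 - 1) : Pi) : MulAut E) v = v⁻¹ := by rw [hx4']; exact hinv v
        exact this)
      (fun v _ => by
        obtain ⟨u, hu⟩ := L.π_surjective v
        exact ⟨u, hu, fun _ _ => trivial⟩)
    have h9 : Nat.card (⊤ : Subgroup E) ≤ Nat.card D1 := by
      rw [h1card]
      exact (Nat.le_of_dvd (pow_pos S'.prime.pos 2) hdvd).trans (by rw [hq]; norm_num)
    have htop : D1 = ⊤ := Subgroup.eq_of_le_of_card_ge le_top h9
    refine hyb (Subtype.ext (MulEquiv.ext fun v => ?_))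
    rw [(hD1 v).mp (htop ▸ Subgroup.mem_top v), hinv]

/-- The chain through `D` kills the derived subgroup of `C`. -/
theorem absurd_chain (C D : Subgroup Pi) (hC : C = ⁅D, D⁆)
    (hBB : ∀ b ∈ ⁅C, C⁆, ∀ b' ∈ ⁅C, C⁆, (L.ρ b - 1) * (L.ρ b' - 1) = 0)
    (hBcomm : ∀ b ∈ ⁅C, C⁆, ∀ b' ∈ ⁅C, C⁆, b * b' = b' * b)
    (hBCC : ∀ b ∈ ⁅C, C⁆, ∀ c ∈ C, ∀ c' ∈ C, (L.ρ b - 1) * (L.ρ c - 1) * (L.ρ c' - 1) = 0)
    (hcase : (∀ b ∈ ⁅C, C⁆, ∀ c ∈ C, ∀ g ∈ D, (L.ρ b - 1) * (L.ρ c - 1) * (L.ρ g - 1) = 0) ∨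
      ∃ F : Subgroup Pi, D = ⁅F, F⁆)
    {b : Pi} (hb : b ∈ ⁅C, C⁆) (hb1 : b ≠ 1) : False := by
  classical
  have htwo := fun b' hb' => quad_two L hBB hBcomm hb hb1 (b' := b') hb'
  have hb2 := L.sq_eq_one (hBB b hb b hb)
  have hb2' : (b : MulAut E) * (b : MulAut E) = 1 := congrArg Subtype.val hb2
  -- normalisers of `C` centralise `b`
  set Γ0 : Subgroup Pi := Subgroup.centralizer {b}
  have hcent : ∀ g : Pi, g ∈ Subgroup.normalizer (C : Set Pi) → g ∈ Γ0 := by
    intro g hg
    have hgB : g ∈ Subgroup.normalizer ((⁅C, C⁆ : Subgroup Pi) : Set Pi) :=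
      by
        rw [Subgroup.mem_normalizer_iff_map_conj_eq, Subgroup.map_commutator,
          Subgroup.mem_normalizer_iff_map_conj_eq.mp hg]
    rw [Subgroup.mem_centralizer_singleton_iff]
    rcases htwo _ ((Subgroup.mem_normalizer_iff.mp hgB b).mp hb) with h | h
    · rw [mul_inv_eq_one, mul_eq_left] at h
      exact absurd h hb1
    · exact mul_inv_eq_iff_eq_mul.mp h
  have hD0 : D ≤ Γ0 := fun g hg => hcent g (by
    rw [hC, Subgroup.mem_normalizer_iff_map_conj_eq, Subgroup.map_commutator,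
      Subgroup.mem_normalizer_iff_map_conj_eq.mp (Subgroup.le_normalizer hg)])
  have hC0 : C ≤ Γ0 := (hC ▸ D.commutator_le_self).trans hD0
  -- the inverted subgroup
  set E1 : Subgroup E := inverted (b : MulAut E)
  have hnd : ∀ v ∈ E1, (∀ w ∈ E1, S'.β v w = 1) → v = 1 := fun v hv h =>
    S'.nondeg_part (L.iso b b.2) (D := ⊤) (fun v _ hall => S'.nondeg v fun u => hall u trivial)
      (fun _ _ => trivial) (fun v _ => by rw [← MulAut.mul_apply, hb2', MulAut.one_apply]) v
      ⟨trivial, hv⟩ fun u hu => h u hu.2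
  let S1 : Space q E1 Kˣ :=
    { β := MonoidHom.mk' (fun v => (S'.β (v : E)).comp E1.subtype) fun u v =>
        MonoidHom.ext fun w => by simp
      prime := S'.prime
      two_ne := S'.two_ne
      pow := fun v => Subtype.ext (S'.pow v)
      alt := fun v => S'.alt v
      nondeg := fun v h => Subtype.ext (hnd v v.2 fun w hw => h ⟨w, hw⟩) }
  have hpres : ∀ g : Γ0, ∀ v ∈ E1, ((g : Pi) : MulAut E) v ∈ E1 := fun g v hv => by
    have hcoe : (b : MulAut E) * ((g : Pi) : MulAut E) = ((g : Pi) : MulAut E) * (b : MulAut E) :=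
      congrArg Subtype.val (Subgroup.mem_centralizer_singleton_iff.mp g.2).symm
    rw [mem_inverted, ← MulAut.mul_apply, hcoe, MulAut.mul_apply, mem_inverted.mp hv, map_inv]
  let res : Γ0 →* MulAut E1 :=
    { toFun := fun g =>
        { toFun := fun v => ⟨((g : Pi) : MulAut E) v, hpres g v v.2⟩
          invFun := fun v => ⟨((g⁻¹ : Γ0) : Pi).1 v, hpres g⁻¹ v v.2⟩
          left_inv := fun v => Subtype.ext (MulAut.inv_apply_self E ((g : Pi) : MulAut E) v)
          right_inv := fun v => Subtype.ext (MulAut.apply_inv_self E ((g : Pi) : MulAut E) v)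
          map_mul' := fun u v => Subtype.ext (map_mul ((g : Pi) : MulAut E) (u : E) (v : E)) }
      map_one' := rfl
      map_mul' := fun _ _ => rfl }
  set f := res.rangeRestrict with hf
  have hfs : Function.Surjective f := res.rangeRestrict_surjective
  -- the fixed vectors of the kernel
  let U1 : Submodule K U :=
    { carrier := {w | ∀ k : Γ0, res k = 1 → L.ρ (k : Pi) w = w}
      zero_mem' := fun k _ => map_zero _
      add_mem' := fun {u v} hu hv k hk => by rw [map_add, hu k hk, hv k hk]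
      smul_mem' := fun c u hu k hk => by rw [map_smul, hu k hk] }
  have hρU : ∀ g : Γ0, ∀ w ∈ U1, L.ρ (g : Pi) w ∈ U1 := by
    intro g w hw k hk
    have hk' : res (g⁻¹ * k * g) = 1 := by
      rw [map_mul, map_mul, hk, mul_one, map_inv, inv_mul_cancel]
    rw [← Module.End.mul_apply, ← map_mul,
      show (k : Pi) * g = g * ((g⁻¹ * k * g : Γ0) : Pi) by push_cast; group, map_mul,
      Module.End.mul_apply, hw _ hk']
  have : Nontrivial U1 := by
    have : Finite (MulAut E) := Finite.of_injective (fun f : MulAut E => (f : E → E))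
      fun f g h => MulEquiv.ext fun v => congrFun h v
    obtain ⟨w, hw0, hw⟩ := exists_fixed_vector (R := res.ker)
      (((L.two.to_subgroup Γ0).to_subgroup res.ker))
      (L.ρ.comp (Γ0.subtype.comp res.ker.subtype))
    exact ⟨⟨⟨w, fun k hk => hw ⟨k, hk⟩⟩, 0, fun h => hw0 (congrArg Subtype.val h)⟩⟩
  -- the operators over the inverted subgroup
  let Γ1 : Subgroup Γ :=
    { carrier := {u | L.π u ∈ E1 ∧ ∀ k : Γ0, res k = 1 → L.σ (k : Pi) u = u}
      one_mem' := ⟨by rw [map_one]; exact E1.one_mem, fun k _ => map_one _⟩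
      mul_mem' := fun {u v} hu hv => ⟨by rw [map_mul]; exact E1.mul_mem hu.1 hv.1,
        fun k hk => by rw [map_mul, hu.2 k hk, hv.2 k hk]⟩
      inv_mem' := fun {u} hu => ⟨by rw [map_inv]; exact E1.inv_mem hu.1,
        fun k hk => by rw [map_inv, hu.2 k hk]⟩ }
  have hσΓ : ∀ g : Γ0, ∀ u ∈ Γ1, L.σ (g : Pi) u ∈ Γ1 := by
    intro g u hu
    refine ⟨by rw [L.σ_π]; exact hpres g _ hu.1, fun k hk => ?_⟩
    have hk' : res (g⁻¹ * k * g) = 1 := by
      rw [map_mul, map_mul, hk, mul_one, map_inv, inv_mul_cancel]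
    rw [← MulAut.mul_apply, ← map_mul,
      show (k : Pi) * g = g * ((g⁻¹ * k * g : Γ0) : Pi) by push_cast; group, map_mul,
      MulAut.mul_apply, hu.2 _ hk']
  let ρ0 : Γ0 →* Module.End K U1 :=
    { toFun := fun g => (L.ρ (g : Pi)).restrict (hρU g)
      map_one' := LinearMap.ext fun w => Subtype.ext (by
        show L.ρ ((1 : Γ0) : Pi) (w : U) = w
        rw [OneMemClass.coe_one, map_one]; rfl)
      map_mul' := fun g h => LinearMap.ext fun w => Subtype.ext (by
        show L.ρ ((g * h : Γ0) : Pi) (w : U) = L.ρ (g : Pi) (L.ρ (h : Pi) (w : U))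
        rw [Subgroup.coe_mul, map_mul]; rfl) }
  let σ0 : Γ0 →* MulAut Γ1 :=
    { toFun := fun g =>
        { toFun := fun u => ⟨L.σ (g : Pi) u, hσΓ g u u.2⟩
          invFun := fun u => ⟨L.σ ((g⁻¹ : Γ0) : Pi) u, hσΓ g⁻¹ u u.2⟩
          left_inv := fun u => Subtype.ext (by
            show L.σ ((g⁻¹ : Γ0) : Pi) (L.σ (g : Pi) u) = (u : Γ)
            rw [← MulAut.mul_apply, ← map_mul, InvMemClass.coe_inv, inv_mul_cancel, map_one]; rfl)
          right_inv := fun u => Subtype.ext (by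
            show L.σ (g : Pi) (L.σ ((g⁻¹ : Γ0) : Pi) u) = (u : Γ)
            rw [← MulAut.mul_apply, ← map_mul, InvMemClass.coe_inv, mul_inv_cancel, map_one]; rfl)
          map_mul' := fun u v => Subtype.ext (map_mul (L.σ (g : Pi)) (u : Γ) v) }
      map_one' := MulEquiv.ext fun u => Subtype.ext (by
        show L.σ ((1 : Γ0) : Pi) (u : Γ) = u
        rw [OneMemClass.coe_one, map_one]; rfl)
      map_mul' := fun g h => MulEquiv.ext fun u => Subtype.ext (by
        show L.σ ((g * h : Γ0) : Pi) (u : Γ) = L.σ (g : Pi) (L.σ (h : Pi) u)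
        rw [Subgroup.coe_mul, map_mul]; rfl) }
  have hker : f.ker ≤ ρ0.toHomUnits.ker := fun k hk =>
    Units.ext (LinearMap.ext fun w => Subtype.ext (w.2 k (congrArg Subtype.val hk)))
  have hker' : f.ker ≤ σ0.ker := fun k hk =>
    MulEquiv.ext fun u => Subtype.ext (u.2.2 k (congrArg Subtype.val hk))
  let ρ1 : res.range →* Module.End K U1 :=
    (Units.coeHom _).comp (f.liftOfSurjective hfs ⟨ρ0.toHomUnits, hker⟩)
  let σ1 : res.range →* MulAut Γ1 := f.liftOfSurjective hfs ⟨σ0, hker'⟩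
  have hρ1 : ∀ g, ρ1 (f g) = ρ0 g := fun g => by
    show ((f.liftOfSurjective hfs ⟨ρ0.toHomUnits, hker⟩ (f g) : (Module.End K U1)ˣ) : _) = ρ0 g
    rw [MonoidHom.liftOfRightInverse_comp_apply]; rfl
  have hσ1 : ∀ g, σ1 (f g) = σ0 g := fun g => f.liftOfRightInverse_comp_apply _ _ _ g
  let L1 : Loc S1 res.range Γ1 U1 :=
    { two := (L.two.to_subgroup Γ0).of_surjective f hfs
      iso := by
        rintro _ ⟨g, rfl⟩ u v
        exact L.iso _ (g : Pi).2 (u : E) (v : E)
      ρ := ρ1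
      π := (L.π.comp Γ1.subtype).codRestrict E1 fun u => u.2.1
      r :=
        { toFun := fun u => (L.r (u : Γ)).restrict fun w hw k hk => by
            rw [← Module.End.mul_apply, L.inter, u.2.2 k hk, Module.End.mul_apply, hw k hk]
          map_one' := LinearMap.ext fun w => Subtype.ext (by
            show L.r ((1 : Γ1) : Γ) (w : U) = w
            rw [OneMemClass.coe_one, map_one]; rfl)
          map_mul' := fun u v => LinearMap.ext fun w => Subtype.ext (by
            show L.r ((u * v : Γ1) : Γ) (w : U) = L.r (u : Γ) (L.r (v : Γ) (w : U))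
            rw [Subgroup.coe_mul, map_mul]; rfl) }
      σ := σ1
      inter := by
        intro g u
        obtain ⟨g, rfl⟩ := hfs g
        rw [hρ1, hσ1]
        exact LinearMap.ext fun w => Subtype.ext (LinearMap.congr_fun (L.inter (g : Pi) u) (w : U))
      σ_π := by
        intro g u
        obtain ⟨g, rfl⟩ := hfs g
        rw [hσ1]
        exact Subtype.ext (L.σ_π (g : Pi) u)
      comm := fun u v => LinearMap.ext fun w => Subtype.ext
        (LinearMap.congr_fun (L.comm (u : Γ) (v : Γ)) (w : U))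
      lift := by
        intro A0 e he
        obtain ⟨u, hu, hfix⟩ := L.lift ((A0.comap f).map Γ0.subtype) (e : E) (by
          rintro _ ⟨a, ha, rfl⟩
          exact congrArg Subtype.val (he (f a) ha))
        refine ⟨⟨u, by rw [hu]; exact e.2, fun k hk => hfix _ ⟨k, ?_, rfl⟩⟩, Subtype.ext hu, ?_⟩
        · show f k ∈ A0
          rw [show f k = 1 from Subtype.ext hk]
          exact A0.one_mem
        · intro a ha
          obtain ⟨a, rfl⟩ := hfs a
          rw [hσ1]
          exact Subtype.ext (hfix _ ⟨a, ha, rfl⟩)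
      isP := L.isP.to_subgroup Γ1 }
  let img : Subgroup Pi → Subgroup res.range := fun X => (X.subgroupOf Γ0).map f
  have himg : ∀ X Y : Subgroup Pi, X ≤ Γ0 → Y = ⁅X, X⁆ → img Y = ⁅img X, img X⁆ := by
    intro X Y hX hY
    show (Y.subgroupOf Γ0).map f = _
    rw [← Subgroup.map_commutator]
    congr 1
    apply Subgroup.map_injective Γ0.subtype_injective
    rw [Subgroup.map_subgroupOf_eq_of_le (hY ▸ (X.commutator_le_self.trans hX)),
      Subgroup.map_commutator, Subgroup.map_subgroupOf_eq_of_le hX, hY]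
  have hB : ⁅img C, img C⁆ = img ⁅C, C⁆ := (himg C _ hC0 rfl).symm
  have hsub : ∀ (g : Γ0) (w : U1), (((L1.ρ (f g) - 1) w : U1) : U) = (L.ρ (g : Pi) - 1) (w : U) :=
    fun g w => by
      show (((ρ1 (f g) - 1) w : U1) : U) = _
      rw [hρ1]; rfl
  refine absurd_inverted L1 (img C) (img D) (himg D C hD0 hC) ?_ ?_ ?_ ?_
    (b := f ⟨b, Subgroup.mem_centralizer_singleton_iff.mpr rfl⟩) ?_ ?_ ?_
  · rw [hB]
    rintro _ ⟨x, hx, rfl⟩ _ ⟨y, hy, rfl⟩
    refine LinearMap.ext fun w => Subtype.ext ?_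
    rw [Module.End.mul_apply, hsub, hsub, ← Module.End.mul_apply, hBB (x : Pi) hx (y : Pi) hy]; rfl
  · rw [hB]
    rintro _ ⟨x, hx, rfl⟩ _ ⟨y, hy, rfl⟩
    rw [← map_mul, ← map_mul]
    exact congrArg f (Subtype.ext (hBcomm _ hx _ hy))
  · rw [hB]
    rintro _ ⟨x, hx, rfl⟩ _ ⟨y, hy, rfl⟩ _ ⟨z, hz, rfl⟩
    refine LinearMap.ext fun w => Subtype.ext ?_
    rw [Module.End.mul_apply, Module.End.mul_apply, hsub, hsub, hsub, ← Module.End.mul_apply,
      ← Module.End.mul_apply, hBCC (x : Pi) hx (y : Pi) hy (z : Pi) hz]; rfl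
  · rcases hcase with hq3 | ⟨F, hF⟩
    · refine Or.inl ?_
      rw [hB]
      rintro _ ⟨x, hx, rfl⟩ _ ⟨y, hy, rfl⟩ _ ⟨z, hz, rfl⟩
      refine LinearMap.ext fun w => Subtype.ext ?_
      rw [Module.End.mul_apply, Module.End.mul_apply, hsub, hsub, hsub, ← Module.End.mul_apply,
        ← Module.End.mul_apply, hq3 (x : Pi) hx (y : Pi) hy (z : Pi) hz]; rfl
    · refine Or.inr ⟨img F, himg F D (fun g hg => hcent g ?_) hF⟩
      have hgD : g ∈ Subgroup.normalizer (D : Set Pi) := by
        rw [hF]; exact Subgroup.normalizer_commutator_ge_left F F hg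
      rw [hC, Subgroup.mem_normalizer_iff_map_conj_eq, Subgroup.map_commutator,
        Subgroup.mem_normalizer_iff_map_conj_eq.mp hgD]
  · rw [hB]
    exact ⟨_, hb, rfl⟩
  · intro h
    refine hb1 (Subtype.ext (MulEquiv.ext fun v => ?_))
    obtain ⟨a, i, ha, hi, rfl⟩ := S'.exists_decomp hb2' v
    have hi' : (b : MulAut E) i = i :=
      congrArg (fun g : res.range => (((g : MulAut E1) ⟨i, hi⟩ : E1) : E)) h
    rw [map_mul, ha, hi']; rfl
  · exact fun v => Subtype.ext (v.2 : (b : MulAut E) (v : E) = (v : E)⁻¹)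


end Cfsg.Agent.TwoPlanesQuad
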