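import Mathlib
import Cfsg.Agent.Lib.TwoPlanesQuad
import Cfsg.Agent.Lib.TwoPlanesLocal
import Cfsg.Agent.Lib.HallHigmanDerived

/-!
# The derived series of a 2-group acting with a short chain of operators

`ds P i` is the derived series of `P`. If all products `(g_{d-1} - 1) ⋯ (g_0 - 1)`, `g_i` in
`ds P i`, vanish, then on each component of a class two `q`-subgroup the elements of
`ds P (d - 1)` are trivial or tops with roots in the image of `P`.
-/

set_option autoImplicit false

namespace Cfsg.Agent.TwoPlanesChain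

open Module Cfsg.Agent.TwoPlanes Cfsg.Agent.TwoPlanesLocal Cfsg.Agent.TwoPlanesLoc
open Cfsg.Agent.TwoPlanesQuad
open scoped commutatorElement
open Cfsg.Agent.GrossExceptional (InRad)

variable {H : Type*} [Group H]

/-- The derived series of a subgroup. -/
def ds (P : Subgroup H) : ℕ → Subgroup H
  | 0 => P
  | i + 1 => ⁅ds P i, ds P i⁆

theorem ds_zero (P : Subgroup H) : ds P 0 = P := rfl

theorem ds_succ (P : Subgroup H) (i : ℕ) : ds P (i + 1) = ⁅ds P i, ds P i⁆ := rfl

theorem ds_succ_le (P : Subgroup H) (i : ℕ) : ds P (i + 1) ≤ ds P i := (ds P i).commutator_le_self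

theorem ds_antitone (P : Subgroup H) {i j : ℕ} (h : i ≤ j) : ds P j ≤ ds P i :=
  antitone_nat_of_succ_le (ds_succ_le P) h

theorem ds_le (P : Subgroup H) (i : ℕ) : ds P i ≤ P := ds_antitone P (Nat.zero_le i)

theorem ds_mono {P Q : Subgroup H} (h : P ≤ Q) : ∀ i, ds P i ≤ ds Q i
  | 0 => h
  | i + 1 => Subgroup.commutator_mono (ds_mono h i) (ds_mono h i)

theorem map_ds {G : Type*} [Group G] (f : G →* H) (P : Subgroup G) :
    ∀ i, (ds P i).map f = ds (P.map f) i
  | 0 => rfl
  | i + 1 => by rw [ds_succ, ds_succ, Subgroup.map_commutator, map_ds f P i]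

theorem normalizer_le_normalizer_ds (P : Subgroup H) :
    ∀ i, Subgroup.normalizer (P : Set H) ≤ Subgroup.normalizer (ds P i : Set H)
  | 0 => le_rfl
  | i + 1 => Cfsg.Agent.HallHigman.le_normalizer_commutator_of_le
      (normalizer_le_normalizer_ds P i) (normalizer_le_normalizer_ds P i)

theorem le_normalizer_ds (P : Subgroup H) (i : ℕ) : P ≤ Subgroup.normalizer (ds P i : Set H) :=
  Subgroup.le_normalizer.trans (normalizer_le_normalizer_ds P i)

/-- The chain of operators in an abelian group. -/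
def chain {V : Type*} [CommGroup V] (φ : H →* MulAut V) (P : Subgroup H) (X : Subgroup V) :
    ℕ → Subgroup V
  | 0 => X
  | i + 1 => Subgroup.closure {u | ∃ g ∈ ds P i, ∃ v ∈ chain φ P X i, φ g v * v⁻¹ = u}

variable {K : Type*} [Field K] {W : Type*} [AddCommGroup W] [Module K W]

/-- The chain of operators in a vector space. -/
def ops (ρ : Representation K H W) (P : Subgroup H) : ℕ → Submodule K W
  | 0 => ⊤
  | i + 1 => ⨆ g : ds P i, (ops ρ P i).map (ρ (g : H) - 1)

theorem sub_one_apply_mem (ρ : Representation K H W) {P : Subgroup H} {i : ℕ} {g : H}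
    (hg : g ∈ ds P i) {w : W} (hw : w ∈ ops ρ P i) : (ρ g - 1) w ∈ ops ρ P (i + 1) :=
  (le_iSup (fun g : ds P i => (ops ρ P i).map (ρ (g : H) - 1)) ⟨g, hg⟩) ⟨w, hw, rfl⟩

/-- Elements of `ds P i` move vectors into the `i`-th term. -/
theorem sub_one_mem (ρ : Representation K H W) (P : Subgroup H) :
    ∀ (i : ℕ), ∀ g ∈ ds P i, ∀ w : W, (ρ g - 1) w ∈ ops ρ P i
  | 0, _, _, _ => trivial
  | i + 1, g, hg, w => by
    let X : Subgroup H :=
      { carrier := {g | ∀ w : W, (ρ g - 1) w ∈ ops ρ P (i + 1)}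
        one_mem' := fun w => by rw [map_one, sub_self]; exact Submodule.zero_mem _
        mul_mem' := fun {a b} ha hb w => by
          have e : (ρ (a * b) - 1) w = (ρ a - 1) (ρ b w) + (ρ b - 1) w := by
            rw [map_mul]
            simp only [LinearMap.sub_apply, Module.End.mul_apply, Module.End.one_apply]
            abel
          rw [e]
          exact Submodule.add_mem _ (ha _) (hb _)
        inv_mem' := fun {a} ha w => by
          have e : (ρ a⁻¹ - 1) w = -((ρ a - 1) (ρ a⁻¹ w)) := by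
            simp only [LinearMap.sub_apply, Module.End.one_apply]
            rw [← Module.End.mul_apply, ← map_mul, mul_inv_cancel, map_one, Module.End.one_apply]
            abel
          rw [e]
          exact Submodule.neg_mem _ (ha _) }
    refine (show ds P (i + 1) ≤ X from ?_) hg w
    rw [ds_succ, Subgroup.commutator_le]
    intro a ha b hb w
    set u := ρ a⁻¹ (ρ b⁻¹ w)
    have e : (ρ ⁅a, b⁆ - 1) w = (ρ a - 1) ((ρ b - 1) u) - (ρ b - 1) ((ρ a - 1) u) := by
      have hw : w = ρ b (ρ a u) := by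
        simp only [u, ← Module.End.mul_apply, ← map_mul]
        rw [mul_inv_cancel_left, mul_inv_cancel, map_one, Module.End.one_apply]
      have h1 : ρ ⁅a, b⁆ w = ρ a (ρ b u) := by
        simp only [u, ← Module.End.mul_apply, ← map_mul]
        simp only [commutatorElement_def, mul_assoc]
      simp only [LinearMap.sub_apply, Module.End.one_apply, h1, map_sub]
      rw [← hw]
      abel
    rw [e]
    exact Submodule.sub_mem _ (sub_one_apply_mem ρ ha (sub_one_mem ρ P i b hb u))
      (sub_one_apply_mem ρ hb (sub_one_mem ρ P i a ha u))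

/-- A vanishing chain gives vanishing operators. -/
theorem ops_eq_bot {M : Type*} [AddCommGroup M] {l : ℕ} [Module (ZMod l) M]
    (ψ : H →* Module.End (ZMod l) M) (Φ : Module.End (ZMod l) M →+* Module.End K W)
    (ρ : Representation K H W) (hρ : ∀ g, ρ g = Φ (ψ g)) (P : Subgroup H) (T : ℕ → Set M)
    (h0 : ∀ m, m ∈ T 0) (hstep : ∀ i, ∀ g ∈ ds P i, ∀ m ∈ T i, ψ g m - m ∈ T (i + 1)) {d : ℕ}
    (hd : ∀ m ∈ T d, m = 0) : ops ρ P d = ⊥ := by
  have key : ∀ i, ops ρ P i ≤
      ⨆ A : {A : Module.End (ZMod l) M // ∀ m, A m ∈ T i}, LinearMap.range (Φ A.1) := by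
    intro i
    induction i with
    | zero =>
      refine le_trans ?_ (le_iSup _ ⟨1, fun m => h0 _⟩)
      rw [map_one]
      exact fun w _ => ⟨w, rfl⟩
    | succ i ih =>
      refine iSup_le fun g => ?_
      refine (Submodule.map_mono ih).trans ?_
      rw [Submodule.map_iSup]
      refine iSup_le fun A => ?_
      refine le_trans ?_ (le_iSup _ ⟨(ψ (g : H) - 1) * A.1, fun m => hstep i g g.2 _ (A.2 m)⟩)
      rintro _ ⟨_, ⟨w, rfl⟩, rfl⟩
      refine ⟨w, ?_⟩
      show Φ ((ψ (g : H) - 1) * A.1) w = _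
      rw [map_mul, map_sub, map_one, ← hρ]
      rfl
  refine le_bot_iff.mp ((key d).trans (iSup_le fun A => ?_))
  rw [show A.1 = 0 from LinearMap.ext fun m => hd _ (A.2 m), map_zero, LinearMap.range_zero]

/-! ### The component -/

variable {q : ℕ} {C : Subgroup H} (hC : ClassTwo q C)
  (l : ↥(C ⊓ Subgroup.centralizer (C : Set H)) →* K) (ρ : Representation K H W)

/-- The eigenspace. -/
def eig : Submodule K W where
  carrier := {w | ∀ z : ↥(C ⊓ Subgroup.centralizer (C : Set H)), ρ (z : H) w = l z • w}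
  zero_mem' := fun z => by rw [map_zero, smul_zero]
  add_mem' := fun {u v} hu hv z => by rw [map_add, hu, hv, smul_add]
  smul_mem' := fun c u hu z => by rw [map_smul, hu, smul_comm]

include hC in
theorem apply_mem_eig {g : H} (hg : g ∈ stab hC l) {w : W} (hw : w ∈ eig l ρ) :
    ρ g w ∈ eig l ρ := by
  intro z
  have := hC.normal
  have hZn : (C ⊓ Subgroup.centralizer (C : Set H)).Normal := inferInstance
  have hz : g⁻¹ * (z : H) * g ∈ C ⊓ Subgroup.centralizer (C : Set H) := by
    simpa using hZn.conj_mem z z.2 g⁻¹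
  rw [← Module.End.mul_apply, ← map_mul, show (z : H) * g = g * (g⁻¹ * (z : H) * g) by group,
    map_mul, Module.End.mul_apply, hw ⟨_, hz⟩, map_smul,
    hg ⟨_, hz⟩ z (by show (z : H) = g * (g⁻¹ * (z : H) * g) * g⁻¹; group)]

include hC in
theorem mem_stab_of_mem {c : H} (hc : c ∈ C) : c ∈ stab hC l :=
  mem_stab_of_centralizer hC l (Subgroup.mem_centralizer_iff.mpr fun z hz =>
    (Subgroup.mem_centralizer_iff.mp hz.2 c hc).symm)

variable [Finite H]

theorem exists_moving {P : Subgroup H} (hP : IsPGroup 2 P) (St : Subgroup H) (i : ℕ)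
    (h : ¬ ds P i ≤ St) :
    ∃ g ∈ ds P i, ∀ t ∈ ds P (i + 1), ∀ s ∈ St, s ∈ ds P i → g ≠ t * s := by
  have : Fact (Nat.Prime 2) := ⟨Nat.prime_two⟩
  set D := ds P i
  have hDp : IsPGroup 2 D := hP.to_le (ds_le P i)
  set H' : Subgroup D := St.subgroupOf D
  have hne : commutator D ⊔ H' ≠ ⊤ := by
    intro htop
    refine h (Subgroup.subgroupOf_eq_top.mp (frattini_nongenerating (top_le_iff.mp ?_)))
    rw [← htop, sup_comm]
    exact sup_le_sup_left (Cfsg.Agent.PGroupsBasic.commutator_le_frattini hDp) _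
  obtain ⟨g, -, hg⟩ := SetLike.exists_of_lt (lt_of_le_of_ne le_top hne)
  refine ⟨g, g.2, fun t ht s hs hsD hgs => hg ?_⟩
  have htD : t ∈ (commutator D).map D.subtype := by
    rw [commutator_def, Subgroup.map_commutator, ← MonoidHom.range_eq_map, Subgroup.range_subtype]
    exact ht
  obtain ⟨t', ht', rfl⟩ := htD
  rw [show g = t' * ⟨s, hsD⟩ from Subtype.ext hgs]
  exact mul_mem (Subgroup.mem_sup_left ht') (Subgroup.mem_sup_right (show ⟨s, hsD⟩ ∈ H' from hs))

variable [CharP K 2]

include hC in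
theorem card_ne_zero :
    (Nat.card ↥(C ⊓ Subgroup.centralizer (C : Set H)) : K) ≠ 0 := by
  have := Fact.mk hC.prime
  obtain ⟨k, hk⟩ := IsPGroup.iff_card.mp
    (hC.isP.to_le (inf_le_left : C ⊓ Subgroup.centralizer (C : Set H) ≤ C))
  rw [hk, Nat.cast_pow]
  refine pow_ne_zero _ ?_
  rw [Ne, CharP.cast_eq_zero_iff K 2, Nat.prime_dvd_prime_iff_eq Nat.prime_two hC.prime]
  exact Ne.symm hC.two_ne

/-- The projection onto the eigenspace. -/
noncomputable def proj : Module.End K W :=
  letI := Fintype.ofFinite ↥(C ⊓ Subgroup.centralizer (C : Set H))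
  (Nat.card ↥(C ⊓ Subgroup.centralizer (C : Set H)) : K)⁻¹ •
    ∑ z : ↥(C ⊓ Subgroup.centralizer (C : Set H)), l z⁻¹ • ρ (z : H)

include hC in
theorem proj_fix {w : W} (hw : w ∈ eig l ρ) : proj l ρ w = w := by
  let _ : Fintype ↥(C ⊓ Subgroup.centralizer (C : Set H)) := Fintype.ofFinite _
  unfold proj
  rw [LinearMap.smul_apply, LinearMap.sum_apply,
    Finset.sum_congr rfl fun z _ => show (l z⁻¹ • ρ (z : H)) w = w by
      rw [LinearMap.smul_apply, hw z, smul_smul, ← map_mul, inv_mul_cancel, map_one, one_smul],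
    Finset.sum_const, Finset.card_univ, ← Nat.card_eq_fintype_card, ← Nat.cast_smul_eq_nsmul K,
    smul_smul, inv_mul_cancel₀ (card_ne_zero hC), one_smul]

include hC in
theorem proj_other {g : H} (hg : g ∉ stab hC l) {w : W} (hw : w ∈ eig l ρ) :
    proj l ρ (ρ g w) = 0 := by
  have := hC.normal
  let _ : Fintype ↥(C ⊓ Subgroup.centralizer (C : Set H)) := Fintype.ofFinite _
  have hZn : (C ⊓ Subgroup.centralizer (C : Set H)).Normal := inferInstance
  let cj : ↥(C ⊓ Subgroup.centralizer (C : Set H)) →* ↥(C ⊓ Subgroup.centralizer (C : Set H)) :=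
    { toFun := fun z => ⟨g⁻¹ * (z : H) * g, by simpa using hZn.conj_mem z z.2 g⁻¹⟩
      map_one' := Subtype.ext (by simp)
      map_mul' := fun a b => Subtype.ext (by
        show g⁻¹ * ((a : H) * b) * g = g⁻¹ * a * g * (g⁻¹ * b * g)
        group) }
  let χ : ↥(C ⊓ Subgroup.centralizer (C : Set H)) →* K :=
    { toFun := fun z => l z⁻¹ * l (cj z)
      map_one' := by rw [inv_one, map_one cj, map_one, one_mul]
      map_mul' := fun a b => by
        rw [map_mul cj, map_mul l (cj a), mul_inv_rev, map_mul l]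
        ring }
  have hχ : χ ≠ 1 := by
    intro h
    refine hg fun a b hb => ?_
    have h1 : l b⁻¹ * l (cj b) = 1 := DFunLike.congr_fun h b
    rw [show cj b = a from Subtype.ext (by show g⁻¹ * (b : H) * g = a; rw [hb]; group)] at h1
    calc l b = l b * (l b⁻¹ * l a) := by rw [h1, mul_one]
      _ = l a := by rw [← mul_assoc, ← map_mul, mul_inv_cancel, map_one, one_mul]
  have hsum : ∑ z : ↥(C ⊓ Subgroup.centralizer (C : Set H)), χ z = 0 := sum_hom_units_eq_zero χ hχ
  unfold proj
  rw [LinearMap.smul_apply, LinearMap.sum_apply,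
    Finset.sum_congr rfl fun z _ => show (l z⁻¹ • ρ (z : H)) (ρ g w) = χ z • ρ g w by
      rw [LinearMap.smul_apply, ← Module.End.mul_apply, ← map_mul,
        show (z : H) * g = g * (cj z : H) by show (z : H) * g = g * (g⁻¹ * (z : H) * g); group,
        map_mul, Module.End.mul_apply, hw (cj z), map_smul, smul_smul]
      rfl,
    ← Finset.sum_smul, hsum, zero_smul, smul_zero]

include hC in
theorem proj_comm {g : H} (hg : g ∈ stab hC l) : proj l ρ * ρ g = ρ g * proj l ρ := by
  have := hC.normal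
  let _ : Fintype ↥(C ⊓ Subgroup.centralizer (C : Set H)) := Fintype.ofFinite _
  unfold proj
  rw [smul_mul_assoc, mul_smul_comm, Finset.sum_mul, Finset.mul_sum]
  congr 1
  refine Fintype.sum_equiv (MulAut.conjNormal g⁻¹).toEquiv _ _ fun z => ?_
  rw [mul_smul_comm, smul_mul_assoc, ← map_mul, ← map_mul]
  have hl : l ((MulAut.conjNormal g⁻¹ : MulAut ↥(C ⊓ Subgroup.centralizer (C : Set H))) z)⁻¹ = l z⁻¹ :=
    (hg _ _ (by
      rw [InvMemClass.coe_inv, InvMemClass.coe_inv, MulAut.conjNormal_apply]; group)).symm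
  show l z⁻¹ • ρ ((z : H) * g) =
    l ((MulAut.conjNormal g⁻¹ : MulAut ↥(C ⊓ Subgroup.centralizer (C : Set H))) z)⁻¹ • ρ (g * ((MulAut.conjNormal g⁻¹ : MulAut ↥(C ⊓ Subgroup.centralizer (C : Set H))) z : H))
  rw [hl, MulAut.conjNormal_apply, inv_inv, show g * (g⁻¹ * (z : H) * g) = z * g by group]

include hC in
/-- If the first terms of the derived series move `l`, eigenvectors are projections of vectors in
the chain. -/
theorem exists_lift_ops {P : Subgroup H} (hP : IsPGroup 2 P) {w : W} (hw : w ∈ eig l ρ) :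
    ∀ i : ℕ, (∀ j < i, ¬ ds P j ≤ stab hC l) →
      ∃ v ∈ ops ρ P i, proj l ρ v = w ∧
        ∀ h ∈ ds P i, h ∉ stab hC l → proj l ρ (ρ h v) = 0
  | 0, _ => ⟨w, trivial, proj_fix hC l ρ hw, fun h _ hh => proj_other hC l ρ hh hw⟩
  | i + 1, hmove => by
    obtain ⟨v, hv, hvw, hv0⟩ := exists_lift_ops hP hw i fun j hj => hmove j (by omega)
    obtain ⟨g, hg, hgne⟩ := exists_moving hP (stab hC l) i (hmove i (by omega))
    have hgst : ∀ t ∈ ds P (i + 1), t * g ∉ stab hC l := fun t ht hts =>
      hgne t⁻¹ (Subgroup.inv_mem _ ht) (t * g) hts (mul_mem (ds_succ_le P i ht) hg) (by group)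
    refine ⟨(ρ g - 1) v, sub_one_apply_mem ρ hg hv, ?_, fun h hh hhs => ?_⟩
    · rw [LinearMap.sub_apply, Module.End.one_apply, map_sub, hvw,
        hv0 g hg (by simpa using hgst 1 (Subgroup.one_mem _)), zero_sub,
        ← neg_one_smul K w, CharTwo.neg_eq, one_smul]
    · rw [LinearMap.sub_apply, Module.End.one_apply, map_sub, map_sub, ← Module.End.mul_apply (ρ h),
        ← map_mul, hv0 _ (mul_mem (ds_succ_le P i hh) hg) (hgst h hh),
        hv0 _ (ds_succ_le P i hh) hhs, sub_self]

include hC in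
/-- The last derived subgroup fixes the eigencharacters. -/
theorem ds_le_stab {P : Subgroup H} (hP : IsPGroup 2 P) {d : ℕ} (hd : 1 ≤ d)
    (hops : ops ρ P d = ⊥) (hl : ∃ w ∈ eig l ρ, w ≠ 0) : ds P (d - 1) ≤ stab hC l := by
  by_contra h
  obtain ⟨w, hw, hw0⟩ := hl
  obtain ⟨v, hv, hvw, -⟩ := exists_lift_ops hC l ρ hP hw d
    fun j hj hle => h ((ds_antitone P (by omega)).trans hle)
  rw [hops, Submodule.mem_bot] at hv
  exact hw0 (by rw [← hvw, hv, map_zero])

include hC in
/-- The operators killing the `i`-th term kill the eigenspace. -/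
theorem apply_eq_zero {P : Subgroup H} (hP : IsPGroup 2 P) {i : ℕ}
    (hmove : ∀ j < i, ¬ ds P j ≤ stab hC l) (T : Module.End K W)
    (hT : proj l ρ * T = T * proj l ρ) (hTS : ∀ v ∈ ops ρ P i, T v = 0) {w : W}
    (hw : w ∈ eig l ρ) : T w = 0 := by
  obtain ⟨v, hv, hvw, -⟩ := exists_lift_ops hC l ρ hP hw i hmove
  rw [← hvw, ← Module.End.mul_apply, ← hT, Module.End.mul_apply, hTS v hv, map_zero]

variable [IsAlgClosed K] [FiniteDimensional K W]

set_option maxHeartbeats 3200000 in
include ρ in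
/-- On a component the last derived subgroup consists of `1` and tops with roots. -/
theorem local_top {P : Subgroup H} (hP : IsPGroup 2 P) {d : ℕ} (hd1 : 1 ≤ d)
    (hds : ds P d = ⊥) (hops : ops ρ P d = ⊥) (hρ : ∀ g, ρ g = 1 → g = 1)
    (hl : ∃ w ∈ eig l ρ, w ≠ 0) {b : H} (hb : b ∈ ds P (d - 1)) (hbst : b ∈ stab hC l)
    (hne : act hC l ⟨b, hbst⟩ ≠ 1) :
    2 ≤ d ∧ (space hC l).Top (act hC l ⟨b, hbst⟩) ∧ ds P (d - 2) ≤ stab hC l ∧
      (∀ b' ∈ ds P (d - 1), ∀ hb' : b' ∈ stab hC l,
        act hC l ⟨b', hb'⟩ = 1 ∨ act hC l ⟨b', hb'⟩ = act hC l ⟨b, hbst⟩) ∧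
      (∀ c ∈ ds P (d - 2), ∀ hc : c ∈ stab hC l, ∀ v, act hC l ⟨b, hbst⟩ v = v →
        act hC l ⟨c, hc⟩ v = v) ∧
      ∃ w ∈ (P.subgroupOf (stab hC l)).map (act hC l), (space hC l).Root w ∧
        w * w = act hC l ⟨b, hbst⟩ := by
  classical
  -- `d = 1` is impossible
  obtain ⟨d, rfl⟩ : ∃ e, d = e + 2 := by
    refine Nat.exists_eq_add_of_le' ?_
    by_contra hlt
    have hd : d = 1 := by omega
    subst hd
    have hb1 : b = 1 := hρ b (sub_eq_zero.mp (LinearMap.ext fun w => by
      have := sub_one_apply_mem ρ (P := P) (i := 0) hb (w := w) trivial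
      rwa [hops, Submodule.mem_bot] at this))
    subst hb1
    exact hne (by rw [show (⟨1, hbst⟩ : stab hC l) = 1 from rfl, map_one])
  simp only [show d + 2 - 1 = d + 1 by omega, show d + 2 - 2 = d by omega] at hb ⊢
  have hcomB : ∀ u ∈ ds P (d + 1), ∀ v ∈ ds P (d + 1), u * v = v * u := fun u hu v hv =>
    commutatorElement_eq_one_iff_mul_comm.mp (Subgroup.mem_bot.mp (hds ▸
      Subgroup.commutator_mem_commutator hu hv))
  have hBst : ds P (d + 1) ≤ stab hC l := by
    have := ds_le_stab hC l ρ hP hd1 hops hl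
    simpa using this
  have hvanish1 : ∀ v ∈ ops ρ P (d + 1), ∀ u ∈ ds P (d + 1), (ρ u - 1) v = 0 := fun v hv u hu => by
    have := sub_one_apply_mem ρ hu hv
    rwa [hops, Submodule.mem_bot] at this
  -- `ds P d` fixes `l`
  have hCst : ds P d ≤ stab hC l := by
    by_contra hno
    have hmove : ∀ j < d + 1, ¬ ds P j ≤ stab hC l := fun j hj hle =>
      hno ((ds_antitone P (by omega)).trans hle)
    have hzero : ∀ w ∈ eig l ρ, ρ b w = w := fun w hw => by
      have h := apply_eq_zero hC l ρ hP hmove (ρ b - 1)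
        (by rw [mul_sub, sub_mul, proj_comm hC l ρ hbst, mul_one, one_mul])
        (fun v hv => hvanish1 v hv b hb) hw
      rwa [LinearMap.sub_apply, Module.End.one_apply, sub_eq_zero] at h
    refine hne (MulEquiv.ext fun a => ?_)
    obtain ⟨a, rfl⟩ := QuotientGroup.mk_surjective a
    refine (act_fix_iff hC l _ a).mpr fun v hv hm => ?_
    obtain ⟨w, hw, hw0⟩ := hl
    have haw : ∀ u ∈ eig l ρ, ρ ⁅b, (a : H)⁆ u = u := by
      intro u hu
      have hu' := apply_mem_eig hC l ρ (mem_stab_of_mem hC l (C.inv_mem a.2)) hu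
      have hb' : ρ b⁻¹ (ρ (a : H)⁻¹ u) = ρ (a : H)⁻¹ u := by
        nth_rewrite 1 [← hzero _ hu']
        rw [← Module.End.mul_apply, ← map_mul, inv_mul_cancel, map_one]; rfl
      rw [commutatorElement_def, map_mul, map_mul, map_mul, Module.End.mul_apply,
        Module.End.mul_apply, Module.End.mul_apply, hb', ← Module.End.mul_apply (ρ (a : H)),
        ← map_mul, mul_inv_cancel, map_one, Module.End.one_apply, hzero u hu]
    set c0 := ⁅b, (a : H)⁆
    have hc0 : ∀ u ∈ eig l ρ, ρ c0⁻¹ u = u := fun u hu => by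
      nth_rewrite 1 [← haw u hu]
      rw [← Module.End.mul_apply, ← map_mul, inv_mul_cancel, map_one]; rfl
    have h := hw ⟨⁅c0, v⁆, hm⟩
    have h' : ρ ⁅c0, v⁆ w = w := by
      rw [commutatorElement_def, map_mul, map_mul, map_mul, Module.End.mul_apply,
        Module.End.mul_apply, Module.End.mul_apply,
        hc0 _ (apply_mem_eig hC l ρ (mem_stab_of_mem hC l (C.inv_mem hv)) hw),
        ← Module.End.mul_apply (ρ v), ← map_mul, mul_inv_cancel, map_one, Module.End.one_apply,
        haw w hw]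
    rw [h'] at h
    by_contra hne'
    exact hw0 ((smul_eq_zero.mp (show (l ⟨⁅c0, v⁆, hm⟩ - 1) • w = 0 by
      rw [sub_smul, one_smul, ← h, sub_self])).resolve_left (sub_ne_zero.mpr hne'))
  -- the operators on the component
  set St := stab hC l
  set P0 : Subgroup St := P.subgroupOf St with hP0
  have hP0p : IsPGroup 2 P0 := hP.comap_subtype
  set Pi : Subgroup (MulAut (Quot hC l)) := P0.map (act hC l)
  let f : P0 →* Pi := (act hC l).subgroupMap P0
  have hfs : Function.Surjective f := (act hC l).subgroupMap_surjective P0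
  have hcoef : ∀ g : P0, ((f g : Pi) : MulAut (Quot hC l)) = act hC l (g : St) := fun g => rfl
  have hker1 : ∀ k : P0, k ∈ f.ker ↔ act hC l (k : St) = 1 := fun k =>
    ⟨fun h => congrArg Subtype.val (MonoidHom.mem_ker.mp h),
      fun h => MonoidHom.mem_ker.mpr (Subtype.ext h)⟩
  let U : Submodule K W :=
    { carrier := {w | w ∈ eig l ρ ∧ ∀ k : P0, k ∈ f.ker → ρ ((k : St) : H) w = w}
      zero_mem' := ⟨Submodule.zero_mem _, fun k _ => map_zero _⟩
      add_mem' := fun {u v} hu hv => ⟨Submodule.add_mem _ hu.1 hv.1,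
        fun k hk => by rw [map_add, hu.2 k hk, hv.2 k hk]⟩
      smul_mem' := fun c u hu => ⟨Submodule.smul_mem _ c hu.1,
        fun k hk => by rw [map_smul, hu.2 k hk]⟩ }
  have hρU : ∀ g : P0, ∀ w ∈ U, ρ ((g : St) : H) w ∈ U := by
    intro g w hw
    refine ⟨apply_mem_eig hC l ρ (g : St).2 hw.1, fun k hk => ?_⟩
    have hk' : g⁻¹ * k * g ∈ f.ker := by
      have := (inferInstance : f.ker.Normal).conj_mem k hk g⁻¹
      simpa using this
    rw [← Module.End.mul_apply, ← map_mul,
      show ((k : St) : H) * ((g : St) : H) = ((g : St) : H) * (((g⁻¹ * k * g : P0) : St) : H) by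
        push_cast; group, map_mul, Module.End.mul_apply, hw.2 _ hk']
  have : Nontrivial U := by
    obtain ⟨w0, hw0, hw0'⟩ := hl
    have : Nontrivial (eig l ρ) := ⟨⟨⟨w0, hw0⟩, 0, fun h => hw0' (congrArg Subtype.val h)⟩⟩
    obtain ⟨w, hw1, hw2⟩ := exists_fixed_vector (K := K) (W := eig l ρ) (R := f.ker)
      (hP0p.to_subgroup f.ker)
      { toFun := fun k => (ρ (((k : P0) : St) : H)).restrict fun w hw =>
            apply_mem_eig hC l ρ ((k : P0) : St).2 hw
        map_one' := LinearMap.ext fun w => Subtype.ext (by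
          show ρ (((((1 : f.ker) : P0) : St)) : H) (w : W) = w
          simp)
        map_mul' := fun a b => LinearMap.ext fun w => Subtype.ext (by
          show ρ (((((a * b : f.ker) : P0) : St)) : H) (w : W) = _
          rw [Subgroup.coe_mul, Subgroup.coe_mul, Subgroup.coe_mul, map_mul]; rfl) }
    exact ⟨⟨⟨w, w.2, fun k hk => congrArg Subtype.val (hw2 ⟨k, hk⟩)⟩, 0,
      fun h => hw1 (Subtype.ext (congrArg (fun u : U => (u : W)) h))⟩⟩
  let Γ : Subgroup C :=
    { carrier := {u | ∀ k : P0, k ∈ f.ker → conjC hC l (k : St) u = u}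
      one_mem' := fun k _ => map_one _
      mul_mem' := fun {u v} hu hv k hk => by rw [map_mul, hu k hk, hv k hk]
      inv_mem' := fun {u} hu k hk => by rw [map_inv, hu k hk] }
  have hcc : ∀ (g h : St) (u : C), conjC hC l (g * h) u = conjC hC l g (conjC hC l h u) :=
    fun g h u => Subtype.ext (by simp only [coe_conjC, Subgroup.coe_mul]; group)
  have hc1 : ∀ u : C, conjC hC l 1 u = u := fun u => Subtype.ext (by rw [coe_conjC]; simp)
  have hσΓ : ∀ g : P0, ∀ u ∈ Γ, conjC hC l (g : St) u ∈ Γ := by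
    intro g u hu k hk
    have hk' : g⁻¹ * k * g ∈ f.ker := by
      have := (inferInstance : f.ker.Normal).conj_mem k hk g⁻¹
      simpa using this
    rw [← hcc, show (k : St) * (g : St) = (g : St) * ((g⁻¹ * k * g : P0) : St) by push_cast; group,
      hcc, hu _ hk']
  let ρ0 : P0 →* Module.End K U :=
    { toFun := fun g => (ρ ((g : St) : H)).restrict (hρU g)
      map_one' := LinearMap.ext fun w => Subtype.ext (by
        show ρ (((1 : P0) : St) : H) (w : W) = w
        rw [OneMemClass.coe_one, OneMemClass.coe_one, map_one]; rfl)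
      map_mul' := fun g h => LinearMap.ext fun w => Subtype.ext (by
        show ρ (((g * h : P0) : St) : H) (w : W) = ρ ((g : St) : H) (ρ ((h : St) : H) (w : W))
        rw [Subgroup.coe_mul, Subgroup.coe_mul, map_mul]; rfl) }
  let σ0 : P0 →* MulAut Γ :=
    { toFun := fun g =>
        { toFun := fun u => ⟨conjC hC l (g : St) u, hσΓ g u u.2⟩
          invFun := fun u => ⟨conjC hC l ((g⁻¹ : P0) : St) u, hσΓ g⁻¹ u u.2⟩
          left_inv := fun u => Subtype.ext (by
            show conjC hC l ((g⁻¹ : P0) : St) (conjC hC l (g : St) u) = (u : C)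
            rw [← hcc, InvMemClass.coe_inv, inv_mul_cancel, hc1])
          right_inv := fun u => Subtype.ext (by
            show conjC hC l (g : St) (conjC hC l ((g⁻¹ : P0) : St) u) = (u : C)
            rw [← hcc, InvMemClass.coe_inv, mul_inv_cancel, hc1])
          map_mul' := fun u v => Subtype.ext (map_mul (conjC hC l (g : St)) (u : C) v) }
      map_one' := MulEquiv.ext fun u => Subtype.ext (hc1 u)
      map_mul' := fun g h => MulEquiv.ext fun u => Subtype.ext (hcc g h u) }
  have hkρ : f.ker ≤ ρ0.toHomUnits.ker := fun k hk =>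
    Units.ext (LinearMap.ext fun w => Subtype.ext (w.2.2 k hk))
  have hkσ : f.ker ≤ σ0.ker := fun k hk =>
    MulEquiv.ext fun u => Subtype.ext (u.2 k hk)
  let ρ1 : Pi →* Module.End K U :=
    (Units.coeHom _).comp (f.liftOfSurjective hfs ⟨ρ0.toHomUnits, hkρ⟩)
  let σ1 : Pi →* MulAut Γ := f.liftOfSurjective hfs ⟨σ0, hkσ⟩
  have hρ1 : ∀ g, ρ1 (f g) = ρ0 g := fun g => by
    show ((f.liftOfSurjective hfs ⟨ρ0.toHomUnits, hkρ⟩ (f g) : (Module.End K U)ˣ) : _) = ρ0 g
    rw [MonoidHom.liftOfRightInverse_comp_apply]; rfl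
  have hσ1 : ∀ g, σ1 (f g) = σ0 g := fun g => f.liftOfRightInverse_comp_apply _ _ _ g
  let L : Loc (space hC l) Pi Γ U :=
    { two := hP0p.map _
      iso := by rintro _ ⟨g, -, rfl⟩; exact act_iso hC l g
      ρ := ρ1
      π := (QuotientGroup.mk' (pair hC l).ker).comp Γ.subtype
      r :=
        { toFun := fun u => (ρ ((u : C) : H)).restrict (fun w (hw : w ∈ U) =>
            (⟨apply_mem_eig hC l ρ (mem_stab_of_mem hC l (u : C).2) hw.1, fun k hk => by
              have h1 : ((k : St) : H) * ((u : C) : H) = ((u : C) : H) * ((k : St) : H) := by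
                have := congrArg (fun x : C => (x : H)) (u.2 k hk)
                simp only [coe_conjC] at this
                exact mul_inv_eq_iff_eq_mul.mp this
              rw [← Module.End.mul_apply, ← map_mul, h1, map_mul, Module.End.mul_apply,
                hw.2 k hk]⟩ : ρ ((u : C) : H) w ∈ U))
          map_one' := LinearMap.ext fun w => Subtype.ext (by
            show ρ (((1 : Γ) : C) : H) (w : W) = w
            rw [OneMemClass.coe_one, OneMemClass.coe_one, map_one]; rfl)
          map_mul' := fun u v => LinearMap.ext fun w => Subtype.ext (by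
            show ρ (((u * v : Γ) : C) : H) (w : W) = ρ ((u : C) : H) (ρ ((v : C) : H) (w : W))
            rw [Subgroup.coe_mul, Subgroup.coe_mul, map_mul]; rfl) }
      σ := σ1
      inter := by
        intro g u
        obtain ⟨g, rfl⟩ := hfs g
        rw [hρ1, hσ1]
        refine LinearMap.ext fun w => Subtype.ext ?_
        show ρ ((g : St) : H) (ρ ((u : C) : H) (w : W)) =
          ρ ((conjC hC l (g : St) (u : C) : C) : H) (ρ ((g : St) : H) (w : W))
        rw [← Module.End.mul_apply, ← map_mul, ← Module.End.mul_apply, ← map_mul, coe_conjC,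
          inv_mul_cancel_right]
      σ_π := by
        intro g u
        obtain ⟨g, rfl⟩ := hfs g
        rw [hσ1]
        rfl
      comm := fun u v => LinearMap.ext fun w => Subtype.ext (w.2.1 ⟨_, hC.comm _ (u : C).2 _ (v : C).2⟩)
      lift := by
        intro A0 e he
        obtain ⟨k, rfl⟩ := QuotientGroup.mk_surjective e
        set A : Subgroup H := ((A0.comap f).map P0.subtype).map St.subtype
        set R0 : Subgroup H := (pair hC l).ker.map C.subtype
        have hAmem : ∀ a ∈ A0.comap f, ((a : St) : H) ∈ A := fun a ha =>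
          ⟨(a : St), ⟨a, ha, rfl⟩, rfl⟩
        have hcop : (Nat.card A).Coprime (Nat.card R0) := by
          have := Fact.mk hC.prime
          have : Fact (Nat.Prime 2) := ⟨Nat.prime_two⟩
          obtain ⟨i, hi⟩ := IsPGroup.iff_card.mp (((hP0p.to_subgroup (A0.comap f)).map
            P0.subtype).map St.subtype)
          obtain ⟨j, hj⟩ := IsPGroup.iff_card.mp (hC.isP.to_le (Subgroup.map_subtype_le _ :
            R0 ≤ C))
          rw [hi, hj]
          exact Nat.Coprime.pow _ _
            ((Nat.coprime_primes Nat.prime_two hC.prime).mpr (Ne.symm hC.two_ne))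
        have hAn : A ≤ Subgroup.normalizer (R0 : Set H) := by
          rintro _ ⟨g, -, rfl⟩
          have hm : ∀ g : St, ∀ r ∈ R0, (g : H) * r * (g : H)⁻¹ ∈ R0 := by
            rintro g _ ⟨r, hr, rfl⟩
            exact ⟨conjC hC l g r, map_conjC hC l g ▸ ⟨r, hr, rfl⟩, coe_conjC hC l g r⟩
          show (g : H) ∈ _
          refine Subgroup.mem_normalizer_iff.mpr fun r => ⟨hm g r, fun hr => ?_⟩
          have := hm g⁻¹ _ hr
          rwa [show ((g⁻¹ : St) : H) * ((g : H) * r * (g : H)⁻¹) * ((g⁻¹ : St) : H)⁻¹ = r by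
            rw [InvMemClass.coe_inv]; group] at this
        obtain ⟨c, hc, hck⟩ := Cfsg.Agent.CoprimeAction.exists_fixed_mem_coset hAn hcop
          (Or.inr (@Cfsg.Agent.CoprimeAction.isSolvable_of_isPGroup H _ _ q ⟨hC.prime⟩ _
            (hC.isP.to_le (Subgroup.map_subtype_le _ : R0 ≤ C)))) (k : H) (by
            rintro _ ⟨g, ⟨a, ha, rfl⟩, rfl⟩
            show (k : H)⁻¹ * ((a : St) : H) * (k : H) * ((a : St) : H)⁻¹ ∈ R0
            have h1 : act hC l (a : St) (k : Quot hC l) = (k : Quot hC l) := he (f a) ha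
            rw [act_apply, QuotientGroup.eq] at h1
            have h2 : ((((conjC hC l (a : St) k)⁻¹ * k)⁻¹ : C) : H) ∈ R0 :=
              ⟨_, inv_mem h1, rfl⟩
            simp only [Subgroup.coe_mul, InvMemClass.coe_inv, coe_conjC, mul_inv_rev, inv_inv]
              at h2
            simpa [mul_assoc] using h2)
        have hcC : c ∈ C := by
          have := C.mul_mem k.2 (Subgroup.map_subtype_le _ hck)
          rwa [mul_inv_cancel_left] at this
        have hfixc : ∀ a ∈ A0.comap f, conjC hC l (a : St) ⟨c, hcC⟩ = ⟨c, hcC⟩ := fun a ha =>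
          Subtype.ext (by
            rw [coe_conjC]
            exact mul_inv_eq_iff_eq_mul.mpr (Subgroup.mem_centralizer_iff.mp hc _ (hAmem a ha)))
        refine ⟨⟨⟨c, hcC⟩, fun a ha => hfixc a ?_⟩, ?_, fun a ha => ?_⟩
        · show f a ∈ A0
          rw [MonoidHom.mem_ker.mp ha]; exact A0.one_mem
        · show ((⟨c, hcC⟩ : C) : Quot hC l) = (k : Quot hC l)
          refine (QuotientGroup.eq.mpr ?_).symm
          obtain ⟨r, hr, hrk⟩ := hck
          rwa [show k⁻¹ * (⟨c, hcC⟩ : C) = r from Subtype.ext hrk.symm]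
        · obtain ⟨a, rfl⟩ := hfs a
          rw [hσ1]
          exact Subtype.ext (hfixc a ha)
      isP := hC.isP.to_subgroup Γ }
  let img : Subgroup H → Subgroup Pi := fun X =>
    ((X.subgroupOf St).subgroupOf P0).map f
  have himgmem : ∀ {X : Subgroup H} {x : Pi}, x ∈ img X →
      ∃ g : P0, ((g : St) : H) ∈ X ∧ f g = x := by
    rintro X x ⟨g, hg, rfl⟩
    exact ⟨g, hg, rfl⟩
  have himg : ∀ j, ds P j ≤ St → img (ds P (j + 1)) = ⁅img (ds P j), img (ds P j)⁆ := by
    intro j hj
    show (((ds P (j + 1)).subgroupOf St).subgroupOf P0).map f = _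
    rw [← Subgroup.map_commutator]
    congr 1
    have hle : ∀ k, (ds P k).subgroupOf St ≤ P0 := fun k => Subgroup.comap_mono (ds_le P k)
    apply Subgroup.map_injective P0.subtype_injective
    rw [Subgroup.map_subgroupOf_eq_of_le (hle _), Subgroup.map_commutator,
      Subgroup.map_subgroupOf_eq_of_le (hle _)]
    apply Subgroup.map_injective St.subtype_injective
    rw [Subgroup.map_subgroupOf_eq_of_le ((ds_succ_le P j).trans hj), Subgroup.map_commutator,
      Subgroup.map_subgroupOf_eq_of_le hj, ds_succ]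
  set C0 := img (ds P d)
  have hB : ⁅C0, C0⁆ = img (ds P (d + 1)) := (himg d hCst).symm
  have hsub : ∀ (g : P0) (w : U), (((L.ρ (f g) - 1) w : U) : W) = (ρ ((g : St) : H) - 1) (w : W) :=
    fun g w => by
      show (((ρ1 (f g) - 1) w : U) : W) = _
      rw [hρ1]; rfl
  have hBB : ∀ x ∈ ⁅C0, C0⁆, ∀ y ∈ ⁅C0, C0⁆, (L.ρ x - 1) * (L.ρ y - 1) = 0 := by
    rw [hB]
    intro x hx y hy
    obtain ⟨x, hxi, rfl⟩ := himgmem hx; clear hx; have hx := hxi; clear hxi
    obtain ⟨y, hyi, rfl⟩ := himgmem hy; clear hy; have hy := hyi; clear hyi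
    refine LinearMap.ext fun w => Subtype.ext ?_
    rw [Module.End.mul_apply, hsub, hsub, hvanish1 _ (sub_one_mem ρ P _ _ hy _) _ hx]
    rfl
  have hBcomm : ∀ x ∈ ⁅C0, C0⁆, ∀ y ∈ ⁅C0, C0⁆, x * y = y * x := by
    rw [hB]
    intro x hx y hy
    obtain ⟨x, hxi, rfl⟩ := himgmem hx; clear hx; have hx := hxi; clear hxi
    obtain ⟨y, hyi, rfl⟩ := himgmem hy; clear hy; have hy := hyi; clear hyi
    rw [← map_mul, ← map_mul]
    exact congrArg f (Subtype.ext (Subtype.ext (hcomB _ hx _ hy)))
  have hbP : b ∈ P := ds_le P _ hb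
  set b0 : P0 := ⟨⟨b, hbst⟩, hbP⟩
  have hb0 : f b0 ∈ ⁅C0, C0⁆ := hB ▸ ⟨b0, hb, rfl⟩
  have hb01 : f b0 ≠ 1 := fun h => hne (congrArg Subtype.val h)
  by_cases hA : ∀ j < d, ¬ ds P j ≤ St
  · have hBC : ∀ x ∈ ⁅C0, C0⁆, ∀ y ∈ C0, (L.ρ x - 1) * (L.ρ y - 1) = 0 := by
      rw [hB]
      intro x hx y hy
      obtain ⟨x, hxi, rfl⟩ := himgmem hx; clear hx; have hx := hxi; clear hxi
      obtain ⟨y, hyi, rfl⟩ := himgmem hy; clear hy; have hy := hyi; clear hyi
      refine LinearMap.ext fun w => Subtype.ext ?_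
      rw [Module.End.mul_apply, hsub, hsub, ← Module.End.mul_apply]
      refine apply_eq_zero hC l ρ hP hA _ ?_ (fun v hv => ?_) w.2.1
      · have e : ∀ g : St, proj l ρ * (ρ (g : H) - 1) = (ρ (g : H) - 1) * proj l ρ := fun g => by
          rw [mul_sub, sub_mul, proj_comm hC l ρ g.2, mul_one, one_mul]
        rw [← mul_assoc, e, mul_assoc, e, ← mul_assoc]
      · rw [Module.End.mul_apply]
        exact hvanish1 _ (sub_one_apply_mem ρ hy hv) _ hx
    obtain ⟨htop, htwo, hfix, w, hwC, hroot, hww⟩ := exists_top_root L C0 hBB hBcomm hBC hb0 hb01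
    refine ⟨by omega, htop, hCst, fun b' hb' hb'st => ?_, fun c hc hcst v hv => ?_,
      w, ?_, hroot, congrArg Subtype.val hww⟩
    · rcases htwo (f ⟨⟨b', hb'st⟩, ds_le P _ hb'⟩) (hB ▸ ⟨_, hb', rfl⟩) with h | h
      · exact Or.inl (congrArg Subtype.val h)
      · exact Or.inr (congrArg Subtype.val h)
    · exact hfix (f ⟨⟨c, hcst⟩, ds_le P _ hc⟩) ⟨_, hc, rfl⟩ v hv
    · obtain ⟨g, -, rfl⟩ := himgmem hwC
      exact ⟨(g : St), g.2, rfl⟩
  · -- the chain through `ds P (d - 1)`
    exfalso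
    push Not at hA
    obtain ⟨j0, hj0, hj0le⟩ := hA
    obtain ⟨e, rfl⟩ : ∃ e, d = e + 1 := ⟨d - 1, by omega⟩
    have hDst : ds P e ≤ St := (ds_antitone P (by omega)).trans hj0le
    refine absurd_chain L C0 (img (ds P e)) (himg e hDst) hBB hBcomm ?_ ?_ hb0 hb01
    · rw [hB]
      intro x hx y hy z hz
      obtain ⟨x, hxi, rfl⟩ := himgmem hx; clear hx; have hx := hxi; clear hxi
      obtain ⟨y, hyi, rfl⟩ := himgmem hy; clear hy; have hy := hyi; clear hyi
      obtain ⟨z, hzi, rfl⟩ := himgmem hz; clear hz; have hz := hzi; clear hzi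
      refine LinearMap.ext fun w => Subtype.ext ?_
      rw [Module.End.mul_apply, Module.End.mul_apply, hsub, hsub, hsub,
        hvanish1 _ (sub_one_apply_mem ρ hy (sub_one_mem ρ P _ _ hz _)) _ hx]
      rfl
    · by_cases hA' : ∀ j < e, ¬ ds P j ≤ St
      · refine Or.inl ?_
        rw [hB]
        intro x hx y hy z hz
        obtain ⟨x, hxi, rfl⟩ := himgmem hx; clear hx; have hx := hxi; clear hxi
        obtain ⟨y, hyi, rfl⟩ := himgmem hy; clear hy; have hy := hyi; clear hyi
        obtain ⟨z, hzi, rfl⟩ := himgmem hz; clear hz; have hz := hzi; clear hzi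
        refine LinearMap.ext fun w => Subtype.ext ?_
        rw [Module.End.mul_apply, Module.End.mul_apply, hsub, hsub, hsub, ← Module.End.mul_apply,
          ← Module.End.mul_apply]
        refine apply_eq_zero hC l ρ hP hA' _ ?_ (fun v hv => ?_) w.2.1
        · have e' : ∀ g : St, proj l ρ * (ρ (g : H) - 1) = (ρ (g : H) - 1) * proj l ρ := fun g => by
            rw [mul_sub, sub_mul, proj_comm hC l ρ g.2, mul_one, one_mul]
          rw [← mul_assoc, ← mul_assoc, e', mul_assoc _ (proj l ρ), e', ← mul_assoc,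
            mul_assoc _ (proj l ρ), e', ← mul_assoc]
        · rw [Module.End.mul_apply, Module.End.mul_apply]
          exact hvanish1 _ (sub_one_apply_mem ρ hy (sub_one_apply_mem ρ hz hv)) _ hx
      · push Not at hA'
        obtain ⟨j1, hj1, hj1le⟩ := hA'
        obtain ⟨e', rfl⟩ : ∃ e', e = e' + 1 := ⟨e - 1, by omega⟩
        exact Or.inr ⟨img (ds P e'), himg e' ((ds_antitone P (by omega)).trans hj1le)⟩

end Cfsg.Agent.TwoPlanesChain
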