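import Mathlib
import Cfsg.Agent.Lib.TwoPlanesLocal

/-!
# Top powers of 2-elements normalising a 2-group

`H` is solvable with `O_2(H) = 1`, acts faithfully in characteristic two, the 2-elements have
order dividing `2 ^ n` and vanishing norm. `N` normalises the 2-group `R` which contains the top
powers of the 2-elements of `N`; `A` is the group they generate. Then the top powers of `x` and
`r x`, `r ∈ A`, differ by a central involution of `A`, and by `1` if `r` is such an involution.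
-/

set_option autoImplicit false

namespace Cfsg.Agent.TwoPlanesTops

open Module Cfsg.Agent.TwoPlanes Cfsg.Agent.TwoPlanesLocal
open Cfsg.Agent.HallCore Cfsg.Agent.HallSolvable
open scoped commutatorElement
open Cfsg.Agent.GrossExceptional (InRad)

variable {H : Type*} [Group H]

/-- The top powers of the 2-elements of `N`. -/
def tops (N : Subgroup H) (n : ℕ) : Set H :=
  {y | ∃ x ∈ N, (∃ k : ℕ, x ^ 2 ^ k = 1) ∧ x ^ 2 ^ (n - 1) = y}

/-- The group generated by the top powers. -/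
def topGroup (N : Subgroup H) (n : ℕ) : Subgroup H := Subgroup.closure (tops N n)

/-- The central involutions of `A`. -/
def centralInv (A : Subgroup H) : Subgroup H where
  carrier := {z | z ∈ A ∧ (∀ a ∈ A, z * a = a * z) ∧ z * z = 1}
  one_mem' := ⟨A.one_mem, by simp, by simp⟩
  mul_mem' := fun {u v} hu hv => by
    refine ⟨A.mul_mem hu.1 hv.1, fun a ha => ?_, ?_⟩
    · rw [mul_assoc, hv.2.1 a ha, ← mul_assoc, hu.2.1 a ha, mul_assoc]
    · rw [show u * v * (u * v) = u * (v * u) * v by group, ← hu.2.1 v hv.1,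
        show u * (u * v) * v = u * u * (v * v) by group, hu.2.2, hv.2.2, one_mul]
  inv_mem' := fun {u} hu => by
    rw [inv_eq_of_mul_eq_one_right hu.2.2]
    exact hu

theorem conj_mem_tops {N : Subgroup H} {n : ℕ} {g y : H} (hg : g ∈ N) (hy : y ∈ tops N n) :
    g * y * g⁻¹ ∈ tops N n := by
  obtain ⟨x, hx, ⟨k, hk⟩, rfl⟩ := hy
  refine ⟨g * x * g⁻¹, N.mul_mem (N.mul_mem hg hx) (N.inv_mem hg), ⟨k, ?_⟩, by rw [conj_pow]⟩
  rw [conj_pow, hk, mul_one, mul_inv_cancel]

theorem conj_mem_topGroup {N : Subgroup H} {n : ℕ} {g a : H} (hg : g ∈ N)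
    (ha : a ∈ topGroup N n) : g * a * g⁻¹ ∈ topGroup N n := by
  induction ha using Subgroup.closure_induction with
  | mem y hy => exact Subgroup.subset_closure (conj_mem_tops hg hy)
  | one => rw [mul_one, mul_inv_cancel]; exact one_mem _
  | mul u v _ _ hu hv =>
    rw [show g * (u * v) * g⁻¹ = g * u * g⁻¹ * (g * v * g⁻¹) by group]
    exact mul_mem hu hv
  | inv u _ hu =>
    rw [show g * u⁻¹ * g⁻¹ = (g * u * g⁻¹)⁻¹ by group]
    exact inv_mem hu

theorem conj_mem_centralInv {N : Subgroup H} {n : ℕ} {g a : H} (hg : g ∈ N)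
    (ha : a ∈ centralInv (topGroup N n)) : g * a * g⁻¹ ∈ centralInv (topGroup N n) := by
  refine ⟨conj_mem_topGroup hg ha.1, fun b hb => ?_, ?_⟩
  · have hb' : g⁻¹ * b * g ∈ topGroup N n := by
      simpa using conj_mem_topGroup (N.inv_mem hg) hb
    calc g * a * g⁻¹ * b = g * (a * (g⁻¹ * b * g)) * g⁻¹ := by group
      _ = g * ((g⁻¹ * b * g) * a) * g⁻¹ := by rw [ha.2.1 _ hb']
      _ = b * (g * a * g⁻¹) := by group
  · rw [show g * a * g⁻¹ * (g * a * g⁻¹) = g * (a * a) * g⁻¹ by group, ha.2.2, mul_one,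
      mul_inv_cancel]

theorem mul_pow_mem {S : Subgroup H} {x r : H}
    (hx : ∀ s ∈ S, x * s * x⁻¹ ∈ S) (hr : r ∈ S) (j : ℕ) : (r * x) ^ j * (x ^ j)⁻¹ ∈ S := by
  have hxj : ∀ i : ℕ, ∀ s ∈ S, x ^ i * s * (x ^ i)⁻¹ ∈ S := by
    intro i
    induction i with
    | zero => intro s hs; simpa using hs
    | succ i ih =>
      intro s hs
      rw [show x ^ (i + 1) * s * (x ^ (i + 1))⁻¹ = x ^ i * (x * s * x⁻¹) * (x ^ i)⁻¹ by
        rw [pow_succ]; group]
      exact ih _ (hx s hs)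
  induction j with
  | zero => simp
  | succ j ih =>
    rw [show (r * x) ^ (j + 1) * (x ^ (j + 1))⁻¹ =
      (r * x) ^ j * (x ^ j)⁻¹ * (x ^ j * r * (x ^ j)⁻¹) by rw [pow_succ, pow_succ]; group]
    exact S.mul_mem ih (hxj j r hr)

variable [Finite H] {V : Type*} [CommGroup V] [Finite V]

/-- The standing hypotheses. -/
structure Setting (φ : H →* MulAut V) (n : ℕ) (N R : Subgroup H) : Prop where
  sol : Group.IsSolvable H
  core : Cfsg.pCore 2 H = ⊥
  elem : ∀ v : V, v ^ 2 = 1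
  faith : Function.Injective φ
  two_le : 2 ≤ n
  exp : ∀ (g : H) (k : ℕ), g ^ 2 ^ k = 1 → g ^ 2 ^ n = 1
  norm : ∀ (g : H) (k : ℕ), g ^ 2 ^ k = 1 → ∀ v : V,
    ∏ j ∈ Finset.range (2 ^ n), φ (g ^ j) v = 1
  isP : IsPGroup 2 R
  le : R ≤ N
  normalizes : N ≤ Subgroup.normalizer (R : Set H)
  top_mem : ∀ x ∈ N, (∃ k : ℕ, x ^ 2 ^ k = 1) → x ^ 2 ^ (n - 1) ∈ R

variable {φ : H →* MulAut V} {n : ℕ} {N R : Subgroup H}

theorem Setting.topGroup_le (hS : Setting φ n N R) : topGroup N n ≤ R :=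
  (Subgroup.closure_le _).mpr (by rintro _ ⟨x, hx, hk, rfl⟩; exact hS.top_mem x hx hk)

/-- Top powers centralise the centres of class two subgroups. -/
theorem Setting.top_centralizes (hS : Setting φ n N R) {x : H} (hx : ∃ k : ℕ, x ^ 2 ^ k = 1)
    {q : ℕ} {C : Subgroup H} (hC : ClassTwo q C) :
    x ^ 2 ^ (n - 1) ∈
      Subgroup.centralizer ((C ⊓ Subgroup.centralizer (C : Set H) : Subgroup H) : Set H) := by
  obtain ⟨k, hk⟩ := hx
  have := hC.normal
  set Z : Subgroup H := C ⊓ Subgroup.centralizer (C : Set H)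
  by_contra hy
  have hnc : ¬ Z ≤ Subgroup.centralizer {x ^ 2 ^ (n - 1)} := fun h =>
    hy (Subgroup.mem_centralizer_iff.mpr fun a ha =>
      Subgroup.mem_centralizer_singleton_iff.mp (h ha))
  have hxZ : x ∈ Subgroup.normalizer (Z : Set H) := by
    rw [Subgroup.normalizer_eq_top_iff.mpr (inferInstance : Z.Normal)]
    exact Subgroup.mem_top x
  exact (Cfsg.Agent.HallHigman.exceptional_of_norm_trivial hS.elem φ Nat.prime_two hC.prime
    (Ne.symm hC.two_ne) (Ne.symm hC.two_ne) (le_trans one_le_two hS.two_le) (hS.exp x k hk) hxZ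
    (hC.isP.to_le inf_le_left)
    (fun u _ hu => hS.faith (hu.trans (map_one φ).symm)) hnc (hS.norm x k hk)).2
    ⟨⟨fun a b => Subtype.ext (Subgroup.mem_centralizer_iff.mp b.2.2 (a : H) a.2.1)⟩⟩

theorem Setting.topGroup_centralizes (hS : Setting φ n N R) {q : ℕ} {C : Subgroup H}
    (hC : ClassTwo q C) : topGroup N n ≤
      Subgroup.centralizer ((C ⊓ Subgroup.centralizer (C : Set H) : Subgroup H) : Set H) :=
  (Subgroup.closure_le _).mpr (by rintro _ ⟨x, -, hk, rfl⟩; exact hS.top_centralizes hk hC)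

variable {d : ℕ} (ρ : Representation (AlgebraicClosure (ZMod 2)) H
  (Fin d → AlgebraicClosure (ZMod 2)))

/-- The eigencharacters of the centre. -/
def IsEigen {C : Subgroup H}
    (l : ↥(C ⊓ Subgroup.centralizer (C : Set H)) →* AlgebraicClosure (ZMod 2)) : Prop :=
  ∃ w : Fin d → AlgebraicClosure (ZMod 2), w ≠ 0 ∧
    ∀ z : ↥(C ⊓ Subgroup.centralizer (C : Set H)), ρ (z : H) w = l z • w

omit [Finite H] in
/-- Some eigencharacter is non-trivial on a non-trivial central element. -/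
theorem exists_eigen (hρ : ∀ g, ρ g = 1 → g = 1) {q : ℕ} {C : Subgroup H} (hC : ClassTwo q C)
    (z : ↥(C ⊓ Subgroup.centralizer (C : Set H))) (hz : (z : H) ≠ 1) :
    ∃ l, IsEigen ρ l ∧ l z ≠ 1 := by
  have hqK : (q : AlgebraicClosure (ZMod 2)) ≠ 0 := by
    rw [Ne, CharP.cast_eq_zero_iff (AlgebraicClosure (ZMod 2)) 2,
      Nat.prime_dvd_prime_iff_eq Nat.prime_two hC.prime]
    exact Ne.symm hC.two_ne
  set U := LinearMap.range (ρ (z : H) - 1) with hU
  have hU0 : U ≠ ⊥ := fun h => hz (hρ _ (sub_eq_zero.mp (LinearMap.range_eq_bot.mp h)))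
  have hinv : ∀ a : ↥(C ⊓ Subgroup.centralizer (C : Set H)), ∀ w ∈ U, ρ (a : H) w ∈ U := by
    rintro a _ ⟨w, rfl⟩
    refine ⟨ρ (a : H) w, ?_⟩
    have hcom : ρ (z : H) * ρ (a : H) = ρ (a : H) * ρ (z : H) := by
      rw [← map_mul, ← map_mul, Subgroup.mem_centralizer_iff.mp z.2.2 a a.2.1]
    rw [LinearMap.sub_apply, LinearMap.sub_apply, Module.End.one_apply, Module.End.one_apply,
      map_sub, ← Module.End.mul_apply, hcom, Module.End.mul_apply]
  have hnt : Nontrivial U := Submodule.nontrivial_iff_ne_bot.mpr hU0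
  let r : ↥(C ⊓ Subgroup.centralizer (C : Set H)) →* Module.End (AlgebraicClosure (ZMod 2)) U :=
    { toFun := fun a => (ρ (a : H)).restrict (hinv a)
      map_one' := LinearMap.ext fun w => Subtype.ext (by simp)
      map_mul' := fun a b => LinearMap.ext fun w => Subtype.ext (by
        show ρ ((a : H) * b) w = _; rw [map_mul]; rfl) }
  obtain ⟨l, w, hw0, hlw⟩ := Cfsg.Agent.HallHigman.exists_eigencharacter r fun a b => by
    rw [← map_mul, ← map_mul]
    congr 1
    exact Subtype.ext (Subgroup.mem_centralizer_iff.mp b.2.2 (a : H) a.2.1)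
  have hlw' : ∀ a : ↥(C ⊓ Subgroup.centralizer (C : Set H)), ρ (a : H) (w : Fin d → AlgebraicClosure (ZMod 2)) =
      l a • (w : Fin d → AlgebraicClosure (ZMod 2)) := fun a => congrArg Subtype.val (hlw a)
  refine ⟨l, ⟨w, fun h => hw0 (Subtype.ext h), hlw'⟩, fun h1 => ?_⟩
  obtain ⟨v', hv'⟩ := w.2
  have hfix : ρ (z : H) (w : Fin d → AlgebraicClosure (ZMod 2)) = w := by
    rw [hlw', h1, one_smul]
  have hpw : ∀ j : ℕ, ρ ((z : H) ^ j) v' =
      v' + (j : AlgebraicClosure (ZMod 2)) • (w : Fin d → AlgebraicClosure (ZMod 2)) := by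
    intro j
    induction j with
    | zero => simp
    | succ j ih =>
      have hzv : ρ (z : H) v' = v' + (w : Fin d → AlgebraicClosure (ZMod 2)) := by
        rw [← hv', LinearMap.sub_apply, Module.End.one_apply]; abel
      rw [pow_succ', map_mul, Module.End.mul_apply, ih, map_add, map_smul, hfix, hzv,
        Nat.cast_succ, add_smul, one_smul]
      abel
  obtain ⟨i, hi⟩ := hC.isP ⟨(z : H), z.2.1⟩
  have := hpw (q ^ i)
  rw [show (z : H) ^ q ^ i = 1 from congrArg Subtype.val hi, map_one, Module.End.one_apply,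
    left_eq_add, Nat.cast_pow] at this
  exact hw0 (Subtype.ext ((smul_eq_zero.mp this).resolve_left (pow_ne_zero _ hqK)))

/-- An element trivial on all components is trivial. -/
theorem Setting.eq_one (hS : Setting φ n N R) (hρ : ∀ g, ρ g = 1 → g = 1) {g : H}
    (hgA : g ∈ topGroup N n)
    (hloc : ∀ (q : ℕ) (C : Subgroup H) (hC : ClassTwo q C)
      (l : ↥(C ⊓ Subgroup.centralizer (C : Set H)) →* AlgebraicClosure (ZMod 2)), IsEigen ρ l →
        act hC l ⟨g, mem_stab_of_centralizer hC l (hS.topGroup_centralizes hC hgA)⟩ = 1) :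
    g = 1 := by
  have : Fact (Nat.Prime 2) := ⟨Nat.prime_two⟩
  set P := Subgroup.zpowers g
  have hP : IsPGroup 2 P := hS.isP.to_le (Subgroup.zpowers_le.mpr (hS.topGroup_le hgA))
  have key : ∀ t : ℕ, t.Prime → P ≤ Subgroup.centralizer (Cfsg.pCore t H : Set H) := by
    intro q hq
    have := Fact.mk hq
    rcases eq_or_ne q 2 with rfl | hq2
    · rw [hS.core]
      intro a _
      rw [Subgroup.mem_centralizer_iff]
      intro b hb
      rw [SetLike.mem_coe, Subgroup.mem_bot] at hb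
      rw [hb, one_mul, mul_one]
    set Q := Cfsg.pCore q H
    have hQn : Q.Normal := pCore_normal q H
    obtain ⟨C, hCQ, hNC, hCcent, hcl, hpow⟩ :=
      Cfsg.Agent.ClassTwoBaer.exists_critical_sub (isPGroup_pCore q H)
    have hCn : C.Normal := Subgroup.normalizer_eq_top_iff.mp (top_le_iff.mp
      ((Subgroup.normalizer_eq_top_iff.mpr hQn).ge.trans hNC))
    have hCp : IsPGroup q C := (isPGroup_pCore q H).to_le hCQ
    have hC : ClassTwo q C := ⟨hq, hq2, hCp, hCn, hcl, hpow⟩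
    set Z : Subgroup H := C ⊓ Subgroup.centralizer (C : Set H) with hZ
    have hgZ := hS.topGroup_centralizes hC hgA
    have hmod : ∀ c ∈ C, ⁅g, c⁆ ∈ Z := by
      intro c hc
      have hgcC : ⁅g, c⁆ ∈ C := by
        rw [commutatorElement_def]
        exact C.mul_mem (hCn.conj_mem c hc g) (C.inv_mem hc)
      refine ⟨hgcC, Subgroup.mem_centralizer_iff.mpr fun v hv => ?_⟩
      by_contra hz
      have hz1 : ⁅⁅g, c⁆, v⁆ ≠ 1 := fun h =>
        hz (commutatorElement_eq_one_iff_mul_comm.mp h).symm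
      obtain ⟨l, hl, hlz⟩ := exists_eigen ρ hρ hC ⟨_, hcl _ hgcC v hv⟩ hz1
      have h2 := (act_fix_iff hC l ⟨g, mem_stab_of_centralizer hC l hgZ⟩ ⟨c, hc⟩).mp (by
        rw [hloc q C hC l hl]; rfl)
      exact hlz (h2 v hv (hcl _ hgcC v hv))
    have hPZ : P ≤ Subgroup.centralizer (Z : Set H) := Subgroup.zpowers_le.mpr hgZ
    have hcop : ∀ {A : Subgroup H}, IsPGroup q A → (Nat.card P).Coprime (Nat.card A) := by
      intro A hA
      obtain ⟨i, hi⟩ := IsPGroup.iff_card.mp hP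
      obtain ⟨j, hj⟩ := IsPGroup.iff_card.mp hA
      rw [hi, hj]
      exact Nat.Coprime.pow _ _ ((Nat.coprime_primes Nat.prime_two hq).mpr (Ne.symm hq2))
    have hmodP : ∀ a ∈ P, ∀ k ∈ C, ⁅a, k⁆ ∈ Z := by
      intro a ha
      obtain ⟨i, rfl⟩ := (isOfFinOrder_of_finite g).mem_powers_iff_mem_zpowers.mpr ha
      induction i with
      | zero => intro k _; simp
      | succ i ih =>
        intro k hk
        have hgk : ⁅g, k⁆ ∈ Z := hmod k hk
        show ⁅g ^ (i + 1), k⁆ ∈ Z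
        rw [show ⁅g ^ (i + 1), k⁆ = g ^ i * ⁅g, k⁆ * (g ^ i)⁻¹ * ⁅g ^ i, k⁆ by
          simp only [commutatorElement_def, pow_succ]; group]
        exact Z.mul_mem ((inferInstance : Z.Normal).conj_mem _ hgk _)
          (ih (Subgroup.npow_mem_zpowers g i) k hk)
    have hPC : P ≤ Subgroup.centralizer (C : Set H) := by
      refine Cfsg.Agent.CoprimeAction.le_centralizer_of_stabilizes
        (hcop (hCp.to_le inf_le_left : IsPGroup q Z)) (Subgroup.le_centralizer_iff.mp hPZ) ?_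
      intro a ha k hk
      have h1 : ⁅a, k⁆ ∈ Z := hmodP a ha k hk
      have h2 : k⁻¹ * a * k * a⁻¹ = k⁻¹ * ⁅a, k⁆ * k⁻¹⁻¹ := by
        rw [commutatorElement_def]; group
      rw [h2]
      exact (inferInstance : Z.Normal).conj_mem _ h1 k⁻¹
    have hQP : P ≤ Subgroup.normalizer (Q : Set H) := by
      rw [Subgroup.normalizer_eq_top_iff.mpr hQn]; exact le_top
    refine Cfsg.Agent.CoprimeAction.le_centralizer_of_commutator_commutator_eq_bot hQP
      (hcop (isPGroup_pCore q H))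
      (Or.inr (Cfsg.Agent.CoprimeAction.isSolvable_of_isPGroup (isPGroup_pCore q H))) ?_
    have hQPC : ⁅Q, P⁆ ≤ Q ⊓ Subgroup.centralizer (C : Set H) := by
      refine le_inf (Cfsg.Agent.CoprimeAction.commutator_le_self_of_le_normalizer hQP) ?_
      have h1 : ⁅⁅P, C⁆, Q⁆ = ⊥ := by
        rw [Subgroup.commutator_eq_bot_iff_le_centralizer.mpr hPC, Subgroup.commutator_bot_left]
      have h3 : ⁅⁅C, Q⁆, P⁆ = ⊥ := by
        refine eq_bot_iff.mpr ((Subgroup.commutator_mono (Subgroup.commutator_le_left C Q)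
          le_rfl).trans ?_)
        rw [Subgroup.commutator_comm, Subgroup.commutator_eq_bot_iff_le_centralizer.mpr hPC]
      exact Subgroup.commutator_eq_bot_iff_le_centralizer.mp
        (Subgroup.commutator_commutator_eq_bot_of_rotate h1 h3)
    have hQPZ : ⁅Q, P⁆ ≤ Z := le_inf (hQPC.trans hCcent) (hQPC.trans inf_le_right)
    exact Subgroup.commutator_eq_bot_iff_le_centralizer.mpr
      (hQPZ.trans (Subgroup.le_centralizer_iff.mp hPZ))
  have hsolT : Group.IsSolvable ↥(⊤ : Subgroup H) := by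
    have := hS.sol
    infer_instance
  have h1 : P ≤ ⊥ := by
    rw [← hS.core]
    exact le_trans (Cfsg.Agent.SFTGroup.le_oq_of_commute hsolT le_top hP fun t ht =>
      (key t ht).trans (Subgroup.centralizer_le (Cfsg.Agent.GrossTopPower.pCoreOf_top_le t)))
      (Cfsg.Agent.GrossTopPower.pCoreOf_top_le 2)
  exact Subgroup.mem_bot.mp (h1 (Subgroup.mem_zpowers g))

/-! ### The picture on one component -/

section component

variable {q : ℕ} {C : Subgroup H} (hC : ClassTwo q C)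
  (l : ↥(C ⊓ Subgroup.centralizer (C : Set H)) →* AlgebraicClosure (ZMod 2))

theorem Setting.mem_stab (hS : Setting φ n N R) {g : H} (hg : g ∈ topGroup N n) :
    g ∈ stab hC l :=
  mem_stab_of_centralizer hC l (hS.topGroup_centralizes hC hg)

theorem Setting.isP_sup (hS : Setting φ n N R) {x : H} (hx : x ∈ N)
    (hk : ∃ k : ℕ, x ^ 2 ^ k = 1) : IsPGroup 2 (R ⊔ Subgroup.zpowers x : Subgroup H) := by
  have : Fact (Nat.Prime 2) := ⟨Nat.prime_two⟩
  obtain ⟨k, hk⟩ := hk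
  obtain ⟨j, -, hj⟩ := (Nat.dvd_prime_pow Nat.prime_two).mp (orderOf_dvd_of_pow_eq_one hk)
  have hxp : IsPGroup 2 (Subgroup.zpowers x) := IsPGroup.of_card (n := j) (by
    rw [Nat.card_zpowers, hj])
  rw [sup_comm]
  exact IsPGroup.to_sup_of_normal_right' hxp hS.isP
    ((Subgroup.zpowers_le.mpr hx).trans hS.normalizes)

/-- The image of a top power is trivial or a top with a root in a 2-group containing `x`. -/
theorem Setting.local_top (hS : Setting φ n N R)
    (hρN : ∀ (g : H) (k : ℕ), g ^ 2 ^ k = 1 → ∑ j ∈ Finset.range (2 ^ n), ρ g ^ j = 0)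
    (hl : IsEigen ρ l) {x : H} (hx : x ∈ N) (hk : ∃ k : ℕ, x ^ 2 ^ k = 1)
    (hne : act hC l ⟨x ^ 2 ^ (n - 1),
      hS.mem_stab hC l (Subgroup.subset_closure ⟨x, hx, hk, rfl⟩)⟩ ≠ 1) :
    (space hC l).Top (act hC l ⟨x ^ 2 ^ (n - 1),
        hS.mem_stab hC l (Subgroup.subset_closure ⟨x, hx, hk, rfl⟩)⟩) ∧
      ∀ Q : Subgroup H, x ∈ Q → ∃ w, (space hC l).Root w ∧
        w * w = act hC l ⟨x ^ 2 ^ (n - 1),
          hS.mem_stab hC l (Subgroup.subset_closure ⟨x, hx, hk, rfl⟩)⟩ ∧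
        w ∈ (Q.subgroupOf (stab hC l)).map (act hC l) := by
  obtain ⟨k, hk'⟩ := hk
  have hn : 1 ≤ n := le_trans one_le_two hS.two_le
  obtain ⟨htop, f, hfn, hf, hfy, -, hfix⟩ := exists_root hC l ρ hl hn (hS.exp x k hk')
    (hρN x k hk') (hS.top_centralizes ⟨k, hk'⟩ hC) hne
  refine ⟨htop, fun Q hQ => ?_⟩
  set X := act hC l ⟨x ^ 2 ^ f, hf⟩ with hX
  have hw2 : X ^ 2 ^ (n - f - 2) * X ^ 2 ^ (n - f - 2) = X ^ 2 ^ (n - f - 1) := by
    rw [← pow_add, ← two_mul, ← pow_succ']; congr 2; omega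
  refine ⟨X ^ 2 ^ (n - f - 2), ⟨?_, ?_, fun v hv => ?_⟩, hw2.trans hfy, ?_⟩
  · rw [hX, ← map_pow]; exact act_iso hC l _
  · rw [hw2, hfy]; exact htop
  · rw [hw2, hfy] at hv
    have h1 := hfix v hv
    have : ∀ i : ℕ, (X ^ i) v = v := by
      intro i
      induction i with
      | zero => simp
      | succ i ih => rw [pow_succ, MulAut.mul_apply, h1, ih]
    exact this _
  · exact ⟨⟨x ^ 2 ^ f, hf⟩ ^ 2 ^ (n - f - 2), Subgroup.pow_mem _ (Q.pow_mem hQ _) _,
      by rw [map_pow]⟩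

/-- Top powers of elements of one 2-group containing `R` commute on each component. -/
theorem Setting.local_commute (hS : Setting φ n N R)
    (hρN : ∀ (g : H) (k : ℕ), g ^ 2 ^ k = 1 → ∑ j ∈ Finset.range (2 ^ n), ρ g ^ j = 0)
    (hl : IsEigen ρ l) {x x' : H} (hx : x ∈ N) (hk : ∃ k : ℕ, x ^ 2 ^ k = 1) (hx' : x' ∈ N)
    (hk' : ∃ k : ℕ, x' ^ 2 ^ k = 1) (hmem : x' ∈ R ⊔ Subgroup.zpowers x) :
    Commute (act hC l ⟨x ^ 2 ^ (n - 1),
        hS.mem_stab hC l (Subgroup.subset_closure ⟨x, hx, hk, rfl⟩)⟩)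
      (act hC l ⟨x' ^ 2 ^ (n - 1),
        hS.mem_stab hC l (Subgroup.subset_closure ⟨x', hx', hk', rfl⟩)⟩) := by
  by_cases h1 : act hC l ⟨x ^ 2 ^ (n - 1),
      hS.mem_stab hC l (Subgroup.subset_closure ⟨x, hx, hk, rfl⟩)⟩ = 1
  · rw [h1]; exact Commute.one_left _
  by_cases h2 : act hC l ⟨x' ^ 2 ^ (n - 1),
      hS.mem_stab hC l (Subgroup.subset_closure ⟨x', hx', hk', rfl⟩)⟩ = 1
  · rw [h2]; exact Commute.one_right _
  obtain ⟨-, hr⟩ := hS.local_top ρ hC l hρN hl hx hk h1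
  obtain ⟨-, hr'⟩ := hS.local_top ρ hC l hρN hl hx' hk' h2
  set Q : Subgroup H := R ⊔ Subgroup.zpowers x
  obtain ⟨w, hw, hwy, hwQ⟩ := hr Q (Subgroup.mem_sup_right (Subgroup.mem_zpowers x))
  obtain ⟨w', hw', hwy', hwQ'⟩ := hr' Q hmem
  have := (space hC l).commute_of_roots ((Q.subgroupOf (stab hC l)).map (act hC l))
    ((hS.isP_sup hx hk).comap_subtype.map _)
    (by rintro _ ⟨g, -, rfl⟩; exact act_iso hC l g) hwQ hwQ' hw hw'
  rw [hwy, hwy'] at this
  exact this

/-- The generated group on a component. -/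
theorem Setting.local_conf (hS : Setting φ n N R)
    (hρN : ∀ (g : H) (k : ℕ), g ^ 2 ^ k = 1 → ∑ j ∈ Finset.range (2 ^ n), ρ g ^ j = 0)
    (hl : IsEigen ρ l) :
    (space hC l).Conf
      {t | t ≠ 1 ∧ ∃ y : stab hC l, (y : H) ∈ tops N n ∧ act hC l y = t}
      (((topGroup N n).subgroupOf (stab hC l)).map (act hC l)) where
  gen := by
    refine le_antisymm ((Subgroup.closure_le _).mpr ?_) ?_
    · rintro _ ⟨-, y, hy, rfl⟩
      exact ⟨y, Subgroup.subset_closure hy, rfl⟩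
    · rintro _ ⟨⟨a, ha'⟩, ha, rfl⟩
      have hmain : ∀ a ∈ topGroup N n, ∀ ha' : a ∈ stab hC l, act hC l ⟨a, ha'⟩ ∈
          Subgroup.closure
            {t | t ≠ 1 ∧ ∃ y : stab hC l, (y : H) ∈ tops N n ∧ act hC l y = t} := by
        intro a ha
        induction ha using Subgroup.closure_induction with
        | mem y hy =>
          intro hy'
          by_cases h : act hC l ⟨y, hy'⟩ = 1
          · rw [h]; exact one_mem _
          · exact Subgroup.subset_closure ⟨h, ⟨y, hy'⟩, hy, rfl⟩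
        | one =>
          intro h1
          rw [show (⟨1, h1⟩ : stab hC l) = 1 from rfl, map_one]
          exact one_mem _
        | mul u v hu hv ihu ihv =>
          intro h
          rw [show (⟨u * v, h⟩ : stab hC l) = ⟨u, hS.mem_stab hC l hu⟩ * ⟨v, hS.mem_stab hC l hv⟩
            from rfl, map_mul]
          exact mul_mem (ihu _) (ihv _)
        | inv u hu ihu =>
          intro h
          rw [show (⟨u⁻¹, h⟩ : stab hC l) = (⟨u, hS.mem_stab hC l hu⟩ : stab hC l)⁻¹ from rfl,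
            map_inv]
          exact inv_mem (ihu _)
      exact hmain a ha ha'
  iso := by rintro _ ⟨g, -, rfl⟩; exact act_iso hC l g
  two := ((hS.isP.to_le hS.topGroup_le).comap_subtype).map _
  top := by
    rintro _ ⟨hne, ⟨y, hy'⟩, ⟨x, hx, hk, rfl⟩, rfl⟩
    exact (hS.local_top ρ hC l hρN hl hx hk hne).1
  conj := by
    rintro _ ⟨⟨a, ha'⟩, ha, rfl⟩ t ⟨hne, ⟨y, hy'⟩, hy, rfl⟩
    refine ⟨fun h => hne ?_, ⟨a, ha'⟩ * ⟨y, hy'⟩ * ⟨a, ha'⟩⁻¹,
      conj_mem_tops (hS.le (hS.topGroup_le ha)) hy, by rw [map_mul, map_mul, map_inv]⟩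
    rw [mul_inv_eq_one] at h
    exact mul_eq_left.mp h
  root := by
    rintro _ ⟨hne, ⟨y, hy'⟩, ⟨x, hx, hk, rfl⟩, rfl⟩
    obtain ⟨w, hw, hwy, hwQ⟩ := (hS.local_top ρ hC l hρN hl hx hk hne).2
      (R ⊔ Subgroup.zpowers x) (Subgroup.mem_sup_right (Subgroup.mem_zpowers x))
    refine ⟨w, hw, hwy, _, (hS.isP_sup hx hk).comap_subtype.map _,
      by rintro _ ⟨g, -, rfl⟩; exact act_iso hC l g, hwQ, ?_⟩
    exact Subgroup.map_mono fun g hg => Subgroup.mem_sup_left (hS.topGroup_le hg)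

/-- The two comparisons of the tops of `x` and `r * x`. -/
theorem Setting.local_compare (hS : Setting φ n N R)
    (hρN : ∀ (g : H) (k : ℕ), g ^ 2 ^ k = 1 → ∑ j ∈ Finset.range (2 ^ n), ρ g ^ j = 0)
    (hl : IsEigen ρ l) {x r : H} (hx : x ∈ N) (hk : ∃ k : ℕ, x ^ 2 ^ k = 1)
    (hr : r ∈ topGroup N n) (hx' : r * x ∈ N) (hk' : ∃ k : ℕ, (r * x) ^ 2 ^ k = 1) :
    (∀ t : stab hC l, (t : H) ∈ tops N n →
      ¬ Commute (act hC l t) (act hC l ⟨x ^ 2 ^ (n - 1),
        hS.mem_stab hC l (Subgroup.subset_closure ⟨x, hx, hk, rfl⟩)⟩) →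
      act hC l ⟨(r * x) ^ 2 ^ (n - 1),
          hS.mem_stab hC l (Subgroup.subset_closure ⟨r * x, hx', hk', rfl⟩)⟩ =
        act hC l ⟨x ^ 2 ^ (n - 1),
          hS.mem_stab hC l (Subgroup.subset_closure ⟨x, hx, hk, rfl⟩)⟩ ∨
      act hC l ⟨(r * x) ^ 2 ^ (n - 1),
          hS.mem_stab hC l (Subgroup.subset_closure ⟨r * x, hx', hk', rfl⟩)⟩ =
        act hC l t * act hC l ⟨x ^ 2 ^ (n - 1),
          hS.mem_stab hC l (Subgroup.subset_closure ⟨x, hx, hk, rfl⟩)⟩ * (act hC l t)⁻¹) ∧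
    (r ∈ centralInv (topGroup N n) →
      act hC l ⟨x ^ 2 ^ (n - 1),
          hS.mem_stab hC l (Subgroup.subset_closure ⟨x, hx, hk, rfl⟩)⟩ ≠ 1 →
      act hC l ⟨(r * x) ^ 2 ^ (n - 1),
          hS.mem_stab hC l (Subgroup.subset_closure ⟨r * x, hx', hk', rfl⟩)⟩ =
        act hC l ⟨x ^ 2 ^ (n - 1),
          hS.mem_stab hC l (Subgroup.subset_closure ⟨x, hx, hk, rfl⟩)⟩) := by
  have hyA : x ^ 2 ^ (n - 1) ∈ topGroup N n := Subgroup.subset_closure ⟨x, hx, hk, rfl⟩
  have hyA' : (r * x) ^ 2 ^ (n - 1) ∈ topGroup N n :=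
    Subgroup.subset_closure ⟨r * x, hx', hk', rfl⟩
  set a := act hC l ⟨x ^ 2 ^ (n - 1), hS.mem_stab hC l hyA⟩ with ha
  set b := act hC l ⟨(r * x) ^ 2 ^ (n - 1), hS.mem_stab hC l hyA'⟩ with hb
  have hn : 1 ≤ n := le_trans one_le_two hS.two_le
  have hconf := hS.local_conf ρ hC l hρN hl
  have hcard : Nat.card (inverted b) ≤ q ^ 2 := by
    by_cases hb1 : b = 1
    · have h1 : inverted b = ⊥ := (Subgroup.eq_bot_iff_forall _).mpr fun v hv =>
        (space hC l).inv_eq_self (by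
          rw [← mem_inverted.mp hv, hb1, MulAut.one_apply])
      rw [h1, Subgroup.card_bot]
      exact Nat.one_le_pow _ _ hC.prime.pos
    · exact (hS.local_top ρ hC l hρN hl hx' hk' hb1).1.card
  -- the data attached to a moved top
  have data : a ≠ 1 → a ∈ {t | t ≠ 1 ∧ ∃ y : stab hC l, (y : H) ∈ tops N n ∧ act hC l y = t} ∧
      ∃ (k : ℕ) (X c : MulAut (Quot hC l)), 2 ≤ k ∧ (space hC l).Iso X ∧ X ^ 2 ^ (k - 1) = a ∧
        (∀ v, a v = v → X v = v) ∧ c ∈ ((topGroup N n).subgroupOf (stab hC l)).map (act hC l) ∧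
        X * c * X⁻¹ ∈ ((topGroup N n).subgroupOf (stab hC l)).map (act hC l) ∧
        (c * X) ^ 2 ^ k = 1 ∧ (c * X) ^ 2 ^ (k - 1) = b ∧
        (r ∈ centralInv (topGroup N n) → a * c = c * a ∧ c * c = 1) := by
    intro ha1
    obtain ⟨k0, hk0⟩ := id hk
    obtain ⟨-, f, hfn, hf, hfy, -, hfix⟩ := exists_root hC l ρ hl hn (hS.exp x k0 hk0)
      (hρN x k0 hk0) (hS.top_centralizes hk hC) ha1
    have hxS : ∀ s ∈ topGroup N n, x * s * x⁻¹ ∈ topGroup N n := fun s hs =>
      conj_mem_topGroup hx hs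
    set c0 := (r * x) ^ 2 ^ f * (x ^ 2 ^ f)⁻¹ with hc0
    have hc0A : c0 ∈ topGroup N n := mul_pow_mem hxS hr _
    have hconj : x ^ 2 ^ f * c0 * (x ^ 2 ^ f)⁻¹ ∈ topGroup N n :=
      conj_mem_topGroup (N.pow_mem hx _) hc0A
    refine ⟨⟨ha1, ⟨x ^ 2 ^ (n - 1), hS.mem_stab hC l hyA⟩, ⟨x, hx, hk, rfl⟩, rfl⟩,
      n - f, act hC l ⟨x ^ 2 ^ f, hf⟩, act hC l ⟨c0, hS.mem_stab hC l hc0A⟩, by omega,
      act_iso hC l _, hfy, hfix, ⟨_, hc0A, rfl⟩, ⟨⟨_, hS.mem_stab hC l hconj⟩, hconj, ?_⟩, ?_,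
      ?_, ?_⟩
    · rw [← map_inv, ← map_mul, ← map_mul]; rfl
    · rw [← map_mul, ← map_pow, ← map_one (act hC l)]
      congr 1
      refine Subtype.ext ?_
      show (c0 * x ^ 2 ^ f) ^ 2 ^ (n - f) = 1
      obtain ⟨k1, hk1⟩ := hk'
      rw [hc0, inv_mul_cancel_right, ← pow_mul, ← pow_add, show f + (n - f) = n by omega,
        hS.exp _ k1 hk1]
    · rw [← map_mul, ← map_pow, hb]
      congr 1
      refine Subtype.ext ?_
      show (c0 * x ^ 2 ^ f) ^ 2 ^ (n - f - 1) = (r * x) ^ 2 ^ (n - 1)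
      rw [hc0, inv_mul_cancel_right, ← pow_mul, ← pow_add, show f + (n - f - 1) = n - 1 by omega]
    · intro hr0
      have h0 : c0 ∈ centralInv (topGroup N n) :=
        mul_pow_mem (fun s hs => conj_mem_centralInv hx hs) hr0 _
      rw [ha, ← map_mul, ← map_mul, ← map_mul, ← map_one (act hC l)]
      exact ⟨congrArg _ (Subtype.ext (h0.2.1 _ hyA).symm), congrArg _ (Subtype.ext h0.2.2)⟩
  refine ⟨fun t ht hnc => ?_, fun hr0 ha1 => ?_⟩
  · have ha1 : a ≠ 1 := fun h => hnc (by rw [h]; exact Commute.one_right _)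
    have ht1 : act hC l t ≠ 1 := fun h => hnc (by rw [h]; exact Commute.one_left _)
    obtain ⟨haT, k, X, c, hk2, hX, hXa, hfix, hcA, hXA, hxn, hcb, -⟩ := data ha1
    have h := hconf.top_move haT hX hXA hk2 hXa hfix hcA (t := act hC l t) ⟨ht1, t, ht, rfl⟩
      (fun h => hnc (mul_inv_eq_iff_eq_mul.mp h)) hxn (by rw [hcb]; exact hcard)
    rwa [hcb] at h
  · obtain ⟨haT, k, X, c, hk2, hX, hXa, -, hcA, -, hxn, hcb, h0⟩ := data ha1
    obtain ⟨hac, hcc⟩ := h0 hr0
    have h := hconf.top_eq_of_central_involution haT hX hk2 hXa hcA hac hcc hxn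
      (by rw [hcb]; exact hcard)
    rwa [hcb] at h

end component

/-- The top powers of `x` and `r * x` for `r` in the group of the tops. -/
theorem Setting.compare (hS : Setting φ n N R) {x r : H} (hx : x ∈ N)
    (hk : ∃ k : ℕ, x ^ 2 ^ k = 1) (hr : r ∈ topGroup N n) :
    (r * x) ^ 2 ^ (n - 1) * (x ^ 2 ^ (n - 1))⁻¹ ∈ centralInv (topGroup N n) ∧
      (r ∈ centralInv (topGroup N n) →
        (r * x) ^ 2 ^ (n - 1) * (x ^ 2 ^ (n - 1))⁻¹ = 1) := by
  have : Fact (Nat.Prime 2) := ⟨Nat.prime_two⟩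
  obtain ⟨d, ρ, hρ, hρN'⟩ := Cfsg.Agent.HallHigman.exists_rep (ℓ := 2) hS.elem φ
  have hρ1 : ∀ g, ρ g = 1 → g = 1 := fun g hg =>
    hS.faith (((hρ g).mp hg).trans (map_one φ).symm)
  have hρN : ∀ (g : H) (k : ℕ), g ^ 2 ^ k = 1 → ∑ j ∈ Finset.range (2 ^ n), ρ g ^ j = 0 :=
    fun g k hg => (hρN' g _).mpr (hS.norm g k hg)
  have hn : 1 ≤ n := le_trans one_le_two hS.two_le
  have hrR := hS.topGroup_le hr
  have hrx : r * x ∈ R ⊔ Subgroup.zpowers x :=
    mul_mem (Subgroup.mem_sup_left hrR) (Subgroup.mem_sup_right (Subgroup.mem_zpowers x))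
  have hx' : r * x ∈ N := N.mul_mem (hS.le hrR) hx
  have hk' : ∃ k : ℕ, (r * x) ^ 2 ^ k = 1 := by
    obtain ⟨k, hk⟩ := hS.isP_sup hx hk ⟨r * x, hrx⟩
    exact ⟨k, congrArg Subtype.val hk⟩
  set y := x ^ 2 ^ (n - 1) with hy
  set y' := (r * x) ^ 2 ^ (n - 1) with hy'
  have hyA : y ∈ topGroup N n := Subgroup.subset_closure ⟨x, hx, hk, rfl⟩
  have hyA' : y' ∈ topGroup N n := Subgroup.subset_closure ⟨r * x, hx', hk', rfl⟩
  have hDA : y' * y⁻¹ ∈ topGroup N n := mul_mem hyA' (inv_mem hyA)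
  have hinv : ∀ {u : H}, u ∈ tops N n → u⁻¹ = u := by
    rintro _ ⟨u, -, ⟨i, hi⟩, rfl⟩
    refine inv_eq_of_mul_eq_one_right ?_
    rw [← pow_add, ← two_mul, ← pow_succ', Nat.sub_add_cancel hn, hS.exp u i hi]
  have hyt : y ∈ tops N n := ⟨x, hx, hk, rfl⟩
  have hyt' : y' ∈ tops N n := ⟨r * x, hx', hk', rfl⟩
  -- `y` and `y'` commute
  have hyy : y' * y = y * y' := by
    refine commutatorElement_eq_one_iff_mul_comm.mp ?_
    have hcA : ⁅y', y⁆ ∈ topGroup N n := by
      rw [commutatorElement_def]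
      exact mul_mem (mul_mem (mul_mem hyA' hyA) (inv_mem hyA')) (inv_mem hyA)
    refine hS.eq_one ρ hρ1 hcA fun q C hC l hl => ?_
    have h := hS.local_commute ρ hC l hρN hl hx hk hx' hk' hrx
    rw [show (⟨⁅y', y⁆, mem_stab_of_centralizer hC l (hS.topGroup_centralizes hC hcA)⟩ :
      stab hC l) = ⁅(⟨y', hS.mem_stab hC l hyA'⟩ : stab hC l),
        (⟨y, hS.mem_stab hC l hyA⟩ : stab hC l)⁆ from rfl, map_commutatorElement,
      commutatorElement_eq_one_iff_mul_comm]
    exact h.eq.symm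
  refine ⟨⟨hDA, ?_, ?_⟩, fun hr0 => ?_⟩
  · -- central
    have hgen : topGroup N n ≤ Subgroup.centralizer {y' * y⁻¹} := by
      refine (Subgroup.closure_le _).mpr fun t ht => ?_
      rw [SetLike.mem_coe, Subgroup.mem_centralizer_singleton_iff]
      refine commutatorElement_eq_one_iff_mul_comm.mp ?_
      have htA : t ∈ topGroup N n := Subgroup.subset_closure ht
      have hcA : ⁅t, y' * y⁻¹⁆ ∈ topGroup N n := by
        rw [commutatorElement_def]
        exact mul_mem (mul_mem (mul_mem htA hDA) (inv_mem htA)) (inv_mem hDA)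
      refine hS.eq_one ρ hρ1 hcA fun q C hC l hl => ?_
      have hab := hS.local_commute ρ hC l hρN hl hx hk hx' hk' hrx
      obtain ⟨hmove, -⟩ := hS.local_compare ρ hC l hρN hl hx hk hr hx' hk'
      have hr' : r⁻¹ ∈ topGroup N n := inv_mem hr
      obtain ⟨hmove', -⟩ := hS.local_compare ρ hC l hρN hl hx' hk' hr'
        (by rw [inv_mul_cancel_left]; exact hx) (by rw [inv_mul_cancel_left]; exact hk)
      simp only [inv_mul_cancel_left] at hmove'
      rw [show (⟨⁅t, y' * y⁻¹⁆, mem_stab_of_centralizer hC l (hS.topGroup_centralizes hC hcA)⟩ :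
        stab hC l) = ⁅(⟨t, hS.mem_stab hC l htA⟩ : stab hC l),
          ((⟨y', hS.mem_stab hC l hyA'⟩ : stab hC l) * (⟨y, hS.mem_stab hC l hyA⟩ : stab hC l)⁻¹)⁆
        from rfl, map_commutatorElement, map_mul, map_inv, commutatorElement_eq_one_iff_mul_comm]
      set a := act hC l ⟨y, hS.mem_stab hC l hyA⟩
      set b := act hC l ⟨y', hS.mem_stab hC l hyA'⟩
      set u := act hC l ⟨t, hS.mem_stab hC l htA⟩
      have hu : u * u = 1 := by
        rw [← map_mul, ← map_one (act hC l)]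
        congr 1
        refine Subtype.ext ?_
        show t * t = 1
        nth_rewrite 1 [← hinv ht]
        exact inv_mul_cancel t
      have ha : a⁻¹ = a := by
        rw [← map_inv]
        congr 1
        exact Subtype.ext (hinv hyt)
      have huinv : u⁻¹ = u := inv_eq_of_mul_eq_one_right hu
      by_cases hua : Commute u a
      · refine Commute.mul_right ?_ hua.inv_right
        by_contra hub
        rcases hmove' ⟨t, hS.mem_stab hC l htA⟩ ht hub with h | h
        · exact hub (by rw [show b = a from h.symm]; exact hua)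
        · refine hub ?_
          have h' : a = u * b * u⁻¹ := h
          have e : b = u * a * u⁻¹ := by
            rw [h', huinv, show u * (u * b * u) * u = u * u * b * (u * u) by group, hu, one_mul,
              mul_one]
          rw [e, hua.eq, mul_inv_cancel_right]
          exact hua
      · rcases hmove ⟨t, hS.mem_stab hC l htA⟩ ht hua with h | h
        · rw [show b = a from h, mul_inv_cancel]; simp
        · have h' : b = u * a * u⁻¹ := h
          have hab' : a * (u * a * u) = u * a * u * a := by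
            have := hab.eq
            rwa [h', huinv] at this
          rw [h', ha, huinv]
          calc u * (u * a * u * a) = u * (a * (u * a * u)) := by rw [hab']
            _ = u * a * u * a * u := by group
    intro a ha
    exact (Subgroup.mem_centralizer_singleton_iff.mp (hgen ha)).symm
  · -- an involution
    rw [hinv hyt, show y' * y * (y' * y) = y' * (y * y') * y by group, ← hyy,
      show y' * (y' * y) * y = y' * y' * (y * y) by group]
    rw [mul_eq_one_iff_inv_eq.mpr (hinv hyt'), mul_eq_one_iff_inv_eq.mpr (hinv hyt), one_mul]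
  · -- equality
    refine hS.eq_one ρ hρ1 hDA fun q C hC l hl => ?_
    obtain ⟨-, h1⟩ := hS.local_compare ρ hC l hρN hl hx hk hr hx' hk'
    obtain ⟨-, h2⟩ := hS.local_compare ρ hC l hρN hl hx' hk' (inv_mem hr)
      (by rw [inv_mul_cancel_left]; exact hx) (by rw [inv_mul_cancel_left]; exact hk)
    simp only [inv_mul_cancel_left] at h2
    rw [show (⟨y' * y⁻¹, mem_stab_of_centralizer hC l (hS.topGroup_centralizes hC hDA)⟩ :
      stab hC l) = (⟨y', hS.mem_stab hC l hyA'⟩ : stab hC l) *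
        (⟨y, hS.mem_stab hC l hyA⟩ : stab hC l)⁻¹ from rfl, map_mul, map_inv]
    by_cases ha : act hC l ⟨y, hS.mem_stab hC l hyA⟩ = 1
    · by_cases hb : act hC l ⟨y', hS.mem_stab hC l hyA'⟩ = 1
      · rw [ha, hb]; simp
      · exact absurd ((h2 (inv_mem hr0) hb).symm.trans ha) hb
    · rw [h1 hr0 ha]
      exact mul_inv_cancel _

end Cfsg.Agent.TwoPlanesTops
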