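import Mathlib
import Cfsg.Prelude
import Cfsg.Agent.Lib.TwoPlanesChain
import Cfsg.Agent.Lib.TwoPlanesTops
import Cfsg.Agent.Lib.GrossTopPower
import Cfsg.Agent.Lib.GrossTwoLength

/-!
# Last derived subgroups of 2-subgroups

`H` is solvable with `O_2(H) = 1`, faithful in characteristic two; every 2-subgroup has derived
length at most `d` and a vanishing chain of operators of length `d`. Then the last derived
subgroups lie in `O_{2',2}(H)`, and the commutators of their generated group are small.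
-/

set_option autoImplicit false

namespace Cfsg.Agent.TwoLengthDerived

open Module Cfsg.Agent.TwoPlanes Cfsg.Agent.TwoPlanesLocal Cfsg.Agent.TwoPlanesChain
open Cfsg.Agent.HallCore Cfsg.Agent.HallSolvable Cfsg.Agent.HallPLength
open Cfsg.Agent.TwoPlanesTops (IsEigen exists_eigen centralInv)
open scoped commutatorElement
open Cfsg.Agent.GrossExceptional (InRad)

variable {H : Type*} [Group H] [Finite H] {V : Type*} [CommGroup V] [Finite V]

/-- The standing hypotheses. -/
structure Setting (φ : H →* MulAut V) (d : ℕ) : Prop where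
  sol : Group.IsSolvable H
  core : Cfsg.pCore 2 H = ⊥
  elem : ∀ v : V, v ^ 2 = 1
  faith : Function.Injective φ
  two_le : 2 ≤ d
  series : ∀ P : Subgroup H, IsPGroup 2 P → ds P d = ⊥
  chains : ∀ P : Subgroup H, IsPGroup 2 P → chain φ P ⊤ d = ⊥

variable {φ : H →* MulAut V} {d : ℕ}

/-- A representation in which the chains vanish. -/
theorem Setting.exists_rep (hS : Setting φ d) :
    ∃ (n : ℕ) (ρ : Representation (AlgebraicClosure (ZMod 2)) H
        (Fin n → AlgebraicClosure (ZMod 2))),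
      (∀ g, ρ g = 1 → g = 1) ∧ ∀ P : Subgroup H, IsPGroup 2 P → ops ρ P d = ⊥ := by
  have : Fact (Nat.Prime 2) := ⟨Nat.prime_two⟩
  let _ : Module (ZMod 2) (Additive V) := AddCommGroup.zmodModule fun v => hS.elem v.toMul
  obtain ⟨n, Φ, hΦ⟩ := Cfsg.Agent.HallHigman.exists_endRing (M := Additive V) (l := 2)
  let ψ : H →* Module.End (ZMod 2) (Additive V) :=
    { toFun := fun g => AddMonoidHom.toZModLinearMap 2 (MonoidHom.toAdditive (φ g).toMonoidHom)
      map_one' := LinearMap.ext fun v => by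
        show Additive.ofMul (φ 1 v.toMul) = v
        rw [map_one]; rfl
      map_mul' := fun a b => LinearMap.ext fun v => by
        show Additive.ofMul (φ (a * b) v.toMul) = Additive.ofMul (φ a (φ b v.toMul))
        rw [map_mul]; rfl }
  refine ⟨n, (Φ.toMonoidHom).comp ψ, fun g hg => hS.faith ?_, fun P hP => ?_⟩
  · have h1 : ψ g = 1 := hΦ (hg.trans (map_one Φ).symm)
    rw [map_one]
    exact MulEquiv.ext fun v =>
      congrArg Additive.toMul (LinearMap.congr_fun h1 (Additive.ofMul v))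
  · refine ops_eq_bot ψ Φ _ (fun g => rfl) P (fun i => {m | m.toMul ∈ chain φ P ⊤ i})
      (fun m => Subgroup.mem_top m.toMul) (fun i g hg m hm => ?_) fun m hm => ?_
    · show Additive.toMul (ψ g m - m) ∈ _
      rw [toMul_sub, div_eq_mul_inv]
      exact Subgroup.subset_closure ⟨g, hg, m.toMul, hm, rfl⟩
    · have h : m.toMul ∈ chain φ P ⊤ d := hm
      rw [hS.chains P hP, Subgroup.mem_bot] at h
      exact Additive.toMul.injective h

variable {k : ℕ} (ρ : Representation (AlgebraicClosure (ZMod 2)) H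
  (Fin k → AlgebraicClosure (ZMod 2)))

omit [Finite H] in
theorem exists_eig {C : Subgroup H}
    {l : ↥(C ⊓ Subgroup.centralizer (C : Set H)) →* AlgebraicClosure (ZMod 2)}
    (hl : IsEigen ρ l) : ∃ w ∈ eig l ρ, w ≠ 0 := by
  obtain ⟨w, hw, hlw⟩ := hl
  exact ⟨w, hlw, hw⟩

omit [Finite H] in
/-- A root normalising the configuration makes it trivial. -/
theorem trivial_of_root {E M : Type*} [CommGroup E] [Finite E] [CommGroup M] {q : ℕ}
    (S : Space q E M) (L : Subgroup (MulAut E)) {x : L} (hx : S.Root (x : MulAut E))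
    {P R : Subgroup L} (hP : IsPGroup 2 P) (hR : Odd (Nat.card R))
    (hxP : x ∈ Subgroup.normalizer (P : Set L)) (hxR : x ∈ Subgroup.normalizer (R : Set L))
    (hRP : R ≤ Subgroup.normalizer (P : Set L)) (hRb : ⁅R, Subgroup.zpowers (x * x)⁆ = R)
    (hPR : ⁅P, R⁆ = P) : ∀ p ∈ P, p = 1 := by
  have := Fact.mk S.prime
  have : Finite (MulAut E) := Finite.of_injective (fun f : MulAut E => (f : E → E))
    fun f g h => MulEquiv.ext fun v => congrFun h v
  have hxb : x ^ 2 ^ (2 - 1) = x * x := by rw [show (2 : ℕ) ^ (2 - 1) = 2 from rfl, sq]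
  have hx4 : x ^ 2 ^ 2 = 1 := by
    rw [show (2 : ℕ) ^ 2 = 2 ^ (2 - 1) * 2 from rfl, pow_mul, hxb, sq]
    exact Subtype.ext hx.top.sq
  obtain ⟨e, σ, hσ, hσfix, hσrank⟩ := Cfsg.Agent.GrossTopPower.exists_rep_moved (q := q)
    S.pow L.subtype (x := x) (y := x * x) hx.fix (inverted ((x : MulAut E) * x))
    (fun v => by
      rw [mem_inverted]
      show ((x : MulAut E) * x) (((x : MulAut E) * x) v * v⁻¹) =
        (((x : MulAut E) * x) v * v⁻¹)⁻¹
      rw [map_mul, map_inv, hx.top.apply_apply S, mul_inv, inv_inv, mul_comm])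
    (dvd_of_eq (hx.top.card_eq S))
  have h2 : (2 : AlgebraicClosure (ZMod q)) ≠ 0 := by
    rw [show (2 : AlgebraicClosure (ZMod q)) = ((2 : ℕ) : AlgebraicClosure (ZMod q)) by norm_num,
      Ne, CharP.cast_eq_zero_iff (AlgebraicClosure (ZMod q)) q,
      Nat.prime_dvd_prime_iff_eq S.prime Nat.prime_two]
    exact S.two_ne
  intro p hp
  refine Subtype.ext ((hσ p).mp ?_)
  exact Cfsg.Agent.GrossClassTwo.trivial_of_conf σ h2 (x := x) (m := 2) le_rfl hx4 hP hR hxP hxR
    hRP (by rw [hxb]; exact hRb) hPR (by rw [hxb]; exact hσfix) (by rw [hxb]; exact hσrank) p hp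

/-- The last derived subgroup centralises the centres. -/
theorem Setting.centralizes (hS : Setting φ d) (hρ : ∀ g, ρ g = 1 → g = 1)
    (hops : ∀ P : Subgroup H, IsPGroup 2 P → ops ρ P d = ⊥) {P : Subgroup H}
    (hP : IsPGroup 2 P) {q : ℕ} {C : Subgroup H} (hC : ClassTwo q C) :
    ds P (d - 1) ≤
      Subgroup.centralizer ((C ⊓ Subgroup.centralizer (C : Set H) : Subgroup H) : Set H) := by
  intro b hb
  have := hC.normal
  have hZn : (C ⊓ Subgroup.centralizer (C : Set H)).Normal := inferInstance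
  rw [Subgroup.mem_centralizer_iff]
  intro z hz
  by_contra hne
  have hbz : b * z * b⁻¹ ∈ C ⊓ Subgroup.centralizer (C : Set H) := hZn.conj_mem z hz b
  obtain ⟨l, hl, hlz⟩ := exists_eigen ρ hρ hC ⟨b * z * b⁻¹ * z⁻¹, mul_mem hbz (inv_mem hz)⟩
    (fun h => hne (mul_inv_eq_iff_eq_mul.mp (mul_inv_eq_one.mp h)).symm)
  have h := ds_le_stab hC l ρ hP (by have := hS.two_le; omega) (hops P hP) (exists_eig ρ hl) hb
    ⟨z, hz⟩ ⟨_, hbz⟩ rfl
  refine hlz ?_
  rw [show (⟨b * z * b⁻¹ * z⁻¹, mul_mem hbz (inv_mem hz)⟩ :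
    ↥(C ⊓ Subgroup.centralizer (C : Set H))) = ⟨_, hbz⟩ * ⟨z, hz⟩⁻¹ from rfl, map_mul, h,
    ← map_mul, mul_inv_cancel, map_one]

/-- A 2-subgroup trivial on all components is trivial. -/
theorem Setting.eq_bot (hS : Setting φ d) (hρ : ∀ g, ρ g = 1 → g = 1) {P : Subgroup H}
    (hP : IsPGroup 2 P)
    (hZ : ∀ (q : ℕ) (C : Subgroup H), ClassTwo q C → P ≤
      Subgroup.centralizer ((C ⊓ Subgroup.centralizer (C : Set H) : Subgroup H) : Set H))
    (hloc : ∀ (q : ℕ) (C : Subgroup H) (hC : ClassTwo q C)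
      (l : ↥(C ⊓ Subgroup.centralizer (C : Set H)) →* AlgebraicClosure (ZMod 2)), IsEigen ρ l →
        ∀ p ∈ P, ∀ hp : p ∈ stab hC l, act hC l ⟨p, hp⟩ = 1) : P = ⊥ := by
  have : Fact (Nat.Prime 2) := ⟨Nat.prime_two⟩
  have key : ∀ t : ℕ, t.Prime → P ≤ Subgroup.centralizer (Cfsg.pCore t H : Set H) := by
    intro q hq
    have := Fact.mk hq
    rcases eq_or_ne q 2 with rfl | hq2
    · rw [hS.core]
      intro a _
      rw [Subgroup.mem_centralizer_iff]
      intro b hb
      rw [SetLike.mem_coe, Subgroup.mem_bot] at hb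
      rw [hb, one_mul, mul_one]
    set Q := Cfsg.pCore q H
    have hQn : Q.Normal := pCore_normal q H
    obtain ⟨C, hCQ, hNC, hCcent, hcl, hpow⟩ :=
      Cfsg.Agent.ClassTwoBaer.exists_critical_sub (isPGroup_pCore q H)
    have hCn : C.Normal := Subgroup.normalizer_eq_top_iff.mp (top_le_iff.mp
      ((Subgroup.normalizer_eq_top_iff.mpr hQn).ge.trans hNC))
    have hCp : IsPGroup q C := (isPGroup_pCore q H).to_le hCQ
    have hC : ClassTwo q C := ⟨hq, hq2, hCp, hCn, hcl, hpow⟩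
    set Z : Subgroup H := C ⊓ Subgroup.centralizer (C : Set H) with hZdef
    have hPZ := hZ q C hC
    have hmod : ∀ p ∈ P, ∀ c ∈ C, ⁅p, c⁆ ∈ Z := by
      intro p hp c hc
      have hpcC : ⁅p, c⁆ ∈ C := by
        rw [commutatorElement_def]
        exact C.mul_mem (hCn.conj_mem c hc p) (C.inv_mem hc)
      refine ⟨hpcC, Subgroup.mem_centralizer_iff.mpr fun v hv => ?_⟩
      by_contra hz
      have hz1 : ⁅⁅p, c⁆, v⁆ ≠ 1 := fun h =>
        hz (commutatorElement_eq_one_iff_mul_comm.mp h).symm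
      obtain ⟨l, hl, hlz⟩ := exists_eigen ρ hρ hC ⟨_, hcl _ hpcC v hv⟩ hz1
      have h2 := (act_fix_iff hC l ⟨p, mem_stab_of_centralizer hC l (hPZ hp)⟩ ⟨c, hc⟩).mp (by
        rw [hloc q C hC l hl p hp]; rfl)
      exact hlz (h2 v hv (hcl _ hpcC v hv))
    have hcop : ∀ {A : Subgroup H}, IsPGroup q A → (Nat.card P).Coprime (Nat.card A) := by
      intro A hA
      obtain ⟨i, hi⟩ := IsPGroup.iff_card.mp hP
      obtain ⟨j, hj⟩ := IsPGroup.iff_card.mp hA
      rw [hi, hj]
      exact Nat.Coprime.pow _ _ ((Nat.coprime_primes Nat.prime_two hq).mpr (Ne.symm hq2))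
    have hPC : P ≤ Subgroup.centralizer (C : Set H) := by
      refine Cfsg.Agent.CoprimeAction.le_centralizer_of_stabilizes
        (hcop (hCp.to_le inf_le_left : IsPGroup q Z)) (Subgroup.le_centralizer_iff.mp hPZ) ?_
      intro a ha k hk
      have h2 : k⁻¹ * a * k * a⁻¹ = k⁻¹ * ⁅a, k⁆ * k⁻¹⁻¹ := by
        rw [commutatorElement_def]; group
      rw [h2]
      exact (inferInstance : Z.Normal).conj_mem _ (hmod a ha k hk) k⁻¹
    have hQP : P ≤ Subgroup.normalizer (Q : Set H) := by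
      rw [Subgroup.normalizer_eq_top_iff.mpr hQn]; exact le_top
    refine Cfsg.Agent.CoprimeAction.le_centralizer_of_commutator_commutator_eq_bot hQP
      (hcop (isPGroup_pCore q H))
      (Or.inr (Cfsg.Agent.CoprimeAction.isSolvable_of_isPGroup (isPGroup_pCore q H))) ?_
    have hQPC : ⁅Q, P⁆ ≤ Q ⊓ Subgroup.centralizer (C : Set H) := by
      refine le_inf (Cfsg.Agent.CoprimeAction.commutator_le_self_of_le_normalizer hQP) ?_
      have h1 : ⁅⁅P, C⁆, Q⁆ = ⊥ := by
        rw [Subgroup.commutator_eq_bot_iff_le_centralizer.mpr hPC, Subgroup.commutator_bot_left]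
      have h3 : ⁅⁅C, Q⁆, P⁆ = ⊥ := by
        refine eq_bot_iff.mpr ((Subgroup.commutator_mono (Subgroup.commutator_le_left C Q)
          le_rfl).trans ?_)
        rw [Subgroup.commutator_comm, Subgroup.commutator_eq_bot_iff_le_centralizer.mpr hPC]
      exact Subgroup.commutator_eq_bot_iff_le_centralizer.mp
        (Subgroup.commutator_commutator_eq_bot_of_rotate h1 h3)
    have hQPZ : ⁅Q, P⁆ ≤ Z := le_inf (hQPC.trans hCcent) (hQPC.trans inf_le_right)
    exact Subgroup.commutator_eq_bot_iff_le_centralizer.mpr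
      (hQPZ.trans (Subgroup.le_centralizer_iff.mp hPZ))
  have hsolT : Group.IsSolvable ↥(⊤ : Subgroup H) := by
    have := hS.sol
    infer_instance
  rw [← le_bot_iff, ← hS.core]
  exact le_trans (Cfsg.Agent.SFTGroup.le_oq_of_commute hsolT le_top hP fun t ht =>
    (key t ht).trans (Subgroup.centralizer_le (Cfsg.Agent.GrossTopPower.pCoreOf_top_le t)))
    (Cfsg.Agent.GrossTopPower.pCoreOf_top_le 2)

/-- A single element of a group centralising the centres. -/
theorem Setting.eq_one (hS : Setting φ d) (hρ : ∀ g, ρ g = 1 → g = 1) {R : Subgroup H}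
    (hR : IsPGroup 2 R)
    (hZ : ∀ (q : ℕ) (C : Subgroup H), ClassTwo q C → R ≤
      Subgroup.centralizer ((C ⊓ Subgroup.centralizer (C : Set H) : Subgroup H) : Set H))
    {g : H} (hg : g ∈ R)
    (hloc : ∀ (q : ℕ) (C : Subgroup H) (hC : ClassTwo q C)
      (l : ↥(C ⊓ Subgroup.centralizer (C : Set H)) →* AlgebraicClosure (ZMod 2)), IsEigen ρ l →
        ∀ hgs : g ∈ stab hC l, act hC l ⟨g, hgs⟩ = 1) : g = 1 := by
  have hle : Subgroup.zpowers g ≤ R := Subgroup.zpowers_le.mpr hg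
  have h := hS.eq_bot ρ hρ (hR.to_le hle) (fun q C hC => hle.trans (hZ q C hC))
    fun q C hC l hl p hp hps => by
      obtain ⟨i, rfl⟩ := hp
      have hgs : g ∈ stab hC l := mem_stab_of_centralizer hC l (hZ q C hC hg)
      rw [show (⟨g ^ i, hps⟩ : stab hC l) = (⟨g, hgs⟩ : stab hC l) ^ i from rfl, map_zpow,
        hloc q C hC l hl hgs, one_zpow]
  exact Subgroup.zpowers_eq_bot.mp h

set_option maxHeartbeats 3200000 in
/-- The last derived subgroups lie in `O_{2',2}(H)`. -/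
theorem Setting.ds_le_term (hS : Setting φ d) {Q : Subgroup H} (hQ : IsPGroup 2 Q) :
    ds Q (d - 1) ≤ term 2 H 2 := by
  classical
  have : Fact (Nat.Prime 2) := ⟨Nat.prime_two⟩
  obtain ⟨k, ρ, hρ, hops⟩ := hS.exists_rep
  have hsol := hS.sol
  set T1 := term 2 H (2 * 0 + 1)
  have hT1n : T1.Normal := term_two_normal _ _ _
  set T := term 2 H 2 with hTdef
  have hTn : T.Normal := term_two_normal _ _ _
  set O := Cfsg.pCore 2 (H ⧸ T1)
  have hTeq : T = O.comap (QuotientGroup.mk' T1) :=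
    Cfsg.Agent.HallConstrained.upperPSeries_even 0
  have hpsol : Cfsg.IsPSolvable 2 H := isPSolvable_of_solvable 2
  set π : H →* (H ⧸ T1) ⧸ O := (QuotientGroup.mk' O).comp (QuotientGroup.mk' T1) with hπ
  have hπsurj : Function.Surjective π :=
    (QuotientGroup.mk'_surjective _).comp (QuotientGroup.mk'_surjective _)
  have hker : ∀ g, g ∈ T ↔ π g = 1 := fun g => by
    rw [hTeq, Subgroup.mem_comap]
    exact (QuotientGroup.eq_one_iff (N := O) _).symm
  by_contra hQT
  have hUcore : Cfsg.pCore 2 ((H ⧸ T1) ⧸ O) = ⊥ := pCore_quotient_self 2 _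
  have hUsol : Group.IsSolvable ((H ⧸ T1) ⧸ O) := Group.isSolvable_of_surjective hπsurj
  -- a central element of the last derived subgroup of a Sylow subgroup of the quotient
  let S : Sylow 2 ((H ⧸ T1) ⧸ O) := default
  set B' := ds (S : Subgroup ((H ⧸ T1) ⧸ O)) (d - 1) with hB'
  have hB0 : B' ≠ ⊥ := by
    intro h0
    refine hQT fun a ha => (hker a).mpr ?_
    obtain ⟨S', hS'⟩ := (hQ.map π).exists_le_sylow
    obtain ⟨u, rfl⟩ := MulAction.exists_smul_eq ((H ⧸ T1) ⧸ O) S S'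
    have h1 : π a ∈ ds ((u • S : Sylow 2 ((H ⧸ T1) ⧸ O)) : Subgroup ((H ⧸ T1) ⧸ O)) (d - 1) :=
      ds_mono hS' _ (map_ds π Q (d - 1) ▸ ⟨a, ha, rfl⟩)
    rw [show ((u • S : Sylow 2 ((H ⧸ T1) ⧸ O)) : Subgroup ((H ⧸ T1) ⧸ O)) =
      (S : Subgroup ((H ⧸ T1) ⧸ O)).map (MulAut.conj u).toMonoidHom from rfl, ← map_ds,
      ← hB', h0, Subgroup.map_bot, Subgroup.mem_bot] at h1
    exact h1
  set S0 : Subgroup ((H ⧸ T1) ⧸ O) := (S : Subgroup ((H ⧸ T1) ⧸ O))
  have hB'n : (B'.subgroupOf S0).Normal :=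
    (Subgroup.normal_subgroupOf_iff_le_normalizer (ds_le S0 (d - 1))).mpr (le_normalizer_ds S0 _)
  obtain ⟨⟨z0, hz0⟩, hz1⟩ : ∃ z : ↥(B'.subgroupOf S0 ⊓ Subgroup.center S0), z ≠ 1 := by
    have := (Subgroup.nontrivial_iff_ne_bot _).mpr (Cfsg.Agent.PGroupsBasic.inf_center_ne_bot
      S.isPGroup' (N := B'.subgroupOf S0) (fun h => hB0 (by
        rw [← Subgroup.map_subgroupOf_eq_of_le (show B' ≤ S0 from ds_le S0 (d - 1)), h,
          Subgroup.map_bot])))
    exact exists_ne 1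
  set z : (H ⧸ T1) ⧸ O := (z0 : (H ⧸ T1) ⧸ O)
  have hzB : z ∈ B' := hz0.1
  have hzne : z ≠ 1 := fun h => hz1 (Subtype.ext (Subtype.ext h))
  have hzc : ∀ s ∈ S0, s * z = z * s := fun s hs =>
    congrArg Subtype.val (Subgroup.mem_center_iff.mp hz0.2 ⟨s, hs⟩)
  obtain ⟨r, hr, hnc⟩ : ∃ r : ℕ, r.Prime ∧
      ¬ Cfsg.pCore r ((H ⧸ T1) ⧸ O) ≤ Subgroup.centralizer {z} := by
    by_contra hno
    push Not at hno
    have hsolT : Group.IsSolvable ↥(⊤ : Subgroup ((H ⧸ T1) ⧸ O)) := inferInstance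
    have hzp : IsPGroup 2 (Subgroup.zpowers z) :=
      S.isPGroup'.to_le (Subgroup.zpowers_le.mpr (ds_le S0 _ hzB))
    have := (Cfsg.Agent.SFTGroup.le_oq_of_commute hsolT le_top hzp fun t ht => by
      refine le_trans ?_ (Subgroup.centralizer_le (Cfsg.Agent.GrossTopPower.pCoreOf_top_le t))
      rw [Subgroup.zpowers_le, Subgroup.mem_centralizer_iff]
      exact fun a ha => Subgroup.mem_centralizer_singleton_iff.mp (hno t ht ha)).trans
      (Cfsg.Agent.GrossTopPower.pCoreOf_top_le 2)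
    rw [hUcore] at this
    exact hzne (Subgroup.mem_bot.mp (this (Subgroup.mem_zpowers z)))
  have hr2 : r ≠ 2 := by
    rintro rfl
    rw [hUcore] at hnc
    exact hnc bot_le
  have := Fact.mk hr
  set Qb := Cfsg.pCore r ((H ⧸ T1) ⧸ O)
  have hQbn : Qb.Normal := pCore_normal r _
  -- a Sylow 2-subgroup of `T` and Frattini
  let P0 : Sylow 2 T := default
  set R0 : Subgroup H := (P0 : Subgroup T).map T.subtype with hR0def
  have hR0T : R0 ≤ T := Subgroup.map_subtype_le _
  have hR0p : IsPGroup 2 R0 := P0.isPGroup'.map _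
  have hfrat : Subgroup.normalizer (R0 : Set H) ⊔ T = ⊤ := Sylow.normalizer_sup_eq_top P0
  set N := Subgroup.normalizer (R0 : Set H)
  have hcov : ∀ h : H, ∃ g ∈ N, π g = π h := by
    intro h
    obtain ⟨g, hg, t, ht, rfl⟩ : ∃ g ∈ N, ∃ t ∈ T, g * t = h :=
      Subgroup.mem_sup_of_normal_right.mp (hfrat ▸ Subgroup.mem_top h)
    exact ⟨g, hg, by rw [map_mul, (hker t).mp ht, mul_one]⟩
  set W := N ⊓ Qb.comap π
  let Rs : Sylow r W := default
  set R1 : Subgroup H := (Rs : Subgroup W).map W.subtype with hR1def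
  have hR1W : R1 ≤ W := Subgroup.map_subtype_le _
  have hR1p : IsPGroup r R1 := Rs.isPGroup'.map _
  have hπW : ∀ u ∈ Qb, ∃ w ∈ R1, π w = u := by
    intro u hu
    let f : W →* Qb := (π.comp W.subtype).codRestrict Qb fun w => w.2.2
    have hfsurj : Function.Surjective f := by
      rintro ⟨u, hu⟩
      obtain ⟨h, rfl⟩ := hπsurj u
      obtain ⟨g, hg, hgh⟩ := hcov h
      exact ⟨⟨g, hg, show π g ∈ Qb by rw [hgh]; exact hu⟩, Subtype.ext hgh⟩
    have htop : (Rs.mapSurjective hfsurj : Subgroup Qb) = ⊤ :=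
      ((Rs.mapSurjective hfsurj).is_maximal' ((isPGroup_pCore r _).to_subgroup _ |>.of_equiv
        (MulEquiv.refl _) : IsPGroup r (⊤ : Subgroup Qb)) le_top).symm
    obtain ⟨w, hw, hwu⟩ : (⟨u, hu⟩ : Qb) ∈ (Rs : Subgroup W).map f := by
      rw [← Sylow.coe_mapSurjective hfsurj Rs, htop]
      exact Subgroup.mem_top _
    exact ⟨w, ⟨w, hw, rfl⟩, congrArg Subtype.val hwu⟩
  set N1 := N ⊓ Subgroup.normalizer (R1 : Set H)
  have hN1 : Function.Surjective (π.comp N1.subtype) := by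
    intro u
    obtain ⟨h, rfl⟩ := hπsurj u
    obtain ⟨g, hgN, hgx⟩ := hcov h
    have hgW : g ∈ Subgroup.normalizer (W : Set H) := by
      rw [Subgroup.mem_normalizer_iff]
      intro a
      have h1 : π (g * a * g⁻¹) ∈ Qb ↔ π a ∈ Qb := by
        rw [map_mul, map_mul, map_inv]
        refine ⟨fun h => ?_, fun h => hQbn.conj_mem _ h _⟩
        simpa [mul_assoc] using hQbn.conj_mem _ h (π g)⁻¹
      have h2 : g * a * g⁻¹ ∈ N ↔ a ∈ N := by
        refine ⟨fun h => ?_, fun h => N.mul_mem (N.mul_mem hgN h) (N.inv_mem hgN)⟩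
        have := N.mul_mem (N.mul_mem (N.inv_mem hgN) h) hgN
        simpa [mul_assoc] using this
      show a ∈ N ∧ π a ∈ Qb ↔ g * a * g⁻¹ ∈ N ∧ π (g * a * g⁻¹) ∈ Qb
      rw [h1, h2]
    let αg : MulAut W := Subgroup.normalizerMonoidHom W ⟨g, hgW⟩
    let Rs' : Sylow r W := Rs.mapSurjective (f := αg.toMonoidHom) αg.surjective
    obtain ⟨w, hw⟩ := MulAction.exists_smul_eq W Rs Rs'
    obtain ⟨w1, hw1, hw1eq⟩ := hπW _ w.2.2
    refine ⟨⟨((w : H) * w1⁻¹)⁻¹ * g,
      N.mul_mem (N.inv_mem (N.mul_mem w.2.1 (N.inv_mem (hR1W hw1).1))) hgN, ?_⟩, ?_⟩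
    · have hconj : R1.map (MulAut.conj g).toMonoidHom = R1.map (MulAut.conj (w : H)).toMonoidHom := by
        have e1 : ((w • Rs : Sylow r W) : Subgroup W) =
            (Rs : Subgroup W).map (MulAut.conj w).toMonoidHom := rfl
        have h0 : (Rs : Subgroup W).map (MulAut.conj w).toMonoidHom =
            (Rs : Subgroup W).map αg.toMonoidHom := by rw [← e1, hw]; rfl
        have c1 : (MulAut.conj g).toMonoidHom.comp W.subtype = W.subtype.comp αg.toMonoidHom :=
          MonoidHom.ext fun a => rfl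
        have c2 : (MulAut.conj (w : H)).toMonoidHom.comp W.subtype =
            W.subtype.comp (MulAut.conj w).toMonoidHom := MonoidHom.ext fun a => rfl
        rw [hR1def, Subgroup.map_map, Subgroup.map_map, c1, c2, ← Subgroup.map_map,
          ← Subgroup.map_map, h0]
      have hcomp : ∀ a b : H, (MulAut.conj (a * b)).toMonoidHom =
          (MulAut.conj a).toMonoidHom.comp (MulAut.conj b).toMonoidHom := fun a b => by
        ext c; simp [mul_assoc]
      show _ ∈ Subgroup.normalizer (R1 : Set H)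
      rw [Subgroup.mem_normalizer_iff_map_conj_eq]
      show R1.map (MulAut.conj (((w : H) * w1⁻¹)⁻¹ * g)).toMonoidHom = R1
      rw [hcomp, ← Subgroup.map_map, hconj, Subgroup.map_map, ← hcomp, mul_inv_rev, inv_inv,
        mul_assoc, inv_mul_cancel, mul_one]
      exact Subgroup.mem_normalizer_iff_map_conj_eq.mp (Subgroup.le_normalizer hw1)
    · show π (((w : H) * w1⁻¹)⁻¹ * g) = π h
      rw [map_mul, map_inv, map_mul, map_inv, hw1eq, mul_inv_cancel, inv_one, one_mul, hgx]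
  obtain ⟨P', hP'⟩ := Sylow.mapSurjective_surjective hN1 2 S
  set P : Subgroup H := (P' : Subgroup N1).map N1.subtype with hPdef
  have hPN1 : P ≤ N1 := Subgroup.map_subtype_le _
  have hPp : IsPGroup 2 P := P'.isPGroup'.map _
  have hPS : P.map π = S0 := by
    rw [hPdef, Subgroup.map_map]
    exact congrArg (fun X : Sylow 2 ((H ⧸ T1) ⧸ O) => (X : Subgroup ((H ⧸ T1) ⧸ O))) hP'
  obtain ⟨b, hb, hbz⟩ : z ∈ (ds P (d - 1)).map π := by
    rw [map_ds, hPS]; exact hzB
  have hbP : b ∈ P := ds_le P _ hb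
  -- `P ∩ T` centralises `R1`
  have hk : ∀ x ∈ P, π x = 1 → ∀ a ∈ R1, x * a = a * x := by
    intro x hx hx1 a ha
    have hxT : x ∈ T := (hker x).mpr hx1
    have hsup : IsPGroup 2 (Subgroup.zpowers x ⊔ R0 : Subgroup H) :=
      IsPGroup.to_sup_of_normal_right' (hPp.to_le (Subgroup.zpowers_le.mpr hx)) hR0p
        (Subgroup.zpowers_le.mpr (hPN1 hx).1)
    have hle : (P0 : Subgroup T) ≤ (Subgroup.zpowers x ⊔ R0).subgroupOf T := fun t ht =>
      Subgroup.mem_sup_right ⟨t, ht, rfl⟩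
    have heq := P0.is_maximal' hsup.comap_subtype hle
    have hxR0 : x ∈ R0 := ⟨⟨x, hxT⟩, heq ▸ (Subgroup.mem_sup_left (Subgroup.mem_zpowers x)), rfl⟩
    refine commutatorElement_eq_one_iff_mul_comm.mp (Subgroup.mem_bot.mp ?_)
    have hdis : R0 ⊓ R1 = ⊥ := by
      refine Subgroup.inf_eq_bot_of_coprime ?_
      obtain ⟨i, hi⟩ := IsPGroup.iff_card.mp hR0p
      obtain ⟨j, hj⟩ := IsPGroup.iff_card.mp hR1p
      rw [hi, hj]
      exact Nat.Coprime.pow _ _ ((Nat.coprime_primes Nat.prime_two hr).mpr (Ne.symm hr2))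
    rw [← hdis, commutatorElement_def]
    refine ⟨?_, R1.mul_mem ((Subgroup.mem_normalizer_iff.mp (hPN1 hx).2 a).mp ha) (R1.inv_mem ha)⟩
    rw [show x * a * x⁻¹ * a⁻¹ = x * (a * x⁻¹ * a⁻¹) by group]
    exact R0.mul_mem hxR0 ((Subgroup.mem_normalizer_iff.mp (hR1W ha).1 _).mp (R0.inv_mem hxR0))
  have hbR1 : Subgroup.zpowers b ≤ Subgroup.normalizer (R1 : Set H) :=
    Subgroup.zpowers_le.mpr (hPN1 hbP).2
  set R := ⁅R1, Subgroup.zpowers b⁆ with hRdef
  have hPR : P ≤ Subgroup.normalizer (R : Set H) := by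
    have hle : ∀ t ∈ P, R ≤ R.comap (MulAut.conj t).toMonoidHom := by
      intro t ht
      rw [hRdef, Subgroup.commutator_le]
      rintro a ha _ ⟨i, rfl⟩
      show t * ⁅a, b ^ i⁆ * t⁻¹ ∈ R
      set a' := t * a * t⁻¹
      set x := (b ^ i)⁻¹ * (t * b ^ i * t⁻¹) with hx
      have ha' : a' ∈ R1 := (Subgroup.mem_normalizer_iff.mp (hPN1 ht).2 a).mp ha
      have hxP : x ∈ P := P.mul_mem (P.inv_mem (P.zpow_mem hbP i))
        (P.mul_mem (P.mul_mem ht (P.zpow_mem hbP i)) (P.inv_mem ht))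
      have hzi : Commute (π t) (z ^ i) :=
        (show Commute (π t) z from hzc _ (hPS ▸ ⟨t, ht, rfl⟩)).zpow_right i
      have hx1 : π x = 1 := by
        rw [hx, map_mul, map_inv, map_mul, map_mul, map_zpow, map_inv, hbz, hzi.eq,
          mul_inv_cancel_right, inv_mul_cancel]
      have hc := hk x hxP hx1 _ (R1.inv_mem ha')
      rw [show t * ⁅a, b ^ i⁆ * t⁻¹ = a' * (b ^ i * (x * a'⁻¹) * (b ^ i * x)⁻¹) by
        simp only [hx, a', commutatorElement_def]; group, hc,
        show a' * (b ^ i * (a'⁻¹ * x) * (b ^ i * x)⁻¹) = ⁅a', b ^ i⁆ by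
          simp only [commutatorElement_def]; group]
      exact Subgroup.commutator_mem_commutator ha' ⟨i, rfl⟩
    intro t ht
    refine Subgroup.mem_normalizer_iff.mpr fun a => ⟨fun ha => hle t ht ha, fun ha => ?_⟩
    have h : t⁻¹ * (t * a * t⁻¹) * t⁻¹⁻¹ ∈ R := hle t⁻¹ (P.inv_mem ht) ha
    rwa [show t⁻¹ * (t * a * t⁻¹) * t⁻¹⁻¹ = a by group] at h
  have hRR1 : R ≤ R1 := Cfsg.Agent.CoprimeAction.commutator_le_self_of_le_normalizer hbR1
  have hcopR : (Nat.card (Subgroup.zpowers b)).Coprime (Nat.card R1) := by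
    obtain ⟨i, hi⟩ := IsPGroup.iff_card.mp (hPp.to_le (Subgroup.zpowers_le.mpr hbP))
    obtain ⟨j, hj⟩ := IsPGroup.iff_card.mp hR1p
    rw [hi, hj]
    exact Nat.Coprime.pow _ _ ((Nat.coprime_primes Nat.prime_two hr).mpr (Ne.symm hr2))
  have hRb : ⁅R, Subgroup.zpowers b⁆ = R := Cfsg.Agent.CoprimeAction.commutator_commutator_eq hbR1
    hcopR (Or.inl (Cfsg.Agent.CoprimeAction.isSolvable_zpowers b))
  have hRN : R ≤ N := fun a ha => (hR1W (hRR1 ha)).1
  have hRcard : Odd (Nat.card R) := by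
    obtain ⟨j, hj⟩ := IsPGroup.iff_card.mp (hR1p.to_le hRR1)
    rw [hj]; exact (hr.odd_of_ne_two hr2).pow
  have hcopP : (Nat.card R).Coprime (Nat.card R0) := by
    obtain ⟨j, hj⟩ := IsPGroup.iff_card.mp hR0p
    rw [hj]; exact (Nat.coprime_two_right.mpr hRcard).pow_right j
  have hRT : ¬ R ≤ T := by
    intro h
    refine hnc fun u hu => ?_
    obtain ⟨w, hw, rfl⟩ := hπW u hu
    have h1 := (hker _).mp (h (Subgroup.commutator_mem_commutator hw (Subgroup.mem_zpowers b)))
    rw [map_commutatorElement, commutatorElement_eq_one_iff_mul_comm, hbz] at h1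
    exact Subgroup.mem_centralizer_singleton_iff.mpr h1
  set P1 := ⁅R0, R⁆ with hP1def
  have hP1R0 : P1 ≤ R0 := Cfsg.Agent.CoprimeAction.commutator_le_self_of_le_normalizer hRN
  have hP1R : ⁅P1, R⁆ = P1 := Cfsg.Agent.CoprimeAction.commutator_commutator_eq hRN hcopP
    (Or.inr (Cfsg.Agent.CoprimeAction.isSolvable_of_isPGroup hR0p))
  have hconj_comm : ∀ a : H, a ∈ N → a ∈ Subgroup.normalizer (R : Set H) →
      a ∈ Subgroup.normalizer (P1 : Set H) := by
    intro a hA hB
    rw [Subgroup.mem_normalizer_iff_map_conj_eq, hP1def, Subgroup.map_commutator,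
      Subgroup.mem_normalizer_iff_map_conj_eq.mp hA, Subgroup.mem_normalizer_iff_map_conj_eq.mp hB]
  have hP1 : P1 = ⊥ := by
    have hZ : ∀ (q : ℕ) (C : Subgroup H), ClassTwo q C →
        R ≤ Subgroup.centralizer ((C ⊓ Subgroup.centralizer (C : Set H) : Subgroup H) : Set H) ∧
        P1 ≤ Subgroup.centralizer ((C ⊓ Subgroup.centralizer (C : Set H) : Subgroup H) : Set H) := by
      intro q C hC
      have := hC.normal
      have : (Subgroup.centralizer ((C ⊓ Subgroup.centralizer (C : Set H) : Subgroup H) :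
          Set H)).Normal := inferInstance
      have hbZ := hS.centralizes ρ hρ hops hPp hC hb
      have hR' : R ≤ Subgroup.centralizer
          ((C ⊓ Subgroup.centralizer (C : Set H) : Subgroup H) : Set H) :=
        (Subgroup.commutator_mono le_rfl (Subgroup.zpowers_le.mpr hbZ)).trans
          (Subgroup.commutator_le_right _ _)
      exact ⟨hR', (Subgroup.commutator_mono le_rfl hR').trans (Subgroup.commutator_le_right _ _)⟩
    refine hS.eq_bot ρ hρ (hR0p.to_le hP1R0) (fun q C hC => (hZ q C hC).2) ?_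
    intro q C hC l hl p hp hps
    have := Fact.mk hC.prime
    set L := stab hC l
    have hRL : R ≤ L := fun a ha => mem_stab_of_centralizer hC l ((hZ q C hC).1 ha)
    have hP1L : P1 ≤ L := fun a ha => mem_stab_of_centralizer hC l ((hZ q C hC).2 ha)
    have hbL : b ∈ L := mem_stab_of_centralizer hC l (hS.centralizes ρ hρ hops hPp hC hb)
    have hRbL : ⁅R.subgroupOf L, Subgroup.zpowers (⟨b, hbL⟩ : L)⁆ = R.subgroupOf L := by
      apply Subgroup.map_injective L.subtype_injective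
      rw [Subgroup.map_commutator, Subgroup.map_subgroupOf_eq_of_le hRL, MonoidHom.map_zpowers]
      exact hRb
    have hP1RL : ⁅P1.subgroupOf L, R.subgroupOf L⁆ = P1.subgroupOf L := by
      apply Subgroup.map_injective L.subtype_injective
      rw [Subgroup.map_commutator, Subgroup.map_subgroupOf_eq_of_le hRL,
        Subgroup.map_subgroupOf_eq_of_le hP1L, hP1R]
    set α := (act hC l).rangeRestrict
    have hαR : ⁅(R.subgroupOf L).map α, Subgroup.zpowers (α ⟨b, hbL⟩)⁆ =
        (R.subgroupOf L).map α := by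
      rw [← MonoidHom.map_zpowers, ← Subgroup.map_commutator, hRbL]
    have hαP : ⁅(P1.subgroupOf L).map α, (R.subgroupOf L).map α⁆ = (P1.subgroupOf L).map α := by
      rw [← Subgroup.map_commutator, hP1RL]
    have hfinish : (P1.subgroupOf L).map α = ⊥ → act hC l ⟨p, hps⟩ = 1 := fun h =>
      congrArg Subtype.val (Subgroup.mem_bot.mp (h ▸ ⟨⟨p, hps⟩, hp, rfl⟩ : α ⟨p, hps⟩ ∈ ⊥))
    by_cases hne : act hC l ⟨b, hbL⟩ = 1
    · apply hfinish
      have h1 : α ⟨b, hbL⟩ = 1 := Subtype.ext hne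
      rw [h1, Subgroup.zpowers_one_eq_bot, Subgroup.commutator_bot_right] at hαR
      rw [← hαP, ← hαR, Subgroup.commutator_bot_right]
    obtain ⟨-, htop, -, -, -, w, ⟨g, hg, hgw⟩, hroot, hww⟩ := local_top hC l ρ hPp
      (by have := hS.two_le; omega) (hS.series P hPp) (hops P hPp) hρ (exists_eig ρ hl) hb hbL hne
    subst hgw
    have hgP : (g : H) ∈ P := hg
    have hnorm : ∀ {A : Subgroup H} (u : L), (u : H) ∈ Subgroup.normalizer (A : Set H) →
        α u ∈ Subgroup.normalizer (((A.subgroupOf L).map α : Subgroup (act hC l).range) :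
          Set (act hC l).range) := fun {A} u hu => by
      have hu' : u ∈ Subgroup.normalizer ((A.subgroupOf L : Subgroup L) : Set L) :=
        Subgroup.mem_normalizer_iff.mpr fun a => Subgroup.mem_normalizer_iff.mp hu (a : H)
      exact Subgroup.le_normalizer_map α ⟨u, hu', rfl⟩
    have hRodd : Odd (Nat.card ((R.subgroupOf L).map α)) := by
      have e : Nat.card (R.subgroupOf L) = Nat.card R :=
        Nat.card_congr (Subgroup.subgroupOfEquivOfLe hRL).toEquiv
      exact hRcard.of_dvd_nat (e ▸ Subgroup.card_map_dvd (R.subgroupOf L) α)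
    have hgg : α g * α g = α ⟨b, hbL⟩ := Subtype.ext hww
    have hRn : (R.subgroupOf L).map α ≤
        Subgroup.normalizer (((P1.subgroupOf L).map α : Subgroup (act hC l).range) :
          Set (act hC l).range) :=
      Subgroup.map_le_iff_le_comap.mpr fun u hu =>
        hnorm u (hconj_comm _ (hRN hu) (Subgroup.le_normalizer hu))
    have htriv := trivial_of_root (space hC l) (act hC l).range (x := α g) hroot
      (P := (P1.subgroupOf L).map α) (R := (R.subgroupOf L).map α)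
      ((hR0p.to_le hP1R0).comap_subtype.map α) hRodd
      (hnorm g (hconj_comm _ (hPN1 hgP).1 (hPR hgP))) (hnorm g (hPR hgP)) hRn
      (by rw [hgg]; exact hαR) hαP
    exact congrArg Subtype.val (htriv _ ⟨⟨p, hps⟩, hp, rfl⟩)
  -- so `R` centralises `O`
  refine hRT fun a ha => ?_
  rw [hTeq, Subgroup.mem_comap]
  refine centralizer_pCore_le (isPSolvable_quotient hpsol T1)
    (Cfsg.Agent.HallConstrained.pPrimeCore_quotient_upperPSeries 0) ?_
  rw [Subgroup.mem_centralizer_iff]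
  intro c hc
  rw [SetLike.mem_coe] at hc
  obtain ⟨c, rfl⟩ := QuotientGroup.mk'_surjective T1 c
  let fT : T →* O := ((QuotientGroup.mk' T1).comp T.subtype).codRestrict O fun t =>
    show (t : H) ∈ O.comap (QuotientGroup.mk' T1) from hTeq ▸ t.2
  have hfT : Function.Surjective fT := by
    rintro ⟨b, hb⟩
    obtain ⟨c, rfl⟩ := QuotientGroup.mk'_surjective T1 b
    exact ⟨⟨c, hTeq ▸ hb⟩, rfl⟩
  have htop : (P0.mapSurjective hfT : Subgroup O) = ⊤ :=
    ((P0.mapSurjective hfT).is_maximal' ((isPGroup_pCore 2 (H ⧸ T1)).to_subgroup ⊤ |>.of_equiv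
      (MulEquiv.refl _)) le_top).symm
  obtain ⟨c', hc', hcc⟩ : (⟨QuotientGroup.mk' T1 c, hc⟩ : O) ∈ (P0 : Subgroup T).map fT := by
    rw [← Sylow.coe_mapSurjective hfT P0, htop]
    exact Subgroup.mem_top _
  have h1 : ⁅(c' : H), a⁆ = 1 := Subgroup.mem_bot.mp
    (hP1 ▸ Subgroup.commutator_mem_commutator ⟨c', hc', rfl⟩ ha)
  have hcc' : QuotientGroup.mk' T1 (c' : H) = QuotientGroup.mk' T1 c := congrArg Subtype.val hcc
  rw [← hcc', ← map_mul, ← map_mul, commutatorElement_eq_one_iff_mul_comm.mp h1]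

/-! ### The group generated by the last derived subgroups -/

/-- `N` normalises `R`, which contains the last derived subgroups of the 2-subgroups of `N`. -/
structure Level (φ : H →* MulAut V) (d : ℕ) (N R : Subgroup H) : Prop where
  setting : Setting φ d
  isP : IsPGroup 2 R
  le : R ≤ N
  normalizes : N ≤ Subgroup.normalizer (R : Set H)
  ds_le : ∀ P : Subgroup H, IsPGroup 2 P → P ≤ N → ds P (d - 1) ≤ R

/-- The last derived subgroups of the 2-subgroups of `N` containing `R`. -/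
def tops (N R : Subgroup H) (d : ℕ) : Set H :=
  {b | ∃ P : Subgroup H, IsPGroup 2 P ∧ P ≤ N ∧ R ≤ P ∧ b ∈ ds P (d - 1)}

/-- The group they generate. -/
def topGroup (N R : Subgroup H) (d : ℕ) : Subgroup H := Subgroup.closure (tops N R d)

variable {N R : Subgroup H}

theorem Level.conj_mem_tops (hL : Level φ d N R) {g y : H} (hg : g ∈ N) (hy : y ∈ tops N R d) :
    g * y * g⁻¹ ∈ tops N R d := by
  obtain ⟨P, hP, hPN, hRP, hy⟩ := hy
  refine ⟨P.map (MulAut.conj g).toMonoidHom, hP.map _, ?_, ?_, ?_⟩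
  · rintro _ ⟨p, hp, rfl⟩
    exact N.mul_mem (N.mul_mem hg (hPN hp)) (N.inv_mem hg)
  · rw [← Subgroup.mem_normalizer_iff_map_conj_eq.mp (hL.normalizes hg)]
    exact Subgroup.map_mono hRP
  · rw [← map_ds]
    exact ⟨y, hy, rfl⟩

theorem Level.conj_mem_topGroup (hL : Level φ d N R) {g a : H} (hg : g ∈ N)
    (ha : a ∈ topGroup N R d) : g * a * g⁻¹ ∈ topGroup N R d := by
  induction ha using Subgroup.closure_induction with
  | mem y hy => exact Subgroup.subset_closure (hL.conj_mem_tops hg hy)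
  | one => rw [mul_one, mul_inv_cancel]; exact one_mem _
  | mul u v _ _ hu hv =>
    rw [show g * (u * v) * g⁻¹ = g * u * g⁻¹ * (g * v * g⁻¹) by group]
    exact mul_mem hu hv
  | inv u _ hu =>
    rw [show g * u⁻¹ * g⁻¹ = (g * u * g⁻¹)⁻¹ by group]
    exact inv_mem hu

theorem Level.conj_mem_centralInv (hL : Level φ d N R) {g a : H} (hg : g ∈ N)
    (ha : a ∈ centralInv (topGroup N R d)) : g * a * g⁻¹ ∈ centralInv (topGroup N R d) := by
  refine ⟨hL.conj_mem_topGroup hg ha.1, fun b hb => ?_, ?_⟩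
  · have hb' : g⁻¹ * b * g ∈ topGroup N R d := by
      simpa using hL.conj_mem_topGroup (N.inv_mem hg) hb
    calc g * a * g⁻¹ * b = g * (a * (g⁻¹ * b * g)) * g⁻¹ := by group
      _ = g * ((g⁻¹ * b * g) * a) * g⁻¹ := by rw [ha.2.1 _ hb']
      _ = b * (g * a * g⁻¹) := by group
  · rw [show g * a * g⁻¹ * (g * a * g⁻¹) = g * (a * a) * g⁻¹ by group, ha.2.2, mul_one,
      mul_inv_cancel]

theorem Level.topGroup_le (hL : Level φ d N R) : topGroup N R d ≤ R :=
  (Subgroup.closure_le _).mpr (by rintro b ⟨P, hP, hPN, -, hb⟩; exact hL.ds_le P hP hPN hb)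

section component

variable {q : ℕ} {C : Subgroup H} (hC : ClassTwo q C)
  (l : ↥(C ⊓ Subgroup.centralizer (C : Set H)) →* AlgebraicClosure (ZMod 2))

theorem Level.topGroup_centralizes (hL : Level φ d N R) (hρ : ∀ g, ρ g = 1 → g = 1)
    (hops : ∀ P : Subgroup H, IsPGroup 2 P → ops ρ P d = ⊥) {q : ℕ} {C : Subgroup H}
    (hC : ClassTwo q C) : topGroup N R d ≤
      Subgroup.centralizer ((C ⊓ Subgroup.centralizer (C : Set H) : Subgroup H) : Set H) :=
  (Subgroup.closure_le _).mpr (by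
    rintro b ⟨P, hP, -, -, hb⟩; exact hL.setting.centralizes ρ hρ hops hP hC hb)

/-- The generated group on a component. -/
theorem Level.local_conf (hL : Level φ d N R) (hρ : ∀ g, ρ g = 1 → g = 1)
    (hops : ∀ P : Subgroup H, IsPGroup 2 P → ops ρ P d = ⊥) (hl : IsEigen ρ l) :
    (space hC l).Conf
      {t | t ≠ 1 ∧ ∃ y : stab hC l, (y : H) ∈ tops N R d ∧ act hC l y = t}
      (((topGroup N R d).subgroupOf (stab hC l)).map (act hC l)) := by
  have hst : ∀ {a}, a ∈ topGroup N R d → a ∈ stab hC l := fun ha =>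
    mem_stab_of_centralizer hC l (hL.topGroup_centralizes ρ hρ hops hC ha)
  have hd : 1 ≤ d := by have := hL.setting.two_le; omega
  refine ⟨?_, ?_, ?_, ?_, ?_, ?_⟩
  · refine le_antisymm ((Subgroup.closure_le _).mpr ?_) ?_
    · rintro _ ⟨-, y, hy, rfl⟩
      exact ⟨y, Subgroup.subset_closure hy, rfl⟩
    · rintro _ ⟨⟨a, ha'⟩, ha, rfl⟩
      have hmain : ∀ a ∈ topGroup N R d, ∀ ha' : a ∈ stab hC l, act hC l ⟨a, ha'⟩ ∈
          Subgroup.closure
            {t | t ≠ 1 ∧ ∃ y : stab hC l, (y : H) ∈ tops N R d ∧ act hC l y = t} := by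
        intro a ha
        induction ha using Subgroup.closure_induction with
        | mem y hy =>
          intro hy'
          by_cases h : act hC l ⟨y, hy'⟩ = 1
          · rw [h]; exact one_mem _
          · exact Subgroup.subset_closure ⟨h, ⟨y, hy'⟩, hy, rfl⟩
        | one =>
          intro h1
          rw [show (⟨1, h1⟩ : stab hC l) = 1 from rfl, map_one]
          exact one_mem _
        | mul u v hu hv ihu ihv =>
          intro h
          rw [show (⟨u * v, h⟩ : stab hC l) = ⟨u, hst hu⟩ * ⟨v, hst hv⟩ from rfl, map_mul]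
          exact mul_mem (ihu _) (ihv _)
        | inv u hu ihu =>
          intro h
          rw [show (⟨u⁻¹, h⟩ : stab hC l) = (⟨u, hst hu⟩ : stab hC l)⁻¹ from rfl, map_inv]
          exact inv_mem (ihu _)
      exact hmain a ha ha'
  · rintro _ ⟨g, -, rfl⟩; exact act_iso hC l g
  · exact ((hL.isP.to_le hL.topGroup_le).comap_subtype).map _
  · rintro _ ⟨hne, ⟨y, hy'⟩, ⟨P, hP, -, -, hy⟩, rfl⟩
    exact (local_top hC l ρ hP hd (hL.setting.series P hP) (hops P hP) hρ (exists_eig ρ hl) hy hy'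
      hne).2.1
  · rintro _ ⟨⟨a, ha'⟩, ha, rfl⟩ t ⟨hne, ⟨y, hy'⟩, hy, rfl⟩
    refine ⟨fun h => hne ?_, ⟨a, ha'⟩ * ⟨y, hy'⟩ * ⟨a, ha'⟩⁻¹,
      hL.conj_mem_tops (hL.le (hL.topGroup_le ha)) hy, by rw [map_mul, map_mul, map_inv]⟩
    rw [mul_inv_eq_one] at h
    exact mul_eq_left.mp h
  · rintro _ ⟨hne, ⟨y, hy'⟩, ⟨P, hP, -, hRP, hy⟩, rfl⟩
    obtain ⟨-, -, -, -, -, w, hwQ, hw, hww⟩ := local_top hC l ρ hP hd (hL.setting.series P hP)
      (hops P hP) hρ (exists_eig ρ hl) hy hy' hne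
    refine ⟨w, hw, hww, _, hP.comap_subtype.map _, ?_, hwQ, ?_⟩
    · rintro _ ⟨g, -, rfl⟩; exact act_iso hC l g
    · exact Subgroup.map_mono fun g hg => hRP (hL.topGroup_le hg)

/-- On a component, the commutator of `c` and `r` is central among the tops, trivial if `r` is a
central involution. -/
theorem Level.local_commutator (hL : Level φ d N R) (hρ : ∀ g, ρ g = 1 → g = 1)
    (hops : ∀ P : Subgroup H, IsPGroup 2 P → ops ρ P d = ⊥) (hl : IsEigen ρ l) {P : Subgroup H}
    (hP : IsPGroup 2 P) (hPN : P ≤ N) (hRP : R ≤ P) {c r : H} (hc : c ∈ ds P (d - 2))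
    (hr : r ∈ ds P (d - 2)) (hrA : r ∈ topGroup N R d) (hD : ⁅c, r⁆ ∈ stab hC l) :
    (∀ t : stab hC l, (t : H) ∈ tops N R d →
      act hC l t * act hC l ⟨⁅c, r⁆, hD⟩ = act hC l ⟨⁅c, r⁆, hD⟩ * act hC l t) ∧
    (r ∈ centralInv (topGroup N R d) → act hC l ⟨⁅c, r⁆, hD⟩ = 1) := by
  have hd : 1 ≤ d := by have := hL.setting.two_le; omega
  have hDB : ⁅c, r⁆ ∈ ds P (d - 1) := by
    rw [show d - 1 = d - 2 + 1 by have := hL.setting.two_le; omega, ds_succ]
    exact Subgroup.commutator_mem_commutator hc hr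
  set S0 := space hC l
  set b := act hC l ⟨⁅c, r⁆, hD⟩ with hb
  by_cases hb1 : b = 1
  · exact ⟨fun t _ => by rw [hb1, one_mul, mul_one], fun _ => hb1⟩
  obtain ⟨-, htop, hCst, -, hfix, -⟩ := local_top hC l ρ hP hd (hL.setting.series P hP)
    (hops P hP) hρ (exists_eig ρ hl) hDB hD hb1
  have hcst := hCst hc
  have hrst := hCst hr
  set cb := act hC l ⟨c, hcst⟩
  set rb := act hC l ⟨r, hrst⟩
  have hconf := hL.local_conf ρ hC l hρ hops hl
  set A := ((topGroup N R d).subgroupOf (stab hC l)).map (act hC l)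
  have hrA' : rb ∈ A := ⟨⟨r, hrst⟩, hrA, rfl⟩
  have hbA : b ∈ A := ⟨⟨_, hD⟩, Subgroup.subset_closure ⟨P, hP, hPN, hRP, hDB⟩, rfl⟩
  have hbcr : b = cb * rb * cb⁻¹ * rb⁻¹ := by
    rw [hb, ← map_inv, ← map_inv, ← map_mul, ← map_mul, ← map_mul]
    rfl
  have hpres : ∀ u ∈ ds P (d - 2), ∀ hu : u ∈ stab hC l,
      act hC l ⟨u, hu⟩ * b = b * act hC l ⟨u, hu⟩ := by
    intro u hu hust
    set ub := act hC l ⟨u, hust⟩
    have hmem : ∀ v ∈ inverted b, ub v ∈ inverted b := by
      intro v hv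
      have hperp : ∀ a, b a = a → S0.β (ub v) a = 1 := fun a ha => by
        nth_rewrite 1 [← hfix u hu hust a ha]
        rw [act_iso hC l ⟨u, hust⟩ v a, S0.skew, S0.orth htop.iso ha hv, inv_one]
      obtain ⟨a, i, ha, hi, hai⟩ := S0.exists_decomp htop.sq (ub v)
      have ha1 : a = 1 := by
        refine S0.nondeg a fun w => ?_
        obtain ⟨a', i', ha', hi', rfl⟩ := S0.exists_decomp htop.sq w
        have h1 := hperp a' ha'
        rw [hai, map_mul, MonoidHom.mul_apply, S0.skew i a', S0.orth htop.iso ha' hi, inv_one,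
          mul_one] at h1
        rw [map_mul, S0.orth htop.iso ha hi', h1, one_mul]
      rw [hai, ha1, one_mul]; exact hi
    refine MulEquiv.ext fun v => ?_
    obtain ⟨a, i, ha, hi, rfl⟩ := S0.exists_decomp htop.sq v
    rw [MulAut.mul_apply, MulAut.mul_apply, map_mul, map_mul, map_mul, map_mul, ha,
      hfix u hu hust a ha, ha, hi, map_inv, mem_inverted.mp (hmem i hi)]
  have hcb : cb * b = b * cb := hpres c hc hcst
  have hrb_comm : b * rb = rb * b := (hpres r hr hrst).symm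
  -- a sign of `r` on the plane gives a contradiction
  have habs : ∀ e : MulAut (Quot hC l), e ∈ A → e * e = 1 → e * b = b * e →
      (∀ v ∈ inverted b, e v = rb⁻¹ v ∨ e v = rb v) → False := by
    intro e he he2 heb hev
    have hsign := htop.sign S0 (hconf.iso e he) heb.symm
      fun v _ => by rw [← MulAut.mul_apply, he2, MulAut.one_apply]
    have hrbinv : ∀ v ∈ inverted b, (rb v = e v) := by
      intro v hv
      rcases hev v hv with h | h
      swap
      · exact h.symm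
      rcases hsign with hs | hs
      · rw [hs v hv] at h ⊢
        nth_rewrite 1 [h]
        exact MulAut.apply_inv_self _ rb v
      · rw [hs v hv] at h ⊢
        have h2 := congrArg rb h
        rw [map_inv, MulAut.apply_inv_self] at h2
        exact inv_eq_iff_eq_inv.mp h2
    have hcpres : ∀ v ∈ inverted b, cb⁻¹ v ∈ inverted b := by
      intro v hv
      have h : b (cb (cb⁻¹ v)) = cb (b (cb⁻¹ v)) := by
        rw [← MulAut.mul_apply, ← hcb, MulAut.mul_apply]
      rw [MulAut.apply_inv_self, mem_inverted.mp hv] at h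
      rw [mem_inverted]
      apply cb.injective
      rw [← h, map_inv, MulAut.apply_inv_self]
    obtain ⟨v, hv, hv1⟩ := htop.exists_ne S0
    refine hv1 (S0.inv_eq_self ((mem_inverted.mp hv).symm.trans ?_))
    show b v = v
    rw [hbcr]
    simp only [MulAut.mul_apply]
    rcases hsign with hs | hs
    · have h1 : ∀ u ∈ inverted b, rb u = u := fun u hu => (hrbinv u hu).trans (hs u hu)
      have h2 : rb⁻¹ v = v := by nth_rewrite 1 [← h1 v hv]; exact MulAut.inv_apply_self _ rb v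
      rw [h2, h1 _ (hcpres v hv), MulAut.apply_inv_self]
    · have h1 : ∀ u ∈ inverted b, rb u = u⁻¹ := fun u hu => (hrbinv u hu).trans (hs u hu)
      have h2 : rb⁻¹ v = v⁻¹ := by
        nth_rewrite 1 [show v = rb v⁻¹ by rw [map_inv, h1 v hv, inv_inv]]
        exact MulAut.inv_apply_self _ rb _
      rw [h2, map_inv, map_inv, h1 _ (hcpres v hv), inv_inv, MulAut.apply_inv_self]
  refine ⟨fun t ht => ?_, fun hr0 => (habs rb hrA' ?_ ?_ fun v _ => Or.inr rfl).elim⟩
  rotate_left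
  · rw [← map_mul, ← map_one (act hC l)]
    exact congrArg _ (Subtype.ext hr0.2.2)
  · obtain ⟨⟨a, ha'⟩, ha, hab⟩ := hbA
    rw [← hab, ← map_mul, ← map_mul]
    exact congrArg _ (Subtype.ext (hr0.2.1 a ha))
  by_contra hnc
  set tb := act hC l t
  have htne : tb ≠ 1 := fun h => hnc (by rw [h, one_mul, mul_one])
  have htT : tb ∈ {t | t ≠ 1 ∧ ∃ y : stab hC l, (y : H) ∈ tops N R d ∧ act hC l y = t} :=
    ⟨htne, t, ht, rfl⟩
  have hbT : b ∈ {t | t ≠ 1 ∧ ∃ y : stab hC l, (y : H) ∈ tops N R d ∧ act hC l y = t} :=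
    ⟨hb1, ⟨_, hD⟩, ⟨P, hP, hPN, hRP, hDB⟩, rfl⟩
  have htA := hconf.mem htT
  have htt : tb * tb = 1 := (hconf.top tb htT).sq
  set b' := tb * b * tb⁻¹ with hb'
  have hb'top : S0.Top b' := htop.conj S0 (hconf.iso _ htA)
  have hb'ne : b' ≠ b := fun h => hnc (mul_inv_eq_iff_eq_mul.mp h)
  -- `r` fixes the plane of the conjugate
  have hrfix : ∀ v ∈ inverted b, rb (tb v) = tb v := fun v hv =>
    hfix r hr hrst _ (hb'top.fix_of_commute S0 htop (hconf.commute_conj hbT htA).symm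
      (Ne.symm hb'ne) (mem_inverted_conj.mpr hv))
  set e := tb * rb * tb⁻¹ * rb⁻¹ with he
  refine habs e (A.mul_mem (A.mul_mem (A.mul_mem htA hrA') (A.inv_mem htA)) (A.inv_mem hrA'))
    (hconf.commutator_sq hrA' htA) (hconf.commutator_central hrA' htA hbA) fun v hv => Or.inl ?_
  rw [he, inv_eq_of_mul_eq_one_right htt]
  simp only [MulAut.mul_apply]
  have hrb : rb⁻¹ v ∈ inverted b := by
    have hcomm : b * rb = rb * b := hrb_comm
    have h : b (rb (rb⁻¹ v)) = rb (b (rb⁻¹ v)) := by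
      rw [← MulAut.mul_apply, hcomm, MulAut.mul_apply]
    rw [MulAut.apply_inv_self, mem_inverted.mp hv] at h
    rw [mem_inverted]
    apply rb.injective
    rw [← h, map_inv, MulAut.apply_inv_self]
  rw [hrfix _ hrb, ← MulAut.mul_apply, htt, MulAut.one_apply]

end component

/-- Lemma D. -/
theorem Level.commutator_mem (hL : Level φ d N R) {P : Subgroup H} (hP : IsPGroup 2 P)
    (hPN : P ≤ N) (hRP : R ≤ P) {c r : H} (hc : c ∈ ds P (d - 2)) (hr : r ∈ ds P (d - 2))
    (hrA : r ∈ topGroup N R d) :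
    ⁅c, r⁆ ∈ centralInv (topGroup N R d) ∧
      (r ∈ centralInv (topGroup N R d) → ⁅c, r⁆ = 1) := by
  obtain ⟨k, ρ, hρ, hops⟩ := hL.setting.exists_rep
  have hd : 1 ≤ d := by have := hL.setting.two_le; omega
  have hDB : ⁅c, r⁆ ∈ ds P (d - 1) := by
    rw [show d - 1 = d - 2 + 1 by have := hL.setting.two_le; omega, ds_succ]
    exact Subgroup.commutator_mem_commutator hc hr
  have hDt : ⁅c, r⁆ ∈ tops N R d := ⟨P, hP, hPN, hRP, hDB⟩
  have hDA : ⁅c, r⁆ ∈ topGroup N R d := Subgroup.subset_closure hDt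
  have hAp : IsPGroup 2 (topGroup N R d) := hL.isP.to_le hL.topGroup_le
  have hAZ : ∀ (q : ℕ) (C : Subgroup H), ClassTwo q C → topGroup N R d ≤
      Subgroup.centralizer ((C ⊓ Subgroup.centralizer (C : Set H) : Subgroup H) : Set H) :=
    fun q C hC => hL.topGroup_centralizes ρ hρ hops hC
  refine ⟨⟨hDA, fun a ha => ?_, ?_⟩, fun hr0 => hL.setting.eq_one ρ hρ hAp hAZ hDA
    fun q C hC l hl hgs => (hL.local_commutator ρ hC l hρ hops hl hP hPN hRP hc hr hrA hgs).2 hr0⟩
  · have hle : topGroup N R d ≤ Subgroup.centralizer {⁅c, r⁆} := by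
      refine (Subgroup.closure_le _).mpr fun t ht => ?_
      rw [SetLike.mem_coe, Subgroup.mem_centralizer_singleton_iff]
      refine commutatorElement_eq_one_iff_mul_comm.mp ?_
      have htA : t ∈ topGroup N R d := Subgroup.subset_closure ht
      have hcA : ⁅t, ⁅c, r⁆⁆ ∈ topGroup N R d := by
        rw [commutatorElement_def]
        exact mul_mem (mul_mem (mul_mem htA hDA) (inv_mem htA)) (inv_mem hDA)
      refine hL.setting.eq_one ρ hρ hAp hAZ hcA fun q C hC l hl hgs => ?_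
      have htst : t ∈ stab hC l := mem_stab_of_centralizer hC l (hAZ q C hC htA)
      have hDst : ⁅c, r⁆ ∈ stab hC l := mem_stab_of_centralizer hC l (hAZ q C hC hDA)
      rw [show (⟨⁅t, ⁅c, r⁆⁆, hgs⟩ : stab hC l) = ⁅(⟨t, htst⟩ : stab hC l), ⟨⁅c, r⁆, hDst⟩⁆
        from rfl, map_commutatorElement, commutatorElement_eq_one_iff_mul_comm]
      exact (hL.local_commutator ρ hC l hρ hops hl hP hPN hRP hc hr hrA hDst).1 ⟨t, htst⟩ ht
    exact (Subgroup.mem_centralizer_singleton_iff.mp (hle ha)).symm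
  · refine hL.setting.eq_one ρ hρ hAp hAZ (mul_mem hDA hDA) fun q C hC l hl hgs => ?_
    have hDst : ⁅c, r⁆ ∈ stab hC l := mem_stab_of_centralizer hC l (hAZ q C hC hDA)
    rw [show (⟨⁅c, r⁆ * ⁅c, r⁆, hgs⟩ : stab hC l) = ⟨⁅c, r⁆, hDst⟩ * ⟨⁅c, r⁆, hDst⟩ from rfl,
      map_mul]
    by_cases h : act hC l ⟨⁅c, r⁆, hDst⟩ = 1
    · rw [h, one_mul]
    · exact (local_top hC l ρ hP hd (hL.setting.series P hP) (hops P hP) hρ (exists_eig ρ hl) hDB
        hDst h).2.1.sq

end Cfsg.Agent.TwoLengthDerived
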