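import Mathlib
import Cfsg.Prelude
import Cfsg.Agent.Lib.TwoPlanesTops
import Cfsg.Agent.Lib.GrossTwoLength
import Cfsg.Agent.S0205

/-!
# The 2-length is at most the exponent

For `H` solvable with `O_2(H) = 1` acting faithfully with vanishing norms of length `2 ^ n`, the
group `U = H ⧸ O_{2',2}(H)` again acts faithfully with vanishing norms of length `2 ^ (n - 1)`,
on the sum of three sections of the Frattini quotient of `O_{2',2}(H) ⧸ O_{2'}(H)`: modulo the
group `A` of the top powers, `A` modulo its central involutions, and these involutions.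
-/

set_option autoImplicit false

namespace Cfsg.Agent.TwoLengthExponent

open Cfsg.Agent.HallCore Cfsg.Agent.HallSolvable Cfsg.Agent.HallPLength
open Cfsg.Agent.TwoPlanesTops
open Cfsg.Agent.GrossTwoLength (lift_two_element)

universe u

/-! ### Actions on the factors of a filtration -/

section factors

variable {U V : Type u} [Group U] [CommGroup V]

/-- A module with vanishing norms, covering the invariant subgroup `S` up to 2-powers. -/
def Good (φ : U →* MulAut V) (m : ℕ) (S : Subgroup V) : Prop :=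
  ∃ (V' : Type u) (_ : CommGroup V') (_ : Finite V') (φ' : U →* MulAut V'),
    (∀ v : V', v ^ 2 = 1) ∧
    (∀ (g : U) (k : ℕ), g ^ 2 ^ k = 1 → ∀ v : V',
      ∏ i ∈ Finset.range m, φ' (g ^ i) v = 1) ∧
    ∀ g : U, φ' g = 1 → ∃ j : ℕ, ∀ v ∈ S, φ (g ^ 2 ^ j) v = v

theorem good_bot [Finite V] (φ : U →* MulAut V) (m : ℕ) : Good φ m (⊥ : Subgroup V) :=
  ⟨PUnit.{u+1}, inferInstance, inferInstance, 1, fun _ => rfl, fun _ _ _ _ => rfl,
    fun g _ => ⟨0, fun v hv => by rw [Subgroup.mem_bot.mp hv, map_one]⟩⟩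

theorem mul_self_eq_one_of_sq {v : V} (h : v ^ 2 = 1) : v * v = 1 := by rwa [sq] at h

/-- One more factor. -/
theorem good_step [Finite V] (φ : U →* MulAut V) (hV : ∀ v : V, v ^ 2 = 1) (m : ℕ)
    {S S' : Subgroup V} (hle : S ≤ S') (hS : ∀ g, ∀ v ∈ S, φ g v ∈ S)
    (hS' : ∀ g, ∀ v ∈ S', φ g v ∈ S')
    (hnorm : ∀ (g : U) (k : ℕ), g ^ 2 ^ k = 1 → ∀ v ∈ S',
      ∏ i ∈ Finset.range m, φ (g ^ i) v ∈ S)
    (hgood : Good φ m S) : Good φ m S' := by
  obtain ⟨V1, hc1, hf1, φ1, hV1, hN1, hk1⟩ := hgood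
  -- the action on `S' ⧸ S`
  let r : U → MulAut S' := fun g =>
    { toFun := fun v => ⟨φ g v, hS' g v v.2⟩
      invFun := fun v => ⟨φ g⁻¹ v, hS' g⁻¹ v v.2⟩
      left_inv := fun v => Subtype.ext (by
        show φ g⁻¹ (φ g v) = v
        rw [← MulAut.mul_apply, ← map_mul, inv_mul_cancel, map_one]; rfl)
      right_inv := fun v => Subtype.ext (by
        show φ g (φ g⁻¹ v) = v
        rw [← MulAut.mul_apply, ← map_mul, mul_inv_cancel, map_one]; rfl)
      map_mul' := fun v w => Subtype.ext (map_mul (φ g) (v : V) (w : V)) }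
  set T : Subgroup S' := S.subgroupOf S'
  have hmap : ∀ g, T.map (r g).toMonoidHom = T := fun g => by
    refine le_antisymm ?_ fun v hv => ⟨r g⁻¹ v, hS g⁻¹ v hv, Subtype.ext ?_⟩
    · rintro _ ⟨v, hv, rfl⟩
      exact hS g v hv
    · show φ g (φ g⁻¹ v) = v
      rw [← MulAut.mul_apply, ← map_mul, mul_inv_cancel, map_one]; rfl
  let φ0 : U →* MulAut (S' ⧸ T) :=
    { toFun := fun g => QuotientGroup.congr T T (r g) (hmap g)
      map_one' := MulEquiv.ext fun a => by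
        obtain ⟨a, rfl⟩ := QuotientGroup.mk_surjective a
        show ((r 1 a : S') : S' ⧸ T) = _
        rw [show r 1 a = a from Subtype.ext (by show φ 1 (a : V) = a; rw [map_one]; rfl)]
        rfl
      map_mul' := fun g h => MulEquiv.ext fun a => by
        obtain ⟨a, rfl⟩ := QuotientGroup.mk_surjective a
        show ((r (g * h) a : S') : S' ⧸ T) = ((r g (r h a) : S') : S' ⧸ T)
        rw [show r (g * h) a = r g (r h a) from
          Subtype.ext (by show φ (g * h) (a : V) = φ g (φ h a); rw [map_mul]; rfl)] }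
  let φ2 : U →* MulAut ((S' ⧸ T) × V1) :=
    { toFun := fun g => MulEquiv.prodCongr (φ0 g) (φ1 g)
      map_one' := MulEquiv.ext fun v => by
        show ((φ0 1) v.1, (φ1 1) v.2) = v
        rw [map_one, map_one]; rfl
      map_mul' := fun g h => MulEquiv.ext fun v => by
        show ((φ0 (g * h)) v.1, (φ1 (g * h)) v.2) = ((φ0 g) (φ0 h v.1), (φ1 g) (φ1 h v.2))
        rw [map_mul, map_mul]; rfl }
  refine ⟨(S' ⧸ T) × V1, inferInstance, inferInstance, φ2, ?_, ?_, ?_⟩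
  · rintro ⟨a, b⟩
    obtain ⟨a, rfl⟩ := QuotientGroup.mk_surjective a
    refine Prod.ext ?_ (hV1 b)
    show (a : S' ⧸ T) ^ 2 = 1
    rw [← QuotientGroup.mk_pow, show a ^ 2 = 1 from Subtype.ext (hV a)]
    rfl
  · rintro g k hg ⟨a, b⟩
    obtain ⟨a, rfl⟩ := QuotientGroup.mk_surjective a
    refine Prod.ext ?_ ?_
    · rw [Prod.fst_prod]
      show ∏ i ∈ Finset.range m, QuotientGroup.mk' T (r (g ^ i) a) = 1
      rw [← map_prod]
      refine (QuotientGroup.eq_one_iff _).mpr ?_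
      show ((∏ i ∈ Finset.range m, r (g ^ i) a : S') : V) ∈ S
      rw [SubmonoidClass.coe_finsetProd]
      exact hnorm g k hg a a.2
    · rw [Prod.snd_prod]
      exact hN1 g k hg b
  · intro g hg
    have hg0 : ∀ a, φ0 g a = a := fun a => congrArg Prod.fst (DFunLike.congr_fun hg (a, 1))
    have hg1 : φ1 g = 1 := MulEquiv.ext fun b => congrArg Prod.snd (DFunLike.congr_fun hg (1, b))
    obtain ⟨j, hj⟩ := hk1 g hg1
    refine ⟨j + 1, fun v hv => ?_⟩
    have hd : φ (g ^ 2 ^ j) v * v⁻¹ ∈ S := by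
      have h0 : φ0 (g ^ 2 ^ j) (⟨v, hv⟩ : S') = ((⟨v, hv⟩ : S') : S' ⧸ T) := by
        have hp : ∀ i : ℕ, φ0 (g ^ i) (⟨v, hv⟩ : S') = ((⟨v, hv⟩ : S') : S' ⧸ T) := by
          intro i
          induction i with
          | zero => rw [pow_zero, map_one]; rfl
          | succ i ih => rw [pow_succ', map_mul, MulAut.mul_apply, ih, hg0]
        exact hp _
      have h1 : ((r (g ^ 2 ^ j) ⟨v, hv⟩ : S') : S' ⧸ T) = ((⟨v, hv⟩ : S') : S' ⧸ T) := h0
      rw [← div_eq_one, ← QuotientGroup.mk_div, QuotientGroup.eq_one_iff] at h1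
      have h2 : φ (g ^ 2 ^ j) v / v ∈ S := h1
      rwa [div_eq_mul_inv] at h2
    set s := φ (g ^ 2 ^ j) v * v⁻¹ with hs
    have hv' : φ (g ^ 2 ^ j) v = s * v := by rw [hs, inv_mul_cancel_right]
    rw [pow_succ, mul_two, pow_add, map_mul, MulAut.mul_apply, hv', map_mul, hj s hd, hv',
      ← mul_assoc, mul_self_eq_one_of_sq (hV s), one_mul]

end factors

/-! ### The induction -/

section step

variable {H : Type u} [Group H] [Finite H] {V : Type u} [CommGroup V] [Finite V]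

/-- The quotient by `O_{2',2}` inherits the hypotheses one step below. -/
theorem exists_next (hsol : Group.IsSolvable H) (hO : Cfsg.pCore 2 H = ⊥)
    (hV : ∀ v : V, v ^ 2 = 1) (φ : H →* MulAut V) (hφ : Function.Injective φ) (n : ℕ) (hn : 2 ≤ n)
    (hexp : ∀ (g : H) (k : ℕ), g ^ 2 ^ k = 1 → g ^ 2 ^ n = 1)
    (hnorm : ∀ (g : H) (k : ℕ), g ^ 2 ^ k = 1 → ∀ v : V,
      ∏ j ∈ Finset.range (2 ^ n), φ (g ^ j) v = 1) :
    ∃ (U : Type u) (_ : Group U) (_ : Finite U) (g0 : U →* H ⧸ term 2 H 2)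
      (M : Type u) (_ : CommGroup M) (_ : Finite M) (φ' : U →* MulAut M),
      Function.Surjective g0 ∧ Group.IsSolvable U ∧ Cfsg.pCore 2 U = ⊥ ∧ (∀ v : M, v ^ 2 = 1) ∧
      Function.Injective φ' ∧ (∀ (g : U) (k : ℕ), g ^ 2 ^ k = 1 → g ^ 2 ^ (n - 1) = 1) ∧
      (∀ (g : U) (k : ℕ), g ^ 2 ^ k = 1 → ∀ v : M,
        ∏ j ∈ Finset.range (2 ^ (n - 1)), φ' (g ^ j) v = 1) := by
  classical
  have : Fact (Nat.Prime 2) := ⟨Nat.prime_two⟩
  have hp : Cfsg.IsPSolvable 2 H := isPSolvable_of_solvable 2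
  have hT1n : (term 2 H (2 * 0 + 1)).Normal := term_two_normal _ _ _
  set T1 := term 2 H (2 * 0 + 1)
  have hT2n : (term 2 H 2).Normal := term_two_normal _ _ _
  set T := term 2 H 2
  set O := Cfsg.pCore 2 (H ⧸ T1)
  have hT : T = O.comap (QuotientGroup.mk' T1) := Cfsg.Agent.HallConstrained.upperPSeries_even 0
  have hOp : IsPGroup 2 O := isPGroup_pCore 2 _
  let _ : CommGroup (↥O ⧸ frattini ↥O) :=
    { (inferInstance : Group (↥O ⧸ frattini ↥O)) with
      mul_comm := Cfsg.Agent.HallHigman.frattini_quotient_comm O hOp }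
  obtain ⟨ψ, hψ, hψc⟩ := Cfsg.Agent.HallHigman.exists_frattini_action
    (isPSolvable_quotient hp T1) (Cfsg.Agent.HallConstrained.pPrimeCore_quotient_upperPSeries 0)
  have hVR : ∀ v : ↥O ⧸ frattini ↥O, v ^ 2 = 1 :=
    (Cfsg.Agent.PGroupsBasic.quotient_frattini_elementary hOp).2
  let f : H →* (H ⧸ T1) ⧸ O := (QuotientGroup.mk' O).comp (QuotientGroup.mk' T1)
  have hf : Function.Surjective f :=
    (QuotientGroup.mk'_surjective _).comp (QuotientGroup.mk'_surjective _)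
  have hker : ∀ g, g ∈ T ↔ f g = 1 := fun g => by
    rw [hT, Subgroup.mem_comap]
    exact (QuotientGroup.eq_one_iff (N := O) _).symm
  -- a Sylow 2-subgroup of `T` and its normalizer
  let P0 : Sylow 2 T := default
  set R : Subgroup H := (P0 : Subgroup T).map T.subtype with hR
  have hRT : R ≤ T := Subgroup.map_subtype_le _
  have hRp : IsPGroup 2 R := P0.isPGroup'.map _
  set N := Subgroup.normalizer (R : Set H)
  have hfrat : N ⊔ T = ⊤ := Sylow.normalizer_sup_eq_top P0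
  have htop_mem : ∀ x ∈ N, (∃ k : ℕ, x ^ 2 ^ k = 1) → x ^ 2 ^ (n - 1) ∈ R := by
    rintro x hx ⟨k, hk⟩
    set y := x ^ 2 ^ (n - 1) with hy
    have hyT : y ∈ T := Cfsg.Agent.GrossTopPower.top_power_mem hsol hO hV φ hφ hn hexp hnorm hk
    have hyp : IsPGroup 2 (Subgroup.zpowers y) := by
      obtain ⟨j, -, hj⟩ := (Nat.dvd_prime_pow Nat.prime_two).mp
        (orderOf_dvd_of_pow_eq_one (show y ^ 2 ^ k = 1 by
          rw [hy, ← pow_mul, mul_comm, pow_mul, hk, one_pow]))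
      exact IsPGroup.of_card (n := j) (by rw [Nat.card_zpowers, hj])
    have hsup : IsPGroup 2 (Subgroup.zpowers y ⊔ R : Subgroup H) :=
      IsPGroup.to_sup_of_normal_right' hyp hRp (Subgroup.zpowers_le.mpr (N.pow_mem hx _))
    have hle : (P0 : Subgroup T) ≤ (Subgroup.zpowers y ⊔ R).subgroupOf T := fun t ht =>
      Subgroup.mem_sup_right ⟨t, ht, rfl⟩
    have heq := P0.is_maximal' hsup.comap_subtype hle
    exact ⟨⟨y, hyT⟩, heq ▸ (Subgroup.mem_sup_left (Subgroup.mem_zpowers y)), rfl⟩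
  have hS : Setting φ n N R := ⟨hsol, hO, hV, hφ, hn, hexp, hnorm, hRp,
    Subgroup.le_normalizer, le_rfl, htop_mem⟩
  -- `R` maps onto `O`
  let fR : R →* O := ((QuotientGroup.mk' T1).comp R.subtype).codRestrict O fun t =>
    show (t : H) ∈ O.comap (QuotientGroup.mk' T1) from hT ▸ hRT t.2
  have hfR : Function.Surjective fR := by
    let fT : T →* O := ((QuotientGroup.mk' T1).comp T.subtype).codRestrict O fun t =>
      show (t : H) ∈ O.comap (QuotientGroup.mk' T1) from hT ▸ t.2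
    have hfT : Function.Surjective fT := by
      rintro ⟨b, hb⟩
      obtain ⟨c, rfl⟩ := QuotientGroup.mk'_surjective T1 b
      exact ⟨⟨c, hT ▸ hb⟩, rfl⟩
    have htop : (P0.mapSurjective hfT : Subgroup O) = ⊤ :=
      ((P0.mapSurjective hfT).is_maximal' ((isPGroup_pCore 2 (H ⧸ T1)).to_subgroup ⊤ |>.of_equiv
        (MulEquiv.refl _)) le_top).symm
    intro b
    obtain ⟨c, hc, hcb⟩ : b ∈ (P0 : Subgroup T).map fT := by
      rw [← Sylow.coe_mapSurjective hfT P0, htop]; exact Subgroup.mem_top b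
    exact ⟨⟨c, c, hc, rfl⟩, (Subtype.ext (congrArg Subtype.val hcb :) : _ = b)⟩
  let cls : R →* ↥O ⧸ frattini ↥O := (QuotientGroup.mk' _).comp fR
  have hcls : Function.Surjective cls := (QuotientGroup.mk'_surjective _).comp hfR
  let fN : N →* (H ⧸ T1) ⧸ O := f.comp N.subtype
  have hfN : Function.Surjective fN := by
    intro b
    obtain ⟨h, rfl⟩ := hf b
    obtain ⟨g, hg, t, ht, rfl⟩ : ∃ g ∈ N, ∃ t ∈ T, g * t = h :=
      Subgroup.mem_sup_of_normal_right.mp (hfrat ▸ Subgroup.mem_top h)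
    exact ⟨⟨g, hg⟩, by show f g = _; rw [map_mul, (hker t).mp ht, mul_one]⟩
  have hconjR : ∀ g ∈ N, ∀ r ∈ R, g * r * g⁻¹ ∈ R := fun g hg r hr =>
    (Subgroup.mem_normalizer_iff.mp hg r).mp hr
  have hact : ∀ (g : N) (r : R), ψ (fN g) (cls r) =
      cls ⟨(g : H) * r * (g : H)⁻¹, hconjR g g.2 r r.2⟩ := by
    intro g r
    refine (hψc (QuotientGroup.mk' T1 (g : H)) (fR r)).trans ?_
    refine congrArg _ (Subtype.ext ?_)
    show QuotientGroup.mk' T1 (g : H) * QuotientGroup.mk' T1 (r : H) *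
      (QuotientGroup.mk' T1 (g : H))⁻¹ = QuotientGroup.mk' T1 ((g : H) * r * (g : H)⁻¹)
    rw [map_mul, map_mul, map_inv]
  set A := topGroup N n
  set Z0 := centralInv A
  have hAR : A ≤ R := hS.topGroup_le
  have hZR : Z0 ≤ R := fun z hz => hAR hz.1
  let lev : Subgroup H → Subgroup (↥O ⧸ frattini ↥O) := fun X => (X.subgroupOf R).map cls
  have hlev : ∀ X : Subgroup H, (∀ g ∈ N, ∀ a ∈ X, g * a * g⁻¹ ∈ X) →
      ∀ b : (H ⧸ T1) ⧸ O, ∀ v ∈ lev X, ψ b v ∈ lev X := by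
    rintro X hX b _ ⟨r, hr, rfl⟩
    obtain ⟨g, rfl⟩ := hfN b
    exact ⟨_, hX g g.2 r hr, (hact g r).symm⟩
  -- the norm is the difference of two top powers
  have hnormcls : ∀ (b : (H ⧸ T1) ⧸ O) (k : ℕ), b ^ 2 ^ k = 1 →
      ∃ x : H, x ∈ N ∧ (∃ k : ℕ, x ^ 2 ^ k = 1) ∧ f x = b ∧ ∀ (r : R),
        ∃ hD : ((r : H) * x) ^ 2 ^ (n - 1) * (x ^ 2 ^ (n - 1))⁻¹ ∈ R,
          ∏ i ∈ Finset.range (2 ^ (n - 1)), ψ (b ^ i) (cls r) = cls ⟨_, hD⟩ := by
    intro b k hb
    obtain ⟨P, x, hxP, rfl⟩ := lift_two_element hfN hb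
    obtain ⟨i, hi⟩ := P.isPGroup' ⟨x, hxP⟩
    have hxk : ∃ k : ℕ, (x : H) ^ 2 ^ k = 1 :=
      ⟨i, congrArg (fun z : (P : Subgroup N) => ((z : N) : H)) hi⟩
    refine ⟨x, x.2, hxk, rfl, fun r => ?_⟩
    have hrxk : ∃ k : ℕ, ((r : H) * x) ^ 2 ^ k = 1 := by
      obtain ⟨k, hk⟩ := hS.isP_sup x.2 hxk ⟨(r : H) * x,
        mul_mem (Subgroup.mem_sup_left r.2) (Subgroup.mem_sup_right (Subgroup.mem_zpowers _))⟩
      exact ⟨k, congrArg Subtype.val hk⟩
    have hD : ((r : H) * x) ^ 2 ^ (n - 1) * ((x : H) ^ 2 ^ (n - 1))⁻¹ ∈ R :=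
      R.mul_mem (htop_mem _ (N.mul_mem (Subgroup.le_normalizer r.2) x.2) hrxk)
        (R.inv_mem (htop_mem _ x.2 hxk))
    refine ⟨hD, ?_⟩
    obtain ⟨om, h1, h2⟩ := Cfsg.Agent.HallHigman.exists_coe_mul_pow (V := ↥O ⧸ frattini ↥O) O
      (QuotientGroup.mk' (frattini ↥O)) (QuotientGroup.mk' O) ψ hψc
      (QuotientGroup.mk' T1 (x : H)) (fR r) (2 ^ (n - 1))
    have hom : om = fR ⟨_, hD⟩ := by
      refine Subtype.ext ?_
      show (om : H ⧸ T1) = QuotientGroup.mk' T1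
        (((r : H) * x) ^ 2 ^ (n - 1) * ((x : H) ^ 2 ^ (n - 1))⁻¹)
      rw [map_mul, map_inv, map_pow, map_pow, map_mul]
      exact eq_mul_inv_of_mul_eq h1.symm
    show _ = QuotientGroup.mk' (frattini ↥O) (fR ⟨_, hD⟩)
    rw [← hom, h2]
    refine Finset.prod_congr rfl fun i _ => ?_
    rfl
  -- the three levels
  have hgood : Good ψ (2 ^ (n - 1)) (lev R) := by
    refine good_step ψ hVR _ (Subgroup.map_mono fun r hr => hAR hr)
      (hlev A fun g hg a ha => conj_mem_topGroup hg ha)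
      (hlev R hconjR) ?_ (good_step ψ hVR _
      (Subgroup.map_mono fun r hr => (hr : (r : H) ∈ Z0).1)
      (hlev Z0 fun g hg a ha => conj_mem_centralInv hg ha)
      (hlev A fun g hg a ha => conj_mem_topGroup hg ha) ?_ (good_step ψ hVR _ bot_le
      (fun g v hv => by rw [Subgroup.mem_bot] at hv ⊢; rw [hv, map_one])
      (hlev Z0 fun g hg a ha => conj_mem_centralInv hg ha) ?_ (good_bot ψ _)))
    · rintro b k hb _ ⟨r, -, rfl⟩
      obtain ⟨x, hxN, hxk, -, hx⟩ := hnormcls b k hb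
      obtain ⟨hD, he⟩ := hx r
      rw [he]
      refine ⟨⟨_, hD⟩, ?_, rfl⟩
      show ((r : H) * x) ^ 2 ^ (n - 1) * (x ^ 2 ^ (n - 1))⁻¹ ∈ topGroup N n
      obtain ⟨j, hj⟩ := hS.isP_sup hxN hxk ⟨(r : H) * x,
        mul_mem (Subgroup.mem_sup_left r.2) (Subgroup.mem_sup_right (Subgroup.mem_zpowers _))⟩
      exact mul_mem (Subgroup.subset_closure ⟨_, N.mul_mem (Subgroup.le_normalizer r.2) hxN,
        ⟨j, congrArg Subtype.val hj⟩, rfl⟩)
        (inv_mem (Subgroup.subset_closure ⟨x, hxN, hxk, rfl⟩))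
    · rintro b k hb _ ⟨r, hr, rfl⟩
      obtain ⟨x, hxN, hxk, -, hx⟩ := hnormcls b k hb
      obtain ⟨hD, he⟩ := hx r
      rw [he]
      exact ⟨⟨_, hD⟩, (hS.compare hxN hxk hr).1, rfl⟩
    · rintro b k hb _ ⟨r, hr, rfl⟩
      obtain ⟨x, hxN, hxk, -, hx⟩ := hnormcls b k hb
      obtain ⟨hD, he⟩ := hx r
      rw [he, Subgroup.mem_bot, show (⟨_, hD⟩ : R) = 1 from
        Subtype.ext ((hS.compare hxN hxk (hr : (r : H) ∈ Z0).1).2 hr), map_one]
  obtain ⟨M, hMc, hMf, φ', hM, hMN, hMk⟩ := hgood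
  have hOU : Cfsg.pCore 2 ((H ⧸ T1) ⧸ O) = ⊥ := pCore_quotient_self 2 _
  let g0 : (H ⧸ T1) ⧸ O →* H ⧸ T := QuotientGroup.lift O
    (QuotientGroup.lift T1 (QuotientGroup.mk' T) fun a ha => by
      rw [QuotientGroup.ker_mk']
      exact Cfsg.Agent.HallConstrained.upperPSeries_le_succ (2 * 0 + 1) ha)
    (fun b hb => by
      obtain ⟨a, rfl⟩ := QuotientGroup.mk'_surjective T1 b
      exact (QuotientGroup.eq_one_iff a).mpr (by rw [hT]; exact hb))
  refine ⟨(H ⧸ T1) ⧸ O, inferInstance, inferInstance, g0, M, hMc, hMf, φ', fun b => ?_,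
    Group.isSolvable_of_surjective hf, hOU, hM, ?_, fun b k hb => ?_, hMN⟩
  · obtain ⟨a, rfl⟩ := QuotientGroup.mk'_surjective T b
    exact ⟨f a, rfl⟩
  · rw [← MonoidHom.ker_eq_bot_iff]
    refine le_bot_iff.mp ?_
    rw [← hOU]
    refine le_pCore fun g => ?_
    obtain ⟨j, hj⟩ := hMk (g : (H ⧸ T1) ⧸ O) g.2
    refine ⟨j, Subtype.ext (hψ ?_)⟩
    show ψ ((g : (H ⧸ T1) ⧸ O) ^ 2 ^ j) = ψ 1
    rw [map_one]
    refine MulEquiv.ext fun v => ?_
    obtain ⟨r, rfl⟩ := hcls v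
    exact hj _ ⟨r, r.2, rfl⟩
  · obtain ⟨x, hxN, hxk, hxb, -⟩ := hnormcls b k hb
    rw [← hxb, ← map_pow]
    exact (hker _).mp (hRT (htop_mem x hxN hxk))

end step

/-- The linear form. -/
theorem pLengthLE_linear : ∀ (n : ℕ) (H : Type u) [Group H] [Finite H] (V : Type u) [CommGroup V]
    [Finite V], Group.IsSolvable H → Cfsg.pCore 2 H = ⊥ → (∀ v : V, v ^ 2 = 1) →
    ∀ φ : H →* MulAut V, Function.Injective φ →
    (∀ (g : H) (k : ℕ), g ^ 2 ^ k = 1 → g ^ 2 ^ (n + 1) = 1) →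
    (∀ (g : H) (k : ℕ), g ^ 2 ^ k = 1 → ∀ v : V,
      ∏ j ∈ Finset.range (2 ^ (n + 1)), φ (g ^ j) v = 1) →
    Cfsg.PLengthLE 2 n H := by
  have : Fact (Nat.Prime 2) := ⟨Nat.prime_two⟩
  intro n
  induction n with
  | zero =>
    intro H _ _ V _ _ hsol hO hV φ hφ hexp hnorm
    rw [pLengthLE_zero_iff]
    refine ((Nat.Prime.coprime_iff_not_dvd Nat.prime_two).mpr fun hd => ?_).symm
    obtain ⟨g, hg⟩ := exists_prime_orderOf_dvd_card' 2 hd
    have hg2 : g ^ 2 ^ 1 = 1 := by rw [pow_one, ← hg, pow_orderOf_eq_one]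
    have h1 : φ g = 1 := MulEquiv.ext fun v => by
      have h := hnorm g 1 hg2 v
      rw [show (2 : ℕ) ^ (0 + 1) = 2 from rfl, Finset.prod_range_succ, Finset.prod_range_one,
        pow_zero, pow_one, map_one, MulAut.one_apply, mul_eq_one_iff_inv_eq] at h
      rw [← h, MulAut.one_apply]
      exact inv_eq_of_mul_eq_one_right (by rw [← sq, hV])
    have h2 := hφ (h1.trans (map_one φ).symm)
    rw [h2, orderOf_one] at hg
    omega
  | succ n ih =>
    intro H _ _ V _ _ hsol hO hV φ hφ hexp hnorm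
    obtain ⟨U, _, _, g0, M, _, _, φ', hg0, hsolU, hOU, hM, hφ', hexpU, hnormU⟩ :=
      exists_next hsol hO hV φ hφ (n + 1 + 1) (by omega) hexp hnorm
    rw [pLengthLE_succ_iff]
    exact pLengthLE_of_surjective hg0 (ih U M hsolU hOU hM φ' hφ'
      (fun g k hg => hexpU g k hg) (fun g k hg v => hnormU g k hg v))

/-- A 2-soluble group is solvable (by the Odd Order Theorem). -/
theorem isSolvable_of_isPSolvable {G : Type u} [Group G] [Finite G]
    (hG : Cfsg.IsPSolvable 2 G) : Group.IsSolvable G := by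
  obtain ⟨n, S, h0, hlast, hmono, hnor, hfac⟩ := hG
  have : Fact (Nat.Prime 2) := ⟨Nat.prime_two⟩
  have key : ∀ i : Fin (n + 1), Group.IsSolvable (S i) := by
    intro i
    induction i using Fin.induction with
    | zero => rw [h0]; infer_instance
    | succ i ih =>
      have := hnor i.castSucc
      set A := (S i.castSucc).subgroupOf (S i.succ) with hA
      have hAsol : Group.IsSolvable A := Group.isSolvable_of_isSolvable_injective
        (f := (Subgroup.subgroupOfEquivOfLe (hmono i.castSucc_le_succ)).toMonoidHom)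
        (MulEquiv.injective _)
      have hQ : Group.IsSolvable (S i.succ ⧸ A) := by
        have hcard : Nat.card (S i.succ ⧸ A) = (S i.castSucc).relIndex (S i.succ) := rfl
        rcases hfac i with ⟨m, hm⟩ | hco
        · have := (IsPGroup.of_card (p := 2) (n := m) (hcard.trans hm)).isNilpotent
          infer_instance
        · exact Cfsg.Agent.S0205.result (Nat.coprime_two_right.mp (hcard ▸ hco))
      exact Group.isSolvable_of_ker_le_range A.subtype (QuotientGroup.mk' A) (by simp)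
  have htop := key (Fin.last n)
  rw [hlast] at htop
  exact Group.isSolvable_of_surjective (f := (Subgroup.topEquiv (G := G)).toMonoidHom)
    (MulEquiv.surjective _)

/-- The 2-length is at most the exponent. -/
theorem pLengthLE_exponent {G : Type u} [Group G] [Finite G] (hsol : Group.IsSolvable G) (e : ℕ)
    (hexp : ∀ (P : Sylow 2 G), ∀ x ∈ (P : Subgroup G), x ^ 2 ^ e = 1) :
    Cfsg.PLengthLE 2 e G := by
  have : Fact (Nat.Prime 2) := ⟨Nat.prime_two⟩
  rcases e with _ | d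
  · rw [pLengthLE_zero_iff]
    refine ((Nat.Prime.coprime_iff_not_dvd Nat.prime_two).mpr fun hd => ?_).symm
    obtain ⟨g, hg⟩ := exists_prime_orderOf_dvd_card' 2 hd
    obtain ⟨P, hP⟩ := (IsPGroup.of_card (n := 1) (by rw [Nat.card_zpowers, hg, pow_one]) :
      IsPGroup 2 (Subgroup.zpowers g)).exists_le_sylow
    have := hexp P g (hP (Subgroup.mem_zpowers g))
    rw [pow_zero, pow_one] at this
    rw [this, orderOf_one] at hg
    omega
  have hp : Cfsg.IsPSolvable 2 G := isPSolvable_of_solvable 2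
  have hlift : ∀ {K : Type u} [Group K] [Finite K] {f : G →* K}, Function.Surjective f →
      ∀ (g : K) (k : ℕ), g ^ 2 ^ k = 1 → g ^ 2 ^ (d + 1) = 1 := by
    intro K _ _ f hf g k hg
    obtain ⟨P, x, hx, rfl⟩ := lift_two_element hf hg
    rw [← map_pow, hexp P x hx, map_one]
  have hT1n : (term 2 G (2 * 0 + 1)).Normal := term_two_normal _ _ _
  set T1 := term 2 G (2 * 0 + 1)
  have hT2n : (term 2 G 2).Normal := term_two_normal _ _ _
  set T2 := term 2 G 2
  set O := Cfsg.pCore 2 (G ⧸ T1)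
  have hT2 : T2 = O.comap (QuotientGroup.mk' T1) :=
    Cfsg.Agent.HallConstrained.upperPSeries_even 0
  have hOp : IsPGroup 2 O := isPGroup_pCore 2 _
  let _ : CommGroup (↥O ⧸ frattini ↥O) :=
    { (inferInstance : Group (↥O ⧸ frattini ↥O)) with
      mul_comm := Cfsg.Agent.HallHigman.frattini_quotient_comm O hOp }
  obtain ⟨φ, hφ, hφc⟩ := Cfsg.Agent.HallHigman.exists_frattini_action
    (isPSolvable_quotient hp T1) (Cfsg.Agent.HallConstrained.pPrimeCore_quotient_upperPSeries 0)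
  let f : G →* (G ⧸ T1) ⧸ O := (QuotientGroup.mk' O).comp (QuotientGroup.mk' T1)
  have hf : Function.Surjective f :=
    (QuotientGroup.mk'_surjective _).comp (QuotientGroup.mk'_surjective _)
  have hnorm : ∀ (g : (G ⧸ T1) ⧸ O) (k : ℕ), g ^ 2 ^ k = 1 → ∀ v : ↥O ⧸ frattini ↥O,
      ∏ j ∈ Finset.range (2 ^ (d + 1)), φ (g ^ j) v = 1 := by
    intro g k hg v
    obtain ⟨P, x, hx, rfl⟩ := lift_two_element hf hg
    obtain ⟨o, rfl⟩ := QuotientGroup.mk_surjective v
    obtain ⟨om, h1, h2⟩ := Cfsg.Agent.HallHigman.exists_coe_mul_pow (V := ↥O ⧸ frattini ↥O) O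
      (QuotientGroup.mk' (frattini ↥O)) (QuotientGroup.mk' O) φ hφc (QuotientGroup.mk' T1 x) o
      (2 ^ (d + 1))
    have hox : ((o : G ⧸ T1) * QuotientGroup.mk' T1 x) ^ 2 ^ (d + 1) = 1 := by
      have hmem : (o : G ⧸ T1) * QuotientGroup.mk' T1 x ∈
          (P.mapSurjective (QuotientGroup.mk'_surjective T1) : Subgroup (G ⧸ T1)) :=
        mul_mem (pCore_le_sylow _ o.2) ⟨x, hx, rfl⟩
      obtain ⟨y, hy, hyeq⟩ := hmem
      rw [← hyeq, ← map_pow, hexp P y hy, map_one]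
    rw [hox, ← map_pow, hexp P x hx, map_one, mul_one] at h1
    rw [show om = 1 from Subtype.ext h1.symm, map_one] at h2
    refine Eq.trans (Finset.prod_congr rfl fun j _ => ?_) h2.symm
    rfl
  rw [pLengthLE_succ_iff]
  let g0 : (G ⧸ T1) ⧸ O →* G ⧸ T2 := QuotientGroup.lift O
    (QuotientGroup.lift T1 (QuotientGroup.mk' T2) fun a ha => by
      rw [QuotientGroup.ker_mk']
      exact Cfsg.Agent.HallConstrained.upperPSeries_le_succ (2 * 0 + 1) ha)
    (fun b hb => by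
      obtain ⟨a, rfl⟩ := QuotientGroup.mk'_surjective T1 b
      exact (QuotientGroup.eq_one_iff a).mpr (by rw [hT2]; exact hb))
  have hg0 : Function.Surjective g0 := fun b => by
    obtain ⟨a, rfl⟩ := QuotientGroup.mk'_surjective T2 b
    exact ⟨f a, rfl⟩
  exact pLengthLE_of_surjective hg0 (pLengthLE_linear d _ _
    (Group.isSolvable_of_surjective hf) (pCore_quotient_self 2 _)
    (Cfsg.Agent.PGroupsBasic.quotient_frattini_elementary hOp).2 φ hφ (hlift hf) hnorm)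

end Cfsg.Agent.TwoLengthExponent
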