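import Mathlib
import Cfsg.Prelude
import Cfsg.Agent.Lib.TwoLengthDerivedCore
import Cfsg.Agent.Lib.GrossTwoLength
import Cfsg.Agent.Lib.TwoLengthExponent

/-!
# The 2-length is at most the derived length of a Sylow 2-subgroup

For `H` solvable with `O_2(H) = 1` acting faithfully with vanishing chains of length `d`, the
group `U = H ⧸ O_{2',2}(H)` again acts faithfully with vanishing chains of length `d - 1`, on the
sum of three sections of the Frattini quotient of `O_{2',2}(H) ⧸ O_{2'}(H)`.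
-/

set_option autoImplicit false

namespace Cfsg.Agent.TwoLengthDerived

open Cfsg.Agent.HallCore Cfsg.Agent.HallSolvable Cfsg.Agent.HallPLength
open Cfsg.Agent.TwoPlanesChain
open Cfsg.Agent.TwoPlanesTops (centralInv)
open scoped commutatorElement

universe u

/-! ### Actions on the factors of a filtration -/

section factors

variable {U V : Type u} [Group U] [CommGroup V]

/-- A module with vanishing chains, covering the invariant subgroup `S` up to 2-powers. -/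
def Good (φ : U →* MulAut V) (e : ℕ) (S : Subgroup V) : Prop :=
  ∃ (V' : Type u) (_ : CommGroup V') (_ : Finite V') (φ' : U →* MulAut V'),
    (∀ v : V', v ^ 2 = 1) ∧
    (∀ P : Subgroup U, IsPGroup 2 P → chain φ' P ⊤ e = ⊥) ∧
    ∀ g : U, φ' g = 1 → ∃ j : ℕ, ∀ v ∈ S, φ (g ^ 2 ^ j) v = v

theorem good_bot [Finite V] (φ : U →* MulAut V) (e : ℕ) : Good φ e (⊥ : Subgroup V) :=
  ⟨PUnit.{u+1}, inferInstance, inferInstance, 1, fun _ => rfl, fun _ _ => Subsingleton.elim _ _,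
    fun g _ => ⟨0, fun v hv => by rw [Subgroup.mem_bot.mp hv, map_one]⟩⟩

theorem mul_self_eq_one_of_sq {v : V} (h : v ^ 2 = 1) : v * v = 1 := by rwa [sq] at h

/-- One more factor. -/
theorem good_step [Finite V] (φ : U →* MulAut V) (hV : ∀ v : V, v ^ 2 = 1) (e : ℕ)
    {S S' : Subgroup V} (hS : ∀ g, ∀ v ∈ S, φ g v ∈ S)
    (hS' : ∀ g, ∀ v ∈ S', φ g v ∈ S')
    (hchain : ∀ P : Subgroup U, IsPGroup 2 P → chain φ P S' e ≤ S)
    (hgood : Good φ e S) : Good φ e S' := by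
  obtain ⟨V1, hc1, hf1, φ1, hV1, hN1, hk1⟩ := hgood
  -- the action on `S' ⧸ S`
  let r : U → MulAut S' := fun g =>
    { toFun := fun v => ⟨φ g v, hS' g v v.2⟩
      invFun := fun v => ⟨φ g⁻¹ v, hS' g⁻¹ v v.2⟩
      left_inv := fun v => Subtype.ext (by
        show φ g⁻¹ (φ g v) = v
        rw [← MulAut.mul_apply, ← map_mul, inv_mul_cancel, map_one]; rfl)
      right_inv := fun v => Subtype.ext (by
        show φ g (φ g⁻¹ v) = v
        rw [← MulAut.mul_apply, ← map_mul, mul_inv_cancel, map_one]; rfl)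
      map_mul' := fun v w => Subtype.ext (map_mul (φ g) (v : V) (w : V)) }
  set T : Subgroup S' := S.subgroupOf S'
  have hmap : ∀ g, T.map (r g).toMonoidHom = T := fun g => by
    refine le_antisymm ?_ fun v hv => ⟨r g⁻¹ v, hS g⁻¹ v hv, Subtype.ext ?_⟩
    · rintro _ ⟨v, hv, rfl⟩
      exact hS g v hv
    · show φ g (φ g⁻¹ v) = v
      rw [← MulAut.mul_apply, ← map_mul, mul_inv_cancel, map_one]; rfl
  let φ0 : U →* MulAut (S' ⧸ T) :=
    { toFun := fun g => QuotientGroup.congr T T (r g) (hmap g)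
      map_one' := MulEquiv.ext fun a => by
        obtain ⟨a, rfl⟩ := QuotientGroup.mk_surjective a
        show ((r 1 a : S') : S' ⧸ T) = _
        rw [show r 1 a = a from Subtype.ext (by show φ 1 (a : V) = a; rw [map_one]; rfl)]
        rfl
      map_mul' := fun g h => MulEquiv.ext fun a => by
        obtain ⟨a, rfl⟩ := QuotientGroup.mk_surjective a
        show ((r (g * h) a : S') : S' ⧸ T) = ((r g (r h a) : S') : S' ⧸ T)
        rw [show r (g * h) a = r g (r h a) from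
          Subtype.ext (by show φ (g * h) (a : V) = φ g (φ h a); rw [map_mul]; rfl)] }
  let φ2 : U →* MulAut ((S' ⧸ T) × V1) :=
    { toFun := fun g => MulEquiv.prodCongr (φ0 g) (φ1 g)
      map_one' := MulEquiv.ext fun v => by
        show ((φ0 1) v.1, (φ1 1) v.2) = v
        rw [map_one, map_one]; rfl
      map_mul' := fun g h => MulEquiv.ext fun v => by
        show ((φ0 (g * h)) v.1, (φ1 (g * h)) v.2) = ((φ0 g) (φ0 h v.1), (φ1 g) (φ1 h v.2))
        rw [map_mul, map_mul]; rfl }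
  refine ⟨(S' ⧸ T) × V1, inferInstance, inferInstance, φ2, ?_, ?_, ?_⟩
  · rintro ⟨a, b⟩
    obtain ⟨a, rfl⟩ := QuotientGroup.mk_surjective a
    refine Prod.ext ?_ (hV1 b)
    show (a : S' ⧸ T) ^ 2 = 1
    rw [← QuotientGroup.mk_pow, show a ^ 2 = 1 from Subtype.ext (hV a)]
    rfl
  · intro P hP
    have key : ∀ i, ∀ x ∈ chain φ2 P ⊤ i,
        (∃ u : S', (u : V) ∈ chain φ P S' i ∧ (u : S' ⧸ T) = x.1) ∧ x.2 ∈ chain φ1 P ⊤ i := by
      intro i
      induction i with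
      | zero =>
        intro x _
        obtain ⟨a, ha⟩ := QuotientGroup.mk_surjective x.1
        exact ⟨⟨a, a.2, ha⟩, trivial⟩
      | succ i ih =>
        intro x hx
        induction hx using Subgroup.closure_induction with
        | mem y hy =>
          obtain ⟨g, hg, v, hv, rfl⟩ := hy
          obtain ⟨⟨u, hu, huv⟩, hv2⟩ := ih v hv
          refine ⟨⟨r g u * u⁻¹, Subgroup.subset_closure ⟨g, hg, (u : V), hu, rfl⟩, ?_⟩,
            Subgroup.subset_closure ⟨g, hg, v.2, hv2, rfl⟩⟩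
          show ((r g u * u⁻¹ : S') : S' ⧸ T) = φ0 g v.1 * v.1⁻¹
          rw [← huv, QuotientGroup.mk_mul, QuotientGroup.mk_inv]
          rfl
        | one => exact ⟨⟨1, Subgroup.one_mem _, rfl⟩, Subgroup.one_mem _⟩
        | mul a b _ _ iha ihb =>
          obtain ⟨⟨u, hu, hua⟩, ha2⟩ := iha
          obtain ⟨⟨w, hw, hwb⟩, hb2⟩ := ihb
          exact ⟨⟨u * w, Subgroup.mul_mem _ hu hw, by rw [QuotientGroup.mk_mul, hua, hwb]; rfl⟩,
            Subgroup.mul_mem _ ha2 hb2⟩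
        | inv a _ iha =>
          obtain ⟨⟨u, hu, hua⟩, ha2⟩ := iha
          exact ⟨⟨u⁻¹, Subgroup.inv_mem _ hu, by rw [QuotientGroup.mk_inv, hua]; rfl⟩,
            Subgroup.inv_mem _ ha2⟩
    refine (Subgroup.eq_bot_iff_forall _).mpr fun x hx => ?_
    obtain ⟨⟨u, hu, hux⟩, hx2⟩ := key e x hx
    rw [hN1 P hP, Subgroup.mem_bot] at hx2
    refine Prod.ext ?_ hx2
    rw [← hux]
    exact (QuotientGroup.eq_one_iff _).mpr (hchain P hP hu)
  · intro g hg
    have hg0 : ∀ a, φ0 g a = a := fun a => congrArg Prod.fst (DFunLike.congr_fun hg (a, 1))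
    have hg1 : φ1 g = 1 := MulEquiv.ext fun b => congrArg Prod.snd (DFunLike.congr_fun hg (1, b))
    obtain ⟨j, hj⟩ := hk1 g hg1
    refine ⟨j + 1, fun v hv => ?_⟩
    have hd : φ (g ^ 2 ^ j) v * v⁻¹ ∈ S := by
      have h0 : φ0 (g ^ 2 ^ j) (⟨v, hv⟩ : S') = ((⟨v, hv⟩ : S') : S' ⧸ T) := by
        have hp : ∀ i : ℕ, φ0 (g ^ i) (⟨v, hv⟩ : S') = ((⟨v, hv⟩ : S') : S' ⧸ T) := by
          intro i
          induction i with
          | zero => rw [pow_zero, map_one]; rfl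
          | succ i ih => rw [pow_succ', map_mul, MulAut.mul_apply, ih, hg0]
        exact hp _
      have h1 : ((r (g ^ 2 ^ j) ⟨v, hv⟩ : S') : S' ⧸ T) = ((⟨v, hv⟩ : S') : S' ⧸ T) := h0
      rw [← div_eq_one, ← QuotientGroup.mk_div, QuotientGroup.eq_one_iff] at h1
      have h2 : φ (g ^ 2 ^ j) v / v ∈ S := h1
      rwa [div_eq_mul_inv] at h2
    set s := φ (g ^ 2 ^ j) v * v⁻¹ with hs
    have hv' : φ (g ^ 2 ^ j) v = s * v := by rw [hs, inv_mul_cancel_right]
    rw [pow_succ, mul_two, pow_add, map_mul, MulAut.mul_apply, hv', map_mul, hj s hd, hv',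
      ← mul_assoc, mul_self_eq_one_of_sq (hV s), one_mul]

end factors

/-! ### The induction -/

section step

variable {H : Type u} [Group H] [Finite H] {V : Type u} [CommGroup V] [Finite V]

/-- The quotient by `O_{2',2}` inherits the hypotheses one step below. -/
theorem exists_next {φ : H →* MulAut V} {d : ℕ} (hS : Setting φ d) :
    ∃ (U : Type u) (_ : Group U) (_ : Finite U) (g0 : U →* H ⧸ term 2 H 2)
      (M : Type u) (_ : CommGroup M) (_ : Finite M) (φ' : U →* MulAut M),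
      Function.Surjective g0 ∧ Group.IsSolvable U ∧ Cfsg.pCore 2 U = ⊥ ∧ (∀ v : M, v ^ 2 = 1) ∧
      Function.Injective φ' ∧ (∀ P : Subgroup U, IsPGroup 2 P → ds P (d - 1) = ⊥) ∧
      (∀ P : Subgroup U, IsPGroup 2 P → chain φ' P ⊤ (d - 1) = ⊥) := by
  classical
  have : Fact (Nat.Prime 2) := ⟨Nat.prime_two⟩
  have hsol := hS.sol
  have hp : Cfsg.IsPSolvable 2 H := isPSolvable_of_solvable 2
  have hT1n : (term 2 H (2 * 0 + 1)).Normal := term_two_normal _ _ _
  set T1 := term 2 H (2 * 0 + 1)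
  have hT2n : (term 2 H 2).Normal := term_two_normal _ _ _
  set T := term 2 H 2
  set O := Cfsg.pCore 2 (H ⧸ T1)
  have hT : T = O.comap (QuotientGroup.mk' T1) := Cfsg.Agent.HallConstrained.upperPSeries_even 0
  have hOp : IsPGroup 2 O := isPGroup_pCore 2 _
  let _ : CommGroup (↥O ⧸ frattini ↥O) :=
    { (inferInstance : Group (↥O ⧸ frattini ↥O)) with
      mul_comm := Cfsg.Agent.HallHigman.frattini_quotient_comm O hOp }
  obtain ⟨ψ, hψ, hψc⟩ := Cfsg.Agent.HallHigman.exists_frattini_action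
    (isPSolvable_quotient hp T1) (Cfsg.Agent.HallConstrained.pPrimeCore_quotient_upperPSeries 0)
  have hVR : ∀ v : ↥O ⧸ frattini ↥O, v ^ 2 = 1 :=
    (Cfsg.Agent.PGroupsBasic.quotient_frattini_elementary hOp).2
  let f : H →* (H ⧸ T1) ⧸ O := (QuotientGroup.mk' O).comp (QuotientGroup.mk' T1)
  have hf : Function.Surjective f :=
    (QuotientGroup.mk'_surjective _).comp (QuotientGroup.mk'_surjective _)
  have hker : ∀ g, g ∈ T ↔ f g = 1 := fun g => by
    rw [hT, Subgroup.mem_comap]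
    exact (QuotientGroup.eq_one_iff (N := O) _).symm
  -- a Sylow 2-subgroup of `T` and its normalizer
  let P0 : Sylow 2 T := default
  set R : Subgroup H := (P0 : Subgroup T).map T.subtype with hR
  have hRT : R ≤ T := Subgroup.map_subtype_le _
  have hRp : IsPGroup 2 R := P0.isPGroup'.map _
  set N := Subgroup.normalizer (R : Set H)
  have hfrat : N ⊔ T = ⊤ := Sylow.normalizer_sup_eq_top P0
  have hL : Level φ d N R := ⟨hS, hRp, Subgroup.le_normalizer, le_rfl, fun P hP hPN => by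
    have hle : ds P (d - 1) ≤ T := hS.ds_le_term hP
    have hsup : IsPGroup 2 (ds P (d - 1) ⊔ R : Subgroup H) :=
      IsPGroup.to_sup_of_normal_right' (hP.to_le (ds_le P _)) hRp ((ds_le P _).trans hPN)
    have hle' : (P0 : Subgroup T) ≤ (ds P (d - 1) ⊔ R).subgroupOf T := fun t ht =>
      Subgroup.mem_sup_right ⟨t, ht, rfl⟩
    have heq := P0.is_maximal' hsup.comap_subtype hle'
    exact fun y hy => ⟨⟨y, hle hy⟩, heq ▸ (Subgroup.mem_sup_left hy), rfl⟩⟩
  -- `R` maps onto `O`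
  let fR : R →* O := ((QuotientGroup.mk' T1).comp R.subtype).codRestrict O fun t =>
    show (t : H) ∈ O.comap (QuotientGroup.mk' T1) from hT ▸ hRT t.2
  have hfR : Function.Surjective fR := by
    let fT : T →* O := ((QuotientGroup.mk' T1).comp T.subtype).codRestrict O fun t =>
      show (t : H) ∈ O.comap (QuotientGroup.mk' T1) from hT ▸ t.2
    have hfT : Function.Surjective fT := by
      rintro ⟨b, hb⟩
      obtain ⟨c, rfl⟩ := QuotientGroup.mk'_surjective T1 b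
      exact ⟨⟨c, hT ▸ hb⟩, rfl⟩
    have htop : (P0.mapSurjective hfT : Subgroup O) = ⊤ :=
      ((P0.mapSurjective hfT).is_maximal' ((isPGroup_pCore 2 (H ⧸ T1)).to_subgroup ⊤ |>.of_equiv
        (MulEquiv.refl _)) le_top).symm
    intro b
    obtain ⟨c, hc, hcb⟩ : b ∈ (P0 : Subgroup T).map fT := by
      rw [← Sylow.coe_mapSurjective hfT P0, htop]; exact Subgroup.mem_top b
    exact ⟨⟨c, c, hc, rfl⟩, (Subtype.ext (congrArg Subtype.val hcb :) : _ = b)⟩
  let cls : R →* ↥O ⧸ frattini ↥O := (QuotientGroup.mk' _).comp fR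
  have hcls : Function.Surjective cls := (QuotientGroup.mk'_surjective _).comp hfR
  let fN : N →* (H ⧸ T1) ⧸ O := f.comp N.subtype
  have hfN : Function.Surjective fN := by
    intro b
    obtain ⟨h, rfl⟩ := hf b
    obtain ⟨g, hg, t, ht, rfl⟩ : ∃ g ∈ N, ∃ t ∈ T, g * t = h :=
      Subgroup.mem_sup_of_normal_right.mp (hfrat ▸ Subgroup.mem_top h)
    exact ⟨⟨g, hg⟩, by show f g = _; rw [map_mul, (hker t).mp ht, mul_one]⟩
  have hconjR : ∀ g ∈ N, ∀ r ∈ R, g * r * g⁻¹ ∈ R := fun g hg r hr =>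
    (Subgroup.mem_normalizer_iff.mp hg r).mp hr
  have hact : ∀ (g : N) (r : R), ψ (fN g) (cls r) =
      cls ⟨(g : H) * r * (g : H)⁻¹, hconjR g g.2 r r.2⟩ := by
    intro g r
    refine (hψc (QuotientGroup.mk' T1 (g : H)) (fR r)).trans ?_
    refine congrArg _ (Subtype.ext ?_)
    show QuotientGroup.mk' T1 (g : H) * QuotientGroup.mk' T1 (r : H) *
      (QuotientGroup.mk' T1 (g : H))⁻¹ = QuotientGroup.mk' T1 ((g : H) * r * (g : H)⁻¹)
    rw [map_mul, map_mul, map_inv]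
  set A := topGroup N R d
  set Z0 := centralInv A
  have hAR : A ≤ R := hL.topGroup_le
  let lev : Subgroup H → Subgroup (↥O ⧸ frattini ↥O) := fun X => (X.subgroupOf R).map cls
  have hlev : ∀ X : Subgroup H, (∀ g ∈ N, ∀ a ∈ X, g * a * g⁻¹ ∈ X) →
      ∀ b : (H ⧸ T1) ⧸ O, ∀ v ∈ lev X, ψ b v ∈ lev X := by
    rintro X hX b _ ⟨r, hr, rfl⟩
    obtain ⟨g, rfl⟩ := hfN b
    exact ⟨_, hX g g.2 r hr, (hact g r).symm⟩
  -- 2-subgroups of the quotient come from 2-subgroups of `N` containing `R`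
  have hlift : ∀ P : Subgroup ((H ⧸ T1) ⧸ O), IsPGroup 2 P →
      ∃ Pt : Subgroup H, IsPGroup 2 Pt ∧ Pt ≤ N ∧ R ≤ Pt ∧ P ≤ Pt.map f := by
    intro P hP
    obtain ⟨S, hPS⟩ := hP.exists_le_sylow
    obtain ⟨P', rfl⟩ := Sylow.mapSurjective_surjective hfN 2 S
    set P1 : Subgroup H := (P' : Subgroup N).map N.subtype
    have hP1 : P1 ≤ N := Subgroup.map_subtype_le _
    refine ⟨P1 ⊔ R, IsPGroup.to_sup_of_normal_right' (P'.isPGroup'.map _) hRp hP1,
      sup_le hP1 Subgroup.le_normalizer, le_sup_right, hPS.trans ?_⟩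
    rw [Sylow.coe_mapSurjective, ← Subgroup.map_map]
    exact Subgroup.map_mono le_sup_left
  have hchain : ∀ (X : Subgroup H), (∀ g ∈ N, ∀ a ∈ X, g * a * g⁻¹ ∈ X) →
      ∀ (P : Subgroup ((H ⧸ T1) ⧸ O)) (Pt : Subgroup H), Pt ≤ N → R ≤ Pt → P ≤ Pt.map f →
      ∀ i, chain ψ P (lev X) i ≤ lev (X ⊓ ds Pt i) := by
    intro X hX P Pt hPtN hRPt hPPt i
    induction i with
    | zero =>
      rintro _ ⟨r, hr, rfl⟩
      exact ⟨r, ⟨hr, hRPt r.2⟩, rfl⟩
    | succ i ih =>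
      refine (Subgroup.closure_le _).mpr ?_
      rintro _ ⟨b, hb, v, hv, rfl⟩
      obtain ⟨r, hr, rfl⟩ := ih hv
      obtain ⟨g, hg, rfl⟩ : b ∈ (ds Pt i).map f := by
        rw [map_ds]; exact ds_mono hPPt i hb
      have hgN : g ∈ N := hPtN (ds_le Pt i hg)
      refine ⟨⟨g * r * g⁻¹, hconjR g hgN r r.2⟩ * r⁻¹, ⟨?_, ?_⟩, ?_⟩
      · exact X.mul_mem (hX g hgN r hr.1) (X.inv_mem hr.1)
      · show g * (r : H) * g⁻¹ * (r : H)⁻¹ ∈ ds Pt (i + 1)
        exact Subgroup.commutator_mem_commutator hg hr.2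
      · rw [map_mul, map_inv, ← hact ⟨g, hgN⟩ r]
        rfl
  have hd2 := hS.two_le
  have hAinv : ∀ g ∈ N, ∀ a ∈ A, g * a * g⁻¹ ∈ A := fun g hg a ha => hL.conj_mem_topGroup hg ha
  have hZinv : ∀ g ∈ N, ∀ a ∈ Z0, g * a * g⁻¹ ∈ Z0 := fun g hg a ha =>
    hL.conj_mem_centralInv hg ha
  -- the last step lands one level below
  have hlast : ∀ (X Y : Subgroup H), (∀ g ∈ N, ∀ a ∈ X, g * a * g⁻¹ ∈ X) →
      (∀ Pt : Subgroup H, IsPGroup 2 Pt → Pt ≤ N → R ≤ Pt → ∀ c ∈ ds Pt (d - 2),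
        ∀ r ∈ X, r ∈ R → r ∈ ds Pt (d - 2) → ⁅c, r⁆ ∈ Y) →
      ∀ P : Subgroup ((H ⧸ T1) ⧸ O), IsPGroup 2 P → chain ψ P (lev X) (d - 1) ≤ lev Y := by
    intro X Y hX hY P hP
    obtain ⟨Pt, hPtp, hPtN, hRPt, hPPt⟩ := hlift P hP
    rw [show d - 1 = d - 2 + 1 by omega]
    refine (Subgroup.closure_le _).mpr ?_
    rintro _ ⟨b, hb, v, hv, rfl⟩
    obtain ⟨r, hr, rfl⟩ := hchain X hX P Pt hPtN hRPt hPPt (d - 2) hv
    obtain ⟨g, hg, rfl⟩ : b ∈ (ds Pt (d - 2)).map f := by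
      rw [map_ds]; exact ds_mono hPPt _ hb
    have hgN : g ∈ N := hPtN (ds_le Pt _ hg)
    refine ⟨⟨g * r * g⁻¹, hconjR g hgN r r.2⟩ * r⁻¹, ?_, ?_⟩
    · exact hY Pt hPtp hPtN hRPt g hg r hr.1 r.2 hr.2
    · rw [map_mul, map_inv, ← hact ⟨g, hgN⟩ r]
      rfl
  have hgood : Good ψ (d - 1) (lev R) := by
    refine good_step ψ hVR _ (hlev A hAinv) (hlev R hconjR) ?_ (good_step ψ hVR _
      (hlev Z0 hZinv) (hlev A hAinv) ?_ (good_step ψ hVR _
      (fun g v hv => by rw [Subgroup.mem_bot] at hv ⊢; rw [hv, map_one])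
      (hlev Z0 hZinv) ?_ (good_bot ψ _)))
    · refine hlast R A hconjR fun Pt hPtp hPtN hRPt c hc r _ _ hr => ?_
      refine Subgroup.subset_closure ⟨Pt, hPtp, hPtN, hRPt, ?_⟩
      rw [show d - 1 = d - 2 + 1 by omega, ds_succ]
      exact Subgroup.commutator_mem_commutator hc hr
    · exact hlast A Z0 hAinv fun Pt hPtp hPtN hRPt c hc r hrA _ hr =>
        (hL.commutator_mem hPtp hPtN hRPt hc hr hrA).1
    · intro P hP
      refine (hlast Z0 ⊥ hZinv (fun Pt hPtp hPtN hRPt c hc r hrZ _ hr => ?_) P hP).trans ?_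
      · rw [(hL.commutator_mem hPtp hPtN hRPt hc hr hrZ.1).2 hrZ]
        exact one_mem _
      · show (((⊥ : Subgroup H).subgroupOf R).map cls) ≤ ⊥
        rw [Subgroup.bot_subgroupOf, Subgroup.map_bot]
  obtain ⟨M, hMc, hMf, φ', hM, hMN, hMk⟩ := hgood
  have hOU : Cfsg.pCore 2 ((H ⧸ T1) ⧸ O) = ⊥ := pCore_quotient_self 2 _
  let g0 : (H ⧸ T1) ⧸ O →* H ⧸ T := QuotientGroup.lift O
    (QuotientGroup.lift T1 (QuotientGroup.mk' T) fun a ha => by
      rw [QuotientGroup.ker_mk']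
      exact Cfsg.Agent.HallConstrained.upperPSeries_le_succ (2 * 0 + 1) ha)
    (fun b hb => by
      obtain ⟨a, rfl⟩ := QuotientGroup.mk'_surjective T1 b
      exact (QuotientGroup.eq_one_iff a).mpr (by rw [hT]; exact hb))
  refine ⟨(H ⧸ T1) ⧸ O, inferInstance, inferInstance, g0, M, hMc, hMf, φ', fun b => ?_,
    Group.isSolvable_of_surjective hf, hOU, hM, ?_, fun P hP => ?_, hMN⟩
  · obtain ⟨a, rfl⟩ := QuotientGroup.mk'_surjective T b
    exact ⟨f a, rfl⟩
  · rw [← MonoidHom.ker_eq_bot_iff]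
    refine le_bot_iff.mp ?_
    rw [← hOU]
    refine le_pCore fun g => ?_
    obtain ⟨j, hj⟩ := hMk (g : (H ⧸ T1) ⧸ O) g.2
    refine ⟨j, Subtype.ext (hψ ?_)⟩
    show ψ ((g : (H ⧸ T1) ⧸ O) ^ 2 ^ j) = ψ 1
    rw [map_one]
    refine MulEquiv.ext fun v => ?_
    obtain ⟨r, rfl⟩ := hcls v
    exact hj _ ⟨r, r.2, rfl⟩
  · obtain ⟨Pt, hPtp, hPtN, -, hPPt⟩ := hlift P hP
    refine (Subgroup.eq_bot_iff_forall _).mpr fun b hb => ?_
    obtain ⟨g, hg, rfl⟩ : b ∈ (ds Pt (d - 1)).map f := by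
      rw [map_ds]; exact ds_mono hPPt _ hb
    exact (hker g).mp (hRT (hL.ds_le Pt hPtp hPtN hg))

end step

/-- The linear form. -/
theorem pLengthLE_linear : ∀ (d : ℕ) (H : Type u) [Group H] [Finite H] (V : Type u) [CommGroup V]
    [Finite V], Group.IsSolvable H → Cfsg.pCore 2 H = ⊥ → (∀ v : V, v ^ 2 = 1) →
    ∀ φ : H →* MulAut V, Function.Injective φ →
    (∀ P : Subgroup H, IsPGroup 2 P → ds P (d + 1) = ⊥) →
    (∀ P : Subgroup H, IsPGroup 2 P → chain φ P ⊤ (d + 1) = ⊥) →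
    Cfsg.PLengthLE 2 d H := by
  have : Fact (Nat.Prime 2) := ⟨Nat.prime_two⟩
  intro d
  induction d with
  | zero =>
    intro H _ _ V _ _ hsol hO hV φ hφ hser hch
    rw [pLengthLE_zero_iff]
    refine ((Nat.Prime.coprime_iff_not_dvd Nat.prime_two).mpr fun hd => ?_).symm
    obtain ⟨g, hg⟩ := exists_prime_orderOf_dvd_card' 2 hd
    have hgp : IsPGroup 2 (Subgroup.zpowers g) :=
      IsPGroup.of_card (n := 1) (by rw [Nat.card_zpowers, hg, pow_one])
    have h1 : φ g = 1 := MulEquiv.ext fun v => by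
      have h : φ g v * v⁻¹ ∈ chain φ (Subgroup.zpowers g) ⊤ (0 + 1) :=
        Subgroup.subset_closure ⟨g, Subgroup.mem_zpowers g, v, trivial, rfl⟩
      rw [hch _ hgp, Subgroup.mem_bot, mul_inv_eq_one] at h
      exact h
    have h2 := hφ (h1.trans (map_one φ).symm)
    rw [h2, orderOf_one] at hg
    omega
  | succ d ih =>
    intro H _ _ V _ _ hsol hO hV φ hφ hser hch
    obtain ⟨U, _, _, g0, M, _, _, φ', hg0, hsolU, hOU, hM, hφ', hserU, hchU⟩ :=
      exists_next (d := d + 1 + 1) ⟨hsol, hO, hV, hφ, by omega, hser, hch⟩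
    rw [pLengthLE_succ_iff]
    exact pLengthLE_of_surjective hg0 (ih U M hsolU hOU hM φ' hφ'
      (fun P hP => hserU P hP) (fun P hP => hchU P hP))

theorem derivedSeries_map_subtype {G : Type u} [Group G] (P : Subgroup G) :
    ∀ i : ℕ, (derivedSeries P i).map P.subtype = ds P i
  | 0 => by rw [derivedSeries_zero, ← MonoidHom.range_eq_map, Subgroup.range_subtype]; rfl
  | i + 1 => by
    rw [derivedSeries_succ, Subgroup.map_commutator, derivedSeries_map_subtype P i]; rfl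

/-- The 2-length is at most the derived length of a Sylow 2-subgroup. -/
theorem pLengthLE_derived {G : Type u} [Group G] [Finite G] (hsol : Group.IsSolvable G) (d : ℕ)
    (hder : ∀ P : Sylow 2 G, derivedSeries (P : Subgroup G) d = ⊥) :
    Cfsg.PLengthLE 2 d G := by
  have : Fact (Nat.Prime 2) := ⟨Nat.prime_two⟩
  have hds : ∀ P : Sylow 2 G, ds (P : Subgroup G) d = ⊥ := fun P => by
    rw [← derivedSeries_map_subtype, hder P, Subgroup.map_bot]
  rcases d with _ | d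
  · rw [pLengthLE_zero_iff]
    refine ((Nat.Prime.coprime_iff_not_dvd Nat.prime_two).mpr fun hd => ?_).symm
    obtain ⟨g, hg⟩ := exists_prime_orderOf_dvd_card' 2 hd
    obtain ⟨P, hP⟩ := (IsPGroup.of_card (n := 1) (by rw [Nat.card_zpowers, hg, pow_one]) :
      IsPGroup 2 (Subgroup.zpowers g)).exists_le_sylow
    have h : g ∈ ds (P : Subgroup G) 0 := hP (Subgroup.mem_zpowers g)
    rw [hds P, Subgroup.mem_bot] at h
    rw [h, orderOf_one] at hg
    omega
  have hp : Cfsg.IsPSolvable 2 G := isPSolvable_of_solvable 2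
  have hT1n : (term 2 G (2 * 0 + 1)).Normal := term_two_normal _ _ _
  set T1 := term 2 G (2 * 0 + 1)
  have hT2n : (term 2 G 2).Normal := term_two_normal _ _ _
  set T2 := term 2 G 2
  set O := Cfsg.pCore 2 (G ⧸ T1)
  have hT2 : T2 = O.comap (QuotientGroup.mk' T1) :=
    Cfsg.Agent.HallConstrained.upperPSeries_even 0
  have hOp : IsPGroup 2 O := isPGroup_pCore 2 _
  let _ : CommGroup (↥O ⧸ frattini ↥O) :=
    { (inferInstance : Group (↥O ⧸ frattini ↥O)) with
      mul_comm := Cfsg.Agent.HallHigman.frattini_quotient_comm O hOp }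
  obtain ⟨φ, hφ, hφc⟩ := Cfsg.Agent.HallHigman.exists_frattini_action
    (isPSolvable_quotient hp T1) (Cfsg.Agent.HallConstrained.pPrimeCore_quotient_upperPSeries 0)
  let f : G →* (G ⧸ T1) ⧸ O := (QuotientGroup.mk' O).comp (QuotientGroup.mk' T1)
  have hf : Function.Surjective f :=
    (QuotientGroup.mk'_surjective _).comp (QuotientGroup.mk'_surjective _)
  -- 2-subgroups come from Sylow subgroups of `G ⧸ T1`
  have hlift : ∀ P : Subgroup ((G ⧸ T1) ⧸ O), IsPGroup 2 P →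
      ∃ Pb : Sylow 2 (G ⧸ T1), P ≤ (Pb : Subgroup (G ⧸ T1)).map (QuotientGroup.mk' O) ∧
        ds (Pb : Subgroup (G ⧸ T1)) (d + 1) = ⊥ := by
    intro P hP
    obtain ⟨S, hPS⟩ := hP.exists_le_sylow
    obtain ⟨P', rfl⟩ := Sylow.mapSurjective_surjective hf 2 S
    refine ⟨P'.mapSurjective (QuotientGroup.mk'_surjective T1), ?_, ?_⟩
    · rw [Sylow.coe_mapSurjective, Subgroup.map_map]
      exact hPS
    · rw [Sylow.coe_mapSurjective, ← map_ds, hds P', Subgroup.map_bot]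
  have hser : ∀ P : Subgroup ((G ⧸ T1) ⧸ O), IsPGroup 2 P → ds P (d + 1) = ⊥ := by
    intro P hP
    obtain ⟨Pb, hPb, hb⟩ := hlift P hP
    refine le_bot_iff.mp ((ds_mono hPb _).trans ?_)
    rw [← map_ds, hb, Subgroup.map_bot]
  have hch : ∀ P : Subgroup ((G ⧸ T1) ⧸ O), IsPGroup 2 P → chain φ P ⊤ (d + 1) = ⊥ := by
    intro P hP
    obtain ⟨Pb, hPb, hb⟩ := hlift P hP
    have key : ∀ i, chain φ P ⊤ i ≤
        ((ds (Pb : Subgroup (G ⧸ T1)) i).subgroupOf O).map (QuotientGroup.mk' (frattini ↥O)) := by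
      intro i
      induction i with
      | zero =>
        intro v _
        obtain ⟨o, rfl⟩ := QuotientGroup.mk_surjective v
        exact ⟨o, pCore_le_sylow Pb o.2, rfl⟩
      | succ i ih =>
        refine (Subgroup.closure_le _).mpr ?_
        rintro _ ⟨b, hbi, v, hv, rfl⟩
        obtain ⟨o, ho, rfl⟩ := ih hv
        obtain ⟨g, hg, rfl⟩ : b ∈ (ds (Pb : Subgroup (G ⧸ T1)) i).map (QuotientGroup.mk' O) := by
          rw [map_ds]; exact ds_mono hPb i hbi
        refine ⟨⟨g * o * g⁻¹, (pCore_normal 2 _).conj_mem _ o.2 g⟩ * o⁻¹,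
          Subgroup.commutator_mem_commutator hg ho, ?_⟩
        rw [map_mul, map_inv]
        congr 1
        exact (hφc g o).symm
    refine le_bot_iff.mp ((key (d + 1)).trans ?_)
    rw [hb, Subgroup.bot_subgroupOf, Subgroup.map_bot]
  rw [pLengthLE_succ_iff]
  let g0 : (G ⧸ T1) ⧸ O →* G ⧸ T2 := QuotientGroup.lift O
    (QuotientGroup.lift T1 (QuotientGroup.mk' T2) fun a ha => by
      rw [QuotientGroup.ker_mk']
      exact Cfsg.Agent.HallConstrained.upperPSeries_le_succ (2 * 0 + 1) ha)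
    (fun b hb => by
      obtain ⟨a, rfl⟩ := QuotientGroup.mk'_surjective T1 b
      exact (QuotientGroup.eq_one_iff a).mpr (by rw [hT2]; exact hb))
  have hg0 : Function.Surjective g0 := fun b => by
    obtain ⟨a, rfl⟩ := QuotientGroup.mk'_surjective T2 b
    exact ⟨f a, rfl⟩
  exact pLengthLE_of_surjective hg0 (pLengthLE_linear d _ _
    (Group.isSolvable_of_surjective hf) (pCore_quotient_self 2 _)
    (Cfsg.Agent.PGroupsBasic.quotient_frattini_elementary hOp).2 φ hφ hser hch)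

end Cfsg.Agent.TwoLengthDerived
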