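import Mathlib
import Cfsg.Agent.Lib.PermBurnside
import Cfsg.Agent.Lib.SimpleRangeLowMain81

/-!
A 2-transitive group of degree 16 with two-point stabiliser `A₄`, whose involutions fixing a
point fix exactly four points (lines), is the affine group `AGL(2,4)`.
-/

set_option autoImplicit false

namespace Cfsg.Agent.TwoPointA4Aff15

open MulAction Polynomial
open scoped Pointwise

universe u v

/-! ### The field with four elements and its modules -/

section Field4

variable {F : Type*} [Field F] [Fintype F]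

theorem two_zero (hF : Fintype.card F = 4) : (2 : F) = 0 := by
  have h4 : ((4 : ℕ) : F) = 0 := by rw [← hF]; exact FiniteField.cast_card_eq_zero F
  have : (2 : F) * 2 = 0 := by rw [← h4]; norm_num
  exact mul_self_eq_zero.mp this

theorem exists_omega (hF : Fintype.card F = 4) : ∃ w : F, w * w = w + 1 := by
  classical
  obtain ⟨w, -, hw⟩ := Finset.exists_mem_notMem_of_card_lt_card (s := ({0, 1} : Finset F))
    (t := Finset.univ) (by
      rw [Finset.card_univ, hF]
      exact Finset.card_le_two.trans_lt (by norm_num))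
  simp only [Finset.mem_insert, Finset.mem_singleton, not_or] at hw
  refine ⟨w, ?_⟩
  have h3 : w ^ 4 = w := by
    have := FiniteField.pow_card w
    rwa [hF] at this
  have h : (w * (w - 1)) * (w ^ 2 + w + 1) = 0 := by linear_combination h3
  have := (mul_eq_zero.mp h).resolve_left
    (mul_ne_zero hw.1 (sub_ne_zero.mpr hw.2))
  linear_combination this - (w + 1) * two_zero hF

theorem field_cases (hF : Fintype.card F = 4) {w : F} (hw : w * w = w + 1) (c : F) :
    c = 0 ∨ c = 1 ∨ c = w ∨ c = w + 1 := by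
  classical
  have h0 : w ≠ 0 := fun h => by simp [h] at hw
  have h1 : w ≠ 1 := fun h => by simp [h] at hw
  have h2 : w + 1 ≠ 0 := hw ▸ mul_ne_zero h0 h0
  have hc : ({0, 1, w, w + 1} : Finset F) = Finset.univ := by
    apply Finset.eq_univ_of_card
    rw [hF]
    have e1 : (1 : F) ≠ w + 1 := fun h => h0 (by simpa using h)
    simp [h0.symm, h1.symm, h2.symm, e1]
  have := Finset.mem_univ c
  rw [← hc] at this
  simpa using this

end Field4

/-- A copy of the field with four elements. -/
theorem exists_field : ∃ (F : Type) (_ : Field F) (_ : Fintype F), Fintype.card F = 4 := by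
  let F := GaloisField 2 2
  have : Finite F := inferInstance
  refine ⟨F, inferInstance, Fintype.ofFinite F, ?_⟩
  rw [← @Nat.card_eq_fintype_card F (Fintype.ofFinite F), GaloisField.card 2 2 (by norm_num)]
  norm_num

/-- An additive automorphism with `E² + E + 1 = 0` on a group of exponent two is a module
structure over the field with four elements. -/
theorem exists_module {F : Type} [Field F] [Fintype F] (hF : Fintype.card F = 4)
    {w : F} (hw : w * w = w + 1) {A : Type*} [AddCommGroup A] (h2 : ∀ v : A, v + v = 0)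
    (E : A →+ A) (hE : ∀ v, E (E v) = E v + v) :
    ∃ m : Module F A, ∀ v : A, (letI := m; w • v) = E v := by
  classical
  have h0 : w ≠ 0 := fun h => by simp [h] at hw
  have h1 : w ≠ 1 := fun h => by simp [h] at hw
  have hw1 : w + 1 ≠ 0 := hw ▸ mul_ne_zero h0 h0
  have hw11 : w + 1 ≠ 1 := fun h => h0 (by simpa using h)
  have hw1w : w + 1 ≠ w := fun h => by simp at h
  have t2 := two_zero hF
  let f : F → A → A := fun c v =>
    if c = 0 then 0 else if c = 1 then v else if c = w then E v else E v + v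
  have f0 : ∀ v, f 0 v = 0 := fun v => by simp [f]
  have f1 : ∀ v, f 1 v = v := fun v => by simp [f]
  have fw : ∀ v, f w v = E v := fun v => by simp [f, h0, h1]
  have fw1 : ∀ v, f (w + 1) v = E v + v := fun v => by simp [f, hw1, hw11, hw1w]
  have a11 : (1 : F) + 1 = 0 := by linear_combination t2
  have a1w : (1 : F) + w = w + 1 := by ring
  have a1v : (1 : F) + (w + 1) = w := by linear_combination t2
  have aww : w + w = (0 : F) := by linear_combination w * t2
  have awv : w + (w + 1) = (1 : F) := by linear_combination w * t2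
  have avv : (w + 1) + (w + 1) = (0 : F) := by linear_combination (w + 1) * t2
  have avw : (w + 1) + w = (1 : F) := by linear_combination w * t2
  have av1 : (w + 1) + (1 : F) = w := by linear_combination t2
  have mwv : w * (w + 1) = (1 : F) := by linear_combination hw + w * t2
  have mvw : (w + 1) * w = (1 : F) := by linear_combination hw + w * t2
  have mvv : (w + 1) * (w + 1) = w := by linear_combination hw + (w + 1) * t2
  have h3 : ∀ x : A, (3 : ℤ) • x = x := fun x => by
    rw [show (3 : ℤ) = ((3 : ℕ) : ℤ) from rfl, natCast_zsmul, succ_nsmul, two_nsmul, h2, zero_add]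
  refine ⟨{
    smul := f
    one_smul := f1
    mul_smul := fun c d v => ?_
    smul_zero := fun c => ?_
    smul_add := fun c x y => ?_
    add_smul := fun c d v => ?_
    zero_smul := f0 }, fw⟩
  · change f (c * d) v = f c (f d v)
    rcases field_cases hF hw c with rfl | rfl | rfl | rfl <;>
      rcases field_cases hF hw d with rfl | rfl | rfl | rfl <;>
      simp only [zero_mul, mul_zero, one_mul, mul_one, hw, mwv, mvw, mvv, f0, f1, fw, fw1,
        map_zero, map_add, hE, add_zero] <;>
      (try abel_nf) <;> (try simp [two_smul, h2, h3])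
  · change f c 0 = 0
    rcases field_cases hF hw c with rfl | rfl | rfl | rfl <;> simp [f0, f1, fw, fw1]
  · change f c (x + y) = f c x + f c y
    rcases field_cases hF hw c with rfl | rfl | rfl | rfl <;>
      simp only [f0, f1, fw, fw1, map_add, add_zero] <;> abel
  · change f (c + d) v = f c v + f d v
    rcases field_cases hF hw c with rfl | rfl | rfl | rfl <;>
      rcases field_cases hF hw d with rfl | rfl | rfl | rfl <;>
      simp only [zero_add, add_zero, a11, a1w, a1v, aww, awv, avv, avw, av1, f0, f1, fw, fw1,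
        h2] <;>
      (try abel_nf) <;> (try simp [two_smul, h2, h3])

/-! ### Recognition of the affine group -/

variable {G : Type u} [Group G] [Finite G]
variable {Ω : Type v} [Fintype Ω] [MulAction G Ω] [FaithfulSMul G Ω]

omit [Finite G] [Fintype Ω] [FaithfulSMul G Ω] in
theorem conj_smul {a : Ω} {s : G} (hs : s • a = a) (n : G) :
    (s * n * s⁻¹) • a = s • n • a := by
  have : s⁻¹ • a = a := by rw [inv_smul_eq_iff, hs]
  rw [mul_smul, mul_smul, this]

/-- A group with a regular normal subgroup of exponent two and order 16 whose point stabiliser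
has order 180 and a central fixed-point-free element of order three is `AGL(2,4)`. -/
theorem nonempty_mulEquiv_affine (a : Ω) (N : Subgroup G) [N.Normal]
    (htr : IsPretransitive N Ω) (hreg : ∀ n ∈ N, n • a = a → n = 1)
    (hcomm : ∀ x ∈ N, ∀ y ∈ N, x * y = y * x) (hsq : ∀ x ∈ N, x * x = 1)
    (hN : Nat.card N = 16) (hGa : Nat.card (stabilizer G a) = 180)
    (z : G) (hza : z • a = a) (hz3 : z ^ 3 = 1)
    (hzc : ∀ g : G, g • a = a → g * z = z * g) (hzf : ∀ x : Ω, z • x = x → x = a) :
    ∃ (F : Type) (_ : Field F) (_ : Fintype F), Fintype.card F = 4 ∧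
      Nonempty (G ≃* ((Fin 2 → F) ≃ᵃ[F] (Fin 2 → F))) := by
  classical
  obtain ⟨F, iF, iFin, hF⟩ := exists_field
  refine ⟨F, iF, iFin, hF, ?_⟩
  obtain ⟨w, hw⟩ := exists_omega hF
  letI : CommGroup N := { (inferInstance : Group N) with
    mul_comm := fun x y => Subtype.ext (hcomm x x.2 y y.2) }
  let A := Additive N
  have h2 : ∀ v : A, v + v = 0 := fun v =>
    Additive.toMul.injective (Subtype.ext (hsq (Additive.toMul v : N) (Additive.toMul v : N).2))
  let C : G →* MulAut N := MulAut.conjNormal
  let E : A →+ A := MonoidHom.toAdditive (C z).toMonoidHom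
  have hE : ∀ v, E (E v) = E v + v := by
    intro v
    obtain ⟨n, rfl⟩ := Additive.ofMul.surjective v
    apply Additive.toMul.injective
    change C z (C z n) = C z n * n
    set m : N := C z (C z n) * (C z n * n) with hm
    have hzz : ∀ x : N, C z (C z (C z x)) = x := fun x => by
      rw [← MulAut.mul_apply, ← MulAut.mul_apply, ← map_mul, ← map_mul]
      have : z * (z * z) = 1 := by rw [← pow_two, ← pow_succ', hz3]
      rw [mul_assoc, this, map_one]; rfl
    have hfix : C z m = m := by
      rw [hm, map_mul, map_mul, hzz]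
      ac_rfl
    have hma : z • ((m : G) • a) = (m : G) • a := by
      rw [← conj_smul hza]
      conv_rhs => rw [← hfix, MulAut.conjNormal_apply]
    have : m = 1 := Subtype.ext (hreg m m.2 (hzf _ hma))
    rw [hm] at this
    rw [eq_inv_of_mul_eq_one_left this, inv_eq_of_mul_eq_one_right]
    exact Subtype.ext (hsq _ (C z n * n).2)
  obtain ⟨mF, hmw⟩ := exists_module hF hw h2 E hE
  letI : Module F A := mF
  have hdim : Module.finrank F A = 2 := by
    have hc : Nat.card A = Nat.card F ^ Module.finrank F A := Module.natCard_eq_pow_finrank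
    have hA : Nat.card A = 16 := hN
    rw [hA, Nat.card_eq_fintype_card (α := F), hF] at hc
    exact Nat.pow_right_injective (le_refl 2 |>.trans (by norm_num : 2 ≤ 4)) (show 4 ^ _ = 4 ^ 2 from
      hc.symm.trans (by norm_num))
  let β : A ≃ₗ[F] (Fin 2 → F) := (Module.finBasisOfFinrankEq F A hdim).equivFun
  -- the points
  let pt : A → Ω := fun v => ((Additive.toMul v : N) : G) • a
  have hpt : Function.Bijective pt := by
    constructor
    · intro v v' h
      have h' : (((Additive.toMul v' : N)⁻¹ * Additive.toMul v : N) : G) • a = a := by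
        rw [Subgroup.coe_mul, mul_smul, Subgroup.coe_inv, inv_smul_eq_iff]
        exact h
      exact Additive.toMul.injective (inv_mul_eq_one.1 (Subtype.ext (hreg _ (Subtype.prop _) h'))).symm
    · intro x
      obtain ⟨n, hn⟩ := exists_smul_eq (↥N) a x
      exact ⟨Additive.ofMul n, hn⟩
  let e : Ω ≃ (Fin 2 → F) := (Equiv.ofBijective pt hpt).symm.trans β.toEquiv
  have he : ∀ v : A, e (pt v) = β v := fun v => by
    simp only [e, Equiv.trans_apply]
    rw [show (Equiv.ofBijective pt hpt).symm (pt v) = v from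
      (Equiv.ofBijective pt hpt).symm_apply_apply v]
    rfl
  -- linear parts
  let S := stabilizer G a
  have hlinw : ∀ (s : S) (v : A), MonoidHom.toAdditive (C s).toMonoidHom (E v)
      = E (MonoidHom.toAdditive (C s).toMonoidHom v) := by
    intro s v
    obtain ⟨n, rfl⟩ := Additive.ofMul.surjective v
    apply Additive.toMul.injective
    change C s (C z n) = C z (C s n)
    rw [← MulAut.mul_apply, ← MulAut.mul_apply, ← map_mul, ← map_mul, hzc s s.2]
  have hlin : ∀ (s : S) (c : F) (v : A), MonoidHom.toAdditive (C s).toMonoidHom (c • v)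
      = c • MonoidHom.toAdditive (C s).toMonoidHom v := by
    intro s c v
    rcases field_cases hF hw c with rfl | rfl | rfl | rfl
    · simp
    · simp
    · rw [hmw, hmw, hlinw]
    · rw [add_smul, add_smul, one_smul, one_smul, hmw, hmw, map_add, hlinw]
  let lam : S → ((Fin 2 → F) ≃ₗ[F] (Fin 2 → F)) := fun s =>
    β.symm ≪≫ₗ ({ MulEquiv.toAdditive (C s) with map_smul' := hlin s } : A ≃ₗ[F] A) ≪≫ₗ β
  have hlam : ∀ (s : S) (v : A), lam s (β v) = β (Additive.ofMul (C s (Additive.toMul v))) := by
    intro s v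
    simp only [lam, LinearEquiv.trans_apply, LinearEquiv.symm_apply_apply]
    rfl
  have hlame : ∀ (s : S) (x : Ω), e ((s : G) • x) = lam s (e x) := by
    intro s x
    obtain ⟨v, rfl⟩ := hpt.2 x
    rw [he, hlam, ← he]
    change _ = e (((C s (Additive.toMul v) : N) : G) • a)
    rw [MulAut.conjNormal_apply, conj_smul s.2]
  have hlaminj : Function.Injective lam := by
    intro s t h
    refine Subtype.ext (eq_of_smul_eq_smul fun x : Ω => e.injective ?_)
    rw [hlame, hlame, h]
  have hGL : Nat.card ((Fin 2 → F) ≃ₗ[F] (Fin 2 → F)) = 180 := by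
    rw [← Nat.card_congr (Matrix.GeneralLinearGroup.toLin.trans
      (LinearMap.GeneralLinearGroup.generalLinearEquiv F (Fin 2 → F))).toEquiv,
      Matrix.card_GL_field, hF]
    rfl
  have : Finite ((Fin 2 → F) ≃ₗ[F] (Fin 2 → F)) := Finite.of_injective _ DFunLike.coe_injective
  have hlamsurj : Function.Surjective lam :=
    (hlaminj.bijective_of_nat_card_le (le_of_eq (hGL.trans hGa.symm))).2
  have htrans : ∀ (n : N) (x : Ω), e ((n : G) • x) = β (Additive.ofMul n) + e x := by
    intro n x
    obtain ⟨v, rfl⟩ := hpt.2 x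
    rw [he, ← map_add, ← he]
    change _ = e (((n * Additive.toMul v : N) : G) • a)
    rw [Subgroup.coe_mul, mul_smul]
  -- the two permutation groups agree
  let π : G →* Equiv.Perm (Fin 2 → F) :=
    (e.permCongrHom : Equiv.Perm Ω ≃* Equiv.Perm (Fin 2 → F)).toMonoidHom.comp
      (MulAction.toPermHom G Ω)
  have hπ : ∀ g x, π g (e x) = e (g • x) := fun g x => by
    simp [π, Equiv.permCongrHom, Equiv.permCongr_apply]
  have hπinj : Function.Injective π :=
    (e.permCongrHom).injective.comp (MulAction.toPerm_injective (α := G) (β := Ω))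
  let ι : ((Fin 2 → F) ≃ᵃ[F] (Fin 2 → F)) →* Equiv.Perm (Fin 2 → F) :=
    { toFun := fun T => T.toEquiv, map_one' := rfl, map_mul' := fun _ _ => rfl }
  have hιinj : Function.Injective ι := AffineEquiv.toEquiv_injective
  let aff : N → S → ((Fin 2 → F) ≃ᵃ[F] (Fin 2 → F)) := fun n s =>
    (lam s).toAffineEquiv.trans (AffineEquiv.constVAdd F (Fin 2 → F) (β (Additive.ofMul n)))
  have haff : ∀ (n : N) (s : S), π ((n : G) * s) = ι (aff n s) := by
    intro n s
    refine Equiv.ext fun y => ?_
    obtain ⟨x, rfl⟩ := e.surjective y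
    rw [hπ, mul_smul, htrans, hlame]
    rfl
  have hrange : π.range = ι.range := by
    apply le_antisymm
    · rintro _ ⟨g, rfl⟩
      obtain ⟨n, hn⟩ := exists_smul_eq (↥N) a (g • a)
      have hs : (n : G)⁻¹ * g ∈ S := by
        rw [mem_stabilizer_iff, mul_smul, inv_smul_eq_iff]
        exact hn.symm
      refine ⟨aff n ⟨_, hs⟩, ?_⟩
      rw [← haff]
      congr 1
      exact mul_inv_cancel_left _ _
    · rintro _ ⟨T, rfl⟩
      obtain ⟨s, hs⟩ := hlamsurj T.linear
      obtain ⟨v, hv⟩ := β.surjective (T 0)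
      refine ⟨((Additive.toMul v : N) : G) * s, ?_⟩
      rw [haff]
      congr 1
      ext y : 1
      have := T.map_vadd 0 y
      simp only [vadd_eq_add, add_zero] at this
      rw [this]
      simp [aff, hs, hv, add_comm]
  exact ⟨(MonoidHom.ofInjective hπinj).trans
    ((MulEquiv.subgroupCongr hrange).trans (MonoidHom.ofInjective hιinj).symm)⟩

/-! ### The lines through a point -/

theorem altFour_involution :
    ∃ h : ↥(alternatingGroup (Fin 4)), h ≠ 1 ∧ h * h = 1 := by
  decide +kernel

theorem altFour_four : ∀ h : ↥(alternatingGroup (Fin 4)), h * h * (h * h) = 1 → h ≠ 1 →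
    ∃ c d : ↥(alternatingGroup (Fin 4)), d * h * d⁻¹ = h * (c * h * c⁻¹) := by
  decide +kernel

theorem altFour_comm : ∀ k : ↥(alternatingGroup (Fin 4)), k ≠ 1 → k * k = 1 ∨
    ∃ c : ↥(alternatingGroup (Fin 4)), k * c * k⁻¹ * c⁻¹ ≠ 1 ∧
      k * c * k⁻¹ * c⁻¹ * (k * c * k⁻¹ * c⁻¹) = 1 := by
  decide +kernel

omit [Finite G] [Fintype Ω] [FaithfulSMul G Ω] in
theorem exists_hom (h2 : IsMultiplyPretransitive G Ω 2) (a b : Ω) (hab : a ≠ b)
    (e : ↥(stabilizer G a ⊓ stabilizer G b) ≃* ↥(alternatingGroup (Fin 4)))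
    {x y : Ω} (hxy : x ≠ y) :
    ∃ φ : ↥(alternatingGroup (Fin 4)) →* G, Function.Injective φ ∧
      (∀ h, φ h • x = x ∧ φ h • y = y) ∧
      (∀ g : G, g • x = x → g • y = y → ∃ h, φ h = g) := by
  obtain ⟨g, hga, hgb⟩ := PermMultiTrans.exists_smul_two (G := G) hab hxy
  refine ⟨((MulAut.conj g).toMonoidHom.comp (Subgroup.subtype _)).comp e.symm.toMonoidHom,
    ((MulAut.conj g).injective.comp Subtype.val_injective).comp e.symm.injective,
    fun h => ?_, fun k hkx hky => ?_⟩
  · obtain ⟨h1, h2⟩ := (e.symm h).2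
    change (g * (e.symm h : G) * g⁻¹) • x = x ∧ (g * (e.symm h : G) * g⁻¹) • y = y
    constructor
    · rw [← hga, mul_smul, mul_smul, inv_smul_smul, mem_stabilizer_iff.1 h1]
    · rw [← hgb, mul_smul, mul_smul, inv_smul_smul, mem_stabilizer_iff.1 h2]
  · have hk : g⁻¹ * k * g ∈ stabilizer G a ⊓ stabilizer G b := by
      constructor
      · change (g⁻¹ * k * g) • a = a
        rw [mul_smul, mul_smul, hga, hkx, inv_smul_eq_iff, hga]
      · change (g⁻¹ * k * g) • b = b
        rw [mul_smul, mul_smul, hgb, hky, inv_smul_eq_iff, hgb]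
    refine ⟨e ⟨_, hk⟩, ?_⟩
    change g * ((e.symm (e ⟨_, hk⟩)) : G) * g⁻¹ = k
    rw [e.symm_apply_apply]
    group

omit [Finite G] [Fintype Ω] [FaithfulSMul G Ω] in
theorem fixedBy_eq_of_two (h2 : IsMultiplyPretransitive G Ω 2) (a b : Ω) (hab : a ≠ b)
    (hline : ∀ v w : G, v • a = a → v • b = b → w • a = a → w • b = b → orderOf v = 2 →
      orderOf w = 2 → fixedBy Ω v = fixedBy Ω w)
    {x y : Ω} (hxy : x ≠ y) {v w : G} (hvx : v • x = x) (hvy : v • y = y) (hwx : w • x = x)
    (hwy : w • y = y) (hv : orderOf v = 2) (hw : orderOf w = 2) :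
    fixedBy Ω v = fixedBy Ω w := by
  obtain ⟨g, hga, hgb⟩ := PermMultiTrans.exists_smul_two (G := G) hab hxy
  have hfix : ∀ k : G, ∀ p q : Ω, g • p = q → k • q = q → (g⁻¹ * k * g) • p = p := by
    intro k p q hpq hk
    rw [mul_smul, mul_smul, hpq, hk, inv_smul_eq_iff, hpq]
  have hord : ∀ k : G, orderOf (g⁻¹ * k * g) = orderOf k := fun k => by
    have := MulEquiv.orderOf_eq (MulAut.conj g⁻¹) k
    simpa using this
  have := hline _ _ (hfix v a x hga hvx) (hfix v b y hgb hvy) (hfix w a x hga hwx)
    (hfix w b y hgb hwy) ((hord v).trans hv) ((hord w).trans hw)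
  have h' := congrArg (g • ·) this
  simp only [smul_fixedBy] at h'
  simpa [mul_assoc] using h'

omit [Finite G] [Fintype Ω] [FaithfulSMul G Ω] in
theorem orderOf_two {H : Type*} [Group H] {h : H} (h1 : h ≠ 1) (hh : h * h = 1) :
    orderOf h = 2 :=
  haveI := Fact.mk Nat.prime_two
  orderOf_eq_prime (by rw [pow_two, hh]) h1

omit [Finite G] [Fintype Ω] [FaithfulSMul G Ω] in
/-- An involution cannot act without fixed points on a set of three points. -/
theorem exists_fixed_of_three (t : G) (hsq : t * t = 1) (S : Finset Ω) (hS : S.card = 3)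
    (hinv : ∀ y ∈ S, t • y ∈ S) : ∃ y ∈ S, t • y = y := by
  by_contra hne
  push Not at hne
  have : ∑ _y ∈ S, (1 : ZMod 2) = 0 :=
    Finset.sum_involution (fun y _ => t • y) (fun _ _ => by decide)
      (fun y hy _ => hne y hy) (fun y hy => hinv y hy)
      (fun y _ => by rw [← mul_smul, hsq, one_smul])
  rw [Finset.sum_const, hS] at this
  exact absurd this (by decide)

/-- The main theorem. -/
theorem main (h2 : MulAction.IsMultiplyPretransitive G Ω 2) (a b : Ω) (hab : a ≠ b)
    (e : ↥(MulAction.stabilizer G a ⊓ MulAction.stabilizer G b) ≃* ↥(alternatingGroup (Fin 4)))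
    (hn : Fintype.card Ω = 16)
    (hfour : ∀ g : G, orderOf g = 2 → g • a = a → Nat.card (MulAction.fixedBy Ω g) = 4)
    (hline : ∀ v w : G, v • a = a → v • b = b → w • a = a → w • b = b → orderOf v = 2 →
      orderOf w = 2 → MulAction.fixedBy Ω v = MulAction.fixedBy Ω w) :
    ∃ (F : Type) (_ : Field F) (_ : Fintype F), Fintype.card F = 4 ∧
        Nonempty (G ≃* ((Fin 2 → F) ≃ᵃ[F] (Fin 2 → F))) := by
  classical
  haveI := h2
  haveI : IsPreprimitive G Ω := isPreprimitive_of_is_two_pretransitive h2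
  have hn' : Nat.card Ω = 16 := Nat.card_eq_fintype_card.trans hn
  -- orders
  have hA4 : Nat.card ↥(alternatingGroup (Fin 4)) = 12 := by
    rw [Nat.card_eq_fintype_card]; decide
  have hGa : Nat.card (stabilizer G a) = 180 := by
    have horb : orbit (stabilizer G a) b = ({a}ᶜ : Set Ω) := by
      ext y
      constructor
      · rintro ⟨g, rfl⟩ hy
        have : (g : G) • b = (g : G) • a := (hy : (g : G) • b = a).trans g.2.symm
        exact hab (smul_left_cancel _ this).symm
      · intro hy
        obtain ⟨g, hga, hgb⟩ := PermMultiTrans.exists_smul_two (G := G) hab (Ne.symm hy)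
        exact ⟨⟨g, hga⟩, hgb⟩
    have h15 : Nat.card (orbit (stabilizer G a) b) = 15 := by
      rw [horb, Nat.card_coe_set_eq, Set.ncard_compl, Set.ncard_singleton, hn']
    have h12 : Nat.card (stabilizer (stabilizer G a) b) = 12 := by
      rw [← hA4, ← Nat.card_congr e.toEquiv]
      exact Nat.card_congr
        { toFun := fun g => ⟨g.1.1, g.1.2, g.2⟩
          invFun := fun g => ⟨⟨g.1, g.2.1⟩, g.2.2⟩
          left_inv := fun g => rfl
          right_inv := fun g => rfl }
    have := PermBasic.card_orbit_mul_card_stabilizer (G := stabilizer G a) b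
    rw [h15, h12] at this
    omega
  have hG : Nat.card G = 2880 := by
    rw [← PermBasic.card_mul_card_stabilizer (G := G) a, hn', hGa]
  -- the lines
  let L := {S : Set Ω // ∃ t : G, orderOf t = 2 ∧ t • a = a ∧ fixedBy Ω t = S}
  have hinv : ∀ x : Ω, x ≠ a → ∃ t : G, orderOf t = 2 ∧ t • a = a ∧ t • x = x := by
    intro x hx
    obtain ⟨φ, hφ, hfix, -⟩ := exists_hom h2 a b hab e (Ne.symm hx)
    obtain ⟨h, h1, hh⟩ := altFour_involution
    refine ⟨φ h, ?_, hfix h⟩
    exact orderOf_two (fun e => h1 (hφ (e.trans φ.map_one.symm))) (by rw [← map_mul, hh, map_one])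
  choose tau htau using hinv
  let ell : {x : Ω // x ≠ a} → L := fun x =>
    ⟨_, tau x.1 x.2, (htau x.1 x.2).1, (htau x.1 x.2).2.1, rfl⟩
  have hmem : ∀ x, (x : Ω) ∈ (ell x).1 := fun x => (htau x.1 x.2).2.2
  have huniq : ∀ (x : {x : Ω // x ≠ a}) (S : L), (x : Ω) ∈ S.1 → ell x = S := by
    rintro x ⟨_, t, ht, hta, rfl⟩ hx
    exact Subtype.ext (fixedBy_eq_of_two h2 a b hab hline (Ne.symm x.2) (htau x.1 x.2).2.1
      (htau x.1 x.2).2.2 hta hx (htau x.1 x.2).1 ht)
  have haS : ∀ S : L, a ∈ S.1 := by rintro ⟨_, t, ht, hta, rfl⟩; exact hta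
  have hS4 : ∀ S : L, S.1.ncard = 4 := by
    rintro ⟨_, t, ht, hta, rfl⟩
    rw [← Nat.card_coe_set_eq]
    exact hfour t ht hta
  have hS3 : ∀ S : L, (S.1 \ {a}).ncard = 3 := fun S => by
    rw [Set.ncard_sdiff_singleton_of_mem (haS S), hS4]
  haveI : Fintype L := Fintype.ofFinite L
  have hL : Nat.card L = 5 := by
    have hfib : ∀ S : L, Nat.card {x // ell x = S} = 3 := by
      intro S
      rw [← hS3 S, ← Nat.card_coe_set_eq]
      exact Nat.card_congr
        { toFun := fun x => ⟨x.1.1, by have := hmem x.1; rwa [x.2] at this, x.1.2⟩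
          invFun := fun y => ⟨⟨y.1, y.2.2⟩, huniq _ S y.2.1⟩
          left_inv := fun x => rfl
          right_inv := fun y => rfl }
    have h15 : Nat.card {x : Ω // x ≠ a} = 15 := by
      rw [Nat.card_eq_fintype_card, Fintype.card_subtype_compl, Fintype.card_subtype_eq, hn]
    rw [← Nat.card_congr (Equiv.sigmaFiberEquiv ell), Nat.card_sigma,
      Finset.sum_congr rfl (fun S _ => hfib S), Finset.sum_const, Finset.card_univ,
      ← Nat.card_eq_fintype_card, smul_eq_mul] at h15
    omega
  let Sa := stabilizer G a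
  have hact : ∀ (g : Sa) (S : L), ∃ t : G, orderOf t = 2 ∧ t • a = a ∧
      fixedBy Ω t = (g : G) • S.1 := by
    rintro g ⟨_, t, ht, hta, rfl⟩
    refine ⟨g * t * (g : G)⁻¹, ?_, ?_, (smul_fixedBy _ _ _).symm⟩
    · rw [← ht]; exact MulEquiv.orderOf_eq (MulAut.conj (g : G)) t
    · rw [conj_smul g.2, hta, mem_stabilizer_iff.1 g.2]
  letI act : MulAction Sa L :=
    { smul := fun g S => ⟨(g : G) • S.1, hact g S⟩
      one_smul := fun S => Subtype.ext (one_smul G S.1)
      mul_smul := fun g h S => Subtype.ext (mul_smul (g : G) (h : G) S.1) }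
  let ρ : Sa →* Equiv.Perm L := MulAction.toPermHom Sa L
  let K := ρ.ker
  have hKS : ∀ (k : K) (S : L) (y : Ω), y ∈ S.1 → ((k : Sa) : G) • y ∈ S.1 := by
    intro k S y hy
    have hk : ρ (k : Sa) = 1 := MonoidHom.mem_ker.1 k.2
    have : (k : Sa) • S = S := by
      have := congrArg (fun p : Equiv.Perm L => p S) hk
      exact this
    rw [← congrArg Subtype.val this]
    exact Set.smul_mem_smul_set hy
  have hnoinv : ∀ k : K, orderOf ((k : Sa) : G) ≠ 2 := by
    intro k hk
    set t : G := ((k : Sa) : G) with htdef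
    have hta : t • a = a := (k : Sa).2
    obtain ⟨y, hy⟩ : ∃ y, y ∉ fixedBy Ω t := by
      by_contra hall
      push Not at hall
      have h := hfour t hk hta
      rw [Set.eq_univ_of_forall hall, Nat.card_congr (Equiv.Set.univ Ω), hn'] at h
      omega
    have hya : y ≠ a := fun h => hy (h ▸ hta)
    set S := ell ⟨y, hya⟩
    have htt : t * t = 1 := by rw [← pow_two, ← hk, pow_orderOf_eq_one]
    obtain ⟨c, hc, hct⟩ := exists_fixed_of_three t htt (S.1 \ {a}).toFinset
      (by rw [← Set.ncard_eq_toFinset_card', hS3]) (fun c hc => by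
        rw [Set.mem_toFinset] at hc ⊢
        exact ⟨hKS k S c hc.1, fun h => hc.2 (smul_left_cancel t
          ((h : t • c = a).trans hta.symm))⟩)
    rw [Set.mem_toFinset] at hc
    have e1 := huniq ⟨c, hc.2⟩ S hc.1
    have e2 := huniq ⟨c, hc.2⟩ ⟨_, t, hk, hta, rfl⟩ hct
    have : y ∈ fixedBy Ω t := by
      have := hmem ⟨y, hya⟩
      rw [show ell ⟨y, hya⟩ = S from rfl, ← e1, e2] at this
      exact this
    exact hy this
  have hsemi : ∀ (k : K) (x : Ω), x ≠ a → ((k : Sa) : G) • x = x → k = 1 := by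
    intro k x hx hkx
    obtain ⟨φ, hφ, hfix, hsur⟩ := exists_hom h2 a b hab e (Ne.symm hx)
    obtain ⟨h, hh⟩ := hsur _ (k : Sa).2 hkx
    by_contra hk
    have h1 : h ≠ 1 := by
      rintro rfl
      exact hk (Subtype.ext (Subtype.ext (by rw [← hh, map_one]; rfl)))
    rcases altFour_comm h h1 with hsq | ⟨c, hc1, hc2⟩
    · refine hnoinv k ?_
      rw [← hh]
      exact orderOf_two (fun e => h1 (hφ (e.trans φ.map_one.symm)))
        (by rw [← map_mul, hsq, map_one])
    · let cs : Sa := ⟨φ c, (hfix c).1⟩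
      have hm : (k : Sa) * cs * (k : Sa)⁻¹ * cs⁻¹ ∈ K := by
        have := (inferInstance : K.Normal).conj_mem _ (K.inv_mem k.2) cs
        have := K.mul_mem k.2 this
        simpa [mul_assoc] using this
      refine hnoinv ⟨_, hm⟩ ?_
      change orderOf (((k : Sa) : G) * φ c * ((k : Sa) : G)⁻¹ * (φ c)⁻¹) = 2
      rw [← hh, ← map_inv φ h, ← map_inv φ c, ← map_mul, ← map_mul, ← map_mul]
      exact orderOf_two (fun e => hc1 (hφ (e.trans φ.map_one.symm)))
        (by rw [← map_mul, hc2, map_one])
  have hKle : Nat.card K ≤ 3 := by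
    set S := ell ⟨b, hab.symm⟩
    rw [← hS3 S, ← Nat.card_coe_set_eq]
    refine Nat.card_le_card_of_injective
      (fun k : K => (⟨((k : Sa) : G) • b, hKS k S b (hmem ⟨b, hab.symm⟩), fun h =>
        hab.symm (smul_left_cancel _ ((h : ((k : Sa) : G) • b = a).trans (k : Sa).2.symm))⟩ :
        (S.1 \ {a} : Set Ω))) ?_
    intro k k' h
    have h' := congrArg Subtype.val h
    refine (inv_mul_eq_one.1 (hsemi (k'⁻¹ * k) b hab.symm ?_)).symm
    change ((((k' : Sa) : G))⁻¹ * ((k : Sa) : G)) • b = b
    rw [mul_smul, inv_smul_eq_iff]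
    exact h'
  have hK : Nat.card K = 3 := by
    have h1 := Subgroup.index_mul_card K
    rw [hGa] at h1
    have h2' : K.index ∣ 120 := by
      rw [Subgroup.index_ker]
      have := Subgroup.card_subgroup_dvd_card ρ.range
      rw [Nat.card_perm, hL] at this
      exact this
    have hpos : 0 < Nat.card K := Nat.card_pos
    have : Nat.card K = 1 ∨ Nat.card K = 2 ∨ Nat.card K = 3 := by omega
    rcases this with h | h | h
    · rw [h, mul_one] at h1
      rw [h1] at h2'
      norm_num at h2'
    · rw [h] at h1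
      rw [show K.index = 90 by omega] at h2'
      norm_num at h2'
    · exact h
  -- centrality
  haveI : Fact (Nat.Prime 3) := ⟨Nat.prime_three⟩
  haveI : IsCyclic K := isCyclic_of_prime_card hK
  let χ : Sa →* (ZMod (Nat.card K))ˣ :=
    (IsCyclic.mulAutMulEquiv K).toMonoidHom.comp MulAut.conjNormal
  have hχ2 : ∀ g, χ g ^ 2 = 1 := fun g => by
    have := ZMod.pow_totient (χ g)
    have h2 : Nat.totient (Nat.card K) = 2 := by rw [hK]; decide
    rwa [h2] at this
  have hχ4 : ∀ g : Sa, g ^ 4 = 1 → χ g = 1 := by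
    intro g hg
    have hg4 : (g : G) ^ 4 = 1 := congrArg Subtype.val hg
    obtain ⟨x, hxa, hgx⟩ : ∃ x, x ≠ a ∧ (g : G) • x = x := by
      let P := Subgroup.zpowers (g : G)
      have hP : IsPGroup 2 P := by
        refine IsPGroup.of_card (n := (Nat.log 2 (orderOf (g : G)))) ?_
        rw [Nat.card_zpowers]
        have hd : orderOf (g : G) ∣ 2 ^ 2 := orderOf_dvd_of_pow_eq_one (by simpa using hg4)
        obtain ⟨i, -, hi⟩ := (Nat.dvd_prime_pow Nat.prime_two).1 hd
        rw [hi, Nat.log_pow (by norm_num)]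
      have hmod := hP.card_modEq_card_fixedPoints Ω
      rw [hn'] at hmod
      have hdvd : 2 ∣ Nat.card (fixedPoints P Ω) := by
        rw [Nat.ModEq] at hmod
        omega
      have haF : a ∈ fixedPoints P Ω := by
        rintro ⟨q, hq⟩
        exact mem_stabilizer_iff.1 (Subgroup.zpowers_le.2 g.2 hq)
      have hgt : 1 < (fixedPoints P Ω).ncard := by
        rw [← Nat.card_coe_set_eq]
        have : 0 < Nat.card (fixedPoints P Ω) := @Nat.card_pos _ ⟨⟨a, haF⟩⟩ _
        omega
      obtain ⟨x, hx, hxa⟩ := Set.exists_ne_of_one_lt_ncard hgt a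
      exact ⟨x, hxa, hx ⟨(g : G), Subgroup.mem_zpowers _⟩⟩
    obtain ⟨φ, hφ, hfix, hsur⟩ := exists_hom h2 a b hab e (Ne.symm hxa)
    let φ' : ↥(alternatingGroup (Fin 4)) →* Sa := φ.codRestrict Sa fun h => (hfix h).1
    obtain ⟨h, hh⟩ := hsur _ g.2 hgx
    have hg' : φ' h = g := Subtype.ext hh
    by_cases h1 : h = 1
    · rw [← hg', h1, map_one, map_one]
    · have h4 : h * h * (h * h) = 1 := hφ (by
        rw [map_mul, map_mul, map_one, hh, ← hg4, ← pow_two, ← pow_two, ← pow_mul])
      obtain ⟨c, d, hcd⟩ := altFour_four h h4 h1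
      have := congrArg (fun q => χ (φ' q)) hcd
      simp only [map_mul, map_inv, hg'] at this
      rw [mul_comm (χ (φ' d)), mul_inv_cancel_right, mul_comm (χ (φ' c)), mul_inv_cancel_right]
        at this
      exact mul_left_cancel (this.symm.trans (mul_one _).symm)
  have hχ : ∀ g, χ g = 1 := by
    intro g
    have h180 : g ^ 180 = 1 := by
      have := pow_card_eq_one' (x := g)
      rwa [show Nat.card Sa = 180 from hGa] at this
    have := hχ4 (g ^ 45) (by rw [← pow_mul]; exact h180)
    rw [map_pow, show 45 = 2 * 22 + 1 from rfl, pow_succ, pow_mul, hχ2, one_pow, one_mul] at this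
    exact this
  obtain ⟨k, hk⟩ := exists_prime_orderOf_dvd_card' (G := K) 3 (by rw [hK])
  have hk1 : k ≠ 1 := fun h => by rw [h, orderOf_one] at hk; omega
  set z : G := ((k : Sa) : G) with hz
  have hz3 : z ^ 3 = 1 := by
    have := pow_orderOf_eq_one k
    rw [hk] at this
    exact congrArg (fun q : K => ((q : Sa) : G)) this
  have hzc : ∀ g : G, g • a = a → g * z = z * g := by
    intro g hg
    have hconj : MulAut.conjNormal (H := K) (⟨g, hg⟩ : Sa) = 1 :=
      (IsCyclic.mulAutMulEquiv K).injective ((hχ ⟨g, hg⟩).trans (map_one _).symm)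
    have := congrArg (fun p : MulAut K => (((p k : K) : Sa) : G)) hconj
    simp only [MulAut.conjNormal_apply, MulAut.one_apply, Subgroup.coe_mul, Subgroup.coe_inv]
      at this
    exact mul_inv_eq_iff_eq_mul.1 this
  have hzf : ∀ x : Ω, z • x = x → x = a := fun x hx =>
    by_contra fun hne => hk1 (hsemi k x hne hx)
  -- a regular normal subgroup
  have : Nontrivial G := Finite.one_lt_card_iff_nontrivial.1 (by omega)
  obtain ⟨N, -, hN⟩ := PermMinimalNormal.exists_isMinNormal_le (G := G) ⊤ top_ne_bot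
  haveI := hN.1
  have htr : IsPretransitive N Ω := PermBasic.isPretransitive_of_normal N hN.2.1
  have h16 : 16 ∣ Nat.card N := by
    rw [← hn']
    haveI : Nonempty Ω := ⟨a⟩
    exact PermBasic.card_dvd_of_transitive (G := N) (X := Ω)
  rcases PermBurnside.minNormal_of_twoTransitive (G := G) (X := Ω) (by omega) hN with
    ⟨hab', hreg⟩ | ⟨hnc, hsimple, -⟩
  · have hNc : Nat.card N = 16 := (PermBasic.card_eq_of_regular (G := N) (hreg a)).trans hn'
    obtain ⟨p, hp, hpow⟩ := hN.exists_prime_pow_eq_one hab'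
    haveI := Fact.mk hp
    have hp2 : p = 2 := by
      have hpN : IsPGroup p N := fun x => ⟨1, Subtype.ext (by simpa using hpow x x.2)⟩
      obtain ⟨i, hi⟩ := hpN.exists_card_eq
      have : p ∣ 2 ^ 4 := by
        rcases Nat.eq_zero_or_pos i with h0 | h0
        · rw [h0, pow_zero, hNc] at hi; omega
        · rw [show (2 : ℕ) ^ 4 = 16 from rfl, ← hNc, hi]
          exact dvd_pow_self p h0.ne'
      exact (Nat.prime_dvd_prime_iff_eq hp Nat.prime_two).1 (hp.dvd_of_dvd_pow this)
    subst hp2
    exact nonempty_mulEquiv_affine a N htr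
      (fun n hn hna => (PermBasic.stabilizer_subgroup_eq_bot_iff' N a).1 (hreg a) n hn hna)
      (fun x hx y hy => congrArg Subtype.val (hab'.is_comm.comm (⟨x, hx⟩ : N) ⟨y, hy⟩))
      (fun x hx => by rw [← pow_two]; exact hpow x hx) hNc hGa z (k : Sa).2 hz3 hzc hzf
  · exfalso
    haveI := hsimple
    have hd : Nat.card N ∣ 2880 := hG ▸ Subgroup.card_subgroup_dvd_card N
    have hle : Nat.card N ≤ 2880 := Nat.le_of_dvd (by norm_num) hd
    have := SimpleRangeLow81.card_lt_6000 (G := N) hnc (by omega)
    simp only [List.mem_cons, List.not_mem_nil, or_false] at this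
    rcases this with h | h | h | h | h | h | h | h | h | h | h <;> rw [h] at h16 hd <;> omega

end Cfsg.Agent.TwoPointA4Aff15
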