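import Mathlib

/-!
Counting lemmas for doubly transitive groups and small facts about the alternating group of degree
four.
-/

set_option autoImplicit false
set_option linter.unusedSectionVars false

open MulAction

namespace Cfsg.Agent.TwoPointA4Count15

section Act

variable {G : Type*} [Group G] {α : Type*} [MulAction G α]

/-- The action is transitive on ordered pairs of distinct points (no instance needed). -/
def PairTrans (G : Type*) [Group G] (α : Type*) [MulAction G α] : Prop :=
  ∀ p q p' q' : α, p ≠ q → p' ≠ q' → ∃ g : G, g • p = p' ∧ g • q = q'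

theorem pairTrans_of (h2 : IsMultiplyPretransitive G α 2) : PairTrans G α :=
  fun _ _ _ _ h h' => (is_two_pretransitive_iff.mp h2) h h'

theorem PairTrans.exists_fix (h : PairTrans G α) {a x y : α} (hx : x ≠ a) (hy : y ≠ a) :
    ∃ g : G, g • a = a ∧ g • x = y := h a x a y hx.symm hy.symm

theorem PairTrans.exists_move (h : PairTrans G α) {a b : α} (hab : a ≠ b) (x y : α) :
    ∃ g : G, g • x = y := by
  have key : ∀ z : α, ∃ g : G, g • a = z := by
    intro z
    by_cases hz : z = a
    · exact ⟨1, by rw [one_smul, hz]⟩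
    · obtain ⟨g, hg, -⟩ := h a b z a hab hz
      exact ⟨g, hg⟩
  obtain ⟨g, hg⟩ := key x
  obtain ⟨k, hk⟩ := key y
  exact ⟨k * g⁻¹, by rw [mul_smul, ← hg, inv_smul_smul, hk]⟩

variable [Fintype α] [Fintype G]

open scoped Classical in
/-- The number of fixed points. -/
noncomputable def fx (α : Type*) [Fintype α] [MulAction G α] (g : G) : ℕ :=
  (Finset.univ.filter fun x : α => g • x = x).card

theorem fx_eq_natCard (g : G) : fx α g = Nat.card (fixedBy α g) := by
  classical
  rw [fx, ← Fintype.card_subtype, Nat.card_eq_fintype_card]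
  exact Fintype.card_congr (Equiv.refl _)

theorem fx_le (g : G) : fx α g ≤ Fintype.card α := by
  classical
  exact Finset.card_le_univ _

theorem fx_conj (g z : G) : fx α (g * z * g⁻¹) = fx α z := by
  classical
  refine Finset.card_bij' (fun x _ => g⁻¹ • x) (fun x _ => g • x) ?_ ?_ ?_ ?_
  · intro x hx
    simp only [Finset.mem_filter, Finset.mem_univ, true_and] at hx ⊢
    rw [mul_smul, mul_smul] at hx
    conv_rhs => rw [← hx, inv_smul_smul]
  · intro x hx
    simp only [Finset.mem_filter, Finset.mem_univ, true_and] at hx ⊢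
    rw [mul_smul, mul_smul, inv_smul_smul, hx]
  · intro x _; simp
  · intro x _; simp

theorem one_lt_fx {g : G} {x y : α} (hxy : x ≠ y) (hx : g • x = x) (hy : g • y = y) :
    1 < fx α g :=
  Finset.one_lt_card.2 ⟨x, by simp [hx], y, by simp [hy], hxy⟩

theorem exists_pair_of_one_lt_fx {g : G} (h : 1 < fx α g) :
    ∃ x y : α, x ≠ y ∧ g • x = x ∧ g • y = y := by
  obtain ⟨x, hx, y, hy, hxy⟩ := Finset.one_lt_card.1 h
  simp only [Finset.mem_filter] at hx hy
  exact ⟨x, y, hxy, hx.2, hy.2⟩

theorem eq_of_fx_le_one {g : G} (h : fx α g ≤ 1) {x y : α} (hx : g • x = x) (hy : g • y = y) :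
    x = y := by
  by_contra hxy
  have := one_lt_fx hxy hx hy
  omega

theorem fx_pos {g : G} {x : α} (hx : g • x = x) : 0 < fx α g :=
  Finset.card_pos.2 ⟨x, by simp [hx]⟩

/-- An involution moves an even number of points. -/
theorem two_dvd_moved {z : G} (hz : z * z = 1) : 2 ∣ Fintype.card α - fx α z := by
  classical
  haveI : Fact (Nat.Prime 2) := ⟨Nat.prime_two⟩
  have hs : (MulAction.toPerm z : Equiv.Perm α).support.card = Fintype.card α - fx α z := by
    rw [fx, ← Finset.card_compl]
    congr 1
    ext x
    simp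
  rw [← hs]
  have hpow : (MulAction.toPerm z : Equiv.Perm α) ^ 2 = 1 := by
    ext x
    simp [pow_two, ← mul_smul, hz]
  exact Equiv.Perm.pow_prime_eq_one_iff.1 hpow |> fun h => by
    have := Equiv.Perm.sum_cycleType (MulAction.toPerm z : Equiv.Perm α)
    rw [← this]
    exact Multiset.dvd_sum fun x hx => by rw [h x hx]

/-- Double counting of incidences between a conjugation invariant set and ordered pairs. -/
theorem sum_pairs [DecidableEq α] (h2 : PairTrans G α) (S : Finset G) (hS : ∀ g z : G, z ∈ S → g * z * g⁻¹ ∈ S)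
    (R : G → α → α → Prop) [∀ z x y, Decidable (R z x y)]
    (hR : ∀ (g z : G) (x y : α), R z x y → R (g * z * g⁻¹) (g • x) (g • y))
    {a b : α} (hab : a ≠ b) :
    ∑ z ∈ S, (Finset.univ.filter fun p : α × α => p.1 ≠ p.2 ∧ R z p.1 p.2).card =
      Fintype.card α * (Fintype.card α - 1) * (S.filter fun z => R z a b).card := by
  classical
  set D : Finset (α × α) := (Finset.univ : Finset α).offDiag with hD
  have h1 : ∀ z, (Finset.univ.filter fun p : α × α => p.1 ≠ p.2 ∧ R z p.1 p.2) =
      D.bipartiteAbove (fun z p => R z p.1 p.2) z := by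
    intro z
    ext p
    simp [Finset.bipartiteAbove, hD]
  rw [Finset.sum_congr rfl fun z _ => congrArg Finset.card (h1 z),
    Finset.sum_card_bipartiteAbove_eq_sum_card_bipartiteBelow]
  have h3 : ∀ p ∈ D, (S.bipartiteBelow (fun z q => R z q.1 q.2) p).card =
      (S.filter fun z => R z a b).card := by
    intro p hp
    have hp' : p.1 ≠ p.2 := by simpa [hD] using hp
    obtain ⟨g, hga, hgb⟩ := h2 a b p.1 p.2 hab hp'
    symm
    refine Finset.card_bij' (fun z _ => g * z * g⁻¹) (fun z _ => g⁻¹ * z * g) ?_ ?_ ?_ ?_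
    · intro z hz
      simp only [Finset.mem_filter, Finset.bipartiteBelow] at hz ⊢
      exact ⟨hS g z hz.1, by have := hR g z a b hz.2; rwa [hga, hgb] at this⟩
    · intro z hz
      simp only [Finset.mem_filter, Finset.bipartiteBelow] at hz ⊢
      have h := hR g⁻¹ z _ _ hz.2
      rw [inv_inv, inv_smul_eq_iff.2 hga.symm, inv_smul_eq_iff.2 hgb.symm] at h
      exact ⟨by simpa using hS g⁻¹ z hz.1, h⟩
    · intro z _; group
    · intro z _; group
  rw [Finset.sum_congr rfl h3, Finset.sum_const, smul_eq_mul, hD, Finset.offDiag_card,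
    Finset.card_univ, Nat.mul_sub_one]

theorem count_swap (h2 : PairTrans G α) (S : Finset G) (hS : ∀ g z : G, z ∈ S → g * z * g⁻¹ ∈ S)
    {f : ℕ} (hf : ∀ z ∈ S, fx α z = f)
    {a b : α} (hab : a ≠ b) [DecidableEq α] :
    S.card * (Fintype.card α - f) =
      Fintype.card α * (Fintype.card α - 1) * (S.filter fun z => z • a = b).card := by
  classical
  have hR : ∀ (g z : G) (x y : α), z • x = y → (g * z * g⁻¹) • g • x = g • y := by
    intro g z x y h
    rw [mul_smul, inv_smul_smul, mul_smul, h]
  rw [← sum_pairs h2 S hS (fun z x y => z • x = y) hR hab]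
  have hz : ∀ z ∈ S, (Finset.univ.filter fun p : α × α => p.1 ≠ p.2 ∧ z • p.1 = p.2).card =
      Fintype.card α - f := by
    intro z hz
    rw [← hf z hz, fx, ← Finset.card_compl]
    refine Finset.card_bij' (fun p _ => p.1) (fun x _ => (x, z • x)) ?_ ?_ ?_ ?_
    · intro p hp
      simp only [Finset.mem_filter, Finset.mem_univ, true_and, Finset.mem_compl] at hp ⊢
      intro h
      exact hp.1 (h.symm.trans hp.2)
    · intro x hx
      simp only [Finset.mem_filter, Finset.mem_univ, true_and, Finset.mem_compl, and_true] at hx ⊢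
      exact fun h => hx h.symm
    · intro p hp
      simp only [Finset.mem_filter] at hp
      exact Prod.ext rfl hp.2.2
    · intro x _; rfl
  rw [Finset.sum_congr rfl hz, Finset.sum_const, smul_eq_mul]

theorem count_fixed_pairs (h2 : PairTrans G α) (S : Finset G)
    (hS : ∀ g z : G, z ∈ S → g * z * g⁻¹ ∈ S) {f : ℕ} (hf : ∀ z ∈ S, fx α z = f)
    {a b : α} (hab : a ≠ b) [DecidableEq α] :
    S.card * (f * (f - 1)) = Fintype.card α * (Fintype.card α - 1) *
      (S.filter fun z => z • a = a ∧ z • b = b).card := by
  classical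
  have hR : ∀ (g z : G) (x y : α), (z • x = x ∧ z • y = y) →
      ((g * z * g⁻¹) • g • x = g • x ∧ (g * z * g⁻¹) • g • y = g • y) := by
    rintro g z x y ⟨h, h'⟩
    constructor
    · rw [mul_smul, inv_smul_smul, mul_smul, h]
    · rw [mul_smul, inv_smul_smul, mul_smul, h']
  rw [← sum_pairs h2 S hS (fun z x y => z • x = x ∧ z • y = y) hR hab]
  have hz : ∀ z ∈ S, (Finset.univ.filter fun p : α × α => p.1 ≠ p.2 ∧
      (z • p.1 = p.1 ∧ z • p.2 = p.2)).card = f * (f - 1) := by
    intro z hz
    rw [← hf z hz, fx, Nat.mul_sub_one, ← Finset.offDiag_card]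
    congr 1
    ext p
    simp [Finset.mem_offDiag]
    tauto
  rw [Finset.sum_congr rfl hz, Finset.sum_const, smul_eq_mul]

theorem count_fixed_points (h2 : PairTrans G α) (S : Finset G)
    (hS : ∀ g z : G, z ∈ S → g * z * g⁻¹ ∈ S) {f : ℕ} (hf : ∀ z ∈ S, fx α z = f)
    {a b : α} (hab : a ≠ b) [DecidableEq α] :
    S.card * f = Fintype.card α * (S.filter fun z => z • a = a).card := by
  classical
  have h1 : ∀ z ∈ S, ((Finset.univ : Finset α).bipartiteAbove (fun z x => z • x = x) z).card = f := by
    intro z hz
    rw [← hf z hz, fx]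
    congr 1
    ext x
    simp [Finset.bipartiteAbove]
  have h3 : ∀ x : α, (S.bipartiteBelow (fun (z : G) (x : α) => z • x = x) x).card =
      (S.filter fun z => z • a = a).card := by
    intro x
    obtain ⟨g, hg⟩ := h2.exists_move hab a x
    symm
    refine Finset.card_bij' (fun z _ => g * z * g⁻¹) (fun z _ => g⁻¹ * z * g) ?_ ?_ ?_ ?_
    · intro z hz
      simp only [Finset.mem_filter, Finset.bipartiteBelow] at hz ⊢
      exact ⟨hS g z hz.1, by rw [← hg, mul_smul, inv_smul_smul, mul_smul, hz.2]⟩
    · intro z hz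
      simp only [Finset.mem_filter, Finset.bipartiteBelow] at hz ⊢
      exact ⟨by simpa using hS g⁻¹ z hz.1,
        by rw [mul_smul, mul_smul, hg, hz.2, ← hg, inv_smul_smul]⟩
    · intro z _; group
    · intro z _; group
  have h4 := Finset.sum_card_bipartiteAbove_eq_sum_card_bipartiteBelow (r := fun (z : G) (x : α) =>
    z • x = x) (s := S) (t := Finset.univ)
  rw [Finset.sum_congr rfl h1, Finset.sum_congr rfl fun x _ => h3 x, Finset.sum_const,
    Finset.sum_const, smul_eq_mul, smul_eq_mul, Finset.card_univ] at h4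
  exact h4

/-- Orbit counting for a subgroup transitive on a set. -/
theorem card_eq_of_transOn (K : Subgroup G) (X : Set α) {x : α} (hx : x ∈ X)
    (hK : ∀ k ∈ K, k • x ∈ X) (htr : ∀ y ∈ X, ∃ k ∈ K, k • x = y) :
    Nat.card K = Nat.card X * Nat.card ↥(K ⊓ stabilizer G x) := by
  classical
  have horb : orbit K x = X := by
    ext y
    constructor
    · rintro ⟨k, rfl⟩
      exact hK k k.2
    · intro hy
      obtain ⟨k, hk, rfl⟩ := htr y hy
      exact ⟨⟨k, hk⟩, rfl⟩
  have h := Subgroup.index_mul_card (stabilizer K x)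
  rw [index_stabilizer, horb, ← Nat.card_coe_set_eq] at h
  rw [← h]
  congr 1
  refine Nat.card_congr ⟨fun k => ⟨k.1, ⟨k.1.2, k.2⟩⟩, fun k => ⟨⟨k.1, k.2.1⟩, k.2.2⟩,
    fun _ => rfl, fun _ => rfl⟩

end Act

section Coset

variable {G : Type*} [Group G] [Fintype G] [DecidableEq G]

/-- Involutions in a coset correspond to inverted elements. -/
theorem card_inv_coset (H : Subgroup G) [DecidablePred (· ∈ H)] {z : G} (hz : z * z = 1) :
    (Finset.univ.filter fun w : G => z * w ∈ H ∧ w * w = 1).card =
      (Finset.univ.filter fun h : G => h ∈ H ∧ z * h * z = h⁻¹).card := by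
  refine Finset.card_bij' (fun w _ => z * w) (fun h _ => z * h) ?_ ?_ ?_ ?_
  · intro w hw
    simp only [Finset.mem_filter, Finset.mem_univ, true_and] at hw ⊢
    refine ⟨hw.1, eq_inv_of_mul_eq_one_left ?_⟩
    calc z * (z * w) * z * (z * w) = (z * z) * w * (z * z) * w := by group
      _ = w * w := by rw [hz]; group
      _ = 1 := hw.2
  · intro h hh
    simp only [Finset.mem_filter, Finset.mem_univ, true_and] at hh ⊢
    refine ⟨by rw [← mul_assoc, hz, one_mul]; exact hh.1, ?_⟩
    calc z * h * (z * h) = z * h * z * h := by group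
      _ = 1 := by rw [hh.2, inv_mul_cancel]
  · intro w _
    show z * (z * w) = w
    rw [← mul_assoc, hz, one_mul]
  · intro h _
    show z * (z * h) = h
    rw [← mul_assoc, hz, one_mul]

end Coset

section A4

local notation "Alt4" => (alternatingGroup (Fin 4))

theorem a4_card : Nat.card Alt4 = 12 := by
  rw [Nat.card_eq_fintype_card]; decide +kernel

theorem a4_comm : ∀ x y : Alt4, x * x = 1 → y * y = 1 → x * y = y * x := by decide +kernel

theorem a4_conj : ∀ x y : Alt4, x * x = 1 → x ≠ 1 → y * y = 1 → y ≠ 1 →
    ∃ h : Alt4, h * x * h⁻¹ = y := by decide +kernel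

theorem a4_cent : ∀ x : Alt4, x * x = 1 ∧ x ≠ 1 → ∀ h : Alt4, h * x = x * h → h * h = 1 := by decide +kernel

theorem a4_four : (Finset.univ.filter fun x : Alt4 => x * x = 1).card = 4 := by decide +kernel

theorem a4_cube : ∀ h : Alt4, h * h ≠ 1 → h * h * h = 1 := by decide +kernel

theorem a4_cent_three : ∀ h : Alt4, h * h ≠ 1 →
    (Finset.univ.filter fun x : Alt4 => x * h = h * x).card = 3 := by decide +kernel

theorem a4_cycle : ∀ x : Alt4, x * x = 1 → x ≠ 1 → ∀ h : Alt4, h * h ≠ 1 → h * x * h⁻¹ ≠ x := by
  decide +kernel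

theorem a4_exists_three : ∃ h : Alt4, h * h ≠ 1 := by decide +kernel

theorem a4_fpf : ∀ h v : Alt4, h * h ≠ 1 → v * v = 1 →
    ∃ v' : Alt4, v' * v' = 1 ∧ v' * (h * v' * h⁻¹) = v := by decide +kernel

end A4

section Inverted

variable {K : Type*} [Group K] [Fintype K] [DecidableEq K]

/-- At most six elements of a copy of the alternating group of degree four are inverted by an
automorphism with trivial square, and their number is even. -/
theorem inverted_bound (e : K ≃* ↥(alternatingGroup (Fin 4))) (φ : K ≃* K) (hφ : ∀ x, φ (φ x) = x) :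
    (Finset.univ.filter fun x : K => φ x = x⁻¹).card ≤ 6 ∧
      2 ∣ (Finset.univ.filter fun x : K => φ x = x⁻¹).card := by
  set I := Finset.univ.filter fun x : K => φ x = x⁻¹ with hI
  have hmem : ∀ x, x ∈ I ↔ φ x = x⁻¹ := by simp [hI]
  have hcard : Fintype.card K = 12 := by
    rw [← Nat.card_eq_fintype_card, Nat.card_congr e.toEquiv, a4_card]
  have hfour : (Finset.univ.filter fun x : K => x * x = 1).card = 4 := by
    rw [← a4_four]
    refine Finset.card_bij' (fun x _ => e x) (fun x _ => e.symm x) ?_ ?_ ?_ ?_
    · intro x hx; simpa [← map_mul] using hx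
    · intro x hx; simpa [← map_mul] using hx
    · intro x _; simp
    · intro x _; simp
  have heven : 2 ∣ I.card := by
    -- elements that are their own inverse
    have hsplit := Finset.card_filter_add_card_filter_not (s := I) (p := fun x => x * x = 1)
    have h1 : 2 ∣ (I.filter fun x => ¬ x * x = 1).card := by
      rw [← ZMod.natCast_eq_zero_iff_even.trans even_iff_two_dvd, Finset.card_eq_sum_ones,
        Nat.cast_sum]
      refine Finset.sum_involution (fun x _ => x⁻¹) ?_ ?_ ?_ ?_
      · intro x _; exact CharTwo.add_self_eq_zero _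
      · intro x hx _
        simp only [Finset.mem_filter] at hx
        intro h
        exact hx.2 ((congrArg (· * x) h.symm).trans (inv_mul_cancel x))
      · intro x hx
        simp only [Finset.mem_filter, hmem] at hx ⊢
        refine ⟨by rw [map_inv, hx.1], fun h => hx.2 ?_⟩
        rw [← inv_inj, mul_inv_rev, inv_one, h]
      · intro x _; simp
    have h2 : 2 ∣ (I.filter fun x => x * x = 1).card := by
      -- the fixed points of `φ` among four elements
      set W := Finset.univ.filter fun x : K => x * x = 1 with hW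
      have hE : (I.filter fun x => x * x = 1) = W.filter fun x => φ x = x := by
        ext x
        simp only [Finset.mem_filter, hW, hmem, Finset.mem_univ, true_and]
        constructor
        · rintro ⟨h, h'⟩
          exact ⟨h', by rw [h, inv_eq_of_mul_eq_one_right h']⟩
        · rintro ⟨h', h⟩
          exact ⟨by rw [h, inv_eq_of_mul_eq_one_right h'], h'⟩
      rw [hE]
      have hs := Finset.card_filter_add_card_filter_not (s := W) (p := fun x => φ x = x)
      have h1' : 2 ∣ (W.filter fun x => ¬ φ x = x).card := by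
        rw [← ZMod.natCast_eq_zero_iff_even.trans even_iff_two_dvd, Finset.card_eq_sum_ones,
          Nat.cast_sum]
        refine Finset.sum_involution (fun x _ => φ x) ?_ ?_ ?_ ?_
        · intro x _; exact CharTwo.add_self_eq_zero _
        · intro x hx _
          exact (Finset.mem_filter.1 hx).2
        · intro x hx
          simp only [Finset.mem_filter, hW, Finset.mem_univ, true_and] at hx ⊢
          refine ⟨by rw [← map_mul, hx.1, map_one], ?_⟩
          rw [hφ]
          exact fun h => hx.2 h.symm
        · intro x _; exact hφ x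
      omega
    omega
  refine ⟨?_, heven⟩
  by_contra hlt
  have h8 : 8 ≤ I.card := by omega
  have hex : ∃ h ∈ I, h * h ≠ 1 := by
    by_contra hc
    push Not at hc
    have : I ⊆ Finset.univ.filter fun x : K => x * x = 1 := fun x hx => by simp [hc x hx]
    have := Finset.card_le_card this
    omega
  obtain ⟨h, hh, hh2⟩ := hex
  have hC : (Finset.univ.filter fun x : K => x * h = h * x).card = 3 := by
    rw [← a4_cent_three (e h) (fun h' => hh2 (e.injective (by rw [map_mul, h', map_one])))]
    refine Finset.card_bij' (fun x _ => e x) (fun x _ => e.symm x) ?_ ?_ ?_ ?_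
    · intro x hx
      simp only [Finset.mem_filter, Finset.mem_univ, true_and] at hx ⊢
      rw [← map_mul, hx, map_mul]
    · intro x hx
      simp only [Finset.mem_filter, Finset.mem_univ, true_and] at hx ⊢
      apply e.injective
      simpa using hx
    · intro x _; simp
    · intro x _; simp
  set I' := I.image (fun x => h⁻¹ * x) with hI'
  have hcI' : I'.card = I.card := Finset.card_image_of_injective _ (mul_right_injective _)
  have hsub : I ∩ I' ⊆ Finset.univ.filter fun x : K => x * h = h * x := by
    intro x hx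
    simp only [Finset.mem_inter, hI', Finset.mem_image] at hx
    obtain ⟨hx, y, hy, rfl⟩ := hx
    simp only [Finset.mem_filter, Finset.mem_univ, true_and]
    rw [hmem] at hx hy hh
    rw [map_mul, map_inv, hh, inv_inv, hy, mul_inv_rev, inv_inv] at hx
    -- `hx : h * y⁻¹ = y⁻¹ * h`
    have h' : y * h = h * y := by
      calc y * h = y * (h * y⁻¹) * y := by group
        _ = y * (y⁻¹ * h) * y := by rw [hx]
        _ = h * y := by group
    calc h⁻¹ * y * h = h⁻¹ * (y * h) := by group
      _ = y := by rw [h']; group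
      _ = h * (h⁻¹ * y) := by group
  have := Finset.card_le_card hsub
  have := Finset.card_union_add_card_inter I I'
  have := Finset.card_le_univ (I ∪ I')
  omega

end Inverted

end Cfsg.Agent.TwoPointA4Count15
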