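import Mathlib
import Cfsg.Agent.Lib.TwoPointA4Count15

/-!
Doubly transitive groups whose two-point stabilisers have order at most two.
-/

set_option autoImplicit false
set_option linter.unusedSectionVars false

open MulAction

namespace Cfsg.Agent.TwoPointA4Bar15

open Cfsg.Agent.TwoPointA4Count15

section Restr

variable {G : Type*} [Group G] {α : Type*} [MulAction G α]

/-- A subgroup acting on an invariant set. -/
def restrHom (K : Subgroup G) (X : Set α) (hK : ∀ k ∈ K, ∀ x ∈ X, k • x ∈ X) :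
    K →* Equiv.Perm X where
  toFun k :=
    { toFun := fun x => ⟨(k : G) • (x : α), hK k k.2 x x.2⟩
      invFun := fun x => ⟨(k : G)⁻¹ • (x : α), hK _ (K.inv_mem k.2) x x.2⟩
      left_inv := fun x => Subtype.ext (inv_smul_smul (k : G) (x : α))
      right_inv := fun x => Subtype.ext (smul_inv_smul (k : G) (x : α)) }
  map_one' := Equiv.ext fun x => Subtype.ext (one_smul G (x : α))
  map_mul' k l := Equiv.ext fun x => Subtype.ext (mul_smul (k : G) (l : G) (x : α))

/-- The group induced on an invariant set. -/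
def restrImage (K : Subgroup G) (X : Set α) (hK : ∀ k ∈ K, ∀ x ∈ X, k • x ∈ X) :
    Subgroup (Equiv.Perm X) :=
  (restrHom K X hK).range

/-- The image of an element in the induced group. -/
def toImage (K : Subgroup G) (X : Set α) (hK : ∀ k ∈ K, ∀ x ∈ X, k • x ∈ X) :
    K →* restrImage K X hK :=
  (restrHom K X hK).rangeRestrict

theorem toImage_surjective (K : Subgroup G) (X : Set α) (hK : ∀ k ∈ K, ∀ x ∈ X, k • x ∈ X) :
    Function.Surjective (toImage K X hK) :=
  MonoidHom.rangeRestrict_surjective _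

theorem toImage_smul {K : Subgroup G} {X : Set α} {hK : ∀ k ∈ K, ∀ x ∈ X, k • x ∈ X}
    (k : K) (x : X) : ((toImage K X hK k • x : X) : α) = (k : G) • (x : α) := rfl

theorem toImage_fix_iff {K : Subgroup G} {X : Set α} {hK : ∀ k ∈ K, ∀ x ∈ X, k • x ∈ X}
    (k : K) (x : X) : toImage K X hK k • x = x ↔ (k : G) • (x : α) = x :=
  ⟨fun h => congrArg Subtype.val h, fun h => Subtype.ext h⟩

theorem toImage_eq_one_iff {K : Subgroup G} {X : Set α} {hK : ∀ k ∈ K, ∀ x ∈ X, k • x ∈ X}
    (k : K) : toImage K X hK k = 1 ↔ ∀ x ∈ X, (k : G) • x = x := by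
  constructor
  · intro h x hx
    have := toImage_fix_iff (hK := hK) k ⟨x, hx⟩
    rw [h, one_smul] at this
    exact this.1 rfl
  · intro h
    apply Subtype.ext
    exact Equiv.ext fun x => Subtype.ext (h x x.2)

theorem restrImage_faithful (K : Subgroup G) (X : Set α) (hK : ∀ k ∈ K, ∀ x ∈ X, k • x ∈ X) :
    ∀ p : restrImage K X hK, (∀ x : X, p • x = x) → p = 1 := fun _ h =>
  Subtype.ext (Equiv.ext h)

theorem restrImage_pairTrans {K : Subgroup G} {X : Set α} (hK : ∀ k ∈ K, ∀ x ∈ X, k • x ∈ X)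
    (htr : ∀ p ∈ X, ∀ q ∈ X, ∀ p' ∈ X, ∀ q' ∈ X, p ≠ q → p' ≠ q' →
      ∃ g ∈ K, g • p = p' ∧ g • q = q') :
    PairTrans (restrImage K X hK) X := by
  intro p q p' q' h h'
  obtain ⟨g, hg, hgp, hgq⟩ := htr p p.2 q q.2 p' p'.2 q' q'.2 (fun e => h (Subtype.ext e))
    (fun e => h' (Subtype.ext e))
  exact ⟨toImage K X hK ⟨g, hg⟩, Subtype.ext hgp, Subtype.ext hgq⟩

end Restr

variable {P : Type*} [Group P] [Fintype P] {β : Type*} [Fintype β] [MulAction P β]

theorem moved_lt (hfaith : ∀ g : P, (∀ x : β, g • x = x) → g = 1) {g : P} (hg : g ≠ 1) :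
    fx β g < Fintype.card β := by
  classical
  obtain ⟨x, hx⟩ : ∃ x : β, g • x ≠ x := by
    by_contra hc
    push Not at hc
    exact hg (hfaith g hc)
  rw [fx]
  exact Finset.card_lt_card (Finset.filter_ssubset.2 ⟨x, Finset.mem_univ _, hx⟩)

section Sharp

/-- In a sharply doubly transitive group an involution is determined by a fixed point. -/
theorem sharp_unique (h2 : PairTrans P β)
    (hsharp : ∀ (g : P) (p q : β), p ≠ q → g • p = p → g • q = q → g = 1)
    {g h : P} {a b : β} (hab : a ≠ b) (hg : g * g = 1) (hg1 : g ≠ 1) (hga : g • a = a)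
    (hh : h * h = 1) (hh1 : h ≠ 1) (hha : h • a = a) : g = h := by
  classical
  set S := Finset.univ.filter fun z : P => z * z = 1 ∧ z ≠ 1 ∧ ∃ x : β, z • x = x with hSdef
  have hS : ∀ g z : P, z ∈ S → g * z * g⁻¹ ∈ S := by
    intro g z hz
    simp only [hSdef, Finset.mem_filter, Finset.mem_univ, true_and] at hz ⊢
    obtain ⟨h1, h2, x, hx⟩ := hz
    refine ⟨?_, fun h => h2 ?_, g • x, by rw [mul_smul, inv_smul_smul, mul_smul, hx]⟩
    · calc g * z * g⁻¹ * (g * z * g⁻¹) = g * (z * z) * g⁻¹ := by group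
        _ = 1 := by rw [h1]; group
    · calc z = g⁻¹ * (g * z * g⁻¹) * g := by group
        _ = 1 := by rw [h]; group
  have hf : ∀ z ∈ S, fx β z = 1 := by
    intro z hz
    simp only [hSdef, Finset.mem_filter, Finset.mem_univ, true_and] at hz
    obtain ⟨-, h2, x, hx⟩ := hz
    refine le_antisymm ?_ (fx_pos hx)
    by_contra hc
    obtain ⟨p, q, hpq, hp, hq⟩ := exists_pair_of_one_lt_fx (not_le.1 hc)
    exact h2 (hsharp z p q hpq hp hq)
  have e1 := count_swap h2 S hS hf hab
  have e2 := count_fixed_points h2 S hS hf hab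
  rw [mul_one] at e2
  have hswap : (S.filter fun z => z • a = b).card ≤ 1 := by
    refine Finset.card_le_one.2 fun z hz w hw => ?_
    simp only [hSdef, Finset.mem_filter, Finset.mem_univ, true_and] at hz hw
    have hzb : z • b = a := by rw [← hz.2, ← mul_smul, hz.1.1, one_smul]
    have hwb : w • b = a := by rw [← hw.2, ← mul_smul, hw.1.1, one_smul]
    have := hsharp (w⁻¹ * z) a b hab (by rw [mul_smul, hz.2, ← hw.2, inv_smul_smul])
      (by rw [mul_smul, hzb, ← hwb, inv_smul_smul])
    exact (inv_mul_eq_one.1 this).symm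
  have hn : 2 ≤ Fintype.card β := Fintype.one_lt_card_iff.2 ⟨a, b, hab⟩
  have hν : (S.filter fun z => z • a = a).card ≤ 1 := by
    rw [e2] at e1
    have h3 : (S.filter fun z => z • a = a).card * (Fintype.card β - 1) ≤ 1 * (Fintype.card β - 1) := by
      refine Nat.le_of_mul_le_mul_left ?_ (show 0 < Fintype.card β by omega)
      calc Fintype.card β * ((S.filter fun z => z • a = a).card * (Fintype.card β - 1))
          = Fintype.card β * (Fintype.card β - 1) * (S.filter fun z => z • a = b).card := by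
            rw [← e1]; ring
        _ ≤ Fintype.card β * (Fintype.card β - 1) * 1 := Nat.mul_le_mul_left _ hswap
        _ = _ := by ring
    exact Nat.le_of_mul_le_mul_right h3 (by omega)
  exact Finset.card_le_one.1 hν g (by simp [hSdef, hg, hg1, hga]; exact ⟨a, hga⟩)
    h (by simp [hSdef, hh, hh1, hha]; exact ⟨a, hha⟩)

end Sharp

section Two

/-- Doubly transitive, faithful, with two-point stabilisers of order two. -/
structure Two (P : Type*) [Group P] [Fintype P] (β : Type*) [Fintype β] [MulAction P β] : Prop where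
  trans : PairTrans P β
  faithful : ∀ g : P, (∀ x : β, g • x = x) → g = 1
  ex : ∀ p q : β, p ≠ q → ∃ s : P, s ≠ 1 ∧ s • p = p ∧ s • q = q
  uniq : ∀ (p q : β) (s t : P), p ≠ q → s ≠ 1 → t ≠ 1 → s • p = p → s • q = q → t • p = p →
    t • q = q → s = t

variable {g s z : P} {a b p q : β}

theorem Two.sq (h : Two P β) (hpq : p ≠ q) (hp : s • p = p) (hq : s • q = q) : s * s = 1 := by
  by_cases hs : s = 1
  · rw [hs, one_mul]
  by_contra hss
  exact hs (mul_left_cancel ((h.uniq p q (s * s) s hpq hss hs (by rw [mul_smul, hp, hp])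
    (by rw [mul_smul, hq, hq]) hp hq).trans (mul_one s).symm))

/-- A line involution: a nontrivial element fixing two points. -/
def IsLineInv (β : Type*) [MulAction P β] (s : P) : Prop :=
  s ≠ 1 ∧ ∃ p q : β, p ≠ q ∧ s • p = p ∧ s • q = q

theorem Two.lineInv_sq (h : Two P β) (hs : IsLineInv β s) : s * s = 1 := by
  obtain ⟨-, p, q, hpq, hp, hq⟩ := hs
  exact h.sq hpq hp hq

theorem isLineInv_conj (hs : IsLineInv β s) (g : P) : IsLineInv β (g * s * g⁻¹) := by
  obtain ⟨h1, p, q, hpq, hp, hq⟩ := hs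
  refine ⟨fun e => h1 (conj_eq_one_iff.1 e), g • p, g • q, fun e => hpq ((smul_left_cancel_iff g).1 e),
    ?_, ?_⟩
  · rw [mul_smul, inv_smul_smul, mul_smul, hp]
  · rw [mul_smul, inv_smul_smul, mul_smul, hq]

theorem Two.conj_eq (h : Two P β) (hs : s ≠ 1) (hz : z ≠ 1) (hpq : p ≠ q) (hp : s • p = p)
    (hq : s • q = q) {p' q' : β} (hp' : z • p' = p') (hq' : z • q' = q') (hgp : g • p = p')
    (hgq : g • q = q') : g * s * g⁻¹ = z := by
  refine h.uniq p' q' _ _ (by rw [← hgp, ← hgq]; exact fun e => hpq ((smul_left_cancel_iff g).1 e))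
    (fun e => hs (conj_eq_one_iff.1 e)) hz ?_ ?_ hp' hq'
  · rw [← hgp, mul_smul, inv_smul_smul, mul_smul, hp]
  · rw [← hgq, mul_smul, inv_smul_smul, mul_smul, hq]

theorem Two.fx_eq (h : Two P β) (hs : IsLineInv β s) (hz : IsLineInv β z) : fx β z = fx β s := by
  obtain ⟨hs1, p, q, hpq, hp, hq⟩ := hs
  obtain ⟨hz1, p', q', hpq', hp', hq'⟩ := hz
  obtain ⟨g, hgp, hgq⟩ := h.trans p q p' q' hpq hpq'
  rw [← h.conj_eq hs1 hz1 hpq hp hq hp' hq' hgp hgq, fx_conj]

theorem Two.commute_of_fix (h : Two P β) (hs : s ≠ 1) (hpq : p ≠ q) (hp : s • p = p)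
    (hq : s • q = q) (hgp : s • g • p = g • p) (hgq : s • g • q = g • q) : g * s = s * g := by
  have := h.conj_eq hs hs hpq hp hq hgp hgq rfl rfl
  exact mul_inv_eq_iff_eq_mul.1 this

/-- The two elements exchanging two points commute with the element fixing both. -/
theorem Two.swap_commute (h : Two P β) (hs : s ≠ 1) (hpq : p ≠ q) (hp : s • p = p)
    (hq : s • q = q) (hzp : z • p = q) (hzq : z • q = p) : z * s = s * z :=
  h.commute_of_fix hs hpq hp hq (by rw [hzp, hq]) (by rw [hzq, hp])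

theorem Two.swap_cases (h : Two P β) (hs : s ≠ 1) (hpq : p ≠ q) (hp : s • p = p)
    (hq : s • q = q) (hzp : z • p = q) (hzq : z • q = p) {w : P} (hwp : w • p = q)
    (hwq : w • q = p) : w = z ∨ w = z * s := by
  by_cases h1 : z⁻¹ * w = 1
  · exact Or.inl (inv_mul_eq_one.1 h1).symm
  right
  rw [← h.uniq p q (z⁻¹ * w) s hpq h1 hs (by rw [mul_smul, hwp, ← hzp, inv_smul_smul])
    (by rw [mul_smul, hwq, ← hzq, inv_smul_smul]) hp hq, mul_inv_cancel_left]

theorem Two.counts (h : Two P β) (hab : a ≠ b) (hs : s ≠ 1) (ha : s • a = a) (hb : s • b = b) :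
    ∃ lam : ℕ, (lam = 1 ∨ lam = 2) ∧
      Fintype.card β - fx β s = lam * (fx β s * (fx β s - 1)) ∧
      (lam = 2 → ∀ z : P, z * z = 1 → z ≠ 1 → 1 < fx β z) ∧
      (∀ (x : β) (y z : P), y * y = 1 → y ≠ 1 → fx β y = 1 → y • x = x → z * z = 1 → z ≠ 1 →
        fx β z = 1 → z • x = x → y = z) ∧
      (lam = 1 → Odd (Fintype.card β) → ∃ z : P, z * z = 1 ∧ z ≠ 1 ∧ fx β z = 1 ∧ z • a = a) := by
  classical
  have hn : 2 ≤ Fintype.card β := Fintype.one_lt_card_iff.2 ⟨a, b, hab⟩
  have hc : 2 ≤ fx β s := one_lt_fx hab ha hb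
  have hlt := moved_lt h.faithful hs
  set n := Fintype.card β with hndef
  have hpos : 0 < n * (n - 1) := Nat.mul_pos (by omega) (by omega)
  have hcpos : 0 < fx β s * (fx β s - 1) := Nat.mul_pos (by omega) (by omega)
  have hsq : ∀ g z : P, z * z = 1 → g * z * g⁻¹ * (g * z * g⁻¹) = 1 := by
    intro g z hz
    calc g * z * g⁻¹ * (g * z * g⁻¹) = g * (z * z) * g⁻¹ := by group
      _ = 1 := by rw [hz]; group
  -- line involutions
  set S := Finset.univ.filter fun z : P => IsLineInv β z with hSdef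
  have hS : ∀ g z : P, z ∈ S → g * z * g⁻¹ ∈ S := by
    intro g z hz
    simp only [hSdef, Finset.mem_filter, Finset.mem_univ, true_and] at hz ⊢
    exact isLineInv_conj hz g
  have hsline : IsLineInv β s := ⟨hs, a, b, hab, ha, hb⟩
  have hf : ∀ z ∈ S, fx β z = fx β s := fun z hz => h.fx_eq hsline (by simpa [hSdef] using hz)
  set lam := (S.filter fun z => z • a = b).card with hlam
  have e1 := count_swap h.trans S hS hf hab
  have e2 := count_fixed_pairs h.trans S hS hf hab
  have hone : (S.filter fun z => z • a = a ∧ z • b = b).card = 1 := by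
    rw [Finset.card_eq_one]
    refine ⟨s, Finset.ext fun z => ?_⟩
    simp only [hSdef, Finset.mem_filter, Finset.mem_univ, true_and, Finset.mem_singleton]
    exact ⟨fun hz => h.uniq a b z s hab hz.1.1 hs hz.2.1 hz.2.2 ha hb,
      fun e => by subst e; exact ⟨hsline, ha, hb⟩⟩
  rw [hone, mul_one, ← hndef] at e2
  rw [← hlam, ← hndef] at e1
  have hmain : n - fx β s = lam * (fx β s * (fx β s - 1)) := by
    have hSpos : 0 < S.card := Finset.card_pos.2 ⟨s, by simp [hSdef, hsline]⟩
    refine Nat.eq_of_mul_eq_mul_left hSpos ?_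
    rw [e1, ← e2]; ring
  -- involutions fixing exactly one point
  set S₁ := Finset.univ.filter fun z : P => z * z = 1 ∧ z ≠ 1 ∧ fx β z = 1 with hS₁def
  have hS₁ : ∀ g z : P, z ∈ S₁ → g * z * g⁻¹ ∈ S₁ := by
    intro g z hz
    simp only [hS₁def, Finset.mem_filter, Finset.mem_univ, true_and] at hz ⊢
    exact ⟨hsq g z hz.1, fun e => hz.2.1 (conj_eq_one_iff.1 e), by rw [fx_conj, hz.2.2]⟩
  have hf₁ : ∀ z ∈ S₁, fx β z = 1 := fun z hz => (Finset.mem_filter.1 hz).2.2.2
  have hν : ∀ x : β, (S₁.filter fun z => z • x = x).card = (S₁.filter fun z => z • a = b).card := by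
    intro x
    obtain ⟨y, hy⟩ : ∃ y, x ≠ y := ⟨if x = a then b else a, by split_ifs with e <;> simp [*]⟩
    have i1 := count_swap h.trans S₁ hS₁ hf₁ hab
    have i2 := count_fixed_points h.trans S₁ hS₁ hf₁ hy
    rw [mul_one, ← hndef] at i2
    rw [i2, ← hndef] at i1
    refine Nat.eq_of_mul_eq_mul_left hpos ?_
    rw [← i1]; ring
  set T₂ := Finset.univ.filter fun z : P => z • a = b ∧ z • b = a with hT₂
  have hswap : ∀ (S' : Finset P), (∀ z ∈ S', z * z = 1) →
      (S'.filter fun z => z • a = b) ⊆ T₂ := by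
    intro S' hS' z hz
    simp only [Finset.mem_filter, Finset.mem_univ, true_and, hT₂] at hz ⊢
    exact ⟨hz.2, by rw [← hz.2, ← mul_smul, hS' z hz.1, one_smul]⟩
  have hSsq : ∀ z ∈ S, z * z = 1 := fun z hz => h.lineInv_sq (Finset.mem_filter.1 hz).2
  have hS₁sq : ∀ z ∈ S₁, z * z = 1 := fun z hz => (Finset.mem_filter.1 hz).2.1
  obtain ⟨z₀, hz₀⟩ : ∃ z, z ∈ S.filter fun z => z • a = b := by
    rw [← Finset.Nonempty, ← Finset.card_pos, ← hlam]
    by_contra h0
    rw [Nat.eq_zero_of_not_pos h0, zero_mul] at hmain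
    omega
  have hz₀' := (hswap S hSsq) hz₀
  simp only [hSdef, hT₂, Finset.mem_filter, Finset.mem_univ, true_and] at hz₀ hz₀'
  have hT₂le : T₂ ⊆ {z₀, z₀ * s} := by
    intro w hw
    simp only [hT₂, Finset.mem_filter, Finset.mem_univ, true_and] at hw
    simp only [Finset.mem_insert, Finset.mem_singleton]
    exact h.swap_cases hs hab ha hb hz₀'.1 hz₀'.2 hw.1 hw.2
  have hT₂card : T₂.card ≤ 2 := (Finset.card_le_card hT₂le).trans Finset.card_le_two
  have hdisj : Disjoint (S.filter fun z => z • a = b) (S₁.filter fun z => z • a = b) := by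
    rw [Finset.disjoint_left]
    intro z hz hz'
    simp only [hSdef, hS₁def, Finset.mem_filter, Finset.mem_univ, true_and] at hz hz'
    obtain ⟨-, p, q, hpq, hp, hq⟩ := hz.1
    have := one_lt_fx hpq hp hq
    omega
  have hsum : lam + (S₁.filter fun z => z • a = b).card ≤ 2 := by
    rw [hlam, ← Finset.card_union_of_disjoint hdisj]
    exact le_trans (Finset.card_le_card (Finset.union_subset (hswap S hSsq)
      (hswap S₁ hS₁sq))) hT₂card
  have hlam1 : 1 ≤ lam := by
    rcases Nat.eq_zero_or_pos lam with h0 | h0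
    · rw [h0, zero_mul] at hmain; omega
    · exact h0
  have hlam2 : lam = 1 ∨ lam = 2 := by omega
  refine ⟨lam, hlam2, hmain, ?_, ?_, ?_⟩
  · intro h2 z hz hz1
    by_contra hfz
    by_cases hfix : ∃ x : β, z • x = x
    · obtain ⟨x, hx⟩ := hfix
      have h0 : 0 < (S₁.filter fun z => z • x = x).card := Finset.card_pos.2 ⟨z, by
        have := fx_pos hx
        simp [hS₁def, hz, hz1, hx]; omega⟩
      rw [hν] at h0
      omega
    · -- a fixed-point-free involution would be a third element exchanging `a` and `b`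
      push Not at hfix
      obtain ⟨g, hga, hgb⟩ := h.trans a (z • a) a b (Ne.symm (hfix a)) hab
      set w := g * z * g⁻¹ with hw
      have hwa : w • a = b := by
        rw [hw, mul_smul, inv_smul_eq_iff.2 hga.symm, mul_smul, hgb]
      have hwb : w • b = a := by rw [← hwa, ← mul_smul, hw, hsq g z hz, one_smul]
      have hwT : w ∈ T₂ := by simp [hT₂, hwa, hwb]
      have hwS : w ∉ S.filter fun z => z • a = b := by
        intro hmem
        simp only [hSdef, Finset.mem_filter, Finset.mem_univ, true_and] at hmem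
        obtain ⟨-, p, q, hpq, hp, -⟩ := hmem.1
        refine hfix (g⁻¹ • p) ?_
        have h' := congrArg (g⁻¹ • ·) hp
        simpa [hw, mul_smul] using h'
      have := Finset.card_le_card (Finset.insert_subset hwT (hswap S hSsq)
        : insert w (S.filter fun z => z • a = b) ⊆ T₂)
      rw [Finset.card_insert_of_notMem hwS, ← hlam] at this
      omega
  · intro x y z hy hy1 hyf hyx hz hz1 hzf hzx
    have hle : (S₁.filter fun z => z • x = x).card ≤ 1 := by rw [hν]; omega
    exact Finset.card_le_one.1 hle y (by simp [hS₁def, hy, hy1, hyf, hyx])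
      z (by simp [hS₁def, hz, hz1, hzf, hzx])
  · intro h1 hodd
    set w := z₀ * s with hw
    have hzs := h.swap_commute hs hab ha hb hz₀'.1 hz₀'.2
    have hw2 : w * w = 1 := by
      calc w * w = z₀ * (s * z₀) * s := by rw [hw]; group
        _ = (z₀ * z₀) * (s * s) := by rw [← hzs]; group
        _ = 1 := by rw [h.lineInv_sq hz₀.1, h.sq hab ha hb, one_mul]
    have hwa : w • a = b := by rw [hw, mul_smul, ha, hz₀'.1]
    have hw1 : w ≠ 1 := fun e => hab (by rw [← one_smul P a, ← e, hwa])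
    have hwf : fx β w = 1 := by
      have hpar := two_dvd_moved (α := β) hw2
      have hle := fx_le (α := β) w
      have h0 : fx β w ≠ 0 := by
        intro h0
        rw [h0, Nat.sub_zero] at hpar
        exact (Nat.not_even_iff_odd.2 hodd) (even_iff_two_dvd.2 hpar)
      by_contra h1'
      obtain ⟨p, q, hpq, hp, hq⟩ := exists_pair_of_one_lt_fx (show 1 < fx β w by omega)
      have hwmem : w ∈ S.filter fun z => z • a = b := by
        simp [hSdef, hwa]; exact ⟨hw1, p, q, hpq, hp, hq⟩
      have hne : w ≠ z₀ := fun e => hs (mul_left_cancel (e.trans (mul_one z₀).symm))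
      have : 1 < (S.filter fun z => z • a = b).card :=
        Finset.one_lt_card.2 ⟨w, hwmem, z₀, by simp [hSdef, hz₀], hne⟩
      omega
    have h0 : 0 < (S₁.filter fun z => z • a = a).card := by
      rw [hν]
      exact Finset.card_pos.2 ⟨w, by simp [hS₁def, hw2, hw1, hwf, hwa]⟩
    obtain ⟨z, hz⟩ := Finset.card_pos.1 h0
    simp only [hS₁def, Finset.mem_filter, Finset.mem_univ, true_and] at hz
    exact ⟨z, hz.1.1, hz.1.2.1, hz.1.2.2, hz.2⟩

theorem Two.line_eq (h : Two P β) (hs : IsLineInv β s) (hz : IsLineInv β z) (hpq : p ≠ q)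
    (h1 : s • p = p) (h2 : s • q = q) (h3 : z • p = p) (h4 : z • q = q) : s = z :=
  h.uniq p q s z hpq hs.1 hz.1 h1 h2 h3 h4

/-- The centralizer of a line involution is doubly transitive on its line. -/
theorem Two.cent_trans (h : Two P β) (hs : s ≠ 1) {p q p' q' : β} (hpq : p ≠ q) (hpq' : p' ≠ q')
    (hp : s • p = p) (hq : s • q = q) (hp' : s • p' = p') (hq' : s • q' = q') :
    ∃ g ∈ Subgroup.centralizer ({s} : Set P), g • p = p' ∧ g • q = q' := by
  obtain ⟨g, hgp, hgq⟩ := h.trans p q p' q' hpq hpq'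
  refine ⟨g, Subgroup.mem_centralizer_singleton_iff.2 ?_, hgp, hgq⟩
  have := h.conj_eq hs hs hpq hp hq hp' hq' hgp hgq
  exact mul_inv_eq_iff_eq_mul.1 this

theorem Two.line_smul {P β : Type*} [Group P] [MulAction P β] {s g : P} {x : β}
    (hg : g * s = s * g) (hx : s • x = x) : s • g • x = g • x := by
  rw [← mul_smul, ← hg, mul_smul, hx]

theorem Two.pairStab_card (h : Two P β) (hs : s ≠ 1) (hab : a ≠ b) (ha : s • a = a)
    (hb : s • b = b) : Nat.card ↥(stabilizer P a ⊓ stabilizer P b) = 2 := by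
  classical
  have : ((stabilizer P a ⊓ stabilizer P b : Subgroup P) : Set P) = {1, s} := by
    ext x
    simp only [SetLike.mem_coe, Subgroup.mem_inf, mem_stabilizer_iff, Set.mem_insert_iff,
      Set.mem_singleton_iff]
    refine ⟨fun hx => or_iff_not_imp_left.2 fun h1 => h.uniq a b x s hab h1 hs hx.1 hx.2 ha hb, ?_⟩
    rintro (rfl | rfl)
    · exact ⟨one_smul _ _, one_smul _ _⟩
    · exact ⟨ha, hb⟩
  rw [← SetLike.coe_sort_coe, Nat.card_coe_set_eq, this, Set.ncard_pair hs.symm]

theorem Two.card_cent_stab (h : Two P β) (hs : s ≠ 1) (hab : a ≠ b) (ha : s • a = a)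
    (hb : s • b = b) :
    Nat.card ↥(Subgroup.centralizer ({s} : Set P) ⊓ stabilizer P a) = (fx β s - 1) * 2 := by
  classical
  set X : Set β := {x | s • x = x ∧ x ≠ a} with hX
  rw [card_eq_of_transOn (Subgroup.centralizer ({s} : Set P) ⊓ stabilizer P a) X
    (x := b) ⟨hb, hab.symm⟩ ?_ ?_]
  · have hXc : Nat.card X = fx β s - 1 := by
      rw [fx, Nat.card_coe_set_eq, Set.ncard_eq_toFinset_card', ← Finset.card_erase_of_mem
        (show a ∈ Finset.univ.filter fun x : β => s • x = x by simp [ha])]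
      congr 1
      ext x
      simp [hX, and_comm]
    rw [hXc, ← h.pairStab_card hs hab ha hb]
    congr 2
    refine congrArg (fun K : Subgroup P => ↥K) (le_antisymm (fun x hx => ⟨hx.1.2, hx.2⟩)
      fun x hx => ⟨⟨Subgroup.mem_centralizer_singleton_iff.2 ?_, hx.1⟩, hx.2⟩)
    exact h.commute_of_fix hs hab ha hb (by rw [hx.1, ha]) (by rw [hx.2, hb])
  · intro k hk
    refine ⟨Two.line_smul (Subgroup.mem_centralizer_singleton_iff.1 hk.1) hb, fun e => ?_⟩
    exact hab.symm ((smul_left_cancel_iff k).1 (e.trans hk.2.symm))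
  · intro y hy
    obtain ⟨g, hg, hga, hgb⟩ := h.cent_trans hs hab (Ne.symm hy.2) ha hb ha hy.1
    exact ⟨g, ⟨hg, hga⟩, hgb⟩

theorem Two.card_cent (h : Two P β) (hs : s ≠ 1) (hab : a ≠ b) (ha : s • a = a)
    (hb : s • b = b) :
    Nat.card ↥(Subgroup.centralizer ({s} : Set P)) = fx β s * ((fx β s - 1) * 2) := by
  classical
  rw [card_eq_of_transOn (Subgroup.centralizer ({s} : Set P)) {x : β | s • x = x} (x := a) ha
    (fun k hk => Two.line_smul (Subgroup.mem_centralizer_singleton_iff.1 hk) ha) ?_,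
    h.card_cent_stab hs hab ha hb]
  · congr 1
    rw [fx, Nat.card_coe_set_eq, Set.ncard_eq_toFinset_card']
    congr 1
    ext x
    simp
  · intro y hy
    by_cases hya : y = a
    · exact ⟨1, one_mem _, by rw [one_smul, hya]⟩
    obtain ⟨g, hg, hga, -⟩ := h.cent_trans hs hab hya ha hb hy ha
    exact ⟨g, hg, hga⟩

/-- The line involutions commuting with `s` through a point of its line. -/
def crossing (β : Type*) [MulAction P β] (s : P) (a : β) : Set P :=
  {w | IsLineInv β w ∧ w * s = s * w ∧ w • a = a ∧ w ≠ s}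

theorem Two.crossing_card (h : Two P β) (hs : s ≠ 1) (hab : a ≠ b) (ha : s • a = a)
    (hb : s • b = b) {lam : ℕ} (hlam : Fintype.card β - fx β s = lam * (fx β s * (fx β s - 1))) :
    (crossing β s a).ncard ≤ lam ∧ (Odd (Fintype.card β) → (crossing β s a).Nonempty) := by
  classical
  have hsline : IsLineInv β s := ⟨hs, a, b, hab, ha, hb⟩
  set L := Finset.univ.filter fun x : β => s • x = x with hL
  have htrL : ∀ x ∈ L, ∃ g : P, g * s = s * g ∧ g • a = x := by
    intro x hx
    simp only [hL, Finset.mem_filter, Finset.mem_univ, true_and] at hx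
    by_cases hxa : x = a
    · exact ⟨1, by simp, by rw [one_smul, hxa]⟩
    obtain ⟨g, hg, hga, -⟩ := h.cent_trans hs hab hxa ha hb hx ha
    exact ⟨g, Subgroup.mem_centralizer_singleton_iff.1 hg, hga⟩
  set A := fun x : β => (Finset.univ.filter fun w : P => w ∈ crossing β s x) with hA
  have hAcard : ∀ x ∈ L, (A x).card = (A a).card := by
    intro x hx
    obtain ⟨g, hg, hga⟩ := htrL x hx
    have hg' : g⁻¹ * s = s * g⁻¹ := (Commute.inv_left (hg : Commute g s)).eq
    symm
    refine Finset.card_bij' (fun w _ => g * w * g⁻¹) (fun w _ => g⁻¹ * w * g) ?_ ?_ ?_ ?_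
    · intro w hw
      simp only [hA, crossing, Finset.mem_filter, Finset.mem_univ, true_and, Set.mem_setOf_eq] at hw ⊢
      obtain ⟨h1, h2, h3, h4⟩ := hw
      refine ⟨isLineInv_conj h1 g, ?_, by rw [← hga, mul_smul, inv_smul_smul, mul_smul, h3],
        fun e => h4 ?_⟩
      · exact ((Commute.mul_left (Commute.mul_left hg h2) hg') : Commute (g * w * g⁻¹) s).eq
      · calc w = g⁻¹ * (g * w * g⁻¹) * g := by group
          _ = g⁻¹ * (s * g) := by rw [e]; group
          _ = s := by rw [← hg]; group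
    · intro w hw
      simp only [hA, crossing, Finset.mem_filter, Finset.mem_univ, true_and, Set.mem_setOf_eq] at hw ⊢
      obtain ⟨h1, h2, h3, h4⟩ := hw
      refine ⟨by simpa using isLineInv_conj h1 g⁻¹, ?_,
        by rw [mul_smul, mul_smul, hga, h3, ← hga, inv_smul_smul], fun e => h4 ?_⟩
      · exact ((Commute.mul_left (Commute.mul_left hg' h2) hg) : Commute (g⁻¹ * w * g) s).eq
      · calc w = g * (g⁻¹ * w * g) * g⁻¹ := by group
          _ = g * (s * g⁻¹) := by rw [e]; group
          _ = s := by rw [← hg']; group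
    · intro w _; group
    · intro w _; group
  set U := L.sigma fun x => (A x).sigma fun w =>
    (Finset.univ.filter fun d : β => w • d = d).erase x with hU
  have hUcard : U.card = fx β s * ((A a).card * (fx β s - 1)) := by
    rw [hU, Finset.card_sigma, Finset.sum_congr rfl (fun x hx => ?_), Finset.sum_const, smul_eq_mul]
    · rfl
    rw [Finset.card_sigma, ← hAcard x hx, Finset.sum_congr rfl (fun w hw => ?_), Finset.sum_const,
      smul_eq_mul]
    simp only [hA, crossing, Finset.mem_filter, Finset.mem_univ, true_and, Set.mem_setOf_eq] at hw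
    rw [Finset.card_erase_of_mem (by simp [hw.2.2.1]), ← h.fx_eq hsline hw.1]
    rfl
  have hmem : ∀ t ∈ U, s • t.1 = t.1 ∧ IsLineInv β t.2.1 ∧ t.2.1 * s = s * t.2.1 ∧
      t.2.1 • t.1 = t.1 ∧ t.2.1 ≠ s ∧ t.2.2 ≠ t.1 ∧ t.2.1 • t.2.2 = t.2.2 ∧ s • t.2.2 ≠ t.2.2 := by
    rintro ⟨x, w, d⟩ ht
    simp only [hU, hL, hA, crossing, Finset.mem_sigma, Finset.mem_filter, Finset.mem_univ, true_and,
      Set.mem_setOf_eq, Finset.mem_erase] at ht
    obtain ⟨hx, ⟨h1, h2, h3, h4⟩, h5, h6⟩ := ht
    exact ⟨hx, h1, h2, h3, h4, h5, h6,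
      fun e => h4 (h.uniq x d w s (Ne.symm h5) h1.1 hs h3 h6 hx e)⟩
  have hinj : Set.InjOn (fun t : Σ _ : β, Σ _ : P, β => t.2.2) U := by
    rintro ⟨x, w, d⟩ ht ⟨x', w', d'⟩ ht' (rfl : d = d')
    obtain ⟨hx, h1, h2, h3, h4, h5, h6, h7⟩ := hmem _ ht
    obtain ⟨hx', h1', h2', h3', h4', h5', h6', h7'⟩ := hmem _ ht'
    dsimp only at hx h1 h2 h3 h4 h5 h6 h7 hx' h1' h2' h3' h4' h5' h6' h7'
    have hsd : ∀ u : P, u * s = s * u → u • d = d → u • s • d = s • d := fun u hu hud => by
      rw [← mul_smul, hu, mul_smul, hud]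
    obtain rfl : w = w' := h.uniq d (s • d) w w' (Ne.symm h7) h1.1 h1'.1 h6 (hsd w h2 h6) h6'
      (hsd w' h2' h6')
    obtain rfl : x = x' := by
      by_contra hne
      exact h4 (h.uniq x x' w s hne h1.1 hs h3 h3' hx hx')
    rfl
  have himg : U.image (fun t => t.2.2) ⊆ Lᶜ := by
    intro d hd
    obtain ⟨t, ht, rfl⟩ := Finset.mem_image.1 hd
    simp only [hL, Finset.mem_compl, Finset.mem_filter, Finset.mem_univ, true_and]
    exact (hmem t ht).2.2.2.2.2.2.2
  have hle := Finset.card_le_card himg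
  rw [Finset.card_image_of_injOn hinj, Finset.card_compl, hUcard] at hle
  have hLc : L.card = fx β s := by rw [hL, fx]
  rw [hLc, hlam] at hle
  have hc : 2 ≤ fx β s := one_lt_fx hab ha hb
  have hkey : ∀ x : β, (A x).card = (crossing β s x).ncard := by
    intro x
    rw [hA, Set.ncard_eq_toFinset_card']
    congr 1
    ext w
    simp
  refine ⟨?_, fun hodd => ?_⟩
  · rw [← hkey]
    refine Nat.le_of_mul_le_mul_right (c := fx β s * (fx β s - 1)) ?_
      (Nat.mul_pos (show 0 < fx β s by omega) (show 0 < fx β s - 1 by omega))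
    calc (A a).card * (fx β s * (fx β s - 1)) = fx β s * ((A a).card * (fx β s - 1)) := by ring
      _ ≤ _ := hle
  · -- the line through a moved pair meets the line of `s`
    obtain ⟨d, hd⟩ : ∃ d : β, s • d ≠ d := by
      by_contra hc'
      push Not at hc'
      exact hs (h.faithful s hc')
    obtain ⟨w, hw1, hwd, hwsd⟩ := h.ex d (s • d) (Ne.symm hd)
    have hwline : IsLineInv β w := ⟨hw1, d, s • d, Ne.symm hd, hwd, hwsd⟩
    have hss := h.sq hab ha hb
    have hsw : s * w = w * s := h.commute_of_fix hw1 (Ne.symm hd) hwd hwsd hwsd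
      (by rw [← mul_smul s s, hss, one_smul, hwd])
    have hpar := two_dvd_moved (α := β) (h.lineInv_sq hwline)
    have hfw : fx β w = fx β s := h.fx_eq hsline hwline
    obtain ⟨p, hwp, hsp⟩ : ∃ p : β, w • p = p ∧ s • p = p := by
      by_contra hno
      push Not at hno
      set W := Finset.univ.filter fun x : β => w • x = x with hW
      have h0 : 2 ∣ W.card := by
        rw [← ZMod.natCast_eq_zero_iff_even.trans even_iff_two_dvd, Finset.card_eq_sum_ones,
          Nat.cast_sum]
        refine Finset.sum_involution (fun x _ => s • x) ?_ ?_ ?_ ?_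
        · intro x _; exact CharTwo.add_self_eq_zero _
        · intro x hx _
          exact hno x (Finset.mem_filter.1 hx).2
        · intro x hx
          simp only [hW, Finset.mem_filter, Finset.mem_univ, true_and] at hx ⊢
          exact Two.line_smul hsw hx
        · intro x _; rw [← mul_smul, hss, one_smul]
      have hWc : W.card = fx β w := by rw [hW, fx]
      rw [hWc] at h0
      have := fx_le (α := β) w
      obtain ⟨k, hk⟩ := hodd
      omega
    have hne : w ≠ s := fun e => hd (by rw [← e, hwd])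
    have hpA : (A p).Nonempty :=
      ⟨w, Finset.mem_filter.2 ⟨Finset.mem_univ _, hwline, hsw.symm, hwp, hne⟩⟩
    rw [← Finset.card_pos, hAcard p (by simp [hL, hsp]), Finset.card_pos] at hpA
    obtain ⟨u, hu⟩ := hpA
    exact ⟨u, (Finset.mem_filter.1 hu).2⟩

end Two

end Cfsg.Agent.TwoPointA4Bar15
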