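import Mathlib
import Cfsg.Agent.Lib.TwoPointA4Count15
import Cfsg.Agent.Lib.TwoPointA4Bar15

/-!
Doubly transitive groups whose two-point stabiliser is alternating of degree four: the involutions,
their fixed point sets and the lines.
-/

set_option autoImplicit false
set_option linter.unusedSectionVars false

open MulAction

namespace Cfsg.Agent.TwoPointA4Ctx15

open Cfsg.Agent.TwoPointA4Count15 Cfsg.Agent.TwoPointA4Bar15

variable {G : Type*} [Group G] [Fintype G] {Ω : Type*} [Fintype Ω] [MulAction G Ω]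

/-- The hypotheses. -/
structure Setup (G : Type*) [Group G] [Fintype G] (Ω : Type*) [Fintype Ω] [MulAction G Ω] : Prop where
  trans : PairTrans G Ω
  faithful : ∀ g : G, (∀ x : Ω, g • x = x) → g = 1
  a4 : ∀ p q : Ω, p ≠ q →
    Nonempty (↥(stabilizer G p ⊓ stabilizer G q) ≃* ↥(alternatingGroup (Fin 4)))
  nonempty : ∃ p q : Ω, p ≠ q

theorem setup_of [FaithfulSMul G Ω] (h2 : IsMultiplyPretransitive G Ω 2) {a b : Ω} (hab : a ≠ b)
    (e : ↥(stabilizer G a ⊓ stabilizer G b) ≃* ↥(alternatingGroup (Fin 4))) : Setup G Ω := by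
  refine ⟨pairTrans_of h2, fun g hg => eq_of_smul_eq_smul (α := Ω) fun x => by rw [hg, one_smul],
    fun p q hpq => ?_, ⟨a, b, hab⟩⟩
  obtain ⟨g, hga, hgb⟩ := pairTrans_of h2 a b p q hab hpq
  have hmap : (stabilizer G a ⊓ stabilizer G b).map (MulAut.conj g).toMonoidHom =
      stabilizer G p ⊓ stabilizer G q := by
    rw [Subgroup.map_inf _ _ _ (MulAut.conj g).injective]
    congr 1
    · rw [← hga, stabilizer_smul_eq_stabilizer_map_conj]
    · rw [← hgb, stabilizer_smul_eq_stabilizer_map_conj]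
  exact ⟨(MulEquiv.subgroupCongr hmap.symm).trans
    (((stabilizer G a ⊓ stabilizer G b).equivMapOfInjective _ (MulAut.conj g).injective).symm.trans e)⟩

variable (h : Setup G Ω)
include h

variable {p q p' q' a b x y : Ω} {g s t u v w : G}

/-- Transfer of a property of the two-point stabiliser. -/
theorem Setup.equiv (hpq : p ≠ q) : ∃ e : ↥(stabilizer G p ⊓ stabilizer G q) ≃*
    ↥(alternatingGroup (Fin 4)), True :=
  ⟨(h.a4 p q hpq).some, trivial⟩

theorem Setup.H_card (hpq : p ≠ q) : Nat.card ↥(stabilizer G p ⊓ stabilizer G q) = 12 := by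
  obtain ⟨e, -⟩ := h.equiv hpq
  rw [Nat.card_congr e.toEquiv, a4_card]

theorem Setup.comm (hpq : p ≠ q) (hvp : v • p = p) (hvq : v • q = q) (hv : v * v = 1)
    (hwp : w • p = p) (hwq : w • q = q) (hw : w * w = 1) : v * w = w * v := by
  obtain ⟨e, -⟩ := h.equiv hpq
  have := a4_comm (e ⟨v, hvp, hvq⟩) (e ⟨w, hwp, hwq⟩)
    (by rw [← map_mul, show (⟨v, hvp, hvq⟩ : ↥(stabilizer G p ⊓ stabilizer G q)) * ⟨v, hvp, hvq⟩ = 1
      from Subtype.ext hv, map_one])
    (by rw [← map_mul, show (⟨w, hwp, hwq⟩ : ↥(stabilizer G p ⊓ stabilizer G q)) * ⟨w, hwp, hwq⟩ = 1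
      from Subtype.ext hw, map_one])
  rw [← map_mul, ← map_mul] at this
  exact congrArg Subtype.val (e.injective this)

theorem Setup.conj (hpq : p ≠ q) (hvp : v • p = p) (hvq : v • q = q) (hv : v * v = 1) (hv1 : v ≠ 1)
    (hwp : w • p = p) (hwq : w • q = q) (hw : w * w = 1) (hw1 : w ≠ 1) :
    ∃ k : G, k • p = p ∧ k • q = q ∧ k * v * k⁻¹ = w := by
  obtain ⟨e, -⟩ := h.equiv hpq
  obtain ⟨x, hx⟩ := a4_conj (e ⟨v, hvp, hvq⟩) (e ⟨w, hwp, hwq⟩)
    (by rw [← map_mul, show (⟨v, hvp, hvq⟩ : ↥(stabilizer G p ⊓ stabilizer G q)) * ⟨v, hvp, hvq⟩ = 1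
      from Subtype.ext hv, map_one])
    (fun e1 => hv1 (congrArg Subtype.val (e.injective (e1.trans (map_one e).symm))))
    (by rw [← map_mul, show (⟨w, hwp, hwq⟩ : ↥(stabilizer G p ⊓ stabilizer G q)) * ⟨w, hwp, hwq⟩ = 1
      from Subtype.ext hw, map_one])
    (fun e1 => hw1 (congrArg Subtype.val (e.injective (e1.trans (map_one e).symm))))
  obtain ⟨k, rfl⟩ := e.surjective x
  rw [← map_inv, ← map_mul, ← map_mul] at hx
  exact ⟨k, k.2.1, k.2.2, congrArg Subtype.val (e.injective hx)⟩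

theorem Setup.sq_of_commute (hpq : p ≠ q) (hvp : v • p = p) (hvq : v • q = q) (hv : v * v = 1)
    (hv1 : v ≠ 1) (hgp : g • p = p) (hgq : g • q = q) (hc : g * v = v * g) : g * g = 1 := by
  obtain ⟨e, -⟩ := h.equiv hpq
  have := a4_cent (e ⟨v, hvp, hvq⟩)
    ⟨by rw [← map_mul, show (⟨v, hvp, hvq⟩ : ↥(stabilizer G p ⊓ stabilizer G q)) * ⟨v, hvp, hvq⟩ = 1
      from Subtype.ext hv, map_one],
    fun e1 => hv1 (congrArg Subtype.val (e.injective (e1.trans (map_one e).symm)))⟩
    (e ⟨g, hgp, hgq⟩) (by rw [← map_mul, ← map_mul]; exact congrArg e (Subtype.ext hc))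
  rw [← map_mul, ← map_one e] at this
  exact congrArg Subtype.val (e.injective this)

open scoped Classical in
/-- The four group of the stabiliser of two points. -/
noncomputable def Vfin (G : Type*) [Group G] [Fintype G] {Ω : Type*} [MulAction G Ω] (p q : Ω) :
    Finset G :=
  Finset.univ.filter fun g : G => g • p = p ∧ g • q = q ∧ g * g = 1

omit h in
theorem mem_Vfin : g ∈ Vfin G p q ↔ g • p = p ∧ g • q = q ∧ g * g = 1 := by
  classical
  simp [Vfin]

theorem Setup.Vfin_card (hpq : p ≠ q) : (Vfin G p q).card = 4 := by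
  classical
  obtain ⟨e, -⟩ := h.equiv hpq
  rw [← a4_four]
  refine Finset.card_bij'
    (fun g hg => e ⟨g, (mem_Vfin.1 hg).1, (mem_Vfin.1 hg).2.1⟩)
    (fun x _ => ((e.symm x : ↥(stabilizer G p ⊓ stabilizer G q)) : G)) ?_ ?_ ?_ ?_
  · intro g hg
    simp only [Finset.mem_filter, Finset.mem_univ, true_and]
    rw [← map_mul, ← map_one e]
    exact congrArg e (Subtype.ext (mem_Vfin.1 hg).2.2)
  · intro x hx
    simp only [Finset.mem_filter, Finset.mem_univ, true_and] at hx
    refine mem_Vfin.2 ⟨(e.symm x).2.1, (e.symm x).2.2, ?_⟩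
    rw [← Subgroup.coe_mul, ← map_mul, hx, map_one, Subgroup.coe_one]
  · intro g _; exact congrArg Subtype.val (e.symm_apply_apply _)
  · intro x _; exact (congrArg e (Subtype.ext rfl)).trans (e.apply_symm_apply x)

theorem Setup.exists_inv (hpq : p ≠ q) : ∃ v : G, v • p = p ∧ v • q = q ∧ v * v = 1 ∧ v ≠ 1 := by
  classical
  obtain ⟨v, hv, hv1⟩ : ∃ v ∈ Vfin G p q, v ≠ 1 :=
    Finset.exists_mem_ne (by rw [h.Vfin_card hpq]; norm_num) 1
  obtain ⟨h1, h2, h3⟩ := mem_Vfin.1 hv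
  exact ⟨v, h1, h2, h3, hv1⟩

theorem Setup.Vfin_mul (hpq : p ≠ q) (hv : v ∈ Vfin G p q) (hw : w ∈ Vfin G p q) :
    v * w ∈ Vfin G p q := by
  rw [mem_Vfin] at hv hw ⊢
  refine ⟨by rw [mul_smul, hw.1, hv.1], by rw [mul_smul, hw.2.1, hv.2.1], ?_⟩
  have hc := h.comm hpq hv.1 hv.2.1 hv.2.2 hw.1 hw.2.1 hw.2.2
  calc v * w * (v * w) = v * (w * v) * w := by group
    _ = (v * v) * (w * w) := by rw [← hc]; group
    _ = 1 := by rw [hv.2.2, hw.2.2, one_mul]

/-- An element of order three of the two-point stabiliser. -/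
theorem Setup.exists_three (hpq : p ≠ q) :
    ∃ x : G, x • p = p ∧ x • q = q ∧ x * x ≠ 1 ∧ x * x * x = 1 ∧
      (∀ v ∈ Vfin G p q, v ≠ 1 → x * v * x⁻¹ ≠ v) ∧
      (∀ v ∈ Vfin G p q, ∃ v' ∈ Vfin G p q, v' * (x * v' * x⁻¹) = v) := by
  classical
  obtain ⟨e, -⟩ := h.equiv hpq
  obtain ⟨k, hk⟩ := a4_exists_three
  obtain ⟨x, rfl⟩ := e.surjective k
  have hx : (x : G) * x ≠ 1 := fun hh => hk (by
    rw [← map_mul, show x * x = 1 from Subtype.ext hh, map_one])
  refine ⟨x, x.2.1, x.2.2, hx, ?_, ?_, ?_⟩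
  · have := a4_cube (e x) hk
    rw [← map_mul, ← map_mul, ← map_one e] at this
    exact congrArg Subtype.val (e.injective this)
  · intro v hv hv1 hh
    obtain ⟨h1, h2, h3⟩ := mem_Vfin.1 hv
    refine a4_cycle (e ⟨v, h1, h2⟩) ?_
      (fun e1 => hv1 (congrArg Subtype.val (e.injective (e1.trans (map_one e).symm)))) (e x) hk ?_
    · rw [← map_mul, ← map_one e]; exact congrArg e (Subtype.ext h3)
    · rw [← map_inv, ← map_mul, ← map_mul]; exact congrArg e (Subtype.ext hh)
  · intro v hv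
    obtain ⟨h1, h2, h3⟩ := mem_Vfin.1 hv
    obtain ⟨y, hy, hy'⟩ := a4_fpf (e x) (e ⟨v, h1, h2⟩) hk
      (by rw [← map_mul, ← map_one e]; exact congrArg e (Subtype.ext h3))
    obtain ⟨z, rfl⟩ := e.surjective y
    rw [← map_inv, ← map_mul, ← map_mul, ← map_mul] at hy'
    rw [← map_mul, ← map_one e] at hy
    exact ⟨z, mem_Vfin.2 ⟨z.2.1, z.2.2, congrArg Subtype.val (e.injective hy)⟩,
      congrArg Subtype.val (e.injective hy')⟩

omit h in
/-- An involution fixing at least two points. -/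
def IsT (Ω : Type*) [MulAction G Ω] (t : G) : Prop :=
  t * t = 1 ∧ t ≠ 1 ∧ ∃ p q : Ω, p ≠ q ∧ t • p = p ∧ t • q = q

theorem Setup.isT_of_mem (hpq : p ≠ q) (hv : v ∈ Vfin G p q) (hv1 : v ≠ 1) : IsT Ω v :=
  ⟨(mem_Vfin.1 hv).2.2, hv1, p, q, hpq, (mem_Vfin.1 hv).1, (mem_Vfin.1 hv).2.1⟩

omit h in
theorem isT_conj (ht : IsT Ω t) (g : G) : IsT Ω (g * t * g⁻¹) := by
  obtain ⟨h1, h2, p, q, hpq, hp, hq⟩ := ht
  refine ⟨?_, fun e => h2 (conj_eq_one_iff.1 e), g • p, g • q,
    fun e => hpq ((smul_left_cancel_iff g).1 e), ?_, ?_⟩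
  · calc g * t * g⁻¹ * (g * t * g⁻¹) = g * (t * t) * g⁻¹ := by group
      _ = 1 := by rw [h1]; group
  · rw [mul_smul, inv_smul_smul, mul_smul, hp]
  · rw [mul_smul, inv_smul_smul, mul_smul, hq]

/-- Involutions fixing given pairs of points are conjugate by an element mapping one pair to the
other. -/
theorem Setup.conj_pairs (hs : s * s = 1) (hs1 : s ≠ 1) (hpq : p ≠ q) (hsp : s • p = p)
    (hsq : s • q = q) (ht : t * t = 1) (ht1 : t ≠ 1) (hpq' : p' ≠ q') (htp : t • p' = p')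
    (htq : t • q' = q') : ∃ g : G, g • p = p' ∧ g • q = q' ∧ g * s * g⁻¹ = t := by
  obtain ⟨g, hgp, hgq⟩ := h.trans p q p' q' hpq hpq'
  have h1 : (g * s * g⁻¹) • p' = p' := by rw [← hgp, mul_smul, inv_smul_smul, mul_smul, hsp]
  have h2 : (g * s * g⁻¹) • q' = q' := by rw [← hgq, mul_smul, inv_smul_smul, mul_smul, hsq]
  have h3 : g * s * g⁻¹ * (g * s * g⁻¹) = 1 := by
    calc g * s * g⁻¹ * (g * s * g⁻¹) = g * (s * s) * g⁻¹ := by group
      _ = 1 := by rw [hs]; group
  obtain ⟨k, hkp, hkq, hk⟩ := h.conj hpq' h1 h2 h3 (fun e => hs1 (conj_eq_one_iff.1 e)) htp htq ht ht1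
  refine ⟨k * g, by rw [mul_smul, hgp, hkp], by rw [mul_smul, hgq, hkq], ?_⟩
  rw [← hk]; group

theorem Setup.fx_eq (hs : IsT Ω s) (ht : IsT Ω t) : fx Ω s = fx Ω t := by
  obtain ⟨hs2, hs1, p, q, hpq, hp, hq⟩ := hs
  obtain ⟨ht2, ht1, p', q', hpq', hp', hq'⟩ := ht
  obtain ⟨g, -, -, rfl⟩ := h.conj_pairs hs2 hs1 hpq hp hq ht2 ht1 hpq' hp' hq'
  rw [fx_conj]

/-- Two involutions fixing `a` and another point are conjugate in the stabiliser of `a`. -/
theorem Setup.conj_stab (hs : IsT Ω s) (hsa : s • a = a) (ht : IsT Ω t) (hta : t • a = a) :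
    ∃ g : G, g • a = a ∧ g * s * g⁻¹ = t := by
  have key : ∀ {r : G}, IsT Ω r → r • a = a → ∃ x, a ≠ x ∧ r • x = x := by
    rintro r ⟨-, -, p, q, hpq, hp, hq⟩ hra
    by_cases hpa : p = a
    · exact ⟨q, fun e => hpq (hpa.trans e), hq⟩
    · exact ⟨p, Ne.symm hpa, hp⟩
  obtain ⟨x, hax, hsx⟩ := key hs hsa
  obtain ⟨y, hay, hty⟩ := key ht hta
  obtain ⟨g, hga, -, hg⟩ := h.conj_pairs hs.1 hs.2.1 hax hsa hsx ht.1 ht.2.1 hay hta hty
  exact ⟨g, hga, hg⟩

omit h in
theorem exists_fix_ne (ht : IsT Ω t) (a : Ω) : ∃ x, a ≠ x ∧ t • x = x := by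
  obtain ⟨-, -, p, q, hpq, hp, hq⟩ := ht
  by_cases hpa : p = a
  · exact ⟨q, fun e => hpq (hpa.trans e), hq⟩
  · exact ⟨p, Ne.symm hpa, hp⟩

/-- The centralizer of an involution with fixed points is doubly transitive on them. -/
theorem Setup.cent_trans (ht : t * t = 1) (ht1 : t ≠ 1) (hp : t • p = p) (hq : t • q = q)
    (hp' : t • p' = p') (hq' : t • q' = q') (hpq : p ≠ q) (hpq' : p' ≠ q') :
    ∃ g ∈ Subgroup.centralizer ({t} : Set G), g • p = p' ∧ g • q = q' := by
  obtain ⟨g, hgp, hgq, hg⟩ := h.conj_pairs ht ht1 hpq hp hq ht ht1 hpq' hp' hq'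
  exact ⟨g, Subgroup.mem_centralizer_singleton_iff.2 (mul_inv_eq_iff_eq_mul.1 hg), hgp, hgq⟩

omit h in
/-- The fixed points of the four group of a pair. -/
def line (G : Type*) [Group G] [Fintype G] {Ω : Type*} [MulAction G Ω] (p q : Ω) : Set Ω :=
  {x | ∀ g ∈ Vfin G p q, g • x = x}

omit h in
theorem left_mem_line : p ∈ line G p q := fun _ hg => (mem_Vfin.1 hg).1

omit h in
theorem right_mem_line : q ∈ line G p q := fun _ hg => (mem_Vfin.1 hg).2.1

theorem Setup.Vfin_eq (hpq : p ≠ q) (hp' : p' ∈ line G p q) (hq' : q' ∈ line G p q)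
    (hpq' : p' ≠ q') : Vfin G p' q' = Vfin G p q := by
  symm
  refine Finset.eq_of_subset_of_card_le (fun g hg => mem_Vfin.2 ⟨hp' g hg, hq' g hg,
    (mem_Vfin.1 hg).2.2⟩) (le_of_eq ?_)
  rw [h.Vfin_card hpq, h.Vfin_card hpq']

theorem Setup.line_eq (hpq : p ≠ q) (hp' : p' ∈ line G p q) (hq' : q' ∈ line G p q)
    (hpq' : p' ≠ q') : line G p' q' = line G p q := by
  rw [line, line, h.Vfin_eq hpq hp' hq' hpq']

omit h in
theorem Vfin_conj (g : G) (hv : v ∈ Vfin G p q) : g * v * g⁻¹ ∈ Vfin G (g • p) (g • q) := by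
  rw [mem_Vfin] at hv ⊢
  refine ⟨by rw [mul_smul, inv_smul_smul, mul_smul, hv.1],
    by rw [mul_smul, inv_smul_smul, mul_smul, hv.2.1], ?_⟩
  calc g * v * g⁻¹ * (g * v * g⁻¹) = g * (v * v) * g⁻¹ := by group
    _ = 1 := by rw [hv.2.2]; group

omit h in
theorem smul_mem_line_iff (g : G) : g • x ∈ line G (g • p) (g • q) ↔ x ∈ line G p q := by
  constructor
  · intro hx v hv
    have := hx _ (Vfin_conj g hv)
    rwa [mul_smul, inv_smul_smul, mul_smul, smul_left_cancel_iff] at this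
  · intro hx v hv
    have h' := Vfin_conj g⁻¹ hv
    rw [inv_smul_smul, inv_smul_smul, inv_inv] at h'
    have := hx _ h'
    rwa [mul_smul, mul_smul, inv_smul_eq_iff] at this

omit h in
open scoped Classical in
/-- The number of points of a line. -/
noncomputable def lineFin (G : Type*) [Group G] [Fintype G] {Ω : Type*} [Fintype Ω] [MulAction G Ω]
    (p q : Ω) : Finset Ω :=
  Finset.univ.filter fun x => x ∈ line G p q

omit h in
theorem mem_lineFin : x ∈ lineFin G p q ↔ x ∈ line G p q := by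
  classical
  simp [lineFin]

theorem Setup.lineFin_card_eq (hpq : p ≠ q) (hpq' : p' ≠ q') :
    (lineFin G p q).card = (lineFin G p' q').card := by
  obtain ⟨g, rfl, rfl⟩ := h.trans p q p' q' hpq hpq'
  exact Finset.card_equiv (MulAction.toPerm g) fun x => by
    rw [mem_lineFin, mem_lineFin]; exact (smul_mem_line_iff g).symm

omit h in
theorem two_le_lineFin (hpq : p ≠ q) : 2 ≤ (lineFin G p q).card :=
  Finset.one_lt_card.2 ⟨p, mem_lineFin.2 left_mem_line, q, mem_lineFin.2 right_mem_line, hpq⟩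

theorem Setup.line_le_fix (hpq : p ≠ q) (hv : v ∈ Vfin G p q) (hv1 : v ≠ 1) :
    (lineFin G p q).card ≤ fx Ω v := by
  classical
  rw [fx]
  exact Finset.card_le_card fun x hx => by simp [mem_lineFin.1 hx v hv]

/-- If one involution of the four group fixes only the line, all do. -/
theorem Setup.line_eq_fix (hpq : p ≠ q) (hv : v ∈ Vfin G p q) (hv1 : v ≠ 1)
    (hc : fx Ω v = (lineFin G p q).card) : x ∈ line G p q ↔ v • x = x := by
  classical
  refine ⟨fun hx => hx v hv, fun hx => mem_lineFin.1 ?_⟩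
  rw [Finset.eq_of_subset_of_card_le (s := lineFin G p q)
    (t := Finset.univ.filter fun x : Ω => v • x = x) (fun y hy => by simp [mem_lineFin.1 hy v hv])
    (le_of_eq (by rw [← fx]; exact hc))]
  simp [hx]

/-- The four group consists of `1`, two given involutions and their product. -/
theorem Setup.Vfin_eq_quad (hpq : p ≠ q) (hv : v ∈ Vfin G p q) (hv1 : v ≠ 1) (hw : w ∈ Vfin G p q)
    (hw1 : w ≠ 1) (hvw : v ≠ w) (hg : g ∈ Vfin G p q) : g = 1 ∨ g = v ∨ g = w ∨ g = v * w := by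
  classical
  have hsub : ({1, v, w, v * w} : Finset G) ⊆ Vfin G p q := by
    intro y hy
    simp only [Finset.mem_insert, Finset.mem_singleton] at hy
    rcases hy with rfl | rfl | rfl | rfl
    · exact mem_Vfin.2 ⟨one_smul _ _, one_smul _ _, one_mul 1⟩
    · exact hv
    · exact hw
    · exact h.Vfin_mul hpq hv hw
  have hvv := (mem_Vfin.1 hv).2.2
  have h1 : v * w ≠ 1 := fun e => hvw (by
    rw [← mul_left_cancel_iff (a := v), hvv, e])
  have hcard : ({1, v, w, v * w} : Finset G).card = 4 := by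
    rw [Finset.card_insert_of_notMem, Finset.card_insert_of_notMem, Finset.card_insert_of_notMem,
      Finset.card_singleton]
    · simp only [Finset.mem_singleton]
      exact fun e => hv1 (mul_eq_right.1 e.symm)
    · simp only [Finset.mem_insert, Finset.mem_singleton, not_or]
      exact ⟨hvw, fun e => hw1 (left_eq_mul.1 e)⟩
    · simp only [Finset.mem_insert, Finset.mem_singleton, not_or]
      exact ⟨hv1.symm, hw1.symm, h1.symm⟩
  rw [← Finset.eq_of_subset_of_card_le hsub (by rw [hcard, h.Vfin_card hpq])] at hg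
  simpa using hg

/-- The centralizer of an involution acts on its fixed points. -/
theorem Setup.cent_inv (k : G) (hk : k ∈ Subgroup.centralizer ({t} : Set G)) (x : Ω) (hx : t • x = x) :
    t • k • x = k • x := by
  rw [← mul_smul, ← Subgroup.mem_centralizer_singleton_iff.1 hk, mul_smul, hx]

omit h in
/-- The fixed point set of an element. -/
def fixSet (Ω : Type*) [MulAction G Ω] (t : G) : Set Ω := {x | t • x = x}

omit h in
theorem cent_fixSet (t : G) : ∀ k ∈ Subgroup.centralizer ({t} : Set G), ∀ x ∈ fixSet Ω t,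
    k • x ∈ fixSet Ω t := by
  intro k hk x hx
  show t • k • x = k • x
  rw [← mul_smul, ← Subgroup.mem_centralizer_singleton_iff.1 hk, mul_smul, (hx : t • x = x)]

omit h in
theorem card_fixSet (t : G) : Nat.card (fixSet Ω t) = fx Ω t := by
  classical
  rw [fx, Nat.card_coe_set_eq, Set.ncard_eq_toFinset_card']
  congr 1
  ext x
  rw [Set.mem_toFinset, Finset.mem_filter]
  exact ⟨fun hx => ⟨Finset.mem_univ x, hx⟩, fun hx => hx.2⟩

omit h in
variable (Ω) in
/-- The group induced by the centralizer of `t` on its fixed points. -/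
abbrev bar (t : G) : Subgroup (Equiv.Perm (fixSet Ω t)) :=
  restrImage (Subgroup.centralizer ({t} : Set G)) (fixSet Ω t) (cent_fixSet t)

omit h in
variable (Ω) in
/-- The image in `bar Ω t` of an element commuting with `t`. -/
def toBar (t : G) :
    Subgroup.centralizer ({t} : Set G) →* bar Ω t :=
  toImage (Subgroup.centralizer ({t} : Set G)) (fixSet Ω t) (cent_fixSet t)

theorem Setup.bar_trans (ht : IsT Ω t) : PairTrans (bar Ω t) (fixSet Ω t) :=
  restrImage_pairTrans (cent_fixSet t) fun _ hp _ hq _ hp' _ hq' hpq hpq' =>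
    h.cent_trans ht.1 ht.2.1 hp hq hp' hq' hpq hpq'

omit h in
theorem bar_faithful (t : G) : ∀ z : bar Ω t, (∀ x : fixSet Ω t, z • x = x) → z = 1 :=
  restrImage_faithful _ _ _

/-- An element commuting with `t` and fixing two of its fixed points lies in their four group. -/
theorem Setup.mem_Vfin_of_cent (ht : t * t = 1) (ht1 : t ≠ 1) (hpq : p ≠ q) (hp : t • p = p)
    (hq : t • q = q) (hgc : g * t = t * g) (hgp : g • p = p) (hgq : g • q = q) :
    g ∈ Vfin G p q :=
  mem_Vfin.2 ⟨hgp, hgq, h.sq_of_commute hpq hp hq ht ht1 hgp hgq hgc⟩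

/-- Case I: the group on the fixed points is sharply doubly transitive. -/
theorem Setup.bar_sharp (ht : IsT Ω t) (hc : ∀ p q : Ω, p ≠ q → (lineFin G p q).card = fx Ω t)
    (z : bar Ω t) (p q : fixSet Ω t) (hpq : p ≠ q) (hp : z • p = p) (hq : z • q = q) : z = 1 := by
  obtain ⟨⟨k, hk⟩, rfl⟩ := toImage_surjective _ _ _ z
  have hne : (p : Ω) ≠ q := fun e => hpq (Subtype.ext e)
  have htV : t ∈ Vfin G (p : Ω) q := mem_Vfin.2 ⟨p.2, q.2, ht.1⟩
  have hkV := h.mem_Vfin_of_cent ht.1 ht.2.1 hne p.2 q.2 (Subgroup.mem_centralizer_singleton_iff.1 hk)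
    ((toImage_fix_iff _ p).1 hp) ((toImage_fix_iff _ q).1 hq)
  refine (toImage_eq_one_iff _).2 fun x hx => ?_
  exact (h.line_eq_fix hne htV ht.2.1 (hc _ _ hne).symm).2 hx k hkV

/-- Case II: the group on the fixed points has two-point stabilisers of order two. -/
theorem Setup.bar_two (ht : IsT Ω t) (hc : ∀ p q : Ω, p ≠ q → (lineFin G p q).card < fx Ω t) :
    ∀ [Fintype (bar Ω t)] [Fintype (fixSet Ω t)], Two (bar Ω t) (fixSet Ω t) := by
  intro _ _
  classical
  have key : ∀ (p q : fixSet Ω t), p ≠ q → ∀ v ∈ Vfin G (p : Ω) q, v ≠ 1 → v ≠ t →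
      ¬ ∀ x ∈ fixSet Ω t, v • x = x := by
    intro p q hpq v hv hv1 hvt hfix
    have hne : (p : Ω) ≠ q := fun e => hpq (Subtype.ext e)
    have htV : t ∈ Vfin G (p : Ω) q := mem_Vfin.2 ⟨p.2, q.2, ht.1⟩
    have hsub : Finset.univ.filter (fun x : Ω => t • x = x) ⊆ lineFin G (p : Ω) q := by
      intro x hx
      simp only [Finset.mem_filter, Finset.mem_univ, true_and] at hx
      refine mem_lineFin.2 fun g hg => ?_
      rcases h.Vfin_eq_quad hne htV ht.2.1 hv hv1 (Ne.symm hvt) hg with rfl | rfl | rfl | rfl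
      · exact one_smul _ _
      · exact hx
      · exact hfix x hx
      · rw [mul_smul, hfix x hx, hx]
    have := Finset.card_le_card hsub
    have h' := hc _ _ hne
    rw [fx] at h'
    omega
  refine ⟨h.bar_trans ht, bar_faithful t, fun p q hpq => ?_, ?_⟩
  · have hne : (p : Ω) ≠ q := fun e => hpq (Subtype.ext e)
    obtain ⟨v, hv, hv1, hvt⟩ : ∃ v ∈ Vfin G (p : Ω) q, v ≠ 1 ∧ v ≠ t := by
      obtain ⟨v, hv, hv'⟩ := Finset.exists_mem_notMem_of_card_lt_card
        (s := ({1, t} : Finset G)) (t := Vfin G (p : Ω) q)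
        (lt_of_le_of_lt Finset.card_le_two (by rw [h.Vfin_card hne]; norm_num))
      simp only [Finset.mem_insert, Finset.mem_singleton, not_or] at hv'
      exact ⟨v, hv, hv'⟩
    obtain ⟨hvp, hvq, hv2⟩ := mem_Vfin.1 hv
    have hvc : v ∈ Subgroup.centralizer ({t} : Set G) :=
      Subgroup.mem_centralizer_singleton_iff.2 (h.comm hne hvp hvq hv2 p.2 q.2 ht.1)
    refine ⟨toBar Ω t ⟨v, hvc⟩, fun e => ?_, Subtype.ext hvp, Subtype.ext hvq⟩
    exact key p q hpq v hv hv1 hvt ((toImage_eq_one_iff _).1 e)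
  · intro p q z₁ z₂ hpq hz1 hz2 h1p h1q h2p h2q
    obtain ⟨⟨k, hk⟩, rfl⟩ := toImage_surjective _ _ _ z₁
    obtain ⟨⟨l, hl⟩, rfl⟩ := toImage_surjective _ _ _ z₂
    have hne : (p : Ω) ≠ q := fun e => hpq (Subtype.ext e)
    have hkV := h.mem_Vfin_of_cent ht.1 ht.2.1 hne p.2 q.2
      (Subgroup.mem_centralizer_singleton_iff.1 hk) ((toImage_fix_iff _ p).1 h1p)
      ((toImage_fix_iff _ q).1 h1q)
    have hlV := h.mem_Vfin_of_cent ht.1 ht.2.1 hne p.2 q.2
      (Subgroup.mem_centralizer_singleton_iff.1 hl) ((toImage_fix_iff _ p).1 h2p)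
      ((toImage_fix_iff _ q).1 h2q)
    have htV : t ∈ Vfin G (p : Ω) q := mem_Vfin.2 ⟨p.2, q.2, ht.1⟩
    have hk1 : k ≠ 1 := fun e => hz1 ((toImage_eq_one_iff _).2 fun x _ => by
      show k • x = x
      rw [e, one_smul])
    have hl1 : l ≠ 1 := fun e => hz2 ((toImage_eq_one_iff _).2 fun x _ => by
      show l • x = x
      rw [e, one_smul])
    have hkt : k ≠ t := fun e => hz1 ((toImage_eq_one_iff _).2 fun x hx => by
      show k • x = x
      rw [e]; exact hx)
    have hlt : l ≠ t := fun e => hz2 ((toImage_eq_one_iff _).2 fun x hx => by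
      show l • x = x
      rw [e]; exact hx)
    rcases h.Vfin_eq_quad hne htV ht.2.1 hkV hk1 hkt.symm hlV with e | e | e | e
    · exact absurd e hl1
    · exact absurd e hlt
    · subst e; rfl
    · apply Subtype.ext
      refine Equiv.ext fun x => Subtype.ext ?_
      show k • (x : Ω) = l • (x : Ω)
      rw [e, mul_smul]
      exact ((cent_fixSet (Ω := Ω) t) k hk (x : Ω) x.2).symm

/-- Point stabiliser of the centralizer. -/
theorem Setup.card_cent_stab (ht : t * t = 1) (ht1 : t ≠ 1) (hab : a ≠ b) (ha : t • a = a)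
    (hb : t • b = b) :
    Nat.card ↥(Subgroup.centralizer ({t} : Set G) ⊓ stabilizer G a) = (fx Ω t - 1) * 4 := by
  classical
  rw [card_eq_of_transOn (Subgroup.centralizer ({t} : Set G) ⊓ stabilizer G a)
    {x : Ω | t • x = x ∧ x ≠ a} (x := b) ⟨hb, hab.symm⟩ ?_ ?_]
  · congr 1
    · rw [fx, Nat.card_coe_set_eq, Set.ncard_eq_toFinset_card', ← Finset.card_erase_of_mem
        (show a ∈ Finset.univ.filter fun x : Ω => t • x = x by simp [ha])]
      congr 1
      ext x
      simp [and_comm]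
    · rw [← h.Vfin_card hab, ← SetLike.coe_sort_coe, Nat.card_coe_set_eq,
        Set.ncard_eq_toFinset_card']
      congr 1
      ext g
      simp only [Set.mem_toFinset, SetLike.mem_coe, Subgroup.mem_inf, mem_stabilizer_iff]
      constructor
      · rintro ⟨⟨hg, hga⟩, hgb⟩
        exact h.mem_Vfin_of_cent ht ht1 hab ha hb (Subgroup.mem_centralizer_singleton_iff.1 hg) hga hgb
      · intro hg
        obtain ⟨h1, h2, h3⟩ := mem_Vfin.1 hg
        exact ⟨⟨Subgroup.mem_centralizer_singleton_iff.2 (h.comm hab h1 h2 h3 ha hb ht), h1⟩, h2⟩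
  · intro k hk
    refine ⟨h.cent_inv k hk.1 b hb, fun e => ?_⟩
    exact hab.symm ((smul_left_cancel_iff k).1 (e.trans hk.2.symm))
  · intro y hy
    obtain ⟨g, hg, hga, hgb⟩ := h.cent_trans ht ht1 ha hb ha hy.1 hab (Ne.symm hy.2)
    exact ⟨g, ⟨hg, hga⟩, hgb⟩

/-- The order of a point stabiliser. -/
theorem Setup.card_stab (a : Ω) : Nat.card (stabilizer G a) = (Fintype.card Ω - 1) * 12 := by
  classical
  obtain ⟨b, hab⟩ : ∃ b, a ≠ b := by
    obtain ⟨p, q, hpq⟩ := h.nonempty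
    by_cases e : a = p
    · exact ⟨q, e ▸ hpq⟩
    · exact ⟨p, e⟩
  rw [card_eq_of_transOn (stabilizer G a) {x : Ω | x ≠ a} (x := b) hab.symm ?_ ?_, h.H_card hab]
  · congr 1
    rw [Nat.card_coe_set_eq, Set.ncard_eq_toFinset_card', ← Finset.card_univ,
      ← Finset.card_erase_of_mem (Finset.mem_univ a)]
    congr 1
    ext x
    simp
  · intro k hk e
    exact hab.symm ((smul_left_cancel_iff k).1 (e.trans hk.symm))
  · intro y hy
    obtain ⟨g, hga, hgb⟩ := h.trans a b a y hab (Ne.symm hy)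
    exact ⟨g, hga, hgb⟩

/-- The order of the group. -/
theorem Setup.card_G : Nat.card G = Fintype.card Ω * ((Fintype.card Ω - 1) * 12) := by
  classical
  obtain ⟨p, q, hpq⟩ := h.nonempty
  haveI : IsPretransitive G Ω := ⟨fun x y => h.trans.exists_move hpq x y⟩
  rw [← h.card_stab p, ← Nat.card_eq_fintype_card (α := Ω), ← index_stabilizer_of_transitive G p,
    Subgroup.index_mul_card]

/-- The fundamental relations between the numbers attached to the involutions. -/
theorem Setup.counts (hab : a ≠ b) (ht : t * t = 1) (ht1 : t ≠ 1) (ha : t • a = a) (hb : t • b = b) :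
    ∃ J k : ℕ, 1 ≤ J ∧ J + k ≤ 6 ∧
      3 * (Fintype.card Ω - fx Ω t) = J * (fx Ω t * (fx Ω t - 1)) ∧
      (∀ x : Ω, Nat.card {g : G // g * g = 1 ∧ g ≠ 1 ∧ g • x = x ∧ fx Ω g = 1} = k) ∧
      (Odd (Fintype.card Ω) → k = 0 → 2 ∣ J) := by
  classical
  set n := Fintype.card Ω with hn
  have hn2 : 2 ≤ n := Fintype.one_lt_card_iff.2 ⟨a, b, hab⟩
  have hpos : 0 < n * (n - 1) := Nat.mul_pos (by omega) (by omega)
  have htT : IsT Ω t := ⟨ht, ht1, a, b, hab, ha, hb⟩
  have hlt := moved_lt h.faithful ht1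
  have hf2 : 2 ≤ fx Ω t := one_lt_fx hab ha hb
  have hsq : ∀ g z : G, z * z = 1 → g * z * g⁻¹ * (g * z * g⁻¹) = 1 := by
    intro g z hz
    calc g * z * g⁻¹ * (g * z * g⁻¹) = g * (z * z) * g⁻¹ := by group
      _ = 1 := by rw [hz]; group
  set S := Finset.univ.filter fun z : G => IsT Ω z with hSdef
  have hS : ∀ g z : G, z ∈ S → g * z * g⁻¹ ∈ S := by
    intro g z hz
    simp only [hSdef, Finset.mem_filter, Finset.mem_univ, true_and] at hz ⊢
    exact isT_conj hz g
  have hf : ∀ z ∈ S, fx Ω z = fx Ω t := fun z hz => h.fx_eq (Finset.mem_filter.1 hz).2 htT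
  set J := (S.filter fun z => z • a = b).card with hJdef
  have e1 := count_swap h.trans S hS hf hab
  have e2 := count_fixed_pairs h.trans S hS hf hab
  have hthree : (S.filter fun z => z • a = a ∧ z • b = b).card = 3 := by
    rw [show (S.filter fun z => z • a = a ∧ z • b = b) = (Vfin G a b).erase 1 from ?_,
      Finset.card_erase_of_mem (mem_Vfin.2 ⟨one_smul _ _, one_smul _ _, one_mul 1⟩),
      h.Vfin_card hab]
    ext z
    simp only [hSdef, Finset.mem_filter, Finset.mem_univ, true_and, Finset.mem_erase, mem_Vfin]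
    exact ⟨fun hz => ⟨hz.1.2.1, hz.2.1, hz.2.2, hz.1.1⟩,
      fun hz => ⟨⟨hz.2.2.2, hz.1, a, b, hab, hz.2.1, hz.2.2.1⟩, hz.2.1, hz.2.2.1⟩⟩
  rw [hthree, ← hn] at e2
  rw [← hJdef, ← hn] at e1
  have hmain : 3 * (n - fx Ω t) = J * (fx Ω t * (fx Ω t - 1)) := by
    have hSpos : 0 < S.card := Finset.card_pos.2 ⟨t, by simp [hSdef, htT]⟩
    refine Nat.eq_of_mul_eq_mul_left hSpos ?_
    calc S.card * (3 * (n - fx Ω t)) = 3 * (n * (n - 1) * J) := by rw [← e1]; ring
      _ = J * (n * (n - 1) * 3) := by ring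
      _ = S.card * (J * (fx Ω t * (fx Ω t - 1))) := by rw [← e2]; ring
  have hJ1 : 1 ≤ J := by
    rcases Nat.eq_zero_or_pos J with h0 | h0
    · rw [h0, zero_mul] at hmain; omega
    · exact h0
  -- involutions with one fixed point
  set S₁ := Finset.univ.filter fun z : G => z * z = 1 ∧ z ≠ 1 ∧ fx Ω z = 1 with hS₁def
  have hS₁ : ∀ g z : G, z ∈ S₁ → g * z * g⁻¹ ∈ S₁ := by
    intro g z hz
    simp only [hS₁def, Finset.mem_filter, Finset.mem_univ, true_and] at hz ⊢
    exact ⟨hsq g z hz.1, fun e => hz.2.1 (conj_eq_one_iff.1 e), by rw [fx_conj, hz.2.2]⟩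
  have hf₁ : ∀ z ∈ S₁, fx Ω z = 1 := fun z hz => (Finset.mem_filter.1 hz).2.2.2
  have hν : ∀ x : Ω, (S₁.filter fun z => z • x = x).card = (S₁.filter fun z => z • a = b).card := by
    intro x
    obtain ⟨y, hy⟩ : ∃ y, x ≠ y := ⟨if x = a then b else a, by split_ifs with e <;> simp [*]⟩
    have i1 := count_swap h.trans S₁ hS₁ hf₁ hab
    have i2 := count_fixed_points h.trans S₁ hS₁ hf₁ hy
    rw [mul_one, ← hn] at i2
    rw [i2, ← hn] at i1
    refine Nat.eq_of_mul_eq_mul_left hpos ?_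
    rw [← i1]; ring
  -- the elements exchanging `a` and `b`
  set H := stabilizer G a ⊓ stabilizer G b with hH
  set Sw := Finset.univ.filter fun z : G => z * z = 1 ∧ z • a = b with hSw
  have hunion : (S.filter fun z => z • a = b) ∪ (S₁.filter fun z => z • a = b) ⊆ Sw := by
    intro z hz
    simp only [hSdef, hS₁def, hSw, Finset.mem_union, Finset.mem_filter, Finset.mem_univ,
      true_and] at hz ⊢
    rcases hz with ⟨h1, h2⟩ | ⟨h1, h2⟩
    · exact ⟨h1.1, h2⟩
    · exact ⟨h1.1, h2⟩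
  have hdisj : Disjoint (S.filter fun z => z • a = b) (S₁.filter fun z => z • a = b) := by
    rw [Finset.disjoint_left]
    intro z hz hz'
    simp only [hSdef, hS₁def, Finset.mem_filter, Finset.mem_univ, true_and] at hz hz'
    obtain ⟨-, -, p, q, hpq, hp, hq⟩ := hz.1
    have := one_lt_fx hpq hp hq
    omega
  obtain ⟨z₀, hz₀⟩ : (S.filter fun z => z • a = b).Nonempty :=
    Finset.card_pos.1 (by rw [← hJdef]; omega)
  simp only [hSdef, Finset.mem_filter, Finset.mem_univ, true_and] at hz₀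
  have hz2 : z₀ * z₀ = 1 := hz₀.1.1
  have hzb : z₀ • b = a := by rw [← hz₀.2, ← mul_smul, hz2, one_smul]
  have hSwEq : Sw = Finset.univ.filter fun w : G => z₀ * w ∈ H ∧ w * w = 1 := by
    ext w
    simp only [hSw, hH, Finset.mem_filter, Finset.mem_univ, true_and, Subgroup.mem_inf,
      mem_stabilizer_iff]
    constructor
    · rintro ⟨hw, hwa⟩
      have hwb : w • b = a := by rw [← hwa, ← mul_smul, hw, one_smul]
      exact ⟨⟨by rw [mul_smul, hwa, hzb], by rw [mul_smul, hwb, hz₀.2]⟩, hw⟩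
    · rintro ⟨⟨h1, -⟩, hw⟩
      refine ⟨hw, ?_⟩
      have := congrArg (z₀ • ·) h1
      simpa [← mul_smul, ← mul_assoc, hz2, hz₀.2] using this
  have hzH : ∀ x ∈ H, z₀ * x * z₀ ∈ H := by
    intro x hx
    simp only [hH, Subgroup.mem_inf, mem_stabilizer_iff] at hx ⊢
    exact ⟨by rw [mul_smul, mul_smul, hz₀.2, hx.2, hzb], by rw [mul_smul, mul_smul, hzb, hx.1, hz₀.2]⟩
  let φ : H ≃* H :=
    { toFun := fun x => ⟨z₀ * x * z₀, hzH x x.2⟩
      invFun := fun x => ⟨z₀ * x * z₀, hzH x x.2⟩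
      left_inv := fun x => Subtype.ext (by
        show z₀ * (z₀ * (x : G) * z₀) * z₀ = x
        calc z₀ * (z₀ * (x : G) * z₀) * z₀ = (z₀ * z₀) * x * (z₀ * z₀) := by group
          _ = x := by rw [hz2, one_mul, mul_one])
      right_inv := fun x => Subtype.ext (by
        show z₀ * (z₀ * (x : G) * z₀) * z₀ = x
        calc z₀ * (z₀ * (x : G) * z₀) * z₀ = (z₀ * z₀) * x * (z₀ * z₀) := by group
          _ = x := by rw [hz2, one_mul, mul_one])
      map_mul' := fun x y => Subtype.ext (by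
        show z₀ * ((x : G) * y) * z₀ = z₀ * x * z₀ * (z₀ * y * z₀)
        calc z₀ * ((x : G) * y) * z₀ = z₀ * x * (z₀ * z₀) * y * z₀ := by rw [hz2]; group
          _ = _ := by group) }
  obtain ⟨e, -⟩ := h.equiv hab
  have hb6 := inverted_bound e φ fun x => φ.left_inv x
  have hcardI : Sw.card = (Finset.univ.filter fun x : H => φ x = x⁻¹).card := by
    rw [hSwEq, card_inv_coset H hz2]
    refine Finset.card_bij' (fun x hx => ⟨x, (Finset.mem_filter.1 hx).2.1⟩) (fun x _ => (x : G))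
      ?_ ?_ ?_ ?_
    · intro x hx
      simp only [Finset.mem_filter, Finset.mem_univ, true_and] at hx ⊢
      exact Subtype.ext hx.2
    · intro x hx
      simp only [Finset.mem_filter, Finset.mem_univ, true_and] at hx ⊢
      exact ⟨x.2, congrArg Subtype.val hx⟩
    · intro x _; rfl
    · intro x _; rfl
  have hle := Finset.card_le_card hunion
  rw [Finset.card_union_of_disjoint hdisj, ← hJdef] at hle
  have h6 : Sw.card ≤ 6 := by
    refine le_of_eq_of_le ?_ hb6.1
    rw [hcardI]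
  refine ⟨J, (S₁.filter fun z => z • a = b).card, hJ1, by omega, hmain, fun x => ?_, ?_⟩
  · rw [← hν x, Nat.card_eq_fintype_card, Fintype.card_subtype]
    congr 1
    ext z
    simp [hS₁def]
    tauto
  · intro hodd hk0
    have heq : Sw = S.filter fun z => z • a = b := by
      refine Finset.Subset.antisymm ?_ (fun z hz => hunion (Finset.mem_union_left _ hz))
      intro z hz
      simp only [hSw, hSdef, Finset.mem_filter, Finset.mem_univ, true_and] at hz ⊢
      refine ⟨?_, hz.2⟩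
      have hz1 : z ≠ 1 := fun e1 => hab (by rw [← one_smul G a, ← e1, hz.2])
      refine ⟨hz.1, hz1, exists_pair_of_one_lt_fx ?_⟩
      by_contra hlez
      have hpar := two_dvd_moved (α := Ω) hz.1
      have h0 : fx Ω z ≠ 0 := by
        intro h0
        rw [h0, Nat.sub_zero] at hpar
        exact (Nat.not_even_iff_odd.2 hodd) (even_iff_two_dvd.2 hpar)
      have : 0 < (S₁.filter fun z => z • a = b).card :=
        Finset.card_pos.2 ⟨z, by simp [hS₁def, hz.1, hz.2, hz1]; omega⟩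
      omega
    rw [hJdef, ← heq, hcardI]
    exact hb6.2

end Cfsg.Agent.TwoPointA4Ctx15
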