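import Mathlib
import Cfsg.Agent.Lib.TwoPointA4Ctx15
import Cfsg.Agent.S4481
import Cfsg.Agent.S4482
import Cfsg.Agent.Lib.PermBurnside
import Cfsg.Agent.Lib.A7Main29
import Cfsg.Agent.Lib.SimpleOrderCheck
import Cfsg.Agent.Lib.SimpleRangeLowMain81
import Cfsg.Agent.Lib.SmallGroupBasic
import Cfsg.Agent.Lib.ZStarCount

/-!
Doubly transitive groups with two-point stabiliser `A₄` whose centraliser of an involution is sharply
doubly transitive on the fixed points: only the alternating group of degree seven on fifteen points.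
-/

set_option autoImplicit false
set_option linter.unusedSectionVars false
set_option linter.style.haveILetI false

open MulAction

namespace Cfsg.Agent.TwoPointA4CaseOne15

open Cfsg.Agent.TwoPointA4Count15 Cfsg.Agent.TwoPointA4Bar15 Cfsg.Agent.TwoPointA4Ctx15

section General

variable {G : Type*} [Group G]

theorem card_centralizer_sub (H : Subgroup G) (S : Set H) :
    Nat.card ↥(Subgroup.centralizer S) =
      Nat.card ↥(Subgroup.centralizer (Subtype.val '' S) ⊓ H) := by
  refine Nat.card_congr ⟨fun x => ⟨(x.1 : G), ?_, x.1.2⟩, fun x => ⟨⟨x.1, x.2.2⟩, ?_⟩,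
    fun x => rfl, fun x => rfl⟩
  · rintro _ ⟨s, hs, rfl⟩
    exact congrArg Subtype.val (x.2 s hs)
  · intro s hs
    exact Subtype.ext (x.2.1 s ⟨s, hs, rfl⟩)

/-- A subgroup fixed by an involution up to two choices has index two. -/
theorem card_cent_of_two [Finite G] (C : Subgroup G) {u u' v : G} (hv : v ∈ C)
    (hvu : v * u * v⁻¹ = u') (hne : u' ≠ u)
    (hall : ∀ k ∈ C, k * u * k⁻¹ = u ∨ k * u * k⁻¹ = u') :
    2 * Nat.card ↥(Subgroup.centralizer ({u} : Set G) ⊓ C) = Nat.card C := by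
  have hmem : ∀ k : G, k ∈ Subgroup.centralizer ({u} : Set G) ↔ k * u * k⁻¹ = u := fun k => by
    rw [Subgroup.mem_centralizer_singleton_iff, mul_inv_eq_iff_eq_mul]
  have h2 : (Subgroup.centralizer ({u} : Set G) ⊓ C).relIndex C = 2 := by
    refine Subgroup.relIndex_eq_two_iff.2 ⟨v, hv, fun b hb => ?_⟩
    have hbv : b * v * u * (b * v)⁻¹ = b * u' * b⁻¹ := by rw [← hvu]; group
    simp only [Subgroup.mem_inf, hmem, hb, C.mul_mem hb hv, and_true, hbv]
    rcases hall b hb with e | e
    · exact Or.inr ⟨e, fun e' => hne (mul_left_cancel (mul_right_cancel (e'.trans e.symm)))⟩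
    · refine Or.inl ⟨?_, fun e' => hne (e.symm.trans e')⟩
      rcases hall (b * v) (C.mul_mem hb hv) with e' | e'
      · rw [← hbv]; exact e'
      · exact absurd (mul_left_cancel (mul_right_cancel ((hbv.symm.trans e').trans e.symm))) hne
  have := Subgroup.relIndex_mul_relIndex ⊥ (Subgroup.centralizer ({u} : Set G) ⊓ C) C bot_le
    inf_le_right
  rw [Subgroup.relIndex_bot_left, Subgroup.relIndex_bot_left, h2] at this
  omega

theorem orderOf_four {x : G} (h2 : x ^ 2 ≠ 1) (h4 : x ^ 4 = 1) : orderOf x = 4 :=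
  orderOf_eq_prime_pow (p := 2) (n := 1) (by simpa using h2) (by simpa using h4)

theorem dihedral_center : ∀ x y : DihedralGroup 4, (∀ z, x * z = z * x) → (∀ z, y * z = z * y) →
    x ≠ 1 → y ≠ 1 → x = y := by
  decide +kernel

/-- The number of Sylow subgroups of a subgroup is at most that of the group. -/
theorem card_sylow_le [Finite G] (N : Subgroup G) (p : ℕ) [Fact p.Prime] :
    Nat.card (Sylow p N) ≤ Nat.card (Sylow p G) := by
  choose f hf using fun P : Sylow p N => P.exists_comap_subtype_eq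
  refine Nat.card_le_card_of_injective f fun P Q hPQ => ?_
  exact Sylow.ext ((hf P).symm.trans (by rw [hPQ]; exact hf Q))

end General

variable {G : Type*} [Group G] [Fintype G] {Ω : Type*} [Fintype Ω] [MulAction G Ω] {a b : Ω} {t : G}

/-- The centralizer of `t` normalises the four group. -/
theorem conj_V (h : Setup G Ω) (hab : a ≠ b) (ht : t * t = 1) (ht1 : t ≠ 1) (ha : t • a = a)
    (hb : t • b = b) (hc : ∀ p q : Ω, p ≠ q → (lineFin G p q).card = fx Ω t) {k v : G}
    (hk : k * t = t * k) (hv : v ∈ Vfin G a b) : k * v * k⁻¹ ∈ Vfin G a b := by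
  have hfix : ∀ x : Ω, t • x = x → k • x ∈ line G a b := fun x hx =>
    (h.line_eq_fix hab (mem_Vfin.2 ⟨ha, hb, ht⟩) ht1 (hc a b hab).symm).2
      (by rw [← mul_smul, ← hk, mul_smul, hx])
  rw [← h.Vfin_eq hab (hfix a ha) (hfix b hb) fun e => hab ((smul_left_cancel_iff k).1 e)]
  exact Vfin_conj k hv

/-- The involutions of the centraliser of `t` in the stabiliser of `a`. -/
theorem local_data (h : Setup G Ω) (hab : a ≠ b) (ht : t * t = 1) (ht1 : t ≠ 1) (ha : t • a = a)
    (hb : t • b = b) (hc : ∀ p q : Ω, p ≠ q → (lineFin G p q).card = fx Ω t)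
    (hf4 : fx Ω t % 4 = 3)
    (hcV : Nat.card ↥(stabilizer G a ⊓ Subgroup.centralizer (Vfin G a b : Set G)) =
      2 * (fx Ω t - 1)) :
    ∃ u v : G, u • a = a ∧ v • a = a ∧ u * u = 1 ∧ u ≠ 1 ∧ v * v = 1 ∧ v * t ≠ 1 ∧ v * t = t * v ∧
      u * t = t * u ∧ u * v * u = v * t ∧ v ≠ 1 ∧
      Nat.card ↥(Subgroup.centralizer ({t, v * t} : Set G) ⊓ stabilizer G a) = 2 * (fx Ω t - 1) ∧
      Nat.card ↥(Subgroup.centralizer ({t, u} : Set G) ⊓ stabilizer G a) = 2 * (fx Ω t - 1) := by
  classical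
  obtain ⟨m, hm⟩ : ∃ m, fx Ω t - 1 = 4 * m + 2 := ⟨fx Ω t / 4, by omega⟩
  set C : Subgroup G := Subgroup.centralizer ({t} : Set G) ⊓ stabilizer G a with hC
  set D : Subgroup G := stabilizer G a ⊓ Subgroup.centralizer (Vfin G a b : Set G) with hD
  have hCmem : ∀ g, g ∈ C ↔ g * t = t * g ∧ g • a = a := fun g => by
    rw [hC, Subgroup.mem_inf, Subgroup.mem_centralizer_singleton_iff, mem_stabilizer_iff]
  have hCcard : Nat.card C = (fx Ω t - 1) * 4 := h.card_cent_stab ht ht1 hab ha hb
  have htV : t ∈ Vfin G a b := mem_Vfin.2 ⟨ha, hb, ht⟩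
  have hDC : D ≤ C := fun g hg => (hCmem g).2 ⟨(hg.2 t htV).symm, hg.1⟩
  have hVcomm : ∀ g ∈ Vfin G a b, ∀ w ∈ Vfin G a b, w * g = g * w := by
    intro g hg w hw
    rw [mem_Vfin] at hg hw
    exact h.comm hab hw.1 hw.2.1 hw.2.2 hg.1 hg.2.1 hg.2.2
  let V : Subgroup G :=
    { carrier := {g | g ∈ Vfin G a b}
      one_mem' := mem_Vfin.2 ⟨one_smul _ _, one_smul _ _, one_mul 1⟩
      mul_mem' := fun hx hy => h.Vfin_mul hab hx hy
      inv_mem' := fun {x} hx => by
        show x⁻¹ ∈ Vfin G a b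
        rw [inv_eq_of_mul_eq_one_right (mem_Vfin.1 hx).2.2]
        exact hx }
  have hVD : V ≤ D := fun g hg => ⟨(mem_Vfin.1 hg).1, fun w hw => hVcomm g hg w hw⟩
  have hVcard : Nat.card V = 2 ^ 2 := by
    show Nat.card {g // g ∈ Vfin G a b} = 4
    rw [Nat.card_eq_fintype_card, Fintype.card_coe, h.Vfin_card hab]
  -- a subgroup of order eight
  haveI : Fact (Nat.Prime 2) := ⟨Nat.prime_two⟩
  obtain ⟨K₀, hK₀, hVK₀⟩ := Sylow.exists_subgroup_card_pow_succ (G := C) (p := 2) (n := 2)
    (by rw [hCcard, hm]; exact ⟨2 * m + 1, by ring⟩)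
    (H := V.subgroupOf C)
    (by rw [Nat.card_congr (Subgroup.subgroupOfEquivOfLe (hVD.trans hDC)).toEquiv, hVcard])
  set K : Subgroup G := K₀.map C.subtype with hK
  have hKC : K ≤ C := Subgroup.map_subtype_le K₀
  have hKcard : Nat.card K = 8 := by
    rw [hK, Subgroup.card_map_of_injective C.subtype_injective, hK₀]
    norm_num
  have hVK : V ≤ K := fun g hg =>
    ⟨⟨g, hVD.trans hDC hg⟩, hVK₀ (Subgroup.mem_subgroupOf.2 hg), rfl⟩
  have hKD : ¬ K ≤ D := fun hle => by
    have h8 := Subgroup.card_dvd_of_le hle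
    rw [hKcard, hcV, hm] at h8
    omega
  have hKDV : ∀ g ∈ K, g ∈ D → g ∈ Vfin G a b := by
    intro g hgK hgD
    have hle : V ≤ K ⊓ D := le_inf hVK hVD
    have h1 : Nat.card ↥(K ⊓ D) ∣ 8 := hKcard ▸ Subgroup.card_dvd_of_le inf_le_left
    have h2 : Nat.card ↥(K ⊓ D) ∣ 2 * (4 * m + 2) := hm ▸ hcV ▸ Subgroup.card_dvd_of_le inf_le_right
    have h4 : Nat.card ↥(K ⊓ D) ∣ 4 := by
      have := Nat.dvd_gcd h1 h2
      rwa [show 2 * (4 * m + 2) = 4 * (2 * m + 1) by ring, show 8 = 4 * 2 by rfl, Nat.gcd_mul_left,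
        (Nat.coprime_two_left.2 ⟨m, rfl⟩ : Nat.gcd 2 (2 * m + 1) = 1), mul_one] at this
    have heq : V = K ⊓ D := Subgroup.eq_of_le_of_card_ge hle
      (by rw [hVcard]; exact Nat.le_of_dvd (by norm_num) h4)
    have : g ∈ V := heq ▸ (⟨hgK, hgD⟩ : g ∈ K ⊓ D)
    exact this
  have hCD : D.relIndex C = 2 := by
    have := Subgroup.relIndex_mul_relIndex ⊥ D C bot_le hDC
    rw [Subgroup.relIndex_bot_left, Subgroup.relIndex_bot_left, hcV, hCcard, hm] at this
    exact Nat.eq_of_mul_eq_mul_left (show 0 < 2 * (4 * m + 2) by omega) (this.trans (by ring))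
  obtain ⟨u₀, hu₀K, hu₀D⟩ := SetLike.not_le_iff_exists.1 hKD
  have hu₀V : u₀ * u₀ ∈ Vfin G a b := by
    refine hKDV _ (K.mul_mem hu₀K hu₀K) ?_
    exact Subgroup.mem_subgroupOf.1
      (Subgroup.mul_self_mem_of_index_two (H := D.subgroupOf C) hCD ⟨u₀, hKC hu₀K⟩)
  obtain ⟨hu₀t, hu₀a⟩ := (hCmem u₀).1 (hKC hu₀K)
  obtain ⟨v, hvV, hv⟩ : ∃ v ∈ Vfin G a b, u₀ * v * u₀⁻¹ ≠ v := by
    by_contra hno
    push Not at hno
    exact hu₀D ⟨hu₀a, fun w hw => (mul_inv_eq_iff_eq_mul.1 (hno w hw)).symm⟩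
  obtain ⟨hva, hvb, hv2⟩ := mem_Vfin.1 hvV
  have hv1 : v ≠ 1 := fun e => hv (by rw [e]; group)
  have hu₀t' : u₀ * t * u₀⁻¹ = t := by rw [hu₀t]; group
  have hvt : v ≠ t := fun e => hv (by rw [e]; exact hu₀t')
  have hvtc : v * t = t * v := hVcomm t htV v hvV
  have hquad : ∀ g ∈ Vfin G a b, g = 1 ∨ g = v ∨ g = t ∨ g = v * t := fun g hg =>
    h.Vfin_eq_quad hab hvV hv1 htV ht1 hvt hg
  have hu₀v : u₀ * v * u₀⁻¹ = v * t := by
    rcases hquad _ (conj_V h hab ht ht1 ha hb hc hu₀t hvV) with e | e | e | e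
    · exact absurd (conj_eq_one_iff.1 e) hv1
    · exact absurd e hv
    · exact absurd ((MulAut.conj u₀).injective (show MulAut.conj u₀ v = MulAut.conj u₀ t by
        rw [MulAut.conj_apply, MulAut.conj_apply, hu₀t', e])) hvt
    · exact e
  -- choose an involution
  obtain ⟨u, huK, huD, hu2, hut, hua, huv'⟩ : ∃ u, u ∈ K ∧ u ∉ D ∧ u * u = 1 ∧ u * t = t * u ∧
      u • a = a ∧ u * v * u⁻¹ = v * t := by
    rcases hquad _ hu₀V with e | e | e | e
    · exact ⟨u₀, hu₀K, hu₀D, e, hu₀t, hu₀a, hu₀v⟩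
    · exact absurd (show u₀ * v * u₀⁻¹ = v by rw [← e]; group) hv
    · refine ⟨u₀ * v, K.mul_mem hu₀K (hVK hvV), fun hmem => hu₀D ?_, ?_, ?_,
        by rw [mul_smul, hva, hu₀a], ?_⟩
      · have := D.mul_mem hmem (hVD hvV)
        rwa [mul_assoc, hv2, mul_one] at this
      · calc u₀ * v * (u₀ * v) = u₀ * v * u₀⁻¹ * (u₀ * u₀) * v := by group
          _ = v * (t * t) * v := by rw [hu₀v, e]; group
          _ = 1 := by rw [ht, mul_one, hv2]
      · calc u₀ * v * t = u₀ * (t * v) := by rw [mul_assoc, hvtc]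
          _ = t * (u₀ * v) := by rw [← mul_assoc, hu₀t, mul_assoc]
      · rw [← hu₀v]; group
    · have h1 : u₀ * (v * t) * u₀⁻¹ = v * t := by rw [← e]; group
      have h2 : u₀ * (v * t) * u₀⁻¹ = v := by
        calc u₀ * (v * t) * u₀⁻¹ = u₀ * v * u₀⁻¹ * (u₀ * t * u₀⁻¹) := by group
          _ = v := by rw [hu₀v, hu₀t', mul_assoc, ht, mul_one]
      exact absurd (left_eq_mul.1 (h2.symm.trans h1)) ht1
  have hu1 : u ≠ 1 := fun e => huD (e ▸ D.one_mem)
  have huv : u * v * u = v * t := by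
    rw [← huv', inv_eq_of_mul_eq_one_right hu2]
  have huV : u ∉ Vfin G a b := fun hmem => huD (hVD hmem)
  -- the conjugates of `u` in `C`
  have hclass : ∀ k ∈ C, k * u * k⁻¹ = u ∨ k * u * k⁻¹ = u * t := by
    intro k hk
    have htT : IsT Ω t := ⟨ht, ht1, a, b, hab, ha, hb⟩
    obtain ⟨hkt, hka⟩ := (hCmem k).1 hk
    have hw : k * u * k⁻¹ * t = t * (k * u * k⁻¹) :=
      ((Commute.mul_left (Commute.mul_left (show Commute k t from hkt) (show Commute u t from hut))
        ((show Commute k t from hkt).inv_left)) : Commute (k * u * k⁻¹) t).eq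
    have hwa : (k * u * k⁻¹) • a = a := by
      rw [mul_smul, mul_smul, inv_smul_eq_iff.2 hka.symm, hua, hka]
    haveI : Fintype (fixSet Ω t) := Fintype.ofFinite _
    haveI : Fintype (bar Ω t) := Fintype.ofFinite _
    have hker : ∀ g : G, ∀ hg : g ∈ Subgroup.centralizer ({t} : Set G),
        toBar Ω t ⟨g, hg⟩ = 1 → g ∈ Vfin G a b := fun g hg e =>
      h.mem_Vfin_of_cent ht ht1 hab ha hb (Subgroup.mem_centralizer_singleton_iff.1 hg)
        ((toImage_eq_one_iff _).1 e a ha) ((toImage_eq_one_iff _).1 e b hb)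
    have hsq : k * u * k⁻¹ * (k * u * k⁻¹) = 1 := by
      calc k * u * k⁻¹ * (k * u * k⁻¹) = k * (u * u) * k⁻¹ := by group
        _ = 1 := by rw [hu2]; group
    set k' : Subgroup.centralizer ({t} : Set G) := ⟨k, hk.1⟩
    set u' : Subgroup.centralizer ({t} : Set G) := ⟨u, Subgroup.mem_centralizer_singleton_iff.2 hut⟩
      with hu'
    have e : toBar Ω t u' = toBar Ω t (k' * u' * k'⁻¹) := by
      refine sharp_unique (h.bar_trans htT) (h.bar_sharp htT hc)
        (a := ⟨a, ha⟩) (b := ⟨b, hb⟩) (fun e => hab (congrArg Subtype.val e)) ?_ ?_ ?_ ?_ ?_ ?_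
      · rw [← map_mul, show u' * u' = 1 from Subtype.ext hu2, map_one]
      · exact fun e => huV (hker u _ e)
      · exact Subtype.ext hua
      · rw [← map_mul, show k' * u' * k'⁻¹ * (k' * u' * k'⁻¹) = 1 from Subtype.ext hsq, map_one]
      · intro e
        rw [map_mul, map_mul, map_inv] at e
        exact huV (hker u _ (conj_eq_one_iff.1 e))
      · exact Subtype.ext hwa
    have e' : toBar Ω t (u'⁻¹ * (k' * u' * k'⁻¹)) = 1 := by
      rw [map_mul, map_inv, ← e, inv_mul_cancel]
    have hmem : u * (k * u * k⁻¹) ∈ Vfin G a b := by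
      have := hker _ _ (show toBar Ω t ⟨u⁻¹ * (k * u * k⁻¹), _⟩ = 1 from e')
      rwa [inv_eq_of_mul_eq_one_right hu2] at this
    have hback : k * u * k⁻¹ = u * (u * (k * u * k⁻¹)) := by rw [← mul_assoc, hu2, one_mul]
    rcases hquad _ hmem with e'' | e'' | e'' | e'' <;> rw [e''] at hback
    · exact Or.inl (by rw [hback, mul_one])
    · exfalso
      rw [hback] at hsq
      refine ht1 ?_
      calc t = v * t * v := by rw [hvtc, mul_assoc, hv2, mul_one]
        _ = u * v * u * v := by rw [huv]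
        _ = 1 := by rw [← hsq]; group
    · exact Or.inr hback
    · exfalso
      rw [hback] at hsq
      refine ht1 ?_
      calc t = v * t * v := by rw [hvtc, mul_assoc, hv2, mul_one]
        _ = u * v * u * v := by rw [huv]
        _ = u * v * u * (v * t * t) := by rw [mul_assoc v t t, ht, mul_one]
        _ = u * v * (u * t) * (v * t) := by
          rw [show v * t * t = t * v * t by rw [hvtc]]
          group
        _ = u * (v * t) * (u * (v * t)) := by rw [hut]; group
        _ = 1 := hsq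
  refine ⟨u, v, hua, hva, hu2, hu1, hv2, fun e => hvt ?_, hvtc, hut, huv, hv1, ?_, ?_⟩
  · calc v = v * t * t := by rw [mul_assoc, ht, mul_one]
      _ = t := by rw [e, one_mul]
  · suffices heq : Subgroup.centralizer ({t, v * t} : Set G) ⊓ stabilizer G a = D by rw [heq, hcV]
    refine le_antisymm ?_ ?_
    · intro g hg
      refine ⟨hg.2, fun w hw => ?_⟩
      have h1 : Commute t g := hg.1 t (Set.mem_insert _ _)
      have h2 : Commute (v * t) g := hg.1 (v * t) (Set.mem_insert_of_mem _ rfl)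
      have h3 : Commute v g := by
        have := h2.mul_left h1
        rwa [mul_assoc, ht, mul_one] at this
      rcases hquad w hw with rfl | rfl | rfl | rfl
      · exact (Commute.one_left g).eq
      · exact h3
      · exact h1
      · exact h2
    · intro g hg
      refine ⟨?_, hg.1⟩
      rintro w (rfl | rfl)
      · exact hg.2 _ htV
      · exact hg.2 _ (h.Vfin_mul hab hvV htV)
  · have hvC : v ∈ C := hDC (hVD hvV)
    have hvinv : v⁻¹ = v := inv_eq_of_mul_eq_one_right hv2
    have hvu : v * u * v = u * t := by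
      calc v * u * v = u * u * v * u * v := by rw [hu2, one_mul]
        _ = u * (u * v * u) * v := by group
        _ = u * (v * (t * v)) := by rw [huv]; group
        _ = u * t := by rw [← hvtc, ← mul_assoc v v, hv2, one_mul]
    have hcard := card_cent_of_two C (u := u) (u' := u * t) (v := v) hvC (by rw [hvinv]; exact hvu)
      (fun e => ht1 (mul_eq_left.1 e)) hclass
    have heq : Subgroup.centralizer ({t, u} : Set G) ⊓ stabilizer G a =
        Subgroup.centralizer ({u} : Set G) ⊓ C := by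
      ext g
      simp only [hC, Subgroup.mem_inf, Subgroup.mem_centralizer_iff, Set.mem_insert_iff,
        Set.mem_singleton_iff, forall_eq_or_imp, forall_eq]
      tauto
    rw [heq]
    omega

/-- The arithmetic of the order formula. -/
theorem index_cases {I x : ℕ} {δ : ℤ} (hx : 0 < x) (hI : Odd I) (hδ : δ = 1 ∨ δ = -1)
    (hne : (x : ℤ) ≠ δ) (he : (I : ℤ) * ((x : ℤ) - δ) ^ 2 = 32 * x * (x + δ)) : I = 21 ∨ I = 45 := by
  obtain ⟨k, rfl⟩ := hI
  rcases hδ with rfl | rfl
  · have hd : ((x : ℤ) - 1) ∣ 64 :=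
      ⟨((2 * k + 1 : ℕ) : ℤ) * ((x : ℤ) - 1) - 32 * ((x : ℤ) + 2), by linear_combination -he⟩
    have hle := Int.le_of_dvd (by norm_num) hd
    obtain ⟨y, rfl⟩ : ∃ y, x = y + 2 := ⟨x - 2, by omega⟩
    push_cast at hle he hd
    have hy : y ≤ 63 := by omega
    interval_cases y <;> (norm_num at he) <;> omega
  · have hd : ((x : ℤ) + 1) ∣ 64 :=
      ⟨((2 * k + 1 : ℕ) : ℤ) * ((x : ℤ) + 1) - 32 * ((x : ℤ) - 2), by linear_combination -he⟩
    have hle := Int.le_of_dvd (by norm_num) hd
    have hy : x ≤ 63 := by omega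
    interval_cases x <;> (norm_num at he) <;> omega

/-- The point stabiliser has order `168` or `1080`, and few normal subgroups of even order. -/
theorem stab_data (h : Setup G Ω) (hab : a ≠ b) (ht : t * t = 1) (ht1 : t ≠ 1) (ha : t • a = a)
    (hb : t • b = b) (hk : ∀ g : G, g * g = 1 → g ≠ 1 → g • a = a → IsT Ω g)
    (hc : ∀ p q : Ω, p ≠ q → (lineFin G p q).card = fx Ω t) (hf4 : fx Ω t % 4 = 3)
    {J : ℕ} (hJ : 1 ≤ J ∧ J ≤ 6 ∧ 2 ∣ J)
    (hn : 3 * (Fintype.card Ω - fx Ω t) = J * (fx Ω t * (fx Ω t - 1)))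
    (hcV : Nat.card ↥(stabilizer G a ⊓ Subgroup.centralizer (Vfin G a b : Set G)) =
      2 * (fx Ω t - 1)) :
    ((fx Ω t = 3 ∧ Fintype.card Ω = 15) ∨ (fx Ω t = 7 ∧ Fintype.card Ω = 91)) ∧
      ∀ M : Subgroup (stabilizer G a), M.Normal → 2 ∣ Nat.card M →
        8 ∣ Nat.card M ∧ M.index ∣ 4 * (fx Ω t - 1) ∧ Odd M.index := by
  classical
  obtain ⟨u, v, hua, hva, hu2, hu1, hv2, hvt1, hvtc, hut, huv, hv1, hcw, hcu⟩ :=
    local_data h hab ht ht1 ha hb hc hf4 hcV
  obtain ⟨m, hm⟩ : ∃ m, fx Ω t - 1 = 4 * m + 2 := ⟨fx Ω t / 4, by omega⟩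
  haveI : Fact (Nat.Prime 2) := ⟨Nat.prime_two⟩
  set H := stabilizer G a with hH
  have hlt : fx Ω t ≤ Fintype.card Ω := fx_le t
  -- the order of the stabiliser
  have hI : Odd (3 + J * fx Ω t) := by
    obtain ⟨j, rfl⟩ := hJ.2.2
    exact ⟨1 + j * fx Ω t, by ring⟩
  have hcardH : Nat.card H = 4 * (fx Ω t - 1) * (3 + J * fx Ω t) := by
    have h3 : 3 * (Fintype.card Ω - 1) = (fx Ω t - 1) * (3 + J * fx Ω t) := by
      rw [Nat.mul_add, ← mul_left_comm, mul_comm (fx Ω t - 1) (fx Ω t), ← hn]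
      omega
    rw [hH, h.card_stab a, mul_assoc, ← h3]
    ring
  set σ : H := ⟨u * v, by rw [mem_stabilizer_iff, mul_smul, hva, hua]⟩
  set τ : H := ⟨u, hua⟩
  set t' : H := ⟨t, ha⟩
  set v' : H := ⟨v * t, by rw [mem_stabilizer_iff, mul_smul, ha, hva]⟩
  have hσ2 : σ * σ = t' := by
    apply Subtype.ext
    show u * v * (u * v) = t
    calc u * v * (u * v) = u * v * u * v := by group
      _ = t := by rw [huv, hvtc, mul_assoc, hv2, mul_one]
  have hσo : orderOf σ = 4 := by
    refine orderOf_four ?_ ?_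
    · rw [pow_two, hσ2]; exact fun e => ht1 (congrArg Subtype.val e)
    · rw [show 4 = 2 * 2 by rfl, pow_mul, pow_two σ, hσ2, pow_two]; exact Subtype.ext ht
  have hτ2 : τ * τ = 1 := Subtype.ext hu2
  have hrel : τ * σ * τ⁻¹ = σ⁻¹ := by
    apply Subtype.ext
    show u * (u * v) * u⁻¹ = (u * v)⁻¹
    rw [mul_inv_rev, inv_eq_of_mul_eq_one_right hu2, inv_eq_of_mul_eq_one_right hv2,
      ← mul_assoc u u, hu2, one_mul]
  have hστ : σ * τ = v' := Subtype.ext huv
  have hτσ : τ ∉ Subgroup.zpowers σ := by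
    intro hmem
    obtain ⟨i, hi⟩ := Subgroup.mem_zpowers_iff.1 hmem
    have hc' : σ * τ = τ * σ := by rw [← hi]; exact (Commute.self_zpow σ i).eq
    have he : σ = σ⁻¹ := by rw [← hrel, ← hc', mul_inv_cancel_right]
    exact ht1 (congrArg Subtype.val (hσ2.symm.trans (mul_eq_one_iff_eq_inv.2 he)))
  -- the dihedral subgroup of order eight
  set P₀ : Subgroup H := Subgroup.closure {σ, τ} with hP₀
  have hσP : σ ∈ P₀ := Subgroup.subset_closure (Set.mem_insert _ _)
  have hτP : τ ∈ P₀ := Subgroup.subset_closure (Set.mem_insert_of_mem _ rfl)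
  let D8 : Subgroup H :=
    { carrier := {x | x ∈ Subgroup.zpowers σ ∨ τ * x ∈ Subgroup.zpowers σ}
      one_mem' := Or.inl (one_mem _)
      mul_mem' := by
        have hflip : ∀ z ∈ Subgroup.zpowers σ, τ * z * τ ∈ Subgroup.zpowers σ := by
          intro z hz
          obtain ⟨i, rfl⟩ := Subgroup.mem_zpowers_iff.1 hz
          refine Subgroup.mem_zpowers_iff.2 ⟨-i, ?_⟩
          rw [zpow_neg, ← inv_zpow, ← hrel, conj_zpow, inv_eq_of_mul_eq_one_right hτ2]
        rintro x y (hx | hx) (hy | hy)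
        · exact Or.inl (mul_mem hx hy)
        · refine Or.inr ?_
          have := mul_mem (hflip x hx) hy
          rwa [show τ * x * τ * (τ * y) = τ * (x * y) by
            simp only [mul_assoc]; rw [← mul_assoc τ τ, hτ2, one_mul]] at this
        · exact Or.inr (by rw [← mul_assoc]; exact mul_mem hx hy)
        · refine Or.inl ?_
          have := mul_mem (hflip _ hx) hy
          rwa [show τ * (τ * x) * τ * (τ * y) = x * y by
            simp only [mul_assoc]; rw [← mul_assoc τ τ, hτ2, one_mul, ← mul_assoc τ τ, hτ2, one_mul]]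
            at this
      inv_mem' := by
        rintro x (hx | hx)
        · exact Or.inl (inv_mem hx)
        · refine Or.inr ?_
          obtain ⟨i, hi⟩ := Subgroup.mem_zpowers_iff.1 hx
          refine Subgroup.mem_zpowers_iff.2 ⟨i, ?_⟩
          rw [show x = τ * σ ^ i by rw [hi, ← mul_assoc, hτ2, one_mul], mul_inv_rev, ← zpow_neg,
            ← mul_assoc, ← conj_zpow, hrel, inv_zpow', neg_neg] }
  have hP₀le : P₀ ≤ D8 := by
    rw [hP₀, Subgroup.closure_le]
    rintro x (rfl | rfl)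
    · exact Or.inl (Subgroup.mem_zpowers _)
    · exact Or.inr (by rw [hτ2]; exact one_mem _)
  have hzle : Subgroup.zpowers σ ≤ P₀ := Subgroup.zpowers_le.2 hσP
  have hP₀card : Nat.card P₀ = 2 * 4 := by
    have hz : Nat.card (Subgroup.zpowers σ) = 4 := by rw [Nat.card_zpowers, hσo]
    have h2 : (Subgroup.zpowers σ).relIndex P₀ = 2 := by
      refine Subgroup.relIndex_eq_two_iff_exists_notMem_and'.2 ⟨τ, hτP, hτσ, fun x hx => ?_⟩
      exact (hP₀le hx).symm
    have := Subgroup.relIndex_mul_relIndex ⊥ _ P₀ bot_le hzle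
    rw [Subgroup.relIndex_bot_left, Subgroup.relIndex_bot_left, h2, hz] at this
    omega
  have hP₀idx : ¬ 2 ∣ P₀.index := by
    intro hdvd
    have := P₀.card_mul_index
    rw [hP₀card, hcardH, hm] at this
    have hodd : Odd P₀.index := by
      have e : P₀.index = (2 * m + 1) * (3 + J * fx Ω t) :=
        Nat.eq_of_mul_eq_mul_left (show 0 < 2 * 4 by norm_num) (this.trans (by ring))
      rw [e]; exact (Odd.mul ⟨m, rfl⟩ hI)
    exact (Nat.not_even_iff_odd.2 hodd) (even_iff_two_dvd.2 hdvd)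
  have hP2 : IsPGroup 2 P₀ := IsPGroup.of_card (n := 3) (by rw [hP₀card]; norm_num)
  let P : Sylow 2 H := hP2.toSylow hP₀idx
  have hPiso : Nonempty ((P : Subgroup H) ≃* DihedralGroup (2 ^ (3 - 1))) := by
    refine SmallGroupBasic.nonempty_dihedral_equiv (H := P₀) (n := 4) hP₀card
      (x := ⟨σ, hσP⟩) (y := ⟨τ, hτP⟩) (by rw [← hσo, Subgroup.orderOf_mk]) (Subtype.ext hτ2) ?_ ?_
    · apply Subtype.ext
      show τ * σ * τ = σ⁻¹
      rw [← hrel, inv_eq_of_mul_eq_one_right hτ2]
    · intro hmem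
      obtain ⟨i, hi⟩ := Subgroup.mem_zpowers_iff.1 hmem
      exact hτσ (Subgroup.mem_zpowers_iff.2 ⟨i, congrArg Subtype.val hi⟩)
  -- conjugate involutions
  have hconj : ∀ x : H, x * x = 1 → x ≠ 1 → IsConj t' x := by
    intro x hx hx1
    obtain ⟨g, hga, hg⟩ := h.conj_stab ⟨ht, ht1, a, b, hab, ha, hb⟩ ha
      (hk x (congrArg Subtype.val hx) (fun e => hx1 (Subtype.ext e)) x.2) x.2
    exact isConj_iff.2 ⟨⟨g, hga⟩, Subtype.ext hg⟩
  have hv'2 : v' * v' = 1 := by
    apply Subtype.ext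
    show v * t * (v * t) = 1
    calc v * t * (v * t) = v * (t * v) * t := by group
      _ = (v * v) * (t * t) := by rw [← hvtc]; group
      _ = 1 := by rw [hv2, ht, one_mul]
  have hσp : σ ^ 2 ^ (3 - 2) = t' := by rw [show 2 ^ (3 - 2) = 2 by rfl, pow_two, hσ2]
  -- the order formula
  obtain ⟨M₂, hM₂⟩ := ZStarCount.exists_isPModular 2 Nat.prime_two
  obtain ⟨-, χ₁, χ₂, χ₃, χ', δ₁, δ₂, δ₃, hδ₁, -, -, -, h1, -, -, -, -, -, -, hblock, hval, -⟩ :=
    S4481.result M₂ hM₂ 3 le_rfl P hPiso σ hσP (by rw [hσo]; rfl)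
      (Complex.exp (2 * Real.pi * Complex.I / ((2 ^ (3 - 1) : ℕ) : ℂ)))
      (Complex.isPrimitiveRoot_exp _ (by norm_num))
  obtain ⟨hne, heq⟩ := S4482.result M₂ hM₂ 3 le_rfl P σ τ hσP hτP (by rw [hσo]; rfl)
    (orderOf_eq_prime (by rw [pow_two, hτ2]) fun e => hu1 (congrArg Subtype.val e)) hrel
    rfl
    ⟨by rw [hσp]; exact hconj τ hτ2 fun e => hu1 (congrArg Subtype.val e),
      by rw [hσp, hστ]; exact hconj v' hv'2 fun e => hvt1 (congrArg Subtype.val e)⟩
    χ₁ (by rw [hblock]; exact Or.inr (Or.inl rfl)) h1 δ₁ hδ₁ fun l h0 h4 => (hval l h0 h4).1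
  rw [hσp, hστ, card_centralizer_sub, card_centralizer_sub, card_centralizer_sub, Set.image_singleton,
    Set.image_pair, Set.image_pair] at heq
  rw [show ((t' : H) : G) = t from rfl, show ((τ : H) : G) = u from rfl,
    show ((v' : H) : G) = v * t from rfl, hcardH,
    show Nat.card ↥(Subgroup.centralizer ({t} : Set G) ⊓ H) = (fx Ω t - 1) * 4 from
      h.card_cent_stab ht ht1 hab ha hb, hcu, hcw] at heq
  set x := Cfsg.charDegree (χ₁ : H → ℂ)
  set q := fx Ω t - 1 with hq
  have hqpos : (0 : ℚ) < (q : ℚ) := by rw [Nat.cast_pos]; omega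
  have heq' : ((3 + J * fx Ω t : ℕ) : ℚ) * ((x : ℚ) - δ₁) ^ 2 = 32 * x * (x + δ₁) := by
    push_cast at heq ⊢
    field_simp at heq
    nlinarith [heq, hqpos]
  have hI' : 3 + J * fx Ω t = 21 ∨ 3 + J * fx Ω t = 45 :=
    index_cases (ClassAlgebraVal.charDegree_pos χ₁) hI hδ₁ hne (by exact_mod_cast heq')
  refine ⟨?_, fun M hM hM2 => ?_⟩
  · have hJ' : J = 2 ∨ J = 4 ∨ J = 6 := by obtain ⟨j, hj⟩ := hJ.2.2; omega
    rcases hJ' with rfl | rfl | rfl
    · omega
    · omega
    · have hf' : fx Ω t = 3 ∨ fx Ω t = 7 := by omega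
      rcases hf' with e | e <;> rw [e] at hn hlt ⊢ <;> omega
  · obtain ⟨⟨g, hgM⟩, hg⟩ := exists_prime_orderOf_dvd_card' 2 hM2
    rw [Subgroup.orderOf_mk] at hg
    have hg2 : g * g = 1 := by rw [← pow_two, ← hg, pow_orderOf_eq_one]
    have hg1 : g ≠ 1 := fun e => by rw [e, orderOf_one] at hg; omega
    have hall : ∀ y : H, y * y = 1 → y ≠ 1 → y ∈ M := by
      intro y hy hy1
      obtain ⟨c, rfl⟩ := isConj_iff.1 (((hconj g hg2 hg1).symm).trans (hconj y hy hy1))
      exact hM.conj_mem g hgM c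
    have htM : t' ∈ M := hall t' (Subtype.ext ht) fun e => ht1 (congrArg Subtype.val e)
    have hτM : τ ∈ M := hall τ hτ2 fun e => hu1 (congrArg Subtype.val e)
    have hσM : σ ∈ M := by
      have := M.mul_mem (hall v' hv'2 fun e => hvt1 (congrArg Subtype.val e)) hτM
      rwa [← hστ, mul_assoc, hτ2, mul_one] at this
    have hPM : P₀ ≤ M := by
      rw [hP₀, Subgroup.closure_le]
      rintro y (rfl | rfl)
      · exact hσM
      · exact hτM
    refine ⟨?_, ?_, ?_⟩
    · exact (show Nat.card P₀ = 8 from hP₀card) ▸ Subgroup.card_dvd_of_le hPM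
    · -- the Frattini argument
      have hN : Subgroup.normalizer (P : Set H) ≤ Subgroup.centralizer ({t'} : Set H) := by
        intro g hg
        rw [Subgroup.mem_centralizer_singleton_iff, ← mul_inv_eq_iff_eq_mul]
        have htP : t' ∈ P₀ := hσ2 ▸ mul_mem hσP hσP
        have hgtP : g * t' * g⁻¹ ∈ P₀ := (Subgroup.mem_normalizer_iff.1 hg t').1 htP
        obtain ⟨e⟩ : Nonempty (P₀ ≃* DihedralGroup 4) := hPiso
        have hcen : ∀ z : P₀, (⟨t', htP⟩ : P₀) * z = z * ⟨t', htP⟩ := by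
          rintro ⟨z, hz⟩
          apply Subtype.ext
          show t' * z = z * t'
          have hle : P₀ ≤ Subgroup.centralizer ({t'} : Set H) := by
            rw [hP₀, Subgroup.closure_le]
            rintro y (rfl | rfl) <;>
              rw [SetLike.mem_coe, Subgroup.mem_centralizer_singleton_iff]
            · rw [← hσ2, mul_assoc]
            · exact Subtype.ext hut
          exact (Subgroup.mem_centralizer_singleton_iff.1 (hle hz)).symm
        have hcen' : ∀ z : P₀, (⟨g * t' * g⁻¹, hgtP⟩ : P₀) * z = z * ⟨g * t' * g⁻¹, hgtP⟩ := by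
          rintro ⟨z, hz⟩
          apply Subtype.ext
          show g * t' * g⁻¹ * z = z * (g * t' * g⁻¹)
          have hz' : g⁻¹ * z * g ∈ P₀ :=
            (Subgroup.mem_normalizer_iff''.1 hg z).1 hz
          have := congrArg Subtype.val (hcen ⟨_, hz'⟩)
          calc g * t' * g⁻¹ * z = g * (t' * (g⁻¹ * z * g)) * g⁻¹ := by group
            _ = g * ((g⁻¹ * z * g) * t') * g⁻¹ := congrArg (fun w => g * w * g⁻¹) this
            _ = z * (g * t' * g⁻¹) := by group
        have hne1 : ∀ y : P₀, y ≠ 1 → e y ≠ 1 := fun y hy hey => hy (e.injective (hey.trans (map_one e).symm))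
        have hcomm : ∀ y : P₀, (∀ z, y * z = z * y) → ∀ d, e y * d = d * e y := by
          intro y hy d
          obtain ⟨z, rfl⟩ := e.surjective d
          calc e y * e z = e (y * z) := (map_mul e y z).symm
            _ = e (z * y) := congrArg e (hy z)
            _ = e z * e y := map_mul e z y
        have := e.injective (dihedral_center _ _ (hcomm _ hcen') (hcomm _ hcen)
          (hne1 _ fun e' => ht1 (congrArg Subtype.val (conj_eq_one_iff.1 (congrArg Subtype.val e'))))
          (hne1 _ fun e' => ht1 (congrArg (fun y : P₀ => ((y : H) : G)) e')))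
        exact congrArg Subtype.val this
      haveI := hM
      have hsup := Sylow.normalizer_sup_eq_top' P (N := M) hPM
      have hidx : M.index = M.relIndex (Subgroup.normalizer (P : Set H)) := by
        rw [← Subgroup.relIndex_sup_right, hsup, Subgroup.relIndex_top_right]
      rw [hidx]
      refine dvd_trans (Subgroup.relIndex_dvd_card _ _) (dvd_trans (Subgroup.card_dvd_of_le hN) ?_)
      rw [card_centralizer_sub, Set.image_singleton, show ((t' : H) : G) = t from rfl,
        show Nat.card ↥(Subgroup.centralizer ({t} : Set G) ⊓ H) = (fx Ω t - 1) * 4 from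
          h.card_cent_stab ht ht1 hab ha hb, mul_comm]
    · exact Nat.not_even_iff_odd.1 fun he =>
        hP₀idx ((even_iff_two_dvd.1 he).trans (Subgroup.index_dvd_of_le hPM))

/-- In the degree `91` case a Sylow `7`-subgroup has at most `15` conjugates. -/
theorem card_sylow_seven (h : Setup G Ω) (hab : a ≠ b) (ht : t * t = 1) (ht1 : t ≠ 1) (ha : t • a = a)
    (hb : t • b = b) (hc : ∀ p q : Ω, p ≠ q → (lineFin G p q).card = fx Ω t) (hf : fx Ω t = 7)
    (hn : Fintype.card Ω = 91) : Nat.card (Sylow 7 G) ≤ 15 := by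
  classical
  haveI : Fact (Nat.Prime 7) := ⟨by norm_num⟩
  set L := Subgroup.centralizer ({t} : Set G) with hL
  have hLcard : Nat.card L = 168 := by
    rw [card_eq_of_transOn L {x : Ω | t • x = x} (x := a) ha (fun k hk => h.cent_inv k hk a ha) ?_,
      h.card_cent_stab ht ht1 hab ha hb, hf]
    · rw [show Nat.card {x : Ω | t • x = x} = fx Ω t from card_fixSet t, hf]
    · intro y hy
      by_cases hya : y = a
      · exact ⟨1, one_mem _, by rw [one_smul, hya]⟩
      obtain ⟨g, hg, hga, -⟩ := h.cent_trans ht ht1 ha hb hy ha hab hya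
      exact ⟨g, hg, hga⟩
  have hGcard : Nat.card G = 98280 := by rw [h.card_G, hn]
  obtain ⟨z, hz⟩ := exists_prime_orderOf_dvd_card' (G := L) 7 (by rw [hLcard]; norm_num)
  -- `z` centralises the four group
  have hzt : (z : G) * t = t * z := Subgroup.mem_centralizer_singleton_iff.1 z.2
  have hzV : ∀ w ∈ Vfin G a b, (z : G) * w = w * z := by
    intro w hw
    by_cases hw1 : w = 1
    · rw [hw1, mul_one, one_mul]
    by_cases hwt : w = t
    · rw [hwt, hzt]
    have htV : t ∈ Vfin G a b := mem_Vfin.2 ⟨ha, hb, ht⟩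
    have hstep : ∀ k : G, k * t = t * k → k * w * k⁻¹ = w ∨ k * w * k⁻¹ = w * t := by
      intro k hk
      rcases h.Vfin_eq_quad hab hw hw1 htV ht1 hwt (conj_V h hab ht ht1 ha hb hc hk hw) with
        e | e | e | e
      · exact absurd (conj_eq_one_iff.1 e) hw1
      · exact Or.inl e
      · refine absurd ((MulAut.conj k).injective (show MulAut.conj k w = MulAut.conj k t from ?_)) hwt
        rw [MulAut.conj_apply, MulAut.conj_apply, e, hk, mul_inv_cancel_right]
      · exact Or.inr e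
    rcases hstep z hzt with e | e
    · exact mul_inv_eq_iff_eq_mul.1 e
    have h2 : (z : G) * z * w * ((z : G) * z)⁻¹ = w := by
      calc (z : G) * z * w * ((z : G) * z)⁻¹ = z * ((z : G) * w * (z : G)⁻¹) * (z : G)⁻¹ := by group
        _ = (z : G) * (w * t) * (z : G)⁻¹ := by rw [e]
        _ = (z : G) * w * (z : G)⁻¹ * ((z : G) * t * (z : G)⁻¹) := by group
        _ = w := by rw [e, hzt, mul_inv_cancel_right, mul_assoc, ht, mul_one]
    have h7 : (z : G) = ((z : G) * z) ^ 4 := by
      have : (z : G) ^ 7 = 1 := by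
        rw [← hz, ← Subgroup.orderOf_coe]; exact pow_orderOf_eq_one _
      calc (z : G) = (z : G) ^ 7 * z := by rw [this, one_mul]
        _ = ((z : G) * z) ^ 4 := by rw [← pow_two, ← pow_mul, ← pow_succ]
    rw [h7]
    exact ((show Commute ((z : G) * z) w from mul_inv_eq_iff_eq_mul.1 h2).pow_left 4).eq
  -- the Sylow subgroup
  set Z : Subgroup G := Subgroup.zpowers (z : G) with hZ
  have hZcard : Nat.card Z = 7 := by rw [hZ, Nat.card_zpowers, Subgroup.orderOf_coe, hz]
  let P : Sylow 7 G := Sylow.ofCard Z (by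
    rw [hZcard, hGcard, show (98280 : ℕ) = 7 * 14040 by norm_num,
      Nat.factorization_mul_apply_of_coprime (by norm_num), Nat.Prime.factorization_self (by norm_num),
      Nat.factorization_eq_zero_of_not_dvd (by norm_num), add_zero, pow_one])
  have hPL : Z ≤ L := Subgroup.zpowers_le.2 z.2
  let PL : Sylow 7 L := P.subtype hPL
  have hPLcard : Nat.card (PL : Subgroup L) = 7 := by
    rw [show (PL : Subgroup L) = Z.subgroupOf L from rfl,
      Nat.card_congr (Subgroup.subgroupOfEquivOfLe hPL).toEquiv, hZcard]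
  -- the normaliser in the centralizer of `t`
  have hnL : Nat.card (Sylow 7 L) = 1 := by
    set N := Subgroup.normalizer ((PL : Subgroup L) : Set L)
    have h7 : 7 ∣ Nat.card N := hPLcard ▸ Subgroup.card_dvd_of_le Subgroup.le_normalizer
    let V : Subgroup G :=
      { carrier := {g | g ∈ Vfin G a b}
        one_mem' := mem_Vfin.2 ⟨one_smul _ _, one_smul _ _, one_mul 1⟩
        mul_mem' := fun hx hy => h.Vfin_mul hab hx hy
        inv_mem' := fun {x} hx => by
          show x⁻¹ ∈ Vfin G a b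
          rw [inv_eq_of_mul_eq_one_right (mem_Vfin.1 hx).2.2]
          exact hx }
    have hVL : V ≤ L := fun g hg => by
      rw [hL, Subgroup.mem_centralizer_singleton_iff]
      obtain ⟨h1, h2, h3⟩ := mem_Vfin.1 hg
      exact h.comm hab h1 h2 h3 ha hb ht
    have hVN : V.subgroupOf L ≤ N := by
      intro g hg
      refine Subgroup.centralizer_le_normalizer _ ?_
      intro y hy
      obtain ⟨i, hi⟩ := Subgroup.mem_zpowers_iff.1 (show (y : G) ∈ Z from hy)
      apply Subtype.ext
      show (y : G) * g = g * y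
      rw [← hi]
      exact ((show Commute (z : G) g from hzV g hg).zpow_left i).eq
    have h4 : 4 ∣ Nat.card N := by
      have hVcard : Nat.card (V.subgroupOf L) = 4 := by
        rw [Nat.card_congr (Subgroup.subgroupOfEquivOfLe hVL).toEquiv]
        show Nat.card {g // g ∈ Vfin G a b} = 4
        rw [Nat.card_eq_fintype_card, Fintype.card_coe, h.Vfin_card hab]
      exact hVcard ▸ Subgroup.card_dvd_of_le hVN
    have h28 : 28 ∣ Nat.card N := (by norm_num : Nat.Coprime 4 7).mul_dvd_of_dvd_of_dvd h4 h7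
    have hmul := N.card_mul_index
    rw [show N.index = Nat.card (Sylow 7 L) from PL.card_eq_index_normalizer.symm, hLcard] at hmul
    obtain ⟨c, hc'⟩ := h28
    rw [hc'] at hmul
    have hmod : Nat.card (Sylow 7 L) % 7 = 1 := card_sylow_modEq_one 7 L
    have hdvd : Nat.card (Sylow 7 L) ∣ 6 := ⟨c, by nlinarith⟩
    have := Nat.le_of_dvd (by norm_num) hdvd
    omega
  have hLN : L ≤ Subgroup.normalizer (Z : Set G) := by
    intro g hg
    haveI : Subsingleton (Sylow 7 L) := (Nat.card_eq_one_iff_unique.1 hnL).1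
    have hnorm : (Z.subgroupOf L).Normal := PL.normal_of_subsingleton
    exact (Subgroup.normal_subgroupOf_iff_le_normalizer hPL).1 hnorm hg
  have hidx : Nat.card (Sylow 7 G) ∣ 585 := by
    have h1 := Subgroup.card_dvd_of_le hLN
    obtain ⟨c, hc'⟩ := h1
    have h2 := (Subgroup.normalizer (Z : Set G)).card_mul_index
    rw [hc', hLcard, hGcard] at h2
    have h3 := P.card_eq_index_normalizer
    refine ⟨c, ?_⟩
    rw [h3]
    show 585 = (Subgroup.normalizer (Z : Set G)).index * c
    exact Nat.eq_of_mul_eq_mul_left (show 0 < 168 by norm_num) (show 168 * 585 = 168 * (_ * c) by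
      rw [show (168 : ℕ) * 585 = 98280 by norm_num, ← h2]; ring)
  have hmod : Nat.card (Sylow 7 G) % 7 = 1 := card_sylow_modEq_one 7 G
  have hmem := Nat.mem_divisors.2 ⟨hidx, (by norm_num : (585 : ℕ) ≠ 0)⟩
  rw [show Nat.divisors 585 = {1, 3, 5, 9, 13, 15, 39, 45, 65, 117, 195, 585} by decide +kernel]
    at hmem
  simp only [Finset.mem_insert, Finset.mem_singleton] at hmem
  omega

/-- The degree is fifteen and the group is the alternating group of degree seven. -/
theorem main {G : Type*} [Group G] [Fintype G] {Ω : Type*} [Fintype Ω] [MulAction G Ω]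
    [FaithfulSMul G Ω] (h : Setup G Ω) (hodd : Odd (Fintype.card Ω)) {a b : Ω} {t : G} (hab : a ≠ b)
    (ht : t * t = 1) (ht1 : t ≠ 1) (ha : t • a = a) (hb : t • b = b)
    (hk : ∀ g : G, g * g = 1 → g ≠ 1 → g • a = a → IsT Ω g)
    (hc : ∀ p q : Ω, p ≠ q → (lineFin G p q).card = fx Ω t) (hf4 : fx Ω t % 4 = 3) {J : ℕ}
    (hJ : 1 ≤ J ∧ J ≤ 6 ∧ 2 ∣ J)
    (hn : 3 * (Fintype.card Ω - fx Ω t) = J * (fx Ω t * (fx Ω t - 1)))
    (hcV : ∀ p q : Ω, p ≠ q → Nat.card ↥(stabilizer G p ⊓
      Subgroup.centralizer (Vfin G p q : Set G)) = 2 * (fx Ω t - 1)) :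
    Fintype.card Ω = 15 ∧ Nonempty (G ≃* ↥(alternatingGroup (Fin 7))) := by
  classical
  obtain ⟨hcases, hM⟩ := stab_data h hab ht ht1 ha hb hk hc hf4 hJ hn (hcV a b hab)
  haveI h2 : IsMultiplyPretransitive G Ω 2 :=
    is_two_pretransitive_iff.2 fun {p q p' q'} hpq hpq' => h.trans p q p' q' hpq hpq'
  have hn2 : 2 ≤ Nat.card Ω := by
    rw [Nat.card_eq_fintype_card]; exact Fintype.one_lt_card_iff.2 ⟨a, b, hab⟩
  haveI : Nontrivial G := ⟨⟨t, 1, ht1⟩⟩
  obtain ⟨N, -, hN⟩ := PermMinimalNormal.exists_isMinNormal_le (G := G) ⊤ top_ne_bot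
  haveI := hN.1
  haveI : IsPreprimitive G Ω := isPreprimitive_of_is_two_pretransitive h2
  haveI : IsPretransitive N Ω := PermBasic.isPretransitive_of_normal N hN.2.1
  set M : Subgroup (stabilizer G a) := N.subgroupOf (stabilizer G a) with hMdef
  have hMn : M.Normal := Subgroup.normal_subgroupOf
  have hcardN : Nat.card N = Fintype.card Ω * Nat.card M := by
    rw [← Subgroup.index_mul_card (stabilizer N a), index_stabilizer_of_transitive,
      Nat.card_eq_fintype_card]
    congr 1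
    exact Nat.card_congr ⟨fun x => ⟨⟨(x.1 : G), x.2⟩, x.1.2⟩, fun x => ⟨⟨(x.1 : G), x.2⟩, x.1.2⟩,
      fun _ => rfl, fun _ => rfl⟩
  have hMdvd : Nat.card M ∣ (Fintype.card Ω - 1) * 12 := h.card_stab a ▸ M.card_subgroup_dvd_card
  have hMcases : ∀ n : ℕ, Fintype.card Ω = n → ¬ 2 ∣ Nat.card M ∨
      (8 ∣ Nat.card M ∧ Nat.card M * M.index = (n - 1) * 12 ∧ M.index ∣ 4 * (fx Ω t - 1) ∧
        Odd M.index) := by
    intro n hn'
    by_cases h2' : 2 ∣ Nat.card M
    · obtain ⟨h8, hdvd, hoddI⟩ := hM M hMn h2'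
      exact Or.inr ⟨h8, by rw [M.card_mul_index, h.card_stab a, hn'], hdvd, hoddI⟩
    · exact Or.inl h2'
  rcases PermBurnside.minNormal_of_twoTransitive (X := Ω) hn2 hN with ⟨hab', hreg⟩ | ⟨hna, hsimp, -⟩
  · -- an abelian normal subgroup would have prime exponent
    exfalso
    obtain ⟨p, hp, hpow⟩ := hN.exists_prime_pow_eq_one hab'
    have hM1 : Nat.card M = 1 := by
      rw [Subgroup.card_eq_one, hMdef, eq_bot_iff]
      rintro ⟨x, hx⟩ hxN
      have : (⟨x, hxN⟩ : N) ∈ stabilizer N a := hx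
      rw [hreg a, Subgroup.mem_bot] at this
      exact Subgroup.mem_bot.2 (Subtype.ext (congrArg Subtype.val this :))
    rw [hM1, mul_one] at hcardN
    have key : ∀ q : ℕ, q.Prime → q ∣ Nat.card N → p = q := by
      intro q hq hdvd
      haveI : Fact q.Prime := ⟨hq⟩
      obtain ⟨x, hx⟩ := exists_prime_orderOf_dvd_card' q hdvd
      have : orderOf x ∣ p := orderOf_dvd_of_pow_eq_one (Subtype.ext (hpow x x.2))
      rw [hx] at this
      exact ((Nat.prime_dvd_prime_iff_eq hq hp).1 this).symm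
    rcases hcases with ⟨-, e⟩ | ⟨-, e⟩ <;> rw [e] at hcardN
    · have := key 3 (by norm_num) (hcardN ▸ by norm_num)
      have := key 5 (by norm_num) (hcardN ▸ by norm_num)
      omega
    · have := key 7 (by norm_num) (hcardN ▸ by norm_num)
      have := key 13 (by norm_num) (hcardN ▸ by norm_num)
      omega
  haveI := hsimp
  rcases hcases with ⟨hf, e⟩ | ⟨hf, e⟩
  · refine ⟨e, ?_⟩
    rw [e] at hcardN hMdvd
    have hle := Nat.le_of_dvd (by norm_num) hMdvd
    have hlist := SimpleRangeLow81.card_lt_6000 hna (by rw [hcardN]; omega)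
    rw [hcardN] at hlist
    simp only [List.mem_cons, List.not_mem_nil, or_false] at hlist
    have hM168 : Nat.card M = 168 := by
      rcases hMcases 15 e with hodd' | ⟨h8, hmul, hdvd, hoddI⟩
      · omega
      · rw [hf] at hdvd
        have h1 : M.index ∣ 1 := (Nat.Coprime.dvd_of_dvd_mul_left
          (show Nat.Coprime M.index (2 ^ 3) from (Nat.coprime_two_right.2 hoddI).pow_right 3)
          (by simpa using hdvd))
        rw [Nat.dvd_one.1 h1, mul_one] at hmul
        exact hmul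
    rw [hM168] at hcardN
    have hG : Nat.card G = 2520 := by rw [h.card_G, e]
    have htop : N = ⊤ := Subgroup.eq_top_of_card_eq N (by rw [hcardN, hG])
    haveI : IsSimpleGroup G :=
      ((MulEquiv.subgroupCongr htop).trans Subgroup.topEquiv).isSimpleGroup_congr.1 hsimp
    exact A7Main29.nonempty_mulEquiv hG
  · exfalso
    rw [e] at hcardN hMdvd
    have hbig : Nat.card N = 32760 ∨ Nat.card N = 98280 → False := by
      intro hbig
      haveI : Fact (Nat.Prime 7) := ⟨by norm_num⟩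
      have hle : Nat.card (Sylow 7 N) ≤ 15 :=
        le_trans (card_sylow_le N 7) (card_sylow_seven h hab ht ht1 ha hb hc hf e)
      have h7 : Nat.card N = 7 ^ 1 * (Nat.card N / 7) := by omega
      have hmem := SimpleOrderCheck.mem_cand hna (p := 7) one_pos h7 (by omega)
      obtain ⟨P⟩ : Nonempty (Sylow 7 N) := inferInstance
      have hok := SimpleOrderCheck.iOK_index hna [13] _
        (SimpleOrder.normalizer_ne_top hna (by omega) P)
      rw [show (Subgroup.normalizer ((P : Subgroup N) : Set N)).index = Nat.card (Sylow 7 N) from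
        P.card_eq_index_normalizer.symm] at hok
      revert hmem hok hle
      generalize Nat.card (Sylow 7 N) = d
      intro hle hmem hok
      have hcand : ∀ n ∈ [32760, 98280], ∀ d ∈ SimpleOrderCheck.cand n 7 (n / 7), d ≤ 15 →
          SimpleOrderCheck.iOK n [13] d = false := by decide +kernel
      rcases hbig with hn' | hn' <;> rw [hn'] at hmem hok <;>
        rw [hcand _ (by simp) _ hmem hle] at hok <;> exact Bool.false_ne_true hok
    rcases hMcases 91 e with hodd' | ⟨h8, hmul, hdvd, hoddI⟩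
    · have hd : Nat.card M ∈ Nat.divisors 135 := by
        refine Nat.mem_divisors.2 ⟨?_, by norm_num⟩
        have hco : Nat.Coprime (Nat.card M) (2 ^ 3) :=
          ((Nat.coprime_two_right).2 (Nat.odd_iff.2 (by omega))).pow_right 3
        exact hco.dvd_of_dvd_mul_left (by simpa using hMdvd)
      rw [show Nat.divisors 135 = {1, 3, 5, 9, 15, 27, 45, 135} by decide +kernel] at hd
      simp only [Finset.mem_insert, Finset.mem_singleton] at hd
      have hkill : ∀ (n q : ℕ), SimpleOrderCheck.kill n [5, 7, 13] q 1 = true → Nat.card N ≠ n :=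
        fun n q hq => SimpleOrderCheck.card_ne_of_kill hna _ q 1 hq
      rcases hd with r | r | r | r | r | r | r | r <;> rw [r] at hcardN
      · exact hkill 91 7 (by decide +kernel) (by rw [hcardN])
      · exact hkill 273 7 (by decide +kernel) (by rw [hcardN])
      · exact hkill 455 7 (by decide +kernel) (by rw [hcardN])
      · exact hkill 819 7 (by decide +kernel) (by rw [hcardN])
      · exact hkill 1365 7 (by decide +kernel) (by rw [hcardN])
      · exact hkill 2457 7 (by decide +kernel) (by rw [hcardN])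
      · exact hkill 4095 5 (by decide +kernel) (by rw [hcardN])
      · exact hkill 12285 7 (by decide +kernel) (by rw [hcardN])
    · rw [hf] at hdvd
      have h3 : M.index ∣ 3 := Nat.Coprime.dvd_of_dvd_mul_left
        (show Nat.Coprime M.index (2 ^ 3) from (Nat.coprime_two_right.2 hoddI).pow_right 3)
        (by simpa using hdvd)
      refine hbig ?_
      rcases (Nat.dvd_prime (by norm_num : Nat.Prime 3)).1 h3 with r | r <;> rw [r] at hmul <;> omega

end Cfsg.Agent.TwoPointA4CaseOne15
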