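import Cfsg.Agent.Lib.TwoPointA4Even15Deg
import Cfsg.Agent.Lib.TwoPointA4Aff15
import Cfsg.Agent.Lib.SharplyTwoTransitive

/-!
Doubly transitive groups of even degree whose two-point stabiliser is alternating of degree four:
`A₆` on six points and `AGL(2,4)` on sixteen points.
-/

set_option autoImplicit false
set_option linter.unusedSectionVars false

open MulAction

namespace Cfsg.Agent.TwoPointA4Even15

open Cfsg.Agent.TwoPointA4Count15 Cfsg.Agent.TwoPointA4Bar15 Cfsg.Agent.TwoPointA4Ctx15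

/-- A permutation group of order 360 on six points is the alternating group. -/
theorem iso_six {G : Type*} [Group G] [Fintype G] {Ω : Type*} [Fintype Ω] [MulAction G Ω]
    [FaithfulSMul G Ω] (hn : Fintype.card Ω = 6) (hG : Nat.card G = 360) :
    Nonempty (G ≃* ↥(alternatingGroup (Fin 6))) := by
  classical
  let f : G →* Equiv.Perm (Fin 6) :=
    ((Fintype.equivFinOfCardEq hn).permCongrHom.toMonoidHom).comp (MulAction.toPermHom G Ω)
  have hf : Function.Injective f :=
    (Fintype.equivFinOfCardEq hn).permCongrHom.injective.comp MulAction.toPerm_injective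
  have hc : Nat.card f.range = 360 := by rw [← hG, Nat.card_congr (MonoidHom.ofInjective hf).toEquiv]
  have hidx : f.range.index = 2 := by
    have := f.range.card_mul_index
    rw [hc, Nat.card_perm, Nat.card_fin, show Nat.factorial 6 = 720 from rfl] at this
    omega
  exact ⟨(MonoidHom.ofInjective hf).trans
    (MulEquiv.subgroupCongr (Equiv.Perm.eq_alternatingGroup_of_index_eq_two hidx))⟩

section Arith

/-- The excess of the order formula. -/
theorem excess_bounds {x y z : ℕ} (hx : x + 1 = y + z) (hy : y % 4 = 3) (hz : z % 4 = 3)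
    {I R : ℤ} (hR : 0 < R) (heq : I * (((x : ℤ) + 1) * ((y : ℤ) - 1) * ((z : ℤ) - 1)) = 8 * R * ((x : ℤ) * y * z)) :
    8 * R < I ∧ I < 18 * R ∧ I ≠ 11 * R := by
  have hy3 : (3 : ℤ) ≤ y := by omega
  have hz3 : (3 : ℤ) ≤ z := by omega
  have hx1 : (x : ℤ) + 1 = y + z := by exact_mod_cast hx
  have hyz : (y : ℤ) = 3 ∨ (7 : ℤ) ≤ y := by omega
  have hzy : (z : ℤ) = 3 ∨ (7 : ℤ) ≤ z := by omega
  generalize (x : ℤ) = X at *
  generalize (y : ℤ) = Y at *
  generalize (z : ℤ) = Z at *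
  obtain rfl : X = Y + Z - 1 := by omega
  simp only [sub_add_cancel] at heq
  set D := (Y + Z) * (Y - 1) * (Z - 1) with hD
  set N := (Y + Z - 1) * Y * Z with hN
  have hD0 : 0 < D := by
    have : 0 < Y - 1 := by omega
    have : 0 < Z - 1 := by omega
    positivity
  have hDN : D < N := by nlinarith [mul_le_mul hy3 hz3 (by norm_num) (by omega : (0:ℤ) ≤ Y)]
  have hN0 : 0 < N := hD0.trans hDN
  have h4 : 4 * N < 9 * D := by
    nlinarith [mul_nonneg (show (0 : ℤ) ≤ Y - 3 by omega) (show (0 : ℤ) ≤ Z - 3 by omega)]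
  refine ⟨?_, ?_, ?_⟩
  · refine lt_of_mul_lt_mul_right (a := D) ?_ hD0.le
    rw [heq]
    exact mul_lt_mul_of_pos_left hDN (by omega)
  · refine lt_of_mul_lt_mul_right (a := D) ?_ hD0.le
    rw [heq]
    nlinarith
  · intro hI
    subst hI
    have h118 : 11 * D = 8 * N := by
      refine mul_left_cancel₀ hR.ne' ?_
      linear_combination heq
    rcases hyz with rfl | hy7
    · nlinarith
    rcases hzy with rfl | hz7
    · nlinarith
    nlinarith [mul_nonneg (show (0 : ℤ) ≤ Y - 7 by omega) (show (0 : ℤ) ≤ Z - 7 by omega)]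

theorem line_cases {C J lam m y : ℕ} (hlam : lam = 1 ∨ lam = 2) (hC : Odd C) (hJ6 : J ≤ 6)
    (hy : 1 ≤ y) (hm : 1 + lam * (C + 1) = m * y)
    (hI : (3 + J * (C + 1 + lam * ((C + 1) * C)) : ℤ) = m ^ 2 * (2 * y - 1) * (4 * y - 1)) :
    lam = 1 ∧ ((C = 1 ∧ J = 6) ∨ C = 5) := by
  have hyodd : Odd y := by
    have : Odd (m * y) := by
      rw [← hm]
      obtain ⟨r, rfl⟩ := hC
      exact ⟨lam * (r + 1), by ring⟩
    exact (Nat.odd_mul.1 this).2
  have hJz : (J : ℤ) ≤ 6 := by exact_mod_cast hJ6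
  have hf0 : (0 : ℤ) ≤ C + 1 + lam * ((C + 1) * C) := by positivity
  have hJf := mul_le_mul_of_nonneg_right hJz hf0
  rcases (show y = 1 ∨ 3 ≤ y by obtain ⟨r, rfl⟩ := hyodd; omega) with rfl | hy3
  · rw [mul_one] at hm
    subst hm
    rcases hlam with rfl | rfl
    · obtain ⟨r, rfl⟩ := hC
      refine ⟨rfl, ?_⟩
      push_cast at hI
      have hkey : ((J : ℤ) - 3) * (r + 1) = 3 := by
        refine mul_left_cancel₀ (show (4 * ((r : ℤ) + 1)) ≠ 0 by positivity) ?_
        linear_combination hI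
      interval_cases J <;> omega
    · exfalso
      push_cast at hI hJf
      nlinarith only [hI, hJf, (Nat.cast_nonneg C : (0 : ℤ) ≤ C)]
  · exfalso
    have hyz : (3 : ℤ) ≤ y := by exact_mod_cast hy3
    have h6 : (6 : ℤ) * (y : ℤ) ^ 2 ≤ (2 * y - 1) * (4 * y - 1) := by nlinarith only [hyz]
    have h6' := mul_le_mul_of_nonneg_left h6 (sq_nonneg (m : ℤ))
    have hmz : (1 + lam * (C + 1) : ℤ) = m * y := by exact_mod_cast hm
    have hT : 6 * (1 + (lam : ℤ) * (C + 1)) ^ 2 ≤ 3 + J * (C + 1 + lam * ((C + 1) * C)) := by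
      calc 6 * (1 + (lam : ℤ) * (C + 1)) ^ 2 = (m : ℤ) ^ 2 * (6 * (y : ℤ) ^ 2) := by rw [hmz]; ring
        _ ≤ _ := h6'
        _ = _ := by rw [hI]; ring
    rcases hlam with rfl | rfl <;> push_cast at hT hJf <;>
      nlinarith only [hT, hJf, (Nat.cast_nonneg C : (0 : ℤ) ≤ C)]

theorem line_excess {C J lam : ℕ} (hlam : lam = 1 ∨ lam = 2) (hJ6 : J ≤ 6)
    (h8 : 8 * (1 + (lam : ℤ) * (C + 1)) ^ 2 < 3 + J * (C + 1 + lam * ((C + 1) * C))) : False := by
  have hJz : (J : ℤ) ≤ 6 := by exact_mod_cast hJ6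
  have hf0 : (0 : ℤ) ≤ C + 1 + lam * ((C + 1) * C) := by positivity
  have hJf := mul_le_mul_of_nonneg_right hJz hf0
  rcases hlam with rfl | rfl <;> push_cast at h8 hJf <;>
    nlinarith only [h8, hJf, (Nat.cast_nonneg C : (0 : ℤ) ≤ C)]

theorem small_cases {f J I : ℕ} (hI : I = 3 + J * f) (h8 : 8 < I) (h18 : I < 18) (h11 : I ≠ 11)
    (hJ : 1 ≤ J) (hJ6 : J ≤ 6) (hpow : ∃ j, 1 ≤ j ∧ f = 2 ^ j) :
    (f = 2 ∧ (J = 3 ∨ J = 6)) ∨ (f = 4 ∧ J = 3) ∨ (f = 2 ∧ (J = 4 ∨ J = 5)) := by
  obtain ⟨j, hj, rfl⟩ := hpow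
  have hj4 : j < 4 := by
    by_contra hlt
    have : 2 ^ 4 ≤ 2 ^ j := Nat.pow_le_pow_right (by norm_num) (by omega)
    have : 2 ^ j ≤ J * 2 ^ j := Nat.le_mul_of_pos_left _ (by omega)
    omega
  interval_cases j <;> interval_cases J <;> omega

end Arith

/-- A line with six points is impossible. -/
theorem false_line_six {G : Type*} [Group G] [Fintype G] {Ω : Type*} [Fintype Ω] [MulAction G Ω]
    (h : Setup G Ω) (heven : Even (Fintype.card Ω)) {a b : Ω} {t : G} {J : ℕ} (hab : a ≠ b)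
    (ht : t ∈ Vfin G a b) (ht1 : t ≠ 1)
    (hmain : 3 * (Fintype.card Ω - fx Ω t) = J * (fx Ω t * (fx Ω t - 1)))
    (h6 : (lineFin G a b).card = 6) : False := by
  classical
  set K := Subgroup.centralizer (fourGp h hab : Set G) with hK
  set X : Set Ω := line G a b with hX
  have hKX : ∀ k ∈ K, ∀ x ∈ X, k • x ∈ X := fun k hk x hx v hv => by
    rw [← mul_smul, Subgroup.mem_centralizer_iff.1 hk v hv, mul_smul, hx v hv]
  have hmove : ∀ p ∈ X, ∀ q ∈ X, ∀ q' ∈ X, p ≠ q → p ≠ q' → ∃ g ∈ K, g • p = p ∧ g • q = q' := by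
    intro p hp q hq q' hq' hpq hpq'
    have hV := h.Vfin_eq hab hp hq hpq
    have htp : t ∈ Vfin G p q := by rw [hV]; exact ht
    obtain ⟨g, ⟨hg, hgp⟩, hgq⟩ := cent_four_trans h heven hpq htp ht1 hmain
      (show q' ∈ line G p q by rw [h.line_eq hab hp hq hpq]; exact hq') hpq'.symm
    exact ⟨g, Subgroup.mem_centralizer_iff.2 fun v hv =>
      Subgroup.mem_centralizer_iff.1 hg v (show v ∈ Vfin G p q by rw [hV]; exact hv), hgp, hgq⟩
  have hXc : Nat.card X = 6 := by
    rw [← h6, ← Nat.card_eq_finsetCard]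
    exact Nat.card_congr (Equiv.subtypeEquivRight fun x => mem_lineFin.symm)
  have hP : PairTrans (restrImage K X hKX) X := by
    refine restrImage_pairTrans hKX fun p hp q hq p' hp' q' hq' hpq hpq' => ?_
    obtain ⟨r, hr, hr'⟩ := Finset.exists_mem_notMem_of_card_lt_card
      (s := ({p, p'} : Finset Ω)) (t := lineFin G a b)
      (lt_of_le_of_lt Finset.card_le_two (by rw [h6]; norm_num))
    simp only [Finset.mem_insert, Finset.mem_singleton, not_or] at hr'
    obtain ⟨g, hg, -, hgp⟩ := hmove r (mem_lineFin.1 hr) p hp p' hp' hr'.1 hr'.2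
    obtain ⟨k, hk, hkp, hkq⟩ := hmove p' hp' (g • q) (hKX g hg q hq) q' hq'
      (fun e => hpq ((smul_left_cancel_iff g).1 (hgp.trans e))) hpq'
    exact ⟨k * g, K.mul_mem hk hg, by rw [mul_smul, hgp, hkp], by rw [mul_smul, hkq]⟩
  haveI : Finite X := Finite.of_fintype _
  obtain ⟨-, p, j, hp, -, hX', -⟩ := SharplyTwoTransitive.kernel_exists (G := restrImage K X hKX)
    (X := X) (is_two_pretransitive_iff.2 fun {_ _ _ _} h1 h2 => hP _ _ _ _ h1 h2)
    (fun z p q hpq hp hq => by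
      obtain ⟨⟨k, hk⟩, rfl⟩ := toImage_surjective _ _ _ z
      have hkV : k ∈ Vfin G (p : Ω) q := h.mem_Vfin_of_cent (mem_Vfin.1 ht).2.2 ht1
        (fun e => hpq (Subtype.ext e)) (p.2 t ht) (q.2 t ht)
        (Subgroup.mem_centralizer_iff.1 hk t ht).symm ((toImage_fix_iff _ p).1 hp)
        ((toImage_fix_iff _ q).1 hq)
      rw [h.Vfin_eq hab p.2 q.2 (fun e => hpq (Subtype.ext e))] at hkV
      exact (toImage_eq_one_iff _).2 fun x hx => hx k hkV)
    (by omega)
  rw [hXc] at hX'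
  have h2 : 2 ∣ p := Nat.prime_two.dvd_of_dvd_pow (hX' ▸ (by norm_num : 2 ∣ 6))
  have h3 : 3 ∣ p := Nat.prime_three.dvd_of_dvd_pow (hX' ▸ (by norm_num : 3 ∣ 6))
  have e2 := (Nat.prime_dvd_prime_iff_eq Nat.prime_two hp).1 h2
  have e3 := (Nat.prime_dvd_prime_iff_eq Nat.prime_three hp).1 h3
  omega

/-- The two possibilities when the degree is even. -/
theorem even_case {G : Type*} [Group G] [Fintype G] {Ω : Type*} [Fintype Ω] [MulAction G Ω]
    [FaithfulSMul G Ω] (h2 : MulAction.IsMultiplyPretransitive G Ω 2) {a b : Ω} (hab : a ≠ b)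
    (e : ↥(MulAction.stabilizer G a ⊓ MulAction.stabilizer G b) ≃* ↥(alternatingGroup (Fin 4)))
    (heven : Even (Fintype.card Ω)) :
    (Fintype.card Ω = 6 ∧ Nonempty (G ≃* ↥(alternatingGroup (Fin 6)))) ∨
      (Fintype.card Ω = 16 ∧ ∃ (F : Type) (_ : Field F) (_ : Fintype F), Fintype.card F = 4 ∧
        Nonempty (G ≃* ((Fin 2 → F) ≃ᵃ[F] (Fin 2 → F)))) := by
  classical
  have h := setup_of h2 hab e
  obtain ⟨t, hta, htb, ht2, ht1⟩ := h.exists_inv hab
  have ht : t ∈ Vfin G a b := mem_Vfin.2 ⟨hta, htb, ht2⟩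
  have htT : IsT Ω t := h.isT_of_mem hab ht ht1
  obtain ⟨J, k, hJ, hJk, hmain, -, -⟩ := h.counts hab ht2 ht1 hta htb
  have hJ6 : J ≤ 6 := by omega
  have hf2 := one_lt_fx hab hta htb
  have hfe := fx_even h heven ht2
  have hc2 := two_le_lineFin (G := G) (p := a) (q := b) hab
  have hcf := h.line_le_fix hab ht ht1
  have hpar := line_parity h hab ht ht1
  have hfn := fx_le (α := Ω) t
  rcases hcf.lt_or_eq with hlt | heq
  · exfalso
    haveI : Fintype (bar Ω t) := Fintype.ofFinite _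
    haveI : Fintype (fixSet Ω t) := Fintype.ofFinite _
    have hTwo := h.bar_two htT (fun p q hpq => by rw [h.lineFin_card_eq hpq hab]; exact hlt)
      (Ω := Ω)
    obtain ⟨v, hv, hv1, htv⟩ := exists_second h hab t
    have hvc : v ∈ Subgroup.centralizer ({t} : Set G) :=
      Subgroup.mem_centralizer_singleton_iff.2 (comm_of_mem h hab hv ht)
    have hfs := fx_toBar h hab ht ht1 hv hv1 htv hvc
    have hcard : Fintype.card (fixSet Ω t) = fx Ω t := by
      rw [← Nat.card_eq_fintype_card, card_fixSet]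
    have hs1 : toBar Ω t ⟨v, hvc⟩ ≠ 1 := fun e1 => by
      rw [e1] at hfs
      have h' : fx (fixSet Ω t) (1 : bar Ω t) = fx Ω t := by
        rw [fx_eq_natCard, ← hcard, ← Nat.card_eq_fintype_card]
        exact Nat.card_congr (Equiv.subtypeUnivEquiv fun x => one_smul _ x)
      omega
    obtain ⟨lam, hlam, hcnt, -, -, -⟩ := hTwo.counts (a := ⟨a, hta⟩) (b := ⟨b, htb⟩)
      (fun e1 => hab (congrArg Subtype.val e1)) hs1
      ((toImage_fix_iff ⟨v, hvc⟩ (⟨a, hta⟩ : fixSet Ω t)).2 (mem_Vfin.1 hv).1)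
      ((toImage_fix_iff ⟨v, hvc⟩ (⟨b, htb⟩ : fixSet Ω t)).2 (mem_Vfin.1 hv).2.1)
    rw [hcard, hfs] at hcnt
    generalize hline : (lineFin G a b).card = c at *
    obtain ⟨C, rfl⟩ : ∃ C, c = C + 1 := ⟨c - 1, by omega⟩
    simp only [Nat.add_sub_cancel] at *
    have hf : fx Ω t = C + 1 + lam * ((C + 1) * C) := by omega
    have hk := klein h heven hab ht ht1 hmain
    simp only [hline, hf, Nat.add_sub_cancel] at hk
    rw [hf] at hfe hpar
    have hF : C + 1 + lam * ((C + 1) * C) - 1 = (1 + lam * (C + 1)) * C := by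
      have : (1 + lam * (C + 1)) * C = C + lam * ((C + 1) * C) := by ring
      omega
    rw [hF] at hk
    have hCodd : Odd C := by
      rcases hlam with rfl | rfl <;> rcases Nat.even_or_odd C with ⟨r, rfl⟩ | hC
      all_goals first
        | exact hC
        | (exfalso
           have h0 : 2 ∣ (r + r + 1) * (r + r) := dvd_mul_of_dvd_right ⟨r, by ring⟩ _
           omega)
    rcases hk with ⟨m, y, hy, hm, hI⟩ | ⟨x, y, z, hx, hy, hz, hI⟩
    · have hmy : 1 + lam * (C + 1) = m * y :=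
        Nat.eq_of_mul_eq_mul_right (show 0 < C by omega) hm
      push_cast at hI
      obtain ⟨rfl, ⟨rfl, rfl⟩ | rfl⟩ := line_cases hlam hCodd hJ6 hy hmy hI
      · refine false_twentyeight h hab ht ht1 ?_ (by omega)
        rw [hf] at hmain hfn
        norm_num at hmain hfn
        omega
      · exact false_line_six h heven hab ht ht1 hmain hline
    · have hC0 : (C : ℤ) ≠ 0 := by omega
      push_cast at hI
      have hR : (0 : ℤ) < (1 + lam * (C + 1)) ^ 2 := by positivity
      obtain ⟨h8, -, -⟩ := excess_bounds hx hy hz hR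
        (I := (3 + J * (C + 1 + lam * ((C + 1) * C)) : ℤ)) (by
          refine mul_left_cancel₀ (pow_ne_zero 2 hC0) ?_
          linear_combination hI)
      exact line_excess hlam hJ6 h8
  · -- every involution of the four group fixes only the line
    have hcall : ∀ p q : Ω, p ≠ q → (lineFin G p q).card = fx Ω t :=
      fun p q hpq => (h.lineFin_card_eq hpq hab).trans heq
    have hk := klein h heven hab ht ht1 hmain
    rw [heq] at hk
    have hpow : ∃ j, 1 ≤ j ∧ fx Ω t = 2 ^ j := by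
      have hP := h.bar_trans htT
      haveI : Finite (fixSet Ω t) := Finite.of_fintype _
      obtain ⟨-, p, j, hp, hj, hX, -⟩ := SharplyTwoTransitive.kernel_exists (G := bar Ω t)
        (X := fixSet Ω t) (is_two_pretransitive_iff.2 fun {_ _ _ _} h1 h2 => hP _ _ _ _ h1 h2)
        (fun g p q hpq hp hq => h.bar_sharp htT hcall g p q hpq hp hq)
        (by rw [card_fixSet]; omega)
      rw [card_fixSet] at hX
      refine ⟨j, hj, ?_⟩
      have h2p : 2 ∣ p := Nat.prime_two.dvd_of_dvd_pow (hX ▸ hfe)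
      rw [hX, (Nat.prime_dvd_prime_iff_eq Nat.prime_two hp).1 h2p]
    obtain ⟨h8, h18, h11⟩ : 8 < 3 + J * fx Ω t ∧ 3 + J * fx Ω t < 18 ∧ 3 + J * fx Ω t ≠ 11 := by
      rcases hk with ⟨m, y, hy, hm, hI⟩ | ⟨x, y, z, hx, hy, hz, hI⟩
      · exfalso
        have hmy : m * y = 1 := by
          have := Nat.eq_of_mul_eq_mul_right (show 0 < fx Ω t - 1 by omega)
            (show 1 * (fx Ω t - 1) = m * y * (fx Ω t - 1) by rw [one_mul]; exact hm)
          exact this.symm
        obtain ⟨rfl, rfl⟩ := mul_eq_one.1 hmy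
        have : 0 < J * fx Ω t := Nat.mul_pos hJ (by omega)
        push_cast at hI
        norm_num at hI
        omega
      · have hF0 : ((fx Ω t - 1 : ℕ) : ℤ) ≠ 0 := by omega
        obtain ⟨b1, b2, b3⟩ := excess_bounds (I := (3 + J * fx Ω t : ℤ)) (R := 1) hx hy hz one_pos (by
          refine mul_left_cancel₀ (pow_ne_zero 2 hF0) ?_
          linear_combination hI)
        push_cast at b1 b2 b3
        exact ⟨by exact_mod_cast (show (8 : ℤ) < 3 + J * fx Ω t by linarith),
          by exact_mod_cast (show (3 + J * fx Ω t : ℤ) < 18 by linarith),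
          fun e1 => b3 (by exact_mod_cast e1)⟩
    clear hk
    have hGc := h.card_G
    rcases small_cases rfl h8 h18 h11 hJ hJ6 hpow with ⟨hf, hJ'⟩ | ⟨hf, hJ'⟩ | ⟨hf, hJ'⟩
    · rw [hf] at hmain hfn
      rcases hJ' with rfl | rfl
      · exfalso
        have hn : Fintype.card Ω = 4 := by omega
        have hle : Nat.card G ≤ Nat.card (Equiv.Perm Ω) :=
          Nat.card_le_card_of_injective _ (MulAction.toPerm_injective (α := G) (β := Ω))
        rw [hGc, hn, Nat.card_perm, Nat.card_eq_fintype_card, hn,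
          show Nat.factorial 4 = 24 from rfl] at hle
        omega
      · have hn : Fintype.card Ω = 6 := by omega
        exact Or.inl ⟨hn, iso_six hn (by rw [hGc, hn])⟩
    · rw [hf, hJ'] at hmain
      rw [hf] at hfn
      have hn : Fintype.card Ω = 16 := by omega
      refine Or.inr ⟨hn, TwoPointA4Aff15.main h2 a b hab e hn (fun g hg hga => ?_)
        (fun v w hva hvb hwa hwb hv hw => ?_)⟩
      · have hg2 : g * g = 1 := by rw [← pow_two, ← hg, pow_orderOf_eq_one]
        have hg1 : g ≠ 1 := fun e1 => by rw [e1, orderOf_one] at hg; norm_num at hg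
        rw [← fx_eq_natCard, h.fx_eq (isT_of_fix h heven hg2 hg1 hga) htT, hf]
      · have hsq : ∀ r : G, orderOf r = 2 → r * r = 1 ∧ r ≠ 1 := fun r hr =>
          ⟨by rw [← pow_two, ← hr, pow_orderOf_eq_one],
            fun e1 => by rw [e1, orderOf_one] at hr; norm_num at hr⟩
        have hmv : v ∈ Vfin G a b := mem_Vfin.2 ⟨hva, hvb, (hsq v hv).1⟩
        have hmw : w ∈ Vfin G a b := mem_Vfin.2 ⟨hwa, hwb, (hsq w hw).1⟩
        ext x
        rw [mem_fixedBy, mem_fixedBy,
          ← h.line_eq_fix hab hmv (hsq v hv).2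
            ((h.fx_eq (h.isT_of_mem hab hmv (hsq v hv).2) htT).trans heq.symm),
          ← h.line_eq_fix hab hmw (hsq w hw).2
            ((h.fx_eq (h.isT_of_mem hab hmw (hsq w hw).2) htT).trans heq.symm)]
    · exfalso
      rw [hf] at hmain
      omega

end Cfsg.Agent.TwoPointA4Even15
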