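import Cfsg.Agent.Lib.TwoPointA4Even15Local
import Cfsg.Agent.Lib.PermMinimalNormal
import Cfsg.Agent.Lib.SimpleOrderCheck
import Cfsg.Agent.Lib.SimpleRangeLowMain81

/-!
No doubly transitive group of degree twenty-eight has an alternating group of degree four as its
two-point stabiliser with involutions fixing four points.
-/

set_option autoImplicit false
set_option linter.unusedSectionVars false

open MulAction

namespace Cfsg.Agent.TwoPointA4Even15

open Cfsg.Agent.TwoPointA4Count15 Cfsg.Agent.TwoPointA4Bar15 Cfsg.Agent.TwoPointA4Ctx15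

universe u

variable {G : Type u} [Group G] [Fintype G] {Ω : Type*} [Fintype Ω] [MulAction G Ω]
variable (h : Setup G Ω)
include h

variable {a b : Ω} {g t v w : G}

/-- At most six involutions exchange two given points. -/
theorem swap_le_six (hab : a ≠ b) {z₀ : G} (hz2 : z₀ * z₀ = 1) (hza : z₀ • a = b) (T : Finset G)
    (hT : ∀ z ∈ T, z * z = 1 ∧ z • a = b) : T.card ≤ 6 := by
  classical
  have hzb : z₀ • b = a := by rw [← hza, ← mul_smul, hz2, one_smul]
  set H := stabilizer G a ⊓ stabilizer G b with hH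
  have hzH : ∀ x ∈ H, z₀ * x * z₀ ∈ H := by
    intro x hx
    simp only [hH, Subgroup.mem_inf, mem_stabilizer_iff] at hx ⊢
    exact ⟨by rw [mul_smul, mul_smul, hza, hx.2, hzb], by rw [mul_smul, mul_smul, hzb, hx.1, hza]⟩
  let φ : H ≃* H :=
    { toFun := fun x => ⟨z₀ * x * z₀, hzH x x.2⟩
      invFun := fun x => ⟨z₀ * x * z₀, hzH x x.2⟩
      left_inv := fun x => Subtype.ext (by
        show z₀ * (z₀ * (x : G) * z₀) * z₀ = x
        calc z₀ * (z₀ * (x : G) * z₀) * z₀ = (z₀ * z₀) * x * (z₀ * z₀) := by group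
          _ = x := by rw [hz2, one_mul, mul_one])
      right_inv := fun x => Subtype.ext (by
        show z₀ * (z₀ * (x : G) * z₀) * z₀ = x
        calc z₀ * (z₀ * (x : G) * z₀) * z₀ = (z₀ * z₀) * x * (z₀ * z₀) := by group
          _ = x := by rw [hz2, one_mul, mul_one])
      map_mul' := fun x y => Subtype.ext (by
        show z₀ * ((x : G) * y) * z₀ = z₀ * x * z₀ * (z₀ * y * z₀)
        calc z₀ * ((x : G) * y) * z₀ = z₀ * x * (z₀ * z₀) * y * z₀ := by rw [hz2]; group
          _ = _ := by group) }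
  obtain ⟨e, -⟩ := h.equiv hab
  refine le_trans ?_ (inverted_bound e φ fun x => φ.left_inv x).1
  have hmem : ∀ z ∈ T, z₀ * z ∈ H := by
    intro z hz
    obtain ⟨hz', hzab⟩ := hT z hz
    have hzba : z • b = a := by rw [← hzab, ← mul_smul, hz', one_smul]
    simp only [hH, Subgroup.mem_inf, mem_stabilizer_iff]
    exact ⟨by rw [mul_smul, hzab, hzb], by rw [mul_smul, hzba, hza]⟩
  refine Finset.card_le_card_of_injOn (fun z => if hz : z₀ * z ∈ H then ⟨z₀ * z, hz⟩ else 1) ?_ ?_
  · intro z hz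
    simp only [Finset.coe_filter, Finset.mem_univ, true_and, Set.mem_setOf_eq, dif_pos (hmem z hz)]
    refine Subtype.ext (eq_inv_of_mul_eq_one_left ?_)
    show z₀ * (z₀ * z) * z₀ * (z₀ * z) = 1
    calc z₀ * (z₀ * z) * z₀ * (z₀ * z) = (z₀ * z₀) * z * (z₀ * z₀) * z := by group
      _ = 1 := by rw [hz2, one_mul, mul_one, (hT z hz).1]
  · intro x hx y hy hxy
    simp only [dif_pos (hmem x hx), dif_pos (hmem y hy)] at hxy
    exact mul_left_cancel (congrArg Subtype.val hxy)

/-- In degree twenty-eight every involution fixes four points. -/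
theorem isT_twentyeight (hab : a ≠ b) (ht : IsT Ω t) (hn : Fintype.card Ω = 28)
    (hf : fx Ω t = 4) (hw : w * w = 1) (hw1 : w ≠ 1) : IsT Ω w := by
  classical
  by_contra hwT
  have heven : Even (Fintype.card Ω) := by rw [hn]; decide
  set S := Finset.univ.filter fun z : G => IsT Ω z with hSdef
  have hS : ∀ g z : G, z ∈ S → g * z * g⁻¹ ∈ S := by
    intro g z hz
    simp only [hSdef, Finset.mem_filter, Finset.mem_univ, true_and] at hz ⊢
    exact isT_conj hz g
  have hfS : ∀ z ∈ S, fx Ω z = 4 := fun z hz => (h.fx_eq (Finset.mem_filter.1 hz).2 ht).trans hf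
  have e1 := count_swap h.trans S hS hfS hab
  have e2 := count_fixed_pairs h.trans S hS hfS hab
  have hthree : (S.filter fun z => z • a = a ∧ z • b = b).card = 3 := by
    rw [show (S.filter fun z => z • a = a ∧ z • b = b) = (Vfin G a b).erase 1 from ?_,
      Finset.card_erase_of_mem (mem_Vfin.2 ⟨one_smul _ _, one_smul _ _, one_mul 1⟩),
      h.Vfin_card hab]
    ext z
    simp only [hSdef, Finset.mem_filter, Finset.mem_univ, true_and, Finset.mem_erase, mem_Vfin]
    exact ⟨fun hz => ⟨hz.1.2.1, hz.2.1, hz.2.2, hz.1.1⟩,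
      fun hz => ⟨⟨hz.2.2.2, hz.1, a, b, hab, hz.2.1, hz.2.2.1⟩, hz.2.1, hz.2.2.1⟩⟩
  rw [hthree, hn] at e2
  rw [hn] at e1
  set T := S.filter fun z => z • a = b with hTdef
  have hT6 : T.card = 6 := by omega
  obtain ⟨x, hx⟩ : ∃ x : Ω, w • x ≠ x := by
    by_contra hc
    push Not at hc
    exact hw1 (h.faithful w hc)
  obtain ⟨g, hga, hgb⟩ := h.trans x (w • x) a b (Ne.symm hx) hab
  set w' := g * w * g⁻¹ with hw'
  have hw'T : ¬ IsT Ω w' := fun hh => hwT (by
    have := isT_conj hh g⁻¹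
    simpa [hw', mul_assoc] using this)
  have hw'2 : w' * w' = 1 := by
    calc w' * w' = g * (w * w) * g⁻¹ := by rw [hw']; group
      _ = 1 := by rw [hw]; group
  have hw'a : w' • a = b := by rw [hw', mul_smul, inv_smul_eq_iff.2 hga.symm, mul_smul, hgb]
  obtain ⟨z₀, hz₀⟩ : T.Nonempty := Finset.card_pos.1 (by omega)
  have hTmem : ∀ z ∈ T, z * z = 1 ∧ z • a = b := fun z hz => by
    simp only [hTdef, hSdef, Finset.mem_filter, Finset.mem_univ, true_and] at hz
    exact ⟨hz.1.1, hz.2⟩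
  have hnot : w' ∉ T := fun hh => hw'T (by
    simp only [hTdef, hSdef, Finset.mem_filter, Finset.mem_univ, true_and] at hh
    exact hh.1)
  have := swap_le_six h hab (hTmem z₀ hz₀).1 (hTmem z₀ hz₀).2 (insert w' T) (fun z hz => by
    rcases Finset.mem_insert.1 hz with rfl | hz
    · exact ⟨hw'2, hw'a⟩
    · exact hTmem z hz)
  rw [Finset.card_insert_of_notMem hnot, hT6] at this
  omega

/-- A nonabelian simple group of order 9072 has an element of order seven commuting with an
involution; this contradicts the fixed point sets. -/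
theorem false_simple [IsSimpleGroup G] (hab : a ≠ b) (ht : IsT Ω t) (hn : Fintype.card Ω = 28)
    (hf : fx Ω t = 4) : False := by
  classical
  haveI : Fact (Nat.Prime 7) := ⟨by norm_num⟩
  haveI : Fact (Nat.Prime 2) := ⟨Nat.prime_two⟩
  have hcard : Nat.card G = 9072 := by rw [h.card_G, hn]
  have hG : ¬ IsMulCommutative G :=
    SimpleOrder.not_comm_of_not_prime (by rw [hcard]; norm_num)
  obtain ⟨P⟩ : Nonempty (Sylow 7 G) := inferInstance
  have hP : Nat.card ↥(P : Subgroup G) = 7 :=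
    SimpleOrderCheck.sylow_card_of_once (by rw [hcard]) (by rw [hcard]; norm_num) P
  have hd := SimpleOrderCheck.mem_cand hG (p := 7) (v := 1) (m := 1296) Nat.one_pos
    (by rw [hcard]; norm_num) (by norm_num)
  obtain ⟨e, he, hC, -⟩ := SimpleOrderCheck.exists_eList hG P hP
  rw [hcard] at hd he hC
  have key : ∀ d ∈ SimpleOrderCheck.cand 9072 7 1296, ∀ e ∈ SimpleOrderCheck.eList 9072 7 d,
      9072 / d / e % 2 = 0 := by decide +kernel
  have h2 : 2 ∣ Nat.card ↥(Subgroup.centralizer ((P : Subgroup G) : Set G)) := by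
    rw [← hC]; exact Nat.dvd_of_mod_eq_zero (key _ hd e he)
  obtain ⟨w, hw⟩ := exists_prime_orderOf_dvd_card' 2 h2
  obtain ⟨x, hx⟩ := exists_prime_orderOf_dvd_card' 7 (show 7 ∣ Nat.card ↥(P : Subgroup G) by rw [hP])
  have hwG : orderOf (w : G) = 2 := by rw [Subgroup.orderOf_coe, hw]
  have hxG : orderOf (x : G) = 7 := by rw [Subgroup.orderOf_coe, hx]
  have hw2 : (w : G) * w = 1 := by rw [← pow_two, ← hwG, pow_orderOf_eq_one]
  have hw1 : (w : G) ≠ 1 := fun e => by rw [e, orderOf_one] at hwG; norm_num at hwG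
  have hwT := isT_twentyeight h hab ht hn hf hw2 hw1
  have hxw : (x : G) ∈ Subgroup.centralizer ({(w : G)} : Set G) :=
    Subgroup.mem_centralizer_singleton_iff.2 (Subgroup.mem_centralizer_iff.1 w.2 x x.2)
  haveI : Fintype (fixSet Ω (w : G)) := Fintype.ofFinite _
  have h4 : Fintype.card (fixSet Ω (w : G)) = 4 := by
    rw [← Nat.card_eq_fintype_card, card_fixSet, h.fx_eq hwT ht, hf]
  set z : Equiv.Perm (fixSet Ω (w : G)) := ((toBar Ω (w : G) ⟨x, hxw⟩ : bar Ω (w : G)) :
    Equiv.Perm (fixSet Ω (w : G))) with hz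
  have hz7 : z ^ 7 = 1 := by
    rw [hz, ← Subgroup.coe_pow, ← map_pow,
      show (⟨x, hxw⟩ : Subgroup.centralizer ({(w : G)} : Set G)) ^ 7 = 1 from
        Subtype.ext (show (x : G) ^ 7 = 1 from orderOf_dvd_iff_pow_eq_one.1 (dvd_of_eq hxG)),
      map_one]
    rfl
  have hz1 : z = 1 := by
    have h1 : orderOf z ∣ 7 := orderOf_dvd_of_pow_eq_one hz7
    have h2 : orderOf z ∣ 24 := by
      have := orderOf_dvd_card (x := z)
      rwa [Fintype.card_perm, h4, show Nat.factorial 4 = 24 from rfl] at this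
    exact orderOf_eq_one_iff.1 (Nat.dvd_one.1 (by
      have := Nat.dvd_gcd h1 h2
      simpa using this))
  obtain ⟨-, -, p, q, hpq, hp, hq⟩ := hwT
  have hxp : (x : G) • p = p := congrArg Subtype.val (Equiv.ext_iff.1 hz1 ⟨p, hp⟩)
  have hxq : (x : G) • q = q := congrArg Subtype.val (Equiv.ext_iff.1 hz1 ⟨q, hq⟩)
  have h7 : 7 ∣ 12 := by
    have := orderOf_dvd_natCard (G := ↥(stabilizer G p ⊓ stabilizer G q)) ⟨x, hxp, hxq⟩
    rw [← Subgroup.orderOf_coe, h.H_card hpq] at this
    rwa [hxG] at this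
  norm_num at h7

/-- Degree twenty-eight does not occur. -/
theorem false_twentyeight (hab : a ≠ b) (ht : t ∈ Vfin G a b) (ht1 : t ≠ 1)
    (hn : Fintype.card Ω = 28) (hf : fx Ω t = 4) : False := by
  classical
  haveI : Fact (Nat.Prime 7) := ⟨by norm_num⟩
  haveI : Fact (Nat.Prime 2) := ⟨Nat.prime_two⟩
  have heven : Even (Fintype.card Ω) := by rw [hn]; decide
  have htT := h.isT_of_mem hab ht ht1
  have hcG : Nat.card G = 9072 := by rw [h.card_G, hn]
  have hcA : Nat.card (stabilizer G a) = 324 := by rw [h.card_stab a, hn]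
  obtain ⟨N, -, hN⟩ := PermMinimalNormal.exists_isMinNormal_le (⊤ : Subgroup G) (fun e => by
    have h1 : Nat.card (⊤ : Subgroup G) = 9072 := by rw [Subgroup.card_top, hcG]
    rw [e, Subgroup.card_bot] at h1
    norm_num at h1)
  have hNn := hN.1
  -- transitivity
  obtain ⟨m, hm, hm1⟩ := N.ne_bot_iff_exists_ne_one.1 hN.2.1 |> fun ⟨m, hm⟩ =>
    (⟨(m : G), m.2, fun e => hm (Subtype.ext e)⟩ : ∃ m, m ∈ N ∧ m ≠ 1)
  obtain ⟨x, hx⟩ : ∃ x : Ω, m • x ≠ x := by
    by_contra hc
    push Not at hc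
    exact hm1 (h.faithful m hc)
  have htr : ∀ y ∈ (Set.univ : Set Ω), ∃ k ∈ N, k • a = y := by
    intro y _
    by_cases hya : y = a
    · exact ⟨1, one_mem _, by rw [one_smul, hya]⟩
    obtain ⟨g, hgx, hgy⟩ := h.trans x (m • x) a y (Ne.symm hx) (Ne.symm hya)
    exact ⟨g * m * g⁻¹, hNn.conj_mem m hm g,
      by rw [mul_smul, inv_smul_eq_iff.2 hgx.symm, mul_smul, hgy]⟩
  have hcN : Nat.card N = 28 * Nat.card ↥(N ⊓ stabilizer G a) := by
    rw [card_eq_of_transOn N Set.univ (x := a) (Set.mem_univ _) (fun _ _ => Set.mem_univ _) htr,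
      Nat.card_congr (Equiv.Set.univ Ω), Nat.card_eq_fintype_card, hn]
  have hd : Nat.card ↥(N ⊓ stabilizer G a) ∣ 324 := hcA ▸ Subgroup.card_dvd_of_le inf_le_right
  have hfour : 2 ∣ Nat.card ↥(N ⊓ stabilizer G a) → 4 ∣ Nat.card ↥(N ⊓ stabilizer G a) := by
    intro h2
    obtain ⟨i, hi⟩ := exists_prime_orderOf_dvd_card' 2 h2
    have hio : orderOf (i : G) = 2 := by rw [Subgroup.orderOf_coe, hi]
    have hi2 : (i : G) * i = 1 := by rw [← pow_two, ← hio, pow_orderOf_eq_one]
    have hi1 : (i : G) ≠ 1 := fun e => by rw [e, orderOf_one] at hio; norm_num at hio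
    rw [← card_fourGp h hab]
    refine Subgroup.card_dvd_of_le fun u hu => ⟨?_, fourGp_le h hab hu⟩
    by_cases hu1 : u = 1
    · rw [hu1]; exact one_mem _
    obtain ⟨g, -, hg⟩ := h.conj_stab (isT_of_fix h heven hi2 hi1 i.2.2) i.2.2
      (h.isT_of_mem hab hu hu1) (mem_Vfin.1 hu).1
    rw [← hg]
    exact hNn.conj_mem _ i.2.1 g
  obtain ⟨T, _, k, hT, hk, ⟨e⟩⟩ := hN.exists_simple_pow
  haveI := hT
  haveI : Finite (Fin k → T) := Finite.of_equiv _ e.toEquiv
  haveI : Nonempty (Fin k) := ⟨⟨0, hk⟩⟩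
  haveI : Finite T := Finite.of_surjective (fun f : Fin k → T => f ⟨0, hk⟩)
    (fun y => ⟨fun _ => y, rfl⟩)
  have hcT : Nat.card N = Nat.card T ^ k := by
    rw [Nat.card_congr e.toEquiv, Nat.card_fun, Nat.card_fin]
  have hdiv : Nat.card N ∣ 9072 := hcG ▸ Subgroup.card_subgroup_dvd_card N
  have hk1 : k = 1 := by
    by_contra hne
    have h7 : 7 ∣ Nat.card T :=
      Nat.Prime.dvd_of_dvd_pow (p := 7) (by norm_num) (n := k)
        (hcT ▸ hcN ▸ dvd_mul_of_dvd_left (by norm_num) _)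
    have : 7 ^ 2 ∣ 9072 :=
      (pow_dvd_pow 7 (by omega : 2 ≤ k)).trans ((pow_dvd_pow_of_dvd h7 k).trans (hcT ▸ hdiv))
    norm_num at this
  rw [hk1, pow_one] at hcT
  have hTna : ¬ IsMulCommutative T := SimpleOrder.not_comm_of_not_prime (fun hpr => by
    rw [← hcT, hcN] at hpr
    rcases (Nat.prime_mul_iff.1 hpr) with ⟨h28, -⟩ | ⟨-, h28⟩
    · exact absurd h28 (by norm_num)
    · exact absurd h28 (by norm_num))
  have hdlist : Nat.card ↥(N ⊓ stabilizer G a) ∈ Nat.divisors 324 :=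
    Nat.mem_divisors.2 ⟨hd, by norm_num⟩
  rcases lt_or_ge (Nat.card T) 6000 with hlt | hge
  · have hlist := SimpleRangeLow81.card_lt_6000 hTna hlt
    rw [← hcT, hcN] at hlist
    have key : ∀ d ∈ Nat.divisors 324, (2 ∣ d → 4 ∣ d) →
        28 * d ∉ [60, 168, 360, 504, 660, 1092, 2448, 2520, 3420, 4080, 5616] := by decide +kernel
    exact key _ hdlist hfour hlist
  · have key : ∀ d ∈ Nat.divisors 324, 6000 ≤ 28 * d → d = 324 := by decide +kernel
    have hd324 := key _ hdlist (by rw [← hcN, hcT]; exact hge)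
    have htop : N = ⊤ := Subgroup.eq_top_of_card_eq _ (by rw [hcN, hd324, hcG])
    haveI : IsSimpleGroup G := by
      subst hk1
      exact MulEquiv.isSimpleGroup
        ((Subgroup.topEquiv.symm.trans (MulEquiv.subgroupCongr htop.symm)).trans
          (e.trans (MulEquiv.funUnique (Fin 1) T)))
    exact false_simple h hab htT hn hf

end Cfsg.Agent.TwoPointA4Even15
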