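import Cfsg.Agent.Lib.TwoPointA4Ctx15
import Cfsg.Agent.Lib.KleinFourBlock79
import Cfsg.Agent.Lib.KleinFourOrder79
import Cfsg.Agent.Lib.ZStarCount

/-!
Doubly transitive groups of even degree whose two-point stabiliser is alternating of degree four:
the stabiliser of a point and the order formula for its four group.
-/

set_option autoImplicit false
set_option linter.unusedSectionVars false

open MulAction

namespace Cfsg.Agent.TwoPointA4Even15

open Cfsg.Agent.TwoPointA4Count15 Cfsg.Agent.TwoPointA4Bar15 Cfsg.Agent.TwoPointA4Ctx15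

universe u

variable {G : Type u} [Group G] [Fintype G] {Ω : Type*} [Fintype Ω] [MulAction G Ω]
variable (h : Setup G Ω)
include h

variable {a b : Ω} {g t v w : G}

theorem isT_of_fix (heven : Even (Fintype.card Ω)) (hg : g * g = 1) (hg1 : g ≠ 1)
    (hga : g • a = a) : IsT Ω g := by
  refine ⟨hg, hg1, exists_pair_of_one_lt_fx ?_⟩
  have hpos := fx_pos (α := Ω) hga
  have hle := fx_le (α := Ω) g
  have hpar := two_dvd_moved (α := Ω) hg
  rw [even_iff_two_dvd] at heven
  omega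

theorem fx_even (heven : Even (Fintype.card Ω)) (ht : t * t = 1) : 2 ∣ fx Ω t := by
  have hle := fx_le (α := Ω) t
  have hpar := two_dvd_moved (α := Ω) ht
  rw [even_iff_two_dvd] at heven
  omega

/-- The fixed points of a second involution of the four group on those of the first form the
line. -/
theorem fx_toBar [Fintype (fixSet Ω t)] (hab : a ≠ b) (ht : t ∈ Vfin G a b) (ht1 : t ≠ 1)
    (hv : v ∈ Vfin G a b) (hv1 : v ≠ 1) (htv : t ≠ v)
    (hvc : v ∈ Subgroup.centralizer ({t} : Set G)) :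
    fx (fixSet Ω t) (toBar Ω t ⟨v, hvc⟩) = (lineFin G a b).card := by
  classical
  rw [fx]
  refine Finset.card_bij' (fun x _ => (x : Ω))
    (fun x hx => ⟨x, (mem_lineFin.1 hx) t ht⟩) ?_ ?_ ?_ ?_
  · intro x hx
    simp only [Finset.mem_filter, Finset.mem_univ, true_and] at hx
    refine mem_lineFin.2 fun g hg => ?_
    have hvx : v • (x : Ω) = x := congrArg Subtype.val hx
    rcases h.Vfin_eq_quad hab ht ht1 hv hv1 htv hg with rfl | rfl | rfl | rfl
    · exact one_smul _ _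
    · exact x.2
    · exact hvx
    · rw [mul_smul, hvx, x.2]
  · intro x hx
    simp only [Finset.mem_filter, Finset.mem_univ, true_and]
    exact Subtype.ext ((mem_lineFin.1 hx) v hv)
  · intro x _; rfl
  · intro x _; rfl

theorem exists_second (hab : a ≠ b) (t : G) : ∃ v ∈ Vfin G a b, v ≠ 1 ∧ t ≠ v := by
  classical
  obtain ⟨v, hv, hv'⟩ := Finset.exists_mem_notMem_of_card_lt_card
    (s := ({1, t} : Finset G)) (t := Vfin G a b)
    (lt_of_le_of_lt Finset.card_le_two (by rw [h.Vfin_card hab]; norm_num))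
  simp only [Finset.mem_insert, Finset.mem_singleton, not_or] at hv'
  exact ⟨v, hv, hv'.1, Ne.symm hv'.2⟩

theorem comm_of_mem (hab : a ≠ b) (ht : t ∈ Vfin G a b) (hv : v ∈ Vfin G a b) :
    t * v = v * t :=
  h.comm hab (mem_Vfin.1 ht).1 (mem_Vfin.1 ht).2.1 (mem_Vfin.1 ht).2.2 (mem_Vfin.1 hv).1
    (mem_Vfin.1 hv).2.1 (mem_Vfin.1 hv).2.2

theorem line_parity (hab : a ≠ b) (ht : t ∈ Vfin G a b) (ht1 : t ≠ 1) :
    2 ∣ fx Ω t - (lineFin G a b).card := by
  classical
  obtain ⟨v, hv, hv1, htv⟩ := exists_second h hab t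
  have hvc : v ∈ Subgroup.centralizer ({t} : Set G) :=
    Subgroup.mem_centralizer_singleton_iff.2 (comm_of_mem h hab hv ht)
  haveI : Fintype (fixSet Ω t) := Fintype.ofFinite _
  have hsq : toBar Ω t ⟨v, hvc⟩ * toBar Ω t ⟨v, hvc⟩ = 1 := by
    rw [← map_mul, show (⟨v, hvc⟩ : Subgroup.centralizer ({t} : Set G)) * ⟨v, hvc⟩ = 1 from
      Subtype.ext (mem_Vfin.1 hv).2.2, map_one]
  have := two_dvd_moved (α := fixSet Ω t) hsq
  rwa [fx_toBar h hab ht ht1 hv hv1 htv hvc, ← Nat.card_eq_fintype_card, card_fixSet] at this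

omit h in
/-- The subgroup formed by a four group. -/
noncomputable def fourGp (h : Setup G Ω) {a b : Ω} (hab : a ≠ b) : Subgroup G where
  carrier := {g | g ∈ Vfin G a b}
  one_mem' := mem_Vfin.2 ⟨one_smul _ _, one_smul _ _, one_mul 1⟩
  mul_mem' := fun hx hy => h.Vfin_mul hab hx hy
  inv_mem' := fun {x} hx => by
    show x⁻¹ ∈ Vfin G a b
    rwa [inv_eq_of_mul_eq_one_right (mem_Vfin.1 hx).2.2]

omit h in
theorem mem_fourGp (h : Setup G Ω) (hab : a ≠ b) : g ∈ fourGp h hab ↔ g ∈ Vfin G a b := Iff.rfl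

theorem card_fourGp (hab : a ≠ b) : Nat.card (fourGp h hab) = 4 := by
  rw [← h.Vfin_card hab, ← Nat.card_eq_finsetCard]
  rfl

theorem fourGp_le (hab : a ≠ b) : fourGp h hab ≤ stabilizer G a :=
  fun _ hg => (mem_Vfin.1 hg).1

theorem fourGp_comm (hab : a ≠ b) : fourGp h hab ≤ Subgroup.centralizer (fourGp h hab : Set G) :=
  fun _ hg => Subgroup.mem_centralizer_iff.2 fun _ hk => comm_of_mem h hab hk hg

/-- The order of the stabiliser of a point. -/
theorem card_stab_eq {J : ℕ} (hab : a ≠ b) (ht : t ∈ Vfin G a b) (ht1 : t ≠ 1)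
    (hmain : 3 * (Fintype.card Ω - fx Ω t) = J * (fx Ω t * (fx Ω t - 1))) :
    Nat.card (stabilizer G a) = 4 * ((fx Ω t - 1) * (3 + J * fx Ω t)) := by
  obtain ⟨hta, htb, -⟩ := mem_Vfin.1 ht
  have hf := one_lt_fx hab hta htb
  have hle := fx_le (α := Ω) t
  rw [h.card_stab a]
  have : (Fintype.card Ω - 1) = (Fintype.card Ω - fx Ω t) + (fx Ω t - 1) := by omega
  rw [this]
  calc ((Fintype.card Ω - fx Ω t) + (fx Ω t - 1)) * 12
      = 4 * (3 * (Fintype.card Ω - fx Ω t) + 3 * (fx Ω t - 1)) := by ring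
    _ = _ := by rw [hmain]; ring

theorem not_eight_dvd {J : ℕ} (heven : Even (Fintype.card Ω)) (hab : a ≠ b) (ht : t ∈ Vfin G a b)
    (ht1 : t ≠ 1)
    (hmain : 3 * (Fintype.card Ω - fx Ω t) = J * (fx Ω t * (fx Ω t - 1))) :
    ¬ 8 ∣ Nat.card (stabilizer G a) := by
  rw [card_stab_eq h hab ht ht1 hmain]
  obtain ⟨hta, htb, ht2⟩ := mem_Vfin.1 ht
  have hf := one_lt_fx hab hta htb
  have h2 := fx_even h heven ht2
  intro h8
  have hdvd : 2 ∣ (fx Ω t - 1) * (3 + J * fx Ω t) :=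
    (Nat.mul_dvd_mul_iff_left (show 0 < 4 by norm_num)).1
      (show 4 * 2 ∣ 4 * ((fx Ω t - 1) * (3 + J * fx Ω t)) from h8)
  rcases Nat.prime_two.dvd_mul.1 hdvd with h' | h'
  · omega
  · have : 2 ∣ J * fx Ω t := dvd_mul_of_dvd_right h2 J
    omega

/-- An element fixing `a`, commuting with `t` and mapping `b` into the line centralises the four
group. -/
theorem mem_cent_four {J : ℕ} (heven : Even (Fintype.card Ω)) (hab : a ≠ b) (ht : t ∈ Vfin G a b)
    (ht1 : t ≠ 1) (hmain : 3 * (Fintype.card Ω - fx Ω t) = J * (fx Ω t * (fx Ω t - 1)))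
    (hga : g • a = a) (hgt : g * t = t * g) (hgb : g • b ∈ line G a b) :
    g ∈ Subgroup.centralizer (fourGp h hab : Set G) := by
  classical
  set A := stabilizer G a with hA
  set V := fourGp h hab with hV
  set K := Subgroup.normalizer (V : Set G) ⊓ (Subgroup.centralizer ({t} : Set G) ⊓ A) with hK
  set C := Subgroup.centralizer (V : Set G) ⊓ A with hC
  have hCK : C ≤ K := fun x hx => ⟨Subgroup.centralizer_le_normalizer _ hx.1,
    Subgroup.mem_centralizer_singleton_iff.2 (Subgroup.mem_centralizer_iff.1 hx.1 t ht).symm, hx.2⟩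
  have hgb' : g • b ≠ a := fun e => hab ((smul_left_cancel_iff g).1 (hga.trans e.symm))
  have hgK : g ∈ K := by
    refine ⟨?_, Subgroup.mem_centralizer_singleton_iff.2 hgt, hga⟩
    have heq := h.Vfin_eq hab left_mem_line hgb hgb'.symm
    refine Subgroup.mem_normalizer_iff.2 fun n => ?_
    constructor
    · intro hn
      have h' := Vfin_conj g ((mem_fourGp h hab).1 hn)
      rwa [hga, heq] at h'
    · intro hn
      have h' : g * n * g⁻¹ ∈ Vfin G a (g • b) := by rw [heq]; exact hn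
      have h'' := Vfin_conj g⁻¹ h'
      rw [inv_smul_eq_iff.2 hga.symm, inv_smul_smul] at h''
      rw [mem_fourGp]
      simpa [mul_assoc] using h''
  suffices hKC : K ≤ C from (hKC hgK).1
  by_contra hne
  obtain ⟨k, hk, hkC⟩ := SetLike.not_le_iff_exists.1 hne
  obtain ⟨v, hv, hv1, htv⟩ := exists_second h hab t
  have hcases : ∀ x ∈ K, x * v * x⁻¹ = v ∨ x * v * x⁻¹ = t * v := by
    intro x hx
    have hxv : x * v * x⁻¹ ∈ Vfin G a b := ((Subgroup.mem_normalizer_iff.1 hx.1) v).1 hv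
    rcases h.Vfin_eq_quad hab ht ht1 hv hv1 htv hxv with e | e | e | e
    · exact absurd (conj_eq_one_iff.1 e) hv1
    · refine absurd ?_ (Ne.symm htv)
      have hxt := Subgroup.mem_centralizer_singleton_iff.1 hx.2.1
      calc v = x⁻¹ * (x * v * x⁻¹) * x := by group
        _ = x⁻¹ * (t * x) := by rw [e, mul_assoc]
        _ = t := by rw [← hxt, inv_mul_cancel_left]
    · exact Or.inl e
    · exact Or.inr e
  have hmemC : ∀ x ∈ K, x * v * x⁻¹ = v → x ∈ C := by
    intro x hx e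
    refine ⟨Subgroup.mem_centralizer_iff.2 fun n hn => ?_, hx.2.2⟩
    have hxt := Subgroup.mem_centralizer_singleton_iff.1 hx.2.1
    have hxv : x * v = v * x := mul_inv_eq_iff_eq_mul.1 e
    rcases h.Vfin_eq_quad hab ht ht1 hv hv1 htv hn with rfl | rfl | rfl | rfl
    · rw [one_mul, mul_one]
    · exact hxt.symm
    · exact hxv.symm
    · exact (Commute.mul_left (hxt.symm : Commute t x) (hxv.symm : Commute v x)).eq
  have hkv : k * v * k⁻¹ = t * v := (hcases k hk).resolve_left fun e => hkC (hmemC k hk e)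
  have hidx : (C.subgroupOf K).index = 2 := by
    rw [Subgroup.index_eq_two_iff]
    refine ⟨⟨k, hk⟩, fun x => ?_⟩
    simp only [Subgroup.mem_subgroupOf, Subgroup.coe_mul]
    by_cases hxC : (x : G) ∈ C
    · refine Or.inr ⟨hxC, fun hc => hkC ?_⟩
      have := C.mul_mem (C.inv_mem hxC) hc
      rwa [inv_mul_cancel_left] at this
    · refine Or.inl ⟨hmemC _ (K.mul_mem x.2 hk) ?_, hxC⟩
      have hxv : (x : G) * v * (x : G)⁻¹ = t * v :=
        (hcases x x.2).resolve_left fun e => hxC (hmemC x x.2 e)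
      have hxt := Subgroup.mem_centralizer_singleton_iff.1 x.2.2.1
      calc (x : G) * k * v * ((x : G) * k)⁻¹ = (x : G) * (k * v * k⁻¹) * (x : G)⁻¹ := by group
        _ = ((x : G) * t) * v * (x : G)⁻¹ := by rw [hkv]; group
        _ = t * ((x : G) * v * (x : G)⁻¹) := by rw [hxt]; group
        _ = v := by rw [hxv, ← mul_assoc, (mem_Vfin.1 ht).2.2, one_mul]
  have hcard : Nat.card C * 2 = Nat.card K := by
    rw [← hidx, ← Nat.card_congr (Subgroup.subgroupOfEquivOfLe hCK).toEquiv]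
    exact Subgroup.card_mul_index _
  have h4 : 4 ∣ Nat.card C := by
    rw [← card_fourGp h hab]
    exact Subgroup.card_dvd_of_le fun x hx => ⟨fourGp_comm h hab hx, fourGp_le h hab hx⟩
  refine not_eight_dvd h heven hab ht ht1 hmain (dvd_trans ?_ (Subgroup.card_dvd_of_le
    (show K ≤ A from fun x hx => hx.2.2)))
  rw [← hcard]
  exact Nat.mul_dvd_mul_right h4 2

/-- The centralizer of the four group in the stabiliser of a point. -/
theorem cent_four_trans {J : ℕ} (heven : Even (Fintype.card Ω)) (hab : a ≠ b)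
    (ht : t ∈ Vfin G a b) (ht1 : t ≠ 1)
    (hmain : 3 * (Fintype.card Ω - fx Ω t) = J * (fx Ω t * (fx Ω t - 1)))
    {y : Ω} (hy : y ∈ line G a b) (hya : y ≠ a) :
    ∃ k ∈ Subgroup.centralizer (fourGp h hab : Set G) ⊓ stabilizer G a, k • b = y := by
  obtain ⟨hta, htb, ht2⟩ := mem_Vfin.1 ht
  obtain ⟨g, hg, hga, hgb⟩ := h.cent_trans ht2 ht1 hta htb hta (hy t ht) hab (Ne.symm hya)
  exact ⟨g, ⟨mem_cent_four h heven hab ht ht1 hmain hga
    (Subgroup.mem_centralizer_singleton_iff.1 hg) (hgb ▸ hy), hga⟩, hgb⟩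

theorem card_cent_four {J : ℕ} (heven : Even (Fintype.card Ω)) (hab : a ≠ b)
    (ht : t ∈ Vfin G a b) (ht1 : t ≠ 1)
    (hmain : 3 * (Fintype.card Ω - fx Ω t) = J * (fx Ω t * (fx Ω t - 1))) :
    Nat.card ↥(Subgroup.centralizer (fourGp h hab : Set G) ⊓ stabilizer G a) =
      4 * ((lineFin G a b).card - 1) := by
  classical
  set X : Set Ω := {x | x ∈ line G a b ∧ x ≠ a} with hX
  rw [card_eq_of_transOn _ X (x := b) ⟨right_mem_line, hab.symm⟩ ?_ ?_, mul_comm]
  · congr 1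
    · rw [← card_fourGp h hab]
      refine congrArg (fun K : Subgroup G => Nat.card K) (le_antisymm (fun x hx => ?_) fun x hx =>
        ⟨⟨fourGp_comm h hab hx, fourGp_le h hab hx⟩, (mem_Vfin.1 hx).2.1⟩)
      obtain ⟨hta, htb, ht2⟩ := mem_Vfin.1 ht
      exact h.mem_Vfin_of_cent ht2 ht1 hab hta htb
        (Subgroup.mem_centralizer_iff.1 hx.1.1 t ht).symm hx.1.2 hx.2
    · rw [← Finset.card_erase_of_mem (mem_lineFin.2 (left_mem_line : a ∈ line G a b)),
        Nat.card_coe_set_eq, Set.ncard_eq_toFinset_card']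
      congr 1
      ext x
      simp [hX, mem_lineFin, and_comm]
  · intro k hk
    have hka : k • a = a := hk.2
    refine ⟨fun v hv => ?_, fun e => hab.symm ((smul_left_cancel_iff k).1 (e.trans hka.symm))⟩
    rw [← mul_smul, Subgroup.mem_centralizer_iff.1 hk.1 v hv, mul_smul, (mem_Vfin.1 hv).2.1]
  · intro y hy
    exact cent_four_trans h heven hab ht ht1 hmain hy.1 hy.2

omit h in
theorem card_centralizer_subgroup (A : Subgroup G) (S : Set G) (hS : S ⊆ A) :
    Nat.card (Subgroup.centralizer {x : A | (x : G) ∈ S}) =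
      Nat.card ↥(Subgroup.centralizer S ⊓ A) := by
  refine Nat.card_congr
    { toFun := fun x => ⟨((x : A) : G), ⟨Subgroup.mem_centralizer_iff.2 fun s hs =>
          congrArg Subtype.val (Subgroup.mem_centralizer_iff.1 x.2 ⟨s, hS hs⟩ hs), (x : A).2⟩⟩
      invFun := fun x => ⟨⟨x, x.2.2⟩, Subgroup.mem_centralizer_iff.2 fun s hs =>
          Subtype.ext (Subgroup.mem_centralizer_iff.1 x.2.1 s hs)⟩
      left_inv := fun _ => rfl
      right_inv := fun _ => rfl }

/-- The order formula for the four group in the stabiliser of a point. -/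
theorem klein {J : ℕ} (heven : Even (Fintype.card Ω)) (hab : a ≠ b) (ht : t ∈ Vfin G a b)
    (ht1 : t ≠ 1) (hmain : 3 * (Fintype.card Ω - fx Ω t) = J * (fx Ω t * (fx Ω t - 1))) :
    (∃ m y : ℕ, 1 ≤ y ∧ fx Ω t - 1 = m * y * ((lineFin G a b).card - 1) ∧
        (3 + J * fx Ω t : ℤ) = m ^ 2 * (2 * y - 1) * (4 * y - 1)) ∨
      (∃ x y z : ℕ, x + 1 = y + z ∧ y % 4 = 3 ∧ z % 4 = 3 ∧
        (3 + J * fx Ω t : ℤ) * (((lineFin G a b).card - 1 : ℕ) : ℤ) ^ 2 *
            (((x : ℤ) + 1) * ((y : ℤ) - 1) * ((z : ℤ) - 1)) =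
          8 * ((fx Ω t - 1 : ℕ) : ℤ) ^ 2 * ((x : ℤ) * y * z)) := by
  classical
  haveI : Fact (Nat.Prime 2) := ⟨Nat.prime_two⟩
  obtain ⟨hta, htb, ht2⟩ := mem_Vfin.1 ht
  have hf := one_lt_fx hab hta htb
  have hc2 := two_le_lineFin (G := G) (p := a) (q := b) hab
  set A := stabilizer G a with hA
  set V := fourGp h hab with hV
  haveI : Fintype A := Fintype.ofFinite A
  have hVle : V ≤ A := fourGp_le h hab
  have hVA : Nat.card (V.subgroupOf A) = 4 := by
    rw [Nat.card_congr (Subgroup.subgroupOfEquivOfLe hVle).toEquiv, card_fourGp h hab]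
  have h8 := not_eight_dvd h heven hab ht ht1 hmain
  have hcA : Nat.card A = 4 * ((fx Ω t - 1) * (3 + J * fx Ω t)) := card_stab_eq h hab ht ht1 hmain
  have hidx : ¬ 2 ∣ (V.subgroupOf A).index := by
    intro hdvd
    refine h8 ?_
    show 8 ∣ Nat.card A
    rw [← (V.subgroupOf A).card_mul_index, hVA]
    exact Nat.mul_dvd_mul_left 4 hdvd
  have hP2 : IsPGroup 2 (V.subgroupOf A) := IsPGroup.of_card (n := 2) hVA
  set P : Sylow 2 A := hP2.toSylow hidx with hP
  have hP4 : Nat.card P = 4 := hVA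
  have hexp : ∀ x : P, x * x = 1 := fun x =>
    Subtype.ext (Subtype.ext (mem_Vfin.1 (x.2 : ((x : A) : G) ∈ V)).2.2)
  set J₀ : A := ⟨t, hta⟩ with hJ₀
  have hJ : J₀ ∈ (P : Subgroup A) := ht
  have hJ2 : orderOf J₀ = 2 := orderOf_eq_prime (by rw [pow_two]; exact Subtype.ext ht2)
    fun e => ht1 (congrArg Subtype.val e)
  have hone : ∀ s u : A, orderOf s = 2 → orderOf u = 2 → IsConj s u := by
    intro s u hs hu
    have hsq : ∀ r : A, orderOf r = 2 → (r : G) * r = 1 ∧ (r : G) ≠ 1 := by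
      intro r hr
      refine ⟨congrArg Subtype.val (show r * r = 1 by rw [← pow_two, ← hr, pow_orderOf_eq_one]),
        fun e => ?_⟩
      rw [show r = 1 from Subtype.ext e, orderOf_one] at hr
      exact absurd hr (by norm_num)
    obtain ⟨g, hga, hg⟩ := h.conj_stab (isT_of_fix h heven (hsq s hs).1 (hsq s hs).2 s.2) s.2
      (isT_of_fix h heven (hsq u hu).1 (hsq u hu).2 u.2) u.2
    exact isConj_iff.2 ⟨⟨g, hga⟩, Subtype.ext hg⟩
  have hcJ : Nat.card (Subgroup.centralizer ({J₀} : Set A)) = 4 * (fx Ω t - 1) := by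
    rw [show ({J₀} : Set A) = {x : A | (x : G) ∈ ({t} : Set G)} by
        ext x; exact ⟨fun e => congrArg Subtype.val e, fun e => Subtype.ext e⟩,
      card_centralizer_subgroup A {t} (Set.singleton_subset_iff.2 hta),
      h.card_cent_stab ht2 ht1 hab hta htb, mul_comm]
  have hcP : Nat.card (Subgroup.centralizer ((P : Subgroup A) : Set A)) =
      4 * ((lineFin G a b).card - 1) := by
    rw [← card_cent_four h heven hab ht ht1 hmain]
    exact card_centralizer_subgroup A (V : Set G) hVle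
  obtain ⟨M, hM⟩ := ZStarCount.exists_isPModular 2 Nat.prime_two
  obtain ⟨ζ₂, ζ₃, ζ₄, ε, hε, n2, n3, n23, n24, n34, hB, hv, d2, d3, d4, -⟩ :=
    KleinFourBlock79.main hM hP4 hexp hJ hJ2 hone
  obtain ⟨v2, v3, v4⟩ := hv J₀ hJ2
  have n4 : (ζ₄ : A → ℂ) ≠ (fun _ => 1) := fun e => by
    rw [e] at v4; norm_num at v4
  obtain ⟨hrel, hord⟩ := KleinFourOrder79.relations (ε₁ := 1) (ε₂ := ε) (ε₃ := -1) hM hP4 hexp hJ
    hJ2 hone hB ⟨n2, n3, n4, n23, n24, n34⟩ ⟨Or.inl rfl, hε, Or.inr rfl⟩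
    ⟨by exact_mod_cast v2, v3, by exact_mod_cast v4⟩
  have p2 := CharAverage.irr_degree_pos ζ₂
  have p3 := CharAverage.irr_degree_pos ζ₃
  have p4 := CharAverage.irr_degree_pos ζ₄
  rcases hε with rfl | rfl
  · left
    obtain ⟨m, hm1, hm2⟩ := KleinFourOrder79.psl_shape (ε₁ := 1) (ε₂ := 1) (ε₃ := -1) hM hP4 hexp
      hJ hJ2 hB ⟨n2, n3, n4, n23, n24, n34⟩ ⟨Or.inl rfl, Or.inl rfl, Or.inr rfl⟩
      ⟨by exact_mod_cast v2, by exact_mod_cast v3, by exact_mod_cast v4⟩ (by norm_num) rfl hrel hord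
    rw [hcJ, hcP] at hm1
    rw [hcA, hcP] at hm2
    obtain ⟨y, hy⟩ : 4 ∣ Cfsg.charDegree (ζ₄ : A → ℂ) + 1 := by
      have : (4 : ℤ) ∣ ((Cfsg.charDegree (ζ₄ : A → ℂ) + 1 : ℕ) : ℤ) := by push_cast; exact d4
      exact_mod_cast this
    generalize Cfsg.charDegree (ζ₄ : A → ℂ) = q at *
    have hy1 : 1 ≤ y := by omega
    obtain ⟨y', rfl⟩ : ∃ y', y = y' + 1 := ⟨y - 1, by omega⟩
    have hq : q = 4 * y' + 3 := by omega
    subst hq
    generalize (lineFin G a b).card - 1 = C at *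
    have hF : fx Ω t - 1 = m * (y' + 1) * C := by
      have h16 : 16 * (fx Ω t - 1) = 16 * (m * (y' + 1) * C) := by
        calc 16 * (fx Ω t - 1) = 4 * (4 * (fx Ω t - 1)) := by ring
          _ = m * (4 * C) * (4 * y' + 3 + 1) := hm1
          _ = _ := by ring
      omega
    refine ⟨m, y' + 1, hy1, hF, ?_⟩
    have hsub : (4 * y' + 3) ^ 3 - (4 * y' + 3) =
        8 * (4 * y' + 3) * (2 * y' + 1) * (y' + 1) := (Nat.eq_sub_of_add_eq (by ring)).symm
    rw [hsub, hF] at hm2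
    have hI : 3 + J * fx Ω t = m ^ 2 * (2 * y' + 1) * (4 * y' + 3) := by
      refine Nat.eq_of_mul_eq_mul_left (show 0 < 32 * (m * (y' + 1) * C) by
        rw [← hF]; omega) ?_
      calc 32 * (m * (y' + 1) * C) * (3 + J * fx Ω t)
          = 8 * (4 * (m * (y' + 1) * C * (3 + J * fx Ω t))) := by ring
        _ = _ := hm2
        _ = _ := by ring
    push_cast
    have hIz : ((3 + J * fx Ω t : ℕ) : ℤ) = ((m ^ 2 * (2 * y' + 1) * (4 * y' + 3) : ℕ) : ℤ) := by
      rw [hI]
    push_cast at hIz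
    rw [hIz]; ring
  · right
    refine ⟨Cfsg.charDegree (ζ₂ : A → ℂ), Cfsg.charDegree (ζ₃ : A → ℂ),
      Cfsg.charDegree (ζ₄ : A → ℂ), ?_, ?_, ?_, ?_⟩
    · omega
    · omega
    · omega
    rw [hcA, hcJ, hcP] at hord
    generalize Cfsg.charDegree (ζ₂ : A → ℂ) = x at *
    generalize Cfsg.charDegree (ζ₃ : A → ℂ) = y at *
    generalize Cfsg.charDegree (ζ₄ : A → ℂ) = z at *
    have hFpos : ((fx Ω t - 1 : ℕ) : ℤ) ≠ 0 := by omega
    generalize (lineFin G a b).card - 1 = C at *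
    generalize fx Ω t - 1 = F at *
    push_cast at hord ⊢
    refine mul_left_cancel₀ (show (64 * (F : ℤ)) ≠ 0 by positivity) ?_
    linear_combination hord

end Cfsg.Agent.TwoPointA4Even15
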