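import Cfsg.Prelude.Def_TwoFusion
import Cfsg.Prelude.Def_CaseTheorems
import Cfsg.Agent.S1181
import Cfsg.Agent.Lib.ZStarTheorem
import Cfsg.Agent.Lib.TwoPointA4Ctx15

/-!
Doubly transitive groups with two-point stabiliser alternating of degree four: an involution with
exactly one fixed point is isolated.
-/

set_option autoImplicit false
set_option linter.unusedSectionVars false

open MulAction

namespace Cfsg.Agent.TwoPointA4Iso15

open Cfsg Cfsg.Agent.TwoPointA4Count15 Cfsg.Agent.TwoPointA4Bar15 Cfsg.Agent.TwoPointA4Ctx15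

theorem concl_of_isolated {G : Type*} [Group G] [Finite G] {j : G}
    (hiso : IsIsolatedInvolution j) :
    Subgroup.centralizer ({j} : Set G) ⊔ oddCore G = ⊤ := by
  haveI hON : (pPrimeCore 2 G).Normal := HallCore.pPrimeCore_normal 2 G
  have hcen := (S1181.result j hiso (pPrimeCore 2 G) (ZStarTheorem.notMem_pPrimeCore hiso.1)).1
  rw [eq_top_iff]
  intro g _
  have hgq : (QuotientGroup.mk g : G ⧸ pPrimeCore 2 G) ∈
      Subgroup.centralizer ({(QuotientGroup.mk j : G ⧸ pPrimeCore 2 G)} : Set (G ⧸ pPrimeCore 2 G)) := by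
    rw [Subgroup.mem_centralizer_singleton_iff]
    have h5 := ZStarTheorem.commutator_mem hiso g
    rw [← QuotientGroup.eq_one_iff] at h5
    simp only [QuotientGroup.mk_mul, QuotientGroup.mk_inv] at h5
    exact (mul_inv_eq_iff_eq_mul.1 (mul_inv_eq_one.1 h5)).symm
  rw [hcen] at hgq
  obtain ⟨c, hc', hcg⟩ := hgq
  have h6 : c⁻¹ * g ∈ pPrimeCore 2 G := QuotientGroup.eq.1 hcg
  rw [show g = c * (c⁻¹ * g) by group]
  exact mul_mem (Subgroup.mem_sup_left hc') (Subgroup.mem_sup_right h6)

/-- An action of a four group with a cyclic symmetry of order three on at most five points. -/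
theorem four_orbit {α : Type*} [Fintype α] [DecidableEq α] (hcard : Fintype.card α ≤ 5)
    (v w u x : Equiv.Perm α) (hu : v * w = u) (hv : v * v = 1) (hw : w * w = 1)
    (hcomm : v * w = w * v) (hx3 : x * x * x = 1) (hxv : x * v * x⁻¹ = w) (hxw : x * w * x⁻¹ = u)
    (hv1 : v ≠ 1) :
    ∃ z : α, x z = z ∧ z ≠ v z ∧ z ≠ w z ∧ z ≠ u z ∧ v z ≠ w z ∧ v z ≠ u z ∧ w z ≠ u z ∧
      x (v z) = w z ∧ x (w z) = u z ∧ x (u z) = v z := by
  have hxu : x * u * x⁻¹ = v := by
    have : x * u * x⁻¹ = (x * v * x⁻¹) * (x * w * x⁻¹) := by rw [← hu]; group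
    rw [this, hxv, hxw, ← hu, hcomm, ← mul_assoc, hw, one_mul]
  have hu2 : u * u = 1 := by
    calc u * u = v * (w * v) * w := by rw [← hu]; group
      _ = (v * v) * (w * w) := by rw [← hcomm]; group
      _ = 1 := by rw [hv, hw, one_mul]
  have hwv : w * v = u := by rw [← hcomm, hu]
  have hvu : v * u = w := by rw [← hu, ← mul_assoc, hv, one_mul]
  have huv : u * v = w := by rw [← hwv, mul_assoc, hv, mul_one]
  have hwu : w * u = v := by rw [← hwv, ← mul_assoc, hw, one_mul]
  have huw : u * w = v := by rw [← hu, mul_assoc, hw, mul_one]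
  have app : ∀ {f g k : Equiv.Perm α}, f * g = k → ∀ z, f (g z) = k z := fun e z =>
    congrArg (fun p : Equiv.Perm α => p z) e
  have cv : ∀ z, x (v z) = w (x z) := fun z => by
    rw [← hxv]; simp
  have cw : ∀ z, x (w z) = u (x z) := fun z => by
    rw [← hxw]; simp
  have cu : ∀ z, x (u z) = v (x z) := fun z => by
    rw [← hxu]; simp
  -- a point with trivial stabiliser
  obtain ⟨z, hzv, hzw, hzu⟩ : ∃ z, v z ≠ z ∧ w z ≠ z ∧ u z ≠ z := by
    by_contra hno
    push Not at hno
    obtain ⟨z, hz⟩ : ∃ z, v z ≠ z := by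
      by_contra h'
      push Not at h'
      exact hv1 (Equiv.ext h')
    set Av := Finset.univ.filter fun y => v y = y ∧ w y ≠ y with hAv
    set Aw := Finset.univ.filter fun y => w y = y ∧ u y ≠ y with hAw
    set Au := Finset.univ.filter fun y => u y = y ∧ v y ≠ y with hAu
    have hne : Av.Nonempty ∨ Aw.Nonempty ∨ Au.Nonempty := by
      by_cases h1 : w z = z
      · refine Or.inr (Or.inl ⟨z, ?_⟩)
        simp only [hAw, Finset.mem_filter, Finset.mem_univ, true_and]
        refine ⟨h1, fun h2 => hz ?_⟩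
        rw [← app hwu z, h2, h1]
      · exact Or.inr (Or.inr ⟨z, by simp [hAu, hno z hz h1, hz]⟩)
    have m1 : ∀ y ∈ Av, x y ∈ Aw := by
      intro y hy
      simp only [hAv, hAw, Finset.mem_filter, Finset.mem_univ, true_and] at hy ⊢
      exact ⟨by rw [← cv, hy.1], fun e => hy.2 (x.injective (by rw [cw, e]))⟩
    have m2 : ∀ y ∈ Aw, x y ∈ Au := by
      intro y hy
      simp only [hAu, hAw, Finset.mem_filter, Finset.mem_univ, true_and] at hy ⊢
      exact ⟨by rw [← cw, hy.1], fun e => hy.2 (x.injective (by rw [cu, e]))⟩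
    have m3 : ∀ y ∈ Au, x y ∈ Av := by
      intro y hy
      simp only [hAu, hAv, Finset.mem_filter, Finset.mem_univ, true_and] at hy ⊢
      exact ⟨by rw [← cu, hy.1], fun e => hy.2 (x.injective (by rw [cv, e]))⟩
    have n1 : Av.Nonempty := by
      rcases hne with h1 | ⟨y, hy⟩ | ⟨y, hy⟩
      · exact h1
      · exact ⟨_, m3 _ (m2 _ hy)⟩
      · exact ⟨_, m3 _ hy⟩
    obtain ⟨y, hy⟩ := n1
    have two : ∀ (f g : Equiv.Perm α) (A : Finset α), (∀ y ∈ A, g y ∈ A ∧ g y ≠ y) → A.Nonempty →
        2 ≤ A.card := fun f g A hA ⟨y, hy⟩ =>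
      Finset.one_lt_card.2 ⟨g y, (hA y hy).1, y, hy, (hA y hy).2⟩
    have c1 : 2 ≤ Av.card := two v w Av (fun y hy => by
      simp only [hAv, Finset.mem_filter, Finset.mem_univ, true_and] at hy ⊢
      refine ⟨⟨?_, ?_⟩, hy.2⟩
      · rw [app hu y, ← app hwv y, hy.1]
      · rw [app hw y]; simpa using Ne.symm hy.2) ⟨y, hy⟩
    have c2 : 2 ≤ Aw.card := two v u Aw (fun y hy => by
      simp only [hAw, Finset.mem_filter, Finset.mem_univ, true_and] at hy ⊢
      refine ⟨⟨?_, ?_⟩, hy.2⟩
      · rw [app hwu y, ← app huw y, hy.1]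
      · rw [app hu2 y]; simpa using Ne.symm hy.2) ⟨_, m1 _ hy⟩
    have c3 : 2 ≤ Au.card := two v v Au (fun y hy => by
      simp only [hAu, Finset.mem_filter, Finset.mem_univ, true_and] at hy ⊢
      refine ⟨⟨?_, ?_⟩, hy.2⟩
      · rw [app huv y, ← app hvu y, hy.1]
      · rw [app hv y]; simpa using Ne.symm hy.2) ⟨_, m2 _ (m1 _ hy)⟩
    have d1 : Disjoint Av Aw := by
      rw [Finset.disjoint_left]; intro y h1 h2
      simp only [hAv, hAw, Finset.mem_filter] at h1 h2
      exact h1.2.2 h2.2.1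
    have d2 : Disjoint (Av ∪ Aw) Au := by
      rw [Finset.disjoint_left]; intro y h1 h2
      simp only [hAu, Finset.mem_filter] at h2
      rcases Finset.mem_union.1 h1 with h1 | h1
      · simp only [hAv, Finset.mem_filter] at h1
        exact h2.2.2 h1.2.1
      · simp only [hAw, Finset.mem_filter] at h1
        exact h1.2.2 h2.2.1
    have := Finset.card_le_univ (Av ∪ Aw ∪ Au)
    rw [Finset.card_union_of_disjoint d2, Finset.card_union_of_disjoint d1] at this
    omega
  set Q : Finset α := {z, v z, w z, u z} with hQ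
  have e1 : v z ≠ w z := fun e => hzu (by rw [← app hu z, ← e, app hv z]; simp)
  have e2 : v z ≠ u z := fun e => hzw (by rw [← app hvu z, ← e, app hv z]; simp)
  have e3 : w z ≠ u z := fun e => hzv (by rw [← app hwu z, ← e, app hw z]; simp)
  have hQ4 : Q.card = 4 := by
    rw [hQ, Finset.card_insert_of_notMem (by simp [hzv.symm, hzw.symm, hzu.symm]),
      Finset.card_insert_of_notMem (by simp [e1, e2]), Finset.card_insert_of_notMem (by simp [e3]),
      Finset.card_singleton]
  -- the symmetry maps the orbit to itself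
  have hQx : ∀ y ∈ Q, x y ∈ Q := by
    have himg : (Q.image x).card = 4 := by
      rw [Finset.card_image_of_injective _ x.injective, hQ4]
    obtain ⟨y, hy⟩ : (Q ∩ Q.image x).Nonempty := by
      rw [← Finset.card_pos]
      have := Finset.card_union_add_card_inter Q (Q.image x)
      have := Finset.card_le_univ (Q ∪ Q.image x)
      omega
    rw [Finset.mem_inter, Finset.mem_image] at hy
    obtain ⟨hy, y', hy', rfl⟩ := hy
    have av : ∀ y ∈ Q, v y ∈ Q := by
      intro y hy
      simp only [hQ, Finset.mem_insert, Finset.mem_singleton] at hy ⊢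
      rcases hy with rfl | rfl | rfl | rfl <;> simp [app hv, app hu, app hvu]
    have aw : ∀ y ∈ Q, w y ∈ Q := by
      intro y hy
      simp only [hQ, Finset.mem_insert, Finset.mem_singleton] at hy ⊢
      rcases hy with rfl | rfl | rfl | rfl <;> simp [app hw, app hwv, app hwu]
    have au : ∀ y ∈ Q, u y ∈ Q := by
      intro y hy
      simp only [hQ, Finset.mem_insert, Finset.mem_singleton] at hy ⊢
      rcases hy with rfl | rfl | rfl | rfl <;> simp [app hu2, app huv, app huw]
    have base : x z ∈ Q := by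
      simp only [hQ, Finset.mem_insert, Finset.mem_singleton] at hy'
      rcases hy' with rfl | rfl | rfl | rfl
      · exact hy
      · rw [cv] at hy; have := aw _ hy; rwa [app hw] at this
      · rw [cw] at hy; have := au _ hy; rwa [app hu2] at this
      · rw [cu] at hy; have := av _ hy; rwa [app hv] at this
    intro y hy
    simp only [hQ, Finset.mem_insert, Finset.mem_singleton] at hy
    rcases hy with rfl | rfl | rfl | rfl
    · exact base
    · rw [cv]; exact aw _ base
    · rw [cw]; exact au _ base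
    · rw [cu]; exact av _ base
  have hfix : ∀ y, y ∈ Q → x y = y → ∃ z : α, x z = z ∧ z ≠ v z ∧ z ≠ w z ∧ z ≠ u z ∧ v z ≠ w z ∧
      v z ≠ u z ∧ w z ≠ u z ∧ x (v z) = w z ∧ x (w z) = u z ∧ x (u z) = v z := by
    intro y hy hxy
    have free : y ≠ v y ∧ y ≠ w y ∧ y ≠ u y := by
      simp only [hQ, Finset.mem_insert, Finset.mem_singleton] at hy
      rcases hy with rfl | rfl | rfl | rfl <;>
        simp [app hv, app hw, app hu2, app hu, app hwv, app hvu, app huv, app hwu, app huw,
          hzv, hzw, hzu, hzv.symm, hzw.symm, hzu.symm, e1, e2, e3, e1.symm, e2.symm, e3.symm]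
    refine ⟨y, hxy, free.1, free.2.1, free.2.2, ?_, ?_, ?_, by rw [cv, hxy], by rw [cw, hxy],
      by rw [cu, hxy]⟩
    · exact fun e => free.2.2 (by rw [← app hu y, ← e, app hv y]; simp)
    · exact fun e => free.2.1 (by rw [← app hvu y, ← e, app hv y]; simp)
    · exact fun e => free.1 (by rw [← app hwu y, ← e, app hw y]; simp)
  by_cases hz0 : x z = z
  · exact hfix z (by simp [hQ]) hz0
  have hmem := hQx z (by simp [hQ])
  simp only [hQ, Finset.mem_insert, Finset.mem_singleton] at hmem
  rcases hmem with h1 | h1 | h1 | h1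
  · exact absurd h1 hz0
  · -- `x z = v z`
    refine hfix (w z) (by simp [hQ]) ?_
    rw [cw, h1, app huv]
  · refine hfix (u z) (by simp [hQ]) ?_
    rw [cu, h1, app hu]
  · refine hfix (v z) (by simp [hQ]) ?_
    rw [cv, h1, app hwu]

variable {G : Type*} [Group G] [Fintype G] {Ω : Type*} [Fintype Ω] [MulAction G Ω]

/-- At most one involution of `bar Ω t` fixes exactly a given point. -/
theorem bar_unique (h : Setup G Ω) {t z w : G} {a : Ω} (ht : IsT Ω t) (hta : t • a = a)
    (hz : z * z = 1) (hzc : z ∈ Subgroup.centralizer ({t} : Set G))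
    (hza : ∀ x, t • x = x → (z • x = x ↔ x = a)) (hw : w * w = 1)
    (hwc : w ∈ Subgroup.centralizer ({t} : Set G))
    (hwa : ∀ x, t • x = x → (w • x = x ↔ x = a)) :
    ∀ x : Ω, t • x = x → z • x = w • x := by
  classical
  obtain ⟨b, hab, htb⟩ := exists_fix_ne ht a
  let A : fixSet Ω t := ⟨a, hta⟩
  let B : fixSet Ω t := ⟨b, htb⟩
  have hAB : A ≠ B := fun e => hab (congrArg Subtype.val e)
  have key : ∀ (r : G) (hr : r * r = 1) (hrc : r ∈ Subgroup.centralizer ({t} : Set G))
      (hra : ∀ x, t • x = x → (r • x = x ↔ x = a)), toBar Ω t ⟨r, hrc⟩ * toBar Ω t ⟨r, hrc⟩ = 1 ∧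
        toBar Ω t ⟨r, hrc⟩ ≠ 1 ∧ toBar Ω t ⟨r, hrc⟩ • A = A ∧
        fx (fixSet Ω t) (toBar Ω t ⟨r, hrc⟩) = 1 := by
    intro r hr hrc hra
    have hfa : toBar Ω t ⟨r, hrc⟩ • A = A := Subtype.ext ((hra a hta).2 rfl)
    refine ⟨by rw [← map_mul, show (⟨r, hrc⟩ : Subgroup.centralizer ({t} : Set G)) * ⟨r, hrc⟩ = 1
      from Subtype.ext hr, map_one], fun e => hab ?_, hfa, ?_⟩
    · exact ((hra b htb).1 ((toImage_eq_one_iff _).1 e b htb)).symm
    · rw [fx, Finset.card_eq_one]
      refine ⟨A, Finset.ext fun y => ?_⟩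
      simp only [Finset.mem_filter, Finset.mem_univ, true_and, Finset.mem_singleton]
      refine ⟨fun hy => Subtype.ext ((hra _ y.2).1 (congrArg Subtype.val hy)), fun e => e ▸ hfa⟩
  obtain ⟨z1, z2, z3, z4⟩ := key z hz hzc hza
  obtain ⟨w1, w2, w3, w4⟩ := key w hw hwc hwa
  have heq : toBar Ω t ⟨z, hzc⟩ = toBar Ω t ⟨w, hwc⟩ := by
    have htV : t ∈ Vfin G a b := mem_Vfin.2 ⟨hta, htb, ht.1⟩
    rcases (h.line_le_fix hab htV ht.2.1).lt_or_eq with hlt | heq
    · have hT := h.bar_two ht (fun p q hpq => by rwa [h.lineFin_card_eq hpq hab])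
      obtain ⟨s, hs1, hsA, hsB⟩ := hT.ex A B hAB
      obtain ⟨lam, -, -, -, huniq, -⟩ := hT.counts hAB hs1 hsA hsB
      exact huniq A _ _ z1 z2 z4 z3 w1 w2 w4 w3
    · exact sharp_unique (h.bar_trans ht)
        (h.bar_sharp ht fun p q hpq => by rw [h.lineFin_card_eq hpq hab, heq]) hAB z1 z2 z3 w1 w2 w3
  intro x hx
  exact congrArg (fun p : bar Ω t => ((p • (⟨x, hx⟩ : fixSet Ω t) : fixSet Ω t) : Ω)) heq

theorem fix_only_iff {g : G} {a x : Ω} (hf : fx Ω g = 1) (hga : g • a = a) :
    g • x = x ↔ x = a :=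
  ⟨fun hx => eq_of_fx_le_one hf.le hx hga, fun e => e ▸ hga⟩

set_option maxHeartbeats 1600000 in
/-- An involution with exactly one fixed point gives an isolated involution. -/
theorem exists_isolated (h : Setup G Ω) (hodd : Odd (Fintype.card Ω)) {a : Ω} {j₀ : G}
    (hj : j₀ * j₀ = 1) (hj1 : j₀ ≠ 1) (hja : j₀ • a = a) (hjf : fx Ω j₀ = 1) :
    IsIsolatedInvolution j₀ := by
  classical
  obtain ⟨b, hab⟩ : ∃ b, a ≠ b := by
    obtain ⟨p, q, hpq⟩ := h.nonempty
    by_cases e : a = p
    · exact ⟨q, e ▸ hpq⟩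
    · exact ⟨p, e⟩
  obtain ⟨t, hta, htb, ht, ht1⟩ := h.exists_inv hab
  obtain ⟨J, k, hJ1, hJk, -, hk, -⟩ := h.counts hab ht ht1 hta htb
  set K := Finset.univ.filter fun g : G => g * g = 1 ∧ g ≠ 1 ∧ g • a = a ∧ fx Ω g = 1 with hK
  have hKcard : K.card ≤ 5 := by
    have := hk a
    rw [Nat.card_eq_fintype_card, Fintype.card_subtype] at this
    have e : K.card = k := by
      rw [← this, hK]
    omega
  refine ⟨orderOf_eq_prime (hp := ⟨Nat.prime_two⟩) (by rw [pow_two, hj]) hj1, ?_⟩
  by_contra hiso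
  push Not at hiso
  obtain ⟨g, hgc, hgne⟩ := hiso
  set O := Finset.univ.filter fun z : G => ∃ g : G, g • a = a ∧ g * j₀ * g⁻¹ = z with hO
  have hmemO : ∀ z, z ∈ O ↔ ∃ g : G, g • a = a ∧ g * j₀ * g⁻¹ = z := by simp [hO]
  have hj₀O : j₀ ∈ O := (hmemO _).2 ⟨1, one_smul _ _, by group⟩
  have hconjO : ∀ g z : G, g • a = a → z ∈ O → g * z * g⁻¹ ∈ O := by
    intro g z hga hz
    obtain ⟨k, hka, rfl⟩ := (hmemO z).1 hz
    exact (hmemO _).2 ⟨g * k, by rw [mul_smul, hka, hga], by group⟩
  have hOK : O ⊆ K := by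
    intro z hz
    obtain ⟨k, hka, rfl⟩ := (hmemO z).1 hz
    simp only [hK, Finset.mem_filter, Finset.mem_univ, true_and]
    refine ⟨?_, fun e => hj1 (conj_eq_one_iff.1 e), ?_, by rw [fx_conj, hjf]⟩
    · calc k * j₀ * k⁻¹ * (k * j₀ * k⁻¹) = k * (j₀ * j₀) * k⁻¹ := by group
        _ = 1 := by rw [hj]; group
    · rw [mul_smul, mul_smul, inv_smul_eq_iff.2 hka.symm, hja, hka]
  have hzK : ∀ z ∈ O, z * z = 1 ∧ z • a = a ∧ ∀ x, z • x = x ↔ x = a := fun z hz => by
    have := hOK hz
    simp only [hK, Finset.mem_filter, Finset.mem_univ, true_and] at this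
    exact ⟨this.1, this.2.2.1, fun x => fix_only_iff this.2.2.2 this.2.2.1⟩
  -- a commuting conjugate in `O`
  have hO2 : ∀ z ∈ O, ∃ w ∈ O, w ≠ z ∧ w * z = z * w := by
    intro z hz
    obtain ⟨k, hka, rfl⟩ := (hmemO z).1 hz
    have hga : g • a = a := by
      have hfix : (g * j₀ * g⁻¹) • g • a = g • a := by
        rw [mul_smul, inv_smul_smul, mul_smul, hja]
      have h' : (g * j₀ * g⁻¹) • j₀ • g • a = j₀ • g • a := by
        rw [← mul_smul, ← hgc.eq, mul_smul, hfix]
      have := eq_of_fx_le_one (by rw [fx_conj, hjf]) h' hfix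
      exact (fix_only_iff hjf hja).1 this
    refine ⟨k * (g * j₀ * g⁻¹) * k⁻¹, hconjO k _ hka (hconjO g _ hga hj₀O), fun e => hgne ?_, ?_⟩
    · exact mul_left_cancel (mul_right_cancel e)
    · exact ((hgc.symm.map (MulAut.conj k).toMonoidHom)).eq
  -- no involution with two fixed points centralizes `O`
  have fact1 : ∀ t : G, IsT Ω t → t • a = a → ¬ ∀ z ∈ O, z * t = t * z := by
    intro t ht hta hc
    obtain ⟨w, hwO, hwne, -⟩ := hO2 j₀ hj₀O
    obtain ⟨c, hac, htc⟩ := exists_fix_ne ht a
    have key : ∀ z ∈ O, ∀ z' ∈ O, z • c = z' • c := fun z hz z' hz' =>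
      bar_unique h ht hta (hzK z hz).1 (Subgroup.mem_centralizer_singleton_iff.2 (hc z hz))
        (fun y _ => (hzK z hz).2.2 y) (hzK z' hz').1 (Subgroup.mem_centralizer_singleton_iff.2 (hc z' hz'))
        (fun y _ => (hzK z' hz').2.2 y) c htc
    refine hwne (mul_right_cancel (b := j₀) (Eq.trans ?_ hj.symm))
    refine h.faithful _ fun x => ?_
    by_cases hxa : x = a
    · subst hxa; rw [mul_smul, hja, (hzK w hwO).2.1]
    obtain ⟨g, hga, hgx⟩ := h.trans a c a x hac (Ne.symm hxa)
    have hga' : g⁻¹ • a = a := inv_smul_eq_iff.2 hga.symm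
    have h1 := key _ (hconjO g⁻¹ w hga' hwO) _ (hconjO g⁻¹ j₀ hga' hj₀O)
    rw [inv_inv, mul_smul, mul_smul, mul_smul, mul_smul, hgx, smul_left_cancel_iff] at h1
    rw [mul_smul, ← h1, ← mul_smul, (hzK w hwO).1, one_smul]
  -- the action of the two-point stabiliser on `O`
  obtain ⟨x, hxa, hxb, hx2, hx3, hxmove, -⟩ := h.exists_three hab
  have htV : t ∈ Vfin G a b := mem_Vfin.2 ⟨hta, htb, ht⟩
  set s := x * t * x⁻¹ with hs
  have hsV : s ∈ Vfin G a b := by
    have := Vfin_conj x htV
    rwa [hxa, hxb] at this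
  have hst : s ≠ t := hxmove t htV ht1
  have hs1 : s ≠ 1 := fun e => ht1 (conj_eq_one_iff.1 e)
  have hss : x * s * x⁻¹ ∈ Vfin G a b := by
    have := Vfin_conj x hsV
    rwa [hxa, hxb] at this
  have hs3 : x * s * x⁻¹ = t * s := by
    rcases h.Vfin_eq_quad hab htV ht1 hsV hs1 hst.symm hss with e | e | e | e
    · exact absurd (conj_eq_one_iff.1 e) hs1
    · exfalso
      refine hst ?_
      calc s = x * t * x⁻¹ := hs
        _ = x * (x * s * x⁻¹) * x⁻¹ := by rw [e]
        _ = x * x * x * t * (x * x * x)⁻¹ := by rw [hs]; group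
        _ = t := by rw [hx3]; group
    · exact absurd e (hxmove s hsV hs1)
    · exact e
  have hts : t * s = s * t := h.comm hab hta htb ht (mem_Vfin.1 hsV).1 (mem_Vfin.1 hsV).2.1
    (mem_Vfin.1 hsV).2.2
  set Osub := {z : G // z ∈ O} with hOsub
  let σ : ↥(stabilizer G a) →* Equiv.Perm Osub :=
    { toFun := fun g =>
        { toFun := fun z => ⟨(g : G) * z.1 * (g : G)⁻¹, hconjO g z.1 g.2 z.2⟩
          invFun := fun z => ⟨(g : G)⁻¹ * z.1 * (g : G), by
            have := hconjO (g : G)⁻¹ z.1 (inv_smul_eq_iff.2 (Eq.symm g.2)) z.2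
            rwa [inv_inv] at this⟩
          left_inv := fun z => Subtype.ext (by show _ = z.1; group)
          right_inv := fun z => Subtype.ext (by show _ = z.1; group) }
      map_one' := Equiv.ext fun z => Subtype.ext (by show (1 : G) * z.1 * (1 : G)⁻¹ = z.1; group)
      map_mul' := fun g g' => Equiv.ext fun z => Subtype.ext (by
        show (g : G) * g' * z.1 * ((g : G) * g')⁻¹ = (g : G) * ((g' : G) * z.1 * (g' : G)⁻¹) * (g : G)⁻¹
        group) }
  let T' : ↥(stabilizer G a) := ⟨t, hta⟩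
  let S' : ↥(stabilizer G a) := ⟨s, (mem_Vfin.1 hsV).1⟩
  let X' : ↥(stabilizer G a) := ⟨x, hxa⟩
  have hOcard : Fintype.card Osub ≤ 5 := by
    rw [Fintype.card_coe]; exact (Finset.card_le_card hOK).trans hKcard
  obtain ⟨z0, f0, f1, f2, f3, f4, f5, f6, f7, f8, f9⟩ :=
    four_orbit hOcard (σ T') (σ S') (σ (T' * S')) (σ X') (by rw [map_mul])
      (by rw [← map_mul, show T' * T' = 1 from Subtype.ext ht, map_one])
      (by rw [← map_mul, show S' * S' = 1 from Subtype.ext (mem_Vfin.1 hsV).2.2, map_one])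
      (by rw [← map_mul, ← map_mul, show T' * S' = S' * T' from Subtype.ext hts])
      (by rw [← map_mul, ← map_mul, show X' * X' * X' = 1 from Subtype.ext hx3, map_one])
      (by rw [← map_inv, ← map_mul, ← map_mul]; exact congrArg σ (Subtype.ext rfl))
      (by rw [← map_inv, ← map_mul, ← map_mul]; exact congrArg σ (Subtype.ext hs3))
      (fun e => fact1 t ⟨ht, ht1, a, b, hab, hta, htb⟩ hta fun z hz => by
        have e' := congrArg Subtype.val (congrArg (fun p : Equiv.Perm Osub => p ⟨z, hz⟩) e)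
        exact (mul_inv_eq_iff_eq_mul.1 (e' : t * z * t⁻¹ = z)).symm)
  set A := σ T' z0 with hA
  set B := σ S' z0 with hB
  set C := σ (T' * S') z0 with hC
  -- conjugation preserves commuting pairs
  have hcm : ∀ (g : ↥(stabilizer G a)) (y y' : Osub),
      y.1 * y'.1 = y'.1 * y.1 → (σ g y).1 * (σ g y').1 = (σ g y').1 * (σ g y).1 := fun g y y' e =>
    ((show Commute y.1 y'.1 from e).map (MulAut.conj (g : G)).toMonoidHom).eq
  have hcomQ : z0.1 * A.1 = A.1 * z0.1 → ∀ y ∈ ({z0, A, B, C} : Finset Osub),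
      ∀ y' ∈ ({z0, A, B, C} : Finset Osub), y.1 * y'.1 = y'.1 * y.1 := by
    intro e
    have eB : z0.1 * B.1 = B.1 * z0.1 := by
      have := hcm X' z0 A e
      rwa [f0, f7] at this
    have eC : z0.1 * C.1 = C.1 * z0.1 := by
      have := hcm X' z0 B eB
      rwa [f0, f8] at this
    have hAB : σ T' B = C := by
      rw [hB, hC, map_mul]; rfl
    have hAC : σ T' C = B := by
      rw [hB, hC, ← Equiv.Perm.mul_apply, ← map_mul, ← mul_assoc,
        show T' * T' = 1 from Subtype.ext ht, one_mul]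
    have hBC : σ S' C = A := by
      rw [hA, hC, ← Equiv.Perm.mul_apply, ← map_mul, show S' * (T' * S') = T' from Subtype.ext (by
        show s * (t * s) = t
        rw [hts, ← mul_assoc, (mem_Vfin.1 hsV).2.2, one_mul])]
    have eBC : B.1 * C.1 = C.1 * B.1 := by
      have := hcm T' z0 A e
      have h2 := hcm S' z0 A e
      have hBA : σ S' A = C := by
        rw [hA, hC, ← Equiv.Perm.mul_apply, ← map_mul, show S' * T' = T' * S' from Subtype.ext hts.symm]
      rwa [← hB, hBA] at h2
    have eAC : A.1 * C.1 = C.1 * A.1 := by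
      have := hcm T' z0 B eB
      rwa [← hA, hAB] at this
    have eAB : A.1 * B.1 = B.1 * A.1 := by
      have := hcm T' z0 C eC
      rwa [← hA, hAC] at this
    intro y hy y' hy'
    simp only [Finset.mem_insert, Finset.mem_singleton] at hy hy'
    rcases hy with rfl | rfl | rfl | rfl <;> rcases hy' with rfl | rfl | rfl | rfl <;>
      first
      | rfl
      | assumption
      | exact e.symm
      | exact eB.symm
      | exact eC.symm
      | exact eBC.symm
      | exact eAC.symm
      | exact eAB.symm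
  set Q : Finset Osub := {z0, A, B, C} with hQ
  have hQ4 : Q.card = 4 := by
    rw [hQ, Finset.card_insert_of_notMem (by simp [f1, f2, f3]),
      Finset.card_insert_of_notMem (by simp [f4, f5]),
      Finset.card_insert_of_notMem (by simp [f6]), Finset.card_singleton]
  have hrest : ∀ y y' : Osub, y ∉ Q → y' ∉ Q → y = y' := by
    intro y y' hy hy'
    by_contra hne
    have := Finset.card_le_univ (insert y (insert y' Q))
    rw [Finset.card_insert_of_notMem (by simp [hne, hy]), Finset.card_insert_of_notMem hy', hQ4] at this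
    omega
  set N := fun y : Osub => (Finset.univ.filter fun y' : Osub => y' ≠ y ∧ y'.1 * y.1 = y.1 * y'.1).card
    with hN
  have hNtr : ∀ y y' : Osub, N y = N y' := by
    suffices hh : ∀ y : Osub, N y = N ⟨j₀, hj₀O⟩ from fun y y' => (hh y).trans (hh y').symm
    intro y
    obtain ⟨k, hka, hk'⟩ := (hmemO y.1).1 y.2
    let K' : ↥(stabilizer G a) := ⟨k, hka⟩
    have hy : σ K' ⟨j₀, hj₀O⟩ = y := Subtype.ext hk'
    symm
    refine Finset.card_equiv (σ K') fun y' => ?_
    simp only [Finset.mem_filter, Finset.mem_univ, true_and]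
    constructor
    · rintro ⟨h1, h2⟩
      exact ⟨fun e => h1 ((σ K').injective (e.trans hy.symm)), by rw [← hy]; exact hcm K' _ _ h2⟩
    · rintro ⟨h1, h2⟩
      refine ⟨fun e => h1 (by rw [e, hy]), ?_⟩
      have := hcm K'⁻¹ _ _ h2
      rwa [← hy, map_inv, Equiv.Perm.inv_def, Equiv.symm_apply_apply, Equiv.symm_apply_apply] at this
  have hNpos : ∀ y, 0 < N y := fun y => by
    obtain ⟨w, hw, hwne, hwc⟩ := hO2 y.1 y.2
    refine Finset.card_pos.2 ⟨⟨w, hw⟩, ?_⟩
    simp only [Finset.mem_filter, Finset.mem_univ, true_and]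
    exact ⟨fun e => hwne (congrArg Subtype.val e), hwc⟩
  have hall : ∀ y y' : Osub, y.1 * y'.1 = y'.1 * y.1 := by
    have h0A : z0.1 * A.1 = A.1 * z0.1 := by
      by_contra hno
      -- each of the four commutes only with a point outside
      have hout : ∀ y ∈ Q, y ≠ z0 → ¬ y.1 * z0.1 = z0.1 * y.1 := by
        intro y hy hyz e
        simp only [hQ, Finset.mem_insert, Finset.mem_singleton] at hy
        rcases hy with rfl | rfl | rfl | rfl
        · exact hyz rfl
        · exact hno e.symm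
        · refine hno ?_
          have := hcm (X' * X') B z0 e
          rw [map_mul, Equiv.Perm.mul_apply, Equiv.Perm.mul_apply, f8, f9, f0, f0] at this
          exact this.symm
        · refine hno ?_
          have := hcm X' C z0 e
          rw [f9, f0] at this
          exact this.symm
      obtain ⟨y, hy⟩ := Finset.card_pos.1 (hNpos z0)
      simp only [Finset.mem_filter, Finset.mem_univ, true_and] at hy
      have hyQ : y ∉ Q := fun hmem => hout y hmem hy.1 hy.2
      have hle : N z0 ≤ 1 := Finset.card_le_one.2 fun u hu u' hu' => by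
        simp only [Finset.mem_filter, Finset.mem_univ, true_and] at hu hu'
        exact hrest u u' (fun hmem => hout u hmem hu.1 hu.2) (fun hmem => hout u' hmem hu'.1 hu'.2)
      have hfixy : ∀ g : ↥(stabilizer G a), (∀ u ∈ Q, σ g u ∈ Q) → σ g y = y := by
        intro g hg
        refine hrest _ _ (fun hmem => hyQ ?_) hyQ
        have himg : Q.image (σ g) = Q := Finset.eq_of_subset_of_card_le
          (fun u hu => by obtain ⟨u', hu', rfl⟩ := Finset.mem_image.1 hu; exact hg u' hu')
          (by rw [Finset.card_image_of_injective _ (σ g).injective])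
        obtain ⟨u, hu, e⟩ := Finset.mem_image.1 (himg.symm ▸ hmem : σ g y ∈ Q.image (σ g))
        exact (σ g).injective e ▸ hu
      have hTy : σ T' y = y := by
        refine hfixy T' fun u hu => ?_
        simp only [hQ, Finset.mem_insert, Finset.mem_singleton] at hu ⊢
        rcases hu with rfl | rfl | rfl | rfl
        · exact Or.inr (Or.inl rfl)
        · exact Or.inl (by rw [hA, ← Equiv.Perm.mul_apply, ← map_mul,
            show T' * T' = 1 from Subtype.ext ht, map_one, Equiv.Perm.one_apply])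
        · exact Or.inr (Or.inr (Or.inr (by rw [hB, hC, map_mul]; rfl)))
        · exact Or.inr (Or.inr (Or.inl (by
            rw [hB, hC, ← Equiv.Perm.mul_apply, ← map_mul, ← mul_assoc,
              show T' * T' = 1 from Subtype.ext ht, one_mul])))
      have h2 : 2 ≤ N y := by
        refine Finset.one_lt_card.2 ⟨z0, ?_, A, ?_, f1⟩
        · simp only [Finset.mem_filter, Finset.mem_univ, true_and]
          exact ⟨hy.1.symm, hy.2.symm⟩
        · simp only [Finset.mem_filter, Finset.mem_univ, true_and]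
          have := hcm T' y z0 hy.2
          rw [hTy, ← hA] at this
          exact ⟨fun e => hyQ (by rw [← e]; simp [hQ]), this.symm⟩
      have := hNtr y z0
      omega
    intro y y'
    have hQc := hcomQ h0A
    have h3 : 3 ≤ N z0 := by
      refine le_trans (le_of_eq ?_) (Finset.card_le_card (s := Q.erase z0) ?_)
      · rw [Finset.card_erase_of_mem (by simp [hQ]), hQ4]
      · intro u hu
        simp only [Finset.mem_erase] at hu
        simp only [Finset.mem_filter, Finset.mem_univ, true_and]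
        exact ⟨hu.1, hQc u hu.2 z0 (by simp [hQ])⟩
    have hmix : ∀ y ∈ Q, ∀ y' ∉ Q, y.1 * y'.1 = y'.1 * y.1 := by
      intro y hy y' hy'
      by_contra hno
      have hle : N y' ≤ 3 := by
        refine le_trans (Finset.card_le_card (t := Q.erase y) fun u hu => ?_) ?_
        · simp only [Finset.mem_filter, Finset.mem_univ, true_and] at hu
          rw [Finset.mem_erase]
          refine ⟨fun e => hno (e ▸ hu.2), ?_⟩
          by_contra huQ
          exact hu.1 (hrest u y' huQ hy')
        · rw [Finset.card_erase_of_mem hy, hQ4]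
      obtain ⟨u, hu⟩ := Finset.card_pos.1 (hNpos y')
      simp only [Finset.mem_filter, Finset.mem_univ, true_and] at hu
      have huQ : u ∈ Q := by
        by_contra huQ
        exact hu.1 (hrest u y' huQ hy')
      have : 4 ≤ N u := by
        refine le_trans (le_of_eq ?_) (Finset.card_le_card (s := insert y' (Q.erase u)) ?_)
        · rw [Finset.card_insert_of_notMem (by simp [hy']), Finset.card_erase_of_mem huQ, hQ4]
        · intro v hv
          simp only [Finset.mem_insert, Finset.mem_erase] at hv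
          simp only [Finset.mem_filter, Finset.mem_univ, true_and]
          rcases hv with rfl | ⟨hv1, hv2⟩
          · exact ⟨fun e => hy' (e ▸ huQ), hu.2.symm⟩
          · exact ⟨hv1, hQc v hv2 u huQ⟩
      have := hNtr u y'
      omega
    by_cases hy : y ∈ Q <;> by_cases hy' : y' ∈ Q
    · exact hQc y hy y' hy'
    · exact hmix y hy y' hy'
    · exact (hmix y' hy' y hy).symm
    · rw [hrest y y' hy hy']
  -- products stay among the involutions fixing only `a`
  have hprod : ∀ y y' : Osub, y ≠ y' → y.1 * y'.1 ∈ K := by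
    intro y y' hne
    obtain ⟨hy2, hya, -⟩ := hzK y.1 y.2
    obtain ⟨hy2', hya', -⟩ := hzK y'.1 y'.2
    have hp2 : y.1 * y'.1 * (y.1 * y'.1) = 1 := by
      calc y.1 * y'.1 * (y.1 * y'.1) = y.1 * (y'.1 * y.1) * y'.1 := by group
        _ = (y.1 * y.1) * (y'.1 * y'.1) := by rw [← hall y y']; group
        _ = 1 := by rw [hy2, hy2', one_mul]
    have hp1 : y.1 * y'.1 ≠ 1 := fun e => hne (Subtype.ext (mul_right_cancel (e.trans hy2'.symm)))
    have hpa : (y.1 * y'.1) • a = a := by rw [mul_smul, hya', hya]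
    simp only [hK, Finset.mem_filter, Finset.mem_univ, true_and]
    refine ⟨hp2, hp1, hpa, le_antisymm ?_ (fx_pos hpa)⟩
    by_contra hgt
    obtain ⟨p, q, hpq, hp, hq⟩ := exists_pair_of_one_lt_fx (not_le.1 hgt)
    refine fact1 _ ⟨hp2, hp1, p, q, hpq, hp, hq⟩ hpa fun z hz => ?_
    exact ((show Commute z y.1 from hall ⟨z, hz⟩ y).mul_right (hall ⟨z, hz⟩ y')).eq
  have hsq : ∀ y : Osub, y.1 * y.1 = 1 := fun y => (hzK y.1 y.2).1
  have h1mem : (1 : G) ∉ K := by simp [hK]
  have hKQ : ∀ p ∈ K, ∀ q ∈ K, (∀ u ∈ Q, p ≠ u.1) → (∀ u ∈ Q, q ≠ u.1) → p = q := by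
    intro p hp q hq hp' hq'
    by_contra hne
    have hsub : insert p (insert q (Q.image fun u : Osub => u.1)) ⊆ K := by
      intro r hr
      simp only [Finset.mem_insert, Finset.mem_image] at hr
      rcases hr with rfl | rfl | ⟨u, -, rfl⟩
      · exact hp
      · exact hq
      · exact hOK u.2
    have := Finset.card_le_card hsub
    rw [Finset.card_insert_of_notMem, Finset.card_insert_of_notMem,
      Finset.card_image_of_injective _ Subtype.val_injective, hQ4] at this
    · omega
    · simp only [Finset.mem_image, not_exists, not_and]; exact fun u hu e => hq' u hu e.symm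
    · simp only [Finset.mem_insert, Finset.mem_image, not_or, not_exists, not_and]
      exact ⟨hne, fun u hu e => hp' u hu e.symm⟩
  -- a product inside the four gives a triangle
  have htri : ∀ i j l m : Osub, Q = {i, j, l, m} → i ≠ j → i ≠ m → j ≠ m → i ≠ l → j ≠ l → l ≠ m →
      i.1 * j.1 ≠ l.1 := by
    intro i j l m hQe hij him hjm hil hjl hlm e
    have hji : j.1 * i.1 = l.1 := by rw [hall j i, e]
    have hli : i.1 * l.1 = j.1 := by rw [← e, ← mul_assoc, hsq, one_mul]
    have hlj : j.1 * l.1 = i.1 := by rw [← hji, ← mul_assoc, hsq, one_mul]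
    have hout : ∀ p q : Osub, p.1 * q.1 = l.1 → p.1 * l.1 = q.1 → Q = {p, q, l, m} → p ≠ m → q ≠ m →
        ∀ u ∈ Q, p.1 * m.1 ≠ u.1 := by
      intro p q hpq hpl hQp hpm hqm u hu e'
      rw [hQp] at hu
      simp only [Finset.mem_insert, Finset.mem_singleton] at hu
      have hm' : m.1 = p.1 * u.1 := by rw [← e', ← mul_assoc, hsq, one_mul]
      rcases hu with rfl | rfl | rfl | rfl
      · rw [hsq] at hm'
        exact h1mem (hm' ▸ hOK m.2)
      · exact hlm (Subtype.ext (hm'.trans hpq).symm)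
      · exact hqm (Subtype.ext (hm'.trans hpl).symm)
      · rw [mul_eq_right] at e'
        exact h1mem (e' ▸ hOK p.2)
    have h1 := hKQ _ (hprod i m him) _ (hprod j m hjm) (hout i j e hli hQe him hjm) (hout j i hji hlj (by rw [hQe]; exact Finset.insert_comm i j _) hjm him)
    exact hij (Subtype.ext (mul_right_cancel h1))
  have hperm : ∀ u ∈ Q, z0.1 * A.1 ≠ u.1 ∧ z0.1 * B.1 ≠ u.1 := by
    intro u hu
    simp only [hQ, Finset.mem_insert, Finset.mem_singleton] at hu
    have e1 : ∀ p q : Osub, p ≠ q → p.1 * q.1 ≠ p.1 := fun p q _ e => by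
      have := hOK q.2
      rw [mul_eq_left.1 e] at this
      exact h1mem this
    have e2 : ∀ p q : Osub, p ≠ q → p.1 * q.1 ≠ q.1 := fun p q _ e => by
      have := hOK p.2
      rw [mul_eq_right.1 e] at this
      exact h1mem this
    rcases hu with rfl | rfl | rfl | rfl
    · exact ⟨e1 _ _ f1, e1 _ _ f2⟩
    · exact ⟨e2 _ _ f1, htri z0 B A C (by rw [hQ]; ext; simp; tauto) f2 f3 f6 f1 f4.symm f5⟩
    · exact ⟨htri z0 A B C hQ f1 f3 f5 f2 f4 f6, e2 _ _ f2⟩
    · exact ⟨htri z0 A C B (by rw [hQ]; ext; simp; tauto) f1 f2 f4 f3 f5 f6.symm,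
        htri z0 B C A (by rw [hQ]; ext; simp; tauto) f2 f1 f4.symm f3 f6 f5.symm⟩
  have := hKQ _ (hprod z0 A f1) _ (hprod z0 B f2) (fun u hu => (hperm u hu).1)
    (fun u hu => (hperm u hu).2)
  exact f4 (Subtype.ext (mul_left_cancel this))

end Cfsg.Agent.TwoPointA4Iso15
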