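import Cfsg.Agent.Lib.TwoPointA4Ctx15

/-!
Doubly transitive groups with two-point stabiliser alternating of degree four: the case where the
group induced on the fixed points of an involution has the line number one.
-/

set_option autoImplicit false
set_option linter.unusedSectionVars false

open MulAction

namespace Cfsg.Agent.TwoPointA4LamOne15

open Cfsg.Agent.TwoPointA4Count15 Cfsg.Agent.TwoPointA4Bar15 Cfsg.Agent.TwoPointA4Ctx15

section TwoGroup

variable {S : Type*} [Group S] [Finite S]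

/-- In a two-group every element outside of which the group is not cyclic lies in a subgroup of
index two. -/
theorem exists_index_two {m : ℕ} (hS : Nat.card S = 2 ^ (m + 1)) {g : S}
    (hg : Subgroup.zpowers g ≠ ⊤) :
    ∃ M : Subgroup S, g ∈ M ∧ Nat.card M = 2 ^ m ∧ commutator S ≤ M := by
  haveI : Fact (Nat.Prime 2) := ⟨Nat.prime_two⟩
  obtain ⟨j, -, hj⟩ := (Nat.dvd_prime_pow Nat.prime_two).1
    (hS ▸ Subgroup.card_subgroup_dvd_card (Subgroup.zpowers g))
  have hjm : j ≤ m := by
    by_contra hlt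
    refine hg (Subgroup.eq_top_of_le_card _ ?_)
    rw [hj, hS]
    exact Nat.pow_le_pow_right (by norm_num) (by omega)
  obtain ⟨M, hM, hle⟩ := Sylow.exists_subgroup_card_pow_prime_le 2 (m := m)
    (hS ▸ pow_dvd_pow 2 (Nat.le_succ m)) (Subgroup.zpowers g) hj hjm
  have hidx : M.index = 2 := by
    have := M.card_mul_index
    rw [hM, hS, pow_succ] at this
    exact Nat.eq_of_mul_eq_mul_left (by positivity) this
  refine ⟨M, hle (Subgroup.mem_zpowers g), hM, ?_⟩
  rw [commutator_def, Subgroup.commutator_le]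
  intro a _ b _
  rw [commutatorElement_def, Subgroup.mul_mem_iff_of_index_two hidx,
    Subgroup.mul_mem_iff_of_index_two hidx, Subgroup.mul_mem_iff_of_index_two hidx, inv_mem_iff,
    inv_mem_iff]
  tauto

/-- An abelian two-group with at most two solutions of `y ^ 2 = 1` is cyclic. -/
theorem exists_generator {R : Subgroup S} {t : S} {m : ℕ} (hR : Nat.card R = 2 ^ m)
    (hab : ∀ u ∈ R, ∀ v ∈ R, u * v = v * u) (hinv : ∀ u ∈ R, u * u = 1 → u = 1 ∨ u = t) :
    ∃ r ∈ R, Subgroup.zpowers r = R := by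
  classical
  haveI := Fintype.ofFinite R
  haveI : IsMulCommutative R := ⟨⟨fun u v => Subtype.ext (hab u u.2 v v.2)⟩⟩
  letI : CommGroup R := { (inferInstance : Group R) with mul_comm := fun u v => mul_comm' u v }
  have hbound : ∀ i : ℕ, (Finset.univ.filter fun y : R => y ^ 2 ^ i = 1).card ≤ 2 ^ i := by
    intro i
    induction i with
    | zero => simp [Finset.filter_eq']
    | succ i ih =>
      set U := Finset.univ.filter fun y : R => y ^ 2 ^ i = 1 with hU
      have hker : (Finset.univ.filter fun y : R => y * y = 1).card ≤ 2 := by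
        refine (Finset.card_le_card_of_injOn (fun y : R => (y : S)) (t := ({1, t} : Finset S)) ?_
          (fun x _ y _ e => Subtype.ext e)).trans Finset.card_le_two
        intro y hy
        simp only [Finset.coe_filter, Finset.mem_univ, true_and, Set.mem_setOf_eq] at hy
        simpa using hinv y y.2 (congrArg Subtype.val hy)
      refine (Finset.card_le_mul_card_image
        (s := Finset.univ.filter fun y : R => y ^ 2 ^ (i + 1) = 1) (f := fun y => y * y) 2 ?_).trans ?_
      · intro b hb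
        obtain ⟨y₀, -, rfl⟩ := Finset.mem_image.1 hb
        refine le_trans (Finset.card_le_card_of_injOn (fun y => y * y₀⁻¹) ?_
          (fun x _ y _ e => mul_right_cancel e)) hker
        intro y hy
        simp only [Finset.coe_filter, Finset.mem_filter, Finset.mem_univ, true_and,
          Set.mem_setOf_eq] at hy ⊢
        rw [mul_mul_mul_comm, hy.2, ← mul_inv, mul_inv_cancel]
      · rw [pow_succ, mul_comm]
        refine Nat.mul_le_mul_right _ (le_trans (Finset.card_le_card ?_) ih)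
        intro b hb
        obtain ⟨y, hy, rfl⟩ := Finset.mem_image.1 hb
        simp only [hU, Finset.mem_filter, Finset.mem_univ, true_and] at hy ⊢
        rw [← pow_two, ← pow_mul, ← pow_succ']
        exact hy
  haveI : IsCyclic R := isCyclic_of_card_pow_eq_one_le fun n hn => by
    obtain ⟨i, -, hi⟩ := (Nat.dvd_prime_pow Nat.prime_two).1
      (Nat.gcd_dvd_right n (2 ^ m) : Nat.gcd n (2 ^ m) ∣ 2 ^ m)
    have hle : 2 ^ i ≤ n := hi ▸ Nat.le_of_dvd hn (Nat.gcd_dvd_left n _)
    refine le_trans (Finset.card_le_card ?_) ((hbound i).trans hle)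
    intro y hy
    simp only [Finset.mem_filter, Finset.mem_univ, true_and] at hy ⊢
    rw [← hi, ← hR]
    exact pow_gcd_eq_one.2 ⟨hy, pow_card_eq_one'⟩
  obtain ⟨r, hr⟩ := IsCyclic.exists_generator (α := R)
  refine ⟨r, r.2, le_antisymm (Subgroup.zpowers_le.2 r.2) fun u hu => ?_⟩
  obtain ⟨n, hn⟩ := Subgroup.mem_zpowers_iff.1 (hr ⟨u, hu⟩)
  exact ⟨n, by simpa using congrArg Subtype.val hn⟩

/-- There is no two-group with a single class of self-centralising involutions outside the centre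
and a further pair of elements with central square. -/
theorem no_two_group {m : ℕ} (hm : 3 ≤ m) (hS : Nat.card S = 2 ^ (m + 2)) {t x : S}
    (htc : ∀ y, y * t = t * y) (ht : t * t = 1) (ht1 : t ≠ 1) (hx : x * x = 1) (hx1 : x ≠ 1)
    (hxt : x ≠ t) (hC : ∀ y, y * x = x * y → y = 1 ∨ y = t ∨ y = x ∨ y = x * t)
    (hT : ∀ y y', (y * y = 1 ∨ y * y = t) → (y' * y' = 1 ∨ y' * y' = t) → y ≠ 1 → y ≠ t →
      y' ≠ 1 → y' ≠ t → ¬ IsConj x y → ¬ IsConj x y' → y' = y ∨ y' = y * t) : False := by
  classical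
  have hsmul : ∀ (y : ConjAct S) (z : S),
      y • z = ConjAct.ofConjAct y * z * (ConjAct.ofConjAct y)⁻¹ := fun y z => ConjAct.smul_def y z
  have hxt1 : x * t ≠ 1 := fun e => hxt ((eq_inv_of_mul_eq_one_left e).trans
    (inv_eq_of_mul_eq_one_right ht))
  have hstab : (Subgroup.centralizer ({x} : Set S) : Set S) = {1, t, x, x * t} := by
    ext y
    simp only [SetLike.mem_coe, Subgroup.mem_centralizer_singleton_iff,
      Set.mem_insert_iff, Set.mem_singleton_iff]
    refine ⟨hC y, ?_⟩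
    rintro (rfl | rfl | rfl | rfl)
    · simp
    · exact (htc x).symm
    · rfl
    · rw [mul_assoc, ← htc x]
  have hstabC : Nat.card (stabilizer (ConjAct S) x) =
      Nat.card (Subgroup.centralizer ({x} : Set S)) := by
    refine Nat.card_congr (ConjAct.ofConjAct.toEquiv.subtypeEquiv fun y => ?_)
    rw [mem_stabilizer_iff, hsmul, mul_inv_eq_iff_eq_mul]
    exact Subgroup.mem_centralizer_singleton_iff.symm
  have hstab4 : Nat.card (Subgroup.centralizer ({x} : Set S)) = 4 := by
    rw [← SetLike.coe_sort_coe, Nat.card_coe_set_eq, hstab]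
    rw [Set.ncard_insert_of_notMem, Set.ncard_insert_of_notMem, Set.ncard_pair]
    · exact fun e => ht1 (mul_eq_left.1 e.symm)
    · simp only [Set.mem_insert_iff, Set.mem_singleton_iff, not_or]
      exact ⟨hxt.symm, fun e => hx1 (mul_eq_right.1 e.symm)⟩
    · simp only [Set.mem_insert_iff, Set.mem_singleton_iff, not_or]
      exact ⟨ht1.symm, hx1.symm, hxt1.symm⟩
  have horb : (orbit (ConjAct S) x).ncard = 2 ^ m := by
    have h := Subgroup.index_mul_card (stabilizer (ConjAct S) x)
    rw [index_stabilizer, hstabC, hstab4, Nat.card_congr ConjAct.ofConjAct.toEquiv, hS, show 2 ^ (m + 2) = 2 ^ m * 4 by ring] at h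
    exact Nat.eq_of_mul_eq_mul_right (by norm_num) h
  set R := commutator S with hR
  set D := (fun z => x * z) '' orbit (ConjAct S) x with hD
  have hDR : D ⊆ (R : Set S) := by
    rintro _ ⟨z, ⟨y, rfl⟩, rfl⟩
    have := Subgroup.commutator_mem_commutator (Subgroup.mem_top x)
      (Subgroup.mem_top (ConjAct.ofConjAct y))
    rw [commutatorElement_def, inv_eq_of_mul_eq_one_right hx] at this
    simpa [hR, commutator_def, hsmul, mul_assoc] using this
  have hDcard : D.ncard = 2 ^ m := by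
    rw [hD, Set.ncard_image_of_injective _ (mul_right_injective x), horb]
  have hRge : 2 ^ m ≤ Nat.card R := by
    rw [← hDcard, ← SetLike.coe_sort_coe, Nat.card_coe_set_eq]
    exact Set.ncard_le_ncard hDR
  have hncyc : ∀ g : S, Subgroup.zpowers g ≠ ⊤ := by
    intro g hg
    have hc : ∀ y, y * x = x * y := fun y => by
      obtain ⟨i, rfl⟩ := Subgroup.mem_zpowers_iff.1 (hg ▸ Subgroup.mem_top y : y ∈ Subgroup.zpowers g)
      obtain ⟨k, rfl⟩ := Subgroup.mem_zpowers_iff.1 (hg ▸ Subgroup.mem_top x : x ∈ Subgroup.zpowers g)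
      exact ((Commute.refl g).zpow_zpow i k).eq
    have h16 : 2 ^ 5 ≤ 2 ^ (m + 2) := Nat.pow_le_pow_right (by norm_num) (by omega)
    have : Nat.card S ≤ 4 := by
      rw [← hstab4, ← Nat.card_congr (Equiv.Set.univ S), Nat.card_coe_set_eq,
        ← SetLike.coe_sort_coe, Nat.card_coe_set_eq]
      exact Set.ncard_le_ncard fun y _ => (Subgroup.mem_centralizer_singleton_iff.2 (hc y) :
        y ∈ Subgroup.centralizer ({x} : Set S))
    omega
  have hRcard : Nat.card R = 2 ^ m := by
    obtain ⟨M, hxM, hMc, hRM⟩ := exists_index_two (m := m + 1) hS (hncyc x)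
    obtain ⟨j, hj, hje⟩ := (Nat.dvd_prime_pow Nat.prime_two).1
      (hMc ▸ Subgroup.card_dvd_of_le hRM)
    rcases Nat.lt_or_ge j (m + 1) with hlt | hge
    · refine le_antisymm ?_ hRge
      rw [hje]
      exact Nat.pow_le_pow_right (by norm_num) (by omega)
    · exfalso
      have hRM' : R = M := Subgroup.eq_of_le_of_card_ge hRM
        (by rw [hje, hMc]; exact Nat.pow_le_pow_right (by norm_num) hge)
      obtain ⟨g, hg⟩ : ∃ g, g ∉ R := by
        by_contra hc
        push Not at hc
        have : Nat.card S ≤ Nat.card R :=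
          Nat.card_le_card_of_injective (fun y => (⟨y, hc y⟩ : R)) fun a b e =>
            congrArg Subtype.val e
        rw [hS, hRM', hMc] at this
        exact absurd this (not_le.2 (Nat.pow_lt_pow_right (by norm_num) (by omega)))
      obtain ⟨M', hgM, hM'c, hRM''⟩ := exists_index_two (m := m + 1) hS (hncyc g)
      have e := Subgroup.eq_of_le_of_card_ge hRM'' (le_of_eq (by rw [← hR, hRM', hMc, hM'c]))
      exact hg ((SetLike.ext_iff.1 e g).2 hgM)
  have hDeq : ∀ y, y ∈ R ↔ ∃ k, x * (k * x * k⁻¹) = y := by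
    intro y
    have e : D = (R : Set S) := Set.eq_of_subset_of_ncard_le hDR (by
      rw [hDcard, ← Nat.card_coe_set_eq, SetLike.coe_sort_coe, hRcard])
    rw [← SetLike.mem_coe, ← e, hD]
    exact ⟨fun ⟨z, ⟨k, hk⟩, hz⟩ => ⟨ConjAct.ofConjAct k, by rw [← hsmul, ← hz, ← hk]⟩,
      fun ⟨k, hk⟩ => ⟨k * x * k⁻¹, ⟨ConjAct.toConjAct k, by simp [hsmul]⟩, hk⟩⟩
  have hinvR : ∀ y ∈ R, x * y * x = y⁻¹ := by
    intro y hy
    obtain ⟨k, rfl⟩ := (hDeq y).1 hy
    have hz : (k * x * k⁻¹) * (k * x * k⁻¹) = 1 := by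
      rw [conj_mul, hx]; group
    rw [mul_inv_rev, inv_eq_of_mul_eq_one_right hz, inv_eq_of_mul_eq_one_right hx,
      ← mul_assoc x x, hx, one_mul]
  have hxi := inv_eq_of_mul_eq_one_right hx
  have habR : ∀ u ∈ R, ∀ v ∈ R, u * v = v * u := by
    intro u hu v hv
    have e := hinvR _ (mul_mem hu hv)
    rw [show x * (u * v) * x = (x * u * x) * (x * v * x) from by
      simp only [mul_assoc]; rw [← mul_assoc x x, hx, one_mul], hinvR u hu, hinvR v hv,
      ← mul_inv_rev, inv_inj] at e
    exact e.symm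
  have hxR : x ∉ R := by
    intro hxR
    obtain ⟨k, hk⟩ := (hDeq x).1 hxR
    exact hx1 (conj_eq_one_iff.1 (mul_eq_left.1 hk))
  have hxtR : x * t ∉ R := by
    intro hxR
    obtain ⟨k, hk⟩ := (hDeq _).1 hxR
    have e : k * x * k⁻¹ = t := mul_left_cancel hk
    refine hxt ?_
    calc x = k⁻¹ * (k * x * k⁻¹) * k := by group
      _ = k⁻¹ * (k * t) := by rw [e, htc k, mul_assoc]
      _ = t := by group
  have hinv2 : ∀ u ∈ R, u * u = 1 → u = 1 ∨ u = t := by
    intro u hu hu2
    have e := hinvR u hu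
    rw [inv_eq_of_mul_eq_one_right hu2] at e
    have hc : u * x = x * u := by
      conv_lhs => rw [← e]
      rw [mul_assoc, mul_assoc, hx, mul_one]
    rcases hC u hc with h | h | h | h
    · exact Or.inl h
    · exact Or.inr h
    · exact absurd (h ▸ hu) hxR
    · exact absurd (h ▸ hu) hxtR
  obtain ⟨r, hrR, hr⟩ := exists_generator hRcard habR hinv2
  have hord : orderOf r = 2 ^ m := by rw [← Nat.card_zpowers, hr, hRcard]
  -- the elements with central square inside the subgroup
  set j₀ := r ^ 2 ^ (m - 2) with hj₀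
  have hj₀R : j₀ ∈ R := pow_mem hrR _
  have hj₀2 : j₀ * j₀ ≠ 1 := by
    rw [hj₀, ← pow_add, ← two_mul, ← pow_succ']
    exact pow_ne_one_of_lt_orderOf (by positivity)
      (hord ▸ Nat.pow_lt_pow_right (by norm_num) (by omega))
  have hj₀t : j₀ * j₀ = t := by
    refine (hinv2 _ (mul_mem hj₀R hj₀R) ?_).resolve_left hj₀2
    rw [hj₀, ← pow_add, ← pow_add, show 2 ^ (m - 2) + 2 ^ (m - 2) + (2 ^ (m - 2) + 2 ^ (m - 2)) =
      2 ^ m by rw [show m = m - 2 + 1 + 1 by omega, pow_succ, pow_succ]; simp; ring, ← hord,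
      pow_orderOf_eq_one]
  have hj₀c : ¬ IsConj x j₀ := by
    intro hc
    obtain ⟨k, hk⟩ := isConj_iff.1 hc
    refine hj₀2 ?_
    rw [← hk, conj_mul, hx]
    group
  -- an element outside the two cosets
  obtain ⟨g, hgR, hgx⟩ : ∃ g, g ∉ R ∧ x * g ∉ R := by
    by_contra hc
    push Not at hc
    have hsub : (Set.univ : Set S) ⊆ (R : Set S) ∪ (fun y => x * y) '' (R : Set S) := by
      intro y _
      by_cases hy : y ∈ R
      · exact Or.inl hy
      · exact Or.inr ⟨x * y, hc y hy, by simp [← mul_assoc, hx]⟩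
    have := (Set.ncard_le_ncard hsub).trans (Set.ncard_union_le _ _)
    rw [Set.ncard_univ, Set.ncard_image_of_injective _ (mul_right_injective x),
      ← Nat.card_coe_set_eq, SetLike.coe_sort_coe, hRcard, hS, pow_add] at this
    have hpos := Nat.two_pow_pos m
    norm_num at this
    omega
  have hout : ∀ y, y ∉ R → x * y ∉ R → ¬ (y * y = 1 ∨ y * y = t) := by
    intro y hy hxy hsq
    have hy1 : y ≠ 1 := fun e => hy (e ▸ one_mem R)
    have htR : t ∈ R := hj₀t ▸ mul_mem hj₀R hj₀R
    have hyt : y ≠ t := fun e => hy (e ▸ htR)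
    by_cases hc : IsConj x y
    · obtain ⟨k, hk⟩ := isConj_iff.1 hc
      exact hxy ((hDeq _).2 ⟨k, by rw [hk]⟩)
    · rcases hT j₀ y (Or.inr hj₀t) hsq (fun e => hj₀2 (by rw [e, one_mul]))
        (fun e => hj₀2 (by rw [e, ht])) hy1 hyt hj₀c hc with e | e
      · exact hy (e ▸ hj₀R)
      · exact hy (e ▸ mul_mem hj₀R htR)
  have hg2 : g * g ∈ R := by
    obtain ⟨M, hgM, hMc, hRM⟩ := exists_index_two (m := m + 1) hS (hncyc g)
    by_contra hgg
    have hsub : (R : Set S) ∪ (fun y => g * y) '' (R : Set S) ∪ {g * g} ⊆ (M : Set S) := by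
      rintro y ((hy | ⟨u, hu, rfl⟩) | hy)
      · exact hRM hy
      · exact mul_mem hgM (hRM hu)
      · rw [Set.mem_singleton_iff] at hy
        subst hy
        exact mul_mem hgM hgM
    have hdisj : Disjoint (R : Set S) ((fun y => g * y) '' (R : Set S)) := by
      rw [Set.disjoint_left]
      rintro y hy ⟨u, hu, rfl⟩
      exact hgR (by simpa using mul_mem hy (inv_mem (show u ∈ R from hu)))
    have hnot : g * g ∉ (R : Set S) ∪ (fun y => g * y) '' (R : Set S) := by
      rintro (hy | ⟨u, hu, e⟩)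
      · exact hgg hy
      · exact hgR (mul_left_cancel e ▸ hu)
    have := Set.ncard_le_ncard hsub
    rw [Set.union_singleton, Set.ncard_insert_of_notMem hnot, Set.ncard_union_eq hdisj,
      Set.ncard_image_of_injective _ (mul_right_injective g), ← Nat.card_coe_set_eq,
      SetLike.coe_sort_coe, hRcard, ← Nat.card_coe_set_eq, SetLike.coe_sort_coe, hMc,
      pow_succ] at this
    omega
  have hRn : R.Normal := by rw [hR]; infer_instance
  obtain ⟨d, hd⟩ : ∃ d, g * x * g⁻¹ = x * d ∧ d ∈ R :=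
    ⟨x * (g * x * g⁻¹), by rw [← mul_assoc, hx, one_mul], (hDeq _).2 ⟨g, rfl⟩⟩
  obtain ⟨hd, hdR⟩ := hd
  obtain ⟨a, rfl⟩ := Subgroup.mem_zpowers_iff.1 (hr.symm ▸ hdR : d ∈ Subgroup.zpowers r)
  -- conjugation by `x` and `g`
  have hxr : ∀ n : ℤ, r ^ n * x = x * r ^ (-n) := by
    intro n
    rw [zpow_neg, ← hinvR _ (zpow_mem hrR n), ← mul_assoc, ← mul_assoc, hx, one_mul]
  have haodd : Odd a := by
    rw [← Int.not_even_iff_odd]
    rintro ⟨e, rfl⟩
    have hc : (r ^ e * g) * x = x * (r ^ e * g) := by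
      have hgx' : g * x = x * r ^ (e + e) * g := mul_inv_eq_iff_eq_mul.1 hd
      calc r ^ e * g * x = r ^ e * x * r ^ (e + e) * g := by
            rw [mul_assoc, hgx']; simp only [mul_assoc]
        _ = x * (r ^ e * g) := by
            rw [hxr, mul_assoc x, ← zpow_add, mul_assoc x]
            congr 3
            ring
    have htR : t ∈ R := hj₀t ▸ mul_mem hj₀R hj₀R
    have hre : r ^ e ∈ R := zpow_mem hrR e
    rcases hC _ hc with h | h | h | h
    · exact hgR (by simpa using mul_mem (inv_mem hre) (h ▸ one_mem R : r ^ e * g ∈ R))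
    · exact hgR (by simpa using mul_mem (inv_mem hre) (h ▸ htR : r ^ e * g ∈ R))
    · refine hgx ?_
      have : x * g = x * (r ^ (-e) * (r ^ e * g)) := by rw [zpow_neg, inv_mul_cancel_left]
      rw [this, h, ← mul_assoc, ← hxr e, mul_assoc, hx, mul_one]
      exact hre
    · refine hgx ?_
      have : x * g = x * (r ^ (-e) * (r ^ e * g)) := by rw [zpow_neg, inv_mul_cancel_left]
      rw [this, h, ← mul_assoc, ← hxr e]
      simp only [mul_assoc]
      rw [← mul_assoc x x, hx, one_mul]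
      exact mul_mem hre htR
  obtain ⟨b, hb⟩ := Subgroup.mem_zpowers_iff.1
    (hr.symm ▸ hRn.conj_mem r hrR g : g * r * g⁻¹ ∈ Subgroup.zpowers r)
  obtain ⟨i, hi⟩ := Subgroup.mem_zpowers_iff.1 (hr.symm ▸ hg2 : g * g ∈ Subgroup.zpowers r)
  have hNz : ∀ {n : ℤ}, r ^ n = 1 → (2 ^ m : ℤ) ∣ n := by
    intro n hn
    have := orderOf_dvd_iff_zpow_eq_one.2 hn
    rw [hord] at this
    exact_mod_cast this
  have hNz' : ∀ {n : ℤ}, (2 ^ m : ℤ) ∣ n → r ^ n = 1 := by
    intro n hn
    refine orderOf_dvd_iff_zpow_eq_one.1 ?_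
    rw [hord]
    exact_mod_cast hn
  have hgr : ∀ n : ℤ, g * r ^ n * g⁻¹ = r ^ (b * n) := fun n => by
    rw [zpow_mul, hb, conj_zpow]
  have h1 : (2 ^ m : ℤ) ∣ a * (1 + b) + 2 * i := by
    have e1 : g * g * x * (g * g)⁻¹ = x * r ^ (a * (1 + b)) := by
      calc g * g * x * (g * g)⁻¹ = g * (g * x * g⁻¹) * g⁻¹ := by group
        _ = g * (x * r ^ a) * g⁻¹ := by rw [hd]
        _ = (g * x * g⁻¹) * (g * r ^ a * g⁻¹) := by group
        _ = x * r ^ (a * (1 + b)) := by
          rw [hd, hgr, mul_assoc, ← zpow_add]; congr 2; ring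
    rw [← hi, hxr, ← zpow_neg, mul_assoc, ← zpow_add] at e1
    have := hNz (n := a * (1 + b) + 2 * i) (by
      rw [zpow_add, ← mul_left_cancel e1, ← zpow_add]
      rw [show -i + -i + 2 * i = 0 by ring, zpow_zero])
    exact this
  have h2 : (2 ^ m : ℤ) ∣ (b - 1) * i := by
    refine hNz ?_
    rw [show (b - 1) * i = b * i - i by ring, zpow_sub, ← hgr, hi]
    group
  -- hence one of `g`, `g * x` has central square
  have h3 : (2 ^ m : ℤ) ∣ 2 * i * (a + i) := by
    have : 2 * i * (a + i) = (a * (1 + b) + 2 * i) * i - a * ((b - 1) * i) := by ring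
    rw [this]
    exact dvd_sub (h1.mul_right i) (h2.mul_left a)
  have hsq : ∀ {y : S} {n : ℤ}, y = r ^ n → (2 ^ m : ℤ) ∣ 2 * n → y = 1 ∨ y = t := by
    intro y n e hn
    refine hinv2 y (e ▸ zpow_mem hrR n) ?_
    rw [e, ← zpow_add, ← two_mul]
    exact hNz' hn
  rcases Int.even_or_odd i with hev | hodd'
  · have ho : Odd (a + i) := haodd.add_even hev
    have h4 : (2 ^ m : ℤ) ∣ 2 * i := by
      refine IsCoprime.dvd_of_dvd_mul_right ?_ h3
      exact IsCoprime.pow_left (Int.isCoprime_two_left.2 ho)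
    exact hout g hgR hgx (hsq hi.symm h4)
  · have h4 : (2 ^ m : ℤ) ∣ 2 * (a + i) := by
      refine IsCoprime.dvd_of_dvd_mul_right (z := i) ?_ (by rwa [show 2 * (a + i) * i = 2 * i * (a + i) by ring])
      exact IsCoprime.pow_left (Int.isCoprime_two_left.2 hodd')
    refine hout (g * x) (fun hm' => hgx ?_) (fun hm' => hgR ?_)
      (hsq (n := -(a + i)) ?_ (by rw [mul_neg]; exact h4.neg_right))
    · have := hRn.conj_mem _ hm' x
      rw [hxi] at this
      simpa [mul_assoc, hx] using this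
    · have := hRn.conj_mem _ hm' x
      rw [hxi] at this
      have e : x * (x * (g * x)) * x = g := by
        calc x * (x * (g * x)) * x = (x * x) * g * (x * x) := by simp only [mul_assoc]
          _ = g := by rw [hx, one_mul, mul_one]
      rwa [e] at this
    · calc g * x * (g * x) = (g * x * g⁻¹) * (g * g) * x := by group
        _ = r ^ (-(a + i)) := by
          rw [hd, ← hi, mul_assoc x, ← zpow_add, mul_assoc, hxr, ← mul_assoc, hx, one_mul]

end TwoGroup

/-- A finite set invariant under conjugation with all orbits of size `n`. -/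
theorem dvd_ncard_of_orbits {H X : Type*} [Group H] [MulAction H X] [Finite X] {n : ℕ} :
    ∀ U : Set X, (∀ y ∈ U, ∀ k : H, k • y ∈ U) → (∀ y ∈ U, (orbit H y).ncard = n) →
      n ∣ U.ncard := by
  intro U
  induction hc : U.ncard using Nat.strong_induction_on generalizing U with
  | _ c ih =>
    intro hU hn
    rcases U.eq_empty_or_nonempty with rfl | ⟨y, hy⟩
    · simp [← hc]
    have hsub : orbit H y ⊆ U := by rintro _ ⟨k, rfl⟩; exact hU y hy k
    have hsplit := Set.ncard_sdiff_add_ncard_of_subset hsub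
    have hpos : 0 < (orbit H y).ncard := (Set.ncard_pos).2 ⟨y, mem_orbit_self y⟩
    rw [← hc, ← hsplit, hn y hy]
    refine dvd_add (ih _ (by omega) _ rfl ?_ fun z hz => hn z hz.1) dvd_rfl
    rintro z ⟨hz, hz'⟩ k
    refine ⟨hU z hz k, fun hk => hz' ?_⟩
    obtain ⟨l, hl⟩ := hk
    exact ⟨k⁻¹ * l, by simp [mul_smul] at hl ⊢; rw [hl, inv_smul_smul]⟩

variable {G : Type*} [Group G] [Fintype G] {Ω : Type*} [Fintype Ω] [MulAction G Ω]

/-- The case of line number one is impossible. -/
theorem no_lambda_one (h : Setup G Ω) (hodd : Odd (Fintype.card Ω)) {a b : Ω} {t : G}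
    (hab : a ≠ b) (ht : t * t = 1) (ht1 : t ≠ 1) (ha : t • a = a) (hb : t • b = b) {c : ℕ}
    (hc : ∀ p q : Ω, p ≠ q → (lineFin G p q).card = c) (hf : fx Ω t = c * c) (hc4 : c % 4 = 3)
    (hcV : ∀ p q : Ω, p ≠ q → Nat.card ↥(MulAction.stabilizer G p ⊓
      Subgroup.centralizer (Vfin G p q : Set G)) = 2 * (c - 1)) : False := by
  classical
  have htT : IsT Ω t := ⟨ht, ht1, a, b, hab, ha, hb⟩
  have hc3 : 3 ≤ c := by omega
  have hcc : c < c * c := by
    calc c = c * 1 := (mul_one c).symm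
      _ < c * c := by apply Nat.mul_lt_mul_of_pos_left <;> omega
  have hlt : ∀ p q : Ω, p ≠ q → (lineFin G p q).card < fx Ω t := fun p q hpq => by
    rw [hc p q hpq, hf]; exact hcc
  haveI : Fintype (fixSet Ω t) := Fintype.ofFinite _
  haveI : Fintype (bar Ω t) := Fintype.ofFinite _
  have hP := h.bar_two htT hlt
  set K := Subgroup.centralizer ({t} : Set G) ⊓ stabilizer G a with hK
  have memK : ∀ {y : G}, y ∈ K ↔ y * t = t * y ∧ y • a = a := fun {y} => by
    rw [hK, Subgroup.mem_inf, Subgroup.mem_centralizer_singleton_iff, mem_stabilizer_iff]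
  have htK : t ∈ K := memK.2 ⟨rfl, ha⟩
  have hKcard : Nat.card K = (c * c - 1) * 4 := by
    rw [hK, h.card_cent_stab ht ht1 hab ha hb, hf]
  -- the line involutions in `K`
  set Lam : Set G := {v | v ∈ K ∧ v * v = 1 ∧ v ≠ 1 ∧ v ≠ t ∧ ∃ x, x ≠ a ∧ t • x = x ∧ v • x = x}
    with hLam
  have htV : ∀ {x : Ω}, t • x = x → t ∈ Vfin G a x := fun hx => mem_Vfin.2 ⟨ha, hx, ht⟩
  have hLamV : ∀ {v : G} {x : Ω}, v ∈ Lam → v • x = x → v ∈ Vfin G a x := fun hv hx =>
    mem_Vfin.2 ⟨(memK.1 hv.1).2, hx, hv.2.1⟩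
  -- a line involution fixes only its line
  have hline : ∀ {v : G} {x y : Ω}, v ∈ Lam → x ≠ a → t • x = x → v • x = x →
      (y ∈ line G a x ↔ t • y = y ∧ v • y = y) := by
    intro v x y hv hxa htx hvx
    refine ⟨fun hy => ⟨hy t (htV htx), hy v (hLamV hv hvx)⟩, fun hy g hg => ?_⟩
    rcases h.Vfin_eq_quad (Ne.symm hxa) (htV htx) ht1 (hLamV hv hvx) hv.2.2.1 (Ne.symm hv.2.2.2.1)
      hg with rfl | rfl | rfl | rfl
    · exact one_smul _ _
    · exact hy.1
    · exact hy.2
    · rw [mul_smul, hy.2, hy.1]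
  have hbarfx : ∀ {v : G} {x : Ω} (hv : v ∈ Lam), x ≠ a → t • x = x → v • x = x →
      fx (fixSet Ω t) (toBar Ω t ⟨v, Subgroup.mem_centralizer_singleton_iff.2 (memK.1 hv.1).1⟩)
        = c := by
    intro v x hv hxa htx hvx
    rw [← hc a x (Ne.symm hxa), fx]
    refine Finset.card_bij (fun y _ => (y : Ω)) ?_ (fun _ _ _ _ e => Subtype.ext e) ?_
    · intro y hy
      simp only [Finset.mem_filter, Finset.mem_univ, true_and] at hy
      exact mem_lineFin.2 ((hline hv hxa htx hvx).2 ⟨y.2, congrArg Subtype.val hy⟩)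
    · intro y hy
      obtain ⟨h1, h2⟩ := (hline hv hxa htx hvx).1 (mem_lineFin.1 hy)
      refine ⟨⟨y, h1⟩, ?_, rfl⟩
      simp only [Finset.mem_filter, Finset.mem_univ, true_and]
      exact Subtype.ext h2
  -- centralisers
  have hcentLam : ∀ {v : G}, v ∈ Lam →
      Nat.card ↥(K ⊓ Subgroup.centralizer ({v} : Set G)) = 2 * (c - 1) := by
    rintro v ⟨hvK, hv2, hv1, hvt, x, hxa, htx, hvx⟩
    have hv : v ∈ Lam := ⟨hvK, hv2, hv1, hvt, x, hxa, htx, hvx⟩
    rw [show K ⊓ Subgroup.centralizer ({v} : Set G) =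
      stabilizer G a ⊓ Subgroup.centralizer (Vfin G a x : Set G) from ?_, hcV a x (Ne.symm hxa)]
    ext y
    rw [Subgroup.mem_inf, memK, Subgroup.mem_centralizer_singleton_iff, Subgroup.mem_inf,
      mem_stabilizer_iff, Subgroup.mem_centralizer_iff]
    constructor
    · rintro ⟨⟨h1, h2⟩, h3⟩
      refine ⟨h2, fun g hg => ?_⟩
      rcases h.Vfin_eq_quad (Ne.symm hxa) (htV htx) ht1 (hLamV hv hvx) hv1 (Ne.symm hvt)
        hg with rfl | rfl | rfl | rfl
      · simp
      · exact h1.symm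
      · exact h3.symm
      · exact ((Commute.mul_right h1 h3 : Commute y _)).eq.symm
    · rintro ⟨h2, h3⟩
      exact ⟨⟨(h3 t (htV htx)).symm, h2⟩, (h3 v (hLamV hv hvx)).symm⟩
  -- the number of line involutions
  have hLamCard : Lam.ncard * (c - 1) = 2 * (c * c - 1) := by
    set X := (Finset.univ.filter fun x : Ω => t • x = x).erase a with hX
    have hXc : X.card = c * c - 1 := by
      rw [hX, Finset.card_erase_of_mem (by simp [ha]), ← hf, fx]
    rw [Set.ncard_eq_toFinset_card', ← hXc]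
    have key := Finset.sum_card_bipartiteAbove_eq_sum_card_bipartiteBelow
      (r := fun (v : G) (x : Ω) => v • x = x) (s := Lam.toFinset) (t := X)
    rw [Finset.sum_congr rfl (fun v hv => ?_), Finset.sum_congr (s₁ := X) rfl (fun x hx => ?_),
      Finset.sum_const, Finset.sum_const, smul_eq_mul, smul_eq_mul] at key
    · rw [key, mul_comm]
    · -- two for each point
      simp only [hX, Finset.mem_erase, Finset.mem_filter, Finset.mem_univ, true_and] at hx
      rw [show Lam.toFinset.bipartiteBelow (fun v x => v • x = x) x =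
        ((Vfin G a x).erase 1).erase t from ?_,
        Finset.card_erase_of_mem (Finset.mem_erase.2 ⟨ht1, htV hx.2⟩),
        Finset.card_erase_of_mem (mem_Vfin.2 ⟨one_smul _ _, one_smul _ _, one_mul 1⟩),
        h.Vfin_card (Ne.symm hx.1)]
      ext v
      simp only [Finset.bipartiteBelow, Finset.mem_filter, Set.mem_toFinset, Finset.mem_erase]
      constructor
      · rintro ⟨hv, hvx⟩
        exact ⟨hv.2.2.2.1, hv.2.2.1, hLamV hv hvx⟩
      · rintro ⟨hvt, hv1, hvV⟩
        obtain ⟨h1, h2, h3⟩ := mem_Vfin.1 hvV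
        exact ⟨⟨memK.2 ⟨h.comm (Ne.symm hx.1) h1 h2 h3 ha hx.2 ht, h1⟩, h3, hv1, hvt,
          x, hx.1, hx.2, h2⟩, h2⟩
    · -- the other points of the line
      rw [Set.mem_toFinset] at hv
      obtain ⟨-, -, -, -, y, hya, hty, hvy⟩ := id hv
      rw [show X.bipartiteAbove (fun v x => v • x = x) v = (lineFin G a y).erase a from ?_,
        Finset.card_erase_of_mem (mem_lineFin.2 left_mem_line), hc a y (Ne.symm hya)]
      ext x
      simp only [Finset.bipartiteAbove, hX, Finset.mem_filter, Finset.mem_erase, mem_lineFin,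
        Finset.mem_univ, true_and, hline hv hya hty hvy, and_assoc]
  -- the elements outside
  have hrest : ∀ y y', y ∈ K → y' ∈ K → (y * y = 1 ∨ y * y = t) → (y' * y' = 1 ∨ y' * y' = t) →
      y ≠ 1 → y ≠ t → y' ≠ 1 → y' ≠ t → y ∉ Lam → y' ∉ Lam → y' = y ∨ y' = y * t := by
    have hq : ∀ y : G, y ∈ K → (∀ x : Ω, t • x = x → y • x = x) → y = 1 ∨ y = t := by
      intro y hy hall
      obtain ⟨h1, h2⟩ := memK.1 hy
      have hyV := h.mem_Vfin_of_cent ht ht1 hab ha hb h1 h2 (hall b hb)
      by_contra hne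
      push Not at hne
      have hsub : Finset.univ.filter (fun x : Ω => t • x = x) ⊆ lineFin G a b := by
        intro x hx
        simp only [Finset.mem_filter, Finset.mem_univ, true_and] at hx
        refine mem_lineFin.2 fun g hg => ?_
        rcases h.Vfin_eq_quad hab (htV hb) ht1 hyV hne.1 hne.2.symm hg with rfl | rfl | rfl | rfl
        · exact one_smul _ _
        · exact hx
        · exact hall x hx
        · rw [mul_smul, hall x hx, hx]
      have := Finset.card_le_card hsub
      have h' := hlt a b hab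
      rw [fx] at h'
      omega
    intro y y' hy hy' hsq hsq' hy1 hyt hy1' hyt' hyL hyL'
    have hmem : ∀ {y : G}, y ∈ K → y ∈ Subgroup.centralizer ({t} : Set G) := fun hy => hy.1
    have himg : ∀ y (hy : y ∈ K), (y * y = 1 ∨ y * y = t) → y ≠ 1 → y ≠ t → y ∉ Lam →
        toBar Ω t ⟨y, hmem hy⟩ * toBar Ω t ⟨y, hmem hy⟩ = 1 ∧ toBar Ω t ⟨y, hmem hy⟩ ≠ 1 ∧
          fx (fixSet Ω t) (toBar Ω t ⟨y, hmem hy⟩) = 1 := by
      intro y hy hsq hy1 hyt hyL
      refine ⟨?_, fun e => ?_, ?_⟩
      · rw [← map_mul]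
        refine (toImage_eq_one_iff _).2 fun x hx => ?_
        show (y * y) • x = x
        rcases hsq with e | e <;> rw [e]
        · exact one_smul _ _
        · exact hx
      · rcases hq y hy fun x hx => (toImage_eq_one_iff _).1 e x hx with e' | e'
        · exact hy1 e'
        · exact hyt e'
      · refine le_antisymm ?_ (fx_pos (x := (⟨a, ha⟩ : fixSet Ω t)) (Subtype.ext (memK.1 hy).2))
        by_contra hlt'
        obtain ⟨p, q, hpq, hp, hq'⟩ := exists_pair_of_one_lt_fx (not_le.1 hlt')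
        obtain ⟨x, hxa, hx, hyx⟩ : ∃ x : Ω, x ≠ a ∧ t • x = x ∧ y • x = x := by
          by_cases hpa : (p : Ω) = a
          · exact ⟨q, fun e => hpq (Subtype.ext (hpa.trans e.symm)), q.2,
              congrArg Subtype.val hq'⟩
          · exact ⟨p, hpa, p.2, congrArg Subtype.val hp⟩
        obtain ⟨h1, h2⟩ := memK.1 hy
        exact hyL ⟨hy, (mem_Vfin.1 (h.mem_Vfin_of_cent ht ht1 (Ne.symm hxa) ha hx h1 h2 hyx)).2.2,
          hy1, hyt, x, hxa, hx, hyx⟩
    obtain ⟨s, hs1, hsa, hsb⟩ := hP.ex ⟨a, ha⟩ ⟨b, hb⟩ fun e => hab (congrArg Subtype.val e)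
    obtain ⟨lam, -, -, -, huniq, -⟩ :=
      hP.counts (fun e => hab (congrArg Subtype.val e)) hs1 hsa hsb
    obtain ⟨e1, e2, e3⟩ := himg y hy hsq hy1 hyt hyL
    obtain ⟨f1, f2, f3⟩ := himg y' hy' hsq' hy1' hyt' hyL'
    have heq := huniq ⟨a, ha⟩ _ _ e1 e2 e3 (Subtype.ext (memK.1 hy).2) f1 f2 f3
      (Subtype.ext (memK.1 hy').2)
    rcases hq (y⁻¹ * y') (mul_mem (inv_mem hy) hy') fun x hx => by
      have := congrArg (fun z : bar Ω t => ((z • (⟨x, hx⟩ : fixSet Ω t) : fixSet Ω t) : Ω)) heq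
      rw [mul_smul, inv_smul_eq_iff]
      exact this.symm with e | e
    · exact Or.inl (inv_mul_eq_one.1 e).symm
    · exact Or.inr (by rw [← e, mul_inv_cancel_left])
  -- the two-parts
  haveI : Fact (Nat.Prime 2) := ⟨Nat.prime_two⟩
  obtain ⟨k, o, ho, hco⟩ := Nat.exists_eq_pow_mul_and_not_dvd (n := c + 1) (by omega) 2 (by norm_num)
  have hk2 : 2 ≤ k := by
    by_contra hk
    interval_cases k <;> omega
  have hoddc : ∃ e, c - 1 = 2 * e ∧ Odd e := ⟨(c - 1) / 2, by omega, by
    rw [Nat.odd_iff]; omega⟩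
  obtain ⟨e, hce, heodd⟩ := hoddc
  have hcc1 : c * c - 1 = (c + 1) * (c - 1) := by
    have := Nat.sq_sub_sq c 1
    simpa [pow_two] using this
  have hK2 : Nat.card K = 2 ^ (k + 3) * (o * e) := by
    rw [hKcard, hcc1, hco, hce]; ring
  have hLam2 : Lam.ncard = 2 ^ (k + 1) * o := by
    refine Nat.eq_of_mul_eq_mul_right (show 0 < c - 1 by omega) ?_
    rw [hLamCard, hcc1, hco]; ring
  obtain ⟨S₀⟩ : Nonempty (Sylow 2 K) := inferInstance
  set S := (S₀ : Subgroup K).map K.subtype with hSdef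
  have hoe : ¬ 2 ∣ o * e := by
    rw [← even_iff_two_dvd, Nat.not_even_iff_odd, Nat.odd_mul]
    exact ⟨Nat.odd_iff.2 (by omega), heodd⟩
  have hScard : Nat.card S = 2 ^ (k + 3) := by
    rw [hSdef, Subgroup.card_map_of_injective K.subtype_injective, S₀.card_eq_multiplicity, hK2]
    congr 1
    rw [Nat.factorization_mul (pow_ne_zero _ two_ne_zero)
      (fun e0 => hoe (by rw [e0]; exact dvd_zero 2)),
      Finsupp.add_apply, Nat.Prime.factorization_pow Nat.prime_two, Finsupp.single_eq_same,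
      Nat.factorization_eq_zero_of_not_dvd hoe, add_zero]
  have hSK : S ≤ K := Subgroup.map_subtype_le _
  have hSp : IsPGroup 2 S := IsPGroup.of_card hScard
  have hts : t ∈ S := by
    have hz : IsPGroup 2 (Subgroup.zpowers (⟨t, htK⟩ : K)) := by
      refine IsPGroup.of_card (n := 1) ?_
      rw [Nat.card_zpowers, Subgroup.orderOf_mk, pow_one]
      exact orderOf_eq_prime (by rw [pow_two, ht]) ht1
    haveI : (Subgroup.zpowers (⟨t, htK⟩ : K)).Normal := ⟨fun u hu g => by
      obtain ⟨n, rfl⟩ := Subgroup.mem_zpowers_iff.1 hu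
      have : Commute g ⟨t, htK⟩ := Subtype.ext (memK.1 g.2).1
      rw [(this.zpow_right n).eq, mul_inv_cancel_right]
      exact hu⟩
    exact ⟨_, hz.le_sylow_of_normal S₀ (Subgroup.mem_zpowers _), rfl⟩
  -- centralisers inside `S`
  have hCS : ∀ {v : G}, v ∈ Lam → ∀ y ∈ S, y * v = v * y →
      y = 1 ∨ y = t ∨ y = v ∨ y = v * t := by
    intro v hv y hy hyv
    set C := K ⊓ Subgroup.centralizer ({v} : Set G) with hC
    have hCmem : ∀ {u : G}, u ∈ C ↔ u ∈ K ∧ u * v = v * u := fun {u} => by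
      rw [hC, Subgroup.mem_inf, Subgroup.mem_centralizer_singleton_iff]
    have hvt' : v * t = t * v := (memK.1 hv.1).1
    set W := Subgroup.closure ({v, t} : Set G) with hW
    have hWC : W ≤ C := by
      rw [hW, Subgroup.closure_le]
      rintro u (rfl | rfl)
      · exact hCmem.2 ⟨hv.1, rfl⟩
      · exact hCmem.2 ⟨htK, hvt'.symm⟩
    have hWset : ∀ u ∈ W, u = 1 ∨ u = t ∨ u = v ∨ u = v * t := by
      intro u hu
      induction hu using Subgroup.closure_induction with
      | mem u hu => rcases hu with rfl | rfl <;> simp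
      | one => simp
      | mul u w _ _ hu hw =>
        have hvv := hv.2.1
        have a1 : ∀ X : G, v * (v * X) = X := fun X => by rw [← mul_assoc, hvv, one_mul]
        have a2 : ∀ X : G, t * (t * X) = X := fun X => by rw [← mul_assoc, ht, one_mul]
        have a3 : ∀ X : G, t * (v * X) = v * (t * X) := fun X => by
          rw [← mul_assoc, ← hvt', mul_assoc]
        rcases hu with rfl | rfl | rfl | rfl <;> rcases hw with rfl | rfl | rfl | rfl <;>
          simp [mul_assoc, hvv, ht, hvt'.symm, a1, a2, a3]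
      | inv u _ hu =>
        rcases hu with rfl | rfl | rfl | rfl
        · simp
        · exact Or.inr (Or.inl (inv_eq_of_mul_eq_one_right ht))
        · exact Or.inr (Or.inr (Or.inl (inv_eq_of_mul_eq_one_right hv.2.1)))
        · refine Or.inr (Or.inr (Or.inr ?_))
          rw [mul_inv_rev, inv_eq_of_mul_eq_one_right ht, inv_eq_of_mul_eq_one_right hv.2.1, hvt']
    set L := (S ⊓ C) ⊔ W with hL
    have hLC : L ≤ C := sup_le inf_le_right hWC
    have hW4 : Nat.card W = 4 := by
      rw [← SetLike.coe_sort_coe, Nat.card_coe_set_eq, show (W : Set G) = {1, t, v, v * t} from ?_]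
      · rw [Set.ncard_insert_of_notMem, Set.ncard_insert_of_notMem, Set.ncard_pair]
        · exact fun e => ht1 (mul_eq_left.1 e.symm)
        · simp only [Set.mem_insert_iff, Set.mem_singleton_iff, not_or]
          exact ⟨hv.2.2.2.1.symm, fun e => hv.2.2.1 (mul_eq_right.1 e.symm)⟩
        · simp only [Set.mem_insert_iff, Set.mem_singleton_iff, not_or]
          exact ⟨ht1.symm, hv.2.2.1.symm, fun e => hv.2.2.2.1
            ((eq_inv_of_mul_eq_one_left e.symm).trans (inv_eq_of_mul_eq_one_right ht))⟩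
      · ext u
        simp only [SetLike.mem_coe, Set.mem_insert_iff, Set.mem_singleton_iff]
        refine ⟨hWset u, ?_⟩
        have hv' : v ∈ W := Subgroup.subset_closure (by simp)
        have ht' : t ∈ W := Subgroup.subset_closure (by simp)
        rintro (rfl | rfl | rfl | rfl)
        exacts [one_mem _, ht', hv', mul_mem hv' ht']
    have hWp : IsPGroup 2 W := IsPGroup.of_card (n := 2) (by rw [hW4]; norm_num)
    have hnorm : S ⊓ C ≤ Subgroup.normalizer (W : Set G) := by
      intro u hu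
      obtain ⟨huK, huv⟩ := hCmem.1 hu.2
      refine Subgroup.mem_normalizer_fintype fun w hw => ?_
      have hut : u * t = t * u := (memK.1 huK).1
      rcases hWset w hw with rfl | rfl | rfl | rfl
      · simp
      · rwa [hut, mul_inv_cancel_right]
      · rwa [huv, mul_inv_cancel_right]
      · rwa [((Commute.mul_right huv hut : Commute u _)).eq, mul_inv_cancel_right]
    have hLp : IsPGroup 2 L := (hSp.to_le inf_le_left).to_sup_of_normal_right' hWp hnorm
    obtain ⟨i, hi⟩ := hLp.exists_card_eq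
    have hdvd : 2 ^ i ∣ 2 ^ 2 * e := by
      rw [← hi]
      refine (Subgroup.card_dvd_of_le hLC).trans ?_
      rw [hcentLam hv, hce]
      exact dvd_of_eq (by ring)
    have hi2 : i ≤ 2 := by
      have := (Nat.Coprime.pow_left i (Nat.coprime_two_left.2 heodd)).dvd_of_dvd_mul_right hdvd
      exact (Nat.pow_dvd_pow_iff_le_right (by norm_num)).1 this
    have hLW : W = L := Subgroup.eq_of_le_of_card_ge le_sup_right (by
      rw [hW4, hi]
      calc 2 ^ i ≤ 2 ^ 2 := Nat.pow_le_pow_right (by norm_num) hi2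
        _ = 4 := by norm_num)
    refine hWset y (hLW ▸ Subgroup.mem_sup_left ?_)
    exact ⟨hy, hCmem.2 ⟨hSK hy, hyv⟩⟩
  -- orbits on the line involutions
  letI : MulAction S G := MulAction.compHom G ((MulAut.conj : G →* MulAut G).comp S.subtype)
  have hsm : ∀ (u : S) (z : G), u • z = (u : G) * z * (u : G)⁻¹ := fun _ _ => rfl
  have hinv : ∀ v ∈ Lam, ∀ u : S, u • v ∈ Lam := by
    rintro v ⟨hvK, hv2, hv1, hvt, x, hxa, htx, hvx⟩ u
    obtain ⟨hut, hua⟩ := memK.1 (hSK u.2)
    refine ⟨mul_mem (mul_mem (hSK u.2) hvK) (inv_mem (hSK u.2)), ?_, fun e => hv1 ?_,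
      fun e => hvt ?_, (u : G) • x, fun e => hxa ?_, ?_, ?_⟩
    · rw [hsm, conj_mul, hv2]; group
    · exact conj_eq_one_iff.1 e
    · calc v = (u : G)⁻¹ * ((u : G) * v * (u : G)⁻¹) * u := by group
        _ = (u : G)⁻¹ * (t * u) := by rw [← hsm, e, mul_assoc]
        _ = t := by rw [← hut]; group
    · exact (smul_left_cancel_iff (u : G)).1 (e.trans hua.symm)
    · rw [← mul_smul, ← hut, mul_smul, htx]
    · rw [hsm, mul_smul, inv_smul_smul, mul_smul, hvx]
  have horb : ∀ v ∈ Lam, ∀ w : Set G, (∀ u : S, u ∈ stabilizer S v ↔ (u : G) ∈ w) →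
      w ⊆ (S : Set G) → (orbit S v).ncard * w.ncard = 2 ^ (k + 3) := by
    intro v hv w hw hwS
    have h0 := Subgroup.index_mul_card (stabilizer S v)
    rw [index_stabilizer, hScard] at h0
    rw [← h0]
    congr 1
    rw [← Nat.card_coe_set_eq]
    exact Nat.card_congr
      { toFun := fun u => ⟨⟨u, hwS u.2⟩, (hw ⟨u, hwS u.2⟩).2 u.2⟩
        invFun := fun u => ⟨((u : S) : G), (hw u).1 u.2⟩
        left_inv := fun _ => rfl
        right_inv := fun _ => rfl }
  have hstab : ∀ v ∈ Lam, ∀ u : S, u ∈ stabilizer S v ↔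
      (u : G) ∈ ({1, t, v, v * t} : Set G) ∩ S := by
    intro v hv u
    rw [mem_stabilizer_iff, hsm, mul_inv_eq_iff_eq_mul]
    have hvt' : v * t = t * v := (memK.1 hv.1).1
    constructor
    · intro hu
      exact ⟨by simpa using hCS hv u u.2 hu, u.2⟩
    · rintro ⟨hu, -⟩
      simp only [Set.mem_insert_iff, Set.mem_singleton_iff] at hu
      rcases hu with e | e | e | e <;> rw [e]
      · simp
      · exact hvt'.symm
      · rw [mul_assoc, ← hvt']
  have horbOut : ∀ v ∈ Lam, v ∉ S → (orbit S v).ncard = 2 ^ (k + 2) := by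
    intro v hv hvS
    have hset : ({1, t, v, v * t} : Set G) ∩ S = {1, t} := by
      have hvtS : v * t ∉ S := fun hm => hvS (by simpa using mul_mem hm (inv_mem hts))
      ext u
      simp only [Set.mem_inter_iff, Set.mem_insert_iff, Set.mem_singleton_iff, SetLike.mem_coe]
      constructor
      · rintro ⟨rfl | rfl | rfl | rfl, hu⟩
        exacts [Or.inl rfl, Or.inr rfl, absurd hu hvS, absurd hu hvtS]
      · rintro (rfl | rfl)
        exacts [⟨Or.inl rfl, one_mem S⟩, ⟨Or.inr (Or.inl rfl), hts⟩]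
    have := horb v hv _ (fun u => by rw [hstab v hv u, hset])
      (by rw [← hset]; exact Set.inter_subset_right)
    rw [Set.ncard_pair ht1.symm, pow_succ] at this
    exact Nat.eq_of_mul_eq_mul_right (by norm_num) this
  have horbIn : ∀ v ∈ Lam, v ∈ S → (orbit S v).ncard = 2 ^ (k + 1) := by
    intro v hv hvS
    have hset : ({1, t, v, v * t} : Set G) ∩ S = {1, t, v, v * t} :=
      Set.inter_eq_left.2 (by
        rintro u (rfl | rfl | rfl | rfl)
        exacts [one_mem S, hts, hvS, mul_mem hvS hts])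
    have := horb v hv _ (fun u => by rw [hstab v hv u, hset])
      (by rw [← hset]; exact Set.inter_subset_right)
    rw [Set.ncard_insert_of_notMem, Set.ncard_insert_of_notMem, Set.ncard_pair] at this
    · rw [show 2 ^ (k + 3) = 2 ^ (k + 1) * 4 by ring] at this
      exact Nat.eq_of_mul_eq_mul_right (by norm_num) this
    · exact fun e => ht1 (mul_eq_left.1 e.symm)
    · simp only [Set.mem_insert_iff, Set.mem_singleton_iff, not_or]
      exact ⟨hv.2.2.2.1.symm, fun e => hv.2.2.1 (mul_eq_right.1 e.symm)⟩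
    · simp only [Set.mem_insert_iff, Set.mem_singleton_iff, not_or]
      exact ⟨ht1.symm, hv.2.2.1.symm, fun e => hv.2.2.2.1
        ((eq_inv_of_mul_eq_one_left e.symm).trans (inv_eq_of_mul_eq_one_right ht))⟩
  set LS := Lam ∩ (S : Set G) with hLS
  have hconjS : ∀ (v : G) (u : S), u • v ∈ S → v ∈ S := fun v u hm => by
    rw [hsm] at hm
    simpa [mul_assoc] using mul_mem (mul_mem (inv_mem u.2) hm) u.2
  have hout : 2 ^ (k + 2) ∣ (Lam \ (S : Set G)).ncard := by
    refine dvd_ncard_of_orbits (H := S) _ ?_ fun v hv => horbOut v hv.1 hv.2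
    rintro v ⟨hv, hvS⟩ u
    exact ⟨hinv v hv u, fun hm => hvS (hconjS v u hm)⟩
  have hinv' : ∀ v ∈ LS, ∀ u : S, u • v ∈ LS := by
    rintro v ⟨hv, hvS⟩ u
    exact ⟨hinv v hv u, mul_mem (mul_mem u.2 hvS) (inv_mem u.2)⟩
  have hin : 2 ^ (k + 1) ∣ LS.ncard :=
    dvd_ncard_of_orbits (H := S) _ hinv' fun v hv => horbIn v hv.1 hv.2
  obtain ⟨o', ho'⟩ := hin
  obtain ⟨q, hq⟩ := hout
  have hsum := Set.ncard_inter_add_ncard_sdiff_eq_ncard Lam (S : Set G)
  rw [← hLS, ho', hq, hLam2, show 2 ^ (k + 2) * q = 2 ^ (k + 1) * (2 * q) by ring, ← mul_add] at hsum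
  have ho'odd : o' % 2 = 1 := by
    have := Nat.eq_of_mul_eq_mul_left (by positivity) hsum
    omega
  obtain ⟨v, hvL⟩ : LS.Nonempty := by
    rw [← Set.ncard_pos, ho']
    exact Nat.mul_pos (by positivity) (by omega)
  -- there is a single class in `S`
  have ho'1 : o' = 1 := by
    by_contra hne
    have h3 : 3 ≤ o' := by omega
    set V2 := {y : G | y ∈ S ∧ (y * v = v * y ∨ y * v = v * t * y)} with hV2
    have hV8 : V2.ncard ≤ 8 := by
      have h4 : ∀ w : Set G, w = {y : G | y ∈ S ∧ y * v = v * y} → w.ncard ≤ 4 := by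
        rintro w rfl
        refine le_trans (Set.ncard_le_ncard (t := ({1, t, v, v * t} : Set G)) ?_) ?_
        · rintro y ⟨hy, hyv⟩
          simpa using hCS hvL.1 y hy hyv
        · refine (Set.ncard_insert_le _ _).trans ?_
          have := Set.ncard_insert_le t ({v, v * t} : Set G)
          have := Set.ncard_insert_le v ({v * t} : Set G)
          have := Set.ncard_singleton (v * t)
          omega
      by_cases hex : ∃ y₀ ∈ S, y₀ * v = v * t * y₀
      · obtain ⟨y₀, hy₀, hy₀v⟩ := hex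
        have hsub : V2 ⊆ {y : G | y ∈ S ∧ y * v = v * y} ∪
            (fun y => y₀ * y) '' {y : G | y ∈ S ∧ y * v = v * y} := by
          rintro y ⟨hy, e | e⟩
          · exact Or.inl ⟨hy, e⟩
          · refine Or.inr ⟨y₀⁻¹ * y, ⟨mul_mem (inv_mem hy₀) hy, ?_⟩, mul_inv_cancel_left _ _⟩
            calc y₀⁻¹ * y * v = y₀⁻¹ * (v * t * y) := by rw [mul_assoc, e]
              _ = y₀⁻¹ * (v * t * y₀) * y₀⁻¹ * y := by group
              _ = v * (y₀⁻¹ * y) := by rw [← hy₀v]; group
        refine (Set.ncard_le_ncard hsub).trans ((Set.ncard_union_le _ _).trans ?_)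
        have := Set.ncard_image_le (f := fun y => y₀ * y)
          (s := {y : G | y ∈ S ∧ y * v = v * y})
        have := h4 _ rfl
        omega
      · push Not at hex
        refine le_trans (Set.ncard_le_ncard (t := {y : G | y ∈ S ∧ y * v = v * y}) ?_) ((h4 _ rfl).trans (by norm_num))
        rintro y ⟨hy, e | e⟩
        · exact ⟨hy, e⟩
        · exact absurd e (hex y hy)
    have hsub : LS ∩ (fun y => v * y) '' LS ⊆ V2 := by
      rintro _ ⟨⟨hyL, hyS⟩, z, hz, rfl⟩
      refine ⟨hyS, Or.inl ?_⟩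
      have e1 : v * z * (v * z) = 1 := hyL.2.1
      have e2 : z * z = 1 := hz.1.2.1
      have hv2 := hvL.1.2.1
      have hzv : z * v = v * z := by
        calc z * v = (v * v) * (z * v) * (z * z) := by rw [hv2, e2, one_mul, mul_one]
          _ = v * (v * z * (v * z)) * z := by group
          _ = v * z := by rw [e1, mul_one]
      rw [mul_assoc, hzv]
    have h1 := Set.ncard_le_ncard (t := (S : Set G))
      (Set.union_subset (s := LS) (t := (fun y => v * y) '' LS) Set.inter_subset_right (by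
        rintro _ ⟨z, hz, rfl⟩; exact mul_mem hvL.2 hz.2))
    have h2 := Set.ncard_union_add_ncard_inter LS ((fun y => v * y) '' LS)
    rw [Set.ncard_image_of_injective _ (mul_right_injective v)] at h2
    have h3' := Set.ncard_le_ncard hsub
    rw [show (S : Set G).ncard = 2 ^ (k + 3) by
      rw [← Nat.card_coe_set_eq, SetLike.coe_sort_coe, hScard]] at h1
    have h5 : 2 ^ (k + 1) * 3 ≤ LS.ncard := ho' ▸ Nat.mul_le_mul_left _ h3
    have h6 : 2 ^ (k + 3) = 2 ^ (k + 1) * 4 := by ring
    have h7 : 8 ≤ 2 ^ (k + 1) :=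
      le_trans (by norm_num) (Nat.pow_le_pow_right (show 0 < 2 by norm_num) (show 3 ≤ k + 1 by omega))
    omega
  have hclass : LS = orbit S v := by
    symm
    refine Set.eq_of_subset_of_ncard_le ?_ ?_
    · rintro _ ⟨u, rfl⟩
      exact hinv' v hvL u
    · rw [horbIn v hvL.1 hvL.2, ho', ho'1, mul_one]
  -- contradiction in `S`
  refine no_two_group (S := S) (m := k + 1) (by omega) (by rw [hScard]) (t := ⟨t, hts⟩)
    (x := ⟨v, hvL.2⟩) (fun y => Subtype.ext (memK.1 (hSK y.2)).1) (Subtype.ext ht)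
    (fun e => ht1 (congrArg Subtype.val e)) (Subtype.ext hvL.1.2.1)
    (fun e => hvL.1.2.2.1 (congrArg Subtype.val e))
    (fun e => hvL.1.2.2.2.1 (congrArg Subtype.val e)) ?_ ?_
  · intro y hy
    simp only [Subtype.ext_iff]
    exact hCS hvL.1 y y.2 (congrArg Subtype.val hy)
  · intro y y' hsq hsq' hy1 hyt hy1' hyt' hn hn'
    simp only [Subtype.ext_iff, Subgroup.coe_mul, Subgroup.coe_one, ne_eq] at *
    have hnot : ∀ z : S, ¬ IsConj (⟨v, hvL.2⟩ : S) z → (z : G) ∉ Lam := fun z hz hzL => by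
      have : (z : G) ∈ orbit S v := hclass ▸ ⟨hzL, z.2⟩
      obtain ⟨u, hu⟩ := this
      exact hz (isConj_iff.2 ⟨u, Subtype.ext hu⟩)
    exact hrest y y' (hSK y.2) (hSK y'.2) hsq hsq' hy1 hyt hy1' hyt' (hnot y hn) (hnot y' hn')

end Cfsg.Agent.TwoPointA4LamOne15
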