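import Cfsg.Agent.Lib.TwoPointA4Bar15
import Cfsg.Agent.Lib.KleinFourBlock79
import Cfsg.Agent.Lib.KleinFourOrder79
import Cfsg.Agent.Lib.SchurBound79

/-!
Doubly transitive groups of odd degree with two-point stabilisers of order two and line number two
do not exist.
-/

set_option autoImplicit false
set_option linter.unusedSectionVars false

open MulAction

namespace Cfsg.Agent.TwoPointA4LamTwo15

open Cfsg.Agent.TwoPointA4Count15 Cfsg.Agent.TwoPointA4Bar15

variable {P : Type*} [Group P] [Fintype P] {β : Type*} [Fintype β] [MulAction P β]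

/-- An element centralising `s` and fixing `a` whose square is `1` or `s` lies in `⟨s, w⟩`. -/
theorem klein_of_sq (h : Two P β) {s w g : P} {a b : β} (hs : s ≠ 1) (hab : a ≠ b)
    (ha : s • a = a) (hb : s • b = b) (hw : IsLineInv β w) (hws : w * s = s * w)
    (hwa : w • a = a) (hne : w ≠ s) (hgs : g * s = s * g) (hga : g • a = a)
    (hgg : g * g = 1 ∨ g * g = s) : g = 1 ∨ g = s ∨ g = w ∨ g = w * s := by
  classical
  set C := Subgroup.centralizer ({s} : Set P) with hC
  set L : Set β := {x | s • x = x} with hL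
  have hK : ∀ k ∈ C, ∀ x ∈ L, k • x ∈ L := fun k hk x hx =>
    Two.line_smul (Subgroup.mem_centralizer_singleton_iff.1 hk) hx
  haveI : Fintype L := Fintype.ofFinite L
  haveI : Fintype (restrImage C L hK) := Fintype.ofFinite _
  have htr : PairTrans (restrImage C L hK) L :=
    restrImage_pairTrans hK fun p hp q hq p' hp' q' hq' hpq hpq' =>
      h.cent_trans hs hpq hpq' hp hq hp' hq'
  have hker : ∀ k : C, ∀ p q : L, p ≠ q → (k : P) • (p : β) = p → (k : P) • (q : β) = q →
      (k : P) = 1 ∨ (k : P) = s := fun k p q hpq hp hq => or_iff_not_imp_left.2 fun hk =>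
    h.uniq (p : β) q _ s (fun e => hpq (Subtype.ext e)) hk hs hp hq p.2 q.2
  have hsharp : ∀ (k : restrImage C L hK) (p q : L), p ≠ q → k • p = p → k • q = q → k = 1 := by
    intro k p q hpq hp hq
    obtain ⟨k, rfl⟩ := toImage_surjective C L hK k
    rw [toImage_eq_one_iff]
    intro x hx
    rcases hker k p q hpq ((toImage_fix_iff k p).1 hp) ((toImage_fix_iff k q).1 hq) with e | e <;>
      rw [e]
    exacts [one_smul P x, hx]
  have hpair : ∀ k : C, toImage C L hK k = 1 → (k : P) = 1 ∨ (k : P) = s := fun k hk =>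
    hker k ⟨a, ha⟩ ⟨b, hb⟩ (fun e => hab (congrArg Subtype.val e))
      ((toImage_eq_one_iff k).1 hk a ha) ((toImage_eq_one_iff k).1 hk b hb)
  set gC : C := ⟨g, Subgroup.mem_centralizer_singleton_iff.2 hgs⟩ with hgC
  set wC : C := ⟨w, Subgroup.mem_centralizer_singleton_iff.2 hws⟩ with hwC
  by_cases hg1 : toImage C L hK gC = 1
  · rcases hpair gC hg1 with e | e
    exacts [Or.inl e, Or.inr (Or.inl e)]
  have hgsq : toImage C L hK gC * toImage C L hK gC = 1 := by
    rw [← map_mul, toImage_eq_one_iff]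
    intro x hx
    show (g * g) • x = x
    rcases hgg with e | e <;> rw [e]
    exacts [one_smul P x, hx]
  have hwsq : toImage C L hK wC * toImage C L hK wC = 1 := by
    rw [← map_mul, toImage_eq_one_iff]
    intro x _
    show (w * w) • x = x
    rw [h.lineInv_sq hw, one_smul]
  have hw1 : toImage C L hK wC ≠ 1 := fun e => by
    rcases hpair wC e with e' | e'
    exacts [hw.1 e', hne e']
  have key := sharp_unique htr hsharp (a := (⟨a, ha⟩ : L)) (b := ⟨b, hb⟩)
    (fun e => hab (congrArg Subtype.val e)) hgsq hg1 ((toImage_fix_iff gC _).2 hga) hwsq hw1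
    ((toImage_fix_iff wC _).2 hwa)
  have h1 : toImage C L hK (wC⁻¹ * gC) = 1 := by rw [map_mul, map_inv, key, inv_mul_cancel]
  rcases hpair _ h1 with e | e <;>
    replace e : w⁻¹ * g = _ := e
  · exact Or.inr (Or.inr (Or.inl (inv_mul_eq_one.1 e).symm))
  · exact Or.inr (Or.inr (Or.inr (inv_mul_eq_iff_eq_mul.1 e)))

theorem card_P (h : Two P β) {s : P} {a b : β} (hs : s ≠ 1) (hab : a ≠ b) (ha : s • a = a)
    (hb : s • b = b) :
    Nat.card P = Fintype.card β * ((Fintype.card β - 1) * 2) := by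
  classical
  have h2 : Nat.card ↥(stabilizer P a) = (Fintype.card β - 1) * 2 := by
    rw [card_eq_of_transOn (stabilizer P a) {x : β | x ≠ a} (x := b) hab.symm ?_ ?_,
      h.pairStab_card hs hab ha hb]
    · congr 1
      rw [Nat.card_coe_set_eq, Set.ncard_eq_toFinset_card']
      have : ({x : β | x ≠ a} : Set β).toFinset = Finset.univ.erase a := by ext x; simp
      rw [this, Finset.card_erase_of_mem (Finset.mem_univ a), Finset.card_univ]
    · intro k hk e
      exact hab.symm ((smul_left_cancel_iff k).1 (e.trans (mem_stabilizer_iff.1 hk).symm))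
    · intro y hy
      obtain ⟨g, hga, hgb⟩ := h.trans a b a y hab (Ne.symm hy)
      exact ⟨g, hga, hgb⟩
  have h1 := card_eq_of_transOn (⊤ : Subgroup P) (Set.univ : Set β) (x := a) (Set.mem_univ _)
    (fun _ _ => Set.mem_univ _) fun y _ => by
      by_cases hy : y = a
      · exact ⟨1, Subgroup.mem_top _, by rw [one_smul, hy]⟩
      obtain ⟨g, hga, -⟩ := h.trans a b y a hab hy
      exact ⟨g, Subgroup.mem_top _, hga⟩
  rw [Subgroup.card_top, top_inf_eq, h2, Nat.card_coe_set_eq, Set.ncard_univ,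
    Nat.card_eq_fintype_card (α := β)] at h1
  exact h1

set_option maxHeartbeats 1600000 in
/-- The line number two is impossible in odd degree. -/
theorem no_lambda_two (h : Two P β) (hodd : Odd (Fintype.card β)) {s : P} {a b : β} (hs : s ≠ 1)
    (hab : a ≠ b) (ha : s • a = a) (hb : s • b = b)
    (hlam : Fintype.card β - fx β s = 2 * (fx β s * (fx β s - 1))) : False := by
  classical
  haveI := Fact.mk Nat.prime_two
  set n := Fintype.card β with hn
  set c := fx β s with hcdef
  have hss := h.sq hab ha hb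
  have hc2 : 2 ≤ c := one_lt_fx hab ha hb
  have hcn : c < n := moved_lt h.faithful hs
  have hc3 : Odd c := by
    obtain ⟨k, hk⟩ := hodd
    refine Nat.odd_iff.2 ?_
    have h2 : (n - c) % 2 = 0 := by rw [hlam]; omega
    omega
  have hc : 3 ≤ c := by
    obtain ⟨k, hk⟩ := hc3
    omega
  -- every involution is a line involution, and all are conjugate
  obtain ⟨lam, -, hl2, hall, -, -⟩ := h.counts hab hs ha hb
  have hlam2 : lam = 2 := by
    have e : lam * (c * (c - 1)) = 2 * (c * (c - 1)) := hl2.symm.trans hlam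
    exact Nat.eq_of_mul_eq_mul_right (Nat.mul_pos (by omega) (by omega)) e
  have hline : ∀ z : P, z * z = 1 → z ≠ 1 → IsLineInv β z := fun z hz hz1 =>
    ⟨hz1, exists_pair_of_one_lt_fx (hall hlam2 z hz hz1)⟩
  have hone : ∀ z z' : P, orderOf z = 2 → orderOf z' = 2 → IsConj z z' := by
    intro z z' hz hz'
    have aux : ∀ z : P, orderOf z = 2 → IsLineInv β z := fun z hz => by
      refine hline z ?_ fun e => by simp [e] at hz
      rw [← pow_two, ← hz]; exact pow_orderOf_eq_one z
    obtain ⟨hz1, p, q, hpq, hp, hq⟩ := aux z hz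
    obtain ⟨hz1', p', q', hpq', hp', hq'⟩ := aux z' hz'
    obtain ⟨g, hgp, hgq⟩ := h.trans p q p' q' hpq hpq'
    exact isConj_iff.2 ⟨g, h.conj_eq hz1 hz1' hpq hp hq hp' hq' hgp hgq⟩
  -- the two involutions crossing `s` at `a`
  obtain ⟨hcross, hne⟩ := h.crossing_card hs hab ha hb hlam
  obtain ⟨w, hw, hws, hwa, hwne⟩ := hne hodd
  have hww : w * w = 1 := h.lineInv_sq hw
  set sw := w * s with hsw
  have hswsw : sw * sw = 1 := by
    rw [hsw, (show Commute s w from hws.symm).mul_mul_mul_comm, hww, hss, one_mul]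
  have hsw1 : sw ≠ 1 := fun e => hwne (by
    rw [eq_inv_of_mul_eq_one_left e, inv_eq_of_mul_eq_one_right hss])
  have hcset : crossing β s a = {w, sw} := by
    refine (Set.eq_of_subset_of_ncard_le ?_ ?_ (Set.toFinite _)).symm
    · rintro x (rfl | rfl)
      · exact ⟨hw, hws, hwa, hwne⟩
      · exact ⟨hline _ hswsw hsw1, ((show Commute w s from hws).mul_left (Commute.refl s)).eq,
          by rw [hsw, mul_smul, ha, hwa], fun e => hw.1 (mul_eq_right.1 e)⟩
    · rw [Set.ncard_pair (fun e => hs (mul_eq_left.1 e.symm))]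
      exact hcross
  -- the centraliser of `s` fixing `a`
  set Ca := Subgroup.centralizer ({s} : Set P) ⊓ stabilizer P a with hCa
  have hCac : Nat.card Ca = (c - 1) * 2 := h.card_cent_stab hs hab ha hb
  have hmemCa : ∀ {g : P}, g ∈ Ca → g * s = s * g ∧ g • a = a := fun hg =>
    ⟨Subgroup.mem_centralizer_singleton_iff.1 hg.1, hg.2⟩
  have hkl : ∀ g ∈ Ca, (g * g = 1 ∨ g * g = s) → g = 1 ∨ g = s ∨ g = w ∨ g = sw :=
    fun g hg hgg => klein_of_sq h hs hab ha hb hw hws hwa hwne (hmemCa hg).1 (hmemCa hg).2 hgg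
  -- first step
  have hc43 : c % 4 = 3 := by
    by_contra hne4
    obtain ⟨k, hk⟩ := hc3
    have h8 : 2 ^ 3 ∣ Nat.card Ca := by
      rw [hCac]
      exact ⟨(c - 1) / 4, by omega⟩
    obtain ⟨S, hS⟩ := Sylow.exists_subgroup_card_pow_prime (G := Ca) 2 h8
    obtain ⟨q, hqS, hq⟩ : ∃ q ∈ S, ¬ (((q : P) * q = 1) ∨ ((q : P) * q = s)) := by
      by_contra hcon
      push Not at hcon
      have hsub : ((fun x : Ca => (x : P)) '' (S : Set Ca)) ⊆ ({1, s, w, sw} : Set P) := by
        rintro _ ⟨x, hx, rfl⟩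
        have := hkl x x.2 (hcon x hx)
        simpa using this
      have h4 : ({1, s, w, sw} : Set P).ncard ≤ 4 := by
        refine (Set.ncard_insert_le _ _).trans ?_
        refine (Nat.add_le_add_right (Set.ncard_insert_le _ _) _).trans ?_
        refine (Nat.add_le_add_right (Nat.add_le_add_right (Set.ncard_insert_le _ _) _) _).trans ?_
        rw [Set.ncard_singleton]
      have := (Set.ncard_le_ncard hsub (Set.toFinite _)).trans h4
      rw [Set.ncard_image_of_injective _ Subtype.val_injective, ← Nat.card_coe_set_eq,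
        SetLike.coe_sort_coe, hS] at this
      norm_num at this
    -- climb to an element of order four modulo `s`
    have hex : ∃ j : ℕ, (q : P) ^ 2 ^ j = 1 ∨ (q : P) ^ 2 ^ j = s := ⟨3, Or.inl (by
      have h1 := pow_card_eq_one' (x := (⟨q, hqS⟩ : S))
      rw [hS] at h1
      exact congrArg Subtype.val (congrArg Subtype.val h1))⟩
    have hmin := Nat.find_spec hex
    have hlow : ∀ j, j ≤ 1 → ¬ ((q : P) ^ 2 ^ j = 1 ∨ (q : P) ^ 2 ^ j = s) := by
      intro j hj hbad
      interval_cases j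
      · apply hq
        rw [pow_zero, pow_one] at hbad
        rcases hbad with e | e <;> rw [e]
        exacts [Or.inl (one_mul 1), Or.inl hss]
      · exact hq (by rwa [pow_one, pow_two] at hbad)
    obtain ⟨j, hj⟩ : ∃ j, Nat.find hex = j + 2 := by
      refine ⟨Nat.find hex - 2, ?_⟩
      have h2 : 2 ≤ Nat.find hex := by
        by_contra h'
        exact hlow (Nat.find hex) (by omega) hmin
      omega
    set r := (q : P) ^ 2 ^ j with hr
    set u := r * r with hu
    have hrC : r ∈ Ca := pow_mem q.2 _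
    have hu_eq : u = (q : P) ^ 2 ^ (j + 1) := by rw [hu, hr, ← pow_add, pow_succ, mul_two]
    have huu : u * u = 1 ∨ u * u = s := by
      rw [hu_eq, ← pow_add, ← mul_two, ← pow_succ]
      rwa [hj] at hmin
    have hnu := Nat.find_min hex (show j + 1 < Nat.find hex by omega)
    rw [← hu_eq, not_or] at hnu
    have huwsw : u = w ∨ u = sw := by
      rcases hkl u (mul_mem hrC hrC) huu with e | e | e | e
      exacts [absurd e hnu.1, absurd e hnu.2, Or.inl e, Or.inr e]
    have hucr : u ∈ crossing β s a := by rw [hcset]; exact huwsw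
    obtain ⟨huline, hus, hua, hune⟩ := hucr
    obtain ⟨b', hb', hab'⟩ : ∃ b', u • b' = b' ∧ a ≠ b' := by
      obtain ⟨-, p, q', hpq, hp, hq'⟩ := huline
      by_cases hap : a = p
      · exact ⟨q', hq', fun e => hpq (hap.symm.trans e)⟩
      · exact ⟨p, hp, hap⟩
    have hsline : IsLineInv β s := ⟨hs, a, b, hab, ha, hb⟩
    have := klein_of_sq h huline.1 hab' hua hb' hsline hus.symm ha hune.symm (g := r)
      (by rw [hu, mul_assoc]) (hmemCa hrC).2 (Or.inr rfl)
    rcases this with e | e | e | e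
    · exact hnu.1 (by rw [hu, e, one_mul])
    · exact hnu.1 (by rw [hu, e]; exact h.lineInv_sq huline)
    · exact hnu.1 (by rw [hu, e, hss])
    · refine hnu.1 ?_
      rw [hu, e, (show Commute u s from hus).mul_mul_mul_comm, hss, h.lineInv_sq huline, one_mul]
  -- the Sylow subgroup
  have hsi : s⁻¹ = s := inv_eq_of_mul_eq_one_right hss
  have hwi : w⁻¹ = w := inv_eq_of_mul_eq_one_right hww
  let E : Subgroup P :=
    { carrier := {1, s, w, sw}
      one_mem' := by simp
      mul_mem' := by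
        intro x y hx hy
        have hsws : s * w = sw := hws.symm
        have e1 : s * sw = w := by rw [← hsws, ← mul_assoc, hss, one_mul]
        have e2 : sw * s = w := by rw [hsw, mul_assoc, hss, mul_one]
        have e3 : w * sw = s := by rw [hsw, ← mul_assoc, hww, one_mul]
        have e4 : sw * w = s := by rw [← hsws, mul_assoc, hww, mul_one]
        simp only [Set.mem_insert_iff, Set.mem_singleton_iff] at hx hy ⊢
        rcases hx with rfl | rfl | rfl | rfl <;> rcases hy with rfl | rfl | rfl | rfl <;>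
          simp [hss, hww, hswsw, hsws, e1, e2, e3, e4, ← hsw]
      inv_mem' := by
        intro x hx
        simp only [Set.mem_insert_iff, Set.mem_singleton_iff] at hx ⊢
        rcases hx with rfl | rfl | rfl | rfl <;>
          simp [hsi, hwi, inv_eq_of_mul_eq_one_right hswsw] }
  have hmemE : ∀ {x : P}, x ∈ E ↔ x = 1 ∨ x = s ∨ x = w ∨ x = sw := fun {x} => by
    show x ∈ ({1, s, w, sw} : Set P) ↔ _
    simp
  have hE4 : Nat.card E = 4 := by
    have h1 : ({1, s, w, sw} : Set P).ncard = 4 := by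
      rw [Set.ncard_insert_of_notMem, Set.ncard_insert_of_notMem, Set.ncard_pair]
      · exact fun e => hs (mul_eq_left.1 e.symm)
      · simp only [Set.mem_insert_iff, Set.mem_singleton_iff, not_or]
        exact ⟨hwne.symm, fun e => hw.1 (mul_eq_right.1 e.symm)⟩
      · simp only [Set.mem_insert_iff, Set.mem_singleton_iff, not_or]
        exact ⟨hs.symm, hw.1.symm, hsw1.symm⟩
    rw [← SetLike.coe_sort_coe, Nat.card_coe_set_eq]
    exact h1
  obtain ⟨k, hk⟩ : ∃ k, c = 4 * k + 3 := ⟨c / 4, by omega⟩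
  have hc1 : c - 1 = 4 * k + 2 := by omega
  have hn' : n = c + 2 * (c * (c - 1)) := by omega
  have hn1 : n - 1 = (c - 1) * (2 * c + 1) := by
    have e : (c - 1) * (2 * c + 1) + 1 = n := by
      rw [hn', hc1, hk]; ring
    omega
  have hcardP : Nat.card P = n * ((n - 1) * 2) := card_P h hs hab ha hb
  obtain ⟨g₀, hg₀, hP4g⟩ : ∃ g₀, Odd g₀ ∧ Nat.card P = 4 * g₀ := by
    refine ⟨n * ((2 * k + 1) * (2 * c + 1)),
      Nat.odd_mul.2 ⟨hodd, Nat.odd_mul.2 ⟨⟨k, rfl⟩, ⟨c, rfl⟩⟩⟩, ?_⟩
    rw [hcardP, hn1, hc1]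
    ring
  have hEP : IsPGroup 2 E := IsPGroup.of_card (n := 2) (by rw [hE4]; rfl)
  have hidx : ¬ 2 ∣ E.index := by
    have := Subgroup.card_mul_index E
    rw [hE4, hP4g] at this
    obtain ⟨k', hk'⟩ := hg₀
    omega
  set Sy : Sylow 2 P := hEP.toSylow hidx with hSy
  have hSy4 : Nat.card Sy = 4 := hE4
  have hexp : ∀ x : Sy, x * x = 1 := by
    intro x
    refine Subtype.ext ?_
    show (x : P) * x = 1
    rcases hmemE.1 (show (x : P) ∈ E from x.2) with e | e | e | e <;> rw [e]
    exacts [one_mul 1, hss, hww, hswsw]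
  have hsSy : s ∈ (Sy : Subgroup P) := show s ∈ E from hmemE.2 (Or.inr (Or.inl rfl))
  have hs2 : orderOf s = 2 := orderOf_eq_prime (by rw [pow_two, hss]) hs
  -- the centraliser of the Sylow subgroup
  set CE := Subgroup.centralizer ((Sy : Subgroup P) : Set P) with hCE
  have hCEle : CE ≤ Ca := by
    intro g hg
    have hgs : g * s = s * g := (Subgroup.mem_centralizer_iff.1 hg s hsSy).symm
    have hgw : g * w = w * g := (Subgroup.mem_centralizer_iff.1 hg w
      (show w ∈ E from hmemE.2 (Or.inr (Or.inr (Or.inl rfl))))).symm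
    refine ⟨Subgroup.mem_centralizer_singleton_iff.2 hgs, mem_stabilizer_iff.2 ?_⟩
    by_contra hga
    exact hwne (h.uniq a (g • a) w s (Ne.symm hga) hw.1 hs hwa (Two.line_smul hgw hwa) ha
      (Two.line_smul hgs ha))
  have hCEiff : ∀ g ∈ Ca, g * w * g⁻¹ = w → g ∈ CE := by
    intro g hg hgw
    have c1 : Commute g s := (hmemCa hg).1
    have c2 : Commute g w := mul_inv_eq_iff_eq_mul.1 hgw
    refine Subgroup.mem_centralizer_iff.2 fun x hx => ?_
    rcases hmemE.1 (show x ∈ E from hx) with e | e | e | e <;> rw [e]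
    exacts [(Commute.one_left g).eq, c1.symm.eq, c2.symm.eq, (c2.mul_right c1).symm.eq]
  have hmove : ∀ g ∈ Ca, g * w * g⁻¹ = w ∨ g * w * g⁻¹ = sw := by
    intro g hg
    have hm : g * w * g⁻¹ ∈ crossing β s a := by
      have c1 : Commute g s := (hmemCa hg).1
      refine ⟨isLineInv_conj hw g, ((c1.mul_left hws).mul_left c1.inv_left).eq, ?_, fun e => hwne ?_⟩
      · have hga := (hmemCa hg).2
        rw [mul_smul, mul_smul, inv_smul_eq_iff.2 hga.symm, hwa, hga]
      · calc w = g⁻¹ * (g * w * g⁻¹) * g := by group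
          _ = s := by rw [e, mul_assoc, ← c1.eq, inv_mul_cancel_left]
    rw [hcset] at hm
    exact hm
  have hCEc : Nat.card CE = (c - 1) * 2 := by
    refine le_antisymm (hCac ▸ Subgroup.card_le_of_le hCEle) ?_
    have hEle : E ≤ CE := fun x hx => Subgroup.mem_centralizer_iff.2 fun y hy => by
      haveI : IsMulCommutative Sy :=
        IsPGroup.isMulCommutative_of_card_eq_prime_sq (p := 2) (by rw [hSy4]; rfl)
      exact congrArg Subtype.val (mul_comm' (⟨y, hy⟩ : Sy) ⟨x, hx⟩)
    have h4 : 4 ∣ Nat.card CE := hE4 ▸ Subgroup.card_dvd_of_le hEle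
    have hdvd := Subgroup.card_dvd_of_le hCEle
    rw [hCac] at hdvd
    have hle : Nat.card Ca ≤ 2 * Nat.card CE := by
      by_cases hmv : ∃ g₁ ∈ Ca, g₁ * w * g₁⁻¹ = sw
      · obtain ⟨g₁, hg₁, e₁⟩ := hmv
        have hsub : (Ca : Set P) ⊆ (CE : Set P) ∪ (fun x => g₁ * x) '' (CE : Set P) := by
          intro g hg
          rcases hmove g hg with e | e
          · exact Or.inl (hCEiff g hg e)
          · refine Or.inr ⟨g₁⁻¹ * g, hCEiff _ (mul_mem (inv_mem hg₁) hg) ?_, mul_inv_cancel_left _ _⟩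
            rw [show g₁⁻¹ * g * w * (g₁⁻¹ * g)⁻¹ = g₁⁻¹ * (g * w * g⁻¹) * g₁ by group, e, ← e₁]
            group
        have h1 := (Set.ncard_le_ncard hsub (Set.toFinite _)).trans (Set.ncard_union_le _ _)
        have h2 : ((fun x => g₁ * x) '' (CE : Set P)).ncard ≤ (CE : Set P).ncard :=
          Set.ncard_image_le (Set.toFinite _)
        rw [← Nat.card_coe_set_eq, SetLike.coe_sort_coe] at h1
        rw [← Nat.card_coe_set_eq (CE : Set P), SetLike.coe_sort_coe] at h1 h2
        omega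
      · push Not at hmv
        have : Ca ≤ CE := fun g hg => hCEiff g hg ((hmove g hg).resolve_right (hmv g hg))
        have := Subgroup.card_le_of_le this
        omega
    rw [hCac] at hle
    obtain ⟨e, he⟩ := hdvd
    rcases Nat.lt_or_ge e 2 with he2 | he2
    · interval_cases e <;> omega
    · exfalso
      have : Nat.card CE * 2 ≤ Nat.card CE * e := Nat.mul_le_mul_left _ he2
      obtain ⟨f, hf⟩ := h4
      omega
  have hCs : Nat.card ↥(Subgroup.centralizer ({s} : Set P)) = c * ((c - 1) * 2) :=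
    h.card_cent hs hab ha hb
  -- characters of the principal two-block
  obtain ⟨M, hM⟩ := SchurBound79.exists_modular 2 Nat.prime_two
  obtain ⟨ζ₂, ζ₃, ζ₄, ε, hε, h21, h31, h23, h24, h34, hB, hval, d2, d3, d4, -⟩ :=
    KleinFourBlock79.main hM hSy4 hexp hsSy hs2 hone
  obtain ⟨v2, v3, v4⟩ := hval s hs2
  have h41 : (ζ₄ : P → ℂ) ≠ fun _ => 1 := fun e => by
    rw [e] at v4; norm_num at v4
  have hdist : (ζ₂ : P → ℂ) ≠ (fun _ => 1) ∧ (ζ₃ : P → ℂ) ≠ (fun _ => 1) ∧
      (ζ₄ : P → ℂ) ≠ (fun _ => 1) ∧ ζ₂ ≠ ζ₃ ∧ ζ₂ ≠ ζ₄ ∧ ζ₃ ≠ ζ₄ := ⟨h21, h31, h41, h23, h24, h34⟩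
  have hεs : ((1 : ℤ) = 1 ∨ (1 : ℤ) = -1) ∧ (ε = 1 ∨ ε = -1) ∧ ((-1 : ℤ) = 1 ∨ (-1 : ℤ) = -1) :=
    ⟨Or.inl rfl, hε, Or.inr rfl⟩
  have hvals : (ζ₂ : P → ℂ) s = ((1 : ℤ) : ℂ) ∧ (ζ₃ : P → ℂ) s = (ε : ℂ) ∧
      (ζ₄ : P → ℂ) s = ((-1 : ℤ) : ℂ) := ⟨by rw [v2]; simp, v3, by rw [v4]; simp⟩
  obtain ⟨hw0, hrel⟩ := KleinFourOrder79.relations hM hSy4 hexp hsSy hs2 hone hB hdist hεs hvals
  rcases hε with rfl | rfl
  · -- the projective special linear shape
    obtain ⟨m, hm1, hm2⟩ := KleinFourOrder79.psl_shape hM hSy4 hexp hsSy hs2 hB hdist hεs hvals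
      (by norm_num) rfl hw0 hrel
    rw [hCs, hCEc] at hm1
    rw [hcardP, hCEc, hn1, hn'] at hm2
    set q := Cfsg.charDegree (ζ₄ : P → ℂ) with hq
    obtain ⟨y, hy⟩ : ∃ y, q + 1 = 4 * y := by
      obtain ⟨t, ht⟩ := d4
      exact ⟨t.toNat, by omega⟩
    have hc1pos : 0 < c - 1 := by omega
    have hcm : c = m * y := by
      refine Nat.eq_of_mul_eq_mul_right (show 0 < 8 * (c - 1) by omega) ?_
      rw [hy] at hm1
      calc c * (8 * (c - 1)) = 4 * (c * ((c - 1) * 2)) := by ring
        _ = m * ((c - 1) * 2) * (4 * y) := hm1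
        _ = m * y * (8 * (c - 1)) := by ring
    have hy0 : 1 ≤ y := by omega
    have hqlt : q ≤ q ^ 3 := Nat.le_self_pow (by norm_num) q
    have hm1' : 1 ≤ m := by
      rcases Nat.eq_zero_or_pos m with rfl | hm
      · simp at hcm; omega
      · exact hm
    -- pass to the integers
    have hz : ((4 * y - 6) * y + 1 : ℤ) * ((m : ℤ) ^ 2) = -1 := by
      have e2 := congrArg (fun t : ℕ => (t : ℤ)) hm2
      simp only [Nat.cast_mul, Nat.cast_add, Nat.cast_pow, Nat.cast_ofNat, Nat.cast_sub hqlt,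
        Nat.cast_sub (show 1 ≤ c by omega), Nat.cast_one] at e2
      have eq' : (q : ℤ) = 4 * (y : ℤ) - 1 := by omega
      have ec : (c : ℤ) = (m : ℤ) * y := by exact_mod_cast hcm
      have h0 : ((c : ℤ) - 1) ≠ 0 := by omega
      have hm0 : (m : ℤ) ≠ 0 := by omega
      have hy' : (y : ℤ) ≠ 0 := by omega
      refine mul_left_cancel₀ (mul_ne_zero (mul_ne_zero (mul_ne_zero (show (16 : ℤ) ≠ 0 by norm_num)
        h0) hm0) hy') ?_
      rw [eq', ec] at e2
      rw [ec]
      linear_combination (-1 : ℤ) * e2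
    have hm_one : m = 1 := by
      have hd : (m : ℤ) ^ 2 ∣ 1 := dvd_neg.1 ⟨(4 * y - 6) * y + 1, by rw [← hz]; ring⟩
      have hd' : m ^ 2 ∣ 1 := by exact_mod_cast hd
      exact (pow_eq_one_iff.1 (Nat.eq_one_of_dvd_one hd')).resolve_right (by norm_num)
    subst hm_one
    have : (y : ℤ) = 1 := by
      simp only [Nat.cast_one, one_pow, mul_one] at hz
      have hz' : ((y : ℤ) - 1) * (4 * y - 2) = 0 := by linear_combination hz
      rcases mul_eq_zero.1 hz' with e | e <;> omega
    omega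
  · -- the other sign
    have p1 := CharAverage.irr_degree_pos ζ₂
    have p2 := CharAverage.irr_degree_pos ζ₃
    have p3 := CharAverage.irr_degree_pos ζ₄
    set x1 := Cfsg.charDegree (ζ₂ : P → ℂ) with hx1
    set x2 := Cfsg.charDegree (ζ₃ : P → ℂ) with hx2
    set x3 := Cfsg.charDegree (ζ₄ : P → ℂ) with hx3
    have b2 : 3 ≤ x2 := by omega
    have b3 : 3 ≤ x3 := by omega
    have b1 : 5 ≤ x1 := by omega
    rw [hCs, hCEc, hcardP, hn1, hn'] at hrel
    push_cast [Nat.cast_sub (show 1 ≤ c by omega)] at hrel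
    have hkey : (4 * (c : ℤ) ^ 2 - 1) * (((x1 : ℤ) + 1) * ((x2 : ℤ) - 1) * ((x3 : ℤ) - 1))
        = 8 * (c : ℤ) ^ 2 * ((x1 : ℤ) * x2 * x3) := by
      refine mul_left_cancel₀ (show (8 * (c : ℤ) * ((c : ℤ) - 1) ^ 3) ≠ 0 from
        mul_ne_zero (by omega) (pow_ne_zero 3 (by omega))) ?_
      linear_combination hrel
    have hX : ((x1 : ℤ) + 1) * ((x2 : ℤ) - 1) * ((x3 : ℤ) - 1) < 2 * ((x1 : ℤ) * x2 * x3) := by
      have t1 : ((x2 : ℤ) - 1) * ((x3 : ℤ) - 1) < (x2 : ℤ) * x3 := by nlinarith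
      have t2 : ((x1 : ℤ) + 1) ≤ 2 * (x1 : ℤ) := by omega
      calc ((x1 : ℤ) + 1) * ((x2 : ℤ) - 1) * ((x3 : ℤ) - 1)
          = ((x1 : ℤ) + 1) * (((x2 : ℤ) - 1) * ((x3 : ℤ) - 1)) := by ring
        _ < ((x1 : ℤ) + 1) * ((x2 : ℤ) * x3) := mul_lt_mul_of_pos_left t1 (by omega)
        _ ≤ 2 * (x1 : ℤ) * ((x2 : ℤ) * x3) :=
            mul_le_mul_of_nonneg_right t2 (by positivity)
        _ = _ := by ring
    have hc2' : (0 : ℤ) < 4 * (c : ℤ) ^ 2 := by positivity
    have hA : (0 : ℤ) ≤ ((x1 : ℤ) + 1) * ((x2 : ℤ) - 1) * ((x3 : ℤ) - 1) :=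
      mul_nonneg (mul_nonneg (by omega) (by omega)) (by omega)
    nlinarith [mul_lt_mul_of_pos_left hX hc2']

end Cfsg.Agent.TwoPointA4LamTwo15
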