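import Cfsg.Agent.Lib.TwoPointA4Ctx15
import Cfsg.Agent.Lib.TwoPointA4Iso15

/-!
Doubly transitive groups with two-point stabiliser alternating of degree four, odd degree, no
involution with exactly one fixed point: the centralizer of a four group.
-/

set_option autoImplicit false
set_option linter.unusedSectionVars false

open MulAction

namespace Cfsg.Agent.TwoPointA4Odd15

open Cfsg Cfsg.Agent.TwoPointA4Count15 Cfsg.Agent.TwoPointA4Bar15 Cfsg.Agent.TwoPointA4Ctx15

variable {G : Type*} [Group G] [Fintype G] {Ω : Type*} [Fintype Ω] [MulAction G Ω]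

/-- The setwise stabiliser. -/
def setStab (G : Type*) [Group G] {Ω : Type*} [MulAction G Ω] (L : Set Ω) : Subgroup G where
  carrier := {g | ∀ x, g • x ∈ L ↔ x ∈ L}
  one_mem' := fun x => by rw [one_smul]
  mul_mem' := fun {g k} hg hk x => by rw [mul_smul]; exact (hg _).trans (hk x)
  inv_mem' := fun {g} hg x => by
    conv_rhs => rw [← smul_inv_smul g x]
    exact (hg _).symm

theorem mem_setStab {L : Set Ω} {g : G} : g ∈ setStab G L ↔ ∀ x, g • x ∈ L ↔ x ∈ L := Iff.rfl

theorem mem_setStab_of (h : Setup G Ω) {a b p q : Ω} {g : G} (hab : a ≠ b) (hpq : p ≠ q)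
    (hp : p ∈ line G a b) (hq : q ∈ line G a b) (hgp : g • p ∈ line G a b)
    (hgq : g • q ∈ line G a b) : g ∈ setStab G (line G a b) := by
  intro x
  have h1 : line G (g • p) (g • q) = line G a b :=
    h.line_eq hab hgp hgq fun e => hpq ((smul_left_cancel_iff g).1 e)
  have h2 : line G p q = line G a b := h.line_eq hab hp hq hpq
  have h3 := smul_mem_line_iff (G := G) (p := p) (q := q) (x := x) g
  rw [h1, h2] at h3
  exact h3

/-- An element of the four group other than `1` and `t` fixes exactly the line on `Fix t`. -/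
theorem line_of_fix_two (h : Setup G Ω) {a b x : Ω} {t v : G} (hab : a ≠ b) (htV : t ∈ Vfin G a b)
    (ht1 : t ≠ 1) (hvV : v ∈ Vfin G a b) (hv1 : v ≠ 1) (hvt : v ≠ t) (htx : t • x = x)
    (hvx : v • x = x) : x ∈ line G a b := by
  intro g hg
  rcases h.Vfin_eq_quad hab htV ht1 hvV hv1 (Ne.symm hvt) hg with rfl | rfl | rfl | rfl
  · exact one_smul _ _
  · exact htx
  · exact hvx
  · rw [mul_smul, hvx, htx]

/-- The fixed points of the image of such an element. -/
theorem bar_line_card (h : Setup G Ω) {a b : Ω} {t v : G} (hab : a ≠ b) (htV : t ∈ Vfin G a b)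
    (ht1 : t ≠ 1) (hvV : v ∈ Vfin G a b) (hv1 : v ≠ 1) (hvt : v ≠ t)
    (hvc : v ∈ Subgroup.centralizer ({t} : Set G)) [Fintype (fixSet Ω t)] :
    fx (fixSet Ω t) (toBar Ω t ⟨v, hvc⟩) = (lineFin G a b).card := by
  classical
  rw [fx]
  refine Finset.card_bij (fun y _ => (y : Ω)) ?_ ?_ ?_
  · intro y hy
    simp only [Finset.mem_filter, Finset.mem_univ, true_and] at hy
    exact mem_lineFin.2 (line_of_fix_two h hab htV ht1 hvV hv1 hvt y.2 (congrArg Subtype.val hy))
  · intro y _ y' _ e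
    exact Subtype.ext e
  · intro x hx
    refine ⟨⟨x, mem_lineFin.1 hx t htV⟩, ?_, rfl⟩
    simp only [Finset.mem_filter, Finset.mem_univ, true_and]
    exact Subtype.ext (mem_lineFin.1 hx v hvV)

theorem exists_other (h : Setup G Ω) {a b : Ω} (hab : a ≠ b) (t : G) :
    ∃ v ∈ Vfin G a b, v ≠ 1 ∧ v ≠ t := by
  classical
  obtain ⟨v, hv, hv'⟩ := Finset.exists_mem_notMem_of_card_lt_card
    (s := ({1, t} : Finset G)) (t := Vfin G a b)
    (lt_of_le_of_lt Finset.card_le_two (by rw [h.Vfin_card hab]; norm_num))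
  simp only [Finset.mem_insert, Finset.mem_singleton, not_or] at hv'
  exact ⟨v, hv, hv'⟩

theorem odd_fx {β : Type*} [Fintype β] [MulAction G β] (hodd : Odd (Fintype.card β)) {g : G}
    (hg : g * g = 1) : Odd (fx β g) := by
  have h1 := two_dvd_moved (α := β) hg
  have h2 := fx_le (α := β) g
  obtain ⟨k, hk⟩ := hodd
  rw [Nat.odd_iff]
  omega

/-- The size of a line is odd when the degree is. -/
theorem line_odd (h : Setup G Ω) (hodd : Odd (Fintype.card Ω)) {a b : Ω} (hab : a ≠ b) :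
    Odd (lineFin G a b).card ∧ 3 ≤ (lineFin G a b).card := by
  classical
  obtain ⟨t, hta, htb, ht, ht1⟩ := h.exists_inv hab
  have htV : t ∈ Vfin G a b := mem_Vfin.2 ⟨hta, htb, ht⟩
  obtain ⟨v, hvV, hv1, hvt⟩ := exists_other h hab t
  obtain ⟨hva, hvb, hv⟩ := mem_Vfin.1 hvV
  have hvc : v ∈ Subgroup.centralizer ({t} : Set G) :=
    Subgroup.mem_centralizer_singleton_iff.2 (h.comm hab hva hvb hv hta htb ht)
  have hF : Odd (Fintype.card (fixSet Ω t)) := by
    rw [← Nat.card_eq_fintype_card, card_fixSet]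
    exact odd_fx hodd ht
  have h1 := odd_fx (β := fixSet Ω t) hF (g := toBar Ω t ⟨v, hvc⟩)
    (by rw [← map_mul, show (⟨v, hvc⟩ : Subgroup.centralizer ({t} : Set G)) * ⟨v, hvc⟩ = 1
      from Subtype.ext hv, map_one])
  rw [bar_line_card h hab htV ht1 hvV hv1 hvt hvc] at h1
  refine ⟨h1, ?_⟩
  have := two_le_lineFin (G := G) hab
  obtain ⟨k, hk⟩ := h1
  omega

/-- The size of `lam` is the same for every involution. -/
theorem lam_eq (h : Setup G Ω) {a b : Ω} {t : G} (hab : a ≠ b) (htV : t ∈ Vfin G a b) (ht1 : t ≠ 1)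
    (hlt : (lineFin G a b).card < fx Ω t) :
    ∃ lam : ℕ, (lam = 1 ∨ lam = 2) ∧ fx Ω t - (lineFin G a b).card =
      lam * ((lineFin G a b).card * ((lineFin G a b).card - 1)) := by
  classical
  obtain ⟨hta, htb, ht⟩ := mem_Vfin.1 htV
  obtain ⟨v, hvV, hv1, hvt⟩ := exists_other h hab t
  obtain ⟨hva, hvb, hv⟩ := mem_Vfin.1 hvV
  have hvc : v ∈ Subgroup.centralizer ({t} : Set G) :=
    Subgroup.mem_centralizer_singleton_iff.2 (h.comm hab hva hvb hv hta htb ht)
  have hTwo := h.bar_two ⟨ht, ht1, a, b, hab, hta, htb⟩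
    fun p q hpq => by rwa [h.lineFin_card_eq hpq hab]
  have hne : toBar Ω t ⟨v, hvc⟩ ≠ 1 := by
    intro e
    have h1 := bar_line_card h hab htV ht1 hvV hv1 hvt hvc
    have h2 : fx (fixSet Ω t) (1 : bar Ω t) = Fintype.card (fixSet Ω t) := by
      rw [fx]; simp
    rw [e, h2, ← Nat.card_eq_fintype_card, card_fixSet] at h1
    omega
  obtain ⟨lam, hlam, heq, -⟩ := hTwo.counts (a := ⟨a, hta⟩) (b := ⟨b, htb⟩)
    (fun e => hab (congrArg Subtype.val e)) hne
    (show toBar Ω t ⟨v, hvc⟩ • (⟨a, hta⟩ : fixSet Ω t) = ⟨a, hta⟩ from Subtype.ext hva)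
    (show toBar Ω t ⟨v, hvc⟩ • (⟨b, htb⟩ : fixSet Ω t) = ⟨b, htb⟩ from Subtype.ext hvb)
  rw [← Nat.card_eq_fintype_card, card_fixSet, bar_line_card h hab htV ht1 hvV hv1 hvt hvc] at heq
  exact ⟨lam, hlam, heq⟩

/-- No involution outside the four group centralizes it and the element of order three. -/
theorem no_extra (h : Setup G Ω) {a b : Ω} {t w x : G} (hab : a ≠ b) (htV : t ∈ Vfin G a b)
    (ht1 : t ≠ 1) (hw : IsT Ω w) (hwa : w • a = a) (hwline : ∀ y ∈ line G a b, w • y = y → y = a)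
    (hwV : ∀ v ∈ Vfin G a b, v * w = w * v)
    (hxw : x * w = w * x) (hxa : x • a = a) (hxb : x • b = b)
    (hxmove : ∀ v ∈ Vfin G a b, v ≠ 1 → x * v * x⁻¹ ≠ v) (hx3 : x * x * x = 1)
    (hlam : fx Ω t = (lineFin G a b).card ∨
      fx Ω t - (lineFin G a b).card = (lineFin G a b).card * ((lineFin G a b).card - 1)) : False := by
  classical
  obtain ⟨hta, htb, ht⟩ := mem_Vfin.1 htV
  set c := (lineFin G a b).card with hc
  have hc2 : 2 ≤ c := two_le_lineFin hab
  set s := x * t * x⁻¹ with hs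
  have hsV : s ∈ Vfin G a b := by
    have := Vfin_conj x htV
    rwa [hxa, hxb] at this
  have hs1 : s ≠ 1 := fun e => ht1 (conj_eq_one_iff.1 e)
  have hst : s ≠ t := hxmove t htV ht1
  set u := t * s with hu
  have huV : u ∈ Vfin G a b := h.Vfin_mul hab htV hsV
  obtain ⟨d, had, hwd⟩ := exists_fix_ne hw a
  have hdL : d ∉ line G a b := fun hd => had (hwline d hd hwd).symm
  have hfT : ∀ v ∈ Vfin G a b, v ≠ 1 → fx Ω v = fx Ω t := fun v hv hv1 =>
    h.fx_eq (h.isT_of_mem hab hv hv1) (h.isT_of_mem hab htV ht1)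
  have hwb : w • b ≠ b := fun e => hab (hwline b right_mem_line e).symm
  -- no element of the four group fixes `Fix w`
  have hnfix : ∀ v ∈ Vfin G a b, v ≠ 1 → ¬ ∀ y : Ω, w • y = y → v • y = y := by
    intro v hv hv1 hfix
    have hsub : Finset.univ.filter (fun y : Ω => w • y = y) ⊆ Finset.univ.filter fun y : Ω => v • y = y :=
      fun y hy => by simpa using hfix y (Finset.mem_filter.1 hy).2
    have heq := Finset.eq_of_subset_of_card_le hsub (le_of_eq (by
      rw [← fx, ← fx]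
      exact h.fx_eq (h.isT_of_mem hab hv hv1) hw))
    have : b ∈ Finset.univ.filter fun y : Ω => w • y = y := by
      rw [heq]; simp [(mem_Vfin.1 hv).2.1]
    exact hwb (Finset.mem_filter.1 this).2
  have hvc : ∀ v ∈ Vfin G a b, v ∈ Subgroup.centralizer ({w} : Set G) := fun v hv =>
    Subgroup.mem_centralizer_singleton_iff.2 (hwV v hv)
  -- two elements agreeing on `Fix w`
  have hagree : ∀ v ∈ Vfin G a b, ∀ v' ∈ Vfin G a b, v ≠ v' →
      ¬ ∀ y : Ω, w • y = y → v • y = v' • y := by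
    intro v hv v' hv' hne hag
    refine hnfix (v' * v) (h.Vfin_mul hab hv' hv) (fun e => hne ?_) fun y hy => ?_
    · exact mul_left_cancel (e.trans (mem_Vfin.1 hv').2.2.symm)
    · rw [mul_smul, hag y hy, ← mul_smul, (mem_Vfin.1 hv').2.2, one_smul]
  -- the elements fixing only `a` on `Fix w`
  by_cases honly : ∀ y : Ω, w • y = y → t • y = y → y = a
  · have honly' : ∀ y : Ω, w • y = y → s • y = y → y = a := by
      intro y hy hsy
      have h1 : x⁻¹ • y = a := by
        refine honly _ ?_ ?_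
        · rw [← mul_smul, ((show Commute x w from hxw).inv_left).eq.symm, mul_smul, hy]
        · rw [hs, mul_smul, mul_smul] at hsy
          exact (inv_smul_eq_iff.2 hsy.symm).symm
      rw [← smul_inv_smul x y, h1, hxa]
    refine hagree t htV s hsV hst.symm (TwoPointA4Iso15.bar_unique h hw hwa ht (hvc t htV)
      (fun y hy => ⟨honly y hy, fun e => e ▸ hta⟩) (mem_Vfin.1 hsV).2.2 (hvc s hsV)
      fun y hy => ⟨honly' y hy, fun e => e ▸ (mem_Vfin.1 hsV).1⟩)
  push Not at honly
  obtain ⟨y, hwy, hty, hya⟩ := honly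
  rcases hlam with hlam | hlam
  · exact hya (hwline y ((h.line_eq_fix hab htV ht1 hlam).2 hty) hwy)
  -- three commuting line involutions of the group on `Fix w`
  have hc' : ∀ p q : Ω, p ≠ q → (lineFin G p q).card < fx Ω w := by
    intro p q hpq
    rw [h.lineFin_card_eq hpq hab, h.fx_eq hw (h.isT_of_mem hab htV ht1)]
    have : 0 < c * (c - 1) := Nat.mul_pos (by omega) (by omega)
    omega
  have hTwo := h.bar_two hw hc'
  let A : fixSet Ω w := ⟨a, hwa⟩
  let T' := toBar Ω w ⟨t, hvc t htV⟩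
  let S' := toBar Ω w ⟨s, hvc s hsV⟩
  let U' := toBar Ω w ⟨u, hvc u huV⟩
  have hne1 : ∀ v (hv : v ∈ Vfin G a b), v ≠ 1 → toBar Ω w ⟨v, hvc v hv⟩ ≠ 1 := fun v hv hv1 e =>
    hnfix v hv hv1 fun y hy => (toImage_eq_one_iff _).1 e y hy
  have hneq : ∀ v (hv : v ∈ Vfin G a b) v' (hv' : v' ∈ Vfin G a b), v ≠ v' →
      toBar Ω w ⟨v, hvc v hv⟩ ≠ toBar Ω w ⟨v', hvc v' hv'⟩ := fun v hv v' hv' hne e =>
    hagree v hv v' hv' hne fun y hy =>
      congrArg (fun p : bar Ω w => ((p • (⟨y, hy⟩ : fixSet Ω w) : fixSet Ω w) : Ω)) e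
  have hu1 : u ≠ 1 := fun e => hst (mul_left_cancel (e.trans ht.symm))
  have hsy : s • x • y = x • y := by rw [hs, mul_smul, mul_smul, inv_smul_smul, hty]
  have hwxy : w • x • y = x • y := by rw [← mul_smul, ← hxw, mul_smul, hwy]
  have hu' : x * s * x⁻¹ = u := by
    have hss : x * s * x⁻¹ ∈ Vfin G a b := by
      have := Vfin_conj x hsV
      rwa [hxa, hxb] at this
    rcases h.Vfin_eq_quad hab htV ht1 hsV hs1 hst.symm hss with e | e | e | e
    · exact absurd (conj_eq_one_iff.1 e) hs1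
    · exfalso
      refine hst ?_
      calc s = x * t * x⁻¹ := hs
        _ = x * (x * s * x⁻¹) * x⁻¹ := by rw [e]
        _ = x * x * x * t * (x * x * x)⁻¹ := by rw [hs]; group
        _ = t := by rw [hx3]; group
    · exact absurd e (hxmove s hsV hs1)
    · exact e
  have huy : u • x • x • y = x • x • y := by rw [← hu', mul_smul, mul_smul, inv_smul_smul, hsy]
  have hwxxy : w • x • x • y = x • x • y := by rw [← mul_smul, ← hxw, mul_smul, hwxy]
  have hxy : x • y ≠ a := fun e => hya ((smul_left_cancel_iff x).1 (e.trans hxa.symm))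
  have hxxy : x • x • y ≠ a := fun e => hxy ((smul_left_cancel_iff x).1 (e.trans hxa.symm))
  let Y : fixSet Ω w := ⟨y, hwy⟩
  have hAY : A ≠ Y := fun e => hya (congrArg Subtype.val e).symm
  have hTA : T' • A = A := Subtype.ext hta
  have hTY : T' • Y = Y := Subtype.ext hty
  obtain ⟨lam, -, heq, -⟩ := hTwo.counts hAY (hne1 t htV ht1) hTA hTY
  have hfxT : fx (fixSet Ω w) T' = c := by
    have hwV' : w ∈ Vfin G a y := mem_Vfin.2 ⟨hwa, hwy, hw.1⟩
    have htV' : t ∈ Vfin G a y := mem_Vfin.2 ⟨hta, hty, ht⟩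
    have htw : t ≠ w := fun e => hwb (e ▸ htb)
    rw [bar_line_card h (Ne.symm hya) hwV' hw.2.1 htV' ht1 htw (hvc t htV), hc,
      h.lineFin_card_eq (Ne.symm hya) hab]
  have hlam1 : lam = 1 := by
    rw [← Nat.card_eq_fintype_card, card_fixSet, h.fx_eq hw (h.isT_of_mem hab htV ht1), hfxT,
      hlam] at heq
    have hpos : 0 < c * (c - 1) := Nat.mul_pos (by omega) (by omega)
    exact Nat.eq_of_mul_eq_mul_right hpos (by rw [one_mul]; exact heq.symm)
  subst hlam1
  have hcross := (hTwo.crossing_card (hne1 t htV ht1) hAY hTA hTY heq).1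
  have hline : ∀ v (hv : v ∈ Vfin G a b), v ≠ 1 → v ≠ t → ∀ z, w • z = z → z ≠ a → v • z = z →
      toBar Ω w ⟨v, hvc v hv⟩ ∈ crossing (fixSet Ω w) T' A := by
    intro v hv hv1 hvt z hwz hza hvz
    obtain ⟨hva, hvb, hv2⟩ := mem_Vfin.1 hv
    refine ⟨⟨hne1 v hv hv1, A, ⟨z, hwz⟩, fun e => hza (congrArg Subtype.val e).symm,
      Subtype.ext hva, Subtype.ext hvz⟩, ?_, Subtype.ext hva, hneq v hv t htV hvt⟩
    rw [← map_mul, ← map_mul]
    exact congrArg _ (Subtype.ext (h.comm hab hva hvb hv2 hta htb ht))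
  have hsut : u ≠ t := fun e => hs1 (mul_eq_left.1 e)
  have hsus : u ≠ s := fun e => ht1 (mul_eq_right.1 e)
  have hS' := hline s hsV hs1 hst (x • y) hwxy hxy hsy
  have hU' := hline u huV hu1 hsut (x • x • y) hwxxy hxxy huy
  have : 2 ≤ (crossing (fixSet Ω w) T' A).ncard := by
    rw [← Set.ncard_pair (hneq u huV s hsV hsus)]
    exact Set.ncard_le_ncard (Set.insert_subset hU' (Set.singleton_subset_iff.2 hS'))
  exact absurd (le_trans this hcross) (by norm_num)

/-- The centralizer of a four group in a point stabiliser. -/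
theorem card_centralizer (h : Setup G Ω) (hodd : Odd (Fintype.card Ω)) {a b : Ω} {t : G}
    (hab : a ≠ b) (htV : t ∈ Vfin G a b) (ht1 : t ≠ 1)
    (hk : ∀ g : G, g * g = 1 → g ≠ 1 → g • a = a → IsT Ω g)
    (hlam : fx Ω t = (lineFin G a b).card ∨
      fx Ω t - (lineFin G a b).card = (lineFin G a b).card * ((lineFin G a b).card - 1)) :
    Nat.card ↥(stabilizer G a ⊓ Subgroup.centralizer (Vfin G a b : Set G)) =
      2 * ((lineFin G a b).card - 1) ∧ (lineFin G a b).card % 4 = 3 := by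
  classical
  obtain ⟨hta, htb, ht⟩ := mem_Vfin.1 htV
  obtain ⟨hcodd, hc3⟩ := line_odd h hodd hab
  set c := (lineFin G a b).card with hc
  set L := line G a b with hL
  set C := stabilizer G a ⊓ Subgroup.centralizer (Vfin G a b : Set G) with hC
  set Nt := stabilizer G a ⊓ Subgroup.centralizer ({t} : Set G) ⊓ setStab G L with hNt
  have hCN : C ≤ Nt := by
    intro g hg
    obtain ⟨hga, hgc⟩ := hg
    have hgc' := Subgroup.mem_centralizer_iff.1 hgc
    refine ⟨⟨hga, Subgroup.mem_centralizer_singleton_iff.2 (hgc' t htV).symm⟩,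
      mem_setStab_of h hab hab left_mem_line right_mem_line (by rw [show g • a = a from hga]; exact left_mem_line)
        fun v hv => ?_⟩
    rw [← mul_smul, hgc' v hv, mul_smul, (mem_Vfin.1 hv).2.1]
  have hVC : ∀ v ∈ Vfin G a b, v ∈ C := by
    intro v hv
    obtain ⟨h1, h2, h3⟩ := mem_Vfin.1 hv
    refine ⟨h1, Subgroup.mem_centralizer_iff.2 fun u hu => ?_⟩
    obtain ⟨g1, g2, g3⟩ := mem_Vfin.1 hu
    exact (h.comm hab h1 h2 h3 g1 g2 g3).symm
  have hL1 : Nat.card {y : Ω // y ∈ L ∧ y ≠ a} = c - 1 := by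
    rw [Nat.card_eq_fintype_card, Fintype.card_subtype,
      show (Finset.univ.filter fun y : Ω => y ∈ L ∧ y ≠ a) = (lineFin G a b).erase a by
        ext y; simp [mem_lineFin, hL, and_comm],
      Finset.card_erase_of_mem (mem_lineFin.2 left_mem_line)]
  have hcardNt : Nat.card Nt = (c - 1) * 4 := by
    rw [card_eq_of_transOn Nt {y : Ω | y ∈ L ∧ y ≠ a} (x := b) ⟨right_mem_line, hab.symm⟩ ?_ ?_]
    · congr 1
      rw [show Nt ⊓ stabilizer G b = stabilizer G a ⊓ stabilizer G b ⊓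
          Subgroup.centralizer ({t} : Set G) from ?_, ← h.Vfin_card hab, ← SetLike.coe_sort_coe,
        Nat.card_coe_set_eq, Set.ncard_eq_toFinset_card']
      · congr 1
        ext g
        simp only [Set.mem_toFinset, SetLike.mem_coe, Subgroup.mem_inf, mem_stabilizer_iff]
        constructor
        · rintro ⟨⟨hga, hgb⟩, hgt⟩
          exact h.mem_Vfin_of_cent ht ht1 hab hta htb (Subgroup.mem_centralizer_singleton_iff.1 hgt) hga hgb
        · intro hg
          obtain ⟨h1, h2, h3⟩ := mem_Vfin.1 hg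
          exact ⟨⟨h1, h2⟩, Subgroup.mem_centralizer_singleton_iff.2 (h.comm hab h1 h2 h3 hta htb ht)⟩
      · refine le_antisymm (fun g hg => ⟨⟨hg.1.1.1, hg.2⟩, hg.1.1.2⟩) fun g hg => ⟨⟨⟨hg.1.1, hg.2⟩, ?_⟩, hg.1.2⟩
        exact mem_setStab_of h hab hab left_mem_line right_mem_line
          (by rw [show g • a = a from hg.1.1]; exact left_mem_line)
          (by rw [show g • b = b from hg.1.2]; exact right_mem_line)
    · intro k hk'
      exact ⟨(hk'.2 b).2 right_mem_line,
        fun e => hab.symm ((smul_left_cancel_iff k).1 (e.trans hk'.1.1.symm))⟩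
    · intro y hy
      obtain ⟨g, hg, hga, hgb⟩ := h.cent_trans ht ht1 hta htb hta (hy.1 t htV) hab (Ne.symm hy.2)
      exact ⟨g, ⟨⟨hga, hg⟩, mem_setStab_of h hab hab left_mem_line right_mem_line
        (by rw [hga]; exact left_mem_line) (by rw [hgb]; exact hy.1)⟩, hgb⟩
  -- the index of `C` is at most two
  obtain ⟨v, hvV, hv1, hvt⟩ := exists_other h hab t
  have hnormV : ∀ g : G, g • a = a → g ∈ setStab G L → ∀ z ∈ Vfin G a b, g * z * g⁻¹ ∈ Vfin G a b := by
    intro g hga hgL z hz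
    have := Vfin_conj g hz
    rwa [hga, h.Vfin_eq hab left_mem_line ((hgL b).2 right_mem_line) (fun e => hab
      ((smul_left_cancel_iff g).1 (hga.trans e)))] at this
  have hcase : ∀ g ∈ Nt, g * v * g⁻¹ = v ∨ g * v * g⁻¹ = t * v := by
    rintro g ⟨⟨hga, hgt⟩, hgL⟩
    rcases h.Vfin_eq_quad hab htV ht1 hvV hv1 (Ne.symm hvt) (hnormV g hga hgL v hvV) with e | e | e | e
    · exact absurd (conj_eq_one_iff.1 e) hv1
    · exfalso
      refine hvt ?_
      have h' : g * t * g⁻¹ = t :=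
        mul_inv_eq_iff_eq_mul.2 (Subgroup.mem_centralizer_singleton_iff.1 hgt)
      exact mul_left_cancel (mul_right_cancel (e.trans h'.symm))
    · exact Or.inl e
    · exact Or.inr e
  have hmemC : ∀ g ∈ Nt, g * v * g⁻¹ = v → g ∈ C := by
    intro g hg e
    refine ⟨hg.1.1, Subgroup.mem_centralizer_iff.2 fun z hz => ?_⟩
    have hgt : Commute g t := Subgroup.mem_centralizer_singleton_iff.1 hg.1.2
    have hgv : Commute g v := mul_inv_eq_iff_eq_mul.1 e
    rcases h.Vfin_eq_quad hab htV ht1 hvV hv1 (Ne.symm hvt) hz with rfl | rfl | rfl | rfl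
    · simp
    · exact hgt.eq.symm
    · exact hgv.eq.symm
    · exact (hgt.mul_right hgv).eq.symm
  have hle : Nat.card Nt ≤ Nat.card (C × Bool) := by
    by_cases hex : ∃ g₀ ∈ Nt, g₀ * v * g₀⁻¹ = t * v
    · obtain ⟨g₀, hg₀, e₀⟩ := hex
      refine Nat.card_le_card_of_injective (fun g : Nt => if e : (g : G) * v * (g : G)⁻¹ = v
        then ((⟨g, hmemC g g.2 e⟩ : C), false) else (⟨g₀⁻¹ * g, hmemC _ (mul_mem (inv_mem hg₀) g.2) ?_⟩, true)) ?_
      · have e1 := (hcase g g.2).resolve_left e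
        calc g₀⁻¹ * (g : G) * v * (g₀⁻¹ * (g : G))⁻¹ = g₀⁻¹ * ((g : G) * v * (g : G)⁻¹) * g₀ := by group
          _ = g₀⁻¹ * (g₀ * v * g₀⁻¹) * g₀ := by rw [e1, e₀]
          _ = v := by group
      · intro g g' hgg
        dsimp only at hgg
        by_cases e : (g : G) * v * (g : G)⁻¹ = v <;>
          by_cases e' : (g' : G) * v * (g' : G)⁻¹ = v
        · rw [dif_pos e, dif_pos e'] at hgg
          exact Subtype.ext (congrArg (fun p : C × Bool => (p.1 : G)) hgg)
        · rw [dif_pos e, dif_neg e'] at hgg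
          exact absurd (congrArg Prod.snd hgg) Bool.false_ne_true
        · rw [dif_neg e, dif_pos e'] at hgg
          exact absurd (congrArg Prod.snd hgg).symm Bool.false_ne_true
        · rw [dif_neg e, dif_neg e'] at hgg
          exact Subtype.ext (mul_left_cancel (congrArg (fun p : C × Bool => (p.1 : G)) hgg))
    · push Not at hex
      exact Nat.card_le_card_of_injective (fun g : Nt => ((⟨g, hmemC g g.2
        ((hcase g g.2).resolve_right (hex g g.2))⟩ : C), false))
        fun g g' hgg => Subtype.ext (congrArg (fun p : C × Bool => (p.1 : G)) hgg)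
  rw [Nat.card_prod, Nat.card_eq_fintype_card (α := Bool), Fintype.card_bool, hcardNt] at hle
  have hdvd : Nat.card C ∣ (c - 1) * 4 := hcardNt ▸ Subgroup.card_dvd_of_le hCN
  -- no involution of `C` outside the four group
  have hno8 : ¬ 8 ∣ Nat.card C := by
    intro h8
    haveI : Fact (Nat.Prime 2) := ⟨Nat.prime_two⟩
    let V : Subgroup C :=
      { carrier := {g | (g : G) ∈ Vfin G a b}
        one_mem' := mem_Vfin.2 ⟨one_smul _ _, one_smul _ _, one_mul 1⟩
        mul_mem' := fun {g k} hg hk' => h.Vfin_mul hab hg hk'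
        inv_mem' := fun {g} hg => by
          show ((g : G))⁻¹ ∈ Vfin G a b
          rwa [inv_eq_of_mul_eq_one_right (mem_Vfin.1 hg).2.2] }
    have hVcard : Nat.card V = 4 := by
      rw [← h.Vfin_card hab, Nat.card_eq_fintype_card, Fintype.card_subtype]
      refine Finset.card_bij (fun g _ => (g : G)) (fun g hg => (Finset.mem_filter.1 hg).2)
        (fun _ _ _ _ e => Subtype.ext e) fun g hg => ⟨⟨g, hVC g hg⟩, ?_, rfl⟩
      exact Finset.mem_filter.2 ⟨Finset.mem_univ _, hg⟩
    have hV2 : IsPGroup 2 V := IsPGroup.of_card (n := 2) (by rw [hVcard]; norm_num)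
    obtain ⟨Q, hQ⟩ := hV2.exists_le_sylow
    have hQcard : 8 ≤ Nat.card Q := by
      have : 2 ^ 3 ∣ Nat.card Q := Q.pow_dvd_card_of_pow_dvd_card (by simpa using h8)
      exact Nat.le_of_dvd Nat.card_pos (by simpa using this)
    obtain ⟨q, hqQ, hqV⟩ : ∃ q ∈ (Q : Subgroup C), q ∉ V := by
      by_contra hno
      push Not at hno
      have := Subgroup.card_le_of_le (show (Q : Subgroup C) ≤ V from hno)
      rw [hVcard] at this
      change Nat.card (Q : Subgroup C) ≤ 4 at this
      change 8 ≤ Nat.card (Q : Subgroup C) at hQcard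
      omega
    obtain ⟨n, hn⟩ := Q.isPGroup' ⟨q, hqQ⟩
    have hn' : q ^ (2 ^ n) ∈ V := by
      have := congrArg Subtype.val hn
      simp only [Subgroup.coe_pow, OneMemClass.coe_one] at this
      rw [this]; exact one_mem V
    have hex : ∃ k, q ^ (2 ^ k) ∈ V := ⟨n, hn'⟩
    obtain ⟨k, hk'⟩ : ∃ k, Nat.find hex = k + 1 := by
      refine ⟨Nat.find hex - 1, ?_⟩
      have : Nat.find hex ≠ 0 := fun e => hqV (by
        have := Nat.find_spec hex
        rwa [e, pow_zero, pow_one] at this)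
      omega
    set r := q ^ (2 ^ k) with hr
    have hrV : r ∉ V := Nat.find_min hex (by omega)
    have hrr : r * r ∈ V := by
      have := Nat.find_spec hex
      rwa [hk', pow_succ, pow_mul, pow_two, ← hr] at this
    change (r : G) ∉ Vfin G a b at hrV
    change (r : G) * (r : G) ∈ Vfin G a b at hrr
    obtain ⟨hra, hrc⟩ := r.2
    have hrc' : ∀ z ∈ Vfin G a b, z * (r : G) = (r : G) * z := fun z hz =>
      Subgroup.mem_centralizer_iff.1 hrc z hz
    -- the sharply doubly transitive group on the line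
    set K := Subgroup.centralizer ({t} : Set G) ⊓ setStab G L with hK
    have hKinv : ∀ g ∈ K, ∀ y ∈ L, g • y ∈ L := fun g hg y hy => (hg.2 y).2 hy
    have hKtr : PairTrans (restrImage K L hKinv) L := by
      refine restrImage_pairTrans hKinv fun p hp q hq p' hp' q' hq' hpq hpq' => ?_
      obtain ⟨g, hg, hgp, hgq⟩ := h.cent_trans ht ht1 (hp t htV) (hq t htV) (hp' t htV) (hq' t htV) hpq hpq'
      exact ⟨g, ⟨hg, mem_setStab_of h hab hpq hp hq (hgp.symm ▸ hp') (hgq.symm ▸ hq')⟩, hgp, hgq⟩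
    have hKfix : ∀ g ∈ K, ∀ p ∈ L, ∀ q ∈ L, p ≠ q → g • p = p → g • q = q → g ∈ Vfin G a b := by
      intro g hg p hp q hq hpq hgp hgq
      rw [← h.Vfin_eq hab hp hq hpq]
      exact h.mem_Vfin_of_cent ht ht1 hpq (hp t htV) (hq t htV)
        (Subgroup.mem_centralizer_singleton_iff.1 hg.1) hgp hgq
    have hKsharp : ∀ (g : restrImage K L hKinv) (p q : L), p ≠ q → g • p = p → g • q = q → g = 1 := by
      intro g p q hpq hgp hgq
      obtain ⟨g', rfl⟩ := toImage_surjective K L hKinv g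
      refine (toImage_eq_one_iff _).2 fun y hy => hy _ ?_
      exact hKfix g' g'.2 p p.2 q q.2 (fun e => hpq (Subtype.ext e)) ((toImage_fix_iff _ p).1 hgp)
        ((toImage_fix_iff _ q).1 hgq)
    have hCK : ∀ g ∈ C, g ∈ K := fun g hg => ⟨(hCN hg).1.2, (hCN hg).2⟩
    obtain ⟨x, hxa, hxb, hx2, hx3, hxmove, hxfpf⟩ := h.exists_three hab
    have hxV : ∀ z ∈ Vfin G a b, x * z * x⁻¹ ∈ Vfin G a b := by
      intro z hz
      have := Vfin_conj x hz
      rwa [hxa, hxb] at this
    have hxV' : ∀ z ∈ Vfin G a b, x⁻¹ * z * x ∈ Vfin G a b := by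
      intro z hz
      have := Vfin_conj x⁻¹ hz
      rwa [inv_smul_eq_iff.2 hxa.symm, inv_smul_eq_iff.2 hxb.symm, inv_inv] at this
    have hr'C : x * (r : G) * x⁻¹ ∈ C := by
      refine ⟨show (x * (r : G) * x⁻¹) • a = a by
        rw [mul_smul, mul_smul, inv_smul_eq_iff.2 hxa.symm, show (r : G) • a = a from hra, hxa],
        Subgroup.mem_centralizer_iff.2 fun z hz => ?_⟩
      calc z * (x * (r : G) * x⁻¹) = x * ((x⁻¹ * z * x) * (r : G)) * x⁻¹ := by group
        _ = x * ((r : G) * (x⁻¹ * z * x)) * x⁻¹ := by rw [hrc' _ (hxV' z hz)]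
        _ = x * (r : G) * x⁻¹ * z := by group
    let A : L := ⟨a, left_mem_line⟩
    let B : L := ⟨b, right_mem_line⟩
    have hAB : A ≠ B := fun e => hab (congrArg Subtype.val e)
    have himg : ∀ (g : G) (hg : g ∈ C), g * g ∈ Vfin G a b → g ∉ Vfin G a b →
        toImage K L hKinv ⟨g, hCK g hg⟩ * toImage K L hKinv ⟨g, hCK g hg⟩ = 1 ∧
          toImage K L hKinv ⟨g, hCK g hg⟩ ≠ 1 ∧ toImage K L hKinv ⟨g, hCK g hg⟩ • A = A := by
      intro g hg hgg hgV
      refine ⟨?_, fun e => hgV (hKfix g (hCK g hg) a left_mem_line b right_mem_line hab hg.1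
        ((toImage_eq_one_iff _).1 e b right_mem_line)), Subtype.ext hg.1⟩
      rw [← map_mul]
      exact (toImage_eq_one_iff _).2 fun y hy => hy _ hgg
    have hr'sq : x * (r : G) * x⁻¹ * (x * (r : G) * x⁻¹) ∈ Vfin G a b := by
      rw [show x * (r : G) * x⁻¹ * (x * (r : G) * x⁻¹) = x * ((r : G) * r) * x⁻¹ by group]
      exact hxV _ hrr
    have hr'V : x * (r : G) * x⁻¹ ∉ Vfin G a b := fun e => hrV (by
      have := hxV' _ e
      rwa [show x⁻¹ * (x * (r : G) * x⁻¹) * x = r by group] at this)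
    obtain ⟨i1, i2, i3⟩ := himg r r.2 hrr hrV
    obtain ⟨j1, j2, j3⟩ := himg _ hr'C hr'sq hr'V
    have hsame := sharp_unique hKtr hKsharp hAB i1 i2 i3 j1 j2 j3
    have hdiff : (r : G)⁻¹ * (x * (r : G) * x⁻¹) ∈ Vfin G a b := by
      refine hKfix _ (mul_mem (inv_mem (hCK _ r.2)) (hCK _ hr'C)) a left_mem_line b right_mem_line hab ?_ ?_
      · exact (mul_mem (inv_mem r.2) hr'C : (r : G)⁻¹ * (x * (r : G) * x⁻¹) ∈ C).1
      · have hb' := congrArg (fun p : restrImage K L hKinv => ((p • B : L) : Ω)) hsame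
        change (r : G) • b = (x * (r : G) * x⁻¹) • b at hb'
        rw [mul_smul, ← hb', inv_smul_smul]
    obtain ⟨v', hv', hvv⟩ := hxfpf _ hdiff
    set w := (r : G) * v' with hw
    have hv'2 := (mem_Vfin.1 hv').2.2
    have hxw : x * w * x⁻¹ = w := by
      have hxv := hxV v' hv'
      have hxv2 := (mem_Vfin.1 hxv).2.2
      calc x * w * x⁻¹ = (r : G) * ((r : G)⁻¹ * (x * (r : G) * x⁻¹)) * (x * v' * x⁻¹) := by
            rw [hw]; group
        _ = (r : G) * v' * ((x * v' * x⁻¹) * (x * v' * x⁻¹)) := by rw [← hvv]; group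
        _ = w := by rw [hxv2, mul_one, hw]
    have hwC : w ∈ C := mul_mem r.2 (hVC v' hv')
    have hwV : w ∉ Vfin G a b := fun e => hrV (by
      have := h.Vfin_mul hab e hv'
      rwa [hw, mul_assoc, hv'2, mul_one] at this)
    have hww : w * w = 1 := by
      by_contra hne
      have hsq : w * w = (r : G) * r := by
        calc w * w = (r : G) * (v' * r) * v' := by rw [hw]; group
          _ = (r : G) * r * (v' * v') := by rw [hrc' v' hv']; group
          _ = _ := by rw [hv'2, mul_one]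
      refine hxmove (w * w) (hsq ▸ hrr) hne ?_
      calc x * (w * w) * x⁻¹ = (x * w * x⁻¹) * (x * w * x⁻¹) := by group
        _ = w * w := by rw [hxw]
    have hw1 : w ≠ 1 := fun e => hwV (e ▸ mem_Vfin.2 ⟨one_smul _ _, one_smul _ _, one_mul 1⟩)
    have hwVc : ∀ z ∈ Vfin G a b, z * w = w * z := fun z hz =>
      Subgroup.mem_centralizer_iff.1 hwC.2 z hz
    refine no_extra h hab htV ht1 (hk w hww hw1 hwC.1) hwC.1 (fun y hy hwy => ?_) hwVc
      (mul_inv_eq_iff_eq_mul.1 hxw) hxa hxb hxmove hx3 hlam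
    by_contra hya
    exact hwV (hKfix w (hCK w hwC) a left_mem_line y hy (Ne.symm hya) hwC.1 hwy)
  -- arithmetic
  obtain ⟨m, hm⟩ := hcodd
  obtain ⟨k, hk'⟩ := hdvd
  have hCpos : 0 < Nat.card C := Nat.card_pos
  have hk2 : k = 1 ∨ k = 2 := by
    rcases k with _ | _ | _ | k
    · omega
    · exact Or.inl rfl
    · exact Or.inr rfl
    · exfalso
      have : Nat.card C * 3 ≤ (c - 1) * 4 := by
        rw [hk']; exact Nat.mul_le_mul_left _ (by omega)
      omega
  rcases hk2 with rfl | rfl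
  · exact absurd ⟨m, by omega⟩ hno8
  · refine ⟨by omega, ?_⟩
    by_contra h4
    exact hno8 ⟨m / 2, by omega⟩

end Cfsg.Agent.TwoPointA4Odd15
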