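import Cfsg.Agent.Lib.TwoPointA4Odd15
import Cfsg.Agent.Lib.TwoPointA4LamOne15
import Cfsg.Agent.Lib.TwoPointA4LamTwo15
import Cfsg.Agent.Lib.TwoPointA4CaseOne15

/-!
Doubly transitive groups with two-point stabiliser alternating of degree four and odd degree.
-/

set_option autoImplicit false

open MulAction

namespace Cfsg.Agent.TwoPointA4OddMain15

open Cfsg Cfsg.Agent.TwoPointA4Count15 Cfsg.Agent.TwoPointA4Bar15 Cfsg.Agent.TwoPointA4Ctx15
  Cfsg.Agent.TwoPointA4Odd15

variable {G : Type*} [Group G] [Fintype G] {Ω : Type*} [Fintype Ω] [MulAction G Ω] [FaithfulSMul G Ω]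

theorem odd_case (h2 : IsMultiplyPretransitive G Ω 2) {a b : Ω} (hab : a ≠ b)
    (e : ↥(stabilizer G a ⊓ stabilizer G b) ≃* ↥(alternatingGroup (Fin 4)))
    (hodd : Odd (Fintype.card Ω))
    (hk : ∀ g : G, g * g = 1 → g ≠ 1 → 1 ≠ fx Ω g) :
    Fintype.card Ω = 15 ∧ Nonempty (G ≃* ↥(alternatingGroup (Fin 7))) := by
  classical
  have h := setup_of h2 hab e
  obtain ⟨t, hta, htb, ht, ht1⟩ := h.exists_inv hab
  have htV : t ∈ Vfin G a b := mem_Vfin.2 ⟨hta, htb, ht⟩
  have hT : ∀ g : G, g * g = 1 → g ≠ 1 → IsT Ω g := fun g hg hg1 => by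
    refine ⟨hg, hg1, exists_pair_of_one_lt_fx ?_⟩
    obtain ⟨k, hk'⟩ := odd_fx hodd hg
    have := hk g hg hg1
    omega
  obtain ⟨J, k, hJ1, hJk, hJ, hcount, heven⟩ := h.counts hab ht ht1 hta htb
  have hk0 : k = 0 := by
    rw [← hcount a, Nat.card_eq_zero]
    exact Or.inl ⟨fun g => hk g.1 g.2.1 g.2.2.1 g.2.2.2.2.symm⟩
  set c := (lineFin G a b).card with hc
  have hcall : ∀ p q : Ω, p ≠ q → (lineFin G p q).card = c := fun p q hpq =>
    h.lineFin_card_eq hpq hab
  have hcV : (fx Ω t = c ∨ fx Ω t - c = c * (c - 1)) → (∀ p q : Ω, p ≠ q →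
      Nat.card ↥(stabilizer G p ⊓ Subgroup.centralizer (Vfin G p q : Set G)) = 2 * (c - 1)) ∧
      c % 4 = 3 := by
    intro hlam
    have key : ∀ p q : Ω, p ≠ q →
        Nat.card ↥(stabilizer G p ⊓ Subgroup.centralizer (Vfin G p q : Set G)) = 2 * (c - 1) ∧
          c % 4 = 3 := by
      intro p q hpq
      obtain ⟨s, hsp, hsq, hs, hs1⟩ := h.exists_inv hpq
      have := card_centralizer h hodd hpq (mem_Vfin.2 ⟨hsp, hsq, hs⟩) hs1
        (fun g hg hg1 _ => hT g hg hg1) (by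
          rwa [hcall p q hpq, h.fx_eq (t := t) ⟨hs, hs1, p, q, hpq, hsp, hsq⟩
            ⟨ht, ht1, a, b, hab, hta, htb⟩])
      rwa [hcall p q hpq] at this
    exact ⟨fun p q hpq => (key p q hpq).1, (key a b hab).2⟩
  rcases (h.line_le_fix hab htV ht1).lt_or_eq with hlt | heq
  · exfalso
    obtain ⟨lam, hlam, heq⟩ := lam_eq h hab htV ht1 hlt
    rcases hlam with rfl | rfl
    · rw [one_mul] at heq
      obtain ⟨h1, h4⟩ := hcV (Or.inr heq)
      refine TwoPointA4LamOne15.no_lambda_one h hodd hab ht ht1 hta htb hcall ?_ h4 h1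
      have hcc : c ≤ c * c := Nat.le_mul_self c
      rw [← hc, Nat.mul_sub_one] at heq
      omega
    · obtain ⟨v, hvV, hv1, hvt⟩ := exists_other h hab t
      obtain ⟨hva, hvb, hv⟩ := mem_Vfin.1 hvV
      have hvc : v ∈ Subgroup.centralizer ({t} : Set G) :=
        Subgroup.mem_centralizer_singleton_iff.2 (h.comm hab hva hvb hv hta htb ht)
      have hTwo := h.bar_two ⟨ht, ht1, a, b, hab, hta, htb⟩
        fun p q hpq => by rwa [hcall p q hpq]
      have hcard : Fintype.card (fixSet Ω t) = fx Ω t := by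
        rw [← Nat.card_eq_fintype_card, card_fixSet]
      have hfx := bar_line_card h hab htV ht1 hvV hv1 hvt hvc
      have hne : toBar Ω t ⟨v, hvc⟩ ≠ 1 := by
        intro e
        have h3 : fx (fixSet Ω t) (1 : bar Ω t) = Fintype.card (fixSet Ω t) := by
          rw [fx]; simp
        rw [e, h3, hcard] at hfx
        omega
      refine TwoPointA4LamTwo15.no_lambda_two hTwo ?_ hne
        (a := (⟨a, hta⟩ : fixSet Ω t)) (b := (⟨b, htb⟩ : fixSet Ω t))
        (fun e => hab (congrArg Subtype.val e)) (Subtype.ext hva) (Subtype.ext hvb) ?_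
      · rw [hcard]; exact odd_fx hodd ht
      · rw [hcard, hfx]; exact heq
  · obtain ⟨h1, h4⟩ := hcV (Or.inl heq.symm)
    rw [show c = fx Ω t from heq] at h1 h4
    exact TwoPointA4CaseOne15.main h hodd hab ht ht1 hta htb (fun g hg hg1 _ => hT g hg hg1)
      (fun p q hpq => (hcall p q hpq).trans heq) h4 ⟨hJ1, by omega, heven hodd hk0⟩ hJ h1

end Cfsg.Agent.TwoPointA4OddMain15
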