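import Mathlib
import Cfsg.Agent.Lib.OddComplementMain26
import Cfsg.Agent.Lib.ClassSizeGraph76
import Cfsg.Agent.Lib.TransferPow

/-!
A perfect finite group with abelian Sylow subgroups has no proper subgroup of 2-power index
(assuming that groups of odd order are solvable), and the consequence for class sizes.
-/

set_option autoImplicit false
set_option linter.unusedSectionVars false
set_option linter.style.haveILetI false

namespace Cfsg.Agent.TwoPowerIndex26

open Subgroup
open scoped commutatorElement

universe u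

/-- All Sylow subgroups are abelian. -/
def AGroup (G : Type*) [Group G] : Prop :=
  ∀ (p : ℕ) [Fact p.Prime] (P : Sylow p G), IsMulCommutative (P : Subgroup G)

/-- The odd order theorem, as a hypothesis. -/
def OddSolvable : Prop :=
  ∀ (K : Type u) [Group K] [Finite K], Odd (Nat.card K) → Group.IsSolvable K

theorem AGroup.subgroup {G : Type*} [Group G] (h : AGroup G) (U : Subgroup G) : AGroup U := by
  intro p _ T
  obtain ⟨S, hS⟩ := (T.isPGroup'.map U.subtype).exists_le_sylow
  have := h p S
  refine ⟨⟨fun x y => Subtype.ext (Subtype.ext ?_)⟩⟩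
  have h := congrArg Subtype.val (mul_comm'
    (⟨_, hS ⟨x.1, x.2, rfl⟩⟩ : (S : Subgroup G)) ⟨_, hS ⟨y.1, y.2, rfl⟩⟩)
  exact h

theorem AGroup.of_surjective {G G' : Type*} [Group G] [Finite G] [Group G'] (h : AGroup G)
    {f : G →* G'} (hf : Function.Surjective f) : AGroup G' := by
  intro p _ T
  obtain ⟨S, rfl⟩ := Sylow.mapSurjective_surjective hf p T
  have := h p S
  refine ⟨⟨?_⟩⟩
  rintro ⟨_, x, hx, rfl⟩ ⟨_, y, hy, rfl⟩
  apply Subtype.ext
  change f x * f y = f y * f x
  rw [← map_mul, ← map_mul]
  exact congrArg f (congrArg Subtype.val (mul_comm' (⟨x, hx⟩ : (S : Subgroup G)) ⟨y, hy⟩))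

theorem AGroup.comm {G : Type*} [Group G] (h : AGroup G) {p : ℕ} [Fact p.Prime] {P : Subgroup G}
    (hP : IsPGroup p P) {a b : G} (ha : a ∈ P) (hb : b ∈ P) : a * b = b * a := by
  obtain ⟨S, hS⟩ := hP.exists_le_sylow
  have := h p S
  exact congrArg Subtype.val (mul_comm' (⟨a, hS ha⟩ : (S : Subgroup G)) ⟨b, hS hb⟩)

/-- A finite group has a perfect normal subgroup that is trivial only if the group is solvable. -/
theorem exists_perfect_residual (N : Type*) [Group N] [Finite N] :
    ∃ R : Subgroup N, R.Characteristic ∧ commutator R = ⊤ ∧ (R = ⊥ → Group.IsSolvable N) := by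
  obtain ⟨k, hk⟩ : ∃ k, derivedSeries N (k + 1) = derivedSeries N k := by
    by_contra hne
    push Not at hne
    have hlt : ∀ k, Nat.card (derivedSeries N k) + k ≤ Nat.card N := by
      intro k
      induction k with
      | zero => simp
      | succ k ih =>
        have hle : derivedSeries N (k + 1) ≤ derivedSeries N k := by
          rw [derivedSeries_succ]
          exact commutator_le_self _
        have : Nat.card (derivedSeries N (k + 1)) < Nat.card (derivedSeries N k) := by
          refine lt_of_le_of_ne (Nat.card_le_card_of_injective _ (inclusion_injective hle))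
            fun e => hne k (eq_of_le_of_card_ge hle e.ge)
        omega
    have := hlt (Nat.card N)
    have := Nat.card_pos (α := derivedSeries N (Nat.card N))
    omega
  refine ⟨derivedSeries N k, inferInstance, ?_, fun h => (Group.isSolvable_def N).2 ⟨k, h⟩⟩
  apply map_injective (derivedSeries N k).subtype_injective
  rw [map_subtype_commutator, ← MonoidHom.range_eq_map, range_subtype, ← derivedSeries_succ, hk]

theorem commutator_eq_top_of_surjective {G G' : Type*} [Group G] [Group G'] {f : G →* G'}
    (hf : Function.Surjective f) (h : commutator G = ⊤) : commutator G' = ⊤ := by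
  have h' := Subgroup.map_commutator (⊤ : Subgroup G) ⊤ f
  rw [map_top_of_surjective f hf, ← commutator_def, ← commutator_def, h,
    map_top_of_surjective f hf] at h'
  exact h'.symm

theorem subsingleton_of_perfect_solvable (G : Type*) [Group G] [Group.IsSolvable G]
    (h : commutator G = ⊤) : Subsingleton G := by
  by_contra hn
  rw [not_subsingleton_iff_nontrivial] at hn
  exact (Group.IsSolvable.commutator_lt_top_of_nontrivial G).ne h

/-- The index of the trace on a normal subgroup divides the index. -/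
theorem relIndex_dvd_index {G : Type*} [Group G] [Finite G] (C N : Subgroup G) [N.Normal] :
    C.relIndex N ∣ C.index := by
  have h1 := relIndex_sup_left C N
  have h2 := OddComplement26.card_mul_relIndex' (inf_le_left : C ⊓ N ≤ C)
  have h3 := OddComplement26.card_mul_relIndex' (inf_le_right : C ⊓ N ≤ N)
  have h4 := OddComplement26.card_mul_relIndex' (le_sup_left : N ≤ N ⊔ C)
  have h5 := OddComplement26.card_mul_relIndex' (le_sup_right : C ≤ N ⊔ C)
  rw [inf_relIndex_left] at h2
  rw [inf_relIndex_right] at h3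
  rw [h1, ← h5] at h4
  have : C.relIndex N = C.relIndex (N ⊔ C) := by
    have hpos := Nat.card_pos (α := C)
    apply Nat.eq_of_mul_eq_mul_left hpos
    rw [← h4, ← h3]
    nth_rewrite 1 [← h2]
    ring
  rw [this]
  exact relIndex_dvd_index_of_le le_sup_right

/-- A subgroup of 2-power index factorises the group with any Sylow 2-subgroup. -/
theorem exists_sylow_factor {G : Type*} [Group G] [Finite G] {C : Subgroup G} {k : ℕ}
    (hk : C.index = 2 ^ k) (S : Sylow 2 G) (g : G) : ∃ c ∈ C, ∃ s ∈ (S : Subgroup G), g = c * s := by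
  let f : (S : Subgroup G) ⧸ C.subgroupOf S → G ⧸ C :=
    Quotient.map' (fun s => (s : G)) fun a b hab => by
      rw [QuotientGroup.leftRel_apply] at hab ⊢
      simpa [mem_subgroupOf] using hab
  have hinj : Function.Injective f := by
    intro a b
    induction a using Quotient.inductionOn' with | h a => ?_
    induction b using Quotient.inductionOn' with | h b => ?_
    intro e
    exact Quotient.eq''.2 (by
      have h := Quotient.eq''.1 e
      rw [QuotientGroup.leftRel_apply] at h ⊢
      simpa [mem_subgroupOf] using h)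
  have hcard : Nat.card (G ⧸ C) ≤ Nat.card ((S : Subgroup G) ⧸ C.subgroupOf S) := by
    change C.index ≤ C.relIndex S
    have h1 := OddComplement26.card_mul_relIndex' (inf_le_right : C ⊓ S ≤ S)
    rw [inf_relIndex_right] at h1
    obtain ⟨a, ha⟩ := IsPGroup.iff_card.1 (S.2.to_le (inf_le_right : C ⊓ S ≤ S))
    have h2 := C.card_mul_index
    have ha' : a ≤ (Nat.card C).factorization 2 :=
      (Nat.prime_two.pow_dvd_iff_le_factorization Nat.card_pos.ne').1
        (ha ▸ card_dvd_of_le inf_le_left)
    have hv : (Nat.card G).factorization 2 = (Nat.card C).factorization 2 + k := by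
      rw [← h2, hk, Nat.factorization_mul Nat.card_pos.ne' (by positivity), Finsupp.add_apply,
        Nat.Prime.factorization_pow Nat.prime_two, Finsupp.single_eq_same]
    rw [S.card_eq_multiplicity, hv, ha] at h1
    rw [hk]
    obtain ⟨r, -, hr⟩ := (Nat.dvd_prime_pow Nat.prime_two).1 (Dvd.intro_left _ h1)
    rw [hr, ← pow_add] at h1
    rw [hr]
    have := Nat.pow_right_injective le_rfl h1
    exact Nat.pow_le_pow_right two_pos (by omega)
  obtain ⟨x, hx⟩ := (hinj.bijective_of_nat_card_le hcard).2 ((g⁻¹ : G) : G ⧸ C)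
  induction x using Quotient.inductionOn' with | h s => ?_
  have h : (s : G)⁻¹ * g⁻¹ ∈ C := QuotientGroup.eq.1 hx
  exact ⟨_, inv_mem h, (s : G)⁻¹, inv_mem s.2, by group⟩

variable (hFT : OddSolvable.{u})
include hFT

theorem eq_top_aux : ∀ (n : ℕ) (L : Type u) [Group L] [Finite L], Nat.card L = n → AGroup L →
    commutator L = ⊤ → ∀ (C : Subgroup L) (k : ℕ), C.index = 2 ^ k → C = ⊤ := by
  intro n
  induction n using Nat.strong_induction_on with
  | _ n ih =>
  intro L _ _ hn hA hperf C k hk
  by_contra hC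
  have hnt : Nontrivial L := by
    by_contra h
    rw [not_nontrivial_iff_subsingleton] at h
    exact hC (eq_top_iff.2 fun x _ => Subsingleton.elim 1 x ▸ one_mem C)
  -- quotients
  have hquot : ∀ (N : Subgroup L) [N.Normal], N ≠ ⊥ → C ⊔ N = ⊤ := by
    intro N _ hN
    have hlt : Nat.card (L ⧸ N) < n := by
      rw [← hn, card_eq_card_quotient_mul_card_subgroup N]
      exact lt_mul_of_one_lt_right Nat.card_pos (N.one_lt_card_iff_ne_bot.2 hN)
    have hf := QuotientGroup.mk'_surjective N
    obtain ⟨j, -, hj⟩ := (Nat.dvd_prime_pow Nat.prime_two).1 (hk ▸ C.index_map_dvd hf)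
    have := ih _ hlt (L ⧸ N) rfl (hA.of_surjective hf)
      (commutator_eq_top_of_surjective hf hperf) _ j hj
    rw [← QuotientGroup.ker_mk' N, ← comap_map_eq, this, comap_top]
  -- proper subgroups
  have hsub : ∀ X : Subgroup L, X ≠ ⊤ → ∀ j, C.relIndex X = 2 ^ j →
      ∃ R : Subgroup X, R.Characteristic ∧ (R = ⊥ → Group.IsSolvable X) ∧
        R.map X.subtype ≤ C ∧ commutator R = ⊤ := by
    intro X hX j hj
    obtain ⟨R, hR, hRp, hRs⟩ := exists_perfect_residual X
    refine ⟨R, hR, hRs, ?_, hRp⟩
    have hdvd : (C.subgroupOf X).relIndex R ∣ 2 ^ j := by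
      rw [← hj]; exact relIndex_dvd_index (C.subgroupOf X) R
    obtain ⟨i, -, hi⟩ := (Nat.dvd_prime_pow Nat.prime_two).1 hdvd
    have hlt : Nat.card R < n := by
      rw [← hn]
      exact (Nat.le_of_dvd Nat.card_pos (card_subgroup_dvd_card R)).trans_lt
        (lt_of_le_of_ne (Nat.le_of_dvd Nat.card_pos (card_subgroup_dvd_card X))
          fun e => hX ((card_eq_iff_eq_top X).1 e))
    have := ih _ hlt R rfl ((hA.subgroup X).subgroup R) hRp _ i hi
    rintro _ ⟨r, hr, rfl⟩
    have h1 : (⟨r, hr⟩ : R) ∈ (C.subgroupOf X).subgroupOf R := by rw [this]; exact mem_top _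
    exact mem_subgroupOf.1 (mem_subgroupOf.1 h1)
  by_cases hsimple : IsSimpleGroup L
  · -- simple case
    have hna : ¬ ∀ a b : L, a * b = b * a := fun h => by
      have : Group.IsSolvable L := Group.isSolvable_of_comm h
      have := subsingleton_of_perfect_solvable L hperf
      exact not_nontrivial L hnt
    obtain ⟨S⟩ : Nonempty (Sylow 2 L) := inferInstance
    have hCodd : Odd (Nat.card C) := by
      rw [← Nat.not_even_iff_odd]
      intro hev
      obtain ⟨⟨d, hdC⟩, hd⟩ := exists_prime_orderOf_dvd_card' (G := C) 2 hev.two_dvd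
      rw [orderOf_mk] at hd
      obtain ⟨T, hT⟩ : ∃ T : Sylow 2 L, zpowers d ≤ (T : Subgroup L) :=
        (OddComplement26.isPGroup_zpowers (k := 1) (by rw [pow_one, ← hd, pow_orderOf_eq_one]))
          |>.exists_le_sylow
      have hdT := hT (mem_zpowers d)
      have hcl : normalClosure ({d} : Set L) ≤ C := by
        rw [normalClosure, closure_le]
        intro y hy
        rw [Group.mem_conjugatesOfSet_iff] at hy
        obtain ⟨a, rfl, hy⟩ := hy
        obtain ⟨g, rfl⟩ := isConj_iff.1 hy
        obtain ⟨c', hc', s, hs, rfl⟩ := exists_sylow_factor hk T g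
        have : c' * s * a * (c' * s)⁻¹ = c' * a * c'⁻¹ := by
          calc c' * s * a * (c' * s)⁻¹ = c' * (s * a) * s⁻¹ * c'⁻¹ := by group
            _ = _ := by rw [hA.comm T.2 hs hdT]; group
        rw [this]
        exact mul_mem (mul_mem hc' hdC) (inv_mem hc')
      rcases Normal.eq_bot_or_eq_top (normalClosure_normal (s := ({d} : Set L))) with h | h
      · exact IsolatedInv.ne_one_of_orderOf_two hd
          (mem_bot.1 (h ▸ subset_normalClosure (s := ({d} : Set L)) rfl))
      · exact hC (top_le_iff.1 (h ▸ hcl))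
    have hcard : Nat.card C * Nat.card (S : Subgroup L) = Nat.card L := by
      rw [S.card_eq_multiplicity, ← C.card_mul_index, hk,
        Nat.factorization_mul Nat.card_pos.ne' (by positivity), Finsupp.add_apply,
        Nat.factorization_eq_zero_of_not_dvd (by
          rw [← even_iff_two_dvd, Nat.not_even_iff_odd]; exact hCodd),
        Nat.Prime.factorization_pow Nat.prime_two, Finsupp.single_eq_same, zero_add]
    have hsol : ∀ X : Subgroup L, X ≠ ⊤ →
        Nat.card X = Nat.card ↥(C ⊓ X) * Nat.card ↥((S : Subgroup L) ⊓ X) → Group.IsSolvable X := by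
      intro X hX hfac
      obtain ⟨j, hj⟩ := IsPGroup.iff_card.1 (S.2.to_le (inf_le_left : (S : Subgroup L) ⊓ X ≤ S))
      have h1 := OddComplement26.card_mul_relIndex' (inf_le_right : C ⊓ X ≤ X)
      rw [inf_relIndex_right, hfac, hj] at h1
      obtain ⟨R, -, hRs, hRC, hRp⟩ := hsub X hX j (Nat.eq_of_mul_eq_mul_left Nat.card_pos h1)
      apply hRs
      have hodd : Odd (Nat.card R) := by
        rw [← card_map_of_injective X.subtype_injective]
        exact Odd.of_dvd_nat hCodd (card_dvd_of_le hRC)
      have := hFT R hodd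
      have := subsingleton_of_perfect_solvable R hRp
      exact eq_bot_of_subsingleton R
    exact OddComplement26.Ctx.false_of_ctx
      { S := S, H := C, hS2 := S.2, hH := hCodd, hcard := hcard, hab := hA, hna := hna,
        hHsol := hFT C hCodd, hsol := hsol }
  · -- a proper normal subgroup
    obtain ⟨N, hN, hN1, hN2⟩ : ∃ N : Subgroup L, N.Normal ∧ N ≠ ⊥ ∧ N ≠ ⊤ := by
      by_contra hno
      push Not at hno
      exact hsimple ⟨fun H hH => or_iff_not_imp_left.2 (hno H hH)⟩
    obtain ⟨j, -, hj⟩ := (Nat.dvd_prime_pow Nat.prime_two).1 (hk ▸ relIndex_dvd_index C N)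
    obtain ⟨R, hR, hRs, hRC, -⟩ := hsub N hN2 j hj
    have hRbot : R = ⊥ := by
      by_contra hne
      have hne' : R.map N.subtype ≠ ⊥ := by
        rwa [ne_eq, map_eq_bot_iff_of_injective _ N.subtype_injective]
      have := hquot (R.map N.subtype) hne'
      rw [sup_eq_left.2 hRC] at this
      exact hC this
    have hNsol := hRs hRbot
    obtain ⟨A, r, hr, hA1, -, hAn, hAp, hAc, -⟩ :=
      FitLength57.exists_minimal_normal_pGroup hNsol hN1
    have hCA := hquot A hA1
    have hCAn : (C ⊓ A).Normal := by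
      rw [← normalizer_eq_top_iff, eq_top_iff, ← hCA]
      refine sup_le (fun a ha => mem_normalizer_iff.2 fun x => ?_) fun a ha =>
        mem_normalizer_iff.2 fun x => ?_
      · simp only [mem_inf]
        constructor
        · rintro ⟨h1, h2⟩
          exact ⟨mul_mem (mul_mem ha h1) (inv_mem ha), hAn.conj_mem x h2 a⟩
        · rintro ⟨h1, h2⟩
          have h3 := mul_mem (mul_mem (inv_mem ha) h1) ha
          have h4 := hAn.conj_mem _ h2 a⁻¹
          simp [mul_assoc] at h3 h4
          exact ⟨h3, h4⟩
      · simp only [mem_inf]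
        constructor
        · rintro ⟨h1, h2⟩
          rw [hAc a ha x h2, mul_inv_cancel_right]
          exact ⟨h1, h2⟩
        · rintro ⟨h1, h2⟩
          have h4 : x ∈ A := by simpa [mul_assoc] using hAn.conj_mem _ h2 a⁻¹
          rw [hAc a ha x h4, mul_inv_cancel_right] at h1
          exact ⟨h1, h4⟩
    have hCAbot : C ⊓ A = ⊥ := by
      by_contra hne
      have := hquot (C ⊓ A) hne
      rw [sup_eq_left.2 inf_le_left] at this
      exact hC this
    obtain ⟨i, hi⟩ : ∃ i, Nat.card A = 2 ^ i := by
      obtain ⟨i, -, hi⟩ := (Nat.dvd_prime_pow Nat.prime_two).1 (hk ▸ relIndex_dvd_index C A)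
      refine ⟨i, ?_⟩
      rw [← hi, ← inf_relIndex_right, hCAbot, relIndex_bot_left]
    have hA2 : IsPGroup 2 A := IsPGroup.of_card hi
    obtain ⟨S⟩ : Nonempty (Sylow 2 L) := inferInstance
    have hAS : A ≤ (S : Subgroup L) := hA2.le_sylow_of_normal S
    set K := centralizer (A : Set L) with hK
    have hSK : (S : Subgroup L) ≤ K := fun s hs => mem_centralizer_iff.2 fun a ha =>
      hA.comm S.2 (hAS ha) hs
    have hKn : K.Normal := inferInstance
    have hodd : Odd (Nat.card (L ⧸ K)) := by
      rw [← Nat.not_even_iff_odd]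
      intro hev
      exact S.not_dvd_index (hev.two_dvd.trans (index_dvd_of_le hSK))
    have := hFT (L ⧸ K) hodd
    have := subsingleton_of_perfect_solvable (L ⧸ K)
      (commutator_eq_top_of_surjective (QuotientGroup.mk'_surjective K) hperf)
    have hKtop : K = ⊤ := eq_top_iff.2 fun x _ =>
      (QuotientGroup.eq_one_iff x).1 (Subsingleton.elim _ _)
    have hcent : ∀ a ∈ A, ∀ g : L, g * a = a * g := fun a ha g =>
      ((mem_centralizer_iff.1 (hKtop ▸ mem_top g : g ∈ K)) a ha).symm
    have hle : commutator L ≤ C := by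
      rw [_root_.commutator_def, Subgroup.commutator_le]
      intro g _ h _
      obtain ⟨g₁, hg₁, g₂, hg₂, rfl⟩ := Subgroup.mem_sup_of_normal_right.1 (hCA ▸ mem_top g)
      obtain ⟨h₁, hh₁, h₂, hh₂, rfl⟩ := Subgroup.mem_sup_of_normal_right.1 (hCA ▸ mem_top h)
      have e : ⁅g₁ * g₂, h₁ * h₂⁆ = ⁅g₁, h₁⁆ := by
        have e1 : g₁ * g₂ * (h₁ * h₂) = g₁ * h₁ * (g₂ * h₂) := by
          rw [mul_assoc, ← mul_assoc g₂, ← hcent g₂ hg₂ h₁]; group
        have e2 : h₁ * h₂ * (g₁ * g₂) = h₁ * g₁ * (g₂ * h₂) := by
          calc h₁ * h₂ * (g₁ * g₂) = h₁ * (h₂ * g₁) * g₂ := by group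
            _ = h₁ * g₁ * (h₂ * g₂) := by rw [← hcent h₂ hh₂ g₁]; group
            _ = _ := by rw [hcent g₂ hg₂ h₂]
        simp only [commutatorElement_def]
        calc g₁ * g₂ * (h₁ * h₂) * (g₁ * g₂)⁻¹ * (h₁ * h₂)⁻¹
            = g₁ * g₂ * (h₁ * h₂) * (h₁ * h₂ * (g₁ * g₂))⁻¹ := by group
          _ = g₁ * h₁ * g₁⁻¹ * h₁⁻¹ := by rw [e1, e2]; group
      rw [e, commutatorElement_def]
      exact mul_mem (mul_mem (mul_mem hg₁ hh₁) (inv_mem hg₁)) (inv_mem hh₁)
    exact hC (top_le_iff.1 (hperf ▸ hle))

/-- **Theorem A**: a perfect group with abelian Sylow subgroups has no proper subgroup of 2-power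
index. -/
theorem eq_top_of_index_two_pow {L : Type u} [Group L] [Finite L] (hA : AGroup L)
    (hperf : commutator L = ⊤) (C : Subgroup L) {k : ℕ} (hk : C.index = 2 ^ k) : C = ⊤ :=
  eq_top_aux hFT _ L rfl hA hperf C k hk

/-- A group with abelian Sylow subgroups and an element whose class size is exactly the largest
2-power dividing a class size is solvable. -/
theorem isSolvable_of_class_size {G : Type u} [Group G] [Finite G] (hA : AGroup G) (a : ℕ)
    (hmax : ∀ y : G, ¬ 2 ^ (a + 1) ∣ (centralizer ({y} : Set G)).index)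
    (hx : ∃ x : G, (centralizer ({x} : Set G)).index = 2 ^ a) : Group.IsSolvable G := by
  obtain ⟨x, hx⟩ := hx
  obtain ⟨L, hLc, hLp, hLs⟩ := exists_perfect_residual G
  apply hLs
  by_contra hL1
  -- `x` centralises `L`
  set X := centralizer ({x} : Set G) with hX
  obtain ⟨j, -, hj⟩ := (Nat.dvd_prime_pow Nat.prime_two).1 (hx ▸ relIndex_dvd_index X L)
  have hLX : L ≤ X := subgroupOf_eq_top.1
    (eq_top_of_index_two_pow hFT (hA.subgroup L) hLp (X.subgroupOf L) hj)
  -- `L` has trivial centre
  have hZ : ∀ l ∈ center L, l = 1 := by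
    intro l hl
    by_contra hl1
    obtain ⟨p, hp, hpd⟩ := Nat.exists_prime_and_dvd (n := orderOf l)
      (by rwa [ne_eq, orderOf_eq_one_iff])
    have := Fact.mk hp
    set y := l ^ (orderOf l / p) with hy
    have hyp : orderOf y = p := orderOf_pow_orderOf_div (orderOf_pos l).ne' hpd
    obtain ⟨P, hP⟩ := (OddComplement26.isPGroup_zpowers (x := y) (p := p) (k := 1)
      (by rw [pow_one, ← orderOf_dvd_iff_pow_eq_one, hyp])).exists_le_sylow
    have := hA.subgroup L p P
    have := TransferPow.eq_one_of_mem_center_commutator (H := (P : Subgroup L))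
      (hP (mem_zpowers y)) (pow_mem hl _) (hLp ▸ mem_top y)
      (by rw [hyp]; exact Nat.Coprime.symm (hp.coprime_iff_not_dvd.2 P.not_dvd_index))
    rw [this, orderOf_one] at hyp
    exact hp.one_lt.ne hyp
  -- centralisers in `L` have odd index
  have hodd : ∀ g : L, Odd (centralizer ({g} : Set L)).index := by
    intro g
    set Y := centralizer ({x * (g : G)} : Set G) with hY
    have hYeq : ∀ h : G, h ∈ Y → h * x = x * h ∧ h * g = g * h := by
      intro h hh
      have e : h * (x * g) = x * g * h := mem_centralizer_singleton_iff.1 hh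
      have hg' : h * g * h⁻¹ ∈ L := hLc |> fun _ => (inferInstance : L.Normal).conj_mem _ g.2 h
      have hw : x⁻¹ * (h * x * h⁻¹) ∈ L := by
        have h2 : x⁻¹ * (h * x * h⁻¹) = (g : G) * (h * g * h⁻¹)⁻¹ := by
          calc x⁻¹ * (h * x * h⁻¹) = x⁻¹ * (h * (x * g) * h⁻¹) * (h * g * h⁻¹)⁻¹ := by group
            _ = _ := by rw [e]; group
        rw [h2]
        exact mul_mem g.2 (inv_mem hg')
      have hwc : (⟨_, hw⟩ : L) ∈ center L := by
        refine mem_center_iff.2 fun l => Subtype.ext ?_
        change (l : G) * (x⁻¹ * (h * x * h⁻¹)) = x⁻¹ * (h * x * h⁻¹) * l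
        have h1 : Commute (l : G) x := mem_centralizer_singleton_iff.1 (hLX l.2)
        have hl' : h⁻¹ * l * h ∈ L := by
          simpa using (inferInstance : L.Normal).conj_mem _ l.2 h⁻¹
        have h2 : Commute (h * (h⁻¹ * l * h) * h⁻¹) (h * x * h⁻¹) :=
          Commute.map (show Commute (h⁻¹ * l * h) x from
            mem_centralizer_singleton_iff.1 (hLX hl')) (MulAut.conj h).toMonoidHom
        rw [show h * (h⁻¹ * l * h) * h⁻¹ = (l : G) by group] at h2
        exact (h1.inv_right.mul_right h2).eq
      have h3 : x⁻¹ * (h * x * h⁻¹) = 1 := congrArg Subtype.val (hZ _ hwc)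
      rw [inv_mul_eq_one, eq_comm, mul_inv_eq_iff_eq_mul] at h3
      refine ⟨h3, mul_left_cancel (a := x) ?_⟩
      calc x * (h * g) = h * (x * g) := by rw [← mul_assoc, ← h3, mul_assoc]
        _ = _ := by rw [e, mul_assoc]
    have hYX : Y ≤ X := fun h hh => mem_centralizer_singleton_iff.2 (hYeq h hh).1
    have hrel : Odd (Y.relIndex X) := by
      rw [← Nat.not_even_iff_odd]
      intro hev
      apply hmax (x * g)
      rw [← relIndex_mul_index hYX, hx, pow_succ']
      exact Nat.mul_dvd_mul hev.two_dvd dvd_rfl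
    refine Odd.of_dvd_nat hrel ?_
    have hLn : (L.subgroupOf X).Normal := inferInstance
    have h1 := relIndex_dvd_index (Y.subgroupOf X) (L.subgroupOf X)
    rw [relIndex_subgroupOf hLX] at h1
    refine dvd_trans ?_ h1
    refine index_dvd_of_le ?_
    intro l hl
    exact mem_centralizer_singleton_iff.2 (Subtype.ext (hYeq l (mem_subgroupOf.1 hl)).2)
  -- a Sylow 2-subgroup of `L` is central
  obtain ⟨S⟩ : Nonempty (Sylow 2 L) := inferInstance
  have hcov : centralizer ((S : Subgroup L) : Set L) = ⊤ := by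
    refine ClassSizeGraph76.eq_top_of_conj_cover _ fun g => ?_
    obtain ⟨P, hP⟩ := ClassSizeGraph76.exists_sylow_le (p := 2)
      (H := centralizer ({g} : Set L)) (fun h2 => Nat.not_even_iff_odd.2 (hodd g) (even_iff_two_dvd.2 h2))
    obtain ⟨k, hk⟩ := MulAction.exists_smul_eq L S P
    refine ⟨k⁻¹, mem_centralizer_iff.2 fun s hs => ?_⟩
    have hmem : k * s * k⁻¹ ∈ centralizer ({g} : Set L) := hP (hk ▸
      Subgroup.smul_mem_pointwise_smul s (MulAut.conj k) _ hs)
    have e := mem_centralizer_singleton_iff.1 hmem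
    calc s * (k⁻¹ * g * k⁻¹⁻¹) = k⁻¹ * (k * s * k⁻¹ * g) * k := by group
      _ = k⁻¹ * g * k⁻¹⁻¹ * s := by rw [e]; group
  have hSbot : (S : Subgroup L) = ⊥ := by
    rw [eq_bot_iff]
    intro s hs
    refine mem_bot.2 (hZ s (mem_center_iff.2 fun g => ?_))
    exact ((mem_centralizer_iff.1 (hcov ▸ mem_top g : g ∈ centralizer _)) s hs).symm
  have hLodd : Odd (Nat.card L) := by
    rw [← Nat.not_even_iff_odd]
    intro hev
    exact S.not_dvd_index (by rw [hSbot, index_bot]; exact hev.two_dvd)
  have := hFT L hLodd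
  have := subsingleton_of_perfect_solvable L hLp
  exact hL1 (eq_bot_of_subsingleton L)

end Cfsg.Agent.TwoPowerIndex26
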