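import Mathlib
import Cfsg.Agent.Lib.PGroupsBasic
import Cfsg.Agent.Lib.TransferThompson

/-! # Groups of 2-rank at least three: normal four-groups and centralizers of involutions -/

set_option autoImplicit false

namespace Cfsg.Agent.TwoRankThree

open Subgroup

variable {G : Type*} [Group G]

/-- Adjoining a commuting involution to an elementary abelian 2-group doubles it. -/
theorem exists_double [Finite G] {E : Subgroup G} (hE : ∀ a ∈ E, a ^ 2 = 1) {u : G}
    (hu : u * u = 1) (huE : u ∉ E) (hc : ∀ a ∈ E, a * u = u * a) :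
    ∃ F : Subgroup G, Nat.card F = Nat.card E * 2 ∧ (∀ a ∈ F, a ^ 2 = 1) ∧ u ∈ F ∧ E ≤ F := by
  classical
  have hu' : u⁻¹ = u := inv_eq_of_mul_eq_one_right hu
  have hsq : ∀ a : G, (a ∈ E ∨ u * a ∈ E) → a ^ 2 = 1 := by
    rintro a (ha | ha)
    · exact hE a ha
    · have e : a = u * (u * a) := by rw [← mul_assoc, hu, one_mul]
      have hcm : Commute u (u * a) := (hc _ ha).symm
      rw [e, hcm.mul_pow, pow_two, hu, one_mul, hE _ ha]
  let F : Subgroup G :=
    { carrier := {g | g ∈ E ∨ u * g ∈ E}
      one_mem' := .inl E.one_mem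
      mul_mem' := by
        intro a b ha hb
        simp only [Set.mem_ofPred_eq] at ha hb ⊢
        rcases ha with ha | ha <;> rcases hb with hb | hb
        · exact .inl (mul_mem ha hb)
        · refine .inr ?_
          rw [← mul_assoc, ← hc a ha, mul_assoc]
          exact mul_mem ha hb
        · exact .inr (by rw [← mul_assoc]; exact mul_mem ha hb)
        · refine .inl ?_
          have : a * b = (u * a) * (u * b) := by
            rw [← mul_assoc (u * a) u b, hc _ ha, ← mul_assoc u u a, hu, one_mul]
          rw [this]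
          exact mul_mem ha hb
      inv_mem' := by
        intro a ha
        have h2 := hsq a ha
        rw [pow_two] at h2
        rw [inv_eq_of_mul_eq_one_right h2]
        exact ha }
  refine ⟨F, ?_, fun a ha => hsq a ha, .inr (by rw [hu]; exact E.one_mem), fun a ha => .inl ha⟩
  have hb : Function.Bijective (fun p : E × Bool =>
      (⟨if p.2 then u * p.1 else p.1, by
        rcases p with ⟨a, b⟩
        cases b
        · exact .inl a.2
        · refine .inr ?_
          simp only [if_true]
          rw [← mul_assoc, hu, one_mul]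
          exact a.2⟩ : F)) := by
    constructor
    · rintro ⟨a, i⟩ ⟨b, j⟩ h
      have h' := congrArg Subtype.val h
      have key : ∀ a b : E, u * (a : G) ≠ b := fun a b h => huE (by
        rw [eq_mul_inv_of_mul_eq h]; exact mul_mem b.2 (inv_mem a.2))
      cases i <;> cases j <;> simp at h'
      · simp [Subtype.ext_iff, h']
      · exact (key b a h'.symm).elim
      · exact (key a b h').elim
      · simp [Subtype.ext_iff, h']
    · rintro ⟨g, hg | hg⟩
      · exact ⟨(⟨g, hg⟩, false), Subtype.ext (by simp)⟩
      · exact ⟨(⟨u * g, hg⟩, true), Subtype.ext (by simp [← mul_assoc, hu])⟩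
  rw [← Nat.card_eq_of_bijective _ hb, Nat.card_prod, Nat.card_eq_fintype_card (α := Bool),
    Fintype.card_bool]

theorem finset_card_le [Finite G] (s : Finset G) (K : Subgroup G) (h : ∀ t ∈ s, t ∈ K) :
    s.card ≤ Nat.card K := by
  rw [← Nat.card_eq_finsetCard]
  refine Nat.card_le_card_of_injective (fun t : s => (⟨t.1, h t.1 t.2⟩ : K)) ?_
  intro a b hab
  exact Subtype.ext (congrArg (fun z : K => (z : G)) hab)

theorem zmod_sq_two : ∀ c : ZMod (2 ^ 1), c * c = 1 → c ∈ ({1, -1} : Finset (ZMod (2 ^ 1))) := by
  decide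

theorem zmod_sq_four : ∀ c : ZMod (2 ^ 2), c * c = 1 → c ∈ ({1, -1} : Finset (ZMod (2 ^ 2))) := by
  decide

/-- A finite 2-group with an elementary abelian subgroup of order 8 has a central involution `z`
and an involution `e ≠ z` with all conjugates in `{e, e z}`. -/
theorem exists_four [Finite G] (hG : IsPGroup 2 G) (E : Subgroup G) (hE : ∀ a ∈ E, a ^ 2 = 1)
    (hcard : Nat.card E = 8) :
    ∃ z e : G, z ∈ center G ∧ z * z = 1 ∧ z ≠ 1 ∧ e * e = 1 ∧ e ≠ 1 ∧ e ≠ z ∧
      ∀ g : G, g * e * g⁻¹ = e ∨ g * e * g⁻¹ = e * z := by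
  classical
  haveI : Fact (Nat.Prime 2) := ⟨Nat.prime_two⟩
  haveI := Fintype.ofFinite G
  -- a maximal abelian normal subgroup
  obtain ⟨A, ⟨hAn, hAc⟩, hmax⟩ := Set.exists_max_image
    {A : Subgroup G | A.Normal ∧ ∀ a ∈ A, ∀ b ∈ A, a * b = b * a}
    (fun A => Nat.card A) (Set.toFinite _)
    ⟨⊥, inferInstance, fun a ha b hb => by rw [mem_bot] at ha hb; rw [ha, hb]⟩
  haveI := hAn
  have hself : centralizer (A : Set G) ≤ A := by
    by_contra hle
    have hlt : A < centralizer (A : Set G) :=
      lt_of_le_of_ne (fun a ha => mem_centralizer_iff.2 fun b hb => hAc b hb a ha)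
        (fun h => hle h.ge)
    haveI : (centralizer (A : Set G)).Normal := Subgroup.normal_centralizer
    obtain ⟨M', hM', hAM, hMC, hcard'⟩ := PGroupsBasic.exists_normal_succ hG hlt
    have hne : ∃ x ∈ M', x ∉ A := by
      by_contra h
      push Not at h
      have := Subgroup.card_le_of_le h
      rw [hcard'] at this
      have := Nat.card_pos (α := A)
      omega
    obtain ⟨x, hxM, hxA⟩ := hne
    -- `M'` is generated by `A` and the commuting element `x`
    have hx : ∀ a ∈ A, a * x = x * a := fun a ha => mem_centralizer_iff.1 (hMC hxM) a ha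
    have hM'eq : M' = A ⊔ zpowers x := by
      refine le_antisymm ?_ (sup_le hAM (zpowers_le.2 hxM))
      have h1 : Nat.card A ∣ Nat.card (A ⊔ zpowers x : Subgroup G) :=
        Subgroup.card_dvd_of_le le_sup_left
      have h2 : Nat.card (A ⊔ zpowers x : Subgroup G) ∣ Nat.card M' :=
        Subgroup.card_dvd_of_le (sup_le hAM (zpowers_le.2 hxM))
      obtain ⟨c, hc⟩ := h1
      rw [hcard', hc] at h2
      have hpos := Nat.card_pos (α := A)
      have hc2 : c ∣ 2 := Nat.dvd_of_mul_dvd_mul_left hpos h2
      rcases (Nat.dvd_prime Nat.prime_two).1 hc2 with rfl | rfl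
      · exfalso
        refine hxA ?_
        have := Subgroup.eq_of_le_of_card_ge (le_sup_left : A ≤ A ⊔ zpowers x) (by omega)
        rw [this]
        exact mem_sup_right (mem_zpowers x)
      · exact le_of_eq (Subgroup.eq_of_le_of_card_ge (sup_le hAM (zpowers_le.2 hxM))
          (by rw [hcard', hc])).symm
    have hcomm : ∀ a ∈ M', ∀ b ∈ M', a * b = b * a := by
      intro a ha b hb
      rw [hM'eq, Subgroup.sup_eq_closure] at ha hb
      have gen : ∀ c ∈ ((A : Set G) ∪ (zpowers x : Set G)), ∀ d ∈ ((A : Set G) ∪ (zpowers x : Set G)),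
          c * d = d * c := by
        rintro c (hc | hc) d (hd | hd)
        · exact hAc c hc d hd
        · obtain ⟨k, rfl⟩ := hd
          exact ((show Commute c x from hx c hc).zpow_right k).eq
        · obtain ⟨k, rfl⟩ := hc
          exact ((show Commute d x from hx d hd).zpow_right k).symm.eq
        · obtain ⟨k, rfl⟩ := hc
          obtain ⟨l, rfl⟩ := hd
          exact ((Commute.refl x).zpow_zpow k l).eq
      have := Subgroup.isMulCommutative_closure gen
      exact congrArg Subtype.val (this.is_comm.comm ⟨a, ha⟩ ⟨b, hb⟩)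
    have := hmax M' ⟨hM', hcomm⟩
    rw [hcard'] at this
    have := Nat.card_pos (α := A)
    omega
  -- the elements of square one in `A`
  let O : Subgroup G :=
    { carrier := {a | a ∈ A ∧ a ^ 2 = 1}
      one_mem' := ⟨A.one_mem, one_pow 2⟩
      mul_mem' := fun ha hb => ⟨mul_mem ha.1 hb.1, by
        rw [Commute.mul_pow (hAc _ ha.1 _ hb.1 : Commute _ _), ha.2, hb.2, one_mul]⟩
      inv_mem' := fun ha => ⟨inv_mem ha.1, by rw [inv_pow, ha.2, inv_one]⟩ }
  have hOn : O.Normal := ⟨fun a ha g => ⟨hAn.conj_mem a ha.1 g, by rw [conj_pow, ha.2]; group⟩⟩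
  haveI := hOn
  by_cases hO : ∃ a ∈ O, ∃ b ∈ O, a ≠ 1 ∧ b ≠ 1 ∧ a ≠ b
  · obtain ⟨a, ha, b, hb, ha1, hb1, hab⟩ := hO
    have h4 : 4 ≤ Nat.card O := by
      have hab1 : a * b ∉ ({1, a, b} : Finset G) := by
        simp only [Finset.mem_insert, Finset.mem_singleton, not_or]
        refine ⟨fun h => hab ?_, fun h => hb1 (by simpa using h), fun h => ha1 (by simpa using h)⟩
        rw [eq_inv_of_mul_eq_one_left h]
        exact inv_eq_of_mul_eq_one_right (by rw [← pow_two]; exact hb.2)
      have hs : ∀ t ∈ insert (a * b) ({1, a, b} : Finset G), t ∈ O := by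
        intro t ht
        simp only [Finset.mem_insert, Finset.mem_singleton] at ht
        rcases ht with rfl | rfl | rfl | rfl
        · exact mul_mem ha hb
        · exact O.one_mem
        · exact ha
        · exact hb
      have hc4 : (insert (a * b) ({1, a, b} : Finset G)).card = 4 := by
        rw [Finset.card_insert_of_notMem hab1, Finset.card_eq_three.2
          ⟨1, a, b, ha1.symm, hb1.symm, hab, rfl⟩]
      exact hc4 ▸ finset_card_le _ O hs
    obtain ⟨L, hL, hLO, hLcard⟩ :=
      PGroupsBasic.exists_normal_card_pow hG O 2 (by simpa using h4)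
    haveI := hL
    have hLne : L ≠ ⊥ := fun h => by rw [h, Subgroup.card_bot] at hLcard; simp at hLcard
    obtain ⟨z, hz, hz1⟩ :=
      L.bot_or_exists_ne_one.resolve_left hLne |> fun _ =>
        (L ⊓ center G).bot_or_exists_ne_one.resolve_left (PGroupsBasic.inf_center_ne_bot hG hLne)
    obtain ⟨e, he, he1, hez⟩ : ∃ e ∈ L, e ≠ 1 ∧ e ≠ z := by
      by_contra h
      push Not at h
      have : Nat.card L ≤ ({1, z} : Finset G).card := by
        rw [← Nat.card_eq_finsetCard]
        refine Nat.card_le_card_of_injective (fun t : L => (⟨t.1, ?_⟩ : ({1, z} : Finset G)))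
          fun s t h => Subtype.ext (congrArg (fun w : ({1, z} : Finset G) => (w : G)) h)
        simp only [Finset.mem_insert, Finset.mem_singleton]
        by_cases h1 : (t : G) = 1
        · exact .inl h1
        · exact .inr (h t t.2 h1)
      have := Finset.card_le_two (a := (1 : G)) (b := z)
      omega
    have sq : ∀ t ∈ L, t * t = 1 := fun t ht => by rw [← pow_two]; exact (hLO ht).2
    refine ⟨z, e, hz.2, sq z hz.1, hz1, sq e he, he1, hez, fun g => ?_⟩
    by_contra hcon
    push Not at hcon
    have hge : g * e * g⁻¹ ∈ L := hL.conj_mem e he g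
    have h1 : g * e * g⁻¹ ≠ 1 := fun h => he1 (by simpa using h)
    have h2 : g * e * g⁻¹ ≠ z := fun h => hez (by
      have h3 := mem_center_iff.1 hz.2 g⁻¹
      calc e = g⁻¹ * (g * e * g⁻¹) * g := by group
        _ = g⁻¹ * z * g := by rw [h]
        _ = z := by rw [h3]; group)
    have hez1 : e * z ≠ 1 := fun h => hez (by
      rw [eq_inv_of_mul_eq_one_left h, inv_eq_of_mul_eq_one_right (sq z hz.1)])
    have hez2 : e * z ≠ e := fun h => hz1 (by simpa using h)
    have hez3 : e * z ≠ z := fun h => he1 (by simpa using h)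
    have hs : ∀ t ∈ ({1, z, e, e * z, g * e * g⁻¹} : Finset G), t ∈ L := by
      intro t ht
      simp only [Finset.mem_insert, Finset.mem_singleton] at ht
      rcases ht with rfl | rfl | rfl | rfl | rfl
      exacts [L.one_mem, hz.1, he, mul_mem he hz.1, hge]
    have h5 : ({1, z, e, e * z, g * e * g⁻¹} : Finset G).card = 5 := by
      rw [Finset.card_insert_of_notMem, Finset.card_insert_of_notMem,
        Finset.card_insert_of_notMem, Finset.card_insert_of_notMem, Finset.card_singleton] <;>
        simp [hz1.symm, he1.symm, hez1.symm, h1.symm, hez.symm, hez3.symm, h2.symm, hez2.symm,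
          hcon.1.symm, hcon.2.symm]
    have := finset_card_le _ L hs
    rw [h5, hLcard] at this
    omega
  · push Not at hO
    -- `A` is cyclic
    haveI := Fintype.ofFinite A
    haveI hAcy : IsCyclic A := by
      letI : CommGroup A := { (inferInstance : Group A) with
        mul_comm := fun a b => Subtype.ext (hAc a a.2 b b.2) }
      refine isCyclic_of_card_pow_eq_one_le fun n hn => ?_
      by_contra hcon
      push Not at hcon
      -- reduce to the kernel of squaring
      have hker : ∀ k, Nat.card {a : A // a ^ 2 ^ k = 1} ≤ 2 ^ k := by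
        intro k
        induction k with
        | zero => simp
        | succ k ih =>
          let sqk : A → A := fun a => a ^ 2
          let f : {a : A // a ^ 2 ^ (k + 1) = 1} → {a : A // a ^ 2 ^ k = 1} := fun a =>
            ⟨sqk a.1, by
              show (a.1 ^ 2) ^ 2 ^ k = 1
              rw [← pow_mul, ← pow_succ']; exact a.2⟩
          haveI := Fintype.ofFinite {a : A // a ^ 2 ^ k = 1}
          rw [← Nat.card_congr (Equiv.sigmaFiberEquiv f), Nat.card_sigma]
          refine le_of_le_of_eq ?_ (pow_succ 2 k).symm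
          calc ∑ b, Nat.card {a // f a = b}
              ≤ ∑ _b : {a : A // a ^ 2 ^ k = 1}, 2 := by
                refine Finset.sum_le_sum fun b _ => ?_
                by_contra hc
                push Not at hc
                haveI := Fintype.ofFinite {a // f a = b}
                rw [Nat.card_eq_fintype_card] at hc
                obtain ⟨s, t, r, hst, hsr, htr⟩ := Fintype.two_lt_card_iff.1 hc
                have mem : ∀ t : {a // f a = b}, (((t.1.1 * s.1.1⁻¹ : A) : G)) ∈ O := fun t => by
                  refine ⟨(t.1.1 * s.1.1⁻¹ : A).2, ?_⟩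
                  have h1 : t.1.1 ^ 2 = s.1.1 ^ 2 :=
                    congrArg Subtype.val (t.2.trans s.2.symm)
                  have h2 : (t.1.1 * s.1.1⁻¹) ^ 2 = 1 := by
                    rw [mul_pow, inv_pow, h1, mul_inv_cancel]
                  exact congrArg Subtype.val h2
                have ne1 : ∀ t : {a // f a = b}, t ≠ s → ((t.1.1 * s.1.1⁻¹ : A) : G) ≠ 1 :=
                  fun t ht h => ht (Subtype.ext (Subtype.ext (mul_inv_eq_one.1 (Subtype.ext h))))
                have := hO _ (mem t) _ (mem r) (ne1 t hst.symm) (ne1 r hsr.symm)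
                exact htr (Subtype.ext (Subtype.ext (mul_right_cancel (Subtype.ext this))))
            _ ≤ 2 ^ k * 2 := by
                rw [Finset.sum_const, smul_eq_mul, Finset.card_univ, ← Nat.card_eq_fintype_card]
                exact Nat.mul_le_mul_right _ ih
      obtain ⟨m, hm⟩ := (hG.to_subgroup A).exists_card_eq
      obtain ⟨j, hj⟩ : ∃ j, Nat.gcd n (Nat.card A) = 2 ^ j :=
        let ⟨j, _, hj⟩ := (Nat.dvd_prime_pow Nat.prime_two).1
          (show Nat.gcd n (Nat.card A) ∣ 2 ^ m from hm ▸ Nat.gcd_dvd_right n (Nat.card A)); ⟨j, hj⟩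
      have hle : Fintype.card {a : A // a ^ n = 1} ≤ 2 ^ j := by
        rw [← Nat.card_eq_fintype_card]
        refine le_trans (Nat.card_le_card_of_injective
          (fun a : {a : A // a ^ n = 1} => (⟨a.1, ?_⟩ : {a : A // a ^ 2 ^ j = 1})) ?_) (hker j)
        · have h1 := (pow_gcd_eq_one (a := a.1) (m := n) (n := Nat.card A)).2 ⟨a.2, pow_card_eq_one'⟩
          rw [hj] at h1
          exact h1
        · intro s t h
          exact Subtype.ext (congrArg (fun w : {a : A // a ^ 2 ^ j = 1} => w.1) h)
      rw [Fintype.card_subtype] at hle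
      have := (hj ▸ Nat.gcd_dvd_left n (Nat.card A) : 2 ^ j ∣ n)
      have := Nat.le_of_dvd hn this
      omega
    obtain ⟨a, ha⟩ := hAcy.exists_generator
    obtain ⟨n, hn⟩ := (hG.to_subgroup A).exists_card_eq
    have hord : orderOf (a : G) = 2 ^ n := by
      rw [Subgroup.orderOf_coe, orderOf_eq_card_of_forall_mem_zpowers ha, hn]
    have hgen : ∀ b ∈ A, ∃ k : ℤ, (a : G) ^ k = b := fun b hb => by
      obtain ⟨k, hk⟩ := ha ⟨b, hb⟩
      exact ⟨k, by simpa using congrArg Subtype.val hk⟩
    -- the exponent with which an element acts on `A`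
    have hact : ∀ g : G, ∃ k : ℤ, g * a * g⁻¹ = (a : G) ^ k := fun g => by
      obtain ⟨k, hk⟩ := hgen _ (hAn.conj_mem a a.2 g)
      exact ⟨k, hk.symm⟩
    choose k hk using hact
    have hkc : ∀ g : G, ∀ i : ℤ, g * (a : G) ^ i * g⁻¹ = (a : G) ^ (k g * i) := fun g i => by
      rw [← conj_zpow, hk, zpow_mul]
    have hN : ∀ i j : ℤ, (a : G) ^ i = (a : G) ^ j ↔ ((2 : ℤ) ^ n) ∣ j - i := fun i j => by
      rw [zpow_eq_zpow_iff_modEq, hord, Int.modEq_iff_dvd]
      norm_num
    have hmul : ∀ g h : G, (a : G) ^ k (g * h) = (a : G) ^ (k g * k h) := fun g h => by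
      rw [← hkc, ← hk, ← hk]; group
    have hA' : ∀ g : G, g * a * g⁻¹ = a → g ∈ A := fun g hg => hself
      (mem_centralizer_iff.2 fun b hb => by
        obtain ⟨i, rfl⟩ := hgen b hb
        have : Commute g (a : G) := by
          show g * a = a * g
          conv_rhs => rw [← hg]
          group
        exact (this.zpow_right i).symm.eq)
    -- `E` gives at least four exponents
    haveI := Fintype.ofFinite E
    let ρ : E → ZMod (2 ^ n) := fun e => (k (e : G) : ZMod (2 ^ n))
    have hρ : ∀ e f : E, ρ e = ρ f → ((e : G) * f) ∈ A := by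
      intro e f hef
      have h1 : ((2 : ℤ) ^ n) ∣ k f - k e := by
        have := (ZMod.intCast_eq_intCast_iff_dvd_sub _ _ _).1 hef
        simpa using this
      apply hA'
      have h2 : (a : G) ^ k e = (a : G) ^ k f := (hN _ _).2 h1
      have h3 : (f : G) * (f : G) = 1 := by rw [← pow_two]; exact hE f f.2
      calc (e : G) * f * a * ((e : G) * f)⁻¹ = e * (f * a * (f : G)⁻¹) * (e : G)⁻¹ := by group
        _ = e * (e * a * (e : G)⁻¹) * (e : G)⁻¹ := by rw [hk, hk, h2]
        _ = ((e : G) * e) * a * ((e : G) * e)⁻¹ := by group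
        _ = a := by rw [← pow_two, hE e e.2]; group
    have hfour : 4 ≤ (Finset.univ.image ρ : Finset (ZMod (2 ^ n))).card := by
      by_contra hlt
      push Not at hlt
      have hfib : ∀ c ∈ Finset.univ.image ρ, (Finset.univ.filter fun e => ρ e = c).card ≤ 2 := by
        intro c _
        by_contra hc
        push Not at hc
        obtain ⟨e, f, g, he, hf, hg, hef, heg, hfg⟩ := Finset.two_lt_card_iff.1 hc
        simp only [Finset.mem_filter, Finset.mem_univ, true_and] at he hf hg
        have sqE : ∀ x : E, (x : G) * x = 1 := fun x => by rw [← pow_two]; exact hE x x.2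
        have comm : ∀ x y : E, (x : G) * y = y * x := fun x y => by
          have h1 : ((x : G) * y) * (x * y) = 1 := sqE (x * y)
          rw [eq_inv_of_mul_eq_one_left h1, mul_inv_rev, inv_eq_of_mul_eq_one_right (sqE x),
            inv_eq_of_mul_eq_one_right (sqE y)]
        have memO : ∀ x : E, ρ x = ρ e → (x : G) * e ∈ O := fun x hx =>
          ⟨hρ x e hx, hE _ (mul_mem x.2 e.2)⟩
        have ne1 : ∀ x : E, e ≠ x → (x : G) * e ≠ 1 := fun x hx h => hx (Subtype.ext (by
          rw [eq_inv_of_mul_eq_one_left h, inv_eq_of_mul_eq_one_right (sqE e)]))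
        have := hO _ (memO f (hf.trans he.symm)) _ (memO g (hg.trans he.symm)) (ne1 f hef)
          (ne1 g heg)
        exact hfg (Subtype.ext (mul_right_cancel this))
      have := Finset.card_le_mul_card_image Finset.univ 2 hfib
      rw [Finset.card_univ, ← Nat.card_eq_fintype_card, hcard] at this
      omega
    -- square roots of one modulo `2 ^ n`
    have hroot : ∀ e : E, ((2 : ℤ) ^ n) ∣ k e * k e - 1 := fun e => by
      rw [← hN]
      have h := hmul e e
      rw [show (e : G) * e = 1 by rw [← pow_two]; exact hE e e.2] at h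
      rw [← h, ← hk]
      simp
    have hn3 : 3 ≤ n := by
      by_contra hlt
      push Not at hlt
      have hsub : ∀ e : E, ρ e ∈ ({1, -1} : Finset (ZMod (2 ^ n))) := by
        intro e
        have h := hroot e
        interval_cases n
        · have hρ0 : ∀ c : ZMod (2 ^ 0), c = 1 := by decide
          simp [hρ0 (ρ e)]
        · refine zmod_sq_two _ ?_
          have := (ZMod.intCast_eq_intCast_iff_dvd_sub 1 (k e * k e) (2 ^ 1)).2 (by simpa using h)
          push_cast at this
          exact this.symm
        · refine zmod_sq_four _ ?_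
          have := (ZMod.intCast_eq_intCast_iff_dvd_sub 1 (k e * k e) (2 ^ 2)).2 (by simpa using h)
          push_cast at this
          exact this.symm
      have := Finset.card_le_card (s := Finset.univ.image ρ) (t := {1, -1}) (by
        intro c hc
        obtain ⟨e, -, rfl⟩ := Finset.mem_image.1 hc
        exact hsub e)
      have := Finset.card_le_two (a := (1 : ZMod (2 ^ n))) (b := -1)
      omega
    obtain ⟨m, rfl⟩ : ∃ m, n = m + 3 := ⟨n - 3, by omega⟩
    let h' : ℤ := 2 ^ (m + 2)
    obtain ⟨e, he⟩ : ∃ e : E, ((2 : ℤ) ^ (m + 3)) ∣ k e - (1 + h') := by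
      by_contra hcon
      push Not at hcon
      have hsub : ∀ e : E, ρ e ∈ ({((1 : ℤ) : ZMod (2 ^ (m + 3))),
          ((-1 : ℤ) : ZMod (2 ^ (m + 3))), ((-1 + h' : ℤ) : ZMod (2 ^ (m + 3)))} : Finset _) := by
        intro e
        simp only [Finset.mem_insert, Finset.mem_singleton, ρ,
          ZMod.intCast_eq_intCast_iff_dvd_sub]
        push_cast
        have hd := hroot e
        have h2 : (2 : ℤ) ^ (m + 3) = 2 * h' := by simp [h']; ring
        have h4 : h' = 4 * 2 ^ m := by simp [h']; ring
        have hodd : ¬ (2 : ℤ) ∣ k e := by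
          intro h2k
          have h5 : (2 : ℤ) ∣ k e * k e - 1 := (dvd_pow_self _ (by omega)).trans hd
          have := dvd_sub (h2k.mul_right (k e)) h5
          rw [sub_sub_cancel] at this
          norm_num at this
        obtain ⟨q, hq⟩ : ∃ q, k e = 2 * q + 1 := ⟨k e / 2, by omega⟩
        -- `4 q (q + 1)` is divisible by `2 h'`
        have hdq : (2 : ℤ) ^ (m + 1) ∣ q * (q + 1) := by
          have : (4 : ℤ) * 2 ^ (m + 1) ∣ 4 * (q * (q + 1)) := by
            convert hd using 1 <;> [ring; (rw [hq]; ring)]
          exact Int.dvd_of_mul_dvd_mul_left (by norm_num) this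
        have hcases : (2 : ℤ) ^ (m + 1) ∣ q ∨ (2 : ℤ) ^ (m + 1) ∣ q + 1 := by
          by_cases hq2 : (2 : ℤ) ∣ q
          · left
            refine (IsCoprime.pow_left ?_).dvd_of_dvd_mul_right hdq
            exact (Prime.coprime_iff_not_dvd Int.prime_two).2 (by omega)
          · right
            refine (IsCoprime.pow_left ?_).dvd_of_dvd_mul_left hdq
            exact (Prime.coprime_iff_not_dvd Int.prime_two).2 hq2
        rcases hcases with ⟨c, hc⟩ | ⟨c, hc⟩
        · rcases Int.even_or_odd c with ⟨d, hd'⟩ | ⟨d, hd'⟩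
          · left; refine ⟨-d, ?_⟩
            rw [hq, hc, hd']; ring
          · exfalso
            refine hcon e ⟨d, ?_⟩
            rw [hq, hc, hd']; simp [h']; ring
        · rcases Int.even_or_odd c with ⟨d, hd'⟩ | ⟨d, hd'⟩
          · right; left; refine ⟨-d, ?_⟩
            have : q = 2 ^ (m + 1) * c - 1 := by linarith
            rw [hq, this, hd']; ring
          · right; right; refine ⟨-d, ?_⟩
            have : q = 2 ^ (m + 1) * c - 1 := by linarith
            rw [hq, this, hd']; simp [h']; ring
      have h3 := Finset.card_le_card (s := Finset.univ.image ρ) (t :=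
        ({((1 : ℤ) : ZMod (2 ^ (m + 3))), ((-1 : ℤ) : ZMod (2 ^ (m + 3))),
          ((-1 + h' : ℤ) : ZMod (2 ^ (m + 3)))} : Finset _)) (by
        intro c hc
        obtain ⟨e, -, rfl⟩ := Finset.mem_image.1 hc
        exact hsub e)
      have := Finset.card_le_three (a := ((1 : ℤ) : ZMod (2 ^ (m + 3))))
        (b := ((-1 : ℤ) : ZMod (2 ^ (m + 3)))) (c := ((-1 + h' : ℤ) : ZMod (2 ^ (m + 3))))
      omega
    obtain ⟨z, hzdef⟩ : ∃ z : G, z = (a : G) ^ h' := ⟨_, rfl⟩
    have hzsq : z * z = 1 := by
      rw [hzdef, ← zpow_add, ← zpow_zero (a : G), hN]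
      exact ⟨-1, by simp [h']; ring⟩
    have hz1 : z ≠ 1 := by
      rw [hzdef, ← zpow_zero (a : G), Ne, hN]
      rintro ⟨c, hc⟩
      have hh : (2 : ℤ) ^ (m + 2) ≠ 0 := by positivity
      have hp : (2 : ℤ) ^ (m + 3) = 2 * 2 ^ (m + 2) := by ring
      have h2c : 2 * c = -1 := mul_left_cancel₀ hh (by
        simp only [h'] at hc
        rw [hp] at hc
        linear_combination -hc)
      omega
    have hzA : z ∈ A := hzdef ▸ A.zpow_mem a.2 h'
    have hzO : z ∈ O := ⟨hzA, by rw [pow_two]; exact hzsq⟩
    have hzc : z ∈ center G := by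
      rw [mem_center_iff]
      intro g
      have h1 : g * z * g⁻¹ ∈ O := hOn.conj_mem z hzO g
      have h2 : g * z * g⁻¹ = z := hO _ h1 _ hzO (fun h => hz1 (by simpa using h)) hz1
      calc g * z = g * z * g⁻¹ * g := by group
        _ = z * g := by rw [h2]
    have hesq : (e : G) * e = 1 := by rw [← pow_two]; exact hE e e.2
    have heA : (e : G) ∉ A := by
      intro h
      have h1 := hk (e : G)
      rw [hAc _ h _ a.2, mul_inv_cancel_right] at h1
      have h2 : (a : G) ^ (1 : ℤ) = (a : G) ^ k e := by rw [zpow_one]; exact h1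
      have h3 := dvd_sub ((hN _ _).1 h2) he
      rw [show k e - 1 - (k e - (1 + h')) = h' by ring] at h3
      obtain ⟨c, hc⟩ := h3
      have hh : (2 : ℤ) ^ (m + 2) ≠ 0 := by positivity
      have hp : (2 : ℤ) ^ (m + 3) = 2 * 2 ^ (m + 2) := by ring
      have h2c : 2 * c = 1 := mul_left_cancel₀ hh (by
        simp only [h'] at hc
        rw [hp] at hc
        linear_combination -hc)
      omega
    have hea : ∀ i : ℤ, (e : G) * (a : G) ^ i * (e : G) = (a : G) ^ ((1 + h') * i) := by
      intro i
      have h1 := hkc e i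
      rw [inv_eq_of_mul_eq_one_right hesq] at h1
      rw [h1, hN]
      have h5 := (dvd_neg.2 he).mul_right i
      have h7 : (1 + h') * i - k (e : G) * i = -(k (e : G) - (1 + h')) * i := by ring
      rwa [h7]
    refine ⟨z, e, hzc, hzsq, hz1, hesq, fun h => heA (h ▸ A.one_mem), fun h => heA (h ▸ hzA),
      fun g => ?_⟩
    -- `e` and its conjugate act in the same way
    have hmem : (g * e * g⁻¹) * e ∈ A := by
      apply hA'
      obtain ⟨j, hj⟩ := hgen _ (hAn.conj_mem a a.2 g⁻¹)
      have h1 : (e : G) * a * e = (a : G) ^ (1 + h') := by simpa using hea 1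
      have h2 : g * (a : G) ^ j * g⁻¹ = a := by rw [hj]; group
      calc (g * e * g⁻¹) * e * a * ((g * e * g⁻¹) * e)⁻¹
          = g * e * g⁻¹ * ((e : G) * a * (e : G)⁻¹) * g * (e : G)⁻¹ * g⁻¹ := by group
        _ = g * e * (g⁻¹ * (a : G) ^ (1 + h') * (g⁻¹)⁻¹) * e * g⁻¹ := by
            rw [inv_eq_of_mul_eq_one_right hesq, h1]; group
        _ = g * (e * ((a : G) ^ j) ^ (1 + h') * e) * g⁻¹ := by
            rw [← conj_zpow, ← hj]; group
        _ = g * ((a : G) ^ ((1 + h') * (j * (1 + h')))) * g⁻¹ := by rw [← zpow_mul, hea]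
        _ = g * (a : G) ^ j * g⁻¹ := by
            congr 2
            rw [hN]
            exact ⟨-j * (1 + 2 ^ (m + 1)), by simp [h']; ring⟩
        _ = a := h2
    obtain ⟨i, hi⟩ := hgen _ hmem
    have hge : g * e * g⁻¹ = (a : G) ^ i * e := by
      rw [hi, mul_assoc (g * (e : G) * g⁻¹) (e : G) (e : G), hesq, mul_one]
    have hsq : ((a : G) ^ i * e) * ((a : G) ^ i * e) = 1 := by
      rw [← hge]
      calc g * (e : G) * g⁻¹ * (g * (e : G) * g⁻¹) = g * ((e : G) * e) * g⁻¹ := by group
        _ = 1 := by rw [hesq]; group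
    have hi2 : ((2 : ℤ) ^ (m + 3)) ∣ i * (2 + h') := by
      have : (a : G) ^ (i + (1 + h') * i) = 1 := by
        rw [zpow_add, ← hea, ← hsq]; group
      rw [← zpow_zero (a : G), hN] at this
      have h6 := dvd_neg.2 this
      have h7 : i * (2 + h') = -(0 - (i + (1 + h') * i)) := by ring
      rwa [h7]
    have hdiv : h' ∣ i := by
      have h1 : (2 : ℤ) * h' ∣ 2 * (i * (1 + 2 ^ (m + 1))) := by
        convert hi2 using 1 <;> simp [h'] <;> ring
      have h2 := Int.dvd_of_mul_dvd_mul_left (by norm_num) h1
      refine IsCoprime.dvd_of_dvd_mul_right (IsCoprime.pow_left ?_) h2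
      exact (Prime.coprime_iff_not_dvd Int.prime_two).2
        (fun h => by have := dvd_sub h (dvd_pow_self (2 : ℤ) (by omega : m + 1 ≠ 0)); norm_num at this)
    obtain ⟨c, rfl⟩ := hdiv
    have hzc' : z * (e : G) = e * z := (mem_center_iff.1 hzc e).symm
    rcases Int.even_or_odd c with ⟨d, rfl⟩ | ⟨d, rfl⟩
    · left
      rw [hge, zpow_mul, ← hzdef, ← two_mul, zpow_mul, zpow_two, hzsq, one_zpow, one_mul]
    · right
      rw [hge, zpow_mul, ← hzdef, zpow_add, zpow_mul, zpow_two, hzsq, one_zpow, one_mul, zpow_one,
        hzc']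

/-- In a group without subgroup of index 2 and of 2-rank at least 3, every involution centralizer
has 2-rank at least 3. -/
theorem exists_elementary_centralizer [Finite G] (hno : ∀ H : Subgroup G, H.index ≠ 2)
    (hrank : ∃ E : Subgroup G, Nat.card E = 8 ∧ ∀ e ∈ E, e ^ 2 = 1) (x : G) (hx : orderOf x = 2) :
    ∃ E : Subgroup G, E ≤ centralizer ({x} : Set G) ∧ Nat.card E = 8 ∧ ∀ e ∈ E, e ^ 2 = 1 := by
  classical
  haveI : Fact (Nat.Prime 2) := ⟨Nat.prime_two⟩
  obtain ⟨E, hE8, hE⟩ := hrank
  obtain ⟨P, hEP⟩ := (IsPGroup.of_card (n := 3) (by simpa using hE8) : IsPGroup 2 E).exists_le_sylow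
  let E' : Subgroup (P : Subgroup G) := E.subgroupOf P
  obtain ⟨z', e', hzc, hzsq, hz1, hesq, he1, hez, hconj⟩ :=
    exists_four P.2 E' (fun a ha => Subtype.ext (hE a ha))
      ((Nat.card_congr (Subgroup.subgroupOfEquivOfLe hEP).toEquiv).trans hE8)
  -- every involution of `P` centralizing `e'` has rank three centralizer
  have key : ∀ y : (P : Subgroup G), orderOf (y : G) = 2 → y * e' = e' * y →
      ∃ F : Subgroup G, F ≤ centralizer ({(y : G)} : Set G) ∧ Nat.card F = 8 ∧
        ∀ f ∈ F, f ^ 2 = 1 := by
    intro y hy hye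
    have hy2 : y * y = 1 := Subtype.ext (by
      have h2 := pow_orderOf_eq_one (y : G)
      rw [hy, pow_two] at h2
      exact h2)
    -- it suffices to work inside `P`
    suffices h : ∃ F : Subgroup (P : Subgroup G), (∀ f ∈ F, f * y = y * f) ∧ Nat.card F = 8 ∧
        ∀ f ∈ F, f ^ 2 = 1 by
      obtain ⟨F, hF1, hF2, hF3⟩ := h
      refine ⟨F.map (P : Subgroup G).subtype, ?_, ?_, ?_⟩
      · rintro _ ⟨f, hf, rfl⟩
        exact mem_centralizer_singleton_iff.2 (congrArg Subtype.val (hF1 f hf))
      · rw [← Nat.card_congr (Subgroup.equivMapOfInjective F _ (P : Subgroup G).subtype_injective).toEquiv, hF2]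
      · rintro _ ⟨f, hf, rfl⟩
        exact congrArg Subtype.val (hF3 f hf)
    -- the four-group
    have hze : ∀ t : (P : Subgroup G), t * z' = z' * t := mem_center_iff.1 hzc
    obtain ⟨Z, hZ2, hZsq, hzZ, -⟩ := exists_double (E := (⊥ : Subgroup (P : Subgroup G)))
      (fun a ha => by rw [mem_bot] at ha; rw [ha, one_pow]) hzsq (by simpa using hz1)
      (fun a ha => by rw [mem_bot] at ha; simp [ha])
    rw [Subgroup.card_bot, one_mul] at hZ2
    have hZmem : ∀ t ∈ Z, t = 1 ∨ t = z' := by
      intro t ht
      haveI := Fintype.ofFinite Z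
      by_contra hcon
      push Not at hcon
      have : 2 < Fintype.card Z :=
        Fintype.two_lt_card_iff.2 ⟨1, ⟨z', hzZ⟩, ⟨t, ht⟩, fun h => hz1 (congrArg Subtype.val h).symm,
          fun h => hcon.1 (congrArg Subtype.val h).symm, fun h => hcon.2 (congrArg Subtype.val h).symm⟩
      rw [← Nat.card_eq_fintype_card, hZ2] at this
      omega
    have hcomZ : ∀ t : (P : Subgroup G), ∀ a ∈ Z, a * t = t * a := fun t a ha => by
      rcases hZmem a ha with rfl | rfl
      · simp
      · exact (hze t).symm
    obtain ⟨U, hU4, hUsq, heU, hZU⟩ := exists_double hZsq hesq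
      (fun h => (hZmem e' h).elim he1 hez) (hcomZ e')
    rw [hZ2] at hU4
    have comm : ∀ (K : Subgroup (P : Subgroup G)), (∀ a ∈ K, a ^ 2 = 1) → ∀ a ∈ K, ∀ b ∈ K,
        a * b = b * a := fun K hK a ha b hb => by
      have h1 : ∀ c ∈ K, c⁻¹ = c := fun c hc =>
        inv_eq_of_mul_eq_one_right (by rw [← pow_two]; exact hK c hc)
      rw [← h1 _ (mul_mem ha hb), mul_inv_rev, h1 a ha, h1 b hb]
    by_cases hyU : y ∈ U
    · -- `y` lies in the four-group
      by_cases hyZ : y ∈ Z
      · refine ⟨E', fun f hf => (hcomZ f y hyZ).symm, ?_, fun f hf => Subtype.ext (hE f hf)⟩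
        exact (Nat.card_congr (Subgroup.subgroupOfEquivOfLe hEP).toEquiv).trans hE8
      · by_cases hyE : y ∈ E'
        · refine ⟨E', fun f hf => comm E' (fun a ha => Subtype.ext (hE a ha)) f hf y hyE, ?_,
            fun f hf => Subtype.ext (hE f hf)⟩
          exact (Nat.card_congr (Subgroup.subgroupOfEquivOfLe hEP).toEquiv).trans hE8
        · -- conjugates of `y` lie in `{y, y z}`
          have hyconj : ∀ g : (P : Subgroup G), g * y * g⁻¹ = y ∨ g * y * g⁻¹ = y * z' := by
            intro g
            have hy' : ∃ w ∈ Z, y = e' * w := by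
              obtain ⟨V, hV2, -, -, -⟩ := exists_double hZsq hesq
                (fun h => (hZmem e' h).elim he1 hez) (hcomZ e')
              by_contra hcon
              push Not at hcon
              have hc5 : ({1, z', e', e' * z', y} : Finset (P : Subgroup G)).card ≤ Nat.card U := by
                refine finset_card_le _ U fun t ht => ?_
                simp only [Finset.mem_insert, Finset.mem_singleton] at ht
                rcases ht with h | h | h | h | h <;> rw [h]
                exacts [U.one_mem, hZU hzZ, heU, mul_mem heU (hZU hzZ), hyU]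
              have a1 : e' * z' ≠ 1 := fun h => hez (by
                rw [eq_inv_of_mul_eq_one_left h, inv_eq_of_mul_eq_one_right hzsq])
              have a2 : e' * z' ≠ z' := fun h => he1 (by simpa using h)
              have a3 : e' * z' ≠ e' := fun h => hz1 (by simpa using h)
              have a4 : y ≠ 1 := fun h => hyZ (h ▸ Z.one_mem)
              have a5 : y ≠ z' := fun h => hyZ (h ▸ hzZ)
              have a6 : y ≠ e' := fun h => hcon 1 Z.one_mem (by rw [h, mul_one])
              have a7 : y ≠ e' * z' := hcon z' hzZ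
              have h5 : ({1, z', e', e' * z', y} : Finset (P : Subgroup G)).card = 5 := by
                rw [Finset.card_insert_of_notMem, Finset.card_insert_of_notMem,
                  Finset.card_insert_of_notMem, Finset.card_insert_of_notMem,
                  Finset.card_singleton] <;>
                  simp [hz1.symm, he1.symm, hez.symm, a1.symm, a2.symm, a3.symm, a4.symm, a5.symm,
                    a6.symm, a7.symm]
              omega
            obtain ⟨w, hw, rfl⟩ := hy'
            have : g * (e' * w) * g⁻¹ = (g * e' * g⁻¹) * w := by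
              rw [← mul_assoc, mul_assoc _ w g⁻¹, hcomZ g⁻¹ w hw]; group
            rcases hconj g with h | h
            · left; rw [this, h]
            · right; rw [this, h, mul_assoc, mul_assoc, hze w]
          -- the part of `E'` centralizing `y`
          let K : Subgroup (P : Subgroup G) := E' ⊓ centralizer {y}
          have hK : 4 ≤ Nat.card K := by
            let f : E' → Bool := fun g => decide ((g : (P : Subgroup G)) * y = y * g)
            haveI := Fintype.ofFinite E'
            have h1 : ∀ g : E', f g = false → (g : (P : Subgroup G)) * y * (g : (P : Subgroup G))⁻¹ = y * z' := by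
              intro g hg
              refine (hyconj g).resolve_left fun h => ?_
              simp only [f, decide_eq_false_iff_not] at hg
              exact hg (by conv_rhs => rw [← h, inv_mul_cancel_right])
            have hE8' : Nat.card E' = 8 :=
              (Nat.card_congr (Subgroup.subgroupOfEquivOfLe hEP).toEquiv).trans hE8
            by_cases hall : ∀ g : E', f g = true
            · have : E' ≤ K := fun g hg => ⟨hg, mem_centralizer_singleton_iff.2 (by
                simpa [f] using hall ⟨g, hg⟩)⟩
              have := Subgroup.card_le_of_le this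
              omega
            · push Not at hall
              obtain ⟨g₀, hg₀⟩ := hall
              have hg₀' := h1 g₀ (by simpa using hg₀)
              -- `E'` is covered by two cosets of `K`
              have hcov : ∀ g : E', (g : (P : Subgroup G)) ∈ K ∨
                  (g₀ : (P : Subgroup G))⁻¹ * g ∈ K := by
                intro g
                by_cases hg : f g = true
                · exact .inl ⟨g.2, mem_centralizer_singleton_iff.2 (by simpa [f] using hg)⟩
                · refine .inr ⟨E'.mul_mem (E'.inv_mem g₀.2) g.2, mem_centralizer_singleton_iff.2 ?_⟩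
                  have hg' := h1 g (by simpa using hg)
                  have : (g : (P : Subgroup G)) * y * (g : (P : Subgroup G))⁻¹ =
                      g₀ * y * (g₀ : (P : Subgroup G))⁻¹ := by rw [hg', hg₀']
                  calc (g₀ : (P : Subgroup G))⁻¹ * g * y
                      = (g₀ : (P : Subgroup G))⁻¹ * (g * y * (g : (P : Subgroup G))⁻¹) * g := by group
                    _ = _ := by rw [this]; group
              have : Nat.card E' ≤ Nat.card (K ⊕ K) := by
                refine Nat.card_le_card_of_injective (fun g =>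
                  if h : (g : (P : Subgroup G)) ∈ K then .inl ⟨g, h⟩
                  else .inr ⟨(g₀ : (P : Subgroup G))⁻¹ * g, (hcov g).resolve_left h⟩) ?_
                intro s t hst
                dsimp only at hst
                by_cases hs : (s : (P : Subgroup G)) ∈ K <;>
                  by_cases ht : (t : (P : Subgroup G)) ∈ K <;>
                  simp only [hs, ht, dif_pos, dif_neg, not_false_iff] at hst
                · exact Subtype.ext (congrArg Subtype.val (Sum.inl.inj hst) :)
                · cases hst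
                · cases hst
                · exact Subtype.ext (mul_left_cancel (congrArg Subtype.val (Sum.inr.inj hst) :))
              rw [hE8', Nat.card_sum] at this
              omega
          obtain ⟨F, hF, hFsq, hyF, -⟩ := exists_double (E := K)
            (fun a ha => Subtype.ext (hE a ha.1)) hy2 (fun h => hyE h.1)
            (fun a ha => mem_centralizer_singleton_iff.1 ha.2)
          obtain ⟨F', hF', hF'card⟩ : ∃ F' : Subgroup (P : Subgroup G), F' ≤ F ∧ Nat.card F' = 8 := by
            have hpg : IsPGroup 2 F := P.2.to_subgroup F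
            obtain ⟨j, hj⟩ := hpg.exists_card_eq
            have h3 : 2 ^ 3 ≤ 2 ^ j := by rw [← hj, hF]; omega
            have h3' : 3 ≤ j := (Nat.pow_le_pow_iff_right (by norm_num)).1 h3
            obtain ⟨F', hF'⟩ := Sylow.exists_subgroup_card_pow_prime 2 (n := 3) (G := F)
              (hj ▸ pow_dvd_pow 2 h3')
            exact ⟨F'.map F.subtype, map_subtype_le F', by
              rw [← Nat.card_congr (Subgroup.equivMapOfInjective F' _ F.subtype_injective).toEquiv, hF']
              norm_num⟩
          exact ⟨F', fun f hf => comm F hFsq f (hF' hf) y hyF, hF'card, fun f hf => hFsq f (hF' hf)⟩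
    · obtain ⟨F, hF, hFsq, hyF, -⟩ := exists_double hUsq hy2 hyU (by
        intro a ha
        -- generators of `U` commute with `y`
        have hUgen : U ≤ centralizer {y} := by
          intro t ht
          refine mem_centralizer_singleton_iff.2 ?_
          by_contra hne
          have hcases : ∀ w : (P : Subgroup G), w ∈ ({1, z', e', e' * z'} : Finset (P : Subgroup G)) →
              w * y = y * w := by
            intro w hw
            simp only [Finset.mem_insert, Finset.mem_singleton] at hw
            rcases hw with rfl | rfl | rfl | rfl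
            · simp
            · exact (hze y).symm
            · exact hye.symm
            · rw [mul_assoc, ← hze y, ← mul_assoc, ← hye, mul_assoc]
          have a1 : e' * z' ≠ 1 := fun h => hez (by
            rw [eq_inv_of_mul_eq_one_left h, inv_eq_of_mul_eq_one_right hzsq])
          have a2 : e' * z' ≠ z' := fun h => he1 (by simpa using h)
          have a3 : e' * z' ≠ e' := fun h => hz1 (by simpa using h)
          have ht' : t ∉ ({1, z', e', e' * z'} : Finset (P : Subgroup G)) := fun h => hne (hcases t h)
          have h5 : (insert t ({1, z', e', e' * z'} : Finset (P : Subgroup G))).card = 5 := by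
            rw [Finset.card_insert_of_notMem ht', Finset.card_insert_of_notMem,
              Finset.card_insert_of_notMem, Finset.card_insert_of_notMem,
              Finset.card_singleton] <;>
              simp [hz1.symm, he1.symm, hez.symm, a1.symm, a2.symm, a3.symm]
          have hc5 : (insert t ({1, z', e', e' * z'} : Finset (P : Subgroup G))).card ≤ Nat.card U := by
            refine finset_card_le _ U fun t' this => ?_
            simp only [Finset.mem_insert, Finset.mem_singleton] at this
            rcases this with h | h | h | h | h <;> rw [h]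
            exacts [ht, U.one_mem, hZU hzZ, heU, mul_mem heU (hZU hzZ)]
          omega
        exact mem_centralizer_singleton_iff.1 (hUgen ha))
      refine ⟨F, fun f hf => comm F hFsq f hf y hyF, by omega, hFsq⟩
  -- move `x` into `P`
  obtain ⟨Q, hQ⟩ := (IsPGroup.of_card (n := 1) (by rw [Nat.card_zpowers, hx]; norm_num) :
    IsPGroup 2 (zpowers x)).exists_le_sylow
  obtain ⟨g, hg⟩ := MulAction.exists_smul_eq G Q P
  have hxP : g * x * g⁻¹ ∈ (P : Subgroup G) := by
    rw [← hg, Sylow.coe_subgroup_smul]
    exact ⟨x, hQ (mem_zpowers x), rfl⟩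
  -- some conjugate commutes with `e'`
  obtain ⟨h, hhP, hhe⟩ : ∃ h : G, ∃ hh : h * x * h⁻¹ ∈ (P : Subgroup G),
      (⟨_, hh⟩ : (P : Subgroup G)) * e' = e' * ⟨_, hh⟩ := by
    by_cases hcomm : ∀ t : (P : Subgroup G), t * e' = e' * t
    · exact ⟨g, hxP, hcomm _⟩
    · by_contra hcon
      push Not at hcon
      push Not at hcomm
      obtain ⟨t₀, ht₀⟩ := hcomm
      let M : Subgroup (P : Subgroup G) := centralizer {e'}
      have hM : M.index = 2 := by
        rw [Subgroup.index_eq_two_iff]
        refine ⟨t₀⁻¹, fun b => ?_⟩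
        have hiff : ∀ t, t ∈ M ↔ t * e' * t⁻¹ = e' := fun t => by
          rw [mem_centralizer_singleton_iff, mul_inv_eq_iff_eq_mul]
        have ht0' : t₀⁻¹ * e' * t₀⁻¹⁻¹ = e' * z' := by
          refine (hconj t₀⁻¹).resolve_left fun h => ht₀ ?_
          calc t₀ * e' = t₀ * (t₀⁻¹ * e' * t₀⁻¹⁻¹) := by rw [h]
            _ = e' * t₀ := by group
        have ht0'' : t₀ * e' * t₀⁻¹ = e' * z' := by
          refine (hconj t₀).resolve_left fun h => ht₀ ?_
          calc t₀ * e' = t₀ * e' * t₀⁻¹ * t₀ := by group
            _ = e' * t₀ := by rw [h]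
        rcases hconj b with hb | hb
        · refine Or.inr ⟨(hiff b).2 hb, fun hbad => ?_⟩
          have h7 := (hiff _).1 (mul_mem (inv_mem ((hiff b).2 hb)) hbad)
          rw [inv_mul_cancel_left] at h7
          rw [ht0'] at h7
          exact hz1 (by simpa using h7)
        · refine Or.inl ⟨(hiff _).2 ?_, fun hbad => ?_⟩
          · calc b * t₀⁻¹ * e' * (b * t₀⁻¹)⁻¹ = b * (t₀⁻¹ * e' * t₀⁻¹⁻¹) * b⁻¹ := by group
              _ = (b * e' * b⁻¹) * z' := by
                rw [ht0', mul_assoc, mul_assoc e' z' b⁻¹, ← mem_center_iff.1 hzc b⁻¹]; group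
              _ = e' := by rw [hb, mul_assoc, hzsq, mul_one]
          · exact hz1 (by simpa [hb] using (hiff b).1 hbad)
      obtain ⟨M', hM'n, hM'i, -⟩ := TransferThompson.thompson_transfer P (M.map (P : Subgroup G).subtype)
        (map_subtype_le M)
        (by rw [Subgroup.relIndex, Subgroup.subgroupOf, Subgroup.comap_map_eq_self_of_injective
          (P : Subgroup G).subtype_injective]; exact hM)
        (u := g * x * g⁻¹)
        (by rw [← hx]; exact orderOf_injective (MulAut.conj g).toMonoidHom (MulAut.conj g).injective x)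
        hxP
        (by
          rintro a ⟨⟨w, hw⟩, hwM, hwa⟩
          have hw' : w = (a * g) * x * (a * g)⁻¹ := by
            rw [show (a * g) * x * (a * g)⁻¹ = a * (g * x * g⁻¹) * a⁻¹ by group]; exact hwa
          subst hw'
          exact hcon (a * g) hw (mem_centralizer_singleton_iff.1 hwM))
      exact hno M' hM'i
  have hord : orderOf (h * x * h⁻¹) = 2 :=
    (orderOf_injective (MulAut.conj h).toMonoidHom (MulAut.conj h).injective x).trans hx
  obtain ⟨F, hF1, hF2, hF3⟩ := key ⟨_, hhP⟩ hord hhe
  refine ⟨F.map (MulAut.conj h⁻¹).toMonoidHom, ?_, ?_, ?_⟩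
  · rintro _ ⟨f, hf, rfl⟩
    have h1 := mem_centralizer_singleton_iff.1 (hF1 hf)
    refine mem_centralizer_singleton_iff.2 ?_
    simp only [MulEquiv.coe_toMonoidHom, MulAut.conj_apply, inv_inv]
    calc h⁻¹ * f * h * x = h⁻¹ * (f * (h * x * h⁻¹)) * h := by group
      _ = h⁻¹ * ((h * x * h⁻¹) * f) * h := by rw [h1]
      _ = x * (h⁻¹ * f * h) := by group
  · rw [← Nat.card_congr (Subgroup.equivMapOfInjective F _ (MulAut.conj h⁻¹).injective).toEquiv, hF2]
  · rintro _ ⟨f, hf, rfl⟩
    rw [← map_pow, hF3 f hf, map_one]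

end Cfsg.Agent.TwoRankThree
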