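import Cfsg.Agent.Lib.TwoRegSizes38

/-!
# Two class sizes of `p`-regular elements: the centralizers of regular elements
-/

namespace Cfsg.Agent.TwoRegSizes38

variable {G : Type*} [Group G] [Finite G] {p : ℕ}

/-- Two class sizes and at least two relevant primes. -/
structure Two (G : Type*) [Group G] (p : ℕ) : Prop extends Hyp G p where
  two : ∃ q₁ q₂, InPi G p q₁ ∧ InPi G p q₂ ∧ q₁ ≠ q₂

theorem Two.exists_other (H : Two G p) (q : ℕ) : ∃ r, InPi G p r ∧ r ≠ q := by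
  obtain ⟨q₁, q₂, h1, h2, h12⟩ := H.two
  by_cases h : q₁ = q
  · exact ⟨q₂, h2, fun h' => h12 (h.trans h'.symm)⟩
  · exact ⟨q₁, h1, h⟩

theorem Two.le_cn (H : Two G p) {x w : G} (hx : Reg p x) (hw : w ∈ Cn x)
    (hwp : (orderOf w).Coprime p) : Cn x ≤ Cn w := by
  obtain ⟨q₁, q₂, h1, h2, h12⟩ := H.two
  exact H.toHyp.le_cn h1 h2 h12 hx hw hwp

theorem Two.cn_eq (H : Two G p) {x w : G} (hx : Reg p x) (hw : w ∈ Cn x) (hwR : Reg p w) :
    Cn w = Cn x :=
  (H.eq_of_le hx hwR (H.le_cn hx hw hwR.1)).symm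

theorem Two.comm (H : Two G p) {x v w : G} (hx : Reg p x) (hv : v ∈ Cn x) (hw : w ∈ Cn x)
    (hwp : (orderOf w).Coprime p) : v * w = w * v :=
  mem_cn.1 (H.le_cn hx hw hwp hv)

/-- The `p`-regular elements of a centralizer. -/
def Two.bsub (H : Two G p) {x : G} (hx : Reg p x) : Subgroup G where
  carrier := {w | w ∈ Cn x ∧ (orderOf w).Coprime p}
  mul_mem' {a b} ha hb := ⟨mul_mem ha.1 hb.1, Nat.Coprime.coprime_dvd_left
    (Commute.orderOf_mul_dvd_mul_orderOf (H.comm hx ha.1 hb.1 hb.2)) (ha.2.mul_left hb.2)⟩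
  one_mem' := ⟨one_mem _, by simp⟩
  inv_mem' {a} ha := ⟨inv_mem ha.1, by rw [orderOf_inv]; exact ha.2⟩

theorem Two.mem_bsub (H : Two G p) {x w : G} (hx : Reg p x) :
    w ∈ H.bsub hx ↔ w ∈ Cn x ∧ (orderOf w).Coprime p := Iff.rfl

theorem coprime_of_pe {q : ℕ} (H : Hyp G p) (hq : q.Prime) (hqp : q ≠ p) {w : G}
    (h : IsPE q w) : (orderOf w).Coprime p :=
  h.coprime ((Nat.coprime_primes hq H.prime).2 hqp)

theorem reg_of_pe {q : ℕ} (H : Hyp G p) (hq : q.Prime) (hqp : q ≠ p) {w : G}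
    (h : IsPE q w) (hc : w ∉ Subgroup.center G) : Reg p w :=
  ⟨coprime_of_pe H hq hqp h, hc⟩

theorem inPi_of_pe {q : ℕ} (H : Hyp G p) (hq : q.Prime) (hqp : q ≠ p) {w : G}
    (h : IsPE q w) (hc : w ∉ Subgroup.center G) : InPi G p q :=
  ⟨hq, w, reg_of_pe H hq hqp h hc, h⟩

theorem Two.bsub_mem_of_cn (H : Two G p) {x : G} (hx : Reg p x) {q : ℕ} (hq : q.Prime)
    (hqp : q ≠ p) {w : G} (hw : w ∈ Cn x) (h : IsPE q w) : w ∈ H.bsub hx :=
  ⟨hw, coprime_of_pe H.toHyp hq hqp h⟩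

/-- The Sylow `q`-subgroup of the abelian group of regular elements of a centralizer. -/
def Two.part (H : Two G p) {x : G} (hx : Reg p x) (q : ℕ) [Fact q.Prime] : Subgroup G where
  carrier := {w | w ∈ H.bsub hx ∧ ∃ n : ℕ, w ^ q ^ n = 1}
  mul_mem' {a b} ha hb := by
    obtain ⟨m, hm⟩ := ha.2
    obtain ⟨n, hn⟩ := hb.2
    refine ⟨mul_mem ha.1 hb.1, m + n, ?_⟩
    have hc : Commute a b := H.comm hx ha.1.1 hb.1.1 hb.1.2
    rw [hc.mul_pow, pow_add, pow_mul, hm, one_pow, mul_comm (q ^ m), pow_mul, hn, one_pow, mul_one]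
  one_mem' := ⟨one_mem _, 0, by simp⟩
  inv_mem' {a} ha := by
    obtain ⟨m, hm⟩ := ha.2
    exact ⟨inv_mem ha.1, m, by rw [inv_pow, hm, inv_one]⟩

theorem Two.part_isPGroup (H : Two G p) {x : G} (hx : Reg p x) (q : ℕ) [Fact q.Prime] :
    IsPGroup q (H.part hx q) := by
  rintro ⟨a, ha, m, hm⟩
  exact ⟨m, by ext; simpa using hm⟩

theorem Two.mem_part (H : Two G p) {x : G} (hx : Reg p x) {q : ℕ} [hq : Fact q.Prime] (hqp : q ≠ p)
    {w : G} : w ∈ H.part hx q ↔ w ∈ Cn x ∧ IsPE q w := by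
  constructor
  · exact fun h => ⟨h.1.1, IsPE.of_mem_pgroup (H.part_isPGroup hx q) h⟩
  · rintro ⟨hw, j, hj⟩
    exact ⟨H.bsub_mem_of_cn hx hq.out hqp hw ⟨j, hj⟩, j, by rw [← hj, pow_orderOf_eq_one]⟩

theorem Two.part_le (H : Two G p) {x : G} (hx : Reg p x) (q : ℕ) [Fact q.Prime] :
    H.part hx q ≤ Cn x := fun _ h => h.1.1

/-- `part` is a full Sylow subgroup of the centralizer. -/
theorem Two.not_dvd_relIndex_part (H : Two G p) {x : G} (hx : Reg p x) {q : ℕ} [hq : Fact q.Prime]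
    (hqp : q ≠ p) : ¬ q ∣ (H.part hx q).relIndex (Cn x) := by
  intro h
  have : ((H.part hx q).subgroupOf (Cn x)).Normal := by
    constructor
    rintro ⟨a, haC⟩ ha ⟨g, hg⟩
    rw [Subgroup.mem_subgroupOf] at ha ⊢
    have e : g * a * g⁻¹ = a := by
      rw [H.comm hx hg ha.1.1 ha.1.2]; group
    simpa [e] using ha
  obtain ⟨v, hv, hvp, hpe⟩ := exists_primePow_of_dvd_relIndex hq.out h
  exact hvp ((H.mem_part hx hqp).2 ⟨hv, hpe⟩)

/-- An element normalizing a centralizer and centralizing a regular element of it lies in it. -/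
theorem Two.mem_of_comm (H : Two G p) {x w g : G} (hx : Reg p x) (hw : w ∈ Cn x)
    (hwR : Reg p w) (h : g * w = w * g) : g ∈ Cn x := by
  rw [← H.cn_eq hx hw hwR]; exact mem_cn.2 h

theorem Two.pow_mem_center (H : Two G p) {x g : G} (hx : Reg p x) (hg : g ∉ Cn x)
    (hgp : (orderOf g).Coprime p) {n : ℕ} (hn : g ^ n ∈ Cn x) : g ^ n ∈ Subgroup.center G := by
  by_contra hc
  exact hg (H.mem_of_comm hx hn ⟨hgp.coprime_dvd_left (orderOf_pow_dvd n), hc⟩
    (Commute.refl g |>.pow_right n))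

/-- No fixed points modulo the center for coprime orders. -/
theorem Two.not_bar_comm (H : Two G p) {x w g : G} (hx : Reg p x) (hg : g ∉ Cn x) (hw : w ∈ Cn x)
    (hwR : Reg p w) (hco : (orderOf g).Coprime (orderOf w)) :
    bar g * bar w ≠ bar w * bar g := fun h => hg (H.mem_of_comm hx hw hwR (comm_of_bar_comm h hco))

theorem conj_pe {q : ℕ} {w : G} (h : IsPE q w) (g : G) : IsPE q (g * w * g⁻¹) := by
  obtain ⟨j, hj⟩ := h
  refine ⟨j, ?_⟩
  rw [← hj]
  simpa using MulEquiv.orderOf_eq (MulAut.conj g) w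

theorem conj_mem_of_normalizer {x g w : G} (hg : g ∈ Subgroup.normalizer (Cn x : Set G))
    (hw : w ∈ Cn x) : g * w * g⁻¹ ∈ Cn x :=
  (Subgroup.mem_normalizer_iff.1 hg w).1 hw

theorem conj_not_center {g w : G} (hw : w ∉ Subgroup.center G) :
    g * w * g⁻¹ ∉ Subgroup.center G := fun h => by
  apply hw
  have h3 := congrArg (fun t => g⁻¹ * t) (Subgroup.mem_center_iff.1 h g)
  have h2 : g * w * g⁻¹ = w := by simpa [mul_assoc] using h3
  rwa [h2] at h

/-- A prime dividing the index gives an element normalizing but not in the centralizer. -/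
theorem Two.exists_normalizing (H : Two G p) {x : G} (hx : Reg p x) {q : ℕ} (hq : InPi G p q)
    (hd : q ∣ (Cn x).index) :
    ∃ g, IsPE q g ∧ g ∈ Subgroup.normalizer (Cn x : Set G) ∧ g ∉ Cn x ∧ g ^ q ∈ Cn x := by
  have : Fact q.Prime := ⟨hq.1⟩
  obtain ⟨Q, hQ⟩ := (H.part_isPGroup hx q).exists_le_sylow
  have hlt : H.part hx q < Q := lt_of_le_of_ne hQ fun he => by
    have h1 : ¬ q ∣ (Q : Subgroup G).index := Q.not_dvd_index
    rw [← he, ← Subgroup.relIndex_mul_index (H.part_le hx q)] at h1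
    exact h1 (hd.mul_left _)
  have hlt' : (H.part hx q).subgroupOf Q < ⊤ := by
    rw [lt_top_iff_ne_top, Ne, Subgroup.subgroupOf_eq_top]
    exact hlt.not_ge
  have : Group.IsNilpotent (Q : Subgroup G) := Q.isPGroup'.isNilpotent
  have hn := Group.normalizerCondition_of_isNilpotent ((H.part hx q).subgroupOf Q) hlt'
  obtain ⟨⟨g, hgQ⟩, hgN, hgP⟩ := SetLike.exists_of_lt hn
  rw [Subgroup.mem_subgroupOf] at hgP
  have hgpe : IsPE q g := IsPE.of_mem_pgroup Q.isPGroup' hgQ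
  have hgC : g ∉ Cn x := fun h => hgP ((H.mem_part hx hq.ne).2 ⟨h, hgpe⟩)
  obtain ⟨y, hy, hyR, hype⟩ := H.exists_mem_cn hx hq
  have hy' : y ∈ H.part hx q := (H.mem_part hx hq.ne).2 ⟨hy, hype⟩
  have hc : g * y * g⁻¹ ∈ Cn x :=
    (Subgroup.mem_subgroupOf.1 (((Subgroup.mem_normalizer_iff.1 hgN ⟨y, hQ hy'⟩).1)
      (Subgroup.mem_subgroupOf.2 hy'))).1.1
  have hnorm : g ∈ Subgroup.normalizer (Cn x : Set G) := by
    rw [← H.cn_eq hx hy hyR]
    apply mem_normalizer_cn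
    rw [H.cn_eq hx hc ⟨coprime_of_pe H.toHyp hq.1 hq.ne (conj_pe hype g), conj_not_center hyR.2⟩,
      H.cn_eq hx hy hyR]
  obtain ⟨j, hj⟩ := hgpe
  have hex : ∃ i, g ^ q ^ i ∈ Cn x := ⟨j, by rw [← hj, pow_orderOf_eq_one]; exact one_mem _⟩
  classical
  have hi := Nat.find_spec hex
  have hi0 : Nat.find hex ≠ 0 := fun h0 => hgC (by simpa [h0] using hi)
  obtain ⟨i, hi'⟩ := Nat.exists_eq_succ_of_ne_zero hi0
  refine ⟨g ^ q ^ i, IsPE.pow hq.1 ⟨j, hj⟩ _, pow_mem hnorm _,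
    Nat.find_min hex (by omega), ?_⟩
  rw [← pow_mul, ← pow_succ]
  rwa [hi'] at hi

/-- A prime not dividing the index: normalizing elements lie in the centralizer. -/
theorem Two.mem_of_full (H : Two G p) {x g : G} (hx : Reg p x) {q : ℕ} (hq : InPi G p q)
    (hd : ¬ q ∣ (Cn x).index) (hg : g ∈ Subgroup.normalizer (Cn x : Set G)) (hgq : IsPE q g) :
    g ∈ Cn x := by
  have : Fact q.Prime := ⟨hq.1⟩
  have hP : IsPGroup q (H.part hx q) := H.part_isPGroup hx q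
  have hidx : ¬ q ∣ (H.part hx q).index := by
    rw [← Subgroup.relIndex_mul_index (H.part_le hx q), hq.1.dvd_mul, not_or]
    exact ⟨H.not_dvd_relIndex_part hx hq.ne, hd⟩
  have hnorm : Subgroup.zpowers g ≤ Subgroup.normalizer (H.part hx q : Set G) := by
    rw [Subgroup.zpowers_le]
    have key : ∀ a : G, a ∈ Subgroup.normalizer (Cn x : Set G) → ∀ w ∈ H.part hx q,
        a * w * a⁻¹ ∈ H.part hx q := fun a ha w hw =>
      (H.mem_part hx hq.ne).2 ⟨conj_mem_of_normalizer ha ((H.mem_part hx hq.ne).1 hw).1,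
        conj_pe ((H.mem_part hx hq.ne).1 hw).2 a⟩
    rw [Subgroup.mem_normalizer_iff]
    refine fun w => ⟨key g hg w, fun h => ?_⟩
    simpa [mul_assoc] using key g⁻¹ (inv_mem hg) _ h
  have hZ : IsPGroup q (Subgroup.zpowers g) := by
    obtain ⟨j, hj⟩ := hgq
    exact IsPGroup.of_card (n := j) (by rw [Nat.card_zpowers, hj])
  have hsup := IsPGroup.to_sup_of_normal_left' hP hZ hnorm
  have := (IsPGroup.toSylow hP hidx).3 hsup le_sup_left
  exact H.part_le hx q (this.le (Subgroup.mem_sup_right (Subgroup.mem_zpowers g)))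

end Cfsg.Agent.TwoRegSizes38
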