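import Cfsg.Agent.Lib.TwoRegSizesComp38

/-!
# Two class sizes of `p`-regular elements: two primes dividing the class size, odd case
-/

namespace Cfsg.Agent.TwoRegSizes38

open scoped Pointwise

/-- A group `⟨a, b⟩` of exponent `q` with fixed-point-free elements on an abelian group `V`
forces `V` to have exponent `q`. -/
theorem pow_eq_one_of_fpf {Γ : Type*} [Group Γ] {q : ℕ} (hq : q.Prime) (V : Subgroup Γ)
    (hV : ∀ u ∈ V, ∀ v ∈ V, u * v = v * u) {a b : Γ} (hab : a * b = b * a)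
    (haq : a ^ q = 1) (hbq : b ^ q = 1)
    (hN : ∀ i j : ℕ, ∀ v ∈ V, a ^ i * b ^ j * v * (a ^ i * b ^ j)⁻¹ ∈ V)
    (hfix : ∀ i j : ℕ, (¬ q ∣ i ∨ ¬ q ∣ j) → ∀ v ∈ V,
      a ^ i * b ^ j * v * (a ^ i * b ^ j)⁻¹ = v → v = 1) :
    ∀ v ∈ V, v ^ q = 1 := by
  classical
  letI : CommGroup V :=
    { (inferInstance : Group V) with mul_comm := fun u v => Subtype.ext (hV u u.2 v v.2) }
  let c : ℕ → ℕ → V →* V := fun i j =>
    { toFun := fun v => ⟨a ^ i * b ^ j * v * (a ^ i * b ^ j)⁻¹, hN i j v v.2⟩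
      map_one' := by ext; simp
      map_mul' := fun u v => by
        ext
        show a ^ i * b ^ j * (u * v : Γ) * (a ^ i * b ^ j)⁻¹ =
          a ^ i * b ^ j * u * (a ^ i * b ^ j)⁻¹ * (a ^ i * b ^ j * v * (a ^ i * b ^ j)⁻¹)
        group }
  have hc : ∀ i j (v : V), ((c i j v : V) : Γ) = a ^ i * b ^ j * v * (a ^ i * b ^ j)⁻¹ :=
    fun _ _ _ => rfl
  have hcc : ∀ i j k l (v : V), c i j (c k l v) = c (i + k) (j + l) v := by
    intro i j k l v
    ext
    rw [hc, hc, hc]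
    have hh : a ^ i * b ^ j * (a ^ k * b ^ l) = a ^ (i + k) * b ^ (j + l) := by
      have h1 : b ^ j * a ^ k = a ^ k * b ^ j :=
        ((show Commute a b from hab).pow_pow k j).symm.eq
      rw [pow_add, pow_add, mul_assoc, ← mul_assoc (b ^ j), h1]; group
    rw [← hh]; group
  have hc00 : ∀ v : V, c 0 0 v = v := fun v => by ext; simp [hc]
  have hcq : ∀ i j (v : V), c (q * i) (q * j) v = v := fun i j v => by
    ext; simp [hc, pow_mul, haq, hbq]
  have horb : ∀ i j, (¬ q ∣ i ∨ ¬ q ∣ j) → ∀ v : V,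
      ∏ n ∈ Finset.range q, c (i * n) (j * n) v = 1 := by
    intro i j hij v
    set S := ∏ n ∈ Finset.range q, c (i * n) (j * n) v
    have h1 : c i j S = S := by
      rw [map_prod]
      have e : ∀ n, c i j (c (i * n) (j * n) v) = c (i * (n + 1)) (j * (n + 1)) v := fun n => by
        rw [hcc]; congr 1 <;> ring
      rw [Finset.prod_congr rfl fun n _ => e n]
      have h2 := Finset.prod_range_succ' (fun n => c (i * n) (j * n) v) q
      rw [Finset.prod_range_succ] at h2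
      have h3 : c (i * q) (j * q) v = c (i * 0) (j * 0) v := by
        rw [mul_comm i q, mul_comm j q, hcq, mul_zero, mul_zero, hc00]
      rw [h3] at h2
      exact (mul_right_cancel h2).symm
    ext
    exact hfix i j hij _ S.2 (congrArg Subtype.val h1)
  intro v hv
  set v' : V := ⟨v, hv⟩
  suffices h : v' ^ q = 1 by simpa [v'] using congrArg Subtype.val h
  have hL : ∏ i ∈ Finset.range q, ∏ n ∈ Finset.range q, c (i * n) n v' = 1 :=
    Finset.prod_eq_one fun i _ => by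
      simpa using horb i 1 (Or.inr hq.not_dvd_one) v'
  rw [Finset.prod_comm, Finset.prod_eq_single 0] at hL
  · simpa [hc00] using hL
  · intro n hn hn0
    have hnq : ¬ q ∣ n := fun hd => by
      have := Nat.le_of_dvd (Nat.pos_of_ne_zero hn0) hd
      exact absurd (Finset.mem_range.1 hn) (not_lt.2 this)
    have e : ∀ i, c (i * n) n v' = c (n * i) (0 * i) (c 0 n v') := fun i => by
      rw [hcc, mul_comm n i]; simp
    rw [Finset.prod_congr rfl fun i _ => e i]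
    exact horb n 0 (Or.inl hnq) _
  · intro h
    exact absurd (Finset.mem_range.2 hq.pos) h

variable {G : Type*} [Group G] [Finite G] {p : ℕ}

theorem orderOf_bar {q : ℕ} (hq : q.Prime) {a : G} (ha : a ∉ Subgroup.center G)
    (haq : bar a ^ q = 1) : orderOf (bar a) = q := by
  have : Fact q.Prime := ⟨hq⟩
  exact orderOf_eq_prime haq fun h => ha (bar_eq_one.1 h)

theorem Two.part_comm (H : Two G p) {x : G} (hx : Reg p x) {q : ℕ} [Fact q.Prime] {a b : G}
    (ha : a ∈ H.part hx q) (hb : b ∈ H.part hx q) : a * b = b * a :=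
  H.comm hx ha.1.1 hb.1.1 hb.1.2

theorem Two.part_conj (H : Two G p) {x g : G} (hx : Reg p x) {q : ℕ} [Fact q.Prime] (hqp : q ≠ p)
    (hg : g ∈ Subgroup.normalizer (Cn x : Set G)) {w : G} (hw : w ∈ H.part hx q) :
    g * w * g⁻¹ ∈ H.part hx q :=
  (H.mem_part hx hqp).2 ⟨conj_mem_of_normalizer hg ((H.mem_part hx hqp).1 hw).1,
    conj_pe ((H.mem_part hx hqp).1 hw).2 g⟩

/-- There is at most one line fixed by an element outside the centralizer. -/
theorem Two.line (H : Two G p) {q r : ℕ} (hq : InPi G p q) [Fact q.Prime] (hr : InPi G p r)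
    (hqr : q ≠ r) {x g a b : G} (hx : Reg p x) (hgp : IsPE q g) (hgC : g ∉ Cn x)
    (ha : a ∈ H.part hx q) (hb : b ∈ H.part hx q) (haZ : a ∉ Subgroup.center G)
    (hag : bar a * bar g = bar g * bar a) (hbg : bar b * bar g = bar g * bar b)
    (haq : bar a ^ q = 1) (hbq : bar b ^ q = 1) : ∃ i : ℕ, bar b = bar a ^ i := by
  classical
  by_contra hne
  have : Fact r.Prime := ⟨hr.1⟩
  have hgR : Reg p g := reg_of_pe H.toHyp hq.1 hq.ne hgp fun h => hgC (center_le_cn x h)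
  have hord := orderOf_bar hq.1 haZ haq
  have hnz : ∀ i j : ℕ, (¬ q ∣ i ∨ ¬ q ∣ j) → a ^ i * b ^ j ∉ Subgroup.center G := by
    intro i j hij hc
    have h1 : bar a ^ i * bar b ^ j = 1 := by rw [← map_pow, ← map_pow, ← map_mul]; exact bar_eq_one.2 hc
    by_cases hj : q ∣ j
    · obtain ⟨k, rfl⟩ := hj
      rw [pow_mul (bar b), hbq, one_pow, mul_one] at h1
      exact hij.elim (fun h => h (hord ▸ orderOf_dvd_of_pow_eq_one h1)) (fun h => h ⟨k, rfl⟩)
    · apply hne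
      have hjq : j.Coprime q := (hq.1.coprime_iff_not_dvd.2 hj).symm
      obtain ⟨u, hu⟩ := exists_pow_eq_self_of_coprime (n := j) (x := bar b)
        (Nat.Coprime.coprime_dvd_right (orderOf_dvd_of_pow_eq_one hbq) hjq)
      have h2 : bar b ^ j = (bar a ^ i)⁻¹ := eq_inv_of_mul_eq_one_right h1
      have h3 : (bar a ^ i)⁻¹ = bar a ^ ((q - 1) * i) := by
        rw [inv_eq_iff_mul_eq_one, ← pow_add, show i + (q - 1) * i = q * i by
          conv_rhs => rw [← Nat.sub_add_cancel hq.1.one_le, add_mul, one_mul, add_comm],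
          pow_mul, haq, one_pow]
      exact ⟨(q - 1) * i * u, by rw [← hu, h2, h3, ← pow_mul]⟩
  have hbar : ∀ i j, bar (a ^ i * b ^ j) = bar a ^ i * bar b ^ j := fun i j => by
    rw [map_mul, map_pow, map_pow]
  have hcomm : ∀ i j, bar (a ^ i * b ^ j) * bar g = bar g * bar (a ^ i * b ^ j) := fun i j => by
    rw [hbar]
    exact (Commute.mul_left (Commute.pow_left hag i) (Commute.pow_left hbg j)).eq
  have hV := pow_eq_one_of_fpf hq.1 ((H.part hgR r).map bar) (a := bar a) (b := bar b)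
    (by
      rintro _ ⟨u, hu, rfl⟩ _ ⟨v, hv, rfl⟩
      rw [← map_mul, ← map_mul, H.part_comm hgR hu hv])
    (by rw [← map_mul, ← map_mul, H.part_comm hx ha hb]) haq hbq
    (by
      rintro i j _ ⟨v, hv, rfl⟩
      refine ⟨a ^ i * b ^ j * v * (a ^ i * b ^ j)⁻¹, ?_, by rw [map_mul, map_mul, map_inv, hbar]⟩
      exact H.part_conj hgR hr.ne (normalizer_of_bar_comm (hcomm i j)) hv)
    (by
      rintro i j hij _ ⟨v, hv, rfl⟩ hfix
      by_contra hv1
      have hvZ : v ∉ Subgroup.center G := fun h => hv1 (bar_eq_one.2 h)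
      set d := a ^ i * b ^ j with hd
      have hdP : d ∈ H.part hx q := mul_mem (pow_mem ha i) (pow_mem hb j)
      have hdR : Reg p d := reg_of_pe H.toHyp hq.1 hq.ne ((H.mem_part hx hq.ne).1 hdP).2 (hnz i j hij)
      have hdg : d ∉ Cn g := fun h => hgC (by
        rw [← H.cn_eq hx hdP.1.1 hdR, H.cn_eq hgR h hdR]; exact self_mem_cn g)
      rw [← hbar, ← hd, mul_inv_eq_iff_eq_mul] at hfix
      exact H.not_bar_comm hgR hdg hv.1.1 ⟨hv.1.2, hvZ⟩
        (((H.mem_part hx hq.ne).1 hdP).2.coprime_coprime ((H.mem_part hgR hr.ne).1 hv).2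
          ((Nat.coprime_primes hq.1 hr.1).2 hqr)) hfix)
  obtain ⟨y, hy, hyR, hyr⟩ := H.exists_mem_cn hgR hr
  have h1 := hV (bar y) (Subgroup.mem_map_of_mem _ ((H.mem_part hgR hr.ne).2 ⟨hy, hyr⟩))
  apply hyR.2
  rw [← bar_eq_one, ← orderOf_eq_one_iff]
  refine Nat.eq_one_of_dvd_coprimes ?_ (orderOf_dvd_of_pow_eq_one h1) (orderOf_map_dvd bar y)
  exact ((hyr.coprime ((Nat.coprime_primes hr.1 hq.1).2 hqr.symm))).symm

/-- A noncentral element of order `q` modulo the center. -/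
theorem Two.exists_order (H : Two G p) {q : ℕ} (hq : InPi G p q) [Fact q.Prime] {x : G}
    (hx : Reg p x) : ∃ c ∈ H.part hx q, c ∉ Subgroup.center G ∧ bar c ^ q = 1 := by
  obtain ⟨y, hy, hyR, hyq⟩ := H.exists_mem_cn hx hq
  obtain ⟨j, hj⟩ := id hyq
  obtain ⟨i, -, hi⟩ := (Nat.dvd_prime_pow hq.1).1 (hj ▸ orderOf_map_dvd bar y)
  have hi0 : i ≠ 0 := by
    rintro rfl
    rw [pow_zero, orderOf_eq_one_iff] at hi
    exact hyR.2 (bar_eq_one.1 hi)
  refine ⟨y ^ q ^ (i - 1), pow_mem ((H.mem_part hx hq.ne).2 ⟨hy, hyq⟩) _, fun hc => ?_, ?_⟩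
  · have h1 := bar_eq_one.2 hc
    rw [map_pow] at h1
    have h2 := orderOf_dvd_of_pow_eq_one h1
    rw [hi, Nat.pow_dvd_pow_iff_le_right hq.1.one_lt] at h2
    omega
  · rw [map_pow, ← pow_mul, ← pow_succ, Nat.sub_add_cancel (Nat.pos_of_ne_zero hi0), ← hi]
    exact pow_orderOf_eq_one _

/-- An element of the centralizer is moved by a fixed element of order `q`. -/
theorem Two.trans (H : Two G p) {q r : ℕ} (hq : InPi G p q) [Fact q.Prime] (hr : InPi G p r)
    (hqr : q < r) (hdr : ∀ x : G, Reg p x → r ∣ (Cn x).index)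
    {x g : G} (hx : Reg p x) (hgp : IsPE q g) (hgN : g ∈ Subgroup.normalizer (Cn x : Set G))
    (hgC : g ∉ Cn x) (hgq : bar g ^ q = 1) :
    ∃ a ∈ H.part hx q, ∃ t ∈ H.part hx q, t ∉ Subgroup.center G ∧ bar t ^ q = 1 ∧
      bar t * bar g = bar g * bar t ∧ bar g * bar a * (bar g)⁻¹ = bar a * bar t := by
  classical
  have : Fact r.Prime := ⟨hr.1⟩
  obtain ⟨a₀, ha₀, hne⟩ : ∃ a ∈ H.part hx q, ¬ bar a * bar g = bar g * bar a := by
    by_contra hall
    push Not at hall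
    obtain ⟨c, hc, hcZ, hcq⟩ := H.exists_order hq hx
    obtain ⟨u, hur, huN, huC, huq⟩ := H.exists_normalizing hx hr (hdr x hx)
    have hucq : bar (u * c * u⁻¹) ^ q = 1 := by
      rw [map_mul, map_mul, map_inv, conj_pow, hcq]; group
    obtain ⟨k, hk⟩ := H.line hq hr hqr.ne hx hgp hgC hc (H.part_conj hx hq.ne huN hc) hcZ
      (hall c hc) (hall _ (H.part_conj hx hq.ne huN hc)) hcq hucq
    rw [map_mul, map_mul, map_inv] at hk
    have hpow : ∀ n : ℕ, bar u ^ n * bar c * (bar u ^ n)⁻¹ = bar c ^ (k ^ n) := by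
      intro n
      induction n with
      | zero => simp
      | succ n ih =>
        calc bar u ^ (n + 1) * bar c * (bar u ^ (n + 1))⁻¹
            = bar u * (bar u ^ n * bar c * (bar u ^ n)⁻¹) * (bar u)⁻¹ := by rw [pow_succ']; group
          _ = (bar u * bar c * (bar u)⁻¹) ^ (k ^ n) := by rw [ih, conj_pow]
          _ = bar c ^ (k ^ (n + 1)) := by rw [hk, ← pow_mul, pow_succ']
    have hfix : bar u ^ r * bar c * (bar u ^ r)⁻¹ = bar c := by
      rw [mul_inv_eq_iff_eq_mul, ← map_pow, ← map_mul, ← map_mul,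
        H.comm hx huq hc.1.1 hc.1.2]
    rw [hpow] at hfix
    have hord := orderOf_bar hq.1 hcZ hcq
    have hk1 : (k : ZMod q) = 1 := by
      have h1 : k ^ r ≡ 1 [MOD q] := by
        rw [← hord]; exact pow_eq_pow_iff_modEq.1 (by rw [hfix, pow_one])
      have h2 : (k : ZMod q) ^ r = 1 := by
        have := (ZMod.natCast_eq_natCast_iff (k ^ r) 1 q).2 h1
        simpa using this
      have hk0 : (k : ZMod q) ≠ 0 := fun h0 => by simp [h0, hr.1.ne_zero] at h2
      have h3 := ZMod.pow_card_sub_one_eq_one hk0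
      have h4 : Nat.Coprime r (q - 1) := (hr.1.coprime_iff_not_dvd).2 fun hd => by
        have := Nat.le_of_dvd (by have := hq.1.two_le; omega) hd
        omega
      have h5 := (pow_gcd_eq_one (a := (k : ZMod q))).2 ⟨h2, h3⟩
      rw [h4.gcd_eq_one, pow_one] at h5
      exact h5
    have hck : bar c ^ k = bar c := by
      conv_rhs => rw [← pow_one (bar c)]
      rw [pow_eq_pow_iff_modEq, hord, ← ZMod.natCast_eq_natCast_iff]
      simpa using hk1
    rw [hck, mul_inv_eq_iff_eq_mul] at hk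
    exact H.not_bar_comm hx huC hc.1.1 ⟨hc.1.2, hcZ⟩
      (hur.coprime_coprime ((H.mem_part hx hq.ne).1 hc).2
        ((Nat.coprime_primes hr.1 hq.1).2 hqr.ne')) hk
  set M := (H.part hx q).map bar with hM
  have hMc : ∀ u ∈ M, ∀ v ∈ M, u * v = v * u := by
    rintro _ ⟨u, hu, rfl⟩ _ ⟨v, hv, rfl⟩
    rw [← map_mul, ← map_mul, H.part_comm hx hu hv]
  have hMg : ∀ u ∈ M, bar g * u * (bar g)⁻¹ ∈ M := by
    rintro _ ⟨u, hu, rfl⟩
    exact ⟨g * u * g⁻¹, H.part_conj hx hq.ne hgN hu, by simp⟩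
  let D : Subgroup (G ⧸ Subgroup.center G) :=
    { carrier := {d | ∃ a ∈ M, d = bar g * a * (bar g)⁻¹ * a⁻¹}
      mul_mem' := by
        rintro _ _ ⟨a, ha, rfl⟩ ⟨b, hb, rfl⟩
        refine ⟨a * b, mul_mem ha hb, ?_⟩
        have e1 : a⁻¹ * (bar g * b * (bar g)⁻¹ * b⁻¹) = (bar g * b * (bar g)⁻¹ * b⁻¹) * a⁻¹ :=
          hMc _ (inv_mem ha) _ (mul_mem (hMg b hb) (inv_mem hb))
        calc bar g * a * (bar g)⁻¹ * a⁻¹ * (bar g * b * (bar g)⁻¹ * b⁻¹)
            = bar g * a * (bar g)⁻¹ * (a⁻¹ * (bar g * b * (bar g)⁻¹ * b⁻¹)) := by group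
          _ = bar g * (a * b) * (bar g)⁻¹ * (a * b)⁻¹ := by rw [e1]; group
      one_mem' := ⟨1, one_mem _, by group⟩
      inv_mem' := by
        rintro _ ⟨a, ha, rfl⟩
        refine ⟨a⁻¹, inv_mem ha, ?_⟩
        calc (bar g * a * (bar g)⁻¹ * a⁻¹)⁻¹ = a * (bar g * a⁻¹ * (bar g)⁻¹) := by group
          _ = bar g * a⁻¹ * (bar g)⁻¹ * a⁻¹⁻¹ := by
            rw [hMc a ha _ (hMg _ (inv_mem ha))]; group }
  have hDM : D ≤ M := by
    rintro _ ⟨a, ha, rfl⟩
    exact mul_mem (hMg a ha) (inv_mem ha)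
  have hDq : IsPGroup q D := ((H.part_isPGroup hx q).map bar).to_le hDM
  have hgD : Subgroup.zpowers (bar g) ≤ Subgroup.normalizer (D : Set (G ⧸ Subgroup.center G)) := by
    rw [Subgroup.zpowers_le]
    apply Subgroup.mem_normalizer_fintype
    rintro _ ⟨a, ha, rfl⟩
    exact ⟨bar g * a * (bar g)⁻¹, hMg a ha, by group⟩
  have hgz : IsPGroup q (Subgroup.zpowers (bar g)) := by
    rintro ⟨z, hz⟩
    obtain ⟨n, rfl⟩ := Subgroup.mem_zpowers_iff.1 hz
    refine ⟨1, Subtype.ext ?_⟩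
    simp only [pow_one, SubmonoidClass.coe_pow, Subgroup.coe_one]
    rw [← zpow_natCast, ← zpow_mul, mul_comm, zpow_mul, zpow_natCast, hgq, one_zpow]
  letI : MulAction (Subgroup.zpowers (bar g)) D :=
    MulAction.compHom D ((Subgroup.normalizerMonoidHom D).comp (Subgroup.inclusion hgD))
  have hDne : Nontrivial D := by
    refine (Subgroup.nontrivial_iff_ne_bot D).2 fun hb => hne ?_
    have h1 : bar g * bar a₀ * (bar g)⁻¹ * (bar a₀)⁻¹ ∈ D :=
      ⟨bar a₀, Subgroup.mem_map_of_mem _ ha₀, rfl⟩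
    rw [hb, Subgroup.mem_bot, mul_inv_eq_one, mul_inv_eq_iff_eq_mul] at h1
    exact h1.symm
  obtain ⟨n, hn0, hn⟩ := hDq.nontrivial_iff_card.1 hDne
  have h1fix : (1 : D) ∈ MulAction.fixedPoints (Subgroup.zpowers (bar g)) D := fun z => by
    change ((Subgroup.normalizerMonoidHom D).comp (Subgroup.inclusion hgD) z) 1 = 1
    exact map_one _
  obtain ⟨⟨d, a', ha', rfl⟩, hdfix, hd1⟩ :=
    hgz.exists_fixed_point_of_prime_dvd_card_of_fixed_point D
      (hn ▸ dvd_pow_self q (Nat.pos_iff_ne_zero.1 hn0)) h1fix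
  obtain ⟨a, ha, rfl⟩ := ha'
  have htf := congrArg Subtype.val (hdfix ⟨bar g, Subgroup.mem_zpowers _⟩)
  refine ⟨a, ha, g * a * g⁻¹ * a⁻¹, mul_mem (H.part_conj hx hq.ne hgN ha) (inv_mem ha),
    fun hz => hd1 ?_, ?_, ?_, ?_⟩
  · ext
    have := bar_eq_one.2 hz
    simpa using this.symm
  · have hT : bar (g * a * g⁻¹ * a⁻¹) = bar g * bar a * (bar g)⁻¹ * (bar a)⁻¹ := by simp
    rw [hT]
    set T := bar g * bar a * (bar g)⁻¹ * (bar a)⁻¹ with hTdef
    have hTg : bar g * T * (bar g)⁻¹ = T := htf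
    have hTa : T * bar a = bar a * T :=
      hMc T (hDM ⟨bar a, Subgroup.mem_map_of_mem _ ha, rfl⟩) _ (Subgroup.mem_map_of_mem _ ha)
    have key : ∀ m : ℕ, bar g ^ m * bar a * (bar g ^ m)⁻¹ = T ^ m * bar a := by
      intro m
      induction m with
      | zero => simp
      | succ m ih =>
        calc bar g ^ (m + 1) * bar a * (bar g ^ (m + 1))⁻¹
            = bar g * (bar g ^ m * bar a * (bar g ^ m)⁻¹) * (bar g)⁻¹ := by rw [pow_succ']; group
          _ = (bar g * T ^ m * (bar g)⁻¹) * (bar g * bar a * (bar g)⁻¹) := by rw [ih]; group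
          _ = T ^ m * (T * bar a) := by rw [← conj_pow, hTg, hTdef]; group
          _ = T ^ (m + 1) * bar a := by rw [pow_succ]; group
    have := key q
    rw [hgq] at this
    simpa using this.symm
  · simp only [map_mul, map_inv]
    exact (mul_inv_eq_iff_eq_mul.1 htf).symm
  · simp only [map_mul, map_inv]
    rw [hMc _ (Subgroup.mem_map_of_mem _ ha) _
      (hDM ⟨bar a, Subgroup.mem_map_of_mem _ ha, rfl⟩)]
    group

theorem cn_inv (x : G) : Cn x⁻¹ = Cn x := by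
  ext g
  rw [mem_cn, mem_cn]
  exact ⟨fun h => (Commute.inv_right_iff.1 h), fun h => Commute.inv_right h⟩

theorem Two.odd_contra (H : Two G p) {q r : ℕ} (hq : InPi G p q) (hr : InPi G p r)
    (hqr : q < r) (hq2 : q ≠ 2) (hdq : ∀ x : G, Reg p x → q ∣ (Cn x).index)
    (hdr : ∀ x : G, Reg p x → r ∣ (Cn x).index) : False := by
  have : Fact q.Prime := ⟨hq.1⟩
  have : Fact r.Prime := ⟨hr.1⟩
  obtain ⟨x, hx, -⟩ := hq.2
  obtain ⟨g, hgp, hgN, hgC, hgqC⟩ := H.exists_normalizing hx hq (hdq x hx)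
  have hgR : Reg p g := reg_of_pe H.toHyp hq.1 hq.ne hgp fun h => hgC (center_le_cn x h)
  have hgq : bar g ^ q = 1 := by
    rw [← map_pow]; exact bar_eq_one.2 (H.pow_mem_center hx hgC hgR.1 hgqC)
  obtain ⟨a, ha, t, ht, htZ, htq, htg, hat⟩ := H.trans hq hr hqr hdr hx hgp hgN hgC hgq
  have htR : Reg p t := ⟨ht.1.2, htZ⟩
  have htx : Cn t = Cn x := H.cn_eq hx ht.1.1 htR
  have htC : t ∉ Cn g := fun h => hgC (by
    rw [← htx, H.cn_eq hgR h htR]; exact self_mem_cn g)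
  obtain ⟨a', ha', t', ht', ht'Z, ht'q, ht't, ha't⟩ := H.trans hq hr hqr hdr hgR
    ((H.mem_part hx hq.ne).1 ht).2 (normalizer_of_bar_comm htg) htC htq
  have hgP : g ∈ H.part hgR q := (H.mem_part hgR hq.ne).2 ⟨self_mem_cn g, hgp⟩
  obtain ⟨k, hk⟩ := H.line hq hr hqr.ne hgR ((H.mem_part hx hq.ne).1 ht).2 htC hgP ht'
    hgR.2 htg.symm ht't hgq ht'q
  set T := bar t with hT
  set U := bar g with hU
  have hk0 : ¬ q ∣ k := by
    rintro ⟨i, rfl⟩
    rw [pow_mul, hgq, one_pow] at hk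
    exact ht'Z (bar_eq_one.1 hk)
  obtain ⟨n, hn⟩ : ∃ n, q ∣ k * n + 1 := by
    refine ⟨(-((k : ZMod q))⁻¹).val, ?_⟩
    have hk' : (k : ZMod q) ≠ 0 := fun h => hk0 ((ZMod.natCast_eq_zero_iff _ _).1 h)
    rw [← ZMod.natCast_eq_zero_iff]
    push_cast [ZMod.natCast_zmod_val]
    rw [mul_neg, mul_inv_cancel₀ hk']; ring
  -- the two transvections
  set A := (bar a)⁻¹ with hA
  set B := ((bar a')⁻¹) ^ n with hB
  have hAT : A * T * A⁻¹ = T := by
    have e : bar a * T = T * bar a := by rw [hT, ← map_mul, ← map_mul, H.part_comm hx ha ht]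
    rw [hA, inv_inv, mul_assoc, ← e, inv_mul_cancel_left]
  have hAU : A * U * A⁻¹ = T * U := by
    have e : U * bar a = bar a * T * U := by rw [← hat]; group
    rw [hA, inv_inv, mul_assoc, e]; group
  have hB1 : ∀ m : ℕ, ((bar a')⁻¹) ^ m * U * (((bar a')⁻¹) ^ m)⁻¹ = U ∧
      ((bar a')⁻¹) ^ m * T * (((bar a')⁻¹) ^ m)⁻¹ = U ^ (k * m) * T := by
    have e1 : (bar a')⁻¹ * U * bar a' = U := by
      rw [mul_assoc, hU, ← map_mul, ← H.part_comm hgR ha' hgP, map_mul, inv_mul_cancel_left]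
    have e2 : (bar a')⁻¹ * T * bar a' = U ^ k * T := by
      have e : T * bar a' = bar a' * bar t' * T := by rw [← ha't]; group
      rw [mul_assoc, e, hk]; group
    intro m
    induction m with
    | zero => simp
    | succ m ih =>
      constructor
      · calc _ = (bar a')⁻¹ * (((bar a')⁻¹) ^ m * U * (((bar a')⁻¹) ^ m)⁻¹) * bar a' := by
              rw [pow_succ']; group
          _ = U := by rw [ih.1, e1]
      · calc _ = (bar a')⁻¹ * (((bar a')⁻¹) ^ m * T * (((bar a')⁻¹) ^ m)⁻¹) * bar a' := by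
              rw [pow_succ']; group
          _ = ((bar a')⁻¹ * U * bar a') ^ (k * m) * ((bar a')⁻¹ * T * bar a') := by
              rw [ih.2, show (bar a')⁻¹ * U * bar a' = (bar a')⁻¹ * U * ((bar a')⁻¹)⁻¹ by rw [inv_inv],
                conj_pow, inv_inv]; group
          _ = U ^ (k * (m + 1)) * T := by rw [e1, e2, ← mul_assoc, ← pow_add]; congr 2
  have hUinv : U ^ (k * n) = U⁻¹ := by
    rw [eq_inv_iff_mul_eq_one, ← pow_succ]
    obtain ⟨i, hi⟩ := hn
    rw [hi, pow_mul, hgq, one_pow]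
  obtain ⟨hBU, hBT⟩ := hB1 n
  rw [← hB] at hBU hBT
  rw [hUinv] at hBT
  set M := A * B * A with hM
  have hUT : U * T = T * U := htg.symm
  have hMT : M * T * M⁻¹ = U⁻¹ := by
    calc M * T * M⁻¹ = A * (B * (A * T * A⁻¹) * B⁻¹) * A⁻¹ := by rw [hM]; group
      _ = A * (U⁻¹ * T) * A⁻¹ := by rw [hAT, hBT]
      _ = (A * U * A⁻¹)⁻¹ * (A * T * A⁻¹) := by group
      _ = U⁻¹ := by rw [hAU, hAT]; group
  have hMU : M * U * M⁻¹ = T := by
    calc M * U * M⁻¹ = A * (B * (A * U * A⁻¹) * B⁻¹) * A⁻¹ := by rw [hM]; group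
      _ = A * ((B * T * B⁻¹) * (B * U * B⁻¹)) * A⁻¹ := by rw [hAU]; group
      _ = A * (U⁻¹ * T * U) * A⁻¹ := by rw [hBT, hBU]
      _ = T := by rw [mul_assoc U⁻¹ T U, ← hUT, inv_mul_cancel_left, hAT]
  set K := M * M with hK
  have hKT : K * T * K⁻¹ = T⁻¹ := by
    calc K * T * K⁻¹ = M * (M * T * M⁻¹) * M⁻¹ := by rw [hK]; group
      _ = (M * U * M⁻¹)⁻¹ := by rw [hMT]; group
      _ = T⁻¹ := by rw [hMU]
  have hKU : K * U * K⁻¹ = U⁻¹ := by
    calc K * U * K⁻¹ = M * (M * U * M⁻¹) * M⁻¹ := by rw [hK]; group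
      _ = U⁻¹ := by rw [hMU, hMT]
  obtain ⟨m, hm⟩ := QuotientGroup.mk'_surjective (Subgroup.center G) K
  change bar m = K at hm
  set o := orderOf m / 2 ^ (orderOf m).factorization 2 with ho
  have hodd : Odd o := by
    rw [Nat.odd_iff, ← Nat.two_dvd_ne_zero]
    exact Nat.not_dvd_ordCompl Nat.prime_two (orderOf_pos m).ne'
  set h := m ^ o with hh
  have hh2 : IsPE 2 h := by
    refine ⟨(orderOf m).factorization 2, ?_⟩
    have h1 : 2 ^ (orderOf m).factorization 2 * o = orderOf m :=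
      Nat.ordProj_mul_ordCompl_eq_self _ _
    rw [hh, orderOf_pow, Nat.gcd_eq_right (Dvd.intro_left _ h1)]
    exact Nat.div_eq_of_eq_mul_left hodd.pos h1.symm
  have hbh : ∀ X : G ⧸ Subgroup.center G, K * X * K⁻¹ = X⁻¹ → bar h * X * (bar h)⁻¹ = X⁻¹ := by
    intro X hX
    have hX' : K * X⁻¹ * K⁻¹ = X := by
      calc K * X⁻¹ * K⁻¹ = (K * X * K⁻¹)⁻¹ := by group
        _ = X := by rw [hX, inv_inv]
    have h2 : K ^ 2 * X * (K ^ 2)⁻¹ = X := by
      calc _ = K * (K * X * K⁻¹) * K⁻¹ := by rw [sq]; group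
        _ = X := by rw [hX, hX']
    obtain ⟨i, hi⟩ := hodd
    have h3 : ∀ l : ℕ, (K ^ 2) ^ l * X * ((K ^ 2) ^ l)⁻¹ = X := by
      intro l
      induction l with
      | zero => simp
      | succ l ih =>
        calc _ = K ^ 2 * ((K ^ 2) ^ l * X * ((K ^ 2) ^ l)⁻¹) * (K ^ 2)⁻¹ := by rw [pow_succ']; group
          _ = X := by rw [ih, h2]
    rw [hh, map_pow, hm, hi, pow_add, pow_mul, pow_one]
    have e2 : (K ^ 2) ^ i * X⁻¹ * ((K ^ 2) ^ i)⁻¹ = X⁻¹ := by
      calc _ = ((K ^ 2) ^ i * X * ((K ^ 2) ^ i)⁻¹)⁻¹ := by group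
        _ = X⁻¹ := by rw [h3 i]
    calc (K ^ 2) ^ i * K * X * ((K ^ 2) ^ i * K)⁻¹
        = (K ^ 2) ^ i * (K * X * K⁻¹) * ((K ^ 2) ^ i)⁻¹ := by group
      _ = X⁻¹ := by rw [hX, e2]
  have hhT := hbh T hKT
  have hhU := hbh U hKU
  have hhN : h ∈ Subgroup.normalizer (Cn x : Set G) := by
    rw [← htx]
    apply mem_normalizer_cn
    rw [cn_eq_of_bar_eq (v := h * t * h⁻¹) (w := t⁻¹) (by
      rw [map_mul, map_mul, map_inv, map_inv]; exact hhT), cn_inv]
  have hhC : h ∉ Cn x := by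
    intro hc
    rw [← htx, mem_cn] at hc
    have hTT : T = T⁻¹ := by
      rw [← hhT, hT, ← map_mul, hc, map_mul, mul_inv_cancel_right]
    have h2 : T ^ 2 = 1 := by rw [sq]; conv_lhs => arg 2; rw [hTT]
                              exact mul_inv_cancel T
    have h3 := (pow_gcd_eq_one (a := T)).2 ⟨h2, htq⟩
    rw [((Nat.coprime_primes Nat.prime_two hq.1).2 hq2.symm).gcd_eq_one, pow_one] at h3
    exact htZ (bar_eq_one.1 h3)
  have hh2C : h ^ 2 ∈ Cn x := by
    rw [← htx, mem_cn]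
    apply comm_of_bar_comm
    · rw [map_pow, ← mul_inv_eq_iff_eq_mul, ← hT, sq]
      calc bar h * bar h * T * (bar h * bar h)⁻¹ = bar h * (bar h * T * (bar h)⁻¹) * (bar h)⁻¹ := by group
        _ = bar h * T⁻¹ * (bar h)⁻¹ := by rw [hhT]
        _ = (bar h * T * (bar h)⁻¹)⁻¹ := by group
        _ = T := by rw [hhT, inv_inv]
    · exact (IsPE.pow Nat.prime_two hh2 2).coprime_coprime ((H.mem_part hx hq.ne).1 ht).2
        ((Nat.coprime_primes Nat.prime_two hq.1).2 hq2.symm)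
  have hinv : ∀ v ∈ H.part hx r, bar h * bar v * (bar h)⁻¹ = (bar v)⁻¹ := by
    intro v hv
    have hv' : h * v * h⁻¹ ∈ H.part hx r := H.part_conj hx hr.ne hhN hv
    have e1 : h ^ 2 * v * (h ^ 2)⁻¹ = v := by
      rw [H.comm hx hh2C hv.1.1 hv.1.2]; group
    set w := h * v * h⁻¹ * v with hw
    have hwP : w ∈ H.part hx r := mul_mem hv' hv
    have hfix : h * w = w * h := by
      rw [← mul_inv_eq_iff_eq_mul]
      calc h * w * h⁻¹ = h ^ 2 * v * (h ^ 2)⁻¹ * (h * v * h⁻¹) := by rw [hw, sq]; group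
        _ = w := by rw [e1, hw, H.part_comm hx hv' hv]
    have hwZ : w ∈ Subgroup.center G := by
      by_contra hc
      exact hhC (H.mem_of_comm hx hwP.1.1 ⟨hwP.1.2, hc⟩ hfix)
    have := bar_eq_one.2 hwZ
    rw [hw, map_mul, map_mul, map_mul, map_inv] at this
    exact eq_inv_of_mul_eq_one_left this
  obtain ⟨y, hy, hyR, hyr⟩ := H.exists_mem_cn hx hr
  have hyP : y ∈ H.part hx r := (H.mem_part hx hr.ne).2 ⟨hy, hyr⟩
  have h1 := hinv _ (H.part_conj hx hr.ne hgN hyP)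
  rw [map_mul, map_mul, map_inv, ← hU] at h1
  have h2 : U⁻¹ * (bar y)⁻¹ * U = U * (bar y)⁻¹ * U⁻¹ := by
    calc U⁻¹ * (bar y)⁻¹ * U
        = (bar h * U * (bar h)⁻¹) * (bar h * bar y * (bar h)⁻¹) * (bar h * U * (bar h)⁻¹)⁻¹ := by
          rw [hhU, hinv y hyP, inv_inv]
      _ = bar h * (U * bar y * U⁻¹) * (bar h)⁻¹ := by group
      _ = U * (bar y)⁻¹ * U⁻¹ := by rw [h1]; group
  have hco : (orderOf g).Coprime 2 := hgp.coprime ((Nat.coprime_primes hq.1 Nat.prime_two).2 hq2)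
  have hg2 : g ^ 2 ∉ Cn x := fun hc => hgC (by
    obtain ⟨m', hm'⟩ := exists_pow_eq_self_of_coprime (n := 2) (x := g) hco.symm
    rw [← hm']; exact pow_mem hc _)
  refine H.not_bar_comm hx hg2 hy hyR
    ((hgp.pow hq.1 2).coprime_coprime hyr ((Nat.coprime_primes hq.1 hr.1).2 hqr.ne)) ?_
  rw [map_pow, ← hU]
  have h3 : U⁻¹ * bar y * U = U * bar y * U⁻¹ := by
    have := congrArg (·⁻¹) h2
    simpa [mul_assoc] using this
  calc U ^ 2 * bar y = U * (U * bar y * U⁻¹) * U := by rw [sq]; group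
    _ = bar y * U ^ 2 := by rw [← h3, sq]; group

end Cfsg.Agent.TwoRegSizes38
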