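import Cfsg.Agent.Lib.TwoRegSizesComp38
import Cfsg.Agent.Lib.H74Kazarin

/-!
# Two class sizes of `p`-regular elements: a single prime dividing the class size is impossible
-/

namespace Cfsg.Agent.TwoRegSizes38

open scoped Pointwise commutatorElement

theorem exists_normal_pGroup {Γ : Type*} [Group Γ] [Finite Γ] (K : Subgroup Γ) [K.Normal]
    (hK : K ≠ ⊥) (hs : Group.IsSolvable K) :
    ∃ (s : ℕ) (P : Subgroup Γ), s.Prime ∧ P.Normal ∧ P ≠ ⊥ ∧ IsPGroup s P := by
  classical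
  obtain ⟨M, ⟨hMn, hM0, hMK⟩, hmin⟩ :=
    ({M : Subgroup Γ | M.Normal ∧ M ≠ ⊥ ∧ M ≤ K}).toFinite.exists_minimal ⟨K, ‹K.Normal›, hK, le_rfl⟩
  have hcomm : ⁅M, M⁆ = ⊥ := by
    by_contra hne
    have hle : ⁅M, M⁆ ≤ M := Subgroup.commutator_le_left M M
    have heq : M ≤ ⁅M, M⁆ := hmin ⟨inferInstance, hne, hle.trans hMK⟩ hle
    have hsM : Group.IsSolvable M :=
      solvable_of_solvable_injective (Subgroup.inclusion_injective hMK)
    have : Nontrivial M := (Subgroup.nontrivial_iff_ne_bot M).2 hM0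
    have h1 : commutator M < ⊤ := Group.IsSolvable.commutator_lt_top_of_nontrivial M
    apply h1.ne
    apply Subgroup.map_injective M.subtype_injective
    rw [Subgroup.map_subtype_commutator, ← MonoidHom.range_eq_map, Subgroup.range_subtype]
    exact le_antisymm hle heq
  have hab : IsMulCommutative M := ⟨⟨fun a b => by
    have h : ⁅(a : Γ), (b : Γ)⁆ ∈ (⊥ : Subgroup Γ) := hcomm ▸
      Subgroup.commutator_mem_commutator a.2 b.2
    rw [Subgroup.mem_bot] at h
    exact Subtype.ext (commutatorElement_eq_one_iff_mul_comm.1 h)⟩⟩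
  have : Nontrivial M := (Subgroup.nontrivial_iff_ne_bot M).2 hM0
  obtain ⟨s, hs', hsd⟩ := Nat.exists_prime_and_dvd (Finite.one_lt_card (α := M)).ne'
  have : Fact s.Prime := ⟨hs'⟩
  obtain ⟨S⟩ : Nonempty (Sylow s M) := inferInstance
  have hSn : (S : Subgroup M).Normal := Subgroup.normal_of_comm _
  have := Sylow.characteristic_of_normal S hSn
  refine ⟨s, (S : Subgroup M).map M.subtype, hs', ConjAct.normal_of_characteristic_of_normal, ?_,
    S.isPGroup'.map _⟩
  rw [Ne, Subgroup.map_eq_bot_iff_of_injective _ M.subtype_injective]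
  exact S.ne_bot_of_dvd_card hsd

variable {G : Type*} [Group G] [Finite G] {p : ℕ}

theorem Hyp.not_dvd_of_not_pi (H : Hyp G p) {s : ℕ} (hs : s.Prime) (hsp : s ≠ p)
    (hn : ¬ InPi G p s) (x : G) : ¬ s ∣ (Cn x).index := by
  have : Fact s.Prime := ⟨hs⟩
  obtain ⟨Q⟩ : Nonempty (Sylow s G) := inferInstance
  have hQ : (Q : Subgroup G) ≤ Cn x := fun a ha => center_le_cn x (by
    by_contra hc
    exact hn (inPi_of_pe H hs hsp (IsPE.of_mem_pgroup Q.isPGroup' ha) hc))
  exact fun h => Q.not_dvd_index (h.trans (Subgroup.index_dvd_of_le hQ))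

theorem pe_eq_one_of_pow {s r : ℕ} (hs : s.Prime) (hr : r.Prime) (hne : r ≠ s) {W : Subgroup G}
    {t : G} (ht : IsPE r t) {n : ℕ} (h : t ^ s ^ n ∈ W) : t ∈ W := by
  obtain ⟨j, hj⟩ := ht
  obtain ⟨u, hu⟩ := exists_pow_eq_self_of_coprime (n := s ^ n) (x := t)
    (by rw [hj]; exact Nat.Coprime.pow _ _ ((Nat.coprime_primes hs hr).2 hne.symm))
  rw [← hu]
  exact pow_mem h u

theorem Two.single_contra (H : Two G p) {q : ℕ} (hq : InPi G p q)
    (hd : ∀ x : G, Reg p x → q ∣ (Cn x).index)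
    (hS : ∀ s : ℕ, InPi G p s → s ≠ q → ∀ x : G, Reg p x → ¬ s ∣ (Cn x).index) : False := by
  classical
  have : Fact q.Prime := ⟨hq.1⟩
  have : Fact p.Prime := ⟨H.prime⟩
  -- an element central in a Sylow `q`-subgroup modulo the center
  obtain ⟨Q₀⟩ : Nonempty (Sylow q G) := inferInstance
  obtain ⟨c, hcQ, hcR, hcc⟩ : ∃ c ∈ (Q₀ : Subgroup G), Reg p c ∧
      ∀ a ∈ (Q₀ : Subgroup G), bar a * bar c = bar c * bar a := by
    obtain ⟨-, y, hyR, j, hj⟩ := id hq
    have hyZ : IsPGroup q (Subgroup.zpowers y) :=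
      IsPGroup.of_card (n := j) (by rw [Nat.card_zpowers, hj])
    obtain ⟨Q1, hQ1⟩ := hyZ.exists_le_sylow
    obtain ⟨g, hg⟩ := MulAction.exists_smul_eq G Q1 Q₀
    have hyQ : g * y * g⁻¹ ∈ (Q₀ : Subgroup G) := by
      rw [← hg, Sylow.coe_subgroup_smul]
      exact Subgroup.smul_mem_pointwise_smul y (MulAut.conj g) _ (hQ1 (Subgroup.mem_zpowers y))
    set Qb := (Q₀ : Subgroup G).map bar
    have hQb : IsPGroup q Qb := Q₀.isPGroup'.map _
    have : Nontrivial Qb := (Subgroup.nontrivial_iff_ne_bot _).2 fun hb => conj_not_center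
      (g := g) hyR.2 (bar_eq_one.1 (Subgroup.mem_bot.1 (hb ▸ Subgroup.mem_map_of_mem _ hyQ)))
    have := hQb.center_nontrivial
    obtain ⟨⟨⟨cb, c, hc, rfl⟩, hcz⟩, hne⟩ := exists_ne (1 : Subgroup.center Qb)
    refine ⟨c, hc, reg_of_pe H.toHyp hq.1 hq.ne (IsPE.of_mem_pgroup Q₀.isPGroup' hc)
      (fun h => hne ?_), fun a ha => ?_⟩
    · ext; exact bar_eq_one.2 h
    · exact congrArg Subtype.val
        (Subgroup.mem_center_iff.1 hcz ⟨bar a, Subgroup.mem_map_of_mem _ ha⟩)
  -- its class modulo the center has prime power size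
  set cb := bar c with hcb
  have hidx : ∀ {s : ℕ}, s.Prime → s ∣ (Cn cb).index → s = p := by
    intro s hs hdv
    by_contra hsp
    by_cases hsq : s = q
    · subst hsq
      have h1 : (Q₀ : Subgroup G).map bar ≤ Cn cb := by
        rintro _ ⟨a, ha, rfl⟩
        exact mem_cn.2 (hcc a ha)
      exact Q₀.not_dvd_index (hdv.trans ((Subgroup.index_dvd_of_le h1).trans
        (Subgroup.index_map_dvd _ (QuotientGroup.mk'_surjective _))))
    · have h2 : s ∣ (Cn c).index :=
        hdv.trans (H74Kazarin.index_map_dvd (QuotientGroup.mk'_surjective _) c)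
      by_cases hpi : InPi G p s
      · exact hS s hpi hsq c hcR h2
      · exact H.toHyp.not_dvd_of_not_pi hs hsp hpi c h2
  have hk := Nat.eq_prime_pow_of_unique_prime_dvd (n := (Cn cb).index)
    Subgroup.index_ne_zero_of_finite (fun {d} => hidx (s := d))
  have hsolv := H74Kazarin.solvable_normalClosure _ (G ⧸ Subgroup.center G) rfl cb p _ H.prime hk
  set K := Subgroup.normalClosure ({cb} : Set (G ⧸ Subgroup.center G))
  have hcbK : cb ∈ K := Subgroup.subset_normalClosure rfl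
  obtain ⟨X, ⟨hXn, hXp⟩, hXmax⟩ :=
    ({X : Subgroup (G ⧸ Subgroup.center G) | X.Normal ∧ IsPGroup p X}).toFinite.exists_maximal
      ⟨⊥, inferInstance, IsPGroup.of_bot⟩
  have := hXn
  set f : G →* (G ⧸ Subgroup.center G) ⧸ X := (QuotientGroup.mk' X).comp bar with hfdef
  have hf : Function.Surjective f :=
    (QuotientGroup.mk'_surjective X).comp (QuotientGroup.mk'_surjective _)
  set W := f.ker with hWdef
  have hZW : Subgroup.center G ≤ W := fun z hz => by
    rw [hWdef, MonoidHom.mem_ker, hfdef, MonoidHom.comp_apply, bar_eq_one.2 hz, map_one]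
  have hW' : ∀ w ∈ W, (orderOf w).Coprime p → w ∈ Subgroup.center G := by
    intro w hw hwp
    rw [hWdef, MonoidHom.mem_ker, hfdef, MonoidHom.comp_apply, QuotientGroup.mk'_apply,
      QuotientGroup.eq_one_iff] at hw
    obtain ⟨k, hk⟩ := (IsPGroup.iff_orderOf.1 hXp) ⟨bar w, hw⟩
    rw [← bar_eq_one, ← orderOf_eq_one_iff]
    refine Nat.eq_one_of_dvd_coprimes (hwp.pow_right k) (orderOf_map_dvd bar w) ?_
    rw [← hk, ← Subgroup.orderOf_coe]
  have hKΓ : K.map (QuotientGroup.mk' X) ≠ ⊥ := by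
    intro hb
    have h1 : f c = 1 := Subgroup.mem_bot.1 (hb ▸ Subgroup.mem_map_of_mem _ hcbK)
    exact hcR.2 (hW' c (MonoidHom.mem_ker.2 h1) hcR.1)
  have hKn : (K.map (QuotientGroup.mk' X)).Normal :=
    Subgroup.Normal.map inferInstance _ (QuotientGroup.mk'_surjective X)
  have hKs : Group.IsSolvable (K.map (QuotientGroup.mk' X)) :=
    solvable_of_surjective ((QuotientGroup.mk' X).subgroupMap_surjective K)
  obtain ⟨s, P, hs, hPn, hP0, hPs⟩ := exists_normal_pGroup _ hKΓ hKs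
  have : Fact s.Prime := ⟨hs⟩
  have hsp : s ≠ p := by
    rintro rfl
    have h1 : IsPGroup s (P.comap (QuotientGroup.mk' X)) :=
      hPs.comap_of_ker_isPGroup _ (by rw [QuotientGroup.ker_mk']; exact hXp)
    have h2 : X ≤ P.comap (QuotientGroup.mk' X) := fun a ha => by
      rw [Subgroup.mem_comap, QuotientGroup.mk'_apply, (QuotientGroup.eq_one_iff a).2 ha]
      exact one_mem _
    have h3 := hXmax ⟨hPn.comap _, h1⟩ h2
    apply hP0
    rw [← Subgroup.map_comap_eq_self_of_surjective (QuotientGroup.mk'_surjective X) P,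
      eq_bot_iff]
    rintro _ ⟨a, ha, rfl⟩
    exact Subgroup.mem_bot.2 ((QuotientGroup.eq_one_iff a).2 (h3 ha))
  set Y := P.comap f with hYdef
  have hYn : Y.Normal := hPn.comap _
  have hWY : W ≤ Y := fun w hw => by
    rw [hYdef, Subgroup.mem_comap, MonoidHom.mem_ker.1 hw]; exact one_mem _
  have hYW : ∀ y ∈ Y, ∃ n : ℕ, y ^ s ^ n ∈ W := fun y hy => by
    obtain ⟨n, hn⟩ := hPs ⟨f y, hy⟩
    exact ⟨n, MonoidHom.mem_ker.2 (by rw [map_pow]; simpa using congrArg Subtype.val hn)⟩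
  obtain ⟨S⟩ : Nonempty (Sylow s Y) := inferInstance
  set Ys := (S : Subgroup Y).map Y.subtype with hYsdef
  have hYsY : Ys ≤ Y := Subgroup.map_subtype_le _
  have hYsp : IsPGroup s Ys := S.isPGroup'.map _
  have hYsup : Y = W ⊔ Ys := by
    refine le_antisymm ?_ (sup_le hWY hYsY)
    rw [← Subgroup.relIndex_eq_one]
    have d1 : (W ⊔ Ys).relIndex Y ∣ W.relIndex Y := Subgroup.relIndex_dvd_of_le_left Y le_sup_left
    have d2 : (W ⊔ Ys).relIndex Y ∣ Ys.relIndex Y := Subgroup.relIndex_dvd_of_le_left Y le_sup_right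
    have e1 : W.relIndex Y = Nat.card P := by
      rw [hWdef, Subgroup.relIndex_ker, hYdef, Subgroup.map_comap_eq_self_of_surjective hf]
    obtain ⟨n, hn⟩ := hPs.exists_card_eq
    rw [e1, hn] at d1
    obtain ⟨i, -, hi⟩ := (Nat.dvd_prime_pow hs).1 d1
    rcases Nat.eq_zero_or_pos i with rfl | hi0
    · simpa using hi
    · exfalso
      have e2 : Ys.relIndex Y = (S : Subgroup Y).index := by
        rw [hYsdef, Subgroup.relIndex, Subgroup.subgroupOf,
          Subgroup.comap_map_eq_self_of_injective Y.subtype_injective]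
      rw [e2, hi] at d2
      exact S.not_dvd_index ((dvd_pow_self s hi0.ne').trans d2)
  obtain ⟨e, heY, heR, hec⟩ : ∃ e ∈ Ys, Reg p e ∧ ∀ a ∈ Ys, bar a * bar e = bar e * bar a := by
    have : Nontrivial (Ys.map (bar (G := G))) := (Subgroup.nontrivial_iff_ne_bot _).2 fun hb => by
      apply hP0
      rw [eq_bot_iff, ← Subgroup.map_comap_eq_self_of_surjective hf P]
      rintro _ ⟨a, ha, rfl⟩
      have haW : a ∈ W := by
        have hsub : W ⊔ Ys ≤ W := sup_le le_rfl fun b hb' =>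
          hZW (bar_eq_one.1 (Subgroup.mem_bot.1 (hb ▸ Subgroup.mem_map_of_mem _ hb')))
        exact hsub (hYsup ▸ ha)
      exact Subgroup.mem_bot.2 haW
    have := (hYsp.map (bar (G := G))).center_nontrivial
    obtain ⟨⟨⟨eb, e, he, rfl⟩, hez⟩, hne⟩ := exists_ne (1 : Subgroup.center (Ys.map (bar (G := G))))
    refine ⟨e, he, reg_of_pe H.toHyp hs hsp (IsPE.of_mem_pgroup hYsp he)
      (fun h => hne ?_), fun a ha => ?_⟩
    · ext; exact bar_eq_one.2 h
    · exact congrArg Subtype.val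
        (Subgroup.mem_center_iff.1 hez ⟨bar a, Subgroup.mem_map_of_mem _ ha⟩)
  have hspi : InPi G p s := ⟨hs, e, heR, IsPE.of_mem_pgroup hYsp heY⟩
  obtain ⟨r, hr, hrq⟩ := H.exists_other q
  have : Fact r.Prime := ⟨hr.1⟩
  -- all elements of `Ys` have the same centralizer
  have huni : ∀ a ∈ Ys, a ∉ Subgroup.center G → Cn a = Cn e := by
    intro a ha hac
    have haR : Reg p a := reg_of_pe H.toHyp hs hsp (IsPE.of_mem_pgroup hYsp ha) hac
    have hN := normalizer_of_bar_comm (hec a ha)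
    suffices h : a ∈ Cn e from H.cn_eq heR h haR
    by_cases hsq : s = q
    · subst hsq
      obtain ⟨y, hy, hyR, hyr⟩ := H.exists_mem_cn heR hr
      have hy1 : y ∈ H.part heR r := (H.mem_part heR hr.ne).2 ⟨hy, hyr⟩
      have hy2 : a * y * a⁻¹ ∈ H.part heR r :=
        (H.mem_part heR hr.ne).2 ⟨conj_mem_of_normalizer hN hy, conj_pe hyr a⟩
      have htr : IsPE r (a * y * a⁻¹ * y⁻¹) :=
        IsPE.of_mem_pgroup (H.part_isPGroup heR r) (mul_mem hy2 (inv_mem hy1))
      have htY : a * y * a⁻¹ * y⁻¹ ∈ Y := by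
        have := mul_mem (hYsY ha) (hYn.conj_mem _ (inv_mem (hYsY ha)) y)
        simpa [mul_assoc] using this
      obtain ⟨n, hn⟩ := hYW _ htY
      have htZ := hW' _ (pe_eq_one_of_pow hs hr.1 hrq htr hn) (coprime_of_pe H.toHyp hr.1 hr.ne htr)
      exact H.mem_of_comm heR hy hyR (comm_of_coprime htZ (by group)
        ((IsPE.of_mem_pgroup hYsp ha).coprime_coprime hyr ((Nat.coprime_primes hs hr.1).2 hrq.symm)))
    · exact H.mem_of_full heR hspi (hS s hspi hsq e heR) hN (IsPE.of_mem_pgroup hYsp ha)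
  -- elements of `W` normalizing the centralizer of `e` lie in it
  have hWC : ∀ w ∈ W, w ∈ Subgroup.normalizer (Cn e : Set G) → w ∈ Cn e := by
    intro w hw hwN
    by_contra hwC
    obtain ⟨q', k, hq', -, hk, hpe⟩ := exists_primePow_not_mem hwC
    by_cases hqp : q' = p
    · subst hqp
      set v := w ^ k with hv
      have ht : v * e * v⁻¹ * e⁻¹ ∈ H.bsub heR := mul_mem
        ((H.mem_bsub heR).2 ⟨conj_mem_of_normalizer (pow_mem hwN k) (self_mem_cn e),
          (reg_conj heR v).1⟩) (inv_mem ((H.mem_bsub heR).2 ⟨self_mem_cn e, heR.1⟩))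
      have htW : v * e * v⁻¹ * e⁻¹ ∈ W := by
        have := mul_mem (pow_mem hw k) ((inferInstance : W.Normal).conj_mem _
          (inv_mem (pow_mem hw k)) e)
        simpa [mul_assoc] using this
      have hco : (orderOf v).Coprime (orderOf e) := by
        obtain ⟨i, hi⟩ := hpe
        rw [hi]; exact (heR.1.symm).pow_left i
      exact hk (H.mem_of_comm heR (self_mem_cn e) heR
        (comm_of_coprime (hW' _ htW ht.2) (by group) hco))
    · exact hk (center_le_cn e (hW' _ (pow_mem hw k) (coprime_of_pe H.toHyp hq' hqp hpe)))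
  -- the contradiction
  obtain ⟨g, hgq, hgN, hgC, -⟩ := H.exists_normalizing heR hq (hd e heR)
  have hgR : Reg p g := reg_of_pe H.toHyp hq.1 hq.ne hgq fun h => hgC (center_le_cn e h)
  obtain ⟨y, hy, hyR, hyr⟩ := H.exists_mem_cn hgR hr
  set R := H.part hgR r with hRdef
  have hR : IsPGroup r R := H.part_isPGroup hgR r
  letI : MulAction R (Sylow s Y) :=
    MulAction.compHom (Sylow s Y) ((MulAut.conjNormal (H := Y)).comp R.subtype)
  have hcard : ¬ r ∣ Nat.card (Sylow s Y) := by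
    rw [Sylow.card_eq_index_normalizer S]
    intro hdv
    by_cases hrs : r = s
    · subst hrs
      exact S.not_dvd_index (hdv.trans (Subgroup.index_dvd_of_le Subgroup.le_normalizer))
    · obtain ⟨T⟩ : Nonempty (Sylow r Y) := inferInstance
      have hT : (T : Subgroup Y) ≤ Subgroup.normalizer ((S : Subgroup Y) : Set Y) := by
        intro a ha
        obtain ⟨n, hn⟩ := hYW (a : G) a.2
        have har : IsPE r (a : G) := by
          obtain ⟨j, hj⟩ := IsPE.of_mem_pgroup T.isPGroup' ha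
          exact ⟨j, by rw [Subgroup.orderOf_coe, hj]⟩
        have hz := hW' _ (pe_eq_one_of_pow hs hr.1 hrs har hn) (coprime_of_pe H.toHyp hr.1 hr.ne har)
        rw [Subgroup.mem_normalizer_iff]
        intro b
        have : a * b * a⁻¹ = b := by
          ext
          simp only [Subgroup.coe_mul, Subgroup.coe_inv]
          rw [← Subgroup.mem_center_iff.1 hz (b : G)]; group
        rw [this]
      exact T.not_dvd_index (hdv.trans (Subgroup.index_dvd_of_le hT))
  obtain ⟨P', hP'⟩ := hR.nonempty_fixed_point_of_prime_not_dvd_card (Sylow s Y) hcard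
  obtain ⟨y₀, hy₀⟩ := MulAction.exists_smul_eq Y S P'
  obtain ⟨w, hw, t, ht, hwt⟩ := Subgroup.mem_sup_of_normal_left.1 (hYsup ▸ y₀.2 :
    (y₀ : G) ∈ W ⊔ Ys)
  have hmem : ∀ a : Y, a ∈ (P' : Subgroup Y) ↔ y₀⁻¹ * a * y₀ ∈ (S : Subgroup Y) := by
    intro a
    rw [← hy₀, Sylow.coe_subgroup_smul, Subgroup.mem_pointwise_smul_iff_inv_smul_mem]
    simp [MulAut.smul_def]
  have hYsmem : ∀ a : Y, (a : G) ∈ Ys ↔ a ∈ (S : Subgroup Y) := fun a =>
    Subgroup.mem_map_iff_mem Y.subtype_injective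
  have hP'mem : ∀ a : Y, a ∈ (P' : Subgroup Y) ↔ w⁻¹ * (a : G) * w ∈ Ys := by
    intro a
    rw [hmem, ← hYsmem]
    have e1 : ((y₀⁻¹ * a * y₀ : Y) : G) = t⁻¹ * (w⁻¹ * (a : G) * w) * t := by
      simp only [Subgroup.coe_mul, Subgroup.coe_inv]
      rw [← hwt]; group
    rw [e1, Ys.mul_mem_cancel_right ht, Ys.mul_mem_cancel_left (inv_mem ht)]
  set e' := w * e * w⁻¹ with he'
  have he'R : Reg p e' := reg_conj heR w
  have he'Y : e' ∈ Y := hYn.conj_mem e (hYsY heY) w
  have hRC : ∀ z ∈ R, z ∈ Cn e' := by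
    intro z hz
    have hzN : z ∈ Subgroup.normalizer (Cn e' : Set G) := by
      apply mem_normalizer_cn
      have h1 : MulAut.conjNormal z (⟨e', he'Y⟩ : Y) ∈ (P' : Subgroup Y) := by
        have h2 : (⟨e', he'Y⟩ : Y) ∈ (P' : Subgroup Y) :=
          (hP'mem _).2 (by simpa [he', mul_assoc] using heY)
        have h3 : MulAut.conjNormal (H := Y) z • P' = P' := hP' ⟨z, hz⟩
        rw [← h3, Sylow.pointwise_smul_def, Sylow.toSubgroup]
        exact Subgroup.smul_mem_pointwise_smul _ _ _ h2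
      rw [hP'mem, MulAut.conjNormal_apply] at h1
      have h2 : Cn (w⁻¹ * (z * e' * z⁻¹) * w) = Cn e := huni _ h1 (by
        have h5 := conj_not_center (g := w⁻¹) (conj_not_center (g := z) he'R.2)
        simpa using h5)
      ext v
      rw [← conj_mem_cn w⁻¹ (x := z * e' * z⁻¹), ← conj_mem_cn w⁻¹ (x := e')]
      simp only [inv_inv]
      rw [h2, show w⁻¹ * e' * w = e by rw [he']; group]
    exact H.mem_of_full he'R hr (hS r hr hrq e' he'R) hzN ((H.mem_part hgR hr.ne).1 hz).2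
  have hyC : y ∈ Cn e' := hRC y ((H.mem_part hgR hr.ne).2 ⟨hy, hyr⟩)
  have hgC' : g ∈ Cn e' := by
    rw [← H.cn_eq he'R hyC hyR, H.cn_eq hgR hy hyR]; exact self_mem_cn g
  set c₁ := w⁻¹ * g * w with hc₁
  have hc₁C : c₁ ∈ Cn e := by
    rw [← conj_mem_cn w, ← he']
    simpa [hc₁, mul_assoc] using hgC'
  have hv : c₁⁻¹ * g ∈ W := by
    have hgc : g = w * c₁ * w⁻¹ := by rw [hc₁]; group
    have : c₁⁻¹ * g = (c₁⁻¹ * w * c₁⁻¹⁻¹) * w⁻¹ := by rw [hgc]; group
    rw [this]
    exact mul_mem ((inferInstance : W.Normal).conj_mem _ hw c₁⁻¹) (inv_mem hw)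
  have hvN : c₁⁻¹ * g ∈ Subgroup.normalizer (Cn e : Set G) :=
    mul_mem (inv_mem (Subgroup.le_normalizer hc₁C)) hgN
  exact hgC (by simpa using mul_mem hc₁C (hWC _ hv hvN))

end Cfsg.Agent.TwoRegSizes38
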