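import Cfsg.Agent.Lib.TwoRegSizesThree38

/-!
# Two class sizes of `p`-regular elements: Sylow subgroups for two and three
-/

namespace Cfsg.Agent.TwoRegSizes38

open scoped Pointwise

variable {G : Type*} [Group G] [Finite G] {p : ℕ}

/-- An element of `q`-power order lifting an element of order `q` modulo the center. -/
theorem exists_pe_lift {q : ℕ} (hq : q.Prime) {Y : G ⧸ Subgroup.center G} (hY : Y ^ q = 1) :
    ∃ w, IsPE q w ∧ bar w = Y := by
  obtain ⟨w, hw⟩ := QuotientGroup.mk'_surjective (Subgroup.center G) Y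
  change bar w = Y at hw
  set o := orderOf w / q ^ (orderOf w).factorization q with ho
  have h0 : o * q ^ (orderOf w).factorization q = orderOf w := by
    rw [mul_comm]; exact Nat.ordProj_mul_ordCompl_eq_self _ _
  have hoq : o.Coprime q :=
    (hq.coprime_iff_not_dvd.2 (Nat.not_dvd_ordCompl hq (orderOf_pos w).ne')).symm
  obtain ⟨k, hk⟩ := exists_pow_eq_self_of_coprime (n := o) (x := Y)
    (hoq.coprime_dvd_right (orderOf_dvd_of_pow_eq_one hY))
  refine ⟨w ^ (o * k), ?_, by rw [map_pow, hw, pow_mul, hk]⟩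
  have hpo : IsPE q (w ^ o) := by
    obtain ⟨i, -, hi⟩ := (Nat.dvd_prime_pow hq).1 (show orderOf (w ^ o) ∣
      q ^ (orderOf w).factorization q from orderOf_dvd_of_pow_eq_one (by
        rw [← pow_mul, h0, pow_orderOf_eq_one]))
    exact ⟨i, hi⟩
  rw [pow_mul]
  exact hpo.pow hq k

/-- An element of a Sylow subgroup central in it modulo the center. -/
theorem Hyp.exists_central (H : Hyp G p) {q : ℕ} [Fact q.Prime] (hq : InPi G p q) (Q₀ : Sylow q G) :
    ∃ c ∈ (Q₀ : Subgroup G), Reg p c ∧ IsPE q c ∧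
      ∀ a ∈ (Q₀ : Subgroup G), bar a * bar c = bar c * bar a := by
  obtain ⟨hqp, y, hyR, j, hj⟩ := id hq
  have hyZ : IsPGroup q (Subgroup.zpowers y) :=
    IsPGroup.of_card (n := j) (by rw [Nat.card_zpowers, hj])
  obtain ⟨Q1, hQ1⟩ := hyZ.exists_le_sylow
  obtain ⟨g, hg⟩ := MulAction.exists_smul_eq G Q1 Q₀
  have hyQ : g * y * g⁻¹ ∈ (Q₀ : Subgroup G) := by
    rw [← hg, Sylow.coe_subgroup_smul]
    exact Subgroup.smul_mem_pointwise_smul y (MulAut.conj g) _ (hQ1 (Subgroup.mem_zpowers y))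
  set Qb := (Q₀ : Subgroup G).map bar
  have hQb : IsPGroup q Qb := Q₀.isPGroup'.map _
  have : Nontrivial Qb := (Subgroup.nontrivial_iff_ne_bot _).2 fun hb => conj_not_center
    (g := g) hyR.2 (bar_eq_one.1 (Subgroup.mem_bot.1 (hb ▸ Subgroup.mem_map_of_mem _ hyQ)))
  have := hQb.center_nontrivial
  obtain ⟨⟨⟨cb, c, hc, rfl⟩, hcz⟩, hne⟩ := exists_ne (1 : Subgroup.center Qb)
  refine ⟨c, hc, reg_of_pe H hqp hq.ne (IsPE.of_mem_pgroup Q₀.isPGroup' hc) (fun h => hne ?_),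
    IsPE.of_mem_pgroup Q₀.isPGroup' hc, fun a ha => ?_⟩
  · ext; exact bar_eq_one.2 h
  · exact congrArg Subtype.val
      (Subgroup.mem_center_iff.1 hcz ⟨bar a, Subgroup.mem_map_of_mem _ ha⟩)

/-- A Sylow subgroup normalizing a centralizer contains its part. -/
theorem Two.part_le_sylow (H : Two G p) {x : G} (hx : Reg p x) {q : ℕ} [Fact q.Prime]
    (hqp : q ≠ p) (Q : Sylow q G) (hQ : (Q : Subgroup G) ≤ Subgroup.normalizer (Cn x : Set G)) :
    H.part hx q ≤ Q := by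
  have hn : (Q : Subgroup G) ≤ Subgroup.normalizer (H.part hx q : Set G) := by
    intro a ha
    rw [Subgroup.mem_normalizer_iff]
    refine fun w => ⟨fun hw => H.part_conj hx hqp (hQ ha) hw, fun h => ?_⟩
    have := H.part_conj hx hqp (inv_mem (hQ ha)) h
    simpa [mul_assoc] using this
  have hs := IsPGroup.to_sup_of_normal_left' (H.part_isPGroup hx q) Q.isPGroup' hn
  exact le_sup_left.trans (Q.3 hs le_sup_right).le

theorem Four.swap {H : Two G p} {x : G} {hx : Reg p x} {t X : G ⧸ Subgroup.center G}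
    (F : Four H hx t X) : Four H hx X t :=
  ⟨F.hX, F.ht, F.X1, F.t1, F.ne.symm, F.X2, F.t2, F.comm.symm, fun Y hY h2 => by
    rcases F.all Y hY h2 with h | h | h | h
    · exact Or.inl h
    · exact Or.inr (Or.inr (Or.inl h))
    · exact Or.inr (Or.inl h)
    · exact Or.inr (Or.inr (Or.inr (h.trans F.comm)))⟩

theorem Four.shift {H : Two G p} {x : G} {hx : Reg p x} {t X : G ⧸ Subgroup.center G}
    (F : Four H hx t X) : Four H hx (t * X) X := by
  haveI := Fact.mk Nat.prime_two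
  have htXX : t * X * X = t := by rw [mul_assoc, F.X2, mul_one]
  refine ⟨mul_mem F.ht F.hX, F.hX, fun h => F.ne ?_, F.X1, fun h => F.t1 (mul_eq_right.1 h), ?_,
    F.X2, ?_, fun Y hY h2 => ?_⟩
  · exact (mul_eq_one_iff_eq_inv.1 h).trans (inv_eq_of_mul_eq_one_left F.X2)
  · calc t * X * (t * X) = t * X * (X * t) := by rw [F.comm]
      _ = t * (X * X) * t := by group
      _ = 1 := by rw [F.X2, mul_one, F.t2]
  · rw [mul_assoc, F.X2, mul_one, ← mul_assoc, ← F.comm, mul_assoc, F.X2, mul_one]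
  · rw [htXX]
    rcases F.all Y hY h2 with h | h | h | h
    · exact Or.inl h
    · exact Or.inr (Or.inr (Or.inr h))
    · exact Or.inr (Or.inr (Or.inl h))
    · exact Or.inr (Or.inl h)

/-- A Sylow `2`-subgroup normalizes only one centralizer. -/
theorem TwoCase.unique (H : TwoCase G p 3) {Q : Sylow 2 G} {c x : G} (hc : c ∈ (Q : Subgroup G))
    (hcR : Reg p c) (hcc : ∀ a ∈ (Q : Subgroup G), bar a * bar c = bar c * bar a) (hx : Reg p x)
    (hQ : (Q : Subgroup G) ≤ Subgroup.normalizer (Cn x : Set G)) : Cn x = Cn c := by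
  haveI := Fact.mk Nat.prime_two
  obtain ⟨g, t, X, u, -, -, -, -, F, -⟩ := H.setup hx
  have key : ∀ Y ∈ (H.part hx 2).map bar, cj c Y = Y := by
    rintro _ ⟨w, hw, rfl⟩
    exact cj_eq_self_iff.2 (hcc w (H.part_le_sylow hx H.hq.ne Q hQ hw)).symm
  exact (H.cn_eq hx (H.mem_of_fix hx (hQ hc) F (key _ F.ht) (key _ F.hX)) hcR).symm

/-- Sylow `2`-subgroups have order at most eight modulo the center. -/
theorem TwoCase.sylow_two_le (H : TwoCase G p 3) (Q : Sylow 2 G) :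
    Nat.card ((Q : Subgroup G).map bar) ≤ 8 := by
  classical
  haveI := Fact.mk Nat.prime_two
  obtain ⟨c, hc, hcR, hcp, hcc⟩ := H.exists_central H.hq Q
  have hQN : (Q : Subgroup G) ≤ Subgroup.normalizer (Cn c : Set G) :=
    fun a ha => normalizer_of_bar_comm (hcc a ha)
  obtain ⟨g, t₀, X₀, u, hgp, hgN, hgC, hgq, F₀, -⟩ := H.setup hcR
  have h4 := H.four hcR hgp hgN hgC hgq
  have hcM : bar c ∈ (H.part hcR 2).map bar :=
    Subgroup.mem_map_of_mem _ ((H.mem_part hcR H.hq.ne).2 ⟨self_mem_cn c, hcp⟩)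
  obtain ⟨X, F⟩ : ∃ X, Four H.toTwo hcR (bar c) X := by
    rcases F₀.all _ hcM (h4 _ hcM) with h | h | h | h
    · exact absurd (bar_eq_one.1 h) hcR.2
    · exact ⟨X₀, h ▸ F₀⟩
    · exact ⟨t₀, h ▸ F₀.swap⟩
    · exact ⟨X₀, h ▸ F₀.shift⟩
  have hfix : ∀ a ∈ (Q : Subgroup G), cj a (bar c) = bar c :=
    fun a ha => cj_eq_self_iff.2 (hcc a ha)
  have hsw : ∀ a ∈ (Q : Subgroup G), a ∈ Cn c ∨ cj a X = bar c * X := by
    intro a ha
    rcases F.cases H.hq (hQN ha) (Or.inr (Or.inl rfl)) with h | h | h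
    · exact absurd (cj_inj (h.trans (hfix a ha).symm)) F.ne.symm
    · exact Or.inl (H.mem_of_fix hcR (hQN ha) F (hfix a ha) h)
    · exact Or.inr h
  set S : Finset (G ⧸ Subgroup.center G) := {1, bar c, X, bar c * X} with hS
  have hS4 : S.card ≤ 4 := Finset.card_le_four
  have hCS : ∀ a ∈ (Q : Subgroup G), a ∈ Cn c → bar a ∈ S := by
    intro a ha haC
    have haM : bar a ∈ (H.part hcR 2).map bar := Subgroup.mem_map_of_mem _
      ((H.mem_part hcR H.hq.ne).2 ⟨haC, IsPE.of_mem_pgroup Q.isPGroup' ha⟩)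
    simp only [hS, Finset.mem_insert, Finset.mem_singleton]
    exact F.all _ haM (h4 _ haM)
  obtain ⟨T, hT, hsub⟩ : ∃ T : Finset (G ⧸ Subgroup.center G), T.card ≤ 8 ∧
      ∀ a ∈ (Q : Subgroup G), bar a ∈ T := by
    by_cases hall : ∀ a ∈ (Q : Subgroup G), a ∈ Cn c
    · exact ⟨S, by omega, fun a ha => hCS a ha (hall a ha)⟩
    push Not at hall
    obtain ⟨n, hn, hnC⟩ := hall
    refine ⟨S ∪ S.image (fun Y => Y * (bar n)⁻¹),
      (Finset.card_union_le _ _).trans (by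
        have := Finset.card_image_le (s := S) (f := fun Y => Y * (bar n)⁻¹); omega), fun a ha => ?_⟩
    rcases hsw a ha with h | h
    · exact Finset.mem_union_left _ (hCS a ha h)
    have hnX := (hsw n hn).resolve_left hnC
    refine Finset.mem_union_right _ (Finset.mem_image.2 ⟨bar (a * n),
      hCS _ (mul_mem ha hn) (H.mem_of_fix hcR (hQN (mul_mem ha hn)) F ?_ ?_), ?_⟩)
    · rw [cj_mul_left, hfix n hn, hfix a ha]
    · rw [cj_mul_left, hnX, cj_mul, hfix a ha, h, ← mul_assoc, F.t2, one_mul]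
    · rw [map_mul, mul_inv_cancel_right]
  have : ((((Q : Subgroup G).map bar) : Set (G ⧸ Subgroup.center G))).ncard ≤ T.card := by
    rw [← Set.ncard_coe_finset]
    exact Set.ncard_le_ncard (by rintro _ ⟨a, ha, rfl⟩; exact hsub a ha) T.finite_toSet
  rw [← SetLike.coe_sort_coe, Nat.card_coe_set_eq]
  exact this.trans hT

/-- Every centralizer is normalized by a Sylow `2`-subgroup. -/
theorem TwoCase.exists_sylow_norm (H : TwoCase G p 3) {x : G} (hx : Reg p x) :
    ∃ Q : Sylow 2 G, (Q : Subgroup G) ≤ Subgroup.normalizer (Cn x : Set G) := by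
  classical
  haveI := Fact.mk Nat.prime_two
  obtain ⟨g, t, X, u, hgp, hgN, hgC, -, F, -⟩ := H.setup hx
  have hP : IsPGroup 2 (H.part hx 2) := H.part_isPGroup hx 2
  have hZ : IsPGroup 2 (Subgroup.zpowers g) := by
    obtain ⟨j, hj⟩ := hgp
    exact IsPGroup.of_card (n := j) (by rw [Nat.card_zpowers, hj])
  have hn : Subgroup.zpowers g ≤ Subgroup.normalizer (H.part hx 2 : Set G) := by
    rw [Subgroup.zpowers_le, Subgroup.mem_normalizer_iff]
    refine fun w => ⟨fun hw => H.part_conj hx H.hq.ne hgN hw, fun h => ?_⟩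
    have := H.part_conj hx H.hq.ne (inv_mem hgN) h
    simpa [mul_assoc] using this
  have hsup := IsPGroup.to_sup_of_normal_left' hP hZ hn
  obtain ⟨Q, hQ⟩ := hsup.exists_le_sylow
  refine ⟨Q, ?_⟩
  set P := (H.part hx 2 ⊔ Subgroup.zpowers g) with hPdef
  have hPN : P ≤ Subgroup.normalizer (Cn x : Set G) :=
    sup_le ((H.part_le hx 2).trans Subgroup.le_normalizer) (Subgroup.zpowers_le.2 hgN)
  set S : Finset (G ⧸ Subgroup.center G) := {1, t, X, t * X, bar g} with hS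
  have hgM : ∀ Y ∈ (H.part hx 2).map bar, bar g ≠ Y := by
    rintro _ ⟨w, hw, rfl⟩ h
    obtain ⟨z, hz, rfl⟩ := bar_eq_bar.1 h
    exact hgC (mul_mem (center_le_cn x hz) hw.1.1)
  have hcard : S.card = 5 := by
    have e1 : t * X ≠ 1 := F.shift.t1
    have e2 : t * X ≠ t := fun h => F.X1 (mul_eq_left.1 h)
    have e3 : t * X ≠ X := F.shift.ne
    rw [hS, Finset.card_insert_of_notMem, Finset.card_insert_of_notMem,
      Finset.card_insert_of_notMem, Finset.card_insert_of_notMem, Finset.card_singleton]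
    · simpa using (hgM _ (mul_mem F.ht F.hX)).symm
    · simp only [Finset.mem_insert, Finset.mem_singleton, not_or]
      exact ⟨e3.symm, (hgM _ F.hX).symm⟩
    · simp only [Finset.mem_insert, Finset.mem_singleton, not_or]
      exact ⟨F.ne, e2.symm, (hgM _ F.ht).symm⟩
    · simp only [Finset.mem_insert, Finset.mem_singleton, not_or]
      exact ⟨F.t1.symm, F.X1.symm, e1.symm, (hgM 1 (one_mem _)).symm⟩
  have hle : (P.map bar) ≤ (Q : Subgroup G).map bar := Subgroup.map_mono hQ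
  have h5 : 5 ≤ Nat.card (P.map bar) := by
    have hsub : (S : Set (G ⧸ Subgroup.center G)) ⊆ (P.map bar : Set (G ⧸ Subgroup.center G)) := by
      have hM : (H.part hx 2).map bar ≤ P.map bar := Subgroup.map_mono le_sup_left
      intro Y hY
      simp only [hS, Finset.coe_insert, Finset.coe_singleton, Set.mem_insert_iff,
        Set.mem_singleton_iff] at hY
      rcases hY with rfl | rfl | rfl | rfl | rfl
      · exact one_mem _
      · exact hM F.ht
      · exact hM F.hX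
      · exact hM (mul_mem F.ht F.hX)
      · exact Subgroup.mem_map_of_mem _ (Subgroup.mem_sup_right (Subgroup.mem_zpowers g))
    have := Set.ncard_le_ncard hsub (Set.toFinite _)
    rw [Set.ncard_coe_finset, hcard, ← Nat.card_coe_set_eq] at this
    exact this
  have h8 := H.sylow_two_le Q
  have heq : P.map bar = (Q : Subgroup G).map bar := by
    apply Subgroup.eq_of_le_of_card_ge hle
    obtain ⟨n, hn'⟩ := (hsup.map bar).exists_card_eq
    have h3 : 3 ≤ n := by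
      by_contra hlt
      have : 2 ^ n ≤ 4 := (Nat.pow_le_pow_right (by norm_num) (by omega : n ≤ 2)).trans (by norm_num)
      omega
    have : 2 ^ 3 ≤ 2 ^ n := Nat.pow_le_pow_right (by norm_num) h3
    omega
  intro a ha
  obtain ⟨b, hb, hab⟩ : bar a ∈ P.map bar := heq ▸ Subgroup.mem_map_of_mem _ ha
  obtain ⟨z, hz, rfl⟩ := bar_eq_bar.1 hab.symm
  exact mul_mem (Subgroup.le_normalizer (center_le_cn x hz)) (hPN hb)

/-- All centralizers are conjugate. -/
theorem TwoCase.exists_conj (H : TwoCase G p 3) {x y : G} (hx : Reg p x) (hy : Reg p y) :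
    ∃ k : G, Cn (k * x * k⁻¹) = Cn y := by
  haveI := Fact.mk Nat.prime_two
  obtain ⟨Q₁, hQ₁⟩ := H.exists_sylow_norm hx
  obtain ⟨Q₂, hQ₂⟩ := H.exists_sylow_norm hy
  obtain ⟨k, hk⟩ := MulAction.exists_smul_eq G Q₁ Q₂
  obtain ⟨c, hc, hcR, -, hcc⟩ := H.exists_central H.hq Q₂
  refine ⟨k, ?_⟩
  rw [H.unique hc hcR hcc hy hQ₂]
  refine H.unique hc hcR hcc (reg_conj hx k) ?_
  intro a ha
  rw [← hk, Sylow.coe_subgroup_smul, Subgroup.mem_pointwise_smul_iff_inv_smul_mem] at ha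
  have h1 : k⁻¹ * a * k ∈ Subgroup.normalizer (Cn x : Set G) := by
    have := hQ₁ ha
    simpa [MulAut.smul_def] using this
  apply mem_normalizer_cn
  have h2 : Cn ((k⁻¹ * a * k) * x * (k⁻¹ * a * k)⁻¹) = Cn x :=
    H.cn_eq hx (conj_mem_of_normalizer h1 (self_mem_cn x)) (reg_conj hx _)
  ext v
  rw [← conj_mem_cn k⁻¹, ← conj_mem_cn k⁻¹ (x := k * x * k⁻¹)]
  rw [show k⁻¹ * (a * (k * x * k⁻¹) * a⁻¹) * k⁻¹⁻¹ = (k⁻¹ * a * k) * x * (k⁻¹ * a * k)⁻¹ by group,
    h2, show k⁻¹ * (k * x * k⁻¹) * k⁻¹⁻¹ = x by group]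

/-- The subgroup `⟨B, U⟩` for commuting elements of order three. -/
def plane {Γ : Type*} [Group Γ] {B U : Γ} (h : B * U = U * B) (hB : B ^ 3 = 1) (hU : U ^ 3 = 1) :
    Subgroup Γ where
  carrier := {Y | ∃ i j : ℕ, Y = B ^ i * U ^ j}
  mul_mem' := by
    rintro _ _ ⟨i, j, rfl⟩ ⟨k, l, rfl⟩
    refine ⟨i + k, j + l, ?_⟩
    have e : U ^ j * B ^ k = B ^ k * U ^ j := ((show Commute B U from h).pow_pow k j).eq.symm
    rw [pow_add, pow_add, mul_assoc, ← mul_assoc (U ^ j), e]; group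
  one_mem' := ⟨0, 0, by simp⟩
  inv_mem' := by
    rintro _ ⟨i, j, rfl⟩
    refine ⟨2 * i, 2 * j, inv_eq_of_mul_eq_one_right ?_⟩
    have e : U ^ j * B ^ (2 * i) = B ^ (2 * i) * U ^ j :=
      ((show Commute B U from h).pow_pow _ j).eq.symm
    calc B ^ i * U ^ j * (B ^ (2 * i) * U ^ (2 * j))
        = B ^ i * (U ^ j * B ^ (2 * i)) * U ^ (2 * j) := by group
      _ = B ^ (i + 2 * i) * U ^ (j + 2 * j) := by rw [e, pow_add, pow_add]; group
      _ = 1 := by
        rw [show i + 2 * i = 3 * i by ring, show j + 2 * j = 3 * j by ring, pow_mul, pow_mul, hB,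
          hU, one_pow, one_pow, one_mul]

theorem card_plane_le {Γ : Type*} [Group Γ] [Finite Γ] {B U : Γ} (h : B * U = U * B)
    (hB : B ^ 3 = 1) (hU : U ^ 3 = 1) : Nat.card (plane h hB hU) ≤ 9 := by
  have hsurj : Function.Surjective (fun q : Fin 3 × Fin 3 =>
      (⟨B ^ (q.1 : ℕ) * U ^ (q.2 : ℕ), _, _, rfl⟩ : plane h hB hU)) := by
    rintro ⟨_, i, j, rfl⟩
    refine ⟨(⟨i % 3, Nat.mod_lt _ (by norm_num)⟩, ⟨j % 3, Nat.mod_lt _ (by norm_num)⟩), ?_⟩
    apply Subtype.ext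
    show B ^ (i % 3) * U ^ (j % 3) = B ^ i * U ^ j
    rw [← pow_eq_pow_mod i hB, ← pow_eq_pow_mod j hU]
  have := Nat.card_le_card_of_surjective _ hsurj
  simpa [Nat.card_eq_fintype_card] using this

/-- Sylow `3`-subgroups have order at most nine modulo the center. -/
theorem TwoCase.sylow_three_le (H : TwoCase G p 3) (S : Sylow 3 G) :
    Nat.card ((S : Subgroup G).map bar) ≤ 9 := by
  haveI := Fact.mk Nat.prime_three
  obtain ⟨c, hc, hcR, hcp, hcc⟩ := H.exists_central H.hr S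
  have hSN : (S : Subgroup G) ≤ Subgroup.normalizer (Cn c : Set G) :=
    fun a ha => normalizer_of_bar_comm (hcc a ha)
  obtain ⟨g, t, X, u, hgp, hgN, hgC, hgq, F, hgt, hgX, hup, huN, huC, huq, hut, huX⟩ :=
    H.setup hcR
  obtain ⟨hM, hrank⟩ := H.three_part hcR hgp hgN hgC hgq hup huN huC F hgt hgX hut huX
  have hcM : bar c ∈ (H.part hcR 3).map bar :=
    Subgroup.mem_map_of_mem _ ((H.mem_part hcR H.hr.ne).2 ⟨self_mem_cn c, hcp⟩)
  have hc3 := (hM _ hcM).2
  have hc1 : bar c ≠ 1 := fun h => hcR.2 (bar_eq_one.1 h)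
  have hCS : ∀ a ∈ (S : Subgroup G), a ∈ Cn c → ∃ i, bar a = bar c ^ i := fun a ha haC =>
    hrank _ hcM _ (Subgroup.mem_map_of_mem _
      ((H.mem_part hcR H.hr.ne).2 ⟨haC, IsPE.of_mem_pgroup S.isPGroup' ha⟩)) hc1
  by_cases hall : ∀ a ∈ (S : Subgroup G), a ∈ Cn c
  · have hle : (S : Subgroup G).map bar ≤ plane (B := bar c) (U := 1) (by simp) hc3 (one_pow _) := by
      rintro _ ⟨a, ha, rfl⟩
      obtain ⟨i, hi⟩ := hCS a ha (hall a ha)
      exact ⟨i, 0, by simpa using hi⟩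
    exact (Subgroup.card_le_of_le hle).trans (card_plane_le _ _ _)
  push Not at hall
  obtain ⟨n₁, hn₁, hn₁C⟩ := hall
  obtain ⟨n, hn, hnt, hnX, hnC⟩ : ∃ n ∈ (S : Subgroup G), cj n t = X ∧ cj n X = t * X ∧ n ∉ Cn c := by
    rcases H.three_cases hcR (IsPE.of_mem_pgroup S.isPGroup' hn₁) (hSN hn₁) F with h | ⟨h1, h2⟩ | ⟨h1, h2⟩
    · exact absurd h hn₁C
    · exact ⟨n₁, hn₁, h1, h2, hn₁C⟩
    · have e1 : cj (n₁ * n₁) t = X := by
        rw [cj_mul_left, h1, cj_mul, h1, h2, F.comm, mul_assoc, F.t2, mul_one]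
      refine ⟨n₁ * n₁, mul_mem hn₁ hn₁, e1, by rw [cj_mul_left, h2, h1], fun h => F.ne ?_⟩
      rw [← e1, H.cj_eq_of_mem hcR h F.ht]
  have hnp := IsPE.of_mem_pgroup S.isPGroup' hn
  have hn3 : bar n ^ 3 = 1 := by
    rw [← map_pow]
    exact bar_eq_one.2 (H.pow_mem_center hcR hnC (coprime_of_pe H.toHyp Nat.prime_three H.hr.ne hnp)
      (H.cube_mem hcR hnp (hSN hn)))
  have hcomm : bar c * bar n = bar n * bar c := (hcc n hn).symm
  have hle : (S : Subgroup G).map bar ≤ plane hcomm hc3 hn3 := by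
    rintro _ ⟨a, ha, rfl⟩
    rcases H.coset hcR (IsPE.of_mem_pgroup S.isPGroup' ha) (hSN ha) (hSN hn) F hnt hnX with h | h | h
    · obtain ⟨i, hi⟩ := hCS a ha h
      exact ⟨i, 0, by simpa using hi⟩
    · obtain ⟨i, hi⟩ := hCS _ (mul_mem ha hn) h
      refine ⟨i, 2, ?_⟩
      rw [← hi, map_mul, mul_assoc, ← pow_succ', hn3, mul_one]
    · obtain ⟨i, hi⟩ := hCS _ (mul_mem ha (mul_mem hn hn)) h
      refine ⟨i, 1, ?_⟩
      rw [← hi, map_mul, map_mul, pow_one, mul_assoc, mul_assoc, ← sq, ← pow_succ', hn3, mul_one]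
  exact (Subgroup.card_le_of_le hle).trans (card_plane_le _ _ _)

end Cfsg.Agent.TwoRegSizes38
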