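import Cfsg.Agent.Lib.TwoRegSizesTwo38

/-!
# Two class sizes of `p`-regular elements: the local structure at the prime three
-/

namespace Cfsg.Agent.TwoRegSizes38

variable {G : Type*} [Group G] [Finite G] {p : ℕ}

theorem TwoCase.coprime_three {p : ℕ} (H : TwoCase G p 3) {n : G} (hn : IsPE 3 n) :
    (2 : ℕ).Coprime (orderOf n) := by
  obtain ⟨j, hj⟩ := hn
  rw [hj]; exact H.r_ne.pow_right j

/-- The action of elements of three-power order on a four-group. -/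
theorem TwoCase.three_cases (H : TwoCase G p 3) {x n : G} (hx : Reg p x) (hn : IsPE 3 n)
    (hnN : n ∈ Subgroup.normalizer (Cn x : Set G)) {t X : G ⧸ Subgroup.center G}
    (F : Four H.toTwo hx t X) :
    n ∈ Cn x ∨ (cj n t = X ∧ cj n X = t * X) ∨ (cj n t = t * X ∧ cj n X = t) := by
  have htXX : t * X * X = t := by rw [mul_assoc, F.X2, mul_one]
  have httX : t * (t * X) = X := by rw [← mul_assoc, F.t2, one_mul]
  have hXtX : X * (t * X) = t := by rw [F.comm, ← mul_assoc, F.X2, one_mul]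
  have htXt : t * X * t = X := by rw [mul_assoc, ← F.comm, httX]
  have hfix2 : ∀ Y, cj n (cj n Y) = Y → cj n Y = Y := fun Y h =>
    fix_of_pow (n := 2) (by rw [sq, cj_mul_left]; exact h) (H.coprime_three hn)
  have hneX : t * X ≠ X := fun h => F.t1 (mul_eq_right.1 h)
  have hnet : t * X ≠ t := fun h => F.X1 (mul_eq_left.1 h)
  rcases F.cases H.hq hnN (Or.inl rfl) with h | h | h
  · rcases F.cases H.hq hnN (Or.inr (Or.inl rfl)) with h' | h' | h'
    · exact absurd (cj_inj (h.trans h'.symm)) F.ne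
    · exact Or.inl (H.mem_of_fix hx hnN F h h')
    · have h2 : cj n (cj n X) = X := by rw [h', cj_mul, h, h', httX]
      exact absurd (h'.symm.trans (hfix2 X h2)) hneX
  · rcases F.cases H.hq hnN (Or.inr (Or.inl rfl)) with h' | h' | h'
    · have h2 : cj n (cj n t) = t := by rw [h, h']
      exact absurd (h.symm.trans (hfix2 t h2)).symm F.ne
    · exact absurd (cj_inj (h.trans h'.symm)) F.ne
    · exact Or.inr (Or.inl ⟨h, h'⟩)
  · rcases F.cases H.hq hnN (Or.inr (Or.inl rfl)) with h' | h' | h'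
    · exact Or.inr (Or.inr ⟨h, h'⟩)
    · have h2 : cj n (cj n t) = t := by rw [h, cj_mul, h, h', htXX]
      exact absurd (h.symm.trans (hfix2 t h2)) hnet
    · exact absurd (cj_inj (h.trans h'.symm)) F.ne

/-- Products of two elements of three-power order with opposite action lie in the centralizer. -/
theorem TwoCase.mul_mem_three (H : TwoCase G p 3) {x n u : G} (hx : Reg p x)
    (hnN : n ∈ Subgroup.normalizer (Cn x : Set G))
    (huN : u ∈ Subgroup.normalizer (Cn x : Set G)) {t X : G ⧸ Subgroup.center G}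
    (F : Four H.toTwo hx t X) (hut : cj u t = X) (huX : cj u X = t * X)
    (h1 : cj n t = t * X) (h2 : cj n X = t) : n * u ∈ Cn x := by
  refine H.mem_of_fix hx (mul_mem hnN huN) F ?_ ?_
  · rw [cj_mul_left, hut, h2]
  · rw [cj_mul_left, huX, cj_mul, h1, h2, F.comm, mul_assoc, F.t2, mul_one]

theorem TwoCase.coset (H : TwoCase G p 3) {x n u : G} (hx : Reg p x) (hn : IsPE 3 n)
    (hnN : n ∈ Subgroup.normalizer (Cn x : Set G))
    (huN : u ∈ Subgroup.normalizer (Cn x : Set G)) {t X : G ⧸ Subgroup.center G}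
    (F : Four H.toTwo hx t X) (hut : cj u t = X) (huX : cj u X = t * X) :
    n ∈ Cn x ∨ n * u ∈ Cn x ∨ n * (u * u) ∈ Cn x := by
  rcases H.three_cases hx hn hnN F with h | ⟨h1, h2⟩ | ⟨h1, h2⟩
  · exact Or.inl h
  · refine Or.inr (Or.inr (H.mem_of_fix hx (mul_mem hnN (mul_mem huN huN)) F ?_ ?_))
    · rw [cj_mul_left, cj_mul_left, hut, huX, cj_mul, h1, h2, F.comm, ← mul_assoc, F.X2, one_mul]
    · rw [cj_mul_left, cj_mul_left, huX, cj_mul, hut, huX, F.comm, ← mul_assoc, F.X2, one_mul, h1]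
  · exact Or.inr (Or.inl (H.mul_mem_three hx hnN huN F hut huX h1 h2))

/-- The data attached to a centralizer. -/
theorem TwoCase.setup (H : TwoCase G p 3) {x : G} (hx : Reg p x) :
    ∃ g t X u, IsPE 2 g ∧ g ∈ Subgroup.normalizer (Cn x : Set G) ∧ g ∉ Cn x ∧ bar g ^ 2 = 1 ∧
      Four H.toTwo hx t X ∧ cj g t = t ∧ cj g X = t * X ∧
      IsPE 3 u ∧ u ∈ Subgroup.normalizer (Cn x : Set G) ∧ u ∉ Cn x ∧ bar u ^ 3 = 1 ∧
      cj u t = X ∧ cj u X = t * X := by
  obtain ⟨g, hgp, hgN, hgC, hgq⟩ := H.exists_invol hx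
  obtain ⟨-, t, X, F, hgt, hgX, u, h1, h2, h3, h4, h5, h6⟩ := H.local_two hx hgp hgN hgC hgq
  exact ⟨g, t, X, u, hgp, hgN, hgC, hgq, F, hgt, hgX, h1, h2, h3, h4, h5, h6⟩

/-- Cubes of elements of three-power order lie in the centralizer. -/
theorem TwoCase.cube_mem (H : TwoCase G p 3) {x n : G} (hx : Reg p x) (hn : IsPE 3 n)
    (hnN : n ∈ Subgroup.normalizer (Cn x : Set G)) : n ^ 3 ∈ Cn x := by
  obtain ⟨g, t, X, u, -, -, -, -, F, -⟩ := H.setup hx
  have e3 : ∀ Y, cj (n ^ 3) Y = cj n (cj n (cj n Y)) := fun Y => by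
    rw [pow_succ, sq, cj_mul_left, cj_mul_left]
  rcases H.three_cases hx hn hnN F with h | ⟨h1, h2⟩ | ⟨h1, h2⟩
  · exact pow_mem h 3
  · refine H.mem_of_fix hx (pow_mem hnN 3) F ?_ ?_
    · rw [e3, h1, h2, cj_mul, h1, h2, F.comm, ← mul_assoc, F.X2, one_mul]
    · rw [e3, h2, cj_mul, h1, h2, F.comm, ← mul_assoc, F.X2, one_mul, h1]
  · refine H.mem_of_fix hx (pow_mem hnN 3) F ?_ ?_
    · rw [e3, h1, cj_mul, h1, h2, F.comm, mul_assoc, F.t2, mul_one, h2]
    · rw [e3, h2, h1, cj_mul, h1, h2, F.comm, mul_assoc, F.t2, mul_one]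

omit [Finite G] in
theorem bar_inv_of_sq {g : G} (h : bar g ^ 2 = 1) : bar g⁻¹ = bar g := by
  rw [map_inv]; exact inv_eq_of_mul_eq_one_right (by rw [← sq]; exact h)

omit [Finite G] in
theorem cj_inv_right (g : G) (Y : G ⧸ Subgroup.center G) : cj g Y⁻¹ = (cj g Y)⁻¹ := by
  simp [cj, mul_assoc]

/-- Involutions outside invert the three-part. -/
theorem TwoCase.invert (H : TwoCase G p 3) {x g : G} (hx : Reg p x) (hgp : IsPE 2 g)
    (hgN : g ∈ Subgroup.normalizer (Cn x : Set G)) (hgC : g ∉ Cn x) (hgq : bar g ^ 2 = 1) :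
    haveI := Fact.mk Nat.prime_three
    ∀ Y ∈ (H.part hx 3).map bar, cj g Y = Y⁻¹ := by
  haveI := Fact.mk Nat.prime_three
  rintro _ ⟨v, hv, rfl⟩
  set w := g * v * g⁻¹ * v with hw
  have hv' := H.part_conj hx H.hr.ne hgN hv
  have hwP : w ∈ H.part hx 3 := mul_mem hv' hv
  have hgg : cj g (cj g (bar v)) = bar v := by
    rw [← cj_mul_left, cj, map_mul, ← sq, hgq]; group
  have hfix : cj g (bar w) = bar w := by
    rw [hw, map_mul, ← cj_bar, cj_mul, hgg, H.map_part_comm hx (Subgroup.mem_map_of_mem _ hv)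
      (H.cj_mem hx H.hr.ne hgN (Subgroup.mem_map_of_mem _ hv))]
  by_cases hwZ : w ∈ Subgroup.center G
  · have := bar_eq_one.2 hwZ
    rw [hw, map_mul, ← cj_bar] at this
    exact eq_inv_of_mul_eq_one_left this
  · exact absurd (cj_eq_self_iff.1 hfix) (H.not_bar_comm hx hgC hwP.1.1 ⟨hwP.1.2, hwZ⟩
      (hgp.coprime_coprime ((H.mem_part hx H.hr.ne).1 hwP).2 H.r_ne))

/-- The three-part is fixed, of exponent three and of rank one. -/
theorem TwoCase.three_part (H : TwoCase G p 3) {x g u : G} (hx : Reg p x) (hgp : IsPE 2 g)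
    (hgN : g ∈ Subgroup.normalizer (Cn x : Set G)) (hgC : g ∉ Cn x) (hgq : bar g ^ 2 = 1)
    (hup : IsPE 3 u) (huN : u ∈ Subgroup.normalizer (Cn x : Set G)) (huC : u ∉ Cn x)
    {t X : G ⧸ Subgroup.center G} (F : Four H.toTwo hx t X) (hgt : cj g t = t)
    (hgX : cj g X = t * X) (hut : cj u t = X) (huX : cj u X = t * X) :
    haveI := Fact.mk Nat.prime_three
    (∀ Y ∈ (H.part hx 3).map bar, cj u Y = Y ∧ Y ^ 3 = 1) ∧
      ∀ Y ∈ (H.part hx 3).map bar, ∀ Z ∈ (H.part hx 3).map bar, Y ≠ 1 →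
        ∃ i : ℕ, Z = Y ^ i := by
  haveI := Fact.mk Nat.prime_three
  have hcjg : ∀ Y, cj g⁻¹ Y = cj g Y := fun Y => by rw [cj, cj, bar_inv_of_sq hgq]
  have hinv := H.invert hx hgp hgN hgC hgq
  set n := g * u * g⁻¹ with hn
  have hnN : n ∈ Subgroup.normalizer (Cn x : Set G) := mul_mem (mul_mem hgN huN) (inv_mem hgN)
  have hnY : ∀ Y, cj n Y = cj g (cj u (cj g Y)) := fun Y => by
    rw [hn, cj_mul_left, cj_mul_left, hcjg]
  have h1 : cj n t = t * X := by rw [hnY, hgt, hut, hgX]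
  have h2 : cj n X = t := by
    rw [hnY, hgX, cj_mul, hut, huX, F.comm, ← mul_assoc, F.X2, one_mul, hgt]
  have hnu : n * u ∈ Cn x := H.mul_mem_three hx hnN huN F hut huX h1 h2
  have hu : ∀ Y ∈ (H.part hx 3).map bar, cj u Y = Y := by
    intro Y hY
    have hW : cj u Y ∈ (H.part hx 3).map bar := H.cj_mem hx H.hr.ne huN hY
    have e := H.cj_eq_of_mem hx hnu hY
    rw [cj_mul_left, hnY, hinv _ hW, cj_inv_right, cj_inv_right,
      hinv _ (H.cj_mem hx H.hr.ne huN hW), inv_inv] at e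
    exact fix_of_pow (n := 2) (by rw [sq, cj_mul_left]; exact e) (H.coprime_three hup)
  have huR : Reg p u := reg_of_pe H.toHyp Nat.prime_three H.hr.ne hup fun h => huC (center_le_cn x h)
  have hexp : ∀ Y ∈ (H.part hx 3).map bar, Y ^ 3 = 1 := by
    rintro _ ⟨v, hv, rfl⟩
    by_cases hvZ : v ∈ Subgroup.center G
    · rw [bar_eq_one.2 hvZ, one_pow]
    have hvC : v ∉ Cn u := fun h => huC (by
      rw [← H.cn_eq hx hv.1.1 ⟨hv.1.2, hvZ⟩, H.cn_eq huR h ⟨hv.1.2, hvZ⟩]; exact self_mem_cn u)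
    rw [← map_pow]
    refine bar_eq_one.2 (H.pow_mem_center huR hvC hv.1.2
      (H.cube_mem huR ((H.mem_part hx H.hr.ne).1 hv).2 (normalizer_of_bar_comm ?_)))
    exact (cj_eq_self_iff.1 (hu _ (Subgroup.mem_map_of_mem _ hv))).symm
  refine ⟨fun Y hY => ⟨hu Y hY, hexp Y hY⟩, ?_⟩
  rintro _ ⟨a, ha, rfl⟩ _ ⟨b, hb, rfl⟩ hne
  exact H.toTwo.line H.hr H.hq (by decide) hx hup huC ha hb (fun h => hne (bar_eq_one.2 h))
    (cj_eq_self_iff.1 (hu _ (Subgroup.mem_map_of_mem _ ha))).symm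
    (cj_eq_self_iff.1 (hu _ (Subgroup.mem_map_of_mem _ hb))).symm
    (hexp _ (Subgroup.mem_map_of_mem _ ha)) (hexp _ (Subgroup.mem_map_of_mem _ hb))

end Cfsg.Agent.TwoRegSizes38
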