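import Cfsg.Agent.Lib.TwoRegSizesPair38

/-!
# Two class sizes of `p`-regular elements: the local structure at the prime two
-/

namespace Cfsg.Agent.TwoRegSizes38

variable {G : Type*} [Group G] [Finite G] {p : ℕ}

/-- Two and an odd prime both divide the class size. -/
structure TwoCase (G : Type*) [Group G] (p r : ℕ) : Prop extends Two G p where
  hq : InPi G p 2
  hr : InPi G p r
  hqr : 2 < r
  hdq : ∀ x : G, Reg p x → 2 ∣ (Cn x).index
  hdr : ∀ x : G, Reg p x → r ∣ (Cn x).index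

variable {r : ℕ}

/-- Conjugation in the quotient by the center. -/
def cj (g : G) (Y : G ⧸ Subgroup.center G) : G ⧸ Subgroup.center G := bar g * Y * (bar g)⁻¹

omit [Finite G] in
theorem cj_mul_left (g h : G) (Y : G ⧸ Subgroup.center G) : cj (g * h) Y = cj g (cj h Y) := by
  simp only [cj, map_mul]; group

omit [Finite G] in
theorem cj_mul (g : G) (X Y : G ⧸ Subgroup.center G) : cj g (X * Y) = cj g X * cj g Y := by
  simp only [cj]; group

omit [Finite G] in
theorem cj_inj {g : G} {X Y : G ⧸ Subgroup.center G} (h : cj g X = cj g Y) : X = Y := by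
  simpa [cj] using h

omit [Finite G] in
theorem cj_one (g : G) : cj g 1 = 1 := by simp [cj]

omit [Finite G] in
theorem cj_eq_self_iff {g : G} {Y : G ⧸ Subgroup.center G} :
    cj g Y = Y ↔ bar g * Y = Y * bar g := mul_inv_eq_iff_eq_mul

omit [Finite G] in
theorem cj_bar (g w : G) : cj g (bar w) = bar (g * w * g⁻¹) := by
  simp only [cj, map_mul, map_inv]

omit [Finite G] in
theorem cj_pow_fix {g : G} {Y : G ⧸ Subgroup.center G} (h : cj g Y = Y) (n : ℕ) :
    cj (g ^ n) Y = Y := by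
  induction n with
  | zero => simp [cj]
  | succ n ih => rw [pow_succ, cj_mul_left, h, ih]

omit [Finite G] in
theorem fix_of_pow {g : G} {Y : G ⧸ Subgroup.center G} {n : ℕ} (h : cj (g ^ n) Y = Y)
    (hco : n.Coprime (orderOf g)) : cj g Y = Y := by
  obtain ⟨m, hm⟩ := exists_pow_eq_self_of_coprime (n := n) (x := g) hco
  rw [← hm]; exact cj_pow_fix h m

theorem Two.cj_eq_of_mem (H : Two G p) {x c : G} (hx : Reg p x) (hc : c ∈ Cn x) {q : ℕ}
    [Fact q.Prime] {Y : G ⧸ Subgroup.center G} (hY : Y ∈ (H.part hx q).map bar) :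
    cj c Y = Y := by
  obtain ⟨w, hw, rfl⟩ := hY
  rw [cj_bar, H.comm hx hc hw.1.1 hw.1.2]; group

theorem Two.cj_mem (H : Two G p) {x g : G} (hx : Reg p x) {q : ℕ} [Fact q.Prime] (hqp : q ≠ p)
    (hg : g ∈ Subgroup.normalizer (Cn x : Set G)) {Y : G ⧸ Subgroup.center G}
    (hY : Y ∈ (H.part hx q).map bar) : cj g Y ∈ (H.part hx q).map bar := by
  obtain ⟨w, hw, rfl⟩ := hY
  exact ⟨g * w * g⁻¹, H.part_conj hx hqp hg hw, by rw [cj_bar]⟩

theorem Two.map_part_comm (H : Two G p) {x : G} (hx : Reg p x) {q : ℕ} [Fact q.Prime]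
    {X Y : G ⧸ Subgroup.center G} (hX : X ∈ (H.part hx q).map bar)
    (hY : Y ∈ (H.part hx q).map bar) : X * Y = Y * X := by
  obtain ⟨a, ha, rfl⟩ := hX
  obtain ⟨b, hb, rfl⟩ := hY
  rw [← map_mul, ← map_mul, H.part_comm hx ha hb]

/-- A four-group in the image of the two-part of a centralizer. -/
structure Four (H : Two G p) {x : G} (hx : Reg p x) (t X : G ⧸ Subgroup.center G) : Prop where
  ht : t ∈ (haveI := Fact.mk Nat.prime_two; (H.part hx 2).map bar)
  hX : X ∈ (haveI := Fact.mk Nat.prime_two; (H.part hx 2).map bar)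
  t1 : t ≠ 1
  X1 : X ≠ 1
  ne : t ≠ X
  t2 : t * t = 1
  X2 : X * X = 1
  comm : t * X = X * t
  all : ∀ Y ∈ (haveI := Fact.mk Nat.prime_two; (H.part hx 2).map bar),
    Y * Y = 1 → Y = 1 ∨ Y = t ∨ Y = X ∨ Y = t * X

theorem Four.cases {H : Two G p} {x g : G} {hx : Reg p x} {t X : G ⧸ Subgroup.center G}
    (F : Four H hx t X) (hq : InPi G p 2) (hg : g ∈ Subgroup.normalizer (Cn x : Set G))
    {Y : G ⧸ Subgroup.center G} (hY : Y = t ∨ Y = X ∨ Y = t * X) :
    cj g Y = t ∨ cj g Y = X ∨ cj g Y = t * X := by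
  haveI := Fact.mk Nat.prime_two
  have hY1 : Y ∈ (H.part hx 2).map bar ∧ Y * Y = 1 ∧ Y ≠ 1 := by
    rcases hY with rfl | rfl | rfl
    · exact ⟨F.ht, F.t2, F.t1⟩
    · exact ⟨F.hX, F.X2, F.X1⟩
    · refine ⟨mul_mem F.ht F.hX, ?_, fun h => F.ne ?_⟩
      · calc t * X * (t * X) = t * X * (X * t) := by rw [F.comm]
          _ = t * (X * X) * t := by group
          _ = 1 := by rw [F.X2, mul_one, F.t2]
      · exact (mul_eq_one_iff_eq_inv.1 h).trans (inv_eq_of_mul_eq_one_left F.X2)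
  rcases F.all _ (H.cj_mem hx hq.ne hg hY1.1) (by rw [← cj_mul, hY1.2.1, cj_one]) with h | h
  · exact absurd (cj_inj (h.trans (cj_one g).symm)) hY1.2.2
  · exact h

theorem TwoCase.r_ne (H : TwoCase G p r) : (2 : ℕ).Coprime r :=
  (Nat.coprime_primes Nat.prime_two H.hr.1).2 (Nat.ne_of_lt H.hqr)

/-- Structure seen by an element of order two outside the centralizer. -/
theorem TwoCase.local_two (H : TwoCase G p r) {x g : G} (hx : Reg p x) (hgp : IsPE 2 g)
    (hgN : g ∈ Subgroup.normalizer (Cn x : Set G)) (hgC : g ∉ Cn x) (hgq : bar g ^ 2 = 1) :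
    r = 3 ∧ ∃ t X, Four H.toTwo hx t X ∧ cj g t = t ∧ cj g X = t * X ∧
      ∃ u, IsPE r u ∧ u ∈ Subgroup.normalizer (Cn x : Set G) ∧ u ∉ Cn x ∧ bar u ^ r = 1 ∧
        cj u t = X ∧ cj u X = t * X := by
  haveI := Fact.mk Nat.prime_two
  haveI := Fact.mk H.hr.1
  obtain ⟨a, -, t₀, ht₀, htZ, htq, htg, -⟩ :=
    H.toTwo.trans H.hq H.hr H.hqr H.hdr hx hgp hgN hgC hgq
  obtain ⟨u, hup, huN, huC, huq⟩ := H.exists_normalizing hx H.hr (H.hdr x hx)
  have huR : Reg p u := reg_of_pe H.toHyp H.hr.1 H.hr.ne hup fun h => huC (center_le_cn x h)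
  set t := bar t₀ with ht
  set X := cj u t with hX
  have htM : t ∈ (H.part hx 2).map bar := Subgroup.mem_map_of_mem _ ht₀
  have hXM : X ∈ (H.part hx 2).map bar := H.cj_mem hx H.hq.ne huN htM
  have ht2 : t * t = 1 := by rw [← sq]; exact htq
  have hX2 : X * X = 1 := by rw [hX, ← cj_mul, ht2, cj_one]
  have ht1 : t ≠ 1 := fun h => htZ (bar_eq_one.1 h)
  have hX1 : X ≠ 1 := fun h => ht1 (cj_inj (h.trans (cj_one u).symm))
  have hu_fix : ∀ Y ∈ (H.part hx 2).map bar, Y ≠ 1 → cj u Y ≠ Y := by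
    rintro _ ⟨w, hw, rfl⟩ hw1 hfix
    exact H.not_bar_comm hx huC hw.1.1 ⟨hw.1.2, fun h => hw1 (bar_eq_one.2 h)⟩
      (hup.coprime_coprime ((H.mem_part hx H.hq.ne).1 hw).2 H.r_ne.symm) (cj_eq_self_iff.1 hfix)
  have hne : t ≠ X := fun h => hu_fix t htM ht1 h.symm
  -- fixed points of `g`
  have hline : ∀ Y ∈ (H.part hx 2).map bar, Y * Y = 1 → cj g Y = Y → Y = 1 ∨ Y = t := by
    rintro _ ⟨w, hw, rfl⟩ hw2 hfix
    obtain ⟨i, hi⟩ := H.toTwo.line H.hq H.hr (Nat.ne_of_lt H.hqr) hx hgp hgC ht₀ hw htZ htg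
      (cj_eq_self_iff.1 hfix).symm htq (by rw [sq]; exact hw2)
    rcases Nat.even_or_odd' i with ⟨k, rfl | rfl⟩
    · exact Or.inl (by rw [hi, pow_mul, htq, one_pow])
    · exact Or.inr (by rw [hi, pow_succ, pow_mul, htq, one_pow, one_mul])
  have hgg : ∀ Y, cj g (cj g Y) = Y := fun Y => by
    rw [← cj_mul_left, cj, map_mul, ← sq, hgq]; group
  have hgt : cj g t = t := cj_eq_self_iff.2 htg.symm
  have hnorm : ∀ Y ∈ (H.part hx 2).map bar, Y * Y = 1 →
      cj g Y = Y ∨ cj g Y = t * Y := by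
    intro Y hY hY2
    have hgY := H.cj_mem hx H.hq.ne hgN hY
    have e1 : cj g (cj g Y * Y) = cj g Y * Y := by
      rw [cj_mul, hgg, H.map_part_comm hx hY hgY]
    have e2 : cj g Y * Y * (cj g Y * Y) = 1 := by
      calc cj g Y * Y * (cj g Y * Y) = cj g Y * Y * (Y * cj g Y) := by
            rw [H.map_part_comm hx hY hgY]
        _ = cj g Y * (Y * Y) * cj g Y := by group
        _ = 1 := by rw [hY2, mul_one, ← cj_mul, hY2, cj_one]
    have hYi : Y⁻¹ = Y := inv_eq_of_mul_eq_one_right hY2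
    rcases hline _ (mul_mem hgY hY) e2 e1 with h | h
    · exact Or.inl ((mul_eq_one_iff_eq_inv.1 h).trans hYi)
    · exact Or.inr ((eq_mul_inv_of_mul_eq h).trans (by rw [hYi]))
  have hgX : cj g X = t * X := by
    refine (hnorm X hXM hX2).resolve_left fun h => ?_
    exact (hline X hXM hX2 h).elim hX1 fun h' => hne h'.symm
  have hall : ∀ Y ∈ (H.part hx 2).map bar, Y * Y = 1 → Y = 1 ∨ Y = t ∨ Y = X ∨ Y = t * X := by
    intro Y hY hY2
    rcases hnorm Y hY hY2 with h | h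
    · rcases hline Y hY hY2 h with h' | h'
      · exact Or.inl h'
      · exact Or.inr (Or.inl h')
    · have e1 : cj g (Y * X) = Y * X := by
        rw [cj_mul, h, hgX, H.map_part_comm hx htM hY]
        calc Y * t * (t * X) = Y * (t * t) * X := by group
          _ = Y * X := by rw [ht2, mul_one]
      have e2 : Y * X * (Y * X) = 1 := by
        calc Y * X * (Y * X) = Y * X * (X * Y) := by rw [H.map_part_comm hx hXM hY]
          _ = Y * (X * X) * Y := by group
          _ = 1 := by rw [hX2, mul_one, hY2]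
      rcases hline _ (mul_mem hY hXM) e2 e1 with h' | h'
      · exact Or.inr (Or.inr (Or.inl ((mul_eq_one_iff_eq_inv.1 h').trans
          (inv_eq_of_mul_eq_one_right hX2))))
      · exact Or.inr (Or.inr (Or.inr (by
          rw [← h', mul_assoc, hX2, mul_one])))
  have F : Four H.toTwo hx t X :=
    ⟨htM, hXM, ht1, hX1, hne, ht2, hX2, H.map_part_comm hx htM hXM, hall⟩
  have huq' : bar u ^ r = 1 := by
    rw [← map_pow]; exact bar_eq_one.2 (H.pow_mem_center hx huC huR.1 huq)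
  have hur : ∀ Y, cj (u ^ r) Y = Y := fun Y => by rw [cj, map_pow, huq']; group
  have huX : cj u X = t * X := by
    rcases F.cases H.hq huN (Or.inr (Or.inl rfl)) with h | h | h
    · exfalso
      have h2 : cj (u ^ 2) t = t := by rw [sq, cj_mul_left]; exact h
      refine hu_fix t htM ht1 (fix_of_pow h2 ?_)
      obtain ⟨j, hj⟩ := hup
      rw [hj]; exact H.r_ne.pow_right j
    · exact absurd h (hu_fix X hXM hX1)
    · exact h
  have hr3 : r = 3 := by
    by_contra h3
    have h33 : cj (u ^ 3) t = t := by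
      rw [show u ^ 3 = u * (u * u) by rw [pow_succ', sq], cj_mul_left, cj_mul_left, ← hX, huX, cj_mul, ← hX, huX]
      calc X * (t * X) = X * (X * t) := by rw [F.comm]
        _ = X * X * t := by group
        _ = t := by rw [hX2, one_mul]
    refine hu_fix t htM ht1 (fix_of_pow h33 ?_)
    obtain ⟨j, hj⟩ := hup
    rw [hj]
    exact ((Nat.coprime_primes Nat.prime_three H.hr.1).2 (Ne.symm h3)).pow_right j
  exact ⟨hr3, t, X, F, hgt, hgX, u, hup, huN, huC, huq', rfl, huX⟩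

theorem TwoCase.exists_invol (H : TwoCase G p r) {x : G} (hx : Reg p x) :
    ∃ g, IsPE 2 g ∧ g ∈ Subgroup.normalizer (Cn x : Set G) ∧ g ∉ Cn x ∧ bar g ^ 2 = 1 := by
  obtain ⟨g, hgp, hgN, hgC, hgq⟩ := H.exists_normalizing hx H.hq (H.hdq x hx)
  refine ⟨g, hgp, hgN, hgC, ?_⟩
  rw [← map_pow]
  exact bar_eq_one.2
    (H.pow_mem_center hx hgC (coprime_of_pe H.toHyp Nat.prime_two H.hq.ne hgp) hgq)

theorem TwoCase.r_eq_three (H : TwoCase G p r) : r = 3 := by
  obtain ⟨x, hx, -⟩ := H.hq.2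
  obtain ⟨g, hgp, hgN, hgC, hgq⟩ := H.exists_invol hx
  exact (H.local_two hx hgp hgN hgC hgq).1

/-- Elements of two-power order normalizing a centralizer have square inside it. -/
theorem TwoCase.sq_mem (H : TwoCase G p r) {x n : G} (hx : Reg p x) (hn : IsPE 2 n)
    (hnN : n ∈ Subgroup.normalizer (Cn x : Set G)) : n ^ 2 ∈ Cn x := by
  by_contra h2
  obtain ⟨j, hj⟩ := id hn
  have hex : ∃ i, n ^ 2 ^ i ∈ Cn x := ⟨j, by rw [← hj, pow_orderOf_eq_one]; exact one_mem _⟩
  classical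
  have hi := Nat.find_spec hex
  have hmin : ∀ i < Nat.find hex, n ^ 2 ^ i ∉ Cn x := fun i h => Nat.find_min hex h
  have hi2 : 2 ≤ Nat.find hex := by
    by_contra hlt
    interval_cases h : Nat.find hex
    · exact h2 (by simpa using pow_mem hi 2)
    · exact h2 (by simpa using hi)
  obtain ⟨i, hi'⟩ : ∃ i, Nat.find hex = i + 2 := ⟨_, (Nat.sub_add_cancel hi2).symm⟩
  set h := n ^ 2 ^ i with hh
  have hg : h ^ 2 ∉ Cn x := by
    rw [hh, ← pow_mul, ← pow_succ]; exact hmin _ (by omega)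
  have hgq : bar (h ^ 2) ^ 2 = 1 := by
    rw [← map_pow]
    refine bar_eq_one.2 (H.pow_mem_center hx hg ?_ ?_)
    · exact coprime_of_pe H.toHyp Nat.prime_two H.hq.ne ((hn.pow Nat.prime_two _).pow Nat.prime_two 2)
    · rw [hi'] at hi
      rw [hh, ← pow_mul, ← pow_mul, show 2 ^ i * (2 * 2) = 2 ^ (i + 2) by rw [pow_add]; norm_num]
      exact hi
  obtain ⟨-, t, X, F, hgt, hgX, -⟩ :=
    H.local_two hx ((hn.pow Nat.prime_two _).pow Nat.prime_two 2)
      (pow_mem (pow_mem hnN _) 2) hg hgq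
  rw [sq, cj_mul_left] at hgt hgX
  have htX : t * X ≠ X := fun h => F.t1 (mul_eq_right.1 h)
  have hhN : h ∈ Subgroup.normalizer (Cn x : Set G) := pow_mem hnN _
  rcases F.cases H.hq hhN (Or.inl rfl) with h1 | h1 | h1
  · rcases F.cases H.hq hhN (Or.inr (Or.inl rfl)) with h3 | h3 | h3
    · exact F.ne (cj_inj (h1.trans h3.symm))
    · rw [h3, h3] at hgX; exact htX hgX.symm
    · rw [h3, cj_mul, h1, h3, ← mul_assoc, F.t2, one_mul] at hgX
      exact htX hgX.symm
  · rw [h1] at hgt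
    rw [hgt, h1] at hgX
    exact htX hgX.symm
  · rw [h1, cj_mul, h1, mul_assoc] at hgt
    have h5 : X * cj h X = 1 := by simpa using hgt
    have h4 : cj h X = X := (eq_inv_of_mul_eq_one_right h5).trans (inv_eq_of_mul_eq_one_right F.X2)
    rw [h4, h4] at hgX
    exact htX hgX.symm

/-- An element normalizing a centralizer and fixing the four-group lies in the centralizer. -/
theorem TwoCase.mem_of_fix (H : TwoCase G p r) {x n : G} (hx : Reg p x)
    (hnN : n ∈ Subgroup.normalizer (Cn x : Set G)) {t X : G ⧸ Subgroup.center G}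
    (F : Four H.toTwo hx t X) (ht : cj n t = t) (hX : cj n X = X) : n ∈ Cn x := by
  haveI := Fact.mk Nat.prime_two
  by_contra hn
  obtain ⟨q, k, hq, -, hk, hpe⟩ := exists_primePow_not_mem hn
  have hkt := cj_pow_fix ht k
  have hkX := cj_pow_fix hX k
  by_cases hq2 : q = 2
  · subst hq2
    have hgq : bar (n ^ k) ^ 2 = 1 := by
      rw [← map_pow]
      exact bar_eq_one.2 (H.pow_mem_center hx hk (coprime_of_pe H.toHyp hq H.hq.ne hpe)
        (H.sq_mem hx hpe (pow_mem hnN k)))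
    obtain ⟨-, t', X', F', -, hgX, -⟩ := H.local_two hx hpe (pow_mem hnN k) hk hgq
    apply F'.t1
    have hfix : cj (n ^ k) X' = X' := by
      rcases F.all X' F'.hX F'.X2 with h | h | h | h
      · exact absurd h F'.X1
      · rw [h]; exact hkt
      · rw [h]; exact hkX
      · rw [h, cj_mul, hkt, hkX]
    rw [hfix] at hgX
    exact mul_eq_right.1 hgX.symm
  · obtain ⟨w, hw, hwt⟩ := F.ht
    subst hwt
    exact H.not_bar_comm hx hk hw.1.1 ⟨hw.1.2, fun h => F.t1 (bar_eq_one.2 h)⟩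
      (hpe.coprime_coprime ((H.mem_part hx H.hq.ne).1 hw).2
        ((Nat.coprime_primes hq Nat.prime_two).2 hq2))
      (cj_eq_self_iff.1 hkt)

/-- The two-part of a centralizer is a four-group modulo the center. -/
theorem TwoCase.four (H : TwoCase G p r) {x g : G} (hx : Reg p x) (hgp : IsPE 2 g)
    (hgN : g ∈ Subgroup.normalizer (Cn x : Set G)) (hgC : g ∉ Cn x) (hgq : bar g ^ 2 = 1) :
    haveI := Fact.mk Nat.prime_two
    ∀ Y ∈ (H.part hx 2).map bar, Y * Y = 1 := by
  haveI := Fact.mk Nat.prime_two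
  intro Y hY
  by_contra hne
  obtain ⟨y, hy, rfl⟩ := hY
  obtain ⟨j, hj⟩ := ((H.mem_part hx H.hq.ne).1 hy).2
  have hex : ∃ i, bar y ^ 2 ^ i = 1 := ⟨j, by rw [← map_pow, ← hj, pow_orderOf_eq_one, map_one]⟩
  classical
  have hi := Nat.find_spec hex
  have hi2 : 2 ≤ Nat.find hex := by
    by_contra hlt
    interval_cases h : Nat.find hex
    · exact hne (by simp only [pow_zero, pow_one] at hi; rw [hi, one_mul])
    · exact hne (by rw [← sq]; simpa using hi)
  obtain ⟨i, hi'⟩ : ∃ i, Nat.find hex = i + 2 := ⟨_, (Nat.sub_add_cancel hi2).symm⟩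
  set a := y ^ 2 ^ i with ha
  have haP : a ∈ H.part hx 2 := pow_mem hy _
  have h4 : bar a ^ 4 = 1 := by
    rw [hi'] at hi
    rw [ha, map_pow, ← pow_mul, show 2 ^ i * 4 = 2 ^ (i + 2) by rw [pow_add]; norm_num]
    exact hi
  have h2 : bar a ^ 2 ≠ 1 := by
    rw [ha, map_pow, ← pow_mul, ← pow_succ]
    exact Nat.find_min hex (by omega)
  obtain ⟨-, t, X, F, hgt, hgX, u, -, huN, -, -, hut, -⟩ := H.local_two hx hgp hgN hgC hgq
  have key : ∀ b ∈ H.part hx 2, bar b ^ 4 = 1 → bar b ^ 2 ≠ 1 → bar b ^ 2 = t := by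
    intro b hb hb4 hb2
    set w := g * b * g⁻¹ * b with hw
    have hgb := H.part_conj hx H.hq.ne hgN hb
    have hwP : w ∈ H.part hx 2 := mul_mem hgb hb
    have hgg : cj g (cj g (bar b)) = bar b := by
      rw [← cj_mul_left, cj, map_mul, ← sq, hgq]; group
    have hfix : cj g (bar w) = bar w := by
      rw [hw, map_mul, ← cj_bar, cj_mul, hgg,
        H.map_part_comm hx (Subgroup.mem_map_of_mem _ hb)
          (H.cj_mem hx H.hq.ne hgN (Subgroup.mem_map_of_mem _ hb))]
    have hw2 : bar w ^ 2 = 1 := by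
      by_cases hwZ : w ∈ Subgroup.center G
      · rw [bar_eq_one.2 hwZ, one_pow]
      have hwR : Reg p w := ⟨hwP.1.2, hwZ⟩
      have hgR : Reg p g := reg_of_pe H.toHyp Nat.prime_two H.hq.ne hgp
        fun h => hgC (center_le_cn x h)
      have hwC : w ∉ Cn g := fun h => hgC (by
        rw [← H.cn_eq hx hwP.1.1 hwR, H.cn_eq hgR h hwR]; exact self_mem_cn g)
      rw [← map_pow]
      exact bar_eq_one.2 (H.pow_mem_center hgR hwC hwP.1.2
        (H.sq_mem hgR ((H.mem_part hx H.hq.ne).1 hwP).2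
          (normalizer_of_bar_comm (cj_eq_self_iff.1 hfix).symm)))
    have hM : bar b ^ 2 ∈ (H.part hx 2).map bar := pow_mem (Subgroup.mem_map_of_mem _ hb) 2
    have hsq : bar b ^ 2 * bar b ^ 2 = 1 := by rw [← pow_add]; exact hb4
    have hcj : cj g (bar b ^ 2) = bar b ^ 2 := by
      have h1 : cj g (bar b) ^ 2 * bar b ^ 2 = 1 := by
        rw [← hw2, hw, map_mul, ← cj_bar]
        exact ((show Commute (cj g (bar b)) (bar b) from H.map_part_comm hx
          (H.cj_mem hx H.hq.ne hgN (Subgroup.mem_map_of_mem _ hb))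
          (Subgroup.mem_map_of_mem _ hb)).mul_pow 2).symm
      rw [sq (bar b), cj_mul, ← sq, mul_eq_one_iff_eq_inv.1 h1,
        inv_eq_of_mul_eq_one_right hsq, sq]
    rcases F.all _ hM hsq with h | h | h | h
    · exact absurd h hb2
    · exact h
    · rw [h, hgX] at hcj; exact absurd (mul_eq_right.1 hcj) F.t1
    · rw [h, cj_mul, hgt, hgX, ← mul_assoc, F.t2, one_mul] at hcj
      exact absurd (mul_eq_right.1 hcj.symm) F.t1
  have e1 := key a haP h4 h2
  have hb4 : bar (u * a * u⁻¹) ^ 4 = 1 := by rw [← cj_bar, cj, conj_pow, h4]; group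
  have hbs : bar (u * a * u⁻¹) ^ 2 = X := by rw [← cj_bar, cj, conj_pow, e1]; exact hut
  exact F.ne ((key _ (H.part_conj hx H.hq.ne huN haP) hb4 (hbs ▸ F.X1)).symm.trans hbs)

end Cfsg.Agent.TwoRegSizes38
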