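import Cfsg.Agent.Lib.TwoVecData82

/-!
# Kernel check of one eight-point certificate
-/

set_option autoImplicit false
set_option maxRecDepth 100000
set_option Elab.async false

namespace Cfsg.Agent.TwoVecCheck82

open Matrix Cfsg.Agent.ThreeVec75 Cfsg.Agent.TwoVecEngine82 Cfsg.Agent.TwoVecData82

/-- The two orbit tables of the certificate. -/
theorem ok33_0_orb0 : cert33_0.orbOK 3 8 (plusGens 3 3) false = true := by decide +kernel

/-- The second orbit table of the certificate. -/
theorem ok33_0_orb1 : cert33_0.orbOK 3 8 (plusGens 3 3) true = true := by decide +kernel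

/-- The search of the certificate. -/
theorem ok33_0_search : cert33_0.search 3 8 cert33_0.rels [] = true := by decide +kernel

/-- The certificate is well formed. -/
theorem ok33_0_data : cert33_0.dataOK 3 8 (plusGens 3 3) = true := by
  simp only [PairCert.dataOK, ok33_0_orb0, ok33_0_orb1, Bool.true_and]
  decide +kernel

theorem ok33_0 : cert33_0.dataOK 3 8 (plusGens 3 3) = true ∧ cert33_0.search 3 8 cert33_0.rels [] = true :=
  ⟨ok33_0_data, ok33_0_search⟩

end Cfsg.Agent.TwoVecCheck82
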