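import Cfsg.Agent.Lib.TwoVecCheck82A
import Cfsg.Agent.Lib.TwoVecCheck82B
import Cfsg.Agent.Lib.TwoVecCheck82C
import Cfsg.Agent.Lib.TwoVecCheck82D
import Cfsg.Agent.Lib.TwoVecCheck82E
import Cfsg.Agent.Lib.TwoVecCheck82F

/-!
# Kernel checks of the eight-point certificates
-/

set_option autoImplicit false
set_option maxRecDepth 100000

namespace Cfsg.Agent.TwoVecCheck82

open Matrix Cfsg.Agent.ThreeVec75 Cfsg.Agent.TwoVecEngine82 Cfsg.Agent.TwoVecData82

/-- The listed solution matrix with a number. -/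
def solMat (P : PairCert) (p i : ℕ) : Matrix (Fin 8) (Fin 8) (ZMod p) :=
  PairCert.matOf p 8 (P.sols.getD i [])

/-- A matrix with order divisible by three, witnessed by exponents. -/
def three (M : Matrix (Fin 8) (Fin 8) (ZMod 3)) : Bool :=
  [1, 2, 4].any fun m => decide (M ^ (3 * m) = 1) && decide (M ^ m ≠ 1)

theorem first_ne : cert53_0.vecOf 5 8 false 0 ≠ 0 ∧ cert33m_0.vecOf 3 8 false 0 ≠ 0 ∧
    cert33m_1.vecOf 3 8 false 0 ≠ 0 ∧ cert33_0.vecOf 3 8 false 0 ≠ 0 ∧ cert33_1.vecOf 3 8 false 0 ≠ 0 ∧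
    cert33_2.vecOf 3 8 false 0 ≠ 0 := by decide +kernel

theorem sols53 : cert53_0.sols.length = 1 ∧ solMat cert53_0 5 0 = 1 := by decide +kernel

theorem sols33m : cert33m_0.sols.length = 2 ∧ solMat cert33m_0 3 0 = 1 ∧ cert33m_1.sols.length = 2 ∧
    solMat cert33m_1 3 0 = 1 ∧ three (solMat cert33m_0 3 1 * solMat cert33m_1 3 1) = true := by
  decide +kernel

theorem sols33 : cert33_0.sols.length = 4 ∧ solMat cert33_0 3 0 = 1 ∧ cert33_1.sols.length = 4 ∧
    solMat cert33_1 3 0 = 1 ∧ cert33_2.sols.length = 4 ∧ solMat cert33_2 3 0 = 1 ∧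
    ∀ i j k : Fin 3, three (solMat cert33_0 3 (i + 1) * solMat cert33_1 3 (j + 1)) = true ∨
      three (solMat cert33_0 3 (i + 1) * solMat cert33_2 3 (k + 1)) = true ∨
      three (solMat cert33_1 3 (j + 1) * solMat cert33_2 3 (k + 1)) = true := by
  decide +kernel

end Cfsg.Agent.TwoVecCheck82
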