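import Cfsg.Agent.Lib.TwoVecData82

/-!
# Kernel check of one eight-point certificate
-/

set_option autoImplicit false
set_option maxRecDepth 100000
set_option Elab.async false

namespace Cfsg.Agent.TwoVecCheck82

open Matrix Cfsg.Agent.ThreeVec75 Cfsg.Agent.TwoVecEngine82 Cfsg.Agent.TwoVecData82

/-- The two orbit tables of the certificate. -/
theorem ok53_orb0 : cert53_0.orbOK 5 8 (plusGens 5 3) false = true := by decide +kernel

/-- The second orbit table of the certificate. -/
theorem ok53_orb1 : cert53_0.orbOK 5 8 (plusGens 5 3) true = true := by decide +kernel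

/-- The search of the certificate. -/
theorem ok53_search : cert53_0.search 5 8 cert53_0.rels [] = true := by decide +kernel

/-- The certificate is well formed. -/
theorem ok53_data : cert53_0.dataOK 5 8 (plusGens 5 3) = true := by
  simp only [PairCert.dataOK, ok53_orb0, ok53_orb1, Bool.true_and]
  decide +kernel

theorem ok53 : cert53_0.dataOK 5 8 (plusGens 5 3) = true ∧ cert53_0.search 5 8 cert53_0.rels [] = true :=
  ⟨ok53_data, ok53_search⟩

end Cfsg.Agent.TwoVecCheck82
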