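import Mathlib
import Cfsg.Agent.Lib.ThreeVec75TwoDefs
import Cfsg.Agent.Lib.ThreeVec75Main
import Cfsg.Agent.Lib.ThreeVec75Perm
import Cfsg.Agent.Lib.OddBasePerm75
import Cfsg.Agent.Lib.OddBaseMain75

/-!
A solvable permutation group of order prime to `p` is trivialised by a colouring with residues
modulo `p`. The case `p = 3` needs a set of vectors with trivial setwise stabiliser, obtained
from three vectors fixed only by elements acting trivially.
-/

set_option autoImplicit false
set_option linter.style.haveILetI false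

namespace Cfsg.Agent.TwoVecColour65

open Cfsg.Agent.ThreeVec75

universe u v

/-- Triples of residues modulo two. -/
abbrev T2 : Type := ZMod 2 × ZMod 2 × ZMod 2

section comb

variable {R M : Type*} [Semiring R] [AddCommMonoid M] [Module R M]

/-- A linear combination of three vectors. -/
def comb (x y z : M) (t : R × R × R) : M := t.1 • x + t.2.1 • y + t.2.2 • z

theorem comb_add (x y z : M) (s t : R × R × R) :
    comb x y z (s + t) = comb x y z s + comb x y z t := by
  simp only [comb, Prod.fst_add, Prod.snd_add, add_smul]; abel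

theorem comb_smul (x y z : M) (i : R) (t : R × R × R) :
    comb x y z (i • t) = i • comb x y z t := by
  simp only [comb, Prod.smul_fst, Prod.smul_snd, smul_add, smul_eq_mul, mul_smul]

theorem comb_comb (a b c : M) (x y z t : R × R × R) :
    comb a b c (comb x y z t) = comb (comb a b c x) (comb a b c y) (comb a b c z) t := by
  show comb a b c (t.1 • x + t.2.1 • y + t.2.2 • z) = _
  rw [comb_add, comb_add, comb_smul, comb_smul, comb_smul]
  rfl

theorem comb_one (x y z : M) :
    comb x y z ((1, 0, 0) : R × R × R) = x ∧ comb x y z ((0, 1, 0) : R × R × R) = y ∧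
      comb x y z ((0, 0, 1) : R × R × R) = z := by
  simp [comb]

end comb

/-- The linear table sending a basis to given images. -/
def lin3 (x y z x' y' z' : T2) (v : T2) : T2 :=
  ∑ t : T2, if comb x y z t = v then comb x' y' z' t else 0

/-- Three codes forming a basis. -/
def Ok (x y z : T2) : Prop := Function.Bijective (comb x y z : T2 → T2)

instance (x y z : T2) : Decidable (Ok x y z) :=
  decidable_of_iff (Function.Injective (comb x y z : T2 → T2))
    (Finite.injective_iff_bijective)

theorem lin3_comb {x y z : T2} (h : Ok x y z) (x' y' z' t : T2) :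
    lin3 x y z x' y' z' (comb x y z t) = comb x' y' z' t := by
  rw [lin3, Finset.sum_eq_single t]
  · rw [if_pos rfl]
  · intro s _ hs
    rw [if_neg fun e => hs (h.1 e)]
  · intro hh
    exact absurd (Finset.mem_univ t) hh

section linear

variable {H : Type v} [Group H] {V : Type u} [AddCommGroup V] [DistribMulAction H V]

theorem smul_comb {q : ℕ} [Module (ZMod q) V] (h : H) (x y z : V) (t : ZMod q × ZMod q × ZMod q) :
    h • comb x y z t = comb (h • x) (h • y) (h • z) t := by
  have e : ∀ (i : ZMod q) (v : V), h • (i • v) = i • (h • v) := fun i v =>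
    ZMod.map_smul (DistribSMul.toAddMonoidHom V h) i v
  simp only [comb, smul_add, e]

theorem trivial_of_cube [Finite H] (h3 : ¬ 3 ∣ Nat.card H) {h : H}
    (hh : ∀ v : V, h • h • h • v = v) : ∀ v : V, h • v = v := by
  have hcop : Nat.Coprime 3 (orderOf h) :=
    (Nat.Prime.coprime_iff_not_dvd Nat.prime_three).2 fun hd => h3 (hd.trans (orderOf_dvd_natCard h))
  obtain ⟨m, hm⟩ := exists_pow_eq_self_of_coprime hcop
  intro v
  have hs : h ^ 3 ∈ MulAction.stabilizer H v := by
    rw [MulAction.mem_stabilizer_iff, pow_succ, pow_two, mul_smul, mul_smul, hh]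
  rw [← hm]
  exact pow_mem hs m

/-- A set of nonzero vectors whose setwise stabiliser acts trivially. -/
def Rig (H : Type v) (V : Type u) [Group H] [AddCommGroup V] [DistribMulAction H V] : Prop :=
  ∃ S : Set V, (0 : V) ∉ S ∧ ∀ h : H, (∀ x ∈ S, h • x ∈ S) → ∀ x : V, h • x = x

section two

variable [Module (ZMod 2) V] (a b c : V)

/-- A table realised by a group element on the span of three vectors. -/
def Real (H : Type v) {V : Type u} [Group H] [AddCommGroup V] [DistribMulAction H V]
    [Module (ZMod 2) V] (a b c : V) (f : T2 → T2) : Prop :=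
  ∃ h : H, ∀ t : T2, h • (comb a b c t : V) = comb a b c (f t)

variable {a b c}

theorem Real.comp {f g : T2 → T2} (hf : Real H a b c f) (hg : Real H a b c g) :
    Real H a b c (f ∘ g) := by
  obtain ⟨h, hh⟩ := hf
  obtain ⟨k, hk⟩ := hg
  exact ⟨h * k, fun t => by rw [mul_smul, hk, hh]; rfl⟩

theorem real_of_images {x y z : T2} (hb : Ok x y z) {x' y' z' : T2} {h : H}
    (hx : h • (comb a b c x : V) = comb a b c x') (hy : h • (comb a b c y : V) = comb a b c y')
    (hz : h • (comb a b c z : V) = comb a b c z') : Real H a b c (lin3 x y z x' y' z') := by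
  refine ⟨h, fun t => ?_⟩
  obtain ⟨s, rfl⟩ := hb.2 t
  rw [lin3_comb hb, comb_comb, smul_comb, hx, hy, hz, ← comb_comb]

theorem trivial_of_span {x y z : T2} (hb : Ok x y z)
    (base : ∀ h : H, h • a = a → h • b = b → h • c = c → ∀ v : V, h • v = v) {h : H}
    (hx : h • (comb a b c x : V) = comb a b c x) (hy : h • (comb a b c y : V) = comb a b c y)
    (hz : h • (comb a b c z : V) = comb a b c z) : ∀ v : V, h • v = v := by
  have all : ∀ t : T2, h • (comb a b c t : V) = comb a b c t := by
    intro t
    obtain ⟨s, rfl⟩ := hb.2 t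
    rw [comb_comb, smul_comb, hx, hy, hz]
  obtain ⟨e1, e2, e3⟩ := comb_one (R := ZMod 2) a b c
  refine base h ?_ ?_ ?_
  · have := all (1, 0, 0); rwa [e1] at this
  · have := all (0, 1, 0); rwa [e2] at this
  · have := all (0, 0, 1); rwa [e3] at this

theorem no_three [Finite H] (h3 : ¬ 3 ∣ Nat.card H)
    (hinj : Function.Injective (comb a b c : T2 → V))
    (base : ∀ h : H, h • a = a → h • b = b → h • c = c → ∀ v : V, h • v = v) {f : T2 → T2}
    (hf : Real H a b c f) (hf3 : (∀ t, f (f (f t)) = t) ∧ ∃ t, f t ≠ t) : False := by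
  obtain ⟨h, hh⟩ := hf
  have e3 : ∀ t : T2, (h * h * h) • (comb a b c t : V) = comb a b c t := fun t => by
    rw [mul_smul, mul_smul, hh, hh, hh, hf3.1]
  obtain ⟨e1, e2, e4⟩ := comb_one (R := ZMod 2) a b c
  have hc : ∀ v : V, (h * h * h) • v = v := base _
    (by have := e3 (1, 0, 0); rwa [e1] at this) (by have := e3 (0, 1, 0); rwa [e2] at this)
    (by have := e3 (0, 0, 1); rwa [e4] at this)
  have ht := trivial_of_cube h3 (V := V) (h := h) fun v => by
    rw [← mul_smul, ← mul_smul]; exact hc v
  obtain ⟨t, hne⟩ := hf3.2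
  exact hne (hinj ((hh t).symm.trans (ht _)))

theorem swap_of_not_rig [Finite H] (h3 : ¬ 3 ∣ Nat.card H)
    (hinj : Function.Injective (comb a b c : T2 → V))
    (base : ∀ h : H, h • a = a → h • b = b → h • c = c → ∀ v : V, h • v = v) (hn : ¬ Rig H V)
    (x y z : T2) (hb : Ok x y z ∧ x ≠ 0 ∧ y ≠ 0 ∧ z ≠ 0) :
    Real H a b c (lin3 x y z y x z) ∨ Real H a b c (lin3 x y z z y x) ∨
      Real H a b c (lin3 x y z x z y) := by
  obtain ⟨hb, hx0, hy0, hz0⟩ := hb
  obtain ⟨e1, e2, e3⟩ := comb_one (R := ZMod 2) x y z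
  have hxy : x ≠ y := fun e => by
    have : ((1, 0, 0) : T2) = (0, 1, 0) := hb.1 (e1.trans (e.trans e2.symm))
    exact absurd this (by decide)
  have hxz : x ≠ z := fun e => by
    have : ((1, 0, 0) : T2) = (0, 0, 1) := hb.1 (e1.trans (e.trans e3.symm))
    exact absurd this (by decide)
  have hyz : y ≠ z := fun e => by
    have : ((0, 1, 0) : T2) = (0, 0, 1) := hb.1 (e2.trans (e.trans e3.symm))
    exact absurd this (by decide)
  by_contra hno
  simp only [not_or] at hno
  refine hn ⟨{comb a b c x, comb a b c y, comb a b c z}, ?_, fun h hS => ?_⟩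
  · have e0 : (comb a b c (0 : T2) : V) = 0 := by simp [comb]
    simp only [Set.mem_insert_iff, Set.mem_singleton_iff, ← e0, hinj.eq_iff, not_or]
    exact ⟨Ne.symm hx0, Ne.symm hy0, Ne.symm hz0⟩
  have hi : ∀ u ∈ ({x, y, z} : Set T2), ∃ u' ∈ ({x, y, z} : Set T2),
      h • (comb a b c u : V) = comb a b c u' := by
    intro u hu
    have hm := hS (comb a b c u) (by
      simp only [Set.mem_insert_iff, Set.mem_singleton_iff] at hu ⊢
      rcases hu with rfl | rfl | rfl <;> simp)
    simp only [Set.mem_insert_iff, Set.mem_singleton_iff] at hm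
    rcases hm with e | e | e
    · exact ⟨x, by simp, e⟩
    · exact ⟨y, by simp, e⟩
    · exact ⟨z, by simp, e⟩
  obtain ⟨x', hx', ex⟩ := hi x (by simp)
  obtain ⟨y', hy', ey⟩ := hi y (by simp)
  obtain ⟨z', hz', ez⟩ := hi z (by simp)
  have ne : ∀ {u w u' w' : T2}, u ≠ w → h • (comb a b c u : V) = comb a b c u' →
      h • (comb a b c w : V) = comb a b c w' → u' ≠ w' := by
    intro u w u' w' hne e e' heq
    refine hne (hinj (MulAction.injective h ?_))
    show h • (comb a b c u : V) = h • comb a b c w
    rw [e, e', heq]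
  have nxy := ne hxy ex ey
  have nxz := ne hxz ex ez
  have nyz := ne hyz ey ez
  simp only [Set.mem_insert_iff, Set.mem_singleton_iff] at hx' hy' hz'
  have cyc : (x' = y ∧ y' = z ∧ z' = x) ∨ (x' = z ∧ y' = x ∧ z' = y) → False := by
    intro hc
    have fix : ∀ u ∈ ({x, y, z} : Set T2),
        (h * h * h) • (comb a b c u : V) = comb a b c u := by
      intro u hu
      simp only [Set.mem_insert_iff, Set.mem_singleton_iff] at hu
      rcases hc with ⟨rfl, rfl, rfl⟩ | ⟨rfl, rfl, rfl⟩ <;>
        rcases hu with rfl | rfl | rfl <;> simp only [mul_smul, ex, ey, ez]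
    have ht := trivial_of_cube h3 (V := V) (h := h) fun v => by
      rw [← mul_smul, ← mul_smul]
      exact trivial_of_span hb base (fix x (by simp)) (fix y (by simp)) (fix z (by simp)) v
    have e := hinj (ex.symm.trans (ht _))
    rcases hc with ⟨rfl, -, -⟩ | ⟨rfl, -, -⟩
    · exact hxy e.symm
    · exact hxz e.symm
  rcases hx' with rfl | rfl | rfl <;> rcases hy' with rfl | rfl | rfl <;>
    rcases hz' with rfl | rfl | rfl <;>
    first
      | exact absurd rfl nxy
      | exact absurd rfl nxz
      | exact absurd rfl nyz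
      | exact trivial_of_span hb base ex ey ez
      | exact absurd (real_of_images hb ex ey ez) hno.1
      | exact absurd (real_of_images hb ex ey ez) hno.2.1
      | exact absurd (real_of_images hb ex ey ez) hno.2.2
      | exact (cyc (Or.inl ⟨rfl, rfl, rfl⟩)).elim
      | exact (cyc (Or.inr ⟨rfl, rfl, rfl⟩)).elim

theorem rig_two_three [Finite H] (h3 : ¬ 3 ∣ Nat.card H)
    (hinj : Function.Injective (comb a b c : T2 → V))
    (base : ∀ h : H, h • a = a → h • b = b → h • c = c → ∀ v : V, h • v = v) : Rig H V := by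
  by_contra hn
  let v1 : T2 := (1, 0, 0)
  let v2 : T2 := (0, 1, 0)
  let v3 : T2 := (1, 1, 0)
  let v4 : T2 := (0, 0, 1)
  let v5 : T2 := (1, 0, 1)
  let v6 : T2 := (0, 1, 1)
  let v7 : T2 := (1, 1, 1)
  have step := swap_of_not_rig h3 hinj base hn
  have bad {f : T2 → T2} (hf : Real H a b c f)
      (hf3 : (∀ t, f (f (f t)) = t) ∧ ∃ t, f t ≠ t) : False := no_three h3 hinj base hf hf3
  rcases step v1 v2 v4 (by decide +kernel) with g0 | g0 | g0
  · rcases step v1 v3 v4 (by decide +kernel) with g1 | g1 | g1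
    · exact bad (g0.comp g1) (by decide +kernel)
    · rcases step v1 v3 v5 (by decide +kernel) with g2 | g2 | g2
      · exact bad (g0.comp g2) (by decide +kernel)
      · exact bad (g1.comp g2) (by decide +kernel)
      · exact bad (g0.comp g2) (by decide +kernel)
    · rcases step v1 v3 v7 (by decide +kernel) with g2 | g2 | g2
      · exact bad (g0.comp g2) (by decide +kernel)
      · exact bad (g0.comp (g1.comp (g0.comp g2))) (by decide +kernel)
      · exact bad (g1.comp g2) (by decide +kernel)
  · rcases step v1 v2 v5 (by decide +kernel) with g1 | g1 | g1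
    · rcases step v1 v3 v5 (by decide +kernel) with g2 | g2 | g2
      · exact bad (g1.comp g2) (by decide +kernel)
      · exact bad (g0.comp g2) (by decide +kernel)
      · exact bad (g0.comp g2) (by decide +kernel)
    · exact bad (g0.comp g1) (by decide +kernel)
    · rcases step v1 v2 v7 (by decide +kernel) with g2 | g2 | g2
      · exact bad (g0.comp g2) (by decide +kernel)
      · exact bad (g0.comp g2) (by decide +kernel)
      · exact bad (g1.comp g2) (by decide +kernel)
  · rcases step v1 v2 v6 (by decide +kernel) with g1 | g1 | g1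
    · rcases step v1 v3 v6 (by decide +kernel) with g2 | g2 | g2
      · exact bad (g1.comp g2) (by decide +kernel)
      · exact bad (g0.comp (g1.comp (g0.comp g2))) (by decide +kernel)
      · exact bad (g0.comp g2) (by decide +kernel)
    · rcases step v1 v2 v7 (by decide +kernel) with g2 | g2 | g2
      · exact bad (g0.comp g2) (by decide +kernel)
      · exact bad (g1.comp g2) (by decide +kernel)
      · exact bad (g0.comp g2) (by decide +kernel)
    · exact bad (g0.comp g1) (by decide +kernel)

theorem rig_two_two [Finite H] (h3 : ¬ 3 ∣ Nat.card H) {x y : V} (hx : x ≠ 0) (hy : y ≠ 0)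
    (hxy : x ≠ y) (base : ∀ h : H, h • x = x → h • y = y → ∀ v : V, h • v = v) : Rig H V := by
  have htwo : ∀ v : V, v + v = 0 := fun v => by
    rw [← two_smul (ZMod 2) v, show (2 : ZMod 2) = 0 by decide, zero_smul]
  have hxxy : x + (x + y) = y := by rw [← add_assoc, htwo, zero_add]
  have hsum : x + y ≠ 0 := fun e => hxy (add_right_cancel (e.trans (htwo y).symm))
  have swapped : ∀ {p r : V}, (∀ h : H, h • p = p → h • r = r → ∀ v : V, h • v = v) →
      p ≠ 0 → r ≠ 0 → ¬ Rig H V → ∃ h : H, h • p = r ∧ h • r = p := by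
    intro p r hb hp hr hn
    by_contra hno
    refine hn ⟨{p, r}, by simp [Ne.symm hp, Ne.symm hr], fun h hS => ?_⟩
    have a1 := hS p (by simp)
    have a2 := hS r (by simp)
    simp only [Set.mem_insert_iff, Set.mem_singleton_iff] at a1 a2
    rcases a1 with e1 | e1
    · rcases a2 with e2 | e2
      · exact hb h e1 (by rwa [← MulAction.injective h (e2.trans e1.symm)] at e1)
      · exact hb h e1 e2
    · rcases a2 with e2 | e2
      · exact absurd ⟨h, e1, e2⟩ hno
      · exact hb h (by rw [e1, MulAction.injective h (e1.trans e2.symm)]) e2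
  by_contra hn
  obtain ⟨g, g1, g2⟩ := swapped base hx hy hn
  obtain ⟨k, k1, k2⟩ := swapped (p := x) (r := x + y)
    (fun h e1 e2 => base h e1 (by
      rw [smul_add, e1] at e2
      exact add_left_cancel e2)) hx hsum hn
  have k3 : k • y = y := by
    conv_lhs => rw [← hxxy, smul_add, k1, k2]
    rw [add_comm, hxxy]
  have c1 : (k * g) • x = y := by rw [mul_smul, g1, k3]
  have c2 : (k * g) • y = x + y := by rw [mul_smul, g2, k1]
  have c3 : (k * g) • (x + y) = x := by
    rw [smul_add, c1, c2, add_comm x y, ← add_assoc, htwo, zero_add]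
  have ht := trivial_of_cube h3 (V := V) (h := k * g) fun v => by
    rw [← mul_smul, ← mul_smul]
    refine base _ ?_ ?_ v
    · rw [mul_smul, mul_smul, c1, c2, c3]
    · rw [mul_smul, mul_smul, c2, c3, c1]
  exact hxy ((ht x).symm.trans c1)

end two

section odd

variable {q : ℕ} [Fact q.Prime] [Module (ZMod q) V]

theorem rig_big_three (hq : 5 ≤ q) {a b c : V}
    (hinj : Function.Injective (comb a b c : ZMod q × ZMod q × ZMod q → V))
    (base : ∀ h : H, h • a = a → h • b = b → h • c = c → ∀ v : V, h • v = v) : Rig H V := by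
  obtain ⟨e1, e2, e3⟩ := comb_one (R := ZMod q) a b c
  have small : ∀ n : ℕ, 0 < n → n < 5 → ((n : ℕ) : ZMod q) ≠ 0 := fun n h0 hn h =>
    absurd (Nat.le_of_dvd h0 ((ZMod.natCast_eq_zero_iff n q).1 h)) (by omega)
  have n1 : (1 : ZMod q) ≠ 0 := one_ne_zero
  have n2 : (2 : ZMod q) ≠ 0 := by exact_mod_cast small 2 (by omega) (by omega)
  have n3 : (3 : ZMod q) ≠ 0 := by exact_mod_cast small 3 (by omega) (by omega)
  have n21 : (2 : ZMod q) ≠ 1 := fun e => n1 (by linear_combination e)
  have n41 : (2 : ZMod q) * 2 ≠ 1 := fun e => n3 (by linear_combination e)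
  have n42 : (2 : ZMod q) * 2 ≠ 2 := fun e => n2 (by linear_combination e)
  let L : Set (ZMod q × ZMod q × ZMod q) := {(1, 0, 0), (2, 0, 0), (0, 1, 0), (0, 0, 1), (1, 1, 0)}
  refine ⟨comb a b c '' L, ?_, fun h hS => ?_⟩
  · rintro ⟨t, ht, e⟩
    have : t = 0 := hinj (e.trans (by simp [comb]))
    subst this
    simp [L, Prod.ext_iff, n2.symm] at ht
  have img : ∀ t ∈ L, ∃ t' ∈ L, h • (comb a b c t : V) = comb a b c t' := fun t ht => by
    obtain ⟨t', h1, h2⟩ := hS _ ⟨t, ht, rfl⟩
    exact ⟨t', h1, h2.symm⟩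
  obtain ⟨u, hu, eu⟩ := img (1, 0, 0) (by simp [L])
  obtain ⟨v, hv, ev⟩ := img (2, 0, 0) (by simp [L])
  obtain ⟨w, hw, ew⟩ := img (0, 1, 0) (by simp [L])
  obtain ⟨z, hz, ez⟩ := img (0, 0, 1) (by simp [L])
  obtain ⟨s, hs, es⟩ := img (1, 1, 0) (by simp [L])
  have hvu : v = (2 : ZMod q) • u := hinj (by
    rw [comb_smul, ← ev, ← eu,
      show ((2, 0, 0) : ZMod q × ZMod q × ZMod q) = (2 : ZMod q) • (1, 0, 0) by simp, comb_smul]
    exact ZMod.map_smul (DistribSMul.toAddMonoidHom V h) _ _)
  have hsu : s = u + w := hinj (by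
    rw [comb_add, ← es, ← eu, ← ew, ← smul_add, ← comb_add]
    simp)
  have hu1 : u = (1, 0, 0) := by
    subst hvu
    simp only [L, Set.mem_insert_iff, Set.mem_singleton_iff] at hu hv
    rcases hu with rfl | rfl | rfl | rfl | rfl
    · rfl
    all_goals exfalso; simp [Prod.ext_iff, n2, n21, n41, n42] at hv
  subst hu1
  have hw1 : w = (0, 1, 0) := by
    subst hsu
    simp only [L, Set.mem_insert_iff, Set.mem_singleton_iff] at hw hs
    rcases hw with rfl | rfl | rfl | rfl | rfl
    · exact absurd (hinj (MulAction.injective h (ew.trans eu.symm))) (by simp [Prod.ext_iff])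
    · exact absurd (hinj (MulAction.injective h (ew.trans (ev.trans (by rw [hvu]; simp)).symm)))
        (by simp [Prod.ext_iff, n2.symm])
    · rfl
    all_goals exfalso; simp [Prod.ext_iff, n21, n21.symm, n2, one_add_one_eq_two] at hs
  subst hw1
  have hz1 : z = (0, 0, 1) := by
    simp only [L, Set.mem_insert_iff, Set.mem_singleton_iff] at hz
    have hne : ∀ t : ZMod q × ZMod q × ZMod q, h • (comb a b c t : V) = comb a b c z →
        t = (0, 0, 1) := fun t e => by
      have e' : h • (comb a b c t : V) = h • comb a b c ((0, 0, 1) : ZMod q × ZMod q × ZMod q) :=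
        e.trans ez.symm
      exact hinj (MulAction.injective h e')
    rcases hz with rfl | rfl | rfl | rfl | rfl
    · exact absurd (hne _ eu) (by simp)
    · exact absurd (hne _ (by rw [ev, hvu]; simp)) (by simp [n2])
    · exact absurd (hne _ ew) (by simp)
    · rfl
    · exact absurd (hne _ (by rw [es, hsu]; simp)) (by simp)
  subst hz1
  rw [e1] at eu
  rw [e2] at ew
  rw [e3] at ez
  exact base h eu ew ez

theorem rig_big_two (hq : 5 ≤ q) {x y : V}
    (hind : ∀ i j : ZMod q, i • x + j • y = 0 → i = 0 ∧ j = 0)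
    (base : ∀ h : H, h • x = x → h • y = y → ∀ v : V, h • v = v) : Rig H V := by
  have small : ∀ n : ℕ, 0 < n → n < 5 → ((n : ℕ) : ZMod q) ≠ 0 := fun n h0 hn h =>
    absurd (Nat.le_of_dvd h0 ((ZMod.natCast_eq_zero_iff n q).1 h)) (by omega)
  have n2 : (2 : ZMod q) ≠ 0 := by exact_mod_cast small 2 (by omega) (by omega)
  have n3 : (3 : ZMod q) ≠ 0 := by exact_mod_cast small 3 (by omega) (by omega)
  have hx : x ≠ 0 := fun e => one_ne_zero (hind 1 0 (by simp [e])).1
  have hy : y ≠ 0 := fun e => one_ne_zero (hind 0 1 (by simp [e])).2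
  have hmul : ∀ i : ZMod q, i • x ≠ y := fun i e =>
    one_ne_zero (neg_eq_zero.1 (hind i (-1) (by rw [e]; simp)).2)
  have hmulx : ∀ i j : ZMod q, i • x = j • x → i = j := fun i j e =>
    sub_eq_zero.1 (hind (i - j) 0 (by rw [sub_smul, e]; simp)).1
  refine ⟨{x, (2 : ZMod q) • x, y}, ?_, fun h hS => ?_⟩
  · simp only [Set.mem_insert_iff, Set.mem_singleton_iff, not_or]
    refine ⟨Ne.symm hx, fun e => n2 ?_, Ne.symm hy⟩
    exact hmulx 2 0 (by rw [← e, zero_smul])
  have a1 := hS x (by simp)
  have a2 := hS ((2 : ZMod q) • x) (by simp)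
  have a3 := hS y (by simp)
  have e2 : h • ((2 : ZMod q) • x) = (2 : ZMod q) • (h • x) :=
    ZMod.map_smul (DistribSMul.toAddMonoidHom V h) _ _
  simp only [Set.mem_insert_iff, Set.mem_singleton_iff, e2] at a1 a2 a3
  have hfx : h • x = x := by
    rcases a1 with e | e | e
    · exact e
    · exfalso
      rw [e, ← mul_smul] at a2
      rcases a2 with f | f | f
      · exact n3 (by linear_combination hmulx _ 1 (f.trans (one_smul _ x).symm))
      · exact n2 (by linear_combination hmulx _ _ f)
      · exact hmul _ f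
    · exfalso
      rw [e] at a2
      rcases a2 with f | f | f
      · exact n2 (hind (-1) 2 (by rw [f]; simp)).2
      · exact n2 (hind (-2) 2 (by rw [f]; simp)).2
      · exact one_ne_zero (α := ZMod q) (hind 0 1 (by
          rw [two_smul, add_eq_left] at f; simp [f])).2
  refine base h hfx ?_
  rcases a3 with e | e | e
  · exact absurd ((MulAction.injective h (e.trans hfx.symm)).symm) (by simpa using hmul 1)
  · exact absurd ((MulAction.injective h (e.trans (e2.trans (by rw [hfx])).symm)).symm) (hmul 2)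
  · exact e

end odd

/-- A set of vectors with trivial setwise stabiliser. -/
theorem exists_rig [Finite H] [Group.IsSolvable H] [Finite V] {q : ℕ} [Fact q.Prime]
    [Module (ZMod q) V] (hq3 : q ≠ 3) (h3 : ¬ 3 ∣ Nat.card H) (hcr : CR H V) : Rig H V := by
  obtain ⟨t, ht⟩ := good_main hcr
  have base3 : ∀ h : H, h • t 0 = t 0 → h • t 1 = t 1 → h • t 2 = t 2 → ∀ v : V, h • v = v :=
    fun h a0 a1 a2 => ht h fun i => by fin_cases i <;> assumption
  have one : ∀ x : V, (∀ h : H, h • x = x → ∀ v : V, h • v = v) → Rig H V := by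
    intro x hx
    by_cases h0 : x = 0
    · exact ⟨∅, by simp, fun h _ => hx h (by rw [h0, smul_zero])⟩
    · exact ⟨{x}, by simpa using Ne.symm h0, fun h hS => hx h (by simpa using hS x rfl)⟩
  have fixsmul : ∀ (h : H) (i : ZMod q) (v : V), h • v = v → h • (i • v) = i • v := fun h i v e =>
    (ZMod.map_smul (DistribSMul.toAddMonoidHom V h) i v).trans (congrArg (i • ·) e)
  have hq5 : q ≠ 2 → 5 ≤ q := fun h2 => by
    rcases Nat.lt_or_ge q 5 with h | h
    · exfalso
      have hp := (Fact.out : q.Prime)
      interval_cases q <;> revert hp <;> first | omega | decide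
    · exact h
  have two : ∀ x y : V, (∀ h : H, h • x = x → h • y = y → ∀ v : V, h • v = v) → Rig H V := by
    intro x y hxy
    by_cases hind : ∀ i j : ZMod q, i • x + j • y = 0 → i = 0 ∧ j = 0
    · by_cases h2 : q = 2
      · subst h2
        refine rig_two_two h3 (fun e => ?_) (fun e => ?_) (fun e => ?_) hxy
        · exact one_ne_zero (hind 1 0 (by simp [e])).1
        · exact one_ne_zero (hind 0 1 (by simp [e])).2
        · exact one_ne_zero (hind 1 1 (by
            rw [e, ← add_smul, show (1 : ZMod 2) + 1 = 0 from rfl, zero_smul])).1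
      · exact rig_big_two (hq5 h2) hind hxy
    · push Not at hind
      obtain ⟨i, j, e, hij⟩ := hind
      by_cases hi : i = 0
      · have hy : y = 0 := by
          rw [hi, zero_smul, zero_add] at e
          exact (smul_eq_zero.1 e).resolve_left (hij hi)
        exact one x fun h hx => hxy h hx (by rw [hy, smul_zero])
      · refine one y fun h hy => hxy h ?_ hy
        have hx : x = (-(i⁻¹ * j)) • y := by
          rw [neg_smul, mul_smul, eq_neg_iff_add_eq_zero]
          have := congrArg (i⁻¹ • ·) e
          simp only [smul_add, smul_zero, inv_smul_smul₀ hi] at this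
          exact this
        rw [hx]
        exact fixsmul h _ y hy
  by_cases hinj : Function.Injective (comb (t 0) (t 1) (t 2) : ZMod q × ZMod q × ZMod q → V)
  · by_cases h2 : q = 2
    · subst h2
      exact rig_two_three h3 hinj base3
    · exact rig_big_three (hq5 h2) hinj base3
  obtain ⟨r, s, hrs, hne⟩ : ∃ r s, (comb (t 0) (t 1) (t 2) r : V) = comb (t 0) (t 1) (t 2) s ∧
      r ≠ s := by
    simpa [Function.Injective] using hinj
  have dep : (r.1 - s.1) • t 0 + (r.2.1 - s.2.1) • t 1 + (r.2.2 - s.2.2) • t 2 = (0 : V) := by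
    simp only [comb] at hrs
    rw [sub_smul, sub_smul, sub_smul, ← sub_eq_zero.2 hrs]
    abel
  have third : ∀ (i j k : ZMod q) (x y z : V), k ≠ 0 → i • x + j • y + k • z = 0 →
      ∀ h : H, h • x = x → h • y = y → h • z = z := by
    intro i j k x y z hk e h hx hy
    have hz : z = (-(k⁻¹)) • (i • x + j • y) := by
      rw [neg_smul, eq_neg_iff_add_eq_zero]
      have := congrArg (k⁻¹ • ·) e
      simp only [smul_add, smul_zero, inv_smul_smul₀ hk] at this
      rw [smul_add, add_comm]
      exact this
    rw [hz]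
    refine fixsmul h _ _ ?_
    rw [smul_add, fixsmul h i x hx, fixsmul h j y hy]
  by_cases k2 : r.2.2 - s.2.2 = 0
  · by_cases k1 : r.2.1 - s.2.1 = 0
    · have k0 : r.1 - s.1 ≠ 0 := fun k0 => hne
        (Prod.ext (sub_eq_zero.1 k0) (Prod.ext (sub_eq_zero.1 k1) (sub_eq_zero.1 k2)))
      exact two (t 1) (t 2) fun h a1 a2 => base3 h
        (third _ _ _ (t 1) (t 2) (t 0) k0 (by rw [← dep]; abel) h a1 a2) a1 a2
    · exact two (t 0) (t 2) fun h a0 a2 => base3 h a0
        (third _ _ _ (t 0) (t 2) (t 1) k1 (by rw [← dep]; abel) h a0 a2) a2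
  · exact two (t 0) (t 1) fun h a0 a1 => base3 h a0 a1
      (third _ _ _ (t 0) (t 1) (t 2) k2 dep h a0 a1)

end linear

/-- The primitive case for three colours. -/
theorem col_primitive {G Ω : Type u} [Group G] [Finite G] [Group.IsSolvable G] [Finite Ω]
    [MulAction G Ω] [FaithfulSMul G Ω] (h3 : ¬ 3 ∣ Nat.card G)
    (htr : ∀ a b : Ω, ∃ g : G, g • a = b) (o : Ω)
    (hmax : ∀ M : Subgroup G, MulAction.stabilizer G o ≤ M →
      M = MulAction.stabilizer G o ∨ M = ⊤) : RigidCol 3 G Ω := by
  classical
  by_cases hG : ∀ g : G, g = 1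
  · exact ⟨fun _ => 0, fun g _ i => by rw [hG g, one_smul]⟩
  push Not at hG
  obtain ⟨N, hNn, hN1, hNab⟩ :
      ∃ N : Subgroup G, N.Normal ∧ N ≠ ⊥ ∧ ∀ a ∈ N, ∀ b ∈ N, a * b = b * a := by
    obtain ⟨d, hd⟩ := (Group.isSolvable_def G).1 inferInstance
    have hex : ∃ d, derivedSeries G d = ⊥ := ⟨d, hd⟩
    obtain ⟨g, hg⟩ := hG
    have h0 : Nat.find hex ≠ 0 := fun h => by
      have := Nat.find_spec hex
      rw [h, derivedSeries_zero] at this
      exact hg (by simpa [this] using Subgroup.mem_top g)
    obtain ⟨m, hm⟩ := Nat.exists_eq_succ_of_ne_zero h0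
    refine ⟨derivedSeries G m, derivedSeries_normal G m, Nat.find_min hex (by omega), ?_⟩
    intro a ha b hb
    have := Nat.find_spec hex
    rw [hm, derivedSeries_succ, Subgroup.commutator_eq_bot_iff_le_centralizer] at this
    exact (Subgroup.mem_centralizer_iff.1 (this ha) b hb).symm
  haveI := hNn
  have hnfix : ∀ U : Subgroup G, U.Normal → U ≤ MulAction.stabilizer G o → U = ⊥ := by
    intro U hU hle
    refine (Subgroup.eq_bot_iff_forall U).2 fun u hu => ?_
    refine eq_of_smul_eq_smul (α := Ω) fun i => ?_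
    obtain ⟨g, rfl⟩ := htr o i
    have h1 : g⁻¹ * u * g ∈ MulAction.stabilizer G o := hle (hU.conj_mem' u hu g)
    rw [MulAction.mem_stabilizer_iff, mul_smul, mul_smul, inv_smul_eq_iff] at h1
    rw [h1, one_smul]
  have htrN : ∀ i, ∃ x ∈ N, x • o = i := by
    intro i
    have htop : MulAction.stabilizer G o ⊔ N = ⊤ := by
      rcases hmax _ le_sup_left with h | h
      · exact absurd (hnfix N hNn (h ▸ le_sup_right)) hN1
      · exact h
    obtain ⟨g, rfl⟩ := htr o i
    have hg : g ∈ N ⊔ MulAction.stabilizer G o := by rw [sup_comm, htop]; exact Subgroup.mem_top _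
    obtain ⟨x, hx, s, hs', rfl⟩ := Subgroup.mem_sup_of_normal_left.1 hg
    exact ⟨x, hx, by rw [mul_smul, MulAction.mem_stabilizer_iff.1 hs']⟩
  have hreg : ∀ x ∈ N, x • o = o → x = 1 := by
    intro x hx hxo
    refine eq_of_smul_eq_smul (α := Ω) fun i => ?_
    obtain ⟨y, hy, rfl⟩ := htrN i
    rw [one_smul, ← mul_smul, hNab x hx y hy, mul_smul, hxo]
  letI : CommGroup N :=
    { (inferInstance : Group N) with mul_comm := fun a b => Subtype.ext (hNab a a.2 b b.2) }
  let act : DistribMulAction (MulAction.stabilizer G o) (Additive N) :=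
    { smul := fun s x => Additive.ofMul
        ⟨(s : G) * ((Additive.toMul x : N) : G) * (s : G)⁻¹,
          hNn.conj_mem _ (Additive.toMul x : N).2 _⟩
      one_smul := fun x => Additive.toMul.injective (Subtype.ext (by
        show ((1 : MulAction.stabilizer G o) : G) * _ * ((1 : MulAction.stabilizer G o) : G)⁻¹ = _
        simp))
      mul_smul := fun s t x => Additive.toMul.injective (Subtype.ext (by
        show ((s * t : MulAction.stabilizer G o) : G) * _ * ((s * t : MulAction.stabilizer G o) : G)⁻¹ =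
          (s : G) * ((t : G) * _ * (t : G)⁻¹) * (s : G)⁻¹
        simp [mul_assoc]))
      smul_zero := fun s => Additive.toMul.injective (Subtype.ext (by
        show (s : G) * ((1 : N) : G) * (s : G)⁻¹ = ((1 : N) : G)
        simp))
      smul_add := fun s x y => Additive.toMul.injective (Subtype.ext (by
        show (s : G) * ((Additive.toMul x * Additive.toMul y : N) : G) * (s : G)⁻¹ =
          ((s : G) * ((Additive.toMul x : N) : G) * (s : G)⁻¹) *
            ((s : G) * ((Additive.toMul y : N) : G) * (s : G)⁻¹)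
        simp [mul_assoc])) }
  letI := act
  have hirr : ∀ U : AddSubgroup (Additive N),
      (∀ s : MulAction.stabilizer G o, ∀ x ∈ U, s • x ∈ U) → U = ⊥ ∨ U = ⊤ := by
    intro U hU
    by_cases hU0 : U = ⊥
    · exact Or.inl hU0
    right
    rw [eq_top_iff]
    let U' : Subgroup G := (AddSubgroup.toSubgroup' U).map N.subtype
    have hU'n : U'.Normal := by
      refine ⟨fun u hu g => ?_⟩
      obtain ⟨⟨u, huN⟩, huU, rfl⟩ := hu
      obtain ⟨x, hx, hxo⟩ := htrN (g • o)
      have hs : x⁻¹ * g ∈ MulAction.stabilizer G o := by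
        rw [MulAction.mem_stabilizer_iff, mul_smul, ← hxo, inv_smul_smul]
      have h1 : Additive.ofMul (⟨(x⁻¹ * g) * u * (x⁻¹ * g)⁻¹, hNn.conj_mem u huN _⟩ : N) ∈ U :=
        hU ⟨_, hs⟩ (Additive.ofMul ⟨u, huN⟩) huU
      refine ⟨⟨g * u * g⁻¹, hNn.conj_mem u huN g⟩, ?_, rfl⟩
      have e : (⟨g * u * g⁻¹, hNn.conj_mem u huN g⟩ : N) =
          ⟨(x⁻¹ * g) * u * (x⁻¹ * g)⁻¹, hNn.conj_mem u huN _⟩ := Subtype.ext (by
        show g * u * g⁻¹ = (x⁻¹ * g) * u * (x⁻¹ * g)⁻¹
        have := hNab x hx (g * u * g⁻¹) (hNn.conj_mem u huN g)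
        calc g * u * g⁻¹ = x⁻¹ * (x * (g * u * g⁻¹)) := by group
          _ = x⁻¹ * ((g * u * g⁻¹) * x) := by rw [this]
          _ = _ := by group)
      show Additive.ofMul (⟨g * u * g⁻¹, _⟩ : N) ∈ U
      rw [e]
      exact h1
    have hU'N : U' ≤ N := Subgroup.map_subtype_le _
    have hne : ¬ U' ≤ MulAction.stabilizer G o := by
      intro h
      apply hU0
      refine (AddSubgroup.eq_bot_iff_forall U).2 fun a ha => ?_
      have hmem : ((Additive.toMul a : N) : G) ∈ U' := ⟨Additive.toMul a, ha, rfl⟩
      rw [hnfix U' hU'n h, Subgroup.mem_bot] at hmem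
      exact Additive.toMul.injective (Subtype.ext hmem)
    intro a _
    have htop : MulAction.stabilizer G o ⊔ U' = ⊤ :=
      (hmax _ le_sup_left).resolve_left fun h => hne (h ▸ le_sup_right)
    haveI := hU'n
    have hg : ((Additive.toMul a : N) : G) ∈ U' ⊔ MulAction.stabilizer G o := by
      rw [sup_comm, htop]; exact Subgroup.mem_top _
    obtain ⟨u, hu, s, hs', hus⟩ := Subgroup.mem_sup_of_normal_left.1 hg
    have hs1 : s = 1 := by
      refine hreg s ?_ (MulAction.mem_stabilizer_iff.1 hs')
      rw [show s = u⁻¹ * ((Additive.toMul a : N) : G) by rw [← hus, inv_mul_cancel_left]]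
      exact mul_mem (inv_mem (hU'N hu)) (Additive.toMul a : N).2
    rw [hs1, mul_one] at hus
    obtain ⟨b, hb, hbu⟩ := hu
    have : b = Additive.toMul a := Subtype.ext (hbu.trans hus)
    rw [this] at hb
    exact hb
  have hcr : ThreeVec75.CR (MulAction.stabilizer G o) (Additive N) := by
    intro U hU
    rcases hirr U hU with h | h
    · exact ⟨⊤, fun _ _ _ => trivial, by rw [h, bot_inf_eq], by rw [sup_top_eq]⟩
    · refine ⟨⊥, fun s x hx => ?_, by rw [inf_bot_eq], by rw [h, top_sup_eq]⟩
      rw [AddSubgroup.mem_bot] at hx ⊢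
      rw [hx, smul_zero]
  obtain ⟨q, hq, hqN⟩ := Nat.exists_prime_and_dvd (n := Nat.card N)
    (fun h => hN1 (Subgroup.card_eq_one.1 h))
  haveI := Fact.mk hq
  have hq3 : q ≠ 3 := fun e =>
    h3 ((e ▸ hqN).trans (Subgroup.card_subgroup_dvd_card N))
  have htor : ∀ x : Additive N, q • x = 0 := by
    let U : AddSubgroup (Additive N) :=
      { carrier := {x | q • x = 0}
        zero_mem' := nsmul_zero q
        add_mem' := fun {x y} hx hy => by
          show q • (x + y) = 0
          rw [nsmul_add, hx, hy, add_zero]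
        neg_mem' := fun {x} hx => by
          show q • -x = 0
          rw [neg_nsmul, hx, neg_zero] }
    rcases hirr U (fun s x (hx : q • x = 0) => by
      show q • (s • x) = 0
      rw [← smul_comm, hx, smul_zero]) with h | h
    · exfalso
      obtain ⟨d, hd⟩ := exists_prime_orderOf_dvd_card' q hqN
      have hmem : Additive.ofMul d ∈ U := by
        show q • Additive.ofMul d = 0
        rw [← ofMul_pow, ← hd, pow_orderOf_eq_one, ofMul_one]
      rw [h, AddSubgroup.mem_bot, ofMul_eq_zero] at hmem
      rw [hmem, orderOf_one] at hd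
      exact hq.ne_one hd.symm
    · intro x
      have : x ∈ U := by rw [h]; trivial
      exact this
  letI : Module (ZMod q) (Additive N) := AddCommGroup.zmodModule (n := q) htor
  obtain ⟨S, hS0, hS⟩ := exists_rig hq3
    (fun h => h3 (h.trans (Subgroup.card_subgroup_dvd_card _))) hcr
  let e : Additive N → Ω := fun x => ((Additive.toMul x : N) : G) • o
  have einj : Function.Injective e := by
    intro x y h
    apply Additive.toMul.injective
    apply Subtype.ext
    have := hreg (((Additive.toMul y : N) : G)⁻¹ * (Additive.toMul x : N))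
      (mul_mem (inv_mem (Additive.toMul y : N).2) (Additive.toMul x : N).2)
      (by rw [mul_smul, inv_smul_eq_iff]; exact h)
    exact (inv_mul_eq_one.1 this).symm
  have ezero : e 0 = o := by simp [e]
  refine ⟨fun i => if i = o then 0 else if i ∈ e '' S then 1 else 2, fun g hg i => ?_⟩
  have hgo : g • o = o := by
    have := hg o
    simp only [if_true] at this
    by_contra hne
    rw [if_neg hne] at this
    split_ifs at this
    · exact absurd this (by decide)
    · exact absurd this (by decide)
  let s : MulAction.stabilizer G o := ⟨g, hgo⟩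
  have hes : ∀ x : Additive N, e (s • x) = g • e x := by
    intro x
    show (g * ((Additive.toMul x : N) : G) * g⁻¹) • o = g • _
    rw [mul_smul, mul_smul, inv_smul_eq_iff.2 hgo.symm]
  have hkey := hS s fun x hx => by
    have hne : e x ≠ o := fun h => hS0 ((einj (h.trans ezero.symm)) ▸ hx)
    have hne' : g • e x ≠ o := fun h => hne (MulAction.injective g (h.trans hgo.symm))
    have := hg (e x)
    simp only at this
    rw [if_neg hne', if_neg hne, if_pos (Set.mem_image_of_mem e hx)] at this
    by_contra hns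
    rw [if_neg (by rw [← hes, einj.mem_set_image]; exact hns)] at this
    exact absurd this (by decide)
  obtain ⟨x, hx, rfl⟩ := htrN i
  have := congrArg e (hkey (Additive.ofMul ⟨x, hx⟩))
  rw [hes] at this
  exact this

theorem shift_eq_zero {P Ω : Type*} [Group P] [MulAction P Ω] [Nonempty Ω]
    (h3 : ¬ 3 ∣ Nat.card P) {c : Ω → ZMod 3} {g : P} {k : ZMod 3}
    (h : ∀ x, c (g • x) = c x + k) : k = 0 := by
  haveI := Fact.mk Nat.prime_three
  obtain ⟨x⟩ := ‹Nonempty Ω›
  have hn : ∀ n : ℕ, c (g ^ n • x) = c x + n • k := by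
    intro n
    induction n with
    | zero => simp
    | succ n ih => rw [pow_succ', mul_smul, h, ih, succ_nsmul, add_assoc]
  have := hn (orderOf g)
  rw [pow_orderOf_eq_one, one_smul, left_eq_add, nsmul_eq_mul] at this
  refine (mul_eq_zero.1 this).resolve_left fun h0 => h3 ?_
  exact ((ZMod.natCast_eq_zero_iff _ 3).1 h0).trans (orderOf_dvd_natCard g)

theorem col_three : ∀ (n : ℕ) (P Ω : Type u) [Group P] [Finite P] [Group.IsSolvable P]
    [MulAction P Ω] [Finite Ω], ¬ 3 ∣ Nat.card P → Nat.card Ω ≤ n → RigidCol 3 P Ω := by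
  intro n
  induction n with
  | zero =>
    intro P Ω _ _ _ _ _ _ hn
    haveI : IsEmpty Ω := (Nat.card_eq_zero.1 (Nat.le_zero.1 hn)).resolve_right
      (not_infinite_iff_finite.2 inferInstance)
    exact ⟨fun _ => 0, fun g _ x => isEmptyElim x⟩
  | succ n ih =>
    intro P Ω _ _ _ _ _ h3 hcard
    classical
    rcases isEmpty_or_nonempty Ω with h | h
    · exact ⟨fun _ => 0, fun g _ x => isEmptyElim x⟩
    obtain ⟨x0⟩ := h
    by_cases hsplit : ∃ x : Ω, x ∉ MulAction.orbit P x0
    · let S : SubMulAction P Ω :=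
        { carrier := MulAction.orbit P x0
          smul_mem' := fun g x hx => (MulAction.mem_orbit_of_mem_orbit g hx) }
      let R : SubMulAction P Ω :=
        { carrier := (MulAction.orbit P x0)ᶜ
          smul_mem' := fun g x hx h => hx (by
            simpa using MulAction.mem_orbit_of_mem_orbit g⁻¹ h) }
      obtain ⟨x1, hx1⟩ := hsplit
      obtain ⟨c, hc⟩ := ih P S h3 (by
        have : Nat.card S < Nat.card Ω := Finite.card_subtype_lt (x := x1) hx1
        omega)
      obtain ⟨d, hd⟩ := ih P R h3 (by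
        have : Nat.card R < Nat.card Ω :=
          Finite.card_subtype_lt (x := x0) (fun h => h (MulAction.mem_orbit_self x0))
        omega)
      refine ⟨fun x => if h : x ∈ MulAction.orbit P x0 then c ⟨x, h⟩ else d ⟨x, h⟩,
        fun g hg x => ?_⟩
      have hgS := hc g fun x => by
        have := hg x.1
        simp only [dif_pos (show g • x.1 ∈ MulAction.orbit P x0 from (g • x).2),
          dif_pos (show x.1 ∈ MulAction.orbit P x0 from x.2)] at this
        exact this
      have hgR := hd g fun x => by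
        have := hg x.1
        simp only [dif_neg (show ¬ g • x.1 ∈ MulAction.orbit P x0 from (g • x).2),
          dif_neg (show ¬ x.1 ∈ MulAction.orbit P x0 from x.2)] at this
        exact this
      by_cases h : x ∈ MulAction.orbit P x0
      · exact congrArg Subtype.val (hgS ⟨x, h⟩)
      · exact congrArg Subtype.val (hgR ⟨x, h⟩)
    push Not at hsplit
    have htr : ∀ x y : Ω, ∃ g : P, g • x = y := fun x y => by
      obtain ⟨g, hg⟩ := MulAction.mem_orbit_iff.1 (hsplit x)
      obtain ⟨h, hh⟩ := MulAction.mem_orbit_iff.1 (hsplit y)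
      exact ⟨h * g⁻¹, by rw [mul_smul, ← hg, inv_smul_smul, hh]⟩
    haveI : MulAction.IsPretransitive P Ω := ⟨htr⟩
    by_cases hmax : ∀ M : Subgroup P, MulAction.stabilizer P x0 ≤ M →
        M = MulAction.stabilizer P x0 ∨ M = ⊤
    · let π := MulAction.toPermHom P Ω
      haveI : Group.IsSolvable π.range :=
        Group.isSolvable_of_surjective π.rangeRestrict_surjective
      obtain ⟨c, hc⟩ := col_primitive (G := π.range) (Ω := Ω)
        (fun h => h3 (h.trans (Subgroup.card_range_dvd π)))
        (fun a b => by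
          obtain ⟨g, hg⟩ := htr a b
          exact ⟨π.rangeRestrict g, hg⟩) x0 (fun M hM => by
          have hle : MulAction.stabilizer P x0 ≤ M.comap π.rangeRestrict := fun g hg => hM hg
          rcases hmax _ hle with h | h
          · left
            refine le_antisymm (fun x hx => ?_) hM
            obtain ⟨g, rfl⟩ := π.rangeRestrict_surjective x
            have : g ∈ M.comap π.rangeRestrict := hx
            rw [h] at this
            exact this
          · right
            refine eq_top_iff.2 fun x _ => ?_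
            obtain ⟨g, rfl⟩ := π.rangeRestrict_surjective x
            have : g ∈ M.comap π.rangeRestrict := h ▸ Subgroup.mem_top g
            exact this)
      exact ⟨c, fun g hg x => hc (π.rangeRestrict g) hg x⟩
    push Not at hmax
    obtain ⟨K, hK, hKne, hKtop⟩ := hmax
    have hK1 : MulAction.stabilizer P x0 < K := lt_of_le_of_ne hK (Ne.symm hKne)
    choose γ hγ using fun x : Ω => MulAction.exists_smul_eq P x0 x
    let f : Ω → P ⧸ K := fun x => (γ x : P ⧸ K)
    have hf : ∀ (g : P) x, f (g • x) = g • f x := by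
      intro g x
      show ((γ (g • x) : P ⧸ K)) = ((g * γ x : P) : P ⧸ K)
      rw [QuotientGroup.eq]
      refine hK (MulAction.mem_stabilizer_iff.2 ?_)
      rw [mul_smul, mul_smul, hγ, inv_smul_eq_iff, hγ]
    obtain ⟨out, hout⟩ := ih P (P ⧸ K) h3 (by
      have : Nat.card (P ⧸ K) < Nat.card Ω := by
        rw [← Subgroup.index, ← MulAction.index_stabilizer_of_transitive P x0]
        exact Subgroup.index_strictAnti hK1
      omega)
    let σ0 : P ⧸ K := f x0
    let P0 := MulAction.stabilizer P σ0
    let F : SubMulAction P0 Ω :=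
      { carrier := {x | f x = σ0}
        smul_mem' := fun g x (hx : f x = σ0) => by
          show f ((g : P) • x) = σ0
          rw [hf, hx]; exact g.2 }
    haveI : Nonempty F := ⟨⟨x0, rfl⟩⟩
    obtain ⟨x1, hx1⟩ : ∃ x : Ω, f x ≠ σ0 := by
      by_contra h
      push Not at h
      apply hKtop
      rw [eq_top_iff]
      intro g _
      have e := h (g • x0)
      rw [hf] at e
      have e' : ((g * γ x0 : P) : P ⧸ K) = ((γ x0 : P) : P ⧸ K) := e
      rw [QuotientGroup.eq] at e'
      have hx : γ x0 ∈ K := hK (MulAction.mem_stabilizer_iff.2 (hγ x0))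
      simpa using K.mul_mem (K.mul_mem hx (K.inv_mem e')) (K.inv_mem hx)
    have h30 : ¬ 3 ∣ Nat.card P0 := fun h => h3 (h.trans (Subgroup.card_subgroup_dvd_card _))
    obtain ⟨inn, hinn⟩ := ih P0 F h30 (by
      have : Nat.card F < Nat.card Ω := Finite.card_subtype_lt (x := x1) hx1
      omega)
    choose τ hτ using fun σ : P ⧸ K => MulAction.exists_smul_eq P σ0 σ
    have hback : ∀ x : Ω, (τ (f x))⁻¹ • x ∈ F := fun x => by
      show f _ = σ0
      rw [hf, inv_smul_eq_iff, hτ]
    refine ⟨fun x => inn ⟨(τ (f x))⁻¹ • x, hback x⟩ + out (f x), fun g hg => ?_⟩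
    have hmem : ∀ σ : P ⧸ K, (τ (g • σ))⁻¹ * g * τ σ ∈ P0 := fun σ => by
      rw [MulAction.mem_stabilizer_iff, mul_smul, mul_smul, hτ, inv_smul_eq_iff, hτ]
    have hfy : ∀ (σ : P ⧸ K) (y : F), f (τ σ • (y : Ω)) = σ := fun σ y => by
      rw [hf, show f (y : Ω) = σ0 from y.2, hτ]
    have hblock : ∀ σ : P ⧸ K, out (g • σ) = out σ ∧ ∀ y : F, (⟨_, hmem σ⟩ : P0) • y = y := by
      intro σ
      have hsh : ∀ y : F, inn ((⟨_, hmem σ⟩ : P0) • y) = inn y + (out σ - out (g • σ)) := by
        intro y
        have e : inn ((⟨_, hmem σ⟩ : P0) • y) + out (g • σ) = inn y + out σ := by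
          convert hg (τ σ • (y : Ω)) using 2
          · congr 1
            apply Subtype.ext
            show ((τ (g • σ))⁻¹ * g * τ σ) • (y : Ω) = _
            simp only [mul_smul, hf, show f (y : Ω) = σ0 from y.2, hτ]
          · rw [hf, hfy]
          · congr 1
            apply Subtype.ext
            simp only [hfy, inv_smul_smul]
          · rw [hfy]
        linear_combination e
      have hk := shift_eq_zero h30 hsh
      exact ⟨(sub_eq_zero.1 hk).symm, hinn _ fun y => by rw [hsh, hk, add_zero]⟩
    have hσ := hout g fun σ => (hblock σ).1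
    intro x
    have e := congrArg Subtype.val ((hblock (f x)).2 ⟨_, hback x⟩)
    change ((τ (g • f x))⁻¹ * g * τ (f x)) • ((τ (f x))⁻¹ • x) = (τ (f x))⁻¹ • x at e
    rw [hσ, mul_smul, mul_smul, smul_inv_smul] at e
    exact smul_left_cancel _ e

/-- The coprime colouring theorem. -/
theorem colourTwo : ThreeVec75.ColourTwo.{u} := by
  intro p hp P Ω _ _ _ _ _ hdvd
  classical
  by_cases h2 : p = 2
  · subst h2
    obtain ⟨S, hS⟩ := OddBase75.exists_set (OddBase75.small_all.{u} (Nat.card Ω + 1)) (Nat.card Ω)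
      P Ω (Nat.not_even_iff_odd.1 fun h => hdvd (even_iff_two_dvd.1 h)) rfl (Nat.lt_succ_self _)
    refine ⟨fun i => if i ∈ S then 1 else 0, fun g hg => hS g fun i => ?_⟩
    have := hg i
    simp only at this
    split_ifs at this with a b b
    · exact iff_of_true a b
    · exact absurd this (by decide)
    · exact absurd this (by decide)
    · exact iff_of_false a b
  by_cases h3 : p = 3
  · subst h3
    exact col_three _ P Ω hdvd le_rfl
  have h5 : 5 ≤ p := by
    rcases Nat.lt_or_ge p 5 with h | h
    · exfalso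
      interval_cases p <;> revert hp <;> first | omega | decide
    · exact h
  rcases isEmpty_or_nonempty Ω with h | h
  · exact ⟨fun _ => 0, fun g _ x => isEmptyElim x⟩
  obtain ⟨c, hc⟩ := fiveCol (P := P) (Ω := Ω)
  refine ⟨fun x => ((c 0 x).val : ZMod p), fun g hg => (hc 0 0 g fun x => Fin.ext ?_).2⟩
  have := congrArg ZMod.val (hg x)
  rwa [ZMod.val_natCast, ZMod.val_natCast, Nat.mod_eq_of_lt (by omega),
    Nat.mod_eq_of_lt (by omega)] at this

end Cfsg.Agent.TwoVecColour65
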