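import Cfsg.Agent.Lib.ThreeVec75Combo

/-!
Colourings of small spaces over two elements preserved only by trivial twisted maps: a backtracking
search over the images of a basis and the phases of a quadratic function.
-/

set_option autoImplicit false
set_option maxRecDepth 100000
set_option linter.style.haveILetI false

namespace Cfsg.Agent.TwoVecCombo11

open Cfsg.Agent.ThreeVec75

/-! ### The search -/

/-- The packed value of a colouring at a point. -/
def col (L x : Nat) : Nat := Nat.land (Nat.shiftRight L (3 * x)) 7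

/-- The colouring allows sending `x` to `y` with phase `v`. -/
def compat (m L x y v : Nat) : Bool :=
  cond (Nat.beq (col L x) 0) (Nat.beq (col L y) 0) (Nat.beq (col L y) ((col L x - 1 + v) % m + 1))

/-- `compat` along a block of consecutive points. -/
def allC (m L : Nat) : Nat → List Nat → List Nat → Bool
  | x, s :: ss, v :: vs => compat m L x s v && allC m L (x + 1) ss vs
  | _, _, _ => true

/-- Extend a partial map on the block above the `k`-th basis point. -/
def ch (m L s zt top : Nat) (sg zs : List Nat) (next : List Nat → List Nat → Bool) :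
    Nat → Nat → List Nat → List Nat → List Nat → Bool
  | 0, _, ns, nz, _ => next (sg ++ ns) (zs ++ nz)
  | d + 1, j, ns, nz, pl => [0, 1].all fun b =>
      let o := 2 ^ j
      let p2 := pl.map fun q => (b + q) % 2
      let n2 := ((sg.drop o).take o).map fun a => Nat.xor s a
      let z2 := List.zipWith (fun a q => (a + zt + m / 2 * q) % m) ((zs.drop o).take o) p2
      !(allC m L (top + o) n2 z2) ||
        ch m L s zt top sg zs next d (j + 1) (ns ++ n2) (nz ++ z2) (pl ++ p2)

/-- All completions are trivial. -/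
def search (n m L : Nat) : Nat → Nat → List Nat → List Nat → Bool
  | 0, _, sg, zs => sg == List.range' 0 (2 ^ n) && zs.all fun v => Nat.beq v 0
  | r + 1, k, sg, zs => (List.range' 0 (2 ^ n)).all fun s =>
      sg.contains s || (List.range' 0 m).all fun zt =>
        !(compat m L (2 ^ k) s zt) ||
          ch m L s zt (2 ^ k) sg zs (fun a b => search n m L r (k + 1) a b) k 0 [s] [zt] [0]

/-! ### Soundness -/

/-- A twisted map in coordinates. -/
structure Sol (n m L : Nat) where
  S : Nat → Nat
  Z : Nat → Nat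
  β : Nat → Nat → Nat
  S_zero : S 0 = 0
  Z_zero : Z 0 = 0
  S_lt : ∀ x, x < 2 ^ n → S x < 2 ^ n
  Z_lt : ∀ x, x < 2 ^ n → Z x < m
  S_inj : ∀ x y, x < 2 ^ n → y < 2 ^ n → S x = S y → x = y
  S_add : ∀ x y, x < 2 ^ n → y < 2 ^ n → S (x ^^^ y) = S x ^^^ S y
  Z_add : ∀ x y, x < 2 ^ n → y < 2 ^ n → Z (x ^^^ y) = (Z x + Z y + m / 2 * β x y) % m
  β_zero : ∀ x, x < 2 ^ n → β x 0 = 0
  β_lt : ∀ x y, β x y < 2
  β_add : ∀ x y w, x < 2 ^ n → y < 2 ^ n → w < 2 ^ n → β x (y ^^^ w) = (β x y + β x w) % 2
  comp : ∀ x, x < 2 ^ n → compat m L x (S x) (Z x) = true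

theorem map_range'_congr {f g : Nat → Nat} {a b o : Nat} (h : ∀ i < o, f (a + i) = g (b + i)) :
    (List.range' a o).map f = (List.range' b o).map g := by
  rw [List.range'_eq_map_range (s := a), List.range'_eq_map_range (s := b), List.map_map,
    List.map_map]
  exact List.map_congr_left fun i hi => h i (List.mem_range.mp hi)

theorem drop_take (f : Nat → Nat) {o k : Nat} (h : o + o ≤ k) :
    (((List.range' 0 k).map f).drop o).take o = (List.range' o o).map f := by
  rw [← List.map_drop, ← List.map_take, List.drop_range', Nat.zero_add, Nat.mul_one]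
  congr 1
  rw [show k - o = o + (k - o - o) by omega, ← List.range'_append_1]
  exact List.take_left' List.length_range'

theorem zipWith_range' (F : Nat → Nat → Nat) (f g : Nat → Nat) (a o : Nat) :
    List.zipWith F ((List.range' a o).map f) ((List.range' a o).map g) =
      (List.range' a o).map fun i => F (f i) (g i) := by
  rw [List.zipWith_map, List.zipWith_self]

theorem allC_range' {m L : Nat} (S Z : Nat → Nat) : ∀ o x : Nat,
    (∀ i, i < o → compat m L (x + i) (S (x + i)) (Z (x + i)) = true) →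
      allC m L x ((List.range' x o).map S) ((List.range' x o).map Z) = true
  | 0, _, _ => rfl
  | o + 1, x, h => by
    rw [List.range'_succ, List.map_cons, List.map_cons, allC, Bool.and_eq_true]
    refine ⟨h 0 (Nat.succ_pos _), allC_range' S Z o (x + 1) fun i hi => ?_⟩
    rw [show x + 1 + i = x + (i + 1) by omega]
    exact h (i + 1) (by omega)

theorem xor_add : ∀ k < 7, ∀ i < 2 ^ k, 2 ^ k ^^^ i = 2 ^ k + i := by decide +kernel

theorem ch_sound {n m L : Nat} (hn : n ≤ 7) (T : Sol n m L) {k : Nat} (hk : k < n) {next : List Nat → List Nat → Bool} :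
    ∀ d j, j + d = k →
      ch m L (T.S (2 ^ k)) (T.Z (2 ^ k)) (2 ^ k) ((List.range' 0 (2 ^ k)).map T.S)
        ((List.range' 0 (2 ^ k)).map T.Z) next d j ((List.range' (2 ^ k) (2 ^ j)).map T.S)
        ((List.range' (2 ^ k) (2 ^ j)).map T.Z) ((List.range' 0 (2 ^ j)).map (T.β (2 ^ k))) = true →
      next ((List.range' 0 (2 ^ (k + 1))).map T.S) ((List.range' 0 (2 ^ (k + 1))).map T.Z) = true
  | 0, j, hj, h => by
    rw [Nat.add_zero] at hj
    subst hj
    rw [ch, ← List.map_append, ← List.map_append] at h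
    have e : List.range' 0 (2 ^ j) ++ List.range' (2 ^ j) (2 ^ j) = List.range' 0 (2 ^ (j + 1)) := by
      rw [pow_succ, Nat.mul_two]
      simpa using List.range'_append_1 (s := 0) (m := 2 ^ j) (n := 2 ^ j)
    rwa [e] at h
  | d + 1, j, hj, h => by
    have hjk : j < k := by omega
    have hkn : (2 : Nat) ^ (k + 1) ≤ 2 ^ n := Nat.pow_le_pow_right (by norm_num) hk
    have hjk' : (2 : Nat) ^ (j + 1) ≤ 2 ^ k := Nat.pow_le_pow_right (by norm_num) hjk
    rw [pow_succ] at hkn hjk'
    have htop : (2 : Nat) ^ k < 2 ^ n := by have := Nat.two_pow_pos k; omega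
    set b := T.β (2 ^ k) (2 ^ j) with hb
    have hmem : b ∈ [0, 1] := by
      have := T.β_lt (2 ^ k) (2 ^ j)
      simp only [List.mem_cons, List.not_mem_nil, or_false]
      omega
    rw [ch, List.all_eq_true] at h
    have h' := h b hmem
    have hx : ∀ i, i < 2 ^ j → (2 ^ j + i < 2 ^ n) ∧
        2 ^ k + 2 ^ j + i = 2 ^ k ^^^ (2 ^ j + i) ∧ 2 ^ j + i = 2 ^ j ^^^ i := fun i hi =>
      ⟨by omega, by rw [xor_add k (by omega) _ (by omega), Nat.add_assoc],
        (xor_add j (by omega) i hi).symm⟩
    have hp : ((List.range' 0 (2 ^ j)).map (T.β (2 ^ k))).map (fun q => (b + q) % 2) =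
        (List.range' (2 ^ j) (2 ^ j)).map (T.β (2 ^ k)) := by
      rw [List.map_map]
      refine map_range'_congr fun i hi => ?_
      rw [Nat.zero_add, Function.comp_apply, (hx i hi).2.2,
        T.β_add _ _ _ htop (by omega) (by omega)]
    have hs : ((((List.range' 0 (2 ^ k)).map T.S).drop (2 ^ j)).take (2 ^ j)).map
        (fun a => Nat.xor (T.S (2 ^ k)) a) = (List.range' (2 ^ k + 2 ^ j) (2 ^ j)).map T.S := by
      rw [drop_take _ (by omega), List.map_map]
      refine map_range'_congr fun i hi => ?_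
      rw [(hx i hi).2.1, T.S_add _ _ htop (hx i hi).1]
      rfl
    have hz : List.zipWith (fun a q => (a + T.Z (2 ^ k) + m / 2 * q) % m)
        ((((List.range' 0 (2 ^ k)).map T.Z).drop (2 ^ j)).take (2 ^ j))
        ((List.range' (2 ^ j) (2 ^ j)).map (T.β (2 ^ k))) =
          (List.range' (2 ^ k + 2 ^ j) (2 ^ j)).map T.Z := by
      rw [drop_take _ (by omega), zipWith_range']
      refine map_range'_congr fun i hi => ?_
      rw [(hx i hi).2.1, T.Z_add _ _ htop (hx i hi).1, Nat.add_comm (T.Z (2 ^ j + i))]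
    simp only [hp, hs, hz, Bool.or_eq_true, Bool.not_eq_true'] at h'
    rcases h' with h' | h'
    · rw [allC_range' T.S T.Z _ _ fun i hi => T.comp _ (by omega)] at h'
      exact Bool.noConfusion h'
    · refine ch_sound hn T hk d (j + 1) (by omega) ?_
      rw [← List.map_append, ← List.map_append, ← List.map_append] at h'
      have e1 : List.range' (2 ^ k) (2 ^ j) ++ List.range' (2 ^ k + 2 ^ j) (2 ^ j) =
          List.range' (2 ^ k) (2 ^ (j + 1)) := by
        rw [pow_succ, Nat.mul_two]
        exact List.range'_append_1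
      have e2 : List.range' 0 (2 ^ j) ++ List.range' (2 ^ j) (2 ^ j) = List.range' 0 (2 ^ (j + 1)) := by
        rw [pow_succ, Nat.mul_two]
        simpa using List.range'_append_1 (s := 0) (m := 2 ^ j) (n := 2 ^ j)
      rwa [e1, e2] at h'

theorem search_sound {n m L : Nat} (hn : n ≤ 7) (T : Sol n m L) :
    ∀ r k, k + r = n →
      search n m L r k ((List.range' 0 (2 ^ k)).map T.S) ((List.range' 0 (2 ^ k)).map T.Z) = true →
      ∀ x, x < 2 ^ n → T.S x = x ∧ T.Z x = 0
  | 0, k, hk, h, x, hx => by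
    rw [Nat.add_zero] at hk
    subst hk
    rw [search, Bool.and_eq_true, beq_iff_eq, List.all_eq_true] at h
    have hx' : x ∈ List.range' 0 (2 ^ k) := by
      rw [List.mem_range'_1]
      exact ⟨Nat.zero_le _, by simpa using hx⟩
    have h1 : (List.range' 0 (2 ^ k)).map T.S = (List.range' 0 (2 ^ k)).map id := by
      rw [List.map_id, h.1]
    exact ⟨List.map_inj_left.mp h1 x hx', Nat.beq_eq.mp (h.2 _ (List.mem_map.mpr ⟨x, hx', rfl⟩))⟩
  | r + 1, k, hk, h, x, hx => by
    have hkn : (2 : Nat) ^ k < 2 ^ n := Nat.pow_lt_pow_right (by norm_num) (by omega)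
    rw [search, List.all_eq_true] at h
    have h1 := h (T.S (2 ^ k)) (by
      rw [List.mem_range'_1]
      exact ⟨Nat.zero_le _, by simpa using T.S_lt _ hkn⟩)
    have hnot : ((List.range' 0 (2 ^ k)).map T.S).contains (T.S (2 ^ k)) = false := by
      rw [Bool.eq_false_iff]
      intro hc
      obtain ⟨y, hy, he⟩ := List.mem_map.mp (List.contains_iff_mem.mp hc)
      rw [List.mem_range'_1] at hy
      have := T.S_inj y _ (by omega) hkn he
      omega
    rw [hnot, Bool.false_or, List.all_eq_true] at h1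
    have h2 := h1 (T.Z (2 ^ k)) (by
      rw [List.mem_range'_1]
      exact ⟨Nat.zero_le _, by simpa using T.Z_lt _ hkn⟩)
    rw [T.comp _ hkn, Bool.not_true, Bool.false_or] at h2
    refine search_sound hn T r (k + 1) (by omega) ?_ x hx
    refine ch_sound hn T (by omega) k 0 (Nat.zero_add k) ?_
    rw [pow_zero]
    simpa [List.range'_one, T.β_zero _ hkn] using h2

theorem sound {n m L : Nat} (hn : n ≤ 7) (T : Sol n m L) (h : search n m L n 0 [0] [0] = true) :
    ∀ x, x < 2 ^ n → T.S x = x ∧ T.Z x = 0 := by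
  refine search_sound hn T n 0 (Nat.zero_add n) ?_
  rw [pow_zero]
  simpa [List.range'_one, T.S_zero, T.Z_zero] using h

/-! ### Transfer -/

theorem halves : ∀ m, m = 2 ∨ m = 4 → ∀ d : Fin m, (d.val + d.val) % m = 0 →
    d.val = 0 ∨ d.val = m / 2 := by
  rintro m (rfl | rfl) <;> decide

theorem separated_of_search {U X Γ : Type*} [CommGroup U] {ε : U} [Group Γ]
    [AddCommGroup X] [Module (ZMod 2) X] [Finite X] (T : Twist 2 ε Γ X) (hU : IsCyclic U)
    {n m L : Nat} (hn : n ≤ 7) (hm : m = 2 ∨ m = 4) (hcard : Nat.card U = m)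
    (hdim : Module.finrank (ZMod 2) X = n) (hs : search n m L n 0 [0] [0] = true)
    (hc : ((List.range' 0 (2 ^ n)).all fun x => Nat.blt (col L x - 1) m) = true) :
    T.Separated := by
  classical
  have hm0 : m ≠ 0 := by omega
  have hcol : ∀ x, x < 2 ^ n → col L x - 1 < m := fun x hx => Nat.blt_eq.mp
    (List.all_eq_true.mp hc x (by rw [List.mem_range'_1]; exact ⟨Nat.zero_le _, by simpa using hx⟩))
  haveI : NeZero m := ⟨hm0⟩
  let e : U ≃* Multiplicative (ZMod m) := mulEquivOfCyclicCardEq (by
    rw [hcard, Nat.card_congr Multiplicative.toAdd, Nat.card_zmod])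
  let Lg : U → ZMod m := fun u => Multiplicative.toAdd (e u)
  have Lg_mul : ∀ u v, Lg (u * v) = Lg u + Lg v := fun u v => by simp [Lg]
  have Lg_one : Lg 1 = 0 := by simp [Lg]
  have Lg_inj : Function.Injective Lg := Multiplicative.toAdd.injective.comp e.injective
  let B : (Fin n → ZMod 2) ≃ₗ[ZMod 2] X :=
    (Module.finBasisOfFinrankEq (ZMod 2) X hdim).equivFun.symm
  let φ : Nat → X := fun x => B fun i => if x.testBit (i : Nat) = true then 1 else 0
  have φ_zero : φ 0 = 0 := by
    show B _ = 0
    rw [show (fun i : Fin n => if (0 : Nat).testBit (i : Nat) = true then (1 : ZMod 2) else 0) = 0 from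
      funext fun i => by simp]
    exact map_zero B
  have φ_add : ∀ x y, φ (x ^^^ y) = φ x + φ y := by
    intro x y
    show B _ = B _ + B _
    rw [← map_add]
    congr 1
    funext i
    simp only [Pi.add_apply, Nat.testBit_xor]
    cases x.testBit i <;> cases y.testBit i <;> decide
  have φ_inj : ∀ x y, x < 2 ^ n → y < 2 ^ n → φ x = φ y → x = y := by
    intro x y hx hy h
    have h' := B.injective h
    refine Nat.eq_of_testBit_eq fun i => ?_
    by_cases hi : i < n
    · have := congrFun h' ⟨i, hi⟩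
      cases hxi : x.testBit i <;> cases hyi : y.testBit i <;> simp [hxi, hyi] at this ⊢
    · have hpow : (2 : Nat) ^ n ≤ 2 ^ i := Nat.pow_le_pow_right (by norm_num) (Nat.le_of_not_lt hi)
      rw [Nat.testBit_eq_false_of_lt (by omega), Nat.testBit_eq_false_of_lt (by omega)]
  have hbij : Function.Bijective fun x : Fin (2 ^ n) => φ x := by
    refine (Nat.bijective_iff_injective_and_card _).mpr
      ⟨fun a b h => Fin.ext (φ_inj _ _ a.2 b.2 h), ?_⟩
    rw [Nat.card_fin, ← Nat.card_congr B.toEquiv, Nat.card_fun, Nat.card_zmod, Nat.card_fin]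
  let eq := Equiv.ofBijective _ hbij
  let ψ : X → Nat := fun v => (eq.symm v : Fin (2 ^ n))
  have φψ : ∀ v, φ (ψ v) = v := fun v => eq.apply_symm_apply v
  have ψφ : ∀ x, x < 2 ^ n → ψ (φ x) = x := fun x hx =>
    φ_inj _ _ (eq.symm (φ x)).2 hx (φψ _)
  have ψ_lt : ∀ v, ψ v < 2 ^ n := fun v => (eq.symm v).2
  let C : X → Option U := fun v => if col L (ψ v) = 0 then none
    else some (e.symm (Multiplicative.ofAdd ((col L (ψ v) - 1 : Nat) : ZMod m)))
  refine ⟨C, fun g hg => ?_⟩
  have hσ : ∀ a b, T.σ g a = T.σ g b → a = b := fun a b h => by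
    rw [← T.σ_one a, ← T.σ_one b, ← inv_mul_cancel g, T.σ_mul, T.σ_mul, h]
  let S : Nat → Nat := fun x => ψ (T.σ g (φ x))
  let z : Nat → U := fun x => T.z g (φ x)
  let Z : Nat → Nat := fun x => (Lg (z x)).val
  let D : Nat → Nat → ZMod m := fun x y => Lg (z (x ^^^ y)) - Lg (z x) - Lg (z y)
  let β : Nat → Nat → Nat := fun x y => if D x y = 0 then 0 else 1
  have hq : ∀ x y w, D x (y ^^^ w) = D x y + D x w := by
    intro x y w
    have q := congrArg Lg (T.quad g (φ x) (φ y) (φ w))
    simp only [← φ_add, Lg_mul] at q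
    have q' : Lg (z (x ^^^ y ^^^ w)) + Lg (z x) + Lg (z y) + Lg (z w) =
        Lg (z (x ^^^ y)) + Lg (z (x ^^^ w)) + Lg (z (y ^^^ w)) := q
    simp only [D, ← Nat.xor_assoc]
    linear_combination q'
  have hD0 : ∀ x, D x 0 = 0 := by
    intro x
    simp only [D, Nat.xor_zero]
    rw [show z 0 = 1 by simp [z, φ_zero, T.z_zero], Lg_one]
    ring
  have hD2 : ∀ x y, D x y = 0 ∨ D x y = ((m / 2 : Nat) : ZMod m) := by
    intro x y
    have h := hq x y y
    rw [Nat.xor_self, hD0] at h
    have h' := congrArg ZMod.val h.symm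
    rw [ZMod.val_add, ZMod.val_zero] at h'
    rcases halves m hm ⟨(D x y).val, ZMod.val_lt _⟩ h' with h2 | h2
    · left
      exact (ZMod.val_eq_zero _).mp h2
    · right
      rw [← ZMod.natCast_zmod_val (D x y)]
      exact congrArg Nat.cast h2
  have hh : ((m / 2 : Nat) : ZMod m) ≠ 0 ∧ ((m / 2 : Nat) : ZMod m) + ((m / 2 : Nat) : ZMod m) = 0 := by
    rcases hm with rfl | rfl <;> decide
  have hDβ : ∀ x y, D x y = ((m / 2 * β x y : Nat) : ZMod m) := by
    intro x y
    simp only [β]
    rcases hD2 x y with h | h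
    · rw [if_pos h, h, Nat.mul_zero, Nat.cast_zero]
    · rw [if_neg (by rw [h]; exact hh.1), h, Nat.mul_one]
  let sol : Sol n m L :=
    { S := S
      Z := Z
      β := β
      S_zero := by simp only [S, φ_zero, map_zero]; rw [← φ_zero, ψφ 0 (Nat.two_pow_pos n)]
      Z_zero := by simp [Z, z, φ_zero, T.z_zero, Lg_one]
      S_lt := fun x _ => ψ_lt _
      Z_lt := fun x _ => ZMod.val_lt _
      S_inj := fun x y hx hy h => φ_inj x y hx hy (hσ _ _ (by rw [← φψ (T.σ g (φ x)), ← φψ (T.σ g (φ y))]; exact congrArg φ h))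
      S_add := fun x y hx hy => φ_inj _ _ (ψ_lt _) (Nat.xor_lt_two_pow (ψ_lt _) (ψ_lt _)) (by
        simp only [S]
        rw [φψ, φ_add, φ_add, φψ, φψ, map_add])
      Z_add := fun x y _ _ => by
        simp only [Z]
        have h : Lg (z (x ^^^ y)) =
            ((((Lg (z x)).val + (Lg (z y)).val + m / 2 * β x y : Nat)) : ZMod m) := by
          rw [Nat.cast_add, Nat.cast_add, ← hDβ, ZMod.natCast_zmod_val, ZMod.natCast_zmod_val]
          simp only [D]
          ring
        rw [h, ZMod.val_natCast]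
      β_zero := fun x _ => if_pos (hD0 x)
      β_lt := fun x y => by simp only [β]; split_ifs <;> omega
      β_add := fun x y w _ _ _ => by
        simp only [β]
        have h := hq x y w
        rcases hD2 x y with a | a <;> rcases hD2 x w with b | b <;> rw [a, b] at h <;>
          simp [a, b, h, hh.1, hh.2]
      comp := fun x hx => by
        have h := hg (φ x)
        simp only [C, ψφ x hx] at h
        unfold compat
        change (cond (Nat.beq (col L x) 0) (Nat.beq (col L (S x)) 0)
          (Nat.beq (col L (S x)) ((col L x - 1 + Z x) % m + 1))) = true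
        by_cases h0 : col L x = 0
        · rw [show Nat.beq (col L x) 0 = true from Nat.beq_eq.mpr h0, cond_true, Nat.beq_eq]
          rw [if_pos h0] at h
          by_contra hne
          simp only [S] at hne
          rw [if_neg hne] at h
          simp at h
        · rw [show Nat.beq (col L x) 0 = false from Bool.eq_false_iff.mpr fun e => h0 (Nat.beq_eq.mp e),
            cond_false, Nat.beq_eq]
          rw [if_neg h0] at h
          by_cases h1 : col L (S x) = 0
          · simp only [S] at h1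
            rw [if_pos h1] at h
            simp at h
          · simp only [S] at h1
            rw [if_neg h1, Option.map_some, Option.some_inj] at h
            have h' := congrArg Lg h
            rw [Lg_mul] at h'
            simp only [Lg, MulEquiv.apply_symm_apply, toAdd_ofAdd] at h'
            have h2 : ((col L (S x) - 1 : Nat) : ZMod m) = ((col L x - 1 + Z x : Nat) : ZMod m) := by
              rw [Nat.cast_add, ZMod.natCast_zmod_val]
              simp only [S]
              rw [h', add_comm]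
            rw [ZMod.natCast_eq_natCast_iff'] at h2
            have hle : col L (S x) - 1 < m := hcol _ (ψ_lt _)
            rw [Nat.mod_eq_of_lt hle] at h2
            simp only [S] at h2 h1 ⊢
            omega }
  intro v
  obtain ⟨h1, h2⟩ := sound hn sol hs (ψ v) (ψ_lt v)
  refine ⟨?_, Lg_inj ?_⟩
  · have := congrArg φ h1
    simp only [sol, S] at this
    rwa [φψ, φψ] at this
  · rw [Lg_one, ← ZMod.val_eq_zero]
    simp only [sol, Z, z] at h2
    rwa [φψ] at h2

/-- The base colourings as a packed number. -/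
def pack (l : List Nat) : Nat := l.foldr (fun v acc => v + 8 * acc) 0

/-- Four dimensions, four scalars. -/
theorem separated_4_4 {p : Nat} {U X Γ : Type*} [CommGroup U] {ε : U} [Group Γ] [AddCommGroup X]
    [Module (ZMod 2) X] [Finite X] (hS : Scalars p 2 U ε) (T : Twist 2 ε Γ X) (hU : Nat.card U = 4)
    (hdim : Module.finrank (ZMod 2) X = 4) : T.Separated :=
  separated_of_search T hS.cyclic (L := pack [1, 1, 2, 3, 1, 2, 1, 3, 4, 3, 0, 2, 1, 3, 1, 0])
    (by norm_num) (Or.inr rfl) hU hdim (by decide +kernel) (by decide +kernel)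

/-- Five dimensions, two scalars. -/
theorem separated_5_2 {p : Nat} {U X Γ : Type*} [CommGroup U] {ε : U} [Group Γ] [AddCommGroup X]
    [Module (ZMod 2) X] [Finite X] (hS : Scalars p 2 U ε) (T : Twist 2 ε Γ X) (hU : Nat.card U = 2)
    (hdim : Module.finrank (ZMod 2) X = 5) : T.Separated :=
  separated_of_search T hS.cyclic (L := pack [1, 0, 0, 0, 0, 1, 2, 1, 0, 1, 2, 1, 1, 2, 1, 2, 0, 2, 1, 1, 1, 1, 2, 1, 2, 1, 2, 1, 1, 2, 2, 2])
    (by norm_num) (Or.inl rfl) hU hdim (by decide +kernel) (by decide +kernel)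

/-- Five dimensions, four scalars. -/
theorem separated_5_4 {p : Nat} {U X Γ : Type*} [CommGroup U] {ε : U} [Group Γ] [AddCommGroup X]
    [Module (ZMod 2) X] [Finite X] (hS : Scalars p 2 U ε) (T : Twist 2 ε Γ X) (hU : Nat.card U = 4)
    (hdim : Module.finrank (ZMod 2) X = 5) : T.Separated :=
  separated_of_search T hS.cyclic (L := pack [1, 0, 0, 3, 0, 2, 3, 3, 0, 2, 1, 1, 1, 4, 2, 4, 0, 4, 1, 2, 1, 2, 2, 1, 3, 3, 4, 3, 1, 4, 2, 4])
    (by norm_num) (Or.inr rfl) hU hdim (by decide +kernel) (by decide +kernel)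

/-- Six dimensions, two scalars. -/
theorem separated_6_2 {p : Nat} {U X Γ : Type*} [CommGroup U] {ε : U} [Group Γ] [AddCommGroup X]
    [Module (ZMod 2) X] [Finite X] (hS : Scalars p 2 U ε) (T : Twist 2 ε Γ X) (hU : Nat.card U = 2)
    (hdim : Module.finrank (ZMod 2) X = 6) : T.Separated :=
  separated_of_search T hS.cyclic (L := pack [1, 0, 0, 0, 0, 0, 1, 1, 0, 2, 2, 1, 2, 1, 2, 2, 0, 2, 1, 1, 1, 2, 1, 2, 1, 2, 2, 2, 2, 2, 2, 2, 0, 1, 2, 2, 1, 2, 2, 2, 2, 1, 1, 2, 1, 2, 1, 2, 2, 2, 2, 1, 1, 1, 2, 1, 1, 1, 1, 1, 2, 2, 2, 2])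
    (by norm_num) (Or.inl rfl) hU hdim (by decide +kernel) (by decide +kernel)

/-- Six dimensions, four scalars. -/
theorem separated_6_4 {p : Nat} {U X Γ : Type*} [CommGroup U] {ε : U} [Group Γ] [AddCommGroup X]
    [Module (ZMod 2) X] [Finite X] (hS : Scalars p 2 U ε) (T : Twist 2 ε Γ X) (hU : Nat.card U = 4)
    (hdim : Module.finrank (ZMod 2) X = 6) : T.Separated :=
  separated_of_search T hS.cyclic (L := pack [1, 0, 0, 3, 0, 3, 1, 2, 0, 2, 1, 4, 2, 2, 1, 2, 0, 1, 4, 1, 1, 4, 1, 4, 1, 4, 2, 1, 2, 3, 2, 4, 0, 3, 4, 3, 2, 4, 2, 3, 1, 4, 3, 1, 3, 3, 3, 1, 4, 1, 2, 3, 1, 1, 3, 4, 4, 3, 2, 2, 2, 1, 1, 4])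
    (by norm_num) (Or.inr rfl) hU hdim (by decide +kernel) (by decide +kernel)

end Cfsg.Agent.TwoVecCombo11
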