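import Mathlib
import Cfsg.Agent.Lib.ThreeVec75Combo
import Cfsg.Agent.Lib.ThreeVec75Colour

/-!
Separation of twisted actions when there are at least two classes of scalars modulo phases, or the
prime `r` is odd.
-/

set_option autoImplicit false

namespace Cfsg.Agent.TwoVecCombo13

open Cfsg.Agent.ThreeVec75

universe u v w

section quad

variable {U : Type u} [CommGroup U] {X : Type w} [AddCommGroup X]

/-- The cubic identity. -/
def Quad (f : X → U) : Prop :=
  ∀ a b c, f (a + b + c) * f a * f b * f c = f (a + b) * f (a + c) * f (b + c)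

theorem quad_six {f : X → U} (h : Quad f) (a b c : X) (ha : f a = 1) (hb : f b = 1) (hc : f c = 1)
    (hab : f (a + b) = 1) (hac : f (a + c) = 1) (hbc : f (b + c) = 1) : f (a + b + c) = 1 := by
  have := h a b c
  rw [ha, hb, hc, hab, hac, hbc] at this
  simpa using this

/-- A quadratic function trivial outside fewer than a quarter of the points is trivial. -/
theorem quad_count [Finite X] {f : X → U} (h : Quad f) (R : Finset X)
    (hR : 4 * R.card < Nat.card X) (hf : ∀ x ∉ R, f x = 1) : ∀ y, f y = 1 := by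
  classical
  haveI := Fintype.ofFinite X
  rw [Nat.card_eq_fintype_card] at hR
  intro y
  obtain ⟨a, ha⟩ : ∃ a, a ∉ R ∪ R.image (y - ·) := by
    by_contra hcon
    push_neg at hcon
    have := Finset.card_le_card (show Finset.univ ⊆ R ∪ R.image (y - ·) from fun x _ => hcon x)
    have := Finset.card_union_le R (R.image (y - ·))
    have := Finset.card_image_le (s := R) (f := (y - ·))
    rw [Finset.card_univ] at *
    omega
  obtain ⟨b, hb⟩ : ∃ b, b ∉ R ∪ R.image (y - ·) ∪ (R.image (· - a) ∪ R.image (y - a - ·)) := by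
    by_contra hcon
    push_neg at hcon
    have := Finset.card_le_card (show Finset.univ ⊆
      R ∪ R.image (y - ·) ∪ (R.image (· - a) ∪ R.image (y - a - ·)) from fun x _ => hcon x)
    have := Finset.card_union_le (R ∪ R.image (y - ·)) (R.image (· - a) ∪ R.image (y - a - ·))
    have := Finset.card_union_le R (R.image (y - ·))
    have := Finset.card_union_le (R.image (· - a)) (R.image (y - a - ·))
    have := Finset.card_image_le (s := R) (f := (y - ·))
    have := Finset.card_image_le (s := R) (f := (· - a))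
    have := Finset.card_image_le (s := R) (f := (y - a - ·))
    rw [Finset.card_univ] at *
    omega
  simp only [Finset.mem_union, Finset.mem_image, not_or, not_exists, not_and] at ha hb
  have e := quad_six h a b (y - a - b) (hf a ha.1) (hf b hb.1.1)
    (hf _ fun m => hb.2.2 _ m (by abel)) (hf _ fun m => hb.2.1 _ m (by abel))
    (hf _ fun m => hb.1.2 _ m (by abel)) (hf _ fun m => ha.2 _ m (by abel))
  rwa [show a + b + (y - a - b) = y by abel] at e

end quad

section basis

variable {r : ℕ} [Fact r.Prime] {X : Type w} [AddCommGroup X] [Module (ZMod r) X] {m : ℕ}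
  (b : Module.Basis (Fin m) (ZMod r) X)

theorem range_iff (x : X) : x ∈ Set.range b ↔ ∃ i, x = ∑ j ∈ ({i} : Finset (Fin m)), b j := by
  simp [eq_comm]

/-- A sum of at least two basis vectors is not a basis vector. -/
theorem sum_notMem (s : Finset (Fin m)) (hs : s.card ≠ 1) : (∑ j ∈ s, b j) ∉ Set.range b := by
  rw [range_iff]
  rintro ⟨i, hi⟩
  exact hs (by rw [sum_inj b hi, Finset.card_singleton])

theorem two_ne (hr : r ≠ 2) : (2 : ZMod r) ≠ 0 ∧ (2 : ZMod r) ≠ 1 := by
  refine ⟨fun h => ?_, fun h => one_ne_zero (show (1 : ZMod r) = 0 by linear_combination h)⟩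
  have : ((2 : ℕ) : ZMod r) = 0 := by exact_mod_cast h
  rw [ZMod.natCast_eq_zero_iff] at this
  exact hr ((Nat.prime_dvd_prime_iff_eq Fact.out Nat.prime_two).1 this)

/-- A basis vector is no sum of two nonempty sums. -/
theorem not_split (hr : r ≠ 2) (i : Fin m) (s t : Finset (Fin m)) (hs : s.Nonempty) (ht : t.Nonempty) :
    b i ≠ (∑ j ∈ s, b j) + ∑ j ∈ t, b j := by
  classical
  intro h
  obtain ⟨h20, h21⟩ := two_ne (r := r) hr
  have key : ∀ j, (if j = i then (1 : ZMod r) else 0) =
      (if j ∈ s then (1 : ZMod r) else 0) + (if j ∈ t then 1 else 0) := by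
    intro j
    have e := congrArg (fun x => b.repr x j) h
    simp only [map_add, Finsupp.add_apply, sum_repr, Module.Basis.repr_self,
      Finsupp.single_apply] at e
    simpa [eq_comm] using e
  have hin : ∀ j, j ∈ s ∨ j ∈ t → j = i := by
    intro j hj
    by_contra hne
    have e := key j
    rw [if_neg hne] at e
    by_cases h1 : j ∈ s <;> by_cases h2 : j ∈ t <;> simp [h1, h2] at e hj
    rw [one_add_one_eq_two] at e
    exact h20 e.symm
  obtain ⟨x, hx⟩ := hs
  obtain ⟨y, hy⟩ := ht
  have e := key i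
  rw [if_pos rfl, if_pos (hin x (Or.inl hx) ▸ hx), if_pos (hin y (Or.inr hy) ▸ hy),
    one_add_one_eq_two] at e
  exact h21 e.symm

/-- The set of sums over a family containing the singletons. -/
def sums (S : Set (Finset (Fin m))) : Set X :=
  {x | ∃ s : Finset (Fin m), (s.card = 1 ∨ s ∈ S) ∧ x = ∑ j ∈ s, b j}

/-- A map preserving the sums over a family whose members split permutes the basis. -/
theorem perm_of_sums [Finite X] (hr : r ≠ 2) (S : Set (Finset (Fin m)))
    (hS : ∀ s ∈ S, 2 ≤ s.card ∧ ∃ y ∈ sums b S, ∃ z ∈ sums b S, (∑ j ∈ s, b j) = y + z)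
    (g : X →+ X) (hgi : Function.Injective g) (hR : ∀ x, g x ∈ sums b S ↔ x ∈ sums b S) :
    ∃ π : Fin m → Fin m, Function.Injective π ∧ ∀ i, g (b i) = b (π i) := by
  classical
  have hsur : Function.Surjective g := Finite.surjective_of_injective hgi
  have hne : ∀ x ∈ sums b S, ∃ s : Finset (Fin m), s.Nonempty ∧ x = ∑ j ∈ s, b j := by
    rintro x ⟨s, hs, rfl⟩
    refine ⟨s, Finset.card_pos.1 ?_, rfl⟩
    rcases hs with hs | hs
    · omega
    · have := (hS s hs).1; omega
  have hb : ∀ i, ∃ j, g (b i) = b j := by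
    intro i
    obtain ⟨s, hs, e⟩ := (hR (b i)).2 ⟨{i}, Or.inl (Finset.card_singleton i), by simp⟩
    rcases hs with hs | hs
    · obtain ⟨j, rfl⟩ := Finset.card_eq_one.1 hs
      exact ⟨j, by simpa using e⟩
    · exfalso
      obtain ⟨-, y, hy, z, hz, hyz⟩ := hS s hs
      obtain ⟨y', rfl⟩ := hsur y
      obtain ⟨z', rfl⟩ := hsur z
      obtain ⟨s1, h1, e1⟩ := hne y' ((hR _).1 hy)
      obtain ⟨s2, h2, e2⟩ := hne z' ((hR _).1 hz)
      have : b i = y' + z' := hgi (by rw [e, hyz, map_add])
      exact not_split b hr i s1 s2 h1 h2 (by rw [this, e1, e2])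
  choose π hπ using hb
  exact ⟨π, fun i j h => b.injective (hgi (by rw [hπ, hπ, h])), hπ⟩

theorem g_sum {g : X →+ X} {π : Fin m → Fin m} (hπi : Function.Injective π)
    (hπ : ∀ i, g (b i) = b (π i)) (s : Finset (Fin m)) :
    g (∑ j ∈ s, b j) = ∑ j ∈ s.image π, b j := by
  rw [map_sum, Finset.sum_image (fun _ _ _ _ h => hπi h)]
  exact Finset.sum_congr rfl fun j _ => hπ j

/-- The sums along `fam` together with the basis are rigid. -/
theorem fam_sums_rigid [Finite X] (hr : r ≠ 2) (hm : 4 ≤ m) (g : X →+ X)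
    (hgi : Function.Injective g) (hR : ∀ x, g x ∈ sums b (fam m) ↔ x ∈ sums b (fam m)) :
    ∀ x, g x = x := by
  classical
  have two : ∀ s ∈ fam m, 2 ≤ s.card := by
    rintro s (⟨k, hk, hkm, rfl⟩ | rfl)
    · rw [card_init hkm]; exact hk
    · refine Finset.one_lt_card.2 ⟨⟨1, by omega⟩, by simp, ⟨3, by omega⟩, by simp, by simp⟩
  obtain ⟨π, hπi, hπ⟩ := perm_of_sums b hr (fam m) (fun s hs => ⟨two s hs, by
    rcases hs with ⟨k, hk, hkm, rfl⟩ | rfl
    · refine ⟨∑ j ∈ Finset.univ.filter (fun i : Fin m => (i : ℕ) < k - 1), b j, ?_,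
        b ⟨k - 1, by omega⟩, ⟨{⟨k - 1, by omega⟩}, Or.inl (Finset.card_singleton _), by simp⟩, ?_⟩
      · rcases eq_or_lt_of_le hk with h2 | h3
        · refine ⟨_, Or.inl ?_, rfl⟩
          rw [card_init (by omega)]; omega
        · exact ⟨_, Or.inr (Or.inl ⟨k - 1, by omega, by omega, rfl⟩), rfl⟩
      · rw [add_comm, ← Finset.sum_insert (by simp)]
        refine Finset.sum_congr ?_ fun _ _ => rfl
        ext i; simp [Fin.ext_iff]; omega
    · refine ⟨b ⟨1, by omega⟩, ⟨{⟨1, by omega⟩}, Or.inl (Finset.card_singleton _), by simp⟩,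
        b ⟨3, by omega⟩, ⟨{⟨3, by omega⟩}, Or.inl (Finset.card_singleton _), by simp⟩, ?_⟩
      rw [← Finset.sum_pair (show (⟨1, by omega⟩ : Fin m) ≠ ⟨3, by omega⟩ by simp)]
      refine Finset.sum_congr ?_ fun _ _ => rfl
      ext i; simp [Fin.ext_iff]⟩) g hgi hR
  have hfam : ∀ s ∈ fam m, s.image π ∈ fam m := by
    intro s hs
    obtain ⟨t, ht, e⟩ := (hR _).2 ⟨s, Or.inr hs, rfl⟩
    rw [g_sum b hπi hπ] at e
    rcases ht with ht | ht
    · rw [← sum_inj b e, Finset.card_image_of_injective _ hπi] at ht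
      have := two s hs
      omega
    · rwa [sum_inj b e]
  have hid := fam_rigid hm π hπi hfam
  exact eq_id b g fun i => by rw [hπ, hid]

/-- For two or three basis vectors a map preserving basis and one sum is an involution. -/
theorem small_sums_invol [Finite X] (hr : r ≠ 2) (hm2 : 2 ≤ m) (hm : m ≤ 3)
    (S : Set (Finset (Fin m))) (hS : ∀ s, s ∈ S ↔ m = 3 ∧ s = {⟨0, by omega⟩, ⟨1, by omega⟩})
    (g : X →+ X) (hgi : Function.Injective g) (hR : ∀ x, g x ∈ sums b S ↔ x ∈ sums b S) :
    ∀ x, g (g x) = x := by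
  classical
  obtain ⟨π, hπi, hπ⟩ := perm_of_sums b hr S (fun s hs => by
    obtain ⟨-, rfl⟩ := (hS s).1 hs
    refine ⟨(Finset.card_pair (by simp)).ge, b ⟨0, by omega⟩,
      ⟨{⟨0, by omega⟩}, Or.inl (Finset.card_singleton _), by simp⟩, b ⟨1, by omega⟩,
      ⟨{⟨1, by omega⟩}, Or.inl (Finset.card_singleton _), by simp⟩,
      Finset.sum_pair (by simp)⟩) g hgi hR
  have hinv : ∀ i, π (π i) = i := by
    rcases (show m = 2 ∨ m = 3 by omega) with rfl | rfl
    · have : ∀ p : Fin 2 → Fin 2, Function.Injective p → ∀ i, p (p i) = i := by decide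
      exact this π hπi
    · obtain ⟨t, ht, e⟩ := (hR _).2 ⟨{0, 1}, Or.inr ((hS _).2 ⟨rfl, rfl⟩), rfl⟩
      rw [g_sum b hπi hπ] at e
      have e' := sum_inj b e
      rcases ht with ht | ht
      · rw [← e', Finset.card_image_of_injective _ hπi] at ht
        simp at ht
      · obtain ⟨-, rfl⟩ := (hS t).1 ht
        have : ∀ p : Fin 3 → Fin 3, Function.Injective p →
            ({0, 1} : Finset (Fin 3)).image p = {0, 1} → ∀ i, p (p i) = i := by decide
        exact this π hπi e'
  intro x
  exact eq_id b (g.comp g) (fun i => by simp [hπ, hinv]) x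

/-- One marked combination of two basis vectors makes a basis of two or three vectors rigid. -/
theorem mark_rigid (hr : r ≠ 2) (hm2 : 2 ≤ m) (hm : m ≤ 3) (g : X →+ X)
    (hgi : Function.Injective g) (hb : ∀ x, g x ∈ Set.range b ↔ x ∈ Set.range b)
    (hu : g (b ⟨0, by omega⟩ + (2 : ZMod r) • b ⟨1, by omega⟩) =
      b ⟨0, by omega⟩ + (2 : ZMod r) • b ⟨1, by omega⟩) : ∀ x, g x = x := by
  classical
  obtain ⟨h20, h21⟩ := two_ne (r := r) hr
  choose π hπ using fun i => (hb (b i)).2 ⟨i, rfl⟩
  have hπi : Function.Injective π := fun i j h => b.injective (hgi (by rw [← hπ, ← hπ, h]))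
  set i0 : Fin m := ⟨0, by omega⟩
  set i1 : Fin m := ⟨1, by omega⟩
  have h01 : i0 ≠ i1 := by simp [i0, i1]
  rw [map_add, ZMod.map_smul, ← hπ, ← hπ] at hu
  have hne : π i0 ≠ π i1 := fun h => h01 (hπi h)
  have hp0 : π i0 = i0 := by
    have e := congrArg (fun x => b.repr x (π i0)) hu
    simp [Finsupp.single_apply, hne.symm] at e
    by_contra hcon
    simp [hcon, Ne.symm hcon] at e
    by_cases h : π i0 = i1
    · simp [h] at e; exact h21 e.symm
    · simp [h, Ne.symm h] at e
  have hp1 : π i1 = i1 := by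
    have e := congrArg (fun x => b.repr x (π i1)) hu
    simp [Finsupp.single_apply, hne] at e
    by_contra hcon
    simp [hcon, Ne.symm hcon] at e
    by_cases h : π i1 = i0
    · exact hne (by rw [hp0, h])
    · simp [h, Ne.symm h] at e; exact h20 e
  refine eq_id b g fun i => ?_
  rw [← hπ i]
  congr 1
  by_cases h0 : i = i0
  · rw [h0, hp0]
  by_cases h1 : i = i1
  · rw [h1, hp1]
  have q0 : π i ≠ i0 := fun h => h0 (hπi (h.trans hp0.symm))
  have q1 : π i ≠ i1 := fun h => h1 (hπi (h.trans hp1.symm))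
  simp [i0, i1, Fin.ext_iff] at q0 q1 h0 h1
  apply Fin.ext
  omega

end basis

theorem sq_three : ∀ t : ZMod 3, t ≠ 0 → t * t = 1 := by decide

section twist

variable {r : ℕ} {U : Type u} [CommGroup U] {ε : U} {Γ : Type v} [Group Γ] {X : Type w}
  [AddCommGroup X] (T : Twist r ε Γ X)

theorem σ_inj (g : Γ) : Function.Injective (T.σ g) :=
  Function.LeftInverse.injective (g := T.σ g⁻¹) fun x => by
    rw [← T.σ_mul, inv_mul_cancel, T.σ_one]

/-- The stabiliser condition. -/
def Fix (C : X → Option U) (g : Γ) : Prop := ∀ x, C (T.σ g x) = (C x).map (T.z g x * ·)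

theorem labels (Z : Subgroup U) (hz : ∀ g x, T.z g x ∈ Z) (c : X → Fin 3) (v : Fin 3 → Option U)
    (hv : ∀ i j, ∀ ζ ∈ Z, v j = (v i).map (ζ * ·) → i = j) {g : Γ}
    (h : Fix T (fun x => v (c x)) g) (x : X) : c (T.σ g x) = c x :=
  (hv _ _ _ (hz g x) (h x)).symm

theorem z_some {C : X → Option U} {g : Γ} (h : Fix T C g) (hid : ∀ x, T.σ g x = x) {x : X} {s : U}
    (hs : C x = some s) : T.z g x = 1 := by
  have e := h x
  rw [hid, hs, Option.map_some, Option.some.injEq] at e
  exact mul_eq_right.1 e.symm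

/-- An odd group has no element acting as an involution. -/
theorem invol_trivial [Finite Γ] (hodd : Odd (Nat.card Γ)) (g : Γ)
    (h : ∀ x, T.σ g (T.σ g x) = x) : ∀ x, T.σ g x = x := by
  obtain ⟨k, hk⟩ := hodd
  have hpow : ∀ n x, T.σ (g ^ (2 * n)) x = x := by
    intro n
    induction n with
    | zero => intro x; simp [T.σ_one]
    | succ n ih =>
      intro x
      rw [show 2 * (n + 1) = 2 * n + 1 + 1 by omega, pow_succ, pow_succ, T.σ_mul, T.σ_mul, h, ih]
  intro x
  have e : g = g ^ (2 * (k + 1)) := by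
    rw [show 2 * (k + 1) = Nat.card Γ + 1 by omega, pow_succ, pow_card_eq_one', one_mul]
  rw [e]
  exact hpow _ x

variable [Finite U] [Finite X] [Fact r.Prime] [Module (ZMod r) X]

/-- Three classes. -/
theorem separated_three [Group.IsSolvable Γ] (Z : Subgroup U) (hz : ∀ g x, T.z g x ∈ Z)
    (hK : 3 ≤ Nat.card (U ⧸ Z)) : T.Separated := by
  classical
  haveI := Fintype.ofFinite (U ⧸ Z)
  obtain ⟨e⟩ : Nonempty (Fin 3 ↪ U ⧸ Z) :=
    Function.Embedding.nonempty_of_card_le (by simpa [← Nat.card_eq_fintype_card, Nat.card_fin] using hK)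
  let s : Fin 3 → U := fun i => (e i).out
  letI : DistribMulAction Γ X :=
    { smul := fun g x => T.σ g x
      one_smul := T.σ_one
      mul_smul := T.σ_mul
      smul_zero := fun g => map_zero (T.σ g)
      smul_add := fun g => map_add (T.σ g) }
  obtain ⟨c, -, -, hc⟩ := exists_lab (r := r) (X := X) (K := Γ)
  let C : X → Option U := fun x => some (s (c x))
  refine ⟨C, fun g hg => ?_⟩
  replace hg : Fix T C g := hg
  have hcc : ∀ x, c (T.σ g x) = c x := labels T Z hz c (fun i => some (s i)) (fun i j ζ hζ he => by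
    simp only [Option.map_some, Option.some.injEq] at he
    apply e.injective
    have hm : (QuotientGroup.mk (s j) : U ⧸ Z) = QuotientGroup.mk (s i) := by
      rw [he, QuotientGroup.mk_mul, (QuotientGroup.eq_one_iff ζ).2 hζ, one_mul]
    simpa [s] using hm.symm) hg
  have hid : ∀ x, T.σ g x = x := hc g hcc
  exact fun x => ⟨hid x, z_some T hg hid rfl⟩

omit [Finite U] in
theorem value_cases (Z : Subgroup U) {ω : U} (hω : ω ∉ Z) :
    ∀ i j, ∀ ζ ∈ Z, (![some 1, none, some ω] : Fin 3 → Option U) j =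
      ((![some 1, none, some ω] : Fin 3 → Option U) i).map (ζ * ·) → i = j := by
  intro i j ζ hζ h
  fin_cases i <;> fin_cases j <;> simp at h ⊢
  · exact hω (h ▸ hζ)
  · exact hω (by rw [show ω = ζ⁻¹ from eq_inv_of_mul_eq_one_right h.symm]; exact Z.inv_mem hζ)

/-- Two classes, at least four basis vectors. -/
theorem separated_two_large (Z : Subgroup U) (hz : ∀ g x, T.z g x ∈ Z) {ω : U} (hω : ω ∉ Z)
    (hm : 4 ≤ Module.finrank (ZMod r) X) : T.Separated := by
  classical
  set m := Module.finrank (ZMod r) X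
  let b : Module.Basis (Fin m) (ZMod r) X := Module.finBasis (ZMod r) X
  let C : X → Option U := fun x => (![some 1, none, some ω] : Fin 3 → Option U) (famLab b x)
  refine ⟨C, fun g hg => ?_⟩
  replace hg : Fix T C g := hg
  have hid := famLab_rigid b hm (T.σ g) (σ_inj T g)
    (labels T Z hz (famLab b) _ (value_cases Z hω) hg)
  have hoff : ∀ x, x ∉ Set.range b → T.z g x = 1 := by
    intro x hx
    by_cases h : ∃ s ∈ fam m, x = ∑ j ∈ s, b j
    · exact z_some T hg hid (s := ω) (by simp only [C, famLab, if_neg hx, if_pos h]; rfl)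
    · exact z_some T hg hid (s := 1) (by simp only [C, famLab, if_neg hx, if_neg h]; rfl)
  refine fun y => ⟨hid y, ?_⟩
  by_cases hy : y ∈ Set.range b
  swap
  · exact hoff y hy
  obtain ⟨i, rfl⟩ := hy
  obtain ⟨j, k, l, hji, hki, hli, hjk, hjl, hkl⟩ : ∃ j k l : Fin m,
      j ≠ i ∧ k ≠ i ∧ l ≠ i ∧ j ≠ k ∧ j ≠ l ∧ k ≠ l := by
    have h : 3 ≤ (Finset.univ.erase i).card := by
      rw [Finset.card_erase_of_mem (Finset.mem_univ _), Finset.card_univ, Fintype.card_fin]; omega
    obtain ⟨j, k, l, hj, hk, hl, hne⟩ := Finset.two_lt_card_iff.1 h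
    exact ⟨j, k, l, Finset.ne_of_mem_erase hj, Finset.ne_of_mem_erase hk, Finset.ne_of_mem_erase hl,
      hne⟩
  have coef : ∀ x : X, ∀ i1 i2 : Fin m, i1 ≠ i2 → b.repr x i1 ≠ 0 → b.repr x i2 ≠ 0 →
      x ∉ Set.range b := by
    rintro x i1 i2 hne h1 h2 ⟨n, rfl⟩
    simp [Finsupp.single_apply] at h1 h2
    exact hne (h1 ▸ h2)
  have e := quad_six (f := T.z g) (T.quad g) (b i + b j + b k) (-b j + b l) (-b k - b l)
    (hoff _ (coef _ i j hji.symm (by simp [Finsupp.single_apply, hji, hki])
      (by simp [Finsupp.single_apply, hji.symm, hjk.symm])))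
    (hoff _ (coef _ j l hjl (by simp [Finsupp.single_apply, hjl.symm])
      (by simp [Finsupp.single_apply, hjl])))
    (hoff _ (coef _ k l hkl (by simp [Finsupp.single_apply, hkl.symm])
      (by simp [Finsupp.single_apply, hkl])))
    (hoff _ (coef _ i k hki.symm (by simp [Finsupp.single_apply, hji, hki, hli])
      (by simp [Finsupp.single_apply, hki.symm, hjk, hkl.symm])))
    (hoff _ (coef _ i j hji.symm (by simp [Finsupp.single_apply, hji, hki, hli])
      (by simp [Finsupp.single_apply, hji.symm, hjk.symm, hjl.symm])))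
    (hoff _ (coef _ j k hjk (by simp [Finsupp.single_apply, hjk.symm, hjl.symm])
      (by simp [Finsupp.single_apply, hjk, hkl.symm])))
  rwa [show b i + b j + b k + (-b j + b l) + (-b k - b l) = b i by abel] at e

/-- Two classes, two or three basis vectors, `r` odd. -/
theorem separated_two_mid (hr : r ≠ 2) (Z : Subgroup U) (hz : ∀ g x, T.z g x ∈ Z) {ω : U}
    (hω : ω ∉ Z) (hm2 : 2 ≤ Module.finrank (ZMod r) X) (hm : Module.finrank (ZMod r) X ≤ 3) :
    T.Separated := by
  classical
  have h3r : 3 ≤ r := by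
    have := (Fact.out : r.Prime).two_le
    omega
  set m := Module.finrank (ZMod r) X with hmd
  let b : Module.Basis (Fin m) (ZMod r) X := Module.finBasis (ZMod r) X
  set u := b ⟨0, by omega⟩ + (2 : ZMod r) • b ⟨1, by omega⟩ with hu
  let c : X → Fin 3 := fun x => if x ∈ Set.range b then 1 else if x = u then 2 else 0
  let C : X → Option U := fun x => (![some 1, none, some ω] : Fin 3 → Option U) (c x)
  refine ⟨C, fun g hg => ?_⟩
  replace hg : Fix T C g := hg
  have hcc := labels T Z hz c _ (value_cases Z hω) hg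
  have hb : ∀ x, T.σ g x ∈ Set.range b ↔ x ∈ Set.range b := fun x => by
    have e := hcc x
    simp only [c] at e
    split_ifs at e <;> simp_all
  have hun : u ∉ Set.range b := by
    rintro ⟨n, hn⟩
    obtain ⟨h20, -⟩ := two_ne (r := r) hr
    have e0 := congrArg (fun x => b.repr x ⟨0, by omega⟩) hn
    have e1 := congrArg (fun x => b.repr x ⟨1, by omega⟩) hn
    simp [u, Finsupp.single_apply] at e0 e1
    simp [e0] at e1
    exact h20 e1.symm
  have hgu : T.σ g u = u := by
    have e := hcc u
    simp only [c, if_neg hun, if_true] at e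
    split_ifs at e with h1 h2 <;> first | exact h2 | simp at e
  have hid := mark_rigid b hr hm2 hm (T.σ g) (σ_inj T g) hb (hu ▸ hgu)
  have hX : Nat.card X = r ^ m := by
    rw [Module.natCard_eq_pow_finrank (K := ZMod r), Nat.card_zmod]
  refine fun y => ⟨hid y, quad_count (T.quad g) (Finset.univ.image b) ?_ (fun x hx => ?_) y⟩
  · have := Finset.card_image_le (s := (Finset.univ : Finset (Fin m))) (f := b)
    rw [Finset.card_univ, Fintype.card_fin] at this
    have h3 : 3 ^ m ≤ r ^ m := Nat.pow_le_pow_left h3r m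
    rw [hX]
    generalize hM : r ^ m = M at h3 ⊢
    rcases (show m = 2 ∨ m = 3 by omega) with e | e <;> rw [e] at h3 <;> omega
  · have hx' : x ∉ Set.range b := by simpa using hx
    by_cases h : x = u
    · exact z_some T hg hid (s := ω) (by simp only [C, c, if_neg hx', if_pos h]; rfl)
    · exact z_some T hg hid (s := 1) (by simp only [C, c, if_neg hx', if_neg h]; rfl)

/-- At most one basis vector, two classes or `r = 2`. -/
theorem separated_line (Z : Subgroup U) (hz : ∀ g x, T.z g x ∈ Z) {ω : U} (hω : ω ∉ Z)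
    (hm : Module.finrank (ZMod r) X ≤ 1) : T.Separated := by
  classical
  set m := Module.finrank (ZMod r) X
  let b : Module.Basis (Fin m) (ZMod r) X := Module.finBasis (ZMod r) X
  let c : X → Fin 3 := fun x => if x ∈ Set.range b then 2 else 0
  let C : X → Option U := fun x => (![some 1, none, some ω] : Fin 3 → Option U) (c x)
  refine ⟨C, fun g hg => ?_⟩
  replace hg : Fix T C g := hg
  have hcc := labels T Z hz c _ (value_cases Z hω) hg
  have hid : ∀ x, T.σ g x = x := eq_id b (T.σ g) fun i => by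
    have e := hcc (b i)
    simp only [c, if_pos (Set.mem_range_self i)] at e
    split_ifs at e with h <;> first | exact absurd e (by decide) | skip
    obtain ⟨j, hj⟩ := h
    rw [← hj, show j = i from Fin.ext (by omega)]
  refine fun x => ⟨hid x, ?_⟩
  by_cases h : x ∈ Set.range b
  · exact z_some T hg hid (s := ω) (by simp only [C, c, if_pos h]; rfl)
  · exact z_some T hg hid (s := 1) (by simp only [C, c, if_neg h]; rfl)

/-- Two classes, two basis vectors, `r = 2`, order prime to three. -/
theorem separated_four [Finite Γ] (h2 : r = 2) (h3 : ¬ 3 ∣ Nat.card Γ) (Z : Subgroup U)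
    (hz : ∀ g x, T.z g x ∈ Z) {ω : U} (hω : ω ∉ Z) (hm : Module.finrank (ZMod r) X = 2) :
    T.Separated := by
  classical
  subst h2
  by_cases hall : ∀ g x, T.σ g x = x
  · exact ⟨fun _ => some 1, fun g hg x => ⟨hall g x, z_some T (C := fun _ => some 1) hg (hall g) rfl⟩⟩
  push_neg at hall
  obtain ⟨g0, x0, hx0⟩ := hall
  let c : X → Fin 3 := fun x => if x = x0 then 2 else 0
  let C : X → Option U := fun x => (![some 1, none, some ω] : Fin 3 → Option U) (c x)
  refine ⟨C, fun g hg => ?_⟩
  replace hg : Fix T C g := hg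
  have hcc := labels T Z hz c _ (value_cases Z hω) hg
  have hgx : T.σ g x0 = x0 := by
    have e := hcc x0
    simp only [c, if_true] at e
    split_ifs at e with h <;> first | exact h | simp at e
  haveI : Fintype X := Fintype.ofFinite X
  have hX : Fintype.card X = 4 := by
    rw [← Nat.card_eq_fintype_card, Module.natCard_eq_pow_finrank (K := ZMod 2), Nat.card_zmod, hm]
    norm_num
  let e : X ≃ Fin 4 := Fintype.equivFinOfCardEq hX
  let P : Γ →* Equiv.Perm (Fin 4) :=
    MonoidHom.mk' (fun g => e.permCongr (Equiv.ofBijective (T.σ g) ((Finite.injective_iff_bijective).1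
      (σ_inj T g)))) (fun a c => by
        ext x
        simp [Equiv.permCongr_apply, T.σ_mul])
  have hP : ∀ g x, P g (e x) = e (T.σ g x) := fun g x => by simp [P, Equiv.permCongr_apply]
  have small : ∀ (z x : Fin 4) (π τ : Equiv.Perm (Fin 4)), z ≠ x → π z = z → π x ≠ x → τ z = z →
      τ x = x → τ = 1 ∨ (π ^ 3 = 1 ∧ π ≠ 1) ∨ ((τ * π) ^ 3 = 1 ∧ τ * π ≠ 1) := by
    decide +kernel
  have no3 : ∀ a : Γ, P a ^ 3 = 1 → P a = 1 := by
    intro a ha
    haveI : Fact (Nat.Prime 3) := ⟨Nat.prime_three⟩
    by_contra hne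
    have := orderOf_eq_prime ha hne
    exact h3 (this ▸ (orderOf_map_dvd P a).trans (orderOf_dvd_natCard a))
  have hz0 : (0 : X) ≠ x0 := fun h => hx0 (by rw [← h, map_zero])
  have hone : P g = 1 := by
    rcases small (e 0) (e x0) (P g0) (P g) (e.injective.ne hz0) (by rw [hP, map_zero])
      (fun h => hx0 (e.injective (by rw [← hP, h]))) (by rw [hP, map_zero]) (by rw [hP, hgx])
      with h | ⟨h, hne⟩ | ⟨h, hne⟩
    · exact h
    · exact absurd (no3 g0 h) hne
    · exact absurd (no3 (g * g0) (by rw [map_mul]; exact h)) (by rw [map_mul]; exact hne)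
  have hid : ∀ x, T.σ g x = x := fun x => e.injective (by rw [← hP, hone]; rfl)
  refine fun x => ⟨hid x, ?_⟩
  by_cases h : x = x0
  · exact z_some T hg hid (s := ω) (by simp [C, c, h])
  · exact z_some T hg hid (s := 1) (by simp [C, c, h])

/-- One class, `r` odd. -/
theorem separated_one [Finite Γ] (hr : r ≠ 2) (hodd : Odd (Nat.card Γ)) : T.Separated := by
  classical
  have h3r : 3 ≤ r := by
    have := (Fact.out : r.Prime).two_le
    omega
  set m := Module.finrank (ZMod r) X with hmd
  let b : Module.Basis (Fin m) (ZMod r) X := Module.finBasis (ZMod r) X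
  have hX : Nat.card X = r ^ m := by
    rw [Module.natCard_eq_pow_finrank (K := ZMod r), Nat.card_zmod]
  haveI : Fintype X := Fintype.ofFinite X
  suffices ∃ R : Finset X, 4 * R.card < Nat.card X ∧
      ∀ g : Γ, (∀ x, T.σ g x ∈ R ↔ x ∈ R) → ∀ x, T.σ g x = x by
    obtain ⟨R, hcard, hrig⟩ := this
    let C : X → Option U := fun x => if x ∈ R then none else some 1
    refine ⟨C, fun g hg => ?_⟩
    replace hg : Fix T C g := hg
    have hid := hrig g fun x => by
      have e := hg x
      simp only [C] at e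
      by_cases h1 : T.σ g x ∈ R <;> by_cases h2 : x ∈ R <;> simp [h1, h2] at e ⊢
    refine fun y => ⟨hid y, quad_count (T.quad g) R hcard (fun x hx => ?_) y⟩
    exact z_some T hg hid (s := 1) (if_neg hx)
  have hcb : ∀ S : Set (Finset (Fin m)), ∀ F : Finset (Finset (Fin m)), (∀ s ∈ S, s ∈ F) →
      (Finset.univ.filter (· ∈ sums b S)).card ≤ m + F.card := by
    intro S F hF
    refine (Finset.card_le_card (t := Finset.univ.image b ∪ F.image fun s => ∑ j ∈ s, b j) ?_).trans
      ((Finset.card_union_le _ _).trans (Nat.add_le_add ?_ Finset.card_image_le))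
    · intro x hx
      obtain ⟨s, hs, rfl⟩ := (Finset.mem_filter.1 hx).2
      rcases hs with hs | hs
      · obtain ⟨i, rfl⟩ := Finset.card_eq_one.1 hs
        simp
      · exact Finset.mem_union_right _ (Finset.mem_image_of_mem _ (hF s hs))
    · exact Finset.card_image_le.trans (by simp)
  by_cases h4 : 4 ≤ m
  · refine ⟨Finset.univ.filter (· ∈ sums b (fam m)), ?_, fun g hg => fam_sums_rigid b hr h4 (T.σ g)
      (σ_inj T g) (fun x => by simpa using hg x)⟩
    have h := hcb (fam m) ((Finset.range (m + 1)).image (fun k =>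
        Finset.univ.filter (fun i : Fin m => (i : ℕ) < k)) ∪
      {Finset.univ.filter (fun i : Fin m => (i : ℕ) = 1 ∨ (i : ℕ) = 3)}) (by
        rintro s (⟨k, -, hk, rfl⟩ | rfl)
        · exact Finset.mem_union_left _
            (Finset.mem_image_of_mem _ (Finset.mem_range.2 (by omega)))
        · exact Finset.mem_union_right _ (Finset.mem_singleton_self _))
    have h1 := Finset.card_union_le ((Finset.range (m + 1)).image (fun k =>
        Finset.univ.filter (fun i : Fin m => (i : ℕ) < k)))
      {Finset.univ.filter (fun i : Fin m => (i : ℕ) = 1 ∨ (i : ℕ) = 3)}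
    have h2 := Finset.card_image_le (s := Finset.range (m + 1))
      (f := fun k => Finset.univ.filter (fun i : Fin m => (i : ℕ) < k))
    simp only [Finset.card_range, Finset.card_singleton] at h1 h2
    have key : ∀ n, 8 * (n + 4) + 8 < 3 ^ (n + 4) := by
      intro n
      induction n with
      | zero => norm_num
      | succ n ih => rw [show n + 1 + 4 = (n + 4) + 1 by omega, pow_succ]; omega
    have h3 := key (m - 4)
    rw [show m - 4 + 4 = m by omega] at h3
    have h5 : 3 ^ m ≤ r ^ m := Nat.pow_le_pow_left h3r m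
    rw [hX]
    omega
  by_cases h2 : 2 ≤ m
  · let S : Set (Finset (Fin m)) := {s | m = 3 ∧ s = {⟨0, by omega⟩, ⟨1, by omega⟩}}
    refine ⟨Finset.univ.filter (· ∈ sums b S), ?_, fun g hg => invol_trivial T hodd g
      (small_sums_invol b hr h2 (by omega) S (fun s => Iff.rfl) (T.σ g) (σ_inj T g)
        (fun x => by simpa using hg x))⟩
    have h := hcb S (if m = 3 then {{⟨0, by omega⟩, ⟨1, by omega⟩}} else ∅) (by
      rintro s ⟨h3, rfl⟩; simp [h3])
    have h5 : 3 ^ m ≤ r ^ m := Nat.pow_le_pow_left h3r m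
    rw [hX]
    rcases (show m = 2 ∨ m = 3 by omega) with e | e <;> simp [e] at h h5 ⊢ <;> omega
  by_cases h1 : m = 1
  · by_cases h5 : 5 ≤ r
    · refine ⟨{b ⟨0, by omega⟩}, ?_, fun g hg => eq_id b (T.σ g) fun i => ?_⟩
      · rw [Finset.card_singleton, hX, h1, pow_one]; omega
      · rw [show i = ⟨0, by omega⟩ from Fin.ext (by omega)]
        simpa using (hg (b ⟨0, by omega⟩)).2 (Finset.mem_singleton_self _)
    · refine ⟨∅, by rw [Finset.card_empty]; exact Nat.card_pos, fun g _ => invol_trivial T hodd g ?_⟩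
      have hr3 : r = 3 := by
        rcases (show r = 3 ∨ r = 4 by omega) with h | h
        · exact h
        · exact absurd (h ▸ (Fact.out : r.Prime)) (by norm_num)
      subst hr3
      let b0 := b ⟨0, by omega⟩
      have hs : ∀ x, x = b.repr x ⟨0, by omega⟩ • b0 := fun x => by
        conv_lhs => rw [← b.sum_repr x]
        exact Fintype.sum_eq_single _ fun j hj => absurd (Fin.ext (by omega)) hj
      intro x
      refine eq_id b ((T.σ g).comp (T.σ g)) (fun i => ?_) x
      rw [show i = ⟨0, by omega⟩ from Fin.ext (by omega)]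
      show T.σ g (T.σ g b0) = b0
      have he := hs (T.σ g b0)
      have hne : b.repr (T.σ g b0) ⟨0, by omega⟩ ≠ 0 := fun h => by
        rw [h, zero_smul, ← map_zero (T.σ g)] at he
        exact b.ne_zero _ (σ_inj T g he)
      generalize b.repr (T.σ g b0) ⟨0, by omega⟩ = t at he hne
      rw [he, ZMod.map_smul, he, smul_smul, sq_three t hne, one_smul]
  · refine ⟨∅, by rw [Finset.card_empty]; exact Nat.card_pos, fun g _ => eq_id b (T.σ g) fun i => ?_⟩
    exact absurd i.isLt (by omega)

end twist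

theorem card_powKer {U : Type u} [CommGroup U] [Finite U] [IsCyclic U] {e : ℕ} (he : 0 < e) :
    Nat.card (powMonoidHom e : U →* U).ker ≤ e := by
  classical
  haveI := Fintype.ofFinite U
  rw [Nat.card_eq_fintype_card, Fintype.card_subtype]
  simpa [MonoidHom.mem_ker, powMonoidHom_apply] using IsCyclic.card_pow_eq_one_le (α := U) he

theorem separated_of_classes {p r : ℕ} [Fact r.Prime] {U : Type u} [CommGroup U] {ε : U}
    (hs : Scalars p r U ε) [Finite U] {Γ : Type v} [Group Γ] [Finite Γ] [Group.IsSolvable Γ]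
    {X : Type w} [AddCommGroup X] [Module (ZMod r) X] [Finite X] (hp : ¬ p ∣ Nat.card Γ)
    (h24 : ¬ (r = 2 ∧ (Nat.card U = 2 ∨ Nat.card U = 4)))
    (h8 : ¬ (r = 2 ∧ Nat.card U = 8 ∧ Module.finrank (ZMod r) X = 3))
    (T : Twist r ε Γ X) : T.Separated := by
  classical
  haveI := hs.cyclic
  haveI := hs.prime
  have hrp := hs.rprime
  obtain ⟨k, hk⟩ := hs.dvd
  obtain ⟨f, hf⟩ := hs.card
  set N := Nat.card U with hN
  have hN0 : 0 < N := Nat.card_pos
  set e := Nat.gcd (if r = 2 then 4 else r) N with he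
  have he0 : 0 < e := Nat.gcd_pos_of_pos_right _ hN0
  set Z := (powMonoidHom e : U →* U).ker with hZ
  have hz : ∀ g x, T.z g x ∈ Z := fun g x => by
    rw [hZ, MonoidHom.mem_ker, powMonoidHom_apply, he]
    refine pow_gcd_eq_one.2 ⟨?_, pow_card_eq_one'⟩
    split_ifs with h
    · rcases T.z_two h g x with h1 | h1 <;>
        rw [show 4 = 2 * 2 from rfl, pow_mul, h1]
      · exact one_pow 2
      · rw [pow_two, hs.sq]
    · exact T.z_odd h g x
  have hZc : Nat.card Z ≤ e := card_powKer he0
  have hprod := Subgroup.card_eq_card_quotient_mul_card_subgroup Z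
  by_cases hbig : 2 * e < N
  · refine separated_three T Z hz ?_
    by_contra hlt
    push_neg at hlt
    have := Nat.mul_le_mul (Nat.le_of_lt_succ hlt) hZc
    rw [← hprod, ← hN] at this
    omega
  have hout : e < N → ∃ ω, ω ∉ Z := by
    intro h
    by_contra hall
    push_neg at hall
    have hZtop : Z = ⊤ := by ext x; simp [hall x]
    rw [hZtop, Subgroup.card_top] at hZc
    omega
  by_cases h2 : r = 2
  · rw [if_pos h2] at he
    have hkk : N = 2 * k := by rw [hk, h2]
    have he4 : e ≤ 4 := he ▸ Nat.le_of_dvd (by norm_num) (Nat.gcd_dvd_left _ _)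
    have hN8 : N = 8 := by
      have hsm : N ≤ 8 := by omega
      rcases (show N = 2 ∨ N = 4 ∨ N = 6 ∨ N = 8 by omega) with h | h | h | h
      · exact absurd ⟨h2, Or.inl h⟩ h24
      · exact absurd ⟨h2, Or.inr h⟩ h24
      · exfalso
        rw [h, show Nat.gcd 4 6 = 2 from rfl] at he
        omega
      · exact h
    rw [hN8, show Nat.gcd 4 8 = 4 from rfl] at he
    obtain ⟨ω, hω⟩ := hout (by omega)
    have hp3 : p = 3 := by
      have h9 : p ^ f = 9 := by omega
      have hd : p ∣ 3 ^ 2 := by
        refine (show (3 : ℕ) ^ 2 = p ^ f by omega) ▸ dvd_pow_self p ?_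
        rintro rfl
        simp at h9
      exact (Nat.prime_dvd_prime_iff_eq hs.prime Nat.prime_three).1 (hs.prime.dvd_of_dvd_pow hd)
    rcases (show Module.finrank (ZMod r) X ≤ 1 ∨ Module.finrank (ZMod r) X = 2 ∨
        Module.finrank (ZMod r) X = 3 ∨ 4 ≤ Module.finrank (ZMod r) X by omega) with h | h | h | h
    · exact separated_line T Z hz hω h
    · exact separated_four T h2 (hp3 ▸ hp) Z hz hω h
    · exact absurd ⟨h2, hN8, h⟩ h8
    · exact separated_two_large T Z hz hω h
  rw [if_neg h2] at he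
  have her : e = r := by rw [he, hk]; exact Nat.gcd_mul_right_right k r ▸ Nat.gcd_eq_left (Dvd.intro k rfl)
  have h3r : 3 ≤ r := by
    have := hrp.two_le
    omega
  have hk2 : k = 1 ∨ k = 2 := by
    rw [her, hk] at hbig
    rcases k with _ | _ | _ | k
    · simp at hk; omega
    · exact Or.inl rfl
    · exact Or.inr rfl
    · exfalso; apply hbig; nlinarith
  rcases hk2 with rfl | rfl
  · have hp2 : p = 2 := by
      obtain ⟨t, ht⟩ := hrp.odd_of_ne_two h2
      have hd : 2 ∣ p ^ f := ⟨t + 1, by rw [mul_one] at hk; omega⟩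
      exact ((Nat.prime_dvd_prime_iff_eq Nat.prime_two hs.prime).1
        (Nat.prime_two.dvd_of_dvd_pow hd)).symm
    refine separated_one T h2 (Nat.not_even_iff_odd.1 fun h => hp (hp2 ▸ even_iff_two_dvd.1 h))
  · obtain ⟨ω, hω⟩ := hout (by rw [her, hk]; omega)
    rcases (show Module.finrank (ZMod r) X ≤ 1 ∨ (2 ≤ Module.finrank (ZMod r) X ∧
        Module.finrank (ZMod r) X ≤ 3) ∨ 4 ≤ Module.finrank (ZMod r) X by omega) with h | h | h
    · exact separated_line T Z hz hω h
    · exact separated_two_mid T h2 Z hz hω h.1 h.2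
    · exact separated_two_large T Z hz hω h

end Cfsg.Agent.TwoVecCombo13
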