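import Cfsg.Agent.Lib.TwoVecCombo21Engine

/-!
Data for the colourings on sixteen and on eight points, with kernel checks.
-/

set_option autoImplicit false

namespace Cfsg.Agent.TwoVecCombo21

def twoData : List (ℕ × List (List ℕ)) :=
  [(1451328581,
    [[0, 2, 4, 6, 8, 10, 12, 14, 23, 20, 18, 17, 31, 28, 26, 25],
     [0, 2, 4, 6, 12, 15, 8, 11, 16, 18, 20, 22, 29, 30, 25, 26],
     [0, 2, 4, 6, 12, 15, 8, 11, 23, 20, 18, 17, 27, 25, 30, 28],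
     [0, 10, 12, 6, 8, 2, 4, 14, 25, 18, 20, 31, 17, 26, 28, 23],
     [0, 10, 12, 6, 8, 2, 4, 14, 30, 20, 18, 24, 22, 28, 26, 16],
     [0, 15, 8, 6, 4, 10, 12, 3, 26, 20, 18, 29, 31, 16, 23, 25],
     [0, 15, 8, 6, 4, 10, 12, 3, 28, 18, 20, 27, 24, 23, 16, 30]]),
   (307341573,
    [[0, 2, 4, 6, 13, 14, 9, 10, 16, 18, 20, 22, 29, 30, 25, 26],
     [0, 8, 27, 18, 2, 10, 24, 17, 15, 6, 20, 28, 12, 5, 22, 30],
     [0, 13, 31, 18, 28, 17, 3, 14, 11, 6, 20, 25, 23, 26, 8, 5],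
     [0, 22, 4, 18, 25, 14, 29, 10, 16, 6, 20, 2, 9, 30, 13, 26],
     [0, 22, 4, 18, 28, 10, 24, 14, 16, 6, 20, 2, 12, 26, 8, 30],
     [0, 25, 31, 6, 8, 17, 23, 14, 11, 18, 20, 13, 3, 26, 28, 5],
     [0, 28, 27, 6, 22, 10, 12, 17, 15, 18, 20, 8, 24, 5, 2, 30]]),
   (1100089705,
    [[0, 2, 10, 8, 6, 4, 12, 14, 31, 29, 20, 22, 24, 26, 19, 17],
     [0, 7, 4, 3, 30, 25, 26, 29, 21, 18, 17, 22, 11, 12, 15, 8],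
     [0, 9, 25, 17, 3, 10, 26, 18, 7, 14, 30, 22, 5, 12, 28, 20],
     [0, 16, 4, 20, 8, 25, 12, 29, 2, 18, 6, 22, 11, 26, 15, 30],
     [0, 21, 4, 17, 30, 10, 26, 14, 7, 18, 3, 22, 24, 12, 28, 8],
     [0, 21, 10, 30, 17, 4, 26, 14, 9, 29, 3, 22, 24, 12, 19, 6],
     [0, 31, 25, 6, 20, 10, 12, 18, 16, 14, 8, 22, 5, 26, 28, 3]]),
   (2325037153,
    [[0, 2, 7, 5, 10, 8, 12, 14, 16, 18, 23, 21, 26, 24, 28, 30],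
     [0, 2, 21, 23, 8, 10, 29, 31, 16, 18, 5, 7, 24, 26, 13, 15],
     [0, 2, 22, 20, 10, 8, 29, 31, 16, 18, 6, 4, 26, 24, 13, 15],
     [0, 9, 15, 6, 3, 10, 12, 5, 16, 25, 31, 22, 19, 26, 28, 21],
     [0, 9, 30, 23, 3, 10, 29, 20, 16, 25, 14, 7, 19, 26, 13, 4],
     [0, 11, 4, 14, 8, 3, 12, 6, 16, 27, 20, 30, 24, 19, 28, 22],
     [0, 11, 21, 31, 8, 3, 29, 23, 16, 27, 5, 15, 24, 19, 13, 7]]),
   (1502216593,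
    [[0, 2, 7, 5, 8, 10, 14, 12, 18, 16, 20, 22, 27, 25, 28, 30],
     [0, 2, 24, 26, 23, 21, 14, 12, 18, 16, 11, 9, 4, 6, 28, 30],
     [0, 2, 27, 25, 23, 21, 12, 14, 16, 18, 11, 9, 7, 5, 28, 30],
     [0, 13, 4, 9, 7, 10, 3, 14, 16, 29, 20, 25, 23, 26, 19, 30],
     [0, 13, 27, 22, 24, 21, 3, 14, 16, 29, 11, 6, 8, 5, 19, 30],
     [0, 15, 8, 6, 4, 10, 12, 3, 29, 18, 20, 26, 24, 22, 17, 30],
     [0, 15, 23, 25, 27, 21, 12, 3, 29, 18, 11, 5, 7, 9, 17, 30]]),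
   (295997733,
    [[0, 2, 4, 6, 18, 17, 23, 20, 11, 8, 14, 13, 24, 26, 28, 30],
     [0, 2, 29, 30, 8, 10, 21, 22, 16, 18, 13, 14, 24, 26, 5, 6],
     [0, 2, 29, 30, 18, 17, 15, 13, 11, 8, 22, 20, 24, 26, 5, 6],
     [0, 8, 14, 6, 2, 10, 12, 4, 27, 18, 20, 29, 24, 17, 23, 30],
     [0, 8, 22, 30, 2, 10, 21, 29, 27, 18, 13, 4, 24, 17, 15, 6],
     [0, 18, 13, 30, 8, 26, 5, 22, 16, 2, 29, 14, 24, 10, 21, 6],
     [0, 18, 20, 6, 8, 26, 28, 14, 16, 2, 4, 22, 24, 10, 12, 30]])]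

def twoWit0 : List (List ℕ × ℕ) :=
  [([], 0),
   ([], 0),
   ([1, 2], 1),
   ([], 0),
   ([2, 3], 2),
   ([0, 3], 1),
   ([0, 3], 2),
   ([1, 3], 1),
   ([0, 3], 2),
   ([2, 3], 2),
   ([0, 3], 2),
   ([0, 2], 2),
   ([0, 2], 1),
   ([0, 2], 1),
   ([0, 2], 2),
   ([1, 2], 1),
   ([0, 1], 2),
   ([0, 1], 2),
   ([0, 1], 2),
   ([0, 1], 1),
   ([], 0),
   ([], 0),
   ([1, 3], 1),
   ([0, 3], 1),
   ([0, 3], 2),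
   ([2, 3], 1),
   ([0, 3], 2),
   ([2, 3], 1),
   ([0, 3], 2),
   ([1, 2], 2),
   ([0, 2], 2),
   ([0, 2], 1),
   ([0, 2], 1),
   ([0, 2], 2),
   ([], 0),
   ([1, 3], 1),
   ([0, 3], 1),
   ([0, 3], 2),
   ([], 0),
   ([1, 4], 1),
   ([0, 4], 2),
   ([0, 4], 1),
   ([2, 4], 1),
   ([0, 4], 2),
   ([1, 4], 1),
   ([0, 4], 2),
   ([0, 3], 2),
   ([0, 2, 0, 3], 1),
   ([0, 3], 2),
   ([], 0),
   ([1, 2], 1),
   ([1, 2], 2),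
   ([0, 2], 2),
   ([0, 2], 1),
   ([0, 2], 1),
   ([0, 2], 2),
   ([1, 2], 1),
   ([], 0),
   ([], 0),
   ([0, 2], 1),
   ([], 0),
   ([2, 3], 2),
   ([2, 3], 2),
   ([], 0),
   ([2, 4], 2),
   ([0, 4], 2),
   ([0, 4], 1),
   ([2, 4], 2),
   ([0, 4], 2),
   ([0, 4], 1),
   ([3, 4], 2),
   ([0, 3], 1),
   ([0, 3], 2),
   ([2, 3], 2),
   ([2, 3], 2),
   ([0, 2], 2),
   ([], 0),
   ([], 0),
   ([2, 4], 1),
   ([0, 4], 2),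
   ([0, 4], 1),
   ([2, 4], 1),
   ([0, 4], 2),
   ([0, 4], 1),
   ([0, 3, 0, 4], 2),
   ([], 0),
   ([2, 4], 1),
   ([0, 4], 2),
   ([0, 4], 1),
   ([2, 4], 1),
   ([0, 4], 2),
   ([0, 4], 1),
   ([3, 4], 2),
   ([], 0),
   ([2, 4], 1),
   ([0, 4], 2),
   ([0, 4], 1),
   ([2, 4], 1),
   ([0, 4], 2),
   ([0, 4], 1)]

def twoWit1 : List (List ℕ × ℕ) :=
  [([3, 4], 2),
   ([0, 3], 1),
   ([0, 3], 2),
   ([], 0),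
   ([2, 4], 1),
   ([0, 4], 2),
   ([0, 4], 1),
   ([2, 4], 1),
   ([0, 4], 2),
   ([0, 4], 1),
   ([3, 4], 2),
   ([0, 2, 3], 2),
   ([], 0),
   ([2, 3], 1),
   ([2, 3], 1),
   ([], 0),
   ([2, 3, 2, 4], 2),
   ([0, 4], 2),
   ([0, 4], 1),
   ([2, 3, 4], 5),
   ([0, 4], 2),
   ([0, 4], 1),
   ([3, 4], 2),
   ([0, 3], 1),
   ([0, 3], 2),
   ([2, 3], 1),
   ([0, 2, 3], 2),
   ([0, 2], 2),
   ([0, 2], 1),
   ([0, 1], 2),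
   ([0, 1], 2),
   ([], 0),
   ([0, 2], 1),
   ([], 0),
   ([1, 3], 2),
   ([2, 3], 2),
   ([1, 3], 1),
   ([0, 3], 1),
   ([0, 3], 2),
   ([2, 3], 2),
   ([2, 3], 2),
   ([0, 2], 2),
   ([1, 2], 2),
   ([1, 2], 2),
   ([0, 2], 2),
   ([0, 2], 1),
   ([], 0),
   ([0, 2], 1),
   ([], 0),
   ([1, 3], 1),
   ([2, 3], 2),
   ([1, 3], 2),
   ([0, 3], 1),
   ([0, 3], 2),
   ([2, 3], 2),
   ([2, 3], 2),
   ([0, 2], 2),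
   ([1, 2], 1),
   ([1, 2], 1),
   ([0, 2], 2),
   ([0, 2], 1),
   ([0, 1], 1),
   ([0, 1], 1),
   ([], 0),
   ([], 0),
   ([0, 2], 2),
   ([], 0),
   ([2, 3], 2),
   ([0, 3], 2),
   ([0, 3], 2),
   ([0, 3], 2),
   ([0, 3], 2),
   ([2, 3], 2),
   ([2, 3], 2),
   ([0, 2], 2),
   ([0, 2], 2),
   ([0, 2], 2),
   ([0, 2], 2),
   ([0, 2], 2),
   ([0, 1], 2),
   ([0, 1], 2),
   ([0, 1], 2),
   ([0, 1], 2),
   ([0, 1], 2),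
   ([0, 1], 2),
   ([], 0),
   ([0, 1], 1),
   ([0, 1], 2),
   ([], 0),
   ([], 0),
   ([0, 3], 1),
   ([2, 3], 1),
   ([0, 3], 2),
   ([0, 3], 1),
   ([0, 3], 2),
   ([2, 3], 1),
   ([1, 3], 2),
   ([0, 2], 2),
   ([0, 2], 2),
   ([1, 2], 2)]

def twoWit2 : List (List ℕ × ℕ) :=
  [([0, 2], 1),
   ([0, 2], 2),
   ([1, 2], 2),
   ([0, 1], 2),
   ([], 0),
   ([], 0),
   ([0, 3], 1),
   ([2, 3], 1),
   ([0, 3], 2),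
   ([0, 3], 1),
   ([0, 3], 2),
   ([2, 3], 1),
   ([1, 2, 3], 4),
   ([0, 2], 2),
   ([0, 2], 2),
   ([1, 2], 1),
   ([0, 2], 1),
   ([0, 2], 2),
   ([1, 2], 1),
   ([], 0),
   ([], 0),
   ([0, 3], 1),
   ([2, 3], 1),
   ([0, 3], 2),
   ([0, 3], 1),
   ([0, 3], 2),
   ([2, 3], 1),
   ([1, 2, 3], 4),
   ([0, 2], 2),
   ([0, 2], 2),
   ([], 0),
   ([0, 3], 1),
   ([], 0),
   ([1, 4], 1),
   ([0, 4], 2),
   ([0, 4], 1),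
   ([2, 4], 1),
   ([0, 4], 2),
   ([0, 4], 1),
   ([3, 4], 2),
   ([0, 3], 2),
   ([0, 3], 1),
   ([0, 3], 2),
   ([], 0),
   ([1, 4], 1),
   ([0, 4], 2),
   ([0, 4], 1),
   ([2, 4], 1),
   ([0, 4], 2),
   ([0, 4], 1),
   ([3, 4], 2),
   ([], 0),
   ([1, 4], 1),
   ([0, 4], 2),
   ([0, 4], 1),
   ([2, 4], 1),
   ([0, 4], 2),
   ([0, 4], 1),
   ([3, 4], 1),
   ([0, 2], 1),
   ([0, 2], 2),
   ([], 0),
   ([0, 3], 1),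
   ([0, 2, 0, 3], 1),
   ([0, 3], 2),
   ([0, 3], 1),
   ([0, 3], 2),
   ([], 0),
   ([1, 4], 1),
   ([0, 4], 2),
   ([0, 4], 1),
   ([2, 4], 1),
   ([0, 4], 2),
   ([0, 4], 1),
   ([3, 4], 2),
   ([1, 2, 3], 2),
   ([0, 1], 1),
   ([], 0),
   ([0, 1], 2),
   ([0, 1], 2),
   ([0, 1], 2),
   ([0, 1], 2),
   ([0, 1], 2),
   ([], 0),
   ([], 0),
   ([0, 3], 2),
   ([0, 3], 2),
   ([0, 3], 2),
   ([0, 3], 2),
   ([0, 3], 2),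
   ([2, 3], 1),
   ([0, 3], 2),
   ([1, 2], 2),
   ([0, 2], 2),
   ([0, 2], 2),
   ([1, 2], 1),
   ([1, 2], 2),
   ([], 0),
   ([0, 3], 2),
   ([0, 3], 2)]

def twoWit3 : List (List ℕ × ℕ) :=
  [([0, 3], 2),
   ([0, 3], 2),
   ([0, 3], 2),
   ([0, 2, 0, 3], 1),
   ([0, 3], 2),
   ([0, 1], 2),
   ([], 0),
   ([0, 1], 2),
   ([0, 1], 2),
   ([0, 1], 1),
   ([0, 1], 2),
   ([0, 1], 2),
   ([0, 1], 2),
   ([], 0),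
   ([1, 2], 1),
   ([1, 2], 2),
   ([0, 1, 0, 2], 2),
   ([0, 2], 2),
   ([1, 2], 1),
   ([0, 2], 2),
   ([1, 2], 1),
   ([], 0),
   ([0, 1], 1),
   ([], 0),
   ([1, 2], 2),
   ([0, 2], 2),
   ([0, 2], 2),
   ([1, 2], 2),
   ([0, 2], 1),
   ([0, 2], 2),
   ([0, 1, 0, 2], 2),
   ([0, 1], 2),
   ([0, 1], 2),
   ([], 0),
   ([], 0),
   ([1, 3], 1),
   ([0, 3], 1),
   ([0, 3], 2),
   ([2, 3], 1),
   ([0, 3], 2),
   ([2, 3], 1),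
   ([0, 3], 2),
   ([0, 2], 2),
   ([0, 2], 2),
   ([1, 2], 1),
   ([0, 2], 1),
   ([0, 2], 2),
   ([1, 2], 1),
   ([0, 1], 1),
   ([], 0),
   ([1, 2], 1),
   ([0, 2], 2),
   ([0, 2], 2),
   ([], 0),
   ([], 0),
   ([0, 4], 1),
   ([0, 4], 2),
   ([], 0),
   ([0, 5], 1),
   ([4, 5], 1),
   ([0, 5], 2),
   ([3, 5], 1),
   ([3, 5], 2),
   ([0, 5], 2),
   ([0, 5], 1),
   ([0, 4], 1),
   ([0, 4], 2),
   ([], 0),
   ([0, 5], 1),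
   ([0, 3, 0, 5], 1),
   ([0, 5], 2),
   ([3, 5], 1),
   ([3, 5], 2),
   ([0, 5], 2),
   ([0, 5], 1),
   ([], 0),
   ([0, 5], 1),
   ([4, 5], 2),
   ([0, 5], 2),
   ([3, 5], 1),
   ([3, 5], 2),
   ([0, 5], 2),
   ([0, 5], 1),
   ([0, 3], 1),
   ([0, 3], 2),
   ([2, 3], 1),
   ([0, 3], 2),
   ([1, 3], 1),
   ([0, 3], 2),
   ([0, 2], 1),
   ([0, 2], 2),
   ([1, 2], 1)]

def twoWit : List (List ℕ × ℕ) :=
  twoWit0 ++ twoWit1 ++ twoWit2 ++ twoWit3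

theorem two_stab : twoData.all (stabOk 4) = true := by decide +kernel

theorem two_wf : twoData.all (fun cr => (List.range (2 ^ 4)).all (fun x => col cr.1 x != 3)) = true := by
  decide +kernel

theorem two_chk : (chk (2 ^ 4) (twoData.map Prod.snd) [] twoWit).isSome = true := by
  decide +kernel

def eightData : List (ℕ × List (List ℕ)) :=
  [(23933,
    [[0, 2, 10, 8, 6, 4, 12, 14],
     [0, 4, 2, 6, 14, 10, 12, 8],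
     [0, 10, 4, 14, 8, 2, 12, 6]]),
   (54773,
    [[0, 2, 6, 4, 10, 8, 12, 14],
     [0, 8, 14, 6, 2, 10, 12, 4],
     [0, 10, 4, 14, 8, 2, 12, 6]]),
   (30197,
    [[0, 2, 6, 4, 10, 8, 12, 14],
     [0, 8, 4, 12, 2, 10, 6, 14],
     [0, 10, 12, 6, 8, 2, 4, 14]]),
   (32597,
    [[0, 2, 6, 4, 10, 8, 12, 14],
     [0, 4, 2, 6, 8, 12, 10, 14],
     [0, 6, 4, 2, 12, 10, 8, 14]]),
   (63317,
    [[0, 2, 6, 4, 8, 10, 14, 12],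
     [0, 4, 2, 6, 14, 10, 12, 8],
     [0, 6, 4, 2, 12, 10, 8, 14]]),
   (54653,
    [[0, 2, 14, 12, 8, 10, 6, 4],
     [0, 4, 2, 6, 8, 12, 10, 14],
     [0, 14, 4, 10, 8, 6, 12, 2]])]

def eightWit0 : List (List ℕ × ℕ) :=
  [([], 0),
   ([], 0),
   ([], 0),
   ([], 0),
   ([], 0),
   ([0, 5], 1),
   ([1, 5], 1),
   ([4, 5], 1),
   ([0, 4], 1),
   ([1, 4], 1),
   ([1, 3], 1),
   ([1, 3], 1),
   ([1, 2], 1),
   ([1, 2], 1),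
   ([0, 1], 1),
   ([0, 1], 1),
   ([], 0),
   ([0, 1], 1),
   ([], 0),
   ([0, 2], 1),
   ([], 0),
   ([0, 3], 1),
   ([2, 3], 1),
   ([0, 3], 1),
   ([1, 2], 1),
   ([0, 1], 1),
   ([], 0),
   ([0, 1], 1),
   ([0, 1], 1),
   ([], 0),
   ([0, 2], 1),
   ([0, 2], 1),
   ([], 0),
   ([0, 3], 1),
   ([], 0),
   ([3, 4], 1),
   ([0, 4], 1),
   ([2, 4], 1),
   ([2, 3], 1)]

def eightWit : List (List ℕ × ℕ) :=
  eightWit0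

theorem eight_stab : eightData.all (stabOk 3) = true := by decide +kernel

theorem eight_wf : eightData.all (fun cr => (List.range (2 ^ 3)).all (fun x => (col cr.1 x == 1 || col cr.1 x == 3))) = true := by
  decide +kernel

theorem eight_chk : (chk (2 ^ 3) (eightData.map Prod.snd) [] eightWit).isSome = true := by
  decide +kernel

end Cfsg.Agent.TwoVecCombo21
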