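import Cfsg.Agent.Lib.ThreeVec75Combo
import Cfsg.Agent.Lib.TwoVecCombo21Data

/-!
Separation of twisted colourings: two scalars on sixteen points, eight scalars on eight points.
-/

set_option autoImplicit false

namespace Cfsg.Agent.TwoVecCombo21

open Cfsg.Agent.ThreeVec75

universe u v w

variable {U : Type u} [CommGroup U] {ε : U} {Γ : Type v} [Group Γ] {X : Type w} [AddCommGroup X]
  [Module (ZMod 2) X]

theorem bit_xor_add (i a b : ℕ) :
    (if (a ^^^ b).testBit i then (1 : ZMod 2) else 0) =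
      (if a.testBit i then 1 else 0) + (if b.testBit i then 1 else 0) := by
  rw [Nat.testBit_xor]
  cases a.testBit i <;> cases b.testBit i <;> decide

/-- Numbering of a finite vector space over two elements. -/
theorem exists_numbering [Finite X] (n : ℕ) (hr : Module.finrank (ZMod 2) X = n) :
    ∃ (P : ℕ → X) (Q : X → ℕ), (∀ a b, P (a ^^^ b) = P a + P b) ∧ (∀ x, Q x < 2 ^ n) ∧
      (∀ x, P (Q x) = x) ∧ (∀ a < 2 ^ n, Q (P a) = a) := by
  classical
  let b := Module.finBasisOfFinrankEq (ZMod 2) X hr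
  let P : ℕ → X := fun a => b.equivFun.symm fun i : Fin n => if a.testBit i then 1 else 0
  have hcard : Nat.card X = 2 ^ n := by
    rw [Nat.card_congr b.equivFun.toEquiv]; simp
  have hinj : Function.Injective fun a : Fin (2 ^ n) => P a := by
    intro a c h
    apply Fin.ext
    apply Nat.eq_of_testBit_eq
    intro i
    by_cases hi : i < n
    · have h' := congrFun (b.equivFun.symm.injective h) ⟨i, hi⟩
      simp only at h'
      revert h'
      cases (a : ℕ).testBit i <;> cases (c : ℕ).testBit i <;> decide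
    · have hle : 2 ^ n ≤ 2 ^ i := Nat.pow_le_pow_right (by norm_num) (Nat.le_of_not_lt hi)
      rw [Nat.testBit_lt_two_pow (lt_of_lt_of_le a.isLt hle),
        Nat.testBit_lt_two_pow (lt_of_lt_of_le c.isLt hle)]
  let E := Equiv.ofBijective _ (hinj.bijective_of_nat_card_le (by simp [hcard]))
  refine ⟨P, fun x => (E.symm x).val, fun a c => ?_, fun x => (E.symm x).isLt,
    fun x => E.apply_symm_apply x, fun a ha => ?_⟩
  · simp only [P]
    rw [← map_add]
    congr 1
    funext i
    exact bit_xor_add i a c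
  · exact congrArg Fin.val (E.symm_apply_apply ⟨a, ha⟩)

theorem eq_three {p k m : ℕ} (hp : p.Prime) (hk : p ^ k = 3 ^ m) (hm : m ≠ 0) : p = 3 := by
  have hk0 : k ≠ 0 := by
    rintro rfl
    rw [pow_zero] at hk
    exact absurd (hk.symm) (Nat.one_lt_pow hm (by norm_num)).ne'
  exact (Nat.prime_dvd_prime_iff_eq hp Nat.prime_three).1
    (hp.dvd_of_dvd_pow (hk ▸ dvd_pow_self p hk0))

/-- The numbered signed permutation of a twisted map. -/
def enc (N : ℕ) (S : ℕ → ℕ) (Z : ℕ → Bool) : List ℕ := (List.range N).map (val S Z)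

theorem xor_flip : ∀ p < 16, ∀ c b : Bool,
    2 * p + (xor c b).toNat = (2 * p + c.toNat) ^^^ b.toNat := by decide +kernel

theorem enc_comp (N : ℕ) (hN : N ≤ 16) (S₁ S₂ : ℕ → ℕ) (Z₁ Z₂ : ℕ → Bool)
    (h₁ : ∀ a, S₁ a < N) (h₂ : ∀ a, S₂ a < N) :
    enc N (fun a => S₁ (S₂ a)) (fun a => xor (Z₁ (S₂ a)) (Z₂ a)) = cm (enc N S₁ Z₁) (enc N S₂ Z₂) := by
  simp only [enc, cm, List.map_map]
  apply List.map_congr_left
  intro a _
  have e1 : val S₂ Z₂ a / 2 = S₂ a := by simp only [val]; cases Z₂ a <;> simp <;> omega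
  have e2 : val S₂ Z₂ a % 2 = (Z₂ a).toNat := by simp only [val]; cases Z₂ a <;> simp
  simp only [Function.comp_apply, e1, e2]
  rw [getD_range_map _ _ _ (h₂ a)]
  exact xor_flip _ (lt_of_lt_of_le (h₁ _) hN) _ _

theorem enc_eq_idl (N : ℕ) (S : ℕ → ℕ) (Z : ℕ → Bool) (h : enc N S Z = idl N) (a : ℕ) (ha : a < N) :
    S a = a ∧ Z a = false := by
  have h' := congrArg (fun l => l.getD a 0) h
  simp only [enc, idl] at h'
  rw [getD_range_map _ _ _ ha, getD_range_map _ _ _ ha] at h'
  simp only [val] at h'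
  cases hz : Z a <;> simp [hz] at h' <;> simp <;> omega

section model

variable {r : ℕ} {P : ℕ → X} {Q : X → ℕ} (T : Twist r ε Γ X)

/-- The point map of a twisted map in a numbering. -/
def pointMap (P : ℕ → X) (Q : X → ℕ) (g : Γ) (a : ℕ) : ℕ := Q (T.σ g (P a))

omit [Module (ZMod 2) X] in
theorem pointMap_mul (hPQ : ∀ x, P (Q x) = x) (g h : Γ) (a : ℕ) :
    pointMap T P Q (g * h) a = pointMap T P Q g (pointMap T P Q h a) := by
  simp [pointMap, hPQ, T.σ_mul]

omit [Module (ZMod 2) X] in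
theorem pointMap_xor {N : ℕ} (hP : ∀ a b, P (a ^^^ b) = P a + P b) (hQ : ∀ x, Q x < N)
    (hN : ∀ a b, a < N → b < N → a ^^^ b < N) (hPQ : ∀ x, P (Q x) = x)
    (hQP : ∀ a < N, Q (P a) = a) (g : Γ) (a b : ℕ) :
    pointMap T P Q g (a ^^^ b) = pointMap T P Q g a ^^^ pointMap T P Q g b := by
  have h : T.σ g (P (a ^^^ b)) = P (pointMap T P Q g a ^^^ pointMap T P Q g b) := by
    rw [hP, hP, map_add]; simp [pointMap, hPQ]
  rw [pointMap, h]
  exact hQP _ (hN _ _ (hQ _) (hQ _))

omit [Module (ZMod 2) X] in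
theorem pointMap_inj {N : ℕ} (hPQ : ∀ x, P (Q x) = x) (hQP : ∀ a < N, Q (P a) = a) (g : Γ) (a b : ℕ)
    (ha : a < N) (hb : b < N) (h : pointMap T P Q g a = pointMap T P Q g b) : a = b := by
  have h' := congrArg P h
  simp only [pointMap, hPQ] at h'
  have h'' := congrArg (T.σ g⁻¹) h'
  rw [← T.σ_mul, ← T.σ_mul, inv_mul_cancel, T.σ_one, T.σ_one] at h''
  rw [← hQP a ha, ← hQP b hb, h'']

end model

/-- A colour as a scalar. -/
def toScalar (a b : U) (c : ℕ) : Option U := if c = 0 then none else if c = 1 then some a else some b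

theorem col_lt (C x : ℕ) : col C x < 4 := Nat.lt_succ_of_le Nat.and_le_right

theorem separated_two_four {p : ℕ} (hS : Scalars p 2 U ε) [Finite U] [Finite Γ]
    (hΓ : ¬ p ∣ Nat.card Γ) [Finite X] (hU : Nat.card U = 2)
    (hr : Module.finrank (ZMod 2) X = 4) (T : Twist 2 ε Γ X) : T.Separated := by
  classical
  obtain ⟨f, hf⟩ := hS.card
  rw [hU] at hf
  have hp3 : p = 3 := eq_three (m := 1) hS.prime (k := f) (by rw [← hf]; rfl) one_ne_zero
  have hε : ε ≠ 1 := hS.ε_ne (by omega)
  have hU2 : ∀ u : U, u = 1 ∨ u = ε := by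
    intro u
    obtain ⟨y, hy1, hy⟩ := (Nat.card_eq_two_iff' (1 : U)).1 hU
    by_cases hu : u = 1
    · exact Or.inl hu
    · exact Or.inr ((hy u hu).trans (hy ε hε).symm)
  let bit : U → Bool := fun u => decide (u ≠ 1)
  have hb1 : bit 1 = false := by simp [bit]
  have hbe : bit ε = true := by simp [bit, hε]
  have hbmul : ∀ a b : U, bit (a * b) = xor (bit a) (bit b) := by
    intro a b
    rcases hU2 a with rfl | rfl <;> rcases hU2 b with rfl | rfl <;> simp [hb1, hbe, hS.sq]
  obtain ⟨P, Q, hP, hQ, hPQ, hQP⟩ := exists_numbering (X := X) 4 hr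
  let S := pointMap T P Q
  let Z : Γ → ℕ → Bool := fun g a => bit (T.z g (P a))
  have hP0 : P 0 = 0 := by
    have := hP 0 0
    rw [Nat.xor_self] at this
    exact left_eq_add.1 this
  have hSlt : ∀ g a, S g a < 2 ^ 4 := fun g a => hQ _
  have hmul : ∀ g h, enc (2 ^ 4) (S (g * h)) (Z (g * h)) =
      cm (enc (2 ^ 4) (S g) (Z g)) (enc (2 ^ 4) (S h) (Z h)) := by
    intro g h
    rw [← enc_comp _ (by norm_num) _ _ _ _ (hSlt g) (hSlt h)]
    congr 1
    · funext a; exact pointMap_mul T hPQ g h a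
    · funext a; simp only [Z, T.z_mul, hbmul, S, pointMap, hPQ]
  have hz1 : ∀ x, T.z (1 : Γ) x = 1 := by
    intro x
    have h := T.z_mul 1 1 x
    rw [one_mul, T.σ_one] at h
    exact left_eq_mul.1 h
  have hone : enc (2 ^ 4) (S 1) (Z 1) = idl (2 ^ 4) := by
    simp only [enc, idl]
    apply List.map_congr_left
    intro a ha
    rw [List.mem_range] at ha
    simp [val, S, Z, pointMap, T.σ_one, hz1, hb1, hQP a ha]
  by_contra hsep
  have hR : ∀ R ∈ twoData.map Prod.snd, ∃ g, enc (2 ^ 4) (S g) (Z g) ∈ R := by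
    intro R hR
    obtain ⟨CR, hCR, rfl⟩ := List.mem_map.1 hR
    obtain ⟨C, hC⟩ : ∃ C : X → Option U, C = fun x => toScalar 1 ε (col CR.1 (Q x)) := ⟨_, rfl⟩
    obtain ⟨g, hg, hne⟩ : ∃ g : Γ, (∀ x, C (T.σ g x) = (C x).map (T.z g x * ·)) ∧
        ¬ ∀ x, T.σ g x = x ∧ T.z g x = 1 := by
      by_contra hall
      exact hsep ⟨C, fun g hg => by_contra fun hn => hall ⟨g, hg, hn⟩⟩
    have hne' : enc (2 ^ 4) (S g) (Z g) ≠ idl (2 ^ 4) := by
      intro he
      apply hne
      intro x
      obtain ⟨h1, h2⟩ := enc_eq_idl _ _ _ he (Q x) (hQ x)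
      constructor
      · have := congrArg P h1
        simpa [S, pointMap, hPQ] using this
      · have h2' : bit (T.z g x) = false := by simpa [Z, hPQ] using h2
        simpa [bit] using h2'
    have hwf : ∀ a < 2 ^ 4, col CR.1 a ≠ 3 := by
      have h := List.all_eq_true.1 two_wf CR hCR
      intro a ha
      simpa using List.all_eq_true.1 h a (List.mem_range.2 ha)
    have hok : ∀ a < 2 ^ 4, okAt CR.1 a (val (S g) (Z g) a) = true := by
      intro a ha
      have h := hg (P a)
      simp only [hC, hQP a ha] at h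
      have e1 : val (S g) (Z g) a >>> 1 = S g a := by
        rw [Nat.shiftRight_eq_div_pow, pow_one]; simp only [val]; cases Z g a <;> simp <;> omega
      have e2 : val (S g) (Z g) a % 2 = (Z g a).toNat := by
        simp only [val]; cases Z g a <;> simp
      simp only [okAt, e1, e2, Nat.beq_eq]
      have e3 : Q (T.σ g (P a)) = S g a := rfl
      rw [e3] at h
      have l1 := col_lt CR.1 (S g a)
      have n1 := hwf _ (hSlt g a)
      have l2 := col_lt CR.1 a
      have n2 := hwf a ha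
      have hzz : Z g a = bit (T.z g (P a)) := rfl
      revert h n1 n2 l1 l2
      rw [hzz]
      generalize col CR.1 (S g a) = c'
      generalize col CR.1 a = c
      intro h l1 n1 l2 n2
      rcases hU2 (T.z g (P a)) with hz | hz <;> rw [hz] at h ⊢ <;>
        interval_cases c <;> interval_cases c' <;>
        first
        | omega
        | (simp [toScalar, hb1, hbe, hε, Ne.symm hε, hS.sq] at h ⊢ <;> decide)
    have hmem : enc (2 ^ 4) (S g) (Z g) ∈ gen (2 ^ 4) CR.1 4 := by
      refine gen_complete 4 le_rfl CR.1 (S g) (Z g) ?_ (hSlt g) ?_ ?_ ?_ hok 4 le_rfl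
      · exact fun a b => pointMap_xor T hP hQ (fun a b ha hb => Nat.xor_lt_two_pow ha hb) hPQ hQP g a b
      · exact fun a b ha hb => pointMap_inj T hPQ hQP g a b ha hb
      · simp [Z, hP0, T.z_zero, hb1]
      · intro a b c
        simp only [Z, hP, ← hbmul, ← mul_assoc]
        rw [T.quad]
    have hst : stabOk 4 CR = true := List.all_eq_true.1 two_stab CR hCR
    exact red_sound (fun g => enc (2 ^ 4) (S g) (Z g)) hmul hone (hp3 ▸ hΓ) CR.2 g hne'
      (List.all_eq_true.1 hst _ hmem)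
  refine chk_sound (fun g => enc (2 ^ 4) (S g) (Z g)) hmul hone (hp3 ▸ hΓ) _ [] twoWit (by simp) ?_ hR
  intro h
  have := two_chk
  rw [h] at this
  simp at this

theorem separated_eight_three {p : ℕ} (hS : Scalars p 2 U ε) [Finite U] [Finite Γ]
    (hΓ : ¬ p ∣ Nat.card Γ) [Finite X] (hU : Nat.card U = 8)
    (hr : Module.finrank (ZMod 2) X = 3) (T : Twist 2 ε Γ X) : T.Separated := by
  classical
  obtain ⟨f, hf⟩ := hS.card
  rw [hU] at hf
  have hp3 : p = 3 := eq_three (m := 2) hS.prime (k := f) (by rw [← hf]; rfl) two_ne_zero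
  obtain ⟨w, hw⟩ : ∃ w : U, w ^ 4 ≠ 1 := by
    by_contra hall
    push Not at hall
    have := hS.cyclic
    obtain ⟨g, hg⟩ := IsCyclic.exists_generator (α := U)
    have h8 : orderOf g = 8 := (orderOf_eq_card_of_forall_mem_zpowers hg).trans hU
    have := orderOf_dvd_of_pow_eq_one (hall g)
    rw [h8] at this
    norm_num at this
  have hz4 : ∀ (g : Γ) (x : X), T.z g x ^ 4 = 1 := by
    intro g x
    rcases T.z_two rfl g x with h | h <;>
      rw [show (4 : ℕ) = 2 * 2 from rfl, pow_mul, h]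
    · exact one_pow 2
    · rw [pow_two]; exact hS.sq
  obtain ⟨P, Q, hP, hQ, hPQ, hQP⟩ := exists_numbering (X := X) 3 hr
  let S := pointMap T P Q
  let Z : ℕ → Bool := fun _ => false
  have hSlt : ∀ g a, S g a < 2 ^ 3 := fun g a => hQ _
  have hmul : ∀ g h, enc (2 ^ 3) (S (g * h)) Z =
      cm (enc (2 ^ 3) (S g) Z) (enc (2 ^ 3) (S h) Z) := by
    intro g h
    rw [← enc_comp _ (by norm_num) _ _ _ _ (hSlt g) (hSlt h)]
    congr 1
    funext a; exact pointMap_mul T hPQ g h a
  have hone : enc (2 ^ 3) (S 1) Z = idl (2 ^ 3) := by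
    simp only [enc, idl]
    apply List.map_congr_left
    intro a ha
    rw [List.mem_range] at ha
    simp [val, S, Z, pointMap, T.σ_one, hQP a ha]
  by_contra hsep
  have hR : ∀ R ∈ eightData.map Prod.snd, ∃ g, enc (2 ^ 3) (S g) Z ∈ R := by
    intro R hR
    obtain ⟨CR, hCR, rfl⟩ := List.mem_map.1 hR
    obtain ⟨C, hC⟩ : ∃ C : X → Option U, C = fun x => toScalar 1 w (col CR.1 (Q x)) := ⟨_, rfl⟩
    have hwf : ∀ a < 2 ^ 3, col CR.1 a = 1 ∨ col CR.1 a = 3 := by
      have h := List.all_eq_true.1 eight_wf CR hCR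
      intro a ha
      simpa using List.all_eq_true.1 h a (List.mem_range.2 ha)
    have hclass : ∀ g : Γ, (∀ x, C (T.σ g x) = (C x).map (T.z g x * ·)) →
        ∀ x, col CR.1 (Q (T.σ g x)) = col CR.1 (Q x) ∧ T.z g x = 1 := by
      intro g hg x
      have h := hg x
      simp only [hC] at h
      rcases hwf _ (hQ (T.σ g x)) with e1 | e1 <;> rcases hwf _ (hQ x) with e2 | e2 <;>
        simp [toScalar, e1, e2] at h ⊢
      · exact h.symm
      · exfalso
        apply hw
        have : w = (T.z g x)⁻¹ := eq_inv_of_mul_eq_one_right h.symm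
        rw [this, inv_pow, hz4, inv_one]
      · exfalso
        apply hw
        rw [h, hz4]
      · exact h
    obtain ⟨g, hg, hne⟩ : ∃ g : Γ, (∀ x, C (T.σ g x) = (C x).map (T.z g x * ·)) ∧
        ¬ ∀ x, T.σ g x = x ∧ T.z g x = 1 := by
      by_contra hall
      exact hsep ⟨C, fun g hg => by_contra fun hn => hall ⟨g, hg, hn⟩⟩
    have hne' : enc (2 ^ 3) (S g) Z ≠ idl (2 ^ 3) := by
      intro he
      apply hne
      intro x
      obtain ⟨h1, -⟩ := enc_eq_idl _ _ _ he (Q x) (hQ x)
      refine ⟨?_, (hclass g hg x).2⟩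
      have := congrArg P h1
      simpa [S, pointMap, hPQ] using this
    have hok : ∀ a < 2 ^ 3, okAt CR.1 a (val (S g) Z a) = true := by
      intro a ha
      have h := (hclass g hg (P a)).1
      rw [hQP a ha] at h
      have e1 : val (S g) Z a >>> 1 = S g a := by
        rw [Nat.shiftRight_eq_div_pow, pow_one]; simp [val, Z]
      have e2 : val (S g) Z a % 2 = 0 := by simp [val, Z]
      have e3 : S g a = Q (T.σ g (P a)) := rfl
      simp only [okAt, e1, e2, Nat.beq_eq, e3, h]
      rcases hwf a ha with e | e <;> rw [e] <;> decide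
    have hmem : enc (2 ^ 3) (S g) Z ∈ gen (2 ^ 3) CR.1 3 := by
      refine gen_complete 3 (by norm_num) CR.1 (S g) Z ?_ (hSlt g) ?_ rfl (fun _ _ _ => rfl) hok 3 le_rfl
      · exact fun a b => pointMap_xor T hP hQ (fun a b ha hb => Nat.xor_lt_two_pow ha hb) hPQ hQP g a b
      · exact fun a b ha hb => pointMap_inj T hPQ hQP g a b ha hb
    have hst : stabOk 3 CR = true := List.all_eq_true.1 eight_stab CR hCR
    exact red_sound (fun g => enc (2 ^ 3) (S g) Z) hmul hone (hp3 ▸ hΓ) CR.2 g hne'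
      (List.all_eq_true.1 hst _ hmem)
  refine chk_sound (fun g => enc (2 ^ 3) (S g) Z) hmul hone (hp3 ▸ hΓ) _ [] eightWit (by simp) ?_ hR
  intro h
  have := eight_chk
  rw [h] at this
  simp at this

end Cfsg.Agent.TwoVecCombo21
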