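import Mathlib

/-!
Certificate engine for small twisted colourings: signed permutations as lists, and a branching
check that no choice of stabiliser elements generates a group of order prime to three.
-/

set_option autoImplicit false

namespace Cfsg.Agent.TwoVecCombo21

/-- Composition of signed permutations, `v(a) = 2 σ(a) + z(a)`. -/
def cm (a b : List ℕ) : List ℕ := b.map fun w => (a.getD (w / 2) 0) ^^^ (w % 2)

def idl (N : ℕ) : List ℕ := (List.range N).map (2 * ·)

def pw (N : ℕ) (v : List ℕ) : ℕ → List ℕ
  | 0 => idl N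
  | m + 1 => cm v (pw N v m)

def wordVal (N : ℕ) (gs : List (List ℕ)) : List ℕ → List ℕ
  | [] => idl N
  | i :: w => cm (gs.getD i (idl N)) (wordVal N gs w)

def par (d a : ℕ) : ℕ := (0x6996 >>> (d &&& a)) &&& 1

/-- The colour of `x` in a packed colouring. -/
def col (C x : ℕ) : ℕ := (C >>> (2 * x)) &&& 3

/-- A colour times a sign: `0` fixed, `1`, `2` exchanged, `3` not allowed to move. -/
def tw (c b : ℕ) : ℕ := (13968 >>> (2 * (2 * c + b))) &&& 3

def okAt (C x v : ℕ) : Bool := Nat.beq (col C (v >>> 1)) (tw (col C x) (v % 2))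

def newVal (s zt d u a : ℕ) : ℕ := 2 * (s ^^^ (u >>> 1)) + (zt ^^^ (u % 2) ^^^ par d a)

def newRow (k : ℕ) (pre : List ℕ) (s zt d : ℕ) : List ℕ :=
  (List.range (2 ^ k)).map fun a => newVal s zt d (pre.getD a 0) a

def allIdx (p : ℕ → ℕ → Bool) : List ℕ → ℕ → Bool
  | [], _ => true
  | u :: l, i => p u i && allIdx p l (i + 1)

def ext (N : ℕ) (C : ℕ) (k : ℕ) (pre : List ℕ) : List (List ℕ) :=
  let top := 2 ^ k
  (List.range N).flatMap fun s =>
    (List.range 2).flatMap fun zt =>
      if okAt C top (2 * s + zt) && !(pre.any fun u => Nat.beq (u >>> 1) s) then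
        (List.range top).filterMap fun d =>
          if allIdx (fun u a => okAt C (top + a) (newVal s zt d u a)) pre 0 then
            some (pre ++ newRow k pre s zt d) else none
      else []

def gen (N : ℕ) (C : ℕ) : ℕ → List (List ℕ)
  | 0 => [[0]]
  | k + 1 => (gen N C k).flatMap (ext N C k)

/-- Every stabiliser element is trivial, has a power in `R`, or has a power of order three. -/
def redOk (N : ℕ) (R : List (List ℕ)) (v : List ℕ) : Bool :=
  v == idl N || (List.range 16).any (fun m => R.contains (pw N v (m + 1))) ||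
    (List.range 16).any fun m =>
      let h := pw N v (m + 1)
      h != idl N && cm h (cm h h) == idl N

def stabOk (n : ℕ) (CR : ℕ × List (List ℕ)) : Bool :=
  (gen (2 ^ n) CR.1 n).all (redOk (2 ^ n) CR.2)

def leafOk (N : ℕ) (gs : List (List ℕ)) (w : List ℕ × ℕ) : Bool :=
  let h := pw N (wordVal N gs w.1) w.2
  h != idl N && cm h (cm h h) == idl N

/-- Consume one witness per branch. -/
def chk (N : ℕ) : List (List (List ℕ)) → List (List ℕ) → List (List ℕ × ℕ) →
    Option (List (List ℕ × ℕ))
  | [], _, _ => none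
  | R :: Rs, b, ws => R.foldl (fun o g =>
      match o with
      | none => none
      | some [] => none
      | some (w :: rest) =>
        if w.1 = [] then chk N Rs (b ++ [g]) rest
        else if leafOk N (b ++ [g]) w then some rest else none) (some ws)

theorem foldl_sound {α β : Type*} (step : Option β → α → Option β) (hnone : ∀ a, step none a = none)
    (R : List α) (o : Option β) (h : R.foldl step o ≠ none) :
    ∀ a ∈ R, ∃ w, step (some w) a ≠ none := by
  induction R generalizing o with
  | nil => simp
  | cons g R ih =>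
    intro a ha
    rw [List.foldl_cons] at h
    rcases List.mem_cons.1 ha with rfl | ha'
    · have hs : step o a ≠ none := by
        intro hn
        rw [hn] at h
        apply h
        clear h ih ha hn
        induction R with
        | nil => rfl
        | cons c R ih => rw [List.foldl_cons, hnone]; exact ih
      cases o with
      | none => exact absurd (hnone a) hs
      | some w => exact ⟨w, hs⟩
    · exact ih (step o g) h a ha'

section sound

variable {Γ : Type*} [Group Γ] [Finite Γ] {N : ℕ} (code : Γ → List ℕ)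
  (hmul : ∀ g h, code (g * h) = cm (code g) (code h)) (hone : code 1 = idl N)
  (h3 : ¬ 3 ∣ Nat.card Γ)

include hmul hone

omit [Finite Γ] in
theorem code_pow (g : Γ) (m : ℕ) : code (g ^ m) = pw N (code g) m := by
  induction m with
  | zero => simpa [pw] using hone
  | succ m ih => rw [pow_succ', hmul, ih, pw]

include h3

theorem no_three (g : Γ) (hne : code g ≠ idl N)
    (hcube : cm (code g) (cm (code g) (code g)) = idl N) : False := by
  apply hne
  have h : code (g ^ 3) = idl N := by rw [pow_succ', pow_two, hmul, hmul]; exact hcube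
  have hc : (Nat.card Γ).Coprime 3 :=
    ((Nat.prime_three.coprime_iff_not_dvd).2 h3).symm
  obtain ⟨m, hm⟩ := exists_pow_eq_self_of_coprime
    (Nat.Coprime.coprime_dvd_right (orderOf_dvd_natCard g) hc.symm)
  rw [← hm, code_pow code hmul hone]
  rw [h]
  clear hm
  induction m with
  | zero => rfl
  | succ m ih =>
    rw [pw, ih, ← hone, ← hmul, one_mul]

omit h3 [Finite Γ] in
theorem word_mem (gs : List (List ℕ)) (hgs : ∀ v ∈ gs, ∃ g, code g = v) (w : List ℕ) :
    ∃ g, code g = wordVal N gs w := by
  induction w with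
  | nil => exact ⟨1, hone⟩
  | cons i w ih =>
    obtain ⟨g, hg⟩ := ih
    have hi : ∃ h, code h = gs.getD i (idl N) := by
      by_cases hi : i < gs.length
      · rw [List.getD_eq_getElem _ _ hi]; exact hgs _ (List.getElem_mem hi)
      · rw [List.getD_eq_default _ _ (by omega)]; exact ⟨1, hone⟩
    obtain ⟨h, hh⟩ := hi
    exact ⟨h * g, by rw [hmul, hh, hg]; rfl⟩

theorem chk_sound (Rs : List (List (List ℕ))) (b : List (List ℕ)) (ws : List (List ℕ × ℕ))
    (hb : ∀ v ∈ b, ∃ g, code g = v) (h : chk N Rs b ws ≠ none)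
    (hR : ∀ R ∈ Rs, ∃ g, code g ∈ R) : False := by
  induction Rs generalizing b ws with
  | nil => exact h rfl
  | cons R Rs ih =>
    rw [chk] at h
    obtain ⟨g, hg⟩ := hR R List.mem_cons_self
    obtain ⟨w, hw⟩ := foldl_sound _ (fun _ => rfl) R (some ws) h (code g) hg
    have hb' : ∀ v ∈ b ++ [code g], ∃ k, code k = v := by
      intro v hv
      rcases List.mem_append.1 hv with hv | hv
      · exact hb v hv
      · rw [List.mem_singleton] at hv; exact ⟨g, hv.symm⟩
    cases w with
    | nil => exact hw rfl
    | cons w rest =>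
      by_cases h0 : w.1 = []
      · refine ih _ rest hb' ?_ (fun R' hR' => hR R' (List.mem_cons_of_mem _ hR'))
        simpa [h0] using hw
      · by_cases hl : leafOk N (b ++ [code g]) w = true
        · obtain ⟨x, hx⟩ := word_mem code hmul hone _ hb' w.1
          simp only [leafOk, Bool.and_eq_true, bne_iff_ne, ne_eq, beq_iff_eq] at hl
          apply no_three code hmul hone h3 (x ^ w.2)
          · rw [code_pow code hmul hone, hx]; exact hl.1
          · rw [code_pow code hmul hone, hx]; exact hl.2
        · simp [h0, hl] at hw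

theorem red_sound (R : List (List ℕ)) (g : Γ) (hne : code g ≠ idl N)
    (h : redOk N R (code g) = true) : ∃ k, code k ∈ R := by
  simp only [redOk, Bool.or_eq_true, beq_iff_eq, List.any_eq_true, List.contains_iff_mem,
    Bool.and_eq_true, bne_iff_ne, ne_eq] at h
  rcases h with (h | ⟨m, -, h⟩) | ⟨m, -, h1, h2⟩
  · exact absurd h hne
  · exact ⟨g ^ (m + 1), by rw [code_pow code hmul hone]; exact h⟩
  · refine absurd (no_three code hmul hone h3 (g ^ (m + 1)) ?_ ?_) id
    · rw [code_pow code hmul hone]; exact h1
    · rw [code_pow code hmul hone]; exact h2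

end sound

/-- The value list of a signed map on `[0, N)`. -/
def val (S : ℕ → ℕ) (Z : ℕ → Bool) (a : ℕ) : ℕ := 2 * S a + (Z a).toNat

theorem small_xor : ∀ k < 4, ∀ a < 2 ^ k, 2 ^ k + a = 2 ^ k ^^^ a ∧
    ∀ d < 16, par (d % 2 ^ k) a = par d a := by decide +kernel

theorem par_build : ∀ f1 f2 f4 f8 : Bool, ∀ a < 16,
    par (f1.toNat + 2 * f2.toNat + 4 * f4.toNat + 8 * f8.toNat) a =
      (xor (a.testBit 0 && f1) (xor (a.testBit 1 && f2)
        (xor (a.testBit 2 && f4) (a.testBit 3 && f8)))).toNat := by
  decide +kernel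

theorem four_split : ∀ a < 16, a = (if Nat.testBit a 0 then 1 else 0) ^^^
    ((if Nat.testBit a 1 then 2 else 0) ^^^
      ((if Nat.testBit a 2 then 4 else 0) ^^^ (if Nat.testBit a 3 then 8 else 0))) := by
  decide +kernel

theorem additive_par (f : ℕ → Bool) (hf : ∀ a b, f (a ^^^ b) = xor (f a) (f b)) (a : ℕ)
    (ha : a < 16) :
    (f a).toNat = par ((f 1).toNat + 2 * (f 2).toNat + 4 * (f 4).toNat + 8 * (f 8).toNat) a := by
  have h0 : f 0 = false := by
    have := hf 0 0
    rw [Nat.xor_self] at this
    cases h : f 0 <;> simp_all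
  have hs : ∀ (b : Bool) (e : ℕ), f (if b then e else 0) = (b && f e) := by
    intro b e; cases b <;> simp [h0]
  rw [par_build _ _ _ _ a ha]
  congr 1
  conv_lhs => rw [four_split a ha]
  rw [hf, hf, hf, hs, hs, hs, hs]

theorem allIdx_of (p : ℕ → ℕ → Bool) (l : List ℕ) (i : ℕ)
    (h : ∀ a < l.length, p (l.getD a 0) (i + a) = true) : allIdx p l i = true := by
  induction l generalizing i with
  | nil => rfl
  | cons u l ih =>
    rw [allIdx, Bool.and_eq_true]
    refine ⟨by simpa using h 0 (by simp), ih (i + 1) fun a ha => ?_⟩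
    have := h (a + 1) (by simpa using ha)
    simpa [Nat.add_assoc, Nat.add_comm 1 a] using this

theorem getD_range_map (f : ℕ → ℕ) (n a : ℕ) (ha : a < n) :
    ((List.range n).map f).getD a 0 = f a := by
  rw [List.getD_eq_getElem?_getD]
  simp [ha]

theorem gen_complete (n : ℕ) (hn : n ≤ 4) (C : ℕ) (S : ℕ → ℕ) (Z : ℕ → Bool)
    (hS : ∀ a b, S (a ^^^ b) = S a ^^^ S b) (hlt : ∀ a, S a < 2 ^ n)
    (hinj : ∀ a b, a < 2 ^ n → b < 2 ^ n → S a = S b → a = b)
    (hZ0 : Z 0 = false)
    (hq : ∀ a b c, xor (Z (a ^^^ b ^^^ c)) (xor (Z a) (xor (Z b) (Z c))) =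
      xor (Z (a ^^^ b)) (xor (Z (a ^^^ c)) (Z (b ^^^ c))))
    (hok : ∀ a < 2 ^ n, okAt C a (val S Z a) = true) :
    ∀ k ≤ n, (List.range (2 ^ k)).map (val S Z) ∈ gen (2 ^ n) C k := by
  intro k
  induction k with
  | zero =>
    intro _
    have h0 : S 0 = 0 := by
      have := hS 0 0
      rw [Nat.xor_self, Nat.xor_self] at this
      exact this
    simp [gen, val, h0, hZ0]
  | succ k ih =>
    intro hk
    rw [gen, List.mem_flatMap]
    refine ⟨_, ih (by omega), ?_⟩
    have hk4 : k < 4 := by omega
    have hle : 2 ^ (k + 1) ≤ 2 ^ n := Nat.pow_le_pow_right (by norm_num) hk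
    have hsum : 2 ^ (k + 1) = 2 ^ k + 2 ^ k := by rw [pow_succ]; omega
    have hpos : 0 < 2 ^ k := Nat.two_pow_pos k
    have h16 : 2 ^ k ≤ 16 := by
      calc 2 ^ k ≤ 2 ^ 4 := Nat.pow_le_pow_right (by norm_num) (by omega)
        _ = 16 := by norm_num
    let top := 2 ^ k
    let B : ℕ → Bool := fun a => xor (Z (top ^^^ a)) (xor (Z top) (Z a))
    have hB : ∀ a b, B (a ^^^ b) = xor (B a) (B b) := by
      intro a b
      simp only [B]
      have h := hq top a b
      rw [← Nat.xor_assoc]
      revert h
      generalize Z (top ^^^ a ^^^ b) = A; generalize Z (top ^^^ a) = A1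
      generalize Z (top ^^^ b) = A2; generalize Z (a ^^^ b) = A3
      generalize Z top = A4; generalize Z a = A5; generalize Z b = A6
      revert A A1 A2 A3 A4 A5 A6; decide
    let d0 := (B 1).toNat + 2 * (B 2).toNat + 4 * (B 4).toNat + 8 * (B 8).toNat
    have hd0 : d0 < 16 := by
      simp only [d0]
      cases B 1 <;> cases B 2 <;> cases B 4 <;> cases B 8 <;> simp
    have hzt : (Z top).toNat < 2 := by cases Z top <;> simp
    have hv : ∀ a < 2 ^ k, (newRow k ((List.range (2 ^ k)).map (val S Z)) (S top) (Z top).toNat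
        (d0 % 2 ^ k)).getD a 0 = val S Z (2 ^ k + a) := by
      intro a ha
      rw [newRow, getD_range_map _ _ _ ha, getD_range_map _ _ _ ha, newVal, Nat.shiftRight_eq_div_pow,
        pow_one]
      obtain ⟨hx, hp⟩ := small_xor k hk4 a ha
      rw [hp d0 hd0, hx]
      have hpa : par d0 a = (B a).toNat := (additive_par B hB a (by omega)).symm
      rw [hpa]
      simp only [val, B, top, hS]
      generalize Z (2 ^ k ^^^ a) = A; generalize Z (2 ^ k) = A1; generalize Z a = A2
      have e1 : (2 * S a + A2.toNat) / 2 = S a := by cases A2 <;> simp <;> omega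
      have e2 : (2 * S a + A2.toNat) % 2 = A2.toNat := by cases A2 <;> simp
      rw [e1, e2]
      congr 1
      cases A <;> cases A1 <;> cases A2 <;> decide
    rw [ext, List.mem_flatMap]
    refine ⟨S top, List.mem_range.2 (hlt _), ?_⟩
    rw [List.mem_flatMap]
    refine ⟨(Z top).toNat, List.mem_range.2 hzt, ?_⟩
    have hc : (okAt C (2 ^ k) (2 * S top + (Z top).toNat) &&
        !(((List.range (2 ^ k)).map (val S Z)).any fun u => Nat.beq (u >>> 1) (S top))) = true := by
      rw [Bool.and_eq_true]
      refine ⟨hok (2 ^ k) (by omega), ?_⟩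
      rw [Bool.not_eq_true', List.any_eq_false]
      intro u hu
      obtain ⟨a, ha, rfl⟩ := List.mem_map.1 hu
      rw [List.mem_range] at ha
      have e1 : val S Z a >>> 1 = S a := by
        rw [Nat.shiftRight_eq_div_pow, pow_one]; simp only [val]; cases Z a <;> simp <;> omega
      rw [e1]; simp only [Nat.beq_eq]
      intro he
      have := hinj a top (by omega) (by simp only [top]; omega) he
      simp only [top] at this
      omega
    rw [if_pos hc, List.mem_filterMap]
    refine ⟨d0 % 2 ^ k, List.mem_range.2 (Nat.mod_lt _ hpos), ?_⟩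
    have hall : allIdx (fun u a => okAt C (2 ^ k + a) (newVal (S top) (Z top).toNat (d0 % 2 ^ k) u a))
        ((List.range (2 ^ k)).map (val S Z)) 0 = true := by
      apply allIdx_of
      intro a ha
      rw [List.length_map, List.length_range] at ha
      have h := hv a ha
      rw [newRow, getD_range_map _ _ _ ha] at h
      rw [Nat.zero_add, h]
      exact hok _ (by omega)
    rw [if_pos hall, Option.some.injEq]
    rw [hsum, List.range_add, List.map_append, List.map_map]
    congr 1
    apply List.ext_getElem
    · simp [newRow]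
    · intro a h1 h2
      have ha : a < 2 ^ k := by simpa using h2
      have := hv a ha
      rw [List.getD_eq_getElem _ _ h1] at this
      simpa using this

end Cfsg.Agent.TwoVecCombo21
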