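import Cfsg.Agent.Lib.ThreeVec75Combo

/-!
A colouring by `0` and `1` of a binary space of dimension at least seven which is preserved only by
trivial twisted maps: the uncoloured set is rigid.
-/

set_option autoImplicit false

namespace Cfsg.Agent.TwoVecCombo72

open Cfsg.Agent.ThreeVec75
open scoped symmDiff

section Graph

/-- The oriented edges: a path, one closing edge and two chords. -/
def P (n i j : ℕ) : Prop :=
  j = i + 1 ∨ (i = 0 ∧ j + 1 = n) ∨ (i = 0 ∧ j = 3) ∨ (i = 1 ∧ j = 5)

/-- Adjacency. -/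
def Adj {n : ℕ} (i j : Fin n) : Prop := P n i j ∨ P n j i

variable {n : ℕ}

theorem adj_symm {i j : Fin n} (h : Adj i j) : Adj j i := h.symm

theorem adj_ne {i j : Fin n} (hn : 7 ≤ n) (h : Adj i j) : i ≠ j := by
  rintro rfl
  unfold Adj P at h
  omega

theorem no_triangle {a b c : Fin n} (hn : 7 ≤ n) (h1 : Adj a b) (h2 : Adj b c) : ¬ Adj a c := by
  intro h3
  unfold Adj P at h1 h2 h3
  have := a.isLt; have := b.isLt; have := c.isLt
  omega

theorem two_nbrs (hn : 7 ≤ n) (i : Fin n) : ∃ j k, j ≠ k ∧ Adj i j ∧ Adj i k := by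
  by_cases h0 : (i : ℕ) = 0
  · refine ⟨⟨1, by omega⟩, ⟨n - 1, by omega⟩, ?_, Or.inl ?_, Or.inl ?_⟩
    · simp [Fin.ext_iff]; omega
    · unfold P; left; simp; omega
    · unfold P; right; left; simp; omega
  by_cases h1 : (i : ℕ) + 1 = n
  · refine ⟨⟨n - 2, by omega⟩, ⟨0, by omega⟩, ?_, Or.inr ?_, Or.inr ?_⟩
    · simp [Fin.ext_iff]; omega
    · unfold P; left; simp; omega
    · unfold P; right; left; simp; omega
  refine ⟨⟨i + 1, by omega⟩, ⟨i - 1, by omega⟩, ?_, Or.inl ?_, Or.inr ?_⟩
  · simp [Fin.ext_iff]; omega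
  · unfold P; left; simp
  · unfold P; left; simp; omega

/-- An injective endomorphism of the graph fixing the support of the extra point is trivial. -/
theorem rigid_graph (hn : 7 ≤ n) (π : Fin n → Fin n) (hinj : Function.Injective π)
    (hadj : ∀ i j, Adj i j → Adj (π i) (π j))
    (hF : ∀ i : Fin n, ((i : ℕ) = 1 ∨ (3 ≤ (i : ℕ) ∧ (i : ℕ) ≤ 6)) →
      ((π i : ℕ) = 1 ∨ (3 ≤ (π i : ℕ) ∧ (π i : ℕ) ≤ 6))) :
    ∀ i, π i = i := by
  let v : ∀ k, k < n → Fin n := fun k h => ⟨k, h⟩
  -- the vertices with three neighbours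
  have big : ∀ i a b c : Fin n, a ≠ b → a ≠ c → b ≠ c → Adj i a → Adj i b → Adj i c →
      (i : ℕ) = 0 ∨ (i : ℕ) = 1 ∨ (i : ℕ) = 3 ∨ (i : ℕ) = 5 := by
    intro i a b c hab hac hbc h1 h2 h3
    have := a.isLt; have := b.isLt; have := c.isLt; have := i.isLt
    simp only [ne_eq, Fin.ext_iff] at hab hac hbc
    unfold Adj P at h1 h2 h3
    omega
  have adjv : ∀ i j (hi : i < n) (hj : j < n), P n i j → Adj (π (v i hi)) (π (v j hj)) :=
    fun i j hi hj h => hadj _ _ (Or.inl h)
  have inj' : ∀ i j (hi : i < n) (hj : j < n), i ≠ j → (π (v i hi) : ℕ) ≠ (π (v j hj) : ℕ) :=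
    fun i j hi hj h e => h (congrArg Fin.val (hinj (Fin.ext e)))
  have h0 : 0 < n := by omega
  have h1 : 1 < n := by omega
  have h2 : 2 < n := by omega
  have h3 : 3 < n := by omega
  have h4 : 4 < n := by omega
  have h5 : 5 < n := by omega
  have h6 : 6 < n := by omega
  have hl : n - 1 < n := by omega
  have a01 := adjv 0 1 h0 h1 (by unfold P; omega)
  have a03 := adjv 0 3 h0 h3 (by unfold P; omega)
  have a0l := adjv 0 (n - 1) h0 hl (by unfold P; omega)
  have a12 := adjv 1 2 h1 h2 (by unfold P; omega)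
  have a15 := adjv 1 5 h1 h5 (by unfold P; omega)
  have a23 := adjv 2 3 h2 h3 (by unfold P; omega)
  have a34 := adjv 3 4 h3 h4 (by unfold P; omega)
  have a45 := adjv 4 5 h4 h5 (by unfold P; omega)
  have a56 := adjv 5 6 h5 h6 (by unfold P; omega)
  have ne' : ∀ i j (hi : i < n) (hj : j < n), i ≠ j → π (v i hi) ≠ π (v j hj) :=
    fun i j hi hj h e => inj' i j hi hj h (congrArg Fin.val e)
  have b0 := big _ _ _ _ (ne' 1 3 h1 h3 (by omega)) (ne' 1 (n - 1) h1 hl (by omega))
    (ne' 3 (n - 1) h3 hl (by omega)) a01 a03 a0l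
  have b1 := big _ _ _ _ (ne' 0 2 h0 h2 (by omega)) (ne' 0 5 h0 h5 (by omega))
    (ne' 2 5 h2 h5 (by omega)) (adj_symm a01) a12 a15
  have b3 := big _ _ _ _ (ne' 0 2 h0 h2 (by omega)) (ne' 0 4 h0 h4 (by omega))
    (ne' 2 4 h2 h4 (by omega)) (adj_symm a03) (adj_symm a23) a34
  have b5 := big _ _ _ _ (ne' 1 4 h1 h4 (by omega)) (ne' 1 6 h1 h6 (by omega))
    (ne' 4 6 h4 h6 (by omega)) (adj_symm a15) (adj_symm a45) a56
  have f1 := hF (v 1 h1) (Or.inl rfl)
  have e01 := inj' 0 1 h0 h1 (by omega)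
  have e03 := inj' 0 3 h0 h3 (by omega)
  have e05 := inj' 0 5 h0 h5 (by omega)
  have e13 := inj' 1 3 h1 h3 (by omega)
  have e15 := inj' 1 5 h1 h5 (by omega)
  have e35 := inj' 3 5 h3 h5 (by omega)
  have k01 : (π (v 0 h0) : ℕ) = 0 ∧ (π (v 1 h1) : ℕ) = 1 ∧ (π (v 3 h3) : ℕ) = 3 ∧
      (π (v 5 h5) : ℕ) = 5 := by
    unfold Adj P at a01 a03 a15
    omega
  obtain ⟨p0, p1, p3, p5⟩ := k01
  have p2 : (π (v 2 h2) : ℕ) = 2 := by
    have := inj' 2 0 h2 h0 (by omega)
    unfold Adj P at a12 a23
    omega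
  have p4 : (π (v 4 h4) : ℕ) = 4 := by
    have := inj' 4 1 h4 h1 (by omega)
    have := inj' 4 0 h4 h0 (by omega)
    unfold Adj P at a34 a45
    omega
  intro i
  refine Fin.ext ?_
  suffices ∀ k (hk : k < n), (π (v k hk) : ℕ) = k from this i i.isLt
  intro k
  induction k using Nat.strong_induction_on with
  | _ k IH =>
    intro hk
    by_cases hk5 : k ≤ 5
    · interval_cases k <;> assumption
    · have q1 := IH (k - 1) (by omega) (by omega)
      have q2 := IH (k - 2) (by omega) (by omega)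
      have := inj' k (k - 2) hk (by omega) (by omega)
      have := inj' k 1 hk h1 (by omega)
      have := inj' k 0 hk h0 (by omega)
      have hA := adjv (k - 1) k (by omega) hk (by unfold P; omega)
      unfold Adj P at hA
      have := (π (v k hk)).isLt
      omega

end Graph

section Shapes

variable {n : ℕ}

/-- The support of the extra point. -/
def F (n : ℕ) : Finset (Fin n) :=
  Finset.univ.filter fun i => (i : ℕ) = 1 ∨ (3 ≤ (i : ℕ) ∧ (i : ℕ) ≤ 6)

theorem card_F (hn : 7 ≤ n) : (F n).card = 5 := by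
  have : F n = ({1, 3, 4, 5, 6} : Finset ℕ).attachFin (fun m hm => by
      simp only [Finset.mem_insert, Finset.mem_singleton] at hm; omega) := by
    ext i
    simp only [F, Finset.mem_filter, Finset.mem_univ, true_and, Finset.mem_attachFin,
      Finset.mem_insert, Finset.mem_singleton]
    omega
  rw [this, Finset.card_attachFin]
  rfl

/-- The supports of the uncoloured points. -/
def Shape (A : Finset (Fin n)) : Prop :=
  (∃ i, A = {i}) ∨ (∃ i j, Adj i j ∧ A = {i, j}) ∨ A = F n

theorem shape_card (hn : 7 ≤ n) {A : Finset (Fin n)} (h : Shape A) :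
    A.card = 1 ∨ A.card = 2 ∨ (A.card = 5 ∧ A = F n) := by
  rcases h with ⟨i, rfl⟩ | ⟨i, j, hij, rfl⟩ | rfl
  · exact Or.inl (Finset.card_singleton i)
  · exact Or.inr (Or.inl (Finset.card_pair (adj_ne hn hij)))
  · exact Or.inr (Or.inr ⟨card_F hn, rfl⟩)

theorem card_symmDiff' (A B : Finset (Fin n)) :
    (A ∆ B).card + 2 * (A ∩ B).card = A.card + B.card := by
  rw [symmDiff_def, Finset.sup_eq_union, Finset.card_union_of_disjoint disjoint_sdiff_sdiff]
  have h1 := Finset.card_sdiff_add_card_inter A B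
  have h2 := Finset.card_sdiff_add_card_inter B A
  rw [Finset.inter_comm B A] at h2
  omega

theorem shape_edge (hn : 7 ≤ n) {A : Finset (Fin n)} (h : Shape A) (hc : A.card = 2) {i j : Fin n}
    (hi : i ∈ A) (hj : j ∈ A) (hne : i ≠ j) : Adj i j := by
  rcases h with ⟨k, rfl⟩ | ⟨k, l, hkl, rfl⟩ | rfl
  · simp at hc
  · simp only [Finset.mem_insert, Finset.mem_singleton] at hi hj
    rcases hi with rfl | rfl <;> rcases hj with rfl | rfl
    · exact absurd rfl hne
    · exact hkl
    · exact adj_symm hkl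
    · exact absurd rfl hne
  · rw [card_F hn] at hc; omega

/-- The three shapes summing to zero are two points and their edge. -/
theorem triple (hn : 7 ≤ n) {A B : Finset (Fin n)} (hA : Shape A) (hB : Shape B)
    (hAB : Shape (A ∆ B)) :
    (A.card = 1 ∧ B.card = 1) ∨ (A.card = 1 ∧ B.card = 2 ∧ A ⊆ B) ∨
      (A.card = 2 ∧ B.card = 1 ∧ B ⊆ A) := by
  have hc := card_symmDiff' A B
  have hi1 := Finset.card_le_card (Finset.inter_subset_left : A ∩ B ⊆ A)
  have hi2 := Finset.card_le_card (Finset.inter_subset_right : A ∩ B ⊆ B)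
  rcases shape_card hn hA with a | a | ⟨a, hAF⟩ <;>
    rcases shape_card hn hB with b | b | ⟨b, hBF⟩ <;>
    rcases shape_card hn hAB with c | c | ⟨c, hcF⟩ <;> try omega
  all_goals first
    | exact Or.inl ⟨a, b⟩
    | (rw [hAF, hBF, symmDiff_self, Finset.bot_eq_empty, Finset.card_empty] at c; omega)
    | exact Or.inr (Or.inl ⟨a, b, Finset.inter_eq_left.1
        (Finset.eq_of_subset_of_card_le Finset.inter_subset_left (by omega))⟩)
    | exact Or.inr (Or.inr ⟨a, b, Finset.inter_eq_right.1
        (Finset.eq_of_subset_of_card_le Finset.inter_subset_right (by omega))⟩)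
    | (exfalso
       have h0 : B = (⊥ : Finset (Fin n)) := symmDiff_eq_left.1 (hcF.trans hAF.symm)
       rw [h0, Finset.bot_eq_empty, Finset.card_empty] at b
       omega)
    | (exfalso
       have h0 : A = (⊥ : Finset (Fin n)) := symmDiff_eq_right.1 (hcF.trans hBF.symm)
       rw [h0, Finset.bot_eq_empty, Finset.card_empty] at a
       omega)
    | (exfalso
       have h1 : (A \ B).card = 1 := by
         have := Finset.card_sdiff_add_card_inter A B; omega
       have h2 : (B \ A).card = 1 := by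
         have := Finset.card_sdiff_add_card_inter B A
         rw [Finset.inter_comm B A] at this; omega
       obtain ⟨x, hx⟩ := Finset.card_eq_one.1 h1
       obtain ⟨z, hz⟩ := Finset.card_eq_one.1 h2
       obtain ⟨y, hy⟩ := Finset.card_eq_one.1 (show (A ∩ B).card = 1 by omega)
       have hx' : x ∈ A ∧ x ∉ B := Finset.mem_sdiff.1 (hx ▸ Finset.mem_singleton_self x)
       have hz' : z ∈ B ∧ z ∉ A := Finset.mem_sdiff.1 (hz ▸ Finset.mem_singleton_self z)
       have hy' : y ∈ A ∧ y ∈ B := Finset.mem_inter.1 (hy ▸ Finset.mem_singleton_self y)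
       exact no_triangle hn (shape_edge hn hA a hx'.1 hy'.1 (fun e => hx'.2 (e ▸ hy'.2)))
         (shape_edge hn hB b hy'.2 hz'.1 (fun e => hz'.2 (e ▸ hy'.1)))
         (shape_edge hn hAB c (Finset.mem_symmDiff.2 (Or.inl hx'))
           (Finset.mem_symmDiff.2 (Or.inr hz')) (fun e => hx'.2 (e ▸ hz'.1))))

end Shapes

section Space

universe u v w

variable {X : Type w} [AddCommGroup X] [Module (ZMod 2) X]

theorem add_self (x : X) : x + x = 0 := ZModModule.add_self x

variable {n : ℕ} (b : Module.Basis (Fin n) (ZMod 2) X)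

/-- The support of a vector. -/
noncomputable def sp (x : X) : Finset (Fin n) := Finset.univ.filter fun i => b.repr x i = 1

theorem mem_sp {x : X} {i : Fin n} : i ∈ sp b x ↔ b.repr x i = 1 := by simp [sp]

theorem sp_inj : Function.Injective (sp b) := by
  intro x y h
  refine b.ext_elem fun i => ?_
  have hi : (b.repr x i = 1) ↔ (b.repr y i = 1) := by rw [← mem_sp, ← mem_sp, h]
  revert hi
  generalize b.repr x i = u
  generalize b.repr y i = v
  revert u v
  decide

theorem sp_add (x y : X) : sp b (x + y) = sp b x ∆ sp b y := by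
  ext i
  rw [Finset.mem_symmDiff, mem_sp, mem_sp, mem_sp, map_add, Finsupp.add_apply]
  generalize b.repr x i = u
  generalize b.repr y i = v
  revert u v
  decide

theorem sp_basis (i : Fin n) : sp b (b i) = {i} := by
  ext j
  rw [mem_sp, Module.Basis.repr_self, Finsupp.single_apply, Finset.mem_singleton]
  split_ifs with h
  · simp [h]
  · simp [Ne.symm h]

theorem sp_sum (A : Finset (Fin n)) : sp b (∑ i ∈ A, b i) = A := by
  induction A using Finset.induction_on with
  | empty => ext i; simp [mem_sp]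
  | insert i A hi ih =>
    rw [Finset.sum_insert hi, sp_add, sp_basis, ih]
    ext j
    simp only [Finset.mem_symmDiff, Finset.mem_singleton, Finset.mem_insert]
    by_cases hj : j = i
    · subst hj; simp [hi]
    · simp [hj]

/-- The uncoloured points. -/
def InR (x : X) : Prop := Shape (sp b x)

variable (hn : 7 ≤ n)
include hn

theorem not_zero : ¬ InR b 0 := by
  intro h
  have h0 : sp b 0 = ∅ := by ext i; simp [mem_sp]
  rcases shape_card hn h with e | e | ⟨e, -⟩ <;> rw [h0, Finset.card_empty] at e <;> omega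

omit hn in
theorem basis_mem (i : Fin n) : InR b (b i) := Or.inl ⟨i, sp_basis b i⟩

theorem pair_mem {i j : Fin n} (h : Adj i j) : InR b (b i + b j) := by
  refine Or.inr (Or.inl ⟨i, j, h, ?_⟩)
  rw [sp_add, sp_basis, sp_basis]
  ext k
  simp only [Finset.mem_symmDiff, Finset.mem_singleton, Finset.mem_insert]
  have := adj_ne hn h
  by_cases hk : k = i
  · subst hk; simp [this]
  · simp [hk]

omit hn in
/-- Two different lines of three points through `x`. -/
def TwoLines (x : X) : Prop :=
  ∃ y z, InR b y ∧ InR b z ∧ InR b (x + y) ∧ InR b (x + z) ∧ y ≠ z ∧ z ≠ x + y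

theorem basis_twoLines (i : Fin n) : TwoLines b (b i) := by
  obtain ⟨j, k, hjk, hj, hk⟩ := two_nbrs hn i
  refine ⟨b j, b k, basis_mem b j, basis_mem b k, pair_mem b hn hj, pair_mem b hn hk,
    fun e => hjk (b.injective e), fun e => ?_⟩
  have h1 := congrArg (fun x => (sp b x).card) e
  simp only [sp_basis, Finset.card_singleton] at h1
  have h2 := pair_mem b hn hj
  rcases h2 with ⟨l, hl⟩ | ⟨a, c, hac, hl⟩ | hl
  · have : sp b (b i + b j) = {i} ∆ {j} := by rw [sp_add, sp_basis, sp_basis]
    rw [hl] at this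
    have h3 := card_symmDiff' ({i} : Finset (Fin n)) {j}
    rw [← this, Finset.disjoint_iff_inter_eq_empty.1
      (Finset.disjoint_singleton.2 (adj_ne hn hj))] at h3
    simp at h3
  · rw [hl, Finset.card_pair (adj_ne hn hac)] at h1; omega
  · rw [hl, card_F hn] at h1; omega

theorem twoLines_basis {x : X} (hx : InR b x) (h : TwoLines b x) : ∃ i, x = b i := by
  obtain ⟨y, z, hy, hz, hxy, hxz, hne, hne'⟩ := h
  rcases shape_card hn hx with e | e | ⟨e, -⟩
  · obtain ⟨i, hi⟩ := Finset.card_eq_one.1 e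
    exact ⟨i, sp_inj b (by rw [hi, sp_basis])⟩
  · exfalso
    unfold InR at hxy hxz
    rw [sp_add] at hxy hxz
    obtain ⟨hy1, hys⟩ : (sp b y).card = 1 ∧ sp b y ⊆ sp b x := by
      rcases triple hn hx hy hxy with ⟨a, -⟩ | ⟨a, -, -⟩ | ⟨-, c, d⟩ <;> first | omega | exact ⟨c, d⟩
    obtain ⟨hz1, hzs⟩ : (sp b z).card = 1 ∧ sp b z ⊆ sp b x := by
      rcases triple hn hx hz hxz with ⟨a, -⟩ | ⟨a, -, -⟩ | ⟨-, c, d⟩ <;> first | omega | exact ⟨c, d⟩
    obtain ⟨i, hi⟩ := Finset.card_eq_one.1 hy1
    obtain ⟨k, hk⟩ := Finset.card_eq_one.1 hz1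
    rw [hi, Finset.singleton_subset_iff] at hys
    rw [hk, Finset.singleton_subset_iff] at hzs
    refine hne' (sp_inj b ?_)
    rw [sp_add, hk, hi]
    have hki : k ≠ i := fun h0 => hne (sp_inj b (by rw [hi, hk, h0]))
    have hx2 : sp b x = {i, k} := (Finset.eq_of_subset_of_card_le
      (by simp [Finset.insert_subset_iff, hys, hzs]) (by rw [Finset.card_pair hki.symm, e])).symm
    rw [hx2]
    ext j
    simp only [Finset.mem_symmDiff, Finset.mem_singleton, Finset.mem_insert]
    by_cases hj : j = i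
    · subst hj; simp [hki.symm]
    · simp [hj]
  · exfalso
    unfold InR at hxy
    rw [sp_add] at hxy
    rcases triple hn hx hy hxy with ⟨a, -⟩ | ⟨a, -, -⟩ | ⟨a, -, -⟩ <;> omega

/-- An invertible additive map preserving the uncoloured points is trivial. -/
theorem rigid (σ τ : X →+ X) (hts : ∀ x, τ (σ x) = x)
    (hR : ∀ x, InR b (σ x) ↔ InR b x) : ∀ x, σ x = x := by
  have hT : ∀ x, TwoLines b x → TwoLines b (σ x) := by
    rintro x ⟨y, z, h1, h2, h3, h4, h5, h6⟩
    refine ⟨σ y, σ z, (hR y).2 h1, (hR z).2 h2, ?_, ?_, ?_, ?_⟩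
    · rw [← map_add]; exact (hR _).2 h3
    · rw [← map_add]; exact (hR _).2 h4
    · intro e; exact h5 (by rw [← hts y, e, hts])
    · intro e; rw [← map_add] at e; exact h6 (by rw [← hts z, e, hts])
  have hπ : ∀ i, ∃ k, σ (b i) = b k := fun i =>
    twoLines_basis b hn ((hR _).2 (basis_mem b i)) (hT _ (basis_twoLines b hn i))
  choose π hπ using hπ
  have hinj : Function.Injective π := fun i k e => b.injective (by
    rw [← hts (b i), ← hts (b k), hπ, hπ, e])
  have hadj : ∀ i j, Adj i j → Adj (π i) (π j) := by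
    intro i j h
    have h1 : InR b (σ (b i + b j)) := (hR _).2 (pair_mem b hn h)
    have hne : π i ≠ π j := fun e => adj_ne hn h (hinj e)
    rw [map_add, hπ, hπ] at h1
    have h2 : sp b (b (π i) + b (π j)) = {π i, π j} := by
      rw [sp_add, sp_basis, sp_basis]
      ext k
      simp only [Finset.mem_symmDiff, Finset.mem_singleton, Finset.mem_insert]
      by_cases hk : k = π i
      · subst hk; simp [hne]
      · simp [hk]
    unfold InR at h1
    rw [h2] at h1
    exact shape_edge hn h1 (Finset.card_pair hne) (by simp) (by simp) hne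
  -- the extra point is the only one on no line
  have hmap : σ (∑ i ∈ F n, b i) = ∑ k ∈ (F n).image π, b k := by
    rw [map_sum, Finset.sum_image fun i _ k _ e => hinj e]
    exact Finset.sum_congr rfl fun i _ => hπ i
  have hF : (F n).image π = F n := by
    have h1 : InR b (σ (∑ i ∈ F n, b i)) :=
      (hR _).2 (by unfold InR; rw [sp_sum]; exact Or.inr (Or.inr rfl))
    unfold InR at h1
    rw [hmap, sp_sum] at h1
    rcases shape_card hn h1 with e | e | ⟨-, e⟩
    · rw [Finset.card_image_of_injective _ hinj, card_F hn] at e; omega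
    · rw [Finset.card_image_of_injective _ hinj, card_F hn] at e; omega
    · exact e
  have hid := rigid_graph hn π hinj hadj fun i hi => by
    have h1 : π i ∈ F n := by
      rw [← hF]
      exact Finset.mem_image_of_mem _ (by simpa [F] using hi)
    simpa [F] using h1
  intro x
  conv_lhs => rw [← b.sum_repr x]
  conv_rhs => rw [← b.sum_repr x]
  rw [map_sum]
  refine Finset.sum_congr rfl fun i _ => ?_
  rcases (show ∀ u : ZMod 2, u = 0 ∨ u = 1 by decide) (b.repr x i) with h | h <;> rw [h]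
  · simp
  · rw [one_smul, hπ, hid i]

theorem card_R [Finite X] : Nat.card {x : X // x = 0 ∨ InR b x} ≤ 2 * n + 4 := by
  classical
  let el : Option ((Fin n ⊕ Fin n) ⊕ Fin 3) → {x : X // x = 0 ∨ InR b x} := fun o =>
    match o with
    | none => ⟨0, Or.inl rfl⟩
    | some (.inl (.inl i)) => ⟨b i, Or.inr (basis_mem b i)⟩
    | some (.inl (.inr i)) =>
      if h : (i : ℕ) + 1 < n then ⟨b i + b ⟨i + 1, h⟩, Or.inr (pair_mem b hn (Or.inl (Or.inl rfl)))⟩
      else ⟨b ⟨0, by omega⟩ + b i, Or.inr (pair_mem b hn (Or.inl (Or.inr (Or.inl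
        ⟨rfl, by have := i.isLt; omega⟩))))⟩
    | some (.inr k) =>
      if k = 0 then ⟨b ⟨0, by omega⟩ + b ⟨3, by omega⟩, Or.inr (pair_mem b hn
        (Or.inl (Or.inr (Or.inr (Or.inl ⟨rfl, rfl⟩)))))⟩
      else if k = 1 then ⟨b ⟨1, by omega⟩ + b ⟨5, by omega⟩, Or.inr (pair_mem b hn
        (Or.inl (Or.inr (Or.inr (Or.inr ⟨rfl, rfl⟩)))))⟩
      else ⟨∑ i ∈ F n, b i, Or.inr (by unfold InR; rw [sp_sum]; exact Or.inr (Or.inr rfl))⟩
  refine (Nat.card_le_card_of_surjective el ?_).trans (by simp; omega)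
  rintro ⟨x, rfl | hx⟩
  · exact ⟨none, rfl⟩
  obtain ⟨i, hi⟩ | ⟨i, j, hij, hi⟩ | hi := hx
  · exact ⟨some (.inl (.inl i)), Subtype.ext (sp_inj b (by rw [hi]; exact sp_basis b i))⟩
  · have key : ∀ i j : Fin n, P n i j → ∀ x, sp b x = {i, j} → ∀ h, ∃ a, el a = ⟨x, h⟩ := by
      intro i j hP x hx h
      have hxe : x = b i + b j := sp_inj b (by
        rw [hx, sp_add, sp_basis, sp_basis]
        ext k
        simp only [Finset.mem_symmDiff, Finset.mem_singleton, Finset.mem_insert]
        have := adj_ne hn (Or.inl hP)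
        by_cases hk : k = i
        · subst hk; simp [this]
        · simp [hk])
      subst hxe
      rcases hP with e | ⟨e, e'⟩ | ⟨e, e'⟩ | ⟨e, e'⟩
      · refine ⟨some (.inl (.inr i)), ?_⟩
        have := j.isLt
        simp only [el, dif_pos (show (i : ℕ) + 1 < n by omega)]
        exact Subtype.ext (congrArg (fun t => b i + b t) (Fin.ext e.symm))
      · refine ⟨some (.inl (.inr j)), ?_⟩
        simp only [el, dif_neg (show ¬ (j : ℕ) + 1 < n by omega)]
        exact Subtype.ext (congrArg (fun t => b t + b j) (Fin.ext e.symm))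
      · exact ⟨some (.inr 0), Subtype.ext (congrArg₂ (· + ·) (congrArg b (Fin.ext e.symm))
          (congrArg b (Fin.ext e'.symm)))⟩
      · exact ⟨some (.inr 1), Subtype.ext (congrArg₂ (· + ·) (congrArg b (Fin.ext e.symm))
          (congrArg b (Fin.ext e'.symm)))⟩
    rcases hij with h | h
    · exact key i j h x hi _
    · exact key j i h x (by rw [hi, Finset.pair_comm]) _
  · exact ⟨some (.inr 2), Subtype.ext (sp_inj b (by rw [hi]; simp only [el]; simp [sp_sum]))⟩

theorem avoid [Finite X] (s : List X) (hs : s.length ≤ 4) :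
    ∃ a : X, ∀ c ∈ s, a + c ≠ 0 ∧ ¬ InR b (a + c) := by
  classical
  by_contra hno
  push Not at hno
  have := Fintype.ofFinite X
  have hc := card_R b hn
  rw [Nat.card_eq_fintype_card, Fintype.card_subtype] at hc
  set T := Finset.univ.filter fun x : X => x = 0 ∨ InR b x with hT
  have h1 : (Finset.univ : Finset X) ⊆ s.toFinset.biUnion fun c => T.image (· + c) := by
    intro a _
    obtain ⟨c, hc, h⟩ := hno a
    refine Finset.mem_biUnion.2 ⟨c, List.mem_toFinset.2 hc, Finset.mem_image.2 ⟨a + c, ?_, ?_⟩⟩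
    · rw [hT, Finset.mem_filter]
      exact ⟨Finset.mem_univ _, or_iff_not_imp_left.2 h⟩
    · rw [add_assoc, add_self, add_zero]
  have h2 := (Finset.card_le_card h1).trans (Finset.card_biUnion_le_card_mul _ _ T.card
    fun c _ => Finset.card_image_le)
  rw [Finset.card_univ, Module.card_fintype b, ZMod.card, Fintype.card_fin] at h2
  have h3 : s.toFinset.card * T.card ≤ 4 * (2 * n + 4) :=
    Nat.mul_le_mul ((List.toFinset_card_le s).trans hs) hc
  have h4 : 4 * (2 * n + 4) < 2 ^ n := by
    have hk : ∀ k, 4 * (2 * (7 + k) + 4) < 2 ^ (7 + k) := by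
      intro k
      induction k with
      | zero => norm_num
      | succ k ih =>
        rw [← Nat.add_assoc, pow_succ]
        omega
    obtain ⟨k, rfl⟩ : ∃ k, n = 7 + k := ⟨n - 7, by omega⟩
    exact hk k
  omega

end Space

/-- Piece P6b: large binary spaces have a separating colouring. -/
theorem separated_large {p : ℕ} {U : Type*} [CommGroup U] {ε : U} (_hS : Scalars p 2 U ε)
    (_hU : Nat.card U = 2 ∨ Nat.card U = 4) [Finite U] {X : Type*} [AddCommGroup X]
    [Module (ZMod 2) X] [Finite X] (hn : 7 ≤ Module.finrank (ZMod 2) X) {Γ : Type*} [Group Γ]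
    (T : Twist 2 ε Γ X) : T.Separated := by
  classical
  let b := Module.finBasis (ZMod 2) X
  refine ⟨fun x => if InR b x then none else some 1, fun g hg => ?_⟩
  have hR : ∀ x, InR b (T.σ g x) ↔ InR b x := by
    intro x
    have := hg x
    by_cases h1 : InR b (T.σ g x) <;> by_cases h2 : InR b x <;> simp_all
  have hz : ∀ x, ¬ InR b x → T.z g x = 1 := by
    intro x hx
    have := hg x
    simp only [if_neg hx, if_neg (mt (hR x).1 hx), Option.map_some, mul_one, Option.some.injEq]
      at this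
    exact this.symm
  refine fun x => ⟨rigid b hn (T.σ g) (T.σ g⁻¹)
    (fun y => by rw [← T.σ_mul, inv_mul_cancel, T.σ_one]) hR x, ?_⟩
  by_cases hx : InR b x
  swap
  · exact hz x hx
  obtain ⟨a, ha⟩ := avoid b hn [0, x] (by simp)
  obtain ⟨d, hd⟩ := avoid b hn [0, x, a, x + a] (by simp)
  have a0 := (ha 0 (by simp)).2
  have ax := (ha x (by simp)).2
  have d0 := (hd 0 (by simp)).2
  have dx := (hd x (by simp)).2
  have da := (hd a (by simp)).2
  have dxa := (hd (x + a) (by simp)).2
  rw [add_zero] at a0 d0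
  have hq := T.quad g a d (x + a + d)
  have e1 : a + d + (x + a + d) = x := by
    rw [show a + d + (x + a + d) = x + ((a + a) + (d + d)) by abel, add_self, add_self, add_zero,
      add_zero]
  have e2 : a + (x + a + d) = d + x := by
    rw [show a + (x + a + d) = d + x + (a + a) by abel, add_self, add_zero]
  have e3 : d + (x + a + d) = a + x := by
    rw [show d + (x + a + d) = a + x + (d + d) by abel, add_self, add_zero]
  have e4 : x + a + d = d + (x + a) := by abel
  have e5 : a + d = d + a := add_comm a d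
  rw [e1, e2, e3, e4, e5, hz _ a0, hz _ d0, hz _ dxa, hz _ da, hz _ dx, hz _ ax] at hq
  simpa using hq

end Cfsg.Agent.TwoVecCombo72
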