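import Mathlib
import Cfsg.Agent.Lib.ThreeVec75Frame

/-!
Facts on frames used by the coprime base-two theorem.
-/

set_option autoImplicit false
set_option linter.style.haveILetI false

namespace Cfsg.Agent.ThreeVec75

universe u v

open scoped commutatorElement

variable {A : Type v} {V : Type u} [Group A] [AddCommGroup V] [DistribMulAction A V]
  {K : Core A V} (D : Bd K) (F : Frame K D.B)

include D

/-- The eigenspace of `M` containing the distinguished vector. -/
def Frame.eigSet (F : Frame K D.B) : Set V :=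
  {v | ∀ m ∈ F.M, ∀ z ∈ K.U, m • F.w = z • F.w → m • v = z • v}

theorem Frame.dec : ∀ b ∈ D.B, ∃ x ∈ F.X, ∃ m ∈ F.M, ∃ q ∈ F.Q, b = x * m * q := by
  have hsc : ∀ b ∈ D.B, ∀ z ∈ K.U, Commute b z := D.cent
  have hMd : ∀ m ∈ F.M, m ∈ D.B := F.M_le
  have hXd : ∀ x ∈ F.X, x ∈ D.B := F.X_le
  let T : Subgroup A :=
    { carrier := {b | ∃ x ∈ F.X, ∃ m ∈ F.M, ∃ q ∈ F.Q, b = x * m * q}
      one_mem' := ⟨1, one_mem _, 1, one_mem _, 1, one_mem _, by simp⟩
      mul_mem' := by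
        rintro _ _ ⟨x, hx, m, hm, q, hq, rfl⟩ ⟨x', hx', m', hm', q', hq', rfl⟩
        have hz := D.comm m (hMd m hm) x' (hXd x' hx')
        refine ⟨x * x', mul_mem hx hx', ⁅m, x'⁆ * (m * m'), mul_mem (F.U_M hz) (mul_mem hm hm'),
          q * q', mul_mem hq hq', ?_⟩
        have e : m * x' = x' * (⁅m, x'⁆ * m) := by
          rw [← mul_assoc, (hsc x' (hXd x' hx') _ hz).eq, mul_assoc, commutatorElement_def]
          group
        calc x * m * q * (x' * m' * q') = x * m * (q * x') * (m' * q') := by simp only [mul_assoc]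
          _ = x * m * (x' * q) * (m' * q') := by rw [(F.cXQ x' hx' q hq).eq]
          _ = x * (m * x') * (q * m') * q' := by simp only [mul_assoc]
          _ = x * (x' * (⁅m, x'⁆ * m)) * (m' * q) * q' := by rw [e, (F.cMQ m' hm' q hq).eq]
          _ = _ := by simp only [mul_assoc]
      inv_mem' := by
        rintro _ ⟨x, hx, m, hm, q, hq, rfl⟩
        have hz := D.comm m⁻¹ (inv_mem (hMd m hm)) x⁻¹ (inv_mem (hXd x hx))
        refine ⟨x⁻¹, inv_mem hx, ⁅m⁻¹, x⁻¹⁆ * m⁻¹, mul_mem (F.U_M hz) (inv_mem hm), q⁻¹, inv_mem hq, ?_⟩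
        have e : m⁻¹ * x⁻¹ = x⁻¹ * (⁅m⁻¹, x⁻¹⁆ * m⁻¹) := by
          rw [← mul_assoc, (hsc _ (inv_mem (hXd x hx)) _ hz).eq, mul_assoc, commutatorElement_def]
          group
        have e2 : Commute q⁻¹ (m⁻¹ * x⁻¹) :=
          ((F.cMQ _ (inv_mem hm) _ (inv_mem hq)).symm).mul_right (F.cXQ _ (inv_mem hx) _ (inv_mem hq)).symm
        rw [mul_inv_rev, mul_inv_rev, e2.eq, e, mul_assoc x⁻¹] }
  intro b hb
  have hle : F.M ⊔ F.X ⊔ F.Q ≤ T := sup_le (sup_le
    (fun m hm => ⟨1, one_mem _, m, hm, 1, one_mem _, by simp⟩)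
    (fun x hx => ⟨x, hx, 1, one_mem _, 1, one_mem _, by simp⟩))
    (fun q hq => ⟨1, one_mem _, 1, one_mem _, q, hq, by simp⟩)
  exact hle (F.gen hb)
theorem Frame.w_eig : F.w ∈ F.eigSet D := fun _ _ _ _ h => h

theorem Frame.zero_eig : (0 : V) ∈ F.eigSet D := fun m _ z _ _ => by rw [smul_zero, smul_zero]

theorem Frame.smul_eig : ∀ q ∈ F.Q, ∀ v ∈ F.eigSet D, q • v ∈ F.eigSet D :=
  fun q hq v hv m hm z hz h => by
    rw [← mul_smul, (F.cMQ m hm q hq).eq, mul_smul, hv m hm z hz h, ← mul_smul,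
      (D.cent q (F.Q_le hq) z hz).eq, mul_smul]

theorem Frame.add_eig {v v' : V} (hv : v ∈ F.eigSet D) (hv' : v' ∈ F.eigSet D) :
    v + v' ∈ F.eigSet D := fun m hm z hz h => by
  rw [smul_add, smul_add, hv m hm z hz h, hv' m hm z hz h]

theorem Frame.sub_eig {v v' : V} (hv : v ∈ F.eigSet D) (hv' : v' ∈ F.eigSet D) :
    v - v' ∈ F.eigSet D := fun m hm z hz h => by
  rw [smul_sub, smul_sub, hv m hm z hz h, hv' m hm z hz h]

theorem Frame.indep : ∀ s : Finset F.X, ∀ d : F.X → V, (∀ x, d x ∈ F.eigSet D) →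
    ∑ x ∈ s, (x : A) • d x = 0 → ∀ x ∈ s, d x = 0 := by
  classical
  let E : Set V := F.eigSet D
  have hsc : ∀ b ∈ D.B, ∀ z ∈ K.U, Commute b z := D.cent
  have hMd : ∀ m ∈ F.M, m ∈ D.B := F.M_le
  have hXd : ∀ x ∈ F.X, x ∈ D.B := F.X_le
  have hzE : ∀ v ∈ E, ∀ z ∈ K.U, ∀ z' ∈ K.U, z • v - z' • v ∈ E := fun v hv z hz z' hz' =>
    F.sub_eig D (F.smul_eig D z (F.U_Q hz) v hv) (F.smul_eig D z' (F.U_Q hz') v hv)
  intro s
  induction s using Finset.induction_on with
  | empty => simp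
  | insert a s has ih =>
    intro d hd hsum
    have hb : ∀ b ∈ s, d b = 0 := by
      intro b hbs
      have hba : (a : A)⁻¹ * b ≠ 1 := fun h => has (by rwa [show a = b from Subtype.ext (inv_mul_eq_one.1 h)])
      obtain ⟨m, hm, hmc⟩ : ∃ m ∈ F.M, ¬ Commute ((a : A)⁻¹ * b) m := by
        by_contra h; push Not at h
        exact hba (F.hXM _ (mul_mem (inv_mem a.2) b.2) h)
      obtain ⟨z, hz, hzw⟩ := F.eig m hm
      let k : F.X → A := fun x => ⁅m, (x : A)⁆ * z
      have hkU : ∀ x : F.X, k x ∈ K.U := fun x => mul_mem (D.comm m (hMd m hm) x (hXd x x.2)) hz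
      have hmx : ∀ x : F.X, ∀ v ∈ E, m • (x : A) • v = k x • (x : A) • v := by
        intro x v hv
        have e : m * (x : A) = ⁅m, (x : A)⁆ * x * m := by rw [commutatorElement_def]; group
        rw [← mul_smul, e, mul_smul, hv m hm z hz hzw, ← mul_smul, ← mul_smul]
        congr 1
        show ⁅m, (x : A)⁆ * x * z = ⁅m, (x : A)⁆ * z * x
        rw [mul_assoc, (hsc x (hXd x x.2) z hz).eq, ← mul_assoc]
      let d' : F.X → V := fun x => k x • d x - k a • d x
      have hterm : ∀ x : F.X, (x : A) • d' x = m • (x : A) • d x - k a • (x : A) • d x := by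
        intro x
        rw [hmx x _ (hd x)]
        simp only [d', smul_sub, ← mul_smul, (hsc x (hXd x x.2) _ (hkU x)).eq,
          (hsc x (hXd x x.2) _ (hkU a)).eq]
      have h0 : ∑ x ∈ s, (x : A) • d' x = 0 := by
        have e : ∑ x ∈ insert a s, (x : A) • d' x = 0 := by
          simp only [hterm, Finset.sum_sub_distrib, ← Finset.smul_sum, hsum, smul_zero, sub_self]
        rw [Finset.sum_insert has] at e
        simpa [d'] using e
      have := ih d' (fun x => hzE _ (hd x) _ (hkU x) _ (hkU a)) h0 b hbs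
      by_contra hne
      apply hmc
      have e2 : ⁅m, (b : A)⁆ = ⁅m, (a : A)⁆ :=
        mul_right_cancel (K.free _ (hkU b) _ (hkU a) _ hne (sub_eq_zero.1 this))
      have e3 : (b : A) * m⁻¹ * (b : A)⁻¹ = (a : A) * m⁻¹ * (a : A)⁻¹ := by
        simpa [commutatorElement_def, mul_assoc] using e2
      have e4 : ((a : A)⁻¹ * b) * m⁻¹ = m⁻¹ * ((a : A)⁻¹ * b) := by
        calc ((a : A)⁻¹ * b) * m⁻¹ = (a : A)⁻¹ * ((b : A) * m⁻¹ * (b : A)⁻¹) * b := by group
          _ = (a : A)⁻¹ * ((a : A) * m⁻¹ * (a : A)⁻¹) * b := by rw [e3]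
          _ = _ := by group
      simpa using Commute.inv_right (show Commute ((a : A)⁻¹ * b) m⁻¹ from e4)
    intro x hx
    rcases Finset.mem_insert.1 hx with rfl | hx
    · rw [Finset.sum_insert has, Finset.sum_eq_zero (fun b hbs => by rw [hb b hbs, smul_zero]), add_zero]
        at hsum
      exact (smul_eq_zero_iff_eq _).1 hsum
    · exact hb x hx
theorem Frame.indep_eq [Fintype F.X] (d d' : F.X → V) (hd : ∀ x, d x ∈ F.eigSet D)
    (hd' : ∀ x, d' x ∈ F.eigSet D) (h : ∑ x : F.X, (x : A) • d x = ∑ x : F.X, (x : A) • d' x) :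
    ∀ x, d x = d' x := fun x => by
  have := F.indep D Finset.univ (fun x => d x - d' x) (fun x => F.sub_eig D (hd x) (hd' x))
    (by simp only [smul_sub, Finset.sum_sub_distrib, h, sub_self]) x (Finset.mem_univ x)
  exact sub_eq_zero.1 this

theorem Frame.Q_free : ∀ q ∈ F.Q, ∀ q' ∈ F.Q, q • F.w = q' • F.w → q = q' := by
  have hsc : ∀ b ∈ D.B, ∀ z ∈ K.U, Commute b z := D.cent
  have hQd : ∀ q ∈ F.Q, q ∈ D.B := F.Q_le
  intro q hq q' hq' he
  have hfix : (q'⁻¹ * q) • F.w = F.w := by rw [mul_smul, he, inv_smul_smul]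
  have hmem : q'⁻¹ * q ∈ F.Q := mul_mem (inv_mem hq') hq
  suffices q'⁻¹ * q = 1 from (inv_mul_eq_one.1 this).symm
  by_cases hU : q'⁻¹ * q ∈ K.U
  · exact K.fix_eq_one hU F.w_ne hfix
  exfalso
  rcases F.hQ with hQ | ⟨i, -, j, -, -, -, -, hns, hsq, -⟩
  · exact hU (hQ ▸ hmem)
  obtain ⟨z, hz, hzz⟩ := hsq _ hmem hU
  refine hns z hz (K.free _ (mul_mem hz hz) _ K.ε_mem _ F.w_ne ?_)
  have hc : Commute (q'⁻¹ * q) z := hsc _ (hQd _ hmem) z hz
  calc (z * z) • F.w = (z * z) • (q'⁻¹ * q) • (q'⁻¹ * q) • F.w := by rw [hfix, hfix]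
    _ = ((q'⁻¹ * q * z) * (q'⁻¹ * q * z)) • F.w := by
      rw [← mul_smul, ← mul_smul]
      congr 1
      generalize q'⁻¹ * q = u at hc ⊢
      rw [mul_assoc u z, ← mul_assoc z u, ← hc.eq, mul_assoc u z, ← mul_assoc u u]
      rw [mul_assoc (z * z) u u]
      exact ((hc.mul_left hc).mul_right (hc.mul_left hc)).eq.symm
    _ = K.ε • F.w := by rw [hzz]
theorem Frame.line_stab [Finite A] :
    ∀ b ∈ D.B, (∃ z ∈ K.U, b • F.w = z • F.w) → b ∈ F.M := by
  classical
  haveI : Fintype F.X := Fintype.ofFinite _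
  have hdec := F.dec D
  have indep_eq := F.indep_eq D
  have hqE := F.smul_eig D
  have hwE := F.w_eig D
  have h0E := F.zero_eig D
  have hQfree := F.Q_free D
  intro b hb hbw
  obtain ⟨z, hz, hzw⟩ := hbw
  obtain ⟨x, hx, m, hm, q, hq, rfl⟩ := hdec b hb
  obtain ⟨z', hz', hzw'⟩ := F.eig m hm
  have he : x • ((q * z') • F.w) = z • F.w := by
    rw [← hzw, mul_smul (x * m) q, mul_smul x m, ← mul_smul m q, (F.cMQ m hm q hq).eq, mul_smul q m,
      hzw', mul_smul]
  have hx1 : x = 1 := by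
    by_contra hne
    have := indep_eq (fun y => if (y : A) = x then (q * z') • F.w else 0)
      (fun y => if (y : A) = 1 then z • F.w else 0)
      (fun y => by split_ifs <;> first | exact hqE _ (mul_mem hq (F.U_Q hz')) _ hwE | exact h0E)
      (fun y => by split_ifs <;> first | exact hqE _ (F.U_Q hz) _ hwE | exact h0E)
      (by
        rw [Finset.sum_eq_single (⟨x, hx⟩ : F.X), Finset.sum_eq_single (1 : F.X)]
        · simpa using he
        · intro y _ hy; simp [show (y : A) ≠ 1 from fun h => hy (Subtype.ext h)]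
        · simp
        · intro y _ hy; simp [show (y : A) ≠ x from fun h => hy (Subtype.ext h)]
        · simp) ⟨x, hx⟩
    simp only [if_true, if_neg hne] at this
    exact F.w_ne ((smul_eq_zero_iff_eq _).1 this)
  subst hx1
  rw [one_smul] at he
  have hqz := hQfree _ (mul_mem hq (F.U_Q hz')) _ (F.U_Q hz) he
  have hqU : q ∈ K.U := by rw [eq_mul_inv_of_mul_eq hqz]; exact mul_mem hz (inv_mem hz')
  rw [one_mul]
  exact mul_mem hm (F.U_M hqU)
end Cfsg.Agent.ThreeVec75
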