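import Mathlib
import Cfsg.Agent.Lib.TwoVecFrame75

/-!
Conjugation of a frame by elements fixing its distinguished vector.
-/

set_option autoImplicit false
set_option linter.style.haveILetI false

namespace Cfsg.Agent.ThreeVec75

universe u v

open scoped commutatorElement

variable {A : Type v} {V : Type u} [Group A] [AddCommGroup V] [DistribMulAction A V]
  {K : Core A V} (D : Bd K) (F : Frame K D.B)

include D

theorem Frame.uniq {x x' c c' : A} (hx : x ∈ F.X) (hx' : x' ∈ F.X) (hc : ∀ m ∈ F.M, Commute c m)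
    (hc' : ∀ m ∈ F.M, Commute c' m) (h : x * c = x' * c') : x = x' := by
  have e : x'⁻¹ * x = c' * c⁻¹ := by
    rw [inv_mul_eq_iff_eq_mul, ← mul_assoc, ← h, mul_inv_cancel_right]
  exact (inv_mul_eq_one.1 (F.hXM _ (mul_mem (inv_mem hx') hx) fun m hm => by
    rw [e]; exact (hc' m hm).mul_left (hc m hm).inv_left)).symm

theorem Frame.mq_cent {m q : A} (hm : m ∈ F.M) (hq : q ∈ F.Q) : ∀ n ∈ F.M, Commute (m * q) n :=
  fun n hn => (F.cM m hm n hn).mul_left (F.cMQ n hn q hq).symm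

theorem Frame.exists_scalar {m : A} (hm : m ∈ F.M) : ∃ z ∈ K.U, m • F.w = z • F.w := F.eig m hm

theorem Frame.swap_comm {m x : A} (hm : m ∈ F.M) (hx : x ∈ F.X) : m * x = x * (⁅m, x⁆ * m) := by
  rw [← mul_assoc, (D.cent x (F.X_le hx) _ (D.comm m (F.M_le hm) x (F.X_le hx))).eq, mul_assoc,
    commutatorElement_def]
  group

theorem Frame.conj_M [Finite A] {g m : A} (hg : g • F.w = F.w) (hm : m ∈ F.M) : g * m * g⁻¹ ∈ F.M := by
  obtain ⟨z, hz, hzw⟩ := F.eig m hm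
  refine F.line_stab D _ (D.normal.conj_mem m (F.M_le hm) g)
    ⟨g * z * g⁻¹, K.normal.conj_mem z hz g, ?_⟩
  simp only [mul_smul, inv_smul_eq_iff.2 hg.symm, hzw]

theorem Frame.conj_M_iff [Finite A] {g m : A} (hg : g • F.w = F.w) (hm : m ∈ F.M) :
    g⁻¹ * m * g ∈ F.M := by
  simpa using F.conj_M D (g := g⁻¹) (inv_smul_eq_iff.2 hg.symm) hm

theorem Frame.conj_MQ [Finite A] {g q : A} (hg : g • F.w = F.w) (hq : q ∈ F.Q) :
    ∃ m ∈ F.M, ∃ q' ∈ F.Q, g * q * g⁻¹ = m * q' := by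
  obtain ⟨x, hx, m, hm, q', hq', e⟩ := F.dec D _ (D.normal.conj_mem q (F.Q_le hq) g)
  have hc : ∀ n ∈ F.M, Commute (g * q * g⁻¹) n := fun n hn => by
    have := (F.cMQ _ (F.conj_M_iff D hg hn) q hq).symm.map (MulAut.conj g).toMonoidHom
    simpa [MulAut.conj_apply, mul_assoc] using this
  have hx1 : x = 1 := F.uniq D hx (one_mem _) (F.mq_cent D hm hq') hc (by
    rw [one_mul, e, mul_assoc])
  exact ⟨m, hm, q', hq', by rw [e, hx1, one_mul]⟩

theorem Frame.smul_w_mq {m q z : A} (hm : m ∈ F.M) (hq : q ∈ F.Q) (hz : z ∈ K.U)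
    (h : m • F.w = z • F.w) : (m * q) • F.w = (q * z) • F.w := by
  rw [(F.cMQ m hm q hq).eq, mul_smul, h, mul_smul]

theorem Frame.conj_smul_w [Finite A] {g q : A} (hg : g • F.w = F.w) (hq : q ∈ F.Q) :
    ∃ q' ∈ F.Q, g • q • F.w = q' • F.w := by
  obtain ⟨m, hm, q', hq', e⟩ := F.conj_MQ D hg hq
  obtain ⟨z, hz, hzw⟩ := F.eig m hm
  refine ⟨q' * z, mul_mem hq' (F.U_Q hz), ?_⟩
  have e' : g * q = m * q' * g := by rw [← e, inv_mul_cancel_right]
  rw [← F.smul_w_mq D hm hq' hz hzw, ← mul_smul, e', mul_smul, hg]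

theorem Frame.conj_X [Finite A] (g : A) {x : A} (hx : x ∈ F.X) :
    ∃ x' ∈ F.X, ∃ m ∈ F.M, ∃ q ∈ F.Q, g * x * g⁻¹ = x' * m * q :=
  F.dec D _ (D.normal.conj_mem x (F.X_le hx) g)

/-- The image of an element of `X` under conjugation, modulo `M Q`. -/
noncomputable def Frame.σX [Finite A] (g : A) (x : F.X) : F.X :=
  ⟨(F.conj_X D g x.2).choose, (F.conj_X D g x.2).choose_spec.1⟩

theorem Frame.σX_spec [Finite A] (g : A) (x : F.X) :
    ∃ m ∈ F.M, ∃ q ∈ F.Q, g * x * g⁻¹ = F.σX D g x * m * q :=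
  (F.conj_X D g x.2).choose_spec.2

theorem Frame.σX_eq [Finite A] {g : A} {x : F.X} {x' c : A} (hx' : x' ∈ F.X)
    (hc : ∀ m ∈ F.M, Commute c m) (h : g * x * g⁻¹ = x' * c) : (F.σX D g x : A) = x' := by
  obtain ⟨m, hm, q, hq, e⟩ := F.σX_spec D g x
  exact F.uniq D (F.σX D g x).2 hx' (F.mq_cent D hm hq) hc (by rw [← mul_assoc, ← e, h])

theorem Frame.σX_one [Finite A] (g : A) : F.σX D g 1 = 1 :=
  Subtype.ext (F.σX_eq D (one_mem _) (c := 1) (fun m _ => Commute.one_left m) (by simp))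

theorem Frame.σX_mul [Finite A] (g : A) (x y : F.X) :
    F.σX D g (x * y) = F.σX D g x * F.σX D g y := by
  obtain ⟨m, hm, q, hq, ex⟩ := F.σX_spec D g x
  obtain ⟨m', hm', q', hq', ey⟩ := F.σX_spec D g y
  have hy' := (F.σX D g y).2
  refine Subtype.ext (F.σX_eq D (mul_mem (F.σX D g x).2 hy')
    (c := ⁅m, (F.σX D g y : A)⁆ * m * q * (m' * q')) ?_ ?_)
  · intro n hn
    refine (((D.cent n (F.M_le hn) _ (D.comm m (F.M_le hm) _ (F.X_le hy'))).symm.mul_left
      (F.cM m hm n hn)).mul_left (F.cMQ n hn q hq).symm).mul_left (F.mq_cent D hm' hq' n hn)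
  · rw [Subgroup.coe_mul, show g * ((x : A) * y) * g⁻¹ = g * x * g⁻¹ * (g * y * g⁻¹) by group, ex, ey]
    calc (F.σX D g x : A) * m * q * (F.σX D g y * m' * q')
        = F.σX D g x * m * (q * F.σX D g y) * (m' * q') := by simp only [mul_assoc]
      _ = F.σX D g x * (m * F.σX D g y) * q * (m' * q') := by
          rw [← (F.cXQ _ hy' q hq).eq]; simp only [mul_assoc]
      _ = _ := by rw [F.swap_comm D hm hy']; simp only [Subgroup.coe_mul, mul_assoc]

theorem Frame.σX_inj [Finite A] {g : A} (hg : g • F.w = F.w) : Function.Injective (F.σX D g) := by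
  intro x y h
  have h1 : F.σX D g (y⁻¹ * x) = 1 := by
    have e := F.σX_mul D g y (y⁻¹ * x)
    rw [mul_inv_cancel_left, h] at e
    exact mul_eq_left.1 e.symm
  obtain ⟨m, hm, q, hq, e⟩ := F.σX_spec D g (y⁻¹ * x)
  rw [h1, Subgroup.coe_one, one_mul] at e
  have h2 : ((y⁻¹ * x : F.X) : A) = 1 := F.hXM _ (y⁻¹ * x).2 fun n hn => by
    have hc : Commute (g * ((y⁻¹ * x : F.X) : A) * g⁻¹) (g * n * g⁻¹) := by
      rw [e]; exact F.mq_cent D hm hq _ (F.conj_M D hg hn)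
    have := hc.map (MulAut.conj g⁻¹).toMonoidHom
    simpa [MulAut.conj_apply, mul_assoc] using this
  exact (inv_mul_eq_one.1 (show y⁻¹ * x = 1 from Subtype.ext h2)).symm

end Cfsg.Agent.ThreeVec75
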