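import Mathlib
import Cfsg.Agent.Lib.TwoVecConj75
import Cfsg.Agent.Lib.ThreeVec75Combo

/-!
The twisted action on the prime torsion of `X`.
-/

set_option autoImplicit false
set_option linter.style.haveILetI false

namespace Cfsg.Agent.ThreeVec75

universe u v

open scoped commutatorElement

variable {A : Type v} {V : Type u} [Group A] [AddCommGroup V] [DistribMulAction A V] [Finite A]
  {K : Core A V} (D : Bd K) (F : Frame K D.B)

/-- Elements killed by `r` in `X`. -/
def Frame.Xr (r : ℕ) : Subgroup F.X where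
  carrier := {x | x ^ r = 1}
  one_mem' := one_pow r
  mul_mem' {x y} hx hy := by
    show (x * y) ^ r = 1
    rw [(show Commute x y from Subtype.ext (F.cX x x.2 y y.2)).mul_pow, hx, hy, one_mul]
  inv_mem' {x} hx := by show x⁻¹ ^ r = 1; rw [inv_pow, hx, inv_one]

instance Frame.xrComm (r : ℕ) : CommGroup (F.Xr D r) :=
  { (inferInstance : Group (F.Xr D r)) with
    mul_comm := fun x y => Subtype.ext (Subtype.ext (F.cX _ x.1.2 _ y.1.2)) }

@[reducible] def Frame.xrModule (r : ℕ) : Module (ZMod r) (Additive (F.Xr D r)) :=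
  AddCommGroup.zmodModule (n := r) fun x => by
    apply Additive.toMul.injective
    rw [toMul_nsmul, toMul_zero]
    exact Subtype.ext (Additive.toMul x).2

/-- Elements mapping `X` into `X M`. -/
def Frame.Split (g : A) : Prop := ∀ x : F.X, ∃ m ∈ F.M, g * x * g⁻¹ = F.σX D g x * m

theorem Frame.split_mul {g h : A} (hg : g • F.w = F.w) (sg : F.Split D g) (sh : F.Split D h)
    (x : F.X) : (F.σX D (g * h) x : A) = F.σX D g (F.σX D h x) ∧
      ∃ m ∈ F.M, g * h * x * (g * h)⁻¹ = F.σX D (g * h) x * m := by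
  obtain ⟨m, hm, e⟩ := sh x
  obtain ⟨m', hm', e'⟩ := sg (F.σX D h x)
  have hc := mul_mem hm' (F.conj_M D hg hm)
  have key : g * h * x * (g * h)⁻¹ = F.σX D g (F.σX D h x) * (m' * (g * m * g⁻¹)) := by
    rw [← mul_assoc, ← e', show g * h * x * (g * h)⁻¹ = g * (h * x * h⁻¹) * g⁻¹ by group, e]; group
  have hσ := F.σX_eq D (F.σX D g (F.σX D h x)).2 (fun n hn => F.cM _ hc n hn) key
  exact ⟨hσ, _, hc, by rw [hσ]; exact key⟩

/-- The elements of `Γ₀` mapping `X` into `X M`. -/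
def Frame.splitGroup (Γ₀ : Subgroup A) (h1 : ∀ g ∈ Γ₀, g • F.w = F.w) : Subgroup A :=
  let S : Submonoid A :=
    { carrier := {g | g ∈ Γ₀ ∧ F.Split D g}
      one_mem' := ⟨one_mem _, fun x => ⟨1, one_mem _, by
        rw [F.σX_eq D x.2 (c := 1) (fun m _ => Commute.one_left m) (show (1 : A) * x * 1⁻¹ = x * 1 by simp)]
        simp⟩⟩
      mul_mem' := fun {g h} hg hh =>
        ⟨mul_mem hg.1 hh.1, fun x => (F.split_mul D (h1 g hg.1) hg.2 hh.2 x).2⟩ }
  { S with
    inv_mem' := fun {g} hg => by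
      have e : g⁻¹ = g ^ (orderOf g - 1) := inv_eq_of_mul_eq_one_right (by
        rw [← pow_succ', Nat.sub_add_cancel (orderOf_pos g), pow_orderOf_eq_one])
      show g⁻¹ ∈ S
      rw [e]
      exact pow_mem hg _ }

theorem Frame.mem_splitGroup {Γ₀ : Subgroup A} {h1 : ∀ g ∈ Γ₀, g • F.w = F.w} {g : A} :
    g ∈ F.splitGroup D Γ₀ h1 ↔ g ∈ Γ₀ ∧ F.Split D g := Iff.rfl

theorem Frame.exists_phase (g : A) (hg : F.Split D g) (x : F.X) :
    ∃ z : K.U, ∃ m ∈ F.M, g * x * g⁻¹ = F.σX D g x * m ∧ m • F.w = (z : A) • F.w := by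
  obtain ⟨m, hm, e⟩ := hg x
  obtain ⟨z, hz, hzw⟩ := F.eig m hm
  exact ⟨⟨z, hz⟩, m, hm, e, hzw⟩

/-- The phase. -/
noncomputable def Frame.phase (g : A) (hg : F.Split D g) (x : F.X) : K.U :=
  (F.exists_phase D g hg x).choose

theorem Frame.phase_spec (g : A) (hg : F.Split D g) (x : F.X) :
    ∃ m ∈ F.M, g * x * g⁻¹ = F.σX D g x * m ∧ m • F.w = (F.phase D g hg x : A) • F.w :=
  (F.exists_phase D g hg x).choose_spec

theorem Frame.phase_eq {g : A} (hg : F.Split D g) {x : F.X} {m : A} {z : K.U} (hm : m ∈ F.M)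
    (h : g * x * g⁻¹ = F.σX D g x * m) (hz : m • F.w = (z : A) • F.w) : F.phase D g hg x = z := by
  obtain ⟨m', hm', e, e'⟩ := F.phase_spec D g hg x
  obtain rfl := mul_left_cancel (e.symm.trans h)
  exact Subtype.ext (K.free _ (F.phase D g hg x).2 _ z.2 _ F.w_ne (e'.symm.trans hz))

theorem Frame.phase_mul {g h : A} (hg : g • F.w = F.w) (hgU : ∀ z ∈ K.U, Commute g z)
    (sg : F.Split D g) (sh : F.Split D h) (sgh : F.Split D (g * h)) (x : F.X) :
    F.phase D (g * h) sgh x = F.phase D g sg (F.σX D h x) * F.phase D h sh x := by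
  obtain ⟨m, hm, e, ez⟩ := F.phase_spec D h sh x
  obtain ⟨m', hm', e', ez'⟩ := F.phase_spec D g sg (F.σX D h x)
  have hs := (F.split_mul D hg sg sh x).1
  refine F.phase_eq D sgh (mul_mem hm' (F.conj_M D hg hm)) ?_ ?_
  · rw [hs, ← mul_assoc, ← e', show g * h * x * (g * h)⁻¹ = g * (h * x * h⁻¹) * g⁻¹ by group, e]; group
  · set z := F.phase D h sh x
    have e1 : (g * m * g⁻¹) • F.w = (z : A) • F.w := by
      rw [mul_smul, mul_smul, inv_smul_eq_iff.2 hg.symm, ez, ← mul_smul, (hgU _ z.2).eq, mul_smul, hg]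
    rw [Subgroup.coe_mul, mul_smul, e1, ← mul_smul, (D.cent m' (F.M_le hm') _ z.2).eq, mul_smul, ez',
      ← mul_smul, K.comm _ z.2 _ (F.phase D g sg (F.σX D h x)).2]

theorem Frame.phase_add {g : A} (sg : F.Split D g) (x y : F.X) :
    ∃ m ∈ F.M, g * x * g⁻¹ = F.σX D g x * m ∧
      (F.phase D g sg (x * y) : A) = ⁅m, (F.σX D g y : A)⁆ * F.phase D g sg x * F.phase D g sg y := by
  obtain ⟨m, hm, e, ez⟩ := F.phase_spec D g sg x
  obtain ⟨m', hm', e', ez'⟩ := F.phase_spec D g sg y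
  have hy' := (F.σX D g y).2
  have hb : ⁅m, (F.σX D g y : A)⁆ ∈ K.U := D.comm m (F.M_le hm) _ (F.X_le hy')
  refine ⟨m, hm, e, ?_⟩
  rw [F.phase_eq D sg (z := ⟨⁅m, (F.σX D g y : A)⁆, hb⟩ * F.phase D g sg x * F.phase D g sg y)
    (mul_mem (mul_mem (F.U_M hb) hm) hm')]
  · rfl
  · rw [show g * ((x * y : F.X) : A) * g⁻¹ = g * x * g⁻¹ * (g * y * g⁻¹) by
      rw [Subgroup.coe_mul]; group, e, e', F.σX_mul, Subgroup.coe_mul]
    calc (F.σX D g x : A) * m * (F.σX D g y * m') = F.σX D g x * (m * F.σX D g y) * m' := by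
          simp only [mul_assoc]
      _ = _ := by rw [F.swap_comm D hm hy']; simp only [mul_assoc]
  · simp only [Subgroup.coe_mul, mul_smul]
    rw [ez', ← mul_smul m, (D.cent m (F.M_le hm) _ (F.phase D g sg y).2).eq, mul_smul, ez,
      ← mul_smul ((F.phase D g sg y : A)) _, K.comm _ (F.phase D g sg y).2 _ (F.phase D g sg x).2, mul_smul]

theorem Frame.phase_quad {g : A} (sg : F.Split D g) (a b c : F.X) :
    F.phase D g sg (a * b * c) * F.phase D g sg a * F.phase D g sg b * F.phase D g sg c =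
      F.phase D g sg (a * b) * F.phase D g sg (a * c) * F.phase D g sg (b * c) := by
  obtain ⟨m, hm, e, eab⟩ := F.phase_add D sg a b
  obtain ⟨n, hn, e', ebc⟩ := F.phase_add D sg b c
  obtain ⟨m1, hm1, e1, eac⟩ := F.phase_add D sg a c
  obtain rfl := mul_left_cancel (e.symm.trans e1)
  obtain ⟨k, hk, e2, eabc⟩ := F.phase_add D sg (a * b) c
  set y := (F.σX D g c : A) with hy
  have hyB : y ∈ D.B := F.X_le (F.σX D g c).2
  have hb : ⁅m, (F.σX D g b : A)⁆ ∈ K.U := D.comm m (F.M_le hm) _ (F.X_le (F.σX D g b).2)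
  have hk' : k = ⁅m, (F.σX D g b : A)⁆ * m * n := by
    refine mul_left_cancel (e2.symm.trans ?_)
    rw [show g * ((a * b : F.X) : A) * g⁻¹ = g * a * g⁻¹ * (g * b * g⁻¹) by rw [Subgroup.coe_mul]; group,
      e, e', F.σX_mul, Subgroup.coe_mul]
    calc (F.σX D g a : A) * m * (F.σX D g b * n) = F.σX D g a * (m * F.σX D g b) * n := by
          simp only [mul_assoc]
      _ = _ := by rw [F.swap_comm D hm (F.σX D g b).2]; simp only [mul_assoc]
  have hky : ⁅k, y⁆ = ⁅m, y⁆ * ⁅n, y⁆ := by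
    rw [hk', D.comm_mul_left (mul_mem (D.le hb) (F.M_le hm)) (F.M_le hn) hyB,
      D.comm_mul_left (D.le hb) (F.M_le hm) hyB,
      commutatorElement_eq_one_iff_commute.2 (D.cent y hyB _ hb).symm, one_mul]
  letI : CommGroup K.U := { (inferInstance : Group K.U) with
    mul_comm := fun s t => Subtype.ext (K.comm _ s.2 _ t.2) }
  let bm : K.U := ⟨⁅m, y⁆, D.comm m (F.M_le hm) y hyB⟩
  let bn : K.U := ⟨⁅n, y⁆, D.comm n (F.M_le hn) y hyB⟩
  have q1 : F.phase D g sg (a * b) = ⟨_, hb⟩ * F.phase D g sg a * F.phase D g sg b := Subtype.ext eab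
  have q2 : F.phase D g sg (b * c) = bn * F.phase D g sg b * F.phase D g sg c := Subtype.ext ebc
  have q3 : F.phase D g sg (a * c) = bm * F.phase D g sg a * F.phase D g sg c := Subtype.ext eac
  have q4 : F.phase D g sg (a * b * c) = bm * bn * F.phase D g sg (a * b) * F.phase D g sg c :=
    Subtype.ext (by rw [eabc, hky]; rfl)
  rw [q4, q1, q2, q3]
  simp only [mul_assoc, mul_comm, mul_left_comm]

/-- The scalars as a commutative group. -/
@[reducible] def Core.uComm {A : Type v} {V : Type u} [Group A] [AddCommGroup V] [DistribMulAction A V]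
    (K : Core A V) : CommGroup K.U :=
  { (inferInstance : Group K.U) with mul_comm := fun s t => Subtype.ext (K.comm _ s.2 _ t.2) }

theorem Frame.phase_pow [Nontrivial V] {r : ℕ} (hr : r.Prime) {g : A} (sg : F.Split D g) {x : F.X}
    (hx : x ^ r = 1) :
    (r ≠ 2 → F.phase D g sg x ^ r = 1) ∧
    (r = 2 → F.phase D g sg x ^ 2 = 1 ∨ F.phase D g sg x ^ 2 = ⟨K.ε, K.ε_mem⟩) := by
  obtain ⟨m, hm, e, ez⟩ := F.phase_spec D g sg x
  set s := F.σX D g x with hs
  set z := F.phase D g sg x with hz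
  have hsr : s ^ r = 1 := by
    have : F.σX D g (x ^ r) = s ^ r := map_pow (MonoidHom.mk' (F.σX D g) (F.σX_mul D g)) x r
    rw [hx, F.σX_one] at this
    exact this.symm
  have h : ((s : A) * m) ^ r = 1 := by
    rw [← e, conj_pow, ← SubgroupClass.coe_pow, hx, Subgroup.coe_one, mul_one, mul_inv_cancel]
  rw [D.mul_pow_eq (F.X_le s.2) (F.M_le hm), ← SubgroupClass.coe_pow, hsr, Subgroup.coe_one, one_mul] at h
  have hb := D.comm m (F.M_le hm) _ (F.X_le s.2)
  have hbr : ⁅m, (s : A)⁆ ^ r = 1 := D.comm_right_one_of_pow (F.M_le hm) (F.X_le s.2) (by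
    rw [← SubgroupClass.coe_pow, hsr, Subgroup.coe_one]; exact one_mem _)
  have hpow : ∀ n : ℕ, (m ^ n) • F.w = ((z : A) ^ n) • F.w := by
    intro n
    induction n with
    | zero => simp
    | succ n ih =>
      rw [pow_succ', mul_smul, ih, ← mul_smul, (D.cent m (F.M_le hm) _ (pow_mem z.2 n)).eq, mul_smul, ez,
        ← mul_smul, ← pow_succ]
  have h1 : (z : A) ^ r * ⁅m, (s : A)⁆ ^ r.choose 2 = 1 := by
    refine K.fix_eq_one (mul_mem (pow_mem z.2 r) (pow_mem hb _)) F.w_ne ?_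
    rw [K.comm _ (pow_mem z.2 r) _ (pow_mem hb _), mul_smul, ← hpow, ← mul_smul,
      (D.cent _ (pow_mem (F.M_le hm) r) _ (pow_mem hb _)).eq.symm, h, one_smul]
  constructor
  · intro hr2
    obtain ⟨q, hq⟩ := hr.dvd_choose_self (k := 2) (by norm_num) (by have := hr.two_le; omega)
    rw [hq, pow_mul, hbr, one_pow, mul_one] at h1
    exact Subtype.ext (by rw [SubgroupClass.coe_pow, h1]; rfl)
  · intro hr2
    subst hr2
    rw [Nat.choose_self, pow_one] at h1
    have h2 : (z : A) ^ 2 * (z : A) ^ 2 = 1 := by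
      have hinv : (z : A) ^ 2 = ⁅m, (s : A)⁆⁻¹ := eq_inv_of_mul_eq_one_left h1
      rw [hinv, ← pow_two, inv_pow, hbr, inv_one]
    rcases K.sq_one (pow_mem z.2 2) h2 with h3 | h3
    · exact Or.inl (Subtype.ext (by rw [SubgroupClass.coe_pow, h3]; rfl))
    · exact Or.inr (Subtype.ext (by rw [SubgroupClass.coe_pow, h3]))

/-- The twisted action of the split group on the `r`-torsion of `X`. -/
noncomputable def Frame.twist [Nontrivial V] (r : ℕ) (hr : r.Prime) (Γ₀ : Subgroup A)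
    (h1 : ∀ g ∈ Γ₀, g • F.w = F.w) (h2 : ∀ g ∈ Γ₀, ∀ z ∈ K.U, Commute g z) :
    letI := K.uComm
    Twist r (⟨K.ε, K.ε_mem⟩ : K.U) (F.splitGroup D Γ₀ h1) (Additive (F.Xr D r)) :=
  letI := K.uComm
  { σ := fun g => MonoidHom.toAdditive (MonoidHom.mk'
      (fun x : F.Xr D r => (⟨F.σX D g x.1, by
        show F.σX D g x.1 ^ r = 1
        have : F.σX D g ((x.1 : F.X) ^ r) = F.σX D g x.1 ^ r :=
          map_pow (MonoidHom.mk' (F.σX D g) (F.σX_mul D g)) x.1 r
        rw [show (x.1 : F.X) ^ r = 1 from x.2, F.σX_one] at this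
        exact this.symm⟩ : F.Xr D r))
      (fun x y => Subtype.ext (F.σX_mul D g x.1 y.1)))
    σ_one := fun x => Additive.toMul.injective (Subtype.ext (Subtype.ext
      (F.σX_eq D (Additive.toMul x).1.2 (c := 1) (fun m _ => Commute.one_left m)
        (show (1 : A) * (Additive.toMul x).1 * 1⁻¹ = (Additive.toMul x).1 * 1 by simp))))
    σ_mul := fun g h x => Additive.toMul.injective (Subtype.ext (Subtype.ext
      (F.split_mul D (h1 g g.2.1) g.2.2 h.2.2 (Additive.toMul x).1).1))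
    z := fun g x => F.phase D g g.2.2 (Additive.toMul x).1
    z_mul := fun g h x => F.phase_mul D (h1 g g.2.1) (h2 g g.2.1) g.2.2 h.2.2 (g * h).2.2 _
    z_zero := fun g => by
      refine F.phase_eq D g.2.2 (m := 1) (one_mem _) ?_ (by simp)
      show (g : A) * ((1 : F.X) : A) * (g : A)⁻¹ = (F.σX D g 1 : A) * 1
      rw [F.σX_one]; simp
    z_odd := fun h g x => (F.phase_pow D hr g.2.2 (Additive.toMul x).2).1 h
    z_two := fun h g x => (F.phase_pow D hr g.2.2 (Additive.toMul x).2).2 h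
    quad := fun g a b c => F.phase_quad D g.2.2 _ _ _ }

end Cfsg.Agent.ThreeVec75
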