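import Mathlib
import Cfsg.Agent.Lib.ThreeVec75TwoDefs
import Cfsg.Agent.Lib.ThreeVec75Prim
import Cfsg.Agent.Lib.TwoVecTwist75

/-!
A pair of vectors from twisted colourings of a frame.
-/

set_option autoImplicit false
set_option linter.style.haveILetI false

namespace Cfsg.Agent.ThreeVec75

universe u v

open scoped commutatorElement

variable {A : Type v} {V : Type u} [Group A] [AddCommGroup V] [DistribMulAction A V] [Finite A]
  [FaithfulSMul A V] [Nontrivial V] {K : Core A V} (D : Bd K) (F : Frame K D.B)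

include D

theorem Frame.exists_sqf_one {x : A} (hx : x ∈ F.X) : ∃ n, Squarefree n ∧ x ^ n = 1 := by
  obtain ⟨n, hn, hxn⟩ := D.sqf x (F.X_le hx)
  exact ⟨n, hn, F.hXM _ (pow_mem hx n) fun m hm => (D.cent m (F.M_le hm) _ hxn).symm⟩

theorem Frame.mem_of_split_torsion [Finite A] {g : A} {r : ℕ} (hr : r.Prime)
    (hr2 : r ≠ 2) {x : F.X} (hx : x ^ r = 1) :
    ∃ m ∈ F.M, g * x * g⁻¹ = F.σX D g x * m := by
  obtain ⟨m, hm, q, hq, e⟩ := F.σX_spec D g x
  suffices hqU : q ∈ K.U by exact ⟨m * q, mul_mem hm (F.U_M hqU), by rw [e, mul_assoc]⟩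
  rcases F.hQ with hQ | ⟨i, -, j, -, -, -, -, -, hsq, -⟩
  · rwa [hQ] at hq
  by_contra hqU
  obtain ⟨z, hz, hzz⟩ := hsq q hq hqU
  have hqq : q ^ 2 ∈ K.U := by
    have hc : Commute q z := D.cent q (F.Q_le hq) z hz
    have : q ^ 2 * z ^ 2 = K.ε := by rw [← hc.mul_pow, pow_two, hzz]
    rw [eq_mul_inv_of_mul_eq this]
    exact mul_mem K.ε_mem (inv_mem (pow_mem hz 2))
  set s := F.σX D g x with hs
  have hsr : s ^ r = 1 := by
    have : F.σX D g (x ^ r) = s ^ r := map_pow (MonoidHom.mk' (F.σX D g) (F.σX_mul D g)) x r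
    rw [hx, F.σX_one] at this
    exact this.symm
  have h : ((s : A) * (m * q)) ^ r = 1 := by
    rw [← mul_assoc, ← e, conj_pow, ← SubgroupClass.coe_pow, hx, Subgroup.coe_one, mul_one, mul_inv_cancel]
  have hmq := mul_mem (F.M_le hm) (F.Q_le hq)
  rw [D.mul_pow_eq (F.X_le s.2) hmq, ← SubgroupClass.coe_pow, hsr, Subgroup.coe_one, one_mul,
    (F.cMQ m hm q hq).mul_pow, mul_assoc] at h
  have hb := pow_mem (D.comm _ hmq _ (F.X_le s.2)) (r.choose 2)
  -- so the `r`-th power of `q` is in `M`, hence a scalar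
  have hqM : q ^ r ∈ F.M := by
    have : q ^ r = (m ^ r)⁻¹ * (⁅m * q, (s : A)⁆ ^ r.choose 2)⁻¹ := by
      rw [← mul_assoc] at h
      rw [eq_comm, inv_mul_eq_iff_eq_mul]
      exact (eq_inv_of_mul_eq_one_left h).symm
    rw [this]
    exact mul_mem (inv_mem (pow_mem hm r)) (inv_mem (F.U_M hb))
  have hqr : q ^ r ∈ K.U := F.hMX _ hqM fun y hy => ((F.cXQ y hy q hq).pow_right r).symm
  obtain ⟨k, hk⟩ : Odd r := hr.odd_of_ne_two hr2
  rw [hk, pow_succ, pow_mul] at hqr
  exact hqU ((mul_mem_cancel_left (pow_mem hqq k)).1 hqr)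

/-- A pair of vectors from colourings of the torsion of `X`. -/
theorem good2_twist (a : A) (ha : a ∈ F.Q)
    (hpin : ∀ g : A, g • F.w = F.w → g • a • F.w = a • F.w →
      (∀ z ∈ K.U, Commute g z) ∧ ∀ q ∈ F.Q, g • q • F.w = q • F.w)
    (hC : ∀ (Γ₀ : Subgroup A) (h1 : ∀ g ∈ Γ₀, g • F.w = F.w) (h2 : ∀ g ∈ Γ₀, ∀ z ∈ K.U, Commute g z)
      (r : ℕ) (hr : r.Prime), letI := K.uComm
      ∃ C : Additive (F.Xr D r) → Option K.U,
        (∀ g : F.splitGroup D Γ₀ h1, (∀ x, C ((F.twist D r hr Γ₀ h1 h2).σ g x) =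
            (C x).map ((F.twist D r hr Γ₀ h1 h2).z g x * ·)) →
          ∀ x, (F.twist D r hr Γ₀ h1 h2).σ g x = x ∧ (F.twist D r hr Γ₀ h1 h2).z g x = 1) ∧
        (r = 2 → F.Q ≠ K.U → AddSubgroup.closure {x | C x ≠ none} = ⊤)) : Good2 A V := by
  classical
  haveI : Fintype F.X := Fintype.ofFinite _
  letI := K.uComm
  have hXd : ∀ x ∈ F.X, x ∈ D.B := F.X_le
  let Γ₀ : Subgroup A := MulAction.stabilizer A F.w ⊓ MulAction.stabilizer A (a • F.w)
  have h1 : ∀ g ∈ Γ₀, g • F.w = F.w := fun g hg => hg.1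
  have h2 : ∀ g ∈ Γ₀, ∀ z ∈ K.U, Commute g z := fun g hg => (hpin g hg.1 hg.2).1
  choose col hcol hspan using fun (r : ℕ) (hr : r.Prime) => hC Γ₀ h1 h2 r hr
  let cval : ∀ r : ℕ, r.Prime → F.X → Option K.U := fun r hr x =>
    if h : x ^ r = 1 then col r hr (Additive.ofMul (⟨x, h⟩ : F.Xr D r)) else none
  let code : F.X → Option K.U := fun x =>
    if h : ∃ r : ℕ, r.Prime ∧ x ^ r = 1 then cval h.choose h.choose_spec.1 x else none
  have hcode : ∀ (r : ℕ) (hr : r.Prime) (x : F.X), x ^ r = 1 → x ≠ 1 → code x = cval r hr x := by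
    intro r hr x hxr hx1
    have h : ∃ r : ℕ, r.Prime ∧ x ^ r = 1 := ⟨r, hr, hxr⟩
    have e : h.choose = r := by
      haveI := Fact.mk hr
      haveI := Fact.mk h.choose_spec.1
      rw [← orderOf_eq_prime h.choose_spec.2 hx1, orderOf_eq_prime hxr hx1]
    simp only [code, dif_pos h]
    congr 1
  let sv : Option K.U → V := fun o => o.elim 0 (fun z => (z : A) • F.w)
  let val : F.X → V := fun x => if x = 1 then a • F.w else sv (code x)
  have hwE := F.w_eig D
  have h0E := F.zero_eig D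
  have hqE := F.smul_eig D
  have hvalE : ∀ x, val x ∈ F.eigSet D := by
    intro x
    simp only [val, sv]
    split_ifs
    · exact hqE a ha _ hwE
    · rcases code x with _ | z
      · exact h0E
      · exact hqE _ (F.U_Q z.2) _ hwE
  refine ⟨F.w, ∑ x : F.X, (x : A) • val x, fun g hgw hgy v => ?_⟩
  have hgi : g⁻¹ • F.w = F.w := inv_smul_eq_iff.2 hgw.symm
  have hgval : ∀ x, g • val x ∈ F.eigSet D := by
    intro x
    simp only [val, sv]
    split_ifs
    · obtain ⟨q', hq', e⟩ := F.conj_smul_w D hgw ha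
      rw [e]; exact hqE _ hq' _ hwE
    · rcases code x with _ | z
      · simpa using h0E
      · obtain ⟨q', hq', e⟩ := F.conj_smul_w D hgw (F.U_Q z.2)
        exact e ▸ hqE _ hq' _ hwE
  choose mm hmm qq hqq hconj using fun x : F.X => F.σX_spec D g x
  let σ : F.X ≃ F.X := Equiv.ofBijective (F.σX D g) ((F.σX_inj D hgw).bijective_of_finite)
  have hmqE : ∀ x : F.X, ∀ v ∈ F.eigSet D, (mm x * qq x) • v ∈ F.eigSet D := by
    intro x v hv
    obtain ⟨z, hz, hzw⟩ := F.eig _ (hmm x)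
    rw [(F.cMQ _ (hmm x) _ (hqq x)).eq, mul_smul, hv _ (hmm x) z hz hzw]
    exact hqE _ (hqq x) _ (hqE _ (F.U_Q hz) _ hv)
  have hmv : ∀ x : F.X, (mm x * qq x) • g • val x = val (F.σX D g x) := by
    have key := F.indep_eq D (fun y => (mm (σ.symm y) * qq (σ.symm y)) • g • val (σ.symm y)) val
      (fun y => hmqE _ _ (hgval _)) hvalE (by
        refine Eq.trans ?_ hgy
        rw [Finset.smul_sum]
        refine (Fintype.sum_equiv σ (fun x : F.X => g • (x : A) • val x) _ fun x => ?_).symm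
        rw [Equiv.symm_apply_apply, ← mul_smul, ← mul_smul, ← mul_smul]
        congr 1
        show g * (x : A) = (F.σX D g x : A) * (mm x * qq x) * g
        rw [← mul_assoc, ← hconj]
        group)
    intro x
    have := key (σ x)
    rw [Equiv.symm_apply_apply] at this; exact this
  have hσ1 := F.σX_one D g
  have hga : g • a • F.w = a • F.w := by
    have h := hmv 1
    have e := hconj 1
    rw [hσ1, Subgroup.coe_one, one_mul, mul_one, mul_inv_cancel] at e
    rw [hσ1, ← e, one_smul] at h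
    simpa [val] using h
  obtain ⟨hgU, hgQ⟩ := hpin g hgw hga
  have hgsv : ∀ o : Option K.U, g • sv o = sv o := by
    rintro (_ | z)
    · exact smul_zero g
    · show g • (z : A) • F.w = (z : A) • F.w
      rw [← mul_smul, (hgU _ z.2).eq, mul_smul, hgw]
  -- the scalar of each component
  have hcomp : ∀ x : F.X, x ≠ 1 → ∃ z : K.U, mm x • F.w = (z : A) • F.w ∧
      (code x = none → code (F.σX D g x) = none) ∧
      ∀ u, code x = some u → qq x ∈ K.U ∧ ∃ u', code (F.σX D g x) = some u' ∧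
        (u' : A) = qq x * z * u := by
    intro x hx
    have hσx : F.σX D g x ≠ 1 := fun h => hx (F.σX_inj D hgw (h.trans hσ1.symm))
    obtain ⟨z, hz, hzw⟩ := F.eig _ (hmm x)
    have h := hmv x
    simp only [val, if_neg hx, if_neg hσx, hgsv] at h
    refine ⟨⟨z, hz⟩, hzw, fun hn => ?_, fun u hu => ?_⟩
    · rw [hn] at h
      rcases hc : code (F.σX D g x) with _ | u'
      · rfl
      · rw [hc] at h
        simp only [sv, Option.elim, smul_zero] at h
        exact absurd ((smul_eq_zero_iff_eq _).1 h.symm) F.w_ne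
    · rw [hu] at h
      have hl : (mm x * qq x) • sv (some u) = (qq x * z * u) • F.w := by
        show (mm x * qq x) • (u : A) • F.w = _
        rw [← mul_smul, mul_assoc, F.smul_w_mq D (hmm x) (mul_mem (hqq x) (F.U_Q u.2)) hz hzw,
          mul_assoc, mul_assoc, K.comm _ u.2 _ hz]
      rw [hl] at h
      rcases hc : code (F.σX D g x) with _ | u'
      · rw [hc] at h
        simp only [sv, Option.elim] at h
        exact absurd ((smul_eq_zero_iff_eq _).1 h) F.w_ne
      · rw [hc] at h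
        have he := F.Q_free D _ (mul_mem (mul_mem (hqq x) (F.U_Q hz)) (F.U_Q u.2)) _ (F.U_Q u'.2) h
        refine ⟨?_, u', rfl, he.symm⟩
        rw [eq_mul_inv_of_mul_eq (show qq x * (z * (u : A)) = u' by rw [← mul_assoc]; exact he)]
        exact mul_mem u'.2 (inv_mem (mul_mem hz u.2))
  -- `g` maps `X` into `X M`
  let Sg : Subgroup F.X :=
    { carrier := {x | qq x ∈ K.U}
      one_mem' := by
        show qq 1 ∈ K.U
        have e := hconj 1
        rw [hσ1, Subgroup.coe_one, one_mul, mul_one, mul_inv_cancel] at e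
        have hq : qq 1 = (mm 1)⁻¹ := eq_inv_of_mul_eq_one_right e.symm
        exact F.hMX _ (by rw [hq]; exact inv_mem (hmm 1)) fun y hy => (F.cXQ y hy _ (hqq 1)).symm
      mul_mem' := fun {x y} (hx : qq x ∈ K.U) (hy : qq y ∈ K.U) => by
        show qq (x * y) ∈ K.U
        have e := hconj (x * y)
        have hb := D.comm _ (F.M_le (hmm x)) _ (hXd _ (F.σX D g y).2)
        have hn : (⁅mm x, (F.σX D g y : A)⁆ * mm x * qq x * (mm y * qq y)) ∈ F.M :=
          mul_mem (mul_mem (mul_mem (F.U_M hb) (hmm x)) (F.U_M hx)) (mul_mem (hmm y) (F.U_M hy))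
        have e2 : g * ((x * y : F.X) : A) * g⁻¹ = (F.σX D g (x * y) : A) *
            (⁅mm x, (F.σX D g y : A)⁆ * mm x * qq x * (mm y * qq y)) := by
          rw [show g * ((x * y : F.X) : A) * g⁻¹ = g * x * g⁻¹ * (g * y * g⁻¹) by
            rw [Subgroup.coe_mul]; group, hconj x, hconj y, F.σX_mul, Subgroup.coe_mul]
          calc (F.σX D g x : A) * mm x * qq x * (F.σX D g y * mm y * qq y)
              = F.σX D g x * mm x * (qq x * F.σX D g y) * (mm y * qq y) := by simp only [mul_assoc]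
            _ = F.σX D g x * (mm x * F.σX D g y) * qq x * (mm y * qq y) := by
                rw [← (F.cXQ _ (F.σX D g y).2 _ (hqq x)).eq]; simp only [mul_assoc]
            _ = _ := by rw [F.swap_comm D (hmm x) (F.σX D g y).2]; simp only [mul_assoc]
        rw [e, mul_assoc] at e2
        refine F.hMX _ ?_ fun z hz => (F.cXQ z hz _ (hqq _)).symm
        rw [eq_inv_mul_of_mul_eq (mul_left_cancel e2)]
        exact mul_mem (inv_mem (hmm _)) hn
      inv_mem' := fun {x} (hx : qq x ∈ K.U) => by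
        show qq x⁻¹ ∈ K.U
        have e : ((g * x * g⁻¹)⁻¹) = g * ((x⁻¹ : F.X) : A) * g⁻¹ := by rw [Subgroup.coe_inv]; group
        have hb := D.comm _ (inv_mem (F.M_le (hmm x))) _ (inv_mem (hXd _ (F.σX D g x).2))
        have e2 : g * ((x⁻¹ : F.X) : A) * g⁻¹ = (F.σX D g x : A)⁻¹ *
            ((qq x)⁻¹ * (⁅(mm x)⁻¹, (F.σX D g x : A)⁻¹⁆ * (mm x)⁻¹)) := by
          rw [← e, hconj x, mul_inv_rev, mul_inv_rev, F.swap_comm D (inv_mem (hmm x)) (inv_mem (F.σX D g x).2),
            ← mul_assoc, ← (F.cXQ _ (inv_mem (F.σX D g x).2) _ (inv_mem (hqq x))).eq, mul_assoc]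
        have hn : (qq x)⁻¹ * (⁅(mm x)⁻¹, (F.σX D g x : A)⁻¹⁆ * (mm x)⁻¹) ∈ F.M :=
          mul_mem (F.U_M (inv_mem hx)) (mul_mem (F.U_M hb) (inv_mem (hmm x)))
        have hs := F.σX_eq D (inv_mem (F.σX D g x).2) (fun n hn' => F.cM _ hn n hn') e2
        rw [hconj x⁻¹, hs, mul_assoc] at e2
        refine F.hMX _ ?_ fun z hz => (F.cXQ z hz _ (hqq _)).symm
        rw [eq_inv_mul_of_mul_eq (mul_left_cancel e2)]
        exact mul_mem (inv_mem (hmm _)) hn }
  have hsplit : F.Split D g := by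
    suffices hall : ∀ x : F.X, x ∈ Sg by
      intro x
      exact ⟨mm x * qq x, mul_mem (hmm x) (F.U_M (hall x)), by rw [← mul_assoc]; exact hconj x⟩
    by_cases hQ : F.Q = K.U
    · intro x; show qq x ∈ K.U; rw [← hQ]; exact hqq x
    have hr : ∀ r : ℕ, r.Prime → ∀ x : F.X, x ^ r = 1 → x ∈ Sg := by
      intro r hr x hxr
      by_cases hr2 : r = 2
      · have hle : AddSubgroup.closure {y : Additive (F.Xr D r) | col r hr y ≠ none} ≤
            Subgroup.toAddSubgroup (Sg.comap (F.Xr D r).subtype) := by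
          refine (AddSubgroup.closure_le _).2 fun y hy => ?_
          show ((Additive.toMul y : F.Xr D r) : F.X) ∈ Sg
          by_cases hy1 : ((Additive.toMul y : F.Xr D r) : F.X) = 1
          · rw [hy1]; exact one_mem _
          obtain ⟨u, hu⟩ := Option.ne_none_iff_exists'.1 hy
          have hyr : ((Additive.toMul y : F.Xr D r) : F.X) ^ r = 1 := (Additive.toMul y).2
          have : code ((Additive.toMul y : F.Xr D r) : F.X) = some u := by
            rw [hcode r hr _ hyr hy1]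
            simp only [cval, dif_pos hyr]
            exact hu
          obtain ⟨z, -, -, h⟩ := hcomp _ hy1
          exact (h u this).1
        rw [hspan r hr hr2 hQ] at hle
        exact hle (show Additive.ofMul (⟨x, hxr⟩ : F.Xr D r) ∈ (⊤ : AddSubgroup _) from trivial)
      · obtain ⟨m, hm, e⟩ := F.mem_of_split_torsion D (g := g) hr hr2 hxr
        show qq x ∈ K.U
        rw [hconj x, mul_assoc] at e
        refine F.hMX _ ?_ fun z hz => (F.cXQ z hz _ (hqq _)).symm
        rw [eq_inv_mul_of_mul_eq (mul_left_cancel e)]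
        exact mul_mem (inv_mem (hmm _)) hm
    intro x
    obtain ⟨n, hn, hxn⟩ := F.exists_sqf_one D x.2
    have hxn' : x ^ n = 1 := Subtype.ext (by rw [SubgroupClass.coe_pow, hxn]; rfl)
    clear hxn
    induction n using Nat.strong_induction_on generalizing x with
    | _ n ih =>
      by_cases h1' : n = 1
      · rw [h1', pow_one] at hxn'; rw [hxn']; exact one_mem _
      obtain ⟨r, hr', hrd⟩ := Nat.exists_prime_and_dvd h1'
      obtain ⟨k, rfl⟩ := hrd
      have hk0 : k ≠ 0 := fun e => hn.ne_zero (by rw [e, mul_zero])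
      have h3 := hr r hr' (x ^ k) (by rw [← pow_mul, mul_comm, hxn'])
      have h4 := ih k (lt_mul_of_one_lt_left (Nat.pos_of_ne_zero hk0) hr'.one_lt) (x ^ r) hn.of_mul_right
        (by rw [← pow_mul, hxn'])
      have hg := Nat.gcd_eq_gcd_ab r k
      rw [(Nat.coprime_of_squarefree_mul hn).gcd_eq_one] at hg
      have e : x = (x ^ r) ^ (Nat.gcdA r k) * (x ^ k) ^ (Nat.gcdB r k) := by
        rw [← zpow_natCast x r, ← zpow_natCast x k, ← zpow_mul, ← zpow_mul, ← zpow_add, ← hg]; simp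
      rw [e]
      exact mul_mem (zpow_mem h4 _) (zpow_mem h3 _)
  have hgΓ : g ∈ F.splitGroup D Γ₀ h1 := ⟨⟨hgw, hga⟩, hsplit⟩
  -- the twisted map is trivial
  have htriv : ∀ (r : ℕ) (hr : r.Prime) (x : F.X), x ^ r = 1 →
      ∃ m ∈ F.M, g * x * g⁻¹ = x * m ∧ m • F.w = F.w := by
    intro r hr x hxr
    have h := hcol r hr ⟨g, hgΓ⟩ (fun y => by
      have hyr : ((Additive.toMul y : F.Xr D r) : F.X) ^ r = 1 := (Additive.toMul y).2
      by_cases hy1 : ((Additive.toMul y : F.Xr D r) : F.X) = 1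
      · have hy0 : y = 0 := Additive.toMul.injective (Subtype.ext hy1)
        subst hy0
        rw [map_zero, (F.twist D r hr Γ₀ h1 h2).z_zero]
        simp
      obtain ⟨z, hzw, hn, hs⟩ := hcomp _ hy1
      have hsr : F.σX D g ((Additive.toMul y : F.Xr D r) : F.X) ^ r = 1 :=
        (Additive.toMul ((F.twist D r hr Γ₀ h1 h2).σ ⟨g, hgΓ⟩ y)).2
      have hs1 : F.σX D g ((Additive.toMul y : F.Xr D r) : F.X) ≠ 1 := fun h =>
        hy1 (F.σX_inj D hgw (h.trans hσ1.symm))
      have ey : code ((Additive.toMul y : F.Xr D r) : F.X) = col r hr y := by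
        rw [hcode r hr _ hyr hy1]; simp only [cval, dif_pos hyr]; rfl
      have esy : code (F.σX D g ((Additive.toMul y : F.Xr D r) : F.X)) =
          col r hr ((F.twist D r hr Γ₀ h1 h2).σ ⟨g, hgΓ⟩ y) := by
        rw [hcode r hr _ hsr hs1]; simp only [cval, dif_pos hsr]; rfl
      rw [← esy, ← ey]
      rcases hc : code ((Additive.toMul y : F.Xr D r) : F.X) with _ | u
      · rw [hn hc]; rfl
      obtain ⟨hqU, u', hu', he⟩ := hs u hc
      rw [hu']
      show some u' = some (F.phase D g hsplit _ * u)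
      congr 1
      rw [F.phase_eq D hsplit (z := ⟨_, hqU⟩ * z) (mul_mem (hmm _) (F.U_M hqU))
        (by rw [← mul_assoc]; exact hconj _) (by
          rw [F.smul_w_mq D (hmm _) (F.U_Q hqU) z.2 hzw]; rfl)]
      exact Subtype.ext he) (Additive.ofMul ⟨x, hxr⟩)
    have hσ : F.σX D g x = x := congrArg Subtype.val (congrArg Additive.toMul h.1)
    have hz : F.phase D g hsplit x = 1 := h.2
    obtain ⟨m, hm, e, ez⟩ := F.phase_spec D g hsplit x
    rw [hσ] at e
    rw [hz, Subgroup.coe_one, one_smul] at ez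
    exact ⟨m, hm, e, ez⟩
  have hgX : ∀ x ∈ F.X, Commute g x := by
    intro x hx
    obtain ⟨n, hn, hxn⟩ := F.exists_sqf_one D hx
    refine commute_of_prime_parts hn hxn fun r hr k hk => ?_
    obtain ⟨m, hm, e, ez⟩ := htriv r hr ⟨x ^ k, pow_mem hx k⟩ (Subtype.ext hk)
    set t := x ^ k with ht
    have htX : t ∈ F.X := pow_mem hx k
    have hmt : ∀ (s : ℕ) (_ : s.Prime) (y : A), y ∈ F.X → y ^ s = 1 → s = r → ⁅m, y⁆ = 1 := by
      intro s hs y hy hys hsr
      subst hsr
      obtain ⟨m', hm', e', ez'⟩ := htriv s hr ⟨y, hy⟩ (Subtype.ext hys)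
      obtain ⟨m'', hm'', e'', ez''⟩ := htriv s hr ⟨t * y, mul_mem htX hy⟩ (Subtype.ext (by
        show (t * y) ^ s = 1
        rw [(F.cX t htX y hy).mul_pow, hk, hys, one_mul]))
      have hmm' : m'' = ⁅m, y⁆ * m * m' := by
        refine mul_left_cancel (a := t * y) ?_
        have h1' : g * (t * y) * g⁻¹ = t * y * m'' := e''
        have e1 : g * t * g⁻¹ = t * m := e
        have e2 : g * y * g⁻¹ = y * m' := e'
        rw [← h1', show g * (t * y) * g⁻¹ = g * t * g⁻¹ * (g * y * g⁻¹) by group, e1, e2]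
        calc t * m * (y * m') = t * (m * y) * m' := by simp only [mul_assoc]
          _ = _ := by rw [F.swap_comm D hm hy]; simp only [mul_assoc]
      rw [hmm', mul_smul, ez', mul_smul, ez] at ez''
      exact K.fix_eq_one (D.comm m (F.M_le hm) y (hXd y hy)) F.w_ne ez''
    have hmr : m ^ r = 1 := by
      have h' : (t * m) ^ r = 1 := by
        rw [show t * m = g * t * g⁻¹ from e.symm, conj_pow, hk, mul_one, mul_inv_cancel]
      rwa [D.mul_pow_eq (hXd t htX) (F.M_le hm), hk, one_mul, hmt r hr t htX hk rfl, one_pow, mul_one] at h'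
    have hmX : ∀ y ∈ F.X, Commute m y := by
      intro y hy
      obtain ⟨n', hn', hyn⟩ := F.exists_sqf_one D hy
      refine commute_of_prime_parts hn' hyn fun s hs l hl => ?_
      rw [← commutatorElement_eq_one_iff_commute]
      by_cases hsr : s = r
      · exact hmt s hs _ (pow_mem hy l) hl hsr
      · have hyB := hXd _ (pow_mem hy l)
        have c1 : ⁅m, y ^ l⁆ ^ r = 1 := D.comm_one_of_pow (F.M_le hm) hyB (by rw [hmr]; exact one_mem _)
        have c2 : ⁅m, y ^ l⁆ ^ s = 1 :=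
          D.comm_right_one_of_pow (F.M_le hm) hyB (by rw [hl]; exact one_mem _)
        have := pow_gcd_eq_one.2 ⟨c1, c2⟩
        rwa [((Nat.coprime_primes hr hs).2 (Ne.symm hsr)).gcd_eq_one, pow_one] at this
    have hm1 : m = 1 := K.fix_eq_one (F.hMX m hm hmX) F.w_ne ez
    rw [hm1, mul_one] at e
    exact mul_inv_eq_iff_eq_mul.1 e
  have hgM : ∀ m ∈ F.M, Commute g m := by
    intro m hm
    have hM' := F.conj_M D hgw hm
    have hzU : g * m * g⁻¹ * m⁻¹ ∈ K.U := F.hMX _ (mul_mem hM' (inv_mem hm)) fun x hx => by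
      rw [← commutatorElement_eq_one_iff_commute]
      have hgx : g * x * g⁻¹ = x := by rw [(hgX x hx).eq, mul_inv_cancel_right]
      have hcU := D.comm m (F.M_le hm) x (hXd x hx)
      have e1 : ⁅g * m * g⁻¹, x⁆ = ⁅m, x⁆ := by
        conv_lhs => rw [← hgx]
        rw [show ⁅g * m * g⁻¹, g * x * g⁻¹⁆ = g * ⁅m, x⁆ * g⁻¹ by
          simp only [commutatorElement_def]; group, (hgU _ hcU).eq, mul_inv_cancel_right]
      rw [D.comm_mul_left (F.M_le hM') (inv_mem (F.M_le hm)) (hXd x hx), e1,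
        ← D.comm_mul_left (F.M_le hm) (inv_mem (F.M_le hm)) (hXd x hx), mul_inv_cancel,
        commutatorElement_one_left]
    obtain ⟨z, hz, hzw⟩ := F.eig m hm
    have e : (g * m * g⁻¹ * m⁻¹) • F.w = F.w := by
      have h1' : m⁻¹ • F.w = z⁻¹ • F.w := by
        rw [inv_smul_eq_iff, ← mul_smul, (D.cent m (F.M_le hm) _ (inv_mem hz)).eq, mul_smul, hzw,
          inv_smul_smul]
      rw [mul_smul, h1', ← mul_smul, (D.cent _ (F.M_le hM') _ (inv_mem hz)).eq,
        mul_smul, mul_smul, mul_smul, hgi, hzw, ← mul_smul g z, (hgU z hz).eq, mul_smul, hgw,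
        inv_smul_smul]
    exact mul_inv_eq_iff_eq_mul.1 (mul_inv_eq_one.1 (K.fix_eq_one hzU F.w_ne e))
  have hgQ' : ∀ q ∈ F.Q, Commute g q := by
    intro q hq
    obtain ⟨m, hm, q', hq', e⟩ := F.conj_MQ D hgw hq
    have hmU : m ∈ K.U := F.hMX m hm fun x hx => by
      have h1' : Commute (g * q * g⁻¹) x := by
        have hgx := hgX x hx
        exact (hgx.mul_left (F.cXQ x hx q hq).symm).mul_left hgx.inv_left
      rw [e] at h1'
      simpa using h1'.mul_left (F.cXQ x hx q' hq').symm.inv_left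
    have hgq : g * q * g⁻¹ ∈ F.Q := by rw [e]; exact mul_mem (F.U_Q hmU) hq'
    exact mul_inv_eq_iff_eq_mul.1 (F.Q_free D _ hgq q hq (by rw [mul_smul, mul_smul, hgi, hgQ q hq]))
  have hgB : g ∈ K.U := D.self g hgU fun c hc => by
    obtain ⟨x, hx, m, hm, q, hq, rfl⟩ := F.dec D c hc
    exact ((hgX x hx).mul_right (hgM m hm)).mul_right (hgQ' q hq)
  rw [K.fix_eq_one hgB F.w_ne hgw, one_smul]

end Cfsg.Agent.ThreeVec75
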