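import Cfsg.Agent.Lib.ThreeVec75Combo

/-!
# Checking the common stabiliser of two vectors in the normaliser of a small model

A matrix fixing `x` and `y` and normalising the model sends a word applied to `x` or `y` to the image word
applied to the same vector. The linear relations among the source vectors do not depend on the images, so a
search over the images of the generators is pruned by a few sums of orbit vectors.
-/

set_option autoImplicit false

namespace Cfsg.Agent.TwoVecEngine82

open Matrix Cfsg.Agent.ThreeVec75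

/-- The byte at a position of a packed table. -/
def tb (T v : ℕ) : ℕ := Nat.land (Nat.shiftRight T (8 * v)) 255

/-- An orbit of signed words on one vector: packed vectors, generator tables, scalar tables (starting
with the scalar `1`), tables of the signed words. -/
structure Orbit where
  size : ℕ
  vec : ℕ
  tr : List ℕ
  sc : List ℕ
  cand : List ℕ

/-- A term of a linear relation: steps, the vector (`true` for the second one), coefficient. -/
abbrev Term := List ℕ × Bool × ℕ

/-- A certificate for one pair. -/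
structure PairCert where
  ox : Orbit
  oy : Orbit
  order : List ℕ
  rels : List (List (List Term))
  units : List (List Term)
  sols : List (List (List ℕ))

/-- All lists of Booleans of a given length. -/
def allBools : ℕ → List (List Bool)
  | 0 => [[]]
  | n + 1 => (allBools n).map (List.cons false) ++ (allBools n).map (List.cons true)

theorem mem_allBools : ∀ l : List Bool, l ∈ allBools l.length
  | [] => by simp [allBools]
  | b :: l => by
    have := mem_allBools l
    cases b <;> simp [allBools, this]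

/-- The signed words: scalar and exponents. -/
def candList (p n : ℕ) : List (ℕ × List Bool) :=
  (List.range' 1 (p - 1)).flatMap fun c => (allBools n).map fun l => (c, l)

namespace PairCert

variable (P : PairCert)

/-- The orbit of one of the two vectors. -/
def orb : Bool → Orbit
  | false => P.ox
  | true => P.oy

/-- The pair of candidate tables. -/
def cands : List (ℕ × ℕ) := P.ox.cand.zip P.oy.cand

/-- The tables of the ordered generators. -/
def srcCh : List (ℕ × ℕ) := P.order.map fun g => (P.ox.tr.getD g 0, P.oy.tr.getD g 0)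

/-- Select a table. -/
def sel : Bool → ℕ × ℕ → ℕ
  | false, w => w.1
  | true, w => w.2

/-- Follow steps through chosen tables. -/
def run (ch : List (ℕ × ℕ)) (t : Bool) (path : List ℕ) : ℕ :=
  path.foldr (fun s v => tb (sel t (ch.getD s (0, 0))) v) 0

/-- A coordinate of an orbit vector. -/
def coord (e : ℕ) (t : Bool) (v i : ℕ) : ℕ := tb (P.orb t).vec (e * v + i)

/-- A coordinate of a combination. -/
def sumCoord (e : ℕ) (ch : List (ℕ × ℕ)) (r : List Term) (i : ℕ) : ℕ :=
  r.foldr (fun q s => q.2.2 * P.coord e q.2.1 (run ch q.2.1 q.1) i + s) 0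

/-- A combination vanishes. -/
def relOK (p e : ℕ) (ch : List (ℕ × ℕ)) (r : List Term) : Bool :=
  (List.range e).all fun i => P.sumCoord e ch r i % p == 0

/-- A leaf is one of the listed solutions. -/
def leafOK (p e : ℕ) (ch : List (ℕ × ℕ)) : Bool :=
  P.sols.any fun S => (List.range e).all fun i => (List.range e).all fun j =>
    P.sumCoord e ch (P.units.getD i []) j % p == ((S.getD j []).getD i 0) % p

/-- The search. -/
def search (p e : ℕ) : List (List (List Term)) → List (ℕ × ℕ) → Bool
  | [], ch => P.leafOK p e ch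
  | R :: rest, ch => P.cands.all fun w =>
      !(R.all fun r => P.relOK p e (ch ++ [w]) r) || search p e rest (ch ++ [w])

/-- An orbit vector. -/
def vecOf (p e : ℕ) (t : Bool) (v : ℕ) : Fin e → ZMod p := fun i => (P.coord e t v i : ZMod p)

/-- The listed matrices. -/
def matOf (p e : ℕ) (S : List (List ℕ)) : Matrix (Fin e) (Fin e) (ZMod p) :=
  fun j i => (((S.getD j []).getD i 0 : ℕ) : ZMod p)

variable (p e : ℕ) (L : List (Matrix (Fin e) (Fin e) (ZMod p)))

/-- Apply a signed word through the tables of one orbit. -/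
def compOf (O : Orbit) (q : ℕ × List Bool) (v : ℕ) : ℕ :=
  tb (O.sc.getD (q.1 - 1) 0) ((O.tr.zip q.2).foldr (fun s u => if s.2 then tb s.1 u else u) v)

/-- The tables of one orbit are correct. -/
def orbOK (t : Bool) : Bool :=
  decide (0 < (P.orb t).size) && decide ((P.orb t).tr.length = L.length)
    && ((List.range L.length).all fun g => (List.range (P.orb t).size).all fun v =>
      decide (tb ((P.orb t).tr.getD g 0) v < (P.orb t).size) &&
      decide (L.getD g 0 *ᵥ P.vecOf p e t v = P.vecOf p e t (tb ((P.orb t).tr.getD g 0) v)))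
    && ((List.range' 1 (p - 1)).all fun c => (List.range (P.orb t).size).all fun v =>
      decide (tb ((P.orb t).sc.getD (c - 1) 0) v < (P.orb t).size) &&
      decide ((c : ZMod p) • P.vecOf p e t v = P.vecOf p e t (tb ((P.orb t).sc.getD (c - 1) 0) v)))
    && decide ((P.orb t).cand.length = (candList p L.length).length)
    && (((candList p L.length).zip (P.orb t).cand).all fun q =>
      (List.range (P.orb t).size).all fun v => tb q.2 v == compOf (P.orb t) q.1 v)

/-- The certificate is well formed. -/
def dataOK : Bool :=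
  P.orbOK p e L false && P.orbOK p e L true
    && decide (P.order.length = L.length) && decide (P.rels.length = L.length)
    && (P.order.all fun g => decide (g < L.length) && decide (L.getD g 0 ≠ 0))
    && ((List.range P.rels.length).all fun k => (P.rels.getD k []).all fun r =>
      (r.all fun q => q.1.all fun s => decide (s ≤ k)) && P.relOK p e P.srcCh r)
    && ((List.range e).all fun i =>
      ((P.units.getD i []).all fun q => q.1.all fun s => decide (s < L.length)) &&
      (List.range e).all fun j =>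
        P.sumCoord e P.srcCh (P.units.getD i []) j % p == (if i = j then 1 else 0))

theorem combine (ch : List (ℕ × ℕ)) (r : List Term) (i : Fin e) :
    ((P.sumCoord e ch r i : ℕ) : ZMod p) =
      ((r.map fun q => (q.2.2 : ZMod p) • P.vecOf p e q.2.1 (run ch q.2.1 q.1)).sum) i := by
  induction r with
  | nil => simp [sumCoord]
  | cons q r ih =>
    have e1 : P.sumCoord e ch (q :: r) i =
        q.2.2 * P.coord e q.2.1 (run ch q.2.1 q.1) i + P.sumCoord e ch r i := rfl
    rw [e1, Nat.cast_add, Nat.cast_mul, ih, List.map_cons, List.sum_cons]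
    simp [vecOf]

/-- The invariant of a node: a choice for each step taken. -/
def Valid (M : Matrix (Fin e) (Fin e) (ZMod p)) (ch : List (ℕ × ℕ)) : Prop :=
  ∀ s < ch.length, ∀ t : Bool, ∃ gm wm : Matrix (Fin e) (Fin e) (ZMod p), M * gm = wm * M ∧
    ∀ v < (P.orb t).size,
      (tb (sel t (P.srcCh.getD s (0, 0))) v < (P.orb t).size ∧
        gm *ᵥ P.vecOf p e t v = P.vecOf p e t (tb (sel t (P.srcCh.getD s (0, 0))) v)) ∧
      (tb (sel t (ch.getD s (0, 0))) v < (P.orb t).size ∧
        wm *ᵥ P.vecOf p e t v = P.vecOf p e t (tb (sel t (ch.getD s (0, 0))) v))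

variable {p e}

theorem map_run {M : Matrix (Fin e) (Fin e) (ZMod p)} (h0 : ∀ t, 0 < (P.orb t).size)
    (hfix : ∀ t, M *ᵥ P.vecOf p e t 0 = P.vecOf p e t 0) {ch : List (ℕ × ℕ)} (hv : P.Valid p e M ch)
    (t : Bool) : ∀ path : List ℕ, (∀ s ∈ path, s < ch.length) →
      run P.srcCh t path < (P.orb t).size ∧ run ch t path < (P.orb t).size ∧
        M *ᵥ P.vecOf p e t (run P.srcCh t path) = P.vecOf p e t (run ch t path)
  | [], _ => ⟨h0 t, h0 t, hfix t⟩
  | s :: path, h => by
    obtain ⟨h1, h2, h3⟩ := map_run h0 hfix hv t path fun s' hs' => h s' (List.mem_cons_of_mem _ hs')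
    obtain ⟨gm, wm, hc, htab⟩ := hv s (h s List.mem_cons_self) t
    obtain ⟨⟨a1, a2⟩, -⟩ := htab _ h1
    obtain ⟨-, b1, b2⟩ := htab _ h2
    refine ⟨a1, b1, ?_⟩
    show M *ᵥ P.vecOf p e t (tb _ (run P.srcCh t path)) = P.vecOf p e t (tb _ (run ch t path))
    rw [← a2, ← b2, mulVec_mulVec, hc, ← mulVec_mulVec, h3]

theorem map_sum {M : Matrix (Fin e) (Fin e) (ZMod p)} (h0 : ∀ t, 0 < (P.orb t).size)
    (hfix : ∀ t, M *ᵥ P.vecOf p e t 0 = P.vecOf p e t 0) {ch : List (ℕ × ℕ)} (hv : P.Valid p e M ch)
    (r : List Term) (hr : ∀ q ∈ r, ∀ s ∈ q.1, s < ch.length) :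
    M *ᵥ (r.map fun q => (q.2.2 : ZMod p) • P.vecOf p e q.2.1 (run P.srcCh q.2.1 q.1)).sum =
      (r.map fun q => (q.2.2 : ZMod p) • P.vecOf p e q.2.1 (run ch q.2.1 q.1)).sum := by
  induction r with
  | nil => simp
  | cons q r ih =>
    rw [List.map_cons, List.sum_cons, List.map_cons, List.sum_cons, mulVec_add, mulVec_smul,
      ih fun q' hq' => hr q' (List.mem_cons_of_mem _ hq'),
      (P.map_run h0 hfix hv q.2.1 q.1 (hr q List.mem_cons_self)).2.2]

theorem relOK_of_valid {M : Matrix (Fin e) (Fin e) (ZMod p)} (h0 : ∀ t, 0 < (P.orb t).size)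
    (hfix : ∀ t, M *ᵥ P.vecOf p e t 0 = P.vecOf p e t 0) {ch : List (ℕ × ℕ)} (hv : P.Valid p e M ch)
    (r : List Term) (hr : ∀ q ∈ r, ∀ s ∈ q.1, s < ch.length) (hsrc : P.relOK p e P.srcCh r = true) :
    P.relOK p e ch r = true := by
  simp only [relOK, List.all_eq_true, List.mem_range, beq_iff_eq] at hsrc ⊢
  have hz : (r.map fun q => (q.2.2 : ZMod p) • P.vecOf p e q.2.1 (run P.srcCh q.2.1 q.1)).sum = 0 := by
    funext i
    rw [← combine, Pi.zero_apply, ← ZMod.natCast_mod, hsrc i i.2, Nat.cast_zero]
  intro i hi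
  have h := congrFun (P.map_sum h0 hfix hv r hr) ⟨i, hi⟩
  rw [hz, mulVec_zero, ← combine, Pi.zero_apply] at h
  exact Nat.mod_eq_zero_of_dvd ((ZMod.natCast_eq_zero_iff _ _).1 h.symm)

/-- Soundness of the search. -/
theorem search_sound {M : Matrix (Fin e) (Fin e) (ZMod p)} (h0 : ∀ t, 0 < (P.orb t).size)
    (hfix : ∀ t, M *ᵥ P.vecOf p e t 0 = P.vecOf p e t 0)
    (hstep : ∀ s < P.rels.length, ∃ w ∈ P.cands, ∀ t : Bool,
      ∃ gm wm : Matrix (Fin e) (Fin e) (ZMod p), M * gm = wm * M ∧ ∀ v < (P.orb t).size,
        (tb (sel t (P.srcCh.getD s (0, 0))) v < (P.orb t).size ∧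
          gm *ᵥ P.vecOf p e t v = P.vecOf p e t (tb (sel t (P.srcCh.getD s (0, 0))) v)) ∧
        (tb (sel t w) v < (P.orb t).size ∧ wm *ᵥ P.vecOf p e t v = P.vecOf p e t (tb (sel t w) v)))
    (hrel : ∀ k < P.rels.length, ∀ r ∈ P.rels.getD k [],
      (∀ q ∈ r, ∀ s ∈ q.1, s ≤ k) ∧ P.relOK p e P.srcCh r = true) :
    ∀ (rest : List (List (List Term))) (ch : List (ℕ × ℕ)), P.rels.drop ch.length = rest →
      ch.length ≤ P.rels.length → P.Valid p e M ch → P.search p e rest ch = true →
      ∃ ch', ch'.length = P.rels.length ∧ P.Valid p e M ch' ∧ P.leafOK p e ch' = true := by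
  intro rest
  induction rest with
  | nil =>
    intro ch hdrop hle hv hs
    exact ⟨ch, le_antisymm hle (List.drop_eq_nil_iff.1 hdrop), hv, hs⟩
  | cons R rest ih =>
    intro ch hdrop hle hv hs
    have hlt : ch.length < P.rels.length := by
      rcases lt_or_eq_of_le hle with h | h
      · exact h
      · rw [h, List.drop_length] at hdrop; exact absurd hdrop (by simp)
    have hR : P.rels.getD ch.length [] = R := by
      have h := List.drop_eq_getElem_cons hlt
      rw [hdrop, List.cons.injEq] at h
      rw [List.getD_eq_getElem _ _ hlt, h.1]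
    have hrest : P.rels.drop (ch.length + 1) = rest := by
      have h := List.drop_eq_getElem_cons hlt
      rw [hdrop, List.cons.injEq] at h
      exact h.2.symm
    obtain ⟨w, hw, hwt⟩ := hstep _ hlt
    have hlen : (ch ++ [w]).length = ch.length + 1 := by simp
    have hv' : P.Valid p e M (ch ++ [w]) := by
      intro s hs' t
      rw [hlen] at hs'
      rcases Nat.lt_succ_iff_lt_or_eq.1 hs' with h | h
      · rw [List.getD_append _ _ _ _ h]; exact hv s h t
      · subst h
        rw [List.getD_append_right _ _ _ _ le_rfl]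
        simpa using hwt t
    simp only [search, List.all_eq_true, Bool.or_eq_true, Bool.not_eq_true'] at hs
    rcases hs w hw with h | h
    · exfalso
      have hall : (R.all fun r => P.relOK p e (ch ++ [w]) r) = true := by
        simp only [List.all_eq_true]
        intro r hr
        obtain ⟨h1, h2⟩ := hrel _ hlt r (hR ▸ hr)
        exact P.relOK_of_valid h0 hfix hv' r (fun q hq s hs' => by rw [hlen]; exact Nat.lt_succ_of_le (h1 q hq s hs')) h2
      rw [hall] at h
      exact Bool.noConfusion h
    · exact ih _ (by rw [hlen, hrest]) (by rw [hlen]; exact hlt) hv' h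

theorem mulVec_word {t : Bool} {size : ℕ} :
    ∀ (L : List (Matrix (Fin e) (Fin e) (ZMod p))) (tr : List ℕ) (l : List Bool),
      tr.length = L.length →
      (∀ g < L.length, ∀ v < size, tb (tr.getD g 0) v < size ∧
        L.getD g 0 *ᵥ P.vecOf p e t v = P.vecOf p e t (tb (tr.getD g 0) v)) →
      ∀ v < size,
        (tr.zip l).foldr (fun s u => if s.2 then tb s.1 u else u) v < size ∧
        ((L.zip l).map fun s => if s.2 then s.1 else 1).prod *ᵥ P.vecOf p e t v =
          P.vecOf p e t ((tr.zip l).foldr (fun s u => if s.2 then tb s.1 u else u) v)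
  | [], tr, l, hlen, _, v, hv => by
    rw [List.length_eq_zero_iff.1 hlen]
    simp [hv]
  | g :: L, [], l, hlen, _, v, hv => by simp at hlen
  | g :: L, T :: tr, [], _, _, v, hv => by simp [hv]
  | g :: L, T :: tr, b :: l, hlen, h, v, hv => by
    obtain ⟨h1, h2⟩ := mulVec_word L tr l (by simpa using hlen)
      (fun g' hg' v' hv' => by simpa using h (g' + 1) (by simpa using hg') v' hv') v hv
    simp only [List.zip_cons_cons, List.map_cons, List.prod_cons, List.foldr_cons, ← mulVec_mulVec, h2]
    cases b
    · simpa using h1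
    · simpa using h 0 (by simp) _ h1

/-- Every element fixing both vectors acts as a listed matrix. -/
theorem mem_sols [NeZero p] (hdata : P.dataOK p e L = true) (hsearch : P.search p e P.rels [] = true)
    {A : Type*} [Group A] (ρ : A →* Matrix (Fin e) (Fin e) (ZMod p))
    (hnorm : ∀ a : A, ∀ g ∈ L, ∃ (c : ZMod p) (l : List Bool), l.length = L.length ∧
      ρ a * g * ρ a⁻¹ = c • ((L.zip l).map fun t => if t.2 then t.1 else 1).prod)
    (a : A) (hfix : ∀ t, ρ a *ᵥ P.vecOf p e t 0 = P.vecOf p e t 0) :
    ∃ S ∈ P.sols, ρ a = matOf p e S := by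
  simp only [dataOK, orbOK, Bool.and_eq_true, List.all_eq_true, decide_eq_true_eq, List.mem_range,
    beq_iff_eq, List.mem_range'_1] at hdata
  obtain ⟨⟨⟨⟨⟨⟨hX, hY⟩, hord⟩, hrl⟩, hord2⟩, hrels⟩, hunits⟩ := hdata
  have h0 : ∀ t, 0 < (P.orb t).size := fun t => by cases t <;> [exact hX.1.1.1.1.1; exact hY.1.1.1.1.1]
  have horb : ∀ t, (((((0 < (P.orb t).size) ∧ (P.orb t).tr.length = L.length) ∧
      ∀ g < L.length, ∀ v < (P.orb t).size, tb ((P.orb t).tr.getD g 0) v < (P.orb t).size ∧
        L.getD g 0 *ᵥ P.vecOf p e t v = P.vecOf p e t (tb ((P.orb t).tr.getD g 0) v)) ∧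
      ∀ c, 1 ≤ c ∧ c < 1 + (p - 1) → ∀ v < (P.orb t).size,
        tb ((P.orb t).sc.getD (c - 1) 0) v < (P.orb t).size ∧
        (c : ZMod p) • P.vecOf p e t v = P.vecOf p e t (tb ((P.orb t).sc.getD (c - 1) 0) v)) ∧
      (P.orb t).cand.length = (candList p L.length).length) ∧
      ∀ q ∈ (candList p L.length).zip (P.orb t).cand, ∀ v < (P.orb t).size,
        tb q.2 v = compOf (P.orb t) q.1 v := fun t => by
    cases t <;> [exact hX; exact hY]
  have hinv : ρ a * ρ a⁻¹ = 1 := by rw [← map_mul, mul_inv_cancel, map_one]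
  have hinv' : ρ a⁻¹ * ρ a = 1 := by rw [← map_mul, inv_mul_cancel, map_one]
  have hstep : ∀ s < P.rels.length, ∃ w ∈ P.cands, ∀ t : Bool,
      ∃ gm wm : Matrix (Fin e) (Fin e) (ZMod p), ρ a * gm = wm * ρ a ∧ ∀ v < (P.orb t).size,
        (tb (sel t (P.srcCh.getD s (0, 0))) v < (P.orb t).size ∧
          gm *ᵥ P.vecOf p e t v = P.vecOf p e t (tb (sel t (P.srcCh.getD s (0, 0))) v)) ∧
        (tb (sel t w) v < (P.orb t).size ∧ wm *ᵥ P.vecOf p e t v = P.vecOf p e t (tb (sel t w) v)) := by
    intro s hs
    rw [hrl, ← hord] at hs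
    set g := P.order[s] with hg
    obtain ⟨hgL, hgne⟩ := hord2 g (List.getElem_mem hs)
    have hgd : L.getD g 0 = L[g] := List.getD_eq_getElem _ _ hgL
    obtain ⟨c, l, hl, heq⟩ := hnorm a L[g] (List.getElem_mem hgL)
    have hc : c ≠ 0 := by
      rintro rfl
      rw [zero_smul] at heq
      apply hgne
      rw [hgd]
      calc L[g] = ρ a⁻¹ * (ρ a * L[g] * ρ a⁻¹) * ρ a := by
            rw [← mul_assoc, ← mul_assoc, hinv', one_mul, mul_assoc, hinv', mul_one]
        _ = 0 := by rw [heq, mul_zero, zero_mul]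
    have hcv : 1 ≤ c.val ∧ c.val < 1 + (p - 1) := by
      have h1 : c.val ≠ 0 := fun h => hc ((ZMod.val_eq_zero c).1 h)
      have h2 := ZMod.val_lt c
      omega
    have hmem : (c.val, l) ∈ candList p L.length :=
      List.mem_flatMap.2 ⟨_, List.mem_range'_1.2 hcv, List.mem_map.2 ⟨l, hl ▸ mem_allBools l, rfl⟩⟩
    obtain ⟨i, hi, hil⟩ := List.getElem_of_mem hmem
    have hix : i < P.ox.cand.length := by have := (horb false).1.2; simp only [orb] at this; omega
    have hiy : i < P.oy.cand.length := by have := (horb true).1.2; simp only [orb] at this; omega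
    refine ⟨(P.ox.cand[i], P.oy.cand[i]), ?_, fun t => ?_⟩
    · have hlt : i < P.cands.length := by simp [cands]; omega
      have h := List.getElem_mem hlt
      simp only [cands, List.getElem_zip] at h
      exact h
    · obtain ⟨⟨⟨⟨⟨-, htl⟩, htr⟩, hsc⟩, hcl⟩, hcand⟩ := horb t
      refine ⟨L.getD g 0, c • ((L.zip l).map fun t => if t.2 then t.1 else 1).prod, ?_, fun v hv => ⟨?_, ?_⟩⟩
      · rw [hgd, ← heq, mul_assoc, hinv', mul_one]
      · have hsrc : sel t (P.srcCh.getD s (0, 0)) = (P.orb t).tr.getD g 0 := by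
          rw [srcCh, List.getD_eq_getElem _ _ (by simpa using hs), List.getElem_map]
          cases t <;> rfl
        rw [hsrc]
        exact htr g hgL v hv
      · have hti : i < (P.orb t).cand.length := by omega
        have hsel : sel t (P.ox.cand[i], P.oy.cand[i]) = (P.orb t).cand[i] := by cases t <;> rfl
        have hzip : ((c.val, l), (P.orb t).cand[i]) ∈ (candList p L.length).zip (P.orb t).cand := by
          have hlt : i < ((candList p L.length).zip (P.orb t).cand).length := by simp; omega
          have h := List.getElem_mem hlt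
          simp only [List.getElem_zip, hil] at h
          exact h
        rw [hsel, hcand _ hzip v hv]
        obtain ⟨w1, w2⟩ := P.mulVec_word L _ l htl htr v hv
        obtain ⟨c1, c2⟩ := hsc c.val hcv _ w1
        refine ⟨c1, ?_⟩
        rw [smul_mulVec, w2]
        exact ((congrArg (· • _) (ZMod.natCast_zmod_val c)).symm).trans c2
  obtain ⟨ch, hlen, hv, hleaf⟩ := P.search_sound h0 hfix hstep hrels P.rels [] rfl (Nat.zero_le _)
    (fun s hs => absurd hs (Nat.not_lt_zero s)) hsearch
  simp only [leafOK, List.any_eq_true, List.all_eq_true, List.mem_range, beq_iff_eq] at hleaf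
  obtain ⟨S, hS, hval⟩ := hleaf
  refine ⟨S, hS, ?_⟩
  ext j i
  obtain ⟨hsteps, hunit⟩ := hunits i i.2
  have hsum : ((P.units.getD i []).map fun q =>
      (q.2.2 : ZMod p) • P.vecOf p e q.2.1 (run P.srcCh q.2.1 q.1)).sum = Pi.single i 1 := by
    funext k
    rw [← combine, ← ZMod.natCast_mod, hunit k k.2]
    by_cases h : i = k
    · subst h; simp
    · rw [if_neg (fun hh => h (Fin.ext hh)), Pi.single_eq_of_ne (Ne.symm h), Nat.cast_zero]
  have h := congrFun (P.map_sum h0 hfix hv (P.units.getD i [])
    (fun q hq s hs => by rw [hlen, hrl]; exact hsteps q hq s hs)) j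
  rw [hsum, mulVec_single_one, ← combine, ← ZMod.natCast_mod, hval i i.2 j j.2, ZMod.natCast_mod] at h
  exact h

end PairCert

/-- An element of a group of order prime to `p` has no matrix of order divisible by `p`. -/
theorem false_of_pow {p e : ℕ} (hp : p.Prime) {A : Type*} [Group A] [Finite A] (hA : ¬ p ∣ Nat.card A)
    (ρ : A →* Matrix (Fin e) (Fin e) (ZMod p)) (hρ : Function.Injective ρ) (c : A) (m : ℕ)
    (h1 : ρ c ^ (p * m) = 1) (h2 : ρ c ^ m ≠ 1) : False := by
  have hd : orderOf c ∣ p * m := orderOf_dvd_of_pow_eq_one (hρ (by rw [map_pow, h1, map_one]))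
  have hco : Nat.Coprime (orderOf c) p :=
    ((hp.coprime_iff_not_dvd).2 fun h => hA (h.trans (orderOf_dvd_natCard c))).symm
  refine h2 ?_
  rw [← map_pow, orderOf_dvd_iff_pow_eq_one.1 (hco.dvd_of_dvd_mul_left hd), map_one]

end Cfsg.Agent.TwoVecEngine82
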