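import Cfsg.Agent.Lib.TwoVecCheck82

/-!
# The coprime base-two models on eight points
-/

set_option autoImplicit false
set_option maxRecDepth 100000

namespace Cfsg.Agent.TwoVecModel82

open Matrix Cfsg.Agent.ThreeVec75 Cfsg.Agent.TwoVecEngine82 Cfsg.Agent.TwoVecData82 Cfsg.Agent.TwoVecCheck82

universe u

variable {A : Type u} [Group A] [Finite A]

theorem false_of_three (hA : ¬ 3 ∣ Nat.card A) (ρ : A →* Matrix (Fin 8) (Fin 8) (ZMod 3))
    (hρ : Function.Injective ρ) {a b : A} (h : three (ρ a * ρ b) = true) : False := by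
  rw [three, List.any_eq_true] at h
  obtain ⟨m, -, hm⟩ := h
  simp only [Bool.and_eq_true, decide_eq_true_eq] at hm
  exact false_of_pow Nat.prime_three hA ρ hρ (a * b) m (by rw [map_mul]; exact hm.1)
    (by rw [map_mul]; exact hm.2)

/-- Either the pair works or some element acts as a nontrivial listed matrix. -/
theorem pair_or {p : ℕ} [NeZero p] (P : PairCert) (L : List (Matrix (Fin 8) (Fin 8) (ZMod p)))
    (ok : P.dataOK p 8 L = true ∧ P.search p 8 P.rels [] = true) (hne : P.vecOf p 8 false 0 ≠ 0)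
    (h1 : solMat P p 0 = 1) (ρ : A →* Matrix (Fin 8) (Fin 8) (ZMod p)) (hρ : Function.Injective ρ)
    (hnorm : ∀ a : A, ∀ g ∈ L, ∃ (c : ZMod p) (l : List Bool), l.length = L.length ∧
      ρ a * g * ρ a⁻¹ = c • ((L.zip l).map fun t => if t.2 then t.1 else 1).prod) :
    (∃ x y : Fin 8 → ZMod p, x ≠ 0 ∧
        ∀ a : A, (ρ a).mulVec x = x → (ρ a).mulVec y = y → a = 1) ∨
      ∃ a : A, ∃ i, 0 < i ∧ i < P.sols.length ∧ ρ a = solMat P p i := by
  by_cases h : ∀ a : A, (ρ a).mulVec (P.vecOf p 8 false 0) = P.vecOf p 8 false 0 →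
      (ρ a).mulVec (P.vecOf p 8 true 0) = P.vecOf p 8 true 0 → a = 1
  · exact Or.inl ⟨_, _, hne, h⟩
  right
  push Not at h
  obtain ⟨a, hx, hy, ha⟩ := h
  obtain ⟨S, hS, he⟩ := P.mem_sols L ok.1 ok.2 ρ hnorm a (fun t => by cases t <;> assumption)
  obtain ⟨i, hi, rfl⟩ := List.getElem_of_mem hS
  refine ⟨a, i, Nat.pos_of_ne_zero ?_, hi, by rw [he, solMat, List.getD_eq_getElem _ _ hi]⟩
  rintro rfl
  apply ha
  apply hρ
  rw [he, map_one, ← h1, solMat, List.getD_eq_getElem _ _ hi]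

/-- The model of `2^{1+6}` of plus type in characteristic five. -/
theorem model_5_3 : ModelTwo.{u} 5 8 (plusGens 5 3) := by
  intro A _ _ _ ρ hρ hnorm
  rcases pair_or cert53_0 _ ok53 first_ne.1 sols53.2 ρ hρ hnorm with h | ⟨a, i, h0, hi, -⟩
  · exact h
  · rw [sols53.1] at hi; omega

/-- The model with a quaternion residue in characteristic three. -/
theorem model_3_3m : ModelTwo.{u} 3 8 minusGens := by
  intro A _ _ hA ρ hρ hnorm
  obtain ⟨l0, e0, l1, e1, h3⟩ := sols33m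
  rcases pair_or cert33m_0 _ ok33m_0 first_ne.2.1 e0 ρ hρ hnorm with h | ⟨a, i, hi0, hi, ha⟩
  · exact h
  rcases pair_or cert33m_1 _ ok33m_1 first_ne.2.2.1 e1 ρ hρ hnorm with h | ⟨b, j, hj0, hj, hb⟩
  · exact h
  obtain rfl : i = 1 := by omega
  obtain rfl : j = 1 := by omega
  exact (false_of_three hA ρ hρ (a := a) (b := b) (by rw [ha, hb]; exact h3)).elim

/-- The model of `2^{1+6}` of plus type in characteristic three. -/
theorem model_3_3 : ModelTwo.{u} 3 8 (plusGens 3 3) := by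
  intro A _ _ hA ρ hρ hnorm
  obtain ⟨l0, e0, l1, e1, l2, e2, h3⟩ := sols33
  rcases pair_or cert33_0 _ ok33_0 first_ne.2.2.2.1 e0 ρ hρ hnorm with h | ⟨a, i, hi0, hi, ha⟩
  · exact h
  rcases pair_or cert33_1 _ ok33_1 first_ne.2.2.2.2.1 e1 ρ hρ hnorm with h | ⟨b, j, hj0, hj, hb⟩
  · exact h
  rcases pair_or cert33_2 _ ok33_2 first_ne.2.2.2.2.2 e2 ρ hρ hnorm with h | ⟨c, k, hk0, hk, hc⟩
  · exact h
  obtain ⟨i', rfl⟩ : ∃ i' : Fin 3, i = i' + 1 := ⟨⟨i - 1, by omega⟩, by simp; omega⟩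
  obtain ⟨j', rfl⟩ : ∃ j' : Fin 3, j = j' + 1 := ⟨⟨j - 1, by omega⟩, by simp; omega⟩
  obtain ⟨k', rfl⟩ : ∃ k' : Fin 3, k = k' + 1 := ⟨⟨k - 1, by omega⟩, by simp; omega⟩
  rcases h3 i' j' k' with h | h | h
  · exact (false_of_three hA ρ hρ (a := a) (b := b) (by rw [ha, hb]; exact h)).elim
  · exact (false_of_three hA ρ hρ (a := a) (b := c) (by rw [ha, hc]; exact h)).elim
  · exact (false_of_three hA ρ hρ (a := b) (b := c) (by rw [hb, hc]; exact h)).elim

end Cfsg.Agent.TwoVecModel82
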