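import Cfsg.Agent.Lib.TwoVecData82Small

/-!
# The coprime base-two models on four points
-/

set_option autoImplicit false
set_option maxRecDepth 100000

namespace Cfsg.Agent.TwoVecModel82Small

open Matrix Cfsg.Agent.ThreeVec75 Cfsg.Agent.TwoVecEngine82 Cfsg.Agent.TwoVecData82Small

universe u

theorem ok52 : cert52_0.dataOK 5 4 (plusGens 5 2) = true ∧ cert52_0.search 5 4 cert52_0.rels [] = true := by
  decide +kernel

theorem ok32_0 : cert32_0.dataOK 3 4 (plusGens 3 2) = true ∧ cert32_0.search 3 4 cert32_0.rels [] = true := by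
  decide +kernel

theorem ok32_1 : cert32_1.dataOK 3 4 (plusGens 3 2) = true ∧ cert32_1.search 3 4 cert32_1.rels [] = true := by
  decide +kernel

theorem ok32_2 : cert32_2.dataOK 3 4 (plusGens 3 2) = true ∧ cert32_2.search 3 4 cert32_2.rels [] = true := by
  decide +kernel

theorem ok32_3 : cert32_3.dataOK 3 4 (plusGens 3 2) = true ∧ cert32_3.search 3 4 cert32_3.rels [] = true := by
  decide +kernel

/-- The listed solution matrix with a number. -/
def solMat (P : PairCert) (p i : ℕ) : Matrix (Fin 4) (Fin 4) (ZMod p) :=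
  PairCert.matOf p 4 (P.sols.getD i [])

/-- A matrix with order divisible by three, witnessed by exponents. -/
def three (M : Matrix (Fin 4) (Fin 4) (ZMod 3)) : Bool :=
  [1, 2, 4].any fun m => decide (M ^ (3 * m) = 1) && decide (M ^ m ≠ 1)

theorem first_ne : cert52_0.vecOf 5 4 false 0 ≠ 0 ∧ cert32_0.vecOf 3 4 false 0 ≠ 0 ∧
    cert32_1.vecOf 3 4 false 0 ≠ 0 ∧ cert32_2.vecOf 3 4 false 0 ≠ 0 ∧ cert32_3.vecOf 3 4 false 0 ≠ 0 := by
  decide +kernel

theorem sols52 : cert52_0.sols.length = 1 ∧ solMat cert52_0 5 0 = 1 := by decide +kernel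

theorem sols32 : (cert32_0.sols.length = 4 ∧ solMat cert32_0 3 0 = 1) ∧
    (cert32_1.sols.length = 4 ∧ solMat cert32_1 3 0 = 1) ∧
    (cert32_2.sols.length = 4 ∧ solMat cert32_2 3 0 = 1) ∧
    (cert32_3.sols.length = 4 ∧ solMat cert32_3 3 0 = 1) := by decide +kernel

theorem bad32 : ∀ i j k l : Fin 3,
    three (solMat cert32_0 3 (i + 1) * solMat cert32_1 3 (j + 1)) = true ∨
    three (solMat cert32_0 3 (i + 1) * solMat cert32_2 3 (k + 1)) = true ∨
    three (solMat cert32_0 3 (i + 1) * solMat cert32_3 3 (l + 1)) = true ∨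
    three (solMat cert32_1 3 (j + 1) * solMat cert32_2 3 (k + 1)) = true ∨
    three (solMat cert32_1 3 (j + 1) * solMat cert32_3 3 (l + 1)) = true ∨
    three (solMat cert32_2 3 (k + 1) * solMat cert32_3 3 (l + 1)) = true := by
  decide +kernel

variable {A : Type u} [Group A]

theorem false_of_three [Finite A] (hA : ¬ 3 ∣ Nat.card A) (ρ : A →* Matrix (Fin 4) (Fin 4) (ZMod 3))
    (hρ : Function.Injective ρ) {a b : A} {M N : Matrix (Fin 4) (Fin 4) (ZMod 3)}
    (ha : ρ a = M) (hb : ρ b = N) (h : three (M * N) = true) : False := by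
  rw [three, List.any_eq_true] at h
  obtain ⟨m, -, hm⟩ := h
  simp only [Bool.and_eq_true, decide_eq_true_eq] at hm
  exact false_of_pow Nat.prime_three hA ρ hρ (a * b) m (by rw [map_mul, ha, hb]; exact hm.1)
    (by rw [map_mul, ha, hb]; exact hm.2)

/-- Either the pair works or some element acts as a nontrivial listed matrix. -/
theorem pair_or {p : ℕ} [NeZero p] (P : PairCert) (L : List (Matrix (Fin 4) (Fin 4) (ZMod p)))
    (ok : P.dataOK p 4 L = true ∧ P.search p 4 P.rels [] = true) (hne : P.vecOf p 4 false 0 ≠ 0)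
    (h1 : solMat P p 0 = 1) (ρ : A →* Matrix (Fin 4) (Fin 4) (ZMod p)) (hρ : Function.Injective ρ)
    (hnorm : ∀ a : A, ∀ g ∈ L, ∃ (c : ZMod p) (l : List Bool), l.length = L.length ∧
      ρ a * g * ρ a⁻¹ = c • ((L.zip l).map fun t => if t.2 then t.1 else 1).prod) :
    (∃ x y : Fin 4 → ZMod p, x ≠ 0 ∧
        ∀ a : A, (ρ a).mulVec x = x → (ρ a).mulVec y = y → a = 1) ∨
      ∃ a : A, ∃ i, 0 < i ∧ i < P.sols.length ∧ ρ a = solMat P p i := by
  by_cases h : ∀ a : A, (ρ a).mulVec (P.vecOf p 4 false 0) = P.vecOf p 4 false 0 →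
      (ρ a).mulVec (P.vecOf p 4 true 0) = P.vecOf p 4 true 0 → a = 1
  · exact Or.inl ⟨_, _, hne, h⟩
  right
  push Not at h
  obtain ⟨a, hx, hy, ha⟩ := h
  obtain ⟨S, hS, he⟩ := P.mem_sols L ok.1 ok.2 ρ hnorm a (fun t => by cases t <;> assumption)
  obtain ⟨i, hi, rfl⟩ := List.getElem_of_mem hS
  refine ⟨a, i, Nat.pos_of_ne_zero ?_, hi, by rw [he, solMat, List.getD_eq_getElem _ _ hi]⟩
  rintro rfl
  apply ha
  apply hρ
  rw [he, map_one, ← h1, solMat, List.getD_eq_getElem _ _ hi]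

/-- The model of `2^{1+4}` of plus type in characteristic five. -/
theorem model_5_2 : ModelTwo.{u} 5 (2 ^ 2) (plusGens 5 2) := by
  intro A _ _ _ ρ hρ hnorm
  rcases pair_or cert52_0 _ ok52 first_ne.1 sols52.2 ρ hρ hnorm with h | ⟨a, i, h0, hi, -⟩
  · exact h
  · rw [sols52.1] at hi; omega

/-- The model of `2^{1+4}` of plus type in characteristic three. -/
theorem model_3_2 : ModelTwo.{u} 3 (2 ^ 2) (plusGens 3 2) := by
  intro A _ _ hA ρ hρ hnorm
  obtain ⟨⟨l0, e0⟩, ⟨l1, e1⟩, ⟨l2, e2⟩, ⟨l3, e3⟩⟩ := sols32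
  rcases pair_or cert32_0 _ ok32_0 first_ne.2.1 e0 ρ hρ hnorm with h | ⟨a, i, hi0, hi, ha⟩
  · exact h
  rcases pair_or cert32_1 _ ok32_1 first_ne.2.2.1 e1 ρ hρ hnorm with h | ⟨b, j, hj0, hj, hb⟩
  · exact h
  rcases pair_or cert32_2 _ ok32_2 first_ne.2.2.2.1 e2 ρ hρ hnorm with h | ⟨c, k, hk0, hk, hc⟩
  · exact h
  rcases pair_or cert32_3 _ ok32_3 first_ne.2.2.2.2 e3 ρ hρ hnorm with h | ⟨d, l, hl0, hl, hd⟩
  · exact h
  obtain ⟨i', rfl⟩ : ∃ i' : Fin 3, i = i' + 1 := ⟨⟨i - 1, by omega⟩, by simp; omega⟩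
  obtain ⟨j', rfl⟩ : ∃ j' : Fin 3, j = j' + 1 := ⟨⟨j - 1, by omega⟩, by simp; omega⟩
  obtain ⟨k', rfl⟩ : ∃ k' : Fin 3, k = k' + 1 := ⟨⟨k - 1, by omega⟩, by simp; omega⟩
  obtain ⟨l', rfl⟩ : ∃ l' : Fin 3, l = l' + 1 := ⟨⟨l - 1, by omega⟩, by simp; omega⟩
  exfalso
  rcases bad32 i' j' k' l' with h | h | h | h | h | h
  · exact false_of_three hA ρ hρ ha hb h
  · exact false_of_three hA ρ hρ ha hc h
  · exact false_of_three hA ρ hρ ha hd h
  · exact false_of_three hA ρ hρ hb hc h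
  · exact false_of_three hA ρ hρ hb hd h
  · exact false_of_three hA ρ hρ hc hd h

end Cfsg.Agent.TwoVecModel82Small
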