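import Mathlib

/-!
A rigid quaternion colouring of the space of rank three over two elements.
-/

set_option autoImplicit false

namespace Cfsg.Agent.TwoVecQuat56

open QuaternionGroup

abbrev T := ZMod 2 × ZMod 2 × ZMod 2

/-- The central sign. -/
def zs (b : ZMod 2) : QuaternionGroup 2 := if b = 0 then 1 else a 2

/-- The colouring on triples. -/
def Ct : T → Option (QuaternionGroup 2)
  | (x, y, z) =>
    if x = 0 then
      (if y = 0 then (if z = 0 then some 1 else some (a 1))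
        else (if z = 0 then some (a 2) else none))
    else
      (if y = 0 then some 1 else (if z = 0 then some (xa 3) else some 1))

/-- The compatibility conditions at the seven nonzero points. -/
abbrev Goal (s0 s1 s2 : T) (b01 b02 b12 : ZMod 2) (p0 p1 p2 : QuaternionGroup 2) : Prop :=
    Ct s0 = (Ct (1, 0, 0)).map (p0 * ·) → Ct s1 = (Ct (0, 1, 0)).map (p1 * ·) →
    Ct s2 = (Ct (0, 0, 1)).map (p2 * ·) →
    Ct (s0 + s1) = (Ct (1, 1, 0)).map (p0 * p1 * zs b01 * ·) →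
    Ct (s0 + s2) = (Ct (1, 0, 1)).map (p0 * p2 * zs b02 * ·) →
    Ct (s1 + s2) = (Ct (0, 1, 1)).map (p1 * p2 * zs b12 * ·) →
    Ct (s0 + s1 + s2) = (Ct (1, 1, 1)).map (p0 * p1 * zs b01 * p2 * zs (b02 + b12) * ·) →
    s0 = (1, 0, 0) ∧ s1 = (0, 1, 0) ∧ s2 = (0, 0, 1) ∧ p0 = 1 ∧ p1 = 1 ∧ p2 = 1 ∧
      b01 = 0 ∧ b02 = 0 ∧ b12 = 0

set_option synthInstance.maxSize 20000 in
set_option synthInstance.maxHeartbeats 400000 in
theorem key : ∀ s0 s1 s2 : T, ∀ b01 b02 b12 : ZMod 2,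
    Goal s0 s1 s2 b01 b02 b12 ((Ct s0).getD 1) ((Ct s1).getD 1 * (a 2)⁻¹)
      ((Ct s2).getD 1 * (a 1)⁻¹) := by
  decide +kernel

theorem ct_units : Ct (1, 0, 0) = some 1 ∧ Ct (0, 1, 0) = some (a 2) ∧ Ct (0, 0, 1) = some (a 1) :=
  ⟨rfl, rfl, rfl⟩

attribute [local irreducible] Ct

/-- The coordinates. -/
def tr (x : Fin 3 → ZMod 2) : T := (x 0, x 1, x 2)

/-- A colouring by quaternions fixed only by the trivial twisted linear map. -/
theorem quat_three : ∃ C : (Fin 3 → ZMod 2) → Option (QuaternionGroup 2),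
    ∀ σ : (Fin 3 → ZMod 2) →+ (Fin 3 → ZMod 2), Function.Injective σ →
    ∀ (φ : (Fin 3 → ZMod 2) → QuaternionGroup 2) (β : (Fin 3 → ZMod 2) → (Fin 3 → ZMod 2) → ZMod 2),
      (∀ a b c, β (a + b) c = β a c + β b c) → (∀ a b c, β a (b + c) = β a b + β a c) → φ 0 = 1 →
      (∀ a b, φ (a + b) = φ a * φ b * (if β a b = 0 then 1 else QuaternionGroup.a 2)) →
      (∀ x, C (σ x) = (C x).map (φ x * ·)) → ∀ x, σ x = x ∧ φ x = 1 := by
  refine ⟨fun x => Ct (tr x), fun σ _ φ β hl _ h0 hφ hC => ?_⟩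
  have hφ' : ∀ a b, φ (a + b) = φ a * φ b * zs (β a b) := hφ
  set e0 : Fin 3 → ZMod 2 := ![1, 0, 0] with he0
  set e1 : Fin 3 → ZMod 2 := ![0, 1, 0] with he1
  set e2 : Fin 3 → ZMod 2 := ![0, 0, 1] with he2
  have htr : ∀ a b, tr (a + b) = tr a + tr b := fun a b => rfl
  have t0 : tr e0 = (1, 0, 0) := by decide
  have t1 : tr e1 = (0, 1, 0) := by decide
  have t2 : tr e2 = (0, 0, 1) := by decide
  have h : ∀ x, Ct (tr (σ x)) = (Ct (tr x)).map (φ x * ·) := hC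
  have c0 : Ct (tr (σ e0)) = some (φ e0) := by rw [h e0, t0, ct_units.1, Option.map_some, mul_one]
  have c1 : Ct (tr (σ e1)) = some (φ e1 * a 2) := by rw [h e1, t1, ct_units.2.1, Option.map_some]
  have c2 : Ct (tr (σ e2)) = some (φ e2 * a 1) := by rw [h e2, t2, ct_units.2.2, Option.map_some]
  have q0 : (Ct (tr (σ e0))).getD 1 = φ e0 := by rw [c0]; rfl
  have q1 : (Ct (tr (σ e1))).getD 1 * (a 2)⁻¹ = φ e1 := by
    rw [c1]; exact mul_inv_cancel_right _ _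
  have q2 : (Ct (tr (σ e2))).getD 1 * (a 1)⁻¹ = φ e2 := by
    rw [c2]; exact mul_inv_cancel_right _ _
  have f3 : φ (e0 + e1) = φ e0 * φ e1 * zs (β e0 e1) := hφ' e0 e1
  have f5 : φ (e0 + e2) = φ e0 * φ e2 * zs (β e0 e2) := hφ' e0 e2
  have f6 : φ (e1 + e2) = φ e1 * φ e2 * zs (β e1 e2) := hφ' e1 e2
  have f7 : φ (e0 + e1 + e2) = φ e0 * φ e1 * zs (β e0 e1) * φ e2 * zs (β e0 e2 + β e1 e2) := by
    rw [hφ', f3, hl]
  have k := key (tr (σ e0)) (tr (σ e1)) (tr (σ e2)) (β e0 e1) (β e0 e2) (β e1 e2)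
  rw [q0, q1, q2] at k
  obtain ⟨s0, s1, s2, p0, p1, p2, b01, b02, b12⟩ := k
    (by rw [← t0]; exact h e0) (by rw [← t1]; exact h e1) (by rw [← t2]; exact h e2)
    (by rw [← htr, ← map_add, ← f3, show ((1 : ZMod 2), (1 : ZMod 2), (0 : ZMod 2)) = tr (e0 + e1) by decide]
        exact h _)
    (by rw [← htr, ← map_add, ← f5, show ((1 : ZMod 2), (0 : ZMod 2), (1 : ZMod 2)) = tr (e0 + e2) by decide]
        exact h _)
    (by rw [← htr, ← map_add, ← f6, show ((0 : ZMod 2), (1 : ZMod 2), (1 : ZMod 2)) = tr (e1 + e2) by decide]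
        exact h _)
    (by rw [← htr, ← htr, ← map_add, ← map_add, ← f7,
          show ((1 : ZMod 2), (1 : ZMod 2), (1 : ZMod 2)) = tr (e0 + e1 + e2) by decide]
        exact h _)
  have tinj : ∀ a b : Fin 3 → ZMod 2, tr a = tr b → a = b := fun a b hab => by
    simp only [tr, Prod.mk.injEq] at hab
    funext i
    fin_cases i
    exacts [hab.1, hab.2.1, hab.2.2]
  have g0 : σ e0 = e0 := tinj _ _ (s0.trans t0.symm)
  have g1 : σ e1 = e1 := tinj _ _ (s1.trans t1.symm)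
  have g2 : σ e2 = e2 := tinj _ _ (s2.trans t2.symm)
  rw [p0, p1, b01] at f3
  rw [p0, p2, b02] at f5
  rw [p1, p2, b12] at f6
  rw [p0, p1, p2, b01, b02, b12] at f7
  intro x
  obtain rfl | rfl | rfl | rfl | rfl | rfl | rfl | rfl : x = 0 ∨ x = e0 ∨ x = e1 ∨ x = e2 ∨
      x = e0 + e1 ∨ x = e0 + e2 ∨ x = e1 + e2 ∨ x = e0 + e1 + e2 := by
    have hall : ∀ y : T, y = (0, 0, 0) ∨ y = tr e0 ∨ y = tr e1 ∨ y = tr e2 ∨ y = tr (e0 + e1) ∨
        y = tr (e0 + e2) ∨ y = tr (e1 + e2) ∨ y = tr (e0 + e1 + e2) := by decide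
    have := hall (tr x)
    rw [show ((0 : ZMod 2), (0 : ZMod 2), (0 : ZMod 2)) = tr 0 from rfl] at this
    rcases this with e | e | e | e | e | e | e | e <;> simp [tinj _ _ e]
  exacts [⟨map_zero σ, h0⟩, ⟨g0, p0⟩, ⟨g1, p1⟩, ⟨g2, p2⟩,
    ⟨by rw [map_add, g0, g1], by rw [f3]; simp [zs]⟩, ⟨by rw [map_add, g0, g2], by rw [f5]; simp [zs]⟩,
    ⟨by rw [map_add, g1, g2], by rw [f6]; simp [zs]⟩,
    ⟨by rw [map_add, map_add, g0, g1, g2], by rw [f7]; simp [zs]⟩]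

end Cfsg.Agent.TwoVecQuat56
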