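import Cfsg.Agent.Lib.ThreeVec75Combo
import Cfsg.Agent.Lib.ThreeVec75TwoDefs
import Cfsg.Agent.Lib.TwoVecFrame75

/-!
From frames to the small matrix models of the coprime base-two theorem.
-/

set_option autoImplicit false
set_option linter.style.haveILetI false

namespace Cfsg.Agent.TwoVecModelGlue95

open Cfsg.Agent.ThreeVec75
open scoped commutatorElement

universe u v

/-- The bits of an index. -/
def bits (n : ℕ) (a : Fin (2 ^ n)) : Fin n → ZMod 2 := fun k => if (a : ℕ).testBit k then 1 else 0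

theorem bits_injective (n : ℕ) : Function.Injective (bits n) := by
  intro a b h
  apply Fin.ext
  apply Nat.eq_of_testBit_eq
  intro k
  by_cases hk : k < n
  · have hk' := congrFun h ⟨k, hk⟩
    simp only [bits] at hk'
    generalize (a : ℕ).testBit k = s at hk' ⊢
    generalize (b : ℕ).testBit k = t at hk' ⊢
    revert hk'
    cases s <;> cases t <;> decide
  · have hle : (2 : ℕ) ^ n ≤ 2 ^ k := Nat.pow_le_pow_right (by norm_num) (not_lt.1 hk)
    rw [Nat.testBit_lt_two_pow (a.2.trans_le hle), Nat.testBit_lt_two_pow (b.2.trans_le hle)]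

theorem bits_bijective (n : ℕ) : Function.Bijective (bits n) :=
  (Fintype.bijective_iff_injective_and_card _).2 ⟨bits_injective n, by simp [ZMod.card]⟩

theorem bits_xor (n : ℕ) (b : Fin (2 ^ n)) (i : Fin n) (h : (b : ℕ) ^^^ 2 ^ (i : ℕ) < 2 ^ n) :
    bits n ⟨(b : ℕ) ^^^ 2 ^ (i : ℕ), h⟩ = Pi.single i 1 + bits n b := by
  funext k
  simp only [bits, Pi.add_apply, Nat.testBit_xor, Nat.testBit_two_pow, Pi.single_apply]
  by_cases hik : k = i
  · subst hik
    cases (b : ℕ).testBit k <;> simp <;> decide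
  · have hne : ¬ ((i : ℕ) = (k : ℕ)) := fun e => hik (Fin.ext e.symm)
    simp [hik, hne]

section

variable {A : Type v} {V : Type u} [Group A] [AddCommGroup V] [DistribMulAction A V] [Finite A]
  [Finite V] [FaithfulSMul A V] {K : Core A V} (D : Bd K) (F : Frame K D.B) {p : ℕ} [Fact p.Prime]
  [Module (ZMod p) V]

theorem smul_zsmul (g : A) (c : ZMod p) (v : V) : g • c • v = c • g • v := by
  rw [← ZMod.natCast_zmod_val c, Nat.cast_smul_eq_nsmul, Nat.cast_smul_eq_nsmul]
  exact map_nsmul (DistribMulAction.toAddMonoidHom V g) _ _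

theorem coef_zero {c : ZMod p} {v : V} (h : c • v = 0) (hv : v ≠ 0) : c = 0 := by
  by_contra hc
  exact hv (by rw [← one_smul (ZMod p) v, ← inv_mul_cancel₀ hc, mul_smul, h, smul_zero])

theorem zsmul_mem (T : AddSubgroup V) (c : ZMod p) {v : V} (hv : v ∈ T) : c • v ∈ T := by
  rw [← ZMod.natCast_zmod_val c, Nat.cast_smul_eq_nsmul]
  exact nsmul_mem hv _

include D F in
/-- The elements of `U` act as scalars. -/
theorem scalar (hU : Nat.card K.U + 1 = p)
    (hnat : ∀ n : ℕ, ¬ p ∣ n → ∃ c ∈ K.U, ∀ v : V, n • v = c • v) :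
    ∀ z ∈ K.U, ∃ c : ZMod p, ∀ v : V, z • v = c • v := by
  classical
  have hn : ∀ c : {c : ZMod p // c ≠ 0}, ∃ z : K.U, ∀ v : V, (c : ZMod p) • v = (z : A) • v := by
    rintro ⟨c, hc⟩
    obtain ⟨z, hz, hzv⟩ := hnat c.val (fun hd => hc (by
      rw [← ZMod.natCast_zmod_val c, (ZMod.natCast_eq_zero_iff _ _).2 hd]))
    exact ⟨⟨z, hz⟩, fun v => by rw [← hzv v, ← Nat.cast_smul_eq_nsmul (ZMod p), ZMod.natCast_zmod_val]⟩
  choose f hf using hn
  have hinj : Function.Injective f := by
    intro c c' h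
    refine Subtype.ext (smul_left_injective (ZMod p) F.w_ne ?_)
    show (c : ZMod p) • F.w = (c' : ZMod p) • F.w
    rw [hf, hf, h]
  have hcard : Fintype.card {c : ZMod p // c ≠ 0} = Nat.card K.U := by
    rw [Fintype.card_subtype_compl, ZMod.card, Fintype.card_subtype_eq]
    omega
  intro z hz
  obtain ⟨c, hc⟩ := ((Nat.bijective_iff_injective_and_card f).2
    ⟨hinj, by rw [Nat.card_eq_fintype_card, hcard]⟩).2 ⟨z, hz⟩
  exact ⟨c, fun v => by rw [hf c v, hc]⟩

/-- A matrix describes an element on the listed vectors. -/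
def Rep {N : ℕ} (e : Fin N → V) (g : A) (M : Matrix (Fin N) (Fin N) (ZMod p)) : Prop :=
  ∀ a, g • e a = ∑ a', M a' a • e a'

theorem rep_one {N : ℕ} (e : Fin N → V) : Rep e (1 : A) (1 : Matrix (Fin N) (Fin N) (ZMod p)) :=
  fun a => by simp [Matrix.one_apply]

theorem rep_mul {N : ℕ} {e : Fin N → V} {g h : A} {M M' : Matrix (Fin N) (Fin N) (ZMod p)}
    (hg : Rep e g M) (hh : Rep e h M') : Rep e (g * h) (M * M') := fun a => by
  rw [mul_smul, hh a, Finset.smul_sum]
  simp only [smul_zsmul, hg _, Finset.smul_sum, smul_smul, Matrix.mul_apply, Finset.sum_smul]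
  rw [Finset.sum_comm]
  exact Finset.sum_congr rfl fun _ _ => Finset.sum_congr rfl fun _ _ => by rw [mul_comm]

theorem rep_scalar {N : ℕ} (e : Fin N → V) {z : A} {c : ZMod p} (h : ∀ v : V, z • v = c • v) :
    Rep e z (c • (1 : Matrix (Fin N) (Fin N) (ZMod p))) :=
  fun a => by simp [Matrix.one_apply, h]

theorem rep_list {N : ℕ} {e : Fin N → V} :
    ∀ L : List ((A × Matrix (Fin N) (Fin N) (ZMod p)) × Bool), (∀ t ∈ L, Rep e t.1.1 t.1.2) →
      Rep e (L.map fun t => if t.2 then t.1.1 else 1).prod (L.map fun t => if t.2 then t.1.2 else 1).prod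
  | [], _ => rep_one e
  | t :: L, h => by
    simp only [List.map_cons, List.prod_cons]
    refine rep_mul ?_ (rep_list L fun t' ht => h t' (List.mem_cons_of_mem _ ht))
    cases t.2
    · exact rep_one e
    · exact h t (List.mem_cons_self ..)

theorem rep_vec {N : ℕ} {e : Fin N → V} {g : A} {M : Matrix (Fin N) (Fin N) (ZMod p)} (h : Rep e g M)
    (c : Fin N → ZMod p) : g • ∑ a, c a • e a = ∑ a, (M.mulVec c) a • e a := by
  rw [Finset.smul_sum]
  simp only [smul_zsmul, h _, Finset.smul_sum, smul_smul, Matrix.mulVec, dotProduct, Finset.sum_smul]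
  rw [Finset.sum_comm]
  exact Finset.sum_congr rfl fun _ _ => Finset.sum_congr rfl fun _ _ => by rw [mul_comm]

include D F in
/-- The pair of vectors of a model gives one for the group. -/
theorem good2_of_model (hco : ¬ p ∣ Nat.card A) (hsc : ∀ z ∈ K.U, ∃ c : ZMod p, ∀ v : V, z • v = c • v)
    {N : ℕ} (e : Fin N → V) (hN : 0 < N)
    (hind : ∀ c : Fin N → ZMod p, ∑ a, c a • e a = 0 → c = 0)
    (Lp : List (A × Matrix (Fin N) (Fin N) (ZMod p))) (hmem : ∀ t ∈ Lp, t.1 ∈ D.B)
    (hrep : ∀ t ∈ Lp, Rep e t.1 t.2)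
    (hdec : ∀ b ∈ D.B, ∃ z ∈ K.U, ∃ l : List Bool, l.length = Lp.length ∧
      b = z * ((Lp.zip l).map fun t => if t.2 then t.1.1 else 1).prod)
    (hgen : ∀ a, ∃ b ∈ D.B, e a = b • F.w)
    (hirr : ∀ T : AddSubgroup V, (∀ b ∈ D.B, ∀ v ∈ T, b • v ∈ T) →
      ∀ c : Fin N → ZMod p, c ≠ 0 → ∑ a, c a • e a ∈ T → F.w ∈ T)
    (h : ModelTwo.{v} p N (Lp.map Prod.snd)) : Good2 A V := by
  classical
  have hBrep : ∀ b ∈ D.B, ∃ (c : ZMod p) (l : List Bool), l.length = (Lp.map Prod.snd).length ∧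
      Rep e b (c • (((Lp.map Prod.snd).zip l).map fun t => if t.2 then t.1 else 1).prod) := by
    intro b hb
    obtain ⟨z, hz, l, hl, rfl⟩ := hdec b hb
    obtain ⟨c, hc⟩ := hsc z hz
    refine ⟨c, l, by rw [List.length_map]; exact hl, ?_⟩
    have h1 := rep_mul (rep_scalar e hc) (rep_list (e := e) (Lp.zip l) fun t ht =>
      hrep t.1 (List.of_mem_zip ht).1)
    rw [smul_mul_assoc, one_mul] at h1
    have e2 : ((Lp.map Prod.snd).zip l).map (fun t => if t.2 then t.1 else 1) =
        (Lp.zip l).map (fun t => if t.2 then t.1.2 else 1) := by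
      rw [List.zip_map_left, List.map_map]
      rfl
    rw [e2]
    exact h1
  let S : AddSubgroup V :=
    { carrier := {v | ∃ c : Fin N → ZMod p, ∑ a, c a • e a = v}
      zero_mem' := ⟨0, by simp⟩
      add_mem' := by
        rintro _ _ ⟨c, rfl⟩ ⟨c', rfl⟩
        exact ⟨c + c', by simp [add_smul, Finset.sum_add_distrib]⟩
      neg_mem' := by
        rintro _ ⟨c, rfl⟩
        exact ⟨-c, by simp [neg_smul, Finset.sum_neg_distrib]⟩ }
  have hSB : ∀ b ∈ D.B, ∀ v ∈ S, b • v ∈ S := by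
    rintro b hb _ ⟨c, rfl⟩
    obtain ⟨k, l, -, hr⟩ := hBrep b hb
    exact ⟨_, (rep_vec hr c).symm⟩
  have heS : ∀ a, e a ∈ S := fun a => ⟨Pi.single a 1, by simp [Pi.single_apply]⟩
  have hall : ∀ T : AddSubgroup V, (∀ b ∈ D.B, ∀ v ∈ T, b • v ∈ T) → ∀ c : Fin N → ZMod p, c ≠ 0 →
      ∑ a, c a • e a ∈ T → S ≤ T := by
    intro T hT c hc hcT
    rintro _ ⟨c', rfl⟩
    refine sum_mem fun a _ => zsmul_mem T _ ?_
    obtain ⟨b, hb, hba⟩ := hgen a
    exact hba ▸ hT b hb _ (hirr T hT c hc hcT)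
  have hwS : F.w ∈ S := hirr S hSB (Pi.single ⟨0, hN⟩ 1)
    (Pi.single_ne_zero_iff.2 one_ne_zero) ⟨_, rfl⟩
  -- `B` is faithful on the subspace
  have hBfree : ∀ b ∈ D.B, (∀ v ∈ S, b • v = v) → b = 1 := by
    intro b hb hv
    have hbM : b ∈ F.M := F.line_stab D b hb ⟨1, one_mem _, by rw [one_smul, hv _ hwS]⟩
    have hbU : b ∈ K.U := F.hMX b hbM fun x hx => by
      have hxB : x ∈ D.B := F.X_le hx
      refine commutatorElement_eq_one_iff_commute.1
        (K.fix_eq_one (D.comm b hb x hxB) (x := x • F.w) (by simpa [smul_eq_zero_iff_eq] using F.w_ne) ?_)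
      calc ⁅b, x⁆ • x • F.w = ⁅b, x⁆ • x • b • F.w := by rw [hv _ hwS]
        _ = (⁅b, x⁆ * x * b) • F.w := by rw [mul_smul, mul_smul]
        _ = (b * x) • F.w := by congr 1; rw [commutatorElement_def]; group
        _ = x • F.w := by rw [mul_smul, hv _ (hSB x hxB _ hwS)]
    exact K.fix_eq_one hbU F.w_ne (hv _ hwS)
  let G : Subgroup A :=
    { carrier := {g | (∀ v ∈ S, g • v ∈ S) ∧ ∀ v ∈ S, g⁻¹ • v ∈ S}
      one_mem' := ⟨fun v hv => by rwa [one_smul], fun v hv => by rwa [inv_one, one_smul]⟩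
      mul_mem' := fun {g g'} hg hg' => ⟨fun v hv => by rw [mul_smul]; exact hg.1 _ (hg'.1 v hv),
        fun v hv => by rw [mul_inv_rev, mul_smul]; exact hg'.2 _ (hg.2 v hv)⟩
      inv_mem' := fun {g} hg => ⟨hg.2, by rw [inv_inv]; exact hg.1⟩ }
  have huniq : ∀ (g : A) (M M' : Matrix (Fin N) (Fin N) (ZMod p)), Rep e g M → Rep e g M' → M = M' := by
    intro g M M' hM hM'
    ext a' a
    have h1 := hind (fun i => M i a - M' i a) (by
      simp only [sub_smul, Finset.sum_sub_distrib, ← hM a, ← hM' a, sub_self])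
    exact sub_eq_zero.1 (congrFun h1 a')
  have hex : ∀ g : G, ∃ M : Matrix (Fin N) (Fin N) (ZMod p), Rep e (g : A) M := fun g => by
    choose c hc using fun a => g.2.1 (e a) (heS a)
    exact ⟨fun a' a => c a a', fun a => (hc a).symm⟩
  choose R hR using hex
  let ρ : G →* Matrix (Fin N) (Fin N) (ZMod p) :=
    { toFun := R
      map_one' := huniq 1 _ _ (hR 1) (rep_one e)
      map_mul' := fun g g' => huniq _ _ _ (hR (g * g')) (rep_mul (hR g) (hR g')) }
  have hρinj : Function.Injective ρ := by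
    refine (injective_iff_map_eq_one ρ).2 fun g hg => Subtype.ext ?_
    have hfix : ∀ v ∈ S, (g : A) • v = v := by
      rintro _ ⟨c, rfl⟩
      rw [rep_vec (hR g) c, show R g = 1 from hg, Matrix.one_mulVec]
    have hcB : ∀ b ∈ D.B, Commute (g : A) b := by
      intro b hb
      refine commutatorElement_eq_one_iff_commute.1 (hBfree _ ?_ ?_)
      · rw [commutatorElement_def]
        exact mul_mem (D.normal.conj_mem b hb g) (inv_mem hb)
      · intro v hv
        rw [commutatorElement_def, mul_smul, mul_smul, mul_smul,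
          inv_smul_eq_iff.2 (hfix _ (hSB _ (inv_mem hb) v hv)).symm,
          smul_inv_smul, hfix v hv]
    have hgU : (g : A) ∈ K.U := D.self _ (fun z hz => hcB z (D.le hz)) hcB
    exact K.fix_eq_one hgU F.w_ne (hfix _ hwS)
  have hcoG : ¬ p ∣ Nat.card G := fun hd => hco (hd.trans (Subgroup.card_subgroup_dvd_card G))
  obtain ⟨x, y, hx0, hxy⟩ := h G hcoG ρ hρinj fun g M hM => by
    obtain ⟨t, ht, rfl⟩ := List.mem_map.1 hM
    obtain ⟨c, l, hl, hr⟩ := hBrep _ (D.normal.conj_mem t.1 (hmem t ht) (g : A))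
    refine ⟨c, l, hl, huniq _ _ _ ?_ hr⟩
    exact rep_mul (rep_mul (hR g) (hrep t ht)) (hR g⁻¹)
  refine ⟨∑ a, x a • e a, ∑ a, y a • e a, fun a hax hay => ?_⟩
  have hsub : ∀ a : A, a • (∑ i, x i • e i) = ∑ i, x i • e i → ∀ v ∈ S, a⁻¹ • v ∈ S := by
    intro a ha
    let T : AddSubgroup V := S.comap (DistribMulAction.toAddMonoidHom V a⁻¹)
    refine hall T (fun b hb v hv => ?_) x hx0 ?_
    · show a⁻¹ • b • v ∈ S
      rw [← mul_smul, show a⁻¹ * b = (a⁻¹ * b * a) * a⁻¹ by group, mul_smul]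
      exact hSB _ (by simpa using D.normal.conj_mem b hb a⁻¹) _ hv
    · show a⁻¹ • (∑ i, x i • e i) ∈ S
      rw [inv_smul_eq_iff.2 ha.symm]
      exact ⟨x, rfl⟩
  have haG : a ∈ G := ⟨fun v hv => by
    simpa using hsub a⁻¹ (inv_smul_eq_iff.2 hax.symm) v hv, hsub a hax⟩
  have hfix : ∀ c : Fin N → ZMod p, a • (∑ i, c i • e i) = ∑ i, c i • e i → (R ⟨a, haG⟩).mulVec c = c := by
    intro c hc
    rw [show a • (∑ i, c i • e i) = ∑ i, ((R ⟨a, haG⟩).mulVec c) i • e i from rep_vec (hR ⟨a, haG⟩) c] at hc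
    exact sub_eq_zero.1 (hind _ (by
      simp only [Pi.sub_apply, sub_smul, Finset.sum_sub_distrib, hc, sub_self]))
  have h1 : (⟨a, haG⟩ : G) = 1 := hxy ⟨a, haG⟩ (hfix x hax) (hfix y hay)
  intro v
  rw [show a = 1 from congrArg Subtype.val h1, one_smul]

include D F in
/-- Dual elements for the elementary abelian group `X`. -/
theorem exists_dual (hX : ∀ x ∈ F.X, x * x = 1) (n : ℕ) (hn : Nat.card F.X = 2 ^ n) :
    ∃ (x : (Fin n → ZMod 2) → A) (m : Fin n → A), (∀ u, x u ∈ F.X) ∧ (∀ y ∈ F.X, ∃ u, x u = y) ∧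
      Function.Injective x ∧ (∀ u u', x (u + u') = x u * x u') ∧ (∀ k, m k ∈ F.M ∧ m k • F.w = F.w) ∧
      (∀ k u, ⁅m k, x u⁆ = if u k = 1 then K.ε else 1) ∧
      ∀ y ∈ F.M, ∃ v : Fin n → ZMod 2, ∃ z ∈ K.U,
        y = z * ((List.finRange n).map fun k => if v k = 1 then m k else 1).prod := by
  classical
  haveI : Nontrivial V := ⟨⟨F.w, 0, F.w_ne⟩⟩
  letI : CommGroup F.X := { (inferInstance : Group F.X) with
    mul_comm := fun a b => Subtype.ext (F.cX a a.2 b b.2).eq }
  letI : Module (ZMod 2) (Additive F.X) := AddCommGroup.zmodModule (fun a => by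
    rw [two_nsmul]
    exact Subtype.ext (hX _ a.toMul.2))
  haveI : Module.Finite (ZMod 2) (Additive F.X) := Module.Finite.of_finite
  have hfr : Module.finrank (ZMod 2) (Additive F.X) = n := by
    have h1 := Module.natCard_eq_pow_finrank (K := ZMod 2) (V := Additive F.X)
    rw [Nat.card_zmod, Nat.card_congr (Additive.toMul (α := F.X)), hn] at h1
    exact (Nat.pow_right_injective le_rfl h1).symm
  let φ := (Module.finBasisOfFinrankEq (ZMod 2) (Additive F.X) hfr).equivFun
  let x : (Fin n → ZMod 2) → A := fun u => ((φ.symm u).toMul : A)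
  have hxX : ∀ u, x u ∈ F.X := fun u => (φ.symm u).toMul.2
  have hxs : ∀ y ∈ F.X, ∃ u, x u = y := fun y hy =>
    ⟨φ (Additive.ofMul (⟨y, hy⟩ : F.X)), by simp [x]⟩
  have hxi : Function.Injective x := fun u u' h =>
    φ.symm.injective (Additive.toMul.injective (Subtype.ext h))
  have hxa : ∀ u u', x (u + u') = x u * x u' := fun u u' => by
    simp only [x, map_add]
    rfl
  have hMB : ∀ y ∈ F.M, y ∈ D.B := F.M_le
  have hxB : ∀ u, x u ∈ D.B := fun u => F.X_le (hxX u)
  have hcases : ∀ y ∈ F.M, ∀ u, ⁅y, x u⁆ = 1 ∨ ⁅y, x u⁆ = K.ε := by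
    intro y hy u
    refine K.sq_one (D.comm y (hMB y hy) _ (hxB u)) ?_
    rw [← pow_two]
    exact D.comm_right_one_of_pow (hMB y hy) (hxB u) (by rw [pow_two, hX _ (hxX u)]; exact one_mem _)
  have hright : ∀ y ∈ F.M, ∀ u u', ⁅y, x (u + u')⁆ = ⁅y, x u⁆ * ⁅y, x u'⁆ := by
    intro y hy u u'
    rw [← commutatorElement_inv, hxa, D.comm_mul_left (hxB u) (hxB u') (hMB y hy), mul_inv_rev,
      commutatorElement_inv, commutatorElement_inv]
    exact (K.comm _ (D.comm y (hMB y hy) _ (hxB u')) _ (D.comm y (hMB y hy) _ (hxB u)))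
  let β : A → (Fin n → ZMod 2) → ZMod 2 := fun y u => if ⁅y, x u⁆ = 1 then 0 else 1
  have hεne : ∀ y ∈ F.M, ∀ u, ⁅y, x u⁆ ≠ 1 → K.ε ≠ 1 := fun y hy u h hε =>
    h (((hcases y hy u).resolve_left h).trans hε)
  have hβ : ∀ y ∈ F.M, ∀ u u', β y (u + u') = β y u + β y u' := by
    intro y hy u u'
    simp only [β, hright y hy]
    rcases hcases y hy u with h | h <;> rcases hcases y hy u' with h' | h' <;> rw [h, h'] <;>
      by_cases hε : K.ε = 1 <;> simp [hε, K.ε_sq] <;> decide
  have hβm : ∀ y ∈ F.M, ∀ y' ∈ F.M, ∀ u, β (y * y') u = β y u + β y' u := by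
    intro y hy y' hy' u
    simp only [β, D.comm_mul_left (hMB y hy) (hMB y' hy') (hxB u)]
    rcases hcases y hy u with h | h <;> rcases hcases y' hy' u with h' | h' <;> rw [h, h'] <;>
      by_cases hε : K.ε = 1 <;> simp [hε, K.ε_sq] <;> decide
  let β' : F.M → Module.Dual (ZMod 2) (Fin n → ZMod 2) := fun y =>
    (AddMonoidHom.mk' (β y) (hβ y y.2)).toZModLinearMap 2
  let W : Submodule (ZMod 2) (Module.Dual (ZMod 2) (Fin n → ZMod 2)) := AddSubgroup.toZModSubmodule 2
    { carrier := Set.range β'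
      zero_mem' := ⟨1, by
        ext u
        show β 1 _ = 0
        simp [β]⟩
      add_mem' := by
        rintro _ _ ⟨y, rfl⟩ ⟨y', rfl⟩
        exact ⟨y * y', LinearMap.ext fun u => hβm y y.2 y' y'.2 u⟩
      neg_mem' := by
        rintro _ ⟨y, rfl⟩
        exact ⟨y, LinearMap.ext fun u => (ZMod.neg_eq_self_mod_two _).symm⟩ }
  have hW : W = ⊤ := by
    have h0 : W.dualCoannihilator = ⊥ := by
      rw [eq_bot_iff]
      intro u hu
      rw [Submodule.mem_dualCoannihilator] at hu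
      have hc : ∀ y ∈ F.M, Commute (x u) y := by
        intro y hy
        have h := hu (β' ⟨y, hy⟩) ⟨⟨y, hy⟩, rfl⟩
        change β y u = 0 at h
        simp only [β] at h
        split at h
        · next hh => exact (commutatorElement_eq_one_iff_commute.1 hh).symm
        · exact absurd h one_ne_zero
      have h1 := F.hXM _ (hxX u) hc
      rw [Submodule.mem_bot]
      apply hxi
      rw [h1]
      simp [x]
    rw [← Subspace.dualCoannihilator_dualAnnihilator_eq (W := W), h0, Submodule.dualAnnihilator_bot]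
  have hk : ∀ k : Fin n, ∃ y : A, y ∈ F.M ∧ y • F.w = F.w ∧ ∀ u, ⁅y, x u⁆ = if u k = 1 then K.ε else 1 := by
    intro k
    obtain ⟨y, hy⟩ : (LinearMap.proj k : Module.Dual (ZMod 2) (Fin n → ZMod 2)) ∈ W := hW ▸ Submodule.mem_top
    obtain ⟨z, hz, hzw⟩ := F.eig y y.2
    refine ⟨z⁻¹ * y, mul_mem (F.U_M (inv_mem hz)) y.2, by rw [mul_smul, hzw, inv_smul_smul], fun u => ?_⟩
    rw [D.comm_mul_left (D.le (inv_mem hz)) (hMB y y.2) (hxB u),
      commutatorElement_eq_one_iff_commute.2 (D.cent _ (hxB u) _ (inv_mem hz)).symm, one_mul]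
    have hval : β y u = u k := LinearMap.congr_fun hy u
    simp only [β] at hval
    rcases hcases y y.2 u with h | h
    · rw [if_pos h] at hval
      rw [h, ← hval, if_neg zero_ne_one]
    · by_cases hε : K.ε = 1
      · rw [h, hε, ite_self]
      · rw [if_neg (h ▸ hε)] at hval
        rw [h, if_pos hval.symm]
  choose m hm1 hm2 hm3 using hk
  refine ⟨x, m, hxX, hxs, hxi, hxa, fun k => ⟨hm1 k, hm2 k⟩, hm3, fun y hy => ?_⟩
  let v : Fin n → ZMod 2 := fun k => β y (Pi.single k 1)
  refine ⟨v, y * (((List.finRange n).map fun k => if v k = 1 then m k else 1).prod)⁻¹, ?_, by group⟩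
  set P := ((List.finRange n).map fun k => if v k = 1 then m k else 1).prod with hP
  have hPM : P ∈ F.M := list_prod_mem fun t ht => by
    obtain ⟨k, -, rfl⟩ := List.mem_map.1 ht
    split
    exacts [hm1 k, one_mem _]
  refine F.hMX _ (mul_mem hy (inv_mem hPM)) fun x' hx' => ?_
  obtain ⟨u, rfl⟩ := hxs x' hx'
  have hlist : ∀ l : List (Fin n), ((l.map fun k => if v k = 1 then m k else 1).prod ∈ F.M) ∧
      β (l.map fun k => if v k = 1 then m k else 1).prod u = (l.map fun k => v k * u k).sum := by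
    intro l
    induction l with
    | nil => exact ⟨one_mem _, by simp [β]⟩
    | cons k l ih =>
      have hk1 : (if v k = 1 then m k else 1) ∈ F.M := by
        split
        exacts [hm1 k, one_mem _]
      refine ⟨by rw [List.map_cons, List.prod_cons]; exact mul_mem hk1 ih.1, ?_⟩
      rw [List.map_cons, List.prod_cons, hβm _ hk1 _ ih.1, ih.2, List.map_cons, List.sum_cons]
      congr 1
      have z2 : ∀ t : ZMod 2, t = 0 ∨ t = 1 := by decide
      rcases z2 (v k) with hv | hv <;> rw [hv]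
      · simp [β]
      · rw [if_pos rfl, one_mul]
        simp only [β, hm3]
        rcases z2 (u k) with hu | hu <;> rw [hu]
        · simp
        · rw [if_pos rfl, if_neg]
          intro hε
          exact hεne y hy (Pi.single k 1) (fun h1 => by simp [v, β, h1] at hv) hε
  have hlin : β y u = ((List.finRange n).map fun k => v k * u k).sum := by
    rw [← Fin.sum_univ_def]
    conv_lhs => rw [show u = ∑ k, u k • (Pi.single k 1 : Fin n → ZMod 2) from pi_eq_sum_univ' u]
    refine (map_sum (β' ⟨y, hy⟩) _ _).trans (Finset.sum_congr rfl fun k _ => ?_)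
    rw [map_smul, smul_eq_mul, mul_comm]
    rfl
  have hb : β y u = β P u := by rw [hlin]; exact (hlist (List.finRange n)).2.symm
  have h0 : β (y * P⁻¹) u = 0 := by
    have h1 := hβm _ (mul_mem hy (inv_mem hPM)) _ hPM u
    rw [inv_mul_cancel_right, hb] at h1
    simpa using h1
  simp only [β] at h0
  split at h0
  · next hh => exact commutatorElement_eq_one_iff_commute.1 hh
  · exact absurd h0 one_ne_zero

theorem x_list {n : ℕ} {x : (Fin n → ZMod 2) → A} (hxa : ∀ u u', x (u + u') = x u * x u')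
    (u : Fin n → ZMod 2) :
    x u = ((List.finRange n).map fun k => if u k = 1 then x (Pi.single k 1) else 1).prod := by
  have h0 : x 0 = 1 := by
    have := hxa 0 0
    rwa [add_zero, eq_comm, mul_eq_left] at this
  have hl : ∀ l : List (Fin n), x (l.map fun k => u k • (Pi.single k 1 : Fin n → ZMod 2)).sum =
      (l.map fun k => if u k = 1 then x (Pi.single k 1) else 1).prod := by
    intro l
    induction l with
    | nil => simpa using h0
    | cons k l ih =>
      rw [List.map_cons, List.sum_cons, hxa, ih, List.map_cons, List.prod_cons]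
      congr 1
      have z2 : ∀ t : ZMod 2, t = 0 ∨ t = 1 := by decide
      rcases z2 (u k) with hu | hu <;> rw [hu]
      · simpa using h0
      · simp
  conv_lhs => rw [show u = ∑ k, u k • (Pi.single k 1 : Fin n → ZMod 2) from pi_eq_sum_univ' u,
    Fin.sum_univ_def]
  exact hl _

include D F in
/-- Projecting a vector of an invariant subgroup to one component. -/
theorem component (T : AddSubgroup V) (hT : ∀ b ∈ D.B, ∀ v ∈ T, b • v ∈ T) {n : ℕ}
    {x : (Fin n → ZMod 2) → A} {m : Fin n → A} (hxX : ∀ u, x u ∈ F.X)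
    (hm : ∀ k, m k ∈ F.M ∧ m k • F.w = F.w) (hc : ∀ k u, ⁅m k, x u⁆ = if u k = 1 then K.ε else 1)
    (d : (Fin n → ZMod 2) → V) (hd : ∀ u, d u ∈ F.eigSet D) (h : ∑ u, x u • d u ∈ T)
    (u₀ : Fin n → ZMod 2) : (2 ^ n : ℕ) • x u₀ • d u₀ ∈ T := by
  classical
  have hact : ∀ k u, m k • x u • d u = if u k = 1 then -(x u • d u) else x u • d u := by
    intro k u
    have e : m k * x u = ⁅m k, x u⁆ * x u * m k := by rw [commutatorElement_def]; group
    have h1 : m k • d u = d u := by
      have := hd u (m k) (hm k).1 1 (one_mem _) (by rw [one_smul, (hm k).2])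
      rwa [one_smul] at this
    rw [← mul_smul, e, mul_smul, h1, mul_smul, hc]
    split <;> simp [K.ε_smul]
  have hl : ∀ l : List (Fin n),
      ∑ u, (if ∀ k ∈ l, u k = u₀ k then (2 ^ l.length : ℕ) • x u • d u else 0) ∈ T := by
    intro l
    induction l with
    | nil => simpa using h
    | cons k l ih =>
      set s := ∑ u, (if ∀ k ∈ l, u k = u₀ k then (2 ^ l.length : ℕ) • x u • d u else 0) with hs
      have hms : m k • s = ∑ u, (if ∀ k ∈ l, u k = u₀ k then
          (2 ^ l.length : ℕ) • (if u k = 1 then -(x u • d u) else x u • d u) else 0) := by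
        rw [hs, Finset.smul_sum]
        refine Finset.sum_congr rfl fun u _ => ?_
        split
        · rw [show m k • ((2 ^ l.length : ℕ) • x u • d u) = (2 ^ l.length : ℕ) • m k • x u • d u from
            map_nsmul (DistribMulAction.toAddMonoidHom V (m k)) _ _, hact]
        · exact smul_zero _
      have hmT : m k • s ∈ T := hT _ (F.M_le (hm k).1) _ ih
      have z2 : ∀ t : ZMod 2, t = 0 ∨ t = 1 := by decide
      rcases z2 (u₀ k) with h0 | h0
      · convert add_mem ih hmT using 1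
        rw [hms, hs, ← Finset.sum_add_distrib]
        refine Finset.sum_congr rfl fun u _ => ?_
        by_cases hl : ∀ k ∈ l, u k = u₀ k
        · rcases z2 (u k) with hu | hu
          · rw [if_pos hl, if_pos (fun k' hk' => (List.mem_cons.1 hk').elim (fun e => by rw [e, hu, h0]) (hl k')), if_pos hl,
              if_neg (by rw [hu]; decide), List.length_cons, pow_succ, mul_comm, mul_nsmul', two_nsmul]
          · rw [if_pos hl, if_neg (fun e => by
              have := (List.forall_mem_cons.1 e).1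
              rw [hu, h0] at this
              exact one_ne_zero this), if_pos hl, if_pos hu, smul_neg, add_neg_cancel]
        · rw [if_neg hl, if_neg (fun e => hl (List.forall_mem_cons.1 e).2), if_neg hl, add_zero]
      · convert sub_mem ih hmT using 1
        rw [hms, hs, ← Finset.sum_sub_distrib]
        refine Finset.sum_congr rfl fun u _ => ?_
        by_cases hl : ∀ k ∈ l, u k = u₀ k
        · rcases z2 (u k) with hu | hu
          · rw [if_pos hl, if_neg (fun e => by
              have := (List.forall_mem_cons.1 e).1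
              rw [hu, h0] at this
              exact zero_ne_one this), if_pos hl, if_neg (by rw [hu]; decide), sub_self]
          · rw [if_pos hl, if_pos (fun k' hk' => (List.mem_cons.1 hk').elim (fun e => by rw [e, hu, h0]) (hl k')), if_pos hl, if_pos hu,
              smul_neg, sub_neg_eq_add, List.length_cons, pow_succ, mul_comm, mul_nsmul', two_nsmul]
        · rw [if_neg hl, if_neg (fun e => hl (List.forall_mem_cons.1 e).2), if_neg hl, sub_zero]
  have h2 := hl (List.finRange n)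
  rw [Finset.sum_eq_single u₀ (fun u _ hu => if_neg fun e => hu (funext fun k => e k (List.mem_finRange k)))
    (fun h => absurd (Finset.mem_univ _) h), if_pos (fun k _ => rfl), List.length_finRange] at h2
  exact h2

include D F in
theorem two_pow_ne {n : ℕ} (hX : ∀ x ∈ F.X, x * x = 1) (hn : Nat.card F.X = 2 ^ n)
    (hco : ¬ p ∣ Nat.card A) : ((2 ^ n : ℕ) : ZMod p) ≠ 0 := by
  intro h
  rw [ZMod.natCast_eq_zero_iff] at h
  exact hco (h.trans (hn ▸ Subgroup.card_subgroup_dvd_card F.X))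

end

theorem sq_sum_zero : ∀ s t : ZMod 3, s * s + t * t = 0 → s = 0 ∧ t = 0 := by decide

theorem xor_low : ∀ (k : Fin 2) (a : Fin 8), ((a : ℕ) ^^^ 2 ^ (k : ℕ)) % 4 = (a : ℕ) % 4 ^^^ 2 ^ (k : ℕ) ∧
    (((a : ℕ) ^^^ 2 ^ (k : ℕ)) < 4 ↔ (a : ℕ) < 4) := by decide

section

variable {A : Type v} {V : Type u} [Group A] [AddCommGroup V] [DistribMulAction A V] [Finite A]
  [Finite V] [FaithfulSMul A V] {K : Core A V} (D : Bd K) (F : Frame K D.B)

omit [Finite A] [Finite V] [FaithfulSMul A V] in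
/-- Multiples of the identity lie in `U` if it is closed under sums. -/
theorem nat_mem (p : ℕ) (hp : ∀ v : V, p • v = 0)
    (hadd : ∀ a ∈ K.U, ∀ b ∈ K.U, (∀ v : V, a • v + b • v = 0) ∨ ∃ c ∈ K.U, ∀ v : V, a • v + b • v = c • v) :
    ∀ n : ℕ, (∀ v : V, n • v = 0) ∨ ∃ c ∈ K.U, ∀ v : V, n • v = c • v := by
  intro n
  induction n with
  | zero => exact Or.inl fun v => zero_nsmul v
  | succ n ih =>
    rcases ih with h | ⟨c, hc, h⟩
    · exact Or.inr ⟨1, one_mem _, fun v => by rw [succ_nsmul, h, zero_add, one_smul]⟩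
    · rcases hadd c hc 1 (one_mem _) with h' | ⟨c', hc', h'⟩
      · exact Or.inl fun v => by rw [succ_nsmul, h, ← h' v, one_smul]
      · exact Or.inr ⟨c', hc', fun v => by rw [succ_nsmul, h, ← h' v, one_smul]⟩

include F in
/-- The hypothesis on natural multiples from closure under sums. -/
theorem hnat_of_add (p : ℕ) [Fact p.Prime] (hp : ∀ v : V, p • v = 0)
    (hadd : ∀ a ∈ K.U, ∀ b ∈ K.U, (∀ v : V, a • v + b • v = 0) ∨ ∃ c ∈ K.U, ∀ v : V, a • v + b • v = c • v) :
    ∀ n : ℕ, ¬ p ∣ n → ∃ c ∈ K.U, ∀ v : V, n • v = c • v := by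
  intro n hn
  refine (nat_mem p hp hadd n).resolve_left fun h => ?_
  letI : Module (ZMod p) V := AddCommGroup.zmodModule hp
  refine hn ((ZMod.natCast_eq_zero_iff n p).1 (coef_zero (V := V) ?_ F.w_ne))
  rw [Nat.cast_smul_eq_nsmul]
  exact h F.w

/-- The hyperbolic models. -/
theorem good2_plus (p : ℕ) [Fact p.Prime] (hp : ∀ v : V, p • v = 0) (hU : Nat.card K.U + 1 = p)
    (hnat : ∀ n : ℕ, ¬ p ∣ n → ∃ c ∈ K.U, ∀ v : V, n • v = c • v)
    (hco : ¬ p ∣ Nat.card A) (hX : ∀ x ∈ F.X, x * x = 1) (n : ℕ) (hn : Nat.card F.X = 2 ^ n)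
    (hQ : F.Q = K.U) (h : ModelTwo.{v} p (2 ^ n) (plusGens p n)) : Good2 A V := by
  classical
  letI : Module (ZMod p) V := AddCommGroup.zmodModule hp
  obtain ⟨x, m, hxX, hxs, hxi, hxa, hm, hc, hMdec⟩ := exists_dual D F hX n hn
  haveI : Fintype F.X := Fintype.ofFinite _
  let β := Equiv.ofBijective _ (bits_bijective n)
  let eX : (Fin n → ZMod 2) ≃ F.X := Equiv.ofBijective (fun u => ⟨x u, hxX u⟩)
    ⟨fun u u' he => hxi (congrArg Subtype.val he), fun y =>
      (hxs y y.2).imp fun u hu => Subtype.ext hu⟩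
  let e : Fin (2 ^ n) → V := fun a => x (bits n a) • F.w
  have hre : ∀ c : Fin (2 ^ n) → ZMod p, ∑ a, c a • e a = ∑ u, x u • (c (β.symm u) • F.w) := by
    intro c
    refine Fintype.sum_equiv β _ _ fun a => ?_
    rw [Equiv.symm_apply_apply, smul_zsmul]
    rfl
  have hwE : ∀ c : ZMod p, c • F.w ∈ F.eigSet D := by
    intro c m' hm' z hz he
    rw [smul_zsmul, smul_zsmul, he]
  have hcx : ∀ k u, m k * x u = (if u k = 1 then K.ε else 1) * x u * m k := fun k u => by
    rw [← hc k u, commutatorElement_def]; group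
  refine good2_of_model D F hco (scalar D F hU hnat) e (Nat.two_pow_pos n) ?_
    ((List.finRange n).map (fun k => (m k, diagGen p n k)) ++
      (List.finRange n).map fun k => (x (Pi.single k 1), permGen p n k)) ?_ ?_ ?_ ?_ ?_
    (by rwa [List.map_append, List.map_map, List.map_map])
  · intro c hc0
    rw [hre, ← eX.symm.sum_comp] at hc0
    funext a
    have h1 := F.indep D Finset.univ (fun y => c (β.symm (eX.symm y)) • F.w) (fun y => hwE _)
      ((Finset.sum_congr rfl fun y _ => by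
        show (y : A) • _ = x (eX.symm y) • _
        rw [show x (eX.symm y) = (y : A) from congrArg Subtype.val (eX.apply_symm_apply y)]).trans hc0)
      (eX (β a)) (Finset.mem_univ _)
    simp only [Equiv.symm_apply_apply] at h1
    exact coef_zero h1 F.w_ne
  · intro t ht
    rcases List.mem_append.1 ht with ht | ht <;> obtain ⟨k, -, rfl⟩ := List.mem_map.1 ht
    exacts [F.M_le (hm k).1, F.X_le (hxX _)]
  · intro t ht
    rcases List.mem_append.1 ht with ht | ht <;> obtain ⟨k, -, rfl⟩ := List.mem_map.1 ht <;> intro a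
    · rw [Finset.sum_eq_single a (fun b _ hb => by simp [diagGen, hb]) (fun h => absurd (Finset.mem_univ a) h)]
      show m k • x (bits n a) • F.w = _
      rw [← mul_smul, hcx, mul_smul, (hm k).2, mul_smul]
      by_cases hb : (a : ℕ).testBit k <;> simp [diagGen, bits, hb, e, K.ε_smul]
    · have hlt : (a : ℕ) ^^^ 2 ^ (k : ℕ) < 2 ^ n :=
        Nat.xor_lt_two_pow a.2 (Nat.pow_lt_pow_right (by norm_num) k.2)
      rw [Finset.sum_eq_single ⟨_, hlt⟩ (fun b _ hb => by
        simp [permGen, show ¬ (b : ℕ) = (a : ℕ) ^^^ 2 ^ (k : ℕ) from fun h => hb (Fin.ext h)])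
        (fun h => absurd (Finset.mem_univ _) h)]
      show x (Pi.single k 1) • x (bits n a) • F.w = _
      rw [← mul_smul, ← hxa, ← bits_xor n a k hlt]
      simp [permGen, e]
  · intro b hb
    obtain ⟨x', hx', m', hm', q, hq, rfl⟩ := F.dec D b hb
    obtain ⟨u, rfl⟩ := hxs x' hx'
    obtain ⟨v, z, hz, rfl⟩ := hMdec m' hm'
    set P := ((List.finRange n).map fun k => if v k = 1 then m k else 1).prod with hP
    have hPB : P ∈ D.B := list_prod_mem fun t ht => by
      obtain ⟨k, -, rfl⟩ := List.mem_map.1 ht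
      split
      exacts [F.M_le (hm k).1, one_mem _]
    rw [hQ] at hq
    have hxB : x u ∈ D.B := F.X_le (hxX u)
    refine ⟨⁅x u, P⁆ * z * q, mul_mem (mul_mem (D.comm _ hxB _ hPB) hz) hq,
      (List.finRange n).map (fun k => decide (v k = 1)) ++ (List.finRange n).map (fun k => decide (u k = 1)),
      by simp, ?_⟩
    rw [List.zip_append (by simp), List.zip_map', List.zip_map', List.map_append, List.prod_append,
      List.map_map, List.map_map]
    simp only [Function.comp_def, decide_eq_true_eq]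
    rw [← hP, ← x_list hxa u]
    calc x u * (z * P) * q = z * (x u * P) * q := by
          rw [← mul_assoc (x u), (D.cent _ hxB z hz).eq]; simp only [mul_assoc]
      _ = z * (⁅x u, P⁆ * (P * x u)) * q := by congr 2; rw [commutatorElement_def]; group
      _ = (z * ⁅x u, P⁆) * ((P * x u) * q) := by simp only [mul_assoc]
      _ = (⁅x u, P⁆ * z) * (q * (P * x u)) := by
          rw [K.comm _ hz _ (D.comm _ hxB _ hPB), (D.cent _ (mul_mem hPB hxB) q hq).eq]
      _ = _ := by simp only [mul_assoc]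
  · exact fun a => ⟨_, F.X_le (hxX (bits n a)), rfl⟩
  · intro T hT c hc0 hcT
    obtain ⟨a, ha⟩ := Function.ne_iff.1 hc0
    rw [hre] at hcT
    have h1 := component D F T hT hxX hm hc (fun u => c (β.symm u) • F.w) (fun u => hwE _) hcT (β a)
    rw [Equiv.symm_apply_apply, ← Nat.cast_smul_eq_nsmul (ZMod p), smul_zsmul, smul_smul] at h1
    have h2 := zsmul_mem T (((2 ^ n : ℕ) : ZMod p) * c a)⁻¹ h1
    rw [smul_smul, inv_mul_cancel₀ (mul_ne_zero (two_pow_ne D F hX hn hco) ha), one_smul] at h2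
    have h3 := hT _ (inv_mem (F.X_le (hxX (β a)))) _ h2
    rwa [inv_smul_smul] at h3

/-- The model with a quaternion residue. -/
theorem good2_minus (hp : ∀ v : V, 3 • v = 0) (hU : Nat.card K.U + 1 = 3)
    (hnat : ∀ n : ℕ, ¬ 3 ∣ n → ∃ c ∈ K.U, ∀ v : V, n • v = c • v)
    (hco : ¬ 3 ∣ Nat.card A) (hX : ∀ x ∈ F.X, x * x = 1) (hn : Nat.card F.X = 4)
    (i j : A) (hi : i ∈ F.Q) (hj : j ∈ F.Q) (hii : i * i = K.ε) (hjj : j * j = K.ε) (hij : ¬ Commute i j)
    (hjw : j • F.w = F.w + i • F.w)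
    (hQ : ∀ q ∈ F.Q, ∃ z ∈ K.U, q = z ∨ q = z * i ∨ q = z * j ∨ q = z * (i * j))
    (h : ModelTwo.{v} 3 8 minusGens) : Good2 A V := by
  classical
  haveI : Fact (Nat.Prime 3) := ⟨Nat.prime_three⟩
  haveI : Nontrivial V := ⟨⟨F.w, 0, F.w_ne⟩⟩
  letI : Module (ZMod 3) V := AddCommGroup.zmodModule hp
  obtain ⟨x, m, hxX, hxs, hxi, hxa, hm, hc, hMdec⟩ := exists_dual D F hX 2 (by rw [hn]; rfl)
  haveI : Fintype F.X := Fintype.ofFinite _
  let eX : (Fin 2 → ZMod 2) ≃ F.X := Equiv.ofBijective (fun u => ⟨x u, hxX u⟩)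
    ⟨fun u u' he => hxi (congrArg Subtype.val he), fun y =>
      (hxs y y.2).imp fun u hu => Subtype.ext hu⟩
  -- the residue
  have hiB : i ∈ D.B := F.Q_le hi
  have hjB : j ∈ D.B := F.Q_le hj
  have hiw : i • i • F.w = -F.w := by rw [← mul_smul, hii, K.ε_smul]
  have hji : j * i = K.ε * (i * j) := by
    have h1 : ⁅j, i⁆ = K.ε := by
      refine (K.sq_one (D.comm j hjB i hiB) ?_).resolve_left fun h1 =>
        hij (commutatorElement_eq_one_iff_commute.1 h1).symm
      rw [← pow_two]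
      exact D.comm_one_of_pow hjB hiB (by rw [pow_two, hjj]; exact K.ε_mem)
    rw [← h1, commutatorElement_def]
    group
  have hjiw : j • i • F.w = F.w - i • F.w := by
    rw [← mul_smul, hji, mul_smul, K.ε_smul, mul_smul, hjw, smul_add, hiw]
    abel
  let lo : Fin 8 → Fin 4 := fun a => ⟨(a : ℕ) % 4, Nat.mod_lt _ (by norm_num)⟩
  let e : Fin 8 → V := fun a => x (bits 2 (lo a)) • (if (a : ℕ) < 4 then F.w else i • F.w)
  let β : Fin 4 ≃ (Fin 2 → ZMod 2) := Equiv.ofBijective (bits 2) (bits_bijective 2)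
  let c0 : (Fin 8 → ZMod 3) → (Fin 2 → ZMod 2) → ZMod 3 := fun c u =>
    c ⟨(β.symm u : ℕ), by have := (β.symm u).2; omega⟩
  let c1 : (Fin 8 → ZMod 3) → (Fin 2 → ZMod 2) → ZMod 3 := fun c u =>
    c ⟨(β.symm u : ℕ) + 4, by have := (β.symm u).2; omega⟩
  let d : (Fin 8 → ZMod 3) → (Fin 2 → ZMod 2) → V := fun c u => c0 c u • F.w + c1 c u • i • F.w
  have hre : ∀ c : Fin 8 → ZMod 3, ∑ a, c a • e a = ∑ u, x u • d c u := by
    intro c
    rw [← β.sum_comp]
    simp only [d, c0, c1, Equiv.symm_apply_apply, smul_add, smul_zsmul, Fin.sum_univ_eight,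
      Finset.sum_add_distrib, Fin.sum_univ_four, e, lo]
    norm_num
    simp only [β, Equiv.ofBijective_apply]
    simp only [add_assoc]
    rfl
  have hdE : ∀ c u, d c u ∈ F.eigSet D := by
    intro c u
    have hz : ∀ (k : ZMod 3) (v : V), v ∈ F.eigSet D → k • v ∈ F.eigSet D := fun k v hv m' hm' z hz he => by
      rw [smul_zsmul, smul_zsmul, hv m' hm' z hz he]
    exact F.add_eig D (hz _ _ (F.w_eig D)) (hz _ _ (F.smul_eig D i hi _ (F.w_eig D)))
  have hquat : ∀ c u, d c u ≠ 0 → ∃ k : ZMod 3, k ≠ 0 ∧ c0 c u • d c u - c1 c u • i • d c u = k • F.w := by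
    intro c u hne
    refine ⟨c0 c u * c0 c u + c1 c u * c1 c u, fun h0 => hne ?_, ?_⟩
    · obtain ⟨e0, e1⟩ := sq_sum_zero _ _ h0
      simp only [d, e0, e1, zero_smul, add_zero]
    · simp only [d, smul_add, smul_zsmul, hiw, smul_neg, smul_smul, add_smul, mul_comm (c1 c u) (c0 c u)]
      abel
  have hd0 : ∀ c, (∀ u, d c u = 0) → c = 0 := by
    intro c hd
    have hz : ∀ u, c0 c u = 0 ∧ c1 c u = 0 := by
      intro u
      have hk : (c0 c u * c0 c u + c1 c u * c1 c u) • F.w = 0 := by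
        have : c0 c u • d c u - c1 c u • i • d c u = 0 := by rw [hd u]; simp
        rw [← this]
        simp only [d, smul_add, smul_zsmul, hiw, smul_neg, smul_smul, add_smul, mul_comm (c1 c u) (c0 c u)]
        abel
      exact sq_sum_zero _ _
        (coef_zero hk F.w_ne)
    funext a
    have h1 := hz (β (lo a))
    simp only [c0, c1, Equiv.symm_apply_apply, lo] at h1
    by_cases ha : (a : ℕ) < 4
    · refine Eq.trans (congrArg c (Fin.ext ?_)) h1.1
      show (a : ℕ) = (a : ℕ) % 4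
      omega
    · refine Eq.trans (congrArg c (Fin.ext ?_)) h1.2
      show (a : ℕ) = (a : ℕ) % 4 + 4
      omega
  have hcx : ∀ k u, m k * x u = (if u k = 1 then K.ε else 1) * x u * m k := fun k u => by
    rw [← hc k u, commutatorElement_def]; group
  have hmQ : ∀ k, m k • i • F.w = i • F.w := fun k => by
    rw [← mul_smul, (F.cMQ _ (hm k).1 i hi).eq, mul_smul, (hm k).2]
  refine good2_of_model D F hco (scalar D F hU hnat) e (by norm_num) ?_
    [(m 0, diagGen 3 3 0), (m 1, diagGen 3 3 1), (x (Pi.single 0 1), permGen 3 3 0),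
      (x (Pi.single 1 1), permGen 3 3 1), (i, quatI), (j, quatJ)] ?_ ?_ ?_ ?_ ?_ h
  · intro c hc0
    rw [hre, ← eX.symm.sum_comp] at hc0
    refine hd0 c fun u => ?_
    have h1 := F.indep D Finset.univ (fun y => d c (eX.symm y)) (fun y => hdE c _)
      ((Finset.sum_congr rfl fun y _ => by
        show (y : A) • _ = x (eX.symm y) • _
        rw [show x (eX.symm y) = (y : A) from congrArg Subtype.val (eX.apply_symm_apply y)]).trans hc0)
      (eX u) (Finset.mem_univ _)
    simpa using h1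
  · simp only [List.mem_cons, List.not_mem_nil, or_false]
    rintro t (rfl | rfl | rfl | rfl | rfl | rfl)
    exacts [F.M_le (hm 0).1, F.M_le (hm 1).1, F.X_le (hxX _), F.X_le (hxX _), hiB, hjB]
  · have hdiag : ∀ (k : Fin 2) (k' : Fin 3), (k : ℕ) = (k' : ℕ) → Rep e (m k) (diagGen 3 3 k') := by
      intro k k' hk a
      rw [Finset.sum_eq_single a (fun b _ hb => by simp [diagGen, hb]) (fun h => absurd (Finset.mem_univ a) h)]
      show m k • x (bits 2 (lo a)) • (if (a : ℕ) < 4 then F.w else i • F.w) = _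
      rw [← mul_smul, hcx, mul_smul, mul_smul]
      have hmw : m k • (if (a : ℕ) < 4 then F.w else i • F.w) = (if (a : ℕ) < 4 then F.w else i • F.w) := by
        split
        exacts [(hm k).2, hmQ k]
      rw [hmw]
      have hbit : ((lo a : Fin 4) : ℕ).testBit k = (a : ℕ).testBit k' := by
        rw [← hk]
        show ((a : ℕ) % 4).testBit k = _
        rw [show (4 : ℕ) = 2 ^ 2 from rfl, Nat.testBit_mod_two_pow]
        simp [k.2]
      by_cases hb : (a : ℕ).testBit k' <;> by_cases ha : (a : ℕ) < 4 <;>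
        simp [diagGen, bits, hbit, hb, ha, e, K.ε_smul]
    have hperm : ∀ (k : Fin 2) (k' : Fin 3), (k : ℕ) = (k' : ℕ) →
        Rep e (x (Pi.single k 1)) (permGen 3 3 k') := by
      intro k k' hk a
      have hlt : (a : ℕ) ^^^ 2 ^ (k' : ℕ) < 2 ^ 3 :=
        Nat.xor_lt_two_pow a.2 (Nat.pow_lt_pow_right (by norm_num) k'.2)
      rw [Finset.sum_eq_single ⟨_, hlt⟩ (fun b _ hb => by
        simp [permGen, show ¬ (b : ℕ) = (a : ℕ) ^^^ 2 ^ (k' : ℕ) from fun h => hb (Fin.ext h)])
        (fun h => absurd (Finset.mem_univ _) h)]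
      have e1 : ((a : ℕ) ^^^ 2 ^ (k' : ℕ)) % 4 = (a : ℕ) % 4 ^^^ 2 ^ (k : ℕ) ∧
          (((a : ℕ) ^^^ 2 ^ (k' : ℕ)) < 4 ↔ (a : ℕ) < 4) := by
        rw [← hk]
        exact xor_low k a
      have hlt4 : (a : ℕ) % 4 ^^^ 2 ^ (k : ℕ) < 2 ^ 2 :=
        Nat.xor_lt_two_pow (Nat.mod_lt _ (by norm_num)) (Nat.pow_lt_pow_right (by norm_num) k.2)
      show x (Pi.single k 1) • x (bits 2 (lo a)) • _ = _
      rw [← mul_smul, ← hxa, ← bits_xor 2 (lo a) k hlt4]
      simp [permGen, e, lo, e1.1, e1.2]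
    have hq : ∀ q : A, q ∈ F.Q → ∀ (u : Fin 2 → ZMod 2) (v : V), q • x u • v = x u • q • v :=
        fun q hq u v => by
      rw [← mul_smul, ← (F.cXQ _ (hxX u) q hq).eq, mul_smul]
    simp only [List.mem_cons, List.not_mem_nil, or_false]
    rintro t (rfl | rfl | rfl | rfl | rfl | rfl)
    exacts [hdiag 0 0 rfl, hdiag 1 1 rfl, hperm 0 0 rfl, hperm 1 1 rfl,
      fun a => by
        show i • x _ • _ = _
        rw [hq i hi]
        fin_cases a <;> simp [Fin.sum_univ_eight, quatI, e, lo, hiw, smul_neg, neg_smul],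
      fun a => by
        show j • x _ • _ = _
        rw [hq j hj]
        fin_cases a <;> simp [Fin.sum_univ_eight, quatJ, e, lo, hjw, hjiw, smul_add, smul_sub, sub_eq_add_neg]]
  · intro b hb
    obtain ⟨x', hx', m', hm', q, hq', rfl⟩ := F.dec D b hb
    obtain ⟨u, rfl⟩ := hxs x' hx'
    obtain ⟨v, z, hz, rfl⟩ := hMdec m' hm'
    obtain ⟨z', hz', hqc⟩ := hQ q hq'
    obtain ⟨s, t, hst⟩ : ∃ s t : Bool, q = z' * ((if s then i else 1) * (if t then j else 1)) := by
      rcases hqc with rfl | rfl | rfl | rfl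
      exacts [⟨false, false, by simp⟩, ⟨true, false, by simp⟩, ⟨false, true, by simp⟩, ⟨true, true, by simp⟩]
    set P := ((List.finRange 2).map fun k => if v k = 1 then m k else 1).prod with hP
    have hPB : P ∈ D.B := list_prod_mem fun t ht => by
      obtain ⟨k, -, rfl⟩ := List.mem_map.1 ht
      split
      exacts [F.M_le (hm k).1, one_mem _]
    have hxB : x u ∈ D.B := F.X_le (hxX u)
    refine ⟨⁅x u, P⁆ * z * z', mul_mem (mul_mem (D.comm _ hxB _ hPB) hz) hz',
      [decide (v 0 = 1), decide (v 1 = 1), decide (u 0 = 1), decide (u 1 = 1), s, t], rfl, ?_⟩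
    have e1 : x u * (z * P) * q = ⁅x u, P⁆ * z * z' * (P * x u * ((if s then i else 1) * (if t then j else 1))) := by
      rw [hst]
      set r := (if s then i else 1) * (if t then j else 1)
      calc x u * (z * P) * (z' * r) = z * (x u * P) * (z' * r) := by
            rw [← mul_assoc (x u), (D.cent _ hxB z hz).eq]; simp only [mul_assoc]
        _ = z * (⁅x u, P⁆ * (P * x u)) * (z' * r) := by congr 2; rw [commutatorElement_def]; group
        _ = z * ⁅x u, P⁆ * ((P * x u) * z') * r := by simp only [mul_assoc]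
        _ = ⁅x u, P⁆ * z * (z' * (P * x u)) * r := by
            rw [K.comm _ hz _ (D.comm _ hxB _ hPB), (D.cent _ (mul_mem hPB hxB) z' hz').eq]
        _ = _ := by simp only [mul_assoc]
    rw [e1, hP, x_list hxa u]
    simp [List.finRange_succ, mul_assoc]
  · intro a
    by_cases ha : (a : ℕ) < 4
    · exact ⟨x (bits 2 (lo a)), F.X_le (hxX _), by simp [e, ha]⟩
    · exact ⟨x (bits 2 (lo a)) * i, mul_mem (F.X_le (hxX _)) hiB, by simp [e, ha, mul_smul]⟩
  · intro T hT c hc0 hcT
    obtain ⟨u, hu⟩ : ∃ u, d c u ≠ 0 := by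
      by_contra hcon
      push Not at hcon
      exact hc0 (hd0 c hcon)
    rw [hre] at hcT
    have h1 := component D F T hT hxX hm hc (d c) (hdE c) hcT u
    have h2 : d c u ∈ T := by
      have h3 := hT _ (inv_mem (F.X_le (hxX u))) _ h1
      rw [show (x u)⁻¹ • ((2 ^ 2 : ℕ) • x u • d c u) = (2 ^ 2 : ℕ) • d c u from
        (map_nsmul (DistribMulAction.toAddMonoidHom V (x u)⁻¹) _ _).trans
          (congrArg _ (inv_smul_smul (x u) (d c u)))] at h3
      have e4 : (2 ^ 2 : ℕ) • d c u = d c u := by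
        rw [show (2 ^ 2 : ℕ) = 3 + 1 from rfl, add_nsmul, hp, zero_add, one_nsmul]
      rwa [e4] at h3
    obtain ⟨k, hk, hkw⟩ := hquat c u hu
    have h4 : k • F.w ∈ T := hkw ▸ sub_mem (zsmul_mem T _ h2) (zsmul_mem T _ (hT i hiB _ h2))
    have h5 := zsmul_mem T k⁻¹ h4
    rwa [smul_smul, inv_mul_cancel₀ hk, one_smul] at h5

end

end Cfsg.Agent.TwoVecModelGlue95
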