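import Mathlib
import Cfsg.Agent.Lib.TwoVecConj75
import Cfsg.Agent.Lib.ThreeVec75TwoDefs

/-!
Pinning the scalars and the quaternion residue, and small facts for the dispatch.
-/

set_option autoImplicit false
set_option linter.style.haveILetI false

namespace Cfsg.Agent.ThreeVec75

universe u v

open scoped commutatorElement

variable {A : Type v} {V : Type u} [Group A] [AddCommGroup V] [DistribMulAction A V]
  [FaithfulSMul A V] [Finite A] {K : Core A V} (D : Bd K) (F : Frame K D.B)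

include D

theorem commute_scalars {g : A} (h : g * K.ω * g⁻¹ = K.ω) : ∀ z ∈ K.U, Commute g z := by
  intro z hz
  obtain ⟨k, rfl⟩ := K.ω_gen z hz
  exact (show Commute g K.ω from mul_inv_eq_iff_eq_mul.1 h).pow_right k

/-- Fixing `ω • w` fixes all scalars. -/
theorem pin_scalar (hQ : F.Q = K.U) (g : A) (hg : g • F.w = F.w) (h : g • K.ω • F.w = K.ω • F.w) :
    (∀ z ∈ K.U, Commute g z) ∧ ∀ q ∈ F.Q, g • q • F.w = q • F.w := by
  have hU : ∀ z ∈ K.U, Commute g z := commute_scalars D (K.free _ (K.normal.conj_mem _ K.ω_mem g) _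
    K.ω_mem _ F.w_ne (by rw [mul_smul, mul_smul, inv_smul_eq_iff.2 hg.symm, h]))
  refine ⟨hU, fun q hq => ?_⟩
  rw [hQ] at hq
  rw [← mul_smul, (hU q hq).eq, mul_smul, hg]

/-- Fixing `i ω • w` fixes the scalars and the quaternion residue. -/
theorem pin_quat [Nontrivial V] {i j : A} (hi : i ∈ F.Q) (hii : i * i = K.ε)
    (hns : ∀ z ∈ K.U, z * z ≠ K.ε)
    (hcov : ∀ q ∈ F.Q, ∃ z ∈ K.U, q = z ∨ q = z * i ∨ q = z * j ∨ q = z * (i * j))
    {a b : ℕ} (hj : j • F.w = a • F.w + b • i • F.w)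
    (g : A) (hg : g • F.w = F.w) (h : g • (i * K.ω) • F.w = (i * K.ω) • F.w) :
    (∀ z ∈ K.U, Commute g z) ∧ ∀ q ∈ F.Q, g • q • F.w = q • F.w := by
  obtain ⟨m, hm, q0, hq0, e0⟩ := F.conj_MQ D hg hi
  obtain ⟨z, hz, hzw⟩ := F.eig m hm
  have hgi : g⁻¹ • F.w = F.w := inv_smul_eq_iff.2 hg.symm
  have hω' : g * K.ω * g⁻¹ ∈ K.U := K.normal.conj_mem _ K.ω_mem g
  set ω' := g * K.ω * g⁻¹ with hωdef
  have hgε : g * K.ε * g⁻¹ = K.ε := eq_of_smul_eq_smul (α := V) fun v => by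
    rw [mul_smul, mul_smul, K.ε_smul, K.ε_smul, smul_neg, smul_inv_smul]
  have e1 : q0 * ω' * z = i * K.ω := by
    refine F.Q_free D _ (mul_mem (mul_mem hq0 (F.U_Q hω')) (F.U_Q hz)) _
      (mul_mem hi (F.U_Q K.ω_mem)) ?_
    rw [← F.smul_w_mq D hm (mul_mem hq0 (F.U_Q hω')) hz hzw, ← h, ← mul_assoc, ← e0,
      show g * i * g⁻¹ * ω' = g * (i * K.ω) * g⁻¹ by rw [hωdef]; group, mul_smul, hgi, mul_smul]
  set u := K.ω * (ω' * z)⁻¹ with hudef
  have hu : u ∈ K.U := mul_mem K.ω_mem (inv_mem (mul_mem hω' hz))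
  have eq0 : q0 = i * u := by
    rw [hudef, ← mul_assoc, ← e1, mul_assoc q0, mul_inv_cancel_right]
  have hzu : (z * u) * (z * u) = 1 := by
    have hsq : m * q0 * (m * q0) = K.ε := by rw [← e0, ← hgε, ← hii]; group
    have hcq : Commute m q0 := F.cMQ m hm q0 hq0
    have hcu : Commute i u := D.cent i (F.Q_le hi) u hu
    have h2 : m * m * (u * u) = 1 := by
      have : m * m * (q0 * q0) = K.ε := by
        rw [← hsq, mul_assoc m q0, ← mul_assoc q0 m, ← hcq.eq]; simp only [mul_assoc]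
      rw [eq0, mul_assoc i u, ← mul_assoc u i, ← hcu.eq, mul_assoc i u, ← mul_assoc i i, hii,
        ← mul_assoc (m * m), (D.cent _ (mul_mem (F.M_le hm) (F.M_le hm)) _ K.ε_mem).eq,
        mul_assoc] at this
      exact mul_eq_left.1 this
    refine K.fix_eq_one (mul_mem (mul_mem hz hu) (mul_mem hz hu)) F.w_ne ?_
    have hzu' : Commute z u := K.comm z hz u hu
    rw [show (z * u) * (z * u) = (u * u) * (z * z) by
      rw [mul_assoc z u, ← mul_assoc u z, ← hzu'.eq, mul_assoc z u, ← mul_assoc z z,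
        K.comm _ (mul_mem hz hz) _ (mul_mem hu hu)], mul_smul]
    have hmm : (z * z) • F.w = (m * m) • F.w := by
      rw [mul_smul, mul_smul, hzw, ← mul_smul m, (D.cent m (F.M_le hm) z hz).eq, mul_smul, hzw]
    rw [hmm, ← mul_smul, ← (D.cent _ (mul_mem (F.M_le hm) (F.M_le hm)) _ (mul_mem hu hu)).eq, h2, one_smul]
  have hv : z * u = K.ω * ω'⁻¹ := by
    rw [hudef, mul_inv_rev, ← mul_assoc K.ω, ← mul_assoc z, ← mul_assoc z, K.comm z hz _ K.ω_mem,
      mul_assoc K.ω, mul_inv_cancel, mul_one]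
  have hω1 : ω' = K.ω := by
    rcases K.sq_one (mul_mem hz hu) hzu with h' | h'
    · rw [hv] at h'; exact (mul_inv_eq_one.1 h').symm
    exfalso
    have hω'' : K.ω = K.ε * ω' := by rw [← h', hv, inv_mul_cancel_right]
    obtain ⟨e', he'⟩ := K.ω_gen _ K.ε_mem
    have hodd : e' % 2 = 1 := by
      by_contra hne
      exact hns _ (pow_mem K.ω_mem (e' / 2))
        (by rw [← pow_add, show e' / 2 + e' / 2 = e' by omega, he'])
    have hc : Commute K.ε ω' := K.comm _ K.ε_mem _ hω'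
    have h1 : K.ω ^ e' = K.ε ^ e' * ω' ^ e' := by
      conv_lhs => rw [hω'']
      exact hc.mul_pow e'
    rw [show ω' ^ e' = K.ε by rw [hωdef, conj_pow, he', hgε], he'] at h1
    have h2 : K.ε ^ e' = K.ε := by
      rw [← Nat.div_add_mod e' 2, hodd, pow_add, pow_mul, pow_two, K.ε_sq, one_pow, one_mul, pow_one]
    rw [h2, K.ε_sq] at h1
    exact hns 1 (one_mem _) (by rw [one_mul, h1])
  have hU := commute_scalars D (g := g) hω1
  have hzu1 : z * u = 1 := by rw [hv, hω1, mul_inv_cancel]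
  have hgiw : g • i • F.w = i • F.w := by
    rw [← mul_smul, show g * i = g * i * g⁻¹ * g by group, mul_smul, hg, e0,
      F.smul_w_mq D hm hq0 hz hzw, eq0, mul_assoc, K.comm u hu z hz, hzu1, mul_one]
  have hgz : ∀ z' ∈ K.U, ∀ v : V, g • z' • v = z' • g • v := fun z' hz' v => by
    rw [← mul_smul, (hU z' hz').eq, mul_smul]
  have hgn : ∀ (n : ℕ) (v : V), g • n • v = n • g • v := fun n v => smul_comm g n v
  have hgjw : g • j • F.w = j • F.w := by rw [hj, smul_add, hgn, hgn, hg, hgiw]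
  have hgijw : g • (i * j) • F.w = (i * j) • F.w := by
    have e : (i * j) • F.w = a • i • F.w + b • K.ε • F.w := by
      rw [mul_smul, hj, smul_add, smul_comm i a, smul_comm i b, ← mul_smul i i, hii]
    rw [e, smul_add, hgn, hgn, hgiw, hgz _ K.ε_mem, hg]
  refine ⟨hU, fun q hq => ?_⟩
  obtain ⟨z', hz', rfl | rfl | rfl | rfl⟩ := hcov q hq
  · rw [hgz _ hz', hg]
  · rw [mul_smul z', hgz _ hz', hgiw]
  · rw [mul_smul z', hgz _ hz', hgjw]
  · rw [mul_smul z', hgz _ hz', hgijw]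

/-- A prime with nontrivial torsion in `X` divides the number of scalars. -/
theorem prime_dvd_scalars {r : ℕ} (hr : r.Prime) {x : A} (hx : x ∈ F.X) (hxr : x ^ r = 1) (hx1 : x ≠ 1) :
    r ∣ Nat.card K.U := by
  obtain ⟨m, hm, hne⟩ : ∃ m ∈ F.M, ¬ Commute x m := by
    by_contra h; push Not at h; exact hx1 (F.hXM x hx h)
  haveI := Fact.mk hr
  have hb := D.comm x (F.X_le hx) m (F.M_le hm)
  have h1 := D.comm_one_of_pow (F.X_le hx) (F.M_le hm) (by rw [hxr]; exact one_mem _ : x ^ r ∈ K.U)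
  have ho : orderOf ⁅x, m⁆ = r :=
    orderOf_eq_prime h1 fun h => hne (commutatorElement_eq_one_iff_commute.1 h)
  rw [← ho]
  exact K.U.orderOf_dvd_natCard hb

end Cfsg.Agent.ThreeVec75
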