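import Mathlib
import Cfsg.Agent.Lib.TwoVecFrame75

/-!
Normal form of a frame with quaternion residue.
-/

set_option autoImplicit false
set_option linter.style.haveILetI false

namespace Cfsg.Agent.ThreeVec75

universe u v

open scoped commutatorElement

variable {A : Type v} {V : Type u} [Group A] [AddCommGroup V] [DistribMulAction A V]
  {K : Core A V} (D : Bd K)

theorem smul_nsmul_eq (g : A) (n : ℕ) (x : V) : g • (n • x) = n • (g • x) :=
  map_nsmul (DistribSMul.toAddMonoidHom V g) n x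

theorem nsmul_eig (F : Frame K D.B) (n : ℕ) {x : V} (hx : x ∈ F.eigSet D) : n • x ∈ F.eigSet D := by
  induction n with
  | zero => rw [zero_smul]; exact F.zero_eig D
  | succ n ih => rw [succ_nsmul]; exact F.add_eig D ih hx

/-- A quaternion pair in `Q` covers `Q` modulo scalars. -/
theorem quat_cover [FaithfulSMul A V] [Nontrivial V] (F : Frame K D.B) {i j : A} (hi : i ∈ F.Q) (hj : j ∈ F.Q)
    (hii : i * i = K.ε) (hjj : j * j = K.ε) (hne : ¬ Commute i j)
    (hgen : ∀ g : A, (∀ z ∈ K.U, Commute g z) → Commute g i → Commute g j → ∀ q ∈ F.Q, Commute g q) :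
    i * j = K.ε * (j * i) ∧ ∀ q ∈ F.Q, ∃ z ∈ K.U, q = z ∨ q = z * i ∨ q = z * j ∨ q = z * (i * j) := by
  have hiB := F.Q_le hi
  have hjB := F.Q_le hj
  have two : ∀ a ∈ D.B, ∀ c ∈ D.B, c * c = K.ε → ⁅a, c⁆ = 1 ∨ ⁅a, c⁆ = K.ε := by
    intro a ha c hc hcc
    refine K.sq_one (D.comm a ha c hc) ?_
    rw [← pow_two]
    exact D.comm_right_one_of_pow ha hc (by rw [pow_two, hcc]; exact K.ε_mem)
  have hne' : ⁅i, j⁆ ≠ 1 := fun h => hne (commutatorElement_eq_one_iff_commute.1 h)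
  have hij : ⁅i, j⁆ = K.ε := (two i hiB j hjB hjj).resolve_left hne'
  have hji : ⁅j, i⁆ = K.ε :=
    (two j hjB i hiB hii).resolve_left fun h =>
      hne (commutatorElement_eq_one_iff_commute.1 h).symm
  refine ⟨?_, fun q hq => ?_⟩
  · conv_rhs => rw [← hij]
    simp [commutatorElement_def, mul_assoc]
  have hqB := F.Q_le hq
  have inU : ∀ t ∈ F.Q, ⁅t, i⁆ = 1 → ⁅t, j⁆ = 1 → t ∈ K.U := by
    intro t ht h1 h2
    have htB := F.Q_le ht
    refine D.self t (fun z hz => D.cent t htB z hz) fun c hc => ?_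
    obtain ⟨x, hx, m, hm, q', hq', rfl⟩ := F.dec D c hc
    exact (((F.cXQ x hx t ht).symm).mul_right (F.cMQ m hm t ht).symm).mul_right
      (hgen t (fun z hz => D.cent t htB z hz) (commutatorElement_eq_one_iff_commute.1 h1)
        (commutatorElement_eq_one_iff_commute.1 h2) q' hq')
  have hεε : K.ε * K.ε = 1 := K.ε_sq
  have hci : Commute i K.ε := D.cent i hiB _ K.ε_mem
  have hcj : Commute j K.ε := D.cent j hjB _ K.ε_mem
  have hinv : ∀ c : A, c * c = K.ε → Commute c K.ε → c * (K.ε * c) = 1 := fun c h hc => by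
    rw [← mul_assoc, hc.eq, mul_assoc, h, hεε]
  have hiinv : i⁻¹ = K.ε * i := inv_eq_of_mul_eq_one_right (hinv i hii hci)
  have hjinv : j⁻¹ = K.ε * j := inv_eq_of_mul_eq_one_right (hinv j hjj hcj)
  rcases two q hqB i hiB hii with h1 | h1 <;> rcases two q hqB j hjB hjj with h2 | h2
  · exact ⟨q, inU q hq h1 h2, Or.inl rfl⟩
  · have hm := inU (q * i) (mul_mem hq hi)
      (by rw [D.comm_mul_left hqB hiB hiB, h1, commutatorElement_self, one_mul])
      (by rw [D.comm_mul_left hqB hiB hjB, h2, hij, hεε])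
    refine ⟨q * i * K.ε, mul_mem hm K.ε_mem, Or.inr (Or.inl ?_)⟩
    rw [mul_assoc (q * i), ← hiinv, mul_inv_cancel_right]
  · have hm := inU (q * j) (mul_mem hq hj)
      (by rw [D.comm_mul_left hqB hjB hiB, h1, hji, hεε])
      (by rw [D.comm_mul_left hqB hjB hjB, h2, commutatorElement_self, one_mul])
    refine ⟨q * j * K.ε, mul_mem hm K.ε_mem, Or.inr (Or.inr (Or.inl ?_))⟩
    rw [mul_assoc (q * j), ← hjinv, mul_inv_cancel_right]
  · have hm := inU (q * j * i) (mul_mem (mul_mem hq hj) hi)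
      (by rw [D.comm_mul_left (mul_mem hqB hjB) hiB hiB, D.comm_mul_left hqB hjB hiB, h1, hji, hεε,
        commutatorElement_self, one_mul])
      (by rw [D.comm_mul_left (mul_mem hqB hjB) hiB hjB, D.comm_mul_left hqB hjB hjB, h2, hij,
        commutatorElement_self, mul_one, hεε])
    refine ⟨q * j * i, hm, Or.inr (Or.inr (Or.inr ?_))⟩
    calc q = q * j * i * (i⁻¹ * j⁻¹) := by group
      _ = q * j * i * (i * j) := by
        rw [hiinv, hjinv]
        congr 1
        rw [← mul_assoc, mul_assoc K.ε i, hci.eq, ← mul_assoc, hεε, one_mul]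

variable [Finite A] [Finite V] [FaithfulSMul A V] [Nontrivial V] (p : ℕ) [Fact p.Prime]

/-- A frame with quaternion residue can be chosen with the partner of the distinguished vector in a
two dimensional normal form. -/
theorem exists_quat_frame (hp : ∀ v : V, p • v = 0) (F : Frame K D.B) (hQ : F.Q ≠ K.U) :
    p ≠ 2 ∧ ∃ F' : Frame K D.B, F'.X = F.X ∧ F'.M = F.M ∧ F'.Q = F.Q ∧
      ∃ i ∈ F.Q, ∃ j ∈ F.Q, i * i = K.ε ∧ j * j = K.ε ∧ ¬ Commute i j ∧
        (∀ z ∈ K.U, z * z ≠ K.ε) ∧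
        (∀ q ∈ F.Q, ∃ z ∈ K.U, q = z ∨ q = z * i ∨ q = z * j ∨ q = z * (i * j)) ∧
        ∃ a b : ℕ, j • F'.w = a • F'.w + b • i • F'.w ∧
          (p = 3 → Nat.card K.U = 2 → a = 1 ∧ b = 1) := by
  obtain ⟨i, hi, j, hj, hii, hjj, hne, hns, -, hgen⟩ := F.hQ.resolve_left hQ
  have hεε : K.ε * K.ε = 1 := K.ε_sq
  have hp2 : p ≠ 2 := by
    rintro rfl
    refine hns 1 (one_mem _) ?_
    rw [one_mul]
    refine (eq_of_smul_eq_smul (α := V) fun x => ?_).symm
    rw [K.ε_smul, one_smul, neg_eq_iff_add_eq_zero, ← two_nsmul, hp x]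
  refine ⟨hp2, ?_⟩
  obtain ⟨a, b, hab, h3⟩ : ∃ a b : ℕ, p ∣ a * a + b * b + 1 ∧ (p = 3 → a = 1 ∧ b = 1) := by
    by_cases h : p = 3
    · exact ⟨1, 1, by rw [h], fun _ => ⟨rfl, rfl⟩⟩
    obtain ⟨x, y, hxy⟩ := ZMod.sq_add_sq p (-1)
    refine ⟨x.val, y.val, (CharP.cast_eq_zero_iff (ZMod p) p _).1 ?_ , fun h' => absurd h' h⟩
    push_cast
    rw [ZMod.natCast_zmod_val, ZMod.natCast_zmod_val]
    linear_combination hxy
  have hsum : (a * a + b * b + 1) • F.w = 0 := by
    obtain ⟨c, hc⟩ := hab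
    rw [hc, mul_comm, mul_smul, hp, smul_zero]
  obtain ⟨hanti, hcov⟩ := quat_cover D F hi hj hii hjj hne hgen
  have hI : ∀ x : V, i • i • x = -x := fun x => by rw [← mul_smul, hii, K.ε_smul]
  have hJ : ∀ x : V, j • j • x = -x := fun x => by rw [← mul_smul, hjj, K.ε_smul]
  have hA : ∀ x : V, j • i • x = -(i • j • x) := fun x => by
    rw [← mul_smul i j, hanti, mul_smul, K.ε_smul, neg_neg, ← mul_smul]
  let w' : V := j • F.w - b • (i • F.w) + a • F.w
  by_cases hw : w' = 0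
  · refine ⟨F, rfl, rfl, rfl, K.ε * i, mul_mem (F.U_Q K.ε_mem) hi, K.ε * j,
      mul_mem (F.U_Q K.ε_mem) hj, ?_, ?_, ?_, hns, ?_, a, b, ?_, fun h _ => h3 h⟩
    · rw [mul_assoc, ← mul_assoc i, (D.cent i (F.Q_le hi) _ K.ε_mem).eq, mul_assoc, hii, hεε, mul_one]
    · rw [mul_assoc, ← mul_assoc j, (D.cent j (F.Q_le hj) _ K.ε_mem).eq, mul_assoc, hjj, hεε, mul_one]
    · intro h
      apply hne
      have e : ∀ c : A, c = K.ε * (K.ε * c) := fun c => by rw [← mul_assoc, hεε, one_mul]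
      have hc : ∀ c ∈ F.Q, Commute K.ε c := fun c hc => (D.cent c (F.Q_le hc) _ K.ε_mem).symm
      rw [e i, e j]
      exact ((Commute.refl K.ε).mul_right (hc _ (mul_mem (F.U_Q K.ε_mem) hj))).mul_left
        (((hc _ (mul_mem (F.U_Q K.ε_mem) hi)).symm).mul_right h)
    · intro q hq
      obtain ⟨z, hz, h | h | h | h⟩ := hcov q hq
      · exact ⟨z, hz, Or.inl h⟩
      · refine ⟨z * K.ε, mul_mem hz K.ε_mem, Or.inr (Or.inl ?_)⟩
        rw [h, mul_assoc z, ← mul_assoc K.ε, hεε, one_mul]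
      · refine ⟨z * K.ε, mul_mem hz K.ε_mem, Or.inr (Or.inr (Or.inl ?_))⟩
        rw [h, mul_assoc z, ← mul_assoc K.ε, hεε, one_mul]
      · refine ⟨z, hz, Or.inr (Or.inr (Or.inr ?_))⟩
        rw [h, mul_assoc K.ε i, ← mul_assoc i K.ε, (D.cent i (F.Q_le hi) _ K.ε_mem).eq, mul_assoc K.ε i,
          ← mul_assoc K.ε K.ε, hεε, one_mul]
    · simp only [mul_smul, K.ε_smul, smul_neg]
      simp only [w'] at hw
      generalize j • F.w = J, i • F.w = I at hw ⊢
      linear_combination (norm := module) -hw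
  · have hwE : w' ∈ F.eigSet D :=
      F.add_eig D (F.sub_eig D (F.smul_eig D j hj _ (F.w_eig D))
        (nsmul_eig D F b (F.smul_eig D i hi _ (F.w_eig D)))) (nsmul_eig D F a (F.w_eig D))
    refine ⟨{ F with
        w := w'
        w_ne := hw
        eig := fun m hm => ?_ }, rfl, rfl, rfl, i, hi, j, hj, hii, hjj, hne, hns, hcov, a, b, ?_,
      fun h _ => h3 h⟩
    · obtain ⟨z, hz, hzw⟩ := F.eig m hm
      exact ⟨z, hz, hwE m hm z hz hzw⟩
    · show j • w' = a • w' + b • i • w'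
      simp only [w', smul_add, smul_sub, smul_nsmul_eq, hI, hJ, hA]
      rw [add_smul, add_smul, one_smul, mul_smul, mul_smul] at hsum
      generalize j • F.w = J, i • F.w = I, i • j • F.w = L
      linear_combination (norm := module) -hsum

end Cfsg.Agent.ThreeVec75
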