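import Mathlib
import Cfsg.Agent.Lib.TwoVecConj75
import Cfsg.Agent.Lib.TwoVecQuatFrame53
import Cfsg.Agent.Lib.ThreeVec75TwoDefs

/-!
Two vectors for a frame with quaternion residue, eight translations and scalars of order two.
-/

set_option autoImplicit false
set_option linter.style.haveILetI false

namespace Cfsg.Agent.ThreeVec75

universe u v

open scoped commutatorElement

/-- A rigid colouring of eight points by quaternions, up to twisted maps. -/
def QuatThree : Prop :=
  ∃ C : (Fin 3 → ZMod 2) → Option (QuaternionGroup 2),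
    ∀ σ : (Fin 3 → ZMod 2) →+ (Fin 3 → ZMod 2), Function.Injective σ →
    ∀ (φ : (Fin 3 → ZMod 2) → QuaternionGroup 2)
      (β : (Fin 3 → ZMod 2) → (Fin 3 → ZMod 2) → ZMod 2),
      (∀ a b c, β (a + b) c = β a c + β b c) → (∀ a b c, β a (b + c) = β a b + β a c) →
      φ 0 = 1 →
      (∀ a b, φ (a + b) = φ a * φ b * (if β a b = 0 then 1 else QuaternionGroup.a 2)) →
      (∀ x, C (σ x) = (C x).map (φ x * ·)) → ∀ x, σ x = x ∧ φ x = 1

/-- The homomorphism from the quaternion group given by two generators. -/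
def quatHom {A : Type v} [Group A] (i j : A) (h4 : i ^ 4 = 1) (hij : i * j = j * i⁻¹)
    (hjj : j * j = i ^ 2) : QuaternionGroup 2 →* A :=
  have e : ∀ m n : ZMod 4, i ^ (m + n).val = i ^ m.val * i ^ n.val := fun m n => by
    rw [ZMod.val_add, ← pow_add, ← pow_eq_pow_mod _ h4]
  have hneg : ∀ n : ℕ, i ^ n * j = j * (i ^ n)⁻¹ := by
    intro n
    induction n with
    | zero => simp
    | succ n ih =>
      rw [pow_succ', mul_assoc, ih, ← mul_assoc, hij, mul_assoc, ← mul_inv_rev, ← pow_succ, pow_succ']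
  have esub : ∀ m n : ZMod 4, i ^ (n - m).val = (i ^ m.val)⁻¹ * i ^ n.val := fun m n => by
    rw [eq_inv_mul_iff_mul_eq, ← e, add_sub_cancel]
  { toFun := fun q => match q with
      | .a k => i ^ k.val
      | .xa k => j * i ^ k.val
    map_one' := pow_zero i
    map_mul' := fun q r => by
      cases q with
      | a m => cases r with
        | a n => exact e m n
        | xa n =>
          show j * i ^ (n - m).val = i ^ m.val * (j * i ^ n.val)
          rw [esub, ← mul_assoc, ← hneg, mul_assoc]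
      | xa m => cases r with
        | a n =>
          show j * i ^ (m + n).val = j * i ^ m.val * i ^ n.val
          rw [e, mul_assoc]
        | xa n =>
          show i ^ ((2 : ℕ) + n - m : ZMod 4).val = j * i ^ m.val * (j * i ^ n.val)
          rw [esub, e, mul_assoc j (i ^ m.val), ← mul_assoc (i ^ m.val) j, hneg, ← mul_assoc,
            ← mul_assoc, ← mul_assoc j j, hjj]
          have hc : Commute (i ^ m.val)⁻¹ (i ^ 2) :=
            ((Commute.refl i).pow_pow m.val 2).inv_left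
          rw [show ((2 : ℕ) : ZMod 4).val = 2 from rfl, hc.eq] }

variable {A : Type v} {V : Type u} [Group A] [AddCommGroup V] [DistribMulAction A V]
  {K : Core A V} (D : Bd K)

/-- Two vectors in the case of three translations and a quaternion residue over three elements. -/
theorem good2_quat_three [Finite A] [Finite V] [FaithfulSMul A V] [Nontrivial V]
    (F : Frame K D.B) (hp : ∀ v : V, 3 • v = 0) (hU : Nat.card K.U = 2)
    (hX : ∀ x ∈ F.X, x * x = 1) (hn : Nat.card F.X = 8) (hQ : F.Q ≠ K.U) (hq : QuatThree) :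
    Good2 A V := by
  classical
  haveI := Fact.mk Nat.prime_three
  obtain ⟨-, F', eX, eM, eQ, i, hi, j, hj, hii, hjj, hne, -, hcov, na, nb, hjw, hab⟩ :=
    exists_quat_frame D 3 hp F hQ
  obtain ⟨rfl, rfl⟩ := hab rfl hU
  rw [one_smul, one_smul] at hjw
  rw [← eX] at hX hn
  rw [← eQ] at hi hj hcov
  clear eX eM eQ hQ F
  obtain ⟨C, hC⟩ := hq
  have hεε : K.ε * K.ε = 1 := K.ε_sq
  have hne1 : K.ε ≠ 1 := by
    intro h
    obtain ⟨x, hx⟩ := exists_ne (0 : V)
    have e := K.ε_smul x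
    rw [h, one_smul, eq_neg_iff_add_eq_zero, ← two_nsmul] at e
    have h3 := hp x
    rw [succ_nsmul, e, zero_add] at h3
    exact hx h3
  have hU2 : ∀ z ∈ K.U, z = 1 ∨ z = K.ε := by
    intro z hz
    by_cases h1 : z = 1
    · exact Or.inl h1
    obtain ⟨e, -, he⟩ := (Nat.card_eq_two_iff' (1 : K.U)).1 hU
    have e1 := he ⟨z, hz⟩ (fun h => h1 (congrArg Subtype.val h))
    have e2 := he ⟨K.ε, K.ε_mem⟩ (fun h => hne1 (congrArg Subtype.val h))
    exact Or.inr (congrArg Subtype.val (e1.trans e2.symm))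
  obtain ⟨hanti, -⟩ := quat_cover D F' hi hj hii hjj hne (by
    intro g gU gi gj q hq'
    obtain ⟨z, hz, rfl | rfl | rfl | rfl⟩ := hcov q hq'
    · exact gU _ hz
    · exact (gU z hz).mul_right gi
    · exact (gU z hz).mul_right gj
    · exact (gU z hz).mul_right (gi.mul_right gj))
  have hci : Commute i K.ε := D.cent i (F'.Q_le hi) _ K.ε_mem
  have hcj : Commute j K.ε := D.cent j (F'.Q_le hj) _ K.ε_mem
  have h4 : i ^ 4 = 1 := by rw [show 4 = 2 * 2 by norm_num, pow_mul, pow_two i, hii, pow_two, hεε]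
  have hiinv : i⁻¹ = i * K.ε := inv_eq_of_mul_eq_one_right (by rw [← mul_assoc, hii, hεε])
  let ψ : QuaternionGroup 2 →* A := quatHom i j h4
    (by rw [hanti, hiinv, ← mul_assoc, ← mul_assoc, ← hcj.eq, mul_assoc j, ← hci.eq, ← mul_assoc])
    (by rw [pow_two, hii, hjj])
  have ψa : ∀ k : ZMod 4, ψ (QuaternionGroup.a k) = i ^ k.val := fun k => rfl
  have ψxa : ∀ k : ZMod 4, ψ (QuaternionGroup.xa k) = j * i ^ k.val := fun k => rfl
  have ψε : ψ (QuaternionGroup.a 2) = K.ε := by
    rw [ψa, show (2 : ZMod 4).val = 2 from rfl, pow_two, hii]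
  have hψQ : ∀ q, ψ q ∈ F'.Q := fun q => by
    cases q with
    | a k => rw [ψa]; exact pow_mem hi _
    | xa k => rw [ψxa]; exact mul_mem hj (pow_mem hi _)
  have hψinj : Function.Injective ψ := by
    rw [injective_iff_map_eq_one]
    intro q hq'
    cases q with
    | a k =>
      rw [ψa] at hq'
      have hi1 : i ≠ 1 := fun h => hne (h ▸ Commute.one_left j)
      have h2 : i ^ 2 ≠ 1 := by rw [pow_two, hii]; exact hne1
      obtain rfl | rfl | rfl | rfl :=
        (show ∀ l : ZMod 4, l = 0 ∨ l = 1 ∨ l = 2 ∨ l = 3 by decide) k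
      · rfl
      · exact absurd (by simpa [show (1 : ZMod 4).val = 1 from rfl] using hq') hi1
      · exact absurd hq' h2
      · refine absurd ?_ hi1
        rw [show (3 : ZMod 4).val = 3 from rfl] at hq'
        calc i = i * i ^ 3 := by rw [hq', mul_one]
          _ = 1 := by rw [← pow_succ', h4]
    | xa k =>
      rw [ψxa] at hq'
      refine absurd ?_ hne
      rw [eq_inv_of_mul_eq_one_left hq']
      exact ((Commute.refl i).pow_right _).inv_right
  have hψsurj : ∀ q ∈ F'.Q, ∃ r, ψ r = q := by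
    intro q hq'
    have hi' : i ∈ ψ.range := ⟨QuaternionGroup.a 1, by rw [ψa, show (1 : ZMod 4).val = 1 from rfl, pow_one]⟩
    have hj' : j ∈ ψ.range := ⟨QuaternionGroup.xa 0, by rw [ψxa, ZMod.val_zero, pow_zero, mul_one]⟩
    have hz' : ∀ z ∈ K.U, z ∈ ψ.range := fun z hz => by
      rcases hU2 z hz with rfl | rfl
      · exact one_mem _
      · exact ⟨_, ψε⟩
    obtain ⟨z, hz, rfl | rfl | rfl | rfl⟩ := hcov q hq'
    · exact hz' _ hz
    · exact mul_mem (hz' z hz) hi'
    · exact mul_mem (hz' z hz) hj'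
    · exact mul_mem (hz' z hz) (mul_mem hi' hj')
  letI : CommGroup F'.X :=
    { (inferInstance : Group F'.X) with mul_comm := fun a b => Subtype.ext (F'.cX _ a.2 _ b.2) }
  letI : Module (ZMod 2) (Additive F'.X) := AddCommGroup.zmodModule (n := 2) fun x => by
    apply Additive.toMul.injective
    rw [toMul_nsmul, toMul_zero, pow_two]
    exact Subtype.ext (hX _ (Additive.toMul x).2)
  have hfr : Module.finrank (ZMod 2) (Additive F'.X) = 3 := by
    have e := Module.natCard_eq_pow_finrank (K := ZMod 2) (V := Additive F'.X)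
    rw [Nat.card_congr (Additive.toMul (α := F'.X)), hn, Nat.card_zmod] at e
    exact (Nat.pow_right_injective le_rfl (show 2 ^ 3 = _ from e)).symm
  let L := (Module.finBasisOfFinrankEq (ZMod 2) (Additive F'.X) hfr).equivFun
  let ex : (Fin 3 → ZMod 2) → F'.X := fun v => Additive.toMul (L.symm v)
  let iv : F'.X → (Fin 3 → ZMod 2) := fun x => L (Additive.ofMul x)
  have iv_ex : ∀ v, iv (ex v) = v := fun v => L.apply_symm_apply v
  have ex_iv : ∀ x, ex (iv x) = x := fun x => congrArg Additive.toMul (L.symm_apply_apply _)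
  have iv_mul : ∀ x y, iv (x * y) = iv x + iv y := fun x y => map_add L _ _
  have ex_add : ∀ a b, ex (a + b) = ex a * ex b := fun a b => congrArg Additive.toMul (map_add L.symm a b)
  have ex_zero : ex 0 = 1 := congrArg Additive.toMul (map_zero L.symm)
  let cQ : (Fin 3 → ZMod 2) → V := fun v => match C v with
    | none => 0
    | some q => ψ q • F'.w
  let d : F'.X → V := fun x => if x = 1 then i • F'.w else cQ (iv x)
  have hQE : ∀ q ∈ F'.Q, q • F'.w ∈ F'.eigSet D := fun q hq' => F'.smul_eig D q hq' _ (F'.w_eig D)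
  have hdform : ∀ x, d x = 0 ∨ ∃ q ∈ F'.Q, d x = q • F'.w := by
    intro x
    simp only [d]
    split_ifs
    · exact Or.inr ⟨i, hi, rfl⟩
    · cases hc : C (iv x) with
      | none => exact Or.inl (by simp only [cQ, hc])
      | some q => exact Or.inr ⟨ψ q, hψQ q, by simp only [cQ, hc]⟩
  have hdE : ∀ x, d x ∈ F'.eigSet D := fun x => by
    rcases hdform x with h | ⟨q, hq', h⟩ <;> rw [h]
    · exact F'.zero_eig D
    · exact hQE q hq'
  haveI : Fintype F'.X := Fintype.ofFinite _
  refine ⟨F'.w, ∑ x : F'.X, (x : A) • d x, fun g hg hgy => ?_⟩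
  have hgU : ∀ z ∈ K.U, Commute g z := fun z hz => by
    rcases hU2 z hz with rfl | rfl
    · exact Commute.one_right g
    · exact eq_of_smul_eq_smul (α := V) fun x => by
        rw [mul_smul, mul_smul, K.ε_smul, K.ε_smul, smul_neg]
  -- the image of a translated vector
  have himg : ∀ x : F'.X, ∃ t ∈ F'.Q, ∀ q ∈ F'.Q,
      g • (x : A) • q • F'.w = (F'.σX D g x : A) • t • (g • q • F'.w) := by
    intro x
    obtain ⟨m, hm, q₀, hq₀, e⟩ := F'.σX_spec D g x
    obtain ⟨z, hz, hzw⟩ := F'.eig m hm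
    refine ⟨q₀ * z, mul_mem hq₀ (F'.U_Q hz), fun q hq' => ?_⟩
    obtain ⟨q', hq'', e'⟩ := F'.conj_smul_w D hg hq'
    have e2 : g * (x : A) = F'.σX D g x * m * q₀ * g := by rw [← e, inv_mul_cancel_right]
    rw [← mul_smul g, e2, mul_smul, e', mul_smul (_ * m) q₀, mul_smul _ m, ← mul_smul q₀ q',
      F'.smul_eig D _ (mul_mem hq₀ hq'') _ (F'.w_eig D) m hm z hz hzw, ← mul_smul z, ← mul_smul (q₀ * z),
      ← mul_assoc z, ← (D.cent q₀ (F'.Q_le hq₀) z hz).eq]
  choose φA hφQ hφ using himg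
  let σp : F'.X ≃ F'.X := Equiv.ofBijective (F'.σX D g) (Finite.injective_iff_bijective.1 (F'.σX_inj D hg))
  have hcomp : ∀ x : F'.X, (F'.σX D g x : A)⁻¹ • g • (x : A) • d x = d (F'.σX D g x) := by
    have key := F'.indep_eq D (fun y => (y : A)⁻¹ • g • ((σp.symm y : F'.X) : A) • d (σp.symm y)) d
      (fun y => by
        obtain ⟨x, rfl⟩ := σp.surjective y
        rw [Equiv.symm_apply_apply]
        show (F'.σX D g x : A)⁻¹ • g • (x : A) • d x ∈ _
        rcases hdform x with h | ⟨q, hq', h⟩ <;> rw [h]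
        · simp only [smul_zero]; exact F'.zero_eig D
        · obtain ⟨q', hq'', e'⟩ := F'.conj_smul_w D hg hq'
          rw [hφ x q hq', inv_smul_smul, e', ← mul_smul]
          exact hQE _ (mul_mem (hφQ x) hq''))
      hdE (by
        refine Eq.trans ?_ hgy
        rw [Finset.smul_sum]
        simp only [smul_inv_smul]
        exact (Fintype.sum_equiv σp (fun x => g • (x : A) • d x) _ fun x => by
          rw [Equiv.symm_apply_apply]).symm)
    intro x
    have := key (σp x)
    rwa [Equiv.symm_apply_apply] at this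
  have hfix_i : g • i • F'.w = i • F'.w := by
    have := hcomp 1
    simpa [F'.σX_one D g, d] using this
  have hfix_j : g • j • F'.w = j • F'.w := by rw [hjw, smul_add, hg, hfix_i]
  have hfix_ij : g • (i * j) • F'.w = (i * j) • F'.w := by
    rw [mul_smul, hjw, smul_add, ← mul_smul i i, hii, K.ε_smul, smul_add, smul_neg, hg, hfix_i]
  have hgq : ∀ q ∈ F'.Q, g • q • F'.w = q • F'.w := by
    intro q hq'
    obtain ⟨z, hz, rfl | rfl | rfl | rfl⟩ := hcov q hq'
    · rw [← mul_smul, (hgU _ hz).eq, mul_smul, hg]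
    · rw [mul_smul z, ← mul_smul g, (hgU z hz).eq, mul_smul, hfix_i]
    · rw [mul_smul z, ← mul_smul g, (hgU z hz).eq, mul_smul, hfix_j]
    · rw [mul_smul z, ← mul_smul g, (hgU z hz).eq, mul_smul, hfix_ij]
  have hφ' : ∀ x : F'.X, ∀ q ∈ F'.Q,
      g • (x : A) • q • F'.w = (F'.σX D g x : A) • (φA x * q) • F'.w := fun x q hq' => by
    rw [hφ x q hq', hgq q hq', mul_smul]
  have hφu : ∀ (x : F'.X) (t : A), t ∈ F'.Q → g • (x : A) • F'.w = (F'.σX D g x : A) • t • F'.w →
      φA x = t := by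
    intro x t ht e
    have e1 := hφ' x 1 (one_mem _)
    rw [one_smul, mul_one, e] at e1
    exact (F'.Q_free D _ ht _ (hφQ x) ((smul_left_cancel_iff _).1 e1)).symm
  -- commutators
  let c : F'.X → F'.X → A := fun x y => ⁅g * (x : A) * g⁻¹, (F'.σX D g y : A)⁆
  have hxB : ∀ x : F'.X, g * (x : A) * g⁻¹ ∈ D.B := fun x => D.normal.conj_mem _ (F'.X_le x.2) g
  have hsB : ∀ y : F'.X, (F'.σX D g y : A) ∈ D.B := fun y => F'.X_le (F'.σX D g y).2
  have hcU : ∀ x y, c x y ∈ K.U := fun x y => D.comm _ (hxB x) _ (hsB y)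
  have hcl : ∀ x x' y, c (x * x') y = c x y * c x' y := fun x x' y => by
    show ⁅g * ((x * x' : F'.X) : A) * g⁻¹, _⁆ = _
    rw [show g * ((x * x' : F'.X) : A) * g⁻¹ = g * x * g⁻¹ * (g * x' * g⁻¹) by
      rw [Subgroup.coe_mul]; group]
    exact D.comm_mul_left (hxB x) (hxB x') (hsB y)
  have hcr : ∀ x y y', c x (y * y') = c x y * c x y' := fun x y y' => by
    show ⁅_, (F'.σX D g (y * y') : A)⁆ = _
    rw [F'.σX_mul, Subgroup.coe_mul, ← commutatorElement_inv, D.comm_mul_left (hsB y) (hsB y') (hxB x),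
      mul_inv_rev, commutatorElement_inv, commutatorElement_inv]
    exact K.comm _ (hcU x y') _ (hcU x y)
  have hφmul : ∀ x y : F'.X, φA (x * y) = φA x * φA y * c x y := by
    intro x y
    refine hφu _ _ (mul_mem (mul_mem (hφQ x) (hφQ y)) (F'.U_Q (hcU x y))) ?_
    obtain ⟨m, hm, q₀, hq₀, e⟩ := F'.σX_spec D g x
    obtain ⟨z, hz, hzw⟩ := F'.eig m hm
    have hc : c x y = ⁅m, (F'.σX D g y : A)⁆ := by
      show ⁅g * (x : A) * g⁻¹, _⁆ = _
      rw [e, D.comm_mul_left (mul_mem (hsB x) (F'.M_le hm)) (F'.Q_le hq₀) (hsB y),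
        D.comm_mul_left (hsB x) (F'.M_le hm) (hsB y),
        commutatorElement_eq_one_iff_commute.2 (F'.cX _ (F'.σX D g x).2 _ (F'.σX D g y).2),
        commutatorElement_eq_one_iff_commute.2 (F'.cXQ _ (F'.σX D g y).2 _ hq₀).symm, one_mul, mul_one]
    have hx0 : φA x = q₀ * z := hφu x _ (mul_mem hq₀ (F'.U_Q hz)) (by
      have e2 : g * (x : A) = F'.σX D g x * m * q₀ * g := by rw [← e, inv_mul_cancel_right]
      rw [← mul_smul g, e2, mul_smul, hg, mul_smul _ q₀, mul_smul _ m,
        F'.smul_eig D q₀ hq₀ _ (F'.w_eig D) m hm z hz hzw, mul_smul q₀, ← mul_smul z,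
        ← (D.cent q₀ (F'.Q_le hq₀) z hz).eq, mul_smul q₀])
    have hy := hφ' y 1 (one_mem _)
    rw [one_smul, mul_one] at hy
    rw [F'.σX_mul, Subgroup.coe_mul, Subgroup.coe_mul, mul_smul (x : A), ← mul_smul g,
      show g * (x : A) = g * x * g⁻¹ * g by group, e, mul_smul _ g, hy,
      ← mul_smul _ (F'.σX D g y : A),
      show (F'.σX D g x : A) * m * q₀ * F'.σX D g y = F'.σX D g x * F'.σX D g y * (c x y * m * q₀) by
        rw [mul_assoc _ q₀, ← (F'.cXQ _ (F'.σX D g y).2 q₀ hq₀).eq, hc]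
        simp only [mul_assoc]
        rw [← mul_assoc m, F'.swap_comm D hm (F'.σX D g y).2]
        simp only [mul_assoc],
      mul_smul (_ * _) (c x y * m * q₀)]
    congr 1
    rw [mul_smul (c x y * m) q₀, mul_smul (c x y) m, ← mul_smul q₀,
      F'.smul_eig D _ (mul_mem hq₀ (hφQ y)) _ (F'.w_eig D) m hm z hz hzw, ← mul_smul, ← mul_smul]
    congr 1
    rw [hx0, ← (D.cent _ (mul_mem (mul_mem (F'.Q_le hq₀) (D.le hz)) (F'.Q_le (hφQ y))) _ (hcU x y)).eq.symm,
      ← (D.cent q₀ (F'.Q_le hq₀) z hz).eq.symm]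
    simp only [mul_assoc]
  choose pre hpre using fun x : F'.X => hψsurj _ (hφQ x)
  let bit : A → ZMod 2 := fun z => if z = 1 then 0 else 1
  have hbit : ∀ z ∈ K.U, ∀ z' ∈ K.U, bit (z * z') = bit z + bit z' := by
    intro z hz z' hz'
    rcases hU2 z hz with rfl | rfl <;> rcases hU2 z' hz' with rfl | rfl <;>
      simp only [bit, one_mul, mul_one, hεε, if_true, if_neg hne1] <;> decide
  let σv : (Fin 3 → ZMod 2) →+ (Fin 3 → ZMod 2) := AddMonoidHom.mk' (fun v => iv (F'.σX D g (ex v)))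
    fun a b => by rw [ex_add, F'.σX_mul, iv_mul]
  have hσinj : Function.Injective σv := fun a b h => by
    have := congrArg ex (show iv (F'.σX D g (ex a)) = iv (F'.σX D g (ex b)) from h)
    rw [ex_iv, ex_iv] at this
    simpa only [iv_ex] using congrArg iv (F'.σX_inj D hg this)
  have hφone : φA 1 = 1 := hφu 1 1 (one_mem _) (by rw [F'.σX_one]; simp [hg])
  have main := hC σv hσinj (fun v => pre (ex v)) (fun a b => bit (c (ex a) (ex b)))
    (fun a b e => by rw [ex_add, hcl, hbit _ (hcU _ _) _ (hcU _ _)])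
    (fun a b e => by rw [ex_add, hcr, hbit _ (hcU _ _) _ (hcU _ _)])
    (hψinj (by rw [hpre, ex_zero, hφone, map_one]))
    (fun a b => by
      apply hψinj
      rw [map_mul, map_mul, hpre, hpre, hpre, ex_add, hφmul]
      congr 1
      rcases hU2 _ (hcU (ex a) (ex b)) with h | h
      · simp [bit, h]
      · simp only [bit, h, if_neg hne1, if_neg (show (1 : ZMod 2) ≠ 0 by decide), ψε])
    (fun v => by
      by_cases hv : ex v = 1
      · have h0 : v = 0 := by rw [← iv_ex v, hv, ← ex_zero, iv_ex]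
        subst h0
        have : pre (ex 0) = 1 := hψinj (by rw [hpre, ex_zero, hφone, map_one])
        simp [this]
      have e := hcomp (ex v)
      have hs : F'.σX D g (ex v) ≠ 1 := fun h => hv (F'.σX_inj D hg (h.trans (F'.σX_one D g).symm))
      simp only [d, if_neg hv, if_neg hs, iv_ex] at e
      show C (iv (F'.σX D g (ex v))) = _
      generalize iv (F'.σX D g (ex v)) = v' at e ⊢
      cases hc : C v with
      | none =>
        simp only [cQ, hc, smul_zero] at e
        cases hc' : C v' with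
        | none => rfl
        | some q =>
          simp only [hc'] at e
          exact absurd ((smul_eq_zero_iff_eq _).1 e.symm) F'.w_ne
      | some q =>
        simp only [cQ, hc, hφ' _ _ (hψQ q), inv_smul_smul] at e
        cases hc' : C v' with
        | none =>
          simp only [hc'] at e
          exact absurd ((smul_eq_zero_iff_eq _).1 e) F'.w_ne
        | some q' =>
          simp only [hc'] at e
          have := F'.Q_free D _ (mul_mem (hφQ _) (hψQ q)) _ (hψQ q') e
          rw [← hpre, ← map_mul] at this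
          rw [← hψinj this]
          rfl)
  have hσ1 : ∀ x : F'.X, F'.σX D g x = x ∧ φA x = 1 := fun x => by
    obtain ⟨h1, h2⟩ := main (iv x)
    have h1' : iv (F'.σX D g (ex (iv x))) = iv x := h1
    rw [ex_iv] at h1'
    refine ⟨by rw [← ex_iv (F'.σX D g x), h1', ex_iv], ?_⟩
    rw [← hpre, show pre x = 1 by rw [← ex_iv x]; exact h2, map_one]
  have hc1 : ∀ x y : F'.X, c x y = 1 := fun x y => by
    have := hφmul x y
    rwa [(hσ1 _).2, (hσ1 x).2, (hσ1 y).2, one_mul, one_mul, eq_comm] at this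
  have hgX : ∀ x ∈ F'.X, Commute g x := by
    intro x hx
    obtain ⟨m, hm, q₀, hq₀, e⟩ := F'.σX_spec D g ⟨x, hx⟩
    rw [(hσ1 _).1] at e
    obtain ⟨z, hz, hzw⟩ := F'.eig m hm
    have hφx : φA ⟨x, hx⟩ = q₀ * z := hφu _ _ (mul_mem hq₀ (F'.U_Q hz)) (by
      rw [(hσ1 _).1, ← mul_smul g, show g * x = g * x * g⁻¹ * g by group, e, mul_smul, hg,
        mul_smul _ q₀, mul_smul _ m, F'.smul_eig D q₀ hq₀ _ (F'.w_eig D) m hm z hz hzw,
        mul_smul q₀, ← mul_smul z, ← (D.cent q₀ (F'.Q_le hq₀) z hz).eq, mul_smul q₀])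
    rw [(hσ1 _).2] at hφx
    have hq0 : q₀ = z⁻¹ := eq_inv_of_mul_eq_one_left hφx.symm
    have hm' : m * q₀ ∈ F'.M := mul_mem hm (F'.U_M (hq0 ▸ inv_mem hz))
    have hfix : (m * q₀) • F'.w = F'.w := by
      rw [F'.smul_w_mq D hm hq₀ hz hzw, ← hφx, one_smul]
    have hcm : ∀ y ∈ F'.X, Commute (m * q₀) y := fun y hy => by
      have h := hc1 ⟨x, hx⟩ ⟨y, hy⟩
      simp only [c, (hσ1 _).1] at h
      rw [e, mul_assoc x] at h
      have hh : Commute (x * (m * q₀)) y := commutatorElement_eq_one_iff_commute.1 h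
      simpa using ((F'.cX x hx y hy).inv_left.mul_left hh)
    have h1 := K.fix_eq_one (F'.hMX _ hm' hcm) F'.w_ne hfix
    show g * x = x * g
    rw [show g * x = g * x * g⁻¹ * g by group, e, mul_assoc x, h1, mul_one]
  have hX' : ∀ x ∈ F'.X, g * x * g⁻¹ = x := fun x hx => by rw [(hgX x hx).eq, mul_inv_cancel_right]
  have hgQ : ∀ q ∈ F'.Q, Commute g q := by
    intro q hq'
    obtain ⟨m, hm, q', hq'', e⟩ := F'.conj_MQ D hg hq'
    have hmU : m ∈ K.U := F'.hMX m hm fun x hx => by
      have h1 : Commute (g * q * g⁻¹) x := by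
        have := (F'.cXQ x hx q hq').symm.map (MulAut.conj g).toMonoidHom
        simpa [MulAut.conj_apply, hX' x hx] using this
      rw [e] at h1
      simpa using h1.mul_left (F'.cXQ x hx q' hq'').symm.inv_left
    have hmem : g * q * g⁻¹ ∈ F'.Q := by rw [e]; exact mul_mem (F'.U_Q hmU) hq''
    have := F'.Q_free D _ hmem q hq' (by
      rw [mul_smul, mul_smul, inv_smul_eq_iff.2 hg.symm, hgq q hq'])
    exact mul_inv_eq_iff_eq_mul.1 this
  have hgM : ∀ m ∈ F'.M, Commute g m := by
    intro m hm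
    have hmB := F'.M_le hm
    have hmem : g * m * g⁻¹ * m⁻¹ ∈ F'.M := mul_mem (F'.conj_M D hg hm) (inv_mem hm)
    have hzU : g * m * g⁻¹ * m⁻¹ ∈ K.U := F'.hMX _ hmem fun x hx => by
      rw [← commutatorElement_eq_one_iff_commute]
      have hxU := D.comm m hmB x (F'.X_le hx)
      have e1 : ⁅g * m * g⁻¹, x⁆ = ⁅m, x⁆ := by
        conv_lhs => rw [← hX' x hx]
        rw [show ⁅g * m * g⁻¹, g * x * g⁻¹⁆ = g * ⁅m, x⁆ * g⁻¹ by
          simp only [commutatorElement_def]; group, (hgU _ hxU).eq, mul_inv_cancel_right]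
      rw [D.comm_mul_left (F'.M_le (F'.conj_M D hg hm)) (inv_mem hmB) (F'.X_le hx), e1,
        ← D.comm_mul_left hmB (inv_mem hmB) (F'.X_le hx), mul_inv_cancel,
        commutatorElement_one_left]
    obtain ⟨z, hz, hzw⟩ := F'.eig m hm
    have e : (g * m * g⁻¹ * m⁻¹) • F'.w = F'.w := by
      have h1 : m⁻¹ • F'.w = z⁻¹ • F'.w := by
        rw [inv_smul_eq_iff, ← mul_smul, (D.cent m hmB _ (inv_mem hz)).eq, mul_smul, hzw, inv_smul_smul]
      rw [mul_smul, h1, ← mul_smul,
        (D.cent _ (D.normal.conj_mem m hmB g) _ (inv_mem hz)).eq,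
        mul_smul, mul_smul, mul_smul, inv_smul_eq_iff.2 hg.symm, hzw, ← mul_smul g z, (hgU z hz).eq,
        mul_smul, hg, inv_smul_smul]
    exact mul_inv_eq_iff_eq_mul.1 (mul_inv_eq_one.1 (K.fix_eq_one hzU F'.w_ne e))
  have hgB : g ∈ K.U := D.self g hgU fun b hb => by
    obtain ⟨x, hx, m, hm, q, hq', rfl⟩ := F'.dec D b hb
    exact ((hgX x hx).mul_right (hgM m hm)).mul_right (hgQ q hq')
  intro v
  rw [K.fix_eq_one hgB F'.w_ne hg, one_smul]

end Cfsg.Agent.ThreeVec75
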