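import Cfsg.Agent.Lib.ThreeVec75Combo

/-!
A separating colouring may be taken with coloured points spanning the space.
-/

set_option autoImplicit false

namespace Cfsg.Agent.TwoVecSpan72

open Cfsg.Agent.ThreeVec75

universe u v w

variable {U : Type u} [CommGroup U] {ε : U} {X : Type w} [AddCommGroup X] [Module (ZMod 2) X]
  {Γ : Type v} [Group Γ]

/-- The character of `ZMod 2` with value `ε` at `1`. -/
def e2 (ε : U) (a : ZMod 2) : U := if a = 0 then 1 else ε

theorem e2_add (hε : ε * ε = 1) (a b : ZMod 2) : e2 ε (a + b) = e2 ε a * e2 ε b := by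
  rcases (show ∀ u : ZMod 2, u = 0 ∨ u = 1 by decide) a with rfl | rfl <;>
    rcases (show ∀ u : ZMod 2, u = 0 ∨ u = 1 by decide) b with rfl | rfl <;>
    simp [e2, hε, show (1 : ZMod 2) + 1 = 0 by decide]

/-- A group element with a linear functional. -/
@[ext]
structure Pair (T : Twist 2 ε Γ X) where
  /-- the group element -/
  g : Γ
  /-- the functional -/
  χ : X →+ ZMod 2

variable (T : Twist 2 ε Γ X)

instance : Group (Pair T) where
  mul a b := ⟨a.g * b.g, a.χ.comp (T.σ b.g) + b.χ⟩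
  one := ⟨1, 0⟩
  inv a := ⟨a.g⁻¹, -a.χ.comp (T.σ a.g⁻¹)⟩
  mul_assoc a b c := Pair.ext (mul_assoc _ _ _) (AddMonoidHom.ext fun x => by
    show (a.χ (T.σ b.g (T.σ c.g x)) + b.χ (T.σ c.g x)) + c.χ x =
      a.χ (T.σ (b.g * c.g) x) + (b.χ (T.σ c.g x) + c.χ x)
    rw [T.σ_mul, add_assoc])
  one_mul a := Pair.ext (one_mul _) (AddMonoidHom.ext fun x => by
    show (0 : ZMod 2) + a.χ x = a.χ x
    rw [zero_add])
  mul_one a := Pair.ext (mul_one _) (AddMonoidHom.ext fun x => by
    show a.χ (T.σ 1 x) + 0 = a.χ x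
    rw [T.σ_one, add_zero])
  inv_mul_cancel a := Pair.ext (inv_mul_cancel _) (AddMonoidHom.ext fun x => by
    show -(a.χ (T.σ a.g⁻¹ (T.σ a.g x))) + a.χ x = 0
    rw [← T.σ_mul, inv_mul_cancel, T.σ_one, neg_add_cancel])

/-- Projection to the group. -/
def fst : Pair T →* Γ where
  toFun a := a.g
  map_one' := rfl
  map_mul' _ _ := rfl

/-- The functionals inside the pairs. -/
def incl : Multiplicative (X →+ ZMod 2) →* Pair T where
  toFun χ := ⟨1, χ.toAdd⟩
  map_one' := rfl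
  map_mul' a b := Pair.ext (one_mul 1).symm (AddMonoidHom.ext fun x => by
    show a.toAdd x + b.toAdd x = a.toAdd (T.σ 1 x) + b.toAdd x
    rw [T.σ_one])

omit [Module (ZMod 2) X] in
theorem solvable [Group.IsSolvable Γ] : Group.IsSolvable (Pair T) :=
  Group.isSolvable_of_ker_le_range (incl T) (fst T) fun a ha =>
    ⟨Multiplicative.ofAdd a.χ, Pair.ext (MonoidHom.mem_ker.1 ha).symm rfl⟩

/-- The pairs as a product. -/
def equivProd : Pair T ≃ Γ × (X →+ ZMod 2) where
  toFun a := (a.g, a.χ)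
  invFun a := ⟨a.1, a.2⟩
  left_inv _ := rfl
  right_inv _ := rfl

instance [Finite Γ] [Finite X] : Finite (Pair T) :=
  have : Finite (X →+ ZMod 2) := Finite.of_injective _ DFunLike.coe_injective
  Finite.of_equiv _ (equivProd T).symm

omit [Module (ZMod 2) X] in
theorem coprime [Finite Γ] [Finite X] {p : ℕ} (hS : Scalars p 2 U ε) (hco : ¬ p ∣ Nat.card Γ) :
    ¬ p ∣ Nat.card (Pair T) := by
  have : Finite (X →+ ZMod 2) := Finite.of_injective _ DFunLike.coe_injective
  have : Fact p.Prime := ⟨hS.prime⟩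
  rw [Nat.card_congr (equivProd T), Nat.card_prod, hS.prime.dvd_mul]
  rintro (h | h)
  · exact hco h
  obtain ⟨χ, hχ⟩ := exists_prime_addOrderOf_dvd_card' p h
  have h2 : addOrderOf χ ∣ 2 := addOrderOf_dvd_of_nsmul_eq_zero <| AddMonoidHom.ext fun x => by
    rw [AddMonoidHom.nsmul_apply]
    exact ZModModule.char_nsmul_eq_zero 2 (χ x)
  rw [hχ] at h2
  exact hS.ne ((Nat.prime_dvd_prime_iff_eq hS.prime Nat.prime_two).1 h2).symm

/-- The twist of the pairs. -/
def twist (hε : ε * ε = 1) : Twist 2 ε (Pair T) X where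
  σ a := T.σ a.g
  σ_one := T.σ_one
  σ_mul a b := T.σ_mul a.g b.g
  z a x := T.z a.g x * e2 ε (a.χ x)
  z_mul a b x := by
    show T.z (a.g * b.g) x * e2 ε (a.χ (T.σ b.g x) + b.χ x) = _
    rw [T.z_mul, e2_add hε]
    exact mul_mul_mul_comm _ _ _ _
  z_zero a := by simp [T.z_zero, e2]
  z_odd h := absurd rfl h
  z_two h a x := by
    have : e2 ε (a.χ x) ^ 2 = 1 := by
      rw [pow_two, ← e2_add hε, ZModModule.add_self]
      simp [e2]
    rw [mul_pow, this, mul_one]
    exact T.z_two h a.g x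
  quad g a b c := by
    have hq := T.quad g.g a b c
    have he : e2 ε (g.χ (a + b + c)) * e2 ε (g.χ a) * e2 ε (g.χ b) * e2 ε (g.χ c) =
        e2 ε (g.χ (a + b)) * e2 ε (g.χ (a + c)) * e2 ε (g.χ (b + c)) := by
      simp only [← e2_add hε, map_add]
      congr 1
      abel
    calc _ = (T.z g.g (a + b + c) * T.z g.g a * T.z g.g b * T.z g.g c) *
          (e2 ε (g.χ (a + b + c)) * e2 ε (g.χ a) * e2 ε (g.χ b) * e2 ε (g.χ c)) := by ac_rfl
      _ = _ := by rw [hq, he]; ac_rfl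

/-- Piece P10: a separating colouring with spanning support. -/
theorem separated_span {p : ℕ} [Finite U] (hS : Scalars p 2 U ε) [Finite X] [Finite Γ]
    [Group.IsSolvable Γ] (hco : ¬ p ∣ Nat.card Γ) (T : Twist 2 ε Γ X)
    (hsep : ∀ (Γ' : Type (max v w)) [Group Γ'] [Finite Γ'] [Group.IsSolvable Γ'],
      ¬ p ∣ Nat.card Γ' → ∀ T' : Twist 2 ε Γ' X, T'.Separated) :
    ∃ C : X → Option U,
      (∀ g : Γ, (∀ x, C (T.σ g x) = (C x).map (T.z g x * ·)) →
        ∀ x, T.σ g x = x ∧ T.z g x = 1) ∧ AddSubgroup.closure {x | C x ≠ none} = ⊤ := by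
  have := solvable T
  obtain ⟨C, hC⟩ := hsep (Pair T) (coprime T hS hco) (twist T hS.sq)
  refine ⟨C, fun g hg x => ?_, ?_⟩
  · have h := hC ⟨g, 0⟩ (fun y => by
      show C (T.σ g y) = (C y).map (T.z g y * e2 ε 0 * ·)
      simpa [e2] using hg y) x
    refine ⟨h.1, ?_⟩
    have h2 : T.z g x * e2 ε 0 = 1 := h.2
    simpa [e2] using h2
  by_contra hne
  obtain ⟨f, hf0, hf⟩ := Submodule.exists_le_ker_of_lt_top
    (AddSubgroup.toZModSubmodule 2 (AddSubgroup.closure {x | C x ≠ none}))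
    (lt_top_iff_ne_top.2 fun e => hne (top_le_iff.1 fun x _ => by
      have : x ∈ AddSubgroup.toZModSubmodule 2 (AddSubgroup.closure {x | C x ≠ none}) := by simp [e]
      exact this))
  have hz1 : ∀ x, T.z 1 x = 1 := fun x => by
    have := T.z_mul 1 1 x
    rw [one_mul, T.σ_one] at this
    exact left_eq_mul.1 this
  refine hf0 (LinearMap.ext fun x => ?_)
  have h := (hC ⟨1, f.toAddMonoidHom⟩ (fun y => by
    show C (T.σ 1 y) = (C y).map (T.z 1 y * e2 ε (f y) * ·)
    rw [T.σ_one, hz1]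
    by_cases hy : C y = none
    · simp [hy]
    · have : f y = 0 := hf (show y ∈ AddSubgroup.closure _ from AddSubgroup.subset_closure hy)
      simp [this, e2]) x).2
  change T.z 1 x * e2 ε (f x) = 1 at h
  rw [hz1, one_mul] at h
  by_contra hx
  exact hS.ε_ne hS.ne.symm (by simpa [e2, show f x ≠ 0 from hx] using h)

end Cfsg.Agent.TwoVecSpan72
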