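import Mathlib
import Cfsg.Agent.Lib.ThreeVec75TwoDefs
import Cfsg.Agent.Lib.TwoVecCore75
import Cfsg.Agent.Lib.TwoVecPins75
import Cfsg.Agent.Lib.TwoVecCombo13
import Cfsg.Agent.Lib.TwoVecCombo11
import Cfsg.Agent.Lib.TwoVecCombo72
import Cfsg.Agent.Lib.TwoVecSpan72
import Cfsg.Agent.Lib.TwoVecModelGlue95
import Cfsg.Agent.Lib.TwoVecQuatFrame53
import Cfsg.Agent.Lib.TwoVecQuatGlue65

/-!
The primitive coprime case from the certificates.
-/

set_option autoImplicit false
set_option linter.style.haveILetI false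

namespace Cfsg.Agent.ThreeVec75

universe u

/-- The remaining small certificates. -/
structure SmallCerts : Prop where
  combo24 : ∀ {U X Γ : Type u} [CommGroup U] [Finite U] {ε : U} [Group Γ] [Finite Γ] [AddCommGroup X]
    [Module (ZMod 2) X] [Finite X], Scalars 3 2 U ε → Nat.card U = 2 →
    Module.finrank (ZMod 2) X = 4 → ¬ 3 ∣ Nat.card Γ → ∀ T : Twist 2 ε Γ X, T.Separated
  combo83 : ∀ {U X Γ : Type u} [CommGroup U] [Finite U] {ε : U} [Group Γ] [Finite Γ] [AddCommGroup X]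
    [Module (ZMod 2) X] [Finite X], Scalars 3 2 U ε → Nat.card U = 8 →
    Module.finrank (ZMod 2) X = 3 → ¬ 3 ∣ Nat.card Γ → ∀ T : Twist 2 ε Γ X, T.Separated
  m32 : ModelTwo.{u} 3 (2 ^ 2) (plusGens 3 2)
  m52 : ModelTwo.{u} 5 (2 ^ 2) (plusGens 5 2)
  m33 : ModelTwo.{u} 3 (2 ^ 3) (plusGens 3 3)
  m53 : ModelTwo.{u} 5 (2 ^ 3) (plusGens 5 3)
  m33m : ModelTwo.{u} 3 8 minusGens
  quat : QuatThree

theorem card_eq_pow {G : Type u} [Group G] [Finite G] {q : ℕ} [Fact q.Prime]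
    (h : ∀ x : G, x ^ q = 1) : ∃ n, Nat.card G = q ^ n :=
  IsPGroup.iff_card.1 fun x => ⟨1, by rw [pow_one]; exact h x⟩

theorem pow_prime_cases {p f c : ℕ} (hp : p.Prime) (h : c + 1 = p ^ f) :
    (c = 2 → p = 3) ∧ (c = 4 → p = 5) ∧ (c = 8 → p = 3) := by
  have key : ∀ q : ℕ, q.Prime → ∀ k, 0 < k → q ^ k = p ^ f → p = q := by
    intro q hq k hk e
    have : q ∣ p ^ f := e ▸ dvd_pow_self q hk.ne'
    exact ((Nat.prime_dvd_prime_iff_eq hq hp).1 (hq.dvd_of_dvd_pow this)).symm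
  exact ⟨fun e => key 3 Nat.prime_three 1 one_pos (by rw [← h, e]; norm_num),
    fun e => key 5 (by norm_num) 1 one_pos (by rw [← h, e]; norm_num),
    fun e => key 3 Nat.prime_three 2 two_pos (by rw [← h, e]; norm_num)⟩

theorem separated_line {U X Γ : Type u} [CommGroup U] {ε : U} [Group Γ] [AddCommGroup X]
    [Module (ZMod 2) X] [Finite X] (hn : Module.finrank (ZMod 2) X = 1) (T : Twist 2 ε Γ X) :
    T.Separated := by
  classical
  refine ⟨fun x => if x = 0 then none else some 1, fun g h x => ?_⟩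
  by_cases hx : x = 0
  · subst hx; exact ⟨map_zero _, T.z_zero g⟩
  have hh := h x
  simp only [if_neg hx, Option.map_some, mul_one] at hh
  by_cases hs : T.σ g x = 0
  · rw [if_pos hs] at hh; exact absurd hh (by simp)
  rw [if_neg hs] at hh
  refine ⟨?_, (Option.some.inj hh).symm⟩
  obtain ⟨v, hv, hspan⟩ := finrank_eq_one_iff'.1 hn
  have all : ∀ w : X, w ≠ 0 → w = v := by
    intro w hw
    obtain ⟨c, rfl⟩ := hspan w
    fin_cases c
    · exact absurd (zero_smul _ v) hw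
    · exact one_smul _ v
  rw [all _ hs, all _ hx]

theorem scalars_card {A V : Type u} [Group A] [AddCommGroup V] [DistribMulAction A V] [FaithfulSMul A V]
    [Finite A] [Finite V] [Nontrivial V] (K : Core A V) {p : ℕ} [Fact p.Prime] (hp : ∀ v : V, p • v = 0)
    (hadd : ∀ a ∈ K.U, ∀ b ∈ K.U, (∀ v : V, a • v + b • v = 0) ∨ ∃ c ∈ K.U, ∀ v : V, a • v + b • v = c • v) :
    ∃ f, Nat.card K.U + 1 = p ^ f := by
  classical
  obtain ⟨v, hv⟩ := exists_ne (0 : V)
  let W : AddSubgroup V :=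
    { carrier := {x | x = 0 ∨ ∃ z ∈ K.U, x = z • v}
      zero_mem' := Or.inl rfl
      add_mem' := by
        rintro _ _ (rfl | ⟨z, hz, rfl⟩) (rfl | ⟨z', hz', rfl⟩)
        · exact Or.inl (add_zero 0)
        · exact Or.inr ⟨z', hz', zero_add _⟩
        · exact Or.inr ⟨z, hz, add_zero _⟩
        · rcases hadd z hz z' hz' with h | ⟨c, hc, h⟩
          · exact Or.inl (h v)
          · exact Or.inr ⟨c, hc, h v⟩
      neg_mem' := by
        rintro _ (rfl | ⟨z, hz, rfl⟩)
        · exact Or.inl neg_zero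
        · exact Or.inr ⟨K.ε * z, mul_mem K.ε_mem hz, by rw [mul_smul, K.ε_smul]⟩ }
  let φ : Option K.U → W := fun o => o.elim 0 fun z => ⟨(z : A) • v, Or.inr ⟨z, z.2, rfl⟩⟩
  have hφ : Function.Bijective φ := by
    refine ⟨?_, ?_⟩
    · rintro (_ | z) (_ | z') h <;> have h := congrArg Subtype.val h <;> simp only [φ, Option.elim] at h
      · rfl
      · exact absurd ((smul_eq_zero_iff_eq _).1 h.symm) hv
      · exact absurd ((smul_eq_zero_iff_eq _).1 h) hv
      · exact congrArg some (Subtype.ext (K.free _ z.2 _ z'.2 v hv h))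
    · rintro ⟨_, rfl | ⟨z, hz, rfl⟩⟩
      · exact ⟨none, rfl⟩
      · exact ⟨some ⟨z, hz⟩, rfl⟩
  obtain ⟨f, hf⟩ := card_eq_pow (G := Multiplicative W) (q := p) fun x =>
    Multiplicative.toAdd.injective (by rw [toAdd_pow, toAdd_one]; exact Subtype.ext (hp _))
  exact ⟨f, by rw [← Finite.card_option, Nat.card_congr (Equiv.ofBijective φ hφ)]; exact hf⟩

/-- The primitive coprime case. -/
theorem coreTwo_of (hc : SmallCerts.{u}) : CoreTwo.{u} := by
  intro A V _ _ _ _ _ _ _ _ p hprime hp hco K hadd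
  classical
  haveI := Fact.mk hprime
  obtain ⟨D⟩ := exists_bd K
  obtain ⟨v0, hv0⟩ := exists_ne (0 : V)
  by_cases hω : K.ω = 1
  · have hUbot : ∀ z ∈ K.U, z = 1 := fun z hz => by
      obtain ⟨k, hk⟩ := K.ω_gen z hz
      rw [← hk, hω, one_pow]
    have hBU : ∀ b ∈ D.B, b = 1 := fun b hb => hUbot b <| D.self b (fun z hz => D.cent b hb z hz)
      fun c hc => commutatorElement_eq_one_iff_commute.1 (hUbot _ (D.comm b hb c hc))
    have hA : ∀ g : A, g = 1 := fun g => hUbot g <| D.self g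
      (fun z hz => by rw [hUbot z hz]; exact Commute.one_right g)
      (fun b hb => by rw [hBU b hb]; exact Commute.one_right g)
    exact ⟨v0, v0, fun a _ _ x => by rw [hA a, one_smul]⟩
  obtain ⟨F⟩ := exists_frame D hp (Nat.card D.B) D.B le_rfl le_rfl D.le
    (fun s hs h => D.self s (fun z hz => D.cent s hs z hz) h)
  obtain ⟨f, hf⟩ := scalars_card K hp hadd
  have hnat := TwoVecModelGlue95.hnat_of_add D F p hp hadd
  have htors : ∀ r : ℕ, r.Prime → ∀ x : F.X, x ^ r = 1 → x ≠ 1 → r ∣ Nat.card K.U :=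
    fun r hr x hx hx1 => prime_dvd_scalars D F hr x.2
      (by rw [← SubgroupClass.coe_pow, hx]; rfl) (fun h => hx1 (Subtype.ext h))
  have htwo : (Nat.card K.U = 2 ∨ Nat.card K.U = 4) → ∀ x ∈ F.X, x * x = 1 := by
    intro hU x hx
    obtain ⟨n, hn, hxn⟩ := F.exists_sqf_one D hx
    have hpr : ∀ r : ℕ, r.Prime → r ∣ orderOf x → r = 2 := by
      intro r hr hrd
      have hy : (⟨x, hx⟩ : F.X) ^ (orderOf x / r) ≠ 1 := fun h => by
        have := Nat.le_of_dvd (Nat.div_pos (Nat.le_of_dvd (orderOf_pos x) hrd) hr.pos)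
          (orderOf_dvd_of_pow_eq_one (show x ^ (orderOf x / r) = 1 from congrArg Subtype.val h))
        exact absurd this (not_le.2 (Nat.div_lt_self (orderOf_pos x) hr.one_lt))
      have := htors r hr _ (by
        rw [← pow_mul, Nat.div_mul_cancel hrd]; exact Subtype.ext (pow_orderOf_eq_one x)) hy
      rcases hU with e | e <;> rw [e] at this
      · exact (Nat.prime_dvd_prime_iff_eq hr Nat.prime_two).1 this
      · exact (Nat.prime_dvd_prime_iff_eq hr Nat.prime_two).1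
          (hr.dvd_of_dvd_pow (show r ∣ 2 ^ 2 from this))
    have hsq : Squarefree (orderOf x) := hn.squarefree_of_dvd (orderOf_dvd_of_pow_eq_one hxn)
    have h2 : orderOf x ∣ 2 := by
      rw [← Nat.prod_primeFactors_of_squarefree hsq]
      refine (Finset.prod_dvd_prod_of_subset _ {2} (fun r => r) fun r hr => ?_).trans (by simp)
      rw [Nat.mem_primeFactors] at hr
      exact Finset.mem_singleton.2 (hpr r hr.1 hr.2.1)
    rw [← pow_two]
    exact orderOf_dvd_iff_pow_eq_one.1 h2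
  -- the small models
  by_cases hsmall : (Nat.card K.U = 2 ∨ Nat.card K.U = 4) ∧ (Nat.card F.X = 4 ∨ Nat.card F.X = 8)
  · obtain ⟨hU, hcX⟩ := hsmall
    have hX := htwo hU
    have hcases : (Nat.card K.U = 2 ∧ p = 3) ∨ (Nat.card K.U = 4 ∧ p = 5) := by
      rcases hU with e | e
      · exact Or.inl ⟨e, (pow_prime_cases hprime hf).1 e⟩
      · exact Or.inr ⟨e, (pow_prime_cases hprime hf).2.1 e⟩
    by_cases hQ : F.Q = K.U
    · rcases hcases with ⟨eU, rfl⟩ | ⟨eU, rfl⟩ <;> rcases hcX with eX | eX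
      · exact TwoVecModelGlue95.good2_plus D F 3 hp (by omega) hnat hco hX 2 eX hQ hc.m32
      · exact TwoVecModelGlue95.good2_plus D F 3 hp (by omega) hnat hco hX 3 eX hQ hc.m33
      · exact TwoVecModelGlue95.good2_plus D F 5 hp (by omega) hnat hco hX 2 eX hQ hc.m52
      · exact TwoVecModelGlue95.good2_plus D F 5 hp (by omega) hnat hco hX 3 eX hQ hc.m53
    obtain ⟨-, F', hFX, -, hFQ, i, hi, j, hj, hii, hjj, hij, hns, hcov, a, b, hjw, hab⟩ :=
      exists_quat_frame D p hp F hQ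
    rcases hcases with ⟨eU, rfl⟩ | ⟨eU, rfl⟩
    · rcases hcX with eX | eX
      · obtain ⟨rfl, rfl⟩ := hab rfl eU
        rw [one_smul, one_smul] at hjw
        exact TwoVecModelGlue95.good2_minus D F' hp (by omega) hnat hco (by rw [hFX]; exact hX)
          (by rw [hFX]; exact eX) i j (by rw [hFQ]; exact hi) (by rw [hFQ]; exact hj) hii hjj hij hjw
          (by rw [hFQ]; exact hcov) hc.m33m
      · exact good2_quat_three D F hp eU hX eX hQ hc.quat
    · exfalso
      obtain ⟨k, hk⟩ := K.ω_gen _ K.ε_mem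
      haveI : IsCyclic K.U := ⟨⟨⟨K.ω, K.ω_mem⟩, fun z => by
        obtain ⟨l, hl⟩ := K.ω_gen z z.2
        exact ⟨l, Subtype.ext (by simpa using hl)⟩⟩⟩
      have ho : orderOf (⟨K.ω, K.ω_mem⟩ : K.U) = 4 := by
        rw [← eU]
        exact orderOf_eq_card_of_forall_mem_zpowers fun z => by
          obtain ⟨l, hl⟩ := K.ω_gen z z.2
          exact ⟨l, Subtype.ext (by simpa using hl)⟩
      rw [Subgroup.orderOf_mk] at ho
      have h4 : K.ω ^ 4 = 1 := by rw [← ho]; exact pow_orderOf_eq_one _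
      rcases K.sq_one (pow_mem K.ω_mem 2) (by rw [← pow_add]; exact h4) with h | h
      · have := orderOf_dvd_of_pow_eq_one h
        rw [ho] at this
        norm_num at this
      · exact hns _ K.ω_mem (by rw [← pow_two, h])
  -- pins
  obtain ⟨F1, a, hFX1, hFQ1, haQ, hpin⟩ : ∃ (F1 : Frame K D.B) (a : A), F1.X = F.X ∧ F1.Q = F.Q ∧
      a ∈ F1.Q ∧ ∀ g : A, g • F1.w = F1.w → g • a • F1.w = a • F1.w →
        (∀ z ∈ K.U, Commute g z) ∧ ∀ q ∈ F1.Q, g • q • F1.w = q • F1.w := by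
    by_cases hQ : F.Q = K.U
    · exact ⟨F, K.ω, rfl, rfl, F.U_Q K.ω_mem, fun g hg h => pin_scalar D F hQ g hg h⟩
    obtain ⟨-, F', hFX, -, hFQ, i, hi, j, hj, hii, hjj, hij, hns, hcov, a, b, hjw, -⟩ :=
      exists_quat_frame D p hp F hQ
    exact ⟨F', i * K.ω, hFX, hFQ, mul_mem (by rw [hFQ]; exact hi) (F'.U_Q K.ω_mem), fun g hg h =>
      pin_quat D F' (by rw [hFQ]; exact hi) hii hns (by rw [hFQ]; exact hcov) hjw g hg h⟩
  refine good2_twist D F1 a haQ hpin fun Γ₀ h1 h2 r hr => ?_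
  letI := K.uComm
  haveI := Fact.mk hr
  letI : Module (ZMod r) (Additive (F1.Xr D r)) := F1.xrModule D r
  by_cases htriv : ∀ x : F1.X, x ^ r = 1 → x = 1
  · have h0 : ∀ x : Additive (F1.Xr D r), x = 0 := fun x =>
      Additive.toMul.injective (Subtype.ext (htriv _ (Additive.toMul x).2))
    refine ⟨fun _ => none, fun g _ x => ⟨?_, ?_⟩, fun _ _ => ?_⟩
    · rw [h0 x, map_zero]
    · rw [h0 x, (F1.twist D r hr Γ₀ h1 h2).z_zero]
    · rw [eq_top_iff]
      intro x _
      rw [h0 x]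
      exact zero_mem _
  push Not at htriv
  obtain ⟨x1, hx1, hx1'⟩ := htriv
  have hrU : r ∣ Nat.card K.U := prime_dvd_scalars D F1 hr x1.2
    (by rw [← SubgroupClass.coe_pow, hx1]; rfl) (fun h => hx1' (Subtype.ext h))
  haveI hcyc : IsCyclic K.U := ⟨⟨⟨K.ω, K.ω_mem⟩, fun z => by
    obtain ⟨l, hl⟩ := K.ω_gen z z.2
    exact ⟨l, Subtype.ext (by simpa using hl)⟩⟩⟩
  have hS : Scalars p r K.U (⟨K.ε, K.ε_mem⟩ : K.U) := by
    refine ⟨hprime, hr, ?_, hcyc, ⟨f, hf⟩, hrU, Subtype.ext K.ε_sq, fun hp2 h => ?_⟩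
    · rintro rfl
      exact hco (hrU.trans (Subgroup.card_subgroup_dvd_card K.U))
    · have he : K.ε = 1 := congrArg Subtype.val h
      have h2v : (2 : ℕ) • v0 = 0 := by
        rw [two_nsmul]
        nth_rewrite 1 [← one_smul A v0]
        rw [← he, K.ε_smul, neg_add_cancel]
      have hd := addOrderOf_dvd_of_nsmul_eq_zero h2v
      rw [addOrderOf_eq_prime (hp v0) hv0] at hd
      exact hp2 ((Nat.prime_dvd_prime_iff_eq hprime Nat.prime_two).1 hd)
  have hcoΓ : ¬ p ∣ Nat.card (F1.splitGroup D Γ₀ h1) :=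
    fun h => hco (h.trans (Subgroup.card_subgroup_dvd_card _))
  have hsep : ∀ (Γ : Type u) [Group Γ] [Finite Γ] [Group.IsSolvable Γ], ¬ p ∣ Nat.card Γ →
      ∀ T : Twist r (⟨K.ε, K.ε_mem⟩ : K.U) Γ (Additive (F1.Xr D r)), T.Separated := by
    intro Γ _ _ _ hcΓ T
    by_cases h24 : r = 2 ∧ (Nat.card K.U = 2 ∨ Nat.card K.U = 4)
    · obtain ⟨rfl, hU⟩ := h24
      have hX := htwo hU
      have htop : ∀ x : F1.X, x ∈ F1.Xr D 2 := fun x => by
        show x ^ 2 = 1
        refine Subtype.ext ?_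
        rw [SubgroupClass.coe_pow, pow_two]
        exact hX x (hFX1 ▸ x.2)
      have hcard : Nat.card (Additive (F1.Xr D 2)) = Nat.card F.X := by
        rw [← hFX1]
        exact Nat.card_congr (Additive.toMul.trans (Equiv.subtypeUnivEquiv htop))
      have hfr := Module.natCard_eq_pow_finrank (K := ZMod 2) (V := Additive (F1.Xr D 2))
      rw [hcard, Nat.card_zmod] at hfr
      set n := Module.finrank (ZMod 2) (Additive (F1.Xr D 2)) with hn
      have hn0 : n ≠ 0 := fun h => by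
        rw [h, pow_zero] at hfr
        haveI := (Nat.card_eq_one_iff_unique.1 hfr).1
        refine hx1' (Subtype.ext ?_)
        exact congrArg (fun y : F.X => (y : A)) (Subsingleton.elim (⟨x1, hFX1 ▸ x1.2⟩ : F.X) 1)
      have hn2 : n ≠ 2 ∧ n ≠ 3 := ⟨fun h => hsmall ⟨hU, Or.inl (by rw [hfr, h]; rfl)⟩,
        fun h => hsmall ⟨hU, Or.inr (by rw [hfr, h]; rfl)⟩⟩
      by_cases h7 : 7 ≤ n
      · exact TwoVecCombo72.separated_large hS hU h7 T
      by_cases h1' : n = 1
      · exact separated_line h1' T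
      have hn' : n = 4 ∨ n = 5 ∨ n = 6 := by omega
      rcases hU with eU | eU <;> rcases hn' with e | e | e
      · obtain rfl : p = 3 := (pow_prime_cases hprime hf).1 eU
        exact hc.combo24 hS eU e hcΓ T
      · exact TwoVecCombo11.separated_5_2 hS T eU e
      · exact TwoVecCombo11.separated_6_2 hS T eU e
      · exact TwoVecCombo11.separated_4_4 hS T eU e
      · exact TwoVecCombo11.separated_5_4 hS T eU e
      · exact TwoVecCombo11.separated_6_4 hS T eU e
    by_cases h8 : r = 2 ∧ Nat.card K.U = 8 ∧ Module.finrank (ZMod r) (Additive (F1.Xr D r)) = 3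
    · obtain ⟨rfl, eU, e⟩ := h8
      obtain rfl : p = 3 := (pow_prime_cases hprime hf).2.2 eU
      exact hc.combo83 hS eU e hcΓ T
    exact TwoVecCombo13.separated_of_classes hS hcΓ h24 h8 T
  by_cases hr2 : r = 2
  · subst hr2
    obtain ⟨C, h1C, h2C⟩ := TwoVecSpan72.separated_span hS hcoΓ (F1.twist D 2 hr Γ₀ h1 h2)
      (fun Γ' _ _ _ h T => hsep Γ' h T)
    exact ⟨C, h1C, fun _ _ => h2C⟩
  · obtain ⟨C, hC⟩ := hsep _ hcoΓ (F1.twist D r hr Γ₀ h1 h2)
    exact ⟨C, hC, fun h => absurd h hr2⟩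

end Cfsg.Agent.ThreeVec75
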