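import Mathlib
import Cfsg.Agent.Lib.ThreeVec75Main
import Cfsg.Agent.Lib.ThreeVec75TwoDefs

/-!
The coprime module theorem from the colouring theorem and the primitive case.
-/

set_option autoImplicit false
set_option linter.style.haveILetI false
set_option linter.unusedSectionVars false

namespace Cfsg.Agent.TwoVecModule56

open ThreeVec75

universe u v

section basic

variable {A : Type v} {V : Type u} [Group A] [Finite A] [AddCommGroup V] [DistribMulAction A V]

omit [Finite A] in
theorem smul_pow_fix {a : A} {e : V} (he : a • e = e) (n : ℕ) : a ^ n • e = e := by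
  induction n with
  | zero => rw [pow_zero, one_smul]
  | succ n ih => rw [pow_succ, mul_smul, he, ih]

/-- A fixed displacement vanishes when it is killed by a number prime to the order. -/
theorem disp_zero {a : A} {y e : V} (he : a • e = e) (hy : a • y = y + e) {p : ℕ} (hpe : p • e = 0)
    (hco : (Nat.card A).Coprime p) : e = 0 := by
  have h : ∀ n : ℕ, a ^ n • y = y + n • e := by
    intro n
    induction n with
    | zero => rw [pow_zero, one_smul, zero_nsmul, add_zero]
    | succ n ih =>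
      rw [pow_succ, mul_smul, hy, smul_add, ih, succ_nsmul, add_assoc]
      congr 1
      rw [smul_pow_fix he n, add_comm]
  have h1 := h (Nat.card A)
  rw [pow_card_eq_one', one_smul] at h1
  have h0 : Nat.card A • e = 0 := by simpa using h1.symm
  rw [← addOrderOf_dvd_iff_nsmul_eq_zero] at h0 hpe
  exact AddMonoid.addOrderOf_eq_one_iff.1 (Nat.eq_one_of_dvd_coprimes hco h0 hpe)

theorem fix_of_fix_torsion [Finite V] {p : ℕ} [Fact p.Prime] (hV : ∀ v : V, ∃ k : ℕ, p ^ k • v = 0)
    (hco : (Nat.card A).Coprime p) {a : A} (h : ∀ v : V, p • v = 0 → a • v = v) : ∀ v : V, a • v = v := by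
  have hk : ∀ k : ℕ, ∀ v : V, p ^ k • v = 0 → a • v = v := by
    intro k
    induction k with
    | zero => intro v hv; rw [pow_zero, one_nsmul] at hv; rw [hv, smul_zero]
    | succ k ih =>
      intro v hv
      have hpv : a • (p • v) = p • v := ih _ (by rw [← mul_nsmul', ← pow_succ]; exact hv)
      have hpd : p • (a • v - v) = 0 := by rw [nsmul_sub, ← smul_comm a p v, hpv, sub_self]
      have := disp_zero (e := a • v - v) (y := v) (h _ hpd) (by rw [add_sub_cancel]) hpd hco
      exact sub_eq_zero.1 this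
  intro v
  obtain ⟨k, hk'⟩ := hV v
  exact hk k v hk'

/-- An invariant complement. -/
theorem exists_complement {p : ℕ} [Fact p.Prime] (hpV : ∀ v : V, p • v = 0)
    (hco : (Nat.card A).Coprime p) (U : AddSubgroup V) (hU : ∀ a : A, ∀ v ∈ U, a • v ∈ U) :
    ∃ W : AddSubgroup V, (∀ a : A, ∀ w ∈ W, a • w ∈ W) ∧ U ⊓ W = ⊥ ∧ U ⊔ W = ⊤ := by
  classical
  haveI := Fintype.ofFinite A
  letI : Module (ZMod p) V := AddCommGroup.zmodModule (n := p) hpV
  obtain ⟨U', hU'⟩ := Submodule.exists_isCompl (AddSubgroup.toZModSubmodule p U)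
  let π : V →+ V := ((AddSubgroup.toZModSubmodule p U).subtype ∘ₗ
    Submodule.linearProjOfIsCompl _ _ hU').toAddMonoidHom
  have hπU : ∀ v, π v ∈ U := fun v => (Submodule.linearProjOfIsCompl _ _ hU' v).2
  have hπid : ∀ v ∈ U, π v = v := fun v hv =>
    congrArg Subtype.val (Submodule.linearProjOfIsCompl_apply_left hU' ⟨v, hv⟩)
  obtain ⟨m, hm⟩ : ∃ m : ℕ, ∀ v : V, m • (Nat.card A • v) = v := by
    have hne : ((Nat.card A : ℕ) : ZMod p) ≠ 0 := by
      rw [Ne, ZMod.natCast_eq_zero_iff]
      exact fun hd => (Fact.out : p.Prime).ne_one (Nat.eq_one_of_dvd_coprimes hco hd dvd_rfl)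
    refine ⟨((Nat.card A : ZMod p)⁻¹).val, fun v => ?_⟩
    rw [← Nat.cast_smul_eq_nsmul (ZMod p), ← Nat.cast_smul_eq_nsmul (ZMod p), smul_smul,
      ZMod.natCast_val, ZMod.cast_id, inv_mul_cancel₀ hne, one_smul]
  let S : V →+ V := ∑ a : A, (DistribMulAction.toAddMonoidHom V a).comp
    (π.comp (DistribMulAction.toAddMonoidHom V a⁻¹))
  have hS : ∀ v, S v = ∑ a : A, a • π (a⁻¹ • v) := fun v => by
    simp only [S, AddMonoidHom.finsetSum_apply]
    rfl
  let P : V →+ V := (DistribSMul.toAddMonoidHom V m).comp S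
  have hP : ∀ v, P v = m • ∑ a : A, a • π (a⁻¹ • v) := fun v => by rw [← hS]; rfl
  have hPU : ∀ v, P v ∈ U := fun v => by
    rw [hP]
    exact nsmul_mem (sum_mem fun a _ => hU a _ (hπU _)) m
  have hPid : ∀ v ∈ U, P v = v := fun v hv => by
    have hterm : ∀ a : A, a • π (a⁻¹ • v) = v := fun a => by rw [hπid _ (hU a⁻¹ v hv), smul_inv_smul]
    simp only [hP, hterm, Finset.sum_const, Finset.card_univ, ← Nat.card_eq_fintype_card]
    exact hm v
  have hPeq : ∀ (b : A) (v : V), P (b • v) = b • P v := fun b v => by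
    rw [hP, hP, smul_comm b m (∑ a : A, a • π (a⁻¹ • v)), Finset.smul_sum (r := b)]
    congr 1
    refine (Fintype.sum_equiv (Equiv.mulLeft b) _ _ fun a => ?_).symm
    simp only [Equiv.coe_mulLeft, mul_inv_rev, mul_smul, inv_smul_smul]
  refine ⟨P.ker, fun a w hw => ?_, ?_, ?_⟩
  · rw [AddMonoidHom.mem_ker] at hw ⊢
    rw [hPeq, hw, smul_zero]
  · rw [eq_bot_iff]
    rintro v ⟨h1, h2⟩
    rw [AddSubgroup.mem_bot, ← hPid v h1]
    exact h2
  · rw [eq_top_iff]
    intro v _
    refine AddSubgroup.mem_sup.2 ⟨P v, hPU v, v - P v, ?_, add_sub_cancel _ _⟩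
    rw [AddMonoidHom.mem_ker, map_sub, hPid _ (hPU v), sub_self]

theorem good2_split (U W : AddSubgroup V) (hU : ∀ a : A, ∀ v ∈ U, a • v ∈ U)
    (hW : ∀ a : A, ∀ v ∈ W, a • v ∈ W) (hd : U ⊓ W = ⊥) (hs : U ⊔ W = ⊤)
    (gU : letI := restrictAct U hU; Good2 A U) (gW : letI := restrictAct W hW; Good2 A W) : Good2 A V := by
  obtain ⟨x, y, hxy⟩ := gU
  obtain ⟨x', y', hxy'⟩ := gW
  refine ⟨(x : V) + x', (y : V) + y', fun a h1 h2 v => ?_⟩
  have hsep : ∀ (s : U) (t : W), a • ((s : V) + t) = s + t → a • (s : V) = s ∧ a • (t : V) = t := by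
    intro s t h
    rw [smul_add] at h
    have e : a • (s : V) - s = t - a • (t : V) := by
      rw [sub_eq_sub_iff_add_eq_add, h, add_comm]
    have : a • (s : V) - s ∈ U ⊓ W :=
      ⟨U.sub_mem (hU a _ s.2) s.2, by rw [e]; exact W.sub_mem t.2 (hW a _ t.2)⟩
    rw [hd, AddSubgroup.mem_bot] at this
    exact ⟨sub_eq_zero.1 this, (sub_eq_zero.1 (e.symm.trans this)).symm⟩
  have e1 := hxy a (Subtype.ext (hsep x x' h1).1) (Subtype.ext (hsep y y' h2).1)
  have e2 := hxy' a (Subtype.ext (hsep x x' h1).2) (Subtype.ext (hsep y y' h2).2)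
  have hv : v ∈ U ⊔ W := by rw [hs]; trivial
  obtain ⟨s, hs', t, ht, rfl⟩ := AddSubgroup.mem_sup.1 hv
  have f1 : a • s = s := congrArg Subtype.val (e1 ⟨s, hs'⟩)
  have f2 : a • t = t := congrArg Subtype.val (e2 ⟨t, ht⟩)
  rw [smul_add, f1, f2]

/-- A good pair with first member nonzero gives `p` inequivalent good pairs. -/
theorem exists_family [Nontrivial V] {p : ℕ} [Fact p.Prime] (hpV : ∀ v : V, p • v = 0)
    (hco : (Nat.card A).Coprime p) (h : Good2 A V) :
    ∃ (x : V) (T : ZMod p → V), ∀ c d : ZMod p, ∀ a : A, a • x = x → a • T c = T d →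
      c = d ∧ ∀ v : V, a • v = v := by
  obtain ⟨x, y, hx, hxy⟩ : ∃ x y : V, x ≠ 0 ∧ ∀ a : A, a • x = x → a • y = y → ∀ v : V, a • v = v := by
    obtain ⟨x, y, hxy⟩ := h
    by_cases hx : x = 0
    · by_cases hy : y = 0
      · obtain ⟨z, hz⟩ := exists_ne (0 : V)
        exact ⟨z, 0, hz, fun a _ _ => hxy a (by rw [hx, smul_zero]) (by rw [hy, smul_zero])⟩
      · exact ⟨y, x, hy, fun a h1 h2 => hxy a h2 h1⟩
    · exact ⟨x, y, hx, hxy⟩
  refine ⟨x, fun c => y + c.val • x, fun c d a ha hcd => ?_⟩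
  simp only [smul_add, smul_comm a c.val x, ha] at hcd
  have hy : a • y = y + (d.val • x - c.val • x) := by
    rw [eq_sub_of_add_eq hcd]; abel
  have hfix : a • (d.val • x - c.val • x) = d.val • x - c.val • x := by
    rw [smul_sub, smul_comm a d.val x, smul_comm a c.val x, ha]
  have he := disp_zero hfix hy (p := p) (hpV _) hco
  have hord : addOrderOf x = p := addOrderOf_eq_prime (hpV x) hx
  have hmod : d.val % p = c.val % p := by
    have := nsmul_eq_nsmul_iff_modEq.1 (sub_eq_zero.1 he)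
    rwa [hord] at this
  haveI : NeZero p := ⟨(Fact.out : p.Prime).ne_zero⟩
  rw [Nat.mod_eq_of_lt (ZMod.val_lt d), Nat.mod_eq_of_lt (ZMod.val_lt c)] at hmod
  exact ⟨ZMod.val_injective p hmod.symm, hxy a ha (by rw [hy, he, add_zero])⟩

variable {ι : Type u} [Fintype ι] [MulAction A ι] (e : ι → V →+ V)

theorem good2_of_system [MulAction.IsPretransitive A ι]
    (sum : ∀ v, ∑ i, e i v = v) (orth : ∀ i j v, i ≠ j → e i (e j v) = 0)
    (idem : ∀ i v, e i (e i v) = e i v)
    (equiv : ∀ (a : A) i v, a • e i v = e (a • i) (a • v)) (i0 : ι) {p : ℕ}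
    (hcol : RigidCol p A ι)
    (fam : letI := restrictAct (e i0).range (range_invariant e equiv i0)
      ∃ (x : (e i0).range) (T : ZMod p → (e i0).range), ∀ c d : ZMod p, ∀ a : MulAction.stabilizer A i0,
        a • x = x → a • T c = T d → c = d ∧ ∀ v : (e i0).range, a • v = v) : Good2 A V := by
  classical
  letI := restrictAct (e i0).range (range_invariant e equiv i0)
  obtain ⟨x, T, hT⟩ := fam
  obtain ⟨c, hc⟩ := hcol
  choose γ hγ using fun i : ι => MulAction.exists_smul_eq A i0 i
  have hblock : ∀ i, ∀ y ∈ (e i0).range, e i (γ i • y) = γ i • y := by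
    rintro i _ ⟨z, rfl⟩
    rw [equiv, hγ, idem]
  have hcomp : ∀ (f : ι → (e i0).range) i, e i (∑ j, γ j • (f j : V)) = γ i • (f i : V) := by
    intro f i
    rw [map_sum, Finset.sum_eq_single i]
    · exact hblock i _ (f i).2
    · intro j _ hji
      rw [← hblock j _ (f j).2]
      exact orth i j _ hji.symm
    · simp
  refine ⟨∑ j, γ j • (x : V), ∑ j, γ j • (T (c j) : V), fun a hax hay v => ?_⟩
  have hh : ∀ i, (γ (a • i))⁻¹ * a * γ i ∈ MulAction.stabilizer A i0 := fun i => by
    rw [MulAction.mem_stabilizer_iff, mul_smul, mul_smul, hγ, inv_smul_eq_iff, hγ]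
  have hkey : ∀ i, c i = c (a • i) ∧
      ∀ y : (e i0).range, (⟨_, hh i⟩ : MulAction.stabilizer A i0) • y = y := by
    intro i
    refine hT (c i) (c (a • i)) _ (Subtype.ext ?_) (Subtype.ext ?_)
    · show ((γ (a • i))⁻¹ * a * γ i) • (x : V) = x
      rw [mul_smul, mul_smul, inv_smul_eq_iff, ← hcomp (fun _ => x) i, equiv, hax, hcomp (fun _ => x)]
    · show ((γ (a • i))⁻¹ * a * γ i) • (T (c i) : V) = T (c (a • i))
      rw [mul_smul, mul_smul, inv_smul_eq_iff, ← hcomp (fun j => T (c j)) i, equiv, hay,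
        hcomp (fun j => T (c j))]
  have hfix := hc a (fun i => (hkey i).1.symm)
  have hmain : ∀ i, a • e i v = e i v := by
    intro i
    obtain ⟨y, hy⟩ : ∃ y ∈ (e i0).range, γ i • y = e i v :=
      ⟨(γ i)⁻¹ • e i v, ⟨(γ i)⁻¹ • v, by
        rw [equiv, inv_smul_eq_iff.2 (hγ i).symm]⟩, smul_inv_smul _ _⟩
    have hfy := congrArg Subtype.val ((hkey i).2 ⟨y, hy.1⟩)
    change ((γ (a • i))⁻¹ * a * γ i) • y = y at hfy
    rw [hfix i, mul_smul, mul_smul, inv_smul_eq_iff] at hfy
    rw [← hy.2]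
    exact hfy
  conv_lhs => rw [← sum v]
  rw [Finset.smul_sum]
  simp only [hmain]
  exact sum v

end basic

section irreducible

variable {V : Type u} [AddCommGroup V] [Finite V]

/-- The hypothesis of the induction. -/
def Below (V : Type u) [AddCommGroup V] : Prop :=
  ∀ (W : Type u) [AddCommGroup W] [Finite W], Nat.card W < Nat.card V →
    ∀ (H : Type u) [Group H] [Finite H] [Group.IsSolvable H] [DistribMulAction H W],
      (Nat.card H).Coprime (Nat.card W) → Good2 H W

theorem good2_of_irr (hc : ColourTwo.{u}) (hk : CoreTwo.{u}) [Nontrivial V] (IH : Below V)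
    {p : ℕ} [Fact p.Prime] (hpV : ∀ v : V, p • v = 0) (G₀ : Subgroup (AddMonoid.End V)ˣ)
    [hG₀ : Group.IsSolvable G₀] (hpG₀ : ¬ p ∣ Nat.card G₀) (hirr₀ : Irr G₀ V) : Good2 G₀ V := by
  classical
  have hp : p.Prime := Fact.out
  haveI := finite_end (V := V)
  obtain ⟨A, ⟨hle, hsolA, hpA⟩, hmaxA⟩ :=
    (Set.toFinite {H : Subgroup (AddMonoid.End V)ˣ |
      G₀ ≤ H ∧ Group.IsSolvable H ∧ ¬ p ∣ Nat.card H}).exists_maximal ⟨G₀, le_rfl, hG₀, hpG₀⟩
  haveI : Group.IsSolvable A := hsolA
  suffices hgoodA : Good2 A V by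
    obtain ⟨x, y, hxy⟩ := hgoodA
    exact ⟨x, y, fun a h1 h2 z => hxy ⟨(a : (AddMonoid.End V)ˣ), hle a.2⟩ h1 h2 z⟩
  have hirr : Irr A V := fun S hS => hirr₀ S fun a v hv => hS ⟨(a : (AddMonoid.End V)ˣ), hle a.2⟩ v hv
  -- a maximal abelian normal subgroup and its enveloping ring
  obtain ⟨U, ⟨hUn, hUc⟩, hmaxU⟩ :=
    (Set.toFinite {N : Subgroup A | N.Normal ∧ ∀ a ∈ N, ∀ b ∈ N, a * b = b * a}).exists_maximal
      ⟨⊥, Subgroup.normal_bot, fun a ha b hb => by
        rw [Subgroup.mem_bot] at ha hb; rw [ha, hb]⟩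
  let val : A →* AddMonoid.End V := (Units.coeHom _).comp A.subtype
  have val_smul : ∀ (a : A) (v : V), a • v = val a v := fun a v => rfl
  have val_inj : Function.Injective val := fun a b h => Subtype.ext (Units.ext h)
  let W : Subring (AddMonoid.End V) := Subring.closure (val '' (U : Set A))
  have hUW : ∀ a ∈ U, val a ∈ W := fun a ha => Subring.subset_closure ⟨a, ha, rfl⟩
  have hWc : ∀ x ∈ W, ∀ y ∈ W, x * y = y * x := by
    have h1 : W ≤ Subring.centralizer (val '' (U : Set A)) := by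
      refine Subring.closure_le.2 ?_
      rintro _ ⟨a, ha, rfl⟩
      refine Subring.mem_centralizer_iff.2 ?_
      rintro _ ⟨b, hb, rfl⟩
      rw [← map_mul, ← map_mul, hUc b hb a ha]
    have h2 : W ≤ Subring.centralizer (W : Set (AddMonoid.End V)) := by
      refine Subring.closure_le.2 ?_
      rintro _ ⟨a, ha, rfl⟩
      refine Subring.mem_centralizer_iff.2 fun y hy => ?_
      exact ((Subring.mem_centralizer_iff.1 (h1 hy)) _ ⟨a, ha, rfl⟩).symm
    intro x hx y hy
    exact (Subring.mem_centralizer_iff.1 (h2 hy)) x hx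
  have hconj : ∀ (a : A), ∀ x ∈ W, val a * x * val a⁻¹ ∈ W := by
    intro a x hx
    have hinv : val a⁻¹ * val a = 1 := by rw [← map_mul, inv_mul_cancel, map_one]
    have hinv' : val a * val a⁻¹ = 1 := by rw [← map_mul, mul_inv_cancel, map_one]
    induction hx using Subring.closure_induction with
    | mem x hx =>
      obtain ⟨b, hb, rfl⟩ := hx
      rw [← map_mul, ← map_mul]
      exact hUW _ (hUn.conj_mem b hb a)
    | zero => rw [mul_zero, zero_mul]; exact zero_mem _
    | one => rw [mul_one, hinv']; exact one_mem _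
    | add x y _ _ ihx ihy => rw [mul_add, add_mul]; exact add_mem ihx ihy
    | neg x _ ih => rw [mul_neg, neg_mul]; exact neg_mem ih
    | mul x y _ _ ihx ihy =>
      have : val a * (x * y) * val a⁻¹ = (val a * x * val a⁻¹) * (val a * y * val a⁻¹) := by
        calc val a * (x * y) * val a⁻¹ = val a * x * (val a⁻¹ * val a) * y * val a⁻¹ := by
              rw [hinv, mul_one, ← mul_assoc]
          _ = _ := by simp only [mul_assoc]
      rw [this]
      exact mul_mem ihx ihy
  have hcm : ∀ (a : A) (x : AddMonoid.End V) (v : V), a • x v = (val a * x * val a⁻¹) (a • v) := by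
    intro a x v
    show val a (x v) = val a (x (val a⁻¹ (val a v)))
    congr 2
    show v = (val a⁻¹ * val a) v
    rw [← map_mul, inv_mul_cancel, map_one]
    rfl
  -- no square-zero elements
  have hsq : ∀ x ∈ W, x * x = 0 → x = 0 := by
    haveI : Finite V := inferInstance
    let S : AddSubgroup V :=
      { carrier := {v | ∀ x ∈ W, x * x = 0 → x v = 0}
        zero_mem' := fun x _ _ => map_zero x
        add_mem' := fun {v w} hv hw x hx hx2 => by rw [map_add, hv x hx hx2, hw x hx hx2, add_zero]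
        neg_mem' := fun {v} hv x hx hx2 => by rw [map_neg, hv x hx hx2, neg_zero] }
    have hS : ∀ a : A, ∀ v ∈ S, a • v ∈ S := by
      intro a v hv x hx hx2
      have hy := hconj a⁻¹ x hx
      rw [inv_inv] at hy
      have hy2 : val a⁻¹ * x * val a * (val a⁻¹ * x * val a) = 0 := by
        calc val a⁻¹ * x * val a * (val a⁻¹ * x * val a)
            = val a⁻¹ * x * (val a * val a⁻¹) * x * val a := by simp only [mul_assoc]
          _ = val a⁻¹ * (x * x) * val a := by rw [← map_mul, mul_inv_cancel, map_one, mul_one, mul_assoc _ x x]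
          _ = 0 := by rw [hx2, mul_zero, zero_mul]
      have h0 := hcm a (val a⁻¹ * x * val a) v
      rw [hv _ hy hy2, smul_zero] at h0
      have e : val a * (val a⁻¹ * x * val a) * val a⁻¹ = x := by
        calc val a * (val a⁻¹ * x * val a) * val a⁻¹ = (val a * val a⁻¹) * x * (val a * val a⁻¹) := by
              simp only [mul_assoc]
          _ = x := by rw [← map_mul, mul_inv_cancel, map_one, one_mul, mul_one]
      rw [e] at h0
      exact h0.symm
    have hker : ∀ s : Finset (AddMonoid.End V), (∀ x ∈ s, x ∈ W ∧ x * x = 0) →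
        ∃ v : V, v ≠ 0 ∧ ∀ x ∈ s, x v = 0 := by
      intro s
      induction s using Finset.induction_on with
      | empty => intro _; obtain ⟨v, hv⟩ := exists_ne (0 : V); exact ⟨v, hv, by simp⟩
      | insert y s _ ih =>
        intro h
        obtain ⟨v, hv, hvs⟩ := ih fun x hx => h x (Finset.mem_insert_of_mem hx)
        obtain ⟨hyW, hy2⟩ := h y (Finset.mem_insert_self y s)
        by_cases hyv : y v = 0
        · exact ⟨v, hv, fun x hx => (Finset.mem_insert.1 hx).elim (fun e => e ▸ hyv) (hvs x)⟩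
        refine ⟨y v, hyv, fun x hx => ?_⟩
        rcases Finset.mem_insert.1 hx with rfl | hxs
        · show (x * x) v = 0; rw [hy2]; rfl
        · show (x * y) v = 0
          rw [hWc x (h x hx).1 y hyW]
          show y (x v) = 0
          rw [hvs x hxs, map_zero]
    haveI := Fintype.ofFinite (AddMonoid.End V)
    obtain ⟨v, hv, hvk⟩ := hker (Finset.univ.filter fun x => x ∈ W ∧ x * x = 0)
      (fun x hx => (Finset.mem_filter.1 hx).2)
    rcases hirr S hS with h | h
    · have : v ∈ S := fun x hx hx2 => hvk x (Finset.mem_filter.2 ⟨Finset.mem_univ x, hx, hx2⟩)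
      rw [h, AddSubgroup.mem_bot] at this
      exact absurd this hv
    · intro x hx hx2
      refine AddMonoidHom.ext fun w => ?_
      have : w ∈ S := by rw [h]; trivial
      exact this x hx hx2
  have hred : ∀ x ∈ W, ∀ k : ℕ, 0 < k → x ^ k = 0 → x = 0 := by
    intro x hx k
    induction k using Nat.strong_induction_on with
    | _ k ih =>
      intro hk h
      rcases k with _ | _ | k
      · exact absurd hk (lt_irrefl 0)
      · rwa [pow_one] at h
      refine ih (k + 1) (Nat.lt_succ_self _) (Nat.succ_pos k) (hsq _ (pow_mem hx _) ?_)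
      rw [← pow_add, show k + 1 + (k + 1) = (k + 2) + k by ring, pow_add]
      rw [show k + 1 + 1 = k + 2 by rfl] at h
      rw [h, zero_mul]
  by_cases hidem : ∃ g ∈ W, g * g = g ∧ g ≠ 0 ∧ g ≠ 1
  · -- imprimitive
    obtain ⟨g, hgW, hgg, hg0, hg1⟩ := hidem
    let P : AddMonoid.End V → Prop := fun e =>
      e ∈ W ∧ e * e = e ∧ e ≠ 0 ∧ ∀ f ∈ W, f * f = f → f * e = 0 ∨ f * e = e
    have hbelow : ∀ c ∈ W, c * c = c → c ≠ 0 → ∃ e, P e ∧ e * c = e := by
      intro c hc hcc hc0
      obtain ⟨e, ⟨heW, hee, he0, hec⟩, hmin⟩ := Set.exists_min_image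
        {e | e ∈ W ∧ e * e = e ∧ e ≠ 0 ∧ e * c = e} (fun e => {x | x ∈ W ∧ x * e = x}.ncard)
        (Set.toFinite _) ⟨c, hc, hcc, hc0, hcc⟩
      refine ⟨e, ⟨heW, hee, he0, fun f hf hff => ?_⟩, hec⟩
      by_contra h
      push Not at h
      obtain ⟨h0, h1⟩ := h
      have hc' := hWc f hf e heW
      have hfe : (f * e) * (f * e) = f * e := by
        rw [mul_assoc, ← mul_assoc e f e, ← hc', mul_assoc f e e, hee, ← mul_assoc, hff]
      have hle' : {x | x ∈ W ∧ x * (f * e) = x} ⊂ {x | x ∈ W ∧ x * e = x} := by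
        refine Set.ssubset_iff_subset_ne.2 ⟨?_, fun heq => ?_⟩
        · rintro x ⟨hx, hxe⟩
          refine ⟨hx, ?_⟩
          rw [← hxe, mul_assoc x, mul_assoc f, hee]
        · have : e ∈ {x | x ∈ W ∧ x * (f * e) = x} := by rw [heq]; exact ⟨heW, hee⟩
          refine h1 ?_
          calc f * e = (f * e) * e := by rw [mul_assoc, hee]
            _ = (e * f) * e := by rw [hc']
            _ = e * (f * e) := mul_assoc _ _ _
            _ = e := this.2
      exact absurd (hmin (f * e) ⟨mul_mem hf heW, hfe, h0, by rw [mul_assoc, hec]⟩)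
        (not_le.2 (Set.ncard_lt_ncard hle' (Set.toFinite _)))
    let ι : Type u := {e : AddMonoid.End V // P e}
    haveI : Fintype ι := Fintype.ofFinite _
    have horth : ∀ e f : ι, e ≠ f → (e : AddMonoid.End V) * f = 0 := by
      intro e f hne
      rcases f.2.2.2.2 e e.2.1 e.2.2.1 with h | h
      · exact h
      rcases e.2.2.2.2 f f.2.1 f.2.2.1 with h' | h'
      · rwa [hWc _ f.2.1 _ e.2.1] at h'
      · rw [hWc _ f.2.1 _ e.2.1, h] at h'
        exact absurd (Subtype.ext h'.symm) hne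
    have hsum : ∑ e : ι, (e : AddMonoid.End V) = 1 := by
      set s : AddMonoid.End V := ∑ e : ι, (e : AddMonoid.End V) with hs
      have hsW : s ∈ W := sum_mem fun e _ => e.2.1
      have hes : ∀ e : ι, (e : AddMonoid.End V) * s = e := fun e => by
        rw [hs, Finset.mul_sum, Finset.sum_eq_single e (fun f _ hf => horth e f hf.symm) (by simp)]
        exact e.2.2.1
      have hss : s * s = s := by
        conv_lhs => arg 1; rw [hs]
        rw [Finset.sum_mul]; simp only [hes]; exact hs.symm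
      by_contra hne
      obtain ⟨e, he, hec⟩ := hbelow (1 - s) (sub_mem (one_mem _) hsW)
        (by rw [mul_sub, sub_mul, sub_mul, one_mul, one_mul, mul_one, hss, sub_self, sub_zero])
        (fun h => hne (sub_eq_zero.1 h).symm)
      rw [mul_sub, mul_one, hes ⟨e, he⟩, sub_self] at hec
      exact he.2.2.1 hec.symm
    have hPconj : ∀ (a : A) (e : ι), P (val a * e * val a⁻¹) := by
      intro a e
      have hi : ∀ b : A, val b⁻¹ * val b = 1 := fun b => by rw [← map_mul, inv_mul_cancel, map_one]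
      have hi' : ∀ b : A, val b * val b⁻¹ = 1 := fun b => by rw [← map_mul, mul_inv_cancel, map_one]
      have hm : ∀ x y : AddMonoid.End V,
          (val a * x * val a⁻¹) * (val a * y * val a⁻¹) = val a * (x * y) * val a⁻¹ := fun x y => by
        calc (val a * x * val a⁻¹) * (val a * y * val a⁻¹)
            = val a * x * (val a⁻¹ * val a) * y * val a⁻¹ := by simp only [mul_assoc]
          _ = _ := by rw [hi, mul_one, mul_assoc (val a) x]
      have hu : ∀ x : AddMonoid.End V, val a * (val a⁻¹ * x * val a) * val a⁻¹ = x := fun x => by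
        calc val a * (val a⁻¹ * x * val a) * val a⁻¹ = (val a * val a⁻¹) * x * (val a * val a⁻¹) := by
              simp only [mul_assoc]
          _ = x := by rw [hi', one_mul, mul_one]
      have hu' : ∀ x : AddMonoid.End V, val a⁻¹ * (val a * x * val a⁻¹) * val a = x := fun x => by
        calc val a⁻¹ * (val a * x * val a⁻¹) * val a = (val a⁻¹ * val a) * x * (val a⁻¹ * val a) := by
              simp only [mul_assoc]
          _ = x := by rw [hi, one_mul, mul_one]
      refine ⟨hconj a _ e.2.1, by rw [hm, e.2.2.1], fun h => e.2.2.2.1 ?_, fun f hf hff => ?_⟩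
      · rw [← hu' (e : AddMonoid.End V), h, mul_zero, zero_mul]
      have hf' : val a⁻¹ * f * val a ∈ W := by simpa using hconj a⁻¹ f hf
      have hff' : val a⁻¹ * f * val a * (val a⁻¹ * f * val a) = val a⁻¹ * f * val a := by
        calc val a⁻¹ * f * val a * (val a⁻¹ * f * val a)
            = val a⁻¹ * f * (val a * val a⁻¹) * f * val a := by simp only [mul_assoc]
          _ = _ := by rw [hi', mul_one, mul_assoc _ f f, hff]
      have := hm (val a⁻¹ * f * val a) e
      rw [hu] at this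
      rcases e.2.2.2.2 _ hf' hff' with h | h
      · left; rw [this, h, mul_zero, zero_mul]
      · right; rw [this, h]
    letI : MulAction A ι :=
      { smul := fun a e => ⟨val a * e * val a⁻¹, hPconj a e⟩
        one_smul := fun e => Subtype.ext (by
          show val 1 * (e : AddMonoid.End V) * val 1⁻¹ = e
          rw [inv_one, map_one, one_mul, mul_one])
        mul_smul := fun a b e => Subtype.ext (by
          show val (a * b) * (e : AddMonoid.End V) * val (a * b)⁻¹ =
            val a * (val b * e * val b⁻¹) * val a⁻¹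
          rw [mul_inv_rev, map_mul, map_mul]; simp only [mul_assoc]) }
    let ev : ι → V →+ V := fun e => (e : AddMonoid.End V)
    have equiv : ∀ (a : A) (i : ι) (v : V), a • ev i v = ev (a • i) (a • v) := fun a i v => hcm a i v
    have orth : ∀ (i j : ι) (v : V), i ≠ j → ev i (ev j v) = 0 := fun i j v h => by
      show ((i : AddMonoid.End V) * j) v = 0
      rw [horth i j h]; rfl
    have idem : ∀ (i : ι) (v : V), ev i (ev i v) = ev i v := fun i v => by
      show ((i : AddMonoid.End V) * i) v = (i : AddMonoid.End V) v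
      rw [i.2.2.1]
    have sum : ∀ v : V, ∑ i, ev i v = v := fun v => by
      have h := congrArg (fun f : AddMonoid.End V => f v) hsum
      exact (AddMonoidHom.finsetSum_apply ev Finset.univ v).symm.trans h
    obtain ⟨e0, he0, he0g⟩ := hbelow g hgW hgg hg0
    obtain ⟨e1, he1, he1g⟩ := hbelow (1 - g) (sub_mem (one_mem _) hgW)
      (by rw [mul_sub, sub_mul, sub_mul, one_mul, one_mul, mul_one, hgg, sub_self, sub_zero])
      (fun h => hg1 (sub_eq_zero.1 h).symm)
    have hne01 : (⟨e0, he0⟩ : ι) ≠ ⟨e1, he1⟩ := fun h => by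
      obtain rfl : e0 = e1 := congrArg Subtype.val h
      rw [mul_sub, mul_one, he0g, sub_self] at he1g
      exact he1.2.2.1 he1g.symm
    let i0 : ι := ⟨e0, he0⟩
    have ne : ∀ i : ι, ∃ v, ev i v ≠ 0 := fun i => by
      by_contra h; push Not at h
      exact i.2.2.2.1 (AddMonoidHom.ext h)
    haveI := pretransitive_of_irr ev hirr ne orth equiv i0
    letI := restrictAct (ev i0).range (range_invariant ev equiv i0)
    have hlt : Nat.card (ev i0).range < Nat.card V := by
      refine lt_of_le_of_ne (AddSubgroup.card_le_card_addGroup _) fun h => ?_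
      have htop := AddSubgroup.eq_top_of_card_eq _ h
      obtain ⟨v, hv⟩ := ne ⟨e1, he1⟩
      obtain ⟨w, hw⟩ : ev ⟨e1, he1⟩ v ∈ (ev i0).range := by rw [htop]; trivial
      exact hv (by rw [← hw, ← idem i0 w, hw, orth _ _ _ hne01])
    haveI : Nontrivial (ev i0).range := by
      obtain ⟨v, hv⟩ := ne i0
      exact ⟨⟨⟨_, v, rfl⟩, 0, fun h => hv (congrArg Subtype.val h)⟩⟩
    have hpB : ∀ x : (ev i0).range, p • x = 0 := fun x =>
      Subtype.ext (by rw [AddSubmonoidClass.coe_nsmul, hpV]; rfl)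
    have hcoS : (Nat.card (MulAction.stabilizer A i0)).Coprime p :=
      Nat.Coprime.coprime_dvd_left (Subgroup.card_subgroup_dvd_card _) ((hp.coprime_iff_not_dvd.2 hpA).symm)
    refine good2_of_system ev sum orth idem equiv i0 (hc p hp A ι hpA)
      (exists_family hpB hcoS (IH _ hlt _ ?_))
    obtain ⟨k, hk'⟩ := (IsPGroup.iff_card (G := Multiplicative (ev i0).range) (p := p)).1 fun x =>
      ⟨1, by rw [pow_one]; exact hpB x⟩
    rw [show Nat.card (ev i0).range = p ^ k from hk']
    exact Nat.Coprime.pow_right k hcoS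
  -- primitive: the ring is a field
  have hunit : ∀ x ∈ W, x ≠ 0 → ∃ y ∈ W, x * y = 1 ∧ y * x = 1 := by
    intro x hx hx0
    obtain ⟨k, hk, hkk⟩ := exists_pow_idem x
    have : x ^ k = 1 := by
      by_contra h1
      exact hidem ⟨x ^ k, pow_mem hx k, hkk, fun h0 => hx0 (hred x hx k hk h0), h1⟩
    exact ⟨x ^ (k - 1), pow_mem hx _, by rw [← pow_succ', Nat.sub_add_cancel hk, this],
      by rw [← pow_succ, Nat.sub_add_cancel hk, this]⟩
  let Wu : Subgroup (AddMonoid.End V)ˣ :=
    { carrier := {x | (x : AddMonoid.End V) ∈ W ∧ ((x⁻¹ : (AddMonoid.End V)ˣ) : AddMonoid.End V) ∈ W}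
      one_mem' := by simp [one_mem]
      mul_mem' := fun {x y} hx hy =>
        ⟨by rw [Units.val_mul]; exact mul_mem hx.1 hy.1,
          by rw [mul_inv_rev, Units.val_mul]; exact mul_mem hy.2 hx.2⟩
      inv_mem' := fun {x} hx => ⟨hx.2, by rw [inv_inv]; exact hx.1⟩ }
  have hWu : ∀ (a : A), ∀ x ∈ Wu, (a : (AddMonoid.End V)ˣ) * x * (a : (AddMonoid.End V)ˣ)⁻¹ ∈ Wu := by
    intro a x hx
    refine ⟨?_, ?_⟩
    · rw [Units.val_mul, Units.val_mul]; exact hconj a _ hx.1
    · rw [mul_inv_rev, mul_inv_rev, inv_inv, Units.val_mul, Units.val_mul, ← mul_assoc]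
      exact hconj a _ hx.2
  let S' : Subgroup (AddMonoid.End V)ˣ :=
    { carrier := {s | ∃ a ∈ A, ∃ x ∈ Wu, s = a * x}
      one_mem' := ⟨1, one_mem _, 1, one_mem _, (one_mul 1).symm⟩
      mul_mem' := by
        rintro _ _ ⟨a, ha, x, hx, rfl⟩ ⟨b, hb, y, hy, rfl⟩
        refine ⟨a * b, mul_mem ha hb, b⁻¹ * x * b * y, mul_mem ?_ hy, by group⟩
        simpa using hWu ⟨b⁻¹, inv_mem hb⟩ x hx
      inv_mem' := by
        rintro _ ⟨a, ha, x, hx, rfl⟩
        exact ⟨a⁻¹, inv_mem ha, a * x⁻¹ * a⁻¹, hWu ⟨a, ha⟩ _ (inv_mem hx), by group⟩ }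
  have hWS : Wu ≤ S' := fun x hx => ⟨1, one_mem _, x, hx, (one_mul x).symm⟩
  have hAS : A ≤ S' := fun a ha => ⟨a, ha, 1, one_mem _, (mul_one a).symm⟩
  haveI : (Wu.subgroupOf S').Normal := ⟨by
    rintro ⟨x, _⟩ hx ⟨_, a, ha, y, hy, rfl⟩
    show a * y * x * (a * y)⁻¹ ∈ Wu
    rw [show a * y * x * (a * y)⁻¹ = a * (y * x * y⁻¹) * a⁻¹ by group]
    exact hWu ⟨a, ha⟩ _ (mul_mem (mul_mem hy hx) (inv_mem hy))⟩
  haveI hsolW : Group.IsSolvable Wu := Group.isSolvable_of_comm fun x y =>
    Subtype.ext (Units.ext (hWc _ x.2.1 _ y.2.1))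
  haveI hsolS : Group.IsSolvable S' := by
    haveI : Group.IsSolvable (S' ⧸ Wu.subgroupOf S') :=
      solvable_of_surjective (f := (QuotientGroup.mk' (Wu.subgroupOf S')).comp (Subgroup.inclusion hAS))
        fun q => by
          obtain ⟨⟨_, a, ha, x, hx, rfl⟩, rfl⟩ := QuotientGroup.mk'_surjective _ q
          refine ⟨⟨a, ha⟩, ?_⟩
          show QuotientGroup.mk' _ (Subgroup.inclusion hAS ⟨a, ha⟩) = _
          rw [QuotientGroup.mk'_eq_mk']
          exact ⟨⟨x, hWS hx⟩, hx, rfl⟩
    exact solvable_of_ker_le_range (Subgroup.inclusion hWS) (QuotientGroup.mk' (Wu.subgroupOf S'))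
      fun s hs => ⟨⟨s, by rwa [QuotientGroup.ker_mk'] at hs⟩, rfl⟩
  have hpS : ¬ p ∣ Nat.card S' := by
    intro hd
    obtain ⟨s, hs⟩ := exists_prime_orderOf_dvd_card' (G := S') p hd
    have hq : ∀ q : S' ⧸ Wu.subgroupOf S', orderOf q ∣ Nat.card A := fun q => by
      obtain ⟨⟨_, a, ha, x, hx, rfl⟩, rfl⟩ := QuotientGroup.mk'_surjective _ q
      have e : ((QuotientGroup.mk' (Wu.subgroupOf S')).comp (Subgroup.inclusion hAS)) ⟨a, ha⟩ =
          QuotientGroup.mk' (Wu.subgroupOf S') (⟨a * x, a, ha, x, hx, rfl⟩ : S') := by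
        show QuotientGroup.mk' (Wu.subgroupOf S') (Subgroup.inclusion hAS ⟨a, ha⟩) = _
        rw [QuotientGroup.mk'_eq_mk']
        exact ⟨⟨x, hWS hx⟩, hx, rfl⟩
      rw [← e]
      exact (orderOf_map_dvd _ _).trans (orderOf_dvd_natCard _)
    have hmk : QuotientGroup.mk' (Wu.subgroupOf S') s = 1 := by
      rw [← orderOf_eq_one_iff]
      exact Nat.eq_one_of_dvd_coprimes (hp.coprime_iff_not_dvd.2 hpA) (hs ▸ orderOf_map_dvd _ s) (hq _)
    have hsW : (s : (AddMonoid.End V)ˣ) ∈ Wu := (QuotientGroup.eq_one_iff s).1 hmk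
    have hsp : ((s : (AddMonoid.End V)ˣ) : AddMonoid.End V) ^ p = 1 := by
      have := congrArg (fun t : S' => ((t : (AddMonoid.End V)ˣ) : AddMonoid.End V))
        (show s ^ p = 1 by rw [← hs]; exact pow_orderOf_eq_one s)
      simpa using this
    haveI : Nontrivial (AddMonoid.End V) := ⟨⟨0, 1, fun h => by
      obtain ⟨v, hv⟩ := exists_ne (0 : V)
      exact hv (congrArg (fun f : AddMonoid.End V => f v) h).symm⟩⟩
    haveI : CharP (AddMonoid.End V) p := (CharP.charP_iff_prime_eq_zero hp).2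
      (AddMonoidHom.ext fun v => hpV v)
    have h0 : (((s : (AddMonoid.End V)ˣ) : AddMonoid.End V) - 1) ^ p = 0 := by
      rw [sub_pow_char_of_commute _ (Commute.one_right _), hsp, one_pow, sub_self]
    have h1 := sub_eq_zero.1 (hred _ (sub_mem hsW.1 (one_mem W)) p hp.pos h0)
    exact hp.ne_one (hs.symm.trans (orderOf_eq_one_iff.2 (Subtype.ext (Units.ext h1))))
  have hWA : Wu ≤ A := fun x hx => hmaxA (y := S') ⟨hle.trans hAS, hsolS, hpS⟩ hAS (hWS hx)
  have hUWu : ∀ a ∈ U, (a : (AddMonoid.End V)ˣ) ∈ Wu := fun a ha =>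
    ⟨hUW a ha, hUW a⁻¹ (inv_mem ha)⟩
  have hWuU : ∀ a : A, (a : (AddMonoid.End V)ˣ) ∈ Wu → a ∈ U := fun a ha =>
    hmaxU (y := Wu.subgroupOf A)
      ⟨⟨fun n hn g => hWu g _ hn⟩, fun x hx y hy => val_inj (by
        rw [map_mul, map_mul]; exact hWc _ hx.1 _ hy.1)⟩
      (fun x hx => hUWu x hx) ha
  have hfree : ∀ a ∈ U, ∀ b ∈ U, ∀ x : V, x ≠ 0 → a • x = b • x → a = b := by
    intro a ha b hb x hx h
    apply val_inj
    by_contra hne
    obtain ⟨y, -, -, hy⟩ := hunit (val a - val b) (sub_mem (hUW a ha) (hUW b hb)) (sub_ne_zero.2 hne)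
    refine hx ?_
    have := congrArg (fun f : AddMonoid.End V => f x) hy
    simp only [AddMonoid.End.coe_mul, Function.comp_apply] at this
    have e : (val a - val b) x = 0 := by
      show val a x - val b x = 0
      rw [← val_smul, ← val_smul, h, sub_self]
    rw [e, map_zero] at this
    exact this.symm
  haveI : IsCyclic U := by
    letI : CommRing W := { (inferInstance : Ring W) with
      mul_comm := fun x y => Subtype.ext (hWc _ x.2 _ y.2) }
    haveI : Nontrivial W := ⟨⟨0, 1, fun h => by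
      obtain ⟨v, hv⟩ := exists_ne (0 : V)
      exact hv (congrArg (fun f : W => (f : AddMonoid.End V) v) h).symm⟩⟩
    haveI : NoZeroDivisors W := ⟨fun {x y} h => by
      by_cases hx : x = 0
      · exact Or.inl hx
      obtain ⟨z, -, -, hz⟩ := hunit x x.2 (fun h0 => hx (Subtype.ext h0))
      refine Or.inr (Subtype.ext ?_)
      have h' : (x : AddMonoid.End V) * y = 0 := congrArg Subtype.val h
      rw [← one_mul (y : AddMonoid.End V), ← hz, mul_assoc, h', mul_zero]
      rfl⟩
    haveI : IsDomain W := NoZeroDivisors.to_isDomain W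
    let f : U →* W :=
      { toFun := fun a => ⟨val (a : A), hUW _ a.2⟩
        map_one' := Subtype.ext (map_one val)
        map_mul' := fun a b => Subtype.ext (map_mul val (a : A) (b : A)) }
    exact isCyclic_of_subgroup_isDomain f fun a b h => Subtype.ext (val_inj (congrArg Subtype.val h))
  obtain ⟨⟨ω, hω⟩, hgen⟩ := IsCyclic.exists_generator (α := U)
  have hneg : (-1 : (AddMonoid.End V)ˣ) ∈ Wu := by
    constructor
    · show (-1 : AddMonoid.End V) ∈ W
      exact neg_mem (one_mem W)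
    · rw [inv_neg, inv_one]
      show (-1 : AddMonoid.End V) ∈ W
      exact neg_mem (one_mem W)
  let K : Core A V :=
    { U := U
      normal := hUn
      comm := hUc
      maxab := fun N hN hNc h => le_antisymm (hmaxU (y := N) ⟨hN, hNc⟩ h) h
      free := hfree
      ω := ω
      ω_mem := hω
      ω_gen := fun a ha => by
        obtain ⟨k, hk⟩ := (mem_powers_iff_mem_zpowers).2 (hgen ⟨a, ha⟩)
        exact ⟨k, congrArg Subtype.val hk⟩
      ε := ⟨-1, hWA hneg⟩
      ε_mem := hWuU _ hneg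
      ε_smul := fun x => rfl }
  refine hk A V p hp hpV hpA K fun a ha b hb => ?_
  by_cases h0 : val a + val b = 0
  · exact Or.inl fun v => congrArg (fun f : AddMonoid.End V => f v) h0
  obtain ⟨y, hy, hy1, hy2⟩ := hunit _ (add_mem (hUW a ha) (hUW b hb)) h0
  let u : (AddMonoid.End V)ˣ := ⟨val a + val b, y, hy1, hy2⟩
  have hu : u ∈ Wu := ⟨add_mem (hUW a ha) (hUW b hb), hy⟩
  exact Or.inr ⟨⟨u, hWA hu⟩, hWuU _ hu, fun v => rfl⟩

end irreducible

theorem good2_all (hc : ColourTwo.{u}) (hk : CoreTwo.{u}) :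
    ∀ (n : ℕ) (V : Type u) [AddCommGroup V] [Finite V], Nat.card V = n →
      ∀ (A : Type u) [Group A] [Finite A] [Group.IsSolvable A] [DistribMulAction A V],
        (Nat.card A).Coprime (Nat.card V) → Good2 A V := by
  intro n
  induction n using Nat.strong_induction_on with
  | _ n IH =>
    intro V _ _ hn A _ _ _ _ hco
    subst hn
    rcases subsingleton_or_nontrivial V with hV | hV
    · exact ⟨0, 0, fun a _ _ x => Subsingleton.elim _ _⟩
    have lt : ∀ S : AddSubgroup V, S ≠ ⊤ → Nat.card S < Nat.card V := fun S hS =>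
      lt_of_le_of_ne (AddSubgroup.card_le_card_addGroup S) fun h => hS (AddSubgroup.eq_top_of_card_eq S h)
    have rec2 : ∀ (S : AddSubgroup V) (hS : ∀ a : A, ∀ v ∈ S, a • v ∈ S), S ≠ ⊤ →
        (letI := restrictAct S hS; Good2 A S) := fun S hS hS1 => by
      letI := restrictAct S hS
      exact IH _ (lt S hS1) S rfl A (hco.coprime_dvd_right (AddSubgroup.card_addSubgroup_dvd_card S))
    obtain ⟨p, hp, hpd⟩ := Nat.exists_prime_and_dvd (n := Nat.card V) Finite.one_lt_card.ne'
    haveI := Fact.mk hp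
    obtain ⟨x0, hx0⟩ := exists_prime_addOrderOf_dvd_card' (G := V) p hpd
    have hcop : (Nat.card A).Coprime p := hco.coprime_dvd_right hpd
    let tor : ℕ → AddSubgroup V := fun m => (DistribSMul.toAddMonoidHom V m).ker
    have mem_tor : ∀ m v, v ∈ tor m ↔ m • v = 0 := fun m v => Iff.rfl
    have htor : ∀ m, ∀ a : A, ∀ v ∈ tor m, a • v ∈ tor m := fun m a v hv => by
      rw [mem_tor] at hv ⊢
      rw [← smul_comm a m v, hv, smul_zero]
    by_cases hpV : ∀ v : V, p • v = 0
    · by_cases hirr : Irr A V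
      · obtain ⟨G, hG, hGA, hAG⟩ := exists_image (A := A) (V := V)
        haveI := hG
        haveI := finite_end (V := V)
        have hpG : ¬ p ∣ Nat.card G := by
          intro hd
          obtain ⟨g, hg⟩ := exists_prime_orderOf_dvd_card' (G := G) p hd
          obtain ⟨a, ha⟩ := hGA g
          have hpow : ∀ (k : ℕ) (v : V), g ^ k • v = a ^ k • v := by
            intro k
            induction k with
            | zero => intro v; rw [pow_zero, pow_zero, one_smul, one_smul]
            | succ k ih => intro v; rw [pow_succ, pow_succ, mul_smul, mul_smul, ha, ih]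
          have h1 : g ^ Nat.card A = 1 := Subtype.ext (Units.ext (AddMonoidHom.ext fun v => by
            show g ^ Nat.card A • v = v
            rw [hpow, pow_card_eq_one', one_smul]))
          have h2 : p ∣ Nat.card A := by rw [← hg]; exact orderOf_dvd_of_pow_eq_one h1
          exact hp.ne_one (Nat.eq_one_of_dvd_coprimes hcop h2 dvd_rfl)
        obtain ⟨x, y, hxy⟩ := good2_of_irr hc hk
          (fun W _ _ hlt H _ _ _ _ h => IH _ hlt W rfl H h) hpV G hpG
          (fun S hS => hirr S fun a v hv => by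
            obtain ⟨g, hg⟩ := hAG a; rw [hg]; exact hS g v hv)
        refine ⟨x, y, fun a h1 h2 v => ?_⟩
        obtain ⟨g, hg⟩ := hAG a
        rw [hg]
        exact hxy g (by rw [← hg, h1]) (by rw [← hg, h2]) v
      unfold Irr at hirr
      push Not at hirr
      obtain ⟨U, hU, hU0, hU1⟩ := hirr
      obtain ⟨W, hW, hd, hs⟩ := exists_complement hpV hcop U hU
      have hW1 : W ≠ ⊤ := fun h => hU0 (by rwa [h, inf_top_eq] at hd)
      exact good2_split U W hU hW hd hs (rec2 U hU hU1) (rec2 W hW hW1)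
    by_cases hpp : ∀ v : V, ∃ k : ℕ, p ^ k • v = 0
    · have hS1 : tor p ≠ ⊤ := fun h => hpV fun v => (mem_tor p v).1 (by rw [h]; trivial)
      obtain ⟨x, y, hxy⟩ := rec2 (tor p) (htor p) hS1
      refine ⟨x, y, fun a h1 h2 => fix_of_fix_torsion hpp hcop fun v hv => ?_⟩
      exact congrArg Subtype.val (hxy a (Subtype.ext h1) (Subtype.ext h2) ⟨v, hv⟩)
    set k := (Nat.card V).factorization p with hk'
    set m := Nat.card V / p ^ k with hm
    have hmul : p ^ k * m = Nat.card V := Nat.ordProj_mul_ordCompl_eq_self _ p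
    have hpm : ¬ p ∣ m := Nat.not_dvd_ordCompl hp Finite.card_pos.ne'
    have hcpm : (p ^ k).Coprime m := Nat.Coprime.pow_left k (hp.coprime_iff_not_dvd.2 hpm)
    refine good2_split (tor (p ^ k)) (tor m) (htor _) (htor _) ?_ ?_ (rec2 _ _ ?_) (rec2 _ _ ?_)
    · rw [eq_bot_iff]
      rintro v ⟨h1, h2⟩
      rw [AddSubgroup.mem_bot, ← AddMonoid.addOrderOf_eq_one_iff]
      exact Nat.eq_one_of_dvd_coprimes hcpm (addOrderOf_dvd_iff_nsmul_eq_zero.2 h1)
        (addOrderOf_dvd_iff_nsmul_eq_zero.2 h2)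
    · rw [eq_top_iff]
      intro v _
      refine AddSubgroup.mem_sup.2 ⟨(Nat.gcdB (p ^ k) m * m) • v, ?_,
        (Nat.gcdA (p ^ k) m * (p ^ k : ℕ)) • v, ?_, ?_⟩
      · rw [mem_tor, ← natCast_zsmul, ← mul_zsmul', show Nat.gcdB (p ^ k) m * (m : ℤ) * ((p ^ k : ℕ) : ℤ) =
          (Nat.card V : ℤ) * Nat.gcdB (p ^ k) m by rw [← hmul]; push_cast; ring, mul_zsmul',
          natCast_zsmul, card_nsmul_eq_zero', zsmul_zero]
      · rw [mem_tor, ← natCast_zsmul, ← mul_zsmul', show Nat.gcdA (p ^ k) m * ((p ^ k : ℕ) : ℤ) * (m : ℤ) =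
          (Nat.card V : ℤ) * Nat.gcdA (p ^ k) m by rw [← hmul]; push_cast; ring, mul_zsmul',
          natCast_zsmul, card_nsmul_eq_zero', zsmul_zero]
      · rw [← add_zsmul]
        have := Nat.gcd_eq_gcd_ab (p ^ k) m
        rw [hcpm.gcd_eq_one] at this
        conv_rhs => rw [← one_zsmul v]
        congr 1
        push_cast at this ⊢
        linarith
    · exact fun h => hpp fun v => ⟨k, (mem_tor _ v).1 (by rw [h]; trivial)⟩
    · intro h
      refine hpm (hx0 ▸ addOrderOf_dvd_iff_nsmul_eq_zero.2 ((mem_tor _ x0).1 (by rw [h]; trivial)))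

/-- The coprime module theorem. -/
theorem moduleTwo (hc : ColourTwo.{u}) (hk : CoreTwo.{u}) : ModuleTwo.{u, v} := by
  intro A V _ _ _ _ _ _ hco
  haveI := finite_end (V := V)
  obtain ⟨G, hG, hGA, hAG⟩ := exists_image (A := A) (V := V)
  haveI := hG
  have hcoG : (Nat.card G).Coprime (Nat.card V) := by
    refine Nat.coprime_of_dvd fun q hq hd hdV => ?_
    haveI := Fact.mk hq
    obtain ⟨g, hg⟩ := exists_prime_orderOf_dvd_card' (G := G) q hd
    obtain ⟨a, ha⟩ := hGA g
    have hpow : ∀ (k : ℕ) (v : V), g ^ k • v = a ^ k • v := by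
      intro k
      induction k with
      | zero => intro v; rw [pow_zero, pow_zero, one_smul, one_smul]
      | succ k ih => intro v; rw [pow_succ, pow_succ, mul_smul, mul_smul, ha, ih]
    have h1 : g ^ Nat.card A = 1 := Subtype.ext (Units.ext (AddMonoidHom.ext fun v => by
      show g ^ Nat.card A • v = v
      rw [hpow, pow_card_eq_one', one_smul]))
    have h2 : q ∣ Nat.card A := by rw [← hg]; exact orderOf_dvd_of_pow_eq_one h1
    exact hq.ne_one (Nat.eq_one_of_dvd_coprimes hco h2 hdV)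
  obtain ⟨x, y, hxy⟩ := good2_all hc hk _ V rfl G hcoG
  refine ⟨x, y, fun a h1 h2 v => ?_⟩
  obtain ⟨g, hg⟩ := hAG a
  rw [hg]
  exact hxy g (by rw [← hg, h1]) (by rw [← hg, h2]) v

end Cfsg.Agent.TwoVecModule56
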