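import Mathlib
import Cfsg.Agent.Lib.TwoVecMain75
import Cfsg.Agent.Lib.TwoVecModule56
import Cfsg.Agent.Lib.TwoVecColour65

/-!
The coprime module theorem from the certificates.
-/

set_option autoImplicit false

namespace Cfsg.Agent.ThreeVec75

universe u v

theorem moduleTwo_of (hc : SmallCerts.{u}) : ModuleTwo.{u, v} :=
  TwoVecModule56.moduleTwo TwoVecColour65.colourTwo (coreTwo_of hc)

end Cfsg.Agent.ThreeVec75
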