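import Mathlib
import Cfsg.Agent.Lib.TwoVecTop75
import Cfsg.Agent.Lib.TwoVecCombo21
import Cfsg.Agent.Lib.TwoVecQuat56
import Cfsg.Agent.Lib.TwoVecModel82Small
import Cfsg.Agent.Lib.TwoVecModel82

/-!
The coprime module theorem.
-/

set_option autoImplicit false

namespace Cfsg.Agent.ThreeVec75

universe u v

theorem smallCerts : SmallCerts.{u} where
  combo24 hS hU hr hΓ T := TwoVecCombo21.separated_two_four hS hΓ hU hr T
  combo83 hS hU hr hΓ T := TwoVecCombo21.separated_eight_three hS hΓ hU hr T
  m32 := TwoVecModel82Small.model_3_2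
  m52 := TwoVecModel82Small.model_5_2
  m33 := TwoVecModel82.model_3_3
  m53 := TwoVecModel82.model_5_3
  m33m := TwoVecModel82.model_3_3m
  quat := TwoVecQuat56.quat_three

theorem moduleTwo : ModuleTwo.{u, v} := moduleTwo_of smallCerts

end Cfsg.Agent.ThreeVec75
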