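import Cfsg.Agent.Lib.HallTheorem

/-!
# Three Hall subgroups meeting in the core

If every coprime faithful action of a solvable group has two points with trivial common stabiliser, then a
Hall π-subgroup of a π-solvable group has two conjugates meeting it in `O_π`.
-/

set_option autoImplicit false

namespace Cfsg.Agent.TwoVecHall95

open Cfsg.Agent.HallCore Cfsg.Agent.HallSolvable
open scoped Pointwise

universe u

variable {G : Type u} [Group G] [Finite G] {π : Set ℕ}

/-- A π-subgroup of a group with a π-solvable chain is solvable. -/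
theorem solvable_of_chain {n : ℕ} {N : Fin (n + 1) → Subgroup G} (h0 : N 0 = ⊥)
    (htop : N (Fin.last n) = ⊤) (hmono : Monotone N) (hnorm : ∀ i, (N i).Normal)
    (hp : ∀ i : Fin n, (∃ p ∈ π, p.Prime ∧ ∃ k : ℕ, (N i.castSucc).relIndex (N i.succ) = p ^ k) ∨
      (∀ q : ℕ, q.Prime → q ∣ (N i.castSucc).relIndex (N i.succ) → q ∉ π))
    (H : Subgroup G) (hH : PiNat π (Nat.card H)) : Group.IsSolvable H := by
  have key : ∀ i : Fin (n + 1), Group.IsSolvable ↥((N i).subgroupOf H) := by
    intro i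
    induction i using Fin.induction with
    | zero =>
      rw [h0, Subgroup.bot_subgroupOf]
      infer_instance
    | succ i ih =>
      haveI := hnorm i.castSucc
      let A : Subgroup H := (N i.succ).subgroupOf H
      let f : A →* G ⧸ N i.castSucc := (QuotientGroup.mk' (N i.castSucc)).comp (H.subtype.comp A.subtype)
      have hr : Nat.card f.range ∣ (N i.castSucc).relIndex (N i.succ) := by
        rw [relIndex_eq_card_map]
        refine Subgroup.card_dvd_of_le ?_
        rintro _ ⟨a, rfl⟩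
        exact ⟨_, a.2, rfl⟩
      have hrH : Nat.card f.range ∣ Nat.card H :=
        (Subgroup.card_range_dvd f).trans (Subgroup.card_subgroup_dvd_card A)
      haveI hrs : Group.IsSolvable f.range := by
        rcases hp i with ⟨p, -, hpp, k, hk⟩ | hq
        · haveI := Fact.mk hpp
          rw [hk] at hr
          obtain ⟨j, -, hj⟩ := (Nat.dvd_prime_pow hpp).1 hr
          haveI := (IsPGroup.of_card hj).isNilpotent
          infer_instance
        · have h1 : Nat.card f.range = 1 := by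
            by_contra hne
            obtain ⟨q, hq1, hq2⟩ := Nat.exists_prime_and_dvd hne
            exact hq q hq1 (hq2.trans hr) (hH q hq1 (hq2.trans hrH))
          haveI := (Nat.card_eq_one_iff_unique.1 h1).1
          exact Group.isSolvable_of_comm fun a b => Subsingleton.elim _ _
      haveI hks : Group.IsSolvable f.ker := by
        haveI := ih
        let g : f.ker →* ↥((N i.castSucc).subgroupOf H) := (A.subtype.comp f.ker.subtype).codRestrict _
          fun x => by
            have hx : QuotientGroup.mk' (N i.castSucc) ((x.1.1 : H) : G) = 1 := x.2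
            exact Subgroup.mem_subgroupOf.2 ((QuotientGroup.eq_one_iff _).1 hx)
        exact Group.isSolvable_of_isSolvable_injective (f := g) fun x y e =>
          Subtype.ext (Subtype.ext (congrArg Subtype.val e :))
      exact Group.isSolvable_of_ker_le_range f.ker.subtype f.rangeRestrict
        (by rw [MonoidHom.ker_rangeRestrict, Subgroup.range_subtype])
  have := key (Fin.last n)
  rw [htop, Subgroup.top_subgroupOf] at this
  exact Group.isSolvable_of_surjective (f := (⊤ : Subgroup H).subtype) fun x => ⟨⟨x, trivial⟩, rfl⟩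

/-- A chain with prime-power or π′ steps makes the group π-separable. -/
theorem separable_of_chain {n : ℕ} {N : Fin (n + 1) → Subgroup G} (h0 : N 0 = ⊥)
    (htop : N (Fin.last n) = ⊤) (hmono : Monotone N) (hnorm : ∀ i, (N i).Normal)
    (hp : ∀ i : Fin n, (∃ p ∈ π, p.Prime ∧ ∃ k : ℕ, (N i.castSucc).relIndex (N i.succ) = p ^ k) ∨
      (∀ q : ℕ, q.Prime → q ∣ (N i.castSucc).relIndex (N i.succ) → q ∉ π)) : IsPiSeparable π G := by
  refine ⟨n, fun i => N ⟨min i n, by omega⟩, ?_, ?_, ?_, fun i => hnorm _, fun i hi => ?_⟩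
  · show N _ = ⊥
    rw [← h0]
    congr 1
  · show N _ = ⊤
    rw [← htop]
    congr 1
    ext
    simp
  · intro i j hij
    exact hmono (show min i n ≤ min j n by omega)
  · have e1 : (⟨min i n, by omega⟩ : Fin (n + 1)) = (⟨i, hi⟩ : Fin n).castSucc := by
      ext; simp; omega
    have e2 : (⟨min (i + 1) n, by omega⟩ : Fin (n + 1)) = (⟨i, hi⟩ : Fin n).succ := by
      ext; simp; omega
    simp only [e1, e2]
    rcases hp ⟨i, hi⟩ with ⟨p, hpπ, hpp, k, hk⟩ | hq
    · left
      rw [hk]
      exact fun q hq hqd => (Nat.prime_dvd_prime_iff_eq hq hpp).1 (hq.dvd_of_dvd_pow hqd) ▸ hpπ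
    · exact Or.inr hq

theorem hall_of_two
    (h2 : ∀ (A K : Type u) [Group A] [Finite A] [Group K] [Finite K] [MulDistribMulAction A K]
      [FaithfulSMul A K], Group.IsSolvable A → (Nat.card A).Coprime (Nat.card K) →
      ∃ x y : K, ∀ a : A, a • x = x → a • y = y → a = 1)
    {G : Type u} [Group G] [Finite G] (π : Set ℕ)
    (hsolv : (∃ (n : ℕ) (N : Fin (n + 1) → Subgroup G), N 0 = ⊥ ∧ N (Fin.last n) = ⊤ ∧ Monotone N ∧ (∀ i, (N i).Normal) ∧
      ∀ i : Fin n, (∃ p ∈ π, p.Prime ∧ ∃ k : ℕ, (N i.castSucc).relIndex (N i.succ) = p ^ k) ∨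
        (∀ q : ℕ, q.Prime → q ∣ (N i.castSucc).relIndex (N i.succ) → q ∉ π))) (H : Subgroup G) (hH : Cfsg.IsPiHall π H) :
    ∃ x y : G, H ⊓ MulAut.conj x • H ⊓ MulAut.conj y • H = Cfsg.piCore π G := by
  obtain ⟨n, N, h0, htop, hmono, hnorm, hp⟩ := hsolv
  have hHsolv := solvable_of_chain h0 htop hmono hnorm hp H hH.1
  have hsep := separable_of_chain h0 htop hmono hnorm hp
  let O := Cfsg.piCore π G
  have hOH : O ≤ H := by
    have hle : H ≤ H ⊔ O := le_sup_left
    exact (HallTheorem.eq_of_isPiHall_le hH hle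
      (piNat_card_sup hH.1 (piNat_card_piCore π G))).symm ▸ le_sup_right
  let q := QuotientGroup.mk' O
  let Hb := H.map q
  let K := Cfsg.piCore πᶜ (G ⧸ O)
  have hHb : PiNat π (Nat.card Hb) := PiNat.of_dvd hH.1 (Subgroup.card_map_dvd _ _)
  have hK : PiNat πᶜ (Nat.card K) := piNat_card_piCore _ _
  have hcop : (Nat.card Hb).Coprime (Nat.card K) := PiNat.coprime hHb hK
  have hcent : Subgroup.centralizer (K : Set (G ⧸ O)) ≤ K :=
    centralizer_piCore_le (hsep.to_quotient O).compl (by rw [compl_compl]; exact piCore_quotient_self)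
  have hinf : Hb ⊓ K = ⊥ := disjoint_of_coprime_card hcop
  haveI : Group.IsSolvable Hb :=
    haveI := hHsolv
    Group.isSolvable_of_surjective (q.subgroupMap_surjective H)
  letI act : MulDistribMulAction Hb K :=
    MulDistribMulAction.compHom K ((MulAut.conjNormal (H := K)).comp Hb.subtype)
  have hsmul : ∀ (a : Hb) (k : K), ((a • k : K) : G ⧸ O) = a * k * (a : G ⧸ O)⁻¹ := fun a k =>
    MulAut.conjNormal_apply (a : G ⧸ O) k
  haveI : FaithfulSMul Hb K := ⟨fun {a b} hab => by
    have hmem : ((b⁻¹ * a : Hb) : G ⧸ O) ∈ Subgroup.centralizer (K : Set (G ⧸ O)) := by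
      intro k hk
      have h1 : (b⁻¹ * a) • (⟨k, hk⟩ : K) = ⟨k, hk⟩ := by rw [mul_smul, hab, inv_smul_smul]
      have h2 := congrArg Subtype.val h1
      rw [hsmul] at h2
      exact (mul_inv_eq_iff_eq_mul.1 h2).symm
    have h3 : ((b⁻¹ * a : Hb) : G ⧸ O) ∈ Hb ⊓ K := ⟨(b⁻¹ * a : Hb).2, hcent hmem⟩
    rw [hinf, Subgroup.mem_bot] at h3
    exact (inv_mul_eq_one.1 (Subtype.ext h3 : b⁻¹ * a = 1)).symm⟩
  obtain ⟨x', y', hxy⟩ := h2 Hb K inferInstance hcop
  obtain ⟨x, hx⟩ := QuotientGroup.mk'_surjective O (x' : G ⧸ O)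
  obtain ⟨y, hy⟩ := QuotientGroup.mk'_surjective O (y' : G ⧸ O)
  refine ⟨x, y, le_antisymm ?_ ?_⟩
  · intro g hg
    obtain ⟨⟨hgH, hgx⟩, hgy⟩ := hg
    have hgb : q g ∈ Hb := Subgroup.mem_map_of_mem q hgH
    have fix : ∀ (z : G) (z' : K), q z = (z' : G ⧸ O) → g ∈ MulAut.conj z • H →
        (⟨q g, hgb⟩ : Hb) • z' = z' := by
      intro z z' hz hgz
      rw [Subgroup.mem_pointwise_smul_iff_inv_smul_mem] at hgz
      have hb : (z' : G ⧸ O)⁻¹ * q g * z' ∈ Hb := by
        rw [← hz, ← map_inv, ← map_mul, ← map_mul]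
        exact Subgroup.mem_map_of_mem q (by simpa [MulAut.smul_def] using hgz)
      have hk : (q g)⁻¹ * ((z' : G ⧸ O)⁻¹ * q g * z') ∈ Hb ⊓ K := by
        refine ⟨Hb.mul_mem (Hb.inv_mem hgb) hb, ?_⟩
        rw [show (q g)⁻¹ * ((z' : G ⧸ O)⁻¹ * q g * z') = ((q g)⁻¹ * (z' : G ⧸ O)⁻¹ * q g) * z' by
          simp only [mul_assoc]]
        refine K.mul_mem ?_ z'.2
        have hc := (inferInstance : K.Normal).conj_mem _ (K.inv_mem z'.2) (q g)⁻¹
        rwa [inv_inv] at hc
      rw [hinf, Subgroup.mem_bot] at hk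
      apply Subtype.ext
      rw [hsmul]
      show q g * (z' : G ⧸ O) * (q g)⁻¹ = z'
      rw [mul_inv_eq_iff_eq_mul]
      calc q g * (z' : G ⧸ O) = (z' : G ⧸ O) * ((z' : G ⧸ O)⁻¹ * q g * z') := by group
        _ = (z' : G ⧸ O) * q g := by rw [← inv_mul_eq_one.1 hk]
    have h1 := hxy ⟨q g, hgb⟩ (fix x x' hx hgx) (fix y y' hy hgy)
    exact (QuotientGroup.eq_one_iff g).1 (congrArg Subtype.val h1 :)
  · refine le_inf (le_inf hOH ?_) ?_ <;>
      exact (HallTheorem.conj_smul_normal _ O).ge.trans (Subgroup.pointwise_smul_le_pointwise_smul_iff.2 hOH)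

end Cfsg.Agent.TwoVecHall95
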