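import Mathlib
import Cfsg.Agent.Lib.ThreeVec75Combo

/-!
Twisted colourings for odd `r` and a group of odd order: the support misses a path of vectors.
-/

set_option autoImplicit false

namespace Cfsg.Agent.ThreeVec75

universe u v w

variable {r : ℕ} {X : Type w} [AddCommGroup X] [Module (ZMod r) X]

theorem zmod_three_facts : (2 : ZMod 3) ≠ 0 ∧ (2 : ZMod 3) ≠ 1 ∧ (2 : ZMod 3) + 2 = 1 ∧
    (2 : ZMod 3) + 1 = 0 ∧ ∀ c : ZMod 3, c ≠ 0 → c * c = 1 := by decide

/-- The two unit vectors are adjacent on the path. -/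
def PathAdj {n : ℕ} (i j : Fin n) : Prop := (j : ℕ) = i + 1 ∨ (i : ℕ) = j + 1

/-- The path set: basis vectors and sums of two neighbouring ones. -/
def pathSet {n : ℕ} (b : Module.Basis (Fin n) (ZMod r) X) : Set X :=
  {x | (∃ i, x = b i) ∨ ∃ i j, PathAdj i j ∧ x = b i + b j}

theorem PathAdj.ne {n : ℕ} {i j : Fin n} (h : PathAdj i j) : i ≠ j := by
  intro e; subst e; rcases h with h | h <;> omega

theorem path_perm_sq {n : ℕ} (π : Fin n → Fin n) (hπ : Function.Bijective π)
    (hadj : ∀ i j, PathAdj i j ↔ PathAdj (π i) (π j)) : ∀ i, π (π i) = i := by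
  rcases Nat.eq_zero_or_pos n with hn | hn
  · intro i; exact absurd i.isLt (by omega)
  let z : Fin n := ⟨0, hn⟩
  let l : Fin n := ⟨n - 1, by omega⟩
  have hend : ∀ e : Fin n, ((e : ℕ) = 0 ∨ (e : ℕ) + 1 = n) → π e = z ∨ π e = l := by
    intro e he
    by_contra hcon
    push_neg at hcon
    obtain ⟨h0, h1⟩ := hcon
    have a0 : 0 < (π e : ℕ) := by
      rcases Nat.eq_zero_or_pos (π e : ℕ) with h | h
      · exact absurd (Fin.ext h) h0
      · exact h
    have a1 : (π e : ℕ) + 1 < n := by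
      by_contra h
      exact h1 (Fin.ext (show (π e : ℕ) = n - 1 by have := (π e).isLt; omega))
    obtain ⟨i, hi⟩ := hπ.2 ⟨(π e : ℕ) - 1, by omega⟩
    obtain ⟨j, hj⟩ := hπ.2 ⟨(π e : ℕ) + 1, a1⟩
    have ai : PathAdj e i := (hadj e i).2 (by rw [hi]; right; simp; omega)
    have aj : PathAdj e j := (hadj e j).2 (by rw [hj]; left; simp)
    have hij : i = j := by
      apply Fin.ext
      rcases ai with a | a <;> rcases aj with b | b <;> rcases he with c | c <;>
        (have := i.isLt; have := j.isLt; omega)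
    rw [hij, hj] at hi
    simp [Fin.ext_iff] at hi
    omega
  have hzz : π (π z) = z := by
    rcases hend z (Or.inl rfl) with h | h
    · rw [h, h]
    · rw [h]
      rcases hend l (Or.inr (show n - 1 + 1 = n by omega)) with h' | h'
      · exact h'
      · have := hπ.1 (h.trans h'.symm)
        rw [h', ← this]
  have key : ∀ k (hk : k < n), π (π ⟨k, hk⟩) = ⟨k, hk⟩ := by
    intro k
    induction k using Nat.strong_induction_on with
    | _ k ih =>
      intro hk
      rcases Nat.eq_zero_or_pos k with rfl | hk0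
      · exact hzz
      obtain ⟨m, rfl⟩ : ∃ m, k = m + 1 := ⟨k - 1, by omega⟩
      have hm := ih m (by omega) (by omega)
      have h1 : PathAdj (⟨m, by omega⟩ : Fin n) (π (π ⟨m + 1, hk⟩)) := by
        rw [← hm]
        exact (hadj _ _).1 ((hadj _ _).1 (Or.inl rfl))
      rcases h1 with h1 | h1
      · exact Fin.ext h1
      · exfalso
        simp only at h1
        have hp := ih ((π (π ⟨m + 1, hk⟩)) : ℕ) (by omega) (Fin.isLt _)
        have := hπ.1 (hπ.1 hp)
        rw [Fin.ext_iff] at this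
        simp only at this
        omega
  intro i
  exact key i i.isLt

theorem pathSet_rigid [Fact r.Prime] (hr : r ≠ 2) {n : ℕ} (b : Module.Basis (Fin n) (ZMod r) X)
    (f : X →+ X) (hf : Function.Bijective f) (hR : ∀ x, f x ∈ pathSet b ↔ x ∈ pathSet b) :
    ∀ x, f (f x) = x := by
  classical
  have hr3 : 3 ≤ r := by
    have := (Fact.out : r.Prime).two_le
    omega
  let s : X → ℕ := fun x => ∑ k, (b.repr x k).val
  have h1v : ((1 : ZMod r)).val = 1 := ZMod.val_one r
  have valb : ∀ i k, (b.repr (b i) k).val = if i = k then 1 else 0 := by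
    intro i k
    rw [b.repr_self, Finsupp.single_apply]
    split_ifs <;> simp [h1v]
  have valbb : ∀ i j, i ≠ j → ∀ k, (b.repr (b i + b j) k).val =
      (if i = k then 1 else 0) + (if j = k then 1 else 0) := by
    intro i j hij k
    rw [map_add, Finsupp.add_apply, b.repr_self, b.repr_self, Finsupp.single_apply,
      Finsupp.single_apply]
    split_ifs with a c c
    · exact absurd (a.trans c.symm) hij
    all_goals simp [h1v]
  have hbound : ∀ x ∈ pathSet b, ∀ k, (b.repr x k).val ≤ 1 := by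
    rintro x (⟨i, rfl⟩ | ⟨i, j, hij, rfl⟩) k
    · rw [valb]; split_ifs <;> omega
    · rw [valbb i j hij.ne]
      have := hij.ne
      split_ifs with a c <;> first | omega | exact absurd (a.trans c.symm) this
  have sadd : ∀ x ∈ pathSet b, ∀ y ∈ pathSet b, s (x + y) = s x + s y := by
    intro x hx y hy
    simp only [s, ← Finset.sum_add_distrib]
    refine Finset.sum_congr rfl fun k _ => ?_
    rw [map_add, Finsupp.add_apply, ZMod.val_add_of_lt]
    have := hbound x hx k; have := hbound y hy k; omega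
  have sb : ∀ i, s (b i) = 1 := fun i => by simp only [s, valb]; simp
  have sbb : ∀ i j, PathAdj i j → s (b i + b j) = 2 := fun i j h => by
    simp only [s, valbb i j h.ne, Finset.sum_add_distrib]; simp
  have hsplit : ∀ x ∈ pathSet b, ∀ y ∈ pathSet b, x + y ∈ pathSet b → ∃ i, x = b i := by
    intro x hx y hy hxy
    rcases hx with hx' | ⟨i, j, hij, rfl⟩
    · exact hx'
    exfalso
    have h := sadd _ (Or.inr ⟨i, j, hij, rfl⟩) y hy
    rw [sbb i j hij] at h
    have hy1 : 1 ≤ s y := by
      rcases hy with ⟨k, rfl⟩ | ⟨k, l, hkl, rfl⟩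
      · rw [sb]
      · rw [sbb k l hkl]; omega
    rcases hxy with ⟨k, e⟩ | ⟨k, l, hkl, e⟩
    · rw [e, sb] at h; omega
    · rw [e, sbb k l hkl] at h; omega
  have hadj : ∀ i j, b i + b j ∈ pathSet b → i ≠ j → PathAdj i j := by
    rintro i j (⟨k, e⟩ | ⟨k, l, hkl, e⟩) hij
    · have h := sadd _ (Or.inl ⟨i, rfl⟩) _ (Or.inl ⟨j, rfl⟩)
      rw [e, sb, sb, sb] at h; omega
    · have hi := congrArg (fun x => (b.repr x i).val) e
      have hj := congrArg (fun x => (b.repr x j).val) e
      simp only [valbb i j hij, valbb k l hkl.ne, if_pos rfl, if_neg hij, if_neg hij.symm] at hi hj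
      rcases hkl with h | h <;> unfold PathAdj <;> split_ifs at hi hj with a c d g <;>
        simp only [Fin.ext_iff] at * <;> omega
  have hπ : ∀ i, ∃ k, f (b i) = b k := by
    intro i
    by_cases hn : ∃ j, PathAdj i j
    · obtain ⟨j, hij⟩ := hn
      refine hsplit _ ((hR _).2 (Or.inl ⟨i, rfl⟩)) _ ((hR _).2 (Or.inl ⟨j, rfl⟩)) ?_
      rw [← map_add]
      exact (hR _).2 (Or.inr ⟨i, j, hij, rfl⟩)
    · rcases (hR _).2 (Or.inl ⟨i, rfl⟩) with h | ⟨k, l, hkl, _⟩
      · exact h
      · exfalso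
        have : 2 ≤ n := by
          have := k.isLt; have := l.isLt
          rcases hkl with h | h <;> omega
        apply hn
        by_cases hi : (i : ℕ) + 1 < n
        · exact ⟨⟨i + 1, hi⟩, Or.inl rfl⟩
        · exact ⟨⟨i - 1, by omega⟩, Or.inr (show (i : ℕ) = i - 1 + 1 by omega)⟩
  choose π hπ using hπ
  have hπinj : Function.Injective π := by
    intro i j e
    apply b.injective
    apply hf.1
    rw [hπ, hπ, e]
  have hadjiff : ∀ i j, PathAdj i j ↔ PathAdj (π i) (π j) := by
    intro i j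
    constructor
    · intro h
      refine hadj _ _ ?_ (fun e => h.ne (hπinj e))
      rw [← hπ, ← hπ, ← map_add]
      exact (hR _).2 (Or.inr ⟨i, j, h, rfl⟩)
    · intro h
      refine hadj _ _ ?_ (fun e => h.ne (by rw [e]))
      rw [← hR, map_add, hπ, hπ]
      exact Or.inr ⟨_, _, h, rfl⟩
  have hsq := path_perm_sq π ⟨hπinj, Finite.injective_iff_surjective.1 hπinj⟩ hadjiff
  have hlin : (f.comp f).toZModLinearMap r = LinearMap.id := by
    refine b.ext fun i => ?_
    simp [hπ, hsq]
  intro x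
  have := congrArg (fun g => g x) hlin
  simpa using this

variable {U : Type u} [CommGroup U] {Γ : Type v} [Group Γ] {ε : U}

theorem Twist.σ_bijective (T : Twist r ε Γ X) (g : Γ) : Function.Bijective (T.σ g) := by
  refine Function.bijective_iff_has_inverse.2 ⟨T.σ g⁻¹, fun x => ?_, fun x => ?_⟩
  · rw [← T.σ_mul, inv_mul_cancel, T.σ_one]
  · rw [← T.σ_mul, mul_inv_cancel, T.σ_one]

theorem Twist.σ_eq_of_sq [Finite Γ] (T : Twist r ε Γ X) (hodd : Odd (Nat.card Γ)) (g : Γ)
    (h : ∀ x, T.σ g (T.σ g x) = x) : ∀ x, T.σ g x = x := by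
  obtain ⟨k, hk⟩ := hodd
  have hpow : ∀ m x, T.σ ((g * g) ^ m) x = x := by
    intro m
    induction m with
    | zero => intro x; rw [pow_zero, T.σ_one]
    | succ m ih => intro x; rw [pow_succ, T.σ_mul, T.σ_mul, h, ih]
  intro x
  have e : g = (g * g) ^ (k + 1) := by
    rw [← pow_two, ← pow_mul, show 2 * (k + 1) = Nat.card Γ + 1 by omega, pow_succ,
      pow_card_eq_one', one_mul]
  rw [e]; exact hpow _ x

/-- A single scalar class suffices when `r` and the group order are odd. -/
theorem separated_odd [Fact r.Prime] (hr : r ≠ 2) [Finite X] [Finite Γ]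
    (hodd : Odd (Nat.card Γ)) (T : Twist r ε Γ X) : T.Separated := by
  classical
  haveI : Module.Finite (ZMod r) X := Module.Finite.of_finite
  set n := Module.finrank (ZMod r) X with hn
  let b := Module.finBasis (ZMod r) X
  have hr3 : 3 ≤ r := by
    have := (Fact.out : r.Prime).two_le
    omega
  let R : Set X := if n = 1 ∧ r = 3 then ∅ else pathSet b
  refine ⟨fun x => if x ∈ R then none else some 1, fun g hg => ?_⟩
  have hR : ∀ x, T.σ g x ∈ R ↔ x ∈ R := by
    intro x
    have := hg x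
    by_cases h : x ∈ R <;> by_cases h' : T.σ g x ∈ R <;> simp [h, h'] at this ⊢
  have hz : ∀ x, x ∉ R → T.z g x = 1 := by
    intro x h
    have := hg x
    simp only [if_neg h, if_neg (mt (hR x).1 h), Option.map_some, mul_one, Option.some.injEq] at this
    exact this.symm
  by_cases hs : n = 1 ∧ r = 3
  · have hR0 : R = ∅ := if_pos hs
    have hsq : ∀ x, T.σ g (T.σ g x) = x := by
      obtain ⟨h1, h3⟩ := hs
      subst h3
      obtain ⟨v, hv, hspan⟩ := finrank_eq_one_iff'.1 h1
      obtain ⟨c, hc⟩ := hspan (T.σ g v)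
      have hlin : ∀ (a : ZMod 3) x, T.σ g (a • x) = a • T.σ g x := fun a x =>
        ((T.σ g).toZModLinearMap 3).map_smul a x
      have hc0 : c ≠ 0 := by
        rintro rfl
        apply hv
        apply (T.σ_bijective g).1
        rw [← hc, map_zero, zero_smul]
      have hcc : c * c = 1 := zmod_three_facts.2.2.2.2 c hc0
      intro x
      obtain ⟨a, rfl⟩ := hspan x
      rw [hlin, hlin, ← hc, hlin, ← hc, smul_smul c c, hcc, one_smul]
    intro x
    exact ⟨T.σ_eq_of_sq hodd g hsq x, hz x (by rw [hR0]; exact Set.notMem_empty x)⟩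
  have hRp : R = pathSet b := if_neg hs
  rw [hRp] at hR hz
  have hfix := T.σ_eq_of_sq hodd g (pathSet_rigid hr b (T.σ g) (T.σ_bijective g) hR)
  refine fun x => ⟨hfix x, ?_⟩
  have crd : ∀ y ∈ pathSet b, ∀ k, b.repr y k = 0 ∨ b.repr y k = 1 := by
    rintro y (⟨i, rfl⟩ | ⟨i, j, hij, rfl⟩) k
    · rw [b.repr_self, Finsupp.single_apply]; split_ifs <;> simp
    · rw [map_add, Finsupp.add_apply, b.repr_self, b.repr_self, Finsupp.single_apply,
        Finsupp.single_apply]
      split_ifs with a c <;> first | exact absurd (a.trans c.symm) hij.ne | simp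
  have out : ∀ (y : X) k (a : ZMod r), b.repr y k = a → a ≠ 0 → a ≠ 1 → y ∉ pathSet b := by
    intro y k a e a0 a1 hy
    rcases crd y hy k with h | h
    · exact a0 (e.symm.trans h)
    · exact a1 (e.symm.trans h)
  have solve : ∀ y a c d : X, a + c + d = y → T.z g a = 1 → T.z g c = 1 → T.z g d = 1 →
      T.z g (a + c) = 1 → T.z g (a + d) = 1 → T.z g (c + d) = 1 → T.z g y = 1 := by
    intro y a c d e h1 h2 h3 h4 h5 h6
    have := T.quad g a c d
    simpa [e, h1, h2, h3, h4, h5, h6] using this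
  by_cases hx : x ∈ pathSet b
  swap
  · exact hz x hx
  by_cases h5 : r = 3
  · subst h5
    have h20 : (2 : ZMod 3) ≠ 0 := zmod_three_facts.1
    have h21 : (2 : ZMod 3) ≠ 1 := zmod_three_facts.2.1
    have pair : ∀ i j, i ≠ j → T.z g (b i + b j) = 1 := by
      intro i j hij
      refine solve _ ((2 : ZMod 3) • b j) ((2 : ZMod 3) • b i) ((2 : ZMod 3) • b i + (2 : ZMod 3) • b j)
        ?_ ?_ ?_ ?_ ?_ ?_ ?_
      · have e4 : (2 : ZMod 3) + 2 = 1 := zmod_three_facts.2.2.1
        calc _ = ((2 : ZMod 3) + 2) • b i + ((2 : ZMod 3) + 2) • b j := by rw [add_smul, add_smul]; abel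
          _ = _ := by rw [e4, one_smul, one_smul]
      · exact hz _ (out _ j 2 (by simp) h20 h21)
      · exact hz _ (out _ i 2 (by simp) h20 h21)
      · exact hz _ (out _ i 2 (by simp [Finsupp.single_apply, hij.symm]) h20 h21)
      · exact hz _ (out _ i 2 (by simp [Finsupp.single_apply, hij.symm]) h20 h21)
      · exact hz _ (out _ i 2 (by simp [Finsupp.single_apply, hij.symm]) h20 h21)
      · exact hz _ (out _ j 2 (by simp [Finsupp.single_apply, hij]) h20 h21)
    rcases hx with ⟨i, rfl⟩ | ⟨i, j, hij, rfl⟩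
    swap
    · exact pair i j hij.ne
    obtain ⟨j, hji⟩ : ∃ j : Fin n, j ≠ i := by
      have hn1 : n ≠ 1 := fun h => hs ⟨h, rfl⟩
      have := i.isLt
      by_cases hi : (i : ℕ) = 0
      · exact ⟨⟨1, by omega⟩, fun e => by simp [← e] at hi⟩
      · exact ⟨⟨0, by omega⟩, fun e => hi (by rw [← e])⟩
    have e3 : (2 : ZMod 3) + 1 = 0 := zmod_three_facts.2.2.2.1
    have e4 : (2 : ZMod 3) + 2 = 1 := zmod_three_facts.2.2.1
    refine solve _ ((2 : ZMod 3) • b j) ((2 : ZMod 3) • b i) ((2 : ZMod 3) • b i + b j)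
      ?_ ?_ ?_ ?_ ?_ ?_ ?_
    · calc _ = ((2 : ZMod 3) + 2) • b i + ((2 : ZMod 3) + 1) • b j := by
            rw [add_smul, add_smul, one_smul]; abel
        _ = _ := by rw [e3, e4, one_smul, zero_smul, add_zero]
    · exact hz _ (out _ j 2 (by simp) h20 h21)
    · exact hz _ (out _ i 2 (by simp) h20 h21)
    · exact hz _ (out _ i 2 (by simp [Finsupp.single_apply, hji]) h20 h21)
    · exact hz _ (out _ j 2 (by simp [Finsupp.single_apply, hji.symm]) h20 h21)
    · exact hz _ (out _ i 2 (by simp [Finsupp.single_apply, hji]) h20 h21)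
    · have : (2 : ZMod 3) • b i + ((2 : ZMod 3) • b i + b j) = b i + b j := by
        rw [← add_assoc, ← add_smul, e4, one_smul]
      rw [this]; exact pair i j hji.symm
  obtain ⟨k, hk⟩ : ∃ k, b.repr x k = 1 := by
    rcases hx with ⟨i, rfl⟩ | ⟨i, j, hij, rfl⟩
    · exact ⟨i, by simp⟩
    · exact ⟨i, by simp [Finsupp.single_apply, hij.ne.symm]⟩
  have hr5 : 5 ≤ r := by
    have h4 : r ≠ 4 := by
      rintro rfl
      exact absurd (Fact.out : Nat.Prime 4) (by decide)
    omega
  have nz : ∀ m : ℕ, 0 < m → m < r → (m : ZMod r) ≠ 0 := by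
    intro m h0 h1 h
    rw [ZMod.natCast_eq_zero_iff] at h
    exact absurd (Nat.le_of_dvd h0 h) (by omega)
  have e1 := nz 1 (by omega) (by omega)
  have e2 := nz 2 (by omega) (by omega)
  have e3 := nz 3 (by omega) (by omega)
  have e4 := nz 4 (by omega) (by omega)
  push_cast at e1 e2 e3 e4
  have mult : ∀ a : ZMod r, a ≠ 0 → a ≠ 1 → T.z g (a • x) = 1 := fun a a0 a1 =>
    hz _ (out _ k a (by simp [hk]) a0 a1)
  have z2 : T.z g ((2 : ZMod r) • x) = 1 := mult 2 e2 (fun h => e1 (by linear_combination h))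
  have z3 : T.z g ((-3 : ZMod r) • x) = 1 :=
    mult (-3) (neg_ne_zero.2 e3) (fun h => e4 (by linear_combination -h))
  have z4 : T.z g ((4 : ZMod r) • x) = 1 := mult 4 e4 (fun h => e3 (by linear_combination h))
  have zm : T.z g ((-1 : ZMod r) • x) = 1 :=
    mult (-1) (neg_ne_zero.2 one_ne_zero) (fun h => e2 (by linear_combination -h))
  refine solve _ ((2 : ZMod r) • x) ((2 : ZMod r) • x) ((-3 : ZMod r) • x) ?_ z2 z2 z3 ?_ ?_ ?_
  · rw [← add_smul, ← add_smul, show (2 : ZMod r) + 2 + -3 = 1 by ring, one_smul]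
  · rw [← add_smul, show (2 : ZMod r) + 2 = 4 by ring]; exact z4
  · rw [← add_smul, show (2 : ZMod r) + -3 = -1 by ring]; exact zm
  · rw [← add_smul, show (2 : ZMod r) + -3 = -1 by ring]; exact zm

end Cfsg.Agent.ThreeVec75
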