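import Mathlib
import Cfsg.Agent.Lib.CoprimeActionAut
import Cfsg.Agent.Lib.PGroupsBasic
import Cfsg.Agent.Lib.ThreeVec75TwoDefs

/-!
Base size two for coprime solvable operator groups: reduction of the group statement to modules.
-/

set_option autoImplicit false
set_option linter.style.haveILetI false

namespace Cfsg.Agent.TwoVecReduce53

open Cfsg.Agent.ThreeVec75

universe u v

open scoped Pointwise

/-- In a coprime action the fixed points meet an invariant Sylow subgroup in a Sylow subgroup. -/
theorem card_inf_cent {G : Type*} [Group G] [Finite G] {A K : Subgroup G} {p : ℕ} [hp : Fact p.Prime]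
    (hAK : A ≤ Subgroup.normalizer (K : Set G))
    (hcop : (Nat.card A).Coprime (Nat.card K))
    (hsolv : Group.IsSolvable A ∨ Group.IsSolvable K) (P : Sylow p K)
    (hP : A ≤ Subgroup.normalizer ((P : Subgroup K).map K.subtype : Set G)) :
    Nat.card ↥((P : Subgroup K).map K.subtype ⊓ Subgroup.centralizer (A : Set G)) =
      p ^ (Nat.card ↥(K ⊓ Subgroup.centralizer (A : Set G))).factorization p := by
  set C := K ⊓ Subgroup.centralizer (A : Set G) with hC
  set P' := (P : Subgroup K).map K.subtype with hP'
  obtain ⟨U⟩ := (inferInstance : Nonempty (Sylow p C))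
  set U' := (U : Subgroup C).map C.subtype with hU'
  have hUC : U' ≤ C := Subgroup.map_subtype_le _
  have hUK : U' ≤ K := hUC.trans inf_le_left
  have hUA : A ≤ Subgroup.normalizer (U' : Set G) :=
    CoprimeAction.le_normalizer_of_conj_mem fun a ha x hx => by
      have h := Subgroup.mem_centralizer_iff.1 (hUC hx).2 a ha
      rwa [h, mul_inv_cancel_right]
  obtain ⟨P₂, hUP, hP₂⟩ := CoprimeAction.exists_invariant_sylow_ge hAK hcop hsolv hUK
    (U.2.map C.subtype) hUA
  obtain ⟨c, hc, hcP⟩ := CoprimeAction.invariant_sylow_conj hAK hcop hsolv P₂ P hP₂ hP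
  have hmap : MulAut.conj (c : G) • U' ≤ P' ⊓ Subgroup.centralizer (A : Set G) := by
    intro x hx
    obtain ⟨y, hy, rfl⟩ := hx
    refine ⟨?_, ?_⟩
    · obtain ⟨z, hz, hzy⟩ := hUP hy
      have hz' : MulAut.conj c • z ∈ (P : Subgroup K) := by
        rw [← hcP]
        exact Subgroup.smul_mem_pointwise_smul _ _ _ hz
      refine ⟨MulAut.conj c • z, hz', ?_⟩
      subst hzy
      simp [MulAut.smul_def]
    · simp only [MulDistribMulAction.toMonoidEnd_apply, MulDistribMulAction.toMonoidHom_apply,
        MulAut.smul_def, MulAut.conj_apply]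
      exact Subgroup.mul_mem _ (Subgroup.mul_mem _ hc (hUC hy).2) (Subgroup.inv_mem _ hc)
  have hle : Nat.card U' ≤ Nat.card ↥(P' ⊓ Subgroup.centralizer (A : Set G)) := by
    rw [← CoprimeSZ.card_conj_smul (g := (c : G)) (H := U')]
    exact Subgroup.card_le_of_le hmap
  have hU : Nat.card U' = p ^ (Nat.card C).factorization p := by
    rw [hU', CoprimeAction.card_map_sylow]
  obtain ⟨m, hm⟩ := IsPGroup.iff_card.1 ((P.2.map K.subtype).to_le
    (inf_le_left : P' ⊓ Subgroup.centralizer (A : Set G) ≤ P'))
  have hdvd : Nat.card ↥(P' ⊓ Subgroup.centralizer (A : Set G)) ∣ Nat.card C :=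
    Subgroup.card_dvd_of_le (inf_le_inf_right _ (Subgroup.map_subtype_le _))
  rw [hm, hp.out.pow_dvd_iff_le_factorization Nat.card_pos.ne'] at hdvd
  rw [hU, hm] at hle
  rw [hm]
  exact le_antisymm (Nat.pow_le_pow_right hp.out.pos hdvd) hle

section fixed

variable {A : Type v} {K : Type u} [Group A] [Group K] [MulDistribMulAction A K]

/-- Points fixed by a subgroup of operators. -/
def fix (B : Subgroup A) : Subgroup K where
  carrier := {k | ∀ a ∈ B, a • k = k}
  mul_mem' := fun hx hy a ha => by rw [smul_mul', hx a ha, hy a ha]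
  one_mem' := fun a _ => smul_one a
  inv_mem' := fun hx a ha => by rw [smul_inv', hx a ha]

theorem mem_fix {B : Subgroup A} {k : K} : k ∈ fix B ↔ ∀ a ∈ B, a • k = k := Iff.rfl

theorem smul_eq_phi (a : A) (k : K) :
    MulDistribMulAction.toMulAut A K a k = a • k := rfl

theorem map_inl_inf_fix (S : Subgroup K) (B : Subgroup A) :
    (S ⊓ fix B).map (SemidirectProduct.inl : K →* K ⋊[MulDistribMulAction.toMulAut A K] A) =
      S.map SemidirectProduct.inl ⊓ Subgroup.centralizer
        ((B.map (SemidirectProduct.inr : A →* K ⋊[MulDistribMulAction.toMulAut A K] A) :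
          Subgroup _) : Set _) := by
  ext x
  constructor
  · rintro ⟨k, ⟨hk, hf⟩, rfl⟩
    refine ⟨⟨k, hk, rfl⟩, Subgroup.mem_centralizer_iff.2 ?_⟩
    rintro _ ⟨a, ha, rfl⟩
    have h := CoprimeActionAut.inl_act (MulDistribMulAction.toMulAut A K) a k
    rw [smul_eq_phi, hf a ha] at h
    exact (eq_mul_inv_iff_mul_eq.1 h).symm
  · rintro ⟨⟨k, hk, rfl⟩, hc⟩
    refine ⟨k, ⟨hk, fun a ha => ?_⟩, rfl⟩
    have h := Subgroup.mem_centralizer_iff.1 hc _ ⟨a, ha, rfl⟩
    apply SemidirectProduct.inl_injective (φ := MulDistribMulAction.toMulAut A K)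
    rw [← smul_eq_phi, CoprimeActionAut.inl_act, h, mul_inv_cancel_right]

variable [Finite A] [Finite K]

theorem card_sylow_fix (hA : Group.IsSolvable A) (hcop : (Nat.card A).Coprime (Nat.card K))
    {p : ℕ} [Fact p.Prime] (P : Sylow p K) (hP : ∀ (a : A), ∀ x ∈ (P : Subgroup K), a • x ∈ (P : Subgroup K))
    (B : Subgroup A) :
    Nat.card ↥((P : Subgroup K) ⊓ fix B) = p ^ (Nat.card ↥(fix (K := K) B)).factorization p := by
  let φ := MulDistribMulAction.toMulAut A K
  haveI := CoprimeActionAut.finite_semidirect φ
  haveI := hA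
  let i : K →* K ⋊[φ] A := SemidirectProduct.inl
  let B' := B.map (SemidirectProduct.inr : A →* K ⋊[φ] A)
  have hBA : B' ≤ CoprimeActionAut.actSubgroup φ := by
    rintro _ ⟨a, -, rfl⟩
    exact ⟨a, rfl⟩
  obtain ⟨R, hR⟩ := CoprimeAction.exists_sylow_map_eq (p := p)
    (K := CoprimeActionAut.baseSubgroup φ) (P := (P : Subgroup K).map i)
    (CoprimeActionAut.map_inl_le_base φ _)
    (by rw [Subgroup.card_map_of_injective SemidirectProduct.inl_injective,
      CoprimeActionAut.card_baseSubgroup, P.card_eq_multiplicity])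
  have h := card_inf_cent (A := B') (hBA.trans (CoprimeActionAut.act_le_normalizer_base φ))
    ((CoprimeActionAut.coprime_act_base φ hcop).coprime_dvd_left (Subgroup.card_dvd_of_le hBA))
    (Or.inl (Group.isSolvable_of_surjective
      ((SemidirectProduct.inr : A →* K ⋊[φ] A).subgroupMap_surjective B))) R
    (by rw [hR]; exact hBA.trans ((CoprimeActionAut.act_le_normalizer_map_iff φ _).2 hP))
  have hbase : CoprimeActionAut.baseSubgroup φ = (⊤ : Subgroup K).map i := MonoidHom.range_eq_map _
  rw [hR, hbase, ← map_inl_inf_fix, ← map_inl_inf_fix, top_inf_eq,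
    Subgroup.card_map_of_injective SemidirectProduct.inl_injective,
    Subgroup.card_map_of_injective SemidirectProduct.inl_injective] at h
  exact h

end fixed

/-- Splitting an upper count along the strict upper set. -/
theorem card_upper_split {L Z : Type*} [PartialOrder L] [Fintype L] [Fintype Z] [DecidableEq L]
    [DecidableLE L] [DecidableLT L] (f : Z → L) (b : L) :
    (Finset.univ.filter fun z => b ≤ f z).card = (Finset.univ.filter fun z => f z = b).card +
      ∑ c ∈ Finset.univ.filter (fun c => b < c), (Finset.univ.filter fun z => f z = c).card := by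
  rw [Finset.card_eq_sum_card_fiberwise (s := Finset.univ.filter fun z => b ≤ f z) (f := f)
    (t := insert b (Finset.univ.filter fun c => b < c)) (fun z hz => by
      rcases (Finset.mem_filter.1 hz).2.eq_or_lt with e | e
      · exact Finset.mem_insert.2 (Or.inl e.symm)
      · exact Finset.mem_insert_of_mem (Finset.mem_filter.2 ⟨Finset.mem_univ _, e⟩)),
    Finset.sum_insert (by simp)]
  congr 1
  · refine congrArg Finset.card (Finset.ext fun z => ?_)
    simp only [Finset.mem_filter, Finset.mem_univ, true_and]
    exact ⟨fun e => e.2, fun e => ⟨e.ge, e⟩⟩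
  · refine Finset.sum_congr rfl fun c hc => congrArg Finset.card (Finset.ext fun z => ?_)
    simp only [Finset.mem_filter, Finset.mem_univ, true_and] at hc ⊢
    exact ⟨fun e => e.2, fun e => ⟨hc.le.trans e.ge, e⟩⟩

/-- Equal upper counts give equal fibre counts. -/
theorem card_fibre_eq {L X Y : Type*} [PartialOrder L] [Finite L] [Finite X] [Finite Y]
    (s : X → L) (t : Y → L)
    (h : ∀ b, Nat.card {x // b ≤ s x} = Nat.card {y // b ≤ t y}) (b : L) :
    Nat.card {x // s x = b} = Nat.card {y // t y = b} := by
  classical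
  haveI := Fintype.ofFinite L
  haveI := Fintype.ofFinite X
  haveI := Fintype.ofFinite Y
  simp only [Nat.card_eq_fintype_card, Fintype.card_subtype] at h ⊢
  induction b using WellFoundedGT.induction with
  | _ b ih =>
    have h1 := h b
    rw [card_upper_split s b, card_upper_split t b, Finset.sum_congr rfl fun c hc => ih c (Finset.mem_filter.1 hc).2] at h1
    exact Nat.add_right_cancel h1

/-- The action on an invariant subgroup. -/
@[reducible] def restrict {A : Type v} {K : Type u} [Group A] [Group K] [MulDistribMulAction A K]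
    (S : Subgroup K) (h : ∀ a : A, ∀ x ∈ S, a • x ∈ S) : MulDistribMulAction A S where
  smul a x := ⟨a • (x : K), h a x x.2⟩
  one_smul x := Subtype.ext (one_smul A (x : K))
  mul_smul a b x := Subtype.ext (mul_smul a b (x : K))
  smul_mul a x y := Subtype.ext (smul_mul' a (x : K) (y : K))
  smul_one a := Subtype.ext (smul_one a)

/-- The action on the abelianization. -/
@[reducible] def abAct {A : Type v} {S : Type u} [Group A] [Group S] [MulDistribMulAction A S] :
    DistribMulAction A (Additive (Abelianization S)) where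
  smul a x := Additive.ofMul (Abelianization.map (MulDistribMulAction.toMonoidHom S a) x.toMul)
  one_smul x := by
    induction x using Additive.rec with
    | _ x =>
      refine congrArg Additive.ofMul ?_
      induction x using QuotientGroup.induction_on with
      | _ s => exact congrArg Abelianization.of (one_smul A s)
  mul_smul a b x := by
    induction x using Additive.rec with
    | _ x =>
      refine congrArg Additive.ofMul ?_
      induction x using QuotientGroup.induction_on with
      | _ s => exact congrArg Abelianization.of (mul_smul a b s)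
  smul_zero a := congrArg Additive.ofMul (map_one _)
  smul_add a x y := congrArg Additive.ofMul (map_mul _ _ _)

/-- The statement of the coprime two-vector theorem for groups follows from the module case. -/
theorem two_of_module (h : ModuleTwo.{u, v}) {A : Type v} {K : Type u} [Group A] [Finite A] [Group K]
    [Finite K] [MulDistribMulAction A K] [FaithfulSMul A K] (hA : Group.IsSolvable A)
    (hcop : (Nat.card A).Coprime (Nat.card K)) :
    ∃ x y : K, ∀ a : A, a • x = x → a • y = y → a = 1 := by
  classical
  haveI := hA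
  let ι := ↥(Nat.card K).primeFactors
  haveI hι : ∀ q : ι, Fact (q : ℕ).Prime := fun q => ⟨Nat.prime_of_mem_primeFactors q.2⟩
  choose S hS using fun q : ι =>
    CoprimeActionAut.exists_invariant_sylow (MulDistribMulAction.toMulAut A K) hcop (Or.inl hA) (q : ℕ)
  letI : ∀ q : ι, MulDistribMulAction A ↥(S q : Subgroup K) := fun q => restrict _ (hS q)
  letI : ∀ q : ι, DistribMulAction A (Additive (Abelianization ↥(S q : Subgroup K))) :=
    fun q => abAct
  -- fixed points factor through the invariant Sylow subgroups
  have hprod : ∀ B : Subgroup A,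
      Nat.card ↥(fix (K := K) B) = ∏ q : ι, Nat.card ↥((S q : Subgroup K) ⊓ fix B) := by
    intro B
    have h1 : (∏ q : ι, Nat.card ↥((S q : Subgroup K) ⊓ fix B)) =
        ∏ q : ι, (q : ℕ) ^ (Nat.card ↥(fix (K := K) B)).factorization q :=
      Finset.prod_congr rfl fun q _ => card_sylow_fix hA hcop (S q) (hS q) B
    rw [h1, Finset.univ_eq_attach, Finset.prod_attach (Nat.card K).primeFactors
      (fun n => n ^ (Nat.card ↥(fix (K := K) B)).factorization n)]
    conv_lhs => rw [← Nat.prod_factorization_pow_eq_self (n := Nat.card ↥(fix (K := K) B))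
      Nat.card_pos.ne']
    refine Finset.prod_subset ?_ ?_
    · rw [Nat.support_factorization]
      exact Nat.primeFactors_mono (Subgroup.card_subgroup_dvd_card _) Nat.card_pos.ne'
    · intro n _ hn
      simp [Finsupp.notMem_support_iff.1 hn]
  let Y := (q : ι) → ↥(S q : Subgroup K)
  have hfixY : ∀ B : Subgroup A,
      Nat.card {x : Y // ∀ a ∈ B, a • x = x} = Nat.card {k : K // ∀ a ∈ B, a • k = k} := by
    intro B
    rw [show Nat.card {k : K // ∀ a ∈ B, a • k = k} = Nat.card ↥(fix (K := K) B) from rfl, hprod B,
      ← Nat.card_pi]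
    refine Nat.card_congr
      { toFun := fun x q => ⟨(x.1 q : K), (x.1 q).2, fun a ha =>
          congrArg Subtype.val (congrFun (x.2 a ha) q)⟩
        invFun := fun f => ⟨fun q => ⟨(f q : K), (f q).2.1⟩, fun a ha =>
          funext fun q => Subtype.ext ((f q).2.2 a ha)⟩
        left_inv := fun x => rfl
        right_inv := fun f => rfl }
  let sK : K × K → Subgroup A := fun x => MulAction.stabilizer A x.1 ⊓ MulAction.stabilizer A x.2
  let sY : Y × Y → Subgroup A := fun x => MulAction.stabilizer A x.1 ⊓ MulAction.stabilizer A x.2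
  have hupper : ∀ B, Nat.card {x // B ≤ sK x} = Nat.card {y // B ≤ sY y} := by
    intro B
    have e1 : {x // B ≤ sK x} ≃ {k : K // ∀ a ∈ B, a • k = k} × {k : K // ∀ a ∈ B, a • k = k} :=
      (Equiv.subtypeEquivRight fun x =>
        ⟨fun h => ⟨fun a ha => (h ha).1, fun a ha => (h ha).2⟩,
          fun h a ha => ⟨h.1 a ha, h.2 a ha⟩⟩).trans
        Equiv.subtypeProdEquivProd
    have e2 : {x // B ≤ sY x} ≃ {k : Y // ∀ a ∈ B, a • k = k} × {k : Y // ∀ a ∈ B, a • k = k} :=
      (Equiv.subtypeEquivRight fun x =>
        ⟨fun h => ⟨fun a ha => (h ha).1, fun a ha => (h ha).2⟩,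
          fun h a ha => ⟨h.1 a ha, h.2 a ha⟩⟩).trans
        Equiv.subtypeProdEquivProd
    rw [Nat.card_congr e1, Nat.card_congr e2, Nat.card_prod, Nat.card_prod, hfixY B]
  -- a good pair in the product of the Sylow subgroups
  have hgood : ∃ y : Y × Y, sY y = ⊥ := by
    have hV : (Nat.card A).Coprime
        (Nat.card ((q : ι) → Additive (Abelianization ↥(S q : Subgroup K)))) := by
      refine hcop.coprime_dvd_right ?_
      have hK : Nat.card K = ∏ q : ι, Nat.card ↥(S q : Subgroup K) := by
        have h0 := hprod ⊥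
        have hb : fix (K := K) (⊥ : Subgroup A) = ⊤ := eq_top_iff.2 fun k _ a ha => by
          rw [Subgroup.mem_bot.1 ha, one_smul]
        simp only [hb, inf_top_eq, Subgroup.card_top] at h0
        exact h0
      rw [Nat.card_pi]
      refine (Finset.prod_dvd_prod_of_dvd _ _ fun q _ => ?_).trans hK.symm.dvd
      rw [Nat.card_congr Additive.toMul]
      exact Subgroup.card_quotient_dvd_card _
    obtain ⟨x, y, hxy⟩ := h A _ hV
    let lift : ((q : ι) → Additive (Abelianization ↥(S q : Subgroup K))) → Y :=
      fun w q => Quotient.out (w q).toMul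
    have hlift : ∀ w q, Additive.ofMul (Abelianization.of (lift w q)) = w q := fun w q =>
      congrArg Additive.ofMul (Quotient.out_eq (w q).toMul)
    refine ⟨(lift x, lift y), eq_bot_iff.2 fun a ha => ?_⟩
    obtain ⟨ha1, ha2⟩ := Subgroup.mem_inf.1 ha
    have hV1 : ∀ w, a • lift w = lift w → a • w = w := fun w hw => funext fun q => by
      rw [Pi.smul_apply, ← hlift w q]
      exact congrArg Additive.ofMul (congrArg Abelianization.of (congrFun hw q))
    have htriv := hxy a (hV1 x ha1) (hV1 y ha2)
    have hSq : ∀ (q : ι) (s : ↥(S q : Subgroup K)), a • s = s := by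
      intro q s
      let φ : Subgroup.zpowers a →* MulAut ↥(S q : Subgroup K) :=
        (MulDistribMulAction.toMulAut A ↥(S q : Subgroup K)).comp (Subgroup.zpowers a).subtype
      have hcopS : (Nat.card (Subgroup.zpowers a)).Coprime
          (Nat.card (frattini ↥(S q : Subgroup K))) :=
        (hcop.coprime_dvd_left (Subgroup.card_subgroup_dvd_card _)).coprime_dvd_right
          ((Subgroup.card_subgroup_dvd_card _).trans (Subgroup.card_subgroup_dvd_card _))
      refine CoprimeActionAut.eq_self_of_frattini φ hcopS ?_ ⟨a, Subgroup.mem_zpowers a⟩ s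
      rintro ⟨b, hb⟩ t
      refine PGroupsBasic.commutator_le_frattini (S q).2 ?_
      rw [← Abelianization.ker_of, MonoidHom.mem_ker, map_mul, map_inv, inv_mul_eq_one]
      have hb' : b ∈ MulAction.stabilizer A
          (Additive.ofMul (Abelianization.of t) : Additive (Abelianization ↥(S q : Subgroup K))) := by
        refine Subgroup.zpowers_le.2 ?_ hb
        have := congrFun (htriv (Function.update 0 q (Additive.ofMul (Abelianization.of t)))) q
        rw [Pi.smul_apply, Function.update_self] at this
        exact this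
      exact (Additive.ofMul.injective hb').symm
    have hfix : fix (K := K) (Subgroup.zpowers a) = ⊤ := by
      refine Subgroup.eq_top_of_card_eq _ ?_
      rw [hprod]
      have hb : fix (K := K) (⊥ : Subgroup A) = ⊤ := eq_top_iff.2 fun k _ c hc => by
        rw [Subgroup.mem_bot.1 hc, one_smul]
      have h0 := hprod ⊥
      simp only [hb, inf_top_eq, Subgroup.card_top] at h0
      refine Eq.trans ?_ h0.symm
      refine Finset.prod_congr rfl fun q _ => ?_
      rw [inf_eq_left.2 fun k hk c hc => Subgroup.zpowers_le.2 (show a ∈ MulAction.stabilizer A k from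
        congrArg Subtype.val (hSq q ⟨k, hk⟩)) hc]
    exact Subgroup.mem_bot.2 (eq_of_smul_eq_smul (α := K) fun k => by
      rw [one_smul]
      exact (hfix ▸ Subgroup.mem_top k : k ∈ fix (Subgroup.zpowers a)) a (Subgroup.mem_zpowers a))
  obtain ⟨y0, hy0⟩ := hgood
  have hcount := card_fibre_eq sK sY hupper ⊥
  haveI : Nonempty {y // sY y = ⊥} := ⟨⟨y0, hy0⟩⟩
  have hpos : 0 < Nat.card {x // sK x = ⊥} := hcount ▸ Nat.card_pos
  obtain ⟨⟨⟨x, y⟩, hx⟩⟩ := (Nat.card_pos_iff.1 hpos).1
  refine ⟨x, y, fun a hax hay => Subgroup.mem_bot.1 (hx ▸ ⟨hax, hay⟩ : a ∈ (⊥ : Subgroup A))⟩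

/-- The linear form of the coprime two-vector theorem follows from the module case. -/
theorem linear_of_module {V : Type u} {G : Type v} (h : ModuleTwo.{u, v}) {F : Type*} [Field F]
    [AddCommGroup V] [Module F V] [Finite V] [Group G] [Finite G] [Group.IsSolvable G]
    (ρ : Representation F G V) (hfaith : Function.Injective ρ)
    (hcop : (Nat.card G).Coprime (Nat.card V)) :
    ∃ x y : V, ∀ g : G, ρ g x = x → ρ g y = y → g = 1 := by
  letI : DistribMulAction G V :=
    { smul := fun g v => ρ g v
      one_smul := fun v => by change ρ 1 v = v; rw [map_one]; rfl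
      mul_smul := fun g k v => by change ρ (g * k) v = ρ g (ρ k v); rw [map_mul]; rfl
      smul_zero := fun g => map_zero (ρ g)
      smul_add := fun g v w => map_add (ρ g) v w }
  obtain ⟨x, y, hxy⟩ := h G V hcop
  exact ⟨x, y, fun g hx hy => hfaith (by
    rw [map_one]
    exact LinearMap.ext fun w => hxy g hx hy w)⟩

end Cfsg.Agent.TwoVecReduce53
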