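import Mathlib
import Cfsg.Agent.Lib.ThreeVec75Core

/-!
The scalar group of a core is the multiplicative group of a field.
-/

set_option autoImplicit false

namespace Cfsg.Agent.ThreeVec75

universe u v

variable {A : Type v} {V : Type u} [Group A] [AddCommGroup V] [DistribMulAction A V]

theorem Core.exists_card [Finite A] [Finite V] [Nontrivial V] (K : Core A V) {p : ℕ} [Fact p.Prime]
    (hp : ∀ v : V, p • v = 0)
    (hadd : ∀ a ∈ K.U, ∀ b ∈ K.U, (∀ v : V, a • v + b • v = 0) ∨
      ∃ c ∈ K.U, ∀ v : V, a • v + b • v = c • v) :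
    ∃ f, Nat.card K.U + 1 = p ^ f := by
  classical
  obtain ⟨w, hw⟩ := exists_ne (0 : V)
  let S : AddSubgroup V :=
    { carrier := {x | x = 0 ∨ ∃ z ∈ K.U, x = z • w}
      zero_mem' := Or.inl rfl
      add_mem' := by
        rintro x y (rfl | ⟨a, ha, rfl⟩) (rfl | ⟨b, hb, rfl⟩)
        · exact Or.inl (add_zero 0)
        · exact Or.inr ⟨b, hb, zero_add _⟩
        · exact Or.inr ⟨a, ha, add_zero _⟩
        · rcases hadd a ha b hb with h | ⟨c, hc, h⟩
          · exact Or.inl (h w)
          · exact Or.inr ⟨c, hc, h w⟩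
      neg_mem' := by
        rintro x (rfl | ⟨a, ha, rfl⟩)
        · exact Or.inl neg_zero
        · exact Or.inr ⟨K.ε * a, mul_mem K.ε_mem ha, by rw [mul_smul, K.ε_smul]⟩ }
  let f : Option K.U → S := fun o =>
    match o with
    | none => ⟨0, Or.inl rfl⟩
    | some z => ⟨(z : A) • w, Or.inr ⟨z, z.2, rfl⟩⟩
  have hf : Function.Bijective f := by
    refine ⟨?_, ?_⟩
    · intro a b h
      have h' : ((f a : S) : V) = f b := congrArg Subtype.val h
      have ne : ∀ z : A, z • w ≠ 0 := fun z e => hw (by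
        have := congrArg (z⁻¹ • ·) e; simpa using this)
      rcases a with _ | a <;> rcases b with _ | b
      · rfl
      · exact absurd h'.symm (ne _)
      · exact absurd h' (ne _)
      · exact congrArg some (Subtype.ext (K.free _ a.2 _ b.2 w hw h'))
    · rintro ⟨x, rfl | ⟨z, hz, rfl⟩⟩
      · exact ⟨none, rfl⟩
      · exact ⟨some ⟨z, hz⟩, rfl⟩
  have hS : IsPGroup p (Multiplicative S) := fun x => ⟨1, by
    apply Multiplicative.toAdd.injective
    apply Subtype.ext
    simpa using hp (x.toAdd : V)⟩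
  obtain ⟨n, hn⟩ := IsPGroup.iff_card.1 hS
  have hcard : Nat.card (Option K.U) = Nat.card K.U + 1 := by
    haveI : Fintype K.U := Fintype.ofFinite _
    simp
  refine ⟨n, ?_⟩
  rw [← hn, ← hcard, Nat.card_eq_of_bijective f hf]
  exact Nat.card_congr Multiplicative.ofAdd

theorem Core.nat_smul_mem [Nontrivial V] (K : Core A V) {p : ℕ} [Fact p.Prime]
    (hp : ∀ v : V, p • v = 0)
    (hadd : ∀ a ∈ K.U, ∀ b ∈ K.U, (∀ v : V, a • v + b • v = 0) ∨
      ∃ c ∈ K.U, ∀ v : V, a • v + b • v = c • v)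
    (n : ℕ) (hn : ¬ p ∣ n) : ∃ c ∈ K.U, ∀ v : V, n • v = c • v := by
  have key : ∀ m : ℕ, (∀ v : V, m • v = 0) ∨ ∃ c ∈ K.U, ∀ v : V, m • v = c • v := by
    intro m
    induction m with
    | zero => exact Or.inl fun v => zero_nsmul v
    | succ m ih =>
      rcases ih with h | ⟨c, hc, h⟩
      · exact Or.inr ⟨1, one_mem _, fun v => by rw [succ_nsmul, h, zero_add, one_smul]⟩
      · rcases hadd c hc 1 (one_mem _) with h' | ⟨d, hd, h'⟩
        · exact Or.inl fun v => by rw [succ_nsmul, h, ← h' v, one_smul]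
        · exact Or.inr ⟨d, hd, fun v => by rw [succ_nsmul, h, ← h' v, one_smul]⟩
  refine (key n).resolve_left fun h => hn ?_
  obtain ⟨w, hw⟩ := exists_ne (0 : V)
  rw [← addOrderOf_eq_prime (hp w) hw]
  exact addOrderOf_dvd_of_nsmul_eq_zero (h w)

end Cfsg.Agent.ThreeVec75
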