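import Mathlib
import Cfsg.Agent.Lib.ThreeVec75Combo
import Cfsg.Agent.Lib.ThreeVec75Colour

/-!
Twisted colourings with two classes of scalars: a basis is missed by the support.
-/

set_option autoImplicit false

namespace Cfsg.Agent.ThreeVec75

universe u v w

variable {r : ℕ} {X : Type w} [AddCommGroup X] [Module (ZMod r) X]
variable {U : Type u} [CommGroup U] {Γ : Type v} [Group Γ] {ε : U}

/-- Two classes of scalars suffice from rank four on. -/
theorem separated_two [Fact r.Prime] [Finite X] (T : Twist r ε Γ X) (ω : U)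
    (hω : ∀ g x, T.z g x ≠ ω ∧ T.z g x ≠ ω⁻¹) (hm : 4 ≤ Module.finrank (ZMod r) X) :
    T.Separated := by
  classical
  haveI : Module.Finite (ZMod r) X := Module.Finite.of_finite
  set m := Module.finrank (ZMod r) X with hmdef
  let b := Module.finBasis (ZMod r) X
  refine ⟨fun x => if x ∈ Set.range b then none else
    if famLab b x = 2 then some ω else some 1, fun g hg => ?_⟩
  have hinj : Function.Injective (T.σ g) := by
    intro x y e
    have := congrArg (T.σ g⁻¹) e
    rwa [← T.σ_mul, ← T.σ_mul, inv_mul_cancel, T.σ_one, T.σ_one] at this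
  have lab_one : ∀ x, famLab b x = 1 ↔ x ∈ Set.range b := by
    intro x
    unfold famLab
    split_ifs with h1 h2 <;> simp [h1]
  have hlab : ∀ x, famLab b (T.σ g x) = famLab b x ∧ (x ∉ Set.range b → T.z g x = 1) := by
    intro x
    have e := hg x
    obtain ⟨z1, z2⟩ := hω g x
    have three : ∀ t : Fin 3, t ≠ 1 → t ≠ 2 → t = 0 := by decide
    by_cases h : x ∈ Set.range b <;> by_cases h' : T.σ g x ∈ Set.range b
    · exact ⟨((lab_one _).2 h').trans ((lab_one _).2 h).symm, fun k => absurd h k⟩
    · exfalso
      simp [h, h'] at e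
      split_ifs at e
    · exfalso
      simp [h, h'] at e
      split_ifs at e
    · simp only [if_neg h, if_neg h'] at e
      by_cases l : famLab b x = 2 <;> by_cases l' : famLab b (T.σ g x) = 2
      · simp only [if_pos l, if_pos l', Option.map_some, Option.some.injEq] at e
        exact ⟨l'.trans l.symm, fun _ => mul_eq_right.1 e.symm⟩
      · exfalso
        simp only [if_pos l, if_neg l', Option.map_some, Option.some.injEq] at e
        exact z2 (eq_inv_of_mul_eq_one_left e.symm)
      · exfalso
        simp only [if_neg l, if_pos l', Option.map_some, Option.some.injEq, mul_one] at e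
        exact z1 e.symm
      · simp only [if_neg l, if_neg l', Option.map_some, Option.some.injEq, mul_one] at e
        refine ⟨?_, fun _ => e.symm⟩
        rw [three _ (mt (lab_one _).1 h') l', three _ (mt (lab_one _).1 h) l]
  have hfix := famLab_rigid b hm (T.σ g) hinj fun x => (hlab x).1
  refine fun x => ⟨hfix x, ?_⟩
  by_cases hx : x ∈ Set.range b
  swap
  · exact (hlab x).2 hx
  obtain ⟨i, rfl⟩ := hx
  obtain ⟨j, k, l, hji, hki, hli, hjk, hjl, hkl⟩ :
      ∃ j k l : Fin m, j ≠ i ∧ k ≠ i ∧ l ≠ i ∧ j ≠ k ∧ j ≠ l ∧ k ≠ l := by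
    have h3 : 3 ≤ ((Finset.univ : Finset (Fin m)).erase i).card := by
      rw [Finset.card_erase_of_mem (Finset.mem_univ i), Finset.card_univ, Fintype.card_fin]; omega
    obtain ⟨j, hj, k, hk, l, hl, a, c, d⟩ := Finset.two_lt_card.1 (show 2 < _ from h3)
    exact ⟨j, k, l, Finset.ne_of_mem_erase hj, Finset.ne_of_mem_erase hk, Finset.ne_of_mem_erase hl,
      a, c, d⟩
  have out : ∀ (y : X) p q, p ≠ q → b.repr y p ≠ 0 → b.repr y q ≠ 0 → T.z g y = 1 := by
    intro y p q hpq hp hq
    refine (hlab y).2 ?_
    rintro ⟨t, rfl⟩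
    rw [b.repr_self, Finsupp.single_apply] at hp hq
    split_ifs at hp hq with a c
    · exact hpq (a.symm.trans c)
    all_goals first | exact hp rfl | exact hq rfl
  have h1 : (1 : ZMod r) ≠ 0 := one_ne_zero
  set a := b j + b k with ha
  set c := b j + b l with hc
  have eval : ∀ p, b.repr a p = (if j = p then (1 : ZMod r) else 0) + (if k = p then 1 else 0) ∧
      b.repr c p = (if j = p then (1 : ZMod r) else 0) + (if l = p then 1 else 0) ∧
      b.repr (b i) p = if i = p then (1 : ZMod r) else 0 := by
    intro p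
    simp [ha, hc, Finsupp.single_apply]
  have q := T.quad g a c (b i - a - c)
  have za : T.z g a = 1 := out _ j k hjk (by simp [eval, hjk.symm]) (by simp [eval, hjk])
  have zc : T.z g c = 1 := out _ j l hjl (by simp [eval, hjl.symm]) (by simp [eval, hjl])
  have zd : T.z g (b i - a - c) = 1 := out _ i k hki.symm
    (by simp [eval, hji, hki, hli])
    (by simp [eval, hki.symm, hjk, hkl.symm])
  have zac : T.z g (a + c) = 1 := out _ k l hkl
    (by simp [eval, hjk, hkl.symm])
    (by simp [eval, hjl, hkl])
  have zad : T.z g (a + (b i - a - c)) = 1 := out _ i l hli.symm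
    (by simp [eval, hji, hki, hli])
    (by simp [eval, hli.symm, hjl, hkl])
  have zcd : T.z g (c + (b i - a - c)) = 1 := out _ i k hki.symm
    (by simp [eval, hji, hki, hli])
    (by simp [eval, hki.symm, hjk, hkl.symm])
  rw [za, zc, zd, zac, zad, zcd, show a + c + (b i - a - c) = b i by abel] at q
  simpa using q

end Cfsg.Agent.ThreeVec75
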