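import Cfsg.Agent.Lib.U34Code99

/-!
The finite checks for the unital of `PSU(3, 4)`.
-/

set_option autoImplicit false

namespace Cfsg.Agent.U34Code99

theorem mat_ok : suC mat13 && suC mat10 && suC mat15 = true := by decide +kernel

theorem mat13_pow : powM mat13 13 = oneC ∧ powM mat13 1 ≠ oneC := by decide +kernel

theorem mat10_pow : powM mat10 10 = oneC ∧ powM mat10 5 ≠ oneC ∧ powM mat10 2 ≠ oneC := by
  decide +kernel

theorem mat15_pow : powM mat15 15 = oneC ∧ powM mat15 5 ≠ oneC ∧ powM mat15 3 ≠ oneC := by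
  decide +kernel

theorem pt_iso : ∀ i < 65, hC (ptC i) (ptC i) = 0 ∧ ptC i ≠ (0, 0, 0) := by decide +kernel

theorem norm_cover : ∀ n < 273,
    hC (normC n) (normC n) = 0 → (List.range 65).any (fun i => ptC i == normC n) = true := by
  decide +kernel

theorem orbit_step : ∀ i < 65, i % 13 ≠ 12 →
    mvC mat13 (ptC i) = smulC (lamC i) (ptC (i + 1)) ∧ lamC i ≠ 0 := by
  decide +kernel

theorem chord_ok : ((List.range 65).all fun i => (List.range 65).all fun j =>
    (List.range 16).all fun u =>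
      let t := mulC (cC u) (hC (ptC i) (ptC j))
      !(mulC t (mulC t t) == 1) || chordSum (ptC i) (smulC u (ptC j)) % 5 == 0) = true := by
  decide +kernel

/-- One recorded chord is correct. -/
def datOk (d : ℕ × ℕ × ℕ × List (ℕ × ℕ)) : Bool :=
  let a := ptC d.1
  let b := smulC d.2.2.1 (ptC d.2.1)
  d.2.2.1 % 16 != 0 && d.2.2.2.all (fun t => t.1 % 16 != 0) && hC a b == 1 &&
    d.2.2.2.map (fun t => smulC t.1 (ptC t.2)) ==
      [addC a b, addC a (smulC (expC 5) b), addC a (smulC (expC 10) b)]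

theorem dat_ok : chordDat.all datOk = true := by decide +kernel

theorem f0_values : f0C (1, 0, 1) = 0 ∧ hC (1, 0, 1) (1, 0, 1) = 0 ∧
    ∃ i < 65, f0C (ptC i) = 1 := by
  decide +kernel

end Cfsg.Agent.U34Code99
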