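import Mathlib
import Cfsg.Prelude.Def_Classical

/-!
Kernel-checkable arithmetic in the field with 16 elements, for the unital of `PSU(3, 4)`.
-/

set_option autoImplicit false

namespace Cfsg.Agent.U34Code99

/-- Vectors of codes. -/
abbrev V3 : Type := ℕ × ℕ × ℕ

/-- Matrices of codes. -/
abbrev M3 : Type := V3 × V3 × V3

def expT : ℕ := 711541965164086305
def logT : ℕ := 14688061253356765440
def ptT : ℕ := 896203676187072517930998901188980673927144021592550195220257048234682005140677011391426934960667211289053244979648733892294655909899500684911643973224663481333406574190137160522884862592257692158106784829144299658993473823545502929168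
def lamT : ℕ := 1229321975399512030101963351658159385998024655493240983520733547502252223189657
def mat13 : M3 := ((0, 4, 13), (0, 11, 5), (1, 0, 0))
def mat10 : M3 := ((0, 0, 12), (0, 10, 0), (1, 0, 0))
def mat15 : M3 := ((0, 2, 5), (0, 4, 3), (1, 0, 0))
def chordDat : List (ℕ × ℕ × ℕ × List (ℕ × ℕ)) := [(0, 1, 8, [(8, 33), (5, 54), (13, 37)]), (0, 2, 13, [(13, 20), (8, 51), (5, 45)]), (0, 3, 9, [(9, 55), (3, 44), (10, 40)]), (0, 4, 3, [(3, 30), (10, 17), (9, 25)])]

/-- Antilogarithm. -/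
def expC (i : ℕ) : ℕ := (expT >>> (4 * (i % 15))) % 16

/-- Logarithm. -/
def logC (a : ℕ) : ℕ := (logT >>> (4 * (a % 16))) % 16

/-- Product. -/
def mulC (a b : ℕ) : ℕ :=
  if a % 16 = 0 then 0 else if b % 16 = 0 then 0 else expC (logC a + logC b)

/-- Conjugation. -/
def cC (a : ℕ) : ℕ := mulC (mulC a a) (mulC a a)

/-- Fifth power. -/
def p5 (a : ℕ) : ℕ := mulC a (cC a)

/-- Hermitian product. -/
def hC (u v : V3) : ℕ :=
  HXor.hXor (HXor.hXor (mulC u.1 (cC v.1)) (mulC u.2.1 (cC v.2.1))) (mulC u.2.2 (cC v.2.2))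

/-- Scalar multiple. -/
def smulC (c : ℕ) (v : V3) : V3 := (mulC c v.1, mulC c v.2.1, mulC c v.2.2)

/-- Sum. -/
def addC (u v : V3) : V3 := (HXor.hXor u.1 v.1, HXor.hXor u.2.1 v.2.1, HXor.hXor u.2.2 v.2.2)

/-- Bilinear product. -/
def dotC (u v : V3) : ℕ :=
  HXor.hXor (HXor.hXor (mulC u.1 v.1) (mulC u.2.1 v.2.1)) (mulC u.2.2 v.2.2)

/-- Matrix times vector. -/
def mvC (M : M3) (v : V3) : V3 := (dotC M.1 v, dotC M.2.1 v, dotC M.2.2 v)

/-- Transpose. -/
def trC (M : M3) : M3 :=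
  ((M.1.1, M.2.1.1, M.2.2.1), (M.1.2.1, M.2.1.2.1, M.2.2.2.1), (M.1.2.2, M.2.1.2.2, M.2.2.2.2))

/-- Matrix product. -/
def mmC (A B : M3) : M3 := (mvC (trC B) A.1, mvC (trC B) A.2.1, mvC (trC B) A.2.2)

/-- Identity matrix. -/
def oneC : M3 := ((1, 0, 0), (0, 1, 0), (0, 0, 1))

/-- Powers. -/
def powM (A : M3) : ℕ → M3
  | 0 => oneC
  | n + 1 => mmC (powM A n) A

/-- Determinant (in characteristic two). -/
def detC (M : M3) : ℕ :=
  dotC M.1 (HXor.hXor (mulC M.2.1.2.1 M.2.2.2.2) (mulC M.2.1.2.2 M.2.2.2.1),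
    HXor.hXor (mulC M.2.1.1 M.2.2.2.2) (mulC M.2.1.2.2 M.2.2.1),
    HXor.hXor (mulC M.2.1.1 M.2.2.2.1) (mulC M.2.1.2.1 M.2.2.1))

/-- Unitarity of the columns, and determinant one. -/
def suC (M : M3) : Bool :=
  let T := trC M
  hC T.1 T.1 == 1 && hC T.2.1 T.2.1 == 1 && hC T.2.2 T.2.2 == 1 && hC T.1 T.2.1 == 0 &&
    hC T.1 T.2.2 == 0 && hC T.2.1 T.1 == 0 && hC T.2.1 T.2.2 == 0 && hC T.2.2 T.1 == 0 &&
    hC T.2.2 T.2.1 == 0 && detC M == 1

/-- The points of the unital, ordered along the orbits of an element of order 13. -/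
def ptC (i : ℕ) : V3 :=
  let w := (ptT >>> (12 * i)) % 4096
  (w % 16, (w >>> 4) % 16, w >>> 8)

/-- Scalars along the orbits. -/
def lamC (i : ℕ) : ℕ := (lamT >>> (4 * i)) % 16

/-- A non-constant function killed by the chords. -/
def f0C (v : V3) : ℕ :=
  if v.1 % 16 = 0 then 0 else if v.2.1 % 16 = 0 then 0 else if v.2.2 % 16 = 0 then 0
  else if p5 v.2.1 = mulC (expC 5) (p5 v.1) then 1
  else if p5 v.2.1 = mulC (expC 10) (p5 v.1) then 4 else 0

/-- The chord sum. -/
def chordSum (a b : V3) : ℕ :=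
  f0C a + f0C b + f0C (addC a b) + f0C (addC a (smulC (expC 5) b)) +
    f0C (addC a (smulC (expC 10) b))

/-- Normalised vectors. -/
def normC (n : ℕ) : V3 :=
  if n < 256 then (1, n % 16, n / 16) else if n < 272 then (0, 1, n - 256) else (0, 0, 1)

/-! ### Interpretation in a field -/

variable {F : Type*} [Field F]

/-- The value of a bit. -/
def ev (F : Type*) [Field F] (b : Bool) : F := if b then 1 else 0

/-- The field element of a code. -/
def e (α : F) (n : ℕ) : F :=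
  ev F (n.testBit 0) + ev F (n.testBit 1) * α + ev F (n.testBit 2) * α ^ 2 +
    ev F (n.testBit 3) * α ^ 3

/-- The vector of a code. -/
def eV (α : F) (v : V3) : Fin 3 → F := ![e α v.1, e α v.2.1, e α v.2.2]

/-- The matrix of a code. -/
def eM (α : F) (M : M3) : Matrix (Fin 3) (Fin 3) F :=
  Matrix.of ![eV α M.1, eV α M.2.1, eV α M.2.2]

/-- Shift. -/
def dblC (n : ℕ) : ℕ := if 8 ≤ n % 16 then HXor.hXor (2 * (n % 16)) 19 else 2 * (n % 16)

variable {α : F}

theorem ev_xor [CharP F 2] (a b : Bool) : ev F (a ^^ b) = ev F a + ev F b := by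
  cases a <;> cases b <;> simp [ev, CharTwo.add_self_eq_zero]

theorem e_xor [CharP F 2] (m n : ℕ) : e α (m ^^^ n) = e α m + e α n := by
  have h : ∀ i, (m ^^^ n).testBit i = (m.testBit i ^^ n.testBit i) := fun i => Nat.testBit_xor m n i
  simp only [e, h, ev_xor]
  ring

theorem e_zero : e α 0 = 0 := by simp [e, ev]

theorem e_one : e α 1 = 1 := by simp [e, ev, show Nat.testBit 1 0 = true from rfl,
  show Nat.testBit 1 1 = false from rfl, show Nat.testBit 1 2 = false from rfl,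
  show Nat.testBit 1 3 = false from rfl]

theorem e_mod (n : ℕ) : e α (n % 16) = e α n := by
  have h : ∀ i < 4, (n % 16).testBit i = n.testBit i := fun i hi => by
    rw [show (16 : ℕ) = 2 ^ 4 from rfl, Nat.testBit_mod_two_pow]; simp [hi]
  simp only [e, h 0 (by norm_num), h 1 (by norm_num), h 2 (by norm_num), h 3 (by norm_num)]

theorem dblC_bits : ∀ n < 16, (dblC n).testBit 0 = n.testBit 3 ∧
    (dblC n).testBit 1 = (n.testBit 0 ^^ n.testBit 3) ∧ (dblC n).testBit 2 = n.testBit 1 ∧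
    (dblC n).testBit 3 = n.testBit 2 := by decide +kernel

theorem exp_zero : expC 0 = 1 := by decide +kernel

theorem exp_succ : ∀ i < 15, expC (i + 1) = dblC (expC i) % 16 := by decide +kernel

theorem exp_log : ∀ a < 16, a ≠ 0 → expC (logC a) = a := by decide +kernel

theorem exp_range : ∀ i < 15, expC i ≠ 0 := by decide +kernel

theorem e_dbl [CharP F 2] (hα : α ^ 4 = α + 1) {n : ℕ} (hn : n < 16) :
    e α (dblC n) = α * e α n := by
  obtain ⟨h0, h1, h2, h3⟩ := dblC_bits n hn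
  simp only [e, h0, h1, h2, h3, ev_xor]
  linear_combination -(ev F (n.testBit 3)) * hα

theorem expC_lt (i : ℕ) : expC i < 16 := Nat.mod_lt _ (by norm_num)

theorem e_exp_small [CharP F 2] (hα : α ^ 4 = α + 1) : ∀ i ≤ 15, e α (expC i) = α ^ i := by
  intro i
  induction i with
  | zero => intro _; rw [exp_zero, e_one, pow_zero]
  | succ i ih =>
    intro hi
    rw [exp_succ i (by omega), e_mod, e_dbl hα (expC_lt i), ih (by omega), pow_succ']

theorem pow_fifteen [CharP F 2] (hα : α ^ 4 = α + 1) : α ^ 15 = 1 := by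
  rw [← e_exp_small hα 15 le_rfl, show expC 15 = expC 0 from rfl, exp_zero, e_one]

theorem e_exp [CharP F 2] (hα : α ^ 4 = α + 1) (i : ℕ) : e α (expC i) = α ^ i := by
  rw [show expC i = expC (i % 15) by simp [expC], e_exp_small hα _ (by omega),
    ← pow_eq_pow_mod i (pow_fifteen hα)]

theorem e_log [CharP F 2] (hα : α ^ 4 = α + 1) (a : ℕ) (ha : a % 16 ≠ 0) :
    e α a = α ^ logC a := by
  rw [← e_mod, ← e_exp hα, show logC a = logC (a % 16) by simp [logC],
    exp_log _ (Nat.mod_lt _ (by norm_num)) ha]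

theorem e_ne_zero [CharP F 2] (hα : α ^ 4 = α + 1) (a : ℕ) (ha : a % 16 ≠ 0) : e α a ≠ 0 := by
  rw [e_log hα a ha]
  refine pow_ne_zero _ fun h => ?_
  simp [h] at hα

theorem e_eq_zero [CharP F 2] (hα : α ^ 4 = α + 1) (a : ℕ) : e α a = 0 ↔ a % 16 = 0 :=
  ⟨fun h => by_contra fun ha => e_ne_zero hα a ha h, fun h => by rw [← e_mod, h, e_zero]⟩

theorem e_mul [CharP F 2] (hα : α ^ 4 = α + 1) (a b : ℕ) : e α (mulC a b) = e α a * e α b := by
  unfold mulC
  split_ifs with ha hb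
  · rw [(e_eq_zero hα a).2 ha, e_zero, zero_mul]
  · rw [(e_eq_zero hα b).2 hb, e_zero, mul_zero]
  · rw [e_exp hα, e_log hα a ha, e_log hα b hb, pow_add]

theorem e_inj [CharP F 2] (hα : α ^ 4 = α + 1) {a b : ℕ} (ha : a < 16) (hb : b < 16)
    (h : e α a = e α b) : a = b := by
  have hx : HXor.hXor a b < 16 := Nat.xor_lt_two_pow (n := 4) ha hb
  have h0 : HXor.hXor a b % 16 = 0 :=
    (e_eq_zero hα _).1 (by rw [e_xor, h, CharTwo.add_self_eq_zero])
  rw [Nat.mod_eq_of_lt hx] at h0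
  exact Nat.xor_eq_zero_iff.1 h0

theorem e_cC [CharP F 2] (hα : α ^ 4 = α + 1) (a : ℕ) : e α (cC a) = e α a ^ 4 := by
  rw [cC, e_mul hα, e_mul hα]; ring

theorem e_p5 [CharP F 2] (hα : α ^ 4 = α + 1) (a : ℕ) : e α (p5 a) = e α a ^ 5 := by
  rw [p5, e_mul hα, e_cC hα]; ring

theorem mulC_lt (a b : ℕ) : mulC a b < 16 := by
  unfold mulC; split_ifs <;> first | exact expC_lt _ | norm_num

theorem p5_lt (a : ℕ) : p5 a < 16 := mulC_lt _ _

theorem dotC_lt (u v : V3) : dotC u v < 16 :=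
  Nat.xor_lt_two_pow (n := 4) (Nat.xor_lt_two_pow (n := 4) (mulC_lt _ _) (mulC_lt _ _)) (mulC_lt _ _)

theorem e_hC [CharP F 2] (hα : α ^ 4 = α + 1) (u v : V3) :
    e α (hC u v) = Cfsg.hermForm 3 F 4 (eV α u) (eV α v) := by
  simp [hC, Cfsg.hermForm, Fin.sum_univ_three, eV, e_xor, e_mul hα, e_cC hα]

theorem eV_smul [CharP F 2] (hα : α ^ 4 = α + 1) (c : ℕ) (v : V3) :
    eV α (smulC c v) = e α c • eV α v := by
  funext i; fin_cases i <;> simp [eV, smulC, e_mul hα]

theorem eV_add [CharP F 2] (u v : V3) : eV α (addC u v) = eV α u + eV α v := by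
  funext i; fin_cases i <;> simp [eV, addC, e_xor]

theorem eV_mv [CharP F 2] (hα : α ^ 4 = α + 1) (M : M3) (v : V3) :
    eV α (mvC M v) = (eM α M).mulVec (eV α v) := by
  funext i
  fin_cases i <;>
    simp [eV, eM, mvC, dotC, e_xor, e_mul hα, Matrix.mulVec, dotProduct, Fin.sum_univ_three]

theorem eM_mul [CharP F 2] (hα : α ^ 4 = α + 1) (A B : M3) :
    eM α (mmC A B) = eM α A * eM α B := by
  ext i j
  fin_cases i <;> fin_cases j <;>
    simp [eM, eV, mmC, mvC, trC, dotC, e_xor, e_mul hα, Matrix.mul_apply, Fin.sum_univ_three] <;>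
    ring

theorem eM_one : eM α oneC = 1 := by
  ext i j
  fin_cases i <;> fin_cases j <;> simp [eM, eV, oneC, e_zero, e_one]

theorem eM_pow [CharP F 2] (hα : α ^ 4 = α + 1) (A : M3) : ∀ n, eM α (powM A n) = eM α A ^ n
  | 0 => by rw [powM, eM_one, pow_zero]
  | n + 1 => by rw [powM, eM_mul hα, eM_pow hα A n, pow_succ]

theorem eM_det [CharP F 2] (hα : α ^ 4 = α + 1) (M : M3) : (eM α M).det = e α (detC M) := by
  rw [Matrix.det_fin_three]
  simp [eM, eV, detC, dotC, e_xor, e_mul hα, CharTwo.sub_eq_add]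
  ring

end Cfsg.Agent.U34Code99
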