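import Cfsg.Agent.Lib.U34Check99
import Cfsg.Agent.Lib.SU3TwoHeisEmbed

/-!
An `𝔽₅`-module of `SU(3, 4)` on which the elements of order 13 act without fixed points: functions
on the unital killed by the chords, modulo constants.
-/

set_option autoImplicit false
set_option linter.unusedSectionVars false

noncomputable section

namespace Cfsg.Agent.U34Module99

open Cfsg Cfsg.Agent.OrthUnitaryHerm Cfsg.Agent.U34Code99
open scoped Matrix

variable {F : Type*} [Field F] [Fintype F]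

theorem card_sq (hF : Fintype.card F = 16) : Fintype.card F = 4 ^ 2 := by rw [hF]; norm_num

theorem charP_two (hF : Fintype.card F = 16) : CharP F 2 :=
  Cfsg.Agent.SU3TwoHeisEmbed.charP_two (n := 2) (by norm_num) (by rw [hF]; norm_num)

theorem exists_alpha (hF : Fintype.card F = 16) : ∃ α : F, α ^ 4 = α + 1 := by
  classical
  have : CharP F 2 := charP_two hF
  by_contra hno
  push Not at hno
  let q : Polynomial F :=
    .X ^ 12 + .X ^ 9 + .X ^ 8 + .X ^ 6 + .X ^ 4 + .X ^ 3 + .X ^ 2 + .X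
  have hq : ∀ x : F, q.eval x = 0 := by
    intro x
    have h := FiniteField.pow_card x
    rw [hF] at h
    have h2 : (2 : F) = 0 := CharTwo.two_eq_zero
    have : (x ^ 4 - (x + 1)) * q.eval x = 0 := by
      simp only [q, Polynomial.eval_add, Polynomial.eval_pow, Polynomial.eval_X]
      linear_combination h - (x ^ 2 + x ^ 3 + x ^ 4 + x ^ 9) * h2
    exact (mul_eq_zero.1 this).resolve_left (sub_ne_zero.2 (hno x))
  have hdeg : q.natDegree = 12 := by
    simp only [q]; compute_degree!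
  have h0 := Polynomial.eq_zero_of_natDegree_lt_card_of_eval_eq_zero q (ι := F) (f := id)
    Function.injective_id (fun x => hq x) (by rw [hF, hdeg]; norm_num)
  rw [h0] at hdeg
  simp at hdeg

/-- The matrix of an element. -/
abbrev toM (g : SU 3 F 4) : Matrix (Fin 3) (Fin 3) F :=
  ((g : Matrix.SpecialLinearGroup (Fin 3) F) : Matrix (Fin 3) (Fin 3) F)

theorem toM_mul (g h : SU 3 F 4) : toM (g * h) = toM g * toM h := rfl

theorem toM_one : toM (1 : SU 3 F 4) = 1 := rfl

theorem toM_pow (g : SU 3 F 4) : ∀ n : ℕ, toM (g ^ n) = toM g ^ n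
  | 0 => rfl
  | n + 1 => by rw [pow_succ, toM_mul, toM_pow g n, pow_succ]

theorem toM_inj {g h : SU 3 F 4} (e : toM g = toM h) : g = h := Subtype.ext (Subtype.ext e)

/-- Isotropic nonzero vectors. -/
def Iso (v : Fin 3 → F) : Prop := v ≠ 0 ∧ hermForm 3 F 4 v v = 0

theorem iso_smul {c : F} (hc : c ≠ 0) {v : Fin 3 → F} : Iso (c • v) ↔ Iso v := by
  simp [Iso, hc, herm_smul_left, herm_smul_right]

theorem iso_mulVec (g : SU 3 F 4) {v : Fin 3 → F} : Iso (toM g *ᵥ v) ↔ Iso v := by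
  have h : toM g⁻¹ *ᵥ (toM g *ᵥ v) = v := by
    rw [Matrix.mulVec_mulVec, ← toM_mul, inv_mul_cancel, toM_one, Matrix.one_mulVec]
  refine and_congr (not_congr ⟨fun e => ?_, fun e => by rw [e, Matrix.mulVec_zero]⟩) ?_
  · rw [← h, e, Matrix.mulVec_zero]
  · rw [isU_of_mem_SU g]

/-- Functions on the unital with vanishing chord sums; `ω` is a primitive cube root of unity. -/
def W (ω : F) : AddSubgroup ((Fin 3 → F) → ZMod 5) where
  carrier := {f | (∀ v, ¬ Iso v → f v = 0) ∧ (∀ (c : F) v, c ≠ 0 → f (c • v) = f v) ∧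
    ∀ a b, Iso a → Iso b → hermForm 3 F 4 a b = 1 →
      f a + f b + f (a + b) + f (a + ω • b) + f (a + ω ^ 2 • b) = 0}
  zero_mem' := ⟨fun _ _ => rfl, fun _ _ _ => rfl, fun _ _ _ _ _ => by simp⟩
  add_mem' := by
    rintro f g ⟨f1, f2, f3⟩ ⟨g1, g2, g3⟩
    refine ⟨fun v hv => ?_, fun c v hc => ?_, fun a b ha hb hab => ?_⟩
    · simp [f1 v hv, g1 v hv]
    · simp [f2 c v hc, g2 c v hc]
    · have := congrArg₂ (· + ·) (f3 a b ha hb hab) (g3 a b ha hb hab)
      simp only [Pi.add_apply, add_zero] at this ⊢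
      linear_combination this
  neg_mem' := by
    rintro f ⟨f1, f2, f3⟩
    refine ⟨fun v hv => ?_, fun c v hc => ?_, fun a b ha hb hab => ?_⟩
    · simp [f1 v hv]
    · simp [f2 c v hc]
    · have := f3 a b ha hb hab
      simp only [Pi.neg_apply]
      linear_combination -this

/-- The constants. -/
def K (ω : F) : AddSubgroup (W ω) where
  carrier := {f | ∃ c : ZMod 5, ∀ v, Iso v → f.1 v = c}
  zero_mem' := ⟨0, fun _ _ => rfl⟩
  add_mem' := by
    rintro f g ⟨c, hc⟩ ⟨d, hd⟩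
    exact ⟨c + d, fun v hv => by simp [hc v hv, hd v hv]⟩
  neg_mem' := by
    rintro f ⟨c, hc⟩
    exact ⟨-c, fun v hv => by simp [hc v hv]⟩

/-- The module. -/
abbrev V (ω : F) : Type _ := W ω ⧸ K ω

/-- Translation of functions. -/
def transW (ω : F) (g : SU 3 F 4) : W ω →+ W ω where
  toFun f := ⟨fun v => f.1 (toM g⁻¹ *ᵥ v), by
    obtain ⟨f1, f2, f3⟩ := f.2
    refine ⟨fun v hv => f1 _ fun h => hv ((iso_mulVec g⁻¹).1 h), fun c v hc => ?_,
      fun a b ha hb hab => ?_⟩
    · show f.1 _ = f.1 _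
      rw [Matrix.mulVec_smul]; exact f2 c _ hc
    · show f.1 _ + f.1 _ + f.1 _ + f.1 _ + f.1 _ = 0
      simp only [Matrix.mulVec_add, Matrix.mulVec_smul]
      exact f3 _ _ ((iso_mulVec g⁻¹).2 ha) ((iso_mulVec g⁻¹).2 hb)
        (by rw [isU_of_mem_SU g⁻¹]; exact hab)⟩
  map_zero' := rfl
  map_add' _ _ := rfl

theorem transW_apply (ω : F) (g : SU 3 F 4) (f : W ω) (v : Fin 3 → F) :
    (transW ω g f).1 v = f.1 (toM g⁻¹ *ᵥ v) := rfl

/-- The action on the module. -/
def transV (ω : F) (g : SU 3 F 4) : V ω →+ V ω :=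
  QuotientAddGroup.map (K ω) (K ω) (transW ω g) (by
    rintro f ⟨c, hc⟩
    exact ⟨c, fun v hv => hc _ ((iso_mulVec g⁻¹).2 hv)⟩)

theorem transV_mk (ω : F) (g : SU 3 F 4) (f : W ω) :
    transV ω g (QuotientAddGroup.mk f) = QuotientAddGroup.mk (transW ω g f) := rfl

theorem transV_one (ω : F) (x : V ω) : transV ω 1 x = x := by
  induction x using QuotientAddGroup.induction_on with
  | _ f =>
    rw [transV_mk]
    congr 1
    refine Subtype.ext (funext fun v => ?_)
    rw [transW_apply, inv_one, toM_one, Matrix.one_mulVec]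

theorem transV_mul (ω : F) (g h : SU 3 F 4) (x : V ω) :
    transV ω (g * h) x = transV ω g (transV ω h x) := by
  induction x using QuotientAddGroup.induction_on with
  | _ f =>
    rw [transV_mk, transV_mk, transV_mk]
    congr 1
    refine Subtype.ext (funext fun v => ?_)
    rw [transW_apply, transW_apply, transW_apply, mul_inv_rev, toM_mul, Matrix.mulVec_mulVec]

/-- The action on powers of the module, written multiplicatively. -/
def powAut (ω : F) (N : ℕ) : SU 3 F 4 →* MulAut (Multiplicative (Fin N → V ω)) where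
  toFun g :=
    { toFun := fun x => Multiplicative.ofAdd fun i => transV ω g (Multiplicative.toAdd x i)
      invFun := fun x => Multiplicative.ofAdd fun i => transV ω g⁻¹ (Multiplicative.toAdd x i)
      left_inv := fun x => by
        apply Multiplicative.toAdd.injective
        funext i
        simp [← transV_mul, transV_one]
      right_inv := fun x => by
        apply Multiplicative.toAdd.injective
        funext i
        simp [← transV_mul, transV_one]
      map_mul' := fun x y => by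
        apply Multiplicative.toAdd.injective
        funext i
        simp }
  map_one' := by
    ext x
    simp [transV_one]
  map_mul' g h := by
    ext x
    simp [transV_mul]

theorem five_nsmul (ω : F) (x : V ω) : 5 • x = 0 := by
  induction x using QuotientAddGroup.induction_on with
  | _ f =>
    rw [← QuotientAddGroup.mk_nsmul, show 5 • f = 0 from Subtype.ext (funext fun v => ?_)]
    · rfl
    · simp only [AddSubgroup.coe_nsmul, Pi.smul_apply, ZeroMemClass.coe_zero, Pi.zero_apply,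
        nsmul_eq_mul]
      rw [show ((5 : ℕ) : ZMod 5) = 0 from rfl, zero_mul]

section Code

variable [CharP F 2] {α : F} (hα : α ^ 4 = α + 1) (hF : Fintype.card F = 16)
include hα hF

theorem e_surj (x : F) : ∃ n < 16, e α n = x := by
  have hinj : Function.Injective fun n : Fin 16 => e α n := fun a b h =>
    Fin.ext (e_inj hα a.2 b.2 h)
  have hbij := (Fintype.bijective_iff_injective_and_card _).2 ⟨hinj, by simp [hF]⟩
  obtain ⟨n, hn⟩ := hbij.2 x
  exact ⟨n, n.2, hn⟩

theorem iso_ptC {i : ℕ} (hi : i < 65) : Iso (eV α (ptC i)) := by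
  obtain ⟨h1, h2⟩ := pt_iso i hi
  refine ⟨fun h => h2 ?_, by rw [← e_hC hα, h1, e_zero]⟩
  have key : ∀ i < 65, (ptC i).1 < 16 ∧ (ptC i).2.1 < 16 ∧ (ptC i).2.2 < 16 := by decide +kernel
  obtain ⟨k1, k2, k3⟩ := key i hi
  have e1 := congrFun h 0
  have e2 := congrFun h 1
  have e3 := congrFun h 2
  simp [eV, e_eq_zero hα, Nat.mod_eq_of_lt k1, Nat.mod_eq_of_lt k2, Nat.mod_eq_of_lt k3] at e1 e2 e3
  exact Prod.ext e1 (Prod.ext e2 e3)

theorem exists_point {v : Fin 3 → F} (hv : Iso v) :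
    ∃ i < 65, ∃ c : F, c ≠ 0 ∧ v = c • eV α (ptC i) := by
  obtain ⟨n, hn, c, hc, rfl⟩ : ∃ n < 273, ∃ c : F, c ≠ 0 ∧ v = c • eV α (normC n) := by
    by_cases h0 : v 0 = 0
    · by_cases h1 : v 1 = 0
      · by_cases h2 : v 2 = 0
        · exact absurd (funext fun i => by fin_cases i <;> assumption) hv.1
        · refine ⟨272, by norm_num, v 2, h2, ?_⟩
          funext i; fin_cases i <;> simp [eV, normC, e_zero, e_one, h0, h1]
      · obtain ⟨z, hz, hzv⟩ := e_surj hα hF (v 2 / v 1)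
        refine ⟨256 + z, by omega, v 1, h1, ?_⟩
        have : normC (256 + z) = (0, 1, z) := by
          unfold normC
          rw [if_neg (by omega), if_pos (by omega), Nat.add_sub_cancel_left]
        funext i
        fin_cases i <;> simp [this, eV, e_zero, e_one, h0, hzv, mul_div_cancel₀ _ h1]
    · obtain ⟨y, hy, hyv⟩ := e_surj hα hF (v 1 / v 0)
      obtain ⟨z, hz, hzv⟩ := e_surj hα hF (v 2 / v 0)
      refine ⟨y + 16 * z, by omega, v 0, h0, ?_⟩
      have : normC (y + 16 * z) = (1, y, z) := by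
        unfold normC
        rw [if_pos (by omega)]
        refine Prod.ext rfl (Prod.ext ?_ ?_) <;> simp <;> omega
      funext i
      fin_cases i <;> simp [this, eV, e_one, hyv, hzv, mul_div_cancel₀ _ h0]
  have h := ((iso_smul hc).1 hv).2
  rw [← e_hC hα, e_eq_zero hα] at h
  have hlt : hC (normC n) (normC n) < 16 := Nat.xor_lt_two_pow (n := 4)
    (Nat.xor_lt_two_pow (n := 4) (mulC_lt _ _) (mulC_lt _ _)) (mulC_lt _ _)
  rw [Nat.mod_eq_of_lt hlt] at h
  obtain ⟨i, hi, he⟩ := List.any_eq_true.1 (norm_cover n hn h)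
  exact ⟨i, List.mem_range.1 hi, c, hc, by rw [eq_of_beq he]⟩

theorem exists_su (M : M3) (hM : suC M = true) : ∃ g : SU 3 F 4, toM g = eM α M := by
  simp only [suC, Bool.and_eq_true, beq_iff_eq] at hM
  obtain ⟨⟨⟨⟨⟨⟨⟨⟨⟨a00, a11⟩, a22⟩, a01⟩, a02⟩, a10⟩, a12⟩, a20⟩, a21⟩, hdet⟩ := hM
  refine ⟨mkSU (eM α M) (by rw [eM_det hα, hdet, e_one]) ?_, rfl⟩
  intro u v
  have hcol : ∀ j, (eM α M) *ᵥ j = j 0 • eV α (trC M).1 + j 1 • eV α (trC M).2.1 +
      j 2 • eV α (trC M).2.2 := by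
    intro j
    funext i
    fin_cases i <;>
      simp [eM, eV, trC, Matrix.mulVec, dotProduct, Fin.sum_univ_three] <;> ring
  simp only [hcol, herm_add_left, herm_add_right (card_sq hF), herm_smul_left, herm_smul_right,
    ← e_hC hα, a00, a11, a22, a01, a02, a10, a12, a20, a21, e_zero, e_one]
  simp [hermForm, Fin.sum_univ_three]
  ring

open Classical in
/-- A non-constant function killed by the chords. -/
def f0 (α : F) (v : Fin 3 → F) : ZMod 5 :=
  if Iso v ∧ v 0 ≠ 0 ∧ v 1 ≠ 0 ∧ v 2 ≠ 0 then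
    (if v 1 ^ 5 = α ^ 5 * v 0 ^ 5 then 1 else if v 1 ^ 5 = α ^ 10 * v 0 ^ 5 then 4 else 0)
  else 0

theorem f0_code {v : V3} (hv : Iso (eV α v)) : f0 α (eV α v) = (f0C v : ZMod 5) := by
  have heq : ∀ a b : ℕ, a < 16 → b < 16 → (e α a = e α b ↔ a = b) :=
    fun a b ha hb => ⟨e_inj hα ha hb, fun h => h ▸ rfl⟩
  have h5 : ∀ k, (e α v.2.1 ^ 5 = α ^ k * e α v.1 ^ 5) ↔ p5 v.2.1 = mulC (expC k) (p5 v.1) := by
    intro k
    rw [← heq _ _ (p5_lt _) (mulC_lt _ _), e_mul hα, e_exp hα, e_p5 hα, e_p5 hα]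
  have z : ∀ a : ℕ, e α a = 0 ↔ a % 16 = 0 := e_eq_zero hα
  unfold f0 f0C
  by_cases h0 : v.1 % 16 = 0
  · rw [if_neg (fun h => h.2.1 ((z _).2 h0)), if_pos h0, Nat.cast_zero]
  by_cases h1 : v.2.1 % 16 = 0
  · rw [if_neg (fun h => h.2.2.1 ((z _).2 h1)), if_neg h0, if_pos h1, Nat.cast_zero]
  by_cases h2 : v.2.2 % 16 = 0
  · rw [if_neg (fun h => h.2.2.2 ((z _).2 h2)), if_neg h0, if_neg h1, if_pos h2, Nat.cast_zero]
  rw [if_pos ⟨hv, mt (z v.1).1 h0, mt (z v.2.1).1 h1, mt (z v.2.2).1 h2⟩, if_neg h0, if_neg h1,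
    if_neg h2]
  by_cases g1 : p5 v.2.1 = mulC (expC 5) (p5 v.1)
  · rw [if_pos (show eV α v 1 ^ 5 = α ^ 5 * eV α v 0 ^ 5 from (h5 5).2 g1), if_pos g1, Nat.cast_one]
  rw [if_neg (fun h : eV α v 1 ^ 5 = α ^ 5 * eV α v 0 ^ 5 => g1 ((h5 5).1 h)), if_neg g1]
  by_cases g2 : p5 v.2.1 = mulC (expC 10) (p5 v.1)
  · rw [if_pos (show eV α v 1 ^ 5 = α ^ 10 * eV α v 0 ^ 5 from (h5 10).2 g2), if_pos g2]; rfl
  · rw [if_neg (fun h : eV α v 1 ^ 5 = α ^ 10 * eV α v 0 ^ 5 => g2 ((h5 10).1 h)), if_neg g2,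
      Nat.cast_zero]

theorem f0_smul {c : F} (hc : c ≠ 0) (v : Fin 3 → F) : f0 α (c • v) = f0 α v := by
  have h : ∀ k, ((c • v) 1 ^ 5 = α ^ k * (c • v) 0 ^ 5) ↔ v 1 ^ 5 = α ^ k * v 0 ^ 5 := by
    intro k
    simp only [Pi.smul_apply, smul_eq_mul]
    rw [mul_pow, mul_pow, mul_left_comm, mul_right_inj' (pow_ne_zero _ hc)]
  have hne : ∀ i, (c • v) i ≠ 0 ↔ v i ≠ 0 := fun i => by simp [hc]
  unfold f0
  by_cases hI : Iso v ∧ v 0 ≠ 0 ∧ v 1 ≠ 0 ∧ v 2 ≠ 0
  · rw [if_pos hI, if_pos ⟨(iso_smul hc).2 hI.1, (hne 0).2 hI.2.1, (hne 1).2 hI.2.2.1,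
      (hne 2).2 hI.2.2.2⟩]
    by_cases g1 : v 1 ^ 5 = α ^ 5 * v 0 ^ 5
    · rw [if_pos g1, if_pos ((h 5).2 g1)]
    rw [if_neg g1, if_neg (mt (h 5).1 g1)]
    by_cases g2 : v 1 ^ 5 = α ^ 10 * v 0 ^ 5
    · rw [if_pos g2, if_pos ((h 10).2 g2)]
    · rw [if_neg g2, if_neg (mt (h 10).1 g2)]
  · rw [if_neg hI, if_neg fun g => hI ⟨(iso_smul hc).1 g.1, (hne 0).1 g.2.1, (hne 1).1 g.2.2.1,
      (hne 2).1 g.2.2.2⟩]

theorem omega_sq : (α ^ 5) ^ 2 = e α (expC 10) := by rw [e_exp hα, ← pow_mul]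

theorem f0_mem : f0 α ∈ W (α ^ 5) := by
  refine ⟨fun v hv => by simp [f0, hv], fun c v hc => f0_smul hα hF hc v, ?_⟩
  intro a b ha hb hab
  obtain ⟨i, hi, c, hc, rfl⟩ := exists_point hα hF ha
  obtain ⟨j, hj, d, hd, rfl⟩ := exists_point hα hF hb
  obtain ⟨u, hu, huv⟩ := e_surj hα hF (d / c)
  have hd' : d = c * e α u := by rw [huv, mul_div_cancel₀ _ hc]
  have hu0 : e α u ≠ 0 := by rw [huv]; exact div_ne_zero hd hc
  rw [herm_smul_left, herm_smul_right, ← e_hC hα] at hab
  obtain ⟨t, ht⟩ : ∃ t, t = mulC (cC u) (hC (ptC i) (ptC j)) := ⟨_, rfl⟩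
  have het : e α t * c ^ 5 = 1 := by
    rw [ht, e_mul hα, e_cC hα, ← hab, hd']; ring
  have hc15 : (c ^ 5) ^ 3 = 1 := by
    rw [← pow_mul]
    have := FiniteField.pow_card_sub_one_eq_one c hc
    rwa [hF] at this
  have ht3 : mulC t (mulC t t) = 1 := by
    refine e_inj hα (mulC_lt _ _) (by norm_num) ?_
    rw [e_mul hα, e_mul hα, e_one]
    have h3 : (e α t * c ^ 5) ^ 3 = 1 := by rw [het, one_pow]
    rw [mul_pow, hc15, mul_one] at h3
    rw [← h3]; ring
  have hchk : chordSum (ptC i) (smulC u (ptC j)) % 5 = 0 := by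
    have := List.all_eq_true.1 chord_ok i (List.mem_range.2 hi)
    have := List.all_eq_true.1 this j (List.mem_range.2 hj)
    have := List.all_eq_true.1 this u (List.mem_range.2 hu)
    simpa [← ht, ht3] using this
  have isoI : Iso (eV α (ptC i)) := iso_ptC hα hF hi
  have isoJ : Iso (eV α (smulC u (ptC j))) := by
    rw [eV_smul hα]; exact (iso_smul hu0).2 (iso_ptC hα hF hj)
  have ha' : c • eV α (ptC i) = c • eV α (ptC i) := rfl
  have hb' : d • eV α (ptC j) = c • eV α (smulC u (ptC j)) := by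
    rw [eV_smul hα, smul_smul, hd']
  have hω : ∀ k : F, c • eV α (ptC i) + k • d • eV α (ptC j) =
      c • (eV α (ptC i) + k • eV α (smulC u (ptC j))) := by
    intro k; rw [hb', smul_add, smul_comm k c]
  rw [show c • eV α (ptC i) + d • eV α (ptC j) =
      c • (eV α (ptC i) + (1 : F) • eV α (smulC u (ptC j))) by rw [← hω, one_smul],
    hω, hω, hb', f0_smul hα hF hc, f0_smul hα hF hc, f0_smul hα hF hc, f0_smul hα hF hc,
    f0_smul hα hF hc, omega_sq hα hF, show α ^ 5 = e α (expC 5) from (e_exp hα 5).symm,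
    one_smul, ← eV_smul hα, ← eV_smul hα, ← eV_add, ← eV_add, ← eV_add]
  have hij : hermForm 3 F 4 (eV α (ptC i)) (eV α (smulC u (ptC j))) * c ^ 5 = 1 := by
    rw [eV_smul hα, herm_smul_right, ← e_hC hα, ← e_cC hα, ← e_mul hα, ← ht]; exact het
  have hji : hermForm 3 F 4 (eV α (smulC u (ptC j))) (eV α (ptC i)) =
      hermForm 3 F 4 (eV α (ptC i)) (eV α (smulC u (ptC j))) ^ 4 :=
    (herm_conj (card_sq hF) _ _)
  have isoSum : ∀ k : ℕ, e α k ^ 3 = 1 →
      Iso (eV α (addC (ptC i) (smulC k (smulC u (ptC j))))) := by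
    intro k hk
    have hH : hermForm 3 F 4 (eV α (ptC i)) (eV α (smulC u (ptC j))) ^ 3 = 1 := by
      have h3 : (hermForm 3 F 4 (eV α (ptC i)) (eV α (smulC u (ptC j))) * c ^ 5) ^ 3 = 1 := by
        rw [hij, one_pow]
      rwa [mul_pow, hc15, mul_one] at h3
    refine ⟨fun h0 => ?_, ?_⟩
    · rw [eV_add, eV_smul hα k] at h0
      have := congrArg (fun w => hermForm 3 F 4 w (eV α (smulC u (ptC j)))) h0
      simp only [herm_add_left, herm_smul_left, isoJ.2, mul_zero, add_zero] at this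
      rw [show hermForm 3 F 4 (0 : Fin 3 → F) (eV α (smulC u (ptC j))) = 0 by simp [hermForm]]
        at this
      rw [this, zero_mul] at hij
      exact zero_ne_one hij
    · rw [eV_add, eV_smul hα k, herm_add_left, herm_add_right (card_sq hF),
        herm_add_right (card_sq hF), herm_smul_left, herm_smul_left, herm_smul_right,
        herm_smul_right, isoI.2, isoJ.2, hji]
      have h2 : (2 : F) = 0 := CharTwo.two_eq_zero
      linear_combination (hermForm 3 F 4 (eV α (ptC i)) (eV α (smulC u (ptC j))) * e α k) * hk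
        + (hermForm 3 F 4 (eV α (ptC i)) (eV α (smulC u (ptC j))) * e α k) * hH
        + (hermForm 3 F 4 (eV α (ptC i)) (eV α (smulC u (ptC j))) * e α k) * h2
  have iso1 : Iso (eV α (addC (ptC i) (smulC u (ptC j)))) := by
    have := isoSum 1 (by rw [e_one, one_pow])
    rwa [eV_add, eV_smul hα 1, e_one, one_smul, ← eV_add] at this
  have iso5 := isoSum (expC 5) (by rw [e_exp hα, ← pow_mul]; exact pow_fifteen hα)
  have iso10 := isoSum (expC 10) (by
    rw [e_exp hα, ← pow_mul, show 10 * 3 = 15 * 2 from rfl, pow_mul, pow_fifteen hα, one_pow])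
  rw [f0_code hα hF isoI, f0_code hα hF isoJ, f0_code hα hF iso1, f0_code hα hF iso5,
    f0_code hα hF iso10]
  unfold chordSum at hchk
  have := (ZMod.natCast_eq_zero_iff _ 5).2 (Nat.dvd_of_mod_eq_zero hchk) 
  simpa only [Nat.cast_add] using this

end Code

theorem nontrivial_V (hF : Fintype.card F = 16) {α : F} (hα : α ^ 4 = α + 1) :
    ∃ x : V (α ^ 5), x ≠ 0 := by
  have : CharP F 2 := charP_two hF
  refine ⟨QuotientAddGroup.mk ⟨f0 α, f0_mem hα hF⟩, fun h => ?_⟩
  obtain ⟨c, hc⟩ := (QuotientAddGroup.eq_zero_iff _).1 h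
  obtain ⟨h0, hiso, i, hi, h1⟩ := f0_values
  have isoA : Iso (eV α (1, 0, 1)) := by
    refine ⟨fun h => ?_, by rw [← e_hC hα, hiso, e_zero]⟩
    have := congrFun h 0
    simp [eV, e_one] at this
  have e1 := hc _ isoA
  have e2 := hc _ (iso_ptC hα hF hi)
  simp only [f0_code hα hF isoA, f0_code hα hF (iso_ptC hα hF hi), h0, h1, Nat.cast_zero,
    Nat.cast_one] at e1 e2
  exact absurd (e1.trans e2.symm) (by decide)

/-- An element of order 13 fixes nothing. -/
theorem fixed_thirteen (hF : Fintype.card F = 16) {α : F} (hα : α ^ 4 = α + 1) {s : SU 3 F 4}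
    (hs : toM s = eM α mat13) (x : V (α ^ 5)) (hx : transV (α ^ 5) s x = x) : x = 0 := by
  have : CharP F 2 := charP_two hF
  induction x using QuotientAddGroup.induction_on with
  | _ f =>
  rw [transV_mk, QuotientAddGroup.eq] at hx
  obtain ⟨d, hd⟩ := hx
  simp only [AddSubgroup.coe_add, AddSubgroup.coe_neg, Pi.add_apply, Pi.neg_apply,
    transW_apply] at hd
  have step : ∀ v, Iso v → f.1 (toM s *ᵥ v) = f.1 v + d := by
    intro v hv
    have h := hd _ ((iso_mulVec s).2 hv)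
    rw [Matrix.mulVec_mulVec, ← toM_mul, inv_mul_cancel, toM_one, Matrix.one_mulVec] at h
    rw [← h]; abel
  have iter : ∀ (k : ℕ) v, Iso v → f.1 (toM (s ^ k) *ᵥ v) = f.1 v + k • d := by
    intro k
    induction k with
    | zero => intro v _; simp [toM_one]
    | succ k ih =>
      intro v hv
      rw [pow_succ s k, toM_mul, ← Matrix.mulVec_mulVec, ih _ ((iso_mulVec s).2 hv), step v hv,
        succ_nsmul]
      abel
  have hd0 : d = 0 := by
    have h := iter 13 _ (iso_ptC hα hF (i := 0) (by norm_num))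
    rw [toM_pow, hs, ← eM_pow hα, mat13_pow.1, eM_one, Matrix.one_mulVec] at h
    have : ∀ z : ZMod 5, 13 • z = 0 → z = 0 := by decide
    exact this d (add_left_cancel (a := f.1 (eV α (ptC 0))) (by rw [← h, add_zero]))
  subst hd0
  obtain ⟨f1, f2, f3⟩ := f.2
  set X : ℕ → ZMod 5 := fun i => f.1 (eV α (ptC i)) with hX
  have horb : ∀ i < 65, X i = X (13 * (i / 13)) := by
    intro i
    induction i with
    | zero => simp
    | succ i ih =>
      intro hi
      by_cases h : i % 13 = 12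
      · rw [show 13 * ((i + 1) / 13) = i + 1 by omega]
      · rw [show (i + 1) / 13 = i / 13 by omega, ← ih (by omega)]
        obtain ⟨h1, h2⟩ := orbit_step i (by omega) h
        have hh := step _ (iso_ptC hα hF (i := i) (by omega))
        rw [hs, ← eV_mv hα, h1, eV_smul hα, add_zero] at hh
        have hl : lamC i < 16 := Nat.mod_lt _ (by norm_num)
        have hne : e α (lamC i) ≠ 0 := fun h0 => h2 (by
          have := (e_eq_zero hα _).1 h0; omega)
        rw [f2 _ _ hne] at hh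
        exact hh
  have hdat : ∀ i j u (l : List (ℕ × ℕ)) (k1 k2 k3 : ℕ × ℕ), (i, j, u, l) ∈ chordDat →
      i < 65 → j < 65 → l = [k1, k2, k3] →
      X i + X j + X k1.2 + X k2.2 + X k3.2 = 0 := by
    intro i j u l k1 k2 k3 hmem hi hj hl
    subst hl
    have h := List.all_eq_true.1 dat_ok _ hmem
    simp only [datOk, List.map_cons, List.map_nil, List.all_cons, List.all_nil, Bool.and_eq_true,
      bne_iff_ne, beq_iff_eq, Bool.and_true, List.cons.injEq, and_true] at h
    obtain ⟨⟨⟨hu, l1, l2, l3⟩, hab⟩, g1, g2, g3⟩ := h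
    have hu' : e α u ≠ 0 := e_ne_zero hα u hu
    have isoI : Iso (eV α (ptC i)) := iso_ptC hα hF hi
    have isoJ : Iso (eV α (smulC u (ptC j))) := by
      rw [eV_smul hα]; exact (iso_smul hu').2 (iso_ptC hα hF hj)
    have := f3 _ _ isoI isoJ (by rw [← e_hC hα, hab, e_one])
    simp only [omega_sq hα hF] at this
    rw [← eV_smul hα (expC 10)] at this
    simp only [← e_exp hα 5] at this
    rw [← eV_smul hα (expC 5),
      ← eV_add, ← eV_add, ← eV_add, ← g1, ← g2, ← g3] at this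
    simp only [eV_smul hα] at this
    rw [f2 _ _ hu', f2 _ _ (e_ne_zero hα _ l1), f2 _ _ (e_ne_zero hα _ l2),
      f2 _ _ (e_ne_zero hα _ l3)] at this
    exact this
  have E1 := hdat 0 1 8 _ (8, 33) (5, 54) (13, 37) (by simp [chordDat]) (by norm_num) (by norm_num) rfl
  have E2 := hdat 0 2 13 _ (13, 20) (8, 51) (5, 45) (by simp [chordDat]) (by norm_num) (by norm_num) rfl
  have E3 := hdat 0 3 9 _ (9, 55) (3, 44) (10, 40) (by simp [chordDat]) (by norm_num) (by norm_num) rfl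
  have E4 := hdat 0 4 3 _ (3, 30) (10, 17) (9, 25) (by simp [chordDat]) (by norm_num) (by norm_num) rfl
  simp only at E1 E2 E3 E4
  rw [horb 0 (by norm_num), horb 1 (by norm_num), horb 33 (by norm_num), horb 54 (by norm_num),
    horb 37 (by norm_num)] at E1
  rw [horb 0 (by norm_num), horb 2 (by norm_num), horb 20 (by norm_num), horb 51 (by norm_num),
    horb 45 (by norm_num)] at E2
  rw [horb 0 (by norm_num), horb 3 (by norm_num), horb 55 (by norm_num), horb 44 (by norm_num),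
    horb 40 (by norm_num)] at E3
  rw [horb 0 (by norm_num), horb 4 (by norm_num), horb 30 (by norm_num), horb 17 (by norm_num),
    horb 25 (by norm_num)] at E4
  norm_num at E1 E2 E3 E4
  have key : ∀ a b c d e : ZMod 5, a + a + c + e + c = 0 → a + a + b + d + d = 0 →
      a + a + e + d + d = 0 → a + a + c + b + b = 0 →
      b = a ∧ c = a ∧ d = a ∧ e = a := by decide +kernel
  obtain ⟨b1, b2, b3, b4⟩ := key (X 0) (X 13) (X 26) (X 39) (X 52) E1 E2 E3 E4
  refine (QuotientAddGroup.eq_zero_iff _).2 ⟨X 0, fun v hv => ?_⟩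
  obtain ⟨i, hi, c, hc, rfl⟩ := exists_point hα hF hv
  rw [f2 c _ hc]
  show X i = X 0
  rw [horb i hi]
  have hcase : 13 * (i / 13) = 0 ∨ 13 * (i / 13) = 13 ∨ 13 * (i / 13) = 26 ∨ 13 * (i / 13) = 39 ∨
      13 * (i / 13) = 52 := by omega
  rcases hcase with h | h | h | h | h <;> rw [h] <;> assumption

end Cfsg.Agent.U34Module99
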