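import Cfsg.Agent.Lib.U35MinIndexData
import Cfsg.Agent.Lib.OrthUnitaryTransvection
import Mathlib

/-!
A subgroup of order 7560 of `SU(3,25)`, checked from the table: the set (transversal) * (stabiliser)
is closed under left multiplication by the two generators, all its members are in the generated
group, and they are distinct.
-/

set_option autoImplicit false
set_option linter.unusedSectionVars false
set_option linter.unusedVariables false

namespace Cfsg.Agent.U35MinIndexCert

open Matrix Cfsg Cfsg.Agent.U35MinIndexData Cfsg.Agent.OrthUnitaryTransvection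
open Cfsg.Agent.OrthUnitaryHerm

/-- Sum of two codes. -/
def addN (x y : ℕ) : ℕ := (x / 5 + y / 5) % 5 * 5 + (x % 5 + y % 5) % 5

/-- Product of two codes. -/
def mulN (x y : ℕ) : ℕ :=
  (x / 5 * (y / 5) + 2 * (x % 5 * (y % 5))) % 5 * 5 + (x / 5 * (y % 5) + x % 5 * (y / 5)) % 5

/-- Negative of a code. -/
def negN (x : ℕ) : ℕ := (4 * (x / 5)) % 5 * 5 + (4 * (x % 5)) % 5

/-- Frobenius conjugate of a code. -/
def conjN (x : ℕ) : ℕ := x / 5 % 5 * 5 + (4 * (x % 5)) % 5

/-- An entry of a coded matrix. -/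
def ent (n i j : ℕ) : ℕ := n / 32 ^ (3 * i + j) % 32 % 25

/-- An entry of a product. -/
def pent (n m i j : ℕ) : ℕ :=
  addN (addN (mulN (ent n i 0) (ent m 0 j)) (mulN (ent n i 1) (ent m 1 j)))
    (mulN (ent n i 2) (ent m 2 j))

/-- `n * m = k` on codes. -/
def eqMul (n m k : ℕ) : Bool :=
  (List.range 3).all fun i => (List.range 3).all fun j => pent n m i j == ent k i j

/-- An entry of the Gram matrix. -/
def gram (n j l : ℕ) : ℕ :=
  addN (addN (mulN (ent n 0 j) (conjN (ent n 0 l))) (mulN (ent n 1 j) (conjN (ent n 1 l))))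
    (mulN (ent n 2 j) (conjN (ent n 2 l)))

/-- The determinant of a coded matrix. -/
def detN (n : ℕ) : ℕ :=
  let e := ent n
  let t := fun a b c => mulN (mulN a b) c
  addN (addN (addN (addN (addN (t (e 0 0) (e 1 1) (e 2 2)) (negN (t (e 0 0) (e 1 2) (e 2 1))))
    (negN (t (e 0 1) (e 1 0) (e 2 2)))) (t (e 0 1) (e 1 2) (e 2 0))) (t (e 0 2) (e 1 0) (e 2 1)))
    (negN (t (e 0 2) (e 1 1) (e 2 0)))

/-- Special unitarity of a coded matrix. -/
def isSU (n : ℕ) : Bool :=
  detN n == 5 && (List.range 3).all fun j => (List.range 3).all fun l =>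
    gram n j l == if j = l then 5 else 0

/-- The image of the base point. -/
def img (n i : ℕ) : ℕ :=
  addN (addN (mulN (ent n i 0) pt.1) (mulN (ent n i 1) pt.2.1)) (mulN (ent n i 2) pt.2.2)

/-- The `i`th transversal element. -/
def T (i : ℕ) : ℕ := tT.getD i 0

/-- The `i`th element of the stabiliser. -/
def K (i : ℕ) : ℕ := tK.getD i 0

/-- A generator. -/
def gen (b : Bool) : ℕ := if b then genB else genA

/-- A generator of the stabiliser. -/
def kgen (b : Bool) : ℕ := if b then K genD else K genC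

theorem su_T : ∀ i < 126, isSU (T i) = true := by decide +kernel

theorem su_K : ∀ i < 60, isSU (K i) = true := by decide +kernel

theorem su_gen : ∀ b : Bool, isSU (gen b) = true := by decide +kernel

/-- The code of a product of a generator and a transversal element. -/
def actCode (b : Bool) (i : ℕ) : ℕ :=
  (List.range 9).foldr (fun k acc => pent (gen b) (T i) (k / 3) (k % 3) + 32 * acc) 0

theorem act_ok : ∀ b : Bool, ∀ i < 126,
    let j := (if b then actB else actA).getD i 0
    let l := (if b then schB else schA).getD i 0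
    j < 126 ∧ l < 60 ∧ eqMul (T j) (K l) (actCode b i) = true := by
  decide +kernel

theorem kt_ok : ∀ b : Bool, ∀ i < 60,
    let j := (if b then ktD else ktC).getD i 0
    j < 60 ∧ eqMul (kgen b) (K i) (K j) = true := by
  decide +kernel

theorem par_T : ∀ i < 126, i = 0 ∨
    ((parT.getD i (false, 0)).2 < i ∧
      eqMul (gen (parT.getD i (false, 0)).1) (T (parT.getD i (false, 0)).2) (T i) = true) := by
  decide +kernel

theorem par_K : ∀ i < 60, i = 0 ∨
    ((parK.getD i (false, 0)).2 < i ∧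
      eqMul (kgen (parK.getD i (false, 0)).1) (K (parK.getD i (false, 0)).2) (K i) = true) := by
  decide +kernel

theorem lines_ne : ∀ i < 126, ∀ j < 126, i = j ∨ ∃ r < 3, ∃ t < 3,
    mulN (img (T i) r) (img (T j) t) ≠ mulN (img (T i) t) (img (T j) r) := by
  decide +kernel

theorem stab_K : ∀ i < 60, ∀ r < 3, ∀ t < 3,
    mulN (img (K i) r) ([pt.1, pt.2.1, pt.2.2].getD t 0) =
      mulN (img (K i) t) ([pt.1, pt.2.1, pt.2.2].getD r 0) := by
  decide +kernel

theorem K_ne : ∀ i < 60, ∀ j < 60, i = j ∨ ∃ r < 3, ∃ t < 3, ent (K i) r t ≠ ent (K j) r t := by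
  decide +kernel

theorem has_inv : ∀ x < 25, x = 0 ∨ ∃ y < 25, mulN x y = 5 := by decide +kernel

theorem sub_eq_zero' : ∀ x < 25, ∀ y < 25, addN x (negN y) = 0 → x = y := by decide +kernel

theorem addN_lt (x y : ℕ) : addN x y < 25 := by unfold addN; omega

theorem ent_lt (n i j : ℕ) : ent n i j < 25 := Nat.mod_lt _ (by norm_num)

theorem pent_lt (n m i j : ℕ) : pent n m i j < 25 := addN_lt _ _

variable {F : Type*} [Field F] [Fintype F]

/-- The value of a code. -/
def ev (s : F) (x : ℕ) : F := ((x / 5 : ℕ) : F) + ((x % 5 : ℕ) : F) * s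

/-- The matrix of a code. -/
def mat (s : F) (n : ℕ) : Matrix (Fin 3) (Fin 3) F := fun i j => ev s (ent n i j)

variable {s : F}

theorem five_eq_zero (hF : Fintype.card F = 5 ^ 2) : (5 : F) = 0 := by
  have h : ((Fintype.card F : ℕ) : F) = 0 := Nat.cast_card_eq_zero F
  rw [hF] at h
  have h2 : (5 : F) * 5 = 0 := by norm_num at h ⊢; exact h
  exact mul_self_eq_zero.1 h2

theorem cast_mod5 (h5 : (5 : F) = 0) (n : ℕ) : ((n % 5 : ℕ) : F) = (n : F) := by
  conv_rhs => rw [← Nat.mod_add_div n 5]
  push_cast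
  rw [h5, zero_mul, add_zero]

theorem exists_s (hF : Fintype.card F = 5 ^ 2) : ∃ s : F, s * s = 2 ∧ s ^ 5 = -s := by
  have h5 := five_eq_zero hF
  have h2 : (2 : F) ≠ 0 := fun h => one_ne_zero (by linear_combination h5 - 2 * h : (1 : F) = 0)
  have hc : ringChar F ≠ 2 := by
    intro h
    have := ringChar.of_eq h
    exact h2 (by exact_mod_cast CharP.cast_eq_zero F 2)
  obtain ⟨s, hs⟩ := (FiniteField.isSquare_iff hc h2).2 (by
    rw [hF]
    norm_num
    linear_combination 819 * h5)
  refine ⟨s, hs.symm, ?_⟩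
  linear_combination (s ^ 3 + 2 * s) * hs.symm + s * h5

theorem ev_add (h5 : (5 : F) = 0) (x y : ℕ) : ev s (addN x y) = ev s x + ev s y := by
  have h1 : addN x y / 5 = (x / 5 + y / 5) % 5 := by unfold addN; omega
  have h2 : addN x y % 5 = (x % 5 + y % 5) % 5 := by unfold addN; omega
  rw [ev, h1, h2, cast_mod5 h5, cast_mod5 h5]
  simp only [ev]
  push_cast
  ring

theorem ev_mul (h5 : (5 : F) = 0) (hs : s * s = 2) (x y : ℕ) :
    ev s (mulN x y) = ev s x * ev s y := by
  have h1 : mulN x y / 5 = (x / 5 * (y / 5) + 2 * (x % 5 * (y % 5))) % 5 := by unfold mulN; omega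
  have h2 : mulN x y % 5 = (x / 5 * (y % 5) + x % 5 * (y / 5)) % 5 := by unfold mulN; omega
  rw [ev, h1, h2, cast_mod5 h5, cast_mod5 h5]
  simp only [ev]
  push_cast
  linear_combination (-((x % 5 : ℕ) : F) * ((y % 5 : ℕ) : F)) * hs

theorem ev_neg (h5 : (5 : F) = 0) (x : ℕ) : ev s (negN x) = -ev s x := by
  have h1 : negN x / 5 = 4 * (x / 5) % 5 := by unfold negN; omega
  have h2 : negN x % 5 = 4 * (x % 5) % 5 := by unfold negN; omega
  rw [ev, h1, h2, cast_mod5 h5, cast_mod5 h5]
  simp only [ev]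
  push_cast
  linear_combination (((x / 5 : ℕ) : F) + ((x % 5 : ℕ) : F) * s) * h5

theorem ev_five (h5 : (5 : F) = 0) : ev s 5 = 1 := by simp [ev]

theorem ev_zero : ev s 0 = 0 := by simp [ev]

theorem cast_pow5 (h5 : (5 : F) = 0) : ∀ n : ℕ, (n : F) ^ 5 = (n : F) := by
  intro n
  induction n with
  | zero => simp
  | succ n ih =>
    push_cast
    linear_combination ih + ((n : F) ^ 4 + 2 * (n : F) ^ 3 + 2 * (n : F) ^ 2 + (n : F)) * h5

theorem ev_conj (hF : Fintype.card F = 5 ^ 2) (hs5 : s ^ 5 = -s) (x : ℕ) :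
    ev s (conjN x) = ev s x ^ 5 := by
  have h5 := five_eq_zero hF
  have h1 : conjN x / 5 = x / 5 % 5 := by unfold conjN; omega
  have h2 : conjN x % 5 = 4 * (x % 5) % 5 := by unfold conjN; omega
  rw [ev, h1, h2, cast_mod5 h5, cast_mod5 h5, ev, add_pow_q hF, mul_pow, cast_pow5 h5,
    cast_pow5 h5, hs5]
  push_cast
  linear_combination ((x % 5 : ℕ) : F) * s * h5

theorem ev_inj (h5 : (5 : F) = 0) (hs : s * s = 2) {x y : ℕ} (hx : x < 25) (hy : y < 25)
    (h : ev s x = ev s y) : x = y := by
  refine sub_eq_zero' x hx y hy ?_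
  have hz : ev s (addN x (negN y)) = 0 := by rw [ev_add h5, ev_neg h5, h, add_neg_cancel]
  rcases has_inv _ (addN_lt x (negN y)) with h0 | ⟨z, -, hz1⟩
  · exact h0
  · have h1 := ev_mul h5 hs (addN x (negN y)) z
    rw [hz1, hz, zero_mul, ev_five h5] at h1
    exact absurd h1 one_ne_zero

theorem mat_mul (h5 : (5 : F) = 0) (hs : s * s = 2) {n m k : ℕ} (h : eqMul n m k = true) :
    mat s n * mat s m = mat s k := by
  simp only [eqMul, List.all_eq_true, List.mem_range, beq_iff_eq] at h
  ext i j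
  have := congrArg (ev s) (h i i.2 j j.2)
  rw [pent, ev_add h5, ev_add h5, ev_mul h5 hs, ev_mul h5 hs, ev_mul h5 hs] at this
  rw [Matrix.mul_apply, Fin.sum_univ_three]
  exact this

theorem isU_mat (hF : Fintype.card F = 5 ^ 2) (hs : s * s = 2) (hs5 : s ^ 5 = -s) {n : ℕ}
    (h : isSU n = true) : IsU 5 (mat s n) ∧ (mat s n).det = 1 := by
  have h5 := five_eq_zero hF
  simp only [isSU, Bool.and_eq_true, List.all_eq_true, List.mem_range, beq_iff_eq] at h
  obtain ⟨hd, hg⟩ := h
  have g : ∀ j l : Fin 3, mat s n 0 j * mat s n 0 l ^ 5 + mat s n 1 j * mat s n 1 l ^ 5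
      + mat s n 2 j * mat s n 2 l ^ 5 = if j = l then 1 else 0 := by
    intro j l
    have := congrArg (ev s) (hg j j.2 l l.2)
    rw [gram, ev_add h5, ev_add h5, ev_mul h5 hs, ev_mul h5 hs, ev_mul h5 hs, ev_conj hF hs5,
      ev_conj hF hs5, ev_conj hF hs5] at this
    refine this.trans ?_
    by_cases hjl : j = l
    · rw [if_pos hjl, if_pos (congrArg Fin.val hjl), ev_five h5]
    · rw [if_neg hjl, if_neg (fun e => hjl (Fin.ext e)), ev_zero]
  constructor
  · intro u v
    have e00 := g 0 0
    have e01 := g 0 1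
    have e02 := g 0 2
    have e10 := g 1 0
    have e11 := g 1 1
    have e12 := g 1 2
    have e20 := g 2 0
    have e21 := g 2 1
    have e22 := g 2 2
    simp at e00 e01 e02 e10 e11 e12 e20 e21 e22
    simp only [hermForm, Matrix.mulVec, dotProduct, Fin.sum_univ_three, add_pow_q hF, mul_pow]
    linear_combination (u 0 * v 0 ^ 5) * e00 + (u 0 * v 1 ^ 5) * e01 + (u 0 * v 2 ^ 5) * e02
      + (u 1 * v 0 ^ 5) * e10 + (u 1 * v 1 ^ 5) * e11 + (u 1 * v 2 ^ 5) * e12
      + (u 2 * v 0 ^ 5) * e20 + (u 2 * v 1 ^ 5) * e21 + (u 2 * v 2 ^ 5) * e22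
  · have := congrArg (ev s) hd
    simp only [detN, ev_add h5, ev_neg h5, ev_mul h5 hs, ev_five h5] at this
    rw [Matrix.det_fin_three, ← this]
    show _ = ev s (ent n 0 0) * ev s (ent n 1 1) * ev s (ent n 2 2) + _ + _ + _ + _ + _
    simp only [mat, Fin.val_zero, Fin.val_one, Fin.val_two]
    ring

theorem digits_code (f : ℕ → ℕ) (hf : ∀ k, f k < 25) :
    ∀ k < 9, ((List.range 9).foldr (fun k acc => f k + 32 * acc) 0) / 32 ^ k % 32 % 25 = f k := by
  intro k hk
  simp [List.range_succ]
  have := hf 0; have := hf 1; have := hf 2; have := hf 3; have := hf 4; have := hf 5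
  have := hf 6; have := hf 7; have := hf 8
  interval_cases k <;> omega

/-- A subgroup of order 7560. -/
theorem exists_subgroup (hF : Fintype.card F = 5 ^ 2) :
    ∃ H : Subgroup (SU 3 F 5), Nat.card H = 7560 := by
  classical
  obtain ⟨s, hs, hs5⟩ := exists_s hF
  have h5 := five_eq_zero hF
  let el : ℕ → SU 3 F 5 := fun n =>
    if h : isSU n = true then mkSU (mat s n) (isU_mat hF hs hs5 h).2 (isU_mat hF hs hs5 h).1 else 1
  have el_mat : ∀ {n}, isSU n = true →
      ((el n : Matrix.SpecialLinearGroup (Fin 3) F) : Matrix (Fin 3) (Fin 3) F) = mat s n := by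
    intro n hn
    simp only [el, dif_pos hn]
    rfl
  have el_mul : ∀ {n m k}, isSU n = true → isSU m = true → isSU k = true → eqMul n m k = true →
      el n * el m = el k := by
    intro n m k hn hm hk h
    apply Subtype.ext; apply Subtype.ext
    show ((el n : Matrix.SpecialLinearGroup (Fin 3) F) : Matrix (Fin 3) (Fin 3) F) *
      ((el m : Matrix.SpecialLinearGroup (Fin 3) F) : Matrix (Fin 3) (Fin 3) F) = _
    rw [el_mat hn, el_mat hm, el_mat hk, mat_mul h5 hs h]
  have el_one : ∀ {n}, isSU n = true → (∀ i < 3, ∀ j < 3, ent n i j = if i = j then 5 else 0) →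
      el n = 1 := by
    intro n hn h
    apply Subtype.ext; apply Subtype.ext
    rw [el_mat hn]
    ext i j
    show ev s (ent n i j) = (1 : Matrix (Fin 3) (Fin 3) F) i j
    rw [h i i.2 j j.2, Matrix.one_apply]
    by_cases hij : i = j
    · rw [if_pos hij, if_pos (congrArg Fin.val hij), ev_five h5]
    · rw [if_neg hij, if_neg (fun e => hij (Fin.ext e)), ev_zero]
  have T0 : el (T 0) = 1 := el_one (su_T 0 (by norm_num)) (by decide +kernel)
  have K0 : el (K 0) = 1 := el_one (su_K 0 (by norm_num)) (by decide +kernel)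
  set H := Subgroup.closure (Set.range fun b => el (gen b)) with hH
  have hg : ∀ b, el (gen b) ∈ H := fun b => Subgroup.subset_closure ⟨b, rfl⟩
  have hT : ∀ i < 126, el (T i) ∈ H := by
    intro i
    induction i using Nat.strong_induction_on with
    | _ i ih =>
      intro hi
      rcases par_T i hi with rfl | ⟨hp, he⟩
      · rw [T0]; exact one_mem _
      · rw [← el_mul (su_gen _) (su_T _ (by omega)) (su_T _ hi) he]
        exact mul_mem (hg _) (ih _ hp (by omega))
  -- the Schreier equations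
  have hact : ∀ b, ∀ i < 126, ∃ j < 126, ∃ l < 60,
      l = (if b then schB else schA).getD i 0 ∧
      el (gen b) * el (T i) = el (T j) * el (K l) := by
    intro b i hi
    obtain ⟨hj, hl, he⟩ := act_ok b i hi
    refine ⟨_, hj, _, hl, rfl, ?_⟩
    apply Subtype.ext; apply Subtype.ext
    show ((el (gen b) : Matrix.SpecialLinearGroup (Fin 3) F) : Matrix (Fin 3) (Fin 3) F) *
      ((el (T i) : Matrix.SpecialLinearGroup (Fin 3) F) : Matrix (Fin 3) (Fin 3) F) =
        ((el (T _) : Matrix.SpecialLinearGroup (Fin 3) F) : Matrix (Fin 3) (Fin 3) F) *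
          ((el (K _) : Matrix.SpecialLinearGroup (Fin 3) F) : Matrix (Fin 3) (Fin 3) F)
    rw [el_mat (su_gen b), el_mat (su_T i hi), el_mat (su_T _ hj), el_mat (su_K _ hl),
      mat_mul h5 hs he]
    ext r c
    rw [Matrix.mul_apply, Fin.sum_univ_three]
    show _ = ev s (ent (actCode b i) r c)
    have hd := digits_code (fun k => pent (gen b) (T i) (k / 3) (k % 3)) (fun k => pent_lt _ _ _ _)
      (3 * (r : ℕ) + c) (by omega)
    rw [show ent (actCode b i) r c = _ from hd, show (3 * (r : ℕ) + c) / 3 = r by omega,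
      show (3 * (r : ℕ) + c) % 3 = c by omega, pent, ev_add h5, ev_add h5, ev_mul h5 hs,
      ev_mul h5 hs, ev_mul h5 hs]
    rfl
  have hkg : ∀ b, el (kgen b) ∈ H := by
    intro b
    have mk : ∀ (p : Bool × ℕ), p.2 < 126 → el (K ((if p.1 then schB else schA).getD p.2 0)) ∈ H := by
      intro p hp
      obtain ⟨j, hj, l, hl, hle, he⟩ := hact p.1 p.2 hp
      rw [← hle, show el (K l) = (el (T j))⁻¹ * (el (gen p.1) * el (T p.2)) by
        rw [he, inv_mul_cancel_left]]
      exact mul_mem (inv_mem (hT j hj)) (mul_mem (hg _) (hT _ hp))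
    cases b
    · exact mk srcC (by decide +kernel)
    · exact mk srcD (by decide +kernel)
  have skg : ∀ b, isSU (kgen b) = true := by decide +kernel
  have hK : ∀ i < 60, el (K i) ∈ H := by
    intro i
    induction i using Nat.strong_induction_on with
    | _ i ih =>
      intro hi
      rcases par_K i hi with rfl | ⟨hp, he⟩
      · rw [K0]; exact one_mem _
      · rw [← el_mul (skg _) (su_K _ (by omega)) (su_K _ hi) he]
        exact mul_mem (hkg _) (ih _ hp (by omega))
  -- closure
  have closed : ∀ (G : Type _) [Group G] [Finite G] (A : Set G) (S : Set G), (1 : G) ∈ S →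
      (∀ a ∈ A, ∀ x ∈ S, a * x ∈ S) → (Subgroup.closure A : Set G) ⊆ S := by
    intro G _ _ A S h1 hA g hg'
    have : ∀ g ∈ Subgroup.closure A, ∀ x ∈ S, g * x ∈ S := by
      intro g hg'
      induction hg' using Subgroup.closure_induction with
      | mem a ha => exact hA a ha
      | one => intro x hx; rwa [one_mul]
      | mul a b _ _ iha ihb => intro x hx; rw [mul_assoc]; exact iha _ (ihb x hx)
      | inv a _ iha =>
        intro x hx
        have hpow : ∀ k : ℕ, a ^ k * x ∈ S := by
          intro k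
          induction k with
          | zero => rwa [pow_zero, one_mul]
          | succ k ih => rw [pow_succ', mul_assoc]; exact iha _ ih
        rw [show a⁻¹ = a ^ (orderOf a - 1) from inv_eq_of_mul_eq_one_right
          (by rw [← pow_succ', Nat.sub_add_cancel (orderOf_pos a), pow_orderOf_eq_one])]
        exact hpow _
    simpa using this g hg' 1 h1
  have hKmul : ∀ l < 60, ∀ m < 60, ∃ n < 60, el (K l) * el (K m) = el (K n) := by
    intro l
    induction l using Nat.strong_induction_on with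
    | _ l ih =>
      intro hl m hm
      rcases par_K l hl with rfl | ⟨hp, he⟩
      · exact ⟨m, hm, by rw [K0, one_mul]⟩
      · obtain ⟨n, hn, hne⟩ := ih _ hp (by omega) m hm
        obtain ⟨hj, hje⟩ := kt_ok (parK.getD l (false, 0)).1 n hn
        refine ⟨_, hj, ?_⟩
        rw [← el_mul (skg _) (su_K _ (by omega)) (su_K _ hl) he, mul_assoc, hne,
          el_mul (skg _) (su_K _ hn) (su_K _ hj) hje]
  let f : Fin 126 × Fin 60 → SU 3 F 5 := fun x => el (T x.1) * el (K x.2)
  have hfinj : Function.Injective f := by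
    intro x y h
    let p : Fin 3 → F := fun t => ev s ([pt.1, pt.2.1, pt.2.2].getD (t : ℕ) 0)
    have himg : ∀ n, isSU n = true → ∀ r : Fin 3, act (el n) p r = ev s (img n r) := by
      intro n hn r
      rw [act, el_mat hn, img, ev_add h5, ev_add h5, ev_mul h5 hs, ev_mul h5 hs, ev_mul h5 hs]
      simp [Matrix.mulVec, dotProduct, Fin.sum_univ_three, p, mat]
    have hk : ∀ i < 60, ∃ a : F, act (el (K i)) p = a • p := by
      intro i hi
      refine ⟨act (el (K i)) p 1, ?_⟩
      have h1 : p 1 = 1 := by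
        show ev s ([pt.1, pt.2.1, pt.2.2].getD 1 0) = 1
        rw [show [pt.1, pt.2.1, pt.2.2].getD 1 0 = 5 from rfl, ev_five h5]
      funext t
      have := congrArg (ev s) (stab_K i hi t t.2 1 (by norm_num))
      have e1 : ev s (img (K i) 1) = act (el (K i)) p 1 := (himg _ (su_K i hi) 1).symm
      rw [ev_mul h5 hs, ev_mul h5 hs, ← himg _ (su_K i hi) t, e1] at this
      rw [Pi.smul_apply, smul_eq_mul]
      change act (el (K i)) p t * p 1 = act (el (K i)) p 1 * p t at this
      rwa [h1, mul_one] at this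
    have hx : x.1 = y.1 := by
      by_contra hne
      obtain ⟨a, ha⟩ := hk x.2 x.2.2
      obtain ⟨b, hb⟩ := hk y.2 y.2.2
      have e := congrArg (fun g => act g p) h
      simp only [f, act_mul, ha, hb, act_smul] at e
      have ha0 : a ≠ 0 := by
        rintro rfl
        have h1 := congrArg (act (el (K x.2))⁻¹) ha
        rw [act_inv_act, act_smul, zero_smul] at h1
        have := congrFun h1 1
        change ev s ([pt.1, pt.2.1, pt.2.2].getD 1 0) = 0 at this
        rw [show [pt.1, pt.2.1, pt.2.2].getD 1 0 = 5 from rfl, ev_five h5] at this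
        exact one_ne_zero this
      rcases lines_ne x.1 x.1.2 y.1 y.1.2 with he | ⟨r, hr, t, ht, hrt⟩
      · exact hne (Fin.ext he)
      · apply hrt
        refine ev_inj h5 hs (by unfold mulN; omega) (by unfold mulN; omega) ?_
        rw [ev_mul h5 hs, ev_mul h5 hs, ← himg _ (su_T _ x.1.2) ⟨r, hr⟩,
          ← himg _ (su_T _ y.1.2) ⟨t, ht⟩, ← himg _ (su_T _ x.1.2) ⟨t, ht⟩,
          ← himg _ (su_T _ y.1.2) ⟨r, hr⟩]
        have er := congrFun e ⟨r, hr⟩
        have et := congrFun e ⟨t, ht⟩
        simp only [Pi.smul_apply, smul_eq_mul] at er et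
        apply mul_left_cancel₀ ha0
        linear_combination act (el (T y.1)) p ⟨t, ht⟩ * er - act (el (T y.1)) p ⟨r, hr⟩ * et
    refine Prod.ext hx ?_
    simp only [f, hx] at h
    have hk' := mul_left_cancel h
    by_contra hne
    rcases K_ne x.2 x.2.2 y.2 y.2.2 with he | ⟨r, hr, t, ht, hrt⟩
    · exact hne (Fin.ext he)
    · apply hrt
      have := congrArg (fun g : SU 3 F 5 =>
        ((g : Matrix.SpecialLinearGroup (Fin 3) F) : Matrix (Fin 3) (Fin 3) F) ⟨r, hr⟩ ⟨t, ht⟩) hk'
      simp only [el_mat (su_K _ x.2.2), el_mat (su_K _ y.2.2)] at this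
      exact ev_inj h5 hs (ent_lt _ _ _) (ent_lt _ _ _) this
  have hrange : (H : Set (SU 3 F 5)) = Set.range f := by
    apply le_antisymm
    · refine closed _ _ _ ⟨(0, 0), by simp [f, T0, K0]⟩ ?_
      rintro _ ⟨b, rfl⟩ _ ⟨⟨i, m⟩, rfl⟩
      obtain ⟨j, hj, l, hl, -, he⟩ := hact b i i.2
      obtain ⟨n, hn, hne⟩ := hKmul l hl m m.2
      refine ⟨(⟨j, hj⟩, ⟨n, hn⟩), ?_⟩
      show el (T j) * el (K n) = el (gen b) * (el (T i) * el (K m))
      rw [← mul_assoc, he, mul_assoc, hne]
    · rintro _ ⟨⟨i, m⟩, rfl⟩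
      exact mul_mem (hT i i.2) (hK m m.2)
  refine ⟨H, ?_⟩
  have : Nat.card (Set.range f) = 7560 := by
    rw [Nat.card_range_of_injective hfinj]; simp
  rw [← this]
  exact Nat.card_congr (Equiv.setCongr hrange)

end Cfsg.Agent.U35MinIndexCert
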