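import Cfsg.Agent.Lib.U43CoverData51

/-!
Arithmetic on codes for the cover of `SU_4(3)` and the properties of the tables to be checked.
-/

set_option autoImplicit false

namespace Cfsg.Agent.U43CoverOps51

open Cfsg.Agent.U43CoverData51

/-- `f` holds on `[lo, lo + n)` -/
def allFrom (f : ℕ → Bool) (lo : ℕ) : ℕ → Bool
  | 0 => true
  | n + 1 => f (lo + n) && allFrom f lo n

theorem allFrom_iff (f : ℕ → Bool) (lo : ℕ) :
    ∀ n, allFrom f lo n = true → ∀ c, lo ≤ c → c < lo + n → f c = true
  | 0, _, c, h1, h2 => by omega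
  | n + 1, h, c, h1, h2 => by
    simp only [allFrom, Bool.and_eq_true] at h
    rcases Nat.lt_or_ge c (lo + n) with h3 | h3
    · exact allFrom_iff f lo n h.2 c h1 h3
    · rw [show c = lo + n by omega]; exact h.1

/-- the code of `x + y i` -/
def mk (x y : ℕ) : ℕ := x % 3 + 3 * (y % 3)

/-- addition of codes -/
def fadd (a b : ℕ) : ℕ := mk (a % 3 + b % 3) (a / 3 + b / 3)

/-- multiplication of codes -/
def fmul (a b : ℕ) : ℕ :=
  mk (a % 3 * (b % 3) + 2 * ((a / 3) * (b / 3))) (a % 3 * (b / 3) + a / 3 * (b % 3))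

/-- negation of codes -/
def fneg (a : ℕ) : ℕ := mk (2 * (a % 3)) (2 * (a / 3))

/-- conjugation of codes -/
def fconj (a : ℕ) : ℕ := mk (a % 3) (2 * (a / 3))

/-- inversion of codes -/
def finv (a : ℕ) : ℕ := fmul (fconj a) (fmul a (fconj a))

/-- coordinate `j` of a vector code -/
def dig (v j : ℕ) : ℕ := v / 9 ^ j % 9

/-- the code of a vector -/
def pack (a b c d : ℕ) : ℕ := a + 9 * b + 81 * c + 729 * d

/-- scalar multiple -/
def smulV (m v : ℕ) : ℕ :=
  pack (fmul m (dig v 0)) (fmul m (dig v 1)) (fmul m (dig v 2)) (fmul m (dig v 3))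

/-- the three generators on codes -/
def stepV : Fin 3 → ℕ → ℕ
  | 0, v =>
    let t := fmul 3 (fadd (fadd (dig v 0) (dig v 1)) (dig v 2))
    pack (fadd (dig v 0) t) (fadd (dig v 1) t) (fadd (dig v 2) t) (dig v 3)
  | 1, v => pack (fneg (dig v 3)) (dig v 0) (dig v 1) (dig v 2)
  | 2, v => pack (fmul 3 (dig v 0)) (fmul 6 (dig v 1)) (dig v 2) (dig v 3)

/-- the norm of a vector code -/
def normV (v : ℕ) : ℕ :=
  fadd (fadd (fadd (fmul (dig v 0) (fconj (dig v 0))) (fmul (dig v 1) (fconj (dig v 1))))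
    (fmul (dig v 2) (fconj (dig v 2)))) (fmul (dig v 3) (fconj (dig v 3)))

/-- the leading coordinate -/
def lead (v : ℕ) : ℕ :=
  bif dig v 0 == 0 then (bif dig v 1 == 0 then (bif dig v 2 == 0 then dig v 3 else dig v 2) else dig v 1)
  else dig v 0

/-- the code is normalised and the codes increase; the tree -/
def ptOK (c : ℕ) : Bool :=
  Nat.blt (code c) 6561 && (lead (code c) == 1) &&
    (c + 1 == 540 || Nat.blt (code c) (code (c + 1))) &&
    Nat.blt (par c) 540 && (par (par c) == root) &&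
    (c == root || !(slot (par c) c == 0) || !(slot c (par c) == 0))

/-- a generator moves a line as tabulated -/
def moveOK (k : Fin 3) (c : ℕ) : Bool :=
  Nat.blt (nx k c) 540 && Nat.blt (pv k c) 540 && (pv k (nx k c) == c) && (nx k (pv k c) == c) &&
    Nat.blt 0 (lam k c) && Nat.blt (lam k c) 9 && (stepV k (code c) == smulV (lam k c) (code (nx k c)))

/-- the entry `j` of two rows -/
def slotOK (k : Fin 3) (i j r r' : ℕ) : Bool :=
  let s := (r >>> (4 * j)) &&& 15
  s == 0 || (r' >>> (4 * nx k j)) &&& 15 == fadd (fadd (s - 1) (vo k i)) (fneg (vo k j)) + 1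

/-- the pairs at `i` are carried to pairs -/
def edgeOK (k : Fin 3) (i : ℕ) : Bool :=
  allFrom (fun j => slotOK k i j (row i) (row (nx k i))) 0 540

/-- the generator of an isotropic line -/
def igenF (c : ℕ) : Fin 3 := ⟨igen c % 3, Nat.mod_lt _ (by decide)⟩

/-- the tree on isotropic lines -/
def isoOK (c : ℕ) : Bool :=
  Nat.blt (ipar c) 280 && (c == isoRoot ||
    (Nat.blt 0 (ilam c) && Nat.blt (ilam c) 9 &&
      (stepV (igenF c) (iso (ipar c)) == smulV (ilam c) (iso c))))

/-- `ipar` iterated -/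
def iparIter : ℕ → ℕ → ℕ
  | 0, c => c
  | n + 1, c => iparIter n (ipar c)

/-- the isotropic tree reaches the root -/
def isoRootOK (c : ℕ) : Bool := iparIter isoDepth c == isoRoot

/-- every isotropic code is a multiple of a tabulated one -/
def coverOK (t : ℕ) : Bool :=
  t == 0 || !(normV t == 0) ||
    (let k := isoFind (smulV (finv (lead t)) t)
     Nat.blt k 280 && (t == smulV (lead t) (iso k)) && Nat.blt 0 (lead t))

end Cfsg.Agent.U43CoverOps51
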