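import Cfsg.Agent.Lib.U43Type38Model22

/-!
A faster multiplication and comparison of coded matrices over the field with nine elements, equal to
the reference ones on codes below nine.
-/

set_option autoImplicit false
set_option maxRecDepth 100000

namespace Cfsg.Agent.U43FastOps40

open Cfsg.Agent.U43CoverOps51 Cfsg.Agent.U43Type38Model22

/-- Addition by table lookup. -/
def fa (a b : Nat) : Nat := (0x435102768354021687543210876102768435021687354210876543768435102687354021876543210 >>> (4 * (9 * a + b))) &&& 15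

/-- Multiplication by table lookup. -/
def fm (a b : Nat) : Nat := (0x615237480138624570582471360264318750327165840741852630453786120876543210000000000 >>> (4 * (9 * a + b))) &&& 15

/-- An entry of a product. -/
def dot (a b c d p q r s : Nat) : Nat := fa (fa (fa (fm a p) (fm b q)) (fm c r)) (fm d s)

/-- An entry of a product, reference form. -/
def dotC (a b c d p q r s : Nat) : Nat :=
  fadd (fadd (fadd (fmul a p) (fmul b q)) (fmul c r)) (fmul d s)

/-- The product of coded matrices. -/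
def mulF : List Nat → List Nat → List Nat
  | [a0, a1, a2, a3, a4, a5, a6, a7, a8, a9, a10, a11, a12, a13, a14, a15],
    [b0, b1, b2, b3, b4, b5, b6, b7, b8, b9, b10, b11, b12, b13, b14, b15] =>
     [dot a0 a1 a2 a3 b0 b4 b8 b12,
      dot a0 a1 a2 a3 b1 b5 b9 b13,
      dot a0 a1 a2 a3 b2 b6 b10 b14,
      dot a0 a1 a2 a3 b3 b7 b11 b15,
      dot a4 a5 a6 a7 b0 b4 b8 b12,
      dot a4 a5 a6 a7 b1 b5 b9 b13,
      dot a4 a5 a6 a7 b2 b6 b10 b14,
      dot a4 a5 a6 a7 b3 b7 b11 b15,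
      dot a8 a9 a10 a11 b0 b4 b8 b12,
      dot a8 a9 a10 a11 b1 b5 b9 b13,
      dot a8 a9 a10 a11 b2 b6 b10 b14,
      dot a8 a9 a10 a11 b3 b7 b11 b15,
      dot a12 a13 a14 a15 b0 b4 b8 b12,
      dot a12 a13 a14 a15 b1 b5 b9 b13,
      dot a12 a13 a14 a15 b2 b6 b10 b14,
      dot a12 a13 a14 a15 b3 b7 b11 b15]
  | A, B => mulC A B

/-- Comparison of a list with the table image of another. -/
def eqS (t : Nat) : List Nat → List Nat → Bool
  | [], [] => true
  | a :: l, b :: m => Nat.beq a ((t >>> (4 * b)) &&& 15) && eqS t l m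
  | _, _ => false

/-- Equality up to a scalar of norm one. -/
def eqvF (A B : List Nat) : Bool :=
  eqS 0x876543210 A B || eqS 0x453786120 A B || eqS 0x741852630 A B || eqS 0x582471360 A B

theorem fa_eq : ∀ a < 9, ∀ b < 9, fa a b = fadd a b := by decide +kernel

theorem fm_eq : ∀ a < 9, ∀ b < 9, fm a b = fmul a b := by decide +kernel

theorem fadd_lt (a b : Nat) : fadd a b < 9 := by unfold fadd; exact U43Field51.mk_lt _ _

theorem fmul_lt (a b : Nat) : fmul a b < 9 := by unfold fmul; exact U43Field51.mk_lt _ _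

theorem dot_eq {a b c d p q r s : Nat} (ha : a < 9) (hb : b < 9) (hc : c < 9) (hd : d < 9)
    (hp : p < 9) (hq : q < 9) (hr : r < 9) (hs : s < 9) :
    dot a b c d p q r s = dotC a b c d p q r s := by
  rw [dot, dotC, fm_eq a ha p hp, fm_eq b hb q hq, fm_eq c hc r hr, fm_eq d hd s hs,
    fa_eq _ (fmul_lt a p) _ (fmul_lt b q), fa_eq _ (fadd_lt _ _) _ (fmul_lt c r),
    fa_eq _ (fadd_lt _ _) _ (fmul_lt d s)]

theorem mulF_eq (A B : List Nat) (hA : ∀ a ∈ A, a < 9) (hB : ∀ b ∈ B, b < 9) :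
    mulF A B = mulC A B := by
  unfold mulF
  split
  next a0 a1 a2 a3 a4 a5 a6 a7 a8 a9 a10 a11 a12 a13 a14 a15 b0 b1 b2 b3 b4 b5 b6 b7 b8 b9 b10 b11 b12 b13 b14 b15 =>
    simp only [List.forall_mem_cons] at hA hB
    obtain ⟨ha0, ha1, ha2, ha3, ha4, ha5, ha6, ha7, ha8, ha9, ha10, ha11, ha12, ha13, ha14, ha15, -⟩ := hA
    obtain ⟨hb0, hb1, hb2, hb3, hb4, hb5, hb6, hb7, hb8, hb9, hb10, hb11, hb12, hb13, hb14, hb15, -⟩ := hB
    show _ = [dotC a0 a1 a2 a3 b0 b4 b8 b12,
      dotC a0 a1 a2 a3 b1 b5 b9 b13,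
      dotC a0 a1 a2 a3 b2 b6 b10 b14,
      dotC a0 a1 a2 a3 b3 b7 b11 b15,
      dotC a4 a5 a6 a7 b0 b4 b8 b12,
      dotC a4 a5 a6 a7 b1 b5 b9 b13,
      dotC a4 a5 a6 a7 b2 b6 b10 b14,
      dotC a4 a5 a6 a7 b3 b7 b11 b15,
      dotC a8 a9 a10 a11 b0 b4 b8 b12,
      dotC a8 a9 a10 a11 b1 b5 b9 b13,
      dotC a8 a9 a10 a11 b2 b6 b10 b14,
      dotC a8 a9 a10 a11 b3 b7 b11 b15,
      dotC a12 a13 a14 a15 b0 b4 b8 b12,
      dotC a12 a13 a14 a15 b1 b5 b9 b13,
      dotC a12 a13 a14 a15 b2 b6 b10 b14,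
      dotC a12 a13 a14 a15 b3 b7 b11 b15]
    simp only [dot_eq, ha0, ha1, ha2, ha3, ha4, ha5, ha6, ha7, ha8, ha9, ha10, ha11, ha12, ha13, ha14, ha15,
      hb0, hb1, hb2, hb3, hb4, hb5, hb6, hb7, hb8, hb9, hb10, hb11, hb12, hb13, hb14, hb15]
  next => rfl

theorem eqS_iff {t s : Nat} (ht : ∀ b < 9, (t >>> (4 * b)) &&& 15 = fmul s b) :
    ∀ (A B : List Nat), (∀ b ∈ B, b < 9) → (eqS t A B = true ↔ A = B.map (fmul s))
  | [], [], _ => by simp [eqS]
  | [], b :: m, _ => by simp [eqS]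
  | a :: l, [], _ => by simp [eqS]
  | a :: l, b :: m, h => by
    rw [eqS, Bool.and_eq_true, List.map_cons, List.cons.injEq,
      eqS_iff ht l m fun x hx => h x (List.mem_cons_of_mem _ hx),
      ← ht b (h b List.mem_cons_self)]
    simp [Nat.beq_eq]

theorem map_eq_scl {B : List Nat} (h : B.length = 16) (s : Nat) :
    B.map (fmul s) = sclC s B := by
  refine List.ext_getElem (by simp [sclC, h]) fun n h1 h2 => ?_
  have hn : n < 16 := by simpa [h] using h1
  simp only [sclC, List.getElem_map, List.getElem_range, ent,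
    show 4 * (n / 4) + n % 4 = n by omega, List.getD_eq_getElem B 0 (by omega : n < B.length)]

theorem eqvF_eq (A B : List Nat) (hl : B.length = 16) (hB : ∀ b ∈ B, b < 9) :
    eqvF A B = [1, 2, 3, 6].any fun s => A == sclC s B := by
  rw [Bool.eq_iff_iff]
  simp only [eqvF, Bool.or_eq_true, List.any_cons, List.any_nil, Bool.or_false, beq_iff_eq]
  rw [eqS_iff (s := 1) (by decide +kernel) A B hB, eqS_iff (s := 2) (by decide +kernel) A B hB,
    eqS_iff (s := 3) (by decide +kernel) A B hB, eqS_iff (s := 6) (by decide +kernel) A B hB,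
    map_eq_scl hl, map_eq_scl hl, map_eq_scl hl, map_eq_scl hl, or_assoc, or_assoc]

end Cfsg.Agent.U43FastOps40
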