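import Cfsg.Agent.Lib.U43LineData40
import Cfsg.Agent.Lib.U43FastOps40

/-!
Finite checks for the line stabiliser in `PSU₄(3)`: the products of the coded matrices and the
linear action of the representatives on the elementary abelian subgroup.
-/

set_option autoImplicit false
set_option maxRecDepth 100000
set_option Elab.async false

namespace Cfsg.Agent.U43LineCheck40

open Cfsg.Agent.U43FastOps40 Cfsg.Agent.U43CoverOps51 Cfsg.Agent.U43Type38Model22 Cfsg.Agent.U43LineData40

/-- Equality of coded matrices up to a scalar of norm one. -/
def eqv (A B : List Nat) : Bool := [1, 2, 3, 6].any fun s => A == sclC s B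

/-- A code of a matrix of `SU₄(3)`. -/
def valid (A : List Nat) : Bool :=
  A.length == 16 && A.all (fun a => decide (a < 9)) && mulC (starC A) A == oneC && detC A == 1

/-- The element of coordinates `i`. -/
def cA (i : Nat) : List Nat := unpk (aList.getD i 0)
/-- A generator of the representatives. -/
def cS (i : Nat) : List Nat := unpk (sList.getD i 0)
/-- A representative of the stabiliser modulo the subgroup. -/
def cR (r : Nat) : List Nat := unpk (rList.getD r 0)
/-- A coset representative. -/
def cU (j : Nat) : List Nat := unpk (uList.getD j 0)

/-- Addition of coordinates. -/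
def add3 (i j : Nat) : Nat :=
  (i % 3 + j % 3) % 3 + 3 * ((i / 3 % 3 + j / 3 % 3) % 3) + 9 * ((i / 9 % 3 + j / 9 % 3) % 3)
    + 27 * ((i / 27 % 3 + j / 27 % 3) % 3)

/-- A multiple of coordinates. -/
def mul3 (d i : Nat) : Nat := if d = 0 then 0 else if d = 1 then i else add3 i i

/-- The image of the basis element `k` under packed images `l`. -/
def img (l k : Nat) : Nat := (l >>> (8 * k)) &&& 255

/-- The linear map with packed images `l`. -/
def app (l i : Nat) : Nat :=
  add3 (add3 (mul3 (i % 3) (img l 0)) (mul3 (i / 3 % 3) (img l 1)))
    (add3 (mul3 (i / 9 % 3) (img l 2)) (mul3 (i / 27 % 3) (img l 3)))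

/-- The packed images of representative `r`. -/
def lin (r : Nat) : Nat := linList.getD r 0

/-- The roots: conjugates of the first basis element and its inverse. -/
def roots : List Nat := [1, 2, 3, 6, 9, 13, 18, 26, 27, 31, 38, 42, 50, 52, 54, 62, 68, 70, 73, 75]

/-- The six standard elements: `±e₀`, `±(e₀ + e₁)`, `±(e₀ - e₁)`. -/
def std : List Nat := [1, 2, 4, 8, 7, 5]

theorem valid_A : ((List.range 81).all fun i => valid (cA i)) = true := by decide +kernel
theorem valid_S : ((List.range 2).all fun i => valid (cS i)) = true := by decide +kernel
theorem valid_R : ((List.range 360).all fun i => valid (cR i)) = true := by decide +kernel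
theorem valid_U : ((List.range 112).all fun i => valid (cU i)) = true := by decide +kernel
theorem valid_g : ((List.finRange 5).all fun k => valid (gC k)) = true := by decide +kernel

theorem first : (cA 0 == oneC && cR 0 == oneC && cU 0 == oneC && eqvF (cA 1) (gC 1) &&
    eqvF (cA 3) (mulF (gC 2) (mulF (gC 1) (gC 2))) &&
    ((List.range 2).all fun i => eqvF (mulF (cS i) (mulF (cS i) (cS i))) oneC) &&
    ((List.range 4).all fun k => (List.range 4).all fun l =>
      eqvF (mulF (cA (3 ^ k)) (cA (3 ^ l))) (mulF (cA (3 ^ l)) (cA (3 ^ k))))) = true := by
  decide +kernel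

theorem a_mul : ((List.range 81).all fun i => (List.range 4).all fun k =>
    eqvF (mulF (cA i) (cA (3 ^ k))) (cA (add3 i (3 ^ k)))) = true := by
  decide +kernel

theorem u_out : ((List.range 112).all fun j => j == 0 || (List.range 4).any fun k =>
    let X := mulF (cU j) (mulF (cA (3 ^ k)) (starC (cU j)))
    (List.range 81).all fun i => !eqvF X (cA i)) = true := by
  decide +kernel

theorem lin_lt : (linList.length == 360 && linList.all fun l =>
    (List.range 4).all fun k => Nat.blt (img l k) 81) = true := by decide +kernel

theorem lin_inj : ((List.range 360).all fun r => r == 0 ||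
    (List.range 4).any fun k => !(img (lin r) k == 3 ^ k)) = true := by decide +kernel

theorem lin_zero : ((List.range 4).all fun k => img (lin 0) k == 3 ^ k) = true := by
  decide +kernel

end Cfsg.Agent.U43LineCheck40
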