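import Cfsg.Agent.Lib.U43LineCheck40
import Cfsg.Agent.Lib.U43SylowData40

/-!
Finite checks for the line stabiliser in `PSU₄(3)`: the linear action on the coordinates.
-/

set_option autoImplicit false
set_option maxRecDepth 100000
set_option Elab.async false

namespace Cfsg.Agent.U43LineCheck40

open Cfsg.Agent.U43SylowData40 Cfsg.Agent.U43FastOps40 Cfsg.Agent.U43CoverOps51 Cfsg.Agent.U43Type38Model22 Cfsg.Agent.U43LineData40

theorem classes : ((List.range 81).all fun i => i == 0 || linList.any fun l =>
    std.contains (app l i)) = true := by decide +kernel

theorem roots_iff : (linList.all fun l => (List.range 81).all fun i =>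
    !(app l i == 1 || app l i == 2) || roots.contains i) = true := by decide +kernel

theorem roots_reach : (roots.all fun i => linList.any fun l =>
    app l i == 1 || app l i == 2) = true := by decide +kernel

theorem roots_length : (roots.length == 20 && roots.all (fun i => Nat.blt i 81) &&
    [1, 2, 3, 6, 9, 27].all (fun i => roots.contains i)) = true := by decide +kernel

theorem pairs : (roots.all fun i => roots.all fun j => i == j || add3 i j == 0 ||
    linList.any fun l => (app l i == 1 || app l i == 2) && (app l j == 3 || app l j == 6)) = true := by
  decide +kernel

theorem kernel : ((List.range 360).all fun r => r == 0 ||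
    roots.any fun i => !(app (lin r) i == i || app (lin r) i == add3 i i)) = true := by
  decide +kernel

theorem lin_values : ((List.range 360).all fun r => r == 0 || !(lin r == lin 0)) = true := by
  decide +kernel

/-- A representative of order three on the subgroup. -/
def ord3 (l : Nat) : Bool :=
  !(l == linList.getD 0 0) && (List.range 4).all fun k => app l (app l (img l k)) == 3 ^ k

/-- The fixed coordinates. -/
def fixed (l : Nat) : List Nat := (List.range 81).filter fun i => app l i == i

theorem fixed_one : (linList.all fun l => !ord3 l || Nat.ble (fixed l).length 9) = true := by
  decide +kernel

/-- The representatives of order three. -/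
def ord3s : List Nat := linList.filter ord3

theorem fixed_two : (ord3s.all fun l => ord3s.all fun l' =>
    !((List.range 4).all fun k => app l (img l' k) == app l' (img l k)) ||
    (List.range 4).all (fun k => img l' k == img l k) ||
    (List.range 4).all (fun k => img l' k == app l (img l k)) ||
    Nat.ble ((fixed l).filter fun i => app l' i == i).length 3) = true := by
  decide +kernel

theorem rpar : ((List.range 360).all fun r => r == 0 ||
    rtRList.getD (rParList.getD r 0) 0 == r && Nat.blt (rParList.getD r 0 / 2) r) = true := by
  decide +kernel

end Cfsg.Agent.U43LineCheck40
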