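import Cfsg.Agent.Lib.U43LineCheck40

/-!
Finite checks for the line stabiliser in `PSU₄(3)`: conjugation of the subgroup by the representatives.
-/

set_option autoImplicit false
set_option maxRecDepth 100000
set_option Elab.async false

namespace Cfsg.Agent.U43LineCheck40

open Cfsg.Agent.U43FastOps40 Cfsg.Agent.U43CoverOps51 Cfsg.Agent.U43Type38Model22 Cfsg.Agent.U43LineData40

theorem r_conj : ((List.range 360).all fun r => (List.range 4).all fun k =>
    eqvF (mulF (cR r) (cA (3 ^ k))) (mulF (cA (img (lin r) k)) (cR r))) = true := by
  decide +kernel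

end Cfsg.Agent.U43LineCheck40
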