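import Cfsg.Agent.Lib.U43LineCheck40

/-!
Finite checks for the line stabiliser in `PSU₄(3)`: closure of the representatives under the two generators.
-/

set_option autoImplicit false
set_option maxRecDepth 100000
set_option Elab.async false

namespace Cfsg.Agent.U43LineCheck40

open Cfsg.Agent.U43FastOps40 Cfsg.Agent.U43CoverOps51 Cfsg.Agent.U43Type38Model22 Cfsg.Agent.U43LineData40

theorem r_step : ((List.range 360).all fun r => (List.range 2).all fun i =>
    Nat.blt (rtAList.getD (2 * r + i) 0) 81 && Nat.blt (rtRList.getD (2 * r + i) 0) 360 &&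
    eqvF (mulF (cR r) (cS i))
      (mulF (cA (rtAList.getD (2 * r + i) 0)) (cR (rtRList.getD (2 * r + i) 0)))) = true := by
  decide +kernel

end Cfsg.Agent.U43LineCheck40
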