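import Cfsg.Agent.Lib.U43LineCheck40

/-!
Finite checks for the line stabiliser in `PSU₄(3)`: the action of the generators on the cosets.
-/

set_option autoImplicit false
set_option maxRecDepth 100000
set_option Elab.async false

namespace Cfsg.Agent.U43LineCheck40

open Cfsg.Agent.U43FastOps40 Cfsg.Agent.U43CoverOps51 Cfsg.Agent.U43Type38Model22 Cfsg.Agent.U43LineData40

theorem u_step : ((List.finRange 5).all fun k => (List.range 112).all fun j =>
    Nat.blt (trList.getD (112 * k.1 + j) 0) 112 && Nat.blt (stAList.getD (112 * k.1 + j) 0) 81 &&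
    Nat.blt (stRList.getD (112 * k.1 + j) 0) 360 &&
    eqvF (mulF (gC k) (cU j)) (mulF (cU (trList.getD (112 * k.1 + j) 0))
      (mulF (cA (stAList.getD (112 * k.1 + j) 0)) (cR (stRList.getD (112 * k.1 + j) 0))))) = true := by
  decide +kernel

end Cfsg.Agent.U43LineCheck40
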