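import Cfsg.Agent.Lib.U43LineRep40
import Cfsg.Agent.Lib.U43LineCheck40R
import Cfsg.Agent.Lib.U43LineCheck40S
import Cfsg.Agent.Lib.U43LineCheck40U
import Cfsg.Agent.Lib.U43LineCheck40L
import Cfsg.Agent.Lib.U43SylowData40
import Cfsg.Agent.Lib.U43Type38Facts22

/-!
The stabiliser of a totally isotropic line in `PSU₄(3)`: a self-centralising elementary abelian
subgroup of order 81 with normaliser of order 29160, and its action in coordinates.
-/

set_option autoImplicit false
set_option linter.unusedSectionVars false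
set_option maxRecDepth 100000

namespace Cfsg.Agent.U43LineFacts40

open Cfsg Cfsg.Agent.U43FastOps40 Cfsg.Agent.U43Type38Model22 Cfsg.Agent.U43LineData40
open Cfsg.Agent.U43LineCheck40 Cfsg.Agent.U43LineRep40 Cfsg.Agent.U43SylowData40

theorem induction_left {H : Type*} [Group H] [Finite H] {S : Set H} (P : H → Prop) (h1 : P 1)
    (hs : ∀ s ∈ S, ∀ x, P x → P (s * x)) {x : H} (hx : x ∈ Subgroup.closure S) : P x := by
  rw [← Subgroup.mem_toSubmonoid, Subgroup.closure_toSubmonoid_of_finite] at hx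
  induction hx using Submonoid.closure_induction_left with
  | one => exact h1
  | mul_left s hs' y _ ih => exact hs s hs' y ih

theorem induction_right {H : Type*} [Group H] [Finite H] {S : Set H} (P : H → Prop) (h1 : P 1)
    (hs : ∀ s ∈ S, ∀ x, P x → P (x * s)) {x : H} (hx : x ∈ Subgroup.closure S) : P x := by
  rw [← Subgroup.mem_toSubmonoid, Subgroup.closure_toSubmonoid_of_finite] at hx
  induction hx using Submonoid.closure_induction_right with
  | one => exact h1
  | mul_right y _ s hs' ih => exact hs s hs' y ih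

theorem all_range {n : ℕ} {f : ℕ → Bool} (h : (List.range n).all f = true) {i : ℕ} (hi : i < n) :
    f i = true :=
  List.all_eq_true.1 h i (List.mem_range.2 hi)

theorem valid_lt {A : List ℕ} (h : valid A = true) : ∀ a ∈ A, a < 9 := by
  simp only [valid, Bool.and_eq_true, List.all_eq_true, decide_eq_true_eq] at h
  exact h.1.1.2

theorem wf_lt {A : List ℕ} (h : Wf A) : ∀ a ∈ A, a < 9 := by
  intro a ha
  obtain ⟨n, hn, rfl⟩ := List.getElem_of_mem ha
  have h16 : n < 16 := h.1 ▸ hn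
  have := h.2 (n / 4) (by omega) (n % 4) (Nat.mod_lt _ (by norm_num))
  rwa [ent, show 4 * (n / 4) + n % 4 = n by omega, List.getD_eq_getElem A 0 hn] at this

theorem mulF_valid {A B : List ℕ} (hA : valid A = true) (hB : valid B = true) :
    mulF A B = mulC A B :=
  mulF_eq A B (valid_lt hA) (valid_lt hB)

theorem eqvF_wf {A B : List ℕ} (hB : Wf B) : eqvF A B = eqv A B :=
  eqvF_eq A B hB.1 (wf_lt hB)

theorem vA {i : ℕ} (hi : i < 81) : valid (cA i) = true := all_range valid_A hi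
theorem vS {i : ℕ} (hi : i < 2) : valid (cS i) = true := all_range valid_S hi
theorem vR {i : ℕ} (hi : i < 360) : valid (cR i) = true := all_range valid_R hi
theorem vU {i : ℕ} (hi : i < 112) : valid (cU i) = true := all_range valid_U hi
theorem vg (k : Fin 5) : valid (gC k) = true :=
  List.all_eq_true.1 valid_g k (List.mem_finRange k)

theorem pow_lt {k : ℕ} (hk : k < 4) : 3 ^ k < 81 := by interval_cases k <;> norm_num

theorem add3_lt (i j : ℕ) : add3 i j < 81 := by simp only [add3]; omega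

theorem add3_table : ∀ j < 81, j = 0 ∨ ∃ j' < j, ∃ k < 4, add3 j' (3 ^ k) = j ∧
    ∀ i < 81, add3 (add3 i j') (3 ^ k) = add3 i j := by
  decide +kernel

theorem add3_facts : ∀ i < 81, add3 i 0 = i ∧ add3 (add3 i i) i = 0 ∧
    add3 (add3 (mul3 (i % 3) 1) (mul3 (i / 3 % 3) 3))
      (add3 (mul3 (i / 9 % 3) 9) (mul3 (i / 27 % 3) 27)) = i := by
  decide +kernel

theorem add3_comm (i j : ℕ) : add3 i j = add3 j i := by
  simp only [add3, Nat.add_comm (i % 3), Nat.add_comm (i / 3 % 3), Nat.add_comm (i / 9 % 3),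
    Nat.add_comm (i / 27 % 3)]

theorem lin_mem {r : ℕ} (hr : r < 360) : lin r ∈ linList := by
  have h : linList.length = 360 := by
    have := lin_lt; simp only [Bool.and_eq_true, beq_iff_eq] at this; exact this.1
  rw [lin, List.getD_eq_getElem linList 0 (h ▸ hr)]
  exact List.getElem_mem _

theorem exists_lin {l : ℕ} (hl : l ∈ linList) : ∃ r < 360, lin r = l := by
  have h : linList.length = 360 := by
    have := lin_lt; simp only [Bool.and_eq_true, beq_iff_eq] at this; exact this.1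
  obtain ⟨n, hn, rfl⟩ := List.getElem_of_mem hl
  exact ⟨n, h ▸ hn, List.getD_eq_getElem linList 0 hn⟩

theorem img_lt {l : ℕ} (hl : l ∈ linList) {k : ℕ} (hk : k < 4) : img l k < 81 := by
  have := lin_lt
  simp only [Bool.and_eq_true, List.all_eq_true] at this
  simpa using this.2 l hl k (List.mem_range.2 hk)

theorem app_lt (l i : ℕ) : app l i < 81 := add3_lt _ _

section model

variable {K : Type*} [Field K] [Fintype K] (hF : Fintype.card K = 3 ^ 2) {c : K}
  (hcc : c * c = -1)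

/-- The element of coordinates `i`. -/
noncomputable def sA (c : K) (i : ℕ) : PSU 4 K 3 := el c (cA i)
/-- A generator of the representatives. -/
noncomputable def sS (c : K) (i : ℕ) : PSU 4 K 3 := el c (cS i)
/-- A representative of the normaliser modulo the subgroup. -/
noncomputable def sR (c : K) (r : ℕ) : PSU 4 K 3 := el c (cR r)
/-- A coset representative of the normaliser. -/
noncomputable def sU (c : K) (j : ℕ) : PSU 4 K 3 := el c (cU j)
/-- A generator. -/
noncomputable def sG (c : K) (k : Fin 5) : PSU 4 K 3 := el c (gC k)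

include hF hcc

theorem eq_mulF {A B C : List ℕ} (hA : valid A = true) (hB : valid B = true) (hC : valid C = true)
    (h : eqvF (mulF A B) C = true) : el c A * el c B = el c C := by
  rw [mulF_valid hA hB, eqvF_wf (wf_valid hC)] at h
  exact el_mul hF hcc hA hB hC h

theorem eq_mulF₂ {A B C D : List ℕ} (hA : valid A = true) (hB : valid B = true)
    (hC : valid C = true) (hD : valid D = true) (h : eqvF (mulF A B) (mulF C D) = true) :
    el c A * el c B = el c C * el c D := by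
  rw [mulF_valid hA hB, mulF_valid hC hD, eqvF_wf (wf_mul C D)] at h
  exact el_mul₂ hF hcc hA hB hC hD h

theorem sA_zero : sA c 0 = 1 := by
  have h := first
  simp only [Bool.and_eq_true, beq_iff_eq] at h
  have hv := vA (i := 0) (by norm_num)
  rw [h.1.1.1.1.1.1] at hv
  rw [sA, h.1.1.1.1.1.1, el_one hF hcc hv]

theorem sR_zero : sR c 0 = 1 := by
  have h := first
  simp only [Bool.and_eq_true, beq_iff_eq] at h
  have hv := vR (i := 0) (by norm_num)
  rw [h.1.1.1.1.1.2] at hv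
  rw [sR, h.1.1.1.1.1.2, el_one hF hcc hv]

theorem sU_zero : sU c 0 = 1 := by
  have h := first
  simp only [Bool.and_eq_true, beq_iff_eq] at h
  have hv := vU (i := 0) (by norm_num)
  rw [h.1.1.1.1.2] at hv
  rw [sU, h.1.1.1.1.2, el_one hF hcc hv]

theorem sS_three {i : ℕ} (hi : i < 2) : sS c i ^ 3 = 1 := by
  have h := first
  simp only [Bool.and_eq_true, List.all_eq_true] at h
  have e := h.1.2 i (List.mem_range.2 hi)
  have hv : valid oneC = true := by decide +kernel
  have hr := rep_valid hF hcc (vS hi)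
  rw [mulF_valid (vS hi) (vS hi)] at e
  rw [mulF_eq _ _ (valid_lt (vS hi)) (wf_lt (wf_mul _ _)), eqvF_wf (wf_valid hv)] at e
  rw [pow_succ', pow_succ', pow_one]
  exact eq_of_eqv hF hcc (rep_mul hF hcc hr (rep_mul hF hcc hr hr)) (rep_one hF hcc) e

theorem sA_step {i k : ℕ} (hi : i < 81) (hk : k < 4) :
    sA c i * sA c (3 ^ k) = sA c (add3 i (3 ^ k)) := by
  have h := List.all_eq_true.1 (all_range a_mul hi) k (List.mem_range.2 hk)
  exact eq_mulF hF hcc (vA hi) (vA (pow_lt hk)) (vA (add3_lt _ _)) h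

theorem sA_add : ∀ {i : ℕ}, i < 81 → ∀ {j : ℕ}, j < 81 → sA c i * sA c j = sA c (add3 i j) := by
  suffices ∀ j < 81, ∀ i < 81, sA c i * sA c j = sA c (add3 i j) from
    fun {i} hi {j} hj => this j hj i hi
  intro j
  induction j using Nat.strong_induction_on with
  | _ j ih =>
    intro hj i hi
    rcases add3_table j hj with rfl | ⟨j', hj', k, hk, e, e'⟩
    · rw [sA_zero hF hcc, mul_one, (add3_facts i hi).1]
    · have e0 : sA c j = sA c j' * sA c (3 ^ k) := by
        rw [sA_step hF hcc (by omega) hk, e]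
      rw [e0, ← mul_assoc, ih j' hj' (by omega) i hi, sA_step hF hcc (add3_lt _ _) hk, e' i hi]

theorem sA_comm {i j : ℕ} (hi : i < 81) (hj : j < 81) : sA c i * sA c j = sA c j * sA c i := by
  rw [sA_add hF hcc hi hj, sA_add hF hcc hj hi, add3_comm]

theorem sA_inv {i : ℕ} (hi : i < 81) : (sA c i)⁻¹ = sA c (add3 i i) := by
  refine inv_eq_of_mul_eq_one_left ?_
  rw [sA_add hF hcc (add3_lt _ _) hi, (add3_facts i hi).2.1, sA_zero hF hcc]

theorem sA_mul3 (r : PSU 4 K 3) {d : ℕ} (hd : d < 3) {x x' : ℕ} (hx : x < 81) (hx' : x' < 81)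
    (h : r * sA c x * r⁻¹ = sA c x') : r * sA c (mul3 d x) * r⁻¹ = sA c (mul3 d x') := by
  interval_cases d
  · simp only [mul3, if_true]; rw [sA_zero hF hcc, mul_one, mul_inv_cancel]
  · simpa [mul3] using h
  · simp only [mul3, if_false, OfNat.ofNat_ne_zero, OfNat.ofNat_ne_one]
    rw [← sA_add hF hcc hx hx, ← sA_add hF hcc hx' hx', ← h]
    group

theorem mul3_lt {d x : ℕ} (hx : x < 81) : mul3 d x < 81 := by
  rw [mul3]; split_ifs
  exacts [by norm_num, hx, add3_lt _ _]

theorem conj_step {r k : ℕ} (hr : r < 360) (hk : k < 4) :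
    sR c r * sA c (3 ^ k) * (sR c r)⁻¹ = sA c (img (lin r) k) := by
  have h := List.all_eq_true.1 (all_range r_conj hr) k (List.mem_range.2 hk)
  rw [mul_inv_eq_iff_eq_mul]
  exact eq_mulF₂ hF hcc (vR hr) (vA (pow_lt hk)) (vA (img_lt (lin_mem hr) hk)) (vR hr) h

theorem conj_app {r i : ℕ} (hr : r < 360) (hi : i < 81) :
    sR c r * sA c i * (sR c r)⁻¹ = sA c (app (lin r) i) := by
  have h0 := sA_mul3 hF hcc (sR c r) (d := i % 3) (Nat.mod_lt _ (by norm_num))
    (x := 1) (by norm_num) (img_lt (lin_mem hr) (by norm_num)) (conj_step hF hcc hr (k := 0) (by norm_num))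
  have h1 := sA_mul3 hF hcc (sR c r) (d := i / 3 % 3) (Nat.mod_lt _ (by norm_num))
    (x := 3) (by norm_num) (img_lt (lin_mem hr) (by norm_num)) (conj_step hF hcc hr (k := 1) (by norm_num))
  have h2 := sA_mul3 hF hcc (sR c r) (d := i / 9 % 3) (Nat.mod_lt _ (by norm_num))
    (x := 9) (by norm_num) (img_lt (lin_mem hr) (by norm_num)) (conj_step hF hcc hr (k := 2) (by norm_num))
  have h3 := sA_mul3 hF hcc (sR c r) (d := i / 27 % 3) (Nat.mod_lt _ (by norm_num))
    (x := 27) (by norm_num) (img_lt (lin_mem hr) (by norm_num)) (conj_step hF hcc hr (k := 3) (by norm_num))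
  conv_lhs => rw [← (add3_facts i hi).2.2]
  have hl := fun k (hk : k < 4) => img_lt (lin_mem hr) hk
  rw [← sA_add hF hcc (add3_lt _ _) (add3_lt _ _),
    ← sA_add hF hcc (mul3_lt hF hcc (by norm_num)) (mul3_lt hF hcc (by norm_num)),
    ← sA_add hF hcc (mul3_lt hF hcc (by norm_num)) (mul3_lt hF hcc (by norm_num))]
  rw [app, ← sA_add hF hcc (add3_lt _ _) (add3_lt _ _),
    ← sA_add hF hcc (mul3_lt hF hcc (hl 0 (by norm_num))) (mul3_lt hF hcc (hl 1 (by norm_num))),
    ← sA_add hF hcc (mul3_lt hF hcc (hl 2 (by norm_num))) (mul3_lt hF hcc (hl 3 (by norm_num))),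
    ← h0, ← h1, ← h2, ← h3]
  group

/-- The elementary abelian subgroup. -/
noncomputable def AM : Subgroup (PSU 4 K 3) where
  carrier := {x | ∃ i < 81, sA c i = x}
  one_mem' := ⟨0, by norm_num, sA_zero hF hcc⟩
  mul_mem' := by
    rintro _ _ ⟨i, hi, rfl⟩ ⟨j, hj, rfl⟩
    exact ⟨_, add3_lt _ _, (sA_add hF hcc hi hj).symm⟩
  inv_mem' := by
    rintro _ ⟨i, hi, rfl⟩
    exact ⟨_, add3_lt _ _, (sA_inv hF hcc hi).symm⟩

theorem mem_AM {i : ℕ} (hi : i < 81) : sA c i ∈ AM hF hcc := ⟨i, hi, rfl⟩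

theorem AM_comm {x y : PSU 4 K 3} (hx : x ∈ AM hF hcc) (hy : y ∈ AM hF hcc) : x * y = y * x := by
  obtain ⟨i, hi, rfl⟩ := hx
  obtain ⟨j, hj, rfl⟩ := hy
  exact sA_comm hF hcc hi hj

theorem AM_three {x : PSU 4 K 3} (hx : x ∈ AM hF hcc) : x ^ 3 = 1 := by
  obtain ⟨i, hi, rfl⟩ := hx
  rw [pow_succ, pow_two, sA_add hF hcc hi hi, sA_add hF hcc (add3_lt _ _) hi,
    (add3_facts i hi).2.1, sA_zero hF hcc]

/-- The subgroup generated by the abelian subgroup and two elements of order three. -/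
noncomputable def HN : Subgroup (PSU 4 K 3) :=
  Subgroup.closure ((AM hF hcc : Set (PSU 4 K 3)) ∪ {sS c 0, sS c 1})

theorem sR_norm {r : ℕ} (hr : r < 360) :
    sR c r ∈ Subgroup.normalizer (AM hF hcc : Set (PSU 4 K 3)) := by
  refine Subgroup.mem_normalizer_fintype fun x hx => ?_
  obtain ⟨i, hi, rfl⟩ := hx
  exact ⟨_, app_lt _ _, (conj_app hF hcc hr hi).symm⟩

theorem sR_sA {r i : ℕ} (hr : r < 360) (hi : i < 81) :
    sR c r * sA c i = sA c (app (lin r) i) * sR c r := by
  rw [← conj_app hF hcc hr hi, inv_mul_cancel_right]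

theorem step_S {r i : ℕ} (hr : r < 360) (hi : i < 2) :
    rtAList.getD (2 * r + i) 0 < 81 ∧ rtRList.getD (2 * r + i) 0 < 360 ∧
      sR c r * sS c i = sA c (rtAList.getD (2 * r + i) 0) * sR c (rtRList.getD (2 * r + i) 0) := by
  have h := List.all_eq_true.1 (all_range r_step hr) i (List.mem_range.2 hi)
  simp only [Bool.and_eq_true, Nat.blt_eq] at h
  obtain ⟨⟨h1, h2⟩, h3⟩ := h
  exact ⟨h1, h2, eq_mulF₂ hF hcc (vR hr) (vS hi) (vA h1) (vR h2) h3⟩

theorem HN_form {x : PSU 4 K 3} (hx : x ∈ HN hF hcc) :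
    ∃ i < 81, ∃ r < 360, x = sA c i * sR c r := by
  refine induction_right (fun x => ∃ i < 81, ∃ r < 360, x = sA c i * sR c r)
    ⟨0, by norm_num, 0, by norm_num, by rw [sA_zero hF hcc, sR_zero hF hcc, one_mul]⟩ ?_ hx
  rintro s hs _ ⟨i, hi, r, hr, rfl⟩
  have key : ∀ k < 2, ∃ i' < 81, ∃ r' < 360, sA c i * sR c r * sS c k = sA c i' * sR c r' := by
    intro k hk
    obtain ⟨h1, h2, e⟩ := step_S hF hcc hr hk
    exact ⟨_, add3_lt _ _, _, h2, by rw [mul_assoc, e, ← mul_assoc, sA_add hF hcc hi h1]⟩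
  rcases hs with hs | hs | hs
  · obtain ⟨j, hj, rfl⟩ := hs
    exact ⟨_, add3_lt _ _, r, hr, by
      rw [mul_assoc, sR_sA hF hcc hr hj, ← mul_assoc, sA_add hF hcc hi (app_lt _ _)]⟩
  · exact hs ▸ key 0 (by norm_num)
  · exact (Set.mem_singleton_iff.1 hs) ▸ key 1 (by norm_num)

theorem sA_HN {i : ℕ} (hi : i < 81) : sA c i ∈ HN hF hcc :=
  Subgroup.subset_closure (Or.inl (mem_AM hF hcc hi))

theorem sS_HN {i : ℕ} (hi : i < 2) : sS c i ∈ HN hF hcc := by
  refine Subgroup.subset_closure (Or.inr ?_)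
  interval_cases i <;> simp

theorem sR_HN : ∀ {r : ℕ}, r < 360 → sR c r ∈ HN hF hcc := by
  intro r
  induction r using Nat.strong_induction_on with
  | _ r ih =>
    intro hr
    rcases Nat.eq_zero_or_pos r with rfl | hpos
    · rw [sR_zero hF hcc]; exact one_mem _
    · have h := all_range U43LineCheck40.rpar hr
      simp only [Bool.or_eq_true, Bool.and_eq_true, beq_iff_eq, Nat.ne_of_gt hpos, false_or] at h
      obtain ⟨e, hlt⟩ := h
      set q := rParList.getD r 0
      have hlt' : q / 2 < r := by simpa using hlt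
      obtain ⟨h1, -, e'⟩ := step_S hF hcc (r := q / 2) (i := q % 2) (by omega) (Nat.mod_lt _ (by norm_num))
      rw [show 2 * (q / 2) + q % 2 = q by omega] at h1 e'
      rw [e, ← inv_mul_eq_iff_eq_mul] at e'
      exact e' ▸ mul_mem (inv_mem (sA_HN hF hcc h1))
        (mul_mem (ih _ hlt' (by omega)) (sS_HN hF hcc (Nat.mod_lt _ (by norm_num))))

theorem HN_le : HN hF hcc ≤ Subgroup.normalizer (AM hF hcc : Set (PSU 4 K 3)) := by
  intro x hx
  obtain ⟨i, hi, r, hr, rfl⟩ := HN_form hF hcc hx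
  exact mul_mem (Subgroup.le_normalizer (mem_AM hF hcc hi)) (sR_norm hF hcc hr)

theorem sG_eq (k : Fin 5) : sG c k = wrd hF hcc [k] := by
  refine rep_unique hF hcc (rep_valid hF hcc (vg k)) ⟨g5 hF hcc k, rfl, ?_⟩
  simp [wrd]

theorem decomp (x : PSU 4 K 3) : ∃ j < 112, ∃ h ∈ HN hF hcc, x = sU c j * h := by
  have hx : x ∈ Subgroup.closure (Set.range (sG c)) := by
    have hle : (model hF hcc).span ≤ Subgroup.closure (Set.range (sG c)) := by
      refine (Subgroup.closure_le _).2 fun y hy => ?_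
      simp only [model, Set.mem_insert_iff, Set.mem_singleton_iff] at hy
      rcases hy with rfl | rfl | rfl | rfl | rfl <;>
        exact Subgroup.subset_closure ⟨_, sG_eq hF hcc _⟩
    exact hle (model_span hF hcc ▸ Subgroup.mem_top x)
  refine induction_left (fun x => ∃ j < 112, ∃ h ∈ HN hF hcc, x = sU c j * h)
    ⟨0, by norm_num, 1, one_mem _, by rw [sU_zero hF hcc, mul_one]⟩ ?_ hx
  rintro _ ⟨k, rfl⟩ _ ⟨j, hj, h, hh, rfl⟩
  have hc' := List.all_eq_true.1 (List.all_eq_true.1 u_step k (List.mem_finRange k)) j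
    (List.mem_range.2 hj)
  simp only [Bool.and_eq_true, Nat.blt_eq] at hc'
  obtain ⟨⟨⟨h1', h2'⟩, h3'⟩, h4⟩ := hc'
  have hm := rep_mul hF hcc (rep_valid hF hcc (vA h2')) (rep_valid hF hcc (vR h3'))
  rw [mulF_valid (vg k) (vU hj), mulF_valid (vA h2') (vR h3'),
    mulF_eq _ _ (valid_lt (vU h1')) (wf_lt (wf_mul _ _)), eqvF_wf (wf_mul _ _)] at h4
  have e := eq_of_eqv hF hcc (rep_mul hF hcc (rep_valid hF hcc (vg k)) (rep_valid hF hcc (vU hj)))
    (rep_mul hF hcc (rep_valid hF hcc (vU h1')) hm) h4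
  refine ⟨_, h1', _, mul_mem (mul_mem (sA_HN hF hcc h2') (sR_HN hF hcc h3')) hh, ?_⟩
  show el c (gC k) * (el c (cU j) * h) = el c (cU _) * (el c (cA _) * el c (cR _) * h)
  rw [← mul_assoc, e, mul_assoc]

theorem norm_eq : Subgroup.normalizer (AM hF hcc : Set (PSU 4 K 3)) = HN hF hcc := by
  refine le_antisymm (fun x hx => ?_) (HN_le hF hcc)
  obtain ⟨j, hj, h, hh, rfl⟩ := decomp hF hcc x
  rcases Nat.eq_zero_or_pos j with rfl | hpos
  · rw [sU_zero hF hcc, one_mul]; exact hh
  · exfalso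
    have hu : sU c j ∈ Subgroup.normalizer (AM hF hcc : Set (PSU 4 K 3)) := by
      simpa using mul_mem hx (inv_mem (HN_le hF hcc hh))
    have h := all_range u_out hj
    simp only [Bool.or_eq_true, beq_iff_eq, Nat.ne_of_gt hpos, false_or, List.any_eq_true,
      List.mem_range] at h
    obtain ⟨k, hk, hne⟩ := h
    obtain ⟨i, hi, e⟩ := (Subgroup.mem_normalizer_iff.1 hu _).1 (mem_AM hF hcc (pow_lt hk))
    have hs : Wf (starC (cU j)) := wf_map _ fun _ => by
      unfold U43CoverOps51.fconj; exact U43Field51.mk_lt _ _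
    have hne' := List.all_eq_true.1 hne i (List.mem_range.2 hi)
    rw [mulF_eq _ _ (valid_lt (vA (pow_lt hk))) (wf_lt hs),
      mulF_eq _ _ (valid_lt (vU hj)) (wf_lt (wf_mul _ _)), eqvF_wf (wf_valid (vA hi))] at hne'
    refine ne_of_not_eqv hF hcc (wf_mul _ _) (rep_mul hF hcc (rep_valid hF hcc (vU hj))
      (rep_mul hF hcc (rep_valid hF hcc (vA (pow_lt hk)))
        (rep_inv hF hcc (vU hj) (rep_valid hF hcc (vU hj))))) (rep_valid hF hcc (vA hi)) hne' ?_
    rw [← mul_assoc]
    exact e.symm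

theorem norm_form {x : PSU 4 K 3} (hx : x ∈ Subgroup.normalizer (AM hF hcc : Set (PSU 4 K 3))) :
    ∃ i < 81, ∃ r < 360, x = sA c i * sR c r :=
  HN_form hF hcc (norm_eq hF hcc ▸ hx)

theorem card_norm :
    Nat.card ↥(Subgroup.normalizer (AM hF hcc : Set (PSU 4 K 3))) = 29160 ∧
      ∀ i < 81, ∀ r < 360, ∀ i' < 81, ∀ r' < 360,
        sA c i * sR c r = sA c i' * sR c r' → i = i' ∧ r = r' := by
  rw [norm_eq hF hcc]
  let f : Fin 81 × Fin 360 → HN hF hcc := fun p =>
    ⟨_, mul_mem (sA_HN hF hcc p.1.2) (sR_HN hF hcc p.2.2)⟩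
  have hf : Function.Surjective f := fun ⟨x, hx⟩ => by
    obtain ⟨i, hi, r, hr, rfl⟩ := HN_form hF hcc hx
    exact ⟨⟨⟨i, hi⟩, ⟨r, hr⟩⟩, rfl⟩
  let g : Fin 112 × HN hF hcc → PSU 4 K 3 := fun p => sU c p.1 * p.2
  have hg : Function.Surjective g := fun x => by
    obtain ⟨j, hj, h, hh, rfl⟩ := decomp hF hcc x
    exact ⟨⟨⟨j, hj⟩, ⟨h, hh⟩⟩, rfl⟩
  have h1 := Nat.card_le_card_of_surjective f hf
  have h2 := Nat.card_le_card_of_surjective g hg
  rw [Nat.card_prod, Nat.card_fin, PSUFourThree56.card_PSU (by rw [hF]; rfl)] at h2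
  rw [Nat.card_prod, Nat.card_fin, Nat.card_fin] at h1
  refine ⟨by omega, fun i hi r hr i' hi' r' hr' e => ?_⟩
  have hbij := hf.bijective_of_nat_card_le (by rw [Nat.card_prod, Nat.card_fin, Nat.card_fin]; omega)
  have := hbij.1 (a₁ := (⟨i, hi⟩, ⟨r, hr⟩)) (a₂ := (⟨i', hi'⟩, ⟨r', hr'⟩)) (Subtype.ext e)
  simpa using this

theorem sA_inj {i j : ℕ} (hi : i < 81) (hj : j < 81) (e : sA c i = sA c j) : i = j :=
  ((card_norm hF hcc).2 i hi 0 (by norm_num) j hj 0 (by norm_num) (by rw [e])).1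

theorem card_AM : Nat.card ↥(AM hF hcc) = 81 := by
  let f : Fin 81 → PSU 4 K 3 := fun i => sA c i.1
  have hinj : Function.Injective f := fun a b e => Fin.ext (sA_inj hF hcc a.2 b.2 e)
  have hset : (AM hF hcc : Set (PSU 4 K 3)) = Set.range f := by
    ext x
    constructor
    · intro hx
      obtain ⟨i, hi, e⟩ := hx
      exact ⟨⟨i, hi⟩, e⟩
    · rintro ⟨i, rfl⟩
      exact mem_AM hF hcc i.2
  have h := Set.ncard_range_of_injective hinj
  rw [Nat.card_fin, ← hset, ← Nat.card_coe_set_eq] at h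
  exact h

theorem conj_form {i r j : ℕ} (hi : i < 81) (hr : r < 360) (hj : j < 81) :
    sA c i * sR c r * sA c j * (sA c i * sR c r)⁻¹ = sA c (app (lin r) j) := by
  rw [show sA c i * sR c r * sA c j * (sA c i * sR c r)⁻¹ =
    sA c i * (sR c r * sA c j * (sR c r)⁻¹) * (sA c i)⁻¹ by group, conj_app hF hcc hr hj,
    sA_comm hF hcc hi (app_lt _ _), mul_inv_cancel_right]

theorem centralizer_AM :
    Subgroup.centralizer (AM hF hcc : Set (PSU 4 K 3)) = AM hF hcc := by
  refine le_antisymm (fun x hx => ?_) (fun x hx => Subgroup.mem_centralizer_iff.2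
    fun y hy => AM_comm hF hcc hy hx)
  obtain ⟨i, hi, r, hr, rfl⟩ := norm_form hF hcc (Subgroup.centralizer_le_normalizer _ hx)
  rcases Nat.eq_zero_or_pos r with rfl | hpos
  · rw [sR_zero hF hcc, mul_one]; exact mem_AM hF hcc hi
  · exfalso
    have h := all_range lin_inj hr
    simp only [Bool.or_eq_true, beq_iff_eq, Nat.ne_of_gt hpos, false_or, List.any_eq_true,
      List.mem_range, Bool.not_eq_true', beq_eq_false_iff_ne] at h
    obtain ⟨k, hk, hne⟩ := h
    have e0 : app (lin r) (3 ^ k) = img (lin r) k := by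
      refine sA_inj hF hcc (app_lt _ _) (img_lt (lin_mem hr) hk) ?_
      rw [← conj_app hF hcc hr (pow_lt hk), conj_step hF hcc hr hk]
    refine hne (sA_inj hF hcc (img_lt (lin_mem hr) hk) (pow_lt hk) ?_)
    rw [← e0, ← conj_form hF hcc hi hr (pow_lt hk)]
    exact mul_inv_eq_iff_eq_mul.2 (Subgroup.mem_centralizer_iff.1 hx _ (mem_AM hF hcc (pow_lt hk))).symm

end model

end Cfsg.Agent.U43LineFacts40
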