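import Cfsg.Agent.Lib.U43LineCheck40
import Cfsg.Agent.Lib.SuzY42Model

/-!
Elements of `PSU₄(3)` given by coded matrices: products, inverses and the criterion of equality.
-/

set_option autoImplicit false
set_option linter.unusedSectionVars false

namespace Cfsg.Agent.U43LineRep40

open Cfsg Cfsg.Agent.OrthUnitaryHerm Cfsg.Agent.U43Field51 Cfsg.Agent.U43CoverOps51
open Cfsg.Agent.U43Type38Model22 Cfsg.Agent.U43LineCheck40
open scoped Matrix

variable {K : Type*} [Field K] [Fintype K] (hF : Fintype.card K = 3 ^ 2) {c : K}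
  (hcc : c * c = -1)

/-- The projection onto `PSU₄(3)`. -/
abbrev pj : SU 4 K 3 →* PSU 4 K 3 := QuotientGroup.mk' (Subgroup.center (SU 4 K 3))

/-- The code `A` represents `x`. -/
def Rep (c : K) (A : List ℕ) (x : PSU 4 K 3) : Prop :=
  ∃ g : SU 4 K 3, mat g = toMat c A ∧ pj g = x

open Classical in
/-- The element represented by a code. -/
noncomputable def el (c : K) (A : List ℕ) : PSU 4 K 3 :=
  if h : ∃ x, Rep c A x then h.choose else 1

/-- The code has sixteen entries, all below nine. -/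
def Wf (A : List ℕ) : Prop := A.length = 16 ∧ ∀ i < 4, ∀ j < 4, ent A i j < 9

theorem wf_map (f : ℕ → ℕ) (h : ∀ t, f t < 9) : Wf ((List.range 16).map f) := by
  refine ⟨by simp, fun i hi j hj => ?_⟩
  rw [show ent ((List.range 16).map f) i j = f (4 * i + j) from ent_map f ⟨i, hi⟩ ⟨j, hj⟩]
  exact h _

theorem fmul_lt (a b : ℕ) : fmul a b < 9 := by
  unfold fmul; exact U43Field51.mk_lt _ _

theorem wf_mul (A B : List ℕ) : Wf (mulC A B) :=
  wf_map _ fun _ => by unfold fadd; exact U43Field51.mk_lt _ _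

theorem wf_scl (s : ℕ) (A : List ℕ) : Wf (sclC s A) := wf_map _ fun _ => fmul_lt _ _

theorem wf_valid {A : List ℕ} (h : valid A = true) : Wf A := by
  simp only [valid, Bool.and_eq_true, beq_iff_eq, List.all_eq_true, decide_eq_true_eq] at h
  obtain ⟨⟨⟨h1, h2⟩, -⟩, -⟩ := h
  refine ⟨h1, fun i hi j hj => ?_⟩
  have hlt : 4 * i + j < A.length := by omega
  rw [ent, List.getD_eq_getElem A 0 hlt]
  exact h2 _ (List.getElem_mem hlt)

theorem ext_wf {A B : List ℕ} (hA : Wf A) (hB : Wf B)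
    (h : ∀ i < 4, ∀ j < 4, ent A i j = ent B i j) : A = B := by
  refine List.ext_getElem (by rw [hA.1, hB.1]) fun n h1 h2 => ?_
  have hn : n < 16 := hA.1 ▸ h1
  have := h (n / 4) (by omega) (n % 4) (Nat.mod_lt _ (by norm_num))
  rwa [ent, ent, show 4 * (n / 4) + n % 4 = n by omega, List.getD_eq_getElem A 0 h1,
    List.getD_eq_getElem B 0 h2] at this

include hF hcc

theorem rep_el {A : List ℕ} {x : PSU 4 K 3} (h : Rep c A x) : Rep c A (el c A) := by
  have h' : ∃ x, Rep c A x := ⟨x, h⟩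
  rw [el, dif_pos h']
  exact h'.choose_spec

theorem rep_unique {A : List ℕ} {x y : PSU 4 K 3} (hx : Rep c A x) (hy : Rep c A y) : x = y := by
  obtain ⟨g, hg, rfl⟩ := hx
  obtain ⟨g', hg', rfl⟩ := hy
  rw [U43Type38Model22.mat_inj (hg.trans hg'.symm)]

theorem rep_valid {A : List ℕ} (h : valid A = true) : Rep c A (el c A) := by
  simp only [valid, Bool.and_eq_true, beq_iff_eq] at h
  obtain ⟨⟨-, h1⟩, h2⟩ := h
  exact rep_el hF hcc ⟨mkSU (toMat c A) (by rw [det_toMat hF hcc, h2, ev_one])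
    (isU_toMat hF hcc h1), rfl, rfl⟩

theorem rep_mul {A B : List ℕ} {x y : PSU 4 K 3} (hx : Rep c A x) (hy : Rep c B y) :
    Rep c (mulC A B) (x * y) := by
  obtain ⟨g, hg, rfl⟩ := hx
  obtain ⟨g', hg', rfl⟩ := hy
  exact ⟨g * g', by rw [U43Type38Model22.mat_mul, hg, hg', toMat_mulC hF hcc], map_mul _ _ _⟩

theorem rep_one : Rep c oneC (1 : PSU 4 K 3) := ⟨1, (toMat_oneC (c := c)).symm, map_one _⟩

theorem rep_inv {A : List ℕ} (h : valid A = true) {x : PSU 4 K 3} (hx : Rep c A x) :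
    Rep c (starC A) x⁻¹ := by
  obtain ⟨g, hg, rfl⟩ := hx
  refine ⟨g⁻¹, ?_, map_inv _ _⟩
  simp only [valid, Bool.and_eq_true, beq_iff_eq] at h
  have h1 : toMat c (starC A) * mat g = 1 := by
    rw [hg, ← toMat_mulC hF hcc, h.1.2, toMat_oneC]
  calc mat g⁻¹ = toMat c (starC A) * mat g * mat g⁻¹ := by rw [h1, one_mul]
    _ = toMat c (starC A) * (mat g * mat g⁻¹) := mul_assoc _ _ _
    _ = toMat c (starC A) := by
      rw [← U43Type38Model22.mat_mul, mul_inv_cancel]
      exact mul_one _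

theorem eq_of_eqv {A B : List ℕ} {x y : PSU 4 K 3} (hx : Rep c A x) (hy : Rep c B y)
    (h : eqv A B = true) : x = y := by
  obtain ⟨g, hg, rfl⟩ := hx
  obtain ⟨g', hg', rfl⟩ := hy
  obtain ⟨s, -, hs⟩ := List.any_eq_true.1 h
  refine U43Type38Model22.mk_eq_of_smul g g' (ev c s) ?_
  rw [hg, hg', show A = sclC s B by simpa using hs, toMat_sclC hF hcc]

theorem eqv_of_eq {A B : List ℕ} {x y : PSU 4 K 3} (hA : Wf A) (hx : Rep c A x)
    (hy : Rep c B y) (h : x = y) : eqv A B = true := by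
  obtain ⟨g, hg, rfl⟩ := hx
  obtain ⟨g', hg', rfl⟩ := hy
  have hz := QuotientGroup.eq.1 h.symm
  obtain ⟨l, hl, he⟩ := SuzY42Model.center_scalar (by rw [hF]; rfl) hz
  have hm : mat (g'⁻¹ * g) = l • (1 : Matrix (Fin 4) (Fin 4) K) := by
    refine Matrix.ext_of_mulVec_single fun i => ?_
    have := LinearMap.congr_fun he (Pi.single i 1)
    rw [SuzY42Model.op_apply] at this
    show U43Type38Model22.mat (g'⁻¹ * g) *ᵥ _ = _
    rw [Matrix.smul_mulVec, Matrix.one_mulVec]
    exact this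
  have hge : toMat c A = l • toMat c B := by
    rw [← hg, show g = g' * (g'⁻¹ * g) by group, U43Type38Model22.mat_mul, hm, hg', mul_smul_comm,
      mul_one]
  obtain ⟨s, hs, rfl⟩ : ∃ s ∈ [1, 2, 3, 6], ev c s = l := by
    have h3 : (3 : K) = 0 := SuzY42Model.char_three (by rw [hF]; rfl)
    have e : (l - 1) * (l + 1) * ((l - c) * (l + c)) = 0 := by
      linear_combination hl - (l * l - 1) * hcc
    rcases mul_eq_zero.1 e with e | e <;> rcases mul_eq_zero.1 e with e | e
    · exact ⟨1, by simp, by rw [ev_one, sub_eq_zero.1 e]⟩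
    · exact ⟨2, by simp, by simp only [ev]; norm_num; linear_combination h3 - e⟩
    · exact ⟨3, by simp, by rw [ev_three, sub_eq_zero.1 e]⟩
    · exact ⟨6, by simp, by simp only [ev]; norm_num; linear_combination c * h3 - e⟩
  refine List.any_eq_true.2 ⟨s, hs, ?_⟩
  rw [← toMat_sclC hF hcc] at hge
  rw [beq_iff_eq]
  exact ext_wf hA (wf_scl s B) (toMat_inj hF hcc hA.2 (wf_scl s B).2 hge)

theorem ne_of_not_eqv {A B : List ℕ} {x y : PSU 4 K 3} (hA : Wf A) (hx : Rep c A x)
    (hy : Rep c B y) (h : (!eqv A B) = true) : x ≠ y := fun e => by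
  rw [eqv_of_eq hF hcc hA hx hy e] at h
  simp at h

theorem el_mul {A B C : List ℕ} (hA : valid A = true) (hB : valid B = true) (hC : valid C = true)
    (h : eqv (mulC A B) C = true) : el c A * el c B = el c C :=
  eq_of_eqv hF hcc (rep_mul hF hcc (rep_valid hF hcc hA) (rep_valid hF hcc hB))
    (rep_valid hF hcc hC) h

theorem el_one (h : valid oneC = true) : el c oneC = (1 : PSU 4 K 3) :=
  rep_unique hF hcc (rep_valid hF hcc h) (rep_one hF hcc)

theorem el_mul₂ {A B C D : List ℕ} (hA : valid A = true) (hB : valid B = true)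
    (hC : valid C = true) (hD : valid D = true) (h : eqv (mulC A B) (mulC C D) = true) :
    el c A * el c B = el c C * el c D :=
  eq_of_eqv hF hcc (rep_mul hF hcc (rep_valid hF hcc hA) (rep_valid hF hcc hB))
    (rep_mul hF hcc (rep_valid hF hcc hC) (rep_valid hF hcc hD)) h

end Cfsg.Agent.U43LineRep40
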