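import Cfsg.Agent.Lib.U43Type38Chart

/-!
Consequences of a coordinate system on the centraliser: recoordinatisation, transport to a
conjugate involution, and the pair of coordinate systems at two commuting involutions.
-/

set_option autoImplicit false

namespace Cfsg.Agent.U43Type38

open Cfsg.Agent.U43Type38SL Cfsg.Agent.SL23Model77

universe u

variable {G : Type u} [Group G]

/-- The commutator. -/
def gcm (a b : G) : G := a * b * a⁻¹ * b⁻¹

theorem conj_inv_eq (a b : G) : a⁻¹ * b * a = a⁻¹ * b * (a⁻¹)⁻¹ := by rw [inv_inv]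

theorem gcm_eq_one_iff {a b : G} : gcm a b = 1 ↔ Commute a b := by
  rw [gcm, mul_inv_eq_one, mul_inv_eq_iff_eq_mul]; rfl

theorem map_gcm (φ : P →* G) (a b : P) : φ (cm a b) = gcm (φ a) (φ b) := by
  simp [cm, gcm]

/-- The quaternion pairs. -/
def qpSub : Subgroup P where
  carrier := {x | QP x}
  one_mem' := by constructor <;> exact one_pow _
  mul_mem' := fun ha hb => ⟨(q8_mul _ _ ha.1 hb.1).1, (q8_mul _ _ ha.2 hb.2).1⟩
  inv_mem' := fun ha => ⟨(q8_mul _ _ ha.1 ha.1).2, (q8_mul _ _ ha.2 ha.2).2⟩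

instance : DecidablePred (· ∈ qpSub) := fun x => inferInstanceAs (Decidable (QP x))

/-- The image of the quaternion pairs. -/
def qSub (φ : P →* G) : Subgroup G := qpSub.map φ

theorem mem_qSub {φ : P →* G} {x : G} : x ∈ qSub φ ↔ x ∈ qSet φ := Iff.rfl

theorem qp_conj {c x : P} (h : QP x) : QP (c * x * c⁻¹) :=
  ⟨q8_normal _ _ h.1, q8_normal _ _ h.2⟩

variable {z : G} {φ : P →* G}

namespace Setup

variable (S : Setup z φ)
include S

theorem map_om : φ om = 1 := (S.ker om).2 (Or.inr rfl)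

theorem eq_iff {a b : P} : φ a = φ b ↔ Eq' a b := by
  constructor
  · intro h
    rcases (S.ker (b⁻¹ * a)).1 (by rw [map_mul, map_inv, h, inv_mul_cancel]) with h1 | h1
    · exact Or.inl (inv_mul_eq_one.1 h1).symm
    · exact Or.inr (inv_mul_eq_iff_eq_mul.1 h1)
  · rintro (h | h) <;> simp [h, S.map_om]

theorem commute_iff {a b : P} : Commute (φ a) (φ b) ↔ Com a b := by
  rw [Com, ← S.eq_iff, map_mul, map_mul]; rfl

theorem zz_sq : z * z = 1 := by
  have := pow_orderOf_eq_one z
  rwa [S.hz, pow_two] at this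

theorem z_ne : z ≠ 1 := by
  intro h; have := S.hz; rw [h, orderOf_one] at this; omega

theorem z_inv : z⁻¹ = z := inv_eq_of_mul_eq_one_left S.zz_sq

theorem commute_z (x : P) : Commute (φ x) z :=
  Subgroup.mem_centralizer_singleton_iff.1 (S.le x)

theorem z_mem : z ∈ qSet φ := ⟨zz, by decide +kernel, S.φz⟩

/-- Change of coordinates by an inner automorphism. -/
theorem recoord (c : P) : Setup z (φ.comp (MulAut.conj c).toMonoidHom) where
  ker x := by
    have hom : c * om * c⁻¹ = om := by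
      have h := center_fact.2.2.1
      ext1 <;> simp [om] <;> rw [← h, mul_inv_cancel_right]
    simp only [MonoidHom.comp_apply, MulEquiv.coe_toMonoidHom, MulAut.conj_apply]
    rw [S.ker]
    constructor
    · rintro (h | h)
      · exact Or.inl (conj_eq_one_iff.1 h)
      · exact Or.inr (mul_left_cancel (mul_right_cancel (h.trans hom.symm)))
    · rintro (rfl | rfl) <;> simp [hom]
  φz := by
    have hz' : c * zz * c⁻¹ = zz := by
      have h := center_fact.2.2.1
      ext1 <;> simp [zz] <;> rw [← h, mul_inv_cancel_right]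
    simp [hz', S.φz]
  hz := S.hz
  le x := S.le _
  norm h hh x := by
    obtain ⟨y, hy⟩ := S.norm h hh (c * x * c⁻¹)
    exact ⟨c⁻¹ * y * c, by simpa [mul_assoc] using hy⟩
  normQ h hh x hx := by
    obtain ⟨y, hy, e⟩ := S.normQ h hh (c * x * c⁻¹) (qp_conj hx)
    exact ⟨c⁻¹ * y * c, by simpa using qp_conj (c := c⁻¹) hy, by simpa [mul_assoc] using e⟩
  cen h hh hc := by
    refine S.cen h hh fun x hx => ?_
    have := hc (c⁻¹ * x * c) (by simpa using qp_conj (c := c⁻¹) hx)
    simpa [mul_assoc] using this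
  card := S.card
  exists_conj := by rw [qSet_recoord S c]; exact S.exists_conj
  inter g := by rw [qSet_recoord S c]; exact S.inter g
where
  qSet_recoord (S : Setup z φ) (c : P) : qSet (φ.comp (MulAut.conj c).toMonoidHom) = qSet φ := by
    ext x
    constructor
    · rintro ⟨q, hq, rfl⟩
      exact ⟨_, qp_conj hq, rfl⟩
    · rintro ⟨q, hq, rfl⟩
      exact ⟨c⁻¹ * q * c, by simpa using qp_conj (c := c⁻¹) hq, by simp [mul_assoc]⟩

/-- Transport to a conjugate involution. -/
theorem transport (g : G) :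
    Setup (g * z * g⁻¹) ((MulAut.conj g).toMonoidHom.comp φ) where
  ker x := by simpa using S.ker x
  φz := by simp [S.φz]
  hz := by rw [← S.hz]; simpa using (MulAut.conj g).orderOf_eq z
  le x := Subgroup.mem_centralizer_singleton_iff.2 ((S.commute_z x).map (MulAut.conj g))
  norm h hh x := by
    obtain ⟨y, hy⟩ := S.norm (g⁻¹ * h * g) (cent_back hh) x
    refine ⟨y, ?_⟩
    simp only [MonoidHom.comp_apply, MulEquiv.coe_toMonoidHom, MulAut.conj_apply, ← hy]
    group
  normQ h hh x hx := by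
    obtain ⟨y, hy', hy⟩ := S.normQ (g⁻¹ * h * g) (cent_back hh) x hx
    refine ⟨y, hy', ?_⟩
    simp only [MonoidHom.comp_apply, MulEquiv.coe_toMonoidHom, MulAut.conj_apply, ← hy]
    group
  cen h hh hc := by
    have := S.cen (g⁻¹ * h * g) (cent_back hh) fun x hx => by
      simpa [mul_assoc] using (hc x hx).map (MulAut.conj g⁻¹)
    rcases this with e | e
    · exact Or.inl (by simpa [mul_assoc] using congrArg (fun t => g * t * g⁻¹) e)
    · exact Or.inr (by simpa [mul_assoc] using congrArg (fun t => g * t * g⁻¹) e)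
  card := by
    rw [← S.card]
    refine Nat.card_congr (Equiv.subtypeEquiv (MulAut.conj g⁻¹).toEquiv fun a => ?_)
    simp only [Subgroup.mem_centralizer_singleton_iff]
    constructor
    · intro h
      have := ((show Commute a (g * z * g⁻¹) from h).map (MulAut.conj g⁻¹)).eq
      simpa [mul_assoc] using this
    · intro h
      have := ((show Commute (g⁻¹ * a * g) z from (by simpa [mul_assoc] using h :
        g⁻¹ * a * g * z = z * (g⁻¹ * a * g))).map (MulAut.conj g)).eq
      simpa [mul_assoc] using this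
  exists_conj := by
    obtain ⟨k, ⟨q, hq, e⟩, hne⟩ := S.exists_conj
    refine ⟨g * k * g⁻¹, ⟨q, hq, ?_⟩, fun h => hne ?_⟩
    · simp [e, mul_assoc]
    · simpa [mul_assoc] using congrArg (fun t => g⁻¹ * t * g) h
  inter k hk hne := by
    have e : ∀ x, x ∈ qSet ((MulAut.conj g).toMonoidHom.comp φ) ↔ g⁻¹ * x * g ∈ qSet φ := by
      intro x
      constructor
      · rintro ⟨q, hq, rfl⟩; exact ⟨q, hq, by simp [mul_assoc]⟩
      · rintro ⟨q, hq, e⟩
        exact ⟨q, hq, by simp [e, mul_assoc]⟩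
    have hk' := (e _).1 hk
    have h4 := S.inter (g⁻¹ * k * g) (by simpa [mul_assoc] using hk') fun h => hne (by
      simpa [mul_assoc] using congrArg (fun t => g * t * g⁻¹) h)
    rw [← h4, ← Set.ncard_image_of_injective _ (MulAut.conj g⁻¹).injective]
    congr 1
    ext x
    simp only [Set.mem_image, Set.mem_setOf_eq, e, MulAut.conj_apply]
    constructor
    · rintro ⟨w, ⟨h1, h2⟩, rfl⟩
      exact ⟨by simpa using h1, by simpa [mul_assoc] using h2⟩
    · rintro ⟨h1, h2⟩
      exact ⟨g * x * g⁻¹, ⟨by simpa [mul_assoc] using h1, by simpa [mul_assoc] using h2⟩,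
        by simp [mul_assoc]⟩
where
  cent_back {h : G} (hh : h ∈ Subgroup.centralizer ({g * z * g⁻¹} : Set G)) :
      g⁻¹ * h * g ∈ Subgroup.centralizer ({z} : Set G) := by
    have := Commute.map (Subgroup.mem_centralizer_singleton_iff.1 hh : Commute h (g * z * g⁻¹))
      (MulAut.conj g⁻¹)
    refine Subgroup.mem_centralizer_singleton_iff.2 ?_
    have := this.eq
    simpa [mul_assoc] using this

/-- An involution of the quaternion part outside `⟨z⟩` is conjugate to the standard one. -/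
theorem exists_chart {x : G} (hx : x ∈ qSet φ) (hx2 : x * x = 1) (h1 : x ≠ 1) (hz : x ≠ z) :
    ∃ c : P, φ (c * y0 * c⁻¹) = x := by
  obtain ⟨q, hq, rfl⟩ := hx
  obtain ⟨c, hc⟩ := involution_conj q hq
    (S.eq_iff.1 (by rw [map_mul, map_one, hx2]))
    (fun h => h1 (by rw [S.eq_iff.2 h, map_one]))
    (fun h => hz (by rw [S.eq_iff.2 h, S.φz]))
  exact ⟨c, S.eq_iff.2 hc⟩

theorem recoord_eq (c : P) : qSet (φ.comp (MulAut.conj c).toMonoidHom) = qSet φ :=
  Setup.recoord.qSet_recoord S c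

theorem card_qSub [Finite G] : Nat.card (qSub φ) = 32 := by
  classical
  have h1 : Nat.card qpSub = 64 := by
    rw [Nat.card_eq_fintype_card]
    exact (Fintype.card_subtype _).trans qp_card
  have h2 : Nat.card (φ.comp qpSub.subtype).ker = 2 := by
    rw [Nat.card_eq_two_iff]
    refine ⟨⟨⟨1, qpSub.one_mem⟩, by simp⟩, ⟨⟨om, by decide +kernel⟩, by simp [S.map_om]⟩, ?_, ?_⟩
    · simp [Subtype.ext_iff]; decide +kernel
    · ext ⟨⟨x, hx⟩, hk⟩
      simp only [MonoidHom.mem_ker, MonoidHom.comp_apply, Subgroup.coe_subtype] at hk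
      rcases (S.ker x).1 hk with h | h <;> simp [h]
  have h3 := Subgroup.card_eq_card_quotient_mul_card_subgroup (φ.comp qpSub.subtype).ker
  rw [Nat.card_congr (QuotientGroup.quotientKerEquivRange _).toEquiv, h1, h2,
    MonoidHom.range_comp, Subgroup.range_subtype] at h3
  show Nat.card (qpSub.map φ) = 32
  omega
where
  qp_card : ((Finset.univ : Finset P).filter fun x => x ∈ qpSub).card = 64 := by decide +kernel

end Setup

/-- Two coordinate systems at commuting conjugate involutions. -/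
structure World (z y : G) (φ ψ : P →* G) : Prop where
  sφ : Setup z φ
  sψ : Setup y ψ
  φy : φ y0 = y
  ψy : ψ y0 = z
  meet : ∀ x, x ∈ qSet φ → x ∈ qSet ψ → x = 1 ∨ x = z ∨ x = y ∨ x = z * y

theorem World.symm {y : G} {ψ : P →* G} (W : World z y φ ψ) : World y z ψ φ where
  sφ := W.sψ
  sψ := W.sφ
  φy := W.ψy
  ψy := W.φy
  meet x h1 h2 := by
    have hc : z * y = y * z := by rw [← W.φy]; exact (W.sφ.commute_z y0).eq.symm
    rcases W.meet x h2 h1 with h | h | h | h <;> simp [h, hc]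

/-- Every conjugate pair gives a world, with conjugate involutions. -/
theorem Setup.exists_world [Finite G] (S : Setup z φ) :
    ∃ (y : G) (φ' ψ : P →* G), World z y φ' ψ ∧ IsConj z y := by
  obtain ⟨g, hg, hne⟩ := S.exists_conj
  set y := g * z * g⁻¹ with hydef
  have hy2 : y * y = 1 := by
    calc y * y = g * (z * z) * g⁻¹ := by rw [hydef]; group
      _ = 1 := by rw [S.zz_sq]; simp
  have hy1 : y ≠ 1 := fun h => S.z_ne (by simpa [hydef] using h)
  obtain ⟨c, hc⟩ := S.exists_chart hg hy2 hy1 hne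
  set φ' := φ.comp (MulAut.conj c).toMonoidHom with hφ'
  have S' : Setup z φ' := S.recoord c
  have hφy : φ' y0 = y := by simpa [hφ'] using hc
  set ψ₀ := (MulAut.conj g).toMonoidHom.comp φ' with hψ₀
  have T : Setup y ψ₀ := S'.transport g
  -- `z` lies in the quaternion part at `y`: a 2-group modulo it is abelian
  have hzT : z ∈ qSet ψ₀ := by
    set M := Subgroup.centralizer ({y} : Set G) with hM
    have hle : qSub ψ₀ ≤ M := by
      rintro x ⟨q, -, rfl⟩; exact T.le q
    haveI : ((qSub ψ₀).subgroupOf M).Normal := by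
      constructor
      rintro ⟨x, hxM⟩ hx ⟨h, hh⟩
      obtain ⟨q, hq, e⟩ := hx
      simp only [Subgroup.coe_subtype] at e
      obtain ⟨q', hq', e'⟩ := T.normQ h hh q hq
      exact ⟨q', hq', by simp [← e', e]⟩
    set A := (qSub φ').subgroupOf M with hA
    have hAp : IsPGroup 2 A := by
      have : IsPGroup 2 (qSub φ') := IsPGroup.of_card (n := 5) (by rw [S'.card_qSub]; rfl)
      exact this.comap_subtype
    set B := A.map (QuotientGroup.mk' ((qSub ψ₀).subgroupOf M)) with hB
    have hBp : IsPGroup 2 B := hAp.map _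
    obtain ⟨k, hk⟩ := IsPGroup.iff_card.1 hBp
    have hdiv : Nat.card B ∣ 36 := by
      have h1 := Subgroup.card_subgroup_dvd_card B
      have h2 := Subgroup.card_eq_card_quotient_mul_card_subgroup ((qSub ψ₀).subgroupOf M)
      rw [Nat.card_congr (Subgroup.subgroupOfEquivOfLe hle).toEquiv, T.card_qSub, T.card] at h2
      exact (show Nat.card (M ⧸ (qSub ψ₀).subgroupOf M) = 36 by omega) ▸ h1
    haveI : Fact (Nat.Prime 2) := ⟨Nat.prime_two⟩
    have hk2 : k ≤ 2 := by
      rw [hk] at hdiv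
      by_contra hcon
      have : 2 ^ 3 ∣ 36 := (pow_dvd_pow 2 (by omega : 3 ≤ k)).trans hdiv
      norm_num at this
    have hcomm : ∀ a b : B, a * b = b * a := by
      rcases (show k = 0 ∨ k = 1 ∨ k = 2 by omega) with rfl | rfl | rfl
      · haveI := (Nat.card_eq_one_iff_unique.1 hk).1
        exact fun a b => Subsingleton.elim _ _
      · haveI : IsCyclic B := isCyclic_of_prime_card (p := 2) (by rw [hk, pow_one])
        exact fun a b => IsCyclic.commGroup.mul_comm a b
      · exact IsPGroup.commutative_of_card_eq_prime_sq hk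
    have hvM : ∀ v : P, Com v y0 → φ' v ∈ M := fun v hv => by
      rw [hM, Subgroup.mem_centralizer_singleton_iff, ← hφy]
      exact (S'.commute_iff.2 hv).eq
    obtain ⟨-, -, ⟨-, hc1, hc2⟩, -⟩ := table_facts
    have h := hcomm ⟨_, ⟨⟨φ' v1, hvM v1 hc1⟩, ⟨v1, (by decide +kernel : QP v1), rfl⟩, rfl⟩⟩
      ⟨_, ⟨⟨φ' v2, hvM v2 hc2⟩, ⟨v2, (by decide +kernel : QP v2), rfl⟩, rfl⟩⟩
    have h' := Subtype.ext_iff.1 h
    simp only [Subgroup.coe_mul, ← map_mul, QuotientGroup.mk'_eq_mk'] at h'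
    obtain ⟨w, hw, e⟩ := h'
    have hz' : (w : G) = gcm (φ' v2)⁻¹ (φ' v1)⁻¹ := by
      have := congrArg Subtype.val e
      simp only [Subgroup.coe_mul] at this
      rw [gcm, inv_inv, inv_inv, eq_comm, ← inv_mul_eq_iff_eq_mul.2 this.symm]
      group
    have hcm : gcm (φ' v2)⁻¹ (φ' v1)⁻¹ = z := by
      rw [← map_inv, ← map_inv, ← map_gcm, ← S'.φz, S'.eq_iff]
      decide +kernel
    rw [← hcm, ← hz']
    exact hw
  have hzy : z ≠ y := fun h => hne h.symm
  obtain ⟨c', hc'⟩ := T.exists_chart hzT S.zz_sq S.z_ne hzy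
  refine ⟨y, φ', ψ₀.comp (MulAut.conj c').toMonoidHom,
    ⟨S', T.recoord c', hφy, by simpa using hc', ?_⟩, isConj_iff.2 ⟨g, rfl⟩⟩
  intro x hx hx'
  rw [T.recoord_eq] at hx'
  have h4 := S'.inter g (by rw [← hydef]; exact ⟨y0, by decide +kernel, hφy⟩) hne
  have hset : ∀ w, w ∈ qSet ψ₀ → g⁻¹ * w * g ∈ qSet φ' := by
    rintro w ⟨q, hq, rfl⟩; exact ⟨q, hq, by simp [hψ₀, mul_assoc]⟩
  have hzy1 : z * y ≠ 1 := fun h => hzy (by
    rw [← inv_eq_of_mul_eq_one_right h, S.z_inv])
  have hne' : z * y ≠ z ∧ z * y ≠ y :=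
    ⟨fun h => hy1 (mul_eq_left.1 h), fun h => S.z_ne (mul_eq_right.1 h)⟩
  have hsub : ({1, z, y, z * y} : Set G) ⊆ {x | x ∈ qSet φ' ∧ g⁻¹ * x * g ∈ qSet φ'} := by
    have hQ : ∀ w ∈ ({1, z, y, z * y} : Set G), w ∈ qSub φ' ∧ w ∈ qSub ψ₀ := by
      have a1 : z ∈ qSub φ' := S'.z_mem
      have a2 : y ∈ qSub φ' := ⟨y0, show QP y0 by decide +kernel, hφy⟩
      have b1 : z ∈ qSub ψ₀ := hzT
      have b2 : y ∈ qSub ψ₀ := T.z_mem
      rintro w (rfl | rfl | rfl | rfl)
      exacts [⟨one_mem _, one_mem _⟩, ⟨a1, b1⟩, ⟨a2, b2⟩, ⟨mul_mem a1 a2, mul_mem b1 b2⟩]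
    exact fun w hw => ⟨(hQ w hw).1, hset w (hQ w hw).2⟩
  have hcard : ({1, z, y, z * y} : Set G).ncard = 4 := by
    rw [Set.ncard_eq_toFinset_card _ (Set.toFinite _)]
    classical
    rw [Set.Finite.toFinset_eq_toFinset]
    simp [Ne.symm hy1, Ne.symm S.z_ne, Ne.symm hzy1, hzy, Ne.symm hne'.1, Ne.symm hne'.2]
  have heq := Set.eq_of_subset_of_ncard_le hsub (by rw [h4, hcard]) (Set.toFinite _)
  have : x ∈ ({1, z, y, z * y} : Set G) := heq ▸ (⟨hx, hset x hx'⟩ : x ∈ qSet φ' ∧ _)
  simpa using this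

end Cfsg.Agent.U43Type38
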