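import Cfsg.Agent.Lib.U43Type38Nodes33
import Cfsg.Agent.Lib.IsolatedInv

/-!
The nodes of the centraliser of the involution as elements of the group, subgroups given by lists
of nodes, and general lemmas on Sylow subgroups and involutions used in the amalgam for the
unitary type in dimension four over nine elements.
-/

set_option autoImplicit false

namespace Cfsg.Agent.U43Type38Bridge33

open Cfsg.Agent.U43Type38 Cfsg.Agent.U43Type38Cent42 Cfsg.Agent.U43Type38Nodes33
open scoped Pointwise

universe u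

variable {G : Type u} [Group G]

/-! ### General lemmas -/

/-- A `p`-subgroup whose normaliser has no larger `p`-part is a Sylow subgroup. -/
theorem not_dvd_of_normalizer_le [Finite G] {p a : ℕ} [Fact p.Prime] {Q H : Subgroup G}
    (hQ : Nat.card Q = p ^ a) (hN : Subgroup.normalizer (Q : Set G) ≤ H)
    (hH : ¬ p ^ (a + 1) ∣ Nat.card H) : ¬ p ^ (a + 1) ∣ Nat.card G := fun hd =>
  hH ((Sylow.prime_pow_dvd_card_normalizer hd hQ).trans (Subgroup.card_dvd_of_le hN))

/-- Such a subgroup is the carrier of a Sylow subgroup. -/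
theorem exists_sylow_of_not_dvd [Finite G] {p a : ℕ} [Fact p.Prime] {Q : Subgroup G}
    (hQ : Nat.card Q = p ^ a) (h : ¬ p ^ (a + 1) ∣ Nat.card G) :
    ∃ P : Sylow p G, (P : Subgroup G) = Q := by
  refine ⟨Sylow.ofCard Q ?_, Sylow.coe_ofCard Q _⟩
  rw [hQ]
  congr 1
  refine le_antisymm ?_ ?_
  · exact ((Fact.out : p.Prime).pow_dvd_iff_le_factorization Nat.card_pos.ne').mp
      (hQ ▸ Subgroup.card_subgroup_dvd_card Q)
  · by_contra hlt
    exact h (((Fact.out : p.Prime).pow_dvd_iff_le_factorization Nat.card_pos.ne').mpr (by omega))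

/-- Burnside: two subgroups normalised by a Sylow subgroup that are conjugate are conjugate in
its normaliser. -/
theorem conj_in_normalizer [Finite G] {p : ℕ} [Fact p.Prime] (P : Sylow p G) {A B : Subgroup G}
    (hA : (P : Subgroup G) ≤ Subgroup.normalizer (A : Set G))
    (hB : (P : Subgroup G) ≤ Subgroup.normalizer (B : Set G)) {g : G}
    (hg : ∀ x, x ∈ A ↔ g * x * g⁻¹ ∈ B) :
    ∃ n ∈ Subgroup.normalizer ((P : Subgroup G) : Set G), ∀ x, x ∈ A ↔ n * x * n⁻¹ ∈ B := by
  have h2 : ↑(g • P) ≤ Subgroup.normalizer (B : Set G) := by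
    intro y hy
    obtain ⟨t, ht, rfl⟩ := hy
    rw [Subgroup.mem_normalizer_iff]
    intro b
    have hb : b ∈ B ↔ g⁻¹ * b * g ∈ A := by
      rw [hg (g⁻¹ * b * g)]
      simp [mul_assoc]
    show b ∈ B ↔ g * t * g⁻¹ * b * (g * t * g⁻¹)⁻¹ ∈ B
    rw [hb, Subgroup.mem_normalizer_iff.mp (hA ht) (g⁻¹ * b * g), hg]
    simp [mul_assoc]
  obtain ⟨k, hk⟩ := MulAction.exists_smul_eq (Subgroup.normalizer (B : Set G))
    ((g • P).subtype h2) (P.subtype hB)
  simp_rw [Sylow.smul_subtype, Subgroup.smul_def, smul_smul] at hk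
  refine ⟨k * g, Sylow.smul_eq_iff_mem_normalizer.mp (Sylow.subtype_injective hk), fun x => ?_⟩
  rw [hg x, Subgroup.mem_normalizer_iff.mp k.2 (g * x * g⁻¹)]
  simp [mul_assoc]

/-- In a subgroup where an involution has no other involution in its centraliser, distinct
involutions do not commute. -/
theorem eq_of_commute_of_isolated [Finite G] {K : Subgroup G} {z : G} (hzK : z ∈ K)
    (hz : z * z = 1) (hz1 : z ≠ 1)
    (hu : ∀ t ∈ K, t * t = 1 → Commute t z → t = 1 ∨ t = z) {t s : G} (ht : t ∈ K) (hs : s ∈ K)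
    (ht2 : t * t = 1) (ht1 : t ≠ 1) (hs2 : s * s = 1) (hs1 : s ≠ 1) (hts : Commute t s) :
    t = s := by
  have key : ∃ k ∈ K, k * z * k⁻¹ = t := by
    rcases Nat.even_or_odd (orderOf (z * t)) with he | ho
    · obtain ⟨c, hc, hc1, hc2, hcz, hct⟩ := IsolatedInv.exists_central_of_even hz ht2 he
      have hcK : c ∈ K := Subgroup.zpowers_le.mpr (mul_mem hzK ht) hc
      rcases hu c hcK hc2 hcz with rfl | rfl
      · exact absurd rfl hc1
      · rcases hu t ht ht2 hct.symm with rfl | rfl
        · exact absurd rfl ht1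
        · exact ⟨1, one_mem _, by simp⟩
    · obtain ⟨c, hc, hcz⟩ := IsolatedInv.exists_conj_of_odd hz ht2 ho
      exact ⟨c, Subgroup.zpowers_le.mpr (mul_mem hzK ht) hc, hcz⟩
  obtain ⟨k, hk, rfl⟩ := key
  rcases hu (k⁻¹ * s * k) (mul_mem (mul_mem (inv_mem hk) hs) hk)
      (by rw [show k⁻¹ * s * k * (k⁻¹ * s * k) = k⁻¹ * (s * s) * k by group, hs2]; group)
      (by
        have := hts.symm.eq
        calc k⁻¹ * s * k * z = k⁻¹ * (s * (k * z * k⁻¹)) * k := by group
          _ = k⁻¹ * (k * z * k⁻¹ * s) * k := by rw [this]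
          _ = z * (k⁻¹ * s * k) := by group) with h | h
  · exact absurd (by rw [show s = k * (k⁻¹ * s * k) * k⁻¹ by group, h]; group) hs1
  · rw [← h]; group

/-! ### Nodes -/

theorem flip_gen {g : Gens G} (h : g.CentRels) (x : Nat) :
    gen g (flipLetter x) = (gen g x)⁻¹ := by
  have hm := m_inv h
  have hp := p_inv h
  unfold flipLetter gen
  split_ifs <;> simp_all

theorem val_invWord {g : Gens G} (h : g.CentRels) : ∀ w : List Nat,
    val g (invWord w) = (val g w)⁻¹ := by
  intro w
  induction w with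
  | nil => simp [invWord, val]
  | cons x w ih =>
    have : invWord (x :: w) = invWord w ++ [flipLetter x] := by simp [invWord]
    rw [this]
    simp only [val, List.map_append, List.prod_append, List.map_cons, List.map_nil,
      List.prod_cons, List.prod_nil, mul_one, mul_inv_rev] at ih ⊢
    rw [ih, flip_gen h]

variable {g : Gens G} (h : Loc g)
include h

/-- The element of a node. -/
noncomputable def El (i : Nat) : G := elem h.rels i

theorem El_zero : El h 0 = 1 := elem_zero h.rels

theorem El_word {i : Nat} (hi : i < 1152) : val g (word i) = El h i := by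
  rw [val_eq h.rels (word i), eq_of_beq (allB_spec word_ok hi)]; rfl

theorem El_run {w : List Nat} {i : Nat} (hw : run w 0 = i) : El h i = val g w := by
  rw [val_eq h.rels w, hw]; rfl

omit h in
theorem run_lt (w : List Nat) {i : Nat} (hi : i < 1152) : run w i < 1152 := by
  induction w generalizing i with
  | nil => exact hi
  | cons x w ih => exact ih (T_lt hi x)

omit h in
theorem mul_lt {i : Nat} (j : Nat) (hi : i < 1152) : mul i j < 1152 := run_lt _ hi

omit h in
theorem cj_lt {c : Nat} (i : Nat) (hc : c < 1152) : cj c i < 1152 := run_lt _ (mul_lt _ hc)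

theorem El_mul {i j : Nat} (hi : i < 1152) (hj : j < 1152) :
    El h (mul i j) = El h i * El h j := by
  rw [← El_word h hj]
  exact (elem_run h.rels _ hi).2

theorem El_cj {c i : Nat} (hc : c < 1152) (hi : i < 1152) :
    El h (cj c i) = El h c * El h i * (El h c)⁻¹ := by
  rw [← El_mul h hc hi, ← El_word h hc, ← val_invWord h.rels]
  exact (elem_run h.rels _ (mul_lt _ hc)).2

theorem cent_eq : Subgroup.closure {g.a, g.b, g.p, g.m} = Subgroup.centralizer ({g.z} : Set G) :=
  h.gen

theorem El_z : El h 576 = g.z := by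
  rw [El_run h (w := [0, 0]) (by decide +kernel)]; simp [val, gen, Gens.z]

theorem El_inj {i j : Nat} (hi : i < 1152) (hj : j < 1152) (he : El h i = El h j) : i = j :=
  elem_inj h.rels (by rw [h.gen, h.card]; norm_num) hi hj he

theorem exists_node {t : G} (ht : Commute t g.z) : ∃ i, i < 1152 ∧ El h i = t :=
  exists_elem h.rels (by
    rw [h.gen, Subgroup.mem_centralizer_iff]
    rintro y rfl
    exact ht.eq.symm)

theorem El_commute_z {i : Nat} (hi : i < 1152) : Commute (El h i) g.z := by
  have hmem : El h i ∈ Subgroup.centralizer ({g.z} : Set G) := by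
    rw [← h.gen, ← El_word h hi]
    refine Subgroup.list_prod_mem _ fun y hy => ?_
    obtain ⟨x, -, rfl⟩ := List.mem_map.mp hy
    have hA := Subgroup.subset_closure (k := {g.a, g.b, g.p, g.m})
    unfold gen
    split_ifs
    · exact hA (by simp)
    · exact inv_mem (hA (by simp))
    · exact hA (by simp)
    · exact inv_mem (hA (by simp))
    · exact hA (by simp)
    · exact hA (by simp)
  exact (Subgroup.mem_centralizer_iff.mp hmem g.z rfl).symm

theorem com_iff {i j : Nat} (hi : i < 1152) (hj : j < 1152) :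
    com i j = true ↔ Commute (El h i) (El h j) := by
  unfold com Commute SemiconjBy
  rw [← El_mul h hi hj, ← El_mul h hj hi, beq_iff_eq]
  exact ⟨fun e => by rw [e], fun e => El_inj h (mul_lt _ hi) (mul_lt _ hj) e⟩

theorem El_ne_one {i : Nat} (hi : i < 1152) (h0 : i ≠ 0) : El h i ≠ 1 := fun e =>
  h0 (El_inj h hi (by norm_num) (e.trans (El_zero h).symm))

theorem nine_of_pow {i : Nat} (hi : i < 1152) (h9 : El h i ^ 9 = 1) : nine i = true := by
  have h1 := mul_lt i hi
  have h2 := mul_lt i h1
  have h3 := mul_lt (mul (mul i i) i) h2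
  have h4 := mul_lt (mul (mul i i) i) h3
  unfold nine
  refine beq_iff_eq.mpr (El_inj h h4 (by norm_num) ?_)
  rw [El_mul h h3 h2, El_mul h h2 h2, El_mul h h1 hi, El_mul h hi hi, El_zero, ← h9]
  simp [pow_succ, mul_assoc]

theorem mem_invs {i : Nat} (hi : i < 1152) (h2 : El h i * El h i = 1) : i ∈ invs := by
  have := allB_spec invs_ok hi
  have e : mul i i = 0 := El_inj h (mul_lt _ hi) (by norm_num) (by rw [El_mul h hi hi, h2, El_zero])
  simpa [e] using this

/-- The subgroup generated by some nodes. -/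
noncomputable def sub (gens : List Nat) : Subgroup G :=
  Subgroup.closure {t | ∃ i ∈ gens, El h i = t}

theorem El_pr {gens : List Nat} (hg : ∀ x ∈ gens, x < 1152) :
    ∀ s : List Nat, (∀ x ∈ s, x ∈ gens) →
      pr s < 1152 ∧ El h (pr s) = (s.map (El h)).prod := by
  intro s
  induction s using List.reverseRecOn with
  | nil => intro _; exact ⟨by simp [pr], by simp [pr, El_zero h]⟩
  | append_singleton s x ih =>
    intro hs
    obtain ⟨h1, h2⟩ := ih fun y hy => hs y (by simp [hy])
    have e : pr (s ++ [x]) = mul (pr s) x := by simp [pr]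
    refine ⟨e ▸ mul_lt _ h1, ?_⟩
    rw [e, El_mul h h1 (hg x (hs x (by simp))), h2]
    simp

omit h in
theorem setOk_spec {gens L : List Nat} {w : Nat → List Nat} (hok : setOk gens L w = true) :
    0 ∈ L ∧ (∀ x ∈ gens, x < 1152) ∧ (∀ i ∈ L, i < 1152) ∧
      (∀ i ∈ L, ∀ x ∈ gens, mul i x ∈ L) ∧ (∀ i ∈ L, pr (w i) = i) ∧
      (∀ i ∈ L, ∀ x ∈ w i, x ∈ gens) ∧ L.Nodup := by
  simp only [setOk, Bool.and_eq_true, List.all_eq_true, decide_eq_true_eq,
    List.contains_iff_mem, beq_iff_eq] at hok
  obtain ⟨⟨⟨h0, hg⟩, hL⟩, hn⟩ := hok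
  exact ⟨h0, hg, fun i hi => (hL i hi).1.1.1, fun i hi => (hL i hi).1.1.2,
    fun i hi => (hL i hi).1.2, fun i hi => (hL i hi).2, hn⟩

theorem mem_sub_iff [Finite G] {gens L : List Nat} {w : Nat → List Nat}
    (hok : setOk gens L w = true) {t : G} : t ∈ sub h gens ↔ ∃ i ∈ L, El h i = t := by
  obtain ⟨h0, hg, hL, hcl, hpr, hw, -⟩ := setOk_spec hok
  constructor
  · intro ht
    rw [sub, ← Subgroup.mem_toSubmonoid, Subgroup.closure_toSubmonoid_of_finite] at ht
    induction ht using Submonoid.closure_induction_right with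
    | one => exact ⟨0, h0, El_zero h⟩
    | mul_right y _ x hx ih =>
      obtain ⟨i, hi, rfl⟩ := ih
      obtain ⟨j, hj, rfl⟩ := hx
      exact ⟨mul i j, hcl i hi j hj, El_mul h (hL i hi) (hg j hj)⟩
  · rintro ⟨i, hi, rfl⟩
    rw [← hpr i hi, (El_pr h hg _ (hw i hi)).2]
    refine Subgroup.list_prod_mem _ fun y hy => ?_
    obtain ⟨x, hx, rfl⟩ := List.mem_map.mp hy
    exact Subgroup.subset_closure ⟨x, hw i hi x hx, rfl⟩

theorem El_mem_sub_iff [Finite G] {gens L : List Nat} {w : Nat → List Nat}
    (hok : setOk gens L w = true) {i : Nat} (hi : i < 1152) : El h i ∈ sub h gens ↔ i ∈ L := by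
  rw [mem_sub_iff h hok]
  exact ⟨fun ⟨j, hj, e⟩ => El_inj h ((setOk_spec hok).2.2.1 j hj) hi e ▸ hj,
    fun hi' => ⟨i, hi', rfl⟩⟩

theorem card_sub [Finite G] {gens L : List Nat} {w : Nat → List Nat}
    (hok : setOk gens L w = true) : Nat.card (sub h gens) = L.length := by
  classical
  obtain ⟨-, -, hL, -, -, -, hn⟩ := setOk_spec hok
  have : (↑(L.toFinset.image (El h)) : Set G) = (sub h gens : Set G) := by
    ext t; simp [mem_sub_iff h hok]
  rw [← SetLike.coe_sort_coe, Nat.card_coe_set_eq, ← this, Set.ncard_coe_finset,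
    Finset.card_image_of_injOn, List.toFinset_card_of_nodup hn]
  intro i hi j hj e
  exact El_inj h (hL i (by simpa using hi)) (hL j (by simpa using hj)) e

end Cfsg.Agent.U43Type38Bridge33
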