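import Cfsg.Agent.Lib.U43Type38Spec
import Cfsg.Agent.Lib.SL23Model77

/-!
The table of the right regular action on the centraliser of the involution (order 1152) of the five
generators of unitary type in dimension four over nine elements.

Node `i < 1152` stands for `φ s * φ' s' * t k` with `i = (12 * idx s + idx s') * 4 + k`, where `φ`, `φ'`
are the two copies of `SL(2,3)` and `t` runs over `1, p, m, p * m`.
-/

set_option autoImplicit false

namespace Cfsg.Agent.U43Type38Cent42

open Cfsg.Agent.U43Type38 Cfsg.Agent.SL23Model77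

universe u

/-- Right multiplications in `SL(2,3)` by `a, a⁻¹, b, b⁻¹` and the images of `a, a⁻¹` under the
exchange by `m`. -/
def tabA : List Nat := [6, 4, 11, 21, 13, 8, 12, 10, 17, 3, 19, 14, 18, 16, 23, 9, 1, 20, 0, 22, 5, 15, 7, 2]
def tabAi : List Nat := [18, 16, 23, 9, 1, 20, 0, 22, 5, 15, 7, 2, 6, 4, 11, 21, 13, 8, 12, 10, 17, 3, 19, 14]
def tabB : List Nat := [1, 2, 0, 4, 5, 3, 7, 8, 6, 10, 11, 9, 13, 14, 12, 16, 17, 15, 19, 20, 18, 22, 23, 21]
def tabBi : List Nat := [2, 0, 1, 5, 3, 4, 8, 6, 7, 11, 9, 10, 14, 12, 13, 17, 15, 16, 20, 18, 19, 23, 21, 22]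
def tabTA : List Nat := [15, 22, 20, 0, 19, 11, 21, 4, 2, 6, 1, 17, 3, 10, 8, 12, 7, 23, 9, 16, 14, 18, 13, 5]
def tabTAi : List Nat := [3, 10, 8, 12, 7, 23, 9, 16, 14, 18, 13, 5, 15, 22, 20, 0, 19, 11, 21, 4, 2, 6, 1, 17]

/-- Move the first component of a node. -/
def fst (T : List Nat) (i : Nat) : Nat := (12 * T.getD (i / 48) 0 + i / 4 % 12) * 4 + i % 4

/-- Move the second component of a node, carrying the central involution into the first one. -/
def snd (T : List Nat) (i : Nat) : Nat :=
  if T.getD (i / 4 % 12) 0 < 12 then (12 * (i / 48) + T.getD (i / 4 % 12) 0) * 4 + i % 4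
  else (12 * ((i / 48 + 12) % 24) + (T.getD (i / 4 % 12) 0 - 12)) * 4 + i % 4

/-- Right multiplication by the letter whose images are `T` and, beyond `m`, `T'`. -/
def move (T T' : List Nat) (i : Nat) : Nat :=
  if i % 4 = 0 then fst T i else if i % 4 = 1 then snd T i else if i % 4 = 2 then snd T' i
  else fst T' i

/-- Multiply the first component by the central involution. -/
def flipZ (i : Nat) : Nat := (i + 576) % 1152

/-- The table: right multiplication of node `i` by generator `x`
(`0 : a`, `1 : a⁻¹`, `2 : b`, `3 : b⁻¹`, `4 : p`, else `m`). -/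
def T (i x : Nat) : Nat :=
  if x = 0 then move tabA tabTA i else if x = 1 then move tabAi tabTAi i
  else if x = 2 then move tabB tabBi i else if x = 3 then move tabBi tabB i
  else if x = 4 then
    if i % 4 = 0 then i + 1 else if i % 4 = 1 then i - 1
    else if i % 4 = 2 then flipZ (i + 1) else flipZ (i - 1)
  else if i % 4 < 2 then i + 2 else i - 2

/-- The end of the path of a word from node `i`. -/
def run (w : List Nat) (i : Nat) : Nat := w.foldl T i

/-- The matrix with the given code. -/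
def e (n : Nat) : SL := w0 ^ (n / 6) * w1 ^ (n / 3 % 2) * SL23Model77.u ^ (n % 3)

theorem tab_spec : ∀ n : Fin 24,
    e (tabA.getD n 0) = e n * w0 ∧ e (tabAi.getD n 0) = e n * w0⁻¹ ∧
    e (tabB.getD n 0) = e n * SL23Model77.u ∧ e (tabBi.getD n 0) = e n * SL23Model77.u⁻¹ ∧
    e (tabTA.getD n 0) = e n * (SL23Model77.u * w0⁻¹ * SL23Model77.u⁻¹) ∧
    e (tabTAi.getD n 0) = e n * (SL23Model77.u * w0⁻¹ * SL23Model77.u⁻¹)⁻¹ ∧
    e ((n + 12) % 24) = e n * (w0 * w0) ∧
    tabA.getD n 0 < 24 ∧ tabAi.getD n 0 < 24 ∧ tabB.getD n 0 < 24 ∧ tabBi.getD n 0 < 24 ∧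
    tabTA.getD n 0 < 24 ∧ tabTAi.getD n 0 < 24 := by decide +kernel

variable {G : Type u} [Group G]

/-- The generators by number. -/
def gen (g : Gens G) (x : Nat) : G :=
  if x = 0 then g.a else if x = 1 then g.a⁻¹ else if x = 2 then g.b else if x = 3 then g.b⁻¹
  else if x = 4 then g.p else g.m

/-- The value of a word. -/
def val (g : Gens G) (w : List Nat) : G := (w.map (gen g)).prod

variable {g : Gens G} (h : g.CentRels)
include h

theorem p_inv : g.p⁻¹ = g.p := inv_eq_of_mul_eq_one_right (by rw [← pow_two]; exact h.p2)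

theorem m_inv : g.m⁻¹ = g.m := inv_eq_of_mul_eq_one_right (by rw [← pow_two]; exact h.m2)

theorem exists_phi : ∃ φ : SL →* G, φ w0 = g.a ∧ φ SL23Model77.u = g.b := by
  have hz : g.a * g.a = g.z := rfl
  have bi : g.b⁻¹ = g.b * g.b :=
    inv_eq_of_mul_eq_one_right (by rw [← h.b3, pow_succ', pow_two])
  have ai : g.a⁻¹ = g.z * g.a :=
    inv_eq_of_mul_eq_one_right (by rw [← h.a4, Gens.z]; simp [pow_succ, mul_assoc])
  set y := g.b * g.a * g.b⁻¹ with hy
  have h1 : g.a * g.b * g.a * g.b * g.a * g.b = g.a * g.a := by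
    have := h.ab
    simp only [pow_succ, pow_zero, one_mul, ← mul_assoc] at this
    exact this
  have hkey : g.a * y = g.b⁻¹ * g.a * g.b := by
    have e1 : g.b * g.a * g.b * g.a * g.b = g.a := by
      refine mul_left_cancel (a := g.a) ?_
      simp only [← mul_assoc]
      exact h1
    have e2 : g.a * g.b * g.a = g.b⁻¹ * g.a * g.b⁻¹ := by
      calc g.a * g.b * g.a = g.b⁻¹ * (g.b * g.a * g.b * g.a * g.b) * g.b⁻¹ := by group
        _ = g.b⁻¹ * g.a * g.b⁻¹ := by rw [e1]
    calc g.a * y = g.a * g.b * g.a * g.b⁻¹ := by rw [hy]; group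
      _ = g.b⁻¹ * g.a * (g.b⁻¹ * g.b⁻¹) := by rw [e2]; group
      _ = g.b⁻¹ * g.a * g.b := by
        rw [show g.b⁻¹ * g.b⁻¹ = g.b by
          rw [← mul_inv_rev, ← bi, inv_inv]]
  obtain ⟨φ, hw, hu⟩ := exists_hom g.a g.b h.a4 h.b3 (by
    calc y * y = g.b * g.z * g.b⁻¹ := by rw [hy, ← hz]; group
      _ = g.z := by rw [h.bz.eq, mul_inv_cancel_right]) (by
    have hb : g.b * y * g.b⁻¹ = g.a * y := by
      rw [hkey]
      calc g.b * y * g.b⁻¹ = g.b * g.b * g.a * (g.b * g.b)⁻¹ := by rw [hy]; group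
        _ = g.b⁻¹ * g.a * g.b := by rw [← bi, inv_inv]
    calc y * g.a * y⁻¹ = g.b * g.a * (g.b⁻¹ * g.a * g.b) * g.a⁻¹ * g.b⁻¹ := by rw [hy]; group
      _ = g.b * g.z * g.b⁻¹ * (g.b * y * g.b⁻¹) * (g.b * g.a⁻¹ * g.b⁻¹) := by
        rw [← hkey, ← hz]; group
      _ = g.z * (g.a * y) * y⁻¹ := by
        rw [hb, h.bz.eq, mul_inv_cancel_right, show g.b * g.a⁻¹ * g.b⁻¹ = y⁻¹ by rw [hy]; group]
      _ = g.a⁻¹ := by rw [ai]; group) (by
    rw [hkey]
    calc g.b * y * g.b⁻¹ = g.b * g.b * g.a * (g.b * g.b)⁻¹ := by rw [hy]; group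
      _ = g.b⁻¹ * g.a * g.b := by rw [← bi, inv_inv])
  exact ⟨φ, hw, hu⟩

/-- The two copies of `SL(2,3)`. -/
noncomputable def phi : SL →* G := (exists_phi h).choose

/-- The second copy. -/
noncomputable def phi' : SL →* G := (MulAut.conj g.p).toMonoidHom.comp (phi h)

theorem phi_w0 : phi h w0 = g.a := (exists_phi h).choose_spec.1

theorem phi_u : phi h SL23Model77.u = g.b := (exists_phi h).choose_spec.2

theorem phi'_eq (s : SL) : phi' h s = g.p * phi h s * g.p := by
  show g.p * phi h s * g.p⁻¹ = _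
  rw [p_inv h]

theorem phi_z : phi h (w0 * w0) = g.z := by rw [map_mul, phi_w0]; rfl

theorem phi'_z : phi' h (w0 * w0) = g.z := by
  rw [phi'_eq, phi_z, h.pz.eq, mul_assoc, ← pow_two, h.p2, mul_one]

theorem comm_gen {s : SL} (hs : s = w0 ∨ s = SL23Model77.u) :
    ∀ t : SL, phi h s * phi' h t = phi' h t * phi h s := by
  have key : ∀ t, t = w0 ∨ t = SL23Model77.u → Commute (phi h s) (phi' h t) := by
    rintro t (rfl | rfl) <;> rcases hs with rfl | rfl <;>
      simp only [phi'_eq, phi_w0, phi_u]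
    · exact h.aa'
    · exact h.ba'
    · exact h.ab'
    · exact h.bb'
  intro t
  obtain ⟨n, rfl⟩ := enc_surjective t
  have hw1 : Commute (phi h s) (phi' h w1) := by
    rw [w1, map_mul, map_mul, map_inv]
    exact ((key _ (Or.inr rfl)).mul_right (key _ (Or.inl rfl))).mul_right (key _ (Or.inr rfl)).inv_right
  rw [enc, map_mul, map_mul, map_pow, map_pow, map_pow]
  exact (((key _ (Or.inl rfl)).pow_right _).mul_right (hw1.pow_right _)).mul_right
    ((key _ (Or.inr rfl)).pow_right _)

theorem comm (s t : SL) : Commute (phi h s) (phi' h t) := by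
  obtain ⟨n, rfl⟩ := enc_surjective s
  have h0 : Commute (phi h w0) (phi' h t) := comm_gen h (Or.inl rfl) t
  have hu : Commute (phi h SL23Model77.u) (phi' h t) := comm_gen h (Or.inr rfl) t
  have h1 : Commute (phi h w1) (phi' h t) := by
    rw [w1, map_mul, map_mul, map_inv]
    exact (hu.mul_left h0).mul_left hu.inv_left
  rw [enc, map_mul, map_mul, map_pow, map_pow, map_pow]
  exact ((h0.pow_left _).mul_left (h1.pow_left _)).mul_left (hu.pow_left _)

/-- The representatives modulo the two copies. -/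
def rep (g : Gens G) (k : Nat) : G :=
  if k = 0 then 1 else if k = 1 then g.p else if k = 2 then g.m else g.p * g.m

/-- The element of a node. -/
noncomputable def elem (i : Nat) : G :=
  phi h (e (i / 48)) * phi' h (e (i / 4 % 12)) * rep g (i % 4)

theorem elem_zero : elem h 0 = 1 := by
  have : e 0 = 1 := by decide +kernel
  simp [elem, rep, this]

theorem dec (s s' k : Nat) (hs' : s' < 12) (hk : k < 4) :
    ((12 * s + s') * 4 + k) / 48 = s ∧ ((12 * s + s') * 4 + k) / 4 % 12 = s' ∧
      ((12 * s + s') * 4 + k) % 4 = k := by omega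

theorem elem_fst {i : Nat} (hi : i < 1152) {T : List Nat} {x : SL}
    (hT : ∀ n : Fin 24, e (T.getD n 0) = e n * x) :
    elem h (fst T i) = phi h (e (i / 48) * x) * phi' h (e (i / 4 % 12)) * rep g (i % 4) := by
  obtain ⟨h1, h2, h3⟩ := dec h (T.getD (i / 48) 0) (i / 4 % 12) (i % 4) (by omega) (by omega)
  rw [elem, fst, h1, h2, h3, hT ⟨i / 48, by omega⟩]

theorem elem_snd {i : Nat} (hi : i < 1152) {T : List Nat} {x : SL}
    (hT : ∀ n : Fin 24, e (T.getD n 0) = e n * x) (hlt : ∀ n : Fin 24, T.getD n 0 < 24) :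
    elem h (snd T i) = phi h (e (i / 48)) * phi' h (e (i / 4 % 12) * x) * rep g (i % 4) := by
  have hlt' : T.getD (i / 4 % 12) 0 < 24 := hlt ⟨i / 4 % 12, by omega⟩
  have hT' : e (T.getD (i / 4 % 12) 0) = e (i / 4 % 12) * x := hT ⟨i / 4 % 12, by omega⟩
  unfold snd
  split
  · next hl =>
    obtain ⟨h1, h2, h3⟩ := dec h (i / 48) (T.getD (i / 4 % 12) 0) (i % 4) hl (by omega)
    rw [elem, h1, h2, h3, hT']
  · next hl =>
    obtain ⟨h1, h2, h3⟩ := dec h ((i / 48 + 12) % 24) (T.getD (i / 4 % 12) 0 - 12) (i % 4)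
      (by omega) (by omega)
    have hsum : (T.getD (i / 4 % 12) 0 - 12 + 12) % 24 = T.getD (i / 4 % 12) 0 := by omega
    have hz1 : e ((i / 48 + 12) % 24) = e (i / 48) * (w0 * w0) :=
      (tab_spec ⟨i / 48, by omega⟩).2.2.2.2.2.2.1
    have hz2 : e (T.getD (i / 4 % 12) 0 - 12) = e (i / 4 % 12) * x * (w0 * w0) := by
      have := (tab_spec ⟨T.getD (i / 4 % 12) 0 - 12, by omega⟩).2.2.2.2.2.2.1
      rw [hsum, hT'] at this
      rw [this, mul_assoc, show w0 * w0 * (w0 * w0) = 1 by decide, mul_one]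
    rw [elem, h1, h2, h3, hz1, hz2, map_mul (phi h), map_mul (phi' h) (_ * x), phi_z, phi'_z]
    congr 1
    have hzc : Commute g.z (phi' h (e (i / 4 % 12) * x)) := phi_z h ▸ comm h (w0 * w0) _
    have hzz : g.z * g.z = 1 := by
      rw [← h.a4, Gens.z]; simp [pow_succ, mul_assoc]
    rw [← mul_assoc, mul_assoc (phi h _) g.z, hzc.eq, mul_assoc, mul_assoc, hzz, mul_one]

theorem m_phi {x : SL} {X : SL} (hx : g.m * phi h x * g.m = phi' h X) :
    g.p * g.m * phi h x = phi h X * (g.p * g.m) := by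
  have e1 : g.m * phi h x = phi' h X * g.m := by
    rw [← hx, mul_assoc _ g.m g.m, ← pow_two, h.m2, mul_one]
  rw [mul_assoc, e1, phi'_eq]
  have : g.p * g.p = 1 := by rw [← pow_two]; exact h.p2
  simp only [← mul_assoc, this, one_mul]

theorem elem_move {i : Nat} (hi : i < 1152) {T T' : List Nat} {x X : SL}
    (hx : g.m * phi h x * g.m = phi' h X)
    (hT : ∀ n : Fin 24, e (T.getD n 0) = e n * x) (hlt : ∀ n : Fin 24, T.getD n 0 < 24)
    (hT' : ∀ n : Fin 24, e (T'.getD n 0) = e n * X) (hlt' : ∀ n : Fin 24, T'.getD n 0 < 24) :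
    elem h (move T T' i) = elem h i * phi h x := by
  have key : ∀ s t y : SL, phi h (s * y) * phi' h t = phi h s * phi' h t * phi h y := by
    intro s t y
    rw [map_mul, mul_assoc, mul_assoc, (comm h y t).eq]
  have hi4 : i % 4 < 4 := Nat.mod_lt _ (by omega)
  unfold move
  interval_cases hk : i % 4
  · rw [if_pos rfl, elem_fst h hi hT, elem, hk, key]
    simp [rep]
  · rw [if_neg (by omega), if_pos rfl, elem_snd h hi hT hlt, elem, hk, map_mul, phi'_eq h x]
    have : g.p * g.p = 1 := by rw [← pow_two]; exact h.p2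
    simp [rep, mul_assoc, this]
  · rw [if_neg (by omega), if_neg (by omega), if_pos rfl, elem_snd h hi hT' hlt', elem, hk,
      map_mul, ← hx]
    have : g.m * g.m = 1 := by rw [← pow_two]; exact h.m2
    simp [rep, mul_assoc, this]
  · rw [if_neg (by omega), if_neg (by omega), if_neg (by omega), elem_fst h hi hT', elem, hk, key]
    simp only [rep, show ((3 : Nat) = 0) = False by simp, show ((3 : Nat) = 1) = False by simp,
      show ((3 : Nat) = 2) = False by simp, if_false]
    rw [mul_assoc _ (g.p * g.m) (phi h x), m_phi h hx, mul_assoc]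

theorem mp_eq : g.m * g.p = g.z * (g.p * g.m) := by
  have e1 : g.p * g.m * (g.p * g.m) = g.z := by rw [← pow_two]; exact h.pm
  have hzz : g.z * g.z = 1 := by rw [← h.a4, Gens.z]; simp [pow_succ, mul_assoc]
  have e2 : (g.p * g.m)⁻¹ = g.m * g.p := by rw [mul_inv_rev, p_inv h, m_inv h]
  rw [← e2]
  apply inv_eq_of_mul_eq_one_right
  rw [← mul_assoc, ((h.pz.mul_left h.mz).eq), mul_assoc, e1, hzz]

theorem elem_flip {i : Nat} (hi : i < 1152) :
    elem h (flipZ i) = phi h (e (i / 48)) * phi' h (e (i / 4 % 12)) * (g.z * rep g (i % 4)) := by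
  have h1 : flipZ i / 48 = (i / 48 + 12) % 24 := by unfold flipZ; omega
  have h2 : flipZ i / 4 % 12 = i / 4 % 12 := by unfold flipZ; omega
  have h3 : flipZ i % 4 = i % 4 := by unfold flipZ; omega
  have hz : e ((i / 48 + 12) % 24) = e (i / 48) * (w0 * w0) :=
    (tab_spec ⟨i / 48, by omega⟩).2.2.2.2.2.2.1
  rw [elem, h1, h2, h3, hz, map_mul (phi h) (e (i / 48)), phi_z]
  have hc : Commute g.z (phi' h (e (i / 4 % 12))) := phi_z h ▸ comm h (w0 * w0) _
  rw [mul_assoc (phi h (e (i / 48))) g.z, hc.eq]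
  simp only [mul_assoc]

/-- The table describes right multiplication. -/
theorem elem_T {i : Nat} (hi : i < 1152) (x : Nat) :
    elem h (T i x) = elem h i * gen g x := by
  have ha : g.m * phi h w0 * g.m =
      phi' h (SL23Model77.u * w0⁻¹ * SL23Model77.u⁻¹) := by
    rw [phi'_eq, map_mul, map_mul, map_inv, map_inv, phi_w0, phi_u, ← h.ma]
    have hp : g.p * g.p = 1 := by rw [← pow_two]; exact h.p2
    rw [show g.p * (g.p * (g.m * g.a * g.m) * g.p) * g.p =
      (g.p * g.p) * (g.m * g.a * g.m) * (g.p * g.p) by group, hp, one_mul, mul_one]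
  have hb : g.m * phi h SL23Model77.u * g.m = phi' h SL23Model77.u⁻¹ := by
    rw [map_inv, phi'_eq, phi_u]
    exact h.mb
  have inv : ∀ {x X : SL}, g.m * phi h x * g.m = phi' h X →
      g.m * phi h x⁻¹ * g.m = phi' h X⁻¹ := by
    intro x X e1
    rw [map_inv, map_inv, ← e1, mul_inv_rev, mul_inv_rev, m_inv h, mul_assoc]
  have hub : (SL23Model77.u⁻¹)⁻¹ = SL23Model77.u := inv_inv _
  unfold T gen
  split
  · rw [elem_move h hi ha (fun n => (tab_spec n).1) (fun n => (tab_spec n).2.2.2.2.2.2.2.1)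
      (fun n => (tab_spec n).2.2.2.2.1) (fun n => (tab_spec n).2.2.2.2.2.2.2.2.2.2.2.1), phi_w0]
  split
  · rw [elem_move h hi (inv ha) (fun n => (tab_spec n).2.1)
      (fun n => (tab_spec n).2.2.2.2.2.2.2.2.1)
      (fun n => (tab_spec n).2.2.2.2.2.1) (fun n => (tab_spec n).2.2.2.2.2.2.2.2.2.2.2.2),
      map_inv, phi_w0]
  split
  · rw [elem_move h hi hb (fun n => (tab_spec n).2.2.1)
      (fun n => (tab_spec n).2.2.2.2.2.2.2.2.2.1)
      (fun n => (tab_spec n).2.2.2.1) (fun n => (tab_spec n).2.2.2.2.2.2.2.2.2.2.1), phi_u]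
  split
  · rw [elem_move h hi (inv hb) (fun n => (tab_spec n).2.2.2.1)
      (fun n => (tab_spec n).2.2.2.2.2.2.2.2.2.2.1)
      (fun n => by rw [hub]; exact (tab_spec n).2.2.1)
      (fun n => (tab_spec n).2.2.2.2.2.2.2.2.2.1), map_inv, phi_u]
  have hp : g.p * g.p = 1 := by rw [← pow_two]; exact h.p2
  have hm : g.m * g.m = 1 := by rw [← pow_two]; exact h.m2
  have hi4 : i % 4 < 4 := Nat.mod_lt _ (by omega)
  split
  · interval_cases hk : i % 4
    · rw [if_pos rfl, elem, elem, show (i + 1) / 48 = i / 48 by omega,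
        show (i + 1) / 4 = i / 4 by omega, show (i + 1) % 4 = 1 by omega, hk]
      simp [rep]
    · rw [if_neg (by omega), if_pos rfl, elem, elem, show (i - 1) / 48 = i / 48 by omega,
        show (i - 1) / 4 = i / 4 by omega, show (i - 1) % 4 = 0 by omega, hk]
      simp [rep, mul_assoc, hp]
    · rw [if_neg (by omega), if_neg (by omega), if_pos rfl, elem_flip h (by omega),
        show (i + 1) / 48 = i / 48 by omega, show (i + 1) / 4 = i / 4 by omega,
        show (i + 1) % 4 = 3 by omega, elem, hk, mul_assoc _ (rep g 2)]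
      congr 1
      simp [rep, mp_eq h]
    · rw [if_neg (by omega), if_neg (by omega), if_neg (by omega), elem_flip h (by omega),
        show (i - 1) / 48 = i / 48 by omega, show (i - 1) / 4 = i / 4 by omega,
        show (i - 1) % 4 = 2 by omega, elem, hk, mul_assoc _ (rep g 3)]
      congr 1
      simp only [rep, show ((3 : Nat) = 0) = False by simp, show ((3 : Nat) = 1) = False by simp,
        show ((3 : Nat) = 2) = False by simp, show ((2 : Nat) = 0) = False by simp,
        show ((2 : Nat) = 1) = False by simp, if_false, if_true]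
      rw [mul_assoc g.p g.m g.p, mp_eq h, ← mul_assoc, ← mul_assoc, h.pz.eq, mul_assoc g.z g.p g.p,
        hp, mul_one]
  · interval_cases hk : i % 4
    · rw [if_pos (by omega), elem, elem, show (i + 2) / 48 = i / 48 by omega,
        show (i + 2) / 4 = i / 4 by omega, show (i + 2) % 4 = 2 by omega, hk]
      simp [rep]
    · rw [if_pos (by omega), elem, elem, show (i + 2) / 48 = i / 48 by omega,
        show (i + 2) / 4 = i / 4 by omega, show (i + 2) % 4 = 3 by omega, hk]
      simp [rep, mul_assoc]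
    · rw [if_neg (by omega), elem, elem, show (i - 2) / 48 = i / 48 by omega,
        show (i - 2) / 4 = i / 4 by omega, show (i - 2) % 4 = 0 by omega, hk]
      simp [rep, mul_assoc, hm]
    · rw [if_neg (by omega), elem, elem, show (i - 2) / 48 = i / 48 by omega,
        show (i - 2) / 4 = i / 4 by omega, show (i - 2) % 4 = 1 by omega, hk]
      simp [rep, mul_assoc, hm]

omit h in
theorem T_lt {i : Nat} (hi : i < 1152) (x : Nat) : T i x < 1152 := by
  have hf : ∀ L : List Nat, (∀ n : Fin 24, L.getD n 0 < 24) → fst L i < 1152 := by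
    intro L hL
    have := hL ⟨i / 48, by omega⟩
    simp only [fst]; simp only at this; omega
  have hs : ∀ L : List Nat, (∀ n : Fin 24, L.getD n 0 < 24) → snd L i < 1152 := by
    intro L hL
    have := hL ⟨i / 4 % 12, by omega⟩
    simp only [snd]; simp only at this; split <;> omega
  have hm : ∀ L L' : List Nat, (∀ n : Fin 24, L.getD n 0 < 24) →
      (∀ n : Fin 24, L'.getD n 0 < 24) → move L L' i < 1152 := by
    intro L L' hL hL'
    unfold move
    split
    · exact hf L hL
    split
    · exact hs L hL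
    split
    · exact hs L' hL'
    · exact hf L' hL'
  have b0 : ∀ n : Fin 24, tabA.getD n 0 < 24 ∧ tabAi.getD n 0 < 24 ∧ tabB.getD n 0 < 24 ∧
      tabBi.getD n 0 < 24 ∧ tabTA.getD n 0 < 24 ∧ tabTAi.getD n 0 < 24 := fun n =>
    (tab_spec n).2.2.2.2.2.2.2
  unfold T
  split
  · exact hm _ _ (fun n => (b0 n).1) fun n => (b0 n).2.2.2.2.1
  split
  · exact hm _ _ (fun n => (b0 n).2.1) fun n => (b0 n).2.2.2.2.2
  split
  · exact hm _ _ (fun n => (b0 n).2.2.1) fun n => (b0 n).2.2.2.1
  split
  · exact hm _ _ (fun n => (b0 n).2.2.2.1) fun n => (b0 n).2.2.1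
  have hi4 : i % 4 < 4 := Nat.mod_lt _ (by omega)
  unfold flipZ
  split
  · split
    · omega
    split
    · omega
    split <;> omega
  · split <;> omega

theorem elem_run : ∀ (w : List Nat) {i : Nat}, i < 1152 →
    run w i < 1152 ∧ elem h (run w i) = elem h i * val g w := by
  intro w
  induction w with
  | nil => intro i hi; exact ⟨hi, by simp [run, val]⟩
  | cons x w ih =>
    intro i hi
    obtain ⟨h1, h2⟩ := ih (T_lt hi x)
    refine ⟨h1, ?_⟩
    show elem h (run w (T i x)) = _
    rw [h2, elem_T h hi]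
    simp [val, mul_assoc]

/-- The value of a word is the element at the end of its path from node `0`. -/
theorem val_eq (w : List Nat) : val g w = elem h (run w 0) := by
  rw [(elem_run h w (by norm_num : 0 < 1152)).2, elem_zero, one_mul]

/-- A word with a closed path evaluates to one. -/
theorem val_eq_one {w : List Nat} (hw : run w 0 = 0) : val g w = 1 := by
  rw [val_eq h, hw, elem_zero]

/-- Every element of the subgroup generated by `a, b, p, m` is at a node. -/
theorem exists_elem {t : G} (ht : t ∈ Subgroup.closure {g.a, g.b, g.p, g.m}) :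
    ∃ i, i < 1152 ∧ elem h i = t := by
  suffices ∃ w, val g w = t by
    obtain ⟨w, rfl⟩ := this
    exact ⟨_, (elem_run h w (by norm_num : 0 < 1152)).1, (val_eq h w).symm⟩
  induction ht using Subgroup.closure_induction_left with
  | one => exact ⟨[], rfl⟩
  | mul_left x hx y _ ih =>
    obtain ⟨w, rfl⟩ := ih
    simp only [Set.mem_insert_iff, Set.mem_singleton_iff] at hx
    rcases hx with rfl | rfl | rfl | rfl
    exacts [⟨0 :: w, by simp [val, gen]⟩, ⟨2 :: w, by simp [val, gen]⟩,
      ⟨4 :: w, by simp [val, gen]⟩, ⟨5 :: w, by simp [val, gen]⟩]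
  | inv_mul_cancel x hx y _ ih =>
    obtain ⟨w, rfl⟩ := ih
    simp only [Set.mem_insert_iff, Set.mem_singleton_iff] at hx
    rcases hx with rfl | rfl | rfl | rfl
    exacts [⟨1 :: w, by simp [val, gen]⟩, ⟨3 :: w, by simp [val, gen]⟩,
      ⟨4 :: w, by simp [val, gen, p_inv h]⟩, ⟨5 :: w, by simp [val, gen, m_inv h]⟩]

theorem card_le : Finite ↥(Subgroup.closure ({g.a, g.b, g.p, g.m} : Set G)) ∧
    Nat.card ↥(Subgroup.closure ({g.a, g.b, g.p, g.m} : Set G)) ≤ 1152 := by
  classical
  set S : Set G := ↑(Subgroup.closure ({g.a, g.b, g.p, g.m} : Set G)) with hS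
  have hsub : S ⊆ ↑((Finset.range 1152).image (elem h)) := by
    intro t ht
    obtain ⟨i, hi, rfl⟩ := exists_elem h ht
    exact Finset.mem_coe.mpr (Finset.mem_image.mpr ⟨i, Finset.mem_range.mpr hi, rfl⟩)
  have hfin : S.Finite := (Finset.finite_toSet _).subset hsub
  refine ⟨hfin.to_subtype, ?_⟩
  calc Nat.card S = S.ncard := Nat.card_coe_set_eq S
    _ ≤ ((Finset.range 1152).image (elem h)).card := by
        rw [← Set.ncard_coe_finset]; exact Set.ncard_le_ncard hsub
    _ ≤ 1152 := Finset.card_image_le.trans_eq (Finset.card_range _)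

/-- If the subgroup has order 1152, different nodes give different elements. -/
theorem elem_inj (hc : Nat.card ↥(Subgroup.closure ({g.a, g.b, g.p, g.m} : Set G)) = 1152)
    {i j : Nat} (hi : i < 1152) (hj : j < 1152) (he : elem h i = elem h j) : i = j := by
  classical
  set S : Set G := ↑(Subgroup.closure ({g.a, g.b, g.p, g.m} : Set G)) with hS
  have hsub : S ⊆ ↑((Finset.range 1152).image (elem h)) := by
    intro t ht
    obtain ⟨k, hk, rfl⟩ := exists_elem h ht
    exact Finset.mem_coe.mpr (Finset.mem_image.mpr ⟨k, Finset.mem_range.mpr hk, rfl⟩)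
  have h1 : ((Finset.range 1152).image (elem h)).card = (Finset.range 1152).card := by
    refine le_antisymm Finset.card_image_le ?_
    calc (Finset.range 1152).card = S.ncard :=
          (Finset.card_range _).trans (hc.symm.trans (Nat.card_coe_set_eq S))
      _ ≤ (↑((Finset.range 1152).image (elem h)) : Set G).ncard := Set.ncard_le_ncard hsub
      _ = ((Finset.range 1152).image (elem h)).card := Set.ncard_coe_finset _
  exact Finset.card_image_iff.mp h1 (Finset.mem_coe.mpr (Finset.mem_range.mpr hi))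
    (Finset.mem_coe.mpr (Finset.mem_range.mpr hj)) he

/-- If the subgroup has order 1152, words with different end nodes have different values. -/
theorem val_ne (hc : Nat.card ↥(Subgroup.closure ({g.a, g.b, g.p, g.m} : Set G)) = 1152)
    {v w : List Nat} (hne : run v 0 ≠ run w 0) : val g v ≠ val g w := fun e1 => hne
  (elem_inj h hc (elem_run h v (by norm_num : 0 < 1152)).1 (elem_run h w (by norm_num : 0 < 1152)).1
    (by rw [← val_eq h, ← val_eq h, e1]))

end Cfsg.Agent.U43Type38Cent42
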