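import Cfsg.Agent.Lib.U43Type38Bridge33

/-!
The normaliser of the elementary abelian subgroup `A` of order sixteen in a group with the
centraliser of an involution of unitary type in dimension four over nine elements: it is transitive
on the involutions of `A`, and contains an element of order three outside the centraliser.
-/

set_option autoImplicit false

namespace Cfsg.Agent.U43Type38Fusion33

open Cfsg.Agent.U43Type38 Cfsg.Agent.U43Type38Cent42 Cfsg.Agent.U43Type38Nodes33
  Cfsg.Agent.U43Type38Bridge33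
open scoped Pointwise

universe u

variable {G : Type u} [Group G] [Finite G] {g : Gens G} (h : Loc g)
include h

/-! ### The elements of some nodes -/

omit [Finite G] in
theorem El_a : El h 288 = g.a := by
  rw [El_run h (w := [0]) (by decide +kernel)]; simp [val, gen]

omit [Finite G] in
theorem El_b : El h 48 = g.b := by
  rw [El_run h (w := [2]) (by decide +kernel)]; simp [val, gen]

omit [Finite G] in
theorem El_p : El h 1 = g.p := by
  rw [El_run h (w := [4]) (by decide +kernel)]; simp [val, gen]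

omit [Finite G] in
theorem El_m : El h 2 = g.m := by
  rw [El_run h (w := [5]) (by decide +kernel)]; simp [val, gen]

omit [Finite G] in
theorem El_zp : El h 577 = g.z * g.p := by
  rw [← El_z h, ← El_p h, ← El_mul h (by norm_num) (by norm_num)]
  rfl

omit [Finite G] in
theorem El_b' : El h 4 = g.b' := by
  rw [El_run h (w := [4, 2, 4]) (by decide +kernel)]; simp [val, gen, Gens.b', mul_assoc]

omit [Finite G] in
theorem El_d : El h 52 = g.d := by
  rw [El_run h (w := [2, 4, 2, 4]) (by decide +kernel)]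
  simp [val, gen, Gens.d, Gens.b', mul_assoc]

omit [Finite G] in
theorem El_f : El h 56 = g.f := by
  rw [El_run h (w := [2, 4, 3, 4]) (by decide +kernel)]
  simp [val, gen, Gens.f, Gens.b', mul_assoc, p_inv h.rels]

omit [Finite G] in
theorem El_aa' : El h 312 = g.a * g.a' := by
  rw [El_run h (w := [0, 4, 0, 4]) (by decide +kernel)]
  simp [val, gen, Gens.a', mul_assoc]

omit [Finite G] in
theorem El_am : El h 290 = g.a * g.m := by
  rw [El_run h (w := [0, 5]) (by decide +kernel)]; simp [val, gen]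

omit [Finite G] in
theorem El_w : El h 468 = g.w := by
  rw [El_run h (w := [2, 4, 2, 4, 0, 4, 0, 4, 4, 3, 4, 3, 4, 1, 4, 1]) (by decide +kernel)]
  simp [val, gen, Gens.w, Gens.d, Gens.b', Gens.a', mul_assoc, p_inv h.rels]

omit [Finite G] in
theorem El_w1 : El h 312 = g.d * g.w * g.d⁻¹ := by
  rw [← El_d h, ← El_w h, ← El_cj h (by norm_num) (by norm_num)]
  congr 1

omit [Finite G] in
theorem El_w2 : El h 156 = g.d * (g.d * g.w * g.d⁻¹) * g.d⁻¹ := by
  rw [← El_w1 h, ← El_d h, ← El_cj h (by norm_num) (by norm_num)]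
  congr 1

theorem d_pow_three : g.d ^ 3 = 1 := by
  rw [← El_d h, pow_succ, pow_two, ← El_mul h (by norm_num) (by norm_num),
    ← El_mul h (mul_lt _ (by norm_num)) (by norm_num), ← El_zero h]
  congr 1

theorem d_ne_one : g.d ≠ 1 := El_d h ▸ El_ne_one h (by norm_num) (by norm_num)

theorem orderOf_d : orderOf g.d = 3 :=
  haveI : Fact (Nat.Prime 3) := ⟨Nat.prime_three⟩
  orderOf_eq_prime (d_pow_three h) (d_ne_one h)

/-! ### The subgroup of order sixteen -/

/-- The subgroup of order sixteen. -/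
noncomputable def A : Subgroup G := sub h genA

/-- The other one. -/
noncomputable def A2 : Subgroup G := sub h genA2

theorem El_mem_A {i : Nat} (hi : i < 1152) : El h i ∈ A h ↔ i ∈ listA :=
  El_mem_sub_iff h setA_ok hi

theorem exists_mem_A {t : G} (ht : t ∈ A h) : ∃ i ∈ listA, i < 1152 ∧ El h i = t := by
  obtain ⟨i, hi, e⟩ := (mem_sub_iff h setA_ok).mp ht
  exact ⟨i, hi, (setOk_spec setA_ok).2.2.1 i hi, e⟩

theorem card_A : Nat.card (A h) = 16 := by
  rw [A, card_sub h setA_ok, cards_ok.1]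

theorem card_A2 : Nat.card (A2 h) = 16 := by
  rw [A2, card_sub h setA2_ok, cards_ok.2.1]

theorem z_mem_A : g.z ∈ A h := El_z h ▸ (El_mem_A h (by norm_num)).mpr (by decide)

theorem p_mem_A : g.p ∈ A h := El_p h ▸ (El_mem_A h (by norm_num)).mpr (by decide)

theorem zp_mem_A : g.z * g.p ∈ A h := mul_mem (z_mem_A h) (p_mem_A h)

theorem w_mem_A : g.w ∈ A h := El_w h ▸ (El_mem_A h (by norm_num)).mpr (by decide)

theorem aa'_mem_A : g.a * g.a' ∈ A h := El_aa' h ▸ (El_mem_A h (by norm_num)).mpr (by decide)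

theorem commute_A {s t : G} (hs : s ∈ A h) (ht : t ∈ A h) : Commute s t := by
  obtain ⟨i, hi, hi', rfl⟩ := exists_mem_A h hs
  obtain ⟨j, hj, hj', rfl⟩ := exists_mem_A h ht
  have := List.all_eq_true.mp abelA_ok i hi
  simp only [Bool.and_eq_true, List.all_eq_true] at this
  exact (com_iff h hi' hj').mp (this.2 j hj)

theorem sq_A {s : G} (hs : s ∈ A h) : s * s = 1 := by
  obtain ⟨i, hi, hi', rfl⟩ := exists_mem_A h hs
  have := List.all_eq_true.mp abelA_ok i hi
  simp only [Bool.and_eq_true, beq_iff_eq] at this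
  rw [← El_mul h hi' hi', this.1, El_zero]

/-- The subgroup is its own centraliser. -/
theorem mem_A_of_commute {t : G} (h1 : Commute t g.z) (h2 : Commute t g.p) (h3 : Commute t g.w)
    (h4 : Commute t (g.d * g.w * g.d⁻¹)) : t ∈ A h := by
  obtain ⟨i, hi, rfl⟩ := exists_node h h1
  have e1 := (com_iff h hi (by norm_num : 1 < 1152)).mpr (by rwa [El_p h])
  have e2 := (com_iff h hi (by norm_num : 468 < 1152)).mpr (by rwa [El_w h])
  have e3 := (com_iff h hi (by norm_num : 312 < 1152)).mpr (by rwa [El_w1 h])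
  have := allB_spec centA_ok hi
  rw [El_mem_A h hi]
  simpa [e1, e2, e3] using this

/-! ### The Sylow two-subgroup and the two normal subgroups of order sixteen -/

/-- A Sylow two-subgroup of the centraliser. -/
noncomputable def T128 : Subgroup G := sub h genT

theorem card_T : Nat.card (T128 h) = 2 ^ 7 := by
  rw [T128, card_sub h setT_ok, cards_ok.2.2.2]; rfl

theorem normalizer_T_le :
    Subgroup.normalizer (T128 h : Set G) ≤ Subgroup.centralizer ({g.z} : Set G) := by
  intro n hn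
  rw [Subgroup.mem_centralizer_iff]
  rintro y rfl
  have hzT : g.z ∈ T128 h := El_z h ▸ (El_mem_sub_iff h setT_ok (by norm_num)).mpr (by decide +kernel)
  obtain ⟨i, hi, e⟩ := (mem_sub_iff h setT_ok).mp ((Subgroup.mem_normalizer_iff.mp hn g.z).mp hzT)
  obtain ⟨-, hg, hL, -, -, -, -⟩ := setOk_spec setT_ok
  have hc : ∀ t ∈ genT, com i t = true := by
    intro t ht
    rw [com_iff h (hL i hi) (hg t ht), e]
    have htT : El h t ∈ T128 h := Subgroup.subset_closure ⟨t, ht, rfl⟩
    have hcz : Commute (n⁻¹ * El h t * n) g.z := by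
      obtain ⟨j, hj, ej⟩ := (mem_sub_iff h setT_ok).mp
        ((Subgroup.mem_normalizer_iff''.mp hn (El h t)).mp htT)
      exact ej ▸ El_commute_z h (hL j hj)
    have : Commute (n * g.z * n⁻¹) (n * (n⁻¹ * El h t * n) * n⁻¹) := by
      refine (hcz.symm.map (MulAut.conj n).toMonoidHom :)
    simpa [mul_assoc] using this
  have hne : i ≠ 0 := by
    rintro rfl
    rw [El_zero] at e
    have := congrArg (fun t => n⁻¹ * t * n) e
    simp [mul_assoc] at this
    exact absurd (by rw [← this]) (El_z h ▸ El_ne_one h (by norm_num : 576 < 1152) (by norm_num))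
  have := List.all_eq_true.mp centT_ok i hi
  simp only [Bool.or_eq_true, Bool.not_eq_true', List.all_eq_false, beq_iff_eq] at this
  rcases this with (⟨t, ht, h'⟩ | h') | h'
  · exact absurd (hc t ht) h'
  · exact absurd h' hne
  · rw [h', El_z] at e
    exact (mul_inv_eq_iff_eq_mul.mp e.symm).symm

/-- The two subgroups of order sixteen are not conjugate. -/
theorem not_conj_A2 (k : G) : ¬ ∀ x, x ∈ A h ↔ k * x * k⁻¹ ∈ A2 h := by
  intro hk
  haveI : Fact (Nat.Prime 2) := ⟨Nat.prime_two⟩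
  have hdvd : ¬ 2 ^ (7 + 1) ∣ Nat.card G :=
    not_dvd_of_normalizer_le (card_T h) (normalizer_T_le h) (by rw [h.card]; decide)
  obtain ⟨P, hP⟩ := exists_sylow_of_not_dvd (card_T h) hdvd
  have hnorm : ∀ {gens L : List Nat} {w : Nat → List Nat}, setOk gens L w = true →
      (∀ t ∈ genT, ∀ i ∈ L, cj t i ∈ L) →
      (P : Subgroup G) ≤ Subgroup.normalizer (sub h gens : Set G) := by
    intro gens L w hok hcl
    rw [hP, T128, sub, Subgroup.closure_le]
    rintro _ ⟨t, ht, rfl⟩
    obtain ⟨-, hg, -, -, -, -, -⟩ := setOk_spec setT_ok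
    refine Subgroup.mem_normalizer_fintype fun x hx => ?_
    obtain ⟨i, hi, rfl⟩ := (mem_sub_iff h hok).mp hx
    rw [← El_cj h (hg t ht) ((setOk_spec hok).2.2.1 i hi)]
    exact (mem_sub_iff h hok).mpr ⟨_, hcl t ht i hi, rfl⟩
  have hT := normT_ok
  simp only [List.all_eq_true, Bool.and_eq_true, List.contains_iff_mem] at hT
  obtain ⟨n, hn, hn'⟩ := conj_in_normalizer P (hnorm setA_ok fun t ht => (hT t ht).1)
    (hnorm setA2_ok fun t ht => (hT t ht).2) hk
  rw [hP] at hn
  obtain ⟨i, hi, rfl⟩ := exists_node h (Subgroup.mem_centralizer_iff.mp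
    (normalizer_T_le h hn) g.z rfl).symm
  have := (hn' g.p).mp (p_mem_A h)
  rw [← El_p h, ← El_cj h hi (by norm_num)] at this
  have := (El_mem_sub_iff h setA2_ok (cj_lt _ hi)).mp this
  simpa [this] using allB_spec noP_ok hi

/-! ### Elementary abelian subgroups of order sixteen containing the involution -/

theorem exists_node_not_mem {B : Subgroup G} (hBz : ∀ y ∈ B, Commute y g.z) {L : List Nat}
    (hL : L.length < Nat.card B) : ∃ i, i < 1152 ∧ El h i ∈ B ∧ i ∉ L := by
  classical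
  by_contra hcon
  push_neg at hcon
  have hsub : (B : Set G) ⊆ ↑(L.toFinset.image (El h)) := by
    intro y hy
    obtain ⟨i, hi, rfl⟩ := exists_node h (hBz y hy)
    exact Finset.mem_coe.mpr
      (Finset.mem_image.mpr ⟨i, List.mem_toFinset.mpr (hcon i hi hy), rfl⟩)
  have := (Set.ncard_le_ncard hsub).trans_eq (Set.ncard_coe_finset _)
  rw [← SetLike.coe_sort_coe, Nat.card_coe_set_eq] at hL
  exact absurd ((this.trans Finset.card_image_le).trans (List.toFinset_card_le L)) (by omega)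

/-- An elementary abelian subgroup of order sixteen containing the involution is conjugate in
its centraliser to one of the two. -/
theorem conj_to_A {B : Subgroup G} (hB : Nat.card B = 16) (hzB : g.z ∈ B)
    (hcomm : ∀ s ∈ B, ∀ t ∈ B, Commute s t) (hsq : ∀ s ∈ B, s * s = 1) :
    ∃ k, Commute k g.z ∧
      ((∀ x, x ∈ B ↔ k * x * k⁻¹ ∈ A h) ∨ (∀ x, x ∈ B ↔ k * x * k⁻¹ ∈ A2 h)) := by
  classical
  have hBz : ∀ y ∈ B, Commute y g.z := fun y hy => hcomm y hy _ hzB
  have hinv : ∀ i, i < 1152 → El h i ∈ B → i ∈ invs := fun i hi hy => mem_invs h hi (hsq _ hy)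
  obtain ⟨t, ht, htB, htn⟩ := exists_node_not_mem h hBz (L := [0, 576]) (by rw [hB]; norm_num)
  have hwit := List.all_eq_true.mp classInv_ok t (hinv t ht htB)
  simp only [Bool.or_eq_true, beq_iff_eq, Bool.and_eq_true, decide_eq_true_eq,
    List.contains_iff_mem] at hwit
  obtain ⟨hc, hr⟩ : (invWit.lookup t).getD 0 < 1152 ∧
      cj ((invWit.lookup t).getD 0) t ∈ [312, 1, 2] := by
    rcases hwit with (h0 | h0) | h0
    · simp [h0] at htn
    · simp [h0] at htn
    · exact h0
  set c := (invWit.lookup t).getD 0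
  set k₁ := El h c with hk₁
  set B₁ := B.map (MulAut.conj k₁).toMonoidHom with hB₁
  have mem₁ : ∀ x, x ∈ B₁ ↔ k₁⁻¹ * x * k₁ ∈ B := fun x => by
    rw [hB₁]
    exact ⟨fun ⟨y, hy, e⟩ => by rw [← e]; simpa [mul_assoc] using hy,
      fun hy => ⟨_, hy, by simp [mul_assoc]⟩⟩
  have hk₁z : Commute k₁ g.z := El_commute_z h hc
  have card₁ : Nat.card B₁ = 16 := by
    rw [← hB]
    exact (Nat.card_congr (Subgroup.equivMapOfInjective B _ (MulAut.conj k₁).injective).toEquiv).symm
  have hzB₁ : g.z ∈ B₁ := by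
    rw [mem₁, mul_assoc, hk₁z.symm.eq, inv_mul_cancel_left]
    exact hzB
  set r := cj c t with hr'
  have hrlt : r < 1152 := cj_lt _ hc
  have hrB : El h r ∈ B₁ := by
    rw [mem₁, hr', El_cj h hc ht, ← hk₁]
    simpa [mul_assoc] using htB
  have hcomm₁ : ∀ s ∈ B₁, ∀ t ∈ B₁, Commute s t := by
    rintro _ ⟨s, hs, rfl⟩ _ ⟨t, ht, rfl⟩
    exact (hcomm s hs t ht).map _
  have hsq₁ : ∀ s ∈ B₁, s * s = 1 := by
    rintro _ ⟨s, hs, rfl⟩
    rw [← map_mul, hsq s hs, map_one]
  have hB₁z : ∀ y ∈ B₁, Commute y g.z := fun y hy => hcomm₁ y hy _ hzB₁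
  obtain ⟨⟨r', L⟩, hrL, hrr, hLall⟩ : ∃ q ∈ commInvs, q.1 = r ∧
      ∀ t ∈ invs, com r t = true → t ∈ q.2 := by
    have := List.all_eq_true.mp commInvs_ok r hr
    simp only [List.any_eq_true, Bool.and_eq_true, beq_iff_eq, List.all_eq_true,
      Bool.or_eq_true, Bool.not_eq_true', List.contains_iff_mem] at this
    obtain ⟨q, hq, hq1, hq2⟩ := this
    exact ⟨q, hq, hq1, fun t ht hct => (hq2 t ht).resolve_left (by simp [hct])⟩
  simp only at hrr
  subst hrr
  have inL : ∀ i, i < 1152 → El h i ∈ B₁ → i ∈ L := fun i hi hy =>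
    hLall i (mem_invs h hi (hsq₁ _ hy)) ((com_iff h hrlt hi).mpr (hcomm₁ _ hrB _ hy))
  obtain ⟨t₂, ht₂, ht₂B, ht₂n⟩ :=
    exists_node_not_mem h hB₁z (L := [0, 576, r, mul 576 r]) (by rw [card₁]; norm_num)
  obtain ⟨s, hs, hsB, hsn⟩ :=
    exists_node_not_mem h hB₁z (L := eight r t₂) (by rw [card₁]; simp [eight])
  have hq := List.all_eq_true.mp (List.all_eq_true.mp quad_ok _ hrL) t₂ (inL t₂ ht₂ ht₂B)
  simp only [Bool.or_eq_true, List.all_eq_true, List.contains_iff_mem, Bool.not_eq_true',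
    Bool.and_eq_true, decide_eq_true_eq, List.any_eq_true] at hq
  have hq2 := (hq.resolve_left ht₂n) s (inL s hs hsB)
  obtain ⟨hnd, ⟨E, c₂, b⟩, hE, ⟨hrE, ht₂E⟩, hsE⟩ := (hq2.resolve_left (by
    rintro (e | e)
    · rw [(com_iff h ht₂ hs).mpr (hcomm₁ _ ht₂B _ hsB)] at e; simp at e
    · exact hsn e))
  have hconj := List.all_eq_true.mp sixteen_conj_ok _ hE
  simp only [Bool.and_eq_true, decide_eq_true_eq, List.all_eq_true, List.contains_iff_mem] at hconj
  obtain ⟨hc₂, htarget⟩ := hconj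
  set k₂ := El h c₂
  have hk₂z : Commute k₂ g.z := El_commute_z h hc₂
  refine ⟨k₂ * k₁, hk₂z.mul_left hk₁z, ?_⟩
  have main : ∀ (C : Subgroup G) (Lc : List Nat), Nat.card C = 16 →
      (∀ i < 1152, El h i ∈ C ↔ i ∈ Lc) → g.z ∈ C → (∀ i ∈ E, cj c₂ i ∈ Lc) →
      ∀ x, x ∈ B ↔ k₂ * k₁ * x * (k₂ * k₁)⁻¹ ∈ C := by
    intro C Lc hC hCmem hzC hcl
    set C' := C.comap (MulAut.conj k₂).toMonoidHom with hC'
    have hC'c : Nat.card C' = 16 := by
      rw [hC', Subgroup.comap_equiv_eq_map_symm', Nat.card_congr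
        (Subgroup.equivMapOfInjective C _ (MulAut.conj k₂).symm.injective).toEquiv.symm, hC]
    have hEC' : ∀ i < 1152, i ∈ E → El h i ∈ C' := by
      intro i hi hiE
      show k₂ * El h i * k₂⁻¹ ∈ C
      rw [← El_cj h hc₂ hi, hCmem _ (cj_lt _ hc₂)]
      exact hcl i hiE
    have hzC' : El h 576 ∈ C' := by
      show k₂ * El h 576 * k₂⁻¹ ∈ C
      rwa [El_z, hk₂z.eq, mul_inv_cancel_right]
    set K := B₁ ⊓ C' with hK
    have g576 : El h 576 ∈ K := ⟨El_z h ▸ hzB₁, hzC'⟩
    have gr : El h r ∈ K := ⟨hrB, hEC' r hrlt hrE⟩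
    have gt : El h t₂ ∈ K := ⟨ht₂B, hEC' t₂ ht₂ ht₂E⟩
    have gs : El h s ∈ K := ⟨hsB, hEC' s hs hsE⟩
    have hmul : ∀ {i j : Nat}, i < 1152 → j < 1152 → El h i ∈ K → El h j ∈ K →
        El h (mul i j) ∈ K := fun hi hj a b => by rw [El_mul h hi hj]; exact mul_mem a b
    have h576 : (576 : Nat) < 1152 := by norm_num
    have hall : ∀ i ∈ eight r t₂ ++ [s], i < 1152 ∧ El h i ∈ K := by
      have l1 := mul_lt (i := 576) r h576
      intro i hi
      simp only [eight, List.mem_append, List.mem_cons, List.not_mem_nil, or_false] at hi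
      rcases hi with (rfl | rfl | rfl | rfl | rfl | rfl | rfl | rfl) | rfl
      · exact ⟨by norm_num, El_zero h ▸ one_mem K⟩
      · exact ⟨h576, g576⟩
      · exact ⟨hrlt, gr⟩
      · exact ⟨l1, hmul h576 hrlt g576 gr⟩
      · exact ⟨ht₂, gt⟩
      · exact ⟨mul_lt _ h576, hmul h576 ht₂ g576 gt⟩
      · exact ⟨mul_lt _ hrlt, hmul hrlt ht₂ gr gt⟩
      · exact ⟨mul_lt _ l1, hmul l1 ht₂ (hmul h576 hrlt g576 gr) gt⟩
      · exact ⟨hs, gs⟩
    have h9 : 9 ≤ Nat.card K := by
      have h9' : ((eight r t₂ ++ [s]).toFinset.image (El h)).card = 9 := by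
        rw [Finset.card_image_of_injOn, List.toFinset_card_of_nodup hnd]
        · simp [eight]
        · intro i hi j hj e
          exact El_inj h (hall i (List.mem_toFinset.mp (Finset.mem_coe.mp hi))).1
            (hall j (List.mem_toFinset.mp (Finset.mem_coe.mp hj))).1 e
      rw [← SetLike.coe_sort_coe, Nat.card_coe_set_eq, ← h9', ← Set.ncard_coe_finset]
      refine Set.ncard_le_ncard fun y hy => ?_
      obtain ⟨i, hi, rfl⟩ := Finset.mem_image.mp (Finset.mem_coe.mp hy)
      exact (hall i (List.mem_toFinset.mp hi)).2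
    have h16 : Nat.card K = 16 := by
      have hd : Nat.card K ∣ Nat.card B₁ := Subgroup.card_dvd_of_le inf_le_left
      rw [card₁, show 16 = 2 ^ 4 by norm_num] at hd
      obtain ⟨j, hj, e⟩ := (Nat.dvd_prime_pow Nat.prime_two).mp hd
      interval_cases j <;> omega
    have eB : K = B₁ := Subgroup.eq_of_le_of_card_ge inf_le_left (by rw [h16, card₁])
    have eC : K = C' := Subgroup.eq_of_le_of_card_ge inf_le_right (by rw [h16, hC'c])
    intro x
    have : x ∈ B ↔ k₁ * x * k₁⁻¹ ∈ C' := by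
      rw [← eC, eB, mem₁]; simp [mul_assoc]
    rw [this]
    show k₂ * (k₁ * x * k₁⁻¹) * k₂⁻¹ ∈ C ↔ _
    simp [mul_assoc]
  cases b
  · exact Or.inl (main (A h) listA (card_A h) (fun i hi => El_mem_A h hi) (z_mem_A h) htarget)
  · exact Or.inr (main (A2 h) listA2 (card_A2 h) (fun i hi => El_mem_sub_iff h setA2_ok hi)
      (El_z h ▸ (El_mem_sub_iff h setA2_ok (by norm_num)).mpr (by decide)) htarget)

/-- The normaliser is transitive on the involutions of the subgroup of order sixteen. -/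
theorem exists_normalizer_conj {t : G} (ht : t ∈ A h) (ht1 : t ≠ 1) :
    ∃ k ∈ Subgroup.normalizer (A h : Set G), k * t * k⁻¹ = g.z := by
  obtain ⟨i, hiA, hi, rfl⟩ := exists_mem_A h ht
  have hw := List.all_eq_true.mp classA_ok i hiA
  simp only [Bool.or_eq_true, beq_iff_eq, Bool.and_eq_true, decide_eq_true_eq,
    List.contains_iff_mem] at hw
  obtain ⟨hc, hm⟩ := hw.resolve_left fun e => ht1 (e ▸ El_zero h)
  have hcon : IsConj (El h i) g.z := by
    have h1 : IsConj (El h i) (El h (cj ((listAWit.lookup i).getD 0) i)) :=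
      isConj_iff.mpr ⟨_, (El_cj h hc hi).symm⟩
    refine h1.trans (IsConj.symm ?_)
    simp only [List.mem_cons, List.not_mem_nil, or_false] at hm
    rcases hm with e | e | e <;> rw [e]
    · rw [El_z]
    · rw [El_aa']; exact h.conj_aa'
    · rw [El_p]; exact h.conj_p
  obtain ⟨k, hk⟩ := isConj_iff.mp hcon
  set B := (A h).map (MulAut.conj k).toMonoidHom with hB
  obtain ⟨k', hk'z, hk'⟩ := conj_to_A h (B := B)
    ((Nat.card_congr (Subgroup.equivMapOfInjective (A h) _
      (MulAut.conj k).injective).toEquiv).symm.trans (card_A h))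
    ⟨_, ht, hk⟩
    (by rintro _ ⟨s, hs, rfl⟩ _ ⟨t, ht, rfl⟩; exact (commute_A h hs ht).map _)
    (by rintro _ ⟨s, hs, rfl⟩; rw [← map_mul, sq_A h hs, map_one])
  have memB : ∀ x, x ∈ A h ↔ k * x * k⁻¹ ∈ B := fun x =>
    (Subgroup.mem_map_iff_mem (MulAut.conj k).injective).symm
  have hcomp : ∀ (C : Subgroup G), (∀ x, x ∈ B ↔ k' * x * k'⁻¹ ∈ C) →
      ∀ x, x ∈ A h ↔ k' * k * x * (k' * k)⁻¹ ∈ C := fun C hC x => by
    rw [memB, hC]; simp [mul_assoc]
  rcases hk' with h1 | h1
  · refine ⟨k' * k, Subgroup.mem_normalizer_iff.mpr (hcomp _ h1), ?_⟩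
    calc k' * k * El h i * (k' * k)⁻¹ = k' * (k * El h i * k⁻¹) * k'⁻¹ := by group
      _ = g.z := by rw [hk, hk'z.eq, mul_inv_cancel_right]
  · exact absurd (hcomp _ h1) (not_conj_A2 h _)

end Cfsg.Agent.U43Type38Fusion33
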