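import Cfsg.Agent.Lib.U43Type38Pair

/-!
Two involutions at `y` fixing elementary abelian subgroups of order eight at `z`, and their
action on the product of the two copies of `SL(2,3)`: they interchange the factors.
-/

set_option autoImplicit false

namespace Cfsg.Agent.U43Type38

open Cfsg.Agent.U43Type38SL Cfsg.Agent.SL23Model77

universe u

variable {G : Type u} [Group G] {z y : G} {φ ψ : P →* G}

/-- The two involutions. -/
structure GoodPair (z y : G) (φ : P →* G) (r₁ r₂ : G) : Prop where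
  sq₁ : r₁ * r₁ = 1
  sq₂ : r₂ * r₂ = 1
  cz₁ : Commute r₁ z
  cz₂ : Commute r₂ z
  c11 : Commute r₁ (φ v1)
  c22 : Commute r₂ (φ v2)
  c12 : gcm (φ v1) r₂ = z * y
  c21 : gcm (φ v2) r₁ = z * y
  c0₁ : gcm (φ v0) r₁ = z * y
  c0₂ : gcm (φ v0) r₂ = z * y
  comm : gcm r₁ r₂ = y
  conj₁ : IsConj z r₁
  conj₂ : IsConj z r₂

theorem vF_sq : ∀ i : Fin 3, (i = 0 ∧ Eq' (vF i * vF i) zz ∧ ¬ Eq' (vF i * vF i) 1) ∨
    ((i = 1 ∨ i = 2) ∧ Eq' (vF i * vF i) 1) := by decide +kernel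

theorem fin3_ne_zero : ∀ j : Fin 3, j ≠ 0 → j = 1 ∨ j = 2 := by decide

theorem fin3_pair : ∀ a b : Fin 3, (a = 1 ∨ a = 2) → (b = 1 ∨ b = 2) → a ≠ b →
    (a = 1 ∧ b = 2) ∨ (a = 2 ∧ b = 1) := by decide

theorem fin3_other : ∀ a i i' : Fin 3, ((i = 1 ∧ i' = 2) ∨ (i = 2 ∧ i' = 1)) → a ≠ i' →
    a = i ∨ a = 0 := by decide

namespace World

variable (W : World z y φ ψ)
include W

theorem zc_v0 {r : G} (hr : inC ψ z r) :
    Zc z (gcm (φ (vF 0)) r) ↔
      (Zc z (gcm (φ (vF 2)) r) ↔ Zc z (gcm (φ (vF 1)) r)) := by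
  obtain ⟨-, -, -, e, he, he'⟩ := table_facts
  show Zc z (gcm (φ v0) r) ↔ _
  rw [W.sφ.eq_iff.2 he', map_mul, map_mul]
  show Zc z (gcm (φ (vF 1) * φ (vF 2) * φ e) r) ↔ _
  rw [W.gcm_inE hr (W.inC_mul (W.inC_vF 1) (W.inC_vF 2)) (W.eL_map he),
    W.gcm_mulL (W.inC_vF 1) (W.inC_vF 2) hr,
    W.zc_mul (W.gcm_mem (W.inC_vF 2) hr) (W.gcm_mem (W.inC_vF 1) hr)]

theorem exists_pat :
    (∃ j, Zc z (gcm (φ (vF 1)) (ψ (vF j))) ∧ ¬ Zc z (gcm (φ (vF 2)) (ψ (vF j)))) ∧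
    (∃ j, Zc z (gcm (φ (vF 2)) (ψ (vF j))) ∧ ¬ Zc z (gcm (φ (vF 1)) (ψ (vF j)))) ∧
    ∃ j, ¬ Zc z (gcm (φ (vF 1)) (ψ (vF j))) ∧ ¬ Zc z (gcm (φ (vF 2)) (ψ (vF j))) := by
  classical
  obtain ⟨⟨i, hi⟩, ⟨j, hj⟩, ⟨k, hk⟩⟩ := pattern_fact W.pat W.pat_inj W.pat_ne
  simp only [pat, Prod.mk.injEq, decide_eq_true_eq, decide_eq_false_iff_not] at hi hj hk
  exact ⟨⟨i, hi.1, hi.2⟩, ⟨j, hj.2, hj.1⟩, ⟨k, hk.1, hk.2⟩⟩

theorem zy_ne : ¬ Zc y (z * y) ∧ ¬ Zc z (z * y) ∧ ¬ Zc y z ∧ ¬ Zc z y := by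
  refine ⟨?_, ?_, ?_, ?_⟩ <;> rintro (h | h)
  · exact W.z_ne_y (by rw [← inv_eq_of_mul_eq_one_right h, W.sφ.z_inv])
  · exact W.sφ.z_ne (mul_eq_right.1 h)
  · exact W.z_ne_y (by rw [← inv_eq_of_mul_eq_one_right h, W.sφ.z_inv])
  · exact W.sψ.z_ne (mul_eq_left.1 h)
  · exact W.sφ.z_ne h
  · exact W.z_ne_y h
  · exact W.sψ.z_ne h
  · exact W.z_ne_y h.symm

/-- The representative matched with an involution is not the element of order four. -/
theorem ne_zero [Finite G] {i i' j j' j₀ : Fin 3}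
    (hii : (i = 1 ∧ i' = 2) ∨ (i = 2 ∧ i' = 1))
    (hj : Zc z (gcm (φ (vF i)) (ψ (vF j))) ∧ ¬ Zc z (gcm (φ (vF i')) (ψ (vF j))))
    (hj' : Zc z (gcm (φ (vF i')) (ψ (vF j'))) ∧ ¬ Zc z (gcm (φ (vF i)) (ψ (vF j'))))
    (hj₀ : ¬ Zc z (gcm (φ (vF i)) (ψ (vF j₀))) ∧ ¬ Zc z (gcm (φ (vF i')) (ψ (vF j₀)))) :
    j ≠ 0 := by
  intro h0
  subst h0
  have hj'12 : j' = 1 ∨ j' = 2 := by
    have : j' ≠ 0 := by rintro rfl; exact hj.2 hj'.1
    exact fin3_ne_zero _ this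
  have hj₀12 : j₀ = 1 ∨ j₀ = 2 := by
    have : j₀ ≠ 0 := by rintro rfl; exact hj₀.1 hj.1
    exact fin3_ne_zero _ this
  have hne : j₀ ≠ j' := by rintro rfl; exact hj₀.2 hj'.1
  have hjj : (j₀ = 1 ∧ j' = 2) ∨ (j₀ = 2 ∧ j' = 1) := by
    exact fin3_pair _ _ hj₀12 hj'12 hne
  have hii' : (i' = 1 ∧ i = 2) ∨ (i' = 2 ∧ i = 1) := hii.symm.imp And.symm And.symm
  have hsq : ∀ l : Fin 3, l = 1 ∨ l = 2 → ψ (vF l) * ψ (vF l) = 1 := fun l hl => by
    rcases vF_sq l with ⟨rfl, -⟩ | ⟨-, h⟩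
    · simp at hl
    · rw [← map_mul, W.sψ.eq_iff.2 h, map_one]
  have hsq' : ∀ l : Fin 3, l = 1 ∨ l = 2 → φ (vF l) * φ (vF l) = 1 := fun l hl => by
    rcases vF_sq l with ⟨rfl, -⟩ | ⟨-, h⟩
    · simp at hl
    · rw [← map_mul, W.sφ.eq_iff.2 h, map_one]
  have hi12 : i = 1 ∨ i = 2 := hii.imp And.left And.left
  have hi'12 : i' = 1 ∨ i' = 2 := hii'.imp And.left And.left
  -- the matched pair at `j'` commutes
  have hj'1 : gcm (φ (vF i')) (ψ (vF j')) = 1 :=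
    (W.key hii' hj'.1 hj'.2).1 (hsq _ hj'12)
  -- the element matched with `j₀` in the opposite world
  obtain ⟨a, ha, -⟩ : ∃ a, Zc y (gcm (ψ (vF j₀)) (φ (vF a))) ∧
      ¬ Zc y (gcm (ψ (vF j')) (φ (vF a))) := by
    obtain ⟨h1, h2, -⟩ := W.symm.exists_pat
    rcases hjj with ⟨rfl, rfl⟩ | ⟨rfl, rfl⟩
    exacts [h1, h2]
  have ha' : ¬ Zc y (gcm (ψ (vF j')) (φ (vF a))) := by
    intro h
    have := W.symm.pat_ne a
    apply this
    simp only [pat, Prod.mk.injEq, decide_eq_true_eq]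
    rcases hjj with ⟨rfl, rfl⟩ | ⟨rfl, rfl⟩
    exacts [⟨ha, h⟩, ⟨h, ha⟩]
  have hE := W.gcm_mem (W.inC_vF a) (W.symm.inC_vF j₀)
  have hcomm := W.gcm_comm (W.inC_vF a) (W.symm.inC_vF j₀)
  have hkey := W.symm.key hjj ha ha'
  have hai' : a ≠ i' := by
    rintro rfl
    apply ha'
    rw [← W.gcm_comm (W.inC_vF _) (W.symm.inC_vF j'), hj'1]
    exact Or.inl rfl
  rcases (fin3_other a i i' hii hai') with rfl | rfl
  · have hy : gcm (φ (vF a)) (ψ (vF j₀)) = y := by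
      rcases hE with h | h | h | h
      · exact absurd (Or.inl h) hj₀.1
      · exact absurd (Or.inr h) hj₀.1
      · exact h
      · exact absurd (h ▸ hcomm ▸ ha) W.zy_ne.1
    have h1 := hkey.1 (hsq' _ hi12)
    rw [← hcomm, hy] at h1
    exact W.sψ.z_ne h1
  · have hz : Zc z (gcm (φ (vF 0)) (ψ (vF j₀))) := by
      rw [W.zc_v0 (W.symm.inC_vF j₀)]
      rcases hii with ⟨rfl, rfl⟩ | ⟨rfl, rfl⟩
      · exact iff_of_false hj₀.2 hj₀.1
      · exact iff_of_false hj₀.1 hj₀.2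
    have h1 : gcm (φ (vF 0)) (ψ (vF j₀)) = 1 := by
      rcases hz with h | h
      · exact h
      · exact absurd (h ▸ hcomm ▸ ha) W.zy_ne.2.2.1
    have h2 := hkey.2 (by rw [← hcomm]; exact h1)
    rcases vF_sq 0 with ⟨-, -, h⟩ | ⟨h, -⟩
    · exact h (W.sφ.eq_iff.1 (by rw [map_mul, map_one]; exact h2))
    · simp at h

theorem exists_goodPair [Finite G] (hzy : IsConj z y) : ∃ r₁ r₂, GoodPair z y φ r₁ r₂ := by
  obtain ⟨⟨j₁, a1, b1⟩, ⟨j₂, a2, b2⟩, ⟨j₀, a0, b0⟩⟩ := W.exists_pat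
  have h1 : j₁ ≠ 0 :=
    W.ne_zero (Or.inl ⟨rfl, rfl⟩) ⟨a1, b1⟩ ⟨a2, b2⟩ ⟨a0, b0⟩
  have h2 : j₂ ≠ 0 :=
    W.ne_zero (Or.inr ⟨rfl, rfl⟩) ⟨a2, b2⟩ ⟨a1, b1⟩ ⟨b0, a0⟩
  have hne : j₁ ≠ j₂ := by rintro rfl; exact b1 a2
  have hs : ∀ j : Fin 3, j ≠ 0 → ψ (vF j) * ψ (vF j) = 1 := fun j hj => by
    rcases vF_sq j with ⟨rfl, -⟩ | ⟨-, h⟩
    · exact absurd rfl hj
    · rw [← map_mul, W.sψ.eq_iff.2 h, map_one]
  have hr := W.symm.inC_vF
  have hv := W.inC_vF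
  have g11 : gcm (φ (vF 1)) (ψ (vF j₁)) = 1 :=
    (W.key (Or.inl ⟨rfl, rfl⟩) a1 b1).1 (hs _ h1)
  have g22 : gcm (φ (vF 2)) (ψ (vF j₂)) = 1 :=
    (W.key (Or.inr ⟨rfl, rfl⟩) a2 b2).1 (hs _ h2)
  have hoff : ∀ (i i' j : Fin 3), i ≠ i' → j ≠ 0 → gcm (φ (vF i)) (ψ (vF j)) = 1 →
      ¬ Zc z (gcm (φ (vF i')) (ψ (vF j))) → gcm (φ (vF i')) (ψ (vF j)) = z * y := by
    intro i i' j hii hj hc hn
    rcases W.gcm_mem (hv i') (hr j) with h | h | h | h
    · exact absurd (Or.inl h) hn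
    · exact absurd (Or.inr h) hn
    · exfalso
      refine hii (W.symm.unique_zc (i := j) (fin3_ne_zero j hj) ?_ ?_)
      · rw [← W.gcm_comm (hv i) (hr j), hc]; exact Or.inl rfl
      · rw [← W.gcm_comm (hv i') (hr j), h]; exact Or.inr rfl
    · exact h
  have g12 := hoff 2 1 j₂ (by decide) h2 g22 b2
  have g21 := hoff 1 2 j₁ (by decide) h1 g11 b1
  obtain ⟨-, -, -, e, he, he'⟩ := table_facts
  have hv0 : ∀ j, gcm (φ v0) (ψ (vF j)) = gcm (φ (vF 2)) (ψ (vF j)) * gcm (φ (vF 1)) (ψ (vF j)) := by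
    intro j
    rw [W.sφ.eq_iff.2 he', map_mul, map_mul]
    show gcm (φ (vF 1) * φ (vF 2) * φ e) _ = _
    rw [W.gcm_inE (hr j) (W.inC_mul (hv 1) (hv 2)) (W.eL_map he), W.gcm_mulL (hv 1) (hv 2) (hr j)]
  have hconj : ∀ j : Fin 3, j ≠ 0 → IsConj z (ψ (vF j)) := by
    intro j hj
    obtain ⟨c, hc⟩ := W.sψ.exists_chart (hr j).1 (hs j hj)
      (fun h => W.symm.phi_v_not_inE j (by rw [h]; exact Or.inl rfl))
      (fun h => W.symm.phi_v_not_inE j (by rw [h]; exact Or.inr (Or.inl rfl)))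
    refine isConj_iff.2 ⟨ψ c, ?_⟩
    rw [← hc, map_mul, map_mul, map_inv, W.ψy]
  refine ⟨ψ (vF j₁), ψ (vF j₂), hs _ h1, hs _ h2, (hr j₁).2, (hr j₂).2,
    (gcm_eq_one_iff.1 g11).symm, (gcm_eq_one_iff.1 g22).symm, g12, g21, ?_, ?_, ?_,
    hconj _ h1, hconj _ h2⟩
  · rw [hv0, g11, g21, mul_one]
  · rw [hv0, g22, g12, one_mul]
  · have key : ∀ i j : Fin 3, i ≠ j → i ≠ 0 → j ≠ 0 → Eq' (cm (vF i) (vF j)) zz := by
      decide +kernel
    rw [← map_gcm, W.sψ.eq_iff.2 (key _ _ hne h1 h2), W.sψ.φz]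

end World

/-- The swapping action. -/
theorem swap_aux (S : Setup z φ) {r : G} {t : SL} (ht : t = w1 ∨ t = k0) (hr2 : r * r = 1)
    (hrz : Commute r z) (h0 : r * φ (w0, 1) * r = φ (1, w0)) (hc : Commute r (φ (w1, t))) :
    (r * φ (w1, 1) * r = φ (1, t) ∨ r * φ (w1, 1) * r = φ (1, t * n)) ∧
    (∀ x : SL, ∃ x', r * φ (x, 1) * r = φ (1, x')) ∧
    ∀ x : SL, ∃ x', r * φ (1, x) * r = φ (x', 1) := by
  have hrinv : r⁻¹ = r := inv_eq_of_mul_eq_one_left hr2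
  have hrM : r ∈ Subgroup.centralizer ({z} : Set G) :=
    Subgroup.mem_centralizer_singleton_iff.2 hrz
  have hconj : ∀ a b : G, (r * a * r) * (r * b * r) = r * (a * b) * r := fun a b => by
    calc (r * a * r) * (r * b * r) = r * a * (r * r) * (b * r) := by group
      _ = _ := by rw [hr2]; group
  have hback : ∀ a b : G, r * a * r = b → r * b * r = a := fun a b h => by
    rw [← h]
    calc r * (r * a * r) * r = (r * r) * a * (r * r) := by group
      _ = a := by rw [hr2, one_mul, mul_one]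
  have h0' := hback _ _ h0
  have ht4 : t ^ 4 = 1 := by rcases ht with rfl | rfl <;> decide +kernel
  obtain ⟨q, hq, eq⟩ := S.normQ r hrM (w1, 1) (by decide +kernel)
  rw [hrinv] at eq
  have hqsq : Eq' (q * q) zz := by
    refine S.eq_iff.1 ?_
    rw [map_mul, ← eq, hconj, ← map_mul, S.eq_iff.2 (show Eq' ((w1, 1) * (w1, 1)) zz by decide +kernel),
      S.φz, hrz.eq, mul_assoc, hr2, mul_one]
  have hnc : ¬ Com q (1, w0) := by
    intro h
    have h' := S.commute_iff.2 h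
    rw [← eq, ← h0] at h'
    have : φ (w1, 1) * φ (w0, 1) = φ (w0, 1) * φ (w1, 1) := by
      have := h'.eq
      rw [hconj, hconj] at this
      exact mul_left_cancel (mul_right_cancel this)
    exact absurd (S.commute_iff.1 (show Commute _ _ from this)) (by decide +kernel)
  obtain ⟨s, hs, hqs⟩ := noncomm_second q hq hnc hqsq
  rw [S.eq_iff.2 hqs] at eq
  -- the image of the second component
  have hsecond : r * φ (1, t) * r = φ (w1, s⁻¹ * t) := by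
    have hv : r * φ (w1, t) * r = φ (w1, t) := by rw [hc.eq, mul_assoc, hr2, mul_one]
    have : φ (1, s) * (r * φ (1, t) * r) = φ (w1, t) := by
      rw [← eq, hconj, ← map_mul, show ((w1, 1) : P) * (1, t) = (w1, t) by simp, hv]
    rw [← inv_mul_eq_iff_eq_mul.2 this.symm, ← map_inv, ← map_mul]
    simp
  have hst : s = t ∨ s = t * n := by
    refine swap_fact t ht4 s hs (S.eq_iff.1 ?_)
    rw [map_mul, ← hsecond, hconj, ← map_mul, S.eq_iff.2 (show Eq' ((1, t) * (1, t)) zz by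
      rcases ht with rfl | rfl <;> decide +kernel), S.φz, hrz.eq, mul_assoc, hr2, mul_one]
  have hfirst : r * φ (w1, 1) * r = φ (1, t) ∨ r * φ (w1, 1) * r = φ (1, t * n) :=
    hst.imp (fun h => by rw [eq, h]) (fun h => by rw [eq, h])
  have hsec' : r * φ (1, t) * r = φ (w1, 1) ∨ r * φ (1, t) * r = φ (w1 * n, 1) := by
    rw [hsecond]
    rcases hst with rfl | rfl
    · left; simp
    · right
      refine S.eq_iff.2 ?_
      rcases ht with rfl | rfl <;> decide +kernel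
  refine ⟨hfirst, fun x => ?_, fun x => ?_⟩
  · obtain ⟨p, hp⟩ := S.norm r hrM (x, 1)
    rw [hrinv] at hp
    have hcx : ∀ s : SL, Commute (φ (x, 1)) (φ (1, s)) := fun s =>
      (show Commute ((x, 1) : P) (1, s) by simp [Commute, SemiconjBy]).map φ
    have c0 : Com p (w0, 1) := by
      refine S.commute_iff.1 ?_
      rw [← hp, ← h0', Commute, SemiconjBy, hconj, hconj, (hcx w0).eq]
    have c1 : Com p (w1, 1) := by
      refine S.commute_iff.1 ?_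
      have hcz : Commute (φ p) z := S.commute_z p
      have : Commute (φ p) (r * φ (1, t) * r) := by
        rw [← hp, Commute, SemiconjBy, hconj, hconj, (hcx t).eq]
      rcases hsec' with h | h <;> rw [h] at this
      · exact this
      · have e : φ (w1 * n, 1) = φ (w1, 1) * z := by
          rw [← S.φz, ← map_mul]; simp [zz]
        rw [e] at this
        have := this.mul_right hcz
        rwa [mul_assoc, S.zz_sq, mul_one] at this
    rcases cent_first p c0 c1 with h | h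
    · exact ⟨p.2, by rw [hp]; congr 1; exact Prod.ext h rfl⟩
    · refine ⟨p.2 * n, ?_⟩
      rw [hp]
      refine S.eq_iff.2 (Or.inr ?_)
      have hn := center_fact.1
      ext1 <;> simp [om, h, mul_assoc, hn]
  · obtain ⟨p, hp⟩ := S.norm r hrM (1, x)
    rw [hrinv] at hp
    have hcx : ∀ s : SL, Commute (φ (1, x)) (φ (s, 1)) := fun s =>
      (show Commute ((1, x) : P) (s, 1) by simp [Commute, SemiconjBy]).map φ
    have c0 : Com p (1, w0) := by
      refine S.commute_iff.1 ?_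
      rw [← hp, ← h0, Commute, SemiconjBy, hconj, hconj, (hcx w0).eq]
    have c1 : Com p (1, w1) := by
      refine S.commute_iff.1 ?_
      have hcz : Commute (φ p) z := S.commute_z p
      have h1 : Commute (φ p) (r * φ (w1, 1) * r) := by
        rw [← hp, Commute, SemiconjBy, hconj, hconj, (hcx w1).eq]
      have ht1 : Commute (φ p) (φ (1, t)) := by
        rcases hfirst with h | h <;> rw [h] at h1
        · exact h1
        · have e : φ (1, t * n) = φ (1, t) * z := by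
            rw [← S.φz, ← map_mul]
            refine S.eq_iff.2 ?_
            rcases ht with rfl | rfl <;> decide +kernel
          rw [e] at h1
          have := h1.mul_right hcz
          rwa [mul_assoc, S.zz_sq, mul_one] at this
      rcases ht with rfl | rfl
      · exact ht1
      · have e : φ (1, w1) = (φ (1, w0))⁻¹ * φ (1, k0) := by
          rw [← map_inv, ← map_mul]; simp [k0]
        rw [e]
        exact (S.commute_iff.2 c0).inv_right.mul_right ht1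
    rcases cent_second p c0 c1 with h | h
    · exact ⟨p.1, by rw [hp]; congr 1; exact Prod.ext rfl h⟩
    · refine ⟨p.1 * n, ?_⟩
      rw [hp]
      refine S.eq_iff.2 (Or.inr ?_)
      have hn := center_fact.1
      ext1 <;> simp [om, h, mul_assoc, hn]

end Cfsg.Agent.U43Type38
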