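import Cfsg.Agent.Lib.U43Type38Loc
import Cfsg.Agent.Lib.SignalizerStrongEmb

/-!
# The end of the recognition of the unitary group in dimension four over nine elements

A subgroup containing the centraliser of an involution in which that centraliser has order
`2 ^ 7 * 3 ^ 2`, of order `3265920`, with one class of involutions and without elements of
order `35`, is everything: otherwise it would be strongly embedded, and its intersection with a
conjugate by an outside involution would be a group of odd order `3 ^ k * 35`, which always has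
an element of order `35`.
-/

set_option autoImplicit false

namespace Cfsg.Agent.U43Type38Top7

universe u

open Cfsg.Agent.U43Type38

/-! ### Groups of odd order `3 ^ k * 35` -/

section Odd

variable {L : Type u} [Group L] [Finite L]

omit [Finite L] in
theorem conj_pow_of_conj {x n : L} {j : ℕ} (h : n * x * n⁻¹ = x ^ j) (m : ℕ) :
    n ^ m * x * (n ^ m)⁻¹ = x ^ (j ^ m) := by
  induction m with
  | zero => simp
  | succ m ih =>
    rw [pow_succ', show n * n ^ m * x * (n * n ^ m)⁻¹ = n * (n ^ m * x * (n ^ m)⁻¹) * n⁻¹ by group,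
      ih, ← conj_pow, h, ← pow_mul, pow_succ']

omit [Finite L] in
/-- An element of order prime to `p - 1` normalising a group of prime order `p` centralises it. -/
theorem commute_of_normalizes {p : ℕ} (hp : p.Prime) {x n : L} (hx : orderOf x = p)
    (hn : n * x * n⁻¹ ∈ Subgroup.zpowers x) (hco : (orderOf n).Coprime (p - 1)) :
    Commute n x := by
  have : Fact p.Prime := ⟨hp⟩
  have hxp : 0 < orderOf x := by rw [hx]; exact hp.pos
  obtain ⟨z, hz⟩ := hn
  obtain ⟨j, hj⟩ : ∃ j : ℕ, n * x * n⁻¹ = x ^ j := by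
    refine ⟨(z % (p : ℤ)).toNat, ?_⟩
    have h0 : 0 ≤ z % (p : ℤ) := Int.emod_nonneg _ (by exact_mod_cast hp.ne_zero)
    simp only at hz
    rw [← zpow_natCast, Int.toNat_of_nonneg h0, ← hx, zpow_mod_orderOf, hz]
  have hjp : ¬ p ∣ j := by
    rintro ⟨c, hc⟩
    rw [hc, pow_mul, ← hx, pow_orderOf_eq_one, one_pow] at hj
    have hx1 : x = 1 := conj_eq_one_iff.1 hj
    rw [hx1, orderOf_one] at hx
    exact hp.ne_one hx.symm
  have hmod : j ^ (p - 1) ≡ 1 [MOD p] := by
    have h1 := Nat.ModEq.pow_totient ((hp.coprime_iff_not_dvd.2 hjp).symm)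
    rwa [Nat.totient_prime hp] at h1
  have h1 : n ^ (p - 1) * x * (n ^ (p - 1))⁻¹ = x := by
    rw [conj_pow_of_conj hj]
    conv_rhs => rw [← pow_one x]
    rw [pow_eq_pow_iff_modEq, hx]
    exact hmod
  have h2 : Commute (n ^ (p - 1)) x := mul_inv_eq_iff_eq_mul.1 h1
  obtain ⟨m, hm⟩ := exists_pow_eq_self_of_coprime (x := n) hco.symm
  rw [← hm]
  exact h2.pow_left m

/-- An odd number `3 ^ k * 35` is the order of groups with an element of order `35` only. -/
theorem exists_orderOf_35 (k : ℕ) (hL : Nat.card L = 3 ^ k * 35) :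
    ∃ e : L, orderOf e = 35 := by
  have hf5 : Fact (Nat.Prime 5) := ⟨by norm_num⟩
  have hf7 : Fact (Nat.Prime 7) := ⟨by norm_num⟩
  have hodd : ∀ g : L, Odd (orderOf g) := fun g => by
    refine Odd.of_dvd_nat ?_ (orderOf_dvd_natCard g)
    rw [hL]
    exact ((by decide : Odd 3).pow).mul (by decide)
  obtain ⟨P⟩ := (inferInstance : Nonempty (Sylow 5 L))
  have hP5 : Nat.card (P : Subgroup L) = 5 := by
    have h3 : Nat.Coprime (5 ^ 1) (3 ^ k * 7) := by
      rw [pow_one]
      exact Nat.Coprime.mul_right (Nat.Coprime.pow_right k (by norm_num)) (by norm_num)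
    rw [P.card_eq_multiplicity]
    have : (Nat.card L).factorization 5 = 1 := by
      rw [hL, Nat.factorization_mul (by positivity) (by norm_num), Nat.factorization_pow]
      simp [Nat.factorization_eq_zero_of_not_dvd (n := 3) (p := 5) (by norm_num),
        show (35 : ℕ).factorization 5 = 1 by
          rw [show (35 : ℕ) = 5 * 7 by norm_num, Nat.factorization_mul (by norm_num) (by norm_num)]
          simp [Nat.Prime.factorization_self (by norm_num : Nat.Prime 5),
            Nat.factorization_eq_zero_of_not_dvd (n := 7) (p := 5) (by norm_num)]]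
    rw [this, pow_one]
  obtain ⟨⟨x, hxP⟩, hgen⟩ := (isCyclic_of_prime_card hP5).exists_generator
  have hPz : (P : Subgroup L) = Subgroup.zpowers x := by
    refine le_antisymm (fun y hy => ?_) (by rwa [Subgroup.zpowers_le])
    obtain ⟨i, hi⟩ := Subgroup.mem_zpowers_iff.1 (hgen ⟨y, hy⟩)
    exact Subgroup.mem_zpowers_iff.2 ⟨i, by simpa using congrArg Subtype.val hi⟩
  have hx : orderOf x = 5 := by rw [← Nat.card_zpowers, ← hPz, hP5]
  have hcop : ∀ g : L, (orderOf g).Coprime 4 := fun g =>
    Nat.Coprime.pow_right 2 (Nat.coprime_two_right.2 (hodd g))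
  have hNC : Subgroup.normalizer ((P : Subgroup L) : Set L) ≤
      Subgroup.centralizer ((P : Subgroup L) : Set L) := by
    intro n hn
    rw [hPz] at hn ⊢
    have hc : Commute n x := commute_of_normalizes (by norm_num) hx
      ((Subgroup.mem_normalizer_iff.1 hn x).1 (Subgroup.mem_zpowers x)) (hcop n)
    rw [Subgroup.mem_centralizer_iff]
    intro y hy
    obtain ⟨i, rfl⟩ := Subgroup.mem_zpowers_iff.1 hy
    exact (hc.zpow_right i).eq.symm
  set π := MonoidHom.transferSylow P hNC with hπ
  have hM : Nat.card π.ker = 3 ^ k * 7 := by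
    have := (MonoidHom.ker_transferSylow_isComplement' P hNC).card_mul_card
    rw [hL, hP5, show 3 ^ k * 35 = 3 ^ k * 7 * 5 by ring] at this
    exact Nat.eq_of_mul_eq_mul_right (by norm_num) this
  have hxM : π x ≠ 1 := by
    intro h1
    have h5 : 5 ∣ Nat.card π.ker := by
      have h := orderOf_dvd_natCard (⟨x, MonoidHom.mem_ker.2 h1⟩ : π.ker)
      rwa [Subgroup.orderOf_mk, hx] at h
    rw [hM] at h5
    rcases (Nat.Prime.dvd_mul (by norm_num)).1 h5 with h | h
    · exact absurd (Nat.Prime.dvd_of_dvd_pow (by norm_num) h) (by norm_num)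
    · norm_num at h
  have hπx : orderOf (π x) = 5 := by
    refine orderOf_eq_prime ?_ hxM
    have h := pow_orderOf_eq_one x
    rw [hx] at h
    rw [← map_pow, h, map_one]
  obtain ⟨Q⟩ := (inferInstance : Nonempty (Sylow 7 π.ker))
  set Q' : Subgroup L := (Q : Subgroup π.ker).map π.ker.subtype with hQ'
  have hQ7 : Nat.card Q' = 7 := by
    rw [hQ', Subgroup.card_map_of_injective π.ker.subtype_injective, Q.card_eq_multiplicity, hM,
      Nat.factorization_mul (by positivity) (by norm_num), Nat.factorization_pow]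
    simp [Nat.factorization_eq_zero_of_not_dvd (n := 3) (p := 7) (by norm_num),
      Nat.Prime.factorization_self (by norm_num : Nat.Prime 7)]
  have htop : Subgroup.normalizer (Q' : Set L) ⊔ π.ker = ⊤ := Sylow.normalizer_sup_eq_top Q
  obtain ⟨n, hn, m, hm, hnm⟩ := Subgroup.mem_sup_of_normal_right.1
    (htop ▸ Subgroup.mem_top x : x ∈ Subgroup.normalizer (Q' : Set L) ⊔ π.ker)
  have hn5 : 5 ∣ orderOf n := by
    have hπn : π n = π x := by rw [← hnm, map_mul, MonoidHom.mem_ker.1 hm, mul_one]
    rw [← hπx, ← hπn]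
    exact orderOf_map_dvd π n
  set y := n ^ (orderOf n / 5) with hy
  have hy5 : orderOf y = 5 :=
    orderOf_pow_orderOf_div (orderOf_pos n).ne' hn5
  have hyN : y ∈ Subgroup.normalizer (Q' : Set L) := pow_mem hn _
  obtain ⟨⟨q, hqQ⟩, hgq⟩ := (isCyclic_of_prime_card hQ7).exists_generator
  have hQz : Q' = Subgroup.zpowers q := by
    refine le_antisymm (fun w hw => ?_) (by rwa [Subgroup.zpowers_le])
    obtain ⟨i, hi⟩ := Subgroup.mem_zpowers_iff.1 (hgq ⟨w, hw⟩)
    exact Subgroup.mem_zpowers_iff.2 ⟨i, by simpa using congrArg Subtype.val hi⟩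
  have hq : orderOf q = 7 := by rw [← Nat.card_zpowers, ← hQz, hQ7]
  rw [hQz] at hyN
  have hyq : Commute y q := commute_of_normalizes (by norm_num) hq
    ((Subgroup.mem_normalizer_iff.1 hyN q).1 (Subgroup.mem_zpowers q)) (by rw [hy5]; norm_num)
  refine ⟨y * q, ?_⟩
  rw [hyq.orderOf_mul_eq_mul_orderOf_of_coprime (by rw [hy5, hq]; norm_num), hy5, hq]

end Odd

/-! ### Involutions in a coset of a group of odd order -/

section Inverted

variable {G : Type u} [Group G] [Finite G]

omit [Finite G] in
/-- The number of involutions `u * l`, times the order of the centraliser of `u`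
in a group of odd order normalised by `u`, is the order of that group. -/
theorem card_invol_coset {L : Subgroup G} (hodd : Odd (Nat.card L)) {u : G} (hu : orderOf u = 2)
    (hnorm : ∀ l ∈ L, u * l * u⁻¹ ∈ L) :
    Nat.card {i : G // orderOf i = 2 ∧ u * i ∈ L} *
      Nat.card ↥(L ⊓ Subgroup.centralizer ({u} : Set G)) = Nat.card L := by
  open SignalizerStrongEmb in
  classical
  let f : L → {i : G // orderOf i = 2 ∧ u * i ∈ L} := fun l =>
    ⟨(l : G) * u * (l : G)⁻¹, by rw [orderOf_conj, hu], by
      have := mul_mem (hnorm _ l.2) (inv_mem l.2)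
      rwa [involution_inv hu, mul_assoc, mul_assoc, ← mul_assoc (l : G) u] at this⟩
  have hsurj : Function.Surjective f := by
    rintro ⟨b, hb, hub⟩
    obtain ⟨w, hw, hwe⟩ := exists_conj_of_odd hu hb (by
      rw [← Subgroup.orderOf_mk _ hub]
      exact hodd.of_dvd_nat (orderOf_dvd_natCard _))
    exact ⟨⟨w, Subgroup.zpowers_le.2 hub hw⟩, Subtype.ext hwe⟩
  let C : Subgroup L := (Subgroup.centralizer ({u} : Set G)).subgroupOf L
  have hker : ∀ a b : L, f a = f b ↔ a⁻¹ * b ∈ C := by
    intro a b
    simp only [C, f, Subtype.mk.injEq, Subgroup.mem_subgroupOf,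
      Subgroup.mem_centralizer_singleton_iff, Subgroup.coe_mul, Subgroup.coe_inv]
    constructor
    · intro h
      calc ((a : G)⁻¹ * b) * u = (a : G)⁻¹ * ((b : G) * u * (b : G)⁻¹) * b := by group
        _ = (a : G)⁻¹ * ((a : G) * u * (a : G)⁻¹) * b := by rw [h]
        _ = u * ((a : G)⁻¹ * b) := by group
    · intro h
      calc (a : G) * u * (a : G)⁻¹
          = (a : G) * (u * ((a : G)⁻¹ * b)) * (b : G)⁻¹ := by group
        _ = (a : G) * (((a : G)⁻¹ * b) * u) * (b : G)⁻¹ := by rw [h]
        _ = (b : G) * u * (b : G)⁻¹ := by group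
  let F : L ⧸ C → {i : G // orderOf i = 2 ∧ u * i ∈ L} :=
    Quotient.lift f fun a b hab => (hker a b).2 (QuotientGroup.leftRel_apply.1 hab)
  have hFbij : Function.Bijective F := by
    refine ⟨fun x y => ?_, fun i => ?_⟩
    · induction x using QuotientGroup.induction_on with
      | H a =>
        induction y using QuotientGroup.induction_on with
        | H b => exact fun h => QuotientGroup.eq.2 ((hker a b).1 h)
    · obtain ⟨l, hl⟩ := hsurj i
      exact ⟨(l : L ⧸ C), hl⟩
  have hC : Nat.card C = Nat.card ↥(L ⊓ Subgroup.centralizer ({u} : Set G)) := by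
    refine Nat.card_congr
      { toFun := fun c => ⟨c.1.1, c.1.2, c.2⟩
        invFun := fun c => ⟨⟨c.1, c.2.1⟩, c.2.2⟩
        left_inv := fun _ => rfl
        right_inv := fun _ => rfl }
  rw [← hC, ← Nat.card_congr (Equiv.ofBijective F hFbij)]
  exact (Subgroup.card_eq_card_quotient_mul_card_subgroup C).symm

end Inverted

/-! ### The subgroup is everything -/

variable {G : Type u} [Group G] [Finite G]

open SignalizerStrongEmb in
/-- A subgroup with the listed properties is the whole group. -/
theorem eq_top_of_facts {S : Subgroup G} {z : G} (hz : orderOf z = 2)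
    (hone : ∀ t : G, orderOf t = 2 → IsConj z t)
    (hCz : Subgroup.centralizer ({z} : Set G) ≤ S)
    (hCard : Nat.card (Subgroup.centralizer ({z} : Set G)) = 2 ^ 7 * 3 ^ 2)
    (hS : Nat.card S = 3265920)
    (hS1 : ∀ s t : S, orderOf s = 2 → orderOf t = 2 → IsConj s t)
    (h35 : ∀ s : S, orderOf s ≠ 35) : S = ⊤ := by
  classical
  by_contra hne
  have hzS : z ∈ S := hCz (Subgroup.mem_centralizer_singleton_iff.2 rfl)
  have hconj : ∀ t ∈ S, orderOf t = 2 → ∃ s ∈ S, s * z * s⁻¹ = t := by
    intro t htS ht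
    obtain ⟨c, hc⟩ := isConj_iff.1 (hS1 ⟨z, hzS⟩ ⟨t, htS⟩ (by rw [Subgroup.orderOf_mk]; exact hz)
      (by rw [Subgroup.orderOf_mk]; exact ht))
    exact ⟨c, c.2, congrArg Subtype.val hc⟩
  have hSE : Cfsg.IsStronglyEmbedded S := by
    refine isStronglyEmbedded_of_centralizer hne (even_card_of_involution_mem hz hzS) ?_ ?_
    · intro t htS ht c hc
      obtain ⟨s, hs, rfl⟩ := hconj t htS ht
      rw [Subgroup.mem_centralizer_singleton_iff] at hc
      have : s⁻¹ * c * s ∈ Subgroup.centralizer ({z} : Set G) := by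
        rw [Subgroup.mem_centralizer_singleton_iff]
        calc s⁻¹ * c * s * z = s⁻¹ * (c * (s * z * s⁻¹)) * s := by group
          _ = s⁻¹ * ((s * z * s⁻¹) * c) * s := by rw [hc]
          _ = z * (s⁻¹ * c * s) := by group
      have h2 := mul_mem (mul_mem hs (hCz this)) (inv_mem hs)
      simpa [mul_assoc] using h2
    · intro t htS s hsS ht hs _
      obtain ⟨a, ha, rfl⟩ := hconj t htS ht
      obtain ⟨b, hb, rfl⟩ := hconj s hsS hs
      exact ⟨b * a⁻¹, mul_mem hb (inv_mem ha), by group⟩
  obtain ⟨u, huS, hu⟩ := exists_involution_not_mem hSE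
  have huu := involution_mul_self hu
  set L := S ⊓ S.map (MulAut.conj u).toMonoidHom with hLdef
  have hodd : Odd (Nat.card L) := hSE.2.2 u huS
  have hnorm : ∀ l ∈ L, u * l * u⁻¹ ∈ L := by
    intro l hl
    obtain ⟨h1, h2⟩ := Subgroup.mem_inf.1 hl
    rw [mem_conj_iff, involution_inv hu] at h2
    refine Subgroup.mem_inf.2 ⟨by rwa [involution_inv hu], ?_⟩
    rw [mem_conj_iff]
    simpa [mul_assoc] using h1
  -- the involutions of `S`
  have hinvS : Nat.card {t : G // orderOf t = 2 ∧ t ∈ S} * (2 ^ 7 * 3 ^ 2) = 3265920 := by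
    let z' : S := ⟨z, hzS⟩
    have hsc : Nat.card (Subgroup.centralizer ({z'} : Set S)) = 2 ^ 7 * 3 ^ 2 := by
      rw [← hCard]
      exact Nat.card_congr
        { toFun := fun c => ⟨(c.1 : G), Subgroup.mem_centralizer_singleton_iff.2
            (congrArg Subtype.val (Subgroup.mem_centralizer_singleton_iff.1 c.2))⟩
          invFun := fun c => ⟨⟨c.1, hCz c.2⟩, Subgroup.mem_centralizer_singleton_iff.2
            (Subtype.ext (Subgroup.mem_centralizer_singleton_iff.1 c.2))⟩
          left_inv := fun _ => rfl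
          right_inv := fun _ => rfl }
    have horb : Nat.card (MulAction.orbit (ConjAct S) z') =
        Nat.card {t : G // orderOf t = 2 ∧ t ∈ S} := by
      refine Nat.card_congr
        { toFun := fun t => ⟨(t.1 : G), ?_, t.1.2⟩
          invFun := fun t => ⟨⟨t.1, t.2.2⟩, ?_⟩
          left_inv := fun _ => rfl
          right_inv := fun _ => rfl }
      · obtain ⟨g, hg⟩ := t.2
        simp only [ConjAct.smul_def] at hg
        rw [← hg]
        push_cast
        rw [orderOf_conj]
        exact hz
      · obtain ⟨s, hs, hst⟩ := hconj _ t.2.2 t.2.1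
        exact ⟨ConjAct.toConjAct (⟨s, hs⟩ : S), Subtype.ext hst⟩
    have h := Subgroup.card_eq_card_quotient_mul_card_subgroup
      (MulAction.stabilizer (ConjAct S) z')
    rw [← Nat.card_congr (MulAction.orbitEquivQuotientStabilizer (ConjAct S) z'),
      ConjAct.stabilizer_eq_centralizer, horb] at h
    have h2 : Nat.card (ConjAct S) = 3265920 := hS
    rw [← h2, h, ← hsc]
    congr 1
  have hinv : Nat.card {t : G // orderOf t = 2 ∧ t ∈ S} = 2835 := by omega
  -- those in the coset
  have hne1 : ((1 : G) : G ⧸ S) ≠ (u : G ⧸ S) := fun h => huS (by simpa [QuotientGroup.eq] using h)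
  have hX : Nat.card {i : G // orderOf i = 2 ∧ u * i ∈ L} = 2835 := by
    rw [← hinv, ← card_swap hSE _ _ hne1]
    refine Nat.card_congr (Equiv.subtypeEquivRight fun i => and_congr_right fun hi => ?_)
    change u * i ∈ L ↔ ((i * 1 : G) : G ⧸ S) = _
    rw [QuotientGroup.eq, mul_one, involution_inv hi, hLdef, Subgroup.mem_inf, mem_conj_iff,
      involution_inv hu, ← mul_assoc u u i, huu, one_mul]
    constructor
    · exact fun h => h.2
    · intro h
      refine ⟨?_, h⟩
      have := inv_mem h
      rwa [mul_inv_rev, involution_inv hu, involution_inv hi] at this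
  -- the order of `L`
  have hmul := card_invol_coset hodd hu hnorm
  rw [hX] at hmul
  set d := Nat.card ↥(L ⊓ Subgroup.centralizer ({u} : Set G)) with hddef
  have hd : d ∣ 3 ^ 2 := by
    have h1 : d ∣ 2 ^ 7 * 3 ^ 2 := by
      obtain ⟨g, hg⟩ := isConj_iff.1 (hone u hu)
      have hCu : Nat.card (Subgroup.centralizer ({u} : Set G)) = 2 ^ 7 * 3 ^ 2 := by
        rw [← hCard]
        refine Nat.card_congr (Equiv.subtypeEquiv (MulAut.conj g⁻¹).toEquiv fun c => ?_)
        simp only [MulEquiv.toEquiv_eq_coe, MulEquiv.coe_toEquiv, MulAut.conj_apply, inv_inv,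
          Subgroup.mem_centralizer_singleton_iff, ← hg]
        constructor
        · intro h
          calc g⁻¹ * c * g * z = g⁻¹ * (c * (g * z * g⁻¹)) * g := by group
            _ = g⁻¹ * ((g * z * g⁻¹) * c) * g := by rw [h]
            _ = z * (g⁻¹ * c * g) := by group
        · intro h
          calc c * (g * z * g⁻¹) = g * (g⁻¹ * c * g * z) * g⁻¹ := by group
            _ = g * (z * (g⁻¹ * c * g)) * g⁻¹ := by rw [h]
            _ = g * z * g⁻¹ * c := by group
      rw [← hCu]
      exact Subgroup.card_dvd_of_le inf_le_right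
    have h2 : Nat.Coprime d (2 ^ 7) := by
      refine Nat.Coprime.pow_right 7 (Nat.coprime_two_right.2 (hodd.of_dvd_nat ?_))
      exact Subgroup.card_dvd_of_le inf_le_left
    exact h2.dvd_of_dvd_mul_left h1
  obtain ⟨j, -, hj⟩ := (Nat.dvd_prime_pow (by norm_num)).1 hd
  have hLcard : Nat.card L = 3 ^ (4 + j) * 35 := by
    rw [← hmul, hj, pow_add]; ring
  obtain ⟨e, he⟩ := exists_orderOf_35 (4 + j) hLcard
  refine h35 ⟨e.1, (Subgroup.mem_inf.1 e.2).1⟩ ?_
  rwa [Subgroup.orderOf_mk, Subgroup.orderOf_coe]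

/-- If the five elements generate a group with the properties of the unitary group in dimension
four over nine elements, they generate the whole group. -/
theorem eq_top {g : Gens G} (h : Loc g) (hone : ∀ t : G, orderOf t = 2 → IsConj g.z t)
    (hcard : Nat.card g.span = 3265920)
    (hS1 : ∀ s t : g.span, orderOf s = 2 → orderOf t = 2 → IsConj s t)
    (h35 : ∀ s : g.span, orderOf s ≠ 35) : g.span = ⊤ := by
  refine eq_top_of_facts h.hz hone ?_ h.card hcard hS1 h35
  rw [← h.gen]
  exact Subgroup.closure_mono (by intro w hw; simp only [Set.mem_insert_iff,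
    Set.mem_singleton_iff] at hw ⊢; tauto)

/-- The same with the facts given for a group isomorphic to the one generated. -/
theorem eq_top_of_equiv {g : Gens G} (h : Loc g) (hone : ∀ t : G, orderOf t = 2 → IsConj g.z t)
    {M : Type*} [Group M] (e : g.span ≃* M) (hcard : Nat.card M = 3265920)
    (hS1 : ∀ s t : M, orderOf s = 2 → orderOf t = 2 → IsConj s t)
    (h35 : ∀ s : M, orderOf s ≠ 35) : g.span = ⊤ := by
  refine eq_top h hone ((Nat.card_congr e.toEquiv).trans hcard) (fun s t hs ht => ?_) fun s => ?_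
  · have := hS1 (e s) (e t) (by rw [MulEquiv.orderOf_eq, hs]) (by rw [MulEquiv.orderOf_eq, ht])
    simpa using (e.symm.toMonoidHom.map_isConj this)
  · rw [← e.orderOf_eq s]; exact h35 _

open SignalizerStrongEmb in
/-- One class of involutions follows from fusion inside the centraliser of one of them. -/
theorem isConj_of_local {z : G} (hz : orderOf z = 2)
    (hloc : ∀ t ∈ Subgroup.centralizer ({z} : Set G), orderOf t = 2 → IsConj z t)
    (t : G) (ht : orderOf t = 2) : IsConj z t := by
  rcases Nat.even_or_odd (orderOf (z * t)) with he | ho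
  · obtain ⟨w, -, hw, hzw, htw⟩ := exists_commuting_of_even hz ht he
    obtain ⟨g, hg⟩ := isConj_iff.1
      (hloc w (Subgroup.mem_centralizer_singleton_iff.2 hzw.symm) hw)
    refine (hloc (g⁻¹ * t * g) ?_ ?_).trans (isConj_iff.2 ⟨g, by group⟩)
    · rw [Subgroup.mem_centralizer_singleton_iff]
      calc g⁻¹ * t * g * z = g⁻¹ * (t * (g * z * g⁻¹)) * g := by group
        _ = g⁻¹ * ((g * z * g⁻¹) * t) * g := by rw [hg, htw]
        _ = z * (g⁻¹ * t * g) := by group
    · have := orderOf_conj g⁻¹ t
      rw [inv_inv] at this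
      rw [this, ht]
  · obtain ⟨w, -, hw⟩ := exists_conj_of_odd hz ht ho
    exact isConj_iff.2 ⟨w, hw⟩

end Cfsg.Agent.U43Type38Top7
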