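import Cfsg.Agent.Lib.U43Type38Loc
import Cfsg.Agent.Lib.U43Type38Cent42
import Cfsg.Agent.Lib.U43Type38Top7

/-!
# The involutions of the centraliser

With the table of the centraliser of the involution `z` (order 1152): each of its 67 involutions
is conjugate inside it to `z`, `a a'`, `p` or `m`. So under the fusion given by the local
analysis the group has one class of involutions.
-/

set_option autoImplicit false

namespace Cfsg.Agent.U43Type38Inv7

universe u

open Cfsg.Agent.U43Type38 Cfsg.Agent.U43Type38Cent42

/-- A word for the element with the given code in a copy of `SL(2,3)`. -/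
def wordE (n : Nat) : List Nat :=
  List.replicate (n / 6) 0 ++ (if n / 3 % 2 = 1 then [2, 0, 3] else []) ++ List.replicate (n % 3) 2

/-- A word for a node. -/
def wordN (i : Nat) : List Nat :=
  wordE (i / 48) ++ 4 :: wordE (i / 4 % 12) ++ 4 ::
    (if i % 4 = 0 then [] else if i % 4 = 1 then [4] else if i % 4 = 2 then [5] else [4, 5])

/-- Words for the four representatives `z`, `a a'`, `p`, `m`. -/
def repW (k : Nat) : List Nat :=
  if k = 0 then [0, 0] else if k = 1 then [0, 4, 0, 4] else if k = 2 then [4] else [5]

/-- For each involution of the centraliser: its node, the representative, the conjugating node. -/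
def cert : List (Nat × Nat × Nat) := [(1, 2, 0), (2, 3, 0), (54, 3, 4), (57, 2, 8), (101, 2, 4), (106, 3, 8), (156, 1, 2), (157, 2, 14), (168, 1, 10), (170, 3, 24), (180, 1, 6), (210, 3, 16), (225, 2, 34), (281, 2, 42), (286, 3, 44), (300, 1, 4), (302, 3, 12), (312, 1, 0), (313, 2, 26), (324, 1, 8), (378, 3, 40), (381, 2, 46), (401, 2, 18), (418, 3, 32), (444, 1, 50), (456, 1, 58), (468, 1, 54), (469, 2, 38), (470, 3, 36), (501, 2, 22), (510, 3, 28), (550, 3, 20), (557, 2, 30), (576, 0, 0), (577, 2, 2), (578, 3, 1), (630, 3, 5), (633, 2, 10), (677, 2, 6), (682, 3, 9), (732, 1, 26), (733, 2, 12), (744, 1, 22), (746, 3, 25), (756, 1, 18), (786, 3, 17), (801, 2, 32), (857, 2, 40), (862, 3, 45), (876, 1, 28), (878, 3, 13), (888, 1, 12), (889, 2, 24), (900, 1, 20), (954, 3, 41), (957, 2, 44), (977, 2, 16), (994, 3, 33), (1020, 1, 74), (1032, 1, 70), (1044, 1, 66), (1045, 2, 36), (1046, 3, 37), (1077, 2, 20), (1086, 3, 29), (1126, 3, 21), (1133, 2, 28)]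

/-- The check at a node. -/
def check (i : Nat) : Bool :=
  run (wordN i) 0 == i &&
    (i == 0 || run (wordN i ++ wordN i) 0 != 0 ||
      cert.any fun t => t.1 == i &&
        run (wordN t.2.2 ++ repW t.2.1) 0 == run (wordN i ++ wordN t.2.2) 0)

theorem check_all : (List.range 1152).all check = true := by decide +kernel

variable {G : Type u} [Group G]

theorem val_append (g : Gens G) (v w : List Nat) : val g (v ++ w) = val g v * val g w := by
  simp [val]

/-- Every involution of the centraliser is conjugate to one of the four representatives. -/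
theorem exists_rep {g : Gens G} (h : g.CentRels)
    (hc : Nat.card ↥(Subgroup.closure ({g.a, g.b, g.p, g.m} : Set G)) = 1152)
    {t : G} (ht : t ∈ Subgroup.closure {g.a, g.b, g.p, g.m}) (ht2 : orderOf t = 2) :
    IsConj g.z t ∨ IsConj (g.a * g.a') t ∨ IsConj g.p t ∨ IsConj g.m t := by
  obtain ⟨i, hi, rfl⟩ := exists_elem h ht
  have hk := List.all_eq_true.1 check_all i (List.mem_range.2 hi)
  simp only [check, Bool.and_eq_true, Bool.or_eq_true, beq_iff_eq, bne_iff_ne, List.any_eq_true]
    at hk
  obtain ⟨hw, hcases⟩ := hk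
  have hval : val g (wordN i) = elem h i := by rw [val_eq h, hw]
  have hsq : elem h i * elem h i = 1 := by
    rw [← pow_two, ← ht2, pow_orderOf_eq_one]
  rcases hcases with (h0 | hne) | ⟨⟨i', k, j⟩, -, -, hj⟩
  · rw [h0, elem_zero, orderOf_one] at ht2
    exact absurd ht2 (by norm_num)
  · refine absurd ?_ (val_ne h hc (v := wordN i ++ wordN i) (w := []) hne)
    rw [val_append, hval, hsq]
    rfl
  · have he : val g (wordN j) * val g (repW k) = elem h i * val g (wordN j) := by
      rw [← hval, ← val_append, ← val_append, val_eq h, val_eq h, hj]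
    have hconj : IsConj (val g (repW k)) (elem h i) :=
      isConj_iff.2 ⟨val g (wordN j), by rw [he, mul_inv_cancel_right]⟩
    unfold repW at hconj
    split_ifs at hconj
    · exact Or.inl (by simpa [val, gen, Gens.z] using hconj)
    · exact Or.inr (Or.inl (by simpa [val, gen, Gens.a', mul_assoc] using hconj))
    · exact Or.inr (Or.inr (Or.inl (by simpa [val, gen] using hconj)))
    · exact Or.inr (Or.inr (Or.inr (by simpa [val, gen] using hconj)))

/-- The local fusion: every involution commuting with `z` is conjugate to `z`. -/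
theorem isConj_of_mem {g : Gens G} (h : Loc g) {t : G}
    (ht : t ∈ Subgroup.centralizer ({g.z} : Set G)) (ht2 : orderOf t = 2) : IsConj g.z t := by
  rcases exists_rep h.rels (by rw [h.gen, h.card]; norm_num) (h.gen ▸ ht) ht2 with
    h1 | h1 | h1 | h1
  exacts [h1, h.conj_aa'.trans h1, h.conj_p.trans h1, h.conj_m.trans h1]

/-- One class of involutions. -/
theorem hone [Finite G] {g : Gens G} (h : Loc g) (t : G) (ht : orderOf t = 2) : IsConj g.z t :=
  U43Type38Top7.isConj_of_local h.hz (fun _ => isConj_of_mem h) t ht

end Cfsg.Agent.U43Type38Inv7
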