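import Cfsg.Agent.Lib.U43Type38Glue7
import Cfsg.Agent.Lib.U43Type38Setup36
import Cfsg.Agent.Lib.U43Type38Local
import Cfsg.Agent.Lib.U43Type38Model22
import Cfsg.Agent.Lib.U43Type38Amalgam33
import Cfsg.Agent.Lib.U43Type38Cert40
import Cfsg.Agent.Lib.U43Type38Facts22

/-!
# Recognition of the unitary group in dimension four over nine elements

The coordinate system of the centraliser gives five elements with the local data; the amalgam
step gives the relations; a bound on the group presented by them and the model in `PSU₄(3)` give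
the isomorphism.
-/

set_option autoImplicit false

namespace Cfsg.Agent.U43Type38Main7

universe u

open Cfsg.Agent.U43Type38 Cfsg.Agent.U43Type38SL

/-- `Loc` only looks at the first four elements. -/
theorem loc_x {G : Type u} [Group G] {g : Gens G} (h : Loc g) (x : G) :
    Loc ({ g with x := x } : Gens G) :=
  { rels := { a4 := h.rels.a4, b3 := h.rels.b3, p2 := h.rels.p2, m2 := h.rels.m2, bz := h.rels.bz,
              ab := h.rels.ab, pz := h.rels.pz, mz := h.rels.mz, pm := h.rels.pm, aa' := h.rels.aa',
              ab' := h.rels.ab', ba' := h.rels.ba', bb' := h.rels.bb', ma := h.rels.ma, mb := h.rels.mb }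
    hz := h.hz
    gen := h.gen
    card := h.card
    conj_aa' := h.conj_aa'
    conj_p := h.conj_p
    conj_m := h.conj_m }

/-- A field with nine elements. -/
theorem exists_field : ∃ (K : Type) (_ : Field K) (_ : Fintype K), Fintype.card K = 9 := by
  have hf : Fact (Nat.Prime 3) := ⟨by norm_num⟩
  let hfin : Fintype (GaloisField 3 2) := Fintype.ofFinite _
  refine ⟨GaloisField 3 2, inferInstance, hfin, ?_⟩
  rw [Fintype.card_eq_nat_card, GaloisField.card 3 2 (by norm_num)]
  norm_num

/-- The recognition from a coordinate system. -/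
theorem of_setup {G : Type u} [Group G] [Finite G] {z : G} {φ : P →* G} (S : Setup z φ)
    (K : Type) [Field K] [Fintype K] (hK9 : Fintype.card K = 9) :
    Nonempty (G ≃* Cfsg.PSU 4 K 3) ∧ Nat.card G = 2 ^ 7 * 3 ^ 6 * 5 * 7 ∧
      ∀ x y : G, orderOf x = 2 → orderOf y = 2 → IsConj x y := by
  obtain ⟨g, hg, -⟩ := exists_loc S
  obtain ⟨x, hx⟩ := U43Type38Amalgam33.exists_rels hg
  have hF : Fintype.card K = 3 ^ 2 := by rw [hK9]; norm_num
  obtain ⟨g₀, h₀, htop, -⟩ := U43Type38Model22.exists_model (K := K) hF
  have hs : IsSimpleGroup (Cfsg.PSU 4 K 3) :=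
    OrthUnitaryPSU.isSimpleGroup_PSU hF (by norm_num) (by norm_num)
  exact U43Type38Glue7.main (loc_x hg x) hx (fun g' h' => U43Type38Cert40.card_span_le g' h') h₀ htop
    (PSUFourThree56.card_PSU hK9) (U43Type38Facts22.isConj_PSU hF)
    (U43Type38Facts22.orderOf_ne_PSU hF)

end Cfsg.Agent.U43Type38Main7
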