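import Cfsg.Agent.Lib.U43Type38Loc
import Cfsg.Agent.Lib.U43Type38Cent42

/-!
Computations with the nodes of the centraliser of the involution (order 1152) for the five
generators of unitary type in dimension four over nine elements: multiplication of nodes, and the
finite facts about elementary abelian subgroups of order sixteen and subgroups of order nine.
-/

set_option autoImplicit false

namespace Cfsg.Agent.U43Type38Nodes33

open Cfsg.Agent.U43Type38 Cfsg.Agent.U43Type38Cent42

/-- A word for the `n`-th element of the first copy of `SL(2,3)`. -/
def slWord (n : Nat) : List Nat :=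
  List.replicate (n / 6) 0 ++ (if n / 3 % 2 = 1 then [2, 0, 3] else []) ++ List.replicate (n % 3) 2

/-- A word leading from node `0` to the node `i`. -/
def word (i : Nat) : List Nat :=
  slWord (i / 48) ++ (if i / 4 % 12 = 0 then [] else 4 :: slWord (i / 4 % 12) ++ [4]) ++
    (if i % 4 = 0 then [] else if i % 4 = 1 then [4] else if i % 4 = 2 then [5] else [4, 5])

/-- The number of the inverse generator. -/
def flipLetter (x : Nat) : Nat :=
  if x = 0 then 1 else if x = 1 then 0 else if x = 2 then 3 else if x = 3 then 2 else x

/-- The inverse word. -/
def invWord (w : List Nat) : List Nat := (w.map flipLetter).reverse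

/-- The product of two nodes. -/
def mul (i j : Nat) : Nat := run (word j) i

/-- The conjugate of node `i` by node `c`. -/
def cj (c i : Nat) : Nat := run (invWord (word c)) (mul c i)

/-- Whether two nodes commute. -/
def com (i j : Nat) : Bool := mul i j == mul j i

/-- The product of a list of nodes. -/
def pr (s : List Nat) : Nat := s.foldl mul 0

/-- The ninth power of a node is one. -/
def nine (i : Nat) : Bool :=
  let c := mul (mul i i) i
  mul (mul c c) c == 0

/-- A property of all nodes. -/
def allB (f : Nat → Bool) : Bool := (List.range 1152).all f

theorem allB_spec {f : Nat → Bool} (h : allB f = true) {i : Nat} (hi : i < 1152) : f i = true :=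
  List.all_eq_true.mp h i (List.mem_range.mpr hi)

/-- Generators of the elementary abelian subgroup of order sixteen. -/
def genA : List Nat := [576, 1, 468, 312]
/-- Generators of the other normal elementary abelian subgroup of order sixteen. -/
def genA2 : List Nat := [576, 2, 468, 300]
/-- Generators of the Sylow two-subgroup. -/
def genT : List Nat := [288, cj 48 288, cj 1 288, cj 1 (cj 48 288), 1, 2]
/-- Generators of the subgroup of order nine. -/
def genP : List Nat := [48, 48, 4, 4]

def invs : List Nat := [0, 1, 2, 54, 57, 101, 106, 156, 157, 168, 170, 180, 210, 225, 281, 286, 300, 302, 312, 313, 324, 378, 381, 401, 418, 444, 456, 468, 469, 470, 501, 510, 550, 557, 576, 577, 578, 630, 633, 677, 682, 732, 733, 744, 746, 756, 786, 801, 857, 862, 876, 878, 888, 889, 900, 954, 957, 977, 994, 1020, 1032, 1044, 1045, 1046, 1077, 1086, 1126, 1133]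
def listT : List Nat := [0, 1, 2, 3, 12, 13, 14, 15, 24, 25, 26, 27, 36, 37, 38, 39, 144, 145, 146, 147, 156, 157, 158, 159, 168, 169, 170, 171, 180, 181, 182, 183, 288, 289, 290, 291, 300, 301, 302, 303, 312, 313, 314, 315, 324, 325, 326, 327, 432, 433, 434, 435, 444, 445, 446, 447, 456, 457, 458, 459, 468, 469, 470, 471, 576, 577, 578, 579, 588, 589, 590, 591, 600, 601, 602, 603, 612, 613, 614, 615, 720, 721, 722, 723, 732, 733, 734, 735, 744, 745, 746, 747, 756, 757, 758, 759, 864, 865, 866, 867, 876, 877, 878, 879, 888, 889, 890, 891, 900, 901, 902, 903, 1008, 1009, 1010, 1011, 1020, 1021, 1022, 1023, 1032, 1033, 1034, 1035, 1044, 1045, 1046, 1047]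
def commInvs : List (Nat × List Nat) := [(312, [0, 1, 106, 156, 157, 180, 286, 312, 313, 418, 444, 468, 469, 550, 576, 577, 682, 732, 733, 756, 862, 888, 889, 994, 1020, 1044, 1045, 1126]), (1, [0, 1, 156, 157, 312, 313, 468, 469, 576, 577, 732, 733, 888, 889, 1044, 1045]), (2, [0, 2, 168, 170, 300, 302, 468, 470, 576, 578, 744, 746, 876, 878, 1044, 1046])]
def sixteen : List (List Nat × Nat × Bool) := [([0, 2, 168, 170, 300, 302, 468, 470, 576, 578, 744, 746, 876, 878, 1044, 1046], 0, true),
  ([0, 1, 156, 157, 312, 313, 468, 469, 576, 577, 732, 733, 888, 889, 1044, 1045], 0, false),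
  ([0, 57, 168, 225, 324, 381, 444, 501, 576, 633, 744, 801, 900, 957, 1020, 1077], 4, false),
  ([0, 101, 180, 281, 300, 401, 456, 557, 576, 677, 756, 857, 876, 977, 1032, 1133], 5, false),
  ([0, 106, 180, 286, 312, 418, 444, 550, 576, 682, 756, 862, 888, 994, 1020, 1126], 4, true),
  ([0, 54, 156, 210, 324, 378, 456, 510, 576, 630, 732, 786, 900, 954, 1032, 1086], 6, true)]
def invWit : List (Nat × Nat) := [(1, 0), (2, 0), (54, 6), (57, 4), (101, 5), (106, 4), (156, 2), (157, 26), (168, 9), (170, 24), (180, 7), (210, 18), (225, 18), (281, 31), (286, 28), (300, 8), (302, 12), (312, 0), (313, 14), (324, 4), (378, 20), (381, 23), (401, 19), (418, 16), (444, 6), (456, 5), (468, 52), (469, 38), (470, 36), (501, 30), (510, 30), (550, 22), (557, 22), (577, 2), (578, 1), (630, 7), (633, 6), (677, 7), (682, 5), (732, 14), (733, 12), (744, 21), (746, 13), (756, 19), (786, 19), (801, 16), (857, 20), (862, 23), (876, 20), (878, 25), (888, 12), (889, 24), (900, 16), (954, 31), (957, 28), (977, 17), (994, 17), (1020, 18), (1032, 17), (1044, 64), (1045, 36), (1046, 37), (1077, 21), (1086, 21), (1126, 29), (1133, 29)]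
def listAWit : List (Nat × Nat) := [(1, 0), (156, 2), (157, 26), (312, 0), (313, 14), (468, 52), (469, 38), (576, 0), (577, 2), (732, 14), (733, 12), (888, 12), (889, 24), (1044, 64), (1045, 36)]
def threeWit : List (Nat × Nat) := [(52, 0), (104, 0), (116, 15), (128, 20), (140, 12), (208, 260), (220, 165), (232, 166), (248, 14), (260, 158), (272, 167), (284, 161), (352, 164), (364, 156), (376, 160), (392, 21), (404, 166), (416, 260), (428, 165), (496, 167), (508, 161), (520, 158), (536, 13), (548, 160), (560, 164), (572, 156), (640, 20), (652, 12), (664, 15), (772, 21), (916, 13), (1060, 14)]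
def actY : List (Nat × Nat) := [(0, 0), (576, 1), (1, 889), (577, 888), (468, 469), (1044, 468), (469, 732), (1045, 733), (312, 157), (888, 156), (313, 1044), (889, 1045), (156, 312), (732, 313), (157, 577), (733, 576)]
def listA : List Nat := [0, 1, 156, 157, 312, 313, 468, 469, 576, 577, 732, 733, 888, 889, 1044, 1045]
def listA2 : List Nat := [0, 2, 168, 170, 300, 302, 468, 470, 576, 578, 744, 746, 876, 878, 1044, 1046]
def listP : List Nat := [0, 48, 4, 96, 52, 8, 100, 56, 104]
def centP : List Nat := [0, 4, 8, 48, 52, 56, 96, 100, 104, 576, 580, 584, 624, 628, 632, 672, 676, 680]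

/-- A word in the generators of the Sylow two-subgroup. -/
def wordT (i : Nat) : List Nat :=
  List.replicate (i / 48 / 6) 288 ++ List.replicate (i / 48 / 3 % 2) (cj 48 288) ++
    List.replicate (i / 4 % 12 / 6) (cj 1 288) ++
    List.replicate (i / 4 % 12 / 3 % 2) (cj 1 (cj 48 288)) ++
    (if i % 4 = 0 then [] else if i % 4 = 1 then [1] else if i % 4 = 2 then [2] else [1, 2])

/-- Whether the node normalises the subgroup of order sixteen. -/
def normA (i : Nat) : Bool := genA.all fun g => listA.contains (cj i g)

theorem word_ok : allB (fun i => run (word i) 0 == i) = true := by decide +kernel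

theorem invs_ok : allB (fun i => mul i i != 0 || invs.contains i) = true := by decide +kernel

/-- A list closed under right multiplication by the generators, each of its nodes a product of
generators. -/
def setOk (gens L : List Nat) (w : Nat → List Nat) : Bool :=
  L.contains 0 && gens.all (fun x => decide (x < 1152)) &&
    L.all (fun i => decide (i < 1152) && gens.all (fun x => L.contains (mul i x)) &&
      (pr (w i) == i) && (w i).all (gens.contains ·)) && decide L.Nodup

/-- A word for a node in a small subgroup. -/
def wordIn (gens : List Nat) (i : Nat) : List Nat :=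
  (gens.sublists.find? fun s => pr s == i).getD []

theorem setA_ok : setOk genA listA (wordIn genA) = true := by decide +kernel

theorem setA2_ok : setOk genA2 listA2 (wordIn genA2) = true := by decide +kernel

theorem setP_ok : setOk genP listP (wordIn genP) = true := by decide +kernel

theorem setT_ok : setOk genT listT wordT = true := by decide +kernel

theorem cards_ok : listA.length = 16 ∧ listA2.length = 16 ∧ listP.length = 9 ∧
    listT.length = 128 := by decide +kernel

theorem abelA_ok : (listA.all fun i => (mul i i == 0) && listA.all fun j => com i j) = true := by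
  decide +kernel

theorem abelP_ok : (listP.all fun i => (mul (mul i i) i == 0) && listP.all fun j => com i j) =
    true := by decide +kernel

theorem centA_ok : allB (fun i =>
    !(com i 468 && com i 1 && com i 312) || listA.contains i) = true := by decide +kernel

theorem normT_ok : (genT.all fun t =>
    (listA.all fun i => listA.contains (cj t i)) && (listA2.all fun i => listA2.contains (cj t i))) =
    true := by decide +kernel

theorem centT_ok : (listT.all fun i =>
    !(genT.all fun t => com i t) || i == 0 || i == 576) = true := by decide +kernel

theorem noP_ok : allB (fun i => !(listA2.contains (cj i 1))) = true := by decide +kernel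

theorem classA_ok : (listA.all fun t =>
    t == 0 || (let c := (listAWit.lookup t).getD 0
      decide (c < 1152) && [576, 312, 1].contains (cj c t))) = true := by decide +kernel

theorem classInv_ok : (invs.all fun t =>
    t == 0 || t == 576 || (let c := (invWit.lookup t).getD 0
      decide (c < 1152) && [312, 1, 2].contains (cj c t))) = true := by decide +kernel

theorem sixteen_conj_ok : (sixteen.all fun (E, c, b) =>
    decide (c < 1152) && E.all fun i => (if b then listA2 else listA).contains (cj c i)) = true := by
  decide +kernel

theorem commInvs_ok : ([312, 1, 2].all fun r => commInvs.any fun (r', L) =>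
    r' == r && invs.all fun t => !(com r t) || L.contains t) = true := by decide +kernel

/-- The eight products of the centre, `r` and `t`. -/
def eight (r t : Nat) : List Nat :=
  [0, 576, r, mul 576 r, t, mul 576 t, mul r t, mul (mul 576 r) t]

/-- Any four commuting independent involutions `z`, `r`, `t`, `s` lie in one of the six. -/
theorem quad_ok : (commInvs.all fun (r, L) => L.all fun t =>
    [0, 576, r, mul 576 r].contains t || L.all fun s =>
      !(com t s) || (eight r t).contains s ||
        (decide (eight r t ++ [s]).Nodup &&
          sixteen.any fun (E, _, _) => E.contains r && E.contains t && E.contains s)) = true := by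
  decide +kernel

theorem three_ok : allB (fun i =>
    !(mul (mul i i) i == 0 && normA i) || i == 0 ||
      (let c := (threeWit.lookup i).getD 0
       decide (c < 1152) && [52, 104].contains (cj c i))) = true := by decide +kernel

theorem centP_ok : allB (fun i => !(com i 48 && com i 4) || centP.contains i) = true := by
  decide +kernel

theorem centP_odd_ok : (centP.all fun i =>
    (listP.contains i || !(nine i)) &&
      (listP.contains i || listP.contains (mul 576 i))) = true := by decide +kernel

theorem centD_ok : allB (fun i => !(com i 52 && nine i) || (listP.contains i &&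
    (!(normA i) || [0, 52, 104].contains i))) = true := by decide +kernel

theorem centB_ok : (invs.all fun t => !(com t 48) || t == 0 || t == 576) = true := by
  decide +kernel

theorem normP_ok : allB (fun i => !(listP.contains (cj i 48) && listP.contains (cj i 4)) ||
    ([52, 104].contains (cj i 52) && [56, 100].contains (cj i 56))) = true := by decide +kernel

theorem commA_ok : (listA.all fun u => [0, 156, 312, 468].contains (mul (cj 52 u) u)) = true := by
  decide +kernel

theorem fixD_ok : (listA.all fun u => !(com u 52) || [0, 576, 1, 577].contains u) = true := by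
  decide +kernel

/-- The action of `x` on the generators of the subgroup of order sixteen. -/
def actX (g : Nat) : Nat := if g = 576 then 1 else if g = 1 then 577 else g

/-- The action of `x a m` on the subgroup of order sixteen. -/
def actFive (u : Nat) : Nat := (actY.lookup u).getD 0

theorem actFive_ok : (genA.sublists.all fun s => genA.sublists.any fun s' =>
    cj 290 (pr s) == pr s' && actFive (pr s) == pr (s'.map actX)) = true := by decide +kernel

theorem five_ok : (listA.all fun u => listA.contains (actFive u) &&
    actFive (actFive (actFive (actFive (actFive u)))) == u &&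
    (actFive u != u || u == 0)) = true := by decide +kernel

end Cfsg.Agent.U43Type38Nodes33
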