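import Cfsg.Agent.Lib.U43Type38Api

/-!
The pairing between the two quaternion groups at commuting conjugate involutions: the cosets of
the four group fixing an elementary abelian subgroup of order eight consist of involutions.
-/

set_option autoImplicit false

namespace Cfsg.Agent.U43Type38

open Cfsg.Agent.U43Type38SL Cfsg.Agent.SL23Model77

universe u

variable {G : Type u} [Group G] {z y : G} {φ ψ : P →* G}

/-- The standard representatives. -/
def vF : Fin 3 → P := ![v0, v1, v2]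

theorem vF_facts : ∀ i : Fin 3, QP (vF i) ∧ Com (vF i) y0 := by decide +kernel

theorem qp_facts : QP v0 ∧ QP v1 ∧ QP v2 ∧ QP y0 ∧ QP zz ∧ QP q1 ∧ (∀ e ∈ eL, QP e) ∧
    ∀ t, QP (gL t) := by decide +kernel

theorem pattern_fact : ∀ f : Fin 3 → Bool × Bool, Function.Injective f →
    (∀ i, f i ≠ (true, true)) →
    (∃ i, f i = (true, false)) ∧ (∃ i, f i = (false, true)) ∧ ∃ i, f i = (false, false) := by
  decide

theorem gcm_mul_left (a b r : G) : gcm (a * b) r = a * gcm b r * a⁻¹ * gcm a r := by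
  simp only [gcm]; group

theorem gcm_mul_right (a r s : G) : gcm a (r * s) = gcm a r * (r * gcm a s * r⁻¹) := by
  simp only [gcm]; group

theorem gcm_inv (a b : G) : (gcm a b)⁻¹ = gcm b a := by
  simp only [gcm]; group

theorem conj_of_commute {a e : G} (h : Commute a e) : a * e * a⁻¹ = e := by
  rw [h.eq, mul_inv_cancel_right]

/-- The elements of the quaternion part at `z` commuting with `y`. -/
def inC (φ : P →* G) (y v : G) : Prop := v ∈ qSet φ ∧ Commute v y

/-- The trivial component. -/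
def Zc (z e : G) : Prop := e = 1 ∨ e = z

/-- Sixteen elements of the first quaternion part. -/
def cq : Fin 4 → Fin 4 → P := fun a b => ![1, v0, v1, v2] a * ![1, zz, y0, y0 * zz] b

theorem cq_facts : (∀ a b, QP (cq a b) ∧ Com (cq a b) y0) ∧
    ∀ a b a' b', Eq' (cq a b) (cq a' b') → a = a' ∧ b = b' := by decide +kernel

/-- Eighteen conjugating elements. -/
def cL (i : Fin 3 × Fin 3 × Fin 2) : P := (u ^ i.1.val, u ^ i.2.1.val) * (w1 ^ i.2.2.val, 1)

theorem cL_inj : ∀ i j, Eq' (cL i * y0 * (cL i)⁻¹) (cL j * y0 * (cL j)⁻¹) → i = j := by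
  decide +kernel

namespace World

variable (W : World z y φ ψ)
include W

theorem z_commute_y : Commute z y := by
  rw [← W.φy]; exact (W.sφ.commute_z y0).symm

theorem z_ne_y : z ≠ y := by
  intro h
  have h' : φ zz = φ y0 := by rw [W.sφ.φz, W.φy, h]
  exact absurd (W.sφ.eq_iff.1 h') (by decide +kernel)

/-- The four group. -/
def InE (_W : World z y φ ψ) (e : G) : Prop := e = 1 ∨ e = z ∨ e = y ∨ e = z * y

theorem eL_map {e : P} (he : e ∈ eL) : W.InE (φ e) := by
  simp only [eL, List.mem_cons, List.not_mem_nil, or_false] at he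
  rcases he with rfl | rfl | rfl | rfl
  · exact Or.inl (map_one φ)
  · exact Or.inr (Or.inl W.sφ.φz)
  · exact Or.inr (Or.inr (Or.inl W.φy))
  · refine Or.inr (Or.inr (Or.inr ?_))
    rw [map_mul, W.φy, W.sφ.φz, W.z_commute_y.eq]

theorem inE_mem {e : G} (he : W.InE e) : e ∈ qSub φ ∧ e ∈ qSub ψ := by
  have a1 : z ∈ qSub φ := W.sφ.z_mem
  have a2 : y ∈ qSub φ := ⟨y0, qp_facts.2.2.2.1, W.φy⟩
  have b2 : y ∈ qSub ψ := W.sψ.z_mem
  have b1 : z ∈ qSub ψ := ⟨y0, qp_facts.2.2.2.1, W.ψy⟩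
  rcases he with rfl | rfl | rfl | rfl
  exacts [⟨one_mem _, one_mem _⟩, ⟨a1, b1⟩, ⟨a2, b2⟩, ⟨mul_mem a1 a2, mul_mem b1 b2⟩]

theorem inE_of_mem {e : G} (h1 : e ∈ qSub φ) (h2 : e ∈ qSub ψ) : W.InE e := W.meet e h1 h2

theorem commute_inE {v e : G} (hz : Commute v z) (hy : Commute v y) (he : W.InE e) :
    Commute v e := by
  rcases he with rfl | rfl | rfl | rfl
  exacts [Commute.one_right _, hz, hy, hz.mul_right hy]

theorem inC_commute {v : G} (hv : inC φ y v) : Commute v z := by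
  obtain ⟨⟨q, -, rfl⟩, -⟩ := hv
  exact W.sφ.commute_z q

theorem inC_inE {v e : G} (hv : inC φ y v) (he : W.InE e) : Commute v e :=
  W.commute_inE (W.inC_commute hv) hv.2 he

theorem inC_of (q : P) (hq : QP q) (hc : Com q y0) : inC φ y (φ q) :=
  ⟨⟨q, hq, rfl⟩, by rw [← W.φy]; exact W.sφ.commute_iff.2 hc⟩

theorem inC_vF (i : Fin 3) : inC φ y (φ (vF i)) := W.inC_of _ (vF_facts i).1 (vF_facts i).2

theorem inC_mul {a b : G} (ha : inC φ y a) (hb : inC φ y b) : inC φ y (a * b) :=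
  ⟨(qSub φ).mul_mem ha.1 hb.1, ha.2.mul_left hb.2⟩

theorem inC_inv {a : G} (ha : inC φ y a) : inC φ y a⁻¹ :=
  ⟨(qSub φ).inv_mem ha.1, ha.2.inv_left⟩

theorem gcm_mem {v r : G} (hv : inC φ y v) (hr : inC ψ z r) : W.InE (gcm v r) := by
  refine W.inE_of_mem ?_ ?_
  · obtain ⟨q, hq, e⟩ := hv.1
    obtain ⟨q', hq', e'⟩ := W.sφ.normQ r (Subgroup.mem_centralizer_singleton_iff.2 hr.2)
      q⁻¹ (qpSub.inv_mem hq)
    have : gcm v r = v * φ q' := by rw [← e', map_inv, e, gcm]; group
    rw [this]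
    exact mul_mem hv.1 ⟨q', hq', rfl⟩
  · obtain ⟨q, hq, e⟩ := hr.1
    obtain ⟨q', hq', e'⟩ := W.sψ.normQ v (Subgroup.mem_centralizer_singleton_iff.2 hv.2) q hq
    have : gcm v r = ψ q' * r⁻¹ := by rw [← e', e, gcm]
    rw [this]
    exact mul_mem ⟨q', hq', rfl⟩ (inv_mem hr.1)

theorem gcm_comm {v r : G} (hv : inC φ y v) (hr : inC ψ z r) : gcm v r = gcm r v := by
  rw [← gcm_inv v r]
  have hsq : gcm v r * gcm v r = 1 := by
    rcases W.gcm_mem hv hr with h | h | h | h <;> rw [h]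
    · rw [one_mul]
    · exact W.sφ.zz_sq
    · exact W.sψ.zz_sq
    · rw [mul_assoc, ← mul_assoc y z y, ← W.z_commute_y.eq, mul_assoc z y y, W.sψ.zz_sq, mul_one, W.sφ.zz_sq]
  exact (inv_eq_of_mul_eq_one_left hsq).symm

theorem gcm_mulL {a b r : G} (ha : inC φ y a) (hb : inC φ y b) (hr : inC ψ z r) :
    gcm (a * b) r = gcm b r * gcm a r := by
  rw [gcm_mul_left, conj_of_commute (W.inC_inE ha (W.gcm_mem hb hr))]

theorem gcm_mulR {a r s : G} (ha : inC φ y a) (hr : inC ψ z r) (hs : inC ψ z s) :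
    gcm a (r * s) = gcm a r * gcm a s := by
  rw [gcm_mul_right, conj_of_commute (W.symm.inC_inE hr ?_)]
  rcases W.gcm_mem ha hs with h | h | h | h
  exacts [Or.inl h, Or.inr (Or.inr (Or.inl h)), Or.inr (Or.inl h),
    Or.inr (Or.inr (Or.inr (h.trans W.z_commute_y.eq)))]

theorem gcm_inE {a r e : G} (hr : inC ψ z r) (ha : inC φ y a) (he : W.InE e) :
    gcm (a * e) r = gcm a r := by
  rw [gcm_mul_left, show gcm e r = 1 from gcm_eq_one_iff.2
    (W.commute_inE hr.2 (W.symm.inC_commute hr) he).symm]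
  simp

theorem zc_mul {a b : G} (ha : W.InE a) (hb : W.InE b) :
    (Zc z (a * b) ↔ (Zc z a ↔ Zc z b)) := by
  have hy : ¬ Zc z y := by
    rintro (h | h)
    · exact W.sψ.z_ne h
    · exact W.z_ne_y h.symm
  have hzy : ¬ Zc z (z * y) := by
    rintro (h | h)
    · exact W.z_ne_y (by rw [← inv_eq_of_mul_eq_one_right h, W.sφ.z_inv])
    · exact W.sψ.z_ne (mul_eq_left.1 h)
  have z1 : Zc z (1 : G) := Or.inl rfl
  have zz' : Zc z z := Or.inr rfl
  have s1 : z * (z * y) = y := by rw [← mul_assoc, W.sφ.zz_sq, one_mul]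
  have s2 : y * z = z * y := W.z_commute_y.symm.eq
  have s3 : y * (z * y) = z := by rw [← mul_assoc, s2, mul_assoc, W.sψ.zz_sq, mul_one]
  have s4 : z * y * z = y := by rw [mul_assoc, s2, s1]
  have s5 : z * y * y = z := by rw [mul_assoc, W.sψ.zz_sq, mul_one]
  have s6 : z * y * (z * y) = 1 := by rw [mul_assoc, s3, W.sφ.zz_sq]
  rcases ha with rfl | rfl | rfl | rfl <;> rcases hb with rfl | rfl | rfl | rfl <;>
    simp [z1, zz', hy, hzy, s1, s2, s3, s4, s5, s6, W.sφ.zz_sq, W.sψ.zz_sq]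

/-- The cases of an element of the quaternion part commuting with `y`. -/
theorem cases_inC {v : G} (hv : inC φ y v) :
    W.InE v ∨ ∃ i e, W.InE e ∧ v = φ (vF i) * e := by
  obtain ⟨⟨q, hq, rfl⟩, hy⟩ := hv
  obtain ⟨t, ht, e, he, heq⟩ := cq_cases q hq (W.sφ.commute_iff.1 (by rw [W.φy]; exact hy))
  have h := W.sφ.eq_iff.2 heq
  rw [map_mul] at h
  simp only [vL, List.mem_cons, List.not_mem_nil, or_false] at ht
  rcases ht with rfl | rfl | rfl | rfl
  · left; rw [h, map_one, one_mul]; exact W.eL_map he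
  · exact Or.inr ⟨0, φ e, W.eL_map he, h⟩
  · exact Or.inr ⟨1, φ e, W.eL_map he, h⟩
  · exact Or.inr ⟨2, φ e, W.eL_map he, h⟩

theorem phi_v_not_inE (i : Fin 3) : ¬ W.InE (φ (vF i)) := by
  intro h
  have key : ∀ i : Fin 3, ∀ e ∈ eL, ¬ Eq' (vF i) e := by decide +kernel
  rcases h with h | h | h | h
  · exact key i 1 (by simp [eL]) (W.sφ.eq_iff.1 (by rw [h, map_one]))
  · exact key i zz (by simp [eL]) (W.sφ.eq_iff.1 (by rw [h, W.sφ.φz]))
  · exact key i y0 (by simp [eL]) (W.sφ.eq_iff.1 (by rw [h, W.φy]))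
  · exact key i (y0 * zz) (by simp [eL]) (W.sφ.eq_iff.1 (by
      rw [h, map_mul, W.φy, W.sφ.φz, W.z_commute_y.eq]))

theorem phi_v_ne {i j : Fin 3} (h : i ≠ j) : ¬ W.InE ((φ (vF j))⁻¹ * φ (vF i)) := by
  intro he
  have key : ∀ i j : Fin 3, i ≠ j → ∀ e ∈ eL, ¬ Eq' ((vF j)⁻¹ * vF i) e := by decide +kernel
  rw [← map_inv, ← map_mul] at he
  rcases he with he | he | he | he
  · exact key i j h 1 (by simp [eL]) (W.sφ.eq_iff.1 (by rw [he, map_one]))
  · exact key i j h zz (by simp [eL]) (W.sφ.eq_iff.1 (by rw [he, W.sφ.φz]))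
  · exact key i j h y0 (by simp [eL]) (W.sφ.eq_iff.1 (by rw [he, W.φy]))
  · exact key i j h (y0 * zz) (by simp [eL]) (W.sφ.eq_iff.1 (by
      rw [he, map_mul, W.φy, W.sφ.φz, W.z_commute_y.eq]))

/-- Triviality on the elementary abelian part forces membership of the four group. -/
theorem inE_of_zc {r : G} (hr : inC ψ z r) (h1 : Zc z (gcm (φ v1) r))
    (h2 : Zc z (gcm (φ v2) r)) : W.InE r := by
  obtain ⟨f1, f2, f3, f4, f5, f6, -, fg⟩ := qp_facts
  have hrM : r ∈ Subgroup.centralizer ({z} : Set G) :=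
    Subgroup.mem_centralizer_singleton_iff.2 hr.2
  have hcz : ∀ q : P, Commute (φ q) z := W.sφ.commute_z
  -- conjugation by `r` fixes the commutator with an element fixed modulo the centre
  obtain ⟨qa, hqa, ea⟩ := W.sφ.normQ r hrM q1 f6
  have hfix : ∀ v : P, QP v → Zc z (gcm (φ v) r) → Eq' (cm qa v) (cm q1 v) := by
    intro v hv hz
    set c := (φ v)⁻¹ * (gcm (φ v) r)⁻¹ * φ v with hcdef
    have hc : r * φ v * r⁻¹ = φ v * c := by rw [hcdef, gcm]; group
    have hcz' : Commute (φ qa) c ∧ Zc z c := by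
      have : c = (gcm (φ v) r)⁻¹ := by
        rw [hcdef]
        rcases hz with h | h <;> rw [h]
        · simp
        · rw [W.sφ.z_inv, mul_assoc, ← (hcz v).eq, inv_mul_cancel_left]
      rcases hz with h | h <;> rw [this, h]
      · rw [inv_one]; exact ⟨Commute.one_right _, Or.inl rfl⟩
      · rw [W.sφ.z_inv]; exact ⟨hcz qa, Or.inr rfl⟩
    have hQ : ∀ v : P, QP v → Eq' (cm q1 v) 1 ∨ Eq' (cm q1 v) zz := by decide +kernel
    have e2 : gcm (φ q1) (φ v) = r * gcm (φ q1) (φ v) * r⁻¹ := by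
      refine (conj_of_commute ?_).symm
      rw [← map_gcm]
      rcases hQ v hv with h | h
      · rw [W.sφ.eq_iff.2 h, map_one]; exact Commute.one_right _
      · rw [W.sφ.eq_iff.2 h, W.sφ.φz]; exact hr.2
    refine W.sφ.eq_iff.1 ?_
    rw [map_gcm, map_gcm, e2]
    have e3 : r * gcm (φ q1) (φ v) * r⁻¹ = gcm (r * φ q1 * r⁻¹) (r * φ v * r⁻¹) := by
      simp only [gcm]; group
    have e4 : c * ((φ qa)⁻¹ * c⁻¹) = (φ qa)⁻¹ := by
      rw [hcz'.1.inv_inv.eq, mul_inv_cancel_left]
    rw [e3, hc, ea]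
    calc gcm (φ qa) (φ v) = φ qa * φ v * (φ qa)⁻¹ * (φ v)⁻¹ := rfl
      _ = φ qa * φ v * (c * ((φ qa)⁻¹ * c⁻¹)) * (φ v)⁻¹ := by rw [e4]
      _ = gcm (φ qa) (φ v * c) := by simp only [gcm]; group
  have hsq : Eq' (qa * qa) (q1 * q1) := by
    refine W.sφ.eq_iff.1 ?_
    rw [map_mul, map_mul, ← ea]
    have e : Eq' (q1 * q1) zz := by decide +kernel
    have e' : φ q1 * φ q1 = z := by rw [← map_mul, W.sφ.eq_iff.2 e, W.sφ.φz]
    rw [show r * φ q1 * r⁻¹ * (r * φ q1 * r⁻¹) = r * (φ q1 * φ q1) * r⁻¹ by group, e',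
      conj_of_commute hr.2]
  have hy0 : Zc z (gcm (φ y0) r) := by
    left; rw [W.φy, gcm_eq_one_iff]; exact (W.symm.inC_commute hr).symm
  have hq1 : Zc z (gcm (φ q1) r) := by
    rcases inj_fact qa hqa hsq (hfix y0 f4 hy0) (hfix v1 f2 h1) (hfix v2 f3 h2) with h | h
    · left
      rw [gcm_eq_one_iff]
      have := ea.trans (W.sφ.eq_iff.2 h)
      exact (mul_inv_eq_iff_eq_mul.1 this).symm
    · right
      have h' := ea.trans (W.sφ.eq_iff.2 h)
      rw [map_mul, W.sφ.φz] at h'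
      rw [gcm, show φ q1 * r * (φ q1)⁻¹ * r⁻¹ = φ q1 * (r * φ q1 * r⁻¹)⁻¹ by group, h',
        mul_inv_rev, W.sφ.z_inv, ← (hcz q1).inv_left.eq, mul_inv_cancel_left]
  -- hence `r` centralises the quaternion part modulo the centre
  have hv0 : Zc z (gcm (φ v0) r) := by
    obtain ⟨-, -, -, e, he, he'⟩ := table_facts
    rw [W.sφ.eq_iff.2 he', map_mul, map_mul]
    show Zc z (gcm (φ (vF 1) * φ (vF 2) * φ e) r)
    rw [W.gcm_inE hr (W.inC_mul (W.inC_vF 1) (W.inC_vF 2)) (W.eL_map he), W.gcm_mulL (W.inC_vF 1) (W.inC_vF 2) hr,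
      W.zc_mul (W.gcm_mem (W.inC_vF 2) hr) (W.gcm_mem (W.inC_vF 1) hr)]
    exact iff_of_true h2 h1
  -- the set of elements fixed modulo the centre is a subgroup
  have hmul : ∀ a b : P, Zc z (gcm (φ a) r) → Zc z (gcm (φ b) r) → Zc z (gcm (φ (a * b)) r) := by
    intro a b ha hb
    rw [map_mul, gcm_mul_left]
    have hab : φ a * gcm (φ b) r * (φ a)⁻¹ = gcm (φ b) r := by
      refine conj_of_commute ?_
      rcases hb with h | h <;> rw [h]
      exacts [Commute.one_right _, hcz a]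
    rw [hab]
    rcases ha with h | h <;> rcases hb with h' | h' <;> rw [h, h']
    · left; simp
    · right; simp
    · right; simp
    · left; exact W.sφ.zz_sq
  have h1P : Zc z (gcm (φ 1) r) := Or.inl (by simp [gcm])
  have hpow : ∀ (a : P) (n : ℕ), Zc z (gcm (φ a) r) → Zc z (gcm (φ (a ^ n)) r) := by
    intro a n ha
    induction n with
    | zero => rw [pow_zero]; exact h1P
    | succ n ih => rw [pow_succ]; exact hmul _ _ ih ha
  have hg : ∀ t, Zc z (gcm (φ (gL t)) r) := by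
    have g2 : ((1, w0) : P) = (w0, 1) ^ 3 * y0 := by decide +kernel
    have g3 : ((1, w1) : P) = q1 ^ 3 * v1 := by decide +kernel
    intro t
    fin_cases t
    · exact hv0
    · exact hq1
    · show Zc z (gcm (φ (1, w0)) r)
      rw [g2]; exact hmul _ _ (hpow _ _ hv0) hy0
    · show Zc z (gcm (φ (1, w1)) r)
      rw [g3]; exact hmul _ _ (hpow _ _ hq1) h1
  classical
  obtain ⟨w, hw, hwt⟩ := inner_fact fun t => decide (gcm r (φ (gL t)) = z)
  have hr' : ∀ t, Commute ((φ w)⁻¹ * r) (φ (gL t)) := by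
    intro t
    have e := W.sφ.eq_iff.2 (hwt t)
    have e' : gcm (φ w) (φ (gL t)) = gcm r (φ (gL t)) := by
      rw [← map_gcm, e]
      rcases hg t with h | h
      · have : gcm r (φ (gL t)) = 1 := by rw [← gcm_inv, h, inv_one]
        rw [this]; simp [this, W.sφ.z_ne.symm]
      · have : gcm r (φ (gL t)) = z := by rw [← gcm_inv, h, W.sφ.z_inv]
        rw [this]; simp [this, W.sφ.φz]
    simp only [gcm, mul_left_inj] at e'
    refine mul_inv_eq_iff_eq_mul.1 ?_
    calc (φ w)⁻¹ * r * φ (gL t) * ((φ w)⁻¹ * r)⁻¹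
        = (φ w)⁻¹ * (r * φ (gL t) * r⁻¹) * φ w := by group
      _ = φ (gL t) := by rw [← e']; group
  have hall : ∀ x : P, QP x → Commute ((φ w)⁻¹ * r) (φ x) := by
    intro x hx
    obtain ⟨a, b, c, d, rfl⟩ := gen_fact x hx
    simp only [map_mul, map_pow]
    exact ((((hr' 0).pow_right _).mul_right ((hr' 1).pow_right _)).mul_right
      ((hr' 2).pow_right _)).mul_right ((hr' 3).pow_right _)
  have hmem : r ∈ qSub φ := by
    have hwM : (φ w)⁻¹ * r ∈ Subgroup.centralizer ({z} : Set G) :=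
      mul_mem (inv_mem (W.sφ.le w)) hrM
    rcases W.sφ.cen _ hwM hall with h | h
    · exact ⟨w, hw, inv_mul_eq_one.1 h⟩
    · rw [inv_mul_eq_iff_eq_mul.1 h]
      exact mul_mem ⟨w, hw, rfl⟩ W.sφ.z_mem
  exact W.inE_of_mem hmem hr.1

theorem inE_symm {e : G} : W.symm.InE e ↔ W.InE e := by
  simp only [InE, W.z_commute_y.eq]; tauto

theorem inC_one : inC φ y (1 : G) := ⟨(qSub φ).one_mem, Commute.one_left _⟩

theorem gcm_self_inv {v r : G} (hv : inC φ y v) (hr : inC ψ z r) : gcm v r * gcm v r = 1 := by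
  conv_lhs => arg 2; rw [W.gcm_comm hv hr, ← gcm_inv v r]
  exact mul_inv_cancel _

theorem gcm_invR {a r : G} (ha : inC φ y a) (hr : inC ψ z r) : gcm a r⁻¹ = gcm a r := by
  have h : gcm a (r⁻¹ * r) = gcm a r⁻¹ * gcm a r := W.gcm_mulR ha (W.symm.inC_inv hr) hr
  rw [inv_mul_cancel, show gcm a (1 : G) = 1 from gcm_eq_one_iff.2 (Commute.one_right _)] at h
  have h2 : (gcm a r)⁻¹ = gcm a r := inv_eq_of_mul_eq_one_left (W.gcm_self_inv ha hr)
  rw [← h2]; exact eq_inv_of_mul_eq_one_left h.symm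

open Classical in
/-- The trivial components of a representative. -/
noncomputable def pat (_W : World z y φ ψ) (i : Fin 3) : Bool × Bool :=
  (decide (Zc z (gcm (φ v1) (ψ (vF i)))), decide (Zc z (gcm (φ v2) (ψ (vF i)))))

theorem pat_ne (i : Fin 3) : W.pat i ≠ (true, true) := by
  intro h
  simp only [pat, Prod.mk.injEq, decide_eq_true_eq] at h
  exact W.symm.phi_v_not_inE i (W.inE_symm.2 (W.inE_of_zc (W.symm.inC_vF i) h.1 h.2))

theorem pat_inj : Function.Injective W.pat := by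
  intro i j h
  by_contra hne
  classical
  simp only [pat, Prod.mk.injEq, decide_eq_decide] at h
  have hi := W.symm.inC_vF i
  have hj := W.symm.inC_vF j
  refine W.symm.phi_v_ne hne (W.inE_symm.2 (W.inE_of_zc
    (W.symm.inC_mul (W.symm.inC_inv hj) hi) ?_ ?_))
  · have hv : inC φ y (φ v1) := W.inC_vF 1
    rw [W.gcm_mulR hv (W.symm.inC_inv hj) hi, W.gcm_invR hv hj,
      W.zc_mul (W.gcm_mem hv hj) (W.gcm_mem hv hi)]
    exact h.1.symm
  · have hv : inC φ y (φ v2) := W.inC_vF 2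
    rw [W.gcm_mulR hv (W.symm.inC_inv hj) hi, W.gcm_invR hv hj,
      W.zc_mul (W.gcm_mem hv hj) (W.gcm_mem hv hi)]
    exact h.2.symm

/-- A trivial component determines the representative. -/
theorem unique_zc {i : Fin 3} (hi : i = 1 ∨ i = 2) {j k : Fin 3}
    (hj : Zc z (gcm (φ (vF i)) (ψ (vF j)))) (hk : Zc z (gcm (φ (vF i)) (ψ (vF k)))) : j = k := by
  classical
  have aux : ∀ j, Zc z (gcm (φ (vF i)) (ψ (vF j))) →
      W.pat j = if i = 1 then (true, false) else (false, true) := by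
    intro j hj
    have hne := W.pat_ne j
    rcases hi with rfl | rfl
    · rw [if_pos rfl]
      have : decide (Zc z (gcm (φ v1) (ψ (vF j)))) = true := decide_eq_true hj
      simp only [pat, this, ne_eq, Prod.mk.injEq, true_and] at hne ⊢
      simpa using hne
    · rw [if_neg (by decide)]
      have : decide (Zc z (gcm (φ v2) (ψ (vF j)))) = true := decide_eq_true hj
      simp only [pat, this, ne_eq, Prod.mk.injEq, and_true] at hne ⊢
      simpa using hne
  exact W.pat_inj ((aux j hj).trans (aux k hk).symm)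

/-- Representatives of the cosets of the four group in the quaternion part at `y`. -/
noncomputable def rep (_W : World z y φ ψ) : Fin 4 → G :=
  ![1, ψ (vF 0), ψ (vF 1), ψ (vF 2)]

theorem rep_inC (d : Fin 4) : inC ψ z (W.rep d) := by
  fin_cases d
  exacts [W.symm.inC_one, W.symm.inC_vF 0, W.symm.inC_vF 1, W.symm.inC_vF 2]

theorem rep_cases (d : Fin 4) : W.rep d = 1 ∨ ∃ j, W.rep d = ψ (vF j) := by
  fin_cases d
  exacts [Or.inl rfl, Or.inr ⟨0, rfl⟩, Or.inr ⟨1, rfl⟩, Or.inr ⟨2, rfl⟩]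

theorem rep_inj {d d' : Fin 4} (h : W.InE ((W.rep d')⁻¹ * W.rep d)) : d = d' := by
  have h' : ∀ j, ¬ W.InE (ψ (vF j)) := fun j hj => W.symm.phi_v_not_inE j (W.inE_symm.2 hj)
  have h'' : ∀ j, ¬ W.InE ((ψ (vF j))⁻¹) := by
    intro j hj
    refine h' j ?_
    have := inv_mem (W.inE_mem hj).1
    have h2 := inv_mem (W.inE_mem hj).2
    rw [inv_inv] at this h2
    exact W.inE_of_mem this h2
  have hne : ∀ i j, i ≠ j → ¬ W.InE ((ψ (vF j))⁻¹ * ψ (vF i)) := fun i j hij hh =>
    W.symm.phi_v_ne hij (W.inE_symm.2 hh)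
  fin_cases d <;> fin_cases d' <;> first
    | rfl
    | (simp [rep, h', h''] at h; done)
    | (exact absurd h (hne _ _ (by decide)))

/-- Every element commuting with both involutions is a product from the two quaternion parts. -/
theorem decomp [Finite G] {t : G} (htz : Commute t z) (hty : Commute t y) :
    ∃ q d, inC φ y q ∧ t = q * W.rep d := by
  set M := Subgroup.centralizer ({z} : Set G)
  set T := Subgroup.centralizer ({z} : Set G) ⊓ Subgroup.centralizer ({y} : Set G) with hT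
  have hcardT : Nat.card T ≤ 64 := by
    have hle : T ≤ M := inf_le_left
    let f : Fin 3 × Fin 3 × Fin 2 → M ⧸ T.subgroupOf M :=
      fun i => QuotientGroup.mk ⟨φ (cL i), W.sφ.le _⟩
    have hf : Function.Injective f := by
      intro i j hij
      rw [QuotientGroup.eq, Subgroup.mem_subgroupOf] at hij
      refine cL_inj i j (W.sφ.eq_iff.1 ?_)
      have hc : Commute ((φ (cL i))⁻¹ * φ (cL j)) y :=
        Subgroup.mem_centralizer_singleton_iff.1 hij.2
      simp only [map_mul, map_inv, W.φy]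
      calc φ (cL i) * y * (φ (cL i))⁻¹
          = φ (cL i) * (((φ (cL i))⁻¹ * φ (cL j)) * y *
              ((φ (cL i))⁻¹ * φ (cL j))⁻¹) * (φ (cL i))⁻¹ := by
            rw [hc.eq, mul_inv_cancel_right]
        _ = _ := by group
    have h1 : 18 ≤ Nat.card (M ⧸ T.subgroupOf M) := by
      simpa using Nat.card_le_card_of_injective f hf
    have h2 := Subgroup.card_eq_card_quotient_mul_card_subgroup (T.subgroupOf M)
    rw [Nat.card_congr (Subgroup.subgroupOfEquivOfLe hle).toEquiv, W.sφ.card] at h2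
    have : 18 * Nat.card T ≤ 1152 := by
      have := Nat.mul_le_mul_right (Nat.card T) h1
      omega
    omega
  have hin : ∀ x : G, inC φ y x → x ∈ T := fun x hx =>
    ⟨Subgroup.mem_centralizer_singleton_iff.2 (W.inC_commute hx),
      Subgroup.mem_centralizer_singleton_iff.2 hx.2⟩
  have hin' : ∀ x : G, inC ψ z x → x ∈ T := fun x hx =>
    ⟨Subgroup.mem_centralizer_singleton_iff.2 hx.2,
      Subgroup.mem_centralizer_singleton_iff.2 (W.symm.inC_commute hx)⟩
  let e : Fin 4 × Fin 4 × Fin 4 → T := fun i => ⟨φ (cq i.1 i.2.1) * W.rep i.2.2,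
    mul_mem (hin _ (W.inC_of _ (cq_facts.1 _ _).1 (cq_facts.1 _ _).2)) (hin' _ (W.rep_inC _))⟩
  have he : Function.Injective e := by
    rintro ⟨a, b, d⟩ ⟨a', b', d'⟩ h
    have h' : φ (cq a b) * W.rep d = φ (cq a' b') * W.rep d' := congrArg Subtype.val h
    have hx : (φ (cq a b))⁻¹ * φ (cq a' b') = W.rep d * (W.rep d')⁻¹ := by
      rw [inv_mul_eq_iff_eq_mul, ← mul_assoc, h', mul_inv_cancel_right]
    have hd : d = d' := by
      refine W.rep_inj (W.inE_of_mem ?_ ?_)
      · have hE : W.InE (W.rep d * (W.rep d')⁻¹) := W.inE_of_mem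
          (hx ▸ (qSub φ).mul_mem ((qSub φ).inv_mem (W.inC_of _ (cq_facts.1 a b).1
            (cq_facts.1 a b).2).1) (W.inC_of _ (cq_facts.1 a' b').1 (cq_facts.1 a' b').2).1)
          ((qSub ψ).mul_mem (W.rep_inC d).1 ((qSub ψ).inv_mem (W.rep_inC d').1))
        have hc := (W.symm.inC_inE (W.rep_inC d') (W.inE_symm.2 hE))
        rw [show (W.rep d')⁻¹ * W.rep d =
          (W.rep d')⁻¹ * (W.rep d * (W.rep d')⁻¹) * W.rep d' by group, mul_assoc, ← hc.eq,
          inv_mul_cancel_left]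
        exact (W.inE_mem hE).1
      · exact (qSub ψ).mul_mem ((qSub ψ).inv_mem (W.rep_inC d').1) (W.rep_inC d).1
    subst hd
    obtain ⟨rfl, rfl⟩ := cq_facts.2 _ _ _ _ (W.sφ.eq_iff.1 (mul_right_cancel h'))
    rfl
  have hsurj : Function.Surjective e := by
    refine (Function.Injective.bijective_of_nat_card_le he ?_).2
    simpa using hcardT
  obtain ⟨⟨a, b, d⟩, hi⟩ := hsurj ⟨t, Subgroup.mem_centralizer_singleton_iff.2 htz,
    Subgroup.mem_centralizer_singleton_iff.2 hty⟩
  exact ⟨_, d, W.inC_of _ (cq_facts.1 a b).1 (cq_facts.1 a b).2,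
    (congrArg Subtype.val hi).symm⟩

/-- The key lemma: the representative matched with an involution is an involution exactly when
the two commute. -/
theorem key [Finite G] {i i' j : Fin 3} (hii : (i = 1 ∧ i' = 2) ∨ (i = 2 ∧ i' = 1))
    (hz : Zc z (gcm (φ (vF i)) (ψ (vF j)))) (hnz : ¬ Zc z (gcm (φ (vF i')) (ψ (vF j)))) :
    ψ (vF j) * ψ (vF j) = 1 ↔ gcm (φ (vF i)) (ψ (vF j)) = 1 := by
  set v := φ (vF i) with hvdef
  set v' := φ (vF i') with hv'def
  set r := ψ (vF j) with hrdef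
  have hv : inC φ y v := W.inC_vF i
  have hv' : inC φ y v' := W.inC_vF i'
  have hr : inC ψ z r := W.symm.inC_vF j
  have hi12 : i = 1 ∨ i = 2 := hii.imp And.left And.left
  have hi'12 : i' = 1 ∨ i' = 2 := hii.symm.imp And.right And.right
  have hsqv : ∀ l : Fin 3, l = 1 ∨ l = 2 → φ (vF l) * φ (vF l) = 1 := by
    have hk : ∀ l : Fin 3, l = 1 ∨ l = 2 → Eq' (vF l * vF l) 1 := by decide +kernel
    intro l hl; rw [← map_mul, W.sφ.eq_iff.2 (hk l hl), map_one]
  have hrnot : r ∉ qSub φ := fun h =>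
    W.symm.phi_v_not_inE j (W.inE_symm.2 (W.inE_of_mem h hr.1))
  -- squares of elements centralising the elementary abelian group of order eight
  have aux : ∀ q : G, inC φ y q → Commute (q * r) v → W.InE ((q * r) * (q * r)) →
      Zc z ((q * r) * (q * r)) := by
    intro q hq hqv hE
    set e := q * r with hedef
    have hez : Commute e z := (W.inC_commute hq).mul_left hr.2
    have hey : Commute e y := hq.2.mul_left (W.symm.inC_commute hr)
    obtain ⟨k, hk1, hk2, hk3⟩ : ∃ k : P, (∀ a ∈ vset (vF i), ∃ a' ∈ vset (vF i),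
        Eq' (k * a * k⁻¹) a') ∧ (∀ a ∈ vset (vF i), ∃ a' ∈ vset (vF i),
        Eq' (k⁻¹ * a * k) a') ∧ ∀ a ∈ eL, ¬ Eq' (k * y0 * k⁻¹) a := by
      rcases hi12 with rfl | rfl
      exacts [⟨kOne, k_one⟩, ⟨kTwo, k_two⟩]
    have heV : ∀ a ∈ vset (vF i), Commute e (φ a) := by
      intro a ha
      have heE : ∀ b ∈ eL, Commute e (φ b) := fun b hb => W.commute_inE hez hey (W.eL_map hb)
      rcases List.mem_append.1 ha with h | h
      · exact heE a h
      · obtain ⟨b, hb, rfl⟩ := List.mem_map.1 h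
        rw [map_mul]; exact hqv.mul_right (heE b hb)
    set K := φ k with hKdef
    set e' := K * e * K⁻¹ with he'def
    have he'V : ∀ a ∈ vset (vF i), Commute e' (φ a) := by
      intro a ha
      obtain ⟨a', ha', heq⟩ := hk2 a ha
      have : φ a = K * φ a' * K⁻¹ := by
        rw [← W.sφ.eq_iff.2 heq, hKdef, map_mul, map_mul, map_inv]; group
      rw [this]
      exact (heV a' ha').map (MulAut.conj K)
    have he'v : Commute e' v := he'V _ (List.mem_append_right _
      (List.mem_map.2 ⟨1, by simp [eL], mul_one _⟩))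
    have he'y : Commute e' y := by rw [← W.φy]; exact he'V _ (by simp [vset, eL])
    have he'z : Commute e' z := by rw [← W.sφ.φz]; exact he'V _ (by simp [vset, eL])
    obtain ⟨q', d, hq', hd⟩ := W.decomp he'z he'y
    -- elements commuting with `v` in the first quaternion part
    have hV : ∀ x : G, inC φ y x → Commute x v → ∃ a ∈ vset (vF i), x = φ a := by
      rintro x ⟨⟨a, ha, rfl⟩, hay⟩ hav
      rw [← W.φy] at hay
      have h1 := W.sφ.commute_iff.1 hay
      have h2 := W.sφ.commute_iff.1 hav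
      rcases hi12 with rfl | rfl
      · obtain ⟨t, ht, b, hb, hab⟩ := cent_one a ha h1 h2
        refine ⟨t * b, ?_, W.sφ.eq_iff.2 hab⟩
        simp only [List.mem_cons, List.not_mem_nil, or_false] at ht
        rcases ht with rfl | rfl
        · rw [one_mul]; exact List.mem_append_left _ hb
        · exact List.mem_append_right _ (List.mem_map.2 ⟨b, hb, rfl⟩)
      · obtain ⟨t, ht, b, hb, hab⟩ := cent_two a ha h1 h2
        refine ⟨t * b, ?_, W.sφ.eq_iff.2 hab⟩
        simp only [List.mem_cons, List.not_mem_nil, or_false] at ht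
        rcases ht with rfl | rfl
        · rw [one_mul]; exact List.mem_append_left _ hb
        · exact List.mem_append_right _ (List.mem_map.2 ⟨b, hb, rfl⟩)
    have hzcd : Zc z (gcm v (W.rep d)) := by
      have h0 : gcm v e' = 1 := gcm_eq_one_iff.2 he'v.symm
      rw [hd, gcm_mul_right, conj_of_commute (W.inC_inE hq' (W.gcm_mem hv (W.rep_inC d)))] at h0
      have hvq : Zc z (gcm v q') := by
        obtain ⟨⟨a, ha, rfl⟩, -⟩ := hq'
        rw [hvdef, ← map_gcm]
        have key' : ∀ l : Fin 3, ∀ a, QP a → Eq' (cm (vF l) a) 1 ∨ Eq' (cm (vF l) a) zz := by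
          decide +kernel
        rcases key' i a ha with h | h
        · left; rw [W.sφ.eq_iff.2 h, map_one]
        · right; rw [W.sφ.eq_iff.2 h, W.sφ.φz]
      rw [← inv_eq_of_mul_eq_one_right h0]
      rcases hvq with h | h <;> rw [h]
      · exact Or.inl inv_one
      · exact Or.inr W.sφ.z_inv
    have hsame : e' * e' = e * e := by
      rcases W.rep_cases d with hd1 | ⟨l, hd1⟩
      · exfalso
        rw [hd1, mul_one] at hd
        obtain ⟨a, ha, hqa⟩ := hV q' hq' (hd ▸ he'v)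
        refine hrnot ?_
        have hQ : e ∈ qSub φ := by
          obtain ⟨a', ha', heq⟩ := hk2 a ha
          have hQPv : ∀ l : Fin 3, ∀ b ∈ vset (vF l), QP b := by decide +kernel
          refine ⟨a', hQPv i a' ha', ?_⟩
          rw [← W.sφ.eq_iff.2 heq, map_mul, map_mul, map_inv, ← hKdef, ← hqa, ← hd, he'def]
          group
        have := (qSub φ).mul_mem ((qSub φ).inv_mem hq.1) hQ
        rwa [hedef, inv_mul_cancel_left] at this
      · rw [hd1] at hzcd hd
        have := W.unique_zc hi12 hzcd hz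
        subst this
        have hqq : e' * e⁻¹ = q' * q⁻¹ := by rw [hd, hedef, hrdef]; group
        obtain ⟨a, ha, hqa⟩ := hV (q' * q⁻¹) (W.inC_mul hq' (W.inC_inv hq))
          (hqq ▸ he'v.mul_left hqv.inv_left)
        have he : e' = φ a * e := by rw [← hqa, ← hqq, inv_mul_cancel_right]
        have ha2 : φ a * φ a = 1 := by
          have hk : ∀ l : Fin 3, l = 1 ∨ l = 2 → ∀ b ∈ vset (vF l), Eq' (b * b) 1 := by
            decide +kernel
          rw [← map_mul, W.sφ.eq_iff.2 (hk i hi12 a ha), map_one]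
        rw [he, (heV a ha).mul_mul_mul_comm, ha2, one_mul]
    rcases hE with h | h | h | h
    · exact Or.inl h
    · exact Or.inr h
    all_goals
      exfalso
      have hfix : K * (e * e) * K⁻¹ = e * e := by
        calc K * (e * e) * K⁻¹ = e' * e' := by rw [he'def]; group
          _ = e * e := hsame
      rw [h] at hfix
    · refine hk3 y0 (by simp [eL]) (W.sφ.eq_iff.1 ?_)
      rw [map_mul, map_mul, map_inv, W.φy]
      exact hfix
    · refine hk3 y0 (by simp [eL]) (W.sφ.eq_iff.1 ?_)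
      rw [map_mul, map_mul, map_inv, W.φy, ← hKdef]
      have hKz : Commute K z := W.sφ.commute_z k
      calc K * y * K⁻¹ = z * (K * (z * y) * K⁻¹) := by
            rw [← mul_assoc K z y, hKz.eq, ← mul_assoc, ← mul_assoc, ← mul_assoc,
              W.sφ.zz_sq, one_mul]
        _ = y := by rw [hfix, ← mul_assoc, W.sφ.zz_sq, one_mul]
  have hr2 : r * r = 1 ∨ r * r = y := by
    have hk : ∀ l : Fin 3, Eq' (vF l * vF l) 1 ∨ Eq' (vF l * vF l) zz := by decide +kernel
    rw [hrdef, ← map_mul]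
    rcases hk j with h | h
    · left; rw [W.sψ.eq_iff.2 h, map_one]
    · right; rw [W.sψ.eq_iff.2 h, W.sψ.φz]
  have hnot_y : ¬ Zc z y := by
    rintro (h | h)
    · exact W.sψ.z_ne h
    · exact W.z_ne_y h.symm
  constructor
  · intro h
    by_contra hne
    have hzv : gcm v r = z := hz.resolve_left hne
    have hvv' : gcm v v' = z := by
      have hk : ∀ i i' : Fin 3, (i = 1 ∧ i' = 2) ∨ (i = 2 ∧ i' = 1) →
          Eq' (cm (vF i) (vF i')) zz := by decide +kernel
      rw [hvdef, hv'def, ← map_gcm, W.sφ.eq_iff.2 (hk i i' hii), W.sφ.φz]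
    have hc : Commute (v' * r) v := by
      refine (gcm_eq_one_iff.1 ?_).symm
      rw [gcm_mul_right, conj_of_commute (W.inC_inE hv' (W.gcm_mem hv hr)), hvv', hzv,
        W.sφ.zz_sq]
    have hsq : (v' * r) * (v' * r) = gcm r v' := by
      have hrv : r * v' = gcm r v' * v' * r := by simp only [gcm]; group
      have hcc : Commute v' (gcm r v') := by
        rw [← W.gcm_comm hv' hr]; exact W.inC_inE hv' (W.gcm_mem hv' hr)
      rw [mul_assoc v' r, ← mul_assoc r v' r, hrv, mul_assoc (gcm r v' * v') r r, h, mul_one,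
        ← mul_assoc, hcc.eq, mul_assoc, hsqv i' hi'12, mul_one]
    have := aux v' hv' hc (by rw [hsq, ← W.gcm_comm hv' hr]; exact W.gcm_mem hv' hr)
    rw [hsq, ← W.gcm_comm hv' hr] at this
    exact hnz this
  · intro h
    have := aux 1 W.inC_one (by rw [one_mul]; exact (gcm_eq_one_iff.1 h).symm) (by
      rw [one_mul]
      rcases hr2 with h | h <;> rw [h]
      exacts [Or.inl rfl, Or.inr (Or.inr (Or.inl rfl))])
    rw [one_mul] at this
    rcases hr2 with h' | h'
    · exact h'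
    · exact absurd (h' ▸ this) hnot_y

end World

end Cfsg.Agent.U43Type38
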