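import Cfsg.Agent.Lib.SL23Model77

/-!
Computations in two copies of `SL(2,3)` with the centres identified.
-/

set_option autoImplicit false

namespace Cfsg.Agent.U43Type38SL

open Cfsg.Agent.SL23Model77

abbrev P := SL × SL

/-- The central involution of one copy. -/
def n : SL := w0 * w0
/-- The kernel. -/
def om : P := (n, n)
/-- The element above the central involution. -/
def zz : P := (n, 1)
/-- The quaternion condition. -/
def QP (x : P) : Prop := x.1 ^ 4 = 1 ∧ x.2 ^ 4 = 1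
/-- Equality modulo the kernel. -/
def Eq' (x y : P) : Prop := x = y ∨ x = y * om
/-- The commutator. -/
def cm (x y : P) : P := x * y * x⁻¹ * y⁻¹
/-- Commuting modulo the kernel. -/
def Com (x y : P) : Prop := Eq' (x * y) (y * x)

instance (x : P) : Decidable (QP x) := by unfold QP; infer_instance
instance (x y : P) : Decidable (Eq' x y) := by unfold Eq'; infer_instance
instance (x y : P) : Decidable (Com x y) := by unfold Com; infer_instance

def k0 : SL := w0 * w1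
def y0 : P := (w0, w0)
def v0 : P := (w0, 1)
def v1 : P := (w1, w1)
def v2 : P := (w1, k0)
def q1 : P := (w1, 1)
/-- The four group above `<z, y>`. -/
def eL : List P := [1, zz, y0, y0 * zz]
def vL : List P := [1, v0, v1, v2]
def gL : Fin 4 → P := ![(w0, 1), (w1, 1), (1, w0), (1, w1)]

theorem cq_cases : ∀ x : P, QP x → Com x y0 → ∃ t ∈ vL, ∃ e ∈ eL, Eq' x (t * e) := by
  decide +kernel

theorem inj_fact : ∀ x : P, QP x → Eq' (x * x) (q1 * q1) → Eq' (cm x y0) (cm q1 y0) →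
    Eq' (cm x v1) (cm q1 v1) → Eq' (cm x v2) (cm q1 v2) →
    Eq' x q1 ∨ Eq' x (q1 * zz) := by
  decide +kernel

theorem cent_one : ∀ x : P, QP x → Com x y0 → Com x v1 →
    ∃ t ∈ [1, v1], ∃ e ∈ eL, Eq' x (t * e) := by
  decide +kernel

theorem cent_two : ∀ x : P, QP x → Com x y0 → Com x v2 →
    ∃ t ∈ [1, v2], ∃ e ∈ eL, Eq' x (t * e) := by
  decide +kernel

theorem inner_fact : ∀ e : Fin 4 → Bool, ∃ w : P, QP w ∧
    ∀ t, Eq' (cm w (gL t)) (if e t then zz else 1) := by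
  decide +kernel

theorem gen_fact : ∀ x : P, QP x → ∃ a b c d : Fin 4,
    x = (gL 0) ^ a.val * (gL 1) ^ b.val * (gL 2) ^ c.val * (gL 3) ^ d.val := by
  decide +kernel

/-- The two elements of order three. -/
def kOne : P := (u, u)
def kTwo : P := (u, u⁻¹)

def vset (v : P) : List P := eL ++ eL.map (fun e => v * e)

theorem k_one : (∀ e ∈ vset v1, ∃ e' ∈ vset v1, Eq' (kOne * e * kOne⁻¹) e') ∧
    (∀ e ∈ vset v1, ∃ e' ∈ vset v1, Eq' (kOne⁻¹ * e * kOne) e') ∧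
    ∀ e ∈ eL, ¬ Eq' (kOne * y0 * kOne⁻¹) e := by
  decide +kernel

theorem k_two : (∀ e ∈ vset v2, ∃ e' ∈ vset v2, Eq' (kTwo * e * kTwo⁻¹) e') ∧
    (∀ e ∈ vset v2, ∃ e' ∈ vset v2, Eq' (kTwo⁻¹ * e * kTwo) e') ∧
    ∀ e ∈ eL, ¬ Eq' (kTwo * y0 * kTwo⁻¹) e := by
  decide +kernel

theorem table_facts :
    (Eq' (v1 * v1) 1 ∧ Eq' (v2 * v2) 1 ∧ Eq' (v0 * v0) zz) ∧
    (Eq' (cm v1 v2) zz ∧ Eq' (cm v0 v1) zz ∧ Eq' (cm v0 v2) zz) ∧
    (Com v0 y0 ∧ Com v1 y0 ∧ Com v2 y0) ∧ ∃ e ∈ eL, Eq' v0 (v1 * v2 * e) := by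
  decide +kernel

/-- The centraliser of the quaternion group of the second factor. -/
theorem cent_second : ∀ x : P, Com x (1, w0) → Com x (1, w1) → x.2 = 1 ∨ x.2 = n := by
  decide +kernel

theorem cent_first : ∀ x : P, Com x (w0, 1) → Com x (w1, 1) → x.1 = 1 ∨ x.1 = n := by
  decide +kernel

theorem noncomm_second : ∀ x : P, QP x → ¬ Com x (1, w0) → Eq' (x * x) zz →
    ∃ s : SL, s ^ 4 = 1 ∧ Eq' x (1, s) := by
  decide +kernel

theorem swap_fact : ∀ t : SL, t ^ 4 = 1 → ∀ s : SL, s ^ 4 = 1 →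
    Eq' ((w1, s⁻¹ * t) * (w1, s⁻¹ * t)) zz → s = t ∨ s = t * n := by
  decide +kernel

theorem involution_conj : ∀ x : P, QP x → Eq' (x * x) 1 → ¬ Eq' x 1 → ¬ Eq' x zz →
    ∃ c : P, Eq' (c * y0 * c⁻¹) x := by
  decide +kernel

theorem q8_mul : ∀ s t : SL, s ^ 4 = 1 → t ^ 4 = 1 → (s * t) ^ 4 = 1 ∧ (s⁻¹) ^ 4 = 1 := by
  decide +kernel

theorem q8_normal : ∀ s t : SL, s ^ 4 = 1 → (t * s * t⁻¹) ^ 4 = 1 := by
  decide +kernel

theorem q8_card : ((Finset.univ : Finset SL).filter fun s => s ^ 4 = 1).card = 8 := by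
  decide +kernel

theorem center_fact : n * n = 1 ∧ n ≠ 1 ∧ (∀ s : SL, n * s = s * n) ∧ ∀ s : SL, s * s = 1 → s = 1 ∨ s = n := by
  decide +kernel

/-- A map given on the two generators. -/
def NF (A B : SL) (t : Idx) : SL :=
  A ^ t.1.val * (B * A * B⁻¹) ^ t.2.1.val * B ^ t.2.2.val

theorem outer_fact : ∀ I : SL, I = w0 ∨ I = w0 * n → ∀ U : SL, U ^ 3 = 1 →
    (U * I * U⁻¹ = k0 ∨ U * I * U⁻¹ = k0 * n) → ∀ t : Idx, enc t = U → NF I U t = u →
    ∃ tA tB : Idx, (enc tA) ^ 4 = 1 ∧ enc tA * enc tA = n ∧ (enc tB) ^ 3 = 1 ∧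
      (enc tA * enc tB) ^ 3 = n ∧ NF I U tB = (enc tB)⁻¹ ∧
      NF I U tA = enc tB * (enc tA)⁻¹ * (enc tB)⁻¹ ∧
      ∀ s : SL, ∃ t' : Idx, s = NF (enc tA) (enc tB) t' := by
  decide +kernel

end Cfsg.Agent.U43Type38SL
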