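import Mathlib
import Cfsg.Prelude.Def_Classical

/-!
Five generators with relations for the unitary group in dimension four over nine elements, as they
come out of the analysis of a group of that type: `a`, `b`, `p`, `m` generate the centraliser of
the involution `a ^ 2` (order `2 ^ 7 * 3 ^ 2`), `x` is an element of order three normalising an
elementary abelian subgroup of order sixteen.
-/

set_option autoImplicit false

namespace Cfsg.Agent.U43Type38

universe u

/-- Five elements. -/
structure Gens (G : Type u) where
  a : G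
  b : G
  p : G
  m : G
  x : G

variable {G : Type u} [Group G] (g : Gens G)

namespace Gens

/-- The central involution. -/
def z : G := g.a * g.a
/-- The second quaternion generator. -/
def a' : G := g.p * g.a * g.p
/-- The second element of order three. -/
def b' : G := g.p * g.b * g.p
/-- The element centralising `p`. -/
def d : G := g.b * g.b'
/-- The element centralised by `m`. -/
def f : G := g.b * g.b'⁻¹
/-- An involution of the four group `[A, d]`. -/
def w : G := g.d * (g.a * g.a') * g.d⁻¹ * (g.a * g.a')⁻¹

/-- The subgroup generated by the five elements. -/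
def span : Subgroup G := Subgroup.closure {g.a, g.b, g.p, g.m, g.x}

/-- Images under a homomorphism. -/
def map {H : Type*} [Group H] (φ : G →* H) : Gens H :=
  ⟨φ g.a, φ g.b, φ g.p, φ g.m, φ g.x⟩

/-- The relations inside the centraliser of the involution. -/
structure CentRels : Prop where
  a4 : g.a ^ 4 = 1
  b3 : g.b ^ 3 = 1
  p2 : g.p ^ 2 = 1
  m2 : g.m ^ 2 = 1
  bz : Commute g.b g.z
  ab : (g.a * g.b) ^ 3 = g.z
  pz : Commute g.p g.z
  mz : Commute g.m g.z
  pm : (g.p * g.m) ^ 2 = g.z
  aa' : Commute g.a g.a'
  ab' : Commute g.a g.b'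
  ba' : Commute g.b g.a'
  bb' : Commute g.b g.b'
  ma : g.p * (g.m * g.a * g.m) * g.p = g.b * g.a⁻¹ * g.b⁻¹
  mb : g.m * g.b * g.m = g.b'⁻¹

/-- All relations. -/
structure Rels : Prop extends CentRels g where
  x3 : g.x ^ 3 = 1
  xd : Commute g.x g.d
  xz : g.x * g.z * g.x⁻¹ = g.p
  xp : g.x * g.p * g.x⁻¹ = g.z * g.p
  xw : Commute g.x g.w
  xw' : Commute g.x (g.d * g.w * g.d⁻¹)
  mx : g.m * g.x * g.m = g.x⁻¹
  fx : Commute g.f (g.x * g.f * g.x⁻¹)
  five : (g.x * g.a * g.m) ^ 5 = 1

/-- No normal subgroup of order three of the span centralises the involution. -/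
def NoCentralThree : Prop :=
  ∀ c ∈ g.span, c ^ 3 = 1 → Commute c g.z →
    (∀ t ∈ g.span, t * c * t⁻¹ ∈ Subgroup.zpowers c) → c = 1

end Gens

end Cfsg.Agent.U43Type38
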