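import Cfsg.Agent.Lib.U43Type38Fusion33

/-!
An element of order three normalising the subgroup of order sixteen, with its relations to the
generators of the centraliser of the involution, except the one with `f`.
-/

set_option autoImplicit false

namespace Cfsg.Agent.U43Type38Three33

open Cfsg.Agent.U43Type38 Cfsg.Agent.U43Type38Cent42 Cfsg.Agent.U43Type38Nodes33
  Cfsg.Agent.U43Type38Bridge33 Cfsg.Agent.U43Type38Fusion33
open scoped Pointwise

universe u

variable {G : Type u} [Group G] [Finite G] {g : Gens G} (h : Loc g)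
include h

theorem sq_z : g.z * g.z = 1 := sq_A h (z_mem_A h)

theorem sq_p : g.p * g.p = 1 := sq_A h (p_mem_A h)

theorem z_ne_one : g.z ≠ 1 := El_z h ▸ El_ne_one h (by norm_num) (by norm_num)

theorem p_ne_one : g.p ≠ 1 := El_p h ▸ El_ne_one h (by norm_num) (by norm_num)

theorem w_ne_one : g.w ≠ 1 := El_w h ▸ El_ne_one h (by norm_num) (by norm_num)

theorem z_ne_p : g.z ≠ g.p := fun e => by
  rw [← El_z h, ← El_p h] at e
  exact absurd (El_inj h (by norm_num) (by norm_num) e) (by norm_num)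

theorem commute_d_z : Commute g.d g.z := El_d h ▸ El_commute_z h (by norm_num)

theorem commute_d_p : Commute g.d g.p := by
  rw [← El_d h, ← El_p h]
  exact (com_iff h (by norm_num) (by norm_num)).mp (by decide +kernel)

theorem commute_p_z : Commute g.p g.z := h.rels.pz

theorem d_mem_normalizer : g.d ∈ Subgroup.normalizer (A h : Set G) := by
  rw [← El_d h]
  refine Subgroup.mem_normalizer_fintype fun x hx => ?_
  obtain ⟨i, hiA, hi, rfl⟩ := exists_mem_A h hx
  rw [← El_cj h (by norm_num) hi]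
  have : (listA.all fun i => listA.contains (cj 52 i)) = true := by decide +kernel
  exact (El_mem_A h (cj_lt _ (by norm_num))).mpr
    (List.contains_iff_mem.mp (List.all_eq_true.mp this i hiA))

/-- Three-elements of the centraliser normalising `A` and commuting with `d` are powers of `d`. -/
theorem mem_zpowers_d {y : G} (hyA : y ∈ Subgroup.normalizer (A h : Set G)) (hyd : Commute y g.d)
    (hyz : Commute y g.z) {k : ℕ} (hy3 : y ^ 3 ^ k = 1) : y ∈ Subgroup.zpowers g.d := by
  obtain ⟨i, hi, rfl⟩ := exists_node h hyz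
  have h9 : El h i ^ 9 = 1 := by
    refine orderOf_dvd_iff_pow_eq_one.mp ?_
    obtain ⟨j, -, e⟩ := (Nat.dvd_prime_pow Nat.prime_three).mp (orderOf_dvd_of_pow_eq_one hy3)
    have hdvd : orderOf (El h i) ∣ 2 ^ 7 * 3 ^ 2 := by
      have hmem : El h i ∈ Subgroup.centralizer ({g.z} : Set G) := by
        rw [Subgroup.mem_centralizer_iff]
        rintro y rfl
        exact (El_commute_z h hi).eq.symm
      have := orderOf_dvd_natCard (⟨El h i, hmem⟩ : Subgroup.centralizer ({g.z} : Set G))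
      rwa [Subgroup.orderOf_mk, h.card] at this
    refine (Nat.Coprime.dvd_of_dvd_mul_left ?_ hdvd)
    rw [e]
    exact Nat.Coprime.pow _ _ (by norm_num)
  have hn : normA i = true := by
    simp only [normA, List.all_eq_true, List.contains_iff_mem]
    intro x hx
    have hx' : x < 1152 := (setOk_spec setA_ok).2.1 x hx
    rw [← El_mem_A h (cj_lt _ hi), El_cj h hi hx']
    exact (Subgroup.mem_normalizer_iff.mp hyA _).mp (Subgroup.subset_closure ⟨x, hx, rfl⟩)
  have := allB_spec centD_ok hi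
  have hc := (com_iff h hi (by norm_num : 52 < 1152)).mpr (by rwa [El_d h])
  simp only [hc, nine_of_pow h hi h9, hn, Bool.and_self, Bool.not_true, Bool.false_or,
    Bool.and_eq_true, List.contains_iff_mem] at this
  have hmem := this.2
  simp only [List.mem_cons, List.not_mem_nil, or_false] at hmem
  rcases hmem with rfl | rfl | rfl
  · rw [El_zero]; exact one_mem _
  · rw [El_d]; exact Subgroup.mem_zpowers _
  · rw [show (104 : Nat) = mul 52 52 by decide +kernel, El_mul h (by norm_num) (by norm_num), El_d]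
    exact mul_mem (Subgroup.mem_zpowers _) (Subgroup.mem_zpowers _)

/-- Nine divides the order of the normaliser. -/
theorem nine_dvd : 3 ^ 2 ∣ Nat.card (Subgroup.normalizer (A h : Set G)) := by
  classical
  set N := Subgroup.normalizer (A h : Set G) with hN
  letI : MulAction N G := MulAction.compHom G ((MulAut.conj).comp N.subtype)
  have hsmul : ∀ (n : N) (x : G), n • x = (n : G) * x * (n : G)⁻¹ := fun _ _ => rfl
  have horb : MulAction.orbit N g.z = (A h : Set G) \ {1} := by
    ext t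
    constructor
    · rintro ⟨n, rfl⟩
      refine ⟨(Subgroup.mem_normalizer_iff.mp n.2 g.z).mp (z_mem_A h), ?_⟩
      intro e
      simp only [Set.mem_singleton_iff, hsmul, mul_inv_eq_one, mul_eq_left] at e
      exact z_ne_one h e
    · rintro ⟨ht, ht1⟩
      obtain ⟨k, hk, e⟩ := exists_normalizer_conj h ht ht1
      refine ⟨⟨k⁻¹, inv_mem hk⟩, ?_⟩
      show (k⁻¹ : G) * g.z * (k⁻¹)⁻¹ = t
      rw [← e]; group
  have h15 : Nat.card (MulAction.orbit N g.z) = 15 := by
    rw [Nat.card_coe_set_eq, horb, Set.ncard_sdiff_singleton_of_mem (one_mem (A h)),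
      ← Nat.card_coe_set_eq, SetLike.coe_sort_coe, card_A]
  have h3 : 3 ∣ Nat.card (MulAction.stabilizer N g.z) := by
    have hmem : (⟨g.d, d_mem_normalizer h⟩ : N) ∈ MulAction.stabilizer N g.z := by
      rw [MulAction.mem_stabilizer_iff, hsmul]
      exact (commute_d_z h).mul_inv_cancel
    have := orderOf_dvd_natCard (⟨_, hmem⟩ : MulAction.stabilizer N g.z)
    rwa [Subgroup.orderOf_mk, Subgroup.orderOf_mk, orderOf_d h] at this
  rw [← Subgroup.card_mul_index (MulAction.stabilizer N g.z),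
    Subgroup.index, ← Nat.card_congr (MulAction.orbitEquivQuotientStabilizer N g.z), h15]
  obtain ⟨c, hc⟩ := h3
  exact ⟨c * 5, by rw [hc]; ring⟩

/-- A three-element of the normaliser commuting with `d`, not a power of `d`. -/
theorem exists_y : ∃ y ∈ Subgroup.normalizer (A h : Set G), Commute y g.d ∧
    (∃ k, y ^ 3 ^ k = 1) ∧ y ∉ Subgroup.zpowers g.d := by
  haveI : Fact (Nat.Prime 3) := ⟨Nat.prime_three⟩
  set N := Subgroup.normalizer (A h : Set G)
  set d' : N := ⟨g.d, d_mem_normalizer h⟩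
  have hd' : orderOf d' = 3 := (Subgroup.orderOf_mk _ _).trans (orderOf_d h)
  obtain ⟨P, hP⟩ := (IsPGroup.of_card (n := 1) (by rw [Nat.card_zpowers, hd', pow_one]) :
    IsPGroup 3 (Subgroup.zpowers d')).exists_le_sylow
  have h9 : 3 ^ 2 ≤ Nat.card (P : Subgroup N) :=
    Nat.le_of_dvd Nat.card_pos (P.pow_dvd_card_of_pow_dvd_card (nine_dvd h))
  have hdP : d' ∈ (P : Subgroup N) := hP (Subgroup.mem_zpowers d')
  have out : ∀ y : N, y ∈ (P : Subgroup N) → Commute y d' → y ∉ Subgroup.zpowers d' →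
      ∃ y ∈ N, Commute y g.d ∧ (∃ k, y ^ 3 ^ k = 1) ∧ y ∉ Subgroup.zpowers g.d := by
    intro y hy hyd hyn
    refine ⟨y, y.2, hyd.map N.subtype, ?_, fun hm => hyn ?_⟩
    · obtain ⟨k, hk⟩ := P.2 ⟨y, hy⟩
      exact ⟨k, by simpa using congrArg (fun t : (P : Subgroup N) => ((t : N) : G)) hk⟩
    · obtain ⟨k, hk⟩ := hm
      exact ⟨k, Subtype.ext (by simpa [d'] using hk)⟩
  by_cases hall : ∀ y ∈ (P : Subgroup N), Commute y d'
  · obtain ⟨y, hy, hyn⟩ : ∃ y ∈ (P : Subgroup N), y ∉ Subgroup.zpowers d' := by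
      by_contra hcon
      push Not at hcon
      have := Subgroup.card_le_of_le hcon
      rw [Nat.card_zpowers, hd'] at this
      omega
    exact out y hy (hall y hy) hyn
  · haveI : Nontrivial (P : Subgroup N) := by
      rw [← Finite.one_lt_card_iff_nontrivial]; omega
    haveI := P.2.center_nontrivial
    obtain ⟨⟨c, hc⟩, hc1⟩ := exists_ne (1 : Subgroup.center (P : Subgroup N))
    have hcc : ∀ y ∈ (P : Subgroup N), Commute (c : N) y := fun y hy =>
      congrArg Subtype.val ((Subgroup.mem_center_iff.mp hc ⟨y, hy⟩).symm)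
    refine out c c.2 (hcc d' hdP) fun hm => hall fun y hy => ?_
    have hne : (c : N) ≠ 1 := fun e => hc1 (Subtype.ext (Subtype.ext e))
    have hz : d' ∈ Subgroup.zpowers (c : N) := by
      have hle : Subgroup.zpowers (c : N) ≤ Subgroup.zpowers d' := Subgroup.zpowers_le.mpr hm
      have h1 := Subgroup.card_dvd_of_le hle
      rw [Nat.card_zpowers, Nat.card_zpowers, hd'] at h1
      rcases (Nat.dvd_prime Nat.prime_three).mp h1 with e | e
      · exact absurd (orderOf_eq_one_iff.mp e) hne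
      · rw [Subgroup.eq_of_le_of_card_ge hle (by rw [Nat.card_zpowers, Nat.card_zpowers, hd', e])]
        exact Subgroup.mem_zpowers d'
    obtain ⟨j, hj⟩ := hz
    rw [← hj]
    exact ((hcc y hy).symm.zpow_right j)

/-- The nontrivial fixed points of `d` in `A`. -/
theorem fixed_d {t : G} (ht : t ∈ A h) (hd : Commute t g.d) (h1 : t ≠ 1) :
    t = g.z ∨ t = g.p ∨ t = g.z * g.p := by
  obtain ⟨i, hiA, hi, rfl⟩ := exists_mem_A h ht
  have hc := (com_iff h hi (by norm_num : 52 < 1152)).mpr (by rwa [El_d h])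
  have := List.all_eq_true.mp fixD_ok i hiA
  simp only [hc, Bool.not_true, Bool.false_or, List.contains_iff_mem, List.mem_cons,
    List.not_mem_nil, or_false] at this
  rcases this with rfl | rfl | rfl | rfl
  · exact absurd (El_zero h) h1
  · exact Or.inl (El_z h)
  · exact Or.inr (Or.inl (El_p h))
  · exact Or.inr (Or.inr (El_zp h))

/-- An element of order three with the relations on `z`, `p`, `w` and `d`. -/
theorem exists_x0 : ∃ x ∈ Subgroup.normalizer (A h : Set G), x ^ 3 = 1 ∧ Commute x g.d ∧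
    x * g.z * x⁻¹ = g.p ∧ x * g.p * x⁻¹ = g.z * g.p ∧ Commute x g.w := by
  obtain ⟨y₀, hy₀A, hy₀d, ⟨k, hy₀3⟩, hy₀n⟩ := exists_y h
  -- no power that generates can fix `z`
  have nofix : ∀ y, y ∈ Subgroup.normalizer (A h : Set G) → Commute y g.d → y ^ 3 ^ k = 1 →
      y ∉ Subgroup.zpowers g.d → y * g.z * y⁻¹ ≠ g.z ∧ y * (y * g.z * y⁻¹) * y⁻¹ ≠ g.z := by
    intro y hyA hyd hy3 hyn
    refine ⟨fun e => hyn (mem_zpowers_d h hyA hyd (mul_inv_eq_iff_eq_mul.mp e) hy3), fun e => hyn ?_⟩
    have e2 : y ^ 2 * g.z * (y ^ 2)⁻¹ = g.z :=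
      Eq.trans (by simp [pow_two, mul_assoc]) e
    have hc2 : Commute (y ^ 2) g.z := mul_inv_eq_iff_eq_mul.mp e2
    have hm := mem_zpowers_d h (y := y ^ 2) (pow_mem hyA 2) (hyd.pow_left 2) hc2
      (k := k) (by rw [← pow_mul, mul_comm, pow_mul, hy3, one_pow])
    have hodd : Odd (orderOf y) :=
      Odd.of_dvd_nat (Odd.pow (by decide)) (orderOf_dvd_of_pow_eq_one hy3)
    obtain ⟨j, hj⟩ := IsolatedInv.odd_pow_sq hodd
    rw [← hj]
    exact pow_mem hm j
  have three : ∀ y, y ∈ Subgroup.normalizer (A h : Set G) → Commute y g.d → ∀ t, t ∈ A h →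
      Commute t g.d → t ≠ 1 →
      y * t * y⁻¹ = g.z ∨ y * t * y⁻¹ = g.p ∨ y * t * y⁻¹ = g.z * g.p := by
    intro y hyA hyd t ht htd ht1
    refine fixed_d h ((Subgroup.mem_normalizer_iff.mp hyA t).mp ht) ?_ ?_
    · exact (hyd.mul_left htd).mul_left hyd.inv_left
    · intro e
      exact ht1 (conj_eq_one_iff.mp e)
  have hzp1 : g.z * g.p ≠ 1 := fun e => z_ne_p h (by
    rw [← mul_one g.z, ← sq_p h, ← mul_assoc, e, one_mul])
  obtain ⟨y, hyA, hyd, hy3, hyn, hyz⟩ : ∃ y, y ∈ Subgroup.normalizer (A h : Set G) ∧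
      Commute y g.d ∧ y ^ 3 ^ k = 1 ∧ y ∉ Subgroup.zpowers g.d ∧ y * g.z * y⁻¹ = g.p := by
    have hn := nofix y₀ hy₀A hy₀d hy₀3 hy₀n
    rcases three y₀ hy₀A hy₀d g.z (z_mem_A h) (commute_d_z h).symm (z_ne_one h) with e | e | e
    · exact absurd e hn.1
    · exact ⟨y₀, hy₀A, hy₀d, hy₀3, hy₀n, e⟩
    · refine ⟨y₀⁻¹, inv_mem hy₀A, hy₀d.inv_left, by rw [inv_pow, hy₀3, inv_one],
        fun hm => hy₀n (by simpa using inv_mem hm), ?_⟩
      have hp : y₀ * g.p * y₀⁻¹ = g.z := by
        have n2 := hn.2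
        rw [e] at n2
        rcases three y₀ hy₀A hy₀d g.p (p_mem_A h) (commute_d_p h).symm (p_ne_one h) with
          e' | e' | e'
        · exact e'
        · exfalso
          apply n2
          rw [conj_mul.symm, e, e', mul_assoc, sq_p h, mul_one]
        · exact absurd (mul_left_cancel (mul_right_cancel (e.trans e'.symm))) (z_ne_p h)
      rw [inv_inv, ← hp]; group
  have hn := nofix y hyA hyd hy3 hyn
  have hyp : y * g.p * y⁻¹ = g.z * g.p := by
    rcases three y hyA hyd g.p (p_mem_A h) (commute_d_p h).symm (p_ne_one h) with e | e | e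
    · exact absurd (by rw [hyz, e]) hn.2
    · exact absurd (mul_left_cancel (mul_right_cancel (hyz.trans e.symm))) (z_ne_p h)
    · exact e
  -- the cube is a power of `d`
  have hcube : y ^ 3 ∈ Subgroup.zpowers g.d := by
    refine mem_zpowers_d h (pow_mem hyA 3) (hyd.pow_left 3) ?_ (k := k)
      (by rw [← pow_mul, mul_comm, pow_mul, hy3, one_pow])
    refine mul_inv_eq_iff_eq_mul.mp ?_
    calc y ^ 3 * g.z * (y ^ 3)⁻¹ = y * (y * (y * g.z * y⁻¹) * y⁻¹) * y⁻¹ := by
          simp [pow_succ, mul_assoc]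
      _ = g.z := by
          rw [hyz, hyp, ← conj_mul, hyz, hyp, ← mul_assoc, (commute_p_z h).eq, mul_assoc,
            sq_p h, mul_one]
  -- the image of `w`
  set v := y * g.w * y⁻¹ with hv
  have hvA : v ∈ A h := (Subgroup.mem_normalizer_iff.mp hyA g.w).mp (w_mem_A h)
  have hv1 : v ≠ 1 := fun e => w_ne_one h (conj_eq_one_iff.mp e)
  obtain ⟨j, hj⟩ : ∃ j : ℕ, v = g.d ^ j * g.w * (g.d ^ j)⁻¹ := by
    have hu : y * (g.a * g.a') * y⁻¹ ∈ A h :=
      (Subgroup.mem_normalizer_iff.mp hyA _).mp (aa'_mem_A h)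
    obtain ⟨i, hiA, hi, e⟩ := exists_mem_A h hu
    have hvi : v = El h (mul (cj 52 i) i) := by
      rw [El_mul h (cj_lt _ (by norm_num)) hi, El_cj h (by norm_num) hi, El_d, e]
      have hinv : y * (g.a * g.a') * y⁻¹ = (y * (g.a * g.a') * y⁻¹)⁻¹ :=
        (IsolatedInv.inv_eq_self_of_sq (sq_A h hu)).symm
      nth_rewrite 2 [hinv]
      have hdy : g.d * y = y * g.d := hyd.eq.symm
      have hdy' : y⁻¹ * g.d⁻¹ = g.d⁻¹ * y⁻¹ := by rw [← mul_inv_rev, ← mul_inv_rev, hdy]
      calc y * g.w * y⁻¹ = y * g.d * (g.a * g.a') * (g.d⁻¹ * (g.a * g.a')⁻¹) * y⁻¹ := by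
            rw [Gens.w]; group
        _ = g.d * (y * (g.a * g.a')) * (y⁻¹ * g.d⁻¹) * (y * (g.a * g.a') * y⁻¹)⁻¹ := by
            rw [hdy', ← hdy]; group
        _ = g.d * (y * (g.a * g.a') * y⁻¹) * g.d⁻¹ * (y * (g.a * g.a') * y⁻¹)⁻¹ := by group
    have := List.all_eq_true.mp commA_ok i hiA
    simp only [List.contains_iff_mem, List.mem_cons, List.not_mem_nil, or_false] at this
    rcases this with e' | e' | e' | e' <;> rw [e'] at hvi
    · exact absurd (hvi.trans (El_zero h)) hv1
    · exact ⟨2, by rw [hvi, El_w2]; simp [pow_two, mul_assoc]⟩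
    · exact ⟨1, by rw [hvi, El_w1]; simp⟩
    · exact ⟨0, by rw [hvi, El_w]; simp⟩
  set x := (g.d ^ j)⁻¹ * y with hx
  have hxd : Commute x g.d := (((Commute.refl g.d).pow_left j).inv_left).mul_left hyd
  have cdj : ∀ {t : G}, Commute g.d t → (g.d ^ j)⁻¹ * t * g.d ^ j = t := by
    intro t ht
    rw [(ht.pow_left j).inv_left.eq, inv_mul_cancel_right]
  have hxc : ∀ t : G, x * t * x⁻¹ = (g.d ^ j)⁻¹ * (y * t * y⁻¹) * g.d ^ j := fun t => by
    rw [hx]; group
  have hxw : Commute x g.w :=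
    mul_inv_eq_iff_eq_mul.mp (by rw [hxc, ← hv, hj]; group)
  have hxA : x ∈ Subgroup.normalizer (A h : Set G) :=
    mul_mem (inv_mem (pow_mem (d_mem_normalizer h) j)) hyA
  refine ⟨x, hxA, ?_, hxd, ?_, ?_, hxw⟩
  · have hmem : x ^ 3 ∈ Subgroup.zpowers g.d := by
      rw [hx, (((hyd.pow_right j).inv_right).symm).mul_pow]
      exact mul_mem (pow_mem (inv_mem (pow_mem (Subgroup.mem_zpowers _) j)) 3) hcube
    obtain ⟨n, hn3⟩ := (Subgroup.mem_zpowers_iff.mp hmem)
    have hwn : Commute (g.d ^ n) g.w := hn3 ▸ hxw.pow_left 3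
    rw [← hn3]
    by_contra hne
    have h3 : ((3 : ℕ) : ℤ) = (orderOf g.d : ℤ) := by rw [orderOf_d h]
    have hcop : Nat.card (Subgroup.zpowers g.d) = 3 := by rw [Nat.card_zpowers, orderOf_d h]
    haveI : Fact (Nat.Prime 3) := ⟨Nat.prime_three⟩
    have heq : Subgroup.zpowers (g.d ^ n) = Subgroup.zpowers g.d := by
      refine Subgroup.eq_of_le_of_card_ge
        (Subgroup.zpowers_le.mpr (Subgroup.zpow_mem _ (Subgroup.mem_zpowers _) n)) ?_
      rw [hcop, Nat.card_zpowers, orderOf_eq_prime (by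
        rw [← zpow_natCast, ← zpow_mul, mul_comm, zpow_mul, zpow_natCast, d_pow_three h, one_zpow])
        hne]
    obtain ⟨l, hl⟩ : g.d ∈ Subgroup.zpowers (g.d ^ n) := heq ▸ Subgroup.mem_zpowers _
    have hdw : Commute g.d g.w := hl ▸ hwn.zpow_left l
    have e1 : g.d * g.w * g.d⁻¹ = g.w := hdw.mul_inv_cancel
    rw [← El_w1 h, ← El_w h] at e1
    exact absurd (El_inj h (by norm_num) (by norm_num) e1) (by norm_num)
  · rw [hxc, hyz, cdj (commute_d_p h)]
  · rw [hxc, hyp, cdj ((commute_d_z h).mul_right (commute_d_p h))]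

/-- The element can be chosen inverted by `m`. -/
theorem exists_x : ∃ x ∈ Subgroup.normalizer (A h : Set G), x ^ 3 = 1 ∧ Commute x g.d ∧
    x * g.z * x⁻¹ = g.p ∧ x * g.p * x⁻¹ = g.z * g.p ∧ Commute x g.w ∧
    g.m * x * g.m = x⁻¹ := by
  obtain ⟨x, hxA, hx3, hxd, hxz, hxp, hxw⟩ := exists_x0 h
  have mi := m_inv h.rels
  have hmm : g.m * g.m = 1 := by rw [← pow_two]; exact h.rels.m2
  have hmd : g.m * g.d * g.m = g.d⁻¹ := by
    refine eq_inv_of_mul_eq_one_left ?_
    rw [← El_m h, ← El_d h, ← El_mul h (by norm_num) (by norm_num),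
      ← El_mul h (mul_lt _ (by norm_num)) (by norm_num),
      ← El_mul h (mul_lt _ (mul_lt _ (by norm_num))) (by norm_num), ← El_zero h]
    congr 1
  have hmw : g.m * g.w * g.m = g.w := by
    rw [← El_m h, ← El_w h, ← El_mul h (by norm_num) (by norm_num),
      ← El_mul h (mul_lt _ (by norm_num)) (by norm_num)]
    congr 1
  have hmp : g.m * g.p * g.m = g.z * g.p := by
    rw [← El_m h, ← El_p h, ← El_z h, ← El_mul h (by norm_num) (by norm_num),
      ← El_mul h (mul_lt _ (by norm_num)) (by norm_num), ← El_mul h (by norm_num) (by norm_num)]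
    congr 1
  have hmz : g.m * g.z * g.m = g.z := by
    rw [h.rels.mz.eq, mul_assoc, hmm, mul_one]
  have hmzp : g.m * (g.z * g.p) * g.m = g.p := by
    rw [← hmp]; simp [← mul_assoc, hmm]; simp [mul_assoc, hmm]
  have hmA : g.m ∈ Subgroup.normalizer (A h : Set G) := by
    rw [← El_m h]
    refine Subgroup.mem_normalizer_fintype fun y hy => ?_
    obtain ⟨i, hiA, hi, rfl⟩ := exists_mem_A h hy
    rw [← El_cj h (by norm_num) hi]
    have : (listA.all fun i => listA.contains (cj 2 i)) = true := by decide +kernel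
    exact (El_mem_A h (cj_lt _ (by norm_num))).mpr
      (List.contains_iff_mem.mp (List.all_eq_true.mp this i hiA))
  set y := g.m * x * g.m with hy
  have hyc : ∀ t, y * t * y⁻¹ = g.m * (x * (g.m * t * g.m) * x⁻¹) * g.m := fun t => by
    rw [hy]; simp [mul_inv_rev, mi, mul_assoc]
  have hyd : Commute y g.d := by
    refine mul_inv_eq_iff_eq_mul.mp ?_
    rw [hyc, hmd, hxd.inv_right.mul_inv_cancel, ← hmd]
    simp [← mul_assoc, hmm]; simp [mul_assoc, hmm]
  have hyw : Commute y g.w :=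
    mul_inv_eq_iff_eq_mul.mp (by rw [hyc, hmw, hxw.mul_inv_cancel, hmw])
  have hyz : y * g.z * y⁻¹ = g.z * g.p := by rw [hyc, hmz, hxz, hmp]
  have hxzp : x * (g.z * g.p) * x⁻¹ = g.z := by
    rw [← conj_mul, hxz, hxp, ← mul_assoc, (commute_p_z h).eq, mul_assoc, sq_p h, mul_one]
  have hyp : y * g.p * y⁻¹ = g.z := by rw [hyc, hmp, hxzp, hmz]
  set v := y * x with hv
  have hvc : ∀ t, v * t * v⁻¹ = y * (x * t * x⁻¹) * y⁻¹ := fun t => by rw [hv]; group
  have hvd : Commute v g.d := hyd.mul_left hxd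
  have hvA : v ∈ A h := by
    have hw : Commute v g.w := hyw.mul_left hxw
    refine mem_A_of_commute h ?_ ?_ hw ((hvd.mul_right hw).mul_right hvd.inv_right)
    · exact mul_inv_eq_iff_eq_mul.mp (by rw [hvc, hxz, hyp])
    · refine mul_inv_eq_iff_eq_mul.mp ?_
      rw [hvc, hxp, ← conj_mul, hyz, hyp, (commute_p_z h).eq.symm, mul_assoc, sq_z h, mul_one]
  have hvi : v⁻¹ = v := IsolatedInv.inv_eq_self_of_sq (sq_A h hvA)
  have key : x * v * x⁻¹ = g.m * v * g.m := by
    have hyv : y = v * x⁻¹ := by rw [hv, mul_inv_cancel_right]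
    have e : g.m * y * g.m = x := by
      rw [hy]; simp [← mul_assoc, hmm]; simp [mul_assoc, hmm]
    calc x * v * x⁻¹ = x * (v * x⁻¹) := by rw [mul_assoc]
      _ = x * y := by rw [← hyv]
      _ = g.m * y * g.m * y := by rw [e]
      _ = g.m * (y * x) * g.m := by
          have hmm' : ∀ X : G, g.m * (g.m * X) = X := fun X => by rw [← mul_assoc, hmm, one_mul]
          rw [hy]; simp [mul_assoc, hmm']
      _ = g.m * v * g.m := by rw [hv]
  have hvmem : v = 1 ∨ v = g.p := by
    by_cases h1 : v = 1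
    · exact Or.inl h1
    rcases fixed_d h hvA hvd h1 with e | e | e
    · rw [e, hxz, hmz] at key; exact absurd key.symm (z_ne_p h)
    · exact Or.inr e
    · rw [e, hxzp, hmzp] at key; exact absurd key (z_ne_p h)
  rcases hvmem with e | e
  · exact ⟨x, hxA, hx3, hxd, hxz, hxp, hxw, eq_inv_of_mul_eq_one_left e⟩
  · have pi := p_inv h.rels
    have hpA : g.p ∈ Subgroup.normalizer (A h : Set G) := Subgroup.le_normalizer (p_mem_A h)
    have hpw : Commute g.p g.w := commute_A h (p_mem_A h) (w_mem_A h)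
    have hpc : ∀ {t : G}, Commute g.p t → g.p * t * g.p = t := fun {t} ht => by
      rw [ht.eq, mul_assoc, sq_p h, mul_one]
    have hc : ∀ t, (g.p * x * g.p) * t * (g.p * x * g.p)⁻¹ =
        g.p * (x * (g.p * t * g.p) * x⁻¹) * g.p := fun t => by
      simp [mul_inv_rev, pi, mul_assoc]
    refine ⟨g.p * x * g.p, mul_mem (mul_mem hpA hxA) hpA, ?_, ?_, ?_, ?_, ?_, ?_⟩
    · calc (g.p * x * g.p) ^ 3 = (g.p * x * g.p⁻¹) ^ 3 := by rw [pi]
        _ = 1 := by rw [conj_pow, hx3]; simp
    · exact (((commute_d_p h).symm.mul_left hxd).mul_left (commute_d_p h).symm)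
    · rw [hc, hpc (commute_p_z h), hxz, hpc (Commute.refl _)]
    · rw [hc, hpc (Commute.refl _), hxp, hpc ((commute_p_z h).mul_right (Commute.refl _))]
    · exact (hpw.mul_left hxw).mul_left hpw
    · have hyv : g.m * x * g.m = g.p * x⁻¹ := by
        rw [← e, hv, mul_inv_cancel_right]
      have hxinv : x⁻¹ * g.z * x = g.z * g.p := by
        conv_lhs => rw [← hxzp]
        group
      calc g.m * (g.p * x * g.p) * g.m
          = g.m * g.p * g.m * (g.m * x * g.m) * (g.m * g.p * g.m) := by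
            simp [← mul_assoc, hmm]; simp [mul_assoc, hmm]
        _ = g.z * g.p * (g.p * x⁻¹) * (g.z * g.p) := by rw [hyv, hmp]
        _ = g.z * (x⁻¹ * g.z * x) * x⁻¹ * g.p := by
            simp only [mul_assoc]
            rw [← mul_assoc g.p g.p, sq_p h, one_mul, mul_inv_cancel_left]
        _ = g.p * x⁻¹ * g.p := by rw [hxinv, ← mul_assoc, sq_z h, one_mul]
        _ = (g.p * x * g.p)⁻¹ := by simp [mul_inv_rev, pi, mul_assoc]

/-- The relation with `a m`. -/
theorem five {x : G} (hxA : x ∈ Subgroup.normalizer (A h : Set G)) (hxd : Commute x g.d)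
    (hxz : x * g.z * x⁻¹ = g.p) (hxp : x * g.p * x⁻¹ = g.z * g.p) (hxw : Commute x g.w) :
    (x * g.a * g.m) ^ 5 = 1 := by
  set y := x * g.a * g.m with hy
  have hgA : ∀ i ∈ genA, i < 1152 := (setOk_spec setA_ok).2.1
  have hgen : ∀ i ∈ genA, x * El h i * x⁻¹ = El h (actX i) ∧ actX i < 1152 := by
    intro i hi
    simp only [genA, List.mem_cons, List.not_mem_nil, or_false] at hi
    rcases hi with rfl | rfl | rfl | rfl
    · rw [El_z]; exact ⟨by simp [actX, El_p h, hxz], by simp [actX]⟩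
    · rw [El_p]; exact ⟨by simp [actX, El_zp h, hxp], by simp [actX]⟩
    · rw [El_w]; exact ⟨by simp [actX, El_w h, hxw.mul_inv_cancel], by simp [actX]⟩
    · rw [El_w1]
      have hc : Commute x (g.d * g.w * g.d⁻¹) := (hxd.mul_right hxw).mul_right hxd.inv_right
      exact ⟨by simp only [actX, show ((312 : Nat) = 576) = False by simp,
        show ((312 : Nat) = 1) = False by simp, if_false, El_w1 h, hc.mul_inv_cancel],
        by simp [actX]⟩
  have himg : ∀ s : List Nat, (∀ i ∈ s, i ∈ genA) →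
      x * El h (pr s) * x⁻¹ = El h (pr (s.map actX)) := by
    intro s hs
    have hlt : ∀ i ∈ s.map actX, i < 1152 := by
      intro i hi
      obtain ⟨j, hj, rfl⟩ := List.mem_map.mp hi
      exact (hgen j (hs j hj)).2
    rw [(El_pr h hgA s hs).2, (El_pr h hlt _ (fun _ => id)).2, ← MulAut.conj_apply, map_list_prod,
      List.map_map, List.map_map]
    exact congrArg List.prod (List.map_congr_left fun i hi => (hgen i (hs i hi)).1)
  have hact : ∀ i ∈ listA, y * El h i * y⁻¹ = El h (actFive i) := by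
    intro i hi
    obtain ⟨-, -, -, -, hpr, hw, -⟩ := setOk_spec setA_ok
    have hsub : ∃ s ∈ genA.sublists, pr s = i := by
      have : (listA.all fun i => genA.sublists.any fun s => pr s == i) = true := by decide +kernel
      simpa [List.all_eq_true, List.any_eq_true] using List.all_eq_true.mp this i hi
    obtain ⟨s, hs, rfl⟩ := hsub
    have := List.all_eq_true.mp actFive_ok s hs
    simp only [List.any_eq_true, Bool.and_eq_true, beq_iff_eq] at this
    obtain ⟨s', hs', e1, e2⟩ := this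
    have hs'g : ∀ j ∈ s', j ∈ genA := fun j hj => (List.mem_sublists.mp hs').subset hj
    have hsg : ∀ j ∈ s, j ∈ genA := fun j hj => (List.mem_sublists.mp hs).subset hj
    rw [e2, ← himg s' hs'g, ← e1, El_cj h (by norm_num) (El_pr h hgA s hsg).1, El_am]
    rw [hy]; group
  have h5 := five_ok
  simp only [List.all_eq_true, Bool.and_eq_true, beq_iff_eq, List.contains_iff_mem] at h5
  have hfix : ∀ t ∈ A h, Commute (y ^ 5) t := by
    intro t ht
    obtain ⟨i, hiA, hi, rfl⟩ := exists_mem_A h ht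
    have c1 := (h5 i hiA).1.1
    have c2 := (h5 _ c1).1.1
    have c3 := (h5 _ c2).1.1
    have c4 := (h5 _ c3).1.1
    refine mul_inv_eq_iff_eq_mul.mp ?_
    calc y ^ 5 * El h i * (y ^ 5)⁻¹ =
          y * (y * (y * (y * (y * El h i * y⁻¹) * y⁻¹) * y⁻¹) * y⁻¹) * y⁻¹ := by
            simp [pow_succ, mul_assoc]
      _ = El h i := by
          rw [hact i hiA, hact _ c1, hact _ c2, hact _ c3, hact _ c4, (h5 i hiA).1.2]
  have hyA : y ^ 5 ∈ A h := mem_A_of_commute h (hfix _ (z_mem_A h)) (hfix _ (p_mem_A h))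
    (hfix _ (w_mem_A h))
    (hfix _ ((Subgroup.mem_normalizer_iff.mp (d_mem_normalizer h) _).mp (w_mem_A h)))
  obtain ⟨i, hiA, hi, e⟩ := exists_mem_A h hyA
  have hfixi : El h (actFive i) = El h i := by
    rw [← hact i hiA, e]; group
  have hlt : actFive i < 1152 := (setOk_spec setA_ok).2.2.1 _ (h5 i hiA).1.1
  have := (h5 i hiA).2
  simp only [El_inj h hlt hi hfixi, Bool.or_eq_true, bne_self_eq_false, Bool.false_eq_true,
    false_or, beq_iff_eq] at this
  rw [← e, this, El_zero]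

end Cfsg.Agent.U43Type38Three33
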