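import Mathlib

/-!
Data for the certificate about the automorphism group of `U₄(2)`.
-/

set_option autoImplicit false

namespace Cfsg.Agent.U62From98ACertData

/-- a reflection on the class -/
def rC : ℕ :=
  403799959146290088022710254008197550378661461385556043221478603072149698584114312530216246882034969825313295

/-- the script of its thirty-six conjugates -/
def reflS : List (ℕ × ℕ) :=
  [(0, 0), (1, 0), (2, 0), (3, 0), (0, 1), (1, 1), (2, 1), (3, 1), (1, 2), (2, 2), (3, 2), (0, 3), (1, 3), (2, 3), (1, 4), (3, 4), (2, 5), (3, 5), (1, 6), (3, 6), (0, 7), (3, 7), (1, 8), (3, 8), (3, 9), (1, 11), (1, 12), (1, 13), (3, 13), (0, 14), (2, 17), (1, 18), (3, 18), (1, 20), (2, 23)]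

/-- square roots of the squares of the Sylow subgroup -/
def sqRoots : List ℕ := [5, 6, 9, 11, 17, 18, 21]

/-- the propagation for the squares -/
def sqC : List (ℕ × ℕ × ℕ) :=
  [(1, 1, 0), (1, 2, 0), (2, 1, 0), (2, 2, 0), (2, 3, 0), (2, 4, 0), (3, 1, 0), (3, 3, 0), (3, 5, 0), (3, 7, 0), (0, 1, 3), (0, 1, 4), (0, 1, 5), (0, 1, 6), (0, 1, 8), (0, 1, 9), (0, 2, 3), (0, 2, 5), (0, 2, 7), (0, 2, 9), (0, 2, 10), (0, 2, 11), (0, 2, 13), (0, 2, 15), (0, 2, 18), (0, 3, 6), (0, 3, 8), (0, 3, 14), (0, 3, 21), (0, 3, 23), (0, 3, 26), (0, 3, 27), (0, 4, 5), (0, 4, 9), (0, 4, 12), (0, 4, 16), (0, 4, 17), (0, 4, 20), (0, 4, 22), (0, 4, 25), (0, 5, 25), (0, 5, 37)]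

/-- the centralizer of the squares inside the Sylow subgroup -/
def sqCent : List ℕ := [63, 20, 24, 28, 54, 57, 41, 0, 3, 45, 59, 42, 55, 13, 43, 10]

/-- five mutually commuting members with their product relation -/
def fivePts : List ℕ := [0, 10, 15, 16, 44]

/-- the propagation for the five -/
def fivePtsC : List (ℕ × ℕ × ℕ) :=
  [(1, 5, 0), (1, 6, 0), (2, 5, 0), (2, 6, 0), (2, 7, 0), (2, 8, 0), (3, 5, 0), (3, 6, 0), (3, 7, 0), (3, 8, 0), (3, 9, 0), (3, 10, 0), (3, 11, 0), (3, 12, 0), (0, 5, 6), (0, 5, 8), (0, 5, 12), (0, 5, 14), (0, 5, 18), (0, 5, 20), (0, 6, 7), (0, 6, 11), (0, 6, 13), (0, 6, 17), (0, 6, 19), (0, 6, 22), (0, 6, 23), (0, 6, 24), (0, 6, 25), (0, 7, 18), (0, 7, 20), (0, 7, 29), (0, 7, 31), (0, 8, 17), (0, 8, 19), (0, 8, 23), (0, 8, 26), (0, 9, 18)]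

end Cfsg.Agent.U62From98ACertData
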