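import Cfsg.Agent.Lib.U62From98CertDefs

/-!
Kernel computations about `U₄(2)`: the second class of involutions and the Sylow subgroup.
-/

set_option autoImplicit false
set_option maxRecDepth 100000
-- sequential, so that only one certificate is in memory at a time
set_option Elab.async false

namespace Cfsg.Agent.U62From98Cert

open Cfsg.Agent.U62From98CertCode Cfsg.Agent.U62From98CertData Cfsg.Agent.U62From98CertDefs

theorem other_ok : (otherL.length == 270 && decide otherL.Nodup &&
    otherL.all (fun x => !tt.contains x && x != idc 45) &&
    otherL.all fun x => (List.range 4).all fun j => otherL.contains (cj j x)) = true := by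
  decide +kernel

theorem prod_ok : (incPairs.length == 270 &&
    decide (incPairs.map fun p => comp 45 (te p.1) (te p.2)).Nodup &&
    incPairs.all fun p => otherL.contains (comp 45 (te p.1) (te p.2))) = true := by decide +kernel

theorem sL_ok : (sL.length == 64 && decide sL.Nodup && sgW.length == 3 &&
    se 0 == idc 45 && (List.range 3).all (fun j => decide (sgI j < 64)) &&
    (List.range 64).all fun i => (List.range 3).all fun j =>
      comp 45 (sG.getD j (idc 45)) (se i) == se (mu (sgI j) i) &&
        decide (mu (sgI j) i < 64)) = true := by decide +kernel

theorem tab_ok : (tab.getD 0 0 == idc 64 &&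
    grow 0 (fun j x => mu (sgI j) x) sS [0] == List.range 64 &&
    (List.range 3).all fun j => (List.range 64).all fun k =>
      tab.getD (mu (sgI j) k) 0 == comp 64 (tab.getD (sgI j) 0) (tab.getD k 0)) = true := by
  decide +kernel

theorem sInv_ok : (ivs.all fun i => tt.contains (se i) || otherL.contains (se i)) = true := by
  decide +kernel

end Cfsg.Agent.U62From98Cert
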