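import Cfsg.Agent.Lib.U62From98CertA
import Cfsg.Agent.Lib.U62From98CertB
import Cfsg.Agent.Lib.U62From98ACertData

/-!
Kernel computations about the automorphism group of `U₄(2)`.
-/

set_option autoImplicit false
set_option maxRecDepth 100000
-- sequential, so that only one certificate is in memory at a time
set_option Elab.async false

namespace Cfsg.Agent.U62From98ACert

open Cfsg.Agent.U62From98CertCode Cfsg.Agent.U62From98CertData Cfsg.Agent.U62From98CertDefs
open Cfsg.Agent.U62From98ACertData
open Cfsg.Agent.LeechCert (force)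

/-- two points look alike from the fixed ones -/
def sim (fixed : List ℕ) (b x : ℕ) : Bool := fixed.all fun f => com x f == com b f

/-- possible images of the bases -/
def imgs (fixed : List ℕ) : List ℕ → List (List ℕ)
  | [] => [[]]
  | b :: bs => ((List.range 45).filter (sim fixed b)).flatMap fun x =>
      (imgs fixed bs).map fun l => x :: l

/-- the centralizer bound with several bases -/
def centsOK (ps fixed bases : List ℕ) (sc : List (ℕ × ℕ × ℕ)) (allowed : List ℕ) : Bool :=
  let known := prop ps sc (fixed ++ bases)
  wellF ps.length sc (fixed ++ bases).length && (fixed ++ bases).all (fun i => decide (i < 45)) &&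
  ((List.range 45).all fun i => known.contains i) &&
    (imgs fixed bases).all fun l =>
      force (cand ps sc known (fixed ++ l)) fun g => !isAuto ps g || allowed.contains g

/-- the conjugates of the reflection -/
def reflL : List ℕ := grow (idc 45) cj reflS [rC]

/-- the squares -/
def sqL : List ℕ := sqRoots.map fun i => se (mu i i)

/-- sublist products -/
def prods : List ℕ → List ℕ
  | [] => [idc 45]
  | i :: l => let r := prods l; r ++ r.map fun x => comp 45 (te i) x

/-- the test of one image of the bases -/
def candOK (ps fixed bases : List ℕ) (sc : List (ℕ × ℕ × ℕ)) (allowed : List ℕ) (l : List ℕ) : Bool :=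
  force (cand ps sc (prop ps sc (fixed ++ bases)) (fixed ++ l)) fun g => !isAuto ps g || allowed.contains g

theorem all_of_chunks98 {α : Type} (f : α → Bool) (L : List α) (k n : ℕ)
    (hlen : L.length ≤ k * n)
    (h : ∀ j < n, ((L.drop (k * j)).take k).all f = true) : L.all f = true := by
  rw [List.all_eq_true]
  intro x hx
  obtain ⟨i, hi, rfl⟩ := List.mem_iff_getElem.1 hx
  have hk : 0 < k := Nat.pos_of_ne_zero fun h0 => by subst h0; omega
  have hj : i / k < n := Nat.div_lt_of_lt_mul (by omega)
  have hm := Nat.mod_lt i hk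
  have hd := Nat.div_add_mod i k
  refine List.all_eq_true.1 (h (i / k) hj) _ (List.mem_iff_getElem.2 ⟨i % k, ?_, ?_⟩)
  · simp only [List.length_take, List.length_drop]; omega
  · simp only [List.getElem_take, List.getElem_drop, hd]

theorem rC_ok : ((rC == mk 45 (dig rC)) &&
    ((List.range 45).all fun i => decide (dig rC i < 45) && dig rC (dig rC i) == i &&
      comp 45 (comp 45 rC (te i)) rC == te (dig rC i)) &&
    comp 45 rC fiveC' == comp 45 fiveC' rC && rC != idc 45) = true := by
  decide +kernel

theorem reflL_ok : (reflL.length == 36 && decide reflL.Nodup &&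
    reflL.all fun x => x != idc 45 && (List.range 4).all fun j => reflL.contains (cj j x)) = true := by
  decide +kernel

theorem five_cents_ok : (centsOK [fiveC'] [] [fiveBase] fiveC fiveAut && fiveAut.length == 10) =
    true := by
  decide +kernel

theorem sqChunk0 : (((imgs [nA] [1, 24]).drop (26 * 0)).take 26).all
    (candOK sqL [nA] [1, 24] sqC (sqCent.map se)) = true := by decide +kernel

theorem sqChunk1 : (((imgs [nA] [1, 24]).drop (26 * 1)).take 26).all
    (candOK sqL [nA] [1, 24] sqC (sqCent.map se)) = true := by decide +kernel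

theorem sqChunk2 : (((imgs [nA] [1, 24]).drop (26 * 2)).take 26).all
    (candOK sqL [nA] [1, 24] sqC (sqCent.map se)) = true := by decide +kernel

theorem sqChunk3 : (((imgs [nA] [1, 24]).drop (26 * 3)).take 26).all
    (candOK sqL [nA] [1, 24] sqC (sqCent.map se)) = true := by decide +kernel

theorem sqChunk4 : (((imgs [nA] [1, 24]).drop (26 * 4)).take 26).all
    (candOK sqL [nA] [1, 24] sqC (sqCent.map se)) = true := by decide +kernel

theorem sqChunk5 : (((imgs [nA] [1, 24]).drop (26 * 5)).take 26).all
    (candOK sqL [nA] [1, 24] sqC (sqCent.map se)) = true := by decide +kernel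

theorem sqChunk6 : (((imgs [nA] [1, 24]).drop (26 * 6)).take 26).all
    (candOK sqL [nA] [1, 24] sqC (sqCent.map se)) = true := by decide +kernel

theorem sqChunk7 : (((imgs [nA] [1, 24]).drop (26 * 7)).take 26).all
    (candOK sqL [nA] [1, 24] sqC (sqCent.map se)) = true := by decide +kernel

theorem sqChunk8 : (((imgs [nA] [1, 24]).drop (26 * 8)).take 26).all
    (candOK sqL [nA] [1, 24] sqC (sqCent.map se)) = true := by decide +kernel

theorem sqChunk9 : (((imgs [nA] [1, 24]).drop (26 * 9)).take 26).all
    (candOK sqL [nA] [1, 24] sqC (sqCent.map se)) = true := by decide +kernel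

theorem sqChunk10 : (((imgs [nA] [1, 24]).drop (26 * 10)).take 26).all
    (candOK sqL [nA] [1, 24] sqC (sqCent.map se)) = true := by decide +kernel

theorem sqChunk11 : (((imgs [nA] [1, 24]).drop (26 * 11)).take 26).all
    (candOK sqL [nA] [1, 24] sqC (sqCent.map se)) = true := by decide +kernel

theorem sqChunk12 : (((imgs [nA] [1, 24]).drop (26 * 12)).take 26).all
    (candOK sqL [nA] [1, 24] sqC (sqCent.map se)) = true := by decide +kernel

theorem sqChunk13 : (((imgs [nA] [1, 24]).drop (26 * 13)).take 26).all
    (candOK sqL [nA] [1, 24] sqC (sqCent.map se)) = true := by decide +kernel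

theorem sqChunk14 : (((imgs [nA] [1, 24]).drop (26 * 14)).take 26).all
    (candOK sqL [nA] [1, 24] sqC (sqCent.map se)) = true := by decide +kernel

theorem sqChunk15 : (((imgs [nA] [1, 24]).drop (26 * 15)).take 26).all
    (candOK sqL [nA] [1, 24] sqC (sqCent.map se)) = true := by decide +kernel

theorem sqRest : (wellF sqL.length sqC ([nA] ++ [1, 24]).length &&
    ([nA] ++ [1, 24]).all (fun i => decide (i < 45)) &&
    ((List.range 45).all fun i => (prop sqL sqC ([nA] ++ [1, 24])).contains i) &&
    decide ((imgs [nA] [1, 24]).length ≤ 26 * 16) &&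
    sqL.contains (te nA) && sqRoots.all fun i => decide (i < 64)) = true := by decide +kernel

theorem sq_cents_ok : (centsOK sqL [nA] [1, 24] sqC (sqCent.map se) &&
    sqL.contains (te nA) && sqRoots.all fun i => decide (i < 64)) = true := by
  have h := sqRest
  simp only [Bool.and_eq_true] at h
  obtain ⟨⟨⟨⟨⟨h1, h2⟩, h3⟩, h4⟩, h5⟩, h6⟩ := h
  have hall : (imgs [nA] [1, 24]).all (candOK sqL [nA] [1, 24] sqC (sqCent.map se)) = true := by
    refine all_of_chunks98 _ _ 26 16 (of_decide_eq_true h4) fun j hj => ?_
    interval_cases j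
    · exact sqChunk0
    · exact sqChunk1
    · exact sqChunk2
    · exact sqChunk3
    · exact sqChunk4
    · exact sqChunk5
    · exact sqChunk6
    · exact sqChunk7
    · exact sqChunk8
    · exact sqChunk9
    · exact sqChunk10
    · exact sqChunk11
    · exact sqChunk12
    · exact sqChunk13
    · exact sqChunk14
    · exact sqChunk15
  simp only [Bool.and_eq_true]
  refine ⟨⟨?_, h5⟩, h6⟩
  unfold centsOK
  simp only [Bool.and_eq_true]
  exact ⟨⟨⟨h1, h2⟩, h3⟩, hall⟩

theorem ptsChunk0 : (((imgs fivePts [1, 4]).drop (8 * 0)).take 8).all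
    (candOK (fivePts.map te) fivePts [1, 4] fivePtsC (prods (fivePts.take 4))) = true := by decide +kernel

theorem ptsChunk1 : (((imgs fivePts [1, 4]).drop (8 * 1)).take 8).all
    (candOK (fivePts.map te) fivePts [1, 4] fivePtsC (prods (fivePts.take 4))) = true := by decide +kernel

theorem ptsChunk2 : (((imgs fivePts [1, 4]).drop (8 * 2)).take 8).all
    (candOK (fivePts.map te) fivePts [1, 4] fivePtsC (prods (fivePts.take 4))) = true := by decide +kernel

theorem ptsChunk3 : (((imgs fivePts [1, 4]).drop (8 * 3)).take 8).all
    (candOK (fivePts.map te) fivePts [1, 4] fivePtsC (prods (fivePts.take 4))) = true := by decide +kernel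

theorem ptsChunk4 : (((imgs fivePts [1, 4]).drop (8 * 4)).take 8).all
    (candOK (fivePts.map te) fivePts [1, 4] fivePtsC (prods (fivePts.take 4))) = true := by decide +kernel

theorem ptsChunk5 : (((imgs fivePts [1, 4]).drop (8 * 5)).take 8).all
    (candOK (fivePts.map te) fivePts [1, 4] fivePtsC (prods (fivePts.take 4))) = true := by decide +kernel

theorem ptsChunk6 : (((imgs fivePts [1, 4]).drop (8 * 6)).take 8).all
    (candOK (fivePts.map te) fivePts [1, 4] fivePtsC (prods (fivePts.take 4))) = true := by decide +kernel

theorem ptsChunk7 : (((imgs fivePts [1, 4]).drop (8 * 7)).take 8).all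
    (candOK (fivePts.map te) fivePts [1, 4] fivePtsC (prods (fivePts.take 4))) = true := by decide +kernel

theorem ptsRest : (wellF (fivePts.map te).length fivePtsC (fivePts ++ [1, 4]).length &&
    (fivePts ++ [1, 4]).all (fun i => decide (i < 45)) &&
    ((List.range 45).all fun i => (prop (fivePts.map te) fivePtsC (fivePts ++ [1, 4])).contains i) &&
    decide ((imgs fivePts [1, 4]).length ≤ 8 * 8) &&
    fivePts.all (fun i => decide (i < 45)) &&
    decide (fivePts.contains nA) &&
    ((List.range 45).all fun i => !(com i nA && com i nB) || fivePts.contains i) &&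
    decide (fivePts.Nodup) && fivePts.length == 5) = true := by decide +kernel

theorem pts_cents_ok : (centsOK (fivePts.map te) fivePts [1, 4] fivePtsC (prods (fivePts.take 4)) &&
    fivePts.all (fun i => decide (i < 45)) &&
    decide (fivePts.contains nA) &&
    ((List.range 45).all fun i => !(com i nA && com i nB) || fivePts.contains i) &&
    decide (fivePts.Nodup) && fivePts.length == 5) = true := by
  have h := ptsRest
  simp only [Bool.and_eq_true] at h
  obtain ⟨⟨⟨⟨⟨⟨⟨⟨h1, h2⟩, h3⟩, h4⟩, h5⟩, h6⟩, h7⟩, h8⟩, h9⟩ := h
  have hall : (imgs fivePts [1, 4]).all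
      (candOK (fivePts.map te) fivePts [1, 4] fivePtsC (prods (fivePts.take 4))) = true := by
    refine all_of_chunks98 _ _ 8 8 (of_decide_eq_true h4) fun j hj => ?_
    interval_cases j
    · exact ptsChunk0
    · exact ptsChunk1
    · exact ptsChunk2
    · exact ptsChunk3
    · exact ptsChunk4
    · exact ptsChunk5
    · exact ptsChunk6
    · exact ptsChunk7
  simp only [Bool.and_eq_true]
  refine ⟨⟨⟨⟨⟨?_, h5⟩, h6⟩, h7⟩, h8⟩, h9⟩
  unfold centsOK
  simp only [Bool.and_eq_true]
  exact ⟨⟨⟨h1, h2⟩, h3⟩, hall⟩

end Cfsg.Agent.U62From98ACert
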