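import Cfsg.Agent.Lib.U62From98Cert
import Cfsg.Agent.Lib.U62From98ACertChecks

/-!
Automorphisms of `U₄(2)` as permutations of the class of forty-five involutions.
-/

set_option autoImplicit false
set_option maxRecDepth 100000
set_option linter.style.haveILetI false

namespace Cfsg.Agent.U62From98ACert

open Subgroup
open Cfsg.Agent.U62From98CertCode Cfsg.Agent.U62From98CertData Cfsg.Agent.U62From98CertDefs
open Cfsg.Agent.U62From98ACertData
open Cfsg.Agent.U62From98Cert

attribute [local irreducible] comp idc pack U62From98CertCode.mk dig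

variable {U : Type*} [Group U] (M : Model U)

/-- A permutation respecting the table of the class. -/
def Equi (σ : Equiv.Perm (Fin 45)) : Prop :=
  ∀ i t : Fin 45, σ (M.π (M.tE i) t) = M.π (M.tE (σ i)) (σ t)

theorem op_fin {i t : ℕ} (hi : i < 45) (ht : t < 45) :
    (⟨op i t, U62From98Cert.op_lt hi ht⟩ : Fin 45) = M.π (M.tE ⟨i, hi⟩) ⟨t, ht⟩ :=
  Fin.ext (M.op_eq ⟨i, hi⟩ ⟨t, ht⟩).symm

theorem equi_op {σ : Equiv.Perm (Fin 45)} (hσ : Equi M σ) {i t : ℕ} (hi : i < 45) (ht : t < 45) :
    dig (code σ) (op i t) = op (dig (code σ) i) (dig (code σ) t) := by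
  rw [show dig (code σ) i = σ ⟨i, hi⟩ from dig_code (by norm_num) σ ⟨i, hi⟩,
    show dig (code σ) t = σ ⟨t, ht⟩ from dig_code (by norm_num) σ ⟨t, ht⟩,
    show dig (code σ) (op i t) = σ ⟨op i t, U62From98Cert.op_lt hi ht⟩ from
      dig_code (by norm_num) σ ⟨op i t, U62From98Cert.op_lt hi ht⟩,
    op_fin M hi ht, hσ, ← M.op_eq]

theorem dig_lt (σ : Equiv.Perm (Fin 45)) {i : ℕ} (hi : i < 45) : dig (code σ) i < 45 := by
  rw [show dig (code σ) i = σ ⟨i, hi⟩ from dig_code (by norm_num) σ ⟨i, hi⟩]; exact Fin.is_lt _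

theorem prop_map' {σ : Equiv.Perm (Fin 45)} (hσ : Equi M σ) {ps : List ℕ}
    (hps : ∀ p ∈ ps, ∃ v : Equiv.Perm (Fin 45), code v = p ∧ Commute σ v) :
    ∀ (s : List (ℕ × ℕ × ℕ)) (v : List ℕ), wellF ps.length s v.length = true →
      (∀ x ∈ v, x < 45) →
      prop ps s (v.map (dig (code σ))) = (prop ps s v).map (dig (code σ))
  | [], v, _, _ => rfl
  | (k, a, b) :: s, v, hw, hv => by
    simp only [wellF, Bool.and_eq_true, decide_eq_true_eq] at hw
    obtain ⟨⟨⟨hk, ha⟩, hb⟩, hw⟩ := hw
    have ea : (v.map (dig (code σ))).getD a 45 = dig (code σ) (v.getD a 45) := by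
      rw [List.getD_eq_getElem _ _ (by simpa using ha), List.getElem_map,
        List.getD_eq_getElem _ _ ha]
    have eb : (v.map (dig (code σ))).getD b 45 = dig (code σ) (v.getD b 45) := by
      rw [List.getD_eq_getElem _ _ (by simpa using hb), List.getElem_map,
        List.getD_eq_getElem _ _ hb]
    have va : v.getD a 45 < 45 := by
      rw [List.getD_eq_getElem _ _ ha]; exact hv _ (List.getElem_mem _)
    have vb : v.getD b 45 < 45 := by
      rw [List.getD_eq_getElem _ _ hb]; exact hv _ (List.getElem_mem _)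
    set x := (if k = 0 then op (v.getD a 45) (v.getD b 45)
      else dig (ps.getD (k - 1) (idc 45)) (v.getD a 45)) with hx
    have hx45 : x < 45 ∧ (if k = 0 then op ((v.map (dig (code σ))).getD a 45)
        ((v.map (dig (code σ))).getD b 45) else dig (ps.getD (k - 1) (idc 45))
          ((v.map (dig (code σ))).getD a 45)) = dig (code σ) x := by
      rw [hx, ea, eb]
      split_ifs with h0
      · exact ⟨U62From98Cert.op_lt va vb, (equi_op M hσ va vb).symm⟩
      · obtain ⟨u, hu, hcu⟩ := hps (ps.getD (k - 1) (idc 45)) (by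
          rw [List.getD_eq_getElem _ _ (by omega)]; exact List.getElem_mem _)
        rw [← hu, show dig (code u) (v.getD a 45) = u ⟨_, va⟩ from dig_code (by norm_num) u ⟨_, va⟩,
          show dig (code σ) (v.getD a 45) = σ ⟨_, va⟩ from dig_code (by norm_num) σ ⟨_, va⟩,
          dig_code (by norm_num), dig_code (by norm_num)]
        refine ⟨Fin.is_lt _, congrArg Fin.val ?_⟩
        rw [← Equiv.Perm.mul_apply, ← Equiv.Perm.mul_apply, hcu.eq]
    rw [prop, prop, hx45.2, ← prop_map' hσ hps s (v ++ [x]) (by simpa using hw) (by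
      simp only [List.mem_append, List.mem_singleton]
      rintro y (h | rfl)
      exacts [hv y h, hx45.1]), List.map_append]
    rfl

theorem imgs_mem {σ : Equiv.Perm (Fin 45)} (hσ : Equi M σ) {fixed : List ℕ}
    (hf : ∀ f ∈ fixed, f < 45) (hfix : ∀ i : Fin 45, (i : ℕ) ∈ fixed → σ i = i) :
    ∀ {bases : List ℕ}, (∀ b ∈ bases, b < 45) → bases.map (dig (code σ)) ∈ imgs fixed bases
  | [], _ => List.mem_singleton_self _
  | b :: bs, hb => by
    have hb45 := hb b List.mem_cons_self
    refine List.mem_flatMap.2 ⟨dig (code σ) b, List.mem_filter.2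
      ⟨List.mem_range.2 (dig_lt σ hb45), ?_⟩, List.mem_map.2
      ⟨_, imgs_mem hσ hf hfix fun x hx => hb x (List.mem_cons_of_mem _ hx), rfl⟩⟩
    simp only [sim, List.all_eq_true, beq_iff_eq]
    intro f hf'
    have e : dig (code σ) f = f := by
      rw [show dig (code σ) f = σ ⟨f, hf f hf'⟩ from dig_code (by norm_num) σ ⟨f, hf f hf'⟩,
        hfix ⟨f, hf f hf'⟩ hf']
    have h2 := equi_op M hσ hb45 (hf f hf')
    rw [e] at h2
    rw [Bool.eq_iff_iff]
    simp only [com, beq_iff_eq]
    constructor
    · intro h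
      have hinj : ∀ {a c : ℕ}, a < 45 → c < 45 → dig (code σ) a = dig (code σ) c → a = c := by
        intro a c ha hc h
        rw [show dig (code σ) a = σ ⟨a, ha⟩ from dig_code (by norm_num) σ ⟨a, ha⟩,
          show dig (code σ) c = σ ⟨c, hc⟩ from dig_code (by norm_num) σ ⟨c, hc⟩] at h
        exact congrArg Fin.val (σ.injective (Fin.ext h))
      exact hinj (U62From98Cert.op_lt hb45 (hf f hf')) (hf f hf') (by rw [h2, h, e])
    · intro h
      rw [← h2, h, e]

/-- The centralizer bound for permutations respecting the table. -/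
theorem cents_bound {ps fixed bases : List ℕ} {sc : List (ℕ × ℕ × ℕ)} {allowed : List ℕ}
    (h : centsOK ps fixed bases sc allowed = true) {σ : Equiv.Perm (Fin 45)} (hσ : Equi M σ)
    (hps : ∀ p ∈ ps, ∃ v : Equiv.Perm (Fin 45), code v = p ∧ Commute σ v)
    (hfix : ∀ i : Fin 45, (i : ℕ) ∈ fixed → σ i = i) : code σ ∈ allowed := by
  simp only [centsOK, Bool.and_eq_true, List.all_eq_true, List.mem_range, Bool.or_eq_true,
    Bool.not_eq_true', List.contains_iff_mem, decide_eq_true_eq, Cfsg.Agent.LeechCert.force_eq] at h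
  obtain ⟨⟨⟨hw, hv⟩, hknown⟩, hcand⟩ := h
  have hf : ∀ f ∈ fixed, f < 45 := fun f hf => hv f (List.mem_append_left _ hf)
  have hb : ∀ b ∈ bases, b < 45 := fun b hb => hv b (List.mem_append_right _ hb)
  have hmap : (fixed ++ bases).map (dig (code σ)) = fixed ++ bases.map (dig (code σ)) := by
    rw [List.map_append]
    congr 1
    refine (List.map_congr_left fun x hx => ?_).trans (List.map_id fixed)
    rw [show dig (code σ) x = σ ⟨x, hf x hx⟩ from dig_code (by norm_num) σ ⟨x, hf x hx⟩,
      hfix ⟨x, hf x hx⟩ hx]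
    rfl
  have hprop := prop_map' M hσ hps sc (fixed ++ bases) hw hv
  rw [hmap] at hprop
  have hcd : cand ps sc (prop ps sc (fixed ++ bases)) (fixed ++ bases.map (dig (code σ))) =
      code σ := by
    rw [cand, hprop]
    refine (code_eq fun i => ?_).symm
    have hm := hknown i i.2
    have hi := List.idxOf_lt_length_of_mem hm
    rw [List.getD_eq_getElem _ _ (by simpa using hi), List.getElem_map, List.getElem_idxOf hi,
      dig_code (by norm_num)]
  have := hcand _ (imgs_mem M hσ hf hfix hb)
  rw [hcd] at this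
  refine this.resolve_left fun hn => ?_
  have hauto : isAuto ps (code σ) = true := by
    simp only [isAuto, Bool.and_eq_true, List.all_eq_true, List.mem_range, beq_iff_eq,
      decide_eq_true_eq]
    refine ⟨⟨fun p hp i hi => ?_, ?_⟩, fun i hi t ht => equi_op M hσ hi ht⟩
    · obtain ⟨u, rfl, hcu⟩ := hps p hp
      rw [show dig (code u) i = u ⟨i, hi⟩ from dig_code (by norm_num) u ⟨i, hi⟩,
        show dig (code σ) i = σ ⟨i, hi⟩ from dig_code (by norm_num) σ ⟨i, hi⟩,
        dig_code (by norm_num), dig_code (by norm_num), ← Equiv.Perm.mul_apply,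
        ← Equiv.Perm.mul_apply, hcu.eq]
    · refine List.Nodup.map_on (fun a ha b hb' e => ?_) List.nodup_range
      rw [show dig (code σ) a = σ ⟨a, List.mem_range.1 ha⟩ from
          dig_code (by norm_num) σ ⟨a, List.mem_range.1 ha⟩,
        show dig (code σ) b = σ ⟨b, List.mem_range.1 hb'⟩ from
          dig_code (by norm_num) σ ⟨b, List.mem_range.1 hb'⟩] at e
      exact congrArg Fin.val (σ.injective (Fin.ext e))
  rw [hauto] at hn
  exact Bool.noConfusion hn

theorem mem_cent_iff {H : Type*} [Group H] {a x : H} :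
    x ∈ centralizer ({a} : Set H) ↔ x * a = a * x := Subgroup.mem_centralizer_singleton_iff

theorem card_cent_aut (α : MulAut U) (a : U) :
    Nat.card (centralizer ({α a} : Set U)) = Nat.card (centralizer ({a} : Set U)) := by
  refine (Nat.card_congr (α.toEquiv.subtypeEquiv fun x => ?_)).symm
  rw [mem_cent_iff, mem_cent_iff]
  show x * a = a * x ↔ α x * α a = α a * α x
  rw [← map_mul, ← map_mul, α.injective.eq_iff]

theorem aut_T (α : MulAut U) (i : Fin 45) : ∃ k, α (M.tE i) = M.tE k := by
  by_contra hne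
  push Not at hne
  have hT : α (M.tE i) ∉ M.T := fun ⟨k, hk⟩ => hne k hk.symm
  have h1 : α (M.tE i) * α (M.tE i) = 1 := by rw [← map_mul, M.tE_sq, map_one]
  have h2 : α (M.tE i) ≠ 1 := fun e => M.tE_ne i (α.injective (by rw [e, map_one]))
  have h3 := (M.other h1 h2 hT).1
  rw [card_cent_aut, M.cent_T ⟨i, rfl⟩] at h3
  omega

/-- The image of a member. -/
noncomputable def mvA (α : MulAut U) (i : Fin 45) : Fin 45 := (aut_T M α i).choose

theorem mvA_spec (α : MulAut U) (i : Fin 45) : α (M.tE i) = M.tE (mvA M α i) :=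
  (aut_T M α i).choose_spec

theorem mvA_one (i : Fin 45) : mvA M 1 i = i := M.tE_inj (by rw [← mvA_spec, MulAut.one_apply])

theorem mvA_mul (α β : MulAut U) (i : Fin 45) : mvA M (α * β) i = mvA M α (mvA M β i) :=
  M.tE_inj (by rw [← mvA_spec, ← mvA_spec, ← mvA_spec, MulAut.mul_apply])

/-- The action of the automorphism group on the class. -/
noncomputable def rho : MulAut U →* Equiv.Perm (Fin 45) where
  toFun α :=
    { toFun := mvA M α
      invFun := mvA M α⁻¹
      left_inv := fun i => by rw [← mvA_mul, inv_mul_cancel, mvA_one]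
      right_inv := fun i => by rw [← mvA_mul, mul_inv_cancel, mvA_one] }
  map_one' := Equiv.ext (mvA_one M)
  map_mul' α β := Equiv.ext (mvA_mul M α β)

theorem rho_spec (α : MulAut U) (i : Fin 45) : α (M.tE i) = M.tE (rho M α i) := mvA_spec M α i

theorem rho_conj (u : U) : rho M (MulAut.conj u) = M.π u :=
  Equiv.ext fun i => M.tE_inj (by rw [← rho_spec, ← M.conj, MulAut.conj_apply])

theorem rho_injective : Function.Injective (rho M) := by
  intro α β h
  have hle : closure M.T ≤ MonoidHom.eqLocus α.toMonoidHom β.toMonoidHom := by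
    rw [closure_le]
    rintro _ ⟨i, rfl⟩
    show α (M.tE i) = β (M.tE i)
    rw [rho_spec M, rho_spec M, h]
  exact MulEquiv.ext fun u => hle (M.gen ▸ mem_top u)

theorem equi_rho (α : MulAut U) : Equi M (rho M α) := fun i t => M.tE_inj (by
  rw [← rho_spec, ← M.conj, ← M.conj, map_mul, map_mul, map_inv, rho_spec M, rho_spec M])

theorem conj_injective (M : Model U) : Function.Injective (MulAut.conj : U →* MulAut U) :=
  fun u v h => M.inj (by rw [← rho_conj, ← rho_conj, h])

theorem conj_aut (α : MulAut U) (u : U) : α * MulAut.conj u * α⁻¹ = MulAut.conj (α u) :=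
  MulEquiv.ext fun v => by simp

/-- The element of order five. -/
def s0 : U := (fiveW.map M.gE).prod

theorem cd_s0 : M.cd (s0 M) = fiveC' :=
  (exists_word (by norm_num) M.π ⊤ g45 M.gE fiveW M.cd_gE fun k _ => mem_top _).2

theorem order_s0 : orderOf (s0 M) = 5 := by
  haveI : Fact (Nat.Prime 5) := ⟨by norm_num⟩
  have h5 := five_ok
  simp only [Bool.and_eq_true, beq_iff_eq, bne_iff_ne] at h5
  refine orderOf_eq_prime (M.cd_inj (by
    simp only [pow_succ', pow_zero, mul_one]
    rw [M.cd_mul, M.cd_mul, M.cd_mul, M.cd_mul, M.cd_one, cd_s0, h5.2])) fun e => h5.1.2 (by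
    rw [← cd_s0 M, e, M.cd_one])

/-- The reflection on the class. -/
def rPerm : Equiv.Perm (Fin 45) where
  toFun i := ⟨dig rC i % 45, Nat.mod_lt _ (by norm_num)⟩
  invFun i := ⟨dig rC i % 45, Nat.mod_lt _ (by norm_num)⟩
  left_inv i := by
    have h := rC_ok
    simp only [Bool.and_eq_true, List.all_eq_true, List.mem_range, decide_eq_true_eq, beq_iff_eq] at h
    have h2 := (h.1.1.2 i i.2).1
    exact Fin.ext (by simp [Nat.mod_eq_of_lt h2.1, h2.2, Nat.mod_eq_of_lt i.2])
  right_inv i := by
    have h := rC_ok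
    simp only [Bool.and_eq_true, List.all_eq_true, List.mem_range, decide_eq_true_eq, beq_iff_eq] at h
    have h2 := (h.1.1.2 i i.2).1
    exact Fin.ext (by simp [Nat.mod_eq_of_lt h2.1, h2.2, Nat.mod_eq_of_lt i.2])

theorem code_rPerm : code rPerm = rC := by
  have h := rC_ok
  simp only [Bool.and_eq_true, List.all_eq_true, List.mem_range, decide_eq_true_eq, beq_iff_eq] at h
  rw [h.1.1.1]
  exact code_eq fun i => Nat.mod_eq_of_lt (h.1.1.2 i i.2).1.1

theorem rPerm_te (i : Fin 45) : rPerm * M.π (M.tE i) * rPerm = M.π (M.tE (rPerm i)) := by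
  have h := rC_ok
  simp only [Bool.and_eq_true, List.all_eq_true, List.mem_range, decide_eq_true_eq, beq_iff_eq] at h
  refine code_inj (n := 45) (by norm_num) ?_
  rw [code_mul (by norm_num), code_mul (by norm_num), code_rPerm, M.cd_tE, M.cd_tE,
    (h.1.1.2 i i.2).2]
  congr 1
  exact (Nat.mod_eq_of_lt (h.1.1.2 i i.2).1.1).symm

/-- The reflection as an automorphism. -/
theorem exists_reflection : ∃ r : MulAut U, rho M r = rPerm ∧ r * r = 1 ∧ r (s0 M) = s0 M := by
  have h := rC_ok
  simp only [Bool.and_eq_true, List.all_eq_true, List.mem_range, decide_eq_true_eq, beq_iff_eq] at h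
  have hsq : rPerm * rPerm = 1 := Equiv.ext fun i => Fin.ext (by
    have h2 := (h.1.1.2 i i.2).1
    simp [rPerm, Nat.mod_eq_of_lt h2.1, h2.2, Nat.mod_eq_of_lt i.2])
  have hrng : ∀ u : U, rPerm * M.π u * rPerm ∈ M.π.range := by
    intro u
    induction (M.gen ▸ mem_top u : u ∈ closure M.T) using Subgroup.closure_induction with
    | mem x hx => obtain ⟨i, rfl⟩ := hx; exact ⟨_, (rPerm_te M i).symm⟩
    | one => rw [map_one, mul_one, hsq]; exact one_mem _
    | mul x y _ _ hx hy =>
      rw [map_mul, show rPerm * (M.π x * M.π y) * rPerm =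
        rPerm * M.π x * (rPerm * rPerm) * M.π y * rPerm by rw [hsq]; group]
      rw [show rPerm * M.π x * (rPerm * rPerm) * M.π y * rPerm =
        (rPerm * M.π x * rPerm) * (rPerm * M.π y * rPerm) by group]
      exact mul_mem hx hy
    | inv x _ hx =>
      rw [map_inv, show rPerm * (M.π x)⁻¹ * rPerm = (rPerm * M.π x * rPerm)⁻¹ by
        rw [mul_inv_rev, mul_inv_rev, inv_eq_of_mul_eq_one_right hsq, mul_assoc]]
      exact inv_mem hx
  choose ψ hψ using hrng
  have hinv : ∀ u, ψ (ψ u) = u := fun u => M.inj (by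
    rw [hψ, hψ, show rPerm * (rPerm * M.π u * rPerm) * rPerm =
      rPerm * rPerm * M.π u * (rPerm * rPerm) by group, hsq]
    simp)
  let r : MulAut U :=
    { toFun := ψ
      invFun := ψ
      left_inv := hinv
      right_inv := hinv
      map_mul' := fun x y => M.inj (by
        rw [hψ, map_mul, map_mul, hψ, hψ,
          show rPerm * M.π x * rPerm * (rPerm * M.π y * rPerm) =
            rPerm * M.π x * (rPerm * rPerm) * M.π y * rPerm by group, hsq, mul_one]
        group) }
  refine ⟨r, Equiv.ext fun i => M.tE_inj ?_, MulEquiv.ext hinv, M.inj ?_⟩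
  · rw [← rho_spec]
    exact M.inj ((hψ _).trans (rPerm_te M i))
  · show M.π (ψ (s0 M)) = _
    rw [hψ]
    refine code_inj (n := 45) (by norm_num) ?_
    rw [code_mul (by norm_num), code_mul (by norm_num), code_rPerm,
      show code (M.π (s0 M)) = fiveC' from cd_s0 M, h.1.2]
    rw [← cd_s0 M, ← code_rPerm, Model.cd, ← code_mul (by norm_num), ← code_mul (by norm_num),
      mul_assoc, hsq, mul_one]

theorem rPerm_ne_one : rPerm ≠ 1 := fun e => by
  have h := rC_ok
  simp only [Bool.and_eq_true, bne_iff_ne] at h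
  exact h.2 (by rw [← code_rPerm, e, code_one])

/-- The elements fixed by the reflection. -/
theorem card_fixed {r : MulAut U} (hr : rho M r = rPerm) :
    Nat.card ((centralizer ({r} : Set (MulAut U))).comap MulAut.conj) = 720 := by
  haveI := M.finite
  have hL := reflL_ok
  simp only [Bool.and_eq_true, beq_iff_eq, decide_eq_true_eq, List.all_eq_true, List.mem_range,
    List.contains_iff_mem, bne_iff_ne] at hL
  obtain ⟨⟨hlen, hnd⟩, hcl⟩ := hL
  set f : U → ℕ := fun u => code (M.π u * rPerm * (M.π u)⁻¹) with hf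
  have hstep : ∀ j u, f (M.gE j * u) = cj j (f u) := fun j u => by
    simp only [f, cj, map_mul, mul_inv_rev]
    rw [← M.cd_gE_inv, ← M.cd_gE, Model.cd, map_inv, ← code_mul (by norm_num),
      ← code_mul (by norm_num)]
    simp only [mul_assoc]
  have hall : ∀ u, f u ∈ reflL := by
    intro u
    induction u using M.induct with
    | h1 =>
      refine mem_grow _ _ ?_
      simp [f, code_rPerm]
    | hg j u hu =>
      by_cases hj : j < 4
      · rw [hstep]; exact (hcl _ hu).2 j hj
      · rwa [M.gE_out hj, one_mul]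
  have hL2 : ∀ x ∈ reflL, x = idc 45 ∨ ∃ u, f u = x := by
    refine grow_mem (p := fun x => x = idc 45 ∨ ∃ u, f u = x) (Or.inl rfl) (fun j x hx => ?_) _ _
      fun x hx => ?_
    · rcases hx with rfl | ⟨u, rfl⟩
      · left
        rw [← M.cd_one, ← M.cd_cj]
        congr 1
        group
      · exact Or.inr ⟨M.gE j * u, hstep j u⟩
    · rw [List.mem_singleton] at hx
      exact Or.inr ⟨1, by simp [f, hx, code_rPerm]⟩
  have hiff : ∀ n : U, n ∈ (centralizer ({r} : Set (MulAut U))).comap MulAut.conj ↔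
      M.π n * rPerm = rPerm * M.π n := fun n => by
    rw [Subgroup.mem_comap, mem_cent_iff, ← hr, ← rho_conj, ← map_mul, ← map_mul,
      (rho_injective M).eq_iff]
  have h := count_eq ((centralizer ({r} : Set (MulAut U))).comap MulAut.conj) f
    (fun g n hn => by
      simp only [f, map_mul, mul_inv_rev]
      rw [mul_assoc (M.π g), (hiff n).1 hn]
      group)
    (fun g k h => (hiff _).2 (by
      have := congrArg (fun x => (M.π g)⁻¹ * x * M.π k) (code_inj (by norm_num) h)
      simpa [mul_assoc] using this.symm))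
    hnd (fun x => ⟨fun hx => (hL2 x hx).resolve_left (hcl x hx).1, fun ⟨u, hu⟩ => hu ▸ hall u⟩)
  rw [hlen, M.card] at h
  omega

end Cfsg.Agent.U62From98ACert
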