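import Cfsg.Agent.Lib.U62From98ADefs
import Cfsg.Agent.Lib.U62From98ACertModel
import Cfsg.Agent.Lib.AutPSpFull

/-!
The facts about the automorphism group of `U₄(2) ≅ PSp₄(3)`.
-/

set_option autoImplicit false
set_option maxRecDepth 100000
set_option linter.style.haveILetI false

namespace Cfsg.Agent.U62From98ACert

open Subgroup
open Cfsg.Agent.U62From98CertCode Cfsg.Agent.U62From98CertData Cfsg.Agent.U62From98CertDefs
open Cfsg.Agent.U62From98ACertData
open Cfsg.Agent.U62From98Cert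
open Cfsg.Agent.U62From98 (UFacts AFacts Elem2)

attribute [local irreducible] comp idc pack U62From98CertCode.mk dig

/-- A finite invariant set of a group element is invariant under its powers. -/
theorem conj_pow_mem {A : Type*} [Group A] {P : Subgroup A} {x : A}
    (h : ∀ p ∈ P, x * p * x⁻¹ ∈ P) (n : ℕ) : ∀ p ∈ P, x ^ n * p * (x ^ n)⁻¹ ∈ P := by
  induction n with
  | zero => simp
  | succ n ih =>
    intro p hp
    rw [show x ^ (n + 1) * p * (x ^ (n + 1))⁻¹ = x * (x ^ n * p * (x ^ n)⁻¹) * x⁻¹ by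
      rw [pow_succ']; group]
    exact h _ (ih p hp)

theorem eq_one_of_pow {A : Type*} [Group A] {x : A} {m n : ℕ} (hm : x ^ m = 1) (hn : x ^ n = 1)
    (hc : Nat.Coprime m n) : x = 1 := by
  have h1 := orderOf_dvd_of_pow_eq_one hm
  have h2 := orderOf_dvd_of_pow_eq_one hn
  exact orderOf_eq_one_iff.1 (Nat.eq_one_of_dvd_coprimes hc h1 h2)

variable {U : Type*} [Group U]

/-- What is needed about the group and its automorphism group. -/
structure Ctx (M : Model U) (r : MulAut U) : Prop where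
  facts : UFacts M.T
  cardA : Nat.card (MulAut U) = 51840
  rho_r : rho M r = rPerm
  r_sq : r * r = 1
  r_s0 : r (s0 M) = s0 M

namespace Ctx

variable {M : Model U} {r : MulAut U} (C : Ctx M r)

/-- The inner automorphisms. -/
abbrev IU (U : Type*) [Group U] : Subgroup (MulAut U) :=
  (MulAut.conj : U →* MulAut U).range

/-- The element of order five. -/
abbrev sg (M : Model U) : MulAut U := MulAut.conj (s0 M)

include C in
theorem finA : Finite (MulAut U) := Nat.finite_of_card_ne_zero (by rw [C.cardA]; norm_num)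

theorem card_IU (M : Model U) : Nat.card (IU U) = 25920 := by
  rw [← Nat.card_congr (MonoidHom.ofInjective (conj_injective M)).toEquiv, M.card]

include C in
theorem index : (IU U).index = 2 := by
  have h := (IU U).card_mul_index
  rw [card_IU M, C.cardA] at h
  omega

theorem order_sg (M : Model U) : orderOf (sg M) = 5 := by
  rw [show sg M = MulAut.conj (s0 M) from rfl, orderOf_injective _ (conj_injective M), order_s0 M]

theorem sg_mem (M : Model U) : sg M ∈ IU U := ⟨_, rfl⟩

include C in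
theorem comm : Commute (sg M) r := by
  have h := conj_aut r (s0 M)
  rw [C.r_s0] at h
  exact (mul_inv_eq_iff_eq_mul.1 h).symm

theorem eq_sg_pow (u : U) (hu : Commute u (s0 M)) (hT : UFacts M.T) :
    u ∈ zpowers (s0 M) := by
  haveI := M.finite
  have he : zpowers (s0 M) = centralizer ({s0 M} : Set U) :=
    eq_of_le_of_card_ge (zpowers_le.2 (mem_cent_iff.2 rfl))
      (by rw [hT.five _ (order_s0 M), Nat.card_zpowers, order_s0 M])
  rw [he]
  exact mem_cent_iff.2 hu.eq

include C in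
theorem mem_IU_cent {g : MulAut U} (hg : g ∈ IU U) (hc : Commute g (sg M)) : g ∈ zpowers (sg M) := by
  obtain ⟨u, rfl⟩ := hg
  have hcu : Commute u (s0 M) := conj_injective M (by rw [map_mul, map_mul]; exact hc.eq)
  obtain ⟨k, rfl⟩ := eq_sg_pow u hcu C.facts
  exact ⟨k, (map_zpow _ _ _).symm⟩

include C in
theorem r_out : r ∉ IU U := fun h => by
  have h1 := C.mem_IU_cent h C.comm.symm
  obtain ⟨k, hk⟩ := h1
  have h5 : r ^ 5 = 1 := by
    rw [← hk, ← zpow_natCast, ← zpow_mul, mul_comm, zpow_mul, zpow_natCast,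
      ← order_sg M, pow_orderOf_eq_one, one_zpow]
  have hr := C.rho_r
  rw [eq_one_of_pow (m := 2) (n := 5) (by rw [pow_two, C.r_sq]) h5 (by norm_num), map_one] at hr
  exact rPerm_ne_one hr.symm

include C in
theorem odd_mem {g : MulAut U} {n : ℕ} (hg : g ^ (2 * n + 1) = 1) : g ∈ IU U := by
  have h2 : g * g ∈ IU U := mul_self_mem_of_index_two C.index g
  have : g = ((g * g) ^ n)⁻¹ := by
    refine eq_inv_of_mul_eq_one_left ?_
    rw [← pow_two, ← pow_mul, ← pow_succ', hg]
  rw [this]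
  exact inv_mem (pow_mem h2 n)

include C in
theorem card_cent_sg : Nat.card (centralizer ({sg M} : Set (MulAut U))) = 10 := by
  haveI := C.finA
  classical
  have hc := five_cents_ok
  simp only [Bool.and_eq_true, beq_iff_eq] at hc
  have hle : Nat.card (centralizer ({sg M} : Set (MulAut U))) ≤ 10 := by
    let f : centralizer ({sg M} : Set (MulAut U)) → {x : ℕ // x ∈ fiveAut.toFinset} := fun g =>
      ⟨code (rho M g), List.mem_toFinset.2 (cents_bound M hc.1 (equi_rho M g) (fun p hp => by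
        rw [List.mem_singleton] at hp
        refine ⟨M.π (s0 M), by rw [hp]; exact cd_s0 M, ?_⟩
        rw [← rho_conj]
        exact (show Commute (g : MulAut U) (sg M) from mem_cent_iff.1 g.2).map (rho M))
        (fun i hi => absurd hi List.not_mem_nil))⟩
    have := Nat.card_le_card_of_injective f fun a b h =>
      Subtype.ext (rho_injective M (code_inj (by norm_num) (congrArg Subtype.val h)))
    rw [Nat.card_eq_fintype_card (α := {x : ℕ // x ∈ fiveAut.toFinset}), Fintype.card_coe] at this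
    exact this.trans ((List.toFinset_card_le _).trans hc.2.le)
  have h5 : 5 ∣ Nat.card (centralizer ({sg M} : Set (MulAut U))) := by
    rw [← order_sg M, ← Subgroup.orderOf_mk (sg M) (mem_cent_iff.2 rfl)]
    exact orderOf_dvd_natCard _
  have h2 : 2 ∣ Nat.card (centralizer ({sg M} : Set (MulAut U))) := by
    have hr : r ∈ centralizer ({sg M} : Set (MulAut U)) := mem_cent_iff.2 C.comm.eq.symm
    have ho : orderOf r = 2 := orderOf_eq_prime (by rw [pow_two, C.r_sq])
      fun e => C.r_out (e ▸ one_mem _)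
    rw [← ho, ← Subgroup.orderOf_mk r hr]
    exact orderOf_dvd_natCard _
  have hd : 10 ∣ Nat.card (centralizer ({sg M} : Set (MulAut U))) :=
    Nat.Coprime.mul_dvd_of_dvd_of_dvd (show Nat.Coprime 2 5 by norm_num) h2 h5
  exact le_antisymm hle (Nat.le_of_dvd Nat.card_pos hd)

include C in
/-- An element of order five is conjugate to a generator of `⟨σ⟩`. -/
theorem conj_five {s : MulAut U} (hs : orderOf s = 5) :
    ∃ g : MulAut U, zpowers (g * s * g⁻¹) = zpowers (sg M) := by
  haveI := C.finA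
  haveI : Fact (Nat.Prime 5) := ⟨by norm_num⟩
  have hP : ∀ P : Sylow 5 (MulAut U), Nat.card (P : Subgroup (MulAut U)) = 5 := fun P => by
    rw [P.card_eq_multiplicity, C.cardA, show (51840 : ℕ) = 5 * 10368 by norm_num,
      Nat.factorization_mul (by norm_num) (by norm_num), Finsupp.add_apply,
      Nat.Prime.factorization (by norm_num : Nat.Prime 5), Finsupp.single_eq_same,
      Nat.factorization_eq_zero_of_not_dvd (by norm_num : ¬ 5 ∣ 10368)]
    rfl
  obtain ⟨P, hP0⟩ : ∃ P : Sylow 5 (MulAut U), zpowers (sg M) ≤ P :=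
    (IsPGroup.of_card (n := 1) (by rw [Nat.card_zpowers, order_sg M, pow_one])).exists_le_sylow
  have hz : zpowers (sg M) = (P : Subgroup (MulAut U)) :=
    eq_of_le_of_card_ge hP0 (by rw [Nat.card_zpowers, order_sg M, hP])
  obtain ⟨Q, hQ⟩ : ∃ Q : Sylow 5 (MulAut U), zpowers s ≤ Q :=
    (IsPGroup.of_card (n := 1) (by rw [Nat.card_zpowers, hs, pow_one])).exists_le_sylow
  obtain ⟨g, hg⟩ := MulAction.exists_smul_eq (MulAut U) Q P
  have hmem : g * s * g⁻¹ ∈ zpowers (sg M) := by
    rw [hz, ← hg, Sylow.coe_subgroup_smul]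
    exact ⟨s, hQ (mem_zpowers s), rfl⟩
  exact ⟨g, eq_of_le_of_card_ge (zpowers_le.2 hmem) (by
    rw [Nat.card_zpowers, Nat.card_zpowers, order_sg M,
      show g * s * g⁻¹ = MulAut.conj g s from rfl, MulEquiv.orderOf_eq, hs])⟩

include C in
theorem five {s : MulAut U} (hs : orderOf s = 5) :
    Nat.card (centralizer ({s} : Set (MulAut U))) = 10 := by
  obtain ⟨g, hg⟩ := C.conj_five hs
  rw [← U62From98Cert.card_cent_conj g s, ← C.card_cent_sg, ← centralizer_closure,
    ← zpowers_eq_closure, hg, zpowers_eq_closure, centralizer_closure]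

include C in
theorem outer_cent_five {c : MulAut U} (hc : c * c = 1) (hne : c ≠ 1) (hcs : Commute c (sg M)) :
    c = r := by
  have h5 : ∀ x ∈ zpowers (sg M), x ^ 5 = 1 := by
    rintro x ⟨k, rfl⟩
    rw [← zpow_natCast, ← zpow_mul, mul_comm, zpow_mul, zpow_natCast, ← order_sg M,
      pow_orderOf_eq_one, one_zpow]
  have hout : c ∉ IU U := fun h => hne (eq_one_of_pow (m := 2) (n := 5) (by rw [pow_two, hc])
    (h5 _ (C.mem_IU_cent h hcs)) (by norm_num))
  have hm : c * r ∈ IU U := (mul_mem_iff_of_index_two C.index).2 (iff_of_false hout C.r_out)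
  obtain ⟨k, hk⟩ := C.mem_IU_cent hm (hcs.mul_left C.comm.symm)
  have hcr : Commute c r := by
    have h : c = sg M ^ k * r := by
      show c = sg M ^ k * r
      rw [show sg M ^ k = c * r from hk, mul_assoc, C.r_sq, mul_one]
    rw [h]
    exact (C.comm.zpow_left k).mul_left (Commute.refl r)
  have h2 : (c * r) ^ 2 = 1 := by rw [hcr.mul_pow, pow_two, hc, pow_two, C.r_sq, mul_one]
  have h1 : c * r = 1 := eq_one_of_pow h2 (h5 _ ⟨k, hk⟩) (by norm_num)
  exact (mul_eq_one_iff_eq_inv.1 h1).trans (inv_eq_of_mul_eq_one_right C.r_sq)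

include C in
theorem outer_sixteen {c : MulAut U} (hc : c ∉ IU U) {E : Subgroup (MulAut U)} (hle : E ≤ IU U)
    (hE : Elem2 E) (hcard : Nat.card E = 16) : ¬ ∀ p ∈ E, Commute c p := by
  intro hcom
  haveI := M.finite
  set E0 : Subgroup U := E.comap MulAut.conj with hE0
  have hE0e : Elem2 E0 := ⟨fun a ha => conj_injective M (by rw [map_mul, map_one]; exact hE.1 _ ha),
    fun a ha b hb => conj_injective M (by rw [map_mul, map_mul]; exact (hE.2 _ ha _ hb).eq)⟩
  have hE0c : Nat.card E0 = 16 := by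
    rw [← hcard, ← Subgroup.card_map_of_injective (K := E0) (conj_injective M), hE0,
      Subgroup.map_comap_eq, inf_eq_right.2 hle]
  obtain ⟨-, hfive, -⟩ := C.facts.sixteen E0 hE0e hE0c
  obtain ⟨_, ⟨⟨i, rfl⟩, hiE⟩, _, ⟨⟨k, rfl⟩, hkE⟩, hik⟩ :=
    (Set.one_lt_ncard).1 (show 1 < {t | t ∈ M.T ∧ t ∈ E0}.ncard by rw [hfive]; norm_num)
  have hco : com i k = true := (M.commute_iff i k).1 (hE0e.2 _ hiE _ hkE)
  obtain ⟨g, hgA, hgB⟩ := M.pair_reach i k (fun e => hik (by rw [e])) hco
  set c' : MulAut U := (MulAut.conj g)⁻¹ * c * MulAut.conj g with hc'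
  have hfix0 : ∀ u : U, g * u * g⁻¹ ∈ E0 → c' u = u := by
    intro u hu
    have h1 : c (g * u * g⁻¹) = g * u * g⁻¹ := conj_injective M (by
      rw [← conj_aut]
      exact mul_inv_eq_iff_eq_mul.2 (hcom _ hu).eq)
    have e1 : MulAut.conj g u = g * u * g⁻¹ := rfl
    rw [hc', MulAut.mul_apply, MulAut.mul_apply, e1, h1, ← e1, ← map_inv, ← MulAut.mul_apply,
      ← map_mul, inv_mul_cancel, map_one, MulAut.one_apply]
  have hh := pts_cents_ok
  simp only [Bool.and_eq_true, List.all_eq_true, List.mem_range, decide_eq_true_eq, beq_iff_eq,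
    Bool.or_eq_true, Bool.not_eq_true', List.contains_iff_mem] at hh
  obtain ⟨⟨⟨⟨⟨hcents, hlt⟩, -⟩, hsub⟩, hnd⟩, hlen⟩ := hh
  classical
  set J : Finset (Fin 45) := Finset.univ.filter fun j => g * M.tE j * g⁻¹ ∈ E0 with hJ
  have hJc : J.card = 5 := by
    rw [← hfive, ← Set.ncard_coe_finset]
    refine Set.ncard_congr (fun j _ => g * M.tE j * g⁻¹) ?_ ?_ ?_
    · intro j hj
      exact ⟨M.conj_T ⟨j, rfl⟩ g, (Finset.mem_filter.1 hj).2⟩
    · intro a b _ _ e
      exact M.tE_inj (mul_left_cancel (mul_right_cancel e))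
    · rintro t ⟨⟨l, rfl⟩, htE⟩
      obtain ⟨j, hj⟩ := M.conj_T ⟨l, rfl⟩ g⁻¹
      have e : g * M.tE j * g⁻¹ = M.tE l := by rw [hj]; group
      exact ⟨j, Finset.mem_filter.2 ⟨Finset.mem_univ _, e.symm ▸ htE⟩, e⟩
  have hJeq : ∀ j : Fin 45, (j : ℕ) ∈ fivePts → g * M.tE j * g⁻¹ ∈ E0 := by
    have hsubJ : J.image Fin.val ⊆ fivePts.toFinset := by
      intro x hx
      obtain ⟨j, hj, rfl⟩ := Finset.mem_image.1 hx
      have hjE := (Finset.mem_filter.1 hj).2
      have hA : com j nA = true := by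
        rw [← hgA] at hiE
        exact (M.commute_iff j ⟨nA, nA_lt.1⟩).1
          (U62RecogSetup19.commute_cj_iff.1 (hE0e.2 _ hjE _ hiE))
      have hB : com j nB = true := by
        rw [← hgB] at hkE
        exact (M.commute_iff j ⟨nB, nA_lt.2⟩).1
          (U62RecogSetup19.commute_cj_iff.1 (hE0e.2 _ hjE _ hkE))
      exact List.mem_toFinset.2 ((hsub j j.2).resolve_left (by simp [hA, hB]))
    have heq := Finset.eq_of_subset_of_card_le hsubJ (by
      rw [Finset.card_image_of_injective _ Fin.val_injective, hJc,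
        List.toFinset_card_of_nodup hnd, hlen])
    intro j hj
    obtain ⟨j', hj', e⟩ := Finset.mem_image.1 (heq.ge (List.mem_toFinset.2 hj))
    exact Fin.ext e ▸ (Finset.mem_filter.1 hj').2
  have hfix : ∀ j : Fin 45, (j : ℕ) ∈ fivePts → c' (M.tE j) = M.tE j := fun j hj =>
    hfix0 _ (hJeq j hj)
  have hb := cents_bound M hcents (equi_rho M c') (fun p hp => by
    obtain ⟨j, hj, rfl⟩ := List.mem_map.1 hp
    refine ⟨M.π (M.tE ⟨j, hlt j hj⟩), M.cd_te (hlt j hj), ?_⟩
    rw [← rho_conj]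
    have : Commute c' (MulAut.conj (M.tE ⟨j, hlt j hj⟩)) := by
      have h := conj_aut c' (M.tE ⟨j, hlt j hj⟩)
      rw [hfix _ hj] at h
      exact mul_inv_eq_iff_eq_mul.1 h
    exact this.map (rho M))
    (fun j hj => M.tE_inj (by rw [← rho_spec, hfix j hj]))
  have hprods : ∀ (l : List ℕ), (∀ x ∈ l, x < 45) → ∀ x ∈ prods l, ∃ u, M.cd u = x := by
    intro l
    induction l with
    | nil => intro _ x hx; rw [prods, List.mem_singleton] at hx; exact ⟨1, hx ▸ M.cd_one⟩
    | cons a l ih =>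
      intro hl x hx
      have hl' := fun y hy => hl y (List.mem_cons_of_mem _ hy)
      rcases List.mem_append.1 hx with h | h
      · exact ih hl' x h
      · obtain ⟨y, hy, rfl⟩ := List.mem_map.1 h
        obtain ⟨u, rfl⟩ := ih hl' y hy
        exact ⟨M.tE ⟨a, hl a List.mem_cons_self⟩ * u, by rw [M.cd_mul, M.cd_te]⟩
  obtain ⟨u, hu⟩ := hprods _ (fun x hx => hlt x (List.mem_of_mem_take hx)) _ hb
  have hcu : c' = MulAut.conj u := rho_injective M (by
    rw [rho_conj]; exact (code_inj (by norm_num) hu).symm)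
  refine hc ⟨g * u * g⁻¹, ?_⟩
  rw [map_mul, map_mul, map_inv, ← hcu, hc']
  group

include C in
theorem outer_stab {c : MulAut U} (hc : c ∉ IU U) :
    ¬ 96 ∣ Nat.card (centralizer ({c} : Set (MulAut U)) ⊓ IU U : Subgroup (MulAut U)) := by
  intro hd
  haveI := C.finA
  haveI := M.finite
  haveI : Fact (Nat.Prime 2) := ⟨Nat.prime_two⟩
  obtain ⟨Q, hQc⟩ := Sylow.exists_subgroup_card_pow_prime
    (G := (centralizer ({c} : Set (MulAut U)) ⊓ IU U : Subgroup (MulAut U))) 2 (n := 5)
    (dvd_trans (by norm_num) hd)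
  set QA : Subgroup (MulAut U) :=
    Q.map (centralizer ({c} : Set (MulAut U)) ⊓ IU U : Subgroup (MulAut U)).subtype with hQA
  have hQAc : Nat.card QA = 32 := by
    rw [hQA, Subgroup.card_map_of_injective (Subgroup.subtype_injective _), hQc]; norm_num
  have hQA2 : ∀ x ∈ QA, Commute x c ∧ x ∈ IU U := by
    rintro _ ⟨x, -, rfl⟩
    exact ⟨mem_cent_iff.1 x.2.1, x.2.2⟩
  set Q0 : Subgroup U := QA.comap MulAut.conj with hQ0
  have hQ0c : Nat.card Q0 = 32 := by
    rw [← hQAc, ← Subgroup.card_map_of_injective (K := Q0) (conj_injective M), hQ0,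
      Subgroup.map_comap_eq, inf_eq_right.2 fun x hx => (hQA2 x hx).2]
  have hfix : ∀ u ∈ Q0, c u = u := fun u hu => conj_injective M (by
    rw [← conj_aut]
    exact mul_inv_eq_iff_eq_mul.2 (hQA2 _ hu).1.symm.eq)
  obtain ⟨g, hg⟩ := M.conj_into Q0 (IsPGroup.of_card (n := 5) (by rw [hQ0c]; norm_num))
  set c' : MulAut U := MulAut.conj g * c * (MulAut.conj g)⁻¹ with hc'
  set Q' : Subgroup U := Q0.map (MulAut.conj g).toMonoidHom with hQ'
  have hQ'c : Nat.card Q' = 32 := by
    rw [hQ', Subgroup.card_map_of_injective (MulAut.conj g).injective, hQ0c]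
  have hQ'S : Q' ≤ M.sylowSub := by
    rintro _ ⟨u, hu, rfl⟩
    exact hg u hu
  have hfix' : ∀ u ∈ Q', c' u = u := by
    rintro _ ⟨u, hu, rfl⟩
    rw [hc', MulEquiv.coe_toMonoidHom, MulAut.mul_apply, MulAut.mul_apply,
      MulAut.inv_apply_self, hfix u hu]
  have hidx : (Q'.subgroupOf M.sylowSub).index = 2 := by
    have h := (Q'.subgroupOf M.sylowSub).card_mul_index
    rw [Nat.card_congr (Subgroup.subgroupOfEquivOfLe hQ'S).toEquiv, hQ'c, M.card_sylowSub] at h
    omega
  have hsq : ∀ i < 64, c' (M.sE i * M.sE i) = M.sE i * M.sE i := fun i hi => by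
    refine hfix' _ ?_
    have h := mul_self_mem_of_index_two hidx (⟨M.sE i, M.sE_mem_sL i⟩ : M.sylowSub)
    exact h
  have hh := sq_cents_ok
  simp only [Bool.and_eq_true, List.all_eq_true, decide_eq_true_eq, List.contains_iff_mem] at hh
  obtain ⟨⟨hcents, hA⟩, hlt⟩ := hh
  have hps : ∀ p ∈ sqL, ∃ i < 64, M.cd (M.sE i * M.sE i) = p := by
    intro p hp
    obtain ⟨i, hi, rfl⟩ := List.mem_map.1 hp
    obtain ⟨-, he⟩ := M.mu_spec (hlt i hi) (hlt i hi)
    exact ⟨i, hlt i hi, by rw [he, M.cd_sE]⟩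
  have hb := cents_bound M hcents (equi_rho M c') (fun p hp => by
    obtain ⟨i, hi, rfl⟩ := hps p hp
    refine ⟨M.π (M.sE i * M.sE i), rfl, ?_⟩
    rw [← rho_conj]
    have : Commute c' (MulAut.conj (M.sE i * M.sE i)) := by
      have h := conj_aut c' (M.sE i * M.sE i)
      rw [hsq i hi] at h
      exact mul_inv_eq_iff_eq_mul.1 h
    exact this.map (rho M)) (fun j hj => by
    rw [List.mem_singleton] at hj
    refine M.tE_inj ?_
    obtain ⟨i, hi, he⟩ := hps _ hA
    have e : M.sE i * M.sE i = M.tE j := M.cd_inj (by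
      rw [he, show M.cd (M.tE j) = te j from M.cd_te j.2, hj])
    rw [← rho_spec, ← e, hsq i hi])
  obtain ⟨i, -, hu⟩ := List.mem_map.1 hb
  rw [← M.cd_sE] at hu
  have hcu : c' = MulAut.conj (M.sE i) := rho_injective M (by
    rw [rho_conj]; exact (code_inj (by norm_num) hu).symm)
  refine hc ⟨g⁻¹ * M.sE i * g, ?_⟩
  rw [map_mul, map_mul, map_inv, ← hcu, hc']
  group

include C in
theorem fp_card {Q : Subgroup (MulAut U)} {p n : ℕ} (hp : Q ≤ IU U) (hpn : Nat.card Q = p ^ n)
    (hco : Nat.Coprime 5 p) (hst : ∀ q ∈ Q, sg M * q * (sg M)⁻¹ ∈ Q) : Nat.card Q % 5 = 1 := by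
  haveI := C.finA
  haveI : Fact (Nat.Prime 5) := ⟨by norm_num⟩
  let act : MulAction (zpowers (sg M)) Q :=
    { smul := fun x q => ⟨(x : MulAut U) * q * (x : MulAut U)⁻¹, by
        obtain ⟨k, hk⟩ := (mem_powers_iff_mem_zpowers (x := sg M)).2 x.2
        rw [← show sg M ^ k = (x : MulAut U) from hk]
        exact conj_pow_mem hst k q q.2⟩
      one_smul := fun q => Subtype.ext (by show (1 : MulAut U) * _ * (1 : MulAut U)⁻¹ = _; group)
      mul_smul := fun x y q => Subtype.ext (by
        show (↑(x * y) : MulAut U) * _ * (↑(x * y) : MulAut U)⁻¹ = _ * (_ * _ * _) * _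
        rw [Subgroup.coe_mul]; group) }
  letI := act
  have hcong := (IsPGroup.of_card (p := 5) (n := 1)
    (by rw [Nat.card_zpowers, order_sg M, pow_one] : Nat.card (zpowers (sg M)) = 5 ^ 1)).card_modEq_card_fixedPoints Q
  have hone : MulAction.fixedPoints (zpowers (sg M)) Q = {1} := by
    ext q
    constructor
    · intro hq
      have h1 : sg M * (q : MulAut U) * (sg M)⁻¹ = q :=
        congrArg Subtype.val (hq ⟨sg M, mem_zpowers _⟩)
      obtain ⟨k, hk⟩ := C.mem_IU_cent (hp q.2) (mul_inv_eq_iff_eq_mul.1 h1).symm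
      have h5 : (q : MulAut U) ^ 5 = 1 := by
        rw [← hk, ← zpow_natCast, ← zpow_mul, mul_comm, zpow_mul, zpow_natCast,
          ← order_sg M, pow_orderOf_eq_one, one_zpow]
      have hq2 : (q : MulAut U) ^ p ^ n = 1 := by
        rw [← hpn]
        exact_mod_cast congrArg Subtype.val (pow_card_eq_one' (x := q))
      exact Subtype.ext (eq_one_of_pow h5 hq2 (hco.pow_right n))
    · rintro rfl x
      exact Subtype.ext (by
        show (x : MulAut U) * ((1 : Q) : MulAut U) * (x : MulAut U)⁻¹ = _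
        rw [Subgroup.coe_one]; group)
  rw [hone, show Nat.card ↑({1} : Set Q) = 1 by simp] at hcong
  exact hcong

include C in
theorem two_pow_card {Q : Subgroup (MulAut U)} (hQ : Q ≤ IU U) {n : ℕ} (hn : Nat.card Q = 2 ^ n)
    (hst : ∀ q ∈ Q, sg M * q * (sg M)⁻¹ ∈ Q) : n = 0 ∨ n = 4 := by
  haveI := C.finA
  have h5 := C.fp_card hQ hn (by norm_num) hst
  have hd : 2 ^ n ∣ 25920 := by rw [← hn, ← card_IU M]; exact Subgroup.card_dvd_of_le hQ
  have hn7 : n < 7 := by
    by_contra hh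
    have : (128 : ℕ) ∣ 25920 := (pow_dvd_pow 2 (show 7 ≤ n by omega)).trans hd
    norm_num at this
  rw [hn] at h5
  interval_cases n <;> simp_all

include C in
/-- A σ-stable 2-group of the centralizer of the reflection. -/
theorem refl_core {P : Subgroup (MulAut U)} (hP : IsPGroup 2 P) (hPr : ∀ p ∈ P, Commute p r)
    (hst : ∀ p ∈ P, sg M * p * (sg M)⁻¹ ∈ P) : ∀ p ∈ P, p = 1 ∨ p = r := by
  haveI := C.finA
  haveI : Fact (Nat.Prime 2) := ⟨Nat.prime_two⟩
  haveI : (IU U).Normal := normal_of_index_eq_two C.index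
  set Q : Subgroup (MulAut U) := P ⊓ IU U with hQ
  have hQst : ∀ q ∈ Q, sg M * q * (sg M)⁻¹ ∈ Q := fun q hq =>
    ⟨hst q hq.1, Subgroup.Normal.conj_mem inferInstance q hq.2 _⟩
  obtain ⟨n, hn⟩ := IsPGroup.iff_card.1 (hP.to_le (inf_le_left : Q ≤ P))
  have hQ1 : ∀ q ∈ Q, q = 1 := by
    rcases C.two_pow_card inf_le_right hn hQst with rfl | rfl
    · intro q hq
      rw [Subgroup.eq_bot_of_card_eq Q (by rw [hn]; rfl), Subgroup.mem_bot] at hq
      exact hq
    exfalso
    haveI : Nontrivial Q := Finite.one_lt_card_iff_nontrivial.1 (by rw [hn]; norm_num)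
    -- the involutions in the centre
    let W : Subgroup (MulAut U) :=
      { carrier := {z | z ∈ Q ∧ z * z = 1 ∧ ∀ q ∈ Q, Commute z q}
        one_mem' := ⟨one_mem _, one_mul _, fun q _ => Commute.one_left q⟩
        mul_mem' := fun {a b} ha hb => ⟨mul_mem ha.1 hb.1, by
          rw [show a * b * (a * b) = a * (b * a) * b by group, ← (ha.2.2 b hb.1).eq,
            show a * (a * b) * b = (a * a) * (b * b) by group, ha.2.1, hb.2.1, one_mul],
          fun q hq => (ha.2.2 q hq).mul_left (hb.2.2 q hq)⟩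
        inv_mem' := fun {a} ha => by
          rw [show a⁻¹ = a from inv_eq_of_mul_eq_one_right ha.2.1]; exact ha }
    have hWQ : W ≤ Q := fun z hz => hz.1
    have hWst : ∀ z ∈ W, sg M * z * (sg M)⁻¹ ∈ W := fun z hz => by
      refine ⟨hQst z hz.1, ?_, fun q hq => ?_⟩
      · rw [show sg M * z * (sg M)⁻¹ * (sg M * z * (sg M)⁻¹) = sg M * (z * z) * (sg M)⁻¹ by group,
          hz.2.1, mul_one, mul_inv_cancel]
      · obtain ⟨k, hk⟩ : ∃ k ∈ Q, sg M * k * (sg M)⁻¹ = q := by
          refine ⟨sg M ^ 4 * q * (sg M ^ 4)⁻¹, conj_pow_mem hQst 4 q hq, ?_⟩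
          have h5 : sg M ^ 5 = 1 := order_sg M ▸ pow_orderOf_eq_one _
          rw [show sg M * (sg M ^ 4 * q * (sg M ^ 4)⁻¹) * (sg M)⁻¹ =
            sg M ^ 5 * q * (sg M ^ 5)⁻¹ by rw [pow_succ' (sg M) 4]; group, h5]
          group
        rw [← hk.2]
        exact U62RecogSetup19.commute_cj _ (hz.2.2 k hk.1)
    obtain ⟨z, hz⟩ : ∃ z ∈ W, z ≠ 1 := by
      have hQp : IsPGroup 2 Q := IsPGroup.of_card hn
      haveI := hQp.center_nontrivial
      have hd : 2 ∣ Nat.card (center Q) := by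
        obtain ⟨m, hm⟩ := IsPGroup.iff_card.1 (hQp.to_subgroup (center Q))
        have h1 : 1 < Nat.card (center Q) := Finite.one_lt_card
        rw [hm] at h1 ⊢
        exact dvd_pow_self 2 (fun e => by rw [e] at h1; exact absurd h1 (by norm_num))
      obtain ⟨z, hz⟩ := exists_prime_orderOf_dvd_card' (G := center Q) 2 hd
      refine ⟨((z : Q) : MulAut U), ⟨(z : Q).2, ?_, fun q hq => ?_⟩, ?_⟩
      · have h : z * z = 1 := by rw [← pow_two, ← hz, pow_orderOf_eq_one]
        exact congrArg (fun x : center Q => ((x : Q) : MulAut U)) h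
      · exact congrArg Subtype.val (Subgroup.mem_center_iff.1 z.2 ⟨q, hq⟩).symm
      · intro e
        have : z = 1 := Subtype.ext (Subtype.ext e)
        rw [this, orderOf_one] at hz
        exact absurd hz (by norm_num)
    obtain ⟨m, hm⟩ := IsPGroup.iff_card.1 ((IsPGroup.of_card hn).to_le hWQ)
    rcases C.two_pow_card (hWQ.trans inf_le_right) hm hWst with rfl | rfl
    · have := Subgroup.eq_bot_of_card_eq W (by rw [hm]; rfl)
      exact hz.2 (Subgroup.mem_bot.1 (this ▸ hz.1))
    have hWQ' : W = Q := eq_of_le_of_card_ge hWQ (by rw [hm, hn])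
    have hQe : Elem2 Q := by
      refine ⟨fun a ha => ?_, fun a ha b hb => ?_⟩
      · exact (show a ∈ W from hWQ'.symm ▸ ha).2.1
      · exact (show a ∈ W from hWQ'.symm ▸ ha).2.2 b hb
    exact C.outer_sixteen C.r_out inf_le_right hQe (by rw [hn]; norm_num)
      fun q hq => (hPr q hq.1).symm
  intro p hp
  by_cases hpU : p ∈ IU U
  · exact Or.inl (hQ1 p ⟨hp, hpU⟩)
  have hcs : Commute p (sg M) := by
    have hu : sg M * p * (sg M)⁻¹ * p⁻¹ ∈ Q := by
      refine Subgroup.mem_inf.2 ⟨P.mul_mem (hst p hp) (P.inv_mem hp), ?_⟩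
      rw [show sg M * p * (sg M)⁻¹ * p⁻¹ = sg M * (p * (sg M)⁻¹ * p⁻¹) by group]
      exact mul_mem (sg_mem M) (Subgroup.Normal.conj_mem inferInstance _ (inv_mem (sg_mem M)) _)
    exact (mul_inv_eq_iff_eq_mul.1 (mul_inv_eq_one.1 (hQ1 _ hu))).symm
  have hp2 : p * p = 1 := hQ1 _ ⟨mul_mem hp hp, mul_self_mem_of_index_two C.index p⟩
  exact Or.inr (C.outer_cent_five hp2 (fun e => hpU (e ▸ one_mem _)) hcs)

include C in
theorem refl {s c : MulAut U} (hs : orderOf s = 5) (hc : c * c = 1) (hne : c ≠ 1)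
    (hcs : Commute c s) : c ∉ IU U ∧
    ∀ P : Subgroup (MulAut U), IsPGroup 2 P → (∀ p ∈ P, Commute p c) →
      (∀ p ∈ P, s * p * s⁻¹ ∈ P) → ∀ p ∈ P, p = 1 ∨ p = c := by
  haveI := C.finA
  haveI : (IU U).Normal := normal_of_index_eq_two C.index
  obtain ⟨g, hg⟩ := C.conj_five hs
  obtain ⟨k, hk⟩ := (mem_powers_iff_mem_zpowers (x := g * s * g⁻¹) (y := sg M)).2
    (hg.symm ▸ mem_zpowers (sg M))
  have hk' : (g * s * g⁻¹) ^ k = sg M := hk
  have hcr : g * c * g⁻¹ = r := by
    refine C.outer_cent_five ?_ (fun e => hne (conj_eq_one_iff.1 e)) ?_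
    · rw [show g * c * g⁻¹ * (g * c * g⁻¹) = g * (c * c) * g⁻¹ by group, hc, mul_one, mul_inv_cancel]
    · rw [← hk']
      exact (U62RecogSetup19.commute_cj g hcs).pow_right k
  refine ⟨fun h => C.r_out (hcr ▸ Subgroup.Normal.conj_mem inferInstance c h g), fun P hP hPc hst p hp => ?_⟩
  have h2 := C.refl_core (P := P.map (MulAut.conj g).toMonoidHom) (hP.map _) (by
      rintro _ ⟨q, hq, rfl⟩
      rw [← hcr]
      exact U62RecogSetup19.commute_cj g (hPc q hq)) (by
      rw [← hk']
      refine conj_pow_mem ?_ k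
      rintro _ ⟨q, hq, rfl⟩
      refine ⟨s * q * s⁻¹, hst q hq, ?_⟩
      simp only [MulEquiv.coe_toMonoidHom, MulAut.conj_apply]
      group) (g * p * g⁻¹) ⟨p, hp, rfl⟩
  rcases h2 with h2 | h2
  · exact Or.inl (conj_eq_one_iff.1 h2)
  · exact Or.inr (mul_left_cancel (mul_right_cancel (h2.trans hcr.symm)))

include C in
theorem kernel {N : Subgroup (MulAut U)} (hNr : ∀ n ∈ N, Commute n r)
    (hN : ∀ g : MulAut U, Commute g r → ∀ n ∈ N, g * n * g⁻¹ ∈ N) (hs : sg M ∉ N) :
    ∀ n ∈ N, n = 1 ∨ n = r := by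
  haveI := C.finA
  haveI : Fact (Nat.Prime 5) := ⟨by norm_num⟩
  haveI : Fact (Nat.Prime 3) := ⟨Nat.prime_three⟩
  haveI : Fact (Nat.Prime 2) := ⟨Nat.prime_two⟩
  have hst : ∀ n ∈ N, sg M * n * (sg M)⁻¹ ∈ N := hN _ C.comm
  set H : Subgroup (MulAut U) := centralizer ({r} : Set (MulAut U)) with hH
  have hNH : N ≤ H := fun n hn => mem_cent_iff.2 (hNr n hn).eq
  have hdN : Nat.card N ∣ 51840 := C.cardA ▸ Subgroup.card_subgroup_dvd_card N
  have hdH : Nat.card H ∣ 51840 := C.cardA ▸ Subgroup.card_subgroup_dvd_card H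
  have hm5 : ∀ (K : Subgroup (MulAut U)) (P : Sylow 5 K), Nat.card (P : Subgroup K) ≤ 5 := by
    intro K P
    obtain ⟨a, ha⟩ := IsPGroup.iff_card.1 P.2
    have hd : 5 ^ a ∣ 51840 := ha ▸ (Subgroup.card_subgroup_dvd_card _).trans
      (C.cardA ▸ Subgroup.card_subgroup_dvd_card K)
    rw [ha]
    by_contra hh
    have : 2 ≤ a := by
      by_contra h2
      interval_cases a <;> simp at hh
    have : (25 : ℕ) ∣ 51840 := (pow_dvd_pow 5 this).trans hd
    norm_num at this
  have hN5 : ¬ 5 ∣ Nat.card N := by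
    intro hd
    obtain ⟨x, hx⟩ := exists_prime_orderOf_dvd_card' (G := N) 5 hd
    let x' : H := ⟨x, hNH x.2⟩
    let s' : H := ⟨sg M, mem_cent_iff.2 C.comm.eq⟩
    have hox : orderOf x' = 5 := by
      rw [← Subgroup.orderOf_coe x']; exact (Subgroup.orderOf_coe x).trans hx
    have hos : orderOf s' = 5 := by rw [← Subgroup.orderOf_coe s']; exact order_sg M
    obtain ⟨P, hP⟩ : ∃ P : Sylow 5 H, zpowers s' ≤ P :=
      (IsPGroup.of_card (n := 1) (by rw [Nat.card_zpowers, hos, pow_one])).exists_le_sylow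
    obtain ⟨Q, hQ⟩ : ∃ Q : Sylow 5 H, zpowers x' ≤ Q :=
      (IsPGroup.of_card (n := 1) (by rw [Nat.card_zpowers, hox, pow_one])).exists_le_sylow
    obtain ⟨g, hg⟩ := MulAction.exists_smul_eq H P Q
    have hz : zpowers x' = (Q : Subgroup H) := eq_of_le_of_card_ge hQ (by
      rw [Nat.card_zpowers, hox]; exact hm5 H Q)
    have hgs : g * s' * g⁻¹ ∈ zpowers x' := by
      rw [hz, ← hg, Sylow.coe_subgroup_smul]
      exact ⟨s', hP (mem_zpowers s'), rfl⟩
    obtain ⟨k, hk⟩ := hgs
    have h1 : (g : MulAut U) * sg M * (g : MulAut U)⁻¹ ∈ N := by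
      have e := congrArg (fun y : H => (y : MulAut U)) hk
      simp only [Subgroup.coe_zpow, Subgroup.coe_mul, Subgroup.coe_inv] at e
      exact e ▸ zpow_mem x.2 k
    have h2 := hN (g : MulAut U)⁻¹
      (show Commute (g : MulAut U) r from mem_cent_iff.1 g.2).inv_left _ h1
    rw [show (g : MulAut U)⁻¹ * ((g : MulAut U) * sg M * (g : MulAut U)⁻¹) *
      (g : MulAut U)⁻¹⁻¹ = sg M by group] at h2
    exact hs h2
  have hN3 : ¬ 3 ∣ Nat.card N := by
    intro hd
    let σN : MulAut N :=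
      { toFun := fun n => ⟨sg M * n * (sg M)⁻¹, hst n n.2⟩
        invFun := fun n => ⟨(sg M)⁻¹ * n * sg M, by
          have := hN (sg M)⁻¹ C.comm.inv_left n n.2
          simpa using this⟩
        left_inv := fun n => Subtype.ext (by simp [mul_assoc])
        right_inv := fun n => Subtype.ext (by simp [mul_assoc])
        map_mul' := fun a b => Subtype.ext (by simp [mul_assoc]) }
    have hpow : ∀ (k : ℕ) (n : N), (((σN ^ k) n : N) : MulAut U) =
        sg M ^ k * n * (sg M ^ k)⁻¹ := by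
      intro k
      induction k with
      | zero => intro n; simp
      | succ k ih =>
        intro n
        rw [pow_succ', MulAut.mul_apply]
        show sg M * (((σN ^ k) n : N) : MulAut U) * (sg M)⁻¹ = _
        rw [ih, pow_succ']
        group
    have hσ5 : σN ^ 5 = 1 := MulEquiv.ext fun n => Subtype.ext (by
      rw [hpow, show sg M ^ 5 = 1 from order_sg M ▸ pow_orderOf_eq_one _]
      simp)
    haveI : Fintype (Sylow 3 N) := Fintype.ofFinite _
    let act : MulAction (zpowers σN) (Sylow 3 N) := inferInstance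
    letI := act
    have hpg : IsPGroup 5 (zpowers σN) := by
      intro x
      refine ⟨1, ?_⟩
      obtain ⟨k, hk⟩ := x.2
      refine Subtype.ext ?_
      rw [Subgroup.coe_pow, Subgroup.coe_one, pow_one, ← hk, ← zpow_natCast, ← zpow_mul, mul_comm,
        zpow_mul, zpow_natCast, hσ5, one_zpow]
    obtain ⟨P0⟩ : Nonempty (Sylow 3 N) := inferInstance
    have hn3 : ¬ 5 ∣ Nat.card (Sylow 3 N) := fun h => hN5
      (h.trans ((P0.card_dvd_index).trans (Subgroup.index_dvd_card _)))
    obtain ⟨P, hP⟩ := hpg.nonempty_fixed_point_of_prime_not_dvd_card (Sylow 3 N) hn3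
    have hPne : (P : Subgroup N) ≠ ⊥ := P.ne_bot_of_dvd_card hd
    set PA : Subgroup (MulAut U) := (P : Subgroup N).map N.subtype with hPA
    obtain ⟨a, ha⟩ := IsPGroup.iff_card.1 P.2
    have hPAc : Nat.card PA = 3 ^ a := by
      rw [hPA, Subgroup.card_map_of_injective N.subtype_injective, ha]
    have hPAU : PA ≤ IU U := by
      rintro _ ⟨x, hx, rfl⟩
      have h1 : (⟨x, hx⟩ : (P : Subgroup N)) ^ (3 ^ a) = 1 := ha ▸ pow_card_eq_one'
      have h3 : (x : MulAut U) ^ (3 ^ a) = 1 := by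
        simpa using congrArg (fun y : (P : Subgroup N) => ((y : N) : MulAut U)) h1
      obtain ⟨j, hj⟩ : Odd (3 ^ a) := (by decide : Odd 3).pow
      exact C.odd_mem (n := j) (hj ▸ h3)
    have hPAst : ∀ q ∈ PA, sg M * q * (sg M)⁻¹ ∈ PA := by
      rintro _ ⟨x, hx, rfl⟩
      refine ⟨σN x, ?_, rfl⟩
      have e := congrArg (fun Q : Sylow 3 N => (Q : Subgroup N)) (hP ⟨σN, mem_zpowers σN⟩)
      rw [← e]
      exact ⟨x, hx, rfl⟩
    have h5 := C.fp_card hPAU hPAc (by norm_num) hPAst
    have ha1 : a ≠ 0 := fun e => hPne (Subgroup.eq_bot_of_card_eq _ (by rw [ha, e]; rfl))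
    have hd3 : 3 ^ a ∣ 51840 := hPAc ▸ C.cardA ▸ Subgroup.card_subgroup_dvd_card PA
    have ha4 : a < 5 := by
      by_contra hh
      have : (243 : ℕ) ∣ 51840 := (pow_dvd_pow 3 (show 5 ≤ a by omega)).trans hd3
      norm_num at this
    rw [hPAc] at h5
    have ha81 : a = 4 := by interval_cases a <;> simp_all
    have hle : PA ≤ (H.comap MulAut.conj).map MulAut.conj := by
      intro q hq
      obtain ⟨u, rfl⟩ := hPAU hq
      refine ⟨u, ?_, rfl⟩
      obtain ⟨x, -, hx⟩ := hq
      show MulAut.conj u ∈ H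
      rw [← hx]
      exact hNH x.2
    have h720 := Subgroup.card_dvd_of_le hle
    rw [Subgroup.card_map_of_injective (conj_injective M), card_fixed M C.rho_r, hPAc, ha81] at h720
    norm_num at h720
  have h2 : IsPGroup 2 N := by
    have hdvd : Nat.card N ∣ 2 ^ 7 := by
      refine (Nat.Coprime.dvd_of_dvd_mul_right (n := 405) ?_ (by simpa using hdN))
      rw [show (405 : ℕ) = 3 ^ 4 * 5 by norm_num]
      exact Nat.Coprime.mul_right
        (Nat.Coprime.pow_right 4 ((Nat.prime_three.coprime_iff_not_dvd.2 hN3).symm))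
        ((Nat.prime_five.coprime_iff_not_dvd.2 hN5).symm)
    obtain ⟨i, -, hi⟩ := (Nat.dvd_prime_pow Nat.prime_two).1 hdvd
    exact IsPGroup.of_card hi
  exact C.refl_core h2 hNr hst

include C in
theorem sylow {P : Subgroup (MulAut U)} {c : MulAut U} (hP : 128 ≤ Nat.card P) (h2 : IsPGroup 2 P) :
    ¬ ∀ p ∈ P, p * p = 1 ∨ p * p = c := by
  intro hsq
  haveI := C.finA
  haveI := M.finite
  set P0 : Subgroup U := P.comap MulAut.conj with hP0
  have hc0 : 64 ≤ Nat.card P0 := by
    have h1 : (P ⊓ IU U).relIndex P ≤ 2 := by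
      rw [Subgroup.inf_relIndex_left]
      haveI : (IU U).Normal := normal_of_index_eq_two C.index
      have := Subgroup.relIndex_dvd_index_of_normal (IU U) P
      rw [C.index] at this
      exact Nat.le_of_dvd (by norm_num) this
    have h3 := Subgroup.card_mul_index ((P ⊓ IU U).subgroupOf P)
    rw [Nat.card_congr (Subgroup.subgroupOfEquivOfLe (inf_le_left : P ⊓ IU U ≤ P)).toEquiv] at h3
    have h4 : Nat.card P0 = Nat.card (P ⊓ IU U : Subgroup (MulAut U)) := by
      rw [← Subgroup.card_map_of_injective (K := P0) (conj_injective M), hP0, Subgroup.map_comap_eq,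
        inf_comm]
    rw [h4]
    have : ((P ⊓ IU U).subgroupOf P).index ≤ 2 := h1
    nlinarith
  have hsq0 : ∀ p ∈ P0, p * p = 1 ∨ MulAut.conj (p * p) = c := fun p hp => by
    rcases hsq _ hp with h | h
    · exact Or.inl (conj_injective M (by rw [map_mul, map_one]; exact h))
    · exact Or.inr (by rw [map_mul]; exact h)
  by_cases hall : ∀ p ∈ P0, p * p = 1
  · have he : Elem2 P0 := ⟨hall, fun a ha b hb => by
      have hab := hall _ (mul_mem ha hb)
      show a * b = b * a
      calc a * b = a * b * ((b * a) * (b * a)) := by rw [hall _ (mul_mem hb ha), mul_one]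
        _ = a * (b * b) * a * (b * a) := by group
        _ = b * a := by rw [hall b hb, mul_one, hall a ha, one_mul]⟩
    have := C.facts.elem P0 he
    omega
  push Not at hall
  obtain ⟨p, hp, hne⟩ := hall
  set c0 : U := p * p with hc0def
  have hc : MulAut.conj c0 = c := (hsq0 p hp).resolve_left hne
  have hiff : ∀ q ∈ P0, q * q = 1 ∨ q * q = c0 := fun q hq =>
    (hsq0 q hq).imp_right fun h => conj_injective M (h.trans hc.symm)
  have hcm : c0 ∈ P0 := mul_mem hp hp
  have hc2 : c0 * c0 = 1 := (hiff c0 hcm).resolve_right fun h => hne (mul_eq_left.1 h)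
  have hcen : ∀ q ∈ P0, Commute q c0 := by
    intro q hq
    have h := hiff (q * p * q⁻¹) (mul_mem (mul_mem hq hp) (inv_mem hq))
    rw [show q * p * q⁻¹ * (q * p * q⁻¹) = q * (p * p) * q⁻¹ by group, ← hc0def] at h
    rcases h with h | h
    · exact absurd (conj_eq_one_iff.1 h) hne
    · exact mul_inv_eq_iff_eq_mul.1 h
  have := (C.facts.squares P0 c0 hc2 hne hcm hcen hiff (by omega)).1
  omega

end Ctx

/-- The facts about the automorphism group. -/
theorem exists_afacts' {F : Type*} [Field F] [Fintype F] (hF : Fintype.card F = 3) :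
    ∃ r σ : MulAut (Cfsg.PSp 2 F),
      AFacts (MulAut.conj : Cfsg.PSp 2 F →* MulAut (Cfsg.PSp 2 F)).range r σ := by
  obtain ⟨M⟩ := U62From98Cert.exists_model hF (MulEquiv.refl (Cfsg.PSp 2 F))
  obtain ⟨r, hr, hr2, hrs⟩ := exists_reflection M
  haveI : Fact (Nat.Prime 3) := ⟨Nat.prime_three⟩
  have hcard : Nat.card (MulAut (Cfsg.PSp 2 F)) = 51840 := by
    have h := AutPSpFull.card_mulAut' (m := 2) (p := 3) (f := 1) (F := F) (by rw [hF]; norm_num)
      le_rfl le_rfl
    rw [h]
    rw [show Nat.card (Cfsg.Agent.AutPSpBasic.PS 2 F) = Nat.card (Cfsg.PSp 2 F) from rfl,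
      PSUFourTwoPSp57.card_psp hF]
    norm_num
  have C : Ctx M r := ⟨M.ufacts, hcard, hr, hr2, hrs⟩
  refine ⟨r, Ctx.sg M,
    { inner := U62From98.exists_ufacts hF
        (MonoidHom.ofInjective (conj_injective M)).symm
      index := C.index
      r_sq := hr2
      r_out := C.r_out
      sigma_mem := Ctx.sg_mem M
      sigma_order := Ctx.order_sg M
      comm := C.comm
      five := fun s hs => C.five hs
      refl := fun s c hs hc hne hcs => C.refl hs hc hne hcs
      kernel := fun N h1 h2 h3 => C.kernel h1 h2 h3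
      sylow := fun P c h1 h2 => C.sylow h1 h2
      outer_stab := fun c _ hc => C.outer_stab hc
      outer_sixteen := fun c _ hc E hle hE hcard => C.outer_sixteen hc hle hE hcard }⟩

end Cfsg.Agent.U62From98ACert

namespace Cfsg.Agent.U62From98

/-- The facts about the automorphism group of `PSp₄(3)`. -/
theorem exists_afacts {F : Type*} [Field F] [Fintype F] (hF : Fintype.card F = 3) :
    ∃ r σ : MulAut (Cfsg.PSp 2 F),
      AFacts (MulAut.conj : Cfsg.PSp 2 F →* MulAut (Cfsg.PSp 2 F)).range r σ :=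
  U62From98ACert.exists_afacts' hF

end Cfsg.Agent.U62From98
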