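import Cfsg.Agent.Lib.U62From98AMain

/-!
The conjugates of the involution centralizing the fixed space of the reflection, and those
centralizing the centralizer of an involution of the extraspecial group (helper79).
-/

set_option autoImplicit false
set_option linter.unusedSectionVars false
set_option linter.style.haveILetI false

namespace Cfsg.Agent.U62From98

open Subgroup

universe u v

variable {G : Type u} [Group G] [Finite G] {A : Type v} [Group A]
variable {z : G} {Ω : Set G} {U : Subgroup A} {r σ : A} {J : G → Subgroup G} {φ : G → G → A}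

namespace AClass

theorem ctx_pow {a : G} {J : Subgroup G} {φ : G → A} (C : Ctx a J φ) {g : G} (hg : Commute g a)
    (n : ℕ) : φ (g ^ n) = φ g ^ n := by
  induction n with
  | zero => rw [pow_zero, C.phi_one, pow_zero]
  | succ k ih => rw [pow_succ, C.hom _ _ (hg.pow_left k) hg, ih, pow_succ]

theorem ctx_pow_four {a : G} {J : Subgroup G} {φ : G → A} (C : Ctx a J φ) {j : G} (hj : j ∈ J) :
    j ^ 4 = 1 := by
  rw [show (4 : ℕ) = 2 * 2 from rfl, pow_mul, pow_two j]
  rcases C.squares j hj with e | e <;> rw [e]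
  · exact one_pow 2
  · rw [pow_two]; exact C.sq

section

variable (S : ASys z Ω U r σ J φ)
include S

omit [Finite G]

theorem z_mem : z ∈ Ω := by rw [S.class_eq]; exact ⟨1, by group⟩

theorem conj_mem {a : G} (ha : a ∈ Ω) (g : G) : g * a * g⁻¹ ∈ Ω := by
  rw [S.class_eq] at ha ⊢
  obtain ⟨h, rfl⟩ := ha
  exact ⟨g * h, by group⟩

end

variable {x : G} {K : Subgroup G}

/-- A lift over the reflection centralizing `K` contradicts the inner sign. -/
theorem not_refl (S : ASys z Ω U r σ J φ) (JF : JFacts Ω U J φ)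
    (L : RLift z (J z) (φ z) r x K) {y : G} (hy : y ∈ Ω) (hne : y ≠ z)
    (hc : ∀ k ∈ K, Commute y k) (hφ : φ z y = r) {g : G} (hg : Commute g z)
    (hgr : Commute (φ z g) r) (hgo : orderOf (φ z g) = 5) : False := by
  classical
  haveI : Fintype G := Fintype.ofFinite G
  have C := S.ctx z (z_mem S)
  have Cy := S.ctx y hy
  have hr := S.facts.r_sq
  have hzK : z ∈ K := L.a_mem C
  have hyz : Commute y z := hc z hzK
  have hxy : x⁻¹ * y ∈ J z := (C.phi_eq_iff L.comm hyz).1 (by rw [L.img, hφ])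
  set v := x⁻¹ * y with hv_def
  have hyv : y = x * v := by rw [hv_def, mul_inv_cancel_left]
  have hyi : y⁻¹ = y := inv_eq_of_mul_eq_one_right Cy.sq
  set P := perpIn (J z) K with hP
  have hPK : P ≤ K := L.perp_le C hr
  have hPc : ∀ p ∈ P, ∀ q ∈ P, Commute p q := fun p hp q hq => (mem_perpIn.1 hp).2 q (hPK hq)
  -- the centralizer of `y` in `J z`
  have hmemK : ∀ j ∈ J z, (j * y * j⁻¹ = y ∨ j * y * j⁻¹ = y * z) → j ∈ K := by
    intro j hj hcase
    have e1 : y * j * y⁻¹ = j ∨ y * j * y⁻¹ = z * j := by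
      rcases hcase with e | e
      · left
        have : Commute j y := mul_inv_eq_iff_eq_mul.1 e
        rw [this.symm.eq, mul_inv_cancel_right]
      · right
        have h2 : j * y = y * z * j := mul_inv_eq_iff_eq_mul.1 e
        calc y * j * y⁻¹ = y * (j * y) := by rw [hyi, mul_assoc]
          _ = z * j := by rw [h2, ← mul_assoc, ← mul_assoc, Cy.sq, one_mul]
    have hvj : v * j * v⁻¹ = j ∨ v * j * v⁻¹ = z * j := by
      rcases C.comm v hxy j hj with e | e
      · exact Or.inl (by rw [e, mul_inv_cancel_right])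
      · exact Or.inr (by rw [e]; group)
    have hxz : x * z * x⁻¹ = z := by rw [L.comm.eq, mul_inv_cancel_right]
    have e2 : y * j * y⁻¹ = x * (v * j * v⁻¹) * x⁻¹ := by rw [hyv]; group
    have hzz : ∀ w : G, z * (z * w) = w := fun w => by rw [← mul_assoc, C.sq, one_mul]
    have e3 : ∀ w : G, x * (z * w) * x⁻¹ = z * (x * w * x⁻¹) := fun w => by
      rw [← mul_assoc x z w, L.comm.eq]; group
    refine (L.mem_iff j hj).2 ?_
    rw [e2] at e1
    rcases hvj with e | e <;> rw [e] at e1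
    · exact e1
    · rw [e3] at e1
      rcases e1 with e1 | e1
      · exact Or.inr (by rw [← hzz (x * j * x⁻¹), e1])
      · exact Or.inl (mul_left_cancel e1)
  have hnz : ∀ j ∈ J z, j * y * j⁻¹ ≠ y * z := by
    intro j hj e
    have hjy := hc j (hmemK j hj (Or.inr e))
    rw [hjy.symm.eq, mul_inv_cancel_right] at e
    exact C.ne_one (mul_eq_left.1 e.symm)
  -- the orbit under `J z`
  have hWP : ∀ w ∈ Wset J z y, w ∈ P := by
    rintro w ⟨j, hj, e⟩
    have h1 := C.move_perp L.le hyz hc hj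
    rwa [show y * j * y⁻¹ * j⁻¹ = w by
      rw [hyi]
      calc y * j * y * j⁻¹ = y * (j * y * j⁻¹) := by group
        _ = w := by rw [e, ← mul_assoc, Cy.sq, one_mul]] at h1
  have hzP : z ∈ P := mem_perpIn.2 ⟨C.mem, fun k hk => (C.le k (L.le hk)).symm⟩
  have hWn : (J z : Set G).ncard ≤ Nat.card K * (Wset J z y).ncard := by
    set Js : Finset G := Finset.univ.filter (· ∈ J z) with hJs
    have himg : (↑(Js.image fun j => y * (j * y * j⁻¹)) : Set G) ⊆ Wset J z y := by
      intro w hw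
      obtain ⟨j, hj, rfl⟩ := Finset.mem_image.1 hw
      exact ⟨j, (Finset.mem_filter.1 hj).2, by rw [← mul_assoc y y, Cy.sq, one_mul]⟩
    have hle : Js.card ≤ Nat.card K * (Js.image fun j => y * (j * y * j⁻¹)).card := by
      refine Finset.card_le_mul_card_image _ _ fun w hw => ?_
      obtain ⟨k, hk, rfl⟩ := Finset.mem_image.1 hw
      have hk' : k ∈ J z := (Finset.mem_filter.1 hk).2
      rw [← Set.ncard_coe_finset, ← SetLike.coe_sort_coe, Nat.card_coe_set_eq]
      refine Set.ncard_le_ncard_of_injOn (fun j => k⁻¹ * j) (fun j hj => ?_)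
        (fun i _ j _ e => mul_left_cancel e) (Set.toFinite _)
      obtain ⟨hjs, hje⟩ := Finset.mem_filter.1 hj
      refine hmemK _ ((J z).mul_mem ((J z).inv_mem hk') (Finset.mem_filter.1 hjs).2) (Or.inl ?_)
      have e : j * y * j⁻¹ = k * y * k⁻¹ := mul_left_cancel hje
      calc k⁻¹ * j * y * (k⁻¹ * j)⁻¹ = k⁻¹ * (j * y * j⁻¹) * k := by group
        _ = y := by rw [e]; group
    have h2 := Set.ncard_le_ncard himg (Set.toFinite _)
    rw [Set.ncard_coe_finset] at h2
    have h3 : (J z : Set G).ncard = Js.card := by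
      rw [← Set.ncard_coe_finset]; congr 1; ext j; simp [hJs]
    rw [h3]
    exact hle.trans (Nat.mul_le_mul_left _ h2)
  have hcover : ∀ p ∈ P, p ∈ Wset J z y ∨ z * p ∈ Wset J z y := by
    have hdis : Disjoint (Wset J z y) ((fun w => z * w) '' Wset J z y) := by
      rw [Set.disjoint_right]
      rintro _ ⟨w, ⟨j₁, hj₁, e₁⟩, rfl⟩ ⟨j₂, hj₂, e₂⟩
      refine hnz (j₁⁻¹ * j₂) ((J z).mul_mem ((J z).inv_mem hj₁) hj₂) ?_
      dsimp only at e₂
      have hwz : Commute z w := (C.le w (L.le (hPK (hWP w ⟨j₁, hj₁, e₁⟩)))).symm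
      calc j₁⁻¹ * j₂ * y * (j₁⁻¹ * j₂)⁻¹ = j₁⁻¹ * (j₂ * y * j₂⁻¹) * j₁ := by group
        _ = j₁⁻¹ * (y * w * z) * j₁ := by rw [e₂, hwz.eq, ← mul_assoc y w z]
        _ = j₁⁻¹ * (j₁ * y * j₁⁻¹) * (z * j₁) := by rw [e₁]; group
        _ = y * z := by rw [← (C.le j₁ hj₁).eq]; group
    have hsub : Wset J z y ∪ (fun w => z * w) '' Wset J z y ⊆ (P : Set G) := by
      rintro p (hp | ⟨w, hw, rfl⟩)
      · exact hWP p hp
      · exact P.mul_mem hzP (hWP w hw)
    have heq := Set.eq_of_subset_of_ncard_le hsub (by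
      rw [Set.ncard_union_eq hdis (Set.toFinite _) (Set.toFinite _),
        Set.ncard_image_of_injective _ (mul_right_injective z), ← Nat.card_coe_set_eq (P : Set G)]
      change Nat.card P ≤ _
      have hd := C.dual' L.le hzK
      rw [← Nat.card_coe_set_eq (J z : Set G)] at hWn
      change Nat.card (J z) ≤ _ at hWn
      rw [C.card] at hWn
      rw [← hP] at hd
      have hpos := Nat.card_pos (α := K)
      nlinarith) (Set.toFinite _)
    intro p hp
    have : p ∈ Wset J z y ∪ (fun w => z * w) '' Wset J z y := by rw [heq]; exact hp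
    rcases this with h | ⟨w, hw, rfl⟩
    · exact Or.inl h
    · exact Or.inr (by rw [← mul_assoc, C.sq, one_mul]; exact hw)
  -- an element of order five fixing `y`
  have step : ∀ h : G, Commute h z → Commute (φ z h) r →
      ∃ j ∈ J z, h * y * h⁻¹ = j * y * j⁻¹ ∨ h * y * h⁻¹ = z * (j * y * j⁻¹) := by
    intro h hh hhr
    have hy' : Commute (h * y * h⁻¹) z := (hh.mul_left hyz).mul_left hh.inv_left
    have hck : ∀ k ∈ K, Commute (h * y * h⁻¹) k := by
      intro k hk
      have hk' := L.conj_mem C hr (g := h⁻¹) hh.inv_left (by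
        rw [C.phi_inv hh]; exact hhr.inv_left) hk
      have := U62RecogSetup19.commute_cj h (hc _ hk')
      rwa [show h * (h⁻¹ * k * h⁻¹⁻¹) * h⁻¹ = k by group] at this
    have hw : y⁻¹ * (h * y * h⁻¹) ∈ P := by
      refine mem_perpIn.2 ⟨(C.phi_eq_iff hyz hy').1 ?_,
        fun k hk => (hc k hk).inv_left.mul_left (hck k hk)⟩
      rw [C.phi_conj hh hyz, hφ, hhr.eq, mul_inv_cancel_right]
    have e0 : h * y * h⁻¹ = y * (y⁻¹ * (h * y * h⁻¹)) := (mul_inv_cancel_left y _).symm
    rcases hcover _ hw with ⟨j, hj, e⟩ | ⟨j, hj, e⟩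
    · exact ⟨j, hj, Or.inl (by rw [e, ← e0])⟩
    · refine ⟨j, hj, Or.inr ?_⟩
      rw [e, ← mul_assoc z y, ← hyz.eq, mul_assoc y z, ← mul_assoc z z, C.sq, one_mul, ← e0]
  obtain ⟨h, hh, hho, hhy⟩ : ∃ h : G, Commute h z ∧ orderOf (φ z h) = 5 ∧ Commute h y := by
    obtain ⟨j, hj, e | e⟩ := step g hg hgr
    · refine ⟨j⁻¹ * g, (C.le j hj).inv_left.mul_left hg, ?_, ?_⟩
      · rw [C.hom _ _ (C.le j hj).inv_left hg, C.phi_inv (C.le j hj),
          (C.ker j (C.le j hj)).2 hj, inv_one, one_mul]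
        exact hgo
      · show j⁻¹ * g * y = y * (j⁻¹ * g)
        calc j⁻¹ * g * y = j⁻¹ * (g * y * g⁻¹) * g := by group
          _ = y * (j⁻¹ * g) := by rw [e]; group
    · -- the square returns to the orbit of `y`
      have hjz := C.le j hj
      set i := g * j * g⁻¹ * j with hi_def
      have hi : i ∈ J z := (J z).mul_mem (C.normal g hg j hj) hj
      have e2 : g * g * y * (g * g)⁻¹ = i * y * i⁻¹ := by
        calc g * g * y * (g * g)⁻¹ = g * (g * y * g⁻¹) * g⁻¹ := by group
          _ = g * (z * (j * y * j⁻¹)) * g⁻¹ := by rw [e]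
          _ = g * z * g⁻¹ * ((g * j * g⁻¹) * (g * y * g⁻¹) * (g * j * g⁻¹)⁻¹) := by group
          _ = z * ((g * j * g⁻¹) * (z * (j * y * j⁻¹)) * (g * j * g⁻¹)⁻¹) := by
              rw [hg.eq, mul_inv_cancel_right, e]
          _ = i * y * i⁻¹ := by
              rw [← mul_assoc (g * j * g⁻¹) z, (C.le _ (C.normal g hg j hj)).eq, mul_assoc z,
                mul_assoc z, ← mul_assoc z z, C.sq, one_mul, hi_def]
              group
      refine ⟨i⁻¹ * (g * g), (C.le i hi).inv_left.mul_left (hg.mul_left hg), ?_, ?_⟩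
      · rw [C.hom _ _ (C.le i hi).inv_left (hg.mul_left hg), C.phi_inv (C.le i hi),
          (C.ker i (C.le i hi)).2 hi, inv_one, one_mul, C.hom _ _ hg hg, ← pow_two,
          Nat.Coprime.orderOf_pow (by rw [hgo]; norm_num), hgo]
      · show i⁻¹ * (g * g) * y = y * (i⁻¹ * (g * g))
        calc i⁻¹ * (g * g) * y = i⁻¹ * (g * g * y * (g * g)⁻¹) * (g * g) := by group
          _ = y * (i⁻¹ * (g * g)) := by rw [e2]; group
  obtain ⟨m, hkm, hkφ⟩ := exists_five_lift C hh hho
  set k := h ^ m with hk_def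
  have hkz : Commute k z := hh.pow_left m
  have hky : Commute k y := hhy.pow_left m
  have hzJy : z ∉ J y := fun hzy => by
    have := JF.mem_symm y z ⟨hy, z_mem S, hne, hyz⟩ hzy
    have h1 := (C.ker y hyz).2 this
    rw [hφ] at h1
    exact S.facts.r_out (h1 ▸ U.one_mem)
  -- the image of `K` at `y`
  set s := φ y k with hs
  have hs5 : orderOf s = 5 := by
    haveI : Fact (Nat.Prime 5) := ⟨by norm_num⟩
    refine orderOf_eq_prime (by rw [hs, ← ctx_pow Cy hky, ← hkm, pow_orderOf_eq_one, Cy.phi_one]) ?_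
    intro e
    have hkJ : k ∈ J y := (Cy.ker k hky).1 e
    have := orderOf_dvd_of_pow_eq_one (ctx_pow_four Cy hkJ)
    rw [hkm] at this
    norm_num at this
  set c := φ y z with hc_def
  have hzy : Commute z y := hyz.symm
  have hc1 : c ≠ 1 := fun e => hzJy ((Cy.ker z hzy).1 e)
  have hcc : c * c = 1 := by rw [← Cy.hom _ _ hzy hzy, C.sq, Cy.phi_one]
  have hcs : Commute c s := by
    show _ = _
    rw [← Cy.hom _ _ hzy hky, ← Cy.hom _ _ hky hzy, hkz.eq]
  obtain ⟨hcU, hrefl⟩ := S.facts.refl s c hs5 hcc hc1 hcs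
  let f : K →* A := MonoidHom.mk' (fun q => φ y (q : G)) fun p q =>
    Cy.hom _ _ (hc _ p.2).symm (hc _ q.2).symm
  have hkK : ∀ q ∈ K, k * q * k⁻¹ ∈ K := fun q hq => L.conj_mem C hr hkz (by
    show _ = _
    rw [← hφ, ← C.hom _ _ hkz hyz, ← C.hom _ _ hyz hkz, hky.eq]) hq
  have hsplit : ∀ q ∈ K, q ∈ J y ∨ z * q ∈ J y := by
    intro q hq
    have h1 := hrefl f.range (fun p => by
      obtain ⟨q, hq⟩ := p.2
      refine ⟨2, Subtype.ext ?_⟩
      rw [SubgroupClass.coe_pow, OneMemClass.coe_one, ← hq, ← map_pow]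
      have : q ^ 2 ^ 2 = 1 := Subtype.ext (by
        rw [SubgroupClass.coe_pow, OneMemClass.coe_one]; exact ctx_pow_four C (L.le q.2))
      rw [this, map_one])
      (by
        rintro _ ⟨q, rfl⟩
        show φ y (q : G) * c = c * φ y (q : G)
        rw [← Cy.hom _ _ (hc _ q.2).symm hzy, ← Cy.hom _ _ hzy (hc _ q.2).symm,
          (C.le _ (L.le q.2)).eq])
      (by
        rintro _ ⟨q, rfl⟩
        exact ⟨⟨k * q * k⁻¹, hkK q q.2⟩, Cy.phi_conj hky (hc _ q.2).symm⟩)
      (φ y q) ⟨⟨q, hq⟩, rfl⟩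
    rcases h1 with e | e
    · exact Or.inl ((Cy.ker q (hc q hq).symm).1 e)
    · right
      have := (Cy.phi_eq_iff hzy (hc q hq).symm).1 e.symm
      rwa [C.a_inv] at this
  set D := K ⊓ J y with hD
  have hDsq : ∀ d ∈ D, d * d = 1 := by
    intro d hd
    rcases C.squares d (L.le hd.1) with e | e
    · exact e
    · exact absurd (e ▸ (J y).mul_mem hd.2 hd.2) hzJy
  have hDc : ∀ p ∈ D, ∀ q ∈ D, Commute p q := by
    intro p hp q hq
    rcases C.comm p (L.le hp.1) q (L.le hq.1) with e | e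
    · exact e
    · exfalso
      refine hzJy ?_
      rw [show z = p * q * (q * p)⁻¹ by rw [e]; group]
      exact (J y).mul_mem ((J y).mul_mem hp.2 hq.2) ((J y).inv_mem ((J y).mul_mem hq.2 hp.2))
  have hzz : ∀ w : G, z * (z * w) = w := fun w => by rw [← mul_assoc, C.sq, one_mul]
  have hsplit' : ∀ q ∈ K, q ∈ D ∨ z * q ∈ D := fun q hq =>
    (hsplit q hq).imp (fun h => ⟨hq, h⟩) fun h => ⟨K.mul_mem hzK hq, h⟩
  have hKab : ∀ p ∈ K, ∀ q ∈ K, Commute p q := by
    intro p hp q hq
    have hz : ∀ w ∈ K, Commute z w := fun w hw => (C.le w (L.le hw)).symm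
    rcases hsplit' p hp with hp' | hp' <;> rcases hsplit' q hq with hq' | hq'
    · exact hDc p hp' q hq'
    · rw [← hzz q]; exact (hz p hp).symm.mul_right (hDc p hp' _ hq')
    · rw [← hzz p]; exact (hz q hq).mul_left (hDc _ hp' q hq')
    · rw [← hzz p, ← hzz q]
      exact ((Commute.refl z).mul_right (hz _ (K.mul_mem hzK hq))).mul_left
        ((hz _ (K.mul_mem hzK hp)).symm.mul_right (hDc _ hp' _ hq'))
  have hKP : P = K := le_antisymm hPK fun p hp => mem_perpIn.2 ⟨L.le hp, hKab p hp⟩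
  have hK32 : Nat.card K = 32 := by
    have := C.dual' L.le hzK
    rw [← hP, hKP] at this
    nlinarith
  have hD16 : 16 ≤ Nat.card D := by
    have hsub : (K : Set G) ⊆ (D : Set G) ∪ (fun d => z * d) '' (D : Set G) := fun q hq =>
      (hsplit' q hq).imp id fun h => ⟨z * q, h, hzz q⟩
    have := (Set.ncard_le_ncard hsub (Set.toFinite _)).trans (Set.ncard_union_le _ _)
    rw [Set.ncard_image_of_injective _ (mul_right_injective z),
      ← Nat.card_coe_set_eq (K : Set G), ← Nat.card_coe_set_eq (D : Set G)] at this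
    change Nat.card K ≤ Nat.card D + Nat.card D at this
    omega
  obtain ⟨d, hd, hd1, hdW⟩ : ∃ d ∈ D, d ≠ 1 ∧ d ∈ Wset J z y := by
    by_contra hno
    push Not at hno
    have pick : ∀ s : Set G, s.ncard ≤ 4 → ∃ d ∈ D, d ∉ s := fun s hs => by
      by_contra hne
      push Not at hne
      have := Set.ncard_le_ncard (show (D : Set G) ⊆ s from hne) (Set.toFinite _)
      rw [← Nat.card_coe_set_eq] at this
      change Nat.card D ≤ _ at this
      omega
    obtain ⟨d₁, hd₁, e₁⟩ := pick {1} (by simp)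
    obtain ⟨d₂, hd₂, e₂⟩ := pick {1, d₁} (by
      have := Set.ncard_insert_le (1 : G) {d₁}
      simp only [Set.ncard_singleton] at this
      omega)
    obtain ⟨d₃, hd₃, e₃⟩ := pick {1, d₁, d₂, d₁ * d₂} (by
      have u₁ := Set.ncard_insert_le (1 : G) {d₁, d₂, d₁ * d₂}
      have u₂ := Set.ncard_insert_le d₁ {d₂, d₁ * d₂}
      have u₃ := Set.ncard_insert_le d₂ {d₁ * d₂}
      simp only [Set.ncard_singleton] at u₃
      omega)
    simp only [Set.mem_insert_iff, Set.mem_singleton_iff, not_or] at e₁ e₂ e₃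
    have inW : ∀ w ∈ D, w ≠ 1 → z * w ∈ Wset J z y := fun w hw h1 =>
      (hcover w (hKP ▸ hw.1)).resolve_left (hno w hw h1)
    have hinv : ∀ w ∈ D, w⁻¹ = w := fun w hw => inv_eq_of_mul_eq_one_right (hDsq w hw)
    obtain ⟨j₁, hj₁, f₁⟩ := inW d₁ hd₁ e₁
    have key : ∀ w ∈ D, w ≠ 1 → w ≠ d₁ → chi j₁ w = -1 := by
      intro w hw h1 h2
      refine chi_neg fun hcm => ?_
      obtain ⟨j₂, hj₂, f₂⟩ := inW w hw h1
      have hzc : Commute j₁ z := C.le j₁ hj₁
      refine hno _ (D.mul_mem hd₁ hw) (fun e => h2 ?_) ⟨j₁ * j₂, (J z).mul_mem hj₁ hj₂, ?_⟩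
      · rw [← inv_eq_of_mul_eq_one_right e, hinv d₁ hd₁]
      · have hj₁zw : Commute j₁ (z * w) := hzc.mul_right hcm
        calc j₁ * j₂ * y * (j₁ * j₂)⁻¹ = j₁ * (j₂ * y * j₂⁻¹) * j₁⁻¹ := by group
          _ = j₁ * y * j₁⁻¹ * (j₁ * (z * w) * j₁⁻¹) := by rw [f₂]; group
          _ = y * (z * d₁) * (z * w) := by rw [f₁, hj₁zw.eq, mul_inv_cancel_right]
          _ = y * (d₁ * (z * (z * w))) := by
              rw [← (C.le d₁ (L.le hd₁.1)).eq]; group
          _ = y * (d₁ * w) := by rw [hzz]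
    have h23 : d₂ * d₃ ≠ 1 := fun e => e₃.2.2.1 (by
      rw [← inv_eq_of_mul_eq_one_right e, hinv d₂ hd₂])
    have h23' : d₂ * d₃ ≠ d₁ := fun e => e₃.2.2.2 (by
      rw [(hDc d₁ hd₁ d₂ hd₂).eq, ← e, ← mul_assoc, hDsq d₂ hd₂, one_mul])
    have := C.comm_mul hj₁ (L.le hd₂.1) (L.le hd₃.1)
    rw [key _ (D.mul_mem hd₂ hd₃) h23 h23', key d₂ hd₂ e₂.1 e₂.2, key d₃ hd₃ e₃.1 e₃.2.1] at this
    norm_num at this
  obtain ⟨j, hj, hje⟩ := hdW
  have hyd : Commute y d := hc d hd.1
  have hy' : Pair Ω y (y * d) :=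
    ⟨hy, by rw [← hje]; exact conj_mem S hy j, fun e => hd1 (mul_eq_left.1 e.symm),
      (Commute.refl y).mul_right hyd⟩
  have hy'J : y * d ∈ J y := (J y).mul_mem Cy.mem hd.2
  obtain ⟨w, hw, hjw⟩ : ∃ w ∈ K, ¬ Commute j w := by
    by_contra hne'
    push Not at hne'
    have hjK : j ∈ K := hKP ▸ mem_perpIn.2 ⟨hj, hne'⟩
    rw [(hc j hjK).symm.eq, mul_inv_cancel_right] at hje
    exact hd1 (mul_eq_left.1 hje.symm)
  have hjwj : j * w * j⁻¹ = z * w := by
    rcases C.comm j hj w (L.le hw) with e | e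
    · exact absurd e hjw
    · rw [e]; group
  have hwy : Commute w y := (hc w hw).symm
  have hzwy : Commute (z * w) y := hzy.mul_left hwy
  have hzwy' : Commute (z * w) (y * d) := hzwy.mul_right (hKab _ (K.mul_mem hzK hw) d hd.1)
  have h1 := S.U_conj y hy j w hwy
  rw [hje, hjwj] at h1
  have h2 := JF.same y (y * d) hy' hy'J (z * w) hzwy hzwy'
  rw [h1, Cy.hom _ _ hzy hwy, ← hc_def, Subgroup.mul_mem_iff_of_index_two S.facts.index] at h2
  tauto

end AClass

open AClass in
/-- A conjugate centralizing the fixed space of the reflection lies over it. -/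
theorem classify (S : ASys z Ω U r σ J φ) (JF : JFacts Ω U J φ) {x : G} {K : Subgroup G}
    (L : RLift z (J z) (φ z) r x K) {y : G} (hy : y ∈ Ω) (hne : y ≠ z)
    (hc : ∀ k ∈ K, Commute y k) : y ∈ perpIn (J z) K := by
  classical
  have C := S.ctx z (z_mem S)
  have hr := S.facts.r_sq
  have hyz : Commute y z := hc z (L.a_mem C)
  -- the image commutes with `r`
  have hyr : Commute (φ z y) r := by
    have hxy := L.comm.mul_left hyz
    have hyx := hyz.mul_left L.comm
    have hmem : (y * x)⁻¹ * (x * y) ∈ J z := by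
      refine C.faithful _ (hyx.inv_left.mul_left hxy) fun i hi => Or.inl ?_
      have hp := C.move_perp L.le hyz hc hi
      have hq := C.move_perp L.le L.comm (fun k hk => L.cent k hk) hi
      set p := y * i * y⁻¹ * i⁻¹ with hp_def
      set q := x * i * x⁻¹ * i⁻¹ with hq_def
      have hpK := L.perp_le C hr hp
      have hqK := L.perp_le C hr hq
      have hxi : x * i * x⁻¹ = q * i := by rw [hq_def]; group
      have hyi : y * i * y⁻¹ = p * i := by rw [hp_def]; group
      have e1 : x * y * i * (x * y)⁻¹ = p * q * i := by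
        calc x * y * i * (x * y)⁻¹ = x * (y * i * y⁻¹) * x⁻¹ := by group
          _ = x * p * x⁻¹ * (x * i * x⁻¹) := by rw [hyi]; group
          _ = p * q * i := by
              rw [(L.cent p hpK).eq, mul_inv_cancel_right, hxi]
              exact (mul_assoc p q i).symm
      have e2 : y * x * i * (y * x)⁻¹ = q * p * i := by
        calc y * x * i * (y * x)⁻¹ = y * (x * i * x⁻¹) * y⁻¹ := by group
          _ = y * q * y⁻¹ * (y * i * y⁻¹) := by rw [hxi]; group
          _ = q * p * i := by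
              rw [(hc q hqK).eq, mul_inv_cancel_right, hyi]
              exact (mul_assoc q p i).symm
      have hpq : p * q = q * p := ((mem_perpIn.1 hp).2 q hqK).eq
      calc (y * x)⁻¹ * (x * y) * i * ((y * x)⁻¹ * (x * y))⁻¹
          = (y * x)⁻¹ * (x * y * i * (x * y)⁻¹) * (y * x) := by group
        _ = (y * x)⁻¹ * (y * x * i * (y * x)⁻¹) * (y * x) := by rw [e1, e2, hpq]
        _ = i := by group
    have e := (C.phi_eq_iff hyx hxy).2 hmem
    rw [C.hom _ _ hyz L.comm, C.hom _ _ L.comm hyz, L.img] at e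
    exact e
  have hzz : ∀ w : G, z * (z * w) = w := fun w => by rw [← mul_assoc, C.sq, one_mul]
  have hcj : ∀ {g : G}, Commute g z → ∀ {p k : G}, (p = k ∨ p = z * k) →
      g * p * g⁻¹ = g * k * g⁻¹ ∨ g * p * g⁻¹ = z * (g * k * g⁻¹) := by
    intro g hg p k h
    rcases h with rfl | rfl
    · exact Or.inl rfl
    · exact Or.inr (by rw [← mul_assoc g z k, hg.eq]; group)
  let N : Subgroup A :=
    { carrier := {n | Commute n r ∧ ∀ g : G, Commute g z → φ z g = n →
        ∀ k ∈ K, g * k * g⁻¹ = k ∨ g * k * g⁻¹ = z * k}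
      one_mem' := ⟨Commute.one_left r, fun g hg e k hk => by
        have hgJ := (C.ker g hg).1 e
        rcases C.comm g hgJ k (L.le hk) with e | e
        · exact Or.inl (by rw [e, mul_inv_cancel_right])
        · exact Or.inr (by rw [e]; group)⟩
      mul_mem' := fun {n₁ n₂} h₁ h₂ => ⟨h₁.1.mul_left h₂.1, fun g hg e k hk => by
        obtain ⟨g₁, hg₁, e₁⟩ := C.surj n₁
        have e₂ : φ z (g₁⁻¹ * g) = n₂ := by
          rw [C.hom _ _ hg₁.inv_left hg, C.phi_inv hg₁, e₁, e, inv_mul_cancel_left]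
        have h := hcj hg₁ (h₂.2 _ (hg₁.inv_left.mul_left hg) e₂ k hk)
        rw [show g₁ * (g₁⁻¹ * g * k * (g₁⁻¹ * g)⁻¹) * g₁⁻¹ = g * k * g⁻¹ by group] at h
        rcases h₁.2 g₁ hg₁ e₁ k hk with e' | e' <;> rw [e'] at h
        · exact h
        · rw [hzz] at h; exact h.symm⟩
      inv_mem' := fun {n} hn => ⟨hn.1.inv_left, fun g hg e k hk => by
        have h := hn.2 g⁻¹ hg.inv_left (by rw [C.phi_inv hg, e, inv_inv]) k hk
        have h' := hcj hg h
        rw [show g * (g⁻¹ * k * g⁻¹⁻¹) * g⁻¹ = k by group] at h'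
        rcases h' with e' | e'
        · exact Or.inl e'.symm
        · exact Or.inr (by
            have h2 := congrArg (fun w => z * w) e'
            simp only [hzz] at h2
            exact h2.symm)⟩ }
  have hNmem : ∀ n, n ∈ N ↔ Commute n r ∧ ∀ g : G, Commute g z → φ z g = n →
      ∀ k ∈ K, g * k * g⁻¹ = k ∨ g * k * g⁻¹ = z * k := fun n => Iff.rfl
  have hNn : ∀ u : A, Commute u r → ∀ n ∈ N, u * n * u⁻¹ ∈ N := by
    intro u hu n hn
    refine (hNmem _).2 ⟨(hu.mul_left hn.1).mul_left hu.inv_left, fun g hg e k hk => ?_⟩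
    obtain ⟨h, hh, eh⟩ := C.surj u
    have hk' := L.conj_mem C hr (g := h⁻¹) hh.inv_left (by
      rw [C.phi_inv hh, eh]; exact hu.inv_left) hk
    have h' := hcj hh (hn.2 (h⁻¹ * g * h) ((hh.inv_left.mul_left hg).mul_left hh) (by
      rw [C.hom _ _ (hh.inv_left.mul_left hg) hh, C.hom _ _ hh.inv_left hg, C.phi_inv hh, eh, e]
      group) _ hk')
    rwa [show h * (h⁻¹ * g * h * (h⁻¹ * k * h⁻¹⁻¹) * (h⁻¹ * g * h)⁻¹) * h⁻¹ = g * k * g⁻¹ by group,
      show h * (h⁻¹ * k * h⁻¹⁻¹) * h⁻¹ = k by group] at h'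
  obtain ⟨g₀, hg₀, eg₀⟩ := C.surj σ
  obtain ⟨n, hgn, hgφ⟩ := exists_five_lift C hg₀ (by rw [eg₀, S.facts.sigma_order])
  have hgz : Commute (g₀ ^ n) z := hg₀.pow_left n
  have hgpow : φ z (g₀ ^ n) = σ ^ n := by rw [ctx_pow C hg₀, eg₀]
  have hgr : Commute (φ z (g₀ ^ n)) r := by rw [hgpow]; exact S.facts.comm.pow_left n
  have hσ : σ ∉ N := fun hσN => L.not_cent C hr hgn hgz fun k hk =>
    C.exact_fix hgn hgz (((hNmem _).1 (N.pow_mem hσN n)).2 _ hgz hgpow k hk)
  have hyN : φ z y ∈ N := by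
    refine (hNmem _).2 ⟨hyr, fun g hg e k hk => ?_⟩
    have hv : y⁻¹ * g ∈ J z := (C.phi_eq_iff hyz hg).1 e.symm
    have h1 : y⁻¹ * g * k * (y⁻¹ * g)⁻¹ = k ∨ y⁻¹ * g * k * (y⁻¹ * g)⁻¹ = z * k := by
      rcases C.comm _ hv k (L.le hk) with e' | e'
      · exact Or.inl (by rw [e', mul_inv_cancel_right])
      · exact Or.inr (by rw [e']; group)
    have h := hcj hyz h1
    rw [show y * (y⁻¹ * g * k * (y⁻¹ * g)⁻¹) * y⁻¹ = g * k * g⁻¹ by group,
      (hc k hk).eq, mul_inv_cancel_right] at h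
    exact h
  rcases S.facts.kernel N (fun n hn => hn.1) hNn hσ _ hyN with e | e
  · exact mem_perpIn.2 ⟨(C.ker y hyz).1 e, hc⟩
  · exact (not_refl S JF L hy hne hc e hgz hgr hgφ).elim

open AClass in
/-- A conjugate centralizing the centralizer of an involution of `J z` is that involution. -/
theorem classify_inv (S : ASys z Ω U r σ J φ) (JF : JFacts Ω U J φ) {j : G} (hj : j ∈ J z)
    (hj2 : j * j = 1) (h1 : j ≠ 1) (hjz : j ≠ z) {y : G} (hy : y ∈ Ω) (hne : y ≠ z)
    (hc : ∀ i ∈ J z, Commute i j → Commute y i) : y = j ∨ y = z * j := by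
  have C := S.ctx z (z_mem S)
  have hyz : Commute y z := hc z C.mem (C.le j hj).symm
  have hyj : Commute y j := hc j hj (Commute.refl j)
  obtain ⟨k, hk, hkj⟩ : ∃ k ∈ J z, ¬ Commute j k := by
    by_contra hno
    push Not at hno
    rcases C.center j hj hno with e | e
    · exact h1 e
    · exact hjz e
  have four : ∀ p ∈ J z, (∀ i ∈ J z, Commute i j → Commute p i) →
      p = 1 ∨ p = z ∨ p = j ∨ p = z * j := by
    intro p hp hpc
    have all : ∀ q ∈ J z, Commute q k → (∀ i ∈ J z, Commute i j → Commute q i) →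
        q = 1 ∨ q = z := by
      intro q hq hqk hqc
      refine C.center q hq fun i hi => ?_
      by_cases hij : Commute i j
      · exact hqc i hi hij
      have hki : k⁻¹ * i ∈ J z := (J z).mul_mem ((J z).inv_mem hk) hi
      have hki' : Commute (k⁻¹ * i) j := by
        by_contra hh
        have := C.comm_mul hj hk hki
        rw [mul_inv_cancel_left, chi_neg fun e => hij e.symm, chi_neg fun e => hkj e,
          chi_neg fun e => hh e.symm] at this
        norm_num at this
      have := hqk.mul_right (hqc _ hki hki')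
      rwa [mul_inv_cancel_left] at this
    by_cases hpk : Commute p k
    · rcases all p hp hpk hpc with e | e
      · exact Or.inl e
      · exact Or.inr (Or.inl e)
    have hpj : Commute (p * j) k := by
      by_contra hh
      have := C.comm_mul hk hp hj
      rw [chi_neg fun e => hpk e.symm, chi_neg fun e => hkj e.symm, chi_neg fun e => hh e.symm] at this
      norm_num at this
    rcases all _ ((J z).mul_mem hp hj) hpj fun i hi hij => (hpc i hi hij).mul_left hij.symm with e | e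
    · exact Or.inr (Or.inr (Or.inl (by rw [← mul_one p, ← hj2, ← mul_assoc, e, one_mul])))
    · exact Or.inr (Or.inr (Or.inr (by rw [← mul_one p, ← hj2, ← mul_assoc, e])))
  have hyJ : y ∈ J z := by
    refine C.faithful y hyz fun i hi => ?_
    have hK : J z ⊓ centralizer ({j} : Set G) ≤ J z := inf_le_left
    have hmem : ∀ q, q ∈ J z ⊓ centralizer ({j} : Set G) ↔ q ∈ J z ∧ Commute q j := fun q =>
      ⟨fun h => ⟨h.1, mem_centralizer_singleton_iff.1 h.2⟩,
        fun h => ⟨h.1, mem_centralizer_singleton_iff.2 h.2⟩⟩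
    have hp := mem_perpIn.1 (C.move_perp hK hyz (fun q hq =>
      hc q ((hmem q).1 hq).1 ((hmem q).1 hq).2) hi)
    set p := y * i * y⁻¹ * i⁻¹ with hp_def
    have e0 : y * i * y⁻¹ = p * i := by rw [hp_def]; group
    by_cases hij : Commute i j
    · exact Or.inl (by rw [(hc i hi hij).eq, mul_inv_cancel_right])
    have hsq : p * i * (p * i) = i * i := by
      rw [← e0, show y * i * y⁻¹ * (y * i * y⁻¹) = y * (i * i) * y⁻¹ by group]
      rcases C.squares i hi with e | e <;> rw [e]
      · group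
      · rw [hyz.eq, mul_inv_cancel_right]
    have hbad : p = j ∨ p = z * j → False := by
      intro hcase
      have hpi : ¬ Commute p i := by
        rcases hcase with e | e <;> rw [e]
        · exact fun h => hij h.symm
        · intro h
          refine hij ?_
          have := (C.le i hi).mul_right h.symm
          rwa [← mul_assoc, C.sq, one_mul] at this
      have hpp : p * p = 1 := by
        rcases hcase with e | e <;> rw [e]
        · exact hj2
        · rw [C.a_sq_mul (C.le j hj).symm, C.sq, hj2, one_mul]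
      rw [C.mul_sq_swap hp.1 hi hpi, hpp, one_mul] at hsq
      exact C.ne_one (mul_eq_right.1 hsq)
    rcases four p hp.1 (fun q hq hqj => hp.2 q ((hmem q).2 ⟨hq, hqj⟩)) with e | e | e | e
    · exact Or.inl (by rw [e0, e, one_mul])
    · exact Or.inr (by rw [e0, e])
    · exact (hbad (Or.inl e)).elim
    · exact (hbad (Or.inr e)).elim
  rcases four y hyJ hc with e | e | e | e
  · exact absurd e (S.ctx y hy).ne_one
  · exact absurd e hne
  · exact Or.inl e
  · exact Or.inr e

end Cfsg.Agent.U62From98
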