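import Cfsg.Agent.Lib.U62From98Start

/-!
The base point with a target that need not be simple (helper98).
-/

set_option autoImplicit false
set_option linter.unusedSectionVars false
set_option linter.style.haveILetI false

namespace Cfsg.Agent.U62From98

open scoped commutatorElement

universe u v

variable {G : Type u} [Group G] {U : Type v} [Group U]

/-- Elements acting trivially on the quotient of the normal subgroup by its centre lie in it. -/
theorem faithful_aux' {H : Type u} [Group H] {Q : Subgroup H} [hQn : Q.Normal]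
    (hCJ : Subgroup.centralizer (Q : Set H) ≤ Q) (zc : H) (hzQ : zc ∈ Q)
    (hzc : ∀ h : H, Commute h zc) (hz2 : zc * zc = 1)
    (hder : ∀ x ∈ Q, ∀ y ∈ Q, x * y = y * x ∨ x * y = zc * (y * x))
    (e : H ⧸ Q ≃* U) (hnorm : ∀ N : Subgroup U, N.Normal → N = ⊥ ∨ ∃ s ∈ N, s * s ≠ 1) (h : H)
    (hh : ∀ q ∈ Q, h * q * h⁻¹ = q ∨ h * q * h⁻¹ = zc * q) : h ∈ Q := by
  have hzinv : zc⁻¹ = zc := inv_eq_of_mul_eq_one_right hz2
  let N : Subgroup H :=
    { carrier := {g | ∀ q ∈ Q, g * q * g⁻¹ = q ∨ g * q * g⁻¹ = zc * q}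
      one_mem' := fun q _ => Or.inl (by group)
      mul_mem' := fun {a b} ha hb q hq => by
        rw [show a * b * q * (a * b)⁻¹ = a * (b * q * b⁻¹) * a⁻¹ by group]
        rcases hb q hq with e' | e' <;> rw [e']
        · exact ha q hq
        · rw [show a * (zc * q) * a⁻¹ = zc * (a * q * a⁻¹) by
            rw [← mul_assoc a, (hzc a).eq]; group]
          rcases ha q hq with e'' | e'' <;> rw [e'']
          · exact Or.inr rfl
          · rw [← mul_assoc, hz2, one_mul]; exact Or.inl rfl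
      inv_mem' := fun {a} ha q hq => by
        have hq' : a⁻¹ * q * a⁻¹⁻¹ ∈ Q := hQn.conj_mem q hq a⁻¹
        have h1 : a * (a⁻¹ * q * a⁻¹⁻¹) * a⁻¹ = q := by group
        rcases ha _ hq' with e' | e'
        · exact Or.inl (e'.symm.trans h1)
        · refine Or.inr ?_
          rw [h1] at e'
          rw [eq_inv_mul_iff_mul_eq.2 e'.symm, hzinv] }
  haveI hNn : N.Normal := ⟨fun n hn g q hq => by
    have hq' : g⁻¹ * q * g⁻¹⁻¹ ∈ Q := hQn.conj_mem q hq g⁻¹
    rw [show g * n * g⁻¹ * q * (g * n * g⁻¹)⁻¹ = g * (n * (g⁻¹ * q * g⁻¹⁻¹) * n⁻¹) * g⁻¹ by group]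
    rcases hn _ hq' with e' | e' <;> rw [e']
    · exact Or.inl (by group)
    · refine Or.inr ?_
      rw [← mul_assoc g zc, (hzc g).eq]; group⟩
  let f : H →* U := e.toMonoidHom.comp (QuotientGroup.mk' Q)
  have hf : Function.Surjective f := e.surjective.comp (QuotientGroup.mk'_surjective Q)
  have hfk : ∀ g, f g = 1 ↔ g ∈ Q := fun g => by
    show e (QuotientGroup.mk' Q g) = 1 ↔ g ∈ Q
    rw [EmbeddingLike.map_eq_one_iff]
    exact QuotientGroup.eq_one_iff g
  have hhN : h ∈ N := hh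
  rcases hnorm _ (hNn.map f hf) with hb | ⟨s, ⟨g, hg, rfl⟩, hs2⟩
  · exact (hfk h).1 (Subgroup.mem_bot.1 (hb ▸ ⟨h, hhN, rfl⟩))
  · refine absurd ?_ hs2
    rw [← map_mul]
    refine (hfk _).2 (hCJ (Subgroup.mem_centralizer_iff.2 fun q hq => ?_))
    have e0 : g * g * q * (g * g)⁻¹ = q := by
      rw [show g * g * q * (g * g)⁻¹ = g * (g * q * g⁻¹) * g⁻¹ by group]
      rcases hg q hq with e' | e'
      · rw [e', e']
      · rw [e', ← mul_assoc g zc, (hzc g).eq,
          show zc * g * q * g⁻¹ = zc * (g * q * g⁻¹) by group, e', ← mul_assoc, hz2, one_mul]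
    exact (mul_inv_eq_iff_eq_mul.1 e0).symm

/-- The base point from the hypotheses. -/
theorem exists_ctx' [Finite G] (z : G) (hz : orderOf z = 2)
    (hJ : Cfsg.IsExtraspecial 2 ↥(Cfsg.pCore 2 ↥(Subgroup.centralizer ({z} : Set G))))
    (hJc : Nat.card ↥(Cfsg.pCore 2 ↥(Subgroup.centralizer ({z} : Set G))) = 2 ^ 9)
    (hCJ : Subgroup.centralizer ((Cfsg.pCore 2 ↥(Subgroup.centralizer ({z} : Set G))) :
        Set ↥(Subgroup.centralizer ({z} : Set G))) ≤
      Cfsg.pCore 2 ↥(Subgroup.centralizer ({z} : Set G)))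
    [hJn : (Cfsg.pCore 2 ↥(Subgroup.centralizer ({z} : Set G))).Normal]
    (e : (↥(Subgroup.centralizer ({z} : Set G)) ⧸ Cfsg.pCore 2 ↥(Subgroup.centralizer ({z} : Set G)))
      ≃* U) (hnorm : ∀ N : Subgroup U, N.Normal → N = ⊥ ∨ ∃ s ∈ N, s * s ≠ 1) :
    ∃ (J : Subgroup G) (φ : G → U), Ctx z J φ := by
  classical
  set H := Subgroup.centralizer ({z} : Set G) with hH
  set Q := Cfsg.pCore 2 ↥H with hQ
  have hmem : ∀ g, g ∈ H ↔ Commute g z := fun g => Subgroup.mem_centralizer_singleton_iff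
  set zc : ↥H := ⟨z, (hmem z).2 (Commute.refl z)⟩ with hzc
  have hz2 : z * z = 1 := by rw [← pow_two, ← hz]; exact pow_orderOf_eq_one z
  have hz1 : z ≠ 1 := fun h => by rw [h, orderOf_one] at hz; norm_num at hz
  have hzcC : ∀ h : ↥H, Commute h zc := fun h => Subtype.ext ((hmem _).1 h.2).eq
  have hzQ : zc ∈ Q := hCJ (Subgroup.mem_centralizer_iff.2 fun h _ => (hzcC h).eq)
  have hcard : Nat.card (Subgroup.center ↥Q) = 2 := hJ.2
  set zq : ↥Q := ⟨zc, hzQ⟩ with hzq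
  have hzcen : zq ∈ Subgroup.center ↥Q :=
    Subgroup.mem_center_iff.2 fun g => Subtype.ext (hzcC g.1).eq
  have hcen : ∀ w ∈ Subgroup.center ↥Q, w = 1 ∨ w = zq := by
    intro w hw
    have h1 : ((Subgroup.center ↥Q : Set ↥Q)) = {1, zq} := by
      refine (Set.eq_of_subset_of_ncard_le ?_ ?_).symm
      · rintro x (rfl | rfl)
        exacts [one_mem _, hzcen]
      · rw [Set.ncard_pair (fun e' => hz1 (congrArg (fun q : ↥Q => ((q : ↥H) : G)) e').symm),
          ← Nat.card_coe_set_eq]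
        exact hcard.le
    have : w ∈ ({1, zq} : Set ↥Q) := h1 ▸ hw
    simpa using this
  set J : Subgroup G := Q.map H.subtype with hJdef
  have hJmem : ∀ {g : G}, g ∈ J ↔ ∃ hg : g ∈ H, (⟨g, hg⟩ : ↥H) ∈ Q := by
    intro g
    constructor
    · rintro ⟨q, hq, rfl⟩; exact ⟨q.2, hq⟩
    · rintro ⟨hg, h⟩; exact ⟨⟨g, hg⟩, h, rfl⟩
  have hsp := hJ.1
  have hder : ∀ x y : ↥Q, x * y = y * x ∨ x * y = zq * (y * x) := by
    intro x y
    have hc : ⁅x, y⁆ ∈ Subgroup.center ↥Q := by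
      rw [← hsp.2.2]
      exact Subgroup.commutator_mem_commutator (Subgroup.mem_top _) (Subgroup.mem_top _)
    rcases hcen _ hc with h | h
    · exact Or.inl (commutatorElement_eq_one_iff_mul_comm.1 h)
    · refine Or.inr ?_
      rw [← h, commutatorElement_def]; group
  have hsq : ∀ x : ↥Q, x * x = 1 ∨ x * x = zq := by
    intro x
    refine hcen _ ?_
    rw [← hsp.2.1]
    have := PGroupsBasic.pow_mem_frattini (p := 2) hsp.1 x
    rwa [pow_two] at this
  let φ : G → U := fun g => if hg : g ∈ H then e (QuotientGroup.mk' Q ⟨g, hg⟩) else 1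
  have hφ : ∀ {g : G} (hg : g ∈ H), φ g = e (QuotientGroup.mk' Q ⟨g, hg⟩) := fun hg => dif_pos hg
  refine ⟨J, φ,
    { sq := hz2
      ne_one := hz1
      mem := hJmem.2 ⟨(hmem z).2 (Commute.refl z), hzQ⟩
      le := fun j hj => (hmem j).1 (hJmem.1 hj).1
      normal := ?_
      card := ?_
      comm := ?_
      squares := ?_
      center := ?_
      faithful := ?_
      hom := ?_
      ker := ?_
      surj := ?_ }⟩
  · intro h hh j hj
    obtain ⟨hg, hq⟩ := hJmem.1 hj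
    exact ⟨_, hJn.conj_mem _ hq ⟨h, (hmem h).2 hh⟩, rfl⟩
  · rw [← Nat.card_congr (Q.equivMapOfInjective H.subtype H.subtype_injective).toEquiv, hJc]
    norm_num
  · intro x hx y hy
    obtain ⟨hx', hxq⟩ := hJmem.1 hx
    obtain ⟨hy', hyq⟩ := hJmem.1 hy
    rcases hder ⟨_, hxq⟩ ⟨_, hyq⟩ with h | h
    · exact Or.inl (congrArg (fun q : ↥Q => ((q : ↥H) : G)) h)
    · exact Or.inr (congrArg (fun q : ↥Q => ((q : ↥H) : G)) h)
  · intro x hx
    obtain ⟨hx', hxq⟩ := hJmem.1 hx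
    rcases hsq ⟨_, hxq⟩ with h | h
    · exact Or.inl (congrArg (fun q : ↥Q => ((q : ↥H) : G)) h)
    · exact Or.inr (congrArg (fun q : ↥Q => ((q : ↥H) : G)) h)
  · intro x hx hc
    obtain ⟨hx', hxq⟩ := hJmem.1 hx
    rcases hcen (⟨_, hxq⟩ : ↥Q) (Subgroup.mem_center_iff.2 fun q =>
      Subtype.ext (Subtype.ext (hc _ ⟨q.1, q.2, rfl⟩).eq.symm)) with h | h
    · exact Or.inl (congrArg (fun q : ↥Q => ((q : ↥H) : G)) h)
    · exact Or.inr (congrArg (fun q : ↥Q => ((q : ↥H) : G)) h)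
  · intro h hh hfix
    refine hJmem.2 ⟨(hmem h).2 hh, ?_⟩
    have hfix' : ∀ q ∈ Q, (⟨h, (hmem h).2 hh⟩ : ↥H) * q * (⟨h, (hmem h).2 hh⟩ : ↥H)⁻¹ = q ∨
        (⟨h, (hmem h).2 hh⟩ : ↥H) * q * (⟨h, (hmem h).2 hh⟩ : ↥H)⁻¹ = zc * q := fun q hq =>
      (hfix (q : G) ⟨q, hq, rfl⟩).imp (fun e' => Subtype.ext e') fun e' => Subtype.ext e'
    exact faithful_aux' hCJ zc hzQ hzcC (Subtype.ext hz2) (fun x hx y hy => by
      rcases hder ⟨x, hx⟩ ⟨y, hy⟩ with e' | e'
      · exact Or.inl (congrArg Subtype.val e')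
      · exact Or.inr (congrArg Subtype.val e')) e hnorm _ hfix'
  · intro g h hg hh
    rw [hφ ((hmem g).2 hg), hφ ((hmem h).2 hh), hφ ((hmem _).2 (hg.mul_left hh)), ← map_mul,
      ← map_mul]
    rfl
  · intro g hg
    rw [hφ ((hmem g).2 hg), EmbeddingLike.map_eq_one_iff]
    exact (QuotientGroup.eq_one_iff _).trans ⟨fun h => hJmem.2 ⟨_, h⟩, fun h => (hJmem.1 h).2⟩
  · intro u
    obtain ⟨q, hq⟩ := QuotientGroup.mk'_surjective Q (e.symm u)
    exact ⟨q.1, (hmem _).1 q.2, by rw [hφ q.2]; simp [hq]⟩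

end Cfsg.Agent.U62From98
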