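import Mathlib
import Cfsg.Agent.Lib.U62RecogSetup19

/-!
The facts about `U₄(2) ≅ PSp₄(3)` and its class `T` of 45 involutions used to derive the
recognition hypotheses of `U₆(2)` from the centralizer `2^(1+8).U₄(2)` (helper98).
-/

set_option autoImplicit false

namespace Cfsg.Agent.U62From98

open Subgroup

variable {U : Type*} [Group U]

/-- An elementary abelian 2-subgroup. -/
def Elem2 (E : Subgroup U) : Prop := (∀ a ∈ E, a * a = 1) ∧ ∀ a ∈ E, ∀ b ∈ E, Commute a b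

/-- The facts about the group of order 25920 and its transvections. -/
structure UFacts (T : Set U) : Prop where
  card : Nat.card U = 25920
  graph : U62RecogSetup19.TGraph T
  ne_one : ∀ a ∈ T, a ≠ 1
  conj_T : ∀ a ∈ T, ∀ g : U, g * a * g⁻¹ ∈ T
  trans : ∀ a ∈ T, ∀ b ∈ T, ∃ g : U, g * a * g⁻¹ = b
  gen : Subgroup.closure T = ⊤
  cent_T : ∀ a ∈ T, Nat.card (centralizer ({a} : Set U)) = 576
  other : ∀ c : U, c * c = 1 → c ≠ 1 → c ∉ T → Nat.card (centralizer ({c} : Set U)) = 96 ∧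
    ∃ a ∈ T, ∃ b ∈ T, a ≠ b ∧ Commute a b ∧ a * b = c
  five : ∀ s : U, orderOf s = 5 → Nat.card (centralizer ({s} : Set U)) = 5
  /-- no elementary subgroup of order 32 -/
  elem : ∀ E : Subgroup U, Elem2 E → Nat.card E ≤ 16
  four : ∀ E : Subgroup U, Elem2 E → Nat.card E = 4 → Nat.card (normalizer (E : Set U)) < 192
  eight : ∀ E : Subgroup U, Elem2 E → Nat.card E = 8 →
    Nat.card (normalizer (E : Set U)) ≤ 192 ∧ ∃ a ∈ T, a ∈ E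
  /-- the normalizer of order 192 fixes one member of `T`, is transitive on the three four-groups
  of `E` over it, and every other orbit on `T` has length not 1, 2, 3, 6 -/
  eight_max : ∀ E : Subgroup U, Elem2 E → Nat.card E = 8 →
    Nat.card (normalizer (E : Set U)) = 192 → ∃ a ∈ T, a ∈ E ∧
      (∀ g ∈ normalizer (E : Set U), g * a * g⁻¹ = a) ∧
      (∀ b ∈ T, b ≠ a →
        {c | ∃ g ∈ normalizer (E : Set U), g * b * g⁻¹ = c}.ncard ∉ ({1, 2, 3, 6} : Set ℕ)) ∧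
      (∀ b ∈ E, b ≠ 1 → b ≠ a → ∀ c ∈ E, c ≠ 1 → c ≠ a →
        ∃ g ∈ normalizer (E : Set U), g * b * g⁻¹ = c ∨ g * b * g⁻¹ = a * c)
  sixteen : ∀ E : Subgroup U, Elem2 E → Nat.card E = 16 →
    Nat.card (normalizer (E : Set U)) = 960 ∧ {t | t ∈ T ∧ t ∈ E}.ncard = 5 ∧
      ∃ a ∈ T, ∃ b ∈ T, ∃ c ∈ T, ∃ d ∈ T, a ∈ E ∧ b ∈ E ∧ c ∈ E ∧ d ∈ E ∧ a * b * c * d ∈ T
  sixteen_conj : ∀ E E' : Subgroup U, Elem2 E → Nat.card E = 16 → Elem2 E' → Nat.card E' = 16 →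
    ∃ g : U, ∀ v : U, v ∈ E ↔ g * v * g⁻¹ ∈ E'
  pair_sixteen : ∀ a ∈ T, ∀ b ∈ T, Commute a b →
    ∃ E : Subgroup U, Elem2 E ∧ Nat.card E = 16 ∧ a ∈ E ∧ b ∈ E
  /-- subgroups of order at least 32 with all squares in a central subgroup of order two -/
  squares : ∀ (P : Subgroup U) (c : U), c * c = 1 → c ≠ 1 → c ∈ P → (∀ p ∈ P, Commute p c) →
    (∀ p ∈ P, p * p = 1 ∨ p * p = c) → 32 ≤ Nat.card P →
      Nat.card P = 32 ∧ c ∈ T ∧ (∀ t ∈ T, t ∈ P → t = c) ∧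
      (∀ p ∈ P, (∀ q ∈ P, Commute p q) → p = 1 ∨ p = c) ∧
      (∀ g : U, Commute g c → (∀ p ∈ P, g * p * g⁻¹ = p ∨ g * p * g⁻¹ = c * p) → g ∈ P)
  nbr_cent : ∀ a ∈ T, ∀ g : U, (∀ b ∈ T, b ≠ a → Commute b a → Commute g b) → g = 1 ∨ g = a
  hop : ∀ a ∈ T, ∀ b ∈ T, ¬ Commute a b → ∃ c₁ ∈ T, ∃ c₂ ∈ T, Commute c₁ b ∧ Commute c₂ b ∧
    Commute (c₂ * (c₁ * a * c₁) * c₂) a ∧ c₂ * (c₁ * a * c₁) * c₂ ≠ a

end Cfsg.Agent.U62From98
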