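import Mathlib
import Cfsg.Agent.Lib.U62From98UFacts

/-!
Local setting for the recognition of `U₆(2)` from an involution with centralizer
`2^(1+8).U₄(2)`: the conjugates `Ω` of the involution, each with its extraspecial subgroup `J a` and
its map `φ a` onto `U₄(2)` (helper98).
-/

set_option autoImplicit false

namespace Cfsg.Agent.U62From98

open Subgroup

universe u v

variable {G : Type u} [Group G] {U : Type v} [Group U]

/-- The hypotheses at one involution. -/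
structure Ctx (a : G) (J : Subgroup G) (φ : G → U) : Prop where
  sq : a * a = 1
  ne_one : a ≠ 1
  mem : a ∈ J
  le : ∀ j ∈ J, Commute j a
  normal : ∀ h : G, Commute h a → ∀ j ∈ J, h * j * h⁻¹ ∈ J
  card : Nat.card J = 512
  comm : ∀ x ∈ J, ∀ y ∈ J, x * y = y * x ∨ x * y = a * (y * x)
  squares : ∀ x ∈ J, x * x = 1 ∨ x * x = a
  center : ∀ x ∈ J, (∀ y ∈ J, Commute x y) → x = 1 ∨ x = a
  faithful : ∀ h : G, Commute h a → (∀ j ∈ J, h * j * h⁻¹ = j ∨ h * j * h⁻¹ = a * j) → h ∈ J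
  hom : ∀ g h : G, Commute g a → Commute h a → φ (g * h) = φ g * φ h
  ker : ∀ g : G, Commute g a → (φ g = 1 ↔ g ∈ J)
  surj : ∀ u : U, ∃ g : G, Commute g a ∧ φ g = u

/-- The hypotheses at all conjugates of `z`, compatible under conjugation. -/
structure Sys (z : G) (Ω : Set G) (T : Set U) (J : G → Subgroup G) (φ : G → G → U) : Prop where
  class_eq : Ω = {d | ∃ g : G, g * z * g⁻¹ = d}
  ctx : ∀ a ∈ Ω, Ctx a (J a) (φ a)
  J_conj : ∀ a ∈ Ω, ∀ g : G, ∀ v ∈ J a, g * v * g⁻¹ ∈ J (g * a * g⁻¹)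
  T_conj : ∀ a ∈ Ω, ∀ g y : G, Commute y a → φ a y ∈ T →
    φ (g * a * g⁻¹) (g * y * g⁻¹) ∈ T
  facts : UFacts T

/-- Two commuting members of `Ω`. -/
def Pair (Ω : Set G) (a b : G) : Prop := a ∈ Ω ∧ b ∈ Ω ∧ a ≠ b ∧ Commute a b

/-- No member of `Ω` lies in the extraspecial subgroup of another. -/
def NoJ (Ω : Set G) (J : G → Subgroup G) : Prop := ∀ a b : G, Pair Ω a b → b ∉ J a

/-- The elements `w` with `b * w` conjugate to `b` under `J a`. -/
def Wset (J : G → Subgroup G) (a b : G) : Set G := {w | ∃ j ∈ J a, j * b * j⁻¹ = b * w}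

/-- The subgroup over the commutator space of `b` on `J a / ⟨a⟩`. -/
def RR (J : G → Subgroup G) (a b : G) : Subgroup G := Subgroup.closure (insert a (Wset J a b))

/-- What holds when the image of `b` at `a` is a transvection. -/
structure GoodFacts (Ω : Set G) (T : Set U) (J : G → Subgroup G) (φ : G → G → U) (a b : G) :
    Prop where
  symm : φ b a ∈ T
  cardC : {j | j ∈ J a ∧ Commute j b}.ncard = 128
  cardD : {d | d ∈ J a ∧ d ∈ J b}.ncard = 4
  cardW : (Wset J a b).ncard = 4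
  notMem : a ∉ Wset J a b
  inv : ∀ w ∈ Wset J a b, w * w = 1 ∧ Commute w b
  cent : ∀ w ∈ Wset J a b, ∀ j ∈ J a, Commute j b → Commute j w
  three : ∀ w₁ ∈ Wset J a b, ∀ w₂ ∈ Wset J a b, ∀ w₃ ∈ Wset J a b, w₁ ≠ 1 → w₂ ≠ 1 → w₃ ≠ 1 →
    w₁ ≠ w₂ → w₁ ≠ w₃ → w₂ ≠ w₃ → w₁ * w₂ * w₃ = a
  inter : ∀ d ∈ J a, d ∈ J b → d ≠ 1 → a * d ∈ Wset J a b
  fibre : ∀ y ∈ Ω, Commute y a → φ a y = φ a b → ∃ w ∈ Wset J a b, y = b * w

/-- What holds when the image of `b` at `a` is not a transvection. -/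
structure BadFacts (Ω : Set G) (T : Set U) (J : G → Subgroup G) (φ : G → G → U) (a b : G) :
    Prop where
  symm : φ b a ∉ T
  cardR : Nat.card (RR J a b) = 32
  le : RR J a b ≤ J a
  fixed : ∀ j ∈ J a, (j * b * j⁻¹ = b ∨ j * b * j⁻¹ = b * a) → j ∈ RR J a b
  cases : (a ∈ Wset J a b ∧ ∃ r ∈ RR J a b, ¬ Commute b r) ∨
    (a ∉ Wset J a b ∧ (Wset J a b).ncard = 16 ∧
      ∀ y ∈ Ω, Commute y a → φ a y = φ a b → ∃ w ∈ Wset J a b, y = b * w)

/-- The classification of commuting pairs. -/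
structure PairFacts (Ω : Set G) (T : Set U) (J : G → Subgroup G) (φ : G → G → U) : Prop where
  good : ∀ a b : G, Pair Ω a b → φ a b ∈ T → GoodFacts Ω T J φ a b
  bad : ∀ a b : G, Pair Ω a b → φ a b ∉ T → BadFacts Ω T J φ a b
  exists_good : ∀ a b : G, Pair Ω a b → ∃ a' b', Pair Ω a' b' ∧ φ a' b' ∈ T

end Cfsg.Agent.U62From98
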