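import Mathlib
import Cfsg.Agent.Lib.U62From98Defs

/-!
Elementary consequences of the local hypotheses: the commutator sign, duality of centralizers in the
extraspecial group, orbit counting, and the number of involutions (helper98).
-/

set_option autoImplicit false
set_option linter.unusedSectionVars false
set_option linter.style.haveILetI false

namespace Cfsg.Agent.U62From98

open Subgroup

universe u v

variable {G : Type u} [Group G] {U : Type v} [Group U]
variable {a : G} {J : Subgroup G} {φ : G → U}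

/-- The sign of the commutator of two elements of `J`. -/
noncomputable def chi (x y : G) : ℤ := by
  classical exact if x * y = y * x then 1 else -1

theorem chi_pos {x y : G} (h : x * y = y * x) : chi x y = 1 := by simp [chi, h]

theorem chi_neg {x y : G} (h : x * y ≠ y * x) : chi x y = -1 := by simp [chi, h]

namespace Ctx

variable (C : Ctx a J φ)
include C

theorem a_inv : a⁻¹ = a := inv_eq_of_mul_eq_one_right C.sq

theorem a_comm {x : G} (hx : x ∈ J) : a * x = x * a := (C.le x hx).eq.symm

theorem phi_one : φ 1 = 1 := (C.ker 1 (Commute.one_left a)).2 J.one_mem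

theorem phi_a : φ a = 1 := (C.ker a (Commute.refl a)).2 C.mem

theorem phi_inv {g : G} (hg : Commute g a) : φ g⁻¹ = (φ g)⁻¹ := by
  refine eq_inv_of_mul_eq_one_left ?_
  rw [← C.hom _ _ hg.inv_left hg, inv_mul_cancel, C.phi_one]

theorem phi_conj {g h : G} (hg : Commute g a) (hh : Commute h a) :
    φ (g * h * g⁻¹) = φ g * φ h * (φ g)⁻¹ := by
  rw [C.hom _ _ (hg.mul_left hh) hg.inv_left, C.hom _ _ hg hh, C.phi_inv hg]

theorem phi_eq_iff {g h : G} (hg : Commute g a) (hh : Commute h a) :
    φ g = φ h ↔ g⁻¹ * h ∈ J := by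
  rw [← C.ker _ (hg.inv_left.mul_left hh), C.hom _ _ hg.inv_left hh, C.phi_inv hg,
    inv_mul_eq_one]

theorem phi_mul_J {g j : G} (hg : Commute g a) (hj : j ∈ J) : φ (g * j) = φ g := by
  rw [C.hom _ _ hg (C.le j hj), (C.ker j (C.le j hj)).2 hj, mul_one]

theorem ne_swap {x y : G} (h : x * y = a * (y * x)) : x * y ≠ y * x := fun h' => C.ne_one (by
  rw [h'] at h
  exact mul_eq_right.1 h.symm)

theorem comm_mul {x y y' : G} (hx : x ∈ J) (hy : y ∈ J) (hy' : y' ∈ J) :
    chi x (y * y') = chi x y * chi x y' := by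
  have h2 : a * a = 1 := C.sq
  rcases C.comm x hx y hy with e | e <;> rcases C.comm x hx y' hy' with e' | e'
  · rw [chi_pos e, chi_pos e', chi_pos, one_mul]
    rw [← mul_assoc, e, mul_assoc, e', mul_assoc]
  all_goals have hne : ∀ u v : G, u * v = a * (v * u) → u * v ≠ v * u := fun u v h => C.ne_swap h
  · rw [chi_pos e, chi_neg (hne _ _ e'), chi_neg, one_mul]
    apply hne
    rw [← mul_assoc, e, mul_assoc, e', ← mul_assoc, ← C.a_comm hy]
    group
  · rw [chi_neg (hne _ _ e), chi_pos e', chi_neg, mul_one]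
    apply hne
    rw [← mul_assoc, e, mul_assoc, mul_assoc, e']
    group
  · rw [chi_neg (hne _ _ e), chi_neg (hne _ _ e'), chi_pos]
    · norm_num
    rw [← mul_assoc, e, mul_assoc, mul_assoc, e', ← mul_assoc y a, ← C.a_comm hy, mul_assoc,
      ← mul_assoc a a, h2, one_mul]
    group

variable [Finite G]

/-- Duality in the extraspecial group. -/
theorem dual {A : Subgroup G} (hA : A ≤ J) (ha : a ∈ A) :
    {j | j ∈ J ∧ ∀ y ∈ A, Commute j y}.ncard * Nat.card A = 1024 := by
  classical
  haveI : Fintype G := Fintype.ofFinite G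
  set Js : Finset G := Finset.univ.filter (· ∈ J) with hJs
  set As : Finset G := Finset.univ.filter (· ∈ A) with hAs
  have hJc : Js.card = 512 := by
    rw [← C.card, Nat.card_eq_fintype_card, Fintype.card_subtype]
  have hAc : As.card = Nat.card A := by rw [Nat.card_eq_fintype_card, Fintype.card_subtype]
  have rows : ∀ y ∈ As, ∑ j ∈ Js, chi y j = if y = 1 ∨ y = a then (512 : ℤ) else 0 := by
    intro y hy
    have hyJ : y ∈ J := hA (Finset.mem_filter.1 hy).2
    split_ifs with h
    · rw [Finset.sum_eq_card_nsmul (b := (1 : ℤ)) fun j hj => chi_pos ?_, hJc]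
      · norm_num
      · rcases h with rfl | rfl
        · simp
        · exact C.a_comm (Finset.mem_filter.1 hj).2
    · have : ∃ k ∈ J, ¬ Commute y k := by
        by_contra hne
        push Not at hne
        exact h (C.center y hyJ hne)
      obtain ⟨k, hk, hyk⟩ := this
      have e : ∑ j ∈ Js, chi y j = ∑ j ∈ Js, chi y (k * j) := by
        refine (Finset.sum_bij (fun j _ => k * j) ?_ ?_ ?_ fun j _ => rfl).symm
        · intro j hj; simpa [hJs] using J.mul_mem hk (by simpa [hJs] using hj)
        · intro i _ j _ e; exact mul_left_cancel e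
        · intro j hj
          refine ⟨k⁻¹ * j, ?_, mul_inv_cancel_left k j⟩
          simpa [hJs] using J.mul_mem (J.inv_mem hk) (by simpa [hJs] using hj)
      have e2 : ∑ j ∈ Js, chi y (k * j) = -∑ j ∈ Js, chi y j := by
        rw [← Finset.sum_neg_distrib]
        refine Finset.sum_congr rfl fun j hj => ?_
        rw [C.comm_mul hyJ hk (Finset.mem_filter.1 hj).2, chi_neg (fun e => hyk e)]
        ring
      omega
  have cols : ∀ j ∈ Js, ∑ y ∈ As, chi y j =
      if ∀ y ∈ A, Commute j y then (Nat.card A : ℤ) else 0 := by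
    intro j hj
    have hjJ : j ∈ J := (Finset.mem_filter.1 hj).2
    split_ifs with h
    · rw [Finset.sum_eq_card_nsmul (b := (1 : ℤ)) fun y hy => chi_pos
        (h y (Finset.mem_filter.1 hy).2).eq.symm, hAc]
      simp
    · push Not at h
      obtain ⟨k, hk, hjk⟩ := h
      have e : ∑ y ∈ As, chi y j = ∑ y ∈ As, chi (k * y) j := by
        refine (Finset.sum_bij (fun y _ => k * y) ?_ ?_ ?_ fun y _ => rfl).symm
        · intro y hy; simpa [hAs] using A.mul_mem hk (by simpa [hAs] using hy)
        · intro i _ j _ e; exact mul_left_cancel e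
        · intro y hy
          refine ⟨k⁻¹ * y, ?_, mul_inv_cancel_left k y⟩
          simpa [hAs] using A.mul_mem (A.inv_mem hk) (by simpa [hAs] using hy)
      have symm : ∀ y, chi y j = chi j y := fun y => by simp [chi, eq_comm]
      have e2 : ∑ y ∈ As, chi (k * y) j = -∑ y ∈ As, chi y j := by
        rw [← Finset.sum_neg_distrib]
        refine Finset.sum_congr rfl fun y hy => ?_
        rw [symm, symm y, C.comm_mul hjJ (hA hk) (hA (Finset.mem_filter.1 hy).2),
          chi_neg (fun e => hjk e)]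
        ring
      omega
  have key := Finset.sum_comm (s := As) (t := Js) (f := fun y j => chi y j)
  rw [Finset.sum_congr rfl rows, Finset.sum_congr rfl cols, ← Finset.sum_filter,
    ← Finset.sum_filter, Finset.sum_const, Finset.sum_const] at key
  have h2 : (As.filter fun y => y = 1 ∨ y = a).card = 2 := by
    rw [show (As.filter fun y => y = 1 ∨ y = a) = {1, a} from ?_, Finset.card_pair C.ne_one.symm]
    ext y
    simp only [hAs, Finset.mem_filter, Finset.mem_univ, true_and, Finset.mem_insert,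
      Finset.mem_singleton]
    exact ⟨fun h => h.2, fun h => ⟨by rcases h with rfl | rfl <;> simp [A.one_mem, ha], h⟩⟩
  rw [h2] at key
  have hset : {j | j ∈ J ∧ ∀ y ∈ A, Commute j y}.ncard =
      (Js.filter fun j => ∀ y ∈ A, Commute j y).card := by
    rw [← Set.ncard_coe_finset]
    congr 1
    ext j
    simp [hJs]
  rw [hset]
  simp only [nsmul_eq_mul] at key
  have : (((Js.filter fun j => ∀ y ∈ A, Commute j y).card * Nat.card A : ℕ) : ℤ) = 1024 := by
    push_cast at key ⊢
    omega
  exact_mod_cast this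

/-- At most 272 elements of `J` square to one. -/
theorem card_involutions : {j | j ∈ J ∧ j * j = 1}.ncard ≤ 272 := by
  classical
  haveI : Fintype G := Fintype.ofFinite G
  set Js : Finset G := Finset.univ.filter (· ∈ J) with hJs
  have hJc : Js.card = 512 := by
    rw [← C.card, Nat.card_eq_fintype_card, Fintype.card_subtype]
  let f : G → ℤ := fun j => if j * j = 1 then 1 else -1
  have hf : ∀ x ∈ J, ∀ y ∈ J, f (x * y) = f x * f y * chi x y := by
    intro x hx y hy
    have hxx := C.squares x hx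
    have hyy := C.squares y hy
    have hna : a ≠ 1 := C.ne_one
    rcases C.comm x hx y hy with e | e
    · have sq : x * y * (x * y) = x * x * (y * y) := by
        rw [mul_assoc, ← mul_assoc y, ← e]; group
      rw [chi_pos e, mul_one]
      rcases hxx with h | h <;> rcases hyy with h' | h' <;>
        simp [f, sq, h, h', hna, C.sq]
    · have e' : y * x = a * (x * y) := by rw [e, ← mul_assoc, C.sq, one_mul]
      have sq : x * y * (x * y) = a * (x * x * (y * y)) := by
        rw [mul_assoc, ← mul_assoc y, e', ← mul_assoc x, ← mul_assoc x, ← C.a_comm hx]; group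
      have hne : x * y ≠ y * x := C.ne_swap e
      rw [chi_neg hne]
      rcases hxx with h | h <;> rcases hyy with h' | h' <;>
        simp [f, sq, h, h', hna, C.sq]
  have rows : ∀ m ∈ Js, ∑ j ∈ Js, chi m j = if m = 1 ∨ m = a then (512 : ℤ) else 0 := by
    intro m hm
    have hmJ : m ∈ J := (Finset.mem_filter.1 hm).2
    split_ifs with h
    · rw [Finset.sum_eq_card_nsmul (b := (1 : ℤ)) fun j hj => chi_pos ?_, hJc]
      · norm_num
      · rcases h with rfl | rfl
        · simp
        · exact C.a_comm (Finset.mem_filter.1 hj).2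
    · have : ∃ k ∈ J, ¬ Commute m k := by
        by_contra hne
        push Not at hne
        exact h (C.center m hmJ hne)
      obtain ⟨k, hk, hmk⟩ := this
      have e : ∑ j ∈ Js, chi m j = ∑ j ∈ Js, chi m (k * j) := by
        refine (Finset.sum_bij (fun j _ => k * j) ?_ ?_ ?_ fun j _ => rfl).symm
        · intro j hj; simpa [hJs] using J.mul_mem hk (by simpa [hJs] using hj)
        · intro i _ j _ e; exact mul_left_cancel e
        · intro j hj
          refine ⟨k⁻¹ * j, ?_, mul_inv_cancel_left k j⟩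
          simpa [hJs] using J.mul_mem (J.inv_mem hk) (by simpa [hJs] using hj)
      have e2 : ∑ j ∈ Js, chi m (k * j) = -∑ j ∈ Js, chi m j := by
        rw [← Finset.sum_neg_distrib]
        refine Finset.sum_congr rfl fun j hj => ?_
        rw [C.comm_mul hmJ hk (Finset.mem_filter.1 hj).2, chi_neg (fun e => hmk e)]
        ring
      omega
  have ff : ∀ x, f x * f x = 1 := fun x => by by_cases h : x * x = 1 <;> simp [f, h]
  have hsq : (∑ j ∈ Js, f j) * (∑ j ∈ Js, f j) = ∑ m ∈ Js, f m * ∑ j ∈ Js, chi m j := by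
    rw [Finset.sum_mul_sum, Finset.sum_congr rfl fun (x : G) (hx : x ∈ Js) =>
      show ∑ y ∈ Js, f x * f y = ∑ m ∈ Js, f m * chi m x from ?_]
    · rw [Finset.sum_comm]; simp_rw [Finset.mul_sum]
    · have hxJ : x ∈ J := (Finset.mem_filter.1 hx).2
      refine (Finset.sum_bij (fun m _ => m * x) ?_ ?_ ?_ fun m hm => ?_).symm
      · intro m hm; simpa [hJs] using J.mul_mem (by simpa [hJs] using hm) hxJ
      · intro i _ j _ e; exact mul_right_cancel e
      · intro m hm
        refine ⟨m * x⁻¹, ?_, inv_mul_cancel_right m x⟩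
        simpa [hJs] using J.mul_mem (by simpa [hJs] using hm) (J.inv_mem hxJ)
      · rw [hf m (Finset.mem_filter.1 hm).2 x hxJ]
        calc f m * chi m x = f x * f x * (f m * chi m x) := by rw [ff, one_mul]
          _ = _ := by ring
  have hrs : ∑ m ∈ Js, f m * ∑ j ∈ Js, chi m j =
      ∑ m ∈ Js, if m = 1 ∨ m = a then f m * 512 else 0 :=
    Finset.sum_congr rfl fun m hm => by rw [rows m hm, mul_ite, mul_zero]
  rw [hrs, ← Finset.sum_filter] at hsq
  have h2 : Js.filter (fun m => m = 1 ∨ m = a) = {1, a} := by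
    ext m
    simp only [hJs, Finset.mem_filter, Finset.mem_univ, true_and, Finset.mem_insert,
      Finset.mem_singleton]
    exact ⟨fun h => h.2, fun h => ⟨by rcases h with rfl | rfl <;> simp [J.one_mem, C.mem], h⟩⟩
  rw [h2, Finset.sum_pair C.ne_one.symm] at hsq
  have hfa : f 1 = 1 ∧ f a = 1 := by simp [f, C.sq]
  rw [hfa.1, hfa.2] at hsq
  have hsum : ∑ j ∈ Js, f j = 2 * ((Js.filter fun j => j * j = 1).card : ℤ) - 512 := by
    have h3 := Finset.card_filter_add_card_filter_not (s := Js) (fun j => j * j = 1)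
    simp only [f, Finset.sum_ite, Finset.sum_const, nsmul_eq_mul, mul_one]
    rw [hJc] at h3
    omega
  rw [hsum] at hsq
  have hset : {j | j ∈ J ∧ j * j = 1}.ncard = (Js.filter fun j => j * j = 1).card := by
    rw [← Set.ncard_coe_finset]
    congr 1
    ext j
    simp [hJs]
  rw [hset]
  by_contra hlt
  have h4 : (273 : ℤ) ≤ ((Js.filter fun j => j * j = 1).card : ℤ) := by omega
  nlinarith

/-- The quotient map as a homomorphism. -/
noncomputable def phiHom : centralizer ({a} : Set G) →* U :=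
  MonoidHom.mk' (fun g => φ (g : G)) fun g h =>
    C.hom _ _ (mem_centralizer_singleton_iff.1 g.2) (mem_centralizer_singleton_iff.1 h.2)

omit [Finite G] in
theorem phiHom_surjective : Function.Surjective C.phiHom := fun u => by
  obtain ⟨g, hg, rfl⟩ := C.surj u
  exact ⟨⟨g, mem_centralizer_singleton_iff.2 hg.eq⟩, rfl⟩

/-- The order of the centralizer. -/
theorem card_centralizer {T : Set U} (F : UFacts T) :
    Nat.card (centralizer ({a} : Set G)) = 13271040 := by
  have hk : Nat.card C.phiHom.ker = 512 := by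
    rw [← C.card]
    refine Nat.card_congr ⟨fun g => ⟨((g : centralizer ({a} : Set G)) : G), ?_⟩,
      fun j => ⟨⟨(j : G), mem_centralizer_singleton_iff.2 (C.le _ j.2).eq⟩,
        (C.ker _ (C.le _ j.2)).2 j.2⟩, fun g => rfl, fun j => rfl⟩
    exact (C.ker _ (mem_centralizer_singleton_iff.1 (g : centralizer ({a} : Set G)).2)).1 g.2
  rw [Subgroup.card_eq_card_quotient_mul_card_subgroup C.phiHom.ker,
    Nat.card_congr (QuotientGroup.quotientKerEquivOfSurjective C.phiHom C.phiHom_surjective).toEquiv,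
    F.card, hk]

end Ctx

namespace Sys

variable {z : G} {Ω : Set G} {T : Set U} {J : G → Subgroup G} {φ : G → G → U}
  (S : Sys z Ω T J φ)
include S

theorem z_mem : z ∈ Ω := by rw [S.class_eq]; exact ⟨1, by group⟩

theorem conj_mem {a : G} (ha : a ∈ Ω) (g : G) : g * a * g⁻¹ ∈ Ω := by
  rw [S.class_eq] at ha ⊢
  obtain ⟨h, rfl⟩ := ha
  exact ⟨g * h, by group⟩

theorem exists_conj {a b : G} (ha : a ∈ Ω) (hb : b ∈ Ω) : ∃ g : G, g * a * g⁻¹ = b := by
  rw [S.class_eq] at ha hb
  obtain ⟨g, rfl⟩ := ha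
  obtain ⟨h, rfl⟩ := hb
  exact ⟨h * g⁻¹, by group⟩

theorem mem_J_iff {a : G} (ha : a ∈ Ω) (g v : G) :
    g * v * g⁻¹ ∈ J (g * a * g⁻¹) ↔ v ∈ J a := by
  refine ⟨fun h => ?_, S.J_conj a ha g v⟩
  have := S.J_conj _ (S.conj_mem ha g) g⁻¹ _ h
  simpa [mul_assoc] using this

theorem T_iff {a : G} (ha : a ∈ Ω) (g : G) {y : G} (hy : Commute y a) :
    φ (g * a * g⁻¹) (g * y * g⁻¹) ∈ T ↔ φ a y ∈ T := by
  refine ⟨fun h => ?_, S.T_conj a ha g y hy⟩
  have := S.T_conj _ (S.conj_mem ha g) g⁻¹ _ (U62RecogSetup19.commute_cj g hy) h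
  simpa [mul_assoc] using this

theorem pair_symm {a b : G} (h : Pair Ω a b) : Pair Ω b a := ⟨h.2.1, h.1, h.2.2.1.symm, h.2.2.2.symm⟩

theorem pair_conj {a b : G} (h : Pair Ω a b) (g : G) : Pair Ω (g * a * g⁻¹) (g * b * g⁻¹) :=
  ⟨S.conj_mem h.1 g, S.conj_mem h.2.1 g, U62RecogSetup19.cj_ne h.2.2.1,
    U62RecogSetup19.commute_cj g h.2.2.2⟩

/-- Conjugating `b` inside the centralizer of `a` keeps it a partner of `a`. -/
theorem pair_move {a b g : G} (h : Pair Ω a b) (hg : Commute g a) : Pair Ω a (g * b * g⁻¹) := by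
  have := S.pair_conj h g
  rwa [show g * a * g⁻¹ = a by rw [hg.eq, mul_inv_cancel_right]] at this

theorem sq {a : G} (ha : a ∈ Ω) : a * a = 1 := (S.ctx a ha).sq

theorem inv_eq {a : G} (ha : a ∈ Ω) : a⁻¹ = a := (S.ctx a ha).a_inv

theorem phi_sq {a b : G} (h : Pair Ω a b) : φ a b * φ a b = 1 := by
  rw [← (S.ctx a h.1).hom _ _ h.2.2.2.symm h.2.2.2.symm, S.sq h.2.1, (S.ctx a h.1).phi_one]

theorem phi_ne_one (N : NoJ Ω J) {a b : G} (h : Pair Ω a b) : φ a b ≠ 1 := fun e =>
  N a b h (((S.ctx a h.1).ker b h.2.2.2.symm).1 e)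

/-- A partner times an element of `Wset` is again a partner. -/
theorem pair_mul {a b w : G} (h : Pair Ω a b) (hw : w ∈ Wset J a b) : Pair Ω a (b * w) := by
  obtain ⟨j, hj, e⟩ := hw
  rw [← e]
  exact S.pair_move h ((S.ctx a h.1).le j hj)

theorem phi_mul_W {a b w : G} (h : Pair Ω a b) (hw : w ∈ Wset J a b) :
    φ a (b * w) = φ a b := by
  obtain ⟨j, hj, e⟩ := hw
  have hjc := (S.ctx a h.1).le j hj
  rw [← e, (S.ctx a h.1).phi_conj hjc h.2.2.2.symm, ((S.ctx a h.1).ker j hjc).2 hj, one_mul,
    inv_one, mul_one]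

theorem W_sub {a b w : G} (h : Pair Ω a b) (hw : w ∈ Wset J a b) : w ∈ J a := by
  obtain ⟨j, hj, e⟩ := hw
  have C := S.ctx a h.1
  have e' : w = (b⁻¹ * j * b⁻¹⁻¹) * j⁻¹ := by rw [inv_inv, ← inv_mul_eq_iff_eq_mul.2 e]; group
  rw [e']
  exact (J a).mul_mem (C.normal _ h.2.2.2.symm.inv_left j hj) ((J a).inv_mem hj)

variable [Finite G]

/-- Orbit counting for `b` under `J a`. -/
theorem card_W_mul {a b : G} (ha : a ∈ Ω) :
    (Wset J a b).ncard * {j | j ∈ J a ∧ Commute j b}.ncard = 512 := by
  classical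
  haveI : Fintype G := Fintype.ofFinite G
  set Js : Finset G := Finset.univ.filter (· ∈ J a) with hJs
  have hJc : Js.card = 512 := by
    rw [← (S.ctx a ha).card, Nat.card_eq_fintype_card, Fintype.card_subtype]
  let f : G → G := fun j => b⁻¹ * (j * b * j⁻¹)
  have hW : Wset J a b = ↑(Js.image f) := by
    ext w
    simp only [Wset, Set.mem_setOf_eq, Finset.coe_image, Set.mem_image, Finset.mem_coe, hJs,
      Finset.mem_filter, Finset.mem_univ, true_and, f]
    exact ⟨fun ⟨j, hj, e⟩ => ⟨j, hj, by rw [e, inv_mul_cancel_left]⟩,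
      fun ⟨j, hj, e⟩ => ⟨j, hj, by rw [← e, mul_inv_cancel_left]⟩⟩
  have hfib : ∀ w ∈ Js.image f, (Js.filter fun j => f j = w).card =
      (Js.filter fun j => Commute j b).card := by
    intro w hw
    obtain ⟨k, hk, rfl⟩ := Finset.mem_image.1 hw
    have hkJ : k ∈ J a := (Finset.mem_filter.1 hk).2
    have hf : ∀ i, f i = f k ↔ Commute (k⁻¹ * i) b := fun i => by
      simp only [f, mul_right_inj, Commute, SemiconjBy]
      constructor
      · intro e
        calc k⁻¹ * i * b = k⁻¹ * (i * b * i⁻¹) * i := by group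
          _ = b * (k⁻¹ * i) := by rw [e]; group
      · intro e
        calc i * b * i⁻¹ = k * (k⁻¹ * i * b) * i⁻¹ := by group
          _ = k * b * k⁻¹ := by rw [e]; group
    refine Finset.card_bij (fun j _ => k⁻¹ * j) (fun j hj => ?_) (fun i _ j _ e => mul_left_cancel e)
      fun j hj => ⟨k * j, ?_, inv_mul_cancel_left k j⟩
    · obtain ⟨hjs, hje⟩ := Finset.mem_filter.1 hj
      refine Finset.mem_filter.2 ⟨?_, (hf j).1 hje⟩
      simpa [hJs] using (J a).mul_mem ((J a).inv_mem hkJ) (by simpa [hJs] using hjs)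
    · obtain ⟨hjs, hjc⟩ := Finset.mem_filter.1 hj
      refine Finset.mem_filter.2 ⟨?_, (hf _).2 (by rwa [inv_mul_cancel_left])⟩
      simpa [hJs] using (J a).mul_mem hkJ (by simpa [hJs] using hjs)
  have key := Finset.card_eq_sum_card_image f Js
  rw [Finset.sum_congr rfl hfib, Finset.sum_const, smul_eq_mul, hJc] at key
  have hC : {j | j ∈ J a ∧ Commute j b}.ncard = (Js.filter fun j => Commute j b).card := by
    rw [← Set.ncard_coe_finset]
    congr 1
    ext j
    simp [hJs]
  rw [hW, hC, Set.ncard_coe_finset, ← key]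

/-- If the partners over the image of `b` form one orbit, every element centralizing the image
lifts to the centralizer of both. -/
theorem exists_lift {a b : G} (h : Pair Ω a b)
    (hfib : ∀ y ∈ Ω, Commute y a → φ a y = φ a b → ∃ w ∈ Wset J a b, y = b * w)
    {u : U} (hu : Commute u (φ a b)) : ∃ g : G, Commute g a ∧ Commute g b ∧ φ a g = u := by
  have C := S.ctx a h.1
  obtain ⟨g, hg, rfl⟩ := C.surj u
  have h' := S.pair_move h hg
  have he : φ a (g * b * g⁻¹) = φ a b := by
    rw [C.phi_conj hg h.2.2.2.symm, hu.eq, mul_inv_cancel_right]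
  obtain ⟨w, ⟨j, hj, ej⟩, ew⟩ := hfib _ h'.2.1 h'.2.2.2.symm he
  refine ⟨j⁻¹ * g, (C.le j hj).inv_left.mul_left hg, ?_, ?_⟩
  · show j⁻¹ * g * b = b * (j⁻¹ * g)
    calc j⁻¹ * g * b = j⁻¹ * (g * b * g⁻¹) * g := by group
      _ = b * (j⁻¹ * g) := by rw [ew, ← ej]; group
  · rw [C.hom _ _ (C.le j hj).inv_left hg, C.phi_inv (C.le j hj), (C.ker j (C.le j hj)).2 hj,
      inv_one, one_mul]

end Sys

end Cfsg.Agent.U62From98
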