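import Mathlib
import Cfsg.Agent.Lib.U62From98Basic

/-!
The setting for the centralizer `2^(1+8).Aut(U₄(2))`: facts about the automorphism group and the
local system at all conjugates (helper98).
-/

set_option autoImplicit false

namespace Cfsg.Agent.U62From98

open Subgroup

universe u v

/-- The facts about the automorphism group `A` with its inner subgroup `U`, a reflection `r` and a
commuting element `σ` of order five. -/
structure AFacts {A : Type v} [Group A] (U : Subgroup A) (r σ : A) : Prop where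
  inner : ∃ T : Set U, UFacts T
  index : U.index = 2
  r_sq : r * r = 1
  r_out : r ∉ U
  sigma_mem : σ ∈ U
  sigma_order : orderOf σ = 5
  comm : Commute σ r
  five : ∀ s : A, orderOf s = 5 → Nat.card (centralizer ({s} : Set A)) = 10
  /-- a 2-group centralizing the involution of the centralizer of an element of order five and
  normalized by it is generated by this involution -/
  refl : ∀ s c : A, orderOf s = 5 → c * c = 1 → c ≠ 1 → Commute c s → c ∉ U ∧
    ∀ P : Subgroup A, IsPGroup 2 P → (∀ p ∈ P, Commute p c) → (∀ p ∈ P, s * p * s⁻¹ ∈ P) →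
      ∀ p ∈ P, p = 1 ∨ p = c
  kernel : ∀ N : Subgroup A, (∀ n ∈ N, Commute n r) →
    (∀ g : A, Commute g r → ∀ n ∈ N, g * n * g⁻¹ ∈ N) → σ ∉ N → ∀ n ∈ N, n = 1 ∨ n = r
  /-- a Sylow 2-subgroup has squares outside every subgroup of order two -/
  sylow : ∀ (P : Subgroup A) (c : A), 128 ≤ Nat.card P → IsPGroup 2 P →
    ¬ ∀ p ∈ P, p * p = 1 ∨ p * p = c
  outer_stab : ∀ c : A, c * c = 1 → c ∉ U →
    ¬ 96 ∣ Nat.card (centralizer ({c} : Set A) ⊓ U : Subgroup A)
  outer_sixteen : ∀ c : A, c * c = 1 → c ∉ U → ∀ E : Subgroup A, E ≤ U → Elem2 E →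
    Nat.card E = 16 → ¬ ∀ p ∈ E, Commute c p

variable {G : Type u} [Group G] {A : Type v} [Group A]

/-- The hypotheses at all conjugates of `z` when the quotient is the automorphism group. -/
structure ASys (z : G) (Ω : Set G) (U : Subgroup A) (r σ : A) (J : G → Subgroup G)
    (φ : G → G → A) : Prop where
  class_eq : Ω = {d | ∃ g : G, g * z * g⁻¹ = d}
  ctx : ∀ a ∈ Ω, Ctx a (J a) (φ a)
  J_conj : ∀ a ∈ Ω, ∀ g : G, ∀ v ∈ J a, g * v * g⁻¹ ∈ J (g * a * g⁻¹)
  U_conj : ∀ a ∈ Ω, ∀ g y : G, Commute y a →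
    (φ (g * a * g⁻¹) (g * y * g⁻¹) ∈ U ↔ φ a y ∈ U)
  facts : AFacts U r σ

/-- Two members of `Ω` see the same inner elements in their common centralizer. -/
def SameSign (U : Subgroup A) (φ : G → G → A) (a b : G) : Prop :=
  ∀ k : G, Commute k a → Commute k b → (φ a k ∈ U ↔ φ b k ∈ U)

end Cfsg.Agent.U62From98
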