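import Mathlib

/-!
A parity homomorphism: the transfer of a homomorphism from an involution centralizer to the group of
order two, evaluated at a 2-element by means of the conjugates fixed by a 2-group centralizing it.
-/

set_option autoImplicit false
set_option linter.unusedSectionVars false
set_option linter.style.haveILetI false

namespace Cfsg.Agent.U62From98

open Subgroup MulAction

/-- The centralizer of one element, abbreviated inside this file. -/
local notation:max "C₁(" z ")" => Subgroup.centralizer ({z} : Set _)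

/-- A 2-group leaves the parity of an invariant product unchanged: only fixed points count. -/
theorem prod_eq_prod_fixed {P α M : Type*} [Group P] [MulAction P α] [Fintype α] [DecidableEq α]
    [CommMonoid M] [DecidableEq M] [DecidablePred fun a : α => ∀ p : P, p • a = a]
    (hP : IsPGroup 2 P) (hM : ∀ m : M, m * m = 1) (w : α → M)
    (hw : ∀ (p : P) (a : α), w (p • a) = w a) :
    ∏ a, w a = ∏ a ∈ Finset.univ.filter fun a : α => ∀ p : P, p • a = a, w a := by
  haveI : Fact (Nat.Prime 2) := ⟨Nat.prime_two⟩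
  have hpow : ∀ (m : M) (n k : ℕ), n % 2 = k % 2 → m ^ n = m ^ k := by
    intro m n k h
    rw [pow_eq_pow_mod n (show m ^ 2 = 1 by rw [pow_two, hM]),
      pow_eq_pow_mod k (show m ^ 2 = 1 by rw [pow_two, hM]), h]
  rw [← Finset.prod_fiberwise_of_maps_to (g := w) (t := Finset.univ.image w)
      (fun a _ => Finset.mem_image_of_mem _ (Finset.mem_univ a)),
    ← Finset.prod_fiberwise_of_maps_to (g := w) (t := Finset.univ.image w)
      (fun a _ => Finset.mem_image_of_mem _ (Finset.mem_univ a))]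
  refine Finset.prod_congr rfl fun m _ => ?_
  rw [Finset.prod_congr rfl (g := fun _ => m) fun a ha => (Finset.mem_filter.1 ha).2,
    Finset.prod_congr rfl (g := fun _ => m) fun a ha => (Finset.mem_filter.1 ha).2,
    Finset.prod_const, Finset.prod_const]
  apply hpow
  let A : SubMulAction P α := ⟨{a | w a = m}, fun p a ha => (hw p a).trans ha⟩
  haveI : Finite ↥A := Finite.of_injective (fun a => (a : α)) Subtype.val_injective
  have hmod := hP.card_modEq_card_fixedPoints ↥A
  have h1 : Nat.card ↥A = (Finset.univ.filter fun a => w a = m).card := by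
    rw [← Nat.card_eq_finsetCard]
    exact Nat.card_congr (Equiv.subtypeEquivRight fun a => by simp [A]; rfl)
  have h2 : Nat.card (fixedPoints P ↥A) =
      ((Finset.univ.filter fun a : α => ∀ p : P, p • a = a).filter fun a => w a = m).card := by
    rw [← Nat.card_eq_finsetCard]
    refine Nat.card_congr
      { toFun := fun a => ⟨((a : ↥A) : α), ?_⟩
        invFun := fun a => ⟨⟨(a : α), (Finset.mem_filter.1 a.2).2⟩, fun p => Subtype.ext
          ((Finset.mem_filter.1 (Finset.mem_filter.1 a.2).1).2 p)⟩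
        left_inv := fun a => rfl
        right_inv := fun a => rfl }
    exact Finset.mem_filter.2 ⟨Finset.mem_filter.2 ⟨Finset.mem_univ _,
      fun p => congrArg Subtype.val (a.2 p)⟩, a.1.2⟩
  rw [h1, h2] at hmod
  exact hmod

section transfer

variable {G : Type*} [Group G] {H : Subgroup G}

theorem smul_mk_eq_self {y g : G} : y • (g : G ⧸ H) = (g : G ⧸ H) ↔ g⁻¹ * y * g ∈ H := by
  rw [eq_comm, MulAction.Quotient.smul_mk, QuotientGroup.eq, smul_eq_mul, mul_assoc]

theorem period_smul {α : Type*} [MulAction G α] {x p : G} (hp : Commute p x) (c : α) :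
    Function.minimalPeriod (x • ·) (p • c) = Function.minimalPeriod (x • ·) c := by
  have key : ∀ n : ℕ, x ^ n • p • c = p • c ↔ x ^ n • c = c := fun n => by
    rw [smul_smul, ← (hp.pow_right n).eq, mul_smul]
    exact (MulAction.injective p).eq_iff
  refine Nat.dvd_antisymm (pow_smul_eq_iff_minimalPeriod_dvd.1 ?_)
    (pow_smul_eq_iff_minimalPeriod_dvd.1 ?_)
  · exact (key _).2 (pow_smul_eq_iff_minimalPeriod_dvd.2 dvd_rfl)
  · exact (key _).1 (pow_smul_eq_iff_minimalPeriod_dvd.2 dvd_rfl)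

variable {M : Type*} [CommGroup M] (f : ↥H →* M) (x : G)

theorem weight_mem (g : G) :
    g⁻¹ * x ^ Function.minimalPeriod (x • ·) (g : G ⧸ H) * g ∈ H :=
  smul_mk_eq_self.1 (pow_smul_eq_iff_minimalPeriod_dvd.2 dvd_rfl)

/-- The weight of a coset in the transfer of `f` at `x`. -/
noncomputable def weight (c : G ⧸ H) : M :=
  f ⟨c.out⁻¹ * x ^ Function.minimalPeriod (x • ·) c * c.out,
    QuotientGroup.out_conj_pow_minimalPeriod_mem H x c⟩

theorem weight_mk (g : G) : weight f x (g : G ⧸ H) = f ⟨_, weight_mem x g⟩ := by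
  obtain ⟨s, hs⟩ := QuotientGroup.mk_out_eq_mul H g
  unfold weight
  rw [show (⟨_, QuotientGroup.out_conj_pow_minimalPeriod_mem H x (g : G ⧸ H)⟩ : ↥H) =
      s⁻¹ * ⟨_, weight_mem x g⟩ * s from Subtype.ext (by
        show _ = (s : G)⁻¹ * (g⁻¹ * _ * g) * s
        exact (congrArg (fun o => o⁻¹ * x ^ Function.minimalPeriod (x • ·) (g : G ⧸ H) * o)
          hs).trans (by group)),
    map_mul, map_mul, map_inv, mul_comm, mul_inv_cancel_left]

theorem weight_smul {p : G} (hp : Commute p x) (c : G ⧸ H) :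
    weight f x (p • c) = weight f x c := by
  obtain ⟨g, rfl⟩ := QuotientGroup.mk_surjective c
  rw [MulAction.Quotient.smul_mk, weight_mk, weight_mk]
  congr 1
  refine Subtype.ext ?_
  show (p • g)⁻¹ * _ * (p • g) = g⁻¹ * _ * g
  rw [← MulAction.Quotient.smul_mk, period_smul hp, smul_eq_mul, mul_inv_rev,
    mul_assoc g⁻¹, (hp.pow_right _).inv_left.eq]
  group

end transfer

/-- A weight attached to a point moved by an involution inside its own orbit is a square. -/
theorem exists_square {G : Type*} [Group G] [Finite G] {α : Type*} [MulAction G α] {x t : G}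
    (ht : t * t = 1) (htx : Commute t x) {c : α} (hne : t • c ≠ c) {j : ℕ}
    (hj : x ^ j • c = t • c) :
    ∃ u : G, u • c = c ∧ u * u = x ^ Function.minimalPeriod (x • ·) c := by
  set ℓ := Function.minimalPeriod (x • ·) c with hℓ
  have hmul : ∀ i : ℕ, x ^ (ℓ * i) • c = c := fun i =>
    pow_smul_eq_iff_minimalPeriod_dvd.2 (dvd_mul_right _ _)
  have h2 : ℓ ∣ j + j := pow_smul_eq_iff_minimalPeriod_dvd.1 (by
    rw [pow_add, mul_smul, hj, smul_smul, ← (htx.pow_right j).eq, mul_smul, hj, smul_smul, ht,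
      one_smul])
  have h1 : ¬ ℓ ∣ j := fun h => hne (by rw [← hj, pow_smul_eq_iff_minimalPeriod_dvd.2 h])
  obtain ⟨m, hm⟩ := h2
  rcases Nat.even_or_odd m with ⟨i, rfl⟩ | ⟨i, rfl⟩
  · exact absurd ⟨i, by rw [Nat.mul_add] at hm; omega⟩ h1
  have hk : ∃ k, ℓ = k + k := by
    refine ⟨j - ℓ * i, ?_⟩
    rw [Nat.mul_add, mul_one, ← mul_assoc, mul_comm ℓ 2, mul_assoc] at hm
    omega
  obtain ⟨k, hk⟩ := hk
  have hjk : j = k + ℓ * i := by
    rw [Nat.mul_add, mul_one, ← mul_assoc, mul_comm ℓ 2, mul_assoc] at hm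
    omega
  have htc : t • c = x ^ k • c := by rw [← hj, hjk, pow_add, mul_smul, hmul]
  refine ⟨x ^ k * t, ?_, ?_⟩
  · rw [mul_smul, htc, smul_smul, ← pow_add, ← hk]
    exact pow_smul_eq_iff_minimalPeriod_dvd.2 dvd_rfl
  · rw [show x ^ k * t * (x ^ k * t) = x ^ k * (t * x ^ k) * t by group, (htx.pow_right k).eq,
      hk, pow_add]
    rw [show x ^ k * (x ^ k * t) * t = x ^ k * x ^ k * (t * t) by group, ht, mul_one]

/-- The parity homomorphism attached to `f`: at a 2-element `x` of `C(z)` it is read off from the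
conjugates of `z` fixed by a 2-group `⟨T⟩` centralizing `x`. -/
theorem exists_parity_hom {G : Type*} [Group G] [Finite G] {z : G} (_hz : z * z = 1)
    (_hodd : ¬ 2 ∣ (Subgroup.centralizer ({z} : Set G)).index)
    (f : ↥(Subgroup.centralizer ({z} : Set G)) →* Multiplicative (ZMod 2)) :
    ∃ Φ : G →* Multiplicative (ZMod 2), ∀ x : ↥(Subgroup.centralizer ({z} : Set G)),
      (∃ k, x ^ 2 ^ k = 1) → ∀ T : Set G, (∀ t ∈ T, t * t = 1 ∧ Commute t (x : G)) →
      (∀ t ∈ T, Commute t z) →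
      (∃ n, Nat.card (Subgroup.closure T) = 2 ^ n) →
      ∀ E : Finset G,
        (∀ y, y ∈ E ↔ ((∃ g, g * z * g⁻¹ = y) ∧ y ≠ z ∧ ∀ t ∈ T, Commute t y)) →
      (∀ y ∈ E, Commute y (x : G)) →
      ∀ w : G → Multiplicative (ZMod 2),
        (∀ y ∈ E, ∀ g : G, g * z * g⁻¹ = y →
          ∀ hg : g⁻¹ * (x : G) * g ∈ Subgroup.centralizer ({z} : Set G), f ⟨_, hg⟩ = w y) →
        Φ (x : G) = f x * ∏ y ∈ E, w y := by
  classical
  refine ⟨MonoidHom.transfer f, fun x _ T hT hTz hT2 E hE hEx w hw => ?_⟩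
  haveI : Fintype G := Fintype.ofFinite G
  letI := C₁(z).fintypeQuotientOfFiniteIndex
  haveI : Fintype (Quotient (orbitRel (zpowers (x : G)) (G ⧸ C₁(z)))) := Fintype.ofFinite _
  obtain ⟨n, hn⟩ := hT2
  set P := Subgroup.closure T with hPdef
  have hP : IsPGroup 2 ↥P := IsPGroup.of_card hn
  have hPx : ∀ p ∈ P, Commute p (x : G) := fun p hp =>
    (mem_centralizer_singleton_iff.1 ((Subgroup.closure_le _).2
      (fun t ht => mem_centralizer_singleton_iff.2 (hT t ht).2.eq) hp) :)
  letI : MulAction ↥P (Quotient (orbitRel (zpowers (x : G)) (G ⧸ C₁(z)))) :=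
    { smul := fun p => Quotient.map' (fun c => (p : G) • c) fun c d hcd => by
        obtain ⟨⟨k, hk⟩, rfl⟩ := hcd
        obtain ⟨i, rfl⟩ := mem_zpowers_iff.1 hk
        refine ⟨⟨_, hk⟩, ?_⟩
        show (x : G) ^ i • (p : G) • d = (p : G) • (x : G) ^ i • d
        rw [smul_smul, smul_smul, ((hPx p p.2).zpow_right i).eq]
      one_smul := fun q => Quotient.inductionOn' q fun c =>
        congrArg Quotient.mk'' (one_smul G c)
      mul_smul := fun p p' q => Quotient.inductionOn' q fun c =>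
        congrArg Quotient.mk'' (mul_smul (p : G) (p' : G) c) }
  let W : Quotient (orbitRel (zpowers (x : G)) (G ⧸ C₁(z))) → Multiplicative (ZMod 2) :=
    fun q => weight f (x : G) q.out
  have hrel : ∀ c d : G ⧸ C₁(z), (Quotient.mk'' c : Quotient (orbitRel (zpowers (x : G)) (G ⧸ C₁(z)))) =
      Quotient.mk'' d → ∃ i : ℕ, (x : G) ^ i • d = c := by
    intro c d h
    obtain ⟨⟨k, hk⟩, e⟩ := Quotient.exact' h
    obtain ⟨i, hi⟩ := Submonoid.mem_powers_iff _ _ |>.1
      ((isOfFinOrder_of_finite (x : G)).mem_powers_iff_mem_zpowers.2 hk)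
    exact ⟨i, hi ▸ e⟩
  have hout : ∀ c : G ⧸ C₁(z), ∃ i : ℕ, (x : G) ^ i • c =
      (Quotient.mk'' c : Quotient (orbitRel (zpowers (x : G)) (G ⧸ C₁(z)))).out :=
    fun c => hrel _ _ (Quotient.out_eq' _)
  have hWmk : ∀ c, W (Quotient.mk'' c) = weight f (x : G) c := by
    intro c
    obtain ⟨i, hi⟩ := hout c
    show weight f _ _ = _
    rw [← hi, weight_smul _ _ (Commute.pow_self _ i)]
  have hWinv : ∀ (p : ↥P) q, W (p • q) = W q := by
    intro p q
    induction q using Quotient.inductionOn' with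
    | h c =>
      show W (Quotient.mk'' ((p : G) • c)) = _
      rw [hWmk, hWmk, weight_smul _ _ (hPx p p.2)]
  have hsum : MonoidHom.transfer f (x : G) = ∏ q, W q :=
    MonoidHom.transfer_eq_prod_quotient_orbitRel_zpowers_quot f (x : G)
  rw [hsum, prod_eq_prod_fixed (P := ↥P) hP (by decide) W hWinv]
  -- conjugates and cosets
  have hcomm : ∀ g t : G, t • (g : G ⧸ C₁(z)) = (g : G ⧸ C₁(z)) ↔ Commute t (g * z * g⁻¹) := by
    intro g t
    rw [smul_mk_eq_self, mem_centralizer_singleton_iff]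
    constructor
    · intro h
      calc t * (g * z * g⁻¹) = g * ((g⁻¹ * t * g) * z) * g⁻¹ := by group
        _ = g * (z * (g⁻¹ * t * g)) * g⁻¹ := by rw [h]
        _ = g * z * g⁻¹ * t := by group
    · intro h
      calc g⁻¹ * t * g * z = g⁻¹ * (t * (g * z * g⁻¹)) * g := by group
        _ = g⁻¹ * (g * z * g⁻¹ * t) * g := by rw [h.eq]
        _ = z * (g⁻¹ * t * g) := by group
  have hclass : ∀ g g' : G, g * z * g⁻¹ = g' * z * g'⁻¹ → (g : G ⧸ C₁(z)) = (g' : G ⧸ C₁(z)) := by
    intro g g' h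
    rw [QuotientGroup.eq, mem_centralizer_singleton_iff]
    calc g⁻¹ * g' * z = g⁻¹ * (g' * z * g'⁻¹) * g' := by group
      _ = g⁻¹ * (g * z * g⁻¹) * g' := by rw [h]
      _ = z * (g⁻¹ * g') := by group
  have hxz : Commute (x : G) z := mem_centralizer_singleton_iff.1 x.2
  let w' : G → Multiplicative (ZMod 2) := Function.update w z (f x)
  have hzE : z ∉ E := fun h => ((hE z).1 h).2.1 rfl
  have hrhs : ∏ y ∈ insert z E, w' y = f x * ∏ y ∈ E, w y := by
    rw [Finset.prod_insert hzE]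
    refine congrArg₂ (· * ·) (Function.update_self _ _ _) (Finset.prod_congr rfl fun y hy => ?_)
    exact Function.update_of_ne (fun e : y = z => hzE (e ▸ hy)) _ _
  rw [← hrhs]
  -- the weight at a coset fixed by `x`
  have hone : ∀ g : G, Commute (x : G) (g * z * g⁻¹) →
      (g * z * g⁻¹ ∈ insert z E) → weight f (x : G) (g : G ⧸ C₁(z)) = w' (g * z * g⁻¹) := by
    intro g hg hmem
    have hfix := (hcomm g x).2 hg
    have h1 : Function.minimalPeriod ((x : G) • ·) (g : G ⧸ C₁(z)) = 1 :=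
      Function.minimalPeriod_eq_one_iff_isFixedPt.2 hfix
    have hm : g⁻¹ * (x : G) * g ∈ C₁(z) := smul_mk_eq_self.1 hfix
    rw [weight_mk, show (⟨_, weight_mem (x : G) g⟩ : ↥C₁(z)) = ⟨_, hm⟩ from
      Subtype.ext (by show g⁻¹ * _ * g = _; rw [h1, pow_one])]
    rcases Finset.mem_insert.1 hmem with e | e
    · rw [e, show w' z = f x from Function.update_self _ _ _]
      have hgH : g ∈ C₁(z) := by
        rw [mem_centralizer_singleton_iff]
        calc g * z = g * z * g⁻¹ * g := by group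
          _ = z * g := by rw [e]
      rw [show (⟨_, hm⟩ : ↥C₁(z)) = ⟨g, hgH⟩⁻¹ * x * ⟨g, hgH⟩ from rfl, map_mul, map_mul, map_inv,
        mul_comm, mul_inv_cancel_left]
    · rw [hw _ e g rfl hm]
      exact (Function.update_of_ne (fun e' : g * z * g⁻¹ = z => hzE (e' ▸ e)) _ _).symm
  -- fixed orbits of nontrivial weight consist of one point fixed by all of `T`
  have hkey : ∀ q, (∀ p : ↥P, p • q = q) → W q ≠ 1 → ∀ g : G, (g : G ⧸ C₁(z)) = q.out →
      g * z * g⁻¹ ∈ insert z E ∧ Commute (x : G) (g * z * g⁻¹) := by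
    intro q hq hW g hg
    have hTfix : ∀ t ∈ T, t • q.out = q.out := by
      intro t ht
      by_contra hne
      have hq' := hq ⟨t, Subgroup.subset_closure ht⟩
      rw [← Quotient.out_eq' q] at hq'
      obtain ⟨j, hj⟩ := hrel _ _ (show Quotient.mk'' (t • q.out) =
        (Quotient.mk'' q.out : Quotient (orbitRel (zpowers (x : G)) (G ⧸ C₁(z)))) from hq')
      obtain ⟨u, hu, huu⟩ := exists_square (hT t ht).1 (hT t ht).2 hne hj
      refine hW ?_
      show weight f _ q.out = 1
      rw [← hg, weight_mk]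
      rw [← hg] at hu huu
      rw [show (⟨_, weight_mem (x : G) g⟩ : ↥C₁(z)) =
        ⟨_, smul_mk_eq_self.1 hu⟩ * ⟨_, smul_mk_eq_self.1 hu⟩ from Subtype.ext (by
          show _ = g⁻¹ * u * g * (g⁻¹ * u * g)
          exact (congrArg (fun o => g⁻¹ * o * g) huu.symm).trans (by group)), map_mul]
      revert hu
      intro hu
      generalize f ⟨_, smul_mk_eq_self.1 hu⟩ = m
      revert m
      decide
    by_cases e : g * z * g⁻¹ = z
    · rw [e]; exact ⟨Finset.mem_insert_self _ _, hxz⟩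
    · have hmem : g * z * g⁻¹ ∈ E :=
        (hE _).2 ⟨⟨g, rfl⟩, e, fun t ht => (hcomm g t).1 (by rw [hg]; exact hTfix t ht)⟩
      exact ⟨Finset.mem_insert_of_mem hmem, (hEx _ hmem).symm⟩
  refine Finset.prod_bij_ne_one (fun q _ _ => q.out.out * z * q.out.out⁻¹) ?_ ?_ ?_ ?_
  · intro q hq hW
    exact (hkey q (Finset.mem_filter.1 hq).2 hW _ (QuotientGroup.out_eq' _)).1
  · intro q _ _ q' _ _ h
    have := hclass _ _ h
    rw [QuotientGroup.out_eq', QuotientGroup.out_eq'] at this
    rw [← Quotient.out_eq' q, ← Quotient.out_eq' q', this]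
  · intro y hy hy1
    obtain ⟨g, rfl, hcom⟩ : ∃ g, g * z * g⁻¹ = y ∧ (∀ t ∈ T, Commute t y) ∧ Commute (x : G) y := by
      rcases Finset.mem_insert.1 hy with rfl | e
      · exact ⟨1, by group, hTz, hxz⟩
      · obtain ⟨⟨g, rfl⟩, -, h⟩ := (hE y).1 e
        exact ⟨g, rfl, h, (hEx _ e).symm⟩
    have hxfix := (hcomm g x).2 hcom.2
    obtain ⟨i, hi⟩ := hout (g : G ⧸ C₁(z))
    have hpow : (x : G) ^ i • (g : G ⧸ C₁(z)) = (g : G ⧸ C₁(z)) := by
      have : (x : G) ^ i ∈ stabilizer G (g : G ⧸ C₁(z)) := pow_mem hxfix i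
      exact this
    rw [hpow] at hi
    have hPfix : ∀ p ∈ P, p • (g : G ⧸ C₁(z)) = (g : G ⧸ C₁(z)) := fun p hp =>
      show p ∈ stabilizer G (g : G ⧸ C₁(z)) from
        (Subgroup.closure_le _).2 (fun t ht => (hcomm g t).2 (hcom.1 t ht)) hp
    refine ⟨Quotient.mk'' (g : G ⧸ C₁(z)), Finset.mem_filter.2 ⟨Finset.mem_univ _, fun p => ?_⟩, ?_, ?_⟩
    · show Quotient.mk'' ((p : G) • (g : G ⧸ C₁(z))) = _
      rw [hPfix p p.2]
    · rw [hWmk, hone g hcom.2 hy]
      exact hy1
    · rw [← hi]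
      obtain ⟨s, hs⟩ := QuotientGroup.mk_out_eq_mul C₁(z) g
      rw [hs]
      have hsz : (s : G) * z = z * s := mem_centralizer_singleton_iff.1 s.2
      calc g * s * z * (g * s)⁻¹ = g * (s * z) * (g * s)⁻¹ := by group
        _ = g * (z * s) * (g * s)⁻¹ := by rw [hsz]
        _ = g * z * g⁻¹ := by group
  · intro q hq hW
    obtain ⟨hmem, hc⟩ := hkey q (Finset.mem_filter.1 hq).2 hW _ (QuotientGroup.out_eq' _)
    rw [← hone _ hc hmem, QuotientGroup.out_eq']

end Cfsg.Agent.U62From98
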