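import Cfsg.Agent.Lib.U62From98AClass
import Cfsg.Agent.Lib.U62From98Parity

/-!
The parity homomorphism restricted to the centralizer of `z` is the outer sign (helper98).
-/

set_option autoImplicit false
set_option linter.unusedSectionVars false
set_option linter.style.haveILetI false

namespace Cfsg.Agent.U62From98

open Subgroup
open scoped Pointwise

universe u v

variable {G : Type u} [Group G] {A : Type v} [Group A]

/-- The sign modulo a subgroup of index two. -/
noncomputable def signHom {U : Subgroup A} (hU : U.index = 2) : A →* Multiplicative (ZMod 2) := by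
  classical
  exact MonoidHom.mk' (fun a => if a ∈ U then 1 else Multiplicative.ofAdd 1) fun a b => by
    have h := Subgroup.mul_mem_iff_of_index_two hU (a := a) (b := b)
    by_cases ha : a ∈ U <;> by_cases hb : b ∈ U <;> simp only [ha, hb, iff_true, iff_false, true_iff,
      false_iff, not_true, not_false_iff] at h <;> simp [ha, hb, h] <;> decide

theorem signHom_eq_one {U : Subgroup A} (hU : U.index = 2) {a : A} :
    signHom hU a = 1 ↔ a ∈ U := by
  classical
  simp only [signHom, MonoidHom.mk'_apply]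
  split_ifs with h
  · simp [h]
  · simp [h]

theorem z2_cases (m : Multiplicative (ZMod 2)) : m = 1 ∨ m = Multiplicative.ofAdd 1 := by
  revert m; decide

variable [Finite G] {z : G} {J : G → Subgroup G}

/-- The centralizer of `z` has odd index. -/
theorem index_odd {J₀ : Subgroup G} {φ₀ : G → A} (C : Ctx z J₀ φ₀) :
    ¬ 2 ∣ (centralizer ({z} : Set G)).index := by
  classical
  haveI : Fact (Nat.Prime 2) := ⟨Nat.prime_two⟩
  set H := centralizer ({z} : Set G) with hH
  obtain ⟨Q⟩ : Nonempty (Sylow 2 H) := inferInstance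
  set S₀ : Subgroup G := (Q : Subgroup H).map H.subtype with hS₀
  have hS₀H : S₀ ≤ H := map_subtype_le _
  have hS₀p : IsPGroup 2 S₀ := Q.2.map _
  have hJH : J₀ ≤ H := fun j hj => mem_centralizer_singleton_iff.2 (C.le j hj).eq
  have hJp : IsPGroup 2 (J₀.subgroupOf H) := by
    refine IsPGroup.of_card (n := 9) ?_
    rw [Nat.card_congr (Subgroup.subgroupOfEquivOfLe hJH).toEquiv, C.card]; norm_num
  have hJn : (J₀.subgroupOf H).Normal := ⟨fun j hj g =>
    C.normal g (mem_centralizer_singleton_iff.1 g.2) j hj⟩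
  have hJS : J₀ ≤ S₀ := fun j hj => ⟨⟨j, hJH hj⟩, by
    obtain ⟨Q', hQ'⟩ := hJp.exists_le_sylow
    obtain ⟨g, hg⟩ := MulAction.exists_smul_eq H Q' Q
    rw [← hg]
    have h2 : (g⁻¹ * ⟨j, hJH hj⟩ * g : H) ∈ J₀.subgroupOf H := by
      simpa using hJn.conj_mem (⟨j, hJH hj⟩ : H) hj g⁻¹
    show (⟨j, hJH hj⟩ : H) ∈ MulAut.conj g • (Q' : Subgroup H)
    rw [Subgroup.mem_pointwise_smul_iff_inv_smul_mem]
    simpa [MulAut.smul_def, MulAut.conj_apply, mul_assoc] using hQ' h2, rfl⟩
  have hnorm : normalizer (S₀ : Set G) ≤ H := by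
    intro g hg
    have hc : ∀ s ∈ S₀, Commute (g * z * g⁻¹) s := by
      intro s hs
      have h1 : g⁻¹ * s * g ∈ S₀ := by
        have := (Subgroup.mem_normalizer_iff.1 ((normalizer _).inv_mem hg) s).1 hs
        simpa using this
      have h2 : Commute z (g⁻¹ * s * g) :=
        (mem_centralizer_singleton_iff.1 (hS₀H h1)).symm
      have := U62RecogSetup19.commute_cj g h2
      rwa [show g * (g⁻¹ * s * g) * g⁻¹ = s by group] at this
    have hzS : z ∈ S₀ := hJS C.mem
    have hmz : Commute (g * z * g⁻¹) z := hc z hzS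
    have hJm : g * z * g⁻¹ ∈ J₀ := C.faithful _ hmz fun j hj => Or.inl (by
      rw [(hc j (hJS hj)).eq, mul_inv_cancel_right])
    rcases C.center _ hJm fun j hj => hc j (hJS hj) with e | e
    · exact absurd (conj_eq_one_iff.1 e) C.ne_one
    · exact mem_centralizer_singleton_iff.2 (mul_inv_eq_iff_eq_mul.1 e)
  obtain ⟨P, hP⟩ := hS₀p.exists_le_sylow
  have hPS : (P : Subgroup G) = S₀ := by
    by_contra hne
    have hlt : S₀.subgroupOf (P : Subgroup G) < ⊤ := by
      rw [lt_top_iff_ne_top]
      intro e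
      exact hne (le_antisymm (by
        intro p hp
        have : (⟨p, hp⟩ : (P : Subgroup G)) ∈ S₀.subgroupOf (P : Subgroup G) := by rw [e]; trivial
        exact this) hP)
    haveI : Group.IsNilpotent (P : Subgroup G) := P.2.isNilpotent
    have h2 := Group.normalizerCondition_of_isNilpotent (G := (P : Subgroup G)) _ hlt
    obtain ⟨p, hp, hp'⟩ := SetLike.exists_of_lt h2
    have hpN : (p : G) ∈ normalizer (S₀ : Set G) := by
      rw [Subgroup.mem_normalizer_iff]
      intro s
      constructor
      · intro hs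
        exact (Subgroup.mem_normalizer_iff.1 hp ⟨s, hP hs⟩).1 hs
      · intro hs
        have hsP : s ∈ (P : Subgroup G) := by
          have := mul_mem (mul_mem (inv_mem p.2) (hP hs)) p.2
          simpa [mul_assoc] using this
        exact (Subgroup.mem_normalizer_iff.1 hp ⟨s, hsP⟩).2 hs
    -- `S₀ ⊔ ⟨p⟩` is a 2-group inside `H`
    set P' : Subgroup H := ((P : Subgroup G).subgroupOf H) with hP'
    have hP'p : IsPGroup 2 P' := P.2.comap_of_injective H.subtype H.subtype_injective
    have hQP : (Q : Subgroup H) ≤ P' := fun q hq => hP ⟨q, hq, rfl⟩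
    have hQe := Q.3 hP'p hQP
    refine hp' ?_
    have : (⟨(p : G), hnorm hpN⟩ : H) ∈ P' := p.2
    rw [hQe] at this
    exact ⟨_, this, rfl⟩
  have hPH : (P : Subgroup G) ≤ H := hPS ▸ hS₀H
  intro h2
  exact P.not_dvd_index (h2.trans (Subgroup.index_dvd_of_le hPH))

variable {Ω : Set G} {U : Subgroup A} {r σ : A} {φ : G → G → A}

/-- The parity homomorphism on the centralizer of `z` is the outer sign. -/
theorem exists_sign_hom (S : ASys z Ω U r σ J φ) (JF : JFacts Ω U J φ) :
    ∃ Φ : G →* Multiplicative (ZMod 2), ∀ h : G, Commute h z → (Φ h = 1 ↔ φ z h ∈ U) := by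
  classical
  haveI : Fintype G := Fintype.ofFinite G
  have hzΩ : z ∈ Ω := by rw [S.class_eq]; exact ⟨1, by group⟩
  have C := S.ctx z hzΩ
  have hU := S.facts.index
  set χ := signHom hU with hχ
  set f : centralizer ({z} : Set G) →* Multiplicative (ZMod 2) := χ.comp C.phiHom with hf
  obtain ⟨Φ, hΦ⟩ := exists_parity_hom C.sq (index_odd C) f
  obtain ⟨x, K, L⟩ := exists_rlift C S.facts.r_sq
  obtain ⟨g₀, hg₀, hgσ⟩ := C.surj σ
  obtain ⟨k₅, hk5, hk5'⟩ := exists_five_lift C hg₀ (by rw [hgσ]; exact S.facts.sigma_order)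
  have hg5r : Commute (φ z (g₀ ^ k₅)) r := by
    have hp : ∀ k, φ z (g₀ ^ k) = σ ^ k := fun k => by
      induction k with
      | zero => rw [pow_zero, C.phi_one, pow_zero]
      | succ k ih => rw [pow_succ, C.hom _ _ (hg₀.pow_left k) hg₀, ih, hgσ, pow_succ]
    rw [hp]; exact S.facts.comm.pow_left _
  have hgen := L.gen C S.facts.r_sq hk5 (hg₀.pow_left k₅) hg5r
  -- evaluation at an element with a group of involutions
  have hw : ∀ (x' : G) (hx' : Commute x' z) (y : G) (g : G), g * z * g⁻¹ = y → Commute y x' →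
      ∀ hg : g⁻¹ * x' * g ∈ centralizer ({z} : Set G), f ⟨_, hg⟩ = χ (φ y x') := by
    intro x' hx' y g hgy hyx hg
    show χ (φ z (g⁻¹ * x' * g)) = χ (φ y x')
    have hm : Commute (g⁻¹ * x' * g) z := mem_centralizer_singleton_iff.1 hg
    have h := S.U_conj z hzΩ g _ hm
    rw [hgy, show g * (g⁻¹ * x' * g) * g⁻¹ = x' by group] at h
    rcases z2_cases (χ (φ z (g⁻¹ * x' * g))) with e | e
    · rw [e, eq_comm, signHom_eq_one]; exact h.2 ((signHom_eq_one hU).1 e)
    · rcases z2_cases (χ (φ y x')) with e' | e'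
      · exact absurd ((signHom_eq_one hU).2 (h.1 ((signHom_eq_one hU).1 e'))) (by rw [e]; decide)
      · rw [e, e']
  have h2g : ∀ M : Subgroup G, M ≤ J z → ∃ n, Nat.card (invClosure M) = 2 ^ n := fun M hM => by
    obtain ⟨n, -, hn⟩ := (Nat.dvd_prime_pow Nat.prime_two).1
      (show Nat.card (invClosure M) ∣ 2 ^ 9 by
        rw [show 2 ^ 9 = 512 by norm_num, ← C.card]
        exact card_dvd_of_le ((C.invClosure_le).trans hM))
    exact ⟨n, hn⟩
  have hcl : ∀ (M : Subgroup G), invClosure M = M → ∀ y : G,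
      (∀ t ∈ {t | t ∈ M ∧ t * t = 1}, Commute t y) → ∀ k ∈ M, Commute y k := by
    intro M hM y hy k hk
    rw [← hM] at hk
    have hle : invClosure M ≤ centralizer ({y} : Set G) :=
      (closure_le _).2 fun t ht => mem_centralizer_singleton_iff.2 (hy t ht).eq
    exact (mem_centralizer_singleton_iff.1 (hle hk)).symm
  -- `Φ` is nontrivial at the lift of `r`
  have hx1 : Φ x ≠ 1 := by
    let E : Finset G := Finset.univ.filter fun y =>
      (∃ g, g * z * g⁻¹ = y) ∧ y ≠ z ∧ ∀ t ∈ {t | t ∈ K ∧ t * t = 1}, Commute t y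
    have hE : ∀ y ∈ E, y ∈ perpIn (J z) K ∧ Pair Ω z y := by
      intro y hy
      obtain ⟨-, hyΩ, hne, hyT⟩ := Finset.mem_filter.1 hy
      have hyΩ' : y ∈ Ω := by rw [S.class_eq]; exact hyΩ
      have h := classify S JF L hyΩ' hne (hcl K hgen y hyT)
      exact ⟨h, hzΩ, hyΩ', hne.symm, (C.le y (mem_perpIn.1 h).1).symm⟩
    have hEx : ∀ y ∈ E, Commute y x := fun y hy =>
      (L.cent y (L.perp_le C S.facts.r_sq (hE y hy).1)).symm
    have hwt : ∀ y ∈ E, χ (φ y x) = Multiplicative.ofAdd 1 := by
      intro y hy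
      rcases z2_cases (χ (φ y x)) with e | e
      · exfalso
        have h1 := ((JF.same z y (hE y hy).2 (mem_perpIn.1 (hE y hy).1).1) x L.comm (hEx y hy).symm).2
          ((signHom_eq_one hU).1 e)
        rw [L.img] at h1
        exact S.facts.r_out h1
      · exact e
    have h := hΦ ⟨x, mem_centralizer_singleton_iff.2 L.comm.eq⟩
      (by obtain ⟨n, hn⟩ := L.two; exact ⟨n, Subtype.ext hn⟩)
      {t | t ∈ K ∧ t * t = 1} (fun t ht => ⟨ht.2, (L.cent t ht.1).symm⟩)
      (fun t ht => C.le t (L.le ht.1)) (h2g K L.le) E (fun y => by simp [E]) hEx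
      (fun y => χ (φ y x)) (fun y hy g hg hgm => hw x L.comm y g hg (hEx y hy) hgm)
    have hprod : ∏ y ∈ E, χ (φ y x) = 1 := by
      refine Finset.prod_involution (fun y _ => z * y) (fun y hy => ?_) (fun y hy _ e => ?_)
        (fun y hy => ?_) (fun y hy => by rw [← mul_assoc, C.sq, one_mul])
      · have hy' : z * y ∈ E := ?_
        · rw [hwt y hy, hwt _ hy']; decide
        obtain ⟨-, hyΩ, hne, hyT⟩ := Finset.mem_filter.1 hy
        have hyJ := (mem_perpIn.1 (hE y hy).1).1
        obtain ⟨j, hj, hjy⟩ : ∃ j ∈ J z, ¬ Commute y j := by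
          by_contra hno
          push Not at hno
          rcases C.center y hyJ hno with e | e
          · exact (S.ctx y (hE y hy).2.2.1).ne_one e
          · exact hne e
        refine Finset.mem_filter.2 ⟨Finset.mem_univ _, ?_, ?_, fun t ht =>
          (C.le t (L.le ht.1)).mul_right (hyT t ht)⟩
        · obtain ⟨g, hg⟩ := hyΩ
          refine ⟨j * g, ?_⟩
          rcases C.comm j hj y hyJ with e | e
          · exact absurd (Eq.symm e) hjy
          · rw [show j * g * z * (j * g)⁻¹ = j * (g * z * g⁻¹) * j⁻¹ by group, hg, e]; group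
        · intro e
          exact (S.ctx y (hE y hy).2.2.1).ne_one (mul_eq_left.1 e)
      · exact C.ne_one (mul_eq_right.1 e)
      · obtain ⟨-, hyΩ, hne, hyT⟩ := Finset.mem_filter.1 hy
        have hyJ := (mem_perpIn.1 (hE y hy).1).1
        obtain ⟨j, hj, hjy⟩ : ∃ j ∈ J z, ¬ Commute y j := by
          by_contra hno
          push Not at hno
          rcases C.center y hyJ hno with e | e
          · exact (S.ctx y (hE y hy).2.2.1).ne_one e
          · exact hne e
        refine Finset.mem_filter.2 ⟨Finset.mem_univ _, ?_, ?_, fun t ht =>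
          (C.le t (L.le ht.1)).mul_right (hyT t ht)⟩
        · obtain ⟨g, hg⟩ := hyΩ
          refine ⟨j * g, ?_⟩
          rcases C.comm j hj y hyJ with e | e
          · exact absurd (Eq.symm e) hjy
          · rw [show j * g * z * (j * g)⁻¹ = j * (g * z * g⁻¹) * j⁻¹ by group, hg, e]; group
        · intro e
          exact (S.ctx y (hE y hy).2.2.1).ne_one (mul_eq_left.1 e)
    rw [hprod, mul_one] at h
    rw [h]
    intro e
    have h1 := (signHom_eq_one hU).1 (show χ (φ z x) = 1 from e)
    rw [L.img] at h1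
    exact S.facts.r_out h1
  -- `Φ` is trivial on `J`
  have hJ : ∀ j ∈ J z, Φ j = 1 := by
    have hinv : ∀ j ∈ J z, j * j = 1 → Φ j = 1 := by
      intro j hj hj2
      by_cases h1 : j = 1
      · rw [h1, map_one]
      by_cases hjz : j = z
      · rw [hjz]
        have h := hΦ ⟨z, mem_centralizer_singleton_iff.2 rfl⟩ ⟨1, Subtype.ext (by
          show z ^ 2 ^ 1 = 1; rw [pow_one, pow_two, C.sq])⟩
        obtain ⟨i, hi, hii, hiZ⟩ := C.exists_inv_out (A₁ := Subgroup.zpowers z)
          (zpowers_le.2 C.mem) (mem_zpowers z) (Z₀ := Subgroup.zpowers z) (mem_zpowers z)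
          (by rw [Nat.card_zpowers, orderOf_eq_prime (p := 2) (by rw [pow_two]; exact C.sq) C.ne_one]; norm_num)
          (by
            have := C.dual' (K := Subgroup.zpowers z) (zpowers_le.2 C.mem) (mem_zpowers z)
            rw [Nat.card_zpowers, orderOf_eq_prime (p := 2) (by rw [pow_two]; exact C.sq) C.ne_one] at this
            omega)
        have hiJ := (mem_perpIn.1 hi).1
        obtain ⟨k, hk, hik⟩ : ∃ k ∈ J z, ¬ Commute i k := by
          by_contra hno
          push Not at hno
          rcases C.center i hiJ hno with e | e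
          · exact hiZ (e ▸ one_mem _)
          · exact hiZ (e ▸ mem_zpowers _)
        have hJgen := C.invClosure_of_noncentral le_rfl hiJ hii hk hik
        let E : Finset G := Finset.univ.filter fun y =>
          (∃ g, g * z * g⁻¹ = y) ∧ y ≠ z ∧ ∀ t ∈ {t | t ∈ J z ∧ t * t = 1}, Commute t y
        have hE : E = ∅ := by
          refine Finset.eq_empty_iff_forall_notMem.2 fun y hy => ?_
          obtain ⟨-, hyΩ, hne, hyT⟩ := Finset.mem_filter.1 hy
          have hyc := hcl (J z) hJgen y hyT
          have hyJ : y ∈ J z := C.faithful y (hyc z C.mem) fun p hp => Or.inl (by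
            rw [(hyc p hp).eq, mul_inv_cancel_right])
          have hyΩ' : y ∈ Ω := by rw [S.class_eq]; exact hyΩ
          rcases C.center y hyJ hyc with e | e
          · exact (S.ctx y hyΩ').ne_one e
          · exact hne e
        have h2 := h {t | t ∈ J z ∧ t * t = 1} (fun t ht => ⟨ht.2, C.le t ht.1⟩)
          (fun t ht => C.le t ht.1) (h2g _ le_rfl) E (fun y => by simp [E])
          (fun y hy => by simp [hE] at hy) (fun _ => 1) (fun y hy => by simp [hE] at hy)
        rw [hE, Finset.prod_empty, mul_one] at h2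
        rw [h2]
        show χ (φ z z) = 1
        rw [C.phi_a, map_one]
      -- a noncentral involution
      set A₁ := Subgroup.closure ({z, j} : Set G) with hA₁
      have hA₁J : A₁ ≤ J z := (closure_le _).2 (by
        rintro p (rfl | rfl); exacts [C.mem, hj])
      have hzA : z ∈ A₁ := subset_closure (Or.inl rfl)
      have hjA : j ∈ A₁ := subset_closure (Or.inr rfl)
      have hA4 : Nat.card A₁ ≤ 4 := by
        have hc : Commute z j := (C.le j hj).symm
        have h1' : z * (z * j) = j := by rw [← mul_assoc, C.sq, one_mul]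
        have h2' : j * z = z * j := hc.eq.symm
        have h3' : j * (z * j) = z := by rw [hc.eq, ← mul_assoc, hj2, one_mul]
        have h4' : z * j * z = j := by rw [mul_assoc, h2', h1']
        have h5' : z * j * j = z := by rw [mul_assoc, hj2, mul_one]
        have h6' : z * j * (z * j) = 1 := by rw [← mul_assoc, h4', hj2]
        let M : Subgroup G :=
          { carrier := {1, z, j, z * j}
            one_mem' := by simp
            mul_mem' := fun {p q} hp hq => by
              simp only [Set.mem_insert_iff, Set.mem_singleton_iff] at hp hq ⊢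
              rcases hp with e | e | e | e <;> rcases hq with e' | e' | e' | e' <;> rw [e, e'] <;>
                simp [C.sq, hj2, h1', h2', h3', h4', h5', h6']
            inv_mem' := fun {p} hp => by
              simp only [Set.mem_insert_iff, Set.mem_singleton_iff] at hp ⊢
              rcases hp with e | e | e | e <;> rw [e]
              · simp
              · simp [C.a_inv]
              · simp [inv_eq_of_mul_eq_one_right hj2]
              · simp [inv_eq_of_mul_eq_one_right h6'] }
        have hle : A₁ ≤ M := (closure_le _).2 (by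
          rintro p (rfl | rfl)
          · exact Or.inr (Or.inl rfl)
          · exact Or.inr (Or.inr (Or.inl rfl)))
        refine (card_le_of_le hle).trans ?_
        show Nat.card ({1, z, j, z * j} : Set G) ≤ 4
        rw [Nat.card_coe_set_eq]
        exact (Set.ncard_insert_le _ _).trans (Nat.succ_le_succ ((Set.ncard_insert_le _ _).trans
          (Nat.succ_le_succ ((Set.ncard_insert_le _ _).trans (by simp)))))
      have hdual := C.dual' hA₁J hzA
      have hP : 256 ≤ Nat.card (perpIn (J z) A₁) := by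
        have hpos : 0 < Nat.card A₁ := Nat.card_pos
        nlinarith
      obtain ⟨i, hi, hii, hiA⟩ := C.exists_inv_out hA₁J hzA (Z₀ := A₁) hzA hA4 (by omega)
      obtain ⟨k, hk, hik⟩ : ∃ k ∈ perpIn (J z) A₁, ¬ Commute i k := by
        by_contra hno
        push Not at hno
        have hzP : z ∈ perpIn (J z) A₁ :=
          mem_perpIn.2 ⟨C.mem, fun p hp => (C.le p (hA₁J hp)).symm⟩
        have hle : A₁ ≤ perpIn (J z) (perpIn (J z) A₁) := fun p hp =>
          mem_perpIn.2 ⟨hA₁J hp, fun q hq => ((mem_perpIn.1 hq).2 p hp).symm⟩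
        have heq : A₁ = perpIn (J z) (perpIn (J z) A₁) := Subgroup.eq_of_le_of_card_ge hle (by
          have h2 := C.dual' (K := perpIn (J z) A₁) inf_le_left hzP
          have hpos : 0 < Nat.card (perpIn (J z) A₁) := Nat.card_pos
          nlinarith)
        exact hiA (by rw [heq]; exact mem_perpIn.2 ⟨(mem_perpIn.1 hi).1, hno⟩)
      have hMgen := C.invClosure_of_noncentral (K := perpIn (J z) A₁) inf_le_left hi hii hk hik
      let E : Finset G := Finset.univ.filter fun y =>
        (∃ g, g * z * g⁻¹ = y) ∧ y ≠ z ∧ ∀ t ∈ {t | t ∈ perpIn (J z) A₁ ∧ t * t = 1}, Commute t y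
      have hE : ∀ y ∈ E, (y = j ∨ y = z * j) ∧ y ∈ Ω ∧ y ≠ z := by
        intro y hy
        obtain ⟨-, hyΩ, hne, hyT⟩ := Finset.mem_filter.1 hy
        have hyΩ' : y ∈ Ω := by rw [S.class_eq]; exact hyΩ
        have hyc := hcl _ hMgen y hyT
        refine ⟨classify_inv S JF hj hj2 h1 hjz hyΩ' hne fun p hp hpj => hyc p ?_, hyΩ', hne⟩
        refine mem_perpIn.2 ⟨hp, ?_⟩
        have hle : A₁ ≤ centralizer ({p} : Set G) := (closure_le _).2 (by
          rintro q (rfl | rfl)
          · exact mem_centralizer_singleton_iff.2 (C.le p hp).eq.symm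
          · exact mem_centralizer_singleton_iff.2 hpj.eq.symm)
        exact fun q hq => (mem_centralizer_singleton_iff.1 (hle hq)).symm
      have hEj : ∀ y ∈ E, Commute y j := fun y hy => by
        rcases (hE y hy).1 with rfl | rfl
        · exact Commute.refl _
        · exact (C.le j hj).symm.mul_left (Commute.refl j)
      have hw1 : ∀ y ∈ E, χ (φ y j) = 1 := by
        intro y hy
        obtain ⟨hyj, hyΩ, hne⟩ := hE y hy
        rw [signHom_eq_one]
        have Cy := S.ctx y hyΩ
        have hjy : j ∈ J y := by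
          rcases hyj with rfl | rfl
          · exact Cy.mem
          · have hp : Pair Ω z (z * j) := ⟨hzΩ, hyΩ, hne.symm, (Commute.refl z).mul_right (C.le j hj).symm⟩
            have hz' := JF.mem_symm z (z * j) hp ((J z).mul_mem C.mem hj)
            have := (J (z * j)).mul_mem hz' Cy.mem
            rwa [← mul_assoc, C.sq, one_mul] at this
        rw [(Cy.ker j (Cy.le j hjy)).2 hjy]
        exact U.one_mem
      have h := hΦ ⟨j, mem_centralizer_singleton_iff.2 (C.le j hj).eq⟩
        ⟨1, Subtype.ext (by show j ^ 2 ^ 1 = 1; rw [pow_one, pow_two, hj2])⟩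
        {t | t ∈ perpIn (J z) A₁ ∧ t * t = 1}
        (fun t ht => ⟨ht.2, (mem_perpIn.1 ht.1).2 j hjA⟩)
        (fun t ht => C.le t (mem_perpIn.1 ht.1).1) (h2g _ inf_le_left) E (fun y => by simp [E]) hEj
        (fun y => χ (φ y j)) (fun y hy g hg hgm => hw j (C.le j hj) y g hg (hEj y hy) hgm)
      rw [Finset.prod_eq_one hw1, mul_one] at h
      rw [h]
      show χ (φ z j) = 1
      rw [(C.ker j (C.le j hj)).2 hj, map_one]
    obtain ⟨i, hi, hii, hiZ⟩ := C.exists_inv_out (A₁ := Subgroup.zpowers z)
      (zpowers_le.2 C.mem) (mem_zpowers z) (Z₀ := Subgroup.zpowers z) (mem_zpowers z)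
      (by rw [Nat.card_zpowers, orderOf_eq_prime (p := 2) (by rw [pow_two]; exact C.sq) C.ne_one]; norm_num)
      (by
        have := C.dual' (K := Subgroup.zpowers z) (zpowers_le.2 C.mem) (mem_zpowers z)
        rw [Nat.card_zpowers, orderOf_eq_prime (p := 2) (by rw [pow_two]; exact C.sq) C.ne_one] at this
        omega)
    obtain ⟨k, hk, hik⟩ : ∃ k ∈ J z, ¬ Commute i k := by
      by_contra hno
      push Not at hno
      rcases C.center i (mem_perpIn.1 hi).1 hno with e | e
      · exact hiZ (e ▸ one_mem _)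
      · exact hiZ (e ▸ mem_zpowers _)
    have hle : J z ≤ Φ.ker := by
      rw [← C.invClosure_of_noncentral le_rfl (mem_perpIn.1 hi).1 hii hk hik]
      exact (closure_le _).2 fun t ht => hinv t ht.1 ht.2
    exact fun j hj => hle hj
  -- factor through `A`
  have hfac : ∀ g h : G, Commute g z → Commute h z → φ z g = φ z h → Φ g = Φ h := by
    intro g h hg hh e
    have := hJ _ ((C.phi_eq_iff hg hh).1 e)
    rwa [map_mul, map_inv, inv_mul_eq_one] at this
  choose lift hlc hlφ using C.surj
  let ψ : A →* Multiplicative (ZMod 2) := MonoidHom.mk' (fun a => Φ (lift a)) fun a b => by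
    rw [← map_mul]
    refine hfac _ _ (hlc _) ((hlc a).mul_left (hlc b)) ?_
    rw [C.hom _ _ (hlc a) (hlc b), hlφ, hlφ, hlφ]
  have hψ : ∀ h, Commute h z → Φ h = ψ (φ z h) := fun h hh =>
    hfac _ _ hh (hlc _) (hlφ _).symm
  have hψU : ∀ a ∈ U, ψ a = 1 := by
    obtain ⟨T, F⟩ := S.facts.inner
    have hT : ∀ s ∈ T, ψ (s : A) = 1 := by
      intro s hs
      have hall : ∀ t ∈ T, ψ (t : A) = ψ (s : A) := fun t ht => by
        obtain ⟨g, hg⟩ := F.trans s hs t ht
        rw [← hg, Subgroup.coe_mul, Subgroup.coe_mul, map_mul, map_mul, mul_comm (ψ (g : A)),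
          Subgroup.coe_inv, map_inv, mul_inv_cancel_right]
      obtain ⟨E, hE, hEc, -, -⟩ := F.pair_sixteen s hs s hs (Commute.refl s)
      obtain ⟨-, -, a, ha, b, hb, c, hc, d, hd, -, -, -, -, habcd⟩ := F.sixteen E hE hEc
      have h4 := hall _ habcd
      rw [Subgroup.coe_mul, Subgroup.coe_mul, Subgroup.coe_mul, map_mul, map_mul, map_mul, hall a ha,
        hall b hb, hall c hc, hall d hd] at h4
      rcases z2_cases (ψ (s : A)) with e | e
      · exact e
      · rw [e] at h4; exact absurd h4 (by decide)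
    intro a ha
    have hle : Subgroup.closure T ≤ (ψ.comp U.subtype).ker := (closure_le _).2 fun s hs => hT s hs
    rw [F.gen] at hle
    exact hle (Subgroup.mem_top ⟨a, ha⟩)
  refine ⟨Φ, fun h hh => ?_⟩
  rw [hψ h hh]
  refine ⟨fun e => ?_, hψU _⟩
  by_contra hn
  refine hx1 ?_
  rw [hψ x L.comm, L.img]
  have hu : φ z h * r ∈ U := (Subgroup.mul_mem_iff_of_index_two S.facts.index).2 (by simp [hn, S.facts.r_out])
  have := hψU _ hu
  rwa [map_mul, e, one_mul] at this

end Cfsg.Agent.U62From98
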