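import Cfsg.Agent.Lib.U62From98ADefs

/-!
Generation by involutions inside the extraspecial group, and lifts of prime-power order (helper98).
-/

set_option autoImplicit false
set_option linter.unusedSectionVars false
set_option linter.style.haveILetI false

namespace Cfsg.Agent.U62From98

open Subgroup

universe u v

variable {G : Type u} [Group G] {A : Type v} [Group A]

/-- The subgroup generated by the elements of `K` squaring to one. -/
def invClosure (K : Subgroup G) : Subgroup G := Subgroup.closure {t | t ∈ K ∧ t * t = 1}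

namespace Ctx

variable {a : G} {J : Subgroup G} {φ : G → A} (C : Ctx a J φ)
include C

theorem a_sq_mul {x y : G} (hy : Commute x y) : x * y * (x * y) = x * x * (y * y) := by
  rw [mul_assoc, ← mul_assoc y, ← hy.eq]; group

theorem mul_sq_swap {x y : G} (hx : x ∈ J) (hy : y ∈ J) (h : ¬ Commute x y) :
    x * y * (x * y) = a * (x * x * (y * y)) := by
  have e : y * x = a * (x * y) := by
    rcases C.comm x hx y hy with e | e
    · exact absurd e h
    · rw [e, ← mul_assoc, C.sq, one_mul]
  rw [mul_assoc, ← mul_assoc y, e, ← mul_assoc x, ← mul_assoc x, ← C.a_comm hx]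
  group

theorem invClosure_le {K : Subgroup G} : invClosure K ≤ K :=
  (closure_le _).2 fun _ ht => ht.1

/-- A subgroup is generated by its involutions as soon as these do not all commute. -/
theorem invClosure_eq {K : Subgroup G} (hK : K ≤ J)
    (hne : ∃ i ∈ K, i * i = 1 ∧ ∃ j ∈ K, j * j = 1 ∧ ¬ Commute i j) : invClosure K = K := by
  refine le_antisymm C.invClosure_le fun k hk => ?_
  rcases C.squares k (hK hk) with e | e
  · exact subset_closure ⟨hk, e⟩
  by_contra hkL
  have hcomm : ∀ i ∈ K, i * i = 1 → Commute i k := by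
    intro i hi hii
    by_contra hn
    refine hkL ?_
    have h2 : i * k * (i * k) = 1 := by
      rw [C.mul_sq_swap (hK hi) (hK hk) hn, hii, e, one_mul, C.sq]
    have h1 : i * k ∈ invClosure K := subset_closure ⟨mul_mem hi hk, h2⟩
    have h3 : i ∈ invClosure K := subset_closure ⟨hi, hii⟩
    have := mul_mem (inv_mem h3) h1
    rwa [inv_mul_cancel_left] at this
  obtain ⟨i, hi, hii, j, hj, hjj, hij⟩ := hne
  refine hkL ?_
  have hc : Commute (i * j) k := (hcomm i hi hii).mul_left (hcomm j hj hjj)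
  have h2 : i * j * k * (i * j * k) = 1 := by
    rw [C.a_sq_mul hc, C.mul_sq_swap (hK hi) (hK hj) hij, hii, hjj, e, one_mul, mul_one, C.sq]
  have h1 : i * j * k ∈ invClosure K := subset_closure ⟨mul_mem (mul_mem hi hj) hk, h2⟩
  have h3 : i * j ∈ invClosure K :=
    mul_mem (subset_closure ⟨hi, hii⟩) (subset_closure ⟨hj, hjj⟩)
  have := mul_mem (inv_mem h3) h1
  rwa [inv_mul_cancel_left] at this

variable [Finite G]

/-- Centralizing one more element at most halves. -/
theorem card_centralizer_ge {A₁ : Subgroup G} (h1 : A₁ ≤ J) (ha : a ∈ A₁) {i : G} (hi : i ∈ J) :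
    {k | k ∈ J ∧ (∀ y ∈ A₁, Commute k y)}.ncard ≤
      2 * {k | k ∈ J ∧ (∀ y ∈ A₁, Commute k y) ∧ Commute k i}.ncard := by
  classical
  set S := {k | k ∈ J ∧ (∀ y ∈ A₁, Commute k y)} with hS
  set S' := {k | k ∈ J ∧ (∀ y ∈ A₁, Commute k y) ∧ Commute k i} with hS'
  by_cases hall : ∀ k ∈ S, Commute k i
  · have : S ⊆ S' := fun k hk => ⟨hk.1, hk.2, hall k hk⟩
    have := Set.ncard_le_ncard this (Set.toFinite _)
    omega
  push Not at hall
  obtain ⟨k₀, hk₀, hn⟩ := hall
  have hsub : S ⊆ S' ∪ (fun k => k₀ * k) '' S' := by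
    intro k hk
    by_cases hc : Commute k i
    · exact Or.inl ⟨hk.1, hk.2, hc⟩
    · refine Or.inr ⟨k₀⁻¹ * k, ⟨J.mul_mem (J.inv_mem hk₀.1) hk.1,
        fun y hy => (hk₀.2 y hy).inv_left.mul_left (hk.2 y hy), ?_⟩, mul_inv_cancel_left _ _⟩
      by_contra hh
      have hk1 : chi i (k₀⁻¹ * k) = -1 := chi_neg fun e => hh e.symm
      have hk2 : chi i k₀ = -1 := chi_neg fun e => hn e.symm
      have hk3 : chi i k = -1 := chi_neg fun e => hc e.symm
      have := C.comm_mul hi hk₀.1 (J.mul_mem (J.inv_mem hk₀.1) hk.1)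
      rw [mul_inv_cancel_left, hk1, hk2, hk3] at this
      norm_num at this
  have h := (Set.ncard_le_ncard hsub (Set.toFinite _)).trans (Set.ncard_union_le _ _)
  have h' := Set.ncard_image_le (f := fun k => k₀ * k) (s := S') (Set.toFinite _)
  omega

end Ctx

/-- An element of `2`-power order over a given image of order at most two. -/
theorem exists_two_lift [Finite G] {a : G} {J : Subgroup G} {φ : G → A} (C : Ctx a J φ) {u : A}
    (hu : u * u = 1) : ∃ g : G, Commute g a ∧ φ g = u ∧ ∃ n, g ^ 2 ^ n = 1 := by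
  obtain ⟨g, hg, hgu⟩ := C.surj u
  obtain ⟨n, m, hm, hgm⟩ := Nat.exists_eq_two_pow_mul_odd (orderOf_pos g).ne'
  refine ⟨g ^ m, hg.pow_left m, ?_, n, ?_⟩
  · have hp : ∀ k, φ (g ^ k) = u ^ k := fun k => by
      induction k with
      | zero => rw [pow_zero, C.phi_one, pow_zero]
      | succ k ih => rw [pow_succ, C.hom _ _ (hg.pow_left k) hg, ih, hgu, pow_succ]
    obtain ⟨k, rfl⟩ := hm
    rw [hp, pow_succ, pow_mul, pow_two, hu, one_pow, one_mul]
  · rw [← pow_mul, mul_comm m, ← hgm, pow_orderOf_eq_one]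

/-- An element of order five over a given image of order five. -/
theorem exists_five_lift [Finite G] {a : G} {J : Subgroup G} {φ : G → A} (C : Ctx a J φ)
    {g : G} (hg : Commute g a) (hu : orderOf (φ g) = 5) :
    ∃ k : ℕ, orderOf (g ^ k) = 5 ∧ orderOf (φ (g ^ k)) = 5 := by
  have hp : ∀ k, φ (g ^ k) = φ g ^ k := fun k => by
    induction k with
    | zero => rw [pow_zero, C.phi_one, pow_zero]
    | succ k ih => rw [pow_succ, C.hom _ _ (hg.pow_left k) hg, ih, pow_succ]
  set g' := g ^ 4 with hg'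
  have hJ : g' ^ 5 ∈ J := (C.ker _ ((hg.pow_left _).pow_left _)).1 (by
    rw [← pow_mul, hp, mul_comm, pow_mul, ← hu, pow_orderOf_eq_one, one_pow])
  have h4 : (g' ^ 5) ^ 4 = 1 := by
    rw [show (4 : ℕ) = 2 * 2 from rfl, pow_mul, pow_two (g' ^ 5)]
    rcases C.squares _ hJ with e | e <;> rw [e]
    · exact one_pow 2
    · rw [pow_two]; exact C.sq
  have hord : orderOf (φ (g ^ 16)) = 5 := by
    rw [hp, Nat.Coprime.orderOf_pow (by rw [hu]; norm_num), hu]
  refine ⟨16, ?_, hord⟩
  have h5 : (g ^ 16) ^ 5 = 1 := by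
    rw [← h4, hg', ← pow_mul, ← pow_mul, ← pow_mul]
  exact orderOf_eq_prime (hp := ⟨by norm_num⟩) h5 fun e => by
    rw [e, C.phi_one, orderOf_one] at hord
    norm_num at hord

end Cfsg.Agent.U62From98
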