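import Mathlib
import Cfsg.Agent.Lib.U62From98Basic

/-!
Counting tools for the proof that no conjugate lies in the extraspecial subgroup of a commuting one:
images in `U`, index-two centralizers, orbits and fixed points of an element of order five.
-/

set_option autoImplicit false
set_option linter.unusedSectionVars false
set_option linter.style.haveILetI false

namespace Cfsg.Agent.U62From98

open Subgroup

universe u v

variable {G : Type u} [Group G] {U : Type v} [Group U]
variable {a : G} {J : Subgroup G} {φ : G → U}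

theorem mem_cent_iff {H : Subgroup G} {b g : G} :
    g ∈ H ⊓ centralizer ({b} : Set G) ↔ g ∈ H ∧ Commute g b := by
  rw [mem_inf, mem_centralizer_singleton_iff]; rfl

theorem mem_cent {b g : G} : g ∈ centralizer ({b} : Set G) ↔ Commute g b := by
  rw [mem_centralizer_singleton_iff]; rfl

/-- The subgroup of four elements given by two commuting involutions. -/
def four (a x : G) (ha : a * a = 1) (hx : x * x = 1) (hc : Commute a x) : Subgroup G where
  carrier := {1, a, x, a * x}
  one_mem' := Or.inl rfl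
  mul_mem' := by
    intro u v hu hv
    simp only [Set.mem_insert_iff, Set.mem_singleton_iff] at hu hv ⊢
    have h1 : x * a = a * x := hc.eq.symm
    have h2 : a * (a * x) = x := by rw [← mul_assoc, ha, one_mul]
    have h3 : x * (a * x) = a := by rw [← mul_assoc, h1, mul_assoc, hx, mul_one]
    have h4 : a * x * a = x := by rw [mul_assoc, h1, h2]
    have h5 : a * x * x = a := by rw [mul_assoc, hx, mul_one]
    have h6 : a * x * (a * x) = 1 := by rw [mul_assoc, h3, ha]
    rcases hu with rfl | rfl | rfl | rfl <;> rcases hv with rfl | rfl | rfl | rfl <;>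
      simp [ha, hx, h1, h2, h3, h4, h5, h6]
  inv_mem' := by
    intro u hu
    simp only [Set.mem_insert_iff, Set.mem_singleton_iff] at hu ⊢
    have e1 : a⁻¹ = a := inv_eq_of_mul_eq_one_right ha
    have e2 : x⁻¹ = x := inv_eq_of_mul_eq_one_right hx
    have e3 : (a * x)⁻¹ = a * x := by rw [mul_inv_rev, e1, e2, hc.eq]
    rcases hu with rfl | rfl | rfl | rfl <;> simp [e1, e2, e3]

theorem mem_four {a x : G} {ha : a * a = 1} {hx : x * x = 1} {hc : Commute a x} {g : G} :
    g ∈ four a x ha hx hc ↔ g = 1 ∨ g = a ∨ g = x ∨ g = a * x := Iff.rfl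

theorem card_four {a x : G} (ha : a * a = 1) (hx : x * x = 1) (hc : Commute a x) (ha1 : a ≠ 1)
    (hx1 : x ≠ 1) (hne : a ≠ x) : Nat.card (four a x ha hx hc) = 4 := by
  classical
  have h : ((four a x ha hx hc : Subgroup G) : Set G) = ↑({1, a, x, a * x} : Finset G) := by
    rw [Finset.coe_insert, Finset.coe_insert, Finset.coe_insert, Finset.coe_singleton]; rfl
  rw [← SetLike.coe_sort_coe, h, Nat.card_coe_set_eq, Set.ncard_coe_finset]
  have h1 : a * x ≠ 1 := fun e => hne (by
    rw [← inv_eq_of_mul_eq_one_right e, inv_eq_of_mul_eq_one_right ha])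
  have h2 : a * x ≠ a := fun e => hx1 (mul_eq_left.1 e)
  have h3 : a * x ≠ x := fun e => ha1 (mul_eq_right.1 e)
  simp [Ne.symm ha1, Ne.symm hx1, hne, Ne.symm h1, Ne.symm h2, Ne.symm h3]

namespace Ctx

variable (C : Ctx a J φ)
include C

/-- `φ` on a subgroup of the centralizer. -/
noncomputable def imgHom (H : Subgroup G) (hH : ∀ h ∈ H, Commute h a) : H →* U :=
  MonoidHom.mk' (fun h => φ (h : G)) fun g h => C.hom _ _ (hH _ g.2) (hH _ h.2)

/-- The image in `U` of a subgroup of the centralizer. -/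
noncomputable def img (H : Subgroup G) (hH : ∀ h ∈ H, Commute h a) : Subgroup U :=
  (C.imgHom H hH).range

theorem mem_img {H : Subgroup G} {hH : ∀ h ∈ H, Commute h a} {u : U} :
    u ∈ C.img H hH ↔ ∃ h ∈ H, φ h = u :=
  ⟨fun ⟨h, e⟩ => ⟨h, h.2, e⟩, fun ⟨h, hh, e⟩ => ⟨⟨h, hh⟩, e⟩⟩

theorem card_img [Finite G] {H : Subgroup G} (hH : ∀ h ∈ H, Commute h a) :
    Nat.card (C.img H hH) * Nat.card (H ⊓ J : Subgroup G) = Nat.card H := by
  have hk : Nat.card (C.imgHom H hH).ker = Nat.card (H ⊓ J : Subgroup G) := by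
    refine Nat.card_congr ⟨fun g => ⟨((g : H) : G), (g : H).2, (C.ker _ (hH _ (g : H).2)).1 g.2⟩,
      fun j => ⟨⟨(j : G), j.2.1⟩, (C.ker _ (hH _ j.2.1)).2 j.2.2⟩, fun g => rfl, fun j => rfl⟩
  rw [← hk, Subgroup.card_eq_card_quotient_mul_card_subgroup (C.imgHom H hH).ker]
  congr 1
  exact (Nat.card_congr (QuotientGroup.quotientKerEquivRange (C.imgHom H hH)).toEquiv).symm

/-- Conjugation by a normalising element of the centralizer fixes the image. -/
theorem img_normalizer {H : Subgroup G} {hH : ∀ h ∈ H, Commute h a} [Finite G] {g : G}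
    (hg : Commute g a) (hn : ∀ h ∈ H, g * h * g⁻¹ ∈ H) :
    φ g ∈ normalizer ((C.img H hH : Subgroup U) : Set U) := by
  haveI : Finite (C.img H hH) := Finite.of_surjective _ (C.imgHom H hH).rangeRestrict_surjective
  rw [mem_normalizer_iff]
  have key : ∀ n ∈ C.img H hH, φ g * n * (φ g)⁻¹ ∈ C.img H hH := by
    intro n hn'
    obtain ⟨h, hh, rfl⟩ := C.mem_img.1 hn'
    exact C.mem_img.2 ⟨_, hn h hh, C.phi_conj hg (hH h hh)⟩
  let f : C.img H hH → C.img H hH := fun n => ⟨_, key n n.2⟩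
  have hf : Function.Surjective f := Finite.injective_iff_surjective.1 fun m n e =>
    Subtype.ext (mul_left_cancel (mul_right_cancel (congrArg Subtype.val e)))
  refine fun n => ⟨key n, fun hn' => ?_⟩
  obtain ⟨m, hm⟩ := hf ⟨_, hn'⟩
  have : (m : U) = n := mul_left_cancel (mul_right_cancel (congrArg Subtype.val hm))
  exact this ▸ m.2

theorem kx {x k : G} (hx : x ∈ J) (hk : k ∈ J) (h : ¬ Commute k x) : k * x * k⁻¹ = a * x := by
  rcases C.comm k hk x hx with e | e
  · exact absurd e h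
  · rw [e]; group

theorem mul_comm_iff {c k b : G} (hc : c ∈ J) (hk : k ∈ J) (hb : b ∈ J) (hkc : ¬ Commute c k) :
    Commute c (k * b) ↔ ¬ Commute c b := by
  have e := C.comm_mul hc hk hb
  constructor
  · intro h hb'
    rw [chi_pos h.eq, chi_neg (fun q => hkc q), chi_pos hb'.eq] at e
    norm_num at e
  · intro h
    by_contra h'
    rw [chi_neg (fun q => h' q), chi_neg (fun q => hkc q), chi_neg (fun q => h q)] at e
    norm_num at e

/-- A non-commuting element halves a subgroup of `J`. -/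
theorem half [Finite G] {B : Subgroup G} (hB : B ≤ J) {c k : G} (hc : c ∈ J) (hk : k ∈ B)
    (hkc : ¬ Commute c k) :
    2 * Nat.card (B ⊓ centralizer ({c} : Set G) : Subgroup G) = Nat.card B := by
  set H := (B ⊓ centralizer ({c} : Set G)).subgroupOf B with hH
  have hidx : H.index = 2 := by
    rw [index_eq_two_iff']
    refine ⟨⟨k, hk⟩, fun b => ?_⟩
    have m : ∀ v : B, v ∈ H ↔ Commute c (v : G) := fun v => by
      rw [hH, mem_subgroupOf, mem_cent_iff]; exact ⟨fun h => h.2.symm, fun h => ⟨v.2, h.symm⟩⟩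
    rw [m, m, xor_iff_iff_not]
    exact C.mul_comm_iff hc (hB hk) (hB b.2) hkc
  have h2 := H.index_mul_card
  rw [hidx, Nat.card_congr (subgroupOfEquivOfLe inf_le_left).toEquiv] at h2
  exact h2

theorem le_half [Finite G] {B : Subgroup G} (hB : B ≤ J) {c : G} (hc : c ∈ J) :
    Nat.card B ≤ 2 * Nat.card (B ⊓ centralizer ({c} : Set G) : Subgroup G) := by
  by_cases h : ∃ k ∈ B, ¬ Commute c k
  · obtain ⟨k, hk, hkc⟩ := h
    exact (C.half hB hc hk hkc).ge
  · push Not at h
    have : B ⊓ centralizer ({c} : Set G) = B :=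
      inf_eq_left.2 fun b hb => mem_cent.2 (h b hb).symm
    rw [this]; omega

end Ctx

/-- The orbit of `x` under conjugation by a subgroup. -/
theorem card_orbit [Finite G] (H : Subgroup G) (x : G) :
    {d | ∃ g ∈ H, g * x * g⁻¹ = d}.ncard *
      Nat.card (H ⊓ centralizer ({x} : Set G) : Subgroup G) = Nat.card H := by
  set K := (H ⊓ centralizer ({x} : Set G)).subgroupOf H with hK
  have hc := K.index_mul_card
  rw [Nat.card_congr (subgroupOfEquivOfLe inf_le_left).toEquiv] at hc
  rw [← hc]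
  congr 1
  rw [Subgroup.index, ← Nat.card_coe_set_eq]
  have hm : ∀ g h : H, (g : G) * x * (g : G)⁻¹ = (h : G) * x * (h : G)⁻¹ ↔
      g⁻¹ * h ∈ K := fun g h => by
    rw [hK, mem_subgroupOf, mem_cent_iff]
    constructor
    · intro e
      refine ⟨(g⁻¹ * h).2, ?_⟩
      show ((g : G)⁻¹ * (h : G)) * x = x * ((g : G)⁻¹ * (h : G))
      calc (g : G)⁻¹ * (h : G) * x = (g : G)⁻¹ * ((h : G) * x * (h : G)⁻¹) * (h : G) := by group
        _ = x * ((g : G)⁻¹ * (h : G)) := by rw [← e]; group
    · rintro ⟨-, e⟩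
      have e' : ((g : G)⁻¹ * (h : G)) * x = x * ((g : G)⁻¹ * (h : G)) := e
      calc (g : G) * x * (g : G)⁻¹
          = (g : G) * (x * ((g : G)⁻¹ * (h : G))) * (h : G)⁻¹ := by group
        _ = (h : G) * x * (h : G)⁻¹ := by rw [← e']; group
  refine (Nat.card_eq_of_bijective (fun q : H ⧸ K =>
    (Quotient.liftOn' q (fun g : H => (⟨(g : G) * x * (g : G)⁻¹, g, g.2, rfl⟩ :
      {d : G | ∃ g ∈ H, g * x * g⁻¹ = d}))
      fun g h e => Subtype.ext ((hm g h).2 (QuotientGroup.leftRel_apply.1 e)))) ⟨?_, ?_⟩).symm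
  · intro p q
    induction p using Quotient.inductionOn' with | _ g => ?_
    induction q using Quotient.inductionOn' with | _ h => ?_
    intro e
    exact QuotientGroup.eq.2 ((hm g h).1 (congrArg Subtype.val e))
  · rintro ⟨d, g, hg, rfl⟩
    exact ⟨QuotientGroup.mk (⟨g, hg⟩ : H), rfl⟩

/-- Fixed points of an element of order five normalising a subgroup. -/
theorem card_fixed_five [Finite G] (H : Subgroup G) {σ : G} (hσ : σ ^ 5 = 1)
    (hn : ∀ h ∈ H, σ * h * σ⁻¹ ∈ H) :
    Nat.card (H ⊓ centralizer ({σ} : Set G) : Subgroup G) ≡ Nat.card H [MOD 5] := by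
  classical
  haveI : Fintype H := Fintype.ofFinite H
  haveI : Fact (Nat.Prime 5) := ⟨by norm_num⟩
  let f : H → H := fun h => ⟨_, hn h h.2⟩
  have hf : Function.Bijective f := (Finite.injective_iff_bijective).1 fun m n e =>
    Subtype.ext (mul_left_cancel (mul_right_cancel (congrArg Subtype.val e)))
  let p : Equiv.Perm H := Equiv.ofBijective f hf
  have hp : ∀ (n : ℕ) (h : H), (((p ^ n) h : H) : G) = σ ^ n * h * (σ ^ n)⁻¹ := by
    intro n
    induction n with
    | zero => intro h; simp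
    | succ n ih =>
      intro h
      rw [pow_succ', Equiv.Perm.mul_apply]
      show σ * (((p ^ n) h : H) : G) * σ⁻¹ = _
      rw [ih, pow_succ', mul_inv_rev]
      group
  have h5 : p ^ 5 ^ 1 = 1 := by
    ext h
    rw [pow_one, hp, hσ]
    simp
  have key := Equiv.Perm.card_compl_support_modEq h5
  rw [← Nat.card_eq_fintype_card] at key
  refine Eq.subst (motive := fun n => n ≡ _ [MOD 5]) ?_ key
  rw [← Fintype.card_coe, ← Nat.card_eq_fintype_card]
  refine Nat.card_congr ⟨fun h => ⟨((h : H) : G), mem_cent_iff.2 ⟨(h : H).2, ?_⟩⟩,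
    fun g => ⟨⟨(g : G), g.2.1⟩, ?_⟩, fun h => rfl, fun g => rfl⟩
  · have := h.2
    rw [Finset.mem_compl, Equiv.Perm.mem_support, not_not] at this
    exact (mul_inv_eq_iff_eq_mul.1 (congrArg Subtype.val this)).symm
  · rw [Finset.mem_compl, Equiv.Perm.mem_support, not_not]
    refine Subtype.ext ?_
    show σ * (g : G) * σ⁻¹ = g
    rw [← (mem_cent_iff.1 g.2).2.eq, mul_inv_cancel_right]

/-- The product of the five images of `j` is moved to its conjugate. -/
theorem five_prod {σ j : G} (h : σ ^ 5 = 1) :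
    σ * (j * (σ * j * σ⁻¹) * (σ ^ 2 * j * (σ ^ 2)⁻¹) * (σ ^ 3 * j * (σ ^ 3)⁻¹) *
      (σ ^ 4 * j * (σ ^ 4)⁻¹)) * σ⁻¹ =
    j⁻¹ * (j * (σ * j * σ⁻¹) * (σ ^ 2 * j * (σ ^ 2)⁻¹) * (σ ^ 3 * j * (σ ^ 3)⁻¹) *
      (σ ^ 4 * j * (σ ^ 4)⁻¹)) * j := by
  have e : σ ^ 5 * j * (σ ^ 5)⁻¹ = j := by rw [h]; simp
  conv_rhs => arg 2; rw [← e]
  group

end Cfsg.Agent.U62From98
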