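import Mathlib
import Cfsg.Agent.Lib.U62From98NoJTools

/-!
Two commuting conjugates each lying in the extraspecial subgroup of the other: the intersection of
the two subgroups has order 32 and the stabilizer induces a normalizer of order 192.
-/

set_option autoImplicit false
set_option linter.unusedSectionVars false
set_option linter.style.haveILetI false

namespace Cfsg.Agent.U62From98

open Subgroup

universe u v

variable {G : Type u} [Group G] {U : Type v} [Group U]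
variable {z : G} {Ω : Set G} {T : Set U} {J : G → Subgroup G} {φ : G → G → U}

/-- Each of two commuting conjugates lies in the subgroup of the other. -/
structure Bad (Ω : Set G) (J : G → Subgroup G) (a x : G) : Prop where
  pair : Pair Ω a x
  xa : x ∈ J a
  ax : a ∈ J x

theorem Bad.symm {a x : G} (h : Bad Ω J a x) : Bad Ω J x a :=
  ⟨⟨h.pair.2.1, h.pair.1, h.pair.2.2.1.symm, h.pair.2.2.2.symm⟩, h.ax, h.xa⟩

/-- The members of `J a` commuting with `x`. -/
def Jc (J : G → Subgroup G) (a x : G) : Subgroup G := J a ⊓ centralizer ({x} : Set G)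

/-- The stabilizer of two elements. -/
def Kp (a x : G) : Subgroup G := centralizer ({a} : Set G) ⊓ centralizer ({x} : Set G)

theorem mem_Jc {a x g : G} : g ∈ Jc J a x ↔ g ∈ J a ∧ Commute g x := mem_cent_iff

theorem mem_Kp {a x g : G} : g ∈ Kp a x ↔ Commute g a ∧ Commute g x := by
  rw [Kp, mem_cent_iff, mem_cent]

theorem Kp_comm (a x : G) : Kp a x = Kp x a := inf_comm _ _

namespace Sys

variable [Finite G] (S : Sys z Ω T J φ)
include S

theorem noncentral {a x : G} (h : Pair Ω a x) (hx : x ∈ J a) :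
    ∃ k ∈ J a, ¬ Commute x k := by
  by_contra hne
  push Not at hne
  rcases (S.ctx a h.1).center x hx hne with e | e
  · exact (S.ctx x h.2.1).ne_one e
  · exact h.2.2.1 e.symm

theorem card_Jc {a x : G} (h : Pair Ω a x) (hx : x ∈ J a) : Nat.card (Jc J a x) = 256 := by
  obtain ⟨k, hk, hkx⟩ := S.noncentral h hx
  have := (S.ctx a h.1).half le_rfl hx hk hkx
  rw [(S.ctx a h.1).card] at this
  show Nat.card (J a ⊓ centralizer ({x} : Set G) : Subgroup G) = 256
  omega

theorem a_mem_Jc {a x : G} (h : Pair Ω a x) : a ∈ Jc J a x :=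
  mem_Jc.2 ⟨(S.ctx a h.1).mem, h.2.2.2⟩

theorem conj_Jc {a x g j : G} (h : Pair Ω a x) (hga : Commute g a) (hgx : Commute g x)
    (hj : j ∈ Jc J a x) : g * j * g⁻¹ ∈ Jc J a x := by
  obtain ⟨hj1, hj2⟩ := mem_Jc.1 hj
  exact mem_Jc.2 ⟨(S.ctx a h.1).normal g hga j hj1, (hgx.mul_left hj2).mul_left hgx.inv_left⟩

theorem cent_Jc {a x : G} (h : Pair Ω a x) (hx : x ∈ J a) {v : G} (hv : v ∈ J a)
    (hc : ∀ j ∈ Jc J a x, Commute v j) :
    v = 1 ∨ v = a ∨ v = x ∨ v = a * x := by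
  classical
  have C := S.ctx a h.1
  have hd := C.dual (A := Jc J a x) inf_le_left (S.a_mem_Jc h)
  rw [S.card_Jc h hx] at hd
  have hsub : ((four a x (S.sq h.1) (S.sq h.2.1) h.2.2.2 : Subgroup G) : Set G) ⊆
      {j | j ∈ J a ∧ ∀ y ∈ Jc J a x, Commute j y} := by
    intro g hg
    have ha : ∀ y ∈ Jc J a x, Commute a y := fun y hy => (C.le y (mem_Jc.1 hy).1).symm
    have hx' : ∀ y ∈ Jc J a x, Commute x y := fun y hy => (mem_Jc.1 hy).2.symm
    rcases mem_four.1 hg with rfl | rfl | rfl | rfl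
    · exact ⟨one_mem _, fun y _ => Commute.one_left y⟩
    · exact ⟨C.mem, ha⟩
    · exact ⟨hx, hx'⟩
    · exact ⟨mul_mem C.mem hx, fun y hy => (ha y hy).mul_left (hx' y hy)⟩
  have h4 := card_four (S.sq h.1) (S.sq h.2.1) h.2.2.2 C.ne_one (S.ctx x h.2.1).ne_one h.2.2.1
  rw [← SetLike.coe_sort_coe, Nat.card_coe_set_eq] at h4
  have heq := Set.eq_of_subset_of_ncard_le hsub (by omega) (Set.toFinite _)
  exact mem_four.1 ((Set.ext_iff.1 heq v).2 ⟨hv, hc⟩)

/-- The relation is symmetric. -/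
theorem bad_of_mem {a x : G} (h : Pair Ω a x) (hx : x ∈ J a) : Bad Ω J a x := by
  refine ⟨h, hx, by_contra fun hax => ?_⟩
  have C := S.ctx a h.1
  have C' := S.ctx x h.2.1
  have hD : ∀ d ∈ J a, d ∈ J x → d = 1 ∨ d = x := by
    intro d hda hdx
    have hc : ∀ j ∈ Jc J a x, Commute d j := by
      intro j hj
      obtain ⟨hja, hjx⟩ := mem_Jc.1 hj
      rcases C.comm d hda j hja with e | e
      · exact e
      · exfalso
        refine hax ?_
        have : a = d * (j * d⁻¹ * j⁻¹) := by rw [← mul_assoc, ← mul_assoc, e]; group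
        rw [this]
        exact mul_mem hdx (C'.normal j hjx d⁻¹ (inv_mem hdx))
    rcases S.cent_Jc h hx hda hc with e | e | e | e
    · exact Or.inl e
    · exact absurd (e ▸ hdx) hax
    · exact Or.inr e
    · exact absurd ((mul_mem_cancel_right C'.mem).1 (e ▸ hdx)) hax
  have key := C'.card_img (H := Jc J a x) fun j hj => (mem_Jc.1 hj).2
  have h2 : Nat.card (Jc J a x ⊓ J x : Subgroup G) ≤ 2 := by
    rw [← SetLike.coe_sort_coe, Nat.card_coe_set_eq]
    refine le_trans (Set.ncard_le_ncard (t := {1, x}) (fun d hd => hD d (mem_Jc.1 hd.1).1 hd.2)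
      (Set.toFinite _)) ?_
    exact (Set.ncard_insert_le _ _).trans (by rw [Set.ncard_singleton])
  rw [S.card_Jc h hx] at key
  have hdvd := Subgroup.card_subgroup_dvd_card
    (C'.img (Jc J a x) fun j hj => (mem_Jc.1 hj).2)
  rw [S.facts.card] at hdvd
  generalize Nat.card (C'.img (Jc J a x) fun j hj => (mem_Jc.1 hj).2) = n at key hdvd
  generalize Nat.card (Jc J a x ⊓ J x : Subgroup G) = m at key h2
  interval_cases m
  · omega
  · obtain rfl : n = 256 := by omega
    norm_num at hdvd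
  · obtain rfl : n = 128 := by omega
    norm_num at hdvd

variable {a x : G}

theorem sq_D (h : Bad Ω J a x) {d : G} (hd : d ∈ J a ⊓ J x) : d * d = 1 := by
  rcases (S.ctx a h.pair.1).squares d hd.1 with e | e
  · exact e
  rcases (S.ctx x h.pair.2.1).squares d hd.2 with e' | e'
  · exact e'
  exact absurd (e.symm.trans e') h.pair.2.2.1

theorem comm_D (h : Bad Ω J a x) {d e : G} (hd : d ∈ J a ⊓ J x) (he : e ∈ J a ⊓ J x) :
    Commute d e := by
  show d * e = e * d
  calc d * e = (d * e)⁻¹ := (inv_eq_of_mul_eq_one_right (S.sq_D h (mul_mem hd he))).symm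
    _ = e * d := by
      rw [mul_inv_rev, inv_eq_of_mul_eq_one_right (S.sq_D h hd),
        inv_eq_of_mul_eq_one_right (S.sq_D h he)]

theorem D_le_Jc (h : Bad Ω J a x) : J a ⊓ J x ≤ Jc J a x :=
  fun d hd => mem_Jc.2 ⟨hd.1, (S.ctx x h.pair.2.1).le d hd.2⟩

theorem Jc_inf (h : Bad Ω J a x) : Jc J a x ⊓ J x = J a ⊓ J x :=
  le_antisymm (inf_le_inf_right _ inf_le_left) (le_inf (S.D_le_Jc h) inf_le_right)

theorem a_mem_D (h : Bad Ω J a x) : a ∈ J a ⊓ J x := ⟨(S.ctx a h.pair.1).mem, h.ax⟩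

theorem x_mem_D (h : Bad Ω J a x) : x ∈ J a ⊓ J x := ⟨h.xa, (S.ctx x h.pair.2.1).mem⟩

theorem elem_img (h : Bad Ω J a x) :
    Elem2 ((S.ctx x h.pair.2.1).img (Jc J a x) fun _ hj => (mem_Jc.1 hj).2) := by
  have C := S.ctx a h.pair.1
  have C' := S.ctx x h.pair.2.1
  have hsq : ∀ u ∈ C'.img (Jc J a x) (fun _ hj => (mem_Jc.1 hj).2), u * u = 1 := by
    intro u hu
    obtain ⟨j, hj, rfl⟩ := C'.mem_img.1 hu
    obtain ⟨hja, hjx⟩ := mem_Jc.1 hj
    rw [← C'.hom j j hjx hjx]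
    rcases C.squares j hja with e | e <;> rw [e]
    · exact C'.phi_one
    · exact (C'.ker a h.pair.2.2.2).2 h.ax
  refine ⟨hsq, fun u hu v hv => ?_⟩
  show u * v = v * u
  calc u * v = (u * v)⁻¹ := (inv_eq_of_mul_eq_one_right (hsq _ (mul_mem hu hv))).symm
    _ = v * u := by
      rw [mul_inv_rev, inv_eq_of_mul_eq_one_right (hsq u hu),
        inv_eq_of_mul_eq_one_right (hsq v hv)]

theorem cardD_mul (h : Bad Ω J a x) :
    Nat.card ((S.ctx x h.pair.2.1).img (Jc J a x) fun _ hj => (mem_Jc.1 hj).2) *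
      Nat.card (J a ⊓ J x : Subgroup G) = 256 := by
  have := (S.ctx x h.pair.2.1).card_img (H := Jc J a x) fun _ hj => (mem_Jc.1 hj).2
  rwa [S.Jc_inf h, S.card_Jc h.pair h.xa] at this

theorem cardD_cases (h : Bad Ω J a x) :
    Nat.card (J a ⊓ J x : Subgroup G) = 16 ∨ Nat.card (J a ⊓ J x : Subgroup G) = 32 := by
  have hP := S.facts.elem _ (S.elem_img h)
  have hm := S.cardD_mul h
  have hd := (S.ctx a h.pair.1).dual (A := J a ⊓ J x) inf_le_left (S.a_mem_D h)
  have hsub : Nat.card (J a ⊓ J x : Subgroup G) ≤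
      {j | j ∈ J a ∧ ∀ y ∈ J a ⊓ J x, Commute j y}.ncard := by
    rw [← SetLike.coe_sort_coe, Nat.card_coe_set_eq]
    exact Set.ncard_le_ncard (fun d hd' => ⟨hd'.1, fun y hy => S.comm_D h hd' hy⟩) (Set.toFinite _)
  generalize Nat.card ((S.ctx x h.pair.2.1).img (Jc J a x) fun _ hj => (mem_Jc.1 hj).2) = p at hP hm
  generalize Nat.card (J a ⊓ J x : Subgroup G) = d at hm hd hsub
  generalize {j | j ∈ J a ∧ ∀ y ∈ J a ⊓ J x, Commute j y}.ncard = c at hd hsub
  have hdle : d ≤ 32 := by nlinarith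
  have hdge : 16 ≤ d := by nlinarith
  interval_cases d <;> omega

/-- The orbit of `x` under the centralizer of `a`. -/
theorem orbit_facts (h : Bad Ω J a x) :
    {d | ∃ g ∈ centralizer ({a} : Set G), g * x * g⁻¹ = d} ⊆
        {j | j ∈ J a ∧ j * j = 1 ∧ j ≠ 1 ∧ j ≠ a} ∧
      {j | j ∈ J a ∧ j * j = 1 ∧ j ≠ 1 ∧ j ≠ a}.ncard ≤ 270 ∧
      {d | ∃ g ∈ centralizer ({a} : Set G), g * x * g⁻¹ = d}.ncard * Nat.card (Kp a x) =
        13271040 := by
  classical
  have C := S.ctx a h.pair.1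
  refine ⟨?_, ?_, ?_⟩
  · rintro _ ⟨g, hg, rfl⟩
    have hga := mem_cent.1 hg
    refine ⟨C.normal g hga x h.xa, ?_, ?_, ?_⟩
    · calc g * x * g⁻¹ * (g * x * g⁻¹) = g * (x * x) * g⁻¹ := by group
        _ = 1 := by rw [S.sq h.pair.2.1]; group
    · intro e
      exact (S.ctx x h.pair.2.1).ne_one (conj_eq_one_iff.1 e)
    · intro e
      refine h.pair.2.2.1 ?_
      calc a = g⁻¹ * (g * a * g⁻¹) * g := by group
        _ = g⁻¹ * (g * x * g⁻¹) * g := by rw [hga.eq, mul_inv_cancel_right, e]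
        _ = x := by group
  · have hu : {j | j ∈ J a ∧ j * j = 1 ∧ j ≠ 1 ∧ j ≠ a} ∪ {1, a} ⊆ {j | j ∈ J a ∧ j * j = 1} := by
      rintro j (⟨h1, h2, -, -⟩ | rfl | rfl)
      · exact ⟨h1, h2⟩
      · exact ⟨one_mem _, mul_one 1⟩
      · exact ⟨C.mem, C.sq⟩
    have h1 := (Set.ncard_le_ncard hu (Set.toFinite _)).trans C.card_involutions
    rw [Set.ncard_union_eq (Set.disjoint_left.2 fun j hj hj' => by
      rcases hj' with rfl | rfl
      · exact hj.2.2.1 rfl
      · exact hj.2.2.2 rfl) (Set.toFinite _) (Set.toFinite _), Set.ncard_pair C.ne_one.symm] at h1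
    omega
  · show _ * Nat.card (centralizer ({a} : Set G) ⊓ centralizer ({x} : Set G) : Subgroup G) = _
    rw [card_orbit, C.card_centralizer S.facts]

theorem card_Sbar (h : Bad Ω J a x) :
    Nat.card ((S.ctx a h.pair.1).img (Kp a x) fun _ hg => (mem_Kp.1 hg).1) * 256 =
      Nat.card (Kp a x) := by
  have C := S.ctx a h.pair.1
  have e : Kp a x ⊓ J a = Jc J a x := by
    ext g
    rw [mem_inf, mem_Kp, mem_Jc]
    exact ⟨fun ⟨⟨_, h2⟩, h3⟩ => ⟨h3, h2⟩, fun ⟨h1, h2⟩ => ⟨⟨C.le g h1, h2⟩, h1⟩⟩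
  have := C.card_img (H := Kp a x) fun _ hg => (mem_Kp.1 hg).1
  rwa [e, S.card_Jc h.pair h.xa] at this

theorem Sbar_le (h : Bad Ω J a x) :
    ((S.ctx a h.pair.1).img (Kp a x) fun _ hg => (mem_Kp.1 hg).1) ≤
      normalizer (((S.ctx a h.pair.1).img (Jc J x a) fun _ hj => (mem_Jc.1 hj).2 : Subgroup U) :
        Set U) := by
  intro u hu
  obtain ⟨g, hg, rfl⟩ := (S.ctx a h.pair.1).mem_img.1 hu
  obtain ⟨hga, hgx⟩ := mem_Kp.1 hg
  exact (S.ctx a h.pair.1).img_normalizer hga fun j hj => S.conj_Jc h.symm.pair hgx hga hj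

theorem not_five (h : Bad Ω J a x) : ¬ 5 ∣ Nat.card (Kp a x) := by
  classical
  intro h5
  haveI : Fact (Nat.Prime 5) := ⟨by norm_num⟩
  obtain ⟨⟨σ, hσK⟩, hord⟩ := exists_prime_orderOf_dvd_card' 5 h5
  rw [Subgroup.orderOf_mk] at hord
  obtain ⟨hσa, hσx⟩ := mem_Kp.1 hσK
  have hσ5 : σ ^ 5 = 1 := hord ▸ pow_orderOf_eq_one σ
  have C := S.ctx a h.pair.1
  have C' := S.ctx x h.pair.2.1
  have hnot : ∀ b ∈ Ω, σ ∉ J b := by
    intro b hb hσb
    have := (J b).orderOf_dvd_natCard hσb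
    rw [(S.ctx b hb).card, hord] at this
    norm_num at this
  -- fixed points in `Jc` lie in the intersection
  have hfix : ∀ j ∈ Jc J a x, Commute j σ → j ∈ J a ⊓ J x := by
    intro j hj hjσ
    obtain ⟨hja, hjx⟩ := mem_Jc.1 hj
    refine ⟨hja, (C'.ker j hjx).1 (by_contra fun hne => ?_)⟩
    have hs5 : orderOf (φ x σ) = 5 := by
      refine orderOf_eq_prime ?_ fun e => hnot x h.pair.2.1 ((C'.ker σ hσx).1 e)
      have : (C'.phiHom ⟨σ, mem_cent.2 hσx⟩) ^ 5 = 1 := by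
        rw [← map_pow, show (⟨σ, mem_cent.2 hσx⟩ : centralizer ({x} : Set G)) ^ 5 = 1 from
          Subtype.ext hσ5, map_one]
      exact this
    have h2 : orderOf (φ x j) = 2 := by
      refine orderOf_eq_prime ?_ hne
      rw [pow_two]
      exact (S.elem_img h).1 _ (C'.mem_img.2 ⟨j, hj, rfl⟩)
    have hc : φ x j ∈ centralizer ({φ x σ} : Set U) := by
      refine mem_cent.2 ?_
      show φ x j * φ x σ = φ x σ * φ x j
      rw [← C'.hom j σ hjx hσx, ← C'.hom σ j hσx hjx, hjσ.eq]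
    have := (centralizer ({φ x σ} : Set U)).orderOf_dvd_natCard hc
    rw [h2, S.facts.five _ hs5] at this
    norm_num at this
  set Cσ : Subgroup G := J a ⊓ centralizer ({σ} : Set G) with hCdef
  have hmem : ∀ g, g ∈ Cσ ↔ g ∈ J a ∧ Commute g σ := fun g => mem_cent_iff
  have hC4 : four a x (S.sq h.pair.1) (S.sq h.pair.2.1) h.pair.2.2.2 ≤ Cσ := by
    intro g hg
    rcases mem_four.1 hg with e | e | e | e <;> rw [e]
    · exact one_mem _
    · exact (hmem a).2 ⟨C.mem, hσa.symm⟩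
    · exact (hmem x).2 ⟨h.xa, hσx.symm⟩
    · exact (hmem _).2 ⟨mul_mem C.mem h.xa, hσa.symm.mul_left hσx.symm⟩
  have hge := Subgroup.card_le_of_le hC4
  rw [card_four _ _ _ C.ne_one C'.ne_one h.pair.2.2.1] at hge
  have hmod := card_fixed_five (J a) hσ5 fun j hj => C.normal σ hσa j hj
  have hdvd := Subgroup.card_dvd_of_le (inf_le_left : Cσ ≤ J a)
  rw [C.card] at hmod hdvd
  have hne512 : Nat.card Cσ ≠ 512 := by
    intro e
    have e' : Cσ = J a := Subgroup.eq_of_le_of_card_ge inf_le_left (by rw [e, C.card])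
    refine hnot a h.pair.1 (C.faithful σ hσa fun j hj => Or.inl ?_)
    rw [← (((hmem j).1 (e'.symm ▸ hj)).2).eq, mul_inv_cancel_right]
  obtain ⟨k, hk, hkc⟩ := (Nat.dvd_prime_pow Nat.prime_two).1 (show Nat.card Cσ ∣ 2 ^ 9 from hdvd)
  have h32 : Nat.card Cσ = 32 := by
    have hm : Nat.card Cσ ≡ 512 [MOD 5] := hmod
    rw [Nat.ModEq] at hm
    interval_cases k <;> simp_all
  -- the centre of the fixed subgroup is small
  have hpart : ∀ c ∈ Cσ, c ≠ 1 → c ≠ a → ∃ p ∈ Cσ, ¬ Commute c p := by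
    intro c hc h1 h2
    obtain ⟨hca, hcσ⟩ := (hmem c).1 hc
    obtain ⟨j, hj, hcj⟩ : ∃ j ∈ J a, ¬ Commute c j := by
      by_contra hne
      push Not at hne
      rcases C.center c hca hne with e | e
      exacts [h1 e, h2 e]
    have hm : ∀ i : ℕ, σ ^ i * j * (σ ^ i)⁻¹ ∈ J a :=
      fun i => C.normal _ (hσa.pow_left i) j hj
    have hn : ∀ i : ℕ, ¬ Commute c (σ ^ i * j * (σ ^ i)⁻¹) := by
      intro i hci
      refine hcj ?_
      have := ((hcσ.pow_right i).inv_right.mul_right hci).mul_right (hcσ.pow_right i)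
      simpa [mul_assoc] using this
    have hm1 : σ * j * σ⁻¹ ∈ J a := C.normal σ hσa j hj
    have hn1 : ¬ Commute c (σ * j * σ⁻¹) := by simpa using hn 1
    set p := j * (σ * j * σ⁻¹) * (σ ^ 2 * j * (σ ^ 2)⁻¹) * (σ ^ 3 * j * (σ ^ 3)⁻¹) *
      (σ ^ 4 * j * (σ ^ 4)⁻¹) with hp
    have hpJ : p ∈ J a := mul_mem (mul_mem (mul_mem (mul_mem hj hm1) (hm 2)) (hm 3)) (hm 4)
    have hcp : ¬ Commute c p := by
      intro e
      have e' := chi_pos e.eq
      rw [hp, C.comm_mul hca (mul_mem (mul_mem (mul_mem hj hm1) (hm 2)) (hm 3)) (hm 4),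
        C.comm_mul hca (mul_mem (mul_mem hj hm1) (hm 2)) (hm 3),
        C.comm_mul hca (mul_mem hj hm1) (hm 2), C.comm_mul hca hj hm1,
        chi_neg (fun q => hcj q), chi_neg (fun q => hn1 q), chi_neg (fun q => hn 2 q),
        chi_neg (fun q => hn 3 q), chi_neg (fun q => hn 4 q)] at e'
      norm_num at e'
    refine ⟨p, (hmem p).2 ⟨hpJ, ?_⟩, hcp⟩
    have e0 : σ * p * σ⁻¹ = p ∨ σ * p * σ⁻¹ = a * p := by
      rw [hp, five_prod hσ5, ← hp]
      rcases C.comm j⁻¹ (inv_mem hj) p hpJ with e | e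
      · exact Or.inl (by rw [e]; group)
      · exact Or.inr (by rw [e]; group)
    rcases e0 with e | e
    · exact (mul_inv_eq_iff_eq_mul.1 e).symm
    · exfalso
      have step : ∀ w : G, σ * (a * w) * σ⁻¹ = a * (σ * w * σ⁻¹) := fun w => by
        rw [← mul_assoc σ a, hσa.eq]; group
      have : p = a * p := by
        calc p = σ ^ 5 * p * (σ ^ 5)⁻¹ := by rw [hσ5]; simp
          _ = σ * (σ * (σ * (σ * (σ * p * σ⁻¹) * σ⁻¹) * σ⁻¹) * σ⁻¹) * σ⁻¹ := by
            simp only [pow_succ, pow_zero, one_mul, mul_inv_rev, mul_assoc]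
          _ = a * p := by
            have e2 : σ * (σ * p * σ⁻¹) * σ⁻¹ = p := by
              rw [e, step, e, ← mul_assoc, C.sq, one_mul]
            rw [e2, e2, e]
      exact C.ne_one (mul_eq_right.1 this.symm)
  obtain ⟨c, hc, hxc⟩ := hpart x ((hmem x).2 ⟨h.xa, hσx.symm⟩) C'.ne_one h.pair.2.2.1.symm
  set B : Subgroup G := Cσ ⊓ centralizer ({x} : Set G) with hBdef
  have hBD : ∀ b ∈ B, b ∈ J a ⊓ J x := fun b hb => by
    obtain ⟨hb1, hb2⟩ := mem_cent_iff.1 hb
    exact hfix b (mem_Jc.2 ⟨((hmem b).1 hb1).1, hb2⟩) ((hmem b).1 hb1).2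
  have hBcard : Nat.card B = 16 := by
    have := C.half (B := Cσ) inf_le_left h.xa hc hxc
    rw [← hBdef] at this
    omega
  have hle := C.le_half (B := B) (fun b hb => (hBD b hb).1) ((hmem c).1 hc).1
  set Z : Subgroup G := B ⊓ centralizer ({c} : Set G) with hZdef
  have hbig : 8 ≤ Nat.card Z := by omega
  have hsmall : Nat.card Z ≤ 2 := by
    rw [← SetLike.coe_sort_coe, Nat.card_coe_set_eq]
    refine le_trans (Set.ncard_le_ncard (t := {1, a}) (fun v hv => ?_) (Set.toFinite _))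
      ((Set.ncard_insert_le _ _).trans (by rw [Set.ncard_singleton]))
    obtain ⟨hvB, hvc⟩ := mem_cent_iff.1 hv
    obtain ⟨hvC, hvx⟩ := mem_cent_iff.1 hvB
    by_contra hne
    simp only [Set.mem_insert_iff, Set.mem_singleton_iff, not_or] at hne
    obtain ⟨p, hp, hvp⟩ := hpart v hvC hne.1 hne.2
    have hpJ := ((hmem p).1 hp).1
    by_cases hpx : Commute p x
    · exact hvp (S.comm_D h (hBD v hvB) (hBD p (mem_cent_iff.2 ⟨hp, hpx⟩)))
    · have hcJ := ((hmem c).1 hc).1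
      have hcp : Commute (c * p) x :=
        ((C.mul_comm_iff h.xa hcJ hpJ hxc).2 fun e => hpx e.symm).symm
      have hB' : c * p ∈ B := mem_cent_iff.2 ⟨mul_mem hc hp, hcp⟩
      refine hvp ?_
      have h1 := S.comm_D h (hBD v hvB) (hBD _ hB')
      have h2 := hvc.inv_right.mul_right h1
      rwa [inv_mul_cancel_left] at h2
  omega

theorem cardD (h : Bad Ω J a x) : Nat.card (J a ⊓ J x : Subgroup G) = 32 := by
  classical
  refine (S.cardD_cases h).resolve_left fun h16 => ?_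
  have C := S.ctx a h.pair.1
  have C' := S.ctx x h.pair.2.1
  obtain ⟨hsub, hI, hO⟩ := S.orbit_facts h
  have hO' := (Set.ncard_le_ncard hsub (Set.toFinite _)).trans hI
  have hS := S.card_Sbar h.symm
  rw [show Nat.card (Kp x a) = Nat.card (Kp a x) by rw [Kp_comm]] at hS
  -- the image of the stabilizer at `x`
  have hP : Nat.card (C'.img (Jc J a x) fun _ hj => (mem_Jc.1 hj).2) = 16 := by
    have := S.cardD_mul h
    rw [h16] at this
    omega
  have hN := (S.facts.sixteen _ (S.elem_img h) hP).1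
  have hdvd := Subgroup.card_dvd_of_le (S.Sbar_le h.symm)
  have h5 : ¬ 5 ∣ Nat.card (C'.img (Kp x a) fun _ hg => (mem_Kp.1 hg).1) := fun h5 => by
    refine S.not_five h ?_
    rw [← hS]
    exact Dvd.dvd.mul_right h5 256
  rw [hN] at hdvd
  have h192 : Nat.card (C'.img (Kp x a) fun _ hg => (mem_Kp.1 hg).1) = 192 := by
    generalize Nat.card (C'.img (Kp x a) fun _ hg => (mem_Kp.1 hg).1) = s at hS hdvd h5
    have hge : 192 ≤ s := by
      have : 13271040 ≤ 270 * Nat.card (Kp a x) := by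
        rw [← hO]; exact Nat.mul_le_mul_right _ hO'
      omega
    have hc : Nat.Coprime s 5 := ((Nat.Prime.coprime_iff_not_dvd (by norm_num)).2 h5).symm
    have hd : s ∣ 192 := hc.dvd_of_dvd_mul_left (show s ∣ 5 * 192 from hdvd)
    exact le_antisymm (Nat.le_of_dvd (by norm_num) hd) hge
  -- the image of the centralizer of the intersection
  set B : Subgroup G := J a ⊓ centralizer ((J a ⊓ J x : Subgroup G) : Set G) with hB
  have hBmem : ∀ b, b ∈ B ↔ b ∈ J a ∧ ∀ y ∈ J a ⊓ J x, Commute b y := fun b => by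
    rw [hB, Subgroup.mem_inf, Subgroup.mem_centralizer_iff]
    exact and_congr_right fun _ =>
      ⟨fun hb y hy => (hb y hy).symm, fun hb y hy => (hb y hy).symm⟩
  have hB64 : Nat.card B = 64 := by
    have hd := C.dual (A := J a ⊓ J x) inf_le_left (S.a_mem_D h)
    rw [h16] at hd
    rw [← SetLike.coe_sort_coe, Nat.card_coe_set_eq]
    rw [show (B : Set G) = {j | j ∈ J a ∧ ∀ y ∈ J a ⊓ J x, Commute j y} from Set.ext hBmem]
    omega
  have hBx : ∀ b ∈ B, Commute b x := fun b hb => ((hBmem b).1 hb).2 x (S.x_mem_D h)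
  have hker : B ⊓ J x = J a ⊓ J x := le_antisymm (inf_le_inf_right _ inf_le_left)
    (le_inf (fun d hd => (hBmem d).2 ⟨hd.1, fun y hy => S.comm_D h hd hy⟩) inf_le_right)
  have hcard := C'.card_img (H := B) hBx
  rw [hker, h16, hB64] at hcard
  have helem : Elem2 (C'.img B hBx) := by
    have hle : ∀ u ∈ C'.img B hBx, u ∈ C'.img (Jc J a x) (fun _ hj => (mem_Jc.1 hj).2) := by
      intro u hu
      obtain ⟨b, hb, rfl⟩ := C'.mem_img.1 hu
      exact C'.mem_img.2 ⟨b, mem_Jc.2 ⟨((hBmem b).1 hb).1, hBx b hb⟩, rfl⟩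
    exact ⟨fun u hu => (S.elem_img h).1 u (hle u hu),
      fun u hu v hv => (S.elem_img h).2 u (hle u hu) v (hle v hv)⟩
  have hle : (C'.img (Kp x a) fun _ hg => (mem_Kp.1 hg).1) ≤
      normalizer ((C'.img B hBx : Subgroup U) : Set U) := by
    intro u hu
    obtain ⟨g, hg, rfl⟩ := C'.mem_img.1 hu
    obtain ⟨hgx, hga⟩ := mem_Kp.1 hg
    refine C'.img_normalizer hgx fun b hb => (hBmem _).2
      ⟨C.normal g hga b ((hBmem b).1 hb).1, fun y hy => ?_⟩
    have hy' : g⁻¹ * y * g⁻¹⁻¹ ∈ J a ⊓ J x :=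
      ⟨C.normal _ hga.inv_left y hy.1, C'.normal _ hgx.inv_left y hy.2⟩
    have := U62RecogSetup19.commute_cj g (((hBmem b).1 hb).2 _ hy')
    simpa [mul_assoc] using this
  haveI : Finite U := Nat.finite_of_card_ne_zero (by rw [S.facts.card]; norm_num)
  have hlt := S.facts.four _ helem (by omega)
  have := Subgroup.card_le_of_le hle
  omega

theorem Sbar_eq (h : Bad Ω J a x) :
    ((S.ctx a h.pair.1).img (Kp a x) fun _ hg => (mem_Kp.1 hg).1) =
        normalizer (((S.ctx a h.pair.1).img (Jc J x a) fun _ hj => (mem_Jc.1 hj).2 : Subgroup U) :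
          Set U) ∧
      Nat.card (normalizer (((S.ctx a h.pair.1).img (Jc J x a) fun _ hj => (mem_Jc.1 hj).2 :
          Subgroup U) : Set U)) = 192 ∧
      Nat.card ((S.ctx a h.pair.1).img (Jc J x a) fun _ hj => (mem_Jc.1 hj).2) = 8 ∧
      {d | ∃ g ∈ centralizer ({a} : Set G), g * x * g⁻¹ = d} =
        {j | j ∈ J a ∧ j * j = 1 ∧ j ≠ 1 ∧ j ≠ a} ∧
      {j | j ∈ J a ∧ j * j = 1 ∧ j ≠ 1 ∧ j ≠ a}.ncard = 270 := by
  haveI : Finite U := Nat.finite_of_card_ne_zero (by rw [S.facts.card]; norm_num)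
  obtain ⟨hsub, hI, hO⟩ := S.orbit_facts h
  have hS := S.card_Sbar h
  have hQ : Nat.card ((S.ctx a h.pair.1).img (Jc J x a) fun _ hj => (mem_Jc.1 hj).2) = 8 := by
    have := S.cardD_mul h.symm
    rw [inf_comm (J x) (J a), S.cardD h] at this
    omega
  have hN := (S.facts.eight _ (S.elem_img h.symm) hQ).1
  have hle := Subgroup.card_le_of_le (S.Sbar_le h)
  have hO' := Set.ncard_le_ncard hsub (Set.toFinite _)
  have hK : Nat.card (Kp a x) = 49152 := by
    have h1 : 13271040 ≤ 270 * Nat.card (Kp a x) := by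
      rw [← hO]; exact Nat.mul_le_mul_right _ (hO'.trans hI)
    omega
  rw [hK] at hO hS
  refine ⟨Subgroup.eq_of_le_of_card_ge (S.Sbar_le h) (by omega), by omega, hQ,
    Set.eq_of_subset_of_ncard_le hsub (by omega) (Set.toFinite _), by omega⟩

end Sys

end Cfsg.Agent.U62From98
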