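import Mathlib
import Cfsg.Agent.Lib.U62From98NoJBase

/-!
No conjugate lies in the extraspecial subgroup of a commuting conjugate: otherwise each of the 45
transvections would be attached to six members of an orbit of length 270, while one of them is
attached to at least twelve.
-/

set_option autoImplicit false
set_option linter.unusedSectionVars false
set_option linter.style.haveILetI false

namespace Cfsg.Agent.U62From98

open Subgroup

universe u v

variable {G : Type u} [Group G] {U : Type v} [Group U]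
variable {z : G} {Ω : Set G} {T : Set U} {J : G → Subgroup G} {φ : G → G → U}

/-- The transvection `u` commutes with the image at `a` of the stabilizer of `d`. -/
def Tv (T : Set U) (φ : G → G → U) (a d : G) (u : U) : Prop :=
  u ∈ T ∧ ∀ g, Commute g a → Commute g d → Commute (φ a g) u

/-- A pair-free description of the coset of `d` over `{1, a, x, a x}`. -/
noncomputable def cls (a x d : G) : Set G := {d, a * d, x * d, a * x * d}

theorem counting {L N M : ℕ} (h : L * N = 3 * M) (hle : L * N ≤ 12) (h2 : 2 ∣ N) (hN : 0 < N)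
    (hL : 0 < L) : L = 1 ∨ L = 2 ∨ L = 3 ∨ L = 6 := by
  have hL6 : L ≤ 6 := by nlinarith [Nat.le_of_dvd hN h2]
  obtain ⟨k, rfl⟩ := h2
  interval_cases L <;> omega

namespace Sys

variable [Finite G] (S : Sys z Ω T J φ)
include S

theorem tv_conj {a d h : G} {u : U} (ha : a ∈ Ω) (hh : Commute h a) (ht : Tv T φ a d u) :
    Tv T φ a (h * d * h⁻¹) (φ a h * u * (φ a h)⁻¹) := by
  refine ⟨S.facts.conj_T u ht.1 _, fun g hga hgd => ?_⟩
  have C := S.ctx a ha
  have hga' : Commute (h⁻¹ * g * h) a := (hh.inv_left.mul_left hga).mul_left hh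
  have hgd' : Commute (h⁻¹ * g * h) d := by
    have := U62RecogSetup19.commute_cj h⁻¹ hgd
    simpa [mul_assoc] using this
  have := (ht.2 _ hga' hgd').map (MulAut.conj (φ a h)).toMonoidHom
  simp only [MulEquiv.coe_toMonoidHom, MulAut.conj_apply] at this
  rw [← C.phi_conj hh hga', show h * (h⁻¹ * g * h) * h⁻¹ = g by group] at this
  exact this

theorem tv_unique_of {a d : G} (ha : a ∈ Ω) {x : G} {t : U} (hx : Tv T φ a x t)
    (huniq : ∀ u, Tv T φ a x u → u = t) {g : G} (hg : Commute g a) (hgd : g * x * g⁻¹ = d) :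
    Tv T φ a d (φ a g * t * (φ a g)⁻¹) ∧ ∀ u, Tv T φ a d u → u = φ a g * t * (φ a g)⁻¹ := by
  refine ⟨hgd ▸ S.tv_conj ha hg hx, fun u hu => ?_⟩
  have h1 := S.tv_conj ha hg.inv_left hu
  rw [(S.ctx a ha).phi_inv hg, inv_inv, ← hgd] at h1
  rw [show g⁻¹ * (g * x * g⁻¹) * g = x by group] at h1
  rw [← huniq _ h1]
  group

/-- No conjugate lies in the extraspecial subgroup of a commuting conjugate. -/
theorem not_bad {a x : G} (h : Bad Ω J a x) : False := by
  classical
  haveI : Fintype G := Fintype.ofFinite G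
  haveI : Finite U := Nat.finite_of_card_ne_zero (by rw [S.facts.card]; norm_num)
  haveI : Fintype U := Fintype.ofFinite U
  have ha := h.pair.1
  have C := S.ctx a ha
  have C' := S.ctx x h.pair.2.1
  obtain ⟨hS, hN, hQ8, hO, hI⟩ := S.Sbar_eq h
  set Q := C.img (Jc J x a) fun _ hj => (mem_Jc.1 hj).2 with hQ
  obtain ⟨t, htT, htQ, htfix, htorb, htlines⟩ :=
    S.facts.eight_max Q (S.elem_img h.symm) hQ8 hN
  have hNS : ∀ {w : U}, w ∈ normalizer (Q : Set U) →
      ∃ g, Commute g a ∧ Commute g x ∧ φ a g = w := by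
    intro w hw
    rw [← hS] at hw
    obtain ⟨g, hg, e⟩ := C.mem_img.1 hw
    exact ⟨g, (mem_Kp.1 hg).1, (mem_Kp.1 hg).2, e⟩
  have hSN : ∀ {g : G}, Commute g a → Commute g x → φ a g ∈ normalizer (Q : Set U) := by
    intro g h1 h2
    rw [← hS]
    exact C.mem_img.2 ⟨g, mem_Kp.2 ⟨h1, h2⟩, rfl⟩
  -- the transvection attached to `x`
  have htx : Tv T φ a x t := ⟨htT, fun g h1 h2 => mul_inv_eq_iff_eq_mul.1 (htfix _ (hSN h1 h2))⟩
  have htu : ∀ u, Tv T φ a x u → u = t := by
    intro u hu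
    by_contra hne
    refine htorb u hu.1 hne ?_
    have : {c | ∃ g ∈ normalizer (Q : Set U), g * u * g⁻¹ = c} = {u} := by
      ext c
      constructor
      · rintro ⟨g, hg, rfl⟩
        obtain ⟨g', h1, h2, rfl⟩ := hNS hg
        exact mul_inv_eq_iff_eq_mul.2 (hu.2 g' h1 h2)
      · rintro rfl
        exact ⟨1, one_mem _, by group⟩
    rw [this, Set.ncard_singleton]
    simp
  set I : Set G := {j | j ∈ J a ∧ j * j = 1 ∧ j ≠ 1 ∧ j ≠ a} with hIdef
  have htv : ∀ d ∈ I, ∃ u, Tv T φ a d u ∧ ∀ u', Tv T φ a d u' → u' = u := by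
    intro d hd
    rw [← hO] at hd
    obtain ⟨g, hg, e⟩ := hd
    exact ⟨_, S.tv_unique_of ha htx htu (mem_cent.1 hg) e⟩
  choose! τ hτ hτu using htv
  have hIconj : ∀ g, Commute g a → ∀ d ∈ I, g * d * g⁻¹ ∈ I := by
    intro g hg d hd
    rw [← hO] at hd ⊢
    obtain ⟨k, hk, rfl⟩ := hd
    exact ⟨g * k, mul_mem (mem_cent.2 hg) hk, by group⟩
  have hτconj : ∀ g, Commute g a → ∀ d ∈ I, τ (g * d * g⁻¹) = φ a g * τ d * (φ a g)⁻¹ :=
    fun g hg d hd => (hτu _ (hIconj g hg d hd) _ (S.tv_conj ha hg (hτ d hd))).symm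
  -- six members over each transvection
  have hfib : (I.toFinset.filter fun d => τ d = t).card = 6 := by
    have key := Finset.card_eq_sum_card_fiberwise (f := τ) (s := I.toFinset) (t := T.toFinset)
      fun d hd => by
        rw [Set.coe_toFinset] at hd ⊢
        exact (hτ d hd).1
    have hconst : ∀ u ∈ T.toFinset, (I.toFinset.filter fun d => τ d = u).card =
        (I.toFinset.filter fun d => τ d = t).card := by
      intro u hu
      obtain ⟨w, hw⟩ := S.facts.trans t htT u (Set.mem_toFinset.1 hu)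
      obtain ⟨g, hg, rfl⟩ := C.surj w
      refine (Finset.card_bij (fun d _ => g * d * g⁻¹) (fun d hd => ?_)
        (fun i _ j _ e => mul_left_cancel (mul_right_cancel e)) fun d hd => ?_).symm
      · simp only [Finset.mem_filter, Set.mem_toFinset] at hd ⊢
        exact ⟨hIconj g hg d hd.1, by rw [hτconj g hg d hd.1, hd.2, hw]⟩
      · simp only [Finset.mem_filter, Set.mem_toFinset] at hd
        refine ⟨g⁻¹ * d * g⁻¹⁻¹, ?_, by group⟩
        simp only [Finset.mem_filter, Set.mem_toFinset]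
        refine ⟨hIconj g⁻¹ hg.inv_left d hd.1, ?_⟩
        rw [hτconj g⁻¹ hg.inv_left d hd.1, hd.2, ← hw, C.phi_inv hg]
        group
    have hT45 : T.toFinset.card = 45 := by
      rw [← Set.ncard_eq_toFinset_card']; exact S.facts.graph.card
    rw [Finset.sum_congr rfl hconst, Finset.sum_const, smul_eq_mul, hT45,
      ← Set.ncard_eq_toFinset_card', hI] at key
    omega
  -- an element over the transvection of `x`
  set D : Subgroup G := J a ⊓ J x with hDdef
  have hD32 : Nat.card D = 32 := S.cardD h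
  have hDQ : ∀ d ∈ D, d ∈ Jc J x a := fun d hd => mem_Jc.2 ⟨hd.2, C.le d hd.1⟩
  obtain ⟨q₀, hq₀, hq₀t⟩ := C.mem_img.1 htQ
  obtain ⟨hq₀J, hq₀a⟩ := mem_Jc.1 hq₀
  obtain ⟨d₀, hd₀, hd₀q⟩ : ∃ d ∈ D, ¬ Commute q₀ d := by
    by_contra hne
    push Not at hne
    have hd := C'.dual (A := D) inf_le_right (S.x_mem_D h)
    rw [hD32] at hd
    have hsub : (D : Set G) ⊆ {j | j ∈ J x ∧ ∀ y ∈ D, Commute j y} :=
      fun d hd' => ⟨hd'.2, fun y hy => S.comm_D h hd' hy⟩
    have h32 : (D : Set G).ncard = 32 := by rw [← Nat.card_coe_set_eq]; exact hD32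
    have heq := Set.eq_of_subset_of_ncard_le hsub (by omega) (Set.toFinite _)
    have hqD : q₀ ∈ D := (Set.ext_iff.1 heq q₀).2 ⟨hq₀J, hne⟩
    exact S.facts.ne_one t htT (hq₀t ▸ (C.ker q₀ hq₀a).2 hqD.1)
  set W : Subgroup G := D ⊓ centralizer ({q₀} : Set G) with hWdef
  have hW16 : Nat.card W = 16 := by
    have := C'.half (B := D) inf_le_right hq₀J hd₀ hd₀q
    rw [← hWdef] at this
    omega
  set F := four a x (S.sq ha) (S.sq h.pair.2.1) h.pair.2.2.2 with hF
  have hF4 : Nat.card F = 4 := card_four _ _ _ C.ne_one C'.ne_one h.pair.2.2.1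
  have hFW : F ≤ W := by
    intro g hg
    rcases mem_four.1 hg with e | e | e | e <;> rw [e]
    · exact one_mem _
    · exact mem_cent_iff.2 ⟨S.a_mem_D h, hq₀a.symm⟩
    · exact mem_cent_iff.2 ⟨S.x_mem_D h, (C'.le q₀ hq₀J).symm⟩
    · exact mul_mem (mem_cent_iff.2 ⟨S.a_mem_D h, hq₀a.symm⟩)
        (mem_cent_iff.2 ⟨S.x_mem_D h, (C'.le q₀ hq₀J).symm⟩)
  set Z : Finset G := Finset.univ.filter fun g => g ∈ W ∧ g ∉ F with hZdef
  have hZmem : ∀ g, g ∈ Z ↔ g ∈ W ∧ g ∉ F := fun g => by simp [hZdef]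
  have hZcard : Z.card = 12 := by
    rw [← Set.ncard_coe_finset, show (Z : Set G) = (W : Set G) \ F from Set.ext fun g => hZmem g,
      Set.ncard_diff (SetLike.coe_subset_coe.2 hFW) (Set.toFinite _)]
    rw [← Nat.card_coe_set_eq, ← Nat.card_coe_set_eq]
    show Nat.card W - Nat.card F = 12
    omega
  have hWD : ∀ g ∈ W, g ∈ D := fun g hg => (mem_cent_iff.1 hg).1
  have hZI : ∀ d ∈ Z, d ∈ I := by
    intro d hd
    obtain ⟨hdW, hdF⟩ := (hZmem d).1 hd
    exact ⟨(hWD d hdW).1, S.sq_D h (hWD d hdW), fun e => hdF (e ▸ one_mem F),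
      fun e => hdF (e ▸ mem_four.2 (Or.inr (Or.inl rfl)))⟩
  have hWconj : ∀ g, Commute g a → Commute g x → ∀ d ∈ W, g * d * g⁻¹ ∈ W := by
    intro g hga hgx d hd
    have hgd : g * d * g⁻¹ ∈ D :=
      ⟨C.normal g hga d (hWD d hd).1, C'.normal g hgx d (hWD d hd).2⟩
    refine mem_cent_iff.2 ⟨hgd, ?_⟩
    have hq' := S.conj_Jc h.symm.pair hgx hga hq₀
    have hmem : (g * q₀ * g⁻¹)⁻¹ * q₀ ∈ D := by
      refine ⟨(C.phi_eq_iff (mem_Jc.1 hq').2 hq₀a).1 ?_, (J x).mul_mem ((J x).inv_mem (mem_Jc.1 hq').1) hq₀J⟩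
      rw [C.phi_conj hga hq₀a, hq₀t, htfix _ (hSN hga hgx)]
    have h1 := (mem_cent_iff.1 hd).2.map (MulAut.conj g).toMonoidHom
    simp only [MulEquiv.coe_toMonoidHom, MulAut.conj_apply] at h1
    have h2 := h1.mul_right (S.comm_D h hgd hmem)
    rwa [mul_inv_cancel_left] at h2
  have hFconj : ∀ g, Commute g a → Commute g x → ∀ d, g * d * g⁻¹ ∈ F → d ∈ F := by
    intro g hga hgx d hd
    have e : ∀ v, v ∈ F → g⁻¹ * v * g = v := by
      intro v hv
      have hc : Commute g v := by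
        rcases mem_four.1 hv with e | e | e | e <;> rw [e]
        exacts [Commute.one_right g, hga, hgx, hga.mul_right hgx]
      rw [mul_assoc, ← hc.eq, inv_mul_cancel_left]
    have := e _ hd
    rw [show g⁻¹ * (g * d * g⁻¹) * g = d by group] at this
    exact this ▸ hd
  have hZconj : ∀ g, Commute g a → Commute g x → ∀ d ∈ Z, g * d * g⁻¹ ∈ Z := by
    intro g hga hgx d hd
    obtain ⟨hdW, hdF⟩ := (hZmem d).1 hd
    exact (hZmem _).2 ⟨hWconj g hga hgx d hdW, fun e => hdF (hFconj g hga hgx d e)⟩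
  -- lines through `t`
  set L : G → Subgroup U := fun d =>
    C.img (Jc J x a ⊓ centralizer ({d} : Set G)) fun _ hj => (mem_Jc.1 hj.1).2 with hLdef
  have hLcard : ∀ d ∈ Z, Nat.card (Jc J x a ⊓ centralizer ({d} : Set G) : Subgroup G) = 128 ∧
      D ≤ Jc J x a ⊓ centralizer ({d} : Set G) ∧ Nat.card (L d) = 4 := by
    intro d hd
    obtain ⟨hdW, hdF⟩ := (hZmem d).1 hd
    have hdD := hWD d hdW
    obtain ⟨k, hk, hkd⟩ : ∃ k ∈ Jc J x a, ¬ Commute d k := by
      by_contra hne
      push Not at hne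
      rcases S.cent_Jc h.symm.pair h.ax hdD.2 hne with e | e | e | e <;> refine hdF ?_ <;> rw [e]
      · exact one_mem _
      · exact mem_four.2 (Or.inr (Or.inr (Or.inl rfl)))
      · exact mem_four.2 (Or.inr (Or.inl rfl))
      · exact mem_four.2 (Or.inr (Or.inr (Or.inr h.pair.2.2.2.eq.symm)))
    have h128 : Nat.card (Jc J x a ⊓ centralizer ({d} : Set G) : Subgroup G) = 128 := by
      have := C'.half (B := Jc J x a) inf_le_left hdD.2 hk hkd
      rw [S.card_Jc h.symm.pair h.ax] at this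
      omega
    have hle : D ≤ Jc J x a ⊓ centralizer ({d} : Set G) := fun e he =>
      mem_cent_iff.2 ⟨hDQ e he, S.comm_D h he hdD⟩
    refine ⟨h128, hle, ?_⟩
    have hc := C.card_img (H := Jc J x a ⊓ centralizer ({d} : Set G))
      fun _ hj => (mem_Jc.1 hj.1).2
    rw [show (Jc J x a ⊓ centralizer ({d} : Set G)) ⊓ J a = D from le_antisymm
      (fun e he => ⟨he.2, (mem_Jc.1 he.1.1).1⟩) (le_inf hle inf_le_left), hD32, h128] at hc
    show Nat.card (C.img (Jc J x a ⊓ centralizer ({d} : Set G))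
      fun _ hj => (mem_Jc.1 hj.1).2) = 4
    omega
  have htL : ∀ d ∈ Z, t ∈ L d := fun d hd =>
    C.mem_img.2 ⟨q₀, mem_cent_iff.2 ⟨hq₀, (mem_cent_iff.1 ((hZmem d).1 hd).1).2.symm⟩, hq₀t⟩
  have hLQ : ∀ d, L d ≤ Q := fun d u hu => by
    obtain ⟨q, hq, e⟩ := C.mem_img.1 hu
    exact C.mem_img.2 ⟨q, hq.1, e⟩
  have hLb : ∀ d ∈ Z, ∃ b ∈ L d, b ≠ 1 ∧ b ≠ t := by
    intro d hd
    by_contra hne
    push Not at hne
    have : Nat.card (L d) ≤ 2 := by
      rw [← SetLike.coe_sort_coe, Nat.card_coe_set_eq]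
      refine le_trans (Set.ncard_le_ncard (t := {1, t}) (fun b hb => ?_) (Set.toFinite _))
        ((Set.ncard_insert_le _ _).trans (by rw [Set.ncard_singleton]))
      by_cases h1 : b = 1
      · exact Or.inl h1
      · exact Or.inr (hne b hb h1)
    rw [(hLcard d hd).2.2] at this
    omega
  have hsame : ∀ e ∈ Z, ∀ d ∈ Z, (∃ c ∈ L e, c ≠ 1 ∧ c ≠ t ∧ c ∈ L d) → d ∈ cls a x e := by
    rintro e he d hd ⟨c, hce, hc1, hct, hcd⟩
    have hgen : ∀ d ∈ Z, c ∈ L d → ((L d : Subgroup U) : Set U) = {1, t, c, t * c} := by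
      intro d hd hc
      refine (Set.eq_of_subset_of_ncard_le ?_ ?_ (Set.toFinite _)).symm
      · intro u hu
        rcases hu with rfl | rfl | rfl | rfl
        exacts [one_mem _, htL d hd, hc, mul_mem (htL d hd) hc]
      · rw [← Nat.card_coe_set_eq]
        show Nat.card (L d) ≤ _
        rw [(hLcard d hd).2.2]
        have h1 : t ≠ 1 := S.facts.ne_one t htT
        have ht2 : t * t = 1 := S.facts.graph.inv t htT
        have h3 : t * c ≠ 1 := fun q => hct (by
          rw [← inv_eq_of_mul_eq_one_right q, inv_eq_of_mul_eq_one_right ht2])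
        have h4 : t * c ≠ t := fun q => hc1 (mul_eq_left.1 q)
        have h5 : t * c ≠ c := fun q => h1 (mul_eq_right.1 q)
        rw [show ({1, t, c, t * c} : Set U) = ↑({1, t, c, t * c} : Finset U) by simp,
          Set.ncard_coe_finset]
        simp [Ne.symm h1, Ne.symm hc1, Ne.symm hct, Ne.symm h3, Ne.symm h4, Ne.symm h5]
    have hCC : ∀ q ∈ Jc J x a ⊓ centralizer ({e} : Set G), Commute q d := by
      intro q hq
      have hqL : φ a q ∈ ((L d : Subgroup U) : Set U) := by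
        rw [hgen d hd hcd, ← hgen e he hce]
        exact C.mem_img.2 ⟨q, hq, rfl⟩
      obtain ⟨q', hq', eq'⟩ := C.mem_img.1 hqL
      have hD' : q'⁻¹ * q ∈ D :=
        ⟨(C.phi_eq_iff (mem_Jc.1 hq'.1).2 (mem_Jc.1 hq.1).2).1 eq',
          (J x).mul_mem ((J x).inv_mem (mem_Jc.1 hq'.1).1) (mem_Jc.1 hq.1).1⟩
      have := (mem_cent_iff.1 hq').2.mul_left (S.comm_D h hD' (hWD d ((hZmem d).1 hd).1))
      rwa [mul_inv_cancel_left] at this
    obtain ⟨h128, hle, -⟩ := hLcard e he
    have hd8 := C'.dual (A := Jc J x a ⊓ centralizer ({e} : Set G))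
      (fun q hq => (mem_Jc.1 hq.1).1) (hle (S.x_mem_D h))
    rw [h128] at hd8
    have hmem8 : ∀ v ∈ D, (∀ q ∈ Jc J x a ⊓ centralizer ({e} : Set G), Commute q v) →
        v ∈ {j | j ∈ J x ∧ ∀ y ∈ Jc J x a ⊓ centralizer ({e} : Set G), Commute j y} :=
      fun v hv hc => ⟨hv.2, fun y hy => (hc y hy).symm⟩
    obtain ⟨heW, heF⟩ := (hZmem e).1 he
    set E8 : Set G := (F : Set G) ∪ (fun v => v * e) '' (F : Set G) with hE8
    have hcF : ∀ v ∈ F, ∀ q ∈ Jc J x a, Commute q v := by
      intro v hv q hq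
      obtain ⟨hqx, hqa⟩ := mem_Jc.1 hq
      rcases mem_four.1 hv with q' | q' | q' | q' <;> rw [q']
      exacts [Commute.one_right q, hqa, C'.le q hqx, hqa.mul_right (C'.le q hqx)]
    have hsub : E8 ⊆ {j | j ∈ J x ∧ ∀ y ∈ Jc J x a ⊓ centralizer ({e} : Set G), Commute j y} := by
      rintro v (hv | ⟨v, hv, rfl⟩)
      · exact hmem8 v (hWD v (hFW hv)) fun q hq => hcF v hv q hq.1
      · exact hmem8 _ (mul_mem (hWD v (hFW hv)) (hWD e heW)) fun q hq =>
          (hcF v hv q hq.1).mul_right (mem_cent_iff.1 hq).2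
    have hE8c : E8.ncard = 8 := by
      have h4 : (F : Set G).ncard = 4 := by rw [← Nat.card_coe_set_eq]; exact hF4
      rw [hE8, Set.ncard_union_eq (Set.disjoint_left.2 fun v hv hv' => by
          obtain ⟨w, hw, rfl⟩ := hv'
          exact heF ((mul_mem_cancel_left hw).1 hv)) (Set.toFinite _) (Set.toFinite _),
        Set.ncard_image_of_injective _ (fun p q hpq => mul_right_cancel hpq), h4]
    have heq := Set.eq_of_subset_of_ncard_le hsub (by omega) (Set.toFinite _)
    have hdE : d ∈ E8 := (Set.ext_iff.1 heq d).2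
      (hmem8 d (hWD d ((hZmem d).1 hd).1) hCC)
    rcases hdE with hdF | ⟨v, hv, rfl⟩
    · exact absurd hdF ((hZmem d).1 hd).2
    · show v * e ∈ cls a x e
      rcases mem_four.1 hv with q | q | q | q <;> rw [q] <;>
        simp [cls, one_mul]
  have hclsF : ∀ v ∈ F, ∀ d, cls a x (v * d) = cls a x d := by
    intro v hv d
    have ha2 : ∀ w, a * (a * w) = w := fun w => by rw [← mul_assoc, C.sq, one_mul]
    have hx2 : ∀ w, x * (x * w) = w := fun w => by rw [← mul_assoc, C'.sq, one_mul]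
    have hxa : ∀ w, x * (a * w) = a * (x * w) := fun w => by
      rw [← mul_assoc, ← h.pair.2.2.2.eq, mul_assoc]
    ext g
    rcases mem_four.1 hv with q | q | q | q <;> rw [q] <;>
      simp only [cls, Set.mem_insert_iff, Set.mem_singleton_iff, one_mul, mul_assoc, ha2, hx2,
        hxa] <;> tauto
  have hcls_mem : ∀ d ∈ Z, ∀ e, e ∈ cls a x d → e ∈ Z ∧ cls a x e = cls a x d := by
    intro d hd e he
    obtain ⟨v, hv, rfl⟩ : ∃ v ∈ F, e = v * d := by
      rcases he with q | q | q | q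
      · exact ⟨1, one_mem _, by rw [one_mul]; exact q⟩
      · exact ⟨a, mem_four.2 (Or.inr (Or.inl rfl)), q⟩
      · exact ⟨x, mem_four.2 (Or.inr (Or.inr (Or.inl rfl))), q⟩
      · exact ⟨a * x, mem_four.2 (Or.inr (Or.inr (Or.inr rfl))), q⟩
    obtain ⟨hdW, hdF⟩ := (hZmem d).1 hd
    exact ⟨(hZmem _).2 ⟨mul_mem (hFW hv) hdW, fun q => hdF ((mul_mem_cancel_left hv).1 q)⟩,
      hclsF v hv d⟩
  have hcls4 : ∀ d ∈ Z, (Z.filter fun e => cls a x e = cls a x d).card = 4 := by
    intro d hd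
    have hinj : Function.Injective fun v : G => v * d := fun p q e => mul_right_cancel e
    rw [← Set.ncard_coe_finset, show ((Z.filter fun e => cls a x e = cls a x d : Finset G) : Set G) =
      (fun v => v * d) '' (F : Set G) from ?_, Set.ncard_image_of_injective _ hinj,
      ← Nat.card_coe_set_eq]
    · exact hF4
    ext e
    simp only [Finset.coe_filter, Set.mem_setOf_eq, Set.mem_image, SetLike.mem_coe]
    constructor
    · rintro ⟨-, he⟩
      have : e ∈ cls a x d := he ▸ Set.mem_insert e _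
      rcases this with q | q | q | q
      · exact ⟨1, one_mem _, by rw [one_mul]; exact q.symm⟩
      · exact ⟨a, mem_four.2 (Or.inr (Or.inl rfl)), q.symm⟩
      · exact ⟨x, mem_four.2 (Or.inr (Or.inr (Or.inl rfl))), q.symm⟩
      · exact ⟨a * x, mem_four.2 (Or.inr (Or.inr (Or.inr rfl))), q.symm⟩
    · rintro ⟨v, hv, rfl⟩
      exact ⟨(hZmem _).2 ⟨mul_mem (hFW hv) ((hZmem d).1 hd).1,
        fun q => ((hZmem d).1 hd).2 ((mul_mem_cancel_left hv).1 q)⟩, hclsF v hv d⟩
  have hthree : (Z.image (cls a x)).card = 3 := by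
    have := Finset.card_eq_sum_card_image (cls a x) Z
    rw [Finset.sum_congr rfl (g := fun _ => 4) fun κ hκ => by
        obtain ⟨d, hd, rfl⟩ := Finset.mem_image.1 hκ
        exact hcls4 d hd,
      Finset.sum_const, smul_eq_mul, hZcard] at this
    omega
  have hclsconj : ∀ g, Commute g a → Commute g x → ∀ d e : G, cls a x d = cls a x e →
      cls a x (g * d * g⁻¹) = cls a x (g * e * g⁻¹) := by
    intro g hga hgx d e he
    have : d ∈ cls a x e := he ▸ Set.mem_insert d _
    obtain ⟨v, hv, rfl⟩ : ∃ v ∈ F, d = v * e := by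
      rcases this with q | q | q | q
      · exact ⟨1, one_mem _, by rw [one_mul]; exact q⟩
      · exact ⟨a, mem_four.2 (Or.inr (Or.inl rfl)), q⟩
      · exact ⟨x, mem_four.2 (Or.inr (Or.inr (Or.inl rfl))), q⟩
      · exact ⟨a * x, mem_four.2 (Or.inr (Or.inr (Or.inr rfl))), q⟩
    have hc : Commute g v := by
      rcases mem_four.1 hv with q | q | q | q <;> rw [q]
      exacts [Commute.one_right g, hga, hgx, hga.mul_right hgx]
    rw [show g * (v * e) * g⁻¹ = v * (g * e * g⁻¹) by rw [← mul_assoc g, hc.eq]; group]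
    exact hclsF v hv _
  -- transitivity on the three classes
  have htr : ∀ d ∈ Z, ∀ d' ∈ Z, ∃ g, Commute g a ∧ Commute g x ∧
      cls a x (g * d * g⁻¹) = cls a x d' := by
    intro d hd d' hd'
    obtain ⟨b, hb, hb1, hbt⟩ := hLb d hd
    obtain ⟨c, hc, hc1, hct⟩ := hLb d' hd'
    obtain ⟨w, hw, hwb⟩ := htlines b (hLQ d hb) hb1 hbt c (hLQ d' hc) hc1 hct
    obtain ⟨g, hga, hgx, rfl⟩ := hNS hw
    refine ⟨g, hga, hgx, ?_⟩
    have he := hZconj g hga hgx d hd
    have hconjL : φ a g * b * (φ a g)⁻¹ ∈ L (g * d * g⁻¹) := by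
      obtain ⟨q, hq, rfl⟩ := C.mem_img.1 hb
      obtain ⟨hq1, hq2⟩ := mem_cent_iff.1 hq
      exact C.mem_img.2 ⟨_, mem_cent_iff.2 ⟨S.conj_Jc h.symm.pair hgx hga hq1,
        U62RecogSetup19.commute_cj g hq2⟩, C.phi_conj hga (mem_Jc.1 hq1).2⟩
    have hcL : c ∈ L (g * d * g⁻¹) := by
      rcases hwb with e | e
      · exact e ▸ hconjL
      · have := mul_mem (htL _ he) hconjL
        rwa [e, ← mul_assoc, S.facts.graph.inv t htT, one_mul] at this
    exact ((hcls_mem _ he _ (hsame _ he d' hd' ⟨c, hcL, hc1, hct, hc⟩)).2).symm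
  -- every member of `Z` lies over `t`
  have hall : ∀ d ∈ Z, τ d = t := by
    intro d hd
    by_contra hne
    set Or' : Finset U := Finset.univ.filter
      (fun c => ∃ g ∈ normalizer (Q : Set U), g * τ d * g⁻¹ = c) with hOr
    have hOrm : ∀ c, c ∈ Or' ↔ ∃ g ∈ normalizer (Q : Set U), g * τ d * g⁻¹ = c := fun c => by
      simp [hOr]
    have hbad := htorb (τ d) (hτ d (hZI d hd)).1 hne
    rw [show {c | ∃ g ∈ normalizer (Q : Set U), g * τ d * g⁻¹ = c} = (Or' : Set U) from
      Set.ext fun c => (hOrm c).symm, Set.ncard_coe_finset] at hbad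
    set Zu := Z.filter fun e => τ e ∈ Or' with hZu
    set Nd := (Z.filter fun e => τ e = τ d).card with hNd
    have hOconj : ∀ g, Commute g a → Commute g x → ∀ c ∈ Or', φ a g * c * (φ a g)⁻¹ ∈ Or' := by
      intro g hga hgx c hc
      obtain ⟨w, hw, rfl⟩ := (hOrm c).1 hc
      exact (hOrm _).2 ⟨φ a g * w, mul_mem (hSN hga hgx) hw, by group⟩
    have hmove : ∀ g, Commute g a → Commute g x → ∀ e ∈ Zu, g * e * g⁻¹ ∈ Zu := by
      intro g hga hgx e he
      obtain ⟨heZ, heO⟩ := Finset.mem_filter.1 he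
      exact Finset.mem_filter.2 ⟨hZconj g hga hgx e heZ,
        by rw [hτconj g hga e (hZI e heZ)]; exact hOconj g hga hgx _ heO⟩
    have hback : ∀ (g : G) (e : G), g * (g⁻¹ * e * g⁻¹⁻¹) * g⁻¹ = e := fun g e => by group
    have hLN : Zu.card = Or'.card * Nd := by
      rw [Finset.card_eq_sum_card_fiberwise (f := τ) (s := Zu) (t := Or')
        (fun e he => (Finset.mem_filter.1 he).2), Finset.sum_congr rfl (g := fun _ => Nd) ?_,
        Finset.sum_const, smul_eq_mul]
      intro c hc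
      obtain ⟨w, hw, rfl⟩ := (hOrm c).1 hc
      obtain ⟨g, hga, hgx, rfl⟩ := hNS hw
      refine (Finset.card_bij (fun e _ => g * e * g⁻¹) (fun e he => ?_)
        (fun i _ j _ e => mul_left_cancel (mul_right_cancel e)) fun e he => ?_).symm
      · obtain ⟨heZ, heτ⟩ := Finset.mem_filter.1 he
        refine Finset.mem_filter.2 ⟨hmove g hga hgx e (Finset.mem_filter.2 ⟨heZ, ?_⟩), ?_⟩
        · rw [heτ]; exact (hOrm _).2 ⟨1, one_mem _, by group⟩
        · rw [hτconj g hga e (hZI e heZ), heτ]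
      · obtain ⟨heu, heτ⟩ := Finset.mem_filter.1 he
        have heZ := (Finset.mem_filter.1 heu).1
        refine ⟨g⁻¹ * e * g⁻¹⁻¹, Finset.mem_filter.2
          ⟨hZconj _ hga.inv_left hgx.inv_left e heZ, ?_⟩, hback g e⟩
        rw [hτconj _ hga.inv_left e (hZI e heZ), heτ, C.phi_inv hga]
        group
    have hzu3 : ∃ M, Zu.card = 3 * M := by
      refine ⟨(Zu.filter fun e => cls a x e = cls a x d).card, ?_⟩
      rw [Finset.card_eq_sum_card_fiberwise (f := cls a x) (s := Zu) (t := Z.image (cls a x))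
        (fun e he => Finset.mem_image_of_mem _ (Finset.mem_filter.1 he).1),
        Finset.sum_congr rfl (g := fun _ => (Zu.filter fun e => cls a x e = cls a x d).card) ?_,
        Finset.sum_const, smul_eq_mul, hthree]
      intro κ hκ
      obtain ⟨d', hd', rfl⟩ := Finset.mem_image.1 hκ
      obtain ⟨g, hga, hgx, hg⟩ := htr d hd d' hd'
      refine (Finset.card_bij (fun e _ => g * e * g⁻¹) (fun e he => ?_)
        (fun i _ j _ e => mul_left_cancel (mul_right_cancel e)) fun e he => ?_).symm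
      · obtain ⟨heu, hek⟩ := Finset.mem_filter.1 he
        exact Finset.mem_filter.2 ⟨hmove g hga hgx e heu, (hclsconj g hga hgx _ _ hek).trans hg⟩
      · obtain ⟨heu, hek⟩ := Finset.mem_filter.1 he
        refine ⟨g⁻¹ * e * g⁻¹⁻¹, Finset.mem_filter.2
          ⟨hmove _ hga.inv_left hgx.inv_left e heu, ?_⟩, hback g e⟩
        have := hclsconj _ hga.inv_left hgx.inv_left _ _ (hek.trans hg.symm)
        rwa [show g⁻¹ * (g * d * g⁻¹) * g⁻¹⁻¹ = d by group] at this
    have htwo : 2 ∣ Nd := by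
      have hae : ∀ e ∈ Z, a * e ∈ Z ∧ τ (a * e) = τ e := by
        intro e he
        obtain ⟨h1, -⟩ := hcls_mem e he (a * e) (Or.inr (Or.inl rfl))
        refine ⟨h1, (hτu e (hZI e he) _ ⟨(hτ _ (hZI _ h1)).1, fun g hga hge => ?_⟩)⟩
        exact (hτ _ (hZI _ h1)).2 g hga (hga.mul_right hge)
      have key := Finset.card_eq_sum_card_image (fun e => ({e, a * e} : Finset G))
        (Z.filter fun e => τ e = τ d)
      rw [Finset.sum_congr rfl (g := fun _ => 2) fun p hp => ?_, Finset.sum_const,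
        smul_eq_mul] at key
      · exact ⟨_, (hNd.trans key).trans (mul_comm _ _)⟩
      obtain ⟨e, he, rfl⟩ := Finset.mem_image.1 hp
      obtain ⟨heZ, heτ⟩ := Finset.mem_filter.1 he
      have hne' : a * e ≠ e := fun q => C.ne_one (mul_eq_right.1 q)
      have haa : a * (a * e) = e := by rw [← mul_assoc, C.sq, one_mul]
      rw [show (Z.filter fun e => τ e = τ d).filter
          (fun e' => ({e', a * e'} : Finset G) = {e, a * e}) = {e, a * e} from ?_,
        Finset.card_pair hne'.symm]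
      ext e'
      simp only [Finset.mem_filter, Finset.mem_insert, Finset.mem_singleton]
      constructor
      · rintro ⟨-, q⟩
        have := q ▸ Finset.mem_insert_self e' {a * e'}
        simpa using this
      · rintro (rfl | rfl)
        · exact ⟨⟨heZ, heτ⟩, rfl⟩
        · exact ⟨⟨(hae e heZ).1, by rw [(hae e heZ).2, heτ]⟩, by rw [haa, Finset.pair_comm]⟩
    have hNpos : 0 < Nd := Finset.card_pos.2 ⟨d, Finset.mem_filter.2 ⟨hd, rfl⟩⟩
    have hLpos : 0 < Or'.card := Finset.card_pos.2 ⟨τ d, (hOrm _).2 ⟨1, one_mem _, by group⟩⟩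
    have hle : Zu.card ≤ 12 := hZcard ▸ Finset.card_filter_le _ _
    obtain ⟨M, hM⟩ := hzu3
    rcases counting (hLN.symm.trans hM) (hLN ▸ hle) htwo hNpos hLpos with q | q | q | q <;>
      exact hbad (by simp [q])
  have hsub : Z ⊆ I.toFinset.filter fun d => τ d = t := fun d hd =>
    Finset.mem_filter.2 ⟨Set.mem_toFinset.2 (hZI d hd), hall d hd⟩
  have := Finset.card_le_card hsub
  omega

end Sys

/-- No conjugate of `z` lies in the extraspecial subgroup of a commuting one. -/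
theorem noJ [Finite G] (S : Sys (U := U) z Ω T J φ) : NoJ Ω J :=
  fun _ _ h hb => S.not_bad (S.bad_of_mem h hb)

end Cfsg.Agent.U62From98
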