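import Cfsg.Agent.Lib.U62From98PairsShape

/-!
The classification of commuting pairs: the fibres, the symmetry of the two shapes and the existence
of a pair over a transvection (helper79).
-/

set_option autoImplicit false
set_option linter.unusedSectionVars false
set_option linter.style.haveILetI false

namespace Cfsg.Agent.U62From98

open Subgroup

universe u v

variable {G : Type u} [Group G] [Finite G] {U : Type v} [Group U]
variable {z : G} {Ω : Set G} {T : Set U} {J : G → Subgroup G} {φ : G → G → U}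

namespace PairB

variable (S : Sys z Ω T J φ) (N : NoJ Ω J) {a b : G} (h : Pair Ω a b)
include S N h

theorem exists_DD (hn : a ∉ Wset J a b) : ∃ d ∈ DD J a b, d ≠ 1 := by
  by_contra hne
  push Not at hne
  have h1 : Nat.card (DD J a b) = 1 := by
    rw [(Subgroup.eq_bot_iff_forall _).2 hne, Subgroup.card_bot]
  rcases shape S N h with ⟨-, -, -, h4, -, -⟩ | ⟨-, -, -, ⟨hm, -⟩ | ⟨-, -, -, h2, -⟩⟩
  · omega
  · exact hn hm
  · omega

theorem mul_notMem (hn : a ∉ Wset J a b) : a * b ∉ Ω := by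
  intro hab
  obtain ⟨d, hd, h1⟩ := exists_DD S N h hn
  obtain ⟨j, hj, e⟩ := DD_aW S N h hn hd h1
  have C := S.ctx a h.1
  have hj' : Commute j a := C.le j hj
  have h2 := S.conj_mem hab j
  have e2 : j * (a * b) * j⁻¹ = b * d := by
    calc j * (a * b) * j⁻¹ = a * (j * b * j⁻¹) := by
          rw [← mul_assoc j a b, hj'.eq]; group
      _ = a * (b * (a * d)) := by rw [e]
      _ = b * d := by
          rw [← mul_assoc b a d, ← h.2.2.2.eq, mul_assoc a b d, aa S h]
  rw [e2] at h2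
  refine N b (b * d) ⟨h.2.1, h2, fun e => h1 (mul_eq_left.1 e.symm), ?_⟩
    ((J b).mul_mem (S.ctx b h.2.1).mem hd.2)
  exact (Commute.refl b).mul_right ((S.ctx b h.2.1).le d hd.2).symm

/-- The partners over the image of `b` are the translates by `Wset`. -/
theorem fibre_mem {y : G} (hy : y ∈ Ω) (hya : Commute y a) (he : φ a y = φ a b) :
    ∃ w ∈ Wset J a b, y = b * w := by
  have C := S.ctx a h.1
  have hy1 : y ≠ a := fun e => S.phi_ne_one N h (by rw [← he, e, C.phi_a])
  have hp : Pair Ω a y := ⟨h.1, hy, hy1.symm, hya.symm⟩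
  have hv : b⁻¹ * y ∈ J a := (C.phi_eq_iff h.2.2.2.symm hya).1 he.symm
  set v := b⁻¹ * y with hv_def
  have hyv : y = b * v := by rw [hv_def, mul_inv_cancel_left]
  have hbvb : b * v * b = v⁻¹ := by
    refine eq_inv_of_mul_eq_one_left ?_
    calc b * v * b * v = (b * v) * (b * v) := by group
      _ = 1 := by rw [← hyv, S.sq hy]
  have hvK : v ∈ KK J a b := by
    refine (mem_KK_iff S h).2 ⟨hv, ?_⟩
    have e : wv b v * v = v⁻¹ := by rw [← conj_b]; exact hbvb
    rcases sq_inv S h hv with e' | e' <;> rw [e'] at e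
    · exact Or.inl (mul_eq_right.1 e)
    · exact Or.inr (mul_right_cancel e)
  by_cases hm : a ∈ Wset J a b
  · obtain ⟨-, hKR, -⟩ := shape_mem S N h hm
    refine ⟨v, ?_, hyv⟩
    rw [W_eq_RR S h hm]
    exact hKR.le hvK
  by_cases hvR : v ∈ RR J a b
  · rcases mem_RR S h hvR with hw | hw
    · exact ⟨v, hw, hyv⟩
    exfalso
    obtain ⟨i, hi, e⟩ := hw
    refine mul_notMem S N h hm ?_
    have hh := S.conj_mem hy i⁻¹
    have hia : Commute i a := C.le i hi
    have e2 : i⁻¹ * y * i⁻¹⁻¹ = a * b := by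
      have e3 : y = a * (i * b * i⁻¹) := by
        rw [e, ← mul_assoc a b, h.2.2.2.eq, mul_assoc b a, aa S h, hyv]
      calc i⁻¹ * y * i⁻¹⁻¹ = i⁻¹ * (a * (i * b * i⁻¹)) * i := by rw [e3, inv_inv]
        _ = i⁻¹ * (a * i) * b := by group
        _ = a * b := by rw [← hia.eq, inv_mul_cancel_left]
    rwa [e2] at hh
  exfalso
  obtain ⟨k, hk, hkv⟩ : ∃ k ∈ KK J a b, ¬ Commute v k := by
    by_contra hne
    push Not at hne
    exact hvR (double S h hv hne)
  have hkJ : k ∈ J a := hk.1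
  have hkb : Commute k b := (mem_CB.1 ((CB_eq_KK S h hm).ge hk)).2
  have hkv' : k * v * k⁻¹ = a * v := by
    rcases C.comm k hkJ v hv with e | e
    · exact absurd (e : Commute k v).symm hkv
    · rw [e]; group
  have haW : a ∈ Wset J a y := by
    refine ⟨k, hkJ, ?_⟩
    calc k * y * k⁻¹ = (k * b * k⁻¹) * (k * v * k⁻¹) := by rw [hyv]; group
      _ = b * (a * v) := by rw [hkb.eq, mul_inv_cancel_right, hkv']
      _ = y * a := by rw [C.a_comm hv, ← mul_assoc, ← hyv]
  have h32 := (shape_mem S N hp haW).1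
  have hle : RR J a y ≤ RR J a b := by
    refine (closure_le _).2 (Set.insert_subset a_mem_RR fun w hw => ?_)
    obtain ⟨j, hj, rfl⟩ := exists_wv S hp hw
    have hbj := bconj_mem S h hj
    have hvi : v⁻¹ * (b * j * b) * v = b * j * b ∨ v⁻¹ * (b * j * b) * v = a * (b * j * b) := by
      rcases C.comm _ ((J a).inv_mem hv) _ hbj with e | e
      · exact Or.inl (by rw [e]; group)
      · exact Or.inr (by rw [e]; group)
    have e1 : wv y j = v⁻¹ * (b * j * b) * v * j⁻¹ := by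
      have hyi : y = v⁻¹ * b := by
        rw [← S.inv_eq hy, hyv, mul_inv_rev, S.inv_eq h.2.1]
      calc wv y j = y * j * y * j⁻¹ := by rw [wv]; group
        _ = v⁻¹ * b * j * (b * v) * j⁻¹ := by nth_rewrite 1 [hyi]; rw [hyv]
        _ = _ := by group
    rw [conj_b] at hvi
    rw [conj_b] at e1
    show wv y j ∈ RR J a b
    rcases hvi with e | e <;> rw [e1, e]
    · rw [mul_inv_cancel_right]; exact W_mem_RR (wv_mem S h hj)
    · rw [← mul_assoc a, mul_inv_cancel_right]
      exact (RR J a b).mul_mem a_mem_RR (W_mem_RR (wv_mem S h hj))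
  have h8 : Nat.card (RR J a b) = 8 := by
    rcases shape S N h with hg | ⟨-, hKR, -⟩
    · exact hg.2.1
    · exact absurd (hKR.le hvK) hvR
  have := Nat.card_le_card_of_injective _ (Subgroup.inclusion_injective hle)
  omega

theorem lift_cent {u : U} (hu : Commute u (φ a b)) :
    ∃ g : G, Commute g a ∧ Commute g b ∧ φ a g = u :=
  S.exists_lift h (fun _ hy hya he => fibre_mem S N h hy hya he) hu

/-- The order of the centralizer of the pair. -/
theorem card_pair :
    Nat.card ↥(centralizer ({a} : Set G) ⊓ centralizer ({b} : Set G)) =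
      Nat.card (CB J a b) * Nat.card (centralizer ({φ a b} : Set U)) := by
  have C := S.ctx a h.1
  set M := centralizer ({a} : Set G) ⊓ centralizer ({b} : Set G) with hM
  have hc : ∀ m ∈ M, Commute m a := fun m hm => mem_centralizer_singleton_iff.1 hm.1
  obtain ⟨E, hE, hcard⟩ := SetupC.card_image S h.1 hc
  have hEeq : E = centralizer ({φ a b} : Set U) := by
    ext p
    rw [hE, mem_centralizer_singleton_iff]
    constructor
    · rintro ⟨m, hm, rfl⟩
      rw [← C.hom _ _ (hc m hm) h.2.2.2.symm, ← C.hom _ _ h.2.2.2.symm (hc m hm),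
        mem_centralizer_singleton_iff.1 hm.2]
    · intro hp
      obtain ⟨g, hga, hgb, rfl⟩ := lift_cent S N h hp
      exact ⟨g, ⟨mem_centralizer_singleton_iff.2 hga.eq,
        mem_centralizer_singleton_iff.2 hgb.eq⟩, rfl⟩
  have hJ : M ⊓ J a = CB J a b := le_antisymm (fun j hj => ⟨hj.2, hj.1.2⟩)
    fun j hj => ⟨⟨mem_centralizer_singleton_iff.2 (C.le j hj.1).eq, hj.2⟩, hj.1⟩
  rwa [hJ, hEeq] at hcard

/-- In the large shape the image on the other side is not a transvection. -/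
theorem bad_symm_notMem (hB : BadB J φ a b) : φ b a ∉ T := by
  intro hT
  haveI := SetupC.finite_U S.facts
  obtain ⟨-, -, ⟨P, hP, -, hE, hPc⟩, -⟩ := hB
  have Ca := S.ctx a h.1
  have Cb := S.ctx b h.2.1
  have aux : ∀ u : U, Commute u (φ b a) → ∀ p ∈ P, u * p * u⁻¹ ∈ P := by
    intro u hu p hp
    obtain ⟨j, hj, rfl⟩ := (hP p).1 hp
    obtain ⟨g, hgb, hga, rfl⟩ := lift_cent S N (S.pair_symm h) hu
    refine (hP _).2 ⟨g * j * g⁻¹, mem_CB.2 ⟨Ca.normal g hga j hj.1, ?_⟩,
      Cb.phi_conj hgb (mem_CB.1 hj).2⟩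
    exact (hgb.mul_left (mem_CB.1 hj).2).mul_left hgb.inv_left
  have hle : centralizer ({φ b a} : Set U) ≤ normalizer (P : Set U) := by
    intro u hu
    have hu' : Commute u (φ b a) := mem_centralizer_singleton_iff.1 hu
    rw [mem_normalizer_iff]
    refine fun p => ⟨aux u hu' p, fun hp => ?_⟩
    have := aux u⁻¹ hu'.inv_left _ hp
    simpa [mul_assoc] using this
  have hd := Subgroup.card_dvd_of_le hle
  rw [S.facts.cent_T _ hT] at hd
  rcases hPc with e | e
  · have := (S.facts.eight P hE e).1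
    have := Nat.le_of_dvd Nat.card_pos hd
    omega
  · rw [(S.facts.sixteen P hE e).1] at hd
    norm_num at hd

theorem card_CB_bad (hB : BadB J φ a b) :
    Nat.card (CB J a b) = 16 ∨ Nat.card (CB J a b) = 32 := by
  rcases hB.2.2.2 with ⟨-, e⟩ | ⟨-, -, e, -⟩
  · exact Or.inl e
  · exact Or.inr e

theorem not_good_bad (hg : GoodB T J φ a b) (hB : BadB J φ b a) : False := by
  have hp := S.pair_symm h
  have htT : φ a b ∉ T := bad_symm_notMem S N hp hB
  have h1 := card_pair S N h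
  have h2 := card_pair S N hp
  rw [inf_comm, h1, hg.2.2.1,
    (S.facts.other _ (S.phi_sq h) (S.phi_ne_one N h) htT).1, S.facts.cent_T _ hg.2.2.2.2.2] at h2
  rcases card_CB_bad S N hp hB with e | e <;> rw [e] at h2 <;> omega

theorem good_of_T (hT : φ a b ∈ T) : GoodB T J φ a b := by
  rcases shape S N h with hg | hB
  · exact hg
  · exfalso
    rcases shape S N (S.pair_symm h) with hg | hB'
    · exact not_good_bad S N (S.pair_symm h) hg hB
    · exact bad_symm_notMem S N (S.pair_symm h) hB' hT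

theorem bad_of_notT (hT : φ a b ∉ T) : BadB J φ a b := by
  rcases shape S N h with hg | hB
  · exfalso
    rcases shape S N (S.pair_symm h) with hg' | hB'
    · exact hT hg'.2.2.2.2.2
    · exact not_good_bad S N h hg hB'
  · exact hB

theorem goodFacts (hT : φ a b ∈ T) : GoodFacts Ω T J φ a b := by
  classical
  obtain ⟨hn, h8, h128, h4, hW4, hs⟩ := good_of_T S N h hT
  have hfin : (Wset J a b).Finite := Set.toFinite _
  have himg : (fun d => a * d) '' ((DD J a b : Set G) \ {1}) = Wset J a b \ {1} := by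
    refine Set.eq_of_subset_of_ncard_le ?_ ?_ hfin.sdiff
    · rintro _ ⟨d, ⟨hd, h1⟩, rfl⟩
      refine ⟨DD_aW S N h hn hd h1, fun e => a_notMem_DD S N h ?_⟩
      rw [Set.mem_singleton_iff] at e
      change a * d = 1 at e
      have : d = a := by rw [← aa S h d, e, mul_one]
      exact this ▸ hd
    · rw [Set.ncard_image_of_injective _ (mul_right_injective a),
        Set.ncard_sdiff_singleton_of_mem (wset_one a b),
        Set.ncard_sdiff_singleton_of_mem (show (1 : G) ∈ (DD J a b : Set G) from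
          (DD J a b).one_mem), hW4, ← Nat.card_coe_set_eq]
      change 4 - 1 ≤ Nat.card (DD J a b) - 1
      omega
  refine
    { symm := hs
      cardC := ?_
      cardD := ?_
      cardW := hW4
      notMem := hn
      inv := fun w hw => ⟨W_sq_one S h hn hw, (bw_sq S h hw).2 (W_sq_one S h hn hw)⟩
      cent := fun w hw j hj hjb =>
        ((CB_le_KK S h (mem_CB.2 ⟨hj, hjb⟩)).2 w (W_mem_RR hw) : Commute w j).symm
      three := ?_
      inter := fun d hda hdb h1 => DD_aW S N h hn ⟨hda, hdb⟩ h1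
      fibre := fun y hy hya he => fibre_mem S N h hy hya he }
  · rw [← h128, ← Nat.card_coe_set_eq]
    exact Nat.card_congr (Equiv.subtypeEquivRight fun j => mem_CB.symm)
  · rw [← h4, ← Nat.card_coe_set_eq]
    exact Nat.card_congr (Equiv.subtypeEquivRight fun j => Iff.rfl)
  · intro w₁ hw₁ w₂ hw₂ w₃ hw₃ n1 n2 n3 n12 n13 n23
    have hd : ∀ w ∈ Wset J a b, w ≠ 1 → a * w ∈ DD J a b ∧ a * w ≠ 1 := by
      intro w hw h1
      have : w ∈ (fun d => a * d) '' ((DD J a b : Set G) \ {1}) := by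
        rw [himg]; exact ⟨hw, h1⟩
      obtain ⟨d, ⟨hd, hd1⟩, rfl⟩ := this
      rw [aa S h]
      exact ⟨hd, hd1⟩
    obtain ⟨d1, e1⟩ := hd w₁ hw₁ n1
    obtain ⟨d2, e2⟩ := hd w₂ hw₂ n2
    have hwJ : w₁ ∈ J a := S.W_sub h hw₁
    have hprod : a * w₁ * (a * w₂) = w₁ * w₂ := by
      rw [← mul_assoc (a * w₁) a w₂, mul_assoc a w₁ a, ← (S.ctx a h.1).a_comm hwJ, aa S h]
    have hne : w₁ * w₂ ≠ 1 := fun e => n12 (by
      rw [← inv_eq_of_mul_eq_one_right e, inv_eq_of_mul_eq_one_right (W_sq_one S h hn hw₁)])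
    have hmem : a * (w₁ * w₂) ∈ Wset J a b := by
      refine DD_aW S N h hn ?_ hne
      rw [← hprod]
      exact (DD J a b).mul_mem d1 d2
    have hm1 : a * (w₁ * w₂) ≠ 1 := by
      intro e
      have : w₁ * w₂ = a := by rw [← aa S h (w₁ * w₂), e, mul_one]
      have hm := (DD J a b).mul_mem d1 d2
      rw [hprod, this] at hm
      exact a_notMem_DD S N h hm
    have hsub : ({w₁, w₂, w₃} : Set G) = Wset J a b \ {1} := by
      refine Set.eq_of_subset_of_ncard_le ?_ ?_ hfin.sdiff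
      · rintro x (rfl | rfl | rfl)
        exacts [⟨hw₁, n1⟩, ⟨hw₂, n2⟩, ⟨hw₃, n3⟩]
      · rw [Set.ncard_sdiff_singleton_of_mem (wset_one a b), hW4,
          Set.ncard_eq_three.2 ⟨w₁, w₂, w₃, n12, n13, n23, rfl⟩]
    have h3 : a * (w₁ * w₂) ∈ ({w₁, w₂, w₃} : Set G) := by
      rw [hsub]; exact ⟨hmem, hm1⟩
    have hrew : ∀ x, a * (w₁ * w₂) = x → a * w₁ * (a * w₂) = a * x := fun x e => by
      rw [hprod, ← e, aa S h]
    rcases h3 with e | e | e
    · exact absurd (mul_eq_left.1 (hrew _ e)) e2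
    · exact absurd (mul_eq_right.1 (hrew _ e)) e1
    · rw [← aa S h (w₁ * w₂), e, mul_assoc, W_sq_one S h hn hw₃, mul_one]

theorem badFacts (hT : φ a b ∉ T) : BadFacts Ω T J φ a b := by
  have hB := bad_of_notT S N h hT
  refine
    { symm := bad_symm_notMem S N h hB
      cardR := hB.1
      le := RR_le S h
      fixed := ?_
      cases := ?_ }
  · intro j hj hcase
    refine hB.2.1.le ((mem_KK_iff S h).2 ⟨hj, ?_⟩)
    rcases hcase with e | e
    · exact Or.inl (by rw [wv, e, S.sq h.2.1])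
    · exact Or.inr (by rw [wv, e, bb S h])
  · rcases hB.2.2.2 with ⟨hm, h16⟩ | ⟨hn, hW, -, -, -⟩
    · refine Or.inl ⟨hm, ?_⟩
      by_contra hne
      push Not at hne
      have hle : RR J a b ≤ CB J a b := fun r hr =>
        mem_CB.2 ⟨RR_le S h hr, (hne r hr).symm⟩
      have := Nat.card_le_card_of_injective _ (Subgroup.inclusion_injective hle)
      rw [hB.1, h16] at this
      omega
    · exact Or.inr ⟨hn, hW, fun y hy hya he => fibre_mem S N h hy hya he⟩

theorem exists_good_pair : ∃ a' b', Pair Ω a' b' ∧ φ a' b' ∈ T := by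
  classical
  by_cases hT : φ a b ∈ T
  · exact ⟨a, b, h, hT⟩
  obtain ⟨-, hKR, ⟨P, hP, hcard, hE, hPc⟩, hcases⟩ := bad_of_notT S N h hT
  have htT : φ b a ∉ T := bad_symm_notMem S N h (bad_of_notT S N h hT)
  have Cb := S.ctx b h.2.1
  have C := S.ctx a h.1
  have fin : ∀ w ∈ Wset J a b, Commute w b → φ b w ∈ T →
      ∃ a' b', Pair Ω a' b' ∧ φ a' b' ∈ T := by
    intro w hw hwb hwT
    have h1 : w ≠ 1 := fun e => S.facts.ne_one _ (by rw [e, Cb.phi_one] at hwT; exact hwT) rfl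
    refine ⟨b, b * w, ⟨h.2.1, (S.pair_mul h hw).2.1, fun e => h1 (mul_eq_left.1 e.symm),
      (Commute.refl b).mul_right hwb.symm⟩, ?_⟩
    rw [Cb.hom _ _ (Commute.refl b) hwb, Cb.phi_a, one_mul]
    exact hwT
  haveI := SetupC.finite_U S.facts
  have hPT : ∃ p ∈ T, p ∈ P := by
    rcases hPc with e | e
    · exact (S.facts.eight P hE e).2
    · obtain ⟨p, hp⟩ := Set.nonempty_of_ncard_ne_zero
        (show {t | t ∈ T ∧ t ∈ P}.ncard ≠ 0 by rw [(S.facts.sixteen P hE e).2.1]; norm_num)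
      exact ⟨p, hp.1, hp.2⟩
  obtain ⟨p, hpT, hpP⟩ := hPT
  rcases hcases with ⟨hm, -⟩ | ⟨hn, -, h32, hD2, hD4⟩
  · obtain ⟨j, hj, rfl⟩ := (hP p).1 hpP
    refine fin j ?_ (mem_CB.1 hj).2 hpT
    rw [W_eq_RR S h hm]
    exact hKR.le (CB_le_KK S h hj)
  by_contra hnone
  have hout : ∀ j ∈ CB J a b, φ b j ∈ T → j ∉ Wset J a b := fun j hj hjT hw =>
    hnone (fin j hw (mem_CB.1 hj).2 hjT)
  have hkey : ∀ d ∈ DD J a b, ∀ k ∈ J a, wv b k = a * d → ∀ j ∈ CB J a b, φ b j ∈ T →
      chi k j = -1 := by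
    intro d hd k hk hkd j hj hjT
    refine coset_chi S N h hn hd hk hkd (hKR.le (CB_le_KK S h hj)) (hout j hj hjT)
      (hout _ ((CB J a b).mul_mem hj (DD_le_CB S h hd)) ?_)
    rwa [Cb.phi_mul_J (mem_CB.1 hj).2 hd.2]
  obtain ⟨d₁, hd₁, e₁⟩ := exists_DD S N h hn
  obtain ⟨k₁, hk₁, hkd₁⟩ := exists_wv S h (DD_aW S N h hn hd₁ e₁)
  by_cases hmore : ∃ d ∈ DD J a b, d ≠ 1 ∧ d ≠ d₁
  · obtain ⟨d₂, hd₂, e₂, e₂'⟩ := hmore
    obtain ⟨k₂, hk₂, hkd₂⟩ := exists_wv S h (DD_aW S N h hn hd₂ e₂)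
    have hd12 : d₁ * d₂ ≠ 1 := fun e => e₂' (by
      rw [← inv_eq_of_mul_eq_one_right e]
      refine inv_eq_of_mul_eq_one_right ?_
      rcases C.squares d₁ hd₁.1 with e3 | e3
      · exact e3
      · exact absurd (e3 ▸ (DD J a b).mul_mem hd₁ hd₁) (a_notMem_DD S N h))
    have hp : wv b k₁ * wv b k₂ = d₁ * d₂ := by
      rw [hkd₁, hkd₂, ← mul_assoc (a * d₁) a d₂, mul_assoc a d₁ a, ← C.a_comm hd₁.1, aa S h]
    have hd12m := (DD J a b).mul_mem hd₁ hd₂
    have hk12 := (chi_of_prod S h hk₁ hk₂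
      (fun hw => hd12 (DD_notW S N h hd12m (hp ▸ hw)))).2
    have hk3 : wv b (k₁ * k₂) = a * (d₁ * d₂) := by rw [← hp, hk12, aa S h]
    obtain ⟨j, hj, rfl⟩ := (hP p).1 hpP
    have := chi_mul_left S h hk₁ hk₂ (mem_CB.1 hj).1
    rw [hkey _ hd12m _ ((J a).mul_mem hk₁ hk₂) hk3 j hj hpT, hkey _ hd₁ _ hk₁ hkd₁ j hj hpT,
      hkey _ hd₂ _ hk₂ hkd₂ j hj hpT] at this
    norm_num at this
  · push Not at hmore
    have h2 : Nat.card (DD J a b) ≤ 2 := by
      have hsub : (DD J a b : Set G) ⊆ {1, d₁} := fun d hd => by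
        by_cases h1 : d = 1
        · exact Or.inl h1
        · exact Or.inr (hmore d hd h1)
      have := Set.ncard_le_ncard hsub (Set.toFinite _)
      rw [← Nat.card_coe_set_eq] at this
      exact this.trans ((Set.ncard_insert_le _ _).trans (by rw [Set.ncard_singleton]))
    have hP16 : Nat.card P = 16 := by
      rw [h32] at hcard
      rcases hPc with e | e
      · rw [e] at hcard; omega
      · exact e
    obtain ⟨-, -, pa, hpa, pb, hpb, pc, hpc, pd, hpd, ha', hb', hc', hd', hprod⟩ :=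
      S.facts.sixteen P hE hP16
    obtain ⟨ja, hja, rfl⟩ := (hP _).1 ha'
    obtain ⟨jb, hjb, rfl⟩ := (hP _).1 hb'
    obtain ⟨jc, hjc, rfl⟩ := (hP _).1 hc'
    obtain ⟨jd, hjd, rfl⟩ := (hP _).1 hd'
    have hab := (CB J a b).mul_mem hja hjb
    have habc := (CB J a b).mul_mem hab hjc
    have hall := (CB J a b).mul_mem habc hjd
    have hphi : φ b (ja * jb * jc * jd) = φ b ja * φ b jb * φ b jc * φ b jd := by
      rw [Cb.hom _ _ (mem_CB.1 habc).2 (mem_CB.1 hjd).2,
        Cb.hom _ _ (mem_CB.1 hab).2 (mem_CB.1 hjc).2,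
        Cb.hom _ _ (mem_CB.1 hja).2 (mem_CB.1 hjb).2]
    have e := hkey _ hd₁ _ hk₁ hkd₁ _ hall (by rw [hphi]; exact hprod)
    rw [C.comm_mul hk₁ habc.1 hjd.1, C.comm_mul hk₁ hab.1 hjc.1, C.comm_mul hk₁ hja.1 hjb.1,
      hkey _ hd₁ _ hk₁ hkd₁ _ hja hpa, hkey _ hd₁ _ hk₁ hkd₁ _ hjb hpb,
      hkey _ hd₁ _ hk₁ hkd₁ _ hjc hpc, hkey _ hd₁ _ hk₁ hkd₁ _ hjd hpd] at e
    norm_num at e

end PairB

/-- The classification of commuting pairs. -/
theorem pairFacts (S : Sys z Ω T J φ) (N : NoJ Ω J) : PairFacts Ω T J φ where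
  good _ _ h hT := PairB.goodFacts S N h hT
  bad _ _ h hT := PairB.badFacts S N h hT
  exists_good _ _ h := PairB.exists_good_pair S N h

end Cfsg.Agent.U62From98
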