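import Cfsg.Agent.Lib.U62From98SetupImg

/-!
The local hypotheses of the recognition of `U₆(2)` from the classification of commuting pairs of
conjugates of the involution (helper79).
-/

set_option autoImplicit false
set_option linter.unusedSectionVars false
set_option linter.style.haveILetI false

namespace Cfsg.Agent.U62From98

open Subgroup U62RecogSetup19

universe u v

variable {G : Type u} [Group G] [Finite G] {U : Type v} [Group U]
variable {z : G} {Ω : Set G} {T : Set U} {J : G → Subgroup G} {φ : G → G → U}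

namespace SetupC

variable (S : Sys z Ω T J φ) (N : NoJ Ω J) (P : PairFacts Ω T J φ)
include S N P

theorem xa_pair {x : G} (hx : x ∈ Xa Ω z) : TPair Ω T φ z x :=
  have h : Pair Ω z x := ⟨S.z_mem, hx.1, hx.2.2.symm, hx.2.1.symm⟩
  ⟨h, no_bad S N P h⟩

omit [Finite G] in
theorem pair_xa {x : G} (hx : Pair Ω z x) : x ∈ Xa Ω z :=
  ⟨hx.2.1, hx.2.2.2.symm, hx.2.2.1.symm⟩

theorem xa_wset {x w : G} (hx : x ∈ Xa Ω z) (hw : w ∈ Wset J z x) :
    w ∈ Subgroup.closure (insert z (Xa Ω z)) := by
  have h1 := pair_xa S N P (S.pair_mul (xa_pair S N P hx).1 hw)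
  rw [show w = x * (x * w) by rw [← mul_assoc, S.sq hx.1, one_mul]]
  exact mul_mem (subset_closure (Set.mem_insert_of_mem _ hx))
    (subset_closure (Set.mem_insert_of_mem _ h1))

/-- The centralizer of all partners of `z` in `J z` is its center. -/
theorem cent_all {x₀ j : G} (h₀ : Pair Ω z x₀) (hj : j ∈ J z)
    (hc : ∀ x ∈ Xa Ω z, Commute j x) : j = 1 ∨ j = z := by
  classical
  by_contra hcon
  push Not at hcon
  have C := S.ctx z S.z_mem
  have key : ∀ x ∈ Xa Ω z, ∃ w ∈ Wset J z x, w ≠ 1 ∧ (j = w ∨ j = z * w) := by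
    intro x hx
    have hp := xa_pair S N P hx
    have Cx := S.ctx x hx.1
    have hs := tpair_symm S N P hp
    have hzx : Commute z x := hx.2.1.symm
    have hjx := hc x hx
    have hnb : φ x j = 1 ∨ φ x j = φ x z := by
      refine S.facts.nbr_cent _ hs.2 _ fun b hb hne hcb => ?_
      obtain ⟨y, hy, rfl⟩ := exists_tpair S N P h₀ hx.1 hb
      have hzy := comm_of_images S N P hs hy hcb.symm
      have hyne : y ≠ z := fun e => hne (by rw [e])
      have hjy := hc y ⟨hy.1.2.1, hzy.symm, hyne⟩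
      have hyx : Commute y x := hy.1.2.2.2.symm
      show _ = _
      rw [← Cx.hom _ _ hjx hyx, ← Cx.hom _ _ hyx hjx, hjy.eq]
    have F := good S N P hp
    rcases hnb with e | e
    · have hJx : j ∈ J x := (Cx.ker j hjx).1 e
      refine ⟨z * j, F.inter j hj hJx hcon.1, fun e' => hcon.2 ?_, Or.inr ?_⟩
      · rw [← inv_eq_of_mul_eq_one_right e', C.a_inv]
      · rw [← mul_assoc, C.sq, one_mul]
    · have hJx : z⁻¹ * j ∈ J x := (Cx.phi_eq_iff hzx hjx).1 e.symm
      rw [C.a_inv] at hJx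
      have hne : z * j ≠ 1 := fun e' => hcon.2 (by rw [← inv_eq_of_mul_eq_one_right e', C.a_inv])
      have := F.inter (z * j) ((J z).mul_mem C.mem hj) hJx hne
      rw [← mul_assoc, C.sq, one_mul] at this
      exact ⟨j, this, hcon.1, Or.inl rfl⟩
  have hTf : T.Finite := Set.finite_of_ncard_ne_zero (by rw [S.facts.graph.card]; norm_num)
  obtain ⟨t, ht, t', ht', hne⟩ :=
    (Set.one_lt_ncard hTf).1 (show 1 < T.ncard by rw [S.facts.graph.card]; norm_num)
  obtain ⟨y, hy, rfl⟩ := exists_tpair S N P h₀ S.z_mem ht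
  obtain ⟨y', hy', rfl⟩ := exists_tpair S N P h₀ S.z_mem ht'
  obtain ⟨w, hw, h1, e⟩ := key y (pair_xa S N P hy.1)
  obtain ⟨w', hw', h1', e'⟩ := key y' (pair_xa S N P hy'.1)
  refine not_share S N P hy hy' hne hw h1 hw' h1' ?_
  have hzz : ∀ v : G, z * (z * v) = v := fun v => by rw [← mul_assoc, C.sq, one_mul]
  rcases e with e | e <;> rcases e' with e' | e'
  · exact Or.inl (e.symm.trans e')
  · exact Or.inr (e.symm.trans e')
  · exact Or.inr (by rw [← hzz w, ← e, e'])
  · exact Or.inl (mul_left_cancel (e.symm.trans e'))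

/-- The partners of `z` generate its centralizer with it. -/
theorem gens_eq {x₀ : G} (h₀ : Pair Ω z x₀) :
    Subgroup.closure (insert z (Xa Ω z)) = centralizer ({z} : Set G) := by
  classical
  have C := S.ctx z S.z_mem
  set H := Subgroup.closure (insert z (Xa Ω z)) with hH
  have hzH : z ∈ H := subset_closure (Set.mem_insert _ _)
  have hle : H ≤ centralizer ({z} : Set G) := by
    refine (closure_le _).2 ?_
    rintro x (rfl | hx)
    · exact mem_centralizer_singleton_iff.2 rfl
    · exact mem_centralizer_singleton_iff.2 hx.2.1.eq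
  refine le_antisymm hle fun g hg => ?_
  have hgz : Commute g z := mem_centralizer_singleton_iff.1 hg
  have himg : (H.subgroupOf (centralizer ({z} : Set G))).map C.phiHom = ⊤ := by
    rw [eq_top_iff, ← S.facts.gen, Subgroup.closure_le]
    intro t ht
    obtain ⟨y, hy, rfl⟩ := exists_tpair S N P h₀ S.z_mem ht
    exact ⟨⟨y, mem_centralizer_singleton_iff.2 hy.1.2.2.2.eq.symm⟩,
      subset_closure (Set.mem_insert_of_mem _ (pair_xa S N P hy.1)), rfl⟩
  obtain ⟨h, hh, hφ⟩ :
      φ z g ∈ (H.subgroupOf (centralizer ({z} : Set G))).map C.phiHom := by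
    rw [himg]; trivial
  have hhz : Commute (h : G) z := mem_centralizer_singleton_iff.1 h.2
  have hJ : J z ≤ H := by
    set A := H ⊓ J z with hA
    have hd := C.dual (A := A) inf_le_right ⟨hzH, C.mem⟩
    have hsub : {j | j ∈ J z ∧ ∀ y ∈ A, Commute j y} ⊆ ({1, z} : Set G) := by
      rintro j ⟨hj, hjA⟩
      refine cent_all S N P h₀ hj fun x hx => ?_
      refine (cent_iff S N P (xa_pair S N P hx) hj).2 fun w hw => hjA w ?_
      exact ⟨xa_wset S N P hx hw, S.W_sub (xa_pair S N P hx).1 hw⟩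
    have h2 := Set.ncard_le_ncard hsub (Set.toFinite _)
    rw [Set.ncard_pair C.ne_one.symm] at h2
    have h512 : 512 ≤ Nat.card A := by nlinarith
    have : A = J z := Subgroup.eq_of_le_of_card_ge inf_le_right (by rw [C.card]; exact h512)
    rw [← this]
    exact inf_le_left
  have hk : (h : G)⁻¹ * g ∈ J z := (C.phi_eq_iff hhz hgz).1 hφ
  have := mul_mem (show (h : G) ∈ H from hh) (hJ hk)
  rwa [mul_inv_cancel_left] at this

end SetupC

open SetupC in
/-- The local hypotheses of the recognition theorem. -/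
theorem setup (S : Sys z Ω T J φ) (N : NoJ Ω J) (P : PairFacts Ω T J φ) {x : G}
    (hx : Pair Ω z x) : U62RecogSetup19.Setup Ω z T (φ z) := by
  classical
  haveI := finite_U S.facts
  haveI : Fintype U := Fintype.ofFinite U
  haveI : Fintype G := Fintype.ofFinite G
  have C := S.ctx z S.z_mem
  have hfib : ∀ t ∈ T, {y | y ∈ Xa Ω z ∧ φ z y = t}.ncard = 4 := by
    intro t ht
    obtain ⟨y, hy, rfl⟩ := exists_tpair S N P hx S.z_mem ht
    rw [← tfibre_card S N P hy]
    congr 1
    ext w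
    exact ⟨fun ⟨hw, e⟩ => ⟨(xa_pair S N P hw).1, e⟩, fun ⟨hw, e⟩ => ⟨pair_xa S N P hw, e⟩⟩
  refine
    { class_eq := S.class_eq
      zz := C.sq
      ne_one := C.ne_one
      card_H := C.card_centralizer S.facts
      graph := S.facts.graph
      hom := C.hom
      card_X := ?_
      img := fun y hy => (xa_pair S N P hy).2
      fibre := hfib
      comm := fun a ha b hb => ⟨fun h => ?_, fun h =>
        comm_of_images S N P (xa_pair S N P ha) (xa_pair S N P hb) h⟩
      four := ?_
      sepQ := ?_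
      transX := ?_
      gens := gens_eq S N P hx
      ker_two := fun g hg h1 => ⟨2, ?_⟩ }
  · set Xs : Finset G := Finset.univ.filter (· ∈ Xa Ω z) with hXs
    set Ts : Finset U := Finset.univ.filter (· ∈ T) with hTs
    have hTc : Ts.card = 45 := by
      rw [← S.facts.graph.card, ← Set.ncard_coe_finset]; congr 1; ext t; simp [hTs]
    have hmap : ∀ y ∈ Xs, φ z y ∈ Ts := fun y hy => by
      simpa [hTs] using (xa_pair S N P (Finset.mem_filter.1 hy).2).2
    have hf : ∀ t ∈ Ts, (Xs.filter fun y => φ z y = t).card = 4 := by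
      intro t ht
      rw [← hfib t (Finset.mem_filter.1 ht).2, ← Set.ncard_coe_finset]
      congr 1
      ext y
      simp [hXs]
    have hc : Xs.card = 180 := by
      rw [Finset.card_eq_sum_card_fiberwise (f := φ z) hmap, Finset.sum_congr rfl hf,
        Finset.sum_const, smul_eq_mul, hTc]
    rw [← hc, ← Set.ncard_coe_finset]
    congr 1
    ext y
    simp [hXs]
  · show _ = _
    rw [← C.hom _ _ ha.2.1 hb.2.1, ← C.hom _ _ hb.2.1 ha.2.1, h.eq]
  · intro x₁ h₁ x₂ h₂ x₃ h₃ x₄ h₄ n12 n13 n14 n23 n24 n34 e12 e13 e14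
    have p₁ := xa_pair S N P h₁
    obtain ⟨a, ha, rfl⟩ := fibre_eq S N P p₁ (xa_pair S N P h₂).1 e12.symm
    obtain ⟨b, hb, rfl⟩ := fibre_eq S N P p₁ (xa_pair S N P h₃).1 e13.symm
    obtain ⟨c, hc, rfl⟩ := fibre_eq S N P p₁ (xa_pair S N P h₄).1 e14.symm
    have F := good S N P p₁
    have hne1 : ∀ w : G, x₁ ≠ x₁ * w → w ≠ 1 := fun w h e => h (by rw [e, mul_one])
    have h3 := F.three a ha b hb c hc (hne1 a n12) (hne1 b n13) (hne1 c n14)
      (fun e => n23 (by rw [e])) (fun e => n24 (by rw [e])) (fun e => n34 (by rw [e]))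
    rw [← h3]
    calc x₁ * (x₁ * a) * (x₁ * b) * (x₁ * c) = x₁ * x₁ * a * (x₁ * b) * x₁ * c := by group
      _ = a * (b * x₁) * x₁ * c := by rw [S.sq h₁.1, one_mul, (F.inv b hb).2.eq]
      _ = a * b * (x₁ * x₁) * c := by group
      _ = a * b * c := by rw [S.sq h₁.1, mul_one]
  · intro a ha b hb a' ha' b' hb' e e' n n' he
    obtain ⟨w, hw, rfl⟩ := fibre_eq S N P (xa_pair S N P ha) (xa_pair S N P hb).1 e.symm
    obtain ⟨w', hw', rfl⟩ := fibre_eq S N P (xa_pair S N P ha') (xa_pair S N P hb').1 e'.symm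
    rw [← mul_assoc, ← mul_assoc, S.sq ha.1, S.sq ha'.1, one_mul, one_mul] at he
    by_contra hne
    exact not_share S N P (xa_pair S N P ha) (xa_pair S N P ha') hne hw
      (fun h => n (by rw [h, mul_one])) hw' (fun h => n' (by rw [h, mul_one])) he
  · intro a ha b hb
    have pa := xa_pair S N P ha
    have pb := xa_pair S N P hb
    obtain ⟨u, hu⟩ := S.facts.trans _ pa.2 _ pb.2
    obtain ⟨h, hh, rfl⟩ := C.surj u
    have h' := S.pair_move pa.1 hh
    obtain ⟨w, ⟨j, hj, ej⟩, ew⟩ := fibre_eq S N P pb h' (by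
      rw [C.phi_conj hh ha.2.1, hu])
    refine ⟨j⁻¹ * h, (C.le j hj).inv_left.mul_left hh, ?_⟩
    calc j⁻¹ * h * a * (j⁻¹ * h)⁻¹ = j⁻¹ * (h * a * h⁻¹) * j := by group
      _ = b := by rw [ew, ← ej]; group
  · have hgJ : g ∈ J z := (C.ker g hg).1 h1
    have h4 : g ^ 2 ^ 2 = g * g * (g * g) := by
      rw [show (2 : ℕ) ^ 2 = 2 + 2 by norm_num, pow_add, pow_two]
    rw [h4]
    rcases C.squares g hgJ with e | e <;> rw [e]
    · exact one_mul 1
    · exact C.sq

end Cfsg.Agent.U62From98
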