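import Cfsg.Prelude.Def_CaseTheorems
import Cfsg.Prelude.Def_Transfer
import Cfsg.Prelude.Def_TwoFusion
import Cfsg.Agent.S1181
import Cfsg.Agent.Lib.ZStarTheorem
import Cfsg.Agent.Lib.PGroupsBasic
import Cfsg.Agent.Lib.U62From98Basic

/-!
From the stated hypotheses on the centralizer of `z` to the local system at all its conjugates, and
the case of an isolated involution (helper98).
-/

set_option autoImplicit false
set_option linter.unusedSectionVars false
set_option linter.style.haveILetI false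

namespace Cfsg.Agent.U62From98

open scoped commutatorElement

universe u v

variable {G : Type u} [Group G]

/-- An isolated involution gives `C(z) O(G) = G`. -/
theorem top_of_isolated [Finite G] {z : G} (hz : orderOf z = 2)
    (hiso : ∀ g : G, Commute z (g * z * g⁻¹) → g * z * g⁻¹ = z) :
    Subgroup.centralizer ({z} : Set G) ⊔ Cfsg.oddCore G = ⊤ := by
  have hi : Cfsg.IsIsolatedInvolution z := ⟨hz, hiso⟩
  haveI hON : (Cfsg.pPrimeCore 2 G).Normal := HallCore.pPrimeCore_normal 2 G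
  have hcen := (S1181.result z hi (Cfsg.pPrimeCore 2 G) (ZStarTheorem.notMem_pPrimeCore hz)).1
  rw [eq_top_iff]
  intro g _
  have hgq : (QuotientGroup.mk g : G ⧸ Cfsg.pPrimeCore 2 G) ∈
      Subgroup.centralizer ({(QuotientGroup.mk z : G ⧸ Cfsg.pPrimeCore 2 G)} :
        Set (G ⧸ Cfsg.pPrimeCore 2 G)) := by
    rw [Subgroup.mem_centralizer_singleton_iff]
    have h5 := ZStarTheorem.commutator_mem hi g
    rw [← QuotientGroup.eq_one_iff] at h5
    simp only [QuotientGroup.mk_mul, QuotientGroup.mk_inv] at h5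
    exact (mul_inv_eq_iff_eq_mul.1 (mul_inv_eq_one.1 h5)).symm
  rw [hcen] at hgq
  obtain ⟨c, hc', hcg⟩ := hgq
  have h6 : c⁻¹ * g ∈ Cfsg.pPrimeCore 2 G := QuotientGroup.eq.1 hcg
  rw [show g = c * (c⁻¹ * g) by group]
  exact mul_mem (Subgroup.mem_sup_left hc') (Subgroup.mem_sup_right h6)

variable {U : Type v} [Group U]

/-- Elements acting trivially on the quotient of the normal subgroup by its centre lie in it. -/
theorem faithful_aux {H : Type u} [Group H] {Q : Subgroup H} [hQn : Q.Normal]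
    (hCJ : Subgroup.centralizer (Q : Set H) ≤ Q) (zc : H) (hzQ : zc ∈ Q)
    (hzc : ∀ h : H, Commute h zc) (hz2 : zc * zc = 1)
    (hder : ∀ x ∈ Q, ∀ y ∈ Q, x * y = y * x ∨ x * y = zc * (y * x))
    (e : H ⧸ Q ≃* U) (hsimp : IsSimpleGroup U) (hUc : Nat.card U = 25920) (h : H)
    (hh : ∀ q ∈ Q, h * q * h⁻¹ = q ∨ h * q * h⁻¹ = zc * q) : h ∈ Q := by
  have hzinv : zc⁻¹ = zc := inv_eq_of_mul_eq_one_right hz2
  let N : Subgroup H :=
    { carrier := {g | ∀ q ∈ Q, g * q * g⁻¹ = q ∨ g * q * g⁻¹ = zc * q}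
      one_mem' := fun q _ => Or.inl (by group)
      mul_mem' := fun {a b} ha hb q hq => by
        rw [show a * b * q * (a * b)⁻¹ = a * (b * q * b⁻¹) * a⁻¹ by group]
        rcases hb q hq with e' | e' <;> rw [e']
        · exact ha q hq
        · rw [show a * (zc * q) * a⁻¹ = zc * (a * q * a⁻¹) by
            rw [← mul_assoc a, (hzc a).eq]; group]
          rcases ha q hq with e'' | e'' <;> rw [e'']
          · exact Or.inr rfl
          · rw [← mul_assoc, hz2, one_mul]; exact Or.inl rfl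
      inv_mem' := fun {a} ha q hq => by
        have hq' : a⁻¹ * q * a⁻¹⁻¹ ∈ Q := hQn.conj_mem q hq a⁻¹
        have h1 : a * (a⁻¹ * q * a⁻¹⁻¹) * a⁻¹ = q := by group
        rcases ha _ hq' with e' | e'
        · exact Or.inl (e'.symm.trans h1)
        · refine Or.inr ?_
          rw [h1] at e'
          rw [eq_inv_mul_iff_mul_eq.2 e'.symm, hzinv] }
  haveI hNn : N.Normal := ⟨fun n hn g q hq => by
    have hq' : g⁻¹ * q * g⁻¹⁻¹ ∈ Q := hQn.conj_mem q hq g⁻¹
    rw [show g * n * g⁻¹ * q * (g * n * g⁻¹)⁻¹ = g * (n * (g⁻¹ * q * g⁻¹⁻¹) * n⁻¹) * g⁻¹ by group]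
    rcases hn _ hq' with e' | e' <;> rw [e']
    · exact Or.inl (by group)
    · refine Or.inr ?_
      rw [← mul_assoc g zc, (hzc g).eq]; group⟩
  let f : H →* U := e.toMonoidHom.comp (QuotientGroup.mk' Q)
  have hf : Function.Surjective f := e.surjective.comp (QuotientGroup.mk'_surjective Q)
  have hfk : ∀ g, f g = 1 ↔ g ∈ Q := fun g => by
    show e (QuotientGroup.mk' Q g) = 1 ↔ g ∈ Q
    rw [EmbeddingLike.map_eq_one_iff]
    exact QuotientGroup.eq_one_iff g
  have hhN : h ∈ N := hh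
  rcases hsimp.eq_bot_or_eq_top_of_normal _ (hNn.map f hf) with hb | ht
  · exact (hfk h).1 (Subgroup.mem_bot.1 (hb ▸ ⟨h, hhN, rfl⟩))
  · exfalso
    have hQN : Q ≤ N := fun x hx q hq => by
      rcases hder x hx q hq with e' | e' <;> rw [e']
      · exact Or.inl (by group)
      · exact Or.inr (by group)
    have hall : ∀ g, g ∈ N := fun g => by
      obtain ⟨n, hn, hne⟩ : f g ∈ N.map f := ht ▸ Subgroup.mem_top _
      have : n⁻¹ * g ∈ Q := (hfk _).1 (by rw [map_mul, map_inv, hne, inv_mul_cancel])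
      simpa using N.mul_mem hn (hQN this)
    have hsqQ : ∀ g, g * g ∈ Q := fun g => hCJ (Subgroup.mem_centralizer_iff.2 fun q hq => by
      have e0 : g * g * q * (g * g)⁻¹ = q := by
        rw [show g * g * q * (g * g)⁻¹ = g * (g * q * g⁻¹) * g⁻¹ by group]
        rcases hall g q hq with e' | e'
        · rw [e', e']
        · rw [e', ← mul_assoc g zc, (hzc g).eq,
            show zc * g * q * g⁻¹ = zc * (g * q * g⁻¹) by group, e', ← mul_assoc, hz2, one_mul]
      exact (mul_inv_eq_iff_eq_mul.1 e0).symm)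
    have hu : ∀ u : U, u * u = 1 := fun u => by
      obtain ⟨g, rfl⟩ := hf u
      rw [← map_mul]; exact (hfk _).2 (hsqQ g)
    have hcomm : ∀ u v : U, Commute u v := fun u v => by
      have hi : ∀ w : U, w⁻¹ = w := fun w => inv_eq_of_mul_eq_one_right (hu w)
      show u * v = v * u
      rw [← hi (u * v), mul_inv_rev, hi, hi]
    haveI : Finite U := Nat.finite_of_card_ne_zero (by rw [hUc]; norm_num)
    haveI := hsimp
    obtain ⟨u, hu1⟩ := exists_ne (1 : U)
    have hn : (Subgroup.zpowers u).Normal := ⟨fun n hn g => by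
      rwa [(hcomm g n).eq, mul_inv_cancel_right]⟩
    have htop := hn.eq_bot_or_eq_top.resolve_left (fun e' => hu1 (Subgroup.zpowers_eq_bot.1 e'))
    have h2 : orderOf u ≤ 2 := orderOf_le_of_pow_eq_one two_pos (by rw [pow_two]; exact hu u)
    rw [← Nat.card_zpowers, htop, Subgroup.card_top, hUc] at h2
    omega

/-- The base point from the hypotheses. -/
theorem exists_ctx [Finite G] (z : G) (hz : orderOf z = 2)
    (hJ : Cfsg.IsExtraspecial 2 ↥(Cfsg.pCore 2 ↥(Subgroup.centralizer ({z} : Set G))))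
    (hJc : Nat.card ↥(Cfsg.pCore 2 ↥(Subgroup.centralizer ({z} : Set G))) = 2 ^ 9)
    (hCJ : Subgroup.centralizer ((Cfsg.pCore 2 ↥(Subgroup.centralizer ({z} : Set G))) :
        Set ↥(Subgroup.centralizer ({z} : Set G))) ≤
      Cfsg.pCore 2 ↥(Subgroup.centralizer ({z} : Set G)))
    [hJn : (Cfsg.pCore 2 ↥(Subgroup.centralizer ({z} : Set G))).Normal]
    (e : (↥(Subgroup.centralizer ({z} : Set G)) ⧸ Cfsg.pCore 2 ↥(Subgroup.centralizer ({z} : Set G)))
      ≃* U) (hsimp : IsSimpleGroup U) (hUc : Nat.card U = 25920) :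
    ∃ (J : Subgroup G) (φ : G → U), Ctx z J φ := by
  classical
  set H := Subgroup.centralizer ({z} : Set G) with hH
  set Q := Cfsg.pCore 2 ↥H with hQ
  have hmem : ∀ g, g ∈ H ↔ Commute g z := fun g => Subgroup.mem_centralizer_singleton_iff
  set zc : ↥H := ⟨z, (hmem z).2 (Commute.refl z)⟩ with hzc
  have hz2 : z * z = 1 := by rw [← pow_two, ← hz]; exact pow_orderOf_eq_one z
  have hz1 : z ≠ 1 := fun h => by rw [h, orderOf_one] at hz; norm_num at hz
  have hzcC : ∀ h : ↥H, Commute h zc := fun h => Subtype.ext ((hmem _).1 h.2).eq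
  have hzQ : zc ∈ Q := hCJ (Subgroup.mem_centralizer_iff.2 fun h _ => (hzcC h).eq)
  have hcard : Nat.card (Subgroup.center ↥Q) = 2 := hJ.2
  set zq : ↥Q := ⟨zc, hzQ⟩ with hzq
  have hzcen : zq ∈ Subgroup.center ↥Q :=
    Subgroup.mem_center_iff.2 fun g => Subtype.ext (hzcC g.1).eq
  have hcen : ∀ w ∈ Subgroup.center ↥Q, w = 1 ∨ w = zq := by
    intro w hw
    have h1 : ((Subgroup.center ↥Q : Set ↥Q)) = {1, zq} := by
      refine (Set.eq_of_subset_of_ncard_le ?_ ?_).symm
      · rintro x (rfl | rfl)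
        exacts [one_mem _, hzcen]
      · rw [Set.ncard_pair (fun e' => hz1 (congrArg (fun q : ↥Q => ((q : ↥H) : G)) e').symm),
          ← Nat.card_coe_set_eq]
        exact hcard.le
    have : w ∈ ({1, zq} : Set ↥Q) := h1 ▸ hw
    simpa using this
  set J : Subgroup G := Q.map H.subtype with hJdef
  have hJmem : ∀ {g : G}, g ∈ J ↔ ∃ hg : g ∈ H, (⟨g, hg⟩ : ↥H) ∈ Q := by
    intro g
    constructor
    · rintro ⟨q, hq, rfl⟩; exact ⟨q.2, hq⟩
    · rintro ⟨hg, h⟩; exact ⟨⟨g, hg⟩, h, rfl⟩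
  have hsp := hJ.1
  have hder : ∀ x y : ↥Q, x * y = y * x ∨ x * y = zq * (y * x) := by
    intro x y
    have hc : ⁅x, y⁆ ∈ Subgroup.center ↥Q := by
      rw [← hsp.2.2]
      exact Subgroup.commutator_mem_commutator (Subgroup.mem_top _) (Subgroup.mem_top _)
    rcases hcen _ hc with h | h
    · exact Or.inl (commutatorElement_eq_one_iff_mul_comm.1 h)
    · refine Or.inr ?_
      rw [← h, commutatorElement_def]; group
  have hsq : ∀ x : ↥Q, x * x = 1 ∨ x * x = zq := by
    intro x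
    refine hcen _ ?_
    rw [← hsp.2.1]
    have := PGroupsBasic.pow_mem_frattini (p := 2) hsp.1 x
    rwa [pow_two] at this
  let φ : G → U := fun g => if hg : g ∈ H then e (QuotientGroup.mk' Q ⟨g, hg⟩) else 1
  have hφ : ∀ {g : G} (hg : g ∈ H), φ g = e (QuotientGroup.mk' Q ⟨g, hg⟩) := fun hg => dif_pos hg
  refine ⟨J, φ,
    { sq := hz2
      ne_one := hz1
      mem := hJmem.2 ⟨(hmem z).2 (Commute.refl z), hzQ⟩
      le := fun j hj => (hmem j).1 (hJmem.1 hj).1
      normal := ?_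
      card := ?_
      comm := ?_
      squares := ?_
      center := ?_
      faithful := ?_
      hom := ?_
      ker := ?_
      surj := ?_ }⟩
  · intro h hh j hj
    obtain ⟨hg, hq⟩ := hJmem.1 hj
    exact ⟨_, hJn.conj_mem _ hq ⟨h, (hmem h).2 hh⟩, rfl⟩
  · rw [← Nat.card_congr (Q.equivMapOfInjective H.subtype H.subtype_injective).toEquiv, hJc]
    norm_num
  · intro x hx y hy
    obtain ⟨hx', hxq⟩ := hJmem.1 hx
    obtain ⟨hy', hyq⟩ := hJmem.1 hy
    rcases hder ⟨_, hxq⟩ ⟨_, hyq⟩ with h | h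
    · exact Or.inl (congrArg (fun q : ↥Q => ((q : ↥H) : G)) h)
    · exact Or.inr (congrArg (fun q : ↥Q => ((q : ↥H) : G)) h)
  · intro x hx
    obtain ⟨hx', hxq⟩ := hJmem.1 hx
    rcases hsq ⟨_, hxq⟩ with h | h
    · exact Or.inl (congrArg (fun q : ↥Q => ((q : ↥H) : G)) h)
    · exact Or.inr (congrArg (fun q : ↥Q => ((q : ↥H) : G)) h)
  · intro x hx hc
    obtain ⟨hx', hxq⟩ := hJmem.1 hx
    rcases hcen (⟨_, hxq⟩ : ↥Q) (Subgroup.mem_center_iff.2 fun q =>
      Subtype.ext (Subtype.ext (hc _ ⟨q.1, q.2, rfl⟩).eq.symm)) with h | h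
    · exact Or.inl (congrArg (fun q : ↥Q => ((q : ↥H) : G)) h)
    · exact Or.inr (congrArg (fun q : ↥Q => ((q : ↥H) : G)) h)
  · intro h hh hfix
    refine hJmem.2 ⟨(hmem h).2 hh, ?_⟩
    have hfix' : ∀ q ∈ Q, (⟨h, (hmem h).2 hh⟩ : ↥H) * q * (⟨h, (hmem h).2 hh⟩ : ↥H)⁻¹ = q ∨
        (⟨h, (hmem h).2 hh⟩ : ↥H) * q * (⟨h, (hmem h).2 hh⟩ : ↥H)⁻¹ = zc * q := fun q hq =>
      (hfix (q : G) ⟨q, hq, rfl⟩).imp (fun e' => Subtype.ext e') fun e' => Subtype.ext e'
    exact faithful_aux hCJ zc hzQ hzcC (Subtype.ext hz2) (fun x hx y hy => by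
      rcases hder ⟨x, hx⟩ ⟨y, hy⟩ with e' | e'
      · exact Or.inl (congrArg Subtype.val e')
      · exact Or.inr (congrArg Subtype.val e')) e hsimp hUc _ hfix'
  · intro g h hg hh
    rw [hφ ((hmem g).2 hg), hφ ((hmem h).2 hh), hφ ((hmem _).2 (hg.mul_left hh)), ← map_mul,
      ← map_mul]
    rfl
  · intro g hg
    rw [hφ ((hmem g).2 hg), EmbeddingLike.map_eq_one_iff]
    exact (QuotientGroup.eq_one_iff _).trans ⟨fun h => hJmem.2 ⟨_, h⟩, fun h => (hJmem.1 h).2⟩
  · intro u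
    obtain ⟨q, hq⟩ := QuotientGroup.mk'_surjective Q (e.symm u)
    exact ⟨q.1, (hmem _).1 q.2, by rw [hφ q.2]; simp [hq]⟩

/-- Transport of the base point to all conjugates. -/
theorem exists_sys {z : G} {J₀ : Subgroup G} {φ₀ : G → U} (C : Ctx z J₀ φ₀) {T : Set U}
    (F : UFacts T) : ∃ (J : G → Subgroup G) (φ : G → G → U),
      Sys z {d | ∃ g : G, g * z * g⁻¹ = d} T J φ := by
  classical
  let cc : G → G := fun a => if h : ∃ g, g * z * g⁻¹ = a then h.choose else 1
  have hcc : ∀ {a}, (∃ g, g * z * g⁻¹ = a) → cc a * z * (cc a)⁻¹ = a := fun {a} h => by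
    simp only [cc, dif_pos h]; exact h.choose_spec
  let J : G → Subgroup G := fun a => J₀.comap (MulAut.conj (cc a)⁻¹).toMonoidHom
  let φ : G → G → U := fun a y => φ₀ ((cc a)⁻¹ * y * cc a)
  have hJ : ∀ a v, v ∈ J a ↔ (cc a)⁻¹ * v * cc a ∈ J₀ := fun a v => by
    simp [J, Subgroup.mem_comap]
  refine ⟨J, φ, { class_eq := rfl, ctx := ?_, J_conj := ?_, T_conj := ?_, facts := F }⟩
  · rintro a ha
    have hca := hcc ha
    set c := cc a with hc
    have hi : ∀ v, c⁻¹ * (c * v * c⁻¹) * c = v := fun v => by group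
    have hcm : ∀ {y}, Commute y a → Commute (c⁻¹ * y * c) z := fun {y} h => by
      have h1 := U62RecogSetup19.commute_cj c⁻¹ h
      rw [← hca, inv_inv, hi] at h1
      exact h1
    have hmul : ∀ x y, c⁻¹ * (x * y) * c = c⁻¹ * x * c * (c⁻¹ * y * c) := fun x y => by group
    have hinj : ∀ x y, c⁻¹ * x * c = c⁻¹ * y * c → x = y := fun x y e =>
      mul_left_cancel (mul_right_cancel e)
    have hca' : c⁻¹ * a * c = z := by rw [← hca]; group
    refine
      { sq := ?_
        ne_one := ?_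
        mem := (hJ a a).2 (by rw [hca']; exact C.mem)
        le := fun j hj => ?_
        normal := fun h hh j hj => (hJ a _).2 ?_
        card := ?_
        comm := fun x hx y hy => ?_
        squares := fun x hx => ?_
        center := fun x hx hxc => ?_
        faithful := fun h hh hfix => (hJ a h).2 (C.faithful _ (hcm hh) fun j hj => ?_)
        hom := fun g h hg hh => ?_
        ker := fun g hg => (C.ker _ (hcm hg)).trans (hJ a g).symm
        surj := fun u => ?_ }
    · rw [← hca, show c * z * c⁻¹ * (c * z * c⁻¹) = c * (z * z) * c⁻¹ by group, C.sq]; group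
    · rw [← hca, Ne, conj_eq_one_iff]; exact C.ne_one
    · rw [← hca]
      have h1 := U62RecogSetup19.commute_cj c (C.le _ ((hJ a j).1 hj))
      rwa [show c * (c⁻¹ * j * c) * c⁻¹ = j by group] at h1
    · rw [show c⁻¹ * (h * j * h⁻¹) * c = c⁻¹ * h * c * (c⁻¹ * j * c) * (c⁻¹ * h * c)⁻¹ by group]
      exact C.normal _ (hcm hh) _ ((hJ a j).1 hj)
    · rw [← C.card]
      exact Nat.card_congr ⟨fun v => ⟨c⁻¹ * (v : G) * c, (hJ a _).1 v.2⟩,
        fun v => ⟨c * (v : G) * c⁻¹, (hJ a _).2 (by rw [hi]; exact v.2)⟩,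
        fun v => Subtype.ext (by group), fun v => Subtype.ext (hi v)⟩
    · rcases C.comm _ ((hJ a x).1 hx) _ ((hJ a y).1 hy) with e | e
      · exact Or.inl (hinj _ _ (by rw [hmul, hmul, e]))
      · exact Or.inr (hinj _ _ (by rw [hmul, e, hmul, hmul, hca']))
    · rcases C.squares _ ((hJ a x).1 hx) with e | e
      · exact Or.inl (hinj _ _ (by rw [hmul, e]; group))
      · exact Or.inr (hinj _ _ (by rw [hmul, e, hca']))
    · have hcen : ∀ y ∈ J₀, Commute (c⁻¹ * x * c) y := fun y hy => by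
        have h1 := U62RecogSetup19.commute_cj c⁻¹ (hxc (c * y * c⁻¹) ((hJ a _).2 (by rwa [hi])))
        rwa [inv_inv, hi] at h1
      rcases C.center _ ((hJ a x).1 hx) hcen with e | e
      · exact Or.inl (hinj _ _ (by rw [e]; group))
      · exact Or.inr (hinj _ _ (by rw [e, hca']))
    · have hjc : c * j * c⁻¹ ∈ J a := (hJ a _).2 (by rwa [hi])
      rcases hfix _ hjc with e | e
      · left
        calc c⁻¹ * h * c * j * (c⁻¹ * h * c)⁻¹ = c⁻¹ * (h * (c * j * c⁻¹) * h⁻¹) * c := by group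
          _ = j := by rw [e, hi]
      · right
        calc c⁻¹ * h * c * j * (c⁻¹ * h * c)⁻¹ = c⁻¹ * (h * (c * j * c⁻¹) * h⁻¹) * c := by group
          _ = z * j := by rw [e, hmul, hca', hi]
    · show φ₀ (c⁻¹ * (g * h) * c) = φ₀ (c⁻¹ * g * c) * φ₀ (c⁻¹ * h * c)
      rw [hmul]; exact C.hom _ _ (hcm hg) (hcm hh)
    · obtain ⟨g, hg, rfl⟩ := C.surj u
      refine ⟨c * g * c⁻¹, ?_, by show φ₀ _ = _; rw [hi]⟩
      rw [← hca]; exact U62RecogSetup19.commute_cj c hg
  all_goals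
    intro a ha g
    have hca := hcc ha
    obtain ⟨k, hk⟩ := ha
    have hcb := hcc (a := g * a * g⁻¹) ⟨g * k, by rw [← hk]; group⟩
    set d := cc (g * a * g⁻¹) with hd
    set c := cc a with hc
    have hh : Commute (d⁻¹ * g * c) z := by
      show d⁻¹ * g * c * z = z * (d⁻¹ * g * c)
      calc d⁻¹ * g * c * z = d⁻¹ * (g * (c * z * c⁻¹) * g⁻¹) * g * c := by group
        _ = z * (d⁻¹ * g * c) := by rw [hca, ← hcb]; group
    have key : ∀ v, d⁻¹ * (g * v * g⁻¹) * d =
        d⁻¹ * g * c * (c⁻¹ * v * c) * (d⁻¹ * g * c)⁻¹ := fun v => by group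
  · intro v hv
    rw [hJ, key]
    exact C.normal _ hh _ ((hJ a v).1 hv)
  · intro y hy hT
    show φ₀ _ ∈ T
    rw [key, C.phi_conj hh ?_]
    · exact F.conj_T _ hT _
    have h1 := U62RecogSetup19.commute_cj c⁻¹ hy
    rw [← hca, show c⁻¹ * (c * z * c⁻¹) * c⁻¹⁻¹ = z by group, inv_inv] at h1
    exact h1

end Cfsg.Agent.U62From98
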