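import Cfsg.Agent.Lib.U62RecogIdent29
import Cfsg.Agent.Lib.U62From98Start
import Cfsg.Agent.Lib.U62From98NoJ
import Cfsg.Agent.Lib.U62From98Pairs
import Cfsg.Agent.Lib.U62From98Setup
import Cfsg.Agent.Lib.U62From98ADefs
import Cfsg.Agent.Lib.StemTransfer86

/-!
The kernel of the sign homomorphism is `U₆(2)` when `z` is not isolated (helper98).
-/

set_option autoImplicit false
set_option linter.unusedSectionVars false
set_option linter.style.haveILetI false

namespace Cfsg.Agent.U62From98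

universe u v w

variable {G : Type u} [Group G] [Finite G] {A : Type v} [Group A]

theorem ident_kernel {z : G} {J : Subgroup G} {φ : G → A} (C : Ctx z J φ) {U : Subgroup A}
    {r σ : A} (AF : AFacts U r σ) (Φ : G →* Multiplicative (ZMod 2))
    (hΦ : ∀ h : G, Commute h z → (Φ h = 1 ↔ φ h ∈ U))
    (hne : ∃ g : G, Commute z (g * z * g⁻¹) ∧ g * z * g⁻¹ ≠ z)
    {K : Type w} [Field K] [Fintype K] (hK : Fintype.card K = 4) :
    Φ.ker.index = 2 ∧ Nonempty (↥Φ.ker ≃* Cfsg.PSU 6 K 2) ∧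
      Subgroup.centralizer (Φ.ker : Set G) = ⊥ := by
  classical
  obtain ⟨x, hx, hxr⟩ := C.surj r
  have hΦx : Φ x ≠ 1 := fun e => AF.r_out (hxr ▸ (hΦ x hx).1 e)
  have hz2 : ∀ m : Multiplicative (ZMod 2), m = 1 ∨ m = Multiplicative.ofAdd 1 := by decide
  have hsurj : Function.Surjective Φ := fun m => by
    rcases hz2 m with rfl | rfl
    · exact ⟨1, map_one Φ⟩
    · exact ⟨x, (hz2 (Φ x)).resolve_left hΦx⟩
  have hidx : Φ.ker.index = 2 := by
    rw [Subgroup.index_ker, MonoidHom.range_eq_top.2 hsurj, Subgroup.card_top,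
      Nat.card_eq_fintype_card]
    rfl
  have hJ : ∀ j ∈ J, j ∈ Φ.ker := fun j hj => (hΦ j (C.le j hj)).2 (by
    rw [(C.ker j (C.le j hj)).2 hj]; exact U.one_mem)
  -- the base point inside the kernel
  set G₀ := Φ.ker with hG₀
  let z₀ : G₀ := ⟨z, hJ z C.mem⟩
  let φ₀ : G₀ → U := fun g => if h : φ (g : G) ∈ U then ⟨φ (g : G), h⟩ else 1
  have hcz : ∀ {g : G₀}, Commute g z₀ → Commute (g : G) z := fun h => congrArg Subtype.val h.eq
  have hφ₀ : ∀ {g : G₀}, Commute g z₀ → ((φ₀ g : U) : A) = φ (g : G) := fun {g} h => by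
    have : φ (g : G) ∈ U := (hΦ _ (hcz h)).1 g.2
    simp only [φ₀, dif_pos this]
  have C₀ : Ctx z₀ (J.subgroupOf G₀) φ₀ :=
    { sq := Subtype.ext C.sq
      ne_one := fun e => C.ne_one (congrArg Subtype.val e)
      mem := C.mem
      le := fun j hj => Subtype.ext (C.le _ hj).eq
      normal := fun h hh j hj => C.normal _ (hcz hh) _ hj
      card := by rw [Nat.card_congr (Subgroup.subgroupOfEquivOfLe hJ).toEquiv, C.card]
      comm := fun p hp q hq => (C.comm _ hp _ hq).imp (fun e => Subtype.ext e) fun e => Subtype.ext e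
      squares := fun p hp => (C.squares _ hp).imp (fun e => Subtype.ext e) fun e => Subtype.ext e
      center := fun p hp hc => (C.center _ hp fun q hq =>
          congrArg Subtype.val (hc ⟨q, hJ q hq⟩ hq).eq).imp (fun e => Subtype.ext e) fun e => Subtype.ext e
      faithful := fun h hh hfix => C.faithful _ (hcz hh) fun q hq =>
        (hfix ⟨q, hJ q hq⟩ hq).imp (congrArg Subtype.val) (congrArg Subtype.val)
      hom := fun g h hg hh => by
        refine Subtype.ext ?_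
        rw [Subgroup.coe_mul, hφ₀ hg, hφ₀ hh, hφ₀ (hg.mul_left hh)]
        exact C.hom _ _ (hcz hg) (hcz hh)
      ker := fun g hg => by
        rw [Subgroup.mem_subgroupOf, ← C.ker _ (hcz hg), ← hφ₀ hg, OneMemClass.coe_eq_one]
      surj := fun u => by
        obtain ⟨g, hg, hgu⟩ := C.surj (u : A)
        have hgk : g ∈ G₀ := (hΦ g hg).2 (by rw [hgu]; exact u.2)
        refine ⟨⟨g, hgk⟩, Subtype.ext hg.eq, Subtype.ext ?_⟩
        rw [hφ₀ (Subtype.ext hg.eq)]
        exact hgu }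
  obtain ⟨T, hT⟩ := AF.inner
  obtain ⟨J', φ', S⟩ := exists_sys C₀ hT
  obtain ⟨g, hgc, hgne⟩ := hne
  obtain ⟨g', hg'⟩ : ∃ g' : G₀, (g' : G) * z * (g' : G)⁻¹ = g * z * g⁻¹ := by
    by_cases hg : g ∈ G₀
    · exact ⟨⟨g, hg⟩, rfl⟩
    · refine ⟨⟨g * x, ?_⟩, ?_⟩
      · rw [hG₀, MonoidHom.mem_ker, map_mul, (hz2 (Φ x)).resolve_left hΦx,
          (hz2 (Φ g)).resolve_left (fun e => hg e)]
        decide
      · show g * x * z * (g * x)⁻¹ = _
        rw [show g * x * z * (g * x)⁻¹ = g * (x * z * x⁻¹) * g⁻¹ by group, hx.eq, mul_inv_cancel_right]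
  have hp : Pair {d | ∃ g : G₀, g * z₀ * g⁻¹ = d} z₀ (g' * z₀ * g'⁻¹) := by
    refine ⟨⟨1, by group⟩, ⟨g', rfl⟩, fun e => hgne ?_, Subtype.ext ?_⟩
    · rw [← hg']; exact (congrArg Subtype.val e).symm
    · show z * ((g' : G) * z * (g' : G)⁻¹) = (g' : G) * z * (g' : G)⁻¹ * z
      rw [hg']; exact hgc.eq
  have N := noJ S
  have hS := setup S N (pairFacts S N) hp
  haveI : Fintype (GaloisField 2 2) := Fintype.ofFinite _
  have h4 : Fintype.card (GaloisField 2 2) = 4 := by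
    rw [← Nat.card_eq_fintype_card, GaloisField.card 2 2 two_ne_zero]; norm_num
  obtain ⟨hsimp, ⟨e6⟩⟩ := U62RecogIdent29.ident hS (GaloisField 2 2) h4
  obtain ⟨f6⟩ := StemTransfer86.exists_psu_equiv (n := 6) (q := 2)
    (FiniteField.ringEquivOfCardEq (K := GaloisField 2 2) (K' := K) (h4.trans hK.symm))
  refine ⟨hidx, ⟨e6.trans f6⟩, ?_⟩
  rw [Subgroup.eq_bot_iff_forall]
  intro c hc
  have hcc : ∀ g ∈ G₀, Commute c g := fun g hg => (Subgroup.mem_centralizer_iff.1 hc g hg).symm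
  have hcJ : c ∈ J := C.faithful c (hcc z z₀.2) fun j hj => Or.inl (by
    rw [(hcc j (hJ j hj)).eq, mul_inv_cancel_right])
  rcases C.center c hcJ (fun j hj => hcc j (hJ j hj)) with rfl | rfl
  · rfl
  exfalso
  have hzc : z₀ ∈ Subgroup.center G₀ :=
    Subgroup.mem_center_iff.2 fun g => Subtype.ext (hcc g g.2).eq.symm
  haveI := hsimp
  have htop := (inferInstance : (Subgroup.center G₀).Normal).eq_bot_or_eq_top.resolve_left
    fun e => C₀.ne_one (Subgroup.mem_bot.1 (e ▸ hzc))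
  have hall : ∀ j ∈ J, j = 1 ∨ j = c := fun j hj => C.center j hj fun k hk => by
    have : (⟨j, hJ j hj⟩ : G₀) ∈ Subgroup.center G₀ := htop ▸ Subgroup.mem_top _
    exact congrArg Subtype.val (Subgroup.mem_center_iff.1 this ⟨k, hJ k hk⟩).symm
  have h2 : (J : Set G).ncard ≤ 2 :=
    (Set.ncard_le_ncard (t := {1, c}) (fun j hj => hall j hj) (Set.toFinite _)).trans
      ((Set.ncard_insert_le _ _).trans (by rw [Set.ncard_singleton]))
  rw [← Nat.card_coe_set_eq] at h2
  have h3 : Nat.card J ≤ 2 := h2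
  rw [C.card] at h3
  omega

end Cfsg.Agent.U62From98
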