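import Cfsg.Agent.Lib.U62From98SetupGroup

/-!
The commutator map of a commuting conjugate on the extraspecial group: the group `RR` over its
values, the subgroup `KK` centralizing it, and the alternating form (helper79).
-/

set_option autoImplicit false
set_option linter.unusedSectionVars false
set_option linter.style.haveILetI false

namespace Cfsg.Agent.U62From98

open Subgroup

universe u v

variable {G : Type u} [Group G] {U : Type v} [Group U]
variable {z : G} {Ω : Set G} {T : Set U} {J : G → Subgroup G} {φ : G → G → U}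

namespace PairB

/-- The commutator of `b` with `j`. -/
def wv (b j : G) : G := b * (j * b * j⁻¹)

/-- The elements of `J a` centralizing `RR`. -/
def KK (J : G → Subgroup G) (a b : G) : Subgroup G :=
  J a ⊓ centralizer ((RR J a b : Subgroup G) : Set G)

/-- The elements of `J a` centralizing `b`. -/
def CB (J : G → Subgroup G) (a b : G) : Subgroup G := J a ⊓ centralizer ({b} : Set G)

theorem mem_CB {a b j : G} : j ∈ CB J a b ↔ j ∈ J a ∧ Commute j b := by
  simp [CB, mem_centralizer_singleton_iff, Commute, SemiconjBy]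

theorem chi_comm (x y : G) : chi x y = chi y x := by
  by_cases h : x * y = y * x
  · rw [chi_pos h, chi_pos h.symm]
  · rw [chi_neg h, chi_neg fun e => h e.symm]

theorem chi_cases (x y : G) : chi x y = 1 ∨ chi x y = -1 := by
  by_cases h : x * y = y * x
  · exact Or.inl (chi_pos h)
  · exact Or.inr (chi_neg h)

theorem chi_eq_one {x y : G} : chi x y = 1 ↔ Commute x y := by
  refine ⟨fun h => ?_, chi_pos⟩
  by_contra hc
  rw [chi_neg hc] at h
  norm_num at h

theorem two_mul_le_card [Finite G] {H K : Subgroup G} (hle : H ≤ K) {x : G} (hx : x ∈ K)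
    (hxH : x ∉ H) : 2 * Nat.card H ≤ Nat.card K := by
  obtain ⟨c, hc⟩ := Subgroup.card_dvd_of_le hle
  rcases c with _ | _ | c
  · have := Nat.card_pos (α := K)
    omega
  · exact absurd ((Subgroup.eq_of_le_of_card_ge hle (by omega)).ge hx) hxH
  · rw [hc, mul_comm 2]
    exact Nat.mul_le_mul_left _ (by omega)

theorem pow_two_cases {n : ℕ} (hn : n ∣ 512) (h4 : 4 ≤ n) (h32 : n ≤ 32) :
    n = 4 ∨ n = 8 ∨ n = 16 ∨ n = 32 := by
  obtain ⟨k, hk, rfl⟩ := (Nat.dvd_prime_pow Nat.prime_two).1 (show n ∣ 2 ^ 9 from hn)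
  interval_cases k <;> omega

variable (S : Sys z Ω T J φ) {a b : G} (h : Pair Ω a b)
include S h

theorem bb (x : G) : b * (b * x) = x := by rw [← mul_assoc, S.sq h.2.1, one_mul]

theorem aa (x : G) : a * (a * x) = x := by rw [← mul_assoc, S.sq h.1, one_mul]

omit S h in
theorem conj_b (j : G) : b * j * b = wv b j * j := by simp [wv, mul_assoc]

theorem wv_mem {j : G} (hj : j ∈ J a) : wv b j ∈ Wset J a b :=
  ⟨j, hj, (bb S h _).symm⟩

theorem exists_wv {w : G} (hw : w ∈ Wset J a b) : ∃ j ∈ J a, wv b j = w := by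
  obtain ⟨j, hj, e⟩ := hw
  exact ⟨j, hj, by rw [wv, e, bb S h]⟩

theorem wv_memJ {j : G} (hj : j ∈ J a) : wv b j ∈ J a := S.W_sub h (wv_mem S h hj)

theorem wv_mul (i j : G) : wv b (i * j) = wv b i * (i * wv b j * i⁻¹) := by
  simp only [wv, mul_inv_rev, mul_assoc, inv_mul_cancel_left, bb S h]

theorem wv_eq_one {j : G} : wv b j = 1 ↔ Commute j b := by
  constructor
  · intro e
    show j * b = b * j
    calc j * b = b * (b * (j * b * j⁻¹)) * j := by rw [bb S h]; group
      _ = b * j := by rw [show b * (j * b * j⁻¹) = 1 from e, mul_one]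
  · intro e
    rw [wv, e.eq, mul_inv_cancel_right, S.sq h.2.1]

theorem chi_a {x : G} (hx : x ∈ J a) : chi a x = 1 :=
  chi_pos ((S.ctx a h.1).a_comm hx)

theorem chi_mul_left {x x' y : G} (hx : x ∈ J a) (hx' : x' ∈ J a) (hy : y ∈ J a) :
    chi (x * x') y = chi x y * chi x' y := by
  rw [chi_comm, (S.ctx a h.1).comm_mul hy hx hx', chi_comm y x, chi_comm y x']

omit S in
theorem chi_conj (hb : b * b = 1) (x y : G) : chi (b * x * b) (b * y * b) = chi x y := by
  have e : ∀ u v : G, b * u * b * (b * v * b) = b * (u * v) * b := fun u v => by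
    rw [mul_assoc (b * u) b, ← mul_assoc b (b * v) b, ← mul_assoc b b v, hb, one_mul]
    group
  by_cases hc : x * y = y * x
  · rw [chi_pos hc, chi_pos]
    rw [e, e, hc]
  · rw [chi_neg hc, chi_neg]
    rw [e, e]
    exact fun he => hc (mul_left_cancel (mul_right_cancel he))

theorem bconj_mem {x : G} (hx : x ∈ J a) : b * x * b ∈ J a := by
  have := (S.ctx a h.1).normal b h.2.2.2.symm x hx
  rwa [S.inv_eq h.2.1] at this

/-- `KK` consists of the elements with commutator in the center. -/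
theorem mem_KK_iff {j : G} : j ∈ KK J a b ↔ j ∈ J a ∧ (wv b j = 1 ∨ wv b j = a) := by
  have C := S.ctx a h.1
  have hbb := S.sq h.2.1
  constructor
  · rintro ⟨hj, hc⟩
    refine ⟨hj, C.center _ (wv_memJ S h hj) fun x hx => ?_⟩
    have hwx : chi j (wv b x) = 1 :=
      chi_pos (hc _ (subset_closure (Set.mem_insert_of_mem _ (wv_mem S h hx)))).symm
    have hbx := bconj_mem S h hx
    have e1 : chi (b * j * b) x = chi j x := by
      have := chi_conj (b := b) h hbb j (b * x * b)
      rw [show b * (b * x * b) * b = x by rw [mul_assoc b x b, bb S h, mul_assoc, hbb, mul_one],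
        conj_b x, C.comm_mul hj (wv_memJ S h hx) hx, hwx, one_mul] at this
      exact this
    rw [conj_b, chi_mul_left S h (wv_memJ S h hj) hj hx] at e1
    refine chi_eq_one.1 ?_
    rcases chi_cases j x with e | e <;> rw [e] at e1 <;> omega
  · rintro ⟨hj, hw⟩
    refine ⟨hj, fun y hy => ?_⟩
    suffices h' : ∀ x ∈ J a, Commute (wv b x) j by
      induction hy using Subgroup.closure_induction with
      | mem y hy =>
        rcases hy with rfl | hy
        · exact C.a_comm hj
        · obtain ⟨x, hx, rfl⟩ := exists_wv S h hy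
          exact (h' x hx).eq
      | one => simp
      | mul u v _ _ h1 h2 => exact (Commute.mul_left h1 h2).eq
      | inv u _ h1 => exact (Commute.inv_left h1).eq
    intro x hx
    have e1 := chi_conj (b := b) h hbb j x
    rw [conj_b, conj_b, chi_mul_left S h (wv_memJ S h hj) hj
      ((J a).mul_mem (wv_memJ S h hx) hx), C.comm_mul hj (wv_memJ S h hx) hx] at e1
    have e2 : chi (wv b j) (wv b x * x) = 1 := by
      rcases hw with e | e <;> rw [e]
      · exact chi_pos (by simp)
      · exact chi_a S h ((J a).mul_mem (wv_memJ S h hx) hx)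
    rw [e2] at e1
    refine (chi_eq_one.1 ?_).symm
    rcases chi_cases j x with e | e <;> rw [e] at e1 <;> omega

omit S in
theorem w_bconj (hb : b * b = 1) (x : G) : b * wv b x * b = (wv b x)⁻¹ := by
  have hi : b⁻¹ = b := inv_eq_of_mul_eq_one_right hb
  have h2 : ∀ y : G, b * (b * y) = y := fun y => by rw [← mul_assoc, hb, one_mul]
  simp [wv, mul_assoc, h2, hi]

theorem sq_inv {x : G} (hx : x ∈ J a) : x⁻¹ = x ∨ x⁻¹ = a * x := by
  rcases (S.ctx a h.1).squares x hx with e | e
  · exact Or.inl (inv_eq_of_mul_eq_one_right e)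
  · refine Or.inr (inv_eq_of_mul_eq_one_left ?_)
    rw [mul_assoc, e, (S.ctx a h.1).sq]

/-- The inverse of a value of the commutator map, up to the center. -/
theorem wv_wv {x : G} (hx : x ∈ J a) : wv b (wv b x) = 1 ∨ wv b (wv b x) = a := by
  set w := wv b x with hw
  have hwJ : w ∈ J a := wv_memJ S h hx
  have e : wv b w * w = w⁻¹ := by
    rw [← conj_b]; exact w_bconj h (S.sq h.2.1) x
  rcases sq_inv S h hwJ with e' | e' <;> rw [e'] at e
  · exact Or.inl (mul_eq_right.1 e)
  · exact Or.inr (mul_right_cancel e)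

theorem RR_le : RR J a b ≤ J a :=
  (closure_le _).2 (Set.insert_subset (S.ctx a h.1).mem fun _ hw => S.W_sub h hw)

omit S h in
theorem a_mem_RR : a ∈ RR J a b := subset_closure (Set.mem_insert _ _)

omit S h in
theorem W_mem_RR {w : G} (hw : w ∈ Wset J a b) : w ∈ RR J a b :=
  subset_closure (Set.mem_insert_of_mem _ hw)

theorem RR_le_KK : RR J a b ≤ KK J a b := by
  refine (closure_le _).2 (Set.insert_subset ?_ fun w hw => ?_)
  · refine (mem_KK_iff S h).2 ⟨(S.ctx a h.1).mem, Or.inl ?_⟩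
    exact (wv_eq_one S h).2 h.2.2.2
  · obtain ⟨x, hx, rfl⟩ := exists_wv S h hw
    exact (mem_KK_iff S h).2 ⟨wv_memJ S h hx, wv_wv S h hx⟩

theorem RR_comm : ∀ x ∈ RR J a b, ∀ y ∈ RR J a b, Commute x y :=
  fun _ hx y hy => ((RR_le_KK S h hx).2 y hy).symm

theorem a_mem_W_or {i j : G} (hi : i ∈ J a) (hj : j ∈ J a) :
    (Commute i (wv b j) ∧ wv b i * wv b j = wv b (i * j)) ∨
      (¬ Commute i (wv b j) ∧ wv b i * wv b j = a * wv b (i * j)) := by
  have C := S.ctx a h.1
  have hwj := wv_memJ S h hj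
  by_cases hc : Commute i (wv b j)
  · exact Or.inl ⟨hc, by rw [wv_mul S h, hc.eq, mul_inv_cancel_right]⟩
  · refine Or.inr ⟨hc, ?_⟩
    rcases C.comm i hi _ hwj with e | e
    · exact absurd e hc
    have e' : i * wv b j * i⁻¹ = a * wv b j := by rw [e]; group
    rw [wv_mul S h, e', ← mul_assoc (wv b i) a, ← C.a_comm (wv_memJ S h hi),
      mul_assoc a (wv b i), aa S h]

/-- `RR` consists of the values and their translates by `a`. -/
theorem mem_RR {x : G} (hx : x ∈ RR J a b) : x ∈ Wset J a b ∨ a * x ∈ Wset J a b := by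
  have C := S.ctx a h.1
  have h1 : ∀ u v : G, u ∈ J a → v ∈ J a → u ∈ Wset J a b → v ∈ Wset J a b →
      u * v ∈ Wset J a b ∨ a * (u * v) ∈ Wset J a b := by
    intro u v _ _ hu hv
    obtain ⟨i, hi, rfl⟩ := exists_wv S h hu
    obtain ⟨j, hj, rfl⟩ := exists_wv S h hv
    rcases a_mem_W_or S h hi hj with ⟨-, e⟩ | ⟨-, e⟩ <;> rw [e]
    · exact Or.inl (wv_mem S h ((J a).mul_mem hi hj))
    · exact Or.inr (by rw [aa S h]; exact wv_mem S h ((J a).mul_mem hi hj))
  suffices h2 : x ∈ J a ∧ (x ∈ Wset J a b ∨ a * x ∈ Wset J a b) from h2.2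
  induction hx using Subgroup.closure_induction with
  | mem y hy =>
    rcases hy with rfl | hy
    · exact ⟨C.mem, Or.inr (by rw [C.sq]; exact wset_one _ _)⟩
    · exact ⟨S.W_sub h hy, Or.inl hy⟩
  | one => exact ⟨(J a).one_mem, Or.inl (wset_one _ _)⟩
  | mul u v _ _ hu hv =>
    obtain ⟨hu, hu'⟩ := hu
    obtain ⟨hv, hv'⟩ := hv
    refine ⟨(J a).mul_mem hu hv, ?_⟩
    have hau := (J a).mul_mem C.mem hu
    have hav := (J a).mul_mem C.mem hv
    rcases hu' with hu' | hu' <;> rcases hv' with hv' | hv'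
    · exact h1 u v hu hv hu' hv'
    · have := h1 u _ hu hav hu' hv'
      rw [← mul_assoc u, ← C.a_comm hu, mul_assoc a, aa S h] at this
      exact this.symm
    · have := h1 _ v hau hv hu' hv'
      rw [mul_assoc a, aa S h] at this
      exact this.symm
    · have := h1 _ _ hau hav hu' hv'
      rwa [mul_assoc a u, ← mul_assoc u a, ← C.a_comm hu, mul_assoc a u v, aa S h] at this
  | inv u _ hu =>
    obtain ⟨hu, hu'⟩ := hu
    refine ⟨(J a).inv_mem hu, ?_⟩
    rcases sq_inv S h hu with e | e <;> rw [e]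
    · exact hu'
    · rw [aa S h]; exact hu'.symm

/-- The form is symmetric. -/
theorem chi_symm {i j : G} (hi : i ∈ J a) (hj : j ∈ J a) :
    chi i (wv b j) = chi j (wv b i) := by
  have C := S.ctx a h.1
  have e1 := chi_conj (b := b) h (S.sq h.2.1) i j
  have hwi := wv_memJ S h hi
  have hwj := wv_memJ S h hj
  rw [conj_b, conj_b, chi_mul_left S h hwi hi ((J a).mul_mem hwj hj), C.comm_mul hwi hwj hj,
    C.comm_mul hi hwj hj, chi_pos (RR_comm S h _ (W_mem_RR (wv_mem S h hi)) _
      (W_mem_RR (wv_mem S h hj))).eq, one_mul, chi_comm (wv b i) j] at e1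
  rcases chi_cases i (wv b j) with e | e <;> rcases chi_cases j (wv b i) with e' | e' <;>
    rcases chi_cases i j with e'' | e'' <;> simp_all

theorem wv_sq {i : G} (hi : i ∈ J a) : wv b (i * i) = 1 := by
  rcases (S.ctx a h.1).squares i hi with e | e <;> rw [e, wv_eq_one S h]
  · exact Commute.one_left b
  · exact h.2.2.2

theorem self_comm (hsq : ∀ w ∈ Wset J a b, w * w = 1) {i : G} (hi : i ∈ J a) :
    Commute i (wv b i) := by
  have e := wv_sq S h hi
  rw [wv_mul S h] at e
  have := inv_eq_of_mul_eq_one_right e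
  rw [inv_eq_of_mul_eq_one_right (hsq _ (wv_mem S h hi))] at this
  exact (mul_inv_eq_iff_eq_mul.1 this.symm : _)

variable [Finite G]

theorem card_KK : Nat.card (KK J a b) * Nat.card (RR J a b) = 1024 := by
  have := (S.ctx a h.1).dual (A := RR J a b) (RR_le S h) a_mem_RR
  rw [← this, ← Nat.card_coe_set_eq]
  congr 1
  refine Nat.card_congr (Equiv.subtypeEquivRight fun j => ?_)
  simp only [KK, mem_inf, mem_centralizer_iff, Set.mem_ofPred_eq, SetLike.mem_coe, Commute,
    SemiconjBy, eq_comm]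

theorem card_RR_le : Nat.card (RR J a b) ≤ 32 :=
  (SetupC.abelian_bound (S.ctx a h.1) (RR_le S h) a_mem_RR (RR_comm S h)).1

theorem card_RR_ge (N : NoJ Ω J) : 4 ≤ Nat.card (RR J a b) := by
  have C := S.ctx a h.1
  have hd : Nat.card (RR J a b) ∣ 512 := C.card ▸ Subgroup.card_dvd_of_le (RR_le S h)
  by_contra hlt
  push Not at hlt
  have h2 : Nat.card (RR J a b) ≤ 2 := by
    obtain ⟨k, -, e⟩ := (Nat.dvd_prime_pow Nat.prime_two).1
      (show Nat.card (RR J a b) ∣ 2 ^ 9 from hd)
    rcases k with _ | _ | k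
    · omega
    · omega
    · rw [e, pow_add] at hlt
      have := Nat.one_le_two_pow (n := k)
      omega
  refine N a b h (C.faithful b h.2.2.2.symm fun j hj => ?_)
  have hsub : ({1, a} : Set G) ⊆ (RR J a b : Set G) := by
    rintro x (rfl | rfl)
    exacts [(RR J a b).one_mem, a_mem_RR]
  have heq : ({1, a} : Set G) = (RR J a b : Set G) :=
    Set.eq_of_subset_of_ncard_le hsub (by
      rw [Set.ncard_pair C.ne_one.symm, ← Nat.card_coe_set_eq]; exact h2) (Set.toFinite _)
  have hm : wv b j ∈ ({1, a} : Set G) := by rw [heq]; exact W_mem_RR (wv_mem S h hj)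
  rw [S.inv_eq h.2.1, conj_b]
  rcases hm with e | e <;> rw [e]
  · exact Or.inl (one_mul j)
  · exact Or.inr rfl

theorem card_RR_cases (N : NoJ Ω J) :
    Nat.card (RR J a b) = 4 ∨ Nat.card (RR J a b) = 8 ∨ Nat.card (RR J a b) = 16 ∨
      Nat.card (RR J a b) = 32 :=
  pow_two_cases ((S.ctx a h.1).card ▸ Subgroup.card_dvd_of_le (RR_le S h)) (card_RR_ge S h N)
    (card_RR_le S h)

/-- Double centralizer. -/
theorem double {i : G} (hi : i ∈ J a) (hc : ∀ y ∈ KK J a b, Commute i y) : i ∈ RR J a b := by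
  have C := S.ctx a h.1
  have hd := C.dual (A := KK J a b) inf_le_left (RR_le_KK S h a_mem_RR)
  have hk := card_KK S h
  have hsub : (RR J a b : Set G) ⊆ {j | j ∈ J a ∧ ∀ y ∈ KK J a b, Commute j y} :=
    fun j hj => ⟨RR_le S h hj, fun y hy => hy.2 j hj⟩
  have hpos := Nat.card_pos (α := KK J a b)
  have he := Set.eq_of_subset_of_ncard_le hsub (by
    rw [← Nat.card_coe_set_eq (RR J a b : Set G)]
    exact Nat.le_of_mul_le_mul_right (le_of_eq (hd.trans (by rw [mul_comm]; exact hk.symm))) hpos)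
    (Set.toFinite _)
  show i ∈ (RR J a b : Set G)
  rw [he]
  exact ⟨hi, hc⟩

omit h in
theorem half_cent {H : Subgroup G} {a x : G} (ha : a ∈ Ω) (hH : H ≤ J a) (hx : x ∈ J a) :
    Nat.card H ≤ 2 * Nat.card ↥(H ⊓ centralizer ({x} : Set G)) := by
  set L := H ⊓ centralizer ({x} : Set G) with hL
  by_cases hg : ∃ g ∈ H, g ∉ L
  swap
  · push Not at hg
    have := Nat.card_le_card_of_injective _ (Subgroup.inclusion_injective (show H ≤ L from hg))
    omega
  obtain ⟨g, hgH, hgL⟩ := hg
  have hC := S.ctx a ha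
  have hchi : ∀ y ∈ H, y ∈ L ↔ chi y x = 1 := fun y hy => by
    rw [chi_eq_one, hL, mem_inf, mem_centralizer_singleton_iff]
    exact ⟨fun h => h.2, fun h => ⟨hy, h⟩⟩
  have hsub : (H : Set G) ⊆ (L : Set G) ∪ (fun y => g * y) '' (L : Set G) := by
    intro y hy
    by_cases hyL : y ∈ L
    · exact Or.inl hyL
    refine Or.inr ⟨g⁻¹ * y, ?_, mul_inv_cancel_left g y⟩
    have hgy : g⁻¹ * y ∈ H := H.mul_mem (H.inv_mem hgH) hy
    show g⁻¹ * y ∈ L
    rw [hchi _ hgy]
    have e1 : chi y x = -1 :=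
      (chi_cases y x).resolve_left fun e => hyL ((hchi y hy).2 e)
    have e2 : chi g x = -1 :=
      (chi_cases g x).resolve_left fun e => hgL ((hchi g hgH).2 e)
    have e3 := hC.comm_mul hx (hH hgH) (hH hgy)
    rw [mul_inv_cancel_left, chi_comm, e1, chi_comm x g, e2, chi_comm x] at e3
    omega
  have := (Set.ncard_le_ncard hsub (Set.toFinite _)).trans (Set.ncard_union_le _ _)
  rw [Set.ncard_image_of_injective _ (mul_right_injective g), ← Nat.card_coe_set_eq,
    ← Nat.card_coe_set_eq] at this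
  change Nat.card H ≤ Nat.card L + Nat.card L at this
  omega

/-- An alternating nondegenerate form has even rank. -/
theorem not_sixteen (hsq : ∀ w ∈ Wset J a b, w * w = 1) : Nat.card (RR J a b) ≠ 16 := by
  intro hn
  have C := S.ctx a h.1
  have hK : Nat.card (KK J a b) = 64 := by
    have := card_KK S h
    rw [hn] at this
    omega
  have hJK : ∃ i ∈ J a, i ∉ KK J a b := by
    by_contra hne
    push Not at hne
    have := Nat.card_le_card_of_injective _ (Subgroup.inclusion_injective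
      (show J a ≤ KK J a b from hne))
    rw [C.card, hK] at this
    omega
  obtain ⟨i, hi, hiK⟩ := hJK
  obtain ⟨j, hj, hji⟩ : ∃ j ∈ J a, ¬ Commute (wv b i) j := by
    by_contra hne
    push Not at hne
    exact hiK ((mem_KK_iff S h).2 ⟨hi, C.center _ (wv_memJ S h hi) hne⟩)
  set L₁ := J a ⊓ centralizer ({wv b i} : Set G) with hL₁
  set L₂ := L₁ ⊓ centralizer ({wv b j} : Set G) with hL₂
  have h₁ := half_cent S h.1 (le_refl (J a)) (wv_memJ S h hi)
  have h₂ := half_cent S h.1 (inf_le_left : L₁ ≤ J a) (wv_memJ S h hj)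
  rw [C.card] at h₁
  obtain ⟨k, hk₂, hkK⟩ : ∃ k ∈ L₂, k ∉ KK J a b := by
    by_contra hne
    push Not at hne
    have := Nat.card_le_card_of_injective _ (Subgroup.inclusion_injective
      (show L₂ ≤ KK J a b from hne))
    rw [hK] at this
    change 512 ≤ 2 * Nat.card L₁ at h₁
    change Nat.card L₁ ≤ 2 * Nat.card L₂ at h₂
    omega
  obtain ⟨⟨hk, hki⟩, hkj⟩ := hk₂
  have cki : Commute k (wv b i) := mem_centralizer_singleton_iff.1 hki
  have ckj : Commute k (wv b j) := mem_centralizer_singleton_iff.1 hkj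
  have sy : ∀ {x y : G}, x ∈ J a → y ∈ J a → Commute x (wv b y) → Commute y (wv b x) :=
    fun hx hy e => chi_eq_one.1 (by rw [chi_symm S h hy hx]; exact chi_pos e.eq)
  let M₁ := J a ⊓ centralizer ({wv b i, wv b j, wv b k} : Set G)
  let M₂ := J a ⊓ centralizer ({wv b i, wv b k} : Set G)
  let M₃ := J a ⊓ centralizer ({wv b k} : Set G)
  have hcm : ∀ {x : G} {s : Set G}, (∀ y ∈ s, Commute x y) → x ∈ centralizer s :=
    fun hs => mem_centralizer_iff.2 fun y hy => (hs y hy).symm
  have s₀ : KK J a b ≤ M₁ := fun x hx => ⟨hx.1, hcm (by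
    rintro y (rfl | rfl | rfl) <;>
      exact (hx.2 _ (W_mem_RR (wv_mem S h (by assumption)))).symm)⟩
  have s₁ : M₁ ≤ M₂ := fun x hx => ⟨hx.1, hcm (by
    rintro y (rfl | rfl)
    · exact (hx.2 _ (Set.mem_insert _ _)).symm
    · exact (hx.2 _ (Set.mem_insert_of_mem _ (Set.mem_insert_of_mem _ rfl))).symm)⟩
  have s₂ : M₂ ≤ M₃ := fun x hx => ⟨hx.1, hcm (by
    rintro y rfl
    exact (hx.2 _ (Set.mem_insert_of_mem _ rfl)).symm)⟩
  have k₀ : k ∈ M₁ := ⟨hk, hcm (by
    rintro y (rfl | rfl | rfl)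
    exacts [cki, ckj, self_comm S h hsq hk])⟩
  have k₁ : i ∈ M₂ := ⟨hi, hcm (by
    rintro y (rfl | rfl)
    exacts [self_comm S h hsq hi, sy hk hi cki])⟩
  have k₁' : i ∉ M₁ := fun hm => hji
    (sy hi hj (hm.2 _ (Set.mem_insert_of_mem _ (Set.mem_insert _ _))).symm).symm
  have k₂ : j ∈ M₃ := ⟨hj, hcm (by
    rintro y rfl
    exact sy hk hj ckj)⟩
  have k₂' : j ∉ M₂ := fun hm => hji (hm.2 _ (Set.mem_insert _ _))
  have c₁ := two_mul_le_card s₀ k₀ hkK
  have c₂ := two_mul_le_card s₁ k₁ k₁'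
  have c₃ := two_mul_le_card s₂ k₂ k₂'
  have htop : M₃ = J a := Subgroup.eq_of_le_of_card_ge inf_le_left (by rw [C.card]; omega)
  refine hkK ((mem_KK_iff S h).2 ⟨hk, C.center _ (wv_memJ S h hk) fun x hx => ?_⟩)
  rw [← htop] at hx
  exact hx.2 _ rfl

end PairB

end Cfsg.Agent.U62From98
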