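import Cfsg.Agent.Lib.U62From98ADefs
import Cfsg.Agent.Lib.U62From98PairsBase

/-!
A conjugate of the involution in the extraspecial subgroup of another: the relation is symmetric and
the two points see the same inner elements in their common centralizer (helper79).
-/

set_option autoImplicit false
set_option linter.unusedSectionVars false
set_option linter.style.haveILetI false

namespace Cfsg.Agent.U62From98

open Subgroup

universe u v

variable {G : Type u} [Group G] [Finite G] {A : Type v} [Group A]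
variable {z : G} {Ω : Set G} {U : Subgroup A} {r σ : A} {J : G → Subgroup G} {φ : G → G → A}

namespace AJ

open PairB (CB mem_CB)

/-- The image of a subgroup centralizing the base. -/
theorem image_card {b : G} {Jb : Subgroup G} {φb : G → A} (C : Ctx b Jb φb) {M : Subgroup G}
    (hc : ∀ m ∈ M, Commute m b) :
    ∃ E : Subgroup A, (∀ p, p ∈ E ↔ ∃ m ∈ M, φb m = p) ∧
      Nat.card M = Nat.card ↥(M ⊓ Jb) * Nat.card E := by
  let f : M →* A := MonoidHom.mk' (fun m => φb (m : G)) fun m n =>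
    C.hom _ _ (hc _ m.2) (hc _ n.2)
  refine ⟨f.range, fun p => ⟨fun ⟨m, e⟩ => ⟨m, m.2, e⟩, fun ⟨m, hm, e⟩ => ⟨⟨m, hm⟩, e⟩⟩, ?_⟩
  have hk : Nat.card f.ker = Nat.card ↥(M ⊓ Jb) := by
    refine Nat.card_congr ⟨fun m => ⟨((m : M) : G), (m : M).2, (C.ker _ (hc _ (m : M).2)).1 m.2⟩,
      fun j => ⟨⟨(j : G), j.2.1⟩, (C.ker _ (hc _ j.2.1)).2 j.2.2⟩, fun m => rfl, fun j => rfl⟩
  rw [Subgroup.card_eq_card_quotient_mul_card_subgroup f.ker, hk,
    Nat.card_congr (QuotientGroup.quotientKerEquivRange f).toEquiv, mul_comm]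

/-- A subgroup meets a subgroup of index two in at least half of its elements. -/
theorem half_index [Finite A] {H : Subgroup A} (hU : U.index = 2) :
    Nat.card H ≤ 2 * Nat.card ↥(H ⊓ U) := by
  by_cases hg : ∃ g ∈ H, g ∉ U
  swap
  · push Not at hg
    have := Nat.card_le_card_of_injective _
      (Subgroup.inclusion_injective (show H ≤ H ⊓ U from fun x hx => ⟨hx, hg x hx⟩))
    omega
  obtain ⟨g, hgH, hgU⟩ := hg
  have hsub : (H : Set A) ⊆ (H ⊓ U : Subgroup A) ∪ (fun y => g * y) '' ((H ⊓ U : Subgroup A) : Set A) := by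
    intro y hy
    by_cases hyU : y ∈ U
    · exact Or.inl ⟨hy, hyU⟩
    refine Or.inr ⟨g⁻¹ * y, ⟨H.mul_mem (H.inv_mem hgH) hy, ?_⟩, mul_inv_cancel_left g y⟩
    show g⁻¹ * y ∈ U
    rw [Subgroup.mul_mem_iff_of_index_two hU, inv_mem_iff]
    exact iff_of_false hgU hyU
  have := (Set.ncard_le_ncard hsub (Set.toFinite _)).trans (Set.ncard_union_le _ _)
  rw [Set.ncard_image_of_injective _ (mul_right_injective g), ← Nat.card_coe_set_eq,
    ← Nat.card_coe_set_eq] at this
  change Nat.card H ≤ Nat.card ↥(H ⊓ U) + Nat.card ↥(H ⊓ U) at this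
  omega

/-- Transport of an elementary subgroup into the inner subgroup. -/
theorem inner_sub {E : Subgroup A} (hEU : E ≤ U) (hE : Elem2 E) :
    Elem2 (E.subgroupOf U) ∧ Nat.card (E.subgroupOf U) = Nat.card E :=
  ⟨⟨fun x hx => Subtype.ext (hE.1 _ hx), fun x hx y hy => Subtype.ext (hE.2 _ hx _ hy)⟩,
    Nat.card_congr (Subgroup.subgroupOfEquivOfLe hEU).toEquiv⟩

variable (S : ASys z Ω U r σ J φ) {a b : G} (h : Pair Ω a b) (hb : b ∈ J a)
include S h hb

theorem ba_ne : b ≠ 1 ∧ b * b = 1 := ⟨(S.ctx b h.2.1).ne_one, (S.ctx b h.2.1).sq⟩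

theorem not_central : ∃ k ∈ J a, ¬ Commute b k := by
  by_contra hne
  push Not at hne
  rcases (S.ctx a h.1).center b hb hne with e | e
  · exact (S.ctx b h.2.1).ne_one e
  · exact h.2.2.1 e.symm

theorem card_CB : Nat.card (CB J a b) = 256 := by
  have C := S.ctx a h.1
  obtain ⟨k, hk, hkb⟩ := not_central S h hb
  have hchi : ∀ j ∈ J a, j ∈ CB J a b ↔ chi b j = 1 := fun j hj => by
    rw [mem_CB, PairB.chi_eq_one]
    exact ⟨fun e => e.2.symm, fun e => ⟨hj, e.symm⟩⟩
  have hsub : (J a : Set G) ⊆ (CB J a b : Set G) ∪ (fun y => k * y) '' (CB J a b : Set G) := by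
    intro j hj
    by_cases hjC : j ∈ CB J a b
    · exact Or.inl hjC
    refine Or.inr ⟨k⁻¹ * j, ?_, mul_inv_cancel_left k j⟩
    have hkj : k⁻¹ * j ∈ J a := (J a).mul_mem ((J a).inv_mem hk) hj
    show k⁻¹ * j ∈ CB J a b
    rw [hchi _ hkj]
    have e1 : chi b j = -1 :=
      (PairB.chi_cases b j).resolve_left fun e => hjC ((hchi j hj).2 e)
    have e2 : chi b k = -1 :=
      (PairB.chi_cases b k).resolve_left fun e => hkb (PairB.chi_eq_one.1 e)
    have e3 := C.comm_mul hb hk hkj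
    rw [mul_inv_cancel_left, e1, e2] at e3
    omega
  have := (Set.ncard_le_ncard hsub (Set.toFinite _)).trans (Set.ncard_union_le _ _)
  rw [Set.ncard_image_of_injective _ (mul_right_injective k), ← Nat.card_coe_set_eq,
    ← Nat.card_coe_set_eq] at this
  change Nat.card (J a) ≤ Nat.card (CB J a b) + Nat.card (CB J a b) at this
  have h2 := PairB.two_mul_le_card (H := CB J a b) (K := J a) inf_le_left hk
    fun hkC => hkb (mem_CB.1 hkC).2.symm
  rw [C.card] at this h2
  omega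

/-- The relation is symmetric. -/
theorem mem_symm : a ∈ J b := by
  by_contra ha
  have Ca := S.ctx a h.1
  have Cb := S.ctx b h.2.1
  have h256 := card_CB S h hb
  haveI : Finite A := Finite.of_surjective (fun g => φ a g)
    fun u => (Ca.surj u).imp fun g hg => hg.2
  have hd := Ca.dual (A := CB J a b) inf_le_left (mem_CB.2 ⟨Ca.mem, h.2.2.2⟩)
  rw [h256] at hd
  set Zs := {j | j ∈ J a ∧ ∀ y ∈ CB J a b, Commute j y} with hZs
  have hZ : ({1, a, b, a * b} : Set G) = Zs := by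
    refine Set.eq_of_subset_of_ncard_le ?_ ?_ (Set.toFinite _)
    · have hbZ : ∀ y ∈ CB J a b, Commute b y := fun y hy => (mem_CB.1 hy).2.symm
      have haZ : ∀ y ∈ CB J a b, Commute a y := fun y hy => (Ca.le y hy.1).symm
      rintro x (rfl | rfl | rfl | rfl)
      exacts [⟨(J a).one_mem, fun y _ => Commute.one_left y⟩, ⟨Ca.mem, haZ⟩, ⟨hb, hbZ⟩,
        ⟨(J a).mul_mem Ca.mem hb, fun y hy => (haZ y hy).mul_left (hbZ y hy)⟩]
    · have e1 : a ≠ b := h.2.2.1
      have e2 : a * b ≠ 1 := fun e => e1 (by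
        rw [← Ca.a_inv, inv_eq_of_mul_eq_one_right e])
      have e3 : a * b ≠ a := fun e => Cb.ne_one (mul_eq_left.1 e)
      have e4 : a * b ≠ b := fun e => Ca.ne_one (mul_eq_right.1 e)
      have : ({1, a, b, a * b} : Set G).ncard = 4 := by
        rw [Set.ncard_insert_of_notMem (by simp [Ca.ne_one.symm, Cb.ne_one.symm, e2.symm])
          (Set.toFinite _), Set.ncard_eq_three.2 ⟨a, b, a * b, e1, e3.symm, e4.symm, rfl⟩]
      rw [this]
      omega
  set D := J a ⊓ J b with hD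
  have hDC : D ≤ CB J a b := fun d hd' => mem_CB.2 ⟨hd'.1, Cb.le d hd'.2⟩
  have hDb : (D : Set G) ⊆ {1, b} := by
    intro d hd'
    have hm : d ∈ Zs := by
      refine ⟨hd'.1, fun y hy => ?_⟩
      rcases Ca.comm y hy.1 d hd'.1 with e | e
      · exact (e : Commute y d).symm
      · exfalso
        have h1 : y * d * y⁻¹ ∈ J b := Cb.normal y (mem_CB.1 hy).2 d hd'.2
        rw [e, show a * (d * y) * y⁻¹ = a * d by group] at h1
        exact ha (by simpa using (J b).mul_mem h1 ((J b).inv_mem hd'.2))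
    rw [← hZ] at hm
    rcases hm with rfl | rfl | rfl | rfl
    · exact Or.inl rfl
    · exact absurd hd'.2 ha
    · exact Or.inr rfl
    · exact absurd (by simpa using (J b).mul_mem hd'.2 ((J b).inv_mem Cb.mem)) ha
  have hD2 : Nat.card D ≤ 2 := by
    have := Set.ncard_le_ncard hDb (Set.toFinite _)
    rw [← Nat.card_coe_set_eq] at this
    exact this.trans ((Set.ncard_insert_le _ _).trans (by rw [Set.ncard_singleton]))
  obtain ⟨P, hP, hcard⟩ := image_card Cb (M := CB J a b) fun j hj => (mem_CB.1 hj).2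
  rw [show CB J a b ⊓ J b = D from le_antisymm (fun j hj => ⟨hj.1.1, hj.2⟩)
    fun j hj => ⟨hDC hj, hj.2⟩, h256] at hcard
  have hsq : ∀ p ∈ P, p * p = 1 ∨ p * p = φ b a := by
    intro p hp
    obtain ⟨j, hj, rfl⟩ := (hP p).1 hp
    rw [← Cb.hom _ _ (mem_CB.1 hj).2 (mem_CB.1 hj).2]
    rcases Ca.squares j hj.1 with e | e <;> rw [e]
    · exact Or.inl Cb.phi_one
    · exact Or.inr rfl
  have hc2 : φ b a * φ b a = 1 := by rw [← Cb.hom _ _ h.2.2.2 h.2.2.2, Ca.sq, Cb.phi_one]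
  have hp2 : IsPGroup 2 P := fun p => ⟨2, Subtype.ext (by
    rw [SubgroupClass.coe_pow, OneMemClass.coe_one, show (2 : ℕ) ^ 2 = 2 + 2 by norm_num, pow_add,
      pow_two]
    rcases hsq (p : A) p.2 with e | e <;> rw [e]
    · exact one_mul 1
    · exact hc2)⟩
  refine S.facts.sylow P (φ b a) ?_ hp2 hsq
  nlinarith

/-- The elements of the common centralizer in `J a` are inner at `b`. -/
theorem inner_image : ∀ j ∈ CB J a b, φ b j ∈ U := by
  classical
  have ha := mem_symm S h hb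
  have hs : Pair Ω b a := ⟨h.2.1, h.1, h.2.2.1.symm, h.2.2.2.symm⟩
  have Ca := S.ctx a h.1
  have Cb := S.ctx b h.2.1
  have h256 := card_CB S h hb
  have h256' := card_CB S hs ha
  haveI : Finite A := Finite.of_surjective (fun g => φ a g)
    fun u => (Ca.surj u).imp fun g hg => hg.2
  haveI : U.Normal := Subgroup.normal_of_index_eq_two S.facts.index
  obtain ⟨T, hT⟩ := S.facts.inner
  have hA : Nat.card A = 51840 := by
    rw [← U.card_mul_index, hT.card, S.facts.index]
  set D := J a ⊓ J b with hD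
  have hDC : D ≤ CB J a b := fun d hd' => mem_CB.2 ⟨hd'.1, Cb.le d hd'.2⟩
  have hDcomm : ∀ x ∈ D, ∀ y ∈ D, Commute x y := by
    intro x hx y hy
    rcases Ca.comm x hx.1 y hy.1 with e | e
    · exact e
    rcases Cb.comm x hx.2 y hy.2 with e' | e'
    · exact e'
    · rw [e] at e'
      exact absurd (mul_right_cancel e') h.2.2.1
  have hD32 := (SetupC.abelian_bound Ca inf_le_left (A := D) ⟨Ca.mem, ha⟩ hDcomm).1
  obtain ⟨P, hP, hcard⟩ := image_card Cb (M := CB J a b) fun j hj => (mem_CB.1 hj).2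
  rw [show CB J a b ⊓ J b = D from le_antisymm (fun j hj => ⟨hj.1.1, hj.2⟩)
    fun j hj => ⟨hDC hj, hj.2⟩, h256] at hcard
  have hφa : φ b a = 1 := (Cb.ker a h.2.2.2).2 ha
  have hPe : Elem2 P := by
    refine ⟨fun p hp => ?_, fun p hp q hq => ?_⟩
    · obtain ⟨j, hj, rfl⟩ := (hP p).1 hp
      rw [← Cb.hom _ _ (mem_CB.1 hj).2 (mem_CB.1 hj).2]
      rcases Ca.squares j hj.1 with e | e <;> rw [e]
      · exact Cb.phi_one
      · exact hφa
    · obtain ⟨i, hi, rfl⟩ := (hP p).1 hp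
      obtain ⟨j, hj, rfl⟩ := (hP q).1 hq
      show _ = _
      rw [← Cb.hom _ _ (mem_CB.1 hi).2 (mem_CB.1 hj).2, ← Cb.hom _ _ (mem_CB.1 hj).2 (mem_CB.1 hi).2]
      rcases Ca.comm i hi.1 j hj.1 with e | e <;> rw [e]
      rw [Cb.hom _ _ h.2.2.2 ((mem_CB.1 hj).2.mul_left (mem_CB.1 hi).2), hφa, one_mul]
  by_contra hne
  push Not at hne
  obtain ⟨j₀, hj₀, hj₀U⟩ := hne
  set c := φ b j₀ with hc
  have hcP : c ∈ P := (hP _).2 ⟨j₀, hj₀, rfl⟩
  have hP2 : Nat.card P = 2 * Nat.card ↥(P ⊓ U) := le_antisymm (half_index S.facts.index)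
    (PairB.two_mul_le_card inf_le_left hcP fun hh => hj₀U hh.2)
  have hP8 : 8 ≤ Nat.card P := by nlinarith
  -- the common centralizer and its two images
  set K := centralizer ({a} : Set G) ⊓ centralizer ({b} : Set G) with hK
  have hKa : ∀ k ∈ K, Commute k a := fun k hk => mem_centralizer_singleton_iff.1 hk.1
  have hKb : ∀ k ∈ K, Commute k b := fun k hk => mem_centralizer_singleton_iff.1 hk.2
  obtain ⟨Ea, hEa, hca⟩ := image_card Ca hKa
  obtain ⟨Eb, hEb, hcb⟩ := image_card Cb hKb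
  rw [show K ⊓ J a = CB J a b from le_antisymm (fun j hj => ⟨hj.2, hj.1.2⟩)
    fun j hj => ⟨⟨mem_centralizer_singleton_iff.2 (Ca.le j hj.1).eq, hj.2⟩, hj.1⟩, h256] at hca
  rw [show K ⊓ J b = CB J b a from le_antisymm (fun j hj => ⟨hj.2, hj.1.1⟩)
    fun j hj => ⟨⟨hj.2, mem_centralizer_singleton_iff.2 (Cb.le j hj.1).eq⟩, hj.1⟩, h256'] at hcb
  have hEab : Nat.card Eb = Nat.card Ea := by omega
  have h384 : 384 ≤ Nat.card Ea := by
    haveI : Fintype G := Fintype.ofFinite G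
    obtain ⟨E, hE, hce⟩ := image_card Ca (M := centralizer ({a} : Set G))
      fun m hm => mem_centralizer_singleton_iff.1 hm
    have htop : E = ⊤ := eq_top_iff.2 fun u _ => (hE u).2 (by
      obtain ⟨g, hg, e⟩ := Ca.surj u
      exact ⟨g, mem_centralizer_singleton_iff.2 hg.eq, e⟩)
    rw [htop, show centralizer ({a} : Set G) ⊓ J a = J a from inf_eq_right.2
      fun j hj => mem_centralizer_singleton_iff.2 (Ca.le j hj).eq, Ca.card,
      Subgroup.card_top, hA] at hce
    set Cs : Finset G := Finset.univ.filter (· ∈ centralizer ({a} : Set G)) with hCs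
    have hCc : Cs.card = 512 * 51840 := by
      rw [← hce, Nat.card_eq_fintype_card, Fintype.card_subtype]
    have hle : Cs.card ≤ Nat.card K * (Cs.image fun g => g * b * g⁻¹).card := by
      refine Finset.card_le_mul_card_image _ _ fun x hx => ?_
      obtain ⟨k, hk, rfl⟩ := Finset.mem_image.1 hx
      have hk' : k ∈ centralizer ({a} : Set G) := (Finset.mem_filter.1 hk).2
      rw [← Set.ncard_coe_finset, ← SetLike.coe_sort_coe, Nat.card_coe_set_eq]
      refine Set.ncard_le_ncard_of_injOn (fun g => k⁻¹ * g) (fun g hg => ?_)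
        (fun i _ j _ e => mul_left_cancel e) (Set.toFinite _)
      obtain ⟨hgs, hge⟩ := Finset.mem_filter.1 hg
      have hg' : g ∈ centralizer ({a} : Set G) := (Finset.mem_filter.1 hgs).2
      refine ⟨(centralizer _).mul_mem ((centralizer _).inv_mem hk') hg',
        mem_centralizer_singleton_iff.2 ?_⟩
      calc k⁻¹ * g * b = k⁻¹ * (g * b * g⁻¹) * g := by group
        _ = b * (k⁻¹ * g) := by rw [hge]; group
    have h270 : (Cs.image fun g => g * b * g⁻¹).card ≤ 270 := by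
      have hsub : (↑(Cs.image fun g => g * b * g⁻¹) : Set G) ⊆
          {j | j ∈ J a ∧ j * j = 1} \ {1, a} := by
        intro x hx
        obtain ⟨g, hg, rfl⟩ := Finset.mem_image.1 hx
        have hga : Commute g a := mem_centralizer_singleton_iff.1 (Finset.mem_filter.1 hg).2
        refine ⟨⟨Ca.normal g hga b hb, ?_⟩, ?_⟩
        · rw [show g * b * g⁻¹ * (g * b * g⁻¹) = g * (b * b) * g⁻¹ by group, Cb.sq]; group
        · rintro (e | e)
          · exact Cb.ne_one (conj_eq_one_iff.1 e)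
          · refine h.2.2.1 ?_
            have e' : g * b * g⁻¹ = g * a * g⁻¹ := by rw [hga.eq, mul_inv_cancel_right]; exact e
            exact (mul_left_cancel (mul_right_cancel e')).symm
      have h1 := Set.ncard_le_ncard hsub (Set.toFinite _)
      rw [Set.ncard_coe_finset] at h1
      have hsub2 : ({1, a} : Set G) ⊆ {j | j ∈ J a ∧ j * j = 1} := by
        rintro x (rfl | rfl)
        exacts [⟨(J a).one_mem, one_mul 1⟩, ⟨Ca.mem, Ca.sq⟩]
      rw [Set.ncard_sdiff hsub2 (Set.toFinite _), Set.ncard_pair Ca.ne_one.symm] at h1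
      have := Ca.card_involutions
      omega
    rw [hCc, hca] at hle
    nlinarith
  set X := Eb ⊓ U with hX
  have hX192 : 192 ≤ Nat.card X := by
    have := half_index (H := Eb) S.facts.index
    rw [← hX] at this
    omega
  have norm_img : ∀ (M : Subgroup G) (Q : Subgroup A), M ≤ CB J a b →
      (∀ p, p ∈ Q ↔ ∃ m ∈ M, φ b m = p) → (∀ k ∈ K, ∀ m ∈ M, k * m * k⁻¹ ∈ M) →
      ∀ u ∈ Eb, ∀ p ∈ Q, u * p * u⁻¹ ∈ Q := by
    intro M Q hM hQ hnorm u hu p hp
    obtain ⟨k, hk, rfl⟩ := (hEb u).1 hu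
    obtain ⟨m, hm, rfl⟩ := (hQ p).1 hp
    exact (hQ _).2 ⟨k * m * k⁻¹, hnorm k hk m hm, Cb.phi_conj (hKb k hk) (mem_CB.1 (hM hm)).2⟩
  have bound : ∀ Q : Subgroup A, Q ≤ U → (∀ u ∈ Eb, ∀ p ∈ Q, u * p * u⁻¹ ∈ Q) →
      Nat.card X ∣ Nat.card (normalizer ((Q.subgroupOf U : Subgroup U) : Set U)) := by
    intro Q hQU hQn
    rw [← Nat.card_congr (Subgroup.subgroupOfEquivOfLe (inf_le_right : X ≤ U)).toEquiv]
    refine Subgroup.card_dvd_of_le fun u hu => ?_
    have huE : (u : A) ∈ Eb := hu.1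
    rw [mem_normalizer_iff]
    refine fun p => ⟨fun hp => hQn _ huE _ hp, fun hp => ?_⟩
    have := hQn _ (inv_mem huE) _ hp
    simpa [mem_subgroupOf, mul_assoc] using this
  have hnormP : ∀ k ∈ K, ∀ m ∈ CB J a b, k * m * k⁻¹ ∈ CB J a b := fun k hk m hm =>
    mem_CB.2 ⟨Ca.normal k (hKa k hk) m hm.1,
      ((hKb k hk).mul_left (mem_CB.1 hm).2).mul_left (hKb k hk).inv_left⟩
  have hP0n : ∀ u ∈ Eb, ∀ p ∈ P ⊓ U, u * p * u⁻¹ ∈ P ⊓ U := fun u hu p hp =>
    ⟨norm_img _ P le_rfl hP hnormP u hu p hp.1, Subgroup.Normal.conj_mem ‹_› p hp.2 u⟩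
  obtain ⟨hEe, hEc⟩ := inner_sub (inf_le_right : P ⊓ U ≤ U)
    ⟨fun p hp => hPe.1 p hp.1, fun p hp q hq => hPe.2 p hp.1 q hq.1⟩
  have hdvd : Nat.card ↥(P ⊓ U) ∣ 2 ^ 7 := by
    have h1 : Nat.card P ∣ 256 := Dvd.intro_left _ hcard.symm
    rw [hP2] at h1
    exact Nat.dvd_of_mul_dvd_mul_left (show 0 < 2 by norm_num) (show 2 * _ ∣ 2 * 2 ^ 7 from h1)
  obtain ⟨n, hn, hn'⟩ := (Nat.dvd_prime_pow Nat.prime_two).1 hdvd
  have hle16 : Nat.card ↥(P ⊓ U) ≤ 16 := hEc ▸ hT.elem _ hEe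
  have h4 : Nat.card ↥(P ⊓ U) = 4 ∨ Nat.card ↥(P ⊓ U) = 8 ∨ Nat.card ↥(P ⊓ U) = 16 := by
    interval_cases n <;> omega
  rcases h4 with e | e | e
  · have h1 := hT.four _ hEe (hEc.trans e)
    have := Nat.le_of_dvd Nat.card_pos (bound _ inf_le_right hP0n)
    omega
  swap
  · exact S.facts.outer_sixteen c (hPe.1 c hcP) hj₀U _ inf_le_right
      ⟨fun p hp => hPe.1 p hp.1, fun p hp q hq => hPe.2 p hp.1 q hq.1⟩ e
      fun p hp => hPe.2 c hcP p hp.1
  have hX' : Nat.card X = 192 := by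
    have h1 := (hT.eight _ hEe (hEc.trans e)).1
    have := Nat.le_of_dvd Nat.card_pos (bound _ inf_le_right hP0n)
    omega
  have hD16 : Nat.card D = 16 := by rw [hP2, e] at hcard; omega
  set Cd := J a ⊓ centralizer (D : Set G) with hCd
  have hbD : b ∈ D := ⟨hb, Cb.mem⟩
  have hCdC : Cd ≤ CB J a b := fun j hj =>
    mem_CB.2 ⟨hj.1, (mem_centralizer_iff.1 hj.2 b hbD).symm⟩
  have hCd64 : Nat.card Cd = 64 := by
    have hd := Ca.dual (A := D) inf_le_left ⟨Ca.mem, ha⟩
    rw [hD16] at hd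
    have : Nat.card Cd = {j | j ∈ J a ∧ ∀ y ∈ D, Commute j y}.ncard := by
      rw [← Nat.card_coe_set_eq]
      refine Nat.card_congr (Equiv.subtypeEquivRight fun j => ?_)
      simp only [hCd, mem_inf, mem_centralizer_iff, Set.mem_ofPred_eq, SetLike.mem_coe, Commute,
        SemiconjBy, eq_comm]
    omega
  obtain ⟨B, hB, hBc⟩ := image_card Cb (M := Cd) fun j hj => (mem_CB.1 (hCdC hj)).2
  rw [show Cd ⊓ J b = D from le_antisymm (fun j hj => ⟨hj.1.1, hj.2⟩)
    fun j hj => ⟨⟨hj.1, mem_centralizer_iff.2 fun y hy => (hDcomm y hy j hj).eq⟩, hj.2⟩,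
    hCd64, hD16] at hBc
  have hB4 : Nat.card B = 4 := by omega
  have hBP : B ≤ P := fun p hp => by
    obtain ⟨j, hj, rfl⟩ := (hB p).1 hp
    exact (hP _).2 ⟨j, hCdC hj, rfl⟩
  have hBn : ∀ u ∈ Eb, ∀ p ∈ B, u * p * u⁻¹ ∈ B := by
    refine norm_img _ B hCdC hB fun k hk m hm =>
      ⟨Ca.normal k (hKa k hk) m hm.1, mem_centralizer_iff.2 fun y hy => ?_⟩
    have hy' : k⁻¹ * y * k ∈ D := by
      refine ⟨?_, ?_⟩
      · have := Ca.normal k⁻¹ (hKa k hk).inv_left y hy.1
        rwa [inv_inv] at this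
      · have := Cb.normal k⁻¹ (hKb k hk).inv_left y hy.2
        rwa [inv_inv] at this
    have e1 : k⁻¹ * y * k * m = m * (k⁻¹ * y * k) := mem_centralizer_iff.1 hm.2 _ hy'
    calc y * (k * m * k⁻¹) = k * (k⁻¹ * y * k * m) * k⁻¹ := by group
      _ = k * m * k⁻¹ * y := by rw [e1]; group
  have hBe : Elem2 B := ⟨fun p hp => hPe.1 p (hBP hp), fun p hp q hq => hPe.2 p (hBP hp) q (hBP hq)⟩
  by_cases hBU : B ≤ U
  · obtain ⟨hBe', hBc'⟩ := inner_sub hBU hBe
    have h1 := hT.four _ hBe' (hBc'.trans hB4)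
    have := Nat.le_of_dvd Nat.card_pos (bound _ hBU hBn)
    omega
  obtain ⟨c', hc'B, hc'U⟩ := SetLike.not_le_iff_exists.1 hBU
  have hB2 : Nat.card ↥(B ⊓ U) = 2 := by
    have h1 := half_index (H := B) S.facts.index
    have h2 := PairB.two_mul_le_card inf_le_left hc'B fun hh => hc'U (hh : c' ∈ B ⊓ U).2
    omega
  have hout : ((B : Set A) \ U).ncard = 2 := by
    have h1 := Set.ncard_inter_add_ncard_sdiff_eq_ncard (B : Set A) (U : Set A)
    rw [← Subgroup.coe_inf, ← Nat.card_coe_set_eq ((B ⊓ U : Subgroup A) : Set A),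
      ← Nat.card_coe_set_eq (B : Set A)] at h1
    change Nat.card ↥(B ⊓ U) + _ = Nat.card B at h1
    omega
  set St := X ⊓ centralizer ({c'} : Set A) with hSt
  have hSt96 : 96 ≤ Nat.card St := by
    by_cases hg : ∃ g ∈ X, g ∉ St
    swap
    · push Not at hg
      have := Nat.card_le_card_of_injective _ (Subgroup.inclusion_injective (show X ≤ St from hg))
      omega
    obtain ⟨g, hgX, hgS⟩ := hg
    have hmem : ∀ y ∈ X, y * c' * y⁻¹ ∈ (B : Set A) \ U := fun y hy =>
      ⟨hBn y hy.1 c' hc'B, fun hh => hc'U (by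
        have := Subgroup.Normal.conj_mem ‹_› _ hh y⁻¹
        simpa [mul_assoc] using this)⟩
    have hfix : ∀ y ∈ X, y ∉ St → y * c' * y⁻¹ ≠ c' := fun y hy hyS e =>
      hyS ⟨hy, mem_centralizer_singleton_iff.2 (mul_inv_eq_iff_eq_mul.1 e)⟩
    obtain ⟨p, q, hpq, hset⟩ := Set.ncard_eq_two.1 hout
    have hsub : (X : Set A) ⊆ (St : Set A) ∪ (fun y => g * y) '' (St : Set A) := by
      intro y hy
      by_cases hyS : y ∈ St
      · exact Or.inl hyS
      refine Or.inr ⟨g⁻¹ * y, ⟨X.mul_mem (X.inv_mem hgX) hy, ?_⟩, mul_inv_cancel_left g y⟩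
      have e1 : g * c' * g⁻¹ = y * c' * y⁻¹ := by
        have m1 := hmem g hgX
        have m2 := hmem y hy
        have m3 : c' ∈ (B : Set A) \ U := ⟨hc'B, hc'U⟩
        have n1 := hfix g hgX hgS
        have n2 := hfix y hy hyS
        rw [hset] at m1 m2 m3
        rcases m1 with m1 | m1 <;> rcases m2 with m2 | m2
        · rw [m1, m2]
        · rcases m3 with m3 | m3
          · exact absurd (m1.trans m3.symm) n1
          · exact absurd ((Set.mem_singleton_iff.1 m2).trans (Set.mem_singleton_iff.1 m3).symm) n2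
        · rcases m3 with m3 | m3
          · exact absurd (m2.trans m3.symm) n2
          · exact absurd ((Set.mem_singleton_iff.1 m1).trans (Set.mem_singleton_iff.1 m3).symm) n1
        · rw [Set.mem_singleton_iff.1 m1, Set.mem_singleton_iff.1 m2]
      refine mem_centralizer_singleton_iff.2 ?_
      calc g⁻¹ * y * c' = g⁻¹ * (y * c' * y⁻¹) * y := by group
        _ = c' * (g⁻¹ * y) := by rw [← e1]; group
    have := (Set.ncard_le_ncard hsub (Set.toFinite _)).trans (Set.ncard_union_le _ _)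
    rw [Set.ncard_image_of_injective _ (mul_right_injective g), ← Nat.card_coe_set_eq,
      ← Nat.card_coe_set_eq] at this
    change Nat.card X ≤ Nat.card St + Nat.card St at this
    omega
  refine S.facts.outer_stab c' (hBe.1 c' hc'B) hc'U ?_
  have h1 : Nat.card St ∣ Nat.card X := Subgroup.card_dvd_of_le inf_le_left
  have h2 : Nat.card St ∣ Nat.card ↥(centralizer ({c'} : Set A) ⊓ U) :=
    Subgroup.card_dvd_of_le fun y hy => ⟨hy.2, hy.1.2⟩
  refine dvd_trans ?_ h2
  rw [hX'] at h1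
  obtain ⟨m, hm⟩ := h1
  have hm2 : m ≤ 2 := by nlinarith
  interval_cases m <;> omega

/-- Conjugating inside `J a` does not change which elements are inner. -/
theorem move_iff {k : G} (hka : Commute k a) (hkb : Commute k b) :
    φ (b * a) k ∈ U ↔ φ b k ∈ U := by
  have Ca := S.ctx a h.1
  have Cb := S.ctx b h.2.1
  obtain ⟨j, hj, hjb⟩ := not_central S h hb
  have hjb' : j * b * j⁻¹ = b * a := by
    rcases Ca.comm j hj b hb with e | e
    · exact absurd (e : Commute j b).symm hjb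
    · rw [e, h.2.2.2.eq.symm]
      group
  set k₀ := j⁻¹ * k * j with hk₀
  have hja : Commute j a := Ca.le j hj
  have hk₀a : Commute k₀ a := (hja.inv_left.mul_left hka).mul_left hja
  have hk₀b : Commute k₀ b := by
    have h1 := U62RecogSetup19.commute_cj j⁻¹ (hkb.mul_right hka)
    rw [← hjb'] at h1
    simpa [hk₀, mul_assoc] using h1
  have e1 := S.U_conj b h.2.1 j k₀ hk₀b
  rw [hjb', show j * k₀ * j⁻¹ = k by rw [hk₀]; group] at e1
  rw [e1]
  set e := k₀ * k⁻¹ with he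
  have heJ : e ∈ J a := by
    rw [he, hk₀, show j⁻¹ * k * j * k⁻¹ = j⁻¹ * (k * j * k⁻¹) by group]
    exact (J a).mul_mem ((J a).inv_mem hj) (Ca.normal k hka j hj)
  have heb : Commute e b := hk₀b.mul_left hkb.inv_left
  have hk : k₀ = e * k := by rw [he, inv_mul_cancel_right]
  rw [hk, Cb.hom _ _ heb hkb]
  exact U.mul_mem_cancel_left (inner_image S h hb e (mem_CB.2 ⟨heJ, heb⟩))

/-- The two points see the same inner elements. -/
theorem sameSign : SameSign U φ a b := by
  intro k hka hkb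
  have hs : Pair Ω b a := ⟨h.2.1, h.1, h.2.2.1.symm, h.2.2.2.symm⟩
  have e1 := move_iff S h hb hka hkb
  have e2 := move_iff S hs (mem_symm S h hb) hkb hka
  rw [h.2.2.2.eq] at e2
  exact e2.symm.trans e1

end AJ

end Cfsg.Agent.U62From98
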