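import Cfsg.Agent.Lib.U62From98AMain
import Cfsg.Agent.Lib.U62From98AJ

/-!
The facts about members of `Ω` inside the subgroup of another, packaged (helper53).
-/

set_option autoImplicit false

namespace Cfsg.Agent.U62From98

universe u v

variable {G : Type u} [Group G] [Finite G] {A : Type v} [Group A]
variable {z : G} {Ω : Set G} {U : Subgroup A} {r σ : A} {J : G → Subgroup G} {φ : G → G → A}

/-- Both facts needed about two members of `Ω`, one in the subgroup of the other. -/
theorem ASys.jFacts (S : ASys z Ω U r σ J φ) : JFacts Ω U J φ :=
  ⟨fun _ _ h hb => AJ.mem_symm S h hb, fun _ _ h hb => AJ.sameSign S h hb⟩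

end Cfsg.Agent.U62From98
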