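import Cfsg.Agent.Lib.U62From98ARefl

/-!
The subgroup of `H` over the fixed space of the reflection: its centralizer among the conjugates of
`z`, and the same for the centralizer of an involution of `J` (helper98).
-/

set_option autoImplicit false
set_option linter.unusedSectionVars false
set_option linter.style.haveILetI false

namespace Cfsg.Agent.U62From98

open Subgroup

universe u v

variable {G : Type u} [Group G] {A : Type v} [Group A]

/-- What is known about a member of `Ω` inside the subgroup `J` of another. -/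
structure JFacts (Ω : Set G) (U : Subgroup A) (J : G → Subgroup G) (φ : G → G → A) : Prop where
  mem_symm : ∀ a b : G, Pair Ω a b → b ∈ J a → a ∈ J b
  same : ∀ a b : G, Pair Ω a b → b ∈ J a → SameSign U φ a b

namespace Ctx

variable {a : G} {J : Subgroup G} {φ : G → A} (C : Ctx a J φ)
include C

theorem chi_a {i : G} (hi : i ∈ J) : chi i a = 1 := chi_pos (C.le i hi).eq

theorem chi_inv {i p : G} (hi : i ∈ J) (hp : p ∈ J) : chi i p⁻¹ = chi i p := by
  by_cases h : Commute i p
  · rw [chi_pos h.eq, chi_pos h.inv_right.eq]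
  · rw [chi_neg h, chi_neg fun e => h (by simpa using (show Commute i p⁻¹ from e).inv_right)]

theorem chi_symm (x y : G) : chi x y = chi y x := by
  by_cases h : x * y = y * x
  · rw [chi_pos h, chi_pos h.symm]
  · rw [chi_neg h, chi_neg fun e => h e.symm]

/-- Conjugation inside `J` does not change signs. -/
theorem chi_inner {i p s : G} (hi : i ∈ J) (hp : p ∈ J) (hs : s ∈ J) :
    chi i (s * p * s⁻¹) = chi i p := by
  rcases C.comm s hs p hp with e | e
  · rw [e, mul_inv_cancel_right]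
  · rw [e, ← mul_assoc, mul_inv_cancel_right, C.comm_mul hi C.mem hp, C.chi_a hi, one_mul]

/-- Elements with the same signs agree modulo `⟨a⟩`. -/
theorem coset_eq {p q : G} (hp : p ∈ J) (hq : q ∈ J) (h : ∀ l ∈ J, chi p l = chi q l) :
    p = q ∨ p = a * q := by
  have hc : ∀ l ∈ J, Commute (p * q⁻¹) l := by
    intro l hl
    have h1 : chi l (p * q⁻¹) = 1 := by
      rw [C.comm_mul hl hp (J.inv_mem hq), C.chi_inv hl hq, C.chi_symm l p, h l hl, C.chi_symm q l]
      by_cases e : l * q = q * l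
      · rw [chi_pos e]; norm_num
      · rw [chi_neg e]; norm_num
    by_contra hn
    rw [chi_neg fun e => hn e.symm] at h1
    norm_num at h1
  rcases C.center _ (J.mul_mem hp (J.inv_mem hq)) hc with e | e
  · exact Or.inl (mul_inv_eq_one.1 e)
  · exact Or.inr (mul_inv_eq_iff_eq_mul.1 e)

theorem exists_sign {u : A} (hu : u * u = 1) {x : G} (hx : Commute x a) (hxu : φ x = u) :
    x * x ∈ J := (C.ker _ (hx.mul_left hx)).1 (by rw [C.hom _ _ hx hx, hxu, hu])

/-- An element centralizing `K` moves `J` into the centralizer of `K`. -/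
theorem move_perp {K : Subgroup G} (hK : K ≤ J) {y i : G} (hy : Commute y a)
    (hc : ∀ k ∈ K, Commute y k) (hi : i ∈ J) : y * i * y⁻¹ * i⁻¹ ∈ perpIn J K := by
  have hyi : y * i * y⁻¹ ∈ J := C.normal y hy i hi
  refine mem_perpIn.2 ⟨J.mul_mem hyi (J.inv_mem hi), fun k hk => ?_⟩
  have h1 : chi k (y * i * y⁻¹ * i⁻¹) = 1 := by
    rw [C.comm_mul (hK hk) hyi (J.inv_mem hi), C.chi_inv (hK hk) hi]
    conv_lhs => arg 1; rw [show k = y * k * y⁻¹ by rw [(hc k hk).eq, mul_inv_cancel_right]]
    rw [C.chi_conj]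
    by_cases e : k * i = i * k
    · rw [chi_pos e]; norm_num
    · rw [chi_neg e]; norm_num
  by_contra hn
  rw [chi_neg fun e => hn e.symm] at h1
  norm_num at h1

end Ctx

namespace RLift

variable {a : G} {J : Subgroup G} {φ : G → A} {r : A} {x : G} {K : Subgroup G}
  (L : RLift a J φ r x K) (C : Ctx a J φ)
include L C

theorem a_mem : a ∈ K :=
  (L.mem_iff a C.mem).2 (Or.inl (by rw [L.comm.eq, mul_inv_cancel_right]))

variable (hr : r * r = 1)
include hr

theorem perp_le : perpIn J K ≤ K := by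
  intro j hj
  obtain ⟨hjJ, hjc⟩ := mem_perpIn.1 hj
  have hs := C.exists_sign hr L.comm L.img
  have hxJ : ∀ p ∈ J, x⁻¹ * p * x ∈ J := fun p hp => by
    simpa using C.normal x⁻¹ L.comm.inv_left p hp
  have hx' : ∀ p ∈ J, x * p * x⁻¹ ∈ J := C.normal x L.comm
  have hconj : ∀ p l : G, chi (x * p * x⁻¹) l = chi p (x⁻¹ * l * x) := fun p l => by
    conv_lhs => arg 2; rw [show l = x * (x⁻¹ * l * x) * x⁻¹ by group]
    rw [C.chi_conj]
  have hK : ∀ i ∈ J, i⁻¹ * (x⁻¹ * i * x) ∈ K := by
    intro i hi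
    set i' := x⁻¹ * i * x with hi'
    have hw : i⁻¹ * i' ∈ J := J.mul_mem (J.inv_mem hi) (hxJ i hi)
    refine (L.mem_iff _ hw).2 (C.coset_eq (hx' _ hw) hw fun l hl => ?_)
    rw [hconj, C.chi_symm, C.comm_mul (hxJ l hl) (J.inv_mem hi) (hxJ i hi), C.chi_inv (hxJ l hl) hi]
    have e1 : chi (x⁻¹ * l * x) i' = chi l i := by
      rw [hi']
      have := C.chi_conj x⁻¹ l i
      simpa using this
    have e2 : chi (x⁻¹ * l * x) i = chi l i' := by
      calc chi (x⁻¹ * l * x) i = chi i (x⁻¹ * l * x) := C.chi_symm _ _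
        _ = chi i (x * x * (x⁻¹ * l * x) * (x * x)⁻¹) := (C.chi_inner hi (hxJ l hl) hs).symm
        _ = chi i (x * l * x⁻¹) := by group
        _ = chi (x * (x⁻¹ * i * x) * x⁻¹) (x * l * x⁻¹) := by group
        _ = chi i' l := C.chi_conj x _ _
        _ = chi l i' := C.chi_symm _ _
    rw [e1, e2, C.chi_symm (i⁻¹ * i') l, C.comm_mul hl (J.inv_mem hi) (hxJ i hi), C.chi_inv hl hi]
    ring
  refine (L.mem_iff j hjJ).2 (C.coset_eq (hx' j hjJ) hjJ fun i hi => ?_)
  rw [hconj]
  have h1 : chi j (i⁻¹ * (x⁻¹ * i * x)) = 1 := chi_pos (hjc _ (hK i hi)).eq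
  rw [C.comm_mul hjJ (J.inv_mem hi) (hxJ i hi), C.chi_inv hjJ hi] at h1
  by_cases e : j * i = i * j
  · rw [chi_pos e, one_mul] at h1; rw [h1, chi_pos e]
  · rw [chi_neg e] at h1; rw [chi_neg e]; omega

variable [Finite G]

theorem card_ge : 32 ≤ Nat.card K := by
  have h := C.dual' L.le (L.a_mem C)
  have hle := card_le_of_le (L.perp_le C hr)
  nlinarith

theorem not_cent {g : G} (hg : orderOf g = 5) (hga : Commute g a) : ¬ ∀ k ∈ K, Commute g k := by
  intro hall
  obtain ⟨h32, hcen⟩ := C.five_fixed hg hga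
  have hsub : (K : Set G) ⊆ {j | j ∈ J ∧ Commute g j} := fun k hk => ⟨L.le hk, hall k hk⟩
  have heq := Set.eq_of_subset_of_ncard_le hsub (h32.trans (by
    rw [← Nat.card_coe_set_eq]; exact L.card_ge C hr)) (Set.toFinite _)
  have hp : perpIn J K ≤ Subgroup.zpowers a := by
    intro j hj
    obtain ⟨hjJ, hjc⟩ := mem_perpIn.1 hj
    have hjK : j ∈ K := L.perp_le C hr hj
    rcases hcen j hjJ (hall j hjK) (fun k hk hgk => hjc k (by
      have : k ∈ (K : Set G) := heq ▸ ⟨hk, hgk⟩
      exact this)) with rfl | rfl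
    · exact one_mem _
    · exact mem_zpowers _
  have h2 : Nat.card (Subgroup.zpowers a) ≤ 2 := by
    rw [Nat.card_zpowers]
    exact orderOf_le_of_pow_eq_one two_pos (by rw [pow_two]; exact C.sq)
  have := (card_le_of_le hp).trans h2
  have h := C.dual' L.le (L.a_mem C)
  have hK32 : Nat.card K ≤ 32 := by
    rw [show Nat.card K = (K : Set G).ncard from Nat.card_coe_set_eq _, heq]; exact h32
  nlinarith

/-- Elements over the centralizer of `r` normalize `K`. -/
theorem conj_mem {g : G} (hga : Commute g a) (hgr : Commute (φ g) r) {k : G} (hk : k ∈ K) :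
    g * k * g⁻¹ ∈ K := by
  have hgk : g * k * g⁻¹ ∈ J := C.normal g hga k (L.le hk)
  set h := g⁻¹ * x * g with hh
  have hha : Commute h a := (hga.inv_left.mul_left L.comm).mul_left hga
  have hv : x⁻¹ * h ∈ J := (C.phi_eq_iff L.comm hha).1 (by
    rw [hh, C.hom _ _ (hga.inv_left.mul_left L.comm) hga, C.hom _ _ hga.inv_left L.comm,
      C.phi_inv hga, L.img, mul_assoc, ← hgr.eq, inv_mul_cancel_left])
  have hxg : x * (g * k * g⁻¹) * x⁻¹ = g * (h * k * h⁻¹) * g⁻¹ := by rw [hh]; group
  have hga' : g * a * g⁻¹ = a := by rw [hga.eq, mul_inv_cancel_right]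
  have hxa : x * a * x⁻¹ = a := by rw [L.comm.eq, mul_inv_cancel_right]
  refine (L.mem_iff _ hgk).2 ?_
  rw [hxg, show h * k * h⁻¹ = x * (x⁻¹ * h * k * (x⁻¹ * h)⁻¹) * x⁻¹ by group]
  rcases C.comm _ hv k (L.le hk) with e | e
  · left; rw [e, mul_inv_cancel_right, (L.cent k hk).eq, mul_inv_cancel_right]
  · right
    rw [e, ← mul_assoc a k, mul_inv_cancel_right,
      show x * (a * k) * x⁻¹ = x * a * x⁻¹ * (x * k * x⁻¹) by group, hxa, (L.cent k hk).eq,
      mul_inv_cancel_right, show g * (a * k) * g⁻¹ = g * a * g⁻¹ * (g * k * g⁻¹) by group, hga']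

/-- `K` is generated by its involutions. -/
theorem gen {g : G} (hg : orderOf g = 5) (hga : Commute g a) (hgr : Commute (φ g) r) :
    invClosure K = K := by
  classical
  have hgK : ∀ k ∈ K, g * k * g⁻¹ ∈ K := fun k hk => L.conj_mem C hr hga hgr hk
  have hgP : ∀ j ∈ perpIn J K, g * j * g⁻¹ ∈ perpIn J K := by
    intro j hj
    obtain ⟨hjJ, hjc⟩ := mem_perpIn.1 hj
    refine mem_perpIn.2 ⟨C.normal g hga j hjJ, fun k hk => ?_⟩
    have hk' : g⁻¹ * k * g ∈ K := by
      have h5 : g⁻¹ = g ^ 4 := inv_eq_of_mul_eq_one_right (by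
        rw [← pow_succ']; show g ^ 5 = 1; rw [← hg]; exact pow_orderOf_eq_one g)
      have := L.conj_mem C hr (g := g⁻¹) hga.inv_left (by rw [C.phi_inv hga]; exact hgr.inv_left) hk
      rwa [inv_inv] at this
    have := U62RecogSetup19.commute_cj g (hjc _ hk')
    rwa [show g * (g⁻¹ * k * g) * g⁻¹ = k by group] at this
  have hPK := L.perp_le C hr
  have hdual := C.dual' L.le (L.a_mem C)
  have h32 := L.card_ge C hr
  by_cases hnc : ∃ i ∈ K, i * i = 1 ∧ ∃ k ∈ K, ¬ Commute i k
  · obtain ⟨i, hi, hii, k, hk, hik⟩ := hnc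
    exact C.invClosure_of_noncentral L.le hi hii hk hik
  push Not at hnc
  -- every involution of `K` is central in `K`
  have hinvP : ∀ i ∈ K, i * i = 1 → i ∈ perpIn J K := fun i hi hii =>
    mem_perpIn.2 ⟨L.le hi, hnc i hi hii⟩
  have h5 : ∀ M : Subgroup G, M ≤ J → (∀ m ∈ M, g * m * g⁻¹ ∈ M) → a ∈ M → Nat.card M ≤ 16 →
      ∀ m ∈ M, Commute g m := by
    intro M hMJ hM haM h16
    set F := M ⊓ centralizer ({g} : Set G) with hF
    have hFset : {m | m ∈ M ∧ Commute g m}.ncard = Nat.card F := by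
      rw [← Nat.card_coe_set_eq]
      exact Nat.card_congr (Equiv.setCongr (Set.ext fun m =>
        ⟨fun h => ⟨h.1, mem_centralizer_singleton_iff.2 h.2.eq.symm⟩,
          fun h => ⟨h.1, (mem_centralizer_singleton_iff.1 h.2).symm⟩⟩))
    have hmod := fixed_mod_five M hg hM
    rw [hFset] at hmod
    obtain ⟨m1, h1, e1⟩ := (Nat.dvd_prime_pow Nat.prime_two).1
      (show Nat.card M ∣ 2 ^ 9 by rw [show 2 ^ 9 = 512 by norm_num, ← C.card]; exact card_dvd_of_le hMJ)
    obtain ⟨m2, h2, e2⟩ := (Nat.dvd_prime_pow Nat.prime_two).1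
      (show Nat.card F ∣ 2 ^ 9 by
        rw [show 2 ^ 9 = 512 by norm_num, ← C.card]; exact card_dvd_of_le (inf_le_left.trans hMJ))
    have hge2 : 2 ≤ Nat.card F := by
      have hzF : Subgroup.zpowers a ≤ F := by
        rw [zpowers_le]
        exact ⟨haM, mem_centralizer_singleton_iff.2 hga.eq.symm⟩
      have := card_le_of_le hzF
      rwa [Nat.card_zpowers, orderOf_eq_prime (p := 2) (by rw [pow_two]; exact C.sq) C.ne_one] at this
    have hle : Nat.card F ≤ Nat.card M := card_le_of_le inf_le_left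
    have heq : Nat.card F = Nat.card M := by
      have hm1 : m1 ≤ 4 := by
        by_contra h
        have : 2 ^ 5 ≤ 2 ^ m1 := Nat.pow_le_pow_right (by norm_num) (by omega)
        omega
      have hm2 : m2 ≤ m1 := (Nat.pow_le_pow_iff_right (le_refl 2)).1 (by omega)
      rw [e1, e2] at hmod ⊢
      rw [e2] at hge2
      interval_cases m1 <;> interval_cases m2 <;> simp_all [Nat.ModEq]
    have hFM : F = M := Subgroup.eq_of_le_of_card_ge inf_le_left heq.ge
    intro m hm
    have : m ∈ F := by rw [hFM]; exact hm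
    exact (mem_centralizer_singleton_iff.1 this.2).symm
  rcases eq_or_lt_of_le h32 with h | h
  · -- `K` is abelian: squaring is a homomorphism
    have hPeq : perpIn J K = K := Subgroup.eq_of_le_of_card_ge hPK (by nlinarith)
    have hab : ∀ p ∈ K, ∀ q ∈ K, Commute p q := fun p hp q hq => by
      have : p ∈ perpIn J K := by rw [hPeq]; exact hp
      exact (mem_perpIn.1 this).2 q hq
    let M : Subgroup G :=
      { carrier := {m | m ∈ K ∧ m * m = 1}
        one_mem' := ⟨K.one_mem, one_mul 1⟩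
        mul_mem' := fun {p q} hp hq => ⟨K.mul_mem hp.1 hq.1, by
          rw [C.a_sq_mul (hab p hp.1 q hq.1), hp.2, hq.2, one_mul]⟩
        inv_mem' := fun {p} hp => ⟨K.inv_mem hp.1, by rw [← mul_inv_rev, hp.2, inv_one]⟩ }
    refine le_antisymm C.invClosure_le fun k hk => ?_
    by_contra hkL
    have hk2 : k * k = a :=
      (C.squares k (L.le hk)).resolve_left fun e => hkL (subset_closure ⟨hk, e⟩)
    have hM16 : Nat.card M ≤ 16 := by
      have hlt : Nat.card M < Nat.card K := by
        refine lt_of_le_of_ne (card_le_of_le fun m hm => hm.1) fun e => ?_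
        have hMK : M = K := Subgroup.eq_of_le_of_card_ge (fun m hm => hm.1) e.ge
        have : k ∈ M := by rw [hMK]; exact hk
        exact C.ne_one (hk2.symm.trans this.2)
      obtain ⟨t, ht⟩ := card_dvd_of_le (show M ≤ K from fun m hm => hm.1)
      rw [← h] at ht hlt
      rcases Nat.lt_or_ge t 2 with h2 | h2
      · interval_cases t <;> omega
      · nlinarith
    have hMfix := h5 M (fun m hm => L.le hm.1)
      (fun m hm => ⟨hgK m hm.1, by
        rw [show g * m * g⁻¹ * (g * m * g⁻¹) = g * (m * m) * g⁻¹ by group, hm.2]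
        group⟩) ⟨L.a_mem C, C.sq⟩ hM16
    -- `k` is then fixed modulo `M`, hence fixed
    refine L.not_cent C hr hg hga fun p hp => ?_
    have hcos : ∀ q ∈ K, q * q = a → q⁻¹ * k ∈ M := fun q hq e => ⟨K.mul_mem (K.inv_mem hq) hk, by
      rw [C.a_sq_mul (hab _ (K.inv_mem hq) k hk), hk2, ← mul_inv_rev, e, C.a_inv, C.sq]⟩
    have hkfix : Commute g k := by
      -- `g` fixes `k` modulo the fixed subgroup `M`, so by odd order fixes it
      have hgk2 : g * k * g⁻¹ * (g * k * g⁻¹) = a := by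
        rw [show g * k * g⁻¹ * (g * k * g⁻¹) = g * (k * k) * g⁻¹ by group, hk2, hga.eq, mul_inv_cancel_right]
      set m := (g * k * g⁻¹)⁻¹ * k with hm
      have hmM : m ∈ M := hcos _ (hgK k hk) hgk2
      have hgm : Commute g m := hMfix m hmM
      have hstep : g * k * g⁻¹ = k * m⁻¹ := by rw [hm]; group
      have hmi : Commute g m⁻¹ := hgm.inv_right
      have iter : ∀ i : ℕ, g ^ i * k * (g ^ i)⁻¹ = k * m⁻¹ ^ i := by
        intro i
        induction i with
        | zero => simp
        | succ i ih =>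
          rw [pow_succ', show g * g ^ i * k * (g * g ^ i)⁻¹ = g * (g ^ i * k * (g ^ i)⁻¹) * g⁻¹ by group,
            ih, show g * (k * m⁻¹ ^ i) * g⁻¹ = g * k * g⁻¹ * (g * m⁻¹ ^ i * g⁻¹) by group, hstep,
            (hmi.pow_right i).eq, mul_inv_cancel_right, pow_succ', mul_assoc]
      have h5k := iter 5
      have hm2 : m⁻¹ * m⁻¹ = 1 := by rw [← mul_inv_rev, hmM.2, inv_one]
      rw [← hg, pow_orderOf_eq_one, one_mul, inv_one, mul_one, hg, pow_succ, show (4 : ℕ) = 2 * 2 from rfl,
        pow_mul, pow_two m⁻¹, hm2, one_pow, one_mul] at h5k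
      have : m⁻¹ = 1 := left_eq_mul.1 h5k
      rw [this, mul_one] at hstep
      exact mul_inv_eq_iff_eq_mul.1 hstep
    rcases C.squares p (L.le hp) with e | e
    · exact hMfix p ⟨hp, e⟩
    · have := hMfix _ (hcos p hp e)
      have h3 := hkfix.mul_right this.inv_right
      rwa [mul_inv_rev, inv_inv, mul_inv_cancel_left] at h3
  · -- large `K`: the complement of the fixed subgroup contains an involution
    exfalso
    have hP16 : Nat.card (perpIn J K) ≤ 16 := by
      by_contra h'
      obtain ⟨m1, h1, e1⟩ := (Nat.dvd_prime_pow Nat.prime_two).1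
        (show Nat.card (perpIn J K) ∣ 2 ^ 9 by
          rw [show 2 ^ 9 = 512 by norm_num, ← C.card]; exact card_dvd_of_le inf_le_left)
      have : 5 ≤ m1 := by
        by_contra h''
        have : 2 ^ m1 ≤ 2 ^ 4 := Nat.pow_le_pow_right (by norm_num) (by omega)
        omega
      have : 2 ^ 5 ≤ 2 ^ m1 := Nat.pow_le_pow_right (by norm_num) this
      nlinarith
    have haP : a ∈ perpIn J K := mem_perpIn.2 ⟨C.mem, fun k hk => (C.le k (L.le hk)).symm⟩
    have hPfix := h5 _ inf_le_left hgP haP hP16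
    obtain ⟨hF32, hcen⟩ := C.five_fixed hg hga
    set F := J ⊓ centralizer ({g} : Set G) with hF
    have hmemF : ∀ j, j ∈ F ↔ j ∈ J ∧ Commute g j := fun j =>
      ⟨fun h => ⟨h.1, (mem_centralizer_singleton_iff.1 h.2).symm⟩,
        fun h => ⟨h.1, mem_centralizer_singleton_iff.2 h.2.eq.symm⟩⟩
    have hFc : Nat.card F ≤ 32 := by
      refine le_trans (le_of_eq ?_) hF32
      rw [← Nat.card_coe_set_eq]
      exact Nat.card_congr (Equiv.setCongr (Set.ext hmemF))
    have haF : a ∈ F := (hmemF a).2 ⟨C.mem, hga⟩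
    have hPF : perpIn J K ≤ F := fun j hj => (hmemF j).2 ⟨(mem_perpIn.1 hj).1, hPfix j hj⟩
    have hQ : 32 ≤ Nat.card (perpIn J F) := by
      have := C.dual' (K := F) inf_le_left haF
      have hpos : 0 < Nat.card F := Nat.card_pos
      nlinarith
    obtain ⟨i, hi, hii, hiZ⟩ := C.exists_inv_out (A₁ := F) inf_le_left haF
      (Z₀ := Subgroup.zpowers a) (mem_zpowers a) (by
        rw [Nat.card_zpowers]
        exact (orderOf_le_of_pow_eq_one two_pos (by rw [pow_two]; exact C.sq)).trans (by norm_num)) hQ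
    obtain ⟨hiJ, hiF⟩ := mem_perpIn.1 hi
    -- the double centralizer of `perpIn J K` is `K`
    have hdd : perpIn J (perpIn J K) = K := by
      have hle : K ≤ perpIn J (perpIn J K) := fun k hk =>
        mem_perpIn.2 ⟨L.le hk, fun j hj => ((mem_perpIn.1 hj).2 k hk).symm⟩
      refine (Subgroup.eq_of_le_of_card_ge hle ?_).symm
      have h2 := C.dual' (K := perpIn J K) inf_le_left haP
      have hpos : 0 < Nat.card (perpIn J K) := Nat.card_pos
      nlinarith
    have hiK : i ∈ K := by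
      rw [← hdd]
      exact mem_perpIn.2 ⟨hiJ, fun j hj => hiF j (hPF hj)⟩
    obtain ⟨-, hgi⟩ := (hmemF i).1 (hPF (hinvP i hiK hii))
    rcases hcen i hiJ hgi (fun k hk hgk => hiF k ((hmemF k).2 ⟨hk, hgk⟩)) with e | e
    · exact hiZ (e ▸ one_mem _)
    · exact hiZ (e ▸ mem_zpowers _)

end RLift

end Cfsg.Agent.U62From98
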