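import Cfsg.Agent.Lib.U62From98AGen

/-!
A lift of the reflection centralizing the preimage of its fixed space; that preimage is generated by
involutions and is moved by the element of order five (helper98).
-/

set_option autoImplicit false
set_option linter.unusedSectionVars false
set_option linter.style.haveILetI false

namespace Cfsg.Agent.U62From98

open Subgroup

universe u v

variable {G : Type u} [Group G] {A : Type v} [Group A]

/-- The elements of `J` centralizing `K`. -/
def perpIn (J K : Subgroup G) : Subgroup G := J ⊓ centralizer (K : Set G)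

theorem mem_perpIn {J K : Subgroup G} {j : G} :
    j ∈ perpIn J K ↔ j ∈ J ∧ ∀ k ∈ K, Commute j k :=
  ⟨fun h => ⟨h.1, fun k hk => (mem_centralizer_iff.1 h.2 k hk).symm⟩,
    fun h => ⟨h.1, mem_centralizer_iff.2 fun k hk => (h.2 k hk).symm⟩⟩

/-- Fixed points of an element of order five on a finite subgroup. -/
theorem fixed_mod_five [Finite G] (M : Subgroup G) {g : G} (hg : orderOf g = 5)
    (hM : ∀ m ∈ M, g * m * g⁻¹ ∈ M) :
    Nat.card M ≡ {m | m ∈ M ∧ Commute g m}.ncard [MOD 5] := by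
  classical
  haveI : Fact (Nat.Prime 5) := ⟨by norm_num⟩
  have hinv : ∀ n : ℤ, ∀ m ∈ M, g ^ n * m * (g ^ n)⁻¹ ∈ M := by
    have hn : ∀ k : ℕ, ∀ m ∈ M, g ^ k * m * (g ^ k)⁻¹ ∈ M := fun k => by
      induction k with
      | zero => simp
      | succ k ih =>
        intro m hm
        rw [pow_succ', show g * g ^ k * m * (g * g ^ k)⁻¹ = g * (g ^ k * m * (g ^ k)⁻¹) * g⁻¹ by group]
        exact hM _ (ih m hm)
    intro n
    obtain ⟨k, hk⟩ : ∃ k : ℕ, g ^ k = g ^ n :=
      (mem_powers_iff_mem_zpowers.2 (mem_zpowers_iff.2 ⟨n, rfl⟩))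
    rw [← hk]; exact hn k
  letI : MulAction (zpowers g) M :=
    { smul := fun k m => ⟨(k : G) * m * (k : G)⁻¹, by
        obtain ⟨n, hn⟩ := mem_zpowers_iff.1 k.2
        rw [← hn]; exact hinv n m m.2⟩
      one_smul := fun m => Subtype.ext (show ((1 : zpowers g) : G) * m * _ = m by simp)
      mul_smul := fun k k' m => Subtype.ext (show ((k * k' : zpowers g) : G) * m * _ =
        (k : G) * ((k' : G) * m * (k' : G)⁻¹) * (k : G)⁻¹ by push_cast; group) }
  have hp : IsPGroup 5 (zpowers g) := IsPGroup.of_card (n := 1) (by rw [Nat.card_zpowers, hg, pow_one])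
  suffices e : Nat.card (MulAction.fixedPoints (zpowers g) M) = {m | m ∈ M ∧ Commute g m}.ncard by
    rw [← e]; exact hp.card_modEq_card_fixedPoints M
  rw [← Nat.card_coe_set_eq]
  refine Nat.card_congr ⟨fun m => ⟨(m : M), (m : M).2, ?_⟩, fun m => ⟨⟨m, m.2.1⟩, ?_⟩,
    fun m => rfl, fun m => rfl⟩
  · have := congrArg Subtype.val (m.2 ⟨g, mem_zpowers g⟩)
    exact mul_inv_eq_iff_eq_mul.1 this
  · intro k
    obtain ⟨n, hn⟩ := mem_zpowers_iff.1 k.2
    refine Subtype.ext (show (k : G) * (m : G) * (k : G)⁻¹ = m from ?_)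
    rw [← hn, (Commute.zpow_left m.2.2 n).eq, mul_inv_cancel_right]

namespace Ctx

variable {a : G} {J : Subgroup G} {φ : G → A} (C : Ctx a J φ)
include C

theorem chi_conj (g x y : G) : chi (g * x * g⁻¹) (g * y * g⁻¹) = chi x y := by
  by_cases h : x * y = y * x
  · rw [chi_pos h, chi_pos]
    exact U62RecogSetup19.commute_cj g h
  · rw [chi_neg h, chi_neg]
    exact fun e => h (U62RecogSetup19.commute_cj_iff.1 e)

/-- An element of odd order fixing a coset of `⟨a⟩` fixes it pointwise. -/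
theorem exact_fix {g k : G} (hg : orderOf g = 5) (hga : Commute g a)
    (h : g * k * g⁻¹ = k ∨ g * k * g⁻¹ = a * k) : Commute g k := by
  rcases h with h | h
  · exact mul_inv_eq_iff_eq_mul.1 h
  · exfalso
    have step : ∀ i : ℕ, g ^ i * k * (g ^ i)⁻¹ = a ^ i * k := by
      intro i
      induction i with
      | zero => simp
      | succ i ih =>
        rw [pow_succ', show g * g ^ i * k * (g * g ^ i)⁻¹ = g * (g ^ i * k * (g ^ i)⁻¹) * g⁻¹ by group,
          ih, show g * (a ^ i * k) * g⁻¹ = g * a ^ i * g⁻¹ * (g * k * g⁻¹) by group,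
          (hga.pow_right i).eq, mul_inv_cancel_right, h, pow_succ, mul_assoc]
    have h5 := step 5
    have a5 : a ^ 5 = a := by
      rw [pow_succ, show (4 : ℕ) = 2 * 2 from rfl, pow_mul, pow_two a, C.sq, one_pow, one_mul]
    rw [a5, ← hg, pow_orderOf_eq_one, one_mul, inv_one, mul_one] at h5
    exact C.ne_one (right_eq_mul.1 h5)

theorem perp_two : ∀ j ∈ perpIn J J, j = 1 ∨ j = a := fun j hj =>
  C.center j (mem_perpIn.1 hj).1 (mem_perpIn.1 hj).2

variable [Finite G]

theorem dual' {K : Subgroup G} (hK : K ≤ J) (ha : a ∈ K) :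
    Nat.card (perpIn J K) * Nat.card K = 1024 := by
  rw [← C.dual hK ha]
  congr 1
  rw [← Nat.card_coe_set_eq]
  exact Nat.card_congr (Equiv.setCongr (Set.ext fun _ => mem_perpIn))

/-- The fixed subgroup of an element of order five outside `J`. -/
theorem five_fixed {g : G} (hg : orderOf g = 5) (hga : Commute g a) :
    {j | j ∈ J ∧ Commute g j}.ncard ≤ 32 ∧
      ∀ j ∈ J, Commute g j → (∀ k ∈ J, Commute g k → Commute j k) → j = 1 ∨ j = a := by
  classical
  have hn : ∀ j ∈ J, g * j * g⁻¹ ∈ J := C.normal g hga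
  set F : Subgroup G := J ⊓ centralizer ({g} : Set G) with hF
  have hmemF : ∀ j, j ∈ F ↔ j ∈ J ∧ Commute g j := fun j =>
    ⟨fun h => ⟨h.1, (mem_centralizer_singleton_iff.1 h.2).symm⟩,
      fun h => ⟨h.1, mem_centralizer_singleton_iff.2 h.2.eq.symm⟩⟩
  have hncard : {j | j ∈ J ∧ Commute g j}.ncard = Nat.card F := by
    rw [← Nat.card_coe_set_eq]
    exact Nat.card_congr (Equiv.setCongr (Set.ext fun j => (hmemF j).symm))
  refine ⟨?_, fun j hj hgj hcom => C.center j hj ?_⟩
  · have hmod := fixed_mod_five J hg hn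
    rw [hncard] at hmod ⊢
    rw [C.card] at hmod
    have hlt : Nat.card F ≠ 512 := fun e => by
      have hFJ : F = J := Subgroup.eq_of_le_of_card_ge inf_le_left (by rw [e, C.card])
      have hgJ : g ∈ J := C.faithful g hga fun j hj => Or.inl (by
        rw [((hmemF j).1 (by rw [hFJ]; exact hj)).2.eq, mul_inv_cancel_right])
      have h4 : g ^ 4 = 1 := by
        rw [show (4 : ℕ) = 2 * 2 from rfl, pow_mul, pow_two g]
        rcases C.squares g hgJ with e | e <;> rw [e]
        · exact one_pow 2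
        · rw [pow_two]; exact C.sq
      have := orderOf_dvd_of_pow_eq_one h4
      rw [hg] at this
      norm_num at this
    obtain ⟨m, hm, hFc⟩ := (Nat.dvd_prime_pow Nat.prime_two).1
      (show Nat.card F ∣ 2 ^ 9 by rw [show 2 ^ 9 = 512 by norm_num, ← C.card]; exact card_dvd_of_le inf_le_left)
    rw [hFc] at hmod hlt ⊢
    interval_cases m <;> simp_all [Nat.ModEq]
  intro k hk
  by_contra hjk
  -- the product over the orbit of `k`
  set t : ℕ → G := fun i => g ^ i * k * (g ^ i)⁻¹ with ht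
  have htJ : ∀ i, t i ∈ J := fun i => C.normal _ (hga.pow_left i) k hk
  have hchi : ∀ i, chi j (t i) = -1 := fun i => by
    have : g ^ i * j * (g ^ i)⁻¹ = j := by rw [(hgj.pow_left i).eq, mul_inv_cancel_right]
    rw [ht]
    conv_lhs => rw [← this]
    rw [C.chi_conj, chi_neg fun e => hjk e]
  set m := t 0 * t 1 * t 2 * t 3 * t 4 with hm
  have h01 := J.mul_mem (htJ 0) (htJ 1)
  have h02 := J.mul_mem h01 (htJ 2)
  have h03 := J.mul_mem h02 (htJ 3)
  have hmJ : m ∈ J := J.mul_mem h03 (htJ 4)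
  have hsh : ∀ i, g * t i * g⁻¹ = t (i + 1) := fun i => by
    rw [ht]; simp only [pow_succ']; group
  have h50 : t 5 = t 0 := by
    rw [ht]; simp only [← hg, pow_orderOf_eq_one]; simp
  have hgm : g * m * g⁻¹ = (t 0)⁻¹ * m * t 0 := by
    rw [hm, show g * (t 0 * t 1 * t 2 * t 3 * t 4) * g⁻¹ = g * t 0 * g⁻¹ * (g * t 1 * g⁻¹) *
      (g * t 2 * g⁻¹) * (g * t 3 * g⁻¹) * (g * t 4 * g⁻¹) by group, hsh, hsh, hsh, hsh, hsh, h50]
    group
  have hfix : g * m * g⁻¹ = m ∨ g * m * g⁻¹ = a * m := by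
    rw [hgm]
    rcases C.comm _ (J.inv_mem (htJ 0)) m hmJ with e | e
    · left; rw [e]; group
    · right; rw [e, mul_assoc, mul_assoc, inv_mul_cancel, mul_one]
  have hgm' := C.exact_fix hg hga hfix
  have hval : chi j m = -1 := by
    rw [hm, C.comm_mul hj h03 (htJ 4), C.comm_mul hj h02 (htJ 3), C.comm_mul hj h01 (htJ 2),
      C.comm_mul hj (htJ 0) (htJ 1), hchi, hchi, hchi, hchi, hchi]
    norm_num
  have := hcom m hmJ hgm'
  rw [chi_pos this.eq] at hval
  norm_num at hval

/-- Outside a subgroup of order at most four, a large centralizer subgroup has an involution. -/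
theorem exists_inv_out {A₁ : Subgroup G} (h1 : A₁ ≤ J) (ha1 : a ∈ A₁) {Z₀ : Subgroup G}
    (haZ : a ∈ Z₀) (hZc : Nat.card Z₀ ≤ 4) (hK : 32 ≤ Nat.card (perpIn J A₁)) :
    ∃ i ∈ perpIn J A₁, i * i = 1 ∧ i ∉ Z₀ := by
  classical
  obtain ⟨p, hp, hpZ⟩ : ∃ p ∈ perpIn J A₁, p ∉ Z₀ := by
    by_contra hno
    push Not at hno
    have := card_le_of_le hno
    omega
  by_cases hp2 : p * p = 1
  · exact ⟨p, hp, hp2, hpZ⟩
  have hsq : p * p = a := (C.squares p (mem_perpIn.1 hp).1).resolve_left hp2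
  have hset : {k | k ∈ J ∧ ∀ y ∈ A₁, Commute k y}.ncard = Nat.card (perpIn J A₁) := by
    rw [← Nat.card_coe_set_eq]
    exact Nat.card_congr (Equiv.setCongr (Set.ext fun _ => mem_perpIn.symm))
  have hge := C.card_centralizer_ge h1 ha1 (mem_perpIn.1 hp).1
  rw [hset] at hge
  set S' := {k | k ∈ J ∧ (∀ y ∈ A₁, Commute k y) ∧ Commute k p}
  obtain ⟨b, hb, hbn⟩ : ∃ b ∈ S', b ∉ (Z₀ : Set G) ∪ (fun w => p * w) '' (Z₀ : Set G) := by
    by_contra hno
    push Not at hno
    have h := (Set.ncard_le_ncard (s := S') (fun b hb => hno b hb) (Set.toFinite _)).trans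
      (Set.ncard_union_le _ _)
    rw [Set.ncard_image_of_injective _ (mul_right_injective p)] at h
    have e : (Z₀ : Set G).ncard = Nat.card Z₀ := (Nat.card_coe_set_eq _).symm
    omega
  by_cases hb2 : b * b = 1
  · exact ⟨b, mem_perpIn.2 ⟨hb.1, hb.2.1⟩, hb2, fun h => hbn (Or.inl h)⟩
  have hsb : b * b = a := (C.squares b hb.1).resolve_left hb2
  refine ⟨p * b, mul_mem hp (mem_perpIn.2 ⟨hb.1, hb.2.1⟩), ?_, fun h => hbn (Or.inr ⟨a * (p * b), ?_, ?_⟩)⟩
  · rw [C.a_sq_mul hb.2.2.symm, hsq, hsb, C.sq]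
  · exact Z₀.mul_mem haZ h
  · show p * (a * (p * b)) = b
    rw [← mul_assoc p a, (C.le p (mem_perpIn.1 hp).1).eq, mul_assoc, ← mul_assoc p p, hsq,
      ← mul_assoc, C.sq, one_mul]

/-- Generation by involutions from one involution that is not central in `K`. -/
theorem invClosure_of_noncentral {K : Subgroup G} (hK : K ≤ J) {i : G} (hi : i ∈ K) (hii : i * i = 1)
    {k : G} (hk : k ∈ K) (hik : ¬ Commute i k) : invClosure K = K := by
  rcases C.squares k (hK hk) with e | e
  · exact C.invClosure_eq hK ⟨i, hi, hii, k, hk, e, hik⟩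
  · refine C.invClosure_eq hK ⟨i, hi, hii, i * k, mul_mem hi hk, ?_, fun h => hik ?_⟩
    · rw [C.mul_sq_swap (hK hi) (hK hk) hik, hii, e, one_mul, C.sq]
    · have := h.mul_right (Commute.refl i).inv_right
      have h2 := (Commute.refl i).inv_right.mul_right h
      rwa [inv_mul_cancel_left] at h2

end Ctx

/-- A lift `x` of `r` centralizing the preimage `K` of the fixed space of `r`. -/
structure RLift (a : G) (J : Subgroup G) (φ : G → A) (r : A) (x : G) (K : Subgroup G) : Prop where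
  comm : Commute x a
  img : φ x = r
  two : ∃ n, x ^ 2 ^ n = 1
  le : K ≤ J
  mem_iff : ∀ j ∈ J, (j ∈ K ↔ x * j * x⁻¹ = j ∨ x * j * x⁻¹ = a * j)
  cent : ∀ k ∈ K, Commute x k

variable [Finite G] {a : G} {J : Subgroup G} {φ : G → A}

theorem exists_rlift (C : Ctx a J φ) {r : A} (hr : r * r = 1) :
    ∃ x K, RLift a J φ r x K := by
  classical
  obtain ⟨g, hga, hgr, n, hn⟩ := exists_two_lift C hr
  let K : Subgroup G :=
    { carrier := {j | j ∈ J ∧ (g * j * g⁻¹ = j ∨ g * j * g⁻¹ = a * j)}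
      one_mem' := ⟨J.one_mem, Or.inl (by group)⟩
      mul_mem' := fun {p q} hp hq => by
        refine ⟨J.mul_mem hp.1 hq.1, ?_⟩
        rw [show g * (p * q) * g⁻¹ = g * p * g⁻¹ * (g * q * g⁻¹) by group]
        rcases hp.2 with e | e <;> rcases hq.2 with e' | e' <;> rw [e, e']
        · exact Or.inl rfl
        · exact Or.inr (by rw [← mul_assoc p, ← C.a_comm hp.1, mul_assoc])
        · exact Or.inr (mul_assoc _ _ _)
        · refine Or.inl ?_
          rw [mul_assoc, ← mul_assoc p, ← C.a_comm hp.1, ← mul_assoc, ← mul_assoc, C.sq, one_mul]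
      inv_mem' := fun {p} hp => by
        refine ⟨J.inv_mem hp.1, ?_⟩
        rw [show g * p⁻¹ * g⁻¹ = (g * p * g⁻¹)⁻¹ by group]
        rcases hp.2 with e | e <;> rw [e]
        · exact Or.inl rfl
        · exact Or.inr (by rw [mul_inv_rev, C.a_inv, ← C.a_comm (J.inv_mem hp.1)]) }
  have haK : a ∈ K := ⟨C.mem, Or.inl (by rw [hga.eq, mul_inv_cancel_right])⟩
  have hKJ : K ≤ J := fun p hp => hp.1
  -- correct `g` by an element of `J`
  obtain ⟨v, hv, hfix⟩ : ∃ v ∈ J, ∀ k ∈ K, Commute (g * v) k := by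
    by_cases hall : ∀ k ∈ K, Commute g k
    · exact ⟨1, J.one_mem, fun k hk => by rw [mul_one]; exact hall k hk⟩
    push Not at hall
    obtain ⟨k₀, hk₀, hne⟩ := hall
    set L : Subgroup G := K ⊓ centralizer ({g} : Set G) with hL
    have haL : a ∈ L := ⟨haK, mem_centralizer_singleton_iff.2 hga.eq.symm⟩
    have hswap : ∀ k ∈ K, ¬ Commute g k → g * k * g⁻¹ = a * k := fun k hk h =>
      hk.2.resolve_left fun e => h (mul_inv_eq_iff_eq_mul.1 e)
    have hkl : ∀ k ∈ K, ¬ Commute g k → k₀⁻¹ * k ∈ L := fun k hk h => by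
      refine ⟨K.mul_mem (K.inv_mem hk₀) hk, mem_centralizer_singleton_iff.2 ?_⟩
      refine (mul_inv_eq_iff_eq_mul.1 ?_).symm
      rw [show g * (k₀⁻¹ * k) * g⁻¹ = (g * k₀ * g⁻¹)⁻¹ * (g * k * g⁻¹) by group, hswap k₀ hk₀ hne,
        hswap k hk h]
      group
    obtain ⟨v, hvJ, hvL, hvk⟩ : ∃ v ∈ J, (∀ l ∈ L, Commute v l) ∧ ¬ Commute v k₀ := by
      by_contra hno
      push Not at hno
      have hsub : perpIn J L ≤ perpIn J K := by
        intro v hv
        obtain ⟨h1, h2⟩ := mem_perpIn.1 hv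
        refine mem_perpIn.2 ⟨h1, fun k hk => ?_⟩
        by_cases hc : Commute g k
        · exact h2 k ⟨hk, mem_centralizer_singleton_iff.2 hc.eq.symm⟩
        · have := (hno v h1 h2).mul_right (h2 _ (hkl k hk hc))
          rwa [mul_inv_cancel_left] at this
      have d1 := C.dual' hKJ haK
      have d2 := C.dual' (inf_le_left.trans hKJ) haL
      have hle := card_le_of_le hsub
      have hlt : Nat.card L < Nat.card K := by
        refine lt_of_le_of_ne (card_le_of_le inf_le_left) fun e => hne ?_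
        have : L = K := Subgroup.eq_of_le_of_card_ge inf_le_left e.ge
        have h3 : k₀ ∈ L := by rw [this]; exact hk₀
        exact (mem_centralizer_singleton_iff.1 h3.2).symm
      have hpos : 0 < Nat.card (perpIn J L) := Nat.card_pos
      nlinarith
    refine ⟨v, hvJ, fun k hk => mul_inv_eq_iff_eq_mul.1 ?_⟩
    rw [show g * v * k * (g * v)⁻¹ = g * (v * k * v⁻¹) * g⁻¹ by group]
    by_cases hc : Commute g k
    · rw [(hvL k ⟨hk, mem_centralizer_singleton_iff.2 hc.eq.symm⟩).eq, mul_inv_cancel_right, hc.eq,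
        mul_inv_cancel_right]
    · have hvk' : v * k * v⁻¹ = a * k := by
        rcases C.comm v hvJ k (hKJ hk) with e | e
        · exfalso
          have h2 : Commute v k := e
          have := h2.mul_right (hvL _ (hkl k hk hc)).inv_right
          rw [mul_inv_rev, inv_inv, mul_inv_cancel_left] at this
          exact hvk this
        · rw [e]; group
      rw [hvk', show g * (a * k) * g⁻¹ = g * a * g⁻¹ * (g * k * g⁻¹) by group, hswap k hk hc,
        hga.eq, mul_inv_cancel_right, ← mul_assoc, C.sq, one_mul]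
  have hva : Commute v a := C.le v hv
  refine ⟨g * v, K,
    { comm := hga.mul_left hva
      img := by rw [C.phi_mul_J hga hv, hgr]
      two := ⟨n + 2, ?_⟩
      le := hKJ
      mem_iff := fun j hj => ?_
      cent := hfix }⟩
  · have hp : ∀ i : ℕ, (g * v) ^ i * (g ^ i)⁻¹ ∈ J := fun i => by
      induction i with
      | zero => simp
      | succ i ih =>
        have h1 := C.normal _ hga _ (J.mul_mem hv ih)
        convert h1 using 1
        simp only [pow_succ']
        group
    have hmem := hp (2 ^ n)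
    rw [hn, inv_one, mul_one] at hmem
    rw [pow_add, pow_mul, show (2 : ℕ) ^ 2 = 2 * 2 from rfl, pow_mul, pow_two ((g * v) ^ 2 ^ n)]
    rcases C.squares _ hmem with e | e <;> rw [e]
    · exact one_pow 2
    · rw [pow_two]; exact C.sq
  · have e : g * v * j * (g * v)⁻¹ = g * (v * j * v⁻¹) * g⁻¹ := by group
    have ga : g * a * g⁻¹ = a := by rw [hga.eq, mul_inv_cancel_right]
    have : (g * v * j * (g * v)⁻¹ = g * j * g⁻¹) ∨ (g * v * j * (g * v)⁻¹ = a * (g * j * g⁻¹)) := by
      rcases C.comm v hv j hj with h | h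
      · exact Or.inl (by rw [e, h, mul_inv_cancel_right])
      · refine Or.inr ?_
        rw [e, h, show g * (a * (j * v) * v⁻¹) * g⁻¹ = g * a * g⁻¹ * (g * j * g⁻¹) by group, ga]
    show (j ∈ J ∧ _) ↔ _
    rcases this with h | h <;> rw [h]
    · simp [hj]
    · constructor
      · rintro ⟨-, e' | e'⟩
        · exact Or.inr (by rw [e'])
        · exact Or.inl (by rw [e', ← mul_assoc, C.sq, one_mul])
      · rintro (e' | e')
        · exact ⟨hj, Or.inr (by
            have := congrArg (a * ·) e'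
            simpa [← mul_assoc, C.sq] using this)⟩
        · exact ⟨hj, Or.inl (mul_left_cancel e')⟩

end Cfsg.Agent.U62From98
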