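import Cfsg.Agent.Lib.U62From98ADefs

/-!
Transport of the base point to all conjugates, automorphism group version (helper98).
-/

set_option autoImplicit false
set_option linter.unusedSectionVars false
set_option linter.style.haveILetI false

namespace Cfsg.Agent.U62From98

universe u v

variable {G : Type u} [Group G] {A : Type v} [Group A]

/-- Transport of the base point to all conjugates. -/
theorem exists_asys {z : G} {J₀ : Subgroup G} {φ₀ : G → A} (C : Ctx z J₀ φ₀) {U : Subgroup A}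
    {r σ : A} (F : AFacts U r σ) : ∃ (J : G → Subgroup G) (φ : G → G → A),
      ASys z {d | ∃ g : G, g * z * g⁻¹ = d} U r σ J φ := by
  classical
  let cc : G → G := fun a => if h : ∃ g, g * z * g⁻¹ = a then h.choose else 1
  have hcc : ∀ {a}, (∃ g, g * z * g⁻¹ = a) → cc a * z * (cc a)⁻¹ = a := fun {a} h => by
    simp only [cc, dif_pos h]; exact h.choose_spec
  let J : G → Subgroup G := fun a => J₀.comap (MulAut.conj (cc a)⁻¹).toMonoidHom
  let φ : G → G → A := fun a y => φ₀ ((cc a)⁻¹ * y * cc a)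
  have hJ : ∀ a v, v ∈ J a ↔ (cc a)⁻¹ * v * cc a ∈ J₀ := fun a v => by
    simp [J, Subgroup.mem_comap]
  refine ⟨J, φ, { class_eq := rfl, ctx := ?_, J_conj := ?_, U_conj := ?_, facts := F }⟩
  · rintro a ha
    have hca := hcc ha
    set c := cc a with hc
    have hi : ∀ v, c⁻¹ * (c * v * c⁻¹) * c = v := fun v => by group
    have hcm : ∀ {y}, Commute y a → Commute (c⁻¹ * y * c) z := fun {y} h => by
      have h1 := U62RecogSetup19.commute_cj c⁻¹ h
      rw [← hca, inv_inv, hi] at h1
      exact h1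
    have hmul : ∀ x y, c⁻¹ * (x * y) * c = c⁻¹ * x * c * (c⁻¹ * y * c) := fun x y => by group
    have hinj : ∀ x y, c⁻¹ * x * c = c⁻¹ * y * c → x = y := fun x y e =>
      mul_left_cancel (mul_right_cancel e)
    have hca' : c⁻¹ * a * c = z := by rw [← hca]; group
    refine
      { sq := ?_
        ne_one := ?_
        mem := (hJ a a).2 (by rw [hca']; exact C.mem)
        le := fun j hj => ?_
        normal := fun h hh j hj => (hJ a _).2 ?_
        card := ?_
        comm := fun x hx y hy => ?_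
        squares := fun x hx => ?_
        center := fun x hx hxc => ?_
        faithful := fun h hh hfix => (hJ a h).2 (C.faithful _ (hcm hh) fun j hj => ?_)
        hom := fun g h hg hh => ?_
        ker := fun g hg => (C.ker _ (hcm hg)).trans (hJ a g).symm
        surj := fun u => ?_ }
    · rw [← hca, show c * z * c⁻¹ * (c * z * c⁻¹) = c * (z * z) * c⁻¹ by group, C.sq]; group
    · rw [← hca, Ne, conj_eq_one_iff]; exact C.ne_one
    · rw [← hca]
      have h1 := U62RecogSetup19.commute_cj c (C.le _ ((hJ a j).1 hj))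
      rwa [show c * (c⁻¹ * j * c) * c⁻¹ = j by group] at h1
    · rw [show c⁻¹ * (h * j * h⁻¹) * c = c⁻¹ * h * c * (c⁻¹ * j * c) * (c⁻¹ * h * c)⁻¹ by group]
      exact C.normal _ (hcm hh) _ ((hJ a j).1 hj)
    · rw [← C.card]
      exact Nat.card_congr ⟨fun v => ⟨c⁻¹ * (v : G) * c, (hJ a _).1 v.2⟩,
        fun v => ⟨c * (v : G) * c⁻¹, (hJ a _).2 (by rw [hi]; exact v.2)⟩,
        fun v => Subtype.ext (by group), fun v => Subtype.ext (hi v)⟩
    · rcases C.comm _ ((hJ a x).1 hx) _ ((hJ a y).1 hy) with e | e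
      · exact Or.inl (hinj _ _ (by rw [hmul, hmul, e]))
      · exact Or.inr (hinj _ _ (by rw [hmul, e, hmul, hmul, hca']))
    · rcases C.squares _ ((hJ a x).1 hx) with e | e
      · exact Or.inl (hinj _ _ (by rw [hmul, e]; group))
      · exact Or.inr (hinj _ _ (by rw [hmul, e, hca']))
    · have hcen : ∀ y ∈ J₀, Commute (c⁻¹ * x * c) y := fun y hy => by
        have h1 := U62RecogSetup19.commute_cj c⁻¹ (hxc (c * y * c⁻¹) ((hJ a _).2 (by rwa [hi])))
        rwa [inv_inv, hi] at h1
      rcases C.center _ ((hJ a x).1 hx) hcen with e | e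
      · exact Or.inl (hinj _ _ (by rw [e]; group))
      · exact Or.inr (hinj _ _ (by rw [e, hca']))
    · have hjc : c * j * c⁻¹ ∈ J a := (hJ a _).2 (by rwa [hi])
      rcases hfix _ hjc with e | e
      · left
        calc c⁻¹ * h * c * j * (c⁻¹ * h * c)⁻¹ = c⁻¹ * (h * (c * j * c⁻¹) * h⁻¹) * c := by group
          _ = j := by rw [e, hi]
      · right
        calc c⁻¹ * h * c * j * (c⁻¹ * h * c)⁻¹ = c⁻¹ * (h * (c * j * c⁻¹) * h⁻¹) * c := by group
          _ = z * j := by rw [e, hmul, hca', hi]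
    · show φ₀ (c⁻¹ * (g * h) * c) = φ₀ (c⁻¹ * g * c) * φ₀ (c⁻¹ * h * c)
      rw [hmul]; exact C.hom _ _ (hcm hg) (hcm hh)
    · obtain ⟨g, hg, rfl⟩ := C.surj u
      refine ⟨c * g * c⁻¹, ?_, by show φ₀ _ = _; rw [hi]⟩
      rw [← hca]; exact U62RecogSetup19.commute_cj c hg
  all_goals
    intro a ha g
    have hca := hcc ha
    obtain ⟨k, hk⟩ := ha
    have hcb := hcc (a := g * a * g⁻¹) ⟨g * k, by rw [← hk]; group⟩
    set d := cc (g * a * g⁻¹) with hd
    set c := cc a with hc
    have hh : Commute (d⁻¹ * g * c) z := by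
      show d⁻¹ * g * c * z = z * (d⁻¹ * g * c)
      calc d⁻¹ * g * c * z = d⁻¹ * (g * (c * z * c⁻¹) * g⁻¹) * g * c := by group
        _ = z * (d⁻¹ * g * c) := by rw [hca, ← hcb]; group
    have key : ∀ v, d⁻¹ * (g * v * g⁻¹) * d =
        d⁻¹ * g * c * (c⁻¹ * v * c) * (d⁻¹ * g * c)⁻¹ := fun v => by group
  · intro v hv
    rw [hJ, key]
    exact C.normal _ hh _ ((hJ a v).1 hv)
  · intro y hy
    show φ₀ _ ∈ U ↔ φ₀ _ ∈ U
    rw [key, C.phi_conj hh ?_]
    · exact ⟨fun h => by
        have := (Subgroup.normal_of_index_eq_two F.index).conj_mem _ h (φ₀ (d⁻¹ * g * c))⁻¹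
        simpa [mul_assoc] using this,
        fun h => (Subgroup.normal_of_index_eq_two F.index).conj_mem _ h _⟩
    have h1 := U62RecogSetup19.commute_cj c⁻¹ hy
    rw [← hca, show c⁻¹ * (c * z * c⁻¹) * c⁻¹⁻¹ = z by group, inv_inv] at h1
    exact h1

end Cfsg.Agent.U62From98
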