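import Cfsg.Agent.Lib.U62From98CertEight

/-!
`U₄(2)`: the subgroup of order sixteen, the extraspecial subgroups, and all the facts.
-/

set_option autoImplicit false
set_option maxRecDepth 100000
set_option linter.style.haveILetI false

namespace Cfsg.Agent.U62From98Cert

open Subgroup
open Cfsg.Agent.U62From98CertCode Cfsg.Agent.U62From98CertData Cfsg.Agent.U62From98CertDefs
open Cfsg.Agent.U62From98 (Elem2)

attribute [local irreducible] comp idc pack U62From98CertCode.mk dig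

theorem grow_getElem_zero {α : Type} {d : α} {f : ℕ → α → α} :
    ∀ (s : List (ℕ × ℕ)) (a : α) (t : List α), (grow d f s (a :: t)).getD 0 d = a
  | [], _, _ => rfl
  | (_, _) :: s, a, t => grow_getElem_zero s a _

theorem five_nonempty : fiveL.contains [] = false := by decide +kernel

theorem rep16_ok : (let R := repC rep4 0
    decide R.Nodup && R.length == 16 && R.all fun x => comp 45 x x == idc 45 &&
      R.all fun y => R.contains (comp 45 x y) && comp 45 x y == comp 45 y x) = true := by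
  decide +kernel

theorem qMask_lt : qMask < 2 ^ 64 := by decide +kernel

theorem all4 : ∀ r < rep4.length, ∃ n < lay4.length, idx4.getD n 0 = r := by decide +kernel

namespace Model

variable {U : Type*} [Group U] (M : Model U)

include M in
/-- There is an elementary subgroup of order sixteen. -/
theorem exists_sixteen : ∃ E : Subgroup U, Elem2 E ∧ Nat.card E = 16 := by
  have h := rep16_ok
  simp only [Bool.and_eq_true, decide_eq_true_eq, beq_iff_eq, List.all_eq_true,
    List.contains_iff_mem] at h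
  obtain ⟨⟨hnd, hlen⟩, hall⟩ := h
  have hsq : ∀ u, M.cd u ∈ repC rep4 0 → u * u = 1 := fun u hu =>
    M.cd_inj (by rw [M.cd_mul, M.cd_one, (hall _ hu).1])
  let E : Subgroup U :=
    { carrier := {u | M.cd u ∈ repC rep4 0}
      one_mem' := by
        show M.cd 1 ∈ repC rep4 0
        rw [M.cd_one]; exact List.mem_cons_self
      mul_mem' := fun {a b} ha hb => by
        show M.cd (a * b) ∈ repC rep4 0
        rw [M.cd_mul]; exact ((hall _ ha).2 _ hb).1
      inv_mem' := fun {a} ha => by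
        show M.cd a⁻¹ ∈ repC rep4 0
        rw [inv_eq_of_mul_eq_one_right (hsq a ha)]; exact ha }
  refine ⟨E, ⟨fun a ha => hsq a ha, fun a ha b hb => M.cd_inj (by
    rw [M.cd_mul, M.cd_mul]; exact ((hall _ ha).2 _ hb).2)⟩, ?_⟩
  let f : E → {x : ℕ // x ∈ (repC rep4 0).toFinset} :=
    fun u => ⟨M.cd u, List.mem_toFinset.2 u.2⟩
  have hf : Function.Bijective f := ⟨fun a b h => Subtype.ext (M.cd_inj (congrArg Subtype.val h)),
    fun x => by
      obtain ⟨u, hu⟩ := M.repC_spec rep4 0 (List.mem_toFinset.1 x.2)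
      exact ⟨⟨u, show M.cd u ∈ repC rep4 0 by rw [hu]; exact List.mem_toFinset.1 x.2⟩,
        Subtype.ext hu⟩⟩
  rw [Nat.card_congr (Equiv.ofBijective f hf), Nat.card_eq_fintype_card, Fintype.card_coe,
    List.toFinset_card_of_nodup hnd, hlen]

/-- the five members in the subgroup of order sixteen -/
def five5 : List ℕ := tIn rep4 0

theorem five_facts : five16.Nodup ∧ five16.length = 5 ∧ five5 = (List.range 45).filter
      (fun i => five16.contains i) ∧ ∀ i ∈ five16, i ∈ five5 ∧ i < 45 := by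
  have h := sixteen_ok
  simp only [Bool.and_eq_true, decide_eq_true_eq, beq_iff_eq, List.all_eq_true,
    List.contains_iff_mem] at h
  obtain ⟨⟨⟨⟨⟨⟨⟨⟨⟨⟨⟨⟨hnd, hlen⟩, hcl⟩, h5⟩, h5n⟩, h45⟩, heq⟩, hin⟩, hpair⟩, hprod⟩, hwl⟩, hwk⟩, hw⟩ := h
  refine ⟨h5n, h5, ?_, fun i hi => ⟨hin i hi, h45 i hi⟩⟩
  rw [five5, heq, fiveL]
  exact grow_getElem_zero _ _ _

theorem five5_iff {i : ℕ} : i ∈ five5 ↔ i ∈ five16 := by
  obtain ⟨-, -, he, hall⟩ := five_facts
  refine ⟨fun h => ?_, fun h => (hall i h).1⟩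
  rw [he, List.mem_filter, List.contains_iff_mem] at h
  exact h.2

include M in
theorem sixteen_nf {E : Subgroup U} (hE : Elem2 E) (hcard : Nat.card E = 16) :
    ∃ g : U, M.Rep rep4 0 (E.map (MulAut.conj g).toMonoidHom) := by
  obtain ⟨g, r, hr, hR⟩ := M.normal_form hE (k := 4) (by norm_num) hcard conn4
  have h := conn4_ok
  simp only [Bool.and_eq_true, beq_iff_eq] at h
  obtain rfl : r = 0 := by omega
  exact ⟨g, hR⟩

theorem mem_five {E : Subgroup U} (hR : M.Rep rep4 0 E) (i : Fin 45) :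
    (i : ℕ) ∈ five16 ↔ M.tE i ∈ E := by
  rw [← five5_iff]; exact M.mem_tIn hR i

theorem sixteen_gen {E : Subgroup U} (hR : M.Rep rep4 0 E) {u : U} (hu : u ∈ E) :
    u ∈ Subgroup.closure {t | ∃ i : Fin 45, (i : ℕ) ∈ five16 ∧ M.tE i = t} := by
  have h := sixteen_ok
  simp only [Bool.and_eq_true, decide_eq_true_eq, beq_iff_eq, List.all_eq_true,
    List.contains_iff_mem, List.mem_range] at h
  obtain ⟨⟨⟨-, hwl⟩, hwk⟩, hw⟩ := h
  set S := Subgroup.closure {t | ∃ i : Fin 45, (i : ℕ) ∈ five16 ∧ M.tE i = t}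
  let el : ℕ → U := fun k => if h : k < 45 then M.tE ⟨k, h⟩ else 1
  have hel : ∀ k, code (M.π (el k)) = tt.getD k (idc 45) := by
    intro k
    simp only [el]
    split_ifs with h
    · exact M.cd_tE ⟨k, h⟩
    · have hl := tt_ok
      simp only [Bool.and_eq_true, beq_iff_eq] at hl
      rw [map_one, code_one, List.getD_eq_default _ _ (by omega)]
  have hc := (hR u).1 hu
  simp only [repC, List.mem_cons, List.mem_map] at hc
  rcases hc with hc | ⟨x, hx, hc⟩
  · rw [M.cd_inj (hc.trans M.cd_one.symm)]; exact one_mem _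
  obtain ⟨n, hn, hnx⟩ := List.mem_iff_getElem.1 hx
  have hn' : n < five16W.length := by omega
  obtain ⟨h1, h2⟩ := exists_word (by norm_num) M.π S tt el (five16W.getD n []) hel fun k hk => by
    simp only [el]
    split_ifs with h
    · refine Subgroup.subset_closure ⟨⟨k, h⟩, ?_, rfl⟩
      rw [List.getD_eq_getElem _ _ hn'] at hk
      exact hwk _ (List.getElem_mem hn') k hk
    · exact one_mem _
  rw [hw n hn', List.getD_eq_getElem _ _ hn, hnx, hc] at h2
  rw [← M.cd_inj h2]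
  exact h1

theorem sixteen_rep [Finite U] {E : Subgroup U} (hR : M.Rep rep4 0 E) :
    Nat.card (normalizer (E : Set U)) = 960 ∧ {t | t ∈ M.T ∧ t ∈ E}.ncard = 5 ∧
      ∃ a ∈ M.T, ∃ b ∈ M.T, ∃ c ∈ M.T, ∃ d ∈ M.T, a ∈ E ∧ b ∈ E ∧ c ∈ E ∧ d ∈ E ∧
        a * b * c * d ∈ M.T := by
  obtain ⟨h5n, h5, -, h5all⟩ := five_facts
  have h := sixteen_ok
  simp only [Bool.and_eq_true, decide_eq_true_eq, beq_iff_eq, List.all_eq_true,
    List.contains_iff_mem, List.mem_range] at h
  obtain ⟨⟨⟨⟨⟨⟨⟨⟨⟨⟨⟨⟨hnd, hlen⟩, hcl⟩, -⟩, -⟩, -⟩, -⟩, -⟩, -⟩, hprod⟩, -⟩, -⟩, -⟩ := h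
  refine ⟨?_, ?_, ?_⟩
  · let f : U → List ℕ := fun g =>
      (List.range 45).filter fun i => five16.any fun x => dig (M.cd g) x == i
    have hf : ∀ g i, i ∈ f g ↔ ∃ x : Fin 45, (x : ℕ) ∈ five16 ∧ (M.π g x : ℕ) = i := by
      intro g i
      simp only [f, List.mem_filter, List.mem_range, List.any_eq_true, beq_iff_eq]
      constructor
      · rintro ⟨-, x, hx, he⟩
        refine ⟨⟨x, (h5all x hx).2⟩, hx, ?_⟩
        rw [← he, M.dig_cd' g (h5all x hx).2]
      · rintro ⟨x, hx, rfl⟩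
        exact ⟨Fin.is_lt _, x, hx, M.dig_cd g x⟩
    have hfe : ∀ g g', (∀ i, i ∈ f g ↔ i ∈ f g') → f g = f g' := by
      intro g g' h
      refine List.filter_congr fun i hi => Bool.eq_iff_iff.2 ⟨fun h1 => ?_, fun h1 => ?_⟩
      · exact (List.mem_filter.1 ((h i).1 (List.mem_filter.2 ⟨hi, h1⟩))).2
      · exact (List.mem_filter.1 ((h i).2 (List.mem_filter.2 ⟨hi, h1⟩))).2
    have hstep : ∀ j g, (List.range 45).filter (fun i => (f g).any fun x => dig (gg j) x == i) =
        f (M.gE j * g) := by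
      intro j g
      refine List.filter_congr fun i hi => Bool.eq_iff_iff.2 ?_
      simp only [List.any_eq_true, beq_iff_eq]
      constructor
      · rintro ⟨y, hy, rfl⟩
        obtain ⟨x, hx, rfl⟩ := (hf g y).1 hy
        exact ⟨x, hx, by rw [M.dig_cd, map_mul, Equiv.Perm.mul_apply, M.dig_gg j (Fin.is_lt _)]⟩
      · rintro ⟨x, hx, rfl⟩
        refine ⟨_, (hf g _).2 ⟨⟨x, (h5all x hx).2⟩, hx, rfl⟩, ?_⟩
        rw [M.dig_gg j (Fin.is_lt _), M.dig_cd' _ (h5all x hx).2, map_mul, Equiv.Perm.mul_apply]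
    have hroot : f 1 = (List.range 45).filter fun i => five16.contains i := by
      refine List.filter_congr fun i hi => Bool.eq_iff_iff.2 ?_
      simp only [List.any_eq_true, beq_iff_eq, List.contains_iff_mem]
      constructor
      · rintro ⟨x, hx, rfl⟩
        rw [M.dig_cd' _ (h5all x hx).2]
        simpa using hx
      · intro hi5
        exact ⟨i, hi5, by rw [M.dig_cd' _ (h5all i hi5).2]; simp⟩
    have hall : ∀ g, f g ∈ fiveL := by
      intro g
      induction g using M.induct with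
      | h1 => rw [hroot]; exact mem_grow _ _ List.mem_cons_self
      | hg j u hu =>
        by_cases hj : j < 4
        · rw [← hstep]; exact hcl _ hu j hj
        · rwa [M.gE_out hj, one_mul]
    have hcov : ∀ K ∈ fiveL, K = [] ∨ ∃ g, f g = K := by
      refine grow_mem (p := fun K : List ℕ => K = [] ∨ ∃ g, f g = K) (Or.inl rfl)
        (fun j K hK => ?_) _ _ fun K hK => ?_
      · rcases hK with rfl | ⟨g, rfl⟩
        · exact Or.inl (by simp)
        · exact Or.inr ⟨_, (hstep j g).symm⟩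
      · rw [List.mem_singleton] at hK
        exact Or.inr ⟨1, hK ▸ hroot⟩
    have hne : ([] : List ℕ) ∉ fiveL := contains_false five_nonempty
    have hinv : ∀ n ∈ normalizer (E : Set U), ∀ x : Fin 45,
        ((M.π n x : ℕ) ∈ five16 ↔ (x : ℕ) ∈ five16) := fun n hn x => by
      rw [M.mem_five hR, M.mem_five hR, ← M.conj, ← mem_norm hn]
    have hcount := count_eq (normalizer (E : Set U)) f (fun g n hn => ?_) (fun g k hgk => ?_) hnd
      (fun K => ⟨fun hK => (hcov K hK).resolve_left fun e => hne (e ▸ hK),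
        fun ⟨g, hg⟩ => hg ▸ hall g⟩)
    · rw [hlen, M.card] at hcount
      omega
    · refine hfe _ _ fun i => ?_
      simp only [hf, map_mul, Equiv.Perm.mul_apply]
      constructor
      · rintro ⟨x, hx, rfl⟩
        exact ⟨M.π n x, (hinv n hn x).2 hx, rfl⟩
      · rintro ⟨x, hx, rfl⟩
        refine ⟨(M.π n).symm x, (hinv n hn _).1 (by rwa [Equiv.apply_symm_apply]), ?_⟩
        rw [Equiv.apply_symm_apply]
    · refine norm_of_le fun u hu => ?_
      have hgen := M.sixteen_gen hR hu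
      clear hu
      induction hgen using Subgroup.closure_induction with
      | mem y hy =>
        obtain ⟨x, hx, rfl⟩ := hy
        have h1 : (M.π k x : ℕ) ∈ f g := hgk.symm ▸ (hf k _).2 ⟨x, hx, rfl⟩
        obtain ⟨z, hz, hzx⟩ := (hf g _).1 h1
        rw [M.conj, map_mul, Equiv.Perm.mul_apply, ← Fin.ext hzx, map_inv,
          Equiv.Perm.inv_eq_iff_eq.2 rfl]
        exact (M.mem_five hR z).1 hz
      | one => simp
      | mul y z _ _ hy hz =>
        have := E.mul_mem hy hz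
        convert this using 1
        group
      | inv y _ hy =>
        have := E.inv_mem hy
        convert this using 1
        group
  · rw [M.ncard_T (fun i => five16.contains i) _ fun i => by
      rw [List.contains_iff_mem, M.mem_five hR],
      List.countP_eq_length_filter, ← five_facts.2.2.1]
    exact (List.perm_ext_iff_of_nodup (List.nodup_range.filter _) h5n).2
      (fun i => five5_iff) |>.length_eq.trans h5
  · have hmem : ∀ n < 5, five16.getD n 45 ∈ five16 := fun n hn => by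
      rw [List.getD_eq_getElem _ _ (by omega)]; exact List.getElem_mem _
    have hlt : ∀ n < 5, five16.getD n 45 < 45 := fun n hn => (h5all _ (hmem n hn)).2
    let t : ∀ n < 5, U := fun n hn => M.tE ⟨five16.getD n 45, hlt n hn⟩
    have hE' : ∀ n (hn : n < 5), t n hn ∈ E := fun n hn => (M.mem_five hR _).1 (hmem n hn)
    have e0 : (0 : ℕ) < 5 := by norm_num
    have e1 : (1 : ℕ) < 5 := by norm_num
    have e2 : (2 : ℕ) < 5 := by norm_num
    have e3 : (3 : ℕ) < 5 := by norm_num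
    refine ⟨t 0 e0, ⟨_, rfl⟩, t 1 e1, ⟨_, rfl⟩, t 2 e2, ⟨_, rfl⟩, t 3 e3, ⟨_, rfl⟩, hE' 0 e0,
      hE' 1 e1, hE' 2 e2, hE' 3 e3, ⟨⟨five16.getD 4 45, hlt 4 (by norm_num)⟩, M.cd_inj ?_⟩⟩
    simp only [t]
    rw [M.cd_mul, M.cd_mul, M.cd_mul, M.cd_te, M.cd_te, M.cd_te, M.cd_te, M.cd_te, hprod]

include M in
theorem sixteen {E : Subgroup U} (hE : Elem2 E) (hcard : Nat.card E = 16) :
    Nat.card (normalizer (E : Set U)) = 960 ∧ {t | t ∈ M.T ∧ t ∈ E}.ncard = 5 ∧
      ∃ a ∈ M.T, ∃ b ∈ M.T, ∃ c ∈ M.T, ∃ d ∈ M.T, a ∈ E ∧ b ∈ E ∧ c ∈ E ∧ d ∈ E ∧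
        a * b * c * d ∈ M.T := by
  haveI := M.finite
  obtain ⟨g, hR⟩ := M.sixteen_nf hE hcard
  obtain ⟨h1, h2, a, ha, b, hb, c, hc, d, hd, haE, hbE, hcE, hdE, he⟩ := M.sixteen_rep hR
  rw [norm_card_conj] at h1
  refine ⟨h1, ?_, ?_⟩
  · rw [← h2, ← Set.ncard_image_of_injective _ (f := fun x : U => g * x * g⁻¹)
      fun x y e => mul_left_cancel (mul_right_cancel e)]
    congr 1
    ext x
    constructor
    · rintro ⟨t, ⟨htT, htE⟩, rfl⟩
      exact ⟨M.conj_T htT g, mem_map_of_mem _ htE⟩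
    · rintro ⟨hxT, hxE⟩
      exact ⟨g⁻¹ * x * g, ⟨by simpa using M.conj_T hxT g⁻¹, unconj hxE⟩, by group⟩
  · have hT : ∀ x ∈ M.T, g⁻¹ * x * g ∈ M.T := fun x hx => by simpa using M.conj_T hx g⁻¹
    refine ⟨_, hT a ha, _, hT b hb, _, hT c hc, _, hT d hd, unconj haE, unconj hbE, unconj hcE,
      unconj hdE, ?_⟩
    convert hT _ he using 1
    group

include M in
theorem sixteen_conj {E E' : Subgroup U} (hE : Elem2 E) (hcard : Nat.card E = 16) (hE' : Elem2 E')
    (hcard' : Nat.card E' = 16) : ∃ g : U, ∀ v : U, v ∈ E ↔ g * v * g⁻¹ ∈ E' := by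
  obtain ⟨g, hg⟩ := M.sixteen_nf hE hcard
  obtain ⟨k, hk⟩ := M.sixteen_nf hE' hcard'
  refine ⟨k⁻¹ * g, fun v => ?_⟩
  have h1 : v ∈ E ↔ g * v * g⁻¹ ∈ E.map (MulAut.conj g).toMonoidHom :=
    ⟨fun h => mem_map_of_mem _ h, fun h => by simpa [mul_assoc] using unconj h⟩
  have h2 : k⁻¹ * g * v * (k⁻¹ * g)⁻¹ ∈ E' ↔ g * v * g⁻¹ ∈ E'.map (MulAut.conj k).toMonoidHom := by
    constructor
    · intro h
      have := mem_map_of_mem (MulAut.conj k).toMonoidHom h
      simpa [mul_assoc] using this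
    · intro h
      have := unconj h
      simpa [mul_assoc] using this
  rw [h1, h2, hg, hk]

include M in
theorem pair_sixteen {a b : U} (ha : a ∈ M.T) (hb : b ∈ M.T) (hc : Commute a b) :
    ∃ E : Subgroup U, Elem2 E ∧ Nat.card E = 16 ∧ a ∈ E ∧ b ∈ E := by
  haveI := M.finite
  obtain ⟨i, rfl⟩ := ha
  obtain ⟨k, rfl⟩ := hb
  obtain ⟨k', hne, hck, hk'⟩ : ∃ k' : Fin 45, i ≠ k' ∧ com i k' = true ∧
      ∀ E : Subgroup U, M.tE i ∈ E → M.tE k' ∈ E → M.tE k ∈ E := by
    by_cases h : i = k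
    · subst h
      have hd := deg_ok
      simp only [Bool.and_eq_true, List.all_eq_true, List.mem_range, beq_iff_eq] at hd
      obtain ⟨x, hx, hxp⟩ : ∃ x ∈ List.range 45, (x != (i : ℕ) && com x i) = true :=
        List.countP_pos_iff.1 (by rw [(hd i i.2).2]; norm_num)
      simp only [Bool.and_eq_true, bne_iff_ne] at hxp
      refine ⟨⟨x, List.mem_range.1 hx⟩, fun e => hxp.1 (by rw [e]), ?_, fun E h _ => h⟩
      exact (M.commute_iff _ _).1 ((M.commute_iff ⟨x, List.mem_range.1 hx⟩ i).2 hxp.2).symm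
    · exact ⟨k, h, (M.commute_iff i k).1 hc, fun E _ h => h⟩
  -- the representative of the subgroups of order sixteen
  let E1 : Subgroup U := Subgroup.closure {u | M.cd u ∈ repC rep4 0}
  obtain ⟨E0, hE0, hc0, g0, hR0⟩ : ∃ E0 : Subgroup U, Elem2 E0 ∧ Nat.card E0 = 16 ∧
      ∃ g : U, M.Rep rep4 0 (E0.map (MulAut.conj g).toMonoidHom) := by
    obtain ⟨E0, h1, h2⟩ := M.exists_sixteen
    exact ⟨E0, h1, h2, M.sixteen_nf h1 h2⟩
  have h := sixteen_ok
  simp only [Bool.and_eq_true, decide_eq_true_eq, beq_iff_eq, List.all_eq_true,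
    List.contains_iff_mem] at h
  obtain ⟨⟨⟨⟨⟨⟨⟨⟨⟨⟨⟨⟨-, -⟩, -⟩, -⟩, -⟩, -⟩, -⟩, -⟩, hpair⟩, -⟩, -⟩, -⟩, -⟩ := h
  obtain ⟨h5n, h5, -, h5all⟩ := five_facts
  have hm : ∀ n < 5, five16.getD n 45 ∈ five16 := fun n hn => by
    rw [List.getD_eq_getElem _ _ (by omega)]; exact List.getElem_mem _
  set p : Fin 45 := ⟨five16.getD 0 45, (h5all _ (hm 0 (by norm_num))).2⟩
  set q : Fin 45 := ⟨five16.getD 1 45, (h5all _ (hm 1 (by norm_num))).2⟩
  set E0' := E0.map (MulAut.conj g0).toMonoidHom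
  have hp : M.tE p ∈ E0' := (M.mem_five hR0 p).1 (hm 0 (by norm_num))
  have hq : M.tE q ∈ E0' := (M.mem_five hR0 q).1 (hm 1 (by norm_num))
  have hpq : p ≠ q := fun e => by
    have := congrArg Fin.val e
    simp only [p, q] at this
    rw [List.getD_eq_getElem _ _ (by omega), List.getD_eq_getElem _ _ (by omega),
      h5n.getElem_inj_iff] at this
    norm_num at this
  obtain ⟨x, hx1, hx2⟩ := M.pair_reach p q hpq
    ((M.commute_iff p q).1 ((elem2_map hE0 _).2 _ hp _ hq))
  obtain ⟨y, hy1, hy2⟩ := M.pair_reach i k' hne hck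
  refine ⟨E0'.map (MulAut.conj (y * x⁻¹)).toMonoidHom, elem2_map (elem2_map hE0 _) _, ?_, ?_, ?_⟩
  · rw [card_map_of_injective (MulAut.conj _).injective,
      card_map_of_injective (MulAut.conj _).injective, hc0]
  · exact ⟨_, hp, by simp only [MulEquiv.coe_toMonoidHom, MulAut.conj_apply, ← hx1, ← hy1]; group⟩
  · exact hk' _ ⟨_, hp, by simp only [MulEquiv.coe_toMonoidHom, MulAut.conj_apply, ← hx1, ← hy1]; group⟩
      ⟨_, hq, by simp only [MulEquiv.coe_toMonoidHom, MulAut.conj_apply, ← hx2, ← hy2]; group⟩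

include M in
theorem squares_rep {P : Subgroup U} {c : U} (hPS : ∀ p ∈ P, p ∈ M.sylowSub) (hc : c * c = 1)
    (hc1 : c ≠ 1) (hcP : c ∈ P) (hcen : ∀ p ∈ P, Commute p c)
    (hsq : ∀ p ∈ P, p * p = 1 ∨ p * p = c) (h32 : 32 ≤ Nat.card P) :
    Nat.card P = 32 ∧ c ∈ M.T ∧ (∀ t ∈ M.T, t ∈ P → t = c) ∧
      (∀ p ∈ P, (∀ q ∈ P, Commute p q) → p = 1 ∨ p = c) ∧
      (∀ g : U, Commute g c → (∀ p ∈ P, g * p * g⁻¹ = p ∨ g * p * g⁻¹ = c * p) → g ∈ P) := by
  haveI := M.finite
  have hd : Nat.card P ∣ 2 ^ 6 := by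
    rw [show (2 : ℕ) ^ 6 = Nat.card M.sylowSub by rw [M.card_sylowSub]; norm_num]
    exact Subgroup.card_dvd_of_le hPS
  obtain ⟨n, hn6, hn⟩ := (Nat.dvd_prime_pow Nat.prime_two).1 hd
  obtain ⟨ci, hci, hcc⟩ := M.exists_index (hPS c hcP)
  have hci0 : ci ≠ 0 := fun e => hc1 (by rw [← hcc, e, M.sE_zero])
  have hcsq : mu ci ci = 0 := M.sE_inj (M.mu_spec hci hci).1 (by norm_num) (by
    rw [← (M.mu_spec hci hci).2, hcc, hc, M.sE_zero])
  have hvalid : ∀ Mk, M.Desc P Mk → validC Mk ci = true := by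
    intro Mk hD
    simp only [validC, Bool.and_eq_true, List.all_eq_true, bne_iff_ne, beq_iff_eq, Bool.or_eq_true]
    refine ⟨⟨⟨(hD ci hci).2 (hcc ▸ hcP), hci0⟩, hcsq⟩, fun p hp => ?_⟩
    obtain ⟨hp64, hpm⟩ := mem_bits.1 hp
    have hpP := (hD p hp64).1 hpm
    refine ⟨M.sE_inj (M.mu_spec hp64 hci).1 (M.mu_spec hci hp64).1 ?_, ?_⟩
    · rw [← (M.mu_spec hp64 hci).2, ← (M.mu_spec hci hp64).2, hcc, (hcen _ hpP).eq]
    · rcases hsq _ hpP with h | h
      · exact Or.inl (M.sE_inj (M.mu_spec hp64 hp64).1 (by norm_num) (by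
          rw [← (M.mu_spec hp64 hp64).2, h, M.sE_zero]))
      · exact Or.inr (M.sE_inj (M.mu_spec hp64 hp64).1 hci (by
          rw [← (M.mu_spec hp64 hp64).2, h, hcc]))
  have hn5 : n = 5 ∨ n = 6 := by
    by_contra h
    have := Nat.pow_le_pow_right (show 0 < 2 by norm_num) (show n ≤ 4 by omega)
    omega
  rcases hn5 with rfl | rfl
  swap
  · exfalso
    have heq : P = M.sylowSub := eq_of_le_of_card_ge hPS (by rw [M.card_sylowSub, hn]; norm_num)
    have hD : M.Desc P (2 ^ 64 - 1) := fun i hi => by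
      rw [Nat.testBit_two_pow_sub_one, heq]
      exact iff_of_true (decide_eq_true hi) (M.sE_mem_sL i)
    have h := noFull_ok
    simp only [List.all_eq_true, List.mem_range, Bool.not_eq_true'] at h
    exact Bool.noConfusion ((h ci hci).symm.trans (hvalid _ hD))
  have hcard : Nat.card P = 32 := by rw [hn]; norm_num
  have hi2 : (P.subgroupOf M.sylowSub).index = 2 := by
    have := (P.subgroupOf M.sylowSub).index_mul_card
    rw [Nat.card_congr (subgroupOfEquivOfLe hPS).toEquiv, hcard, M.card_sylowSub] at this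
    omega
  have hxor : ∀ i k, i < 64 → k < 64 →
      (M.sE (mu i k) ∈ P ↔ (M.sE i ∈ P ↔ M.sE k ∈ P)) := by
    intro i k hi hk
    rw [← (M.mu_spec hi hk).2]
    exact (mul_mem_iff_of_index_two hi2 (a := (⟨M.sE i, M.sE_mem_sL i⟩ : M.sylowSub))
      (b := ⟨M.sE k, M.sE_mem_sL k⟩))
  have hs := sL_ok
  simp only [Bool.and_eq_true, beq_iff_eq, List.all_eq_true, List.mem_range,
    decide_eq_true_eq] at hs
  obtain ⟨⟨-, hgi⟩, hstep⟩ := hs
  have hm := masks_ok
  simp only [Bool.and_eq_true, List.all_eq_true, List.mem_range, Bool.or_eq_true, beq_iff_eq,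
    List.any_eq_true, Bool.not_eq_true'] at hm
  obtain ⟨⟨hpat, hhom⟩, hval⟩ := hm
  classical
  set pn : ℕ := Nat.ofBits fun j : Fin 3 => decide (M.sE (sgI j) ∉ P) with hpn
  have hbit : ∀ j < 3, pn.testBit j = decide (M.sE (sgI j) ∉ P) := fun j hj =>
    (Nat.testBit_ofBits_lt _ _ hj)
  have hgrow : grow 0 (fun j x => mu (sgI j) x) sS [0] = List.range 64 := by
    have ht := tab_ok
    simp only [Bool.and_eq_true, beq_iff_eq] at ht
    exact ht.1.2
  have hgi0 : ∀ j, ¬ j < 3 → sgI j = 0 := fun j hj => by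
    have hs := sL_ok
    simp only [Bool.and_eq_true, beq_iff_eq, decide_eq_true_eq] at hs
    obtain ⟨⟨⟨⟨⟨hl, hnd⟩, hw⟩, h0⟩, -⟩, -⟩ := hs
    have hl0 : 0 < sL.length := by omega
    rw [sgI, List.getD_eq_default _ _ (by simp [sG]; omega)]
    rw [se, List.getD_eq_getElem _ _ hl0] at h0
    rw [← h0]
    exact hnd.idxOf_getElem 0 hl0
  have hne : pn ≠ 0 := by
    intro h
    have hall : ∀ x ∈ grow 0 (fun j x => mu (sgI j) x) sS [0], x < 64 ∧ M.sE x ∈ P := by
      refine grow_mem (p := fun x => x < 64 ∧ M.sE x ∈ P)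
        ⟨by norm_num, by rw [M.sE_zero]; exact P.one_mem⟩ (fun j x hx => ?_) _ _ fun x hx => ?_
      · by_cases hj : j < 3
        · have hgP : M.sE (sgI j) ∈ P := by
            have := hbit j hj
            rw [h, Nat.zero_testBit] at this
            simpa using this.symm
          exact ⟨(M.mu_spec (hgi j hj) hx.1).1,
            (M.mu_spec (hgi j hj) hx.1).2 ▸ P.mul_mem hgP hx.2⟩
        · rw [hgi0 j hj]
          refine ⟨(M.mu_spec (show 0 < 64 by norm_num) hx.1).1, ?_⟩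
          rw [← (M.mu_spec (show 0 < 64 by norm_num) hx.1).2, M.sE_zero, one_mul]
          exact hx.2
      · rw [List.mem_singleton] at hx
        subst hx
        exact ⟨by norm_num, by rw [M.sE_zero]; exact P.one_mem⟩
    have heq : M.sylowSub ≤ P := fun u hu => by
      obtain ⟨i, hi, rfl⟩ := M.exists_index hu
      exact (hall i (by rw [hgrow]; exact List.mem_range.2 hi)).2
    have := Subgroup.card_le_of_le heq
    rw [M.card_sylowSub, hcard] at this
    omega
  obtain ⟨Mk, hMk, hMbit⟩ := (hpat pn (Nat.ofBits_lt_two_pow _)).resolve_left hne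
  have hD : M.Desc P Mk := by
    have hall : ∀ x ∈ grow 0 (fun j x => mu (sgI j) x) sS [0],
        x < 64 ∧ (Mk.testBit x = true ↔ M.sE x ∈ P) := by
      have hbase : (0 : ℕ) < 64 ∧ (Mk.testBit 0 = true ↔ M.sE 0 ∈ P) :=
        ⟨by norm_num, iff_of_true (hhom Mk hMk).1 (by rw [M.sE_zero]; exact P.one_mem)⟩
      refine grow_mem (p := fun x => x < 64 ∧ (Mk.testBit x = true ↔ M.sE x ∈ P)) hbase
        (fun j x hx => ?_) _ _ fun x hx => ?_
      · by_cases hj : j < 3
        · refine ⟨(M.mu_spec (hgi j hj) hx.1).1, ?_⟩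
          have hg : Mk.testBit (sgI j) = true ↔ M.sE (sgI j) ∈ P := by
            rw [hMbit j hj, hbit j hj]; simp
          rw [(hhom Mk hMk).2 j hj x hx.1, hxor _ _ (hgi j hj) hx.1, ← hx.2, ← hg]
          cases Mk.testBit (sgI j) <;> cases Mk.testBit x <;> simp
        · have h0 : mu (sgI j) x = x := by
            rw [hgi0 j hj]
            exact M.sE_inj (M.mu_spec (by norm_num) hx.1).1 hx.1 (by
              rw [← (M.mu_spec (by norm_num) hx.1).2, M.sE_zero, one_mul])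
          rw [h0]
          exact hx
      · rw [List.mem_singleton] at hx
        subst hx
        exact hbase
    exact fun i hi => (hall i (by rw [hgrow]; exact List.mem_range.2 hi)).2
  obtain ⟨hq, hcq⟩ := (hval Mk hMk ci hci).resolve_left (by rw [hvalid _ hD]; simp)
  subst hq hcq
  have hx := extra_ok
  simp only [Bool.and_eq_true, beq_iff_eq, List.all_eq_true, List.contains_iff_mem,
    Bool.or_eq_true, Bool.not_eq_true', List.any_eq_true, bne_iff_ne, List.mem_range] at hx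
  obtain ⟨⟨⟨⟨⟨⟨⟨⟨-, -⟩, htt⟩, honly⟩, hzen⟩, hgen⟩, hreal⟩, hcomm⟩, hcent⟩ := hx
  have hidx : ∀ p ∈ P, ∃ i ∈ bits qMask, M.sE i = p := fun p hp => by
    obtain ⟨i, hi, rfl⟩ := M.exists_index (hPS p hp)
    exact ⟨i, mem_bits.2 ⟨hi, (hD i hi).2 hp⟩, rfl⟩
  have hbP : ∀ i ∈ bits qMask, i < 64 ∧ M.sE i ∈ P := fun i hi => by
    obtain ⟨hi64, hb⟩ := mem_bits.1 hi
    exact ⟨hi64, (hD i hi64).1 hb⟩
  refine ⟨hcard, ?_, ?_, ?_, ?_⟩
  · rw [← hcc]
    obtain ⟨k, hk⟩ := M.of_tt (u := M.sE qC) (by rw [M.cd_sE]; exact htt)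
    exact ⟨k, hk⟩
  · rintro _ ⟨k, rfl⟩ hkP
    obtain ⟨i, hi, hie⟩ := hidx _ hkP
    rcases honly i hi with rfl | h
    · exact hie.symm.trans hcc
    · refine absurd ?_ (contains_false h)
      rw [← M.cd_sE, hie]
      exact M.mem_tt k
  · intro p hp hall
    obtain ⟨i, hi, rfl⟩ := hidx p hp
    rcases hzen i hi with (rfl | rfl) | ⟨q, hq, hne'⟩
    · exact Or.inl M.sE_zero
    · exact Or.inr hcc
    · obtain ⟨hq64, hqP⟩ := hbP q hq
      refine absurd (M.sE_inj (M.mu_spec (hbP i hi).1 hq64).1 (M.mu_spec hq64 (hbP i hi).1).1 ?_) hne'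
      rw [← (M.mu_spec (hbP i hi).1 hq64).2, ← (M.mu_spec hq64 (hbP i hi).1).2, (hall _ hqP).eq]
  · intro g hgc hact
    set fb : ℕ := Nat.ofBits fun j : Fin qGen.length =>
      decide (¬ Commute g (M.sE (qGen.getD j 0))) with hfb
    obtain ⟨q, hq, hqj⟩ := hreal fb (Nat.ofBits_lt_two_pow _)
    obtain ⟨hq64, hqP⟩ := hbP q hq
    have hgenP : ∀ p ∈ qGen, p < 64 ∧ M.sE p ∈ P := fun p hp => by
      have hb := hgen p hp
      have hp64 : p < 64 := by
        by_contra hge
        have hlt : qMask < 2 ^ p := lt_of_lt_of_le qMask_lt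
          (Nat.pow_le_pow_right (by norm_num) (by omega : 64 ≤ p))
        rw [Nat.testBit_eq_false_of_lt hlt] at hb
        exact Bool.noConfusion hb
      exact ⟨hp64, (hD p hp64).1 hb⟩
    have hh : ∀ p ∈ qGen, Commute ((M.sE q)⁻¹ * g) (M.sE p) := by
      intro p hp
      obtain ⟨j, hj, hjp⟩ := List.mem_iff_getElem.1 hp
      obtain ⟨hp64, hpP⟩ := hgenP p hp
      have hb := hqj j hj
      rw [List.getD_eq_getElem _ _ hj, hjp, hfb, Nat.testBit_ofBits_lt _ _ hj] at hb
      simp only [List.getD_eq_getElem _ _ hj, hjp] at hb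
      have hq' : M.sE q * M.sE p * (M.sE q)⁻¹ = g * M.sE p * g⁻¹ := by
        by_cases hcm : Commute g (M.sE p)
        · have e : mu q p = mu p q := by
            have : (mu q p == mu p q) = true := by
              rw [hb]; simp [hcm]
            exact beq_iff_eq.1 this
          have h1 := (M.mu_spec hq64 hp64).2
          rw [e, ← (M.mu_spec hp64 hq64).2] at h1
          rw [h1, mul_inv_cancel_right, mul_inv_eq_iff_eq_mul.2 hcm.eq]
        · have e : mu q p ≠ mu p q := by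
            intro e
            rw [e] at hb
            simp [hcm] at hb
          have e2 := (hcomm q hq p hp).resolve_left e
          have h1 := (M.mu_spec hq64 hp64).2
          rw [e2, ← (M.mu_spec hci (M.mu_spec hp64 hq64).1).2, ← (M.mu_spec hp64 hq64).2, hcc,
            ← mul_assoc] at h1
          rw [h1, mul_inv_cancel_right]
          exact ((hact _ hpP).resolve_left fun e' => hcm (mul_inv_eq_iff_eq_mul.1 e')).symm
      show (M.sE q)⁻¹ * g * M.sE p = M.sE p * ((M.sE q)⁻¹ * g)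
      calc (M.sE q)⁻¹ * g * M.sE p = (M.sE q)⁻¹ * (g * M.sE p * g⁻¹) * g := by group
        _ = M.sE p * ((M.sE q)⁻¹ * g) := by rw [← hq']; group
    have hmem := M.cent_bound hcent ((M.sE q)⁻¹ * g) (fun x hx => by
      obtain ⟨p, hp, rfl⟩ := List.mem_map.1 hx
      exact ⟨M.sE p, M.cd_sE p, hh p hp⟩) (fun i hi => absurd hi List.not_mem_nil)
    obtain ⟨i, hi, he⟩ := List.mem_map.1 hmem
    have := M.cd_inj ((M.cd_sE i).trans he)
    have hgP := P.mul_mem hqP (hbP i hi).2
    rw [this, mul_inv_cancel_left] at hgP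
    exact hgP

include M in
theorem squares (P : Subgroup U) (c : U) (hc : c * c = 1) (hc1 : c ≠ 1) (hcP : c ∈ P)
    (hcen : ∀ p ∈ P, Commute p c) (hsq : ∀ p ∈ P, p * p = 1 ∨ p * p = c)
    (h32 : 32 ≤ Nat.card P) :
    Nat.card P = 32 ∧ c ∈ M.T ∧ (∀ t ∈ M.T, t ∈ P → t = c) ∧
      (∀ p ∈ P, (∀ q ∈ P, Commute p q) → p = 1 ∨ p = c) ∧
      (∀ g : U, Commute g c → (∀ p ∈ P, g * p * g⁻¹ = p ∨ g * p * g⁻¹ = c * p) → g ∈ P) := by
  haveI := M.finite
  have hP : IsPGroup 2 P := fun x => ⟨2, Subtype.ext (by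
    have h4 : ((x : U) * x) * ((x : U) * x) = 1 := by
      rcases hsq x x.2 with h | h <;> rw [h]
      · exact one_mul 1
      · exact hc
    rw [SubmonoidClass.coe_pow, OneMemClass.coe_one, show (2 : ℕ) ^ 2 = 4 from rfl]
    rw [← h4]
    simp only [pow_succ', pow_zero, mul_one, mul_assoc])⟩
  obtain ⟨k, hk⟩ := M.conj_into P hP
  have hcj : ∀ p, p ∈ P → k * p * k⁻¹ ∈ P.map (MulAut.conj k).toMonoidHom := fun p hp =>
    mem_map_of_mem _ hp
  obtain ⟨h1, h2, h3, h4, h5⟩ := M.squares_rep (P := P.map (MulAut.conj k).toMonoidHom)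
    (c := k * c * k⁻¹) (by rintro _ ⟨p, hp, rfl⟩; exact hk p hp)
    (by calc k * c * k⁻¹ * (k * c * k⁻¹) = k * (c * c) * k⁻¹ := by group
          _ = 1 := by rw [hc]; group)
    (fun e => hc1 (conj_eq_one_iff.1 e)) (hcj c hcP)
    (by rintro _ ⟨p, hp, rfl⟩; exact (hcen p hp).map (MulAut.conj k).toMonoidHom)
    (by
      rintro _ ⟨p, hp, rfl⟩
      simp only [MulEquiv.coe_toMonoidHom, MulAut.conj_apply]
      rcases hsq p hp with h | h
      · left
        calc k * p * k⁻¹ * (k * p * k⁻¹) = k * (p * p) * k⁻¹ := by group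
          _ = 1 := by rw [h]; group
      · right
        calc k * p * k⁻¹ * (k * p * k⁻¹) = k * (p * p) * k⁻¹ := by group
          _ = k * c * k⁻¹ := by rw [h])
    (by rw [card_map_of_injective (MulAut.conj k).injective]; exact h32)
  rw [card_map_of_injective (MulAut.conj k).injective] at h1
  refine ⟨h1, ?_, fun t ht htP => ?_, fun p hp hall => ?_, fun g hg hact => ?_⟩
  · simpa [mul_assoc] using M.conj_T h2 k⁻¹
  · exact mul_left_cancel (mul_right_cancel (h3 _ (M.conj_T ht k) (hcj t htP)))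
  · rcases h4 _ (hcj p hp) (by
      rintro _ ⟨q, hq, rfl⟩; exact (hall q hq).map (MulAut.conj k).toMonoidHom) with h | h
    · exact Or.inl (conj_eq_one_iff.1 h)
    · exact Or.inr (mul_left_cancel (mul_right_cancel h))
  · have := unconj (h5 (k * g * k⁻¹) (hg.map (MulAut.conj k).toMonoidHom) (by
      rintro _ ⟨p, hp, rfl⟩
      simp only [MulEquiv.coe_toMonoidHom, MulAut.conj_apply]
      rcases hact p hp with h | h
      · left
        calc k * g * k⁻¹ * (k * p * k⁻¹) * (k * g * k⁻¹)⁻¹ = k * (g * p * g⁻¹) * k⁻¹ := by group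
          _ = k * p * k⁻¹ := by rw [h]
      · right
        calc k * g * k⁻¹ * (k * p * k⁻¹) * (k * g * k⁻¹)⁻¹ = k * (g * p * g⁻¹) * k⁻¹ := by group
          _ = k * c * k⁻¹ * (k * p * k⁻¹) := by rw [h]; group))
    simpa [mul_assoc] using this

theorem ufacts : Cfsg.Agent.U62From98.UFacts M.T where
  card := M.card
  graph := M.graph
  ne_one := by rintro _ ⟨i, rfl⟩; exact M.tE_ne i
  conj_T := fun a ha g => M.conj_T ha g
  trans := fun a ha b hb => M.trans ha hb
  gen := M.gen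
  cent_T := fun a ha => M.cent_T ha
  other := fun c hc hne hT => M.other hc hne hT
  five := fun s hs => M.five hs
  elem := fun E hE => M.elem hE
  four := fun E hE h => M.four hE h
  eight := fun E hE h => M.eight hE h
  eight_max := fun E hE h hN => M.eight_max hE h hN
  sixteen := fun E hE h => M.sixteen hE h
  sixteen_conj := fun E E' hE h hE' h' => M.sixteen_conj hE h hE' h'
  pair_sixteen := fun a ha b hb h => M.pair_sixteen ha hb h
  squares := fun P c h1 h2 h3 h4 h5 h6 => M.squares P c h1 h2 h3 h4 h5 h6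
  nbr_cent := fun a ha g h => M.nbr_cent ha g h
  hop := fun a ha b hb h => M.hop ha hb h

end Model

end Cfsg.Agent.U62From98Cert

namespace Cfsg.Agent.U62From98

/-- The facts about `PSp₄(3)` and its class of forty-five involutions. -/
theorem exists_ufacts {U : Type*} [Group U] {F : Type*} [Field F] [Fintype F]
    (hF : Fintype.card F = 3) (e : U ≃* Cfsg.PSp 2 F) :
    ∃ T : Set U, Cfsg.Agent.U62From98.UFacts T := by
  obtain ⟨M⟩ := U62From98Cert.exists_model hF e
  exact ⟨M.T, M.ufacts⟩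

end Cfsg.Agent.U62From98
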