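import Cfsg.Agent.Lib.U62From98CertDefs

/-!
Kernel computations about `U₄(2)`: the model, the class and its graph.
-/

set_option autoImplicit false
set_option maxRecDepth 100000
-- sequential, so that only one certificate is in memory at a time
set_option Elab.async false

namespace Cfsg.Agent.U62From98Cert

open Cfsg.Agent.U62From98CertCode Cfsg.Agent.U62From98CertData Cfsg.Agent.U62From98CertDefs

theorem gen40_ok : (gid.length == 4 && g45.length == 4 && gid.all (fun i => decide (i < 40)) &&
    genW.length == 40 && (List.range 40).all fun i => wv 40 g40 (genW.getD i []) == mk 40 (sN i)) =
    true := by decide +kernel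

theorem t40_ok : (t40.length == 45 && decide t40.Nodup && tW.length == 45 &&
    t40.all (fun x => x != idc 40 && comp 40 x x == idc 40) &&
    (List.range 4).all fun j => (List.range 45).all fun i =>
      comp 40 (g40.getD j (idc 40)) (t40.getD i (idc 40)) ==
        comp 40 (t40.getD (dig (gg j) i) (idc 40)) (g40.getD j (idc 40))) = true := by decide +kernel

theorem g45_ok : ((List.range 4).all fun j => gg j == mk 45 (dig (gg j)) &&
    ((List.range 45).all fun i => decide (dig (gg j) i < 45)) &&
    comp 45 (gg j) (gi j) == idc 45 && gg j != idc 45) = true := by decide +kernel

theorem tt_ok : (tt.length == 45 &&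
    (List.range 45).all fun i => wv 45 g45 (tW.getD i []) == te i) = true := by decide +kernel

theorem genT_ok : ((List.range 4).all fun j => wv 45 tt (genTW.getD j []) == gg j) = true := by
  decide +kernel

theorem pt_ok : (decide (nA < 45) && decide (nB < 45) && com nA nB && nA != nB &&
    (List.range 45).all fun i => ptL.contains i) = true := by decide +kernel

theorem pairL_ok : ((List.range 45).all fun s => (List.range 45).all fun t =>
    s == t || !com s t || pairL.contains (s, t)) = true := by decide +kernel

theorem com_ok : ((List.range 45).all fun s => (List.range 45).all fun t =>
    decide (op s t < 45) && com s t == com t s &&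
    (com s t || ((List.range 45).countP fun u => com u s && com u t) == 3) &&
    (com s t || op s t == op t s) &&
    (s == t || !com s t || (List.range 45).any fun u => com u s && !com u t)) = true := by
  decide +kernel

theorem deg_ok : ((List.range 45).all fun t =>
    com t t && ((List.range 45).countP fun s => s != t && com s t) == 12) = true := by decide +kernel

theorem gq_ok : ((cliques 5).all fun K => (List.range 45).all fun u => K.any fun a => com u a) =
    true := by decide +kernel

theorem hop_ok : ((List.range 45).all fun a => (List.range 45).all fun b => com a b ||
    (List.range 45).any fun c1 => com c1 b && (List.range 45).any fun c2 => com c2 b &&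
      com (op c2 (op c1 a)) a && op c2 (op c1 a) != a) = true := by decide +kernel

end Cfsg.Agent.U62From98Cert
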