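import Cfsg.Agent.Lib.PSUFourTwoPSp57
import Cfsg.Agent.Lib.U62From98CertA

/-!
`PSp₄(3)` acting on its class of forty-five involutions.
-/

set_option autoImplicit false
set_option maxRecDepth 100000
set_option linter.style.haveILetI false

namespace Cfsg.Agent.U62From98Cert

open Cfsg.Agent.U62From98CertCode Cfsg.Agent.U62From98CertData Cfsg.Agent.U62From98CertDefs

attribute [local irreducible] comp idc pack U62From98CertCode.mk dig

/-- The group with its action on the class. -/
structure Model (U : Type*) [Group U] where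
  π : U →* Equiv.Perm (Fin 45)
  inj : Function.Injective π
  gE : ℕ → U
  cd_gE : ∀ j, code (π (gE j)) = gg j
  closure_gE : Subgroup.closure (Set.range gE) = ⊤
  tE : Fin 45 → U
  cd_tE : ∀ i : Fin 45, code (π (tE i)) = te i
  conj : ∀ (g : U) (i : Fin 45), g * tE i * g⁻¹ = tE (π g i)
  tE_inj : Function.Injective tE
  tE_sq : ∀ i, tE i * tE i = 1
  tE_ne : ∀ i, tE i ≠ 1
  card : Nat.card U = 25920

theorem exists_word {H : Type*} [Group H] {n : ℕ} (hn : n ≤ 256) (ρ : H →* Equiv.Perm (Fin n))
    (K : Subgroup H) (gs : List ℕ) (el : ℕ → H) (w : List ℕ)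
    (hel : ∀ k, code (ρ (el k)) = gs.getD k (idc n)) (hw : ∀ k ∈ w, el k ∈ K) :
    (w.map el).prod ∈ K ∧ code (ρ (w.map el).prod) = wv n gs w := by
  induction w with
  | nil => exact ⟨K.one_mem, by simp [wv, code_one]⟩
  | cons k w ih =>
    obtain ⟨h1, h2⟩ := ih fun x hx => hw x (List.mem_cons_of_mem _ hx)
    refine ⟨by rw [List.map_cons, List.prod_cons]; exact K.mul_mem (hw k List.mem_cons_self) h1, ?_⟩
    rw [List.map_cons, List.prod_cons, map_mul, code_mul hn, hel, h2]
    rfl

theorem exists_model {U : Type*} [Group U] {F : Type*} [Field F] [Fintype F]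
    (hF : Fintype.card F = 3) (e : U ≃* Cfsg.PSp 2 F) : Nonempty (Model U) := by
  classical
  obtain ⟨f, hf, t, ht, hft⟩ := PSUFourTwoPSp57.exists_symplectic_perm (K := F) hF
  haveI : Finite (Cfsg.PSp 2 F) :=
    Nat.finite_of_card_ne_zero (by rw [PSUFourTwoPSp57.card_psp hF]; norm_num)
  haveI : Finite U := Finite.of_equiv _ e.symm.toEquiv
  haveI hsimple : IsSimpleGroup U :=
    haveI := SymplecticSimple.psp_simple (F := F) 2 le_rfl (fun _ => by omega)
    MulEquiv.isSimpleGroup e
  let ρ : U →* Equiv.Perm (Fin 40) := f.comp e.toMonoidHom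
  have hρ : Function.Injective ρ := hf.comp e.injective
  let tr : Fin 40 → U := fun i => e.symm (t i)
  have htr : ∀ i : Fin 40, code (ρ (tr i)) = mk 40 (sN i) := by
    intro i
    refine code_eq fun j => ?_
    simp only [ρ, tr, MonoidHom.coe_comp, Function.comp_apply, MulEquiv.coe_toMonoidHom,
      MulEquiv.apply_symm_apply, hft]
    rfl
  have htop : Subgroup.closure (Set.range tr) = ⊤ := by
    have := congrArg (Subgroup.map e.symm.toMonoidHom) ht
    rw [MonoidHom.map_closure, Subgroup.map_top_of_surjective _ e.symm.surjective,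
      ← Set.range_comp] at this
    exact this
  have hgen := gen40_ok
  simp only [Bool.and_eq_true, beq_iff_eq, List.all_eq_true, List.mem_range,
    decide_eq_true_eq] at hgen
  obtain ⟨⟨⟨⟨hgl, hg45⟩, hgid⟩, -⟩, hwords⟩ := hgen
  let gE : ℕ → U := fun j => if h : j < gid.length then tr ⟨gid[j], hgid _ (List.getElem_mem h)⟩ else 1
  have hgE : ∀ j, code (ρ (gE j)) = g40.getD j (idc 40) := by
    intro j
    simp only [gE]
    split_ifs with h
    · rw [htr, List.getD_eq_getElem _ _ (by simpa [g40] using h)]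
      simp [g40]
    · rw [map_one, code_one, List.getD_eq_default _ _ (by simp [g40]; omega)]
  have hclos : Subgroup.closure (Set.range gE) = ⊤ := by
    rw [eq_top_iff, ← htop, Subgroup.closure_le]
    rintro _ ⟨i, rfl⟩
    obtain ⟨h1, h2⟩ := exists_word (by norm_num) ρ (Subgroup.closure (Set.range gE)) g40 gE
      (genW.getD i []) hgE fun k _ => Subgroup.subset_closure ⟨k, rfl⟩
    rw [hwords i i.2, ← htr i] at h2
    rw [← hρ (code_inj (by norm_num) h2)]
    exact h1
  -- the class on forty points
  have ht40 := t40_ok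
  simp only [Bool.and_eq_true, beq_iff_eq, bne_iff_ne, List.all_eq_true, List.mem_range,
    decide_eq_true_eq] at ht40
  obtain ⟨⟨⟨⟨h45, hnd⟩, htW⟩, hsq⟩, hcj⟩ := ht40
  let tE : Fin 45 → U := fun i => ((tW.getD i []).map gE).prod
  have htE : ∀ i : Fin 45, code (ρ (tE i)) = t40.getD i (idc 40) := by
    intro i
    rw [(exists_word (by norm_num) ρ ⊤ g40 gE _ hgE fun k _ => Subgroup.mem_top _).2,
      List.getD_eq_getElem _ _ (by omega : (i : ℕ) < t40.length), List.getD_eq_getElem _ _ (by omega)]
    simp [t40]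
  have htinj : Function.Injective tE := by
    intro i k hik
    have h := congrArg (fun u => code (ρ u)) hik
    simp only [htE] at h
    rw [List.getD_eq_getElem _ _ (by omega), List.getD_eq_getElem _ _ (by omega)] at h
    exact Fin.ext ((hnd.getElem_inj_iff).1 h)
  have htmem : ∀ i : Fin 45, t40.getD i (idc 40) ∈ t40 := fun i => by
    rw [List.getD_eq_getElem _ _ (by omega)]; exact List.getElem_mem _
  have htsq : ∀ i, tE i * tE i = 1 := fun i => hρ (code_inj (by norm_num) (by
    rw [map_mul, map_one, code_mul (by norm_num), htE, code_one, (hsq _ (htmem i)).2]))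
  have htne : ∀ i, tE i ≠ 1 := fun i h => (hsq _ (htmem i)).1 (by
    rw [← htE, h, map_one, code_one])
  have hg45' := g45_ok
  simp only [Bool.and_eq_true, beq_iff_eq, bne_iff_ne, List.all_eq_true, List.mem_range,
    decide_eq_true_eq] at hg45'
  have hgo : ∀ j, ¬ j < gid.length → gE j = 1 := fun j hj => by simp [gE, hj]
  have hconjg : ∀ j (i : Fin 45), ∃ k : Fin 45, (j < 4 → (k : ℕ) = dig (gg j) i) ∧
      gE j * tE i * (gE j)⁻¹ = tE k := by
    intro j i
    by_cases hj : j < 4
    · refine ⟨⟨dig (gg j) i, (hg45' j hj).1.1.2 i i.2⟩, fun _ => rfl, ?_⟩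
      rw [mul_inv_eq_iff_eq_mul]
      refine hρ (code_inj (by norm_num) ?_)
      rw [map_mul, map_mul, code_mul (by norm_num), code_mul (by norm_num), hgE, htE, htE]
      exact hcj j hj i i.2
    · exact ⟨i, fun h => absurd h hj, by rw [hgo j (by omega)]; group⟩
  have himg : ∀ (g : U) (i : Fin 45), ∃ k, g * tE i * g⁻¹ = tE k := by
    let M : Submonoid U :=
      { carrier := {g | ∀ i, ∃ k, g * tE i * g⁻¹ = tE k}
        one_mem' := fun i => ⟨i, by group⟩
        mul_mem' := fun {a b} ha hb i => by
          obtain ⟨k, hk⟩ := hb i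
          obtain ⟨l, hl⟩ := ha k
          exact ⟨l, by rw [← hl, ← hk]; group⟩ }
    intro g
    have h : g ∈ Subgroup.closure (Set.range gE) := hclos ▸ Subgroup.mem_top g
    rw [← Subgroup.mem_toSubmonoid, Subgroup.closure_toSubmonoid_of_finite] at h
    refine (Submonoid.closure_le (S := M)).2 ?_ h
    rintro _ ⟨j, rfl⟩ i
    obtain ⟨k, -, hk⟩ := hconjg j i
    exact ⟨k, hk⟩
  choose mv hmv using himg
  have hmv1 : ∀ i, mv 1 i = i := fun i => htinj (by rw [← hmv]; group)
  have hmvm : ∀ g h i, mv (g * h) i = mv g (mv h i) := fun g h i => htinj (by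
    rw [← hmv, ← hmv, ← hmv]; group)
  let π : U →* Equiv.Perm (Fin 45) :=
    { toFun := fun g =>
        { toFun := mv g
          invFun := mv g⁻¹
          left_inv := fun i => by rw [← hmvm, inv_mul_cancel, hmv1]
          right_inv := fun i => by rw [← hmvm, mul_inv_cancel, hmv1] }
      map_one' := Equiv.ext hmv1
      map_mul' := fun g h => Equiv.ext (hmvm g h) }
  have hπg : ∀ j, code (π (gE j)) = gg j := by
    intro j
    by_cases hj : j < 4
    · rw [(hg45' j hj).1.1.1]
      refine code_eq fun i => ?_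
      obtain ⟨k, hk, hkt⟩ := hconjg j i
      have : π (gE j) i = k := htinj (by
        show tE (mv (gE j) i) = tE k
        rw [← hmv, hkt])
      rw [this, hk hj]
    · rw [hgo j (by omega), map_one, code_one, gg,
        List.getD_eq_default _ _ (by omega)]
  have hπinj : Function.Injective π := by
    rw [← MonoidHom.ker_eq_bot_iff]
    refine (Subgroup.Normal.eq_bot_or_eq_top inferInstance).resolve_right fun h => ?_
    refine (hg45' 0 (by norm_num)).2 ?_
    rw [← hπg, MonoidHom.mem_ker.1 (h ▸ Subgroup.mem_top (gE 0)), code_one]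
  have htt := tt_ok
  simp only [Bool.and_eq_true, beq_iff_eq, List.all_eq_true, List.mem_range] at htt
  refine ⟨⟨π, hπinj, gE, hπg, hclos, tE, fun i => ?_, fun g i => hmv g i, htinj, htsq, htne, ?_⟩⟩
  · rw [(exists_word (by norm_num) π ⊤ g45 gE _ hπg fun k _ => Subgroup.mem_top _).2]
    exact htt.2 i i.2
  · rw [Nat.card_congr e.toEquiv, PSUFourTwoPSp57.card_psp hF]

end Cfsg.Agent.U62From98Cert
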