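import Cfsg.Agent.Lib.U62From98CertDefs

/-!
Kernel computations about `U₄(2)`: elementary abelian and extraspecial subgroups, centralizers.
-/

set_option autoImplicit false
set_option maxRecDepth 100000

namespace Cfsg.Agent.U62From98Cert

open Cfsg.Agent.U62From98CertCode Cfsg.Agent.U62From98CertData Cfsg.Agent.U62From98CertDefs

theorem step_ok : (stepOK [1] lay1 && stepOK lay1 lay2 && stepOK lay2 lay3 && stepOK lay3 lay4 && stepOK lay4 []) =
    true := by decide +kernel

theorem conn2_ok : connOK lay2 rep2 idx2 conn2 4 = true := by decide +kernel

theorem conn3_ok : connOK lay3 rep3 idx3 conn3 8 = true := by decide +kernel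

theorem conn4_ok : (connOK lay4 rep4 idx4 conn4 16 && rep4.length == 1) = true := by decide +kernel

theorem keys2_ok : ((List.range rep2.length).all fun r =>
    !(keys rep2 key2S r).contains 0 && decide (keys rep2 key2S r).Nodup && decide (136 ≤ (keys rep2 key2S r).length)) = true := by
  decide +kernel

theorem keys3_ok : ((List.range rep3.length).all fun r =>
    !(keys rep3 key3S r).contains 0 && decide (keys rep3 key3S r).Nodup && decide (135 ≤ (keys rep3 key3S r).length) &&
    (maxIdx.contains r || decide (136 ≤ (keys rep3 key3S r).length)) &&
    decide (1 ≤ (tIn rep3 r).length) && (!maxIdx.contains r || (tIn rep3 r).length == 1)) =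
    true := by decide +kernel

theorem max_ok : ((List.range maxIdx.length).all fun p =>
    let R := repC rep3 (maxIdx.getD p 0)
    let a := (tIn rep3 (maxIdx.getD p 0)).getD 0 45
    let B := (maxBlocks p).flatten
    (maxG p).all (fun g => R.all fun e => R.any fun y => comp 45 g e == comp 45 y g) &&
    B.length == 44 && decide B.Nodup && !B.contains a && B.all (fun b => decide (b < 45)) &&
    (maxBlocks p).all (fun bl => bl.length % 4 == 0) &&
    R.all fun b => b == idc 45 || b == te a || R.all fun c => c == idc 45 || c == te a ||
      (maxE p).any fun g => comp 45 g b == comp 45 c g ||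
        comp 45 g b == comp 45 (comp 45 (te a) c) g) = true := by decide +kernel

theorem sixteen_ok : (decide fiveL.Nodup && fiveL.length == 27 &&
    fiveL.all (fun K => (List.range 4).all fun j =>
      fiveL.contains ((List.range 45).filter fun i => K.any fun x => dig (gg j) x == i)) &&
    five16.length == 5 && decide five16.Nodup && five16.all (fun i => decide (i < 45)) &&
    tIn rep4 0 == fiveL.getD 0 [] && five16.all (fun i => (tIn rep4 0).contains i) &&
    pairL.contains (five16.getD 0 45, five16.getD 1 45) &&
    te (five16.getD 4 45) == comp 45 (comp 45 (comp 45 (te (five16.getD 0 45))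
      (te (five16.getD 1 45))) (te (five16.getD 2 45))) (te (five16.getD 3 45)) &&
    five16W.length == (rep4.getD 0 []).length &&
    five16W.all (fun w => w.all fun k => five16.contains k) &&
    (List.range five16W.length).all fun n =>
      wv 45 tt (five16W.getD n []) == se ((rep4.getD 0 []).getD n 0)) = true := by decide +kernel

theorem five_ok : (centOK [fiveC'] [] fiveBase fiveC fiveAut && fiveAut.length == 10 &&
    fiveC' != idc 45 &&
    comp 45 fiveC' (comp 45 fiveC' (comp 45 fiveC' (comp 45 fiveC' fiveC'))) == idc 45) = true := by
  decide +kernel

theorem nbr_ok : centOK [] nbrs nbrBase nbrC [idc 45, te nA] = true := by decide +kernel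

theorem noFull_ok : ((List.range 64).all fun c => !validC (2 ^ 64 - 1) c) = true := by decide +kernel

theorem masks_ok : ((List.range 8).all (fun n => n == 0 || maxMasks.any fun M =>
      (List.range 3).all fun j => M.testBit (sgI j) == !n.testBit j) &&
    maxMasks.all (fun M => M.testBit 0 && (List.range 3).all fun j => (List.range 64).all fun k =>
      M.testBit (mu (sgI j) k) == (M.testBit (sgI j) == M.testBit k)) &&
    maxMasks.all fun M => (List.range 64).all fun c => !validC M c || (M == qMask && c == qC)) =
    true := by decide +kernel

theorem extra_ok : (validC qMask qC && (bits qMask).length == 32 && tt.contains (se qC) &&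
    (bits qMask).all (fun p => p == qC || !tt.contains (se p)) &&
    (bits qMask).all (fun p => p == 0 || p == qC ||
      (bits qMask).any fun q => mu p q != mu q p) &&
    qGen.all (fun p => qMask.testBit p) &&
    (List.range (2 ^ qGen.length)).all (fun n => (bits qMask).any fun q =>
      (List.range qGen.length).all fun j =>
        (mu q (qGen.getD j 0) == mu (qGen.getD j 0) q) == !n.testBit j) &&
    (bits qMask).all (fun q => qGen.all fun p =>
      mu q p == mu p q || mu q p == mu qC (mu p q)) &&
    centOK (qGen.map se) [] qBase qCs ((bits qMask).map se)) = true := by decide +kernel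

end Cfsg.Agent.U62From98Cert
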