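import Cfsg.Agent.Lib.U62From98CertSylow
import Cfsg.Agent.Lib.U62RecogSetup19

/-!
`U₄(2)`: the graph of the class, centralizers through propagation, elements of order five.
-/

set_option autoImplicit false
set_option maxRecDepth 100000
set_option linter.style.haveILetI false

namespace Cfsg.Agent.U62From98Cert

open Subgroup
open Cfsg.Agent.U62From98CertCode Cfsg.Agent.U62From98CertData Cfsg.Agent.U62From98CertDefs

attribute [local irreducible] comp idc pack U62From98CertCode.mk dig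

theorem countP_range {n : ℕ} (p : ℕ → Bool) :
    {i : Fin n | p i = true}.ncard = (List.range n).countP p := by
  classical
  rw [← Set.ncard_image_of_injective _ Fin.val_injective, List.countP_eq_length_filter,
    ← List.toFinset_card_of_nodup (List.nodup_range.filter _), ← Set.ncard_coe_finset]
  congr 1
  ext x
  simp only [Set.mem_image, Set.mem_setOf_eq, List.coe_toFinset, List.mem_filter, List.mem_range]
  exact ⟨fun ⟨i, hi, he⟩ => he ▸ ⟨i.2, hi⟩, fun ⟨hx, hp⟩ => ⟨⟨x, hx⟩, hp, rfl⟩⟩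

theorem mem_cliques : ∀ (n : ℕ) (K : Finset (Fin 45)), K.card = n →
    (∀ a ∈ K, ∀ b ∈ K, com a b = true) →
    ∃ L ∈ cliques n, ∀ x, x ∈ L ↔ ∃ a ∈ K, (a : ℕ) = x
  | 0, K, hK, _ => ⟨[], List.mem_singleton_self _, fun x => by
      simp [Finset.card_eq_zero.1 hK]⟩
  | n + 1, K, hK, hc => by
    have hne : K.Nonempty := Finset.card_pos.1 (by omega)
    set m := K.min' hne with hm
    obtain ⟨L, hL, hLK⟩ := mem_cliques n (K.erase m)
      (by rw [Finset.card_erase_of_mem (K.min'_mem hne), hK]; rfl)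
      fun a ha b hb => hc a (Finset.mem_of_mem_erase ha) b (Finset.mem_of_mem_erase hb)
    refine ⟨(m : ℕ) :: L, ?_, fun x => ?_⟩
    · simp only [cliques, List.mem_flatMap, List.mem_map, List.mem_filter, List.mem_range,
        List.all_eq_true, Bool.and_eq_true, decide_eq_true_eq]
      refine ⟨L, hL, m, ⟨m.2, fun k hk => ?_⟩, rfl⟩
      obtain ⟨a, ha, rfl⟩ := (hLK k).1 hk
      exact ⟨lt_of_le_of_ne (K.min'_le a (Finset.mem_of_mem_erase ha))
        (fun e => Finset.ne_of_mem_erase ha (Fin.ext e.symm)), hc m (K.min'_mem hne) a (Finset.mem_of_mem_erase ha)⟩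
    · rw [List.mem_cons, hLK]
      constructor
      · rintro (rfl | ⟨a, ha, rfl⟩)
        exacts [⟨m, K.min'_mem hne, rfl⟩, ⟨a, Finset.mem_of_mem_erase ha, rfl⟩]
      · rintro ⟨a, ha, rfl⟩
        by_cases h : a = m
        · exact Or.inl (congrArg Fin.val h)
        · exact Or.inr ⟨a, Finset.mem_erase.2 ⟨h, ha⟩, rfl⟩

theorem com_self (a : Fin 45) : com a a = true := by
  have h := deg_ok
  simp only [Bool.and_eq_true, List.all_eq_true, List.mem_range] at h
  exact (h a a.2).1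

namespace Model

variable {U : Type*} [Group U] (M : Model U)

theorem commute_T {i k : Fin 45} : Commute (M.tE k) (M.tE i) ↔ com k i = true := M.commute_iff k i

theorem inc_mem {a b : Fin 45} (hab : a < b) (h : Commute (M.tE a) (M.tE b)) :
    ((a : ℕ), (b : ℕ)) ∈ incPairs := by
  simp only [incPairs, List.mem_flatMap, List.mem_map, List.mem_filter, List.mem_range]
  exact ⟨b, b.2, a, ⟨hab, (M.commute_iff a b).1 h⟩, rfl⟩

theorem prod_inj {a b c d : Fin 45} (hab : a < b) (hcd : c < d)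
    (h1 : Commute (M.tE a) (M.tE b)) (h2 : Commute (M.tE c) (M.tE d))
    (h : M.tE a * M.tE b = M.tE c * M.tE d) : a = c ∧ b = d := by
  have hp := prod_ok
  simp only [Bool.and_eq_true, decide_eq_true_eq] at hp
  have := List.inj_on_of_nodup_map hp.1.2 (M.inc_mem hab h1) (M.inc_mem hcd h2) (by
    show comp 45 (te a) (te b) = comp 45 (te c) (te d)
    rw [← M.cd_tE, ← M.cd_tE, ← M.cd_tE, ← M.cd_tE]
    have := congrArg M.cd h
    rwa [M.cd_mul, M.cd_mul] at this)
  simp only [Prod.mk.injEq] at this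
  exact ⟨Fin.ext this.1, Fin.ext this.2⟩

theorem prod_other {a b : Fin 45} (hne : a ≠ b) (h : Commute (M.tE a) (M.tE b)) :
    M.cd (M.tE a * M.tE b) ∈ otherL := by
  have hp := prod_ok
  simp only [Bool.and_eq_true, List.all_eq_true, List.contains_iff_mem] at hp
  rcases lt_or_gt_of_ne hne with h1 | h1
  · rw [M.cd_mul, cd, M.cd_tE, cd, M.cd_tE]
    exact hp.2 _ (M.inc_mem h1 h)
  · rw [h.eq, M.cd_mul, cd, M.cd_tE, cd, M.cd_tE]
    exact hp.2 _ (M.inc_mem h1 h.symm)

theorem pair_inj {a b c d : Fin 45} (hab : a ≠ b) (hcd : c ≠ d)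
    (h1 : Commute (M.tE a) (M.tE b)) (h2 : Commute (M.tE c) (M.tE d))
    (h : M.tE a * M.tE b = M.tE c * M.tE d) : (a = c ∧ b = d) ∨ (a = d ∧ b = c) := by
  rcases lt_or_gt_of_ne hab with x | x <;> rcases lt_or_gt_of_ne hcd with y | y
  · exact Or.inl (M.prod_inj x y h1 h2 h)
  · exact Or.inr (M.prod_inj x y h1 h2.symm (h.trans h2.eq))
  · exact Or.inr (M.prod_inj x y h1.symm h2 (h1.eq.symm.trans h)).symm
  · exact Or.inl (M.prod_inj x y h1.symm h2.symm (h1.eq.symm.trans (h.trans h2.eq))).symm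

/-- The class. -/
def T : Set U := Set.range M.tE

theorem ncard_T (p : ℕ → Bool) (q : U → Prop) (h : ∀ i, q (M.tE i) ↔ p i = true) :
    {u | u ∈ M.T ∧ q u}.ncard = (List.range 45).countP p := by
  rw [← countP_range p, ← Set.ncard_image_of_injective _ M.tE_inj]
  congr 1
  ext u
  constructor
  · rintro ⟨⟨i, rfl⟩, hq⟩
    exact ⟨i, (h i).1 hq, rfl⟩
  · rintro ⟨i, hi, rfl⟩
    exact ⟨⟨i, rfl⟩, (h i).2 hi⟩

theorem sts (i k : Fin 45) : M.tE i * M.tE k * M.tE i = M.tE (M.π (M.tE i) k) := by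
  rw [← M.conj, inv_eq_of_mul_eq_one_right (M.tE_sq i)]

theorem graph : U62RecogSetup19.TGraph M.T where
  inv := by rintro _ ⟨i, rfl⟩; exact M.tE_sq i
  card := by
    rw [T, Set.ncard_range_of_injective M.tE_inj, Nat.card_fin]
  deg := by
    rintro _ ⟨i, rfl⟩
    have h := deg_ok
    simp only [Bool.and_eq_true, List.all_eq_true, List.mem_range, beq_iff_eq] at h
    rw [M.ncard_T (fun s => s != i && com s i) _ (fun k => by
      simp [M.tE_inj.eq_iff, M.commute_iff, Fin.val_inj]), (h i i.2).2]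
  com := by
    rintro _ ⟨i, rfl⟩ _ ⟨k, rfl⟩ hn
    have h := com_ok
    simp only [Bool.and_eq_true, List.all_eq_true, List.mem_range, Bool.or_eq_true, beq_iff_eq] at h
    rw [M.ncard_T (fun u => com u i && com u k) _ (fun l => by simp [M.commute_iff])]
    exact ((h i i.2 k k.2).1.1.2).resolve_left fun hc => hn ((M.commute_iff i k).2 hc)
  sep := by
    rintro _ ⟨i, rfl⟩ _ ⟨k, rfl⟩ hne hc
    have h := com_ok
    simp only [Bool.and_eq_true, List.all_eq_true, List.mem_range, Bool.or_eq_true, beq_iff_eq,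
      Bool.not_eq_true', List.any_eq_true] at h
    rcases (h i i.2 k k.2).2 with (h1 | h1) | ⟨l, hl, h2, h3⟩
    · exact absurd (congrArg M.tE (Fin.ext h1)) hne
    · exact absurd ((M.commute_iff i k).1 hc) (by rw [h1]; simp)
    · exact ⟨M.tE ⟨l, hl⟩, ⟨_, rfl⟩, (M.commute_iff ⟨l, hl⟩ i).2 h2,
        fun hc' => by rw [(M.commute_iff ⟨l, hl⟩ k).1 hc'] at h3; exact Bool.noConfusion h3⟩
  gq := by
    intro K hK hcard hc u hu
    obtain ⟨l, rfl⟩ := hu
    classical
    let K' : Finset (Fin 45) := Finset.univ.filter fun i => M.tE i ∈ K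
    have hK' : K'.card = 5 := by
      rw [← hcard, ← Set.ncard_coe_finset, ← Set.ncard_image_of_injective _ M.tE_inj]
      congr 1
      ext x
      constructor
      · rintro ⟨i, hi, rfl⟩
        exact (Finset.mem_filter.1 hi).2
      · intro hx
        obtain ⟨i, rfl⟩ := hK hx
        exact ⟨i, Finset.mem_filter.2 ⟨Finset.mem_univ _, hx⟩, rfl⟩
    obtain ⟨L, hL, hLK⟩ := mem_cliques 5 K' hK' fun a ha b hb =>
      (M.commute_iff a b).1 (hc _ (Finset.mem_filter.1 ha).2 _ (Finset.mem_filter.1 hb).2)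
    have h := gq_ok
    simp only [List.all_eq_true, List.mem_range, List.any_eq_true] at h
    obtain ⟨a, ha, hca⟩ := h L hL l l.2
    obtain ⟨a', ha', rfl⟩ := (hLK a).1 ha
    exact ⟨M.tE a', (Finset.mem_filter.1 ha').2, (M.commute_iff l a').2 hca⟩
  prod := by
    rintro _ ⟨i, rfl⟩ _ ⟨k, rfl⟩ hne hc ⟨l, hl⟩
    have ho := other_ok
    simp only [Bool.and_eq_true, List.all_eq_true, Bool.not_eq_true'] at ho
    have := (ho.1.2 _ (M.prod_other (fun e => hne (congrArg M.tE e)) hc)).1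
    rw [← hl, List.contains_iff_mem.2 (M.mem_tt l)] at this
    exact Bool.noConfusion this
  pair := by
    rintro _ ⟨a, rfl⟩ _ ⟨b, rfl⟩ _ ⟨c, rfl⟩ _ ⟨d, rfl⟩ hab hcd h1 h2 h
    rcases M.pair_inj (fun e => hab (congrArg M.tE e)) (fun e => hcd (congrArg M.tE e)) h1 h2 h with
      ⟨rfl, rfl⟩ | ⟨rfl, rfl⟩
    · exact Or.inl ⟨rfl, rfl⟩
    · exact Or.inr ⟨rfl, rfl⟩
  braid := by
    rintro _ ⟨i, rfl⟩ _ ⟨k, rfl⟩ hn
    have h := com_ok
    simp only [Bool.and_eq_true, List.all_eq_true, List.mem_range, Bool.or_eq_true, beq_iff_eq] at h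
    rw [M.sts, M.sts]
    congr 1
    refine Fin.ext ?_
    rw [M.op_eq, M.op_eq]
    exact ((h i i.2 k k.2).1.2).resolve_left fun hc => hn ((M.commute_iff i k).2 hc)

theorem conj_T {a : U} (ha : a ∈ M.T) (g : U) : g * a * g⁻¹ ∈ M.T := by
  obtain ⟨i, rfl⟩ := ha
  exact ⟨_, (M.conj g i).symm⟩

theorem exists_conj (i : Fin 45) : ∃ g, g * M.sA * g⁻¹ = M.tE i := by
  obtain ⟨g, hg⟩ := M.trans' i
  refine ⟨g, ?_⟩
  rw [sA, M.conj, hg]

theorem trans {a b : U} (ha : a ∈ M.T) (hb : b ∈ M.T) : ∃ g, g * a * g⁻¹ = b := by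
  obtain ⟨i, rfl⟩ := ha
  obtain ⟨k, rfl⟩ := hb
  obtain ⟨g, hg⟩ := M.exists_conj i
  obtain ⟨h, hh⟩ := M.exists_conj k
  exact ⟨h * g⁻¹, by rw [← hh, ← hg]; group⟩

theorem gen : Subgroup.closure M.T = ⊤ := by
  rw [eq_top_iff, ← M.closure_gE, Subgroup.closure_le]
  rintro _ ⟨j, rfl⟩
  by_cases hj : j < 4
  · let el : ℕ → U := fun k => if h : k < 45 then M.tE ⟨k, h⟩ else 1
    have hel : ∀ k, code (M.π (el k)) = tt.getD k (idc 45) := by
      intro k
      simp only [el]
      split_ifs with h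
      · exact M.cd_tE ⟨k, h⟩
      · have hl := tt_ok
        simp only [Bool.and_eq_true, beq_iff_eq] at hl
        rw [map_one, code_one, List.getD_eq_default _ _ (by omega)]
    obtain ⟨h1, h2⟩ := exists_word (by norm_num) M.π (Subgroup.closure M.T) tt el
      (genTW.getD j []) hel fun k _ => by
        simp only [el]
        split_ifs with h
        · exact Subgroup.subset_closure ⟨_, rfl⟩
        · exact one_mem _
    have h := genT_ok
    simp only [List.all_eq_true, List.mem_range, beq_iff_eq] at h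
    rw [h j hj, ← M.cd_gE j] at h2
    rw [← M.inj (code_inj (by norm_num) h2)]
    exact h1
  · rw [M.gE_out hj]; exact one_mem _

theorem cent_T {a : U} (ha : a ∈ M.T) : Nat.card (centralizer ({a} : Set U)) = 576 := by
  haveI := M.finite
  obtain ⟨i, rfl⟩ := ha
  have h := count_eq (centralizer ({M.tE i} : Set U)) (fun g => (M.π g i : ℕ))
    (fun g n hn => by
      have h1 : M.π n i = i := M.tE_inj (by
        rw [← M.conj]; exact mul_inv_eq_iff_eq_mul.2 (mem_cent.1 hn))
      simp [h1])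
    (fun g k h => mem_cent.2 (mul_inv_eq_iff_eq_mul.1 (by
      rw [M.conj, map_mul, Equiv.Perm.mul_apply, ← Fin.ext h, map_inv]
      simp)))
    (L := List.range 45) List.nodup_range (fun x => by
      rw [List.mem_range]
      refine ⟨fun hx => ?_, fun ⟨g, hg⟩ => hg ▸ Fin.is_lt _⟩
      obtain ⟨g, hg⟩ := M.trans ⟨i, rfl⟩ ⟨⟨x, hx⟩, rfl⟩
      rw [M.conj] at hg
      exact ⟨g, congrArg Fin.val (M.tE_inj hg)⟩)
  rw [List.length_range, M.card] at h
  omega

theorem other {c : U} (hc : c * c = 1) (hne : c ≠ 1) (hT : c ∉ M.T) :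
    Nat.card (centralizer ({c} : Set U)) = 96 ∧
      ∃ a ∈ M.T, ∃ b ∈ M.T, a ≠ b ∧ Commute a b ∧ a * b = c := by
  haveI := M.finite
  rcases M.involution hc hne with ⟨i, hi⟩ | ⟨g, rfl⟩
  · exact absurd ⟨i, hi⟩ hT
  have hp := pt_ok
  simp only [Bool.and_eq_true, bne_iff_ne] at hp
  have hAB : M.sA ≠ M.sB := fun e => hp.1.2 (congrArg Fin.val (M.tE_inj e))
  have hcAB : Commute M.sA M.sB := (M.commute_iff _ _).2 hp.1.1.2
  refine ⟨?_, g * M.sA * g⁻¹, M.conj_T ⟨_, rfl⟩ g, g * M.sB * g⁻¹, M.conj_T ⟨_, rfl⟩ g,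
    fun e => hAB (mul_left_cancel (mul_right_cancel e)),
    hcAB.map (MulAut.conj g).toMonoidHom, by group⟩
  rw [card_cent_conj]
  have ho := other_ok
  simp only [Bool.and_eq_true, beq_iff_eq, decide_eq_true_eq, List.all_eq_true,
    List.contains_iff_mem, List.mem_range, bne_iff_ne] at ho
  obtain ⟨⟨⟨hlen, hnd⟩, hne1⟩, hclosed⟩ := ho
  have hroot : M.cd (M.sA * M.sB) ∈ otherL := by
    refine mem_grow _ _ ?_
    rw [List.mem_singleton, M.cd_mul, M.cd_sA, M.cd_sB]
  have hall : ∀ u : U, M.cd (u * (M.sA * M.sB) * u⁻¹) ∈ otherL := by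
    intro u
    induction u using M.induct with
    | h1 => simpa using hroot
    | hg j u hu =>
      by_cases hj : j < 4
      · have := hclosed _ hu j hj
        rw [← M.cd_cj] at this
        convert this using 2
        group
      · rwa [M.gE_out hj, one_mul]
  have h := count_eq (centralizer ({M.sA * M.sB} : Set U))
    (fun u => M.cd (u * (M.sA * M.sB) * u⁻¹))
    (fun u n hn => congrArg M.cd (by
      rw [mul_inv_rev, mul_assoc u, mem_cent.1 hn]; group))
    (fun u v h => mem_cent.2 (by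
      have := congrArg (fun x => u⁻¹ * x * v) (M.cd_inj h)
      simpa [mul_assoc] using this.symm))
    hnd (fun x => ⟨fun hx => (M.otherL_spec x hx).resolve_left (hne1 x hx).2,
      fun ⟨u, hu⟩ => hu ▸ hall u⟩)
  rw [hlen, M.card] at h
  omega

theorem prop_map (g : U) {ps : List ℕ}
    (hps : ∀ p ∈ ps, ∃ v, M.cd v = p ∧ Commute g v) :
    ∀ (s : List (ℕ × ℕ × ℕ)) (v : List ℕ), wellF ps.length s v.length = true →
      (∀ x ∈ v, x < 45) →
      prop ps s (v.map (dig (M.cd g))) = (prop ps s v).map (dig (M.cd g))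
  | [], v, _, _ => rfl
  | (k, a, b) :: s, v, hw, hv => by
    simp only [wellF, Bool.and_eq_true, decide_eq_true_eq] at hw
    obtain ⟨⟨⟨hk, ha⟩, hb⟩, hw⟩ := hw
    have ea : (v.map (dig (M.cd g))).getD a 45 = dig (M.cd g) (v.getD a 45) := by
      rw [List.getD_eq_getElem _ _ (by simpa using ha), List.getElem_map,
        List.getD_eq_getElem _ _ ha]
    have eb : (v.map (dig (M.cd g))).getD b 45 = dig (M.cd g) (v.getD b 45) := by
      rw [List.getD_eq_getElem _ _ (by simpa using hb), List.getElem_map,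
        List.getD_eq_getElem _ _ hb]
    have va : v.getD a 45 < 45 := by
      rw [List.getD_eq_getElem _ _ ha]; exact hv _ (List.getElem_mem _)
    have vb : v.getD b 45 < 45 := by
      rw [List.getD_eq_getElem _ _ hb]; exact hv _ (List.getElem_mem _)
    set x := (if k = 0 then op (v.getD a 45) (v.getD b 45)
      else dig (ps.getD (k - 1) (idc 45)) (v.getD a 45)) with hx
    have hx45 : x < 45 ∧ (if k = 0 then op ((v.map (dig (M.cd g))).getD a 45)
        ((v.map (dig (M.cd g))).getD b 45) else dig (ps.getD (k - 1) (idc 45))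
          ((v.map (dig (M.cd g))).getD a 45)) = dig (M.cd g) x := by
      rw [hx, ea, eb]
      split_ifs with h0
      · refine ⟨op_lt va vb, ?_⟩
        rw [M.dig_cd' g va, M.dig_cd' g vb, M.dig_cd' g (op_lt va vb), ← M.op_eq]
        congr 1
        have e : (⟨op (v.getD a 45) (v.getD b 45), op_lt va vb⟩ : Fin 45) =
            M.π (M.tE ⟨_, va⟩) ⟨_, vb⟩ := Fin.ext (M.op_eq ⟨_, va⟩ ⟨_, vb⟩).symm
        rw [e, ← M.conj]
        simp [map_mul]
      · obtain ⟨u, hu, hcu⟩ := hps (ps.getD (k - 1) (idc 45)) (by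
          rw [List.getD_eq_getElem _ _ (by omega)]; exact List.getElem_mem _)
        rw [← hu, M.dig_cd' u va, M.dig_cd' g va, M.dig_cd, M.dig_cd]
        refine ⟨Fin.is_lt _, congrArg Fin.val ?_⟩
        rw [← Equiv.Perm.mul_apply, ← Equiv.Perm.mul_apply, ← map_mul, ← map_mul, hcu.eq]
    rw [prop, prop, hx45.2, ← prop_map g hps s (v ++ [x]) (by simpa using hw) (by
      simp only [List.mem_append, List.mem_singleton]
      rintro y (h | rfl)
      exacts [hv y h, hx45.1]), List.map_append]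
    rfl

/-- The centralizer bound by propagation. -/
theorem cent_bound {ps fixed : List ℕ} {base : ℕ} {sc : List (ℕ × ℕ × ℕ)} {allowed : List ℕ}
    (h : centOK ps fixed base sc allowed = true) (g : U)
    (hps : ∀ p ∈ ps, ∃ v, M.cd v = p ∧ Commute g v)
    (hfix : ∀ i : Fin 45, (i : ℕ) ∈ fixed → M.π g i = i) : M.cd g ∈ allowed := by
  simp only [centOK, Bool.and_eq_true, List.all_eq_true, List.mem_range, Bool.or_eq_true,
    Bool.not_eq_true', List.contains_iff_mem, decide_eq_true_eq, Cfsg.Agent.LeechCert.force_eq] at h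
  obtain ⟨⟨⟨⟨hw, hb⟩, hf⟩, hknown⟩, hcand⟩ := h
  have hv : ∀ x ∈ fixed ++ [base], x < 45 := by
    simp only [List.mem_append, List.mem_singleton]
    rintro x (hx | rfl)
    exacts [hf x hx, hb]
  have hmap : (fixed ++ [base]).map (dig (M.cd g)) = fixed ++ [(M.π g ⟨base, hb⟩ : ℕ)] := by
    rw [List.map_append, List.map_singleton, M.dig_cd' g hb]
    congr 1
    refine (List.map_congr_left fun x hx => ?_).trans (List.map_id fixed)
    rw [M.dig_cd' g (hf x hx), hfix ⟨x, hf x hx⟩ hx]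
    rfl
  have hprop := M.prop_map g hps sc (fixed ++ [base]) (by simpa using hw) hv
  rw [hmap] at hprop
  have hcd : cand ps sc (prop ps sc (fixed ++ [base])) (fixed ++ [(M.π g ⟨base, hb⟩ : ℕ)]) =
      M.cd g := by
    rw [cand, hprop, cd]
    refine (code_eq fun i => ?_).symm
    have hm := hknown i i.2
    have hi := List.idxOf_lt_length_of_mem hm
    rw [List.getD_eq_getElem _ _ (by simpa using hi), List.getElem_map, List.getElem_idxOf hi,
      ← M.dig_cd]
    rfl
  have := hcand _ (M.π g ⟨base, hb⟩).2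
  rw [hcd] at this
  refine this.resolve_left fun hn => ?_
  have hauto : isAuto ps (M.cd g) = true := by
    simp only [isAuto, Bool.and_eq_true, List.all_eq_true, List.mem_range, beq_iff_eq,
      decide_eq_true_eq]
    refine ⟨⟨fun p hp i hi => ?_, ?_⟩, fun i hi t ht => ?_⟩
    · obtain ⟨u, rfl, hcu⟩ := hps p hp
      rw [M.dig_cd' u hi, M.dig_cd' g hi, M.dig_cd, M.dig_cd, ← Equiv.Perm.mul_apply,
        ← Equiv.Perm.mul_apply, ← map_mul, ← map_mul, hcu.eq]
    · refine List.Nodup.map_on (fun a ha b hb' e => ?_) List.nodup_range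
      rw [M.dig_cd' g (List.mem_range.1 ha), M.dig_cd' g (List.mem_range.1 hb')] at e
      exact congrArg Fin.val ((M.π g).injective (Fin.ext e))
    · rw [M.dig_cd' g hi, M.dig_cd' g ht, M.dig_cd' g (op_lt hi ht), ← M.op_eq]
      congr 1
      rw [show (⟨op i t, op_lt hi ht⟩ : Fin 45) = M.π (M.tE ⟨i, hi⟩) ⟨t, ht⟩ from
        Fin.ext (M.op_eq ⟨i, hi⟩ ⟨t, ht⟩).symm, ← M.conj]
      simp [map_mul]
  rw [hauto] at hn
  exact Bool.noConfusion hn

include M in
theorem five {s : U} (hs : orderOf s = 5) : Nat.card (centralizer ({s} : Set U)) = 5 := by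
  haveI := M.finite
  haveI : Fact (Nat.Prime 5) := ⟨by norm_num⟩
  have h5 := five_ok
  simp only [Bool.and_eq_true, beq_iff_eq, bne_iff_ne] at h5
  obtain ⟨⟨⟨hc, hlen⟩, hne⟩, hpow⟩ := h5
  set s0 : U := ((fiveW.map M.gE).prod) with hs0def
  have hs0 : M.cd s0 = fiveC' :=
    (exists_word (by norm_num) M.π ⊤ g45 M.gE fiveW M.cd_gE fun k _ => mem_top _).2
  have ho : orderOf s0 = 5 := orderOf_eq_prime (M.cd_inj (by
    simp only [pow_succ', pow_zero, mul_one]
    rw [M.cd_mul, M.cd_mul, M.cd_mul, M.cd_mul, M.cd_one, hs0, hpow])) fun e => hne (by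
    rw [← hs0, e, M.cd_one])
  have hle : Nat.card (centralizer ({s0} : Set U)) ≤ 10 := by
    classical
    let f : centralizer ({s0} : Set U) → {x : ℕ // x ∈ fiveAut.toFinset} := fun g =>
      ⟨M.cd g, List.mem_toFinset.2 (M.cent_bound hc g (fun p hp => by
        rw [List.mem_singleton] at hp
        exact ⟨s0, hp ▸ hs0, mem_cent.1 g.2⟩) (fun i hi => absurd hi List.not_mem_nil))⟩
    have := Nat.card_le_card_of_injective f fun a b h =>
      Subtype.ext (M.cd_inj (congrArg Subtype.val h))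
    rw [Nat.card_eq_fintype_card (α := {x : ℕ // x ∈ fiveAut.toFinset}), Fintype.card_coe] at this
    exact this.trans ((List.toFinset_card_le _).trans hlen.le)
  obtain ⟨P, hP⟩ : ∃ P : Sylow 5 U, zpowers s0 ≤ P :=
    (IsPGroup.of_card (n := 1) (by rw [Nat.card_zpowers, ho, pow_one])).exists_le_sylow
  have hPc : Nat.card (P : Subgroup U) = 5 := by
    rw [P.card_eq_multiplicity, M.card, show (25920 : ℕ) = 5 * 5184 by norm_num,
      Nat.factorization_mul (by norm_num) (by norm_num), Finsupp.add_apply,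
      Nat.Prime.factorization (by norm_num : Nat.Prime 5), Finsupp.single_eq_same,
      Nat.factorization_eq_zero_of_not_dvd (by norm_num : ¬ 5 ∣ 5184)]
    rfl
  have hz : zpowers s0 = (P : Subgroup U) :=
    eq_of_le_of_card_ge hP (by rw [Nat.card_zpowers, ho, hPc])
  obtain ⟨Q, hQ⟩ : ∃ Q : Sylow 5 U, zpowers s ≤ Q :=
    (IsPGroup.of_card (n := 1) (by rw [Nat.card_zpowers, hs, pow_one])).exists_le_sylow
  obtain ⟨g, hg⟩ := MulAction.exists_smul_eq U Q P
  have hmem : g * s * g⁻¹ ∈ zpowers s0 := by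
    rw [hz, ← hg, Sylow.coe_subgroup_smul]
    exact ⟨s, hQ (mem_zpowers s), rfl⟩
  have hz2 : zpowers (g * s * g⁻¹) = zpowers s0 := eq_of_le_of_card_ge (zpowers_le.2 hmem) (by
    rw [Nat.card_zpowers, Nat.card_zpowers, ho,
      show g * s * g⁻¹ = MulAut.conj g s from rfl, MulEquiv.orderOf_eq, hs])
  have hce : centralizer ({g * s * g⁻¹} : Set U) = centralizer ({s0} : Set U) := by
    rw [← centralizer_closure, ← zpowers_eq_closure, hz2, zpowers_eq_closure, centralizer_closure]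
  rw [← card_cent_conj g s, hce]
  have hd5 : 5 ∣ Nat.card (centralizer ({s0} : Set U)) := by
    rw [← ho]
    exact (Subgroup.orderOf_coe (⟨s0, mem_cent.2 rfl⟩ : centralizer ({s0} : Set U))).symm ▸
      orderOf_dvd_natCard _
  obtain ⟨k, hk⟩ := hd5
  have hk0 : k ≠ 0 := fun e => Nat.card_pos.ne' (by rw [hk, e] : Nat.card _ = 0)
  rcases (show k = 1 ∨ k = 2 by omega) with rfl | rfl
  · exact hk
  exfalso
  haveI : Fact (Nat.Prime 2) := ⟨Nat.prime_two⟩
  obtain ⟨x, hx⟩ := exists_prime_orderOf_dvd_card' (G := centralizer ({s0} : Set U)) 2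
    (by rw [hk]; norm_num)
  have hx' : orderOf (x : U) = 2 := (Subgroup.orderOf_coe x).trans hx
  have hxx : (x : U) * x = 1 := by rw [← pow_two, ← hx', pow_orderOf_eq_one]
  have hx1 : (x : U) ≠ 1 := fun e => by rw [e, orderOf_one] at hx'; omega
  have hs0x : s0 ∈ centralizer ({(x : U)} : Set U) := mem_cent.2 (mem_cent.1 x.2).symm
  have hd : 5 ∣ Nat.card (centralizer ({(x : U)} : Set U)) := by
    rw [← ho, ← Subgroup.orderOf_mk _ hs0x]
    exact orderOf_dvd_natCard _
  by_cases hxT : (x : U) ∈ M.T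
  · rw [M.cent_T hxT] at hd; norm_num at hd
  · rw [(M.other hxx hx1 hxT).1] at hd; norm_num at hd

theorem nbr_cent {a : U} (ha : a ∈ M.T) (g : U)
    (hg : ∀ b ∈ M.T, b ≠ a → Commute b a → Commute g b) : g = 1 ∨ g = a := by
  obtain ⟨k, hk⟩ := M.trans (a := M.sA) ⟨_, rfl⟩ ha
  have hb := M.cent_bound nbr_ok (k⁻¹ * g * k) (fun p hp => absurd hp List.not_mem_nil) fun i hi => ?_
  · simp only [List.mem_cons, List.not_mem_nil, or_false] at hb
    rcases hb with h | h
    · left
      have := M.cd_inj (h.trans M.cd_one.symm)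
      calc g = k * (k⁻¹ * g * k) * k⁻¹ := by group
        _ = 1 := by rw [this]; group
    · right
      have := M.cd_inj (h.trans M.cd_sA.symm)
      calc g = k * (k⁻¹ * g * k) * k⁻¹ := by group
        _ = a := by rw [this, hk]
  · simp only [nbrs, List.mem_filter, List.mem_range, Bool.and_eq_true, bne_iff_ne] at hi
    obtain ⟨-, hne, hc⟩ := hi
    have hne' : M.tE i ≠ M.sA := fun e => hne (congrArg Fin.val (M.tE_inj e))
    have hcom : Commute (M.tE i) M.sA := ((M.commute_iff ⟨nA, nA_lt.1⟩ i).2 hc).symm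
    have h1 := hg (k * M.tE i * k⁻¹) (M.conj_T ⟨i, rfl⟩ k)
      (fun e => hne' (mul_left_cancel (mul_right_cancel (e.trans hk.symm))))
      (hk ▸ hcom.map (MulAut.conj k).toMonoidHom)
    refine M.tE_inj ?_
    rw [← M.conj, mul_inv_eq_iff_eq_mul]
    calc k⁻¹ * g * k * M.tE i = k⁻¹ * (g * (k * M.tE i * k⁻¹)) * k := by group
      _ = k⁻¹ * ((k * M.tE i * k⁻¹) * g) * k := by rw [h1.eq]
      _ = M.tE i * (k⁻¹ * g * k) := by group

theorem hop {a b : U} (ha : a ∈ M.T) (hb : b ∈ M.T) (hn : ¬ Commute a b) :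
    ∃ c₁ ∈ M.T, ∃ c₂ ∈ M.T, Commute c₁ b ∧ Commute c₂ b ∧
      Commute (c₂ * (c₁ * a * c₁) * c₂) a ∧ c₂ * (c₁ * a * c₁) * c₂ ≠ a := by
  obtain ⟨i, rfl⟩ := ha
  obtain ⟨k, rfl⟩ := hb
  have h := hop_ok
  simp only [List.all_eq_true, List.any_eq_true, List.mem_range, Bool.or_eq_true,
    Bool.and_eq_true, bne_iff_ne] at h
  rcases h i i.2 k k.2 with h1 | ⟨c1, h1, hc1, c2, h2, ⟨hc2, hc⟩, hne⟩
  · exact absurd ((M.commute_iff i k).2 h1) hn
  refine ⟨M.tE ⟨c1, h1⟩, ⟨_, rfl⟩, M.tE ⟨c2, h2⟩, ⟨_, rfl⟩,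
    (M.commute_iff ⟨c1, h1⟩ k).2 hc1, (M.commute_iff ⟨c2, h2⟩ k).2 hc2, ?_, ?_⟩
  · rw [M.sts, M.sts, M.commute_iff, M.op_eq, M.op_eq]
    exact hc
  · rw [M.sts, M.sts, M.tE_inj.ne_iff, Ne, Fin.ext_iff, M.op_eq, M.op_eq]
    exact hne

end Model

end Cfsg.Agent.U62From98Cert
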