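import Mathlib
import Cfsg.Agent.Lib.LeechCert

/-!
Permutations of a small set encoded as natural numbers, one byte a point, for the certificate
about `U₄(2)`.
-/

set_option autoImplicit false

namespace Cfsg.Agent.U62From98CertCode

open Cfsg.Agent.LeechCert (force force_eq)

/-- the `i`-th byte -/
def dig (P i : ℕ) : ℕ := Nat.land (Nat.shiftRight P (8 * i)) 255

theorem dig_eq (P i : ℕ) : dig P i = (P >>> (8 * i)) % 256 :=
  Nat.and_two_pow_sub_one_eq_mod (P >>> (8 * i)) 8

/-- the number with given bytes -/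
def pack : List ℕ → ℕ
  | [] => 0
  | a :: l => force a fun a => force (pack l) fun r => r * 256 + a

theorem dig_pack : ∀ (l : List ℕ) (i : ℕ), (∀ a ∈ l, a < 256) → (h : i < l.length) →
    dig (pack l) i = l[i]
  | a :: l, 0, hl, _ => by
    have ha := hl a List.mem_cons_self
    simp only [pack, force_eq, dig_eq, Nat.mul_zero, Nat.shiftRight_zero, List.getElem_cons_zero]
    omega
  | a :: l, i + 1, hl, h => by
    have ha := hl a List.mem_cons_self
    have := dig_pack l i (fun x hx => hl x (List.mem_cons_of_mem _ hx)) (by simpa using h)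
    simp only [pack, force_eq, dig_eq, List.getElem_cons_succ] at this ⊢
    rw [← this, show 8 * (i + 1) = 8 + 8 * i by ring, Nat.shiftRight_add]
    congr 2
    rw [Nat.shiftRight_eq_div_pow]
    omega

/-- the code of a table -/
def mk (n : ℕ) (f : ℕ → ℕ) : ℕ := pack ((List.range n).map f)

theorem dig_mk {n : ℕ} {f : ℕ → ℕ} (hf : ∀ i < n, f i < 256) {i : ℕ} (hi : i < n) :
    dig (mk n f) i = f i := by
  rw [mk, dig_pack _ _ (by simpa using hf) (by simpa using hi)]
  simp

theorem mk_congr {n : ℕ} {f g : ℕ → ℕ} (h : ∀ i < n, f i = g i) : mk n f = mk n g := by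
  unfold mk
  exact congrArg pack (List.map_congr_left fun i hi => h i (List.mem_range.1 hi))

/-- composition of codes -/
def comp (n P Q : ℕ) : ℕ := force P fun P => force Q fun Q => mk n fun i => dig P (dig Q i)

/-- the code of the identity -/
def idc (n : ℕ) : ℕ := mk n fun i => i

variable {n : ℕ}

/-- the code of a permutation -/
def code (σ : Equiv.Perm (Fin n)) : ℕ :=
  mk n fun i => if h : i < n then (σ ⟨i, h⟩ : ℕ) else 0

theorem dig_code (hn : n ≤ 256) (σ : Equiv.Perm (Fin n)) (i : Fin n) : dig (code σ) i = σ i := by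
  unfold code
  rw [dig_mk (fun j hj => by rw [dif_pos hj]; omega) i.2]
  simp

theorem code_inj (hn : n ≤ 256) : Function.Injective (code (n := n)) := fun σ τ h =>
  Equiv.ext fun i => Fin.ext (by rw [← dig_code hn σ i, h, dig_code hn])

theorem code_mul (hn : n ≤ 256) (σ τ : Equiv.Perm (Fin n)) :
    code (σ * τ) = comp n (code σ) (code τ) := by
  rw [comp, force_eq, force_eq]
  unfold code
  refine mk_congr fun i hi => ?_
  rw [dif_pos hi]
  have h1 := dig_code hn τ ⟨i, hi⟩
  have h2 := dig_code hn σ (τ ⟨i, hi⟩)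
  unfold code at h1 h2
  rw [h1, h2]
  rfl

theorem code_one : code (1 : Equiv.Perm (Fin n)) = idc n :=
  mk_congr fun i hi => by rw [dif_pos hi]; rfl

theorem code_eq {σ : Equiv.Perm (Fin n)} {f : ℕ → ℕ} (h : ∀ i : Fin n, (σ i : ℕ) = f i) :
    code σ = mk n f := mk_congr fun i hi => by rw [dif_pos hi]; exact h ⟨i, hi⟩

/-- grow a list along a script -/
def grow {α : Type} (d : α) (f : ℕ → α → α) : List (ℕ × ℕ) → List α → List α
  | [], acc => acc
  | (j, k) :: s, acc => grow d f s (acc ++ [f j (acc.getD k d)])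

theorem grow_mem {α : Type} {d : α} {p : α → Prop} {f : ℕ → α → α} (hd : p d)
    (hf : ∀ j x, p x → p (f j x)) :
    ∀ (s : List (ℕ × ℕ)) (acc : List α), (∀ x ∈ acc, p x) → ∀ x ∈ grow d f s acc, p x
  | [], acc, hacc => hacc
  | (j, k) :: s, acc, hacc => by
    refine grow_mem hd hf s _ fun x hx => ?_
    rcases List.mem_append.1 hx with h | h
    · exact hacc x h
    · rw [List.mem_singleton] at h
      subst h
      refine hf _ _ ?_
      rw [List.getD_eq_getElem?_getD]
      cases hk : acc[k]? with
      | none => exact hd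
      | some y => exact hacc y (List.mem_of_getElem? hk)

theorem mem_grow {α : Type} {d : α} {f : ℕ → α → α} :
    ∀ (s : List (ℕ × ℕ)) (acc : List α) {x : α}, x ∈ acc → x ∈ grow d f s acc
  | [], _, _, h => h
  | (_, _) :: s, _, _, h => mem_grow s _ (List.mem_append_left _ h)

end Cfsg.Agent.U62From98CertCode
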