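import Cfsg.Agent.Lib.U62From98CertCode
import Cfsg.Agent.Lib.U62From98CertData
import Cfsg.Agent.Lib.PSUFourTwoPSpData57

/-!
Definitions for the kernel computations about `U₄(2)` and its class of forty-five involutions.
-/

set_option autoImplicit false

namespace Cfsg.Agent.U62From98CertDefs

open Cfsg.Agent.U62From98CertCode Cfsg.Agent.U62From98CertData
open Cfsg.Agent.LeechCert (force)

/-- the forty transvections as tables -/
def sN (i j : ℕ) : ℕ := Cfsg.Agent.PSUFourTwoPSp57.sigL.getD i 0 / 64 ^ j % 64 % 40
/-- the generators on forty points -/
def g40 : List ℕ := gid.map fun i => mk 40 (sN i)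
/-- the code of a word in some generators -/
def wv (n : ℕ) (gs : List ℕ) (w : List ℕ) : ℕ :=
  w.foldr (fun k r => comp n (gs.getD k (idc n)) r) (idc n)
/-- the class on forty points -/
def t40 : List ℕ := tW.map (wv 40 g40)
/-- a generator on the class -/
def gg (j : ℕ) : ℕ := g45.getD j (idc 45)
/-- the inverse of a generator on the class -/
def gi (j : ℕ) : ℕ := comp 45 (gg j) (gg j)
/-- conjugation by a generator -/
def cj (j x : ℕ) : ℕ := comp 45 (comp 45 (gg j) x) (gi j)
/-- a member of the class -/
def te (s : ℕ) : ℕ := tt.getD s (idc 45)
/-- the action of a member on another -/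
def op (s t : ℕ) : ℕ := dig (te s) t
/-- two members commute -/
def com (s t : ℕ) : Bool := op s t == t
/-- the action of a code on a point -/
def act (g x : ℕ) : ℕ := if x < 45 then dig g x else 45
/-- the second class -/
def otherL : List ℕ := grow (idc 45) cj otherS [comp 45 (te nA) (te nB)]
/-- the class as an orbit -/
def ptL : List ℕ := grow 45 (fun j x => act (gg j) x) ptS [nA]
/-- the commuting pairs -/
def pairL : List (ℕ × ℕ) :=
  grow (45, 45) (fun j x => (act (gg j) x.1, act (gg j) x.2)) pairS [(nA, nB)]
/-- the commuting pairs in increasing order -/
def incPairs : List (ℕ × ℕ) :=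
  (List.range 45).flatMap fun t => ((List.range t).filter fun s => com s t).map fun s => (s, t)
/-- cliques in decreasing order -/
def cliques : ℕ → List (List ℕ)
  | 0 => [[]]
  | n + 1 => (cliques n).flatMap fun K =>
      ((List.range 45).filter fun i => K.all fun k => decide (i < k) && com i k).map fun i => i :: K

/-- the generators of the Sylow subgroup -/
def sG : List ℕ := sgW.map (wv 45 g45)
/-- the Sylow subgroup -/
def sL : List ℕ := grow (idc 45) (fun j x => comp 45 (sG.getD j (idc 45)) x) sS [idc 45]
/-- a member of the Sylow subgroup -/
def se (i : ℕ) : ℕ := sL.getD i (idc 45)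
/-- the product in the Sylow subgroup -/
def mu (i k : ℕ) : ℕ := dig (tab.getD i 0) k
/-- the position of a generator -/
def sgI (j : ℕ) : ℕ := sL.idxOf (sG.getD j (idc 45))
/-- the members of a mask -/
def bits (M : ℕ) : List ℕ := (List.range 64).filter fun i => M.testBit i
/-- the involutions of the Sylow subgroup -/
def ivs : List ℕ := (List.range 64).filter fun i => i != 0 && mu i i == 0
/-- the subgroups of order two -/
def lay1 : List ℕ := ivs.map fun i => 1 + 2 ^ i
/-- adjoining an element to a subgroup -/
def ext (M i : ℕ) : ℕ := (bits M).foldl (fun r e => Nat.lor r (2 ^ mu i e)) M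
/-- every one-step extension of a layer is in the next -/
def stepOK (L L' : List ℕ) : Bool :=
  L.all fun M => ivs.all fun i =>
    M.testBit i || (bits M).any (fun e => mu i e != mu e i) || L'.contains (ext M i)
/-- the codes of a representative -/
def repC (R : List (List ℕ)) (r : ℕ) : List ℕ := idc 45 :: (R.getD r []).map se
/-- every member of a layer is conjugate to a representative -/
def connOK (L : List ℕ) (R : List (List ℕ)) (ix : List ℕ) (cn : List (List ℕ)) (sz : ℕ) : Bool :=
  (List.range L.length).all fun n =>
    let M := L.getD n 0
    let r := ix.getD n 0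
    force (wv 45 g45 (cn.getD n [])) fun g =>
      decide (r < R.length) && (repC R r).length == sz && decide (repC R r).Nodup &&
        (repC R r).all fun e => force (comp 45 g e) fun ge =>
          (bits M).any fun i => comp 45 (se i) g == ge
/-- distinct keys of conjugates of a representative -/
def keys (R : List (List ℕ)) (S : List (List (ℕ × ℕ))) (r : ℕ) : List ℕ :=
  (grow [] (fun j xs => xs.map (cj j)) (S.getD r []) [(R.getD r []).map se]).map fun xs => (xs.map fun x => x * x).sum
/-- the members of the class in a representative -/
def tIn (R : List (List ℕ)) (r : ℕ) : List ℕ :=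
  (List.range 45).filter fun t => (repC R r).contains (te t)
/-- generators of a large normalizer -/
def maxG (p : ℕ) : List ℕ := (maxW.getD p []).map (wv 45 g45)
/-- short products in a large normalizer -/
def maxE (p : ℕ) : List ℕ :=
  let G := idc 45 :: maxG p
  G.flatMap fun a => G.map fun b => comp 45 a b
/-- the blocks of a large normalizer on the class -/
def maxBlocks (p : ℕ) : List (List ℕ) :=
  (maxB.getD p []).map fun bs =>
    grow 45 (fun j x => act ((maxG p).getD j (idc 45)) x) bs.2 [bs.1]
/-- the conjugates of the five -/
def fiveL : List (List ℕ) :=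
  grow [] (fun j K => (List.range 45).filter fun i => K.any fun x => dig (gg j) x == i) fiveS
    [(List.range 45).filter fun i => five16.contains i]

/-- the values along a propagation script -/
def prop (ps : List ℕ) : List (ℕ × ℕ × ℕ) → List ℕ → List ℕ
  | [], v => v
  | (k, a, b) :: s, v => prop ps s
      (v ++ [if k = 0 then op (v.getD a 45) (v.getD b 45)
        else dig (ps.getD (k - 1) (idc 45)) (v.getD a 45)])
/-- the map propagated from given values -/
def cand (ps : List ℕ) (sc : List (ℕ × ℕ × ℕ)) (known : List ℕ) (v : List ℕ) : ℕ :=
  let w := prop ps sc v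
  mk 45 fun i => w.getD (known.idxOf i) 45
/-- a script only refers to earlier values and given permutations -/
def wellF (np : ℕ) : List (ℕ × ℕ × ℕ) → ℕ → Bool
  | [], _ => true
  | (k, a, b) :: s, len => decide (k ≤ np) && decide (a < len) && decide (b < len) &&
      wellF np s (len + 1)
/-- a code is an automorphism of the table commuting with given permutations -/
def isAuto (ps : List ℕ) (g : ℕ) : Bool :=
  (ps.all fun p => (List.range 45).all fun i => dig g (dig p i) == dig p (dig g i)) &&
    decide ((List.range 45).map (dig g)).Nodup &&
    (List.range 45).all fun i => (List.range 45).all fun t => dig g (op i t) == op (dig g i) (dig g t)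
/-- the centraliser bound -/
def centOK (ps fixed : List ℕ) (base : ℕ) (sc : List (ℕ × ℕ × ℕ)) (allowed : List ℕ) : Bool :=
  let known := prop ps sc (fixed ++ [base])
  wellF ps.length sc (fixed.length + 1) && decide (base < 45) &&
    fixed.all (fun i => decide (i < 45)) &&
  ((List.range 45).all fun i => known.contains i) &&
    (List.range 45).all fun b =>
      force (cand ps sc known (fixed ++ [b])) fun g => !isAuto ps g || allowed.contains g
/-- the neighbours of the chosen member -/
def nbrs : List ℕ := (List.range 45).filter fun i => i != nA && com nA i
/-- the element of order five -/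
def fiveC' : ℕ := wv 45 g45 fiveW
/-- the conditions on a central element of a subgroup -/
def validC (M c : ℕ) : Bool :=
  M.testBit c && c != 0 && mu c c == 0 &&
    (bits M).all fun p => mu p c == mu c p && (mu p p == 0 || mu p p == c)

end Cfsg.Agent.U62From98CertDefs
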