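import Cfsg.Agent.Lib.U62From98CertSub

/-!
`U₄(2)`: the elementary subgroups of order eight and sixteen, and the extraspecial subgroups.
-/

set_option autoImplicit false
set_option maxRecDepth 100000
set_option linter.style.haveILetI false

namespace Cfsg.Agent.U62From98Cert

open Subgroup
open Cfsg.Agent.U62From98CertCode Cfsg.Agent.U62From98CertData Cfsg.Agent.U62From98CertDefs
open Cfsg.Agent.U62From98 (Elem2)

attribute [local irreducible] comp idc pack U62From98CertCode.mk dig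

theorem dvd_ncard {α : Type*} (d : ℕ) : ∀ (L : List (List α)), L.flatten.Nodup →
    (∀ b ∈ L, d ∣ b.length) → ∀ O : Set α, O ⊆ {x | x ∈ L.flatten} →
    (∀ b ∈ L, ∀ x ∈ b, x ∈ O → ∀ y ∈ b, y ∈ O) → d ∣ O.ncard
  | [], _, _, O, hO, _ => by
    have : O = ∅ := Set.subset_empty_iff.1 fun x hx => by simpa using hO hx
    rw [this, Set.ncard_empty]; exact dvd_zero d
  | b :: L, hn, hd, O, hO, hcl => by
    classical
    rw [List.flatten_cons, List.nodup_append'] at hn
    obtain ⟨hb, hL, hdis⟩ := hn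
    have hfin : O.Finite := (List.finite_toSet (b :: L).flatten).subset hO
    have ih := dvd_ncard d L hL (fun x hx => hd x (List.mem_cons_of_mem _ hx))
      (O \ {x | x ∈ b}) (fun x hx => by
        have := hO hx.1
        simp only [Set.mem_setOf_eq, List.flatten_cons, List.mem_append] at this
        exact this.resolve_left hx.2)
      fun c hc x hx hxO y hy =>
        ⟨hcl c (List.mem_cons_of_mem _ hc) x hx hxO.1 y hy,
          fun hyb => hdis hyb (List.mem_flatten.2 ⟨c, hc, hy⟩)⟩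
    by_cases h : ∃ x ∈ b, x ∈ O
    · obtain ⟨x, hxb, hxO⟩ := h
      have hsub : {x | x ∈ b} ⊆ O := fun y hy => hcl b List.mem_cons_self x hxb hxO y hy
      rw [← Set.ncard_sdiff_add_ncard_of_subset hsub hfin]
      refine dvd_add ih ?_
      rw [← List.coe_toFinset, Set.ncard_coe_finset, List.toFinset_card_of_nodup hb]
      exact hd b List.mem_cons_self
    · push Not at h
      rwa [show O \ {x | x ∈ b} = O from
        Disjoint.sdiff_eq_left (Set.disjoint_left.2 fun y hyO hyb => h y hyb hyO)] at ih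

theorem contains_false {α : Type*} [BEq α] [LawfulBEq α] {l : List α} {a : α}
    (h : l.contains a = false) : a ∉ l := fun hm => by
  rw [List.contains_iff_mem.2 hm] at h; exact Bool.noConfusion h

namespace Model

variable {U : Type*} [Group U] (M : Model U)

theorem mem_tIn {R : List (List ℕ)} {r : ℕ} {E : Subgroup U} (hR : M.Rep R r E) (i : Fin 45) :
    (i : ℕ) ∈ tIn R r ↔ M.tE i ∈ E := by
  rw [hR, cd, M.cd_tE, tIn, List.mem_filter, List.mem_range, List.contains_iff_mem]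
  exact and_iff_right i.2

theorem lt_of_mem_tIn {R : List (List ℕ)} {r i : ℕ} (h : i ∈ tIn R r) : i < 45 :=
  List.mem_range.1 (List.mem_filter.1 h).1

theorem unconj {E : Subgroup U} {g : U} {u : U}
    (h : u ∈ E.map (MulAut.conj g).toMonoidHom) : g⁻¹ * u * g ∈ E := by
  obtain ⟨v, hv, rfl⟩ := h
  simpa [mul_assoc] using hv

theorem norm_conj {E : Subgroup U} {g n : U} [Finite U]
    (h : n ∈ normalizer ((E.map (MulAut.conj g).toMonoidHom : Subgroup U) : Set U)) :
    g⁻¹ * n * g ∈ normalizer (E : Set U) :=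
  norm_of_le fun u hu => by
    have := unconj ((mem_norm h).1 (mem_map_of_mem _ hu))
    simp only [MulEquiv.coe_toMonoidHom, MulAut.conj_apply] at this
    convert this using 1
    group

theorem norm_conj' {E : Subgroup U} {g n : U} [Finite U] (h : n ∈ normalizer (E : Set U)) :
    g * n * g⁻¹ ∈ normalizer ((E.map (MulAut.conj g).toMonoidHom : Subgroup U) : Set U) :=
  norm_of_le fun u hu => by
    have := mem_map_of_mem (MulAut.conj g).toMonoidHom ((mem_norm h).1 (unconj hu))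
    simp only [MulEquiv.coe_toMonoidHom, MulAut.conj_apply] at this
    convert this using 1
    group

theorem keys3_facts {r : ℕ} (hr : r < rep3.length) {E : Subgroup U} (hR : M.Rep rep3 r E) :
    Nat.card (normalizer (E : Set U)) ≤ 192 ∧
      (r ∉ maxIdx → Nat.card (normalizer (E : Set U)) < 192) ∧ 1 ≤ (tIn rep3 r).length ∧
        (r ∈ maxIdx → (tIn rep3 r).length = 1) := by
  haveI := M.finite
  have h := keys3_ok
  simp only [Bool.and_eq_true, List.all_eq_true, List.mem_range, decide_eq_true_eq,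
    Bool.not_eq_true', Bool.or_eq_true, beq_iff_eq] at h
  obtain ⟨⟨⟨⟨⟨h0, hn⟩, h135⟩, h136⟩, h1⟩, hone⟩ := h r hr
  have hb := M.keys_bound hR (rep_nodup conn3 (all3 r hr)) hn (contains_false h0)
  refine ⟨?_, fun hni => ?_, h1, fun hi => ?_⟩
  · have := Nat.mul_le_mul_right (Nat.card (normalizer (E : Set U))) h135
    omega
  · have h136' := h136.resolve_left fun hc => hni (List.contains_iff_mem.1 hc)
    have := Nat.mul_le_mul_right (Nat.card (normalizer (E : Set U))) h136'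
    omega
  · refine hone.resolve_left fun hc => ?_
    exact contains_false hc hi

include M in
theorem eight {E : Subgroup U} (hE : Elem2 E) (hcard : Nat.card E = 8) :
    Nat.card (normalizer (E : Set U)) ≤ 192 ∧ ∃ a ∈ M.T, a ∈ E := by
  obtain ⟨g, r, hr, hR⟩ := M.normal_form hE (k := 3) (by norm_num) hcard conn3
  obtain ⟨h192, -, h1, -⟩ := M.keys3_facts hr hR
  rw [norm_card_conj] at h192
  obtain ⟨i, hi⟩ : ∃ i, i ∈ tIn rep3 r := ⟨_, List.getElem_mem (n := 0) (by omega)⟩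
  have := unconj ((M.mem_tIn hR ⟨i, lt_of_mem_tIn hi⟩).1 hi)
  refine ⟨h192, _, ?_, this⟩
  simpa using M.conj_T (a := M.tE ⟨i, lt_of_mem_tIn hi⟩) ⟨_, rfl⟩ g⁻¹

theorem eight_max_rep [Finite U] {p : ℕ} (hp : p < maxIdx.length) {E : Subgroup U}
    (hR : M.Rep rep3 (maxIdx.getD p 0) E) (hone : (tIn rep3 (maxIdx.getD p 0)).length = 1) :
    ∃ a, M.tE a ∈ E ∧ (∀ g ∈ normalizer (E : Set U), g * M.tE a * g⁻¹ = M.tE a) ∧
      (∀ b, b ≠ a →
        {c | ∃ g ∈ normalizer (E : Set U), g * M.tE b * g⁻¹ = c}.ncard ∉ ({1, 2, 3, 6} : Set ℕ)) ∧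
      (∀ b ∈ E, b ≠ 1 → b ≠ M.tE a → ∀ c ∈ E, c ≠ 1 → c ≠ M.tE a →
        ∃ g ∈ normalizer (E : Set U), g * b * g⁻¹ = c ∨ g * b * g⁻¹ = M.tE a * c) := by
  obtain ⟨a0, ha0⟩ := List.length_eq_one_iff.1 hone
  have ha45 : a0 < 45 := lt_of_mem_tIn (R := rep3) (r := maxIdx.getD p 0) (by rw [ha0]; simp)
  set a : Fin 45 := ⟨a0, ha45⟩
  have huniq : ∀ i : Fin 45, M.tE i ∈ E → i = a := fun i hi => by
    have := (M.mem_tIn hR i).2 hi
    rw [ha0, List.mem_singleton] at this
    exact Fin.ext this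
  have haE : M.tE a ∈ E := (M.mem_tIn hR a).1 (by rw [ha0]; simp [a])
  have hfix : ∀ g ∈ normalizer (E : Set U), g * M.tE a * g⁻¹ = M.tE a := fun g hg => by
    have h1 := (mem_norm hg).1 haE
    rw [M.conj] at h1 ⊢
    rw [huniq _ h1]
  have h := max_ok
  simp only [Bool.and_eq_true, List.all_eq_true, List.mem_range, decide_eq_true_eq, beq_iff_eq,
    List.any_eq_true, Bool.or_eq_true, Bool.not_eq_true'] at h
  obtain ⟨⟨⟨⟨⟨⟨hgens, hlen⟩, hnd⟩, hna⟩, h45⟩, hblk⟩, htr⟩ := h p hp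
  rw [ha0] at hna htr
  have hgN : ∀ x ∈ idc 45 :: maxG p, ∃ n ∈ normalizer (E : Set U), M.cd n = x := by
    intro x hx
    rcases List.mem_cons.1 hx with rfl | hx
    · exact ⟨1, one_mem _, M.cd_one⟩
    obtain ⟨w, -, rfl⟩ := List.mem_map.1 hx
    obtain ⟨n, hn⟩ : ∃ n, M.cd n = wv 45 g45 w :=
      ⟨_, (exists_word (by norm_num) M.π ⊤ g45 M.gE _ M.cd_gE fun k _ => mem_top _).2⟩
    refine ⟨n, norm_of_le fun u hu => ?_, hn⟩
    obtain ⟨y, hy, he⟩ := hgens _ hx _ ((hR u).1 hu)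
    obtain ⟨v, hv⟩ := M.repC_spec _ _ hy
    rw [← hn, ← hv, ← M.cd_mul, ← M.cd_mul] at he
    have hvE : v ∈ E := (hR v).2 (hv ▸ hy)
    rwa [M.cd_inj he, mul_inv_cancel_right]
  have hblock : ∀ bl ∈ maxBlocks p, ∃ root, ∀ x ∈ bl, x = 45 ∨
      ∃ n ∈ normalizer (E : Set U), ∃ hr : root < 45, (M.π n ⟨root, hr⟩ : ℕ) = x := by
    intro bl hbl
    obtain ⟨bs, -, rfl⟩ := List.mem_map.1 hbl
    refine ⟨bs.1, grow_mem (p := fun x : ℕ => x = 45 ∨ ∃ n ∈ normalizer (E : Set U),
      ∃ hr : bs.1 < 45, (M.π n ⟨bs.1, hr⟩ : ℕ) = x) (Or.inl rfl) (fun j x hx => ?_) _ _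
      fun x hx => ?_⟩
    · rcases hx with rfl | ⟨n, hn, hr, rfl⟩
      · exact Or.inl rfl
      · obtain ⟨m, hm, hmc⟩ := hgN ((maxG p).getD j (idc 45)) (by
          by_cases hj : j < (maxG p).length
          · rw [List.getD_eq_getElem _ _ hj]; exact List.mem_cons_of_mem _ (List.getElem_mem _)
          · rw [List.getD_eq_default _ _ (by omega)]; exact List.mem_cons_self)
        refine Or.inr ⟨m * n, Subgroup.mul_mem _ hm hn, hr, ?_⟩
        rw [act, if_pos (Fin.is_lt _), ← hmc, M.dig_cd, map_mul, Equiv.Perm.mul_apply]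
    · rw [List.mem_singleton] at hx
      subst hx
      have hlt : bs.1 < 45 := h45 _ (List.mem_flatten.2 ⟨_, hbl, mem_grow _ _ List.mem_cons_self⟩)
      exact Or.inr ⟨1, one_mem _, hlt, by simp⟩
  refine ⟨a, haE, hfix, fun b hb hmem => ?_, fun b hbE hb1 hba c hcE hc1 hca => ?_⟩
  · set O : Set ℕ := {x | ∃ n ∈ normalizer (E : Set U), (M.π n b : ℕ) = x} with hO
    have heq : {c | ∃ g ∈ normalizer (E : Set U), g * M.tE b * g⁻¹ = c}.ncard = O.ncard := by
      have hinj : Function.Injective fun i : Fin 45 => M.tE i := M.tE_inj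
      rw [show {c | ∃ g ∈ normalizer (E : Set U), g * M.tE b * g⁻¹ = c} =
          (fun i : Fin 45 => M.tE i) '' {i | ∃ g ∈ normalizer (E : Set U), M.π g b = i} from by
        ext c
        constructor
        · rintro ⟨g, hg, rfl⟩
          exact ⟨M.π g b, ⟨g, hg, rfl⟩, (M.conj g b).symm⟩
        · rintro ⟨_, ⟨g, hg, rfl⟩, rfl⟩
          exact ⟨g, hg, M.conj g b⟩, Set.ncard_image_of_injective _ hinj,
        ← Set.ncard_image_of_injective _ Fin.val_injective]
      congr 1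
      ext x
      constructor
      · rintro ⟨_, ⟨g, hg, rfl⟩, rfl⟩
        exact ⟨g, hg, rfl⟩
      · rintro ⟨g, hg, rfl⟩
        exact ⟨_, ⟨g, hg, rfl⟩, rfl⟩
    have hna' : ∀ g ∈ normalizer (E : Set U), M.π g b ≠ a := by
      intro g hg he
      refine hb ((M.π g).injective (he.trans ?_))
      have := hfix g hg
      rw [M.conj] at this
      exact (M.tE_inj this).symm
    have hOsub : O ⊆ {x | x ∈ (maxBlocks p).flatten} := by
      rintro x ⟨g, hg, rfl⟩
      have hxa : (M.π g b : ℕ) ≠ a0 := fun e => hna' g hg (Fin.ext e)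
      by_contra hx
      have hL : (a0 :: (M.π g b : ℕ) :: (maxBlocks p).flatten).Nodup := by
        simp only [List.nodup_cons, List.mem_cons, not_or]
        exact ⟨⟨hxa.symm, contains_false hna⟩, hx, hnd⟩
      have hle : (a0 :: (M.π g b : ℕ) :: (maxBlocks p).flatten).toFinset ⊆ Finset.range 45 := by
        intro y hy
        simp only [List.toFinset_cons, Finset.mem_insert, List.mem_toFinset] at hy
        rw [Finset.mem_range]
        rcases hy with rfl | rfl | hy
        exacts [ha45, Fin.is_lt _, h45 y hy]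
      have h2 := Finset.card_le_card hle
      rw [List.toFinset_card_of_nodup hL, Finset.card_range] at h2
      simp only [List.length_cons, hlen] at h2
      omega
    have hdvd := dvd_ncard 4 (maxBlocks p) hnd (fun bl hbl => Nat.dvd_of_mod_eq_zero (hblk bl hbl))
      O hOsub fun bl hbl x hx hxO y hy => by
        obtain ⟨g, hg, rfl⟩ := hxO
        obtain ⟨root, hroot⟩ := hblock bl hbl
        rcases hroot _ hx with h1 | ⟨n, hn, hr, hnx⟩
        · exact absurd h1 (Fin.is_lt _).ne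
        rcases hroot _ hy with h1 | ⟨m, hm, hr', hmy⟩
        · exact absurd (h45 y (List.mem_flatten.2 ⟨bl, hbl, hy⟩)) (by omega)
        · refine ⟨m * n⁻¹ * g, Subgroup.mul_mem _ (Subgroup.mul_mem _ hm (Subgroup.inv_mem _ hn)) hg,
            ?_⟩
          rw [map_mul, map_mul, Equiv.Perm.mul_apply, Equiv.Perm.mul_apply, ← Fin.ext hnx, ← hmy,
            map_inv, Equiv.Perm.inv_eq_iff_eq.2 rfl]
    have hpos : 0 < O.ncard :=
      (Set.ncard_pos ((List.finite_toSet _).subset hOsub)).2 ⟨_, 1, one_mem _, rfl⟩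
    rw [heq] at hmem
    simp only [Set.mem_insert_iff, Set.mem_singleton_iff] at hmem
    omega
  · rcases htr _ ((hR b).1 hbE) with (h1 | h1) | h1
    · exact absurd (M.cd_inj (h1.trans M.cd_one.symm)) hb1
    · exact absurd (M.cd_inj (h1.trans (M.cd_te ha45).symm)) hba
    rcases h1 _ ((hR c).1 hcE) with (h2 | h2) | ⟨x, hx, h2⟩
    · exact absurd (M.cd_inj (h2.trans M.cd_one.symm)) hc1
    · exact absurd (M.cd_inj (h2.trans (M.cd_te ha45).symm)) hca
    simp only [maxE, List.mem_flatMap, List.mem_map] at hx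
    obtain ⟨x1, hx1, x2, hx2, rfl⟩ := hx
    obtain ⟨n1, hn1, hc1'⟩ := hgN x1 hx1
    obtain ⟨n2, hn2, hc2'⟩ := hgN x2 hx2
    refine ⟨n1 * n2, Subgroup.mul_mem _ hn1 hn2, ?_⟩
    rw [← hc1', ← hc2', ← M.cd_mul, ← M.cd_mul, ← M.cd_mul, List.getD_cons_zero,
      ← M.cd_te ha45, ← M.cd_mul, ← M.cd_mul] at h2
    rcases h2 with h2 | h2
    · left
      rw [M.cd_inj h2, mul_inv_cancel_right]
    · right
      rw [M.cd_inj h2, mul_inv_cancel_right]

include M in
theorem eight_max {E : Subgroup U} (hE : Elem2 E) (hcard : Nat.card E = 8)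
    (hN : Nat.card (normalizer (E : Set U)) = 192) : ∃ a ∈ M.T, a ∈ E ∧
      (∀ g ∈ normalizer (E : Set U), g * a * g⁻¹ = a) ∧
      (∀ b ∈ M.T, b ≠ a →
        {c | ∃ g ∈ normalizer (E : Set U), g * b * g⁻¹ = c}.ncard ∉ ({1, 2, 3, 6} : Set ℕ)) ∧
      (∀ b ∈ E, b ≠ 1 → b ≠ a → ∀ c ∈ E, c ≠ 1 → c ≠ a →
        ∃ g ∈ normalizer (E : Set U), g * b * g⁻¹ = c ∨ g * b * g⁻¹ = a * c) := by
  haveI := M.finite
  obtain ⟨g, r, hr, hR⟩ := M.normal_form hE (k := 3) (by norm_num) hcard conn3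
  obtain ⟨-, hlt, -, hone⟩ := M.keys3_facts hr hR
  rw [norm_card_conj, hN] at hlt
  have hri : r ∈ maxIdx := by
    by_contra h
    exact lt_irrefl _ (hlt h)
  obtain ⟨p, hp, hpr⟩ := List.mem_iff_getElem.1 hri
  have hget : maxIdx.getD p 0 = r := by rw [List.getD_eq_getElem _ _ hp, hpr]
  obtain ⟨a, haE, hfix, horb, htr⟩ :=
    M.eight_max_rep hp (hget.symm ▸ hR) (hget.symm ▸ hone hri)
  refine ⟨g⁻¹ * M.tE a * g, by simpa using M.conj_T (a := M.tE a) ⟨_, rfl⟩ g⁻¹, unconj haE,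
    fun n hn => ?_, fun b hbT hb => ?_, fun b hbE hb1 hba c hcE hc1 hca => ?_⟩
  · have := hfix _ (norm_conj' (g := g) hn)
    calc n * (g⁻¹ * M.tE a * g) * n⁻¹
        = g⁻¹ * (g * n * g⁻¹ * M.tE a * (g * n * g⁻¹)⁻¹) * g := by group
      _ = g⁻¹ * M.tE a * g := by rw [this]
  · obtain ⟨i, hi⟩ : g * b * g⁻¹ ∈ M.T := M.conj_T hbT g
    have hne : i ≠ a := fun e => hb (by
      calc b = g⁻¹ * (g * b * g⁻¹) * g := by group
        _ = g⁻¹ * M.tE a * g := by rw [← hi, e])
    have h := horb i hne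
    have hset : {c | ∃ n ∈ normalizer ((E.map (MulAut.conj g).toMonoidHom : Subgroup U) : Set U),
        n * M.tE i * n⁻¹ = c} =
        (fun c => g * c * g⁻¹) '' {c | ∃ n ∈ normalizer (E : Set U), n * b * n⁻¹ = c} := by
      ext c
      constructor
      · rintro ⟨n, hn, rfl⟩
        refine ⟨_, ⟨_, norm_conj hn, rfl⟩, ?_⟩
        rw [hi]; group
      · rintro ⟨_, ⟨n, hn, rfl⟩, rfl⟩
        refine ⟨_, norm_conj' (g := g) hn, ?_⟩
        rw [hi]; group
    rw [hset, Set.ncard_image_of_injective _ fun x y e => mul_left_cancel (mul_right_cancel e)] at h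
    exact h
  · have hcj : ∀ x ∈ E, g * x * g⁻¹ ∈ E.map (MulAut.conj g).toMonoidHom := fun x hx =>
      mem_map_of_mem _ hx
    obtain ⟨n, hn, h⟩ := htr _ (hcj b hbE) (fun e => hb1 (conj_eq_one_iff.1 e))
      (fun e => hba (by rw [← e]; group)) _ (hcj c hcE) (fun e => hc1 (conj_eq_one_iff.1 e))
      (fun e => hca (by rw [← e]; group))
    refine ⟨_, norm_conj hn, ?_⟩
    rcases h with h | h
    · left
      calc g⁻¹ * n * g * b * (g⁻¹ * n * g)⁻¹ = g⁻¹ * (n * (g * b * g⁻¹) * n⁻¹) * g := by group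
        _ = c := by rw [h]; group
    · right
      calc g⁻¹ * n * g * b * (g⁻¹ * n * g)⁻¹ = g⁻¹ * (n * (g * b * g⁻¹) * n⁻¹) * g := by group
        _ = g⁻¹ * M.tE a * g * c := by rw [h]; group

theorem pair_reach (i k : Fin 45) (hne : i ≠ k) (hc : com i k = true) :
    ∃ g, g * M.sA * g⁻¹ = M.tE i ∧ g * M.sB * g⁻¹ = M.tE k := by
  have h := pairL_ok
  simp only [List.all_eq_true, List.mem_range, Bool.or_eq_true, beq_iff_eq, Bool.not_eq_true',
    List.contains_iff_mem] at h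
  have hmem := (h i i.2 k k.2).resolve_left (by
    rintro (e | e)
    · exact hne (Fin.ext e)
    · rw [hc] at e; exact Bool.noConfusion e)
  have key : ∀ x ∈ pairL, x = (45, 45) ∨
      ∃ g, (M.π g ⟨nA, nA_lt.1⟩ : ℕ) = x.1 ∧ (M.π g ⟨nB, nA_lt.2⟩ : ℕ) = x.2 := by
    refine grow_mem (p := fun x : ℕ × ℕ => x = (45, 45) ∨
      ∃ g, (M.π g ⟨nA, nA_lt.1⟩ : ℕ) = x.1 ∧ (M.π g ⟨nB, nA_lt.2⟩ : ℕ) = x.2) (Or.inl rfl)
      (fun j x hx => ?_) _ _ fun x hx => ?_
    · rcases hx with rfl | ⟨g, h1, h2⟩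
      · exact Or.inl rfl
      · refine Or.inr ⟨M.gE j * g, ?_, ?_⟩
        · rw [← h1]
          simp only [act, if_pos (Fin.is_lt _), M.dig_gg j (Fin.is_lt _), map_mul,
            Equiv.Perm.mul_apply]
        · rw [← h2]
          simp only [act, if_pos (Fin.is_lt _), M.dig_gg j (Fin.is_lt _), map_mul,
            Equiv.Perm.mul_apply]
    · rw [List.mem_singleton] at hx
      subst hx
      exact Or.inr ⟨1, by simp, by simp⟩
  rcases key _ hmem with e | ⟨g, h1, h2⟩
  · simp only [Prod.mk.injEq] at e; omega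
  · exact ⟨g, by rw [sA, M.conj, Fin.ext h1], by rw [sB, M.conj, Fin.ext h2]⟩

end Model

end Cfsg.Agent.U62From98Cert
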