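import Cfsg.Agent.Lib.U62From98CertBase
import Cfsg.Agent.Lib.U62From98CertB
import Cfsg.Agent.Lib.U62From98CertC

/-!
`U₄(2)` with its class of forty-five involutions: codes, the Sylow subgroup and the centralizers.
-/

set_option autoImplicit false
set_option maxRecDepth 100000
set_option linter.style.haveILetI false

namespace Cfsg.Agent.U62From98Cert

open Subgroup
open Cfsg.Agent.U62From98CertCode Cfsg.Agent.U62From98CertData Cfsg.Agent.U62From98CertDefs

attribute [local irreducible] comp idc pack U62From98CertCode.mk dig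

variable {U : Type*} [Group U]

theorem mem_cent {a x : U} : x ∈ centralizer ({a} : Set U) ↔ x * a = a * x := by
  simp [mem_centralizer_singleton_iff, eq_comm]

theorem cent_conj (g a : U) : centralizer ({g * a * g⁻¹} : Set U) =
    (centralizer ({a} : Set U)).map (MulAut.conj g).toMonoidHom := by
  ext x
  simp only [mem_map, MulEquiv.coe_toMonoidHom, MulAut.conj_apply, mem_cent]
  constructor
  · intro hx
    refine ⟨g⁻¹ * x * g, ?_, by group⟩
    have := congrArg (fun y => g⁻¹ * y * g) hx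
    simpa [mul_assoc] using this
  · rintro ⟨y, hy, rfl⟩
    calc g * y * g⁻¹ * (g * a * g⁻¹) = g * (y * a) * g⁻¹ := by group
      _ = g * (a * y) * g⁻¹ := by rw [hy]
      _ = g * a * g⁻¹ * (g * y * g⁻¹) := by group

theorem card_cent_conj (g a : U) : Nat.card (centralizer ({g * a * g⁻¹} : Set U)) =
    Nat.card (centralizer ({a} : Set U)) := by
  rw [cent_conj, card_map_of_injective (MulAut.conj g).injective]

/-- Counting through an invariant: at least. -/
theorem count_le [Finite U] (K : Subgroup U) {β : Type*} (f : U → β)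
    (hinv : ∀ g, ∀ n ∈ K, f (g * n) = f g) {L : List β} (hn : L.Nodup)
    (hmem : ∀ x ∈ L, ∃ g, f g = x) : L.length * Nat.card K ≤ Nat.card U := by
  classical
  haveI : Fintype (U ⧸ K) := Fintype.ofFinite _
  have hle : L.toFinset ⊆ Finset.univ.image fun q : U ⧸ K => f q.out := by
    intro x hx
    obtain ⟨g, rfl⟩ := hmem x (List.mem_toFinset.1 hx)
    obtain ⟨e, he⟩ := QuotientGroup.mk_out_eq_mul K g
    exact Finset.mem_image.2 ⟨(g : U ⧸ K), Finset.mem_univ _, by rw [he, hinv g _ e.2]⟩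
  have h1 := (Finset.card_le_card hle).trans Finset.card_image_le
  rw [List.toFinset_card_of_nodup hn, Finset.card_univ, ← Nat.card_eq_fintype_card,
    ← Subgroup.index] at h1
  rw [← K.index_mul_card]
  exact Nat.mul_le_mul_right _ h1

/-- Counting through an invariant: exactly. -/
theorem count_eq [Finite U] (K : Subgroup U) {β : Type*} (f : U → β)
    (hinv : ∀ g, ∀ n ∈ K, f (g * n) = f g) (hsep : ∀ g h, f g = f h → g⁻¹ * h ∈ K)
    {L : List β} (hn : L.Nodup) (hL : ∀ x, x ∈ L ↔ ∃ g, f g = x) :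
    L.length * Nat.card K = Nat.card U := by
  classical
  haveI : Fintype (U ⧸ K) := Fintype.ofFinite _
  have hout : ∀ g : U, f (g : U ⧸ K).out = f g := fun g => by
    obtain ⟨e, he⟩ := QuotientGroup.mk_out_eq_mul K g
    rw [he, hinv g _ e.2]
  have heq : L.toFinset = Finset.univ.image fun q : U ⧸ K => f q.out := by
    ext x
    simp only [List.mem_toFinset, hL, Finset.mem_image, Finset.mem_univ, true_and]
    exact ⟨fun ⟨g, hg⟩ => ⟨_, (hout g).trans hg⟩, fun ⟨q, hq⟩ => ⟨_, hq⟩⟩
  have hinj : Function.Injective fun q : U ⧸ K => f q.out := fun p q h => by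
    have := QuotientGroup.eq.2 (hsep _ _ h)
    rwa [QuotientGroup.out_eq', QuotientGroup.out_eq'] at this
  have h1 := congrArg Finset.card heq
  rw [List.toFinset_card_of_nodup hn, Finset.card_image_of_injective _ hinj, Finset.card_univ,
    ← Nat.card_eq_fintype_card, ← Subgroup.index] at h1
  rw [h1, K.index_mul_card]

namespace Model

variable (M : Model U)

/-- the code of an element -/
def cd (u : U) : ℕ := code (M.π u)

theorem cd_mul (a b : U) : M.cd (a * b) = comp 45 (M.cd a) (M.cd b) := by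
  simp only [cd, map_mul, code_mul (show 45 ≤ 256 by norm_num)]

theorem cd_one : M.cd 1 = idc 45 := by simp only [cd, map_one, code_one]

theorem cd_inj : Function.Injective M.cd := fun _ _ h => M.inj (code_inj (by norm_num) h)

theorem finite (M : Model U) : Finite U := Finite.of_injective M.π M.inj

theorem dig_cd (u : U) (i : Fin 45) : dig (M.cd u) i = M.π u i := dig_code (by norm_num) _ i

theorem dig_cd' (u : U) {i : ℕ} (hi : i < 45) : dig (M.cd u) i = M.π u ⟨i, hi⟩ :=
  M.dig_cd u ⟨i, hi⟩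

theorem op_eq (i k : Fin 45) : (M.π (M.tE i) k : ℕ) = op i k := by
  rw [← M.dig_cd, cd, M.cd_tE]; rfl

theorem commute_iff (i k : Fin 45) : Commute (M.tE i) (M.tE k) ↔ com i k = true := by
  rw [com, beq_iff_eq, ← M.op_eq, ← Fin.ext_iff, ← M.tE_inj.eq_iff, ← M.conj]
  exact ⟨fun h => by rw [h.eq]; group, fun h => mul_inv_eq_iff_eq_mul.1 h⟩

theorem cd_te {i : ℕ} (hi : i < 45) : M.cd (M.tE ⟨i, hi⟩) = te i := M.cd_tE ⟨i, hi⟩

theorem of_tt {u : U} (h : M.cd u ∈ tt) : ∃ i, M.tE i = u := by
  have hl := tt_ok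
  simp only [Bool.and_eq_true, beq_iff_eq] at hl
  obtain ⟨i, hi, he⟩ := List.mem_iff_getElem.1 h
  refine ⟨⟨i, by omega⟩, M.cd_inj ?_⟩
  rw [M.cd_te, te, List.getD_eq_getElem _ _ hi, he]

theorem mem_tt (i : Fin 45) : M.cd (M.tE i) ∈ tt := by
  have hl := tt_ok
  simp only [Bool.and_eq_true, beq_iff_eq] at hl
  rw [cd, M.cd_tE, te, List.getD_eq_getElem _ _ (by omega)]
  exact List.getElem_mem _

theorem cd_gE_inv (j : ℕ) : M.cd (M.gE j)⁻¹ = gi j := by
  have h : M.gE j * (M.gE j * M.gE j) = 1 := by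
    refine M.cd_inj ?_
    rw [M.cd_mul, M.cd_mul, M.cd_one, cd, M.cd_gE]
    by_cases hj : j < 4
    · have := g45_ok
      simp only [Bool.and_eq_true, beq_iff_eq, List.all_eq_true, List.mem_range] at this
      exact (this j hj).1.2
    · have := gen40_ok
      simp only [Bool.and_eq_true, beq_iff_eq] at this
      rw [gg, List.getD_eq_default _ _ (by omega), ← M.cd_one, ← M.cd_mul, ← M.cd_mul, one_mul,
        one_mul]
  rw [inv_eq_of_mul_eq_one_right h, M.cd_mul, cd, M.cd_gE]
  rfl

theorem cd_cj (j : ℕ) (x : U) : M.cd (M.gE j * x * (M.gE j)⁻¹) = cj j (M.cd x) := by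
  rw [M.cd_mul, M.cd_mul, M.cd_gE_inv, cd, M.cd_gE]
  rfl

/-- A property closed under the generators holds of every element. -/
theorem induct {p : U → Prop} (h1 : p 1) (hg : ∀ j u, p u → p (M.gE j * u)) (u : U) : p u := by
  haveI := M.finite
  have h : u ∈ Subgroup.closure (Set.range M.gE) := M.closure_gE ▸ Subgroup.mem_top u
  rw [← Subgroup.mem_toSubmonoid, Subgroup.closure_toSubmonoid_of_finite] at h
  let S : Submonoid U :=
    { carrier := {g | ∀ v, p v → p (g * v)}
      one_mem' := fun v hv => by rwa [one_mul]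
      mul_mem' := fun {a b} ha hb v hv => by rw [mul_assoc]; exact ha _ (hb v hv) }
  have : u ∈ S := (Submonoid.closure_le (S := S)).2 (by rintro _ ⟨j, rfl⟩ v hv; exact hg j v hv) h
  simpa using this 1 h1

theorem gE_out {j : ℕ} (hj : ¬ j < 4) : M.gE j = 1 := by
  refine M.cd_inj ?_
  have := gen40_ok
  simp only [Bool.and_eq_true, beq_iff_eq] at this
  rw [cd, M.cd_gE, M.cd_one, gg, List.getD_eq_default _ _ (by omega)]

theorem dig_gg (j : ℕ) {i : ℕ} (hi : i < 45) : dig (gg j) i = M.π (M.gE j) ⟨i, hi⟩ := by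
  rw [← M.cd_gE]; exact M.dig_cd _ ⟨i, hi⟩

theorem trans' (i : Fin 45) : ∃ g, (M.π g ⟨nA, by
    have := pt_ok
    simp only [Bool.and_eq_true, decide_eq_true_eq] at this
    exact this.1.1.1.1⟩) = i := by
  have h := pt_ok
  simp only [Bool.and_eq_true, decide_eq_true_eq, List.all_eq_true, List.mem_range,
    List.contains_iff_mem] at h
  have key : ∀ x ∈ ptL, x = 45 ∨ ∃ g, (M.π g ⟨nA, h.1.1.1.1⟩ : ℕ) = x := by
    refine grow_mem (p := fun x : ℕ => x = 45 ∨ ∃ g, (M.π g ⟨nA, h.1.1.1.1⟩ : ℕ) = x)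
      (Or.inl rfl) (fun j x hx => ?_) _ _ fun x hx => ?_
    · rcases hx with rfl | ⟨g, rfl⟩
      · exact Or.inl rfl
      · refine Or.inr ⟨M.gE j * g, ?_⟩
        rw [act, if_pos (Fin.is_lt _), M.dig_gg j (Fin.is_lt _), map_mul, Equiv.Perm.mul_apply]
    · rw [List.mem_singleton] at hx
      exact Or.inr ⟨1, by rw [map_one]; exact hx.symm⟩
  rcases key i (h.2 i i.2) with h' | ⟨g, hg⟩
  · omega
  · exact ⟨g, Fin.ext hg⟩

end Model

end Cfsg.Agent.U62From98Cert
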