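import Cfsg.Agent.Lib.U62From98CertCent
import Cfsg.Agent.Lib.U62From98UFacts

/-!
`U₄(2)`: elementary abelian subgroups and their normalizers.
-/

set_option autoImplicit false
set_option maxRecDepth 100000
set_option linter.style.haveILetI false

namespace Cfsg.Agent.U62From98Cert

open Subgroup
open Cfsg.Agent.U62From98CertCode Cfsg.Agent.U62From98CertData Cfsg.Agent.U62From98CertDefs
open Cfsg.Agent.U62From98 (Elem2)

attribute [local irreducible] comp idc pack U62From98CertCode.mk dig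

theorem testBit_foldl (f : ℕ → ℕ) : ∀ (l : List ℕ) (r j : ℕ),
    (l.foldl (fun r e => Nat.lor r (2 ^ f e)) r).testBit j = true ↔
      r.testBit j = true ∨ ∃ e ∈ l, f e = j
  | [], r, j => by simp
  | a :: l, r, j => by
    rw [List.foldl_cons, testBit_foldl f l]
    show (r ||| 2 ^ f a).testBit j = true ∨ _ ↔ _
    rw [Nat.testBit_or, Bool.or_eq_true, Nat.testBit_two_pow]
    simp only [decide_eq_true_eq, List.mem_cons, exists_eq_or_imp]
    tauto

theorem elem2_map {U V : Type*} [Group U] [Group V] {E : Subgroup U} (h : Elem2 E) (f : U →* V) :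
    Elem2 (E.map f) :=
  ⟨by rintro _ ⟨a, ha, rfl⟩; rw [← map_mul, h.1 a ha, map_one],
    by rintro _ ⟨a, ha, rfl⟩ _ ⟨b, hb, rfl⟩; exact (h.2 a ha b hb).map f⟩

theorem elem2_pgroup {U : Type*} [Group U] {E : Subgroup U} (h : Elem2 E) : IsPGroup 2 E :=
  fun x => ⟨1, Subtype.ext (by simpa [pow_two] using h.1 x x.2)⟩

theorem all2 : ∀ r < rep2.length, ∃ n < lay2.length, idx2.getD n 0 = r := by decide +kernel

theorem all3 : ∀ r < rep3.length, ∃ n < lay3.length, idx3.getD n 0 = r := by decide +kernel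

namespace Model

variable {U : Type*} [Group U] (M : Model U)

/-- A mask describes a subgroup of the Sylow subgroup. -/
def Desc (E : Subgroup U) (m : ℕ) : Prop := ∀ i < 64, (m.testBit i = true ↔ M.sE i ∈ E)

theorem mem_bits {m i : ℕ} : i ∈ bits m ↔ i < 64 ∧ m.testBit i = true := by
  simp [bits, List.mem_filter]

theorem step {E F : Subgroup U} {m x : ℕ} (hF : M.Desc F m) (hFS : ∀ u ∈ F, u ∈ M.sylowSub)
    (hx : x < 64) (hxE : M.sE x ∈ E) (hFE : F ≤ E)
    (hsplit : ∀ u ∈ E, u ∈ F ∨ M.sE x * u ∈ F) (hsq : M.sE x * M.sE x = 1) :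
    M.Desc E (ext m x) := by
  intro i hi
  rw [U62From98CertDefs.ext.eq_def, testBit_foldl]
  constructor
  · rintro (h | ⟨e, he, rfl⟩)
    · exact hFE ((hF i hi).1 h)
    · obtain ⟨he64, hem⟩ := (mem_bits).1 he
      rw [← (M.mu_spec hx he64).2]
      exact E.mul_mem hxE (hFE ((hF e he64).1 hem))
  · intro h
    rcases hsplit _ h with h1 | h1
    · exact Or.inl ((hF i hi).2 h1)
    · obtain ⟨e, he, hee⟩ := M.exists_index (hFS _ h1)
      refine Or.inr ⟨e, mem_bits.2 ⟨he, (hF e he).2 (hee ▸ h1)⟩, ?_⟩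
      refine M.sE_inj (M.mu_spec hx he).1 hi ?_
      rw [← (M.mu_spec hx he).2, hee, ← mul_assoc, hsq, one_mul]

/-- the layers -/
def layer : ℕ → List ℕ
  | 0 => [1]
  | 1 => lay1
  | 2 => lay2
  | 3 => lay3
  | 4 => lay4
  | _ => []

theorem layer_step (k : ℕ) (hk : k < 5) : stepOK (layer k) (layer (k + 1)) = true := by
  have h := step_ok
  simp only [Bool.and_eq_true] at h
  obtain ⟨⟨⟨⟨h0, h1⟩, h2⟩, h3⟩, h4⟩ := h
  interval_cases k <;> assumption

theorem exists_mask : ∀ (k : ℕ) (E : Subgroup U), Elem2 E → Nat.card E = 2 ^ k → k ≤ 5 →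
    (∀ u ∈ E, u ∈ M.sylowSub) → ∃ m ∈ layer k, M.Desc E m
  | 0, E, _, hcard, _, _ => by
    haveI := M.finite
    have hE : E = ⊥ := Subgroup.eq_bot_of_card_eq E (by rw [hcard, pow_zero])
    refine ⟨1, List.mem_singleton_self 1, fun i hi => ?_⟩
    rw [hE, mem_bot, Nat.testBit_one_eq_true_iff_self_eq_zero]
    exact ⟨fun h => h ▸ M.sE_zero, fun h => M.sE_inj hi (by norm_num) (h.trans M.sE_zero.symm)⟩
  | k + 1, E, hE, hcard, hk, hS => by
    haveI := M.finite
    haveI : Fact (Nat.Prime 2) := ⟨Nat.prime_two⟩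
    obtain ⟨F0, hF0⟩ := Sylow.exists_subgroup_card_pow_prime 2 (G := E) (n := k)
      (by rw [hcard]; exact pow_dvd_pow 2 (Nat.le_succ k))
    let F := F0.map E.subtype
    have hFE : F ≤ E := map_subtype_le F0
    have hFc : Nat.card F = 2 ^ k := by rw [card_map_of_injective E.subtype_injective, hF0]
    have hF : Elem2 F := ⟨fun a ha => hE.1 a (hFE ha), fun a ha b hb => hE.2 a (hFE ha) b (hFE hb)⟩
    obtain ⟨m, hm, hd⟩ := exists_mask k F hF hFc (by omega) fun u hu => hS u (hFE hu)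
    have hi2 : F0.index = 2 := by
      have := F0.index_mul_card
      rw [hF0, hcard, pow_succ, mul_comm (2 ^ k) 2] at this
      exact mul_right_cancel₀ (by positivity) this
    obtain ⟨y, hy⟩ : ∃ y : E, y ∉ F0 := by
      by_contra hcon
      push Not at hcon
      rw [(eq_top_iff' F0).2 hcon, index_top] at hi2
      norm_num at hi2
    obtain ⟨x, hx, hxy⟩ := M.exists_index (hS _ y.2)
    have hyne : (y : U) ≠ 1 := fun e => hy (by rw [Subtype.ext e (a2 := (1 : E))]; exact F0.one_mem)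
    have hxsq : M.sE x * M.sE x = 1 := by rw [hxy]; exact hE.1 _ y.2
    have hsplit : ∀ u ∈ E, u ∈ F ∨ M.sE x * u ∈ F := by
      intro u hu
      by_cases h : (⟨u, hu⟩ : E) ∈ F0
      · exact Or.inl ⟨_, h, rfl⟩
      · refine Or.inr ⟨y * ⟨u, hu⟩, ?_, by simp [hxy]⟩
        rw [SetLike.mem_coe, mul_mem_iff_of_index_two hi2]
        exact iff_of_false hy h
    refine ⟨ext m x, ?_, M.step hd (fun u hu => hS u (hFE hu)) hx (hxy ▸ y.2) hFE hsplit hxsq⟩
    have hst := layer_step k (by omega)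
    simp only [stepOK, List.all_eq_true, Bool.or_eq_true, List.any_eq_true, bne_iff_ne,
      List.contains_iff_mem] at hst
    rcases hst m hm x (M.mem_ivs hx (hxy ▸ hyne) hxsq) with (h | ⟨e, he, hne⟩) | h
    · exfalso
      obtain ⟨z, hz, hzy⟩ := (hd x hx).1 h
      exact hy (by rwa [← Subtype.ext (hzy.trans hxy) (a2 := y)])
    · exfalso
      obtain ⟨he64, hem⟩ := mem_bits.1 he
      have h1 := (hE.2 _ (hxy ▸ y.2) _ (hFE ((hd e he64).1 hem))).eq
      rw [(M.mu_spec hx he64).2, (M.mu_spec he64 hx).2] at h1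
      exact hne (M.sE_inj (M.mu_spec hx he64).1 (M.mu_spec he64 hx).1 h1)
    · exact h

include M in
theorem elem {E : Subgroup U} (hE : Elem2 E) : Nat.card E ≤ 16 := by
  haveI := M.finite
  haveI : Fact (Nat.Prime 2) := ⟨Nat.prime_two⟩
  obtain ⟨n, hn⟩ := IsPGroup.iff_card.1 (elem2_pgroup hE)
  by_contra hlt
  have hn5 : 5 ≤ n := by
    by_contra h
    have := Nat.pow_le_pow_right (show 0 < 2 by norm_num) (show n ≤ 4 by omega)
    omega
  obtain ⟨F0, hF0⟩ := Sylow.exists_subgroup_card_pow_prime 2 (G := E) (n := 5)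
    (by rw [hn]; exact pow_dvd_pow 2 hn5)
  let F := F0.map E.subtype
  have hFE : F ≤ E := map_subtype_le F0
  have hF : Elem2 F := ⟨fun a ha => hE.1 a (hFE ha), fun a ha b hb => hE.2 a (hFE ha) b (hFE hb)⟩
  obtain ⟨g, hg⟩ := M.conj_into F (elem2_pgroup hF)
  obtain ⟨m, hm, -⟩ := M.exists_mask 5 (F.map (MulAut.conj g).toMonoidHom) (elem2_map hF _)
    (by rw [card_map_of_injective (MulAut.conj g).injective, card_map_of_injective
      E.subtype_injective, hF0]) le_rfl (by rintro _ ⟨u, hu, rfl⟩; exact hg u hu)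
  exact absurd hm List.not_mem_nil

theorem repC_spec (R : List (List ℕ)) (r : ℕ) {x : ℕ} (hx : x ∈ repC R r) : ∃ u, M.cd u = x := by
  simp only [repC, List.mem_cons, List.mem_map] at hx
  rcases hx with rfl | ⟨i, -, rfl⟩
  exacts [⟨1, M.cd_one⟩, ⟨_, M.cd_sE i⟩]

/-- The subgroup is given by the codes of a representative. -/
def Rep (R : List (List ℕ)) (r : ℕ) (E : Subgroup U) : Prop :=
  ∀ u, u ∈ E ↔ M.cd u ∈ repC R r

theorem normal_form {E : Subgroup U} (hE : Elem2 E) {k : ℕ} (hk : k ≤ 5)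
    (hcard : Nat.card E = 2 ^ k) {R : List (List ℕ)} {ix : List ℕ} {cn : List (List ℕ)}
    (h : connOK (layer k) R ix cn (2 ^ k) = true) :
    ∃ g : U, ∃ r < R.length, M.Rep R r (E.map (MulAut.conj g).toMonoidHom) := by
  haveI := M.finite
  obtain ⟨g, hg⟩ := M.conj_into E (elem2_pgroup hE)
  set E1 := E.map (MulAut.conj g).toMonoidHom with hE1
  have hS : ∀ u ∈ E1, u ∈ M.sylowSub := by rintro _ ⟨u, hu, rfl⟩; exact hg u hu
  have hc1 : Nat.card E1 = 2 ^ k := by rw [card_map_of_injective (MulAut.conj g).injective, hcard]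
  obtain ⟨m, hm, hd⟩ := M.exists_mask k E1 (elem2_map hE _) hc1 hk hS
  obtain ⟨n, hn, hnm⟩ := List.mem_iff_getElem.1 hm
  simp only [connOK, List.all_eq_true, List.mem_range, Cfsg.Agent.LeechCert.force_eq,
    Bool.and_eq_true, decide_eq_true_eq, beq_iff_eq, List.any_eq_true] at h
  obtain ⟨⟨⟨hr, hlen⟩, hnd⟩, hall⟩ := h n hn
  rw [List.getD_eq_getElem _ _ hn, hnm] at hall
  obtain ⟨c, hc⟩ : ∃ c, M.cd c = wv 45 g45 (cn.getD n []) :=
    ⟨_, (exists_word (by norm_num) M.π ⊤ g45 M.gE _ M.cd_gE fun k _ => mem_top _).2⟩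
  refine ⟨c⁻¹ * g, ix.getD n 0, hr, ?_⟩
  set A : Set U := {u | M.cd u ∈ repC R (ix.getD n 0)}
  have hA : A.ncard = 2 ^ k := by
    rw [← hlen, ← List.toFinset_card_of_nodup hnd, ← Set.ncard_coe_finset,
      ← Set.ncard_image_of_injective A M.cd_inj]
    congr 1
    ext x
    rw [List.coe_toFinset]
    exact ⟨fun ⟨u, hu, he⟩ => he ▸ hu, fun hx => by
      obtain ⟨u, rfl⟩ := M.repC_spec R _ hx
      exact ⟨u, hx, rfl⟩⟩
  have hsub : (fun v => c * v * c⁻¹) '' A ⊆ (E1 : Set U) := by
    rintro _ ⟨v, hv, rfl⟩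
    obtain ⟨i, hi, he⟩ := hall _ hv
    obtain ⟨hi64, him⟩ := mem_bits.1 hi
    rw [← hc, ← M.cd_sE i, ← M.cd_mul, ← M.cd_mul] at he
    show c * v * c⁻¹ ∈ E1
    rw [← M.cd_inj he, mul_inv_cancel_right]
    exact (hd i hi64).1 him
  have hinj : Function.Injective fun v : U => c * v * c⁻¹ := fun a b h =>
    mul_left_cancel (mul_right_cancel h)
  have heq : (fun v => c * v * c⁻¹) '' A = (E1 : Set U) :=
    Set.eq_of_subset_of_ncard_le hsub (by
      rw [Set.ncard_image_of_injective _ hinj, hA, ← Nat.card_coe_set_eq]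
      exact hc1.le)
  intro u
  have h1 : u ∈ E.map (MulAut.conj (c⁻¹ * g)).toMonoidHom ↔ c * u * c⁻¹ ∈ E1 := by
    simp only [hE1, mem_map, MulEquiv.coe_toMonoidHom, MulAut.conj_apply]
    constructor
    · rintro ⟨v, hv, rfl⟩
      exact ⟨v, hv, by group⟩
    · rintro ⟨v, hv, he⟩
      exact ⟨v, hv, by
        calc c⁻¹ * g * v * (c⁻¹ * g)⁻¹ = c⁻¹ * (g * v * g⁻¹) * c := by group
          _ = u := by rw [he]; group⟩
  rw [h1, ← SetLike.mem_coe, ← heq]
  exact ⟨fun ⟨v, hv, he⟩ => hinj he ▸ hv, fun hu => ⟨u, hu, rfl⟩⟩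

theorem mem_norm {E : Subgroup U} {g : U} (h : g ∈ normalizer (E : Set U)) {u : U} :
    u ∈ E ↔ g * u * g⁻¹ ∈ E := (mem_normalizer_iff.1 h u)

theorem norm_of_le [Finite U] {E : Subgroup U} {g : U} (h : ∀ u ∈ E, g * u * g⁻¹ ∈ E) :
    g ∈ normalizer (E : Set U) := by
  rw [mem_normalizer_iff]
  intro u
  refine ⟨h u, fun hu => ?_⟩
  have he : E.map (MulAut.conj g).toMonoidHom = E := by
    refine eq_of_le_of_card_ge ?_ ?_
    · rintro _ ⟨x, hx, rfl⟩; exact h x hx
    · rw [card_map_of_injective (MulAut.conj g).injective]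
  rw [← he] at hu
  obtain ⟨x, hx, hxu⟩ := hu
  exact (mul_left_cancel (mul_right_cancel hxu) : x = u) ▸ hx

theorem norm_card_conj (g : U) (E : Subgroup U) :
    Nat.card (normalizer ((E.map (MulAut.conj g).toMonoidHom : Subgroup U) : Set U)) =
      Nat.card (normalizer (E : Set U)) := by
  have he : normalizer ((E.map (MulAut.conj g).toMonoidHom : Subgroup U) : Set U) =
      (normalizer (E : Set U)).map (MulAut.conj g).toMonoidHom := by
    ext x
    simp only [mem_normalizer_iff, mem_map, MulEquiv.coe_toMonoidHom, MulAut.conj_apply]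
    constructor
    · intro hx
      refine ⟨g⁻¹ * x * g, fun u => ?_, by group⟩
      have := hx (g * u * g⁻¹)
      constructor
      · intro hu
        obtain ⟨v, hv, he⟩ := this.1 ⟨u, hu, rfl⟩
        have : v = g⁻¹ * x * g * u * (g⁻¹ * x * g)⁻¹ := by
          refine mul_left_cancel (a := g) (mul_right_cancel (b := g⁻¹) (he.trans ?_))
          group
        exact this ▸ hv
      · intro hu
        obtain ⟨v, hv, he⟩ := this.2 ⟨_, hu, by group⟩
        exact (mul_left_cancel (mul_right_cancel he) : v = u) ▸ hv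
    · rintro ⟨y, hy, rfl⟩ u
      constructor
      · rintro ⟨v, hv, rfl⟩
        exact ⟨_, (hy v).1 hv, by group⟩
      · rintro ⟨v, hv, he⟩
        refine ⟨y⁻¹ * v * y, (hy _).2 (by simpa [mul_assoc] using hv), ?_⟩
        calc g * (y⁻¹ * v * y) * g⁻¹ = g * y⁻¹ * g⁻¹ * (g * v * g⁻¹) * (g * y * g⁻¹) := by group
          _ = u := by rw [he]; group
  rw [he, card_map_of_injective (MulAut.conj g).injective]

theorem keys_bound [Finite U] {R : List (List ℕ)} {S : List (List (ℕ × ℕ))} {r : ℕ}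
    {E : Subgroup U} (hR : M.Rep R r E) (hnd : (repC R r).Nodup)
    (hk : (keys R S r).Nodup) (h0 : 0 ∉ keys R S r) :
    (keys R S r).length * Nat.card (normalizer (E : Set U)) ≤ 25920 := by
  set vs : List U := (R.getD r []).map M.sE
  have hvs : vs.map M.cd = (R.getD r []).map se := by
    simp only [vs, List.map_map]
    exact List.map_congr_left fun i _ => M.cd_sE i
  rw [repC, List.nodup_cons, ← hvs] at hnd
  have hvn : vs.Nodup := List.Nodup.of_map M.cd hnd.2
  have hmem : ∀ u, u ∈ vs ↔ u ∈ E ∧ u ≠ 1 := by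
    intro u
    rw [hR, repC, ← hvs, List.mem_cons, List.mem_map_of_injective M.cd_inj]
    constructor
    · intro h
      exact ⟨Or.inr h, fun e => hnd.1 (by
        rw [← M.cd_one, ← e]; exact List.mem_map_of_mem h)⟩
    · rintro ⟨h | h, hne⟩
      · exact absurd (M.cd_inj (h.trans M.cd_one.symm)) hne
      · exact h
  let st : U → List ℕ := fun g => vs.map fun v => M.cd (g * v * g⁻¹)
  let key : U → ℕ := fun g => ((st g).map fun x => x * x).sum
  rw [← M.card]
  refine count_le (normalizer (E : Set U)) key (fun g n hn => ?_) hk fun x hx => ?_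
  · have hp : List.Perm (vs.map fun v => n * v * n⁻¹) vs := by
      refine (List.perm_ext_iff_of_nodup
        (hvn.map fun a b h => mul_left_cancel (mul_right_cancel h)) hvn).2 fun u => ?_
      rw [List.mem_map]
      constructor
      · rintro ⟨v, hv, rfl⟩
        obtain ⟨h1, h2⟩ := (hmem v).1 hv
        exact (hmem _).2 ⟨(mem_norm hn).1 h1, fun e => h2 (conj_eq_one_iff.1 e)⟩
      · intro hu
        obtain ⟨h1, h2⟩ := (hmem u).1 hu
        refine ⟨n⁻¹ * u * n, (hmem _).2 ⟨(mem_norm hn).2 (by simpa [mul_assoc] using h1), ?_⟩,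
          by group⟩
        intro e
        exact h2 (by
          calc u = n * (n⁻¹ * u * n) * n⁻¹ := by group
            _ = 1 := by rw [e]; group)
    have hp2 := ((hp.map fun v => M.cd (g * v * g⁻¹)).map fun x => x * x).sum_eq
    simp only [List.map_map] at hp2
    simp only [key, st, List.map_map]
    rw [← hp2]
    congr 1
    refine List.map_congr_left fun v _ => ?_
    simp only [Function.comp_apply]
    rw [show g * n * v * (g * n)⁻¹ = g * (n * v * n⁻¹) * g⁻¹ by group]
  · simp only [keys, List.mem_map] at hx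
    obtain ⟨xs, hxs, rfl⟩ := hx
    have key2 : ∀ ys ∈ grow [] (fun j xs => xs.map (cj j)) (S.getD r []) [(R.getD r []).map se],
        ys = [] ∨ ∃ g, st g = ys := by
      refine grow_mem (p := fun ys : List ℕ => ys = [] ∨ ∃ g, st g = ys) (Or.inl rfl)
        (fun j ys hys => ?_) _ _ fun ys hys => ?_
      · rcases hys with rfl | ⟨g, rfl⟩
        · exact Or.inl rfl
        · refine Or.inr ⟨M.gE j * g, ?_⟩
          simp only [st, List.map_map]
          refine List.map_congr_left fun v _ => ?_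
          simp only [Function.comp_apply, ← M.cd_cj]
          congr 1
          group
      · rw [List.mem_singleton] at hys
        refine Or.inr ⟨1, ?_⟩
        rw [hys, ← hvs]
        exact List.map_congr_left fun v _ => by simp
    rcases key2 _ hxs with rfl | ⟨g, hg⟩
    · exact absurd (List.mem_map.2 ⟨[], hxs, rfl⟩) h0
    · exact ⟨g, by simp only [key, hg]⟩

theorem rep_nodup {L : List ℕ} {R : List (List ℕ)} {ix : List ℕ} {cn : List (List ℕ)} {sz r : ℕ}
    (h : connOK L R ix cn sz = true) (hr : ∃ n < L.length, ix.getD n 0 = r) :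
    (repC R r).Nodup := by
  obtain ⟨n, hn, rfl⟩ := hr
  simp only [connOK, List.all_eq_true, List.mem_range, Cfsg.Agent.LeechCert.force_eq,
    Bool.and_eq_true, decide_eq_true_eq] at h
  exact (h n hn).1.2

theorem conn2 : connOK (layer 2) rep2 idx2 U62From98CertData.conn2 (2 ^ 2) = true := conn2_ok

theorem conn3 : connOK (layer 3) rep3 idx3 U62From98CertData.conn3 (2 ^ 3) = true := conn3_ok

theorem conn4 : connOK (layer 4) rep4 idx4 U62From98CertData.conn4 (2 ^ 4) = true := by
  have h := conn4_ok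
  simp only [Bool.and_eq_true] at h
  exact h.1

include M in
theorem four {E : Subgroup U} (hE : Elem2 E) (hcard : Nat.card E = 4) :
    Nat.card (normalizer (E : Set U)) < 192 := by
  haveI := M.finite
  obtain ⟨g, r, hr, hR⟩ := M.normal_form hE (k := 2) (by norm_num) hcard conn2
  have h := keys2_ok
  simp only [Bool.and_eq_true, List.all_eq_true, List.mem_range, decide_eq_true_eq,
    Bool.not_eq_true'] at h
  obtain ⟨⟨h0, hn⟩, hlen⟩ := h r hr
  have h' := rep_nodup conn2 (all2 r hr)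
  have hb := M.keys_bound hR h' hn (fun hm => by rw [List.contains_iff_mem.2 hm] at h0; exact Bool.noConfusion h0)
  rw [norm_card_conj] at hb
  have := Nat.mul_le_mul_right (Nat.card (normalizer (E : Set U))) hlen
  omega

end Model

end Cfsg.Agent.U62From98Cert
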