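import Cfsg.Agent.Lib.U62From98CertLocal

/-!
`U₄(2)`: a Sylow 2-subgroup with its multiplication table, involutions, the propagation bound for
centralizers and the centralizer of an element of order five.
-/

set_option autoImplicit false
set_option maxRecDepth 100000
set_option linter.style.haveILetI false

namespace Cfsg.Agent.U62From98Cert

open Subgroup
open Cfsg.Agent.U62From98CertCode Cfsg.Agent.U62From98CertData Cfsg.Agent.U62From98CertDefs

attribute [local irreducible] comp idc pack U62From98CertCode.mk dig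

theorem op_lt {i t : ℕ} (hi : i < 45) (ht : t < 45) : op i t < 45 := by
  have h := com_ok
  simp only [Bool.and_eq_true, List.all_eq_true, List.mem_range, decide_eq_true_eq] at h
  exact (h i hi t ht).1.1.1.1

theorem nA_lt : nA < 45 ∧ nB < 45 := by
  have h := pt_ok
  simp only [Bool.and_eq_true, decide_eq_true_eq] at h
  exact ⟨h.1.1.1.1, h.1.1.1.2⟩

theorem mu_row {i k : ℕ} (j : ℕ) (hj : j < 3) (hk : k < 64) (hi : i < 64) :
    mu (mu (sgI j) k) i = mu (sgI j) (mu k i) := by
  have h := tab_ok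
  simp only [Bool.and_eq_true, beq_iff_eq, List.all_eq_true, List.mem_range] at h
  show dig (tab.getD (mu (sgI j) k) 0) i = _
  rw [h.2 j hj k hk, comp, Cfsg.Agent.LeechCert.force_eq, Cfsg.Agent.LeechCert.force_eq,
    dig_mk (fun a _ => by rw [dig_eq]; omega) hi]
  rfl

namespace Model

variable {U : Type*} [Group U] (M : Model U)

/-- the chosen member of the class -/
def sA : U := M.tE ⟨nA, nA_lt.1⟩
/-- the chosen commuting member -/
def sB : U := M.tE ⟨nB, nA_lt.2⟩

theorem cd_sA : M.cd M.sA = te nA := M.cd_te _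
theorem cd_sB : M.cd M.sB = te nB := M.cd_te _

/-- elements with given codes in the Sylow subgroup -/
noncomputable def sE (i : ℕ) : U :=
  open Classical in if h : ∃ u, M.cd u = se i then h.choose else 1

theorem exists_sL : ∀ x ∈ sL, ∃ u, M.cd u = x := by
  refine grow_mem (p := fun x => ∃ u, M.cd u = x) ⟨1, M.cd_one⟩ (fun j x hx => ?_) _ _
    fun x hx => ?_
  · obtain ⟨u, rfl⟩ := hx
    obtain ⟨v, hv⟩ : ∃ v, M.cd v = sG.getD j (idc 45) := by
      by_cases hj : j < sgW.length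
      · refine ⟨_, ((exists_word (by norm_num) M.π ⊤ g45 M.gE sgW[j] M.cd_gE
          fun k _ => mem_top _).2).trans ?_⟩
        rw [List.getD_eq_getElem _ _ (by simpa [sG] using hj)]
        simp [sG]
      · exact ⟨1, by rw [M.cd_one, List.getD_eq_default _ _ (by simp [sG]; omega)]⟩
    exact ⟨v * u, by rw [M.cd_mul, hv]⟩
  · rw [List.mem_singleton] at hx
    exact ⟨1, hx ▸ M.cd_one⟩

theorem cd_sE (i : ℕ) : M.cd (M.sE i) = se i := by
  have h : ∃ u, M.cd u = se i := by
    by_cases hi : i < sL.length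
    · exact M.exists_sL _ (by rw [se, List.getD_eq_getElem _ _ hi]; exact List.getElem_mem _)
    · exact ⟨1, by rw [M.cd_one, se, List.getD_eq_default _ _ (by omega)]⟩
  rw [sE, dif_pos h]
  exact h.choose_spec

theorem mu_spec {k m : ℕ} (hk : k < 64) (hm : m < 64) :
    mu k m < 64 ∧ M.sE k * M.sE m = M.sE (mu k m) := by
  have hs := sL_ok
  simp only [Bool.and_eq_true, beq_iff_eq, List.all_eq_true, List.mem_range,
    decide_eq_true_eq] at hs
  obtain ⟨⟨⟨⟨⟨hlen, hnd⟩, hw⟩, h0⟩, hgi⟩, hstep⟩ := hs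
  have ht := tab_ok
  simp only [Bool.and_eq_true, beq_iff_eq] at ht
  have h00 : ∀ m < 64, mu 0 m = m := by
    intro m hm
    rw [mu, ht.1.1, idc, dig_mk (fun a ha => by omega) hm]
  have key : ∀ x ∈ grow 0 (fun j x => mu (sgI j) x) sS [0], x < 64 ∧
      ∀ m < 64, mu x m < 64 ∧ M.sE x * M.sE m = M.sE (mu x m) := by
    have hbase : 0 < 64 ∧ ∀ m < 64, mu 0 m < 64 ∧ M.sE 0 * M.sE m = M.sE (mu 0 m) :=
      ⟨by norm_num, fun m hm => ⟨by rw [h00 m hm]; exact hm, M.cd_inj (by
        rw [h00 m hm, M.cd_mul, M.cd_sE 0, h0, ← M.cd_one, ← M.cd_mul, one_mul])⟩⟩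
    refine grow_mem (p := fun x => x < 64 ∧ ∀ m < 64, mu x m < 64 ∧
      M.sE x * M.sE m = M.sE (mu x m)) hbase (fun j x hx => ?_) _ _ fun x hx => ?_
    · obtain ⟨hx64, hx⟩ := hx
      by_cases hj : j < 3
      · obtain ⟨he, hlt0⟩ := hstep x hx64 j hj
        refine ⟨hlt0, fun m hm => ?_⟩
        obtain ⟨h1, h2⟩ := hx m hm
        obtain ⟨he2, hlt⟩ := hstep (mu x m) h1 j hj
        rw [mu_row j hj hx64 hm]
        refine ⟨hlt, M.cd_inj ?_⟩
        obtain ⟨g, hg⟩ : ∃ g, M.cd g = sG.getD j (idc 45) :=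
          ⟨_, ((exists_word (by norm_num) M.π ⊤ g45 M.gE (sgW.getD j []) M.cd_gE
            fun k _ => mem_top _).2).trans (by
            rw [List.getD_eq_getElem _ _ (by omega), List.getD_eq_getElem _ _
              (by simp [sG]; omega)]
            simp [sG])⟩
        rw [M.cd_mul, M.cd_sE, M.cd_sE, M.cd_sE, ← he2, ← he, ← hg, ← M.cd_sE x, ← M.cd_sE m,
          ← M.cd_sE (mu x m), ← h2, ← M.cd_mul, ← M.cd_mul, ← M.cd_mul, mul_assoc]
      · have hz : sgI j = 0 := by
          have hl : 0 < sL.length := by omega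
          rw [sgI, List.getD_eq_default _ _ (by simp [sG]; omega)]
          rw [se, List.getD_eq_getElem _ _ hl] at h0
          rw [← h0]
          exact hnd.idxOf_getElem 0 hl
        rw [hz, h00 x hx64]
        exact ⟨hx64, hx⟩
    · rw [List.mem_singleton] at hx
      subst hx
      exact hbase
  exact (key k (by rw [ht.1.2]; exact List.mem_range.2 hk)).2 m hm

theorem sE_mem_sL (i : ℕ) : M.cd (M.sE i) ∈ sL := by
  have h := sL_ok
  simp only [Bool.and_eq_true, beq_iff_eq] at h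
  rw [M.cd_sE, se]
  by_cases hi : i < sL.length
  · rw [List.getD_eq_getElem _ _ hi]; exact List.getElem_mem _
  · rw [List.getD_eq_default _ _ (by omega), ← h.1.1.2, se,
      List.getD_eq_getElem _ _ (by omega)]
    exact List.getElem_mem _

theorem exists_index {u : U} (h : M.cd u ∈ sL) : ∃ i < 64, M.sE i = u := by
  have hs := sL_ok
  simp only [Bool.and_eq_true, beq_iff_eq] at hs
  obtain ⟨i, hi, he⟩ := List.mem_iff_getElem.1 h
  refine ⟨i, by omega, M.cd_inj ?_⟩
  rw [M.cd_sE, se, List.getD_eq_getElem _ _ hi, he]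

theorem sE_inj {i k : ℕ} (hi : i < 64) (hk : k < 64) (h : M.sE i = M.sE k) : i = k := by
  have hs := sL_ok
  simp only [Bool.and_eq_true, beq_iff_eq, decide_eq_true_eq] at hs
  have h1 := congrArg M.cd h
  rw [M.cd_sE, M.cd_sE, se, se, List.getD_eq_getElem _ _ (by omega),
    List.getD_eq_getElem _ _ (by omega)] at h1
  exact (hs.1.1.1.1.2.getElem_inj_iff).1 h1

theorem sE_zero : M.sE 0 = 1 := by
  refine M.cd_inj ?_
  have h := sL_ok
  simp only [Bool.and_eq_true, beq_iff_eq] at h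
  rw [M.cd_sE, M.cd_one]
  exact h.1.1.2

/-- The Sylow subgroup. -/
noncomputable def sylowSub : Subgroup U :=
  let S : Submonoid U :=
    { carrier := {u | M.cd u ∈ sL}
      one_mem' := by
        show M.cd 1 ∈ sL
        rw [← M.sE_zero]
        exact M.sE_mem_sL 0
      mul_mem' := fun {a b} ha hb => by
        obtain ⟨i, hi, rfl⟩ := M.exists_index ha
        obtain ⟨k, hk, rfl⟩ := M.exists_index hb
        show M.cd _ ∈ sL
        rw [(M.mu_spec hi hk).2]
        exact M.sE_mem_sL _ }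
  { S with
    inv_mem' := by
      intro a ha
      haveI := M.finite
      have hn : a⁻¹ = a ^ (orderOf a - 1) := (eq_inv_of_mul_eq_one_left (by
        rw [← pow_succ, Nat.sub_add_cancel (orderOf_pos a), pow_orderOf_eq_one])).symm
      show a⁻¹ ∈ S
      rw [hn]
      exact S.pow_mem ha _ }

theorem mem_sylowSub {u : U} : u ∈ M.sylowSub ↔ M.cd u ∈ sL := Iff.rfl

theorem card_sylowSub : Nat.card M.sylowSub = 64 := by
  let f : Fin 64 → M.sylowSub := fun i => ⟨M.sE i, M.sE_mem_sL i⟩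
  have hf : Function.Bijective f := ⟨fun a b h => Fin.ext (M.sE_inj a.2 b.2 (congrArg Subtype.val h)),
    fun x => by
      obtain ⟨i, hi, he⟩ := M.exists_index x.2
      exact ⟨⟨i, hi⟩, Subtype.ext he⟩⟩
  rw [← Nat.card_congr (Equiv.ofBijective f hf), Nat.card_fin]

/-- Every 2-subgroup is conjugate into the Sylow subgroup. -/
theorem conj_into (P : Subgroup U) (hP : IsPGroup 2 P) :
    ∃ g : U, ∀ p ∈ P, g * p * g⁻¹ ∈ M.sylowSub := by
  haveI := M.finite
  haveI : Fact (Nat.Prime 2) := ⟨Nat.prime_two⟩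
  obtain ⟨S, hS⟩ := (IsPGroup.of_card (p := 2) (n := 6) M.card_sylowSub).exists_le_sylow
  have hSS : (S : Subgroup U) = M.sylowSub := by
    refine (eq_of_le_of_card_ge hS ?_).symm
    rw [S.card_eq_multiplicity, M.card, M.card_sylowSub]
    show 2 ^ _ ≤ 2 ^ 6
    refine Nat.pow_le_pow_right (by norm_num) ?_
    rw [show (25920 : ℕ) = 2 ^ 6 * 405 by norm_num, Nat.factorization_mul (by norm_num)
      (by norm_num), Finsupp.add_apply, Nat.Prime.factorization_pow Nat.prime_two,
      Finsupp.single_eq_same, Nat.factorization_eq_zero_of_not_dvd (by norm_num : ¬ 2 ∣ 405)]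
  obtain ⟨Q, hQ⟩ := hP.exists_le_sylow
  obtain ⟨g, hg⟩ := MulAction.exists_smul_eq U Q S
  refine ⟨g, fun p hp => ?_⟩
  rw [← hSS, ← hg, Sylow.coe_subgroup_smul]
  exact ⟨p, hQ hp, rfl⟩

theorem mem_ivs {i : ℕ} (hi : i < 64) (hne : M.sE i ≠ 1) (hsq : M.sE i * M.sE i = 1) :
    i ∈ ivs := by
  obtain ⟨hlt, he⟩ := M.mu_spec hi hi
  simp only [ivs, List.mem_filter, List.mem_range, Bool.and_eq_true, bne_iff_ne, beq_iff_eq]
  refine ⟨hi, fun h => hne (h ▸ M.sE_zero), M.sE_inj hlt (by norm_num) ?_⟩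
  rw [← he, hsq, M.sE_zero]

theorem otherL_spec : ∀ x ∈ otherL, x = idc 45 ∨
    ∃ g, M.cd (g * (M.sA * M.sB) * g⁻¹) = x := by
  refine grow_mem (p := fun x => x = idc 45 ∨ ∃ g, M.cd (g * (M.sA * M.sB) * g⁻¹) = x)
    (Or.inl rfl) (fun j x hx => ?_) _ _ fun x hx => ?_
  · rcases hx with rfl | ⟨g, rfl⟩
    · left
      rw [← M.cd_one, ← M.cd_cj]
      congr 1
      group
    · right
      refine ⟨M.gE j * g, ?_⟩
      rw [← M.cd_cj]
      congr 1
      group
  · rw [List.mem_singleton] at hx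
    exact Or.inr ⟨1, by rw [hx, one_mul, inv_one, mul_one, M.cd_mul, M.cd_sA, M.cd_sB]⟩

/-- An involution is in the class or is a product of two commuting members of it. -/
theorem involution {c : U} (hc : c * c = 1) (hne : c ≠ 1) :
    (∃ i, M.tE i = c) ∨ (∃ g, g * (M.sA * M.sB) * g⁻¹ = c) := by
  haveI := M.finite
  haveI : Fact (Nat.Prime 2) := ⟨Nat.prime_two⟩
  have ho : orderOf c = 2 := orderOf_eq_prime (by rw [pow_two]; exact hc) hne
  obtain ⟨g, hg⟩ := M.conj_into (zpowers c)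
    (IsPGroup.of_card (n := 1) (by rw [Nat.card_zpowers, ho, pow_one]))
  obtain ⟨i, hi, he⟩ := M.exists_index (hg c (mem_zpowers c))
  have hne' : M.sE i ≠ 1 := fun h => hne (by
    rw [h] at he
    have := congrArg (fun y => g⁻¹ * y * g) he
    simpa [mul_assoc] using this.symm)
  have hiv := M.mem_ivs hi hne' (by
    rw [he]
    calc g * c * g⁻¹ * (g * c * g⁻¹) = g * (c * c) * g⁻¹ := by group
      _ = 1 := by rw [hc]; group)
  have h := sInv_ok
  simp only [List.all_eq_true, Bool.or_eq_true, List.contains_iff_mem] at h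
  rcases h i hiv with h1 | h1
  · rw [← M.cd_sE, he] at h1
    obtain ⟨k, hk⟩ := M.of_tt h1
    refine Or.inl ⟨M.π g⁻¹ k, ?_⟩
    rw [← M.conj, hk]; group
  · rw [← M.cd_sE] at h1
    rcases M.otherL_spec _ h1 with h2 | ⟨k, h2⟩
    · exact absurd (M.cd_inj (h2.trans M.cd_one.symm)) hne'
    · refine Or.inr ⟨g⁻¹ * k, ?_⟩
      calc g⁻¹ * k * (M.sA * M.sB) * (g⁻¹ * k)⁻¹ = g⁻¹ * (k * (M.sA * M.sB) * k⁻¹) * g := by group
        _ = c := by rw [M.cd_inj h2, he]; group

end Model

end Cfsg.Agent.U62From98Cert
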