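import Cfsg.Agent.Lib.U62From98Model
import Cfsg.Agent.Lib.U62RecogSetup19

/-!
The commuting graph of the forty-five transvections and the two classes of involutions of `U₄(2)`.
-/

set_option autoImplicit false
set_option maxRecDepth 100000

namespace Cfsg.Agent.U62From98Model

open Subgroup Cfsg.Agent.PSpFourThree31

universe u

variable {U : Type u} [Group U] (R : Rep U)

include R in
theorem cmB_symm {i j : Fin 45} (h : cmB i j = true) : cmB j i = true :=
  (commute_iff R j i).mp ((commute_iff R i j).mpr h).symm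

theorem ncard_sel (P : U → Prop) (p : ℕ → Bool) (h : ∀ j : Fin 45, P (tt R j) ↔ p j = true) :
    {u | u ∈ TS R ∧ P u}.ncard = ((List.range 45).filter p).length := by
  rw [show {u | u ∈ TS R ∧ P u} = tt R '' {j : Fin 45 | p j = true} by
      ext u
      constructor
      · rintro ⟨⟨j, rfl⟩, hu⟩; exact ⟨j, (h j).mp hu, rfl⟩
      · rintro ⟨j, hj, rfl⟩; exact ⟨tt_mem R j, (h j).mpr hj⟩,
    Set.ncard_image_of_injective _ (tt_injective R), ← Set.ncard_image_of_injective _ Fin.val_injective,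
    show Fin.val '' {j : Fin 45 | p j = true} = (((List.range 45).filter p).toFinset : Set ℕ) by
      ext n
      simp only [Set.mem_image, Set.mem_ofPred_eq, List.coe_toFinset, List.mem_filter, List.mem_range]
      exact ⟨fun ⟨j, hj, e⟩ => e ▸ ⟨j.isLt, hj⟩, fun ⟨hn, hp⟩ => ⟨⟨n, hn⟩, hp, rfl⟩⟩,
    Set.ncard_coe_finset, List.toFinset_card_of_nodup (List.nodup_range.filter _)]

theorem deg_com_spec (i : Fin 45) :
    ((List.range 45).filter fun j => !Nat.beq j i && cmB i j).length = 12 ∧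
    ∀ j : Fin 45, (cmB i j = true → i ≠ j → ∃ u : Fin 45, cmB u i = true ∧ cmB u j = false) ∧
      (cmB i j = false → ((List.range 45).filter fun u => cmB u i && cmB u j).length = 3) := by
  have h := List.all_eq_true.mp deg_com_ok i (List.mem_range.mpr i.isLt)
  rw [Bool.and_eq_true] at h
  refine ⟨Nat.eq_of_beq_eq_true h.1, fun j => ?_⟩
  have h2 := List.all_eq_true.mp h.2 j (List.mem_range.mpr j.isLt)
  refine ⟨fun hc hne => ?_, fun hc => ?_⟩
  · rw [hc, cond_true, Bool.or_eq_true] at h2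
    rcases h2 with h2 | h2
    · exact absurd (Fin.ext (Nat.eq_of_beq_eq_true h2)) hne
    · simp only [List.any_eq_true, List.mem_range, Bool.and_eq_true, Bool.not_eq_true'] at h2
      obtain ⟨u, hu, h3, h4⟩ := h2
      exact ⟨⟨u, hu⟩, h3, h4⟩
  · rw [hc, cond_false] at h2
    exact Nat.eq_of_beq_eq_true h2

theorem gq_spec {a b d e f : ℕ} (hab : a < b) (hbd : b < d) (hde : d < e) (hef : e < f) (hf : f < 45)
    (c : cmB a b ∧ cmB a d ∧ cmB b d ∧ cmB a e ∧ cmB b e ∧ cmB d e ∧ cmB a f ∧ cmB b f ∧ cmB d f ∧ cmB e f)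
    {u : ℕ} (hu : u < 45) : cmB u a ∨ cmB u b ∨ cmB u d ∨ cmB u e ∨ cmB u f := by
  have h := gq_ok
  simp only [List.all_eq_true, List.mem_range, Bool.or_eq_true, Bool.not_eq_true', Bool.and_eq_false_iff] at h
  have := h a (by omega) b (by omega)
  simp only [Nat.blt_eq.mpr hab, c.1, Bool.true_eq_false, or_false, false_or] at this
  have := this d (by omega)
  simp only [Nat.blt_eq.mpr hbd, c.2.1, c.2.2.1, Bool.true_eq_false, or_false, false_or] at this
  have := this e (by omega)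
  simp only [Nat.blt_eq.mpr hde, c.2.2.2.1, c.2.2.2.2.1, c.2.2.2.2.2.1, Bool.true_eq_false, or_false,
    false_or] at this
  have := this f hf
  simp only [Nat.blt_eq.mpr hef, c.2.2.2.2.2.2.1, c.2.2.2.2.2.2.2.1, c.2.2.2.2.2.2.2.2.1,
    c.2.2.2.2.2.2.2.2.2, Bool.true_eq_false, or_false, false_or] at this
  simpa [or_assoc] using this u hu

theorem braid_spec {i j : Fin 45} (h : cmB i j = false) :
    tt R i * tt R j * tt R i = tt R j * tt R i * tt R j := by
  have h2 := List.all_eq_true.mp (List.all_eq_true.mp braid_ok i (List.mem_range.mpr i.isLt)) j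
    (List.mem_range.mpr j.isLt)
  rw [h, Bool.false_or, eq40_iff] at h2
  refine eq_of_act R fun k hk => ?_
  rw [act_mul, act_tt R i hk, act_tt_mul R i j (pj_lt i.isLt hk),
    act_mul, act_tt R j hk, act_tt_mul R j i (pj_lt j.isLt hk)]
  exact h2 k hk

theorem mem_prs {i j : Fin 45} (hij : i < j) (hc : cmB i j = true) : ((i : ℕ), (j : ℕ)) ∈ prs :=
  List.mem_flatMap.mpr ⟨i, List.mem_range.mpr i.isLt, List.mem_map.mpr ⟨j, List.mem_filter.mpr
    ⟨List.mem_range.mpr j.isLt, by rw [Nat.blt_eq.mpr hij, hc]; rfl⟩, rfl⟩⟩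

theorem prs_spec {p : ℕ × ℕ} (hp : p ∈ prs) :
    ∃ i j : Fin 45, i < j ∧ cmB i j = true ∧ p = ((i : ℕ), (j : ℕ)) := by
  obtain ⟨i, hi, hp⟩ := List.mem_flatMap.mp hp
  obtain ⟨j, hj, rfl⟩ := List.mem_map.mp hp
  obtain ⟨hj1, hj2⟩ := List.mem_filter.mp hj
  rw [Bool.and_eq_true, Nat.blt_eq] at hj2
  exact ⟨⟨i, List.mem_range.mp hi⟩, ⟨j, List.mem_range.mp hj1⟩, hj2.1, hj2.2, rfl⟩

theorem ukey_mul (i j : Fin 45) : ukey R (tt R i * tt R j) = key (fun k => pj i (pj j k)) :=
  key_congr fun _ hk => act_tt_mul R i j hk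

theorem prs_key_nodup : (prs.map fun p => key (fun k => pj p.1 (pj p.2 k))).Nodup :=
  (List.nodup_append.mp (List.nodup_cons.mp keys_nodup).2).2.1

theorem prod_not_mem {i j : Fin 45} (hij : i < j) (hc : cmB i j = true) :
    tt R i * tt R j ∉ TS R := by
  rintro ⟨u, hu⟩
  refine (List.nodup_append.mp (List.nodup_cons.mp keys_nodup).2).2.2 (key (pj u))
    (List.mem_map.mpr ⟨u, List.mem_range.mpr u.isLt, rfl⟩) (key (fun k => pj i (pj j k)))
    (List.mem_map.mpr ⟨_, mem_prs hij hc, rfl⟩) ?_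
  rw [← ukey_tt R u, ← ukey_mul R i j, hu]

theorem prod_inj {i j i' j' : Fin 45} (hij : i < j) (hij' : i' < j') (hc : cmB i j = true)
    (hc' : cmB i' j' = true) (e : tt R i * tt R j = tt R i' * tt R j') : i = i' ∧ j = j' := by
  have := List.inj_on_of_nodup_map prs_key_nodup (mem_prs hij hc) (mem_prs hij' hc')
    (by rw [← ukey_mul R i j, ← ukey_mul R i' j', e])
  simp only [Prod.mk.injEq] at this
  exact ⟨Fin.ext this.1, Fin.ext this.2⟩

theorem pair_norm {a b : U} (ha : a ∈ TS R) (hb : b ∈ TS R) (hne : a ≠ b) (hc : Commute a b) :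
    ∃ i j : Fin 45, i < j ∧ cmB i j = true ∧ a * b = tt R i * tt R j ∧
      ((a = tt R i ∧ b = tt R j) ∨ (a = tt R j ∧ b = tt R i)) := by
  obtain ⟨i, rfl⟩ := ha
  obtain ⟨j, rfl⟩ := hb
  rcases lt_trichotomy i j with h | h | h
  · exact ⟨i, j, h, (commute_iff R i j).mp hc, rfl, Or.inl ⟨rfl, rfl⟩⟩
  · exact absurd (congrArg (tt R) h) hne
  · exact ⟨j, i, h, (commute_iff R j i).mp hc.symm, hc.eq, Or.inr ⟨rfl, rfl⟩⟩

/-- The commuting graph of the class. -/
theorem graph_facts : U62RecogSetup19.TGraph (TS R) where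
  inv := by rintro _ ⟨j, rfl⟩; exact tt_sq R j
  card := card_TS R
  deg := by
    rintro _ ⟨i, rfl⟩
    rw [ncard_sel R (fun s => s ≠ tt R i ∧ Commute s (tt R i)) (fun j => !Nat.beq j i && cmB i j)
      (fun j => ?_)]
    · exact (deg_com_spec i).1
    · rw [Bool.and_eq_true, Bool.not_eq_true', ← Bool.not_eq_true, Nat.beq_eq,
        (tt_injective R).ne_iff, commute_iff R j i, ne_eq, Fin.ext_iff]
      exact and_congr_right fun _ => ⟨cmB_symm R, cmB_symm R⟩
  com := by
    rintro _ ⟨i, rfl⟩ _ ⟨j, rfl⟩ hn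
    rw [ncard_sel R (fun s => Commute s (tt R i) ∧ Commute s (tt R j))
      (fun u => cmB u i && cmB u j) (fun u => ?_)]
    · exact ((deg_com_spec i).2 j).2 (Bool.eq_false_iff.mpr fun h => hn ((commute_iff R i j).mpr h))
    · rw [Bool.and_eq_true, commute_iff R u i, commute_iff R u j]
  sep := by
    rintro _ ⟨i, rfl⟩ _ ⟨j, rfl⟩ hne hc
    obtain ⟨u, h1, h2⟩ := ((deg_com_spec i).2 j).1 ((commute_iff R i j).mp hc) (fun h => hne (h ▸ rfl))
    exact ⟨_, tt_mem R u, (commute_iff R u i).mpr h1, fun h => by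
      rw [(commute_iff R u j).mp h] at h2; exact Bool.noConfusion h2⟩
  gq := by
    intro K hK hcard hcomm u hu
    obtain ⟨u, rfl⟩ := hu
    classical
    set J : Finset (Fin 45) := Finset.univ.filter (fun j => tt R j ∈ K) with hJ
    have hKJ : K = tt R '' (J : Set (Fin 45)) := by
      ext a
      constructor
      · intro ha
        obtain ⟨j, rfl⟩ := hK ha
        exact ⟨j, by simp [hJ, ha], rfl⟩
      · rintro ⟨j, hj, rfl⟩
        simpa [hJ] using hj
    have hJc : J.card = 5 := by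
      rw [hKJ, Set.ncard_image_of_injective _ (tt_injective R), Set.ncard_coe_finset] at hcard
      exact hcard
    let o := J.orderEmbOfFin hJc
    have hm : ∀ x, tt R (o x) ∈ K := fun x => by
      have := Finset.orderEmbOfFin_mem J hJc x
      exact (Finset.mem_filter.mp this).2
    have hc : ∀ x y, cmB (o x) (o y) = true := fun x y =>
      (commute_iff R _ _).mp (hcomm _ (hm x) _ (hm y))
    have hlt : ∀ x y, x < y → (o x : ℕ) < o y := fun x y h => o.strictMono h
    have key := gq_spec (hlt 0 1 (by decide)) (hlt 1 2 (by decide)) (hlt 2 3 (by decide))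
      (hlt 3 4 (by decide)) (o 4).isLt
      ⟨hc 0 1, hc 0 2, hc 1 2, hc 0 3, hc 1 3, hc 2 3, hc 0 4, hc 1 4, hc 2 4, hc 3 4⟩ u.isLt
    rcases key with h | h | h | h | h <;> exact ⟨_, hm _, (commute_iff R u _).mpr h⟩
  prod := by
    intro s hs t ht hne hc
    obtain ⟨i, j, hij, hcm, e, -⟩ := pair_norm R hs ht hne hc
    exact e ▸ prod_not_mem R hij hcm
  pair := by
    intro a ha b hb c hc d hd hab hcd hcab hccd e
    obtain ⟨i, j, hij, hcm, e1, h1⟩ := pair_norm R ha hb hab hcab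
    obtain ⟨i', j', hij', hcm', e2, h2⟩ := pair_norm R hc hd hcd hccd
    obtain ⟨rfl, rfl⟩ := prod_inj R hij hij' hcm hcm' (by rw [← e1, ← e2, e])
    rcases h1 with ⟨rfl, rfl⟩ | ⟨rfl, rfl⟩ <;> rcases h2 with ⟨rfl, rfl⟩ | ⟨rfl, rfl⟩
    · exact Or.inl ⟨rfl, rfl⟩
    · exact Or.inr ⟨rfl, rfl⟩
    · exact Or.inr ⟨rfl, rfl⟩
    · exact Or.inl ⟨rfl, rfl⟩
  braid := by
    rintro _ ⟨i, rfl⟩ _ ⟨j, rfl⟩ hn
    exact braid_spec R (Bool.eq_false_iff.mpr fun h => hn ((commute_iff R i j).mpr h))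

/-- The products of two distinct commuting members of the class. -/
def PS : Set U := {x | ∃ a ∈ TS R, ∃ b ∈ TS R, a ≠ b ∧ Commute a b ∧ a * b = x}

theorem card_PS : (PS R).ncard = 270 := by
  classical
  let m : ℕ × ℕ → U := fun p => tt R ⟨p.1 % 45, Nat.mod_lt _ (by norm_num)⟩ *
    tt R ⟨p.2 % 45, Nat.mod_lt _ (by norm_num)⟩
  have hm : ∀ i j : Fin 45, m ((i : ℕ), (j : ℕ)) = tt R i * tt R j := fun i j => by
    simp only [m, Nat.mod_eq_of_lt i.isLt, Nat.mod_eq_of_lt j.isLt, Fin.eta]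
  have himg : PS R = m '' (prs.toFinset : Set (ℕ × ℕ)) := by
    ext x
    constructor
    · rintro ⟨a, ha, b, hb, hne, hc, rfl⟩
      obtain ⟨i, j, hij, hcm, e, -⟩ := pair_norm R ha hb hne hc
      exact ⟨_, by rw [List.coe_toFinset]; exact mem_prs hij hcm, (hm i j).trans e.symm⟩
    · rintro ⟨p, hp, rfl⟩
      rw [List.coe_toFinset] at hp
      obtain ⟨i, j, hij, hcm, rfl⟩ := prs_spec hp
      exact ⟨_, tt_mem R i, _, tt_mem R j, (tt_injective R).ne (ne_of_lt hij),
        (commute_iff R i j).mpr hcm, (hm i j).symm⟩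
  have hinj : Set.InjOn m (prs.toFinset : Set (ℕ × ℕ)) := by
    intro p hp q hq e
    rw [List.coe_toFinset] at hp hq
    obtain ⟨i, j, hij, hcm, rfl⟩ := prs_spec hp
    obtain ⟨i', j', hij', hcm', rfl⟩ := prs_spec hq
    rw [hm, hm] at e
    obtain ⟨rfl, rfl⟩ := prod_inj R hij hij' hcm hcm' e
    rfl
  rw [himg, hinj.ncard_image, Set.ncard_coe_finset,
    List.toFinset_card_of_nodup (List.Nodup.of_map _ prs_key_nodup)]
  have h := keys_ok
  rw [Bool.and_eq_true] at h
  exact Nat.eq_of_beq_eq_true h.1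

theorem PS_conj {x : U} (hx : x ∈ PS R) (g : U) : g * x * g⁻¹ ∈ PS R := by
  obtain ⟨a, ha, b, hb, hne, hc, rfl⟩ := hx
  exact ⟨_, conj_mem R ha g, _, conj_mem R hb g, U62RecogSetup19.cj_ne hne,
    U62RecogSetup19.commute_cj g hc, by group⟩

theorem PS_trans {x : U} (hx : x ∈ PS R) :
    ∃ g : U, g * (zz R * tt R ⟨33, by norm_num⟩) * g⁻¹ = x := by
  obtain ⟨a, ha, b, hb, hne, hc, rfl⟩ := hx
  obtain ⟨g, rfl⟩ := trans_mem R (zz_mem R) ha
  have hb' : g⁻¹ * b * g ∈ TS R := by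
    have := conj_mem R hb g⁻¹
    simpa using this
  obtain ⟨j, hj⟩ := hb'
  have hbj : g * tt R j * g⁻¹ = b := by rw [hj]; group
  have hcj : Commute (tt R j) (tt R 0) := by
    rw [tt_zero, ← U62RecogSetup19.commute_cj_iff (g := g), hbj]
    exact hc.symm
  obtain ⟨h, h1, h2⟩ := nbr_trans R (fun e => hne (by rw [← hbj, e, tt_zero]))
    ((commute_iff R j 0).mp hcj)
  refine ⟨g * h, ?_⟩
  rw [← hbj, ← h2]
  calc g * h * (zz R * tt R ⟨33, _⟩) * (g * h)⁻¹
      = g * (h * zz R * h⁻¹) * g⁻¹ * (g * (h * tt R ⟨33, _⟩ * h⁻¹) * g⁻¹) := by group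
    _ = g * zz R * g⁻¹ * (g * (h * tt R ⟨33, _⟩ * h⁻¹) * g⁻¹) := by
      rw [h1.eq, mul_inv_cancel_right]

theorem card_cent_PS {c : U} (hc : c ∈ PS R) : Nat.card (centralizer ({c} : Set U)) = 96 := by
  have horb : MulAction.orbit (ConjAct U) c = PS R := by
    ext x
    constructor
    · rintro ⟨g, rfl⟩
      show g • c ∈ PS R
      rw [ConjAct.smul_def]
      exact PS_conj R hc _
    · intro hx
      obtain ⟨g, hg⟩ := PS_trans R hc
      obtain ⟨h, hh⟩ := PS_trans R hx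
      refine ⟨ConjAct.toConjAct (h * g⁻¹), ?_⟩
      show ConjAct.toConjAct (h * g⁻¹) • c = x
      rw [ConjAct.smul_def, ConjAct.ofConjAct_toConjAct, ← hh, ← hg]
      group
  have := finite R
  have h1 := (MulAction.stabilizer (ConjAct U) c).card_mul_index
  rw [MulAction.index_stabilizer, horb, card_PS, ConjAct.stabilizer_eq_centralizer] at h1
  have h2 : Nat.card (ConjAct U) = 25920 := R.card
  rw [h2] at h1
  have h3 : Nat.card (centralizer ({c} : Set U)) * 270 = 25920 := h1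
  omega

/-- Every involution is a member of the class or a product of two commuting members. -/
theorem invol_cases {c : U} (hc : c * c = 1) (hc1 : c ≠ 1) (hcT : c ∉ TS R) : c ∈ PS R := by
  obtain ⟨ψ, hψi, hψa, -⟩ := exists_cent R
  have := finite R
  have : Fact (Nat.Prime 2) := ⟨Nat.prime_two⟩
  have hS : Nat.card (sylC.map ψ) = 64 := by rw [Subgroup.card_map_of_injective hψi, card_sylC]
  let S : Sylow 2 U := Sylow.ofCard (sylC.map ψ) (by
    rw [hS, R.card, show (25920 : ℕ) = 2 ^ 6 * 405 by norm_num,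
      Nat.factorization_mul (by norm_num) (by norm_num), Finsupp.add_apply,
      Nat.factorization_eq_zero_of_not_dvd (show ¬ 2 ∣ 405 by norm_num),
      Nat.Prime.factorization_pow Nat.prime_two]
    simp)
  have hp : IsPGroup 2 (Subgroup.zpowers c) := by
    refine IsPGroup.of_card (n := 1) ?_
    rw [Nat.card_zpowers, orderOf_eq_prime (by rw [sq, hc]) hc1, pow_one]
  obtain ⟨P, hP⟩ := hp.exists_le_sylow
  obtain ⟨g, hg⟩ := MulAction.exists_smul_eq U P S
  have hmem : g * c * g⁻¹ ∈ sylC.map ψ := by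
    have h2 : g * c * g⁻¹ ∈ ((g • P : Sylow 2 U) : Subgroup U) := by
      rw [Sylow.coe_subgroup_smul]; exact ⟨c, hP (Subgroup.mem_zpowers c), rfl⟩
    rwa [hg] at h2
  obtain ⟨s, hs, hse⟩ := Subgroup.mem_map.mp hmem
  have h := List.all_eq_true.mp syl_invol_ok s.idx.val (memN_iff.mp (mem_sylC.mp hs))
  simp only [Bool.or_eq_true, List.any_eq_true, Bool.not_eq_true', List.mem_range, eq40_iff] at h
  rcases h with ((h | h) | ⟨j, hj, h⟩) | ⟨p, hp', h⟩
  · exfalso
    have hs1 : s = 1 := by rw [← cc_idx s, Nat.eq_of_beq_eq_true h, one_def]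
    rw [hs1, map_one] at hse
    exact hc1 (conj_eq_one_iff.mp hse.symm)
  · exfalso
    have hs2 : s * s = 1 := hψi (by
      rw [map_mul, map_one, hse, show g * c * g⁻¹ * (g * c * g⁻¹) = g * (c * c) * g⁻¹ by group, hc]
      group)
    rw [eq_iff_idx, idx_mul, idx_one, h] at hs2
    exact Bool.noConfusion hs2
  · exfalso
    refine hcT ((conj_mem_iff R g).mp ⟨⟨j, hj⟩, ?_⟩)
    rw [← hse]
    exact eq_of_act R fun k hk => by rw [act_tt R _ hk, hψa s k hk]; exact (h k hk).symm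
  · obtain ⟨i, j, hij, hcm, rfl⟩ := prs_spec hp'
    have e : g * c * g⁻¹ ∈ PS R := ⟨_, tt_mem R i, _, tt_mem R j, (tt_injective R).ne (ne_of_lt hij),
      (commute_iff R i j).mpr hcm, by
        rw [← hse]
        exact eq_of_act R fun k hk => by rw [act_tt_mul R i j hk, hψa s k hk]; exact (h k hk).symm⟩
    have := PS_conj R e g⁻¹
    rwa [show g⁻¹ * (g * c * g⁻¹) * g⁻¹⁻¹ = c by group] at this

/-- The other class of involutions. -/
theorem other_facts (c : U) (hc : c * c = 1) (hc1 : c ≠ 1) (hcT : c ∉ TS R) :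
    Nat.card (centralizer ({c} : Set U)) = 96 ∧
      ∃ a ∈ TS R, ∃ b ∈ TS R, a ≠ b ∧ Commute a b ∧ a * b = c :=
  ⟨card_cent_PS R (invol_cases R hc hc1 hcT), invol_cases R hc hc1 hcT⟩

theorem ne_one_TS : ∀ a ∈ TS R, a ≠ 1 := by rintro _ ⟨j, rfl⟩; exact tt_ne_one R j

end Cfsg.Agent.U62From98Model
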