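import Cfsg.Agent.Lib.U62From98ModelChecks

/-!
`U₄(2) ≅ PSp₄(3)` on forty points with its forty-five central involutions: the model used for the
facts about the transvection class.
-/

set_option autoImplicit false
set_option maxRecDepth 100000

namespace Cfsg.Agent.U62From98Model

open Subgroup Cfsg.Agent.PSpFourThree31
open Cfsg.Agent.PSUFourTwoPSp57 (sig card_psp exists_symplectic_perm)

universe u

/-- A faithful representation on the forty points by the tabled transvections. -/
structure Rep (U : Type u) [Group U] where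
  /-- The action. -/
  f : U →* Equiv.Perm (Fin 40)
  inj : Function.Injective f
  /-- The generators. -/
  gens : Fin 40 → U
  gens_top : Subgroup.closure (Set.range gens) = ⊤
  sig_eq : ∀ i j, f (gens i) j = sig i j
  card : Nat.card U = 25920
  simple : IsSimpleGroup U

/-- Every copy of `PSp₄(3)` is represented. -/
theorem exists_rep {U : Type*} [Group U] {F : Type*} [Field F] [Fintype F]
    (hF : Fintype.card F = 3) (e : U ≃* Cfsg.PSp 2 F) : Nonempty (Rep U) := by
  obtain ⟨f, hf, t, ht, hs⟩ := exists_symplectic_perm hF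
  have := SymplecticSimple.psp_simple (F := F) 2 le_rfl (fun _ => by omega)
  refine ⟨{ f := f.comp e.toMonoidHom, inj := hf.comp e.injective, gens := fun i => e.symm (t i),
            gens_top := ?_, sig_eq := fun i j => ?_, card := ?_, simple := ?_ }⟩
  · have := congrArg (Subgroup.map e.symm.toMonoidHom) ht
    rw [MonoidHom.map_closure, Subgroup.map_top_of_surjective _ e.symm.surjective] at this
    rw [← this, ← Set.range_comp]
    rfl
  · simp [hs]
  · rw [Nat.card_congr e.toEquiv, card_psp hF]
  · exact e.isSimpleGroup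

variable {U : Type u} [Group U] (R : Rep U)

/-- The action on numbers. -/
def act (u : U) (k : ℕ) : ℕ := (R.f u ⟨k % 40, Nat.mod_lt _ (by norm_num)⟩ : ℕ)

theorem act_lt (u : U) (k : ℕ) : act R u k < 40 := Fin.isLt _

theorem act_mul (a b : U) (k : ℕ) : act R (a * b) k = act R a (act R b k) := by
  unfold act
  rw [map_mul, Equiv.Perm.mul_apply]
  congr 3
  ext
  exact (Nat.mod_eq_of_lt (Fin.isLt _)).symm

theorem act_one {k : ℕ} (hk : k < 40) : act R 1 k = k := by
  unfold act
  rw [map_one]
  exact Nat.mod_eq_of_lt hk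

theorem eq_of_act {a b : U} (h : ∀ k < 40, act R a k = act R b k) : a = b := by
  refine R.inj (Equiv.ext fun k => Fin.ext ?_)
  have := h k k.isLt
  simpa [act, Nat.mod_eq_of_lt k.isLt] using this

/-- The value of a word in the generators. -/
def val (l : List ℕ) : U := (l.map fun i => if h : i < 40 then R.gens ⟨i, h⟩ else 1).prod

theorem act_val : ∀ {l : List ℕ}, (∀ i ∈ l, i < 40) → ∀ {k : ℕ}, k < 40 →
    act R (val R l) k = wimg l k := by
  intro l
  induction l with
  | nil => intro _ k hk; exact act_one R hk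
  | cons i l ih =>
    intro hl k hk
    have hi := hl i List.mem_cons_self
    show act R ((if h : i < 40 then R.gens ⟨i, h⟩ else 1) * val R l) k = _
    rw [dif_pos hi, act_mul, ih (fun x hx => hl x (List.mem_cons_of_mem _ hx)) hk, wimg]
    have hlt : wimg l k < 40 := by
      rw [← ih (fun x hx => hl x (List.mem_cons_of_mem _ hx)) hk]; exact act_lt R _ _
    unfold act
    rw [R.sig_eq]
    simp only [Nat.mod_eq_of_lt hlt]
    rfl

theorem act_gen (i : Fin 40) {k : ℕ} (hk : k < 40) : act R (R.gens i) k = sigN i k := by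
  have := act_val R (l := [i.val]) (by simp [i.isLt]) hk
  rw [show val R [i.val] = R.gens i by simp [val]] at this
  exact this

/-- The base involution. -/
def zz : U := val R zW

/-- The forty-five involutions. -/
def tt (j : Fin 45) : U := val R (ttW j) * zz R * (val R (ttW j))⁻¹

/-- The transvection class. -/
def TS : Set U := Set.range (tt R)

theorem ttW_lt (j : Fin 45) : ∀ i ∈ ttW j, i < 40 := by
  have h := conjW_ok
  simp only [Bool.and_eq_true, List.all_eq_true, List.mem_range, Nat.beq_eq, Nat.blt_eq] at h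
  exact (h.2 j j.isLt).1

theorem act_zz {k : ℕ} (hk : k < 40) : act R (zz R) k = pimg (ev 1) k := by
  have h := base_ok
  simp only [List.all_eq_true, List.mem_range, Bool.and_eq_true, Nat.beq_eq] at h
  rw [zz, act_val R (by decide) hk, (h k hk).2]

theorem act_tt (j : Fin 45) {k : ℕ} (hk : k < 40) : act R (tt R j) k = pj j k := by
  have h := conjW_ok
  simp only [Bool.and_eq_true, List.all_eq_true, List.mem_range, Nat.beq_eq, Nat.blt_eq] at h
  set g := val R (ttW j) with hg
  have hk' : k = act R g (act R g⁻¹ k) := by rw [← act_mul, mul_inv_cancel, act_one R hk]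
  have hl := act_lt R g⁻¹ k
  have h1 := (h.2 j j.isLt).2 _ hl
  show act R (g * zz R * g⁻¹) k = _
  rw [act_mul, act_mul, act_zz R hl, act_val R (ttW_lt j) (by rw [← act_zz R hl]; exact act_lt R _ _)]
  show wimg (conjW.getD j []) _ = _
  rw [← h1, show wimg (conjW.getD (j : ℕ) []) (act R g⁻¹ k) = act R g (act R g⁻¹ k) from
    (act_val R (ttW_lt j) hl).symm, ← hk']
  rfl

theorem tt_zero : tt R 0 = zz R := eq_of_act R fun k hk => by
  have h := base_ok
  simp only [List.all_eq_true, List.mem_range, Bool.and_eq_true, Nat.beq_eq] at h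
  rw [act_tt R 0 hk, zz, act_val R (by decide) hk]
  exact (h k hk).1

theorem pj_lt {j k : ℕ} (hj : j < 45) (hk : k < 40) : pj j k < 40 := by
  have h := pj_lt_ok
  simp only [List.all_eq_true, List.mem_range, Bool.and_eq_true, Nat.blt_eq] at h
  exact (h j hj k hk).1

theorem act_tt_mul (i j : Fin 45) {k : ℕ} (hk : k < 40) :
    act R (tt R i * tt R j) k = pj i (pj j k) := by
  rw [act_mul, act_tt R j hk, act_tt R i (pj_lt j.isLt hk)]

theorem eq40_iff {f g : ℕ → ℕ} : eq40 f g = true ↔ ∀ k < 40, f k = g k := by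
  simp [eq40, List.all_eq_true, Nat.beq_eq]

theorem cmB_eq (i j : Fin 45) : cmB i j = cm i j := by
  have h := List.all_eq_true.mp (List.all_eq_true.mp cm_ok i (List.mem_range.mpr i.isLt)) j
    (List.mem_range.mpr j.isLt)
  exact beq_iff_eq.mp h

theorem commute_iff (i j : Fin 45) : Commute (tt R i) (tt R j) ↔ cmB i j = true := by
  rw [cmB_eq, cm, eq40_iff]
  constructor
  · intro h k hk
    rw [← act_tt_mul R i j hk, ← act_tt_mul R j i hk, h.eq]
  · intro h
    exact eq_of_act R fun k hk => by rw [act_tt_mul R i j hk, act_tt_mul R j i hk, h k hk]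

theorem key_congr {f g : ℕ → ℕ} (h : ∀ k < 40, f k = g k) : key f = key g := by
  simp [key, h 0 (by norm_num), h 1 (by norm_num), h 3 (by norm_num)]

/-- The key of an element. -/
def ukey (u : U) : ℕ := key (act R u)

theorem keys_nodup : keys.Nodup := by
  have h := keys_ok
  simp only [Bool.and_eq_true] at h
  exact nodupN_nodup h.2

theorem ukey_one : ukey R 1 = key (fun k => k) := key_congr fun _ hk => act_one R hk

theorem ukey_tt (j : Fin 45) : ukey R (tt R j) = key (pj j) := key_congr fun _ hk => act_tt R j hk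

theorem tt_key_nodup : ((List.range 45).map fun j => key (pj j)).Nodup :=
  (List.nodup_append.mp (List.nodup_cons.mp keys_nodup).2).1

theorem tt_injective : Function.Injective (tt R) := fun i j h =>
  Fin.ext (List.inj_on_of_nodup_map tt_key_nodup (List.mem_range.mpr i.isLt)
    (List.mem_range.mpr j.isLt) (by rw [← ukey_tt R i, ← ukey_tt R j, h]))

theorem tt_sq (j : Fin 45) : tt R j * tt R j = 1 := eq_of_act R fun k hk => by
  have h := pj_lt_ok
  simp only [List.all_eq_true, List.mem_range, Bool.and_eq_true, Nat.beq_eq] at h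
  rw [act_tt_mul R j j hk, act_one R hk, (h j j.isLt k hk).2]

theorem tt_ne_one (j : Fin 45) : tt R j ≠ 1 := fun h => by
  refine (List.nodup_cons.mp keys_nodup).1 (List.mem_append_left _ ?_)
  rw [← ukey_one R, ← h, ukey_tt]
  exact List.mem_map.mpr ⟨j, List.mem_range.mpr j.isLt, rfl⟩

theorem tt_mem (j : Fin 45) : tt R j ∈ TS R := ⟨j, rfl⟩

theorem conj_gen (i : Fin 40) (j : Fin 45) : R.gens i * tt R j * (R.gens i)⁻¹ ∈ TS R := by
  have h := mov_ok
  simp only [List.all_eq_true, List.mem_range, Bool.and_eq_true, List.any_eq_true, eq40_iff] at h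
  obtain ⟨-, j', hj', hm⟩ := h i i.isLt j j.isLt
  refine ⟨⟨j', hj'⟩, ?_⟩
  rw [eq_mul_inv_iff_mul_eq]
  refine eq_of_act R fun k hk => ?_
  have hs : sigN i k < 40 := by rw [← act_gen R i hk]; exact act_lt R _ _
  rw [act_mul, act_gen R i hk, act_tt R _ hs, act_mul, act_tt R j hk, act_gen R i (pj_lt j.isLt hk)]
  exact hm k hk

theorem gen_pow_three (i : Fin 40) : R.gens i * (R.gens i * R.gens i) = 1 := eq_of_act R fun k hk => by
  have h := mov_ok
  simp only [List.all_eq_true, List.mem_range, Bool.and_eq_true, eq40_iff] at h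
  have hs : sigN i k < 40 := by rw [← act_gen R i hk]; exact act_lt R _ _
  have hs2 : sigN i (sigN i k) < 40 := by rw [← act_gen R i hs]; exact act_lt R _ _
  rw [act_mul, act_mul, act_gen R i hk, act_gen R i hs, act_gen R i hs2, act_one R hk]
  exact (h i i.isLt 0 (by norm_num)).1 k hk

include R in
theorem finite : Finite U := Nat.finite_of_card_ne_zero (by rw [R.card]; norm_num)

theorem conj_mem {a : U} (ha : a ∈ TS R) (g : U) : g * a * g⁻¹ ∈ TS R := by
  have hg : g ∈ Subgroup.closure (Set.range R.gens) := by rw [R.gens_top]; exact Subgroup.mem_top g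
  induction hg using Subgroup.closure_induction_left generalizing a with
  | one => simpa using ha
  | mul_left x hx y _ ih =>
    obtain ⟨i, rfl⟩ := hx
    obtain ⟨j, hj⟩ := ih ha
    rw [show R.gens i * y * a * (R.gens i * y)⁻¹ = R.gens i * (y * a * y⁻¹) * (R.gens i)⁻¹ by group,
      ← hj]
    exact conj_gen R i j
  | inv_mul_cancel x hx y _ ih =>
    obtain ⟨i, rfl⟩ := hx
    obtain ⟨j, hj⟩ := ih ha
    obtain ⟨j', hj'⟩ := conj_gen R i j
    obtain ⟨j'', hj''⟩ := conj_gen R i j'
    refine ⟨j'', hj''.trans ?_⟩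
    rw [hj', hj]
    have e : R.gens i * R.gens i = (R.gens i)⁻¹ := (inv_eq_of_mul_eq_one_right (gen_pow_three R i)).symm
    conv_rhs => rw [← e]
    group

theorem conj_mem_iff {a : U} (g : U) : g * a * g⁻¹ ∈ TS R ↔ a ∈ TS R := by
  refine ⟨fun h => ?_, fun h => conj_mem R h g⟩
  have := conj_mem R h g⁻¹
  simpa [mul_assoc] using this

theorem tt_conj (j : Fin 45) : ∃ g : U, g * zz R * g⁻¹ = tt R j := ⟨_, rfl⟩

theorem trans_mem {a b : U} (ha : a ∈ TS R) (hb : b ∈ TS R) : ∃ g : U, g * a * g⁻¹ = b := by
  obtain ⟨i, rfl⟩ := ha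
  obtain ⟨j, rfl⟩ := hb
  refine ⟨val R (ttW j) * (val R (ttW i))⁻¹, ?_⟩
  show _ = val R (ttW j) * zz R * (val R (ttW j))⁻¹
  rw [tt]
  group

theorem zz_mem : zz R ∈ TS R := tt_zero R ▸ tt_mem R 0

theorem card_TS : (TS R).ncard = 45 := by
  rw [TS, Set.ncard_range_of_injective (tt_injective R), Nat.card_fin]

theorem gen_TS : Subgroup.closure (TS R) = ⊤ := by
  have := R.simple
  have hn : (Subgroup.closure (TS R)).Normal := ⟨fun n hn g => by
    induction hn using Subgroup.closure_induction with
    | mem x hx => exact Subgroup.subset_closure (conj_mem R hx g)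
    | one => simp
    | mul x y _ _ hx hy => rw [← conj_mul]; exact mul_mem hx hy
    | inv x _ hx => rw [← conj_inv]; exact inv_mem hx⟩
  refine hn.eq_bot_or_eq_top.resolve_left fun h => tt_ne_one R 0 ?_
  rw [← Subgroup.mem_bot, ← h]
  exact Subgroup.subset_closure (tt_mem R 0)

theorem card_cent {a : U} (ha : a ∈ TS R) : Nat.card (centralizer ({a} : Set U)) = 576 := by
  have horb : MulAction.orbit (ConjAct U) a = TS R := by
    ext b
    constructor
    · rintro ⟨g, rfl⟩
      show g • a ∈ TS R
      rw [ConjAct.smul_def]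
      exact conj_mem R ha _
    · intro hb
      obtain ⟨g, rfl⟩ := trans_mem R ha hb
      exact ⟨ConjAct.toConjAct g, by simp [ConjAct.smul_def]⟩
  have := finite R
  have h1 := (MulAction.stabilizer (ConjAct U) a).card_mul_index
  rw [MulAction.index_stabilizer, horb, card_TS, ConjAct.stabilizer_eq_centralizer] at h1
  have h2 : Nat.card (ConjAct U) = 25920 := R.card
  rw [h2] at h1
  have h3 : Nat.card (centralizer ({a} : Set U)) * 45 = 25920 := h1
  omega

/-- The centralizer of the base involution is the group of 576 tabled permutations. -/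
theorem exists_cent : ∃ ψ : CC →* U, Function.Injective ψ ∧
    (∀ c, ∀ k < 40, act R (ψ c) k = pimg c.idx k) ∧ ψ.range = centralizer ({zz R} : Set U) := by
  have hgens := gensW_ok
  simp only [Bool.and_eq_true, List.all_eq_true, List.mem_range, Nat.beq_eq, Nat.blt_eq] at hgens
  have hmem : ∀ c : CC, toPermHom c ∈ R.f.range := by
    intro c
    have h := mem_closure_gens c
    induction h using Subgroup.closure_induction with
    | mem x hx =>
      obtain ⟨g, hg, rfl⟩ := hx
      obtain ⟨i, hi, rfl⟩ := List.getElem_of_mem hg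
      refine ⟨val R (gensW.getD i []), Equiv.ext fun k => Fin.ext ?_⟩
      have h1 := act_val R (hgens.2 i hi).1 k.isLt
      rw [← (hgens.2 i hi).2 k k.isLt] at h1
      simp only [act, Nat.mod_eq_of_lt k.isLt] at h1
      refine h1.trans ?_
      show pimg (gensI.getD i 0) k = pimg (cc gensI[i]).idx k
      rw [List.getD_eq_getElem _ _ hi, idx_cc]
      exact List.getD_eq_getElem gensI 0 hi ▸ gensI_lt hi
    | one => rw [map_one]; exact one_mem _
    | mul x y _ _ hx hy => rw [map_mul]; exact mul_mem hx hy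
    | inv x _ hx => rw [map_inv]; exact inv_mem hx
  choose ψ hψ using hmem
  let ψh : CC →* U := MonoidHom.mk' ψ fun a b => R.inj (by rw [map_mul, hψ, hψ, hψ, map_mul])
  have hact : ∀ c, ∀ k < 40, act R (ψh c) k = pimg c.idx k := fun c k hk => by
    simp only [ψh, act, MonoidHom.mk'_apply, hψ, Nat.mod_eq_of_lt hk]
    rfl
  have hinj : Function.Injective ψh := fun a b h => toPerm_injective (by
    have h2 := congrArg R.f h
    simp only [ψh, MonoidHom.mk'_apply, hψ] at h2
    exact h2)
  refine ⟨ψh, hinj, hact, ?_⟩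
  have := finite R
  refine Subgroup.eq_of_le_of_card_ge ?_ ?_
  · rintro _ ⟨c, rfl⟩
    have hz : zz R = ψh (eC 1) := eq_of_act R fun k hk => by
      rw [act_zz R hk, hact _ k hk, eC, idx_cc (ev_lt (show 1 < 16 by norm_num))]
    refine Subgroup.mem_centralizer_singleton_iff.mpr ?_
    rw [hz, ← map_mul, ← map_mul]
    refine congrArg ψh ?_
    have h := all576_spec z_central c.idx.isLt
    rw [eq_iff_idx, idx_mul, idx_mul]
    simp only [eC, idx_cc (ev_lt (show 1 < 16 by norm_num))]
    simpa only [zI] using h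
  · rw [card_cent R (zz_mem R), Nat.card_congr (MonoidHom.ofInjective hinj).symm.toEquiv, card_CC]

/-- The centralizer of the base involution is transitive on the twelve others commuting with it. -/
theorem nbr_trans {j : Fin 45} (hj : j ≠ 0) (hc : cmB j 0 = true) :
    ∃ g : U, Commute g (zz R) ∧ g * tt R ⟨33, by norm_num⟩ * g⁻¹ = tt R j := by
  have h := nbr_ok
  simp only [Bool.and_eq_true] at h
  obtain ⟨h1, h2⟩ := h
  have h3 := List.all_eq_true.mp h2 j (List.mem_range.mpr j.isLt)
  rw [show cmB j 0 = cm j 0 from cmB_eq j 0] at hc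
  rw [Bool.or_eq_true, Bool.or_eq_true, Bool.not_eq_true', hc] at h3
  obtain ⟨r, hr, hrj⟩ : ∃ r ∈ nbrW, r.1 = j.val := by
    rcases h3 with (h3 | h3) | h3
    · exact absurd (Fin.ext (Nat.eq_of_beq_eq_true h3)) hj
    · exact absurd h3 (by simp)
    · obtain ⟨r, hr, hrj⟩ := List.any_eq_true.mp h3
      exact ⟨r, hr, Nat.eq_of_beq_eq_true hrj⟩
  have h4 := List.all_eq_true.mp h1 r hr
  simp only [Bool.and_eq_true, List.all_eq_true, Nat.blt_eq, eq40_iff] at h4
  obtain ⟨⟨hl, hz⟩, hm⟩ := h4
  have hw : ∀ k < 40, wimg r.2 k < 40 := fun k hk => by rw [← act_val R hl hk]; exact act_lt R _ _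
  refine ⟨val R r.2, eq_of_act R fun k hk => ?_, ?_⟩
  · rw [← tt_zero, act_mul, act_mul, act_tt R 0 hk, act_val R hl hk,
      act_val R hl (pj_lt (by norm_num) hk), act_tt R 0 (hw k hk)]
    exact hz k hk
  · rw [mul_inv_eq_iff_eq_mul]
    refine eq_of_act R fun k hk => ?_
    rw [act_mul, act_mul, act_tt R _ hk, act_val R hl hk, act_tt R j (hw k hk),
      act_val R hl (pj_lt (by norm_num) hk), ← hrj]
    exact hm k hk

end Cfsg.Agent.U62From98Model
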