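import Cfsg.Agent.Lib.PSpFourThree31Real

/-!
Kernel checked facts about the forty-five central involutions of the permutation model of `U₄(2)`.
-/

set_option autoImplicit false
set_option maxRecDepth 100000
set_option maxHeartbeats 4000000

namespace Cfsg.Agent.U62From98Model

open Cfsg.Agent.PSpFourThree31

/-- The `j`-th central involution on points. -/
def pj (j k : ℕ) : ℕ := (conjP.getD j 0) / 64 ^ k % 64

/-- Equality on the forty points. -/
def eq40 (f g : ℕ → ℕ) : Bool := (List.range 40).all fun k => Nat.beq (f k) (g k)

/-- The base involution as a word in the transvections. -/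
def zW : List ℕ := [0, 22, 24]

/-- A word for the `j`-th involution. -/
def ttW (j : ℕ) : List ℕ := conjW.getD j []

/-- Two of the involutions commute. -/
def cm (i j : ℕ) : Bool := eq40 (fun k => pj i (pj j k)) (fun k => pj j (pj i k))

/-- Words centralizing the base involution moving the neighbour `33` to each neighbour. -/
def nbrW : List (ℕ × List ℕ) :=
  [(33, []), (34, [0]), (35, [0, 0]), (36, [2, 3, 7, 0]), (37, [0, 1]), (38, [0, 1, 0]),
   (39, [0, 8, 18, 27, 0]), (40, [0, 4, 14, 26, 0, 0]), (41, [0, 1, 0, 1]),
   (42, [0, 4, 14, 26, 0]), (43, [0, 0, 4, 14, 26, 0]), (44, [0, 1, 4, 14])]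

theorem base_ok : ((List.range 40).all fun k => Nat.beq (pj 0 k) (wimg zW k) &&
    Nat.beq (pimg (ev 1) k) (wimg zW k)) = true := by
  decide +kernel

theorem pj_lt_ok : ((List.range 45).all fun j => (List.range 40).all fun k =>
    Nat.blt (pj j k) 40 && Nat.beq (pj j (pj j k)) k) = true := by
  decide +kernel

theorem mov_ok : ((List.range 40).all fun i => (List.range 45).all fun j =>
    eq40 (fun k => sigN i (sigN i (sigN i k))) (fun k => k) &&
    (List.range 45).any fun j' =>
      eq40 (fun k => pj j' (sigN i k)) (fun k => sigN i (pj j k))) = true := by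
  decide +kernel

theorem nbr_ok : ((nbrW.all fun r => r.2.all (fun x => Nat.blt x 40) &&
      eq40 (fun k => wimg r.2 (pj 0 k)) (fun k => pj 0 (wimg r.2 k)) &&
      eq40 (fun k => wimg r.2 (pj 33 k)) (fun k => pj r.1 (wimg r.2 k))) &&
    (List.range 45).all fun j => Nat.beq j 0 || !cm j 0 || nbrW.any fun r => Nat.beq r.1 j) = true := by
  decide +kernel

/-- The commutation rows. -/
def cmRows : List ℕ :=
  [0x1ffe00000001, 0x1c00000007fe, 0x1014492a0446, 0x4285150818a, 0x84261850232, 0x8a08a302232, 0x114092444446, 0x610a288118a, 0x5030c21418a, 0xa0514421232, 0x10892480a446, 0x1c00001ff800, 0x101522511a80, 0x4290a862c20, 0x8431228c940, 0x8a06448cc08, 0x11404c911910, 0x61054262a04, 0x502a1462850, 0xa048988c884, 0x108891311828, 0x93c0324124, 0x125c0449248, 0x249c0892490, 0xe391c001c, 0x703a0070e0, 0x3803c038700, 0x1240f092124, 0x24817124248, 0x9227049490, 0x7040e3801c, 0x38080fc00e0, 0xf00e07700, 0x122321244111, 0x4c509481205, 0x91911902409, 0x91862221085, 0x12224a40a029, 0x4c452814051, 0x4c4a4308421, 0x9188c450141, 0x1222948a0281, 0x4c40006298b, 0x9180008ca33, 0x122200111c47]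

/-- Commutation from the rows. -/
def cmB (i j : ℕ) : Bool := Nat.testBit (cmRows.getD i 0) j

/-- A key separating the elements considered. -/
def key (f : ℕ → ℕ) : ℕ := (f 0 * 64 + f 1) * 64 + f 3

/-- The commuting pairs. -/
def prs : List (ℕ × ℕ) :=
  (List.range 45).flatMap fun i => ((List.range 45).filter fun j => Nat.blt i j && cmB i j).map fun j => (i, j)

/-- The keys of identity, involutions and products of commuting pairs. -/
def keys : List ℕ :=
  key (fun k => k) :: ((List.range 45).map fun j => key (pj j)) ++
    prs.map fun p => key (fun k => pj p.1 (pj p.2 k))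

theorem cm_ok : ((List.range 45).all fun i => (List.range 45).all fun j => cmB i j == cm i j) = true := by
  decide +kernel

theorem keys_ok : (Nat.beq prs.length 270 && nodupN keys) = true := by
  decide +kernel

theorem deg_com_ok : ((List.range 45).all fun i =>
    Nat.beq ((List.range 45).filter fun j => !Nat.beq j i && cmB i j).length 12 &&
    (List.range 45).all fun j =>
      bif cmB i j then Nat.beq i j || (List.range 45).any fun u => cmB u i && !cmB u j
      else Nat.beq ((List.range 45).filter fun u => cmB u i && cmB u j).length 3) = true := by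
  decide +kernel

theorem gq_ok : ((List.range 45).all fun a => (List.range 45).all fun b =>
    !(Nat.blt a b && cmB a b) || (List.range 45).all fun d =>
      !(Nat.blt b d && cmB a d && cmB b d) || (List.range 45).all fun e =>
        !(Nat.blt d e && cmB a e && cmB b e && cmB d e) || (List.range 45).all fun f =>
          !(Nat.blt e f && cmB a f && cmB b f && cmB d f && cmB e f) ||
          (List.range 45).all fun u => cmB u a || cmB u b || cmB u d || cmB u e || cmB u f) = true := by
  decide +kernel

theorem braid_ok : ((List.range 45).all fun i => (List.range 45).all fun j =>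
    cmB i j || eq40 (fun k => pj i (pj j (pj i k))) (fun k => pj j (pj i (pj j k)))) = true := by
  decide +kernel

theorem syl_invol_ok : (sylI.all fun n => Nat.beq n 0 || !Nat.beq (cmul n n) 0 ||
    ((List.range 45).any fun j => eq40 (pimg n) (pj j)) ||
    prs.any fun p => eq40 (pimg n) (fun k => pj p.1 (pj p.2 k))) = true := by
  decide +kernel

end Cfsg.Agent.U62From98Model
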