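import Cfsg.Agent.Lib.U62From98PairsBase

/-!
The two shapes of a commuting pair of conjugates: commutator space of dimension two or four
(helper79).
-/

set_option autoImplicit false
set_option linter.unusedSectionVars false
set_option linter.style.haveILetI false
set_option linter.unusedVariables false

namespace Cfsg.Agent.U62From98

open Subgroup

universe u v

variable {G : Type u} [Group G] [Finite G] {U : Type v} [Group U]
variable {z : G} {Ω : Set G} {T : Set U} {J : G → Subgroup G} {φ : G → G → U}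

namespace PairB

/-- The elements common to both extraspecial groups. -/
def DD (J : G → Subgroup G) (a b : G) : Subgroup G := J a ⊓ J b

variable (S : Sys z Ω T J φ) (N : NoJ Ω J) {a b : G} (h : Pair Ω a b)
include S h

theorem CB_le_KK : CB J a b ≤ KK J a b := fun j hj =>
  (mem_KK_iff S h).2 ⟨hj.1, Or.inl ((wv_eq_one S h).2 (mem_CB.1 hj).2)⟩

theorem CB_eq_KK (hn : a ∉ Wset J a b) : CB J a b = KK J a b := by
  refine le_antisymm (CB_le_KK S h) fun j hj => ?_
  obtain ⟨hj, e | e⟩ := (mem_KK_iff S h).1 hj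
  · exact mem_CB.2 ⟨hj, (wv_eq_one S h).1 e⟩
  · exact absurd (e ▸ wv_mem S h hj) hn

theorem card_W_CB : (Wset J a b).ncard * Nat.card (CB J a b) = 512 := by
  rw [← S.card_W_mul (b := b) h.1]
  congr 1
  rw [← Nat.card_coe_set_eq]
  exact Nat.card_congr (Equiv.subtypeEquivRight fun j => mem_CB)

theorem DD_le_CB : DD J a b ≤ CB J a b := fun d hd =>
  mem_CB.2 ⟨hd.1, (S.ctx b h.2.1).le d hd.2⟩

theorem DD_comm {d j : G} (hd : d ∈ DD J a b) (hj : j ∈ CB J a b) (N : NoJ Ω J) :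
    Commute j d := by
  obtain ⟨hjJ, hjb⟩ := mem_CB.1 hj
  rcases (S.ctx a h.1).comm j hjJ d hd.1 with e | e
  · exact e
  · exfalso
    refine N b a (S.pair_symm h) ?_
    have h1 : j * d * j⁻¹ ∈ J b := (S.ctx b h.2.1).normal j hjb d hd.2
    have h2 : j * d * j⁻¹ = a * d := by rw [e]; group
    rw [h2] at h1
    have := (J b).mul_mem h1 ((J b).inv_mem hd.2)
    rwa [mul_inv_cancel_right] at this

theorem bw_sq {w : G} (hw : w ∈ Wset J a b) : Commute w b ↔ w * w = 1 := by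
  obtain ⟨x, hx, rfl⟩ := exists_wv S h hw
  have e := w_bconj h (S.sq h.2.1) x
  set w := wv b x
  constructor
  · intro hc
    rw [← hc.eq, mul_assoc, S.sq h.2.1, mul_one] at e
    nth_rewrite 1 [e]
    exact inv_mul_cancel w
  · intro e2
    rw [inv_eq_of_mul_eq_one_right e2] at e
    show w * b = b * w
    calc w * b = b * w * b * b := by rw [e]
      _ = b * w := by rw [mul_assoc (b * w), S.sq h.2.1, mul_one]

include N

theorem DD_notW {d : G} (hd : d ∈ DD J a b) (hw : d ∈ Wset J a b) : d = 1 := by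
  by_contra h1
  have hp := S.pair_mul h hw
  refine N b (b * d) ⟨h.2.1, hp.2.1, fun e => h1 (mul_eq_left.1 e.symm), ?_⟩
    ((J b).mul_mem (S.ctx b h.2.1).mem hd.2)
  exact (Commute.refl b).mul_right ((S.ctx b h.2.1).le d hd.2).symm

theorem a_notMem_DD : a ∉ DD J a b := fun ha => N b a (S.pair_symm h) ha.2

theorem DD_le_RR (hn : a ∉ Wset J a b) : DD J a b ≤ RR J a b := fun d hd =>
  double S h hd.1 fun y hy => (DD_comm S h hd (by rw [CB_eq_KK S h hn]; exact hy) N).symm

theorem DD_aW (hn : a ∉ Wset J a b) {d : G} (hd : d ∈ DD J a b) (h1 : d ≠ 1) :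
    a * d ∈ Wset J a b :=
  (mem_RR S h (DD_le_RR S N h hn hd)).resolve_left fun hw => h1 (DD_notW S N h hd hw)

omit N in
theorem W_sq_one (hn : a ∉ Wset J a b) {w : G} (hw : w ∈ Wset J a b) : w * w = 1 := by
  refine (bw_sq S h hw).1 ?_
  have : w ∈ CB J a b := by rw [CB_eq_KK S h hn]; exact RR_le_KK S h (W_mem_RR hw)
  exact (mem_CB.1 this).2

omit N in
theorem card_RR_nw (hn : a ∉ Wset J a b) :
    Nat.card (RR J a b) = 2 * (Wset J a b).ncard := by
  have h1 := card_KK S h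
  have h2 := card_W_CB S h
  rw [CB_eq_KK S h hn] at h2
  have hpos := Nat.card_pos (α := KK J a b)
  refine Nat.eq_of_mul_eq_mul_left hpos ?_
  rw [h1, mul_left_comm, mul_comm (Nat.card _) (Wset J a b).ncard, h2]
  all_goals norm_num


omit N in
theorem disjoint_W (hn : a ∉ Wset J a b) {w : G} (hw : w ∈ Wset J a b) :
    a * w ∉ Wset J a b := by
  intro hw'
  set A : Set G := Wset J a b with hA
  set B : Set G := (fun x => a * x) '' A with hB
  have hsub : (RR J a b : Set G) ⊆ A ∪ B := fun x hx =>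
    (mem_RR S h hx).imp id fun hx' => ⟨a * x, hx', aa S h x⟩
  have h1 := Set.ncard_le_ncard hsub (Set.toFinite _)
  have h2 := Set.ncard_union_add_ncard_inter A B
  have h3 : 0 < (A ∩ B).ncard := Set.ncard_pos (Set.toFinite _) |>.2 ⟨a * w, hw', w, hw, rfl⟩
  have h4 : B.ncard = A.ncard := Set.ncard_image_of_injective _ (mul_right_injective a)
  rw [← Nat.card_coe_set_eq] at h1
  change Nat.card (RR J a b) ≤ _ at h1
  rw [card_RR_nw S h hn, ← hA] at h1
  omega

omit N in
theorem chi_of_prod {i k : G} (hi : i ∈ J a) (hk : k ∈ J a)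
    (hp : wv b i * wv b k ∉ Wset J a b) :
    chi i (wv b k) = -1 ∧ wv b i * wv b k = a * wv b (i * k) := by
  rcases a_mem_W_or S h hi hk with ⟨-, e⟩ | ⟨hc, e⟩
  · exact absurd (e ▸ wv_mem S h ((J a).mul_mem hi hk)) hp
  · exact ⟨chi_neg hc, e⟩

/-- An element outside `W`, whose translate by `d` stays outside, anticommutes with the
preimage of `d`. -/
theorem coset_chi (hn : a ∉ Wset J a b) {d x k : G} (hd : d ∈ DD J a b)
    (hk : k ∈ J a) (hkd : wv b k = a * d) (hx : x ∈ RR J a b) (hxW : x ∉ Wset J a b)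
    (hxd : x * d ∉ Wset J a b) : chi k x = -1 := by
  have C := S.ctx a h.1
  obtain ⟨i, hi, e⟩ := exists_wv S h ((mem_RR S h hx).resolve_left hxW)
  have hxJ := RR_le S h hx
  have hp : wv b i * wv b k = x * d := by
    rw [e, hkd, ← mul_assoc (a * x) a d, mul_assoc a x a, ← C.a_comm hxJ, aa S h]
  have h1 := (chi_of_prod S h hi hk (hp ▸ hxd)).1
  rw [chi_symm S h hi hk, e, C.comm_mul hk C.mem hxJ, chi_comm k a, chi_a S h hk, one_mul] at h1
  exact h1

theorem DD_bound (hn : a ∉ Wset J a b) : Nat.card (DD J a b) ≤ 4 := by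
  by_contra hlt
  push Not at hlt
  set X : Set G := (DD J a b : Set G) with hX
  have hXc : X.ncard = Nat.card (DD J a b) := (Nat.card_coe_set_eq _).symm
  have pick : ∀ s : Set G, s.ncard ≤ 4 → ∃ d ∈ DD J a b, d ∉ s := fun s hs => by
    by_contra hne
    push Not at hne
    have := Set.ncard_le_ncard (show X ⊆ s from hne) (Set.toFinite _)
    omega
  obtain ⟨d₁, hd₁, e₁⟩ := pick {1} (by simp)
  obtain ⟨d₂, hd₂, e₂⟩ := pick {1, d₁} (by
    have := Set.ncard_insert_le (1 : G) {d₁}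
    simp only [Set.ncard_singleton] at this
    omega)
  obtain ⟨d₃, hd₃, e₃⟩ := pick {1, d₁, d₂, d₁ * d₂} (by
    have u₁ := Set.ncard_insert_le (1 : G) {d₁, d₂, d₁ * d₂}
    have u₂ := Set.ncard_insert_le d₁ {d₂, d₁ * d₂}
    have u₃ := Set.ncard_insert_le d₂ {d₁ * d₂}
    simp only [Set.ncard_singleton] at u₃
    omega)
  simp only [Set.mem_insert_iff, Set.mem_singleton_iff, not_or] at e₁ e₂ e₃
  obtain ⟨i, hi, hid⟩ := exists_wv S h (DD_aW S N h hn hd₁ e₁)
  have hinv : ∀ d ∈ DD J a b, d⁻¹ = d := fun d hd => by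
    refine inv_eq_of_mul_eq_one_right ?_
    rcases (S.ctx a h.1).squares d hd.1 with e | e
    · exact e
    · exact absurd (e ▸ (DD J a b).mul_mem hd hd) (a_notMem_DD S N h)
  have key : ∀ d ∈ DD J a b, d ≠ 1 → d ≠ d₁ → chi i d = -1 := fun d hd h1 h2 =>
    coset_chi S N h hn hd₁ hi hid (DD_le_RR S N h hn hd)
      (fun hw => h1 (DD_notW S N h hd hw)) fun hw => h2 (by
        have := DD_notW S N h ((DD J a b).mul_mem hd hd₁) hw
        rw [← hinv d hd, inv_eq_of_mul_eq_one_right this])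
  have h23 : d₂ * d₃ ≠ 1 := fun e => e₃.2.2.1 (by
    rw [← inv_eq_of_mul_eq_one_right e, hinv d₂ hd₂])
  have h23' : d₂ * d₃ ≠ d₁ := fun e => e₃.2.2.2 (by
    have hd : Commute d₁ d₂ := (DD_comm S h hd₂ (DD_le_CB S h hd₁) N)
    rw [hd.eq, ← e, ← mul_assoc]
    nth_rewrite 1 [← hinv d₂ hd₂]
    rw [inv_mul_cancel, one_mul])
  have := (S.ctx a h.1).comm_mul hi (y := d₂) (y' := d₃) hd₂.1 hd₃.1
  rw [key _ ((DD J a b).mul_mem hd₂ hd₃) h23 h23', key d₂ hd₂ e₂.1 e₂.2,
    key d₃ hd₃ e₃.1 e₃.2.1] at this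
  norm_num at this

omit N in
theorem W_eq_RR (hm : a ∈ Wset J a b) : Wset J a b = (RR J a b : Set G) := by
  refine Set.Subset.antisymm (fun w hw => W_mem_RR hw) fun x hx => ?_
  rcases mem_RR S h hx with hx' | hx'
  · exact hx'
  obtain ⟨i, hi, e⟩ := exists_wv S h hx'
  obtain ⟨k, hk, ek⟩ := exists_wv S h hm
  have hkK : k ∈ KK J a b := (mem_KK_iff S h).2 ⟨hk, Or.inr ek⟩
  have e2 : k * (a * x) * k⁻¹ = a * x := by
    have : Commute k (a * x) := (hkK.2 _ (W_mem_RR hx')).symm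
    rw [this.eq, mul_inv_cancel_right]
  have e1 : wv b (k * i) = x := by rw [wv_mul S h, e, ek, e2, aa S h]
  exact e1 ▸ wv_mem S h ((J a).mul_mem hk hi)

/-- The image at `b` of the centralizer of `b` in `J a`. -/
theorem PP : ∃ P : Subgroup U, (∀ p, p ∈ P ↔ ∃ j ∈ CB J a b, φ b j = p) ∧
    Nat.card (CB J a b) = Nat.card (DD J a b) * Nat.card P ∧ Nat.card P ≤ 32 ∧
    (32 ≤ Nat.card P → φ b a ∈ T ∧
      ∀ p ∈ P, (∀ q ∈ P, Commute p q) → p = 1 ∨ p = φ b a) := by
  have Ca := S.ctx a h.1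
  have Cb := S.ctx b h.2.1
  have hc : ∀ j ∈ CB J a b, Commute j b := fun j hj => (mem_CB.1 hj).2
  obtain ⟨P, hP, hcard⟩ := SetupC.card_image S h.2.1 hc
  have hD : CB J a b ⊓ J b = DD J a b := le_antisymm (fun j hj => ⟨hj.1.1, hj.2⟩)
    fun j hj => ⟨DD_le_CB S h hj, hj.2⟩
  rw [hD] at hcard
  have hab : Commute a b := h.2.2.2
  have hcom : ∀ p ∈ P, Commute p (φ b a) := by
    intro p hp
    obtain ⟨j, hj, rfl⟩ := (hP p).1 hp
    show _ = _
    rw [← Cb.hom _ _ (hc j hj) hab, ← Cb.hom _ _ hab (hc j hj), (Ca.le j hj.1).eq]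
  have hsq : ∀ p ∈ P, p * p = 1 ∨ p * p = φ b a := by
    intro p hp
    obtain ⟨j, hj, rfl⟩ := (hP p).1 hp
    rw [← Cb.hom _ _ (hc j hj) (hc j hj)]
    rcases Ca.squares j hj.1 with e | e <;> rw [e]
    · exact Or.inl Cb.phi_one
    · exact Or.inr rfl
  have hsr := fun h32 => S.facts.squares P (φ b a) (S.phi_sq (S.pair_symm h))
    (S.phi_ne_one N (S.pair_symm h)) ((hP _).2 ⟨a, mem_CB.2 ⟨Ca.mem, hab⟩, rfl⟩) hcom hsq h32
  refine ⟨P, hP, hcard, ?_, fun h32 => ⟨(hsr h32).2.1, (hsr h32).2.2.2.1⟩⟩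
  by_contra hlt
  push Not at hlt
  have := (hsr hlt.le).1
  omega

omit N in
theorem elem_image {P : Subgroup U} (hP : ∀ p, p ∈ P ↔ ∃ j ∈ CB J a b, φ b j = p)
    (hc : ∀ x ∈ CB J a b, ∀ y ∈ CB J a b, Commute x y)
    (hs : ∀ x ∈ CB J a b, x * x = 1) : Elem2 P := by
  have Cb := S.ctx b h.2.1
  refine ⟨fun p hp => ?_, fun p hp q hq => ?_⟩
  · obtain ⟨j, hj, rfl⟩ := (hP p).1 hp
    rw [← Cb.hom _ _ (mem_CB.1 hj).2 (mem_CB.1 hj).2, hs j hj, Cb.phi_one]
  · obtain ⟨j, hj, rfl⟩ := (hP p).1 hp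
    obtain ⟨k, hk, rfl⟩ := (hP q).1 hq
    show _ = _
    rw [← Cb.hom _ _ (mem_CB.1 hj).2 (mem_CB.1 hk).2, ← Cb.hom _ _ (mem_CB.1 hk).2 (mem_CB.1 hj).2,
      (hc j hj k hk).eq]

/-- The shape of a pair over a transvection. -/
def GoodB (T : Set U) (J : G → Subgroup G) (φ : G → G → U) (a b : G) : Prop :=
  a ∉ Wset J a b ∧ Nat.card (RR J a b) = 8 ∧ Nat.card (CB J a b) = 128 ∧
    Nat.card (DD J a b) = 4 ∧ (Wset J a b).ncard = 4 ∧ φ b a ∈ T

/-- The shape of the other pairs. -/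
def BadB (J : G → Subgroup G) (φ : G → G → U) (a b : G) : Prop :=
  Nat.card (RR J a b) = 32 ∧ KK J a b = RR J a b ∧
    (∃ P : Subgroup U, (∀ p, p ∈ P ↔ ∃ j ∈ CB J a b, φ b j = p) ∧
      Nat.card (CB J a b) = Nat.card (DD J a b) * Nat.card P ∧
      Elem2 P ∧ (Nat.card P = 8 ∨ Nat.card P = 16)) ∧
    ((a ∈ Wset J a b ∧ Nat.card (CB J a b) = 16) ∨
      (a ∉ Wset J a b ∧ (Wset J a b).ncard = 16 ∧ Nat.card (CB J a b) = 32 ∧
        2 ≤ Nat.card (DD J a b) ∧ Nat.card (DD J a b) ≤ 4))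

theorem shape_notMem (hn : a ∉ Wset J a b) : GoodB T J φ a b ∨ BadB J φ a b := by
  obtain ⟨P, hP, hcard, hP32, hPbig⟩ := PP S N h
  have hK := card_KK S h
  have hCK : Nat.card (CB J a b) = Nat.card (KK J a b) := by rw [CB_eq_KK S h hn]
  have hR := card_RR_nw S h hn
  have hDle := DD_bound S N h hn
  have hsq : ∀ w ∈ Wset J a b, w * w = 1 := fun w hw => W_sq_one S h hn hw
  rcases card_RR_cases S h N with e | e | e | e
  · exfalso
    rw [e] at hK
    have : Nat.card (CB J a b) = 256 := by omega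
    rw [this] at hcard
    nlinarith
  · refine Or.inl ⟨hn, e, ?_, ?_, by omega, ?_⟩
    · rw [e] at hK; omega
    all_goals
      rw [e] at hK
      have hc : Nat.card (CB J a b) = 128 := by omega
      rw [hc] at hcard
      have h4 : Nat.card (DD J a b) = 4 := by nlinarith
      first
        | exact h4
        | exact (hPbig (by rw [h4] at hcard; omega)).1
  · exact absurd e (not_sixteen S h hsq)
  · rw [e] at hK
    have hKR : KK J a b = RR J a b :=
      (Subgroup.eq_of_le_of_card_ge (RR_le_KK S h) (by omega)).symm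
    have hc : Nat.card (CB J a b) = 32 := by omega
    have hCB : CB J a b = RR J a b := by rw [CB_eq_KK S h hn, hKR]
    have helem : Elem2 P := by
      refine elem_image S h hP (fun x hx y hy => RR_comm S h x (hCB ▸ hx) y (hCB ▸ hy))
        fun x hx => ?_
      have hxR : x ∈ RR J a b := hCB ▸ hx
      rcases mem_RR S h hxR with hw | hw
      · exact hsq x hw
      · have := hsq _ hw
        rwa [mul_assoc a x, ← mul_assoc x a x, ← (S.ctx a h.1).a_comm (RR_le S h hxR),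
          mul_assoc a x x, aa S h] at this
    have h16 := S.facts.elem P helem
    rw [hc] at hcard
    have hD2 : 2 ≤ Nat.card (DD J a b) := by nlinarith
    refine Or.inr ⟨e, hKR, ⟨P, hP, by rw [hc]; exact hcard, helem, ?_⟩,
      Or.inr ⟨hn, by omega, hc, hD2, hDle⟩⟩
    interval_cases hD : Nat.card (DD J a b) <;> omega

theorem shape_mem (hm : a ∈ Wset J a b) : BadB J φ a b := by
  have C := S.ctx a h.1
  obtain ⟨P, hP, hcard, hP32, hPbig⟩ := PP S N h
  have hK := card_KK S h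
  have hW : (Wset J a b).ncard = Nat.card (RR J a b) := by
    rw [W_eq_RR S h hm, ← Nat.card_coe_set_eq]; rfl
  have hWC := card_W_CB S h
  rw [hW] at hWC
  have hRD : ∀ x ∈ RR J a b, x ∈ DD J a b → x = 1 := fun x hx hd => DD_notW S N h hd (by
    rw [W_eq_RR S h hm]; exact hx)
  have hCBR : ∀ y ∈ CB J a b, ∀ x ∈ RR J a b, Commute x y := fun y hy x hx =>
    ((CB_le_KK S h hy).2 x hx)
  have hD2 : Nat.card (DD J a b) ≤ 2 := by
    have hd := C.dual (A := CB J a b) inf_le_left (mem_CB.2 ⟨C.mem, h.2.2.2⟩)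
    have hle : ((RR J a b : Set G) ×ˢ (DD J a b : Set G)).ncard ≤
        {j | j ∈ J a ∧ ∀ y ∈ CB J a b, Commute j y}.ncard := by
      refine Set.ncard_le_ncard_of_injOn (fun p => p.1 * p.2) (fun p hp => ?_) ?_ (Set.toFinite _)
      · exact ⟨(J a).mul_mem (RR_le S h hp.1) hp.2.1, fun y hy =>
          (hCBR y hy _ hp.1).mul_left (DD_comm S h hp.2 hy N).symm⟩
      rintro ⟨r, d⟩ ⟨hr, hd'⟩ ⟨r', d'⟩ ⟨hr', hd''⟩ e
      dsimp only at hr hd' hr' hd'' e
      have e' : r'⁻¹ * r = d' * d⁻¹ := by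
        calc r'⁻¹ * r = r'⁻¹ * (r * d) * d⁻¹ := by group
          _ = d' * d⁻¹ := by rw [e]; group
      have := hRD _ ((RR J a b).mul_mem ((RR J a b).inv_mem hr') hr)
        (e' ▸ (DD J a b).mul_mem hd'' ((DD J a b).inv_mem hd'))
      have e1 : r' = r := inv_mul_eq_one.1 this
      subst e1
      rw [mul_left_cancel e]
    rw [Set.ncard_prod, ← Nat.card_coe_set_eq, ← Nat.card_coe_set_eq] at hle
    change Nat.card (RR J a b) * Nat.card (DD J a b) ≤ _ at hle
    nlinarith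
  set Z0 := RR J a b ⊓ centralizer ({b} : Set G) with hZ0
  have hZ : Nat.card (RR J a b) ≤ 2 * Nat.card Z0 := by
    have hmemZ : ∀ x ∈ RR J a b, (x ∈ Z0 ↔ x * x = 1) := fun x hx => by
      rw [hZ0, mem_inf, mem_centralizer_singleton_iff,
        ← bw_sq S h (show x ∈ Wset J a b by rw [W_eq_RR S h hm]; exact hx)]
      exact ⟨fun h => h.2, fun h => ⟨hx, h⟩⟩
    by_cases hg : ∃ g ∈ RR J a b, g ∉ Z0
    swap
    · push Not at hg
      have := Nat.card_le_card_of_injective _ (Subgroup.inclusion_injective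
        (show RR J a b ≤ Z0 from hg))
      omega
    obtain ⟨g, hgR, hgZ⟩ := hg
    have hsub : (RR J a b : Set G) ⊆ (Z0 : Set G) ∪ (fun y => g * y) '' (Z0 : Set G) := by
      intro y hy
      by_cases hyZ : y ∈ Z0
      · exact Or.inl hyZ
      refine Or.inr ⟨g⁻¹ * y, ?_, mul_inv_cancel_left g y⟩
      have hgy := (RR J a b).mul_mem ((RR J a b).inv_mem hgR) hy
      show g⁻¹ * y ∈ Z0
      rw [hmemZ _ hgy]
      have e1 : g * g = a := ((C.squares g (RR_le S h hgR))).resolve_left fun e =>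
        hgZ ((hmemZ g hgR).2 e)
      have e2 : y * y = a := ((C.squares y (RR_le S h hy))).resolve_left fun e =>
        hyZ ((hmemZ y hy).2 e)
      rw [(RR_comm S h y hy g⁻¹ ((RR J a b).inv_mem hgR)).mul_mul_mul_comm, e2,
        ← mul_inv_rev, e1, inv_mul_cancel]
    have := (Set.ncard_le_ncard hsub (Set.toFinite _)).trans (Set.ncard_union_le _ _)
    rw [Set.ncard_image_of_injective _ (mul_right_injective g), ← Nat.card_coe_set_eq,
      ← Nat.card_coe_set_eq] at this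
    change Nat.card (RR J a b) ≤ Nat.card Z0 + Nat.card Z0 at this
    omega
  have hZC : Z0 ≤ CB J a b := fun x hx =>
    mem_CB.2 ⟨RR_le S h hx.1, mem_centralizer_singleton_iff.1 hx.2⟩
  have hbig : 32 ≤ Nat.card P → Nat.card Z0 ≤ 2 := by
    intro h32
    have hcz : ∀ x ∈ Z0, Commute x b := fun x hx => (mem_CB.1 (hZC hx)).2
    obtain ⟨E, hE, hEc⟩ := SetupC.card_image S h.2.1 hcz
    have hbot : Z0 ⊓ J b = ⊥ :=
      (Subgroup.eq_bot_iff_forall _).2 fun x hx => hRD x hx.1.1 ⟨RR_le S h hx.1.1, hx.2⟩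
    rw [hbot, Subgroup.card_bot, one_mul] at hEc
    rw [hEc]
    have hsub : (E : Set U) ⊆ ({1, φ b a} : Set U) := by
      intro p hp
      obtain ⟨x, hx, rfl⟩ := (hE p).1 hp
      refine (hPbig h32).2 _ ((hP _).2 ⟨x, hZC hx, rfl⟩) fun q hq => ?_
      obtain ⟨j, hj, rfl⟩ := (hP q).1 hq
      have hjb := (mem_CB.1 hj).2
      show _ = _
      rw [← (S.ctx b h.2.1).hom _ _ (hcz x hx) hjb, ← (S.ctx b h.2.1).hom _ _ hjb (hcz x hx),
        (hCBR j hj x hx.1).eq]
    have := Set.ncard_le_ncard hsub (Set.toFinite _)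
    rw [← Nat.card_coe_set_eq] at this
    exact this.trans ((Set.ncard_insert_le _ _).trans (by rw [Set.ncard_singleton]))
  have hpos := Nat.card_pos (α := DD J a b)
  rcases card_RR_cases S h N with e | e | e | e <;> rw [e] at hWC hK hZ
  · exfalso; nlinarith
  · exfalso
    have hc : Nat.card (CB J a b) = 64 := by omega
    rw [hc] at hcard
    have := hbig (by nlinarith)
    omega
  · exfalso
    have hc : Nat.card (CB J a b) = 32 := by omega
    rw [hc] at hcard
    rcases (show Nat.card (DD J a b) = 1 ∨ Nat.card (DD J a b) = 2 by omega) with e1 | e2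
    · rw [e1, one_mul] at hcard
      have := hbig hcard.le
      omega
    set Zc := CB J a b ⊓ centralizer ((CB J a b : Subgroup G) : Set G) with hZc
    have hZle : Z0 ≤ Zc := fun x hx => ⟨hZC hx, fun y hy => ((hCBR y hy x hx.1).symm).eq⟩
    obtain ⟨d, hd, hd1⟩ : ∃ d ∈ DD J a b, d ≠ 1 := by
      by_contra hne
      push Not at hne
      rw [(Subgroup.eq_bot_iff_forall _).2 hne, Subgroup.card_bot] at e2
      omega
    have hdc : d ∈ Zc := ⟨DD_le_CB S h hd, fun y hy => (DD_comm S h hd hy N).eq⟩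
    have h16 := two_mul_le_card hZle hdc fun hdZ => hd1 (hRD d hdZ.1 hd)
    have hab : ∀ x ∈ CB J a b, ∀ y ∈ CB J a b, Commute x y := by
      intro x hx y hy
      by_cases hxc : x ∈ Zc
      · exact (hxc.2 y hy).symm
      set M := CB J a b ⊓ centralizer ({x} : Set G) with hM
      have hle : Zc ≤ M := fun w hw =>
        ⟨hw.1, mem_centralizer_singleton_iff.2 (hw.2 x hx).symm⟩
      have h32 := two_mul_le_card hle
        (show x ∈ M from ⟨hx, mem_centralizer_singleton_iff.2 rfl⟩) hxc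
      have htop : M = CB J a b := Subgroup.eq_of_le_of_card_ge inf_le_left (by omega)
      rw [← htop] at hy
      exact (mem_centralizer_singleton_iff.1 hy.2 : Commute y x).symm
    have hself := (SetupC.abelian_bound C inf_le_left (mem_CB.2 ⟨C.mem, h.2.2.2⟩) hab).2 hc
    refine not_sixteen S h (fun w hw => (bw_sq S h hw).1 ?_) e
    exact (mem_CB.1 (hself w (S.W_sub h hw) fun y hy => hCBR y hy w (W_mem_RR hw))).2
  · have hc : Nat.card (CB J a b) = 16 := by omega
    have hKR : KK J a b = RR J a b :=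
      (Subgroup.eq_of_le_of_card_ge (RR_le_KK S h) (by omega)).symm
    have hCR : CB J a b ≤ RR J a b := hKR ▸ CB_le_KK S h
    have hD1 : Nat.card (DD J a b) = 1 := by
      rw [(Subgroup.eq_bot_iff_forall _).2 fun x hx => hRD x (hCR (DD_le_CB S h hx)) hx,
        Subgroup.card_bot]
    refine ⟨e, hKR, ⟨P, hP, hcard, ?_, ?_⟩, Or.inl ⟨hm, hc⟩⟩
    · refine elem_image S h hP (fun x hx y hy => RR_comm S h x (hCR hx) y (hCR hy)) fun x hx => ?_
      exact (bw_sq S h (show x ∈ Wset J a b by rw [W_eq_RR S h hm]; exact hCR hx)).1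
        (mem_CB.1 hx).2
    · rw [hc, hD1] at hcard
      exact Or.inr (by omega)

theorem shape : GoodB T J φ a b ∨ BadB J φ a b := by
  by_cases hm : a ∈ Wset J a b
  · exact Or.inr (shape_mem S N h hm)
  · exact shape_notMem S N h hm

end PairB

end Cfsg.Agent.U62From98
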