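import Cfsg.Agent.Lib.U62From98Basic

/-!
The good pairs at an involution: the four lifts of a transvection, their commutator spaces in the
extraspecial group, and the equivalence of commuting lifts with commuting images (helper79).
-/

set_option autoImplicit false
set_option linter.unusedSectionVars false
set_option linter.style.haveILetI false

namespace Cfsg.Agent.U62From98

open Subgroup

universe u v

variable {G : Type u} [Group G] {U : Type v} [Group U]
variable {z : G} {Ω : Set G} {T : Set U} {J : G → Subgroup G} {φ : G → G → U}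

/-- A pair whose image is a transvection. -/
def TPair (Ω : Set G) (T : Set U) (φ : G → G → U) (a b : G) : Prop :=
  Pair Ω a b ∧ φ a b ∈ T

theorem wset_one (a b : G) : (1 : G) ∈ Wset J a b := ⟨1, (J a).one_mem, by group⟩

namespace SetupC

variable (S : Sys z Ω T J φ) (N : NoJ Ω J) (P : PairFacts Ω T J φ)
include S

/-- The element of `Wset` attached to an element of `J a`. -/
theorem wval_mem {a b j : G} (hb : b ∈ Ω) (hj : j ∈ J a) :
    b * (j * b * j⁻¹) ∈ Wset J a b :=
  ⟨j, hj, by rw [← mul_assoc b b, S.sq hb, one_mul]⟩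

theorem conj_wset {a b w h : G} (ha : a ∈ Ω) (hh : Commute h a) (hw : w ∈ Wset J a b) :
    h * w * h⁻¹ ∈ Wset J a (h * b * h⁻¹) := by
  obtain ⟨j, hj, e⟩ := hw
  refine ⟨h * j * h⁻¹, (S.ctx a ha).normal h hh j hj, ?_⟩
  calc h * j * h⁻¹ * (h * b * h⁻¹) * (h * j * h⁻¹)⁻¹ = h * (j * b * j⁻¹) * h⁻¹ := by group
    _ = h * b * h⁻¹ * (h * w * h⁻¹) := by rw [e]; group

include N P

theorem good {a b : G} (h : TPair Ω T φ a b) : GoodFacts Ω T J φ a b := P.good a b h.1 h.2

theorem tpair_symm {a b : G} (h : TPair Ω T φ a b) : TPair Ω T φ b a :=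
  ⟨S.pair_symm h.1, (good S N P h).symm⟩

theorem tpair_mul {a b w : G} (h : TPair Ω T φ a b) (hw : w ∈ Wset J a b) :
    TPair Ω T φ a (b * w) := ⟨S.pair_mul h.1 hw, by rw [S.phi_mul_W h.1 hw]; exact h.2⟩

theorem tpair_conj {a b h : G} (hp : TPair Ω T φ a b) (hh : Commute h a) :
    TPair Ω T φ a (h * b * h⁻¹) := by
  refine ⟨S.pair_move hp.1 hh, ?_⟩
  rw [(S.ctx a hp.1.1).phi_conj hh hp.1.2.2.2.symm]
  exact S.facts.conj_T _ hp.2 _

/-- The fibre of a transvection: the `Wset` translates. -/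
theorem fibre_eq {a b y : G} (h : TPair Ω T φ a b) (hy : Pair Ω a y) (he : φ a y = φ a b) :
    ∃ w ∈ Wset J a b, y = b * w :=
  (good S N P h).fibre y hy.2.1 hy.2.2.2.symm he

/-- Two nontrivial members of `Wset` multiply to the third times `a`. -/
theorem exists_third {a b w w' : G} (h : TPair Ω T φ a b) (hw : w ∈ Wset J a b)
    (hw' : w' ∈ Wset J a b) (h1 : w ≠ 1) (h1' : w' ≠ 1) (hne : w ≠ w') :
    ∃ u ∈ Wset J a b, u ≠ 1 ∧ w ≠ u ∧ w' ≠ u ∧ w * w' = a * u ∧
      Wset J a b = {1, w, w', u} := by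
  have F := good S N P h
  have hsub : ({1, w, w'} : Set G) ⊆ Wset J a b := by
    rintro x (rfl | rfl | rfl)
    exacts [wset_one a b, hw, hw']
  have h3 : ({1, w, w'} : Set G).ncard = 3 :=
    Set.ncard_eq_three.2 ⟨1, w, w', h1.symm, h1'.symm, hne, rfl⟩
  have hfin : (Wset J a b).Finite := Set.finite_of_ncard_ne_zero (by rw [F.cardW]; norm_num)
  obtain ⟨u, hu⟩ : (Wset J a b \ ({1, w, w'} : Set G)).Nonempty := by
    rw [Set.sdiff_nonempty]
    intro hle
    have := Set.ncard_le_ncard hle (Set.toFinite _)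
    rw [F.cardW, h3] at this
    omega
  obtain ⟨hu, hun⟩ := hu
  simp only [Set.mem_insert_iff, Set.mem_singleton_iff, not_or] at hun
  have e := F.three w hw w' hw' u hu h1 h1' hun.1 hne (Ne.symm hun.2.1) (Ne.symm hun.2.2)
  refine ⟨u, hu, hun.1, Ne.symm hun.2.1, Ne.symm hun.2.2, ?_, ?_⟩
  · calc w * w' = w * w' * (u * u) := by rw [(F.inv u hu).1, mul_one]
      _ = w * w' * u * u := by group
      _ = a * u := by rw [e]
  · refine (Set.eq_of_subset_of_ncard_le ?_ ?_ hfin).symm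
    · rintro x (rfl | rfl | rfl | rfl)
      exacts [wset_one a b, hw, hw', hu]
    · rw [F.cardW, show ({1, w, w', u} : Set G) = insert u {1, w, w'} by ext; simp; tauto,
        Set.ncard_insert_of_notMem (by simp [hun]) (Set.toFinite _), h3]

theorem mul_ne {a b w w' : G} (h : TPair Ω T φ a b) (hw : w ∈ Wset J a b)
    (hw' : w' ∈ Wset J a b) : w * w' ≠ a := by
  have F := good S N P h
  intro e
  rcases eq_or_ne w 1 with rfl | h1
  · rw [one_mul] at e
    exact F.notMem (e ▸ hw')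
  rcases eq_or_ne w' 1 with rfl | h1'
  · rw [mul_one] at e
    exact F.notMem (e ▸ hw)
  rcases eq_or_ne w w' with rfl | hne
  · rw [(F.inv w hw).1] at e
    exact (S.ctx a h.1.1).ne_one e.symm
  obtain ⟨u, -, hu1, -, -, e', -⟩ := exists_third S N P h hw hw' h1 h1' hne
  rw [e] at e'
  exact hu1 (mul_eq_left.1 e'.symm)

theorem ne_mul {a b w w' : G} (h : TPair Ω T φ a b) (hw : w ∈ Wset J a b)
    (hw' : w' ∈ Wset J a b) : a * w ≠ w' := fun e => by
  refine mul_ne S N P h hw' hw ?_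
  rw [← e, mul_assoc, ((good S N P h).inv w hw).1, mul_one]

theorem wset_comm {a b w w' : G} (h : TPair Ω T φ a b) (hw : w ∈ Wset J a b)
    (hw' : w' ∈ Wset J a b) : Commute w w' :=
  (good S N P h).cent w' hw' w (S.W_sub h.1 hw) ((good S N P h).inv w hw).2

/-- Off `a`, the elements of `J a ∩ J b` are the translates of `Wset`. -/
theorem mul_mem_D {a b w : G} (h : TPair Ω T φ a b) (hw : w ∈ Wset J a b) (h1 : w ≠ 1) :
    a * w ∈ J b := by
  classical
  have F := good S N P h
  set Ds : Set G := {d | d ∈ J a ∧ d ∈ J b} \ {1} with hDs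
  have hW : (Wset J a b).Finite := Set.finite_of_ncard_ne_zero (by rw [F.cardW]; norm_num)
  have himg : (fun d => a * d) '' Ds ⊆ Wset J a b \ {1} := by
    rintro _ ⟨d, ⟨⟨hda, hdb⟩, hd1⟩, rfl⟩
    refine ⟨F.inter d hda hdb hd1, fun e => ?_⟩
    have hd : d = a := by
      rw [Set.mem_singleton_iff] at e
      rw [← (S.ctx a h.1.1).a_inv, eq_inv_iff_mul_eq_one, ← (S.ctx a h.1.1).a_comm hda]
      exact e
    exact N b a (S.pair_symm h.1) (hd ▸ hdb)
  have hcard : ((fun d => a * d) '' Ds).ncard = 3 := by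
    rw [Set.ncard_image_of_injective _ (mul_right_injective a), hDs,
      Set.ncard_sdiff_singleton_of_mem
        (show (1 : G) ∈ {d | d ∈ J a ∧ d ∈ J b} from ⟨(J a).one_mem, (J b).one_mem⟩), F.cardD]
  have heq := Set.eq_of_subset_of_ncard_le himg (by
    rw [Set.ncard_sdiff_singleton_of_mem (wset_one a b), F.cardW, hcard]) hW.sdiff
  have hmem : w ∈ (fun d => a * d) '' Ds := by rw [heq]; exact ⟨hw, h1⟩
  obtain ⟨d, hd, rfl⟩ := hmem
  simpa [← mul_assoc, S.sq h.1.1] using hd.1.2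

theorem phi_w {a b w : G} (h : TPair Ω T φ a b) (hw : w ∈ Wset J a b) (h1 : w ≠ 1) :
    φ b w = φ b a := by
  have C := S.ctx b h.1.2.1
  have hd := mul_mem_D S N P h hw h1
  have ha : Commute a b := h.1.2.2.2
  have e : φ b (a * (a * w)) = φ b a := C.phi_mul_J ha hd
  rwa [← mul_assoc, S.sq h.1.1, one_mul] at e

variable [Finite G]

/-- An element of `J a` centralizes `b` when it centralizes `Wset`. -/
theorem cent_iff {a b j : G} (h : TPair Ω T φ a b) (hj : j ∈ J a) :
    Commute j b ↔ ∀ w ∈ Wset J a b, Commute j w := by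
  classical
  have F := good S N P h
  refine ⟨fun hc w hw => F.cent w hw j hj hc, fun hc => ?_⟩
  have C := S.ctx a h.1.1
  set A := RR J a b with hA
  have hle : A ≤ J a := (closure_le _).2 (Set.insert_subset C.mem fun w hw => S.W_sub h.1 hw)
  have hsub : Wset J a b ∪ (fun w => a * w) '' Wset J a b ⊆ (A : Set G) := by
    rintro x (hx | ⟨w, hw, rfl⟩)
    · exact subset_closure (Set.mem_insert_of_mem _ hx)
    · exact A.mul_mem (subset_closure (Set.mem_insert _ _))
        (subset_closure (Set.mem_insert_of_mem _ hw))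
  have h8 : 8 ≤ Nat.card A := by
    have e : (Wset J a b ∪ (fun w => a * w) '' Wset J a b).ncard = 8 := by
      rw [Set.ncard_union_eq ?_ (Set.toFinite _) (Set.toFinite _),
        Set.ncard_image_of_injective _ (mul_right_injective a), F.cardW]
      rw [Set.disjoint_right]
      rintro _ ⟨w, hw, rfl⟩ hx
      exact ne_mul S N P h hw hx rfl
    rw [← Nat.card_coe_set_eq] at e
    rw [← e, ← SetLike.coe_sort_coe]
    exact Nat.card_le_card_of_injective _ (Set.inclusion_injective hsub)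
  have hd := C.dual (A := A) hle (subset_closure (Set.mem_insert _ _))
  have hall : ∀ i ∈ J a, (∀ w ∈ Wset J a b, Commute i w) → ∀ y ∈ A, Commute i y := by
    intro i hi hiw y hy
    induction hy using Subgroup.closure_induction with
    | mem y hy => rcases hy with rfl | hy
                  · exact C.le i hi
                  · exact hiw y hy
    | one => exact Commute.one_right _
    | mul _ _ _ _ h1 h2 => exact h1.mul_right h2
    | inv _ _ h1 => exact h1.inv_right
  have hsub2 : {i | i ∈ J a ∧ Commute i b} ⊆ {i | i ∈ J a ∧ ∀ y ∈ A, Commute i y} :=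
    fun i hi => ⟨hi.1, hall i hi.1 fun w hw => F.cent w hw i hi.1 hi.2⟩
  have heq := Set.eq_of_subset_of_ncard_le hsub2 (by rw [F.cardC]; nlinarith) (Set.toFinite _)
  have : j ∈ {i | i ∈ J a ∧ Commute i b} := by rw [heq]; exact ⟨hj, hall j hj hc⟩
  exact this.2

/-- The value of the commutator map is determined by one commuting nontrivial member. -/
theorem wval_eq {a b j v : G} (h : TPair Ω T φ a b) (hj : j ∈ J a) (hv : v ∈ Wset J a b)
    (hv1 : v ≠ 1) (hjv : Commute j v) :
    b * (j * b * j⁻¹) = 1 ∨ b * (j * b * j⁻¹) = v := by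
  have F := good S N P h
  have C := S.ctx a h.1.1
  set u := b * (j * b * j⁻¹) with hu_def
  have hu : u ∈ Wset J a b := wval_mem S h.1.2.1 hj
  have hju : Commute j u := by
    have e : j * b * j⁻¹ = b * u := by rw [hu_def, ← mul_assoc b b, S.sq h.1.2.1, one_mul]
    have hjj : j * j * b * (j * j)⁻¹ = b := by
      rcases C.squares j hj with h2 | h2 <;> rw [h2]
      · group
      · rw [h.1.2.2.2.eq, mul_inv_cancel_right]
    have : b * u * (j * u * j⁻¹) = b := by
      calc b * u * (j * u * j⁻¹) = j * b * j⁻¹ * (j * u * j⁻¹) := by rw [e]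
        _ = j * (b * u) * j⁻¹ := by group
        _ = j * j * b * (j * j)⁻¹ := by rw [← e]; group
        _ = b := hjj
    have h3 : j * u * j⁻¹ = u := by
      calc j * u * j⁻¹ = u⁻¹ * (b⁻¹ * (b * u * (j * u * j⁻¹))) := by group
        _ = u⁻¹ * (b⁻¹ * b) := by rw [this]
        _ = u := by rw [inv_mul_cancel, mul_one, inv_eq_of_mul_eq_one_right (F.inv u hu).1]
    show j * u = u * j
    exact mul_inv_eq_iff_eq_mul.1 h3
  by_contra hcon
  push Not at hcon
  obtain ⟨w, hw, -, -, -, e, hW⟩ := exists_third S N P h hu hv hcon.1 hv1 hcon.2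
  have hjw : Commute j w := by
    have e' : w = a * (u * v) := by rw [e, ← mul_assoc, S.sq h.1.1, one_mul]
    rw [e']
    exact (C.le j hj).mul_right (hju.mul_right hjv)
  refine hcon.1 ?_
  have hjb : Commute j b := (cent_iff S N P h hj).2 fun x hx => by
    rw [hW] at hx
    rcases hx with rfl | rfl | rfl | rfl
    exacts [Commute.one_right _, hju, hjv, hjw]
  rw [hu_def, hjb.eq, mul_inv_cancel_right, S.sq h.1.2.1]

/-- The image at `b` of the centralizer of `b` in `J a`. -/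
theorem exists_square_group {a b : G} (h : TPair Ω T φ a b) :
    ∃ Q : Subgroup U, (∀ p, p ∈ Q ↔ ∃ j ∈ J a, Commute j b ∧ φ b j = p) ∧
      (∀ t ∈ T, t ∈ Q → t = φ b a) ∧
      ∀ g : U, Commute g (φ b a) → (∀ p ∈ Q, g * p * g⁻¹ = p ∨ g * p * g⁻¹ = φ b a * p) →
        g ∈ Q := by
  classical
  haveI : Fintype G := Fintype.ofFinite G
  have F := good S N P h
  have Ca := S.ctx a h.1.1
  have Cb := S.ctx b h.1.2.1
  let Q : Subgroup U := ((J a).subgroupOf (centralizer ({b} : Set G))).map Cb.phiHom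
  have hmem : ∀ p, p ∈ Q ↔ ∃ j ∈ J a, Commute j b ∧ φ b j = p := by
    intro p
    constructor
    · rintro ⟨j, hj, rfl⟩
      exact ⟨j, hj, mem_centralizer_singleton_iff.1 j.2, rfl⟩
    · rintro ⟨j, hj, hc, rfl⟩
      exact ⟨⟨j, mem_centralizer_singleton_iff.2 hc.eq⟩, hj, rfl⟩
  have hUf : Finite U := Nat.finite_of_card_ne_zero (by rw [S.facts.card]; norm_num)
  have h32 : 32 ≤ Nat.card Q := by
    set Cs : Finset G := Finset.univ.filter fun j => j ∈ J a ∧ Commute j b with hCs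
    have hCc : Cs.card = 128 := by
      rw [← F.cardC, ← Set.ncard_coe_finset]; congr 1; ext j; simp [hCs]
    have hle : Cs.card ≤ 4 * (Cs.image (φ b)).card := by
      refine Finset.card_le_mul_card_image _ _ fun p hp => ?_
      obtain ⟨k, hk, rfl⟩ := Finset.mem_image.1 hp
      have hk' := (Finset.mem_filter.1 hk).2
      rw [← F.cardD, ← Set.ncard_coe_finset]
      refine Set.ncard_le_ncard_of_injOn (fun j => k⁻¹ * j) (fun j hj => ?_)
        (fun i _ j _ e => mul_left_cancel e) (Set.toFinite _)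
      obtain ⟨hjs, hje⟩ := Finset.mem_filter.1 hj
      have hj' := (Finset.mem_filter.1 hjs).2
      exact ⟨(J a).mul_mem ((J a).inv_mem hk'.1) hj'.1,
        (Cb.phi_eq_iff hk'.2 hj'.2).1 hje.symm⟩
    have hQ : (↑(Cs.image (φ b)) : Set U) ⊆ (Q : Set U) := by
      intro p hp
      obtain ⟨j, hj, rfl⟩ := Finset.mem_image.1 hp
      exact (hmem _).2 ⟨j, (Finset.mem_filter.1 hj).2.1, (Finset.mem_filter.1 hj).2.2, rfl⟩
    have hQc := Set.ncard_le_ncard hQ (Set.toFinite _)
    rw [Set.ncard_coe_finset, ← Nat.card_coe_set_eq] at hQc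
    have hQc' : (Cs.image (φ b)).card ≤ Nat.card Q := hQc
    omega
  have hab : Commute a b := h.1.2.2.2
  have hcom : ∀ p ∈ Q, Commute p (φ b a) := by
    intro p hp
    obtain ⟨j, hj, hc, rfl⟩ := (hmem p).1 hp
    show _ = _
    rw [← Cb.hom _ _ hc hab, ← Cb.hom _ _ hab hc, (Ca.le j hj).eq]
  have hsq : ∀ p ∈ Q, p * p = 1 ∨ p * p = φ b a := by
    intro p hp
    obtain ⟨j, hj, hc, rfl⟩ := (hmem p).1 hp
    rw [← Cb.hom _ _ hc hc]
    rcases Ca.squares j hj with e | e <;> rw [e]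
    · exact Or.inl Cb.phi_one
    · exact Or.inr rfl
  obtain ⟨-, -, h2, -, h4⟩ := S.facts.squares Q (φ b a) (S.phi_sq (S.pair_symm h.1))
    (S.phi_ne_one N (S.pair_symm h.1)) ((hmem _).2 ⟨a, Ca.mem, hab, rfl⟩) hcom hsq h32
  exact ⟨Q, hmem, h2, h4⟩

/-- Commuting transvections have disjoint commutator spaces. -/
theorem not_share_comm {a x y w w' : G} (hx : TPair Ω T φ a x) (hy : TPair Ω T φ a y)
    (hc : Commute (φ a x) (φ a y)) (hne : φ a x ≠ φ a y) (hw : w ∈ Wset J a x) (h1 : w ≠ 1)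
    (hw' : w' ∈ Wset J a y) (h1' : w' ≠ 1) (he : w = w' ∨ w = a * w') : False := by
  have Ca := S.ctx a hx.1.1
  have Cx := S.ctx x hx.1.2.1
  have Fx := good S N P hx
  have Fy := good S N P hy
  have hax : Commute a x := hx.1.2.2.2
  obtain ⟨g, hga, hgx, hgφ⟩ := S.exists_lift hx.1 Fx.fibre hc.symm
  have hya : Commute y a := hy.1.2.2.2.symm
  have hj₀ : y⁻¹ * g ∈ J a := (Ca.phi_eq_iff hya hga).1 hgφ.symm
  set c := φ x a with hc_def
  have hcc : c * c = 1 := S.phi_sq (S.pair_symm hx.1)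
  have hφw : φ x w = c := phi_w S N P hx hw h1
  have hwx : Commute w x := (Fx.inv w hw).2
  have hww' : w' = w ∨ w' = a * w := by
    rcases he with rfl | rfl
    · exact Or.inl rfl
    · exact Or.inr (by rw [← mul_assoc, S.sq hx.1.1, one_mul])
  have hφw' : Commute w' x ∧ (φ x w' = c ∨ φ x w' = 1) := by
    rcases hww' with rfl | rfl
    · exact ⟨hwx, Or.inl hφw⟩
    · exact ⟨hax.mul_left hwx, Or.inr (by rw [Cx.hom _ _ hax hwx, hφw, ← hc_def, hcc])⟩
  have key : ∀ j ∈ J a, Commute j x →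
      φ x (g * j * g⁻¹) = φ x j ∨ φ x (g * j * g⁻¹) = c * φ x j := by
    intro j hj hjx
    have hjw : Commute j w' := by
      rcases hww' with e | e <;> rw [e]
      · exact Fx.cent w hw j hj hjx
      · exact (Ca.le j hj).mul_right (Fx.cent w hw j hj hjx)
    have hu := wval_eq S N P hy hj hw' h1' hjw
    have hyjy : y * j * y = y * (j * y * j⁻¹) * j := by group
    have e1 : y * j * y = j ∨ y * j * y = w' * j := by
      rcases hu with e | e <;> rw [hyjy, e]
      · exact Or.inl (one_mul j)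
      · exact Or.inr rfl
    have e2 : g * j * g⁻¹ = y * ((y⁻¹ * g) * j * (y⁻¹ * g)⁻¹) * y⁻¹ := by group
    have e3 : g * j * g⁻¹ = y * j * y ∨ g * j * g⁻¹ = a * (y * j * y) := by
      have hyi : y⁻¹ = y := S.inv_eq hy.1.2.1
      rw [e2]
      rcases Ca.comm _ hj₀ j hj with h' | h'
      · refine Or.inl ?_
        rw [h', mul_inv_cancel_right, hyi]
      · refine Or.inr ?_
        rw [h', ← mul_assoc a, mul_inv_cancel_right, hyi, ← mul_assoc y a j, hya.eq]
        group
    have hmem : Commute (y * j * y) x ∧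
        (φ x (y * j * y) = φ x j ∨ φ x (y * j * y) = c * φ x j) := by
      rcases e1 with e | e <;> rw [e]
      · exact ⟨hjx, Or.inl rfl⟩
      · refine ⟨hφw'.1.mul_left hjx, ?_⟩
        rw [Cx.hom _ _ hφw'.1 hjx]
        rcases hφw'.2 with e' | e' <;> rw [e']
        · exact Or.inr rfl
        · exact Or.inl (one_mul _)
    rcases e3 with e | e <;> rw [e]
    · exact hmem.2
    · rw [Cx.hom _ _ hax hmem.1, ← hc_def]
      rcases hmem.2 with e' | e' <;> rw [e']
      · exact Or.inr rfl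
      · exact Or.inl (by rw [← mul_assoc, hcc, one_mul])
  obtain ⟨Q, hQ, -, hQn⟩ := exists_square_group S N P hx
  have hgQ : φ x g ∈ Q := by
    refine hQn _ ?_ fun p hp => ?_
    · show _ = _
      rw [← Cx.hom _ _ hgx hax, ← Cx.hom _ _ hax hgx, hga.eq]
    · obtain ⟨j, hj, hjx, rfl⟩ := (hQ p).1 hp
      rw [← Cx.phi_conj hgx hjx]
      exact key j hj hjx
  obtain ⟨j, hj, hjx, hjφ⟩ := (hQ _).1 hgQ
  have hk : j⁻¹ * g ∈ J x := (Cx.phi_eq_iff hjx hgx).1 hjφ
  have hka : Commute (j⁻¹ * g) a := (Ca.le j hj).inv_left.mul_left hga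
  have hφk : φ a (j⁻¹ * g) = φ a y := by
    rw [Ca.hom _ _ (Ca.le j hj).inv_left hga, Ca.phi_inv (Ca.le j hj),
      (Ca.ker j (Ca.le j hj)).2 hj, inv_one, one_mul, hgφ]
  obtain ⟨R, hR, hRT, -⟩ := exists_square_group S N P (tpair_symm S N P hx)
  exact hne (hRT _ hy.2 ((hR _).2 ⟨_, hk, hka, hφk⟩)).symm

/-- Lifts of commuting transvections commute. -/
theorem comm_of_images {a x y : G} (hx : TPair Ω T φ a x) (hy : TPair Ω T φ a y)
    (hc : Commute (φ a x) (φ a y)) : Commute x y := by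
  have Ca := S.ctx a hx.1.1
  have hya : Commute y a := hy.1.2.2.2.symm
  have hxa : Commute x a := hx.1.2.2.2.symm
  by_cases he : φ a x = φ a y
  · obtain ⟨w, hw, rfl⟩ := fibre_eq S N P hx hy.1 he.symm
    exact (Commute.refl x).mul_right ((good S N P hx).inv w hw).2.symm
  have h1 := S.pair_move hx.1 hya
  have h2 := S.pair_move hy.1 hxa
  obtain ⟨w, hw, ew⟩ := fibre_eq S N P hx h1 (by
    rw [Ca.phi_conj hya hxa, hc.symm.eq, mul_inv_cancel_right])
  obtain ⟨w', hw', ew'⟩ := fibre_eq S N P hy h2 (by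
    rw [Ca.phi_conj hxa hya, hc.eq, mul_inv_cancel_right])
  have hxi : x⁻¹ = x := S.inv_eq hx.1.2.1
  have hyi : y⁻¹ = y := S.inv_eq hy.1.2.1
  rw [hyi] at ew
  rw [hxi] at ew'
  have hw1 : w = 1 := by
    by_contra hw1
    have e1 : w = x * (y * x * y) := by rw [ew, ← mul_assoc, S.sq hx.1.2.1, one_mul]
    have e2 : w' = y * (x * y * x) := by rw [ew', ← mul_assoc, S.sq hy.1.2.1, one_mul]
    have e3 : w' = w⁻¹ := by rw [e1, e2]; simp [hxi, hyi, mul_assoc]
    rw [inv_eq_of_mul_eq_one_right ((good S N P hx).inv w hw).1] at e3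
    exact not_share_comm S N P hx hy hc he hw hw1 hw' (e3 ▸ hw1) (Or.inl e3.symm)
  rw [hw1, mul_one] at ew
  show x * y = y * x
  calc x * y = y * x * y * y := by rw [ew]
    _ = y * x := by rw [mul_assoc (y * x), S.sq hy.1.2.1, mul_one]

/-- Lifts of commuting transvections centralize each other's commutator spaces. -/
theorem comm_wset {a x y w : G} (hx : TPair Ω T φ a x) (hy : TPair Ω T φ a y)
    (hc : Commute (φ a x) (φ a y)) (hw : w ∈ Wset J a x) : Commute y w := by
  have h1 := comm_of_images S N P hx hy hc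
  have h2 := comm_of_images S N P (tpair_mul S N P hx hw) hy (by rwa [S.phi_mul_W hx.1 hw])
  have e : w = x * (x * w) := by rw [← mul_assoc, S.sq hx.1.2.1, one_mul]
  rw [e]
  exact h1.symm.mul_right h2.symm

/-- Every transvection has lifts at every member of `Ω`. -/
theorem exists_tpair {a₀ b₀ a : G} (h₀ : Pair Ω a₀ b₀) (ha : a ∈ Ω) {t : U} (ht : t ∈ T) :
    ∃ y, TPair Ω T φ a y ∧ φ a y = t := by
  obtain ⟨a', b', h', hT'⟩ := P.exists_good a₀ b₀ h₀
  obtain ⟨g, rfl⟩ := S.exists_conj h'.1 ha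
  have h'' := S.pair_conj h' g
  have hT'' : φ (g * a' * g⁻¹) (g * b' * g⁻¹) ∈ T := (S.T_iff h'.1 g h'.2.2.2.symm).2 hT'
  obtain ⟨u, hu⟩ := S.facts.trans _ hT'' _ ht
  have C := S.ctx _ ha
  obtain ⟨h, hh, rfl⟩ := C.surj u
  refine ⟨h * (g * b' * g⁻¹) * h⁻¹, tpair_conj S N P ⟨h'', hT''⟩ hh, ?_⟩
  rw [C.phi_conj hh h''.2.2.2.symm, hu]

/-- Distinct transvections have disjoint commutator spaces. -/
theorem not_share {a x y w w' : G} (hx : TPair Ω T φ a x) (hy : TPair Ω T φ a y)
    (hne : φ a x ≠ φ a y) (hw : w ∈ Wset J a x) (h1 : w ≠ 1)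
    (hw' : w' ∈ Wset J a y) (h1' : w' ≠ 1) (he : w = w' ∨ w = a * w') : False := by
  by_cases hc : Commute (φ a x) (φ a y)
  · exact not_share_comm S N P hx hy hc hne hw h1 hw' h1' he
  have Ca := S.ctx a hx.1.1
  obtain ⟨c₁, hc₁, c₂, hc₂, hb₁, hb₂, hca, hcn⟩ := S.facts.hop _ hx.2 _ hy.2 hc
  obtain ⟨y₁, hy₁, rfl⟩ := exists_tpair S N P hx.1 hx.1.1 hc₁
  obtain ⟨y₂, hy₂, rfl⟩ := exists_tpair S N P hx.1 hx.1.1 hc₂
  have ha1 : Commute y₁ a := hy₁.1.2.2.2.symm
  have ha2 : Commute y₂ a := hy₂.1.2.2.2.symm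
  set g := y₂ * y₁ with hg_def
  have hga : Commute g a := ha2.mul_left ha1
  have hgw' : Commute g w' :=
    (comm_wset S N P hy hy₂ hb₂.symm hw').mul_left (comm_wset S N P hy hy₁ hb₁.symm hw')
  have hgw : g * w * g⁻¹ = w := by
    rcases he with rfl | rfl
    · rw [hgw'.eq, mul_inv_cancel_right]
    · rw [(hga.mul_right hgw').eq, mul_inv_cancel_right]
  have hx' := tpair_conj S N P hx hga
  have hwx' : w ∈ Wset J a (g * x * g⁻¹) := by
    have := conj_wset S hx.1.1 hga hw
    rwa [hgw] at this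
  have he' : φ a (g * x * g⁻¹) = φ a y₂ * (φ a y₁ * φ a x * φ a y₁) * φ a y₂ := by
    rw [Ca.phi_conj hga hx.1.2.2.2.symm, hg_def, Ca.hom _ _ ha2 ha1]
    simp only [mul_inv_rev]
    rw [inv_eq_of_mul_eq_one_right (S.phi_sq hy₁.1), inv_eq_of_mul_eq_one_right (S.phi_sq hy₂.1)]
    group
  exact not_share_comm S N P hx' hx (by rw [he']; exact hca) (by rw [he']; exact hcn)
    hwx' h1 hw h1 (Or.inl rfl)

end SetupC

end Cfsg.Agent.U62From98
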