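import Cfsg.Agent.Lib.U62From98SetupComm

/-!
The elementary abelian subgroup of order 512 over a maximal elementary abelian subgroup of the
quotient, generated by the lifts of its five transvections (helper79).
-/

set_option autoImplicit false
set_option linter.unusedSectionVars false
set_option linter.style.haveILetI false

namespace Cfsg.Agent.U62From98

open Subgroup

universe u v

variable {G : Type u} [Group G] {U : Type v} [Group U]
variable {z : G} {Ω : Set G} {T : Set U} {J : G → Subgroup G} {φ : G → G → U}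

namespace SetupC

theorem finite_U {T : Set U} (F : UFacts T) : Finite U :=
  Nat.finite_of_card_ne_zero (by rw [F.card]; norm_num)

/-- The products of two commuting transvections form one class. -/
theorem nonT_conj (F : UFacts T) {c c' : U} (hc : c * c = 1) (hc1 : c ≠ 1) (hcT : c ∉ T)
    (hd : c' * c' = 1) (hd1 : c' ≠ 1) (hdT : c' ∉ T) : ∃ g : U, g * c * g⁻¹ = c' := by
  classical
  haveI := finite_U F
  haveI : Fintype U := Fintype.ofFinite U
  set N : Finset U := Finset.univ.filter fun x => x * x = 1 ∧ x ≠ 1 ∧ x ∉ T with hN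
  set K : Finset U := Finset.univ.image fun g : U => g * c * g⁻¹ with hK
  have hKN : K ⊆ N := by
    intro x hx
    obtain ⟨g, -, rfl⟩ := Finset.mem_image.1 hx
    refine Finset.mem_filter.2 ⟨Finset.mem_univ _, ?_, fun e => hc1 (conj_eq_one_iff.1 e),
      fun hT => hcT ?_⟩
    · rw [show g * c * g⁻¹ * (g * c * g⁻¹) = g * (c * c) * g⁻¹ by group, hc]; group
    · have := F.conj_T _ hT g⁻¹
      simpa [mul_assoc] using this
  have hKc : K.card * 96 = 25920 := by
    have key := Finset.card_eq_sum_card_image (fun g : U => g * c * g⁻¹) Finset.univ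
    have hfib : ∀ x ∈ K, (Finset.univ.filter fun g : U => g * c * g⁻¹ = x).card = 96 := by
      intro x hx
      obtain ⟨k, -, rfl⟩ := Finset.mem_image.1 hx
      rw [← (F.other c hc hc1 hcT).1, Nat.card_eq_fintype_card, Fintype.card_subtype]
      refine Finset.card_bij (fun g _ => k⁻¹ * g) (fun g hg => ?_)
        (fun _ _ _ _ e => mul_left_cancel e) fun g hg => ⟨k * g, ?_, inv_mul_cancel_left k g⟩
      · have e := (Finset.mem_filter.1 hg).2
        refine Finset.mem_filter.2 ⟨Finset.mem_univ _, mem_centralizer_singleton_iff.2 ?_⟩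
        calc k⁻¹ * g * c = k⁻¹ * (g * c * g⁻¹) * g := by group
          _ = c * (k⁻¹ * g) := by rw [e]; group
      · have e : g * c = c * g := mem_centralizer_singleton_iff.1 (Finset.mem_filter.1 hg).2
        refine Finset.mem_filter.2 ⟨Finset.mem_univ _, ?_⟩
        calc k * g * c * (k * g)⁻¹ = k * (g * c) * g⁻¹ * k⁻¹ := by group
          _ = k * c * k⁻¹ := by rw [e]; group
    rw [← hK, Finset.sum_congr rfl hfib, Finset.sum_const, smul_eq_mul, Finset.card_univ,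
      ← Nat.card_eq_fintype_card, F.card] at key
    exact key.symm
  have hNc : N.card ≤ 270 := by
    set Ts : Finset U := Finset.univ.filter (· ∈ T) with hTs
    set P : Finset (U × U) :=
      (Ts ×ˢ Ts).filter fun p => p.2 ≠ p.1 ∧ Commute p.2 p.1 with hP
    have hTc : Ts.card = 45 := by
      rw [← F.graph.card, ← Set.ncard_coe_finset]; congr 1; ext t; simp [hTs]
    have hPc : P.card ≤ 12 * 45 := by
      rw [← hTc]
      refine Finset.card_le_mul_card_image_of_maps_to (f := Prod.fst) (fun p hp =>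
        (Finset.mem_product.1 (Finset.mem_filter.1 hp).1).1) _ fun t ht => ?_
      rw [← F.graph.deg t (Finset.mem_filter.1 ht).2, ← Set.ncard_coe_finset]
      refine Set.ncard_le_ncard_of_injOn Prod.snd (fun p hp => ?_) ?_ (Set.toFinite _)
      · obtain ⟨hpP, hpt⟩ := Finset.mem_filter.1 hp
        obtain ⟨hpp, hne, hcm⟩ := Finset.mem_filter.1 hpP
        subst hpt
        exact ⟨(Finset.mem_filter.1 (Finset.mem_product.1 hpp).2).2, hne, hcm⟩
      · intro p hp q hq e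
        exact Prod.ext ((Finset.mem_filter.1 hp).2.trans (Finset.mem_filter.1 hq).2.symm) e
    have hsub : N ⊆ P.image fun p => p.1 * p.2 := by
      intro x hx
      obtain ⟨hxx, hx1, hxT⟩ := (Finset.mem_filter.1 hx).2
      obtain ⟨-, s, hs, t, ht, hst, hcm, rfl⟩ := F.other x hxx hx1 hxT
      exact Finset.mem_image.2 ⟨(s, t), Finset.mem_filter.2
        ⟨Finset.mem_product.2 ⟨by simp [hTs, hs], by simp [hTs, ht]⟩, hst.symm, hcm.symm⟩, rfl⟩
    have h2 : 2 * (P.image fun p => p.1 * p.2).card ≤ P.card := by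
      refine Finset.mul_card_image_le_card P 2 fun x hx => ?_
      obtain ⟨⟨s, t⟩, hp, rfl⟩ := Finset.mem_image.1 hx
      obtain ⟨hp', h1, hcm⟩ := Finset.mem_filter.1 hp
      obtain ⟨hs, ht⟩ := Finset.mem_product.1 hp'
      refine le_trans (Finset.card_pair (a := (s, t)) (b := (t, s))
        (fun e => h1 (congrArg Prod.snd e))).ge (Finset.card_le_card ?_)
      intro q hq
      rcases Finset.mem_insert.1 hq with rfl | hq
      · exact Finset.mem_filter.2 ⟨hp, rfl⟩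
      · rw [Finset.mem_singleton] at hq
        subst hq
        exact Finset.mem_filter.2 ⟨Finset.mem_filter.2 ⟨Finset.mem_product.2 ⟨ht, hs⟩, h1.symm,
          hcm.symm⟩, hcm.eq⟩
    have := Finset.card_le_card hsub
    omega
  have heq : K = N := Finset.eq_of_subset_of_card_le hKN (by omega)
  have hmem : c' ∈ K := by rw [heq]; simp [hN, hd, hd1, hdT]
  obtain ⟨g, -, e⟩ := Finset.mem_image.1 hmem
  exact ⟨g, e⟩

/-- An elementary subgroup of order 16 is generated by its transvections. -/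
theorem sixteen_gen (F : UFacts T) {E : Subgroup U} (hE : Elem2 E) (hEc : Nat.card E = 16)
    {K : Subgroup U} (hK : ∀ t ∈ T, t ∈ E → t ∈ K) : E ≤ K := by
  classical
  haveI := finite_U F
  haveI : Fintype U := Fintype.ofFinite U
  set Ts : Finset U := Finset.univ.filter fun t => t ∈ T ∧ t ∈ E with hTs
  have hTc : Ts.card = 5 := by
    rw [← (F.sixteen E hE hEc).2.1, ← Set.ncard_coe_finset]; congr 1; ext t; simp [hTs]
  set Pr : Finset U := Ts.offDiag.image fun p => p.1 * p.2 with hPr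
  have hPc : 10 ≤ Pr.card := by
    have h := Finset.card_le_mul_card_image (f := fun p : U × U => p.1 * p.2) Ts.offDiag 2
      fun x hx => ?_
    · rw [Finset.offDiag_card, hTc] at h
      rw [hPr]
      omega
    obtain ⟨⟨s, t⟩, hp, rfl⟩ := Finset.mem_image.1 hx
    refine le_trans (Finset.card_le_card (t := {(s, t), (t, s)}) ?_) Finset.card_le_two
    rintro ⟨s', t'⟩ hq
    obtain ⟨hq, e⟩ := Finset.mem_filter.1 hq
    obtain ⟨hs, ht, hst⟩ := Finset.mem_offDiag.1 hp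
    obtain ⟨hs', ht', hst'⟩ := Finset.mem_offDiag.1 hq
    obtain ⟨hs, hsE⟩ := (Finset.mem_filter.1 hs).2
    obtain ⟨ht, htE⟩ := (Finset.mem_filter.1 ht).2
    obtain ⟨hs', hsE'⟩ := (Finset.mem_filter.1 hs').2
    obtain ⟨ht', htE'⟩ := (Finset.mem_filter.1 ht').2
    rcases F.graph.pair s' hs' t' ht' s hs t ht hst' hst (hE.2 _ hsE' _ htE') (hE.2 _ hsE _ htE) e
      with ⟨rfl, rfl⟩ | ⟨rfl, rfl⟩
    · simp
    · simp
  have hPT : ∀ x ∈ Pr, x ≠ 1 ∧ x ∉ T := by
    intro x hx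
    obtain ⟨⟨s, t⟩, hp, rfl⟩ := Finset.mem_image.1 hx
    obtain ⟨hs, ht, hst⟩ := Finset.mem_offDiag.1 hp
    obtain ⟨hs, hsE⟩ := (Finset.mem_filter.1 hs).2
    obtain ⟨ht, htE⟩ := (Finset.mem_filter.1 ht).2
    refine ⟨fun e => hst ?_, F.graph.prod s hs t ht hst (hE.2 _ hsE _ htE)⟩
    calc s = s * (t * t) := by rw [hE.1 t htE, mul_one]
      _ = t := by rw [← mul_assoc, e, one_mul]
  have h1 : (1 : U) ∉ Ts := fun h => F.ne_one 1 (Finset.mem_filter.1 h).2.1 rfl
  have hdis : Disjoint (insert 1 Ts) Pr := by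
    rw [Finset.disjoint_left]
    intro x hx hxP
    rcases Finset.mem_insert.1 hx with rfl | hx
    · exact (hPT _ hxP).1 rfl
    · exact (hPT _ hxP).2 (Finset.mem_filter.1 hx).2.1
  set Es : Finset U := Finset.univ.filter (· ∈ E) with hEs
  have hEsc : Es.card = 16 := by
    rw [← hEc, Nat.card_eq_fintype_card, Fintype.card_subtype]
  have hboth : ∀ x ∈ insert 1 Ts ∪ Pr, x ∈ E ∧ x ∈ K := by
    intro x hx
    rcases Finset.mem_union.1 hx with hx | hx
    · rcases Finset.mem_insert.1 hx with rfl | hx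
      · exact ⟨E.one_mem, K.one_mem⟩
      · obtain ⟨a, b⟩ := (Finset.mem_filter.1 hx).2
        exact ⟨b, hK x a b⟩
    · obtain ⟨⟨s, t⟩, hp, rfl⟩ := Finset.mem_image.1 hx
      obtain ⟨hs, ht, -⟩ := Finset.mem_offDiag.1 hp
      obtain ⟨hs, hsE⟩ := (Finset.mem_filter.1 hs).2
      obtain ⟨ht, htE⟩ := (Finset.mem_filter.1 ht).2
      exact ⟨E.mul_mem hsE htE, K.mul_mem (hK s hs hsE) (hK t ht htE)⟩
  have heq : insert 1 Ts ∪ Pr = Es := Finset.eq_of_subset_of_card_le
    (fun x hx => by simpa [hEs] using (hboth x hx).1)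
    (by rw [Finset.card_union_of_disjoint hdis, Finset.card_insert_of_notMem h1, hTc, hEsc]; omega)
  intro x hx
  exact (hboth x (by rw [heq]; simpa [hEs] using hx)).2

variable [Finite G]

/-- An abelian subgroup of `J a` has order at most 32; of order 32 it is its own centralizer. -/
theorem abelian_bound {a : G} {Ja : Subgroup G} {φa : G → U} (C : Ctx a Ja φa) {A : Subgroup G}
    (hA : A ≤ Ja) (ha : a ∈ A) (hc : ∀ x ∈ A, ∀ y ∈ A, Commute x y) :
    Nat.card A ≤ 32 ∧ (Nat.card A = 32 → ∀ j ∈ Ja, (∀ y ∈ A, Commute j y) → j ∈ A) := by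
  have hd := C.dual hA ha
  have hsub : (A : Set G) ⊆ {j | j ∈ Ja ∧ ∀ y ∈ A, Commute j y} :=
    fun j hj => ⟨hA hj, hc j hj⟩
  have hn : (A : Set G).ncard = Nat.card A := (Nat.card_coe_set_eq _).symm
  have hle := Set.ncard_le_ncard hsub (Set.toFinite _)
  rw [hn] at hle
  have h32 : Nat.card A ≤ 32 := by nlinarith
  refine ⟨h32, fun e j hj hjc => ?_⟩
  have := Set.eq_of_subset_of_ncard_le hsub (by rw [hn, e]; rw [e] at hd; omega) (Set.toFinite _)
  show j ∈ (A : Set G)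
  rw [this]
  exact ⟨hj, hjc⟩

variable (S : Sys z Ω T J φ) (N : NoJ Ω J) (P : PairFacts Ω T J φ)
include S

/-- The image of a subgroup centralizing `a`. -/
theorem card_image {a : G} (ha : a ∈ Ω) {M : Subgroup G} (hc : ∀ m ∈ M, Commute m a) :
    ∃ E : Subgroup U, (∀ p, p ∈ E ↔ ∃ m ∈ M, φ a m = p) ∧
      Nat.card M = Nat.card ↥(M ⊓ J a) * Nat.card E := by
  have C := S.ctx a ha
  let f : M →* U := MonoidHom.mk' (fun m => φ a (m : G)) fun m n =>
    C.hom _ _ (hc _ m.2) (hc _ n.2)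
  refine ⟨f.range, fun p => ⟨fun ⟨m, e⟩ => ⟨m, m.2, e⟩, fun ⟨m, hm, e⟩ => ⟨⟨m, hm⟩, e⟩⟩, ?_⟩
  have hk : Nat.card f.ker = Nat.card ↥(M ⊓ J a) := by
    refine Nat.card_congr ⟨fun m => ⟨((m : M) : G), (m : M).2, (C.ker _ (hc _ (m : M).2)).1 m.2⟩,
      fun j => ⟨⟨(j : G), j.2.1⟩, (C.ker _ (hc _ j.2.1)).2 j.2.2⟩, fun m => rfl, fun j => rfl⟩
  rw [Subgroup.card_eq_card_quotient_mul_card_subgroup f.ker, hk,
    Nat.card_congr (QuotientGroup.quotientKerEquivRange f).toEquiv, mul_comm]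

/-- An elementary abelian subgroup of order 512 through `a`. -/
theorem elem_image {a : G} (ha : a ∈ Ω) {M : Subgroup G} (hM : Elem2 M) (haM : a ∈ M)
    (hMc : Nat.card M = 512) :
    Nat.card ↥(M ⊓ J a) = 32 ∧ ∃ E : Subgroup U, Elem2 E ∧ Nat.card E = 16 ∧
      ∀ p, p ∈ E ↔ ∃ m ∈ M, φ a m = p := by
  have C := S.ctx a ha
  have hc : ∀ m ∈ M, Commute m a := fun m hm => hM.2 m hm a haM
  obtain ⟨E, hE, hcard⟩ := card_image S ha hc
  have hEe : Elem2 E := by
    refine ⟨fun p hp => ?_, fun p hp q hq => ?_⟩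
    · obtain ⟨m, hm, rfl⟩ := (hE p).1 hp
      rw [← C.hom _ _ (hc m hm) (hc m hm), hM.1 m hm, C.phi_one]
    · obtain ⟨m, hm, rfl⟩ := (hE p).1 hp
      obtain ⟨n, hn, rfl⟩ := (hE q).1 hq
      show _ = _
      rw [← C.hom _ _ (hc m hm) (hc n hn), ← C.hom _ _ (hc n hn) (hc m hm), (hM.2 m hm n hn).eq]
  have h16 := S.facts.elem E hEe
  have h32 := (abelian_bound C (inf_le_right : M ⊓ J a ≤ J a) ⟨haM, C.mem⟩
    fun x hx y hy => hM.2 x hx.1 y hy.1).1
  rw [hMc] at hcard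
  refine ⟨by nlinarith, E, hEe, by nlinarith, hE⟩

omit S
theorem elem_swap {M : Subgroup G} (hM : Elem2 M) {e w v e' w' v' : G} (he : e ∈ M) (hw : w ∈ M)
    (hv : v ∈ M) (he' : e' ∈ M) (hw' : w' ∈ M) (hv' : v' ∈ M)
    (h : e * w * v = e' * w' * v') : w * w' = e * e' * (v * v') := by
  letI : CommGroup M := { (inferInstance : Group M) with
    mul_comm := fun x y => Subtype.ext (hM.2 x x.2 y y.2) }
  have sq : ∀ x : M, x * x = 1 := fun x => Subtype.ext (hM.1 x x.2)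
  have h' : (⟨e, he⟩ * ⟨w, hw⟩ * ⟨v, hv⟩ : M) = ⟨e', he'⟩ * ⟨w', hw'⟩ * ⟨v', hv'⟩ := Subtype.ext h
  have key : (⟨w, hw⟩ * ⟨w', hw'⟩ : M) = ⟨e, he⟩ * ⟨e', he'⟩ * (⟨v, hv⟩ * ⟨v', hv'⟩) := by
    generalize (⟨e, he⟩ : M) = a, (⟨w, hw⟩ : M) = b, (⟨v, hv⟩ : M) = c, (⟨e', he'⟩ : M) = a',
      (⟨w', hw'⟩ : M) = b', (⟨v', hv'⟩ : M) = c' at h' ⊢
    calc b * b' = (a' * a') * (b * b') * (c' * c') := by rw [sq, sq, one_mul, mul_one]
      _ = a' * b * (a' * b' * c') * c' := by ac_rfl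
      _ = a' * b * (a * b * c) * c' := by rw [h']
      _ = (b * b) * (a * a' * (c * c')) := by ac_rfl
      _ = a * a' * (c * c') := by rw [sq, one_mul]
  exact congrArg Subtype.val key

include S N P

/-- A product in `Wset` up to `a`. -/
theorem wset_mul {a b w w' : G} (h : TPair Ω T φ a b) (hw : w ∈ Wset J a b)
    (hw' : w' ∈ Wset J a b) : ∃ u ∈ Wset J a b, w * w' = u ∨ w * w' = a * u := by
  rcases eq_or_ne w 1 with rfl | h1
  · exact ⟨w', hw', Or.inl (one_mul _)⟩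
  rcases eq_or_ne w' 1 with rfl | h1'
  · exact ⟨w, hw, Or.inl (mul_one _)⟩
  rcases eq_or_ne w w' with rfl | hne
  · exact ⟨1, wset_one a b, Or.inl ((good S N P h).inv w hw).1⟩
  obtain ⟨u, hu, -, -, -, e, -⟩ := exists_third S N P h hw hw' h1 h1' hne
  exact ⟨u, hu, Or.inr e⟩

/-- The lifts of the five transvections of `E` generate the subgroup of order 512. -/
theorem exists_big {a₀ b₀ a : G} (h₀ : Pair Ω a₀ b₀) (ha : a ∈ Ω) {E : Subgroup U} (hE : Elem2 E)
    (hEc : Nat.card E = 16) :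
    ∃ M : Subgroup G, Elem2 M ∧ a ∈ M ∧ Nat.card M = 512 ∧ (∀ p, p ∈ E ↔ ∃ m ∈ M, φ a m = p) ∧
      (∀ y, TPair Ω T φ a y → φ a y ∈ E → y ∈ M) ∧
      ∀ K : Subgroup G, (∀ y, TPair Ω T φ a y → φ a y ∈ E → y ∈ K) → M ≤ K := by
  classical
  haveI := finite_U S.facts
  have C := S.ctx a ha
  set Y : Set G := {y | TPair Ω T φ a y ∧ φ a y ∈ E} with hY
  set M := closure Y with hMdef
  have hYM : ∀ y ∈ Y, y ∈ M := fun y hy => subset_closure hy
  have hYc : ∀ x ∈ Y, ∀ y ∈ Y, Commute x y := fun x hx y hy =>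
    comm_of_images S N P hx.1 hy.1 (hE.2 _ hx.2 _ hy.2)
  have hMc : ∀ x ∈ M, ∀ y ∈ M, Commute x y := by
    intro x hx y hy
    induction hx, hy using Subgroup.closure_induction₂ with
    | mem x y hx hy => exact hYc x hx y hy
    | one_left _ _ => exact Commute.one_left _
    | one_right _ _ => exact Commute.one_right _
    | mul_left _ _ _ _ _ _ h1 h2 => exact h1.mul_left h2
    | mul_right _ _ _ _ _ _ h1 h2 => exact h1.mul_right h2
    | inv_left _ _ _ _ h1 => exact h1.inv_left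
    | inv_right _ _ _ _ h1 => exact h1.inv_right
  have hMs : ∀ x ∈ M, x * x = 1 := by
    intro x hx
    induction hx using Subgroup.closure_induction with
    | mem y hy => exact S.sq hy.1.1.2.1
    | one => exact one_mul 1
    | mul x y hx hy h1 h2 =>
      rw [(hMc y hy x hx).mul_mul_mul_comm, h1, h2, one_mul]
    | inv x _ h1 => rw [← mul_inv_rev, h1, inv_one]
  have hM : Elem2 M := ⟨hMs, hMc⟩
  have hW : ∀ y ∈ Y, ∀ w ∈ Wset J a y, w ∈ M := by
    intro y hy w hw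
    have h1 : y * w ∈ Y := ⟨tpair_mul S N P hy.1 hw, by rw [S.phi_mul_W hy.1.1 hw]; exact hy.2⟩
    have := M.mul_mem (hYM y hy) (hYM _ h1)
    rwa [← mul_assoc, S.sq hy.1.1.2.1, one_mul] at this
  obtain ⟨-, h5, -⟩ := S.facts.sixteen E hE hEc
  obtain ⟨t₁, ⟨ht₁, ht₁E⟩, t₂, ⟨ht₂, ht₂E⟩, ht12⟩ :=
    (Set.one_lt_ncard (Set.toFinite _)).1 (show 1 < {t | t ∈ T ∧ t ∈ E}.ncard by omega)
  obtain ⟨y₁, hy₁, rfl⟩ := exists_tpair S N P h₀ ha ht₁
  obtain ⟨y₂, hy₂, rfl⟩ := exists_tpair S N P h₀ ha ht₂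
  have hy₁Y : y₁ ∈ Y := ⟨hy₁, ht₁E⟩
  have hy₂Y : y₂ ∈ Y := ⟨hy₂, ht₂E⟩
  have haM : a ∈ M := by
    have F := good S N P hy₁
    have hne : (Wset J a y₁ \ {1}).ncard = 3 := by
      rw [Set.ncard_sdiff_singleton_of_mem (wset_one a y₁), F.cardW]
    obtain ⟨w, hw, w', hw', hww⟩ :=
      (Set.one_lt_ncard (Set.toFinite _)).1 (show 1 < (Wset J a y₁ \ {1}).ncard by omega)
    obtain ⟨u, hu, -, -, -, e, -⟩ := exists_third S N P hy₁ hw.1 hw'.1 hw.2 hw'.2 hww
    have : a = w * w' * u := by rw [e, mul_assoc, (F.inv u hu).1, mul_one]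
    rw [this]
    exact M.mul_mem (M.mul_mem (hW _ hy₁Y _ hw.1) (hW _ hy₁Y _ hw'.1)) (hW _ hy₁Y _ hu)
  have hMa : ∀ m ∈ M, Commute m a := fun m hm => hMc m hm a haM
  obtain ⟨E₁, hE₁, hcard⟩ := card_image S ha hMa
  have hle₁ : E₁ ≤ E := by
    intro p hp
    obtain ⟨m, hm, rfl⟩ := (hE₁ p).1 hp
    induction hm using Subgroup.closure_induction with
    | mem y hy => exact hy.2
    | one => rw [C.phi_one]; exact E.one_mem
    | mul x y hx hy h1 h2 =>
      rw [C.hom _ _ (hMa x hx) (hMa y hy)]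
      exact E.mul_mem (h1 ((hE₁ _).2 ⟨x, hx, rfl⟩)) (h2 ((hE₁ _).2 ⟨y, hy, rfl⟩))
    | inv x hx h1 =>
      rw [C.phi_inv (hMa x hx)]
      exact E.inv_mem (h1 ((hE₁ _).2 ⟨x, hx, rfl⟩))
  have heq : E₁ = E := le_antisymm hle₁ (sixteen_gen S.facts hE hEc fun t ht htE => by
    obtain ⟨y, hy, rfl⟩ := exists_tpair S N P h₀ ha ht
    exact (hE₁ _).2 ⟨y, hYM y ⟨hy, htE⟩, rfl⟩)
  subst heq
  have hXle := (abelian_bound C (inf_le_right : M ⊓ J a ≤ J a) ⟨haM, C.mem⟩
    fun x hx y hy => hMc x hx.1 y hy.1).1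
  have hXge : 32 ≤ Nat.card ↥(M ⊓ J a) := by
    set W₁ := Wset J a y₁ with hW₁
    set W₂ := Wset J a y₂ with hW₂
    have hs : (({1, a} : Set G) ×ˢ W₁ ×ˢ W₂).ncard = 32 := by
      rw [Set.ncard_prod, Set.ncard_prod, Set.ncard_pair C.ne_one.symm, hW₁, hW₂,
        (good S N P hy₁).cardW, (good S N P hy₂).cardW]
    have h := Set.ncard_le_ncard_of_injOn (s := (({1, a} : Set G) ×ˢ W₁ ×ˢ W₂))
      (t := ((M ⊓ J a : Subgroup G) : Set G)) (fun p => p.1 * p.2.1 * p.2.2) ?_ ?_ (Set.toFinite _)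
    · rw [hs, ← Nat.card_coe_set_eq] at h
      exact h
    · rintro ⟨e, w, w'⟩ ⟨he, hw, hw'⟩
      have hem : e ∈ M ⊓ J a := by
        rcases he with rfl | rfl
        exacts [(M ⊓ J a).one_mem, ⟨haM, C.mem⟩]
      exact (M ⊓ J a).mul_mem ((M ⊓ J a).mul_mem hem ⟨hW _ hy₁Y _ hw, S.W_sub hy₁.1 hw⟩)
        ⟨hW _ hy₂Y _ hw', S.W_sub hy₂.1 hw'⟩
    rintro ⟨e, w, v⟩ ⟨he, hw, hv⟩ ⟨e', w', v'⟩ ⟨he', hw', hv'⟩ heq
    dsimp only at he hw hv he' hw' hv' heq
    have hm : ∀ x ∈ ({1, a} : Set G), x ∈ M := by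
      rintro x (rfl | rfl)
      exacts [M.one_mem, haM]
    have hsw := elem_swap hM (hm e he) (hW _ hy₁Y _ hw) (hW _ hy₂Y _ hv) (hm e' he')
      (hW _ hy₁Y _ hw') (hW _ hy₂Y _ hv') heq
    obtain ⟨u₁, hu₁, e₁⟩ := wset_mul S N P hy₁ hw hw'
    obtain ⟨u₂, hu₂, e₂⟩ := wset_mul S N P hy₂ hv hv'
    have haa : ∀ x : G, a * (a * x) = x := fun x => by rw [← mul_assoc, C.sq, one_mul]
    have hee : e * e' = 1 ∨ e * e' = a := by
      rcases he with rfl | rfl <;> rcases he' with rfl | rfl <;> simp [C.sq]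
    have hu : u₁ = u₂ ∨ u₁ = a * u₂ := by
      rcases e₁ with e₁ | e₁ <;> rcases e₂ with e₂ | e₂ <;> rcases hee with e₃ | e₃ <;>
        rw [e₁, e₂, e₃] at hsw <;> have hsw' := congrArg (a * ·) hsw <;>
        simp only [haa, one_mul] at hsw hsw' <;>
        first
          | exact Or.inl hsw
          | exact Or.inr hsw
          | exact Or.inl hsw'
          | exact Or.inr hsw'
    have hu₁1 : u₁ = 1 := by
      by_contra h1
      rcases eq_or_ne u₂ 1 with rfl | h2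
      · rcases hu with rfl | hu
        · exact h1 rfl
        · exact (good S N P hy₁).notMem (by rw [mul_one] at hu; exact hu ▸ hu₁)
      · exact not_share S N P hy₁ hy₂ ht12 hu₁ h1 hu₂ h2 hu
    have hu₂1 : u₂ = 1 := by
      rw [hu₁1] at hu
      rcases hu with hu | hu
      · exact hu.symm
      · exfalso
        refine (good S N P hy₂).notMem ?_
        have : u₂ = a := by rw [← haa u₂, ← hu, mul_one]
        exact this ▸ hu₂
    have hww : w * w' = 1 := by
      rcases e₁ with e₁ | e₁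
      · rw [e₁, hu₁1]
      · exact absurd (by rw [e₁, hu₁1, mul_one]) (mul_ne S N P hy₁ hw hw')
    have hvv : v * v' = 1 := by
      rcases e₂ with e₂ | e₂
      · rw [e₂, hu₂1]
      · exact absurd (by rw [e₂, hu₂1, mul_one]) (mul_ne S N P hy₂ hv hv')
    have hw_eq : w = w' := by
      rw [← inv_eq_of_mul_eq_one_right hww, inv_eq_of_mul_eq_one_right ((good S N P hy₁).inv w hw).1]
    have hv_eq : v = v' := by
      rw [← inv_eq_of_mul_eq_one_right hvv, inv_eq_of_mul_eq_one_right ((good S N P hy₂).inv v hv).1]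
    subst hw_eq
    subst hv_eq
    rw [mul_right_cancel (mul_right_cancel heq)]
  refine ⟨M, hM, haM, ?_, hE₁, fun y hy hyE => hYM y ⟨hy, hyE⟩, fun K hK => ?_⟩
  · rw [hcard, hEc]; omega
  · exact (closure_le K).2 fun y hy => hK y hy.1 hy.2

/-- The lifts of `E` determine the subgroup. -/
theorem big_unique {a : G} (ha : a ∈ Ω) {E : Subgroup U} {M M' : Subgroup G} (hM : Elem2 M)
    (hMc : Nat.card M = 512) (haM : a ∈ M)
    (hgen : ∀ K : Subgroup G, (∀ y, TPair Ω T φ a y → φ a y ∈ E → y ∈ K) → M ≤ K)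
    (hY : ∀ y, TPair Ω T φ a y → φ a y ∈ E → y ∈ M)
    (hM' : Elem2 M') (hMc' : Nat.card M' = 512) (haM' : a ∈ M')
    (himg' : ∀ p, p ∈ E → ∃ m ∈ M', φ a m = p) : M' = M := by
  have C := S.ctx a ha
  have hX := (elem_image S ha hM haM hMc).1
  have hX' := (elem_image S ha hM' haM' hMc').1
  have hcX := (abelian_bound C (inf_le_right : M ⊓ J a ≤ J a) ⟨haM, C.mem⟩
    fun x hx y hy => hM.2 x hx.1 y hy.1).2 hX
  have key : ∀ j ∈ M', j ∈ J a → ∀ y, TPair Ω T φ a y → φ a y ∈ E → Commute j y := by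
    intro j hjM hj y hy hyE
    obtain ⟨m, hm, hφ⟩ := himg' _ hyE
    have hya : Commute y a := hy.1.2.2.2.symm
    have hma : Commute m a := hM'.2 m hm a haM'
    have hv : y⁻¹ * m ∈ J a := (C.phi_eq_iff hya hma).1 hφ.symm
    set v := y⁻¹ * m with hv_def
    have hjm : j * m = m * j := hM'.2 j hjM m hm
    have hm' : m = y * v := by rw [hv_def, mul_inv_cancel_left]
    have hyj : j * y * j⁻¹ = y * (v * j * v⁻¹ * j⁻¹) := by
      calc j * y * j⁻¹ = j * (y * v) * v⁻¹ * j⁻¹ := by group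
        _ = y * v * j * v⁻¹ * j⁻¹ := by rw [← hm', hjm, hm']
        _ = _ := by group
    rcases C.comm v hv j hj with e | e
    · rw [e, mul_inv_cancel_right, mul_inv_cancel, mul_one] at hyj
      exact mul_inv_eq_iff_eq_mul.1 hyj
    · exfalso
      refine (good S N P hy).notMem ⟨j, hj, ?_⟩
      rw [hyj, e]
      group
  have hXX : M' ⊓ J a ≤ M ⊓ J a := fun j hj => by
    refine hcX j hj.2 fun x hx => ?_
    have hle : M ≤ centralizer ({j} : Set G) :=
      hgen _ fun y hy hyE => mem_centralizer_singleton_iff.2 (key j hj.1 hj.2 y hy hyE).symm.eq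
    exact (mem_centralizer_singleton_iff.1 (hle hx.1) : Commute x j).symm
  have hXeq : M' ⊓ J a = M ⊓ J a := Subgroup.eq_of_le_of_card_ge hXX (by rw [hX, hX'])
  have hle : M ≤ M' := by
    refine hgen _ fun y hy hyE => ?_
    obtain ⟨m, hm, hφ⟩ := himg' _ hyE
    have hya : Commute y a := hy.1.2.2.2.symm
    have hma : Commute m a := hM'.2 m hm a haM'
    have hv : y⁻¹ * m ∈ J a := (C.phi_eq_iff hya hma).1 hφ.symm
    have hvX : y⁻¹ * m ∈ M ⊓ J a := ⟨?_, hv⟩
    · rw [← hXeq] at hvX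
      have := M'.mul_mem hm (M'.inv_mem hvX.1)
      rwa [mul_inv_rev, inv_inv, mul_inv_cancel_left] at this
    refine (hcX _ hv fun x hx => ?_).1
    have hxM' : x ∈ M' := (hXeq.ge hx).1
    exact (hM.2 y (hY y hy hyE) x hx.1).inv_left.mul_left (hM'.2 m hm x hxM')
  exact (Subgroup.eq_of_le_of_card_ge hle (by rw [hMc, hMc'])).symm

end SetupC

end Cfsg.Agent.U62From98
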