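import Cfsg.Agent.Lib.U62From98SetupGroup

/-!
All images of commuting conjugates are transvections: otherwise a subgroup of order 512 would have
181 conjugates of `z` permuted transitively by automorphisms (helper79).
-/

set_option autoImplicit false
set_option linter.unusedSectionVars false
set_option linter.style.haveILetI false

namespace Cfsg.Agent.U62From98

open Subgroup

universe u v

variable {G : Type u} [Group G] [Finite G] {U : Type v} [Group U]
variable {z : G} {Ω : Set G} {T : Set U} {J : G → Subgroup G} {φ : G → G → U}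

namespace SetupC

variable (S : Sys z Ω T J φ) (N : NoJ Ω J) (P : PairFacts Ω T J φ)
include S N P

/-- A bad partner over `E` lies in the subgroup of order 512. -/
theorem bad_mem {a x : G} (hx : Pair Ω a x) (hxT : φ a x ∉ T) {E : Subgroup U} {M : Subgroup G}
    (hM : Elem2 M) (haM : a ∈ M) (hMc : Nat.card M = 512)
    (himg : ∀ p, p ∈ E ↔ ∃ m ∈ M, φ a m = p) (hxE : φ a x ∈ E) :
    x ∈ M ∧ {y | Pair Ω a y ∧ φ a y = φ a x}.ncard = 16 := by
  have C := S.ctx a hx.1
  have F := P.bad a x hx hxT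
  obtain ⟨m, hm, hφ⟩ := (himg _).1 hxE
  have hma : Commute m a := hM.2 m hm a haM
  have hxa : Commute x a := hx.2.2.2.symm
  have hv : m⁻¹ * x ∈ J a := (C.phi_eq_iff hma hxa).1 hφ
  set v := m⁻¹ * x with hv_def
  have hxm : x = m * v := by rw [hv_def, mul_inv_cancel_left]
  have hva : Commute v a := C.le v hv
  have hle : M ⊓ J a ≤ RR J a x := by
    intro j hj
    refine F.fixed j hj.2 ?_
    have hjm : j * m = m * j := hM.2 j hj.1 m hm
    have e0 : j * x * j⁻¹ = m * (j * v * j⁻¹) := by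
      rw [hxm, ← mul_assoc, hjm]; group
    rcases C.comm j hj.2 v hv with e | e
    · exact Or.inl (by rw [e0, e, mul_inv_cancel_right, hxm])
    · refine Or.inr ?_
      rw [e0, e]
      calc m * (a * (v * j) * j⁻¹) = m * (a * v) := by group
        _ = m * (v * a) := by rw [hva.eq]
        _ = x * a := by rw [← mul_assoc, ← hxm]
  have hX := (elem_image S hx.1 hM haM hMc).1
  have heq : M ⊓ J a = RR J a x := Subgroup.eq_of_le_of_card_ge hle (by rw [hX, F.cardR])
  have hvR : v ∈ RR J a x := by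
    refine F.fixed v hv ?_
    have hmi : m⁻¹ = m := inv_eq_of_mul_eq_one_right (hM.1 m hm)
    have hxx : m * v * (m * v) = 1 := by rw [← hxm]; exact S.sq hx.2.1
    have e1 : v * m = m * v⁻¹ := by
      have h2 : v * m = m⁻¹ * (m * v * (m * v)) * v⁻¹ := by group
      rw [h2, hxx, mul_one, hmi]
    have e0 : v * x * v⁻¹ = m * v⁻¹ := by rw [hxm, ← e1]; group
    rcases C.squares v hv with e | e
    · exact Or.inl (by rw [e0, hxm, inv_eq_of_mul_eq_one_right e])
    · refine Or.inr ?_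
      rw [e0, hxm, mul_assoc]
      congr 1
      refine inv_eq_of_mul_eq_one_right ?_
      rw [← mul_assoc, e, C.sq]
  have hxM : x ∈ M := by
    rw [← heq] at hvR
    rw [hxm]
    exact M.mul_mem hm hvR.1
  refine ⟨hxM, ?_⟩
  rcases F.cases with ⟨-, r, hr, hrc⟩ | ⟨-, h16, hfib⟩
  · rw [← heq] at hr
    exact absurd (hM.2 x hxM r hr.1) hrc
  have hset : {y | Pair Ω a y ∧ φ a y = φ a x} = (fun w => x * w) '' Wset J a x := by
    ext y
    constructor
    · rintro ⟨hy, he⟩
      obtain ⟨w, hw, rfl⟩ := hfib y hy.2.1 hy.2.2.2.symm he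
      exact ⟨w, hw, rfl⟩
    · rintro ⟨w, hw, rfl⟩
      exact ⟨S.pair_mul hx hw, S.phi_mul_W hx hw⟩
  rw [hset, Set.ncard_image_of_injective _ (mul_right_injective x), h16]

/-- The fibre of a transvection has four members. -/
theorem tfibre_card {a y : G} (hy : TPair Ω T φ a y) :
    {x | Pair Ω a x ∧ φ a x = φ a y}.ncard = 4 := by
  have hset : {x | Pair Ω a x ∧ φ a x = φ a y} = (fun w => y * w) '' Wset J a y := by
    ext x
    constructor
    · rintro ⟨hx, he⟩
      obtain ⟨w, hw, rfl⟩ := fibre_eq S N P hy hx he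
      exact ⟨w, hw, rfl⟩
    · rintro ⟨w, hw, rfl⟩
      exact ⟨S.pair_mul hy.1 hw, S.phi_mul_W hy.1 hw⟩
  rw [hset, Set.ncard_image_of_injective _ (mul_right_injective y), (good S N P hy).cardW]

/-- The subgroup of order 512 contains 181 members of `Ω` when one bad pair exists. -/
theorem count_181 {a x : G} (hx : Pair Ω a x) (hxT : φ a x ∉ T) {E : Subgroup U} (hE : Elem2 E)
    (hEc : Nat.card E = 16) {M : Subgroup G} (hM : Elem2 M) (haM : a ∈ M)
    (hMc : Nat.card M = 512) (himg : ∀ p, p ∈ E ↔ ∃ m ∈ M, φ a m = p)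
    (hY : ∀ y, TPair Ω T φ a y → φ a y ∈ E → y ∈ M) :
    {y | y ∈ Ω ∧ y ∈ M}.ncard = 181 := by
  classical
  have ha := hx.1
  have C := S.ctx a ha
  haveI := finite_U S.facts
  haveI : Fintype U := Fintype.ofFinite U
  haveI : Fintype G := Fintype.ofFinite G
  set Ss : Finset G := Finset.univ.filter fun y => y ∈ Ω ∧ y ∈ M with hSs
  set Es : Finset U := Finset.univ.filter (· ∈ E) with hEs
  have hEsc : Es.card = 16 := by rw [← hEc, Nat.card_eq_fintype_card, Fintype.card_subtype]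
  have hpair : ∀ y, y ∈ Ω → y ∈ M → y = a ∨ Pair Ω a y := fun y hy hyM =>
    (eq_or_ne y a).imp_right fun hne => ⟨ha, hy, hne.symm, hM.2 a haM y hyM⟩
  have hmap : ∀ y ∈ Ss, φ a y ∈ Es := fun y hy => by
    obtain ⟨-, hy⟩ := (Finset.mem_filter.1 hy)
    simpa [hEs] using (himg _).2 ⟨y, hy.2, rfl⟩
  have hone : (Ss.filter fun y => φ a y = 1).card = 1 := by
    rw [Finset.card_eq_one]
    refine ⟨a, Finset.ext fun y => ?_⟩
    simp only [hSs, Finset.mem_filter, Finset.mem_univ, true_and, Finset.mem_singleton]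
    refine ⟨fun ⟨⟨hy, hyM⟩, e⟩ => ?_, fun e => by rw [e]; exact ⟨⟨ha, haM⟩, C.phi_a⟩⟩
    rcases hpair y hy hyM with h | h
    · exact h
    · exact absurd e (S.phi_ne_one N h)
  have hlift : ∀ p ∈ Es, p ≠ 1 → ∃ y, Pair Ω a y ∧ φ a y = p := by
    intro p hp hp1
    have hpE : p ∈ E := (Finset.mem_filter.1 hp).2
    by_cases hpT : p ∈ T
    · obtain ⟨y, hy, e⟩ := exists_tpair S N P hx ha hpT
      exact ⟨y, hy.1, e⟩
    · obtain ⟨g, hg⟩ := nonT_conj S.facts (S.phi_sq hx) (S.phi_ne_one N hx) hxT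
        (hE.1 p hpE) hp1 hpT
      obtain ⟨k, hk, rfl⟩ := C.surj g
      exact ⟨k * x * k⁻¹, S.pair_move hx hk, by rw [C.phi_conj hk hx.2.2.2.symm, hg]⟩
  have hfib : ∀ p ∈ Es, p ≠ 1 → (Ss.filter fun y => φ a y = p).card = if p ∈ T then 4 else 16 := by
    intro p hp hp1
    obtain ⟨y, hy, rfl⟩ := hlift p hp hp1
    have hpE : φ a y ∈ E := (Finset.mem_filter.1 hp).2
    have hset : {x | Pair Ω a x ∧ φ a x = φ a y} = ↑(Ss.filter fun x => φ a x = φ a y) := by
      ext w
      simp only [hSs, Finset.coe_filter, Finset.mem_filter, Finset.mem_univ, true_and,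
        Set.mem_ofPred_eq]
      refine ⟨fun ⟨hw, e⟩ => ⟨⟨hw.2.1, ?_⟩, e⟩, fun ⟨⟨hw, hwM⟩, e⟩ => ⟨?_, e⟩⟩
      · by_cases hT : φ a w ∈ T
        · exact hY w ⟨hw, hT⟩ (e ▸ hpE)
        · exact (bad_mem S N P hw hT hM haM hMc himg (e ▸ hpE)).1
      · rcases hpair w hw hwM with rfl | h
        · exact absurd (by rw [← e, C.phi_a]) hp1
        · exact h
    rw [← Set.ncard_coe_finset, ← hset]
    split_ifs with hT
    · exact tfibre_card S N P ⟨hy, hT⟩
    · exact (bad_mem S N P hy hT hM haM hMc himg hpE).2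
  have h1E : (1 : U) ∈ Es := by simp [hEs, E.one_mem]
  have hTc : ((Es.erase 1).filter (· ∈ T)).card = 5 := by
    rw [← (S.facts.sixteen E hE hEc).2.1, ← Set.ncard_coe_finset]
    congr 1
    ext t
    simp only [hEs, Finset.coe_filter, Finset.mem_erase, Finset.mem_filter, Finset.mem_univ,
      true_and, Set.mem_ofPred_eq]
    exact ⟨fun h => ⟨h.2, h.1.2⟩, fun h => ⟨⟨S.facts.ne_one t h.1, h.2⟩, h.1⟩⟩
  have hsum : Ss.card = 181 := by
    rw [Finset.card_eq_sum_card_fiberwise (f := φ a) hmap, ← Finset.add_sum_erase Es _ h1E, hone,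
      Finset.sum_congr rfl fun p hp =>
        hfib p (Finset.mem_erase.1 hp).2 (Finset.mem_erase.1 hp).1,
      Finset.sum_ite, Finset.sum_const, Finset.sum_const, smul_eq_mul, smul_eq_mul, hTc]
    have h := Finset.card_filter_add_card_filter_not (s := Es.erase 1) (· ∈ T)
    rw [hTc, Finset.card_erase_of_mem h1E, hEsc] at h
    omega
  rw [← hsum, ← Set.ncard_coe_finset]
  congr 1
  ext y
  simp [hSs]

/-- The normalizer of the subgroup of order 512 moves each member of `Ω` in it to `a`. -/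
theorem move_to_a {a : G} (ha : a ∈ Ω) {E : Subgroup U} (hE : Elem2 E) (hEc : Nat.card E = 16)
    {M : Subgroup G} (hM : Elem2 M) (haM : a ∈ M) (hMc : Nat.card M = 512)
    (himg : ∀ p, p ∈ E ↔ ∃ m ∈ M, φ a m = p)
    (hY : ∀ y, TPair Ω T φ a y → φ a y ∈ E → y ∈ M)
    (hgen : ∀ K : Subgroup G, (∀ y, TPair Ω T φ a y → φ a y ∈ E → y ∈ K) → M ≤ K)
    {y : G} (hy : y ∈ Ω) (hyM : y ∈ M) :
    ∃ k : G, (∀ v, v ∈ M → k * v * k⁻¹ ∈ M) ∧ k * y * k⁻¹ = a := by
  obtain ⟨g, rfl⟩ := S.exists_conj ha hy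
  have C := S.ctx a ha
  set M₁ : Subgroup G := M.map (MulAut.conj g⁻¹).toMonoidHom with hM₁def
  have hM₁mem : ∀ v, v ∈ M₁ ↔ g * v * g⁻¹ ∈ M := by
    intro v
    rw [hM₁def, Subgroup.mem_map]
    constructor
    · rintro ⟨w, hw, rfl⟩
      simpa [mul_assoc] using hw
    · exact fun h => ⟨_, h, by simp [mul_assoc]⟩
  have hM₁ : Elem2 M₁ := by
    refine ⟨fun v hv => ?_, fun v hv w hw => ?_⟩
    · have h := hM.1 _ ((hM₁mem v).1 hv)
      rw [show g * v * g⁻¹ * (g * v * g⁻¹) = g * (v * v) * g⁻¹ by group] at h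
      exact conj_eq_one_iff.1 h
    · exact U62RecogSetup19.commute_cj_iff.1 (hM.2 _ ((hM₁mem v).1 hv) _ ((hM₁mem w).1 hw))
  have haM₁ : a ∈ M₁ := (hM₁mem a).2 hyM
  have hM₁c : Nat.card M₁ = 512 := by
    rw [← hMc, hM₁def]
    exact Subgroup.card_map_of_injective (MulAut.conj g⁻¹).injective
  obtain ⟨-, E₁, hE₁, hE₁c, hE₁m⟩ := elem_image S ha hM₁ haM₁ hM₁c
  obtain ⟨u, hu⟩ := S.facts.sixteen_conj E₁ E hE₁ hE₁c hE hEc
  obtain ⟨h, hh, rfl⟩ := C.surj u
  have hha : h * a * h⁻¹ = a := by rw [hh.eq, mul_inv_cancel_right]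
  set M₂ : Subgroup G := M₁.map (MulAut.conj h).toMonoidHom with hM₂def
  have hM₂ : Elem2 M₂ := by
    refine ⟨?_, ?_⟩
    · rintro _ ⟨v, hv, rfl⟩
      rw [← map_mul, hM₁.1 v hv, map_one]
    · rintro _ ⟨v, hv, rfl⟩ _ ⟨w, hw, rfl⟩
      exact (hM₁.2 v hv w hw).map _
  have haM₂ : a ∈ M₂ := ⟨a, haM₁, by simpa using hha⟩
  have hM₂c : Nat.card M₂ = 512 := by
    rw [← hM₁c, hM₂def]
    exact Subgroup.card_map_of_injective (MulAut.conj h).injective
  have himg₂ : ∀ p, p ∈ E → ∃ m ∈ M₂, φ a m = p := by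
    intro p hp
    obtain ⟨m, hm, hφ⟩ := (hE₁m ((φ a h)⁻¹ * p * φ a h)).1 ((hu _).2 (by simpa [mul_assoc] using hp))
    refine ⟨h * m * h⁻¹, ⟨m, hm, by simp⟩, ?_⟩
    rw [C.phi_conj hh (hM₁.2 m hm a haM₁), hφ]
    group
  have heq := big_unique S N P ha hM hMc haM hgen hY hM₂ hM₂c haM₂ himg₂
  refine ⟨h * g⁻¹, fun v hv => ?_, ?_⟩
  · rw [← heq]
    refine ⟨g⁻¹ * v * g, (hM₁mem _).2 ?_, ?_⟩
    · simpa [mul_assoc] using hv
    · simp [mul_assoc]
  · calc h * g⁻¹ * (g * a * g⁻¹) * (h * g⁻¹)⁻¹ = h * a * h⁻¹ := by group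
      _ = a := hha

/-- Every image of a commuting conjugate is a transvection. -/
theorem no_bad {a x : G} (hx : Pair Ω a x) : φ a x ∈ T := by
  by_contra hxT
  classical
  have ha := hx.1
  obtain ⟨-, s, hs, t, ht, -, hst, hc⟩ :=
    S.facts.other _ (S.phi_sq hx) (S.phi_ne_one N hx) hxT
  obtain ⟨E, hE, hEc, -, -⟩ := S.facts.pair_sixteen s hs t ht hst
  obtain ⟨M, hM, haM, hMc, himg, hY, hgen⟩ := exists_big S N P hx ha hE hEc
  have h181 := count_181 S N P hx hxT hE hEc hM haM hMc himg hY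
  set D : Set M := {m : M | (m : G) ∈ Ω} with hD
  let A : Subgroup (MulAut M) :=
    { carrier := {f | ∀ m : M, f m ∈ D ↔ m ∈ D}
      mul_mem' := fun {f g} hf hg m => (hf (g m)).trans (hg m)
      one_mem' := fun m => Iff.rfl
      inv_mem' := fun {f} hf m => by
        rw [← hf (f⁻¹ m), MulAut.apply_inv_self] }
  have hA : ∀ f : MulAut M, f ∈ A ↔ ∀ m : M, f m ∈ D ↔ m ∈ D := fun f => Iff.rfl
  set a' : M := ⟨a, haM⟩ with ha'
  have horb : MulAction.orbit A a' = D := by
    ext m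
    constructor
    · rintro ⟨f, rfl⟩
      exact ((hA _).1 f.2 a').2 ha
    · intro hm
      obtain ⟨k, hk, hka⟩ :=
        move_to_a S N P ha hE hEc hM haM hMc himg hY hgen hm m.2
      have hsurj : ∀ v ∈ M, k⁻¹ * v * k ∈ M := by
        intro v hv
        have hbij : Function.Bijective (fun w : M => (⟨k * w * k⁻¹, hk w w.2⟩ : M)) :=
          Finite.injective_iff_bijective.1 fun w₁ w₂ e =>
            Subtype.ext (mul_left_cancel (mul_right_cancel (congrArg Subtype.val e)))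
        obtain ⟨w, hw⟩ := hbij.2 ⟨v, hv⟩
        have e : k * w * k⁻¹ = v := congrArg Subtype.val hw
        rw [← e]
        simp [mul_assoc]
      let f : MulAut M :=
        { toFun := fun w => ⟨k⁻¹ * w * k, hsurj w w.2⟩
          invFun := fun w => ⟨k * w * k⁻¹, hk w w.2⟩
          left_inv := fun w => Subtype.ext (by simp [mul_assoc])
          right_inv := fun w => Subtype.ext (by simp [mul_assoc])
          map_mul' := fun w₁ w₂ => Subtype.ext (by simp [mul_assoc]) }
      have hf : f ∈ A := (hA f).2 fun w => by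
        show k⁻¹ * (w : G) * k ∈ Ω ↔ (w : G) ∈ Ω
        refine ⟨fun h => ?_, fun h => ?_⟩
        · have := S.conj_mem h k
          simpa [mul_assoc] using this
        · have := S.conj_mem h k⁻¹
          simpa [mul_assoc] using this
      refine ⟨⟨f, hf⟩, Subtype.ext ?_⟩
      show k⁻¹ * a * k = m
      rw [← hka]
      group
  have hDc : D.ncard = 181 := by
    rw [← h181, ← Set.ncard_image_of_injective D Subtype.val_injective]
    congr 1
    ext y
    exact ⟨fun ⟨m, hm, e⟩ => e ▸ ⟨hm, m.2⟩, fun ⟨h₁, h₂⟩ => ⟨⟨y, h₂⟩, h₁, rfl⟩⟩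
  have hdvd : 181 ∣ Nat.card A := by
    rw [← hDc, ← horb, ← MulAction.index_stabilizer]
    exact Subgroup.index_dvd_card _
  haveI : Fact (Nat.Prime 181) := ⟨by norm_num⟩
  obtain ⟨f, hf⟩ := exists_prime_orderOf_dvd_card' (G := A) 181 hdvd
  have hf1 : (f : MulAut M) ≠ 1 := fun e => by
    rw [show f = 1 from Subtype.ext e, orderOf_one] at hf
    norm_num at hf
  have hP : IsPGroup 181 (zpowers (f : MulAut M)) :=
    IsPGroup.of_card (n := 1) (by rw [Nat.card_zpowers, Subgroup.orderOf_coe, hf, pow_one])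
  let Fx : Subgroup M :=
    { carrier := {m | (f : MulAut M) m = m}
      mul_mem' := fun {m n} hm hn => by
        show (f : MulAut M) (m * n) = m * n
        rw [map_mul, hm, hn]
      one_mem' := map_one _
      inv_mem' := fun {m} hm => by
        show (f : MulAut M) m⁻¹ = m⁻¹
        rw [map_inv, hm] }
  have hfix : MulAction.fixedPoints (zpowers (f : MulAut M)) M = (Fx : Set M) := by
    ext m
    constructor
    · intro h
      exact h ⟨(f : MulAut M), mem_zpowers _⟩
    · intro h g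
      have hst : (f : MulAut M) ∈ MulAction.stabilizer (MulAut M) m := h
      exact zpowers_le.2 hst g.2
  have hmod := hP.card_modEq_card_fixedPoints M
  rw [hfix, hMc] at hmod
  have hFx : Nat.card Fx ∣ 2 ^ 9 := by
    have := Subgroup.card_subgroup_dvd_card Fx
    rwa [hMc] at this
  obtain ⟨k, hk, hkc⟩ := (Nat.dvd_prime_pow Nat.prime_two).1 hFx
  have hk9 : k = 9 := by
    have : 512 % 181 = 2 ^ k % 181 := by
      rw [← hkc]
      exact hmod
    interval_cases k <;> first | rfl | norm_num at this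
  have htop : Fx = ⊤ := Subgroup.eq_top_of_card_eq _ (by rw [hkc, hk9, hMc]; norm_num)
  refine hf1 (MulEquiv.ext fun m => ?_)
  exact (show m ∈ Fx by rw [htop]; trivial)

end SetupC

end Cfsg.Agent.U62From98
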