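import Mathlib
import Cfsg.Agent.Lib.FormGen53

/-!
Characteristic two: isometries of alternating forms, with or without an invariant quadratic form
polarising to it; the quadratic maps `q_t` and their calculus.
-/

set_option autoImplicit false
set_option linter.unusedSectionVars false

open Polynomial
open LinearMap (BilinForm)
open Cfsg.Agent.GLClassBound53

namespace Cfsg.Agent.UniTwoSys53

open Cfsg.Agent.FormSys53 Cfsg.Agent.FormSub53 Cfsg.Agent.FormGen53

universe u

/-- an alternating system, with a quadratic form when `o` -/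
structure USys (F : Type u) [Field F] (o : Bool) where
  S : Sys F (1 : F)
  alt : ∀ x, S.B x x = 0
  Q : S.V → F
  Qadd : o = true → ∀ x y, Q (x + y) = Q x + Q y + S.B x y
  Qsmul : o = true → ∀ (c : F) (x : S.V), Q (c • x) = c ^ 2 * Q x
  Qinv : o = true → ∀ x, Q (S.g x) = Q x

/-- least index with a meaningful quadratic map -/
def i0 (o : Bool) : ℕ := if o then 0 else 1

theorem i0_le_one (o : Bool) : i0 o ≤ 1 := by cases o <;> simp [i0]

variable {F : Type u} [Field F] {o : Bool}

theorem o_of_le {o : Bool} (h : i0 o ≤ 0) : o = true := by cases o <;> simp [i0] at *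

/-- equivariant isometry, preserving the quadratic form if there is one -/
def UIso (U U' : USys F o) : Prop :=
  ∃ T : U.S.V ≃ₗ[F] U'.S.V, (∀ x, T (U.S.g x) = U'.S.g (T x)) ∧
    (∀ x y, U'.S.B (T x) (T y) = U.S.B x y) ∧ (o = true → ∀ x, U'.Q (T x) = U.Q x)

theorem UIso.iso {U U' : USys F o} (h : UIso U U') : Iso U.S U'.S := by
  obtain ⟨T, h1, h2, -⟩ := h
  exact ⟨T, h1, h2⟩

theorem UIso.symm {U U' : USys F o} (h : UIso U U') : UIso U' U := by
  obtain ⟨T, h1, h2, h3⟩ := h
  refine ⟨T.symm, fun x => ?_, fun x y => ?_, fun ho x => ?_⟩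
  · apply T.injective
    rw [h1, T.apply_symm_apply, T.apply_symm_apply]
  · rw [← h2, T.apply_symm_apply, T.apply_symm_apply]
  · rw [← h3 ho, T.apply_symm_apply]

theorem UIso.trans {U U' U'' : USys F o} (h : UIso U U') (h' : UIso U' U'') : UIso U U'' := by
  obtain ⟨T, h1, h2, h3⟩ := h
  obtain ⟨T', h1', h2', h3'⟩ := h'
  exact ⟨T.trans T', fun x => by simp [h1, h1'], fun x y => by simp [h2', h2],
    fun ho x => by simp [h3' ho, h3 ho]⟩

/-- restriction to a piece -/
noncomputable abbrev sub (U : USys F o) (P : Piece U.S) : USys F o where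
  S := P.sys
  alt x := U.alt x
  Q x := U.Q x
  Qadd ho x y := U.Qadd ho x y
  Qsmul ho c x := U.Qsmul ho c x
  Qinv ho x := U.Qinv ho x

theorem uiso_of_pieces {U U' : USys F o} (P : Piece U.S) (P' : Piece U'.S) (h1 : UIso (sub U P) (sub U' P'))
    (h2 : UIso (sub U P.compl) (sub U' P'.compl)) : UIso U U' := by
  obtain ⟨T1, g1, b1, c1⟩ := h1
  obtain ⟨T2, g2, b2, c2⟩ := h2
  have g1' : ∀ x : P.W, T1 (P.sys.g x) = P'.sys.g (T1 x) := g1
  have g2' : ∀ x : P.compl.W, T2 (P.compl.sys.g x) = P'.compl.sys.g (T2 x) := g2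
  refine ⟨P.split.symm.trans ((T1.prodCongr T2).trans P'.split), fun x => ?_, fun x y => ?_, fun ho x => ?_⟩
  · obtain ⟨z, rfl⟩ := P.split.surjective x
    simp only [LinearEquiv.trans_apply]
    rw [P.split.symm_apply_apply, P'.split_g, P.split_g, P.split.symm_apply_apply]
    exact congrArg P'.split (Prod.ext (g1' z.1) (g2' z.2))
  · obtain ⟨z, rfl⟩ := P.split.surjective x
    obtain ⟨z', rfl⟩ := P.split.surjective y
    simp only [LinearEquiv.trans_apply]
    rw [P.split.symm_apply_apply, P.split.symm_apply_apply, P'.split_B, P.split_B]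
    exact congrArg₂ (· + ·) (b1 z.1 z'.1) (b2 z.2 z'.2)
  · obtain ⟨z, rfl⟩ := P.split.surjective x
    simp only [LinearEquiv.trans_apply]
    rw [P.split.symm_apply_apply, P'.split_apply, P.split_apply, U'.Qadd ho, U.Qadd ho,
      show U.S.B (z.1 : U.S.V) z.2 = 0 from z.2.2 _ z.1.2]
    rw [show U'.S.B (((T1.prodCongr T2) z).1 : U'.S.V) ((T1.prodCongr T2) z).2 = 0 from
      ((T1.prodCongr T2) z).2.2 _ ((T1.prodCongr T2) z).1.2, add_zero, add_zero]
    exact congrArg₂ (· + ·) (c1 ho z.1) (c2 ho z.2)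

variable [CharP F 2]

theorem two_zero : (2 : F) = 0 := CharTwo.two_eq_zero

theorem add_self_vec {V : Type*} [AddCommGroup V] [Module F V] (x : V) : x + x = 0 := by
  rw [← two_smul F x, two_zero, zero_smul]

theorem neg_one_eq : (-1 : F) = 1 := by linear_combination -(two_zero (F := F))

variable (U : USys F o)

theorem sym' (x y : U.S.V) : U.S.B x y = U.S.B y x := by rw [U.S.sym x y, one_mul]

/-- `g - 1` -/
noncomputable def nu : Module.End F U.S.V := U.S.g + 1

/-- `g + g⁻¹` -/
noncomputable def w : Module.End F U.S.V := U.S.g + gi U.S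

theorem nu_apply (x : U.S.V) : nu U x = U.S.g x + x := rfl

theorem w_apply (x : U.S.V) : w U x = U.S.g x + gi U.S x := rfl

theorem nu_eq_ev : nu U = ev U.S (X - C 1) := by
  refine LinearMap.ext fun x => ?_
  rw [nu_apply, ev_lin, one_smul, sub_eq_add_neg]
  congr 1
  exact (neg_eq_of_add_eq_zero_left (add_self_vec (F := F) x)).symm

theorem nu_pow (j : ℕ) : nu U ^ j = ev U.S ((X - C 1) ^ j) := by
  rw [nu_eq_ev]
  simp only [ev, map_pow]

theorem commute_w : Commute (nu U) (w U) :=
  ((Commute.one_left _).add_right (Commute.one_left _) |> fun h1 =>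
    Commute.add_left ((Commute.refl _).add_right (commute_g_gi U.S)) h1)

theorem nu_w_pow (l : ℕ) (x : U.S.V) : nu U ((w U ^ l) x) = (w U ^ l) (nu U x) :=
  LinearMap.congr_fun ((commute_w U).pow_right l).eq x

theorem w_g (x : U.S.V) : w U (U.S.g x) = U.S.g (w U x) := by
  rw [w_apply, w_apply, map_add, gi_g_apply, g_gi_apply]

theorem w_nu (x : U.S.V) : w U (nu U x) = nu U (w U x) :=
  (LinearMap.congr_fun (commute_w U).eq x).symm

theorem wp_succ (l : ℕ) (x : U.S.V) : w U ((w U ^ l) x) = (w U ^ (l + 1)) x := by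
  rw [← Module.End.mul_apply, ← pow_succ']

theorem wp_succ' (l : ℕ) (x : U.S.V) : (w U ^ l) (w U x) = (w U ^ (l + 1)) x := by
  rw [← Module.End.mul_apply, ← pow_succ]

theorem nu_sq (x : U.S.V) : nu U (nu U x) = nu U (w U x) + w U x := by
  simp only [nu_apply, w_apply, map_add, g_gi_apply]
  have h1 := add_self_vec (F := F) (U.S.g x)
  have h2 := add_self_vec (F := F) (gi U.S x)
  calc _ = U.S.g (U.S.g x) + x + (U.S.g x + U.S.g x) := by abel
    _ = U.S.g (U.S.g x) + x + (U.S.g x + U.S.g x) + (gi U.S x + gi U.S x) := by rw [h2, add_zero]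
    _ = _ := by abel

theorem B_nu (x y : U.S.V) : U.S.B (nu U x) y = U.S.B x (nu U y) + U.S.B x (w U y) := by
  rw [nu_apply, nu_apply, w_apply, map_add, map_add, map_add, LinearMap.add_apply, B_gi]
  linear_combination -(U.S.B x (U.S.g y)) * two_zero (F := F)

theorem B_w (x y : U.S.V) : U.S.B (w U x) y = U.S.B x (w U y) := by
  rw [w_apply, w_apply, map_add, map_add, LinearMap.add_apply, B_gi, add_comm]
  congr 1
  conv_lhs => rw [← gi_g_apply U.S y]
  rw [← B_gi, g_gi_apply]

theorem B_w_pow : ∀ (l : ℕ) (x y : U.S.V), U.S.B ((w U ^ l) x) y = U.S.B x ((w U ^ l) y) := by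
  intro l
  induction l with
  | zero => intro x y; rfl
  | succ l ih =>
    intro x y
    rw [← wp_succ U, B_w, ih, wp_succ']

/-- `B(a, w^l b)` -/
noncomputable def C0 (a b : U.S.V) (l : ℕ) : F := U.S.B a ((w U ^ l) b)

/-- `B(a, ν w^l b)` -/
noncomputable def C1 (a b : U.S.V) (l : ℕ) : F := U.S.B a (nu U ((w U ^ l) b))

theorem C0_symm (a b : U.S.V) (l : ℕ) : C0 U b a l = C0 U a b l := by
  rw [C0, C0, sym' U, B_w_pow]

theorem C1_symm (a b : U.S.V) (l : ℕ) : C1 U b a l = C1 U a b l + C0 U a b (l + 1) := by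
  rw [C1, sym' U, nu_w_pow, B_w_pow, B_nu, C1, C0, wp_succ]

theorem C0_self : ∀ (l : ℕ) (a : U.S.V), C0 U a a l = 0 := by
  intro l
  induction l using Nat.strong_induction_on with
  | _ l ih =>
    intro a
    rcases l with _ | _ | l
    · exact U.alt a
    · rw [C0, pow_one, w_apply, map_add, ← B_gi, sym' U (U.S.g a) a, CharTwo.add_self_eq_zero]
    · have e : C0 U a a (l + 2) = C0 U (w U a) (w U a) l := by
        rw [C0, C0, B_w, ← Module.End.mul_apply, ← Module.End.mul_apply, ← pow_succ', ← pow_succ]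
      rw [e, ih l (by omega)]

/-- the quadratic maps -/
noncomputable def q : ℕ → U.S.V → F
  | 0, x => U.Q x
  | t + 1, x => C1 U x x t

theorem q_succ (t : ℕ) (x : U.S.V) : q U (t + 1) x = C1 U x x t := rfl

theorem q_add {t : ℕ} (ht : i0 o ≤ t) (x y : U.S.V) : q U t (x + y) = q U t x + q U t y + C0 U x y t := by
  rcases t with _ | t
  · exact U.Qadd (o_of_le ht) x y
  · have h := C1_symm U x y t
    simp only [q, C1, map_add, LinearMap.add_apply] at *
    linear_combination h + U.S.B x (nu U ((w U ^ t) y)) * two_zero (F := F)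

theorem q_smul {t : ℕ} (ht : i0 o ≤ t) (c : F) (x : U.S.V) : q U t (c • x) = c ^ 2 * q U t x := by
  rcases t with _ | t
  · exact U.Qsmul (o_of_le ht) c x
  · simp only [q, C1, map_smul, LinearMap.smul_apply, smul_eq_mul]
    ring

theorem q_zero {t : ℕ} (ht : i0 o ≤ t) : q U t (0 : U.S.V) = 0 := by
  rw [← zero_smul F (0 : U.S.V), q_smul U ht]; ring

/-! ### bilinear reductions -/

theorem B_ww (a b : U.S.V) (l t : ℕ) : U.S.B ((w U ^ l) a) ((w U ^ t) b) = C0 U a b (l + t) := by
  rw [B_w_pow, C0, pow_add, Module.End.mul_apply]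

theorem B_wn (a b : U.S.V) (l t : ℕ) : U.S.B ((w U ^ l) a) (nu U ((w U ^ t) b)) = C1 U a b (l + t) := by
  rw [B_w_pow, C1, ← nu_w_pow, ← Module.End.mul_apply (w U ^ l), ← pow_add]

theorem B_nw (a b : U.S.V) (l t : ℕ) :
    U.S.B (nu U ((w U ^ l) a)) ((w U ^ t) b) = C1 U a b (l + t) + C0 U a b (l + t + 1) := by
  rw [B_nu, B_wn, ← Module.End.mul_apply (w U), ← pow_succ', B_ww]
  rfl

theorem B_nn (a b : U.S.V) (l t : ℕ) :
    U.S.B (nu U ((w U ^ l) a)) (nu U ((w U ^ t) b)) = C0 U a b (l + t + 1) := by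
  rw [B_nu, nu_sq, map_add, ← Module.End.mul_apply (w U) (w U ^ t), ← pow_succ']
  rw [show w U (nu U ((w U ^ t) b)) = nu U ((w U ^ (t + 1)) b) by
    rw [pow_succ', Module.End.mul_apply]
    exact (LinearMap.congr_fun (commute_w U).eq _).symm]
  rw [B_wn, B_ww, add_assoc, add_comm (C0 U a b (l + (t + 1))), ← add_assoc, CharTwo.add_self_eq_zero,
    zero_add]
  rfl

theorem C1_g (x : U.S.V) (l : ℕ) : C1 U (U.S.g x) (U.S.g x) l = C1 U x x l := by
  have hc : Commute (U.S.g) (nu U * w U ^ l) :=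
    ((Commute.refl _).add_right (Commute.one_right _)).mul_right
      (((Commute.refl _).add_right (commute_g_gi U.S)).pow_right l)
  show U.S.B (U.S.g x) ((nu U * w U ^ l) (U.S.g x)) = _
  rw [← Module.End.mul_apply, ← hc.eq, Module.End.mul_apply, U.S.inv]
  rfl

theorem q_nu {t : ℕ} (ht : i0 o ≤ t) (x : U.S.V) : q U t (nu U x) = q U (t + 1) x := by
  rcases t with _ | t
  · show U.Q (nu U x) = C1 U x x 0
    rw [nu_apply, U.Qadd (o_of_le ht), U.Qinv (o_of_le ht), CharTwo.add_self_eq_zero, zero_add, C1, pow_zero,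
      Module.End.one_apply, nu_apply, map_add, U.alt, add_zero, sym' U]
  · rw [q_succ, q_succ, C1, ← nu_w_pow, nu_sq, map_add, wp_succ]
    have h1 := B_nn U x x 0 (t + 1)
    have h2 := B_nw U x x 0 (t + 1)
    rw [pow_zero, Module.End.one_apply, zero_add] at h1 h2
    rw [h1, h2]
    linear_combination C0 U x x (t + 1 + 1) * two_zero (F := F)

theorem q_w {t : ℕ} (ht : i0 o ≤ t) (x : U.S.V) : q U t (w U x) = q U (t + 2) x := by
  rcases t with _ | t
  · have hw : w U x = nu U (nu U (gi U.S x)) := by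
      simp only [nu_apply, w_apply, map_add, g_gi_apply]
      rw [add_assoc (U.S.g x), ← add_assoc x x, add_self_vec (F := F), zero_add]
    rw [hw, q_nu U ht, q_nu U (by omega), q_succ, q_succ, ← C1_g U (gi U.S x), g_gi_apply]
  · rw [q_succ, q_succ, C1, wp_succ']
    have h1 := B_wn U x x 1 (t + 1)
    rw [pow_one] at h1
    rw [h1, show 1 + (t + 1) = t + 2 by omega]

theorem q_w_pow {t : ℕ} (ht : i0 o ≤ t) : ∀ (l : ℕ) (x : U.S.V), q U t ((w U ^ l) x) = q U (t + 2 * l) x := by
  intro l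
  induction l generalizing t with
  | zero => intro x; rfl
  | succ l ih =>
    intro x
    rw [pow_succ', Module.End.mul_apply, q_w U ht, ih (by omega)]
    congr 1
    omega

theorem q_nu_w {t : ℕ} (ht : i0 o ≤ t) (l : ℕ) (x : U.S.V) :
    q U t (nu U ((w U ^ l) x)) = q U (t + 2 * l + 1) x := by
  rw [q_nu U ht, q_w_pow U (by omega)]
  congr 1
  omega

theorem q_nu_pow {t : ℕ} (ht : i0 o ≤ t) : ∀ (j : ℕ) (x : U.S.V), q U t ((nu U ^ j) x) = q U (t + j) x := by
  intro j
  induction j generalizing t with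
  | zero => intro x; rfl
  | succ j ih =>
    intro x
    rw [pow_succ', Module.End.mul_apply, q_nu U ht, ih (by omega)]
    congr 1
    omega

end Cfsg.Agent.UniTwoSys53
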