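import Mathlib
import Cfsg.Agent.Lib.UniTwoSys53

/-!
Characteristic two: blocks, their generators, and isometry of blocks with the same data.
-/

set_option autoImplicit false
set_option linter.unusedSectionVars false

open Polynomial
open LinearMap (BilinForm)
open Cfsg.Agent.GLClassBound53

namespace Cfsg.Agent.UniTwoBlk53

open Cfsg.Agent.FormSys53 Cfsg.Agent.FormSub53 Cfsg.Agent.FormGen53 Cfsg.Agent.UniTwoSys53

universe u

variable {F : Type u} [Field F] {o : Bool} [CharP F 2]

variable (U : USys F o)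

theorem nu_nu (x : U.S.V) : nu U (nu U x) = U.S.g (w U x) := by
  rw [nu_sq, nu_apply, add_assoc, add_self_vec (F := F), add_zero]

theorem nu_pow_two (j : ℕ) (x : U.S.V) : (nu U ^ (2 * j)) x = (U.S.g ^ j) ((w U ^ j) x) := by
  have h : nu U ^ 2 = U.S.g * w U := LinearMap.ext fun y => by
    rw [pow_two, Module.End.mul_apply, nu_nu]; rfl
  rw [pow_mul, h, Commute.mul_pow (LinearMap.ext fun y => (w_g U y).symm)]
  rfl

theorem g_pow_injective (j : ℕ) : Function.Injective (U.S.g ^ j : Module.End F U.S.V) := by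
  rw [Module.End.coe_pow]
  exact (g_injective U.S).iterate j

theorem g_pow_fixed {z : U.S.V} (hz : nu U z = 0) (j : ℕ) : (U.S.g ^ j) z = z := by
  induction j with
  | zero => rfl
  | succ j ih =>
    rw [pow_succ', Module.End.mul_apply, ih]
    have h := congrArg (· + z) hz
    simp only [nu_apply, zero_add] at h
    rwa [add_assoc, add_self_vec (F := F), add_zero] at h

variable {U}

theorem kill_mono {x : U.S.V} {a b : ℕ} (hab : a ≤ b) (h : (nu U ^ a) x = 0) : (nu U ^ b) x = 0 := by
  rw [← Nat.sub_add_cancel hab, pow_add, Module.End.mul_apply, h, map_zero]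

theorem w_pow_zero {x : U.S.V} {m l : ℕ} (h : (nu U ^ m) x = 0) (hl : m ≤ 2 * l) : (w U ^ l) x = 0 := by
  have h' := kill_mono hl h
  rw [nu_pow_two] at h'
  exact g_pow_injective U l (h'.trans (map_zero _).symm)

theorem nu_w_zero {x : U.S.V} {m l : ℕ} (h : (nu U ^ m) x = 0) (hl : m ≤ 2 * l + 1) :
    nu U ((w U ^ l) x) = 0 := by
  have h' := kill_mono hl h
  rw [pow_succ, Module.End.mul_apply, nu_pow_two] at h'
  rw [nu_w_pow]
  exact g_pow_injective U l (h'.trans (map_zero _).symm)

theorem C0_vanish {a b : U.S.V} {m l : ℕ} (h : (nu U ^ m) b = 0) (hl : m ≤ 2 * l) : C0 U a b l = 0 := by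
  rw [C0, w_pow_zero h hl, map_zero]

theorem C1_vanish {a b : U.S.V} {m l : ℕ} (h : (nu U ^ m) b = 0) (hl : m ≤ 2 * l + 1) : C1 U a b l = 0 := by
  rw [C1, nu_w_zero h hl, map_zero]

theorem q_vanish {a : U.S.V} {m t : ℕ} (h : (nu U ^ m) a = 0) (ht : m < 2 * t) : q U t a = 0 := by
  obtain ⟨t, rfl⟩ : ∃ s, t = s + 1 := ⟨t - 1, by omega⟩
  rw [q_succ]
  exact C1_vanish h (by omega)

theorem top_odd {x : U.S.V} {j : ℕ} (h : (nu U ^ (2 * j + 1)) x = 0) : (nu U ^ (2 * j)) x = (w U ^ j) x := by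
  rw [nu_pow_two]
  exact g_pow_fixed U (nu_w_zero h le_rfl) j

theorem top_even {x : U.S.V} {j : ℕ} (h : (nu U ^ (2 * (j + 1))) x = 0) :
    (nu U ^ (2 * j + 1)) x = nu U ((w U ^ j) x) := by
  rw [pow_succ, Module.End.mul_apply, nu_pow_two, nu_w_pow]
  refine g_pow_fixed U ?_ j
  rw [← nu_w_pow, nu_nu, wp_succ, w_pow_zero h le_rfl, map_zero]

/-- the top form -/
noncomputable def beta (U : USys F o) (m : ℕ) (a b : U.S.V) : F := U.S.B a ((nu U ^ (m - 1)) b)

theorem beta_odd {a b : U.S.V} {j : ℕ} (h : (nu U ^ (2 * j + 1)) b = 0) :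
    beta U (2 * j + 1) a b = C0 U a b j := by
  rw [beta, Nat.add_sub_cancel, top_odd h]
  rfl

theorem beta_even {a b : U.S.V} {j : ℕ} (h : (nu U ^ (2 * (j + 1))) b = 0) :
    beta U (2 * (j + 1)) a b = C1 U a b j := by
  rw [beta, show 2 * (j + 1) - 1 = 2 * j + 1 by omega, top_even h]
  rfl

theorem h_eq_beta (m : ℕ) (a b : U.S.V) : FormSys53.h U.S (X - C 1) m a b = beta U m a b := by
  rw [beta, nu_pow]
  rfl

/-- `v` : one generator; `lab` : the Arf label -/
structure Blk where
  m : ℕ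
  v : Bool
  lab : Bool
deriving DecidableEq

/-- number of generators -/
def Blk.cnt (b : Blk) : ℕ := if b.v then 1 else 2

/-- target of the quadratic maps -/
def tq (ν0 : F) (b : Blk) (i t : ℕ) : F :=
  if b.v then (if 2 * t = b.m then 1 else if 2 * (t + 1) = b.m ∧ b.lab = true then ν0 else 0)
  else (if b.lab = true ∧ 2 * t + 1 = b.m then (if i = 0 then ν0 else 1) else 0)

/-- targets of the products of two generators -/
def tC0 (F : Type u) [Field F] (b : Blk) (l : ℕ) : F := if b.m = 2 * l + 1 then 1 else 0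

/-- targets of the products of two generators -/
def tC1 (F : Type u) [Field F] (b : Blk) (l : ℕ) : F := if b.m = 2 * (l + 1) then 1 else 0

/-- generators of a block -/
structure Real (U : USys F o) (ν0 : F) (b : Blk) where
  u : Fin b.cnt → U.S.V
  hm : 1 ≤ b.m
  even : b.v = true → Even b.m
  noLab : b.v = false → Even b.m → b.lab = false
  kill : ∀ i, (nu U ^ b.m) (u i) = 0
  hq : ∀ (i : Fin b.cnt) (t : ℕ), i0 o ≤ t → q U t (u i) = tq ν0 b i t
  hc : ∀ i j : Fin b.cnt, i < j → ∀ l, C0 U (u i) (u j) l = tC0 F b l ∧ C1 U (u i) (u j) l = tC1 F b l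

variable {ν0 : F} {b : Blk} {U' : USys F o}

theorem Real.tables (R : Real U ν0 b) (R' : Real U' ν0 b) (i j : Fin b.cnt) (l : ℕ) :
    C0 U (R.u i) (R.u j) l = C0 U' (R'.u i) (R'.u j) l ∧
      C1 U (R.u i) (R.u j) l = C1 U' (R'.u i) (R'.u j) l := by
  rcases lt_trichotomy i j with h | rfl | h
  · obtain ⟨a, c⟩ := R.hc i j h l
    obtain ⟨a', c'⟩ := R'.hc i j h l
    exact ⟨a.trans a'.symm, c.trans c'.symm⟩
  · refine ⟨by rw [C0_self, C0_self], ?_⟩
    rw [← q_succ, ← q_succ, R.hq i _ (by have := i0_le_one o; omega), R'.hq i _ (by have := i0_le_one o; omega)]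
  · obtain ⟨a, c⟩ := R.hc j i h l
    obtain ⟨a', c'⟩ := R'.hc j i h l
    refine ⟨by rw [C0_symm, a, C0_symm, a'], ?_⟩
    rw [C1_symm, C1_symm U', c, c', (R.hc j i h (l + 1)).1, (R'.hc j i h (l + 1)).1]

theorem Real.pow_tables (R : Real U ν0 b) (R' : Real U' ν0 b) (i j : Fin b.cnt) : ∀ t l : ℕ,
    U.S.B (R.u i) ((nu U ^ t) ((w U ^ l) (R.u j))) =
      U'.S.B (R'.u i) ((nu U' ^ t) ((w U' ^ l) (R'.u j))) := by
  have step : ∀ (W : USys F o) (a x : W.S.V) (t l : ℕ), W.S.B a ((nu W ^ (t + 2)) ((w W ^ l) x)) =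
      W.S.B a ((nu W ^ (t + 1)) ((w W ^ (l + 1)) x)) + W.S.B a ((nu W ^ t) ((w W ^ (l + 1)) x)) := by
    intro W a x t l
    rw [show t + 2 = t + 1 + 1 by omega, pow_succ, Module.End.mul_apply, pow_succ, Module.End.mul_apply, nu_sq,
      map_add, wp_succ, map_add, Module.End.mul_apply]
  intro t
  induction t using Nat.strong_induction_on with
  | _ t ih =>
    intro l
    rcases t with _ | _ | t
    · simpa [C0] using (R.tables R' i j l).1
    · simpa [C1] using (R.tables R' i j l).2
    · rw [step, step, ih (t + 1) (by omega), ih t (by omega)]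

theorem Real.g_tables (R : Real U ν0 b) (R' : Real U' ν0 b) (i j : Fin b.cnt) : ∀ n t : ℕ,
    U.S.B (R.u i) ((U.S.g ^ n) ((nu U ^ t) (R.u j))) =
      U'.S.B (R'.u i) ((U'.S.g ^ n) ((nu U' ^ t) (R'.u j))) := by
  intro n
  induction n with
  | zero => intro t; simpa using R.pow_tables R' i j t 0
  | succ n ih =>
    intro t
    have e : ∀ (W : USys F o) (a x : W.S.V), W.S.B a ((W.S.g ^ (n + 1)) ((nu W ^ t) x)) =
        W.S.B a ((W.S.g ^ n) ((nu W ^ (t + 1)) x)) + W.S.B a ((W.S.g ^ n) ((nu W ^ t) x)) := by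
      intro W a x
      rw [← map_add, ← map_add, pow_succ, Module.End.mul_apply, pow_succ' (nu W) t, Module.End.mul_apply,
        nu_apply, add_assoc, add_self_vec (F := F), add_zero]
    rw [e, e, ih, ih]

theorem Real.ev_tables (R : Real U ν0 b) (R' : Real U' ν0 b) (i j : Fin b.cnt) (r : F[X]) :
    U.S.B (R.u i) (ev U.S r (R.u j)) = U'.S.B (R'.u i) (ev U'.S r (R'.u j)) := by
  induction r using Polynomial.induction_on' with
  | add p p' hp hp' => simp only [ev, map_add, LinearMap.add_apply] at *; rw [hp, hp']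
  | monomial n c =>
    simp only [ev, aeval_monomial, Module.End.mul_apply, Module.algebraMap_end_apply, map_smul]
    congr 1
    simpa using R.g_tables R' i j n 0

theorem Real.top (R : Real U ν0 b) (i j : Fin b.cnt) :
    beta U b.m (R.u i) (R.u j) =
      if i < j then 1 else if j < i then 1 else (if b.v = true then 1 else 0) := by
  obtain ⟨k, hk⟩ : ∃ k, b.m = 2 * k + 1 ∨ b.m = 2 * (k + 1) := by
    rcases Nat.even_or_odd b.m with ⟨k, hk⟩ | ⟨k, hk⟩
    · exact ⟨k - 1, Or.inr (by have := R.hm; omega)⟩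
    · exact ⟨k, Or.inl hk⟩
  rcases hk with hk | hk
  · have hbv : b.v = false := by
      by_contra h
      obtain ⟨r, hr⟩ := R.even (by simpa using h)
      omega
    have e : beta U b.m (R.u i) (R.u j) = C0 U (R.u i) (R.u j) k := by
      rw [hk]; exact beta_odd (hk ▸ R.kill j)
    rw [e, hbv]
    rcases lt_trichotomy i j with h | rfl | h
    · rw [if_pos h, (R.hc i j h k).1, tC0, if_pos hk]
    · simp [C0_self]
    · rw [if_neg (lt_asymm h), if_pos h, C0_symm, (R.hc j i h k).1, tC0, if_pos hk]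
  · have e : beta U b.m (R.u i) (R.u j) = C1 U (R.u i) (R.u j) k := by
      rw [hk]; exact beta_even (hk ▸ R.kill j)
    rw [e]
    rcases lt_trichotomy i j with h | rfl | h
    · rw [if_pos h, (R.hc i j h k).2, tC1, if_pos hk]
    · rw [if_neg (lt_irrefl _), if_neg (lt_irrefl _), ← q_succ,
        R.hq i _ (by have := i0_le_one o; omega), tq]
      cases hv : b.v
      · rw [R.noLab hv ⟨k + 1, by omega⟩]; simp
      · simp [hk]
    · rw [if_neg (lt_asymm h), if_pos h, C1_symm, (R.hc j i h k).2, (R.hc j i h (k + 1)).1, tC1, tC0,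
        if_pos hk, if_neg (by omega), add_zero]

theorem Real.kill' (R : Real U ν0 b) (i : Fin b.cnt) : ev U.S ((X - C 1) ^ b.m) (R.u i) = 0 := by
  rw [← nu_pow]
  exact R.kill i

theorem Real.det_ne (R : Real U ν0 b) :
    (Matrix.of fun i j => FormSys53.h U.S (X - C 1) b.m (R.u i) (R.u j)).det ≠ 0 := by
  have e : (Matrix.of fun i j => FormSys53.h U.S (X - C 1) b.m (R.u i) (R.u j)) =
      Matrix.of fun i j : Fin b.cnt =>
        (if i < j then (1 : F) else if j < i then 1 else (if b.v = true then 1 else 0)) := by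
    ext i j
    simp only [Matrix.of_apply]
    rw [h_eq_beta, R.top]
  rw [e]
  clear e R
  obtain ⟨m, v, lab⟩ := b
  cases v
  · show (Matrix.of fun i j : Fin 2 =>
        (if i < j then (1 : F) else if j < i then 1 else (if (false : Bool) = true then 1 else 0))).det ≠ 0
    rw [Matrix.det_fin_two]
    simp
  · show (Matrix.of fun i j : Fin 1 =>
        (if i < j then (1 : F) else if j < i then 1 else (if (true : Bool) = true then 1 else 0))).det ≠ 0
    rw [Matrix.det_fin_one]
    simp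

/-- the generators -/
noncomputable def Real.gen (R : Real U ν0 b) : Gen U.S (1 : F) b.m b.cnt where
  hε := one_mul 1
  he := R.hm
  u := R.u
  kill := R.kill'
  det := R.det_ne

/-- the inverse as a polynomial on killed vectors -/
noncomputable def invPoly (F : Type u) [Field F] (m : ℕ) : F[X] := ∑ t ∈ Finset.range m, (X - C 1) ^ t

theorem X_mul_invPoly (m : ℕ) : X * invPoly F m = (X - C 1) ^ m + 1 := by
  haveI : CharP F[X] 2 := inferInstance
  induction m with
  | zero => simp [invPoly, CharTwo.add_self_eq_zero]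
  | succ m ih =>
    rw [invPoly, Finset.sum_range_succ, mul_add, ← invPoly, ih, pow_succ, C_1]
    linear_combination (X - 1 : F[X]) ^ m * CharTwo.two_eq_zero (R := F[X])

theorem gi_killed {m : ℕ} {x : U.S.V} (h : ev U.S ((X - C 1) ^ m) x = 0) :
    gi U.S x = ev U.S (invPoly F m) x := by
  have h1 : ev U.S (X * invPoly F m) x = x := by
    rw [X_mul_invPoly]
    simp only [ev, map_add, map_one, LinearMap.add_apply, Module.End.one_apply] at h ⊢
    rw [h, zero_add]
  conv_lhs => rw [← h1, ev_mul]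
  simp only [ev, aeval_X, gi_g_apply]

theorem evi_killed {m : ℕ} {x : U.S.V} (h : ev U.S ((X - C 1) ^ m) x = 0) (r : F[X]) :
    evi U.S r x = ev U.S (r.comp (invPoly F m)) x := by
  induction r using Polynomial.induction_on' with
  | add p p' hp hp' => simp only [ev, evi, add_comp, map_add, LinearMap.add_apply] at *; rw [hp, hp']
  | monomial n c =>
    simp only [evi, ev, aeval_monomial, monomial_comp, map_mul, aeval_C, Module.End.mul_apply,
      Module.algebraMap_end_apply]
    congr 1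
    induction n with
    | zero => simp
    | succ n ih =>
      rw [pow_succ', Module.End.mul_apply, ih, pow_succ, map_mul, Module.End.mul_apply]
      show gi U.S (ev U.S (invPoly F m ^ n) x) = ev U.S (invPoly F m ^ n) (ev U.S (invPoly F m) x)
      rw [← ev_gi_comm, gi_killed h]

theorem Real.B_Φ (R : Real U ν0 b) (R' : Real U' ν0 b) (r s : Fin b.cnt → F[X]) :
    U.S.B (R.gen.Φ r) (R.gen.Φ s) = U'.S.B (R'.gen.Φ r) (R'.gen.Φ s) := by
  simp only [Gen.Φ_apply, map_sum, LinearMap.sum_apply]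
  refine Finset.sum_congr rfl fun i _ => Finset.sum_congr rfl fun j _ => ?_
  have e : ∀ (W : USys F o) (Z : Real W ν0 b), W.S.B (ev W.S (r j) (Z.u j)) (ev W.S (s i) (Z.u i)) =
      W.S.B (Z.u j) (ev W.S ((r j).comp (invPoly F b.m) * s i) (Z.u i)) := by
    intro W Z
    rw [adjoint, evi_ev_comm, evi_killed (Z.kill' i), ← ev_mul, mul_comm]
  exact (e U R).trans ((R.ev_tables R' j i _).trans (e U' R').symm)

/-- blocks with the same data are isometric -/
theorem Real.uiso (R : Real U ν0 b) (R' : Real U' ν0 b) :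
    UIso (sub U R.gen.piece) (sub U' R'.gen.piece) := by
  classical
  obtain ⟨φ, hφ, hφg⟩ := R.gen.exists_linear R'.gen
  have hB : ∀ x y, (sub U' R'.gen.piece).S.B (φ x) (φ y) = (sub U R.gen.piece).S.B x y := by
    intro x y
    obtain ⟨r, rfl⟩ := R.gen.el_surjective x
    obtain ⟨s, rfl⟩ := R.gen.el_surjective y
    rw [hφ, hφ]
    exact (R.B_Φ R' r s).symm
  refine ⟨φ, hφg, hB, fun ho x => ?_⟩
  obtain ⟨r, rfl⟩ := R.gen.el_surjective x
  rw [hφ]
  show U'.Q (R'.gen.Φ r) = U.Q (R.gen.Φ r)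
  have hadd : ∀ r s, U'.Q (R'.gen.Φ r) = U.Q (R.gen.Φ r) → U'.Q (R'.gen.Φ s) = U.Q (R.gen.Φ s) →
      U'.Q (R'.gen.Φ (r + s)) = U.Q (R.gen.Φ (r + s)) := by
    intro r s h1 h2
    rw [map_add, map_add, U'.Qadd ho, U.Qadd ho, h1, h2, R.B_Φ R']
  have h0 : U'.Q (R'.gen.Φ 0) = U.Q (R.gen.Φ 0) := by
    have hi : i0 o ≤ 0 := by simp [i0, ho]
    rw [map_zero, map_zero]
    exact (q_zero U' hi).trans (q_zero U hi).symm
  have hsingle : ∀ (i : Fin b.cnt) (p : F[X]),
      U'.Q (R'.gen.Φ (Pi.single i p)) = U.Q (R.gen.Φ (Pi.single i p)) := by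
    intro i p
    induction p using Polynomial.induction_on' with
    | add p p' hp hp' => rw [Pi.single_add]; exact hadd _ _ hp hp'
    | monomial n c =>
      have e : ∀ (W : USys F o) (Z : Real W ν0 b), W.Q (Z.gen.Φ (Pi.single i (monomial n c))) =
          c ^ 2 * W.Q (Z.u i) := by
        intro W Z
        have e1 : Z.gen.Φ (Pi.single i (monomial n c)) = c • (W.S.g ^ n) (Z.u i) := by
          rw [Gen.Φ_apply, Finset.sum_eq_single i]
          · simp [ev, aeval_monomial, Real.gen]
          · intro j _ hj; simp [ev, hj]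
          · simp
        rw [e1, W.Qsmul ho]
        congr 1
        clear e1
        induction n with
        | zero => rfl
        | succ n ih => rw [pow_succ', Module.End.mul_apply, W.Qinv ho, ih]
      rw [e U' R', e U R]
      congr 1
      have hi : i0 o ≤ 0 := by simp [i0, ho]
      exact (R'.hq i 0 hi).trans (R.hq i 0 hi).symm
  rw [← Finset.univ_sum_single r]
  exact Finset.sum_induction _ (fun r => U'.Q (R'.gen.Φ r) = U.Q (R.gen.Φ r)) hadd h0
    fun i _ => hsingle i (r i)

end Cfsg.Agent.UniTwoBlk53
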