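import Mathlib
import Cfsg.Agent.Lib.UniTwoBlk53
import Cfsg.Agent.Lib.QuadClassify

/-!
Characteristic two: normalisation of generators.
-/

set_option autoImplicit false
set_option linter.unusedSectionVars false

open Polynomial
open LinearMap (BilinForm)
open Cfsg.Agent.GLClassBound53

namespace Cfsg.Agent.UniTwoStep53

open Cfsg.Agent.FormSys53 Cfsg.Agent.FormSub53 Cfsg.Agent.FormGen53 Cfsg.Agent.UniTwoSys53
  Cfsg.Agent.UniTwoBlk53

universe u

variable {F : Type u} [Field F] {o : Bool} [CharP F 2]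

section field

variable [Finite F]

theorem exists_sqrt (a : F) : ∃ c : F, c ^ 2 = a := by
  obtain ⟨c, hc⟩ := QuadClassify.isSquare_of_two_eq_zero (two_zero (F := F)) a
  exact ⟨c, by rw [hc, pow_two]⟩

theorem exists_nu0 : ∃ ν0 : F, (∀ c : F, c ^ 2 + c ≠ ν0) ∧
    ∀ a : F, ∃ (c : F) (lab : Bool), a + c ^ 2 + c = if lab then ν0 else 0 := by
  classical
  haveI := Fintype.ofFinite F
  have hns : ¬ Function.Surjective fun c : F => c ^ 2 + c := by
    intro h
    have hinj := Finite.injective_iff_surjective.2 h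
    exact zero_ne_one (α := F) (hinj (show (0 : F) ^ 2 + 0 = 1 ^ 2 + 1 by
      linear_combination -(two_zero (F := F))))
  obtain ⟨ν0, hν⟩ := not_forall.1 hns
  have hν' : ∀ c : F, c ^ 2 + c ≠ ν0 := fun c hc => hν ⟨c, hc⟩
  refine ⟨ν0, hν', fun a => ?_⟩
  let f : F × Bool → F := fun x => x.1 ^ 2 + x.1 + if x.2 then ν0 else 0
  have hsurj : Function.Surjective f := by
    have h2 : ∀ y, (Finset.univ.filter fun x => f x = y).card ≤ 2 := by
      intro y
      rcases (Finset.univ.filter fun x => f x = y).eq_empty_or_nonempty with h | ⟨⟨c, e⟩, hc⟩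
      · simp [h]
      refine (Finset.card_le_card (t := {(c, e), (c + 1, e)}) fun x hx => ?_).trans Finset.card_le_two
      obtain ⟨d, e'⟩ := x
      simp only [Finset.mem_filter, Finset.mem_univ, true_and, f] at hc hx
      have key : (c + d) ^ 2 + (c + d) + ((if e = true then ν0 else 0) + if e' = true then ν0 else 0) = 0 := by
        linear_combination hc + hx + (c * d + y) * two_zero (F := F)
      have hee : e' = e := by
        by_contra hne
        refine hν' (c + d) ?_
        cases e <;> cases e' <;> simp at hne key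
        all_goals linear_combination key - ν0 * two_zero (F := F)
      subst hee
      rw [CharTwo.add_self_eq_zero, add_zero] at key
      have hm : (c + d) * (c + d + 1) = 0 := by linear_combination key
      rcases mul_eq_zero.1 hm with h | h
      · rw [Finset.mem_insert]
        exact Or.inl (by rw [show d = c by linear_combination h - c * two_zero (F := F)])
      · rw [Finset.mem_insert, Finset.mem_singleton]
        exact Or.inr (by rw [show d = c + 1 by linear_combination h - (c + 1) * two_zero (F := F)])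
    have himg : Finset.univ.image f = Finset.univ := by
      refine Finset.eq_univ_of_card _ ?_
      refine le_antisymm (Finset.card_le_univ _) ?_
      have := Finset.card_le_mul_card_image (s := Finset.univ) (f := f) 2 fun y _ => h2 y
      simp only [Finset.card_univ, Fintype.card_prod, Fintype.card_bool] at this
      omega
    intro y
    have : y ∈ Finset.univ.image f := by rw [himg]; exact Finset.mem_univ y
    simpa using this
  obtain ⟨⟨c, lab⟩, hc⟩ := hsurj a
  refine ⟨c, lab, ?_⟩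
  simp only [f] at hc
  rw [← hc]
  linear_combination (c ^ 2 + c) * two_zero (F := F)

end field

variable {U : USys F o}

theorem q_add_n {t : ℕ} (ht : i0 o ≤ t) (a d : U.S.V) (p : ℕ) (c : F) :
    q U t (a + c • nu U ((w U ^ p) d)) = q U t a + c ^ 2 * q U (t + 2 * p + 1) d + c * C1 U a d (t + p) := by
  rw [q_add U ht, q_smul U ht, q_nu_w U ht, C0, map_smul, map_smul, smul_eq_mul]
  congr 2
  rw [← B_w_pow, B_wn]

theorem q_add_w {t : ℕ} (ht : i0 o ≤ t) (a d : U.S.V) (p : ℕ) (c : F) :
    q U t (a + c • (w U ^ p) d) = q U t a + c ^ 2 * q U (t + 2 * p) d + c * C0 U a d (t + p) := by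
  rw [q_add U ht, q_smul U ht, q_w_pow U ht, C0, map_smul, map_smul, smul_eq_mul]
  congr 2
  rw [← B_w_pow, B_ww]

theorem C0_left_n (a b d : U.S.V) (p l : ℕ) (c : F) :
    C0 U (a + c • nu U ((w U ^ p) d)) b l = C0 U a b l + c * (C1 U d b (p + l) + C0 U d b (p + l + 1)) := by
  rw [← B_nw]; simp [C0]

theorem C1_left_n (a b d : U.S.V) (p l : ℕ) (c : F) :
    C1 U (a + c • nu U ((w U ^ p) d)) b l = C1 U a b l + c * C0 U d b (p + l + 1) := by
  rw [← B_nn]; simp [C1]

theorem C0_left_w (a b d : U.S.V) (p l : ℕ) (c : F) :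
    C0 U (a + c • (w U ^ p) d) b l = C0 U a b l + c * C0 U d b (p + l) := by
  rw [← B_ww]; simp [C0]

theorem C1_left_w (a b d : U.S.V) (p l : ℕ) (c : F) :
    C1 U (a + c • (w U ^ p) d) b l = C1 U a b l + c * C1 U d b (p + l) := by
  rw [← B_wn]; simp [C1]

theorem C0_right_n (a b d : U.S.V) (p l : ℕ) (c : F) :
    C0 U a (b + c • nu U ((w U ^ p) d)) l = C0 U a b l + c * C1 U a d (l + p) := by
  simp only [C0, map_add, map_smul, smul_eq_mul]
  congr 2
  rw [← B_w_pow, B_wn]

theorem C0_right_w (a b d : U.S.V) (p l : ℕ) (c : F) :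
    C0 U a (b + c • (w U ^ p) d) l = C0 U a b l + c * C0 U a d (l + p) := by
  simp only [C0, map_add, map_smul, smul_eq_mul]
  congr 2
  rw [← Module.End.mul_apply, ← pow_add]

theorem C1_right_n (a b d : U.S.V) (p l : ℕ) (c : F) :
    C1 U a (b + c • nu U ((w U ^ p) d)) l =
      C1 U a b l + c * (C1 U a d (l + p + 1) + C0 U a d (l + p + 1)) := by
  simp only [C0, C1, map_add, map_smul, smul_eq_mul]
  rw [← nu_w_pow, ← Module.End.mul_apply (w U ^ l), ← pow_add, nu_sq, wp_succ, map_add]

theorem C1_right_w (a b d : U.S.V) (p l : ℕ) (c : F) :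
    C1 U a (b + c • (w U ^ p) d) l = C1 U a b l + c * C1 U a d (l + p) := by
  simp only [C1, map_add, map_smul, smul_eq_mul]
  rw [← Module.End.mul_apply (w U ^ l), ← pow_add]

variable {ν0 : F}

/-- one generator of even nilpotency -/
theorem exists_realV {m k : ℕ} (hm : m = 2 * k) (hk : 1 ≤ k) (hkill : ∀ x : U.S.V, (nu U ^ m) x = 0)
    (x : U.S.V) (lab : Bool) (hq : q U k x = 1)
    (hT : ∀ t, i0 o ≤ t → t + 1 = k → q U t x = if lab then ν0 else 0) :
    Nonempty (Real U ν0 ⟨m, true, lab⟩) := by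
  subst hm
  suffices h : ∀ d i, i + d + 1 = k → ∃ y : U.S.V, q U k y = 1 ∧
      (∀ t, i0 o ≤ t → t + 1 = k → q U t y = if lab then ν0 else 0) ∧
      ∀ t, i0 o ≤ t → i ≤ t → t + 1 < k → q U t y = 0 by
    obtain ⟨y, h1, h2, h3⟩ := h (k - 1) 0 (by omega)
    refine ⟨⟨fun _ => y, by show 1 ≤ 2 * k; omega, fun _ => ⟨k, by show 2 * k = k + k; omega⟩,
      fun h => absurd h Bool.true_eq_false.mp, fun _ => hkill y, fun i t ht => ?_, fun i j hij => ?_⟩⟩
    · simp only [tq, if_true]
      rcases lt_trichotomy t k with h | rfl | h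
      · rw [if_neg (by omega)]
        by_cases h' : t + 1 = k
        · rw [h2 t ht h']
          cases lab <;> simp [show 2 * (t + 1) = 2 * k by omega]
        · rw [h3 t ht (Nat.zero_le _) (by omega), if_neg (by omega)]
      · rw [if_pos rfl, h1]
      · rw [q_vanish (hkill y) (by omega), if_neg (by omega), if_neg (by omega)]
    · have h1 := i.isLt
      have h2 := j.isLt
      have h3 : (i : ℕ) < j := hij
      simp only [Blk.cnt, if_true] at h1 h2
      omega
  intro d
  induction d with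
  | zero => intro i hi; exact ⟨x, hq, hT, fun t _ h1 h2 => absurd h2 (by omega)⟩
  | succ d ih =>
    intro i hi
    obtain ⟨y, h1, h2, h3⟩ := ih (i + 1) (by omega)
    by_cases hi0 : i0 o ≤ i
    swap
    · exact ⟨y, h1, h2, fun t ht h4 h5 => h3 t ht (by omega) h5⟩
    obtain ⟨p, rfl⟩ : ∃ p, k = i + p + 1 := ⟨d + 1, by omega⟩
    have hv : ∀ t, i + p + 1 < t → q U t y = 0 := fun t ht => q_vanish (hkill y) (by omega)
    set c := q U i y
    have key : ∀ t, i0 o ≤ t → i ≤ t →
        q U t (y + c • nu U ((w U ^ p) y)) = q U t y + if t = i then c else 0 := by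
      intro t ht hti
      rw [q_add_n ht, hv (t + 2 * p + 1) (by omega), mul_zero, add_zero, ← q_succ]
      congr 1
      split_ifs with h
      · rw [h, h1, mul_one]
      · rw [hv _ (by omega), mul_zero]
    refine ⟨y + c • nu U ((w U ^ p) y), ?_, fun t ht h => ?_, fun t ht hti htk => ?_⟩
    · rw [key _ (by omega) (by omega), if_neg (by omega), add_zero, h1]
    · rw [key _ ht (by omega), if_neg (by omega), add_zero, h2 t ht h]
    · rw [key _ ht hti]
      split_ifs with h
      · subst h; exact CharTwo.add_self_eq_zero c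
      · rw [add_zero, h3 t ht (by omega) htk]

/-- two generators of even nilpotency -/
theorem exists_realW_even {m k : ℕ} (hm : m = 2 * (k + 1)) (hkill : ∀ x : U.S.V, (nu U ^ m) x = 0)
    (x y : U.S.V) (hβ : C1 U x y k = 1) (hx : q U (k + 1) x = 0) (hy : q U (k + 1) y = 0) :
    Nonempty (Real U ν0 ⟨m, false, false⟩) := by
  subst hm
  suffices h : ∀ d i, i + d = k + 1 → ∃ x y : U.S.V, C1 U x y k = 1 ∧
      (∀ t, i ≤ t → C0 U x y t = 0 ∧ C1 U x y t = if t = k then 1 else 0) ∧
      ∀ t, i0 o ≤ t → i ≤ t → q U t x = 0 ∧ q U t y = 0 by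
    obtain ⟨a, b, -, h2, h3⟩ := h (k + 1) 0 (by omega)
    refine ⟨⟨![a, b], by show 1 ≤ 2 * (k + 1); omega, fun h => absurd h Bool.false_ne_true, fun _ _ => rfl,
      fun _ => hkill _, fun i t ht => ?_, fun i j hij l => ?_⟩⟩
    · revert i
      show ∀ i : Fin 2, q U t (![a, b] i) = tq ν0 ⟨_, false, false⟩ i t
      intro i
      fin_cases i <;> simp [tq, (h3 t ht (Nat.zero_le _)).1, (h3 t ht (Nat.zero_le _)).2]
    · revert i j
      show ∀ i j : Fin 2, i < j → C0 U (![a, b] i) (![a, b] j) l = tC0 F ⟨_, false, false⟩ l ∧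
        C1 U (![a, b] i) (![a, b] j) l = tC1 F ⟨_, false, false⟩ l
      intro i j hij
      fin_cases i <;> fin_cases j <;> simp at hij
      refine ⟨?_, ?_⟩
      · simp only [tC0, Fin.zero_eta, Fin.mk_one, Matrix.cons_val_zero, Matrix.cons_val_one]
        rw [if_neg (by omega)]
        exact (h2 l (Nat.zero_le _)).1
      · simp only [tC1, Fin.zero_eta, Fin.mk_one, Matrix.cons_val_zero, Matrix.cons_val_one]
        rw [(h2 l (Nat.zero_le _)).2]
        exact if_congr (by omega) rfl rfl
  intro d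
  induction d with
  | zero =>
    intro i hi
    refine ⟨x, y, hβ, fun t ht => ⟨C0_vanish (hkill y) (by omega), ?_⟩, fun t _ ht => ?_⟩
    · rw [if_neg (by omega), C1_vanish (hkill y) (by omega)]
    · rcases eq_or_lt_of_le ht with h | h
      · rw [← h, show i = k + 1 by omega]; exact ⟨hx, hy⟩
      · exact ⟨q_vanish (hkill x) (by omega), q_vanish (hkill y) (by omega)⟩
  | succ d ih =>
    intro i hi
    obtain ⟨x1, y1, hb1, hC1, hq1⟩ := ih (i + 1) (by omega)
    obtain ⟨p, rfl⟩ : ∃ p, k = i + p := ⟨k - i, by omega⟩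
    have hC : ∀ t, i + p < t → C0 U x1 y1 t = 0 ∧ C1 U x1 y1 t = 0 := fun t ht =>
      ⟨(hC1 t (by omega)).1, by rw [(hC1 t (by omega)).2, if_neg (by omega)]⟩
    have hq0 : ∀ t, i + p < t → q U t x1 = 0 ∧ q U t y1 = 0 := fun t ht =>
      hq1 t (by have := i0_le_one o; omega) (by omega)
    -- the product `C1`
    obtain ⟨x2, hb2, hC2, hq2, hq2x⟩ : ∃ x2 : U.S.V, C1 U x2 y1 (i + p) = 1 ∧
        (∀ t, i ≤ t → C1 U x2 y1 t = (if t = i + p then 1 else 0) ∧ (i < t → C0 U x2 y1 t = 0)) ∧
        (∀ t, i0 o ≤ t → i < t → q U t x2 = 0) ∧ ∀ t, i + p < t → q U t x2 = 0 := by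
      by_cases hp : p = 0
      · subst hp
        refine ⟨x1, hb1, fun t ht => ⟨?_, fun h => (hC1 t h).1⟩, fun t h h' => (hq1 t h h').1,
          fun t h => (hq0 t h).1⟩
        rcases eq_or_lt_of_le ht with h | h
        · rw [← h, if_pos (Nat.add_zero i).symm]; simpa using hb1
        · exact (hC1 t h).2
      set c := C1 U x1 y1 i
      have eC : ∀ t, i ≤ t → C1 U (x1 + c • (w U ^ p) x1) y1 t = (if t = i + p then 1 else 0) := by
        intro t ht
        rw [C1_left_w]
        rcases eq_or_lt_of_le ht with h | h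
        · subst h
          rw [add_comm p i, hb1, mul_one, if_neg (by omega), CharTwo.add_self_eq_zero]
        · rw [(hC (p + t) (by omega)).2, mul_zero, add_zero, (hC1 t h).2]
      have eq' : ∀ t, i0 o ≤ t → i < t → q U t (x1 + c • (w U ^ p) x1) = 0 := by
        intro t ht h
        rw [q_add_w ht, (hq1 t ht h).1, (hq0 _ (by omega)).1, C0_self]; ring
      refine ⟨x1 + c • (w U ^ p) x1, ?_, fun t ht => ⟨eC t ht, fun h => ?_⟩, eq', fun t h => ?_⟩
      · rw [eC _ (by omega), if_pos rfl]
      · rw [C0_left_w, (hC1 t h).1, (hC _ (by omega)).1]; ring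
      · exact eq' t (by have := i0_le_one o; omega) (by omega)
    have hC2' : ∀ t, i + p < t → C0 U x2 y1 t = 0 ∧ C1 U x2 y1 t = 0 := fun t ht =>
      ⟨(hC2 t (by omega)).2 (by omega), by rw [(hC2 t (by omega)).1, if_neg (by omega)]⟩
    -- the product `C0`
    set c2 := C0 U x2 y1 i
    set x3 := x2 + c2 • nu U ((w U ^ p) x2) with hx3
    have hC3 : ∀ t, i ≤ t → C0 U x3 y1 t = 0 ∧ C1 U x3 y1 t = if t = i + p then 1 else 0 := by
      intro t ht
      rw [hx3, C0_left_n, C1_left_n, (hC2 t ht).1, (hC2' (p + t + 1) (by omega)).1, mul_zero, add_zero, add_zero]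
      refine ⟨?_, rfl⟩
      rcases eq_or_lt_of_le ht with h | h
      · subst h
        rw [add_comm p i, hb2, mul_one, CharTwo.add_self_eq_zero]
      · rw [(hC2' (p + t) (by omega)).2, mul_zero, add_zero, (hC2 t ht).2 h]
    have hq3 : ∀ t, i0 o ≤ t → i < t → q U t x3 = 0 := by
      intro t ht h
      rw [hx3, q_add_n ht, hq2 t ht h, hq2x _ (by omega), ← q_succ, hq2x _ (by omega)]; ring
    have hb3 : C1 U x3 y1 (i + p) = 1 := by rw [(hC3 _ (by omega)).2, if_pos rfl]
    by_cases hi0 : i0 o ≤ i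
    swap
    · exact ⟨x3, y1, hb3, hC3, fun t ht hti => ⟨hq3 t ht (by omega), (hq1 t ht (by omega)).2⟩⟩
    have hq3' : ∀ t, i + p < t → q U t x3 = 0 := fun t ht =>
      hq3 t (by have := i0_le_one o; omega) (by omega)
    have hC3' : ∀ t, i + p < t → C0 U x3 y1 t = 0 ∧ C1 U x3 y1 t = 0 := fun t ht =>
      ⟨(hC3 t (by omega)).1, by rw [(hC3 t (by omega)).2, if_neg (by omega)]⟩
    -- the quadratic value of the first
    set c3 := q U i x3
    set x4 := x3 + c3 • nu U ((w U ^ p) y1) with hx4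
    have hC4 : ∀ t, i ≤ t → C0 U x4 y1 t = 0 ∧ C1 U x4 y1 t = if t = i + p then 1 else 0 := by
      intro t ht
      rw [hx4, C0_left_n, C1_left_n, C0_self, ← q_succ, (hq0 _ (by omega)).2, (hC3 t ht).1, (hC3 t ht).2]
      exact ⟨by ring, by ring⟩
    have hq4 : ∀ t, i0 o ≤ t → i ≤ t → q U t x4 = 0 := by
      intro t ht hti
      rw [hx4, q_add_n ht, (hq0 _ (by omega)).2]
      rcases eq_or_lt_of_le hti with h | h
      · subst h
        rw [hb3]
        linear_combination c3 * two_zero (F := F)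
      · rw [hq3 t ht h, (hC3' _ (by omega)).2]; ring
    have hb4 : C1 U x4 y1 (i + p) = 1 := by rw [(hC4 _ (by omega)).2, if_pos rfl]
    -- the quadratic value of the second
    set c4 := q U i y1
    set y5 := y1 + c4 • nu U ((w U ^ p) x4) with hy5
    have hz : ∀ t, i + p < t → q U t x4 = 0 := fun t ht =>
      hq4 t (by have := i0_le_one o; omega) (by omega)
    have hC5 : ∀ t, i ≤ t → C0 U x4 y5 t = 0 ∧ C1 U x4 y5 t = if t = i + p then 1 else 0 := by
      intro t ht
      rw [hy5, C0_right_n x4 y1 x4, C1_right_n x4 y1 x4, C0_self, ← q_succ, ← q_succ, hz _ (by omega), hz _ (by omega),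
        (hC4 t ht).1, (hC4 t ht).2]
      exact ⟨by ring, by ring⟩
    refine ⟨x4, y5, by rw [(hC5 _ (by omega)).2, if_pos rfl], hC5, fun t ht hti => ⟨hq4 t ht hti, ?_⟩⟩
    rw [hy5, q_add_n ht, hz _ (by omega), C1_symm, (hC4 (t + p + 1) (by omega)).1]
    rcases eq_or_lt_of_le hti with h | h
    · subst h
      rw [hb4]
      linear_combination c4 * two_zero (F := F)
    · rw [(hq1 t ht h).2, (hC4 (t + p) (by omega)).2, if_neg (by omega)]; ring

/-- two generators of odd nilpotency -/
theorem exists_realW_odd {m K : ℕ} (hm : m = 2 * K + 1) (hkill : ∀ x : U.S.V, (nu U ^ m) x = 0)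
    (x y : U.S.V) (lab : Bool) (hβ : C0 U x y K = 1)
    (hT : i0 o ≤ K → q U K x = (if lab then ν0 else 0) ∧ q U K y = if lab then 1 else 0) :
    Nonempty (Real U ν0 ⟨m, false, lab⟩) := by
  subst hm
  let Tx : ℕ → F := fun t => if t = K then (if lab then ν0 else 0) else 0
  let Ty : ℕ → F := fun t => if t = K then (if lab then 1 else 0) else 0
  suffices h : ∀ d i, i + d = K → ∃ x y : U.S.V, C0 U x y K = 1 ∧
      (∀ t, i ≤ t → C0 U x y t = (if t = K then 1 else 0) ∧ C1 U x y t = 0) ∧
      ∀ t, i0 o ≤ t → i ≤ t → q U t x = Tx t ∧ q U t y = Ty t by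
    obtain ⟨a, b, -, h2, h3⟩ := h K 0 (by omega)
    refine ⟨⟨![a, b], by show 1 ≤ 2 * K + 1; omega, fun h => absurd h Bool.false_ne_true,
      fun _ h => absurd h (by show ¬ Even (2 * K + 1); simp [Nat.even_add_one]),
      fun _ => hkill _, fun i t ht => ?_, fun i j hij l => ?_⟩⟩
    · revert i
      show ∀ i : Fin 2, q U t (![a, b] i) = tq ν0 ⟨_, false, lab⟩ i t
      intro i
      obtain ⟨e1, e2⟩ := h3 t ht (Nat.zero_le _)
      fin_cases i <;> cases lab <;> simp [tq, e1, e2, Tx, Ty]
    · revert i j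
      show ∀ i j : Fin 2, i < j → C0 U (![a, b] i) (![a, b] j) l = tC0 F ⟨_, false, lab⟩ l ∧
        C1 U (![a, b] i) (![a, b] j) l = tC1 F ⟨_, false, lab⟩ l
      intro i j hij
      fin_cases i <;> fin_cases j <;> simp at hij
      refine ⟨?_, ?_⟩
      · simp only [tC0, Fin.zero_eta, Fin.mk_one, Matrix.cons_val_zero, Matrix.cons_val_one]
        rw [(h2 l (Nat.zero_le _)).1]
        exact if_congr (by omega) rfl rfl
      · simp only [tC1, Fin.zero_eta, Fin.mk_one, Matrix.cons_val_zero, Matrix.cons_val_one]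
        rw [if_neg (by omega)]
        exact (h2 l (Nat.zero_le _)).2
  intro d
  induction d with
  | zero =>
    intro i hi
    refine ⟨x, y, hβ, fun t ht => ⟨?_, C1_vanish (hkill y) (by omega)⟩, fun t h0 ht => ?_⟩
    · rcases eq_or_lt_of_le ht with h | h
      · rw [← h, show i = K by omega, if_pos rfl, hβ]
      · rw [if_neg (by omega), C0_vanish (hkill y) (by omega)]
    · simp only [Tx, Ty]
      rcases eq_or_lt_of_le ht with h | h
      · have ht' : t = K := by omega
        subst ht'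
        simp only [if_true]
        exact hT h0
      · rw [if_neg (by omega), if_neg (by omega)]
        exact ⟨q_vanish (hkill x) (by omega), q_vanish (hkill y) (by omega)⟩
  | succ d ih =>
    intro i hi
    obtain ⟨x1, y1, hb1, hC1, hq1⟩ := ih (i + 1) (by omega)
    obtain ⟨p, rfl⟩ : ∃ p, K = i + p + 1 := ⟨d, by omega⟩
    have hT0 : ∀ t, t ≠ i + p + 1 → Tx t = 0 ∧ Ty t = 0 := fun t h => ⟨if_neg h, if_neg h⟩
    have hC : ∀ t, i + p + 1 < t → C0 U x1 y1 t = 0 := fun t ht => by
      rw [(hC1 t (by omega)).1, if_neg (by omega)]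
    have hq0 : ∀ t, i + p + 1 < t → q U t x1 = 0 ∧ q U t y1 = 0 := fun t ht => by
      obtain ⟨e1, e2⟩ := hq1 t (by have := i0_le_one o; omega) (by omega)
      rw [e1, e2]
      exact hT0 t (by omega)
    -- the product `C1`
    set c1 := C1 U x1 y1 i
    set x2 := x1 + c1 • nu U ((w U ^ p) x1) with hx2
    have hC2 : ∀ t, i ≤ t → C1 U x2 y1 t = 0 ∧ (i < t → C0 U x2 y1 t = if t = i + p + 1 then 1 else 0) := by
      intro t ht
      refine ⟨?_, fun h => ?_⟩
      · rw [hx2, C1_left_n]
        rcases eq_or_lt_of_le ht with h | h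
        · subst h
          rw [show p + i + 1 = i + p + 1 by omega, hb1]
          linear_combination c1 * two_zero (F := F)
        · rw [(hC1 t h).2, hC _ (by omega)]; ring
      · rw [hx2, C0_left_n, (hC1 t h).1, (hC1 (p + t) (by omega)).2, hC _ (by omega)]; ring
    have hq2 : ∀ t, i0 o ≤ t → i < t → q U t x2 = Tx t := by
      intro t ht h
      rw [hx2, q_add_n ht, (hq1 t ht h).1, ← q_succ, (hq0 _ (by omega)).1, (hq0 _ (by omega)).1]; ring
    have hb2 : C0 U x2 y1 (i + p + 1) = 1 := by rw [(hC2 _ (by omega)).2 (by omega), if_pos rfl]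
    have hC2' : ∀ t, i + p + 1 < t → C0 U x2 y1 t = 0 := fun t ht => by
      rw [(hC2 t (by omega)).2 (by omega), if_neg (by omega)]
    have hq2' : ∀ t, i + p + 1 < t → q U t x2 = 0 := fun t ht => by
      rw [hq2 t (by have := i0_le_one o; omega) (by omega)]
      exact (hT0 t (by omega)).1
    -- the product `C0`
    set c2 := C0 U x2 y1 i
    set x3 := x2 + c2 • (w U ^ (p + 1)) x2 with hx3
    have hC3 : ∀ t, i ≤ t → C0 U x3 y1 t = (if t = i + p + 1 then 1 else 0) ∧ C1 U x3 y1 t = 0 := by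
      intro t ht
      rw [hx3, C0_left_w, C1_left_w, (hC2 t ht).1, (hC2 (p + 1 + t) (by omega)).1]
      refine ⟨?_, by ring⟩
      rcases eq_or_lt_of_le ht with h | h
      · subst h
        rw [show p + 1 + i = i + p + 1 by omega, hb2, if_neg (by omega)]
        linear_combination c2 * two_zero (F := F)
      · rw [(hC2 t ht).2 h, hC2' (p + 1 + t) (by omega)]; ring
    have hq3 : ∀ t, i0 o ≤ t → i < t → q U t x3 = Tx t := by
      intro t ht h
      rw [hx3, q_add_w ht, C0_self, hq2 t ht h, hq2' _ (by omega)]; ring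
    have hb3 : C0 U x3 y1 (i + p + 1) = 1 := by rw [(hC3 _ (by omega)).1, if_pos rfl]
    by_cases hi0 : i0 o ≤ i
    swap
    · exact ⟨x3, y1, hb3, hC3, fun t ht hti => ⟨hq3 t ht (by omega), (hq1 t ht (by omega)).2⟩⟩
    have hC3' : ∀ t, i + p + 1 < t → C0 U x3 y1 t = 0 := fun t ht => by
      rw [(hC3 t (by omega)).1, if_neg (by omega)]
    -- the quadratic value of the first
    set c3 := q U i x3
    set x4 := x3 + c3 • (w U ^ (p + 1)) y1 with hx4
    have hC4 : ∀ t, i ≤ t → C0 U x4 y1 t = (if t = i + p + 1 then 1 else 0) ∧ C1 U x4 y1 t = 0 := by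
      intro t ht
      rw [hx4, C0_left_w, C1_left_w, C0_self, ← q_succ, (hq0 _ (by omega)).2, (hC3 t ht).1, (hC3 t ht).2]
      exact ⟨by ring, by ring⟩
    have hq4 : ∀ t, i0 o ≤ t → i ≤ t → q U t x4 = Tx t := by
      intro t ht hti
      rw [hx4, q_add_w ht, (hq0 _ (by omega)).2]
      rcases eq_or_lt_of_le hti with h | h
      · subst h
        rw [show i + (p + 1) = i + p + 1 by omega, hb3, (hT0 i (by omega)).1]
        linear_combination c3 * two_zero (F := F)
      · rw [hq3 t ht h, hC3' _ (by omega)]; ring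
    have hb4 : C0 U x4 y1 (i + p + 1) = 1 := by rw [(hC4 _ (by omega)).1, if_pos rfl]
    have hz : ∀ t, i + p + 1 < t → q U t x4 = 0 := fun t ht => by
      rw [hq4 t (by have := i0_le_one o; omega) (by omega)]
      exact (hT0 t (by omega)).1
    -- the quadratic value of the second
    set c4 := q U i y1
    set y5 := y1 + c4 • (w U ^ (p + 1)) x4 with hy5
    have hC5 : ∀ t, i ≤ t → C0 U x4 y5 t = (if t = i + p + 1 then 1 else 0) ∧ C1 U x4 y5 t = 0 := by
      intro t ht
      rw [hy5, C0_right_w x4 y1 x4, C1_right_w x4 y1 x4, C0_self, ← q_succ, hz _ (by omega), (hC4 t ht).1, (hC4 t ht).2]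
      exact ⟨by ring, by ring⟩
    refine ⟨x4, y5, by rw [(hC5 _ (by omega)).1, if_pos rfl], hC5, fun t ht hti => ⟨hq4 t ht hti, ?_⟩⟩
    rw [hy5, q_add_w ht, hz _ (by omega), C0_symm]
    rcases eq_or_lt_of_le hti with h | h
    · subst h
      rw [show i + (p + 1) = i + p + 1 by omega, hb4, (hT0 i (by omega)).2]
      linear_combination c4 * two_zero (F := F)
    · rw [(hq1 t ht h).2, (hC4 (t + (p + 1)) (by omega)).1, if_neg (by omega)]; ring

end Cfsg.Agent.UniTwoStep53
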