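import Mathlib
import Cfsg.Agent.Lib.UniTwoStep53

/-!
Characteristic two: every unipotent system has a valid list of blocks, determining it up to isometry.
-/

set_option autoImplicit false
set_option linter.unusedSectionVars false

open Polynomial
open LinearMap (BilinForm)
open Cfsg.Agent.GLClassBound53

namespace Cfsg.Agent.UniTwoNorm53

open Cfsg.Agent.FormSys53 Cfsg.Agent.FormSub53 Cfsg.Agent.FormGen53 Cfsg.Agent.UniTwoSys53
  Cfsg.Agent.UniTwoBlk53 Cfsg.Agent.UniTwoStep53

universe u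

/-- order of the kinds of blocks -/
def rank (b : Blk) : ℕ := 2 * b.m + if b.v then 0 else 1

/-- kinds carrying labels -/
def act (b : Blk) : Prop := b.v = true ∨ b.m % 2 = 1

/-- index of the label -/
def Kb (b : Blk) : ℕ := if b.v then b.m / 2 - 1 else b.m / 2

/-- half dimension -/
def wt (b : Blk) : ℕ := if b.v then b.m / 2 else b.m

/-- admissible lists -/
def Valid (o : Bool) : List Blk → Prop
  | [] => True
  | b :: l => Valid o l ∧ 1 ≤ b.m ∧ (b.v = true → Even b.m) ∧ (b.lab = true → i0 o ≤ Kb b ∧ act b) ∧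
      (∀ b' ∈ l, rank b' ≤ rank b) ∧ (b.v = true → l.countP (fun b' => rank b' == rank b) ≤ 1) ∧
      (b.lab = true → ∀ b' ∈ l, act b' → b'.m / 2 < Kb b)

variable {F : Type u} [Field F] {o : Bool} [CharP F 2]

/-! ### restriction to pieces -/

section restrict

variable {U : USys F o} (P : Piece U.S)

theorem gi_coe (x : P.W) : ((gi P.sys x : P.W) : U.S.V) = gi U.S (x : U.S.V) := by
  apply g_injective U.S
  rw [g_gi_apply, ← P.g_coe, g_gi_apply]

theorem nu_coe (x : P.W) : ((nu (sub U P) x : P.W) : U.S.V) = nu U (x : U.S.V) := rfl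

theorem w_coe (x : P.W) : ((w (sub U P) x : P.W) : U.S.V) = w U (x : U.S.V) := by
  show ((P.sys.g x + gi P.sys x : P.W) : U.S.V) = _
  rw [Submodule.coe_add, gi_coe]
  rfl

theorem nu_pow_coe (j : ℕ) (x : P.W) : (((nu (sub U P) ^ j) x : P.W) : U.S.V) = (nu U ^ j) (x : U.S.V) := by
  induction j with
  | zero => rfl
  | succ j ih => rw [pow_succ', pow_succ', Module.End.mul_apply, Module.End.mul_apply, nu_coe, ih]

theorem w_pow_coe (j : ℕ) (x : P.W) : (((w (sub U P) ^ j) x : P.W) : U.S.V) = (w U ^ j) (x : U.S.V) := by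
  induction j with
  | zero => rfl
  | succ j ih => rw [pow_succ', pow_succ', Module.End.mul_apply, Module.End.mul_apply, w_coe, ih]

theorem C0_coe (a b : P.W) (l : ℕ) : C0 (sub U P) a b l = C0 U (a : U.S.V) b l := by
  rw [C0, C0, ← w_pow_coe]
  rfl

theorem C1_coe (a b : P.W) (l : ℕ) : C1 (sub U P) a b l = C1 U (a : U.S.V) b l := by
  rw [C1, C1, ← w_pow_coe, ← nu_coe]
  rfl

theorem q_coe (t : ℕ) (x : P.W) : q (sub U P) t x = q U t (x : U.S.V) := by
  cases t with
  | zero => rfl
  | succ t => rw [q_succ, q_succ]; exact C1_coe P x x t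

theorem beta_coe (m : ℕ) (a b : P.W) : beta (sub U P) m a b = beta U m (a : U.S.V) b := by
  rw [beta, beta, ← nu_pow_coe]
  rfl

theorem kill_coe {m : ℕ} (h : ∀ x : U.S.V, (nu U ^ m) x = 0) (x : P.W) : (nu (sub U P) ^ m) x = 0 :=
  Subtype.ext ((nu_pow_coe P m x).trans (h x))

/-- generators of a block of a piece in the ambient system -/
noncomputable def lift {ν0 : F} {b : Blk} (R : Real (sub U P) ν0 b) : Real U ν0 b where
  u i := ((R.u i : P.W) : U.S.V)
  hm := R.hm
  even := R.even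
  noLab := R.noLab
  kill i := by rw [← nu_pow_coe]; exact congrArg Subtype.val (R.kill i)
  hq i t ht := by rw [← q_coe]; exact R.hq i t ht
  hc i j hij l := by rw [← C0_coe, ← C1_coe]; exact R.hc i j hij l

/-- products across a piece and its complement vanish -/
theorem C0_perp {a : U.S.V} (ha : a ∈ P.W) (z : P.compl.W) (l : ℕ) : C0 U a (z : U.S.V) l = 0 := by
  rw [C0, ← w_pow_coe]
  exact ((w (sub U P.compl) ^ l) z).2 a ha

theorem beta_perp (m : ℕ) {a : U.S.V} (ha : a ∈ P.W) (z : P.compl.W) : beta U m a (z : U.S.V) = 0 := by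
  rw [beta, ← nu_pow_coe]
  exact ((nu (sub U P.compl) ^ (m - 1)) z).2 a ha

end restrict

theorem u_mem {U : USys F o} {ν0 : F} {b : Blk} (R : Real U ν0 b) (i : Fin b.cnt) : R.u i ∈ R.gen.piece.W := by
  classical
  refine ⟨Pi.single i 1, ?_⟩
  rw [Gen.Φ_apply, Finset.sum_eq_single i]
  · simp [ev, Real.gen]
  · intro j _ hj; simp [ev, hj]
  · simp

/-! ### lists of blocks -/

/-- the system has this list of blocks -/
inductive Norm (ν0 : F) : USys F o → List Blk → Prop
  | nil (U : USys F o) : (∀ x : U.S.V, x = 0) → Norm ν0 U []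
  | cons (U : USys F o) (b : Blk) (l : List Blk) (R : Real U ν0 b) :
      Norm ν0 (sub U R.gen.piece.compl) l → Norm ν0 U (b :: l)

variable {ν0 : F}

theorem Norm.mem {U : USys F o} {l : List Blk} (h : Norm ν0 U l) : ∀ b ∈ l, Nonempty (Real U ν0 b) := by
  induction h with
  | nil U _ => simp
  | cons U b l R _ ih =>
    intro c hc
    rcases List.mem_cons.1 hc with rfl | hc
    · exact ⟨R⟩
    · exact (ih c hc).map fun R' => lift _ R'

theorem Norm.uiso {U : USys F o} {l : List Blk} (h : Norm ν0 U l) :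
    ∀ {U' : USys F o}, Norm ν0 U' l → UIso U U' := by
  induction h with
  | nil U h0 =>
    intro U' h'
    cases h' with
    | nil _ h0' =>
      refine ⟨{ toFun := fun _ => 0, map_add' := fun _ _ => (add_zero _).symm,
                map_smul' := fun _ _ => (smul_zero _).symm, invFun := fun _ => 0,
                left_inv := fun x => (h0 x).symm, right_inv := fun x => (h0' x).symm },
        fun x => (h0' _).trans (h0' _).symm, fun x y => ?_, fun ho x => ?_⟩
      · show U'.S.B 0 0 = U.S.B x y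
        rw [h0 x]; simp
      · show U'.Q 0 = U.Q x
        have hi : i0 o ≤ 0 := by simp [i0, ho]
        rw [h0 x]
        exact (q_zero U' hi).trans (q_zero U hi).symm
  | cons U b l R _ ih =>
    intro U' h'
    cases h' with
    | cons _ _ _ R' hn' => exact uiso_of_pieces _ _ (R.uiso R') (ih hn')

theorem m_le {U : USys F o} {b : Blk} (R : Real U ν0 b) {m : ℕ} (hk : ∀ x : U.S.V, (nu U ^ m) x = 0) :
    b.m ≤ m := by
  by_contra h
  have hz : ∀ i, (nu U ^ (b.m - 1)) (R.u i) = 0 := fun i => kill_mono (by omega) (hk _)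
  refine R.det_ne ?_
  rw [show (Matrix.of fun i j => FormSys53.h U.S (X - C 1) b.m (R.u i) (R.u j)) = 0 by
    ext i j
    rw [Matrix.of_apply, h_eq_beta, beta, hz, map_zero]
    rfl]
  have : Nonempty (Fin b.cnt) := ⟨⟨0, by unfold Blk.cnt; split <;> omega⟩⟩
  exact Matrix.det_zero

theorem Gen.finrank_piece {S : Sys F (1 : F)} {ε : F} {e k : ℕ} (G : Gen S ε e k) :
    Module.finrank F G.piece.W = k * e := by
  let f : (Fin k → degreeLT F e) →ₗ[F] G.piece.W :=
    { toFun := fun r => G.el fun i => (r i : F[X])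
      map_add' := fun r s => Subtype.ext (G.Φ.map_add _ _)
      map_smul' := fun c r => Subtype.ext (G.Φ.map_smul c _) }
  have hp : ((X - C ε) ^ e).degree = (e : WithBot ℕ) := by rw [degree_pow, degree_X_sub_C, nsmul_one]
  have hbij : Function.Bijective f := by
    refine ⟨(injective_iff_map_eq_zero f).2 fun r hr => funext fun i => ?_, fun x => ?_⟩
    · have := (G.Φ_eq_zero).1 (congrArg Subtype.val hr) i
      refine Subtype.ext (eq_zero_of_dvd_of_degree_lt this ?_)
      rw [hp]
      exact mem_degreeLT.1 (r i).2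
    · obtain ⟨s, rfl⟩ := G.el_surjective x
      refine ⟨fun i => ⟨s i %ₘ (X - C ε) ^ e, ?_⟩, Subtype.ext (sub_eq_zero.1 ?_)⟩
      · rw [mem_degreeLT, ← hp]
        exact degree_modByMonic_lt _ ((monic_X_sub_C ε).pow e)
      · show G.Φ _ - G.Φ s = 0
        rw [← map_sub, G.Φ_eq_zero]
        intro i
        rw [Pi.sub_apply]
        exact ⟨-(s i /ₘ (X - C ε) ^ e), by linear_combination (modByMonic_add_div (s i) ((X - C ε) ^ e))⟩
  rw [← (LinearEquiv.ofBijective f hbij).finrank_eq, Module.finrank_pi_fintype]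
  simp [(degreeLTEquiv F e).finrank_eq]

theorem Norm.finrank {U : USys F o} {l : List Blk} (h : Norm ν0 U l) :
    Module.finrank F U.S.V = 2 * (l.map wt).sum := by
  induction h with
  | nil U h0 =>
    haveI : Subsingleton U.S.V := ⟨fun a b => (h0 a).trans (h0 b).symm⟩
    simp [Module.finrank_zero_of_subsingleton]
  | cons U b l R _ ih =>
    rw [← R.gen.piece.finrank_add, ih, show Module.finrank F R.gen.piece.sys.V = b.cnt * b.m from
      Gen.finrank_piece R.gen]
    have hb : b.cnt * b.m = 2 * wt b := by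
      have he := R.even
      unfold Blk.cnt wt
      cases hv : b.v
      · simp
      · obtain ⟨k, hk⟩ := he hv
        simp
        omega
    rw [hb, List.map_cons, List.sum_cons, mul_add]

/-! ### existence -/

/-- no two singular vectors pair at the top level -/
def NW (U : USys F o) (m : ℕ) : Prop :=
  ∀ x y : U.S.V, q U (m / 2) x = 0 → q U (m / 2) y = 0 → beta U m x y = 0

/-- a vector absorbing a label of index `K` -/
def Absorb (U : USys F o) (K : ℕ) : Prop := ∃ z : U.S.V, q U K z ≠ 0 ∧ ∀ t, K < t → q U t z = 0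

theorem absorb_of_real {U : USys F o} (hν0 : ∀ c : F, c ^ 2 + c ≠ ν0) {b : Blk} (R : Real U ν0 b) (ha : act b)
    {K : ℕ} (hK0 : i0 o ≤ K) (hK : K ≤ b.m / 2) : Absorb U K := by
  have hne : ν0 ≠ 0 := fun h => hν0 0 (by rw [h]; ring)
  have h0 : 0 < b.cnt := by unfold Blk.cnt; split <;> omega
  obtain ⟨z, hz1, hz2⟩ : ∃ z : U.S.V, q U (b.m / 2) z ≠ 0 ∧ ∀ t, b.m / 2 < t → q U t z = 0 := by
    rcases ha with hv | hodd
    · obtain ⟨k, hk⟩ := R.even hv
      refine ⟨R.u ⟨0, h0⟩, ?_, fun t ht => q_vanish (R.kill _) (by omega)⟩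
      rw [R.hq _ _ (by omega)]
      simp [tq, hv, show 2 * (b.m / 2) = b.m by omega]
    · have hv : b.v = false := by
        by_contra h
        obtain ⟨k, hk⟩ := R.even (by simpa using h)
        omega
      have h1 : 1 < b.cnt := by simp [Blk.cnt, hv]
      by_cases hl : b.lab = true
      · refine ⟨R.u ⟨0, h0⟩, ?_, fun t ht => q_vanish (R.kill _) (by omega)⟩
        rw [R.hq _ _ (by omega)]
        simp [tq, hv, hl, show 2 * (b.m / 2) + 1 = b.m by omega, hne]
      · refine ⟨R.u ⟨0, h0⟩ + R.u ⟨1, h1⟩, ?_, fun t ht => ?_⟩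
        · rw [q_add U (by omega), R.hq _ _ (by omega), R.hq _ _ (by omega),
            (R.hc ⟨0, h0⟩ ⟨1, h1⟩ (Fin.mk_lt_mk.2 Nat.zero_lt_one) _).1]
          simp [tq, tC0, hv, hl, show 2 * (b.m / 2) + 1 = b.m by omega]
        · rw [q_add U (by omega), q_vanish (R.kill _) (by omega), q_vanish (R.kill _) (by omega),
            C0_vanish (R.kill _) (by omega)]
          simp
  refine ⟨(nu U ^ (b.m / 2 - K)) z, ?_, fun t ht => ?_⟩
  · rw [q_nu_pow U hK0, Nat.add_sub_cancel' hK]; exact hz1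
  · rw [q_nu_pow U (by omega)]; exact hz2 _ (by omega)

/-- the block split off first -/
structure First (U : USys F o) (ν0 : F) (m : ℕ) (b : Blk) (R : Real U ν0 b) : Prop where
  hbm : b.m = m
  hnw : b.v = true → NW U m
  hlab : b.lab = true → i0 o ≤ Kb b ∧ act b ∧ ¬ Absorb (sub U R.gen.piece.compl) (Kb b)

variable [Finite F]

theorem first_V {U : USys F o} {k : ℕ} (hk : 1 ≤ k) (hν0 : ∀ a : F, ∃ (c : F) (lab : Bool),
    a + c ^ 2 + c = if lab then ν0 else 0) (hkill : ∀ x : U.S.V, (nu U ^ (2 * k)) x = 0)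
    (x : U.S.V) (hx : q U k x = 1) (hnw : NW U (2 * k)) :
    ∃ (b : Blk) (R : Real U ν0 b), First U ν0 (2 * k) b R := by
  by_cases hK : i0 o ≤ k - 1
  swap
  · obtain ⟨R⟩ := exists_realV (ν0 := ν0) rfl hk hkill x false hx fun t ht h => absurd (by omega) hK
    exact ⟨_, R, rfl, fun _ => hnw, fun h => absurd h Bool.false_ne_true⟩
  obtain ⟨c, lab, hc⟩ := hν0 (q U (k - 1) x)
  have e : ∀ t, i0 o ≤ t → q U t (x + c • nu U ((w U ^ 0) x)) =
      q U t x + c ^ 2 * q U (t + 1) x + c * q U (t + 1) x := fun t ht => by rw [q_add_n ht]; rfl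
  have h1 : q U k (x + c • nu U ((w U ^ 0) x)) = 1 := by
    rw [e k (by omega), hx, q_vanish (hkill x) (by omega)]; ring
  have hT : ∀ t, i0 o ≤ t → t + 1 = k → q U t (x + c • nu U ((w U ^ 0) x)) = if lab then ν0 else 0 := by
    intro t ht h
    rw [e t ht, h, hx, mul_one, mul_one, show t = k - 1 by omega, hc]
  obtain ⟨R⟩ := exists_realV (ν0 := ν0) rfl hk hkill _ lab h1 hT
  by_cases hl : lab = true ∧ Absorb (sub U R.gen.piece.compl) (k - 1)
  swap
  · exact ⟨_, R, rfl, fun _ => hnw, fun h => ⟨by simpa [Kb] using hK, Or.inl rfl, fun ha => hl ⟨h, by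
      simpa [Kb] using ha⟩⟩⟩
  obtain ⟨hl, z, hz, hz'⟩ := hl
  subst hl
  obtain ⟨s, hs⟩ := exists_sqrt (ν0 / q (sub U R.gen.piece.compl) (k - 1) z)
  have h0 : 0 < (Blk.mk (2 * k) true true).cnt := by simp [Blk.cnt]
  set y := R.u ⟨0, h0⟩ with hy
  have ez : ∀ t, i0 o ≤ t → q U t (y + s • (z : U.S.V)) =
      tq ν0 ⟨2 * k, true, true⟩ 0 t + s ^ 2 * q (sub U R.gen.piece.compl) t z := by
    intro t ht
    rw [q_add U ht, q_smul U ht, hy, R.hq _ t ht, q_coe]
    have : C0 U (R.u ⟨0, h0⟩) (s • (z : U.S.V)) t = 0 := by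
      have := C0_perp _ (u_mem R ⟨0, h0⟩) z t
      simp only [C0, map_smul, smul_eq_mul] at this ⊢
      rw [this, mul_zero]
    rw [this, add_zero]
  have h2 : q U k (y + s • (z : U.S.V)) = 1 := by
    rw [ez k (by omega), hz' k (by omega)]
    simp [tq]
  have hT2 : ∀ t, i0 o ≤ t → t + 1 = k → q U t (y + s • (z : U.S.V)) = if false = true then ν0 else 0 := by
    intro t ht h
    rw [ez t ht, hs, show t = k - 1 by omega, div_mul_cancel₀ _ hz]
    have h' : k - 1 + 1 = k := by omega
    simp [tq, h', CharTwo.add_self_eq_zero, show k - 1 ≠ k by omega]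
  obtain ⟨R'⟩ := exists_realV (ν0 := ν0) rfl hk hkill _ false h2 hT2
  exact ⟨_, R', rfl, fun _ => hnw, fun h => absurd h Bool.false_ne_true⟩

/-- the Arf form of a top pair -/
theorem top_pair {U : USys F o} {K : ℕ} (hν0 : ∀ a : F, ∃ (c : F) (lab : Bool),
    a + c ^ 2 + c = if lab then ν0 else 0) (hkill : ∀ x : U.S.V, (nu U ^ (2 * K + 1)) x = 0)
    (x y : U.S.V) (hβ : C0 U x y K = 1) :
    ∃ (x' y' : U.S.V) (lab : Bool), C0 U x' y' K = 1 ∧ (lab = true → i0 o ≤ K) ∧
      (i0 o ≤ K → q U K x' = (if lab then ν0 else 0) ∧ q U K y' = if lab then 1 else 0) := by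
  by_cases hK : i0 o ≤ K
  swap
  · exact ⟨x, y, false, hβ, fun h => absurd h Bool.false_ne_true, fun h => absurd h hK⟩
  have hyx : C0 U y x K = 1 := by rw [C0_symm, hβ]
  by_cases ha : q U K x = 0
  · refine ⟨x, y + q U K y • x, false, ?_, fun h => absurd h Bool.false_ne_true, fun _ => ⟨by simpa using ha, ?_⟩⟩
    · simp only [C0, map_add, map_smul, smul_eq_mul] at hβ ⊢
      rw [hβ, show U.S.B x ((w U ^ K) x) = 0 from C0_self U K x, mul_zero, add_zero]
    · rw [q_add U hK, q_smul U hK, ha]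
      simp only [C0, map_smul, smul_eq_mul] at hyx ⊢
      rw [hyx]
      simp [CharTwo.add_self_eq_zero]
  by_cases hb : q U K y = 0
  · refine ⟨x + q U K x • y, y, false, ?_, fun h => absurd h Bool.false_ne_true, fun _ => ⟨?_, by simpa using hb⟩⟩
    · simp only [C0, map_add, map_smul, LinearMap.add_apply, LinearMap.smul_apply, smul_eq_mul] at hβ ⊢
      rw [hβ, show U.S.B y ((w U ^ K) y) = 0 from C0_self U K y, mul_zero, add_zero]
    · rw [q_add U hK, q_smul U hK, hb]
      simp only [C0, map_smul, smul_eq_mul] at hβ ⊢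
      rw [hβ]
      simp [CharTwo.add_self_eq_zero]
  obtain ⟨s, hs⟩ := exists_sqrt (q U K y)
  have hs0 : s ≠ 0 := fun h => hb (by rw [← hs, h]; ring)
  obtain ⟨c, lab, hc⟩ := hν0 (q U K x * q U K y)
  have hy1 : q U K (s⁻¹ • y) = 1 := by
    rw [q_smul U hK, ← hs, inv_pow, inv_mul_cancel₀ (pow_ne_zero 2 hs0)]
  have hb1 : C0 U (s • x) (s⁻¹ • y) K = 1 := by
    simp only [C0, map_smul, LinearMap.smul_apply, smul_eq_mul] at hβ ⊢
    rw [hβ]; field_simp
  have hb2 : C0 U (s • x + c • (s⁻¹ • y)) (s⁻¹ • y) K = 1 := by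
    have h0 := C0_self U K y
    simp only [C0, map_add, map_smul, LinearMap.add_apply, LinearMap.smul_apply, smul_eq_mul] at hb1 h0 ⊢
    linear_combination hb1 + s⁻¹ * c * s⁻¹ * h0
  have hx2 : q U K (s • x + c • (s⁻¹ • y)) = if lab then ν0 else 0 := by
    rw [← hc, q_add U hK, q_smul U hK s, q_smul U hK c, hy1, hs]
    simp only [C0, map_smul, LinearMap.smul_apply, smul_eq_mul] at hb1 ⊢
    linear_combination c * hb1
  cases lab
  · set x' := s • x + c • (s⁻¹ • y)
    refine ⟨x', s⁻¹ • y + x', false, ?_, fun h => absurd h Bool.false_ne_true, fun _ => ⟨hx2, ?_⟩⟩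
    · have h0 := C0_self U K x'
      simp only [C0, map_add] at hb2 h0 ⊢
      rw [hb2, h0, add_zero]
    · rw [q_add U hK, hy1, hx2, C0_symm, hb2]
      simp [CharTwo.add_self_eq_zero]
  · exact ⟨_, _, true, hb2, fun _ => hK, fun _ => ⟨hx2, by simpa using hy1⟩⟩

theorem first_W {U : USys F o} {K : ℕ} (hν0 : ∀ a : F, ∃ (c : F) (lab : Bool),
    a + c ^ 2 + c = if lab then ν0 else 0) (hkill : ∀ x : U.S.V, (nu U ^ (2 * K + 1)) x = 0)
    (x y : U.S.V) (hβ : C0 U x y K = 1) :
    ∃ (b : Blk) (R : Real U ν0 b), First U ν0 (2 * K + 1) b R := by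
  obtain ⟨x1, y1, lab, hb1, hlK, hT⟩ := top_pair hν0 hkill x y hβ
  obtain ⟨R⟩ := exists_realW_odd (ν0 := ν0) rfl hkill x1 y1 lab hb1 hT
  have hKb : Kb ⟨2 * K + 1, false, lab⟩ = K := by simp [Kb]; omega
  by_cases hl : lab = true ∧ Absorb (sub U R.gen.piece.compl) K
  swap
  · refine ⟨_, R, rfl, fun h => absurd h Bool.false_ne_true, fun h => ⟨by rw [hKb]; exact hlK h, Or.inr ?_, ?_⟩⟩
    · show (2 * K + 1) % 2 = 1
      omega
    · rw [hKb]; exact fun ha => hl ⟨h, ha⟩
  obtain ⟨hl, z, hz, hz'⟩ := hl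
  subst hl
  have hK : i0 o ≤ K := hlK rfl
  obtain ⟨s, hs⟩ := exists_sqrt (ν0 / q (sub U R.gen.piece.compl) K z)
  have h0 : 0 < (Blk.mk (2 * K + 1) false true).cnt := by simp [Blk.cnt]
  have h1 : 1 < (Blk.mk (2 * K + 1) false true).cnt := by simp [Blk.cnt]
  set a := R.u ⟨0, h0⟩ with ha
  set b := R.u ⟨1, h1⟩ with hb
  have pa : C0 U a (z : U.S.V) K = 0 := C0_perp _ (u_mem R _) z K
  have pb : C0 U b (z : U.S.V) K = 0 := C0_perp _ (u_mem R _) z K
  have hab : C0 U a b K = 1 := by
    rw [ha, hb, (R.hc ⟨0, h0⟩ ⟨1, h1⟩ (Fin.mk_lt_mk.2 Nat.zero_lt_one) K).1]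
    simp [tC0]
  have qa : q U K a = ν0 := by rw [ha, R.hq _ K hK]; simp [tq]
  have qb : q U K b = 1 := by rw [hb, R.hq _ K hK]; simp [tq]
  set x' := a + s • (z : U.S.V) with hx'
  have qx : q U K x' = 0 := by
    rw [hx', q_add U hK, q_smul U hK, qa, hs, ← q_coe, div_mul_cancel₀ _ hz]
    simp only [C0, map_smul, smul_eq_mul] at pa ⊢
    rw [pa]
    simp [CharTwo.add_self_eq_zero]
  have bxy : C0 U x' b K = 1 := by
    have pb' : U.S.B (z : U.S.V) ((w U ^ K) b) = 0 := (C0_symm U b (z : U.S.V) K).trans pb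
    simp only [hx', C0, map_add, map_smul, LinearMap.add_apply, LinearMap.smul_apply, smul_eq_mul] at hab ⊢
    rw [hab, pb', mul_zero, add_zero]
  have bxy' : C0 U x' (b + x') K = 1 := by
    have h0 := C0_self U K x'
    simp only [C0, map_add] at bxy h0 ⊢
    rw [bxy, h0, add_zero]
  have qy : q U K (b + x') = 0 := by
    rw [q_add U hK, qb, qx, C0_symm, bxy]
    simp [CharTwo.add_self_eq_zero]
  obtain ⟨R'⟩ := exists_realW_odd (ν0 := ν0) rfl hkill x' (b + x') false bxy'
    (fun _ => ⟨by simpa using qx, by simpa using qy⟩)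
  exact ⟨_, R', rfl, fun h => absurd h Bool.false_ne_true, fun h => absurd h Bool.false_ne_true⟩

theorem exists_first {U : USys F o} {m : ℕ} (hν0 : ∀ a : F, ∃ (c : F) (lab : Bool),
    a + c ^ 2 + c = if lab then ν0 else 0) (hm : 1 ≤ m)
    (hkill : ∀ x : U.S.V, (nu U ^ m) x = 0) (htop : ∃ x : U.S.V, (nu U ^ (m - 1)) x ≠ 0) :
    ∃ (b : Blk) (R : Real U ν0 b), First U ν0 m b R := by
  obtain ⟨y, hy⟩ := htop
  obtain ⟨x, hx⟩ : ∃ x, beta U m x y ≠ 0 := by
    by_contra h
    push Not at h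
    exact hy (U.S.nd _ fun x => by rw [UniTwoSys53.sym']; exact h x)
  have scale : ∀ a b : U.S.V, beta U m a b ≠ 0 → beta U m a ((beta U m a b)⁻¹ • b) = 1 := by
    intro a b h
    simp only [beta, map_smul, smul_eq_mul] at h ⊢
    exact inv_mul_cancel₀ h
  rcases Nat.even_or_odd' m with ⟨k, rfl | rfl⟩
  · obtain ⟨j, rfl⟩ : ∃ j, k = j + 1 := ⟨k - 1, by omega⟩
    have hq0 : i0 o ≤ j + 1 := by have := i0_le_one o; omega
    by_cases hnw : NW U (2 * (j + 1))
    · have hhalf : 2 * (j + 1) / 2 = j + 1 := by omega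
      obtain ⟨x0, hx0⟩ : ∃ x0, q U (j + 1) x0 ≠ 0 := by
        by_contra h
        push Not at h
        exact hx (hnw x y (by rw [hhalf]; exact h x) (by rw [hhalf]; exact h y))
      obtain ⟨s, hs⟩ := exists_sqrt (q U (j + 1) x0)⁻¹
      exact first_V (by omega) hν0 hkill (s • x0) (by rw [q_smul U hq0, hs, inv_mul_cancel₀ hx0]) hnw
    · have hhalf : 2 * (j + 1) / 2 = j + 1 := by omega
      unfold NW at hnw
      push Not at hnw
      obtain ⟨a, b, ha, hb, hab⟩ := hnw
      rw [hhalf] at ha hb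
      have hone := scale a b hab
      rw [beta_even (hkill _)] at hone
      obtain ⟨R⟩ := exists_realW_even (ν0 := ν0) rfl hkill a _ hone ha (by rw [q_smul U hq0, hb, mul_zero])
      exact ⟨_, R, rfl, fun h => absurd h Bool.false_ne_true, fun h => absurd h Bool.false_ne_true⟩
  · have hone := scale x y hx
    rw [beta_odd (hkill _)] at hone
    exact first_W hν0 hkill x _ hone

theorem rank_lt_or {b b' : Blk} (h : rank b' = rank b) : b'.m = b.m ∧ b'.v = b.v := by
  unfold rank at h
  cases hv : b.v <;> cases hv' : b'.v <;> simp [hv, hv'] at h ⊢ <;> omega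

theorem exists_norm (hν1 : ∀ c : F, c ^ 2 + c ≠ ν0) (hν0 : ∀ a : F, ∃ (c : F) (lab : Bool),
    a + c ^ 2 + c = if lab then ν0 else 0) : ∀ (n : ℕ) (U : USys F o), Module.finrank F U.S.V ≤ n →
    (∃ M, ∀ x : U.S.V, (nu U ^ M) x = 0) → ∃ l, Valid o l ∧ Norm ν0 U l := by
  intro n
  induction n with
  | zero =>
    intro U hn _
    haveI : Subsingleton U.S.V := Module.finrank_zero_iff.1 (Nat.le_zero.1 hn)
    exact ⟨[], trivial, Norm.nil U fun x => Subsingleton.elim _ _⟩
  | succ n ih =>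
    intro U hn hM
    classical
    by_cases hz : ∀ x : U.S.V, x = 0
    · exact ⟨[], trivial, Norm.nil U hz⟩
    set m := Nat.find hM
    have hkill : ∀ x : U.S.V, (nu U ^ m) x = 0 := Nat.find_spec hM
    have hm : 1 ≤ m := by
      by_contra h
      exact hz fun x => by simpa [show m = 0 by omega] using hkill x
    have htop : ∃ x : U.S.V, (nu U ^ (m - 1)) x ≠ 0 := by
      have := Nat.find_min hM (show m - 1 < m by omega)
      push Not at this
      exact this
    obtain ⟨b, R, hF⟩ := exists_first hν0 hm hkill htop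
    have hbm := hF.hbm
    set U' := sub U R.gen.piece.compl
    have hlt : Module.finrank F U'.S.V ≤ n := by
      have h1 := R.gen.piece.finrank_add
      have h2 : Module.finrank F R.gen.piece.sys.V = b.cnt * b.m := Gen.finrank_piece R.gen
      have h3 : 0 < b.cnt * b.m := Nat.mul_pos (by unfold Blk.cnt; split <;> omega) R.hm
      change Module.finrank F R.gen.piece.compl.sys.V ≤ n
      omega
    obtain ⟨l, hl, hnorm⟩ := ih U' hlt ⟨m, fun x => kill_coe R.gen.piece.compl hkill x⟩
    have hrank : ∀ b' ∈ l, rank b' ≤ rank b := by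
      intro b' hb'
      obtain ⟨R'⟩ := hnorm.mem b' hb'
      have hle := m_le R' (fun x => kill_coe R.gen.piece.compl hkill x)
      by_contra hcon
      unfold rank at hcon
      cases hv : b.v <;> cases hv' : b'.v <;> simp [hv, hv'] at hcon <;> try omega
      have hm' : b'.m = b.m := by omega
      obtain ⟨k, hk⟩ := R.even hv
      have hlab := R'.noLab hv' ⟨k, by omega⟩
      have hcnt : 1 < b'.cnt := by simp [Blk.cnt, hv']
      have hq : ∀ i : Fin b'.cnt, q U (m / 2) ((R'.u i : R.gen.piece.compl.W) : U.S.V) = 0 := by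
        intro i
        rw [← q_coe]
        exact (R'.hq i _ (by have := i0_le_one o; omega)).trans (by simp [tq, hv', hlab])
      have := hF.hnw hv ((R'.u ⟨0, by omega⟩ : R.gen.piece.compl.W) : U.S.V)
        ((R'.u ⟨1, hcnt⟩ : R.gen.piece.compl.W) : U.S.V) (hq _) (hq _)
      rw [show m = b'.m by omega, ← beta_coe, R'.top] at this
      simp at this
    refine ⟨b :: l, ⟨hl, R.hm, R.even, fun h => ⟨(hF.hlab h).1, (hF.hlab h).2.1⟩, hrank, fun hv => ?_,
      fun hlab b' hb' ha => ?_⟩, Norm.cons U b l R hnorm⟩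
    · by_contra hcon
      push Not at hcon
      obtain ⟨k, hk⟩ := R.even hv
      cases hnorm with
      | nil => simp at hcon
      | cons _ b2 l2 R2 hn2 =>
        obtain ⟨-, -, -, -, hr2, -, -⟩ := hl
        obtain ⟨b3, hb3, hb3r⟩ : ∃ b3 ∈ l2, rank b3 = rank b := by
          by_contra h
          push Not at h
          rw [List.countP_cons, List.countP_eq_zero.2 (fun a ha => by simpa using h a ha)] at hcon
          split at hcon <;> omega
        have e2 : rank b2 = rank b :=
          le_antisymm (hrank b2 (List.mem_cons_self)) (hb3r ▸ hr2 b3 hb3)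
        obtain ⟨R3⟩ := hn2.mem b3 hb3
        obtain ⟨m2, v2⟩ := rank_lt_or e2
        obtain ⟨m3, v3⟩ := rank_lt_or hb3r
        rw [hv] at v2 v3
        have cpos : ∀ c : Blk, 0 < c.cnt := fun c => by unfold Blk.cnt; split <;> omega
        set v1' := R.u ⟨0, cpos b⟩
        set v2' : U.S.V := ((R2.u ⟨0, cpos b2⟩ : R.gen.piece.compl.W) : U.S.V)
        set v3' : U.S.V := (((R3.u ⟨0, cpos b3⟩ : R2.gen.piece.compl.W) : R.gen.piece.compl.W) : U.S.V)
        have hi : i0 o ≤ m / 2 := by have := i0_le_one o; omega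
        have q1 : q U (m / 2) v1' = 1 := by
          rw [R.hq _ _ hi]; simp [tq, hv, show 2 * (m / 2) = b.m by omega]
        have q2 : q U (m / 2) v2' = 1 := by
          rw [← q_coe]
          exact (R2.hq _ _ hi).trans (by simp [tq, v2, show 2 * (m / 2) = b2.m by omega])
        have q3 : q U (m / 2) v3' = 1 := by
          rw [← q_coe, ← q_coe]
          exact (R3.hq _ _ hi).trans (by simp [tq, v3, show 2 * (m / 2) = b3.m by omega])
        have hz0 : ∀ a c : U.S.V, C0 U a c (m / 2) = 0 := fun a c => C0_vanish (hkill c) (by omega)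
        have hs : ∀ a c : U.S.V, q U (m / 2) a = 1 → q U (m / 2) c = 1 → q U (m / 2) (a + c) = 0 := by
          intro a c ha hc
          rw [q_add U hi, ha, hc, hz0, add_zero, CharTwo.add_self_eq_zero]
        have := hF.hnw hv (v1' + v2') (v2' + v3') (hs _ _ q1 q2) (hs _ _ q2 q3)
        have b22 : beta U m v2' v2' = 1 := by
          rw [show m = b2.m by omega, ← beta_coe, R2.top]
          simp [v2]
        have b12 : beta U m v1' v2' = 0 := beta_perp _ m (u_mem R _) _
        have b13 : beta U m v1' v3' = 0 := beta_perp _ m (u_mem R _) _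
        have b23 : beta U m v2' v3' = 0 :=
          (beta_coe _ m _ _).symm.trans (beta_perp R2.gen.piece m (u_mem R2 _) _)
        simp only [beta, map_add, LinearMap.add_apply] at this b22 b12 b13 b23
        rw [b22, b12, b13, b23] at this
        simp at this
    · by_contra hcon
      push Not at hcon
      obtain ⟨R'⟩ := hnorm.mem b' hb'
      exact (hF.hlab hlab).2.2 (absorb_of_real hν1 R' ha (hF.hlab hlab).1 hcon)

end Cfsg.Agent.UniTwoNorm53
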