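import Mathlib
import Cfsg.Agent.Lib.UniTwoNorm53

/-!
Characteristic two: the series of valid lists at `1/2`.
-/

set_option autoImplicit false
set_option linter.unusedSectionVars false

namespace Cfsg.Agent.UniTwoCount53

open Cfsg.Agent.UniTwoSys53 Cfsg.Agent.UniTwoBlk53 Cfsg.Agent.UniTwoNorm53

variable {o : Bool}

theorem valid_filter (p : Blk → Bool) : ∀ {l : List Blk}, Valid o l → Valid o (l.filter p) := by
  intro l
  induction l with
  | nil => intro h; exact h
  | cons b l ih =>
    rintro ⟨hl, h1, h2, h3, h4, h5, h6⟩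
    rw [List.filter_cons]
    split
    · exact ⟨ih hl, h1, h2, h3, fun b' hb' => h4 b' (List.mem_of_mem_filter hb'),
        fun hv => (List.Sublist.countP_le List.filter_sublist).trans (h5 hv),
        fun hlab b' hb' => h6 hlab b' (List.mem_of_mem_filter hb')⟩
    · exact ih hl

theorem Valid.mem : ∀ {l : List Blk}, Valid o l → ∀ b ∈ l,
    1 ≤ b.m ∧ (b.v = true → Even b.m) ∧ (b.lab = true → i0 o ≤ Kb b ∧ act b) := by
  intro l
  induction l with
  | nil => intro _ b hb; simp at hb
  | cons a l ih =>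
    rintro ⟨hl, h1, h2, h3, -, -, -⟩ b hb
    rcases List.mem_cons.1 hb with rfl | hb
    · exact ⟨h1, h2, h3⟩
    · exact ih hl b hb

/-- a label excludes lower absorbing blocks -/
theorem Valid.lab_lt : ∀ {l : List Blk}, Valid o l → ∀ b ∈ l, b.lab = true → ∀ b' ∈ l, rank b' < rank b →
    act b' → b'.m / 2 < Kb b := by
  intro l
  induction l with
  | nil => intro _ b hb; simp at hb
  | cons a l ih =>
    rintro ⟨hl, -, -, -, h4, -, h6⟩ b hb hlab b' hb' hr ha
    rcases List.mem_cons.1 hb with rfl | hb1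
    · rcases List.mem_cons.1 hb' with rfl | hb2
      · omega
      · exact h6 hlab b' hb2 ha
    · rcases List.mem_cons.1 hb' with rfl | hb2
      · have := h4 b hb1
        omega
      · exact ih hl b hb1 hlab b' hb2 hr ha

/-- at most two blocks with one generator in each size -/
theorem Valid.count_v : ∀ {l : List Blk}, Valid o l → ∀ M,
    l.countP (fun b => b.v && (b.m == M)) ≤ 2 := by
  intro l
  induction l with
  | nil => intros; simp
  | cons a l ih =>
    rintro ⟨hl, -, -, -, -, h5, -⟩ M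
    rw [List.countP_cons]
    have := ih hl M
    by_cases h : (a.v && (a.m == M)) = true
    · simp only [Bool.and_eq_true, beq_iff_eq] at h
      have := h5 h.1
      have e : l.countP (fun b => b.v && (b.m == M)) ≤ l.countP (fun b' => rank b' == rank a) := by
        refine List.countP_mono_left fun b _ hb => ?_
        simp only [Bool.and_eq_true, beq_iff_eq] at hb ⊢
        unfold rank
        rw [h.1, hb.1, hb.2, h.2]
      split <;> omega
    · rw [if_neg h]
      omega

/-- at most one label in each level -/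
theorem Valid.count_lab : ∀ {l : List Blk}, Valid o l → ∀ k, (∀ b ∈ l, b.m ≤ 2 * k + 2) →
    l.countP (fun b => b.lab && decide (2 * k < b.m)) ≤ 1 := by
  intro l
  induction l with
  | nil => intros; simp
  | cons a l ih =>
    rintro ⟨hl, -, h2, h7, -, -, h6⟩ k hk
    rw [List.countP_cons]
    by_cases h : (a.lab && decide (2 * k < a.m)) = true
    · rw [if_pos h]
      simp only [Bool.and_eq_true, decide_eq_true_eq] at h
      suffices e : l.countP (fun b => b.lab && decide (2 * k < b.m)) = 0 by omega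
      refine List.countP_eq_zero.2 fun b hb hb' => ?_
      simp only [Bool.and_eq_true, decide_eq_true_eq] at hb'
      have hlt := h6 h.1 b hb ((Valid.mem hl b hb).2.2 hb'.1).2
      have h1 := hk a List.mem_cons_self
      have h3 := hk b (List.mem_cons_of_mem _ hb)
      unfold Kb at hlt
      cases hv : a.v
      · simp only [hv, Bool.false_eq_true, if_false] at hlt
        rcases (h7 h.1).2 with h5 | h5
        · simp [hv] at h5
        · omega
      · obtain ⟨j, hj⟩ := h2 hv
        simp only [hv, if_true] at hlt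
        omega
    · rw [if_neg h, Nat.add_zero]
      exact ih hl k fun b hb => hk b (List.mem_cons_of_mem _ hb)

/-- tie breaking order -/
def key (b : Blk) : ℕ := 2 * rank b + if b.lab then 0 else 1

theorem key_injective : Function.Injective key := by
  rintro ⟨m, v, lab⟩ ⟨m', v', lab'⟩ h
  simp only [key, rank] at h
  cases v <;> cases v' <;> cases lab <;> cases lab' <;> simp at h ⊢ <;> omega

theorem Valid.pairwise : ∀ {l : List Blk}, Valid o l → l.Pairwise fun a b => key b ≤ key a := by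
  intro l
  induction l with
  | nil => intro _; exact List.Pairwise.nil
  | cons a l ih =>
    rintro ⟨hl, h1, h2, h3, h4, -, h6⟩
    refine List.Pairwise.cons (fun b hb => ?_) (ih hl)
    have hr := h4 b hb
    rcases lt_or_eq_of_le hr with hlt | heq
    · unfold key; split <;> split <;> omega
    · obtain ⟨hm, hv⟩ := rank_lt_or heq
      cases hla : a.lab
      · unfold key; rw [hla, heq]; split <;> simp
      · exfalso
        have ha := (h3 hla).2
        have hb' : act b := by unfold act at *; rw [hm, hv]; exact ha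
        have := h6 hla b hb hb'
        unfold Kb at this
        rw [hm] at this
        split at this <;> omega

theorem ext_of_count {l l' : List Blk} (h : Valid o l) (h' : Valid o l')
    (hc : ∀ b, l.count b = l'.count b) : l = l' := by
  haveI : Std.Antisymm fun a b : Blk => key b ≤ key a :=
    ⟨fun a b h1 h2 => key_injective (le_antisymm h2 h1)⟩
  exact List.Perm.eq_of_pairwise' (Valid.pairwise h) (Valid.pairwise h') (List.perm_iff_count.2 hc)

/-! ### levels -/

/-- blocks of size at most `2k` -/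
def low (k : ℕ) (l : List Blk) : List Blk := l.filter fun b => decide (b.m ≤ 2 * k)

/-- one generator of size `2k` present -/
def hasV (k : ℕ) (l : List Blk) : Bool := l.any fun b => b.v && (b.m == 2 * k)

/-- number of blocks of size `2k+1` -/
def nC (k : ℕ) (l : List Blk) : ℕ := l.countP fun b => b.m == 2 * k + 1

/-- number of two-generator blocks of size `2k+2` -/
def nD (k : ℕ) (l : List Blk) : ℕ := l.countP fun b => !b.v && (b.m == 2 * k + 2)

/-- number of one-generator blocks of size `2k+2` -/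
def nE (k : ℕ) (l : List Blk) : ℕ := l.countP fun b => b.v && (b.m == 2 * k + 2)

/-- labelled -/
def hasLab (k : ℕ) (l : List Blk) : Bool := l.any fun b => b.lab && decide (2 * k < b.m)

theorem low_le {k : ℕ} {l : List Blk} : ∀ b ∈ low k l, b.m ≤ 2 * k := fun b hb => by
  simpa using (List.mem_filter.1 hb).2

theorem hasV_low (k : ℕ) (l : List Blk) : hasV k (low k l) = hasV k l := by
  rw [hasV, hasV, low, List.any_filter]
  congr 1
  funext b
  by_cases h : b.m = 2 * k
  · simp [h]
  · simp [h]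

section level

variable {k : ℕ} {l : List Blk}

theorem lab_facts (h : Valid o l) (hk : ∀ b ∈ l, b.m ≤ 2 * k + 2) (hl : hasLab k l = true) :
    i0 o ≤ k ∧ hasV k l = false ∧ (0 < nC k l ∨ 0 < nE k l) ∧
      ∀ b ∈ l, b.lab = true → 2 * k < b.m →
        (0 < nC k l → b.m = 2 * k + 1 ∧ b.v = false) ∧ (nC k l = 0 → b.m = 2 * k + 2 ∧ b.v = true) := by
  have main : ∀ b ∈ l, b.lab = true → 2 * k < b.m → i0 o ≤ k ∧ hasV k l = false ∧
      ((b.m = 2 * k + 1 ∧ b.v = false ∧ 0 < nC k l) ∨ (b.m = 2 * k + 2 ∧ b.v = true ∧ 0 < nE k l ∧ nC k l = 0)) := by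
    intro b hb hlab hlt
    obtain ⟨-, heven, hact⟩ := Valid.mem h b hb
    obtain ⟨hK, hact⟩ := hact hlab
    have hle := hk b hb
    have hKb : Kb b = k := by
      unfold Kb
      cases hv : b.v
      · simp; rcases hact with h | h
        · simp [hv] at h
        · omega
      · obtain ⟨j, hj⟩ := heven hv
        simp; omega
    refine ⟨by rwa [hKb] at hK, ?_, ?_⟩
    · by_contra hcon
      simp only [hasV, Bool.not_eq_false, List.any_eq_true, Bool.and_eq_true, beq_iff_eq] at hcon
      obtain ⟨b', hb', hv', hm'⟩ := hcon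
      have hr : rank b' < rank b := by unfold rank; rw [hm']; split <;> split <;> omega
      have := Valid.lab_lt h b hb hlab b' hb' hr (Or.inl hv')
      omega
    · cases hv : b.v
      · have hm : b.m = 2 * k + 1 := by
          rcases hact with h | h
          · simp [hv] at h
          · omega
        exact Or.inl ⟨hm, rfl, List.countP_pos_iff.2 ⟨b, hb, by simp [hm]⟩⟩
      · obtain ⟨j, hj⟩ := heven hv
        have hm : b.m = 2 * k + 2 := by omega
        refine Or.inr ⟨hm, rfl, List.countP_pos_iff.2 ⟨b, hb, by simp [hm, hv]⟩, List.countP_eq_zero.2 ?_⟩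
        intro b' hb' hm'
        simp only [beq_iff_eq] at hm'
        have hr : rank b' < rank b := by unfold rank; rw [hm', hm, hv]; split <;> simp <;> omega
        have := Valid.lab_lt h b hb hlab b' hb' hr (Or.inr (by omega))
        omega
  obtain ⟨b, hb, hb'⟩ := List.any_eq_true.1 hl
  simp only [Bool.and_eq_true, decide_eq_true_eq] at hb'
  obtain ⟨h1, h2, h3⟩ := main b hb hb'.1 hb'.2
  refine ⟨h1, h2, by rcases h3 with ⟨-, -, e⟩ | ⟨-, -, e, -⟩; exacts [Or.inl e, Or.inr e], fun c hc hcl hclt => ?_⟩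
  obtain ⟨-, -, h⟩ := main c hc hcl hclt
  rcases h with ⟨e1, e2, e3⟩ | ⟨e1, e2, -, e4⟩
  · exact ⟨fun _ => ⟨e1, e2⟩, fun h0 => absurd h0 (by omega)⟩
  · exact ⟨fun h0 => absurd h0 (by omega), fun _ => ⟨e1, e2⟩⟩

theorem count_lab_eq (h : Valid o l) (hk : ∀ b ∈ l, b.m ≤ 2 * k + 2) :
    l.countP (fun b => b.lab && decide (2 * k < b.m)) = if hasLab k l then 1 else 0 := by
  have h1 := Valid.count_lab h k hk
  cases hl : hasLab k l
  · simp only [Bool.false_eq_true, if_false]
    refine List.countP_eq_zero.2 fun b hb hb' => ?_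
    have : hasLab k l = true := List.any_eq_true.2 ⟨b, hb, hb'⟩
    rw [hl] at this
    exact Bool.false_ne_true this
  · simp only [if_true]
    obtain ⟨b, hb, hb'⟩ := List.any_eq_true.1 hl
    have : 0 < l.countP (fun b => b.lab && decide (2 * k < b.m)) := List.countP_pos_iff.2 ⟨b, hb, hb'⟩
    omega

theorem count_top (h : Valid o l) (hk : ∀ b ∈ l, b.m ≤ 2 * k + 2) :
    l.count ⟨2 * k + 1, false, true⟩ = (if hasLab k l = true ∧ 0 < nC k l then 1 else 0) ∧
    l.count ⟨2 * k + 2, true, true⟩ = (if hasLab k l = true ∧ nC k l = 0 then 1 else 0) ∧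
    l.count ⟨2 * k + 1, false, true⟩ + l.count ⟨2 * k + 1, false, false⟩ = nC k l ∧
    l.count ⟨2 * k + 2, false, false⟩ = nD k l ∧
    l.count ⟨2 * k + 2, true, true⟩ + l.count ⟨2 * k + 2, true, false⟩ = nE k l ∧
    l.count ⟨2 * k + 2, false, true⟩ = 0 ∧
    ∀ lab, l.count ⟨2 * k + 1, true, lab⟩ = 0 := by
  have hv1 : ∀ b ∈ l, b.m = 2 * k + 1 → b.v = false := fun b hb hm => by
    by_contra hv
    obtain ⟨j, hj⟩ := (Valid.mem h b hb).2.1 (by simpa using hv)
    omega
  have hl2 : ∀ b ∈ l, b.m = 2 * k + 2 → b.v = false → b.lab = false := fun b hb hm hv => by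
    by_contra hlab
    rcases ((Valid.mem h b hb).2.2 (by simpa using hlab)).2 with h | h
    · simp [hv] at h
    · omega
  have split2 : ∀ (p p1 p2 : Blk → Bool), (∀ b ∈ l, p b = (p1 b || p2 b)) → (∀ b ∈ l, ¬(p1 b = true ∧ p2 b = true)) →
      l.countP p1 + l.countP p2 = l.countP p := by
    intro p p1 p2 he hd
    clear h hk hv1 hl2
    induction l with
    | nil => rfl
    | cons a l ih =>
      have := ih (fun b hb => he b (List.mem_cons_of_mem _ hb)) (fun b hb => hd b (List.mem_cons_of_mem _ hb))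
      have e := he a List.mem_cons_self
      have d := hd a List.mem_cons_self
      simp only [List.countP_cons, e]
      cases h1 : p1 a <;> cases h2 : p2 a <;> simp [h1, h2] at d ⊢ <;> omega
  have cnt : ∀ c : Blk, l.count c = l.countP fun b => b == c := fun c => rfl
  have hz : ∀ c : Blk, (∀ b ∈ l, b ≠ c) → l.count c = 0 := fun c hc =>
    List.count_eq_zero.2 fun hm => hc c hm rfl
  refine ⟨?_, ?_, ?_, ?_, ?_, hz _ fun b hb e => ?_, fun lab => hz _ fun b hb e => ?_⟩
  · split_ifs with hc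
    · have e := count_lab_eq h hk
      rw [if_pos hc.1] at e
      refine Eq.trans ?_ e
      rw [cnt]
      refine List.countP_congr fun b hb => ?_
      simp only [beq_iff_eq, Bool.and_eq_true, decide_eq_true_eq]
      refine ⟨fun hbe => by subst hbe; exact ⟨rfl, by simp⟩, fun hbe => ?_⟩
      obtain ⟨h1, h2⟩ := ((lab_facts h hk hc.1).2.2.2 b hb hbe.1 hbe.2).1 hc.2
      obtain ⟨bm, bv, bl⟩ := b
      simp_all
    · refine hz _ fun b hb e => hc ⟨List.any_eq_true.2 ⟨b, hb, by subst e; simp⟩,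
        List.countP_pos_iff.2 ⟨b, hb, by subst e; simp⟩⟩
  · split_ifs with hc
    · have e := count_lab_eq h hk
      rw [if_pos hc.1] at e
      refine Eq.trans ?_ e
      rw [cnt]
      refine List.countP_congr fun b hb => ?_
      simp only [beq_iff_eq, Bool.and_eq_true, decide_eq_true_eq]
      refine ⟨fun hbe => by subst hbe; exact ⟨rfl, by simp⟩, fun hbe => ?_⟩
      obtain ⟨h1, h2⟩ := ((lab_facts h hk hc.1).2.2.2 b hb hbe.1 hbe.2).2 hc.2
      obtain ⟨bm, bv, bl⟩ := b
      simp_all
    · refine hz _ fun b hb e => hc ?_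
      have hl : hasLab k l = true := List.any_eq_true.2 ⟨b, hb, by subst e; simp⟩
      refine ⟨hl, ?_⟩
      by_contra hne
      have := ((lab_facts h hk hl).2.2.2 b hb (by rw [e]) (by rw [e]; simp)).1 (Nat.pos_of_ne_zero hne)
      rw [e] at this
      simp at this
  · rw [cnt, cnt, nC]
    refine split2 _ _ _ (fun b hb => ?_) fun b _ => ?_
    · have := hv1 b hb
      obtain ⟨bm, bv, bl⟩ := b
      rw [Bool.eq_iff_iff]
      simp only [Bool.or_eq_true, beq_iff_eq, Blk.mk.injEq]
      simp only at this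
      cases bl <;> simp <;> exact this
    · rintro ⟨h1, h2⟩
      simp only [beq_iff_eq] at h1 h2
      rw [h1] at h2
      simp at h2
  · rw [cnt, nD]
    refine List.countP_congr fun b hb => ?_
    have := hl2 b hb
    obtain ⟨bm, bv, bl⟩ := b
    simp only [beq_iff_eq, Blk.mk.injEq, Bool.and_eq_true, Bool.not_eq_true']
    simp only at this
    exact ⟨fun e => ⟨e.2.1, e.1⟩, fun e => ⟨e.2, e.1, this e.2 e.1⟩⟩
  · rw [cnt, cnt, nE]
    refine split2 _ _ _ (fun b hb => ?_) fun b _ => ?_
    · obtain ⟨bm, bv, bl⟩ := b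
      rw [Bool.eq_iff_iff]
      simp only [Bool.or_eq_true, Bool.and_eq_true, beq_iff_eq, Blk.mk.injEq]
      cases bl <;> simp [and_comm]
    · rintro ⟨h1, h2⟩
      simp only [beq_iff_eq] at h1 h2
      rw [h1] at h2
      simp at h2
  · have := hl2 b hb
    rw [e] at this
    simp at this
  · have := hv1 b hb
    rw [e] at this
    simp at this

theorem count_low (c : Blk) (hc : c.m ≤ 2 * k) : l.count c = (low k l).count c := by
  rw [low, List.count_filter (by simpa using hc)]

theorem data_inj {l' : List Blk} (h : Valid o l) (h' : Valid o l') (hk : ∀ b ∈ l, b.m ≤ 2 * k + 2)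
    (hk' : ∀ b ∈ l', b.m ≤ 2 * k + 2) (e1 : low k l = low k l') (e2 : nC k l = nC k l') (e3 : nD k l = nD k l')
    (e4 : nE k l = nE k l') (e5 : hasLab k l = hasLab k l') : l = l' := by
  refine ext_of_count h h' fun c => ?_
  by_cases hc : c.m ≤ 2 * k
  · exact ((count_low c hc).trans (congrArg (List.count c) e1)).trans (count_low c hc).symm
  obtain ⟨a1, a2, a3, a4, a5, a6, a7⟩ := count_top h hk
  obtain ⟨b1, b2, b3, b4, b5, b6, b7⟩ := count_top h' hk'
  rw [← e2, ← e5] at b1 b2
  obtain ⟨cm, cv, cl⟩ := c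
  simp only [not_le] at hc
  by_cases h1 : cm = 2 * k + 1
  · subst h1
    cases cv
    · cases cl
      · omega
      · rw [a1, b1]
    · rw [a7, b7]
  · by_cases h2 : cm = 2 * k + 2
    · subst h2
      cases cv <;> cases cl
      · omega
      · rw [a6, b6]
      · omega
      · rw [a2, b2]
    · rw [List.count_eq_zero.2 fun hm => absurd (hk _ hm) (by simp only; omega),
        List.count_eq_zero.2 fun hm => absurd (hk' _ hm) (by simp only; omega)]

/-- weight -/
def wl (l : List Blk) : ℕ := (l.map wt).sum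

theorem wl_eq : ∀ {l : List Blk}, (∀ b ∈ l, b.m ≤ 2 * k + 2) → (∀ b ∈ l, b.v = true → Even b.m) →
    wl l = wl (low k l) + nC k l * (2 * k + 1) + nD k l * (2 * k + 2) + nE k l * (k + 1) := by
  intro l
  induction l with
  | nil => intros; simp [wl, low, nC, nD, nE]
  | cons a l ih =>
    intro hk hv
    have := ih (fun b hb => hk b (List.mem_cons_of_mem _ hb)) (fun b hb => hv b (List.mem_cons_of_mem _ hb))
    have ha := hk a List.mem_cons_self
    have hva := hv a List.mem_cons_self
    obtain ⟨m, v, lab⟩ := a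
    simp only at ha hva
    simp only [wl, low, nC, nD, nE, List.map_cons, List.sum_cons, List.countP_cons, List.filter_cons] at this ⊢
    by_cases hm : m ≤ 2 * k
    · simp only [hm, decide_true, if_true, List.map_cons, List.sum_cons]
      rw [this]
      simp [show m ≠ 2 * k + 1 by omega, show m ≠ 2 * k + 2 by omega]
      ring
    · simp only [hm, decide_false, Bool.false_eq_true, if_false]
      rw [this]
      cases v
      · by_cases h1 : m = 2 * k + 1
        · subst h1; simp [wt]; ring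
        · obtain rfl : m = 2 * k + 2 := by omega
          simp [wt]; ring
      · obtain ⟨j, hj⟩ := hva rfl
        obtain rfl : m = 2 * k + 2 := by omega
        simp [wt, show (2 * k + 2) / 2 = k + 1 by omega]
        ring

end level

/-! ### the series -/

/-- weight at `1/2` -/
def zw (l : List Blk) : ℚ := (1 / 2) ^ wl l

/-- classes of lists up to size `2k` -/
def Bd (o : Bool) (k : ℕ) (v : Option Bool) (X : ℚ) : Prop :=
  ∀ s : Finset (List Blk), (∀ l ∈ s, Valid o l ∧ (∀ b ∈ l, b.m ≤ 2 * k) ∧ (∀ x ∈ v, hasV k l = x)) →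
    ∑ l ∈ s, zw l ≤ X

theorem Bd.split {k : ℕ} {a b : ℚ} (ha : Bd o k (some false) a) (hb : Bd o k (some true) b) :
    Bd o k none (a + b) := by
  intro s hs
  rw [← Finset.sum_filter_add_sum_filter_not s (fun l => hasV k l = false)]
  refine add_le_add (ha _ fun l hl => ?_) (hb _ fun l hl => ?_)
  · rw [Finset.mem_filter] at hl
    exact ⟨(hs l hl.1).1, (hs l hl.1).2.1, fun x hx => by cases hx; exact hl.2⟩
  · rw [Finset.mem_filter] at hl
    exact ⟨(hs l hl.1).1, (hs l hl.1).2.1, fun x hx => by cases hx; simpa using hl.2⟩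

theorem geom_le {x : ℚ} (h0 : 0 ≤ x) (h1 : x < 1) (t : Finset ℕ) (c : ℕ) (ht : ∀ i ∈ t, c ≤ i) :
    ∑ i ∈ t, x ^ i ≤ x ^ c / (1 - x) := by
  refine le_trans (Finset.sum_le_sum_of_subset_of_nonneg (t := Finset.Ico c (t.sup id + 1)) ?_
    fun i _ _ => pow_nonneg h0 i) (geom_sum_Ico_le_of_lt_one h0 h1)
  intro i hi
  exact Finset.mem_Ico.2 ⟨ht i hi, Nat.lt_succ_of_le (Finset.le_sup (f := id) hi)⟩

/-- one kind of top -/
theorem part {k : ℕ} {v : Option Bool} {X : ℚ} (hX : Bd o k v X) (hX0 : 0 ≤ X) (c0 e : ℕ) (lab : Bool)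
    (s : Finset (List Blk)) (hs : ∀ l ∈ s, Valid o l ∧ (∀ b ∈ l, b.m ≤ 2 * k + 2) ∧ (∀ x ∈ v, hasV k l = x) ∧
      c0 ≤ nC k l ∧ nE k l = e ∧ hasLab k l = lab) :
    ∑ l ∈ s, zw l ≤ X * (((1 / 2) ^ (2 * k + 1)) ^ c0 / (1 - (1 / 2) ^ (2 * k + 1))) *
      (1 / (1 - (1 / 2) ^ (2 * k + 2))) * ((1 / 2) ^ (k + 1)) ^ e := by
  classical
  set x1 : ℚ := (1 / 2) ^ (2 * k + 1)
  set x2 : ℚ := (1 / 2) ^ (2 * k + 2)
  set h : ℚ := (1 / 2) ^ (k + 1)
  have hx1 : x1 < 1 := pow_lt_one₀ (by norm_num) (by norm_num) (by omega)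
  have hx2 : x2 < 1 := pow_lt_one₀ (by norm_num) (by norm_num) (by omega)
  let f : List Blk → List Blk × ℕ × ℕ := fun l => (low k l, nC k l, nD k l)
  have hinj : Set.InjOn f s := by
    intro a ha b hb hab
    simp only [f, Prod.mk.injEq] at hab
    obtain ⟨va, ka, -, -, ea, la⟩ := hs a ha
    obtain ⟨vb, kb, -, -, eb, lb⟩ := hs b hb
    exact data_inj va vb ka kb hab.1 hab.2.1 hab.2.2 (ea.trans eb.symm) (la.trans lb.symm)
  have hw : ∀ l ∈ s, zw l = zw (f l).1 * (x1 ^ (f l).2.1 * x2 ^ (f l).2.2) * h ^ e := by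
    intro l hl
    obtain ⟨vl, kl, -, -, el, -⟩ := hs l hl
    simp only [zw, f, x1, x2, h]
    rw [wl_eq kl (fun b hb => (Valid.mem vl b hb).2.1), el, pow_add, pow_add, pow_add, ← pow_mul, ← pow_mul,
      ← pow_mul, mul_comm (nC k l), mul_comm (nD k l), mul_comm e]
    ring
  rw [Finset.sum_congr rfl hw, ← Finset.sum_mul]
  refine mul_le_mul_of_nonneg_right ?_ (pow_nonneg (pow_nonneg (by norm_num) _) e)
  rw [← Finset.sum_image (g := f) (f := fun t : List Blk × ℕ × ℕ => zw t.1 * (x1 ^ t.2.1 * x2 ^ t.2.2)) hinj]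
  let R := s.image fun l => low k l
  let C := s.image fun l => nC k l
  let D := s.image fun l => nD k l
  refine le_trans (Finset.sum_le_sum_of_subset_of_nonneg (t := R ×ˢ (C ×ˢ D)) ?_ ?_) ?_
  · intro t ht
    obtain ⟨l, hl, rfl⟩ := Finset.mem_image.1 ht
    simp only [Finset.mem_product, R, C, D, f]
    exact ⟨Finset.mem_image_of_mem _ hl, Finset.mem_image_of_mem _ hl, Finset.mem_image_of_mem _ hl⟩
  · intro t _ _
    exact mul_nonneg (pow_nonneg (by norm_num) _) (mul_nonneg (pow_nonneg (pow_nonneg (by norm_num) _) _)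
      (pow_nonneg (pow_nonneg (by norm_num) _) _))
  rw [Finset.sum_product]
  dsimp only
  rw [← Finset.sum_mul_sum, Finset.sum_product]
  dsimp only
  rw [← Finset.sum_mul_sum, mul_assoc]
  have hR : ∑ r ∈ R, zw r ≤ X := hX R fun r hr => by
    obtain ⟨l, hl, rfl⟩ := Finset.mem_image.1 hr
    exact ⟨valid_filter _ (hs l hl).1, low_le, fun x hx => by rw [hasV_low]; exact (hs l hl).2.2.1 x hx⟩
  have hC := geom_le (pow_nonneg (by norm_num) _) hx1 C c0 fun i hi => by
    obtain ⟨l, hl, rfl⟩ := Finset.mem_image.1 hi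
    exact (hs l hl).2.2.2.1
  have hD := geom_le (pow_nonneg (by norm_num) _) hx2 D 0 fun i _ => Nat.zero_le i
  rw [pow_zero] at hD
  have n1 : (0 : ℚ) ≤ ∑ i ∈ C, x1 ^ i := Finset.sum_nonneg fun i _ => pow_nonneg (pow_nonneg (by norm_num) _) i
  have n2 : (0 : ℚ) ≤ ∑ i ∈ D, x2 ^ i := Finset.sum_nonneg fun i _ => pow_nonneg (pow_nonneg (by norm_num) _) i
  have n3 : (0 : ℚ) ≤ x1 ^ c0 / (1 - x1) :=
    div_nonneg (pow_nonneg (pow_nonneg (by norm_num) _) _) (sub_nonneg.2 hx1.le)
  exact mul_le_mul hR (mul_le_mul hC hD n2 n3) (mul_nonneg n1 n2) hX0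

/-- multiplicity of a label -/
def L (o : Bool) (k : ℕ) : ℚ := if i0 o ≤ k then 2 else 1

/-- factor of the blocks of size `2k+1` beyond none -/
def G (k : ℕ) : ℚ := (1 / 2) ^ (2 * k + 1) / (1 - (1 / 2) ^ (2 * k + 1))

/-- factor of the two-generator blocks of size `2k+2` -/
def D (k : ℕ) : ℚ := 1 / (1 - (1 / 2) ^ (2 * k + 2))

/-- one or two one-generator blocks of size `2k+2` -/
def H (k : ℕ) : ℚ := (1 / 2) ^ (k + 1) + ((1 / 2) ^ (k + 1)) ^ 2

theorem G_nonneg (k : ℕ) : 0 ≤ G k :=
  div_nonneg (pow_nonneg (by norm_num) _) (sub_nonneg.2 (pow_le_one₀ (by norm_num) (by norm_num)))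

theorem D_nonneg (k : ℕ) : 0 ≤ D k :=
  div_nonneg zero_le_one (sub_nonneg.2 (pow_le_one₀ (by norm_num) (by norm_num)))

theorem H_nonneg (k : ℕ) : 0 ≤ H k := by unfold H; positivity

/-- the transfer recursion -/
def A (o : Bool) : ℕ → ℚ × ℚ
  | 0 => (1, 0)
  | k + 1 => ((((A o k).1 * (1 + L o k * G k) + (A o k).2 * (1 + G k)) * D k),
      ((A o k).1 * L o k + (A o k).2) * ((1 + G k) * D k * H k))

theorem L_ge (o : Bool) (k : ℕ) : 1 ≤ L o k := by unfold L; split <;> norm_num

theorem A_nonneg (o : Bool) : ∀ k, 0 ≤ (A o k).1 ∧ 0 ≤ (A o k).2 := by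
  intro k
  induction k with
  | zero => simp [A]
  | succ k ih =>
    have := G_nonneg k
    have := D_nonneg k
    have := H_nonneg k
    have := L_ge o k
    obtain ⟨h1, h2⟩ := ih
    simp only [A]
    constructor
    · refine mul_nonneg (add_nonneg (mul_nonneg h1 ?_) (mul_nonneg h2 ?_)) (D_nonneg k) <;> nlinarith
    · refine mul_nonneg (add_nonneg (mul_nonneg h1 (by linarith)) h2) ?_
      positivity

theorem bound : ∀ k, Bd o k (some false) (A o k).1 ∧ Bd o k (some true) (A o k).2 := by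
  classical
  intro k
  induction k with
  | zero =>
    have h0 : ∀ l, Valid o l → (∀ b ∈ l, b.m ≤ 2 * 0) → l = [] := by
      intro l hl hk
      refine List.eq_nil_iff_forall_not_mem.2 fun b hb => ?_
      have := hk b hb
      have := (Valid.mem hl b hb).1
      omega
    refine ⟨fun s hs => ?_, fun s hs => ?_⟩
    · refine le_trans (Finset.sum_le_sum_of_subset_of_nonneg (t := {[]}) (fun l hl => ?_)
        fun i _ _ => pow_nonneg (by norm_num) _) ?_
      · rw [Finset.mem_singleton]; exact h0 l (hs l hl).1 (hs l hl).2.1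
      · simp [A, zw, wl]
    · suffices h : s = ∅ by rw [h]; simp [A]
      refine Finset.eq_empty_of_forall_notMem fun l hl => ?_
      have := (hs l hl).2.2 true rfl
      rw [h0 l (hs l hl).1 (hs l hl).2.1] at this
      simp [hasV] at this
  | succ k ih =>
    obtain ⟨ha, hb⟩ := ih
    have hab := ha.split hb
    obtain ⟨na, nb⟩ := A_nonneg o k
    have hG := G_nonneg k
    have hD := D_nonneg k
    set a := (A o k).1
    set b := (A o k).2
    have g0 : ((1 / 2 : ℚ) ^ (2 * k + 1)) ^ 0 / (1 - (1 / 2) ^ (2 * k + 1)) = 1 + G k := by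
      have : (1 : ℚ) - (1 / 2) ^ (2 * k + 1) ≠ 0 :=
        sub_ne_zero.2 (ne_of_gt (pow_lt_one₀ (by norm_num) (by norm_num) (by omega)))
      rw [G, pow_zero, eq_comm, ← sub_eq_zero]
      field_simp
      ring
    have g1 : ((1 / 2 : ℚ) ^ (2 * k + 1)) ^ 1 / (1 - (1 / 2) ^ (2 * k + 1)) = G k := by rw [G, pow_one]
    -- the lists with a given number of one-generator blocks on top
    have key : ∀ (e : ℕ) (s : Finset (List Blk)), (∀ l ∈ s, Valid o l ∧ (∀ b ∈ l, b.m ≤ 2 * k + 2) ∧ nE k l = e) →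
        ∑ l ∈ s, zw l ≤ ((a + b) * (1 + G k) + (L o k - 1) * (a * (if e = 0 then G k else 1 + G k))) * D k *
          ((1 / 2) ^ (k + 1)) ^ e := by
      intro e s hs
      rw [← Finset.sum_filter_add_sum_filter_not s (fun l => hasLab k l = false)]
      have h1 : ∑ l ∈ s.filter (fun l => hasLab k l = false), zw l ≤
          (a + b) * (1 + G k) * D k * ((1 / 2) ^ (k + 1)) ^ e := by
        have := part hab (add_nonneg na nb) 0 e false (s.filter fun l => hasLab k l = false) fun l hl => by
          rw [Finset.mem_filter] at hl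
          obtain ⟨v, hk, he⟩ := hs l hl.1
          exact ⟨v, hk, fun x hx => by simp at hx, Nat.zero_le _, he, hl.2⟩
        rw [g0] at this
        exact this
      have h2 : ∑ l ∈ s.filter (fun l => ¬ hasLab k l = false), zw l ≤
          (L o k - 1) * (a * (if e = 0 then G k else 1 + G k)) * D k * ((1 / 2) ^ (k + 1)) ^ e := by
        by_cases hk0 : i0 o ≤ k
        · have hL : L o k - 1 = 1 := by rw [L, if_pos hk0]; norm_num
          rw [hL, one_mul]
          have := part ha na (if e = 0 then 1 else 0) e true (s.filter fun l => ¬ hasLab k l = false) fun l hl => by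
            rw [Finset.mem_filter] at hl
            obtain ⟨v, hk, he⟩ := hs l hl.1
            have hlab : hasLab k l = true := by simpa using hl.2
            obtain ⟨-, hV, hor, -⟩ := lab_facts v hk hlab
            refine ⟨v, hk, fun x hx => by cases hx; exact hV, ?_, he, hlab⟩
            split_ifs with h
            · omega
            · exact Nat.zero_le _
          split_ifs at this ⊢ with h
          · rw [g1] at this; exact this
          · rw [g0] at this; exact this
        · rw [Finset.sum_eq_zero fun l hl => ?_]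
          · have : L o k - 1 = 0 := by rw [L, if_neg hk0]; norm_num
            rw [this]; simp
          rw [Finset.mem_filter] at hl
          obtain ⟨v, hk, -⟩ := hs l hl.1
          exact absurd (lab_facts v hk (by simpa using hl.2)).1 hk0
      linarith
    have hV : ∀ l : List Blk, hasV (k + 1) l = true ↔ 0 < nE k l := fun l => by
      simp only [hasV, nE, List.any_eq_true, List.countP_pos_iff, show 2 * (k + 1) = 2 * k + 2 by ring]
    refine ⟨fun s hs => ?_, fun s hs => ?_⟩
    · refine (key 0 s fun l hl => ⟨(hs l hl).1, fun b hb => by have := (hs l hl).2.1 b hb; omega, ?_⟩).trans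
        (le_of_eq ?_)
      · by_contra h
        have := (hs l hl).2.2 false rfl
        rw [(hV l).2 (Nat.pos_of_ne_zero h)] at this
        exact Bool.true_eq_false.mp this
      · simp only [A, if_true, pow_zero, mul_one]
        ring
    · rw [← Finset.sum_filter_add_sum_filter_not s (fun l => nE k l = 1)]
      have hk' : ∀ l ∈ s, ∀ b ∈ l, b.m ≤ 2 * k + 2 := fun l hl b hb => by
        have := (hs l hl).2.1 b hb; omega
      refine (add_le_add
        (key 1 _ fun l hl => ?_) (key 2 _ fun l hl => ?_)).trans (le_of_eq ?_)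
      · rw [Finset.mem_filter] at hl
        exact ⟨(hs l hl.1).1, hk' l hl.1, hl.2⟩
      · rw [Finset.mem_filter] at hl
        refine ⟨(hs l hl.1).1, hk' l hl.1, ?_⟩
        have h1 := (hV l).1 ((hs l hl.1).2.2 true rfl)
        have h2 : nE k l ≤ 2 := Valid.count_v (hs l hl.1).1 (2 * k + 2)
        omega
      · simp only [A, H, if_neg one_ne_zero, if_neg (show (2 : ℕ) ≠ 0 by norm_num), pow_one]
        ring

/-! ### numerical bounds -/

/-- scale -/
def P : ℕ := 10 ^ 7

/-- label multiplicity as a natural number -/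
def Ln (o : Bool) (k : ℕ) : ℕ := if i0 o ≤ k then 2 else 1

/-- upper bounds in units of `1/P` -/
def UB (o : Bool) : ℕ → ℕ × ℕ
  | 0 => (P, 0)
  | k + 1 =>
    (((UB o k).1 * (2 ^ (2 * k + 1) - 1 + Ln o k) + (UB o k).2 * 2 ^ (2 * k + 1)) * 2 ^ (2 * k + 2) /
        ((2 ^ (2 * k + 1) - 1) * (2 ^ (2 * k + 2) - 1)) + 1,
      ((UB o k).1 * Ln o k + (UB o k).2) * 2 ^ (2 * k + 1) * (2 ^ (k + 1) + 1) /
        ((2 ^ (2 * k + 1) - 1) * (2 ^ (2 * k + 2) - 1)) + 1)

theorem le_div_succ (x d : ℕ) (hd : 0 < d) : (x : ℚ) / d ≤ ((x / d + 1 : ℕ) : ℚ) := by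
  rw [div_le_iff₀ (by exact_mod_cast hd)]
  exact_mod_cast (Nat.lt_mul_div_succ x hd).le.trans_eq (mul_comm _ _)

theorem A_le_UB (o : Bool) : ∀ k, (A o k).1 * P ≤ (UB o k).1 ∧ (A o k).2 * P ≤ (UB o k).2 := by
  intro k
  induction k with
  | zero => simp [A, UB]
  | succ k ih =>
    obtain ⟨i1, i2⟩ := ih
    obtain ⟨n, hn⟩ : ∃ n, 2 ^ (2 * k + 1) = n + 1 := ⟨_, (Nat.sub_add_cancel Nat.one_le_two_pow).symm⟩
    obtain ⟨m, hm⟩ : ∃ m, 2 ^ (2 * k + 2) = m + 1 := ⟨_, (Nat.sub_add_cancel Nat.one_le_two_pow).symm⟩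
    have hn0 : 0 < n := by
      have : 2 ^ 1 ≤ 2 ^ (2 * k + 1) := Nat.pow_le_pow_right (by norm_num) (by omega)
      omega
    have hm0 : 0 < m := by
      have : 2 ^ 1 ≤ 2 ^ (2 * k + 2) := Nat.pow_le_pow_right (by norm_num) (by omega)
      omega
    have hn' : (2 : ℚ) ^ (2 * k + 1) = n + 1 := by exact_mod_cast hn
    have hm' : (2 : ℚ) ^ (2 * k + 2) = m + 1 := by exact_mod_cast hm
    have nn : (0 : ℚ) < n := by exact_mod_cast hn0
    have mm : (0 : ℚ) < m := by exact_mod_cast hm0
    have hG : G k = 1 / n := by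
      rw [G, one_div_pow, hn', show (1 : ℚ) - 1 / (n + 1) = n / (n + 1) by field_simp; ring]
      field_simp
    have hD : D k = (m + 1) / m := by
      rw [D, one_div_pow, hm', show (1 : ℚ) - 1 / (m + 1) = m / (m + 1) by field_simp; ring]
      field_simp
    have hh : H k = (2 ^ (k + 1) + 1) / (m + 1) := by
      have e : ((2 : ℚ) ^ (k + 1)) ^ 2 = m + 1 := by rw [← pow_mul, ← hm']; ring
      rw [H, one_div_pow, one_div_pow, e, ← e]
      have : (2 : ℚ) ^ (k + 1) ≠ 0 := by positivity
      field_simp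
    have hL : L o k = (Ln o k : ℕ) := by unfold L Ln; split <;> norm_num
    obtain ⟨na, nb⟩ := A_nonneg o k
    constructor
    · simp only [A, UB]
      refine le_trans ?_ (le_div_succ _ _ (Nat.mul_pos (by omega) (by omega)))
      rw [hG, hD, hL, hn, hm, Nat.add_sub_cancel, Nat.add_sub_cancel]
      push_cast
      rw [le_div_iff₀ (by positivity)]
      calc _ = ((A o k).1 * P * ((n : ℚ) + (Ln o k : ℕ)) + (A o k).2 * P * (n + 1)) * (m + 1) := by
            field_simp
        _ ≤ _ := by gcongr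
    · simp only [A, UB]
      refine le_trans ?_ (le_div_succ _ _ (Nat.mul_pos (by omega) (by omega)))
      rw [hG, hD, hh, hL, hn, hm, Nat.add_sub_cancel, Nat.add_sub_cancel]
      push_cast
      rw [le_div_iff₀ (by positivity)]
      calc _ = ((A o k).1 * P * (Ln o k : ℕ) + (A o k).2 * P) * (n + 1) * (2 ^ (k + 1) + 1) := by
            field_simp
        _ ≤ _ := by gcongr

theorem tail (o : Bool) : ∀ d, (A o (25 + d)).1 + (A o (25 + d)).2 ≤
    ((A o 25).1 + (A o 25).2) * (1 + 16 * (1 / 2) ^ 25 - 16 * (1 / 2) ^ (25 + d)) := by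
  intro d
  induction d with
  | zero => simp
  | succ d ih =>
    obtain ⟨na, nb⟩ := A_nonneg o (25 + d)
    obtain ⟨n25, m25⟩ := A_nonneg o 25
    set k := 25 + d with hk
    set t : ℚ := (1 / 2) ^ (k + 1) with ht
    have ht0 : 0 ≤ t := by rw [ht]; positivity
    have ht1 : t ≤ 1 / 1000 := by
      rw [ht]
      exact (pow_le_pow_of_le_one (by norm_num) (by norm_num) (show 10 ≤ k + 1 by omega)).trans (by norm_num)
    have hsq : (1 / 2 : ℚ) ^ (2 * k + 2) = t ^ 2 := by rw [ht, ← pow_mul]; ring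
    have hsq1 : (1 / 2 : ℚ) ^ (2 * k + 1) = 2 * t ^ 2 := by rw [← hsq, pow_succ _ (2 * k + 1)]; ring
    have ht2 : t ^ 2 ≤ 1 / 1000 := by nlinarith only [ht0, ht1]
    have ht4 : 0 ≤ t ^ 2 * (1 / 1000 - t ^ 2) := mul_nonneg (sq_nonneg t) (sub_nonneg.2 ht2)
    have hG : G k ≤ 4 * t ^ 2 := by
      rw [G, hsq1, div_le_iff₀ (by linarith only [ht2])]; nlinarith only [ht4, sq_nonneg t]
    have hD : D k ≤ 1 + 2 * t ^ 2 := by
      rw [D, hsq, div_le_iff₀ (by linarith only [ht2])]; nlinarith only [ht4, sq_nonneg t]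
    have hH : H k = t + t ^ 2 := rfl
    have hG0 := G_nonneg k
    have hD0 := D_nonneg k
    have hH0 := H_nonneg k
    have hL : L o k = 2 := by rw [L, if_pos (by have := i0_le_one o; omega)]
    have hstep : (A o (k + 1)).1 + (A o (k + 1)).2 ≤ ((A o k).1 + (A o k).2) * (1 + 5 * t) := by
      simp only [A, hL]
      have e1 : (1 + 2 * G k + 2 * ((1 + G k) * H k)) * D k ≤ 1 + 5 * t := by
        calc _ ≤ (1 + 2 * (4 * t ^ 2) + 2 * ((1 + 4 * t ^ 2) * (t + t ^ 2))) * (1 + 2 * t ^ 2) := by
              rw [hH]; gcongr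
          _ ≤ 1 + 5 * t := by
            nlinarith only [ht0, ht1, mul_nonneg ht0 (sub_nonneg.2 ht1), pow_nonneg ht0 3, pow_nonneg ht0 4,
              mul_nonneg (pow_nonneg ht0 2) (sub_nonneg.2 ht1), mul_nonneg (pow_nonneg ht0 3) (sub_nonneg.2 ht1),
              mul_nonneg (pow_nonneg ht0 4) (sub_nonneg.2 ht1), mul_nonneg (pow_nonneg ht0 5) (sub_nonneg.2 ht1)]
      have e2 : ((1 + G k) + (1 + G k) * H k) * D k ≤ (1 + 2 * G k + 2 * ((1 + G k) * H k)) * D k := by
        apply mul_le_mul_of_nonneg_right _ hD0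
        nlinarith [mul_nonneg (add_nonneg zero_le_one hG0) hH0]
      calc _ = (A o k).1 * ((1 + 2 * G k + 2 * ((1 + G k) * H k)) * D k) +
            (A o k).2 * (((1 + G k) + (1 + G k) * H k) * D k) := by ring
        _ ≤ (A o k).1 * (1 + 5 * t) + (A o k).2 * (1 + 5 * t) :=
            add_le_add (mul_le_mul_of_nonneg_left e1 na) (mul_le_mul_of_nonneg_left (e2.trans e1) nb)
        _ = _ := by ring
    rw [show 25 + (d + 1) = k + 1 by omega]
    refine hstep.trans ((mul_le_mul_of_nonneg_right ih (by linarith)).trans ?_)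
    rw [mul_assoc]
    refine mul_le_mul_of_nonneg_left ?_ (add_nonneg n25 m25)
    have e : (1 / 2 : ℚ) ^ k = 2 * t := by rw [ht, pow_succ]; ring
    rw [e, ← ht]
    have : (16 : ℚ) * (1 / 2) ^ 25 ≤ 1 := by norm_num
    nlinarith [mul_nonneg ht0 (sub_nonneg.2 this), sq_nonneg t]

theorem A_sum_le (o : Bool) (k : ℕ) :
    (A o (25 + k)).1 + (A o (25 + k)).2 ≤
      (((UB o 25).1 + (UB o 25).2 : ℕ) : ℚ) / P * (1 + 16 * (1 / 2) ^ 25) := by
  refine (tail o k).trans ?_
  obtain ⟨h1, h2⟩ := A_le_UB o 25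
  obtain ⟨n1, n2⟩ := A_nonneg o 25
  have hp : (0 : ℚ) < (P : ℕ) := by norm_num [P]
  refine mul_le_mul ?_ (sub_le_self _ (by positivity)) ?_ (by positivity)
  · rw [le_div_iff₀ hp]
    push_cast
    linarith
  · have : (1 / 2 : ℚ) ^ (25 + k) ≤ (1 / 2) ^ 25 := pow_le_pow_of_le_one (by norm_num) (by norm_num) (by omega)
    linarith [this]

theorem ub_sp : (UB false 25).1 + (UB false 25).2 ≤ 151790000 := by decide

theorem ub_orth : (UB true 25).1 + (UB true 25).2 ≤ 255280000 := by decide

theorem total (o : Bool) (s : Finset (List Blk)) (hs : ∀ l ∈ s, Valid o l) :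
    ∑ l ∈ s, zw l ≤ if o then 256 / 10 else 15199 / 1000 := by
  let k := s.sup fun l => (l.map fun b : Blk => b.m).sum
  have hk : ∀ l ∈ s, ∀ b ∈ l, b.m ≤ 2 * (25 + k) := fun l hl b hb => by
    have h1 : b.m ≤ (l.map fun b : Blk => b.m).sum := List.le_sum_of_mem (List.mem_map.2 ⟨b, hb, rfl⟩)
    have h2 : (l.map fun b : Blk => b.m).sum ≤ k := Finset.le_sup (f := fun l : List Blk => (l.map fun b : Blk => b.m).sum) hl
    omega
  refine ((bound (o := o) (25 + k)).1.split (bound (25 + k)).2 s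
    fun l hl => ⟨hs l hl, hk l hl, fun x hx => by simp at hx⟩).trans ((A_sum_le o k).trans ?_)
  cases o
  · have : (((UB false 25).1 + (UB false 25).2 : ℕ) : ℚ) ≤ 151790000 := by exact_mod_cast ub_sp
    norm_num [P] at this ⊢
    linarith
  · have : (((UB true 25).1 + (UB true 25).2 : ℕ) : ℚ) ≤ 255280000 := by exact_mod_cast ub_orth
    norm_num [P] at this ⊢
    linarith

/-! ### lists without labelled kinds -/

theorem even_total (s : Finset (List Blk)) (hs : ∀ l ∈ s, Valid o l ∧ ∀ b ∈ l, b.v = false ∧ b.m % 2 = 0) :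
    ∑ l ∈ s, zw l ≤ 3 / 2 := by
  classical
  suffices h : ∀ k, ∃ X : ℚ, 0 ≤ X ∧ X * (2 + (1 / 4) ^ k) ≤ 3 ∧
      ∀ s : Finset (List Blk), (∀ l ∈ s, Valid o l ∧ (∀ b ∈ l, b.m ≤ 2 * k) ∧ ∀ b ∈ l, b.v = false ∧ b.m % 2 = 0) →
        ∑ l ∈ s, zw l ≤ X by
    let k := s.sup fun l => (l.map fun b : Blk => b.m).sum
    obtain ⟨X, hX0, hX, hXs⟩ := h k
    refine (hXs s fun l hl => ⟨(hs l hl).1, fun b hb => ?_, (hs l hl).2⟩).trans ?_
    · have h1 : b.m ≤ (l.map fun b : Blk => b.m).sum := List.le_sum_of_mem (List.mem_map.2 ⟨b, hb, rfl⟩)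
      have h2 : (l.map fun b : Blk => b.m).sum ≤ k := Finset.le_sup (f := fun l : List Blk => (l.map fun b : Blk => b.m).sum) hl
      omega
    · have : (0 : ℚ) ≤ (1 / 4) ^ k := by positivity
      nlinarith
  intro k
  induction k with
  | zero =>
    refine ⟨1, zero_le_one, by norm_num, fun s hs => ?_⟩
    refine le_trans (Finset.sum_le_sum_of_subset_of_nonneg (t := {[]}) (fun l hl => ?_)
      fun i _ _ => pow_nonneg (by norm_num) _) (by simp [zw, wl])
    rw [Finset.mem_singleton, List.eq_nil_iff_forall_not_mem]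
    intro b hb
    have := (hs l hl).2.1 b hb
    have := (Valid.mem (hs l hl).1 b hb).1
    omega
  | succ k ih =>
    obtain ⟨X, hX0, hX, hXs⟩ := ih
    refine ⟨X * D k, mul_nonneg hX0 (D_nonneg k), ?_, fun s hs => ?_⟩
    · have e2 : (1 / 2 : ℚ) ^ (2 * k + 2) = (1 / 4) ^ (k + 1) := by
        rw [show 2 * k + 2 = 2 * (k + 1) by ring, pow_mul]; norm_num
      rw [D, e2, pow_succ]
      have ht : (0 : ℚ) ≤ (1 / 4) ^ k := by positivity
      have ht1 : (1 / 4 : ℚ) ^ k ≤ 1 := pow_le_one₀ (by norm_num) (by norm_num)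
      rw [mul_one_div, div_mul_eq_mul_div, div_le_iff₀ (by linarith)]
      nlinarith
    · let R := s.image fun l => low k l
      let C := s.image fun l => nD k l
      let f : List Blk → List Blk × ℕ := fun l => (low k l, nD k l)
      have hk' : ∀ l ∈ s, ∀ b ∈ l, b.m ≤ 2 * k + 2 := fun l hl b hb => by
        have := (hs l hl).2.1 b hb; omega
      have hzero : ∀ l ∈ s, nC k l = 0 ∧ nE k l = 0 ∧ hasLab k l = false := by
        intro l hl
        refine ⟨List.countP_eq_zero.2 fun b hb => ?_, List.countP_eq_zero.2 fun b hb => ?_, ?_⟩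
        · have := ((hs l hl).2.2 b hb).2; simp; omega
        · simp [((hs l hl).2.2 b hb).1]
        · by_contra h
          obtain ⟨b, hb, hb'⟩ := List.any_eq_true.1 (Bool.not_eq_false _ |>.mp h)
          simp only [Bool.and_eq_true] at hb'
          obtain ⟨hv, hm⟩ := (hs l hl).2.2 b hb
          rcases ((Valid.mem (hs l hl).1 b hb).2.2 hb'.1).2 with h | h
          · simp [hv] at h
          · omega
      have hinj : Set.InjOn f s := by
        intro a ha b hb hab
        simp only [f, Prod.mk.injEq] at hab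
        obtain ⟨a1, a2, a3⟩ := hzero a ha
        obtain ⟨b1, b2, b3⟩ := hzero b hb
        exact data_inj (hs a ha).1 (hs b hb).1 (hk' a ha) (hk' b hb) hab.1 (a1.trans b1.symm) hab.2
          (a2.trans b2.symm) (a3.trans b3.symm)
      have hw : ∀ l ∈ s, zw l = zw (f l).1 * ((1 / 2) ^ (2 * k + 2)) ^ (f l).2 := by
        intro l hl
        obtain ⟨a1, a2, -⟩ := hzero l hl
        simp only [zw, f]
        rw [wl_eq (hk' l hl) (fun b hb => (Valid.mem (hs l hl).1 b hb).2.1), a1, a2, ← pow_mul, ← pow_add]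
        congr 1
        ring
      rw [Finset.sum_congr rfl hw,
        ← Finset.sum_image (g := f) (f := fun t : List Blk × ℕ => zw t.1 * ((1 / 2) ^ (2 * k + 2)) ^ t.2) hinj]
      refine le_trans (Finset.sum_le_sum_of_subset_of_nonneg (t := R ×ˢ C) ?_ ?_) ?_
      · intro t ht
        obtain ⟨l, hl, rfl⟩ := Finset.mem_image.1 ht
        simp only [Finset.mem_product, R, C, f]
        exact ⟨Finset.mem_image_of_mem _ hl, Finset.mem_image_of_mem _ hl⟩
      · intro t _ _
        exact mul_nonneg (pow_nonneg (by norm_num) _) (pow_nonneg (pow_nonneg (by norm_num) _) _)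
      rw [Finset.sum_product]
      dsimp only
      rw [← Finset.sum_mul_sum]
      have hR : ∑ r ∈ R, zw r ≤ X := hXs R fun r hr => by
        obtain ⟨l, hl, rfl⟩ := Finset.mem_image.1 hr
        exact ⟨valid_filter _ (hs l hl).1, low_le, fun b hb => (hs l hl).2.2 b (List.mem_of_mem_filter hb)⟩
      have hC := geom_le (pow_nonneg (by norm_num) _)
        (pow_lt_one₀ (by norm_num : (0 : ℚ) ≤ 1 / 2) (by norm_num) (show 2 * k + 2 ≠ 0 by omega)) C 0
        fun i _ => Nat.zero_le i
      rw [pow_zero] at hC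
      exact mul_le_mul hR hC (Finset.sum_nonneg fun i _ => pow_nonneg (pow_nonneg (by norm_num) _) i) hX0

end Cfsg.Agent.UniTwoCount53
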