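import Mathlib
import Cfsg.Agent.Lib.UniTwoCount53
import Cfsg.Agent.Lib.FormMatrix53
import Cfsg.Agent.Lib.FormTuples53

/-!
Characteristic two: classes of isometries through lists of blocks and halved tuples.
-/

set_option autoImplicit false
set_option linter.unusedSectionVars false

open Polynomial
open LinearMap (BilinForm)
open Cfsg.Agent.GLClassBound53 Cfsg.Agent.UnitaryPolys53

namespace Cfsg.Agent.UniTwoClasses53

open Cfsg.Agent.FormSys53 Cfsg.Agent.FormSub53 Cfsg.Agent.FormCombine53 Cfsg.Agent.FormMatrix53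
  Cfsg.Agent.UniTwoSys53 Cfsg.Agent.UniTwoBlk53 Cfsg.Agent.UniTwoNorm53 Cfsg.Agent.UniTwoCount53
  Cfsg.Agent.FormTuples53

universe u v

variable {F : Type u} [Field F] {o : Bool} [CharP F 2]

/-! ### parts -/

/-- unipotent part -/
noncomputable abbrev plusU (U : USys F o) : USys F o := sub U (plus U.S)

/-- part without eigenvalue one -/
noncomputable abbrev restU (U : USys F o) : USys F o := sub U (plus U.S).compl

theorem plusU_kill (U : USys F o) : ∃ M, ∀ x : (plusU U).S.V, (nu (plusU U) ^ M) x = 0 := by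
  refine ⟨Module.finrank F U.S.V, fun x => Subtype.ext ?_⟩
  rw [nu_pow_coe, nu_pow]
  exact (mem_K _).1 x.2

theorem compl_eq_range (S : Sys F (1 : F)) :
    (plus S).compl.W = LinearMap.range (ev S ((X - C 1) ^ Module.finrank F S.V)) := by
  rw [← LinearMap.BilinForm.orthogonal_orthogonal (B_nondegenerate S) (B_isRefl S)
    (LinearMap.range (ev S ((X - C 1) ^ Module.finrank F S.V)))]
  show S.B.orthogonal _ = _
  congr 1
  ext y
  show y ∈ K S (X - C 1) (Module.finrank F S.V) ↔ ∀ x ∈ LinearMap.range _, S.B x y = 0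
  rw [orth_range, evi_pow_eq_zero S (lin_good (mul_one 1)), rec_lin (mul_one 1), mem_K]

theorem rest_injective (U : USys F o) : Function.Injective (nu (restU U)) := by
  refine (injective_iff_map_eq_zero _).2 fun x hx => Subtype.ext ?_
  refine Submodule.disjoint_def.1 (plus U.S).isCompl.disjoint (x : U.S.V) ?_ x.2
  show (x : U.S.V) ∈ K U.S (X - C 1) (Module.finrank F U.S.V)
  rcases Nat.eq_zero_or_pos (Module.finrank F U.S.V) with h | h
  · haveI : Subsingleton U.S.V := Module.finrank_zero_iff.1 h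
    rw [Subsingleton.elim (x : U.S.V) 0]
    exact Submodule.zero_mem _
  · refine K_mono _ _ h ?_
    rw [mem_K, pow_one, ← nu_eq_ev, ← nu_coe (plus U.S).compl]
    exact congrArg Subtype.val hx

theorem rest_fix (U : USys F o) : ∀ x, (restU U).S.g ((restU U).S.g x) = x → x = 0 := by
  intro x hx
  have h2 : nu (restU U) (nu (restU U) x) = 0 := by
    rw [nu_apply, nu_apply, map_add, hx]
    rw [show x + (restU U).S.g x + ((restU U).S.g x + x) = (x + (restU U).S.g x) + (x + (restU U).S.g x) by abel]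
    exact add_self_vec (F := F) _
  exact rest_injective U ((rest_injective U (h2.trans (map_zero _).symm)).trans (map_zero _).symm)

theorem rest_uiso [Finite F] {U U' : USys F o} (φ : U.S.V ≃ₗ[F] U'.S.V)
    (hφ : ∀ x, φ (U.S.g x) = U'.S.g (φ x)) : UIso (restU U) (restU U') := by
  have hN : Module.finrank F U.S.V = Module.finrank F U'.S.V := φ.finrank_eq
  have hev : ∀ r x, φ (ev U.S r x) = ev U'.S r (φ x) := by
    intro r
    induction r using Polynomial.induction_on' with
    | add a b ha hb => intro x; simp only [ev, map_add, LinearMap.add_apply] at *; rw [ha, hb]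
    | monomial m a =>
      intro x
      simp only [ev, aeval_monomial, Module.End.mul_apply, Module.algebraMap_end_apply, map_smul]
      congr 1
      induction m generalizing x with
      | zero => rfl
      | succ m ih => rw [pow_succ, pow_succ, Module.End.mul_apply, Module.End.mul_apply, ih, hφ]
  have hmap : (plus U.S).compl.W.map φ.toLinearMap = (plus U'.S).compl.W := by
    rw [compl_eq_range, compl_eq_range, ← hN]
    ext y
    simp only [Submodule.mem_map, LinearMap.mem_range]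
    constructor
    · rintro ⟨_, ⟨x, rfl⟩, rfl⟩
      exact ⟨φ x, (hev _ x).symm⟩
    · rintro ⟨x, rfl⟩
      exact ⟨_, ⟨φ.symm x, rfl⟩, by show φ _ = _; rw [hev, φ.apply_symm_apply]⟩
  let ψ : (plus U.S).compl.W ≃ₗ[F] (plus U'.S).compl.W := φ.ofSubmodules _ _ hmap
  have hψ : ∀ x, ψ ((restU U).S.g x) = (restU U').S.g (ψ x) := fun x => Subtype.ext (hφ x)
  obtain ⟨T, h1, h2⟩ := iso_of_regular (S := (restU U).S) (S' := (restU U').S) (rest_fix U) ψ hψ
  refine ⟨T, h1, h2, fun ho x => ?_⟩
  obtain ⟨y, rfl⟩ := LinearMap.injective_iff_surjective.1 (rest_injective U) x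
  rw [nu_apply, map_add, h1, (restU U').Qadd ho, (restU U).Qadd ho, (restU U').Qinv ho, (restU U).Qinv ho,
    CharTwo.add_self_eq_zero, CharTwo.add_self_eq_zero, zero_add, zero_add, ← h1, h2]

/-- lists with the same shapes -/
theorem Norm.kd_eq {ν0 : F} {U : USys F o} {l : List Blk} (h : Norm ν0 U l) :
    ∀ {U' : USys F o} {l' : List Blk}, Norm ν0 U' l' →
      l.map (fun b => (b.m, b.v)) = l'.map (fun b => (b.m, b.v)) → ∀ p k, kd U.S p k = kd U'.S p k := by
  induction h with
  | nil U h0 =>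
    intro U' l' h' he p k
    cases h' with
    | nil _ h0' =>
      haveI : Subsingleton U.S.V := ⟨fun a b => (h0 a).trans (h0 b).symm⟩
      haveI : Subsingleton U'.S.V := ⟨fun a b => (h0' a).trans (h0' b).symm⟩
      rw [kd, kd, Module.finrank_zero_of_subsingleton, Module.finrank_zero_of_subsingleton]
    | cons => simp at he
  | cons U b l R _ ih =>
    intro U' l' h' he p k
    cases h' with
    | nil => simp at he
    | cons _ b' l' R' hn' =>
      simp only [List.map_cons, List.cons.injEq, Prod.mk.injEq] at he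
      obtain ⟨⟨hm, hv⟩, htl⟩ := he
      rw [R.gen.piece.kd_add, R'.gen.piece.kd_add, ih hn' htl p k]
      congr 1
      obtain ⟨m, v, lab⟩ := b
      obtain ⟨m', v', lab'⟩ := b'
      simp only at hm hv
      subst hm hv
      obtain ⟨φ, -, hφ⟩ := FormGen53.Gen.exists_linear R.gen (R'.gen : FormGen53.Gen U'.S (1 : F) m (Blk.cnt ⟨m, v, lab⟩))
      exact kd_of_equiv φ hφ p k

/-! ### halved tuples -/

/-- the upper half of a palindromic polynomial -/
noncomputable def half (p : F[X]) : F[X] :=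
  ∑ t ∈ Finset.range (p.natDegree / 2 + 1), monomial t (p.coeff (p.natDegree / 2 + t))

theorem coeff_half (p : F[X]) (t : ℕ) :
    (half p).coeff t = if t ≤ p.natDegree / 2 then p.coeff (p.natDegree / 2 + t) else 0 := by
  simp only [half, finset_sum_coeff, coeff_monomial, Finset.sum_ite_eq', Finset.mem_range, Nat.lt_succ_iff]

theorem fixed_coeff {p : F[X]} (hp : Fixed (RingHom.id F) p) :
    p.coeff 0 = 1 ∧ ∀ j, j ≤ p.natDegree → p.coeff j = p.coeff (p.natDegree - j) := by
  have h0 : p.coeff 0 ≠ 0 := hp.1.2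
  have key : ∀ j, j ≤ p.natDegree → (p.coeff 0)⁻¹ * p.coeff (p.natDegree - j) = p.coeff j := by
    intro j hj
    have e := congrArg (fun t : F[X] => t.coeff j) hp.2
    simpa [coeff_tau, revAt_le hj] using e
  have h1 := key 0 (Nat.zero_le _)
  rw [Nat.sub_zero, hp.1.1.coeff_natDegree, mul_one] at h1
  have hone : p.coeff 0 = 1 := by
    have hm : p.coeff 0 * p.coeff 0 = 1 := by nth_rewrite 2 [← h1]; exact mul_inv_cancel₀ h0
    have : (p.coeff 0 + 1) * (p.coeff 0 + 1) = 0 := by
      linear_combination hm + (p.coeff 0 + 1) * two_zero (F := F)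
    have := mul_self_eq_zero.1 this
    linear_combination this - two_zero (F := F)
  refine ⟨hone, fun j hj => ?_⟩
  rw [← key j hj, hone, inv_one, one_mul]

theorem even_deg_eval {p : F[X]} (hp : Fixed (RingHom.id F) p) (h1 : p.eval 1 ≠ 0) :
    Even p.natDegree ∧ p.eval 1 = p.coeff (p.natDegree / 2) := by
  obtain ⟨-, hsym⟩ := fixed_coeff hp
  set d := p.natDegree
  have hsum : p.eval 1 = ∑ j ∈ Finset.range (d + 1), p.coeff j := by
    rw [eval_eq_sum_range]; simp [d]
  have hpair : ∀ a, a ≤ d + 1 - a →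
      ∑ j ∈ Finset.range (d + 1), p.coeff j = ∑ j ∈ Finset.Ico a (d + 1 - a), p.coeff j := by
    intro a
    induction a with
    | zero => intro _; rw [Nat.sub_zero, Finset.range_eq_Ico]
    | succ a ih =>
      intro ha
      rw [ih (by omega)]
      obtain ⟨b, hb⟩ : ∃ b, d + 1 - a = b + 1 := ⟨d - a, by omega⟩
      rw [hb, Finset.sum_Ico_succ_top (by omega), Finset.sum_eq_sum_Ico_succ_bot (by omega),
        show d + 1 - (a + 1) = b by omega, hsym a (by omega), show d - a = b by omega]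
      linear_combination p.coeff b * two_zero (F := F)
  rw [hsum] at h1 ⊢
  rcases Nat.even_or_odd' d with ⟨i, hi | hi⟩
  · refine ⟨⟨i, by omega⟩, ?_⟩
    rw [hpair i (by omega), show d + 1 - i = i + 1 by omega, Nat.Ico_succ_singleton, Finset.sum_singleton,
      show d / 2 = i by omega]
  · exfalso
    refine h1 ?_
    rw [hpair (i + 1) (by omega), show d + 1 - (i + 1) = i + 1 by omega, Finset.Ico_self, Finset.sum_empty]

theorem half_spec {p : F[X]} (hp : Fixed (RingHom.id F) p) (h1 : p.eval 1 ≠ 0) :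
    Good (half p) ∧ 2 * (half p).natDegree = p.natDegree := by
  obtain ⟨⟨i, hi⟩, he⟩ := even_deg_eval hp h1
  have hd : p.natDegree / 2 = i := by omega
  have htop : (half p).coeff i = 1 := by
    rw [coeff_half, hd, if_pos le_rfl, ← hi]
    exact hp.1.1.coeff_natDegree
  have hdeg : (half p).natDegree = i :=
    natDegree_eq_of_le_of_coeff_ne_zero (natDegree_le_iff_coeff_eq_zero.2 fun t ht => by
      rw [coeff_half, hd, if_neg (by omega)]) (by rw [htop]; exact one_ne_zero)
  refine ⟨⟨?_, ?_⟩, by omega⟩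
  · rw [Monic, leadingCoeff, hdeg, htop]
  · rw [coeff_half, if_pos (Nat.zero_le _), Nat.add_zero, ← he]
    exact h1

theorem half_inj {p r : F[X]} (hp : Fixed (RingHom.id F) p) (h1 : p.eval 1 ≠ 0) (hr : Fixed (RingHom.id F) r)
    (h2 : r.eval 1 ≠ 0) (h : half p = half r) : p = r := by
  have hd : p.natDegree = r.natDegree := by rw [← (half_spec hp h1).2, ← (half_spec hr h2).2, h]
  obtain ⟨i, hi⟩ := (even_deg_eval hp h1).1
  obtain ⟨-, sp⟩ := fixed_coeff hp
  obtain ⟨-, sr⟩ := fixed_coeff hr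
  have high : ∀ j, i ≤ j → j ≤ p.natDegree → p.coeff j = r.coeff j := by
    intro j hj hjd
    have e := congrArg (fun f : F[X] => f.coeff (j - i)) h
    simp only [coeff_half, ← hd, show p.natDegree / 2 = i by omega] at e
    rw [if_pos (by omega), if_pos (by omega), show i + (j - i) = j by omega] at e
    exact e
  ext j
  by_cases hj : j ≤ p.natDegree
  · by_cases hij : i ≤ j
    · exact high j hij hj
    · rw [sp j hj, sr j (by omega), ← hd]
      exact high _ (by omega) (by omega)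
  · rw [coeff_eq_zero_of_natDegree_lt (by omega), coeff_eq_zero_of_natDegree_lt (by omega)]

/-- removing the factors at one -/
noncomputable def cof (p : F[X]) : F[X] := p /ₘ (X - C 1) ^ p.rootMultiplicity 1

theorem cof_spec {p : F[X]} (hp : Fixed (RingHom.id F) p) :
    (X - C 1) ^ p.rootMultiplicity 1 * cof p = p ∧ Fixed (RingHom.id F) (cof p) ∧ (cof p).eval 1 ≠ 0 := by
  have hne := hp.1.1.ne_zero
  refine ⟨pow_mul_divByMonic_rootMultiplicity_eq p 1, ?_, eval_divByMonic_pow_rootMultiplicity_ne_zero 1 hne⟩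
  exact fixed_cancel (fixed_lin_pow (mul_one 1) _) ((pow_mul_divByMonic_rootMultiplicity_eq p 1).symm ▸ hp)

theorem deg_split {p : F[X]} (hp : Fixed (RingHom.id F) p) :
    p.natDegree = p.rootMultiplicity 1 + 2 * (half (cof p)).natDegree := by
  obtain ⟨e, hf, h1⟩ := cof_spec hp
  conv_lhs => rw [← e]
  rw [((monic_X_sub_C (1 : F)).pow _).natDegree_mul hf.1.1, natDegree_pow, natDegree_X_sub_C, mul_one,
    (half_spec hf h1).2]

/-! ### counting -/

variable [Fintype F]

theorem card_T_le (k m : ℕ) : Nat.card (T F k m) ≤ Fintype.card F ^ m := by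
  refine (finite_T (F := F) k m).2.trans ?_
  rcases Nat.eq_zero_or_pos m with rfl | hm
  · rw [GLClassCount53.tot_zero, pow_zero]
  · exact GLClassCount53.tot_le Fintype.one_lt_card k m hm

theorem count_le {κ : Type v} [Finite κ] {n N : ℕ} (key : κ → List Blk × (Fin n → F[X]))
    (hinj : Function.Injective key)
    (hkey : ∀ c, wl (key c).1 ≤ N ∧ (∀ j, Good ((key c).2 j)) ∧
      ∑ j : Fin n, ((j : ℕ) + 1) * ((key c).2 j).natDegree = N - wl (key c).1)
    (Q : List Blk → Prop) (hQ : ∀ c, Q (key c).1) (K : ℚ)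
    (hK : ∀ s : Finset (List Blk), (∀ l ∈ s, Q l) → ∑ l ∈ s, zw l ≤ K) :
    (Nat.card κ : ℚ) ≤ K * (Fintype.card F : ℚ) ^ N := by
  classical
  haveI : Fintype κ := Fintype.ofFinite κ
  let s := Finset.univ.image fun c => (key c).1
  have hfib : ∀ l ∈ s, ((Finset.univ.filter fun c => (key c).1 = l).card : ℚ) ≤
      zw l * (Fintype.card F : ℚ) ^ N := by
    intro l hl
    obtain ⟨c0, -, rfl⟩ := Finset.mem_image.1 hl
    set w := wl (key c0).1 with hw
    haveI := (finite_T (F := F) n (N - w)).1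
    let g : {c // (key c).1 = (key c0).1} → T F n (N - w) := fun c =>
      ⟨(key c.1).2, (hkey c.1).2.1, by rw [(hkey c.1).2.2, c.2]⟩
    have hg : Function.Injective g := by
      intro a b hab
      exact Subtype.ext (hinj (Prod.ext (a.2.trans b.2.symm) (congrArg Subtype.val hab)))
    have h1 : (Finset.univ.filter fun c => (key c).1 = (key c0).1).card ≤ Fintype.card F ^ (N - w) := by
      rw [← Fintype.card_subtype, ← Nat.card_eq_fintype_card]
      exact (Nat.card_le_card_of_injective g hg).trans (card_T_le _ _)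
    have hq : (2 : ℚ) ≤ Fintype.card F := by exact_mod_cast Fintype.one_lt_card (α := F)
    calc ((Finset.univ.filter fun c => (key c).1 = (key c0).1).card : ℚ)
        ≤ (Fintype.card F : ℚ) ^ (N - w) := by exact_mod_cast h1
      _ = (1 / 2) ^ w * (2 ^ w * (Fintype.card F : ℚ) ^ (N - w)) := by
          rw [← mul_assoc, ← mul_pow]; norm_num
      _ ≤ (1 / 2) ^ w * ((Fintype.card F : ℚ) ^ w * (Fintype.card F : ℚ) ^ (N - w)) := by gcongr
      _ = zw (key c0).1 * (Fintype.card F : ℚ) ^ N := by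
          rw [← pow_add, Nat.add_sub_cancel' (hkey c0).1]; rfl
  rw [Nat.card_eq_fintype_card, ← Finset.card_univ,
    Finset.card_eq_sum_card_image (fun c => (key c).1) Finset.univ]
  push_cast
  refine (Finset.sum_le_sum hfib).trans ?_
  rw [← Finset.sum_mul]
  refine mul_le_mul_of_nonneg_right (hK s fun l hl => ?_) (by positivity)
  obtain ⟨c, -, rfl⟩ := Finset.mem_image.1 hl
  exact hQ c

/-! ### matrices -/

variable {n : ℕ}

/-- alternating data, with a quadratic form when `o` -/
structure Std2 (F : Type u) [Field F] (o : Bool) (n : ℕ) where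
  Φ : Std F (1 : F) n
  alt : ∀ x, Φ.B x x = 0
  Q : (Fin n → F) → F
  Qadd : o = true → ∀ x y, Q (x + y) = Q x + Q y + Φ.B x y
  Qsmul : o = true → ∀ (c : F) (x : Fin n → F), Q (c • x) = c ^ 2 * Q x

/-- preserving the data -/
def Pres2 (Ψ : Std2 F o n) (g : GL (Fin n) F) : Prop :=
  Pres Ψ.Φ g ∧ (o = true → ∀ x, Ψ.Q ((g : Matrix (Fin n) (Fin n) F).mulVec x) = Ψ.Q x)

/-- the system of an element -/
noncomputable abbrev usys (Ψ : Std2 F o n) {g : GL (Fin n) F} (hg : Pres2 Ψ g) : USys F o where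
  S := sysOf Ψ.Φ hg.1
  alt := Ψ.alt
  Q := Ψ.Q
  Qadd := Ψ.Qadd
  Qsmul := Ψ.Qsmul
  Qinv ho x := by simpa only [Matrix.toLin'_apply] using hg.2 ho x

variable [NeZero n]

/-- halved tuple -/
noncomputable def tupH (g : GL (Fin n) F) (j : Fin n) : F[X] := half (cof (SLClasses53.tup g j))

variable (Ψ : Std2 F o n) {g g' : GL (Fin n) F}

theorem sum_mult (hg : Pres2 Ψ g) :
    ∑ j : Fin n, ((j : ℕ) + 1) * (SLClasses53.tup g j).rootMultiplicity 1 =
      Module.finrank F (plusU (usys Ψ hg)).S.V := by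
  set K := fun k => kd (sysOf Ψ.Φ hg.1) (X - C 1) k with hK
  let a : ℕ → ℕ := fun j => if h : j < n then (SLClasses53.tup g ⟨j, h⟩).rootMultiplicity 1 else 0
  have hrec : ∀ j, j < n → 2 * K (j + 1) = K j + K (j + 2) + a j := by
    intro j hj
    have := kd_mult Ψ.Φ hg.1 1 (mul_one 1) (j + 1) (by omega) (by omega)
    simp only [Nat.add_sub_cancel] at this
    simp only [a, dif_pos hj]
    exact this
  have main : ∀ M, M ≤ n → ∑ j ∈ Finset.range M, (j + 1) * a j + M * K (M + 1) = (M + 1) * K M := by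
    intro M
    induction M with
    | zero => intro _; simp [hK, kd_zero]
    | succ M ih =>
      intro hM
      have h1 := ih (by omega)
      have h2 := hrec M (by omega)
      rw [Finset.sum_range_succ]
      zify at h1 h2 ⊢
      linear_combination h1 - ((M : ℤ) + 1) * h2
  have h := main n le_rfl
  have hfin : Module.finrank F (sysOf Ψ.Φ hg.1).V = n := Module.finrank_fin_fun F
  have hstab : K (n + 1) = K n := by
    simp only [hK, kd]
    rw [K_stab (sysOf Ψ.Φ hg.1) (X - C 1) (m := n + 1) (by omega), hfin]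
  rw [hstab, add_mul, one_mul, add_comm (n * K n) (K n)] at h
  have h' := Nat.add_right_cancel h
  rw [← Fin.sum_univ_eq_sum_range (fun j => (j + 1) * a j) n] at h'
  have e : K n = Module.finrank F (plusU (usys Ψ hg)).S.V := by
    show kd (sysOf Ψ.Φ hg.1) (X - C 1) n =
      kd (sysOf Ψ.Φ hg.1) (X - C 1) (Module.finrank F (sysOf Ψ.Φ hg.1).V)
    rw [hfin]
  rw [← e, ← h']
  exact Finset.sum_congr rfl fun j _ => by simp only [a, dif_pos j.2]

theorem weight_tupH (hg : Pres2 Ψ g) {N : ℕ} (hn : n = 2 * N) {ν0 : F} {l : List Blk}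
    (h : Norm ν0 (plusU (usys Ψ hg)) l) :
    wl l ≤ N ∧ (∀ j, Good (tupH g j)) ∧ ∑ j : Fin n, ((j : ℕ) + 1) * (tupH g j).natDegree = N - wl l := by
  have hw := SLClasses53.weight_tup g
  have hfix : ∀ j, Fixed (RingHom.id F) (SLClasses53.tup g j) := fun j => tau_tup Ψ.Φ hg.1 j
  have hsum := sum_mult Ψ hg
  rw [h.finrank] at hsum
  have e : ∑ j : Fin n, ((j : ℕ) + 1) * (SLClasses53.tup g j).rootMultiplicity 1 +
      2 * ∑ j : Fin n, ((j : ℕ) + 1) * (tupH g j).natDegree = n := by
    rw [Finset.mul_sum, ← Finset.sum_add_distrib]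
    refine Eq.trans (Finset.sum_congr rfl fun j _ => ?_) hw
    rw [deg_split (hfix j), tupH]
    ring
  rw [hsum] at e
  refine ⟨by unfold wl; omega, fun j => (half_spec (cof_spec (hfix j)).2.1 (cof_spec (hfix j)).2.2).1, ?_⟩
  unfold wl
  omega

/-- the same halved tuple and the same shapes give a linear equivalence -/
theorem linear_of_key (hg : Pres2 Ψ g) (hg' : Pres2 Ψ g') {ν0 : F} {l l' : List Blk}
    (h : Norm ν0 (plusU (usys Ψ hg)) l) (h' : Norm ν0 (plusU (usys Ψ hg')) l')
    (hl : l.map (fun b => (b.m, b.v)) = l'.map (fun b => (b.m, b.v))) (ht : tupH g = tupH g') :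
    ∃ φ : (usys Ψ hg).S.V ≃ₗ[F] (usys Ψ hg').S.V,
      ∀ x, φ ((usys Ψ hg).S.g x) = (usys Ψ hg').S.g (φ x) := by
  classical
  have hk : ∀ k, kd (sysOf Ψ.Φ hg.1) (X - C 1) k = kd (sysOf Ψ.Φ hg'.1) (X - C 1) k := fun k =>
    (plus_kd _ k).symm.trans ((Norm.kd_eq h h' hl _ k).trans (plus_kd _ k))
  have htup : SLClasses53.tup g = SLClasses53.tup g' := by
    funext j
    have hf := tau_tup Ψ.Φ hg.1 j
    have hf' := tau_tup Ψ.Φ hg'.1 j
    have h1 := kd_mult Ψ.Φ hg.1 1 (mul_one 1) ((j : ℕ) + 1) (by omega) (by omega)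
    have h2 := kd_mult Ψ.Φ hg'.1 1 (mul_one 1) ((j : ℕ) + 1) (by omega) (by omega)
    simp only [Nat.add_sub_cancel, Fin.eta] at h1 h2
    rw [hk, hk, hk] at h1
    have hm : (SLClasses53.tup g j).rootMultiplicity 1 = (SLClasses53.tup g' j).rootMultiplicity 1 := by omega
    obtain ⟨e, c1, c2⟩ := cof_spec hf
    obtain ⟨e', c1', c2'⟩ := cof_spec hf'
    rw [← e, ← e', hm, half_inj c1 c2 c1' c2' (congrFun ht j)]
  obtain ⟨c, hc⟩ := isConj_iff.1 ((SLClasses53.dec g).isConj (SLClasses53.dec g') fun j => SLClasses53.M_eq_of_tup htup j)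
  refine ⟨(LinearMap.GeneralLinearGroup.generalLinearEquiv F (Fin n → F))
    (Units.map (Matrix.toLinAlgEquiv' : Matrix (Fin n) (Fin n) F ≃ₐ[F] _).toRingEquiv.toRingHom.toMonoidHom c),
    fun v => ?_⟩
  show Matrix.toLin' (c : Matrix (Fin n) (Fin n) F) (Matrix.toLin' (g : Matrix (Fin n) (Fin n) F) v) =
    Matrix.toLin' (g' : Matrix (Fin n) (Fin n) F) (Matrix.toLin' (c : Matrix (Fin n) (Fin n) F) v)
  simp only [Matrix.toLin'_apply, Matrix.mulVec_mulVec]
  congr 1
  rw [← Units.val_mul, ← Units.val_mul]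
  congr 1
  rw [← hc]
  group

theorem conj_of_uiso {H : Type v} [Group H] (f : H →* GL (Fin n) F) (hf : Function.Injective f)
    (hall : ∀ x, Pres2 Ψ x → ∃ y, f y = x) (hmem : ∀ x, Pres2 Ψ (f x)) {x y : H}
    (h : UIso (usys Ψ (hmem x)) (usys Ψ (hmem y))) : IsConj x y := by
  obtain ⟨T, hTg, hTB, hTQ⟩ := h
  let TM := LinearMap.toMatrix' T.toLinearMap
  have hTM : ∀ v, TM.mulVec v = T v := fun v => by
    rw [← Matrix.toLin'_apply]; simp [TM]
  have hu : IsUnit TM.det := by
    simp only [TM, LinearMap.det_toMatrix']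
    exact T.isUnit_det'
  let Tu : GL (Fin n) F := Matrix.GeneralLinearGroup.mkOfDetNeZero TM hu.ne_zero
  obtain ⟨h, hh⟩ := hall Tu ⟨fun u w => by
    show Ψ.Φ.B (TM.mulVec u) (TM.mulVec w) = Ψ.Φ.B u w
    rw [hTM, hTM]
    exact hTB u w, fun ho u => by
    show Ψ.Q (TM.mulVec u) = Ψ.Q u
    rw [hTM]
    exact hTQ ho u⟩
  refine isConj_iff.2 ⟨h, hf ?_⟩
  rw [map_mul, map_mul, map_inv, hh, mul_inv_eq_iff_eq_mul]
  refine Units.ext (Matrix.toLin'.injective (LinearMap.ext fun v => ?_))
  show (TM * (f x : Matrix (Fin n) (Fin n) F)).mulVec v = ((f y : Matrix (Fin n) (Fin n) F) * TM).mulVec v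
  rw [← Matrix.mulVec_mulVec, ← Matrix.mulVec_mulVec, hTM, hTM]
  have := hTg v
  simpa only [Matrix.toLin'_apply] using this

/-- the keys of the classes -/
theorem exists_key {N : ℕ} (hn : n = 2 * N) {H : Type v} [Group H] (f : H →* GL (Fin n) F)
    (hf : Function.Injective f) (hmem : ∀ x, Pres2 Ψ (f x)) (hall : ∀ x, Pres2 Ψ x → ∃ y, f y = x) :
    ∃ (ν0 : F) (L : H → List Blk), (∀ c : F, c ^ 2 + c ≠ ν0) ∧
      (∀ x, Valid o (L x) ∧ Norm ν0 (plusU (usys Ψ (hmem x))) (L x)) ∧
      ∃ key : ConjClasses H → List Blk × (Fin n → F[X]),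
        Function.Injective key ∧ (∀ c, ∃ x, key c = (L x, tupH (f x))) := by
  classical
  obtain ⟨ν0, h1, h2⟩ := UniTwoStep53.exists_nu0 (F := F)
  choose L hLv hLn using fun x => exists_norm (o := o) h1 h2 _ (plusU (usys Ψ (hmem x))) le_rfl (plusU_kill _)
  refine ⟨ν0, L, h1, fun x => ⟨hLv x, hLn x⟩, fun c => (L c.out, tupH (f c.out)), fun a b hab => ?_,
    fun c => ⟨_, rfl⟩⟩
  simp only [Prod.mk.injEq] at hab
  obtain ⟨φ, hφ⟩ := linear_of_key Ψ (hmem a.out) (hmem b.out) (hLn _) (hLn _) (by rw [hab.1]) hab.2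
  have hu : UIso (usys Ψ (hmem a.out)) (usys Ψ (hmem b.out)) :=
    uiso_of_pieces (plus _) (plus _) ((hLn a.out).uiso (by rw [hab.1]; exact hLn b.out)) (rest_uiso φ hφ)
  exact (Quotient.out_eq a).symm.trans
    ((ConjClasses.mk_eq_mk_iff_isConj.2 (conj_of_uiso Ψ f hf hall hmem hu)).trans (Quotient.out_eq b))

/-- the bound for all classes -/
theorem card_classes_le {N : ℕ} (hn : n = 2 * N) {H : Type v} [Group H] [Finite H] (f : H →* GL (Fin n) F)
    (hf : Function.Injective f) (hmem : ∀ x, Pres2 Ψ (f x)) (hall : ∀ x, Pres2 Ψ x → ∃ y, f y = x) :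
    (Nat.card (ConjClasses H) : ℚ) ≤ (if o then 256 / 10 else 15199 / 1000) * (Fintype.card F : ℚ) ^ N := by
  obtain ⟨ν0, L, -, hL, key, hinj, hkey⟩ := exists_key Ψ hn f hf hmem hall
  refine count_le key hinj (fun c => ?_) (Valid o) (fun c => ?_) _ (total o)
  · obtain ⟨x, hx⟩ := hkey c
    rw [hx]
    exact weight_tupH Ψ (hmem x) hn (hL x).2
  · obtain ⟨x, hx⟩ := hkey c
    rw [hx]
    exact (hL x).1

end Cfsg.Agent.UniTwoClasses53
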