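import Mathlib
import Cfsg.Agent.Lib.UniTwoClasses53

/-!
Characteristic two: the sign sum of a quadratic form, and its change under a change of label.
-/

set_option autoImplicit false
set_option linter.unusedSectionVars false

open Polynomial
open LinearMap (BilinForm)
open Cfsg.Agent.GLClassBound53

namespace Cfsg.Agent.UniTwoGauss53

open Cfsg.Agent.FormSys53 Cfsg.Agent.FormSub53 Cfsg.Agent.FormGen53 Cfsg.Agent.UniTwoSys53
  Cfsg.Agent.UniTwoBlk53 Cfsg.Agent.UniTwoStep53 Cfsg.Agent.UniTwoNorm53

universe u v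

variable {F : Type u} [Field F] [Fintype F] [CharP F 2]

open scoped Classical in
/-- sign of the image of `c ↦ c² + c` -/
noncomputable def chi (t : F) : ℤ := if ∃ c : F, c ^ 2 + c = t then 1 else -1

theorem chi_of_im (c : F) : chi (c ^ 2 + c) = 1 := if_pos ⟨c, rfl⟩

theorem chi_zero : chi (0 : F) = 1 := if_pos ⟨0, by ring⟩

theorem chi_neg_of {t : F} (h : ∀ c : F, c ^ 2 + c ≠ t) : chi t = -1 := if_neg fun ⟨c, hc⟩ => h c hc

theorem chi_add (a b : F) : chi (a + b) = chi a * chi b := by
  classical
  obtain ⟨ν0, hν, hdich⟩ := exists_nu0 (F := F)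
  have dich : ∀ t : F, (∃ c : F, c ^ 2 + c = t) ∨ ∃ c : F, c ^ 2 + c = t + ν0 := by
    intro t
    obtain ⟨c, lab, hc⟩ := hdich t
    cases lab
    · refine Or.inl ⟨c, ?_⟩
      simp only [Bool.false_eq_true, if_false] at hc
      linear_combination hc - t * two_zero (F := F)
    · refine Or.inr ⟨c, ?_⟩
      simp only [if_true] at hc
      linear_combination hc - t * two_zero (F := F)
  have excl : ∀ t c : F, c ^ 2 + c = t + ν0 → chi t = -1 := fun t c hc => chi_neg_of fun d hd => hν (c + d) (by
    linear_combination hc + hd + (c * d + t) * two_zero (F := F))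
  rcases dich a with ⟨c, hc⟩ | ⟨c, hc⟩ <;> rcases dich b with ⟨d, hd⟩ | ⟨d, hd⟩
  · rw [← hc, ← hd, chi_of_im, chi_of_im, show c ^ 2 + c + (d ^ 2 + d) = (c + d) ^ 2 + (c + d) by
      linear_combination -(c * d) * two_zero (F := F), chi_of_im]
    rfl
  · rw [excl b d hd, ← hc, chi_of_im, hc, excl (a + b) (c + d) (by
      linear_combination hc + hd + c * d * two_zero (F := F))]
    rfl
  · rw [excl a c hc, ← hd, chi_of_im, hd, excl (a + b) (c + d) (by
      linear_combination hc + hd + c * d * two_zero (F := F))]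
    rfl
  · rw [excl a c hc, excl b d hd, show a + b = (c + d) ^ 2 + (c + d) by
      linear_combination -hc - hd - (c * d + ν0) * two_zero (F := F), chi_of_im]
    rfl

theorem chi_sq (t : F) : chi (t ^ 2) = chi t := by
  have h := chi_add (t ^ 2 + t) t
  rw [chi_of_im, one_mul, add_assoc, CharTwo.add_self_eq_zero, add_zero] at h
  exact h

/-- a nontrivial additive character sums to zero -/
theorem sum_chi_eq_zero {V : Type v} [AddCommGroup V] [Fintype V] (L : V → F) (hadd : ∀ x y, L (x + y) = L x + L y)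
    {x0 : V} (h0 : chi (L x0) = -1) : ∑ x, chi (L x) = 0 := by
  have h : ∑ x, chi (L (x0 + x)) = ∑ x, chi (L x) := Equiv.sum_comp (Equiv.addLeft x0) (fun x => chi (L x))
  simp only [hadd, chi_add, h0, neg_one_mul, Finset.sum_neg_distrib] at h
  omega

theorem exists_neg : ∃ t : F, chi t = -1 := by
  obtain ⟨ν0, hν, -⟩ := exists_nu0 (F := F)
  exact ⟨ν0, chi_neg_of hν⟩

theorem sum_mul_chi [DecidableEq F] (a : F) :
    ∑ b : F, chi (a * b) = if a = 0 then (Fintype.card F : ℤ) else 0 := by
  split_ifs with h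
  · simp [h, chi_zero]
  · obtain ⟨t, ht⟩ := exists_neg (F := F)
    exact sum_chi_eq_zero (fun b => a * b) (fun x y => mul_add a x y) (x0 := t / a)
      (by rwa [mul_div_cancel₀ _ h])

theorem sum_sq_chi {a : F} (h : a ≠ 0) : ∑ b : F, chi (b ^ 2 * a) = 0 := by
  obtain ⟨t, ht⟩ := exists_neg (F := F)
  obtain ⟨s, hs⟩ := exists_sqrt (t / a)
  refine sum_chi_eq_zero (fun b => b ^ 2 * a) (fun x y => ?_) (x0 := s) (by rwa [hs, div_mul_cancel₀ _ h])
  linear_combination (x * y * a) * two_zero (F := F)

theorem plane_zero (β : F) : ∑ a : F, ∑ b : F, chi (a * b + β * b ^ 2) = (Fintype.card F : ℤ) := by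
  classical
  rw [Finset.sum_comm, Finset.sum_eq_single (0 : F)]
  · simp [chi_zero]
  · intro b _ hb
    simp only [chi_add, ← Finset.sum_mul]
    rw [show ∑ a : F, chi (a * b) = 0 by simpa [mul_comm, hb] using sum_mul_chi b, zero_mul]
  · simp

theorem plane_aniso {ζ : F} (hζ : ∀ c : F, c ^ 2 + c ≠ ζ) :
    ∑ a : F, ∑ b : F, chi (a ^ 2 * ζ + a * b + b ^ 2) = -(Fintype.card F : ℤ) := by
  classical
  have key : ∀ a : F, ∑ b : F, chi (a ^ 2 * ζ + a * b + b ^ 2) =
      (∑ t : F, chi (a ^ 2 * (ζ + t + t ^ 2))) - (if a = 0 then (Fintype.card F : ℤ) else 0) := by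
    intro a
    by_cases ha : a = 0
    · subst ha
      simp only [if_true, zero_pow two_ne_zero, zero_mul, zero_add, chi_sq, chi_zero]
      obtain ⟨t, ht⟩ := exists_neg (F := F)
      rw [sum_chi_eq_zero (fun b : F => b) (fun _ _ => rfl) (x0 := t) ht]
      simp
    · rw [if_neg ha, sub_zero, ← Equiv.sum_comp (Equiv.mulLeft₀ a ha)]
      exact Finset.sum_congr rfl fun t _ => congrArg chi (by show a ^ 2 * ζ + a * (a * t) + (a * t) ^ 2 = _; ring)
  simp only [key, Finset.sum_sub_distrib]
  rw [Finset.sum_comm, Finset.sum_eq_zero fun t _ => sum_sq_chi (fun h => hζ t ?_)]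
  · simp
  · linear_combination h - ζ * two_zero (F := F)

/-! ### the sum of a form -/

variable {o : Bool}

/-- the sign sum -/
noncomputable def G (U : USys F true) : ℤ := ∑ᶠ x : U.S.V, chi (U.Q x)

theorem G_eq (U : USys F true) [Fintype U.S.V] : G U = ∑ x : U.S.V, chi (U.Q x) := finsum_eq_sum_of_fintype _

theorem G_iso {U U' : USys F true} (h : UIso U U') : G U = G U' := by
  obtain ⟨T, -, -, hQ⟩ := h
  rw [G, G, ← finsum_comp_equiv T.toEquiv]
  exact finsum_congr fun x => by rw [LinearEquiv.coe_toEquiv, hQ rfl]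

theorem G_split (U : USys F true) (P : Piece U.S) : G U = G (sub U P) * G (sub U P.compl) := by
  haveI : Finite U.S.V := Module.finite_of_finite F
  haveI : Fintype U.S.V := Fintype.ofFinite _
  haveI : Fintype P.W := Fintype.ofFinite _
  haveI : Fintype P.compl.W := Fintype.ofFinite _
  rw [G_eq, G_eq, G_eq, Finset.sum_mul_sum, ← Finset.sum_product', Finset.univ_product_univ,
    ← Equiv.sum_comp P.split.toEquiv]
  refine Finset.sum_congr rfl fun z _ => ?_
  rw [LinearEquiv.coe_toEquiv, P.split_apply, U.Qadd rfl, show U.S.B (z.1 : U.S.V) z.2 = 0 from z.2.2 _ z.1.2,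
    add_zero, chi_add]

theorem G_sq (U : USys F true) : G U * G U = (Nat.card U.S.V : ℤ) := by
  classical
  haveI : Finite U.S.V := Module.finite_of_finite F
  haveI : Fintype U.S.V := Fintype.ofFinite _
  rw [G_eq, Finset.sum_mul_sum, Finset.sum_comm, Nat.card_eq_fintype_card]
  have key : ∀ y z : U.S.V, chi (U.Q (z + y)) * chi (U.Q y) = chi (U.Q z) * chi (U.S.B z y) := by
    intro y z
    rw [← chi_add, ← chi_add, U.Qadd rfl]
    congr 1
    linear_combination U.Q y * two_zero (F := F)
  have : ∀ y : U.S.V, ∑ x, chi (U.Q x) * chi (U.Q y) = ∑ z, chi (U.Q z) * chi (U.S.B z y) := fun y => by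
    rw [← Equiv.sum_comp (Equiv.addRight y)]
    exact Finset.sum_congr rfl fun z _ => key y z
  simp only [this]
  rw [Finset.sum_comm]
  simp only [← Finset.mul_sum]
  rw [Finset.sum_eq_single (0 : U.S.V)]
  · simp only [map_zero, LinearMap.zero_apply, chi_zero, Finset.sum_const, Finset.card_univ, nsmul_eq_mul, mul_one]
    rw [show chi (U.Q 0) = 1 by
      rw [show U.Q (0 : U.S.V) = 0 from q_zero U (t := 0) (le_refl 0)]
      exact chi_zero, one_mul]
  · intro z _ hz
    obtain ⟨y, hy⟩ : ∃ y, U.S.B z y ≠ 0 := by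
      by_contra h
      push Not at h
      exact hz (U.S.nd z h)
    obtain ⟨t, ht⟩ := exists_neg (F := F)
    rw [sum_chi_eq_zero (fun y => U.S.B z y) (fun a b => map_add _ a b) (x0 := (t / U.S.B z y) • y)
      (by rwa [map_smul, smul_eq_mul, div_mul_cancel₀ _ hy]), mul_zero]
  · simp

theorem G_ne_zero (U : USys F true) : G U ≠ 0 := by
  intro h
  haveI : Finite U.S.V := Module.finite_of_finite F
  have := G_sq U
  rw [h, mul_zero] at this
  have := Nat.card_pos (α := U.S.V)
  omega

/-- reduction to a plane -/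
theorem G_reduce (U : USys F true) (M U0 : Submodule F U.S.V) (x y : U.S.V) (hx : x ∈ M) (hy : y ∈ M)
    (hxy : U.S.B x y = 1) (hU : U0 ≤ M) (hM : ∀ z, z ∈ M ↔ ∀ u ∈ U0, U.S.B z u = 0)
    (hQ : ∀ u ∈ U0, U.Q u = 0) (hspan : ∀ z ∈ M, ∃ (a b : F) (u : U.S.V), u ∈ U0 ∧ z = a • x + b • y + u) :
    G U = (Nat.card U0 : ℤ) * ∑ a : F, ∑ b : F, chi (a ^ 2 * U.Q x + a * b + b ^ 2 * U.Q y) := by
  classical
  haveI : Finite U.S.V := Module.finite_of_finite F
  haveI : Fintype U.S.V := Fintype.ofFinite _
  haveI : Fintype U0 := Fintype.ofFinite _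
  have hpos : (Nat.card U0 : ℤ) ≠ 0 := by exact_mod_cast (Nat.card_pos (α := U0)).ne'
  -- only the orthogonal space contributes
  have h1 : (Nat.card U0 : ℤ) * G U = (Nat.card U0 : ℤ) * ∑ z ∈ Finset.univ.filter (· ∈ M), chi (U.Q z) := by
    have hshift : ∀ u : U0, ∑ z, chi (U.Q z) = ∑ z, chi (U.Q z) * chi (U.S.B z u) := fun u => by
      rw [← Equiv.sum_comp (Equiv.addRight (u : U.S.V))]
      refine Finset.sum_congr rfl fun z _ => ?_
      rw [← chi_add, Equiv.coe_addRight, U.Qadd rfl, hQ u u.2, add_zero]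
    calc (Nat.card U0 : ℤ) * G U = ∑ u : U0, ∑ z, chi (U.Q z) * chi (U.S.B z u) := by
          rw [Finset.sum_congr rfl fun u _ => (hshift u).symm, G_eq, Finset.sum_const, Finset.card_univ,
            nsmul_eq_mul, Nat.card_eq_fintype_card]
      _ = ∑ z, chi (U.Q z) * ∑ u : U0, chi (U.S.B z u) := by rw [Finset.sum_comm]; simp only [Finset.mul_sum]
      _ = _ := by
          rw [Finset.mul_sum, Finset.sum_filter]
          refine Finset.sum_congr rfl fun z _ => ?_
          split_ifs with hz
          · rw [Finset.sum_congr rfl fun (u : U0) _ => (show chi (U.S.B z u) = 1 by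
                rw [(hM z).1 hz u u.2, chi_zero]), Finset.sum_const, Finset.card_univ, nsmul_eq_mul, mul_one,
              Nat.card_eq_fintype_card, mul_comm]
          · rw [hM] at hz
            push Not at hz
            obtain ⟨u, hu, hne⟩ := hz
            obtain ⟨t, ht⟩ := exists_neg (F := F)
            rw [sum_chi_eq_zero (fun w : U0 => U.S.B z (w : U.S.V)) (fun a b => by simp)
              (x0 := (t / U.S.B z u) • ⟨u, hu⟩)
              (by rw [SetLike.val_smul, map_smul, smul_eq_mul, div_mul_cancel₀ _ hne]; exact ht), mul_zero]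
  have h1' := mul_left_cancel₀ hpos h1
  have hx0 : ∀ u ∈ U0, U.S.B x u = 0 := (hM x).1 hx
  have hy0 : ∀ u ∈ U0, U.S.B y u = 0 := (hM y).1 hy
  have hyx : U.S.B y x = 1 := by rw [UniTwoSys53.sym', hxy]
  let f : F × F × U0 → U.S.V := fun p => p.1 • x + p.2.1 • y + (p.2.2 : U.S.V)
  have hinj : Function.Injective f := by
    rintro ⟨a, b, u⟩ ⟨a', b', u'⟩ h
    have ha := congrArg (fun z => U.S.B z y) h
    have hb := congrArg (fun z => U.S.B z x) h
    simp only [f, map_add, map_smul, LinearMap.add_apply, LinearMap.smul_apply, smul_eq_mul, U.alt, hxy, hyx,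
      UniTwoSys53.sym' U (u : U.S.V) y, UniTwoSys53.sym' U (u' : U.S.V) y, UniTwoSys53.sym' U (u : U.S.V) x,
      UniTwoSys53.sym' U (u' : U.S.V) x, hy0 _ u.2, hy0 _ u'.2, hx0 _ u.2, hx0 _ u'.2, mul_one, mul_zero, add_zero,
      zero_add] at ha hb
    subst ha hb
    simp only [f] at h
    rw [Subtype.ext (add_left_cancel h)]
  have himg : Finset.univ.image f = Finset.univ.filter (· ∈ M) := by
    ext z
    simp only [Finset.mem_image, Finset.mem_univ, true_and, Finset.mem_filter]
    constructor
    · rintro ⟨⟨a, b, u⟩, rfl⟩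
      exact M.add_mem (M.add_mem (M.smul_mem a hx) (M.smul_mem b hy)) (hU u.2)
    · intro hz
      obtain ⟨a, b, u, hu, rfl⟩ := hspan z hz
      exact ⟨⟨a, b, ⟨u, hu⟩⟩, rfl⟩
  rw [h1', ← himg, Finset.sum_image fun p _ r _ h => hinj h, Fintype.sum_prod_type, Finset.mul_sum]
  refine Finset.sum_congr rfl fun a _ => ?_
  rw [Fintype.sum_prod_type, Finset.mul_sum]
  refine Finset.sum_congr rfl fun b _ => ?_
  rw [Nat.card_eq_fintype_card, ← Finset.card_univ, ← nsmul_eq_mul, ← Finset.sum_const]
  refine Finset.sum_congr rfl fun u _ => congrArg chi ?_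
  simp only [f]
  rw [U.Qadd rfl, U.Qadd rfl, U.Qsmul rfl, U.Qsmul rfl, hQ u u.2, map_add, map_smul, map_smul, map_smul,
    LinearMap.add_apply, LinearMap.smul_apply, LinearMap.smul_apply, LinearMap.smul_apply]
  simp only [smul_eq_mul, hxy, hx0 _ u.2, hy0 _ u.2]
  ring

/-! ### blocks -/

variable {ν0 : F}

theorem G_block (hν0 : ∀ c : F, c ^ 2 + c ≠ ν0) {U : USys F true} {b : Blk} (R : Real U ν0 b) (ha : act b) :
    (b.lab = true → G (sub U R.gen.piece) < 0) ∧ (b.lab = false → 0 < G (sub U R.gen.piece)) := by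
  classical
  set P := R.gen.piece
  set U' := sub U P
  haveI : Finite U'.S.V := Module.finite_of_finite F
  let K := Kb b
  have hm := R.hm
  have hKm : K + 1 ≤ b.m := by
    show Kb b + 1 ≤ b.m
    unfold Kb; split <;> omega
  have hK2 : b.m < 2 * (b.m - K) := by
    show b.m < 2 * (b.m - Kb b)
    unfold Kb
    cases hv : b.v
    · rcases ha with h | h
      · simp [hv] at h
      · simp only [Bool.false_eq_true, if_false]; omega
    · obtain ⟨j, hj⟩ := R.even hv
      simp only [if_true]; omega
  have hkillU : ∀ z : U'.S.V, (nu U' ^ b.m) z = 0 := by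
    intro z
    refine Subtype.ext ?_
    rw [nu_pow_coe, nu_pow]
    obtain ⟨r, rfl⟩ := R.gen.el_surjective z
    show ev U.S _ (R.gen.Φ r) = 0
    rw [R.gen.ev_Φ, R.gen.Φ_eq_zero]
    exact fun i => dvd_mul_right _ _
  have hker : ∀ z : U'.S.V, (nu U' ^ (b.m - K)) z = 0 ↔ z ∈ LinearMap.range (nu U' ^ K) := by
    intro z
    constructor
    · intro hz
      obtain ⟨r, rfl⟩ := R.gen.el_surjective z
      have h := congrArg Subtype.val hz
      rw [nu_pow_coe, nu_pow] at h
      change ev U.S _ (R.gen.Φ r) = 0 at h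
      rw [R.gen.ev_Φ, R.gen.Φ_eq_zero] at h
      have hdiv : ∀ i, (X - C (1 : F)) ^ K ∣ r i := fun i => by
        have := h i
        rw [show (X - C (1 : F)) ^ b.m = (X - C 1) ^ (b.m - K) * (X - C 1) ^ K by
          rw [← pow_add, Nat.sub_add_cancel (by omega)]] at this
        exact (mul_dvd_mul_iff_left (pow_ne_zero _ (X_sub_C_ne_zero _))).1 this
      choose s hs using hdiv
      refine ⟨R.gen.el s, Subtype.ext ?_⟩
      rw [nu_pow_coe, nu_pow]
      show ev U.S _ (R.gen.Φ s) = R.gen.Φ r
      rw [R.gen.ev_Φ]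
      exact congrArg R.gen.Φ (funext fun i => (hs i).symm)
    · rintro ⟨s, rfl⟩
      rw [← Module.End.mul_apply, ← pow_add, Nat.sub_add_cancel (by omega), hkillU]
  have hM : ∀ z, z ∈ LinearMap.range (nu U' ^ K) ↔
      ∀ u ∈ LinearMap.range (nu U' ^ (b.m - K)), U'.S.B z u = 0 := by
    intro z
    rw [← hker, nu_pow, ← show rec' (X - C (1 : F)) = X - C 1 from rec_lin (mul_one 1),
      ← evi_pow_eq_zero U'.S (lin_good (mul_one 1)), ← orth_range, rec_lin (mul_one 1)]
    exact forall₂_congr fun u _ => by rw [UniTwoSys53.sym']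
  have hU : LinearMap.range (nu U' ^ (b.m - K)) ≤ LinearMap.range (nu U' ^ K) := by
    rintro _ ⟨s, rfl⟩
    rw [← hker, ← Module.End.mul_apply, ← pow_add, kill_mono (show b.m ≤ b.m - K + (b.m - K) by omega) (hkillU s)]
  have hQ : ∀ u ∈ LinearMap.range (nu U' ^ (b.m - K)), U'.Q u = 0 := by
    rintro _ ⟨s, rfl⟩
    show q U' 0 _ = 0
    rw [q_nu_pow U' (le_refl 0), Nat.zero_add, q_vanish (hkillU s) hK2]
  have hi : i0 true ≤ K := by simp [i0]
  obtain ⟨m, v, lab⟩ := b
  cases v
  · have hodd : m % 2 = 1 := by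
      rcases ha with h | h
      · simp at h
      · exact h
    have hK : m = 2 * K + 1 := by show m = 2 * Kb _ + 1; simp [Kb]; omega
    let i1 : Fin (Blk.mk m false lab).cnt := ⟨0, by simp [Blk.cnt]⟩
    let i2 : Fin (Blk.mk m false lab).cnt := ⟨1, by simp [Blk.cnt]⟩
    let x : U'.S.V := ⟨R.u i1, u_mem R i1⟩
    let y : U'.S.V := ⟨R.u i2, u_mem R i2⟩
    have hqx : q U' K x = if lab then ν0 else 0 := by
      rw [q_coe]; show q U K (R.u i1) = _
      rw [R.hq i1 K hi]; cases lab <;> simp [tq, i1, hK]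
    have hqy : q U' K y = if lab then 1 else 0 := by
      rw [q_coe]; show q U K (R.u i2) = _
      rw [R.hq i2 K hi]; cases lab <;> simp [tq, i2, hK]
    have hxyB : U'.S.B ((nu U' ^ K) x) ((nu U' ^ K) y) = 1 := by
      have h1 : q U' 0 ((nu U' ^ K) (x + y)) =
          q U' 0 ((nu U' ^ K) x) + q U' 0 ((nu U' ^ K) y) + U'.S.B ((nu U' ^ K) x) ((nu U' ^ K) y) := by
        rw [map_add]; exact U'.Qadd rfl _ _
      rw [q_nu_pow U' (le_refl 0), q_nu_pow U' (le_refl 0), q_nu_pow U' (le_refl 0), Nat.zero_add, q_add U' hi,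
        C0_coe] at h1
      have h2 : C0 U (R.u i1) (R.u i2) K = 1 := by
        rw [(R.hc i1 i2 (Fin.mk_lt_mk.2 Nat.zero_lt_one) K).1, tC0, if_pos hK]
      change q U' K x + q U' K y + C0 U (R.u i1) (R.u i2) K = _ at h1
      rw [h2] at h1
      exact (add_left_cancel h1).symm
    have hG := G_reduce U' (LinearMap.range (nu U' ^ K)) (LinearMap.range (nu U' ^ (m - K))) ((nu U' ^ K) x) ((nu U' ^ K) y) ⟨x, rfl⟩ ⟨y, rfl⟩ hxyB hU hM hQ ?_
    · have hx0 : U'.Q ((nu U' ^ K) x) = if lab then ν0 else 0 := by
        show q U' 0 _ = _; rw [q_nu_pow U' (le_refl 0), Nat.zero_add, hqx]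
      have hy0 : U'.Q ((nu U' ^ K) y) = if lab then 1 else 0 := by
        show q U' 0 _ = _; rw [q_nu_pow U' (le_refl 0), Nat.zero_add, hqy]
      rw [hG, hx0, hy0]
      have hc : (0 : ℤ) < (Nat.card (LinearMap.range (nu U' ^ (m - K))) : ℤ) := by exact_mod_cast Nat.card_pos
      have hq : (0 : ℤ) < Fintype.card F := by exact_mod_cast Fintype.card_pos
      constructor
      · intro h
        simp only at h
        subst h
        simp only [if_true, mul_one]
        rw [plane_aniso hν0]
        nlinarith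
      · intro h
        simp only at h
        subst h
        simp only [Bool.false_eq_true, if_false, mul_zero, add_zero, zero_add]
        have := plane_zero (F := F) 0
        simp only [zero_mul, add_zero] at this
        rw [this]
        positivity
    · rintro _ ⟨s, rfl⟩
      obtain ⟨r, rfl⟩ := R.gen.el_surjective s
      choose t ht using fun i => dvd_iff_isRoot.2 (show IsRoot (r i - C ((r i).eval 1)) 1 by simp [IsRoot])
      refine ⟨(r i1).eval 1, (r i2).eval 1, (nu U' ^ (m - K)) (R.gen.el t), ⟨_, rfl⟩, ?_⟩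
      rw [show m - K = K + 1 by omega, ← map_smul, ← map_smul, pow_succ _ K, Module.End.mul_apply, ← map_add,
        ← map_add]
      congr 1
      refine Subtype.ext ?_
      have e : ((nu U' (R.gen.el t) : P.W) : U.S.V) = R.gen.Φ (fun i => (X - C 1) * t i) := by
        rw [nu_coe]
        show nu U (R.gen.Φ t) = _
        rw [nu_eq_ev, R.gen.ev_Φ]
      show R.gen.Φ r = (r i1).eval 1 • R.u i1 + (r i2).eval 1 • R.u i2 + ((nu U' (R.gen.el t) : P.W) : U.S.V)
      rw [e, show (fun i => (X - C 1) * t i) = r - fun i => C ((r i).eval 1) from funext fun i => (ht i).symm,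
        map_sub]
      have e2 : R.gen.Φ (fun i => C ((r i).eval 1)) = (r i1).eval 1 • R.u i1 + (r i2).eval 1 • R.u i2 := by
        rw [Gen.Φ_apply]
        show ∑ i : Fin 2, _ = _
        rw [Fin.sum_univ_two]
        simp [ev, Real.gen, Algebra.algebraMap_eq_smul_one]
        rfl
      rw [e2]
      abel
  · obtain ⟨j, hj⟩ := R.even rfl
    simp only at hj hm
    have hK : m = 2 * (K + 1) := by show m = 2 * (Kb _ + 1); simp [Kb]; omega
    let i1 : Fin (Blk.mk m true lab).cnt := ⟨0, by simp [Blk.cnt]⟩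
    let u : U'.S.V := ⟨R.u i1, u_mem R i1⟩
    have hq1 : q U' K u = if lab then ν0 else 0 := by
      rw [q_coe]; show q U K (R.u i1) = _
      rw [R.hq i1 K hi]; cases lab <;> simp [tq, hK]
    have hq2 : q U' (K + 1) u = 1 := by
      rw [q_coe]; show q U (K + 1) (R.u i1) = _
      rw [R.hq i1 (K + 1) (by simp [i0])]; simp [tq, hK]
    have hxyB : U'.S.B ((nu U' ^ K) u) ((nu U' ^ (K + 1)) u) = 1 := by
      rw [pow_succ' _ K, Module.End.mul_apply]
      show C1 U' ((nu U' ^ K) u) ((nu U' ^ K) u) 0 = 1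
      rw [← q_succ, q_nu_pow U' (by simp [i0]), show 0 + 1 + K = K + 1 by omega, hq2]
    have hG := G_reduce U' (LinearMap.range (nu U' ^ K)) (LinearMap.range (nu U' ^ (m - K))) ((nu U' ^ K) u) ((nu U' ^ (K + 1)) u) ⟨u, rfl⟩
      ⟨nu U' u, by rw [← Module.End.mul_apply, ← pow_succ]⟩ hxyB hU hM hQ ?_
    · have hx0 : U'.Q ((nu U' ^ K) u) = if lab then ν0 else 0 := by
        show q U' 0 _ = _; rw [q_nu_pow U' (le_refl 0), Nat.zero_add, hq1]
      have hy0 : U'.Q ((nu U' ^ (K + 1)) u) = 1 := by
        show q U' 0 _ = _; rw [q_nu_pow U' (le_refl 0), Nat.zero_add, hq2]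
      rw [hG, hx0, hy0]
      have hc : (0 : ℤ) < (Nat.card (LinearMap.range (nu U' ^ (m - K))) : ℤ) := by exact_mod_cast Nat.card_pos
      have hq : (0 : ℤ) < Fintype.card F := by exact_mod_cast Fintype.card_pos
      constructor
      · intro h
        simp only at h
        subst h
        simp only [if_true, mul_one]
        rw [plane_aniso hν0]
        nlinarith
      · intro h
        simp only at h
        subst h
        simp only [Bool.false_eq_true, if_false, mul_zero, zero_add, mul_one]
        have := plane_zero (F := F) 1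
        simp only [one_mul] at this
        rw [this]
        positivity
    · rintro _ ⟨s, rfl⟩
      obtain ⟨r, rfl⟩ := R.gen.el_surjective s
      obtain ⟨t1, ht1⟩ := dvd_iff_isRoot.2 (show IsRoot (r i1 - C ((r i1).eval 1)) 1 by simp [IsRoot])
      obtain ⟨t2, ht2⟩ := dvd_iff_isRoot.2 (show IsRoot (t1 - C (t1.eval 1)) 1 by simp [IsRoot])
      refine ⟨(r i1).eval 1, t1.eval 1, (nu U' ^ (m - K)) (R.gen.el fun _ => t2), ⟨_, rfl⟩, ?_⟩
      rw [show m - K = K + 2 by omega, pow_succ _ K, show K + 2 = K + 1 + 1 by rfl, pow_succ _ (K + 1),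
        pow_succ _ K, Module.End.mul_apply, Module.End.mul_apply, Module.End.mul_apply, ← map_smul, ← map_smul,
        ← map_add, ← map_add]
      congr 1
      refine Subtype.ext ?_
      have e : ((nu U' (nu U' (R.gen.el fun _ => t2)) : P.W) : U.S.V) =
          R.gen.Φ (fun _ => (X - C 1) * ((X - C 1) * t2)) := by
        rw [nu_coe, nu_coe]
        show nu U (nu U (R.gen.Φ fun _ => t2)) = _
        rw [nu_eq_ev, R.gen.ev_Φ, R.gen.ev_Φ]
      have hu : R.u i1 = R.gen.Φ (fun _ => 1) := by
        rw [Gen.Φ_apply]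
        show _ = ∑ i : Fin 1, _
        rw [Fin.sum_univ_one]
        simp [ev, Real.gen]
        rfl
      show R.gen.Φ r = (r i1).eval 1 • R.u i1 + t1.eval 1 • nu U (R.u i1) +
        ((nu U' (nu U' (R.gen.el fun _ => t2)) : P.W) : U.S.V)
      rw [e, hu, nu_eq_ev, R.gen.ev_Φ, ← map_smul, ← map_smul, ← map_add, ← map_add]
      congr 1
      funext i
      obtain rfl : i = i1 := by
        have := i.isLt
        simp only [Blk.cnt, if_true] at this
        exact Fin.ext (by show (i : ℕ) = 0; omega)
      simp only [Pi.add_apply, Pi.smul_apply, smul_eq_C_mul]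
      linear_combination ht1 + (X - C 1) * ht2

/-! ### change of a label -/

/-- kinds with labels, as a Boolean -/
def actB (b : Blk) : Bool := b.v || (b.m % 2 == 1)

theorem actB_iff (b : Blk) : actB b = true ↔ act b := by simp [actB, act]

/-- the other label -/
def flipB (b : Blk) : Blk := { b with lab := !b.lab }

/-- flips the last block carrying labels -/
def flip : List Blk → List Blk
  | [] => []
  | b :: l => if l.any actB then b :: flip l else flipB b :: l

/-- some block carries labels -/
def flippable (l : List Blk) : Bool := l.any actB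

theorem flip_shape : ∀ l : List Blk, (flip l).map (fun b => (b.m, b.v)) = l.map (fun b => (b.m, b.v)) := by
  intro l
  induction l with
  | nil => rfl
  | cons b l ih => rw [flip]; split <;> simp [ih, flipB]

theorem flip_any (l : List Blk) : (flip l).any actB = l.any actB := by
  have h := congrArg (fun L : List (ℕ × Bool) => L.any fun p => p.2 || (p.1 % 2 == 1)) (flip_shape l)
  simp only [List.any_map] at h
  exact h

theorem flip_flip : ∀ l : List Blk, flip (flip l) = l := by
  intro l
  induction l with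
  | nil => rfl
  | cons b l ih =>
    rw [flip]
    split
    · next h => rw [flip, flip_any, if_pos h, ih]
    · next h => rw [flip, if_neg h]; simp [flipB]

theorem flip_valid : ∀ {l : List Blk}, flippable l = true → Valid true l → Valid true (flip l) := by
  intro l
  induction l with
  | nil => intro _ h; exact h
  | cons b l ih =>
    rintro hf ⟨hl, h1, h2, h3, h4, h5, h6⟩
    rw [flip]
    split
    · next h =>
      have hmem : ∀ b' ∈ flip l, ∃ b'' ∈ l, b'.m = b''.m ∧ b'.v = b''.v := by
        intro b' hb'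
        have : (b'.m, b'.v) ∈ l.map (fun b => (b.m, b.v)) := by
          rw [← flip_shape l]; exact List.mem_map.2 ⟨b', hb', rfl⟩
        obtain ⟨c, hc, he⟩ := List.mem_map.1 this
        simp only [Prod.mk.injEq] at he
        exact ⟨c, hc, he.1.symm, he.2.symm⟩
      refine ⟨ih h hl, h1, h2, h3, fun b' hb' => ?_, fun hv => ?_, fun hlab b' hb' ha => ?_⟩
      · obtain ⟨c, hc, e1, e2⟩ := hmem b' hb'
        unfold rank at h4 ⊢
        rw [e1, e2]
        exact h4 c hc
      · have e : ∀ L : List Blk, L.countP (fun b' => rank b' == rank b) =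
            (L.map fun b => (b.m, b.v)).countP (fun p => (2 * p.1 + if p.2 then 0 else 1) == rank b) := fun L => by
          rw [List.countP_map]; rfl
        rw [e, flip_shape, ← e]
        exact h5 hv
      · obtain ⟨c, hc, e1, e2⟩ := hmem b' hb'
        rw [e1]
        exact h6 hlab c hc (by unfold act at *; rwa [← e1, ← e2])
    · next h =>
      have hact : act b := by
        rw [← actB_iff]
        simpa [flippable, h] using hf
      exact ⟨hl, h1, h2, fun _ => ⟨by simp [i0], hact⟩, h4, h5, fun _ b' hb' ha =>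
        absurd (List.any_eq_true.2 ⟨b', hb', (actB_iff b').2 ha⟩) h⟩

theorem not_flippable {l : List Blk} (h : flippable l = false) : ∀ b ∈ l, b.v = false ∧ b.m % 2 = 0 := by
  intro b hb
  have : actB b = false := by
    by_contra hc
    have : flippable l = true := List.any_eq_true.2 ⟨b, hb, by simpa using hc⟩
    rw [h] at this
    exact Bool.false_ne_true this
  simp only [actB, Bool.or_eq_false_iff, beq_eq_false_iff_ne] at this
  exact ⟨this.1, by omega⟩

theorem G_flip (hν0 : ∀ c : F, c ^ 2 + c ≠ ν0) : ∀ {l : List Blk}, flippable l = true → ∀ {U U' : USys F true},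
    Norm ν0 U l → Norm ν0 U' (flip l) → G U' = -G U := by
  intro l
  induction l with
  | nil => intro h; simp [flippable] at h
  | cons b l ih =>
    intro hf U U' hn hn'
    rw [flip] at hn'
    cases hn with
    | cons _ _ _ R hR =>
      split at hn'
      · next h =>
        cases hn' with
        | cons _ _ _ R' hR' =>
          rw [G_split U R.gen.piece, G_split U' R'.gen.piece, ih h hR hR', G_iso (R'.uiso R), mul_neg]
      · next h =>
        cases hn' with
        | cons _ _ _ R' hR' =>
          have hact : act b := by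
            rw [← actB_iff]
            simpa [flippable, h] using hf
          have hact' : act (flipB b) := hact
          obtain ⟨n1, p1⟩ := G_block hν0 R hact
          obtain ⟨n2, p2⟩ := G_block hν0 R' hact'
          rw [G_split U R.gen.piece, G_split U' R'.gen.piece, G_iso (hR'.uiso hR), ← neg_mul]
          congr 1
          have hcard : Nat.card R'.gen.piece.W = Nat.card R.gen.piece.W := by
            rw [Module.natCard_eq_pow_finrank (K := F) (V := R'.gen.piece.W),
              Module.natCard_eq_pow_finrank (K := F) (V := R.gen.piece.W),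
              Gen.finrank_piece R'.gen, Gen.finrank_piece R.gen]
            rfl
          have hsq : G (sub U' R'.gen.piece) * G (sub U' R'.gen.piece) =
              G (sub U R.gen.piece) * G (sub U R.gen.piece) := by
            rw [G_sq, G_sq]; exact_mod_cast hcard
          rcases mul_self_eq_mul_self_iff.1 hsq with e | e
          · exfalso
            cases hl : b.lab
            · have := p1 hl; have := n2 (by simp [flipB, hl]); omega
            · have := n1 hl; have := p2 (by simp [flipB, hl]); omega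
          · exact e

end Cfsg.Agent.UniTwoGauss53
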