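import Mathlib
import Cfsg.Prelude.Def_Classical
import Cfsg.Agent.Lib.UniTwoGauss53
import Cfsg.Agent.Lib.FormTransport53

/-!
Characteristic two: an upper bound for the classes of one orthogonal group.
-/

set_option autoImplicit false
set_option linter.unusedSectionVars false

open Polynomial
open LinearMap (BilinForm)
open scoped Matrix
open Cfsg.Agent.GLClassBound53

namespace Cfsg.Agent.UniTwoOrth53

open Cfsg.Agent.FormSys53 Cfsg.Agent.FormSub53 Cfsg.Agent.FormCombine53 Cfsg.Agent.FormMatrix53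
  Cfsg.Agent.FormTransport53 Cfsg.Agent.UniTwoSys53 Cfsg.Agent.UniTwoBlk53 Cfsg.Agent.UniTwoNorm53
  Cfsg.Agent.UniTwoCount53 Cfsg.Agent.UniTwoClasses53 Cfsg.Agent.UniTwoGauss53

universe u v

variable {F : Type u} [Field F] [Fintype F] [CharP F 2]

theorem upper_std {n N : ℕ} [NeZero n] (hn : n = 2 * N) (Ψ : Std2 F true n) {H : Type v} [Group H] [Finite H]
    (f : H →* GL (Fin n) F) (hf : Function.Injective f) (hmem : ∀ x, Pres2 Ψ (f x))
    (hall : ∀ x, Pres2 Ψ x → ∃ y, f y = x) :
    2 * (Nat.card (ConjClasses H) : ℚ) ≤ (256 / 10 + 3 / 2) * (Fintype.card F : ℚ) ^ N := by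
  classical
  obtain ⟨ν0, L, hν0, hL, key, hinj, hkey⟩ := exists_key Ψ hn f hf hmem hall
  have hshapes : ∀ c, wl (key c).1 ≤ N ∧ (∀ j, Good ((key c).2 j)) ∧
      ∑ j : Fin n, ((j : ℕ) + 1) * ((key c).2 j).natDegree = N - wl (key c).1 ∧ Valid true (key c).1 := fun c => by
    obtain ⟨x, hx⟩ := hkey c
    rw [hx]
    obtain ⟨a, b, d⟩ := weight_tupH Ψ (hmem x) hn (hL x).2
    exact ⟨a, b, d, (hL x).1⟩
  have wl_flip : ∀ l : List Blk, wl (flip l) = wl l := fun l => by
    have e : ∀ L : List Blk, wl L = ((L.map fun b => (b.m, b.v)).map fun p => if p.2 then p.1 / 2 else p.1).sum :=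
      fun L => by rw [List.map_map]; rfl
    rw [e, e, flip_shape]
  -- two classes cannot differ by one label
  have excl : ∀ c d, flippable (key c).1 = true → ¬ ((key d).1 = flip (key c).1 ∧ (key d).2 = (key c).2) := by
    intro c d hf' hcd
    obtain ⟨x, hx⟩ := hkey c
    obtain ⟨y, hy⟩ := hkey d
    rw [hx, hy] at hcd
    rw [hx] at hf'
    simp only at hcd hf'
    have hsh : (L x).map (fun b => (b.m, b.v)) = (L y).map (fun b => (b.m, b.v)) := by
      rw [hcd.1, flip_shape]
    obtain ⟨φ, hφ⟩ := linear_of_key Ψ (hmem x) (hmem y) (hL x).2 (hL y).2 hsh hcd.2.symm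
    have hG := G_flip hν0 hf' (hL x).2 (hcd.1 ▸ (hL y).2)
    have hsame : G (usys Ψ (hmem x)) = G (usys Ψ (hmem y)) := rfl
    rw [G_split _ (plus (usys Ψ (hmem x)).S), G_split _ (plus (usys Ψ (hmem y)).S), hG,
      ← G_iso (rest_uiso φ hφ)] at hsame
    have h0 : G (plusU (usys Ψ (hmem x))) * G (restU (usys Ψ (hmem x))) = 0 := by linarith
    rcases mul_eq_zero.1 h0 with h | h <;> exact G_ne_zero _ h
  let p : ConjClasses H × Bool → Prop := fun z => z.2 = false ∨ flippable (key z.1).1 = true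
  let key1 : {z // p z} → List Blk × (Fin n → F[X]) := fun z =>
    if z.1.2 then (flip (key z.1.1).1, (key z.1.1).2) else key z.1.1
  let key2 : {z // ¬ p z} → List Blk × (Fin n → F[X]) := fun z => key z.1.1
  have h1 : (Nat.card {z // p z} : ℚ) ≤ 256 / 10 * (Fintype.card F : ℚ) ^ N := by
    refine count_le key1 ?_ (fun z => ?_) (Valid true) (fun z => ?_) _ (fun s hs => (total true s hs).trans (by simp))
    · rintro ⟨⟨c, a⟩, hc⟩ ⟨⟨d, b⟩, hd⟩ h
      simp only [p] at hc hd
      cases a <;> cases b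
      · simp only [key1, Bool.false_eq_true, if_false] at h
        exact Subtype.ext (Prod.ext (hinj h) rfl)
      · simp only [key1, Bool.false_eq_true, if_false, if_true] at h
        exact absurd ⟨congrArg Prod.fst h, by rw [h]⟩ (excl d c (hd.resolve_left Bool.true_eq_false.mp))
      · simp only [key1, Bool.false_eq_true, if_false, if_true] at h
        exact absurd ⟨(congrArg Prod.fst h).symm, by rw [← h]⟩
          (excl c d (hc.resolve_left Bool.true_eq_false.mp))
      · simp only [key1, if_true, Prod.mk.injEq] at h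
        exact Subtype.ext (Prod.ext (hinj (Prod.ext
          (by rw [← UniTwoGauss53.flip_flip (key c).1, h.1, UniTwoGauss53.flip_flip]) h.2)) rfl)
    · obtain ⟨a1, a2, a3, -⟩ := hshapes z.1.1
      simp only [key1]
      split
      · exact ⟨by rw [wl_flip]; exact a1, a2, by rw [wl_flip]; exact a3⟩
      · exact ⟨a1, a2, a3⟩
    · obtain ⟨-, -, -, a4⟩ := hshapes z.1.1
      simp only [key1]
      split
      · next h =>
        rcases z.2 with h' | h'
        · rw [h] at h'; exact absurd h' Bool.true_eq_false.mp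
        · exact flip_valid h' a4
      · exact a4
  have h2 : (Nat.card {z // ¬ p z} : ℚ) ≤ 3 / 2 * (Fintype.card F : ℚ) ^ N := by
    refine count_le key2 ?_ (fun z => ⟨(hshapes z.1.1).1, (hshapes z.1.1).2.1, (hshapes z.1.1).2.2.1⟩)
      (fun l => Valid true l ∧ ∀ b ∈ l, b.v = false ∧ b.m % 2 = 0)
      (fun z => ⟨(hshapes z.1.1).2.2.2, not_flippable (by
        have := z.2; simp only [p, not_or] at this; exact Bool.eq_false_iff.2 this.2)⟩) _ (fun s hs => even_total s hs)
    rintro ⟨⟨c, a⟩, hc⟩ ⟨⟨d, b⟩, hd⟩ h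
    simp only [p, not_or] at hc hd
    obtain ⟨ha, -⟩ := hc
    obtain ⟨hb, -⟩ := hd
    simp only [Bool.not_eq_false] at ha hb
    subst ha hb
    exact Subtype.ext (Prod.ext (hinj h) rfl)
  haveI : Fintype (ConjClasses H) := Fintype.ofFinite _
  have h3 : Nat.card {z // p z} + Nat.card {z // ¬ p z} = Nat.card (ConjClasses H) * 2 := by
    rw [← Nat.card_sum, Nat.card_congr (Equiv.sumCompl p), Nat.card_prod, Nat.card_eq_fintype_card (α := Bool),
      Fintype.card_bool]
  have h4 : (Nat.card {z // p z} : ℚ) + Nat.card {z // ¬ p z} = (Nat.card (ConjClasses H) : ℚ) * 2 := by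
    exact_mod_cast h3
  linarith

variable {ι : Type} [Fintype ι] [DecidableEq ι] {Q : QuadraticForm F (ι → F)}

theorem mem_iff (g : GL ι F) :
    g ∈ Cfsg.isometryGroup F ⇑Q ↔ ∀ z, Q ((g : Matrix ι ι F) *ᵥ z) = Q z :=
  ⟨fun h z => h z z, fun h u _ => h u⟩

theorem upper (hnd : (QuadraticMap.polarBilin Q).Nondegenerate) {N : ℕ} (hdim : Fintype.card ι = 2 * N)
    (hN : 1 ≤ N) : Nat.card (ConjClasses ↥(Cfsg.isometryGroup F ⇑Q)) ≤ 15 * Fintype.card F ^ N := by
  classical
  haveI : NeZero (2 * N) := ⟨by omega⟩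
  let e : ι ≃ Fin (2 * N) := (Fintype.equivFin ι).trans (finCongr hdim)
  let Φ : Std F (1 : F) (2 * N) := stdOf e (QuadraticMap.polarBilin Q)
    (fun x y => by
      rw [one_mul, QuadraticMap.polarBilin_apply_apply, QuadraticMap.polarBilin_apply_apply, QuadraticMap.polar_comm])
    (fun x hx => hnd.1 x hx)
  let Ψ : Std2 F true (2 * N) :=
    { Φ := Φ
      alt := fun x => by
        show QuadraticMap.polarBilin Q (x ∘ e) (x ∘ e) = 0
        rw [QuadraticMap.polarBilin_apply_apply, QuadraticMap.polar_self, nsmul_eq_mul, Nat.cast_ofNat,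
          CharTwo.two_eq_zero, zero_mul]
      Q := fun x => Q (x ∘ e)
      Qadd := fun _ x y => by
        show Q (x ∘ e + y ∘ e) = Q (x ∘ e) + Q (y ∘ e) + QuadraticMap.polarBilin Q (x ∘ e) (y ∘ e)
        rw [QuadraticMap.polarBilin_apply_apply]
        exact QuadraticMap.map_add Q _ _
      Qsmul := fun _ c x => by
        show Q (c • (x ∘ e)) = c ^ 2 * Q (x ∘ e)
        rw [QuadraticMap.map_smul, smul_eq_mul, pow_two] }
  have key : ∀ (g : GL ι F) (x : Fin (2 * N) → F),
      (((toGL e g : GL (Fin (2 * N)) F) : Matrix (Fin (2 * N)) (Fin (2 * N)) F).mulVec x) ∘ e =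
        (g : Matrix ι ι F) *ᵥ (x ∘ e) := fun g x => by
    rw [toGL_mulVec]
    funext i
    simp
  have h := upper_std rfl Ψ ((toGL e).comp (Subgroup.subtype (Cfsg.isometryGroup F ⇑Q)))
    ((toGL_injective e).comp (Subgroup.subtype_injective _))
    (fun g => ⟨fun x y => by
        show QuadraticMap.polarBilin Q ((((toGL e g.1 : GL (Fin (2 * N)) F) : Matrix (Fin (2 * N)) (Fin (2 * N)) F).mulVec x) ∘ e)
          ((((toGL e g.1 : GL (Fin (2 * N)) F) : Matrix (Fin (2 * N)) (Fin (2 * N)) F).mulVec y) ∘ e) =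
          QuadraticMap.polarBilin Q (x ∘ e) (y ∘ e)
        rw [key, key, QuadraticMap.polarBilin_apply_apply, QuadraticMap.polarBilin_apply_apply,
          QuadraticMap.polar, QuadraticMap.polar, ← Matrix.mulVec_add]
        have h' := (mem_iff g.1).1 g.2
        simp only [Subgroup.coe_subtype, h'],
      fun _ x => by
        show Q ((((toGL e g.1 : GL (Fin (2 * N)) F) : Matrix (Fin (2 * N)) (Fin (2 * N)) F).mulVec x) ∘ e) = Q (x ∘ e)
        rw [key]
        exact (mem_iff g.1).1 g.2 _⟩)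
    (fun g hg => by
      obtain ⟨g', rfl⟩ := toGL_surjective e g
      refine ⟨⟨g', (mem_iff g').2 fun z => ?_⟩, rfl⟩
      have h1 : Q (((toGL e g' : GL (Fin (2 * N)) F) : Matrix (Fin (2 * N)) (Fin (2 * N)) F).mulVec (z ∘ e.symm) ∘ e) =
          Q ((z ∘ e.symm) ∘ e) := hg.2 rfl (z ∘ e.symm)
      rw [key, Function.comp_assoc, Equiv.symm_comp_self, Function.comp_id] at h1
      exact h1)
  have h2 : ((Nat.card (ConjClasses ↥(Cfsg.isometryGroup F ⇑Q)) : ℕ) : ℚ) ≤ ((15 * Fintype.card F ^ N : ℕ) : ℚ) := by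
    push_cast
    have : (0 : ℚ) ≤ (Fintype.card F : ℚ) ^ N := by positivity
    linarith
  exact_mod_cast h2

end Cfsg.Agent.UniTwoOrth53
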