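import Mathlib
import Cfsg.Prelude.Def_Classical
import Cfsg.Agent.Lib.UniTwoGauss53
import Cfsg.Agent.Lib.UniTwoOrth53
import Cfsg.Agent.Lib.SympSemisimpleClasses
import Cfsg.Agent.Lib.QuadClassify

/-!
Characteristic two: characteristic polynomials realised in the orthogonal group of either type.
-/

set_option autoImplicit false
set_option linter.unusedSectionVars false

open Polynomial
open LinearMap (BilinForm)
open scoped Matrix

namespace Cfsg.Agent.UniTwoRealise53

open Cfsg.Agent.FormSys53 Cfsg.Agent.UniTwoSys53 Cfsg.Agent.UniTwoGauss53 Cfsg.Agent.UniTwoStep53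
open Cfsg.Agent.SymplecticBasic

universe u

variable {F : Type u} [Field F] [Fintype F] [CharP F 2]

/-! ### sums over symmetric matrices -/

theorem sum_sum_symm {α : Type*} [Fintype α] [DecidableEq α] (A : α → α → F) (hA : ∀ i j, A i j = A j i) :
    ∑ i, ∑ j, A i j = ∑ i, A i i := by
  rw [← Finset.sum_product', ← Finset.sum_filter_add_sum_filter_not (Finset.univ ×ˢ Finset.univ) (fun p : α × α => p.1 = p.2)]
  rw [show ∑ p ∈ (Finset.univ ×ˢ Finset.univ).filter (fun p : α × α => ¬ p.1 = p.2), A p.1 p.2 = 0 from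
    Finset.sum_involution (fun p _ => (p.2, p.1))
      (fun p _ => by rw [hA p.2 p.1, CharTwo.add_self_eq_zero])
      (fun p hp _ h => (Finset.mem_filter.1 hp).2 (congrArg Prod.fst h).symm)
      (fun p hp => by simpa [eq_comm] using hp) (fun p _ => rfl), add_zero]
  refine Finset.sum_bij (fun p _ => p.1) (fun _ _ => Finset.mem_univ _) ?_ ?_ ?_
  · intro p hp r hr h
    exact Prod.ext h (((Finset.mem_filter.1 hp).2.symm.trans h).trans (Finset.mem_filter.1 hr).2)
  · intro i _
    exact ⟨(i, i), by simp, rfl⟩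
  · intro p hp
    rw [← (Finset.mem_filter.1 hp).2]

variable {m : ℕ}

theorem quad_symm (S : Matrix (Fin m) (Fin m) F) (hS : Sᵀ = S) (l : Fin m → F) (hl : ∀ i, l i ^ 2 = S i i)
    (u : Fin m → F) : u ⬝ᵥ (S *ᵥ u) = (l ⬝ᵥ u) ^ 2 := by
  have hs : ∀ i j, S i j = S j i := fun i j => congrFun (congrFun hS j) i
  simp only [dotProduct, Matrix.mulVec, Finset.mul_sum, CharTwo.sum_sq]
  rw [sum_sum_symm (fun i j => u i * (S i j * u j)) fun i j => by rw [hs i j]; ring]
  exact Finset.sum_congr rfl fun i _ => by rw [← hl]; ring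

theorem sum_dot [DecidableEq F] (c : Fin m → F) :
    ∑ u : Fin m → F, chi (c ⬝ᵥ u) = if c = 0 then (Fintype.card F : ℤ) ^ m else 0 := by
  split_ifs with h
  · subst h; simp [chi_zero]
  · obtain ⟨i, hi⟩ := Function.ne_iff.1 h
    obtain ⟨t, ht⟩ := exists_neg (F := F)
    exact sum_chi_eq_zero (fun u => c ⬝ᵥ u) (fun x y => dotProduct_add c x y) (x0 := Pi.single i (t / c i))
      (by rwa [dotProduct_single, mul_div_cancel₀ _ hi])

/-! ### the regular element -/

/-- the companion data -/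
structure Dat (F : Type u) [Field F] (m : ℕ) where
  D : Matrix (Fin m) (Fin m) F
  S : Matrix (Fin m) (Fin m) F
  hS : Sᵀ = S
  hdet : IsUnit S.det
  hSD : (S * D)ᵀ = S * D
  hD : IsUnit D.det

variable (d : Dat F m)

/-- its symplectic matrix -/
noncomputable def Dat.M : Matrix (Fin m ⊕ Fin m) (Fin m ⊕ Fin m) F := Matrix.fromBlocks 0 d.S (-d.S⁻¹) d.D

theorem Dat.mem : d.M ∈ Matrix.symplecticGroup (Fin m) F :=
  SympSemisimpleClasses.exists_sp_element d.hS d.hdet d.hSD

theorem Dat.eval_one : d.M.charpoly.eval 1 = d.D.charpoly.eval 0 := by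
  rw [Dat.M, SympSemisimpleClasses.eval_charpoly_fromBlocks _ _ _ (Matrix.nonsing_inv_mul _ d.hdet) one_ne_zero,
    one_pow, one_mul, inv_one, CharTwo.add_self_eq_zero]

theorem Dat.eval_ne : d.M.charpoly.eval 1 ≠ 0 := by
  rw [d.eval_one, ← coeff_zero_eq_eval_zero]
  intro h
  refine d.hD.ne_zero ?_
  rw [Matrix.det_eq_sign_charpoly_coeff, h, mul_zero]

/-- the alternating system -/
noncomputable abbrev Dat.sys : USys F false where
  S :=
    { V := Fin m ⊕ Fin m → F
      g := Matrix.toLin' d.M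
      B := LinearMap.mk₂ F (Cfsg.sympForm m F) form_add_left form_smul_left form_add_right form_smul_right
      sym := fun x y => by
        show Cfsg.sympForm m F y x = 1 * Cfsg.sympForm m F x y
        rw [form_swap x y, CharTwo.neg_eq, one_mul]
      nd := fun x hx => form_nondeg hx
      inv := fun x y => by
        show Cfsg.sympForm m F (Matrix.toLin' d.M x) (Matrix.toLin' d.M y) = _
        rw [Matrix.toLin'_apply, Matrix.toLin'_apply]
        exact mem_sp_iff_form.1 d.mem x y }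
  alt x := form_self x
  Q _ := 0
  Qadd h := absurd h Bool.false_ne_true
  Qsmul h := absurd h Bool.false_ne_true
  Qinv h := absurd h Bool.false_ne_true

theorem Dat.nu_injective : Function.Injective (nu d.sys) := by
  refine (injective_iff_map_eq_zero _).2 fun x hx => ?_
  by_contra hne
  have h0 : (Matrix.scalar (Fin m ⊕ Fin m) (1 : F) - d.M) *ᵥ x = 0 := by
    have h' : Matrix.toLin' d.M x + x = 0 := hx
    rw [Matrix.toLin'_apply] at h'
    rw [map_one, Matrix.sub_mulVec, Matrix.one_mulVec]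
    funext i
    have hi := congrFun h' i
    simp only [Pi.add_apply, Pi.zero_apply, Pi.sub_apply] at hi ⊢
    linear_combination hi - (d.M *ᵥ x) i * two_zero (F := F)
  refine d.eval_ne ?_
  rw [Matrix.eval_charpoly]
  exact Matrix.exists_mulVec_eq_zero_iff.1 ⟨x, hne, h0⟩

/-- `g - 1` inverted -/
noncomputable def Dat.nuInv : d.sys.S.V ≃ₗ[F] d.sys.S.V := (LinearEquiv.ofInjectiveEndo (nu d.sys) d.nu_injective).symm

theorem Dat.nu_nuInv (y : d.sys.S.V) : nu d.sys (d.nuInv y) = y :=
  (LinearEquiv.ofInjectiveEndo (nu d.sys) d.nu_injective).apply_symm_apply y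

/-- the quadratic system -/
noncomputable abbrev Dat.qsys : USys F true where
  S := d.sys.S
  alt := d.sys.alt
  Q y := q d.sys 1 (d.nuInv y)
  Qadd _ x y := by
    rw [map_add, q_add d.sys (t := 1) (i0_le_one _)]
    congr 1
    conv_rhs => rw [← d.nu_nuInv x, ← d.nu_nuInv y]
    have h := B_nn d.sys (d.nuInv x) (d.nuInv y) 0 0
    simpa using h.symm
  Qsmul _ c x := by rw [map_smul, q_smul d.sys (t := 1) (i0_le_one _)]
  Qinv _ x := by
    have : d.nuInv (d.sys.S.g x) = d.sys.S.g (d.nuInv x) := by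
      apply d.nu_injective
      rw [d.nu_nuInv, nu_apply, ← map_add, ← nu_apply, d.nu_nuInv]
    show q d.sys 1 (d.nuInv (d.sys.S.g x)) = q d.sys 1 (d.nuInv x)
    rw [this, q_succ, q_succ, C1_g]

theorem Dat.trace_inv (hm : 1 ≤ m) :
    Matrix.trace d.D⁻¹ = d.D.charpoly.coeff 1 / d.D.charpoly.coeff 0 := by
  haveI : Nonempty (Fin m) := ⟨⟨0, hm⟩⟩
  have hdeg : d.D.charpoly.natDegree = m := by rw [Matrix.charpoly_natDegree_eq_dim, Fintype.card_fin]
  rw [Matrix.trace_eq_neg_charpoly_coeff, Matrix.charpoly_inv _ ((Matrix.isUnit_iff_isUnit_det _).2 d.hD),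
    Fintype.card_fin, CharTwo.neg_eq, CharTwo.neg_eq (1 : F[X]), one_pow, one_mul, coeff_C_mul, ← Matrix.reverse_charpoly,
    coeff_reverse, hdeg, revAt_le (Nat.sub_le _ _), show m - (m - 1) = 1 by omega, Ring.inverse_eq_inv',
    Matrix.det_eq_sign_charpoly_coeff, CharTwo.neg_eq (1 : F), one_pow, one_mul, div_eq_inv_mul]

theorem Dat.G_eq (hm : 1 ≤ m) :
    G d.qsys = (Fintype.card F : ℤ) ^ m * chi (d.D.charpoly.coeff 1 / d.D.charpoly.coeff 0) := by
  classical
  rw [← d.trace_inv hm, UniTwoGauss53.G_eq]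
  have e0 : ∀ x : d.sys.S.V, d.qsys.Q (nu d.sys x) = Cfsg.sympForm m F x (d.M *ᵥ x) := by
    intro x
    show q d.sys 1 (d.nuInv (nu d.sys x)) = _
    rw [show d.nuInv (nu d.sys x) = x from d.nu_injective (d.nu_nuInv _), q_succ, C1, pow_zero,
      Module.End.one_apply, nu_apply, map_add, d.sys.alt, add_zero]
    rfl
  have hb : Function.Bijective (nu d.sys) :=
    ⟨d.nu_injective, LinearMap.injective_iff_surjective.1 d.nu_injective⟩
  have hb2 : Function.Bijective (fun u : Fin m → F => d.S *ᵥ u) :=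
    Finite.injective_iff_bijective.1 (Matrix.mulVec_injective_iff_isUnit.2 ((Matrix.isUnit_iff_isUnit_det _).2 d.hdet))
  rw [show ∑ x, chi (d.qsys.Q x) = ∑ x : Fin m ⊕ Fin m → F, chi (Cfsg.sympForm m F x (d.M *ᵥ x)) from
    (hb.sum_comp fun x => chi (d.qsys.Q x)).symm.trans (Finset.sum_congr rfl fun x _ => by rw [e0])]
  rw [← Equiv.sum_comp (Equiv.sumArrowEquivProdArrow _ _ _).symm, Fintype.sum_prod_type, Finset.sum_comm]
  obtain ⟨l, hl⟩ : ∃ l : Fin m → F, ∀ i, l i ^ 2 = d.S i i := ⟨fun i => (exists_sqrt _).choose, fun i => (exists_sqrt _).choose_spec⟩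
  set A := d.S * d.D with hA
  have hAu : IsUnit A.det := by rw [hA, Matrix.det_mul]; exact d.hdet.mul d.hD
  have hval : ∀ u v : Fin m → F,
      chi (Cfsg.sympForm m F (Sum.elim (d.S *ᵥ u) v) (d.M *ᵥ Sum.elim (d.S *ᵥ u) v)) =
        chi ((l + A *ᵥ v) ⬝ᵥ u) * chi (l ⬝ᵥ v) := by
    intro u v
    have e1 : d.S⁻¹ *ᵥ (d.S *ᵥ u) = u := by
      rw [Matrix.mulVec_mulVec, Matrix.nonsing_inv_mul _ d.hdet, Matrix.one_mulVec]
    have e2 : ∀ z, (d.S *ᵥ u) ⬝ᵥ z = u ⬝ᵥ (d.S *ᵥ z) := fun z => by
      rw [Matrix.dotProduct_mulVec, ← Matrix.mulVec_transpose, d.hS]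
    rw [← chi_sq (l ⬝ᵥ v), ← quad_symm d.S d.hS l hl v, add_dotProduct, chi_add (l ⬝ᵥ u),
      ← chi_sq (l ⬝ᵥ u), ← quad_symm d.S d.hS l hl u, ← chi_add, ← chi_add]
    congr 1
    rw [Cfsg.sympForm, Matrix.J, Matrix.fromBlocks_mulVec, Dat.M, Matrix.fromBlocks_mulVec,
      sumElim_dotProduct_sumElim]
    simp only [Sum.elim_comp_inl, Sum.elim_comp_inr, Matrix.zero_mulVec, zero_add, add_zero, Matrix.one_mulVec,
      Matrix.neg_mulVec, CharTwo.neg_eq, e1, dotProduct_add]
    simp only [← neg_one_smul F (u : Fin m → F), neg_one_eq, one_smul, dotProduct_neg, CharTwo.neg_eq]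
    rw [dotProduct_comm (A *ᵥ v) u, hA, ← Matrix.mulVec_mulVec, ← e2, ← e2, dotProduct_add]
    try simp only [neg_dotProduct, dotProduct_neg, neg_neg, CharTwo.neg_eq]
    try ring
  have hinner : ∀ v : Fin m → F, ∑ x1 : Fin m → F,
      chi (Cfsg.sympForm m F (Sum.elim x1 v) (d.M *ᵥ Sum.elim x1 v)) =
      (if l + A *ᵥ v = 0 then (Fintype.card F : ℤ) ^ m else 0) * chi (l ⬝ᵥ v) := fun v => by
    rw [← hb2.sum_comp fun x1 => chi (Cfsg.sympForm m F (Sum.elim x1 v) (d.M *ᵥ Sum.elim x1 v))]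
    simp only [hval, ← Finset.sum_mul, sum_dot]
  refine (Finset.sum_congr rfl fun v _ => hinner v).trans ?_
  rw [Finset.sum_eq_single (A⁻¹ *ᵥ l)]
  · rw [if_pos (by rw [Matrix.mulVec_mulVec, Matrix.mul_nonsing_inv _ hAu, Matrix.one_mulVec]; exact add_self_vec (F := F) l)]
    congr 2
    have hAi : A⁻¹ᵀ = A⁻¹ := by rw [Matrix.transpose_nonsing_inv, hA, d.hSD]
    have hNs : ∀ i j, A⁻¹ i j = A⁻¹ j i := fun i j => congrFun (congrFun hAi j) i
    have hSs : ∀ i j, d.S i j = d.S j i := fun i j => congrFun (congrFun d.hS j) i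
    have e : Matrix.trace d.D⁻¹ = Matrix.trace (A⁻¹ * d.S) := by
      rw [hA, Matrix.mul_inv_rev, Matrix.mul_assoc, Matrix.nonsing_inv_mul _ d.hdet, Matrix.mul_one]
    rw [e]
    simp only [Matrix.trace, Matrix.diag_apply, Matrix.mul_apply, dotProduct, Matrix.mulVec, Finset.mul_sum]
    rw [sum_sum_symm (fun i j => l i * (A⁻¹ i j * l j)) (fun i j => by rw [hNs i j]; ring),
      sum_sum_symm (fun i j => A⁻¹ i j * d.S j i) (fun i j => by rw [hNs i j, hSs i j])]
    exact Finset.sum_congr rfl fun i _ => by rw [← hl]; ring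
  · intro v _ hv
    rw [if_neg, zero_mul]
    intro h
    refine hv ?_
    have : A *ᵥ v = l := by
      have := congrArg (fun z => l + z) h
      simp only [add_zero] at this
      rwa [← add_assoc, add_self_vec (F := F), zero_add] at this
    rw [← this, Matrix.mulVec_mulVec, Matrix.nonsing_inv_mul _ hAu, Matrix.one_mulVec]
  · simp

/-! ### sums of systems, planes -/

/-- orthogonal sum -/
noncomputable abbrev sumU (U U' : USys F true) : USys F true where
  S :=
    { V := U.S.V × U'.S.V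
      g := U.S.g.prodMap U'.S.g
      B := (U.S.B.compl₁₂ (LinearMap.fst F U.S.V U'.S.V) (LinearMap.fst F U.S.V U'.S.V)) +
        (U'.S.B.compl₁₂ (LinearMap.snd F U.S.V U'.S.V) (LinearMap.snd F U.S.V U'.S.V))
      sym := fun x y => by simp [U.S.sym x.1 y.1, U'.S.sym x.2 y.2]
      nd := fun x h =>
        Prod.ext (U.S.nd x.1 fun y => by simpa using h (y, 0)) (U'.S.nd x.2 fun y => by simpa using h (0, y))
      inv := fun x y => by simp [U.S.inv, U'.S.inv] }
  alt x := by simp [U.alt, U'.alt]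
  Q x := U.Q x.1 + U'.Q x.2
  Qadd _ x y := by simp [U.Qadd rfl, U'.Qadd rfl]; ring
  Qsmul _ c x := by simp [U.Qsmul rfl, U'.Qsmul rfl]; ring
  Qinv _ x := by simp [U.Qinv rfl, U'.Qinv rfl]

theorem G_sum (U U' : USys F true) : G (sumU U U') = G U * G U' := by
  haveI : Finite U.S.V := Module.finite_of_finite F
  haveI : Finite U'.S.V := Module.finite_of_finite F
  haveI : Fintype U.S.V := Fintype.ofFinite _
  haveI : Fintype U'.S.V := Fintype.ofFinite _
  rw [UniTwoGauss53.G_eq, UniTwoGauss53.G_eq, UniTwoGauss53.G_eq, Finset.sum_mul_sum, Fintype.sum_prod_type]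
  simp only [chi_add]

/-- the plane with values `α`, `1` -/
noncomputable abbrev planeU (α : F) : USys F true where
  S :=
    { V := Fin 2 → F
      g := LinearMap.id
      B := LinearMap.mk₂ F (fun x y => x 0 * y 1 + x 1 * y 0) (fun x x' y => by simp; ring)
        (fun r x y => by simp; ring) (fun x y y' => by simp; ring) (fun r x y => by simp; ring)
      sym := fun x y => by simp; ring
      nd := fun x h => by
        have h0 := h ![1, 0]
        have h1 := h ![0, 1]
        simp at h0 h1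
        funext i
        fin_cases i
        · exact h1
        · exact h0
      inv := fun _ _ => rfl }
  alt x := by
    show x 0 * x 1 + x 1 * x 0 = 0
    linear_combination (x 0 * x 1) * two_zero (F := F)
  Q x := x 0 ^ 2 * α + x 0 * x 1 + x 1 ^ 2
  Qadd _ x y := by
    show (x 0 + y 0) ^ 2 * α + (x 0 + y 0) * (x 1 + y 1) + (x 1 + y 1) ^ 2 = _
    simp
    linear_combination (x 0 * y 0 * α + x 1 * y 1) * two_zero (F := F)
  Qsmul _ c x := by simp; ring
  Qinv _ _ := rfl

theorem G_plane (α : F) : G (planeU α) = ∑ a : F, ∑ b : F, chi (a ^ 2 * α + a * b + b ^ 2) := by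
  rw [UniTwoGauss53.G_eq, ← Equiv.sum_comp (finTwoArrowEquiv F).symm, Fintype.sum_prod_type]
  exact Finset.sum_congr rfl fun a _ => Finset.sum_congr rfl fun b _ => by simp

theorem charpoly_plane (α : F) : (planeU α).S.g.charpoly = (X - C 1) ^ 2 := by
  show (LinearMap.id : (Fin 2 → F) →ₗ[F] Fin 2 → F).charpoly = _
  rw [← LinearMap.charpoly_toMatrix _ (Pi.basisFun F (Fin 2)), LinearMap.toMatrix_id, Matrix.charpoly_one]
  simp

theorem exists_plane (τ : ℤ) (hτ : τ = 1 ∨ τ = -1) : ∃ α : F, 0 < τ * G (planeU α) := by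
  have hq : (0 : ℤ) < Fintype.card F := by exact_mod_cast Fintype.card_pos
  rcases hτ with rfl | rfl
  · refine ⟨0, ?_⟩
    rw [G_plane, one_mul]
    have := plane_zero (F := F) 1
    simp only [one_mul] at this
    simp only [mul_zero, zero_add, this]
    exact hq
  · obtain ⟨ν0, hν, -⟩ := exists_nu0 (F := F)
    refine ⟨ν0, ?_⟩
    rw [G_plane, plane_aniso hν]
    omega

/-! ### counting -/

theorem chi_cases (t : F) : chi t = 1 ∨ chi t = -1 := by
  unfold chi; split <;> simp

/-- the coefficient vectors -/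
abbrev Vec (F : Type u) [Field F] (k : ℕ) : Type u := {w : Fin (k + 1) → F // w 0 ≠ 0}

theorem card_vec (k : ℕ) : Nat.card (Vec F k) = (Fintype.card F - 1) * Fintype.card F ^ k := by
  classical
  let e : Vec F k ≃ {a : F // a ≠ 0} × (Fin k → F) :=
    { toFun := fun w => (⟨w.1 0, w.2⟩, fun i => w.1 i.succ)
      invFun := fun z => ⟨Fin.cons z.1.1 z.2, by simpa using z.1.2⟩
      left_inv := fun w => Subtype.ext (by simp [← Fin.tail_def, Fin.cons_self_tail])
      right_inv := fun z => by simp }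
  rw [Nat.card_congr e, Nat.card_prod, Nat.card_eq_fintype_card, Nat.card_eq_fintype_card,
    Fintype.card_subtype_compl, Fintype.card_subtype_eq, Fintype.card_fun, Fintype.card_fin]

theorem card_good (k : ℕ) (τ : ℤ) (hτ : τ = 1 ∨ τ = -1) :
    Nat.card (Vec F (k + 1)) ≤ 2 * Nat.card {w : Vec F (k + 1) // chi (w.1 1 / w.1 0) = τ} := by
  classical
  obtain ⟨t, ht⟩ := exists_neg (F := F)
  let good : Vec F (k + 1) → Prop := fun w => chi (w.1 1 / w.1 0) = τ
  let T : Vec F (k + 1) → Vec F (k + 1) := fun w =>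
    ⟨Function.update w.1 1 (w.1 1 + t * w.1 0), by
      rw [Function.update_of_ne (by simp)]; exact w.2⟩
  have hT : ∀ w, chi ((T w).1 1 / (T w).1 0) = -chi (w.1 1 / w.1 0) := fun w => by
    simp only [T, Function.update_self, Function.update_of_ne (show (0 : Fin (k + 2)) ≠ 1 by simp)]
    rw [add_div, mul_div_assoc, div_self w.2, mul_one, chi_add, ht]
    ring
  have hinj : Function.Injective T := fun a b h => by
    have h' := congrArg Subtype.val h
    refine Subtype.ext (funext fun i => ?_)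
    have h0 : a.1 0 = b.1 0 := by
      have := congrFun h' 0
      simpa [T] using this
    by_cases hi : i = 1
    · subst hi
      have := congrFun h' 1
      simp only [T, Function.update_self, h0] at this
      exact add_right_cancel this
    · have := congrFun h' i
      simpa [T, Function.update_of_ne hi] using this
  have hbad : Nat.card {w // ¬ good w} ≤ Nat.card {w // good w} := by
    refine Nat.card_le_card_of_injective (fun w => ⟨T w.1, ?_⟩) fun a b h => Subtype.ext (hinj (congrArg Subtype.val h))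
    have hw := w.2
    show chi ((T w.1).1 1 / (T w.1).1 0) = τ
    rw [hT]
    simp only [good] at hw
    rcases chi_cases (w.1.1 1 / w.1.1 0) with h | h <;> rcases hτ with rfl | rfl <;> rw [h] at hw ⊢ <;>
      first | (exact absurd rfl hw) | norm_num
  have := Nat.card_congr (Equiv.sumCompl good)
  rw [Nat.card_sum] at this
  show _ ≤ 2 * Nat.card {w // good w}
  omega

/-! ### elements with a given low part -/

theorem exists_dat (k : ℕ) (w : Vec F k) : ∃ d : Dat F (k + 1), ∀ i : Fin (k + 1), d.D.charpoly.coeff i = w.1 i := by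
  obtain ⟨A, hA⟩ := SemisimpleConjGL.exists_charCoeffs w.1
  obtain ⟨D, B, hD, hB, hdet, hBD⟩ := SympSemisimpleClasses.exists_symm_companion A.charpoly
    (Matrix.charpoly_monic A) (by rw [Matrix.charpoly_natDegree_eq_dim, Fintype.card_fin])
  have hc : ∀ i : Fin (k + 1), D.charpoly.coeff i = w.1 i := fun i => by rw [hD, ← hA]; rfl
  refine ⟨⟨D, B, hB, hdet, hBD, ?_⟩, hc⟩
  rw [Matrix.det_eq_sign_charpoly_coeff, isUnit_iff_ne_zero, show D.charpoly.coeff 0 = w.1 0 from hc 0]
  exact mul_ne_zero (pow_ne_zero _ (neg_ne_zero.2 one_ne_zero)) w.2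

theorem dat_charpoly_inj (d d' : Dat F m) (h : d.M.charpoly = d'.M.charpoly) :
    d.D.charpoly = d'.D.charpoly := by
  let K := AlgebraicClosure F
  let φ := algebraMap F K
  have key : ∀ (e : Dat F m) (x : K), x ≠ 0 →
      (e.M.charpoly.map φ).eval x = x ^ m * (e.D.charpoly.map φ).eval (x + x⁻¹) := by
    intro e x hx
    rw [← Matrix.charpoly_map, ← Matrix.charpoly_map, Dat.M, Matrix.fromBlocks_map]
    rw [show (-(e.S)⁻¹).map φ = -((e.S)⁻¹.map φ) from Matrix.map_neg _ (map_neg φ) _,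
      Matrix.map_zero _ (map_zero φ)]
    refine SympSemisimpleClasses.eval_charpoly_fromBlocks _ _ _ ?_ hx
    rw [← Matrix.map_mul, Matrix.nonsing_inv_mul _ e.hdet, Matrix.map_one _ (map_zero φ) (map_one φ)]
  refine Polynomial.map_injective φ φ.injective (Polynomial.funext fun y => ?_)
  obtain ⟨x, hx⟩ := IsAlgClosed.exists_eval₂_eq_zero (RingHom.id K) (X ^ 2 - C y * X + 1)
    (by
      have : (X ^ 2 - C y * X + 1 : K[X]).degree = 2 := by compute_degree!
      rw [this]; exact two_ne_zero)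
  simp only [eval₂_id, eval_add, eval_sub, eval_pow, eval_X, eval_mul, eval_C, eval_one] at hx
  have hx0 : x ≠ 0 := fun h => (one_ne_zero : (1 : K) ≠ 0) (by rw [h] at hx; simpa using hx)
  have hy : x + x⁻¹ = y := by
    apply mul_right_cancel₀ hx0
    rw [add_mul, inv_mul_cancel₀ hx0]
    linear_combination hx
  have := key d x hx0
  rw [h, key d' x hx0, hy] at this
  exact (mul_left_cancel₀ (pow_ne_zero m hx0) this).symm

theorem charpoly_qsys : d.qsys.S.g.charpoly = d.M.charpoly := by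
  show (Matrix.toLin' d.M).charpoly = _
  rw [Matrix.charpoly_toLin']

variable {ι : Type} [Fintype ι] [DecidableEq ι] {Q : QuadraticForm F (ι → F)}

theorem lower {n : ℕ} (hn : 2 ≤ n) (τ : ℤ) (hτ : τ = 1 ∨ τ = -1)
    (hiso : ∀ U : USys F true, Module.finrank F U.S.V = 2 * n → 0 < τ * G U →
      ∃ T : U.S.V ≃ₗ[F] (ι → F), ∀ x, Q (T x) = U.Q x) :
    Fintype.card F ^ n ≤ 2 * Nat.card (ConjClasses ↥(Cfsg.isometryGroup F ⇑Q)) := by
  classical
  obtain ⟨j, rfl⟩ : ∃ j, n = j + 2 := ⟨n - 2, by omega⟩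
  have hqpow : ∀ k : ℕ, (0 : ℤ) < (Fintype.card F : ℤ) ^ k := fun k => by
    have : (0 : ℤ) < Fintype.card F := by exact_mod_cast Fintype.card_pos
    positivity
  choose dd hdd using exists_dat (F := F) (j + 1)
  choose ee hee using exists_dat (F := F) j
  have hrealise : ∀ (U : USys F true), Module.finrank F U.S.V = 2 * (j + 2) → 0 < τ * G U →
      ∃ g : ↥(Cfsg.isometryGroup F ⇑Q), (g.1 : Matrix ι ι F).charpoly = U.S.g.charpoly := by
    intro U hU hG
    obtain ⟨T, hT⟩ := hiso U hU hG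
    let L : (ι → F) →ₗ[F] (ι → F) := T.toLinearMap ∘ₗ U.S.g ∘ₗ T.symm.toLinearMap
    have hchar : (LinearMap.toMatrix' L).charpoly = U.S.g.charpoly := by
      rw [← LinearMap.toMatrix_eq_toMatrix', LinearMap.charpoly_toMatrix]
      exact LinearEquiv.charpoly_conj T U.S.g
    have hLinj : Function.Injective L := T.injective.comp ((g_injective U.S).comp T.symm.injective)
    have hunit : IsUnit (LinearMap.toMatrix' L) := by
      rw [← Matrix.mulVec_injective_iff_isUnit]
      have : (LinearMap.toMatrix' L).mulVec = L := funext fun v => LinearMap.toMatrix'_mulVec L v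
      rw [this]
      exact hLinj
    let g : GL ι F := hunit.unit
    refine ⟨⟨g, (UniTwoOrth53.mem_iff g).2 fun z => ?_⟩, hchar⟩
    show Q ((LinearMap.toMatrix' L) *ᵥ z) = Q z
    rw [LinearMap.toMatrix'_mulVec]
    show Q (T (U.S.g (T.symm z))) = Q z
    rw [hT, U.Qinv rfl, ← hT, T.apply_symm_apply]
  have hA : ∀ w : {w : Vec F (j + 1) // chi (w.1 1 / w.1 0) = τ},
      ∃ g : ↥(Cfsg.isometryGroup F ⇑Q), (g.1 : Matrix ι ι F).charpoly = (dd w.1).M.charpoly := fun w => by
    obtain ⟨g, hg⟩ := hrealise (dd w.1).qsys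
      (by
        show Module.finrank F (Fin (j + 1 + 1) ⊕ Fin (j + 1 + 1) → F) = _
        rw [Module.finrank_fintype_fun_eq_card, Fintype.card_sum, Fintype.card_fin]
        omega) (by
        have h1 : (dd w.1).D.charpoly.coeff 1 = w.1.1 1 := hdd w.1 1
        have h0 : (dd w.1).D.charpoly.coeff 0 = w.1.1 0 := hdd w.1 0
        rw [Dat.G_eq _ (by omega), h1, h0, w.2]
        have := hqpow (j + 1 + 1)
        rcases hτ with rfl | rfl <;> omega)
    exact ⟨g, hg.trans (charpoly_qsys _)⟩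
  have hB : ∀ w : Vec F j, ∃ g : ↥(Cfsg.isometryGroup F ⇑Q),
      (g.1 : Matrix ι ι F).charpoly = (ee w).M.charpoly * (X - C 1) ^ 2 := fun w => by
    set c := chi ((ee w).D.charpoly.coeff 1 / (ee w).D.charpoly.coeff 0) with hc
    have hc' : c = 1 ∨ c = -1 := chi_cases _
    obtain ⟨α, hα⟩ := exists_plane (F := F) (τ * c) (by
      rcases hτ with rfl | rfl <;> rcases hc' with h | h <;> rw [h] <;> norm_num)
    obtain ⟨g, hg⟩ := hrealise (sumU (ee w).qsys (planeU α))
      (by
        show Module.finrank F ((Fin (j + 1) ⊕ Fin (j + 1) → F) × (Fin 2 → F)) = _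
        rw [Module.finrank_prod, Module.finrank_fintype_fun_eq_card, Module.finrank_fintype_fun_eq_card,
          Fintype.card_sum, Fintype.card_fin, Fintype.card_fin]
        omega) (by
        rw [G_sum, Dat.G_eq _ (by omega), ← hc]
        have := hqpow (j + 1)
        calc (0 : ℤ) < (Fintype.card F : ℤ) ^ (j + 1) * (τ * c * G (planeU α)) := mul_pos this hα
          _ = _ := by ring)
    refine ⟨g, hg.trans ?_⟩
    show ((ee w).qsys.S.g.prodMap (planeU α).S.g).charpoly = _
    rw [LinearMap.charpoly_prodMap, charpoly_qsys, charpoly_plane]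
  choose gA hgA using hA
  choose gB hgB using hB
  let κ := {w : Vec F (j + 1) // chi (w.1 1 / w.1 0) = τ} ⊕ Vec F j
  let gg : κ → ↥(Cfsg.isometryGroup F ⇑Q) := Sum.elim gA gB
  haveI : Finite (ConjClasses ↥(Cfsg.isometryGroup F ⇑Q)) := inferInstance
  have hext : ∀ {k : ℕ} (dk : Vec F k → Dat F (k + 1)), (∀ w, ∀ i : Fin (k + 1), (dk w).D.charpoly.coeff i = w.1 i) →
      ∀ a b, (dk a).M.charpoly = (dk b).M.charpoly → a = b := fun dk hdk a b h =>
    Subtype.ext (funext fun i => by rw [← hdk a i, ← hdk b i, dat_charpoly_inj _ _ h])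
  have hinj : Function.Injective fun z => ConjClasses.mk (gg z) := by
    intro a b hab
    obtain ⟨c, hc⟩ := isConj_iff.1 (ConjClasses.mk_eq_mk_iff_isConj.1 hab)
    have hcp : (gg a).1.1.charpoly = (gg b).1.1.charpoly := by
      rw [← hc]
      simp only [Subgroup.coe_mul, Subgroup.coe_inv, Units.val_mul]
      rw [Matrix.coe_units_inv]
      exact (Matrix.charpoly_units_conj c.1 _).symm
    rcases a with a | a <;> rcases b with b | b <;> simp only [gg, Sum.elim_inl, Sum.elim_inr, hgA, hgB] at hcp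
    · rw [Subtype.ext (hext dd hdd _ _ hcp)]
    · refine absurd ?_ ((dd a.1).eval_ne)
      rw [hcp]
      simp
    · refine absurd ?_ ((dd b.1).eval_ne)
      rw [← hcp]
      simp
    · rw [hext ee hee a b (mul_right_cancel₀ (pow_ne_zero 2 (X_sub_C_ne_zero _)) hcp)]
  have h1 := Nat.card_le_card_of_injective _ hinj
  simp only [κ, Nat.card_sum, card_vec] at h1
  have h2 := card_good (F := F) j τ hτ
  rw [card_vec] at h2
  have hq : 2 ≤ Fintype.card F := Fintype.one_lt_card
  obtain ⟨r, hr⟩ : ∃ r, Fintype.card F = r + 2 := ⟨_, (Nat.sub_add_cancel hq).symm⟩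
  rw [hr] at h1 h2 ⊢
  have e : r + 2 - 1 = r + 1 := rfl
  rw [e] at h1 h2
  have key : (r + 2) ^ (j + 2) ≤ (r + 1) * (r + 2) ^ (j + 1) + 2 * ((r + 1) * (r + 2) ^ j) := by
    rw [pow_succ _ (j + 1), pow_succ _ j]
    nlinarith [Nat.zero_le (r * (r + 2) ^ j)]
  linarith

end Cfsg.Agent.UniTwoRealise53
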