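import Cfsg.Agent.Lib.PrimeDegreeCoord
import Cfsg.Agent.Lib.PFixedLattice26
import Cfsg.Agent.Lib.CharBasicLinear
import Cfsg.Agent.Lib.CharAverage
import Cfsg.Agent.S4478

/-!
# Transitive groups of prime degree with exactly one irreducible character of that degree

The group-theoretic consequences of the hypotheses: a self-centralising Sylow subgroup `⟨y⟩`, a
cyclic complement `⟨g⟩` of it in its normaliser, simplicity, and a subgroup of index `p`.
-/

set_option autoImplicit false

open Subgroup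
open scoped ComplexConjugate Pointwise

namespace Cfsg.Agent.UniqueDegree26

open Cfsg

universe u

/-- The configuration. -/
structure Hyp {G : Type u} [Group G] (p e : ℕ) (y g : G) (H : Subgroup G) : Prop where
  prime : p.Prime
  e_two : 2 ≤ e
  e_dvd : e ∣ p - 1
  ord_y : orderOf y = p
  not_sq : ¬ p ^ 2 ∣ Nat.card G
  cent_y : centralizer ({y} : Set G) = zpowers y
  ord_g : orderOf g = e
  norm_y : normalizer ((zpowers y : Subgroup G) : Set G) = zpowers y ⊔ zpowers g
  card_norm : Nat.card (normalizer ((zpowers y : Subgroup G) : Set G)) = p * e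
  card_NE : Nat.card (normalizer ((zpowers g : Subgroup G) : Set G)) = 2 * e
  ti : ∀ a : G, a ∉ normalizer ((zpowers g : Subgroup G) : Set G) →
    ∀ x ∈ zpowers g, a * x * a⁻¹ ∈ zpowers g → x = 1
  unique : ∃! χ : IrrCharacter G, Cfsg.charDegree (χ : G → ℂ) = p
  simple : ∀ K : Subgroup G, K.Normal → K ≠ ⊥ → K = ⊤
  index : H.index = p
  g_mem : g ∈ H
  fix_g : ∀ x ∈ zpowers g, x ≠ 1 → ∀ a : G, a⁻¹ * x * a ∈ H → a ∈ H
  sign_even : Even e → Even ((p - 1) / e)

section Coord

variable {p : ℕ} [hp : Fact p.Prime] {α : Type u} [Finite α]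

/-- An affine map which is no translation fixes exactly one point. -/
theorem affine_fixed {σ : Equiv.Perm α} (c : ZMod p ≃ α) {a b : ZMod p} (ha : a ≠ 1)
    (h : ∀ x, σ (c x) = c (a * x + b)) :
    σ (c (b / (1 - a))) = c (b / (1 - a)) ∧ ∀ x, σ (c x) = c x → x = b / (1 - a) := by
  have h1 : (1 : ZMod p) - a ≠ 0 := sub_ne_zero.2 (Ne.symm ha)
  constructor
  · rw [h]
    congr 1
    field_simp
    ring
  · intro x hx
    rw [h] at hx
    have := c.injective hx
    rw [eq_div_iff h1]
    linear_combination -this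

/-- Multiplication by a generator of the units is an odd permutation. -/
theorem sign_mulLeft_generator (hp2 : p ≠ 2) (γ : (ZMod p)ˣ) (hγ : ∀ x : (ZMod p)ˣ, x ∈ zpowers γ) :
    Equiv.Perm.sign (Units.mulLeft γ : Equiv.Perm (ZMod p)) = -1 := by
  classical
  have hp3 : 3 ≤ p := by have := hp.out.two_le; omega
  have hne : γ ≠ 1 := by
    intro h
    subst h
    have h1 : ∀ x : (ZMod p)ˣ, x = 1 := fun x => by
      have := hγ x
      rwa [zpowers_one_eq_bot, mem_bot] at this
    have h2 : Fintype.card (ZMod p)ˣ ≤ 1 := Fintype.card_le_one_iff.2 fun a b => by rw [h1 a, h1 b]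
    rw [ZMod.card_units p] at h2
    omega
  have hpow : ∀ (i : ℤ) (x : ZMod p), ((Units.mulLeft γ : Equiv.Perm (ZMod p)) ^ i) x =
      ((γ ^ i : (ZMod p)ˣ) : ZMod p) * x := by
    intro i
    induction i using Int.induction_on with
    | zero => simp
    | succ i ih =>
      intro x
      rw [zpow_add_one, Equiv.Perm.mul_apply, ih, Units.mulLeft_apply, zpow_add_one,
        Units.val_mul, mul_assoc]
    | pred i ih =>
      intro x
      rw [zpow_sub_one, Equiv.Perm.mul_apply, ih, zpow_sub_one, Units.val_mul, mul_assoc]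
      rfl
  have hsupp : ∀ x : ZMod p, (Units.mulLeft γ : Equiv.Perm (ZMod p)) x ≠ x ↔ x ≠ 0 := by
    intro x
    rw [Units.mulLeft_apply]
    constructor
    · rintro h rfl; exact h (mul_zero _)
    · intro hx h
      exact hne (Units.ext ((mul_eq_right₀ hx).1 h))
  have hcyc : (Units.mulLeft γ : Equiv.Perm (ZMod p)).IsCycle := by
    refine ⟨1, (hsupp 1).2 one_ne_zero, fun {x} hx => ?_⟩
    obtain ⟨i, hi⟩ := hγ (Units.mk0 x ((hsupp x).1 hx))
    exact ⟨i, by rw [hpow, mul_one, show γ ^ i = Units.mk0 x _ from hi]; rfl⟩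
  rw [hcyc.sign]
  have hcard : (Units.mulLeft γ : Equiv.Perm (ZMod p)).support = Finset.univ.erase 0 := by
    ext x
    rw [Equiv.Perm.mem_support, hsupp]
    simp
  rw [hcard, Finset.card_erase_of_mem (Finset.mem_univ _), Finset.card_univ, ZMod.card]
  obtain ⟨k, hk⟩ := hp.out.eq_two_or_odd'.resolve_left hp2
  rw [hk, Nat.add_sub_cancel, pow_mul, neg_one_sq, one_pow]

/-- An affine map of even order `e` with `(p - 1) / e` odd is an odd permutation. -/
theorem sign_affine [Fintype α] [DecidableEq α] {σ : Equiv.Perm α} (c : ZMod p ≃ α) {a : (ZMod p)ˣ}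
    {b : ZMod p} (ha : a ≠ 1) (h : ∀ x, σ (c x) = c ((a : ZMod p) * x + b)) (he : Even (orderOf a))
    (ht : ¬ Even ((p - 1) / orderOf a)) : Equiv.Perm.sign σ = -1 := by
  classical
  have hp2 : p ≠ 2 := by
    rintro rfl
    exact ha (Subsingleton.elim _ _)
  obtain ⟨γ, hγ⟩ := IsCyclic.exists_generator (α := (ZMod p)ˣ)
  obtain ⟨i, hi⟩ := (isOfFinOrder_of_finite γ).mem_powers_iff_mem_zpowers.2 (hγ a)
  have hord : orderOf γ = p - 1 := by
    rw [orderOf_eq_card_of_forall_mem_zpowers hγ, Nat.card_eq_fintype_card, ZMod.card_units]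
  have hiodd : Odd i := by
    rw [← Nat.not_even_iff_odd]
    intro hiev
    apply ht
    have hdvd : orderOf a ∣ (p - 1) / 2 := by
      refine orderOf_dvd_of_pow_eq_one ?_
      rw [← show γ ^ i = a from hi, ← pow_mul]
      obtain ⟨k, rfl⟩ := hiev
      have h2 : 2 ∣ p - 1 := by
        have := hp.out.eq_two_or_odd'.resolve_left hp2
        obtain ⟨l, rfl⟩ := this
        simp
      rw [← orderOf_dvd_iff_pow_eq_one, hord, ← two_mul, mul_assoc, mul_comm k, ← mul_assoc,
        Nat.mul_div_cancel' h2]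
      exact Dvd.intro k rfl
    obtain ⟨l, hl⟩ := hdvd
    refine ⟨l, ?_⟩
    have h2 : 2 ∣ p - 1 := by
      obtain ⟨l', hl'⟩ := hp.out.eq_two_or_odd'.resolve_left hp2
      exact ⟨l', by omega⟩
    have hpos : 0 < orderOf a := orderOf_pos a
    rw [show p - 1 = orderOf a * (l + l) by rw [mul_add, ← hl]; omega, Nat.mul_div_cancel_left _ hpos]
  have h1 : (1 : ZMod p) - (a : ZMod p) ≠ 0 := sub_ne_zero.2 fun e => ha (Units.ext e.symm)
  let c' : ZMod p ≃ α := (Equiv.addRight (b / (1 - (a : ZMod p)))).trans c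
  have hσ : σ = c'.permCongr (Units.mulLeft a) := by
    refine Equiv.ext fun v => ?_
    obtain ⟨x, rfl⟩ := c'.surjective v
    rw [Equiv.permCongr_apply, Equiv.symm_apply_apply, Units.mulLeft_apply]
    show σ (c (x + b / (1 - (a : ZMod p)))) = c ((a : ZMod p) * x + b / (1 - (a : ZMod p)))
    rw [h]
    congr 1
    field_simp
    ring
  have hpow : ∀ n : ℕ, (Units.mulLeft (γ ^ n) : Equiv.Perm (ZMod p)) = (Units.mulLeft γ) ^ n := by
    intro n
    induction n with
    | zero => exact Equiv.ext fun x => by simp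
    | succ n ih =>
      refine Equiv.ext fun x => ?_
      rw [pow_succ (Units.mulLeft γ : Equiv.Perm (ZMod p)), Equiv.Perm.mul_apply, ← ih]
      simp [pow_succ, mul_assoc]
  rw [hσ, Equiv.Perm.sign_permCongr, ← show γ ^ i = a from hi, hpow, map_pow,
    sign_mulLeft_generator hp2 γ hγ, hiodd.neg_one_pow]

end Coord

section Value

open Module

/-- The unique character of degree `p` on the complement of a Sylow subgroup of order `p`. -/
theorem exists_linear_value {G : Type u} [Group G] [Fintype G] {p : ℕ} (hp : p.Prime)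
    (hnsq : ¬ p ^ 2 ∣ Nat.card G) {y g : G} (hy : orderOf y = p)
    (hcent : centralizer ({y} : Set G) = zpowers y)
    (hg : g * y * g⁻¹ ∈ zpowers y) (hgd : zpowers y ⊓ zpowers g = ⊥)
    (χ : Cfsg.IrrCharacter G) (hχ : Cfsg.charDegree (χ : G → ℂ) = p)
    (hu : ∀ ψ : Cfsg.IrrCharacter G, Cfsg.charDegree (ψ : G → ℂ) = p → ψ = χ) :
    ∃ μ : ℂ, μ * μ = 1 ∧ μ ^ orderOf g = 1 ∧
      ∀ k : ℕ, g ^ k ≠ 1 → (χ : G → ℂ) (g ^ k) = μ ^ k := by
  classical
  haveI := Fact.mk hp
  obtain ⟨n, ρ, -, hρ⟩ := χ.2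
  have hvan : ∀ j : ℕ, 0 < j → j < p → (χ : G → ℂ) (y ^ j) = 0 := by
    intro j hj hjp
    refine S4478.vanish hp χ ?_ ?_
    · rw [hχ]
      have h1 : (Nat.card G).factorization p ≤ 1 := by
        by_contra hc
        exact hnsq ((pow_dvd_pow p (show 2 ≤ _ by omega)).trans (Nat.ordProj_dvd (Nat.card G) p))
      exact (pow_dvd_pow p h1).trans (by rw [pow_one])
    · rw [orderOf_pow, hy, Nat.Coprime.gcd_eq_one (hp.coprime_iff_not_dvd.2
        (Nat.not_dvd_of_pos_of_lt hj hjp)), Nat.div_one]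
  have hnorm : ∀ k : ℕ, ∀ j : ℕ, ∃ i : ℕ, g ^ k * y ^ j = y ^ i * g ^ k := by
    have hb : ∀ k : ℕ, g ^ k * y * (g ^ k)⁻¹ ∈ zpowers y := by
      intro k
      induction k with
      | zero => simp
      | succ k ih =>
        rw [pow_succ', mul_inv_rev, show g * g ^ k * y * ((g ^ k)⁻¹ * g⁻¹) =
          g * (g ^ k * y * (g ^ k)⁻¹) * g⁻¹ by group]
        obtain ⟨i, hi⟩ := ih
        rw [← hi, show g * y ^ i * g⁻¹ = (g * y * g⁻¹) ^ i from (conj_zpow).symm]
        exact zpow_mem hg i
    intro k j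
    obtain ⟨i, hi⟩ := (isOfFinOrder_of_finite y).mem_powers_iff_mem_zpowers.2 (pow_mem (hb k) j)
    refine ⟨i, ?_⟩
    have hi' : y ^ i = (g ^ k * y * (g ^ k)⁻¹) ^ j := hi
    rw [hi', conj_pow, inv_mul_cancel_right]
  have hconj : ∀ k j : ℕ, g ^ k ≠ 1 → (χ : G → ℂ) (y ^ j * g ^ k) = (χ : G → ℂ) (g ^ k) := by
    intro k j hk
    let f : zpowers y → zpowers y := fun c => ⟨(c : G) * g ^ k * (c : G)⁻¹ * (g ^ k)⁻¹, by
      obtain ⟨i, hi⟩ := (isOfFinOrder_of_finite y).mem_powers_iff_mem_zpowers.2 (inv_mem c.2)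
      have hi' : y ^ i = (c : G)⁻¹ := hi
      obtain ⟨i', hi''⟩ := hnorm k i
      rw [mul_assoc (c : G), ← hi', hi'', ← mul_assoc, mul_inv_cancel_right]
      exact mul_mem c.2 (npow_mem_zpowers _ _)⟩
    have hinj : Function.Injective f := by
      intro a b hab
      have h1 : (a : G) * g ^ k * (a : G)⁻¹ = (b : G) * g ^ k * (b : G)⁻¹ :=
        mul_right_cancel (congrArg Subtype.val hab)
      by_contra hne
      have hmem : (b : G)⁻¹ * a ∈ zpowers y := mul_mem (inv_mem b.2) a.2
      have hne1 : (b : G)⁻¹ * a ≠ 1 := fun e =>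
        hne (Subtype.ext (inv_mul_eq_one.1 e).symm)
      have hcomm : Commute (g ^ k) ((b : G)⁻¹ * a) := by
        show g ^ k * ((b : G)⁻¹ * a) = (b : G)⁻¹ * a * g ^ k
        calc g ^ k * ((b : G)⁻¹ * a) = (b : G)⁻¹ * ((b : G) * g ^ k * (b : G)⁻¹) * a := by group
          _ = _ := by rw [← h1]; group
      have hgen : y ∈ zpowers ((b : G)⁻¹ * a) := by
        have h1 : zpowers ((b : G)⁻¹ * a) = zpowers y := by
          refine Subgroup.eq_of_le_of_card_ge (zpowers_le.2 hmem) ?_
          rw [Nat.card_zpowers, Nat.card_zpowers, hy]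
          obtain ⟨i, hi⟩ := hmem
          have hd : orderOf ((b : G)⁻¹ * a) ∣ p := hy ▸ orderOf_dvd_of_mem_zpowers ⟨i, hi⟩
          exact ge_of_eq ((hp.eq_one_or_self_of_dvd _ hd).resolve_left
            fun e => hne1 (orderOf_eq_one_iff.1 e))
        rw [h1]; exact mem_zpowers y
      obtain ⟨i, hi⟩ := hgen
      have : g ^ k ∈ centralizer ({y} : Set G) :=
        mem_centralizer_singleton_iff.2 (by
          have h2 := (hcomm.zpow_right i).eq
          rwa [show ((b : G)⁻¹ * a) ^ i = y from hi] at h2)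
      rw [hcent] at this
      have h2 : g ^ k ∈ zpowers y ⊓ zpowers g := ⟨this, npow_mem_zpowers _ _⟩
      rw [hgd, mem_bot] at h2
      exact hk h2
    obtain ⟨c, hc⟩ := Finite.surjective_of_injective hinj ⟨y ^ j, npow_mem_zpowers _ _⟩
    have hc' : (c : G) * g ^ k * (c : G)⁻¹ = y ^ j * g ^ k := by
      rw [← show (c : G) * g ^ k * (c : G)⁻¹ * (g ^ k)⁻¹ = y ^ j from congrArg Subtype.val hc,
        inv_mul_cancel_right]
    rw [← hc']
    exact CharBasic.isClassFunction_of_isCharacter (CharBasic.isCharacter_of_isIrrCharacter χ.2) _ _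
  let π : Module.End ℂ (Fin n → ℂ) := (p : ℂ)⁻¹ • ∑ j ∈ Finset.range p, ρ (y ^ j)
  have hp0 : (p : ℂ) ≠ 0 := Nat.cast_ne_zero.2 hp.ne_zero
  have hyN : ρ y * ∑ j ∈ Finset.range p, ρ (y ^ j) = ∑ j ∈ Finset.range p, ρ (y ^ j) := by
    simp only [map_pow]
    exact PFixedLattice26.mul_nrm (by rw [← map_pow, ← hy, pow_orderOf_eq_one, map_one])
  have hyπ : ∀ j : ℕ, ρ (y ^ j) * π = π := by
    intro j
    induction j with
    | zero => simp
    | succ j ih => rw [pow_succ, map_mul, mul_assoc, show ρ y * π = π by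
        simp only [π, mul_smul_comm, hyN], ih]
  have hππ : π * π = π := by
    conv_lhs => lhs; simp only [π]
    rw [smul_mul_assoc, Finset.sum_mul, Finset.sum_congr rfl fun j _ => hyπ j, Finset.sum_const,
      Finset.card_range, ← Nat.cast_smul_eq_nsmul ℂ, smul_smul, inv_mul_cancel₀ hp0, one_smul]
  have htr : ∀ k : ℕ, LinearMap.trace ℂ _ (π * ρ (g ^ k)) =
      if g ^ k = 1 then 1 else (χ : G → ℂ) (g ^ k) := by
    intro k
    have hval : ∀ w : G, LinearMap.trace ℂ _ (ρ w) = (χ : G → ℂ) w := fun w => congrFun hρ w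
    simp only [π, smul_mul_assoc, map_smul, Finset.sum_mul, map_sum, ← map_mul, hval, smul_eq_mul]
    split_ifs with hk
    · simp only [hk, mul_one]
      rw [Finset.sum_eq_single 0 (fun j hj hj0 => hvan j (Nat.pos_of_ne_zero hj0) (Finset.mem_range.1 hj))
        (fun h => absurd (Finset.mem_range.2 hp.pos) h), pow_zero, CharAverage.irr_apply_one, hχ,
        inv_mul_cancel₀ hp0]
    · rw [Finset.sum_congr rfl fun j _ => hconj k j hk, Finset.sum_const, Finset.card_range,
        nsmul_eq_mul, ← mul_assoc, inv_mul_cancel₀ hp0, one_mul]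
  let R := LinearMap.range π
  have hR : finrank ℂ R = 1 := by
    have h1 := htr 0
    rw [pow_zero, map_one, mul_one, if_pos rfl] at h1
    have hproj : LinearMap.IsProj R π := by
      refine ⟨fun v => ⟨v, rfl⟩, ?_⟩
      rintro _ ⟨v, rfl⟩
      rw [← Module.End.mul_apply, hππ]
    rw [hproj.trace] at h1
    exact_mod_cast h1
  obtain ⟨v, hv0, hv⟩ := finrank_eq_one_iff'.1 hR
  have hπg : ∀ k : ℕ, ρ (g ^ k) * π = π * ρ (g ^ k) * π := by
    intro k
    simp only [π]
    rw [smul_mul_assoc, Finset.sum_mul]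
    conv_rhs => rw [smul_mul_assoc, Finset.sum_mul]
    congr 1
    have : ∀ j ∈ Finset.range p, ρ (y ^ j) * ρ (g ^ k) * π = ρ (g ^ k) * π := by
      intro j _
      obtain ⟨i, hi⟩ := (isOfFinOrder_of_finite y).mem_powers_iff_mem_zpowers.2
        (show (g ^ k)⁻¹ * y ^ j * g ^ k ∈ zpowers y by
          obtain ⟨l, hl⟩ : ∃ l : ℕ, (g ^ k)⁻¹ = g ^ l := by
            obtain ⟨l, hl⟩ := (isOfFinOrder_of_finite g).mem_powers_iff_mem_zpowers.2
              (inv_mem (npow_mem_zpowers g k))
            exact ⟨l, hl.symm⟩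
          obtain ⟨i, hi⟩ := hnorm l j
          rw [hl, hi, ← hl, inv_mul_cancel_right]
          exact npow_mem_zpowers _ _)
      have hi' : y ^ i = (g ^ k)⁻¹ * y ^ j * g ^ k := hi
      rw [← map_mul, show y ^ j * g ^ k = g ^ k * y ^ i by rw [hi']; group, map_mul, mul_assoc,
        hyπ]
    rw [Finset.sum_congr rfl this, Finset.sum_const, Finset.card_range,
      ← Nat.cast_smul_eq_nsmul ℂ]
    simp [mul_smul_comm, smul_smul, inv_mul_cancel₀ hp0, π]
  obtain ⟨μ, hμ⟩ := hv ⟨ρ g (v : Fin n → ℂ), by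
    obtain ⟨w, hw⟩ := v.2
    have := congrArg (fun T : Module.End ℂ (Fin n → ℂ) => T w) (hπg 1)
    simp only [pow_one, Module.End.mul_apply, hw] at this
    exact ⟨ρ g (v : Fin n → ℂ), this.symm⟩⟩
  have hμ' : ρ g (v : Fin n → ℂ) = μ • (v : Fin n → ℂ) := (congrArg Subtype.val hμ).symm
  have hpow : ∀ k : ℕ, ρ (g ^ k) (v : Fin n → ℂ) = μ ^ k • (v : Fin n → ℂ) := by
    intro k
    induction k with
    | zero => simp
    | succ k ih =>
      rw [pow_succ', map_mul, Module.End.mul_apply, ih, map_smul, hμ', smul_smul, ← pow_succ]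
  have hcomp : ∀ k : ℕ, LinearMap.trace ℂ _ (π * ρ (g ^ k)) = μ ^ k := by
    intro k
    have e1 : LinearMap.trace ℂ _ (π * ρ (g ^ k)) = LinearMap.trace ℂ _ (ρ (g ^ k) * π) := by
      rw [hπg k, LinearMap.trace_mul_comm ℂ (π * ρ (g ^ k)) π, ← mul_assoc, hππ]
    have hto : ∀ w, (ρ (g ^ k) * π) w ∈ R := fun w => ⟨ρ (g ^ k) (π w), by
      conv_rhs => rw [hπg k]
      rfl⟩
    rw [e1, ← LinearMap.trace_restrict_eq_of_forall_mem R _ hto,
      show (ρ (g ^ k) * π).restrict (fun w _ => hto w) = μ ^ k • LinearMap.id from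
        LinearMap.ext fun w => Subtype.ext (by
          obtain ⟨a, rfl⟩ := hv w
          obtain ⟨b, hb⟩ := v.2
          have h1 : π (v : Fin n → ℂ) = v := by rw [← hb, ← Module.End.mul_apply, hππ]
          show ρ (g ^ k) (π (a • (v : Fin n → ℂ))) = μ ^ k • (a • (v : Fin n → ℂ))
          rw [map_smul, h1, map_smul, hpow, smul_comm]),
      map_smul, LinearMap.trace_id, hR, Nat.cast_one, smul_eq_mul, mul_one]
  have hmain : ∀ k : ℕ, g ^ k ≠ 1 → (χ : G → ℂ) (g ^ k) = μ ^ k := fun k hk => by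
    rw [← hcomp k, htr k, if_neg hk]
  have hμe : μ ^ orderOf g = 1 := by
    rw [← hcomp, pow_orderOf_eq_one, ← pow_zero g, htr, pow_zero, if_pos rfl]
  refine ⟨μ, ?_, hμe, hmain⟩
  by_cases hg1 : g = 1
  · subst hg1
    rw [orderOf_one, pow_one] at hμe
    rw [hμe, one_mul]
  have hreal : conj μ = μ := by
    let ψ : Cfsg.IrrCharacter G :=
      ⟨fun x => conj ((χ : G → ℂ) x), CharBasicDecomp.isIrrCharacter_conj χ.2⟩
    have hψ : ψ = χ := hu ψ (by simpa [ψ, Cfsg.charDegree] using hχ)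
    have h1 := congrFun (congrArg Subtype.val hψ) g
    have h2 := hmain 1 (by rwa [pow_one])
    rw [pow_one, pow_one] at h2
    simpa [ψ, h2] using h1
  have hn : ‖μ‖ = 1 := Complex.norm_eq_one_of_pow_eq_one hμe (orderOf_pos g).ne'
  have h3 := Complex.mul_conj' μ
  rw [hreal, hn] at h3
  simpa using h3

end Value

theorem linear_triv_of_comm {G : Type u} [Group G] [Finite G] (K : Subgroup G) [K.Normal]
    (hK : K ≠ ⊤) (hcyc : IsCyclic (G ⧸ K)) :
    ∃ lam : G →* ℂˣ, lam ≠ 1 := by
  haveI := hcyc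
  letI : CommGroup (G ⧸ K) := IsCyclic.commGroup
  obtain ⟨a, ha⟩ : ∃ a : G ⧸ K, a ≠ 1 := by
    by_contra h
    push Not at h
    refine hK ((eq_top_iff' K).2 fun x => ?_)
    exact (QuotientGroup.eq_one_iff x).1 (h x)
  obtain ⟨χ, hχ⟩ := CommGroup.exists_apply_ne_one_of_hasEnoughRootsOfUnity (G ⧸ K) ℂ ha
  refine ⟨χ.comp (QuotientGroup.mk' K), fun h => hχ ?_⟩
  obtain ⟨x, rfl⟩ := QuotientGroup.mk'_surjective K a
  exact DFunLike.congr_fun h x

/-- The configuration from the hypotheses on a transitive group of prime degree. -/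
theorem exists_hyp {α : Type u} [Fintype α] [DecidableEq α] {p : ℕ} [hp : Fact p.Prime]
    (hα : Fintype.card α = p) (G : Subgroup (Equiv.Perm α)) [MulAction.IsPretransitive G α]
    (huniq : ∃! χ : Cfsg.IrrCharacter G, Cfsg.charDegree (χ : G → ℂ) = p) (P : Sylow p G)
    (E : Subgroup G) (hPE : (P : Subgroup G) ⊔ E = normalizer ((P : Subgroup G) : Set G))
    (hPE' : (P : Subgroup G) ⊓ E = ⊥)
    (hNE : Nat.card (normalizer (E : Set G)) = 2 * Nat.card E)
    (hTI : ∀ g : G, g ∉ normalizer (E : Set G) → E ⊓ E.map (MulAut.conj g).toMonoidHom = ⊥) :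
    ∃ (e : ℕ) (y g : G) (H : Subgroup G), Hyp p e y g H := by
  classical
  haveI : Fintype G := Fintype.ofFinite G
  have hα' : Nat.card α = p := by rw [Nat.card_eq_fintype_card, hα]
  have hP : Nat.card P = p := PrimeDegreeCoord.card_sylow hα' G P
  have hnsq : ¬ p ^ 2 ∣ Nat.card G := PrimeDegreeCoord.not_sq_dvd_card hα' G
  have hdvd : p ∣ Nat.card G := hP ▸ card_subgroup_dvd_card (P : Subgroup G)
  haveI : IsCyclic (P : Subgroup G) := isCyclic_of_prime_card hP
  obtain ⟨y, hyP⟩ := IsCyclic.exists_generator (α := (P : Subgroup G))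
  have hPz : (P : Subgroup G) = zpowers (y : G) := by
    refine le_antisymm (fun x hx => ?_) (zpowers_le.2 y.2)
    obtain ⟨i, hi⟩ := hyP ⟨x, hx⟩
    exact ⟨i, congrArg Subtype.val hi⟩
  have hyo : orderOf (y : G) = p := by rw [← Nat.card_zpowers, ← hPz]; exact hP
  have hy1 : (y : G) ≠ 1 := fun h => hp.out.ne_one (by rw [← hyo, h, orderOf_one])
  -- coordinates in which `y` is a translation
  obtain ⟨t, htG, hto, c, hc⟩ := PermPrimeDegree.exists_translation hα' G
  obtain ⟨T, hT⟩ : ∃ T : Sylow p G, (T : Subgroup G) = zpowers ⟨t, htG⟩ := by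
    refine ⟨Sylow.ofCard (zpowers ⟨t, htG⟩) ?_, Sylow.coe_ofCard _ _⟩
    rw [Nat.card_zpowers, ← P.card_eq_multiplicity, hP]
    rw [← orderOf_coe]; exact hto
  obtain ⟨k, hk⟩ := MulAction.exists_smul_eq G T P
  have hk' : MulAut.conj k • (T : Subgroup G) = (P : Subgroup G) := by rw [← hk]; rfl
  let s : G := k * ⟨t, htG⟩ * k⁻¹
  let d : ZMod p ≃ α := c.trans (k : Equiv.Perm α)
  have hd : ∀ x : ZMod p, d (x + 1) = (s : Equiv.Perm α) (d x) := fun x => by
    show (k : Equiv.Perm α) (c (x + 1)) = ((k : Equiv.Perm α) * t * (k : Equiv.Perm α)⁻¹) ((k : Equiv.Perm α) (c x))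
    simp [hc]
  have hs : (P : Subgroup G) = zpowers s := by
    rw [← hk', hT]
    exact (MonoidHom.map_zpowers (MulAut.conj k).toMonoidHom _)
  have hso : orderOf s = p := by rw [← Nat.card_zpowers, ← hs]; exact hP
  have haff : ∀ n ∈ normalizer ((P : Subgroup G) : Set G), ∃ a b : ZMod p, a ≠ 0 ∧
      ∀ x, (n : Equiv.Perm α) (d x) = d (a * x + b) := by
    intro n hn
    refine PrimeDegreeCoord.affine_of_normalizes d hd ?_
    have h1 : n * s * n⁻¹ ∈ zpowers s := hs ▸ ((mem_normalizer_iff.1 hn s).1 (hs ▸ mem_zpowers s))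
    obtain ⟨i, hi⟩ := h1
    exact ⟨i, congrArg Subtype.val hi⟩
  have htrans : ∀ (i : ℕ) (x : ZMod p), ((s : Equiv.Perm α) ^ i) (d x) = d (x + i) :=
    fun i x => PermPrimeDegree.translation_pow hd i x
  have hmemP : ∀ (n : G) (b : ZMod p), (∀ x, (n : Equiv.Perm α) (d x) = d (x + b)) →
      n ∈ (P : Subgroup G) := by
    intro n b hnb
    rw [hs]
    refine ⟨(b.val : ℤ), Subtype.ext (Equiv.ext fun v => ?_)⟩
    obtain ⟨x, rfl⟩ := d.surjective v
    show ((s ^ ((b.val : ℕ) : ℤ) : G) : Equiv.Perm α) (d x) = _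
    rw [zpow_natCast, SubgroupClass.coe_pow, htrans, hnb, ZMod.natCast_zmod_val]
  have hcent : centralizer ({(y : G)} : Set G) = zpowers (y : G) := by
    refine le_antisymm (fun n hn => ?_) (zpowers_le.2 (mem_centralizer_singleton_iff.2 rfl))
    have hnP : n ∈ normalizer ((P : Subgroup G) : Set G) := by
      refine centralizer_le_normalizer _ (mem_centralizer_iff.2 fun x hx => ?_)
      have hx' : x ∈ zpowers (y : G) := hPz ▸ hx
      obtain ⟨i, rfl⟩ := hx'
      exact ((show Commute n (y : G) from mem_centralizer_singleton_iff.1 hn).zpow_right i).eq.symm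
    obtain ⟨a, b, -, hab⟩ := haff n hnP
    have hcomm : n * s = s * n := by
      obtain ⟨i, hi⟩ : s ∈ zpowers (y : G) := hPz ▸ hs ▸ mem_zpowers s
      rw [← show (y : G) ^ i = s from hi]
      exact ((show Commute n (y : G) from mem_centralizer_singleton_iff.1 hn).zpow_right i).eq
    have h0 := congrArg (fun w : G => (w : Equiv.Perm α) (d 0)) hcomm
    simp [← hd, hab] at h0
    rw [← hPz]
    refine hmemP n b fun x => ?_
    rw [hab, show a = 1 by linear_combination h0, one_mul]
  -- the complement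
  set e := Nat.card E with he
  let Ψ : E →* MulAut (P : Subgroup G) := (normalizerMonoidHom (P : Subgroup G)).comp
    (Subgroup.inclusion (hPE ▸ le_sup_right : E ≤ normalizer ((P : Subgroup G) : Set G)))
  have hΨ : Function.Injective Ψ := by
    rw [← MonoidHom.ker_eq_bot_iff, eq_bot_iff]
    intro x hx
    have h1 : ((Subgroup.inclusion (hPE ▸ le_sup_right :
        E ≤ normalizer ((P : Subgroup G) : Set G))) x) ∈ (normalizerMonoidHom (P : Subgroup G)).ker := hx
    rw [normalizerMonoidHom_ker] at h1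
    have h2 : (x : G) ∈ centralizer ({(y : G)} : Set G) := by
      rw [mem_subgroupOf, mem_centralizer_iff] at h1
      exact mem_centralizer_singleton_iff.2 (h1 y y.2).symm
    rw [hcent, ← hPz] at h2
    have : (x : G) ∈ (P : Subgroup G) ⊓ E := ⟨h2, x.2⟩
    rw [hPE', mem_bot] at this
    exact mem_bot.2 (Subtype.ext this)
  haveI : IsCyclic E := by
    have hP' : Nat.card (P : Subgroup G) = p := hP
    haveI : Fact (Nat.card (P : Subgroup G)).Prime := ⟨by rw [hP']; exact hp.out⟩
    haveI : IsCyclic (MulAut (P : Subgroup G)) :=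
      isCyclic_of_surjective (IsCyclic.mulAutMulEquiv (P : Subgroup G)).symm.toMonoidHom
        (MulEquiv.surjective _)
    exact isCyclic_of_injective Ψ hΨ
  have hedvd : e ∣ p - 1 := by
    refine (card_dvd_of_injective Ψ hΨ).trans ?_
    rw [IsCyclic.card_mulAut, hP, Nat.totient_prime hp.out]
  obtain ⟨g, hgE⟩ := IsCyclic.exists_generator (α := E)
  have hEz : E = zpowers (g : G) := by
    refine le_antisymm (fun x hx => ?_) (zpowers_le.2 g.2)
    obtain ⟨i, hi⟩ := hgE ⟨x, hx⟩
    exact ⟨i, congrArg Subtype.val hi⟩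
  have hgo : orderOf (g : G) = e := by rw [← Nat.card_zpowers, ← hEz]
  have hcardN : Nat.card (normalizer ((P : Subgroup G) : Set G)) = p * e := by
    haveI : ((P : Subgroup G).subgroupOf (normalizer ((P : Subgroup G) : Set G))).Normal :=
      normal_in_normalizer
    have hcompl : IsComplement' ((P : Subgroup G).subgroupOf (normalizer ((P : Subgroup G) : Set G)))
        (E.subgroupOf (normalizer ((P : Subgroup G) : Set G))) := by
      refine isComplement'_of_disjoint_and_mul_eq_univ ?_ ?_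
      · rw [disjoint_iff, eq_bot_iff]
        intro x hx
        have : (x : G) ∈ (P : Subgroup G) ⊓ E := ⟨hx.1, hx.2⟩
        rw [hPE', mem_bot] at this
        exact mem_bot.2 (Subtype.ext this)
      · rw [← normal_mul, ← subgroupOf_sup le_normalizer (hPE ▸ le_sup_right), hPE, subgroupOf_self,
          coe_top]
    rw [← hcompl.card_mul, Nat.card_congr (subgroupOfEquivOfLe le_normalizer).toEquiv,
      Nat.card_congr (subgroupOfEquivOfLe (hPE ▸ le_sup_right : E ≤ _)).toEquiv, hP]
  -- normal subgroups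
  obtain ⟨χ₀, hχ₀, hχu⟩ := huniq
  have hprim : MulAction.IsPreprimitive G α :=
    MulAction.IsPreprimitive.of_prime_card (hα'.symm ▸ hp.out)
  have hsup : ∀ K : Subgroup G, K.Normal → K ≠ ⊥ → K ⊔ E = ⊤ ∧ (P : Subgroup G) ≤ K := by
    intro K hK hne
    have hKt : MulAction.IsPretransitive K α := by
      refine hprim.isQuasiPreprimitive.isPretransitive_of_normal fun hfix => hne ?_
      refine (eq_bot_iff_forall _).2 fun x hx => Subtype.ext (Equiv.ext fun v => ?_)
      have hv : v ∈ MulAction.fixedPoints K α := hfix ▸ Set.mem_univ v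
      exact hv ⟨x, hx⟩
    have hpK : p ∣ Nat.card K := by
      haveI : Nonempty α := (Nat.card_pos_iff.1 (hα' ▸ hp.out.pos)).1
      exact hα' ▸ PermBasic.card_dvd_of_transitive (G := K) (X := α)
    obtain ⟨x, hx⟩ := exists_prime_orderOf_dvd_card' (G := K) p hpK
    obtain ⟨Q, hQ⟩ : ∃ Q : Sylow p G, (Q : Subgroup G) ≤ K := by
      refine ⟨Sylow.ofCard (zpowers (x : G)) ?_, ?_⟩
      · rw [Nat.card_zpowers, orderOf_coe, hx, ← P.card_eq_multiplicity, hP]
      · rw [Sylow.coe_ofCard]; exact zpowers_le.2 x.2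
    obtain ⟨r, hr⟩ := MulAction.exists_smul_eq G Q P
    have hPK : (P : Subgroup G) ≤ K := by
      rw [← hr]
      intro a ha
      obtain ⟨b, hb, rfl⟩ : a ∈ (Q : Subgroup G).map (MulAut.conj r).toMonoidHom := ha
      exact hK.conj_mem b (hQ hb) r
    refine ⟨?_, hPK⟩
    have hF : normalizer ((P : Subgroup G) : Set G) ⊔ K = ⊤ :=
      Sylow.normalizer_sup_eq_top' (N := K) P hPK
    rw [← hPE] at hF
    refine eq_top_iff.2 (hF ▸ sup_le (sup_le (hPK.trans le_sup_left) le_sup_right) le_sup_left)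
  have he2 : 2 ≤ e := by
    by_contra hc2
    have he1 : e = 1 := by have : 0 < e := Nat.card_pos; omega
    have hE : E = ⊥ := Subgroup.card_eq_one.1 he1
    rw [hE, sup_bot_eq] at hPE
    have hNC : normalizer ((P : Subgroup G) : Set G) ≤ centralizer ((P : Subgroup G) : Set G) := by
      rw [← hPE]
      intro a ha
      rw [mem_centralizer_iff]
      intro b hb
      rw [hPz] at ha hb
      obtain ⟨i, rfl⟩ := ha
      obtain ⟨j, rfl⟩ := hb
      exact zpow_mul_comm _ _ _
    have hcompl := MonoidHom.ker_transferSylow_isComplement' P hNC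
    by_cases hK : (MonoidHom.transferSylow P hNC).ker = ⊥
    · have hG : Nat.card G = p := by
        have := hcompl.card_mul
        rw [hK, Subgroup.card_bot, one_mul, hP] at this
        exact this.symm
      have hsum := CharBasicOrth.sum_sq_apply_one (G := G)
      have hle : ((p : ℝ)) ^ 2 ≤ (p : ℝ) := by
        have h2 := Finset.single_le_sum (f := fun χ : Cfsg.IrrCharacter G => ((Cfsg.charDegree (χ : G → ℂ) : ℕ) : ℝ) ^ 2)
          (fun χ _ => by positivity) (Finset.mem_univ χ₀)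
        simp only [hχ₀] at h2
        refine h2.trans (le_of_eq ?_)
        apply Complex.ofReal_injective
        push_cast
        simp only [← CharAverage.irr_apply_one]
        rw [hsum, hG]
      have h3 : (2 : ℝ) ≤ p := by exact_mod_cast hp.out.two_le
      nlinarith
    · have h1 := (hsup _ inferInstance hK).2
      have h2 : (MonoidHom.transferSylow P hNC).ker ⊓ (P : Subgroup G) = ⊥ := hcompl.disjoint.eq_bot
      rw [inf_eq_right.2 h1] at h2
      have : Nat.card P = 1 := Subgroup.card_eq_one.2 h2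
      rw [hP] at this
      exact hp.out.ne_one this
  have hfix1 : ∀ x ∈ E, x ≠ 1 → ∃ v : α, (x : Equiv.Perm α) v = v ∧
      ∀ w, (x : Equiv.Perm α) w = w → w = v := by
    intro x hx hne
    obtain ⟨a, b, -, hab⟩ := haff x (hPE ▸ (le_sup_right : E ≤ _) hx)
    have ha : a ≠ 1 := by
      rintro rfl
      have hm : x ∈ (P : Subgroup G) ⊓ E := ⟨hmemP x b fun z => by rw [hab, one_mul], hx⟩
      rw [hPE', mem_bot] at hm
      exact hne hm
    refine ⟨d (b / (1 - a)), (affine_fixed d ha hab).1, fun w hw => ?_⟩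
    obtain ⟨z, rfl⟩ := d.surjective w
    rw [(affine_fixed d ha hab).2 z hw]
  have hgne : (g : G) ≠ 1 := fun h => by
    have : e = 1 := by rw [← hgo, h, orderOf_one]
    omega
  obtain ⟨v, hv, hvu⟩ := hfix1 g g.2 hgne
  have hsimple : ∀ K : Subgroup G, K.Normal → K ≠ ⊥ → K = ⊤ := by
    intro K hK hne
    haveI := hK
    by_contra hKT
    obtain ⟨hKE, -⟩ := hsup K hK hne
    have hcycQ : IsCyclic (G ⧸ K) := by
      refine isCyclic_of_surjective ((QuotientGroup.mk' K).comp E.subtype) ?_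
      intro q
      obtain ⟨x, rfl⟩ := QuotientGroup.mk'_surjective K q
      have hx : x ∈ K ⊔ E := hKE ▸ mem_top x
      rw [← SetLike.mem_coe, normal_mul] at hx
      obtain ⟨a, ha, b, hb, rfl⟩ := hx
      exact ⟨⟨b, hb⟩, by simp [(QuotientGroup.eq_one_iff a).2 ha]⟩
    obtain ⟨lam, hlam⟩ := linear_triv_of_comm K hKT hcycQ
    have hker : lam.ker ≠ ⊥ := by
      intro hb
      have hinj : Function.Injective lam := (MonoidHom.ker_eq_bot_iff lam).1 hb
      have hab : ∀ a b : G, a * b = b * a := fun a b => hinj (by rw [map_mul, map_mul, mul_comm])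
      have hgc : (g : G) ∈ centralizer ({(y : G)} : Set G) :=
        mem_centralizer_singleton_iff.2 (hab _ _)
      rw [hcent, ← hPz] at hgc
      have : (g : G) ∈ (P : Subgroup G) ⊓ E := ⟨hgc, g.2⟩
      rw [hPE', mem_bot] at this
      exact hgne this
    obtain ⟨hkE, hkP⟩ := hsup lam.ker inferInstance hker
    let ψ : Cfsg.IrrCharacter G :=
      ⟨fun x => (χ₀ : G → ℂ) x * (lam x : ℂ), CharBasicDecomp.isIrrCharacter_mul_linear χ₀.2 lam⟩
    have hψ : ψ = χ₀ := hχu ψ (by simp [ψ, Cfsg.charDegree] at hχ₀ ⊢; exact hχ₀)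
    obtain ⟨μ, hμ2, -, hμ⟩ := exists_linear_value hp.out hnsq hyo hcent
      (by
        rw [← hPz]
        exact ((mem_normalizer_iff.1 (hPE ▸ (le_sup_right : E ≤ _) g.2)) (y : G)).1 y.2)
      (by rw [← hEz, ← hPz]; exact hPE') χ₀ hχ₀ hχu
    have hgl : lam (g : G) = 1 := by
      have h1 : (χ₀ : G → ℂ) g * (lam (g : G) : ℂ) = (χ₀ : G → ℂ) g :=
        congrFun (congrArg Subtype.val hψ) g
      have h2 : (χ₀ : G → ℂ) g ≠ 0 := by
        have := hμ 1 (by rwa [pow_one])
        simp only [pow_one] at this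
        rw [this]
        intro h0
        rw [h0, mul_zero] at hμ2
        exact zero_ne_one hμ2
      exact Units.ext ((mul_eq_left₀ h2).1 h1)
    refine hlam ((MonoidHom.ker_eq_top_iff (f := lam)).1 (eq_top_iff.2 (hkE ▸ sup_le le_rfl ?_)))
    rw [hEz]
    exact zpowers_le.2 hgl
  have hNEv : ∀ a ∈ normalizer (E : Set G), (a : Equiv.Perm α) v = v := by
    intro a ha
    have h1 : a⁻¹ * (g : G) * a ∈ E := by
      have := (mem_normalizer_iff.1 (inv_mem ha) (g : G)).1 g.2
      simpa using this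
    obtain ⟨i, hi⟩ := hgE ⟨_, h1⟩
    have hi' : (g : G) ^ i = a⁻¹ * (g : G) * a := congrArg Subtype.val hi
    obtain ⟨j, hj⟩ := (isOfFinOrder_of_finite (g : G)).mem_powers_iff_mem_zpowers.2 ⟨i, hi'⟩
    have hj' : (g : G) ^ j = a⁻¹ * (g : G) * a := hj
    have hgj : ((g : G) : Equiv.Perm α) ((a : Equiv.Perm α) v) = (a : Equiv.Perm α) v := by
      have h2 : (g : G) * a = a * (g : G) ^ j := by rw [hj']; group
      have h3 := congrArg (fun w : G => (w : Equiv.Perm α) v) h2
      simp only [coe_mul, Equiv.Perm.mul_apply, SubgroupClass.coe_pow] at h3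
      rw [h3, Equiv.Perm.pow_apply_eq_self_of_apply_eq_self hv]
    exact hvu _ hgj
  let H : Subgroup G := MulAction.stabilizer G v
  have hmemH : ∀ a : G, a ∈ H ↔ (a : Equiv.Perm α) v = v := fun a => Iff.rfl
  refine ⟨e, y, g, H, hp.out, he2, hedvd, hyo, hnsq, hcent, hgo, ?_, ?_, ?_, ?_, ⟨χ₀, hχ₀, hχu⟩,
    hsimple, ?_, (hmemH _).2 hv, ?_, ?_⟩
  · rw [← hPz, ← hEz, hPE]
  · rw [← hPz]; exact hcardN
  · rw [← hEz]; exact hNE
  · rw [← hEz]
    intro a ha x hx hax
    have hmem : a * x * a⁻¹ ∈ E ⊓ E.map (MulAut.conj a).toMonoidHom :=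
      ⟨hax, ⟨x, hx, rfl⟩⟩
    rw [hTI a ha, mem_bot] at hmem
    exact conj_eq_one_iff.1 hmem
  · rw [MulAction.index_stabilizer_of_transitive G v, hα']
  · intro x hx hne a hax
    rw [← hEz] at hx
    obtain ⟨w, hw, hwu⟩ := hfix1 x hx hne
    have hxv : (x : Equiv.Perm α) v = v := hNEv x (le_normalizer hx)
    have h1 : (x : Equiv.Perm α) ((a : Equiv.Perm α) v) = (a : Equiv.Perm α) v := by
      have h2 : ((a⁻¹ * x * a : G) : Equiv.Perm α) v = v := (hmemH _).1 hax
      simp only [coe_mul, Equiv.Perm.mul_apply, InvMemClass.coe_inv] at h2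
      exact (Equiv.symm_apply_eq _).1 h2
    exact (hmemH a).2 ((hwu _ h1).trans (hwu _ hxv).symm)
  · intro hev
    by_contra ht
    obtain ⟨a, b, ha0, hab⟩ := haff g (hPE ▸ (le_sup_right : E ≤ _) g.2)
    let S : G →* ℤˣ := Equiv.Perm.sign.comp G.subtype
    have hcol : ∀ n : ℕ, ∃ b' : ZMod p, ∀ x, (((g : G) ^ n : G) : Equiv.Perm α) (d x) = d (a ^ n * x + b') := by
      intro n
      induction n with
      | zero => exact ⟨0, fun x => by simp⟩
      | succ n ih =>
        obtain ⟨b', hb'⟩ := ih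
        exact ⟨a * b' + b, fun x => by
          rw [pow_succ', coe_mul, Equiv.Perm.mul_apply, hb', hab, pow_succ']; ring_nf⟩
    have horda : orderOf (Units.mk0 a ha0) = e := by
      refine Nat.dvd_antisymm (orderOf_dvd_of_pow_eq_one ?_) ?_
      · obtain ⟨b', hb'⟩ := hcol e
        rw [← hgo, pow_orderOf_eq_one] at hb'
        have h0 := d.injective (hb' 0)
        have h1 := d.injective (hb' 1)
        refine Units.ext ?_
        simp only [Units.val_pow_eq_pow_val, Units.val_mk0, Units.val_one]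
        rw [← hgo]
        linear_combination h0 - h1
      · rw [← hgo]
        refine orderOf_dvd_of_pow_eq_one ?_
        obtain ⟨b', hb'⟩ := hcol (orderOf (Units.mk0 a ha0))
        have ha1 : a ^ orderOf (Units.mk0 a ha0) = 1 := by
          have := congrArg Units.val (pow_orderOf_eq_one (Units.mk0 a ha0))
          rw [Units.val_pow_eq_pow_val, Units.val_mk0, Units.val_one] at this
          exact this
        have hm : (g : G) ^ orderOf (Units.mk0 a ha0) ∈ (P : Subgroup G) ⊓ E :=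
          ⟨hmemP _ b' fun x => by rw [hb', ha1, one_mul], pow_mem g.2 _⟩
        rwa [hPE', mem_bot] at hm
    have ha1 : Units.mk0 a ha0 ≠ 1 := fun h => by
      rw [h, orderOf_one] at horda; omega
    have hsign := sign_affine (σ := ((g : G) : Equiv.Perm α)) d ha1 hab (horda.symm ▸ hev) (horda.symm ▸ ht)
    have hkerS : S.ker ≠ ⊥ := by
      intro hb
      have hinj : Function.Injective S := (MonoidHom.ker_eq_bot_iff S).1 hb
      have h2 := Nat.card_le_card_of_injective S hinj
      have h3 : p ≤ Nat.card G := Nat.le_of_dvd Nat.card_pos hdvd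
      have h4 : Nat.card ℤˣ = 2 := by simp [Nat.card_eq_fintype_card]
      have h5 := hp.out.two_le
      have h6 : e ≤ p - 1 := Nat.le_of_dvd (by omega) hedvd
      omega
    have htop := hsimple S.ker inferInstance hkerS
    have : (g : G) ∈ S.ker := htop ▸ mem_top _
    rw [MonoidHom.mem_ker] at this
    rw [show S (g : G) = Equiv.Perm.sign ((g : G) : Equiv.Perm α) from rfl, hsign] at this
    exact absurd this (by decide)

end Cfsg.Agent.UniqueDegree26
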