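import Cfsg.Agent.Lib.UniqueDegree26Chars
import Cfsg.Agent.Lib.DefectOneShape7
import Cfsg.Agent.Lib.BlockPrincipal81
import Cfsg.Agent.Lib.BrauerBlocksCentral
import Cfsg.Agent.Lib.SchurBound79
import Cfsg.Agent.S4478
import Cfsg.Agent.S4503
import Cfsg.Agent.S4504

/-!
# The principal block and the `p`-singular elements

As the centraliser of `y` is `⟨y⟩`, all characters of degree prime to `p` lie in the principal
block, the others vanish at `y`, and a nontrivial character has degree at least `(p - 1) / 2`.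
-/

set_option autoImplicit false

open Finset
open scoped ComplexConjugate

namespace Cfsg.Agent.UniqueDegree26

open Cfsg Cfsg.Agent.BrauerBlocksVal Cfsg.Agent.CharBasic

universe u

variable {G : Type u} [Group G] [Fintype G] {p e : ℕ} {y g : G} {H : Subgroup G}
  (h : Hyp p e y g H)
include h

theorem zpowers_eq {w : G} (hw : w ∈ Subgroup.zpowers y) (hw1 : w ≠ 1) :
    Subgroup.zpowers w = Subgroup.zpowers y := by
  refine Subgroup.eq_of_le_of_card_ge (Subgroup.zpowers_le.2 hw) ?_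
  rw [Nat.card_zpowers, Nat.card_zpowers, h.ord_y]
  exact ge_of_eq ((h.prime.eq_one_or_self_of_dvd _ (h.ord_y ▸ orderOf_dvd_of_mem_zpowers hw)).resolve_left
    fun hc => hw1 (orderOf_eq_one_iff.1 hc))

theorem exists_card : ∃ m, Nat.card G = p * m ∧ ¬ p ∣ m ∧ e ∣ m := by
  obtain ⟨c, hc⟩ := h.card_norm ▸ Subgroup.card_subgroup_dvd_card
    (Subgroup.normalizer ((Subgroup.zpowers y : Subgroup G) : Set G))
  refine ⟨e * c, by rw [hc]; ring, fun ⟨k, hk⟩ => h.not_sq ⟨k, ?_⟩, dvd_mul_right _ _⟩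
  rw [hc, mul_assoc, hk]
  ring

theorem dvd_card : p ∣ Nat.card G := by
  obtain ⟨m, hm, -⟩ := exists_card h
  exact ⟨m, hm⟩

theorem fact_one : (Nat.card G).factorization p = 1 := by
  have hge := h.prime.factorization_pos_of_dvd Nat.card_pos.ne' (dvd_card h)
  by_contra hne
  exact h.not_sq ((pow_dvd_pow p (show 2 ≤ _ by omega)).trans (Nat.ordProj_dvd (Nat.card G) p))

theorem exists_sylow : ∃ P : Sylow p G, (P : Subgroup G) = Subgroup.zpowers y := by
  haveI := Fact.mk h.prime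
  exact ⟨Sylow.ofCard (Subgroup.zpowers y)
    (by rw [Nat.card_zpowers, h.ord_y, fact_one h, pow_one]), Sylow.coe_ofCard _ _⟩

theorem centralizer_eq :
    Subgroup.centralizer ((Subgroup.zpowers y : Subgroup G) : Set G) = Subgroup.zpowers y := by
  refine le_antisymm (fun a ha => ?_) (Subgroup.zpowers_le.2 ?_)
  · rw [← h.cent_y]
    exact Subgroup.mem_centralizer_singleton_iff.2
      ((Subgroup.mem_centralizer_iff.1 ha) y (Subgroup.mem_zpowers y)).symm
  · refine Subgroup.mem_centralizer_iff.2 fun b hb => ?_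
    obtain ⟨i, rfl⟩ := hb
    exact ((Commute.refl y).zpow_left i).eq

theorem relIndex_eq : (Subgroup.centralizer ((Subgroup.zpowers y : Subgroup G) : Set G)).relIndex
    (Subgroup.normalizer ((Subgroup.zpowers y : Subgroup G) : Set G)) = e := by
  rw [centralizer_eq h, Subgroup.relIndex]
  have h1 := Subgroup.card_mul_index ((Subgroup.zpowers y).subgroupOf
    (Subgroup.normalizer ((Subgroup.zpowers y : Subgroup G) : Set G)))
  rw [Nat.card_congr (Subgroup.subgroupOfEquivOfLe Subgroup.le_normalizer).toEquiv, Nat.card_zpowers,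
    h.ord_y, h.card_norm] at h1
  exact Nat.eq_of_mul_eq_mul_left h.prime.pos h1

/-- An element commuting with an element of order `p` is a power of a conjugate of `y`. -/
theorem conj_mem_zpowers {x k : G} (hk : orderOf k = p) (hxk : Commute x k) :
    ∃ c : G, c * x * c⁻¹ ∈ Subgroup.zpowers y := by
  haveI := Fact.mk h.prime
  obtain ⟨P, hP⟩ := exists_sylow h
  have hpg : IsPGroup p (Subgroup.zpowers k) :=
    IsPGroup.iff_card.2 ⟨1, by rw [Nat.card_zpowers, hk, pow_one]⟩
  obtain ⟨Q, hQ⟩ := hpg.exists_le_sylow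
  obtain ⟨c, hc⟩ := MulAction.exists_smul_eq G Q P
  refine ⟨c, ?_⟩
  have hck : c * k * c⁻¹ ∈ Subgroup.zpowers y := by
    rw [← hP, ← hc, Sylow.coe_subgroup_smul]
    exact ⟨k, hQ (Subgroup.mem_zpowers k), rfl⟩
  have hne : c * k * c⁻¹ ≠ 1 := by
    intro h0
    rw [conj_eq_one_iff] at h0
    rw [h0, orderOf_one] at hk
    exact h.prime.ne_one hk.symm
  have hcomm : Commute (c * x * c⁻¹) (c * k * c⁻¹) := by
    show c * x * c⁻¹ * (c * k * c⁻¹) = c * k * c⁻¹ * (c * x * c⁻¹)
    calc c * x * c⁻¹ * (c * k * c⁻¹) = c * (x * k) * c⁻¹ := by group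
      _ = c * (k * x) * c⁻¹ := by rw [hxk.eq]
      _ = _ := by group
  obtain ⟨i, hi⟩ : y ∈ Subgroup.zpowers (c * k * c⁻¹) := by
    rw [zpowers_eq h hck hne]; exact Subgroup.mem_zpowers y
  rw [← h.cent_y]
  refine Subgroup.mem_centralizer_singleton_iff.2 ?_
  rw [← show (c * k * c⁻¹) ^ i = y from hi]
  exact (hcomm.zpow_right i).eq

/-- `p`-singular elements are conjugate to powers `≠ 1` of `y`. -/
theorem exists_psing {x : G} (hx : p ∣ orderOf x) :
    ∃ c : G, c * x * c⁻¹ ∈ Subgroup.zpowers y ∧ c * x * c⁻¹ ≠ 1 := by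
  have hk : orderOf (x ^ (orderOf x / p)) = p := by
    obtain ⟨q, hq⟩ := hx
    have hpos := orderOf_pos x
    have hq0 : 0 < q := Nat.pos_of_ne_zero fun h0 => by rw [h0, mul_zero] at hq; omega
    rw [hq, Nat.mul_div_cancel_left _ h.prime.pos,
      orderOf_pow_of_dvd hq0.ne' ⟨p, by rw [hq, mul_comm]⟩, hq, Nat.mul_div_cancel _ hq0]
  obtain ⟨c, hc⟩ := conj_mem_zpowers h hk ((Commute.refl x).pow_right _)
  refine ⟨c, hc, fun h0 => ?_⟩
  rw [conj_eq_one_iff] at h0
  rw [h0, orderOf_one, Nat.dvd_one] at hx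
  exact h.prime.ne_one hx

/-- Characters of degree divisible by `p` vanish at the `p`-singular elements. -/
theorem vanish_psing {χ : IrrCharacter G} (hd : p ∣ charDegree (χ : G → ℂ)) {x : G}
    (hx : p ∣ orderOf x) : (χ : G → ℂ) x = 0 :=
  S4478.vanish h.prime χ (by rw [fact_one h, pow_one]; exact hd) hx

theorem not_dvd_of_zpowers {w : G} (hw : w ∈ Subgroup.zpowers y) (hw1 : w ≠ 1) :
    p ∣ orderOf w := by
  rw [← Nat.card_zpowers, zpowers_eq h hw hw1, Nat.card_zpowers, h.ord_y]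

/-- Characters of degree prime to `p` are in the principal block. -/
theorem mem_principal {M : Ideal AlgInt} (hM : IsPModular p M) {χ : IrrCharacter G}
    (hd : ¬ p ∣ charDegree (χ : G → ℂ)) : χ ∈ principalBlock M G := by
  haveI := Fact.mk h.prime
  intro x
  rw [BlockPrincipal81.centralChar_one]
  set c : ℕ := (Subgroup.centralizer ({x} : Set G)).index with hcdef
  have hd1 : (χ : G → ℂ) 1 = (charDegree (χ : G → ℂ) : ℂ) := CharAverage.irr_apply_one χ
  have hne : (χ : G → ℂ) 1 ≠ 0 := isIrrCharacter_apply_one_ne_zero χ.2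
  have hns : ¬ Sm M ((χ : G → ℂ) 1) := by
    rw [hd1, sm_natCast_iff hM]; exact hd
  have hint : ∀ w, Int' M ((χ : G → ℂ) w) := fun w =>
    int'_of_isIntegral hM (BrauerBlocksCentral.isIntegral_irr χ w)
  refine (memLocalIdeal_iff hM (sub_mem (natCast_mem _ _)
    (BrauerBlocksCentral.algNum_centralChar χ x))).2 ?_
  have heq : (c : ℂ) - centralChar (χ : G → ℂ) x =
      (c : ℂ) * ((χ : G → ℂ) 1 - (χ : G → ℂ) x) * ((χ : G → ℂ) 1)⁻¹ := by
    rw [centralChar, ← hcdef]; field_simp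
  rw [heq]
  refine Sm.mul_right ?_ (int'_inv (hint 1) hns)
  by_cases hp' : p ∣ Nat.card (Subgroup.centralizer ({x} : Set G))
  · refine Sm.mul_left ?_ (int'_natCast c)
    obtain ⟨k, hk⟩ := exists_prime_orderOf_dvd_card' p hp'
    obtain ⟨b, hb⟩ := conj_mem_zpowers h (x := x) (k := (k : G)) (by rw [Subgroup.orderOf_coe, hk])
      (Subgroup.mem_centralizer_singleton_iff.1 k.2).symm
    have hxp : x ^ p = 1 := by
      have h1 : (b * x * b⁻¹) ^ p = 1 :=
        orderOf_dvd_iff_pow_eq_one.1 (h.ord_y ▸ orderOf_dvd_of_mem_zpowers hb)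
      rwa [conj_pow, conj_eq_one_iff] at h1
    obtain ⟨n, ρ, -, hρ⟩ := χ.2
    obtain ⟨-, μ, -, h2, -, h4⟩ := exists_rep_eigenbasis ρ x
    have e1 : (χ : G → ℂ) 1 = ∑ i, μ i ^ 0 := by rw [← hρ, ← h4 0, pow_zero]
    have e2 : (χ : G → ℂ) x = ∑ i, μ i ^ 1 := by rw [← hρ, ← h4 1, pow_one]
    rw [e1, e2, ← Finset.sum_sub_distrib]
    refine sm_sum _ fun i _ => ?_
    rw [pow_zero, pow_one, sm_sub_comm]
    refine sm_sub_one_of_pow_pPow hM 1 ?_
    rw [pow_one]
    obtain ⟨l, hl⟩ := orderOf_dvd_of_pow_eq_one hxp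
    rw [hl, pow_mul, h2, one_pow]
  · refine Sm.mul_right ?_ ((hint 1).sub (hint x))
    rw [sm_natCast_iff hM]
    have hmul := Subgroup.card_mul_index (Subgroup.centralizer ({x} : Set G))
    exact (h.prime.dvd_mul.1 (hmul ▸ dvd_card h)).resolve_left hp'

theorem center_bot : Subgroup.center G = ⊥ := by
  by_contra hc
  have h1 := h.simple _ inferInstance hc
  have hgc : g ∈ Subgroup.centralizer ({y} : Set G) :=
    Subgroup.mem_centralizer_singleton_iff.2
      ((Subgroup.mem_center_iff.1 (h1 ▸ Subgroup.mem_top g : g ∈ Subgroup.center G)) y).symm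
  rw [h.cent_y] at hgc
  have h2 : orderOf g ∣ p := h.ord_y ▸ orderOf_dvd_of_mem_zpowers hgc
  rw [h.ord_g] at h2
  have h4 := h.e_two
  haveI : NeZero e := ⟨by omega⟩
  have h3 := e_lt h
  rcases h.prime.eq_one_or_self_of_dvd _ h2 with h5 | h5 <;> omega

theorem no_normal (K : Subgroup G) (hK : K.Normal) : Nat.card K ≠ p := by
  intro hc
  by_cases hb : K = ⊥
  · rw [hb, Subgroup.card_bot] at hc
    exact h.prime.ne_one hc.symm
  · rw [h.simple K hK hb, Subgroup.card_top] at hc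
    obtain ⟨m, hm, -, hem⟩ := exists_card h
    have h1 : m = 1 := by
      have := h.prime.pos
      rw [hm] at hc
      exact Nat.eq_of_mul_eq_mul_left this (by rw [hc, mul_one])
    rw [h1, Nat.dvd_one] at hem
    have := h.e_two
    omega

/-- A nontrivial irreducible character is faithful. -/
theorem faithful {χ : IrrCharacter G} (hχ : χ ≠ BlockPrincipal81.oneChar G) (a : G)
    (ha : (χ : G → ℂ) a = (χ : G → ℂ) 1) : a = 1 := by
  obtain ⟨n, ρ, hirr, hρ⟩ := χ.2
  rw [← hρ, BlockPrincipal81.apply_eq_one_iff_ker] at ha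
  by_contra ha1
  have hmem : a ∈ MonoidHom.ker ρ := ha
  have hK : MonoidHom.ker ρ ≠ ⊥ := fun hb => ha1 (Subgroup.mem_bot.1 (hb ▸ hmem))
  have htop := h.simple _ inferInstance hK
  have hconst : ∀ w, (χ : G → ℂ) w = (χ : G → ℂ) 1 := fun w => by
    rw [← hρ, BlockPrincipal81.apply_eq_one_iff_ker]
    exact (htop ▸ Subgroup.mem_top w : w ∈ MonoidHom.ker ρ)
  have hG : (Nat.card G : ℂ) ≠ 0 := Nat.cast_ne_zero.2 Nat.card_pos.ne'
  have h1 := CharBasicOrth.classInner_irr_self χ.2
  rw [classInner, Finset.sum_congr rfl fun w _ => by rw [hconst w], Finset.sum_const,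
    Finset.card_univ, nsmul_eq_mul, ← Nat.card_eq_fintype_card, inv_mul_cancel_left₀ hG,
    CharAverage.irr_apply_one, map_natCast, ← Nat.cast_mul, Nat.cast_eq_one] at h1
  refine hχ (Subtype.ext (funext fun w => ?_))
  rw [hconst w, CharAverage.irr_apply_one, Nat.eq_one_of_mul_eq_one_right h1, Nat.cast_one]
  rfl

theorem degree_bound {χ : IrrCharacter G} (hχ : χ ≠ BlockPrincipal81.oneChar G) :
    p ≤ 2 * charDegree (χ : G → ℂ) + 1 :=
  S4503.result p h.prime (dvd_card h) h.not_sq (no_normal h) _ (isCharacter_of_isIrrCharacter χ.2)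
    (faithful h hχ)

theorem psl_of_degree {χ : IrrCharacter G} (hχ : χ ≠ BlockPrincipal81.oneChar G)
    (hd : 2 * charDegree (χ : G → ℂ) + 1 = p) :
    Nonempty (G ≃* Matrix.ProjectiveSpecialLinearGroup (Fin 2) (ZMod p)) := by
  obtain ⟨f⟩ := S4504.result p h.prime (dvd_card h) h.not_sq (no_normal h) _
    (isCharacter_of_isIrrCharacter χ.2) (faithful h hχ) hd
  exact ⟨(QuotientGroup.quotientBot.symm.trans
    (QuotientGroup.quotientMulEquivOfEq (center_bot h).symm)).trans f⟩

variable [NeZero e] {ζ : ℂ}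

theorem th_psing (j : ZMod e) {w : G} (hw : p ∣ orderOf w) : th ζ g j w = 0 := by
  refine th_eq_zero j fun x k _ hx => ?_
  have h1 : orderOf (x⁻¹ * w * x) = orderOf w := by
    have := MulEquiv.orderOf_eq (MulAut.conj x⁻¹) w
    simpa using this
  rw [hx] at h1
  have h2 : orderOf (PFixedLattice26.pw g k) ∣ orderOf g :=
    orderOf_dvd_of_mem_zpowers (Subgroup.npow_mem_zpowers _ _)
  rw [h1, h.ord_g] at h2
  exact Nat.not_dvd_of_pos_of_lt (by have := h.e_two; omega) (e_lt h) (hw.trans h2)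

end Cfsg.Agent.UniqueDegree26
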