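import Cfsg.Agent.Lib.UniqueDegree26Base
import Cfsg.Agent.Lib.CoherenceBasic

/-!
# Characters induced from differences of linear characters of the complement

When `⟨g⟩` is a TI subgroup with normaliser `⟨g⟩ ∪ u⟨g⟩`, `u` inverting `g`, the class functions
induced from `1 - λ` are `1 + χ - ψ` with `χ` of degree `p` and `ψ` irreducible of degree `p + 1`.
-/

set_option autoImplicit false

open Finset
open scoped ComplexConjugate

namespace Cfsg.Agent.UniqueDegree26

open Cfsg Cfsg.Agent.PFixedLattice26 Cfsg.Agent.CharBasic Cfsg.Agent.CharBasicOrth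
open Cfsg.Agent.CharBasicDecomp Cfsg.Agent.CoherenceBasic

attribute [local instance] Classical.propDecidable

universe u

variable {G : Type u} [Group G] [Fintype G] {e : ℕ} [NeZero e]

/-- The Fourier coefficient of `f` along the powers of `g`. -/
noncomputable def cf (ζ : ℂ) (g : G) (f : G → ℂ) (i : ZMod e) : ℂ :=
  (e : ℂ)⁻¹ * ∑ k : ZMod e, pw ζ (-(i * k)) * f (pw g k)

/-- The class function induced from `1 - λ`, `λ (g ^ k) = ζ ^ (j k)`. -/
noncomputable def th (ζ : ℂ) (g : G) (j : ZMod e) (w : G) : ℂ :=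
  (e : ℂ)⁻¹ * ∑ x : G, ∑ k : ZMod e, if x⁻¹ * w * x = pw g k then 1 - pw ζ (j * k) else 0

variable {ζ : ℂ} {g : G}

theorem conj_pw (hζ : IsPrimitiveRoot ζ e) (k : ZMod e) : conj (pw ζ k) = pw ζ (-k) := by
  have h1 : pw ζ k * pw ζ (-k) = 1 := by
    rw [← pw_add hζ.pow_eq_one, add_neg_cancel, pw_zero]
  have hn : ‖pw ζ k‖ = 1 := by
    rw [pw, norm_pow, hζ.norm'_eq_one (NeZero.ne e), one_pow]
  have h2 : pw ζ k * conj (pw ζ k) = 1 := by rw [Complex.mul_conj', hn]; norm_num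
  exact mul_left_cancel₀ (left_ne_zero_of_mul_eq_one h1) (h2.trans h1.symm)

theorem sum_pw_mul (hζ : IsPrimitiveRoot ζ e) (i a : ZMod e) :
    ∑ k : ZMod e, pw ζ (-(i * k)) * pw ζ (a * k) = if i = a then (e : ℂ) else 0 := by
  have h : ∀ k : ZMod e, pw ζ (-(i * k)) * pw ζ (a * k) = pw ζ (-(k * (i - a))) := fun k => by
    rw [← pw_add hζ.pow_eq_one]; congr 1; ring
  rw [sum_congr rfl fun k _ => h k, sum_pw hζ]
  simp only [sub_eq_zero]

theorem pow_eq_pw {M : Type*} [Monoid M] {a : M} (ha : a ^ e = 1) (n : ℕ) :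
    a ^ n = pw (e := e) a (n : ZMod e) := by
  rw [pw, ZMod.val_natCast]
  exact pow_eq_pow_mod n ha

/-- The restriction of a character to `⟨g⟩`, with its determinant. -/
theorem exists_mult (hζ : IsPrimitiveRoot ζ e) (hg : g ^ e = 1) {n : ℕ}
    (ρ : Representation ℂ G (Fin n → ℂ)) :
    ∃ m : ZMod e → ℕ, (∀ k : ZMod e, ρ.character (pw g k) = ∑ a, (m a : ℂ) * pw ζ (a * k)) ∧
      ∑ a, m a = n ∧ LinearMap.det (ρ g) = pw ζ (∑ a, (m a : ZMod e) * a) := by
  obtain ⟨b, μ, h1, h2, -, h4⟩ := exists_rep_eigenbasis ρ g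
  have hμ : ∀ i, ∃ a : ZMod e, μ i = pw ζ a := by
    intro i
    obtain ⟨l, hl⟩ := orderOf_dvd_of_pow_eq_one hg
    have hi : μ i ^ e = 1 := by rw [hl, pow_mul, h2, one_pow]
    obtain ⟨j, -, hj'⟩ := hζ.eq_pow_of_pow_eq_one hi
    exact ⟨(j : ZMod e), by rw [← hj', pow_eq_pw hζ.pow_eq_one]⟩
  choose a ha using hμ
  have hfib : ∀ f : ZMod e → ℂ, ∑ i, f (a i) =
      ∑ c, ((univ.filter fun i => a i = c).card : ℂ) * f c := by
    intro f
    rw [← sum_fiberwise univ a fun i => f (a i)]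
    refine sum_congr rfl fun c _ => ?_
    rw [sum_congr rfl fun i hi => by rw [(mem_filter.1 hi).2], sum_const, nsmul_eq_mul]
  refine ⟨fun c => (univ.filter fun i => a i = c).card, fun k => ?_, ?_, ?_⟩
  · rw [pw, h4, ← hfib fun c => pw ζ (c * k)]
    refine sum_congr rfl fun i _ => ?_
    rw [ha, pw, ← pow_mul, pow_eq_pw hζ.pow_eq_one, Nat.cast_mul, ZMod.natCast_zmod_val,
      ZMod.natCast_zmod_val]
  · rw [← card_eq_sum_card_fiberwise (fun _ _ => mem_univ _), card_univ, Fintype.card_fin,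
      Module.finrank_fin_fun]
  · have hdet : LinearMap.det (ρ g) = ∏ i, μ i := by
      rw [← LinearMap.det_toMatrix b]
      have : LinearMap.toMatrix b b (ρ g) = Matrix.diagonal μ := by
        ext i j
        rw [LinearMap.toMatrix_apply, h1, map_smul, Finsupp.smul_apply, Module.Basis.repr_self,
          Finsupp.single_apply, Matrix.diagonal_apply, smul_eq_mul]
        split_ifs with h h' h' <;> simp_all
      rw [this, Matrix.det_diagonal]
    have hprod : ∀ s : Finset (Fin (Module.finrank ℂ (Fin n → ℂ))),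
        ∏ i ∈ s, pw ζ (a i) = pw ζ (∑ i ∈ s, a i) := by
      intro s
      induction s using Finset.induction with
      | empty => simp [pw_zero]
      | insert i s hi ih => rw [prod_insert hi, sum_insert hi, ih, pw_add hζ.pow_eq_one]
    rw [hdet, prod_congr rfl fun i _ => ha i, hprod]
    congr 1
    rw [← sum_fiberwise univ a a]
    refine sum_congr rfl fun c _ => ?_
    rw [sum_congr rfl fun i hi => (mem_filter.1 hi).2, sum_const, nsmul_eq_mul]

theorem cf_char (hζ : IsPrimitiveRoot ζ e) {f : G → ℂ} {m : ZMod e → ℕ}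
    (hm : ∀ k : ZMod e, f (pw g k) = ∑ a, (m a : ℂ) * pw ζ (a * k)) (i : ZMod e) :
    cf ζ g f i = m i := by
  have he0 : (e : ℂ) ≠ 0 := Nat.cast_ne_zero.2 (NeZero.ne e)
  simp only [cf, hm, mul_sum]
  rw [sum_comm, sum_eq_single i]
  · rw [← mul_sum]
    have : ∑ k : ZMod e, pw ζ (-(i * k)) * ((m i : ℂ) * pw ζ (i * k)) = (m i : ℂ) * e := by
      rw [← (sum_pw_mul hζ i i).trans (if_pos rfl), mul_sum]
      exact sum_congr rfl fun k _ => by ring
    rw [this]; field_simp
  · intro a _ hne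
    rw [← mul_sum]
    have : ∑ k : ZMod e, pw ζ (-(i * k)) * ((m a : ℂ) * pw ζ (a * k)) = (m a : ℂ) * 0 := by
      rw [← (sum_pw_mul hζ i a).trans (if_neg hne.symm), mul_sum]
      exact sum_congr rfl fun k _ => by ring
    rw [this, mul_zero, mul_zero]
  · intro h; exact absurd (mem_univ i) h

theorem th_class (j : ZMod e) : IsClassFunction G (th ζ g j) := by
  intro w h
  simp only [th]
  congr 1
  refine Fintype.sum_equiv (Equiv.mulLeft h⁻¹) _ _ fun x => ?_
  simp [mul_assoc]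

theorem classInner_th (hζ : IsPrimitiveRoot ζ e) {f : G → ℂ} (hf : IsClassFunction G f)
    (j : ZMod e) : classInner f (th ζ g j) = cf ζ g f (0 : ZMod e) - cf ζ g f j := by
  have hG : (Nat.card G : ℂ) ≠ 0 := Nat.cast_ne_zero.2 Nat.card_pos.ne'
  have h1 : ∑ w : G, f w * conj (th ζ g j w) =
      (e : ℂ)⁻¹ * ∑ _x : G, ∑ k : ZMod e, f (pw g k) * (1 - pw ζ (-(j * k))) := by
    have h3 : ∀ w, f w * conj (th ζ g j w) = (e : ℂ)⁻¹ * ∑ x : G, ∑ k : ZMod e,
        if x⁻¹ * w * x = pw g k then f w * (1 - pw ζ (-(j * k))) else 0 := by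
      intro w
      rw [th, map_mul, map_inv₀, map_natCast, mul_left_comm, map_sum]
      congr 1
      rw [mul_sum]
      refine sum_congr rfl fun x _ => ?_
      rw [map_sum, mul_sum]
      refine sum_congr rfl fun k _ => ?_
      split_ifs with h
      · rw [map_sub, map_one, conj_pw hζ]
      · rw [map_zero, mul_zero]
    simp only [h3, ← mul_sum]
    congr 1
    rw [sum_comm]
    refine sum_congr rfl fun x _ => ?_
    rw [sum_comm]
    refine sum_congr rfl fun k _ => ?_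
    rw [sum_eq_single (x * pw g k * x⁻¹)]
    · rw [if_pos (by group), hf]
    · intro w _ hne
      refine if_neg fun hc => hne ?_
      rw [← hc]; group
    · intro h; exact absurd (mem_univ _) h
  rw [classInner, h1, sum_const, card_univ, nsmul_eq_mul, ← Nat.card_eq_fintype_card, ← mul_assoc,
    ← mul_assoc, mul_comm (Nat.card G : ℂ)⁻¹, mul_assoc (e : ℂ)⁻¹, inv_mul_cancel₀ hG, mul_one,
    cf, cf, ← mul_sub, ← sum_sub_distrib]
  congr 1
  refine sum_congr rfl fun k _ => ?_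
  rw [zero_mul, neg_zero, pw_zero]
  ring

theorem cf_nat (hζ : IsPrimitiveRoot ζ e) (hg : g ^ e = 1) (χ : IrrCharacter G) :
    ∃ m : ZMod e → ℕ, (∀ k, (χ : G → ℂ) (pw g k) = ∑ a, (m a : ℂ) * pw ζ (a * k)) ∧
      (∀ i, cf ζ g (χ : G → ℂ) i = m i) ∧ (χ : G → ℂ) 1 = ((∑ a, m a : ℕ) : ℂ) := by
  obtain ⟨n, ρ, -, hρ⟩ := χ.2
  obtain ⟨m, hm, hsum, -⟩ := exists_mult hζ hg ρ
  rw [hρ] at hm
  refine ⟨m, hm, cf_char hζ hm, ?_⟩
  have h0 := hm 0
  rw [pw_zero] at h0
  rw [h0, Nat.cast_sum]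
  exact sum_congr rfl fun a _ => by rw [mul_zero, pw_zero, mul_one]

theorem th_gen (hζ : IsPrimitiveRoot ζ e) (hg : g ^ e = 1) (j : ZMod e) :
    IsGeneralizedCharacter G (th ζ g j) := by
  refine isGeneralizedCharacter_iff.2 ⟨th_class j, fun χ => ?_⟩
  obtain ⟨m, -, hm, -⟩ := cf_nat hζ hg χ
  refine ⟨(m 0 : ℤ) - m j, ?_⟩
  rw [← conj_classInner, classInner_th hζ (isClassFunction_of_isCharacter
    (isCharacter_of_isIrrCharacter χ.2)), hm, hm]
  simp

theorem th_eq_zero (j : ZMod e) {w : G}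
    (hw : ∀ x : G, ∀ k : ZMod e, k ≠ 0 → x⁻¹ * w * x ≠ pw g k) : th ζ g j w = 0 := by
  refine mul_eq_zero_of_right _ (sum_eq_zero fun x _ => sum_eq_zero fun k _ => ?_)
  split_ifs with h
  · by_cases hk : k = 0
    · rw [hk, mul_zero, pw_zero, sub_self]
    · exact absurd h (hw x k hk)
  · rfl

theorem pw_inj (ho : orderOf g = e) {a b : ZMod e} (h : pw g a = pw g b) : a = b :=
  ZMod.val_injective e (pow_injOn_Iio_orderOf (by rw [ho]; exact ZMod.val_lt a)
    (by rw [ho]; exact ZMod.val_lt b) h)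

theorem root_inj (hζ : IsPrimitiveRoot ζ e) {a b : ZMod e} (h : pw ζ a = pw ζ b) : a = b :=
  ZMod.val_injective e (hζ.pow_inj (ZMod.val_lt a) (ZMod.val_lt b) h)

theorem pw_inv (hg : g ^ e = 1) (k : ZMod e) : (pw g k)⁻¹ = pw g (-k) :=
  inv_eq_of_mul_eq_one_right (by rw [← pw_add hg, add_neg_cancel, pw_zero])

/-- `u` inverts `g` and with `g` makes up the normaliser of `⟨g⟩`. -/
structure Dih (g u : G) : Prop where
  inv : u * g * u⁻¹ = g⁻¹
  notMem : u ∉ Subgroup.zpowers g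
  mem_norm : ∀ x : G, x ∈ Subgroup.normalizer ((Subgroup.zpowers g : Subgroup G) : Set G) ↔
    x ∈ Subgroup.zpowers g ∨ u⁻¹ * x ∈ Subgroup.zpowers g
  ti : ∀ a : G, a ∉ Subgroup.normalizer ((Subgroup.zpowers g : Subgroup G) : Set G) →
    ∀ x ∈ Subgroup.zpowers g, a * x * a⁻¹ ∈ Subgroup.zpowers g → x = 1

theorem th_pw (hζ : IsPrimitiveRoot ζ e) (hg : g ^ e = 1) (ho : orderOf g = e) {u : G}
    (hD : Dih g u) (j l : ZMod e) :
    th ζ g j (pw g l) = 2 - pw ζ (j * l) - pw ζ (-(j * l)) := by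
  by_cases hl : l = 0
  · subst hl
    have : ∀ (x : G) (k : ZMod e),
        (if x⁻¹ * pw g (0 : ZMod e) * x = pw g k then 1 - pw ζ (j * k) else 0) = (0 : ℂ) := by
      intro x k
      split_ifs with h
      · rw [pw_zero, mul_one, inv_mul_cancel] at h
        have h0 : (0 : ZMod e) = k := pw_inj ho (by rw [pw_zero]; exact h)
        rw [← h0, mul_zero, pw_zero, sub_self]
      · rfl
    rw [th, sum_eq_zero fun x _ => sum_eq_zero fun k _ => this x k]
    simp only [mul_zero, neg_zero, pw_zero]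
    norm_num
  have huinv : ∀ k : ZMod e, u * pw g k * u⁻¹ = pw g (-k) := by
    intro k
    rw [← pw_inv hg, pw, ← conj_pow, hD.inv, inv_pow]
  have hcase : ∀ x : G, ∑ k : ZMod e,
      (if x⁻¹ * pw g l * x = pw g k then 1 - pw ζ (j * k) else 0) =
      (if x ∈ Subgroup.zpowers g then 1 - pw ζ (j * l) else 0) +
        (if u⁻¹ * x ∈ Subgroup.zpowers g then 1 - pw ζ (-(j * l)) else 0) := by
    intro x
    have hcomm : ∀ c ∈ Subgroup.zpowers g, ∀ k : ZMod e, c⁻¹ * pw g k * c = pw g k := by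
      rintro c ⟨i, rfl⟩ k
      rw [pw, mul_assoc, ((Commute.refl g).pow_left k.val |>.zpow_right i).eq, inv_mul_cancel_left]
    have heval : ∀ c : ZMod e, ∑ k : ZMod e, (if pw g c = pw g k then 1 - pw ζ (j * k) else 0) =
        1 - pw ζ (j * c) := by
      intro c
      rw [sum_eq_single c (fun k _ hk => if_neg fun h => hk (pw_inj ho h).symm)
        (fun h => absurd (mem_univ _) h), if_pos rfl]
    by_cases hx : x ∈ Subgroup.zpowers g
    · rw [if_pos hx, if_neg (fun h => hD.notMem (by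
        have := Subgroup.mul_mem _ hx (Subgroup.inv_mem _ h)
        simpa [mul_assoc] using this)), add_zero, hcomm x hx]
      exact heval l
    · rw [if_neg hx, zero_add]
      by_cases hx' : u⁻¹ * x ∈ Subgroup.zpowers g
      · rw [if_pos hx']
        have h1 : x⁻¹ * pw g l * x = pw g (-l) := by
          have hu' : u⁻¹ * pw g l * u = pw g (-l) := by
            have := huinv (-l)
            rw [neg_neg] at this
            rw [← this]; group
          calc x⁻¹ * pw g l * x = (u⁻¹ * x)⁻¹ * (u⁻¹ * pw g l * u) * (u⁻¹ * x) := by group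
            _ = pw g (-l) := by rw [hu', hcomm _ hx']
        rw [h1, heval, mul_neg]
      · rw [if_neg hx']
        refine sum_eq_zero fun k _ => if_neg fun h => ?_
        have hnot : x⁻¹ ∉ Subgroup.normalizer ((Subgroup.zpowers g : Subgroup G) : Set G) := by
          rw [Subgroup.inv_mem_iff, hD.mem_norm]
          exact not_or.2 ⟨hx, hx'⟩
        have := hD.ti x⁻¹ hnot (pw g l) (Subgroup.npow_mem_zpowers _ _) (by
          rw [inv_inv, h]; exact Subgroup.npow_mem_zpowers _ _)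
        exact hl (pw_inj ho (by rw [this, pw_zero]))
  simp only [th, hcase]
  rw [sum_add_distrib, ← sum_filter, ← sum_filter, sum_const, sum_const]
  have hc1 : (univ.filter fun x : G => x ∈ Subgroup.zpowers g).card = e := by
    rw [← Fintype.card_subtype, ← Nat.card_eq_fintype_card]
    exact (Nat.card_zpowers g).trans ho
  have hc2 : (univ.filter fun x : G => u⁻¹ * x ∈ Subgroup.zpowers g).card = e := by
    rw [← hc1]
    refine card_equiv (Equiv.mulLeft u⁻¹) fun x => ?_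
    simp
  rw [hc1, hc2, nsmul_eq_mul, nsmul_eq_mul, ← mul_add,
    inv_mul_cancel_left₀ (Nat.cast_ne_zero.2 (NeZero.ne e))]
  ring

theorem th_conj (hζ : IsPrimitiveRoot ζ e) (hg : g ^ e = 1) (ho : orderOf g = e) {u : G}
    (hD : Dih g u) (j : ZMod e) (w : G) : conj (th ζ g j w) = th ζ g j w := by
  by_cases h : ∀ x : G, ∀ k : ZMod e, k ≠ 0 → x⁻¹ * w * x ≠ pw g k
  · rw [th_eq_zero j h, map_zero]
  · push Not at h
    obtain ⟨x, k, -, hx⟩ := h
    have : w = x * pw g k * x⁻¹ := by rw [← hx]; group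
    rw [this, th_class j, th_pw hζ hg ho hD, map_sub, map_sub, map_ofNat, conj_pw hζ, conj_pw hζ,
      neg_neg]
    ring

theorem cf_th (hζ : IsPrimitiveRoot ζ e) (hg : g ^ e = 1) (ho : orderOf g = e) {u : G}
    (hD : Dih g u) (j i : ZMod e) :
    cf ζ g (th ζ g j) i = (if i = 0 then 2 else 0) - (if i = j then 1 else 0) -
      (if i = -j then 1 else 0) := by
  have he0 : (e : ℂ) ≠ 0 := Nat.cast_ne_zero.2 (NeZero.ne e)
  have h0 : ∀ k : ZMod e, pw ζ (-(i * k)) * th ζ g j (pw g k) = 2 * (pw ζ (-(i * k)) * pw ζ (0 * k))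
      - pw ζ (-(i * k)) * pw ζ (j * k) - pw ζ (-(i * k)) * pw ζ ((-j) * k) := fun k => by
    rw [th_pw hζ hg ho hD, zero_mul, pw_zero, neg_mul]
    ring
  rw [cf, sum_congr rfl fun k _ => h0 k, sum_sub_distrib, sum_sub_distrib, ← mul_sum,
    sum_pw_mul hζ, sum_pw_mul hζ, sum_pw_mul hζ]
  split_ifs <;> field_simp <;> ring

theorem classInner_th_th (hζ : IsPrimitiveRoot ζ e) (hg : g ^ e = 1) (ho : orderOf g = e) {u : G}
    (hD : Dih g u) {i j : ZMod e} (hi : i ≠ 0) (hj : j ≠ 0) :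
    classInner (th ζ g j) (th ζ g i) =
      2 + (if i = j then 1 else 0) + (if i = -j then 1 else 0) := by
  rw [classInner_th hζ (th_class j), cf_th hζ hg ho hD, cf_th hζ hg ho hD, if_pos rfl,
    if_neg (Ne.symm hj), if_neg (fun h : (0 : ZMod e) = -j => hj (neg_eq_zero.1 h.symm)), if_neg hi]
  ring

theorem hom_trivial {p : ℕ} {y : G} {H : Subgroup G} (h : Hyp p e y g H) (f : G →* ℂˣ) : f = 1 := by
  by_contra hf
  have h1 : f.ker ≠ ⊥ := by
    intro hb
    have hinj : Function.Injective f := (MonoidHom.ker_eq_bot_iff f).1 hb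
    have hgc : g ∈ Subgroup.centralizer ({y} : Set G) :=
      Subgroup.mem_centralizer_singleton_iff.2 (hinj (by rw [map_mul, map_mul, mul_comm]))
    rw [h.cent_y] at hgc
    have h2 : orderOf g ∣ p := h.ord_y ▸ orderOf_dvd_of_mem_zpowers hgc
    rw [h.ord_g] at h2
    rcases h.prime.eq_one_or_self_of_dvd _ h2 with h3 | h3
    · have := h.e_two; omega
    · have := h.e_dvd
      rw [h3] at this
      have := Nat.le_of_dvd (by have := h.prime.two_le; omega) this
      have := h.prime.two_le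
      omega
  exact hf ((MonoidHom.ker_eq_top_iff (f := f)).1 (h.simple _ inferInstance h1))

section Hyp

variable {p : ℕ} {y : G} {H : Subgroup G} (h : Hyp p e y g H)
include h

theorem pow_e : g ^ e = 1 := by rw [← h.ord_g, pow_orderOf_eq_one]

theorem g_norm_y : g * y * g⁻¹ ∈ Subgroup.zpowers y := by
  have hg : g ∈ Subgroup.normalizer ((Subgroup.zpowers y : Subgroup G) : Set G) := by
    rw [h.norm_y]; exact Subgroup.mem_sup_right (Subgroup.mem_zpowers g)
  exact ((Subgroup.mem_normalizer_iff.1 hg) y).1 (Subgroup.mem_zpowers y)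

theorem e_lt : e < p := by
  have := h.prime.two_le
  have := Nat.le_of_dvd (by omega) h.e_dvd
  omega

theorem disj : Subgroup.zpowers y ⊓ Subgroup.zpowers g = ⊥ := by
  refine (Subgroup.inf_eq_bot_of_coprime ?_)
  rw [Nat.card_zpowers, Nat.card_zpowers, h.ord_y, h.ord_g]
  exact h.prime.coprime_iff_not_dvd.2
    (Nat.not_dvd_of_pos_of_lt (by have := h.e_two; omega) (e_lt h))

/-- The character of degree `p` is `1` on `⟨g⟩ \ {1}`. -/
theorem exists_chi (hζ : IsPrimitiveRoot ζ e) : ∃ χ : IrrCharacter G, (χ : G → ℂ) 1 = p ∧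
    (∀ ψ : IrrCharacter G, (ψ : G → ℂ) 1 = p → ψ = χ) ∧
    (∀ k : ZMod e, k ≠ 0 → (χ : G → ℂ) (pw g k) = 1) ∧
    ∀ i : ZMod e, cf ζ g (χ : G → ℂ) i = ((p - 1) / e : ℕ) + (if i = 0 then 1 else 0) := by
  obtain ⟨χ, hχ, hu⟩ := h.unique
  have hu' : ∀ ψ : IrrCharacter G, (ψ : G → ℂ) 1 = p → ψ = χ := fun ψ hψ =>
    hu ψ (Nat.cast_injective (R := ℂ) (by rw [← CharAverage.irr_apply_one, hψ]))
  obtain ⟨μ, hμ2, hμe, hμ⟩ := exists_linear_value h.prime h.not_sq h.ord_y h.cent_y
    (g_norm_y h) (disj h) χ hχ hu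
  rw [h.ord_g] at hμe
  have hg := pow_e h
  obtain ⟨t, ht⟩ := h.e_dvd
  have hp1 : p = e * t + 1 := by have := h.prime.two_le; omega
  have ht' : (p - 1) / e = t := by rw [ht, Nat.mul_div_cancel_left _ (by have := h.e_two; omega)]
  have h1 : (χ : G → ℂ) 1 = p := by rw [CharAverage.irr_apply_one, hχ]
  have hval : ∀ k : ZMod e, k ≠ 0 → (χ : G → ℂ) (pw g k) = pw μ k := fun k hk =>
    hμ k.val (fun hc => hk (pw_inj h.ord_g (by rw [pw_zero]; exact hc)))
  obtain ⟨c, hc⟩ : ∃ c : ZMod e, μ = pw ζ c := by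
    obtain ⟨j, -, hj⟩ := hζ.eq_pow_of_pow_eq_one hμe
    exact ⟨(j : ZMod e), by rw [← hj, pow_eq_pw hζ.pow_eq_one]⟩
  have hpwc : ∀ k : ZMod e, pw μ k = pw ζ (c * k) := fun k => by
    rw [hc, pw, pw, ← pow_mul, pow_eq_pw hζ.pow_eq_one, Nat.cast_mul, ZMod.natCast_zmod_val,
      ZMod.natCast_zmod_val]
  have he0 : (e : ℂ) ≠ 0 := Nat.cast_ne_zero.2 (NeZero.ne e)
  have hcf : ∀ i : ZMod e, cf ζ g (χ : G → ℂ) i = (t : ℂ) + (if i = c then 1 else 0) := by
    intro i
    have hterm : ∀ k : ZMod e, pw ζ (-(i * k)) * (χ : G → ℂ) (pw g k) =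
        pw ζ (-(i * k)) * pw ζ (c * k) + (if k = 0 then (p : ℂ) - 1 else 0) := by
      intro k
      split_ifs with hk
      · rw [hk, pw_zero, h1, mul_zero, neg_zero, pw_zero, mul_zero, pw_zero]; ring
      · rw [hval k hk, hpwc, add_zero]
    rw [cf, sum_congr rfl fun k _ => hterm k, sum_add_distrib, sum_pw_mul hζ,
      sum_ite_eq' univ (0 : ZMod e), if_pos (mem_univ _), hp1]
    push_cast
    split_ifs <;> field_simp <;> ring
  have hc0 : c = 0 := by
    by_contra hcne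
    have hcc : c + c = 0 := by
      refine root_inj hζ ?_
      rw [pw_add hζ.pow_eq_one, ← hc, hμ2, pw_zero]
    obtain ⟨n, ρ, -, hρ⟩ := χ.2
    obtain ⟨m, hm, -, hdet⟩ := exists_mult hζ hg ρ
    rw [hρ] at hm
    have hmi : ∀ i, m i = t + if i = c then 1 else 0 := fun i => by
      have := (cf_char hζ hm i).symm.trans (hcf i)
      apply Nat.cast_injective (R := ℂ)
      rw [this]
      push_cast
      rfl
    let δ : G →* ℂˣ := ((LinearMap.det : Module.End ℂ (Fin n → ℂ) →* ℂ).comp ρ).toHomUnits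
    have hδ : LinearMap.det (ρ g) = 1 := by
      have := congrArg Units.val (DFunLike.congr_fun (hom_trivial h δ) g)
      simpa [δ] using this
    have he : Even e := by
      by_contra ho
      rw [Nat.not_even_iff_odd] at ho
      exact hcne ((ZMod.add_self_eq_zero_iff_eq_zero ho).1 hcc)
    obtain ⟨s, hs⟩ := (ht' ▸ h.sign_even he : Even t)
    have hsum0 : ((t : ZMod e)) * ∑ i : ZMod e, i = 0 := by
      rw [hs, Nat.cast_add, add_mul, ← mul_add]
      have : (∑ i : ZMod e, i) + (∑ i : ZMod e, i) = 0 := by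
        nth_rewrite 2 [← Equiv.sum_comp (Equiv.neg (ZMod e)) fun i => i]
        rw [← sum_add_distrib]
        exact sum_eq_zero fun i _ => by simp
      rw [this, mul_zero]
    have hfin : ∑ a, (m a : ZMod e) * a = c := by
      simp only [hmi, Nat.cast_add, Nat.cast_ite, Nat.cast_one, Nat.cast_zero, add_mul, ite_mul,
        one_mul, zero_mul, sum_add_distrib, sum_ite_eq', mem_univ, if_true]
      rw [← mul_sum, hsum0, zero_add]
    rw [hfin] at hdet
    refine hcne (root_inj hζ ?_)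
    rw [pw_zero, ← hdet, hδ]
  subst hc0
  refine ⟨χ, h1, hu', fun k hk => by rw [hval k hk, hpwc, zero_mul, pw_zero], fun i => ?_⟩
  rw [hcf, ht']

variable {χ : IrrCharacter G} (hχ1 : (χ : G → ℂ) 1 = p)
  (hχcf : ∀ i : ZMod e, cf ζ g (χ : G → ℂ) i = ((p - 1) / e : ℕ) + (if i = 0 then 1 else 0))
include hχ1 hχcf

/-- The rest `th - 1 - χ`. -/
theorem rest_spec (hζ : IsPrimitiveRoot ζ e) {u : G} (hD : Dih g u) {j : ZMod e} (hj : j ≠ 0) :
    IsGeneralizedCharacter G (th ζ g j - (fun _ => 1) - (χ : G → ℂ)) ∧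
      classInner (th ζ g j - (fun _ => 1) - (χ : G → ℂ)) (th ζ g j - (fun _ => 1) - (χ : G → ℂ)) =
        if j = -j then 2 else 1 := by
  have hg := pow_e h
  have h1 : IsIrrCharacter G (fun _ : G => (1 : ℂ)) := isIrrCharacter_one
  have hχne : (fun _ : G => (1 : ℂ)) ≠ (χ : G → ℂ) := fun hc => by
    have := congrFun hc 1
    rw [hχ1] at this
    exact h.prime.ne_one (by exact_mod_cast this.symm)
  have hcf1 : ∀ i : ZMod e, cf ζ g (fun _ => 1) i = if i = 0 then 1 else 0 := by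
    intro i
    have : ∀ k : ZMod e, pw ζ (-(i * k)) * (1 : ℂ) = pw ζ (-(i * k)) * pw ζ (0 * k) := fun k => by
      rw [zero_mul, pw_zero]
    rw [cf, sum_congr rfl fun k _ => this k, sum_pw_mul hζ, mul_ite, mul_zero,
      inv_mul_cancel₀ (Nat.cast_ne_zero.2 (NeZero.ne e))]
  have e1 : classInner (fun _ => 1) (th ζ g j) = 1 := by
    rw [classInner_th hζ (fun _ _ => rfl), hcf1, hcf1, if_pos rfl, if_neg hj, sub_zero]
  have e2 : classInner (χ : G → ℂ) (th ζ g j) = 1 := by
    rw [classInner_th hζ (isClassFunction_of_isCharacter (isCharacter_of_isIrrCharacter χ.2)),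
      hχcf, hχcf, if_pos rfl, if_neg hj]
    ring
  have e1' : classInner (th ζ g j) (fun _ => 1) = 1 := by rw [← conj_classInner, e1, map_one]
  have e2' : classInner (th ζ g j) (χ : G → ℂ) = 1 := by rw [← conj_classInner, e2, map_one]
  refine ⟨isGeneralizedCharacter_sub (isGeneralizedCharacter_sub (th_gen hζ hg j)
    (isGeneralizedCharacter_of_isCharacter (isCharacter_of_isIrrCharacter h1)))
    (isGeneralizedCharacter_of_isCharacter (isCharacter_of_isIrrCharacter χ.2)), ?_⟩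
  simp only [classInner_sub_left, classInner_sub_right, e1, e2, e1', e2', classInner_irr_self h1,
    classInner_irr_self χ.2, classInner_irr_ne h1 χ.2 hχne, classInner_irr_ne χ.2 h1 hχne.symm,
    classInner_th_th hζ hg h.ord_g hD hj hj, if_true]
  split_ifs <;> ring

/-- A moved linear character gives `1 + χ - ψ`, `ψ` irreducible of degree `p + 1`. -/
theorem exists_psi (hζ : IsPrimitiveRoot ζ e) {u : G} (hD : Dih g u) {j : ZMod e} (hj : j ≠ 0)
    (hjn : j ≠ -j) : ∃ ψ : IrrCharacter G, (ψ : G → ℂ) = (fun _ : G => (1 : ℂ)) + (χ : G → ℂ) - th ζ g j ∧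
      (ψ : G → ℂ) 1 = p + 1 ∧
      ∀ k : ZMod e, k ≠ 0 → (χ : G → ℂ) (pw g k) = 1 →
        (ψ : G → ℂ) (pw g k) = pw ζ (j * k) + pw ζ (-(j * k)) := by
  obtain ⟨hgen, hn⟩ := rest_spec h hχ1 hχcf hζ hD hj
  rw [if_neg hjn] at hn
  have hth1 : th ζ g j 1 = 0 := by
    have := th_pw hζ (pow_e h) h.ord_g hD j 0
    rw [pw_zero] at this
    rw [this, mul_zero, neg_zero, pw_zero]; ring
  rcases si_of_norm_one hgen hn with hirr | hirr
  · exfalso
    obtain ⟨n, hn'⟩ : ∃ n : ℕ, (th ζ g j - (fun _ : G => (1 : ℂ)) - (χ : G → ℂ)) 1 = n :=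
      ⟨_, CharAverage.apply_one_eq_charDegree (isCharacter_of_isIrrCharacter hirr)⟩
    simp only [Pi.sub_apply, hth1, hχ1] at hn'
    have : ((n + p + 1 : ℕ) : ℂ) = 0 := by push_cast; linear_combination -hn'
    rw [Nat.cast_eq_zero] at this
    omega
  · refine ⟨⟨_, hirr⟩, ?_, ?_, ?_⟩
    · show -(th ζ g j - (fun _ : G => (1 : ℂ)) - (χ : G → ℂ)) = _
      abel
    · show -(th ζ g j - (fun _ : G => (1 : ℂ)) - (χ : G → ℂ)) 1 = _
      simp only [Pi.neg_apply, Pi.sub_apply, hth1, hχ1]; ring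
    · intro k _ hk
      show -(th ζ g j - (fun _ : G => (1 : ℂ)) - (χ : G → ℂ)) (pw g k) = _
      simp only [Pi.neg_apply, Pi.sub_apply, th_pw hζ (pow_e h) h.ord_g hD, hk]; ring

end Hyp

end Cfsg.Agent.UniqueDegree26
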