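import Cfsg.Agent.Lib.UniqueDegree26EvenGroup
import Cfsg.Agent.Lib.ClassAlgebraVal

/-!
# Class algebra constants at involutions

For `t` real, `∑ χ (a) |χ (z)| ^ 2 / χ (1)` counts the conjugates `s` of `z` with `a s` conjugate to
`z`; the number of elements conjugating `z` into a given set of conjugates is that set's size times
the order of the centraliser.
-/

set_option autoImplicit false

open Finset
open scoped ComplexConjugate

namespace Cfsg.Agent.UniqueDegree26

open Cfsg

attribute [local instance] Classical.propDecidable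

universe u

variable {G : Type u} [Group G] [Fintype G]

theorem count_conj_into (z : G) (T : Finset G) (hT : ∀ t ∈ T, IsConj z t) :
    Nat.card {x : G // x * z * x⁻¹ ∈ T} = T.card * Nat.card (Subgroup.centralizer ({z} : Set G)) := by
  rw [Nat.card_eq_fintype_card, Fintype.card_subtype, card_eq_sum_card_fiberwise
    (f := fun x : G => x * z * x⁻¹) (s := univ.filter fun x : G => x * z * x⁻¹ ∈ T) (t := T)
    (fun x hx => (mem_filter.1 hx).2)]
  refine sum_const_nat fun t ht => ?_
  obtain ⟨c, hc⟩ := isConj_iff.1 (hT t ht)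
  rw [Nat.card_eq_fintype_card, Fintype.card_subtype]
  refine card_equiv (Equiv.mulLeft c⁻¹) fun x => ?_
  simp only [mem_filter, mem_univ, true_and, Equiv.coe_mulLeft,
    Subgroup.mem_centralizer_singleton_iff]
  constructor
  · rintro ⟨-, hx⟩
    calc c⁻¹ * x * z = c⁻¹ * (x * z * x⁻¹) * x := by group
      _ = c⁻¹ * (c * z * c⁻¹) * x := by rw [hx, hc]
      _ = _ := by group
  · intro hx
    have hval : x * z * x⁻¹ = t := by
      calc x * z * x⁻¹ = c * (c⁻¹ * x * z) * x⁻¹ := by group
        _ = c * (z * (c⁻¹ * x)) * x⁻¹ := by rw [hx]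
        _ = c * z * c⁻¹ := by group
        _ = t := hc
    exact ⟨hval ▸ ht, hval⟩

theorem sum_involution_pair (a z : G) (T : Finset G) (hT : ∀ t ∈ T, IsConj z t)
    (hiff : ∀ s, IsConj z s → (IsConj z (a * s) ↔ s ∈ T)) :
    (Nat.card G : ℂ) * ∑ χ : IrrCharacter G,
        (χ : G → ℂ) a * (χ : G → ℂ) z * conj ((χ : G → ℂ) z) / (χ : G → ℂ) 1 =
      (T.card : ℂ) * (Nat.card (Subgroup.centralizer ({z} : Set G)) : ℂ) ^ 2 := by
  have hG : (Nat.card G : ℂ) ≠ 0 := Nat.cast_ne_zero.2 Nat.card_pos.ne'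
  rw [ClassAlgebraVal.sum_irr_triple, Nat.card_congr (Equiv.subtypeEquivRight fun x =>
    hiff (x * z * x⁻¹) (isConj_iff.2 ⟨x, rfl⟩)), count_conj_into z T hT, mul_div_cancel₀ _ hG]
  push_cast
  ring

/-- The Sylow number. -/
theorem exists_sylow_number {p e : ℕ} {y g : G} {H : Subgroup G} (h : Hyp p e y g H) :
    ∃ k : ℕ, 1 ≤ k ∧ Nat.card G = p * e * (k * p + 1) := by
  haveI := Fact.mk h.prime
  obtain ⟨P, hP⟩ := exists_sylow h
  have h1 := Subgroup.card_mul_index (Subgroup.normalizer ((P : Subgroup G) : Set G))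
  have hmod := card_sylow_modEq_one p G
  rw [P.card_eq_index_normalizer] at hmod
  rw [hP] at h1
  have hP' : ((P : Subgroup G) : Set G) = (Subgroup.zpowers y : Set G) := by rw [hP]
  rw [show Subgroup.normalizer (P : Set G) = Subgroup.normalizer ((Subgroup.zpowers y : Subgroup G) : Set G) from congrArg _ hP'] at hmod
  rw [h.card_norm] at h1
  set n := (Subgroup.normalizer ((Subgroup.zpowers y : Subgroup G) : Set G)).index with hn
  have hn1 : n ≠ 1 := fun hc => by
    have htop := Subgroup.index_eq_one.1 (hn ▸ hc)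
    haveI : (Subgroup.zpowers y).Normal := Subgroup.normalizer_eq_top_iff.1 htop
    have h2 := h.simple (Subgroup.zpowers y) inferInstance (fun hb => by
      rw [Subgroup.zpowers_eq_bot] at hb
      have := h.ord_y
      rw [hb, orderOf_one] at this
      exact h.prime.ne_one this.symm)
    refine no_normal h ⊤ inferInstance ?_
    rw [← h2, Nat.card_zpowers, h.ord_y]
  have hn0 : n ≠ 0 := Subgroup.FiniteIndex.index_ne_zero
  have hdvd : p ∣ n - 1 := (Nat.modEq_iff_dvd' (by omega)).1 hmod.symm
  obtain ⟨k, hk⟩ := hdvd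
  refine ⟨k, Nat.pos_of_ne_zero fun hc => hn1 (by rw [hc, mul_zero] at hk; omega), ?_⟩
  rw [← h1, show k * p + 1 = n by rw [mul_comm]; omega]

end Cfsg.Agent.UniqueDegree26
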