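import Cfsg.Agent.Lib.UniqueDegree26EvenGroup

/-!
# The even case: the normaliser is dihedral

An involution `u` of `N` outside `⟨g⟩` does not centralise the element of order `4` of `⟨g⟩`, as all
involutions are conjugate, and does not act semidihedrally, by transfer.
-/

set_option autoImplicit false

namespace Cfsg.Agent.UniqueDegree26

open Cfsg Subgroup

universe u

variable {G : Type u} [Group G] [Fintype G] {p e : ℕ} {y g : G} {H : Subgroup G}
  (h : Hyp p e y g H) (hev : Even e)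
include h hev

local notation "E" => (zpowers g : Subgroup G)
local notation "N" => (normalizer ((zpowers g : Subgroup G) : Set G))

theorem not_four_dvd {u : G} (hu : u ∈ N) (hu' : u ∉ E) (hu2 : u * u = 1) {r : ℤ}
    (hr : u * g * u⁻¹ = g ^ r) (h4 : 4 ∣ e) : ¬ (4 : ℤ) ∣ r - 1 := by
  intro hd
  obtain ⟨k, hk⟩ := h4
  set i := g ^ k with hi
  have hi4 : i ^ 4 = 1 := by rw [hi, ← pow_mul, mul_comm, ← hk, ← h.ord_g, pow_orderOf_eq_one]
  have hii : i * i = g ^ (e / 2) := by rw [hi, ← pow_add]; congr 1; omega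
  have hui : u * i * u⁻¹ = i := by
    obtain ⟨c, hc⟩ := hd
    rw [hi, ← conj_pow, hr, ← zpow_natCast, ← zpow_mul, mul_comm, zpow_mul, zpow_natCast, ← hi,
      show r = 4 * c + 1 by linear_combination hc, zpow_add, zpow_mul, show (4 : ℤ) = ((4 : ℕ) : ℤ) from rfl,
      zpow_natCast, hi4, one_zpow, one_mul, zpow_one]
  have huo : orderOf u = 2 := orderOf_eq_prime (p := 2) (by rw [pow_two, hu2]) (by
    rintro rfl; exact hu' (one_mem _))
  obtain ⟨c, hc⟩ := isConj_iff.1 (invol_conj h hev huo)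
  have hcomm : Commute u i := mul_inv_eq_iff_eq_mul.1 hui
  have hcN : c⁻¹ * i * c ∈ N := by
    rw [← cent_invol h hev, mem_centralizer_singleton_iff,
      show g ^ (e / 2) = c⁻¹ * u * c by rw [← hc]; group]
    calc c⁻¹ * i * c * (c⁻¹ * u * c) = c⁻¹ * (i * u) * c := by group
      _ = c⁻¹ * (u * i) * c := by rw [hcomm.eq]
      _ = _ := by group
  have hz : c⁻¹ * g ^ (e / 2) * c = g ^ (e / 2) := by
    refine invol_unique h hev ?_ ?_
    · rw [← hii, show c⁻¹ * (i * i) * c = c⁻¹ * i * c * (c⁻¹ * i * c) by group]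
      exact sq_mem_E h hev hcN
    · have := MulEquiv.orderOf_eq (MulAut.conj c⁻¹) (g ^ (e / 2))
      rw [MulAut.conj_apply, inv_inv, ord_invol h hev] at this
      exact this
  refine hu' ?_
  rw [← hc]
  have : c * g ^ (e / 2) * c⁻¹ = g ^ (e / 2) := by
    nth_rewrite 1 [← hz]; group
  rw [this]
  exact npow_mem_zpowers _ _

/-- No semidihedral action. -/
theorem not_semidihedral {u : G} (hu : u ∈ N) (hu' : u ∉ E) (hu2 : u * u = 1) {r : ℤ}
    (hr : u * g * u⁻¹ = g ^ r) {v : ℕ} (hv : v = e.factorization 2)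
    (hr1 : ((2 ^ (v - 1) : ℕ) : ℤ) ∣ r + 1) (hr2 : ¬ ((2 ^ v : ℕ) : ℤ) ∣ r + 1)
    (hrodd : Odd r) (hv3 : 2 ≤ v) : False := by
  classical
  haveI : Fact (Nat.Prime 2) := ⟨Nat.prime_two⟩
  have he0 := e_pos h
  have hdv : 2 ^ v ∣ e := hv ▸ Nat.ordProj_dvd e 2
  set a := g ^ (e / 2 ^ v) with ha
  have hao : orderOf a = 2 ^ v := by
    rw [ha, orderOf_pow_of_dvd (Nat.div_pos (Nat.le_of_dvd he0 hdv) (by positivity)).ne'
      (by rw [h.ord_g]; exact Nat.div_dvd_of_dvd hdv), h.ord_g, Nat.div_div_self hdv he0.ne']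
  have haE : a ∈ E := npow_mem_zpowers _ _
  have hua : ∀ i : ℤ, u * a ^ i = a ^ (i * r) * u := by
    intro i
    rw [← mul_inv_eq_iff_eq_mul, ← conj_zpow, show u * a * u⁻¹ = a ^ r by
      rw [ha, ← conj_pow, hr, ← zpow_natCast, ← zpow_mul, mul_comm, zpow_mul, zpow_natCast], ← zpow_mul,
      mul_comm]
  set z := g ^ (e / 2) with hzdef
  have haz : a ^ (r + 1) = z := by
    refine invol_unique h hev (zpow_mem haE _) (orderOf_eq_prime (p := 2) ?_ ?_)
    · obtain ⟨c, hc⟩ := hr1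
      refine (zpow_natCast _ 2).symm.trans ?_
      rw [← zpow_mul, ← orderOf_dvd_iff_zpow_eq_one, hao]
      refine ⟨c, ?_⟩
      rw [hc, show v = v - 1 + 1 by omega, pow_succ, Nat.add_sub_cancel]
      push_cast
      ring
    · intro hc
      exact hr2 (by rw [← hao]; exact orderOf_dvd_iff_zpow_eq_one.2 hc)
  have hsq : ∀ i : ℤ, a ^ i * u * (a ^ i * u) = z ^ i := by
    intro i
    calc a ^ i * u * (a ^ i * u) = a ^ i * (u * a ^ i) * u := by group
      _ = a ^ i * a ^ (i * r) * (u * u) := by rw [hua]; group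
      _ = z ^ i := by rw [hu2, mul_one, ← zpow_add, ← haz, ← zpow_mul]; congr 1; ring
  have hz2 : ∀ j : ℤ, z ^ (2 * j) = 1 := fun j => by
    rw [zpow_mul, show (2 : ℤ) = ((2 : ℕ) : ℤ) from rfl, zpow_natCast, ← ord_invol h hev,
      pow_orderOf_eq_one, one_zpow]
  obtain ⟨S, huS, hSN, hSE⟩ := exists_sylow_two h hev (zpowers u)
    (IsPGroup.iff_card.2 ⟨1, by
      rw [Nat.card_zpowers, pow_one]
      exact orderOf_eq_prime (p := 2) (by rw [pow_two, hu2]) fun hc => hu' (hc ▸ one_mem _)⟩)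
    (zpowers_le.2 hu)
  have huS' : u ∈ (S : Subgroup G) := huS (mem_zpowers u)
  have haS : a ∈ (S : Subgroup G) := hSE (zpowers a) (zpowers_le.2 haE)
    (IsPGroup.iff_card.2 ⟨v, by rw [Nat.card_zpowers, hao]⟩) (mem_zpowers a)
  -- the elements of `S`
  have hES : ∀ s ∈ (S : Subgroup G), s ∈ E → ∃ i : ℤ, s = a ^ i := by
    intro s hs hsE
    obtain ⟨j, hj⟩ := IsPGroup.iff_orderOf.1 S.isPGroup' ⟨s, hs⟩
    rw [Subgroup.orderOf_mk] at hj
    obtain ⟨i, (hi : g ^ i = s)⟩ := (isOfFinOrder_of_finite g).mem_powers_iff_mem_zpowers.2 hsE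
    have hdvd : e ∣ i * 2 ^ v := by
      rw [← h.ord_g]
      refine orderOf_dvd_of_pow_eq_one ?_
      rw [pow_mul, hi, ← orderOf_dvd_iff_pow_eq_one, hj]
      refine pow_dvd_pow 2 ?_
      rw [hv]
      refine (Nat.prime_two.pow_dvd_iff_le_factorization he0.ne').1 (hj ▸ ?_)
      rw [← h.ord_g, ← hi]
      exact orderOf_pow_dvd i
    obtain ⟨c, hc⟩ : e / 2 ^ v ∣ i := Nat.dvd_of_mul_dvd_mul_right (by positivity : 0 < 2 ^ v)
      (by rwa [Nat.div_mul_cancel hdv])
    exact ⟨c, by rw [zpow_natCast, ha, ← pow_mul, ← hc, hi]⟩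
  have hall : ∀ s ∈ (S : Subgroup G), ∃ i : ℤ, s = a ^ i ∨ s = a ^ i * u := by
    intro s hs
    by_cases hsE : s ∈ E
    · obtain ⟨i, hi⟩ := hES s hs hsE
      exact ⟨i, Or.inl hi⟩
    · obtain ⟨i, hi⟩ := hES (s * u) (mul_mem hs huS')
        ((mul_mem_iff_norm h (hSN hs) hu).2 (iff_of_false hsE hu'))
      exact ⟨i, Or.inr (by rw [← hi, mul_assoc, hu2, mul_one])⟩
  let D : Subgroup G :=
    { carrier := {s | ∃ j : ℤ, s = a ^ (2 * j) ∨ s = a ^ (2 * j) * u}
      one_mem' := ⟨0, Or.inl (by simp)⟩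
      mul_mem' := by
        rintro _ _ ⟨i, rfl | rfl⟩ ⟨j, rfl | rfl⟩
        · exact ⟨i + j, Or.inl (by rw [← zpow_add]; ring_nf)⟩
        · exact ⟨i + j, Or.inr (by rw [← mul_assoc, ← zpow_add]; ring_nf)⟩
        · exact ⟨i + j * r, Or.inr (by rw [mul_assoc, hua, ← mul_assoc, ← zpow_add]; ring_nf)⟩
        · refine ⟨i + j * r, Or.inl ?_⟩
          calc a ^ (2 * i) * u * (a ^ (2 * j) * u) = a ^ (2 * i) * (u * a ^ (2 * j)) * u := by group
            _ = a ^ (2 * i) * a ^ (2 * j * r) * (u * u) := by rw [hua]; group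
            _ = _ := by rw [hu2, mul_one, ← zpow_add]; ring_nf
      inv_mem' := by
        rintro _ ⟨i, rfl | rfl⟩
        · exact ⟨-i, Or.inl (by rw [← zpow_neg]; ring_nf)⟩
        · exact ⟨-(i * r), Or.inr (by
            rw [mul_inv_rev, inv_eq_of_mul_eq_one_right hu2, ← zpow_neg, hua]; ring_nf)⟩ }
  have hnotu : ∀ i j : ℤ, a ^ i ≠ a ^ j * u := fun i j hc => hu' (by
    rw [show u = (a ^ j)⁻¹ * a ^ i by rw [hc, inv_mul_cancel_left]]
    exact mul_mem (inv_mem (zpow_mem haE j)) (zpow_mem haE i))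
  have heven : ∀ i j : ℤ, a ^ i = a ^ (2 * j) → Even i := by
    intro i j hc
    have h1 : ((2 : ℕ) : ℤ) ∣ i - 2 * j := by
      refine (Int.natCast_dvd_natCast.2 (dvd_pow_self 2 (by omega : v ≠ 0))).trans ?_
      rw [← hao]
      exact orderOf_dvd_iff_zpow_eq_one.2 (by rw [zpow_sub, hc, mul_inv_cancel])
    obtain ⟨c, hc'⟩ := h1
    exact ⟨c + j, by push_cast at hc'; linear_combination hc'⟩
  have hD1 : ∀ i : ℤ, a ^ i ∈ D ↔ Even i := fun i => by
    constructor
    · rintro ⟨j, hj | hj⟩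
      · exact heven i j hj
      · exact absurd hj (hnotu _ _)
    · rintro ⟨j, rfl⟩; exact ⟨j, Or.inl (by ring_nf)⟩
  have hD2 : ∀ i : ℤ, a ^ i * u ∈ D ↔ Even i := fun i => by
    constructor
    · rintro ⟨j, hj | hj⟩
      · exact absurd hj.symm (hnotu _ _)
      · exact heven i j (mul_right_cancel hj)
    · rintro ⟨j, rfl⟩; exact ⟨j, Or.inr (by ring_nf)⟩
  have hidx : (D.subgroupOf (S : Subgroup G)).index = 2 := by
    refine index_eq_two_iff.2 ⟨⟨a, haS⟩, fun b => ?_⟩
    simp only [mem_subgroupOf, coe_mul]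
    obtain ⟨i, hi | hi⟩ := hall b b.2
    · rw [hi, ← zpow_add_one, hD1, hD1]
      by_cases he : Even i <;> simp [Xor, he, Int.even_add_one, ← Int.not_even_iff_odd]
    · have : a ^ i * u * a = a ^ (i + r) * u := by
        rw [mul_assoc]
        have h1 := hua 1
        rw [zpow_one, one_mul] at h1
        rw [h1, ← mul_assoc, ← zpow_add]
      rw [hi, this, hD2, hD2]
      have hr' : ¬ Even r := Int.not_even_iff_odd.2 hrodd
      by_cases he : Even i <;> simp [Xor, he, hr', Int.even_add]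
  haveI : (D.subgroupOf (S : Subgroup G)).Normal := normal_of_index_eq_two hidx
  haveI : IsCyclic ((S : Subgroup G) ⧸ D.subgroupOf (S : Subgroup G)) :=
    isCyclic_of_prime_card (p := 2) (hp := ⟨Nat.prime_two⟩) hidx
  letI : CommGroup ((S : Subgroup G) ⧸ D.subgroupOf (S : Subgroup G)) := IsCyclic.commGroup
  set x := a * u with hx
  have hxS : x ∈ (S : Subgroup G) := mul_mem haS huS'
  have hxx : x * x = z := by
    have := hsq 1
    rw [zpow_one, zpow_one] at this
    exact this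
  have hxD : x ∉ D := by
    rw [hx, ← zpow_one a, hD2]
    decide
  have hxE : x ∉ E := fun hc => hu' (by simpa [hx] using mul_mem (inv_mem haE) hc)
  refine TransferThompson.transfer_ne_one S (S.isPGroup'.to_quotient _)
    (QuotientGroup.mk' (D.subgroupOf (S : Subgroup G))) hxS
    (fun hc => hxD (mem_subgroupOf.1 ((QuotientGroup.eq_one_iff _).1 hc))) ?_ ?_
    (by rw [comm_trivial h (MonoidHom.transfer _)]; rfl)
  · intro c k hk hmem
    refine (QuotientGroup.eq_one_iff _).2 (mem_subgroupOf.2 ?_)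
    show c⁻¹ * x ^ k * c ∈ D
    obtain ⟨l, rfl⟩ := hk
    rw [pow_mul, pow_two, hxx] at hmem ⊢
    rcases Nat.even_or_odd l with ⟨d, rfl⟩ | ⟨d, rfl⟩
    · rw [show z ^ (d + d) = 1 by
        rw [← two_mul, pow_mul, ← ord_invol h hev, pow_orderOf_eq_one, one_pow], mul_one, inv_mul_cancel]
      exact one_mem D
    · rw [show z ^ (2 * d + 1) = z by
        rw [pow_succ, pow_mul, ← ord_invol h hev, pow_orderOf_eq_one, one_pow, one_mul]] at hmem ⊢
      have ho : orderOf (c⁻¹ * z * c) = 2 := by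
        have := MulEquiv.orderOf_eq (MulAut.conj c⁻¹) z
        rw [MulAut.conj_apply, inv_inv, ord_invol h hev] at this
        exact this
      obtain ⟨i, hi | hi⟩ := hall _ hmem
      · rw [invol_unique h hev (hi ▸ zpow_mem haE i) ho, ← hzdef, ← haz, hD1]
        exact hrodd.add_odd odd_one
      · rw [hi, hD2]
        rw [hi] at ho
        by_contra hodd
        obtain ⟨j, rfl⟩ := Int.not_even_iff_odd.1 hodd
        have h1 : z ^ (2 * j + 1) = 1 := by
          rw [← hsq, ← pow_two, ← ho, pow_orderOf_eq_one]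
        rw [zpow_add_one, hz2, one_mul] at h1
        exact invol_ne_one h hev h1
  · intro c hmem
    refine QuotientGroup.eq.2 ?_
    rw [mul_mem_iff_of_index_two hidx, inv_mem_iff]
    refine iff_of_false ?_ (fun hc => hxD (mem_subgroupOf.1 hc))
    intro hc
    obtain ⟨j, hj | hj⟩ := mem_subgroupOf.1 hc
    · -- in `E`
      have hj' : c⁻¹ * x * c = a ^ (2 * j) := hj
      have hwE : c⁻¹ * x * c ∈ E := by rw [hj']; exact zpow_mem haE _
      have hzc : c⁻¹ * z * c = z := by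
        refine invol_unique h hev ?_ ?_
        · rw [← hxx, show c⁻¹ * (x * x) * c = c⁻¹ * x * c * (c⁻¹ * x * c) by group]
          exact mul_mem hwE hwE
        · have := MulEquiv.orderOf_eq (MulAut.conj c⁻¹) z
          rw [MulAut.conj_apply, inv_inv, ord_invol h hev] at this
          exact this
      have hcN : c ∈ N := by
        rw [← cent_invol h hev, mem_centralizer_singleton_iff, ← hzdef]
        calc c * z = c * (c⁻¹ * z * c) := by rw [hzc]
          _ = z * c := by group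
      refine hxE ?_
      have := ((mem_normalizer_iff.1 hcN) _).1 hwE
      rwa [show c * (c⁻¹ * x * c) * c⁻¹ = x by group] at this
    · have hj' : c⁻¹ * x * c = a ^ (2 * j) * u := hj
      have h1 : c⁻¹ * z * c = 1 := by
        rw [← hxx, show c⁻¹ * (x * x) * c = c⁻¹ * x * c * (c⁻¹ * x * c) by group, hj', hsq, hz2]
      refine invol_ne_one h hev ?_
      have h2 : z = c * (c⁻¹ * z * c) * c⁻¹ := by group
      rw [h1, mul_one, mul_inv_cancel] at h2
      exact h2

/-- For even `e` an involution inverts `g`. -/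
theorem exists_dih_even : ∃ u, Dih g u ∧ u * u = 1 := by
  obtain ⟨u, hu, hu', hu2⟩ := exists_invol_outside h hev
  obtain ⟨r, hr, hre⟩ := exists_power h hu
  refine ⟨u, dih_of_inv h hu hu' ?_, hu2⟩
  have he0 := e_pos h
  set v := e.factorization 2 with hv
  have hv1 : 1 ≤ v := Nat.prime_two.factorization_pos_of_dvd he0.ne' (even_iff_two_dvd.1 hev)
  have hdv : 2 ^ v ∣ e := Nat.ordProj_dvd e 2
  have hrodd : Odd r := by
    rw [← Int.not_even_iff_odd]
    rintro ⟨c, rfl⟩
    have h2 : (2 : ℤ) ∣ (c + c - 1) * (c + c + 1) := by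
      refine (dvd_trans ?_ hre)
      exact_mod_cast Int.natCast_dvd_natCast.2 (even_iff_two_dvd.1 hev)
    rcases Int.prime_two.dvd_or_dvd h2 with ⟨d, hd⟩ | ⟨d, hd⟩ <;> omega
  -- the `2`-part
  have h2part : ((2 ^ v : ℕ) : ℤ) ∣ r + 1 := by
    obtain ⟨c, hc⟩ := hrodd
    rcases Nat.lt_or_ge v 2 with hv2 | hv2
    · rw [show v = 1 by omega]
      exact ⟨c + 1, by push_cast; linear_combination hc⟩
    · have h4 : 4 ∣ e := (pow_dvd_pow 2 hv2).trans hdv
      have hn4 := not_four_dvd h hev hu hu' hu2 hr h4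
      have hcodd : ¬ (2 : ℤ) ∣ c := fun ⟨d, hd⟩ => hn4 ⟨d, by rw [hc, hd]; ring⟩
      have h1 : ((2 ^ (v - 1) : ℕ) : ℤ) ∣ r + 1 := by
        have h3 : (2 : ℤ) ^ v ∣ (r - 1) * (r + 1) := by
          refine (dvd_trans ?_ hre)
          exact_mod_cast Int.natCast_dvd_natCast.2 hdv
        rw [show v = v - 1 + 1 by omega, pow_succ', show (r - 1) * (r + 1) = 2 * (c * (r + 1)) by
          rw [hc]; ring] at h3
        have h5 := (mul_dvd_mul_iff_left two_ne_zero).1 h3
        push_cast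
        exact ((Int.prime_two.coprime_iff_not_dvd.2 hcodd).pow_left).dvd_of_dvd_mul_left h5
      by_contra hno
      exact not_semidihedral h hev hu hu' hu2 hr hv h1 hno ⟨c, hc⟩ hv2
  -- the odd part
  have hodd : ((e / 2 ^ v : ℕ) : ℤ) ∣ r + 1 := by
    have hdvd : ((e / 2 ^ v : ℕ) : ℤ) ∣ (r - 1) * (r + 1) :=
      (Int.natCast_dvd_natCast.2 (Nat.div_dvd_of_dvd hdv)).trans hre
    refine IsCoprime.dvd_of_dvd_mul_left ?_ hdvd
    rw [Int.isCoprime_iff_gcd_eq_one]
    by_contra hne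
    obtain ⟨q, hq, hqd⟩ := Nat.exists_prime_and_dvd hne
    have h1 : q ∣ e / 2 ^ v := Int.natCast_dvd_natCast.1
      ((Int.natCast_dvd_natCast.2 hqd).trans (Int.gcd_dvd_left _ _))
    refine odd_prime_not_dvd h hu hu' hr hre hq ?_ (h1.trans (Nat.div_dvd_of_dvd hdv))
      ((Int.natCast_dvd_natCast.2 hqd).trans (Int.gcd_dvd_right _ _))
    rintro rfl
    exact Nat.not_dvd_ordCompl Nat.prime_two he0.ne' h1
  have hcop : IsCoprime ((2 ^ v : ℕ) : ℤ) ((e / 2 ^ v : ℕ) : ℤ) := by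
    rw [Int.isCoprime_iff_gcd_eq_one, Int.gcd_natCast_natCast]
    exact ((Nat.prime_two.coprime_iff_not_dvd).2 (Nat.not_dvd_ordCompl Nat.prime_two he0.ne')).pow_left _
  obtain ⟨c, hc⟩ := hcop.mul_dvd h2part hodd
  have hprod : ((2 ^ v : ℕ) : ℤ) * ((e / 2 ^ v : ℕ) : ℤ) = (e : ℤ) := by
    rw [← Nat.cast_mul, Nat.mul_div_cancel' hdv]
  rw [hprod] at hc
  rw [hr, show r = (e : ℤ) * c + (-1) by linear_combination hc, zpow_add, zpow_mul, zpow_natCast,
    ← h.ord_g, pow_orderOf_eq_one, one_zpow, one_mul, zpow_neg_one]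

end Cfsg.Agent.UniqueDegree26
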