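import Cfsg.Agent.Lib.UniqueDegree26EvenChars
import Cfsg.Agent.Lib.UniqueDegree26Count

/-!
# No even `e ≥ 4`

The class algebra constant at `(g, z)` gives `|G| (1 + 1/p ± 1/a ± 1/b) = 4 e³`, so `p = 2 e + 1` and
`|G| = p e (p + 1)`; then the subgroup of index `p` would centralise `z`.
-/

set_option autoImplicit false

open Finset
open scoped ComplexConjugate

namespace Cfsg.Agent.UniqueDegree26

open Cfsg Cfsg.Agent.CharBasic Cfsg.Agent.PFixedLattice26 Cfsg.Agent.BlockPrincipal81

attribute [local instance] Classical.propDecidable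

universe u

variable {G : Type u} [Group G] [Fintype G] {p e : ℕ} {y g : G} {H : Subgroup G}
  (h : Hyp p e y g H) [NeZero e]
include h

theorem even_big_false (hev : Even e) (he4 : 4 ≤ e) : False := by
  obtain ⟨ζ, hζ⟩ : ∃ z : ℂ, IsPrimitiveRoot z e :=
    ⟨_, Complex.isPrimitiveRoot_exp e (NeZero.ne e)⟩
  obtain ⟨χ, A, B, εA, εB, Ψ, hc⟩ := exists_even_chars h hζ hev
  obtain ⟨u, hD, hu2⟩ := exists_dih_even h hev
  set η : ZMod e := ((e / 2 : ℕ) : ZMod e) with hηdef
  obtain ⟨hη0, hηη, hηu⟩ := half_spec (e := e) hev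
  haveI : Fact (1 < e) := ⟨by omega⟩
  have hg := pow_e h
  have hz : pw g η = g ^ (e / 2) := (pow_eq_pw hg _).symm
  set z := g ^ (e / 2) with hzdef
  have hg1 : pw g (1 : ZMod e) = g := pw_one hg
  have h2ne : (1 : ZMod e) + 1 ≠ 0 := fun h0 => by
    have := Nat.le_of_dvd (by omega) ((ZMod.natCast_eq_zero_iff 2 e).1 (by rw [Nat.cast_ofNat, ← one_add_one_eq_two, h0]))
    omega
  have hone0 : (1 : ZMod e) ≠ 0 := one_ne_zero
  have hη1 : η ≠ 1 := fun h1 => h2ne (by rw [← h1]; exact hηη)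
  have hηm : pw ζ η = -1 := by
    have h1 : pw ζ η * pw ζ η = 1 := by rw [← pw_add hζ.pow_eq_one, hηη, pw_zero]
    rcases mul_self_eq_one_iff.1 h1 with h2 | h2
    · exact absurd (root_inj hζ (h2.trans (pw_zero ζ).symm)) hη0
    · exact h2
  -- the involutions outside `E`
  let w : ZMod e → G := fun k => u * pw g k
  have huinv : u⁻¹ = u := inv_eq_of_mul_eq_one_right hu2
  have hconjk : ∀ k : ZMod e, u * pw g k * u = pw g (-k) := by
    intro k
    conv_lhs => arg 2; rw [← huinv]
    rw [← pw_inv hg, pw, ← conj_pow, hD.inv, inv_pow]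
  have hwmul : ∀ k l : ZMod e, w k * w l = pw g (-k + l) := fun k l => by
    show u * pw g k * (u * pw g l) = _
    rw [← mul_assoc, hconjk, ← pw_add hg]
  have hwinj : Function.Injective w := fun k l hkl => pw_inj h.ord_g (mul_left_cancel hkl)
  have hwE : ∀ k, w k ∉ Subgroup.zpowers g := fun k hk => hD.notMem (by
    simpa [w, pw] using mul_mem hk (inv_mem (Subgroup.npow_mem_zpowers g k.val)))
  have hwo : ∀ k, orderOf (w k) = 2 := fun k => orderOf_eq_prime (p := 2)
    (by rw [pow_two, hwmul, neg_add_cancel, pw_zero]) fun hc => hwE k (hc ▸ one_mem _)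
  have hzo : orderOf z = 2 := ord_invol h hev
  have hwN : ∀ k, w k ∈ Subgroup.normalizer ((Subgroup.zpowers g : Subgroup G) : Set G) := fun k =>
    (hD.mem_norm _).2 (Or.inr (by simp [w, pw]))
  have hw_of : ∀ s ∈ Subgroup.normalizer ((Subgroup.zpowers g : Subgroup G) : Set G),
      s ∉ Subgroup.zpowers g → ∃ k, s = w k := by
    intro s hs hsE
    obtain ⟨i, (hi : g ^ i = u⁻¹ * s)⟩ := (isOfFinOrder_of_finite g).mem_powers_iff_mem_zpowers.2
      (((hD.mem_norm s).1 hs).resolve_left hsE)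
    exact ⟨(i : ZMod e), by rw [show w (i : ZMod e) = u * pw g (i : ZMod e) from rfl, ← pow_eq_pw hg, hi,
      mul_inv_cancel_left]⟩
  have hordconj : ∀ {s : G}, IsConj z s → orderOf s = 2 := fun {s} hs => by
    obtain ⟨c, rfl⟩ := isConj_iff.1 hs
    rw [← MulAut.conj_apply, MulEquiv.orderOf_eq, hzo]
  have hzcent : Nat.card (Subgroup.centralizer ({z} : Set G)) = 2 * e := by
    rw [cent_invol h hev, h.card_NE]
  -- the class algebra constant
  set f : IrrCharacter G → ℂ := fun c =>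
    (c : G → ℂ) g * (c : G → ℂ) z * conj ((c : G → ℂ) z) / (c : G → ℂ) 1 with hf
  have hR := sum_involution_pair g z (univ.image w) (fun t ht => by
    obtain ⟨k, -, rfl⟩ := mem_image.1 ht
    exact invol_conj h hev (hwo k)) (fun s hs => by
    have hso := hordconj hs
    constructor
    · intro hgs
      have hgso := hordconj hgs
      have h1 : g * s * (g * s) = 1 := by rw [← pow_two, ← hgso, pow_orderOf_eq_one]
      have h2 : s * s = 1 := by rw [← pow_two, ← hso, pow_orderOf_eq_one]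
      have h3 : s * g * s⁻¹ = g⁻¹ := by
        rw [inv_eq_of_mul_eq_one_right h2]
        exact eq_inv_of_mul_eq_one_right (by rw [← h1]; group)
      have hgne : g ≠ 1 := fun hc1 => by
        have := h.ord_g
        rw [hc1, orderOf_one] at this
        omega
      have hsN := norm_of_conj h (Subgroup.mem_zpowers g) hgne
        (h3 ▸ inv_mem (Subgroup.mem_zpowers g))
      refine mem_image.2 ?_
      obtain ⟨k, hk⟩ := hw_of s hsN fun hsE => by
        obtain ⟨i, rfl⟩ := hsE
        rw [show g ^ i * g * (g ^ i)⁻¹ = g by group, eq_inv_iff_mul_eq_one] at h3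
        have := Nat.le_of_dvd two_pos (orderOf_dvd_of_pow_eq_one (x := g) (by rw [pow_two]; exact h3))
        rw [h.ord_g] at this
        omega
      exact ⟨k, mem_univ _, hk.symm⟩
    · intro hsT
      obtain ⟨k, -, rfl⟩ := mem_image.1 hsT
      have : g * w k = w (-1 + k) := by
        show g * (u * pw g k) = u * pw g (-1 + k)
        have h1 : g * u = u * pw g (-(1 : ZMod e)) := by
          have h4 := hconjk (-1)
          rw [neg_neg, hg1] at h4
          calc g * u = u * pw g (-(1 : ZMod e)) * u * u := by rw [h4]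
            _ = _ := by rw [mul_assoc _ u u, hu2, mul_one]
        rw [← mul_assoc, h1, mul_assoc, ← pw_add hg]
      rw [this]
      exact invol_conj h hev (hwo _))
  rw [card_image_of_injective _ hwinj, card_univ, ZMod.card, hzcent] at hR
  -- the values
  set J : Finset (ZMod e) := univ.filter fun j => j ≠ 0 ∧ j ≠ η with hJ
  have hmemJ : ∀ {j}, j ∈ J → j ≠ 0 ∧ j ≠ η := fun hj => (mem_filter.1 hj).2
  have hsq : ∀ i : ZMod e, pw ζ (η * i) * pw ζ (η * i) = 1 := fun i => by
    rw [← pw_add hζ.pow_eq_one, ← add_mul, hηη, zero_mul, pw_zero]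
  have hreal : ∀ i : ZMod e, conj (pw ζ (η * i)) = pw ζ (η * i) := fun i => by
    rw [conj_pw hζ, ← neg_mul, show -η = η from neg_eq_of_add_eq_zero_left hηη]
  have hfone : f (oneChar G) = 1 := by simp [hf, oneChar]
  have hfχ : f χ = 1 / (p : ℂ) := by
    have h1 := hc.chi 1 hone0
    have h2 := hc.chi η hη0
    rw [hg1] at h1
    rw [hz] at h2
    simp only [hf, h1, h2, hc.deg, map_one, mul_one]
  have hfAB : ∀ (C : IrrCharacter G) (ε : ℤ), (ε = 1 ∨ ε = -1) →
      (∀ k : ZMod e, k ≠ 0 → (C : G → ℂ) (pw g k) = -(ε : ℂ) * pw ζ (η * k)) →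
      f C = (ε : ℂ) / (charDegree (C : G → ℂ) : ℂ) := by
    intro C ε hε hval
    have h1 := hval 1 hone0
    have h2 := hval η hη0
    rw [hg1, mul_one, hηm] at h1
    rw [hz] at h2
    simp only [hf, h1, h2, CharAverage.irr_apply_one]
    congr 1
    rw [map_mul, map_neg, map_intCast, hreal]
    rcases hε with hε | hε <;> subst hε <;> push_cast
    · linear_combination hsq η
    · linear_combination -(hsq η)
  have hfΨ : ∀ j ∈ J, f (Ψ j) = 4 / (p + 1 : ℂ) * (pw ζ j + pw ζ (-j)) := by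
    intro j hj
    obtain ⟨h0, h1'⟩ := hmemJ hj
    have h1 := hc.psi j h0 h1' 1 hone0
    have h2 := hc.psi j h0 h1' η hη0
    rw [hg1, mul_one] at h1
    rw [hz, show -(j * η) = j * η by
      rw [← mul_neg, show -η = η from neg_eq_of_add_eq_zero_left hηη]] at h2
    have h3 : pw ζ (j * η) * pw ζ (j * η) = 1 := by rw [mul_comm j]; exact hsq j
    simp only [hf, h1, h2, hc.psi1 j h0 h1', map_add, show conj (pw ζ (j * η)) = pw ζ (j * η) by
      rw [mul_comm j]; exact hreal j]
    field_simp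
    linear_combination (4 * (pw ζ j + pw ζ (-j))) * h3
  have hsumJ : ∑ j ∈ J, (pw ζ j + pw ζ (-j)) = 0 := by
    have hall : ∑ j : ZMod e, pw ζ j = 0 := by
      have := sum_pw hζ (-1 : ZMod e)
      rw [if_neg (neg_ne_zero.2 hone0)] at this
      rw [← this]
      refine Fintype.sum_congr _ _ fun a => ?_
      rw [mul_neg, mul_one, neg_neg]
    have hJeq : ∑ j ∈ J, pw ζ j = 0 := by
      have h1 : univ \ J = {0, η} := by
        ext j; simp [hJ]; tauto
      have h2 := sum_sdiff (f := fun j => pw ζ j) (subset_univ J)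
      rw [h1, sum_pair (Ne.symm hη0), pw_zero, hηm, hall] at h2
      linear_combination h2
    have hneg : ∑ j ∈ J, pw ζ (-j) = ∑ j ∈ J, pw ζ j := by
      refine sum_equiv (Equiv.neg _) (fun j => ?_) fun j _ => rfl
      simp only [hJ, mem_filter, mem_univ, true_and, Equiv.neg_apply]
      constructor
      · rintro ⟨h1, h2⟩
        exact ⟨neg_ne_zero.2 h1, fun h3 => h2 (by rw [← neg_neg j, h3]; exact neg_eq_of_add_eq_zero_left hηη)⟩
      · rintro ⟨h1, h2⟩
        exact ⟨fun h3 => h1 (by rw [h3, neg_zero]), fun h3 => h2 (by rw [h3]; exact neg_eq_of_add_eq_zero_left hηη)⟩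
    rw [sum_add_distrib, hneg, hJeq, add_zero]
  have himg : ∑ c ∈ J.image Ψ, f c = 0 := by
    have hfib : ∀ c ∈ J.image Ψ, (J.filter fun j => Ψ j = c).card = 2 := by
      intro c hcm
      obtain ⟨i, hi, rfl⟩ := mem_image.1 hcm
      obtain ⟨i0, i1⟩ := hmemJ hi
      have hne : i ≠ -i := fun h3 => (hηu i (by nth_rewrite 2 [h3]; rw [add_neg_cancel])).elim i0 i1
      have hni : -i ≠ 0 ∧ -i ≠ η := ⟨neg_ne_zero.2 i0, fun h3 => i1 (by
        rw [← neg_neg i, h3]; exact neg_eq_of_add_eq_zero_left hηη)⟩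
      rw [show (J.filter fun j => Ψ j = Ψ i) = {i, -i} from ?_, card_pair hne]
      ext j
      simp only [mem_filter, mem_insert, mem_singleton]
      constructor
      · rintro ⟨hj, hje⟩
        exact (hc.same j i (hmemJ hj).1 (hmemJ hj).2 i0 i1).1 hje
      · intro hje
        have hj : j ≠ 0 ∧ j ≠ η := by rcases hje with rfl | rfl <;> [exact ⟨i0, i1⟩; exact hni]
        exact ⟨mem_filter.2 ⟨mem_univ _, hj⟩, (hc.same j i hj.1 hj.2 i0 i1).2 hje⟩
    have h1 : ∑ j ∈ J, f (Ψ j) = ∑ c ∈ J.image Ψ, (J.filter fun j => Ψ j = c).card • f c :=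
      sum_comp f Ψ
    rw [sum_congr (s₁ := J.image Ψ) rfl fun c hcm => by rw [hfib c hcm], ← smul_sum, sum_congr rfl hfΨ, ← mul_sum,
      hsumJ, mul_zero, two_smul] at h1
    linear_combination (-(1 : ℂ) / 2) * h1
  have hnotimg : ∀ c : IrrCharacter G, (c = oneChar G ∨ c = χ ∨ c = A ∨ c = B) → c ∉ J.image Ψ := by
    intro c hcc hcm
    obtain ⟨j, hj, rfl⟩ := mem_image.1 hcm
    obtain ⟨h1, h2, h3, h4⟩ := hc.ne_psi j (hmemJ hj).1 (hmemJ hj).2
    tauto
  have hχ1ne : oneChar G ≠ χ := fun h1 => by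
    have := hc.deg
    rw [← h1] at this
    exact h.prime.ne_one (by exact_mod_cast (show ((p : ℕ) : ℂ) = 1 from this.symm))
  have hS : ∑ c, f c = 1 + 1 / (p : ℂ) + (εA : ℂ) / (charDegree (A : G → ℂ) : ℂ) +
      (εB : ℂ) / (charDegree (B : G → ℂ) : ℂ) := by
    rw [← sum_subset (subset_univ (insert (oneChar G) (insert χ (insert A (insert B (J.image Ψ)))))),
      sum_insert, sum_insert, sum_insert, sum_insert, himg, hfone, hfχ, hfAB A εA hc.signA hc.valA,
      hfAB B εB hc.signB hc.valB]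
    · ring
    · exact hnotimg B (by tauto)
    · simp only [mem_insert, not_or]
      exact ⟨hc.neAB, hnotimg A (by tauto)⟩
    · simp only [mem_insert, not_or]
      exact ⟨hc.neA.2.symm, hc.neB.2.symm, hnotimg χ (by tauto)⟩
    · simp only [mem_insert, not_or]
      exact ⟨hχ1ne, hc.neA.1.symm, hc.neB.1.symm, hnotimg _ (by tauto)⟩
    · intro c _ hcm
      simp only [mem_insert, not_or] at hcm
      obtain ⟨h1, h2, h3, h4, h5⟩ := hcm
      have h6 := hc.rest c h1 h2 h3 h4 (fun j j0 j1 hje => h5 (mem_image.2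
        ⟨j, mem_filter.2 ⟨mem_univ _, j0, j1⟩, hje.symm⟩)) 1 hone0
      rw [hg1] at h6
      simp only [hf, h6, zero_mul, zero_div]
  change (Nat.card G : ℂ) * ∑ c, f c = _ at hR
  rw [hS] at hR
  obtain ⟨k, hk1, hcardG⟩ := exists_sylow_number h
  set a := charDegree (A : G → ℂ) with hadef
  set b := charDegree (B : G → ℂ) with hbdef
  have ha := degree_bound h hc.neA.1
  have hb := degree_bound h hc.neB.1
  rw [← hadef] at ha
  rw [← hbdef] at hb
  obtain ⟨s, hs⟩ := h.sign_even hev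
  have hp1 : p = e * (2 * s) + 1 := by
    have h1 := Nat.mul_div_cancel' h.e_dvd
    rw [hs] at h1
    have := h.prime.two_le
    rw [two_mul]
    omega
  have hs1 : 1 ≤ s := Nat.pos_of_ne_zero fun hs0 => by
    subst hs0
    simp at hp1
    exact h.prime.ne_one hp1
  have hp13 : 13 ≤ p := by
    have h9 : 9 ≤ p := by
      have := Nat.mul_le_mul he4 (show 2 ≤ 2 * s by omega)
      omega
    obtain ⟨e', he'⟩ := hev
    have hmod : p % 4 = 1 := by
      rw [hp1, he', show (e' + e') * (2 * s) = 4 * (e' * s) by ring]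
      omega
    by_contra hc13
    have h9' : p = 9 := by omega
    have := h.prime
    rw [h9'] at this
    norm_num at this
  have hint : ((k : ℤ) * p + 1) * (((p : ℤ) + 1) * a * b + εA * p * b + εB * p * a) =
      4 * (e : ℤ) ^ 2 * a * b := by
    apply Int.cast_injective (α := ℂ)
    have he0 : (e : ℂ) ≠ 0 := Nat.cast_ne_zero.2 (NeZero.ne e)
    have hpC : (p : ℂ) ≠ 0 := Nat.cast_ne_zero.2 h.prime.ne_zero
    have haC : (a : ℂ) ≠ 0 := Nat.cast_ne_zero.2 (by omega)
    have hbC : (b : ℂ) ≠ 0 := Nat.cast_ne_zero.2 (by omega)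
    rw [hcardG] at hR
    push_cast at hR ⊢
    field_simp at hR
    linear_combination hR
  have hlow : ((k : ℤ) * p + 1) * ((p : ℤ) ^ 2 - 4 * p - 1) ≤ 4 * (e : ℤ) ^ 2 * ((p : ℤ) - 1) := by
    have hab : (0 : ℤ) < (a : ℤ) * b := by
      have : 0 < a * b := Nat.mul_pos (by omega) (by omega)
      exact_mod_cast this
    have hpa : (p : ℤ) * b * ((p : ℤ) - 1) ≤ 2 * p * a * b := by
      have : ((p : ℤ) - 1) ≤ 2 * a := by omega
      nlinarith [mul_nonneg (by positivity : (0:ℤ) ≤ (p : ℤ) * b) (sub_nonneg.2 this)]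
    have hpb : (p : ℤ) * a * ((p : ℤ) - 1) ≤ 2 * p * a * b := by
      have : ((p : ℤ) - 1) ≤ 2 * b := by omega
      nlinarith [mul_nonneg (by positivity : (0:ℤ) ≤ (p : ℤ) * a) (sub_nonneg.2 this)]
    have hpp : (0 : ℤ) ≤ (p : ℤ) - 1 := by omega
    have hP1 : ((a : ℤ) * b) * ((p : ℤ) ^ 2 - 4 * p - 1) ≤
        (((p : ℤ) + 1) * a * b + εA * p * b + εB * p * a) * ((p : ℤ) - 1) := by
      have hA' : 0 ≤ ((1 : ℤ) + εA) * ((p : ℤ) * b * ((p : ℤ) - 1)) := by
        rcases hc.signA with h1 | h1 <;> subst h1 <;> norm_num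
        positivity
      have hB' : 0 ≤ ((1 : ℤ) + εB) * ((p : ℤ) * a * ((p : ℤ) - 1)) := by
        rcases hc.signB with h1 | h1 <;> subst h1 <;> norm_num
        positivity
      nlinarith
    refine le_of_mul_le_mul_left ?_ hab
    calc (a : ℤ) * b * (((k : ℤ) * p + 1) * ((p : ℤ) ^ 2 - 4 * p - 1))
        = ((k : ℤ) * p + 1) * ((a : ℤ) * b * ((p : ℤ) ^ 2 - 4 * p - 1)) := by ring
      _ ≤ ((k : ℤ) * p + 1) * ((((p : ℤ) + 1) * a * b + εA * p * b + εB * p * a) * ((p : ℤ) - 1)) :=
          mul_le_mul_of_nonneg_left hP1 (by positivity)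
      _ = _ := by rw [← mul_assoc, hint]; ring
  have hks : k = 1 ∧ s = 1 := by
    have hp' : (p : ℤ) - 1 = 2 * (e : ℤ) * s := by rw [hp1]; push_cast; ring
    have hp13' : (13 : ℤ) ≤ p := by exact_mod_cast hp13
    have hq : (0 : ℤ) ≤ (p : ℤ) ^ 2 - 4 * p - 1 := by nlinarith
    by_contra hno
    rcases Nat.lt_or_ge 1 s with hs2 | hs2
    · -- `p ≥ 4 e + 1`
      have hpe : 4 * (e : ℤ) ≤ (p : ℤ) - 1 := by
        have : (2 : ℤ) ≤ s := by exact_mod_cast hs2
        rw [hp']; nlinarith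
      have h2 : ((p : ℤ) + 1) * ((p : ℤ) ^ 2 - 4 * p - 1) ≤ ((k : ℤ) * p + 1) * ((p : ℤ) ^ 2 - 4 * p - 1) := by
        refine mul_le_mul_of_nonneg_right ?_ hq
        have : (1 : ℤ) ≤ k := by exact_mod_cast hk1
        nlinarith
      have h3 : 16 * (e : ℤ) ^ 2 ≤ ((p : ℤ) - 1) ^ 2 := by nlinarith
      nlinarith [mul_le_mul_of_nonneg_right h3 (by omega : (0:ℤ) ≤ (p : ℤ) - 1)]
    · have hk2 : (2 : ℤ) ≤ k := by
        have : 2 ≤ k := by omega
        exact_mod_cast this
      have h2 : (2 * (p : ℤ) + 1) * ((p : ℤ) ^ 2 - 4 * p - 1) ≤ ((k : ℤ) * p + 1) * ((p : ℤ) ^ 2 - 4 * p - 1) := by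
        refine mul_le_mul_of_nonneg_right ?_ hq
        nlinarith
      have hpe : 4 * (e : ℤ) ^ 2 = ((p : ℤ) - 1) ^ 2 := by
        rw [hp', show s = 1 by omega]; push_cast; ring
      nlinarith
  obtain ⟨rfl, rfl⟩ := hks
  -- the subgroup of index `p`
  have hH : Nat.card H = e * (p + 1) := by
    have h1 := Subgroup.card_mul_index H
    rw [h.index, hcardG, one_mul] at h1
    exact Nat.eq_of_mul_eq_mul_right h.prime.pos (by rw [h1]; ring)
  have hNH : ∀ x ∈ Subgroup.normalizer ((Subgroup.zpowers g : Subgroup G) : Set G), x ∈ H := by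
    intro x hx
    refine h.fix_g g (Subgroup.mem_zpowers g) (fun hc1 => by
      have := h.ord_g; rw [hc1, orderOf_one] at this; omega) x ?_
    have h1 := ((Subgroup.mem_normalizer_iff.1 (inv_mem hx)) g).1 (Subgroup.mem_zpowers g)
    rw [inv_inv] at h1
    exact (Subgroup.zpowers_le.2 h.g_mem) h1
  set K := univ.filter fun v : G => v ∈ H ∧ orderOf v = 2 with hK
  set U := insert z (univ.image w) with hU
  have hUsub : U ⊆ K := by
    intro v hv
    rcases mem_insert.1 hv with rfl | hv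
    · exact mem_filter.2 ⟨mem_univ _, pow_mem h.g_mem _, hzo⟩
    · obtain ⟨k, -, rfl⟩ := mem_image.1 hv
      exact mem_filter.2 ⟨mem_univ _, hNH _ (hwN k), hwo k⟩
  have hKcard : K.card * (2 * e) = Nat.card H := by
    rw [← hzcent, ← count_conj_into z K fun t ht => invol_conj h hev (mem_filter.1 ht).2.2]
    refine Nat.card_congr (Equiv.subtypeEquivRight fun x => ?_)
    simp only [hK, mem_filter, mem_univ, true_and]
    constructor
    · rintro ⟨hx, -⟩
      refine inv_mem_iff.1 (h.fix_g z (Subgroup.npow_mem_zpowers _ _) (invol_ne_one h hev) x⁻¹ ?_)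
      rwa [inv_inv]
    · intro hx
      exact ⟨mul_mem (mul_mem hx (pow_mem h.g_mem _)) (inv_mem hx),
        by rw [← MulAut.conj_apply, MulEquiv.orderOf_eq, hzo]⟩
  have hKU : K = U := by
    refine (eq_of_subset_of_card_le hUsub ?_).symm
    have hUc : U.card = e + 1 := by
      rw [hU, card_insert_of_notMem fun hzm => by
        obtain ⟨k, -, hk⟩ := mem_image.1 hzm
        exact hwE k (hk ▸ Subgroup.npow_mem_zpowers _ _), card_image_of_injective _ hwinj, card_univ,
        ZMod.card]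
    rw [hH, hp1] at hKcard
    rw [hUc]
    refine le_of_eq (Nat.eq_of_mul_eq_mul_right (show 0 < 2 * e by omega) ?_)
    rw [hKcard]; ring
  have hle : H ≤ Subgroup.normalizer ((Subgroup.zpowers g : Subgroup G) : Set G) := by
    intro a ha
    rw [← cent_invol h hev, Subgroup.mem_centralizer_singleton_iff, ← mul_inv_eq_iff_eq_mul]
    have hmem : a * z * a⁻¹ ∈ U := hKU ▸ mem_filter.2 ⟨mem_univ _,
      mul_mem (mul_mem ha (pow_mem h.g_mem _)) (inv_mem ha),
      by rw [← MulAut.conj_apply, MulEquiv.orderOf_eq, hzo]⟩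
    rcases mem_insert.1 hmem with h1 | h1
    · exact h1
    obtain ⟨k, -, hk⟩ := mem_image.1 h1
    exfalso
    have hb : a⁻¹ * w (k + 1) * a ∈ Subgroup.centralizer ({z} : Set G) := by
      rw [cent_invol h hev]
      have hm : a⁻¹ * w (k + 1) * a ∈ U := hKU ▸ mem_filter.2 ⟨mem_univ _,
        mul_mem (mul_mem (inv_mem ha) (hNH _ (hwN _))) ha, by
          have := MulEquiv.orderOf_eq (MulAut.conj a⁻¹) (w (k + 1))
          rw [MulAut.conj_apply, inv_inv, hwo] at this
          exact this⟩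
      rcases mem_insert.1 hm with h2 | h2
      · rw [h2]; exact Subgroup.le_normalizer (Subgroup.npow_mem_zpowers _ _)
      · obtain ⟨l, -, hl⟩ := mem_image.1 h2
        rw [← hl]; exact hwN l
    have hcomm : w (k + 1) * w k = w k * w (k + 1) := by
      rw [Subgroup.mem_centralizer_singleton_iff] at hb
      rw [hk]
      calc w (k + 1) * (a * z * a⁻¹) = a * (a⁻¹ * w (k + 1) * a * z) * a⁻¹ := by group
        _ = a * (z * (a⁻¹ * w (k + 1) * a)) * a⁻¹ := by rw [hb]
        _ = _ := by group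
    rw [hwmul, hwmul] at hcomm
    have := pw_inj h.ord_g hcomm
    exact h2ne (by linear_combination -this)
  have := Subgroup.card_le_of_le hle
  rw [hH, h.card_NE] at this
  have := Nat.mul_le_mul_left e (show 14 ≤ p + 1 by omega)
  omega

end Cfsg.Agent.UniqueDegree26
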