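import Cfsg.Agent.Lib.UniqueDegree26Dihedral
import Cfsg.Agent.Lib.PFixedChars26

/-!
# The even case: the characters not vanishing on `⟨g⟩ \ {1}`

They are `1`, the character of degree `p`, the `(e - 2) / 2` characters of degree `p + 1` and two
further ones, constituents of the class function induced from `1 - η`, `η` the character of order
two.
-/

set_option autoImplicit false

open Finset
open scoped ComplexConjugate

namespace Cfsg.Agent.UniqueDegree26

open Cfsg Cfsg.Agent.CharBasic Cfsg.Agent.PFixedLattice26 Cfsg.Agent.BlockPrincipal81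
open Cfsg.Agent.CharBasicOrth Cfsg.Agent.CoherenceBasic

attribute [local instance] Classical.propDecidable

universe u

/-- The characters that matter on `⟨g⟩`. -/
structure EvenChars {G : Type u} [Group G] [Fintype G] {e : ℕ} [NeZero e] (p : ℕ) (g : G) (ζ : ℂ)
    (η : ZMod e) (χ A B : IrrCharacter G) (εA εB : ℤ) (Ψ : ZMod e → IrrCharacter G) : Prop where
  deg : (χ : G → ℂ) 1 = p
  uniq : ∀ c : IrrCharacter G, (c : G → ℂ) 1 = p → c = χ
  chi : ∀ k : ZMod e, k ≠ 0 → (χ : G → ℂ) (pw g k) = 1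
  neA : A ≠ oneChar G ∧ A ≠ χ
  neB : B ≠ oneChar G ∧ B ≠ χ
  neAB : A ≠ B
  signA : εA = 1 ∨ εA = -1
  signB : εB = 1 ∨ εB = -1
  valA : ∀ k : ZMod e, k ≠ 0 → (A : G → ℂ) (pw g k) = -(εA : ℂ) * pw ζ (η * k)
  valB : ∀ k : ZMod e, k ≠ 0 → (B : G → ℂ) (pw g k) = -(εB : ℂ) * pw ζ (η * k)
  psi1 : ∀ j, j ≠ 0 → j ≠ η → (Ψ j : G → ℂ) 1 = p + 1
  psi : ∀ j, j ≠ 0 → j ≠ η → ∀ k : ZMod e, k ≠ 0 →
    (Ψ j : G → ℂ) (pw g k) = pw ζ (j * k) + pw ζ (-(j * k))
  same : ∀ i j, i ≠ 0 → i ≠ η → j ≠ 0 → j ≠ η → (Ψ i = Ψ j ↔ i = j ∨ i = -j)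
  ne_psi : ∀ j, j ≠ 0 → j ≠ η →
    Ψ j ≠ oneChar G ∧ Ψ j ≠ χ ∧ Ψ j ≠ A ∧ Ψ j ≠ B
  rest : ∀ c : IrrCharacter G, c ≠ oneChar G → c ≠ χ → c ≠ A → c ≠ B →
    (∀ j, j ≠ 0 → j ≠ η → c ≠ Ψ j) → ∀ k : ZMod e, k ≠ 0 → (c : G → ℂ) (pw g k) = 0

theorem half_spec {e : ℕ} [NeZero e] (hev : Even e) :
    ((e / 2 : ℕ) : ZMod e) ≠ 0 ∧ ((e / 2 : ℕ) : ZMod e) + ((e / 2 : ℕ) : ZMod e) = 0 ∧
      ∀ j : ZMod e, j + j = 0 → j = 0 ∨ j = ((e / 2 : ℕ) : ZMod e) := by
  obtain ⟨k, hk⟩ := hev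
  have hpos := NeZero.pos e
  have he2 : e / 2 = k := by omega
  rw [he2]
  refine ⟨fun hc => ?_, by rw [← Nat.cast_add, ← hk, ZMod.natCast_self], fun j hj => ?_⟩
  · have := Nat.le_of_dvd (by omega) ((ZMod.natCast_eq_zero_iff k e).1 hc)
    omega
  · have h1 : e ∣ j.val + j.val := by
      rw [← ZMod.natCast_eq_zero_iff, Nat.cast_add, ZMod.natCast_zmod_val, hj]
    have h2 := ZMod.val_lt j
    obtain ⟨c, hc⟩ := h1
    rcases Nat.lt_or_ge c 1 with hc0 | hc1
    · left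
      have : c = 0 := by omega
      rw [this, mul_zero] at hc
      exact (ZMod.val_eq_zero j).1 (by omega)
    · right
      have : c = 1 := by
        by_contra hne
        have : e * 2 ≤ e * c := Nat.mul_le_mul_left _ (by omega)
        omega
      rw [this, mul_one] at hc
      rw [← ZMod.natCast_zmod_val j, show j.val = k by omega]

theorem exists_scaled {G : Type u} [Group G] {a : G → ℂ} (h : SignedIrr a) :
    ∃ (A : IrrCharacter G) (ε : ℤ), (ε = 1 ∨ ε = -1) ∧ a = (ε : ℂ) • (A : G → ℂ) := by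
  rcases h with h | h
  · exact ⟨⟨a, h⟩, 1, Or.inl rfl, by simp⟩
  · exact ⟨⟨-a, h⟩, -1, Or.inr rfl, by simp⟩

theorem inner_irr_pair {G : Type u} [Group G] [Fintype G] (c d : IrrCharacter G) :
    classInner (c : G → ℂ) (d : G → ℂ) = if c = d then 1 else 0 := by
  split_ifs with hcd
  · rw [hcd, classInner_irr_self d.2]
  · exact classInner_irr_ne c.2 d.2 fun hc => hcd (Subtype.ext hc)

variable {G : Type u} [Group G] [Fintype G] {p e : ℕ} {y g : G} {H : Subgroup G}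
  (h : Hyp p e y g H) [NeZero e] {ζ : ℂ}
include h

theorem value_of_inner (hζ : IsPrimitiveRoot ζ e) {η : ZMod e} (c : IrrCharacter G) (d : ℂ)
    (hd : ∀ j, j ≠ 0 → classInner (c : G → ℂ) (th ζ g j) = if j = η then d else 0)
    (hη : η ≠ 0) {k : ZMod e} (hk : k ≠ 0) :
    (c : G → ℂ) (pw g k) = -d * pw ζ (η * k) := by
  obtain ⟨m, hm, hcf, -⟩ := cf_nat hζ (pow_e h) c
  have hmj : ∀ j, (m j : ℂ) = m 0 - if j = η then d else 0 := by
    intro j
    by_cases hj : j = 0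
    · rw [hj, if_neg fun hc => hη hc.symm, sub_zero]
    · have := hd j hj
      rw [classInner_th hζ (isClassFunction_of_isCharacter (isCharacter_of_isIrrCharacter c.2)),
        hcf, hcf] at this
      rw [← this]; ring
  rw [hm, sum_congr rfl fun a _ => by rw [hmj a, sub_mul, ite_mul, zero_mul], sum_sub_distrib,
    ← mul_sum, sum_ite_eq', if_pos (mem_univ _)]
  have hsum : ∑ a : ZMod e, pw ζ (a * k) = 0 := by
    have := sum_pw hζ (-k)
    rw [if_neg (neg_ne_zero.2 hk)] at this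
    rw [← this]
    refine Fintype.sum_congr _ _ fun a => ?_
    rw [mul_neg, neg_neg]
  rw [hsum, mul_zero, zero_sub, neg_mul]

theorem exists_even_chars (hζ : IsPrimitiveRoot ζ e) (hev : Even e) :
    ∃ χ A B εA εB Ψ, EvenChars p g ζ ((e / 2 : ℕ) : ZMod e) χ A B εA εB Ψ := by
  set η : ZMod e := ((e / 2 : ℕ) : ZMod e) with hηdef
  obtain ⟨hη0, hηη, hηu⟩ := half_spec (e := e) hev
  obtain ⟨u, hD, -⟩ := exists_dih_even h hev
  obtain ⟨χ, hχ1, hχu, hχg, hχcf⟩ := exists_chi h hζ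
  have hg := pow_e h
  have hneg : ∀ {j : ZMod e}, j ≠ 0 → j ≠ η → j ≠ -j := fun {j} hj hjη hc => by
    rcases hηu j (by nth_rewrite 2 [hc]; rw [add_neg_cancel]) with h1 | h1
    · exact hj h1
    · exact hjη h1
  have hnη : η = -η := eq_neg_of_add_eq_zero_left hηη
  have hex : ∀ j : ZMod e, j ≠ 0 ∧ j ≠ η → ∃ ψ : IrrCharacter G, (ψ : G → ℂ) =
      (fun _ : G => (1 : ℂ)) + (χ : G → ℂ) - th ζ g j ∧ (ψ : G → ℂ) 1 = p + 1 ∧
      ∀ k : ZMod e, k ≠ 0 → (ψ : G → ℂ) (pw g k) = pw ζ (j * k) + pw ζ (-(j * k)) := fun j hj => by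
    obtain ⟨ψ, h1, h2, h3⟩ := exists_psi h hχ1 hχcf hζ hD hj.1 (hneg hj.1 hj.2)
    exact ⟨ψ, h1, h2, fun k hk => h3 k hk (hχg k hk)⟩
  choose ψ hψ hψ1 hψg using hex
  let Ψ : ZMod e → IrrCharacter G := fun j => if hj : j ≠ 0 ∧ j ≠ η then ψ j hj else χ
  have hΨdef : ∀ j (h0 : j ≠ 0) (h1 : j ≠ η), Ψ j = ψ j ⟨h0, h1⟩ := fun j h0 h1 => dif_pos ⟨h0, h1⟩
  have hth : ∀ j, j ≠ 0 → j ≠ η →
      th ζ g j = (fun _ : G => (1 : ℂ)) + (χ : G → ℂ) - (Ψ j : G → ℂ) := fun j h0 h1 => by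
    rw [hΨdef j h0 h1, hψ j ⟨h0, h1⟩]; abel
  obtain ⟨hgen, hn⟩ := rest_spec h hχ1 hχcf hζ hD hη0
  rw [if_pos hnη] at hn
  obtain ⟨a, b, ha, hb, hab, hsum⟩ := si_sum_of_norm_two hgen hn
  obtain ⟨A, εA, hεA, rfl⟩ := exists_scaled ha
  obtain ⟨B, εB, hεB, rfl⟩ := exists_scaled hb
  have hne0A : (εA : ℂ) ≠ 0 := by rcases hεA with h1 | h1 <;> simp [h1]
  have hne0B : (εB : ℂ) ≠ 0 := by rcases hεB with h1 | h1 <;> simp [h1]
  have hAB : A ≠ B := fun hc => by
    rw [hc, classInner_smul_left, classInner_smul_right, classInner_irr_self B.2] at hab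
    simp only [map_intCast, mul_one, mul_eq_zero] at hab
    exact hab.elim hne0A hne0B
  have hχne : χ ≠ oneChar G := fun hc => by
    rw [hc] at hχ1
    exact h.prime.ne_one (by exact_mod_cast (show ((p : ℕ) : ℂ) = 1 from hχ1.symm))
  have hth0 : ∀ c : IrrCharacter G, classInner (c : G → ℂ) (th ζ g η) =
      (if c = oneChar G then 1 else 0) + (if c = χ then 1 else 0) +
        (εA : ℂ) * (if c = A then 1 else 0) + (εB : ℂ) * (if c = B then 1 else 0) := by
    intro c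
    have e0 : th ζ g η = ((oneChar G : IrrCharacter G) : G → ℂ) + (χ : G → ℂ) +
        ((εA : ℂ) • (A : G → ℂ)) + ((εB : ℂ) • (B : G → ℂ)) := by
      rw [add_assoc, ← hsum]
      show th ζ g η = (fun _ : G => (1 : ℂ)) + (χ : G → ℂ) + _
      abel
    rw [e0, classInner_add_right, classInner_add_right, classInner_add_right, classInner_smul_right,
      classInner_smul_right, inner_irr_pair, inner_irr_pair, inner_irr_pair, inner_irr_pair,
      map_intCast, map_intCast]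
  have hpair : ∀ c : IrrCharacter G, (εA : ℂ) * (if c = A then 1 else 0) +
      (εB : ℂ) * (if c = B then 1 else 0) = 0 → c ≠ A ∧ c ≠ B := by
    intro c hc
    constructor
    · rintro rfl
      rw [if_pos rfl, if_neg hAB, mul_one, mul_zero, add_zero] at hc
      exact hne0A hc
    · rintro rfl
      rw [if_pos rfl, if_neg hAB.symm, mul_one, mul_zero, zero_add] at hc
      exact hne0B hc
  have hg1 : IsClassFunction G ((oneChar G : IrrCharacter G) : G → ℂ) :=
    isClassFunction_of_isCharacter (isCharacter_of_isIrrCharacter (oneChar G).2)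
  have hcf1 : ∀ i : ZMod e, cf ζ g ((oneChar G : IrrCharacter G) : G → ℂ) i = if i = 0 then 1 else 0 := by
    intro i
    have : ∀ k : ZMod e, pw ζ (-(i * k)) * (1 : ℂ) = pw ζ (-(i * k)) * pw ζ (0 * k) := fun k => by
      rw [zero_mul, pw_zero]
    show cf ζ g (fun _ : G => (1 : ℂ)) i = _
    rw [cf, sum_congr rfl fun k _ => this k, sum_pw_mul hζ, mul_ite, mul_zero,
      inv_mul_cancel₀ (Nat.cast_ne_zero.2 (NeZero.ne e))]
  have h1A : oneChar G ≠ A ∧ oneChar G ≠ B := by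
    refine hpair _ ?_
    have h1 := hth0 (oneChar G)
    rw [classInner_th hζ hg1, hcf1, hcf1, if_pos rfl, if_neg hη0, if_pos rfl, if_neg hχne.symm] at h1
    linear_combination -h1
  have hχA : χ ≠ A ∧ χ ≠ B := by
    refine hpair _ ?_
    have h1 := hth0 χ
    rw [classInner_th hζ (isClassFunction_of_isCharacter (isCharacter_of_isIrrCharacter χ.2)),
      hχcf, hχcf, if_pos rfl, if_neg hη0, if_neg hχne, if_pos rfl] at h1
    linear_combination -h1
  have hne : ∀ j, j ≠ 0 → j ≠ η → Ψ j ≠ oneChar G ∧ Ψ j ≠ χ ∧ Ψ j ≠ A ∧ Ψ j ≠ B := by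
    intro j h0 h1
    have hd1 : (Ψ j : G → ℂ) 1 = p + 1 := by rw [hΨdef j h0 h1]; exact hψ1 j ⟨h0, h1⟩
    have hn1 : Ψ j ≠ oneChar G := fun hc => by
      rw [hc] at hd1
      have : ((p : ℕ) : ℂ) = 0 := by
        have h2 : (1 : ℂ) = p + 1 := hd1
        linear_combination -h2
      exact h.prime.ne_zero (Nat.cast_eq_zero.1 this)
    have hn2 : Ψ j ≠ χ := fun hc => by
      rw [hc, hχ1] at hd1
      exact one_ne_zero (show (1 : ℂ) = 0 by linear_combination -hd1)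
    refine ⟨hn1, hn2, hpair _ ?_⟩
    have h2 := hth0 (Ψ j)
    rw [if_neg hn1, if_neg hn2, zero_add, zero_add] at h2
    rw [← h2, hΨdef j h0 h1, hψ j ⟨h0, h1⟩, classInner_sub_left, classInner_add_left,
      classInner_th hζ (fun _ _ => rfl),
      classInner_th hζ (isClassFunction_of_isCharacter (isCharacter_of_isIrrCharacter χ.2)),
      classInner_th_th hζ hg h.ord_g hD hη0 h0, hχcf, hχcf, show ∀ i : ZMod e, cf ζ g (fun _ : G => (1 : ℂ)) i = if i = 0 then 1 else 0 from hcf1, show ∀ i : ZMod e, cf ζ g (fun _ : G => (1 : ℂ)) i = if i = 0 then 1 else 0 from hcf1, 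
      if_pos rfl, if_neg hη0, if_neg (Ne.symm h1), if_neg (fun hc : η = -j => h1 (by
        rw [← neg_neg j, ← hc, ← hnη]))]
    ring
  refine ⟨χ, A, B, εA, εB, Ψ, hχ1, hχu, hχg, ⟨h1A.1.symm, hχA.1.symm⟩, ⟨h1A.2.symm, hχA.2.symm⟩,
    hAB, hεA, hεB, fun k hk => ?_, fun k hk => ?_, ?_, ?_, ?_, hne, ?_⟩
  · refine value_of_inner h hζ A _ (fun j hj => ?_) hη0 hk
    split_ifs with hjη
    · subst hjη
      rw [hth0, if_neg h1A.1.symm, if_neg hχA.1.symm, if_pos rfl, if_neg hAB]; ring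
    · obtain ⟨-, -, h3, -⟩ := hne j hj hjη
      rw [hth j hj hjη, classInner_sub_right, classInner_add_right]
      show classInner (A : G → ℂ) ((oneChar G : IrrCharacter G) : G → ℂ) + _ - _ = _
      rw [inner_irr_pair, inner_irr_pair, inner_irr_pair, if_neg h1A.1.symm, if_neg hχA.1.symm,
        if_neg (Ne.symm h3)]
      ring
  · refine value_of_inner h hζ B _ (fun j hj => ?_) hη0 hk
    split_ifs with hjη
    · subst hjη
      rw [hth0, if_neg h1A.2.symm, if_neg hχA.2.symm, if_neg hAB.symm, if_pos rfl]; ring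
    · obtain ⟨-, -, -, h4⟩ := hne j hj hjη
      rw [hth j hj hjη, classInner_sub_right, classInner_add_right]
      show classInner (B : G → ℂ) ((oneChar G : IrrCharacter G) : G → ℂ) + _ - _ = _
      rw [inner_irr_pair, inner_irr_pair, inner_irr_pair, if_neg h1A.2.symm, if_neg hχA.2.symm,
        if_neg (Ne.symm h4)]
      ring
  · intro j h0 h1; rw [hΨdef j h0 h1]; exact hψ1 j ⟨h0, h1⟩
  · intro j h0 h1 k hk; rw [hΨdef j h0 h1]; exact hψg j ⟨h0, h1⟩ k hk
  · intro i j hi hiη hj hjη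
    constructor
    · intro hc
      by_contra hno
      push Not at hno
      have h1 : th ζ g j = th ζ g i := by rw [hth j hj hjη, hth i hi hiη, hc]
      have h2 := classInner_th_th hζ hg h.ord_g hD hi hj
      rw [h1, classInner_th_th hζ hg h.ord_g hD hi hi, if_pos rfl, if_neg (hneg hi hiη),
        if_neg hno.1, if_neg hno.2] at h2
      norm_num at h2
    · rintro (rfl | rfl)
      · rfl
      · refine Subtype.ext ?_
        rw [hΨdef _ hi hiη, hΨdef _ hj hjη, hψ _ ⟨hi, hiη⟩, hψ _ ⟨hj, hjη⟩]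
        congr 1
        funext w
        by_cases hw : ∀ x : G, ∀ k : ZMod e, k ≠ 0 → x⁻¹ * w * x ≠ pw g k
        · rw [th_eq_zero _ hw, th_eq_zero _ hw]
        · push Not at hw
          obtain ⟨x, k, -, hx⟩ := hw
          rw [show w = x * pw g k * x⁻¹ by rw [← hx]; group, th_class, th_class,
            th_pw hζ hg h.ord_g hD, th_pw hζ hg h.ord_g hD, neg_mul, neg_neg]
          ring
  · intro c h1 h2 h3 h4 h5 k hk
    rw [value_of_inner h hζ (η := η) c 0 (fun j hj => ?_) hη0 hk, neg_zero, zero_mul]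
    rw [ite_self]
    by_cases hjη : j = η
    · rw [hjη, hth0, if_neg h1, if_neg h2, if_neg h3, if_neg h4]; ring
    · rw [hth j hj hjη, classInner_sub_right, classInner_add_right]
      show classInner (c : G → ℂ) ((oneChar G : IrrCharacter G) : G → ℂ) + _ - _ = _
      rw [inner_irr_pair, inner_irr_pair, inner_irr_pair, if_neg h1, if_neg h2, if_neg (h5 j hj hjη)]
      ring

end Cfsg.Agent.UniqueDegree26
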