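import Mathlib

/-!
# `2`-groups with a fused self-centralising four-group

If the centralisers of the members of a set `W` of involutions of the nonabelian `2`-group `S` have
at most `4` elements, a subgroup of index `2` missing a given member of `W` misses all of `W` for
some choice of that subgroup; otherwise `S` would have exponent `2`.
-/

set_option autoImplicit false

open Subgroup
open scoped commutatorElement

namespace Cfsg.Agent.UniqueDegree26

universe u

variable {S : Type u} [Group S] [Finite S]

/-- A nilpotent group generated by a subgroup and its derived group is that subgroup. -/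
theorem top_of_sup_derived [Group.IsNilpotent S] (K : Subgroup S) (h : K ⊔ commutator S = ⊤) :
    K = ⊤ := by
  by_contra hne
  obtain ⟨M, hM, hKM⟩ := (eq_top_or_exists_le_coatom K).resolve_left hne
  have hMn : M.Normal :=
    Subgroup.NormalizerCondition.normal_of_coatom M Group.normalizerCondition_of_isNilpotent hM
  have : Nontrivial (S ⧸ M) := QuotientGroup.nontrivial_iff.2 hM.1
  have : IsSimpleGroup (S ⧸ M) := by
    refine ⟨fun X _ => ?_⟩
    have hle : M ≤ X.comap (QuotientGroup.mk' M) := fun x hx => by
      rw [mem_comap, QuotientGroup.mk'_apply, (QuotientGroup.eq_one_iff x).2 hx]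
      exact X.one_mem
    rcases hM.le_iff.1 hle with h | h
    · refine Or.inr ?_
      rw [← map_comap_eq_self_of_surjective (QuotientGroup.mk'_surjective M) X, h,
        map_top_of_surjective _ (QuotientGroup.mk'_surjective M)]
    · refine Or.inl ?_
      rw [← map_comap_eq_self_of_surjective (QuotientGroup.mk'_surjective M) X, h,
        QuotientGroup.map_mk'_self]
  have hle : commutator S ≤ M := by
    rw [commutator_def, commutator_le]
    intro a _ b _
    rw [← QuotientGroup.eq_one_iff]
    show QuotientGroup.mk' M ⁅a, b⁆ = 1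
    rw [map_commutatorElement, commutatorElement_eq_one_iff_mul_comm]
    exact IsSimpleGroup.comm_iff_isSolvable.2 inferInstance _ _
  exact hM.1 (top_le_iff.1 (h ▸ sup_le hKM hle))

/-- Transfer-closed sets of involutions with centralisers of order `≤ 4` force exponent `2`. -/
theorem false_of_small_centralizers (hS : IsPGroup 2 S) (W : Set S) {z : S} (hz : z ∈ W)
    (hsq : ∀ w ∈ W, w * w = 1) (hclosed : ∀ w ∈ W, ∀ x, IsConj w x → x ∈ W)
    (hC : ∀ w ∈ W, Nat.card (centralizer ({w} : Set S)) ≤ 4) (hnab : ∃ a b : S, a * b ≠ b * a)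
    (hM : ∀ M : Subgroup S, M.index = 2 → z ∉ M → ∃ w ∈ W, w ∈ M) : False := by
  classical
  obtain ⟨a₀, b₀, hab⟩ := hnab
  have := hS.isNilpotent
  set D := commutator S with hD
  have hgen : ∀ K : Subgroup S, K ⊔ D = ⊤ → ∀ c : S, K ≤ zpowers c → False := by
    intro K hK c hKc
    have htop := top_le_iff.1 ((top_of_sup_derived K hK).ge.trans hKc)
    obtain ⟨i, hi⟩ := (htop ▸ mem_top a₀ : a₀ ∈ zpowers c)
    obtain ⟨j, hj⟩ := (htop ▸ mem_top b₀ : b₀ ∈ zpowers c)
    exact hab (by rw [← show c ^ i = a₀ from hi, ← show c ^ j = b₀ from hj, zpow_mul_comm])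
  let q := QuotientGroup.mk' D
  have hq : ∀ {x : S}, q x = 1 ↔ x ∈ D := fun {x} => QuotientGroup.eq_one_iff x
  -- the classes of the members of `W`
  have hKcard : ∀ w ∈ W, Nat.card S ≤ 4 * Nat.card {x : S // IsConj w x} := by
    intro w hw
    have h1 : Nat.card {x : S // IsConj w x} = (centralizer ({w} : Set S)).index := by
      have hs : MulAction.orbit (ConjAct S) w = {x : S | IsConj w x} := by
        ext x; rw [ConjAct.mem_orbit_conjAct]; exact isConj_comm
      calc Nat.card {x : S // IsConj w x}
          = (MulAction.orbit (ConjAct S) w).ncard := by rw [hs]; rfl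
        _ = (MulAction.stabilizer (ConjAct S) w).index := (MulAction.index_stabilizer _ _).symm
        _ = _ := by rw [ConjAct.stabilizer_eq_centralizer]; rfl
    rw [h1, ← card_mul_index (centralizer ({w} : Set S))]
    exact Nat.mul_le_mul_right _ (hC w hw)
  let f : ∀ w : S, {x : S // IsConj w x} → D := fun w x => ⟨w⁻¹ * x.1, by
    obtain ⟨c, hc⟩ := isConj_iff.1 x.2
    rw [← hc, show w⁻¹ * (c * w * c⁻¹) = ⁅w⁻¹, c⁆ by rw [commutatorElement_def, inv_inv]; group, hD,
      commutator_def]
    exact commutator_mem_commutator (mem_top _) (mem_top _)⟩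
  have finj : ∀ w, Function.Injective (f w) := fun w x x' h => Subtype.ext
    (mul_left_cancel (congrArg Subtype.val h))
  have hDle : 4 * Nat.card D ≤ Nat.card S := by
    rw [← card_mul_index D, mul_comm 4]
    refine Nat.mul_le_mul_left _ ?_
    obtain ⟨k, hk⟩ := hS.index D
    rcases Nat.lt_or_ge k 2 with hlt | hge
    · exfalso
      interval_cases k
      · exact hgen ⊥ (by rw [bot_sup_eq]; exact index_eq_one.1 hk) 1 bot_le
      · obtain ⟨c, hc⟩ : ∃ c, c ∉ D := by
          by_contra hno
          push Not at hno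
          rw [(eq_top_iff' D).2 hno, index_top] at hk
          norm_num at hk
        refine hgen (zpowers c) ?_ c le_rfl
        by_contra hne
        have hlt : D < zpowers c ⊔ D := lt_of_le_of_ne le_sup_right fun h =>
          hc (h ▸ mem_sup_left (mem_zpowers c))
        have h1 : (zpowers c ⊔ D).index < D.index := index_strictAnti hlt
        have h2 : (zpowers c ⊔ D).index ≠ 1 := fun h => hne (index_eq_one.1 h)
        have h3 : 0 < (zpowers c ⊔ D).index := Nat.pos_of_ne_zero FiniteIndex.index_ne_zero
        omega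
    · rw [hk]; exact (le_trans (by norm_num) (Nat.pow_le_pow_right two_pos hge))
  have hsurj : ∀ w ∈ W, ∀ d ∈ D, IsConj w (w * d) := by
    intro w hw d hd
    have hle := Nat.card_le_card_of_injective _ (finj w)
    have hb := (Nat.bijective_iff_injective_and_card (f w)).2 ⟨finj w, by
      have := hKcard w hw
      omega⟩
    obtain ⟨x, hx⟩ := hb.2 ⟨d, hd⟩
    rw [← show w⁻¹ * x.1 = d from congrArg Subtype.val hx, mul_inv_cancel_left]
    exact x.2
  have hWD : ∀ w ∈ W, w ∉ D := by
    intro w hw hwD
    have h1 := hsurj w hw w⁻¹ (inv_mem hwD)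
    rw [mul_inv_cancel, isConj_one_left] at h1
    have h2 := hC w hw
    rw [h1, show centralizer ({1} : Set S) = ⊤ from
      eq_top_iff.2 fun x _ => mem_centralizer_singleton_iff.2 (by simp), card_top] at h2
    obtain ⟨k, hk⟩ := IsPGroup.iff_card.1 hS
    have hk2 : k ≤ 2 := (Nat.pow_le_pow_iff_right (by norm_num : 1 < 2)).1 (by rw [← hk]; exact h2)
    have hcomm : IsMulCommutative S := by
      interval_cases k
      · have : Subsingleton S := (Nat.card_eq_one_iff_unique.1 (by simpa using hk)).1
        exact ⟨⟨fun a b => Subsingleton.elim _ _⟩⟩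
      · haveI : Fact (Nat.Prime 2) := ⟨Nat.prime_two⟩
        have : IsCyclic S := isCyclic_of_prime_card (p := 2) (by simpa using hk)
        exact ⟨⟨IsCyclic.commGroup.mul_comm⟩⟩
      · haveI : Fact (Nat.Prime 2) := ⟨Nat.prime_two⟩
        exact ⟨⟨fun a b => IsPGroup.commutative_of_card_eq_prime_sq (p := 2) hk a b⟩⟩
    exact hab (hcomm.is_comm.comm a₀ b₀)
  have hcard4 : D.index = 4 := by
    have h1 := card_mul_index D
    have h2 := hKcard z hz
    have h3 := Nat.card_le_card_of_injective _ (finj z)
    have h4 : 0 < Nat.card D := Nat.card_pos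
    refine Nat.eq_of_mul_eq_mul_left h4 ?_
    omega
  have hQsq : ∀ b : S ⧸ D, b * b = 1 := by
    intro b
    obtain ⟨c, rfl⟩ := QuotientGroup.mk'_surjective D b
    by_contra hne
    refine hgen (zpowers c) ?_ c le_rfl
    have hord : orderOf (q c) = 4 := by
      have h1 : orderOf (q c) ∣ 2 ^ 2 := by
        rw [show (2 : ℕ) ^ 2 = Nat.card (S ⧸ D) by rw [← index_eq_card, hcard4]; norm_num]
        exact orderOf_dvd_natCard _
      obtain ⟨k, hk, hk'⟩ := (Nat.dvd_prime_pow Nat.prime_two).1 h1
      have : ¬ k ≤ 1 := fun hk1 => hne (by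
        have h5 : orderOf (q c) ∣ 2 := hk' ▸ (pow_dvd_pow 2 hk1).trans (by rw [pow_one])
        have h6 := orderOf_dvd_iff_pow_eq_one.1 h5
        rwa [pow_two] at h6)
      rw [hk', show k = 2 by omega]
      norm_num
    have hz' : zpowers (q c) = ⊤ := by
      refine eq_top_of_card_eq _ ?_
      rw [Nat.card_zpowers, hord, ← index_eq_card, hcard4]
    rw [eq_top_iff]
    intro x _
    obtain ⟨i, (hi : q c ^ i = q x)⟩ := (hz' ▸ mem_top (q x) : q x ∈ zpowers (q c))
    have hd : (c ^ i)⁻¹ * x ∈ D := hq.1 (by rw [map_mul, map_inv, map_zpow, hi, inv_mul_cancel])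
    rw [← mul_inv_cancel_left (c ^ i) x]
    exact mul_mem (mem_sup_left (zpow_mem (mem_zpowers c) i)) (mem_sup_right hd)
  have hout : ∀ b, b ∉ D → b * b = 1 := by
    intro b hb
    have hfin : ∀ w ∈ W, q w = q b → b * b = 1 := fun w hw hwb => by
      have hd : w⁻¹ * b ∈ D := hq.1 (by rw [map_mul, map_inv, hwb, inv_mul_cancel])
      have h1 := hclosed w hw _ (hsurj w hw _ hd)
      rw [mul_inv_cancel_left] at h1
      exact hsq b h1
    by_cases hbz : q z = q b
    · exact hfin z hz hbz
    let M := (zpowers (q b)).comap q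
    have hqb : q b ≠ 1 := fun h => hb (hq.1 h)
    have hord : orderOf (q b) = 2 :=
      orderOf_eq_prime (p := 2) (by rw [pow_two]; exact hQsq _) hqb
    have hzp : ∀ x, q x ∈ zpowers (q b) → q x = 1 ∨ q x = q b := by
      intro x hx
      obtain ⟨i, (hi : q b ^ i = q x)⟩ := hx
      rcases Int.even_or_odd i with ⟨j, rfl⟩ | ⟨j, rfl⟩
      · exact Or.inl (by rw [← hi, show j + j = 2 * j by ring]; simp only [zpow_mul, zpow_ofNat, pow_two, hQsq, one_zpow])
      · exact Or.inr (by rw [← hi, zpow_add_one]; simp only [zpow_mul, zpow_ofNat, pow_two, hQsq, one_zpow, one_mul])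
    have hMi : M.index = 2 := by
      rw [index_comap_of_surjective _ (QuotientGroup.mk'_surjective D)]
      have h1 := card_mul_index (zpowers (q b))
      rw [Nat.card_zpowers, hord, ← index_eq_card, hcard4] at h1
      omega
    obtain ⟨w, hw, hwM⟩ := hM M hMi fun hzM => by
      rcases hzp z hzM with h | h
      · exact hWD z hz (hq.1 h)
      · exact hbz h
    rcases hzp w hwM with h | h
    · exact absurd (hq.1 h) (hWD w hw)
    · exact hfin w hw h
  obtain ⟨a, ha, haz⟩ : ∃ a, a ∉ D ∧ a * z ∉ D := by
    by_contra hno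
    push Not at hno
    have h2 : D.index ≤ 2 := by
      rw [index_eq_card]
      refine (Nat.card_le_card_of_surjective (fun i : Fin 2 => if i = 0 then 1 else q z) ?_).trans
        (by simp)
      intro x
      obtain ⟨c, rfl⟩ := QuotientGroup.mk'_surjective D x
      by_cases hc : c ∈ D
      · exact ⟨0, (hq.2 hc).symm⟩
      · refine ⟨1, ?_⟩
        have h1 : q c * q z = 1 := (map_mul q c z).symm.trans (hq.2 (hno c hc))
        show q z = q c
        calc q z = q c * q c * q z := by rw [hQsq, one_mul]
          _ = q c := by rw [mul_assoc, h1, mul_one]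
    omega
  have hall : ∀ x : S, x * x = 1 := by
    intro x
    by_cases hx : x ∈ D
    · have hz2 := hsq z hz
      have e1 : z * x * (z * x) = 1 := hout _ fun h => hWD z hz (by simpa using mul_mem h (inv_mem hx))
      have e2 : a * x * (a * x) = 1 := hout _ fun h => ha (by simpa using mul_mem h (inv_mem hx))
      have e3 : a * z * x * (a * z * x) = 1 :=
        hout _ fun h => haz (by simpa using mul_mem h (inv_mem hx))
      have e4 : a * z * (a * z) = 1 := hout _ haz
      have ea : a * a = 1 := hout _ ha
      have i1 : z * x * z = x⁻¹ := eq_inv_of_mul_eq_one_left (by rw [← e1]; group)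
      have i2 : a * x * a = x⁻¹ := eq_inv_of_mul_eq_one_left (by rw [← e2]; group)
      have i3 : a * z * x * (a * z) = x⁻¹ := eq_inv_of_mul_eq_one_left (by rw [← e3]; group)
      have hza : a * z = z * a := by
        calc a * z = (a * z)⁻¹ := eq_inv_of_mul_eq_one_left e4
          _ = z * a := by rw [mul_inv_rev, inv_eq_of_mul_eq_one_right hz2, inv_eq_of_mul_eq_one_right ea]
      have key : x⁻¹ = x := by
        calc x⁻¹ = a * z * x * (z * a) := by rw [← hza]; exact i3.symm
          _ = a * (z * x * z) * a := by group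
          _ = a * x⁻¹ * a := by rw [i1]
          _ = (a * x * a)⁻¹ := by rw [mul_inv_rev, mul_inv_rev, inv_eq_of_mul_eq_one_right ea]; group
          _ = x := by rw [i2, inv_inv]
      nth_rewrite 1 [← key]
      exact inv_mul_cancel x
    · exact hout x hx
  exact hab (by
    have e1 := hall (a₀ * b₀)
    calc a₀ * b₀ = (a₀ * b₀)⁻¹ := eq_inv_of_mul_eq_one_left e1
      _ = b₀ * a₀ := by rw [mul_inv_rev, inv_eq_of_mul_eq_one_right (hall a₀),
          inv_eq_of_mul_eq_one_right (hall b₀)])

end Cfsg.Agent.UniqueDegree26
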