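import Cfsg.Agent.Lib.UniqueDegree26Norm
import Cfsg.Agent.Lib.UniqueDegree26Two
import Cfsg.Agent.Lib.TransferThompson
import Cfsg.Agent.S0215

/-!
# The even case: involutions

`z = g ^ (e / 2)` has centraliser `N = N (⟨g⟩)`, a Sylow `2`-subgroup of `N` is one of `G`, all
involutions are conjugate to `z`, and an involution of `N` outside `⟨g⟩` inverts `g`.
-/

set_option autoImplicit false

namespace Cfsg.Agent.UniqueDegree26

open Cfsg Subgroup

universe u

variable {G : Type u} [Group G] [Fintype G] {p e : ℕ} {y g : G} {H : Subgroup G}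
  (h : Hyp p e y g H)
include h

local notation "E" => (zpowers g : Subgroup G)
local notation "N" => (normalizer ((zpowers g : Subgroup G) : Set G))

theorem comm_trivial {A : Type*} [CommGroup A] (f : G →* A) : f = 1 := by
  by_contra hf
  have h1 : f.ker ≠ ⊥ := by
    intro hb
    have hinj : Function.Injective f := (MonoidHom.ker_eq_bot_iff f).1 hb
    have hgc : g ∈ centralizer ({y} : Set G) :=
      mem_centralizer_singleton_iff.2 (hinj (by rw [map_mul, map_mul, mul_comm]))
    rw [h.cent_y] at hgc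
    have h2 : orderOf g ∣ p := h.ord_y ▸ orderOf_dvd_of_mem_zpowers hgc
    rw [h.ord_g] at h2
    have h4 := h.e_two
    haveI : NeZero e := ⟨by omega⟩
    have h3 := e_lt h
    rcases h.prime.eq_one_or_self_of_dvd _ h2 with h5 | h5 <;> omega
  exact hf ((MonoidHom.ker_eq_top_iff (f := f)).1 (h.simple _ inferInstance h1))

theorem no_index_two (M : Subgroup G) [M.Normal] : M.index ≠ 2 := by
  intro hM
  by_cases hb : M = ⊥
  · rw [hb, index_bot] at hM
    have h1 := Nat.le_of_dvd (by omega) (dvd_card h)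
    rw [hM] at h1
    have h2 := h.prime.two_le
    have h3 := Nat.le_of_dvd (by omega) h.e_dvd
    have h4 := h.e_two
    omega
  · rw [h.simple M inferInstance hb, index_top] at hM
    omega

variable (hev : Even e)
include hev

theorem ord_invol : orderOf (g ^ (e / 2)) = 2 := by
  obtain ⟨k, rfl⟩ := hev
  have := h.e_two
  rw [show (k + k) / 2 = k by omega, orderOf_pow_of_dvd (by omega) (by rw [h.ord_g]; exact ⟨2, by ring⟩),
    h.ord_g, show k + k = 2 * k by ring, Nat.mul_div_cancel _ (by omega)]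

theorem invol_unique {x : G} (hx : x ∈ E) (hxo : orderOf x = 2) : x = g ^ (e / 2) := by
  obtain ⟨i, (hi : g ^ i = x)⟩ := (isOfFinOrder_of_finite g).mem_powers_iff_mem_zpowers.2 hx
  obtain ⟨k, hk⟩ := hev
  have h1 : e ∣ i * 2 := by
    rw [← h.ord_g]
    exact orderOf_dvd_of_pow_eq_one (by rw [pow_mul, hi, ← hxo, pow_orderOf_eq_one])
  obtain ⟨c, hc⟩ : k ∣ i := by
    rw [hk, show k + k = k * 2 by ring] at h1
    exact Nat.dvd_of_mul_dvd_mul_right two_pos h1
  rw [show e / 2 = k by omega, ← hi, hc, pow_mul]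
  have hz : orderOf (g ^ k) = 2 := by
    have := ord_invol h ⟨k, hk⟩
    rwa [show e / 2 = k by omega] at this
  rcases Nat.even_or_odd c with ⟨d, rfl⟩ | ⟨d, rfl⟩
  · exfalso
    have : x = 1 := by
      rw [← hi, hc, pow_mul, show d + d = 2 * d by ring, pow_mul, ← hz, pow_orderOf_eq_one, one_pow]
    rw [this, orderOf_one] at hxo
    omega
  · rw [pow_succ, pow_mul, ← hz, pow_orderOf_eq_one, one_pow, one_mul]

theorem invol_ne_one : g ^ (e / 2) ≠ 1 := fun hc => by
  have := ord_invol h hev
  rw [hc, orderOf_one] at this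
  omega

theorem cent_invol : centralizer ({g ^ (e / 2)} : Set G) = N := by
  ext a
  constructor
  · intro ha
    refine norm_of_conj h (npow_mem_zpowers g (e / 2)) (invol_ne_one h hev) ?_
    rw [mem_centralizer_singleton_iff.1 ha, mul_inv_cancel_right]
    exact npow_mem_zpowers _ _
  · intro ha
    have h1 : a * g ^ (e / 2) * a⁻¹ = g ^ (e / 2) := by
      refine invol_unique h hev (((mem_normalizer_iff.1 ha) _).1 (npow_mem_zpowers _ _)) ?_
      rw [← MulAut.conj_apply, MulEquiv.orderOf_eq, ord_invol h hev]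
    exact mem_centralizer_singleton_iff.2 (mul_inv_eq_iff_eq_mul.1 h1)

/-- A `2`-subgroup of `N` normalised by a Sylow `2`-subgroup of `N` lies in it. -/
theorem exists_sylow_N (K : Subgroup G) (hK : IsPGroup 2 K) (hKN : K ≤ N) :
    ∃ R : Subgroup G, K ≤ R ∧ R ≤ N ∧ IsPGroup 2 R ∧
      Nat.card R = 2 ^ ((2 * e).factorization 2) ∧
      ∀ L : Subgroup G, L ≤ E → IsPGroup 2 L → L ≤ R := by
  haveI : Fact (Nat.Prime 2) := ⟨Nat.prime_two⟩
  obtain ⟨R, hR⟩ := (hK.comap_of_injective (N).subtype (N).subtype_injective).exists_le_sylow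
  refine ⟨(R : Subgroup N).map (N).subtype, fun x hx => ⟨⟨x, hKN hx⟩, hR hx, rfl⟩, map_subtype_le _,
    R.isPGroup'.map _, ?_, ?_⟩
  · rw [card_map_of_injective (N).subtype_injective, R.card_eq_multiplicity, h.card_NE]
  · intro L hL hLp
    have hLN : L ≤ N := hL.trans le_normalizer
    have hnormL : ∀ x ∈ N, ∀ a ∈ L, x * a * x⁻¹ ∈ L := by
      intro x hx a ha
      obtain ⟨r, hr, -⟩ := exists_power h hx
      obtain ⟨i, (hi : g ^ i = a)⟩ := hL ha
      rw [← hi, ← conj_zpow, hr, ← zpow_mul, mul_comm, zpow_mul, hi]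
      exact zpow_mem ha r
    haveI : (L.comap (N).subtype).Normal := ⟨fun a ha x => by
      simpa [mem_subgroupOf] using hnormL x x.2 a (mem_comap.1 ha)⟩
    have h1 := (hLp.comap_of_injective (N).subtype (N).subtype_injective).to_sup_of_normal_left
      R.isPGroup'
    have h2 := R.is_maximal' h1 le_sup_right
    intro x hx
    refine ⟨⟨x, hLN hx⟩, ?_, rfl⟩
    rw [← h2]
    exact mem_sup_left (mem_comap.2 hx)

/-- A square in `N` lies in `E`. -/
theorem sq_mem_E {x : G} (hx : x ∈ N) : x * x ∈ E := (mul_mem_iff_norm h hx hx).2 Iff.rfl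

/-- A Sylow `2`-subgroup of `N` is a Sylow `2`-subgroup of `G`. -/
theorem two_part : (Nat.card G).factorization 2 = (2 * e).factorization 2 := by
  classical
  haveI : Fact (Nat.Prime 2) := ⟨Nat.prime_two⟩
  set z := g ^ (e / 2) with hzdef
  obtain ⟨R, -, hRN, hRp, hRc, hRE⟩ := exists_sylow_N h hev ⊥ IsPGroup.of_bot bot_le
  obtain ⟨S, hS⟩ := hRp.exists_le_sylow
  have hzR : z ∈ R := by
    refine hRE (zpowers z) (zpowers_le.2 (npow_mem_zpowers _ _)) ?_ (mem_zpowers z)
    exact IsPGroup.iff_card.2 ⟨1, by rw [Nat.card_zpowers, ord_invol h hev, pow_one]⟩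
  have hmax : (S : Subgroup G) ⊓ N = R := by
    refine (eq_of_le_of_card_ge (le_inf hS hRN) ?_).symm
    obtain ⟨w, hw⟩ := IsPGroup.iff_card.1 (S.isPGroup'.to_le (inf_le_left : (S : Subgroup G) ⊓ N ≤ S))
    have h2 : 2 ^ w ∣ 2 * e := by
      rw [← hw, ← h.card_NE]; exact card_dvd_of_le inf_le_right
    have := e_pos h
    rw [hw, hRc]
    exact Nat.pow_le_pow_right two_pos ((Nat.prime_two.pow_dvd_iff_le_factorization (by omega)).1 h2)
  suffices hSR : (S : Subgroup G) = R by
    refine Nat.pow_right_injective (le_refl 2) ?_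
    show 2 ^ (Nat.card G).factorization 2 = 2 ^ (2 * e).factorization 2
    rw [← S.card_eq_multiplicity, hSR, hRc]
  by_contra hne
  have hSN : ¬ (S : Subgroup G) ≤ N := fun hc => hne (by rw [← hmax, inf_eq_left.2 hc])
  set v := e.factorization 2 with hv
  have hv1 : 1 ≤ v := Nat.prime_two.factorization_pos_of_dvd (e_pos h).ne' (even_iff_two_dvd.1 hev)
  have hfac : (2 * e).factorization 2 = v + 1 := by
    rw [Nat.factorization_mul (by norm_num) (e_pos h).ne', Finsupp.add_apply,
      Nat.Prime.factorization_self Nat.prime_two]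
    omega
  rcases Nat.lt_or_ge v 2 with hv2 | hv2
  · -- four elements
    rw [hfac, show v = 1 by omega] at hRc
    let zS : (S : Subgroup G) := ⟨z, hS hzR⟩
    refine false_of_small_centralizers S.isPGroup' {w | IsConj z (w : G)} (z := zS) (IsConj.refl z)
      ?_ ?_ ?_ ?_ ?_
    · intro w hw
      refine Subtype.ext ?_
      have : orderOf (w : G) = 2 := by
        obtain ⟨c, hc⟩ := isConj_iff.1 (show IsConj z (w : G) from hw)
        rw [← hc, ← MulAut.conj_apply, MulEquiv.orderOf_eq, ord_invol h hev]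
      rw [coe_mul, ← pow_two, coe_one]
      exact orderOf_dvd_iff_pow_eq_one.1 this.dvd
    · intro w hw x hx
      exact (show IsConj z (w : G) from hw).trans (MonoidHom.map_isConj (S : Subgroup G).subtype hx)
    · intro w hw
      obtain ⟨c, hc⟩ := isConj_iff.1 (show IsConj z (w : G) from hw)
      let F : centralizer ({w} : Set (S : Subgroup G)) →* N :=
        ((MulAut.conj c⁻¹).toMonoidHom.comp ((S : Subgroup G).subtype.comp (Subgroup.subtype _))).codRestrict _
          fun a => by
            rw [← cent_invol h hev, mem_centralizer_singleton_iff]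
            have ha : ((a : (S : Subgroup G)) : G) * w = w * ((a : (S : Subgroup G)) : G) :=
              congrArg Subtype.val (mem_centralizer_singleton_iff.1 a.2)
            show c⁻¹ * _ * c⁻¹⁻¹ * z = z * (c⁻¹ * _ * c⁻¹⁻¹)
            rw [show z = c⁻¹ * (w : G) * c by rw [← hc]; group]
            simp only [MonoidHom.coe_comp, Function.comp_apply, subtype_apply]
            calc _ = c⁻¹ * (((a : (S : Subgroup G)) : G) * w) * c := by group
              _ = c⁻¹ * ((w : G) * ((a : (S : Subgroup G)) : G)) * c := by rw [ha]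
              _ = _ := by group
      have hinj : Function.Injective F := fun a b hab => Subtype.ext (Subtype.ext (by
        have := congrArg Subtype.val hab
        simpa [F] using this))
      have h1 := card_dvd_of_injective F hinj
      rw [h.card_NE] at h1
      obtain ⟨k, hk⟩ := IsPGroup.iff_card.1 (S.isPGroup'.to_subgroup (centralizer ({w} : Set (S : Subgroup G))))
      rw [hk] at h1 ⊢
      have := (Nat.prime_two.pow_dvd_iff_le_factorization (by have := e_pos h; omega)).1 h1
      rw [hfac] at this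
      calc 2 ^ k ≤ 2 ^ 2 := Nat.pow_le_pow_right two_pos (by omega)
        _ = 4 := by norm_num
    · by_contra hno
      push Not at hno
      refine hSN fun a ha => ?_
      rw [← cent_invol h hev]
      exact mem_centralizer_singleton_iff.2 (congrArg Subtype.val (hno ⟨a, ha⟩ zS))
    · intro M hM hzM
      by_contra hno
      push Not at hno
      have hrel : (M.map (S : Subgroup G).subtype).relIndex (S : Subgroup G) = 2 := by
        rw [relIndex, subgroupOf, comap_map_eq_self_of_injective (subtype_injective _), hM]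
      obtain ⟨K, hK, hK2, -⟩ := TransferThompson.thompson_transfer S (M.map (S : Subgroup G).subtype)
        (map_subtype_le _) hrel (ord_invol h hev) (hS hzR) (fun c hc => by
          obtain ⟨w, hw, hwe⟩ := hc
          exact hno w (isConj_iff.2 ⟨c, hwe.symm⟩) hw)
      exact no_index_two h K hK2
  · -- `z` is a square in `R`
    haveI := S.isPGroup'.isNilpotent
    have hlt : R.subgroupOf (S : Subgroup G) < ⊤ :=
      lt_top_iff_ne_top.2 fun hc => hne (le_antisymm (subgroupOf_eq_top.1 hc) hS)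
    obtain ⟨x, hx, hx'⟩ := SetLike.exists_of_lt (Group.normalizerCondition_of_isNilpotent _ hlt)
    refine hx' ?_
    rw [mem_subgroupOf, ← hmax]
    refine ⟨x.2, ?_⟩
    show (x : G) ∈ N
    rw [← cent_invol h hev, mem_centralizer_singleton_iff, ← mul_inv_eq_iff_eq_mul]
    set i := g ^ (e / 4) with hi
    have h4 : 4 ∣ e := (pow_dvd_pow 2 hv2).trans (Nat.ordProj_dvd e 2)
    obtain ⟨k, hk⟩ := h4
    have hi2 : i * i = z := by
      rw [hi, hzdef, ← pow_add]
      congr 1
      omega
    have hiR : i ∈ R := by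
      refine hRE (zpowers i) (zpowers_le.2 (npow_mem_zpowers _ _)) (IsPGroup.iff_card.2 ⟨2, ?_⟩)
        (mem_zpowers i)
      have := e_pos h
      rw [Nat.card_zpowers, hi, show e / 4 = k by omega, orderOf_pow_of_dvd (by omega)
        (by rw [h.ord_g]; exact ⟨4, by rw [hk]; ring⟩), h.ord_g, hk, Nat.mul_div_cancel _ (by omega)]
      norm_num
    rw [mem_normalizer_iff] at hx
    have hxi : (x : G) * i * (x : G)⁻¹ ∈ R := by
      simpa [mem_subgroupOf] using (hx ⟨i, hS hiR⟩).1 (by simpa [mem_subgroupOf] using hiR)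
    refine invol_unique h hev ?_ ?_
    · rw [← hzdef, ← hi2, show (x : G) * (i * i) * (x : G)⁻¹ =
        (x : G) * i * (x : G)⁻¹ * ((x : G) * i * (x : G)⁻¹) by group]
      exact sq_mem_E h hev (hRN hxi)
    · rw [← MulAut.conj_apply, MulEquiv.orderOf_eq, ord_invol h hev]

/-- A `2`-subgroup of `N` lies in a Sylow `2`-subgroup of `G` contained in `N`. -/
theorem exists_sylow_two (K : Subgroup G) (hK : IsPGroup 2 K) (hKN : K ≤ N) :
    ∃ S : Sylow 2 G, K ≤ (S : Subgroup G) ∧ (S : Subgroup G) ≤ N ∧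
      ∀ L : Subgroup G, L ≤ E → IsPGroup 2 L → L ≤ (S : Subgroup G) := by
  haveI : Fact (Nat.Prime 2) := ⟨Nat.prime_two⟩
  obtain ⟨R, hKR, hRN, -, hRc, hRE⟩ := exists_sylow_N h hev K hK hKN
  refine ⟨Sylow.ofCard R (by rw [hRc, two_part h hev]), ?_⟩
  rw [Sylow.coe_ofCard]
  exact ⟨hKR, hRN, hRE⟩

theorem exists_invol_outside : ∃ u ∈ N, u ∉ E ∧ u * u = 1 := by
  classical
  haveI : Fact (Nat.Prime 2) := ⟨Nat.prime_two⟩
  by_contra hno
  push Not at hno
  set z := g ^ (e / 2) with hzdef
  have hzo := ord_invol h hev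
  obtain ⟨S, hzS, hSN, -⟩ := exists_sylow_two h hev (zpowers z)
    (IsPGroup.iff_card.2 ⟨1, by rw [Nat.card_zpowers, hzo, pow_one]⟩)
    ((zpowers_le.2 (npow_mem_zpowers g (e / 2))).trans le_normalizer)
  obtain ⟨K, hK, hodd, hKc⟩ := S0215.result S z hzo (hzS (mem_zpowers z)) fun c hc => by
    have ho : orderOf (c * z * c⁻¹) = 2 := by rw [← MulAut.conj_apply, MulEquiv.orderOf_eq, hzo]
    refine invol_unique h hev ?_ ho
    by_contra hc'
    exact hno _ (hSN hc) hc' (by rw [← pow_two, ← ho, pow_orderOf_eq_one])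
  by_cases hb : K = ⊥
  · have hzc : z ∈ center G := mem_center_iff.2 fun a => by
      have := hKc a
      rw [hb, mem_bot, mul_inv_eq_one, mul_inv_eq_iff_eq_mul] at this
      exact this.symm
    rw [center_bot h, mem_bot] at hzc
    exact invol_ne_one h hev hzc
  · rw [h.simple K hK hb, card_top] at hodd
    have h2 : 2 ∣ Nat.card G := hzo ▸ orderOf_dvd_natCard z
    exact Nat.not_even_iff_odd.2 hodd (even_iff_two_dvd.2 h2)

/-- Every involution is conjugate to `g ^ (e / 2)`. -/
theorem invol_conj {x : G} (hx : orderOf x = 2) : IsConj (g ^ (e / 2)) x := by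
  classical
  haveI : Fact (Nat.Prime 2) := ⟨Nat.prime_two⟩
  set z := g ^ (e / 2) with hzdef
  have hpg : ∀ w : G, orderOf w = 2 → IsPGroup 2 (zpowers w) := fun w hw =>
    IsPGroup.iff_card.2 ⟨1, by rw [Nat.card_zpowers, hw, pow_one]⟩
  have hN : ∀ w ∈ N, orderOf w = 2 → IsConj z w := by
    intro w hwN hwo
    by_cases hwE : w ∈ E
    · rw [invol_unique h hev hwE hwo]
    obtain ⟨S, hwS, hSN, -⟩ := exists_sylow_two h hev (zpowers w) (hpg w hwo) (zpowers_le.2 hwN)
    by_contra hno
    have hrel : ((S : Subgroup G) ⊓ E).relIndex (S : Subgroup G) = 2 := by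
      rw [relIndex]
      refine index_eq_two_iff.2 ⟨⟨w, hwS (mem_zpowers w)⟩, fun b => ?_⟩
      have hiff := mul_mem_iff_norm h (hSN b.2) hwN
      simp only [mem_subgroupOf, mem_inf, coe_mul, b.2, mul_mem b.2 (hwS (mem_zpowers w)), true_and]
      rw [hiff]
      by_cases hbE : (b : G) ∈ E <;> simp [hbE, hwE, Xor']
    obtain ⟨K, hK, hK2, -⟩ := TransferThompson.thompson_transfer S ((S : Subgroup G) ⊓ E) inf_le_left
      hrel hwo (hwS (mem_zpowers w)) fun c hc => by
        have h1 := invol_unique h hev hc.2 (by rw [← MulAut.conj_apply, MulEquiv.orderOf_eq, hwo])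
        exact hno (isConj_iff.2 ⟨c, h1⟩).symm
    exact no_index_two h K hK2
  obtain ⟨S, -, hSN, -⟩ := exists_sylow_two h hev ⊥ IsPGroup.of_bot bot_le
  obtain ⟨Q, hQ⟩ := (hpg x hx).exists_le_sylow
  obtain ⟨c, hc⟩ := MulAction.exists_smul_eq G Q S
  have hmem : c * x * c⁻¹ ∈ (S : Subgroup G) := by
    rw [← hc, Sylow.coe_subgroup_smul]
    exact ⟨x, hQ (mem_zpowers x), rfl⟩
  exact (hN _ (hSN hmem) (by rw [← MulAut.conj_apply, MulEquiv.orderOf_eq, hx])).trans
    (isConj_iff.2 ⟨c, rfl⟩).symm

end Cfsg.Agent.UniqueDegree26
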