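import Cfsg.Agent.Lib.UniqueDegree26EvenChars
import Cfsg.Agent.Lib.UniqueDegree26Count
import Cfsg.Agent.Lib.PSLSimple
import Cfsg.Agent.Lib.PSLCard
import Cfsg.Agent.S0494

/-!
# The case `e = 2`

The class algebra constant at `(y, g)` forces `p = 5` and then the group has order `60`.
-/

set_option autoImplicit false

open Finset
open scoped ComplexConjugate

namespace Cfsg.Agent.UniqueDegree26

open Cfsg Cfsg.Agent.CharBasic Cfsg.Agent.PFixedLattice26 Cfsg.Agent.BlockPrincipal81
open Cfsg.Agent.DefectOneShape7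

attribute [local instance] Classical.propDecidable

universe u

variable {G : Type u} [Group G] [Fintype G] {p : ℕ} {y g : G} {H : Subgroup G}
  (h : Hyp p 2 y g H)
include h

theorem p_eq_five : p = 5 := by
  haveI := Fact.mk h.prime
  have hev : Even 2 := even_two
  obtain ⟨ζ, hζ⟩ : ∃ z : ℂ, IsPrimitiveRoot z 2 :=
    ⟨_, Complex.isPrimitiveRoot_exp 2 two_ne_zero⟩
  obtain ⟨χ, A, B, εA, εB, Ψ, hc⟩ := exists_even_chars h hζ hev
  obtain ⟨hη0, -, hηu⟩ := half_spec (e := 2) hev
  have hg1 : pw g ((2 / 2 : ℕ) : ZMod 2) = g := by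
    rw [show ((2 / 2 : ℕ) : ZMod 2) = 1 from by decide]; exact pw_one (pow_e h)
  have hrest : ∀ c : IrrCharacter G, c ≠ oneChar G → c ≠ χ → c ≠ A → c ≠ B → (c : G → ℂ) g = 0 := by
    intro c h1 h2 h3 h4
    have h5 := hc.rest c h1 h2 h3 h4 (fun j j0 j1 => ((hηu j (by revert j; decide)).elim j0 j1).elim)
      _ hη0
    rwa [hg1] at h5
  obtain ⟨s, hs⟩ := h.sign_even hev
  have hp5 : 5 ≤ p := by
    have h1 := Nat.mul_div_cancel' h.e_dvd
    rw [hs] at h1
    have h2 := h.prime.two_le
    have h3 := e_lt h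
    by_contra hc5
    omega
  have hmod : p % 4 = 1 := by
    have h1 := Nat.mul_div_cancel' h.e_dvd
    rw [hs] at h1
    omega
  obtain ⟨M, hM⟩ := SchurBound79.exists_modular p h.prime
  obtain ⟨P, hP⟩ := exists_sylow h
  haveI : Fintype ↥(P : Subgroup G) := Fintype.ofFinite _
  haveI : Fintype (↥(P : Subgroup G) →* ℂˣ) := Fintype.ofFinite _
  have hcardP : Nat.card P = p := by
    show Nat.card (P : Subgroup G) = p
    rw [hP, Nat.card_zpowers, h.ord_y]
  obtain ⟨X, Y, a, ε, d, δ, ζ', hS⟩ := exists_shape hM hcardP 2 (by rw [hP]; exact relIndex_eq h)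
  have hgreg : ¬ p ∣ orderOf g := by
    rw [h.ord_g]
    exact Nat.not_dvd_of_pos_of_lt two_pos (e_lt h)
  by_cases hv : ∃ η ∈ Y, (η : G → ℂ) g ≠ 0
  · obtain ⟨η, hη, hηg⟩ := hv
    have hsub : Y ⊆ {A, B} := by
      intro c hcY
      have hne : (c : G → ℂ) g ≠ 0 := by rw [hS.agree c hcY η hη g hgreg]; exact hηg
      have h1 : c ≠ oneChar G := fun hc1 => disjoint_left.1 hS.disj hS.one_mem (hc1 ▸ hcY)
      have h2 : c ≠ χ := fun hc2 => by
        have h3 := hS.congrY c hcY
        have h4 : charDegree (c : G → ℂ) = p := Nat.cast_injective (R := ℂ) (by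
          rw [← CharAverage.irr_apply_one, hc2, hc.deg])
        rw [h4, Int.modEq_iff_dvd] at h3
        have h5 : (p : ℤ) ∣ ((2 : ℕ) : ℤ) := by
          obtain ⟨q, hq⟩ := h3
          rcases hS.sign with h6 | h6 <;> rw [h6] at hq
          · exact ⟨q + 1, by push_cast at hq ⊢; linear_combination hq⟩
          · exact ⟨-q - 1, by push_cast at hq ⊢; linear_combination -hq⟩
        have := Nat.le_of_dvd two_pos (Int.natCast_dvd_natCast.1 h5)
        omega
      by_contra hno
      simp only [mem_insert, mem_singleton, not_or] at hno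
      exact hne (hrest c h1 h2 hno.1 hno.2)
    have h7 := (card_le_card hsub).trans card_le_two
    have h8 := hS.cardY
    omega
  push Not at hv
  obtain ⟨χ', hX⟩ : ∃ χ', X.erase (oneChar G) = {χ'} := by
    refine card_eq_one.1 ?_
    rw [card_erase_of_mem hS.one_mem, hS.cardX]
  have hχ'X : χ' ∈ X := mem_of_mem_erase (s := X) (a := oneChar G) (by rw [hX]; exact mem_singleton_self _)
  have hχ'1 : χ' ≠ oneChar G := ne_of_mem_erase (s := X) (by rw [hX]; exact mem_singleton_self _)
  have hval : (χ' : G → ℂ) g = -(a χ' : ℂ) := by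
    obtain ⟨η, hη⟩ : Y.Nonempty := card_pos.1 (Nat.pos_of_ne_zero fun hc0 => by
      have := hS.cardY; rw [hc0] at this; omega)
    have h1 := hS.regular η hη g hgreg
    rw [hv η hη, mul_zero, ← add_sum_erase _ _ hS.one_mem, hX, sum_singleton, hS.a_one] at h1
    have h2 : (a χ' : ℂ) * (a χ' : ℂ) = 1 := by rcases hS.signX χ' hχ'X with h3 | h3 <;> simp [h3]
    have h4 : ((oneChar G : IrrCharacter G) : G → ℂ) g = 1 := rfl
    rw [h4] at h1
    push_cast at h1
    linear_combination (-(a χ' : ℂ)) * h1 - (χ' : G → ℂ) g * h2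
  -- the conjugates of `g` whose product with `y` is an involution
  have hgo : orderOf g = 2 := h.ord_g
  have hg2 : g * g = 1 := by rw [← pow_two, ← hgo, pow_orderOf_eq_one]
  have hgy : g * y * g⁻¹ = y⁻¹ := by
    obtain ⟨r, (hr : y ^ r = g * y * g⁻¹)⟩ := g_norm_y h
    have h2 : y ^ (r * r) = y := by
      rw [zpow_mul, hr, conj_zpow, hr, inv_eq_of_mul_eq_one_right hg2,
        show g * (g * y * g) * g = g * g * y * (g * g) by group, hg2, one_mul, mul_one]
    have h3 : (p : ℤ) ∣ (r - 1) * (r + 1) := by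
      rw [← h.ord_y]
      refine orderOf_dvd_iff_zpow_eq_one.2 ?_
      rw [show (r - 1) * (r + 1) = r * r - 1 by ring, zpow_sub, h2, zpow_one, mul_inv_cancel]
    rcases (Nat.prime_iff_prime_int.1 h.prime).dvd_or_dvd h3 with ⟨q, hq⟩ | ⟨q, hq⟩
    · exfalso
      rw [show r = (p : ℤ) * q + 1 by linear_combination hq, zpow_add, zpow_mul, zpow_natCast,
        ← h.ord_y, pow_orderOf_eq_one, one_zpow, one_mul, zpow_one] at hr
      have hgc : g ∈ Subgroup.centralizer ({y} : Set G) :=
        Subgroup.mem_centralizer_singleton_iff.2 (mul_inv_eq_iff_eq_mul.1 hr.symm)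
      rw [h.cent_y] at hgc
      have h5 : orderOf g ∣ p := h.ord_y ▸ orderOf_dvd_of_mem_zpowers hgc
      rw [hgo] at h5
      have := (Nat.prime_dvd_prime_iff_eq Nat.prime_two h.prime).1 h5
      omega
    · rw [← hr, show r = (p : ℤ) * q + (-1) by linear_combination hq, zpow_add, zpow_mul,
        zpow_natCast, ← h.ord_y, pow_orderOf_eq_one, one_zpow, one_mul, zpow_neg_one]
  have hTinvol : ∀ i : ℕ, orderOf (y ^ i * g) = 2 := fun i => by
    refine orderOf_eq_prime (p := 2) ?_ fun hc1 => ?_
    · rw [pow_two, show y ^ i * g * (y ^ i * g) = y ^ i * (g * y ^ i * g⁻¹) * (g * g) by group, hg2,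
        mul_one, ← conj_pow, hgy, inv_pow, mul_inv_cancel]
    · have h1 : g ∈ Subgroup.zpowers y := by
        rw [show g = (y ^ i)⁻¹ from eq_inv_of_mul_eq_one_right hc1]
        exact inv_mem (Subgroup.npow_mem_zpowers y i)
      have h5 := orderOf_dvd_of_mem_zpowers h1
      rw [hgo, h.ord_y] at h5
      have := (Nat.prime_dvd_prime_iff_eq Nat.prime_two h.prime).1 h5
      omega
  have hzz : g ^ (2 / 2) = g := pow_one g
  have hordconj : ∀ {w : G}, IsConj g w → orderOf w = 2 := fun {w} hw => by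
    obtain ⟨c, rfl⟩ := isConj_iff.1 hw
    rw [← MulAut.conj_apply, MulEquiv.orderOf_eq, hgo]
  have hR := sum_involution_pair y g ((range p).image fun i => y ^ i * g) (fun t ht => by
    obtain ⟨i, -, rfl⟩ := mem_image.1 ht
    have hh := invol_conj h hev (hTinvol i)
    rwa [hzz] at hh) (fun w hw => by
    have hwo := hordconj hw
    have hw2 : w * w = 1 := by rw [← pow_two, ← hwo, pow_orderOf_eq_one]
    constructor
    · intro hyw
      have h1 : y * w * (y * w) = 1 := by rw [← pow_two, ← hordconj hyw, pow_orderOf_eq_one]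
      have h3 : w * y * w⁻¹ = y⁻¹ := by
        rw [inv_eq_of_mul_eq_one_right hw2]
        exact eq_inv_of_mul_eq_one_right (by rw [← h1]; group)
      set NP := Subgroup.normalizer ((Subgroup.zpowers y : Subgroup G) : Set G)
      have hwN : w ∈ NP := by
        rw [Subgroup.mem_normalizer_iff]
        intro b
        constructor
        · rintro ⟨i, rfl⟩
          rw [← conj_zpow, h3]
          exact zpow_mem (inv_mem (Subgroup.mem_zpowers y)) i
        · rintro ⟨i, (hi : y ^ i = w * b * w⁻¹)⟩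
          refine ⟨-i, ?_⟩
          show y ^ (-i) = b
          rw [show b = w⁻¹ * y ^ i * w by rw [hi]; group, zpow_neg, ← inv_zpow, ← h3, conj_zpow,
            inv_eq_of_mul_eq_one_right hw2]
      have hgN : g ∈ NP := by
        simp only [NP, h.norm_y]; exact Subgroup.mem_sup_right (Subgroup.mem_zpowers g)
      have hidx : ((Subgroup.zpowers y).subgroupOf NP).index = 2 := by
        have h6 := Subgroup.card_mul_index ((Subgroup.zpowers y).subgroupOf NP)
        rw [Nat.card_congr (Subgroup.subgroupOfEquivOfLe Subgroup.le_normalizer).toEquiv,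
          Nat.card_zpowers, h.ord_y, h.card_norm] at h6
        exact Nat.eq_of_mul_eq_mul_left h.prime.pos h6
      have hnot : ∀ v : G, orderOf v = 2 → v ∉ Subgroup.zpowers y := fun v hv hvy => by
        have h5 := orderOf_dvd_of_mem_zpowers hvy
        rw [hv, h.ord_y] at h5
        have := (Nat.prime_dvd_prime_iff_eq Nat.prime_two h.prime).1 h5
        omega
      have hmem : w * g ∈ Subgroup.zpowers y := by
        have h7 := Subgroup.mul_mem_iff_of_index_two hidx (a := (⟨w, hwN⟩ : NP)) (b := ⟨g, hgN⟩)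
        simp only [Subgroup.mem_subgroupOf, Subgroup.coe_mul] at h7
        exact h7.2 (iff_of_false (hnot w hwo) (hnot g hgo))
      obtain ⟨i, (hi : y ^ i = w * g)⟩ := (isOfFinOrder_of_finite y).mem_powers_iff_mem_zpowers.2 hmem
      refine mem_image.2 ⟨i % p, mem_range.2 (Nat.mod_lt _ h.prime.pos), ?_⟩
      rw [← h.ord_y, pow_mod_orderOf, hi, mul_assoc, hg2, mul_one]
    · intro hwT
      obtain ⟨i, -, rfl⟩ := mem_image.1 hwT
      rw [← mul_assoc, ← pow_succ']
      have hh := invol_conj h hev (hTinvol (i + 1))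
      rwa [hzz] at hh)
  rw [card_image_of_injOn, card_range, show Nat.card (Subgroup.centralizer ({g} : Set G)) = 4 by
    rw [← hzz, cent_invol h hev, h.card_NE]] at hR
  swap
  · intro i hi j hj hij
    exact pow_injOn_Iio_orderOf (by rw [h.ord_y]; exact mem_range.1 hi)
      (by rw [h.ord_y]; exact mem_range.1 hj) (mul_right_cancel hij)
  have hyord : p ∣ orderOf y := h.ord_y ▸ dvd_rfl
  rw [← sum_subset (subset_univ X) (fun c _ hcX => by
    by_cases hd : p ∣ charDegree (c : G → ℂ)
    · simp [vanish_psing h hd hyord]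
    · rcases (hS.block c).1 (mem_principal h hM hd) with h1 | h1
      · exact absurd h1 hcX
      · simp [hv c h1])] at hR
  have hXy : ∀ c ∈ X, (c : G → ℂ) y = (a c : ℂ) := fun c hcX => by
    have h1 := hS.valX c hcX y (hP ▸ Subgroup.mem_zpowers y) (fun hy1 => by
      have := h.ord_y
      rw [hy1, orderOf_one] at this
      exact h.prime.ne_one this.symm) 1 (one_mem _) (by rw [orderOf_one, Nat.dvd_one]; exact h.prime.ne_one)
    rwa [mul_one] at h1
  rw [← add_sum_erase _ _ hS.one_mem, hX, sum_singleton, hXy χ' hχ'X, hval,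
    CharAverage.irr_apply_one χ'] at hR
  set d' := charDegree (χ' : G → ℂ) with hd'
  have hb := degree_bound h hχ'1
  rw [← hd'] at hb
  obtain ⟨k, hk1, hcardG⟩ := exists_sylow_number h
  have hint : ((k : ℤ) * p + 1) * ((d' : ℤ) + a χ') = 8 * d' := by
    apply Int.cast_injective (α := ℂ)
    have hdC : (d' : ℂ) ≠ 0 := Nat.cast_ne_zero.2 (by omega)
    have hpC : (p : ℂ) ≠ 0 := Nat.cast_ne_zero.2 h.prime.ne_zero
    have h4 : ∀ w : G, ((oneChar G : IrrCharacter G) : G → ℂ) w = 1 := fun w => rfl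
    rw [h4, h4, h4, hcardG] at hR
    have h2 : (a χ' : ℂ) * (a χ' : ℂ) = 1 := by rcases hS.signX χ' hχ'X with h3 | h3 <;> simp [h3]
    simp only [map_neg, map_intCast, map_one] at hR
    push_cast at hR ⊢
    field_simp at hR
    linear_combination (1 / 2 : ℂ) * hR - ((k : ℂ) * p + 1) * (a χ' : ℂ) * h2
  by_contra hp
  have hp13 : 13 ≤ p := by
    by_contra hlt
    have h9 : p = 9 := by omega
    have := h.prime
    rw [h9] at this
    norm_num at this
  have hkZ : (1 : ℤ) ≤ k := by exact_mod_cast hk1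
  have hpZ : (13 : ℤ) ≤ p := by exact_mod_cast hp13
  have hbZ : (p : ℤ) ≤ 2 * d' + 1 := by exact_mod_cast hb
  have hlo : ((p : ℤ) + 1) * ((d' : ℤ) - 1) ≤ 8 * d' := by
    rw [← hint]
    refine mul_le_mul ?_ ?_ ?_ (by positivity)
    · nlinarith
    · rcases hS.signX χ' hχ'X with h3 | h3 <;> omega
    · omega
  nlinarith

theorem iso_five : Nonempty (G ≃* Matrix.ProjectiveSpecialLinearGroup (Fin 2) (ZMod 5)) := by
  haveI : Fact (Nat.Prime 5) := ⟨by norm_num⟩
  have hp := p_eq_five h
  subst hp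
  obtain ⟨k, hk1, hcardG⟩ := exists_sylow_number h
  have hd : Nat.card G ∣ 120 := by
    have hinj : Function.Injective (MulAction.toPermHom G (G ⧸ H)) := by
      rw [← MonoidHom.ker_eq_bot_iff, ← Subgroup.normalCore_eq_ker]
      by_contra hne
      have htop := h.simple _ (Subgroup.normalCore_normal H) hne
      have h1 : H = ⊤ := top_le_iff.1 (htop.ge.trans (Subgroup.normalCore_le H))
      have := h.index
      rw [h1, Subgroup.index_top] at this
      omega
    have h2 := Subgroup.card_dvd_of_injective _ hinj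
    rwa [Nat.card_perm, show Nat.card (G ⧸ H) = 5 from h.index, show Nat.factorial 5 = 120 from rfl] at h2
  have h60 : Nat.card G = 60 := by
    rw [hcardG] at hd ⊢
    have := Nat.le_of_dvd (by norm_num) hd
    have hk2 : k ≤ 2 := by omega
    interval_cases k
    · rfl
    · norm_num at hd
  haveI : Nontrivial G := Finite.one_lt_card_iff_nontrivial.1 (by omega)
  haveI : IsSimpleGroup G := ⟨fun K hK => (em (K = ⊥)).imp_right (h.simple K hK)⟩
  haveI : IsSimpleGroup (Matrix.ProjectiveSpecialLinearGroup (Fin 2) (ZMod 5)) :=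
    PSLSimple.isSimpleGroup_PSL_fin' le_rfl fun _ => by simp
  have hF : Nat.card (Matrix.ProjectiveSpecialLinearGroup (Fin 2) (ZMod 5)) = 60 := by
    have h1 := PSLCard.card_PSL2_mul (F := ZMod 5)
    rw [Nat.card_zmod] at h1
    rw [show Nat.gcd 2 (5 - 1) = 2 from rfl, show 5 * (5 ^ 2 - 1) = 120 from rfl] at h1
    omega
  obtain ⟨f⟩ := S0494.result h60
  obtain ⟨f'⟩ := S0494.result hF
  exact ⟨f.trans f'.symm⟩

end Cfsg.Agent.UniqueDegree26
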