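import Cfsg.Agent.Lib.UniqueDegree26Block

/-!
# The normaliser of the complement

`⟨g⟩` has index two in its normaliser, and an element outside it in the normaliser inverts the
Sylow subgroups of odd order, since otherwise Burnside's transfer gives a normal complement.
-/

set_option autoImplicit false

namespace Cfsg.Agent.UniqueDegree26

open Cfsg Subgroup

universe u

variable {G : Type u} [Group G] [Fintype G] {p e : ℕ} {y g : G} {H : Subgroup G}
  (h : Hyp p e y g H)
include h

local notation "E" => (zpowers g : Subgroup G)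
local notation "N" => (normalizer ((zpowers g : Subgroup G) : Set G))

theorem norm_of_conj {a x : G} (hx : x ∈ E) (hx1 : x ≠ 1) (hax : a * x * a⁻¹ ∈ E) : a ∈ N := by
  by_contra ha
  exact hx1 (h.ti a ha x hx hax)

theorem e_pos : 0 < e := by have := h.e_two; omega

theorem index_two : ((zpowers g).subgroupOf N).index = 2 := by
  have h1 := card_mul_index ((zpowers g).subgroupOf N)
  rw [Nat.card_congr (subgroupOfEquivOfLe le_normalizer).toEquiv, Nat.card_zpowers, h.ord_g,
    h.card_NE, mul_comm 2] at h1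
  exact Nat.eq_of_mul_eq_mul_left (e_pos h) h1

theorem mul_mem_iff_norm {a b : G} (ha : a ∈ N) (hb : b ∈ N) :
    a * b ∈ E ↔ (a ∈ E ↔ b ∈ E) := by
  have := mul_mem_iff_of_index_two (index_two h) (a := (⟨a, ha⟩ : N)) (b := ⟨b, hb⟩)
  simpa [mem_subgroupOf] using this

theorem exists_not_mem : ∃ u ∈ N, u ∉ E := by
  by_contra hc
  push Not at hc
  have h1 : Nat.card N ≤ Nat.card E := card_le_of_le hc
  rw [Nat.card_zpowers, h.ord_g, h.card_NE] at h1
  have := e_pos h
  omega

theorem dih_of_inv {u : G} (hu : u ∈ N) (hu' : u ∉ E) (hinv : u * g * u⁻¹ = g⁻¹) : Dih g u where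
  inv := hinv
  notMem := hu'
  ti := h.ti
  mem_norm x := by
    constructor
    · intro hx
      by_cases hxE : x ∈ E
      · exact Or.inl hxE
      · exact Or.inr ((mul_mem_iff_norm h (inv_mem hu) hx).2
          ⟨fun hc => absurd (inv_mem_iff.1 hc) hu', fun hc => absurd hc hxE⟩)
    · rintro (hx | hx)
      · exact le_normalizer hx
      · simpa using mul_mem hu (le_normalizer hx)

/-- Conjugation by an element of the normaliser is an involutive power map. -/
theorem exists_power {u : G} (hu : u ∈ N) :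
    ∃ r : ℤ, u * g * u⁻¹ = g ^ r ∧ (e : ℤ) ∣ (r - 1) * (r + 1) := by
  obtain ⟨r, hr⟩ := ((mem_normalizer_iff.1 hu) g).1 (mem_zpowers g)
  have hr' : u * g * u⁻¹ = g ^ r := hr.symm
  refine ⟨r, hr', ?_⟩
  obtain ⟨i, hi⟩ := (mul_mem_iff_norm h hu hu).2 Iff.rfl
  have hcomm : u * u * g * (u * u)⁻¹ = g := by
    rw [← show g ^ i = u * u from hi]
    exact mul_inv_eq_iff_eq_mul.2 ((Commute.refl g).zpow_left i).eq
  have h2 : g ^ (r * r) = g := by
    calc g ^ (r * r) = (u * g * u⁻¹) ^ r := by rw [hr', ← zpow_mul]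
      _ = u * g ^ r * u⁻¹ := conj_zpow
      _ = u * u * g * (u * u)⁻¹ := by rw [← hr']; group
      _ = g := hcomm
  rw [← h.ord_g]
  refine orderOf_dvd_iff_zpow_eq_one.2 ?_
  rw [show (r - 1) * (r + 1) = r * r - 1 by ring, zpow_sub, h2, zpow_one, mul_inv_cancel]

/-- An odd prime divisor of `e` does not divide `r - 1`. -/
theorem odd_prime_not_dvd {u : G} (hu : u ∈ N) (hu' : u ∉ E) {r : ℤ} (hr : u * g * u⁻¹ = g ^ r)
    (hre : (e : ℤ) ∣ (r - 1) * (r + 1)) {q : ℕ} (hq : q.Prime) (hq2 : q ≠ 2) (hqe : q ∣ e) :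
    ¬ (q : ℤ) ∣ r - 1 := by
  intro hd
  haveI := Fact.mk hq
  have hqZ : Prime (q : ℤ) := Nat.prime_iff_prime_int.1 hq
  have hnd : ¬ (q : ℤ) ∣ r + 1 := fun hd' => by
    have h2 : (q : ℤ) ∣ (2 : ℕ) := by
      have := dvd_sub hd' hd
      simpa [show r + 1 - (r - 1) = 2 by ring] using this
    have := Nat.le_of_dvd (by omega) (Int.natCast_dvd_natCast.1 h2)
    have := hq.two_le
    omega
  set v := e.factorization q with hv
  have he0 : e ≠ 0 := (e_pos h).ne'
  have hdv : q ^ v ∣ e := Nat.ordProj_dvd e q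
  have hdiv : ((q ^ v : ℕ) : ℤ) ∣ r - 1 := by
    refine IsCoprime.dvd_of_dvd_mul_right ?_ ((Int.natCast_dvd_natCast.2 hdv).trans hre)
    rw [Nat.cast_pow]
    exact ((hqZ.coprime_iff_not_dvd).2 hnd).pow_left
  set z := g ^ (e / q ^ v) with hz
  have hzo : orderOf z = q ^ v := by
    rw [hz, orderOf_pow_of_dvd (Nat.div_pos (Nat.le_of_dvd (e_pos h) hdv) (pow_pos hq.pos v)).ne'
      (by rw [h.ord_g]; exact Nat.div_dvd_of_dvd hdv), h.ord_g, Nat.div_div_self hdv he0]
  have hv1 : 1 ≤ v := hq.factorization_pos_of_dvd he0 hqe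
  have hz1 : z ≠ 1 := fun hc => by
    rw [hc, orderOf_one] at hzo
    exact absurd hzo.symm (Nat.one_lt_pow (by omega) hq.one_lt).ne'
  have hzE : z ∈ E := npow_mem_zpowers _ _
  have huz : u * z * u⁻¹ = z := by
    obtain ⟨c, hc⟩ := hdiv
    have h1 : u * z * u⁻¹ = z ^ r := by
      rw [hz, ← conj_pow, hr, ← zpow_natCast, ← zpow_mul, mul_comm, zpow_mul, zpow_natCast]
    rw [h1, show r = ((q ^ v : ℕ) : ℤ) * c + 1 by linear_combination hc, zpow_add, zpow_mul,
      zpow_natCast, ← hzo, pow_orderOf_eq_one, one_zpow, one_mul, zpow_one]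
  have hcent : ∀ x ∈ N, Commute x z := by
    have hE : ∀ x ∈ E, Commute x z := by
      rintro x ⟨i, rfl⟩
      exact ((Commute.refl g).zpow_left i).pow_right _
    intro x hx
    by_cases hxE : x ∈ E
    · exact hE x hxE
    · have h1 : u⁻¹ * x ∈ E := (mul_mem_iff_norm h (inv_mem hu) hx).2
        ⟨fun hc => absurd (inv_mem_iff.1 hc) hu', fun hc => absurd hc hxE⟩
      have := (Commute.mul_left (mul_inv_eq_iff_eq_mul.1 huz : Commute u z) (hE _ h1))
      simpa using this
  obtain ⟨S, hS⟩ : ∃ S : Sylow q G, zpowers z ≤ (S : Subgroup G) :=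
    (IsPGroup.iff_card.2 ⟨v, by rw [Nat.card_zpowers, hzo]⟩ : IsPGroup q (zpowers z)).exists_le_sylow
  have hzQ : z ∈ zpowers z := mem_zpowers z
  have hnorm : normalizer ((zpowers z : Subgroup G) : Set G) ≤ N := fun a ha =>
    norm_of_conj h hzE hz1 ((zpowers_le.2 hzE) (((mem_normalizer_iff.1 ha) z).1 hzQ))
  have hSN : (S : Subgroup G) ⊓ N = zpowers z := by
    refine (eq_of_le_of_card_ge (le_inf hS ((zpowers_le.2 hzE).trans le_normalizer)) ?_).symm
    obtain ⟨w, hw⟩ := IsPGroup.iff_card.1 (S.isPGroup'.to_le (inf_le_left : (S : Subgroup G) ⊓ N ≤ S))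
    have h2 : q ^ w ∣ 2 * e := by
      rw [← hw, ← h.card_NE]; exact card_dvd_of_le inf_le_right
    have h3 : q ^ w ∣ e := (Nat.Coprime.pow_left _
      ((Nat.coprime_primes hq Nat.prime_two).2 hq2)).dvd_of_dvd_mul_left h2
    rw [hw, Nat.card_zpowers, hzo]
    exact Nat.pow_le_pow_right hq.pos ((hq.pow_dvd_iff_le_factorization he0).1 h3)
  have hSeq : (S : Subgroup G) = zpowers z := by
    by_contra hne
    haveI := S.isPGroup'.isNilpotent
    have hlt : (zpowers z).subgroupOf (S : Subgroup G) < ⊤ := by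
      refine lt_top_iff_ne_top.2 fun hc => hne (le_antisymm (subgroupOf_eq_top.1 hc) hS)
    have h1 := Group.normalizerCondition_of_isNilpotent _ hlt
    obtain ⟨x, hx, hx'⟩ := SetLike.exists_of_lt h1
    refine hx' ?_
    rw [mem_subgroupOf, ← hSN]
    refine ⟨x.2, hnorm ?_⟩
    rw [mem_normalizer_iff] at hx ⊢
    intro a
    by_cases haS : a ∈ (S : Subgroup G)
    · simpa [mem_subgroupOf] using hx ⟨a, haS⟩
    · exact ⟨fun hc => absurd (hS hc) haS, fun hc => absurd (show a ∈ (S : Subgroup G) by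
        have := mul_mem (mul_mem (inv_mem x.2) (hS hc)) x.2
        simpa [mul_assoc] using this) haS⟩
  have hNC : normalizer ((S : Subgroup G) : Set G) ≤ centralizer ((S : Subgroup G) : Set G) := by
    rw [hSeq]
    intro a ha
    refine mem_centralizer_iff.2 ?_
    rintro b ⟨i, rfl⟩
    exact ((hcent a (hnorm ha)).zpow_right i).eq.symm
  have hcompl := MonoidHom.ker_transferSylow_isComplement' S hNC
  by_cases hK : (MonoidHom.transferSylow S hNC).ker = ⊥
  · have h1 := hcompl.card_mul_card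
    rw [hK, card_bot, one_mul, hSeq, Nat.card_zpowers, hzo] at h1
    have h2 := dvd_card h
    rw [← h1] at h2
    have := Nat.le_of_dvd (e_pos h) ((h.prime.dvd_of_dvd_pow h2).trans (dvd_trans (dvd_pow_self q (by omega : v ≠ 0)) hdv))
    have := Nat.le_of_dvd (by have := h.prime.two_le; omega) h.e_dvd
    have := h.prime.two_le
    omega
  · have h1 := hcompl.disjoint.eq_bot
    rw [h.simple _ inferInstance hK, top_inf_eq, hSeq, zpowers_eq_bot] at h1
    exact hz1 h1

/-- For odd `e` an element of the normaliser outside `⟨g⟩` inverts `g`. -/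
theorem exists_dih_odd (he : Odd e) : ∃ u, Dih g u := by
  obtain ⟨u, hu, hu'⟩ := exists_not_mem h
  obtain ⟨r, hr, hre⟩ := exists_power h hu
  refine ⟨u, dih_of_inv h hu hu' ?_⟩
  have hcop : IsCoprime (e : ℤ) (r - 1) := by
    rw [Int.isCoprime_iff_gcd_eq_one]
    by_contra hne
    obtain ⟨q, hq, hqd⟩ := Nat.exists_prime_and_dvd hne
    have h1 : q ∣ e := Int.natCast_dvd_natCast.1
      ((Int.natCast_dvd_natCast.2 hqd).trans (Int.gcd_dvd_left _ _))
    refine odd_prime_not_dvd h hu hu' hr hre hq ?_ h1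
      ((Int.natCast_dvd_natCast.2 hqd).trans (Int.gcd_dvd_right _ _))
    rintro rfl
    exact (Nat.not_even_iff_odd.2 he) (even_iff_two_dvd.2 h1)
  obtain ⟨c, hc⟩ := hcop.dvd_of_dvd_mul_left hre
  rw [hr, show r = (e : ℤ) * c + (-1) by linear_combination hc, zpow_add, zpow_mul, zpow_natCast,
    ← h.ord_g, pow_orderOf_eq_one, one_zpow, one_mul, zpow_neg_one]

end Cfsg.Agent.UniqueDegree26
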