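import Cfsg.Agent.Lib.UniqueDegree26Norm
import Cfsg.Agent.Lib.PFixedChars26

/-!
# The odd case

For odd `e` the principal block consists of `(e + 1) / 2` characters with value `1` on `y` (the
trivial one and those of degree `p + 1`), further ones with value `-1`, and exceptional characters
of degree at most `e`; thus `p = 2 e + 1` and the group is `PSL (2, p)`.
-/

set_option autoImplicit false

open Finset
open scoped ComplexConjugate

namespace Cfsg.Agent.UniqueDegree26

open Cfsg Cfsg.Agent.CharBasic Cfsg.Agent.PFixedLattice26 Cfsg.Agent.BlockPrincipal81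
open Cfsg.Agent.DefectOneShape7 Cfsg.Agent.PFixedChars26

attribute [local instance] Classical.propDecidable

universe u

variable {G : Type u} [Group G] [Fintype G] {p e : ℕ} {y g : G} {H : Subgroup G}
  (h : Hyp p e y g H)
include h

theorem local_norm : Local p e y g (Subgroup.normalizer ((Subgroup.zpowers y : Subgroup G) : Set G)) := by
  have hgN : g ∈ Subgroup.normalizer ((Subgroup.zpowers y : Subgroup G) : Set G) := by
    rw [h.norm_y]; exact Subgroup.mem_sup_right (Subgroup.mem_zpowers g)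
  have hpw : ∀ a ∈ Subgroup.zpowers y, ∃ j : ℕ, y ^ j = a := fun a ha =>
    (isOfFinOrder_of_finite y).mem_powers_iff_mem_zpowers.2 ha
  refine ⟨h.ord_y, by rw [← h.ord_g, pow_orderOf_eq_one], fun k => ?_, fun k => ?_, ?_,
    Subgroup.le_normalizer (Subgroup.mem_zpowers y), fun x hx => ?_⟩
  · obtain ⟨j, hj⟩ := hpw _ (((Subgroup.mem_normalizer_iff.1 (pow_mem hgN k)) y).1 (Subgroup.mem_zpowers y))
    exact ⟨j, by rw [hj, inv_mul_cancel_right]⟩
  · obtain ⟨j, hj⟩ := hpw _ (((Subgroup.mem_normalizer_iff.1 (inv_mem (pow_mem hgN k))) y).1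
      (Subgroup.mem_zpowers y))
    exact ⟨j, by rw [hj]; group⟩
  · rw [h.norm_y, sup_le_iff, Subgroup.zpowers_le, Subgroup.zpowers_le]
    exact ⟨Subgroup.subset_closure (by simp), Subgroup.subset_closure (by simp)⟩
  · -- an element of order `p` of the normaliser lies in `⟨y⟩`
    haveI := Fact.mk h.prime
    obtain ⟨P, hP⟩ := exists_sylow h
    have hord : orderOf (x⁻¹ * y * x) = p := by
      have := MulEquiv.orderOf_eq (MulAut.conj x⁻¹) y
      rw [MulAut.conj_apply, inv_inv, h.ord_y] at this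
      exact this
    have hmem : x⁻¹ * y * x ∈ Subgroup.zpowers y := by
      have hpg : IsPGroup p (Subgroup.zpowers (x⁻¹ * y * x)) :=
        IsPGroup.iff_card.2 ⟨1, by rw [Nat.card_zpowers, hord, pow_one]⟩
      have hle : Subgroup.zpowers (x⁻¹ * y * x) ≤
          Subgroup.normalizer ((P : Subgroup G) : Set G) := by rw [hP]; exact Subgroup.zpowers_le.2 hx
      have h1 := hpg.to_sup_of_normal_right' P.isPGroup' hle
      have h2 := P.is_maximal' h1 le_sup_right
      rw [← hP, ← h2]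
      exact Subgroup.mem_sup_left (Subgroup.mem_zpowers _)
    have hne : x⁻¹ * y * x ≠ 1 := fun hc => by
      rw [hc, orderOf_one] at hord; exact h.prime.ne_one hord.symm
    rw [← Subgroup.inv_mem_iff, Subgroup.mem_normalizer_iff]
    have heq := zpowers_eq h hmem hne
    intro a
    have hmap : ∀ b, x⁻¹ * b * x⁻¹⁻¹ ∈ Subgroup.zpowers y ↔ b ∈ Subgroup.zpowers y := by
      intro b
      constructor
      · intro hb
        rw [← heq] at hb
        obtain ⟨i, hi⟩ := hb
        refine ⟨i, ?_⟩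
        have hi' : (x⁻¹ * y * x⁻¹⁻¹) ^ i = x⁻¹ * b * x⁻¹⁻¹ := by rw [inv_inv]; simpa using hi
        rw [conj_zpow] at hi'
        exact mul_left_cancel (mul_right_cancel hi')
      · rintro ⟨i, rfl⟩
        rw [← conj_zpow, inv_inv]
        exact zpow_mem hmem i
    exact (hmap a).symm

/-- The sum over `univ` of the principal block: column orthogonality at a `p`-singular element. -/
theorem column {M : Ideal AlgInt} (hM : IsPModular p M) {w : G} (hw : p ∣ orderOf w)
    {X Y : Finset (IrrCharacter G)} (hdisj : Disjoint X Y)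
    (hblock : ∀ χ, χ ∈ principalBlock M G ↔ χ ∈ X ∨ χ ∈ Y) :
    ∑ χ ∈ X, (charDegree (χ : G → ℂ) : ℂ) * (χ : G → ℂ) w +
      ∑ χ ∈ Y, (charDegree (χ : G → ℂ) : ℂ) * (χ : G → ℂ) w = 0 := by
  have hne : ¬ IsConj w 1 := fun hc => by
    rw [isConj_one_left.1 hc, orderOf_one, Nat.dvd_one] at hw
    exact h.prime.ne_one hw
  have h0 := (CharBasicOrth.sum_irr_mul_conj w 1).trans (if_neg hne)
  rw [← sum_union hdisj, sum_subset (subset_univ (X ∪ Y)) fun χ _ hχ => ?_, ← h0]
  · refine sum_congr rfl fun χ _ => ?_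
    rw [CharAverage.irr_apply_one, map_natCast, mul_comm]
  · have hd : p ∣ charDegree (χ : G → ℂ) := by
      by_contra hd
      exact hχ (mem_union.2 ((hblock χ).1 (mem_principal h hM hd)))
    rw [vanish_psing h hd hw, mul_zero]

variable [NeZero e] {ζ : ℂ}

/-- The characters of degree `p + 1`. -/
theorem exists_family (hodd : Odd e) (hζ : IsPrimitiveRoot ζ e) :
    ∃ Pos : Finset (IrrCharacter G), oneChar G ∈ Pos ∧ 2 * Pos.card = e + 1 ∧
      (∀ χ ∈ Pos, χ ≠ oneChar G → (χ : G → ℂ) 1 = p + 1) ∧ ∀ χ ∈ Pos, conjIrr χ = χ := by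
  obtain ⟨u, hD⟩ := exists_dih_odd h hodd
  obtain ⟨χ, hχ1, hχu, hχg, hχcf⟩ := exists_chi h hζ
  have hneg : ∀ {j : ZMod e}, j ≠ 0 → j ≠ -j := fun {j} hj hc =>
    hj ((ZMod.add_self_eq_zero_iff_eq_zero hodd).1 (by
      nth_rewrite 2 [hc]; rw [add_neg_cancel]))
  have hex : ∀ j : ZMod e, j ≠ 0 → ∃ ψ : IrrCharacter G, (ψ : G → ℂ) =
      (fun _ : G => (1 : ℂ)) + (χ : G → ℂ) - th ζ g j ∧ (ψ : G → ℂ) 1 = p + 1 := fun j hj => by
    obtain ⟨ψ, h1, h2, -⟩ := exists_psi h hχ1 hχcf hζ hD hj (hneg hj)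
    exact ⟨ψ, h1, h2⟩
  choose ψ hψ hψ1 using hex
  let Ψ : ZMod e → IrrCharacter G := fun j => if hj : j ≠ 0 then ψ j hj else χ
  have hΨ : ∀ j, j ≠ 0 → (Ψ j : G → ℂ) =
      (fun _ : G => (1 : ℂ)) + (χ : G → ℂ) - th ζ g j := fun j hj => by
    simp only [Ψ, dif_pos hj]; exact hψ j hj
  have hΨ1 : ∀ j, j ≠ 0 → (Ψ j : G → ℂ) 1 = p + 1 := fun j hj => by
    simp only [Ψ, dif_pos hj]; exact hψ1 j hj
  have hth : ∀ j, j ≠ 0 → th ζ g j = (fun _ : G => (1 : ℂ)) + (χ : G → ℂ) - (Ψ j : G → ℂ) :=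
    fun j hj => by rw [hΨ j hj]; abel
  have hsame : ∀ i j : ZMod e, i ≠ 0 → j ≠ 0 → (Ψ i = Ψ j ↔ i = j ∨ i = -j) := by
    intro i j hi hj
    constructor
    · intro hc
      by_contra hno
      push Not at hno
      have h1 : th ζ g j = th ζ g i := by rw [hth j hj, hth i hi, hc]
      have h2 := classInner_th_th hζ (pow_e h) h.ord_g hD hi hj
      rw [h1, classInner_th_th hζ (pow_e h) h.ord_g hD hi hi, if_pos rfl, if_neg (hneg hi),
        if_neg hno.1, if_neg hno.2] at h2
      norm_num at h2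
    · rintro (rfl | rfl)
      · rfl
      · refine Subtype.ext ?_
        rw [hΨ _ hi, hΨ _ hj]
        congr 1
        funext w
        by_cases hw : ∀ x : G, ∀ k : ZMod e, k ≠ 0 → x⁻¹ * w * x ≠ pw g k
        · rw [th_eq_zero _ hw, th_eq_zero _ hw]
        · push Not at hw
          obtain ⟨x, k, -, hx⟩ := hw
          rw [show w = x * pw g k * x⁻¹ by rw [← hx]; group, th_class, th_class,
            th_pw hζ (pow_e h) h.ord_g hD, th_pw hζ (pow_e h) h.ord_g hD, neg_mul, neg_neg]
          ring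
  set J : Finset (ZMod e) := univ.erase 0 with hJ
  have hmemJ : ∀ {j}, j ∈ J → j ≠ 0 := fun hj => ne_of_mem_erase hj
  have hp : p ≠ 1 := h.prime.ne_one
  have hone : ∀ j ∈ J, Ψ j ≠ oneChar G := fun j hj hc => by
    have h1 := hΨ1 j (hmemJ hj)
    rw [hc] at h1
    have : ((p : ℕ) : ℂ) = 0 := by
      have h2 : (1 : ℂ) = p + 1 := h1
      linear_combination -h2
    exact h.prime.ne_zero (Nat.cast_eq_zero.1 this)
  refine ⟨insert (oneChar G) (J.image Ψ), mem_insert_self _ _, ?_, ?_, ?_⟩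
  · rw [card_insert_of_notMem fun hc => by
      obtain ⟨j, hj, hc⟩ := mem_image.1 hc
      exact hone j hj hc]
    have hfib : ∀ c ∈ J.image Ψ, (J.filter fun j => Ψ j = c).card = 2 := by
      intro c hc
      obtain ⟨i, hi, rfl⟩ := mem_image.1 hc
      rw [show (J.filter fun j => Ψ j = Ψ i) = {i, -i} from ?_, card_pair (hneg (hmemJ hi))]
      ext j
      simp only [mem_filter, mem_insert, mem_singleton]
      constructor
      · rintro ⟨hj, hc⟩
        exact (hsame j i (hmemJ hj) (hmemJ hi)).1 hc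
      · intro hc
        have hj : j ≠ 0 := by
          rcases hc with rfl | rfl
          · exact hmemJ hi
          · exact neg_ne_zero.2 (hmemJ hi)
        exact ⟨mem_erase.2 ⟨hj, mem_univ _⟩, (hsame j i hj (hmemJ hi)).2 hc⟩
    have h1 := card_eq_sum_card_image Ψ J
    rw [sum_congr rfl hfib, sum_const, smul_eq_mul, show J.card = e - 1 by
      rw [hJ, card_erase_of_mem (mem_univ _), card_univ, ZMod.card]] at h1
    have := h.e_two
    omega
  · intro c hc hc1
    obtain ⟨j, hj, rfl⟩ := mem_image.1 ((mem_insert.1 hc).resolve_left hc1)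
    exact hΨ1 j (hmemJ hj)
  · intro c hc
    refine Subtype.ext (funext fun w => ?_)
    show conj ((c : G → ℂ) w) = (c : G → ℂ) w
    rcases mem_insert.1 hc with rfl | hc
    · exact map_one _
    · obtain ⟨j, hj, rfl⟩ := mem_image.1 hc
      have hχc : conjIrr χ = χ := hχu _ (by
        show conj ((χ : G → ℂ) 1) = p
        rw [hχ1, map_natCast])
      rw [hΨ j (hmemJ hj)]
      simp only [Pi.sub_apply, Pi.add_apply, map_sub, map_add, map_one,
        th_conj hζ (pow_e h) h.ord_g hD]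
      rw [show conj ((χ : G → ℂ) w) = (χ : G → ℂ) w from congrFun (congrArg Subtype.val hχc) w]

/-- For odd `e`: `p = 2 e + 1` and `G ≅ PSL (2, p)`. -/
theorem main_odd (hodd : Odd e) : 7 ≤ p ∧
    Nonempty (G ≃* Matrix.ProjectiveSpecialLinearGroup (Fin 2) (ZMod p)) := by
  haveI := Fact.mk h.prime
  obtain ⟨ζ, hζ⟩ : ∃ z : ℂ, IsPrimitiveRoot z e :=
    ⟨_, Complex.isPrimitiveRoot_exp e (NeZero.ne e)⟩
  obtain ⟨Pos, hone, hcardPos, hdegPos, hreal⟩ := exists_family h hodd hζ
  obtain ⟨M, hM⟩ := SchurBound79.exists_modular p h.prime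
  obtain ⟨P, hP⟩ := exists_sylow h
  haveI : Fintype ↥(P : Subgroup G) := Fintype.ofFinite _
  haveI : Fintype (↥(P : Subgroup G) →* ℂˣ) := Fintype.ofFinite _
  have hcardP : Nat.card P = p := by
    show Nat.card (P : Subgroup G) = p
    rw [hP, Nat.card_zpowers, h.ord_y]
  obtain ⟨X, Y, a, ε, d, δ, ζ', hS⟩ := exists_shape hM hcardP e (by rw [hP]; exact relIndex_eq h)
  obtain ⟨m, hcard, hm, hem⟩ := exists_card h
  have helt := e_lt h
  have he3 : 3 ≤ e := by
    have := h.e_two
    obtain ⟨k, hk⟩ := hodd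
    omega
  have hp5 : 5 ≤ p := by
    have h4 : p ≠ 4 := fun hc => by
      have := h.prime
      rw [hc] at this
      norm_num at this
    omega
  -- degrees of the members of the block
  have hXd : ∀ χ ∈ X, ¬ p ∣ charDegree (χ : G → ℂ) := by
    intro χ hχ hd
    have h1 := hS.congrX χ hχ
    have h2 : (p : ℤ) ∣ a χ := by
      have := (Int.modEq_iff_dvd.1 h1).add (Int.natCast_dvd_natCast.2 hd)
      simpa using this
    rcases hS.signX χ hχ with h3 | h3 <;> rw [h3] at h2
    · exact h.prime.ne_one (by exact_mod_cast Nat.dvd_one.1 (Int.natCast_dvd_natCast.1 (by simpa using h2)))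
    · exact h.prime.ne_one (by exact_mod_cast Nat.dvd_one.1 (Int.natCast_dvd_natCast.1 (by simpa using h2.neg_right)))
  have hXval : ∀ χ ∈ X, ∀ w, p ∣ orderOf w → (χ : G → ℂ) w = (a χ : ℂ) := by
    intro χ hχ w hw
    obtain ⟨c, hc, hc1⟩ := exists_psing h hw
    have h1 := hS.valX χ hχ _ (hP ▸ hc) hc1 1 (one_mem _) (by
      rw [orderOf_one, Nat.dvd_one]; exact h.prime.ne_one)
    rw [mul_one, isClassFunction_of_isCharacter (isCharacter_of_isIrrCharacter χ.2) w c] at h1
    exact h1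
  have hPosX : ∀ χ ∈ Pos, χ ∈ X ∧ a χ = 1 := by
    intro χ hχ
    by_cases h1 : χ = oneChar G
    · exact h1 ▸ ⟨hS.one_mem, hS.a_one⟩
    have hd : charDegree (χ : G → ℂ) = p + 1 := Nat.cast_injective (R := ℂ) (by
      rw [← CharAverage.irr_apply_one, hdegPos χ hχ h1]; push_cast; ring)
    have hnd : ¬ p ∣ charDegree (χ : G → ℂ) := by
      rw [hd]
      intro hc
      exact h.prime.not_dvd_one ((Nat.dvd_add_right (dvd_refl p)).1 hc)
    have hX : χ ∈ X := by
      refine ((hS.block χ).1 (mem_principal h hM hnd)).resolve_right fun hY => ?_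
      have h2 := hS.congrY χ hY
      rw [hd, Int.modEq_iff_dvd] at h2
      obtain ⟨k, hk⟩ := hodd
      have hep : e + 1 ≠ p := by
        intro hc
        obtain ⟨l, hl⟩ := h.prime.eq_two_or_odd'.resolve_left (by omega)
        omega
      rcases hS.sign with hs | hs <;> rw [hs] at h2
      · have : (p : ℤ) ∣ ((e - 1 : ℕ) : ℤ) := by
          obtain ⟨c, hc⟩ := h2
          refine ⟨c + 1, ?_⟩
          rw [Nat.cast_sub (by omega)]
          push_cast at hc ⊢
          linear_combination hc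
        have := Nat.le_of_dvd (by omega) (Int.natCast_dvd_natCast.1 this)
        omega
      · have : (p : ℤ) ∣ ((e + 1 : ℕ) : ℤ) := by
          obtain ⟨c, hc⟩ := h2
          refine ⟨-c - 1, ?_⟩
          push_cast at hc ⊢
          linear_combination -hc
        have := Nat.le_of_dvd (by omega) (Int.natCast_dvd_natCast.1 this)
        omega
    refine ⟨hX, ?_⟩
    have h2 := hS.congrX χ hX
    rw [hd, Int.modEq_iff_dvd] at h2
    rcases hS.signX χ hX with h3 | h3
    · exact h3
    · exfalso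
      rw [h3] at h2
      have h4 : (p : ℤ) ∣ ((2 : ℕ) : ℤ) := by
        obtain ⟨c, hc⟩ := h2
        refine ⟨-c - 1, ?_⟩
        push_cast at hc ⊢
        linear_combination -hc
      have := Nat.le_of_dvd (by omega) (Int.natCast_dvd_natCast.1 h4)
      omega
  -- the exceptional characters
  obtain ⟨η, hη⟩ : Y.Nonempty := card_pos.1 (Nat.pos_of_ne_zero fun hc => by
    have := hS.cardY
    rw [hc, zero_mul] at this
    omega)
  set dY := charDegree (η : G → ℂ) with hdY
  have hdegY : ∀ η' ∈ Y, charDegree (η' : G → ℂ) = dY := fun η' hη' => Nat.cast_injective (R := ℂ) (by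
    rw [← CharAverage.irr_apply_one, hdY, ← CharAverage.irr_apply_one]
    exact hS.agree η' hη' η hη 1 (by rw [orderOf_one, Nat.dvd_one]; exact h.prime.ne_one))
  have hsum : (ε : ℂ) * dY = ∑ χ ∈ X, (a χ : ℂ) * (charDegree (χ : G → ℂ) : ℂ) := by
    have := hS.regular η hη 1 (by rw [orderOf_one, Nat.dvd_one]; exact h.prime.ne_one)
    simp only [CharAverage.irr_apply_one] at this
    exact this
  have hdY0 : (dY : ℂ) ≠ 0 := by
    rw [hdY, ← CharAverage.irr_apply_one]
    exact isIrrCharacter_apply_one_ne_zero η.2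
  have hSY : ∀ w, p ∣ orderOf w → ∑ χ ∈ Y, (χ : G → ℂ) w = -(ε : ℂ) := by
    intro w hw
    have h1 := column h hM hw hS.disj hS.block
    rw [sum_congr rfl fun χ hχ => by rw [hXval χ hχ w hw, mul_comm], ← hsum,
      sum_congr rfl fun χ hχ => by rw [hdegY χ hχ], ← mul_sum, mul_comm (ε : ℂ), ← mul_add,
      mul_eq_zero] at h1
    linear_combination h1.resolve_left hdY0
  have hKm : ∀ (χ : IrrCharacter G) (w : G), ¬ p ∣ orderOf w →
      (χ : G → ℂ) w ∈ DefectOneField7.Km m := fun χ w hw => char_mem_Km χ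
    (((h.prime.coprime_iff_not_dvd.2 hw).symm).dvd_of_dvd_mul_left (hcard ▸ orderOf_dvd_natCard w))
  have hGoodX : ∀ χ ∈ X, Good m {χ} (charDegree (χ : G → ℂ)) := fun χ hχ =>
    ⟨fun χ' hχ' => by rw [mem_singleton.1 hχ', CharAverage.irr_apply_one], fun w => by
      rw [sum_singleton]
      by_cases hw : p ∣ orderOf w
      · rw [hXval χ hχ w hw]; exact intCast_mem _ _
      · exact hKm χ w hw⟩
  have hGoodY : Good m Y dY :=
    ⟨fun χ hχ => by rw [CharAverage.irr_apply_one, hdegY χ hχ], fun w => by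
      by_cases hw : p ∣ orderOf w
      · rw [hSY w hw]; exact neg_mem (intCast_mem _ _)
      · exact sum_mem fun χ _ => hKm χ w hw⟩
  have hpY : ∀ j, 0 < j → j < p → p ∣ orderOf (y ^ j) := fun j hj hjp => by
    rw [orderOf_pow, h.ord_y, Nat.Coprime.gcd_eq_one (h.prime.coprime_iff_not_dvd.2
      (Nat.not_dvd_of_pos_of_lt hj hjp)), Nat.div_one]
  -- at most `(e + 1) / 2` of them are positive
  have noExtra : ∀ (S : Finset (IrrCharacter G)) (dS : ℕ), S.Nonempty → Good m S dS →
      (∀ j, 0 < j → j < p → ∑ χ ∈ S, (χ : G → ℂ) (y ^ j) = (1 : ℕ)) →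
      (∀ χ ∈ S, χ ∉ Pos) → False := by
    intro S dS hne hgood hval hdisj
    let F : Option {x // x ∈ Pos} → Finset (IrrCharacter G) := fun i => i.elim S fun c => {c.1}
    let D : Option {x // x ∈ Pos} → ℕ := fun i => i.elim dS fun c => charDegree (c.1 : G → ℂ)
    have hle := card_le hM hcard hm hem hodd (local_norm h) F D (fun _ => 1) ?_ ?_ ?_
      (fun _ => one_pos) ?_
    · rw [Fintype.card_option, Fintype.card_coe] at hle
      omega
    · rintro (_ | c)
      · exact hgood
      · exact hGoodX _ (hPosX _ c.2).1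
    · rintro (_ | c)
      · exact hne
      · exact singleton_nonempty _
    · rintro (_ | c) j hj hjp
      · exact hval j hj hjp
      · show ∑ χ ∈ ({c.1} : Finset (IrrCharacter G)), (χ : G → ℂ) (y ^ j) = _
        rw [sum_singleton, hXval _ (hPosX _ c.2).1 _ (hpY j hj hjp), (hPosX _ c.2).2]
        simp
    · rintro (_ | c) (_ | c') hij χ hχ
      · exact absurd rfl hij
      · refine ⟨fun hc => hdisj χ hχ (mem_singleton.1 hc ▸ c'.2), fun hc => ?_⟩
        have h1 : conjIrr χ = c'.1 := mem_singleton.1 hc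
        have h2 : χ = c'.1 := by
          rw [← hreal _ c'.2, ← h1]
          exact Subtype.ext (funext fun w => (Complex.conj_conj _).symm)
        exact hdisj χ hχ (h2 ▸ c'.2)
      · rw [mem_singleton.1 hχ, hreal _ c.2]
        exact ⟨fun hc => hdisj _ hc c.2, fun hc => hdisj _ hc c.2⟩
      · rw [mem_singleton.1 hχ, hreal _ c.2]
        exact ⟨fun hc => hij (congrArg some (Subtype.ext (mem_singleton.1 hc))),
          fun hc => hij (congrArg some (Subtype.ext (mem_singleton.1 hc)))⟩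
  have hnegX : ∀ χ ∈ X, χ ∉ Pos → a χ = -1 := fun χ hχ hn =>
    (hS.signX χ hχ).resolve_left fun h1 => noExtra {χ} _ (singleton_nonempty _) (hGoodX χ hχ)
      (fun j hj hjp => by rw [sum_singleton, hXval χ hχ _ (hpY j hj hjp), h1]; simp)
      (fun χ' hχ' => mem_singleton.1 hχ' ▸ hn)
  have hε : ε = 1 := hS.sign.resolve_right fun h1 => noExtra Y dY ⟨η, hη⟩ hGoodY
    (fun j hj hjp => by rw [hSY _ (hpY j hj hjp), h1]; simp)
    (fun χ hχ hc => disjoint_left.1 hS.disj (hPosX χ hc).1 hχ)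
  have hneg : ∀ χ ∈ X \ Pos, p ≤ charDegree (χ : G → ℂ) + 1 := by
    intro χ hχ
    obtain ⟨h1, h2⟩ := mem_sdiff.1 hχ
    have h3 := hS.congrX χ h1
    rw [hnegX χ h1 h2, Int.modEq_iff_dvd] at h3
    have h4 : (p : ℤ) ∣ ((charDegree (χ : G → ℂ) + 1 : ℕ) : ℤ) := by
      obtain ⟨c, hc⟩ := h3
      refine ⟨-c, ?_⟩
      push_cast at hc ⊢
      linear_combination -hc
    exact Nat.le_of_dvd (by omega) (Int.natCast_dvd_natCast.1 h4)
  have hsub : Pos ⊆ X := fun χ hχ => (hPosX χ hχ).1
  have hsumZ : (dY : ℤ) = ∑ χ ∈ X, a χ * (charDegree (χ : G → ℂ) : ℤ) := by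
    rw [hε, Int.cast_one, one_mul] at hsum
    exact Int.cast_injective (α := ℂ) (by push_cast; exact hsum)
  rw [← sum_sdiff hsub] at hsumZ
  have hA : ∑ χ ∈ X \ Pos, a χ * (charDegree (χ : G → ℂ) : ℤ) ≤
      ∑ _χ ∈ X \ Pos, (1 - p : ℤ) := sum_le_sum fun χ hχ => by
    rw [hnegX χ (mem_sdiff.1 hχ).1 (mem_sdiff.1 hχ).2]
    have := hneg χ hχ
    omega
  have hB : ∑ χ ∈ Pos, a χ * (charDegree (χ : G → ℂ) : ℤ) =
      1 + ∑ _χ ∈ Pos.erase (oneChar G), ((p : ℤ) + 1) := by
    rw [← add_sum_erase _ _ hone]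
    congr 1
    · rw [hS.a_one, show charDegree ((oneChar G : IrrCharacter G) : G → ℂ) = 1 by
        simp [oneChar, charDegree]]
      rfl
    · refine sum_congr rfl fun χ hχ => ?_
      obtain ⟨h1, h2⟩ := mem_erase.1 hχ
      rw [(hPosX χ h2).2, one_mul, show charDegree (χ : G → ℂ) = p + 1 from
        Nat.cast_injective (R := ℂ) (by
          rw [← CharAverage.irr_apply_one, hdegPos χ h2 h1]; push_cast; ring)]
      push_cast; rfl
  rw [sum_const, nsmul_eq_mul, card_sdiff_of_subset hsub, hS.cardX] at hA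
  rw [sum_const, nsmul_eq_mul, card_erase_of_mem hone] at hB
  obtain ⟨k, hk⟩ := hodd
  have hPk : Pos.card = k + 1 := by omega
  rw [hPk, show e - (k + 1) = k by omega] at hA
  rw [hPk, Nat.add_sub_cancel] at hB
  have hdle : dY ≤ e := by
    have : (dY : ℤ) ≤ (e : ℤ) := by rw [hk]; push_cast; nlinarith
    exact_mod_cast this
  have hηne : η ≠ oneChar G := fun hc => disjoint_left.1 hS.disj hS.one_mem (hc ▸ hη)
  have hb := degree_bound h hηne
  rw [← hdY] at hb
  have hge : 2 * e + 1 ≤ p := by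
    have h1 := hS.cardY
    have h2 : 2 ≤ Y.card := by
      by_contra hc
      have h3 : Y.card = 1 := by
        have := card_pos.2 ⟨η, hη⟩
        omega
      rw [h3, one_mul] at h1
      obtain ⟨l, hl⟩ := h.prime.eq_two_or_odd'.resolve_left (by omega)
      omega
    have := Nat.mul_le_mul_right e h2
    omega
  exact ⟨by omega, psl_of_degree h hηne (by rw [← hdY]; omega)⟩

end Cfsg.Agent.UniqueDegree26
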